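import Mathlib

set_option autoImplicit false

namespace Cfsg.Agent.Lib.Helper9

open scoped Pointwise

/-- Sylow's theorem inside a subgroup `K` containing the Sylow `p`-subgroup `S` of `G`: every `p`-subgroup of `K` is
conjugate by an element of `K` into `S`. -/
theorem exists_conj_mem_sylow_of_le {G : Type*} [Group G] [Finite G] {p : ℕ} [Fact p.Prime] (S : Sylow p G)
    (K : Subgroup G) (hSK : (S : Subgroup G) ≤ K) (R : Subgroup G) (hR : IsPGroup p R) (hRK : R ≤ K) :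
    ∃ k ∈ K, ∀ x ∈ R, k * x * k⁻¹ ∈ (S : Subgroup G) := by
  have hR' : IsPGroup p (R.subgroupOf K) := hR.comap_subtype
  obtain ⟨Q, hQ⟩ := hR'.exists_le_sylow
  obtain ⟨k, hk⟩ := MulAction.exists_smul_eq K Q (S.subtype hSK)
  refine ⟨k, k.2, ?_⟩
  intro x hx
  have h1 : (⟨x, hRK hx⟩ : K) ∈ (Q : Subgroup K) := hQ (by simpa [Subgroup.mem_subgroupOf] using hx)
  have h2 : MulAut.conj k • (⟨x, hRK hx⟩ : K) ∈ MulAut.conj k • (Q : Subgroup K) :=
    Subgroup.smul_mem_pointwise_smul _ _ _ h1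
  have h3 : MulAut.conj k • (Q : Subgroup K) = ((k • Q : Sylow p K) : Subgroup K) := rfl
  rw [h3, hk] at h2
  have h4 : (MulAut.conj k • (⟨x, hRK hx⟩ : K) : K) ∈ (S : Subgroup G).subgroupOf K := h2
  rw [Subgroup.mem_subgroupOf] at h4
  simpa using h4

end Cfsg.Agent.Lib.Helper9
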