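import Mathlib
import Cfsg.Prelude.Def_FusionSystem
import Cfsg.Agent.Lib.Helper9.SylowAux

set_option autoImplicit false

namespace Cfsg.Agent.Lib.Helper9

open Cfsg Cfsg.FusionSystem

variable {G : Type*} [Group G]

theorem card_map_conj (H : Subgroup G) (g : G) :
    Nat.card (H.map (MulAut.conj g).toMonoidHom) = Nat.card H :=
  Nat.card_congr (H.equivMapOfInjective _ (MulAut.conj g).injective).symm.toEquiv

theorem mem_map_conj_iff (H : Subgroup G) (g x : G) :
    x ∈ H.map (MulAut.conj g).toMonoidHom ↔ g⁻¹ * x * g ∈ H := by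
  constructor
  · rintro ⟨y, hy, rfl⟩
    have : g⁻¹ * ((MulAut.conj g).toMonoidHom y) * g = y := by
      simp [MulAut.conj_apply]; group
    rw [this]; exact hy
  · intro h
    refine ⟨g⁻¹ * x * g, h, ?_⟩
    simp [MulAut.conj_apply]; group

theorem conj_mem_map_conj (H : Subgroup G) (g : G) {x : G} (hx : x ∈ H) :
    g * x * g⁻¹ ∈ H.map (MulAut.conj g).toMonoidHom :=
  ⟨x, hx, by simp [MulAut.conj_apply]⟩

theorem map_conj_map_conj_inv (H : Subgroup G) (g : G) :
    (H.map (MulAut.conj g).toMonoidHom).map (MulAut.conj g⁻¹).toMonoidHom = H := by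
  ext x
  rw [mem_map_conj_iff, mem_map_conj_iff]
  simp only [inv_inv]
  have : g⁻¹ * (g * x * g⁻¹) * g = x := by group
  rw [this]

theorem normalizer_map_conj (H : Subgroup G) (g : G) :
    Subgroup.normalizer ((H.map (MulAut.conj g).toMonoidHom : Subgroup G) : Set G) =
      (Subgroup.normalizer (H : Set G)).map (MulAut.conj g).toMonoidHom :=
  (Subgroup.map_equiv_normalizer_eq H (MulAut.conj g)).symm

theorem centralizer_map_conj (H : Subgroup G) (g : G) :
    Subgroup.centralizer ((H.map (MulAut.conj g).toMonoidHom : Subgroup G) : Set G) =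
      (Subgroup.centralizer (H : Set G)).map (MulAut.conj g).toMonoidHom := by
  ext x
  rw [mem_map_conj_iff, Subgroup.mem_centralizer_iff, Subgroup.mem_centralizer_iff]
  constructor
  · intro h y hy
    have h1 := h (g * y * g⁻¹) (conj_mem_map_conj H g hy)
    have h2 : y * (g⁻¹ * x * g) = g⁻¹ * (g * y * g⁻¹ * x) * g := by group
    rw [h2, h1]; group
  · intro h y hy
    have hy' : g⁻¹ * y * g ∈ H := (mem_map_conj_iff H g y).mp hy
    have h1 := h _ hy'
    have h2 : y * x = g * (g⁻¹ * y * g * (g⁻¹ * x * g)) * g⁻¹ := by group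
    rw [h2, h1]; group

/-- Conjugacy of subgroups in the fusion system of a group. -/
theorem gfs_isConj_iff (S P Q : Subgroup G) :
    (groupFusionSystem S).IsConj P Q ↔ P ≤ S ∧ Q ≤ S ∧ ∃ g : G, P.map (MulAut.conj g).toMonoidHom = Q := by
  constructor
  · rintro ⟨φ, ⟨hPS, hφS, g, hg⟩, rfl⟩
    refine ⟨hPS, ?_, g, ?_⟩
    · rintro _ ⟨x, rfl⟩; exact hφS x
    · ext y
      constructor
      · rintro ⟨x, hx, rfl⟩
        exact ⟨⟨x, hx⟩, by rw [hg]; simp [MulAut.conj_apply]⟩
      · rintro ⟨x, rfl⟩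
        exact ⟨x, x.2, by rw [hg]; simp [MulAut.conj_apply]⟩
  · rintro ⟨hPS, hQS, g, rfl⟩
    refine ⟨conjHom P g, ⟨hPS, ?_, g, fun x => rfl⟩, ?_⟩
    · intro x
      exact hQS ⟨x, x.2, by simp [conjHom, MulAut.conj_apply]⟩
    · ext y
      constructor
      · rintro ⟨x, rfl⟩
        exact ⟨x, x.2, by simp [conjHom, MulAut.conj_apply]⟩
      · rintro ⟨x, hx, rfl⟩
        exact ⟨⟨x, hx⟩, by simp [conjHom, MulAut.conj_apply]⟩

section Finite

variable [Finite G] {p : ℕ} [Fact p.Prime]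

/-- `A ≤ K` is (the image of) a Sylow `p`-subgroup of `K` iff its order is the full power of `p` in `|K|`. -/
theorem exists_sylow_eq_subgroupOf_iff {A K : Subgroup G} (hAK : A ≤ K) :
    (∃ R : Sylow p K, (R : Subgroup K) = A.subgroupOf K) ↔
      Nat.card A = p ^ (Nat.card K).factorization p := by
  have hcard : Nat.card (A.subgroupOf K) = Nat.card A :=
    Nat.card_congr (Subgroup.subgroupOfEquivOfLe hAK).toEquiv
  constructor
  · rintro ⟨R, hR⟩
    rw [← hcard, ← hR]
    exact R.card_eq_multiplicity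
  · intro h
    exact ⟨Sylow.ofCard (A.subgroupOf K) (hcard.trans h), rfl⟩

/-- A `p`-subgroup of `K` has order at most the full power of `p` in `|K|`. -/
theorem card_le_of_isPGroup_of_le {B K : Subgroup G} (hB : IsPGroup p B) (hBK : B ≤ K) :
    Nat.card B ≤ p ^ (Nat.card K).factorization p := by
  obtain ⟨n, hn⟩ := IsPGroup.iff_card.mp hB
  have hp : p.Prime := Fact.out
  have hdvd : p ^ n ∣ Nat.card K := hn ▸ Subgroup.card_dvd_of_le hBK
  have hle : n ≤ (Nat.card K).factorization p :=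
    (hp.pow_dvd_iff_le_factorization Nat.card_pos.ne').mp hdvd
  rw [hn]
  exact Nat.pow_le_pow_right hp.pos hle

/-- Every `p`-subgroup `A` of `K` lies in a `p`-subgroup `T` of `K` of full `p`-power order. -/
theorem exists_isPGroup_card_eq {A K : Subgroup G} (hA : IsPGroup p A) (hAK : A ≤ K) :
    ∃ T : Subgroup G, A ≤ T ∧ T ≤ K ∧ IsPGroup p T ∧ Nat.card T = p ^ (Nat.card K).factorization p := by
  have hA' : IsPGroup p (A.subgroupOf K) := hA.comap_subtype
  obtain ⟨R, hR⟩ := hA'.exists_le_sylow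
  refine ⟨(R : Subgroup K).map K.subtype, ?_, ?_, ?_, ?_⟩
  · intro a ha
    exact ⟨⟨a, hAK ha⟩, hR (by simpa [Subgroup.mem_subgroupOf] using ha), rfl⟩
  · rintro _ ⟨x, -, rfl⟩
    exact x.2
  · exact R.isPGroup'.map _
  · rw [← R.card_eq_multiplicity]
    exact Nat.card_congr ((R : Subgroup K).equivMapOfInjective _ K.subtype_injective).symm.toEquiv

/-- Every `p`-subgroup of `G` is conjugate into the Sylow `p`-subgroup `S`. -/
theorem exists_map_conj_le_sylow (S : Sylow p G) {R : Subgroup G} (hR : IsPGroup p R) :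
    ∃ g : G, R.map (MulAut.conj g).toMonoidHom ≤ (S : Subgroup G) := by
  obtain ⟨k, -, hk⟩ := exists_conj_mem_sylow_of_le S ⊤ le_top R hR le_top
  refine ⟨k, ?_⟩
  rintro _ ⟨x, hx, rfl⟩
  simpa [MulAut.conj_apply] using hk x hx

end Finite

end Cfsg.Agent.Lib.Helper9
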