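import Mathlib
import Cfsg.Prelude.Def_FusionSystem
import Cfsg.Agent.Lib.Helper6.PRes
import Cfsg.Agent.Lib.Helper9.GroupFusion

set_option autoImplicit false

/-! Group-theoretic lemmas for the hyperfocal subgroup theorem. -/

namespace Cfsg.Agent.Lib.Helper9

open Cfsg

variable {G : Type*} [Group G]

/-- `O^p(O^p(G)) = O^p(G)` in the weak form: `O^p(G)` is generated by its `p'`-elements. -/
theorem pResidual_pResidual_eq_top (p : ℕ) : pResidual p ↥(pResidual p G) = ⊤ := by
  have hle : pResidual p G ≤ (pResidual p ↥(pResidual p G)).map (pResidual p G).subtype := by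
    conv_lhs => unfold pResidual
    rw [Subgroup.closure_le]
    intro g hg
    have hgK : g ∈ pResidual p G := Subgroup.subset_closure hg
    refine ⟨⟨g, hgK⟩, ?_, rfl⟩
    apply Subgroup.subset_closure
    show Nat.Coprime (orderOf (⟨g, hgK⟩ : ↥(pResidual p G))) p
    rw [Subgroup.orderOf_mk]
    exact hg
  rw [eq_top_iff]
  intro x _
  obtain ⟨y, hy, hyx⟩ := hle x.2
  have : y = x := Subtype.ext hyx
  rw [← this]
  exact hy

/-- The `p'`-elements of a commutative group form a subgroup. -/
def pPrimeElements (p : ℕ) (A : Type*) [CommGroup A] : Subgroup A where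
  carrier := {a | Nat.Coprime (orderOf a) p}
  one_mem' := by
    show Nat.Coprime (orderOf (1 : A)) p
    rw [orderOf_one]
    exact Nat.coprime_one_left p
  mul_mem' := by
    intro a b ha hb
    have h1 : orderOf (a * b) ∣ orderOf a * orderOf b :=
      (Commute.all a b).orderOf_mul_dvd_lcm.trans (Nat.lcm_dvd_mul _ _)
    exact Nat.Coprime.coprime_dvd_left h1 (Nat.Coprime.mul_left ha hb)
  inv_mem' := by
    intro a ha
    show Nat.Coprime (orderOf a⁻¹) p
    rw [orderOf_inv]
    exact ha

/-- If `K = O^p(K)` then every `p`-subgroup of `K` lies in the derived subgroup. -/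
theorem isPGroup_le_commutator_of_pResidual_eq_top {K : Type*} [Group K] {p : ℕ} [Fact p.Prime]
    (h : pResidual p K = ⊤) (T : Subgroup K) (hT : IsPGroup p T) : T ≤ commutator K := by
  have hA : pPrimeElements p (Abelianization K) = ⊤ := by
    have h1 : (pResidual p K).map (Abelianization.of) ≤ pPrimeElements p (Abelianization K) := by
      unfold pResidual
      rw [MonoidHom.map_closure, Subgroup.closure_le]
      rintro _ ⟨g, hg, rfl⟩
      exact Nat.Coprime.coprime_dvd_left (orderOf_map_dvd _ g) hg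
    rw [h, ← MonoidHom.range_eq_map,
      MonoidHom.range_eq_top.mpr (QuotientGroup.mk_surjective (s := commutator K))] at h1
    exact top_le_iff.mp h1
  intro x hx
  obtain ⟨k, hk⟩ := hT ⟨x, hx⟩
  have hxk : x ^ p ^ k = 1 := congrArg Subtype.val hk
  have h2 : orderOf (Abelianization.of x) ∣ p ^ k := by
    apply orderOf_dvd_of_pow_eq_one
    rw [← map_pow, hxk, map_one]
  have h3 : Nat.Coprime (orderOf (Abelianization.of x)) p := by
    have : Abelianization.of x ∈ pPrimeElements p (Abelianization K) := by rw [hA]; trivial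
    exact this
  have h4 : orderOf (Abelianization.of x) = 1 :=
    Nat.Coprime.eq_one_of_dvd (Nat.Coprime.pow_right k h3) h2
  rw [orderOf_eq_one_iff] at h4
  rw [← Abelianization.ker_of K]
  exact h4

/-- A finite `p`-group `T` with `T = N [T, T]` for a normal subgroup `N` equals `N`. -/
theorem eq_of_sup_commutator_eq_top {T : Type*} [Group T] [Finite T] {p : ℕ} [Fact p.Prime]
    (hT : IsPGroup p T) (N : Subgroup T) [N.Normal] (h : N ⊔ commutator T = ⊤) : N = ⊤ := by
  by_contra hne
  have hQ : IsPGroup p (T ⧸ N) := hT.to_quotient N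
  haveI : Group.IsNilpotent (T ⧸ N) := hQ.isNilpotent
  haveI : Nontrivial (T ⧸ N) := by
    rw [← not_subsingleton_iff_nontrivial]
    intro hsub
    exact hne (QuotientGroup.subgroup_eq_top_of_subsingleton N hsub)
  have hlt := Group.IsSolvable.commutator_lt_top_of_nontrivial (T ⧸ N)
  apply hlt.ne
  have h1 : (commutator T).map (QuotientGroup.mk' N) = commutator (T ⧸ N) := by
    rw [commutator_def, Subgroup.map_commutator, commutator_def,
      Subgroup.map_top_of_surjective _ (QuotientGroup.mk'_surjective N)]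
  have h2 : (N ⊔ commutator T).map (QuotientGroup.mk' N) = ⊤ := by
    rw [h, Subgroup.map_top_of_surjective _ (QuotientGroup.mk'_surjective N)]
  rw [Subgroup.map_sup, h1] at h2
  have h3 : N.map (QuotientGroup.mk' N) = ⊥ := by
    rw [eq_bot_iff]
    rintro _ ⟨n, hn, rfl⟩
    rw [Subgroup.mem_bot]
    exact (QuotientGroup.eq_one_iff n).mpr hn
  rw [h3, bot_sup_eq] at h2
  exact h2

/-- Subgroup form: a finite `p`-subgroup `T` with `T ≤ N [T, T]`, where `N ≤ T` is normalized by `T`, equals `N`. -/
theorem le_of_le_sup_commutator {H : Type*} [Group H] {p : ℕ} [Fact p.Prime] (T N : Subgroup H)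
    [Finite T] (hT : IsPGroup p T) (hNT : N ≤ T) (hnorm : T ≤ Subgroup.normalizer (N : Set H))
    (h : T ≤ N ⊔ ⁅T, T⁆) : T ≤ N := by
  haveI : (N.subgroupOf T).Normal := Subgroup.normal_subgroupOf_of_le_normalizer hnorm
  have h1 : N.subgroupOf T ⊔ commutator T = ⊤ := by
    rw [eq_top_iff]
    rw [← Subgroup.map_le_map_iff_of_injective T.subtype_injective, Subgroup.map_sup,
      Subgroup.map_subtype_commutator, Subgroup.subgroupOf_map_subtype, inf_of_le_left hNT,
      ← MonoidHom.range_eq_map, Subgroup.range_subtype]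
    exact h
  have h2 := eq_of_sup_commutator_eq_top hT (N.subgroupOf T) h1
  intro x hx
  have : (⟨x, hx⟩ : T) ∈ N.subgroupOf T := by rw [h2]; trivial
  exact Subgroup.mem_subgroupOf.mp this

/-- For a normal subgroup `K`, `S ∩ K` is (the image of) a Sylow `p`-subgroup of `K`. -/
theorem exists_sylow_map_eq_inf [Finite G] {p : ℕ} [Fact p.Prime] (S : Sylow p G) (K : Subgroup G)
    [hK : K.Normal] : ∃ T : Sylow p K, (T : Subgroup K).map K.subtype = (S : Subgroup G) ⊓ K := by
  have hA : IsPGroup p (((S : Subgroup G) ⊓ K).subgroupOf K) :=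
    (S.isPGroup'.to_le inf_le_left).comap_subtype
  obtain ⟨T, hT⟩ := hA.exists_le_sylow
  refine ⟨T, ?_⟩
  have hle : (S : Subgroup G) ⊓ K ≤ (T : Subgroup K).map K.subtype := by
    intro x hx
    exact ⟨⟨x, hx.2⟩, hT (Subgroup.mem_subgroupOf.mpr hx), rfl⟩
  have hTp : IsPGroup p ((T : Subgroup K).map K.subtype) := T.isPGroup'.map _
  obtain ⟨g, hg⟩ := exists_map_conj_le_sylow S hTp
  have hgK : ((T : Subgroup K).map K.subtype).map (MulAut.conj g).toMonoidHom ≤ (S : Subgroup G) ⊓ K := by
    apply le_inf hg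
    rintro _ ⟨_, ⟨x, -, rfl⟩, rfl⟩
    exact hK.conj_mem _ x.2 g
  have hcard : Nat.card ((T : Subgroup K).map K.subtype) ≤ Nat.card ((S : Subgroup G) ⊓ K : Subgroup G) := by
    rw [← card_map_conj _ g]
    exact Subgroup.card_le_of_le hgK
  exact (Subgroup.eq_of_le_of_card_ge hle hcard).symm

end Cfsg.Agent.Lib.Helper9
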