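import Mathlib
import Cfsg.Prelude.Def_Solvable

set_option autoImplicit false

namespace Cfsg.Agent.Lib.Helper9

open Cfsg

/-- In a finite group, `O_p(G)` is a `p`-group. -/
theorem pCore_isPGroup' {G : Type*} [Group G] [Finite G] (p : ℕ) [Fact p.Prime] :
    IsPGroup p (Cfsg.pCore p G) := by
  obtain ⟨P⟩ : Nonempty (Sylow p G) := inferInstance
  have hle : Cfsg.pCore p G ≤ P := by
    apply sSup_le
    rintro N ⟨hN, hNp⟩
    haveI := hN
    exact hNp.le_sylow_of_normal P
  exact P.isPGroup'.to_le hle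

/-- `O_p(G)` is normal. -/
theorem pCore_normal' {G : Type*} [Group G] (p : ℕ) : (Cfsg.pCore p G).Normal :=
  Subgroup.sSup_normal _ (fun _ h => h.1)

/-- `O_p(G)` lies in every Sylow `p`-subgroup. -/
theorem pCore_le_sylow {G : Type*} [Group G] {p : ℕ} [Fact p.Prime] (P : Sylow p G) :
    Cfsg.pCore p G ≤ P := by
  apply sSup_le
  rintro N ⟨hN, hNp⟩
  haveI := hN
  exact hNp.le_sylow_of_normal P

/-- A normal `p`-subgroup lies in `O_p(G)`. -/
theorem le_pCore {G : Type*} [Group G] {p : ℕ} {N : Subgroup G} (hN : N.Normal) (hNp : IsPGroup p N) :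
    N ≤ Cfsg.pCore p G :=
  le_sSup ⟨hN, hNp⟩

/-- A nontrivial finite `p`-group has `p`-rank at least one, in the form used by the `k`-generated core. -/
theorem exists_elementary_of_ne_bot {G : Type*} [Group G] [Finite G] {p : ℕ} [Fact p.Prime]
    (hG : IsPGroup p G) [Nontrivial G] :
    ∃ A : Subgroup G, IsMulCommutative A ∧ (∀ a ∈ A, a ^ p = 1) ∧ 1 < Nat.card A := by
  have hp : p.Prime := Fact.out
  have hpdvd : p ∣ Nat.card G := by
    obtain ⟨n, hn⟩ := IsPGroup.iff_card.mp hG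
    have hn0 : n ≠ 0 := by
      rintro rfl
      rw [pow_zero] at hn
      have := Finite.one_lt_card_iff_nontrivial.mpr ‹Nontrivial G›
      omega
    rw [hn]
    exact dvd_pow_self p hn0
  obtain ⟨a, ha⟩ := exists_prime_orderOf_dvd_card' p hpdvd
  refine ⟨Subgroup.zpowers a, inferInstance, ?_, ?_⟩
  · rintro _ ⟨k, rfl⟩
    show (a ^ k) ^ p = 1
    rw [← zpow_natCast, ← zpow_mul, mul_comm, zpow_mul, zpow_natCast, ← ha, pow_orderOf_eq_one, one_zpow]
  · rw [Nat.card_zpowers, ha]
    exact hp.one_lt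

end Cfsg.Agent.Lib.Helper9
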