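import Mathlib
import Cfsg.Prelude

set_option autoImplicit false

/-!
# Transvection subgroups of `SL_n`: basic calculus

`tv x φ c` is the transvection `v ↦ v + c (φ ⬝ v) x` for an incident pair `φ ⬝ x = 0`
(and `1` otherwise).
-/

namespace Cfsg.Agent.H9SLRoot

open Matrix

variable {k : Type*} [Field k] {ι : Type*} [Fintype ι] [DecidableEq ι]

/-- the matrix `1 + c x φᵀ` -/
def tmat (x φ : ι → k) (c : k) : Matrix ι ι k := 1 + c • Matrix.vecMulVec x φ

theorem tmat_mulVec (x φ : ι → k) (c : k) (v : ι → k) :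
    tmat x φ c *ᵥ v = v + (c * (φ ⬝ᵥ v)) • x := by
  unfold tmat
  rw [Matrix.add_mulVec, Matrix.one_mulVec, Matrix.smul_mulVec, Matrix.vecMulVec_mulVec,
    op_smul_eq_smul, smul_smul]

theorem tmat_vecMul (x φ : ι → k) (c : k) (w : ι → k) :
    w ᵥ* tmat x φ c = w + (c * (w ⬝ᵥ x)) • φ := by
  unfold tmat
  rw [Matrix.vecMul_add, Matrix.vecMul_one, Matrix.vecMul_smul, Matrix.vecMul_vecMulVec, smul_smul]

theorem det_tmat (x φ : ι → k) (c : k) (h : φ ⬝ᵥ x = 0) : (tmat x φ c).det = 1 := by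
  unfold tmat
  rw [← Matrix.smul_vecMulVec, Matrix.vecMulVec_eq Unit,
    Matrix.det_one_add_replicateCol_mul_replicateRow, dotProduct_smul, h, smul_zero, add_zero]

open scoped Classical in
/-- the transvection as an element of `SL` -/
noncomputable def tv (x φ : ι → k) (c : k) : Matrix.SpecialLinearGroup ι k :=
  if h : φ ⬝ᵥ x = 0 then ⟨tmat x φ c, det_tmat x φ c h⟩ else 1

theorem tv_of_incident {x φ : ι → k} (h : φ ⬝ᵥ x = 0) (c : k) :
    tv x φ c = ⟨tmat x φ c, det_tmat x φ c h⟩ := by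
  unfold tv
  exact dif_pos h

theorem tv_of_not {x φ : ι → k} (h : ¬ φ ⬝ᵥ x = 0) (c : k) : tv x φ c = 1 := by
  unfold tv
  exact dif_neg h

theorem tv_coe {x φ : ι → k} (h : φ ⬝ᵥ x = 0) (c : k) :
    ((tv x φ c : Matrix.SpecialLinearGroup ι k) : Matrix ι ι k) = tmat x φ c := by
  rw [tv_of_incident h]

theorem tv_mulVec {x φ : ι → k} (h : φ ⬝ᵥ x = 0) (c : k) (v : ι → k) :
    ((tv x φ c : Matrix.SpecialLinearGroup ι k) : Matrix ι ι k) *ᵥ v = v + (c * (φ ⬝ᵥ v)) • x := by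
  rw [tv_coe h, tmat_mulVec]

theorem tv_vecMul {x φ : ι → k} (h : φ ⬝ᵥ x = 0) (c : k) (w : ι → k) :
    w ᵥ* ((tv x φ c : Matrix.SpecialLinearGroup ι k) : Matrix ι ι k) = w + (c * (w ⬝ᵥ x)) • φ := by
  rw [tv_coe h, tmat_vecMul]

theorem ext_mulVec {A B : Matrix ι ι k} (h : ∀ v, A *ᵥ v = B *ᵥ v) : A = B := by
  apply Matrix.toLin'.injective
  apply LinearMap.ext
  intro v
  rw [Matrix.toLin'_apply, Matrix.toLin'_apply]
  exact h v

theorem sl_ext {g h : Matrix.SpecialLinearGroup ι k}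
    (H : ∀ v, (g : Matrix ι ι k) *ᵥ v = (h : Matrix ι ι k) *ᵥ v) : g = h :=
  Subtype.ext (ext_mulVec H)

theorem coe_mul_mulVec (g h : Matrix.SpecialLinearGroup ι k) (v : ι → k) :
    ((g * h : Matrix.SpecialLinearGroup ι k) : Matrix ι ι k) *ᵥ v =
      (g : Matrix ι ι k) *ᵥ ((h : Matrix ι ι k) *ᵥ v) := by
  rw [Matrix.mulVec_mulVec, Matrix.SpecialLinearGroup.coe_mul]

theorem coe_one_mulVec (v : ι → k) :
    ((1 : Matrix.SpecialLinearGroup ι k) : Matrix ι ι k) *ᵥ v = v := by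
  rw [Matrix.SpecialLinearGroup.coe_one, Matrix.one_mulVec]

theorem inv_mulVec_mulVec (g : Matrix.SpecialLinearGroup ι k) (v : ι → k) :
    ((g⁻¹ : Matrix.SpecialLinearGroup ι k) : Matrix ι ι k) *ᵥ ((g : Matrix ι ι k) *ᵥ v) = v := by
  rw [← coe_mul_mulVec, inv_mul_cancel, coe_one_mulVec]

theorem mulVec_inv_mulVec (g : Matrix.SpecialLinearGroup ι k) (v : ι → k) :
    (g : Matrix ι ι k) *ᵥ (((g⁻¹ : Matrix.SpecialLinearGroup ι k) : Matrix ι ι k) *ᵥ v) = v := by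
  rw [← coe_mul_mulVec, mul_inv_cancel, coe_one_mulVec]

theorem coe_mul_vecMul (g h : Matrix.SpecialLinearGroup ι k) (w : ι → k) :
    w ᵥ* ((g * h : Matrix.SpecialLinearGroup ι k) : Matrix ι ι k) =
      (w ᵥ* (g : Matrix ι ι k)) ᵥ* (h : Matrix ι ι k) := by
  rw [Matrix.vecMul_vecMul, Matrix.SpecialLinearGroup.coe_mul]

theorem vecMul_inv_vecMul (g : Matrix.SpecialLinearGroup ι k) (w : ι → k) :
    (w ᵥ* ((g⁻¹ : Matrix.SpecialLinearGroup ι k) : Matrix ι ι k)) ᵥ* (g : Matrix ι ι k) = w := by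
  rw [← coe_mul_vecMul, inv_mul_cancel, Matrix.SpecialLinearGroup.coe_one, Matrix.vecMul_one]

theorem vecMul_vecMul_inv (g : Matrix.SpecialLinearGroup ι k) (w : ι → k) :
    (w ᵥ* (g : Matrix ι ι k)) ᵥ* ((g⁻¹ : Matrix.SpecialLinearGroup ι k) : Matrix ι ι k) = w := by
  rw [← coe_mul_vecMul, mul_inv_cancel, Matrix.SpecialLinearGroup.coe_one, Matrix.vecMul_one]

/-- `(φ g⁻¹) ⬝ (g x) = φ ⬝ x` -/
theorem dot_conj (g : Matrix.SpecialLinearGroup ι k) (x φ : ι → k) :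
    (φ ᵥ* ((g⁻¹ : Matrix.SpecialLinearGroup ι k) : Matrix ι ι k)) ⬝ᵥ ((g : Matrix ι ι k) *ᵥ x) =
      φ ⬝ᵥ x := by
  rw [← Matrix.dotProduct_mulVec, inv_mulVec_mulVec]

theorem tv_zero (x φ : ι → k) : tv x φ (0 : k) = 1 := by
  by_cases h : φ ⬝ᵥ x = 0
  · apply sl_ext
    intro v
    rw [tv_mulVec h, coe_one_mulVec, zero_mul, zero_smul, add_zero]
  · exact tv_of_not h _

theorem tv_mul (x φ : ι → k) (c d : k) : tv x φ c * tv x φ d = tv x φ (c + d) := by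
  by_cases h : φ ⬝ᵥ x = 0
  · apply sl_ext
    intro v
    rw [coe_mul_mulVec, tv_mulVec h, tv_mulVec h, tv_mulVec h, dotProduct_add, dotProduct_smul, h,
      smul_zero, add_zero]
    module
  · rw [tv_of_not h, tv_of_not h, tv_of_not h, mul_one]

theorem tv_inv (x φ : ι → k) (c : k) : (tv x φ c)⁻¹ = tv x φ (-c) := by
  rw [inv_eq_iff_mul_eq_one, tv_mul, add_neg_cancel, tv_zero]

/-- conjugation of transvections -/
theorem tv_conj (g : Matrix.SpecialLinearGroup ι k) (x φ : ι → k) (c : k) :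
    g * tv x φ c * g⁻¹ =
      tv ((g : Matrix ι ι k) *ᵥ x)
        (φ ᵥ* ((g⁻¹ : Matrix.SpecialLinearGroup ι k) : Matrix ι ι k)) c := by
  by_cases h : φ ⬝ᵥ x = 0
  · have h' := (dot_conj g x φ).trans h
    apply sl_ext
    intro v
    rw [coe_mul_mulVec, coe_mul_mulVec, tv_mulVec h, tv_mulVec h', Matrix.mulVec_add,
      mulVec_inv_mulVec, Matrix.mulVec_smul, ← Matrix.dotProduct_mulVec]
  · have h' : ¬ (φ ᵥ* ((g⁻¹ : Matrix.SpecialLinearGroup ι k) : Matrix ι ι k)) ⬝ᵥ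
        ((g : Matrix ι ι k) *ᵥ x) = 0 := by
      rw [dot_conj]; exact h
    rw [tv_of_not h, tv_of_not h', mul_one, mul_inv_cancel]

theorem tv_smul (lam mu : k) (x φ : ι → k) (c : k) :
    tv (lam • x) (mu • φ) c = tv x φ (lam * mu * c) := by
  by_cases h : φ ⬝ᵥ x = 0
  · have h' : (mu • φ) ⬝ᵥ (lam • x) = 0 := by
      rw [smul_dotProduct, dotProduct_smul, h, smul_zero, smul_zero]
    apply sl_ext
    intro v
    rw [tv_mulVec h, tv_mulVec h', smul_dotProduct, smul_smul, smul_eq_mul]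
    congr 2
    ring
  · by_cases h0 : lam * mu = 0
    · rw [h0, zero_mul, tv_zero]
      rcases mul_eq_zero.mp h0 with h1 | h1
      · rw [h1, zero_smul]
        apply sl_ext
        intro v
        rw [tv_mulVec (dotProduct_zero _), coe_one_mulVec, smul_zero, add_zero]
      · rw [h1, zero_smul]
        apply sl_ext
        intro v
        rw [tv_mulVec (zero_dotProduct _), coe_one_mulVec, zero_dotProduct, mul_zero, zero_smul,
          add_zero]
    · have h' : ¬ (mu • φ) ⬝ᵥ (lam • x) = 0 := by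
        rw [smul_dotProduct, dotProduct_smul, smul_smul, smul_eq_mul]
        intro h2
        rcases mul_eq_zero.mp h2 with h3 | h3
        · exact h0 (by rw [mul_comm]; exact h3)
        · exact h h3
      rw [tv_of_not h, tv_of_not h']

/-- commuting transvections -/
theorem tv_comm {x φ y ψ : ι → k} (hx : φ ⬝ᵥ x = 0) (hy : ψ ⬝ᵥ y = 0)
    (h1 : ψ ⬝ᵥ x = 0) (h2 : φ ⬝ᵥ y = 0) (c d : k) :
    tv x φ c * tv y ψ d = tv y ψ d * tv x φ c := by
  apply sl_ext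
  intro v
  rw [coe_mul_mulVec, coe_mul_mulVec, tv_mulVec hx, tv_mulVec hy, tv_mulVec hx, tv_mulVec hy,
    dotProduct_add, dotProduct_add, dotProduct_smul, dotProduct_smul, h1, h2]
  module

/-- the commutator relation: if `φ ⬝ y = 0` then `b a = a b t` with `t` a transvection with centre `y`
and axis `φ` -/
theorem tv_comm_rel {x φ y ψ : ι → k} (hx : φ ⬝ᵥ x = 0) (hy : ψ ⬝ᵥ y = 0) (h2 : φ ⬝ᵥ y = 0)
    (c d : k) :
    tv y ψ d * tv x φ c = tv x φ c * tv y ψ d * tv y φ (c * d * (ψ ⬝ᵥ x)) := by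
  apply sl_ext
  intro v
  rw [coe_mul_mulVec, coe_mul_mulVec, coe_mul_mulVec, tv_mulVec hx, tv_mulVec hy, tv_mulVec hx,
    tv_mulVec hy, tv_mulVec h2]
  simp only [dotProduct_add, dotProduct_smul, hx, hy, h2, smul_eq_mul]
  module

theorem comm_aux {G : Type*} [Group G] (a b t : G) (h : b * a = a * b * t) (h1 : a * t = t * a)
    (h2 : b * t = t * b) : a * b * a⁻¹ * b⁻¹ = t⁻¹ := by
  have e : a * b * t = t * (a * b) := by
    rw [mul_assoc, h2, ← mul_assoc, h1, mul_assoc]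
  have ht : t = b * a * b⁻¹ * a⁻¹ := by
    rw [h, e]; group
  rw [ht]; group

/-- the commutator of two transvections in the commutator case -/
theorem tv_commutator {x φ y ψ : ι → k} (hx : φ ⬝ᵥ x = 0) (hy : ψ ⬝ᵥ y = 0) (h2 : φ ⬝ᵥ y = 0)
    (c d : k) :
    tv x φ c * tv y ψ d * (tv x φ c)⁻¹ * (tv y ψ d)⁻¹ = tv y φ (-(c * d * (ψ ⬝ᵥ x))) := by
  rw [← tv_inv]
  exact comm_aux _ _ _ (tv_comm_rel hx hy h2 c d) (tv_comm hx h2 hx h2 _ _) (tv_comm hy h2 h2 hy _ _)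

end Cfsg.Agent.H9SLRoot
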