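import Mathlib
import Cfsg.Prelude
import Cfsg.Agent.Lib.Helper5.SSOrderU1
import Cfsg.Agent.Lib.Helper5.SUConj2

/-!
# Definitions for S2511 (spectra of `PSU_n(q)^3 × r^m`)

Matrices over the field `F` with `q^2` elements; `ct hF g` is the conjugate transpose
(`Cfsg.Agent.Lib.Helper5.Wall.ct`), `orthL q U` the orthogonal of a subspace for the standard
hermitian form (`Cfsg.Agent.Lib.Helper5.SUConj.orthL`), `dag hF f` the conjugate reciprocal
polynomial (`Cfsg.Agent.Lib.Helper5.SSOrder.dag`).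
-/

set_option autoImplicit false

namespace Cfsg.Agent.Lib.Helper9.CubeU

universe u

variable {F : Type u} [Field F]

/-- `k` is the projective order of `g`: the order of `g` modulo scalar matrices -/
def ProjOrd {n : ℕ} (g : Matrix (Fin n) (Fin n) F) (k : ℕ) : Prop :=
  ∀ j : ℕ, (∃ c : F, g ^ j = c • (1 : Matrix (Fin n) (Fin n) F)) ↔ k ∣ j

/-- the block sum of two square matrices -/
def blk {a b : ℕ} (A : Matrix (Fin a) (Fin a) F) (B : Matrix (Fin b) (Fin b) F) :
    Matrix (Fin (a + b)) (Fin (a + b)) F :=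
  Matrix.reindex finSumFinEquiv finSumFinEquiv (Matrix.fromBlocks A 0 0 B)

/-- the exceptional unipotent orders -/
def IsU (p n k : ℕ) : Prop := ∃ t, 1 ≤ t ∧ k = p ^ t ∧ p ^ (t - 1) = n - 1

/-- the order of the image in `PSU_n(q)` of the maximal cyclic torus -/
def Qn (q n : ℕ) : ℕ :=
  if Even n then (q ^ n - 1) / ((q + 1) * Nat.gcd n (q + 1))
  else (q ^ n + 1) / ((q + 1) * Nat.gcd n (q + 1))

end Cfsg.Agent.Lib.Helper9.CubeU
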