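import Mathlib
import Cfsg.Prelude.Def_LocalEven

set_option autoImplicit false

namespace Cfsg.Agent.Lib.Helper9

open Cfsg

universe u v w

/-- `A` is a section of `G`, in surjection form: some subgroup of `G` maps onto `A`. -/
def IsSectionOf (A : Type u) [Group A] (G : Type v) [Group G] : Prop :=
  ∃ (K : Subgroup G) (f : K →* A), Function.Surjective f

theorem isSectionOf_of_involves {A : Type u} [Group A] {G : Type v} [Group G] (h : Involves A G) :
    IsSectionOf A G := by
  obtain ⟨K, R, hN, ⟨e⟩⟩ := h
  exact ⟨K, e.toMonoidHom.comp (QuotientGroup.mk' (R.subgroupOf K)),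
    e.surjective.comp (QuotientGroup.mk'_surjective _)⟩

theorem involves_of_isSectionOf {A : Type u} [Group A] {G : Type v} [Group G] (h : IsSectionOf A G) :
    Involves A G := by
  obtain ⟨K, f, hf⟩ := h
  have hker : (f.ker.map K.subtype).subgroupOf K = f.ker := by
    ext x
    rw [Subgroup.mem_subgroupOf]
    constructor
    · rintro ⟨y, hy, hyx⟩
      have : y = x := Subtype.ext hyx
      rwa [← this]
    · intro hx
      exact ⟨x, hx, rfl⟩
  have hN : ((f.ker.map K.subtype).subgroupOf K).Normal := by
    rw [hker]; infer_instance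
  refine ⟨K, f.ker.map K.subtype, hN, ⟨?_⟩⟩
  exact (QuotientGroup.quotientMulEquivOfEq hker).trans (QuotientGroup.quotientKerEquivOfSurjective f hf)

theorem involves_iff_isSectionOf {A : Type u} [Group A] {G : Type v} [Group G] :
    Involves A G ↔ IsSectionOf A G :=
  ⟨isSectionOf_of_involves, involves_of_isSectionOf⟩

/-- Sections transfer along injective homomorphisms of the big group. -/
theorem IsSectionOf.of_injective {A : Type u} [Group A] {G : Type v} [Group G] {G' : Type w} [Group G']
    (h : IsSectionOf A G) (j : G →* G') (hj : Function.Injective j) : IsSectionOf A G' := by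
  obtain ⟨K, f, hf⟩ := h
  refine ⟨K.map j, f.comp (K.equivMapOfInjective j hj).symm.toMonoidHom, ?_⟩
  exact hf.comp (K.equivMapOfInjective j hj).symm.surjective

/-- A section of a subgroup is a section of the group. -/
theorem IsSectionOf.of_subgroup {A : Type u} [Group A] {G : Type v} [Group G] {M : Subgroup G}
    (h : IsSectionOf A M) : IsSectionOf A G :=
  h.of_injective M.subtype M.subtype_injective

/-- Being a section is transitive. -/
theorem IsSectionOf.trans {A : Type u} [Group A] {B : Type v} [Group B] {C : Type w} [Group C]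
    (h₁ : IsSectionOf A B) (h₂ : IsSectionOf B C) : IsSectionOf A C := by
  obtain ⟨KB, f, hf⟩ := h₁
  obtain ⟨KC, h, hh⟩ := h₂
  apply IsSectionOf.of_subgroup (M := KC)
  refine ⟨KB.comap h, f.comp (h.subgroupComap KB), ?_⟩
  intro a
  obtain ⟨b, rfl⟩ := hf a
  obtain ⟨c, hc⟩ := hh b
  refine ⟨⟨c, ?_⟩, ?_⟩
  · show h c ∈ KB
    rw [hc]; exact b.2
  · show f (h.subgroupComap KB _) = f b
    congr 1
    apply Subtype.ext
    exact hc

/-- A subgroup is a section. -/
theorem isSectionOf_subgroup {G : Type v} [Group G] (Q : Subgroup G) : IsSectionOf Q G :=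
  ⟨Q, MonoidHom.id Q, Function.surjective_id⟩

/-- An isomorphic copy is a section. -/
theorem isSectionOf_of_mulEquiv {A : Type u} [Group A] {G : Type v} [Group G] (e : G ≃* A) : IsSectionOf A G :=
  ⟨⊤, e.toMonoidHom.comp (⊤ : Subgroup G).subtype, fun a => ⟨⟨e.symm a, Subgroup.mem_top _⟩, by simp⟩⟩

/-- If a finite group `K` maps onto a `p`-group `Q`, then `Q` is a section of a Sylow `p`-subgroup of `K`. -/
theorem exists_sylow_isSectionOf {K : Type v} [Group K] [Finite K] {Q : Type u} [Group Q] {p : ℕ} [Fact p.Prime]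
    (hQ : IsPGroup p Q) (f : K →* Q) (hf : Function.Surjective f) (T : Sylow p K) :
    IsSectionOf Q (T : Subgroup K) := by
  have h1 : ((T.mapSurjective hf : Sylow p Q) : Subgroup Q) = ⊤ := by
    have hQtop : IsPGroup p (⊤ : Subgroup Q) := hQ.to_subgroup ⊤
    exact ((T.mapSurjective hf).is_maximal' hQtop le_top).symm
  rw [Sylow.coe_mapSurjective] at h1
  refine ⟨⊤, (f.comp (T : Subgroup K).subtype).comp (⊤ : Subgroup (T : Subgroup K)).subtype, ?_⟩
  intro q
  have : q ∈ (T : Subgroup K).map f := by rw [h1]; exact Subgroup.mem_top q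
  obtain ⟨t, ht, rfl⟩ := this
  exact ⟨⟨⟨t, ht⟩, Subgroup.mem_top _⟩, rfl⟩

end Cfsg.Agent.Lib.Helper9
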