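import Mathlib

/-!
# S4415 farm-out, lemma F1 (Jordan): a finite solvable group acting transitively, generated by
the conjugates of an element acting as a 3-cycle, acts on at most 4 points.
See `notes/S4415_stubs_helper2.lean.txt`.
-/

set_option autoImplicit false
open scoped Pointwise

namespace Cfsg.Agent.Lib.Helper2.Cub

/-- a block with at least two points is stabilised by an element acting as a 3-cycle -/
theorem f1_block_fixed {G : Type*} [Group G] {Λ : Type*} [MulAction G Λ] (b : G) (l1 l2 l3 : Λ)
    (hb1 : b • l1 = l2) (hb2 : b • l2 = l3) (hb3 : b • l3 = l1)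
    (hfix : ∀ l, l ≠ l1 → l ≠ l2 → l ≠ l3 → b • l = l)
    {B : Set Λ} (hB : MulAction.IsBlock G B) (hnt : B.Nontrivial) : b • B = B := by
  by_contra hne
  have hdisj : Disjoint (b • B) B := by
    have h1 := hB (g₁ := b) (g₂ := 1)
    rw [one_smul] at h1
    exact h1 hne
  have hno : ∀ x ∈ B, b • x ∉ B := fun x hx hbx =>
    Set.disjoint_left.mp hdisj (Set.smul_mem_smul_set hx) hbx
  have hin : ∀ x ∈ B, x = l1 ∨ x = l2 ∨ x = l3 := by
    intro x hx
    by_contra hcon
    push Not at hcon
    apply hno x hx
    rw [hfix x hcon.1 hcon.2.1 hcon.2.2]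
    exact hx
  obtain ⟨x, hx, y, hy, hxy⟩ := hnt
  rcases hin x hx with e1 | e1 | e1 <;> rcases hin y hy with e2 | e2 | e2
  · exact hxy (e1.trans e2.symm)
  · apply hno x hx; rw [e1, hb1, ← e2]; exact hy
  · apply hno y hy; rw [e2, hb3, ← e1]; exact hx
  · apply hno y hy; rw [e2, hb1, ← e1]; exact hx
  · exact hxy (e1.trans e2.symm)
  · apply hno x hx; rw [e1, hb2, ← e2]; exact hy
  · apply hno x hx; rw [e1, hb3, ← e2]; exact hy
  · apply hno y hy; rw [e2, hb2, ← e1]; exact hx
  · exact hxy (e1.trans e2.symm)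

/-- F1 (Jordan). A finite solvable group acting transitively, generated by the conjugates of an
element `b` acting as a 3-cycle, acts on at most 4 points. -/
theorem f1_card_le_four {G : Type*} [Group G] [Finite G] [Group.IsSolvable G]
    {Λ : Type*} [Finite Λ] [MulAction G Λ] [MulAction.IsPretransitive G Λ]
    (b : G) (hgen : Subgroup.normalClosure ({b} : Set G) = ⊤)
    (l1 l2 l3 : Λ) (h12 : l1 ≠ l2) (h23 : l2 ≠ l3) (h13 : l1 ≠ l3)
    (hb1 : b • l1 = l2) (hb2 : b • l2 = l3) (hb3 : b • l3 = l1)
    (hfix : ∀ l, l ≠ l1 → l ≠ l2 → l ≠ l3 → b • l = l) : Nat.card Λ ≤ 4 := by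
  classical
  by_contra hcard
  push Not at hcard
  have := Fintype.ofFinite Λ
  -- `G` is preprimitive on `Λ`
  have hprim : MulAction.IsPreprimitive G Λ := by
    refine { isTrivialBlock_of_isBlock := ?_ }
    intro B hB
    by_cases hs : B.Subsingleton
    · exact Or.inl hs
    · right
      have hnt : B.Nontrivial := Set.not_subsingleton_iff.mp hs
      have hle : Subgroup.normalClosure ({b} : Set G) ≤ MulAction.stabilizer G B := by
        unfold Subgroup.normalClosure
        rw [Subgroup.closure_le]
        intro c hc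
        obtain ⟨a, ha, hconj⟩ := Group.mem_conjugatesOfSet_iff.mp hc
        rw [Set.mem_singleton_iff] at ha
        rw [ha] at hconj
        obtain ⟨g, hg⟩ := isConj_iff.mp hconj
        rw [SetLike.mem_coe, MulAction.mem_stabilizer_iff, ← hg, mul_smul, mul_smul]
        have hB' : MulAction.IsBlock G (g⁻¹ • B) := hB.translate g⁻¹
        have hnt' : (g⁻¹ • B).Nontrivial := by
          rw [← Set.image_smul]
          exact hnt.image (MulAction.injective g⁻¹)
        rw [f1_block_fixed b l1 l2 l3 hb1 hb2 hb3 hfix hB' hnt', smul_inv_smul]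
      rw [hgen] at hle
      have hstab : ∀ g : G, g • B = B := fun g =>
        MulAction.mem_stabilizer_iff.mp (hle (Subgroup.mem_top g))
      obtain ⟨x, hx⟩ := hnt.nonempty
      ext y
      simp only [Set.mem_univ, iff_true]
      obtain ⟨g, hg⟩ := MulAction.exists_smul_eq G x y
      rw [← hg, ← hstab g]
      exact Set.smul_mem_smul_set hx
  -- transfer to the image in `Perm Λ`
  obtain ⟨H, hH⟩ : ∃ H : Subgroup (Equiv.Perm Λ), H = (MulAction.toPermHom G Λ).range := ⟨_, rfl⟩
  have hmemH : ∀ g : G, MulAction.toPermHom G Λ g ∈ H := fun g => by rw [hH]; exact ⟨g, rfl⟩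
  let φ : G → H := fun g => ⟨MulAction.toPermHom G Λ g, hmemH g⟩
  let f : Λ →ₑ[φ] Λ := { toFun := id, map_smul' := fun g x => rfl }
  have hprimH : MulAction.IsPreprimitive H Λ :=
    MulAction.IsPreprimitive.of_surjective (f := f) Function.surjective_id
  -- `b` acts as a 3-cycle
  have hσ : MulAction.toPermHom G Λ b = Equiv.swap l1 l3 * Equiv.swap l1 l2 := by
    ext l
    simp only [MulAction.toPermHom_apply, MulAction.toPerm_apply, Equiv.Perm.mul_apply]
    by_cases e1 : l = l1
    · rw [e1, Equiv.swap_apply_left, Equiv.swap_apply_of_ne_of_ne h12.symm h23, hb1]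
    · by_cases e2 : l = l2
      · rw [e2, Equiv.swap_apply_right, Equiv.swap_apply_left, hb2]
      · by_cases e3 : l = l3
        · rw [e3, Equiv.swap_apply_of_ne_of_ne h13.symm h23.symm, Equiv.swap_apply_right, hb3]
        · rw [Equiv.swap_apply_of_ne_of_ne e1 e2, Equiv.swap_apply_of_ne_of_ne e1 e3,
            hfix l e1 e2 e3]
  have h3 : (MulAction.toPermHom G Λ b).IsThreeCycle := by
    rw [hσ]
    exact Equiv.Perm.isThreeCycle_swap_mul_swap_same h13 h12 h23.symm
  have halt : alternatingGroup Λ ≤ H :=
    Equiv.Perm.alternatingGroup_le_of_isPreprimitive_of_isThreeCycle_mem hprimH h3 (hmemH b)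
  -- solvability
  have hsolH : Group.IsSolvable H := by
    have hsurj : Function.Surjective (MulAction.toPermHom G Λ).rangeRestrict :=
      MonoidHom.rangeRestrict_surjective _
    have := Group.isSolvable_of_surjective hsurj
    rw [hH]
    exact this
  have hsolA : Group.IsSolvable (alternatingGroup Λ) :=
    Group.isSolvable_of_isSolvable_injective (Subgroup.inclusion_injective halt)
  have hsolP : Group.IsSolvable (Equiv.Perm Λ) := by
    apply Group.isSolvable_of_ker_le_range (alternatingGroup Λ).subtype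
      (Equiv.Perm.sign : Equiv.Perm Λ →* ℤˣ)
    rw [Subgroup.range_subtype]
    exact le_of_eq rfl
  apply Equiv.Perm.not_isSolvable Λ _ hsolP
  rw [Cardinal.mk_fintype]
  have : 5 ≤ Fintype.card Λ := by
    rw [← Nat.card_eq_fintype_card]; omega
  exact_mod_cast this

end Cfsg.Agent.Lib.Helper2.Cub
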