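import Mathlib

/-!
# S4415 farm-out, lemma F2b: a subgroup of order prime to 3 normalized by an element acting as a
3-cycle on a 3-element set acts trivially.
-/

set_option autoImplicit false
open scoped Pointwise

namespace Cfsg.Agent.Lib.Helper2.Cub

/-- the 3-cycle `0 → 1 → 2 → 0` of `Fin 3` -/
def f2b_c3 : Equiv.Perm (Fin 3) := ⟨![1, 2, 0], ![2, 0, 1], by decide, by decide⟩

set_option maxRecDepth 100000 in
/-- the finite check in `Sym(3)` -/
theorem f2b_fin : ∀ σ : Equiv.Perm (Fin 3), σ ^ 2 = 1 → (σ * (f2b_c3 * σ * f2b_c3⁻¹)) ^ 2 = 1 →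
    ∀ i, σ i = i := by
  decide

/-- F2b. A subgroup of order prime to 3 normalized by an element acting as a 3-cycle on a
3-element set acts trivially. -/
theorem f2b_three {G : Type*} [Group G] {Λ : Type*} [MulAction G Λ] (R : Subgroup G) [Finite R]
    (hR : (Nat.card R).Coprime 3) (b : G) (hRb : ∀ x ∈ R, b * x * b⁻¹ ∈ R) (l1 l2 l3 : Λ)
    (hall : ∀ l : Λ, l = l1 ∨ l = l2 ∨ l = l3) (h12 : l1 ≠ l2) (h13 : l1 ≠ l3) (h23 : l2 ≠ l3)
    (hb1 : b • l1 = l2) (hb2 : b • l2 = l3) (hb3 : b • l3 = l1) (x : G) (hx : x ∈ R) :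
    ∀ l : Λ, x • l = l := by
  classical
  have hbij : Function.Bijective (![l1, l2, l3] : Fin 3 → Λ) := by
    constructor
    · intro i j hij
      fin_cases i <;> fin_cases j <;> simp at hij <;> first | rfl | (exfalso; tauto)
    · intro l
      rcases hall l with rfl | rfl | rfl
      · exact ⟨0, rfl⟩
      · exact ⟨1, rfl⟩
      · exact ⟨2, rfl⟩
  obtain ⟨E, hE⟩ : ∃ E : Fin 3 ≃ Λ, ∀ i, E i = (![l1, l2, l3] : Fin 3 → Λ) i :=
    ⟨Equiv.ofBijective _ hbij, fun i => rfl⟩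
  have hE0 : E 0 = l1 := hE 0
  have hE1 : E 1 = l2 := hE 1
  have hE2 : E 2 = l3 := hE 2
  obtain ⟨ψ, hψ⟩ : ∃ ψ : G →* Equiv.Perm (Fin 3), ∀ g i, ψ g i = E.symm (g • E i) :=
    ⟨(E.symm.permCongrHom).toMonoidHom.comp (MulAction.toPermHom G Λ), fun g i => rfl⟩
  have hψE : ∀ g i, E (ψ g i) = g • E i := by
    intro g i; rw [hψ, Equiv.apply_symm_apply]
  have hψb : ψ b = f2b_c3 := by
    ext i
    rw [hψ]
    fin_cases i
    · show ((E.symm (b • E 0) : Fin 3) : ℕ) = 1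
      rw [hE0, hb1, ← hE1, Equiv.symm_apply_apply]; rfl
    · show ((E.symm (b • E 1) : Fin 3) : ℕ) = 2
      rw [hE1, hb2, ← hE2, Equiv.symm_apply_apply]; rfl
    · show ((E.symm (b • E 2) : Fin 3) : ℕ) = 0
      rw [hE2, hb3, ← hE0, Equiv.symm_apply_apply]; rfl
  -- every element of `R` acts with order dividing 2
  have hpow : ∀ y ∈ R, (ψ y) ^ 2 = 1 := by
    intro y hyR
    have hcop : (orderOf (ψ y)).Coprime 3 := by
      have h1 : orderOf (ψ y) ∣ orderOf y := orderOf_map_dvd ψ y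
      have h2 : orderOf y ∣ Nat.card R := by
        have := orderOf_dvd_natCard (⟨y, hyR⟩ : R)
        rwa [← Subgroup.orderOf_coe] at this
      exact Nat.Coprime.coprime_dvd_left (h1.trans h2) hR
    have h6 : orderOf (ψ y) ∣ 2 * 3 := by
      have := orderOf_dvd_natCard (ψ y)
      rwa [Nat.card_eq_fintype_card, Fintype.card_perm, Fintype.card_fin] at this
    exact orderOf_dvd_iff_pow_eq_one.mp (hcop.dvd_of_dvd_mul_right h6)
  have h1 := hpow x hx
  have h2 := hpow (x * (b * x * b⁻¹)) (R.mul_mem hx (hRb x hx))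
  rw [map_mul, map_mul, map_mul, map_inv, hψb] at h2
  intro l
  have hback : x • l = E (ψ x (E.symm l)) := by
    rw [hψE, Equiv.apply_symm_apply]
  rw [hback, f2b_fin (ψ x) h1 h2, Equiv.apply_symm_apply]

end Cfsg.Agent.Lib.Helper2.Cub
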