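import Mathlib
import Cfsg.Prelude.Def_MonsterType

set_option autoImplicit false
open Cfsg
open scoped commutatorElement

namespace Cfsg.Agent.Lib.Helper9.LargeExtra

variable {G : Type*} [Group G]

/-- Elementary form of the hypotheses: `Q` is an extraspecial 2-subgroup with centre `{1,z}`,
self-centralizing in `G`, and normalized by the centralizer of `z`. -/
structure Core (Q : Subgroup G) (z : G) : Prop where
  z_ne : z ≠ 1
  z_sq : z * z = 1
  z_mem : z ∈ Q
  z_comm : ∀ q ∈ Q, q * z = z * q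
  comm_mem : ∀ q ∈ Q, ∀ r ∈ Q, q * r * q⁻¹ * r⁻¹ = 1 ∨ q * r * q⁻¹ * r⁻¹ = z
  cent : ∀ c : G, (∀ q ∈ Q, c * q = q * c) → c = 1 ∨ c = z
  norm : ∀ c : G, c * z = z * c → ∀ q ∈ Q, c * q * c⁻¹ ∈ Q
  two : IsPGroup 2 Q

theorem core_of_hyps (Q : Subgroup G) (hL1 : IsExtraspecial 2 ↥Q)
    (hL2 : Subgroup.centralizer (Q : Set G) = (Subgroup.center ↥Q).map Q.subtype)
    (hL3 : Subgroup.centralizer (((Subgroup.center ↥Q).map Q.subtype : Subgroup G) : Set G) ≤
      Subgroup.normalizer (Q : Set G)) :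
    ∃ z : G, Core Q z ∧ ∀ x, x ∈ (Subgroup.center ↥Q).map Q.subtype ↔ x = 1 ∨ x = z := by
  classical
  set Z : Subgroup G := (Subgroup.center ↥Q).map Q.subtype with hZdef
  have hZcard : Nat.card Z = 2 := by
    rw [hZdef, Subgroup.card_map_of_injective Q.subtype_injective]; exact hL1.2
  have hZQ : Z ≤ Q := Subgroup.map_subtype_le _
  obtain ⟨⟨z, hzZ⟩, hz1, hzuniq⟩ := (Nat.card_eq_two_iff' (1 : Z)).mp hZcard
  have hz1' : z ≠ 1 := fun h => hz1 (Subtype.ext h)
  have hZmem : ∀ x, x ∈ Z ↔ x = 1 ∨ x = z := by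
    intro x
    constructor
    · intro hx
      by_cases h : x = 1
      · exact Or.inl h
      · right
        have := hzuniq ⟨x, hx⟩ (fun h' => h (congrArg Subtype.val h'))
        exact congrArg Subtype.val this
    · rintro (rfl | rfl)
      · exact Z.one_mem
      · exact hzZ
  have hzQ : z ∈ Q := hZQ hzZ
  have hzcent : ∀ q ∈ Q, q * z = z * q := by
    have : z ∈ Subgroup.centralizer (Q : Set G) := by rw [hL2]; exact hzZ
    intro q hq
    exact (Subgroup.mem_centralizer_iff.mp this) q hq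
  have hzz : z * z = 1 := by
    rcases (hZmem (z * z)).mp (Z.mul_mem hzZ hzZ) with h | h
    · exact h
    · exfalso; apply hz1'
      have : z * z = z * 1 := by rw [mul_one]; exact h
      exact mul_left_cancel this
  refine ⟨z, ⟨hz1', hzz, hzQ, hzcent, ?_, ?_, ?_, hL1.1.1⟩, hZmem⟩
  · intro q hq r hr
    have h1 : ⁅(⟨q, hq⟩ : ↥Q), (⟨r, hr⟩ : ↥Q)⁆ ∈ commutator ↥Q := by
      rw [commutator_def]
      exact Subgroup.commutator_mem_commutator (Subgroup.mem_top _) (Subgroup.mem_top _)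
    rw [hL1.1.2.2] at h1
    have h2 : q * r * q⁻¹ * r⁻¹ ∈ Z := by
      refine ⟨_, h1, ?_⟩
      simp [commutatorElement_def]
    exact (hZmem _).mp h2
  · intro c hc
    have : c ∈ Subgroup.centralizer (Q : Set G) := by
      rw [Subgroup.mem_centralizer_iff]
      intro q hq
      exact (hc q hq).symm
    rw [hL2] at this
    exact (hZmem c).mp this
  · intro c hc q hq
    have hcZ : c ∈ Subgroup.centralizer (Z : Set G) := by
      rw [Subgroup.mem_centralizer_iff]
      intro x hx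
      rcases (hZmem x).mp hx with rfl | rfl
      · simp
      · exact hc.symm
    exact ((Subgroup.mem_normalizer_iff.mp (hL3 hcZ)) q).mp hq

namespace Core

variable {Q : Subgroup G} {z : G} (h : Core Q z)
include h

theorem z_inv : z⁻¹ = z := inv_eq_of_mul_eq_one_right h.z_sq

theorem conj_z {q : G} (hq : q ∈ Q) : q * z * q⁻¹ = z := by
  rw [h.z_comm q hq]; group

theorem conj_cases {a : G} (haQ : a ∈ Q) {q : G} (hq : q ∈ Q) :
    q * a * q⁻¹ = a ∨ q * a * q⁻¹ = z * a := by
  rcases h.comm_mem q hq a haQ with h1 | h1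
  · left
    calc q * a * q⁻¹ = (q * a * q⁻¹ * a⁻¹) * a := by group
      _ = a := by rw [h1, one_mul]
  · right
    calc q * a * q⁻¹ = (q * a * q⁻¹ * a⁻¹) * a := by group
      _ = z * a := by rw [h1]

theorem exists_swap {a : G} (haQ : a ∈ Q) (ha1 : a ≠ 1) (haz : a ≠ z) :
    ∃ q ∈ Q, q * a * q⁻¹ = z * a := by
  by_contra hcon
  push Not at hcon
  have : ∀ q ∈ Q, a * q = q * a := by
    intro q hq
    rcases h.conj_cases haQ hq with h1 | h1
    · calc a * q = (q * a * q⁻¹) * q := by rw [h1]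
        _ = q * a := by group
    · exact absurd h1 (hcon q hq)
  rcases h.cent a this with h1 | h1
  · exact ha1 h1
  · exact haz h1

/-- conjugating `z * a` by a swapping element gives back `a`. -/
theorem swap_za {a q : G} (hq : q ∈ Q) (hqa : q * a * q⁻¹ = z * a) :
    q * (z * a) * q⁻¹ = a := by
  calc q * (z * a) * q⁻¹ = (q * z * q⁻¹) * (q * a * q⁻¹) := by group
    _ = z * (z * a) := by rw [h.conj_z hq, hqa]
    _ = a := by rw [← mul_assoc, h.z_sq, one_mul]

theorem swap_inv {a q : G} (hq : q ∈ Q) (hqa : q * a * q⁻¹ = z * a) :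
    q⁻¹ * a * q = z * a := by
  have h1 : q⁻¹ * a * q = q⁻¹ * (q * (z * a) * q⁻¹) * q := by rw [h.swap_za hq hqa]
  rw [h1]; group

theorem swap_inv_za {a q : G} (hq : q ∈ Q) (hqa : q * a * q⁻¹ = z * a) :
    q⁻¹ * (z * a) * q = a := by
  rw [← hqa]; group

/-- coset decomposition of `Q` along `C_Q(a)`. -/
theorem coset_cases {a q0 : G} (haQ : a ∈ Q) (hq0 : q0 ∈ Q) (hq0a : q0 * a * q0⁻¹ = z * a)
    {q : G} (hq : q ∈ Q) : q * a = a * q ∨ (q0⁻¹ * q) * a = a * (q0⁻¹ * q) := by
  rcases h.conj_cases haQ hq with h1 | h1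
  · left
    calc q * a = (q * a * q⁻¹) * q := by group
      _ = a * q := by rw [h1]
  · right
    have h2 : (q0⁻¹ * q) * a * (q0⁻¹ * q)⁻¹ = a := by
      calc (q0⁻¹ * q) * a * (q0⁻¹ * q)⁻¹ = q0⁻¹ * (q * a * q⁻¹) * q0 := by group
        _ = q0⁻¹ * (z * a) * q0 := by rw [h1]
        _ = a := h.swap_inv_za hq0 hq0a
    calc (q0⁻¹ * q) * a = ((q0⁻¹ * q) * a * (q0⁻¹ * q)⁻¹) * (q0⁻¹ * q) := by group
      _ = a * (q0⁻¹ * q) := by rw [h2]

/-- An element commuting with `C_Q(a)` and with one element of `Q` outside it centralizes `Q`. -/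
theorem comm_all {a q0 x : G} (haQ : a ∈ Q) (hq0 : q0 ∈ Q) (hq0a : q0 * a * q0⁻¹ = z * a)
    (hx : ∀ r ∈ Q, r * a = a * r → x * r = r * x) (hxq : x * q0 = q0 * x) :
    ∀ q ∈ Q, x * q = q * x := by
  intro q hq
  rcases h.coset_cases haQ hq0 hq0a hq with h1 | h1
  · exact hx q hq h1
  · have h2 := hx (q0⁻¹ * q) (Q.mul_mem (Q.inv_mem hq0) hq) h1
    calc x * q = (x * q0) * (q0⁻¹ * q) := by group
      _ = q0 * (x * (q0⁻¹ * q)) := by rw [hxq, mul_assoc]
      _ = q0 * ((q0⁻¹ * q) * x) := by rw [h2]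
      _ = q * x := by group

/-- The centralizer in `G` of `C_Q(a)` is the four-group `{1, z, a, za}`. -/
theorem centralizer_R {a : G} (haQ : a ∈ Q) (ha1 : a ≠ 1) (haz : a ≠ z) (haa : a * a = 1)
    {c : G} (hc : ∀ r ∈ Q, r * a = a * r → c * r = r * c) :
    c = 1 ∨ c = z ∨ c = a ∨ c = z * a := by
  obtain ⟨q0, hq0, hq0a⟩ := h.exists_swap haQ ha1 haz
  have hq0a' := h.swap_inv hq0 hq0a
  have hza : z * a = a * z := (h.z_comm a haQ).symm
  have hcz : c * z = z * c := hc z h.z_mem hza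
  have hcQ : c * q0 * c⁻¹ ∈ Q := h.norm c hcz q0 hq0
  obtain ⟨d, hd⟩ : ∃ d, d = q0⁻¹ * (c * q0 * c⁻¹) := ⟨_, rfl⟩
  have hdQ : d ∈ Q := by rw [hd]; exact Q.mul_mem (Q.inv_mem hq0) hcQ
  have hcq0 : c * q0 * c⁻¹ = q0 * d := by rw [hd]; group
  -- d commutes with C_Q(a)
  have hdR : ∀ r ∈ Q, r * a = a * r → d * r = r * d := by
    intro r hr hra
    have hr'Q : q0 * r * q0⁻¹ ∈ Q := Q.mul_mem (Q.mul_mem hq0 hr) (Q.inv_mem hq0)
    have hrz : r * z = z * r := h.z_comm r hr
    have h1 : r * (z * a) = (z * a) * r := by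
      rw [← mul_assoc, hrz, mul_assoc, hra, mul_assoc]
    have hr'a : (q0 * r * q0⁻¹) * a = a * (q0 * r * q0⁻¹) := by
      calc (q0 * r * q0⁻¹) * a = q0 * (r * (q0⁻¹ * a * q0)) * q0⁻¹ := by group
        _ = q0 * (r * (z * a)) * q0⁻¹ := by rw [hq0a']
        _ = q0 * ((z * a) * r) * q0⁻¹ := by rw [h1]
        _ = (q0 * (z * a) * q0⁻¹) * (q0 * r * q0⁻¹) := by group
        _ = a * (q0 * r * q0⁻¹) := by rw [h.swap_za hq0 hq0a]
    have h3 := hc _ hr'Q hr'a
    have h4 := hc r hr hra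
    have h4' : c⁻¹ * r * c = r := by
      calc c⁻¹ * r * c = c⁻¹ * (r * c) := by group
        _ = c⁻¹ * (c * r) := by rw [h4]
        _ = r := by group
    have h5 : (q0 * d) * r * (q0 * d)⁻¹ = q0 * r * q0⁻¹ := by
      calc (q0 * d) * r * (q0 * d)⁻¹ = (c * q0 * c⁻¹) * r * (c * q0 * c⁻¹)⁻¹ := by rw [hcq0]
        _ = c * (q0 * (c⁻¹ * r * c) * q0⁻¹) * c⁻¹ := by group
        _ = (c * (q0 * r * q0⁻¹)) * c⁻¹ := by rw [h4']
        _ = ((q0 * r * q0⁻¹) * c) * c⁻¹ := by rw [h3]
        _ = q0 * r * q0⁻¹ := by group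
    have h6 : d * r * d⁻¹ = r := by
      calc d * r * d⁻¹ = q0⁻¹ * ((q0 * d) * r * (q0 * d)⁻¹) * q0 := by group
        _ = q0⁻¹ * (q0 * r * q0⁻¹) * q0 := by rw [h5]
        _ = r := by group
    calc d * r = (d * r * d⁻¹) * d := by group
      _ = r * d := by rw [h6]
  -- d lies in the four-group
  have hdU : d = 1 ∨ d = z ∨ d = a ∨ d = z * a := by
    by_cases hda : d * a = a * d
    · rcases h.comm_mem q0 hq0 d hdQ with h1 | h1
      · have hdq0 : d * q0 = q0 * d := by
          calc d * q0 = (q0 * d * q0⁻¹ * d⁻¹)⁻¹ * (q0 * d) := by group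
            _ = q0 * d := by rw [h1]; simp
        rcases h.cent d (h.comm_all haQ hq0 hq0a hdR hdq0) with h2 | h2
        · exact Or.inl h2
        · exact Or.inr (Or.inl h2)
      · have hq0d : q0 * d * q0⁻¹ = z * d := by
          calc q0 * d * q0⁻¹ = (q0 * d * q0⁻¹ * d⁻¹) * d := by group
            _ = z * d := by rw [h1]
        have h2 : q0 * (d * a) * q0⁻¹ = d * a := by
          calc q0 * (d * a) * q0⁻¹ = (q0 * d * q0⁻¹) * (q0 * a * q0⁻¹) := by group
            _ = (z * d) * (z * a) := by rw [hq0d, hq0a]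
            _ = (d * z) * (z * a) := by rw [h.z_comm d hdQ]
            _ = d * ((z * z) * a) := by group
            _ = d * a := by rw [h.z_sq, one_mul]
        have hda_q0 : (d * a) * q0 = q0 * (d * a) := by
          calc (d * a) * q0 = (q0 * (d * a) * q0⁻¹) * q0 := by rw [h2]
            _ = q0 * (d * a) := by group
        have hdaR : ∀ r ∈ Q, r * a = a * r → (d * a) * r = r * (d * a) := by
          intro r hr hra
          rw [mul_assoc, ← hra, ← mul_assoc, hdR r hr hra, mul_assoc]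
        rcases h.cent (d * a) (h.comm_all haQ hq0 hq0a hdaR hda_q0) with h3 | h3
        · right; right; left
          calc d = (d * a) * a := by rw [mul_assoc, haa, mul_one]
            _ = a := by rw [h3, one_mul]
        · right; right; right
          calc d = (d * a) * a := by rw [mul_assoc, haa, mul_one]
            _ = z * a := by rw [h3]
    · exfalso
      have hdswap : d * a * d⁻¹ = z * a := by
        rcases h.conj_cases haQ hdQ with h1 | h1
        · exfalso; apply hda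
          calc d * a = (d * a * d⁻¹) * d := by group
            _ = a * d := by rw [h1]
        · exact h1
      have hall : ∀ q ∈ Q, d * q = q * d := h.comm_all haQ hdQ hdswap hdR rfl
      exact hda (hall a haQ)
  -- q0² commutes with a
  have hq0sq : (q0 * q0) * a = a * (q0 * q0) := by
    have h1 : (q0 * q0) * a * (q0 * q0)⁻¹ = a := by
      calc (q0 * q0) * a * (q0 * q0)⁻¹ = q0 * (q0 * a * q0⁻¹) * q0⁻¹ := by group
        _ = q0 * (z * a) * q0⁻¹ := by rw [hq0a]
        _ = a := h.swap_za hq0 hq0a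
    calc (q0 * q0) * a = ((q0 * q0) * a * (q0 * q0)⁻¹) * (q0 * q0) := by group
      _ = a * (q0 * q0) := by rw [h1]
  have hcsq := hc (q0 * q0) (Q.mul_mem hq0 hq0) hq0sq
  have hkey : (q0⁻¹ * d * q0) * d = 1 := by
    have h1 : (q0 * d) * (q0 * d) = q0 * q0 := by
      rw [← hcq0]
      calc (c * q0 * c⁻¹) * (c * q0 * c⁻¹) = (c * (q0 * q0)) * c⁻¹ := by group
        _ = ((q0 * q0) * c) * c⁻¹ := by rw [hcsq]
        _ = q0 * q0 := by group
    calc (q0⁻¹ * d * q0) * d = q0⁻¹ * q0⁻¹ * ((q0 * d) * (q0 * d)) := by group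
      _ = q0⁻¹ * q0⁻¹ * (q0 * q0) := by rw [h1]
      _ = 1 := by group
  rcases hdU with hd1 | hd1 | hd1 | hd1
  · -- d = 1
    rw [hd1, mul_one] at hcq0
    have hcq : c * q0 = q0 * c := by
      calc c * q0 = (c * q0 * c⁻¹) * c := by group
        _ = q0 * c := by rw [hcq0]
    rcases h.cent c (h.comm_all haQ hq0 hq0a hc hcq) with h1 | h1
    · exact Or.inl h1
    · exact Or.inr (Or.inl h1)
  · -- d = z
    rw [hd1] at hcq0
    have haq0 : a * q0 * a⁻¹ = q0 * z := by
      calc a * q0 * a⁻¹ = q0 * (q0⁻¹ * a * q0) * a⁻¹ := by group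
        _ = q0 * (z * a) * a⁻¹ := by rw [hq0a']
        _ = q0 * z := by group
    have h1 : (a * c) * q0 * (a * c)⁻¹ = q0 := by
      calc (a * c) * q0 * (a * c)⁻¹ = a * (c * q0 * c⁻¹) * a⁻¹ := by group
        _ = a * (q0 * z) * a⁻¹ := by rw [hcq0]
        _ = (a * q0 * a⁻¹) * (a * z * a⁻¹) := by group
        _ = (q0 * z) * z := by rw [haq0, h.conj_z haQ]
        _ = q0 := by rw [mul_assoc, h.z_sq, mul_one]
    have hacq : (a * c) * q0 = q0 * (a * c) := by
      calc (a * c) * q0 = ((a * c) * q0 * (a * c)⁻¹) * (a * c) := by group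
        _ = q0 * (a * c) := by rw [h1]
    have hacR : ∀ r ∈ Q, r * a = a * r → (a * c) * r = r * (a * c) := by
      intro r hr hra
      rw [mul_assoc, hc r hr hra, ← mul_assoc, ← hra, mul_assoc]
    rcases h.cent (a * c) (h.comm_all haQ hq0 hq0a hacR hacq) with h2 | h2
    · right; right; left
      calc c = a * (a * c) := by rw [← mul_assoc, haa, one_mul]
        _ = a := by rw [h2, mul_one]
    · right; right; right
      calc c = a * (a * c) := by rw [← mul_assoc, haa, one_mul]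
        _ = a * z := by rw [h2]
        _ = z * a := hza.symm
  · -- d = a : impossible
    exfalso
    rw [hd1, hq0a'] at hkey
    apply h.z_ne
    calc z = (z * a) * a := by rw [mul_assoc, haa, mul_one]
      _ = 1 := hkey
  · -- d = z a : impossible
    exfalso
    rw [hd1, h.swap_inv_za hq0 hq0a] at hkey
    apply h.z_ne
    calc z = z * (a * a) := by rw [haa, mul_one]
      _ = a * (z * a) := by rw [← mul_assoc, ← mul_assoc, hza]
      _ = 1 := hkey

end Core

end Cfsg.Agent.Lib.Helper9.LargeExtra
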