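import Mathlib
import Cfsg.Agent.Lib.Helper9.LargeExtra
import Cfsg.Agent.Lib.Lead.Frattini
import Cfsg.Agent.Lib.Lead.Frattini2

set_option autoImplicit false
open Cfsg
open scoped commutatorElement

namespace Cfsg.Agent.Lib.Helper9.LargeExtra

variable {G : Type*} [Group G]

/-- Squares of elements of an extraspecial 2-subgroup lie in its centre. -/
theorem sq_cases [Finite G] (Q : Subgroup G) (hL1 : IsExtraspecial 2 ↥Q) {z : G}
    (hZmem : ∀ x, x ∈ (Subgroup.center ↥Q).map Q.subtype ↔ x = 1 ∨ x = z) :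
    ∀ x ∈ Q, x * x = 1 ∨ x * x = z := by
  intro x hx
  haveI : Fact (Nat.Prime 2) := ⟨Nat.prime_two⟩
  have h1 := Cfsg.Agent.Lib.Lead.pow_mem_frattini_of_isPGroup hL1.1.1 (⟨x, hx⟩ : ↥Q)
  rw [hL1.1.2.1] at h1
  have h2 : x * x ∈ (Subgroup.center ↥Q).map Q.subtype := by
    refine ⟨_, h1, ?_⟩
    simp [pow_two]
  exact (hZmem _).mp h2

/-- A group of type: finite 2-group with centre of order 2 containing all commutators and squares,
and nonabelian, is extraspecial. -/
theorem isExtraspecial_of_type {D : Type*} [Group D] [Finite D] (h2 : IsPGroup 2 D)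
    (hcard : Nat.card (Subgroup.center D) = 2)
    (hcomm : ∀ x y : D, ⁅x, y⁆ ∈ Subgroup.center D) (hpow : ∀ x : D, x ^ 2 ∈ Subgroup.center D)
    (hna : ∃ x y : D, ⁅x, y⁆ ≠ 1) : IsExtraspecial 2 D := by
  haveI : Fact (Nat.Prime 2) := ⟨Nat.prime_two⟩
  have hle : commutator D ≤ Subgroup.center D := by
    rw [commutator_def, Subgroup.commutator_le]
    intro x _ y _
    exact hcomm x y
  have heq : commutator D = Subgroup.center D := by
    apply Subgroup.eq_of_le_of_card_ge hle
    rw [hcard]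
    obtain ⟨x, y, hxy⟩ := hna
    have hmem : ⁅x, y⁆ ∈ commutator D := by
      rw [commutator_def]
      exact Subgroup.commutator_mem_commutator (Subgroup.mem_top _) (Subgroup.mem_top _)
    have hne : commutator D ≠ ⊥ := by
      intro hb
      rw [hb, Subgroup.mem_bot] at hmem
      exact hxy hmem
    have h1 : 1 < Nat.card (commutator D) := (Subgroup.one_lt_card_iff_ne_bot _).mpr hne
    omega
  refine ⟨⟨h2, ?_, heq⟩, hcard⟩
  apply le_antisymm
  · exact Cfsg.Agent.Lib.Lead.frattini_le_of_elementary_quotient (p := 2) _ hle hpow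
  · rw [← heq]
    exact Cfsg.Agent.Lib.Lead.commutator_le_frattini_of_isPGroup h2

/-- A nonabelian subgroup of `Q` whose centre is `{1, z}` is extraspecial. -/
theorem isExtraspecial_sub [Finite G] {Q : Subgroup G} {z : G} (h : Core Q z)
    (hsq : ∀ x ∈ Q, x * x = 1 ∨ x * x = z) (D : Subgroup G) (hDQ : D ≤ Q)
    (hcen : ∀ x ∈ D, (∀ y ∈ D, x * y = y * x) → x = 1 ∨ x = z)
    (hna : ∃ x ∈ D, ∃ y ∈ D, x * y ≠ y * x) : IsExtraspecial 2 ↥D := by
  classical
  obtain ⟨x0, hx0, y0, hy0, hxy0⟩ := hna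
  have hc0 : x0 * y0 * x0⁻¹ * y0⁻¹ = z := by
    rcases h.comm_mem x0 (hDQ hx0) y0 (hDQ hy0) with h1 | h1
    · exfalso; apply hxy0
      calc x0 * y0 = (x0 * y0 * x0⁻¹ * y0⁻¹) * (y0 * x0) := by group
        _ = y0 * x0 := by rw [h1, one_mul]
    · exact h1
  have hzD : z ∈ D := by
    rw [← hc0]
    exact D.mul_mem (D.mul_mem (D.mul_mem hx0 hy0) (D.inv_mem hx0)) (D.inv_mem hy0)
  have hcenmem : ∀ w : ↥D, w ∈ Subgroup.center ↥D ↔ (w : G) = 1 ∨ (w : G) = z := by
    intro w
    rw [Subgroup.mem_center_iff]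
    constructor
    · intro hw
      apply hcen w w.2
      intro y hy
      have := hw ⟨y, hy⟩
      exact (congrArg Subtype.val this).symm
    · rintro (h1 | h1) y
      · apply Subtype.ext
        simp [h1]
      · apply Subtype.ext
        simp only [Subgroup.coe_mul, h1]
        exact h.z_comm y (hDQ y.2)
  have hcard : Nat.card (Subgroup.center ↥D) = 2 := by
    rw [Nat.card_eq_two_iff]
    refine ⟨⟨1, Subgroup.one_mem _⟩, ⟨⟨z, hzD⟩, (hcenmem _).mpr (Or.inr rfl)⟩, ?_, ?_⟩
    · intro h1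
      apply h.z_ne
      have := congrArg (fun u : Subgroup.center ↥D => ((u : ↥D) : G)) h1
      simpa using this.symm
    · ext w
      simp only [Set.mem_insert_iff, Set.mem_singleton_iff, Set.mem_univ, iff_true]
      rcases (hcenmem w.1).mp w.2 with h1 | h1
      · left; apply Subtype.ext; apply Subtype.ext; simpa using h1
      · right; apply Subtype.ext; apply Subtype.ext; simpa using h1
  apply isExtraspecial_of_type (h.two.to_le hDQ) hcard
  · intro x y
    rw [hcenmem]
    have : ((⁅x, y⁆ : ↥D) : G) = (x : G) * y * (x : G)⁻¹ * (y : G)⁻¹ := by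
      simp [commutatorElement_def]
    rw [this]
    exact h.comm_mem x (hDQ x.2) y (hDQ y.2)
  · intro x
    rw [hcenmem]
    have : ((x ^ 2 : ↥D) : G) = (x : G) * x := by simp [pow_two]
    rw [this]
    exact hsq x (hDQ x.2)
  · refine ⟨⟨x0, hx0⟩, ⟨y0, hy0⟩, ?_⟩
    intro h1
    have h2 := congrArg Subtype.val h1
    have : ((⁅(⟨x0, hx0⟩ : ↥D), (⟨y0, hy0⟩ : ↥D)⁆ : ↥D) : G) = x0 * y0 * x0⁻¹ * y0⁻¹ := by
      simp [commutatorElement_def]
    rw [this, hc0] at h2
    exact h.z_ne h2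

end Cfsg.Agent.Lib.Helper9.LargeExtra
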