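import Mathlib

/-!
# S4415 farm-out, lemma F2 (Sym(4)): a subgroup of order prime to 3 normalized by an element
acting as a 3-cycle on a 4-element set acts through the Klein four-group.
See `notes/S4415_stubs_helper2.lean.txt`.
-/

set_option autoImplicit false
open scoped Pointwise

namespace Cfsg.Agent.Lib.Helper2.Cub

/-- the 3-cycle `0 → 1 → 2 → 0` of `Fin 4` -/
def f2_c4 : Equiv.Perm (Fin 4) := ⟨![1, 2, 0, 3], ![2, 0, 1, 3], by decide, by decide⟩

set_option maxRecDepth 100000 in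
/-- the finite check in `Sym(4)` -/
theorem f2_fin : ∀ σ : Equiv.Perm (Fin 4), (σ * (f2_c4 * σ * f2_c4⁻¹)) ^ 8 = 1 →
    ((∀ i, σ i = i) ∨ (∀ i, σ i ≠ i ∧ σ (σ i) = i)) := by
  decide

/-- F2 (Sym(4)). A subgroup of order prime to 3 normalized by an element acting as a 3-cycle on a
4-element set acts through the Klein four-group. -/
theorem f2_klein {G : Type*} [Group G] {Λ : Type*} [MulAction G Λ]
    (R : Subgroup G) [Finite R] (hR : (Nat.card R).Coprime 3) (b : G)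
    (hRb : ∀ x ∈ R, b * x * b⁻¹ ∈ R)
    (l1 l2 l3 l4 : Λ) (hall : ∀ l : Λ, l = l1 ∨ l = l2 ∨ l = l3 ∨ l = l4)
    (h12 : l1 ≠ l2) (h13 : l1 ≠ l3) (h14 : l1 ≠ l4) (h23 : l2 ≠ l3) (h24 : l2 ≠ l4) (h34 : l3 ≠ l4)
    (hb1 : b • l1 = l2) (hb2 : b • l2 = l3) (hb3 : b • l3 = l1) (hb4 : b • l4 = l4)
    (x : G) (hx : x ∈ R) :
    (∀ l : Λ, x • l = l) ∨ (∀ l : Λ, x • l ≠ l ∧ x • x • l = l) := by
  classical
  -- identify `Λ` with `Fin 4`
  have hbij : Function.Bijective (![l1, l2, l3, l4] : Fin 4 → Λ) := by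
    constructor
    · intro i j hij
      fin_cases i <;> fin_cases j <;> simp at hij <;> first | rfl | (exfalso; tauto)
    · intro l
      rcases hall l with rfl | rfl | rfl | rfl
      · exact ⟨0, rfl⟩
      · exact ⟨1, rfl⟩
      · exact ⟨2, rfl⟩
      · exact ⟨3, rfl⟩
  obtain ⟨E, hE⟩ : ∃ E : Fin 4 ≃ Λ, ∀ i, E i = (![l1, l2, l3, l4] : Fin 4 → Λ) i :=
    ⟨Equiv.ofBijective _ hbij, fun i => rfl⟩
  have hE0 : E 0 = l1 := hE 0
  have hE1 : E 1 = l2 := hE 1
  have hE2 : E 2 = l3 := hE 2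
  have hE3 : E 3 = l4 := hE 3
  obtain ⟨ψ, hψ⟩ : ∃ ψ : G →* Equiv.Perm (Fin 4), ∀ g i, ψ g i = E.symm (g • E i) :=
    ⟨(E.symm.permCongrHom).toMonoidHom.comp (MulAction.toPermHom G Λ), fun g i => rfl⟩
  have hψE : ∀ g i, E (ψ g i) = g • E i := by
    intro g i; rw [hψ, Equiv.apply_symm_apply]
  -- `b` acts as `f2_c4`
  have hψb : ψ b = f2_c4 := by
    ext i
    rw [hψ]
    fin_cases i
    · show ((E.symm (b • E 0) : Fin 4) : ℕ) = 1
      rw [hE0, hb1, ← hE1, Equiv.symm_apply_apply]; rfl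
    · show ((E.symm (b • E 1) : Fin 4) : ℕ) = 2
      rw [hE1, hb2, ← hE2, Equiv.symm_apply_apply]; rfl
    · show ((E.symm (b • E 2) : Fin 4) : ℕ) = 0
      rw [hE2, hb3, ← hE0, Equiv.symm_apply_apply]; rfl
    · show ((E.symm (b • E 3) : Fin 4) : ℕ) = 3
      rw [hE3, hb4, ← hE3, Equiv.symm_apply_apply]; rfl
  -- the element `y = x * (b x b⁻¹)` of `R` acts with order prime to 3
  obtain ⟨y, hy⟩ : ∃ y : G, y = x * (b * x * b⁻¹) := ⟨_, rfl⟩
  have hyR : y ∈ R := by rw [hy]; exact R.mul_mem hx (hRb x hx)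
  have hψy : ψ y = ψ x * (f2_c4 * ψ x * f2_c4⁻¹) := by
    rw [hy, map_mul, map_mul, map_mul, map_inv, hψb]
  have hcop : (orderOf (ψ y)).Coprime 3 := by
    have h1 : orderOf (ψ y) ∣ orderOf y := orderOf_map_dvd ψ y
    have h2 : orderOf y ∣ Nat.card R := by
      have := orderOf_dvd_natCard (⟨y, hyR⟩ : R)
      rwa [← Subgroup.orderOf_coe] at this
    exact Nat.Coprime.coprime_dvd_left (h1.trans h2) hR
  have h8 : (ψ y) ^ 8 = 1 := by
    have h24 : orderOf (ψ y) ∣ 8 * 3 := by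
      have := orderOf_dvd_natCard (ψ y)
      rwa [Nat.card_eq_fintype_card, Fintype.card_perm, Fintype.card_fin] at this
    exact orderOf_dvd_iff_pow_eq_one.mp (hcop.dvd_of_dvd_mul_right h24)
  rw [hψy] at h8
  have hback : ∀ l : Λ, x • l = E (ψ x (E.symm l)) := by
    intro l; rw [hψE, Equiv.apply_symm_apply]
  rcases f2_fin (ψ x) h8 with h | h
  · left
    intro l
    rw [hback, h, Equiv.apply_symm_apply]
  · right
    intro l
    constructor
    · intro hl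
      apply (h (E.symm l)).1
      apply E.injective
      rw [← hback, hl, Equiv.apply_symm_apply]
    · rw [hback l, ← hψE, (h (E.symm l)).2, Equiv.apply_symm_apply]

end Cfsg.Agent.Lib.Helper2.Cub
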