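import Mathlib
import Cfsg.Prelude.Def_Transfer
import Cfsg.Agent.Lib.Helper6.Extra2

/-!
# S4415 farm-out, lemma F5 (alternative copy; the canonical `f5_eight` is in `Lib/Helper1/CubF5.lean`): an extraspecial 2-group of order at least 128 contains an elementary
abelian subgroup `⟨u1, u2, z⟩` of order 8 with large centralizer, and elements `t1`, `t2`
realising the two "dual" characters.  See `notes/S4415_stubs_helper2.lean.txt`.
-/

set_option autoImplicit false
open Cfsg
open scoped Pointwise commutatorElement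

namespace Cfsg.Agent.Lib.Helper2.Cub

section
variable {T : Type*} [Group T]

/-- a finset of elements of a finite subgroup has at most as many elements as the subgroup -/
theorem f5_card_le [Finite T] [DecidableEq T] (S : Finset T) (H : Subgroup T)
    (hS : ∀ s ∈ S, s ∈ H) : S.card ≤ Nat.card H := by
  have h1 : ((S : Set T)).ncard ≤ ((H : Set T)).ncard :=
    Set.ncard_le_ncard (fun s hs => hS s (Finset.mem_coe.mp hs)) (Set.toFinite _)
  rw [Set.ncard_coe_finset] at h1
  rw [← Nat.card_coe_set_eq] at h1
  exact h1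

/-- a finite subgroup with more elements than a finset has an element outside it -/
theorem f5_exists_notMem [Finite T] [DecidableEq T] (H : Subgroup T) (S : Finset T)
    (h : S.card < Nat.card H) : ∃ y ∈ H, y ∉ S := by
  by_contra hcon
  push Not at hcon
  have h1 : ((H : Set T)).ncard ≤ ((S : Set T)).ncard :=
    Set.ncard_le_ncard (fun y hy => Finset.mem_coe.mpr (hcon y hy)) (Set.toFinite _)
  rw [Set.ncard_coe_finset, ← Nat.card_coe_set_eq] at h1
  have h2 : Nat.card ↥H = Nat.card ↥(H : Set T) := rfl
  omega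

theorem f5_sq_mul {x y : T} (h : x * y = y * x) : (x * y) * (x * y) = (x * x) * (y * y) := by
  calc (x * y) * (x * y) = x * (y * x) * y := by group
    _ = x * (x * y) * y := by rw [h]
    _ = (x * x) * (y * y) := by group

end

section
variable {T : Type*} [Group T] [Finite T]
  (hcomm : ∀ x y : T, ⁅x, y⁆ ∈ Subgroup.center T)
  (hsq : ∀ x : T, x ^ 2 ∈ Subgroup.center T)
  (hZ : Nat.card (Subgroup.center T) = 2)
  (z : T) (hz : z ∈ Subgroup.center T) (hz1 : z ≠ 1)

include hZ hz hz1 in
theorem f5_center_cases (c : T) (hc : c ∈ Subgroup.center T) : c = 1 ∨ c = z := by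
  classical
  by_contra hcon
  push Not at hcon
  have h3 : ({1, z, c} : Finset T).card = 3 := by
    rw [Finset.card_insert_of_notMem, Finset.card_insert_of_notMem, Finset.card_singleton]
    · simp only [Finset.mem_singleton]; exact fun h => hcon.2 h.symm
    · simp only [Finset.mem_insert, Finset.mem_singleton]
      rintro (h | h)
      · exact hz1 h.symm
      · exact hcon.1 h.symm
  have hle := f5_card_le ({1, z, c} : Finset T) (Subgroup.center T) (by
    intro s hs
    simp only [Finset.mem_insert, Finset.mem_singleton] at hs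
    rcases hs with rfl | rfl | rfl
    · exact Subgroup.one_mem _
    · exact hz
    · exact hc)
  omega

include hZ hz hz1 in
theorem f5_zz : z * z = 1 := by
  rcases f5_center_cases hZ z hz hz1 (z * z) (Subgroup.mul_mem _ hz hz) with h | h
  · exact h
  · exfalso
    apply hz1
    calc z = z⁻¹ * (z * z) := by group
      _ = z⁻¹ * z := by rw [h]
      _ = 1 := by group

omit [Finite T] in
include hz in
theorem f5_zc (t : T) : z * t = t * z := ((Subgroup.mem_center_iff.mp hz) t).symm

include hsq hZ hz hz1 in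
theorem f5_sq_cases (x : T) : x * x = 1 ∨ x * x = z := by
  have := f5_center_cases hZ z hz hz1 (x * x) (by rw [← pow_two]; exact hsq x)
  exact this

include hcomm hZ hz hz1 in
theorem f5_conj {t u : T} (h : t * u ≠ u * t) : t * u * t⁻¹ = u * z := by
  have h1 : ⁅t, u⁆ ∈ Subgroup.center T := hcomm t u
  rw [commutatorElement_def] at h1
  rcases f5_center_cases hZ z hz hz1 _ h1 with h2 | h2
  · exfalso
    apply h
    calc t * u = (t * u * t⁻¹ * u⁻¹) * u * t := by group
      _ = u * t := by rw [h2, one_mul]
  · calc t * u * t⁻¹ = (t * u * t⁻¹ * u⁻¹) * u := by group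
      _ = z * u := by rw [h2]
      _ = u * z := f5_zc z hz u

include hcomm hZ in
theorem f5_card_centralizer {u : T} (hu : u ∉ Subgroup.center T) :
    2 * Nat.card (Subgroup.centralizer ({u} : Set T)) = Nat.card T := by
  have h := Cfsg.Agent.Lib.Helper6.two_mul_card_inf_centralizer hcomm hZ ⊤ u (by
    rw [Subgroup.coe_top, Subgroup.centralizer_univ]; exact hu)
  rw [top_inf_eq, Subgroup.card_top] at h
  exact h

include hcomm hZ in
theorem f5_half (H : Subgroup T) (g : T) :
    Nat.card H ≤ 2 * Nat.card ↥(H ⊓ Subgroup.centralizer ({g} : Set T)) := by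
  by_cases hg : g ∈ Subgroup.centralizer (H : Set T)
  · have hle : H ≤ Subgroup.centralizer ({g} : Set T) := by
      intro h hh
      rw [Subgroup.mem_centralizer_singleton_iff]
      exact Subgroup.mem_centralizer_iff.mp hg h hh
    rw [inf_eq_left.mpr hle]
    omega
  · rw [Cfsg.Agent.Lib.Helper6.two_mul_card_inf_centralizer hcomm hZ H g hg]

include hcomm hsq hZ hz hz1 in
/-- the general involution finder -/
theorem f5_invol [DecidableEq T] (H : Subgroup T) (W : Finset T)
    (hW : ∀ w ∈ W, w * z ∈ W) (hcard : 4 * W.card < Nat.card H) :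
    ∃ u ∈ H, u * u = 1 ∧ u ∉ W := by
  have hzz := f5_zz hZ z hz hz1
  obtain ⟨x, hxH, hxW⟩ := f5_exists_notMem H W (by omega)
  rcases f5_sq_cases hsq hZ z hz hz1 x with hxx | hxx
  · exact ⟨x, hxH, hxx, hxW⟩
  · have hhalf := f5_half hcomm hZ H x
    have hcU : (W ∪ W.image (fun w => x * w)).card ≤ 2 * W.card := by
      calc (W ∪ W.image (fun w => x * w)).card ≤ W.card + (W.image (fun w => x * w)).card :=
            Finset.card_union_le _ _
        _ ≤ W.card + W.card := Nat.add_le_add_left Finset.card_image_le _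
        _ = 2 * W.card := by ring
    obtain ⟨y, hyH, hyW⟩ := f5_exists_notMem (H ⊓ Subgroup.centralizer ({x} : Set T))
      (W ∪ W.image (fun w => x * w)) (by omega)
    have hyH' : y ∈ H := (Subgroup.mem_inf.mp hyH).1
    have hyx : y * x = x * y := Subgroup.mem_centralizer_singleton_iff.mp (Subgroup.mem_inf.mp hyH).2
    rw [Finset.mem_union, not_or] at hyW
    rcases f5_sq_cases hsq hZ z hz hz1 y with hyy | hyy
    · exact ⟨y, hyH', hyy, hyW.1⟩
    · refine ⟨x * y, H.mul_mem hxH hyH', ?_, ?_⟩
      · rw [f5_sq_mul hyx.symm, hxx, hyy, hzz]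
      · intro hw
        apply hyW.2
        rw [Finset.mem_image]
        refine ⟨(x * y) * z, hW _ hw, ?_⟩
        calc x * ((x * y) * z) = (x * x) * y * z := by group
          _ = z * y * z := by rw [hxx]
          _ = y * z * z := by rw [f5_zc z hz y]
          _ = y := by rw [mul_assoc, hzz, mul_one]

include hcomm hZ hz hz1 in
/-- an element centralising `w` but not `u` -/
theorem f5_exists_t {u w : T} (hu : u ∉ Subgroup.center T) (hw : w ∉ Subgroup.center T)
    (huw : u * w ∉ Subgroup.center T) : ∃ t : T, t * w = w * t ∧ t * u ≠ u * t := by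
  by_contra hcon
  push Not at hcon
  have hzz := f5_zz hZ z hz hz1
  have hcu := f5_card_centralizer hcomm hZ hu
  have hcw := f5_card_centralizer hcomm hZ hw
  have hcv := f5_card_centralizer hcomm hZ huw
  have hle : Subgroup.centralizer ({w} : Set T) ≤ Subgroup.centralizer ({u} : Set T) := by
    intro t ht
    rw [Subgroup.mem_centralizer_singleton_iff] at ht ⊢
    exact hcon t ht
  have heq : Subgroup.centralizer ({w} : Set T) = Subgroup.centralizer ({u} : Set T) :=
    Subgroup.eq_of_le_of_card_ge hle (by omega)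
  have hle2 : Subgroup.centralizer ({u} : Set T) ≤ Subgroup.centralizer ({u * w} : Set T) := by
    intro t ht
    have ht' : t ∈ Subgroup.centralizer ({w} : Set T) := by rw [heq]; exact ht
    rw [Subgroup.mem_centralizer_singleton_iff] at ht ht' ⊢
    calc t * (u * w) = (t * u) * w := by group
      _ = u * (t * w) := by rw [ht]; group
      _ = u * w * t := by rw [ht']; group
  have heq2 : Subgroup.centralizer ({u} : Set T) = Subgroup.centralizer ({u * w} : Set T) :=
    Subgroup.eq_of_le_of_card_ge hle2 (by omega)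
  obtain ⟨g, hg⟩ : ∃ g : T, g * u ≠ u * g := by
    by_contra hall
    push Not at hall
    exact hu (Subgroup.mem_center_iff.mpr hall)
  have hgw : g * w ≠ w * g := by
    intro h
    apply hg
    have : g ∈ Subgroup.centralizer ({u} : Set T) := by
      rw [← heq, Subgroup.mem_centralizer_singleton_iff]; exact h
    exact Subgroup.mem_centralizer_singleton_iff.mp this
  have h1 := f5_conj hcomm hZ z hz hz1 hg
  have h2 := f5_conj hcomm hZ z hz hz1 hgw
  apply hg
  have : g ∈ Subgroup.centralizer ({u} : Set T) := by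
    rw [heq2, Subgroup.mem_centralizer_singleton_iff]
    have h3 : g * (u * w) * g⁻¹ = u * w := by
      calc g * (u * w) * g⁻¹ = (g * u * g⁻¹) * (g * w * g⁻¹) := by group
        _ = (u * z) * (w * z) := by rw [h1, h2]
        _ = u * (z * w) * z := by group
        _ = u * (w * z) * z := by rw [f5_zc z hz w]
        _ = u * w * (z * z) := by group
        _ = u * w := by rw [hzz, mul_one]
    calc g * (u * w) = (g * (u * w) * g⁻¹) * g := by group
      _ = u * w * g := by rw [h3]
  exact Subgroup.mem_centralizer_singleton_iff.mp this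

end

/-- F5. An extraspecial 2-group of order at least 128 contains an elementary abelian subgroup
`⟨u1, u2, z⟩` of order 8 with large centralizer, and elements `t1`, `t2` realising the two "dual"
characters. -/
theorem f5_eight_alt {T : Type*} [Group T] [Finite T] (hT : IsExtraspecial 2 T)
    (hcard : 128 ≤ Nat.card T) (z : T) (hz : z ∈ Subgroup.center T) (hz1 : z ≠ 1) :
    ∃ u1 u2 t1 t2 : T, u1 * u1 = 1 ∧ u2 * u2 = 1 ∧ u1 * u2 = u2 * u1 ∧ u1 ≠ 1 ∧ u1 ≠ z ∧
      u2 ≠ 1 ∧ u2 ≠ z ∧ u2 ≠ u1 ∧ u2 ≠ u1 * z ∧
      t1 * u1 * t1⁻¹ = u1 * z ∧ t1 * u2 * t1⁻¹ = u2 ∧ t2 * u1 * t2⁻¹ = u1 ∧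
      t2 * u2 * t2⁻¹ = u2 * z ∧
      32 ≤ Nat.card (Subgroup.centralizer ({u1, u2} : Set T)) := by
  classical
  obtain ⟨hcomm, hsq, hZ⟩ := Cfsg.Agent.Lib.Helper6.extraspecial_two_facts hT
  have hzz := f5_zz hZ z hz hz1
  have hzc := f5_zc z hz
  have hcen : ∀ c ∈ Subgroup.center T, c = 1 ∨ c = z := f5_center_cases hZ z hz hz1
  -- first involution
  obtain ⟨u1, -, hu1, hu1W⟩ := f5_invol hcomm hsq hZ z hz hz1 ⊤ ({1, z} : Finset T) (by
      intro w hw
      simp only [Finset.mem_insert, Finset.mem_singleton] at hw ⊢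
      rcases hw with rfl | rfl
      · right; rw [one_mul]
      · left; exact hzz) (by
      rw [Subgroup.card_top]
      have : ({1, z} : Finset T).card ≤ 2 := Finset.card_le_two
      omega)
  simp only [Finset.mem_insert, Finset.mem_singleton, not_or] at hu1W
  obtain ⟨hu1_1, hu1_z⟩ := hu1W
  have hu1Z : u1 ∉ Subgroup.center T := fun h => by
    rcases hcen u1 h with h | h
    · exact hu1_1 h
    · exact hu1_z h
  have hc1 := f5_card_centralizer hcomm hZ hu1Z
  -- second involution
  obtain ⟨u2, hu2C, hu2, hu2W⟩ := f5_invol hcomm hsq hZ z hz hz1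
    (Subgroup.centralizer ({u1} : Set T)) ({1, u1, z, u1 * z} : Finset T) (by
      intro w hw
      simp only [Finset.mem_insert, Finset.mem_singleton] at hw ⊢
      rcases hw with rfl | rfl | rfl | rfl
      · right; right; left; rw [one_mul]
      · right; right; right; rfl
      · left; exact hzz
      · right; left; rw [mul_assoc, hzz, mul_one]) (by
      have : ({1, u1, z, u1 * z} : Finset T).card ≤ 4 := Finset.card_le_four
      omega)
  simp only [Finset.mem_insert, Finset.mem_singleton, not_or] at hu2W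
  obtain ⟨hu2_1, hu2_u1, hu2_z, hu2_u1z⟩ := hu2W
  have hu21 : u2 * u1 = u1 * u2 := Subgroup.mem_centralizer_singleton_iff.mp hu2C
  have hu2Z : u2 ∉ Subgroup.center T := fun h => by
    rcases hcen u2 h with h | h
    · exact hu2_1 h
    · exact hu2_z h
  have hu1inv : u1⁻¹ = u1 := inv_eq_of_mul_eq_one_right hu1
  have hvZ : u1 * u2 ∉ Subgroup.center T := fun h => by
    rcases hcen _ h with h | h
    · apply hu2_u1
      calc u2 = u1⁻¹ * (u1 * u2) := by group
        _ = u1 := by rw [h, mul_one, hu1inv]
    · apply hu2_u1z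
      calc u2 = u1⁻¹ * (u1 * u2) := by group
        _ = u1 * z := by rw [h, hu1inv]
  have hvZ' : u2 * u1 ∉ Subgroup.center T := by rw [hu21]; exact hvZ
  obtain ⟨t1, ht1a, ht1b⟩ := f5_exists_t hcomm hZ z hz hz1 hu1Z hu2Z hvZ
  obtain ⟨t2, ht2a, ht2b⟩ := f5_exists_t hcomm hZ z hz hz1 hu2Z hu1Z hvZ'
  refine ⟨u1, u2, t1, t2, hu1, hu2, hu21.symm, hu1_1, hu1_z, hu2_1, hu2_z, hu2_u1, hu2_u1z,
    f5_conj hcomm hZ z hz hz1 ht1b, ?_, ?_, f5_conj hcomm hZ z hz hz1 ht2b, ?_⟩
  · rw [ht1a]; group
  · rw [ht2a]; group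
  · have hhalf := f5_half hcomm hZ (Subgroup.centralizer ({u1} : Set T)) u2
    have hle : Subgroup.centralizer ({u1} : Set T) ⊓ Subgroup.centralizer ({u2} : Set T) ≤
        Subgroup.centralizer ({u1, u2} : Set T) := by
      intro t ht
      obtain ⟨h1, h2⟩ := Subgroup.mem_inf.mp ht
      rw [Subgroup.mem_centralizer_singleton_iff] at h1 h2
      rw [Subgroup.mem_centralizer_iff]
      intro h hh
      rcases hh with rfl | rfl
      · exact h1.symm
      · exact h2.symm
    have := Subgroup.card_le_of_le hle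
    omega

end Cfsg.Agent.Lib.Helper2.Cub
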