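import Mathlib
import Cfsg.Agent.Lib.Helper2.CubD0
import Cfsg.Agent.Lib.Helper9.CubF5
import Cfsg.Agent.Lib.Helper9.LargeExtra5

/-!
# S4415 farm-out, lemmas PC2 and PC3 (cores, taking the conclusion of PC1 as a hypothesis)
-/

set_option autoImplicit false
open Cfsg
open scoped commutatorElement

namespace Cfsg.Agent.Lib.Helper2.Cub

variable {G : Type*} [Group G] {W : Type*} [AddCommGroup W] [Module (ZMod 3) W]
variable [Finite G] [Finite W] {ρ : Representation (ZMod 3) G W} {R Q : Subgroup G} {b : G}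

/-- A non-trivial normal subgroup of `G` inside `R` contains a non-trivial central element
(given PC1). -/
theorem Setup.pc23_exists_central (h : Setup ρ R Q b)
    (hPC1 : ∀ A : Subgroup G, A.Normal → (∀ x ∈ A, ∀ y ∈ A, x * y = y * x) → A ≤ R →
      ∀ a ∈ A, ∀ g : G, a * g = g * a)
    (N : Subgroup G) (hN : N.Normal) (hNR : N ≤ R) (hne : N ≠ ⊥) :
    ∃ c ∈ N, c ≠ 1 ∧ ∀ g : G, c * g = g * c := by
  classical
  have hsolv : ∃ n : ℕ, N ⊓ derivedSeries G n = ⊥ := by
    obtain ⟨n, hn⟩ := h.solv.solvable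
    exact ⟨n, by rw [hn, inf_bot_eq]⟩
  have hspec := Nat.find_spec hsolv
  rcases hk : Nat.find hsolv with _ | j
  · exfalso
    rw [hk, derivedSeries_zero, inf_top_eq] at hspec
    exact hne hspec
  · rw [hk] at hspec
    have hj : ¬ (N ⊓ derivedSeries G j = ⊥) := Nat.find_min hsolv (by rw [hk]; exact Nat.lt_succ_self j)
    have : (derivedSeries G j).Normal := derivedSeries_normal G j
    have hAn : (N ⊓ derivedSeries G j).Normal := Subgroup.normal_inf_normal N (derivedSeries G j)
    have hab : ∀ x ∈ N ⊓ derivedSeries G j, ∀ y ∈ N ⊓ derivedSeries G j, x * y = y * x := by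
      intro x hx y hy
      have h1 : ⁅x, y⁆ ∈ N ⊓ derivedSeries G (j + 1) := by
        refine ⟨?_, ?_⟩
        · rw [commutatorElement_def]
          exact N.mul_mem (N.mul_mem (N.mul_mem hx.1 hy.1) (N.inv_mem hx.1)) (N.inv_mem hy.1)
        · rw [derivedSeries_succ]
          exact Subgroup.commutator_mem_commutator hx.2 hy.2
      rw [hspec, Subgroup.mem_bot] at h1
      exact commutatorElement_eq_one_iff_mul_comm.mp h1
    have hcen := hPC1 _ hAn hab (inf_le_left.trans hNR)
    obtain ⟨c, hc, hc1⟩ := (Subgroup.bot_or_exists_ne_one _).resolve_left hj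
    exact ⟨c, hc.1, hc1, hcen c hc⟩

/-- A central element other than `1` acts as `-1`. -/
theorem Setup.pc23_central_neg (h : Setup ρ R Q b) {c : G} (hc : ∀ g : G, c * g = g * c)
    (hc1 : c ≠ 1) : ∀ w : W, ρ c w = -w := by
  rcases h.central_scalar c hc with h1 | h1
  · exfalso
    apply hc1
    apply h.faithful
    ext w
    rw [h1 w, map_one]; rfl
  · exact h1

theorem Setup.pc23_R_ne_bot (h : Setup ρ R Q b) : R ≠ ⊥ := by
  intro hR
  have h1 : Q = ⊥ := by
    rw [eq_bot_iff, ← hR]; exact h.QleR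
  have h2 := h.Qcard
  rw [h1, Subgroup.card_bot] at h2
  omega

/-- PC2 core. -/
theorem Setup.pc2_core (h : Setup ρ R Q b)
    (hPC1 : ∀ A : Subgroup G, A.Normal → (∀ x ∈ A, ∀ y ∈ A, x * y = y * x) → A ≤ R →
      ∀ a ∈ A, ∀ g : G, a * g = g * a) :
    ∃ z : G, z ∈ R ∧ z ≠ 1 ∧ (∀ g : G, z * g = g * z) ∧ (∀ w : W, ρ z w = -w) := by
  obtain ⟨c, hcR, hc1, hcc⟩ := h.pc23_exists_central hPC1 R h.normalR le_rfl h.pc23_R_ne_bot
  exact ⟨c, hcR, hc1, hcc, h.pc23_central_neg hcc hc1⟩

/-- PC3 core. -/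
theorem Setup.pc3_core (h : Setup ρ R Q b)
    (hPC1 : ∀ A : Subgroup G, A.Normal → (∀ x ∈ A, ∀ y ∈ A, x * y = y * x) → A ≤ R →
      ∀ a ∈ A, ∀ g : G, a * g = g * a)
    {z : G} (hzR : z ∈ R) (hz1 : z ≠ 1) (hzc : ∀ g : G, z * g = g * z) :
    ∃ T : Subgroup G, T.Normal ∧ T ≤ R ∧ z ∈ T ∧ IsExtraspecial 2 T := by
  classical
  -- central elements are `1` or `z`
  have hcen : ∀ c : G, (∀ g : G, c * g = g * c) → c = 1 ∨ c = z := by
    intro c hc
    by_cases hc1 : c = 1
    · exact Or.inl hc1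
    · exact Or.inr (h.central_eq hc hzc hc1 hz1)
  have hzz : z * z = 1 := by
    rcases hcen (z * z) (fun g => by rw [mul_assoc, hzc g, ← mul_assoc, hzc g, mul_assoc]) with h1 | h1
    · exact h1
    · exfalso; apply hz1
      calc z = z⁻¹ * (z * z) := by group
        _ = 1 := by rw [h1, inv_mul_cancel]
  -- the minimal normal subgroup
  have hex : ∃ n : ℕ, ∃ N : Subgroup G, (N.Normal ∧ N ≤ R ∧ ∃ x ∈ N, x ≠ 1 ∧ x ≠ z) ∧
      Nat.card N = n := by
    refine ⟨_, R, ⟨h.normalR, le_rfl, ?_⟩, rfl⟩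
    obtain ⟨x, hxQ, hx⟩ := f5_exists_notMem Q ({1, z} : Finset G) (by
      rw [h.Qcard]
      calc ({1, z} : Finset G).card ≤ 2 := Finset.card_le_two
        _ < 4 := by norm_num)
    simp only [Finset.mem_insert, Finset.mem_singleton, not_or] at hx
    exact ⟨x, h.QleR hxQ, hx.1, hx.2⟩
  obtain ⟨M, ⟨hMn, hMR, x0, hx0M, hx01, hx0z⟩, hMcard⟩ := Nat.find_spec hex
  have hmin : ∀ N : Subgroup G, N.Normal → N ≤ M → (∃ x ∈ N, x ≠ 1 ∧ x ≠ z) → N = M := by
    intro N hN hle hx
    have h1 : Nat.find hex ≤ Nat.card N := Nat.find_min' hex ⟨N, ⟨hN, hle.trans hMR, hx⟩, rfl⟩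
    exact Subgroup.eq_of_le_of_card_ge hle (by rw [hMcard]; exact h1)
  have hMne : M ≠ ⊥ := by
    intro hM
    rw [hM, Subgroup.mem_bot] at hx0M
    exact hx01 hx0M
  -- `z ∈ M`
  have hzM : z ∈ M := by
    obtain ⟨c, hcM, hc1, hcc⟩ := h.pc23_exists_central hPC1 M hMn hMR hMne
    rcases hcen c hcc with h1 | h1
    · exact absurd h1 hc1
    · rw [← h1]; exact hcM
  -- commutators of `M` lie in `{1, z}`
  have hcomm : ∀ x ∈ M, ∀ y ∈ M, ⁅x, y⁆ = 1 ∨ ⁅x, y⁆ = z := by
    have hsolv : ∃ n : ℕ, ∀ x ∈ M ⊓ derivedSeries G n, x = 1 ∨ x = z := by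
      obtain ⟨n, hn⟩ := h.solv.solvable
      refine ⟨n, fun x hx => ?_⟩
      rw [hn] at hx
      exact Or.inl (Subgroup.mem_bot.mp hx.2)
    have hspec := Nat.find_spec hsolv
    rcases hk : Nat.find hsolv with _ | j
    · exfalso
      rw [hk] at hspec
      rcases hspec x0 ⟨hx0M, by rw [derivedSeries_zero]; exact Subgroup.mem_top _⟩ with h1 | h1
      · exact hx01 h1
      · exact hx0z h1
    · rw [hk] at hspec
      have hj : ¬ (∀ x ∈ M ⊓ derivedSeries G j, x = 1 ∨ x = z) :=
        Nat.find_min hsolv (by rw [hk]; exact Nat.lt_succ_self j)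
      push Not at hj
      obtain ⟨x1, hx1, hx11, hx1z⟩ := hj
      have : (derivedSeries G j).Normal := derivedSeries_normal G j
      have : M.Normal := hMn
      have hAn : (M ⊓ derivedSeries G j).Normal := Subgroup.normal_inf_normal M (derivedSeries G j)
      have hMD : M ⊓ derivedSeries G j = M := hmin _ hAn inf_le_left ⟨x1, hx1, hx11, hx1z⟩
      have hMle : M ≤ derivedSeries G j := by rw [← hMD]; exact inf_le_right
      intro x hx y hy
      apply hspec
      refine ⟨?_, ?_⟩
      · rw [commutatorElement_def]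
        exact M.mul_mem (M.mul_mem (M.mul_mem hx hy) (M.inv_mem hx)) (M.inv_mem hy)
      · rw [derivedSeries_succ]
        exact Subgroup.commutator_mem_commutator (hMle hx) (hMle hy)
  -- the centre of `M` is `{1, z}`
  have hcenM : ∀ c ∈ M, (∀ y ∈ M, c * y = y * c) → c = 1 ∨ c = z := by
    have : M.Normal := hMn
    have hCn : (M ⊓ Subgroup.centralizer (M : Set G)).Normal :=
      Subgroup.normal_inf_normal M (Subgroup.centralizer (M : Set G))
    have hCab : ∀ x ∈ M ⊓ Subgroup.centralizer (M : Set G),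
        ∀ y ∈ M ⊓ Subgroup.centralizer (M : Set G), x * y = y * x := by
      intro x hx y hy
      exact ((Subgroup.mem_centralizer_iff.mp hx.2) y hy.1).symm
    have hCc := hPC1 _ hCn hCab (inf_le_left.trans hMR)
    intro c hc hcy
    apply hcen c
    apply hCc c
    refine Subgroup.mem_inf.mpr ⟨hc, ?_⟩
    rw [Subgroup.mem_centralizer_iff]
    intro y hy
    exact (hcy y hy).symm
  -- `M` is not abelian
  have hna : ∃ x ∈ M, ∃ y ∈ M, x * y ≠ y * x := by
    by_contra hcon
    push Not at hcon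
    have := hPC1 M hMn hcon hMR x0 hx0M
    rcases hcen x0 this with h1 | h1
    · exact hx01 h1
    · exact hx0z h1
  -- squares of `M` lie in `{1, z}`
  have hsq : ∀ y ∈ M, y * y = 1 ∨ y * y = z := by
    intro y hy
    apply hcenM (y * y) (M.mul_mem hy hy)
    intro x hx
    symm
    rcases hcomm x hx y hy with h1 | h1
    · have h2 : x * y = y * x := commutatorElement_eq_one_iff_mul_comm.mp h1
      calc x * (y * y) = (x * y) * y := by group
        _ = (y * x) * y := by rw [h2]
        _ = y * (x * y) := by group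
        _ = y * (y * x) := by rw [h2]
        _ = y * y * x := by group
    · rw [commutatorElement_def] at h1
      have h2 : x * y = z * y * x := by
        calc x * y = (x * y * x⁻¹ * y⁻¹) * y * x := by group
          _ = z * y * x := by rw [h1]
      calc x * (y * y) = (x * y) * y := by group
        _ = (z * y * x) * y := by rw [h2]
        _ = z * y * (x * y) := by group
        _ = z * y * (z * y * x) := by rw [h2]
        _ = z * (y * z) * y * x := by group
        _ = z * (z * y) * y * x := by rw [hzc y]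
        _ = (z * z) * (y * y) * x := by group
        _ = y * y * x := by rw [hzz, one_mul]
  refine ⟨M, hMn, hMR, hzM, ?_⟩
  have hz' : (⟨z, hzM⟩ : M) ∈ Subgroup.center M := by
    rw [Subgroup.mem_center_iff]
    intro g
    apply Subtype.ext
    exact (hzc g).symm
  have hcases : ∀ c : M, ((c : G) = 1 ∨ (c : G) = z) → c ∈ Subgroup.center M := by
    intro c hc
    rcases hc with h1 | h1
    · have : c = 1 := Subtype.ext h1
      rw [this]; exact Subgroup.one_mem _
    · have : c = ⟨z, hzM⟩ := Subtype.ext h1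
      rw [this]; exact hz'
  have hcenter : Subgroup.center M = Subgroup.zpowers (⟨z, hzM⟩ : M) := by
    apply le_antisymm
    · intro c hc
      have : (c : G) = 1 ∨ (c : G) = z := hcenM c c.2 (fun y hy => by
        have := (Subgroup.mem_center_iff.mp hc) ⟨y, hy⟩
        exact (congrArg Subtype.val this).symm)
      rcases this with h1 | h1
      · have : c = 1 := Subtype.ext h1
        rw [this]; exact Subgroup.one_mem _
      · have : c = ⟨z, hzM⟩ := Subtype.ext h1
        rw [this]; exact Subgroup.mem_zpowers _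
    · rw [Subgroup.zpowers_le]; exact hz'
  have hcard : Nat.card (Subgroup.center M) = 2 := by
    rw [hcenter, Nat.card_zpowers]
    have : Fact (Nat.Prime 2) := ⟨Nat.prime_two⟩
    apply orderOf_eq_prime
    · apply Subtype.ext
      rw [pow_two]; exact hzz
    · intro h1; exact hz1 (congrArg Subtype.val h1)
  have h2 : IsPGroup 2 M := by
    intro y
    refine ⟨2, ?_⟩
    apply Subtype.ext
    have e : ((y ^ 2 ^ 2 : M) : G) = ((y : G) * y) * ((y : G) * y) := by
      rw [Subgroup.coe_pow]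
      show (y : G) ^ 4 = _
      rw [pow_succ, pow_succ, pow_two]; group
    rw [e]
    rcases hsq y y.2 with h1 | h1
    · rw [h1, one_mul]; rfl
    · rw [h1, hzz]; rfl
  apply Cfsg.Agent.Lib.Helper9.LargeExtra.isExtraspecial_of_type h2 hcard
  · intro x y
    apply hcases
    have := hcomm x x.2 y y.2
    exact this
  · intro x
    apply hcases
    have := hsq x x.2
    rw [pow_two]
    exact this
  · obtain ⟨x, hx, y, hy, hxy⟩ := hna
    refine ⟨⟨x, hx⟩, ⟨y, hy⟩, ?_⟩
    intro h1
    apply hxy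
    have h3 : (⟨x, hx⟩ : M) * ⟨y, hy⟩ = ⟨y, hy⟩ * ⟨x, hx⟩ :=
      commutatorElement_eq_one_iff_mul_comm.mp h1
    exact congrArg Subtype.val h3

end Cfsg.Agent.Lib.Helper2.Cub
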