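import Mathlib
import Cfsg.Agent.Lib.Helper2.CubD0
import Cfsg.Agent.Lib.Helper5.CubK9

/-!
# S4415 PC1, sub-package C1a
-/

set_option autoImplicit false
open Cfsg

namespace Cfsg.Agent.Lib.Helper2.Cub

variable {G : Type*} [Group G] {W : Type*} [AddCommGroup W] [Module (ZMod 3) W]
variable [Finite G] [Finite W] {ρ : Representation (ZMod 3) G W} {R Q : Subgroup G} {b : G}
variable {q1 q2 q3 : G} {e1 e2 e3 : W}

omit [Finite G] [Finite W] in
/-- the `(-1)`-eigenvectors of `q1` are the combinations of `e2`, `e3`. -/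
theorem Frame.c1a_E (F : Frame ρ Q b q1 q2 q3 e1 e2 e3) {w : W} (hw : ρ q1 w = -w) :
    ∃ a2 a3 : ZMod 3, w = a2 • e2 + a3 • e3 := by
  obtain ⟨a1, a2, a3, w0, hu, h1, h2⟩ := F.decomp w
  refine ⟨a2, a3, ?_⟩
  have e1v : ρ q1 w = a1 • e1 - a2 • e2 - a3 • e3 + w0 := by
    rw [hu]
    simp only [map_add, map_smul, F.q1e1, F.q1e2, F.q1e3, h1, smul_neg]; abel
  have hA0 : (a1 • e1 + w0) + (a1 • e1 + w0) = 0 := by
    have : ρ q1 w + w = 0 := by rw [hw, neg_add_cancel]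
    rw [e1v] at this
    rw [hu] at this
    calc (a1 • e1 + w0) + (a1 • e1 + w0)
        = a1 • e1 - a2 • e2 - a3 • e3 + w0 + (a1 • e1 + a2 • e2 + a3 • e3 + w0) := by abel
      _ = 0 := this
  have hA1 := cubB_two_eq_zero hA0
  have hA : a1 • e1 + (0 : ZMod 3) • e2 + (0 : ZMod 3) • e3 + w0 = 0 := by
    rw [zero_smul, zero_smul, add_zero, add_zero]; exact hA1
  have hA' := F.toPreFrame.indep h1 h2 hA
  rw [hu, hA'.1, hA'.2.2.2]
  simp

/-- C1a = the CLAIM: an element of order prime to 6 centralized by `q1` and inverted by `q2` is `1`. -/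
theorem Frame.c1a (F : Frame ρ Q b q1 q2 q3 e1 e2 e3) (hfaith : Function.Injective ρ) {a : G} {m : ℕ}
    (hm : Nat.Coprime m 6) (ham : a ^ m = 1) (h1 : q1 * a = a * q1) (h2 : q2 * a * q2 = a⁻¹) :
    a = 1 := by
  classical
  have hxs : ∀ w, ρ a (ρ q1 w) = ρ q1 (ρ a w) := fun w => by
    rw [← rho_mul_apply, ← rho_mul_apply, h1]
  have hss : ∀ w, ρ q1 (ρ q1 w) = w := fun w => by rw [← rho_mul_apply, F.s1, rho_one_apply]
  have htt : ∀ w, ρ q2 (ρ q2 w) = w := fun w => by rw [← rho_mul_apply, F.s2, rho_one_apply]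
  have hst : ∀ w, ρ q1 (ρ q2 w) = ρ q2 (ρ q1 w) := fun w => by
    rw [← rho_mul_apply, ← rho_mul_apply, F.m12, F.m21]
  have hy : ∀ w, ρ a⁻¹ w = ρ q2 (ρ a (ρ q2 w)) := fun w => by
    rw [← h2, rho_mul_apply, rho_mul_apply]
  have hpow : (ρ a) ^ m = 1 := by rw [← map_pow, ham, map_one]
  -- Step 1: `a` is trivial on the `(-1)`-eigenspace `E` of `q1`
  let E : Submodule (ZMod 3) W :=
    { carrier := {w | ρ q1 w = -w}
      add_mem' := fun {u v} hu hv => by
        show ρ q1 (u + v) = -(u + v)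
        rw [map_add, hu, hv, neg_add]
      zero_mem' := by show ρ q1 0 = -(0 : W); rw [map_zero, neg_zero]
      smul_mem' := fun r u hu => by
        show ρ q1 (r • u) = -(r • u)
        rw [map_smul, hu, smul_neg] }
  have hEmem : ∀ w : W, w ∈ E ↔ ρ q1 w = -w := fun w => Iff.rfl
  have hE : ∀ w ∈ E, ρ a w ∈ E := by
    intro w hw
    rw [hEmem] at hw ⊢
    rw [← hxs, hw, map_neg]
  have hEcard : Nat.card E ≤ 9 := by
    let φ : ZMod 3 × ZMod 3 → E := fun p => ⟨p.1 • e2 + p.2 • e3, by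
      rw [hEmem, map_add, map_smul, map_smul, F.q1e2, F.q1e3, smul_neg, smul_neg, neg_add]⟩
    have hφ : Function.Surjective φ := by
      intro w
      obtain ⟨a2, a3, hw⟩ := F.c1a_E ((hEmem _).mp w.2)
      exact ⟨(a2, a3), Subtype.ext hw.symm⟩
    have := Nat.card_le_card_of_surjective φ hφ
    have hc : Nat.card (ZMod 3 × ZMod 3) = 9 := by
      rw [Nat.card_prod, Nat.card_eq_fintype_card, ZMod.card]
    rw [hc] at this
    exact this
  have hstep1 : ∀ v : W, ρ q1 v = -v → ρ a v = v := by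
    have hg : (ρ a).restrict hE = 1 := by
      apply k9_eq_one _ m hm
      · rw [Module.End.pow_restrict m hE]
        ext v
        rw [LinearMap.coe_restrict_apply, hpow]
        rfl
      · refine le_trans ?_ hEcard
        exact Nat.card_le_card_of_injective (fun u => (u : E)) Subtype.val_injective
    intro v hv
    have := congrArg (fun f : E →ₗ[ZMod 3] E => ((f ⟨v, (hEmem v).mpr hv⟩ : E) : W)) hg
    exact this
  have hyx : ∀ w, ρ a⁻¹ (ρ a w) = w := fun w => rho_inv_apply ρ a w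
  have hystep1 : ∀ v : W, ρ q1 v = -v → ρ a⁻¹ v = v := by
    intro v hv
    have := hstep1 v hv
    calc ρ a⁻¹ v = ρ a⁻¹ (ρ a v) := by rw [this]
      _ = v := hyx v
  -- Step 2
  have hcpow : (ρ (a⁻¹ * a⁻¹)) ^ m = 1 := by
    rw [← map_pow]
    have : (a⁻¹ * a⁻¹) ^ m = 1 := by
      rw [← pow_two, ← pow_mul, mul_comm, pow_mul, inv_pow, ham, inv_one, one_pow]
    rw [this, map_one]
  have hrep : ∀ w : W, ∃ α β : ZMod 3,
      ρ (a⁻¹ * a⁻¹) w - w = α • ρ a⁻¹ e1 + β • e1 := by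
    intro w
    -- decomposition `w = u + v`, `v = s w - w ∈ E`, `s u = u`
    obtain ⟨v, hv⟩ : ∃ v : W, v = ρ q1 w - w := ⟨_, rfl⟩
    obtain ⟨u, hu⟩ : ∃ u : W, u = w - v := ⟨_, rfl⟩
    have hvE : ρ q1 v = -v := by
      rw [hv, map_sub, hss]; abel
    have hus : ρ q1 u = u := by
      rw [hu, map_sub, hvE, hv]
      have := cubA_three w
      have h3 := cubA_three (ρ q1 w)
      calc ρ q1 w - -(ρ q1 w - w) = w - (ρ q1 w - w) + ((ρ q1 w + ρ q1 w + ρ q1 w) - (w + w + w)) := by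
            abel
        _ = w - (ρ q1 w - w) := by rw [this, h3, sub_zero, add_zero]
    have hcv : ρ (a⁻¹ * a⁻¹) v = v := by
      rw [rho_mul_apply, hystep1 v hvE, hystep1 v hvE]
    have hw : w = u + v := by rw [hu]; abel
    -- the two `e1`-components
    have hd1 : ∃ α : ZMod 3, ρ q2 (ρ a (ρ q2 u)) - ρ a (ρ q2 u) = α • e1 := by
      apply F.W1_eq
      · rw [map_sub, hst, ← hxs, hst, hus]
      · rw [map_sub, htt]; abel
    have hd2 : ∃ β : ZMod 3, ρ q2 u - u = β • e1 := by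
      apply F.W1_eq
      · rw [map_sub, hst, hus]
      · rw [map_sub, htt]; abel
    obtain ⟨α, hα⟩ := hd1
    obtain ⟨β, hβ⟩ := hd2
    refine ⟨α, β, ?_⟩
    have hyu : ρ a⁻¹ u - ρ a u = α • e1 + β • ρ a e1 := by
      rw [hy u]
      calc ρ q2 (ρ a (ρ q2 u)) - ρ a u
          = (ρ q2 (ρ a (ρ q2 u)) - ρ a (ρ q2 u)) + ρ a (ρ q2 u - u) := by
            rw [map_sub]; abel
        _ = α • e1 + β • ρ a e1 := by rw [hα, hβ, map_smul]
    calc ρ (a⁻¹ * a⁻¹) w - w = ρ (a⁻¹ * a⁻¹) u - u := by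
          rw [hw, map_add, hcv]; abel
      _ = ρ a⁻¹ (ρ a⁻¹ u - ρ a u) := by
          rw [rho_mul_apply, map_sub, hyx]
      _ = α • ρ a⁻¹ e1 + β • e1 := by
          rw [hyu, map_add, map_smul, map_smul, hyx]
  have hc1 : ρ (a⁻¹ * a⁻¹) = 1 := by
    apply k9_eq_one _ m hm hcpow
    have hrep' : ∀ u : LinearMap.range (ρ (a⁻¹ * a⁻¹) - 1), ∃ p : ZMod 3 × ZMod 3,
        (u : W) = p.1 • ρ a⁻¹ e1 + p.2 • e1 := by
      rintro ⟨u, w, rfl⟩
      obtain ⟨α, β, hαβ⟩ := hrep w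
      refine ⟨(α, β), ?_⟩
      show (ρ (a⁻¹ * a⁻¹) - 1) w = _
      rw [LinearMap.sub_apply, Module.End.one_apply]
      exact hαβ
    choose P hP using hrep'
    have hPinj : Function.Injective P := by
      intro u u' huu
      apply Subtype.ext
      rw [hP u, hP u', huu]
    have := Nat.card_le_card_of_injective P hPinj
    have hc : Nat.card (ZMod 3 × ZMod 3) = 9 := by
      rw [Nat.card_prod, Nat.card_eq_fintype_card, ZMod.card]
    rw [hc] at this
    exact this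
  have haa : a⁻¹ * a⁻¹ = 1 := by
    apply hfaith
    rw [hc1, map_one]
  have ha2 : a ^ 2 = 1 := by
    rw [pow_two]
    calc a * a = (a⁻¹ * a⁻¹)⁻¹ := by rw [mul_inv_rev, inv_inv]
      _ = 1 := by rw [haa, inv_one]
  have hcop : Nat.Coprime m 2 := Nat.Coprime.coprime_dvd_right (by norm_num : 2 ∣ 6) hm
  have := pow_gcd_eq_one.mpr ⟨ham, ha2⟩
  rw [hcop.gcd_eq_one, pow_one] at this
  exact this

end Cfsg.Agent.Lib.Helper2.Cub
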