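import Mathlib
import Cfsg.Agent.Lib.Helper2.CubD0
import Cfsg.Agent.Lib.Helper9.CubC1a
import Cfsg.Agent.Lib.Helper3.CubC1b

/-!
# S4415 PC1, sub-package C1odd
-/

set_option autoImplicit false
open Cfsg

namespace Cfsg.Agent.Lib.Helper2.Cub

/-- Abstract (additive) form of the four-group decomposition argument. -/
theorem c1odd_abs {C : Type*} [AddCommGroup C] (σ τ : C →+ C) (hσ : ∀ x, σ (σ x) = x)
    (hτ : ∀ x, τ (τ x) = x) (hστ : ∀ x, σ (τ x) = τ (σ x)) (m : ℕ) (hm : Odd m)
    (P1 : ∀ x, m • x = 0 → σ x = x → τ x = -x → x = 0)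
    (P2 : ∀ x, m • x = 0 → τ x = x → σ (τ x) = -x → x = 0)
    (P3 : ∀ x, m • x = 0 → σ (τ x) = x → σ x = -x → x = 0)
    (a : C) (ha : m • a = 0) : σ a = a ∧ τ a = a := by
  -- an element killed by `2` and by `m` is zero
  have hodd : ∀ x : C, m • x = 0 → x + x = 0 → x = 0 := by
    intro x hx h2
    obtain ⟨k, rfl⟩ := hm
    have h3 : (2 * k) • x = 0 := by
      rw [mul_comm, mul_smul, two_smul, h2, smul_zero]
    rw [add_smul, h3, zero_add, one_smul] at hx
    exact hx
  have hmσ : ∀ x : C, m • x = 0 → m • σ x = 0 := fun x hx => by rw [← map_nsmul, hx, map_zero]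
  have hmτ : ∀ x : C, m • x = 0 → m • τ x = 0 := fun x hx => by rw [← map_nsmul, hx, map_zero]
  -- `v = a - σ a`
  have hv : a - σ a = 0 := by
    apply hodd
    · rw [smul_sub, ha, hmσ a ha, sub_zero]
    · have hmv : m • (a - σ a) = 0 := by rw [smul_sub, ha, hmσ a ha, sub_zero]
      have hσv : σ (a - σ a) = -(a - σ a) := by rw [map_sub, hσ]; abel
      have hp : (a - σ a) + τ (a - σ a) = 0 := by
        apply P2
        · rw [smul_add, hmv, hmτ _ hmv, add_zero]
        · rw [map_add, hτ]; abel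
        · rw [map_add, hτ, map_add, hσv, hστ, hσv, map_neg]; abel
      have hn : (a - σ a) - τ (a - σ a) = 0 := by
        apply P3
        · rw [smul_sub, hmv, hmτ _ hmv, sub_zero]
        · rw [map_sub, hτ, map_sub, hσv, hστ, hσv, map_neg]; abel
        · rw [map_sub, hσv, hστ, hσv, map_neg]; abel
      calc (a - σ a) + (a - σ a) = ((a - σ a) + τ (a - σ a)) + ((a - σ a) - τ (a - σ a)) := by abel
        _ = 0 := by rw [hp, hn, add_zero]
  have hσa : σ a = a := (sub_eq_zero.mp hv).symm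
  refine ⟨hσa, ?_⟩
  have hu : a - τ a = 0 := by
    apply P1
    · rw [smul_sub, ha, hmτ a ha, sub_zero]
    · rw [map_sub, hστ, hσa]
    · rw [map_sub, hτ]; abel
  exact (sub_eq_zero.mp hu).symm

variable {G : Type*} [Group G] {W : Type*} [AddCommGroup W] [Module (ZMod 3) W]
variable [Finite G] [Finite W] {ρ : Representation (ZMod 3) G W} {R Q : Subgroup G} {b : G}
variable {q1 q2 q3 : G} {e1 e2 e3 : W}

omit [Finite G] in
open scoped IsMulCommutative in
/-- the four-group decomposition inside an abelian normal subgroup. -/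
theorem c1odd_transfer (A : Subgroup G) (hA : A.Normal)
    (hab : ∀ x ∈ A, ∀ y ∈ A, x * y = y * x) (q1 q2 : G) (hq1 : q1 * q1 = 1) (hq2 : q2 * q2 = 1)
    (hq12 : q1 * q2 = q2 * q1) (m : ℕ) (hm : Odd m)
    (P1 : ∀ x ∈ A, x ^ m = 1 → q1 * x * q1⁻¹ = x → q2 * x * q2⁻¹ = x⁻¹ → x = 1)
    (P2 : ∀ x ∈ A, x ^ m = 1 → q2 * x * q2⁻¹ = x → q1 * (q2 * x * q2⁻¹) * q1⁻¹ = x⁻¹ → x = 1)
    (P3 : ∀ x ∈ A, x ^ m = 1 → q1 * (q2 * x * q2⁻¹) * q1⁻¹ = x → q1 * x * q1⁻¹ = x⁻¹ → x = 1)
    (a : G) (ha : a ∈ A) (ham : a ^ m = 1) : q1 * a * q1⁻¹ = a ∧ q2 * a * q2⁻¹ = a := by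
  have : A.Normal := hA
  have : IsMulCommutative A := ⟨⟨fun x y => Subtype.ext (hab x x.2 y y.2)⟩⟩
  let σ : Additive A →+ Additive A :=
    MonoidHom.toAdditive ((MulAut.conjNormal q1 : MulAut A).toMonoidHom)
  let τ : Additive A →+ Additive A :=
    MonoidHom.toAdditive ((MulAut.conjNormal q2 : MulAut A).toMonoidHom)
  have hσv : ∀ x : Additive A, ((Additive.toMul (σ x) : A) : G) = q1 * (Additive.toMul x : A) * q1⁻¹ :=
    fun x => MulAut.conjNormal_apply q1 _
  have hτv : ∀ x : Additive A, ((Additive.toMul (τ x) : A) : G) = q2 * (Additive.toMul x : A) * q2⁻¹ :=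
    fun x => MulAut.conjNormal_apply q2 _
  have hext : ∀ x y : Additive A, ((Additive.toMul x : A) : G) = (Additive.toMul y : A) → x = y := by
    intro x y hxy
    exact Additive.toMul.injective (Subtype.ext hxy)
  have hzero : ∀ x : Additive A, ((Additive.toMul x : A) : G) = 1 → x = 0 := by
    intro x hx
    apply hext
    rw [hx]; rfl
  have hneg : ∀ x : Additive A, ((Additive.toMul (-x) : A) : G) = ((Additive.toMul x : A) : G)⁻¹ :=
    fun x => rfl
  have hsmul : ∀ x : Additive A, ((Additive.toMul (m • x) : A) : G) = ((Additive.toMul x : A) : G) ^ m :=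
    fun x => rfl
  have hq1i : q1⁻¹ = q1 := inv_eq_of_mul_eq_one_left hq1
  have hq2i : q2⁻¹ = q2 := inv_eq_of_mul_eq_one_left hq2
  have key := c1odd_abs σ τ
    (by
      intro x
      apply hext
      rw [hσv, hσv, hq1i]
      generalize ((Additive.toMul x : A) : G) = y
      calc q1 * (q1 * y * q1) * q1 = (q1 * q1) * y * (q1 * q1) := by group
        _ = y := by rw [hq1, one_mul, mul_one])
    (by
      intro x
      apply hext
      rw [hτv, hτv, hq2i]
      generalize ((Additive.toMul x : A) : G) = y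
      calc q2 * (q2 * y * q2) * q2 = (q2 * q2) * y * (q2 * q2) := by group
        _ = y := by rw [hq2, one_mul, mul_one])
    (by
      intro x
      apply hext
      rw [hσv, hτv, hτv, hσv, hq1i, hq2i]
      generalize ((Additive.toMul x : A) : G) = y
      calc q1 * (q2 * y * q2) * q1 = (q1 * q2) * y * (q2 * q1) := by group
        _ = (q2 * q1) * y * (q1 * q2) := by rw [hq12]
        _ = q2 * (q1 * y * q1) * q2 := by group)
    m hm
    (by
      intro x hx h1 h2
      apply hzero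
      apply P1 _ (Additive.toMul x : A).2
      · rw [← hsmul, hx]; rfl
      · rw [← hσv, h1]
      · rw [← hτv, h2, hneg])
    (by
      intro x hx h1 h2
      apply hzero
      apply P2 _ (Additive.toMul x : A).2
      · rw [← hsmul, hx]; rfl
      · rw [← hτv, h1]
      · rw [← hτv, ← hσv, h2, hneg])
    (by
      intro x hx h1 h2
      apply hzero
      apply P3 _ (Additive.toMul x : A).2
      · rw [← hsmul, hx]; rfl
      · rw [← hτv, ← hσv, h1]
      · rw [← hσv, h2, hneg])
    (Additive.ofMul (⟨a, ha⟩ : A))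
    (by
      apply hzero
      rw [hsmul]
      exact ham)
  constructor
  · have := congrArg (fun x : Additive A => ((Additive.toMul x : A) : G)) key.1
    simp only [hσv] at this
    exact this
  · have := congrArg (fun x : Additive A => ((Additive.toMul x : A) : G)) key.2
    simp only [hτv] at this
    exact this

omit [Finite G] in
/-- an element commuting with all conjugates of `b` is central when these generate. -/
theorem c1odd_central_of_conj (hgen : Subgroup.normalClosure ({b} : Set G) = ⊤) (a : G)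
    (hconj : ∀ g : G, a * (g * b * g⁻¹) = (g * b * g⁻¹) * a) : ∀ g : G, a * g = g * a := by
  have hle : Subgroup.normalClosure ({b} : Set G) ≤ Subgroup.centralizer ({a} : Set G) := by
    rw [Subgroup.normalClosure, Subgroup.closure_le]
    intro c hc
    rw [Group.mem_conjugatesOfSet_iff] at hc
    obtain ⟨x, hx, hxc⟩ := hc
    rw [Set.mem_singleton_iff] at hx
    rw [hx, isConj_iff] at hxc
    obtain ⟨g, hg⟩ := hxc
    rw [SetLike.mem_coe, Subgroup.mem_centralizer_singleton_iff, ← hg]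
    exact (hconj g).symm
  intro g
  have : g ∈ Subgroup.centralizer ({a} : Set G) := hle (by rw [hgen]; exact Subgroup.mem_top g)
  exact (Subgroup.mem_centralizer_singleton_iff.mp this).symm

/-- C1odd: the elements of odd order of an abelian normal subgroup inside `R` are central. -/
theorem Setup.c1odd (h : Setup ρ R Q b) (A : Subgroup G) (hA : A.Normal)
    (hab : ∀ x ∈ A, ∀ y ∈ A, x * y = y * x) (hAR : A ≤ R) :
    ∀ a ∈ A, ∀ m : ℕ, Odd m → a ^ m = 1 → ∀ g : G, a * g = g * a := by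
  classical
  obtain ⟨q1, q2, q3, e1, e2, e3, F⟩ := h.exists_frame
  have hq1i : q1⁻¹ = q1 := inv_eq_of_mul_eq_one_left F.s1
  have hq2i : q2⁻¹ = q2 := inv_eq_of_mul_eq_one_left F.s2
  have hq3i : q3⁻¹ = q3 := inv_eq_of_mul_eq_one_left F.s3
  -- core: elements of `A` of order prime to 6 commute with `b`
  have hcore : ∀ m0 : ℕ, Nat.Coprime m0 6 → ∀ a ∈ A, a ^ m0 = 1 → b * a = a * b := by
    intro m0 hm0 a ha ham
    have hodd : Odd m0 := by
      have : Nat.Coprime m0 2 := Nat.Coprime.coprime_dvd_right (by norm_num : 2 ∣ 6) hm0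
      exact Nat.coprime_two_right.mp this
    have hcomm : ∀ q x : G, q * x * q⁻¹ = x → q * x = x * q := by
      intro q x hqx
      calc q * x = (q * x * q⁻¹) * q := by group
        _ = x * q := by rw [hqx]
    have hconjpow : ∀ g x : G, x ^ m0 = 1 → (g * x * g⁻¹) ^ m0 = 1 := by
      intro g x hx
      rw [conj_pow, hx, mul_one, mul_inv_cancel]
    have P1 : ∀ x ∈ A, x ^ m0 = 1 → q1 * x * q1⁻¹ = x → q2 * x * q2⁻¹ = x⁻¹ → x = 1 := by
      intro x _ hx h1 h2
      rw [hq2i] at h2
      exact F.c1a h.faithful hm0 hx (hcomm q1 x h1) h2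
    have P2 : ∀ x ∈ A, x ^ m0 = 1 → q2 * x * q2⁻¹ = x → q1 * (q2 * x * q2⁻¹) * q1⁻¹ = x⁻¹ →
        x = 1 := by
      intro x _ hx h1 h2
      -- `x' = b⁻¹ x b`
      have hx' : b⁻¹ * x * b = 1 := by
        apply F.c1a h.faithful hm0 (a := b⁻¹ * x * b)
        · have := hconjpow b⁻¹ x hx
          rw [inv_inv] at this
          exact this
        · -- q1 commutes with x'
          have e : q1 = b⁻¹ * q2 * b := by rw [← F.c1]; group
          calc q1 * (b⁻¹ * x * b) = b⁻¹ * ((b * q1 * b⁻¹) * x) * b := by group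
            _ = b⁻¹ * (q2 * x) * b := by rw [F.c1]
            _ = b⁻¹ * (x * q2) * b := by rw [hcomm q2 x h1]
            _ = b⁻¹ * (x * (b * q1 * b⁻¹)) * b := by rw [F.c1]
            _ = (b⁻¹ * x * b) * q1 := by group
        · -- q2 inverts x'
          have h3 : q3 * x * q3⁻¹ = x⁻¹ := by
            rw [← h2, ← F.m12]; group
          calc q2 * (b⁻¹ * x * b) * q2 = b⁻¹ * ((b * q2 * b⁻¹) * x * (b * q2 * b⁻¹)) * b := by group
            _ = b⁻¹ * (q3 * x * q3⁻¹) * b := by rw [F.c2, hq3i]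
            _ = b⁻¹ * x⁻¹ * b := by rw [h3]
            _ = (b⁻¹ * x * b)⁻¹ := by group
      calc x = b * (b⁻¹ * x * b) * b⁻¹ := by group
        _ = 1 := by rw [hx', mul_one, mul_inv_cancel]
    have P3 : ∀ x ∈ A, x ^ m0 = 1 → q1 * (q2 * x * q2⁻¹) * q1⁻¹ = x → q1 * x * q1⁻¹ = x⁻¹ →
        x = 1 := by
      intro x _ hx h1 h2
      have h3 : q3 * x * q3⁻¹ = x := by
        rw [← F.m12]
        calc q1 * q2 * x * (q1 * q2)⁻¹ = q1 * (q2 * x * q2⁻¹) * q1⁻¹ := by group
          _ = x := h1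
      have hx' : b * x * b⁻¹ = 1 := by
        apply F.c1a h.faithful hm0 (a := b * x * b⁻¹)
        · exact hconjpow b x hx
        · have e : b⁻¹ * q1 * b = q3 := by rw [← F.c3]; group
          calc q1 * (b * x * b⁻¹) = b * ((b⁻¹ * q1 * b) * x) * b⁻¹ := by group
            _ = b * (q3 * x) * b⁻¹ := by rw [e]
            _ = b * (x * q3) * b⁻¹ := by rw [hcomm q3 x h3]
            _ = b * (x * (b⁻¹ * q1 * b)) * b⁻¹ := by rw [e]
            _ = (b * x * b⁻¹) * q1 := by group
        · have e : b⁻¹ * q2 * b = q1 := by rw [← F.c1]; group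
          calc q2 * (b * x * b⁻¹) * q2 = b * ((b⁻¹ * q2 * b) * x * (b⁻¹ * q2 * b)) * b⁻¹ := by group
            _ = b * (q1 * x * q1⁻¹) * b⁻¹ := by rw [e, hq1i]
            _ = b * x⁻¹ * b⁻¹ := by rw [h2]
            _ = (b * x * b⁻¹)⁻¹ := by group
      calc x = b⁻¹ * (b * x * b⁻¹) * b := by group
        _ = 1 := by rw [hx', mul_one, inv_mul_cancel]
    obtain ⟨k1, k2⟩ := c1odd_transfer A hA hab q1 q2 F.s1 F.s2 (by rw [F.m12, F.m21]) m0 hodd
      P1 P2 P3 a ha ham
    exact F.c1b h.faithful hodd ham (hcomm q1 a k1) (hcomm q2 a k2)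
  intro a ha m hm ham
  -- reduce to order prime to 6
  have haR : a ^ Nat.card R = 1 := by
    have := pow_card_eq_one' (G := R) (x := ⟨a, hAR ha⟩)
    exact congrArg Subtype.val this
  set m0 := Nat.gcd m (Nat.card R) with hm0
  have ham0 : a ^ m0 = 1 := pow_gcd_eq_one.mpr ⟨ham, haR⟩
  have hcop : Nat.Coprime m0 6 := by
    have h2 : Nat.Coprime m0 2 := by
      rw [Nat.coprime_two_right]
      exact Odd.of_dvd_nat hm (Nat.gcd_dvd_left _ _)
    have h3 : Nat.Coprime m0 3 :=
      Nat.Coprime.coprime_dvd_left (Nat.gcd_dvd_right _ _) h.coprimeR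
    have : Nat.Coprime m0 (2 * 3) := Nat.Coprime.mul_right h2 h3
    exact this
  apply c1odd_central_of_conj h.normalClosure_eq_top
  intro g
  have h1 := hcore m0 hcop (g⁻¹ * a * g) (by
    have := hA.conj_mem a ha g⁻¹
    rw [inv_inv] at this
    exact this) (by
    have : (g⁻¹ * a * g⁻¹⁻¹) ^ m0 = 1 := by rw [conj_pow, ham0, mul_one, mul_inv_cancel]
    rw [inv_inv] at this
    exact this)
  calc a * (g * b * g⁻¹) = g * ((g⁻¹ * a * g) * b) * g⁻¹ := by group
    _ = g * (b * (g⁻¹ * a * g)) * g⁻¹ := by rw [h1]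
    _ = (g * b * g⁻¹) * a := by group

end Cfsg.Agent.Lib.Helper2.Cub
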