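import Mathlib
import Cfsg.Agent.Lib.Helper2.CubD0
import Cfsg.Agent.Lib.Helper9.CubC1odd
import Cfsg.Agent.Lib.Helper3.CubC1c

/-!
# S4415 PC1 = (C1): assembly
-/

set_option autoImplicit false
open Cfsg

namespace Cfsg.Agent.Lib.Helper2.Cub

variable {G : Type*} [Group G] {W : Type*} [AddCommGroup W] [Module (ZMod 3) W]
variable [Finite G] [Finite W] {ρ : Representation (ZMod 3) G W} {R Q : Subgroup G} {b : G}

/-- PC1 = (C1) of the paper: in Case C' every abelian normal subgroup inside `R` is central. -/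
theorem Setup.pc1_abelian_central (h : Setup ρ R Q b) (hC : CaseC G) (A : Subgroup G) (hA : A.Normal)
    (hab : ∀ x ∈ A, ∀ y ∈ A, x * y = y * x) (hAR : A ≤ R) : ∀ a ∈ A, ∀ g : G, a * g = g * a := by
  intro a ha
  obtain ⟨k, m, hm, hn⟩ := Nat.exists_eq_two_pow_mul_odd (orderOf_pos a).ne'
  have h1 : (a ^ m) ^ (2 ^ k) = 1 := by
    rw [← pow_mul, mul_comm, ← hn, pow_orderOf_eq_one]
  have h2 : (a ^ (2 ^ k)) ^ m = 1 := by
    rw [← pow_mul, ← hn, pow_orderOf_eq_one]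
  have c1 : a ^ m ∈ Subgroup.center G := by
    rw [Subgroup.mem_center_iff]
    intro g
    exact (h.c1c hC A hA hab k (a ^ m) (A.pow_mem ha m) h1 g).symm
  have c2 : a ^ (2 ^ k) ∈ Subgroup.center G := by
    rw [Subgroup.mem_center_iff]
    intro g
    exact (h.c1odd A hA hab hAR (a ^ (2 ^ k)) (A.pow_mem ha _) m hm h2 g).symm
  have hcop : Nat.Coprime m (2 ^ k) := Nat.Coprime.pow_right k (Nat.coprime_two_right.mpr hm)
  have hbez := Nat.gcd_eq_gcd_ab m (2 ^ k)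
  rw [hcop.gcd_eq_one] at hbez
  have hmem : a ∈ Subgroup.center G := by
    have e : a = (a ^ m) ^ (Nat.gcdA m (2 ^ k)) * (a ^ (2 ^ k)) ^ (Nat.gcdB m (2 ^ k)) := by
      rw [← zpow_natCast a m, ← zpow_natCast a (2 ^ k), ← zpow_mul, ← zpow_mul, ← zpow_add, ← hbez]
      simp
    rw [e]
    exact Subgroup.mul_mem _ (Subgroup.zpow_mem _ c1 _) (Subgroup.zpow_mem _ c2 _)
  intro g
  exact ((Subgroup.mem_center_iff.mp hmem) g).symm

end Cfsg.Agent.Lib.Helper2.Cub
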