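import Mathlib
import Cfsg.Agent.Lib.Helper2.CubD0
import Cfsg.Agent.Lib.Helper9.CubPC1
import Cfsg.Agent.Lib.Helper9.CubPC23

/-!
# S4415: PC2 and PC3 with the exact stub signatures (wrappers of `pc2_core`, `pc3_core` via PC1)
-/

set_option autoImplicit false
open Cfsg

namespace Cfsg.Agent.Lib.Helper2.Cub

variable {G : Type*} [Group G] {W : Type*} [AddCommGroup W] [Module (ZMod 3) W]
variable [Finite G] [Finite W] {ρ : Representation (ZMod 3) G W} {R Q : Subgroup G} {b : G}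

/-- PC2 = (C2): the central involution `z = -1`. -/
theorem Setup.pc2_exists_z (h : Setup ρ R Q b) (hC : CaseC G) :
    ∃ z : G, z ∈ R ∧ z ≠ 1 ∧ (∀ g : G, z * g = g * z) ∧ (∀ w : W, ρ z w = -w) :=
  h.pc2_core (fun A hA hab hAR => h.pc1_abelian_central hC A hA hab hAR)

/-- PC3 = (C3): a normal extraspecial 2-subgroup `T ≤ R` containing `z`. -/
theorem Setup.pc3_exists_T (h : Setup ρ R Q b) (hC : CaseC G) {z : G} (hzR : z ∈ R) (hz1 : z ≠ 1)
    (hzc : ∀ g : G, z * g = g * z) :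
    ∃ T : Subgroup G, T.Normal ∧ T ≤ R ∧ z ∈ T ∧ IsExtraspecial 2 T :=
  h.pc3_core (fun A hA hab hAR => h.pc1_abelian_central hC A hA hab hAR) hzR hz1 hzc

end Cfsg.Agent.Lib.Helper2.Cub
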