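import Mathlib
import Cfsg.Agent.Lib.Helper2.CubD0
import Cfsg.Agent.Lib.Helper9.CubF5

/-!
# S4415 farm-out, lemma PC4: `|W| = 81` given a normal extraspecial `T ∋ z`, `ρ z = -1`.
-/

set_option autoImplicit false
open Cfsg
open scoped commutatorElement

namespace Cfsg.Agent.Lib.Helper2.Cub

/-- Group-theoretic core of PC4: an element `b` with `b ^ 3 = 1` acting non-trivially on an
"extraspecial-like" subgroup `T` moves some `x ∈ T` by an element of order four. -/
theorem pc4_grp {G : Type*} [Group G] (T : Subgroup G) (b z : G)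
    (hb3 : b ^ 3 = 1)
    (hTb : ∀ x ∈ T, b * x * b⁻¹ ∈ T)
    (hzc : ∀ g : G, z * g = g * z) (hzz : z * z = 1)
    (hFa : ∀ x ∈ T, ∀ y ∈ T, x * y * x⁻¹ * y⁻¹ = 1 ∨ x * y * x⁻¹ * y⁻¹ = z)
    (hFb : ∀ x ∈ T, x * x = 1 ∨ x * x = z)
    (hFc : ∀ c ∈ T, (∀ y ∈ T, c * y = y * c) → c = 1 ∨ c = z)
    (hnc : ∃ x ∈ T, b * x * b⁻¹ ≠ x) :
    ∃ x ∈ T, (x⁻¹ * (b * x * b⁻¹)) * (x⁻¹ * (b * x * b⁻¹)) = z := by
  classical
  by_contra hcon
  push Not at hcon
  have hzinv : z⁻¹ = z := inv_eq_of_mul_eq_one_left hzz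
  have hφT : ∀ x ∈ T, x⁻¹ * (b * x * b⁻¹) ∈ T := fun x hx =>
    T.mul_mem (T.inv_mem hx) (hTb x hx)
  have hφ2 : ∀ x ∈ T, (x⁻¹ * (b * x * b⁻¹)) * (x⁻¹ * (b * x * b⁻¹)) = 1 := by
    intro x hx
    rcases hFb _ (hφT x hx) with h1 | h1
    · exact h1
    · exact absurd h1 (hcon x hx)
  have hconj : ∀ x ∈ T, ∀ y ∈ T, x * y * x⁻¹ = y ∨ x * y * x⁻¹ = y * z := by
    intro x hx y hy
    rcases hFa x hx y hy with h1 | h1
    · left
      calc x * y * x⁻¹ = (x * y * x⁻¹ * y⁻¹) * y := by group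
        _ = y := by rw [h1, one_mul]
    · right
      calc x * y * x⁻¹ = (x * y * x⁻¹ * y⁻¹) * y := by group
        _ = y * z := by rw [h1, hzc]
  -- Step 1: the `φ x` commute pairwise
  have hstep1 : ∀ x ∈ T, ∀ y ∈ T,
      (x⁻¹ * (b * x * b⁻¹)) * (y⁻¹ * (b * y * b⁻¹)) =
        (y⁻¹ * (b * y * b⁻¹)) * (x⁻¹ * (b * x * b⁻¹)) := by
    intro x hx y hy
    set u := x⁻¹ * (b * x * b⁻¹) with hu
    set v := y⁻¹ * (b * y * b⁻¹) with hv
    have huu : u * u = 1 := hφ2 x hx
    have hvv : v * v = 1 := hφ2 y hy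
    have hxy : (x * y)⁻¹ * (b * (x * y) * b⁻¹) = (y⁻¹ * u * (y⁻¹)⁻¹) * v := by
      rw [hu, hv]; group
    have hxy2 := hφ2 (x * y) (T.mul_mem hx hy)
    rw [hxy] at hxy2
    have huv : (u * v) * (u * v) = 1 := by
      rcases hconj y⁻¹ (T.inv_mem hy) u (hφT x hx) with h1 | h1
      · rw [h1] at hxy2; exact hxy2
      · rw [h1] at hxy2
        have e1 : u * z * v = (u * v) * z := by
          rw [mul_assoc, hzc v, ← mul_assoc]
        have e2 : ((u * v) * z) * ((u * v) * z) = (u * v) * (u * v) * (z * z) := by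
          calc ((u * v) * z) * ((u * v) * z) = (u * v) * (z * (u * v)) * z := by group
            _ = (u * v) * ((u * v) * z) * z := by rw [hzc (u * v)]
            _ = (u * v) * (u * v) * (z * z) := by group
        rw [e1, e2, hzz, mul_one] at hxy2
        exact hxy2
    calc u * v = (v * v) * (u * v) * (u * u) := by rw [huu, hvv, one_mul, mul_one]
      _ = v * (v * u) * (v * u) * u := by group
      _ = v * u := by
          have : (v * u) * (v * u) = 1 := by
            calc (v * u) * (v * u) = v * ((u * v) * (u * v)) * v⁻¹ := by group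
              _ = 1 := by rw [huv, mul_one, mul_inv_cancel]
          calc v * (v * u) * (v * u) * u = v * ((v * u) * (v * u)) * u := by group
            _ = v * u := by rw [this, mul_one]
  -- Step 2: `c ∈ T` with `b c b⁻¹ ∈ {c, c z}` commutes with every `φ x`
  have hstep2 : ∀ c ∈ T, (b * c * b⁻¹ = c ∨ b * c * b⁻¹ = c * z) → ∀ x ∈ T,
      c * (x⁻¹ * (b * x * b⁻¹)) = (x⁻¹ * (b * x * b⁻¹)) * c := by
    intro c hc hbc x hx
    obtain ⟨ζ, hζc, hζ⟩ : ∃ ζ : G, (∀ g : G, ζ * g = g * ζ) ∧ b * c * b⁻¹ = c * ζ := by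
      rcases hbc with h1 | h1
      · exact ⟨1, fun g => by rw [one_mul, mul_one], by rw [h1, mul_one]⟩
      · exact ⟨z, hzc, h1⟩
    -- `c` commutes with `x` iff it commutes with `b x b⁻¹`
    have hiff : c * x = x * c ↔ c * (b * x * b⁻¹) = (b * x * b⁻¹) * c := by
      have e1 : c * (b * x * b⁻¹) * ζ = b * (c * x) * b⁻¹ := by
        calc c * (b * x * b⁻¹) * ζ = c * (ζ * (b * x * b⁻¹)) := by
              rw [mul_assoc, ← hζc (b * x * b⁻¹)]
          _ = (c * ζ) * (b * x * b⁻¹) := by group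
          _ = b * (c * x) * b⁻¹ := by rw [← hζ]; group
      have e2 : (b * x * b⁻¹) * c * ζ = b * (x * c) * b⁻¹ := by
        calc (b * x * b⁻¹) * c * ζ = (b * x * b⁻¹) * (c * ζ) := by group
          _ = b * (x * c) * b⁻¹ := by rw [← hζ]; group
      constructor
      · intro h1
        have : c * (b * x * b⁻¹) * ζ = (b * x * b⁻¹) * c * ζ := by rw [e1, e2, h1]
        exact mul_right_cancel this
      · intro h1
        have : b * (c * x) * b⁻¹ = b * (x * c) * b⁻¹ := by rw [← e1, ← e2, h1]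
        exact mul_left_cancel (mul_right_cancel this)
    by_cases hcx : c * x = x * c
    · have h2 := hiff.mp hcx
      have h3 : c * x⁻¹ = x⁻¹ * c := by
        calc c * x⁻¹ = x⁻¹ * (x * c) * x⁻¹ := by group
          _ = x⁻¹ * (c * x) * x⁻¹ := by rw [hcx]
          _ = x⁻¹ * c := by group
      calc c * (x⁻¹ * (b * x * b⁻¹)) = (c * x⁻¹) * (b * x * b⁻¹) := by group
        _ = x⁻¹ * (c * (b * x * b⁻¹)) := by rw [h3]; group
        _ = (x⁻¹ * (b * x * b⁻¹)) * c := by rw [h2]; group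
    · have hcy : ¬ c * (b * x * b⁻¹) = (b * x * b⁻¹) * c := fun h => hcx (hiff.mpr h)
      have h2 : c * x * c⁻¹ = x * z := by
        rcases hconj c hc x hx with h | h
        · exfalso; apply hcx
          calc c * x = (c * x * c⁻¹) * c := by group
            _ = x * c := by rw [h]
        · exact h
      have h3 : c * (b * x * b⁻¹) * c⁻¹ = (b * x * b⁻¹) * z := by
        rcases hconj c hc _ (hTb x hx) with h | h
        · exfalso; apply hcy
          calc c * (b * x * b⁻¹) = (c * (b * x * b⁻¹) * c⁻¹) * c := by group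
            _ = (b * x * b⁻¹) * c := by rw [h]
        · exact h
      have h4 : c * (x⁻¹ * (b * x * b⁻¹)) * c⁻¹ = x⁻¹ * (b * x * b⁻¹) := by
        calc c * (x⁻¹ * (b * x * b⁻¹)) * c⁻¹
            = (c * x * c⁻¹)⁻¹ * (c * (b * x * b⁻¹) * c⁻¹) := by group
          _ = (z * x)⁻¹ * ((b * x * b⁻¹) * z) := by rw [h2, h3, hzc x]
          _ = x⁻¹ * (z⁻¹ * ((b * x * b⁻¹) * z)) := by group
          _ = x⁻¹ * (z * ((b * x * b⁻¹) * z)) := by rw [hzinv]
          _ = x⁻¹ * (((b * x * b⁻¹) * z) * z) := by rw [hzc]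
          _ = x⁻¹ * ((b * x * b⁻¹) * (z * z)) := by group
          _ = x⁻¹ * (b * x * b⁻¹) := by rw [hzz, mul_one]
      calc c * (x⁻¹ * (b * x * b⁻¹)) = (c * (x⁻¹ * (b * x * b⁻¹)) * c⁻¹) * c := by group
        _ = (x⁻¹ * (b * x * b⁻¹)) * c := by rw [h4]
  -- Step 3: every `y ∈ T` commutes with every `φ x0`
  have hstep3 : ∀ x0 ∈ T, ∀ y ∈ T,
      (x0⁻¹ * (b * x0 * b⁻¹)) * y = y * (x0⁻¹ * (b * x0 * b⁻¹)) := by
    intro x0 hx0 y hy
    set u := x0⁻¹ * (b * x0 * b⁻¹) with hu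
    have hby : b * y * b⁻¹ ∈ T := hTb y hy
    set k1 := y⁻¹ * (b * y * b⁻¹) with hk1
    set k2 := (b * y * b⁻¹)⁻¹ * (b * (b * y * b⁻¹) * b⁻¹) with hk2
    set s := y * (b * y * b⁻¹) * (b * (b * y * b⁻¹) * b⁻¹) with hs
    have hsT : s ∈ T := T.mul_mem (T.mul_mem hy hby) (hTb _ hby)
    have hb3' : b * (b * (b * y * b⁻¹) * b⁻¹) * b⁻¹ = y := by
      have e : b * b * b = 1 := by rw [← hb3, pow_succ, pow_two]
      have e' : b⁻¹ * b⁻¹ * b⁻¹ = 1 := by
        calc b⁻¹ * b⁻¹ * b⁻¹ = (b * b * b)⁻¹ := by group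
          _ = 1 := by rw [e, inv_one]
      calc b * (b * (b * y * b⁻¹) * b⁻¹) * b⁻¹ = (b * b * b) * y * (b⁻¹ * b⁻¹ * b⁻¹) := by group
        _ = y := by rw [e, e', one_mul, mul_one]
    have hbs : b * s * b⁻¹ = y⁻¹ * s * (y⁻¹)⁻¹ := by
      calc b * s * b⁻¹ = (b * y * b⁻¹) * (b * (b * y * b⁻¹) * b⁻¹)
            * (b * (b * (b * y * b⁻¹) * b⁻¹) * b⁻¹) := by rw [hs]; group
        _ = (b * y * b⁻¹) * (b * (b * y * b⁻¹) * b⁻¹) * y := by rw [hb3']
        _ = y⁻¹ * s * (y⁻¹)⁻¹ := by rw [hs]; group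
    have hsu : s * u = u * s := by
      have := hstep2 s hsT (by rw [hbs]; exact hconj y⁻¹ (T.inv_mem hy) s hsT) x0 hx0
      exact this
    have hk1u : k1 * u = u * k1 := hstep1 y hy x0 hx0
    have hk2u : k2 * u = u * k2 := hstep1 _ hby x0 hx0
    have hyy : (y * y) * u = u * (y * y) := by
      rcases hFb y hy with h | h
      · rw [h, one_mul, mul_one]
      · rw [h, hzc]
    have hyeq : y = k1⁻¹ * (y * y)⁻¹ * s * (k1 * k2)⁻¹ := by
      rw [hk1, hk2, hs]; group
    have hmem : y ∈ Subgroup.centralizer ({u} : Set G) := by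
      have m1 : k1 ∈ Subgroup.centralizer ({u} : Set G) :=
        Subgroup.mem_centralizer_singleton_iff.mpr hk1u
      have m2 : k2 ∈ Subgroup.centralizer ({u} : Set G) :=
        Subgroup.mem_centralizer_singleton_iff.mpr hk2u
      have m3 : s ∈ Subgroup.centralizer ({u} : Set G) :=
        Subgroup.mem_centralizer_singleton_iff.mpr hsu
      have m4 : y * y ∈ Subgroup.centralizer ({u} : Set G) :=
        Subgroup.mem_centralizer_singleton_iff.mpr hyy
      rw [hyeq]
      exact Subgroup.mul_mem _ (Subgroup.mul_mem _ (Subgroup.mul_mem _ (Subgroup.inv_mem _ m1)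
        (Subgroup.inv_mem _ m4)) m3) (Subgroup.inv_mem _ (Subgroup.mul_mem _ m1 m2))
    exact (Subgroup.mem_centralizer_singleton_iff.mp hmem).symm
  -- Step 4
  obtain ⟨x, hx, hxne⟩ := hnc
  apply hxne
  have h1 : x⁻¹ * (b * x * b⁻¹) = 1 ∨ x⁻¹ * (b * x * b⁻¹) = z :=
    hFc _ (hφT x hx) (hstep3 x hx)
  rcases h1 with h1 | h1
  · calc b * x * b⁻¹ = x * (x⁻¹ * (b * x * b⁻¹)) := by group
      _ = x := by rw [h1, mul_one]
  · exfalso
    have h2 : b * x * b⁻¹ = x * z := by
      calc b * x * b⁻¹ = x * (x⁻¹ * (b * x * b⁻¹)) := by group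
        _ = x * z := by rw [h1]
    have hbz : b * z * b⁻¹ = z := by
      calc b * z * b⁻¹ = (z * b) * b⁻¹ := by rw [hzc b]
        _ = z := by group
    have h3 : b * (b * x * b⁻¹) * b⁻¹ = x := by
      calc b * (b * x * b⁻¹) * b⁻¹ = b * (x * z) * b⁻¹ := by rw [h2]
        _ = (b * x * b⁻¹) * (b * z * b⁻¹) := by group
        _ = x * z * z := by rw [h2, hbz]
        _ = x := by rw [mul_assoc, hzz, mul_one]
    have h4 : b * (b * (b * x * b⁻¹) * b⁻¹) * b⁻¹ = x := by
      have e : b * b * b = 1 := by rw [← hb3, pow_succ, pow_two]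
      have e' : b⁻¹ * b⁻¹ * b⁻¹ = 1 := by
        calc b⁻¹ * b⁻¹ * b⁻¹ = (b * b * b)⁻¹ := by group
          _ = 1 := by rw [e, inv_one]
      calc b * (b * (b * x * b⁻¹) * b⁻¹) * b⁻¹ = (b * b * b) * x * (b⁻¹ * b⁻¹ * b⁻¹) := by group
        _ = x := by rw [e, e', one_mul, mul_one]
    rw [h3, h2] at h4
    -- x * z = x, so z = 1, so the goal `φ x * φ x = z` would hold
    have hz1 : z = 1 := by
      calc z = x⁻¹ * (x * z) := by group
        _ = 1 := by rw [h4, inv_mul_cancel]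
    apply hcon x hx
    rw [hφ2 x hx, hz1]

/-- The elementwise facts about an extraspecial 2-subgroup `T` containing a central involution
`z` of the ambient group. -/
theorem pc4_facts {G : Type*} [Group G] [Finite G] (T : Subgroup G) (z : G) (hzT : z ∈ T)
    (hzc : ∀ g : G, z * g = g * z) (hz1 : z ≠ 1) (hT : IsExtraspecial 2 T) :
    z * z = 1 ∧
    (∀ x ∈ T, ∀ y ∈ T, x * y * x⁻¹ * y⁻¹ = 1 ∨ x * y * x⁻¹ * y⁻¹ = z) ∧
    (∀ x ∈ T, x * x = 1 ∨ x * x = z) ∧
    (∀ c ∈ T, (∀ y ∈ T, c * y = y * c) → c = 1 ∨ c = z) ∧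
    (∃ x ∈ T, ∃ y ∈ T, x * y ≠ y * x) := by
  obtain ⟨hcomm, hsq, hZ⟩ := Cfsg.Agent.Lib.Helper6.extraspecial_two_facts hT
  have hz' : (⟨z, hzT⟩ : T) ∈ Subgroup.center T := by
    rw [Subgroup.mem_center_iff]
    intro g
    apply Subtype.ext
    show (g : G) * z = z * g
    exact (hzc g).symm
  have hz1' : (⟨z, hzT⟩ : T) ≠ 1 := by
    intro h
    apply hz1
    exact congrArg Subtype.val h
  have hcases : ∀ c : T, c ∈ Subgroup.center T → (c : G) = 1 ∨ (c : G) = z := by
    intro c hc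
    rcases f5_center_cases hZ ⟨z, hzT⟩ hz' hz1' c hc with h | h
    · left; exact congrArg Subtype.val h
    · right; exact congrArg Subtype.val h
  refine ⟨?_, ?_, ?_, ?_, ?_⟩
  · have := f5_zz hZ ⟨z, hzT⟩ hz' hz1'
    exact congrArg Subtype.val this
  · intro x hx y hy
    have := hcases ⁅(⟨x, hx⟩ : T), ⟨y, hy⟩⁆ (hcomm _ _)
    rw [commutatorElement_def] at this
    exact this
  · intro x hx
    have := hcases ((⟨x, hx⟩ : T) ^ 2) (hsq _)
    rw [pow_two] at this
    exact this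
  · intro c hc hcy
    apply hcases ⟨c, hc⟩
    rw [Subgroup.mem_center_iff]
    intro g
    apply Subtype.ext
    show (g : G) * c = c * g
    exact (hcy g g.2).symm
  · -- `T` is not abelian
    by_contra hcon
    push Not at hcon
    have hab : ∀ x y : T, ⁅x, y⁆ = 1 := by
      intro x y
      rw [commutatorElement_eq_one_iff_mul_comm]
      apply Subtype.ext
      exact hcon x x.2 y y.2
    have hbot : commutator T = ⊥ := by
      rw [commutator_def, Subgroup.commutator_eq_bot_iff_le_centralizer]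
      intro x _
      rw [Subgroup.mem_centralizer_iff]
      intro y _
      apply Subtype.ext
      exact hcon y y.2 x x.2
    have h2 : Nat.card (commutator T) = 2 := by rw [hT.1.2.2]; exact hZ
    rw [hbot, Subgroup.card_bot] at h2
    omega

variable {G : Type*} [Group G] {W : Type*} [AddCommGroup W] [Module (ZMod 3) W]
variable [Finite G] [Finite W] {ρ : Representation (ZMod 3) G W} {R Q : Subgroup G} {b : G}

/-- `|W| ≥ 27`, from the frame. -/
theorem Setup.pc4_card_ge (h : Setup ρ R Q b) : 27 ≤ Nat.card W := by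
  obtain ⟨q1, q2, q3, e1, e2, e3, F⟩ := h.exists_frame
  let f : ZMod 3 × ZMod 3 × ZMod 3 → W := fun p => p.1 • e1 + p.2.1 • e2 + p.2.2 • e3
  have hinj : Function.Injective f := by
    intro p p' hpp
    have h1 : p.1 • e1 + p.2.1 • e2 + p.2.2 • e3 = p'.1 • e1 + p'.2.1 • e2 + p'.2.2 • e3 := hpp
    have h2 : (p.1 - p'.1) • e1 + (p.2.1 - p'.2.1) • e2 + (p.2.2 - p'.2.2) • e3 + 0 = 0 := by
      rw [sub_smul, sub_smul, sub_smul, add_zero]
      calc p.1 • e1 - p'.1 • e1 + (p.2.1 • e2 - p'.2.1 • e2) + (p.2.2 • e3 - p'.2.2 • e3)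
          = (p.1 • e1 + p.2.1 • e2 + p.2.2 • e3) - (p'.1 • e1 + p'.2.1 • e2 + p'.2.2 • e3) := by
            abel
        _ = 0 := by rw [h1, sub_self]
    obtain ⟨ha1, ha2, ha3, -⟩ := F.toPreFrame.indep (map_zero _) (map_zero _) h2
    exact Prod.ext (sub_eq_zero.mp ha1) (Prod.ext (sub_eq_zero.mp ha2) (sub_eq_zero.mp ha3))
  have hc : Nat.card (ZMod 3 × ZMod 3 × ZMod 3) = 27 := by
    rw [Nat.card_prod, Nat.card_prod, Nat.card_eq_fintype_card, ZMod.card]
  rw [← hc]
  exact Nat.card_le_card_of_injective f hinj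

/-- `|W| ≤ 81` if some `g = x⁻¹ x^b` has no non-zero fixed vector. -/
theorem Setup.pc4_card_le (h : Setup ρ R Q b) (x : G)
    (hfix : ∀ w : W, ρ (x⁻¹ * (b * x * b⁻¹)) w = w → w = 0) : Nat.card W ≤ 81 := by
  let f : W → (LinearMap.range (nOp ρ b)) × (LinearMap.range (nOp ρ b)) := fun w =>
    (⟨nOp ρ b w, w, rfl⟩, ⟨nOp ρ b (ρ x w), ρ x w, rfl⟩)
  have hinj : Function.Injective f := by
    intro w w' hww
    have h1 : nOp ρ b w = nOp ρ b w' := congrArg (fun p => (p.1 : W)) hww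
    have h2 : nOp ρ b (ρ x w) = nOp ρ b (ρ x w') := congrArg (fun p => (p.2 : W)) hww
    have h3 : ρ b (w - w') = w - w' := by
      have : nOp ρ b (w - w') = 0 := by rw [map_sub, h1, sub_self]
      rw [nOp_apply] at this
      exact sub_eq_zero.mp this
    have h4 : ρ b (ρ x (w - w')) = ρ x (w - w') := by
      have : nOp ρ b (ρ x (w - w')) = 0 := by rw [map_sub, map_sub, h2, sub_self]
      rw [nOp_apply] at this
      exact sub_eq_zero.mp this
    have h5 : ρ b⁻¹ (w - w') = w - w' := by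
      calc ρ b⁻¹ (w - w') = ρ b⁻¹ (ρ b (w - w')) := by rw [h3]
        _ = w - w' := rho_inv_apply ρ b _
    have h6 : ρ (x⁻¹ * (b * x * b⁻¹)) (w - w') = w - w' := by
      rw [rho_mul_apply, rho_mul_apply, rho_mul_apply, h5, h4, rho_inv_apply]
    exact sub_eq_zero.mp (hfix _ h6)
  have hle := Nat.card_le_card_of_injective f hinj
  rw [Nat.card_prod] at hle
  have h9 := h.imN
  calc Nat.card W ≤ Nat.card (LinearMap.range (nOp ρ b)) * Nat.card (LinearMap.range (nOp ρ b)) :=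
        hle
    _ ≤ 9 * 9 := Nat.mul_le_mul h9 h9
    _ = 81 := by norm_num

/-- an element whose square acts as `-1` forces even dimension. -/
theorem pc4_even {W : Type*} [AddCommGroup W] [Module (ZMod 3) W] [Finite W]
    (A : W →ₗ[ZMod 3] W) (hA : ∀ w : W, A (A w) = -w) : Module.finrank (ZMod 3) W ≠ 3 := by
  intro h3
  have h1 : A * A = (-1 : ZMod 3) • (LinearMap.id : W →ₗ[ZMod 3] W) := by
    apply LinearMap.ext
    intro w
    rw [Module.End.mul_apply, hA, LinearMap.smul_apply, LinearMap.id_apply, neg_one_smul]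
  have h2 := congrArg LinearMap.det h1
  rw [map_mul, LinearMap.det_smul, h3, LinearMap.det_id, mul_one] at h2
  generalize LinearMap.det A = d at h2
  revert h2
  revert d
  decide

/-- PC4 = (C4): `|W| = 81`, given a normal extraspecial `T ∋ z`, `ρ z = -1`. -/
theorem Setup.pc4_card_W (h : Setup ρ R Q b) {z : G} (hzc : ∀ g : G, z * g = g * z)
    (hz : ∀ w : W, ρ z w = -w) (T : Subgroup G) (hTn : T.Normal) (hTR : T ≤ R) (hzT : z ∈ T)
    (hT : IsExtraspecial 2 T) : Nat.card W = 81 := by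
  -- `z ≠ 1`
  have hz1 : z ≠ 1 := by
    intro hz1
    obtain ⟨v, hv⟩ := h.N2
    apply hv
    have hv0 : v = 0 := by
      apply cubB_two_eq_zero
      have := hz v
      rw [hz1, rho_one_apply] at this
      calc v + v = v + -v := by rw [← this]
        _ = 0 := add_neg_cancel v
    rw [hv0, map_zero, map_zero]
  obtain ⟨hzz, hFa, hFb, hFc, x0, hx0, y0, hy0, hxy0⟩ := pc4_facts T z hzT hzc hz1 hT
  -- `b` does not centralize `T`
  have hnc : ∃ x ∈ T, b * x * b⁻¹ ≠ x := by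
    by_contra hcon
    push Not at hcon
    have : T.Normal := hTn
    have hb : b ∈ Subgroup.centralizer (T : Set G) := by
      rw [Subgroup.mem_centralizer_iff]
      intro x hx
      have := hcon x hx
      calc x * b = (b * x * b⁻¹) * b := by rw [this]
        _ = b * x := by group
    have htop := h.eq_top_of_normal (Subgroup.centralizer (T : Set G)) hb
    apply hxy0
    have hx0' : x0 ∈ Subgroup.centralizer (T : Set G) := by rw [htop]; exact Subgroup.mem_top _
    rw [Subgroup.mem_centralizer_iff] at hx0'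
    exact (hx0' y0 hy0).symm
  obtain ⟨x, hx, hg⟩ := pc4_grp T b z h.b3 (fun x hx => hTn.conj_mem x hx b) hzc hzz hFa hFb hFc hnc
  -- `ρ g` has no non-zero fixed vector
  have hfix : ∀ w : W, ρ (x⁻¹ * (b * x * b⁻¹)) w = w → w = 0 := by
    intro w hw
    apply cubB_two_eq_zero
    have h1 : ρ z w = w := by
      rw [← hg, rho_mul_apply, hw, hw]
    have h2 := hz w
    rw [h1] at h2
    calc w + w = w + -w := by rw [← h2]
      _ = 0 := add_neg_cancel w
  have hle := h.pc4_card_le x hfix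
  have hge := h.pc4_card_ge
  have hpow : Nat.card W = 3 ^ Module.finrank (ZMod 3) W := by
    rw [Module.natCard_eq_pow_finrank (K := ZMod 3) (V := W), Nat.card_eq_fintype_card, ZMod.card]
  have hne : Module.finrank (ZMod 3) W ≠ 3 := by
    apply pc4_even (ρ (x⁻¹ * (b * x * b⁻¹)))
    intro w
    rw [← rho_mul_apply, hg, hz]
  set d := Module.finrank (ZMod 3) W with hd
  rw [hpow] at hle hge ⊢
  have hd4 : d < 5 := by
    by_contra hcon
    push Not at hcon
    have : 3 ^ 5 ≤ 3 ^ d := Nat.pow_le_pow_right (by norm_num) hcon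
    omega
  have hd3 : 3 ≤ d := by
    by_contra hcon
    push Not at hcon
    have : 3 ^ d ≤ 3 ^ 2 := Nat.pow_le_pow_right (by norm_num) (by omega)
    omega
  have : d = 4 := by omega
  rw [this]; norm_num

end Cfsg.Agent.Lib.Helper2.Cub
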