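import Mathlib
import Cfsg.Prelude.Def_Transfer

set_option autoImplicit false
open Cfsg

namespace Cfsg.Agent.Lib.Helper9

variable {P P' : Type*} [Group P] [Group P']

theorem frattini_map_mulEquiv (e : P ≃* P') : (frattini P).map e.toMonoidHom = frattini P' := by
  have := OrderIso.map_radical (MulEquiv.mapSubgroup e)
  exact this

theorem center_map_mulEquiv (e : P ≃* P') :
    (Subgroup.center P).map e.toMonoidHom = Subgroup.center P' := by
  ext x
  rw [Subgroup.mem_map, Subgroup.mem_center_iff]
  constructor
  · rintro ⟨y, hy, rfl⟩ g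
    rw [Subgroup.mem_center_iff] at hy
    have := hy (e.symm g)
    have h2 := congrArg e this
    simpa using h2
  · intro hx
    refine ⟨e.symm x, ?_, by simp⟩
    rw [Subgroup.mem_center_iff]
    intro g
    have := hx (e g)
    have h2 := congrArg e.symm this
    simpa using h2

theorem commutator_map_mulEquiv (e : P ≃* P') :
    (commutator P).map e.toMonoidHom = commutator P' := by
  rw [commutator_def, commutator_def, Subgroup.map_commutator,
    Subgroup.map_top_of_surjective _ e.surjective]

theorem isSpecial_of_mulEquiv {p : ℕ} (e : P ≃* P') (h : IsSpecial p P) : IsSpecial p P' := by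
  refine ⟨h.1.of_equiv e, ?_, ?_⟩
  · rw [← frattini_map_mulEquiv e, ← center_map_mulEquiv e, h.2.1]
  · rw [← commutator_map_mulEquiv e, ← center_map_mulEquiv e, h.2.2]

theorem isExtraspecial_of_mulEquiv {p : ℕ} (e : P ≃* P') (h : IsExtraspecial p P) :
    IsExtraspecial p P' := by
  refine ⟨isSpecial_of_mulEquiv e h.1, ?_⟩
  rw [← center_map_mulEquiv e, Subgroup.card_map_of_injective e.injective]
  exact h.2

end Cfsg.Agent.Lib.Helper9
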