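import Mathlib

set_option autoImplicit false

/-! Dimensions of invariant subspaces for a map with a homogeneous decomposition. -/

namespace Cfsg.Agent.H9SemiInv

open Module

variable {F V : Type*} [Field F] [AddCommGroup V] [Module F V] [FiniteDimensional F V]

theorem exists_sub_finrank (C : Submodule F V) (k : ℕ) (hk : k ≤ finrank F C) :
    ∃ C' : Submodule F V, C' ≤ C ∧ finrank F C' = k := by
  classical
  set b := Module.finBasis F C with hb
  set w : Fin k → V := fun i => ((b (Fin.castLE hk i) : C) : V) with hw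
  have hli : LinearIndependent F w := by
    have h1 : LinearIndependent F (fun i : Fin k => b (Fin.castLE hk i)) :=
      b.linearIndependent.comp _ (Fin.castLE_injective hk)
    exact h1.map' C.subtype (Submodule.ker_subtype C)
  refine ⟨Submodule.span F (Set.range w), ?_, ?_⟩
  · rw [Submodule.span_le]
    rintro _ ⟨i, rfl⟩
    exact (b (Fin.castLE hk i)).2
  · rw [finrank_span_eq_card hli, Fintype.card_fin]

theorem finrank_sup_of_disjoint {A B : Submodule F V} (h : Disjoint A B) :
    finrank F ↥(A ⊔ B) = finrank F A + finrank F B := by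
  have h1 := Submodule.finrank_sup_add_finrank_inf_eq A B
  rw [h.eq_bot, finrank_bot, add_zero] at h1
  exact h1

theorem disjoint_biSup_finset {ι : Type*} [DecidableEq ι] {U : ι → Submodule F V} (hU : iSupIndep U)
    {j₀ : ι} {S : Finset ι} (hj : j₀ ∉ S) : Disjoint (U j₀) (⨆ j ∈ S, U j) := by
  have h := hU.disjoint_biSup (x := j₀) (y := (S : Set ι)) (by simpa using hj)
  simpa using h

theorem finrank_biSup {ι : Type*} [DecidableEq ι] (U : ι → Submodule F V) (hU : iSupIndep U)
    (a : ℕ) (hUdim : ∀ j, finrank F (U j) = a) (S : Finset ι) :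
    finrank F ↥(⨆ j ∈ S, U j) = S.card * a := by
  induction S using Finset.induction_on with
  | empty => simp
  | insert j₀ S hj ih =>
    rw [Finset.iSup_insert, finrank_sup_of_disjoint (disjoint_biSup_finset hU hj), ih, hUdim,
      Finset.card_insert_of_notMem hj]
    ring

/-- invariance of a subspace under a linear map -/
def Inv (f : V →ₗ[F] V) (W : Submodule F V) : Prop := ∀ x ∈ W, f x ∈ W

theorem inv_iff (f : V →ₗ[F] V) (W : Submodule F V) : Inv f W ↔ W.map f ≤ W := by
  constructor
  · rintro h _ ⟨x, hx, rfl⟩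
    exact h x hx
  · intro h x hx
    exact h ⟨x, hx, rfl⟩

theorem Inv.sup {f : V →ₗ[F] V} {A B : Submodule F V} (hA : Inv f A) (hB : Inv f B) :
    Inv f (A ⊔ B) := by
  intro x hx
  obtain ⟨a, ha, b, hb, rfl⟩ := Submodule.mem_sup.1 hx
  rw [map_add]
  exact Submodule.add_mem _ (Submodule.mem_sup_left (hA a ha)) (Submodule.mem_sup_right (hB b hb))

theorem Inv.inf {f : V →ₗ[F] V} {A B : Submodule F V} (hA : Inv f A) (hB : Inv f B) :
    Inv f (A ⊓ B) := by
  intro x hx
  exact ⟨hA x hx.1, hB x hx.2⟩

theorem Inv.biSup {ι : Type*} {f : V →ₗ[F] V} {U : ι → Submodule F V} (hU : ∀ j, Inv f (U j))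
    (S : Finset ι) : Inv f (⨆ j ∈ S, U j) := by
  classical
  induction S using Finset.induction_on with
  | empty =>
    intro x hx
    simp only [Finset.notMem_empty, iSup_false, iSup_bot, Submodule.mem_bot] at hx
    rw [hx, map_zero]
    exact Submodule.zero_mem _
  | insert j₀ S hj ih =>
    rw [Finset.iSup_insert]
    exact (hU j₀).sup ih

theorem dvd_finrank_of_le_biSup (f : V →ₗ[F] V) {ι : Type*} [DecidableEq ι]
    (U : ι → Submodule F V) (hU : iSupIndep U) (a : ℕ) (hUdim : ∀ j, finrank F (U j) = a)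
    (hUinv : ∀ j, Inv f (U j))
    (hUirr : ∀ j, ∀ W : Submodule F V, W ≤ U j → Inv f W → W = ⊥ ∨ W = U j) (S : Finset ι) :
    ∀ W : Submodule F V, W ≤ ⨆ j ∈ S, U j → Inv f W → a ∣ finrank F W := by
  induction S using Finset.induction_on with
  | empty =>
    intro W hW _
    simp only [Finset.notMem_empty, iSup_false, iSup_bot, le_bot_iff] at hW
    rw [hW, finrank_bot]
    exact dvd_zero a
  | insert j₀ S hj ih =>
    intro W hW hWinv
    rw [Finset.iSup_insert] at hW
    set US := ⨆ j ∈ S, U j with hUS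
    have hUSinv : Inv f US := Inv.biSup hUinv S
    have hdisj : Disjoint (U j₀) US := disjoint_biSup_finset hU hj
    set X := W ⊔ US with hX
    set W₀ := U j₀ ⊓ X with hW₀
    have hW₀inv : Inv f W₀ := (hUinv j₀).inf (hWinv.sup hUSinv)
    have hXle : X ≤ US ⊔ U j₀ := by
      rw [hX, sup_comm US]
      exact sup_le hW le_sup_right
    have hmod : X = US ⊔ W₀ := by
      have h1 : (US ⊔ U j₀) ⊓ X = US ⊔ (U j₀ ⊓ X) :=
        sup_inf_assoc_of_le (U j₀) (le_sup_right : US ≤ X)
      rw [inf_eq_right.2 hXle] at h1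
      exact h1
    have hd1 : Disjoint US W₀ := (hdisj.mono_left inf_le_left).symm
    have h2 : finrank F X = finrank F US + finrank F W₀ := by
      rw [hmod]
      exact finrank_sup_of_disjoint hd1
    have h3 := Submodule.finrank_sup_add_finrank_inf_eq W US
    have h4 : a ∣ finrank F ↥(W ⊓ US) := ih _ inf_le_right (hWinv.inf hUSinv)
    have h5 : finrank F W = finrank F W₀ + finrank F ↥(W ⊓ US) := by
      have : finrank F ↥(W ⊔ US) = finrank F X := rfl
      omega
    rw [h5]
    apply Dvd.dvd.add _ h4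
    rcases hUirr j₀ W₀ inf_le_left hW₀inv with h | h
    · rw [h, finrank_bot]; exact dvd_zero a
    · rw [h, hUdim]

end Cfsg.Agent.H9SemiInv
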