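import Mathlib
import Cfsg.Agent.Lib.Helper9.SemiInv1

set_option autoImplicit false

/-! Invariant subspaces of a semisimple map all of whose minimal invariant subspaces have one
dimension `d`. -/

namespace Cfsg.Agent.Lib.Helper9.H9Elus

open Module Polynomial
open Cfsg.Agent.H9SemiInv

section
variable {F V : Type*} [Field F] [AddCommGroup V] [Module F V]

theorem inv_iff_mem (y : V →ₗ[F] V) (W : Submodule F V) :
    Inv y W ↔ W ∈ Module.End.invtSubmodule y := by
  rw [Module.End.mem_invtSubmodule_iff_forall_mem_of_mem]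
  rfl

theorem Inv.aeval {y : V →ₗ[F] V} {W : Submodule F V} (hW : Inv y W) (s : F[X]) :
    Inv (aeval y s) W := by
  induction s using Polynomial.induction_on with
  | C a =>
    intro x hx
    rw [aeval_C]
    exact W.smul_mem a hx
  | add p q hp hq =>
    intro x hx
    rw [map_add]
    exact W.add_mem (hp x hx) (hq x hx)
  | monomial n a ih =>
    intro x hx
    have : (C a * X ^ (n + 1) : F[X]) = X * (C a * X ^ n) := by ring
    rw [this, map_mul, aeval_X, Module.End.mul_apply]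
    exact hW _ (ih x hx)

end

section
variable {F V : Type*} [Field F] [AddCommGroup V] [Module F V] [FiniteDimensional F V]

/-- Relative invariant complements. -/
theorem exists_rel_compl (y : V →ₗ[F] V) (hss : Module.End.IsSemisimple y)
    (C₀ : Submodule F V) (hC₀ : Inv y C₀) (W : Submodule F V) (hW : W ≤ C₀) (hWinv : Inv y W) :
    ∃ C' : Submodule F V, C' ≤ C₀ ∧ Inv y C' ∧ Disjoint W C' ∧
      finrank F W + finrank F C' = finrank F C₀ := by
  obtain ⟨W', hW'inv, hc⟩ := (Module.End.isSemisimple_iff.mp hss) W ((inv_iff_mem y W).mp hWinv)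
  have hW'inv' : Inv y W' := (inv_iff_mem y W').mpr hW'inv
  refine ⟨W' ⊓ C₀, inf_le_right, hW'inv'.inf hC₀, hc.disjoint.mono_right inf_le_left, ?_⟩
  have hsup : W ⊔ (W' ⊓ C₀) = C₀ := by
    rw [← sup_inf_assoc_of_le W' hW, hc.sup_eq_top, top_inf_eq]
  rw [← finrank_sup_of_disjoint (hc.disjoint.mono_right inf_le_left), hsup]

/-- The chain lemma. -/
theorem exists_inv_mul (y : V →ₗ[F] V) (hss : Module.End.IsSemisimple y) (d : ℕ) (hd : 1 ≤ d)
    (C₀ : Submodule F V) (hC₀ : Inv y C₀)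
    (hmin : ∀ W : Submodule F V, W ≤ C₀ → Inv y W → W ≠ ⊥ →
      ∃ Z : Submodule F V, Z ≤ W ∧ Inv y Z ∧ finrank F Z = d) :
    d ∣ finrank F C₀ ∧
      ∀ t, d * t ≤ finrank F C₀ → ∃ W : Submodule F V, W ≤ C₀ ∧ Inv y W ∧ finrank F W = d * t := by
  have hex : ∀ t, d * t ≤ finrank F C₀ →
      ∃ W : Submodule F V, W ≤ C₀ ∧ Inv y W ∧ finrank F W = d * t := by
    intro t
    induction t with
    | zero =>
      intro _
      refine ⟨⊥, bot_le, ?_, by simp⟩
      intro x hx
      rw [Submodule.mem_bot] at hx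
      rw [hx, map_zero]
      exact Submodule.zero_mem _
    | succ t ih =>
      intro ht
      obtain ⟨W, hW, hWinv, hWd⟩ := ih (by nlinarith)
      obtain ⟨C', hC', hC'inv, hdisj, hsum⟩ := exists_rel_compl y hss C₀ hC₀ W hW hWinv
      have hC'ne : C' ≠ ⊥ := by
        intro h
        rw [h, finrank_bot, add_zero, hWd] at hsum
        nlinarith
      obtain ⟨Z, hZ, hZinv, hZd⟩ := hmin C' hC' hC'inv hC'ne
      refine ⟨W ⊔ Z, sup_le hW (hZ.trans hC'), hWinv.sup hZinv, ?_⟩
      rw [finrank_sup_of_disjoint (hdisj.mono_right hZ), hWd, hZd]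
      ring
  refine ⟨?_, hex⟩
  obtain ⟨W, hW, hWinv, hWd⟩ := hex (finrank F C₀ / d) (Nat.mul_div_le _ _)
  obtain ⟨C', hC', hC'inv, hdisj, hsum⟩ := exists_rel_compl y hss C₀ hC₀ W hW hWinv
  have hlt : finrank F C' < d := by
    have h1 := Nat.div_add_mod (finrank F C₀) d
    have h2 := Nat.mod_lt (finrank F C₀) (show 0 < d by omega)
    omega
  have hC'bot : C' = ⊥ := by
    by_contra hne
    obtain ⟨Z, hZ, -, hZd⟩ := hmin C' hC' hC'inv hne
    have := Submodule.finrank_mono hZ
    omega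
  rw [hC'bot, finrank_bot, add_zero, hWd] at hsum
  exact ⟨_, hsum.symm⟩

theorem exists_irreducible_kernel (y : V →ₗ[F] V) (W : Submodule F V) (hW : Inv y W)
    (h : F[X]) : h ≠ 0 → ∀ w ∈ W, w ≠ 0 → aeval y h w = 0 →
      ∃ g : F[X], Irreducible g ∧ g ∣ h ∧ ∃ v ∈ W, v ≠ 0 ∧ aeval y g v = 0 := by
  induction h using WfDvdMonoid.induction_on_irreducible with
  | zero => intro h0; exact absurd rfl h0
  | unit u hu =>
    intro _ w _ hw0 hw
    exfalso
    obtain ⟨c, hc, rfl⟩ := Polynomial.isUnit_iff.mp hu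
    rw [aeval_C, Module.algebraMap_end_apply] at hw
    exact hw0 ((smul_eq_zero.mp hw).resolve_left hc.ne_zero)
  | mul a i ha hi ih =>
    intro _ w hwW hw0 hw
    by_cases h1 : aeval y a w = 0
    · obtain ⟨g, hg, hga, v, hv, hv0, hgv⟩ := ih ha w hwW hw0 h1
      exact ⟨g, hg, Dvd.dvd.mul_left hga i, v, hv, hv0, hgv⟩
    · refine ⟨i, hi, Dvd.intro _ rfl, aeval y a w, Inv.aeval hW a w hwW, h1, ?_⟩
      rw [map_mul, Module.End.mul_apply] at hw
      exact hw

/-- The cyclic subspace generated by a vector killed by an irreducible polynomial. -/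
theorem exists_cyclic (y : V →ₗ[F] V) (W : Submodule F V) (hW : Inv y W) (g : F[X])
    (hg : Irreducible g) (v : V) (hv : v ∈ W) (hv0 : v ≠ 0) (hgv : aeval y g v = 0) :
    ∃ Z : Submodule F V, Z ≤ W ∧ Inv y Z ∧ finrank F Z = g.natDegree := by
  let φ : F[X] →ₗ[F] V := (LinearMap.applyₗ v).comp (Polynomial.aeval y).toLinearMap
  have hφ : ∀ s : F[X], φ s = aeval y s v := fun s => rfl
  refine ⟨LinearMap.range φ, ?_, ?_, ?_⟩
  · rintro _ ⟨s, rfl⟩
    rw [hφ]
    exact Inv.aeval hW s v hv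
  · rintro _ ⟨s, rfl⟩
    refine ⟨X * s, ?_⟩
    rw [hφ, hφ, map_mul, aeval_X, Module.End.mul_apply]
  · have hker : LinearMap.ker φ = (Ideal.span {g}).restrictScalars F := by
      ext s
      rw [LinearMap.mem_ker, Submodule.restrictScalars_mem, Ideal.mem_span_singleton, hφ]
      constructor
      · intro hs
        by_contra hnd
        have hcop : IsCoprime g s := (hg.coprime_iff_not_dvd).mpr hnd
        obtain ⟨a, b, hab⟩ := hcop
        have h1 := congrArg (fun t : F[X] => aeval y t v) hab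
        simp only [map_add, map_mul, map_one, LinearMap.add_apply, Module.End.mul_apply,
          Module.End.one_apply] at h1
        rw [hgv, hs, map_zero, map_zero, add_zero] at h1
        exact hv0 h1.symm
      · rintro ⟨t, rfl⟩
        rw [mul_comm, map_mul, Module.End.mul_apply, hgv, map_zero]
    have e1 := LinearMap.quotKerEquivRange φ
    rw [← e1.finrank_eq]
    have e2 : (F[X] ⧸ LinearMap.ker φ) ≃ₗ[F] (F[X] ⧸ (Ideal.span {g}).restrictScalars F) :=
      Submodule.quotEquivOfEq _ _ hker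
    rw [e2.finrank_eq, (Submodule.Quotient.restrictScalarsEquiv F (Ideal.span {g})).finrank_eq]
    exact finrank_quotient_span_eq_natDegree

/-- If all irreducible factors of `h` have degree `d` and `h(y)` kills `C₀`, then every nonzero
invariant subspace of `C₀` contains an invariant subspace of dimension `d`. -/
theorem exists_inv_finrank_eq (y : V →ₗ[F] V) (h : F[X]) (h0 : h ≠ 0) (d : ℕ)
    (hd : ∀ g : F[X], Irreducible g → g ∣ h → g.natDegree = d)
    (C₀ : Submodule F V) (hC₀ : ∀ v ∈ C₀, aeval y h v = 0) :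
    ∀ W : Submodule F V, W ≤ C₀ → Inv y W → W ≠ ⊥ →
      ∃ Z : Submodule F V, Z ≤ W ∧ Inv y Z ∧ finrank F Z = d := by
  intro W hWC hW hWne
  obtain ⟨w, hwW, hw0⟩ := Submodule.exists_mem_ne_zero_of_ne_bot hWne
  obtain ⟨g, hg, hgh, v, hv, hv0, hgv⟩ :=
    exists_irreducible_kernel y W hW h h0 w hwW hw0 (hC₀ w (hWC hwW))
  obtain ⟨Z, hZ, hZinv, hZd⟩ := exists_cyclic y W hW g hg v hv hv0 hgv
  exact ⟨Z, hZ, hZinv, by rw [hZd, hd g hg hgh]⟩

end

end Cfsg.Agent.Lib.Helper9.H9Elus
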