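import Mathlib
import Cfsg.Agent.Lib.Helper9.Elus2

set_option autoImplicit false

/-! Elements `y` with `y ^ r = 1` over a finite field: invariant subspaces. -/

namespace Cfsg.Agent.Lib.Helper9.H9Elus

open Module Polynomial
open Cfsg.Agent.H9SemiInv

section
variable {F : Type*} [Field F] [Fintype F] {p : ℕ} [Fact p.Prime] [CharP F p]

/-- Degree of the irreducible factors of the `r`-th cyclotomic polynomial. -/
theorem natDegree_of_dvd_cyclotomic (r : ℕ) [Fact r.Prime] (hrp : r ≠ p) (g : F[X])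
    (hg : Irreducible g) (hgd : g ∣ cyclotomic r F) :
    g.natDegree = orderOf ((Fintype.card F : ℕ) : ZMod r) := by
  obtain ⟨f, hp, hf⟩ := FiniteField.card F p
  have hcop : p.Coprime r := by
    rw [Nat.coprime_primes hp (Fact.out : r.Prime)]
    exact fun h => hrp h.symm
  have h := natDegree_of_dvd_cyclotomic_of_irreducible (K := F) (p := p) (f := (f : ℕ)) (n := r)
    hf hcop hgd hg
  rw [h, ← orderOf_units, ZMod.coe_unitOfCoprime, hf]

theorem natDegree_of_dvd_X_pow_sub_one (r : ℕ) [Fact r.Prime] (hrp : r ≠ p) (g : F[X])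
    (hg : Irreducible g) (hgd : g ∣ X ^ r - 1) :
    g.natDegree = 1 ∨ g.natDegree = orderOf ((Fintype.card F : ℕ) : ZMod r) := by
  rw [← cyclotomic_prime_mul_X_sub_one F r] at hgd
  rcases (hg.prime.dvd_or_dvd hgd) with h | h
  · right
    exact natDegree_of_dvd_cyclotomic r hrp g hg h
  · left
    have h1 : (X - 1 : F[X]) = X - C 1 := by simp
    rw [h1] at h
    have h2 : Irreducible (X - C (1 : F)) := irreducible_X_sub_C 1
    have h3 := (hg.associated_of_dvd h2 h)
    rw [natDegree_eq_of_degree_eq (degree_eq_degree_of_associated h3), natDegree_X_sub_C]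

theorem cast_ne_zero_of_ne (r : ℕ) [Fact r.Prime] (hrp : r ≠ p) : ((r : ℕ) : F) ≠ 0 := by
  intro h
  have h1 := (CharP.cast_eq_zero_iff F p r).mp h
  have hr : r.Prime := Fact.out
  have hp : p.Prime := Fact.out
  exact hrp ((Nat.prime_dvd_prime_iff_eq hp hr).mp h1).symm

theorem isCoprime_X_sub_one_cyclotomic (r : ℕ) [Fact r.Prime] (hrp : r ≠ p) :
    IsCoprime (X - 1 : F[X]) (cyclotomic r F) := by
  have h1 : (X - 1 : F[X]) = X - C 1 := by simp
  rw [h1, (irreducible_X_sub_C (1 : F)).coprime_iff_not_dvd, dvd_iff_isRoot, IsRoot.def,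
    eval_one_cyclotomic_prime]
  exact cast_ne_zero_of_ne r hrp

end

section
variable {F V : Type*} [Field F] [Fintype F] {p : ℕ} [Fact p.Prime] [CharP F p]
  [AddCommGroup V] [Module F V] [FiniteDimensional F V]

theorem isSemisimple_of_pow_eq_one (r : ℕ) [Fact r.Prime] (hrp : r ≠ p) (y : V →ₗ[F] V)
    (hy : y ^ r = 1) : Module.End.IsSemisimple y := by
  have hsep : (X ^ r - C (1 : F)).Separable :=
    separable_X_pow_sub_C 1 (cast_ne_zero_of_ne r hrp) one_ne_zero
  apply Module.End.isSemisimple_of_squarefree_aeval_eq_zero hsep.squarefree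
  rw [map_sub, map_pow, aeval_X, aeval_C, hy, map_one, sub_self]

/-- The fixed space and the cyclotomic kernel are complementary. -/
theorem isCompl_ker (r : ℕ) [Fact r.Prime] (hrp : r ≠ p) (y : V →ₗ[F] V) (hy : y ^ r = 1) :
    IsCompl (LinearMap.ker (aeval y (X - 1 : F[X])))
      (LinearMap.ker (aeval y (cyclotomic r F))) := by
  have hcop := isCoprime_X_sub_one_cyclotomic (F := F) r hrp
  constructor
  · exact disjoint_ker_aeval_of_isCoprime y hcop
  · rw [codisjoint_iff, sup_ker_aeval_eq_ker_aeval_mul_of_coprime y hcop,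
      mul_comm, cyclotomic_prime_mul_X_sub_one, LinearMap.ker_eq_top]
    rw [map_sub, map_pow, aeval_X, map_one, hy, sub_self]

theorem inv_ker_aeval (y : V →ₗ[F] V) (s : F[X]) : Inv y (LinearMap.ker (aeval y s)) := by
  intro v hv
  rw [LinearMap.mem_ker] at hv ⊢
  have : aeval y s (y v) = y (aeval y s v) := by
    have h1 : aeval y s * y = y * aeval y s := by
      have e1 : aeval y (s * X) = aeval y s * y := by rw [map_mul, aeval_X]
      have e2 : aeval y (X * s) = y * aeval y s := by rw [map_mul, aeval_X]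
      rw [← e1, ← e2, mul_comm]
    have := congrArg (fun f : V →ₗ[F] V => f v) h1
    simpa [Module.End.mul_apply] using this
  rw [this, hv, map_zero]

/-- Minimal invariant subspaces of the cyclotomic kernel have dimension `i`. -/
theorem hmin_cyclotomic (r : ℕ) [Fact r.Prime] (hrp : r ≠ p) (y : V →ₗ[F] V)
    (W : Submodule F V) (hWV : W ≤ LinearMap.ker (aeval y (cyclotomic r F))) (hW : Inv y W)
    (hne : W ≠ ⊥) :
    ∃ Z : Submodule F V, Z ≤ W ∧ Inv y Z ∧
      finrank F Z = orderOf ((Fintype.card F : ℕ) : ZMod r) :=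
  exists_inv_finrank_eq y (cyclotomic r F) (cyclotomic_ne_zero r F) _
    (fun g hg hgd => natDegree_of_dvd_cyclotomic r hrp g hg hgd)
    (LinearMap.ker (aeval y (cyclotomic r F))) (fun v hv => LinearMap.mem_ker.mp hv) W hWV hW hne

theorem order_pos (r : ℕ) [Fact r.Prime] (hrp : r ≠ p) :
    1 ≤ orderOf ((Fintype.card F : ℕ) : ZMod r) := by
  have hr : r.Prime := Fact.out
  have hp : p.Prime := Fact.out
  obtain ⟨f, -, hf⟩ := FiniteField.card F p
  have hcop : (Fintype.card F).Coprime r := by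
    rw [hf]
    apply Nat.Coprime.pow_left
    rw [Nat.coprime_primes hp hr]
    exact fun h => hrp h.symm
  have hu : IsUnit ((Fintype.card F : ℕ) : ZMod r) := (ZMod.isUnit_iff_coprime _ _).mpr hcop
  obtain ⟨u, hu⟩ := hu
  rw [← hu, orderOf_units]
  exact orderOf_pos u

/-- Shape of the dimension of an invariant subspace. -/
theorem finrank_inv_form (r : ℕ) [Fact r.Prime] (hrp : r ≠ p) (y : V →ₗ[F] V) (hy : y ^ r = 1)
    (W : Submodule F V) (hW : Inv y W) :
    ∃ s e, finrank F W = orderOf ((Fintype.card F : ℕ) : ZMod r) * s + e ∧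
      e ≤ finrank F (LinearMap.ker (aeval y (X - 1 : F[X]))) := by
  set i := orderOf ((Fintype.card F : ℕ) : ZMod r) with hi
  set E := LinearMap.ker (aeval y (X - 1 : F[X])) with hE
  set V' := LinearMap.ker (aeval y (cyclotomic r F)) with hV'
  have hss := isSemisimple_of_pow_eq_one r hrp y hy
  have hV'inv : Inv y V' := inv_ker_aeval y _
  have hW'inv : Inv y (W ⊓ V') := hW.inf hV'inv
  have hdvd := (exists_inv_mul y hss i (order_pos r hrp) (W ⊓ V') hW'inv
    (fun Z hZ hZinv hZne => hmin_cyclotomic r hrp y Z (hZ.trans inf_le_right) hZinv hZne)).1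
  obtain ⟨s, hs⟩ := hdvd
  have hc := isCompl_ker r hrp y hy
  have h1 := Submodule.finrank_sup_add_finrank_inf_eq W V'
  have h2 := Submodule.finrank_add_eq_of_isCompl hc
  have h3 : finrank F ↥(W ⊔ V') ≤ finrank F V := Submodule.finrank_le _
  refine ⟨s, finrank F W - finrank F ↥(W ⊓ V'), ?_, ?_⟩
  · have : finrank F ↥(W ⊓ V') ≤ finrank F W := Submodule.finrank_mono inf_le_left
    omega
  · rw [← hE, ← hV'] at h2
    omega

/-- Existence of invariant subspaces of a prescribed shape. -/
theorem exists_inv_of_form (r : ℕ) [Fact r.Prime] (hrp : r ≠ p) (y : V →ₗ[F] V) (hy : y ^ r = 1)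
    (t e : ℕ) (he : e ≤ finrank F (LinearMap.ker (aeval y (X - 1 : F[X]))))
    (ht : orderOf ((Fintype.card F : ℕ) : ZMod r) * t ≤
      finrank F (LinearMap.ker (aeval y (cyclotomic r F)))) :
    ∃ W : Submodule F V, Inv y W ∧
      finrank F W = orderOf ((Fintype.card F : ℕ) : ZMod r) * t + e := by
  set i := orderOf ((Fintype.card F : ℕ) : ZMod r) with hi
  set E := LinearMap.ker (aeval y (X - 1 : F[X])) with hE
  set V' := LinearMap.ker (aeval y (cyclotomic r F)) with hV'
  have hss := isSemisimple_of_pow_eq_one r hrp y hy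
  have hV'inv : Inv y V' := inv_ker_aeval y _
  obtain ⟨W₁, hW₁, hW₁inv, hW₁d⟩ := (exists_inv_mul y hss i (order_pos r hrp) V' hV'inv
    (fun Z hZ hZinv hZne => hmin_cyclotomic r hrp y Z hZ hZinv hZne)).2 t ht
  obtain ⟨E₁, hE₁, hE₁d⟩ := exists_sub_finrank E e he
  have hE₁inv : Inv y E₁ := by
    intro v hv
    have h1 : v ∈ E := hE₁ hv
    rw [hE, LinearMap.mem_ker, map_sub, aeval_X, map_one, LinearMap.sub_apply,
      Module.End.one_apply, sub_eq_zero] at h1
    rw [h1]
    exact hv
  have hc := isCompl_ker r hrp y hy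
  have hdisj : Disjoint W₁ E₁ := (hc.disjoint.mono hE₁ hW₁).symm
  exact ⟨W₁ ⊔ E₁, hW₁inv.sup hE₁inv, by rw [finrank_sup_of_disjoint hdisj, hW₁d, hE₁d]⟩

/-- `i` divides the dimension of the cyclotomic kernel. -/
theorem order_dvd_finrank_ker (r : ℕ) [Fact r.Prime] (hrp : r ≠ p) (y : V →ₗ[F] V)
    (hy : y ^ r = 1) :
    orderOf ((Fintype.card F : ℕ) : ZMod r) ∣
      finrank F (LinearMap.ker (aeval y (cyclotomic r F))) := by
  have hss := isSemisimple_of_pow_eq_one r hrp y hy
  exact (exists_inv_mul y hss _ (order_pos r hrp) _ (inv_ker_aeval y _)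
    (fun Z hZ hZinv hZne => hmin_cyclotomic r hrp y Z hZ hZinv hZne)).1

/-- The existence criterion: `m % i ≤ n % i` suffices. -/
theorem exists_inv_of_mod (r : ℕ) [Fact r.Prime] (hrp : r ≠ p) (y : V →ₗ[F] V) (hy : y ^ r = 1)
    (m : ℕ) (hm : m ≤ finrank F V)
    (hmod : m % orderOf ((Fintype.card F : ℕ) : ZMod r) ≤
      finrank F V % orderOf ((Fintype.card F : ℕ) : ZMod r)) :
    ∃ W : Submodule F V, Inv y W ∧ finrank F W = m := by
  set i := orderOf ((Fintype.card F : ℕ) : ZMod r) with hi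
  have hi1 : 1 ≤ i := order_pos r hrp
  have hc := isCompl_ker r hrp y hy
  have h2 := Submodule.finrank_add_eq_of_isCompl hc
  obtain ⟨b, hb⟩ := order_dvd_finrank_ker r hrp y hy
  set a := finrank F (LinearMap.ker (aeval y (X - 1 : F[X]))) with ha
  set n := finrank F V with hn
  rw [← hi] at hb
  -- a ≡ n mod i
  have hmodn : n % i = a % i := by
    rw [← h2, hb, Nat.add_mul_mod_self_left]
  have han : n % i ≤ a := by
    rw [hmodn]; exact Nat.mod_le _ _
  by_cases hcase : i * (m / i) ≤ i * b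
  · obtain ⟨W, hW, hWd⟩ := exists_inv_of_form r hrp y hy (m / i) (m % i)
      (by omega) (by rw [hb]; exact hcase)
    refine ⟨W, hW, ?_⟩
    rw [hWd]
    exact Nat.div_add_mod m i
  · obtain ⟨W, hW, hWd⟩ := exists_inv_of_form r hrp y hy b (m - i * b)
      (by
        have := Nat.div_add_mod m i
        have h5 : i * (m / i) ≤ m := Nat.mul_div_le m i
        omega) (by rw [hb])
    refine ⟨W, hW, ?_⟩
    rw [hWd]
    have h5 : i * (m / i) ≤ m := Nat.mul_div_le m i
    show i * b + (m - i * b) = m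
    omega

end

end Cfsg.Agent.Lib.Helper9.H9Elus
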