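import Mathlib
import Cfsg.Agent.Lib.Helper8.Gl69Defs

set_option autoImplicit false
set_option linter.style.haveILetI false
set_option linter.unusedSectionVars false
set_option linter.deprecated false

/-! S4359, package G1b: the canonical generators `x_i = g⁻ⁱ x₀ gⁱ`. -/

namespace Cfsg.Agent.Lib.Helper8.Gl69

open scoped Pointwise

universe u

variable {G : Type u} [Group G]

/-- `P_{a,a+d} = P_a ⊓ … ⊓ P_{a+d}` -/
def g1b_win (P : Subgroup G) (g : G) (a : ℤ) (d : ℕ) : Subgroup G :=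
  ⨅ k ∈ Finset.range (d + 1), cj P g (a + (k : ℤ))

theorem g1b_mem_win {P : Subgroup G} {g : G} {a : ℤ} {d : ℕ} {y : G} :
    y ∈ g1b_win P g a d ↔ ∀ k : ℕ, k ≤ d → y ∈ cj P g (a + (k : ℤ)) := by
  unfold g1b_win
  simp only [Subgroup.mem_iInf, Finset.mem_range]
  constructor
  · intro h k hk
    exact h k (by omega)
  · intro h k hk
    exact h k (by omega)

theorem g1b_mem_chain {P : Subgroup G} {g : G} {d : ℕ} {y : G} :
    y ∈ chain P g d ↔ ∀ k : ℕ, k ≤ d → y ∈ cj P g (k : ℤ) := by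
  unfold chain
  simp only [Subgroup.mem_iInf, Finset.mem_range]
  constructor
  · intro h k hk
    exact h k (by omega)
  · intro h k hk
    exact h k (by omega)

/-- conjugation shifts the index -/
theorem g1b_mem_cj_shift {P : Subgroup G} {g : G} (a s : ℤ) (y : G) :
    y ∈ cj P g (a + s) ↔ g ^ s * y * (g ^ s)⁻¹ ∈ cj P g a := by
  rw [mem_cj, mem_cj, zpow_add]
  have e : g ^ a * g ^ s * y * (g ^ a * g ^ s)⁻¹ = g ^ a * (g ^ s * y * (g ^ s)⁻¹) * (g ^ a)⁻¹ := by
    group
  rw [e]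

theorem g1b_mem_win_shift {P : Subgroup G} {g : G} (a : ℤ) (d : ℕ) (y : G) :
    y ∈ g1b_win P g a d ↔ g ^ a * y * (g ^ a)⁻¹ ∈ chain P g d := by
  rw [g1b_mem_win, g1b_mem_chain]
  constructor
  · intro h k hk
    have := h k hk
    rw [add_comm, g1b_mem_cj_shift] at this
    exact this
  · intro h k hk
    have := h k hk
    rw [add_comm, g1b_mem_cj_shift]
    exact this

/-- the windows `P_{a,a+d}` all have the order of `P_{0,d}` -/
theorem g1b_card_win (P : Subgroup G) (g : G) (a : ℤ) (d : ℕ) :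
    Nat.card (g1b_win P g a d) = Nat.card (chain P g d) := by
  apply Nat.card_congr
  refine
    { toFun := fun y => ⟨g ^ a * y * (g ^ a)⁻¹, (g1b_mem_win_shift a d _).1 y.2⟩
      invFun := fun y => ⟨(g ^ a)⁻¹ * y * g ^ a, ?_⟩
      left_inv := ?_
      right_inv := ?_ }
  · rw [g1b_mem_win_shift]
    have e : g ^ a * ((g ^ a)⁻¹ * (y : G) * g ^ a) * (g ^ a)⁻¹ = (y : G) := by group
    rw [e]; exact y.2
  · intro y
    apply Subtype.ext
    show (g ^ a)⁻¹ * (g ^ a * (y : G) * (g ^ a)⁻¹) * g ^ a = (y : G)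
    group
  · intro y
    apply Subtype.ext
    show g ^ a * ((g ^ a)⁻¹ * (y : G) * g ^ a) * (g ^ a)⁻¹ = (y : G)
    group

theorem g1b_win_anti (P : Subgroup G) (g : G) (a : ℤ) {d d' : ℕ} (h : d ≤ d') :
    g1b_win P g a d' ≤ g1b_win P g a d := by
  intro y hy
  rw [g1b_mem_win] at hy ⊢
  intro k hk
  exact hy k (by omega)

/-- the sequence `x_i = g⁻ⁱ x₀ gⁱ` -/
def g1b_seq (g x₀ : G) (i : ℤ) : G := (g ^ i)⁻¹ * x₀ * g ^ i

theorem g1b_seq_shift (g x₀ : G) (i : ℤ) :
    g1b_seq g x₀ (i + 1) = g⁻¹ * g1b_seq g x₀ i * g := by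
  unfold g1b_seq
  rw [zpow_add, zpow_one]
  group

theorem g1b_seq_eq_one {g x₀ : G} {i : ℤ} (h : g1b_seq g x₀ i = 1) : x₀ = 1 := by
  unfold g1b_seq at h
  have : x₀ = g ^ i * ((g ^ i)⁻¹ * x₀ * g ^ i) * (g ^ i)⁻¹ := by group
  rw [this, h]; group

/-- `x_i ∈ P_j` for `i ≤ j ≤ i + t - 1` -/
theorem g1b_seq_mem {P : Subgroup G} {g x₀ : G} {d : ℕ} (hx : x₀ ∈ chain P g d) (i : ℤ) (m : ℕ)
    (hm : m ≤ d) : g1b_seq g x₀ i ∈ cj P g (i + (m : ℤ)) := by
  rw [add_comm, g1b_mem_cj_shift]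
  have e : g ^ i * g1b_seq g x₀ i * (g ^ i)⁻¹ = x₀ := by
    unfold g1b_seq; group
  rw [e]
  exact (g1b_mem_chain.1 hx) m hm

theorem g1b_seq_mem' {P : Subgroup G} {g x₀ : G} {d : ℕ} (hx : x₀ ∈ chain P g d) (i j : ℤ)
    (h1 : i ≤ j) (h2 : j ≤ i + d) : g1b_seq g x₀ i ∈ cj P g j := by
  obtain ⟨m, hm⟩ : ∃ m : ℕ, (m : ℤ) = j - i := ⟨(j - i).toNat, by omega⟩
  have := g1b_seq_mem hx i m (by omega)
  have e : i + (m : ℤ) = j := by omega
  rwa [e] at this

variable [Finite G]

/-- the main induction: the window `⟨x_a, …, x_{a+k-1}⟩` is `P_{a+k-1,a+t-1}` -/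
theorem g1b_window (P : Subgroup G) (g : G) (p : ℕ) (hp : p.Prime) (t : ℕ) (ht : 1 ≤ t)
    (hc : ∀ i : ℕ, i ≤ t → Nat.card (chain P g i) = p ^ (t - i))
    (x₀ : G) (hx : x₀ ∈ chain P g (t - 1)) (hx1 : x₀ ≠ 1) :
    ∀ k : ℕ, k ≤ t → ∀ a : ℤ,
      Subgroup.closure (g1b_seq g x₀ '' Set.Ico a (a + k)) = g1b_win P g (a + k - 1) (t - k) := by
  intro k
  induction k with
  | zero =>
    intro _ a
    have h1 : Set.Ico a (a + ((0 : ℕ) : ℤ)) = ∅ := by
      rw [Nat.cast_zero, add_zero]; exact Set.Ico_self a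
    rw [h1, Set.image_empty, Subgroup.closure_empty]
    symm
    apply Subgroup.card_eq_one.1
    rw [g1b_card_win, Nat.sub_zero, hc t le_rfl, Nat.sub_self, pow_zero]
  | succ k ih =>
    intro hk a
    have ih' := ih (by omega) (a + 1)
    -- the lower window
    obtain ⟨W', hW'⟩ : ∃ W' : Subgroup G,
        W' = Subgroup.closure (g1b_seq g x₀ '' Set.Ico (a + 1) (a + 1 + k)) := ⟨_, rfl⟩
    obtain ⟨W, hW⟩ : ∃ W : Subgroup G,
        W = Subgroup.closure (g1b_seq g x₀ '' Set.Ico a (a + ((k + 1 : ℕ) : ℤ))) := ⟨_, rfl⟩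
    rw [← hW]
    rw [← hW'] at ih'
    have e1 : a + 1 + (k : ℤ) - 1 = a + k := by ring
    rw [e1] at ih'
    have e2 : a + ((k + 1 : ℕ) : ℤ) - 1 = a + k := by push_cast; ring
    rw [e2]
    have hcardW' : Nat.card W' = p ^ k := by
      rw [ih', g1b_card_win, hc (t - k) (by omega)]
      congr 1; omega
    have hcardR : Nat.card (g1b_win P g (a + k) (t - (k + 1))) = p ^ (k + 1) := by
      rw [g1b_card_win, hc (t - (k + 1)) (by omega)]
      congr 1; omega
    have hW'W : W' ≤ W := by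
      rw [hW, hW']
      apply Subgroup.closure_mono
      apply Set.image_mono
      intro i hi
      rw [Set.mem_Ico] at hi ⊢
      push_cast
      omega
    have hxaW : g1b_seq g x₀ a ∈ W := by
      rw [hW]
      apply Subgroup.subset_closure
      refine ⟨a, ?_, rfl⟩
      rw [Set.mem_Ico]
      push_cast
      omega
    have hWR : W ≤ g1b_win P g (a + k) (t - (k + 1)) := by
      rw [hW, Subgroup.closure_le]
      rintro _ ⟨i, hi, rfl⟩
      rw [Set.mem_Ico] at hi
      push_cast at hi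
      rw [SetLike.mem_coe, g1b_mem_win]
      intro m hm
      apply g1b_seq_mem' hx
      · omega
      · have : ((t - 1 : ℕ) : ℤ) = (t : ℤ) - 1 := by omega
        rw [this]
        omega
    have hxaW' : g1b_seq g x₀ a ∉ W' := by
      intro h
      rw [ih', g1b_mem_win] at h
      have h1 := h (t - k) le_rfl
      have h2 : g1b_seq g x₀ a ∈ g1b_win P g a t := by
        rw [g1b_mem_win]
        intro m hm
        rcases Nat.lt_or_ge m t with hmt | hmt
        · exact g1b_seq_mem hx a m (by omega)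
        · have : m = t := by omega
          rw [this]
          have e : a + (k : ℤ) + ((t - k : ℕ) : ℤ) = a + (t : ℤ) := by omega
          rwa [e] at h1
      have h3 : g1b_win P g a t = ⊥ := by
        apply Subgroup.card_eq_one.1
        rw [g1b_card_win, hc t le_rfl, Nat.sub_self, pow_zero]
      rw [h3, Subgroup.mem_bot] at h2
      exact hx1 (g1b_seq_eq_one h2)
    -- orders
    have hd1 : Nat.card W' ∣ Nat.card W := Subgroup.card_dvd_of_le hW'W
    have hd2 : Nat.card W ∣ Nat.card (g1b_win P g (a + k) (t - (k + 1))) :=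
      Subgroup.card_dvd_of_le hWR
    rw [hcardR] at hd2
    rw [hcardW'] at hd1
    obtain ⟨j, hj, hWj⟩ := (Nat.dvd_prime_pow hp).1 hd2
    have hjk : k ≤ j := by
      rw [hWj] at hd1
      exact (Nat.pow_dvd_pow_iff_le_right hp.one_lt).1 hd1
    have hj1 : j = k + 1 := by
      rcases Nat.lt_or_ge j (k + 1) with h | h
      · exfalso
        have hjk' : j = k := by omega
        have : W' = W := by
          apply Subgroup.eq_of_le_of_card_ge hW'W
          rw [hcardW', hWj, hjk']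
        rw [← this] at hxaW
        exact hxaW' hxaW
      · omega
    apply Subgroup.eq_of_le_of_card_ge hWR
    rw [hcardR, hWj, hj1]

theorem exists_seq (P : Subgroup G) (g : G) (p : ℕ) (hp : p.Prime) (t : ℕ) (ht : 1 ≤ t)
    (hc : ∀ i : ℕ, i ≤ t → Nat.card (chain P g i) = p ^ (t - i)) :
    ∃ x : ℤ → G, Seq p t g x ∧
      ∀ i : ℤ, cj P g i = Subgroup.closure (x '' Set.Ico (i - t + 1) (i + 1)) := by
  -- a nontrivial element of `P_{0,t-1}`
  have hcard : Nat.card (chain P g (t - 1)) = p := by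
    rw [hc (t - 1) (by omega)]
    have : t - (t - 1) = 1 := by omega
    rw [this, pow_one]
  haveI : Nontrivial ↥(chain P g (t - 1)) := by
    rw [← Finite.one_lt_card_iff_nontrivial, hcard]
    exact hp.one_lt
  obtain ⟨y, hy⟩ := exists_ne (1 : ↥(chain P g (t - 1)))
  have hx : (y : G) ∈ chain P g (t - 1) := y.2
  have hx1 : (y : G) ≠ 1 := fun h => hy (Subtype.ext h)
  have hwin := g1b_window P g p hp t ht hc (y : G) hx hx1
  refine ⟨g1b_seq g (y : G), ⟨g1b_seq_shift g (y : G), ?_⟩, ?_⟩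
  · intro a k hk
    rw [hwin k hk a, g1b_card_win, hc (t - k) (by omega)]
    congr 1; omega
  · intro i
    have h1 := hwin t le_rfl (i - t + 1)
    have e1 : i - (t : ℤ) + 1 + (t : ℤ) = i + 1 := by ring
    have e2 : i + 1 - 1 = i := by ring
    rw [e1] at h1
    rw [h1, e2, Nat.sub_self]
    ext z
    rw [g1b_mem_win]
    constructor
    · intro hz k hk
      have : k = 0 := by omega
      rw [this, Nat.cast_zero, add_zero]
      exact hz
    · intro hz
      have := hz 0 le_rfl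
      rwa [Nat.cast_zero, add_zero] at this

end Cfsg.Agent.Lib.Helper8.Gl69
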