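import Mathlib
import Cfsg.Prelude.Def_Sporadic_a

set_option autoImplicit false

/-! Basic facts on binary words `α → ZMod 2`: supports, weights, indicator words. -/

namespace Cfsg.Agent.Lib.Helper9

open Finset

section
variable {α : Type*} [Fintype α] [DecidableEq α]

theorem zmod2_cases : ∀ x : ZMod 2, x = 0 ∨ x = 1 := by
  decide

theorem zmod2_ne_zero_iff : ∀ x : ZMod 2, x ≠ 0 ↔ x = 1 := by
  decide

theorem hammingNorm_eq_card_support₂ (w : α → ZMod 2) : hammingNorm w = (Cfsg.support₂ w).card := by
  unfold hammingNorm Cfsg.support₂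
  rfl

theorem mem_support₂ (w : α → ZMod 2) (i : α) : i ∈ Cfsg.support₂ w ↔ w i = 1 := by
  unfold Cfsg.support₂
  rw [mem_filter, zmod2_ne_zero_iff]
  simp

theorem mem_support₂' (w : α → ZMod 2) (i : α) : i ∈ Cfsg.support₂ w ↔ w i ≠ 0 := by
  unfold Cfsg.support₂
  rw [mem_filter]
  simp

theorem support₂_injective : Function.Injective (Cfsg.support₂ : (α → ZMod 2) → Finset α) := by
  intro u v h
  funext i
  have h1 : i ∈ Cfsg.support₂ u ↔ i ∈ Cfsg.support₂ v := by rw [h]
  rw [mem_support₂, mem_support₂] at h1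
  rcases zmod2_cases (u i) with hu | hu <;> rcases zmod2_cases (v i) with hv | hv
  · rw [hu, hv]
  · exact absurd (h1.2 hv) (by rw [hu]; decide)
  · exact absurd (h1.1 hu) (by rw [hv]; decide)
  · rw [hu, hv]

theorem sub_eq_add_word (u v : α → ZMod 2) : u - v = u + v := by
  funext i
  show u i - v i = u i + v i
  exact CharTwo.sub_eq_add _ _

theorem add_self_word (u : α → ZMod 2) : u + u = 0 := by
  funext i
  show u i + u i = 0
  exact CharTwo.add_self_eq_zero _

theorem support₂_add (u v : α → ZMod 2) :
    Cfsg.support₂ (u + v) = symmDiff (Cfsg.support₂ u) (Cfsg.support₂ v) := by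
  ext i
  rw [Finset.mem_symmDiff, mem_support₂, mem_support₂, mem_support₂]
  show u i + v i = 1 ↔ _
  rcases zmod2_cases (u i) with hu | hu <;> rcases zmod2_cases (v i) with hv | hv <;>
    rw [hu, hv] <;> decide

theorem card_symmDiff_add (s t : Finset α) : (symmDiff s t).card + 2 * (s ∩ t).card = s.card + t.card := by
  have h1 : symmDiff s t = (s \ t) ∪ (t \ s) := rfl
  have hd : Disjoint (s \ t) (t \ s) := by
    rw [Finset.disjoint_left]
    intro x hx hx'
    rw [Finset.mem_sdiff] at hx hx'
    exact hx.2 hx'.1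
  rw [h1, Finset.card_union_of_disjoint hd]
  have h2 := Finset.card_sdiff_add_card_inter s t
  have h3 := Finset.card_sdiff_add_card_inter t s
  rw [Finset.inter_comm t s] at h3
  omega

theorem wt_add (u v : α → ZMod 2) :
    hammingNorm (u + v) + 2 * (Cfsg.support₂ u ∩ Cfsg.support₂ v).card = hammingNorm u + hammingNorm v := by
  rw [hammingNorm_eq_card_support₂, hammingNorm_eq_card_support₂, hammingNorm_eq_card_support₂, support₂_add]
  exact card_symmDiff_add _ _

/-- The indicator word of a set of coordinates. -/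
def indW (s : Finset α) : α → ZMod 2 := fun i => if i ∈ s then 1 else 0

theorem support₂_indW (s : Finset α) : Cfsg.support₂ (indW s) = s := by
  ext i
  rw [mem_support₂]
  unfold indW
  by_cases h : i ∈ s
  · simp [h]
  · simp [h]

theorem indW_support₂ (w : α → ZMod 2) : indW (Cfsg.support₂ w) = w :=
  support₂_injective (support₂_indW _)

theorem hammingNorm_indW (s : Finset α) : hammingNorm (indW s) = s.card := by
  rw [hammingNorm_eq_card_support₂, support₂_indW]

theorem hammingNorm_eq_zero_iff (w : α → ZMod 2) : hammingNorm w = 0 ↔ w = 0 :=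
  hammingNorm_eq_zero

/-- The number of words of weight `k`. -/
theorem card_filter_wt_eq (k : ℕ) :
    (univ.filter (fun u : α → ZMod 2 => hammingNorm u = k)).card = (Fintype.card α).choose k := by
  rw [← Finset.card_univ, ← Finset.card_powersetCard]
  apply Finset.card_bij (fun u _ => Cfsg.support₂ u)
  · intro u hu
    rw [mem_filter] at hu
    rw [mem_powersetCard]
    exact ⟨subset_univ _, by rw [← hammingNorm_eq_card_support₂]; exact hu.2⟩
  · intro u _ v _ h
    exact support₂_injective h
  · intro s hs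
    rw [mem_powersetCard] at hs
    refine ⟨indW s, ?_, support₂_indW s⟩
    rw [mem_filter]
    exact ⟨mem_univ _, by rw [hammingNorm_indW]; exact hs.2⟩

/-- The dot product of two binary words is the parity of the intersection of their supports. -/
theorem dot_eq_card_inter (u v : α → ZMod 2) :
    ∑ i, u i * v i = ((Cfsg.support₂ u ∩ Cfsg.support₂ v).card : ZMod 2) := by
  rw [Finset.card_eq_sum_ones, Nat.cast_sum, ← Finset.sum_filter_add_sum_filter_not univ (fun i => i ∈ Cfsg.support₂ u ∩ Cfsg.support₂ v)]
  have h1 : ∑ i ∈ univ.filter (fun i => ¬ i ∈ Cfsg.support₂ u ∩ Cfsg.support₂ v), u i * v i = 0 := by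
    apply Finset.sum_eq_zero
    intro i hi
    rw [mem_filter, Finset.mem_inter, mem_support₂, mem_support₂] at hi
    rcases zmod2_cases (u i) with hu | hu
    · rw [hu, zero_mul]
    · rcases zmod2_cases (v i) with hv | hv
      · rw [hv, mul_zero]
      · exact absurd ⟨hu, hv⟩ hi.2
  rw [h1, add_zero]
  have h2 : univ.filter (fun i => i ∈ Cfsg.support₂ u ∩ Cfsg.support₂ v) = Cfsg.support₂ u ∩ Cfsg.support₂ v := by
    ext i
    simp
  rw [h2]
  apply Finset.sum_congr rfl
  intro i hi
  rw [Finset.mem_inter, mem_support₂, mem_support₂] at hi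
  rw [hi.1, hi.2]
  simp

theorem dot_eq_zero_iff_even (u v : α → ZMod 2) :
    ∑ i, u i * v i = 0 ↔ Even (Cfsg.support₂ u ∩ Cfsg.support₂ v).card := by
  rw [dot_eq_card_inter, ZMod.natCast_eq_zero_iff_even]

end

end Cfsg.Agent.Lib.Helper9
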