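import Mathlib
import Cfsg.Agent.Lib.Helper9.Golay1

set_option autoImplicit false

/-! Abstract Golay codes: the coset-leader count. -/

namespace Cfsg.Agent.Lib.Helper9.GolayG

open Cfsg.Agent.Lib.Helper9

open Finset

section
variable {α : Type*} [Fintype α] [DecidableEq α]

/-- Hypotheses of an abstract extended binary Golay code. -/
structure IsAbsGolay (C : Submodule (ZMod 2) (α → ZMod 2)) : Prop where
  hcard : Fintype.card α = 24
  hdim : Module.finrank (ZMod 2) C = 12
  horth : ∀ v ∈ C, ∀ w ∈ C, ∑ i, v i * w i = 0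
  hmin : ∀ w ∈ C, w ≠ 0 → 8 ≤ hammingNorm w

variable {C : Submodule (ZMod 2) (α → ZMod 2)}

theorem light_pair (hC : IsAbsGolay C) {u u' : α → ZMod 2} (hu : hammingNorm u ≤ 4)
    (hu' : hammingNorm u' ≤ 4) (hne : u ≠ u') (hmem : u - u' ∈ C) :
    hammingNorm u = 4 ∧ hammingNorm u' = 4 ∧ Disjoint (Cfsg.support₂ u) (Cfsg.support₂ u') := by
  have h1 : u + u' ∈ C := by rwa [← sub_eq_add_word]
  have h2 : u + u' ≠ 0 := by
    intro h
    apply hne
    rw [← sub_eq_add_word] at h
    exact sub_eq_zero.mp h
  have h3 := hC.hmin _ h1 h2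
  have h4 := wt_add u u'
  have h5 : (Cfsg.support₂ u ∩ Cfsg.support₂ u').card = 0 := by omega
  refine ⟨by omega, by omega, ?_⟩
  rw [Finset.disjoint_iff_inter_eq_empty]
  exact Finset.card_eq_zero.mp h5

theorem natCard_code (hC : IsAbsGolay C) : Nat.card C = 4096 := by
  rw [Module.natCard_eq_pow_finrank (K := ZMod 2), hC.hdim, Nat.card_zmod]
  norm_num

open Classical in
theorem card_filter_mem_code (hC : IsAbsGolay C) :
    (univ.filter (fun c : α → ZMod 2 => c ∈ C)).card = 4096 := by
  rw [← natCard_code hC, Nat.card_eq_fintype_card, Fintype.card_subtype]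

open Classical in
theorem card_filter_sub_mem (hC : IsAbsGolay C) (u : α → ZMod 2) :
    (univ.filter (fun w : α → ZMod 2 => u - w ∈ C)).card = 4096 := by
  rw [← card_filter_mem_code hC]
  apply Finset.card_bij (fun w _ => u - w)
  · intro w hw
    rw [mem_filter] at hw ⊢
    exact ⟨mem_univ _, hw.2⟩
  · intro a _ b _ h
    exact sub_right_injective h
  · intro c hc
    rw [mem_filter] at hc
    refine ⟨u - c, ?_, by abel⟩
    rw [mem_filter]
    refine ⟨mem_univ _, ?_⟩
    have : u - (u - c) = c := by abel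
    rw [this]
    exact hc.2

/-- Words of weight at most 3. -/
def lightWords3 (α : Type*) [Fintype α] [DecidableEq α] : Finset (α → ZMod 2) :=
  univ.filter (fun u => hammingNorm u ≤ 3)

/-- Words of weight 4. -/
def lightWords4 (α : Type*) [Fintype α] [DecidableEq α] : Finset (α → ZMod 2) :=
  univ.filter (fun u => hammingNorm u = 4)

theorem card_lightWords4 (hα : Fintype.card α = 24) : (lightWords4 α).card = 10626 := by
  unfold lightWords4
  rw [card_filter_wt_eq, hα]
  norm_num [Nat.choose]

theorem card_lightWords3 (hα : Fintype.card α = 24) : (lightWords3 α).card = 2325 := by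
  unfold lightWords3
  rw [Finset.card_eq_sum_card_fiberwise (f := fun u : α → ZMod 2 => hammingNorm u) (t := range 4)]
  · have h : ∀ b ∈ range 4, ((univ.filter (fun u : α → ZMod 2 => hammingNorm u ≤ 3)).filter
        (fun a => hammingNorm a = b)).card = (24 : ℕ).choose b := by
      intro b hb
      rw [mem_range] at hb
      have hcw := card_filter_wt_eq (α := α) b
      rw [hα] at hcw
      rw [← hcw, Finset.filter_filter]
      apply congrArg Finset.card
      apply Finset.filter_congr
      intro u _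
      constructor
      · exact fun h => h.2
      · intro h
        exact ⟨by omega, h⟩
    rw [Finset.sum_congr rfl h]
    norm_num [Finset.sum_range_succ, Nat.choose]
  · intro u hu
    rw [Finset.mem_coe, mem_filter] at hu
    rw [Finset.mem_coe, mem_range]
    show hammingNorm u < 4
    omega

open Classical in
/-- Light words of weight `≤ 3` in the coset of `w`. -/
noncomputable def cosetT3 (C : Submodule (ZMod 2) (α → ZMod 2)) (w : α → ZMod 2) :
    Finset (α → ZMod 2) := (lightWords3 α).filter (fun u => u - w ∈ C)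

open Classical in
/-- Words of weight `4` in the coset of `w`. -/
noncomputable def cosetT4 (C : Submodule (ZMod 2) (α → ZMod 2)) (w : α → ZMod 2) :
    Finset (α → ZMod 2) := (lightWords4 α).filter (fun u => u - w ∈ C)

theorem mem_cosetT3 (w u : α → ZMod 2) : u ∈ cosetT3 C w ↔ hammingNorm u ≤ 3 ∧ u - w ∈ C := by
  unfold cosetT3 lightWords3
  simp

theorem mem_cosetT4 (w u : α → ZMod 2) : u ∈ cosetT4 C w ↔ hammingNorm u = 4 ∧ u - w ∈ C := by
  unfold cosetT4 lightWords4
  simp

theorem sub_mem_of_coset {w u u' : α → ZMod 2} (h : u - w ∈ C) (h' : u' - w ∈ C) : u - u' ∈ C := by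
  have : u - u' = (u - w) - (u' - w) := by abel
  rw [this]
  exact C.sub_mem h h'

theorem card_cosetT3_le (hC : IsAbsGolay C) (w : α → ZMod 2) : (cosetT3 C w).card ≤ 1 := by
  rw [Finset.card_le_one]
  intro u hu u' hu'
  rw [mem_cosetT3] at hu hu'
  by_contra hne
  have := light_pair hC (by omega) (by omega) hne (sub_mem_of_coset hu.2 hu'.2)
  omega

theorem cosetT4_empty_of_T3 (hC : IsAbsGolay C) (w : α → ZMod 2) (h : (cosetT3 C w).card = 1) :
    (cosetT4 C w).card = 0 := by
  rw [Finset.card_eq_zero, Finset.eq_empty_iff_forall_notMem]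
  intro u' hu'
  obtain ⟨u, hu⟩ := Finset.card_eq_one.mp h
  have hu3 : u ∈ cosetT3 C w := by rw [hu]; exact mem_singleton_self u
  rw [mem_cosetT3] at hu3
  rw [mem_cosetT4] at hu'
  have hne : u ≠ u' := by
    rintro rfl
    omega
  have := light_pair hC (by omega) (by omega) hne (sub_mem_of_coset hu3.2 hu'.2)
  omega

theorem cosetT4_disjoint (hC : IsAbsGolay C) (w : α → ZMod 2) {u u' : α → ZMod 2}
    (hu : u ∈ cosetT4 C w) (hu' : u' ∈ cosetT4 C w) (hne : u ≠ u') :
    Disjoint (Cfsg.support₂ u) (Cfsg.support₂ u') := by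
  rw [mem_cosetT4] at hu hu'
  exact (light_pair hC (by omega) (by omega) hne (sub_mem_of_coset hu.2 hu'.2)).2.2

theorem card_cosetT4_le (hC : IsAbsGolay C) (w : α → ZMod 2) : (cosetT4 C w).card ≤ 6 := by
  have hdisj : ∀ x ∈ cosetT4 C w, ∀ y ∈ cosetT4 C w, x ≠ y →
      Disjoint (Cfsg.support₂ x) (Cfsg.support₂ y) := fun x hx y hy hne => cosetT4_disjoint hC w hx hy hne
  have h1 := Finset.card_biUnion hdisj
  have h2 : ∑ u ∈ cosetT4 C w, (Cfsg.support₂ u).card = 4 * (cosetT4 C w).card := by
    rw [Finset.sum_congr rfl (g := fun _ => 4)]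
    · rw [Finset.sum_const, smul_eq_mul, mul_comm]
    · intro u hu
      rw [mem_cosetT4] at hu
      rw [← hammingNorm_eq_card_support₂]
      exact hu.1
  have h3 : ((cosetT4 C w).biUnion Cfsg.support₂).card ≤ 24 := by
    calc ((cosetT4 C w).biUnion Cfsg.support₂).card ≤ (univ : Finset α).card := Finset.card_le_card (subset_univ _)
      _ = 24 := by rw [Finset.card_univ, hC.hcard]
  omega

open Classical in
theorem sum_card_cosetT3 (hC : IsAbsGolay C) :
    ∑ w : α → ZMod 2, (cosetT3 C w).card = 2325 * 4096 := by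
  have h := Finset.sum_card_bipartiteAbove_eq_sum_card_bipartiteBelow
    (s := (univ : Finset (α → ZMod 2))) (t := lightWords3 α) (fun w u => u - w ∈ C)
  have h1 : ∀ w : α → ZMod 2, (lightWords3 α).bipartiteAbove (fun w u => u - w ∈ C) w = cosetT3 C w := by
    intro w
    rfl
  have h2 : ∀ u ∈ lightWords3 α, ((univ : Finset (α → ZMod 2)).bipartiteBelow (fun w u => u - w ∈ C) u).card = 4096 := by
    intro u _
    exact card_filter_sub_mem hC u
  rw [Finset.sum_congr rfl (fun w _ => by rw [h1 w]), Finset.sum_congr rfl h2, Finset.sum_const,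
    card_lightWords3 hC.hcard, smul_eq_mul] at h
  exact h

open Classical in
theorem sum_card_cosetT4 (hC : IsAbsGolay C) :
    ∑ w : α → ZMod 2, (cosetT4 C w).card = 10626 * 4096 := by
  have h := Finset.sum_card_bipartiteAbove_eq_sum_card_bipartiteBelow
    (s := (univ : Finset (α → ZMod 2))) (t := lightWords4 α) (fun w u => u - w ∈ C)
  have h1 : ∀ w : α → ZMod 2, (lightWords4 α).bipartiteAbove (fun w u => u - w ∈ C) w = cosetT4 C w := by
    intro w
    rfl
  have h2 : ∀ u ∈ lightWords4 α, ((univ : Finset (α → ZMod 2)).bipartiteBelow (fun w u => u - w ∈ C) u).card = 4096 := by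
    intro u _
    exact card_filter_sub_mem hC u
  rw [Finset.sum_congr rfl (fun w _ => by rw [h1 w]), Finset.sum_congr rfl h2, Finset.sum_const,
    card_lightWords4 hC.hcard, smul_eq_mul] at h
  exact h

/-- The coset-leader dichotomy. -/
theorem coset_dichotomy (hC : IsAbsGolay C) (w : α → ZMod 2) :
    ((cosetT3 C w).card = 1 ∧ (cosetT4 C w).card = 0) ∨ ((cosetT3 C w).card = 0 ∧ (cosetT4 C w).card = 6) := by
  have hg : ∀ w : α → ZMod 2, 6 * (cosetT3 C w).card + (cosetT4 C w).card ≤ 6 := by
    intro w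
    have h1 := card_cosetT3_le hC w
    have h2 := card_cosetT4_le hC w
    by_cases h : (cosetT3 C w).card = 1
    · have := cosetT4_empty_of_T3 hC w h
      omega
    · have : (cosetT3 C w).card = 0 := by omega
      omega
  have hsum : ∑ w : α → ZMod 2, (6 * (cosetT3 C w).card + (cosetT4 C w).card) =
      ∑ _w : α → ZMod 2, 6 := by
    rw [Finset.sum_add_distrib, ← Finset.mul_sum, sum_card_cosetT3 hC, sum_card_cosetT4 hC,
      Finset.sum_const, Finset.card_univ, Fintype.card_fun, ZMod.card, hC.hcard, smul_eq_mul]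
    norm_num
  have hall : ∀ w : α → ZMod 2, 6 * (cosetT3 C w).card + (cosetT4 C w).card = 6 := by
    intro w
    by_contra hne
    have hlt : 6 * (cosetT3 C w).card + (cosetT4 C w).card < 6 := lt_of_le_of_ne (hg w) hne
    have := Finset.sum_lt_sum (s := (univ : Finset (α → ZMod 2))) (fun i _ => hg i) ⟨w, mem_univ w, hlt⟩
    rw [hsum] at this
    exact lt_irrefl _ this
  have h1 := card_cosetT3_le hC w
  have h2 := hall w
  by_cases h : (cosetT3 C w).card = 1
  · left
    exact ⟨h, cosetT4_empty_of_T3 hC w h⟩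
  · right
    have : (cosetT3 C w).card = 0 := by omega
    exact ⟨this, by omega⟩

end

end Cfsg.Agent.Lib.Helper9.GolayG
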