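import Mathlib
import Cfsg.Agent.Lib.Helper9.GolayG2

set_option autoImplicit false

/-! Abstract Golay codes: sextets and octads. -/

namespace Cfsg.Agent.Lib.Helper9.GolayG

open Cfsg.Agent.Lib.Helper9

open Finset

variable {α : Type*} [Fintype α] [DecidableEq α] {C : Submodule (ZMod 2) (α → ZMod 2)}

theorem indW_mem_cosetT4 {t : Finset α} (ht : t.card = 4) : indW t ∈ cosetT4 C (indW t) := by
  rw [mem_cosetT4, hammingNorm_indW, sub_self]
  exact ⟨ht, C.zero_mem⟩

theorem card_cosetT4_of_mem (hC : IsAbsGolay C) {w u : α → ZMod 2} (hu : u ∈ cosetT4 C w) :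
    (cosetT4 C w).card = 6 := by
  rcases coset_dichotomy hC w with ⟨_, h4⟩ | ⟨_, h4⟩
  · rw [Finset.card_eq_zero] at h4
    rw [h4] at hu
    exact absurd hu (Finset.notMem_empty _)
  · exact h4

/-- The six tetrads of a sextet cover all 24 points. -/
theorem cosetT4_cover (hC : IsAbsGolay C) {w : α → ZMod 2} (h6 : (cosetT4 C w).card = 6) (p : α) :
    ∃ u ∈ cosetT4 C w, p ∈ Cfsg.support₂ u := by
  have hdisj : ∀ x ∈ cosetT4 C w, ∀ y ∈ cosetT4 C w, x ≠ y →
      Disjoint (Cfsg.support₂ x) (Cfsg.support₂ y) := fun x hx y hy hne => cosetT4_disjoint hC w hx hy hne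
  have h1 := Finset.card_biUnion hdisj
  have h2 : ∑ u ∈ cosetT4 C w, (Cfsg.support₂ u).card = 4 * (cosetT4 C w).card := by
    rw [Finset.sum_congr rfl (g := fun _ => 4)]
    · rw [Finset.sum_const, smul_eq_mul, mul_comm]
    · intro u hu
      rw [mem_cosetT4] at hu
      rw [← hammingNorm_eq_card_support₂]
      exact hu.1
  have h3 : ((cosetT4 C w).biUnion Cfsg.support₂) = univ := by
    apply Finset.eq_univ_of_card
    rw [h1, h2, h6, hC.hcard]
  have hp : p ∈ (cosetT4 C w).biUnion Cfsg.support₂ := by rw [h3]; exact mem_univ p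
  rw [Finset.mem_biUnion] at hp
  exact hp

theorem octad_of_tetrads (hC : IsAbsGolay C) {w u u' : α → ZMod 2} (hu : u ∈ cosetT4 C w)
    (hu' : u' ∈ cosetT4 C w) (hne : u ≠ u') :
    u + u' ∈ C ∧ hammingNorm (u + u') = 8 ∧ Cfsg.support₂ (u + u') = Cfsg.support₂ u ∪ Cfsg.support₂ u' := by
  have hd := cosetT4_disjoint hC w hu hu' hne
  rw [mem_cosetT4] at hu hu'
  refine ⟨?_, ?_, ?_⟩
  · rw [← sub_eq_add_word]
    exact sub_mem_of_coset hu.2 hu'.2
  · have h := wt_add u u'
    have h0 : (Cfsg.support₂ u ∩ Cfsg.support₂ u').card = 0 := by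
      rw [Finset.card_eq_zero, ← Finset.disjoint_iff_inter_eq_empty]
      exact hd
    omega
  · rw [support₂_add]
    exact Disjoint.symmDiff_eq_sup hd

/-- Every 5-set lies in the support of a codeword of weight 8. -/
theorem exists_octad (hC : IsAbsGolay C) (s : Finset α) (hs : s.card = 5) :
    ∃ c ∈ C, hammingNorm c = 8 ∧ s ⊆ Cfsg.support₂ c := by
  obtain ⟨p, t, hpt, hins, ht⟩ := Finset.card_eq_succ.mp hs
  have hmem : indW t ∈ cosetT4 C (indW t) := indW_mem_cosetT4 ht
  have h6 := card_cosetT4_of_mem hC hmem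
  obtain ⟨u, hu, hpu⟩ := cosetT4_cover hC h6 p
  have hne : indW t ≠ u := by
    rintro rfl
    rw [support₂_indW] at hpu
    exact hpt hpu
  obtain ⟨h1, h2, h3⟩ := octad_of_tetrads hC hmem hu hne
  refine ⟨indW t + u, h1, h2, ?_⟩
  rw [h3, support₂_indW, ← hins]
  intro x hx
  rw [Finset.mem_insert] at hx
  rw [Finset.mem_union]
  rcases hx with rfl | hx
  · exact Or.inr hpu
  · exact Or.inl hx

/-- Two codewords of weight 8 sharing at least 5 points coincide. -/
theorem octad_unique (hC : IsAbsGolay C) {c c' : α → ZMod 2} (hc : c ∈ C) (hc' : c' ∈ C)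
    (h8 : hammingNorm c = 8) (h8' : hammingNorm c' = 8)
    (h5 : 5 ≤ (Cfsg.support₂ c ∩ Cfsg.support₂ c').card) : c = c' := by
  by_contra hne
  have h1 : c + c' ∈ C := C.add_mem hc hc'
  have h2 : c + c' ≠ 0 := by
    intro h
    apply hne
    rw [← sub_eq_add_word] at h
    exact sub_eq_zero.mp h
  have h3 := hC.hmin _ h1 h2
  have h4 := wt_add c c'
  omega

end Cfsg.Agent.Lib.Helper9.GolayG
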