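import Mathlib
import Cfsg.Agent.S0358
import Cfsg.Agent.S0359
import Cfsg.Agent.S0362
import Cfsg.Agent.Lib.Helper9.GolayG4

set_option autoImplicit false

/-! The concrete length-24 code `Cfsg.golayCode` satisfies the abstract Golay hypotheses. -/

namespace Cfsg.Agent.Lib.Helper9.GolayG

theorem card_golayPt : Fintype.card Cfsg.GolayPt = 24 := by
  rw [Fintype.card_option, ZMod.card]

theorem golayCode_isAbsGolay : IsAbsGolay Cfsg.golayCode where
  hcard := card_golayPt
  hdim := Cfsg.Agent.S0358.result
  horth := fun v hv w hw => Cfsg.Agent.S0362.result v w hv hw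
  hmin := by
    intro w hw hne
    have h0 : hammingNorm w ≠ 0 := by
      rw [Ne, hammingNorm_eq_zero]
      exact hne
    rcases Cfsg.Agent.S0359.result w hw with h | h | h | h | h <;> omega

end Cfsg.Agent.Lib.Helper9.GolayG
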