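import Mathlib
import Cfsg.Prelude.Def_Sporadic_a

set_option autoImplicit false

/-! Counting in Steiner systems: the number of blocks containing a given small set. -/

namespace Cfsg.Agent.Lib.Helper9

open Finset

section
variable {α : Type*} [Fintype α] [DecidableEq α]

/-- Number of `t`-subsets of `X` containing `I ⊆ X`. -/
theorem card_powersetCard_filter_superset (X I : Finset α) (hIX : I ⊆ X) (t : ℕ) (hIt : I.card ≤ t) :
    ((X.powersetCard t).filter (fun s => I ⊆ s)).card = (X.card - I.card).choose (t - I.card) := by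
  have h1 : ((X \ I).powersetCard (t - I.card)).card = (X.card - I.card).choose (t - I.card) := by
    rw [Finset.card_powersetCard, Finset.card_sdiff_of_subset hIX]
  rw [← h1]
  apply Finset.card_bij (fun s _ => s \ I)
  · intro s hs
    rw [mem_filter, mem_powersetCard] at hs
    rw [mem_powersetCard]
    refine ⟨Finset.sdiff_subset_sdiff hs.1.1 (Finset.Subset.refl I), ?_⟩
    rw [Finset.card_sdiff_of_subset hs.2, hs.1.2]
  · intro s hs s' hs' h
    rw [mem_filter] at hs hs'
    have e1 : s = (s \ I) ∪ I := (Finset.sdiff_union_of_subset hs.2).symm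
    have e2 : s' = (s' \ I) ∪ I := (Finset.sdiff_union_of_subset hs'.2).symm
    rw [e1, e2, h]
  · intro r hr
    rw [mem_powersetCard] at hr
    have hdisj : Disjoint r I := by
      rw [Finset.disjoint_left]
      intro x hx hxI
      have := hr.1 hx
      rw [Finset.mem_sdiff] at this
      exact this.2 hxI
    refine ⟨r ∪ I, ?_, ?_⟩
    · rw [mem_filter, mem_powersetCard]
      refine ⟨⟨?_, ?_⟩, Finset.subset_union_right⟩
      · exact Finset.union_subset (fun x hx => (Finset.mem_sdiff.mp (hr.1 hx)).1) hIX
      · rw [Finset.card_union_of_disjoint hdisj, hr.2]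
        omega
    · rw [Finset.union_sdiff_right]
      exact Finset.sdiff_eq_self_of_disjoint hdisj

open Classical in
/-- The blocks, as a finset. -/
noncomputable def blocksFinset (B : Set (Finset α)) : Finset (Finset α) := univ.filter (fun b => b ∈ B)

theorem mem_blocksFinset (B : Set (Finset α)) (b : Finset α) : b ∈ blocksFinset B ↔ b ∈ B := by
  unfold blocksFinset
  simp

/-- In a Steiner system `S(t,k,v)` the number `λ` of blocks containing a given `i`-set satisfies
`λ * C(k-i, t-i) = C(v-i, t-i)`. -/
theorem steiner_lambda (t k : ℕ) (B : Set (Finset α)) (hB : Cfsg.IsSteinerSystem t k B) (I : Finset α)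
    (hIt : I.card ≤ t) :
    ((blocksFinset B).filter (fun b => I ⊆ b)).card * (k - I.card).choose (t - I.card) =
      (Fintype.card α - I.card).choose (t - I.card) := by
  classical
  -- double count pairs (s, b) with I ⊆ s ⊆ b, |s| = t
  set Sset := ((univ : Finset α).powersetCard t).filter (fun s => I ⊆ s) with hS
  have h := Finset.sum_card_bipartiteAbove_eq_sum_card_bipartiteBelow
    (s := Sset) (t := blocksFinset B) (fun s b => s ⊆ b)
  have h1 : ∀ s ∈ Sset, ((blocksFinset B).bipartiteAbove (fun s b => s ⊆ b) s).card = 1 := by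
    intro s hs
    rw [hS, mem_filter, mem_powersetCard] at hs
    obtain ⟨b, ⟨hbB, hsb⟩, huniq⟩ := hB.2 s hs.1.2
    rw [Finset.card_eq_one]
    refine ⟨b, ?_⟩
    ext b'
    rw [Finset.mem_bipartiteAbove, mem_blocksFinset, Finset.mem_singleton]
    constructor
    · intro hb'
      exact huniq b' hb'
    · rintro rfl
      exact ⟨hbB, hsb⟩
  have h2 : ∀ b ∈ blocksFinset B, (Sset.bipartiteBelow (fun s b => s ⊆ b) b).card =
      if I ⊆ b then (k - I.card).choose (t - I.card) else 0 := by
    intro b hb
    rw [mem_blocksFinset] at hb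
    have hbk : b.card = k := hB.1 b hb
    by_cases hIb : I ⊆ b
    · rw [if_pos hIb, ← hbk, ← card_powersetCard_filter_superset b I hIb t hIt]
      apply congrArg Finset.card
      ext s
      rw [Finset.mem_bipartiteBelow, hS, mem_filter, mem_powersetCard, mem_filter, mem_powersetCard]
      constructor
      · rintro ⟨⟨⟨_, h2⟩, h3⟩, h4⟩
        exact ⟨⟨h4, h2⟩, h3⟩
      · rintro ⟨⟨h1, h2⟩, h3⟩
        exact ⟨⟨⟨subset_univ _, h2⟩, h3⟩, h1⟩
    · rw [if_neg hIb, Finset.card_eq_zero, Finset.eq_empty_iff_forall_notMem]
      intro s hs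
      rw [Finset.mem_bipartiteBelow, hS, mem_filter] at hs
      exact hIb (hs.1.2.trans hs.2)
  rw [Finset.sum_congr rfl h1, Finset.sum_congr rfl h2, Finset.sum_const, smul_eq_mul, mul_one,
    ← Finset.sum_filter, Finset.sum_const, smul_eq_mul] at h
  rw [← h, hS, card_powersetCard_filter_superset univ I (subset_univ _) t hIt, Finset.card_univ]

end

end Cfsg.Agent.Lib.Helper9
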