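import Mathlib
import Cfsg.Agent.Lib.Helper9.GolayG4
import Cfsg.Agent.Lib.Helper9.Steiner1

set_option autoImplicit false

/-! Abstract Golay codes: the all-ones word, the weight distribution, and the number of
codewords of a given weight through a point. -/

namespace Cfsg.Agent.Lib.Helper9.GolayG

open Cfsg.Agent.Lib.Helper9

open Finset

section
variable {α : Type*} [Fintype α] [DecidableEq α] {C : Submodule (ZMod 2) (α → ZMod 2)}

theorem support₂_one : Cfsg.support₂ (1 : α → ZMod 2) = univ := by
  ext i
  rw [mem_support₂]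
  simp

theorem sum_eq_card_support₂ (c : α → ZMod 2) : ∑ i, c i = ((Cfsg.support₂ c).card : ZMod 2) := by
  have := dot_eq_card_inter (1 : α → ZMod 2) c
  rw [support₂_one, Finset.univ_inter] at this
  rw [← this]
  apply Finset.sum_congr rfl
  intro i _
  rw [Pi.one_apply, one_mul]

/-- The all-ones word lies in an abstract Golay code. -/
theorem one_mem (hC : IsAbsGolay C) : (1 : α → ZMod 2) ∈ C := by
  apply mem_of_perp_octads hC
  intro c _ h8
  rw [dot_eq_card_inter, support₂_one, Finset.univ_inter, ← hammingNorm_eq_card_support₂, h8]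
  decide

theorem hammingNorm_add_one (w : α → ZMod 2) :
    hammingNorm (w + 1) + hammingNorm w = Fintype.card α := by
  have h := wt_add w 1
  rw [support₂_one, Finset.inter_univ, ← hammingNorm_eq_card_support₂] at h
  have h1 : hammingNorm (1 : α → ZMod 2) = Fintype.card α := by
    rw [hammingNorm_eq_card_support₂, support₂_one, Finset.card_univ]
  rw [h1] at h
  omega

theorem add_one_add_one (w : α → ZMod 2) : w + 1 + 1 = w := by
  rw [add_assoc, add_self_word, add_zero]

/-- The possible weights. -/
theorem weights (hC : IsAbsGolay C) {w : α → ZMod 2} (hw : w ∈ C) :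
    hammingNorm w = 0 ∨ hammingNorm w = 8 ∨ hammingNorm w = 12 ∨ hammingNorm w = 16 ∨
      hammingNorm w = 24 := by
  obtain ⟨k, hk⟩ := doubly_even hC w hw
  have h1 := hammingNorm_add_one w
  rw [hC.hcard] at h1
  have hmin : w ≠ 0 → 8 ≤ hammingNorm w := hC.hmin w hw
  have hmin' : w + 1 ≠ 0 → 8 ≤ hammingNorm (w + 1) := hC.hmin _ (C.add_mem hw (one_mem hC))
  by_cases h0 : w = 0
  · left
    rw [h0, hammingNorm_zero]
  · by_cases h0' : w + 1 = 0
    · rw [h0', hammingNorm_zero] at h1
      omega
    · have := hmin h0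
      have := hmin' h0'
      omega

/-- The supports of the codewords of weight 8 form a Steiner system `S(5,8,24)`. -/
theorem octads_steiner (hC : IsAbsGolay C) :
    Cfsg.IsSteinerSystem 5 8 (Cfsg.wordsOfWeight (C : Set (α → ZMod 2)) 8) := by
  refine ⟨fun b hb => hb.2, ?_⟩
  intro s hs
  obtain ⟨c, hc, h8, hsub⟩ := exists_octad hC s hs
  refine ⟨Cfsg.support₂ c, ⟨⟨⟨c, hc, rfl⟩, ?_⟩, hsub⟩, ?_⟩
  · rw [← hammingNorm_eq_card_support₂, h8]
  · rintro b' ⟨⟨⟨c', hc', rfl⟩, hcard⟩, hsub'⟩
    rw [← hammingNorm_eq_card_support₂] at hcard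
    have : c = c' := by
      apply octad_unique hC hc hc' h8 hcard
      rw [← hs]
      apply Finset.card_le_card
      exact Finset.subset_inter hsub hsub'
    rw [this]

/-- Counting codewords of weight 8 by their supports. -/
theorem card_octad_words (Q : Finset α → Prop) [DecidablePred Q]
    [DecidablePred (fun w : α → ZMod 2 => w ∈ C ∧ hammingNorm w = 8 ∧ Q (Cfsg.support₂ w))] :
    (univ.filter (fun w : α → ZMod 2 => w ∈ C ∧ hammingNorm w = 8 ∧ Q (Cfsg.support₂ w))).card =
      ((blocksFinset (Cfsg.wordsOfWeight (C : Set (α → ZMod 2)) 8)).filter Q).card := by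
  apply Finset.card_bij (fun w _ => Cfsg.support₂ w)
  · intro w hw
    rw [mem_filter] at hw
    rw [mem_filter, mem_blocksFinset]
    refine ⟨⟨⟨w, hw.2.1, rfl⟩, ?_⟩, hw.2.2.2⟩
    rw [← hammingNorm_eq_card_support₂, hw.2.2.1]
  · intro a _ b _ h
    exact support₂_injective h
  · intro b hb
    rw [mem_filter, mem_blocksFinset] at hb
    obtain ⟨⟨⟨w, hw, rfl⟩, hcard⟩, hQ⟩ := hb
    refine ⟨w, ?_, rfl⟩
    rw [mem_filter]
    refine ⟨mem_univ _, hw, ?_, hQ⟩
    rw [hammingNorm_eq_card_support₂, hcard]

open Classical in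
/-- The codewords of weight `k` with value `e` at the point `p`. -/
noncomputable def wtAt (C : Submodule (ZMod 2) (α → ZMod 2)) (k : ℕ) (p : α) (e : ZMod 2) :
    Finset (α → ZMod 2) :=
  univ.filter (fun w : α → ZMod 2 => w ∈ C ∧ hammingNorm w = k ∧ w p = e)

open Classical in
/-- The codewords of weight `k`. -/
noncomputable def wtWords (C : Submodule (ZMod 2) (α → ZMod 2)) (k : ℕ) : Finset (α → ZMod 2) :=
  univ.filter (fun w : α → ZMod 2 => w ∈ C ∧ hammingNorm w = k)

theorem mem_wtAt (k : ℕ) (p : α) (e : ZMod 2) (w : α → ZMod 2) :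
    w ∈ wtAt C k p e ↔ w ∈ C ∧ hammingNorm w = k ∧ w p = e := by
  unfold wtAt
  simp

theorem mem_wtWords (k : ℕ) (w : α → ZMod 2) :
    w ∈ wtWords C k ↔ w ∈ C ∧ hammingNorm w = k := by
  unfold wtWords
  simp

theorem card_wtAt_add (k : ℕ) (p : α) :
    (wtAt C k p 0).card + (wtAt C k p 1).card = (wtWords C k).card := by
  rw [← Finset.card_union_of_disjoint]
  · apply congrArg Finset.card
    ext w
    rw [Finset.mem_union, mem_wtAt, mem_wtAt, mem_wtWords]
    rcases zmod2_cases (w p) with h | h
    · rw [h]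
      simp
    · rw [h]
      simp
  · rw [Finset.disjoint_left]
    intro w h0 h1
    rw [mem_wtAt] at h0 h1
    rw [h0.2.2] at h1
    exact zero_ne_one h1.2.2

/-- Complementation. -/
theorem card_wtAt_compl (hC : IsAbsGolay C) (k : ℕ) (hk : k ≤ 24) (p : α) (e : ZMod 2) :
    (wtAt C k p e).card = (wtAt C (24 - k) p (e + 1)).card := by
  have h1 := one_mem hC
  apply Finset.card_nbij' (fun w => w + 1) (fun w => w + 1)
  · intro w hw
    beta_reduce
    rw [Finset.mem_coe, mem_wtAt] at hw ⊢
    have := hammingNorm_add_one w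
    rw [hC.hcard] at this
    refine ⟨C.add_mem hw.1 h1, by omega, ?_⟩
    rw [Pi.add_apply, Pi.one_apply, hw.2.2]
  · intro w hw
    beta_reduce
    rw [Finset.mem_coe, mem_wtAt] at hw ⊢
    have := hammingNorm_add_one w
    rw [hC.hcard] at this
    refine ⟨C.add_mem hw.1 h1, by omega, ?_⟩
    rw [Pi.add_apply, Pi.one_apply, hw.2.2, add_assoc]
    have : (1 : ZMod 2) + 1 = 0 := by decide
    rw [this, add_zero]
  · intro w _
    exact add_one_add_one w
  · intro w _
    exact add_one_add_one w

theorem card_wtWords_compl (hC : IsAbsGolay C) (k : ℕ) (hk : k ≤ 24) :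
    (wtWords C k).card = (wtWords C (24 - k)).card := by
  have h1 := one_mem hC
  apply Finset.card_nbij' (fun w => w + 1) (fun w => w + 1)
  · intro w hw
    beta_reduce
    rw [Finset.mem_coe, mem_wtWords] at hw ⊢
    have := hammingNorm_add_one w
    rw [hC.hcard] at this
    exact ⟨C.add_mem hw.1 h1, by omega⟩
  · intro w hw
    beta_reduce
    rw [Finset.mem_coe, mem_wtWords] at hw ⊢
    have := hammingNorm_add_one w
    rw [hC.hcard] at this
    exact ⟨C.add_mem hw.1 h1, by omega⟩
  · intro w _
    exact add_one_add_one w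
  · intro w _
    exact add_one_add_one w

theorem card_wtWords_eight (hC : IsAbsGolay C) : (wtWords C 8).card = 759 := by
  classical
  have h2 := steiner_lambda 5 8 _ (octads_steiner hC) ∅ (by simp)
  rw [hC.hcard] at h2
  simp only [Finset.card_empty, Nat.sub_zero, Finset.empty_subset, Finset.filter_true] at h2
  have h3 : (wtWords C 8).card =
      ((blocksFinset (Cfsg.wordsOfWeight (C : Set (α → ZMod 2)) 8)).filter (fun _ => True)).card := by
    rw [← card_octad_words (C := C) (fun _ => True)]
    apply congrArg Finset.card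
    ext w
    rw [mem_wtWords, mem_filter]
    simp
  rw [h3, Finset.filter_true]
  norm_num [Nat.choose] at h2
  omega

theorem card_wtAt_eight_one (hC : IsAbsGolay C) (p : α) : (wtAt C 8 p 1).card = 253 := by
  classical
  have h2 := steiner_lambda 5 8 _ (octads_steiner hC) {p} (by simp)
  rw [hC.hcard] at h2
  simp only [Finset.card_singleton, Finset.singleton_subset_iff] at h2
  have h3 : (wtAt C 8 p 1).card =
      ((blocksFinset (Cfsg.wordsOfWeight (C : Set (α → ZMod 2)) 8)).filter (fun b => p ∈ b)).card := by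
    rw [← card_octad_words (C := C) (fun b => p ∈ b)]
    apply congrArg Finset.card
    ext w
    rw [mem_wtAt, mem_filter, mem_support₂]
    simp
  rw [h3]
  norm_num [Nat.choose] at h2
  omega

theorem card_wtAt_eight_zero (hC : IsAbsGolay C) (p : α) : (wtAt C 8 p 0).card = 506 := by
  have h1 := card_wtAt_add (C := C) 8 p
  rw [card_wtAt_eight_one hC, card_wtWords_eight hC] at h1
  omega

theorem card_wtAt_sixteen_one (hC : IsAbsGolay C) (p : α) : (wtAt C 16 p 1).card = 506 := by
  rw [card_wtAt_compl hC 16 (by norm_num) p 1]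
  have : (1 : ZMod 2) + 1 = 0 := by decide
  rw [this]
  exact card_wtAt_eight_zero hC p

theorem card_wtAt_sixteen_zero (hC : IsAbsGolay C) (p : α) : (wtAt C 16 p 0).card = 253 := by
  rw [card_wtAt_compl hC 16 (by norm_num) p 0, zero_add]
  exact card_wtAt_eight_one hC p

theorem card_wtWords_zero : (wtWords C 0).card = 1 := by
  rw [Finset.card_eq_one]
  refine ⟨0, ?_⟩
  ext w
  rw [mem_wtWords, Finset.mem_singleton, hammingNorm_eq_zero]
  constructor
  · exact fun h => h.2
  · rintro rfl
    exact ⟨C.zero_mem, rfl⟩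

open Classical in
theorem card_wtWords_twelve (hC : IsAbsGolay C) : (wtWords C 12).card = 2576 := by
  have htot := card_filter_mem_code hC
  have hfib := Finset.card_eq_sum_card_fiberwise (f := fun w : α → ZMod 2 => hammingNorm w)
    (s := univ.filter (fun c : α → ZMod 2 => c ∈ C)) (t := ({0, 8, 12, 16, 24} : Finset ℕ)) (by
      intro w hw
      rw [Finset.mem_coe, mem_filter] at hw
      rw [Finset.mem_coe]
      simp only [Finset.mem_insert, Finset.mem_singleton]
      exact weights hC hw.2)
  have hk : ∀ k, ((univ.filter (fun c : α → ZMod 2 => c ∈ C)).filter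
      (fun w => hammingNorm w = k)).card = (wtWords C k).card := by
    intro k
    apply congrArg Finset.card
    ext w
    rw [mem_filter, mem_filter, mem_wtWords]
    simp
  rw [htot] at hfib
  rw [Finset.sum_congr rfl (fun k _ => hk k)] at hfib
  rw [Finset.sum_insert (by decide), Finset.sum_insert (by decide), Finset.sum_insert (by decide),
    Finset.sum_insert (by decide), Finset.sum_singleton] at hfib
  have h24 := card_wtWords_compl hC 24 (by norm_num)
  have h16 := card_wtWords_compl hC 16 (by norm_num)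
  norm_num at h24 h16
  rw [h24, h16, card_wtWords_zero, card_wtWords_eight hC] at hfib
  omega

theorem card_wtAt_twelve (hC : IsAbsGolay C) (p : α) (e : ZMod 2) : (wtAt C 12 p e).card = 1288 := by
  have h1 := card_wtAt_add (C := C) 12 p
  rw [card_wtWords_twelve hC] at h1
  have h2 := card_wtAt_compl hC 12 (by norm_num) p 0
  rw [zero_add] at h2
  norm_num at h2
  rcases zmod2_cases e with rfl | rfl
  · omega
  · omega

end

end Cfsg.Agent.Lib.Helper9.GolayG
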