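import Mathlib
import Cfsg.Agent.Lib.Helper9.Steiner1

set_option autoImplicit false

/-! Counting in Steiner systems: moments of intersection sizes. -/

namespace Cfsg.Agent.Lib.Helper9

open Finset

section
variable {α : Type*} [Fintype α] [DecidableEq α]

/-- Binomial moments of the intersection sizes with a fixed set. -/
theorem steiner_moment_eq (Bf : Finset (Finset α)) (Y : Finset α) (i : ℕ) :
    ∑ b ∈ Bf, ((b ∩ Y).card).choose i = ∑ Z ∈ Y.powersetCard i, (Bf.filter (fun b => Z ⊆ b)).card := by
  classical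
  have h := Finset.sum_card_bipartiteAbove_eq_sum_card_bipartiteBelow
    (s := Bf) (t := Y.powersetCard i) (fun b Z => Z ⊆ b)
  have h1 : ∀ b ∈ Bf, ((Y.powersetCard i).bipartiteAbove (fun b Z => Z ⊆ b) b).card = ((b ∩ Y).card).choose i := by
    intro b _
    rw [← Finset.card_powersetCard]
    apply congrArg Finset.card
    ext Z
    rw [Finset.mem_bipartiteAbove, mem_powersetCard, mem_powersetCard, Finset.subset_inter_iff]
    tauto
  rw [Finset.sum_congr rfl h1] at h
  rw [h]
  rfl

/-- Decomposition of a moment according to the intersection size. -/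
theorem steiner_moment_fiber (Bf : Finset (Finset α)) (Y : Finset α) (m : ℕ) (hY : Y.card < m) (i : ℕ) :
    ∑ b ∈ Bf, ((b ∩ Y).card).choose i =
      ∑ j ∈ range m, (Bf.filter (fun b => (b ∩ Y).card = j)).card * j.choose i := by
  have hmaps : ∀ b ∈ Bf, (b ∩ Y).card ∈ range m := by
    intro b _
    rw [mem_range]
    have := Finset.card_le_card (Finset.inter_subset_right (s₁ := b) (s₂ := Y))
    omega
  rw [← Finset.sum_fiberwise_of_maps_to hmaps]
  apply Finset.sum_congr rfl
  intro j _
  rw [Finset.sum_congr rfl (g := fun _ => j.choose i)]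
  · rw [Finset.sum_const, smul_eq_mul]
  · intro b hb
    rw [mem_filter] at hb
    rw [hb.2]

/-- Bilinear count of intersections. -/
theorem steiner_bilinear (Bf : Finset (Finset α)) (b c : Finset α) :
    ∑ d ∈ Bf, (d ∩ b).card * (d ∩ c).card =
      ∑ s ∈ b, ∑ t ∈ c, (Bf.filter (fun d => s ∈ d ∧ t ∈ d)).card := by
  have h1 : ∀ d ∈ Bf, (d ∩ b).card * (d ∩ c).card =
      ∑ s ∈ b, ∑ t ∈ c, (if s ∈ d ∧ t ∈ d then 1 else 0) := by
    intro d _
    rw [← Finset.card_product, Finset.card_eq_sum_ones, ← Finset.sum_product']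
    rw [← Finset.sum_filter]
    apply Finset.sum_congr
    · ext ⟨s, t⟩
      simp only [mem_product, mem_inter, mem_filter]
      tauto
    · intro _ _
      rfl
  rw [Finset.sum_congr rfl h1, Finset.sum_comm]
  apply Finset.sum_congr rfl
  intro s _
  rw [Finset.sum_comm]
  apply Finset.sum_congr rfl
  intro t _
  rw [Finset.card_eq_sum_ones, Finset.sum_filter]

end

end Cfsg.Agent.Lib.Helper9
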