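import Mathlib
import Cfsg.Agent.Lib.Helper9.GolayG5
import Cfsg.Agent.Lib.Helper9.Steiner2

set_option autoImplicit false

/-! Abstract Golay codes: octads against a dodecad. -/

namespace Cfsg.Agent.Lib.Helper9.GolayG

open Cfsg.Agent.Lib.Helper9

open Finset

section
variable {α : Type*} [Fintype α] [DecidableEq α] {C : Submodule (ZMod 2) (α → ZMod 2)}

/-- An octad meets a dodecad in 2, 4 or 6 points. -/
theorem octad_dodecad_inter (hC : IsAbsGolay C) {o d : α → ZMod 2} (ho : o ∈ C) (hd : d ∈ C)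
    (h8 : hammingNorm o = 8) (h12 : hammingNorm d = 12) :
    (Cfsg.support₂ o ∩ Cfsg.support₂ d).card = 2 ∨ (Cfsg.support₂ o ∩ Cfsg.support₂ d).card = 4 ∨
      (Cfsg.support₂ o ∩ Cfsg.support₂ d).card = 6 := by
  have h1 := wt_add o d
  have h2 := weights hC (C.add_mem ho hd)
  have h3 := (dot_eq_zero_iff_even o d).1 (hC.horth o ho d hd)
  obtain ⟨k, hk⟩ := h3
  have h4 : (Cfsg.support₂ o ∩ Cfsg.support₂ d).card ≤ 8 := by
    rw [← h8, hammingNorm_eq_card_support₂]
    exact Finset.card_le_card Finset.inter_subset_left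
  rw [h8, h12] at h1
  omega

theorem mem_W8_iff (b : Finset α) :
    b ∈ Cfsg.wordsOfWeight (C : Set (α → ZMod 2)) 8 ↔
      ∃ w ∈ C, hammingNorm w = 8 ∧ Cfsg.support₂ w = b := by
  constructor
  · rintro ⟨⟨w, hw, rfl⟩, hcard⟩
    exact ⟨w, hw, by rw [hammingNorm_eq_card_support₂, hcard], rfl⟩
  · rintro ⟨w, hw, h8, rfl⟩
    exact ⟨⟨w, hw, rfl⟩, by rw [← hammingNorm_eq_card_support₂, h8]⟩

/-- The numbers of octads meeting a dodecad in 6, 2, 4 points. -/
theorem dodecad_octad_counts (hC : IsAbsGolay C) {d : α → ZMod 2} (hd : d ∈ C)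
    (h12 : hammingNorm d = 12) :
    ((blocksFinset (Cfsg.wordsOfWeight (C : Set (α → ZMod 2)) 8)).filter
        (fun o => (o ∩ Cfsg.support₂ d).card = 6)).card = 132 ∧
    ((blocksFinset (Cfsg.wordsOfWeight (C : Set (α → ZMod 2)) 8)).filter
        (fun o => (o ∩ Cfsg.support₂ d).card = 2)).card = 132 ∧
    ((blocksFinset (Cfsg.wordsOfWeight (C : Set (α → ZMod 2)) 8)).filter
        (fun o => (o ∩ Cfsg.support₂ d).card = 4)).card = 495 := by
  set B := Cfsg.wordsOfWeight (C : Set (α → ZMod 2)) 8 with hBdef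
  have hB : Cfsg.IsSteinerSystem 5 8 B := octads_steiner hC
  set Bf := blocksFinset B with hBf
  set D := Cfsg.support₂ d with hD
  have hDcard : D.card = 12 := by rw [hD, ← hammingNorm_eq_card_support₂, h12]
  -- only intersections 2, 4, 6 occur
  have hzero : ∀ j, j ≠ 2 → j ≠ 4 → j ≠ 6 → (Bf.filter (fun o => (o ∩ D).card = j)).card = 0 := by
    intro j h2 h4 h6
    rw [Finset.card_eq_zero, Finset.eq_empty_iff_forall_notMem]
    intro o ho
    rw [mem_filter, hBf, mem_blocksFinset, hBdef, mem_W8_iff] at ho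
    obtain ⟨⟨w, hw, h8, rfl⟩, hj⟩ := ho
    have := octad_dodecad_inter hC hw hd h8 h12
    rw [← hD] at this
    omega
  have hN : ∀ i : ℕ, i ≤ 5 → ∀ Z ∈ D.powersetCard i,
      (Bf.filter (fun o => Z ⊆ o)).card * (8 - i).choose (5 - i) = (24 - i).choose (5 - i) := by
    intro i hi Z hZ
    rw [mem_powersetCard] at hZ
    have := steiner_lambda 5 8 B hB Z (by omega)
    rw [hC.hcard, hZ.2] at this
    exact this
  have hm : ∀ i : ℕ, i ≤ 5 → ∀ lam : ℕ, lam * (8 - i).choose (5 - i) = (24 - i).choose (5 - i) →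
      0 < (8 - i).choose (5 - i) →
      ∑ o ∈ Bf, ((o ∩ D).card).choose i = (Nat.choose 12 i) * lam := by
    intro i hi lam hl hpos
    rw [steiner_moment_eq, Finset.sum_congr rfl (g := fun _ => lam)]
    · rw [Finset.sum_const, Finset.card_powersetCard, hDcard, smul_eq_mul]
    · intro Z hZ
      have := hN i hi Z hZ
      rw [← hl] at this
      exact Nat.eq_of_mul_eq_mul_right hpos this
  have hm0 := hm 0 (by norm_num) 759 (by norm_num [Nat.choose]) (by norm_num [Nat.choose])
  have hm1 := hm 1 (by norm_num) 253 (by norm_num [Nat.choose]) (by norm_num [Nat.choose])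
  have hm2 := hm 2 (by norm_num) 77 (by norm_num [Nat.choose]) (by norm_num [Nat.choose])
  rw [steiner_moment_fiber Bf D 13 (by omega)] at hm0 hm1 hm2
  simp only [Finset.sum_range_succ, Finset.sum_range_zero] at hm0 hm1 hm2
  have z0 := hzero 0 (by norm_num) (by norm_num) (by norm_num)
  have z1 := hzero 1 (by norm_num) (by norm_num) (by norm_num)
  have z3 := hzero 3 (by norm_num) (by norm_num) (by norm_num)
  have z5 := hzero 5 (by norm_num) (by norm_num) (by norm_num)
  have z7 := hzero 7 (by norm_num) (by norm_num) (by norm_num)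
  have z8 := hzero 8 (by norm_num) (by norm_num) (by norm_num)
  have z9 := hzero 9 (by norm_num) (by norm_num) (by norm_num)
  have z10 := hzero 10 (by norm_num) (by norm_num) (by norm_num)
  have z11 := hzero 11 (by norm_num) (by norm_num) (by norm_num)
  have z12 := hzero 12 (by norm_num) (by norm_num) (by norm_num)
  rw [z0, z1, z3, z5, z7, z8, z9, z10, z11, z12] at hm0 hm1 hm2
  generalize (Bf.filter (fun o => (o ∩ D).card = 2)).card = n2 at *
  generalize (Bf.filter (fun o => (o ∩ D).card = 4)).card = n4 at *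
  generalize (Bf.filter (fun o => (o ∩ D).card = 6)).card = n6 at *
  norm_num [Nat.choose] at hm0 hm1 hm2
  omega

end

end Cfsg.Agent.Lib.Helper9.GolayG
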