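import Mathlib
import Cfsg.Prelude.Def_Sporadic_a
import Cfsg.Agent.S0370
import Cfsg.Agent.S0372
import Cfsg.Agent.S0373

set_option autoImplicit false
open Cfsg

/-! Explicit elements of the group of the length-24 code, with their tables of values. (Generated.) -/

namespace Cfsg.Agent.Lib.Helper9.M24

/-- Decode a point from its index: `23` is the extra point. -/
def ptOfNat (n : ℕ) : GolayPt := if n = 23 then none else some (n : ZMod 23)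

/-- Index of a point. -/
def natOfPt : GolayPt → ℕ
  | none => 23
  | some x => x.val

/-- The function on the 24 points given by a table of indices. -/
def tab (l : List ℕ) (p : GolayPt) : GolayPt := ptOfNat (l.getD (natOfPt p) 0)

theorem mul_tab {g h : Equiv.Perm GolayPt} {a b c : List ℕ} (hg : ∀ x, g x = tab a x)
    (hh : ∀ x, h x = tab b x) (hc : ∀ x, tab a (tab b x) = tab c x) : ∀ x, (g * h) x = tab c x := by
  intro x
  rw [Equiv.Perm.mul_apply, hh, hg, hc]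

theorem inv_tab {g : Equiv.Perm GolayPt} {a b : List ℕ} (hg : ∀ x, g x = tab a x)
    (hc : ∀ x, tab a (tab b x) = x) : ∀ x, g⁻¹ x = tab b x := by
  intro x
  rw [Equiv.Perm.inv_eq_iff_eq, hg, hc]

/-- `x ↦ x + 1`. -/
def gS : Equiv.Perm GolayPt := Equiv.optionCongr (Equiv.addRight (1 : ZMod 23))
/-- `x ↦ -1/x`. -/
def gT : Equiv.Perm GolayPt := projInv
/-- The cube twist. -/
noncomputable def gD : Equiv.Perm GolayPt := cubeTwist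

theorem gS_mem : gS ∈ M24 := Cfsg.Agent.S0370.result
theorem gT_mem : gT ∈ M24 := Cfsg.Agent.S0372.result
theorem gD_mem : gD ∈ M24 := Cfsg.Agent.S0373.result

theorem gS_apply : ∀ x : GolayPt, gS x = tab [1, 2, 3, 4, 5, 6, 7, 8, 9, 10, 11, 12, 13, 14, 15, 16, 17, 18, 19, 20, 21, 22, 0, 23] x := by
  decide

theorem gT_apply : ∀ x : GolayPt, gT x = tab [23, 22, 11, 15, 17, 9, 19, 13, 20, 5, 16, 2, 21, 7, 18, 3, 10, 4, 14, 6, 8, 12, 1, 0] x := by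
  decide

theorem gD_apply : ∀ x : GolayPt, gD x = tab [0, 18, 6, 3, 2, 21, 1, 5, 16, 12, 7, 19, 8, 9, 17, 15, 13, 11, 4, 22, 10, 20, 14, 23] x := by
  decide

noncomputable def gSi : Equiv.Perm GolayPt := gS⁻¹
theorem gSi_mem : gSi ∈ M24 := Subgroup.inv_mem _ gS_mem
theorem gSi_apply : ∀ x : GolayPt, gSi x = tab [22, 0, 1, 2, 3, 4, 5, 6, 7, 8, 9, 10, 11, 12, 13, 14, 15, 16, 17, 18, 19, 20, 21, 23] x :=
  inv_tab gS_apply (by decide)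

noncomputable def gDi : Equiv.Perm GolayPt := gD⁻¹
theorem gDi_mem : gDi ∈ M24 := Subgroup.inv_mem _ gD_mem
theorem gDi_apply : ∀ x : GolayPt, gDi x = tab [0, 6, 4, 3, 18, 7, 2, 10, 12, 13, 20, 17, 9, 16, 22, 15, 8, 14, 1, 11, 21, 5, 19, 23] x :=
  inv_tab gD_apply (by decide)

noncomputable def h1 : Equiv.Perm GolayPt := gD
theorem h1_mem : h1 ∈ M24 := gD_mem
theorem h1_apply : ∀ x : GolayPt, h1 x = tab [0, 18, 6, 3, 2, 21, 1, 5, 16, 12, 7, 19, 8, 9, 17, 15, 13, 11, 4, 22, 10, 20, 14, 23] x := gD_apply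

noncomputable def h1i : Equiv.Perm GolayPt := h1⁻¹
theorem h1i_mem : h1i ∈ M24 := Subgroup.inv_mem _ h1_mem
theorem h1i_apply : ∀ x : GolayPt, h1i x = tab [0, 6, 4, 3, 18, 7, 2, 10, 12, 13, 20, 17, 9, 16, 22, 15, 8, 14, 1, 11, 21, 5, 19, 23] x :=
  inv_tab h1_apply (by decide)

noncomputable def h2 : Equiv.Perm GolayPt := gSi * gD * gD * gS * gS
theorem h2_mem : h2 ∈ M24 := Subgroup.mul_mem _ (Subgroup.mul_mem _ (Subgroup.mul_mem _ (Subgroup.mul_mem _ (gSi_mem) gD_mem) gD_mem) gS_mem) gS_mem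
theorem h2_apply : ∀ x : GolayPt, h2 x = tab [0, 2, 5, 19, 17, 20, 12, 7, 4, 21, 15, 11, 10, 14, 8, 18, 1, 13, 6, 9, 16, 22, 3, 23] x := by
  have e1 : ∀ x : GolayPt, (gSi * gD) x = tab [22, 17, 5, 2, 1, 20, 0, 4, 15, 11, 6, 18, 7, 8, 16, 14, 12, 10, 3, 21, 9, 19, 13, 23] x :=
    mul_tab gSi_apply gD_apply (by decide)
  have e2 : ∀ x : GolayPt, (gSi * gD * gD) x = tab [22, 3, 0, 2, 5, 19, 17, 20, 12, 7, 4, 21, 15, 11, 10, 14, 8, 18, 1, 13, 6, 9, 16, 23] x :=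
    mul_tab e1 gD_apply (by decide)
  have e3 : ∀ x : GolayPt, (gSi * gD * gD * gS) x = tab [3, 0, 2, 5, 19, 17, 20, 12, 7, 4, 21, 15, 11, 10, 14, 8, 18, 1, 13, 6, 9, 16, 22, 23] x :=
    mul_tab e2 gS_apply (by decide)
  have e4 : ∀ x : GolayPt, (gSi * gD * gD * gS * gS) x = tab [0, 2, 5, 19, 17, 20, 12, 7, 4, 21, 15, 11, 10, 14, 8, 18, 1, 13, 6, 9, 16, 22, 3, 23] x :=
    mul_tab e3 gS_apply (by decide)
  exact e4

noncomputable def h2i : Equiv.Perm GolayPt := h2⁻¹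
theorem h2i_mem : h2i ∈ M24 := Subgroup.inv_mem _ h2_mem
theorem h2i_apply : ∀ x : GolayPt, h2i x = tab [0, 16, 1, 22, 8, 2, 18, 7, 14, 19, 12, 11, 6, 17, 13, 10, 20, 4, 15, 3, 5, 9, 21, 23] x :=
  inv_tab h2_apply (by decide)

noncomputable def h3 : Equiv.Perm GolayPt := h1 * h2 * h1
theorem h3_mem : h3 ∈ M24 := Subgroup.mul_mem _ (Subgroup.mul_mem _ (h1_mem) h2_mem) h1_mem
theorem h3_apply : ∀ x : GolayPt, h3 x = tab [0, 1, 8, 22, 21, 14, 6, 10, 18, 7, 5, 12, 2, 20, 9, 4, 17, 19, 11, 3, 15, 13, 16, 23] x := by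
  have e1 : ∀ x : GolayPt, (h1 * h2) x = tab [0, 6, 21, 22, 11, 10, 8, 5, 2, 20, 15, 19, 7, 17, 16, 4, 18, 9, 1, 12, 13, 14, 3, 23] x :=
    mul_tab h1_apply h2_apply (by decide)
  have e2 : ∀ x : GolayPt, (h1 * h2 * h1) x = tab [0, 1, 8, 22, 21, 14, 6, 10, 18, 7, 5, 12, 2, 20, 9, 4, 17, 19, 11, 3, 15, 13, 16, 23] x :=
    mul_tab e1 h1_apply (by decide)
  exact e2

noncomputable def h3i : Equiv.Perm GolayPt := h3⁻¹
theorem h3i_mem : h3i ∈ M24 := Subgroup.inv_mem _ h3_mem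
theorem h3i_apply : ∀ x : GolayPt, h3i x = tab [0, 1, 12, 19, 15, 10, 6, 9, 2, 14, 7, 18, 11, 21, 5, 20, 22, 16, 8, 17, 13, 4, 3, 23] x :=
  inv_tab h3_apply (by decide)

noncomputable def h4 : Equiv.Perm GolayPt := h2i * h1i * h1i
theorem h4_mem : h4 ∈ M24 := Subgroup.mul_mem _ (Subgroup.mul_mem _ (h2i_mem) h1i_mem) h1i_mem
theorem h4_apply : ∀ x : GolayPt, h4 x = tab [0, 1, 15, 22, 16, 12, 8, 5, 19, 20, 9, 13, 17, 14, 3, 10, 6, 21, 18, 4, 2, 7, 11, 23] x := by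
  have e1 : ∀ x : GolayPt, (h2i * h1i) x = tab [0, 18, 8, 22, 15, 7, 1, 12, 6, 17, 5, 4, 19, 20, 21, 10, 14, 13, 16, 11, 9, 2, 3, 23] x :=
    mul_tab h2i_apply h1i_apply (by decide)
  have e2 : ∀ x : GolayPt, (h2i * h1i * h1i) x = tab [0, 1, 15, 22, 16, 12, 8, 5, 19, 20, 9, 13, 17, 14, 3, 10, 6, 21, 18, 4, 2, 7, 11, 23] x :=
    mul_tab e1 h1i_apply (by decide)
  exact e2

noncomputable def h4i : Equiv.Perm GolayPt := h4⁻¹
theorem h4i_mem : h4i ∈ M24 := Subgroup.inv_mem _ h4_mem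
theorem h4i_apply : ∀ x : GolayPt, h4i x = tab [0, 1, 20, 14, 19, 7, 16, 21, 6, 10, 15, 22, 5, 11, 13, 2, 4, 12, 18, 8, 9, 17, 3, 23] x :=
  inv_tab h4_apply (by decide)

noncomputable def h5 : Equiv.Perm GolayPt := h4 * h3i * h4
theorem h5_mem : h5 ∈ M24 := Subgroup.mul_mem _ (Subgroup.mul_mem _ (h4_mem) h3i_mem) h4_mem
theorem h5_apply : ∀ x : GolayPt, h5 x = tab [0, 1, 2, 22, 11, 13, 15, 9, 21, 14, 3, 7, 6, 12, 4, 5, 8, 16, 19, 10, 17, 20, 18, 23] x := by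
  have e1 : ∀ x : GolayPt, (h4 * h3i) x = tab [0, 1, 17, 4, 10, 9, 8, 20, 15, 3, 5, 18, 13, 7, 12, 2, 11, 6, 19, 21, 14, 16, 22, 23] x :=
    mul_tab h4_apply h3i_apply (by decide)
  have e2 : ∀ x : GolayPt, (h4 * h3i * h4) x = tab [0, 1, 2, 22, 11, 13, 15, 9, 21, 14, 3, 7, 6, 12, 4, 5, 8, 16, 19, 10, 17, 20, 18, 23] x :=
    mul_tab e1 h4_apply (by decide)
  exact e2

noncomputable def h5i : Equiv.Perm GolayPt := h5⁻¹
theorem h5i_mem : h5i ∈ M24 := Subgroup.inv_mem _ h5_mem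
theorem h5i_apply : ∀ x : GolayPt, h5i x = tab [0, 1, 2, 10, 14, 15, 12, 11, 16, 7, 19, 4, 13, 5, 9, 6, 17, 20, 22, 18, 21, 8, 3, 23] x :=
  inv_tab h5_apply (by decide)

noncomputable def h6 : Equiv.Perm GolayPt := h3i * h3i * h4 * h3 * h3
theorem h6_mem : h6 ∈ M24 := Subgroup.mul_mem _ (Subgroup.mul_mem _ (Subgroup.mul_mem _ (Subgroup.mul_mem _ (h3i_mem) h3i_mem) h4_mem) h3_mem) h3_mem
theorem h6_apply : ∀ x : GolayPt, h6 x = tab [0, 1, 2, 6, 10, 21, 12, 18, 4, 5, 17, 13, 16, 9, 7, 14, 20, 19, 22, 8, 3, 11, 15, 23] x := by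
  have e1 : ∀ x : GolayPt, (h3i * h3i) x = tab [0, 1, 11, 17, 20, 7, 6, 14, 12, 5, 9, 8, 18, 4, 10, 13, 3, 22, 2, 16, 21, 15, 19, 23] x :=
    mul_tab h3i_apply h3i_apply (by decide)
  have e2 : ∀ x : GolayPt, (h3i * h3i * h4) x = tab [0, 1, 13, 19, 3, 18, 12, 7, 16, 21, 5, 4, 22, 10, 17, 9, 6, 15, 2, 20, 11, 14, 8, 23] x :=
    mul_tab e1 h4_apply (by decide)
  have e3 : ∀ x : GolayPt, (h3i * h3i * h4 * h3) x = tab [0, 1, 16, 8, 14, 17, 12, 5, 2, 7, 18, 22, 13, 11, 21, 3, 15, 20, 4, 19, 9, 10, 6, 23] x :=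
    mul_tab e2 h3_apply (by decide)
  have e4 : ∀ x : GolayPt, (h3i * h3i * h4 * h3 * h3) x = tab [0, 1, 2, 6, 10, 21, 12, 18, 4, 5, 17, 13, 16, 9, 7, 14, 20, 19, 22, 8, 3, 11, 15, 23] x :=
    mul_tab e3 h3_apply (by decide)
  exact e4

noncomputable def h6i : Equiv.Perm GolayPt := h6⁻¹
theorem h6i_mem : h6i ∈ M24 := Subgroup.inv_mem _ h6_mem
theorem h6i_apply : ∀ x : GolayPt, h6i x = tab [0, 1, 2, 20, 8, 9, 3, 14, 19, 13, 4, 21, 6, 11, 15, 22, 12, 10, 7, 17, 16, 5, 18, 23] x :=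
  inv_tab h6_apply (by decide)

noncomputable def h7 : Equiv.Perm GolayPt := h5i * h5i * h6i * h5
theorem h7_mem : h7 ∈ M24 := Subgroup.mul_mem _ (Subgroup.mul_mem _ (Subgroup.mul_mem _ (h5i_mem) h5i_mem) h6i_mem) h5_mem
theorem h7_apply : ∀ x : GolayPt, h7 x = tab [0, 1, 2, 3, 16, 14, 10, 15, 6, 12, 8, 7, 19, 13, 17, 11, 22, 5, 21, 9, 18, 20, 4, 23] x := by
  have e1 : ∀ x : GolayPt, (h5i * h5i) x = tab [0, 1, 2, 19, 9, 6, 13, 4, 17, 11, 18, 14, 5, 15, 7, 12, 20, 21, 3, 22, 8, 16, 10, 23] x :=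
    mul_tab h5i_apply h5i_apply (by decide)
  have e2 : ∀ x : GolayPt, (h5i * h5i * h6i) x = tab [0, 1, 2, 8, 17, 11, 19, 7, 22, 15, 9, 16, 13, 14, 12, 10, 5, 18, 4, 21, 20, 6, 3, 23] x :=
    mul_tab e1 h6i_apply (by decide)
  have e3 : ∀ x : GolayPt, (h5i * h5i * h6i * h5) x = tab [0, 1, 2, 3, 16, 14, 10, 15, 6, 12, 8, 7, 19, 13, 17, 11, 22, 5, 21, 9, 18, 20, 4, 23] x :=
    mul_tab e2 h5_apply (by decide)
  exact e3

noncomputable def h7i : Equiv.Perm GolayPt := h7⁻¹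
theorem h7i_mem : h7i ∈ M24 := Subgroup.inv_mem _ h7_mem
theorem h7i_apply : ∀ x : GolayPt, h7i x = tab [0, 1, 2, 3, 22, 17, 8, 11, 10, 19, 6, 15, 9, 13, 5, 7, 4, 14, 20, 12, 21, 18, 16, 23] x :=
  inv_tab h7_apply (by decide)

noncomputable def h8 : Equiv.Perm GolayPt := h5i * h6i * h5 * h6
theorem h8_mem : h8 ∈ M24 := Subgroup.mul_mem _ (Subgroup.mul_mem _ (Subgroup.mul_mem _ (h5i_mem) h6i_mem) h5_mem) h6_mem
theorem h8_apply : ∀ x : GolayPt, h8 x = tab [0, 1, 2, 3, 21, 17, 10, 20, 8, 4, 13, 12, 18, 6, 5, 16, 19, 14, 11, 15, 22, 9, 7, 23] x := by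
  have e1 : ∀ x : GolayPt, (h5i * h6i) x = tab [0, 1, 2, 21, 16, 7, 10, 9, 18, 5, 14, 8, 12, 4, 6, 3, 13, 19, 11, 20, 17, 15, 22, 23] x :=
    mul_tab h5i_apply h6i_apply (by decide)
  have e2 : ∀ x : GolayPt, (h5i * h6i * h5) x = tab [0, 1, 2, 22, 8, 4, 3, 5, 15, 6, 21, 9, 10, 12, 16, 7, 18, 13, 20, 14, 19, 17, 11, 23] x :=
    mul_tab e1 h5_apply (by decide)
  have e3 : ∀ x : GolayPt, (h5i * h6i * h5 * h6) x = tab [0, 1, 2, 3, 21, 17, 10, 20, 8, 4, 13, 12, 18, 6, 5, 16, 19, 14, 11, 15, 22, 9, 7, 23] x :=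
    mul_tab e2 h6_apply (by decide)
  exact e3

noncomputable def h8i : Equiv.Perm GolayPt := h8⁻¹
theorem h8i_mem : h8i ∈ M24 := Subgroup.inv_mem _ h8_mem
theorem h8i_apply : ∀ x : GolayPt, h8i x = tab [0, 1, 2, 3, 9, 14, 13, 22, 8, 21, 6, 18, 11, 10, 17, 19, 15, 5, 12, 16, 7, 4, 20, 23] x :=
  inv_tab h8_apply (by decide)

noncomputable def h9 : Equiv.Perm GolayPt := h6i * h5 * h6 * h6
theorem h9_mem : h9 ∈ M24 := Subgroup.mul_mem _ (Subgroup.mul_mem _ (Subgroup.mul_mem _ (h6i_mem) h5_mem) h6_mem) h6_mem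
theorem h9_apply : ∀ x : GolayPt, h9 x = tab [0, 1, 2, 3, 12, 14, 19, 7, 20, 16, 4, 15, 10, 11, 17, 13, 18, 5, 9, 21, 22, 6, 8, 23] x := by
  have e1 : ∀ x : GolayPt, (h6i * h5) x = tab [0, 1, 2, 18, 21, 11, 22, 13, 5, 15, 20, 14, 3, 6, 8, 9, 19, 12, 17, 4, 10, 16, 7, 23] x :=
    mul_tab h6i_apply h5_apply (by decide)
  have e2 : ∀ x : GolayPt, (h6i * h5 * h6) x = tab [0, 1, 2, 22, 20, 16, 3, 17, 21, 11, 12, 6, 19, 15, 13, 8, 10, 4, 7, 5, 18, 14, 9, 23] x :=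
    mul_tab e1 h6_apply (by decide)
  have e3 : ∀ x : GolayPt, (h6i * h5 * h6 * h6) x = tab [0, 1, 2, 3, 12, 14, 19, 7, 20, 16, 4, 15, 10, 11, 17, 13, 18, 5, 9, 21, 22, 6, 8, 23] x :=
    mul_tab e2 h6_apply (by decide)
  exact e3

noncomputable def h9i : Equiv.Perm GolayPt := h9⁻¹
theorem h9i_mem : h9i ∈ M24 := Subgroup.inv_mem _ h9_mem
theorem h9i_apply : ∀ x : GolayPt, h9i x = tab [0, 1, 2, 3, 10, 17, 21, 7, 22, 18, 12, 13, 4, 15, 5, 11, 9, 14, 16, 6, 8, 19, 20, 23] x :=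
  inv_tab h9_apply (by decide)

noncomputable def h10 : Equiv.Perm GolayPt := h7 * h8
theorem h10_mem : h10 ∈ M24 := Subgroup.mul_mem _ (h7_mem) h8_mem
theorem h10_apply : ∀ x : GolayPt, h10 x = tab [0, 1, 2, 3, 20, 5, 8, 18, 6, 16, 13, 19, 21, 10, 14, 22, 9, 17, 7, 11, 4, 12, 15, 23] x := by
  have e1 : ∀ x : GolayPt, (h7 * h8) x = tab [0, 1, 2, 3, 20, 5, 8, 18, 6, 16, 13, 19, 21, 10, 14, 22, 9, 17, 7, 11, 4, 12, 15, 23] x :=
    mul_tab h7_apply h8_apply (by decide)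
  exact e1

noncomputable def h10i : Equiv.Perm GolayPt := h10⁻¹
theorem h10i_mem : h10i ∈ M24 := Subgroup.inv_mem _ h10_mem
theorem h10i_apply : ∀ x : GolayPt, h10i x = tab [0, 1, 2, 3, 20, 5, 8, 18, 6, 16, 13, 19, 21, 10, 14, 22, 9, 17, 7, 11, 4, 12, 15, 23] x :=
  inv_tab h10_apply (by decide)

noncomputable def h11 : Equiv.Perm GolayPt := h7i * h8i
theorem h11_mem : h11 ∈ M24 := Subgroup.mul_mem _ (h7i_mem) h8i_mem
theorem h11_apply : ∀ x : GolayPt, h11 x = tab [0, 1, 2, 3, 19, 5, 13, 16, 10, 18, 8, 20, 15, 6, 14, 12, 7, 17, 9, 4, 11, 22, 21, 23] x := by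
  have e1 : ∀ x : GolayPt, (h7i * h8i) x = tab [0, 1, 2, 3, 19, 5, 13, 16, 10, 18, 8, 20, 15, 6, 14, 12, 7, 17, 9, 4, 11, 22, 21, 23] x :=
    mul_tab h7i_apply h8i_apply (by decide)
  exact e1

noncomputable def h11i : Equiv.Perm GolayPt := h11⁻¹
theorem h11i_mem : h11i ∈ M24 := Subgroup.inv_mem _ h11_mem
theorem h11i_apply : ∀ x : GolayPt, h11i x = tab [0, 1, 2, 3, 19, 5, 13, 16, 10, 18, 8, 20, 15, 6, 14, 12, 7, 17, 9, 4, 11, 22, 21, 23] x :=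
  inv_tab h11_apply (by decide)

noncomputable def h12 : Equiv.Perm GolayPt := h7i * h9
theorem h12_mem : h12 ∈ M24 := Subgroup.mul_mem _ (h7i_mem) h9_mem
theorem h12_apply : ∀ x : GolayPt, h12 x = tab [0, 1, 2, 3, 9, 5, 12, 11, 21, 4, 22, 7, 6, 15, 14, 13, 20, 17, 19, 18, 16, 8, 10, 23] x := by
  have e1 : ∀ x : GolayPt, (h7i * h9) x = tab [0, 1, 2, 3, 9, 5, 12, 11, 21, 4, 22, 7, 6, 15, 14, 13, 20, 17, 19, 18, 16, 8, 10, 23] x :=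
    mul_tab h7i_apply h9_apply (by decide)
  exact e1

noncomputable def h12i : Equiv.Perm GolayPt := h12⁻¹
theorem h12i_mem : h12i ∈ M24 := Subgroup.inv_mem _ h12_mem
theorem h12i_apply : ∀ x : GolayPt, h12i x = tab [0, 1, 2, 3, 9, 5, 12, 11, 21, 4, 22, 7, 6, 15, 14, 13, 20, 17, 19, 18, 16, 8, 10, 23] x :=
  inv_tab h12_apply (by decide)

noncomputable def h13 : Equiv.Perm GolayPt := h7 * h9i
theorem h13_mem : h13 ∈ M24 := Subgroup.mul_mem _ (h7_mem) h9i_mem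
theorem h13_apply : ∀ x : GolayPt, h13 x = tab [0, 1, 2, 3, 8, 5, 20, 15, 4, 21, 19, 13, 16, 11, 14, 7, 12, 17, 22, 10, 6, 9, 18, 23] x := by
  have e1 : ∀ x : GolayPt, (h7 * h9i) x = tab [0, 1, 2, 3, 8, 5, 20, 15, 4, 21, 19, 13, 16, 11, 14, 7, 12, 17, 22, 10, 6, 9, 18, 23] x :=
    mul_tab h7_apply h9i_apply (by decide)
  exact e1

noncomputable def h13i : Equiv.Perm GolayPt := h13⁻¹
theorem h13i_mem : h13i ∈ M24 := Subgroup.inv_mem _ h13_mem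
theorem h13i_apply : ∀ x : GolayPt, h13i x = tab [0, 1, 2, 3, 8, 5, 20, 15, 4, 21, 19, 13, 16, 11, 14, 7, 12, 17, 22, 10, 6, 9, 18, 23] x :=
  inv_tab h13_apply (by decide)

end Cfsg.Agent.Lib.Helper9.M24
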