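import Mathlib
import Cfsg.Prelude.Def_Sporadic_a
import Cfsg.Agent.Lib.Helper9.M24A

set_option autoImplicit false
open Cfsg

/-! Transitivity properties of the group of the length-24 code, from explicit elements. (Partly generated.) -/

namespace Cfsg.Agent.Lib.Helper9.M24

/-- The elements of `M24` fixing every point of the list. -/
def fixer (l : List GolayPt) : Subgroup (Equiv.Perm GolayPt) where
  carrier := {g | g ∈ M24 ∧ ∀ p ∈ l, g p = p}
  mul_mem' := fun {a b} ha hb => ⟨Subgroup.mul_mem _ ha.1 hb.1, fun p hp => by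
    rw [Equiv.Perm.mul_apply, hb.2 p hp, ha.2 p hp]⟩
  one_mem' := ⟨Subgroup.one_mem _, fun _ _ => rfl⟩
  inv_mem' := fun {a} ha => ⟨Subgroup.inv_mem _ ha.1, fun p hp => by
    rw [Equiv.Perm.inv_eq_iff_eq]; exact (ha.2 p hp).symm⟩

theorem mem_fixer_iff (l : List GolayPt) (g : Equiv.Perm GolayPt) :
    g ∈ fixer l ↔ g ∈ M24 ∧ ∀ p ∈ l, g p = p := Iff.rfl

theorem mem_fixer_of_tab {l : List GolayPt} {g : Equiv.Perm GolayPt} {a : List ℕ} (hg : g ∈ M24)
    (ha : ∀ x, g x = tab a x) (h : ∀ p ∈ l, tab a p = p) : g ∈ fixer l :=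
  ⟨hg, fun p hp => by rw [ha, h p hp]⟩

/-- One step of closing a list of points under a list of functions. -/
def closeStep (fs : List (GolayPt → GolayPt)) (L : List GolayPt) : List GolayPt :=
  (L ++ fs.flatMap (fun f => L.map f)).dedup

/-- Iterated closure. -/
def closeN (fs : List (GolayPt → GolayPt)) : ℕ → List GolayPt → List GolayPt
  | 0, L => L
  | n + 1, L => closeN fs n (closeStep fs L)

theorem reach_closeN (K : Subgroup (Equiv.Perm GolayPt)) (x₀ : GolayPt) (fs : List (GolayPt → GolayPt))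
    (hfs : ∀ f ∈ fs, ∃ g ∈ K, ∀ x, g x = f x) :
    ∀ (n : ℕ) (L : List GolayPt), (∀ y ∈ L, ∃ g ∈ K, g x₀ = y) →
      ∀ y ∈ closeN fs n L, ∃ g ∈ K, g x₀ = y := by
  intro n
  induction n with
  | zero => intro L hL y hy; exact hL y hy
  | succ n ih =>
    intro L hL y hy
    refine ih (closeStep fs L) ?_ y hy
    intro z hz
    unfold closeStep at hz
    rw [List.mem_dedup, List.mem_append, List.mem_flatMap] at hz
    rcases hz with hz | ⟨f, hf, hz⟩
    · exact hL z hz
    · rw [List.mem_map] at hz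
      obtain ⟨w, hw, rfl⟩ := hz
      obtain ⟨g, hg, hgw⟩ := hL w hw
      obtain ⟨h, hh, hhf⟩ := hfs f hf
      exact ⟨h * g, K.mul_mem hh hg, by rw [Equiv.Perm.mul_apply, hgw, hhf]⟩

theorem level0 : ∀ y : GolayPt, y ∉ ([] : List GolayPt) →
    ∃ g ∈ fixer [], g (none) = y := by
  have hfs : ∀ f ∈ ([tab [1, 2, 3, 4, 5, 6, 7, 8, 9, 10, 11, 12, 13, 14, 15, 16, 17, 18, 19, 20, 21, 22, 0, 23], tab [23, 22, 11, 15, 17, 9, 19, 13, 20, 5, 16, 2, 21, 7, 18, 3, 10, 4, 14, 6, 8, 12, 1, 0], tab [0, 18, 6, 3, 2, 21, 1, 5, 16, 12, 7, 19, 8, 9, 17, 15, 13, 11, 4, 22, 10, 20, 14, 23]] : List (GolayPt → GolayPt)),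
      ∃ g ∈ fixer [], ∀ x, g x = f x := by
    intro f hf
    simp only [List.mem_cons, List.not_mem_nil, or_false] at hf
    rcases hf with rfl | rfl | rfl
    · exact ⟨gS, mem_fixer_of_tab gS_mem gS_apply (by decide), gS_apply⟩
    · exact ⟨gT, mem_fixer_of_tab gT_mem gT_apply (by decide), gT_apply⟩
    · exact ⟨gD, mem_fixer_of_tab gD_mem gD_apply (by decide), gD_apply⟩
  have key := reach_closeN (fixer []) (none) _ hfs 6 [none] (by
    intro y hy
    rw [List.mem_singleton] at hy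
    subst hy
    exact ⟨1, Subgroup.one_mem _, rfl⟩)
  intro y hy
  exact key y (by revert y; decide +kernel)

theorem level1 : ∀ y : GolayPt, y ∉ ([none] : List GolayPt) →
    ∃ g ∈ fixer [none], g (some 0) = y := by
  have hfs : ∀ f ∈ ([tab [1, 2, 3, 4, 5, 6, 7, 8, 9, 10, 11, 12, 13, 14, 15, 16, 17, 18, 19, 20, 21, 22, 0, 23], tab [0, 18, 6, 3, 2, 21, 1, 5, 16, 12, 7, 19, 8, 9, 17, 15, 13, 11, 4, 22, 10, 20, 14, 23], tab [22, 0, 1, 2, 3, 4, 5, 6, 7, 8, 9, 10, 11, 12, 13, 14, 15, 16, 17, 18, 19, 20, 21, 23]] : List (GolayPt → GolayPt)),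
      ∃ g ∈ fixer [none], ∀ x, g x = f x := by
    intro f hf
    simp only [List.mem_cons, List.not_mem_nil, or_false] at hf
    rcases hf with rfl | rfl | rfl
    · exact ⟨gS, mem_fixer_of_tab gS_mem gS_apply (by decide), gS_apply⟩
    · exact ⟨gD, mem_fixer_of_tab gD_mem gD_apply (by decide), gD_apply⟩
    · exact ⟨gSi, mem_fixer_of_tab gSi_mem gSi_apply (by decide), gSi_apply⟩
  have key := reach_closeN (fixer [none]) (some 0) _ hfs 5 [some 0] (by
    intro y hy
    rw [List.mem_singleton] at hy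
    subst hy
    exact ⟨1, Subgroup.one_mem _, rfl⟩)
  intro y hy
  exact key y (by revert y; decide +kernel)

theorem level2 : ∀ y : GolayPt, y ∉ ([none, some 0] : List GolayPt) →
    ∃ g ∈ fixer [none, some 0], g (some 1) = y := by
  have hfs : ∀ f ∈ ([tab [0, 18, 6, 3, 2, 21, 1, 5, 16, 12, 7, 19, 8, 9, 17, 15, 13, 11, 4, 22, 10, 20, 14, 23], tab [0, 2, 5, 19, 17, 20, 12, 7, 4, 21, 15, 11, 10, 14, 8, 18, 1, 13, 6, 9, 16, 22, 3, 23]] : List (GolayPt → GolayPt)),
      ∃ g ∈ fixer [none, some 0], ∀ x, g x = f x := by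
    intro f hf
    simp only [List.mem_cons, List.not_mem_nil, or_false] at hf
    rcases hf with rfl | rfl
    · exact ⟨h1, mem_fixer_of_tab h1_mem h1_apply (by decide), h1_apply⟩
    · exact ⟨h2, mem_fixer_of_tab h2_mem h2_apply (by decide), h2_apply⟩
  have key := reach_closeN (fixer [none, some 0]) (some 1) _ hfs 5 [some 1] (by
    intro y hy
    rw [List.mem_singleton] at hy
    subst hy
    exact ⟨1, Subgroup.one_mem _, rfl⟩)
  intro y hy
  exact key y (by revert y; decide +kernel)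

theorem level3 : ∀ y : GolayPt, y ∉ ([none, some 0, some 1] : List GolayPt) →
    ∃ g ∈ fixer [none, some 0, some 1], g (some 2) = y := by
  have hfs : ∀ f ∈ ([tab [0, 1, 8, 22, 21, 14, 6, 10, 18, 7, 5, 12, 2, 20, 9, 4, 17, 19, 11, 3, 15, 13, 16, 23], tab [0, 1, 15, 22, 16, 12, 8, 5, 19, 20, 9, 13, 17, 14, 3, 10, 6, 21, 18, 4, 2, 7, 11, 23]] : List (GolayPt → GolayPt)),
      ∃ g ∈ fixer [none, some 0, some 1], ∀ x, g x = f x := by
    intro f hf
    simp only [List.mem_cons, List.not_mem_nil, or_false] at hf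
    rcases hf with rfl | rfl
    · exact ⟨h3, mem_fixer_of_tab h3_mem h3_apply (by decide), h3_apply⟩
    · exact ⟨h4, mem_fixer_of_tab h4_mem h4_apply (by decide), h4_apply⟩
  have key := reach_closeN (fixer [none, some 0, some 1]) (some 2) _ hfs 4 [some 2] (by
    intro y hy
    rw [List.mem_singleton] at hy
    subst hy
    exact ⟨1, Subgroup.one_mem _, rfl⟩)
  intro y hy
  exact key y (by revert y; decide +kernel)

theorem level4 : ∀ y : GolayPt, y ∉ ([none, some 0, some 1, some 2] : List GolayPt) →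
    ∃ g ∈ fixer [none, some 0, some 1, some 2], g (some 3) = y := by
  have hfs : ∀ f ∈ ([tab [0, 1, 2, 22, 11, 13, 15, 9, 21, 14, 3, 7, 6, 12, 4, 5, 8, 16, 19, 10, 17, 20, 18, 23], tab [0, 1, 2, 6, 10, 21, 12, 18, 4, 5, 17, 13, 16, 9, 7, 14, 20, 19, 22, 8, 3, 11, 15, 23]] : List (GolayPt → GolayPt)),
      ∃ g ∈ fixer [none, some 0, some 1, some 2], ∀ x, g x = f x := by
    intro f hf
    simp only [List.mem_cons, List.not_mem_nil, or_false] at hf
    rcases hf with rfl | rfl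
    · exact ⟨h5, mem_fixer_of_tab h5_mem h5_apply (by decide), h5_apply⟩
    · exact ⟨h6, mem_fixer_of_tab h6_mem h6_apply (by decide), h6_apply⟩
  have key := reach_closeN (fixer [none, some 0, some 1, some 2]) (some 3) _ hfs 5 [some 3] (by
    intro y hy
    rw [List.mem_singleton] at hy
    subst hy
    exact ⟨1, Subgroup.one_mem _, rfl⟩)
  intro y hy
  exact key y (by revert y; decide +kernel)

theorem level5 : ∀ y : GolayPt, y ∈ ([some 5, some 14, some 17] : List GolayPt) →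
    ∃ g ∈ fixer [none, some 0, some 1, some 2, some 3], g (some 5) = y := by
  have hfs : ∀ f ∈ ([tab [0, 1, 2, 3, 16, 14, 10, 15, 6, 12, 8, 7, 19, 13, 17, 11, 22, 5, 21, 9, 18, 20, 4, 23], tab [0, 1, 2, 3, 21, 17, 10, 20, 8, 4, 13, 12, 18, 6, 5, 16, 19, 14, 11, 15, 22, 9, 7, 23], tab [0, 1, 2, 3, 12, 14, 19, 7, 20, 16, 4, 15, 10, 11, 17, 13, 18, 5, 9, 21, 22, 6, 8, 23]] : List (GolayPt → GolayPt)),
      ∃ g ∈ fixer [none, some 0, some 1, some 2, some 3], ∀ x, g x = f x := by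
    intro f hf
    simp only [List.mem_cons, List.not_mem_nil, or_false] at hf
    rcases hf with rfl | rfl | rfl
    · exact ⟨h7, mem_fixer_of_tab h7_mem h7_apply (by decide), h7_apply⟩
    · exact ⟨h8, mem_fixer_of_tab h8_mem h8_apply (by decide), h8_apply⟩
    · exact ⟨h9, mem_fixer_of_tab h9_mem h9_apply (by decide), h9_apply⟩
  have key := reach_closeN (fixer [none, some 0, some 1, some 2, some 3]) (some 5) _ hfs 1 [some 5] (by
    intro y hy
    rw [List.mem_singleton] at hy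
    subst hy
    exact ⟨1, Subgroup.one_mem _, rfl⟩)
  intro y hy
  exact key y (by revert y; decide +kernel)

theorem level6 : ∀ y : GolayPt, y ∈ ([some 4, some 6, some 7, some 8, some 9, some 10, some 11, some 12, some 13, some 15, some 16, some 18, some 19, some 20, some 21, some 22] : List GolayPt) →
    ∃ g ∈ fixer [none, some 0, some 1, some 2, some 3, some 5], g (some 4) = y := by
  have hfs : ∀ f ∈ ([tab [0, 1, 2, 3, 20, 5, 8, 18, 6, 16, 13, 19, 21, 10, 14, 22, 9, 17, 7, 11, 4, 12, 15, 23], tab [0, 1, 2, 3, 19, 5, 13, 16, 10, 18, 8, 20, 15, 6, 14, 12, 7, 17, 9, 4, 11, 22, 21, 23], tab [0, 1, 2, 3, 9, 5, 12, 11, 21, 4, 22, 7, 6, 15, 14, 13, 20, 17, 19, 18, 16, 8, 10, 23], tab [0, 1, 2, 3, 8, 5, 20, 15, 4, 21, 19, 13, 16, 11, 14, 7, 12, 17, 22, 10, 6, 9, 18, 23]] : List (GolayPt → GolayPt)),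
      ∃ g ∈ fixer [none, some 0, some 1, some 2, some 3, some 5], ∀ x, g x = f x := by
    intro f hf
    simp only [List.mem_cons, List.not_mem_nil, or_false] at hf
    rcases hf with rfl | rfl | rfl | rfl
    · exact ⟨h10, mem_fixer_of_tab h10_mem h10_apply (by decide), h10_apply⟩
    · exact ⟨h11, mem_fixer_of_tab h11_mem h11_apply (by decide), h11_apply⟩
    · exact ⟨h12, mem_fixer_of_tab h12_mem h12_apply (by decide), h12_apply⟩
    · exact ⟨h13, mem_fixer_of_tab h13_mem h13_apply (by decide), h13_apply⟩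
  have key := reach_closeN (fixer [none, some 0, some 1, some 2, some 3, some 5]) (some 4) _ hfs 4 [some 4] (by
    intro y hy
    rw [List.mem_singleton] at hy
    subst hy
    exact ⟨1, Subgroup.one_mem _, rfl⟩)
  intro y hy
  exact key y (by revert y; decide +kernel)

end Cfsg.Agent.Lib.Helper9.M24
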