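import Mathlib
import Cfsg.Prelude.Def_Sporadic_a
import Cfsg.Agent.Lib.Helper9.M24B

set_option autoImplicit false
open Cfsg

/-! The group of the length-24 code is 5-transitive. -/

namespace Cfsg.Agent.Lib.Helper9.M24

/-- From transitivity of the successive stabilizers of a base to transitivity on injective tuples. -/
theorem chain_transitive {X : Type*} (G : Subgroup (Equiv.Perm X)) {n : ℕ} (b : Fin n → X)
    (H : ∀ (k : Fin n) (y : X), (∀ i : Fin n, i < k → y ≠ b i) →
      ∃ g ∈ G, (∀ i : Fin n, i < k → g (b i) = b i) ∧ g (b k) = y)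
    (x : Fin n → X) (hx : Function.Injective x) : ∃ g ∈ G, ∀ i, g (b i) = x i := by
  have key : ∀ m : ℕ, m ≤ n → ∃ g ∈ G, ∀ i : Fin n, i.val < m → g (b i) = x i := by
    intro m
    induction m with
    | zero => intro _; exact ⟨1, G.one_mem, fun i hi => absurd hi (Nat.not_lt_zero _)⟩
    | succ m ih =>
      intro hm
      obtain ⟨g, hg, Hg⟩ := ih (Nat.le_of_succ_le hm)
      obtain ⟨k, hk⟩ : ∃ k : Fin n, k = ⟨m, hm⟩ := ⟨_, rfl⟩
      have hkv : k.val = m := by rw [hk]
      have hy : ∀ i : Fin n, i < k → g⁻¹ (x k) ≠ b i := by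
        intro i hik heq
        have h1 : g (b i) = x k := by rw [← heq]; simp
        have hiv : i.val < m := by rw [← hkv]; exact hik
        rw [Hg i hiv] at h1
        have := hx h1
        exact (ne_of_lt hik) this
      obtain ⟨h, hh, Hh1, Hh2⟩ := H k (g⁻¹ (x k)) hy
      refine ⟨g * h, G.mul_mem hg hh, fun i hi => ?_⟩
      rw [Equiv.Perm.mul_apply]
      rcases Nat.lt_succ_iff_lt_or_eq.mp hi with hlt | heq
      · have hik : i < k := by
          show i.val < k.val
          rw [hkv]; exact hlt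
        rw [Hh1 i hik, Hg i hlt]
      · have hik : i = k := Fin.ext (by rw [heq, hkv])
        rw [hik, Hh2]
        simp
  obtain ⟨g, hg, Hg⟩ := key n le_rfl
  exact ⟨g, hg, fun i => Hg i i.2⟩

/-- The base of five points. -/
def base5 : Fin 5 → GolayPt := ![none, some 0, some 1, some 2, some 3]

theorem base5_step (k : Fin 5) (y : GolayPt) (hy : ∀ i : Fin 5, i < k → y ≠ base5 i) :
    ∃ g ∈ M24, (∀ i : Fin 5, i < k → g (base5 i) = base5 i) ∧ g (base5 k) = y := by
  fin_cases k
  · obtain ⟨g, hg, hgy⟩ := level0 y (by simp)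
    exact ⟨g, hg.1, fun i hi => absurd hi (by simp), hgy⟩
  · have hy0 : y ≠ none := hy 0 (by decide)
    obtain ⟨g, hg, hgy⟩ := level1 y (by simp [hy0])
    refine ⟨g, hg.1, fun i hi => ?_, hgy⟩
    have : i = 0 := by revert i; decide
    subst this
    exact hg.2 _ (by simp [base5])
  · have hy0 : y ≠ none := hy 0 (by decide)
    have hy1 : y ≠ some 0 := hy 1 (by decide)
    obtain ⟨g, hg, hgy⟩ := level2 y (by simp [hy0, hy1])
    refine ⟨g, hg.1, fun i hi => ?_, hgy⟩
    have : i = 0 ∨ i = 1 := by revert i; decide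
    rcases this with rfl | rfl
    · exact hg.2 _ (by simp [base5])
    · exact hg.2 _ (by simp [base5])
  · have hy0 : y ≠ none := hy 0 (by decide)
    have hy1 : y ≠ some 0 := hy 1 (by decide)
    have hy2 : y ≠ some 1 := hy 2 (by decide)
    obtain ⟨g, hg, hgy⟩ := level3 y (by simp [hy0, hy1, hy2])
    refine ⟨g, hg.1, fun i hi => ?_, hgy⟩
    have : i = 0 ∨ i = 1 ∨ i = 2 := by revert i; decide
    rcases this with rfl | rfl | rfl
    · exact hg.2 _ (by simp [base5])
    · exact hg.2 _ (by simp [base5])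
    · exact hg.2 _ (by simp [base5])
  · have hy0 : y ≠ none := hy 0 (by decide)
    have hy1 : y ≠ some 0 := hy 1 (by decide)
    have hy2 : y ≠ some 1 := hy 2 (by decide)
    have hy3 : y ≠ some 2 := hy 3 (by decide)
    obtain ⟨g, hg, hgy⟩ := level4 y (by simp [hy0, hy1, hy2, hy3])
    refine ⟨g, hg.1, fun i hi => ?_, hgy⟩
    have : i = 0 ∨ i = 1 ∨ i = 2 ∨ i = 3 := by revert i; decide
    rcases this with rfl | rfl | rfl | rfl
    · exact hg.2 _ (by simp [base5])
    · exact hg.2 _ (by simp [base5])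
    · exact hg.2 _ (by simp [base5])
    · exact hg.2 _ (by simp [base5])

theorem base5_injective : Function.Injective base5 := by decide

/-- Every injective 5-tuple of points is the image of the base under an element of `M24`. -/
theorem exists_map_base5 (x : Fin 5 → GolayPt) (hx : Function.Injective x) :
    ∃ g ∈ M24, ∀ i, g (base5 i) = x i :=
  chain_transitive M24 base5 base5_step x hx

theorem m24_five_transitive : MulAction.IsMultiplyPretransitive M24 GolayPt 5 := by
  refine ⟨fun x y => ?_⟩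
  obtain ⟨g1, hg1, H1⟩ := exists_map_base5 x x.injective
  obtain ⟨g2, hg2, H2⟩ := exists_map_base5 y y.injective
  refine ⟨⟨g2 * g1⁻¹, Subgroup.mul_mem _ hg2 (Subgroup.inv_mem _ hg1)⟩, ?_⟩
  apply Function.Embedding.ext
  intro i
  show (g2 * g1⁻¹) (x i) = y i
  rw [← H1 i, ← H2 i, Equiv.Perm.mul_apply]
  simp

end Cfsg.Agent.Lib.Helper9.M24
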