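import Mathlib
import Cfsg.Prelude.Def_Sporadic_a
import Cfsg.Agent.Lib.Helper9.GolayG5
import Cfsg.Agent.Lib.Helper9.GolayConcrete

set_option autoImplicit false
open Cfsg

/-! Octad systems: an automorphism fixing six points of an octad and a point outside it is trivial. -/

namespace Cfsg.Agent.Lib.Helper9.M24

open Finset

/-- An octad system: a Steiner system `S(5,8,·)` in which two distinct blocks meet in 0, 2 or 4 points, and in the
last case their symmetric difference is a block. -/
structure IsOctadSystem {α : Type*} [DecidableEq α] (B : Set (Finset α)) : Prop where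
  steiner : IsSteinerSystem 5 8 B
  inter : ∀ o ∈ B, ∀ o' ∈ B, o ≠ o' →
    (o ∩ o').card = 0 ∨ (o ∩ o').card = 2 ∨ ((o ∩ o').card = 4 ∧ symmDiff o o' ∈ B)

section
variable {α : Type*} [DecidableEq α] {B : Set (Finset α)}

theorem IsOctadSystem.eq_of_five_le (hB : IsOctadSystem B) {b b' : Finset α} (hb : b ∈ B) (hb' : b' ∈ B)
    (h : 5 ≤ (b ∩ b').card) : b = b' := by
  obtain ⟨s, hs, hcard⟩ := Finset.exists_subset_card_eq h
  obtain ⟨c, -, hc⟩ := hB.steiner.2 s hcard
  have h1 := hc b ⟨hb, hs.trans Finset.inter_subset_left⟩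
  have h2 := hc b' ⟨hb', hs.trans Finset.inter_subset_right⟩
  rw [h1, h2]

theorem IsOctadSystem.exists_block (hB : IsOctadSystem B) (s : Finset α) (hs : s.card = 5) :
    ∃ b ∈ B, s ⊆ b := by
  obtain ⟨c, hc, -⟩ := hB.steiner.2 s hs
  exact ⟨c, hc.1, hc.2⟩

theorem IsOctadSystem.card_eq (hB : IsOctadSystem B) {b : Finset α} (hb : b ∈ B) : b.card = 8 :=
  hB.steiner.1 b hb

/-- Two distinct blocks meeting in at least three points meet in exactly four, and their symmetric difference is
a block. -/
theorem IsOctadSystem.inter_of_three_le (hB : IsOctadSystem B) {o o' : Finset α} (ho : o ∈ B) (ho' : o' ∈ B)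
    (hne : o ≠ o') (h : 3 ≤ (o ∩ o').card) : (o ∩ o').card = 4 ∧ symmDiff o o' ∈ B := by
  rcases hB.inter o ho o' ho' hne with h0 | h2 | h4
  · omega
  · omega
  · exact h4

/-- A block containing at least five fixed points of an automorphism is invariant. -/
theorem IsOctadSystem.image_eq_of_fixed (hB : IsOctadSystem B) (g : Equiv.Perm α)
    (hg : ∀ b ∈ B, b.image g ∈ B) {b : Finset α} (hb : b ∈ B) {F : Finset α} (hFb : F ⊆ b)
    (hF : 5 ≤ F.card) (hfix : ∀ z ∈ F, g z = z) : b.image g = b := by
  apply hB.eq_of_five_le (hg b hb) hb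
  refine le_trans hF (Finset.card_le_card ?_)
  intro z hz
  rw [Finset.mem_inter]
  refine ⟨?_, hFb hz⟩
  rw [Finset.mem_image]
  exact ⟨z, hFb hz, hfix z hz⟩

theorem mem_of_image_eq {g : Equiv.Perm α} {b : Finset α} (h : b.image g = b) {z : α} (hz : z ∈ b) :
    g z ∈ b := by
  rw [← h]
  exact Finset.mem_image_of_mem _ hz

theorem not_mem_of_image_eq {g : Equiv.Perm α} {b : Finset α} (h : b.image g = b) {z : α} (hz : z ∉ b) :
    g z ∉ b := by
  intro hgz
  rw [← h, Finset.mem_image] at hgz
  obtain ⟨w, hw, hwz⟩ := hgz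
  have := g.injective hwz
  rw [this] at hw
  exact hz hw

/-- **Rigidity**: an automorphism of an octad system fixing six points of a block and one point outside the
block is the identity. -/
theorem IsOctadSystem.rigid (hB : IsOctadSystem B) (g : Equiv.Perm α) (hg : ∀ b ∈ B, b.image g ∈ B)
    {O : Finset α} (hO : O ∈ B) {P : Finset α} (hPO : P ⊆ O) (hP : P.card = 6)
    (hfixP : ∀ p ∈ P, g p = p) {x : α} (hxO : x ∉ O) (hx : g x = x) : ∀ z, g z = z := by
  have hOcard : O.card = 8 := hB.card_eq hO
  -- Step 0
  have hOinv : O.image g = O :=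
    hB.image_eq_of_fixed g hg hO hPO (by omega) hfixP
  -- the two remaining points
  have hdiff : (O \ P).card = 2 := by
    rw [Finset.card_sdiff_of_subset hPO]; omega
  obtain ⟨a, b, hab, hdiffeq⟩ := Finset.card_eq_two.mp hdiff
  have haOP : a ∈ O \ P := by rw [hdiffeq]; simp
  have hbOP : b ∈ O \ P := by rw [hdiffeq]; simp
  rw [Finset.mem_sdiff] at haOP hbOP
  have hO_cases : ∀ z ∈ O, z ∈ P ∨ z = a ∨ z = b := by
    intro z hz
    by_cases hzP : z ∈ P
    · exact Or.inl hzP
    · have : z ∈ O \ P := Finset.mem_sdiff.mpr ⟨hz, hzP⟩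
      rw [hdiffeq] at this
      simp only [Finset.mem_insert, Finset.mem_singleton] at this
      exact Or.inr this
  -- Step 1
  have step1 : ∀ y, y ∉ O → y ≠ x → g y = y := by
    intro y hyO hyx
    -- the block through x, y, a, b, p
    have blk : ∀ p ∈ P, ∃ Bp ∈ B, x ∈ Bp ∧ y ∈ Bp ∧ a ∈ Bp ∧ b ∈ Bp ∧ p ∈ Bp ∧ (Bp ∩ O).card = 4 ∧
        symmDiff Bp O ∈ B := by
      intro p hp
      have hpO : p ∈ O := hPO hp
      have hs : ({x, y, a, b, p} : Finset α).card = 5 := by
        rw [Finset.card_insert_of_notMem, Finset.card_insert_of_notMem, Finset.card_insert_of_notMem,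
          Finset.card_insert_of_notMem, Finset.card_singleton]
        · simp only [Finset.mem_singleton]
          rintro rfl; exact hbOP.2 hp
        · simp only [Finset.mem_insert, Finset.mem_singleton, not_or]
          exact ⟨hab, by rintro rfl; exact haOP.2 hp⟩
        · simp only [Finset.mem_insert, Finset.mem_singleton, not_or]
          exact ⟨by rintro rfl; exact hyO haOP.1, by rintro rfl; exact hyO hbOP.1,
            by rintro rfl; exact hyO hpO⟩
        · simp only [Finset.mem_insert, Finset.mem_singleton, not_or]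
          exact ⟨fun h => hyx h.symm, by rintro rfl; exact hxO haOP.1, by rintro rfl; exact hxO hbOP.1,
            by rintro rfl; exact hxO hpO⟩
      obtain ⟨Bp, hBp, hsub⟩ := hB.exists_block _ hs
      have hxB : x ∈ Bp := hsub (by simp)
      have hyB : y ∈ Bp := hsub (by simp)
      have haB : a ∈ Bp := hsub (by simp)
      have hbB : b ∈ Bp := hsub (by simp)
      have hpB : p ∈ Bp := hsub (by simp)
      have hne : Bp ≠ O := by
        rintro rfl; exact hxO hxB
      have h3 : 3 ≤ (Bp ∩ O).card := by
        have hsub3 : ({a, b, p} : Finset α) ⊆ Bp ∩ O := by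
          intro z hz
          simp only [Finset.mem_insert, Finset.mem_singleton] at hz
          rcases hz with rfl | rfl | rfl
          · exact Finset.mem_inter.mpr ⟨haB, haOP.1⟩
          · exact Finset.mem_inter.mpr ⟨hbB, hbOP.1⟩
          · exact Finset.mem_inter.mpr ⟨hpB, hpO⟩
        have hc3 : ({a, b, p} : Finset α).card = 3 := by
          rw [Finset.card_insert_of_notMem, Finset.card_insert_of_notMem, Finset.card_singleton]
          · simp only [Finset.mem_singleton]
            rintro rfl; exact hbOP.2 hp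
          · simp only [Finset.mem_insert, Finset.mem_singleton, not_or]
            exact ⟨hab, by rintro rfl; exact haOP.2 hp⟩
        rw [← hc3]
        exact Finset.card_le_card hsub3
      obtain ⟨h4, hsym⟩ := hB.inter_of_three_le hBp hO hne h3
      exact ⟨Bp, hBp, hxB, hyB, haB, hbB, hpB, h4, hsym⟩
    -- invariance of the symmetric difference
    have inv : ∀ Bp ∈ B, x ∈ Bp → a ∈ Bp → b ∈ Bp → (Bp ∩ O).card = 4 → symmDiff Bp O ∈ B →
        (symmDiff Bp O).image g = symmDiff Bp O := by
      intro Bp _ hxB haB hbB h4 hsym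
      have hsubP : O \ Bp ⊆ P := by
        intro z hz
        rw [Finset.mem_sdiff] at hz
        rcases hO_cases z hz.1 with h | rfl | rfl
        · exact h
        · exact absurd haB hz.2
        · exact absurd hbB hz.2
      have hcard4 : (O \ Bp).card = 4 := by
        have := Finset.card_sdiff_add_card_inter O Bp
        rw [Finset.inter_comm] at this
        omega
      have hxn : x ∉ O \ Bp := fun h => hxO (Finset.mem_sdiff.mp h).1
      refine hB.image_eq_of_fixed g hg hsym (F := insert x (O \ Bp)) ?_ ?_ ?_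
      · intro z hz
        rw [Finset.mem_insert] at hz
        rw [Finset.mem_symmDiff]
        rcases hz with rfl | hz
        · exact Or.inl ⟨hxB, hxO⟩
        · rw [Finset.mem_sdiff] at hz
          exact Or.inr ⟨hz.1, hz.2⟩
      · rw [Finset.card_insert_of_notMem hxn, hcard4]
      · intro z hz
        rw [Finset.mem_insert] at hz
        rcases hz with rfl | hz
        · exact hx
        · exact hfixP z (hsubP hz)
    -- choose p₁ and p₂
    have hPne : P.Nonempty := by
      rw [← Finset.card_pos]; omega
    obtain ⟨p₁, hp₁⟩ := hPne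
    obtain ⟨B₁, hB₁, hx1, hy1, ha1, hb1, hp1, h41, hsym1⟩ := blk p₁ hp₁
    have hPB1 : (P ∩ B₁).card ≤ 2 := by
      have hsub : insert a (insert b (P ∩ B₁)) ⊆ B₁ ∩ O := by
        intro z hz
        simp only [Finset.mem_insert, Finset.mem_inter] at hz
        rcases hz with rfl | rfl | ⟨h1, h2⟩
        · exact Finset.mem_inter.mpr ⟨ha1, haOP.1⟩
        · exact Finset.mem_inter.mpr ⟨hb1, hbOP.1⟩
        · exact Finset.mem_inter.mpr ⟨h2, hPO h1⟩
      have hc := Finset.card_le_card hsub
      rw [Finset.card_insert_of_notMem, Finset.card_insert_of_notMem, h41] at hc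
      · omega
      · intro h; exact hbOP.2 (Finset.mem_inter.mp h).1
      · simp only [Finset.mem_insert, Finset.mem_inter, not_or]
        exact ⟨hab, fun h => haOP.2 h.1⟩
    have hex : ∃ p₂ ∈ P, p₂ ∉ B₁ := by
      by_contra hcon
      push Not at hcon
      have : P ⊆ P ∩ B₁ := fun z hz => Finset.mem_inter.mpr ⟨hz, hcon z hz⟩
      have := Finset.card_le_card this
      omega
    obtain ⟨p₂, hp₂, hp₂B₁⟩ := hex
    obtain ⟨B₂, hB₂, hx2, hy2, ha2, hb2, hp2, h42, hsym2⟩ := blk p₂ hp₂
    have hne12 : B₁ ≠ B₂ := by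
      rintro rfl; exact hp₂B₁ hp2
    have hc4 : ({x, y, a, b} : Finset α).card = 4 := by
      rw [Finset.card_insert_of_notMem, Finset.card_insert_of_notMem, Finset.card_insert_of_notMem,
        Finset.card_singleton]
      · simp only [Finset.mem_singleton]; exact hab
      · simp only [Finset.mem_insert, Finset.mem_singleton, not_or]
        exact ⟨by rintro rfl; exact hyO haOP.1, by rintro rfl; exact hyO hbOP.1⟩
      · simp only [Finset.mem_insert, Finset.mem_singleton, not_or]
        exact ⟨fun h => hyx h.symm, by rintro rfl; exact hxO haOP.1, by rintro rfl; exact hxO hbOP.1⟩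
    have hsub12 : ({x, y, a, b} : Finset α) ⊆ B₁ ∩ B₂ := by
      intro z hz
      simp only [Finset.mem_insert, Finset.mem_singleton] at hz
      rcases hz with rfl | rfl | rfl | rfl
      · exact Finset.mem_inter.mpr ⟨hx1, hx2⟩
      · exact Finset.mem_inter.mpr ⟨hy1, hy2⟩
      · exact Finset.mem_inter.mpr ⟨ha1, ha2⟩
      · exact Finset.mem_inter.mpr ⟨hb1, hb2⟩
    have h3' : 3 ≤ (B₁ ∩ B₂).card := by
      have := Finset.card_le_card hsub12
      omega
    obtain ⟨h412, -⟩ := hB.inter_of_three_le hB₁ hB₂ hne12 h3'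
    have heq12 : ({x, y, a, b} : Finset α) = B₁ ∩ B₂ :=
      Finset.eq_of_subset_of_card_le hsub12 (by rw [h412, hc4])
    have hinv1 := inv B₁ hB₁ hx1 ha1 hb1 h41 hsym1
    have hinv2 := inv B₂ hB₂ hx2 ha2 hb2 h42 hsym2
    have hgyO : g y ∉ O := not_mem_of_image_eq hOinv hyO
    have hgy1 : g y ∈ B₁ := by
      have : g y ∈ symmDiff B₁ O :=
        mem_of_image_eq hinv1 (Finset.mem_symmDiff.mpr (Or.inl ⟨hy1, hyO⟩))
      rcases Finset.mem_symmDiff.mp this with h | h
      · exact h.1
      · exact absurd h.1 hgyO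
    have hgy2 : g y ∈ B₂ := by
      have : g y ∈ symmDiff B₂ O :=
        mem_of_image_eq hinv2 (Finset.mem_symmDiff.mpr (Or.inl ⟨hy2, hyO⟩))
      rcases Finset.mem_symmDiff.mp this with h | h
      · exact h.1
      · exact absurd h.1 hgyO
    have hmem : g y ∈ ({x, y, a, b} : Finset α) := by
      rw [heq12]; exact Finset.mem_inter.mpr ⟨hgy1, hgy2⟩
    simp only [Finset.mem_insert, Finset.mem_singleton] at hmem
    rcases hmem with h | h | h | h
    · exfalso
      have : g y = g x := by rw [h, hx]
      exact hyx (g.injective this)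
    · exact h
    · exfalso; rw [h] at hgyO; exact hgyO haOP.1
    · exfalso; rw [h] at hgyO; exact hgyO hbOP.1
  -- all points outside O are fixed
  have hout : ∀ y, y ∉ O → g y = y := by
    intro y hy
    by_cases hyx : y = x
    · rw [hyx]; exact hx
    · exact step1 y hy hyx
  -- Step 2
  have step2 : ∀ c ∈ O, c ∉ P → g c = c := by
    intro c hcO hcP
    obtain ⟨T, hTP, hTcard⟩ := Finset.exists_subset_card_eq (s := P) (n := 3) (by omega)
    have hcT : c ∉ T := fun h => hcP (hTP h)
    have hxT : x ∉ T := fun h => hxO (hPO (hTP h))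
    have hxc : x ≠ c := by rintro rfl; exact hxO hcO
    have hs : (insert x (insert c T)).card = 5 := by
      rw [Finset.card_insert_of_notMem, Finset.card_insert_of_notMem hcT, hTcard]
      simp only [Finset.mem_insert, not_or]
      exact ⟨hxc, hxT⟩
    obtain ⟨B', hB', hsub⟩ := hB.exists_block _ hs
    have hxB' : x ∈ B' := hsub (by simp)
    have hcB' : c ∈ B' := hsub (by simp)
    have hTB' : T ⊆ B' := fun z hz => hsub (by simp [hz])
    have hne : B' ≠ O := by rintro rfl; exact hxO hxB'
    have hsub4 : insert c T ⊆ B' ∩ O := by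
      intro z hz
      rw [Finset.mem_insert] at hz
      rcases hz with rfl | hz
      · exact Finset.mem_inter.mpr ⟨hcB', hcO⟩
      · exact Finset.mem_inter.mpr ⟨hTB' hz, hPO (hTP hz)⟩
    have hc4 : (insert c T).card = 4 := by rw [Finset.card_insert_of_notMem hcT, hTcard]
    have h3 : 3 ≤ (B' ∩ O).card := by
      have := Finset.card_le_card hsub4
      omega
    obtain ⟨h4, -⟩ := hB.inter_of_three_le hB' hO hne h3
    have heq : insert c T = B' ∩ O := Finset.eq_of_subset_of_card_le hsub4 (by rw [h4, hc4])
    have hB'card : B'.card = 8 := hB.card_eq hB'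
    have hinv : B'.image g = B' := by
      refine hB.image_eq_of_fixed g hg hB' (F := B'.erase c) (Finset.erase_subset _ _) ?_ ?_
      · rw [Finset.card_erase_of_mem hcB']; omega
      · intro z hz
        rw [Finset.mem_erase] at hz
        by_cases hzO : z ∈ O
        · have : z ∈ insert c T := by rw [heq]; exact Finset.mem_inter.mpr ⟨hz.2, hzO⟩
          rw [Finset.mem_insert] at this
          rcases this with h | h
          · exact absurd h hz.1
          · exact hfixP z (hTP h)
        · exact hout z hzO
    have hgc : g c ∈ insert c T := by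
      rw [heq]
      exact Finset.mem_inter.mpr ⟨mem_of_image_eq hinv hcB', mem_of_image_eq hOinv hcO⟩
    rw [Finset.mem_insert] at hgc
    rcases hgc with h | h
    · exact h
    · exfalso
      have h1 : g (g c) = g c := hfixP _ (hTP h)
      have h2 : g c = c := g.injective h1
      rw [h2] at h
      exact hcT h
  intro z
  by_cases hzO : z ∈ O
  · by_cases hzP : z ∈ P
    · exact hfixP z hzP
    · exact step2 z hzO hzP
  · exact hout z hzO

end

open Cfsg.Agent.Lib.Helper9.GolayG in
/-- The octads of an abstract Golay code form an octad system. -/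
theorem isOctadSystem_of_isAbsGolay {α : Type*} [Fintype α] [DecidableEq α]
    {C : Submodule (ZMod 2) (α → ZMod 2)} (hC : IsAbsGolay C) :
    IsOctadSystem (wordsOfWeight (C : Set (α → ZMod 2)) 8) := by
  refine ⟨octads_steiner hC, ?_⟩
  rintro o ⟨⟨c, hc, rfl⟩, hcard⟩ o' ⟨⟨c', hc', rfl⟩, hcard'⟩ hne
  rw [← hammingNorm_eq_card_support₂] at hcard hcard'
  have hadd := wt_add c c'
  have hw := weights hC (C.add_mem hc hc')
  have hne0 : hammingNorm (c + c') ≠ 0 := by
    intro h0
    rw [hammingNorm_eq_zero] at h0
    apply hne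
    have : c = c' := by
      have h1 : c + c' + c' = c := by rw [add_assoc, add_self_word, add_zero]
      rw [h0, zero_add] at h1
      exact h1.symm
    rw [this]
  rcases hw with h | h | h | h | h
  · exact absurd h hne0
  · right; right
    refine ⟨by omega, ⟨c + c', C.add_mem hc hc', support₂_add c c'⟩, ?_⟩
    rw [← support₂_add, ← hammingNorm_eq_card_support₂, h]
  · right; left; omega
  · left; omega
  · omega

theorem octads_isOctadSystem : IsOctadSystem Cfsg.octads :=
  isOctadSystem_of_isAbsGolay Cfsg.Agent.Lib.Helper9.GolayG.golayCode_isAbsGolay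

end Cfsg.Agent.Lib.Helper9.M24
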