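import Mathlib
import Cfsg.Prelude.Def_Sporadic_a
import Cfsg.Agent.S0369
import Cfsg.Agent.Lib.Helper9.M24C
import Cfsg.Agent.Lib.Helper9.M24D

set_option autoImplicit false
open Cfsg

/-! The order of the group of the length-24 code. -/

namespace Cfsg.Agent.Lib.Helper9.M24

open scoped Pointwise

/-- The octad through the base points. -/
def baseOctad : Finset GolayPt := {none, some 0, some 1, some 2, some 3, some 5, some 14, some 17}

/-- A code word with support `baseOctad`. -/
def baseWord : GolayPt → ZMod 2 :=
  qrWord 0 + qrWord 1 + qrWord 2 + qrWord 6 + qrWord 7 + qrWord 8 + 1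

theorem baseWord_mem : baseWord ∈ golayCode := by
  have hq : ∀ t, qrWord t ∈ golayCode := fun t =>
    Submodule.subset_span (Set.mem_union_left _ ⟨t, rfl⟩)
  have h1 : (1 : GolayPt → ZMod 2) ∈ golayCode :=
    Submodule.subset_span (Set.mem_union_right _ rfl)
  unfold baseWord
  exact Submodule.add_mem _ (Submodule.add_mem _ (Submodule.add_mem _ (Submodule.add_mem _
    (Submodule.add_mem _ (Submodule.add_mem _ (hq 0) (hq 1)) (hq 2)) (hq 6)) (hq 7)) (hq 8)) h1

theorem support_baseWord : support₂ baseWord = baseOctad := by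
  decide

theorem baseOctad_mem : baseOctad ∈ octads :=
  ⟨⟨baseWord, baseWord_mem, support_baseWord⟩, by decide⟩

/-- Elements of `M24` map octads to octads (as images). -/
theorem image_mem_octads {g : Equiv.Perm GolayPt} (hg : g ∈ M24) {b : Finset GolayPt} (hb : b ∈ octads) :
    b.image g ∈ octads := by
  rw [Cfsg.Agent.S0369.result] at hg
  have hfin : (octads : Set (Finset GolayPt)).Finite := Set.toFinite _
  have h1 : g ∈ MulAction.stabilizer (Equiv.Perm GolayPt) octads := hg
  rw [MulAction.mem_stabilizer_set' hfin] at h1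
  have h2 := h1 hb
  have h3 : g • b = b.image g := rfl
  rwa [h3] at h2

/-- Rigidity for `M24`. -/
theorem eq_one_of_fixes {g : Equiv.Perm GolayPt} (hg : g ∈ M24) {O P : Finset GolayPt} (hO : O ∈ octads)
    (hPO : P ⊆ O) (hP : P.card = 6) (hfix : ∀ p ∈ P, g p = p) {x : GolayPt} (hxO : x ∉ O)
    (hx : g x = x) : g = 1 :=
  Equiv.ext (octads_isOctadSystem.rigid g (fun _ hb => image_mem_octads hg hb) hO hPO hP hfix hxO hx)

theorem fixer_congr {l l' : List GolayPt} (h : ∀ p, p ∈ l ↔ p ∈ l') : fixer l = fixer l' := by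
  ext g
  rw [mem_fixer_iff, mem_fixer_iff]
  constructor
  · rintro ⟨h1, h2⟩
    exact ⟨h1, fun p hp => h2 p ((h p).mpr hp)⟩
  · rintro ⟨h1, h2⟩
    exact ⟨h1, fun p hp => h2 p ((h p).mp hp)⟩

/-- Orbit-stabilizer for the subgroups `fixer l`. -/
theorem card_fixer_cons (l : List GolayPt) (x : GolayPt) (T : Finset GolayPt)
    (hsub : ∀ g ∈ fixer l, g x ∈ T) (hsup : ∀ y ∈ T, ∃ g ∈ fixer l, g x = y) :
    Nat.card (fixer l) = T.card * Nat.card (fixer (x :: l)) := by
  have horb : MulAction.orbit (fixer l) x = (T : Set GolayPt) := by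
    ext y
    constructor
    · rintro ⟨g, rfl⟩
      exact hsub g.1 g.2
    · intro hy
      obtain ⟨g, hg, hgy⟩ := hsup y hy
      exact ⟨⟨g, hg⟩, hgy⟩
  have h1 : Nat.card (MulAction.orbit (fixer l) x) = T.card := by
    rw [horb, Nat.card_coe_set_eq, Set.ncard_coe_finset]
  have h2 : Nat.card (MulAction.stabilizer (fixer l) x) = Nat.card (fixer (x :: l)) := by
    refine Nat.card_congr
      { toFun := fun g => ⟨(g.1 : Equiv.Perm GolayPt), ⟨g.1.2.1, fun p hp => ?_⟩⟩
        invFun := fun g => ⟨⟨g.1, ⟨g.2.1, fun p hp => g.2.2 p (List.mem_cons_of_mem _ hp)⟩⟩, ?_⟩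
        left_inv := fun g => rfl
        right_inv := fun g => rfl }
    · rw [List.mem_cons] at hp
      rcases hp with rfl | hp
      · exact g.2
      · exact g.1.2.2 p hp
    · rw [MulAction.mem_stabilizer_iff]
      exact g.2.2 x List.mem_cons_self
  rw [← Nat.card_congr (MulAction.orbitProdStabilizerEquivGroup (fixer l) x), Nat.card_prod, h1, h2]

theorem fixer7_eq_bot :
    fixer [some 4, some 5, none, some 0, some 1, some 2, some 3] = ⊥ := by
  rw [eq_bot_iff]
  intro g hg
  rw [Subgroup.mem_bot]
  refine eq_one_of_fixes hg.1 baseOctad_mem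
    (P := {none, some 0, some 1, some 2, some 3, some 5}) (by decide) (by decide) ?_
    (x := some 4) (by decide) (hg.2 _ (by simp))
  intro p hp
  apply hg.2
  revert p
  decide

theorem baseOctad_image_eq {g : Equiv.Perm GolayPt} (hg : g ∈ fixer [none, some 0, some 1, some 2, some 3]) :
    baseOctad.image g = baseOctad := by
  refine octads_isOctadSystem.image_eq_of_fixed g (fun _ hb => image_mem_octads hg.1 hb) baseOctad_mem
    (F := {none, some 0, some 1, some 2, some 3}) (by decide) (by decide) ?_
  intro p hp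
  apply hg.2
  revert p
  decide

theorem card_fixer6 : Nat.card (fixer [some 5, none, some 0, some 1, some 2, some 3]) = 16 := by
  have h := card_fixer_cons [some 5, none, some 0, some 1, some 2, some 3] (some 4)
    (Finset.univ \ baseOctad) ?_ ?_
  · rw [h, fixer7_eq_bot, Subgroup.card_bot, mul_one]
    decide
  · intro g hg
    rw [Finset.mem_sdiff]
    refine ⟨Finset.mem_univ _, ?_⟩
    have hg5 : g ∈ fixer [none, some 0, some 1, some 2, some 3] :=
      ⟨hg.1, fun p hp => hg.2 p (List.mem_cons_of_mem _ hp)⟩
    exact not_mem_of_image_eq (baseOctad_image_eq hg5) (by decide)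
  · intro y hy
    have hy' : y ∈ ([some 4, some 6, some 7, some 8, some 9, some 10, some 11, some 12, some 13, some 15,
        some 16, some 18, some 19, some 20, some 21, some 22] : List GolayPt) := by
      revert y
      decide
    obtain ⟨g, hg, hgy⟩ := level6 y hy'
    refine ⟨g, ?_, hgy⟩
    rw [fixer_congr (l' := [none, some 0, some 1, some 2, some 3, some 5])]
    · exact hg
    · intro p
      simp only [List.mem_cons, List.not_mem_nil, or_false]
      tauto

theorem card_fixer5 : Nat.card (fixer [none, some 0, some 1, some 2, some 3]) = 48 := by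
  have h := card_fixer_cons [none, some 0, some 1, some 2, some 3] (some 5)
    {some 5, some 14, some 17} ?_ ?_
  · rw [h, card_fixer6]
    decide
  · intro g hg
    have h1 : g (some 5) ∈ baseOctad := mem_of_image_eq (baseOctad_image_eq hg) (by decide)
    have h2 : ∀ p ∈ ([none, some 0, some 1, some 2, some 3] : List GolayPt), g (some 5) ≠ p := by
      intro p hp heq
      have h3 : g (some 5) = g p := by rw [heq, hg.2 p hp]
      have h4 := g.injective h3
      rw [← h4] at hp
      revert hp
      decide
    have h5 : ∀ z ∈ baseOctad, (∀ p ∈ ([none, some 0, some 1, some 2, some 3] : List GolayPt), z ≠ p) →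
        z ∈ ({some 5, some 14, some 17} : Finset GolayPt) := by decide
    exact h5 _ h1 h2
  · intro y hy
    have hy' : y ∈ ([some 5, some 14, some 17] : List GolayPt) := by
      revert y
      decide
    exact level5 y hy'

end Cfsg.Agent.Lib.Helper9.M24
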