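import Mathlib
import Cfsg.Prelude.Def_Sporadic_a
import Cfsg.Agent.Lib.Helper9.M24E

set_option autoImplicit false
open Cfsg

/-! The order of the group of the length-24 code, and of its point stabilizers. -/

namespace Cfsg.Agent.Lib.Helper9.M24

/-- The pointwise stabilizer of a list of points inside `↥M24` has the same order as `fixer l`. -/
theorem card_fixingSubgroup_eq (l : List GolayPt) (s : Set GolayPt) (hs : ∀ p, p ∈ s ↔ p ∈ l) :
    Nat.card (fixingSubgroup M24 s) = Nat.card (fixer l) := by
  refine Nat.card_congr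
    { toFun := fun g => ⟨(g.1 : Equiv.Perm GolayPt), ⟨g.1.2, fun p hp => ?_⟩⟩
      invFun := fun g => ⟨⟨g.1, g.2.1⟩, ?_⟩
      left_inv := fun g => rfl
      right_inv := fun g => rfl }
  · exact (mem_fixingSubgroup_iff M24).mp g.2 p ((hs p).mpr hp)
  · rw [mem_fixingSubgroup_iff]
    intro p hp
    exact g.2.2 p ((hs p).mp hp)

theorem card_golayPt' : Nat.card GolayPt = 24 := by
  rw [Nat.card_eq_fintype_card]
  rfl

theorem card_M24 : Nat.card M24 = 244823040 := by
  obtain ⟨s, hsdef⟩ : ∃ s : Set GolayPt, s = {none, some 0, some 1, some 2, some 3} := ⟨_, rfl⟩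
  have hs : s.ncard = 5 := by
    have : s = ((({none, some 0, some 1, some 2, some 3} : Finset GolayPt)) : Set GolayPt) := by
      rw [hsdef]; simp
    rw [this, Set.ncard_coe_finset]
    decide
  have h5 : MulAction.IsMultiplyPretransitive M24 GolayPt s.ncard := by
    rw [hs]; exact m24_five_transitive
  have hidx := MulAction.IsMultiplyPretransitive.index_of_fixingSubgroup_eq (G := M24) s h5
  rw [hs, card_golayPt'] at hidx
  have hcard : Nat.card (fixingSubgroup M24 s) = 48 := by
    rw [card_fixingSubgroup_eq [none, some 0, some 1, some 2, some 3] s ?_, card_fixer5]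
    intro p
    rw [hsdef]
    simp
  have := Subgroup.index_mul_card (fixingSubgroup M24 s)
  rw [hidx, hcard] at this
  rw [← this]
  decide

end Cfsg.Agent.Lib.Helper9.M24
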