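import Mathlib
import Cfsg.Prelude.Def_Sporadic_a
import Cfsg.Agent.Lib.Helper9.M24F

set_option autoImplicit false
open Cfsg

/-! Orders of the pointwise stabilizers of at most five points in the group of the length-24 code. -/

namespace Cfsg.Agent.Lib.Helper9.M24

theorem m24_pretransitive_of_le {k : ℕ} (hk : k ≤ 5) : MulAction.IsMultiplyPretransitive M24 GolayPt k := by
  haveI := m24_five_transitive
  refine MulAction.isMultiplyPretransitive_of_le (G := M24) (α := GolayPt) (n := 5) hk ?_
  rw [card_golayPt']
  norm_num

instance m24_pretransitive : MulAction.IsPretransitive M24 GolayPt := by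
  rw [← MulAction.is_one_pretransitive_iff]
  exact m24_pretransitive_of_le (by norm_num)

/-- The pointwise stabilizer of `k ≤ 5` points has index `24!/(24-k)!`. -/
theorem card_fixingSubgroup_mul (s : Set GolayPt) (hs : s.ncard ≤ 5) :
    (Nat.choose 24 s.ncard * s.ncard.factorial) * Nat.card (fixingSubgroup M24 s) = 244823040 := by
  have hidx := MulAction.IsMultiplyPretransitive.index_of_fixingSubgroup_eq (G := M24) s
    (m24_pretransitive_of_le hs)
  rw [card_golayPt'] at hidx
  rw [← hidx, Subgroup.index_mul_card, card_M24]

theorem card_stabilizer (p : GolayPt) : Nat.card (MulAction.stabilizer M24 p) = 10200960 := by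
  have h := card_fixingSubgroup_mul {p} (by rw [Set.ncard_singleton]; norm_num)
  rw [Set.ncard_singleton] at h
  have e : fixingSubgroup M24 ({p} : Set GolayPt) = MulAction.stabilizer M24 p := by
    ext g
    rw [mem_fixingSubgroup_iff, MulAction.mem_stabilizer_iff]
    simp
  rw [e] at h
  have hc : Nat.choose 24 1 * Nat.factorial 1 = 24 := by decide
  rw [hc] at h
  omega

theorem card_stabilizer_two (p q : GolayPt) (hpq : p ≠ q) :
    Nat.card ↥(MulAction.stabilizer M24 p ⊓ MulAction.stabilizer M24 q) = 443520 := by
  have hn : ({p, q} : Set GolayPt).ncard = 2 := Set.ncard_pair hpq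
  have h := card_fixingSubgroup_mul {p, q} (by rw [hn]; norm_num)
  rw [hn] at h
  have e : fixingSubgroup M24 ({p, q} : Set GolayPt) =
      MulAction.stabilizer M24 p ⊓ MulAction.stabilizer M24 q := by
    ext g
    rw [mem_fixingSubgroup_iff, Subgroup.mem_inf, MulAction.mem_stabilizer_iff,
      MulAction.mem_stabilizer_iff]
    simp
  rw [e] at h
  have hc : Nat.choose 24 2 * Nat.factorial 2 = 552 := by decide
  rw [hc] at h
  omega

end Cfsg.Agent.Lib.Helper9.M24
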