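import Mathlib
import Cfsg.Prelude.Def_Sporadic_a
import Cfsg.Agent.Lib.Helper9.M24G

set_option autoImplicit false
open Cfsg

/-! Transitivity of the group of the length-24 code on octads. -/

namespace Cfsg.Agent.Lib.Helper9.M24

open scoped Pointwise

/-- Given two 5-subsets, some element of `M24` maps the first onto the second. -/
theorem exists_map_five (s s' : Finset GolayPt) (hs : s.card = 5) (hs' : s'.card = 5) :
    ∃ g ∈ M24, s.image g = s' := by
  obtain ⟨x, hx⟩ : ∃ x : Fin 5 ↪ GolayPt, ∀ i, x i ∈ s :=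
    ⟨(Finset.equivFinOfCardEq hs).symm.toEmbedding.trans (Function.Embedding.subtype _),
      fun i => ((Finset.equivFinOfCardEq hs).symm i).2⟩
  obtain ⟨y, hy⟩ : ∃ y : Fin 5 ↪ GolayPt, ∀ i, y i ∈ s' :=
    ⟨(Finset.equivFinOfCardEq hs').symm.toEmbedding.trans (Function.Embedding.subtype _),
      fun i => ((Finset.equivFinOfCardEq hs').symm i).2⟩
  obtain ⟨g, hg⟩ := m24_five_transitive.exists_smul_eq x y
  refine ⟨g.1, g.2, ?_⟩
  have hrange : ∀ p ∈ s, ∃ i, x i = p := by
    have hsub : Finset.univ.image x ⊆ s := by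
      intro p hp
      rw [Finset.mem_image] at hp
      obtain ⟨i, -, rfl⟩ := hp
      exact hx i
    have hcard : (Finset.univ.image x).card = 5 := by
      rw [Finset.card_image_of_injective _ x.injective, Finset.card_univ, Fintype.card_fin]
    have heq := Finset.eq_of_subset_of_card_le hsub (by rw [hcard, hs])
    intro p hp
    rw [← heq, Finset.mem_image] at hp
    obtain ⟨i, -, hi⟩ := hp
    exact ⟨i, hi⟩
  have hsub : s.image g.1 ⊆ s' := by
    intro q hq
    rw [Finset.mem_image] at hq
    obtain ⟨p, hp, rfl⟩ := hq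
    obtain ⟨i, rfl⟩ := hrange p hp
    have : (g • x) i = y i := by rw [hg]
    have h2 : (g.1 : Equiv.Perm GolayPt) (x i) = y i := this
    rw [h2]
    exact hy i
  exact Finset.eq_of_subset_of_card_le hsub
    (by rw [Finset.card_image_of_injective _ g.1.injective, hs, hs'])

theorem octad_transitive (o o' : Finset GolayPt) (ho : o ∈ octads) (ho' : o' ∈ octads) :
    ∃ g ∈ M24, o.image g = o' := by
  have hc : o.card = 8 := octads_isOctadSystem.card_eq ho
  have hc' : o'.card = 8 := octads_isOctadSystem.card_eq ho'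
  obtain ⟨s, hso, hs⟩ := Finset.exists_subset_card_eq (s := o) (n := 5) (by omega)
  obtain ⟨s', hso', hs'⟩ := Finset.exists_subset_card_eq (s := o') (n := 5) (by omega)
  obtain ⟨g, hg, hgs⟩ := exists_map_five s s' hs hs'
  refine ⟨g, hg, ?_⟩
  apply octads_isOctadSystem.eq_of_five_le (image_mem_octads hg ho) ho'
  rw [← hs']
  apply Finset.card_le_card
  intro q hq
  rw [Finset.mem_inter]
  refine ⟨?_, hso' hq⟩
  rw [← hgs, Finset.mem_image] at hq
  obtain ⟨p, hp, rfl⟩ := hq
  exact Finset.mem_image_of_mem _ (hso hp)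

end Cfsg.Agent.Lib.Helper9.M24
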