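import Mathlib
import Cfsg.Prelude.Def_Sporadic_a
import Cfsg.Agent.Lib.Helper9.M24H

set_option autoImplicit false
open Cfsg

/-! The pointwise stabilizer of an octad in the group of the length-24 code. -/

namespace Cfsg.Agent.Lib.Helper9.M24

open scoped Pointwise

/-- Extend a list of functions by composing with `f`. -/
def extendF (f : GolayPt → GolayPt) (L : List (GolayPt → GolayPt)) : List (GolayPt → GolayPt) :=
  L ++ L.map (fun t => f ∘ t)

/-- The products `f₁^{ε₁} ⋯ f_k^{ε_k}` (`ε_i ∈ {0,1}`) of a list of functions. -/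
def spanF : List (GolayPt → GolayPt) → List (GolayPt → GolayPt)
  | [] => [id]
  | f :: fs => extendF f (spanF fs)

theorem spanF_realized (K : Subgroup (Equiv.Perm GolayPt)) :
    ∀ fs : List (GolayPt → GolayPt), (∀ f ∈ fs, ∃ g ∈ K, ∀ x, g x = f x) →
      ∀ t ∈ spanF fs, ∃ g ∈ K, ∀ x, g x = t x := by
  intro fs
  induction fs with
  | nil =>
    intro _ t ht
    simp only [spanF, List.mem_singleton] at ht
    subst ht
    exact ⟨1, K.one_mem, fun _ => rfl⟩
  | cons f fs ih =>
    intro hfs t ht
    have ih' := ih (fun f' hf' => hfs f' (List.mem_cons_of_mem _ hf'))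
    simp only [spanF, extendF, List.mem_append, List.mem_map] at ht
    rcases ht with ht | ⟨t', ht', rfl⟩
    · exact ih' t ht
    · obtain ⟨g, hg, hgt⟩ := ih' t' ht'
      obtain ⟨h, hh, hhf⟩ := hfs f List.mem_cons_self
      exact ⟨h * g, K.mul_mem hh hg, fun x => by
        rw [Equiv.Perm.mul_apply, hgt, hhf]; rfl⟩

/-- The sixteen points outside the base octad. -/
def outsideList : List GolayPt :=
  [some 4, some 6, some 7, some 8, some 9, some 10, some 11, some 12, some 13, some 15,
    some 16, some 18, some 19, some 20, some 21, some 22]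

/-- The explicit generators of the pointwise stabilizer of six points of the base octad, as functions. -/
def gens6 : List (GolayPt → GolayPt) :=
  [tab [0, 1, 2, 3, 20, 5, 8, 18, 6, 16, 13, 19, 21, 10, 14, 22, 9, 17, 7, 11, 4, 12, 15, 23],
   tab [0, 1, 2, 3, 19, 5, 13, 16, 10, 18, 8, 20, 15, 6, 14, 12, 7, 17, 9, 4, 11, 22, 21, 23],
   tab [0, 1, 2, 3, 9, 5, 12, 11, 21, 4, 22, 7, 6, 15, 14, 13, 20, 17, 19, 18, 16, 8, 10, 23],
   tab [0, 1, 2, 3, 8, 5, 20, 15, 4, 21, 19, 13, 16, 11, 14, 7, 12, 17, 22, 10, 6, 9, 18, 23]]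

theorem gens6_realized : ∀ f ∈ gens6,
    ∃ g ∈ fixer [some 5, none, some 0, some 1, some 2, some 3], ∀ x, g x = f x := by
  intro f hf
  simp only [gens6, List.mem_cons, List.not_mem_nil, or_false] at hf
  rcases hf with rfl | rfl | rfl | rfl
  · exact ⟨h10, mem_fixer_of_tab h10_mem h10_apply (by decide), h10_apply⟩
  · exact ⟨h11, mem_fixer_of_tab h11_mem h11_apply (by decide), h11_apply⟩
  · exact ⟨h12, mem_fixer_of_tab h12_mem h12_apply (by decide), h12_apply⟩
  · exact ⟨h13, mem_fixer_of_tab h13_mem h13_apply (by decide), h13_apply⟩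

theorem spanF_gens6_spec : ∀ y ∈ outsideList, ∃ t ∈ spanF gens6, t (some 4) = y ∧
    (∀ x, t (t x) = x) ∧ t (some 14) = some 14 ∧ t (some 17) = some 17 := by
  decide +kernel

/-- Every element of the stabilizer of six points of the base octad is an involution fixing the octad pointwise. -/
theorem fixer6_spec (g : Equiv.Perm GolayPt)
    (hg : g ∈ fixer [some 5, none, some 0, some 1, some 2, some 3]) :
    (∀ x, g (g x) = x) ∧ g (some 14) = some 14 ∧ g (some 17) = some 17 := by
  have hg5 : g ∈ fixer [none, some 0, some 1, some 2, some 3] :=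
    ⟨hg.1, fun p hp => hg.2 p (List.mem_cons_of_mem _ hp)⟩
  have hy : g (some 4) ∈ outsideList := by
    have h1 : g (some 4) ∉ baseOctad := not_mem_of_image_eq (baseOctad_image_eq hg5) (by decide)
    have h2 : ∀ z : GolayPt, z ∉ baseOctad → z ∈ outsideList := by decide
    exact h2 _ h1
  obtain ⟨t, ht, ht4, htt, ht14, ht17⟩ := spanF_gens6_spec _ hy
  obtain ⟨e, he, het⟩ := spanF_realized _ gens6 gens6_realized t ht
  have h7 : e⁻¹ * g ∈ fixer [some 4, some 5, none, some 0, some 1, some 2, some 3] := by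
    have h6 := Subgroup.mul_mem _ (Subgroup.inv_mem _ he) hg
    refine ⟨h6.1, fun p hp => ?_⟩
    rw [List.mem_cons] at hp
    rcases hp with rfl | hp
    · rw [Equiv.Perm.mul_apply, Equiv.Perm.inv_eq_iff_eq, het, ht4]
    · exact h6.2 p hp
  rw [fixer7_eq_bot, Subgroup.mem_bot] at h7
  have hge : g = e := by
    have := congrArg (fun z => e * z) h7
    simpa using this
  subst hge
  refine ⟨fun x => by rw [het, het, htt], by rw [het, ht14], by rw [het, ht17]⟩

/-- The pointwise stabilizer of the base octad. -/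
theorem octadFix_base_eq :
    ((M24 ⊓ fixingSubgroup (Equiv.Perm GolayPt) (baseOctad : Set GolayPt) :
      Subgroup (Equiv.Perm GolayPt)) : Set (Equiv.Perm GolayPt)) =
      (fixer [some 5, none, some 0, some 1, some 2, some 3] : Set (Equiv.Perm GolayPt)) := by
  ext g
  constructor
  · rintro ⟨h1, h2⟩
    have h2' : g ∈ fixingSubgroup (Equiv.Perm GolayPt) (baseOctad : Set GolayPt) := h2
    rw [mem_fixingSubgroup_iff] at h2'
    refine ⟨h1, fun p hp => h2' p ?_⟩
    have : ∀ p ∈ ([some 5, none, some 0, some 1, some 2, some 3] : List GolayPt), p ∈ baseOctad := by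
      decide
    exact Finset.mem_coe.mpr (this p hp)
  · intro hg
    have hg' : g ∈ fixer [some 5, none, some 0, some 1, some 2, some 3] := hg
    obtain ⟨-, h14, h17⟩ := fixer6_spec g hg'
    refine ⟨hg'.1, ?_⟩
    show g ∈ fixingSubgroup (Equiv.Perm GolayPt) (baseOctad : Set GolayPt)
    rw [mem_fixingSubgroup_iff]
    intro p hp
    have hp' : p ∈ baseOctad := Finset.mem_coe.mp hp
    have : ∀ p ∈ baseOctad, p ∈ ([some 5, none, some 0, some 1, some 2, some 3] : List GolayPt) ∨
        p = some 14 ∨ p = some 17 := by decide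
    rcases this p hp' with h | rfl | rfl
    · exact hg'.2 p h
    · exact h14
    · exact h17

end Cfsg.Agent.Lib.Helper9.M24
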