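import Mathlib
import Cfsg.Prelude.Def_Sporadic_a
import Cfsg.Agent.Lib.Helper9.M24I

set_option autoImplicit false
open Cfsg

/-! The pointwise stabilizer of an octad has order 16 and exponent 2. -/

namespace Cfsg.Agent.Lib.Helper9.M24

theorem octadFix_base_card : Nat.card ↥(Cfsg.M24 ⊓ fixingSubgroup (Equiv.Perm Cfsg.GolayPt)
    (baseOctad : Set Cfsg.GolayPt)) = 16 := by
  have h : (Cfsg.M24 ⊓ fixingSubgroup (Equiv.Perm Cfsg.GolayPt) (baseOctad : Set Cfsg.GolayPt)) =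
      fixer [some 5, none, some 0, some 1, some 2, some 3] := SetLike.coe_injective octadFix_base_eq
  rw [h, card_fixer6]

theorem octadFix_base_sq (g : Equiv.Perm Cfsg.GolayPt)
    (hg : g ∈ Cfsg.M24 ⊓ fixingSubgroup (Equiv.Perm Cfsg.GolayPt) (baseOctad : Set Cfsg.GolayPt)) :
    g * g = 1 := by
  have h : (Cfsg.M24 ⊓ fixingSubgroup (Equiv.Perm Cfsg.GolayPt) (baseOctad : Set Cfsg.GolayPt)) =
      fixer [some 5, none, some 0, some 1, some 2, some 3] := SetLike.coe_injective octadFix_base_eq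
  rw [h] at hg
  obtain ⟨h1, -, -⟩ := fixer6_spec g hg
  apply Equiv.ext
  intro x
  exact h1 x

theorem octadFix_conj_mem {h : Equiv.Perm Cfsg.GolayPt} (hh : h ∈ Cfsg.M24) {o o' : Finset Cfsg.GolayPt}
    (ho : o.image h = o') {g : Equiv.Perm Cfsg.GolayPt}
    (hg : g ∈ Cfsg.M24 ⊓ fixingSubgroup (Equiv.Perm Cfsg.GolayPt) (o : Set Cfsg.GolayPt)) :
    h * g * h⁻¹ ∈ Cfsg.M24 ⊓ fixingSubgroup (Equiv.Perm Cfsg.GolayPt) (o' : Set Cfsg.GolayPt) := by
  obtain ⟨hg1, hg2⟩ := hg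
  have hg2' : g ∈ fixingSubgroup (Equiv.Perm Cfsg.GolayPt) (o : Set Cfsg.GolayPt) := hg2
  rw [mem_fixingSubgroup_iff] at hg2'
  refine ⟨Subgroup.mul_mem _ (Subgroup.mul_mem _ hh hg1) (Subgroup.inv_mem _ hh), ?_⟩
  show h * g * h⁻¹ ∈ fixingSubgroup (Equiv.Perm Cfsg.GolayPt) (o' : Set Cfsg.GolayPt)
  rw [mem_fixingSubgroup_iff]
  intro p hp
  have hp' : p ∈ o' := Finset.mem_coe.mp hp
  rw [← ho, Finset.mem_image] at hp'
  obtain ⟨q, hq, rfl⟩ := hp'
  have := hg2' q (Finset.mem_coe.mpr hq)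
  show (h * g * h⁻¹) (h q) = h q
  rw [Equiv.Perm.mul_apply, Equiv.Perm.mul_apply]
  have e : (h⁻¹ : Equiv.Perm Cfsg.GolayPt) (h q) = q := by simp
  rw [e]
  exact congrArg h this

/-- The pointwise stabiliser of an octad in the group of the length-24 code has order 16 and every element of it squares to the identity. -/
theorem octadFix_card_sq (o : Finset Cfsg.GolayPt) (ho : o ∈ Cfsg.octads) : Nat.card ↥(Cfsg.M24 ⊓ fixingSubgroup (Equiv.Perm Cfsg.GolayPt) (o : Set Cfsg.GolayPt)) = 16 ∧ ∀ g ∈ Cfsg.M24 ⊓ fixingSubgroup (Equiv.Perm Cfsg.GolayPt) (o : Set Cfsg.GolayPt), g * g = 1 := by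
  obtain ⟨h, hh, hho⟩ := octad_transitive baseOctad o baseOctad_mem ho
  have hho' : o.image (h⁻¹ : Equiv.Perm Cfsg.GolayPt) = baseOctad := by
    rw [← hho, Finset.image_image]
    have : (⇑(h⁻¹ : Equiv.Perm Cfsg.GolayPt) ∘ ⇑h) = id := by
      funext x; simp
    rw [this, Finset.image_id]
  have hhinv : (h⁻¹ : Equiv.Perm Cfsg.GolayPt) ∈ Cfsg.M24 := Subgroup.inv_mem _ hh
  constructor
  · rw [← octadFix_base_card]
    refine Nat.card_congr
      { toFun := fun g => ⟨h⁻¹ * g.1 * h⁻¹⁻¹, octadFix_conj_mem hhinv hho' g.2⟩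
        invFun := fun g => ⟨h * g.1 * h⁻¹, octadFix_conj_mem hh hho g.2⟩
        left_inv := fun g => by apply Subtype.ext; simp [mul_assoc]
        right_inv := fun g => by apply Subtype.ext; simp [mul_assoc] }
  · intro g hg
    have h1 := octadFix_base_sq _ (octadFix_conj_mem hhinv hho' hg)
    have h2 : g * g = h * ((h⁻¹ * g * h⁻¹⁻¹) * (h⁻¹ * g * h⁻¹⁻¹)) * h⁻¹ := by
      simp [mul_assoc]
    rw [h2, h1]
    simp

end Cfsg.Agent.Lib.Helper9.M24
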