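import Mathlib
import Cfsg.Prelude.Def_Sporadic_a
import Cfsg.Agent.Lib.Helper9.M24J0

set_option autoImplicit false
open Cfsg

/-! The pointwise stabilizer of an octad: an elementary abelian group of order 16 acting regularly on the sixteen
points outside the octad. -/

namespace Cfsg.Agent.Lib.Helper9.M24

/-- The pointwise stabilizer of a set of points (intended: an octad) in `M24`. -/
def KO (o : Finset GolayPt) : Subgroup (Equiv.Perm GolayPt) :=
  M24 ⊓ fixingSubgroup (Equiv.Perm GolayPt) (o : Set GolayPt)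

theorem mem_KO_iff (o : Finset GolayPt) (g : Equiv.Perm GolayPt) :
    g ∈ KO o ↔ g ∈ M24 ∧ ∀ p ∈ o, g p = p := by
  unfold KO
  rw [Subgroup.mem_inf, mem_fixingSubgroup_iff]
  constructor
  · rintro ⟨h1, h2⟩
    exact ⟨h1, fun p hp => h2 p (Finset.mem_coe.mpr hp)⟩
  · rintro ⟨h1, h2⟩
    exact ⟨h1, fun p hp => h2 p (Finset.mem_coe.mp hp)⟩

theorem card_KO {o : Finset GolayPt} (ho : o ∈ octads) : Nat.card (KO o) = 16 :=
  (octadFix_card_sq o ho).1

theorem KO_sq {o : Finset GolayPt} (ho : o ∈ octads) {g : Equiv.Perm GolayPt} (hg : g ∈ KO o) :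
    g * g = 1 :=
  (octadFix_card_sq o ho).2 g hg

theorem KO_inv {o : Finset GolayPt} (ho : o ∈ octads) {g : Equiv.Perm GolayPt} (hg : g ∈ KO o) :
    g⁻¹ = g := by
  have := KO_sq ho hg
  exact inv_eq_of_mul_eq_one_left this

theorem KO_apply_apply {o : Finset GolayPt} (ho : o ∈ octads) {g : Equiv.Perm GolayPt} (hg : g ∈ KO o)
    (x : GolayPt) : g (g x) = x := by
  have := KO_sq ho hg
  have h2 := congrArg (fun t : Equiv.Perm GolayPt => t x) this
  exact h2

theorem KO_comm {o : Finset GolayPt} (ho : o ∈ octads) {g h : Equiv.Perm GolayPt} (hg : g ∈ KO o)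
    (hh : h ∈ KO o) : g * h = h * g := by
  have h1 := KO_sq ho (Subgroup.mul_mem _ hg hh)
  have h2 := KO_sq ho hg
  have h3 := KO_sq ho hh
  calc g * h = g * (g * h * (g * h)) * h := by rw [h1, mul_one]
    _ = (g * g) * (h * g) * (h * h) := by group
    _ = h * g := by rw [h2, h3, one_mul, mul_one]

/-- An element of `KO o` fixing a point outside `o` is trivial. -/
theorem KO_eq_one_of_fix {o : Finset GolayPt} (ho : o ∈ octads) {g : Equiv.Perm GolayPt} (hg : g ∈ KO o)
    {y : GolayPt} (hy : y ∉ o) (hgy : g y = y) : g = 1 := by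
  rw [mem_KO_iff] at hg
  have hcard : o.card = 8 := octads_isOctadSystem.card_eq ho
  obtain ⟨P, hPo, hP⟩ := Finset.exists_subset_card_eq (s := o) (n := 6) (by omega)
  exact eq_one_of_fixes hg.1 ho hPo hP (fun p hp => hg.2 p (hPo hp)) hy hgy

theorem KO_apply_not_mem {o : Finset GolayPt} {g : Equiv.Perm GolayPt} (hg : g ∈ KO o)
    {y : GolayPt} (hy : y ∉ o) : g y ∉ o := by
  rw [mem_KO_iff] at hg
  intro h
  have h1 : g (g y) = g y := hg.2 _ h
  have h2 := g.injective h1
  rw [h2] at h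
  exact hy h

/-- Regularity: for two points outside the octad, exactly one element of `KO o` maps the first to the second. -/
theorem KO_exists {o : Finset GolayPt} (ho : o ∈ octads) {y y' : GolayPt} (hy : y ∉ o) (hy' : y' ∉ o) :
    ∃ k ∈ KO o, k y = y' := by
  -- the orbit map is injective, hence surjective onto the complement
  have hinj : Function.Injective (fun k : KO o => (⟨(k : Equiv.Perm GolayPt) y,
      by rw [Finset.mem_sdiff]; exact ⟨Finset.mem_univ _, KO_apply_not_mem k.2 hy⟩⟩ :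
        {z : GolayPt // z ∈ Finset.univ \ o})) := by
    intro k₁ k₂ h
    have h' : (k₁ : Equiv.Perm GolayPt) y = (k₂ : Equiv.Perm GolayPt) y := congrArg Subtype.val h
    have h1 : ((k₂ : Equiv.Perm GolayPt)⁻¹ * (k₁ : Equiv.Perm GolayPt)) y = y := by
      rw [Equiv.Perm.mul_apply, Equiv.Perm.inv_eq_iff_eq]
      exact h'
    have h2 := KO_eq_one_of_fix ho (Subgroup.mul_mem _ (Subgroup.inv_mem _ k₂.2) k₁.2) hy h1
    apply Subtype.ext
    have := congrArg (fun t => (k₂ : Equiv.Perm GolayPt) * t) h2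
    simpa using this
  have hcard1 : Nat.card (KO o) = 16 := card_KO ho
  have hcard2 : Nat.card {z : GolayPt // z ∈ Finset.univ \ o} = 16 := by
    rw [Nat.card_eq_fintype_card, Fintype.card_coe, Finset.card_sdiff_of_subset (Finset.subset_univ _),
      Finset.card_univ, Cfsg.Agent.Lib.Helper9.GolayG.card_golayPt, octads_isOctadSystem.card_eq ho]
  have hbij : Function.Bijective (fun k : KO o => (⟨(k : Equiv.Perm GolayPt) y,
      by rw [Finset.mem_sdiff]; exact ⟨Finset.mem_univ _, KO_apply_not_mem k.2 hy⟩⟩ :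
        {z : GolayPt // z ∈ Finset.univ \ o})) := by
    rw [Nat.bijective_iff_injective_and_card]
    exact ⟨hinj, by rw [hcard1, hcard2]⟩
  obtain ⟨k, hk⟩ := hbij.2 ⟨y', by rw [Finset.mem_sdiff]; exact ⟨Finset.mem_univ _, hy'⟩⟩
  exact ⟨k.1, k.2, congrArg Subtype.val hk⟩

theorem KO_unique {o : Finset GolayPt} (ho : o ∈ octads) {y : GolayPt} (hy : y ∉ o)
    {k₁ k₂ : Equiv.Perm GolayPt} (h₁ : k₁ ∈ KO o) (h₂ : k₂ ∈ KO o) (h : k₁ y = k₂ y) : k₁ = k₂ := by
  have h1 : (k₂⁻¹ * k₁) y = y := by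
    rw [Equiv.Perm.mul_apply, Equiv.Perm.inv_eq_iff_eq]
    exact h
  have h2 := KO_eq_one_of_fix ho (Subgroup.mul_mem _ (Subgroup.inv_mem _ h₂) h₁) hy h1
  have := congrArg (fun t => k₂ * t) h2
  simpa using this

end Cfsg.Agent.Lib.Helper9.M24
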