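import Mathlib
import Cfsg.Prelude.Def_Sporadic_a
import Cfsg.Agent.Lib.Helper9.M24J
import Cfsg.Agent.Lib.Helper9.GolayG6
import Cfsg.Agent.Lib.Helper1.Golay5

set_option autoImplicit false
open Cfsg

/-! Subspaces of the length-24 code invariant under its group. -/

namespace Cfsg.Agent.Lib.Helper9.M24

open scoped Pointwise
open Cfsg.Agent.Lib.Helper9.GolayG Cfsg.Agent.Lib.Helper9

/-- The coordinate action of a permutation on words. -/
def permAct (σ : Equiv.Perm GolayPt) (w : GolayPt → ZMod 2) : GolayPt → ZMod 2 := fun p => w (σ.symm p)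

theorem support₂_permAct (σ : Equiv.Perm GolayPt) (w : GolayPt → ZMod 2) :
    support₂ (permAct σ w) = (support₂ w).image σ := by
  have := Cfsg.Agent.Lib.Helper1.smul_support₂ σ w
  show support₂ (fun p => w (σ.symm p)) = _
  rw [← this]
  rfl

theorem hammingNorm_permAct (σ : Equiv.Perm GolayPt) (w : GolayPt → ZMod 2) :
    hammingNorm (permAct σ w) = hammingNorm w := by
  rw [hammingNorm_eq_card_support₂, hammingNorm_eq_card_support₂, support₂_permAct,
    Finset.card_image_of_injective _ σ.injective]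

theorem permAct_mem_code {σ : Equiv.Perm GolayPt} (hσ : σ ∈ M24) {w : GolayPt → ZMod 2}
    (hw : w ∈ golayCode) : permAct σ w ∈ golayCode := by
  have hfin : (supports (golayCode : Set (GolayPt → ZMod 2))).Finite := Set.toFinite _
  have h1 : σ ∈ MulAction.stabilizer (Equiv.Perm GolayPt)
      (supports (golayCode : Set (GolayPt → ZMod 2))) := hσ
  rw [MulAction.mem_stabilizer_set' hfin] at h1
  have h2 : support₂ w ∈ supports (golayCode : Set (GolayPt → ZMod 2)) := ⟨w, hw, rfl⟩
  have h3 := h1 h2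
  rw [Cfsg.Agent.Lib.Helper1.smul_support₂] at h3
  obtain ⟨v, hv, hsupp⟩ := h3
  have : v = permAct σ w := support₂_injective hsupp
  rw [← this]
  exact hv

/-- An invariant subspace containing a code word of weight 8 contains the code. -/
theorem code_le_of_octad_mem (W : Submodule (ZMod 2) (GolayPt → ZMod 2))
    (hW : ∀ σ ∈ M24, ∀ w ∈ W, permAct σ w ∈ W) {c : GolayPt → ZMod 2} (hcW : c ∈ W)
    (hcC : c ∈ golayCode) (h8 : hammingNorm c = 8) : golayCode ≤ W := by
  rw [← span_octads golayCode_isAbsGolay, Submodule.span_le]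
  rintro c' ⟨hc'C, h8'⟩
  have ho : support₂ c ∈ octads := ⟨⟨c, hcC, rfl⟩, by rw [← hammingNorm_eq_card_support₂, h8]⟩
  have ho' : support₂ c' ∈ octads := ⟨⟨c', hc'C, rfl⟩, by rw [← hammingNorm_eq_card_support₂, h8']⟩
  obtain ⟨g, hg, hgo⟩ := octad_transitive _ _ ho ho'
  have h1 := hW g hg c hcW
  have h2 : permAct g c = c' := by
    apply support₂_injective
    rw [support₂_permAct, hgo]
  rw [← h2]
  exact h1

/-- An invariant subspace containing a code word of weight 12 contains a code word of weight 8. -/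
theorem exists_octad_of_dodecad_mem (W : Submodule (ZMod 2) (GolayPt → ZMod 2))
    (hW : ∀ σ ∈ M24, ∀ w ∈ W, permAct σ w ∈ W) {w : GolayPt → ZMod 2} (hwW : w ∈ W)
    (hwC : w ∈ golayCode) (h12 : hammingNorm w = 12) :
    ∃ c ∈ W, c ∈ golayCode ∧ hammingNorm c = 8 := by
  have hC := golayCode_isAbsGolay
  obtain ⟨d, hd⟩ : ∃ d : Finset GolayPt, d = support₂ w := ⟨_, rfl⟩
  have hdcard : d.card = 12 := by rw [hd, ← hammingNorm_eq_card_support₂, h12]
  obtain ⟨s, hsd, hs⟩ := Finset.exists_subset_card_eq (s := d) (n := 5) (by omega)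
  obtain ⟨o, hoC, ho8, hso⟩ := exists_octad hC s hs
  obtain ⟨O, hO⟩ : ∃ O : Finset GolayPt, O = support₂ o := ⟨_, rfl⟩
  have hOoct : O ∈ octads := ⟨⟨o, hoC, hO.symm⟩, by rw [hO, ← hammingNorm_eq_card_support₂, ho8]⟩
  have hOcard : O.card = 8 := octads_isOctadSystem.card_eq hOoct
  have hinter : (O ∩ d).card = 6 := by
    have h1 := octad_dodecad_inter hC hoC hwC ho8 h12
    rw [← hO, ← hd] at h1
    have h2 : 5 ≤ (O ∩ d).card := by
      rw [← hs]
      apply Finset.card_le_card
      intro x hx
      rw [Finset.mem_inter, hO]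
      exact ⟨hso hx, hsd hx⟩
    omega
  -- the key computation for an element of `KO O`
  have key : ∀ k ∈ KO O, ∀ y ∈ d, y ∉ O → k y ∈ d → d.image k ≠ d →
      ∃ c ∈ W, c ∈ golayCode ∧ hammingNorm c = 8 := by
    intro k hk y hyd hyO hkyd hne
    have hkM : k ∈ M24 := ((mem_KO_iff O k).mp hk).1
    have hkfix : ∀ p ∈ O, k p = p := ((mem_KO_iff O k).mp hk).2
    have hw₁W : permAct k w ∈ W := hW k hkM w hwW
    have hw₁C : permAct k w ∈ golayCode := permAct_mem_code hkM hwC
    have hsupp₁ : support₂ (permAct k w) = d.image k := by rw [support₂_permAct, hd]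
    have hcW : w + permAct k w ∈ W := W.add_mem hwW hw₁W
    have hcC : w + permAct k w ∈ golayCode := golayCode.add_mem hwC hw₁C
    refine ⟨w + permAct k w, hcW, hcC, ?_⟩
    have hwt := wt_add w (permAct k w)
    rw [hammingNorm_permAct, h12, ← hd, hsupp₁] at hwt
    -- the intersection has at least 8 points
    have hk1 : k ≠ 1 := by
      rintro rfl
      apply hne
      simp
    have hkyy : k y ≠ y := fun h => hk1 (KO_eq_one_of_fix hOoct hk hyO h)
    have hkyO : k y ∉ O := KO_apply_not_mem hk hyO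
    have hsub : insert y (insert (k y) (O ∩ d)) ⊆ d ∩ d.image k := by
      intro x hx
      rw [Finset.mem_insert, Finset.mem_insert] at hx
      rw [Finset.mem_inter, Finset.mem_image]
      rcases hx with rfl | rfl | hx
      · exact ⟨hyd, k x, hkyd, KO_apply_apply hOoct hk x⟩
      · exact ⟨hkyd, y, hyd, rfl⟩
      · rw [Finset.mem_inter] at hx
        exact ⟨hx.2, x, hx.2, hkfix x hx.1⟩
    have hc8 : (insert y (insert (k y) (O ∩ d))).card = 8 := by
      rw [Finset.card_insert_of_notMem, Finset.card_insert_of_notMem, hinter]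
      · intro h; exact hkyO (Finset.mem_inter.mp h).1
      · rw [Finset.mem_insert, not_or]
        exact ⟨fun h => hkyy h.symm, fun h => hyO (Finset.mem_inter.mp h).1⟩
    have h8le : 8 ≤ (d ∩ d.image k).card := by
      rw [← hc8]; exact Finset.card_le_card hsub
    have hne0 : hammingNorm (w + permAct k w) ≠ 0 := by
      intro h0
      rw [hammingNorm_eq_zero] at h0
      apply hne
      rw [← hsupp₁, hd]
      have : permAct k w = w := by
        have h1 : w + permAct k w + w = permAct k w := by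
          rw [add_comm w, add_assoc, add_self_word, add_zero]
        rw [h0, zero_add] at h1
        exact h1.symm
      rw [this]
    have hw := weights hC hcC
    omega
  -- the points of `d` outside `O`
  have hD'card : (d \ O).card = 6 := by
    have := Finset.card_sdiff_add_card_inter d O
    rw [Finset.inter_comm] at this
    omega
  obtain ⟨y, hy⟩ : (d \ O).Nonempty := by rw [← Finset.card_pos, hD'card]; norm_num
  rw [Finset.mem_sdiff] at hy
  by_contra hcon
  push Not at hcon
  -- every element of `KO O` moving `y` inside `d` stabilizes `d`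
  have hstab : ∀ k ∈ KO O, k y ∈ d → d.image k = d := by
    intro k hk hkyd
    by_contra hne
    obtain ⟨c, hcW, hcC, hc8⟩ := key k hk y hy.1 hy.2 hkyd hne
    exact hcon c hcW hcC hc8
  -- the stabilizer of `d` in `KO O` has six elements
  obtain ⟨S, hSdef⟩ : ∃ S : Subgroup (Equiv.Perm GolayPt),
    S = KO O ⊓ MulAction.stabilizer (Equiv.Perm GolayPt) d := ⟨_, rfl⟩
  have hSmem : ∀ k, k ∈ S ↔ k ∈ KO O ∧ d.image k = d := by
    intro k
    rw [hSdef, Subgroup.mem_inf, MulAction.mem_stabilizer_iff]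
    rfl
  have hSy : ∀ k : S, (k : Equiv.Perm GolayPt) y ∈ d \ O := by
    intro k
    obtain ⟨hk1, hk2⟩ := (hSmem k).mp k.2
    rw [Finset.mem_sdiff]
    refine ⟨?_, KO_apply_not_mem hk1 hy.2⟩
    rw [← hk2]
    exact Finset.mem_image_of_mem _ hy.1
  have hbij : Function.Bijective (fun k : S => (⟨(k : Equiv.Perm GolayPt) y, hSy k⟩ :
      {z : GolayPt // z ∈ d \ O})) := by
    constructor
    · intro k₁ k₂ h
      have h' : (k₁ : Equiv.Perm GolayPt) y = (k₂ : Equiv.Perm GolayPt) y := congrArg Subtype.val h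
      exact Subtype.ext (KO_unique hOoct hy.2 ((hSmem k₁).mp k₁.2).1 ((hSmem k₂).mp k₂.2).1 h')
    · rintro ⟨z, hz⟩
      rw [Finset.mem_sdiff] at hz
      obtain ⟨k, hk, hkz⟩ := KO_exists hOoct hy.2 hz.2
      have hkd : d.image k = d := hstab k hk (by rw [hkz]; exact hz.1)
      exact ⟨⟨k, (hSmem k).mpr ⟨hk, hkd⟩⟩, Subtype.ext hkz⟩
  have hcardS : Nat.card S = 6 := by
    rw [Nat.card_congr (Equiv.ofBijective _ hbij), Nat.card_eq_fintype_card, Fintype.card_coe, hD'card]
  have hle : S ≤ KO O := by rw [hSdef]; exact inf_le_left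
  have hdvd := Subgroup.card_dvd_of_le hle
  rw [hcardS, card_KO hOoct] at hdvd
  omega

end Cfsg.Agent.Lib.Helper9.M24
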