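import Mathlib
import Cfsg.Prelude.Def_Sporadic_a
import Cfsg.Agent.Lib.Helper9.M24K

set_option autoImplicit false
open Cfsg

/-! All subspaces of the space of binary words of length 24 invariant under the group of the code. -/

namespace Cfsg.Agent.Lib.Helper9.M24

open scoped Pointwise
open Cfsg.Agent.Lib.Helper9.GolayG Cfsg.Agent.Lib.Helper9

/-- Given at most four points, the elements of `M24` fixing them act transitively on the other points. -/
theorem exists_fix_move (s : Finset GolayPt) (hs : s.card ≤ 4) {a b : GolayPt} (ha : a ∉ s) (hb : b ∉ s) :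
    ∃ g ∈ M24, (∀ p ∈ s, g p = p) ∧ g a = b := by
  have h0 : MulAction.IsMultiplyPretransitive M24 GolayPt ((s : Set GolayPt).ncard + 1) :=
    m24_pretransitive_of_le (by rw [Set.ncard_coe_finset]; omega)
  have h1 : MulAction.IsMultiplyPretransitive (fixingSubgroup M24 (s : Set GolayPt))
      (SubMulAction.ofFixingSubgroup M24 (s : Set GolayPt)) 1 :=
    SubMulAction.ofFixingSubgroup.isMultiplyPretransitive (G := M24) (s : Set GolayPt) rfl
  rw [MulAction.is_one_pretransitive_iff] at h1
  have ha' : a ∈ SubMulAction.ofFixingSubgroup M24 (s : Set GolayPt) := by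
    rw [SubMulAction.mem_ofFixingSubgroup_iff]; exact ha
  have hb' : b ∈ SubMulAction.ofFixingSubgroup M24 (s : Set GolayPt) := by
    rw [SubMulAction.mem_ofFixingSubgroup_iff]; exact hb
  obtain ⟨g, hg⟩ := h1.exists_smul_eq ⟨a, ha'⟩ ⟨b, hb'⟩
  refine ⟨g.1.1, g.1.2, ?_, ?_⟩
  · intro p hp
    have := g.2
    rw [mem_fixingSubgroup_iff] at this
    exact this p hp
  · exact congrArg Subtype.val hg

theorem permAct_add (σ : Equiv.Perm GolayPt) (u v : GolayPt → ZMod 2) :
    permAct σ (u + v) = permAct σ u + permAct σ v := rfl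

theorem permAct_one (σ : Equiv.Perm GolayPt) : permAct σ (1 : GolayPt → ZMod 2) = 1 := rfl

theorem permAct_zero (σ : Equiv.Perm GolayPt) : permAct σ (0 : GolayPt → ZMod 2) = 0 := rfl

theorem permAct_mul (σ τ : Equiv.Perm GolayPt) (u : GolayPt → ZMod 2) :
    permAct (σ * τ) u = permAct σ (permAct τ u) := rfl

theorem permAct_apply (σ : Equiv.Perm GolayPt) (u : GolayPt → ZMod 2) (p : GolayPt) :
    permAct σ u (σ p) = u p := by
  unfold permAct
  rw [Equiv.symm_apply_apply]

theorem permAct_indW (σ : Equiv.Perm GolayPt) (s : Finset GolayPt) :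
    permAct σ (indW s) = indW (s.image σ) := by
  apply support₂_injective
  rw [support₂_permAct, support₂_indW, support₂_indW]

/-- An invariant subspace containing a code word other than zero and the all-ones word contains the code. -/
theorem code_le_of_mem (W : Submodule (ZMod 2) (GolayPt → ZMod 2))
    (hW : ∀ σ ∈ M24, ∀ w ∈ W, permAct σ w ∈ W) {w : GolayPt → ZMod 2} (hwW : w ∈ W)
    (hwC : w ∈ golayCode) (hw0 : w ≠ 0) (hw1 : w ≠ 1) : golayCode ≤ W := by
  have hC := golayCode_isAbsGolay
  have hcard : Fintype.card GolayPt = 24 := hC.hcard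
  have hsum := hammingNorm_add_one w
  rw [hcard] at hsum
  rcases weights hC hwC with h | h | h | h | h
  · rw [hammingNorm_eq_zero] at h; exact absurd h hw0
  · exact code_le_of_octad_mem W hW hwW hwC h
  · obtain ⟨c, hcW, hcC, hc8⟩ := exists_octad_of_dodecad_mem W hW hwW hwC h
    exact code_le_of_octad_mem W hW hcW hcC hc8
  · -- weight 16
    obtain ⟨o, hodef⟩ : ∃ o : GolayPt → ZMod 2, o = w + 1 := ⟨_, rfl⟩
    have hoC : o ∈ golayCode := by rw [hodef]; exact golayCode.add_mem hwC (one_mem hC)
    have ho8 : hammingNorm o = 8 := by rw [hodef]; omega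
    obtain ⟨O, hOdef⟩ : ∃ O : Finset GolayPt, O = support₂ o := ⟨_, rfl⟩
    have hOoct : O ∈ octads := ⟨⟨o, hoC, hOdef.symm⟩, by rw [hOdef, ← hammingNorm_eq_card_support₂, ho8]⟩
    have hOcard : O.card = 8 := octads_isOctadSystem.card_eq hOoct
    obtain ⟨t, htO, ht⟩ := Finset.exists_subset_card_eq (s := O) (n := 4) (by omega)
    obtain ⟨a, ha⟩ : ∃ a, a ∉ O := by
      by_contra hcon
      push Not at hcon
      have : O = Finset.univ := Finset.eq_univ_iff_forall.mpr hcon
      rw [this, Finset.card_univ, hcard] at hOcard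
      omega
    have hat : a ∉ t := fun h => ha (htO h)
    obtain ⟨O', hO'oct, hsO'⟩ := octads_isOctadSystem.exists_block (insert a t)
      (by rw [Finset.card_insert_of_notMem hat, ht])
    have hne : O ≠ O' := by
      rintro rfl
      exact ha (hsO' (Finset.mem_insert_self _ _))
    have hinter : (O ∩ O').card = 4 := by
      have h4 : 4 ≤ (O ∩ O').card := by
        rw [← ht]
        apply Finset.card_le_card
        intro x hx
        rw [Finset.mem_inter]
        exact ⟨htO hx, hsO' (Finset.mem_insert_of_mem hx)⟩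
      rcases octads_isOctadSystem.inter O hOoct O' hO'oct hne with h0 | h2 | ⟨h4', -⟩
      · omega
      · omega
      · exact h4'
    obtain ⟨g, hg, hgO⟩ := octad_transitive O O' hOoct hO'oct
    have hxW : w + permAct g w ∈ W := W.add_mem hwW (hW g hg w hwW)
    have hxC : w + permAct g w ∈ golayCode := golayCode.add_mem hwC (permAct_mem_code hg hwC)
    have hx : w + permAct g w = o + permAct g o := by
      rw [hodef, permAct_add, permAct_one]
      have h2 : w + 1 + (permAct g w + 1) = w + permAct g w + (1 + 1) := by abel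
      rw [h2, add_self_word, add_zero]
    have hwt := wt_add o (permAct g o)
    rw [hammingNorm_permAct, support₂_permAct, ← hOdef, hgO, hinter, ho8, ← hx] at hwt
    exact code_le_of_octad_mem W hW hxW hxC (by omega)
  · exfalso
    have h0 : hammingNorm (w + 1) = 0 := by omega
    rw [hammingNorm_eq_zero] at h0
    apply hw1
    have := add_one_add_one w
    rw [h0, zero_add] at this
    exact this.symm

end Cfsg.Agent.Lib.Helper9.M24
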