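import Mathlib
import Cfsg.Prelude.Def_Sporadic_a
import Cfsg.Agent.Lib.Helper9.M24L

set_option autoImplicit false
open Cfsg

/-! The pointwise stabilizers of five and of six points of an octad. -/

namespace Cfsg.Agent.Lib.Helper9.M24

open scoped Pointwise

theorem octad_image_eq_of_fix {g : Equiv.Perm GolayPt} (hg : g ∈ M24) {O s : Finset GolayPt}
    (hO : O ∈ octads) (hs : s ⊆ O) (h5 : 5 ≤ s.card) (hfix : ∀ p ∈ s, g p = p) : O.image g = O :=
  octads_isOctadSystem.image_eq_of_fixed g (fun _ hb => image_mem_octads hg hb) hO hs h5 hfix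

/-- An element of `M24` mapping five points of an octad into the octad stabilizes the octad. -/
theorem octad_image_eq_of_maps {g : Equiv.Perm GolayPt} (hg : g ∈ M24) {O s : Finset GolayPt}
    (hO : O ∈ octads) (hs : s ⊆ O) (h5 : 5 ≤ s.card) (hmap : ∀ p ∈ s, g p ∈ O) : O.image g = O := by
  apply octads_isOctadSystem.eq_of_five_le (image_mem_octads hg hO) hO
  have h1 : s.image g ⊆ O.image g ∩ O := by
    intro x hx
    rw [Finset.mem_image] at hx
    obtain ⟨p, hp, rfl⟩ := hx
    rw [Finset.mem_inter]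
    exact ⟨Finset.mem_image_of_mem _ (hs hp), hmap p hp⟩
  have h2 := Finset.card_le_card h1
  rw [Finset.card_image_of_injective _ g.injective] at h2
  omega

theorem base_fix5_move : ∀ z ∈ ({some 5, some 14, some 17} : Finset GolayPt),
    ∀ z' ∈ ({some 5, some 14, some 17} : Finset GolayPt),
    ∃ f ∈ M24, (∀ p ∈ ({none, some 0, some 1, some 2, some 3} : Finset GolayPt), f p = p) ∧ f z = z' := by
  intro z hz z' hz'
  have hz1 : z ∈ ([some 5, some 14, some 17] : List GolayPt) := by revert z; decide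
  have hz2 : z' ∈ ([some 5, some 14, some 17] : List GolayPt) := by revert z'; decide
  obtain ⟨g1, hg1, h1⟩ := level5 z hz1
  obtain ⟨g2, hg2, h2⟩ := level5 z' hz2
  have hmem := Subgroup.mul_mem _ hg2 (Subgroup.inv_mem _ hg1)
  refine ⟨g2 * g1⁻¹, hmem.1, ?_, ?_⟩
  · intro p hp
    apply hmem.2
    revert p
    decide
  · rw [Equiv.Perm.mul_apply, ← h1]
    simp [h2]

/-- The elements of `M24` fixing five points of an octad act transitively on its other three points. -/
theorem exists_fix5_move {O s : Finset GolayPt} (hO : O ∈ octads) (hs : s ⊆ O) (h5 : s.card = 5)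
    {z z' : GolayPt} (hz : z ∈ O) (hzs : z ∉ s) (hz' : z' ∈ O) (hzs' : z' ∉ s) :
    ∃ f ∈ M24, (∀ p ∈ s, f p = p) ∧ f z = z' := by
  obtain ⟨g, hg, hgs⟩ := exists_map_five s {none, some 0, some 1, some 2, some 3} h5 (by decide)
  have hgO : O.image g = baseOctad := by
    apply octads_isOctadSystem.eq_of_five_le (image_mem_octads hg hO) baseOctad_mem
    have h1 : s.image g ⊆ O.image g ∩ baseOctad := by
      intro x hx
      rw [Finset.mem_inter]
      refine ⟨Finset.image_subset_image hs hx, ?_⟩
      rw [hgs] at hx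
      revert x
      decide
    have h2 := Finset.card_le_card h1
    rw [Finset.card_image_of_injective _ g.injective, h5] at h2
    exact h2
  have hmem : ∀ w ∈ O, w ∉ s → g w ∈ ({some 5, some 14, some 17} : Finset GolayPt) := by
    intro w hw hws
    have h1 : g w ∈ baseOctad := by rw [← hgO]; exact Finset.mem_image_of_mem _ hw
    have h2 : g w ∉ ({none, some 0, some 1, some 2, some 3} : Finset GolayPt) := by
      rw [← hgs, Finset.mem_image]
      rintro ⟨p, hp, hpw⟩
      rw [g.injective hpw] at hp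
      exact hws hp
    have h3 : ∀ y ∈ baseOctad, y ∉ ({none, some 0, some 1, some 2, some 3} : Finset GolayPt) →
        y ∈ ({some 5, some 14, some 17} : Finset GolayPt) := by decide
    exact h3 _ h1 h2
  obtain ⟨f, hf, hffix, hfz⟩ := base_fix5_move (g z) (hmem z hz hzs) (g z') (hmem z' hz' hzs')
  refine ⟨g⁻¹ * f * g, Subgroup.mul_mem _ (Subgroup.mul_mem _ (Subgroup.inv_mem _ hg) hf) hg, ?_, ?_⟩
  · intro p hp
    rw [Equiv.Perm.mul_apply, Equiv.Perm.mul_apply, hffix (g p) (by rw [← hgs]; exact Finset.mem_image_of_mem _ hp)]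
    simp
  · rw [Equiv.Perm.mul_apply, Equiv.Perm.mul_apply, hfz]
    simp

theorem image_mul (g h : Equiv.Perm GolayPt) (s : Finset GolayPt) :
    s.image (g * h) = (s.image h).image g := by
  rw [Finset.image_image]
  rfl

theorem KO_mono {s t : Finset GolayPt} (h : s ⊆ t) : KO t ≤ KO s := by
  intro g hg
  rw [mem_KO_iff] at hg ⊢
  exact ⟨hg.1, fun p hp => hg.2 p (h hp)⟩

/-- Orbit-stabilizer for the pointwise stabilizers `KO s`. -/
theorem card_KO_insert (s : Finset GolayPt) (x : GolayPt) (T : Finset GolayPt)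
    (hsub : ∀ g ∈ KO s, g x ∈ T) (hsup : ∀ y ∈ T, ∃ g ∈ KO s, g x = y) :
    Nat.card (KO s) = T.card * Nat.card (KO (insert x s)) := by
  have horb : MulAction.orbit (KO s) x = (T : Set GolayPt) := by
    ext y
    constructor
    · rintro ⟨g, rfl⟩
      exact hsub g.1 g.2
    · intro hy
      obtain ⟨g, hg, hgy⟩ := hsup y hy
      exact ⟨⟨g, hg⟩, hgy⟩
  have h1 : Nat.card (MulAction.orbit (KO s) x) = T.card := by
    rw [horb, Nat.card_coe_set_eq, Set.ncard_coe_finset]
  have h2 : Nat.card (MulAction.stabilizer (KO s) x) = Nat.card (KO (insert x s)) := by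
    refine Nat.card_congr
      { toFun := fun g => ⟨(g.1 : Equiv.Perm GolayPt), ?_⟩
        invFun := fun g => ⟨⟨g.1, KO_mono (Finset.subset_insert x s) g.2⟩, ?_⟩
        left_inv := fun g => rfl
        right_inv := fun g => rfl }
    · rw [mem_KO_iff]
      refine ⟨((mem_KO_iff s _).mp g.1.2).1, fun p hp => ?_⟩
      rw [Finset.mem_insert] at hp
      rcases hp with rfl | hp
      · exact g.2
      · exact ((mem_KO_iff s _).mp g.1.2).2 p hp
    · rw [MulAction.mem_stabilizer_iff]
      exact ((mem_KO_iff _ _).mp g.2).2 x (Finset.mem_insert_self x s)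
  rw [← Nat.card_congr (MulAction.orbitProdStabilizerEquivGroup (KO s) x), Nat.card_prod, h1, h2]

theorem card_KO_eq_fixingSubgroup (s : Finset GolayPt) :
    Nat.card (KO s) = Nat.card (fixingSubgroup M24 (s : Set GolayPt)) := by
  symm
  refine Nat.card_congr
    { toFun := fun g => ⟨(g.1 : Equiv.Perm GolayPt), ?_⟩
      invFun := fun g => ⟨⟨g.1, ((mem_KO_iff s _).mp g.2).1⟩, ?_⟩
      left_inv := fun g => rfl
      right_inv := fun g => rfl }
  · rw [mem_KO_iff]
    refine ⟨g.1.2, fun p hp => ?_⟩
    exact (mem_fixingSubgroup_iff M24).mp g.2 p (Finset.mem_coe.mpr hp)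
  · rw [mem_fixingSubgroup_iff]
    intro p hp
    exact ((mem_KO_iff s _).mp g.2).2 p (Finset.mem_coe.mp hp)

theorem card_KO_five {s : Finset GolayPt} (h5 : s.card = 5) : Nat.card (KO s) = 48 := by
  rw [card_KO_eq_fixingSubgroup]
  have h := card_fixingSubgroup_mul (s : Set GolayPt) (by rw [Set.ncard_coe_finset, h5])
  rw [Set.ncard_coe_finset, h5] at h
  have hc : Nat.choose 24 5 * Nat.factorial 5 = 5100480 := by decide
  rw [hc] at h
  omega

/-- The pointwise stabilizer of six points of an octad has order 16. -/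
theorem card_KO_six {O E : Finset GolayPt} (hO : O ∈ octads) (hE : E ⊆ O) (h6 : E.card = 6) :
    Nat.card (KO E) = 16 := by
  obtain ⟨s, hsE, h5⟩ := Finset.exists_subset_card_eq (s := E) (n := 5) (by omega)
  obtain ⟨e, heE, hes⟩ : ∃ e ∈ E, e ∉ s := by
    by_contra hcon
    push Not at hcon
    have := Finset.card_le_card (show E ⊆ s from hcon)
    omega
  have hEeq : insert e s = E := by
    apply Finset.eq_of_subset_of_card_le
    · intro x hx
      rw [Finset.mem_insert] at hx
      rcases hx with rfl | hx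
      · exact heE
      · exact hsE hx
    · rw [Finset.card_insert_of_notMem hes, h5, h6]
  have hsO : s ⊆ O := hsE.trans hE
  have hOcard : O.card = 8 := octads_isOctadSystem.card_eq hO
  have hT : (O \ s).card = 3 := by
    rw [Finset.card_sdiff_of_subset hsO, hOcard, h5]
  have h := card_KO_insert s e (O \ s) ?_ ?_
  · rw [card_KO_five h5, hT, hEeq] at h
    omega
  · intro g hg
    rw [mem_KO_iff] at hg
    have hgO := octad_image_eq_of_fix hg.1 hO hsO (by omega) hg.2
    rw [Finset.mem_sdiff]
    refine ⟨mem_of_image_eq hgO (hE heE), ?_⟩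
    intro hgs
    have h1 : g (g e) = g e := hg.2 _ hgs
    have h2 := g.injective h1
    rw [h2] at hgs
    exact hes hgs
  · intro y hy
    rw [Finset.mem_sdiff] at hy
    obtain ⟨f, hf, hffix, hfe⟩ := exists_fix5_move hO hsO h5 (hE heE) hes hy.1 hy.2
    exact ⟨f, (mem_KO_iff s f).mpr ⟨hf, hffix⟩, hfe⟩

/-- An element of `M24` fixing six points of an octad fixes all its points. -/
theorem KO_six_eq {O E : Finset GolayPt} (hO : O ∈ octads) (hE : E ⊆ O) (h6 : E.card = 6) :
    KO E = KO O := by
  symm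
  apply Subgroup.eq_of_le_of_card_ge (KO_mono hE)
  rw [card_KO_six hO hE h6, card_KO hO]

theorem mem_KO_of_fix_six {O E : Finset GolayPt} (hO : O ∈ octads) (hE : E ⊆ O) (h6 : E.card = 6)
    {g : Equiv.Perm GolayPt} (hg : g ∈ M24) (hfix : ∀ p ∈ E, g p = p) : g ∈ KO O := by
  rw [← KO_six_eq hO hE h6, mem_KO_iff]
  exact ⟨hg, hfix⟩

/-- Elements of `M24` stabilizing an octad, fixing at most four of its points and moving a further point of the
octad to any other. -/
theorem exists_stab_move {O s : Finset GolayPt} (hO : O ∈ octads) (hs : s ⊆ O) (h4 : s.card ≤ 4)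
    {a b : GolayPt} (ha : a ∈ O) (has : a ∉ s) (hb : b ∈ O) (hbs : b ∉ s) :
    ∃ g ∈ M24, O.image g = O ∧ (∀ p ∈ s, g p = p) ∧ g a = b := by
  have hOcard : O.card = 8 := octads_isOctadSystem.card_eq hO
  -- enlarge `s` to a set of exactly four points avoiding `a` and `b`
  have hsub : s ⊆ (O.erase a).erase b := by
    intro x hx
    rw [Finset.mem_erase, Finset.mem_erase]
    refine ⟨?_, ?_, hs hx⟩
    · rintro rfl; exact hbs hx
    · rintro rfl; exact has hx
  have hcard : 4 ≤ ((O.erase a).erase b).card := by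
    have h1 : (O.erase a).card = 7 := by rw [Finset.card_erase_of_mem ha, hOcard]
    have h2 := Finset.pred_card_le_card_erase (s := O.erase a) (a := b)
    omega
  obtain ⟨s', hss', hs'sub, hs'card⟩ := Finset.exists_subsuperset_card_eq hsub h4 hcard
  have has' : a ∉ s' := by
    intro h
    have := hs'sub h
    rw [Finset.mem_erase, Finset.mem_erase] at this
    exact this.2.1 rfl
  have hbs' : b ∉ s' := by
    intro h
    have := hs'sub h
    rw [Finset.mem_erase] at this
    exact this.1 rfl
  have hs'O : s' ⊆ O := by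
    intro x hx
    have := hs'sub hx
    rw [Finset.mem_erase, Finset.mem_erase] at this
    exact this.2.2
  obtain ⟨g, hg, hgfix, hgab⟩ := exists_fix_move s' (by omega) has' hbs'
  refine ⟨g, hg, ?_, fun p hp => hgfix p (hss' hp), hgab⟩
  apply octad_image_eq_of_maps hg hO (s := insert a s')
  · intro x hx
    rw [Finset.mem_insert] at hx
    rcases hx with rfl | hx
    · exact ha
    · exact hs'O hx
  · rw [Finset.card_insert_of_notMem has', hs'card]
  · intro p hp
    rw [Finset.mem_insert] at hp
    rcases hp with rfl | hp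
    · rw [hgab]; exact hb
    · rw [hgfix p hp]; exact hs'O hp

/-- The stabilizer of an octad acts doubly transitively on it. -/
theorem exists_stab_move_two {O : Finset GolayPt} (hO : O ∈ octads) {x y x' y' : GolayPt}
    (hx : x ∈ O) (hy : y ∈ O) (hxy : x ≠ y) (hx' : x' ∈ O) (hy' : y' ∈ O) (hxy' : x' ≠ y') :
    ∃ g ∈ M24, O.image g = O ∧ g x = x' ∧ g y = y' := by
  obtain ⟨g1, hg1, hg1O, -, hg1x⟩ := exists_stab_move hO (Finset.empty_subset O) (by simp)
    hx (Finset.notMem_empty _) hx' (Finset.notMem_empty _)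
  have hy1 : g1 y ∈ O := mem_of_image_eq hg1O hy
  have hy1x : g1 y ≠ x' := by
    rw [← hg1x]
    intro h
    exact hxy (g1.injective h).symm
  obtain ⟨g2, hg2, hg2O, hg2fix, hg2y⟩ := exists_stab_move hO (s := {x'})
    (by rw [Finset.singleton_subset_iff]; exact hx') (by simp) hy1
    (by rw [Finset.mem_singleton]; exact hy1x) hy' (by rw [Finset.mem_singleton]; exact hxy'.symm)
  refine ⟨g2 * g1, Subgroup.mul_mem _ hg2 hg1, ?_, ?_, ?_⟩
  · rw [image_mul, hg1O, hg2O]
  · rw [Equiv.Perm.mul_apply, hg1x, hg2fix x' (Finset.mem_singleton_self _)]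
  · rw [Equiv.Perm.mul_apply, hg2y]

end Cfsg.Agent.Lib.Helper9.M24
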