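import Mathlib
import Cfsg.Prelude.Def_Sporadic_a
import Cfsg.Agent.Lib.Helper9.M24N

set_option autoImplicit false
open Cfsg

/-! Code sets; double counting for the pointwise stabilizer of an octad; octads meeting a given octad in a given
pair of points. -/

namespace Cfsg.Agent.Lib.Helper9.M24

open scoped Pointwise
open Cfsg.Agent.Lib.Helper9.GolayG Cfsg.Agent.Lib.Helper9

/-- A set of points is a code set if its indicator word lies in the code. -/
def CodeSet (s : Finset GolayPt) : Prop := indW s ∈ golayCode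

theorem mem_supports_iff (s : Finset GolayPt) :
    s ∈ supports (golayCode : Set (GolayPt → ZMod 2)) ↔ CodeSet s := by
  constructor
  · rintro ⟨w, hw, rfl⟩
    show indW (support₂ w) ∈ golayCode
    rw [indW_support₂]
    exact hw
  · intro h
    exact ⟨indW s, h, support₂_indW s⟩

theorem mem_octads_iff (s : Finset GolayPt) : s ∈ octads ↔ CodeSet s ∧ s.card = 8 := by
  show (s ∈ supports (golayCode : Set (GolayPt → ZMod 2)) ∧ s.card = 8) ↔ _
  rw [mem_supports_iff]

theorem mem_dodecads_iff (s : Finset GolayPt) : s ∈ dodecads ↔ CodeSet s ∧ s.card = 12 := by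
  show (s ∈ supports (golayCode : Set (GolayPt → ZMod 2)) ∧ s.card = 12) ↔ _
  rw [mem_supports_iff]

theorem indW_symmDiff (s t : Finset GolayPt) : indW (symmDiff s t) = indW s + indW t := by
  apply support₂_injective
  rw [support₂_add, support₂_indW, support₂_indW, support₂_indW]

theorem CodeSet.symmDiff {s t : Finset GolayPt} (hs : CodeSet s) (ht : CodeSet t) :
    CodeSet (symmDiff s t) := by
  unfold CodeSet
  rw [indW_symmDiff]
  exact golayCode.add_mem hs ht

theorem indW_univ : indW (Finset.univ : Finset GolayPt) = 1 := by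
  apply support₂_injective
  rw [support₂_indW, support₂_one]

theorem indW_compl (s : Finset GolayPt) : indW sᶜ = indW s + 1 := by
  apply support₂_injective
  rw [support₂_add, support₂_indW, support₂_indW, support₂_one]
  apply Finset.ext
  intro x
  simp [Finset.mem_symmDiff]

theorem CodeSet.compl {s : Finset GolayPt} (hs : CodeSet s) : CodeSet sᶜ := by
  unfold CodeSet
  rw [indW_compl]
  exact golayCode.add_mem hs (one_mem golayCode_isAbsGolay)

theorem CodeSet.card {s : Finset GolayPt} (hs : CodeSet s) :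
    s.card = 0 ∨ s.card = 8 ∨ s.card = 12 ∨ s.card = 16 ∨ s.card = 24 := by
  have := weights golayCode_isAbsGolay hs
  rw [hammingNorm_indW] at this
  exact this

theorem CodeSet.image {s : Finset GolayPt} (hs : CodeSet s) {g : Equiv.Perm GolayPt} (hg : g ∈ M24) :
    CodeSet (s.image g) := by
  unfold CodeSet
  rw [← permAct_indW]
  exact permAct_mem_code hg hs

theorem octad_codeSet {O : Finset GolayPt} (hO : O ∈ octads) : CodeSet O := ((mem_octads_iff O).mp hO).1

theorem card_symmDiff_eq (s t : Finset GolayPt) :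
    (symmDiff s t).card + 2 * (s ∩ t).card = s.card + t.card := card_symmDiff_add s t

/-- A code set of twelve points meets every octad. -/
theorem CodeSet.inter_octad_ne {d O : Finset GolayPt} (hd : CodeSet d) (hd12 : d.card = 12)
    (hO : O ∈ octads) : (O ∩ d).card = 2 ∨ (O ∩ d).card = 4 ∨ (O ∩ d).card = 6 := by
  have hOc := (mem_octads_iff O).mp hO
  have := octad_dodecad_inter golayCode_isAbsGolay hOc.1 hd (by rw [hammingNorm_indW, hOc.2])
    (by rw [hammingNorm_indW, hd12])
  rw [support₂_indW, support₂_indW] at this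
  exact this

/-- The pointwise stabilizer of an octad as a finite set of permutations. -/
noncomputable def KOfin (O : Finset GolayPt) : Finset (Equiv.Perm GolayPt) :=
  @Finset.filter _ (fun g => g ∈ KO O) (Classical.decPred _) Finset.univ

theorem mem_KOfin {O : Finset GolayPt} {g : Equiv.Perm GolayPt} : g ∈ KOfin O ↔ g ∈ KO O := by
  unfold KOfin
  letI := Classical.decPred (fun g => g ∈ KO O)
  exact ⟨fun h => (Finset.mem_filter.mp h).2, fun h => Finset.mem_filter.mpr ⟨Finset.mem_univ _, h⟩⟩

theorem card_KOfin {O : Finset GolayPt} (hO : O ∈ octads) : (KOfin O).card = 16 := by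
  rw [← card_KO hO, ← Nat.card_eq_finsetCard]
  exact Nat.card_congr (Equiv.subtypeEquivRight (fun g => mem_KOfin))

/-- Double counting for the regular action of `KO O` outside the octad `O`. -/
theorem KO_double_count {O : Finset GolayPt} (hO : O ∈ octads) (B B' : Finset GolayPt)
    (hB : ∀ b ∈ B, b ∉ O) (hB' : ∀ b ∈ B', b ∉ O) :
    ∑ h ∈ KOfin O, (B.image h ∩ B').card = B.card * B'.card := by
  classical
  have h1 : ∀ h ∈ KOfin O, (B.image h ∩ B').card = ∑ b ∈ B, if h b ∈ B' then 1 else 0 := by
    intro h _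
    have himg : B.image h ∩ B' = (B.filter (fun b => h b ∈ B')).image h := by
      apply Finset.ext
      intro x
      simp only [Finset.mem_inter, Finset.mem_image, Finset.mem_filter]
      constructor
      · rintro ⟨⟨b, hb, rfl⟩, hx⟩
        exact ⟨b, ⟨hb, hx⟩, rfl⟩
      · rintro ⟨b, ⟨hb, hx⟩, rfl⟩
        exact ⟨⟨b, hb, rfl⟩, hx⟩
    rw [himg, Finset.card_image_of_injective _ h.injective, Finset.card_filter]
  rw [Finset.sum_congr rfl h1, Finset.sum_comm]
  have h2 : ∀ b ∈ B, ∑ h ∈ KOfin O, (if h b ∈ B' then 1 else 0) = B'.card := by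
    intro b hb
    rw [← Finset.card_filter]
    apply Finset.card_bij (fun h _ => h b)
    · intro h hh
      rw [Finset.mem_filter] at hh
      exact hh.2
    · intro h₁ hh₁ h₂ hh₂ heq
      rw [Finset.mem_filter] at hh₁ hh₂
      exact KO_unique hO (hB b hb) (mem_KOfin.mp hh₁.1) (mem_KOfin.mp hh₂.1) heq
    · intro y hy
      obtain ⟨k, hk, hky⟩ := KO_exists hO (hB b hb) (hB' y hy)
      refine ⟨k, ?_, hky⟩
      rw [Finset.mem_filter]
      exact ⟨mem_KOfin.mpr hk, by rw [hky]; exact hy⟩
  rw [Finset.sum_congr rfl h2, Finset.sum_const, smul_eq_mul]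

theorem KO_image_sdiff {O O' : Finset GolayPt} {h : Equiv.Perm GolayPt} (hh : h ∈ KO O) :
    (O'.image h) \ O = (O' \ O).image h := by
  have hfix := ((mem_KO_iff O h).mp hh).2
  apply Finset.ext
  intro x
  simp only [Finset.mem_sdiff, Finset.mem_image]
  constructor
  · rintro ⟨⟨b, hb, rfl⟩, hx⟩
    refine ⟨b, ⟨hb, ?_⟩, rfl⟩
    intro hbO
    rw [hfix b hbO] at hx
    exact hx hbO
  · rintro ⟨b, ⟨hb, hbO⟩, rfl⟩
    exact ⟨⟨b, hb, rfl⟩, KO_apply_not_mem hh hbO⟩

theorem KO_image_inter {O O' : Finset GolayPt} {h : Equiv.Perm GolayPt} (hh : h ∈ KO O) :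
    (O'.image h) ∩ O = O' ∩ O := by
  have hfix := ((mem_KO_iff O h).mp hh).2
  apply Finset.ext
  intro x
  simp only [Finset.mem_inter, Finset.mem_image]
  constructor
  · rintro ⟨⟨b, hb, rfl⟩, hx⟩
    by_cases hbO : b ∈ O
    · rw [hfix b hbO]
      exact ⟨hb, hbO⟩
    · exact absurd hx (KO_apply_not_mem hh hbO)
  · rintro ⟨hx, hxO⟩
    exact ⟨⟨x, hx, hfix x hxO⟩, hxO⟩

/-- Two octads meeting a third octad in the same pair of points share, outside it, six points (when equal) or
exactly two points. -/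
theorem card_outer_inter {O O₁ O₂ : Finset GolayPt} (hO : O ∈ octads) (h₁ : O₁ ∈ octads)
    (h₂ : O₂ ∈ octads) (hP : O₁ ∩ O = O₂ ∩ O) (h2 : (O₁ ∩ O).card = 2) :
    ((O₁ \ O) ∩ (O₂ \ O)).card = if O₁ = O₂ then 6 else 2 := by
  have hc₁ : O₁.card = 8 := octads_isOctadSystem.card_eq h₁
  have hc₂ : O₂.card = 8 := octads_isOctadSystem.card_eq h₂
  by_cases heq : O₁ = O₂
  · rw [if_pos heq, ← heq, Finset.inter_self]
    have := Finset.card_sdiff_add_card_inter O₁ O
    omega
  · rw [if_neg heq]
    -- decompose the intersection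
    have hdec : O₁ ∩ O₂ = (O₁ ∩ O) ∪ ((O₁ \ O) ∩ (O₂ \ O)) := by
      apply Finset.ext
      intro x
      simp only [Finset.mem_inter, Finset.mem_union, Finset.mem_sdiff]
      constructor
      · rintro ⟨hx1, hx2⟩
        by_cases hxO : x ∈ O
        · left; exact ⟨hx1, hxO⟩
        · right; exact ⟨⟨hx1, hxO⟩, hx2, hxO⟩
      · rintro (⟨hx1, hxO⟩ | ⟨⟨hx1, hxO⟩, hx2, -⟩)
        · have : x ∈ O₁ ∩ O := Finset.mem_inter.mpr ⟨hx1, hxO⟩
          rw [hP] at this
          exact ⟨hx1, (Finset.mem_inter.mp this).1⟩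
        · exact ⟨hx1, hx2⟩
    have hdisj : Disjoint (O₁ ∩ O) ((O₁ \ O) ∩ (O₂ \ O)) := by
      rw [Finset.disjoint_left]
      intro x hx hx'
      rw [Finset.mem_inter] at hx
      rw [Finset.mem_inter, Finset.mem_sdiff] at hx'
      exact hx'.1.2 hx.2
    have hcard : (O₁ ∩ O₂).card = 2 + ((O₁ \ O) ∩ (O₂ \ O)).card := by
      rw [hdec, Finset.card_union_of_disjoint hdisj, h2]
    rcases octads_isOctadSystem.inter O₁ h₁ O₂ h₂ heq with h0 | h2' | ⟨h4, -⟩
    · omega
    · -- impossible: the symmetric difference would be a twelve-point code set missing `O`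
      exfalso
      have hd : CodeSet (symmDiff O₁ O₂) := (octad_codeSet h₁).symmDiff (octad_codeSet h₂)
      have hd12 : (symmDiff O₁ O₂).card = 12 := by
        have := card_symmDiff_eq O₁ O₂
        omega
      have hempty : O ∩ symmDiff O₁ O₂ = ∅ := by
        rw [Finset.eq_empty_iff_forall_notMem]
        intro x hx
        rw [Finset.mem_inter, Finset.mem_symmDiff] at hx
        obtain ⟨hxO, hx12⟩ := hx
        rcases hx12 with ⟨hx1, hx2⟩ | ⟨hx2, hx1⟩
        · have : x ∈ O₁ ∩ O := Finset.mem_inter.mpr ⟨hx1, hxO⟩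
          rw [hP] at this
          exact hx2 (Finset.mem_inter.mp this).1
        · have : x ∈ O₂ ∩ O := Finset.mem_inter.mpr ⟨hx2, hxO⟩
          rw [← hP] at this
          exact hx1 (Finset.mem_inter.mp this).1
      have := hd.inter_octad_ne hd12 hO
      rw [hempty, Finset.card_empty] at this
      omega
    · omega

/-- The pointwise stabilizer of an octad `O` acts freely on the octads meeting `O` in two points. -/
theorem KO_free_on_pair_octads {O O' : Finset GolayPt} (hO : O ∈ octads) (hO' : O' ∈ octads)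
    (h2 : (O' ∩ O).card = 2) {k : Equiv.Perm GolayPt} (hk : k ∈ KO O) (hkO' : O'.image k = O') :
    k = 1 := by
  classical
  by_contra hk1
  obtain ⟨B, hBdef⟩ : ∃ B : Finset GolayPt, B = O' \ O := ⟨_, rfl⟩
  have hBO : ∀ b ∈ B, b ∉ O := by
    intro b hb
    rw [hBdef, Finset.mem_sdiff] at hb
    exact hb.2
  have hBcard : B.card = 6 := by
    have := Finset.card_sdiff_add_card_inter O' O
    have hc : O'.card = 8 := octads_isOctadSystem.card_eq hO'
    rw [hBdef]
    omega
  have hsum := KO_double_count hO B B hBO hBO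
  rw [hBcard] at hsum
  have hterm : ∀ h ∈ KOfin O, (B.image h ∩ B).card = if O'.image h = O' then 6 else 2 := by
    intro h hh
    have hh' := mem_KOfin.mp hh
    have hM : h ∈ M24 := ((mem_KO_iff O h).mp hh').1
    rw [hBdef, ← KO_image_sdiff hh']
    exact card_outer_inter hO (image_mem_octads hM hO') hO' (KO_image_inter hh')
      (by rw [KO_image_inter hh']; exact h2)
  have hlow : ∀ h ∈ KOfin O,
      2 + (if h = 1 then 4 else 0) + (if h = k then 4 else 0) ≤ (B.image h ∩ B).card := by
    intro h hh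
    rw [hterm h hh]
    by_cases h1 : h = 1
    · subst h1
      have : ¬ (1 : Equiv.Perm GolayPt) = k := fun h => hk1 h.symm
      simp [this]
    · by_cases h2 : h = k
      · subst h2
        simp [h1, hkO']
      · simp only [h1, h2, if_false]
        split_ifs <;> omega
  have hle := Finset.sum_le_sum hlow
  rw [hsum, Finset.sum_add_distrib, Finset.sum_add_distrib, Finset.sum_const, card_KOfin hO,
    Finset.sum_ite_eq' (KOfin O) 1, Finset.sum_ite_eq' (KOfin O) k,
    if_pos (mem_KOfin.mpr (Subgroup.one_mem _)), if_pos (mem_KOfin.mpr hk)] at hle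
  norm_num at hle

/-- The pointwise stabilizer of an octad `O` acts transitively on the octads meeting `O` in a given pair of
points. -/
theorem KO_trans_on_pair_octads {O O₁ O₂ : Finset GolayPt} (hO : O ∈ octads) (h₁ : O₁ ∈ octads)
    (h₂ : O₂ ∈ octads) (hP : O₁ ∩ O = O₂ ∩ O) (h2 : (O₁ ∩ O).card = 2) :
    ∃ h ∈ KO O, O₁.image h = O₂ := by
  classical
  by_contra hcon
  push Not at hcon
  have hcard : ∀ {O' : Finset GolayPt}, O' ∈ octads → (O' ∩ O).card = 2 → (O' \ O).card = 6 := by
    intro O' hO' h2'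
    have := Finset.card_sdiff_add_card_inter O' O
    have hc : O'.card = 8 := octads_isOctadSystem.card_eq hO'
    omega
  have hsum := KO_double_count hO (O₁ \ O) (O₂ \ O)
    (fun b hb => (Finset.mem_sdiff.mp hb).2) (fun b hb => (Finset.mem_sdiff.mp hb).2)
  rw [hcard h₁ h2, hcard h₂ (by rw [← hP]; exact h2)] at hsum
  have hterm : ∀ h ∈ KOfin O, ((O₁ \ O).image h ∩ (O₂ \ O)).card = 2 := by
    intro h hh
    have hh' := mem_KOfin.mp hh
    have hM : h ∈ M24 := ((mem_KO_iff O h).mp hh').1
    rw [← KO_image_sdiff hh']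
    have := card_outer_inter hO (image_mem_octads hM h₁) h₂ (by rw [KO_image_inter hh']; exact hP)
      (by rw [KO_image_inter hh']; exact h2)
    rw [if_neg (hcon h hh')] at this
    exact this
  rw [Finset.sum_congr rfl hterm, Finset.sum_const, card_KOfin hO] at hsum
  norm_num at hsum

end Cfsg.Agent.Lib.Helper9.M24
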