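import Mathlib
import Cfsg.Prelude.Def_Sporadic_a
import Cfsg.Agent.Lib.Helper9.M24O

set_option autoImplicit false
open Cfsg

/-! Every permutation of a six-element set of points is induced by an element of `M24`. -/

namespace Cfsg.Agent.Lib.Helper9.M24

open scoped Pointwise
open Cfsg.Agent.Lib.Helper9.GolayG Cfsg.Agent.Lib.Helper9

/-- Fixing five points and moving a sixth one, inside or outside the octad through the five points. -/
theorem exists_fix5_move' {s : Finset GolayPt} (h5 : s.card = 5) {O : Finset GolayPt} (hO : O ∈ octads)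
    (hsO : s ⊆ O) {z z' : GolayPt} (hzs : z ∉ s) (hzs' : z' ∉ s) (hiff : z ∈ O ↔ z' ∈ O) :
    ∃ f ∈ M24, (∀ p ∈ s, f p = p) ∧ f z = z' := by
  by_cases hz : z ∈ O
  · exact exists_fix5_move hO hsO h5 hz hzs (hiff.mp hz) hzs'
  · obtain ⟨k, hk, hkz⟩ := KO_exists hO hz (fun h => hz (hiff.mpr h))
    rw [mem_KO_iff] at hk
    exact ⟨k, hk.1, fun p hp => hk.2 p (hsO hp), hkz⟩

theorem exists_extend_six (E : Finset GolayPt) (hE : E.card = 6) (σ : Equiv.Perm E) :
    ∃ g ∈ M24, ∀ p : E, g p = σ p := by
  obtain ⟨e⟩ : Nonempty (E ≃ Fin 6) := ⟨Finset.equivFinOfCardEq hE⟩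
  -- the two five-tuples
  let x : Fin 5 ↪ GolayPt := ⟨fun i => (e.symm (Fin.castSucc i)).1, by
    intro i j hij
    have := e.symm.injective (Subtype.ext hij)
    exact Fin.castSucc_injective _ this⟩
  let y : Fin 5 ↪ GolayPt := ⟨fun i => (σ (e.symm (Fin.castSucc i))).1, by
    intro i j hij
    have := e.symm.injective (σ.injective (Subtype.ext hij))
    exact Fin.castSucc_injective _ this⟩
  obtain ⟨g, hg⟩ := m24_five_transitive.exists_smul_eq x y
  have hgx : ∀ i, (g : Equiv.Perm GolayPt) (x i) = y i := by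
    intro i
    have : (g • x) i = y i := by rw [hg]
    exact this
  obtain ⟨e6, he6⟩ : ∃ e6 : E, e6 = e.symm (Fin.last 5) := ⟨_, rfl⟩
  -- the five-point sets
  obtain ⟨s, hsdef⟩ : ∃ s : Finset GolayPt, s = Finset.univ.image x := ⟨_, rfl⟩
  obtain ⟨s', hs'def⟩ : ∃ s' : Finset GolayPt, s' = Finset.univ.image y := ⟨_, rfl⟩
  have hscard : s.card = 5 := by
    rw [hsdef, Finset.card_image_of_injective _ x.injective, Finset.card_univ, Fintype.card_fin]
  have hs'card : s'.card = 5 := by
    rw [hs'def, Finset.card_image_of_injective _ y.injective, Finset.card_univ, Fintype.card_fin]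
  have hsE : s ⊆ E := by
    intro p hp
    rw [hsdef, Finset.mem_image] at hp
    obtain ⟨i, -, rfl⟩ := hp
    exact (e.symm (Fin.castSucc i)).2
  have hs'E : s' ⊆ E := by
    intro p hp
    rw [hs'def, Finset.mem_image] at hp
    obtain ⟨i, -, rfl⟩ := hp
    exact (σ (e.symm (Fin.castSucc i))).2
  have he6s : (e6 : GolayPt) ∉ s := by
    rw [hsdef, Finset.mem_image]
    rintro ⟨i, -, hi⟩
    have h1 : e.symm (Fin.castSucc i) = e6 := Subtype.ext hi
    rw [he6] at h1
    have h2 := e.symm.injective h1
    exact (Fin.castSucc_lt_last i).ne h2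
  have hσe6s' : ((σ e6 : E) : GolayPt) ∉ s' := by
    rw [hs'def, Finset.mem_image]
    rintro ⟨i, -, hi⟩
    have h1 : σ (e.symm (Fin.castSucc i)) = σ e6 := Subtype.ext hi
    rw [he6] at h1
    have h2 := e.symm.injective (σ.injective h1)
    exact (Fin.castSucc_lt_last i).ne h2
  have hEs : E = insert (e6 : GolayPt) s := by
    symm
    apply Finset.eq_of_subset_of_card_le
    · intro p hp
      rw [Finset.mem_insert] at hp
      rcases hp with rfl | hp
      · exact e6.2
      · exact hsE hp
    · rw [Finset.card_insert_of_notMem he6s, hscard, hE]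
  have hEs' : E = insert ((σ e6 : E) : GolayPt) s' := by
    symm
    apply Finset.eq_of_subset_of_card_le
    · intro p hp
      rw [Finset.mem_insert] at hp
      rcases hp with rfl | hp
      · exact (σ e6).2
      · exact hs'E hp
    · rw [Finset.card_insert_of_notMem hσe6s', hs'card, hE]
  have hgs : s.image g.1 = s' := by
    rw [hsdef, hs'def, Finset.image_image]
    apply Finset.image_congr
    intro i _
    exact hgx i
  -- the octads through the two five-point sets
  obtain ⟨O₀, hO₀, hsO₀⟩ := octads_isOctadSystem.exists_block s hscard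
  obtain ⟨O, hO, hs'O⟩ := octads_isOctadSystem.exists_block s' hs'card
  have hgO : O₀.image g.1 = O := by
    apply octads_isOctadSystem.eq_of_five_le (image_mem_octads g.2 hO₀) hO
    have h1 : s' ⊆ O₀.image g.1 ∩ O := by
      intro p hp
      rw [Finset.mem_inter]
      refine ⟨?_, hs'O hp⟩
      rw [← hgs] at hp
      exact Finset.image_subset_image hsO₀ hp
    have := Finset.card_le_card h1
    omega
  have hge6s' : g.1 (e6 : GolayPt) ∉ s' := by
    rw [← hgs, Finset.mem_image]
    rintro ⟨p, hp, hpe⟩
    rw [g.1.injective hpe] at hp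
    exact he6s hp
  -- `E` lies in an octad iff `e6` lies in `O₀` iff `σ e6` lies in `O`
  have hiff : g.1 (e6 : GolayPt) ∈ O ↔ ((σ e6 : E) : GolayPt) ∈ O := by
    have h1 : g.1 (e6 : GolayPt) ∈ O ↔ (e6 : GolayPt) ∈ O₀ := by
      rw [← hgO, Finset.mem_image]
      constructor
      · rintro ⟨p, hp, hpe⟩
        rw [g.1.injective hpe] at hp
        exact hp
      · intro h
        exact ⟨_, h, rfl⟩
    rw [h1]
    constructor
    · intro h
      -- then `E ⊆ O₀`, so `s' ⊆ O₀` and `O = O₀`
      have hEO₀ : E ⊆ O₀ := by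
        rw [hEs]
        intro p hp
        rw [Finset.mem_insert] at hp
        rcases hp with rfl | hp
        · exact h
        · exact hsO₀ hp
      have hOO₀ : O = O₀ := by
        apply octads_isOctadSystem.eq_of_five_le hO hO₀
        have h1 : s' ⊆ O ∩ O₀ := by
          intro p hp
          rw [Finset.mem_inter]
          exact ⟨hs'O hp, hEO₀ (hs'E hp)⟩
        have := Finset.card_le_card h1
        omega
      rw [hOO₀]
      exact hEO₀ (σ e6).2
    · intro h
      have hEO : E ⊆ O := by
        rw [hEs']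
        intro p hp
        rw [Finset.mem_insert] at hp
        rcases hp with rfl | hp
        · exact h
        · exact hs'O hp
      have hOO₀ : O = O₀ := by
        apply octads_isOctadSystem.eq_of_five_le hO hO₀
        have h1 : s ⊆ O ∩ O₀ := by
          intro p hp
          rw [Finset.mem_inter]
          exact ⟨hEO (hsE hp), hsO₀ hp⟩
        have := Finset.card_le_card h1
        omega
      rw [← hOO₀]
      exact hEO e6.2
  obtain ⟨f, hf, hffix, hfe⟩ := exists_fix5_move' hs'card hO hs'O hge6s' hσe6s' hiff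
  refine ⟨f * g.1, Subgroup.mul_mem _ hf g.2, ?_⟩
  intro p
  obtain ⟨j, rfl⟩ := e.symm.surjective p
  rw [Equiv.Perm.mul_apply]
  rcases Fin.eq_castSucc_or_eq_last j with ⟨i, rfl⟩ | rfl
  · have h1 : g.1 ((e.symm (Fin.castSucc i) : E) : GolayPt) = y i := hgx i
    rw [h1]
    apply hffix
    rw [hs'def]
    exact Finset.mem_image_of_mem _ (Finset.mem_univ i)
  · rw [← he6]
    exact hfe

end Cfsg.Agent.Lib.Helper9.M24
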