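import Mathlib
import Cfsg.Prelude.Def_Sporadic_a
import Cfsg.Agent.Lib.Helper9.M24P

set_option autoImplicit false
open Cfsg

/-! The setwise stabilizer of a six-element set of points. -/

namespace Cfsg.Agent.Lib.Helper9.M24

open scoped Pointwise
open Cfsg.Agent.Lib.Helper9.GolayG Cfsg.Agent.Lib.Helper9

theorem smul_finset_eq_image (g : M24) (E : Finset GolayPt) : g • E = E.image (g : Equiv.Perm GolayPt) := rfl

theorem smul_finset_eq_image' (g : Equiv.Perm GolayPt) (E : Finset GolayPt) : g • E = E.image g := rfl

theorem mem_stabilizer_finset_iff (g : M24) (E : Finset GolayPt) :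
    g ∈ MulAction.stabilizer M24 E ↔ E.image (g : Equiv.Perm GolayPt) = E := by
  rw [MulAction.mem_stabilizer_iff, smul_finset_eq_image]

theorem image_eq_iff_mem {g : Equiv.Perm GolayPt} {E : Finset GolayPt} (h : E.image g = E) (x : GolayPt) :
    g x ∈ E ↔ x ∈ E := by
  constructor
  · intro hx
    by_contra hxE
    exact not_mem_of_image_eq h hxE hx
  · intro hx
    exact mem_of_image_eq h hx

/-- The action of the setwise stabilizer of a finite set on that set. -/
noncomputable def restrictHom (E : Finset GolayPt) : MulAction.stabilizer M24 E →* Equiv.Perm E :=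
  MonoidHom.mk' (fun g => ((g.1 : M24) : Equiv.Perm GolayPt).subtypePerm
      (image_eq_iff_mem ((mem_stabilizer_finset_iff g.1 E).mp g.2)))
    (by
      intro a b
      apply Equiv.ext
      intro x
      apply Subtype.ext
      rfl)

theorem restrictHom_apply (E : Finset GolayPt) (g : MulAction.stabilizer M24 E) (x : E) :
    ((restrictHom E g x : E) : GolayPt) = ((g.1 : M24) : Equiv.Perm GolayPt) x := rfl

theorem restrictHom_surjective {E : Finset GolayPt} (hE : E.card = 6) :
    Function.Surjective (restrictHom E) := by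
  intro σ
  obtain ⟨g, hg, hgσ⟩ := exists_extend_six E hE σ
  have hstab : E.image g = E := by
    apply Finset.eq_of_subset_of_card_le
    · intro x hx
      rw [Finset.mem_image] at hx
      obtain ⟨p, hp, rfl⟩ := hx
      rw [hgσ ⟨p, hp⟩]
      exact (σ ⟨p, hp⟩).2
    · rw [Finset.card_image_of_injective _ g.injective]
  refine ⟨⟨⟨g, hg⟩, (mem_stabilizer_finset_iff _ E).mpr hstab⟩, ?_⟩
  apply Equiv.ext
  intro x
  apply Subtype.ext
  rw [restrictHom_apply]
  exact hgσ x

theorem card_ker_restrictHom (E : Finset GolayPt) :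
    Nat.card (restrictHom E).ker = Nat.card (KO E) := by
  refine Nat.card_congr
    { toFun := fun g => ⟨((g.1.1 : M24) : Equiv.Perm GolayPt), ?_⟩
      invFun := fun k => ⟨⟨⟨k.1, ((mem_KO_iff E _).mp k.2).1⟩, ?_⟩, ?_⟩
      left_inv := fun g => rfl
      right_inv := fun k => rfl }
  · rw [mem_KO_iff]
    refine ⟨g.1.1.2, fun p hp => ?_⟩
    have h1 : restrictHom E g.1 = 1 := g.2
    have h2 := congrArg (fun τ : Equiv.Perm E => ((τ ⟨p, hp⟩ : E) : GolayPt)) h1
    exact h2
  · rw [mem_stabilizer_finset_iff]
    have hfix := ((mem_KO_iff E _).mp k.2).2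
    have : E.image k.1 = E.image id := Finset.image_congr (fun p hp => hfix p hp)
    rw [this, Finset.image_id]
  · rw [MonoidHom.mem_ker]
    apply Equiv.ext
    intro x
    apply Subtype.ext
    rw [restrictHom_apply]
    exact ((mem_KO_iff E _).mp k.2).2 x.1 x.2

/-- The setwise stabilizer of a six-element set is an extension of its pointwise stabilizer by the full symmetric
group of degree six. -/
theorem card_stabilizer_six {E : Finset GolayPt} (hE : E.card = 6) :
    Nat.card (MulAction.stabilizer M24 E) = 720 * Nat.card (KO E) := by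
  rw [Subgroup.card_eq_card_quotient_mul_card_subgroup (restrictHom E).ker,
    Nat.card_congr (QuotientGroup.quotientKerEquivOfSurjective _ (restrictHom_surjective hE)).toEquiv,
    card_ker_restrictHom, Nat.card_eq_fintype_card, Fintype.card_perm, Fintype.card_coe, hE]
  rfl

/-- The pointwise stabilizer of six points not lying in an octad has order three. -/
theorem card_KO_six_of_not_octad {E : Finset GolayPt} (hE : E.card = 6)
    (hno : ¬ ∃ o ∈ octads, E ⊆ o) : Nat.card (KO E) = 3 := by
  obtain ⟨s, hsE, h5⟩ := Finset.exists_subset_card_eq (s := E) (n := 5) (by omega)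
  obtain ⟨e, heE, hes⟩ : ∃ e ∈ E, e ∉ s := by
    by_contra hcon
    push Not at hcon
    have := Finset.card_le_card (show E ⊆ s from hcon)
    omega
  have hEeq : insert e s = E := by
    apply Finset.eq_of_subset_of_card_le
    · intro x hx
      rw [Finset.mem_insert] at hx
      rcases hx with rfl | hx
      · exact heE
      · exact hsE hx
    · rw [Finset.card_insert_of_notMem hes, h5, hE]
  obtain ⟨O, hO, hsO⟩ := octads_isOctadSystem.exists_block s h5
  have heO : e ∉ O := by
    intro h
    apply hno
    refine ⟨O, hO, ?_⟩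
    rw [← hEeq]
    intro x hx
    rw [Finset.mem_insert] at hx
    rcases hx with rfl | hx
    · exact h
    · exact hsO hx
  have hOcard : O.card = 8 := octads_isOctadSystem.card_eq hO
  have hT : (Finset.univ \ O).card = 16 := by
    rw [Finset.card_sdiff_of_subset (Finset.subset_univ _), Finset.card_univ, hOcard,
      golayCode_isAbsGolay.hcard]
  have h := card_KO_insert s e (Finset.univ \ O) ?_ ?_
  · rw [card_KO_five h5, hT, hEeq] at h
    omega
  · intro g hg
    rw [mem_KO_iff] at hg
    have hgO := octad_image_eq_of_fix hg.1 hO hsO (by omega) hg.2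
    rw [Finset.mem_sdiff]
    exact ⟨Finset.mem_univ _, not_mem_of_image_eq hgO heO⟩
  · intro y hy
    rw [Finset.mem_sdiff] at hy
    obtain ⟨k, hk, hke⟩ := KO_exists hO heO hy.2
    exact ⟨k, KO_mono hsO hk, hke⟩

end Cfsg.Agent.Lib.Helper9.M24
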