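import Mathlib
import Cfsg.Prelude.Def_Sporadic_a
import Cfsg.Agent.Lib.Helper9.M24Q

set_option autoImplicit false
open Cfsg

/-! The joint stabilizer of two octads meeting in two points is a symmetric group of degree six. -/

namespace Cfsg.Agent.Lib.Helper9.M24

open scoped Pointwise
open Cfsg.Agent.Lib.Helper9.GolayG Cfsg.Agent.Lib.Helper9

theorem jointStab_le (o o' : Finset GolayPt) :
    MulAction.stabilizer M24 o ⊓ MulAction.stabilizer M24 o' ≤ MulAction.stabilizer M24 (o \ o') := by
  intro g hg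
  rw [Subgroup.mem_inf, mem_stabilizer_finset_iff, mem_stabilizer_finset_iff] at hg
  rw [mem_stabilizer_finset_iff, Finset.image_sdiff _ _ (g : Equiv.Perm GolayPt).injective, hg.1, hg.2]

/-- The action of the joint stabilizer of two octads on the points of the first not in the second. -/
noncomputable def jointHom (o o' : Finset GolayPt) :
    ↥(MulAction.stabilizer M24 o ⊓ MulAction.stabilizer M24 o') →* Equiv.Perm ↥(o \ o') :=
  (restrictHom (o \ o')).comp (Subgroup.inclusion (jointStab_le o o'))

theorem jointHom_apply (o o' : Finset GolayPt)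
    (g : ↥(MulAction.stabilizer M24 o ⊓ MulAction.stabilizer M24 o')) (x : ↥(o \ o')) :
    ((jointHom o o' g x : ↥(o \ o')) : GolayPt) = ((g.1 : M24) : Equiv.Perm GolayPt) x := rfl

theorem card_sdiff_of_inter_two {o o' : Finset GolayPt} (ho : o ∈ octads) (h2 : (o ∩ o').card = 2) :
    (o \ o').card = 6 := by
  have := Finset.card_sdiff_add_card_inter o o'
  have hc : o.card = 8 := octads_isOctadSystem.card_eq ho
  omega

theorem jointHom_injective {o o' : Finset GolayPt} (ho : o ∈ octads) (ho' : o' ∈ octads)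
    (h2 : (o ∩ o').card = 2) : Function.Injective (jointHom o o') := by
  rw [injective_iff_map_eq_one]
  intro g hg
  have hfix : ∀ p ∈ o \ o', ((g.1 : M24) : Equiv.Perm GolayPt) p = p := by
    intro p hp
    have := congrArg (fun τ : Equiv.Perm ↥(o \ o') => ((τ ⟨p, hp⟩ : ↥(o \ o')) : GolayPt)) hg
    exact this
  have hgJ := g.2
  rw [Subgroup.mem_inf, mem_stabilizer_finset_iff, mem_stabilizer_finset_iff] at hgJ
  have hKO : ((g.1 : M24) : Equiv.Perm GolayPt) ∈ KO o :=
    mem_KO_of_fix_six ho Finset.sdiff_subset (card_sdiff_of_inter_two ho h2) g.1.2 hfix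
  have h1 := KO_free_on_pair_octads ho ho' (by rw [Finset.inter_comm]; exact h2) hKO hgJ.2
  apply Subtype.ext
  apply Subtype.ext
  exact h1

theorem jointHom_surjective {o o' : Finset GolayPt} (ho : o ∈ octads) (ho' : o' ∈ octads)
    (h2 : (o ∩ o').card = 2) : Function.Surjective (jointHom o o') := by
  intro σ
  have hE : (o \ o').card = 6 := card_sdiff_of_inter_two ho h2
  obtain ⟨g₀, hg₀, hg₀σ⟩ := exists_extend_six (o \ o') hE σ
  have hgE : (o \ o').image g₀ = o \ o' := by
    apply Finset.eq_of_subset_of_card_le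
    · intro x hx
      rw [Finset.mem_image] at hx
      obtain ⟨p, hp, rfl⟩ := hx
      rw [hg₀σ ⟨p, hp⟩]
      exact (σ ⟨p, hp⟩).2
    · rw [Finset.card_image_of_injective _ g₀.injective]
  have hgo : o.image g₀ = o := by
    apply octad_image_eq_of_maps hg₀ ho (s := o \ o') Finset.sdiff_subset (by omega)
    intro p hp
    have : g₀ p ∈ o \ o' := mem_of_image_eq hgE hp
    exact (Finset.mem_sdiff.mp this).1
  -- `g₀` stabilizes `o ∩ o'`
  have hinter : o ∩ o' = o \ (o \ o') := by
    apply Finset.ext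
    intro x
    simp only [Finset.mem_inter, Finset.mem_sdiff]
    tauto
  have hgI : (o ∩ o').image g₀ = o ∩ o' := by
    rw [hinter, Finset.image_sdiff _ _ g₀.injective, hgo, hgE]
  have hP : (o'.image g₀) ∩ o = o' ∩ o := by
    have : (o'.image g₀) ∩ o = (o'.image g₀) ∩ (o.image g₀) := by rw [hgo]
    rw [this, ← Finset.image_inter _ _ g₀.injective, Finset.inter_comm o' o, hgI]
  obtain ⟨h, hh, hho'⟩ := KO_trans_on_pair_octads ho (image_mem_octads hg₀ ho') ho' hP
    (by rw [hP, Finset.inter_comm]; exact h2)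
  have hhfix := ((mem_KO_iff o h).mp hh).2
  have hhM := ((mem_KO_iff o h).mp hh).1
  have hho : o.image h = o := by
    have : o.image h = o.image id := Finset.image_congr (fun p hp => hhfix p hp)
    rw [this, Finset.image_id]
  have hmem : (⟨h * g₀, Subgroup.mul_mem _ hhM hg₀⟩ : M24) ∈
      MulAction.stabilizer M24 o ⊓ MulAction.stabilizer M24 o' := by
    rw [Subgroup.mem_inf, mem_stabilizer_finset_iff, mem_stabilizer_finset_iff]
    constructor
    · show o.image (h * g₀) = o
      rw [image_mul, hgo, hho]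
    · show o'.image (h * g₀) = o'
      rw [image_mul, hho']
  refine ⟨⟨_, hmem⟩, ?_⟩
  apply Equiv.ext
  intro x
  apply Subtype.ext
  rw [jointHom_apply]
  show (h * g₀) x = σ x
  rw [Equiv.Perm.mul_apply, hg₀σ x]
  exact hhfix _ (Finset.mem_sdiff.mp (σ x).2).1

/-- The joint stabilizer of two octads meeting in two points is isomorphic to the symmetric group of degree
six. -/
theorem jointStab_equiv {o o' : Finset GolayPt} (ho : o ∈ octads) (ho' : o' ∈ octads)
    (h2 : (o ∩ o').card = 2) :
    Nonempty (↥(MulAction.stabilizer M24 o ⊓ MulAction.stabilizer M24 o') ≃* Equiv.Perm (Fin 6)) := by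
  have e1 : ↥(MulAction.stabilizer M24 o ⊓ MulAction.stabilizer M24 o') ≃* Equiv.Perm ↥(o \ o') :=
    MulEquiv.ofBijective (jointHom o o') ⟨jointHom_injective ho ho' h2, jointHom_surjective ho ho' h2⟩
  have e2 : ↥(o \ o') ≃ Fin 6 := Finset.equivFinOfCardEq (card_sdiff_of_inter_two ho h2)
  exact ⟨e1.trans e2.permCongrHom⟩

theorem card_jointStab_two {o o' : Finset GolayPt} (ho : o ∈ octads) (ho' : o' ∈ octads)
    (h2 : (o ∩ o').card = 2) :
    Nat.card ↥(MulAction.stabilizer M24 o ⊓ MulAction.stabilizer M24 o') = 720 := by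
  obtain ⟨e⟩ := jointStab_equiv ho ho' h2
  rw [Nat.card_congr e.toEquiv, Nat.card_eq_fintype_card, Fintype.card_perm, Fintype.card_fin]
  rfl

end Cfsg.Agent.Lib.Helper9.M24
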