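import Mathlib
import Cfsg.Prelude.Def_Sporadic_a
import Cfsg.Agent.Lib.Helper9.M24R
import Cfsg.Agent.Lib.Helper9.Steiner2
import Cfsg.Agent.S0360

set_option autoImplicit false
open Cfsg

/-! Octads against a fixed octad: intersection numbers; the order of the stabilizer of an octad. -/

namespace Cfsg.Agent.Lib.Helper9.M24

open scoped Pointwise
open Cfsg.Agent.Lib.Helper9.GolayG Cfsg.Agent.Lib.Helper9
open Finset

/-- The numbers of octads meeting a given octad in 0, 2, 4, 8 points. -/
theorem octad_octad_counts {O : Finset GolayPt} (hO : O ∈ octads) :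
    ((blocksFinset octads).filter (fun o => (o ∩ O).card = 0)).card = 30 ∧
    ((blocksFinset octads).filter (fun o => (o ∩ O).card = 2)).card = 448 ∧
    ((blocksFinset octads).filter (fun o => (o ∩ O).card = 4)).card = 280 ∧
    ((blocksFinset octads).filter (fun o => (o ∩ O).card = 8)).card = 1 := by
  have hB : Cfsg.IsSteinerSystem 5 8 octads := octads_isOctadSystem.steiner
  set Bf := blocksFinset octads with hBf
  have hOcard : O.card = 8 := octads_isOctadSystem.card_eq hO
  have hcardα : Fintype.card GolayPt = 24 := golayCode_isAbsGolay.hcard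
  -- only intersections 0, 2, 4, 8 occur
  have hzero : ∀ j, j ≠ 0 → j ≠ 2 → j ≠ 4 → j ≠ 8 → (Bf.filter (fun o => (o ∩ O).card = j)).card = 0 := by
    intro j h0 h2 h4 h8
    rw [Finset.card_eq_zero, Finset.eq_empty_iff_forall_notMem]
    intro o ho
    rw [mem_filter, hBf, mem_blocksFinset] at ho
    obtain ⟨hoB, hj⟩ := ho
    by_cases hoO : o = O
    · rw [hoO, Finset.inter_self, hOcard] at hj
      exact h8 hj.symm
    · rcases octads_isOctadSystem.inter o hoB O hO hoO with h | h | ⟨h, -⟩ <;> omega
  have h8 : (Bf.filter (fun o => (o ∩ O).card = 8)).card = 1 := by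
    rw [Finset.card_eq_one]
    refine ⟨O, ?_⟩
    apply Finset.ext
    intro o
    rw [mem_filter, hBf, mem_blocksFinset, Finset.mem_singleton]
    constructor
    · rintro ⟨hoB, hj⟩
      by_contra hoO
      rcases octads_isOctadSystem.inter o hoB O hO hoO with h | h | ⟨h, -⟩ <;> omega
    · rintro rfl
      exact ⟨hO, by rw [Finset.inter_self, hOcard]⟩
  have hN : ∀ i : ℕ, i ≤ 5 → ∀ Z ∈ O.powersetCard i,
      (Bf.filter (fun o => Z ⊆ o)).card * (8 - i).choose (5 - i) = (24 - i).choose (5 - i) := by
    intro i hi Z hZ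
    rw [mem_powersetCard] at hZ
    have := steiner_lambda 5 8 octads hB Z (by omega)
    rw [hcardα, hZ.2] at this
    exact this
  have hm : ∀ i : ℕ, i ≤ 5 → ∀ lam : ℕ, lam * (8 - i).choose (5 - i) = (24 - i).choose (5 - i) →
      0 < (8 - i).choose (5 - i) →
      ∑ o ∈ Bf, ((o ∩ O).card).choose i = (Nat.choose 8 i) * lam := by
    intro i hi lam hl hpos
    rw [steiner_moment_eq, Finset.sum_congr rfl (g := fun _ => lam)]
    · rw [Finset.sum_const, Finset.card_powersetCard, hOcard, smul_eq_mul]
    · intro Z hZ
      have := hN i hi Z hZ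
      rw [← hl] at this
      exact Nat.eq_of_mul_eq_mul_right hpos this
  have hm0 := hm 0 (by norm_num) 759 (by norm_num [Nat.choose]) (by norm_num [Nat.choose])
  have hm1 := hm 1 (by norm_num) 253 (by norm_num [Nat.choose]) (by norm_num [Nat.choose])
  have hm2 := hm 2 (by norm_num) 77 (by norm_num [Nat.choose]) (by norm_num [Nat.choose])
  rw [steiner_moment_fiber Bf O 9 (by omega)] at hm0 hm1 hm2
  simp only [Finset.sum_range_succ, Finset.sum_range_zero] at hm0 hm1 hm2
  have z1 := hzero 1 (by norm_num) (by norm_num) (by norm_num) (by norm_num)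
  have z3 := hzero 3 (by norm_num) (by norm_num) (by norm_num) (by norm_num)
  have z5 := hzero 5 (by norm_num) (by norm_num) (by norm_num) (by norm_num)
  have z6 := hzero 6 (by norm_num) (by norm_num) (by norm_num) (by norm_num)
  have z7 := hzero 7 (by norm_num) (by norm_num) (by norm_num) (by norm_num)
  rw [z1, z3, z5, z6, z7, h8] at hm0 hm1 hm2
  refine ⟨?_, ?_, ?_, h8⟩
  all_goals
    generalize (Bf.filter (fun o => (o ∩ O).card = 0)).card = n0 at *
    generalize (Bf.filter (fun o => (o ∩ O).card = 2)).card = n2 at *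
    generalize (Bf.filter (fun o => (o ∩ O).card = 4)).card = n4 at *
    norm_num [Nat.choose] at hm0 hm1 hm2
    omega

/-- The orbit of an octad under `M24` is the set of all octads. -/
theorem orbit_octad {O : Finset GolayPt} (hO : O ∈ octads) : MulAction.orbit M24 O = octads := by
  apply Set.ext
  intro o
  constructor
  · rintro ⟨g, rfl⟩
    exact image_mem_octads g.2 hO
  · intro ho
    obtain ⟨g, hg, hgo⟩ := octad_transitive O o hO ho
    exact ⟨⟨g, hg⟩, hgo⟩

/-- The stabilizer of an octad has order `322560`. -/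
theorem card_stabilizer_octad {O : Finset GolayPt} (hO : O ∈ octads) :
    Nat.card (MulAction.stabilizer M24 O) = 322560 := by
  have h := Nat.card_congr (MulAction.orbitProdStabilizerEquivGroup M24 O)
  rw [Nat.card_prod, orbit_octad hO, Nat.card_coe_set_eq, Cfsg.Agent.S0360.result, card_M24] at h
  omega

end Cfsg.Agent.Lib.Helper9.M24
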