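import Mathlib

set_option autoImplicit false

/-! Counting the members of a finite family with a property through an explicit duplicate-free list that
enumerates the family; transport of fixed-member counts along conjugation. -/

namespace Cfsg.Agent.Lib.Helper9.M24

open scoped Pointwise

/-- A strictly increasing list of natural numbers has no duplicates. -/
theorem nodup_of_isChain_lt {L : List ℕ} (h : List.IsChain (· < ·) L) : L.Nodup := by
  have hp : L.Pairwise (· < ·) := h.pairwise
  exact hp.imp (fun hab => Nat.ne_of_lt hab)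

/-- Tail-recursive Boolean test that a list of numbers is strictly increasing and above a given bound. -/
def chainB : ℕ → List ℕ → Bool
  | _, [] => true
  | prev, x :: xs => decide (prev < x) && chainB x xs

theorem pairwise_of_chainB : ∀ (L : List ℕ) (prev : ℕ), chainB prev L = true →
    (∀ x ∈ L, prev < x) ∧ L.Pairwise (· < ·)
  | [], _, _ => ⟨fun _ hx => absurd hx List.not_mem_nil, List.Pairwise.nil⟩
  | x :: xs, prev, h => by
    unfold chainB at h
    rw [Bool.and_eq_true, decide_eq_true_eq] at h
    obtain ⟨ih1, ih2⟩ := pairwise_of_chainB xs x h.2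
    refine ⟨?_, List.Pairwise.cons ih1 ih2⟩
    intro y hy
    rcases List.mem_cons.mp hy with rfl | hy
    · exact h.1
    · exact lt_trans h.1 (ih1 y hy)

/-- A list passing the increasing test (from its head on) has no duplicates. -/
theorem nodup_of_chainB {L : List ℕ} (h : chainB 0 L = true) : L.Nodup :=
  (pairwise_of_chainB L 0 h).2.imp (fun hab => Nat.ne_of_lt hab)

/-- Tail-recursive Boolean test that a list has a given length. -/
def lenB : ℕ → List ℕ → Bool
  | 0, [] => true
  | k + 1, _ :: xs => lenB k xs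
  | _, _ => false

theorem length_of_lenB : ∀ (k : ℕ) (L : List ℕ), lenB k L = true → L.length = k
  | 0, [], _ => rfl
  | k + 1, _ :: xs, h => by
    unfold lenB at h
    rw [List.length_cons, length_of_lenB k xs h]
  | 0, _ :: _, h => by simp [lenB] at h
  | _ + 1, [], h => by simp [lenB] at h

/-- If a duplicate-free list `L` is mapped injectively into a finite family `𝒳` having exactly `L.length`
members, then the members of `𝒳` with a property are counted by filtering the list. -/
theorem enum_count {α β : Type*} {𝒳 : Set α} (hfin : 𝒳.Finite) (L : List β) (hnd : L.Nodup)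
    (F : β → α) (hinj : ∀ a ∈ L, ∀ b ∈ L, F a = F b → a = b) (hmem : ∀ b ∈ L, F b ∈ 𝒳)
    (hcard : 𝒳.ncard = L.length) (P : α → Prop) (Q : β → Bool)
    (hPQ : ∀ b ∈ L, (P (F b) ↔ Q b = true)) :
    {x | x ∈ 𝒳 ∧ P x}.ncard = (L.filter Q).length := by
  classical
  have hinjOn : Set.InjOn F {b | b ∈ L} := fun a ha b hb h => hinj a ha b hb h
  have himg : F '' {b | b ∈ L} = 𝒳 := by
    apply Set.eq_of_subset_of_ncard_le
    · rintro x ⟨b, hb, rfl⟩
      exact hmem b hb
    · rw [hinjOn.ncard_image, hcard, ← List.coe_toFinset, Set.ncard_coe_finset,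
        List.toFinset_card_of_nodup hnd]
    · exact hfin
  have hset : {x | x ∈ 𝒳 ∧ P x} = F '' {b | b ∈ L.filter Q} := by
    ext x
    constructor
    · rintro ⟨hx, hP⟩
      rw [← himg] at hx
      obtain ⟨b, hb, rfl⟩ := hx
      refine ⟨b, ?_, rfl⟩
      show b ∈ L.filter Q
      rw [List.mem_filter]
      exact ⟨hb, (hPQ b hb).mp hP⟩
    · rintro ⟨b, hb, rfl⟩
      have hb' : b ∈ L.filter Q := hb
      rw [List.mem_filter] at hb'
      exact ⟨hmem b hb'.1, (hPQ b hb'.1).mpr hb'.2⟩
  have hinjOn' : Set.InjOn F {b | b ∈ L.filter Q} := by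
    intro a ha b hb h
    have ha' : a ∈ L.filter Q := ha
    have hb' : b ∈ L.filter Q := hb
    exact hinj a (List.mem_filter.mp ha').1 b (List.mem_filter.mp hb').1 h
  rw [hset, hinjOn'.ncard_image, ← List.coe_toFinset, Set.ncard_coe_finset,
    List.toFinset_card_of_nodup (hnd.filter _)]

/-- Conjugating an element by something that preserves the family does not change how many members of the
family the element maps to themselves. -/
theorem ncard_fixed_conj {G α : Type*} [Group G] [MulAction G α] (𝒳 : Set α) (k g : G)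
    (hk : ∀ x, x ∈ 𝒳 → k • x ∈ 𝒳) (hk' : ∀ x, x ∈ 𝒳 → k⁻¹ • x ∈ 𝒳) :
    {x | x ∈ 𝒳 ∧ g • x = x}.ncard = {x | x ∈ 𝒳 ∧ (k * g * k⁻¹) • x = x}.ncard := by
  have hset : {x | x ∈ 𝒳 ∧ (k * g * k⁻¹) • x = x} = (fun x => k • x) '' {x | x ∈ 𝒳 ∧ g • x = x} := by
    ext x
    constructor
    · rintro ⟨hx, hfix⟩
      refine ⟨k⁻¹ • x, ⟨hk' x hx, ?_⟩, by simp⟩
      rw [mul_smul, mul_smul] at hfix
      have := congrArg (fun y => k⁻¹ • y) hfix
      simpa using this
    · rintro ⟨y, ⟨hy, hfix⟩, rfl⟩
      refine ⟨hk y hy, ?_⟩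
      rw [mul_smul, mul_smul, inv_smul_smul, hfix]
  rw [hset, Set.ncard_image_of_injective _ (MulAction.injective k)]

end Cfsg.Agent.Lib.Helper9.M24
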