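import Mathlib
import Cfsg.Prelude.Def_Sporadic_a
import Cfsg.Agent.Lib.Helper1.Golay5
import Cfsg.Agent.Lib.Helper9.M24A
import Cfsg.Agent.Lib.Helper9.M24E

set_option autoImplicit false
open Cfsg

/-! Permutations of the 24 points given by tables, with Boolean validity and membership checks. -/

namespace Cfsg.Agent.Lib.Helper9.M24

open Cfsg.Agent.Lib.Helper1 (gIdx ofMask cw bTab mem_M24_of_table popcN)

/-- Table lookup. -/
def tget (a : List ℕ) (i : ℕ) : ℕ := a.getD i 0

/-- The inverse table. -/
def tinv (a : List ℕ) : List ℕ := (List.range 24).map fun j => a.idxOf j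

/-- Validity of a table: it is a permutation of `0..23` with inverse table `tinv a`. -/
def tabOK (a : List ℕ) : Bool :=
  (List.range 24).all fun i =>
    decide (tget a i < 24) && (tget (tinv a) (tget a i) == i) &&
      decide (tget (tinv a) i < 24) && (tget a (tget (tinv a) i) == i)

theorem natOfPt_lt : ∀ p : GolayPt, natOfPt p < 24 := by decide

theorem ptOfNat_natOfPt : ∀ p : GolayPt, ptOfNat (natOfPt p) = p := by decide

theorem natOfPt_ptOfNat : ∀ n < 24, natOfPt (ptOfNat n) = n := by decide

theorem natOfPt_eq_gIdx : natOfPt = gIdx := by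
  funext p
  cases p <;> rfl

theorem tab_eq (a : List ℕ) (p : GolayPt) : tab a p = ptOfNat (tget a (natOfPt p)) := rfl

theorem tabOK_iff (a : List ℕ) : tabOK a = true ↔ ∀ i < 24, tget a i < 24 ∧ tget (tinv a) (tget a i) = i ∧
    tget (tinv a) i < 24 ∧ tget a (tget (tinv a) i) = i := by
  unfold tabOK
  rw [List.all_eq_true]
  simp only [List.mem_range, Bool.and_eq_true, decide_eq_true_eq, beq_iff_eq, and_assoc]

theorem tget_lt {a : List ℕ} (h : tabOK a = true) {i : ℕ} (hi : i < 24) : tget a i < 24 :=
  ((tabOK_iff a).mp h i hi).1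

theorem tget_inj {a : List ℕ} (h : tabOK a = true) {i j : ℕ} (hi : i < 24) (hj : j < 24)
    (hij : tget a i = tget a j) : i = j := by
  have h1 := ((tabOK_iff a).mp h i hi).2.1
  have h2 := ((tabOK_iff a).mp h j hj).2.1
  rw [← h1, ← h2, hij]

theorem natOfPt_tab {a : List ℕ} (h : tabOK a = true) (p : GolayPt) :
    natOfPt (tab a p) = tget a (natOfPt p) := by
  rw [tab_eq, natOfPt_ptOfNat _ (tget_lt h (natOfPt_lt p))]

theorem tab_left_inv {a : List ℕ} (h : tabOK a = true) (p : GolayPt) : tab (tinv a) (tab a p) = p := by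
  have h1 := (tabOK_iff a).mp h (natOfPt p) (natOfPt_lt p)
  rw [tab_eq (tinv a), natOfPt_tab h, h1.2.1, ptOfNat_natOfPt]

theorem tab_right_inv {a : List ℕ} (h : tabOK a = true) (p : GolayPt) : tab a (tab (tinv a) p) = p := by
  have h1 := (tabOK_iff a).mp h (natOfPt p) (natOfPt_lt p)
  rw [tab_eq a, tab_eq (tinv a), natOfPt_ptOfNat _ h1.2.2.1, h1.2.2.2, ptOfNat_natOfPt]

/-- The permutation with table `a` (the identity if the table is not valid). -/
def tperm (a : List ℕ) : Equiv.Perm GolayPt :=
  if h : tabOK a = true then ⟨tab a, tab (tinv a), tab_left_inv h, tab_right_inv h⟩ else 1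

theorem tperm_apply {a : List ℕ} (h : tabOK a = true) (p : GolayPt) : tperm a p = tab a p := by
  unfold tperm
  rw [dif_pos h]
  rfl

theorem natOfPt_tperm {a : List ℕ} (h : tabOK a = true) (p : GolayPt) :
    natOfPt (tperm a p) = tget a (natOfPt p) := by
  rw [tperm_apply h, natOfPt_tab h]

theorem tperm_ptOfNat {a : List ℕ} (h : tabOK a = true) {i : ℕ} (hi : i < 24) :
    tperm a (ptOfNat i) = ptOfNat (tget a i) := by
  rw [tperm_apply h, tab_eq, natOfPt_ptOfNat i hi]

theorem natOfPt_injective : Function.Injective natOfPt := by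
  intro p q h
  rw [← ptOfNat_natOfPt p, ← ptOfNat_natOfPt q, h]

/-- A permutation is determined by its table. -/
theorem eq_tperm_of_apply {g : Equiv.Perm GolayPt} {a : List ℕ} (h : tabOK a = true)
    (hg : ∀ p, natOfPt (g p) = tget a (natOfPt p)) : g = tperm a := by
  apply Equiv.ext
  intro p
  apply natOfPt_injective
  rw [hg, natOfPt_tperm h]

/-! ### Bit masks -/

/-- Fold building a bit mask: for the indices `i` of the list with `P i`, set the bit `f i`. -/
def foldMask (P : ℕ → Bool) (f : ℕ → ℕ) (l : List ℕ) (r : ℕ) : ℕ :=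
  l.foldl (fun r i => if P i = true then r ||| 2 ^ f i else r) r

theorem foldMask_testBit (P : ℕ → Bool) (f : ℕ → ℕ) (l : List ℕ) (r j : ℕ) :
    (foldMask P f l r).testBit j = true ↔
      (r.testBit j = true ∨ ∃ i ∈ l, P i = true ∧ f i = j) := by
  unfold foldMask
  induction l generalizing r with
  | nil => simp
  | cons b l ih =>
    rw [List.foldl_cons, ih]
    by_cases ha : P b = true
    · rw [if_pos ha, Nat.testBit_or, Nat.testBit_two_pow]
      simp only [Bool.or_eq_true, decide_eq_true_eq, List.mem_cons, exists_eq_or_imp]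
      constructor
      · rintro ((h | h) | h)
        · exact Or.inl h
        · exact Or.inr (Or.inl ⟨ha, h⟩)
        · exact Or.inr (Or.inr h)
      · rintro (h | ⟨_, h⟩ | h)
        · exact Or.inl (Or.inl h)
        · exact Or.inl (Or.inr h)
        · exact Or.inr h
    · rw [if_neg ha]
      simp only [List.mem_cons, exists_eq_or_imp]
      constructor
      · rintro (h | h)
        · exact Or.inl h
        · exact Or.inr (Or.inr h)
      · rintro (h | ⟨h, _⟩ | h)
        · exact Or.inl h
        · exact absurd h ha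
        · exact Or.inr h

/-- Image of a bit mask under a table. -/
def pmask (a : List ℕ) (m : ℕ) : ℕ := foldMask (fun i => m.testBit i) (tget a) (List.range 24) 0

theorem pmask_testBit (a : List ℕ) (m j : ℕ) :
    (pmask a m).testBit j = true ↔ ∃ i < 24, m.testBit i = true ∧ tget a i = j := by
  unfold pmask
  rw [foldMask_testBit]
  simp only [Nat.zero_testBit, Bool.false_eq_true, false_or, List.mem_range]

theorem pmask_testBit_tget {a : List ℕ} (h : tabOK a = true) (m : ℕ) {i : ℕ} (hi : i < 24) :
    (pmask a m).testBit (tget a i) = m.testBit i := by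
  rw [Bool.eq_iff_iff, pmask_testBit]
  constructor
  · rintro ⟨i', hi', h1, h2⟩
    rw [← tget_inj h hi' hi h2]
    exact h1
  · intro h1
    exact ⟨i, hi, h1, rfl⟩

/-- The bit mask of the fixed points of a table. -/
def fixMask (a : List ℕ) : ℕ := foldMask (fun i => tget a i == i) id (List.range 24) 0

theorem fixMask_testBit (a : List ℕ) (j : ℕ) :
    (fixMask a).testBit j = true ↔ j < 24 ∧ tget a j = j := by
  unfold fixMask
  rw [foldMask_testBit]
  simp only [Nat.zero_testBit, Bool.false_eq_true, false_or, List.mem_range, beq_iff_eq, id]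
  constructor
  · rintro ⟨i, hi, h1, rfl⟩
    exact ⟨hi, h1⟩
  · rintro ⟨h1, h2⟩
    exact ⟨j, h1, h2, rfl⟩

/-- Boolean membership test for the group of the code. -/
def tabM24 (a : List ℕ) : Bool :=
  (List.range 12).all fun i =>
    (cw (pmask a (bTab i) >>> 12) == pmask a (bTab i)) && decide (pmask a (bTab i) >>> 12 < 4096)

theorem tperm_mem {a : List ℕ} (h : tabOK a = true) (h2 : tabM24 a = true) : tperm a ∈ M24 := by
  unfold tabM24 at h2
  rw [List.all_eq_true] at h2
  refine mem_M24_of_table _ (fun i => pmask a (bTab i) >>> 12) ?_ ?_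
  · intro i hi
    have := h2 i (List.mem_range.mpr hi)
    simp only [Bool.and_eq_true, beq_iff_eq, decide_eq_true_eq] at this
    exact this.2
  · intro i hi p
    have := h2 i (List.mem_range.mpr hi)
    simp only [Bool.and_eq_true, beq_iff_eq, decide_eq_true_eq] at this
    rw [this.1]
    unfold ofMask
    rw [← natOfPt_eq_gIdx, natOfPt_tperm h, pmask_testBit_tget h _ (natOfPt_lt p)]

/-- Boolean test of `k * g = h * k` on tables. -/
def conjOK (k g h : List ℕ) : Bool :=
  (List.range 24).all fun i => tget k (tget g i) == tget h (tget k i)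

theorem conj_of_conjOK {k g h : List ℕ} (hk : tabOK k = true) (hg : tabOK g = true) (hh : tabOK h = true)
    (hc : conjOK k g h = true) : tperm k * tperm g * (tperm k)⁻¹ = tperm h := by
  rw [mul_inv_eq_iff_eq_mul]
  apply Equiv.ext
  intro p
  apply natOfPt_injective
  rw [Equiv.Perm.mul_apply, Equiv.Perm.mul_apply, natOfPt_tperm hk, natOfPt_tperm hg, natOfPt_tperm hh,
    natOfPt_tperm hk]
  unfold conjOK at hc
  rw [List.all_eq_true] at hc
  have := hc (natOfPt p) (List.mem_range.mpr (natOfPt_lt p))
  exact beq_iff_eq.mp this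

/-- The table of a product. -/
def tmul (a b : List ℕ) : List ℕ := (List.range 24).map fun i => tget a (tget b i)

theorem tget_tmul (a b : List ℕ) {i : ℕ} (hi : i < 24) : tget (tmul a b) i = tget a (tget b i) := by
  unfold tmul tget
  rw [List.getD_eq_getElem?_getD, List.getElem?_map, List.getElem?_range hi]
  rfl

/-- Rigidity: two elements of the group agreeing on six points of an octad and on a point outside are equal. -/
theorem eq_of_agree {g w : Equiv.Perm GolayPt} (hg : g ∈ M24) (hw : w ∈ M24) {O P : Finset GolayPt}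
    (hO : O ∈ octads) (hPO : P ⊆ O) (hP : P.card = 6) (hagree : ∀ p ∈ P, g p = w p) {x : GolayPt}
    (hxO : x ∉ O) (hx : g x = w x) : g = w := by
  have h1 : w⁻¹ * g = 1 := by
    refine eq_one_of_fixes (Subgroup.mul_mem _ (Subgroup.inv_mem _ hw) hg) hO hPO hP ?_ hxO ?_
    · intro p hp
      rw [Equiv.Perm.mul_apply, hagree p hp]
      exact Equiv.symm_apply_apply w p
    · rw [Equiv.Perm.mul_apply, hx]
      exact Equiv.symm_apply_apply w x
  exact (inv_mul_eq_one.mp h1).symm

theorem forall_pt_iff {P : GolayPt → Prop} : (∀ p, P p) ↔ ∀ i < 24, P (ptOfNat i) := by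
  constructor
  · intro h i _
    exact h _
  · intro h p
    have := h (natOfPt p) (natOfPt_lt p)
    rwa [ptOfNat_natOfPt] at this

theorem tperm_tmul {a b : List ℕ} (ha : tabOK a = true) (hb : tabOK b = true)
    (hab : tabOK (tmul a b) = true) : tperm a * tperm b = tperm (tmul a b) := by
  apply eq_tperm_of_apply hab
  intro p
  rw [Equiv.Perm.mul_apply, natOfPt_tperm ha, natOfPt_tperm hb, tget_tmul a b (natOfPt_lt p)]

/-! ### Fixed points -/

/-- The set of fixed points of a permutation. -/
def fixSet (g : Equiv.Perm GolayPt) : Finset GolayPt := Finset.univ.filter fun p => g p = p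

theorem mem_fixSet (g : Equiv.Perm GolayPt) (p : GolayPt) : p ∈ fixSet g ↔ g p = p := by
  unfold fixSet
  rw [Finset.mem_filter]
  simp

theorem fixSet_conj (k g : Equiv.Perm GolayPt) : fixSet (k * g * k⁻¹) = (fixSet g).image k := by
  apply Finset.ext
  intro p
  rw [mem_fixSet, Finset.mem_image]
  constructor
  · intro h
    refine ⟨k⁻¹ p, ?_, by simp⟩
    rw [mem_fixSet]
    have : k⁻¹ ((k * g * k⁻¹) p) = k⁻¹ p := by rw [h]
    simpa using this
  · rintro ⟨q, hq, rfl⟩
    rw [mem_fixSet] at hq
    simp [hq]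

theorem fixSet_tperm {a : List ℕ} (h : tabOK a = true) :
    fixSet (tperm a) = support₂ (ofMask (fixMask a)) := by
  apply Finset.ext
  intro p
  rw [mem_fixSet, Cfsg.Agent.Lib.Helper1.support₂_ofMask, Finset.mem_filter, fixMask_testBit,
    ← natOfPt_eq_gIdx]
  simp only [Finset.mem_univ, true_and]
  constructor
  · intro hp
    refine ⟨natOfPt_lt p, ?_⟩
    rw [← natOfPt_tperm h, hp]
  · rintro ⟨-, hp⟩
    apply natOfPt_injective
    rw [natOfPt_tperm h, hp]

theorem card_fixSet_tperm {a : List ℕ} (h : tabOK a = true) :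
    (fixSet (tperm a)).card = popcN 24 (fixMask a) := by
  rw [fixSet_tperm h, Cfsg.Agent.Lib.Helper1.card_support₂_ofMask]

/-- Boolean test that the fixed points of a table form an octad. -/
def fixOctOK (a : List ℕ) : Bool :=
  (popcN 24 (fixMask a) == 8) && (cw (fixMask a >>> 12) == fixMask a) && decide (fixMask a >>> 12 < 4096)

theorem fixSet_mem_octads {a : List ℕ} (h : tabOK a = true) (h2 : fixOctOK a = true) :
    fixSet (tperm a) ∈ octads := by
  unfold fixOctOK at h2
  simp only [Bool.and_eq_true, beq_iff_eq, decide_eq_true_eq] at h2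
  refine ⟨⟨ofMask (fixMask a), ?_, (fixSet_tperm h).symm⟩, ?_⟩
  · show ofMask (fixMask a) ∈ golayCode
    rw [Cfsg.Agent.Lib.Helper1.mem_golayCode_iff]
    exact ⟨fixMask a >>> 12, h2.2, by rw [h2.1.2]⟩
  · rw [card_fixSet_tperm h, h2.1.1]

/-! ### Boolean tests on tables -/

/-- The table squares to the identity. -/
def isInvol (w : List ℕ) : Bool := (List.range 24).all fun i => tget w (tget w i) == i

/-- The table cubes to the identity. -/
def isOrd3 (w : List ℕ) : Bool := (List.range 24).all fun i => tget w (tget w (tget w i)) == i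

/-- The table has no fixed point. -/
def isFpf (w : List ℕ) : Bool := (List.range 24).all fun i => tget w i != i

/-- The tables commute. -/
def commOK (a b : List ℕ) : Bool := (List.range 24).all fun i => tget a (tget b i) == tget b (tget a i)

theorem isInvol_of_sq {w : List ℕ} (h : tabOK w = true) (hsq : tperm w * tperm w = 1) :
    isInvol w = true := by
  unfold isInvol
  rw [List.all_eq_true]
  intro i hi
  rw [List.mem_range] at hi
  rw [beq_iff_eq]
  have h1 : (tperm w * tperm w) (ptOfNat i) = ptOfNat i := by rw [hsq]; rfl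
  have h2 := congrArg natOfPt h1
  rw [Equiv.Perm.mul_apply, natOfPt_tperm h, natOfPt_tperm h, natOfPt_ptOfNat i hi] at h2
  exact h2

theorem isOrd3_of_cube {w : List ℕ} (h : tabOK w = true) (hcube : tperm w * tperm w * tperm w = 1) :
    isOrd3 w = true := by
  unfold isOrd3
  rw [List.all_eq_true]
  intro i hi
  rw [List.mem_range] at hi
  rw [beq_iff_eq]
  have h1 : (tperm w * tperm w * tperm w) (ptOfNat i) = ptOfNat i := by rw [hcube]; rfl
  have h2 := congrArg natOfPt h1
  rw [Equiv.Perm.mul_apply, Equiv.Perm.mul_apply, natOfPt_tperm h, natOfPt_tperm h, natOfPt_tperm h,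
    natOfPt_ptOfNat i hi] at h2
  exact h2

theorem isFpf_of_fpf {w : List ℕ} (h : tabOK w = true) (hf : ∀ p, tperm w p ≠ p) : isFpf w = true := by
  unfold isFpf
  rw [List.all_eq_true]
  intro i hi
  rw [List.mem_range] at hi
  rw [bne_iff_ne]
  intro hc
  apply hf (ptOfNat i)
  apply natOfPt_injective
  rw [natOfPt_tperm h, natOfPt_ptOfNat i hi, hc]

theorem fpf_of_isFpf {w : List ℕ} (h : tabOK w = true) (hf : isFpf w = true) : ∀ p, tperm w p ≠ p := by
  unfold isFpf at hf
  rw [List.all_eq_true] at hf
  intro p hp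
  have h1 := hf (natOfPt p) (List.mem_range.mpr (natOfPt_lt p))
  rw [bne_iff_ne] at h1
  apply h1
  rw [← natOfPt_tperm h, hp]

theorem commOK_of_comm {a b : List ℕ} (ha : tabOK a = true) (hb : tabOK b = true)
    (hc : tperm a * tperm b = tperm b * tperm a) : commOK a b = true := by
  unfold commOK
  rw [List.all_eq_true]
  intro i hi
  rw [List.mem_range] at hi
  rw [beq_iff_eq]
  have h1 := congrArg (fun f : Equiv.Perm GolayPt => natOfPt (f (ptOfNat i))) hc
  simp only [Equiv.Perm.mul_apply] at h1
  rw [natOfPt_tperm ha, natOfPt_tperm hb, natOfPt_tperm hb, natOfPt_tperm ha, natOfPt_ptOfNat i hi] at h1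
  exact h1

end Cfsg.Agent.Lib.Helper9.M24
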