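import Mathlib
import Cfsg.Prelude.Def_Sporadic_a
import Cfsg.Agent.Lib.Helper9.TabPerm
import Cfsg.Agent.Lib.Helper9.Steiner1
import Cfsg.Agent.Lib.Helper9.M24N
import Cfsg.Agent.Lib.Helper9.M24P

set_option autoImplicit false
open Cfsg

/-! Candidate lists: the elements of the group of the code with a prescribed action on five base points. -/

namespace Cfsg.Agent.Lib.Helper9.M24

open scoped Pointwise

/-- The 48 elements fixing the five base points `∞, 0, 1, 2, 3`. -/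
def F48 : List (List ℕ) :=
  [[0, 1, 2, 3, 4, 5, 6, 7, 8, 9, 10, 11, 12, 13, 14, 15, 16, 17, 18, 19, 20, 21, 22, 23],
   [0, 1, 2, 3, 6, 5, 4, 22, 20, 12, 11, 10, 9, 19, 14, 18, 21, 17, 15, 13, 8, 16, 7, 23],
   [0, 1, 2, 3, 7, 5, 22, 4, 15, 11, 12, 9, 10, 21, 14, 8, 19, 17, 20, 16, 18, 13, 6, 23],
   [0, 1, 2, 3, 8, 5, 20, 15, 4, 21, 19, 13, 16, 11, 14, 7, 12, 17, 22, 10, 6, 9, 18, 23],
   [0, 1, 2, 3, 9, 5, 12, 11, 21, 4, 22, 7, 6, 15, 14, 13, 20, 17, 19, 18, 16, 8, 10, 23],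
   [0, 1, 2, 3, 10, 5, 11, 12, 19, 22, 4, 6, 7, 20, 14, 16, 15, 17, 21, 8, 13, 18, 9, 23],
   [0, 1, 2, 3, 11, 5, 10, 9, 13, 7, 6, 4, 22, 8, 14, 21, 18, 17, 16, 20, 19, 15, 12, 23],
   [0, 1, 2, 3, 12, 5, 9, 10, 16, 6, 7, 22, 4, 18, 14, 19, 8, 17, 13, 15, 21, 20, 11, 23],
   [0, 1, 2, 3, 13, 5, 19, 21, 11, 15, 20, 8, 18, 4, 14, 9, 22, 17, 12, 6, 10, 7, 16, 23],
   [0, 1, 2, 3, 15, 5, 18, 8, 7, 13, 16, 21, 19, 9, 14, 4, 10, 17, 6, 12, 22, 11, 20, 23],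
   [0, 1, 2, 3, 16, 5, 21, 19, 12, 20, 15, 18, 8, 22, 14, 10, 4, 17, 11, 7, 9, 6, 13, 23],
   [0, 1, 2, 3, 18, 5, 15, 20, 22, 19, 21, 16, 13, 12, 14, 6, 11, 17, 4, 9, 7, 10, 8, 23],
   [0, 1, 2, 3, 19, 5, 13, 16, 10, 18, 8, 20, 15, 6, 14, 12, 7, 17, 9, 4, 11, 22, 21, 23],
   [0, 1, 2, 3, 20, 5, 8, 18, 6, 16, 13, 19, 21, 10, 14, 22, 9, 17, 7, 11, 4, 12, 15, 23],
   [0, 1, 2, 3, 21, 5, 16, 13, 9, 8, 18, 15, 20, 7, 14, 11, 6, 17, 10, 22, 12, 4, 19, 23],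
   [0, 1, 2, 3, 22, 5, 7, 6, 18, 10, 9, 12, 11, 16, 14, 20, 13, 17, 8, 21, 15, 19, 4, 23],
   [0, 1, 2, 3, 4, 14, 15, 10, 21, 8, 12, 19, 7, 22, 17, 18, 13, 5, 6, 20, 11, 9, 16, 23],
   [0, 1, 2, 3, 6, 14, 18, 11, 16, 20, 9, 13, 22, 7, 17, 15, 19, 5, 4, 8, 10, 12, 21, 23],
   [0, 1, 2, 3, 7, 14, 8, 12, 13, 15, 10, 16, 4, 6, 17, 20, 21, 5, 22, 18, 9, 11, 19, 23],
   [0, 1, 2, 3, 8, 14, 7, 19, 9, 4, 16, 10, 15, 18, 17, 22, 11, 5, 20, 6, 13, 21, 12, 23],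
   [0, 1, 2, 3, 9, 14, 13, 22, 8, 21, 6, 18, 11, 10, 17, 19, 15, 5, 12, 16, 7, 4, 20, 23],
   [0, 1, 2, 3, 10, 14, 16, 4, 18, 19, 7, 8, 12, 9, 17, 21, 20, 5, 11, 13, 6, 22, 15, 23],
   [0, 1, 2, 3, 11, 14, 21, 6, 15, 13, 22, 20, 9, 12, 17, 16, 8, 5, 10, 19, 4, 7, 18, 23],
   [0, 1, 2, 3, 12, 14, 19, 7, 20, 16, 4, 15, 10, 11, 17, 13, 18, 5, 9, 21, 22, 6, 8, 23],
   [0, 1, 2, 3, 13, 14, 9, 20, 7, 11, 18, 6, 21, 16, 17, 12, 4, 5, 19, 10, 8, 15, 22, 23],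
   [0, 1, 2, 3, 15, 14, 4, 16, 11, 7, 19, 12, 8, 20, 17, 6, 9, 5, 18, 22, 21, 13, 10, 23],
   [0, 1, 2, 3, 16, 14, 10, 15, 6, 12, 8, 7, 19, 13, 17, 11, 22, 5, 21, 9, 18, 20, 4, 23],
   [0, 1, 2, 3, 18, 14, 6, 21, 10, 22, 13, 9, 20, 8, 17, 4, 12, 5, 15, 7, 16, 19, 11, 23],
   [0, 1, 2, 3, 19, 14, 12, 8, 22, 10, 15, 4, 16, 21, 17, 9, 6, 5, 13, 11, 20, 18, 7, 23],
   [0, 1, 2, 3, 20, 14, 22, 13, 12, 6, 21, 11, 18, 15, 17, 7, 10, 5, 8, 4, 19, 16, 9, 23],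
   [0, 1, 2, 3, 21, 14, 11, 18, 4, 9, 20, 22, 13, 19, 17, 10, 7, 5, 16, 12, 15, 8, 6, 23],
   [0, 1, 2, 3, 22, 14, 20, 9, 19, 18, 11, 21, 6, 4, 17, 8, 16, 5, 7, 15, 12, 10, 13, 23],
   [0, 1, 2, 3, 4, 17, 18, 12, 9, 21, 7, 20, 10, 16, 5, 6, 22, 14, 15, 11, 19, 8, 13, 23],
   [0, 1, 2, 3, 6, 17, 15, 9, 12, 16, 22, 8, 11, 21, 5, 4, 7, 14, 18, 10, 13, 20, 19, 23],
   [0, 1, 2, 3, 7, 17, 20, 10, 11, 13, 4, 18, 12, 19, 5, 22, 6, 14, 8, 9, 16, 15, 21, 23],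
   [0, 1, 2, 3, 8, 17, 22, 16, 21, 9, 15, 6, 19, 12, 5, 20, 18, 14, 7, 13, 10, 4, 11, 23],
   [0, 1, 2, 3, 9, 17, 19, 6, 4, 8, 11, 16, 22, 20, 5, 12, 10, 14, 13, 7, 18, 21, 15, 23],
   [0, 1, 2, 3, 10, 17, 21, 7, 22, 18, 12, 13, 4, 15, 5, 11, 9, 14, 16, 6, 8, 19, 20, 23],
   [0, 1, 2, 3, 11, 17, 16, 22, 7, 15, 9, 19, 6, 18, 5, 10, 12, 14, 21, 4, 20, 13, 8, 23],
   [0, 1, 2, 3, 12, 17, 13, 4, 6, 20, 10, 21, 7, 8, 5, 9, 11, 14, 19, 22, 15, 16, 18, 23],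
   [0, 1, 2, 3, 13, 17, 12, 18, 15, 7, 21, 10, 20, 22, 5, 19, 16, 14, 9, 8, 6, 11, 4, 23],
   [0, 1, 2, 3, 15, 17, 6, 19, 13, 11, 8, 22, 16, 10, 5, 18, 20, 14, 4, 21, 12, 7, 9, 23],
   [0, 1, 2, 3, 16, 17, 11, 8, 20, 6, 19, 9, 15, 4, 5, 21, 13, 14, 10, 18, 7, 12, 22, 23],
   [0, 1, 2, 3, 18, 17, 4, 13, 19, 10, 20, 7, 21, 11, 5, 15, 8, 14, 6, 16, 9, 22, 12, 23],
   [0, 1, 2, 3, 19, 17, 9, 15, 18, 22, 16, 11, 8, 7, 5, 13, 21, 14, 12, 20, 4, 10, 6, 23],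
   [0, 1, 2, 3, 20, 17, 7, 21, 16, 12, 18, 4, 13, 9, 5, 8, 15, 14, 22, 19, 11, 6, 10, 23],
   [0, 1, 2, 3, 21, 17, 10, 20, 8, 4, 13, 12, 18, 6, 5, 16, 19, 14, 11, 15, 22, 9, 7, 23],
   [0, 1, 2, 3, 22, 17, 8, 11, 10, 19, 6, 15, 9, 13, 5, 7, 4, 14, 20, 12, 21, 18, 16, 23]]

/-- Indices of the points outside the base octad. -/
def outIdx : List ℕ := [4, 6, 7, 8, 9, 10, 11, 12, 13, 15, 16, 18, 19, 20, 21, 22]

/-- The Boolean certificate for `F48`. -/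
def f48OK : Bool :=
  (F48.all fun f => tabOK f && tabM24 f && (tget f 23 == 23) && (tget f 0 == 0) && (tget f 1 == 1) &&
    (tget f 2 == 2) && (tget f 3 == 3)) &&
  ([5, 14, 17].all fun z => outIdx.all fun y => F48.any fun f => (tget f 5 == z) && (tget f 4 == y))

theorem f48_ok : f48OK = true := by decide +kernel

theorem F48_mem {f : List ℕ} (hf : f ∈ F48) : tabOK f = true ∧ tabM24 f = true ∧ tget f 23 = 23 ∧
    tget f 0 = 0 ∧ tget f 1 = 1 ∧ tget f 2 = 2 ∧ tget f 3 = 3 := by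
  have h := f48_ok
  unfold f48OK at h
  rw [Bool.and_eq_true, List.all_eq_true] at h
  have := h.1 f hf
  simp only [Bool.and_eq_true, beq_iff_eq] at this
  tauto

theorem F48_cover {z y : ℕ} (hz : z ∈ [5, 14, 17]) (hy : y ∈ outIdx) :
    ∃ f ∈ F48, tget f 5 = z ∧ tget f 4 = y := by
  have h := f48_ok
  unfold f48OK at h
  rw [Bool.and_eq_true] at h
  have h1' := h.2
  rw [List.all_eq_true] at h1'
  have h1 := h1' z hz
  rw [List.all_eq_true] at h1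
  have h2 := h1 y hy
  rw [List.any_eq_true] at h2
  obtain ⟨f, hf, hfz⟩ := h2
  simp only [Bool.and_eq_true, beq_iff_eq] at hfz
  exact ⟨f, hf, hfz⟩

theorem base_image_cases : ∀ p : GolayPt, p ∈ baseOctad → p ≠ none → p ≠ some 0 → p ≠ some 1 →
    p ≠ some 2 → p ≠ some 3 → natOfPt p ∈ [5, 14, 17] := by decide

theorem out_image_cases : ∀ p : GolayPt, p ∉ baseOctad → natOfPt p ∈ outIdx := by decide

/-- Every element of the group fixing the five base points is in the list. -/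
theorem fixer5_cases {g : Equiv.Perm GolayPt} (hg : g ∈ M24) (h0 : g none = none) (h1 : g (some 0) = some 0)
    (h2 : g (some 1) = some 1) (h3 : g (some 2) = some 2) (h4 : g (some 3) = some 3) :
    ∃ f ∈ F48, tabOK f = true ∧ g = tperm f := by
  have hfix : ∀ p ∈ ({none, some 0, some 1, some 2, some 3} : Finset GolayPt), g p = p := by
    intro p hp
    simp only [Finset.mem_insert, Finset.mem_singleton] at hp
    rcases hp with rfl | rfl | rfl | rfl | rfl <;> assumption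
  have himg : baseOctad.image g = baseOctad :=
    octad_image_eq_of_fix hg baseOctad_mem (s := {none, some 0, some 1, some 2, some 3}) (by decide)
      (by decide) hfix
  have hz : natOfPt (g (some 5)) ∈ [5, 14, 17] := by
    apply base_image_cases _ (mem_of_image_eq himg (by decide))
    · rw [← h0]; intro h; exact absurd (g.injective h) (by decide)
    · rw [← h1]; intro h; exact absurd (g.injective h) (by decide)
    · rw [← h2]; intro h; exact absurd (g.injective h) (by decide)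
    · rw [← h3]; intro h; exact absurd (g.injective h) (by decide)
    · rw [← h4]; intro h; exact absurd (g.injective h) (by decide)
  have hy : natOfPt (g (some 4)) ∈ outIdx :=
    out_image_cases _ (not_mem_of_image_eq himg (by decide))
  obtain ⟨f, hf, hf5, hf4⟩ := F48_cover hz hy
  obtain ⟨hok, hm, e23, e0, e1, e2, e3⟩ := F48_mem hf
  refine ⟨f, hf, hok, ?_⟩
  have hval : ∀ i < 24, natOfPt (g (ptOfNat i)) = tget f i → g (ptOfNat i) = tperm f (ptOfNat i) := by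
    intro i hi h
    apply natOfPt_injective
    rw [h, natOfPt_tperm hok, natOfPt_ptOfNat i hi]
  refine eq_of_agree hg (tperm_mem hok hm) baseOctad_mem
    (P := {none, some 0, some 1, some 2, some 3, some 5}) (by decide) (by decide) ?_
    (x := some 4) (by decide) ?_
  · intro p hp
    simp only [Finset.mem_insert, Finset.mem_singleton] at hp
    rcases hp with rfl | rfl | rfl | rfl | rfl | rfl
    · exact hval 23 (by norm_num) (by rw [e23]; show natOfPt (g none) = 23; rw [h0]; rfl)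
    · exact hval 0 (by norm_num) (by rw [e0]; show natOfPt (g (some 0)) = 0; rw [h1]; rfl)
    · exact hval 1 (by norm_num) (by rw [e1]; show natOfPt (g (some 1)) = 1; rw [h2]; rfl)
    · exact hval 2 (by norm_num) (by rw [e2]; show natOfPt (g (some 2)) = 2; rw [h3]; rfl)
    · exact hval 3 (by norm_num) (by rw [e3]; show natOfPt (g (some 3)) = 3; rw [h4]; rfl)
    · exact hval 5 (by norm_num) hf5.symm
  · exact hval 4 (by norm_num) hf4.symm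

/-- The Boolean certificate for a pattern element `u`. -/
def patOK (u : List ℕ) : Bool := tabOK u && tabM24 u && F48.all fun f => tabOK (tmul u f)

/-- Every element of the group agreeing with `tperm u` on the five base points is `tperm (tmul u f)` for some
`f` in the list. -/
theorem pattern_cases {u : List ℕ} (hu : patOK u = true) {g : Equiv.Perm GolayPt} (hg : g ∈ M24)
    (h0 : natOfPt (g none) = tget u 23) (h1 : natOfPt (g (some 0)) = tget u 0)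
    (h2 : natOfPt (g (some 1)) = tget u 1) (h3 : natOfPt (g (some 2)) = tget u 2)
    (h4 : natOfPt (g (some 3)) = tget u 3) :
    ∃ f ∈ F48, tabOK (tmul u f) = true ∧ g = tperm (tmul u f) := by
  unfold patOK at hu
  rw [Bool.and_eq_true, Bool.and_eq_true, List.all_eq_true] at hu
  obtain ⟨⟨huok, hum⟩, hall⟩ := hu
  have hval : ∀ i < 24, natOfPt (g (ptOfNat i)) = tget u i → ((tperm u)⁻¹ * g) (ptOfNat i) = ptOfNat i := by
    intro i hi h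
    rw [Equiv.Perm.mul_apply, Equiv.Perm.inv_eq_iff_eq]
    apply natOfPt_injective
    rw [h, natOfPt_tperm huok, natOfPt_ptOfNat i hi]
  obtain ⟨f, hf, hfok, hgf⟩ := fixer5_cases
    (Subgroup.mul_mem _ (Subgroup.inv_mem _ (tperm_mem huok hum)) hg)
    (hval 23 (by norm_num) h0) (hval 0 (by norm_num) h1) (hval 1 (by norm_num) h2)
    (hval 2 (by norm_num) h3) (hval 3 (by norm_num) h4)
  refine ⟨f, hf, hall f hf, ?_⟩
  rw [← tperm_tmul huok hfok (hall f hf), ← hgf]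
  group

end Cfsg.Agent.Lib.Helper9.M24
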