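import Mathlib
import Cfsg.Prelude.Def_Sporadic_a
import Cfsg.Agent.Lib.Helper9.M24Cand

set_option autoImplicit false
open Cfsg

/-! Normal forms (up to conjugacy) of elements of order 2 and 3 of the group of the code. -/

namespace Cfsg.Agent.Lib.Helper9.M24

open scoped Pointwise

/-- A permutation of `p`-power order stabilizing a set of size prime to `p` fixes one of its points. -/
theorem exists_fixed_of_prime_pow {β : Type*} [Fintype β] [DecidableEq β] (σ : Equiv.Perm β) (p n : ℕ)
    [hp : Fact p.Prime] (hσ : σ ^ p ^ n = 1) (s : Finset β) (hs : ∀ x, σ x ∈ s ↔ x ∈ s)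
    (hcard : ¬ p ∣ s.card) : ∃ x ∈ s, σ x = x := by
  classical
  set τ : Equiv.Perm {x // x ∈ s} := σ.subtypePerm hs with hτ
  have hτp : τ ^ p ^ n = 1 := by
    rw [hτ, Equiv.Perm.subtypePerm_pow]
    apply Equiv.ext
    intro x
    apply Subtype.ext
    rw [Equiv.Perm.subtypePerm_apply]
    simp [hσ]
  have h1 := Equiv.Perm.card_compl_support_modEq (p := p) (n := n) hτp
  rw [Fintype.card_coe] at h1
  have h2 : τ.supportᶜ.card ≠ 0 := by
    intro h0
    rw [h0] at h1
    exact hcard ((Nat.modEq_zero_iff_dvd).mp h1.symm)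
  obtain ⟨x, hx⟩ := Finset.card_pos.mp (Nat.pos_of_ne_zero h2)
  rw [Finset.mem_compl, Equiv.Perm.notMem_support] at hx
  refine ⟨x.1, x.2, ?_⟩
  have := congrArg Subtype.val hx
  rwa [hτ, Equiv.Perm.subtypePerm_apply] at this

theorem image_mem_octads_iff {g : Equiv.Perm GolayPt} (hg : g ∈ M24) (b : Finset GolayPt) :
    b.image g ∈ octads ↔ b ∈ octads := by
  constructor
  · intro h
    have := image_mem_octads (Subgroup.inv_mem _ hg) h
    rwa [Finset.image_image, show (⇑g⁻¹ ∘ ⇑g) = id from by funext x; simp, Finset.image_id] at this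
  · exact image_mem_octads hg

theorem image_inv_eq {g : Equiv.Perm GolayPt} {T : Finset GolayPt} (h : T.image g = T) :
    T.image (g⁻¹ : Equiv.Perm GolayPt) = T := by
  conv_lhs => rw [← h]
  rw [Finset.image_image, show (⇑g⁻¹ ∘ ⇑g) = id from by funext x; simp, Finset.image_id]

/-- An element of prime-power order (for a prime not dividing 5) stabilizing a set of four points stabilizes an
octad containing it. -/
theorem exists_invariant_octad {g : Equiv.Perm GolayPt} (hg : g ∈ M24) (p n : ℕ) [hp : Fact p.Prime]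
    (hp5 : ¬ p ∣ 5) (hgp : g ^ p ^ n = 1) {T : Finset GolayPt} (hT : T.card = 4) (hTg : T.image g = T) :
    ∃ O ∈ octads, T ⊆ O ∧ O.image g = O := by
  classical
  set σ : Equiv.Perm (Finset GolayPt) := MulAction.toPerm g with hσ
  have hσa : ∀ o : Finset GolayPt, σ o = o.image g := fun o => rfl
  have hσp : σ ^ p ^ n = 1 := by
    have : σ ^ p ^ n = MulAction.toPerm (g ^ p ^ n) := by
      rw [hσ]
      exact (map_pow (MulAction.toPermHom (Equiv.Perm GolayPt) (Finset GolayPt)) g (p ^ n)).symm
    rw [this, hgp]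
    exact map_one (MulAction.toPermHom (Equiv.Perm GolayPt) (Finset GolayPt))
  set X : Finset (Finset GolayPt) := (Cfsg.Agent.Lib.Helper9.blocksFinset octads).filter (fun b => T ⊆ b) with hX
  have hXcard : X.card = 5 := by
    have h := Cfsg.Agent.Lib.Helper9.steiner_lambda 5 8 octads octads_isOctadSystem.steiner T (by omega)
    rw [hT] at h
    have h24 : Fintype.card GolayPt = 24 := by decide
    rw [h24] at h
    norm_num at h
    rw [hX]
    omega
  have hs : ∀ o, σ o ∈ X ↔ o ∈ X := by
    intro o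
    rw [hσa, hX, Finset.mem_filter, Finset.mem_filter, Cfsg.Agent.Lib.Helper9.mem_blocksFinset,
      Cfsg.Agent.Lib.Helper9.mem_blocksFinset, image_mem_octads_iff hg]
    have : T ⊆ o.image g ↔ T ⊆ o := by
      constructor
      · intro h x hx
        have hx' : g x ∈ T := mem_of_image_eq hTg hx
        have := h hx'
        rw [Finset.mem_image] at this
        obtain ⟨y, hy, hyx⟩ := this
        rwa [← g.injective hyx]
      · intro h
        rw [← hTg]
        exact Finset.image_subset_image h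
    rw [this]
  obtain ⟨O, hO, hOfix⟩ := exists_fixed_of_prime_pow σ p n hσp X hs (by rw [hXcard]; exact hp5)
  rw [hX, Finset.mem_filter, Cfsg.Agent.Lib.Helper9.mem_blocksFinset] at hO
  exact ⟨O, hO.1, hO.2, hOfix⟩

/-- Five distinct points can be moved to the five base points. -/
theorem exists_map_tuple5 (a : Fin 5 → GolayPt) (ha : Function.Injective a) :
    ∃ k ∈ M24, ∀ i, k (a i) = base5 i := by
  obtain ⟨g, hg, hga⟩ := exists_map_base5 a ha
  refine ⟨g⁻¹, Subgroup.inv_mem _ hg, fun i => ?_⟩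
  rw [Equiv.Perm.inv_eq_iff_eq, hga]

/-- Five distinct points of an octad and a sixth point can be moved to the five base points and to `5`
(if the sixth point is in the octad) or to `4` (if it is not). -/
theorem exists_map_tuple6 (a : Fin 5 → GolayPt) (ha : Function.Injective a) {O : Finset GolayPt}
    (hO : O ∈ octads) (haO : ∀ i, a i ∈ O) (b : GolayPt) (hb : ∀ i, b ≠ a i) :
    ∃ k ∈ M24, (∀ i, k (a i) = base5 i) ∧ ((b ∈ O → k b = some 5) ∧ (b ∉ O → k b = some 4)) := by
  obtain ⟨k₁, hk₁, hk₁a⟩ := exists_map_tuple5 a ha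
  set s : Finset GolayPt := {none, some 0, some 1, some 2, some 3} with hs
  have hs_mem : ∀ p ∈ s, ∃ i, p = base5 i := by
    intro p hp
    rw [hs] at hp
    simp only [Finset.mem_insert, Finset.mem_singleton] at hp
    rcases hp with rfl | rfl | rfl | rfl | rfl
    · exact ⟨0, rfl⟩
    · exact ⟨1, rfl⟩
    · exact ⟨2, rfl⟩
    · exact ⟨3, rfl⟩
    · exact ⟨4, rfl⟩
  have hbase_mem : ∀ i, base5 i ∈ s := by decide
  have himg : O.image k₁ = baseOctad := by
    apply octads_isOctadSystem.eq_of_five_le (image_mem_octads hk₁ hO) baseOctad_mem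
    have h1 : s ⊆ O.image k₁ ∩ baseOctad := by
      intro p hp
      obtain ⟨i, rfl⟩ := hs_mem p hp
      rw [Finset.mem_inter]
      refine ⟨?_, ?_⟩
      · rw [← hk₁a i]
        exact Finset.mem_image_of_mem _ (haO i)
      · revert i; decide
    exact le_trans (by decide) (Finset.card_le_card h1)
  have hb_iff : k₁ b ∈ baseOctad ↔ b ∈ O := by
    rw [← himg, Finset.mem_image]
    constructor
    · rintro ⟨y, hy, hyb⟩
      rwa [← k₁.injective hyb]
    · intro h
      exact ⟨b, h, rfl⟩
  have hbs : k₁ b ∉ s := by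
    intro h
    obtain ⟨i, hi⟩ := hs_mem _ h
    rw [← hk₁a i] at hi
    exact hb i (k₁.injective hi)
  by_cases hbO : b ∈ O
  · obtain ⟨f, hf, hfs, hfb⟩ := exists_fix5_move' (s := s) (by decide) baseOctad_mem (by decide)
      (z := k₁ b) (z' := some 5) hbs (by decide) (by rw [hb_iff]; simp [hbO]; decide)
    refine ⟨f * k₁, Subgroup.mul_mem _ hf hk₁, fun i => ?_, fun _ => ?_, fun h => absurd hbO h⟩
    · rw [Equiv.Perm.mul_apply, hk₁a, hfs _ (hbase_mem i)]
    · rw [Equiv.Perm.mul_apply, hfb]
  · obtain ⟨f, hf, hfs, hfb⟩ := exists_fix5_move' (s := s) (by decide) baseOctad_mem (by decide)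
      (z := k₁ b) (z' := some 4) hbs (by decide) (by rw [hb_iff]; simp [hbO]; decide)
    refine ⟨f * k₁, Subgroup.mul_mem _ hf hk₁, fun i => ?_, fun h => absurd h hbO, fun _ => ?_⟩
    · rw [Equiv.Perm.mul_apply, hk₁a, hfs _ (hbase_mem i)]
    · rw [Equiv.Perm.mul_apply, hfb]

theorem conj_apply (k g : Equiv.Perm GolayPt) (p : GolayPt) : (k * g * k⁻¹) (k p) = k (g p) := by
  simp

end Cfsg.Agent.Lib.Helper9.M24
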