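import Mathlib
import Cfsg.Prelude.Def_Sporadic_a
import Cfsg.Agent.Lib.Helper1.Golay5
import Cfsg.Agent.Lib.Helper9.TabPerm

set_option autoImplicit false
open Cfsg

/-! Subsets of the 24 points as bit masks. -/

namespace Cfsg.Agent.Lib.Helper9.M24

open Cfsg.Agent.Lib.Helper1 (gIdx ofMask cw popcN)

/-- The set of points with a given bit mask. -/
def mset (m : ℕ) : Finset GolayPt := Finset.univ.filter fun p => m.testBit (natOfPt p) = true

theorem mem_mset (m : ℕ) (p : GolayPt) : p ∈ mset m ↔ m.testBit (natOfPt p) = true := by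
  unfold mset
  rw [Finset.mem_filter]
  simp

theorem mset_eq_support (m : ℕ) : mset m = support₂ (ofMask m) := by
  rw [Cfsg.Agent.Lib.Helper1.support₂_ofMask, ← natOfPt_eq_gIdx]
  rfl

theorem card_mset (m : ℕ) : (mset m).card = popcN 24 m := by
  rw [mset_eq_support, Cfsg.Agent.Lib.Helper1.card_support₂_ofMask]

/-- The bit mask of a set of points. -/
def maskOf (s : Finset GolayPt) : ℕ :=
  foldMask (fun i => decide (ptOfNat i ∈ s)) id (List.range 24) 0

theorem testBit_maskOf (s : Finset GolayPt) (j : ℕ) :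
    (maskOf s).testBit j = true ↔ j < 24 ∧ ptOfNat j ∈ s := by
  unfold maskOf
  rw [foldMask_testBit]
  simp only [Nat.zero_testBit, Bool.false_eq_true, false_or, List.mem_range, decide_eq_true_eq, id]
  constructor
  · rintro ⟨i, hi, h1, rfl⟩
    exact ⟨hi, h1⟩
  · rintro ⟨h1, h2⟩
    exact ⟨j, h1, h2, rfl⟩

theorem maskOf_lt (s : Finset GolayPt) : maskOf s < 2 ^ 24 := by
  apply Nat.lt_pow_two_of_testBit
  intro i hi
  by_contra h
  rw [Bool.not_eq_false, testBit_maskOf] at h
  omega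

theorem mset_maskOf (s : Finset GolayPt) : mset (maskOf s) = s := by
  apply Finset.ext
  intro p
  rw [mem_mset, testBit_maskOf, ptOfNat_natOfPt]
  constructor
  · exact fun h => h.2
  · exact fun h => ⟨natOfPt_lt p, h⟩

theorem testBit_lt_of_lt {m : ℕ} (hm : m < 2 ^ 24) {i : ℕ} (h : m.testBit i = true) : i < 24 := by
  by_contra hi
  push Not at hi
  have h1 : m < 2 ^ i := lt_of_lt_of_le hm (Nat.pow_le_pow_right (by norm_num) hi)
  rw [Nat.testBit_lt_two_pow h1] at h
  exact absurd h (by decide)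

theorem maskOf_mset {m : ℕ} (hm : m < 2 ^ 24) : maskOf (mset m) = m := by
  apply Nat.eq_of_testBit_eq
  intro i
  rw [Bool.eq_iff_iff, testBit_maskOf, mem_mset]
  constructor
  · rintro ⟨hi, h⟩
    rwa [natOfPt_ptOfNat i hi] at h
  · intro h
    have hi := testBit_lt_of_lt hm h
    exact ⟨hi, by rwa [natOfPt_ptOfNat i hi]⟩

theorem mset_injOn {m n : ℕ} (hm : m < 2 ^ 24) (hn : n < 2 ^ 24) (h : mset m = mset n) : m = n := by
  rw [← maskOf_mset hm, ← maskOf_mset hn, h]

theorem mset_and (m n : ℕ) : mset (m &&& n) = mset m ∩ mset n := by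
  apply Finset.ext
  intro p
  rw [Finset.mem_inter, mem_mset, mem_mset, mem_mset, Nat.testBit_and, Bool.and_eq_true]

theorem mset_or (m n : ℕ) : mset (m ||| n) = mset m ∪ mset n := by
  apply Finset.ext
  intro p
  rw [Finset.mem_union, mem_mset, mem_mset, mem_mset, Nat.testBit_or, Bool.or_eq_true]

theorem mset_zero : mset 0 = ∅ := by
  apply Finset.ext
  intro p
  rw [mem_mset]
  simp

theorem mset_disjoint_iff {m n : ℕ} (hm : m < 2 ^ 24) :
    Disjoint (mset m) (mset n) ↔ m &&& n = 0 := by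
  rw [Finset.disjoint_iff_inter_eq_empty, ← mset_and, ← mset_zero]
  constructor
  · intro h
    exact mset_injOn (lt_of_le_of_lt Nat.and_le_left hm) (by norm_num) h
  · intro h
    rw [h]

theorem pmask_lt {a : List ℕ} (h : tabOK a = true) (m : ℕ) : pmask a m < 2 ^ 24 := by
  apply Nat.lt_pow_two_of_testBit
  intro i hi
  by_contra hcon
  rw [Bool.not_eq_false, pmask_testBit] at hcon
  obtain ⟨j, hj, -, hji⟩ := hcon
  have := tget_lt h hj
  omega

theorem image_mset {a : List ℕ} (h : tabOK a = true) (m : ℕ) :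
    (mset m).image (tperm a) = mset (pmask a m) := by
  apply Finset.ext
  intro p
  rw [Finset.mem_image, mem_mset, pmask_testBit]
  constructor
  · rintro ⟨q, hq, rfl⟩
    rw [mem_mset] at hq
    exact ⟨natOfPt q, natOfPt_lt q, hq, (natOfPt_tperm h q).symm⟩
  · rintro ⟨i, hi, h1, h2⟩
    refine ⟨ptOfNat i, ?_, ?_⟩
    · rw [mem_mset, natOfPt_ptOfNat i hi]
      exact h1
    · apply natOfPt_injective
      rw [natOfPt_tperm h, natOfPt_ptOfNat i hi, h2]

/-- Boolean test that a mask is an octad. -/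
def isOct (m : ℕ) : Bool := (popcN 24 m == 8) && (cw (m >>> 12) == m)

/-- Boolean test that a mask is a dodecad. -/
def isDod (m : ℕ) : Bool := (popcN 24 m == 12) && (cw (m >>> 12) == m)

theorem shiftRight_lt {m : ℕ} (hm : m < 2 ^ 24) : m >>> 12 < 4096 := by
  rw [Nat.shiftRight_eq_div_pow]
  omega

theorem mset_mem_weight_iff {m : ℕ} (hm : m < 2 ^ 24) (n : ℕ) :
    mset m ∈ wordsOfWeight (golayCode : Set (GolayPt → ZMod 2)) n ↔
      ((popcN 24 m == n) && (cw (m >>> 12) == m)) = true := by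
  rw [Bool.and_eq_true, beq_iff_eq, beq_iff_eq]
  constructor
  · rintro ⟨⟨w, hw, hsup⟩, hcard⟩
    rw [card_mset] at hcard
    refine ⟨hcard, ?_⟩
    have hw' : w ∈ golayCode := hw
    rw [Cfsg.Agent.Lib.Helper1.mem_golayCode_iff] at hw'
    obtain ⟨c, hc, rfl⟩ := hw'
    rw [mset_eq_support] at hsup
    have h1 := Cfsg.Agent.Lib.Helper1.support₂_injective hsup
    have h2 : cw c = m := Cfsg.Agent.Lib.Helper1.ofMask_injOn (Cfsg.Agent.Lib.Helper1.cw_lt hc) hm h1
    rw [← h2, Cfsg.Agent.Lib.Helper1.cw_shift hc]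
  · rintro ⟨h1, h2⟩
    refine ⟨⟨ofMask m, ?_, (mset_eq_support m).symm⟩, ?_⟩
    · show ofMask m ∈ golayCode
      rw [Cfsg.Agent.Lib.Helper1.mem_golayCode_iff]
      exact ⟨m >>> 12, shiftRight_lt hm, by rw [h2]⟩
    · rw [card_mset, h1]

theorem mset_mem_octads_iff {m : ℕ} (hm : m < 2 ^ 24) : mset m ∈ octads ↔ isOct m = true :=
  mset_mem_weight_iff hm 8

theorem mset_mem_dodecads_iff {m : ℕ} (hm : m < 2 ^ 24) : mset m ∈ dodecads ↔ isDod m = true :=
  mset_mem_weight_iff hm 12

end Cfsg.Agent.Lib.Helper9.M24
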