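import Mathlib
import Cfsg.Prelude.Def_Sporadic_a
import Cfsg.Agent.Lib.Helper9.MaskSet

set_option autoImplicit false
open Cfsg

/-! Fast (table-driven) versions of the mask computations, for use in kernel computations. -/

namespace Cfsg.Agent.Lib.Helper9.M24

open Cfsg.Agent.Lib.Helper1 (cw)

theorem foldl_or_testBit (g : ℕ → ℕ) (l : List ℕ) (r i : ℕ) :
    (l.foldl (fun acc j => acc ||| g j) r).testBit i = true ↔
      (r.testBit i = true ∨ ∃ j ∈ l, (g j).testBit i = true) := by
  induction l generalizing r with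
  | nil => simp
  | cons b l ih =>
    rw [List.foldl_cons, ih, Nat.testBit_or, Bool.or_eq_true]
    simp only [List.mem_cons, exists_eq_or_imp]
    tauto

/-- Pack the values `f 0, ..., f (n-1)` into one number, `w` bits per value. -/
def packTab (w n : ℕ) (f : ℕ → ℕ) : ℕ :=
  (List.range n).foldl (fun acc j => acc ||| (f j <<< (w * j))) 0

theorem packTab_testBit (w n : ℕ) (f : ℕ → ℕ) (i : ℕ) :
    (packTab w n f).testBit i = true ↔ ∃ j < n, w * j ≤ i ∧ (f j).testBit (i - w * j) = true := by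
  unfold packTab
  rw [foldl_or_testBit]
  simp only [Nat.zero_testBit, Bool.false_eq_true, false_or, List.mem_range, Nat.testBit_shiftLeft,
    Bool.and_eq_true, decide_eq_true_eq, ge_iff_le]

/-- Extract the `j`-th field of width `w`. -/
def unpack (w P j : ℕ) : ℕ := (P >>> (w * j)) &&& (2 ^ w - 1)

theorem testBit_lt_of_lt_pow {x w : ℕ} (hx : x < 2 ^ w) {i : ℕ} (h : x.testBit i = true) : i < w := by
  by_contra hi
  push Not at hi
  have h1 : x < 2 ^ i := lt_of_lt_of_le hx (Nat.pow_le_pow_right (by norm_num) hi)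
  rw [Nat.testBit_lt_two_pow h1] at h
  exact absurd h (by decide)

theorem unpack_packTab {w n : ℕ} {f : ℕ → ℕ} (hf : ∀ j < n, f j < 2 ^ w) {j : ℕ}
    (hj : j < n) : unpack w (packTab w n f) j = f j := by
  apply Nat.eq_of_testBit_eq
  intro i
  unfold unpack
  rw [Bool.eq_iff_iff, Nat.testBit_and, Nat.testBit_shiftRight, Nat.testBit_two_pow_sub_one,
    Bool.and_eq_true, decide_eq_true_eq, packTab_testBit]
  constructor
  · rintro ⟨⟨j', hj', hle, hbit⟩, hi⟩
    have hb := testBit_lt_of_lt_pow (hf j' hj') hbit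
    have h1 : j' = j := by
      have h2 : w * j' < w * (j + 1) := by
        rw [Nat.mul_succ]; omega
      have h3 : w * j < w * (j' + 1) := by
        rw [Nat.mul_succ]; omega
      have h4 := Nat.lt_of_mul_lt_mul_left h2
      have h5 := Nat.lt_of_mul_lt_mul_left h3
      omega
    subst h1
    rwa [Nat.add_sub_cancel_left] at hbit
  · intro h
    have hi := testBit_lt_of_lt_pow (hf j hj) h
    refine ⟨⟨j, hj, Nat.le_add_right _ _, ?_⟩, hi⟩
    rwa [Nat.add_sub_cancel_left]

theorem pmask_or (a : List ℕ) (x y : ℕ) : pmask a (x ||| y) = pmask a x ||| pmask a y := by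
  apply Nat.eq_of_testBit_eq
  intro j
  rw [Bool.eq_iff_iff, Nat.testBit_or, Bool.or_eq_true, pmask_testBit, pmask_testBit, pmask_testBit]
  constructor
  · rintro ⟨i, hi, h1, h2⟩
    rw [Nat.testBit_or, Bool.or_eq_true] at h1
    rcases h1 with h1 | h1
    · exact Or.inl ⟨i, hi, h1, h2⟩
    · exact Or.inr ⟨i, hi, h1, h2⟩
  · rintro (⟨i, hi, h1, h2⟩ | ⟨i, hi, h1, h2⟩)
    · exact ⟨i, hi, by rw [Nat.testBit_or, h1]; rfl, h2⟩
    · exact ⟨i, hi, by rw [Nat.testBit_or, h1]; simp, h2⟩

theorem testBit_63 (k : ℕ) : (63 : ℕ).testBit k = decide (k < 6) := by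
  have : (63 : ℕ) = 2 ^ 6 - 1 := by norm_num
  rw [this, Nat.testBit_two_pow_sub_one]

/-- Decomposition of a 24-bit mask into four 6-bit chunks. -/
theorem chunk_decomp {m : ℕ} (hm : m < 2 ^ 24) :
    (m &&& 63) <<< (6 * 0) ||| ((m >>> 6) &&& 63) <<< (6 * 1) ||| ((m >>> 12) &&& 63) <<< (6 * 2) |||
      ((m >>> 18) &&& 63) <<< (6 * 3) = m := by
  apply Nat.eq_of_testBit_eq
  intro i
  simp only [Nat.testBit_or, Nat.testBit_shiftLeft, Nat.testBit_and, Nat.testBit_shiftRight, testBit_63,
    ge_iff_le]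
  by_cases h24 : 24 ≤ i
  · have h0 : m.testBit i = false := by
      by_contra h
      rw [Bool.not_eq_false] at h
      have := testBit_lt_of_lt hm h
      omega
    have h1 : ¬ (i - 6 * 0 < 6) := by omega
    have h2 : ¬ (i - 6 * 1 < 6) := by omega
    have h3 : ¬ (i - 6 * 2 < 6) := by omega
    have h4 : ¬ (i - 6 * 3 < 6) := by omega
    simp [h0, h1, h2, h3, h4]
  · push Not at h24
    by_cases c1 : i < 6
    · have e1 : i - 6 * 0 = i := by omega
      have h2 : ¬ (6 * 1 ≤ i) := by omega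
      have h3 : ¬ (6 * 2 ≤ i) := by omega
      have h4 : ¬ (6 * 3 ≤ i) := by omega
      simp [e1, c1, h2, h3, h4]
    · by_cases c2 : i < 12
      · have e1 : ¬ (i - 6 * 0 < 6) := by omega
        have e2 : 6 + (i - 6 * 1) = i := by omega
        have e2' : i - 6 * 1 < 6 := by omega
        have e2'' : 6 * 1 ≤ i := by omega
        have h3 : ¬ (6 * 2 ≤ i) := by omega
        have h4 : ¬ (6 * 3 ≤ i) := by omega
        simp [c1, e1, e2, e2', e2'', h3, h4]
      · by_cases c3 : i < 18
        · have e1 : ¬ (i - 6 * 0 < 6) := by omega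
          have e2 : ¬ (i - 6 * 1 < 6) := by omega
          have e3 : 12 + (i - 6 * 2) = i := by omega
          have e3' : i - 6 * 2 < 6 := by omega
          have e3'' : 6 * 2 ≤ i := by omega
          have h4 : ¬ (6 * 3 ≤ i) := by omega
          simp [c1, e1, e2, e3, e3', e3'', h4]
        · have e1 : ¬ (i - 6 * 0 < 6) := by omega
          have e2 : ¬ (i - 6 * 1 < 6) := by omega
          have e3 : ¬ (i - 6 * 2 < 6) := by omega
          have e4 : 18 + (i - 6 * 3) = i := by omega
          have e4' : i - 6 * 3 < 6 := by omega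
          have e4'' : 6 * 3 ≤ i := by omega
          simp [c1, e1, e2, e3, e4, e4', e4'']

/-- The packed table of the images of the `k`-th 6-bit chunks. -/
def chunkTab (a : List ℕ) (k : ℕ) : ℕ := packTab 24 64 (fun j => pmask a (j <<< (6 * k)))

/-- Fast image of a bit mask under a table. -/
def pmaskF (a : List ℕ) (m : ℕ) : ℕ :=
  unpack 24 (chunkTab a 0) (m &&& 63) ||| unpack 24 (chunkTab a 1) ((m >>> 6) &&& 63) |||
    unpack 24 (chunkTab a 2) ((m >>> 12) &&& 63) ||| unpack 24 (chunkTab a 3) ((m >>> 18) &&& 63)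

theorem and_63_lt (x : ℕ) : x &&& 63 < 64 := by
  have := @Nat.and_le_right x 63
  omega

theorem pmaskF_eq {a : List ℕ} (h : tabOK a = true) {m : ℕ} (hm : m < 2 ^ 24) :
    pmaskF a m = pmask a m := by
  unfold pmaskF chunkTab
  rw [unpack_packTab (fun j _ => pmask_lt h _) (and_63_lt _),
    unpack_packTab (fun j _ => pmask_lt h _) (and_63_lt _),
    unpack_packTab (fun j _ => pmask_lt h _) (and_63_lt _),
    unpack_packTab (fun j _ => pmask_lt h _) (and_63_lt _),
    ← pmask_or, ← pmask_or, ← pmask_or, chunk_decomp hm]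

/-- The packed table of the low 12 bits of the code words. -/
def parTab : ℕ := packTab 12 4096 (fun c => cw c &&& 4095)

/-- Fast test that a 24-bit mask is a code word. -/
def isCodeF (m : ℕ) : Bool := unpack 12 parTab (m >>> 12) == (m &&& 4095)

theorem and_4095 (x : ℕ) : x &&& 4095 = x % 4096 := by
  have : (4095 : ℕ) = 2 ^ 12 - 1 := by norm_num
  rw [this, Nat.and_two_pow_sub_one_eq_mod]

theorem isCodeF_iff {m : ℕ} (hm : m < 2 ^ 24) : isCodeF m = true ↔ cw (m >>> 12) = m := by
  have hc : m >>> 12 < 4096 := shiftRight_lt hm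
  unfold isCodeF parTab
  rw [beq_iff_eq, unpack_packTab (fun j _ => by rw [and_4095]; exact Nat.mod_lt _ (by norm_num)) hc]
  have hs := Cfsg.Agent.Lib.Helper1.cw_shift hc
  rw [and_4095, and_4095]
  rw [Nat.shiftRight_eq_div_pow] at hs
  constructor
  · intro h
    have h1 := Nat.div_add_mod (cw (m >>> 12)) 4096
    have h2 := Nat.div_add_mod m 4096
    rw [Nat.shiftRight_eq_div_pow] at hs h1 h ⊢
    norm_num at hs h1 h ⊢
    omega
  · intro h
    rw [h]

end Cfsg.Agent.Lib.Helper9.M24
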