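import Mathlib
import Cfsg.Prelude.Def_Sporadic_a
import Cfsg.Agent.Lib.Helper9.M24L

set_option autoImplicit false
open Cfsg

/-! Invariant subspaces not inside the code contain all words of even weight. -/

namespace Cfsg.Agent.Lib.Helper9.M24

open scoped Pointwise
open Cfsg.Agent.Lib.Helper9.GolayG Cfsg.Agent.Lib.Helper9

/-- Every word is congruent modulo the code to a word of weight at most four. -/
theorem exists_leader (w : GolayPt → ZMod 2) :
    ∃ u : GolayPt → ZMod 2, hammingNorm u ≤ 4 ∧ u + w ∈ golayCode := by
  have hC := golayCode_isAbsGolay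
  rcases coset_dichotomy hC w with ⟨h3, -⟩ | ⟨-, h4⟩
  · obtain ⟨u, hu⟩ := Finset.card_pos.mp (by rw [h3]; norm_num)
    rw [mem_cosetT3] at hu
    exact ⟨u, by omega, by rw [← sub_eq_add_word]; exact hu.2⟩
  · obtain ⟨u, hu⟩ := Finset.card_pos.mp (by rw [h4]; norm_num)
    rw [mem_cosetT4] at hu
    exact ⟨u, by omega, by rw [← sub_eq_add_word]; exact hu.2⟩

theorem permAct_eq_of_fix {h : Equiv.Perm GolayPt} {u : GolayPt → ZMod 2}
    (hfix : ∀ p ∈ support₂ u, h p = p) : permAct h u = u := by
  apply support₂_injective
  rw [support₂_permAct]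
  have : (support₂ u).image h = (support₂ u).image id := Finset.image_congr (fun p hp => hfix p hp)
  rw [this, Finset.image_id]

theorem exists_not_mem_of_card_le {s : Finset GolayPt} (hs : s.card ≤ 4) : ∃ a, a ∉ s := by
  by_contra hcon
  push Not at hcon
  have : s = Finset.univ := Finset.eq_univ_iff_forall.mpr hcon
  rw [this, Finset.card_univ, golayCode_isAbsGolay.hcard] at hs
  omega

/-- A code word fixed by every element of `M24` fixing a given nonempty set of at most four points is zero or
the all-ones word. -/
theorem code_word_const {s : Finset GolayPt} (hs : s.card ≤ 4) {c : GolayPt → ZMod 2}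
    (hc : c ∈ golayCode) (hall : ∀ h ∈ M24, (∀ p ∈ s, h p = p) → permAct h c = c) : c = 0 ∨ c = 1 := by
  have hC := golayCode_isAbsGolay
  have hconst : ∀ a b, a ∉ s → b ∉ s → c a = c b := by
    intro a b ha hb
    obtain ⟨h, hh, hfix, hab⟩ := exists_fix_move s hs ha hb
    have h1 := hall h hh hfix
    have h2 := permAct_apply h c a
    rw [h1, hab] at h2
    exact h2.symm
  obtain ⟨a₀, ha₀⟩ := exists_not_mem_of_card_le hs
  rcases zmod2_cases (c a₀) with h0 | h1
  · left
    by_contra hne
    have h8 := hC.hmin c hc hne
    have hsub : support₂ c ⊆ s := by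
      intro p hp
      by_contra hps
      rw [mem_support₂, hconst p a₀ hps ha₀, h0] at hp
      exact zero_ne_one hp
    have := Finset.card_le_card hsub
    rw [← hammingNorm_eq_card_support₂] at this
    omega
  · right
    have hc1 : c + 1 ∈ golayCode := golayCode.add_mem hc (one_mem hC)
    have h0 : c + 1 = 0 := by
      by_contra hne
      have h8 := hC.hmin (c + 1) hc1 hne
      have hsub : support₂ (c + 1) ⊆ s := by
        intro p hp
        by_contra hps
        rw [mem_support₂] at hp
        have hp' : c p + 1 = 1 := hp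
        rw [hconst p a₀ hps ha₀, h1] at hp'
        revert hp'
        decide
      have := Finset.card_le_card hsub
      rw [← hammingNorm_eq_card_support₂] at this
      omega
    have := add_one_add_one c
    rw [h0, zero_add] at this
    exact this.symm

/-- An invariant subspace not inside the code contains all `g u + u` for some nonzero word `u` of weight at
most four. -/
theorem exists_light (W : Submodule (ZMod 2) (GolayPt → ZMod 2))
    (hW : ∀ σ ∈ M24, ∀ w ∈ W, permAct σ w ∈ W) (hnle : ¬ W ≤ golayCode) :
    ∃ u : GolayPt → ZMod 2, u ≠ 0 ∧ hammingNorm u ≤ 4 ∧ ∀ g ∈ M24, permAct g u + u ∈ W := by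
  have hC := golayCode_isAbsGolay
  obtain ⟨w, hwW, hwC⟩ := SetLike.not_le_iff_exists.mp hnle
  obtain ⟨u, hu4, huw⟩ := exists_leader w
  obtain ⟨c, hcdef⟩ : ∃ c : GolayPt → ZMod 2, c = u + w := ⟨_, rfl⟩
  have hcC : c ∈ golayCode := by rw [hcdef]; exact huw
  have hw : w = u + c := by
    rw [hcdef, ← add_assoc, add_self_word, zero_add]
  have hu0 : u ≠ 0 := by
    rintro rfl
    rw [zero_add] at hcdef
    rw [← hcdef] at hwC
    exact hwC hcC
  refine ⟨u, hu0, hu4, ?_⟩
  by_cases hc0 : c = 0
  · rw [hc0, add_zero] at hw
    rw [← hw]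
    intro g hg
    exact W.add_mem (hW g hg w hwW) hwW
  by_cases hc1 : c = 1
  · rw [hc1] at hw
    intro g hg
    have h1 := W.add_mem (hW g hg w hwW) hwW
    have h2 : permAct g w + w = permAct g u + u := by
      rw [hw, permAct_add, permAct_one]
      have : permAct g u + 1 + (u + 1) = permAct g u + u + (1 + 1) := by abel
      rw [this, add_self_word, add_zero]
    rw [h2] at h1
    exact h1
  -- the main case
  have hs4 : (support₂ u).card ≤ 4 := by rw [← hammingNorm_eq_card_support₂]; exact hu4
  have hex : ∃ h ∈ M24, (∀ p ∈ support₂ u, h p = p) ∧ permAct h c ≠ c := by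
    by_contra hcon
    push Not at hcon
    rcases code_word_const hs4 hcC hcon with h | h
    · exact hc0 h
    · exact hc1 h
  obtain ⟨h, hh, hfix, hne⟩ := hex
  have hhu : permAct h u = u := permAct_eq_of_fix hfix
  have h1 := W.add_mem (hW h hh w hwW) hwW
  have h2 : permAct h w + w = permAct h c + c := by
    rw [hw, permAct_add, hhu]
    have : u + permAct h c + (u + c) = permAct h c + c + (u + u) := by abel
    rw [this, add_self_word, add_zero]
  rw [h2] at h1
  have h3 : permAct h c + c ∈ golayCode := golayCode.add_mem (permAct_mem_code hh hcC) hcC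
  have h4 : permAct h c + c ≠ 0 := by
    intro h0
    apply hne
    have : permAct h c + c + c = permAct h c := by rw [add_assoc, add_self_word, add_zero]
    rw [h0, zero_add] at this
    exact this.symm
  have h5 : permAct h c + c ≠ 1 := by
    intro h1'
    obtain ⟨a, ha⟩ : (support₂ u).Nonempty := by
      rw [Finset.nonempty_iff_ne_empty]
      intro he
      apply hu0
      apply support₂_injective
      rw [he]
      ext i
      rw [mem_support₂]
      simp
    have h6 := permAct_apply h c a
    rw [hfix a ha] at h6
    have h7 : (permAct h c + c) a = 1 := by rw [h1']; rfl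
    have h8 : permAct h c a + c a = 1 := h7
    rw [h6] at h8
    rcases zmod2_cases (c a) with h9 | h9 <;> rw [h9] at h8 <;> revert h8 <;> decide
  have hle := code_le_of_mem W hW h1 h3 h4 h5
  have hcW : c ∈ W := hle hcC
  have huW : u ∈ W := by
    have : u = w + c := by rw [hw, add_assoc, add_self_word, add_zero]
    rw [this]
    exact W.add_mem hwW hcW
  intro g hg
  exact W.add_mem (hW g hg u huW) huW

theorem symmDiff_insert_insert {s : Finset GolayPt} {a b : GolayPt} (ha : a ∉ s) (hb : b ∉ s)
    (hab : a ≠ b) : symmDiff (insert b s) (insert a s) = {a, b} := by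
  ext x
  simp only [Finset.mem_symmDiff, Finset.mem_insert, Finset.mem_singleton]
  by_cases hxa : x = a
  · subst hxa
    simp [ha, hab]
  by_cases hxb : x = b
  · subst hxb
    simp [hb, hxa]
  simp [hxa, hxb]

/-- From a light word to all words of weight two. -/
theorem pair_mem_of_light (W : Submodule (ZMod 2) (GolayPt → ZMod 2))
    (hW : ∀ σ ∈ M24, ∀ w ∈ W, permAct σ w ∈ W) {u : GolayPt → ZMod 2} (hu0 : u ≠ 0)
    (hu4 : hammingNorm u ≤ 4) (hu : ∀ g ∈ M24, permAct g u + u ∈ W) :
    ∀ a b : GolayPt, a ≠ b → indW {a, b} ∈ W := by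
  have hs4 : (support₂ u).card ≤ 4 := by rw [← hammingNorm_eq_card_support₂]; exact hu4
  obtain ⟨a₁, ha₁⟩ : (support₂ u).Nonempty := by
    rw [Finset.nonempty_iff_ne_empty]
    intro he
    apply hu0
    apply support₂_injective
    rw [he]
    ext i
    rw [mem_support₂]
    simp
  obtain ⟨b₁, hb₁⟩ := exists_not_mem_of_card_le hs4
  have hab₁ : a₁ ≠ b₁ := by rintro rfl; exact hb₁ ha₁
  obtain ⟨s', hs'⟩ : ∃ s' : Finset GolayPt, s' = (support₂ u).erase a₁ := ⟨_, rfl⟩
  have hins : insert a₁ s' = support₂ u := by rw [hs']; exact Finset.insert_erase ha₁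
  have ha₁s : a₁ ∉ s' := by rw [hs']; exact Finset.notMem_erase _ _
  have hb₁s : b₁ ∉ s' := by
    rw [hs']
    intro h
    exact hb₁ (Finset.mem_of_mem_erase h)
  have hs'3 : s'.card ≤ 4 := by
    rw [hs']
    exact (Finset.card_erase_le).trans hs4
  obtain ⟨g, hg, hgfix, hgab⟩ := exists_fix_move s' hs'3 ha₁s hb₁s
  have h1 := hu g hg
  have h2 : permAct g u + u = indW {a₁, b₁} := by
    apply support₂_injective
    rw [support₂_add, support₂_permAct, support₂_indW, ← hins, Finset.image_insert, hgab]
    have : s'.image g = s'.image id := Finset.image_congr (fun p hp => hgfix p hp)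
    rw [this, Finset.image_id]
    exact symmDiff_insert_insert ha₁s hb₁s hab₁
  rw [h2] at h1
  intro a b hab
  obtain ⟨g1, hg1, -, hg1a⟩ := exists_fix_move ∅ (by simp) (Finset.notMem_empty a₁) (Finset.notMem_empty a)
  have hne : g1 b₁ ≠ a := by
    rw [← hg1a]
    intro h
    exact hab₁ (g1.injective h).symm
  obtain ⟨g2, hg2, hg2fix, hg2b⟩ := exists_fix_move {a} (by simp)
    (by rw [Finset.mem_singleton]; exact hne) (by rw [Finset.mem_singleton]; exact hab.symm)
  have h3 := hW (g2 * g1) (Subgroup.mul_mem _ hg2 hg1) _ h1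
  rw [permAct_indW] at h3
  have h4 : ({a₁, b₁} : Finset GolayPt).image (g2 * g1) = {a, b} := by
    rw [Finset.image_insert, Finset.image_singleton, Equiv.Perm.mul_apply, Equiv.Perm.mul_apply, hg1a, hg2b,
      hg2fix a (Finset.mem_singleton_self a)]
  rw [h4] at h3
  exact h3

/-- A subspace containing all words of weight two contains all words of even weight. -/
theorem even_mem (W : Submodule (ZMod 2) (GolayPt → ZMod 2))
    (hpair : ∀ a b : GolayPt, a ≠ b → indW {a, b} ∈ W) :
    ∀ v : GolayPt → ZMod 2, ∑ p, v p = 0 → v ∈ W := by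
  have key : ∀ n : ℕ, ∀ v : GolayPt → ZMod 2, hammingNorm v = n → ∑ p, v p = 0 → v ∈ W := by
    intro n
    induction n using Nat.strong_induction_on with
    | _ n ih =>
      intro v hvn hsum
      by_cases hv0 : v = 0
      · rw [hv0]; exact W.zero_mem
      have hcard : 2 ∣ (support₂ v).card := by
        rw [sum_eq_card_support₂] at hsum
        exact (ZMod.natCast_eq_zero_iff _ 2).mp hsum
      obtain ⟨a, ha⟩ : (support₂ v).Nonempty := by
        rw [Finset.nonempty_iff_ne_empty]
        intro he
        apply hv0
        apply support₂_injective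
        rw [he]
        ext i
        rw [mem_support₂]
        simp
      have hpos : 0 < (support₂ v).card := Finset.card_pos.mpr ⟨a, ha⟩
      have h2 : 1 < (support₂ v).card := by
        obtain ⟨k, hk⟩ := hcard
        omega
      obtain ⟨b, hb, hba⟩ := Finset.exists_mem_ne h2 a
      have hab : a ≠ b := fun h => hba h.symm
      have hwt := wt_add v (indW {a, b})
      have hsub : ({a, b} : Finset GolayPt) ⊆ support₂ v := by
        intro x hx
        rw [Finset.mem_insert, Finset.mem_singleton] at hx
        rcases hx with rfl | rfl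
        · exact ha
        · exact hb
      rw [support₂_indW, Finset.inter_eq_right.mpr hsub, Finset.card_pair hab, hammingNorm_indW,
        Finset.card_pair hab, hvn] at hwt
      have hlt : hammingNorm (v + indW {a, b}) < n := by omega
      have hsum' : ∑ p, (v + indW {a, b}) p = 0 := by
        have : ∑ p, (v + indW {a, b}) p = ∑ p, v p + ∑ p, (indW {a, b} : GolayPt → ZMod 2) p := by
          rw [← Finset.sum_add_distrib]
          rfl
        rw [this, hsum, sum_eq_card_support₂, support₂_indW, Finset.card_pair hab, zero_add]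
        decide
      have h3 := ih _ hlt (v + indW {a, b}) rfl hsum'
      have h4 : v = v + indW {a, b} + indW {a, b} := by
        rw [add_assoc, add_self_word, add_zero]
      rw [h4]
      exact W.add_mem h3 (hpair a b hab)
  intro v hv
  exact key _ v rfl hv

/-- An invariant subspace not inside the code contains all words of even weight. -/
theorem even_mem_of_not_le (W : Submodule (ZMod 2) (GolayPt → ZMod 2))
    (hW : ∀ σ ∈ M24, ∀ w ∈ W, permAct σ w ∈ W) (hnle : ¬ W ≤ golayCode) :
    ∀ v : GolayPt → ZMod 2, ∑ p, v p = 0 → v ∈ W := by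
  obtain ⟨u, hu0, hu4, hu⟩ := exists_light W hW hnle
  exact even_mem W (pair_mem_of_light W hW hu0 hu4 hu)

end Cfsg.Agent.Lib.Helper9.M24
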