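import Mathlib
import Cfsg.Prelude.Def_Sporadic_a
import Cfsg.Agent.Lib.Helper9.M24S

set_option autoImplicit false
open Cfsg

/-! The stabilizer of an octad is transitive on the octads meeting it in two, in four, and in no points. -/

namespace Cfsg.Agent.Lib.Helper9.M24

open scoped Pointwise
open Cfsg.Agent.Lib.Helper9.GolayG Cfsg.Agent.Lib.Helper9

theorem image_inter_of_stab {g : Equiv.Perm GolayPt} {O X : Finset GolayPt} (hgO : O.image g = O) :
    (X.image g) ∩ O = (X ∩ O).image g := by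
  have : (X.image g) ∩ O = (X.image g) ∩ (O.image g) := by rw [hgO]
  rw [this, ← Finset.image_inter _ _ g.injective]

theorem image_id_of_fix {g : Equiv.Perm GolayPt} {s : Finset GolayPt} (h : ∀ p ∈ s, g p = p) :
    s.image g = s := by
  have : s.image g = s.image id := Finset.image_congr (fun p hp => h p hp)
  rw [this, Finset.image_id]

/-- The stabilizer of an octad is transitive on the octads meeting it in two points. -/
theorem stab_trans_two {O O₁ O₂ : Finset GolayPt} (hO : O ∈ octads) (h₁ : O₁ ∈ octads)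
    (h₂ : O₂ ∈ octads) (h2₁ : (O₁ ∩ O).card = 2) (h2₂ : (O₂ ∩ O).card = 2) :
    ∃ g ∈ M24, O.image g = O ∧ O₁.image g = O₂ := by
  obtain ⟨x, y, hxy, hP₁⟩ := Finset.card_eq_two.mp h2₁
  obtain ⟨x', y', hxy', hP₂⟩ := Finset.card_eq_two.mp h2₂
  have hx : x ∈ O₁ ∩ O := by rw [hP₁]; simp
  have hy : y ∈ O₁ ∩ O := by rw [hP₁]; simp
  have hx' : x' ∈ O₂ ∩ O := by rw [hP₂]; simp
  have hy' : y' ∈ O₂ ∩ O := by rw [hP₂]; simp
  rw [Finset.mem_inter] at hx hy hx' hy'
  obtain ⟨g, hg, hgO, hgx, hgy⟩ := exists_stab_move_two hO hx.2 hy.2 hxy hx'.2 hy'.2 hxy'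
  have hP : (O₁.image g) ∩ O = O₂ ∩ O := by
    rw [image_inter_of_stab hgO, hP₁, hP₂, Finset.image_insert, Finset.image_singleton, hgx, hgy]
  obtain ⟨h, hh, hho⟩ := KO_trans_on_pair_octads hO (image_mem_octads hg h₁) h₂ hP
    (by rw [hP]; exact h2₂)
  have hhfix := ((mem_KO_iff O h).mp hh).2
  have hhM := ((mem_KO_iff O h).mp hh).1
  refine ⟨h * g, Subgroup.mul_mem _ hhM hg, ?_, ?_⟩
  · rw [image_mul, hgO, image_id_of_fix hhfix]
  · rw [image_mul, hho]

/-- The stabilizer of an octad is transitive on the four-element subsets of the octad. -/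
theorem stab_trans_tetrad {O t₁ t₂ : Finset GolayPt} (hO : O ∈ octads) (ht₁ : t₁ ⊆ O) (ht₂ : t₂ ⊆ O)
    (hc₁ : t₁.card = 4) (hc₂ : t₂.card = 4) : ∃ g ∈ M24, O.image g = O ∧ t₁.image g = t₂ := by
  have hOcard : O.card = 8 := octads_isOctadSystem.card_eq hO
  obtain ⟨a₁, ha₁O, ha₁t⟩ : ∃ a ∈ O, a ∉ t₁ := by
    by_contra hcon
    push Not at hcon
    have := Finset.card_le_card (show O ⊆ t₁ from hcon)
    omega
  obtain ⟨a₂, ha₂O, ha₂t⟩ : ∃ a ∈ O, a ∉ t₂ := by
    by_contra hcon
    push Not at hcon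
    have := Finset.card_le_card (show O ⊆ t₂ from hcon)
    omega
  obtain ⟨g, hg, hgs⟩ := exists_map_five (insert a₁ t₁) (insert a₂ t₂)
    (by rw [Finset.card_insert_of_notMem ha₁t, hc₁]) (by rw [Finset.card_insert_of_notMem ha₂t, hc₂])
  have hs₂O : insert a₂ t₂ ⊆ O := by
    intro p hp
    rw [Finset.mem_insert] at hp
    rcases hp with rfl | hp
    · exact ha₂O
    · exact ht₂ hp
  have hgO : O.image g = O := by
    apply octad_image_eq_of_maps hg hO (s := insert a₁ t₁)
    · intro p hp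
      rw [Finset.mem_insert] at hp
      rcases hp with rfl | hp
      · exact ha₁O
      · exact ht₁ hp
    · rw [Finset.card_insert_of_notMem ha₁t, hc₁]
    · intro p hp
      apply hs₂O
      rw [← hgs]
      exact Finset.mem_image_of_mem _ hp
  by_cases hz : g a₁ = a₂
  · refine ⟨g, hg, hgO, ?_⟩
    rw [Finset.image_insert, hz] at hgs
    -- remove `a₂` from both sides
    have h1 : (insert a₂ (t₁.image g)).erase a₂ = (insert a₂ t₂).erase a₂ := by rw [hgs]
    have hnot : a₂ ∉ t₁.image g := by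
      rw [Finset.mem_image]
      rintro ⟨p, hp, hpa⟩
      rw [← hz] at hpa
      rw [g.injective hpa] at hp
      exact ha₁t hp
    rw [Finset.erase_insert hnot, Finset.erase_insert ha₂t] at h1
    exact h1
  · -- `g a₁` lies in `t₂`
    have hz2 : g a₁ ∈ insert a₂ t₂ := by
      rw [← hgs]
      exact Finset.mem_image_of_mem _ (Finset.mem_insert_self _ _)
    rw [Finset.mem_insert] at hz2
    have hzt : g a₁ ∈ t₂ := by
      rcases hz2 with h | h
      · exact absurd h hz
      · exact h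
    -- image of `t₁`
    have himg : t₁.image g = insert a₂ (t₂.erase (g a₁)) := by
      have h1 : (insert (g a₁) (t₁.image g)).erase (g a₁) = (insert a₂ t₂).erase (g a₁) := by
        rw [← Finset.image_insert, hgs]
      have hnot : g a₁ ∉ t₁.image g := by
        rw [Finset.mem_image]
        rintro ⟨p, hp, hpa⟩
        rw [g.injective hpa] at hp
        exact ha₁t hp
      rw [Finset.erase_insert hnot, Finset.erase_insert_of_ne (fun h => hz h.symm)] at h1
      exact h1
    obtain ⟨g₂, hg₂, hg₂O, hg₂fix, hg₂a⟩ := exists_stab_move hO (s := t₂.erase (g a₁))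
      ((Finset.erase_subset _ _).trans ht₂) (by rw [Finset.card_erase_of_mem hzt, hc₂]; norm_num)
      ha₂O (fun h => ha₂t (Finset.mem_of_mem_erase h)) (ht₂ hzt) (Finset.notMem_erase _ _)
    refine ⟨g₂ * g, Subgroup.mul_mem _ hg₂ hg, ?_, ?_⟩
    · rw [image_mul, hgO, hg₂O]
    · rw [image_mul, himg, Finset.image_insert, hg₂a, image_id_of_fix hg₂fix, Finset.insert_erase hzt]

/-- The stabilizer of an octad is transitive on the octads meeting it in four points. -/
theorem stab_trans_four {O O₁ O₂ : Finset GolayPt} (hO : O ∈ octads) (h₁ : O₁ ∈ octads)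
    (h₂ : O₂ ∈ octads) (h4₁ : (O₁ ∩ O).card = 4) (h4₂ : (O₂ ∩ O).card = 4) :
    ∃ g ∈ M24, O.image g = O ∧ O₁.image g = O₂ := by
  obtain ⟨g, hg, hgO, hgt⟩ := stab_trans_tetrad hO (Finset.inter_subset_right) (Finset.inter_subset_right)
    h4₁ h4₂
  have hP : (O₁.image g) ∩ O = O₂ ∩ O := by rw [image_inter_of_stab hgO, hgt]
  have hc₁ : (O₁.image g).card = 8 := octads_isOctadSystem.card_eq (image_mem_octads hg h₁)
  have hc₂ : O₂.card = 8 := octads_isOctadSystem.card_eq h₂
  obtain ⟨b₁, hb₁, hb₁O⟩ : ∃ b ∈ O₁.image g, b ∉ O := by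
    by_contra hcon
    push Not at hcon
    have h1 : O₁.image g ∩ O = O₁.image g := Finset.inter_eq_left.mpr hcon
    rw [hP] at h1
    rw [← h1] at hc₁
    omega
  obtain ⟨b₂, hb₂, hb₂O⟩ : ∃ b ∈ O₂, b ∉ O := by
    by_contra hcon
    push Not at hcon
    have h1 : O₂ ∩ O = O₂ := Finset.inter_eq_left.mpr hcon
    rw [← h1] at hc₂
    omega
  obtain ⟨h, hh, hhb⟩ := KO_exists hO hb₁O hb₂O
  have hhfix := ((mem_KO_iff O h).mp hh).2
  have hhM := ((mem_KO_iff O h).mp hh).1
  refine ⟨h * g, Subgroup.mul_mem _ hhM hg, ?_, ?_⟩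
  · rw [image_mul, hgO, image_id_of_fix hhfix]
  · rw [image_mul]
    apply octads_isOctadSystem.eq_of_five_le (image_mem_octads hhM (image_mem_octads hg h₁)) h₂
    have hsub : insert b₂ (O₂ ∩ O) ⊆ (O₁.image g).image h ∩ O₂ := by
      intro p hp
      rw [Finset.mem_insert] at hp
      rw [Finset.mem_inter]
      rcases hp with rfl | hp
      · exact ⟨by rw [← hhb]; exact Finset.mem_image_of_mem _ hb₁, hb₂⟩
      · refine ⟨?_, (Finset.mem_inter.mp hp).1⟩
        rw [Finset.mem_image]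
        refine ⟨p, ?_, hhfix p (Finset.mem_inter.mp hp).2⟩
        rw [← hP] at hp
        exact (Finset.mem_inter.mp hp).1
    have hcard : (insert b₂ (O₂ ∩ O)).card = 5 := by
      rw [Finset.card_insert_of_notMem (fun h => hb₂O (Finset.mem_inter.mp h).2), h4₂]
    have := Finset.card_le_card hsub
    omega

end Cfsg.Agent.Lib.Helper9.M24
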