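import Mathlib
import Cfsg.Prelude.Def_Sporadic_a
import Cfsg.Agent.Lib.Helper9.M24T

set_option autoImplicit false
open Cfsg

/-! The stabilizer of an octad is transitive on the octads disjoint from it. -/

namespace Cfsg.Agent.Lib.Helper9.M24

open scoped Pointwise
open Cfsg.Agent.Lib.Helper9.GolayG Cfsg.Agent.Lib.Helper9

/-- Given two disjoint octads there is an octad meeting the first in two and the second in four points. -/
theorem exists_two_four {O O' : Finset GolayPt} (hO : O ∈ octads) (hO' : O' ∈ octads)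
    (hdisj : Disjoint O O') : ∃ Q ∈ octads, (Q ∩ O).card = 2 ∧ (Q ∩ O').card = 4 := by
  have hOcard : O.card = 8 := octads_isOctadSystem.card_eq hO
  have hO'card : O'.card = 8 := octads_isOctadSystem.card_eq hO'
  obtain ⟨u, huO', hu3⟩ := Finset.exists_subset_card_eq (s := O') (n := 3) (by omega)
  obtain ⟨p, hp⟩ : O.Nonempty := by rw [← Finset.card_pos]; omega
  obtain ⟨q, hq⟩ : ∃ q, q ∉ O ∪ O' := by
    by_contra hcon
    push Not at hcon
    have h1 : O ∪ O' = Finset.univ := Finset.eq_univ_iff_forall.mpr hcon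
    have h2 := Finset.card_union_of_disjoint hdisj
    rw [h1, Finset.card_univ, golayCode_isAbsGolay.hcard] at h2
    omega
  rw [Finset.mem_union, not_or] at hq
  have hpO' : p ∉ O' := Finset.disjoint_left.mp hdisj hp
  have hpu : p ∉ u := fun h => hpO' (huO' h)
  have hqu : q ∉ u := fun h => hq.2 (huO' h)
  have hqp : q ≠ p := by rintro rfl; exact hq.1 hp
  have hcard5 : (insert q (insert p u)).card = 5 := by
    rw [Finset.card_insert_of_notMem, Finset.card_insert_of_notMem hpu, hu3]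
    rw [Finset.mem_insert, not_or]
    exact ⟨hqp, hqu⟩
  obtain ⟨Q, hQ, hsQ⟩ := octads_isOctadSystem.exists_block _ hcard5
  have hqQ : q ∈ Q := hsQ (Finset.mem_insert_self _ _)
  have hpQ : p ∈ Q := hsQ (Finset.mem_insert_of_mem (Finset.mem_insert_self _ _))
  have huQ : u ⊆ Q := fun x hx => hsQ (Finset.mem_insert_of_mem (Finset.mem_insert_of_mem hx))
  have hQcard : Q.card = 8 := octads_isOctadSystem.card_eq hQ
  have hQO' : Q ≠ O' := by rintro rfl; exact hpO' hpQ
  have hQO : Q ≠ O := by rintro rfl; exact hq.1 hqQ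
  have h4 : (Q ∩ O').card = 4 := by
    refine (octads_isOctadSystem.inter_of_three_le hQ hO' hQO' ?_).1
    rw [← hu3]
    apply Finset.card_le_card
    intro x hx
    rw [Finset.mem_inter]
    exact ⟨huQ hx, huO' hx⟩
  refine ⟨Q, hQ, ?_, h4⟩
  have hpos : 0 < (Q ∩ O).card := Finset.card_pos.mpr ⟨p, Finset.mem_inter.mpr ⟨hpQ, hp⟩⟩
  -- the three parts of `Q`
  have hsub : (Q ∩ O) ∪ ((Q ∩ O') ∪ {q}) ⊆ Q := by
    intro x hx
    rw [Finset.mem_union, Finset.mem_union, Finset.mem_singleton] at hx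
    rcases hx with hx | hx | rfl
    · exact (Finset.mem_inter.mp hx).1
    · exact (Finset.mem_inter.mp hx).1
    · exact hqQ
  have hd1 : Disjoint (Q ∩ O') {q} := by
    rw [Finset.disjoint_singleton_right]
    intro h
    exact hq.2 (Finset.mem_inter.mp h).2
  have hd2 : Disjoint (Q ∩ O) ((Q ∩ O') ∪ {q}) := by
    rw [Finset.disjoint_left]
    intro x hx hx'
    rw [Finset.mem_union, Finset.mem_singleton] at hx'
    rw [Finset.mem_inter] at hx
    rcases hx' with hx' | rfl
    · exact Finset.disjoint_left.mp hdisj hx.2 (Finset.mem_inter.mp hx').2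
    · exact hq.1 hx.2
  have hle := Finset.card_le_card hsub
  rw [Finset.card_union_of_disjoint hd2, Finset.card_union_of_disjoint hd1, h4, Finset.card_singleton,
    hQcard] at hle
  rcases octads_isOctadSystem.inter Q hQ O hO hQO with h | h | ⟨h, -⟩ <;> omega

/-- An octad disjoint from `O` is determined by its (four-point) intersection with an octad meeting `O` in two
points. -/
theorem disjoint_octad_unique {O O₂ X Y : Finset GolayPt} (hO : O ∈ octads) (hO₂ : O₂ ∈ octads)
    (hX : X ∈ octads) (hY : Y ∈ octads) (h2 : (O₂ ∩ O).card = 2) (hXO : Disjoint X O)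
    (hYO : Disjoint Y O) (hXY : X ∩ O₂ = Y ∩ O₂) (h4 : (X ∩ O₂).card = 4) : X = Y := by
  by_contra hne
  have h4' : 4 ≤ (X ∩ Y).card := by
    rw [← h4]
    apply Finset.card_le_card
    intro x hx
    have hx' := hx
    rw [hXY] at hx'
    rw [Finset.mem_inter] at hx hx' ⊢
    exact ⟨hx.1, hx'.1⟩
  obtain ⟨-, hZ⟩ := octads_isOctadSystem.inter_of_three_le hX hY hne (by omega)
  obtain ⟨Z, hZdef⟩ : ∃ Z : Finset GolayPt, Z = symmDiff X Y := ⟨_, rfl⟩
  rw [← hZdef] at hZ
  have hZO : Disjoint Z O := by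
    rw [Finset.disjoint_left]
    intro x hx hxO
    rw [hZdef, Finset.mem_symmDiff] at hx
    rcases hx with ⟨hx, -⟩ | ⟨hx, -⟩
    · exact Finset.disjoint_left.mp hXO hx hxO
    · exact Finset.disjoint_left.mp hYO hx hxO
  have hZO₂ : Disjoint Z O₂ := by
    rw [Finset.disjoint_left]
    intro x hx hxO₂
    rw [hZdef, Finset.mem_symmDiff] at hx
    rcases hx with ⟨hx, hxY⟩ | ⟨hx, hxX⟩
    · have : x ∈ X ∩ O₂ := Finset.mem_inter.mpr ⟨hx, hxO₂⟩
      rw [hXY] at this
      exact hxY (Finset.mem_inter.mp this).1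
    · have : x ∈ Y ∩ O₂ := Finset.mem_inter.mpr ⟨hx, hxO₂⟩
      rw [← hXY] at this
      exact hxX (Finset.mem_inter.mp this).1
  have hZcard : Z.card = 8 := octads_isOctadSystem.card_eq hZ
  have hOcard : O.card = 8 := octads_isOctadSystem.card_eq hO
  have hO₂card : O₂.card = 8 := octads_isOctadSystem.card_eq hO₂
  -- the third octad of the trio
  obtain ⟨W, hWdef⟩ : ∃ W : Finset GolayPt, W = (symmDiff Z O)ᶜ := ⟨_, rfl⟩
  have hsd : symmDiff Z O = Z ∪ O := by
    apply Finset.ext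
    intro x
    rw [Finset.mem_symmDiff, Finset.mem_union]
    constructor
    · rintro (⟨h, -⟩ | ⟨h, -⟩)
      · left; exact h
      · right; exact h
    · rintro (h | h)
      · left; exact ⟨h, fun hO' => Finset.disjoint_left.mp hZO h hO'⟩
      · right; exact ⟨h, fun hZ' => Finset.disjoint_left.mp hZO hZ' h⟩
  have hWcode : CodeSet W := by
    rw [hWdef]
    exact ((octad_codeSet hZ).symmDiff (octad_codeSet hO)).compl
  have hWcard : W.card = 8 := by
    rw [hWdef, Finset.card_compl, hsd, Finset.card_union_of_disjoint hZO, hZcard, hOcard,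
      golayCode_isAbsGolay.hcard]
  have hW : W ∈ octads := (mem_octads_iff W).mpr ⟨hWcode, hWcard⟩
  -- `O₂` meets `W` in six points
  have hsplit : O₂ = (O₂ ∩ O) ∪ (O₂ ∩ W) := by
    apply Finset.ext
    intro x
    rw [Finset.mem_union, Finset.mem_inter, Finset.mem_inter]
    constructor
    · intro hx
      by_cases hxO : x ∈ O
      · left; exact ⟨hx, hxO⟩
      · right
        refine ⟨hx, ?_⟩
        rw [hWdef, Finset.mem_compl, hsd, Finset.mem_union, not_or]
        exact ⟨fun hZ' => Finset.disjoint_left.mp hZO₂ hZ' hx, hxO⟩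
    · rintro (⟨h, -⟩ | ⟨h, -⟩) <;> exact h
  have hdisj : Disjoint (O₂ ∩ O) (O₂ ∩ W) := by
    rw [Finset.disjoint_left]
    intro x hx hx'
    rw [Finset.mem_inter] at hx hx'
    have := hx'.2
    rw [hWdef, Finset.mem_compl, hsd, Finset.mem_union, not_or] at this
    exact this.2 hx.2
  have hcard6 : (O₂ ∩ W).card = 6 := by
    have := congrArg Finset.card hsplit
    rw [Finset.card_union_of_disjoint hdisj, h2, hO₂card] at this
    omega
  by_cases hOW : O₂ = W
  · rw [hOW, Finset.inter_self, hWcard] at hcard6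
    omega
  · rcases octads_isOctadSystem.inter O₂ hO₂ W hW hOW with h | h | ⟨h, -⟩ <;> omega

/-- The joint stabilizer of two octads meeting in two points induces the full symmetric group on the six further
points of either: subsets version. -/
theorem exists_joint_map {O O₂ : Finset GolayPt} (hO : O ∈ octads) (hO₂ : O₂ ∈ octads)
    (h2 : (O₂ ∩ O).card = 2) {u₁ u₂ : Finset GolayPt} (hu₁ : u₁ ⊆ O₂ \ O) (hu₂ : u₂ ⊆ O₂ \ O)
    (hcard : u₁.card = u₂.card) :
    ∃ j ∈ M24, O.image j = O ∧ O₂.image j = O₂ ∧ u₁.image j = u₂ := by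
  classical
  have hc₁ : (u₁.subtype (· ∈ O₂ \ O)).card = u₁.card := by
    rw [Finset.card_subtype, Finset.filter_true_of_mem (fun x hx => hu₁ hx)]
  have hc₂ : (u₂.subtype (· ∈ O₂ \ O)).card = u₂.card := by
    rw [Finset.card_subtype, Finset.filter_true_of_mem (fun x hx => hu₂ hx)]
  obtain ⟨σ, hσ⟩ := Equiv.Perm.exists_map_finset_eq (u₁.subtype (· ∈ O₂ \ O)) (u₂.subtype (· ∈ O₂ \ O))
    (by rw [hc₁, hc₂, hcard])
  obtain ⟨g, hg⟩ := jointHom_surjective hO₂ hO h2 σ
  have hgJ := g.2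
  rw [Subgroup.mem_inf, mem_stabilizer_finset_iff, mem_stabilizer_finset_iff] at hgJ
  refine ⟨((g.1 : M24) : Equiv.Perm GolayPt), g.1.2, hgJ.2, hgJ.1, ?_⟩
  apply Finset.eq_of_subset_of_card_le
  · intro x hx
    rw [Finset.mem_image] at hx
    obtain ⟨p, hp, rfl⟩ := hx
    have h1 : ((jointHom O₂ O g ⟨p, hu₁ hp⟩ : ↥(O₂ \ O)) : GolayPt) =
        ((g.1 : M24) : Equiv.Perm GolayPt) p := rfl
    rw [← h1, hg]
    have h3 : σ ⟨p, hu₁ hp⟩ ∈ (u₁.subtype (· ∈ O₂ \ O)).map σ.toEmbedding := by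
      rw [Finset.mem_map]
      exact ⟨⟨p, hu₁ hp⟩, Finset.mem_subtype.mpr hp, rfl⟩
    rw [hσ, Finset.mem_subtype] at h3
    exact h3
  · rw [Finset.card_image_of_injective _ (Equiv.injective _), hcard]

/-- The stabilizer of an octad is transitive on the octads disjoint from it. -/
theorem stab_trans_zero {O O₁ O₂ : Finset GolayPt} (hO : O ∈ octads) (h₁ : O₁ ∈ octads)
    (h₂ : O₂ ∈ octads) (hd₁ : Disjoint O₁ O) (hd₂ : Disjoint O₂ O) :
    ∃ g ∈ M24, O.image g = O ∧ O₁.image g = O₂ := by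
  obtain ⟨Q₁, hQ₁, hQ₁O, hQ₁4⟩ := exists_two_four hO h₁ hd₁.symm
  obtain ⟨Q₂, hQ₂, hQ₂O, hQ₂4⟩ := exists_two_four hO h₂ hd₂.symm
  obtain ⟨g, hg, hgO, hgQ⟩ := stab_trans_two hO hQ₁ hQ₂ hQ₁O hQ₂O
  -- the image of `O₁`
  have hX : O₁.image g ∈ octads := image_mem_octads hg h₁
  have hXO : Disjoint (O₁.image g) O := by
    rw [Finset.disjoint_iff_inter_eq_empty, image_inter_of_stab hgO,
      Finset.disjoint_iff_inter_eq_empty.mp hd₁, Finset.image_empty]
  have hXQ : ((O₁.image g) ∩ Q₂).card = 4 := by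
    rw [← hgQ, ← Finset.image_inter _ _ g.injective, Finset.card_image_of_injective _ g.injective,
      Finset.inter_comm]
    exact hQ₁4
  have hsub : ∀ {X : Finset GolayPt}, Disjoint X O → X ∩ Q₂ ⊆ Q₂ \ O := by
    intro X hX x hx
    rw [Finset.mem_inter] at hx
    rw [Finset.mem_sdiff]
    exact ⟨hx.2, fun h => Finset.disjoint_left.mp hX hx.1 h⟩
  obtain ⟨j, hj, hjO, hjQ, hju⟩ := exists_joint_map hO hQ₂ hQ₂O (hsub hXO) (hsub hd₂)
    (by rw [hXQ, Finset.inter_comm, hQ₂4])
  refine ⟨j * g, Subgroup.mul_mem _ hj hg, ?_, ?_⟩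
  · rw [image_mul, hgO, hjO]
  · rw [image_mul]
    have hY : (O₁.image g).image j ∈ octads := image_mem_octads hj hX
    have hYO : Disjoint ((O₁.image g).image j) O := by
      rw [Finset.disjoint_iff_inter_eq_empty, image_inter_of_stab hjO,
        Finset.disjoint_iff_inter_eq_empty.mp hXO, Finset.image_empty]
    have hYQ : ((O₁.image g).image j) ∩ Q₂ = O₂ ∩ Q₂ := by
      rw [image_inter_of_stab hjQ, hju]
    exact disjoint_octad_unique hO hQ₂ hY h₂ hQ₂O hYO hd₂ hYQ
      (by rw [hYQ, Finset.inter_comm]; exact hQ₂4)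

end Cfsg.Agent.Lib.Helper9.M24
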