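import Mathlib
import Cfsg.Prelude.Def_Sporadic_a
import Cfsg.Agent.Lib.Helper9.M24U

set_option autoImplicit false
open Cfsg

/-! Orders of the joint stabilizers of two octads. -/

namespace Cfsg.Agent.Lib.Helper9.M24

open scoped Pointwise
open Cfsg.Agent.Lib.Helper9.GolayG Cfsg.Agent.Lib.Helper9

/-- Orbit-stabilizer inside the stabilizer of an octad. -/
theorem card_jointStab_mul {O O' : Finset GolayPt} (hO : O ∈ octads) (hO' : O' ∈ octads)
    (htrans : ∀ o ∈ octads, (o ∩ O).card = (O' ∩ O).card → ∃ g ∈ M24, O.image g = O ∧ O'.image g = o) :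
    ((blocksFinset octads).filter (fun o => (o ∩ O).card = (O' ∩ O).card)).card *
      Nat.card ↥(MulAction.stabilizer M24 O ⊓ MulAction.stabilizer M24 O') = 322560 := by
  have horb : MulAction.orbit (MulAction.stabilizer M24 O) O' =
      (((blocksFinset octads).filter (fun o => (o ∩ O).card = (O' ∩ O).card) : Finset (Finset GolayPt)) :
        Set (Finset GolayPt)) := by
    apply Set.ext
    intro o
    rw [Finset.mem_coe, Finset.mem_filter, mem_blocksFinset]
    constructor
    · rintro ⟨g, rfl⟩
      have hgO : O.image ((g.1 : M24) : Equiv.Perm GolayPt) = O :=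
        (mem_stabilizer_finset_iff g.1 O).mp g.2
      refine ⟨image_mem_octads g.1.2 hO', ?_⟩
      show ((O'.image ((g.1 : M24) : Equiv.Perm GolayPt)) ∩ O).card = _
      rw [image_inter_of_stab hgO, Finset.card_image_of_injective _ (Equiv.injective _)]
    · rintro ⟨ho, hcard⟩
      obtain ⟨g, hg, hgO, hgO'⟩ := htrans o ho hcard
      exact ⟨⟨⟨g, hg⟩, (mem_stabilizer_finset_iff _ O).mpr hgO⟩, hgO'⟩
  have h1 : Nat.card (MulAction.orbit (MulAction.stabilizer M24 O) O') =
      ((blocksFinset octads).filter (fun o => (o ∩ O).card = (O' ∩ O).card)).card := by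
    rw [horb, Nat.card_coe_set_eq, Set.ncard_coe_finset]
  have h2 : Nat.card (MulAction.stabilizer (MulAction.stabilizer M24 O) O') =
      Nat.card ↥(MulAction.stabilizer M24 O ⊓ MulAction.stabilizer M24 O') := by
    refine Nat.card_congr
      { toFun := fun g => ⟨g.1.1, Subgroup.mem_inf.mpr ⟨g.1.2, ?_⟩⟩
        invFun := fun g => ⟨⟨g.1, (Subgroup.mem_inf.mp g.2).1⟩, ?_⟩
        left_inv := fun g => rfl
        right_inv := fun g => rfl }
    · rw [MulAction.mem_stabilizer_iff]
      exact g.2
    · rw [MulAction.mem_stabilizer_iff]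
      exact (Subgroup.mem_inf.mp g.2).2
  have h := Nat.card_congr (MulAction.orbitProdStabilizerEquivGroup (MulAction.stabilizer M24 O) O')
  rw [Nat.card_prod, h1, h2, card_stabilizer_octad hO] at h
  exact h

theorem card_jointStab_zero {O O' : Finset GolayPt} (hO : O ∈ octads) (hO' : O' ∈ octads)
    (h0 : (O ∩ O').card = 0) :
    Nat.card ↥(MulAction.stabilizer M24 O ⊓ MulAction.stabilizer M24 O') = 10752 := by
  have h0' : (O' ∩ O).card = 0 := by rw [Finset.inter_comm]; exact h0
  have h := card_jointStab_mul hO hO' ?_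
  · rw [h0', (octad_octad_counts hO).1] at h
    omega
  · intro o ho hcard
    rw [h0'] at hcard
    apply stab_trans_zero hO hO' ho
    · rw [Finset.disjoint_iff_inter_eq_empty, ← Finset.card_eq_zero]; exact h0'
    · rw [Finset.disjoint_iff_inter_eq_empty, ← Finset.card_eq_zero]; exact hcard

theorem card_jointStab_four {O O' : Finset GolayPt} (hO : O ∈ octads) (hO' : O' ∈ octads)
    (h4 : (O ∩ O').card = 4) :
    Nat.card ↥(MulAction.stabilizer M24 O ⊓ MulAction.stabilizer M24 O') = 1152 := by
  have h4' : (O' ∩ O).card = 4 := by rw [Finset.inter_comm]; exact h4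
  have h := card_jointStab_mul hO hO' ?_
  · rw [h4', (octad_octad_counts hO).2.2.1] at h
    omega
  · intro o ho hcard
    rw [h4'] at hcard
    exact stab_trans_four hO hO' ho h4' hcard

end Cfsg.Agent.Lib.Helper9.M24
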