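import Mathlib
import Cfsg.Prelude.Def_Sporadic_a
import Cfsg.Prelude.Def_SporadicCombinatorics
import Cfsg.Agent.Lib.Helper9.M24V

set_option autoImplicit false
open Cfsg

/-! Dodecads as symmetric differences of two octads meeting in two points; the stabilizer of a dodecad. -/

namespace Cfsg.Agent.Lib.Helper9.M24

open scoped Pointwise
open Cfsg.Agent.Lib.Helper9.GolayG Cfsg.Agent.Lib.Helper9

theorem dodecad_image {d : Finset GolayPt} (hd : d ∈ dodecads) {g : Equiv.Perm GolayPt} (hg : g ∈ M24) :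
    d.image g ∈ dodecads := by
  rw [mem_dodecads_iff] at hd ⊢
  exact ⟨hd.1.image hg, by rw [Finset.card_image_of_injective _ g.injective, hd.2]⟩

/-- An octad meeting a dodecad in six points: their symmetric difference is an octad. -/
theorem dodecad_octad_pair {d o : Finset GolayPt} (hd : d ∈ dodecads) (ho : o ∈ octads)
    (h6 : (o ∩ d).card = 6) :
    symmDiff o d ∈ octads ∧ (o ∩ symmDiff o d).card = 2 ∧ symmDiff o (symmDiff o d) = d ∧
      o \ symmDiff o d = o ∩ d ∧ symmDiff o d \ o = d \ o ∧ o ∩ symmDiff o d = o \ d := by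
  have hdc := (mem_dodecads_iff d).mp hd
  have hoc := (mem_octads_iff o).mp ho
  have hcard : (symmDiff o d).card = 8 := by
    have := card_symmDiff_eq o d
    omega
  have hinter : o ∩ symmDiff o d = o \ d := by
    apply Finset.ext
    intro x
    simp only [Finset.mem_inter, Finset.mem_symmDiff, Finset.mem_sdiff]
    tauto
  refine ⟨(mem_octads_iff _).mpr ⟨hoc.1.symmDiff hdc.1, hcard⟩, ?_, symmDiff_symmDiff_cancel_left o d,
    ?_, ?_, hinter⟩
  · rw [hinter]
    have := Finset.card_sdiff_add_card_inter o d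
    omega
  · apply Finset.ext
    intro x
    simp only [Finset.mem_inter, Finset.mem_symmDiff, Finset.mem_sdiff]
    tauto
  · apply Finset.ext
    intro x
    simp only [Finset.mem_symmDiff, Finset.mem_sdiff]
    tauto

/-- The octad through five points of a dodecad meets it in six points. -/
theorem exists_octad_six {d s : Finset GolayPt} (hd : d ∈ dodecads) (hs : s ⊆ d) (h5 : s.card = 5) :
    ∃ o ∈ octads, s ⊆ o ∧ (o ∩ d).card = 6 := by
  obtain ⟨o, ho, hso⟩ := octads_isOctadSystem.exists_block s h5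
  refine ⟨o, ho, hso, ?_⟩
  have hdc := (mem_dodecads_iff d).mp hd
  have h1 : 5 ≤ (o ∩ d).card := by
    rw [← h5]
    apply Finset.card_le_card
    intro x hx
    rw [Finset.mem_inter]
    exact ⟨hso hx, hs hx⟩
  rcases hdc.1.inter_octad_ne hdc.2 ho with h | h | h <;> omega

/-- The joint stabilizer of a dodecad and a hexad on it is the joint stabilizer of two octads. -/
theorem stab_dodecad_hexad_eq {d o : Finset GolayPt} (hd : d ∈ dodecads) (ho : o ∈ octads)
    (h6 : (o ∩ d).card = 6) :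
    MulAction.stabilizer M24 d ⊓ MulAction.stabilizer M24 (o ∩ d) =
      MulAction.stabilizer M24 o ⊓ MulAction.stabilizer M24 (symmDiff o d) := by
  obtain ⟨ho', h2, hsd, hsdiff, -, -⟩ := dodecad_octad_pair hd ho h6
  apply le_antisymm
  · intro g hg
    rw [Subgroup.mem_inf, mem_stabilizer_finset_iff, mem_stabilizer_finset_iff] at hg ⊢
    have hgo : o.image ((g : M24) : Equiv.Perm GolayPt) = o := by
      apply octad_image_eq_of_maps g.2 ho (s := o ∩ d) Finset.inter_subset_left (by omega)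
      intro p hp
      have := mem_of_image_eq hg.2 hp
      exact (Finset.mem_inter.mp this).1
    refine ⟨hgo, ?_⟩
    rw [Finset.image_symmDiff _ _ (Equiv.injective _), hgo, hg.1]
  · intro g hg
    rw [Subgroup.mem_inf, mem_stabilizer_finset_iff, mem_stabilizer_finset_iff] at hg ⊢
    constructor
    · have : d.image ((g : M24) : Equiv.Perm GolayPt) =
          (symmDiff o (symmDiff o d)).image ((g : M24) : Equiv.Perm GolayPt) := by rw [hsd]
      rw [this, Finset.image_symmDiff _ _ (Equiv.injective _), hg.1, hg.2, hsd]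
    · rw [← hsdiff, Finset.image_sdiff _ _ (Equiv.injective _), hg.1, hg.2]

/-- The elements of `M24` fixing five points act transitively on the dodecads through these points. -/
theorem dodecad_fix5_trans {d₁ d₂ s : Finset GolayPt} (hd₁ : d₁ ∈ dodecads) (hd₂ : d₂ ∈ dodecads)
    (hs₁ : s ⊆ d₁) (hs₂ : s ⊆ d₂) (h5 : s.card = 5) :
    ∃ f ∈ M24, (∀ p ∈ s, f p = p) ∧ d₁.image f = d₂ := by
  obtain ⟨o, ho, hso, h6₁⟩ := exists_octad_six hd₁ hs₁ h5
  have h6₂ : (o ∩ d₂).card = 6 := by
    have hdc := (mem_dodecads_iff d₂).mp hd₂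
    have h1 : 5 ≤ (o ∩ d₂).card := by
      rw [← h5]
      apply Finset.card_le_card
      intro x hx
      rw [Finset.mem_inter]
      exact ⟨hso hx, hs₂ hx⟩
    rcases hdc.1.inter_octad_ne hdc.2 ho with h | h | h <;> omega
  -- the sixth points
  have hex : ∀ {d : Finset GolayPt}, s ⊆ d → (o ∩ d).card = 6 → ∃ z, z ∈ o ∧ z ∉ s ∧ o ∩ d = insert z s := by
    intro d hsd h6
    have hsub : s ⊆ o ∩ d := fun x hx => Finset.mem_inter.mpr ⟨hso hx, hsd hx⟩
    obtain ⟨z, hz, hzs⟩ : ∃ z ∈ o ∩ d, z ∉ s := by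
      by_contra hcon
      push Not at hcon
      have := Finset.card_le_card (show o ∩ d ⊆ s from hcon)
      omega
    refine ⟨z, (Finset.mem_inter.mp hz).1, hzs, ?_⟩
    symm
    apply Finset.eq_of_subset_of_card_le
    · intro x hx
      rw [Finset.mem_insert] at hx
      rcases hx with rfl | hx
      · exact hz
      · exact hsub hx
    · rw [Finset.card_insert_of_notMem hzs, h5, h6]
  obtain ⟨z₁, hz₁o, hz₁s, hz₁⟩ := hex hs₁ h6₁
  obtain ⟨z₂, hz₂o, hz₂s, hz₂⟩ := hex hs₂ h6₂
  obtain ⟨f₁, hf₁, hf₁fix, hf₁z⟩ := exists_fix5_move ho hso h5 hz₁o hz₁s hz₂o hz₂s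
  have hf₁o : o.image f₁ = o := octad_image_eq_of_fix hf₁ ho hso (by omega) hf₁fix
  have hd₁' : d₁.image f₁ ∈ dodecads := dodecad_image hd₁ hf₁
  have hinter : o ∩ d₁.image f₁ = o ∩ d₂ := by
    rw [Finset.inter_comm, image_inter_of_stab hf₁o, Finset.inter_comm d₁ o, hz₁, hz₂, Finset.image_insert,
      hf₁z, image_id_of_fix hf₁fix]
  have h6₁' : (o ∩ d₁.image f₁).card = 6 := by rw [hinter]; exact h6₂
  obtain ⟨ho₁', h2₁, hsd₁, -, -, hi₁⟩ := dodecad_octad_pair hd₁' ho h6₁'
  obtain ⟨ho₂', h2₂, hsd₂, -, -, hi₂⟩ := dodecad_octad_pair hd₂ ho h6₂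
  have hP : symmDiff o (d₁.image f₁) ∩ o = symmDiff o d₂ ∩ o := by
    rw [Finset.inter_comm, hi₁, Finset.inter_comm _ o, hi₂]
    -- `o \ d = o \ (o ∩ d)`
    have h1 : ∀ d : Finset GolayPt, o \ d = o \ (o ∩ d) := by
      intro d
      apply Finset.ext
      intro x
      simp only [Finset.mem_sdiff, Finset.mem_inter]
      tauto
    rw [h1 (d₁.image f₁), h1 d₂, hinter]
  obtain ⟨h, hh, hho⟩ := KO_trans_on_pair_octads ho ho₁' ho₂' hP (by rw [Finset.inter_comm]; exact h2₁)
  have hhfix := ((mem_KO_iff o h).mp hh).2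
  have hhM := ((mem_KO_iff o h).mp hh).1
  refine ⟨h * f₁, Subgroup.mul_mem _ hhM hf₁, ?_, ?_⟩
  · intro p hp
    rw [Equiv.Perm.mul_apply, hf₁fix p hp]
    exact hhfix p (hso hp)
  · rw [image_mul]
    have : (d₁.image f₁).image h = (symmDiff o (symmDiff o (d₁.image f₁))).image h := by rw [hsd₁]
    rw [this, Finset.image_symmDiff _ _ h.injective, image_id_of_fix hhfix, hho, hsd₂]

/-- Elements of `M24` stabilizing a dodecad, fixing at most four of its points and moving a further point of the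
dodecad to any other. -/
theorem exists_dodecad_stab_move {d s : Finset GolayPt} (hd : d ∈ dodecads) (hs : s ⊆ d) (h4 : s.card ≤ 4)
    {a b : GolayPt} (ha : a ∈ d) (has : a ∉ s) (hb : b ∈ d) (hbs : b ∉ s) :
    ∃ g ∈ M24, d.image g = d ∧ (∀ p ∈ s, g p = p) ∧ g a = b := by
  have hdcard : d.card = 12 := ((mem_dodecads_iff d).mp hd).2
  have hsub : s ⊆ (d.erase a).erase b := by
    intro x hx
    rw [Finset.mem_erase, Finset.mem_erase]
    refine ⟨?_, ?_, hs hx⟩
    · rintro rfl; exact hbs hx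
    · rintro rfl; exact has hx
  have hcard : 4 ≤ ((d.erase a).erase b).card := by
    have h1 : (d.erase a).card = 11 := by rw [Finset.card_erase_of_mem ha, hdcard]
    have h2 := Finset.pred_card_le_card_erase (s := d.erase a) (a := b)
    omega
  obtain ⟨s', hss', hs'sub, hs'card⟩ := Finset.exists_subsuperset_card_eq hsub h4 hcard
  have has' : a ∉ s' := by
    intro h
    have := hs'sub h
    rw [Finset.mem_erase, Finset.mem_erase] at this
    exact this.2.1 rfl
  have hbs' : b ∉ s' := by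
    intro h
    have := hs'sub h
    rw [Finset.mem_erase] at this
    exact this.1 rfl
  have hs'd : s' ⊆ d := by
    intro x hx
    have := hs'sub hx
    rw [Finset.mem_erase, Finset.mem_erase] at this
    exact this.2.2
  obtain ⟨g₀, hg₀, hg₀fix, hg₀ab⟩ := exists_fix_move s' (by omega) has' hbs'
  -- the five points `insert b s'` lie in both `d` and its image
  have h5 : (insert b s').card = 5 := by rw [Finset.card_insert_of_notMem hbs', hs'card]
  have hsub₁ : insert b s' ⊆ d.image g₀ := by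
    intro x hx
    rw [Finset.mem_insert] at hx
    rw [Finset.mem_image]
    rcases hx with rfl | hx
    · exact ⟨a, ha, hg₀ab⟩
    · exact ⟨x, hs'd hx, hg₀fix x hx⟩
  have hsub₂ : insert b s' ⊆ d := by
    intro x hx
    rw [Finset.mem_insert] at hx
    rcases hx with rfl | hx
    · exact hb
    · exact hs'd hx
  obtain ⟨f, hf, hffix, hfd⟩ := dodecad_fix5_trans (dodecad_image hd hg₀) hd hsub₁ hsub₂ h5
  refine ⟨f * g₀, Subgroup.mul_mem _ hf hg₀, ?_, ?_, ?_⟩
  · rw [image_mul, hfd]
  · intro p hp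
    rw [Equiv.Perm.mul_apply, hg₀fix p (hss' hp)]
    exact hffix p (Finset.mem_insert_of_mem (hss' hp))
  · rw [Equiv.Perm.mul_apply, hg₀ab]
    exact hffix b (Finset.mem_insert_self _ _)

end Cfsg.Agent.Lib.Helper9.M24
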