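import Mathlib
import Cfsg.Prelude.Def_Sporadic_a
import Cfsg.Agent.Lib.Helper9.M24W
import Cfsg.Agent.Lib.Helper9.M24M

set_option autoImplicit false
open Cfsg

/-! The stabilizer of a code word fixes no nonzero coset of the code. -/

namespace Cfsg.Agent.Lib.Helper9.M24

open scoped Pointwise
open Cfsg.Agent.Lib.Helper9.GolayG Cfsg.Agent.Lib.Helper9

theorem image_compl_perm (σ : Equiv.Perm GolayPt) (s : Finset GolayPt) : (sᶜ).image σ = (s.image σ)ᶜ := by
  rw [Finset.compl_eq_univ_sdiff, Finset.compl_eq_univ_sdiff, Finset.image_sdiff _ _ σ.injective,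
    Finset.image_univ_of_surjective σ.surjective]

theorem CodeSet.not_of_card_lt {s : Finset GolayPt} (h0 : 0 < s.card) (h8 : s.card < 8) : ¬ CodeSet s := by
  intro h
  rcases h.card with h' | h' | h' | h' | h' <;> omega

/-- A set of at most four points moved to a different set, meeting the original one if it has four points. -/
theorem not_code_of_move {T : Finset GolayPt} {σ : Equiv.Perm GolayPt} (hT4 : T.card ≤ 4)
    (hne : T.image σ ≠ T) (hmeet : T.card = 4 → ((T.image σ) ∩ T).Nonempty) :
    ¬ CodeSet (symmDiff (T.image σ) T) := by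
  have hc : (T.image σ).card = T.card := Finset.card_image_of_injective _ σ.injective
  have h1 := card_symmDiff_eq (T.image σ) T
  rw [hc] at h1
  have hpos : 0 < (symmDiff (T.image σ) T).card := by
    rw [Finset.card_pos, Finset.nonempty_iff_ne_empty]
    intro h
    exact hne (symmDiff_eq_bot.mp h)
  apply CodeSet.not_of_card_lt hpos
  by_cases h4 : T.card = 4
  · have := Finset.card_pos.mpr (hmeet h4)
    omega
  · omega

/-- Moving a set of at most four points meeting an octad by an element of the stabilizer of the octad. -/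
theorem stab_octad_move_set {O : Finset GolayPt} (hO : O ∈ octads) {T : Finset GolayPt} (hT4 : T.card ≤ 4)
    {x : GolayPt} (hxT : x ∈ T) (hxO : x ∈ O) :
    ∃ σ ∈ M24, O.image σ = O ∧ T.image σ ≠ T ∧ (2 ≤ T.card → ((T.image σ) ∩ T).Nonempty) := by
  have hOcard : O.card = 8 := octads_isOctadSystem.card_eq hO
  obtain ⟨y, hyO, hyT⟩ : ∃ y ∈ O, y ∉ T := by
    by_contra hcon
    push Not at hcon
    have := Finset.card_le_card (show O ⊆ T from hcon)
    omega
  obtain ⟨s, hsdef⟩ : ∃ s : Finset GolayPt, s = (T ∩ O).erase x := ⟨_, rfl⟩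
  have hsO : s ⊆ O := by
    intro p hp
    rw [hsdef] at hp
    exact (Finset.mem_inter.mp (Finset.mem_of_mem_erase hp)).2
  have hsT : s ⊆ T := by
    intro p hp
    rw [hsdef] at hp
    exact (Finset.mem_inter.mp (Finset.mem_of_mem_erase hp)).1
  have hs3 : s.card ≤ 4 := by
    have h1 : s.card ≤ (T ∩ O).card := by rw [hsdef]; exact Finset.card_erase_le
    have h2 : (T ∩ O).card ≤ T.card := Finset.card_le_card Finset.inter_subset_left
    omega
  have hxs : x ∉ s := by rw [hsdef]; exact Finset.notMem_erase _ _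
  have hys : y ∉ s := fun h => hyT (hsT h)
  obtain ⟨σ₁, hσ₁, hσ₁O, hσ₁fix, hσ₁x⟩ := exists_stab_move hO hsO hs3 hxO hxs hyO hys
  by_cases hout : ∃ c ∈ T, c ∉ O
  · obtain ⟨c, hcT, hcO⟩ := hout
    have hc' : σ₁ c ∉ O := not_mem_of_image_eq hσ₁O hcO
    obtain ⟨k, hk, hkc⟩ := KO_exists hO hc' hcO
    have hkfix := ((mem_KO_iff O k).mp hk).2
    have hkM := ((mem_KO_iff O k).mp hk).1
    refine ⟨k * σ₁, Subgroup.mul_mem _ hkM hσ₁, ?_, ?_, ?_⟩
    · rw [image_mul, hσ₁O, image_id_of_fix hkfix]
    · intro h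
      apply hyT
      rw [← h, Finset.mem_image]
      refine ⟨x, hxT, ?_⟩
      rw [Equiv.Perm.mul_apply, hσ₁x]
      exact hkfix y hyO
    · intro _
      refine ⟨c, ?_⟩
      rw [Finset.mem_inter, Finset.mem_image]
      refine ⟨⟨c, hcT, ?_⟩, hcT⟩
      rw [Equiv.Perm.mul_apply]
      exact hkc
  · push Not at hout
    refine ⟨σ₁, hσ₁, hσ₁O, ?_, ?_⟩
    · intro h
      apply hyT
      rw [← h, Finset.mem_image]
      exact ⟨x, hxT, hσ₁x⟩
    · intro h2
      have hTO : T ∩ O = T := Finset.inter_eq_left.mpr hout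
      have hscard : 0 < s.card := by
        rw [hsdef, hTO, Finset.card_erase_of_mem hxT]
        omega
      obtain ⟨p, hp⟩ := Finset.card_pos.mp hscard
      refine ⟨p, ?_⟩
      rw [Finset.mem_inter, Finset.mem_image]
      exact ⟨⟨p, hsT hp, hσ₁fix p hp⟩, hsT hp⟩

/-- Through every point there is a tetrad congruent to a given tetrad modulo the code. -/
theorem exists_tetrad_through {L : Finset GolayPt} (hL : L.card = 4) (p : GolayPt) :
    ∃ T : Finset GolayPt, T.card = 4 ∧ p ∈ T ∧ CodeSet (symmDiff T L) := by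
  have hC := golayCode_isAbsGolay
  have h6 : (cosetT4 golayCode (indW L)).card = 6 := by
    rcases coset_dichotomy hC (indW L) with ⟨h3, h4⟩ | ⟨h3, h4⟩
    · exfalso
      rw [Finset.card_eq_zero] at h4
      have hmem : indW L ∈ cosetT4 golayCode (indW L) := by
        rw [mem_cosetT4, hammingNorm_indW, sub_self]
        exact ⟨hL, golayCode.zero_mem⟩
      rw [h4] at hmem
      exact absurd hmem (Finset.notMem_empty _)
    · exact h4
  obtain ⟨u, hu, hpu⟩ := cosetT4_cover hC h6 p
  rw [mem_cosetT4] at hu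
  refine ⟨support₂ u, by rw [← hammingNorm_eq_card_support₂]; exact hu.1, hpu, ?_⟩
  unfold CodeSet
  rw [indW_symmDiff, indW_support₂, ← sub_eq_add_word]
  exact hu.2

/-- Transfer along a congruence modulo the code. -/
theorem codeSet_move_transfer {σ : Equiv.Perm GolayPt} (hσ : σ ∈ M24) {L T : Finset GolayPt}
    (hTL : CodeSet (symmDiff T L)) (h : CodeSet (symmDiff (L.image σ) L)) :
    CodeSet (symmDiff (T.image σ) T) := by
  unfold CodeSet at *
  rw [indW_symmDiff] at hTL h ⊢
  have h1 : permAct σ (indW T + indW L) ∈ golayCode := permAct_mem_code hσ hTL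
  rw [permAct_add, permAct_indW, permAct_indW] at h1
  have h2 : indW (T.image σ) + indW T =
      (indW (T.image σ) + indW (L.image σ)) + (indW (L.image σ) + indW L) + (indW T + indW L) := by
    have e1 : ∀ a b c d : GolayPt → ZMod 2, (a + b) + (b + c) + (d + c) = a + d + ((b + b) + (c + c)) := by
      intro a b c d; abel
    rw [e1, add_self_word, add_self_word, add_zero, add_zero]
  rw [h2]
  exact golayCode.add_mem (golayCode.add_mem h1 h) hTL

/-- The stabilizer of an octad moves every nonzero coset of the code. -/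
theorem exists_stab_octad_not_code {O : Finset GolayPt} (hO : O ∈ octads) {L : Finset GolayPt}
    (hL0 : L.Nonempty) (hL4 : L.card ≤ 4) :
    ∃ σ ∈ M24, O.image σ = O ∧ ¬ CodeSet (symmDiff (L.image σ) L) := by
  have hOcard : O.card = 8 := octads_isOctadSystem.card_eq hO
  by_cases hLO : (L ∩ O).Nonempty
  · obtain ⟨x, hx⟩ := hLO
    rw [Finset.mem_inter] at hx
    obtain ⟨σ, hσ, hσO, hne, hmeet⟩ := stab_octad_move_set hO hL4 hx.1 hx.2
    exact ⟨σ, hσ, hσO, not_code_of_move hL4 hne (fun h4 => hmeet (by omega))⟩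
  · rw [Finset.not_nonempty_iff_eq_empty] at hLO
    have hLout : ∀ a ∈ L, a ∉ O := by
      intro a ha haO
      have : a ∈ L ∩ O := Finset.mem_inter.mpr ⟨ha, haO⟩
      rw [hLO] at this
      exact Finset.notMem_empty _ this
    by_cases h4 : L.card = 4
    · obtain ⟨p, hp⟩ : O.Nonempty := by rw [← Finset.card_pos]; omega
      obtain ⟨T, hT4, hpT, hTL⟩ := exists_tetrad_through h4 p
      obtain ⟨σ, hσ, hσO, hne, hmeet⟩ := stab_octad_move_set hO (by omega) hpT hp
      refine ⟨σ, hσ, hσO, ?_⟩
      intro hcode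
      exact not_code_of_move (by omega) hne (fun _ => hmeet (by omega)) (codeSet_move_transfer hσ hTL hcode)
    · obtain ⟨a, ha⟩ := hL0
      obtain ⟨b, hb⟩ : ∃ b, b ∉ L ∪ O := by
        by_contra hcon
        push Not at hcon
        have h1 : L ∪ O = Finset.univ := Finset.eq_univ_iff_forall.mpr hcon
        have h2 := Finset.card_union_le L O
        rw [h1, Finset.card_univ, golayCode_isAbsGolay.hcard] at h2
        omega
      rw [Finset.mem_union, not_or] at hb
      obtain ⟨k, hk, hka⟩ := KO_exists hO (hLout a ha) hb.2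
      have hkfix := ((mem_KO_iff O k).mp hk).2
      have hkM := ((mem_KO_iff O k).mp hk).1
      refine ⟨k, hkM, image_id_of_fix hkfix, ?_⟩
      apply not_code_of_move hL4
      · intro h
        apply hb.1
        rw [← h, Finset.mem_image]
        exact ⟨a, ha, hka⟩
      · intro h
        exact absurd h h4

/-- The stabilizer of a dodecad moves every nonzero coset of the code. -/
theorem exists_stab_dodecad_not_code {d : Finset GolayPt} (hd : d ∈ dodecads) {L : Finset GolayPt}
    (hL0 : L.Nonempty) (hL4 : L.card ≤ 4) :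
    ∃ σ ∈ M24, d.image σ = d ∧ ¬ CodeSet (symmDiff (L.image σ) L) := by
  -- the complementary dodecad
  have hdc := (mem_dodecads_iff d).mp hd
  have hd' : dᶜ ∈ dodecads := by
    rw [mem_dodecads_iff]
    refine ⟨hdc.1.compl, ?_⟩
    rw [Finset.card_compl, hdc.2, golayCode_isAbsGolay.hcard]
  -- a general step for a dodecad `D` containing at least half of `L`
  have key : ∀ D : Finset GolayPt, D ∈ dodecads → L.card ≤ 2 * (L ∩ D).card →
      ∃ σ ∈ M24, D.image σ = D ∧ ¬ CodeSet (symmDiff (L.image σ) L) := by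
    intro D hD hhalf
    have hDcard : D.card = 12 := ((mem_dodecads_iff D).mp hD).2
    have hLpos : 0 < L.card := Finset.card_pos.mpr hL0
    obtain ⟨a, ha⟩ : (L ∩ D).Nonempty := by rw [← Finset.card_pos]; omega
    rw [Finset.mem_inter] at ha
    obtain ⟨b, hbD, hbL⟩ : ∃ b ∈ D, b ∉ L := by
      by_contra hcon
      push Not at hcon
      have := Finset.card_le_card (show D ⊆ L from hcon)
      omega
    obtain ⟨s, hsdef⟩ : ∃ s : Finset GolayPt, s = (L ∩ D).erase a := ⟨_, rfl⟩
    have hsD : s ⊆ D := by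
      intro p hp
      rw [hsdef] at hp
      exact (Finset.mem_inter.mp (Finset.mem_of_mem_erase hp)).2
    have hsL : s ⊆ L := by
      intro p hp
      rw [hsdef] at hp
      exact (Finset.mem_inter.mp (Finset.mem_of_mem_erase hp)).1
    have hs4 : s.card ≤ 4 := by
      have h1 : s.card ≤ (L ∩ D).card := by rw [hsdef]; exact Finset.card_erase_le
      have h2 : (L ∩ D).card ≤ L.card := Finset.card_le_card Finset.inter_subset_left
      omega
    have has : a ∉ s := by rw [hsdef]; exact Finset.notMem_erase _ _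
    have hbs : b ∉ s := fun h => hbL (hsL h)
    obtain ⟨σ, hσ, hσD, hσfix, hσa⟩ := exists_dodecad_stab_move hD hsD hs4 ha.2 has hbD hbs
    refine ⟨σ, hσ, hσD, ?_⟩
    apply not_code_of_move hL4
    · intro h
      apply hbL
      rw [← h, Finset.mem_image]
      exact ⟨a, ha.1, hσa⟩
    · intro h4
      have hscard : 0 < s.card := by
        rw [hsdef, Finset.card_erase_of_mem (Finset.mem_inter.mpr ha)]
        omega
      obtain ⟨p, hp⟩ := Finset.card_pos.mp hscard
      refine ⟨p, ?_⟩
      rw [Finset.mem_inter, Finset.mem_image]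
      exact ⟨⟨p, hsL hp, hσfix p hp⟩, hsL hp⟩
  have hsplit : (L ∩ d).card + (L ∩ dᶜ).card = L.card := by
    rw [← Finset.card_union_of_disjoint]
    · congr 1
      apply Finset.ext
      intro x
      simp only [Finset.mem_union, Finset.mem_inter, Finset.mem_compl]
      tauto
    · rw [Finset.disjoint_left]
      intro x hx hx'
      rw [Finset.mem_inter] at hx hx'
      exact (Finset.mem_compl.mp hx'.2) hx.2
  by_cases hhalf : L.card ≤ 2 * (L ∩ d).card
  · exact key d hd hhalf
  · obtain ⟨σ, hσ, hσD, hnot⟩ := key dᶜ hd' (by omega)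
    refine ⟨σ, hσ, ?_, hnot⟩
    have h1 : (dᶜ.image σ)ᶜ = dᶜᶜ := by rw [hσD]
    rw [compl_compl, image_compl_perm, compl_compl] at h1
    exact h1

/-- For a code set `U` and a nonempty set `L` of at most four points, some element of `M24` stabilizing `U` moves
`L` to a set not congruent to `L` modulo the code. -/
theorem exists_move_not_code {U : Finset GolayPt} (hU : CodeSet U) {L : Finset GolayPt}
    (hL0 : L.Nonempty) (hL4 : L.card ≤ 4) :
    ∃ σ ∈ M24, U.image σ = U ∧ ¬ CodeSet (symmDiff (L.image σ) L) := by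
  have hcardα : Fintype.card GolayPt = 24 := golayCode_isAbsGolay.hcard
  -- an arbitrary element of `M24` moving `L` suitably
  have hgen : ∃ σ ∈ M24, ¬ CodeSet (symmDiff (L.image σ) L) := by
    obtain ⟨a, ha⟩ := hL0
    obtain ⟨b, hb⟩ := exists_not_mem_of_card_le hL4
    obtain ⟨σ, hσ, hσfix, hσa⟩ := exists_fix_move (L.erase a)
      ((Finset.card_erase_le).trans hL4) (Finset.notMem_erase _ _)
      (fun h => hb (Finset.mem_of_mem_erase h))
    refine ⟨σ, hσ, ?_⟩
    apply not_code_of_move hL4
    · intro h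
      apply hb
      rw [← h, Finset.mem_image]
      exact ⟨a, ha, hσa⟩
    · intro h4
      have hscard : 0 < (L.erase a).card := by
        rw [Finset.card_erase_of_mem ha]
        omega
      obtain ⟨p, hp⟩ := Finset.card_pos.mp hscard
      refine ⟨p, ?_⟩
      rw [Finset.mem_inter, Finset.mem_image]
      exact ⟨⟨p, Finset.mem_of_mem_erase hp, hσfix p hp⟩, Finset.mem_of_mem_erase hp⟩
  rcases hU.card with h | h | h | h | h
  · rw [Finset.card_eq_zero] at h
    obtain ⟨σ, hσ, hnot⟩ := hgen
    exact ⟨σ, hσ, by rw [h, Finset.image_empty], hnot⟩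
  · exact exists_stab_octad_not_code ((mem_octads_iff U).mpr ⟨hU, h⟩) hL0 hL4
  · exact exists_stab_dodecad_not_code ((mem_dodecads_iff U).mpr ⟨hU, h⟩) hL0 hL4
  · have hO : Uᶜ ∈ octads := by
      rw [mem_octads_iff]
      refine ⟨hU.compl, ?_⟩
      rw [Finset.card_compl, h, hcardα]
    obtain ⟨σ, hσ, hσO, hnot⟩ := exists_stab_octad_not_code hO hL0 hL4
    refine ⟨σ, hσ, ?_, hnot⟩
    have h1 : (Uᶜ.image σ)ᶜ = Uᶜᶜ := by rw [hσO]
    rw [compl_compl, image_compl_perm, compl_compl] at h1
    exact h1
  · have hUuniv : U = Finset.univ := by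
      apply Finset.eq_univ_of_card
      rw [h, hcardα]
    obtain ⟨σ, hσ, hnot⟩ := hgen
    refine ⟨σ, hσ, ?_, hnot⟩
    rw [hUuniv]
    exact Finset.image_univ_of_surjective σ.surjective

end Cfsg.Agent.Lib.Helper9.M24
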