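import Mathlib
import Cfsg.Prelude.Def_Sporadic_a
import Cfsg.Agent.Lib.Helper9.M24X

set_option autoImplicit false
open Cfsg

/-! Octads disjoint from one or two given octads. -/

namespace Cfsg.Agent.Lib.Helper9.M24

open scoped Pointwise
open Cfsg.Agent.Lib.Helper9.GolayG Cfsg.Agent.Lib.Helper9

theorem codeSet_trans {A B D : Finset GolayPt} (h₁ : CodeSet (symmDiff A B)) (h₂ : CodeSet (symmDiff B D)) :
    CodeSet (symmDiff A D) := by
  have := h₁.symmDiff h₂
  rwa [symmDiff_assoc, symmDiff_symmDiff_cancel_left] at this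

theorem codeSet_symm {A B : Finset GolayPt} (h : CodeSet (symmDiff A B)) : CodeSet (symmDiff B A) := by
  rwa [symmDiff_comm]

/-- Two four-point sets congruent modulo the code are equal or disjoint. -/
theorem tetrad_eq_or_disjoint {T T' : Finset GolayPt} (hT : T.card = 4) (hT' : T'.card = 4)
    (h : CodeSet (symmDiff T T')) : T = T' ∨ Disjoint T T' := by
  have h1 := card_symmDiff_eq T T'
  rw [hT, hT'] at h1
  have h2 : (T ∩ T').card ≤ 4 := by
    rw [← hT]; exact Finset.card_le_card Finset.inter_subset_left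
  rcases h.card with h' | h' | h' | h' | h'
  · left
    rw [Finset.card_eq_zero] at h'
    exact symmDiff_eq_bot.mp h'
  · right
    rw [Finset.disjoint_iff_inter_eq_empty, ← Finset.card_eq_zero]
    omega
  all_goals omega

theorem disjoint_union_octad {T T' : Finset GolayPt} (hT : T.card = 4) (hT' : T'.card = 4)
    (h : CodeSet (symmDiff T T')) (hd : Disjoint T T') : T ∪ T' ∈ octads := by
  rw [mem_octads_iff]
  have heq : symmDiff T T' = T ∪ T' := Disjoint.symmDiff_eq_sup hd
  rw [← heq]
  refine ⟨h, ?_⟩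
  rw [heq, Finset.card_union_of_disjoint hd, hT, hT']

/-- Two octads meeting in four points have a common disjoint octad. -/
theorem exists_disjoint_of_inter_four {o o' : Finset GolayPt} (ho : o ∈ octads) (ho' : o' ∈ octads)
    (h4 : (o ∩ o').card = 4) : ∃ o'' ∈ octads, Disjoint o'' o ∧ Disjoint o'' o' := by
  have hc : o.card = 8 := octads_isOctadSystem.card_eq ho
  have hc' : o'.card = 8 := octads_isOctadSystem.card_eq ho'
  obtain ⟨t, htdef⟩ : ∃ t : Finset GolayPt, t = o ∩ o' := ⟨_, rfl⟩
  have ht4 : t.card = 4 := by rw [htdef]; exact h4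
  -- the two complementary tetrads
  have hpart : ∀ {O : Finset GolayPt}, O ∈ octads → t ⊆ O → (O \ t).card = 4 ∧ CodeSet (symmDiff (O \ t) t) := by
    intro O hO htO
    have hOc : O.card = 8 := octads_isOctadSystem.card_eq hO
    refine ⟨by rw [Finset.card_sdiff_of_subset htO, hOc, ht4], ?_⟩
    have : symmDiff (O \ t) t = O := by
      rw [Disjoint.symmDiff_eq_sup Finset.sdiff_disjoint]
      exact Finset.sdiff_union_of_subset htO
    rw [this]
    exact octad_codeSet hO
  have hto : t ⊆ o := by rw [htdef]; exact Finset.inter_subset_left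
  have hto' : t ⊆ o' := by rw [htdef]; exact Finset.inter_subset_right
  obtain ⟨h1c, h1⟩ := hpart ho hto
  obtain ⟨h2c, h2⟩ := hpart ho' hto'
  -- a tetrad congruent to `t` through a point outside `o ∪ o'` avoids `o ∪ o'`
  have havoid : ∀ T : Finset GolayPt, T.card = 4 → CodeSet (symmDiff T t) → ∀ p ∈ T, p ∉ o ∪ o' →
      Disjoint T (o ∪ o') := by
    intro T hT4 hTt p hpT hp
    rw [Finset.mem_union, not_or] at hp
    have hd0 : Disjoint T t := by
      rcases tetrad_eq_or_disjoint hT4 ht4 hTt with h | h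
      · exfalso; rw [h] at hpT; exact hp.1 (hto hpT)
      · exact h
    have hd1 : Disjoint T (o \ t) := by
      rcases tetrad_eq_or_disjoint hT4 h1c (codeSet_trans hTt (codeSet_symm h1)) with h | h
      · exfalso; rw [h] at hpT; exact hp.1 (Finset.mem_sdiff.mp hpT).1
      · exact h
    have hd2 : Disjoint T (o' \ t) := by
      rcases tetrad_eq_or_disjoint hT4 h2c (codeSet_trans hTt (codeSet_symm h2)) with h | h
      · exfalso; rw [h] at hpT; exact hp.2 (Finset.mem_sdiff.mp hpT).1
      · exact h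
    rw [Finset.disjoint_left]
    intro x hxT hx
    rw [Finset.mem_union] at hx
    by_cases hxt : x ∈ t
    · exact Finset.disjoint_left.mp hd0 hxT hxt
    · rcases hx with hx | hx
      · exact Finset.disjoint_left.mp hd1 hxT (Finset.mem_sdiff.mpr ⟨hx, hxt⟩)
      · exact Finset.disjoint_left.mp hd2 hxT (Finset.mem_sdiff.mpr ⟨hx, hxt⟩)
  have hcard_union : (o ∪ o').card = 12 := by
    have := Finset.card_union_add_card_inter o o'
    omega
  obtain ⟨p, hp⟩ : ∃ p, p ∉ o ∪ o' := by
    by_contra hcon
    push Not at hcon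
    have h1 : o ∪ o' = Finset.univ := Finset.eq_univ_iff_forall.mpr hcon
    rw [h1, Finset.card_univ, golayCode_isAbsGolay.hcard] at hcard_union
    omega
  obtain ⟨T₄, hT₄c, hpT₄, hT₄t⟩ := exists_tetrad_through ht4 p
  have hd₄ := havoid T₄ hT₄c hT₄t p hpT₄ hp
  obtain ⟨q, hq⟩ : ∃ q, q ∉ (o ∪ o') ∪ T₄ := by
    by_contra hcon
    push Not at hcon
    have h1 : (o ∪ o') ∪ T₄ = Finset.univ := Finset.eq_univ_iff_forall.mpr hcon
    have h2 := Finset.card_union_le (o ∪ o') T₄
    rw [h1, Finset.card_univ, golayCode_isAbsGolay.hcard, hcard_union, hT₄c] at h2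
    omega
  rw [Finset.mem_union, not_or] at hq
  obtain ⟨T₅, hT₅c, hqT₅, hT₅t⟩ := exists_tetrad_through ht4 q
  have hd₅ := havoid T₅ hT₅c hT₅t q hqT₅ hq.1
  have hcong : CodeSet (symmDiff T₄ T₅) := codeSet_trans hT₄t (codeSet_symm hT₅t)
  have hd45 : Disjoint T₄ T₅ := by
    rcases tetrad_eq_or_disjoint hT₄c hT₅c hcong with h | h
    · exfalso; rw [← h] at hqT₅; exact hq.2 hqT₅
    · exact h
  refine ⟨T₄ ∪ T₅, disjoint_union_octad hT₄c hT₅c hcong hd45, ?_, ?_⟩
  · rw [Finset.disjoint_union_left]
    exact ⟨hd₄.mono_right Finset.subset_union_left, hd₅.mono_right Finset.subset_union_left⟩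
  · rw [Finset.disjoint_union_left]
    exact ⟨hd₄.mono_right Finset.subset_union_right, hd₅.mono_right Finset.subset_union_right⟩

/-- Every octad is disjoint from some octad. -/
theorem exists_disjoint_octad {o : Finset GolayPt} (ho : o ∈ octads) : ∃ o'' ∈ octads, Disjoint o'' o := by
  have hc : o.card = 8 := octads_isOctadSystem.card_eq ho
  obtain ⟨t, hto, ht4⟩ := Finset.exists_subset_card_eq (s := o) (n := 4) (by omega)
  obtain ⟨p, hp⟩ : ∃ p, p ∉ o := by
    by_contra hcon
    push Not at hcon
    have h1 : o = Finset.univ := Finset.eq_univ_iff_forall.mpr hcon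
    rw [h1, Finset.card_univ, golayCode_isAbsGolay.hcard] at hc
    omega
  have hpt : p ∉ t := fun h => hp (hto h)
  obtain ⟨o₁, ho₁, hso₁⟩ := octads_isOctadSystem.exists_block (insert p t)
    (by rw [Finset.card_insert_of_notMem hpt, ht4])
  have hne : o ≠ o₁ := by
    rintro rfl
    exact hp (hso₁ (Finset.mem_insert_self _ _))
  have h4 : (o ∩ o₁).card = 4 := by
    refine (octads_isOctadSystem.inter_of_three_le ho ho₁ hne ?_).1
    have : t ⊆ o ∩ o₁ := fun x hx => Finset.mem_inter.mpr ⟨hto hx, hso₁ (Finset.mem_insert_of_mem hx)⟩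
    have := Finset.card_le_card this
    omega
  obtain ⟨o'', ho'', hd, -⟩ := exists_disjoint_of_inter_four ho ho₁ h4
  exact ⟨o'', ho'', hd⟩

/-- Two octads meeting in two points have no common disjoint octad. -/
theorem not_disjoint_of_inter_two {o o' o'' : Finset GolayPt} (ho : o ∈ octads) (ho' : o' ∈ octads)
    (ho'' : o'' ∈ octads) (h2 : (o ∩ o').card = 2) (hd : Disjoint o'' o) (hd' : Disjoint o'' o') : False := by
  have hc : o.card = 8 := octads_isOctadSystem.card_eq ho
  have hc' : o'.card = 8 := octads_isOctadSystem.card_eq ho'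
  have hD : CodeSet (symmDiff o o') := (octad_codeSet ho).symmDiff (octad_codeSet ho')
  have hD12 : (symmDiff o o').card = 12 := by
    have := card_symmDiff_eq o o'
    omega
  have hempty : o'' ∩ symmDiff o o' = ∅ := by
    rw [Finset.eq_empty_iff_forall_notMem]
    intro x hx
    rw [Finset.mem_inter, Finset.mem_symmDiff] at hx
    rcases hx.2 with ⟨h, -⟩ | ⟨h, -⟩
    · exact Finset.disjoint_left.mp hd hx.1 h
    · exact Finset.disjoint_left.mp hd' hx.1 h
  have := hD.inter_octad_ne hD12 ho''
  rw [hempty, Finset.card_empty] at this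
  omega

/-- For two octads meeting in two points there is an octad disjoint from the first and meeting the second in
four points. -/
theorem exists_disjoint_four_of_inter_two {o o' : Finset GolayPt} (ho : o ∈ octads) (ho' : o' ∈ octads)
    (h2 : (o ∩ o').card = 2) : ∃ a ∈ octads, Disjoint a o ∧ (a ∩ o').card = 4 := by
  obtain ⟨a₀, ha₀, hd₀⟩ := exists_disjoint_octad ho
  obtain ⟨Q, hQ, hQo, hQa⟩ := exists_two_four ho ha₀ hd₀.symm
  obtain ⟨g, hg, hgo, hgQ⟩ := stab_trans_two ho hQ ho' hQo (by rw [Finset.inter_comm]; exact h2)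
  refine ⟨a₀.image g, image_mem_octads hg ha₀, ?_, ?_⟩
  · rw [Finset.disjoint_iff_inter_eq_empty, image_inter_of_stab hgo,
      Finset.disjoint_iff_inter_eq_empty.mp hd₀, Finset.image_empty]
  · rw [← hgQ, ← Finset.image_inter _ _ g.injective, Finset.card_image_of_injective _ g.injective,
      Finset.inter_comm]
    exact hQa

end Cfsg.Agent.Lib.Helper9.M24
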