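import Mathlib
import Cfsg.Prelude.Def_Sporadic_a
import Cfsg.Prelude.Def_SporadicCombinatorics
import Cfsg.Agent.Lib.Helper9.M24Y

set_option autoImplicit false
open Cfsg

/-! Sextets: every four-point set lies in exactly one sextet. -/

namespace Cfsg.Agent.Lib.Helper9.M24

open scoped Pointwise
open Cfsg.Agent.Lib.Helper9.GolayG Cfsg.Agent.Lib.Helper9

/-- The sextet of a four-point set: the four-point sets congruent to it modulo the code. -/
noncomputable def sextOf (T : Finset GolayPt) : Finset (Finset GolayPt) :=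
  @Finset.filter _ (fun U => CodeSet (symmDiff T U)) (Classical.decPred _) (Finset.univ.powersetCard 4)

theorem mem_sextOf (T U : Finset GolayPt) : U ∈ sextOf T ↔ U.card = 4 ∧ CodeSet (symmDiff T U) := by
  unfold sextOf
  constructor
  · intro h
    have := (@Finset.mem_filter _ _ (Classical.decPred _) _ _).mp h
    exact ⟨(Finset.mem_powersetCard.mp this.1).2, this.2⟩
  · rintro ⟨h1, h2⟩
    exact (@Finset.mem_filter _ _ (Classical.decPred _) _ _).mpr
      ⟨Finset.mem_powersetCard.mpr ⟨Finset.subset_univ _, h1⟩, h2⟩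

theorem codeSet_empty : CodeSet (∅ : Finset GolayPt) := by
  unfold CodeSet
  have : indW (∅ : Finset GolayPt) = 0 := by
    funext p
    simp [indW]
  rw [this]
  exact golayCode.zero_mem

theorem self_mem_sextOf {T : Finset GolayPt} (hT : T.card = 4) : T ∈ sextOf T := by
  rw [mem_sextOf]
  refine ⟨hT, ?_⟩
  rw [symmDiff_self]
  exact codeSet_empty

theorem card_sextOf {T : Finset GolayPt} (hT : T.card = 4) : (sextOf T).card = 6 := by
  classical
  have hC := golayCode_isAbsGolay
  have h6 : (cosetT4 golayCode (indW T)).card = 6 := by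
    rcases coset_dichotomy hC (indW T) with ⟨_, h4⟩ | ⟨_, h4⟩
    · have hmem : indW T ∈ cosetT4 golayCode (indW T) := by
        rw [mem_cosetT4, hammingNorm_indW, sub_self]
        exact ⟨hT, golayCode.zero_mem⟩
      rw [Finset.card_eq_zero] at h4
      rw [h4] at hmem
      exact absurd hmem (Finset.notMem_empty _)
    · exact h4
  rw [← h6]
  symm
  apply Finset.card_bij (fun u _ => Cfsg.support₂ u)
  · intro u hu
    rw [mem_cosetT4] at hu
    rw [mem_sextOf]
    refine ⟨by rw [← hammingNorm_eq_card_support₂]; exact hu.1, ?_⟩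
    unfold CodeSet
    rw [indW_symmDiff, indW_support₂, add_comm, ← sub_eq_add_word]
    exact hu.2
  · intro u _ v _ h
    exact support₂_injective h
  · intro U hU
    rw [mem_sextOf] at hU
    refine ⟨indW U, ?_, support₂_indW U⟩
    rw [mem_cosetT4, hammingNorm_indW]
    refine ⟨hU.1, ?_⟩
    have := hU.2
    unfold CodeSet at this
    rwa [indW_symmDiff, add_comm, ← sub_eq_add_word] at this

theorem sextOf_mem_sextets {T : Finset GolayPt} (hT : T.card = 4) : sextOf T ∈ sextets := by
  refine ⟨card_sextOf hT, fun t ht => ((mem_sextOf T t).mp ht).1, ?_⟩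
  intro t ht u hu hne
  rw [mem_sextOf] at ht hu
  have h1 : CodeSet (symmDiff t u) := codeSet_trans (codeSet_symm ht.2) hu.2
  rcases tetrad_eq_or_disjoint ht.1 hu.1 h1 with h | h
  · exact absurd h hne
  · exact disjoint_union_octad ht.1 hu.1 h1 h

/-- A sextet is the sextet of each of its members. -/
theorem eq_sextOf {S : Finset (Finset GolayPt)} (hS : S ∈ sextets) {T : Finset GolayPt} (hT : T ∈ S) :
    S = sextOf T := by
  obtain ⟨h6, h4, hun⟩ := hS
  have hT4 := h4 T hT
  apply Finset.eq_of_subset_of_card_le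
  · intro u hu
    by_cases hne : u = T
    · rw [hne]; exact self_mem_sextOf hT4
    · rw [mem_sextOf]
      refine ⟨h4 u hu, ?_⟩
      have hoct := hun T hT u hu (Ne.symm hne)
      have hd : Disjoint T u := by
        rw [Finset.disjoint_iff_inter_eq_empty, ← Finset.card_eq_zero]
        have h1 := Finset.card_union_add_card_inter T u
        rw [octads_isOctadSystem.card_eq hoct, hT4, h4 u hu] at h1
        omega
      rw [Disjoint.symmDiff_eq_sup hd]
      exact octad_codeSet hoct
  · rw [card_sextOf hT4, h6]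

theorem mem_sextets_iff (S : Finset (Finset GolayPt)) :
    S ∈ sextets ↔ ∃ T : Finset GolayPt, T.card = 4 ∧ S = sextOf T := by
  constructor
  · intro hS
    have h6 := hS.1
    obtain ⟨T, hT⟩ : S.Nonempty := Finset.card_pos.mp (by omega)
    exact ⟨T, hS.2.1 T hT, eq_sextOf hS hT⟩
  · rintro ⟨T, hT, rfl⟩
    exact sextOf_mem_sextets hT

theorem sextOf_eq_iff {T U : Finset GolayPt} (hT : T.card = 4) (hU : U.card = 4) :
    sextOf U = sextOf T ↔ U ∈ sextOf T := by
  constructor
  · intro h
    rw [← h]
    exact self_mem_sextOf hU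
  · intro h
    exact (eq_sextOf (sextOf_mem_sextets hT) h).symm

/-- The number of sextets. -/
theorem ncard_sextets : sextets.ncard = 1771 := by
  classical
  set 𝒮 : Finset (Finset (Finset GolayPt)) := (Finset.univ.powersetCard 4).image sextOf with h𝒮
  have hset : sextets = ↑𝒮 := by
    ext S
    rw [mem_sextets_iff, h𝒮, Finset.mem_coe, Finset.mem_image]
    constructor
    · rintro ⟨T, hT, rfl⟩
      exact ⟨T, Finset.mem_powersetCard.mpr ⟨Finset.subset_univ _, hT⟩, rfl⟩
    · rintro ⟨T, hT, rfl⟩
      exact ⟨T, (Finset.mem_powersetCard.mp hT).2, rfl⟩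
  rw [hset, Set.ncard_coe_finset]
  have hfib := Finset.card_eq_sum_card_fiberwise (s := (Finset.univ : Finset GolayPt).powersetCard 4)
    (t := 𝒮) (f := sextOf) (fun T hT => Finset.mem_image_of_mem _ hT)
  have h6 : ∀ S ∈ 𝒮, (((Finset.univ : Finset GolayPt).powersetCard 4).filter (fun T => sextOf T = S)).card = 6 := by
    intro S hS
    rw [h𝒮, Finset.mem_image] at hS
    obtain ⟨T, hT, rfl⟩ := hS
    have hT4 := (Finset.mem_powersetCard.mp hT).2
    rw [← card_sextOf hT4]
    apply congrArg Finset.card
    apply Finset.ext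
    intro U
    rw [Finset.mem_filter, Finset.mem_powersetCard]
    constructor
    · rintro ⟨⟨-, hU4⟩, hUT⟩
      exact (sextOf_eq_iff hT4 hU4).mp hUT
    · intro hU
      have hU4 := ((mem_sextOf T U).mp hU).1
      exact ⟨⟨Finset.subset_univ _, hU4⟩, (sextOf_eq_iff hT4 hU4).mpr hU⟩
  rw [Finset.sum_congr rfl h6, Finset.sum_const, smul_eq_mul, Finset.card_powersetCard, Finset.card_univ] at hfib
  have h24 : Fintype.card GolayPt = 24 := by decide
  rw [h24] at hfib
  have : Nat.choose 24 4 = 10626 := by norm_num [Nat.choose]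
  omega

end Cfsg.Agent.Lib.Helper9.M24
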