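import Mathlib
import Cfsg.Prelude.Def_Sporadic_a
import Cfsg.Prelude.Def_SporadicCombinatorics
import Cfsg.Agent.Lib.Helper9.MaskSet
import Cfsg.Agent.Lib.Helper9.FastMask
import Cfsg.Agent.Lib.Helper9.SextetBasic

set_option autoImplicit false
open Cfsg

/-! More on bit masks: symmetric differences, complements, code sets, and the action of table permutations. -/

namespace Cfsg.Agent.Lib.Helper9.M24

open scoped Pointwise
open Cfsg.Agent.Lib.Helper1 (gIdx ofMask cw popcN)

theorem mset_xor (m n : ℕ) : mset (m ^^^ n) = symmDiff (mset m) (mset n) := by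
  apply Finset.ext
  intro p
  rw [Finset.mem_symmDiff, mem_mset, mem_mset, mem_mset, Nat.testBit_xor]
  cases m.testBit (natOfPt p) <;> cases n.testBit (natOfPt p) <;> simp

theorem testBit_full {i : ℕ} (hi : i < 24) : (16777215 : ℕ).testBit i = true := by
  have h : (16777215 : ℕ) = 2 ^ 24 - 1 := by norm_num
  rw [h, Nat.testBit_two_pow_sub_one]
  exact decide_eq_true hi

theorem mset_full : mset 16777215 = Finset.univ := by
  apply Finset.ext
  intro p
  rw [mem_mset, testBit_full (natOfPt_lt p)]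
  simp

theorem mset_compl (m : ℕ) : (mset m)ᶜ = mset (16777215 ^^^ m) := by
  apply Finset.ext
  intro p
  rw [Finset.mem_compl, mem_mset, mem_mset, Nat.testBit_xor, testBit_full (natOfPt_lt p)]
  cases m.testBit (natOfPt p) <;> simp

theorem xor_lt {m n : ℕ} (hm : m < 2 ^ 24) (hn : n < 2 ^ 24) : m ^^^ n < 2 ^ 24 := Nat.xor_lt_two_pow hm hn

theorem codeSet_mset_iff {m : ℕ} (hm : m < 2 ^ 24) : CodeSet (mset m) ↔ cw (m >>> 12) = m := by
  rw [← mem_supports_iff]
  constructor
  · rintro ⟨w, hw, hsup⟩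
    have hw' : w ∈ golayCode := hw
    rw [Cfsg.Agent.Lib.Helper1.mem_golayCode_iff] at hw'
    obtain ⟨c, hc, rfl⟩ := hw'
    rw [mset_eq_support] at hsup
    have h1 := Cfsg.Agent.Lib.Helper1.support₂_injective hsup
    have h2 : cw c = m := Cfsg.Agent.Lib.Helper1.ofMask_injOn (Cfsg.Agent.Lib.Helper1.cw_lt hc) hm h1
    rw [← h2, Cfsg.Agent.Lib.Helper1.cw_shift hc]
  · intro h2
    refine ⟨ofMask m, ?_, (mset_eq_support m).symm⟩
    show ofMask m ∈ golayCode
    rw [Cfsg.Agent.Lib.Helper1.mem_golayCode_iff]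
    exact ⟨m >>> 12, shiftRight_lt hm, by rw [h2]⟩

theorem codeSet_mset_iff' {m : ℕ} (hm : m < 2 ^ 24) : CodeSet (mset m) ↔ isCodeF m = true := by
  rw [codeSet_mset_iff hm, isCodeF_iff hm]

/-- A table permutation maps a mask set to the mask set of the permuted mask. -/
theorem smul_mset {a : List ℕ} (h : tabOK a = true) {m : ℕ} (hm : m < 2 ^ 24) :
    tperm a • mset m = mset (pmaskF a m) := by
  rw [pmaskF_eq h hm, ← image_mset h m]
  rfl

theorem pmaskF_lt {a : List ℕ} (h : tabOK a = true) {m : ℕ} (hm : m < 2 ^ 24) : pmaskF a m < 2 ^ 24 := by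
  rw [pmaskF_eq h hm]
  exact pmask_lt h m

/-- A table permutation maps a mask set to itself exactly if it preserves the mask. -/
theorem smul_mset_eq_iff {a : List ℕ} (h : tabOK a = true) {m : ℕ} (hm : m < 2 ^ 24) :
    tperm a • mset m = mset m ↔ (pmaskF a m == m) = true := by
  rw [smul_mset h hm, beq_iff_eq]
  constructor
  · intro h1
    exact mset_injOn (pmaskF_lt h hm) hm h1
  · intro h1
    rw [h1]

theorem card_mset_eq_iff (m n : ℕ) : (mset m).card = n ↔ (popcN 24 m == n) = true := by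
  rw [card_mset, beq_iff_eq]

end Cfsg.Agent.Lib.Helper9.M24
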