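import Mathlib
import Cfsg.Prelude.Def_Sporadic_a
import Cfsg.Prelude.Def_SporadicCombinatorics
import Cfsg.Agent.Lib.Helper9.MaskSet2
import Cfsg.Agent.Lib.Helper9.EnumCount
import Cfsg.Agent.Lib.Helper9.M24Norm

set_option autoImplicit false
open Cfsg

/-! The action of the group of the code on sextets, in terms of four-point sets and of masks. -/

namespace Cfsg.Agent.Lib.Helper9.M24

open scoped Pointwise
open Cfsg.Agent.Lib.Helper1 (gIdx ofMask cw popcN)

theorem smul_family_eq_image (g : Equiv.Perm GolayPt) (S : Finset (Finset GolayPt)) :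
    g • S = S.image (fun U => g • U) := rfl

theorem card_smul_set (g : Equiv.Perm GolayPt) (s : Finset GolayPt) : (g • s).card = s.card := by
  rw [smul_finset_eq_image']
  exact Finset.card_image_of_injective _ g.injective

theorem smul_symmDiff_set (g : Equiv.Perm GolayPt) (s t : Finset GolayPt) :
    g • symmDiff s t = symmDiff (g • s) (g • t) := by
  rw [smul_finset_eq_image', smul_finset_eq_image', smul_finset_eq_image']
  exact Finset.image_symmDiff s t g.injective

theorem CodeSet.smul {s : Finset GolayPt} (hs : CodeSet s) {g : Equiv.Perm GolayPt} (hg : g ∈ M24) :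
    CodeSet (g • s) := by
  rw [smul_finset_eq_image']
  exact hs.image hg

theorem smul_sextOf {g : Equiv.Perm GolayPt} (hg : g ∈ M24) {T : Finset GolayPt} (hT : T.card = 4) :
    g • sextOf T = sextOf (g • T) := by
  apply Finset.eq_of_subset_of_card_le
  · intro V hV
    rw [smul_family_eq_image, Finset.mem_image] at hV
    obtain ⟨U, hU, rfl⟩ := hV
    rw [mem_sextOf] at hU ⊢
    refine ⟨by rw [card_smul_set]; exact hU.1, ?_⟩
    rw [← smul_symmDiff_set]
    exact hU.2.smul hg
  · rw [card_sextOf (by rw [card_smul_set]; exact hT), smul_family_eq_image,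
      Finset.card_image_of_injective _ (MulAction.injective g), card_sextOf hT]

theorem sextets_smul {g : Equiv.Perm GolayPt} (hg : g ∈ M24) {S : Finset (Finset GolayPt)}
    (hS : S ∈ sextets) : g • S ∈ sextets := by
  rw [mem_sextets_iff] at hS ⊢
  obtain ⟨T, hT, rfl⟩ := hS
  exact ⟨g • T, by rw [card_smul_set]; exact hT, smul_sextOf hg hT⟩

theorem smul_sextOf_eq_iff {g : Equiv.Perm GolayPt} (hg : g ∈ M24) {T : Finset GolayPt} (hT : T.card = 4) :
    g • sextOf T = sextOf T ↔ CodeSet (symmDiff T (g • T)) := by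
  have hgT : (g • T).card = 4 := by rw [card_smul_set]; exact hT
  rw [smul_sextOf hg hT, sextOf_eq_iff hT hgT, mem_sextOf]
  exact ⟨fun h => h.2, fun h => ⟨hgT, h⟩⟩

/-- Boolean test that a table permutation maps the sextet of a four-point mask to itself. -/
def sextFixB (a : List ℕ) (m : ℕ) : Bool := isCodeF (m ^^^ pmaskF a m)

theorem smul_sextOf_mset_iff {a : List ℕ} (h : tabOK a = true) (hmem : tperm a ∈ M24) {m : ℕ}
    (hm : m < 2 ^ 24) (h4 : (mset m).card = 4) :
    tperm a • sextOf (mset m) = sextOf (mset m) ↔ sextFixB a m = true := by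
  rw [smul_sextOf_eq_iff hmem h4, smul_mset h hm, ← mset_xor,
    codeSet_mset_iff' (xor_lt hm (pmaskF_lt h hm))]
  rfl

/-- Two four-point masks sharing a point have the same sextet only if they are equal. -/
theorem sextOf_mset_inj {m n : ℕ} (hm : m < 2 ^ 24) (hn : n < 2 ^ 24) (hm4 : (mset m).card = 4)
    (hn4 : (mset n).card = 4) {p : GolayPt} (hpm : p ∈ mset m) (hpn : p ∈ mset n)
    (h : sextOf (mset m) = sextOf (mset n)) : m = n := by
  have h1 : mset m ∈ sextOf (mset n) := (sextOf_eq_iff hn4 hm4).mp h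
  rw [mem_sextOf] at h1
  rcases tetrad_eq_or_disjoint hn4 hm4 h1.2 with h2 | h2
  · exact (mset_injOn hn hm h2).symm
  · exact absurd hpm (Finset.disjoint_left.mp h2 hpn)

end Cfsg.Agent.Lib.Helper9.M24
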