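import Mathlib
import Cfsg.Prelude.Def_Sporadic_a
import Cfsg.Prelude.Def_SporadicCombinatorics
import Cfsg.Agent.Lib.Helper9.SextetAct
import Cfsg.Agent.Lib.Helper9.M24S

set_option autoImplicit false
open Cfsg

/-! Trios: two disjoint octads determine a third; there are 3795 trios; the group of the code permutes them. -/

namespace Cfsg.Agent.Lib.Helper9.M24

open scoped Pointwise
open Cfsg.Agent.Lib.Helper9.GolayG Cfsg.Agent.Lib.Helper9

theorem octad_card {o : Finset GolayPt} (ho : o ∈ octads) : o.card = 8 := ((mem_octads_iff o).mp ho).2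

/-- The complement of the union of two disjoint octads is an octad. -/
theorem third_octad {o o' : Finset GolayPt} (ho : o ∈ octads) (ho' : o' ∈ octads) (hd : Disjoint o o') :
    (o ∪ o')ᶜ ∈ octads := by
  rw [mem_octads_iff]
  constructor
  · have h1 : CodeSet (symmDiff o o') := (octad_codeSet ho).symmDiff (octad_codeSet ho')
    rw [Disjoint.symmDiff_eq_sup hd] at h1
    exact h1.compl
  · rw [Finset.card_compl, Finset.card_union_of_disjoint hd, octad_card ho, octad_card ho']
    have h24 : Fintype.card GolayPt = 24 := by decide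
    rw [h24]

theorem octad_ne_of_disjoint {o o' : Finset GolayPt} (ho : o ∈ octads) (hd : Disjoint o o') : o ≠ o' := by
  rintro rfl
  rw [disjoint_self, Finset.bot_eq_empty] at hd
  have := octad_card ho
  rw [hd] at this
  simp at this

/-- The trio determined by two disjoint octads. -/
def trioOf (o o' : Finset GolayPt) : Finset (Finset GolayPt) := {o, o', (o ∪ o')ᶜ}

theorem disjoint_third_left (o o' : Finset GolayPt) : Disjoint o (o ∪ o')ᶜ := by
  rw [Finset.disjoint_left]
  intro x hx hx'
  rw [Finset.mem_compl, Finset.mem_union] at hx'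
  exact hx' (Or.inl hx)

theorem disjoint_third_right (o o' : Finset GolayPt) : Disjoint o' (o ∪ o')ᶜ := by
  rw [Finset.disjoint_left]
  intro x hx hx'
  rw [Finset.mem_compl, Finset.mem_union] at hx'
  exact hx' (Or.inr hx)

theorem card_trioOf {o o' : Finset GolayPt} (ho : o ∈ octads) (ho' : o' ∈ octads) (hd : Disjoint o o') :
    (trioOf o o').card = 3 := by
  unfold trioOf
  have h1 : o ≠ o' := octad_ne_of_disjoint ho hd
  have h2 : o ≠ (o ∪ o')ᶜ := octad_ne_of_disjoint ho (disjoint_third_left o o')
  have h3 : o' ≠ (o ∪ o')ᶜ := octad_ne_of_disjoint ho' (disjoint_third_right o o')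
  rw [Finset.card_insert_of_notMem, Finset.card_insert_of_notMem, Finset.card_singleton]
  · rw [Finset.mem_singleton]; exact h3
  · rw [Finset.mem_insert, Finset.mem_singleton]
    rintro (h | h)
    · exact h1 h
    · exact h2 h

theorem trioOf_mem_trios {o o' : Finset GolayPt} (ho : o ∈ octads) (ho' : o' ∈ octads) (hd : Disjoint o o') :
    trioOf o o' ∈ trios := by
  refine ⟨card_trioOf ho ho' hd, ?_, ?_⟩
  · intro x hx
    unfold trioOf at hx
    rw [Finset.mem_insert, Finset.mem_insert, Finset.mem_singleton] at hx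
    rcases hx with rfl | rfl | rfl
    · exact ho
    · exact ho'
    · exact third_octad ho ho' hd
  · intro x hx y hy hne
    unfold trioOf at hx hy
    rw [Finset.mem_insert, Finset.mem_insert, Finset.mem_singleton] at hx hy
    rcases hx with rfl | rfl | rfl <;> rcases hy with rfl | rfl | rfl
    · exact absurd rfl hne
    · exact hd
    · exact disjoint_third_left _ _
    · exact hd.symm
    · exact absurd rfl hne
    · exact disjoint_third_right _ _
    · exact (disjoint_third_left _ _).symm
    · exact (disjoint_third_right _ _).symm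
    · exact absurd rfl hne

/-- A trio is determined by any two of its members. -/
theorem trio_eq_trioOf {T : Finset (Finset GolayPt)} (hT : T ∈ trios) {o o' : Finset GolayPt}
    (ho : o ∈ T) (ho' : o' ∈ T) (hne : o ≠ o') : trioOf o o' = T := by
  obtain ⟨h3, hoct, hdis⟩ := hT
  have hd : Disjoint o o' := hdis o ho o' ho' hne
  -- a third member
  have hcard : ((T.erase o).erase o').card = 1 := by
    rw [Finset.card_erase_of_mem, Finset.card_erase_of_mem ho, h3]
    rw [Finset.mem_erase]
    exact ⟨Ne.symm hne, ho'⟩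
  obtain ⟨o'', ho''⟩ := Finset.card_eq_one.mp hcard
  have hmem : o'' ∈ (T.erase o).erase o' := by rw [ho'']; exact Finset.mem_singleton_self _
  rw [Finset.mem_erase, Finset.mem_erase] at hmem
  obtain ⟨hne2, hne1, ho''T⟩ := hmem
  have hd1 : Disjoint o o'' := hdis o ho o'' ho''T (Ne.symm hne1)
  have hd2 : Disjoint o' o'' := hdis o' ho' o'' ho''T (Ne.symm hne2)
  have hsub : o'' ⊆ (o ∪ o')ᶜ := by
    intro x hx
    rw [Finset.mem_compl, Finset.mem_union]
    rintro (h | h)
    · exact Finset.disjoint_left.mp hd1 h hx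
    · exact Finset.disjoint_left.mp hd2 h hx
  have heq : o'' = (o ∪ o')ᶜ := by
    apply Finset.eq_of_subset_of_card_le hsub
    rw [octad_card (third_octad (hoct o ho) (hoct o' ho') hd), octad_card (hoct o'' ho''T)]
  apply Finset.eq_of_subset_of_card_le
  · intro x hx
    unfold trioOf at hx
    rw [Finset.mem_insert, Finset.mem_insert, Finset.mem_singleton] at hx
    rcases hx with rfl | rfl | rfl
    · exact ho
    · exact ho'
    · rw [← heq]; exact ho''T
  · rw [card_trioOf (hoct o ho) (hoct o' ho') hd, h3]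

theorem mem_trioOf_left (o o' : Finset GolayPt) : o ∈ trioOf o o' := by
  unfold trioOf; simp

theorem mem_trioOf_right (o o' : Finset GolayPt) : o' ∈ trioOf o o' := by
  unfold trioOf; simp

theorem card_blocksFinset_octads : (blocksFinset octads).card = 759 := by
  rw [← Cfsg.Agent.Lib.Helper1.ncard_octads, ← Set.ncard_coe_finset]
  apply congrArg Set.ncard
  ext b
  rw [Finset.mem_coe, mem_blocksFinset]

/-- The number of trios. -/
theorem ncard_trios : trios.ncard = 3795 := by
  classical
  set Bf := blocksFinset octads with hBf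
  set P : Finset (Σ _ : Finset GolayPt, Finset GolayPt) :=
    Bf.sigma (fun o => Bf.filter (fun o' => (o' ∩ o).card = 0)) with hP
  have hPcard : P.card = 759 * 30 := by
    rw [hP, Finset.card_sigma]
    have : ∀ o ∈ Bf, (Bf.filter (fun o' => (o' ∩ o).card = 0)).card = 30 := by
      intro o ho
      exact (octad_octad_counts ((mem_blocksFinset _ _).mp ho)).1
    rw [Finset.sum_congr rfl this, Finset.sum_const, smul_eq_mul, card_blocksFinset_octads]
  have hPmem : ∀ q : (Σ _ : Finset GolayPt, Finset GolayPt),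
      q ∈ P ↔ q.1 ∈ octads ∧ q.2 ∈ octads ∧ Disjoint q.1 q.2 := by
    intro q
    rw [hP, Finset.mem_sigma, Finset.mem_filter, hBf, mem_blocksFinset, mem_blocksFinset,
      Finset.card_eq_zero, ← Finset.disjoint_iff_inter_eq_empty, disjoint_comm]
  set 𝒯 : Finset (Finset (Finset GolayPt)) := Finset.univ.filter (fun T => T ∈ trios) with h𝒯
  have hset : trios = ↑𝒯 := by
    ext T
    rw [h𝒯, Finset.mem_coe, Finset.mem_filter]
    simp
  rw [hset, Set.ncard_coe_finset]
  have hfib := Finset.card_eq_sum_card_fiberwise (s := P) (t := 𝒯) (f := fun q => trioOf q.1 q.2)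
    (by
      intro q hq
      rw [Finset.mem_coe, hPmem] at hq
      rw [Finset.mem_coe, h𝒯, Finset.mem_filter]
      exact ⟨Finset.mem_univ _, trioOf_mem_trios hq.1 hq.2.1 hq.2.2⟩)
  have h6 : ∀ T ∈ 𝒯, (P.filter (fun q => trioOf q.1 q.2 = T)).card = 6 := by
    intro T hT
    rw [h𝒯, Finset.mem_filter] at hT
    have hT' := hT.2
    have hoff : T.offDiag.card = 6 := by rw [Finset.offDiag_card, hT'.1]
    rw [← hoff]
    apply Finset.card_bij (fun q _ => (q.1, q.2))
    · intro q hq
      rw [Finset.mem_filter, hPmem] at hq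
      obtain ⟨⟨h1, h2, h3⟩, h4⟩ := hq
      rw [Finset.mem_offDiag]
      refine ⟨by rw [← h4]; exact mem_trioOf_left _ _, by rw [← h4]; exact mem_trioOf_right _ _, ?_⟩
      exact octad_ne_of_disjoint h1 h3
    · intro q _ q' _ h
      rw [Prod.mk.injEq] at h
      exact Sigma.ext h.1 (heq_of_eq h.2)
    · intro p hp
      rw [Finset.mem_offDiag] at hp
      obtain ⟨h1, h2, h3⟩ := hp
      refine ⟨⟨p.1, p.2⟩, ?_, rfl⟩
      rw [Finset.mem_filter, hPmem]
      exact ⟨⟨hT'.2.1 _ h1, hT'.2.1 _ h2, hT'.2.2 _ h1 _ h2 h3⟩, trio_eq_trioOf hT' h1 h2 h3⟩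
  rw [Finset.sum_congr rfl h6, Finset.sum_const, smul_eq_mul, hPcard] at hfib
  omega

theorem octads_smul {g : Equiv.Perm GolayPt} (hg : g ∈ M24) {o : Finset GolayPt} (ho : o ∈ octads) :
    g • o ∈ octads := by
  rw [smul_finset_eq_image']
  exact image_mem_octads hg ho

theorem dodecads_smul {g : Equiv.Perm GolayPt} (hg : g ∈ M24) {d : Finset GolayPt} (hd : d ∈ dodecads) :
    g • d ∈ dodecads := by
  rw [mem_dodecads_iff] at hd ⊢
  exact ⟨hd.1.smul hg, by rw [card_smul_set]; exact hd.2⟩

theorem trios_smul {g : Equiv.Perm GolayPt} (hg : g ∈ M24) {T : Finset (Finset GolayPt)}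
    (hT : T ∈ trios) : g • T ∈ trios := by
  obtain ⟨h3, hoct, hdis⟩ := hT
  refine ⟨?_, ?_, ?_⟩
  · rw [smul_family_eq_image, Finset.card_image_of_injective _ (MulAction.injective g), h3]
  · intro o ho
    rw [smul_family_eq_image, Finset.mem_image] at ho
    obtain ⟨o₁, ho₁, rfl⟩ := ho
    exact octads_smul hg (hoct o₁ ho₁)
  · intro o ho o' ho' hne
    rw [smul_family_eq_image, Finset.mem_image] at ho ho'
    obtain ⟨o₁, ho₁, rfl⟩ := ho
    obtain ⟨o₂, ho₂, rfl⟩ := ho'
    have hne' : o₁ ≠ o₂ := fun h => hne (by rw [h])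
    have := hdis o₁ ho₁ o₂ ho₂ hne'
    rw [smul_finset_eq_image', smul_finset_eq_image']
    exact (Finset.disjoint_image g.injective).mpr this

end Cfsg.Agent.Lib.Helper9.M24
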