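import Mathlib
import Cfsg.Prelude.Def_Sporadic_a
import Cfsg.Prelude.Def_SporadicCombinatorics
import Cfsg.Agent.Lib.Helper9.TrioBasic
import Cfsg.Agent.Lib.Helper9.EnumData

set_option autoImplicit false
open Cfsg

/-! Counting the octads, dodecads and sextets mapped to themselves by a table permutation. -/

namespace Cfsg.Agent.Lib.Helper9.M24

open scoped Pointwise
open Cfsg.Agent.Lib.Helper1 (gIdx ofMask cw popcN)

theorem octLit_length : octLit.length = 759 := length_of_lenB _ _ (by decide +kernel)

theorem octLit_chain : chainB 0 octLit = true := by decide +kernel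

theorem octLit_all : octLit.all (fun m => isOct m && decide (m < 16777216)) = true := by decide +kernel

theorem octLit_spec {m : ℕ} (hm : m ∈ octLit) : m < 2 ^ 24 ∧ mset m ∈ octads := by
  have h := List.all_eq_true.mp octLit_all m hm
  rw [Bool.and_eq_true, decide_eq_true_eq] at h
  exact ⟨h.2, (mset_mem_octads_iff h.2).mpr h.1⟩

/-- The number of octads mapped to themselves by a table permutation. -/
theorem octads_count {a : List ℕ} (h : tabOK a = true) :
    {o : Finset GolayPt | o ∈ octads ∧ tperm a • o = o}.ncard =
      (octLit.filter (fun m => pmaskF a m == m)).length := by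
  apply enum_count (Set.toFinite _) octLit (nodup_of_chainB octLit_chain) mset
  · intro m hm n hn hmn
    exact mset_injOn (octLit_spec hm).1 (octLit_spec hn).1 hmn
  · intro m hm
    exact (octLit_spec hm).2
  · rw [Cfsg.Agent.Lib.Helper1.ncard_octads, octLit_length]
  · intro m hm
    exact smul_mset_eq_iff h (octLit_spec hm).1

theorem dodLit_length : dodLit.length = 2576 := length_of_lenB _ _ (by decide +kernel)

theorem dodLit_chain : chainB 0 dodLit = true := by decide +kernel

theorem dodLit_all : dodLit.all (fun m => isDod m && decide (m < 16777216)) = true := by decide +kernel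

theorem dodLit_spec {m : ℕ} (hm : m ∈ dodLit) : m < 2 ^ 24 ∧ mset m ∈ dodecads := by
  have h := List.all_eq_true.mp dodLit_all m hm
  rw [Bool.and_eq_true, decide_eq_true_eq] at h
  exact ⟨h.2, (mset_mem_dodecads_iff h.2).mpr h.1⟩

/-- The number of dodecads mapped to themselves by a table permutation. -/
theorem dodecads_count {a : List ℕ} (h : tabOK a = true) :
    {d : Finset GolayPt | d ∈ dodecads ∧ tperm a • d = d}.ncard =
      (dodLit.filter (fun m => pmaskF a m == m)).length := by
  apply enum_count (Set.toFinite _) dodLit (nodup_of_chainB dodLit_chain) mset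
  · intro m hm n hn hmn
    exact mset_injOn (dodLit_spec hm).1 (dodLit_spec hn).1 hmn
  · intro m hm
    exact (dodLit_spec hm).2
  · rw [Cfsg.Agent.Lib.Helper1.ncard_dodecads, dodLit_length]
  · intro m hm
    exact smul_mset_eq_iff h (dodLit_spec hm).1

theorem tetLit_length : tetLit.length = 1771 := length_of_lenB _ _ (by decide +kernel)

theorem tetLit_chain : chainB 0 tetLit = true := by decide +kernel

theorem tetLit_all :
    tetLit.all (fun m => (popcN 24 m == 4) && m.testBit 23 && decide (m < 16777216)) = true := by
  decide +kernel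

theorem tetLit_spec {m : ℕ} (hm : m ∈ tetLit) :
    m < 2 ^ 24 ∧ (mset m).card = 4 ∧ (none : GolayPt) ∈ mset m := by
  have h := List.all_eq_true.mp tetLit_all m hm
  rw [Bool.and_eq_true, Bool.and_eq_true, decide_eq_true_eq, beq_iff_eq] at h
  refine ⟨h.2, ?_, ?_⟩
  · rw [card_mset]; exact h.1.1
  · rw [mem_mset]; exact h.1.2

/-- The number of sextets mapped to themselves by a table permutation in the group of the code. -/
theorem sextets_count {a : List ℕ} (h : tabOK a = true) (hmem : tperm a ∈ M24) :
    {S : Finset (Finset GolayPt) | S ∈ sextets ∧ tperm a • S = S}.ncard =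
      (tetLit.filter (sextFixB a)).length := by
  apply enum_count (Set.toFinite _) tetLit (nodup_of_chainB tetLit_chain) (fun m => sextOf (mset m))
  · intro m hm n hn hmn
    obtain ⟨h1, h2, h3⟩ := tetLit_spec hm
    obtain ⟨h1', h2', h3'⟩ := tetLit_spec hn
    exact sextOf_mset_inj h1 h1' h2 h2' h3 h3' hmn
  · intro m hm
    exact sextOf_mem_sextets (tetLit_spec hm).2.1
  · rw [ncard_sextets, tetLit_length]
  · intro m hm
    obtain ⟨h1, h2, -⟩ := tetLit_spec hm
    exact smul_sextOf_mset_iff h hmem h1 h2

end Cfsg.Agent.Lib.Helper9.M24
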