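import Mathlib
import Cfsg.Prelude.Def_Sporadic_a
import Cfsg.Prelude.Def_SporadicCombinatorics
import Cfsg.Agent.Lib.Helper9.EnumOct

set_option autoImplicit false
open Cfsg

/-! Counting the trios mapped to themselves by a table permutation. -/

namespace Cfsg.Agent.Lib.Helper9.M24

open scoped Pointwise
open Cfsg.Agent.Lib.Helper1 (gIdx ofMask cw popcN)

/-- The three masks of a packed trio. -/
def trioM1 (n : ℕ) : ℕ := n >>> 24
def trioM2 (n : ℕ) : ℕ := n &&& 16777215
def trioM3 (n : ℕ) : ℕ := 16777215 ^^^ (trioM1 n ||| trioM2 n)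

/-- Boolean validity test of a packed trio. -/
def trioOKB (n : ℕ) : Bool :=
  isOct (trioM1 n) && isOct (trioM2 n) && (trioM1 n &&& trioM2 n == 0) && decide (trioM1 n < trioM2 n) &&
    decide (trioM2 n < trioM3 n) && decide (trioM1 n < 16777216)

/-- Boolean test that a table permutation maps a packed trio to itself. -/
def trioFixB (a : List ℕ) (n : ℕ) : Bool :=
  (pmaskF a (trioM1 n) == trioM1 n || pmaskF a (trioM1 n) == trioM2 n || pmaskF a (trioM1 n) == trioM3 n) &&
    (pmaskF a (trioM2 n) == trioM1 n || pmaskF a (trioM2 n) == trioM2 n || pmaskF a (trioM2 n) == trioM3 n)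

theorem trioM2_lt (n : ℕ) : trioM2 n < 2 ^ 24 := by
  unfold trioM2
  have := @Nat.and_le_right n 16777215
  omega

theorem trioM3_lt {n : ℕ} (h1 : trioM1 n < 2 ^ 24) : trioM3 n < 2 ^ 24 := by
  unfold trioM3
  exact xor_lt (by norm_num) (Nat.or_lt_two_pow h1 (trioM2_lt n))

theorem third_mset (m1 m2 : ℕ) : (mset m1 ∪ mset m2)ᶜ = mset (16777215 ^^^ (m1 ||| m2)) := by
  rw [← mset_or, mset_compl]

theorem mem_trioOf_iff (o o' x : Finset GolayPt) : x ∈ trioOf o o' ↔ x = o ∨ x = o' ∨ x = (o ∪ o')ᶜ := by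
  unfold trioOf
  rw [Finset.mem_insert, Finset.mem_insert, Finset.mem_singleton]

theorem mem_trioOf_mset {n x : ℕ} (h1 : trioM1 n < 2 ^ 24) (hx : x < 2 ^ 24) :
    mset x ∈ trioOf (mset (trioM1 n)) (mset (trioM2 n)) ↔ x = trioM1 n ∨ x = trioM2 n ∨ x = trioM3 n := by
  rw [mem_trioOf_iff, third_mset]
  constructor
  · rintro (h | h | h)
    · exact Or.inl (mset_injOn hx h1 h)
    · exact Or.inr (Or.inl (mset_injOn hx (trioM2_lt n) h))
    · exact Or.inr (Or.inr (mset_injOn hx (trioM3_lt h1) h))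
  · rintro (h | h | h)
    · exact Or.inl (by rw [h])
    · exact Or.inr (Or.inl (by rw [h]))
    · exact Or.inr (Or.inr (by rw [h]; rfl))

/-- An element of the group maps a trio to itself as soon as it maps two of its members into it. -/
theorem trio_smul_eq_iff {g : Equiv.Perm GolayPt} (hg : g ∈ M24) {T : Finset (Finset GolayPt)}
    (hT : T ∈ trios) {o o' : Finset GolayPt} (ho : o ∈ T) (ho' : o' ∈ T) (hne : o ≠ o') :
    g • T = T ↔ g • o ∈ T ∧ g • o' ∈ T := by
  constructor
  · intro h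
    constructor
    · rw [← h, smul_family_eq_image]
      exact Finset.mem_image_of_mem _ ho
    · rw [← h, smul_family_eq_image]
      exact Finset.mem_image_of_mem _ ho'
  · rintro ⟨h1, h2⟩
    have hne' : g • o ≠ g • o' := fun h => hne (MulAction.injective g h)
    have e1 := trio_eq_trioOf hT h1 h2 hne'
    have e2 := trio_eq_trioOf (trios_smul hg hT)
      (show g • o ∈ g • T by rw [smul_family_eq_image]; exact Finset.mem_image_of_mem _ ho)
      (show g • o' ∈ g • T by rw [smul_family_eq_image]; exact Finset.mem_image_of_mem _ ho') hne'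
    rw [← e2, e1]

theorem trioLit_length : trioLit.length = 3795 := length_of_lenB _ _ (by decide +kernel)

theorem trioLit_chain : chainB 0 trioLit = true := by decide +kernel

theorem trioLit_all : trioLit.all trioOKB = true := by decide +kernel

theorem trioLit_spec {n : ℕ} (hn : n ∈ trioLit) :
    trioM1 n < 2 ^ 24 ∧ mset (trioM1 n) ∈ octads ∧ mset (trioM2 n) ∈ octads ∧
      Disjoint (mset (trioM1 n)) (mset (trioM2 n)) ∧ trioM1 n < trioM2 n ∧ trioM2 n < trioM3 n := by
  have h := List.all_eq_true.mp trioLit_all n hn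
  unfold trioOKB at h
  simp only [Bool.and_eq_true, decide_eq_true_eq, beq_iff_eq] at h
  obtain ⟨⟨⟨⟨⟨h1, h2⟩, h3⟩, h4⟩, h5⟩, h6⟩ := h
  have h6' : trioM1 n < 2 ^ 24 := h6
  exact ⟨h6', (mset_mem_octads_iff h6').mpr h1, (mset_mem_octads_iff (trioM2_lt n)).mpr h2,
    (mset_disjoint_iff h6').mpr h3, h4, h5⟩

theorem trioLit_mem {n : ℕ} (hn : n ∈ trioLit) :
    trioOf (mset (trioM1 n)) (mset (trioM2 n)) ∈ trios := by
  obtain ⟨-, h2, h3, h4, -, -⟩ := trioLit_spec hn
  exact trioOf_mem_trios h2 h3 h4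

theorem packed_eq {a b : ℕ} (h1 : trioM1 a = trioM1 b) (h2 : trioM2 a = trioM2 b) : a = b := by
  unfold trioM1 at h1
  unfold trioM2 at h2
  have e : (16777215 : ℕ) = 2 ^ 24 - 1 := by norm_num
  rw [e, Nat.and_two_pow_sub_one_eq_mod, Nat.and_two_pow_sub_one_eq_mod] at h2
  rw [Nat.shiftRight_eq_div_pow, Nat.shiftRight_eq_div_pow] at h1
  have ha := Nat.div_add_mod a (2 ^ 24)
  have hb := Nat.div_add_mod b (2 ^ 24)
  rw [h1, h2] at ha
  omega

theorem trioLit_inj {a b : ℕ} (ha : a ∈ trioLit) (hb : b ∈ trioLit)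
    (h : trioOf (mset (trioM1 a)) (mset (trioM2 a)) = trioOf (mset (trioM1 b)) (mset (trioM2 b))) : a = b := by
  obtain ⟨a1, -, -, -, a12, a23⟩ := trioLit_spec ha
  obtain ⟨b1, -, -, -, b12, b23⟩ := trioLit_spec hb
  have ha2 := trioM2_lt a
  have ha3 := trioM3_lt a1
  have hb2 := trioM2_lt b
  have hb3 := trioM3_lt b1
  -- each mask of `a` is one of the masks of `b`
  have m1 : trioM1 a = trioM1 b ∨ trioM1 a = trioM2 b ∨ trioM1 a = trioM3 b := by
    rw [← mem_trioOf_mset b1 a1, ← h]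
    exact mem_trioOf_left _ _
  have m2 : trioM2 a = trioM1 b ∨ trioM2 a = trioM2 b ∨ trioM2 a = trioM3 b := by
    rw [← mem_trioOf_mset b1 ha2, ← h]
    exact mem_trioOf_right _ _
  have m3 : trioM3 a = trioM1 b ∨ trioM3 a = trioM2 b ∨ trioM3 a = trioM3 b := by
    rw [← mem_trioOf_mset b1 ha3, ← h, mem_trioOf_mset a1 ha3]
    exact Or.inr (Or.inr rfl)
  apply packed_eq
  · rcases m1 with m1 | m1 | m1 <;> rcases m2 with m2 | m2 | m2 <;> rcases m3 with m3 | m3 | m3 <;> omega
  · rcases m1 with m1 | m1 | m1 <;> rcases m2 with m2 | m2 | m2 <;> rcases m3 with m3 | m3 | m3 <;> omega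

/-- The number of trios mapped to themselves by a table permutation in the group of the code. -/
theorem trios_count {a : List ℕ} (h : tabOK a = true) (hmem : tperm a ∈ M24) :
    {T : Finset (Finset GolayPt) | T ∈ trios ∧ tperm a • T = T}.ncard =
      (trioLit.filter (trioFixB a)).length := by
  apply enum_count (Set.toFinite _) trioLit (nodup_of_chainB trioLit_chain)
    (fun n => trioOf (mset (trioM1 n)) (mset (trioM2 n)))
  · intro m hm n hn hmn
    exact trioLit_inj hm hn hmn
  · intro n hn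
    exact trioLit_mem hn
  · rw [ncard_trios, trioLit_length]
  · intro n hn
    obtain ⟨h1, ho1, -, hd, -, -⟩ := trioLit_spec hn
    rw [trio_smul_eq_iff hmem (trioLit_mem hn) (mem_trioOf_left _ _) (mem_trioOf_right _ _)
      (octad_ne_of_disjoint ho1 hd), smul_mset h h1, smul_mset h (trioM2_lt n),
      mem_trioOf_mset h1 (pmaskF_lt h h1), mem_trioOf_mset h1 (pmaskF_lt h (trioM2_lt n))]
    unfold trioFixB
    simp only [Bool.and_eq_true, Bool.or_eq_true, beq_iff_eq]
    tauto

end Cfsg.Agent.Lib.Helper9.M24
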