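import Mathlib
import Cfsg.Prelude.Def_Sporadic_a
import Cfsg.Prelude.Def_SporadicCombinatorics
import Cfsg.Agent.Lib.Helper9.TabPerm
import Cfsg.Agent.Lib.Helper9.EnumCount

set_option autoImplicit false
open Cfsg

/-! Orbits of the stabilizer (in the group of the code) of one object on a family of other objects:
partition into orbits from lower bounds and separating invariants, transport along the group, and
certificates (words in explicit generators) for lower bounds. -/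

namespace Cfsg.Agent.Lib.Helper9.M24

open scoped Pointwise

section Abstract

variable {α β : Type*} [MulAction (Equiv.Perm GolayPt) α] [MulAction (Equiv.Perm GolayPt) β]

/-- The orbit of `y` under the elements of the group of the code fixing `X`. -/
def stabOrbit (X : α) (y : β) : Set β := {z | ∃ g ∈ M24, g • X = X ∧ g • y = z}

theorem mem_stabOrbit_self (X : α) (y : β) : y ∈ stabOrbit X y :=
  ⟨1, Subgroup.one_mem _, one_smul _ _, one_smul _ _⟩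

theorem smul_mem_stabOrbit {X : α} {y z : β} (hz : z ∈ stabOrbit X y) {g : Equiv.Perm GolayPt}
    (hg : g ∈ M24) (hX : g • X = X) : g • z ∈ stabOrbit X y := by
  obtain ⟨h, hh, hhX, rfl⟩ := hz
  exact ⟨g * h, Subgroup.mul_mem _ hg hh, by rw [mul_smul, hhX, hX], mul_smul _ _ _⟩

theorem stabOrbit_symm {X : α} {y z : β} (hz : z ∈ stabOrbit X y) : y ∈ stabOrbit X z := by
  obtain ⟨h, hh, hhX, rfl⟩ := hz
  refine ⟨h⁻¹, Subgroup.inv_mem _ hh, ?_, inv_smul_smul _ _⟩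
  rw [inv_smul_eq_iff, hhX]

theorem stabOrbit_subset_of_mem {X : α} {y z : β} (hz : z ∈ stabOrbit X y) :
    stabOrbit X z ⊆ stabOrbit X y := by
  rintro w ⟨g, hg, hgX, rfl⟩
  exact smul_mem_stabOrbit hz hg hgX

theorem stabOrbit_eq_of_mem {X : α} {y z : β} (hz : z ∈ stabOrbit X y) :
    stabOrbit X z = stabOrbit X y :=
  Set.Subset.antisymm (stabOrbit_subset_of_mem hz) (stabOrbit_subset_of_mem (stabOrbit_symm hz))

theorem stabOrbit_disjoint {X : α} {y z : β} (hz : z ∉ stabOrbit X y) :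
    Disjoint (stabOrbit X y) (stabOrbit X z) := by
  rw [Set.disjoint_left]
  intro w hw hw'
  apply hz
  have h1 : stabOrbit X w = stabOrbit X y := stabOrbit_eq_of_mem hw
  have h2 : stabOrbit X w = stabOrbit X z := stabOrbit_eq_of_mem hw'
  rw [← h1, h2]
  exact mem_stabOrbit_self X z

theorem stabOrbit_subset {X : α} {𝒴 : Set β} (h𝒴 : ∀ g ∈ M24, ∀ y ∈ 𝒴, g • y ∈ 𝒴) {y : β} (hy : y ∈ 𝒴) :
    stabOrbit X y ⊆ 𝒴 := by
  rintro z ⟨g, hg, -, rfl⟩
  exact h𝒴 g hg y hy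

theorem stabOrbit_smul {k : Equiv.Perm GolayPt} (hk : k ∈ M24) (X : α) (y : β) :
    stabOrbit (k • X) (k • y) = (fun z => k • z) '' stabOrbit X y := by
  ext z
  constructor
  · rintro ⟨g, hg, hgX, rfl⟩
    refine ⟨(k⁻¹ * g * k) • y, ⟨k⁻¹ * g * k, ?_, ?_, rfl⟩, ?_⟩
    · exact Subgroup.mul_mem _ (Subgroup.mul_mem _ (Subgroup.inv_mem _ hk) hg) hk
    · rw [mul_smul, mul_smul, hgX, inv_smul_smul]
    · show k • ((k⁻¹ * g * k) • y) = g • k • y
      rw [mul_smul, mul_smul, smul_inv_smul]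
  · rintro ⟨w, ⟨g, hg, hgX, rfl⟩, rfl⟩
    refine ⟨k * g * k⁻¹, ?_, ?_, ?_⟩
    · exact Subgroup.mul_mem _ (Subgroup.mul_mem _ hk hg) (Subgroup.inv_mem _ hk)
    · rw [mul_smul, mul_smul, inv_smul_smul, hgX]
    · rw [mul_smul, mul_smul, inv_smul_smul]

theorem ncard_stabOrbit_smul {k : Equiv.Perm GolayPt} (hk : k ∈ M24) (X : α) (y : β) :
    (stabOrbit (k • X) (k • y)).ncard = (stabOrbit X y).ncard := by
  rw [stabOrbit_smul hk, Set.ncard_image_of_injective _ (MulAction.injective k)]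

end Abstract

section Partition

variable {β : Type*}

theorem three_partition {A B C 𝒴 : Set β} (hfin : 𝒴.Finite) (hA : A ⊆ 𝒴) (hB : B ⊆ 𝒴) (hC : C ⊆ 𝒴)
    (dAB : Disjoint A B) (dAC : Disjoint A C) (dBC : Disjoint B C) {a b c : ℕ}
    (ha : a ≤ A.ncard) (hb : b ≤ B.ncard) (hc : c ≤ C.ncard) (hsum : a + b + c = 𝒴.ncard) :
    A.ncard = a ∧ B.ncard = b ∧ C.ncard = c ∧ 𝒴 = A ∪ B ∪ C := by
  have fA := hfin.subset hA
  have fB := hfin.subset hB
  have fC := hfin.subset hC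
  have hsub : A ∪ B ∪ C ⊆ 𝒴 := Set.union_subset (Set.union_subset hA hB) hC
  have hd : Disjoint (A ∪ B) C := Set.disjoint_union_left.mpr ⟨dAC, dBC⟩
  have hcard : (A ∪ B ∪ C).ncard = A.ncard + B.ncard + C.ncard := by
    rw [Set.ncard_union_eq hd (fA.union fB) fC, Set.ncard_union_eq dAB fA fB]
  have hle : (A ∪ B ∪ C).ncard ≤ 𝒴.ncard := Set.ncard_le_ncard hsub hfin
  have heq : A ∪ B ∪ C = 𝒴 := Set.eq_of_subset_of_ncard_le hsub (by omega) hfin
  exact ⟨by omega, by omega, by omega, heq.symm⟩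

theorem four_partition {A B C D 𝒴 : Set β} (hfin : 𝒴.Finite) (hA : A ⊆ 𝒴) (hB : B ⊆ 𝒴) (hC : C ⊆ 𝒴)
    (hD : D ⊆ 𝒴) (dAB : Disjoint A B) (dAC : Disjoint A C) (dAD : Disjoint A D) (dBC : Disjoint B C)
    (dBD : Disjoint B D) (dCD : Disjoint C D) {a b c d : ℕ}
    (ha : a ≤ A.ncard) (hb : b ≤ B.ncard) (hc : c ≤ C.ncard) (hd : d ≤ D.ncard)
    (hsum : a + b + c + d = 𝒴.ncard) :
    A.ncard = a ∧ B.ncard = b ∧ C.ncard = c ∧ D.ncard = d ∧ 𝒴 = A ∪ B ∪ C ∪ D := by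
  have fA := hfin.subset hA
  have fB := hfin.subset hB
  have fC := hfin.subset hC
  have fD := hfin.subset hD
  have hsub : A ∪ B ∪ C ∪ D ⊆ 𝒴 := Set.union_subset (Set.union_subset (Set.union_subset hA hB) hC) hD
  have hd1 : Disjoint (A ∪ B) C := Set.disjoint_union_left.mpr ⟨dAC, dBC⟩
  have hd2 : Disjoint (A ∪ B ∪ C) D :=
    Set.disjoint_union_left.mpr ⟨Set.disjoint_union_left.mpr ⟨dAD, dBD⟩, dCD⟩
  have hcard : (A ∪ B ∪ C ∪ D).ncard = A.ncard + B.ncard + C.ncard + D.ncard := by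
    rw [Set.ncard_union_eq hd2 ((fA.union fB).union fC) fD, Set.ncard_union_eq hd1 (fA.union fB) fC,
      Set.ncard_union_eq dAB fA fB]
  have hle : (A ∪ B ∪ C ∪ D).ncard ≤ 𝒴.ncard := Set.ncard_le_ncard hsub hfin
  have heq : A ∪ B ∪ C ∪ D = 𝒴 := Set.eq_of_subset_of_ncard_le hsub (by omega) hfin
  exact ⟨by omega, by omega, by omega, by omega, heq.symm⟩

end Partition

section Decomp

variable {α β : Type*} [MulAction (Equiv.Perm GolayPt) α] [MulAction (Equiv.Perm GolayPt) β]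

/-- The family `𝒴` is the union of three orbits, of given sizes, of the stabilizer of `X`. -/
def Decomp3 (X : α) (𝒴 : Set β) (a b c : ℕ) : Prop :=
  ∃ y₁ ∈ 𝒴, ∃ y₂ ∈ 𝒴, ∃ y₃ ∈ 𝒴, (stabOrbit X y₁).ncard = a ∧ (stabOrbit X y₂).ncard = b ∧
    (stabOrbit X y₃).ncard = c ∧ 𝒴 = stabOrbit X y₁ ∪ stabOrbit X y₂ ∪ stabOrbit X y₃

/-- The family `𝒴` is the union of four orbits, of given sizes, of the stabilizer of `X`. -/
def Decomp4 (X : α) (𝒴 : Set β) (a b c d : ℕ) : Prop :=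
  ∃ y₁ ∈ 𝒴, ∃ y₂ ∈ 𝒴, ∃ y₃ ∈ 𝒴, ∃ y₄ ∈ 𝒴, (stabOrbit X y₁).ncard = a ∧ (stabOrbit X y₂).ncard = b ∧
    (stabOrbit X y₃).ncard = c ∧ (stabOrbit X y₄).ncard = d ∧
    𝒴 = stabOrbit X y₁ ∪ stabOrbit X y₂ ∪ stabOrbit X y₃ ∪ stabOrbit X y₄

theorem smul_family_eq {𝒴 : Set β} (h𝒴 : ∀ g ∈ M24, ∀ y ∈ 𝒴, g • y ∈ 𝒴) {k : Equiv.Perm GolayPt}
    (hk : k ∈ M24) : (fun z => k • z) '' 𝒴 = 𝒴 := by
  ext z
  constructor
  · rintro ⟨y, hy, rfl⟩
    exact h𝒴 k hk y hy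
  · intro hz
    exact ⟨k⁻¹ • z, h𝒴 _ (Subgroup.inv_mem _ hk) z hz, smul_inv_smul _ _⟩

theorem Decomp3.smul {X : α} {𝒴 : Set β} {a b c : ℕ} (h : Decomp3 X 𝒴 a b c)
    (h𝒴 : ∀ g ∈ M24, ∀ y ∈ 𝒴, g • y ∈ 𝒴) {k : Equiv.Perm GolayPt} (hk : k ∈ M24) :
    Decomp3 (k • X) 𝒴 a b c := by
  obtain ⟨y₁, h₁, y₂, h₂, y₃, h₃, ha, hb, hc, hU⟩ := h
  refine ⟨k • y₁, h𝒴 k hk _ h₁, k • y₂, h𝒴 k hk _ h₂, k • y₃, h𝒴 k hk _ h₃, ?_, ?_, ?_, ?_⟩
  · rw [ncard_stabOrbit_smul hk, ha]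
  · rw [ncard_stabOrbit_smul hk, hb]
  · rw [ncard_stabOrbit_smul hk, hc]
  · rw [stabOrbit_smul hk, stabOrbit_smul hk, stabOrbit_smul hk, ← Set.image_union, ← Set.image_union, ← hU,
      smul_family_eq h𝒴 hk]

theorem Decomp4.smul {X : α} {𝒴 : Set β} {a b c d : ℕ} (h : Decomp4 X 𝒴 a b c d)
    (h𝒴 : ∀ g ∈ M24, ∀ y ∈ 𝒴, g • y ∈ 𝒴) {k : Equiv.Perm GolayPt} (hk : k ∈ M24) :
    Decomp4 (k • X) 𝒴 a b c d := by
  obtain ⟨y₁, h₁, y₂, h₂, y₃, h₃, y₄, h₄, ha, hb, hc, hd, hU⟩ := h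
  refine ⟨k • y₁, h𝒴 k hk _ h₁, k • y₂, h𝒴 k hk _ h₂, k • y₃, h𝒴 k hk _ h₃, k • y₄, h𝒴 k hk _ h₄,
    ?_, ?_, ?_, ?_, ?_⟩
  · rw [ncard_stabOrbit_smul hk, ha]
  · rw [ncard_stabOrbit_smul hk, hb]
  · rw [ncard_stabOrbit_smul hk, hc]
  · rw [ncard_stabOrbit_smul hk, hd]
  · rw [stabOrbit_smul hk, stabOrbit_smul hk, stabOrbit_smul hk, stabOrbit_smul hk, ← Set.image_union,
      ← Set.image_union, ← Set.image_union, ← hU, smul_family_eq h𝒴 hk]

theorem decomp3_of_lower {X : α} {𝒴 : Set β} (hfin : 𝒴.Finite) (h𝒴 : ∀ g ∈ M24, ∀ y ∈ 𝒴, g • y ∈ 𝒴)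
    {y₁ y₂ y₃ : β} (h₁ : y₁ ∈ 𝒴) (h₂ : y₂ ∈ 𝒴) (h₃ : y₃ ∈ 𝒴) {a b c : ℕ}
    (ha : a ≤ (stabOrbit X y₁).ncard) (hb : b ≤ (stabOrbit X y₂).ncard) (hc : c ≤ (stabOrbit X y₃).ncard)
    (hsum : a + b + c = 𝒴.ncard) (n12 : y₂ ∉ stabOrbit X y₁) (n13 : y₃ ∉ stabOrbit X y₁)
    (n23 : y₃ ∉ stabOrbit X y₂) : Decomp3 X 𝒴 a b c := by
  obtain ⟨e1, e2, e3, e4⟩ := three_partition hfin (stabOrbit_subset h𝒴 h₁) (stabOrbit_subset h𝒴 h₂)
    (stabOrbit_subset h𝒴 h₃) (stabOrbit_disjoint n12) (stabOrbit_disjoint n13) (stabOrbit_disjoint n23)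
    ha hb hc hsum
  exact ⟨y₁, h₁, y₂, h₂, y₃, h₃, e1, e2, e3, e4⟩

theorem decomp4_of_lower {X : α} {𝒴 : Set β} (hfin : 𝒴.Finite) (h𝒴 : ∀ g ∈ M24, ∀ y ∈ 𝒴, g • y ∈ 𝒴)
    {y₁ y₂ y₃ y₄ : β} (h₁ : y₁ ∈ 𝒴) (h₂ : y₂ ∈ 𝒴) (h₃ : y₃ ∈ 𝒴) (h₄ : y₄ ∈ 𝒴) {a b c d : ℕ}
    (ha : a ≤ (stabOrbit X y₁).ncard) (hb : b ≤ (stabOrbit X y₂).ncard) (hc : c ≤ (stabOrbit X y₃).ncard)
    (hd : d ≤ (stabOrbit X y₄).ncard)
    (hsum : a + b + c + d = 𝒴.ncard) (n12 : y₂ ∉ stabOrbit X y₁) (n13 : y₃ ∉ stabOrbit X y₁)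
    (n14 : y₄ ∉ stabOrbit X y₁) (n23 : y₃ ∉ stabOrbit X y₂) (n24 : y₄ ∉ stabOrbit X y₂)
    (n34 : y₄ ∉ stabOrbit X y₃) : Decomp4 X 𝒴 a b c d := by
  obtain ⟨e1, e2, e3, e4, e5⟩ := four_partition hfin (stabOrbit_subset h𝒴 h₁) (stabOrbit_subset h𝒴 h₂)
    (stabOrbit_subset h𝒴 h₃) (stabOrbit_subset h𝒴 h₄) (stabOrbit_disjoint n12) (stabOrbit_disjoint n13)
    (stabOrbit_disjoint n14) (stabOrbit_disjoint n23) (stabOrbit_disjoint n24) (stabOrbit_disjoint n34)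
    ha hb hc hd hsum
  exact ⟨y₁, h₁, y₂, h₂, y₃, h₃, y₄, h₄, e1, e2, e3, e4, e5⟩

end Decomp

section Cert

variable {γ : Type*}

/-- Apply a word in the generators, leftmost letter first. -/
def applyW (step : ℕ → γ → γ) (w : List ℕ) (root : γ) : γ := w.foldl (fun z j => step j z) root

/-- Boolean certificate: the `i`-th word maps the root to something equivalent to the `i`-th target. -/
def certB (step : ℕ → γ → γ) (same : γ → ℕ → Bool) (root : γ) : List ℕ → List (List ℕ) → Bool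
  | [], [] => true
  | b :: L, w :: W => same (applyW step w root) b && certB step same root L W
  | _, _ => false

theorem certB_spec (step : ℕ → γ → γ) (same : γ → ℕ → Bool) (root : γ) :
    ∀ (L : List ℕ) (W : List (List ℕ)), certB step same root L W = true →
      ∀ b ∈ L, ∃ w, same (applyW step w root) b = true
  | [], _, _ => fun _ hb => absurd hb List.not_mem_nil
  | b :: L, [], h => by simp [certB] at h
  | b :: L, w :: W, h => by
    unfold certB at h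
    rw [Bool.and_eq_true] at h
    intro b' hb'
    rcases List.mem_cons.mp hb' with rfl | hb'
    · exact ⟨w, h.1⟩
    · exact certB_spec step same root L W h.2 b' hb'

theorem getD_eq_or_mem {δ : Type*} (l : List δ) (j : ℕ) (d : δ) : l.getD j d = d ∨ l.getD j d ∈ l := by
  by_cases h : j < l.length
  · right
    rw [List.getD_eq_getElem _ _ h]
    exact List.getElem_mem h
  · left
    exact List.getD_eq_default _ _ (by omega)

variable {α β : Type*} [MulAction (Equiv.Perm GolayPt) α] [MulAction (Equiv.Perm GolayPt) β]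

/-- Applying a word in generators that fix `X` keeps us inside the orbit. -/
theorem applyW_mem_stabOrbit (X : α) (y : β) (F' : γ → β) (V : γ → Prop) (actB : List ℕ → γ → γ)
    (hact : ∀ a z, tabOK a = true → tperm a ∈ M24 → V z → V (actB a z) ∧ F' (actB a z) = tperm a • F' z)
    (gens : List (List ℕ)) (idt : List ℕ)
    (hgens : ∀ a, a = idt ∨ a ∈ gens → tabOK a = true ∧ tperm a ∈ M24 ∧ tperm a • X = X) :
    ∀ (w : List ℕ) (z : γ), V z → F' z ∈ stabOrbit X y →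
      V (applyW (fun j z => actB (gens.getD j idt) z) w z) ∧
        F' (applyW (fun j z => actB (gens.getD j idt) z) w z) ∈ stabOrbit X y
  | [], z, hV, hz => ⟨hV, hz⟩
  | j :: w, z, hV, hz => by
    obtain ⟨h1, h2, h3⟩ := hgens (gens.getD j idt) (getD_eq_or_mem gens j idt)
    obtain ⟨hV', hF'⟩ := hact (gens.getD j idt) z h1 h2 hV
    have hz' : F' (actB (gens.getD j idt) z) ∈ stabOrbit X y := by
      rw [hF']
      exact smul_mem_stabOrbit hz h2 h3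
    exact applyW_mem_stabOrbit X y F' V actB hact gens idt hgens w _ hV' hz'

/-- A lower bound for an orbit from a duplicate-free list of distinct members. -/
theorem ncard_lower {O : Set β} (hfin : O.Finite) (L : List ℕ) (F : ℕ → β) (hnd : L.Nodup)
    (hinj : ∀ a ∈ L, ∀ b ∈ L, F a = F b → a = b) (hmem : ∀ b ∈ L, F b ∈ O) : L.length ≤ O.ncard := by
  classical
  have hinjOn : Set.InjOn F {b | b ∈ L} := fun a ha b hb h => hinj a ha b hb h
  have hsub : F '' {b | b ∈ L} ⊆ O := by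
    rintro x ⟨b, hb, rfl⟩
    exact hmem b hb
  have := Set.ncard_le_ncard hsub hfin
  rwa [hinjOn.ncard_image, ← List.coe_toFinset, Set.ncard_coe_finset, List.toFinset_card_of_nodup hnd] at this

/-- The full certificate lemma: a list of targets, each reached by a word, bounds the orbit from below. -/
theorem orbit_lower_of_cert [Finite β] (X : α) (F' : γ → β) (V : γ → Prop) (actB : List ℕ → γ → γ)
    (hact : ∀ a z, tabOK a = true → tperm a ∈ M24 → V z → V (actB a z) ∧ F' (actB a z) = tperm a • F' z)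
    (gens : List (List ℕ)) (idt : List ℕ)
    (hgens : ∀ a, a = idt ∨ a ∈ gens → tabOK a = true ∧ tperm a ∈ M24 ∧ tperm a • X = X)
    (root : γ) (hroot : V root) (F : ℕ → β) (same : γ → ℕ → Bool) (L : List ℕ) (W : List (List ℕ))
    (hsame : ∀ z b, V z → b ∈ L → same z b = true → F' z = F b)
    (hnd : L.Nodup) (hinj : ∀ a ∈ L, ∀ b ∈ L, F a = F b → a = b)
    (hcert : certB (fun j z => actB (gens.getD j idt) z) same root L W = true) :
    L.length ≤ (stabOrbit X (F' root)).ncard := by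
  apply ncard_lower (Set.toFinite _) L F hnd hinj
  intro b hb
  obtain ⟨w, hw⟩ := certB_spec _ same root L W hcert b hb
  obtain ⟨hV, hmem⟩ := applyW_mem_stabOrbit X (F' root) F' V actB hact gens idt hgens w root hroot
    (mem_stabOrbit_self X _)
  rw [← hsame _ b hV hb hw]
  exact hmem

end Cert

end Cfsg.Agent.Lib.Helper9.M24
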