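import Mathlib
import Cfsg.Prelude.Def_Sporadic_a
import Cfsg.Prelude.Def_SporadicCombinatorics
import Cfsg.Agent.Lib.Helper9.OrbitCert
import Cfsg.Agent.Lib.Helper9.EnumTrio

set_option autoImplicit false
open Cfsg

/-! The three kinds of objects (point sets, sextets, trios) as codes with a table action, for the orbit
certificates; Boolean tests that a table permutation fixes a reference object. -/

namespace Cfsg.Agent.Lib.Helper9.M24

open scoped Pointwise
open Cfsg.Agent.Lib.Helper1 (gIdx ofMask cw popcN)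

/-! ### Point sets -/

theorem hact_set : ∀ (a : List ℕ) (z : ℕ), tabOK a = true → tperm a ∈ M24 → z < 2 ^ 24 →
    pmaskF a z < 2 ^ 24 ∧ mset (pmaskF a z) = tperm a • mset z := by
  intro a z h _ hz
  exact ⟨pmaskF_lt h hz, (smul_mset h hz).symm⟩

/-- Equality test on masks. -/
def sameSet (z b : ℕ) : Bool := z == b

theorem sameSet_spec {z b : ℕ} (h : sameSet z b = true) : mset z = mset b := by
  unfold sameSet at h
  rw [beq_iff_eq] at h
  rw [h]

/-! ### Sextets -/

/-- Valid four-point masks. -/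
def VTet (z : ℕ) : Prop := z < 2 ^ 24 ∧ (mset z).card = 4

theorem hact_sext : ∀ (a : List ℕ) (z : ℕ), tabOK a = true → tperm a ∈ M24 → VTet z →
    VTet (pmaskF a z) ∧ sextOf (mset (pmaskF a z)) = tperm a • sextOf (mset z) := by
  intro a z h hmem hz
  refine ⟨⟨pmaskF_lt h hz.1, ?_⟩, ?_⟩
  · rw [← smul_mset h hz.1, card_smul_set]
    exact hz.2
  · rw [smul_sextOf hmem hz.2, smul_mset h hz.1]

/-- Test that two four-point masks lie in the same sextet. -/
def sameSext (z b : ℕ) : Bool := isCodeF (b ^^^ z)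

theorem sameSext_spec {z b : ℕ} (hz : VTet z) (hb : VTet b) (h : sameSext z b = true) :
    sextOf (mset z) = sextOf (mset b) := by
  rw [sextOf_eq_iff hb.2 hz.2, mem_sextOf]
  refine ⟨hz.2, ?_⟩
  rw [← mset_xor, codeSet_mset_iff' (xor_lt hb.1 hz.1)]
  exact h

theorem tetLit_VTet {m : ℕ} (hm : m ∈ tetLit) : VTet m := ⟨(tetLit_spec hm).1, (tetLit_spec hm).2.1⟩

theorem tetLit_inj {m n : ℕ} (hm : m ∈ tetLit) (hn : n ∈ tetLit)
    (h : sextOf (mset m) = sextOf (mset n)) : m = n := by
  obtain ⟨h1, h2, h3⟩ := tetLit_spec hm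
  obtain ⟨h1', h2', h3'⟩ := tetLit_spec hn
  exact sextOf_mset_inj h1 h1' h2 h2' h3 h3' h

/-! ### Trios -/

/-- Valid pairs of disjoint octad masks. -/
def VTrio (z : ℕ × ℕ) : Prop :=
  z.1 < 2 ^ 24 ∧ z.2 < 2 ^ 24 ∧ mset z.1 ∈ octads ∧ mset z.2 ∈ octads ∧ Disjoint (mset z.1) (mset z.2)

/-- The trio of a pair of masks. -/
def trioF (z : ℕ × ℕ) : Finset (Finset GolayPt) := trioOf (mset z.1) (mset z.2)

theorem smul_trioOf (g : Equiv.Perm GolayPt) (o o' : Finset GolayPt) :
    g • trioOf o o' = trioOf (g • o) (g • o') := by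
  unfold trioOf
  rw [smul_family_eq_image, Finset.image_insert, Finset.image_insert, Finset.image_singleton]
  congr 2
  rw [smul_finset_eq_image', smul_finset_eq_image', smul_finset_eq_image', image_compl_perm, Finset.image_union]

theorem hact_trio : ∀ (a : List ℕ) (z : ℕ × ℕ), tabOK a = true → tperm a ∈ M24 → VTrio z →
    VTrio (pmaskF a z.1, pmaskF a z.2) ∧ trioF (pmaskF a z.1, pmaskF a z.2) = tperm a • trioF z := by
  intro a z h hmem hz
  obtain ⟨h1, h2, h3, h4, h5⟩ := hz
  refine ⟨⟨pmaskF_lt h h1, pmaskF_lt h h2, ?_, ?_, ?_⟩, ?_⟩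
  · show mset (pmaskF a z.1) ∈ octads
    rw [← smul_mset h h1]
    exact octads_smul hmem h3
  · show mset (pmaskF a z.2) ∈ octads
    rw [← smul_mset h h2]
    exact octads_smul hmem h4
  · show Disjoint (mset (pmaskF a z.1)) (mset (pmaskF a z.2))
    rw [← smul_mset h h1, ← smul_mset h h2, smul_finset_eq_image', smul_finset_eq_image']
    exact (Finset.disjoint_image (tperm a).injective).mpr h5
  · unfold trioF
    rw [smul_trioOf, smul_mset h h1, smul_mset h h2]

/-- Test that a pair of masks gives the packed trio `n`. -/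
def sameTrio (z : ℕ × ℕ) (n : ℕ) : Bool :=
  (z.1 == trioM1 n || z.1 == trioM2 n || z.1 == trioM3 n) &&
    (z.2 == trioM1 n || z.2 == trioM2 n || z.2 == trioM3 n)

theorem sameTrio_spec {z : ℕ × ℕ} {n : ℕ} (hz : VTrio z) (hn : n ∈ trioLit) (h : sameTrio z n = true) :
    trioF z = trioOf (mset (trioM1 n)) (mset (trioM2 n)) := by
  obtain ⟨h1, h2, h3, h4, h5⟩ := hz
  obtain ⟨hn1, -, -, -, -, -⟩ := trioLit_spec hn
  unfold sameTrio at h
  simp only [Bool.and_eq_true, Bool.or_eq_true, beq_iff_eq] at h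
  have m1 : mset z.1 ∈ trioOf (mset (trioM1 n)) (mset (trioM2 n)) := by
    rw [mem_trioOf_mset hn1 h1]
    tauto
  have m2 : mset z.2 ∈ trioOf (mset (trioM1 n)) (mset (trioM2 n)) := by
    rw [mem_trioOf_mset hn1 h2]
    tauto
  exact trio_eq_trioOf (trioLit_mem hn) m1 m2 (octad_ne_of_disjoint h3 h5)

/-- Boolean validity test for a pair of masks. -/
def vTrioB (z : ℕ × ℕ) : Bool :=
  decide (z.1 < 16777216) && decide (z.2 < 16777216) && isOct z.1 && isOct z.2 && (z.1 &&& z.2 == 0)

theorem vTrio_of_B {z : ℕ × ℕ} (h : vTrioB z = true) : VTrio z := by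
  unfold vTrioB at h
  simp only [Bool.and_eq_true, decide_eq_true_eq, beq_iff_eq] at h
  obtain ⟨⟨⟨⟨h1, h2⟩, h3⟩, h4⟩, h5⟩ := h
  have h1' : z.1 < 2 ^ 24 := h1
  have h2' : z.2 < 2 ^ 24 := h2
  exact ⟨h1', h2', (mset_mem_octads_iff h1').mpr h3, (mset_mem_octads_iff h2').mpr h4,
    (mset_disjoint_iff h1').mpr h5⟩

theorem trioF_mem_trios {z : ℕ × ℕ} (hz : VTrio z) : trioF z ∈ trios :=
  trioOf_mem_trios hz.2.2.1 hz.2.2.2.1 hz.2.2.2.2

/-! ### Tests that a table permutation fixes a reference object -/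

/-- Test for a trio given by a valid pair of masks. -/
def trioFixP (a : List ℕ) (z : ℕ × ℕ) : Bool :=
  (pmaskF a z.1 == z.1 || pmaskF a z.1 == z.2 || pmaskF a z.1 == 16777215 ^^^ (z.1 ||| z.2)) &&
    (pmaskF a z.2 == z.1 || pmaskF a z.2 == z.2 || pmaskF a z.2 == 16777215 ^^^ (z.1 ||| z.2))

theorem smul_trioF_of_test {a : List ℕ} (h : tabOK a = true) (hmem : tperm a ∈ M24) {z : ℕ × ℕ}
    (hz : VTrio z) (ht : trioFixP a z = true) : tperm a • trioF z = trioF z := by
  obtain ⟨h1, h2, h3, h4, h5⟩ := hz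
  have hT : trioF z ∈ trios := trioF_mem_trios ⟨h1, h2, h3, h4, h5⟩
  rw [trio_smul_eq_iff hmem hT (mem_trioOf_left _ _) (mem_trioOf_right _ _) (octad_ne_of_disjoint h3 h5),
    smul_mset h h1, smul_mset h h2]
  unfold trioFixP at ht
  simp only [Bool.and_eq_true, Bool.or_eq_true, beq_iff_eq] at ht
  unfold trioF
  rw [mem_trioOf_iff, mem_trioOf_iff, third_mset]
  obtain ⟨t1, t2⟩ := ht
  constructor
  · rcases t1 with (t1 | t1) | t1
    · exact Or.inl (by rw [t1])
    · exact Or.inr (Or.inl (by rw [t1]))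
    · exact Or.inr (Or.inr (by rw [t1]))
  · rcases t2 with (t2 | t2) | t2
    · exact Or.inl (by rw [t2])
    · exact Or.inr (Or.inl (by rw [t2]))
    · exact Or.inr (Or.inr (by rw [t2]))

/-- The pair of a set of twelve points and its complement. -/
def dodPair (d : Finset GolayPt) : Finset (Finset GolayPt) := {d, Finset.univ \ d}

/-- Test for the pair of a mask set and its complement. -/
def pairFixP (a : List ℕ) (d : ℕ) : Bool := pmaskF a d == d || pmaskF a d == 16777215 ^^^ d

theorem smul_dodPair_of_test {a : List ℕ} (h : tabOK a = true) {d : ℕ} (hd : d < 2 ^ 24)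
    (ht : pairFixP a d = true) : tperm a • dodPair (mset d) = dodPair (mset d) := by
  unfold dodPair
  rw [smul_family_eq_image, Finset.image_insert, Finset.image_singleton]
  have e1 : tperm a • mset d = mset (pmaskF a d) := smul_mset h hd
  have e2 : tperm a • (Finset.univ \ mset d) = Finset.univ \ mset (pmaskF a d) := by
    rw [← Finset.compl_eq_univ_sdiff, ← Finset.compl_eq_univ_sdiff, smul_finset_eq_image', image_compl_perm,
      ← smul_finset_eq_image', e1]
  rw [e1, e2]
  unfold pairFixP at ht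
  rw [Bool.or_eq_true, beq_iff_eq, beq_iff_eq] at ht
  rcases ht with ht | ht
  · rw [ht]
  · rw [ht, ← mset_compl, ← Finset.compl_eq_univ_sdiff, ← Finset.compl_eq_univ_sdiff, compl_compl]
    exact Finset.pair_comm _ _

end Cfsg.Agent.Lib.Helper9.M24
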