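import Mathlib
import Cfsg.Prelude.Def_Sporadic_a
import Cfsg.Prelude.Def_SporadicCombinatorics
import Cfsg.Agent.Lib.Helper9.OrbitFam

set_option autoImplicit false
open Cfsg

/-! A separating invariant for pairs of families of point sets: the number of pairs of members meeting
in a given number of points; its computation on families given by lists of masks. -/

namespace Cfsg.Agent.Lib.Helper9.M24

open scoped Pointwise
open Cfsg.Agent.Lib.Helper1 (gIdx ofMask cw popcN)

/-- The number of pairs of members of two families meeting in exactly `j` points. -/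
def pairInv (j : ℕ) (A B : Finset (Finset GolayPt)) : ℕ :=
  ∑ a ∈ A, ∑ b ∈ B, if (a ∩ b).card = j then 1 else 0

theorem card_smul_inter (g : Equiv.Perm GolayPt) (a b : Finset GolayPt) :
    (g • a ∩ g • b).card = (a ∩ b).card := by
  rw [smul_finset_eq_image', smul_finset_eq_image', ← Finset.image_inter _ _ g.injective,
    Finset.card_image_of_injective _ g.injective]

theorem pairInv_smul (j : ℕ) (g : Equiv.Perm GolayPt) (A B : Finset (Finset GolayPt)) :
    pairInv j (g • A) (g • B) = pairInv j A B := by
  unfold pairInv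
  rw [smul_family_eq_image, smul_family_eq_image, Finset.sum_image (fun x _ y _ h => MulAction.injective g h)]
  apply Finset.sum_congr rfl
  intro a _
  rw [Finset.sum_image (fun x _ y _ h => MulAction.injective g h)]
  apply Finset.sum_congr rfl
  intro b _
  rw [card_smul_inter]

theorem smul_singleton_family (g : Equiv.Perm GolayPt) (o : Finset GolayPt) :
    g • ({o} : Finset (Finset GolayPt)) = {g • o} := by
  rw [smul_family_eq_image, Finset.image_singleton]

/-- Non-membership in an orbit from an invariant. -/
theorem not_mem_stabOrbit_of_inv {α β : Type*} [MulAction (Equiv.Perm GolayPt) α]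
    [MulAction (Equiv.Perm GolayPt) β] (I : α → β → ℕ)
    (hI : ∀ (g : Equiv.Perm GolayPt) (X : α) (y : β), I (g • X) (g • y) = I X y) {X : α} {y₁ y₂ : β}
    (hne : I X y₁ ≠ I X y₂) : y₂ ∉ stabOrbit X y₁ := by
  rintro ⟨g, -, hgX, rfl⟩
  apply hne
  have := hI g X y₁
  rw [hgX] at this
  exact this.symm

/-- The invariants for the four combinations of a point set or a family against a point set or a family. -/
def invSF (j : ℕ) (o : Finset GolayPt) (B : Finset (Finset GolayPt)) : ℕ := pairInv j {o} B
def invFS (j : ℕ) (A : Finset (Finset GolayPt)) (o : Finset GolayPt) : ℕ := pairInv j A {o}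

theorem invSF_smul (j : ℕ) (g : Equiv.Perm GolayPt) (o : Finset GolayPt) (B : Finset (Finset GolayPt)) :
    invSF j (g • o) (g • B) = invSF j o B := by
  unfold invSF
  rw [← smul_singleton_family, pairInv_smul]

theorem invFS_smul (j : ℕ) (g : Equiv.Perm GolayPt) (A : Finset (Finset GolayPt)) (o : Finset GolayPt) :
    invFS j (g • A) (g • o) = invFS j A o := by
  unfold invFS
  rw [← smul_singleton_family, pairInv_smul]

/-! ### Computation on lists of masks -/

/-- The family of the mask sets of a list of masks. -/
def msetsOf (L : List ℕ) : Finset (Finset GolayPt) := (L.map mset).toFinset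

/-- The invariant on lists of masks. -/
def pairInvL (j : ℕ) (LA LB : List ℕ) : ℕ :=
  (LA.map (fun a => (LB.map (fun b => if popcN 24 (a &&& b) = j then 1 else 0)).sum)).sum

/-- Validity test for a list of masks: strictly increasing and below `2 ^ 24`. -/
def masksOK (L : List ℕ) : Bool := chainB 0 L && L.all (fun m => decide (m < 16777216))

theorem masksOK_nodup {L : List ℕ} (h : masksOK L = true) : (L.map mset).Nodup := by
  unfold masksOK at h
  rw [Bool.and_eq_true] at h
  have hnd := nodup_of_chainB h.1
  have hall := List.all_eq_true.mp h.2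
  apply List.Nodup.map_on _ hnd
  intro a ha b hb hab
  have h1 := hall a ha
  have h2 := hall b hb
  rw [decide_eq_true_eq] at h1 h2
  exact mset_injOn h1 h2 hab

theorem sum_msetsOf {L : List ℕ} (h : masksOK L = true) (f : Finset GolayPt → ℕ) :
    ∑ a ∈ msetsOf L, f a = (L.map (fun m => f (mset m))).sum := by
  unfold msetsOf
  rw [List.sum_toFinset f (masksOK_nodup h), List.map_map]
  rfl

theorem pairInv_msetsOf (j : ℕ) {LA LB : List ℕ} (hA : masksOK LA = true) (hB : masksOK LB = true) :
    pairInv j (msetsOf LA) (msetsOf LB) = pairInvL j LA LB := by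
  unfold pairInv pairInvL
  rw [sum_msetsOf hA]
  congr 1
  apply List.map_congr_left
  intro a _
  rw [sum_msetsOf hB]
  congr 1
  apply List.map_congr_left
  intro b _
  rw [← mset_and, card_mset]

theorem card_msetsOf {L : List ℕ} (h : masksOK L = true) : (msetsOf L).card = L.length := by
  unfold msetsOf
  rw [List.toFinset_card_of_nodup (masksOK_nodup h), List.length_map]

theorem singleton_eq_msetsOf (m : ℕ) : ({mset m} : Finset (Finset GolayPt)) = msetsOf [m] := by
  unfold msetsOf
  simp

/-- The sextet of a four-point mask as a list of six masks. -/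
theorem sextOf_eq_msetsOf {t : ℕ} (ht : t < 2 ^ 24) (h4 : popcN 24 t = 4) {L : List ℕ} (hL : masksOK L = true)
    (h6 : L.length = 6) (hall : L.all (fun u => (popcN 24 u == 4) && isCodeF (t ^^^ u)) = true) :
    sextOf (mset t) = msetsOf L := by
  have hT : (mset t).card = 4 := by rw [card_mset, h4]
  symm
  apply Finset.eq_of_subset_of_card_le
  · intro U hU
    unfold msetsOf at hU
    rw [List.mem_toFinset, List.mem_map] at hU
    obtain ⟨u, hu, rfl⟩ := hU
    have h1 := List.all_eq_true.mp hall u hu
    rw [Bool.and_eq_true, beq_iff_eq] at h1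
    unfold masksOK at hL
    rw [Bool.and_eq_true] at hL
    have hu24 := List.all_eq_true.mp hL.2 u hu
    rw [decide_eq_true_eq] at hu24
    rw [mem_sextOf]
    refine ⟨by rw [card_mset, h1.1], ?_⟩
    rw [← mset_xor, codeSet_mset_iff' (xor_lt ht hu24)]
    exact h1.2
  · rw [card_sextOf hT, card_msetsOf hL, h6]

/-- A trio of masks as a list of three masks (in any order making the list increasing). -/
theorem trioOf_eq_msetsOf {m1 m2 : ℕ} {L : List ℕ} (hL : masksOK L = true) (h3 : L.length = 3)
    (h1 : m1 ∈ L) (h2 : m2 ∈ L) (h3' : 16777215 ^^^ (m1 ||| m2) ∈ L)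
    (hne12 : m1 ≠ m2) (hne13 : m1 ≠ 16777215 ^^^ (m1 ||| m2)) (hne23 : m2 ≠ 16777215 ^^^ (m1 ||| m2)) :
    trioOf (mset m1) (mset m2) = msetsOf L := by
  unfold trioOf
  rw [third_mset]
  have hall : ∀ m ∈ L, m < 2 ^ 24 := by
    intro m hm
    unfold masksOK at hL
    rw [Bool.and_eq_true] at hL
    have := List.all_eq_true.mp hL.2 m hm
    rwa [decide_eq_true_eq] at this
  apply Finset.eq_of_subset_of_card_le
  · intro U hU
    rw [Finset.mem_insert, Finset.mem_insert, Finset.mem_singleton] at hU
    unfold msetsOf
    rw [List.mem_toFinset, List.mem_map]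
    rcases hU with rfl | rfl | rfl
    · exact ⟨m1, h1, rfl⟩
    · exact ⟨m2, h2, rfl⟩
    · exact ⟨_, h3', rfl⟩
  · rw [card_msetsOf hL, h3]
    have i12 : mset m1 ≠ mset m2 := fun h => hne12 (mset_injOn (hall _ h1) (hall _ h2) h)
    have i13 : mset m1 ≠ mset (16777215 ^^^ (m1 ||| m2)) :=
      fun h => hne13 (mset_injOn (hall _ h1) (hall _ h3') h)
    have i23 : mset m2 ≠ mset (16777215 ^^^ (m1 ||| m2)) :=
      fun h => hne23 (mset_injOn (hall _ h2) (hall _ h3') h)
    rw [Finset.card_insert_of_notMem, Finset.card_insert_of_notMem, Finset.card_singleton]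
    · rw [Finset.mem_singleton]; exact i23
    · rw [Finset.mem_insert, Finset.mem_singleton]
      rintro (h | h)
      · exact i12 h
      · exact i13 h

/-- A set and its complement as a list of two masks. -/
theorem dodPair_eq_msetsOf {d : ℕ} {L : List ℕ} (hL : masksOK L = true) (h2 : L.length = 2)
    (h1 : d ∈ L) (h1' : 16777215 ^^^ d ∈ L) (hne : d ≠ 16777215 ^^^ d) :
    dodPair (mset d) = msetsOf L := by
  unfold dodPair
  rw [← Finset.compl_eq_univ_sdiff, mset_compl]
  have hall : ∀ m ∈ L, m < 2 ^ 24 := by
    intro m hm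
    unfold masksOK at hL
    rw [Bool.and_eq_true] at hL
    have := List.all_eq_true.mp hL.2 m hm
    rwa [decide_eq_true_eq] at this
  apply Finset.eq_of_subset_of_card_le
  · intro U hU
    rw [Finset.mem_insert, Finset.mem_singleton] at hU
    unfold msetsOf
    rw [List.mem_toFinset, List.mem_map]
    rcases hU with rfl | rfl
    · exact ⟨d, h1, rfl⟩
    · exact ⟨_, h1', rfl⟩
  · rw [card_msetsOf hL, h2, Finset.card_insert_of_notMem, Finset.card_singleton]
    rw [Finset.mem_singleton]
    exact fun h => hne (mset_injOn (hall _ h1) (hall _ h1') h)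

end Cfsg.Agent.Lib.Helper9.M24
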