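import Mathlib
import Cfsg.Prelude.Def_Sporadic_a
import Cfsg.Prelude.Def_SporadicCombinatorics
import Cfsg.Agent.Lib.Helper9.PairInv

set_option autoImplicit false
open Cfsg

/-! Orbit lower bounds from Boolean certificates, for orbits on octads, sextets and trios. -/

namespace Cfsg.Agent.Lib.Helper9.M24

open scoped Pointwise
open Cfsg.Agent.Lib.Helper1 (gIdx ofMask cw popcN)

/-- The identity table. -/
def idt : List ℕ := List.range 24

/-- Boolean test of a generator: a valid table in the group passing the fixing test. -/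
def genOK (fix : List ℕ → Bool) (a : List ℕ) : Bool := tabOK a && tabM24 a && fix a

theorem gens_spec {α : Type*} [MulAction (Equiv.Perm GolayPt) α] (X : α) (fix : List ℕ → Bool)
    (hfix : ∀ a, tabOK a = true → tperm a ∈ M24 → fix a = true → tperm a • X = X)
    (gens : List (List ℕ)) (hgens : (idt :: gens).all (genOK fix) = true) :
    ∀ a, a = idt ∨ a ∈ gens → tabOK a = true ∧ tperm a ∈ M24 ∧ tperm a • X = X := by
  intro a ha
  have hmem : a ∈ idt :: gens := by
    rcases ha with rfl | ha
    · exact List.mem_cons_self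
    · exact List.mem_cons_of_mem _ ha
  have h := List.all_eq_true.mp hgens a hmem
  unfold genOK at h
  rw [Bool.and_eq_true, Bool.and_eq_true] at h
  have hm := tperm_mem h.1.1 h.1.2
  exact ⟨h.1.1, hm, hfix a h.1.1 hm h.2⟩

section

variable {α : Type*} [MulAction (Equiv.Perm GolayPt) α]

/-- Combined Boolean certificate for an orbit on octads. -/
def orbChkOct (gens : List (List ℕ)) (root n : ℕ) (L : List ℕ) (W : List (List ℕ)) : Bool :=
  decide (root < 16777216) && lenB n L && L.isSublist octLit &&
    certB (fun j z => pmaskF (gens.getD j idt) z) sameSet root L W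

theorem orbit_lower_oct (X : α) (fix : List ℕ → Bool)
    (hfix : ∀ a, tabOK a = true → tperm a ∈ M24 → fix a = true → tperm a • X = X)
    (gens : List (List ℕ)) (hgens : (idt :: gens).all (genOK fix) = true)
    (root n : ℕ) (L : List ℕ) (W : List (List ℕ)) (h : orbChkOct gens root n L W = true) :
    n ≤ (stabOrbit X (mset root)).ncard := by
  unfold orbChkOct at h
  simp only [Bool.and_eq_true, decide_eq_true_eq] at h
  obtain ⟨⟨⟨h1, h2⟩, h3⟩, h4⟩ := h
  have hsub : L.Sublist octLit := List.isSublist_iff_sublist.mp h3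
  rw [← length_of_lenB n L h2]
  apply orbit_lower_of_cert X mset (fun z => z < 2 ^ 24) (fun a z => pmaskF a z) hact_set gens idt
    (gens_spec X fix hfix gens hgens) root h1 mset sameSet L W
  · intro z b _ _ hs
    exact sameSet_spec hs
  · exact hsub.nodup (nodup_of_chainB octLit_chain)
  · intro a ha b hb hab
    exact mset_injOn (octLit_spec (hsub.subset ha)).1 (octLit_spec (hsub.subset hb)).1 hab
  · exact h4

/-- Combined Boolean certificate for an orbit on sextets. -/
def orbChkSext (gens : List (List ℕ)) (root n : ℕ) (L : List ℕ) (W : List (List ℕ)) : Bool :=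
  decide (root < 16777216) && (popcN 24 root == 4) && lenB n L && L.isSublist tetLit &&
    certB (fun j z => pmaskF (gens.getD j idt) z) sameSext root L W

theorem orbit_lower_sext (X : α) (fix : List ℕ → Bool)
    (hfix : ∀ a, tabOK a = true → tperm a ∈ M24 → fix a = true → tperm a • X = X)
    (gens : List (List ℕ)) (hgens : (idt :: gens).all (genOK fix) = true)
    (root n : ℕ) (L : List ℕ) (W : List (List ℕ)) (h : orbChkSext gens root n L W = true) :
    n ≤ (stabOrbit X (sextOf (mset root))).ncard := by
  unfold orbChkSext at h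
  simp only [Bool.and_eq_true, decide_eq_true_eq, beq_iff_eq] at h
  obtain ⟨⟨⟨⟨h1, h1'⟩, h2⟩, h3⟩, h4⟩ := h
  have hsub : L.Sublist tetLit := List.isSublist_iff_sublist.mp h3
  have hroot : VTet root := ⟨h1, by rw [card_mset, h1']⟩
  rw [← length_of_lenB n L h2]
  apply orbit_lower_of_cert X (fun z => sextOf (mset z)) VTet (fun a z => pmaskF a z) hact_sext gens idt
    (gens_spec X fix hfix gens hgens) root hroot (fun z => sextOf (mset z)) sameSext L W
  · intro z b hz hb hs
    exact sameSext_spec hz (tetLit_VTet (hsub.subset hb)) hs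
  · exact hsub.nodup (nodup_of_chainB tetLit_chain)
  · intro a ha b hb hab
    exact tetLit_inj (hsub.subset ha) (hsub.subset hb) hab
  · exact h4

/-- Combined Boolean certificate for an orbit on trios. -/
def orbChkTrio (gens : List (List ℕ)) (root : ℕ × ℕ) (n : ℕ) (L : List ℕ) (W : List (List ℕ)) : Bool :=
  vTrioB root && lenB n L && L.isSublist trioLit &&
    certB (fun j z => (pmaskF (gens.getD j idt) z.1, pmaskF (gens.getD j idt) z.2)) sameTrio root L W

theorem orbit_lower_trio (X : α) (fix : List ℕ → Bool)
    (hfix : ∀ a, tabOK a = true → tperm a ∈ M24 → fix a = true → tperm a • X = X)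
    (gens : List (List ℕ)) (hgens : (idt :: gens).all (genOK fix) = true)
    (root : ℕ × ℕ) (n : ℕ) (L : List ℕ) (W : List (List ℕ)) (h : orbChkTrio gens root n L W = true) :
    n ≤ (stabOrbit X (trioF root)).ncard := by
  unfold orbChkTrio at h
  simp only [Bool.and_eq_true] at h
  obtain ⟨⟨⟨h1, h2⟩, h3⟩, h4⟩ := h
  have hsub : L.Sublist trioLit := List.isSublist_iff_sublist.mp h3
  rw [← length_of_lenB n L h2]
  apply orbit_lower_of_cert X trioF VTrio (fun a z => (pmaskF a z.1, pmaskF a z.2)) hact_trio gens idt
    (gens_spec X fix hfix gens hgens) root (vTrio_of_B h1)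
    (fun n => trioOf (mset (trioM1 n)) (mset (trioM2 n))) sameTrio L W
  · intro z b hz hb hs
    exact sameTrio_spec hz (hsub.subset hb) hs
  · exact hsub.nodup (nodup_of_chainB trioLit_chain)
  · intro a ha b hb hab
    exact trioLit_inj (hsub.subset ha) (hsub.subset hb) hab
  · exact h4

end

/-! Fixing tests for the kinds of reference objects. -/

theorem hfix_set {m : ℕ} (hm : m < 2 ^ 24) :
    ∀ a, tabOK a = true → tperm a ∈ M24 → (pmaskF a m == m) = true → tperm a • mset m = mset m :=
  fun _ h _ ht => (smul_mset_eq_iff h hm).mpr ht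

theorem hfix_sext {m : ℕ} (hm : m < 2 ^ 24) (h4 : (mset m).card = 4) :
    ∀ a, tabOK a = true → tperm a ∈ M24 → sextFixB a m = true →
      tperm a • sextOf (mset m) = sextOf (mset m) :=
  fun _ h hmem ht => (smul_sextOf_mset_iff h hmem hm h4).mpr ht

theorem hfix_trio {z : ℕ × ℕ} (hz : VTrio z) :
    ∀ a, tabOK a = true → tperm a ∈ M24 → trioFixP a z = true → tperm a • trioF z = trioF z :=
  fun _ h hmem ht => smul_trioF_of_test h hmem hz ht

theorem hfix_pair {d : ℕ} (hd : d < 2 ^ 24) :
    ∀ a, tabOK a = true → tperm a ∈ M24 → pairFixP a d = true →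
      tperm a • dodPair (mset d) = dodPair (mset d) :=
  fun _ h _ ht => smul_dodPair_of_test h hd ht

end Cfsg.Agent.Lib.Helper9.M24
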