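import Mathlib
import Cfsg.Prelude.Def_Sporadic_a
import Cfsg.Prelude.Def_Spor_Mathieu
import Cfsg.Agent.Lib.Helper9.OrbitInst

set_option autoImplicit false
open Cfsg

/-! The dodecad of squares as a mask; conjugation of stabilizers; explicit elements of the stabilizer of the
dodecad of squares. -/

namespace Cfsg.Agent.Lib.Helper9.M24

open scoped Pointwise

theorem squareDodecad_eq : Cfsg.Spor.squareDodecad = mset 340831 := by decide

/-- Conjugating the stabilizer of a point set and a point. -/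
theorem conj_smul_stab {g : Equiv.Perm GolayPt} (hg : g ∈ M24) (D : Finset GolayPt) (p : GolayPt) :
    MulAut.conj g • (M24 ⊓ MulAction.stabilizer (Equiv.Perm GolayPt) D ⊓
        MulAction.stabilizer (Equiv.Perm GolayPt) p) =
      M24 ⊓ MulAction.stabilizer (Equiv.Perm GolayPt) (g • D) ⊓
        MulAction.stabilizer (Equiv.Perm GolayPt) (g p) := by
  ext x
  rw [Subgroup.mem_pointwise_smul_iff_inv_smul_mem, Subgroup.mem_inf, Subgroup.mem_inf, Subgroup.mem_inf,
    Subgroup.mem_inf, MulAction.mem_stabilizer_iff, MulAction.mem_stabilizer_iff,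
    MulAction.mem_stabilizer_iff, MulAction.mem_stabilizer_iff]
  have hconj : (MulAut.conj g)⁻¹ • x = g⁻¹ * x * g := by
    rw [MulAut.smul_def, ← map_inv, MulAut.conj_apply, inv_inv]
  rw [hconj]
  have hg' : g⁻¹ ∈ M24 := Subgroup.inv_mem _ hg
  constructor
  · rintro ⟨⟨h1, h2⟩, h3⟩
    refine ⟨⟨?_, ?_⟩, ?_⟩
    · have := Subgroup.mul_mem _ (Subgroup.mul_mem _ hg h1) hg'
      simpa [mul_assoc] using this
    · rw [mul_smul, mul_smul, inv_smul_eq_iff] at h2
      exact h2
    · have h3' : (g⁻¹ * x * g) p = p := h3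
      rw [Equiv.Perm.mul_apply, Equiv.Perm.mul_apply, Equiv.Perm.inv_eq_iff_eq] at h3'
      exact h3'
  · rintro ⟨⟨h1, h2⟩, h3⟩
    refine ⟨⟨Subgroup.mul_mem _ (Subgroup.mul_mem _ hg' h1) hg, ?_⟩, ?_⟩
    · rw [mul_smul, mul_smul, inv_smul_eq_iff]
      exact h2
    · show (g⁻¹ * x * g) p = p
      rw [Equiv.Perm.mul_apply, Equiv.Perm.mul_apply, Equiv.Perm.inv_eq_iff_eq]
      exact h3

theorem smul_sdiff_univ (x : Equiv.Perm GolayPt) (D : Finset GolayPt) :
    x • (Finset.univ \ D) = Finset.univ \ (x • D) := by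
  rw [← Finset.compl_eq_univ_sdiff, ← Finset.compl_eq_univ_sdiff, smul_finset_eq_image', image_compl_perm,
    ← smul_finset_eq_image']

theorem stabilizer_sdiff_univ (D : Finset GolayPt) :
    MulAction.stabilizer (Equiv.Perm GolayPt) (Finset.univ \ D) =
      MulAction.stabilizer (Equiv.Perm GolayPt) D := by
  ext x
  rw [MulAction.mem_stabilizer_iff, MulAction.mem_stabilizer_iff, smul_sdiff_univ,
    ← Finset.compl_eq_univ_sdiff, ← Finset.compl_eq_univ_sdiff, compl_inj_iff]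

/-- The element carrying the dodecad of squares to its complement and the residue 0 to the extra point. -/
def m12swap : List ℕ :=
  [23, 21, 14, 17, 22, 16, 15, 8, 19, 7, 3, 9, 10, 20, 6, 12, 11, 4, 5, 1, 18, 13, 0, 2]

theorem m12swap_ok : (tabOK m12swap && tabM24 m12swap && (pmaskF m12swap 340831 == 16777215 ^^^ 340831) &&
    (tget m12swap 0 == 23)) = true := by decide +kernel

/-- Elements of the stabilizer of the dodecad of squares fixing a point of it and moving the extra point. -/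
def m12wit : List (List ℕ) := [
  [0, 6, 16, 2, 4, 19, 13, 7, 12, 8, 15, 11, 9, 1, 14, 20, 3, 22, 18, 23, 10, 17, 21, 5],
  [6, 1, 4, 0, 2, 10, 18, 20, 3, 13, 14, 7, 8, 12, 15, 5, 16, 22, 9, 21, 23, 17, 11, 19],
  [9, 0, 2, 4, 8, 10, 16, 23, 18, 6, 21, 15, 3, 13, 22, 5, 1, 14, 12, 19, 20, 11, 7, 17],
  [6, 0, 13, 3, 18, 20, 9, 15, 2, 12, 22, 21, 16, 1, 14, 19, 4, 5, 8, 17, 23, 10, 7, 11],
  [16, 0, 8, 13, 1, 19, 6, 5, 12, 2, 14, 21, 18, 4, 22, 23, 9, 17, 3, 15, 7, 20, 11, 10],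
  [6, 18, 12, 9, 2, 21, 16, 20, 8, 0, 7, 5, 1, 13, 14, 23, 3, 17, 4, 22, 15, 19, 11, 10],
  [18, 2, 4, 1, 8, 11, 0, 7, 13, 9, 21, 5, 16, 3, 10, 14, 12, 22, 6, 17, 15, 23, 19, 20],
  [4, 0, 6, 18, 2, 14, 16, 22, 9, 8, 21, 23, 12, 13, 15, 10, 3, 5, 1, 20, 7, 11, 19, 17]]

theorem m12wit_ok : (List.range 24).all (fun i => !(Nat.testBit 340831 i) ||
    m12wit.any (fun a => tabOK a && tabM24 a && (pmaskF a 340831 == 340831) && (tget a i == i) &&
      (tget a 23 != 23))) = true := by decide +kernel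

/-- For each point of the dodecad of squares, an element of the group fixing the dodecad and the point but
moving the extra point. -/
theorem exists_m12_fix_move {x : GolayPt} (hx : x ∈ Cfsg.Spor.squareDodecad) :
    ∃ h ∈ M24, h • Cfsg.Spor.squareDodecad = Cfsg.Spor.squareDodecad ∧ h x = x ∧ h none ≠ none := by
  rw [squareDodecad_eq] at hx ⊢
  rw [mem_mset] at hx
  have h1 := List.all_eq_true.mp m12wit_ok (natOfPt x) (List.mem_range.mpr (natOfPt_lt x))
  rw [hx] at h1
  simp only [Bool.not_true, Bool.false_or, List.any_eq_true, Bool.and_eq_true, beq_iff_eq, bne_iff_ne] at h1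
  obtain ⟨a, -, ⟨⟨⟨⟨h2, h3⟩, h4⟩, h5⟩, h6⟩⟩ := h1
  refine ⟨tperm a, tperm_mem h2 h3, ?_, ?_, ?_⟩
  · exact (smul_mset_eq_iff h2 (by norm_num)).mpr (by rw [beq_iff_eq]; exact h4)
  · apply natOfPt_injective
    rw [natOfPt_tperm h2, h5]
  · intro hn
    apply h6
    have := natOfPt_tperm h2 none
    rw [hn] at this
    exact this.symm

end Cfsg.Agent.Lib.Helper9.M24
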