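import Mathlib
import Cfsg.Prelude.Def_Local
import Cfsg.Agent.Lib.Helper4.FusionLift1
import Cfsg.Agent.Lib.Lead.CoprimeAction2

/-!
# S1301 swarm: Theorem G'' (climbing from a 2-centric 2-subgroup to a Sylow 2-subgroup)
-/

set_option autoImplicit false

namespace Cfsg.Agent.Lib.LB2.Climb

open Cfsg Cfsg.Agent.Lib.Helper7 Cfsg.Agent.Lib.Helper4 Cfsg.Agent.Lib.Lead
open scoped commutatorElement

variable {Γ : Type*} [Group Γ] [Finite Γ]

/-- a 2-subgroup and an odd-order subgroup meet trivially -/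
theorem two_inf_odd {R O : Subgroup Γ} (hR : IsPGroup 2 R) (hO : Odd (Nat.card O)) {g : Γ}
    (h1 : g ∈ R) (h2 : g ∈ O) : g = 1 := by
  obtain ⟨n, hn⟩ := IsPGroup.iff_card.mp hR
  have hcop : (Nat.card R).Coprime (Nat.card O) := by
    rw [hn]; exact Nat.Coprime.pow_left n (Nat.coprime_two_left.mpr hO)
  have := (Subgroup.disjoint_of_coprime_natCard hcop).le_bot (Subgroup.mem_inf.mpr ⟨h1, h2⟩)
  exact Subgroup.mem_bot.mp this

theorem two_inf_odd_eq_bot {R O : Subgroup Γ} (hR : IsPGroup 2 R) (hO : Odd (Nat.card O)) :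
    R ⊓ O = ⊥ := by
  rw [Subgroup.eq_bot_iff_forall]
  intro g hg
  exact two_inf_odd hR hO hg.1 hg.2

/-- an element of a 2-group whose odd power is trivial is trivial -/
theorem eq_one_of_pow_odd {R : Subgroup Γ} (hR : IsPGroup 2 R) {z : Γ} (hz : z ∈ R) {m : ℕ}
    (hm : Odd m) (h : z ^ m = 1) : z = 1 := by
  obtain ⟨k, hk⟩ := hR ⟨z, hz⟩
  have hk' : z ^ 2 ^ k = 1 := by
    have := congrArg Subtype.val hk
    simpa using this
  have h1 : orderOf z ∣ m := orderOf_dvd_of_pow_eq_one h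
  have h2 : orderOf z ∣ 2 ^ k := orderOf_dvd_of_pow_eq_one hk'
  have h3 : (m).Coprime (2 ^ k) := Nat.Coprime.pow_right k (Nat.coprime_two_right.mpr hm)
  have h4 : orderOf z = 1 := Nat.eq_one_of_dvd_coprimes h3 h1 h2
  exact orderOf_eq_one_iff.mp h4

/-- membership in a normalizer from the two one-sided conditions -/
theorem mem_normalizer_of_conj {K : Subgroup Γ} {g : Γ} (h1 : ∀ k ∈ K, g * k * g⁻¹ ∈ K)
    (h2 : ∀ k ∈ K, g⁻¹ * k * g ∈ K) : g ∈ Subgroup.normalizer (K : Set Γ) := by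
  rw [Subgroup.mem_normalizer_iff]
  intro k
  constructor
  · exact h1 k
  · intro hk
    have := h2 _ hk
    simpa [mul_assoc] using this

theorem conj_mem_of_mem_normalizer {K : Subgroup Γ} {g : Γ} (hg : g ∈ Subgroup.normalizer (K : Set Γ))
    {k : Γ} (hk : k ∈ K) : g * k * g⁻¹ ∈ K :=
  (Subgroup.mem_normalizer_iff.mp hg k).mp hk

theorem conj_inv_mem_of_mem_normalizer {K : Subgroup Γ} {g : Γ}
    (hg : g ∈ Subgroup.normalizer (K : Set Γ)) {k : Γ} (hk : k ∈ K) : g⁻¹ * k * g ∈ K := by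
  have := conj_mem_of_mem_normalizer (Subgroup.inv_mem _ hg) hk
  simpa using this

/-- in a 2-group, a proper subgroup is properly contained in its normalizer -/
theorem exists_normalizer_not_mem {R Q : Subgroup Γ} (hQ : IsPGroup 2 Q) (hRQ : R ≤ Q) (hne : R ≠ Q) :
    ∃ x ∈ Q, x ∈ Subgroup.normalizer (R : Set Γ) ∧ x ∉ R := by
  haveI : Group.IsNilpotent Q := hQ.isNilpotent
  have hH : R.subgroupOf Q < ⊤ := by
    rw [lt_top_iff_ne_top, Ne, Subgroup.subgroupOf_eq_top]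
    intro h
    exact hne (le_antisymm hRQ h)
  have h1 := normalizerCondition_of_isNilpotent (G := Q) (R.subgroupOf Q) hH
  obtain ⟨x, hxN, hxR⟩ := SetLike.exists_of_lt h1
  refine ⟨x.1, x.2, ?_, ?_⟩
  · rw [Subgroup.mem_normalizer_iff] at hxN ⊢
    intro k
    constructor
    · intro hk
      have h2 : (⟨k, hRQ hk⟩ : Q) ∈ R.subgroupOf Q := Subgroup.mem_subgroupOf.mpr hk
      have h3 := (hxN ⟨k, hRQ hk⟩).mp h2
      exact Subgroup.mem_subgroupOf.mp h3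
    · intro hk
      have hkQ : k ∈ Q := by
        have h4 : x.1⁻¹ * (x.1 * k * x.1⁻¹) * x.1 ∈ Q :=
          Q.mul_mem (Q.mul_mem (Q.inv_mem x.2) (hRQ hk)) x.2
        simpa [mul_assoc] using h4
      have h3 := (hxN ⟨k, hkQ⟩).mpr (Subgroup.mem_subgroupOf.mpr hk)
      exact Subgroup.mem_subgroupOf.mp h3
  · intro h
    exact hxR (Subgroup.mem_subgroupOf.mpr h)

theorem card_mul_relIndex' {Z C : Subgroup Γ} (hZC : Z ≤ C) :
    Nat.card Z * Z.relIndex C = Nat.card C := by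
  have := Subgroup.relIndex_mul_relIndex (⊥ : Subgroup Γ) Z C bot_le hZC
  rwa [Subgroup.relIndex_bot_left, Subgroup.relIndex_bot_left] at this

theorem orderOf_conj' (g x : Γ) : orderOf (g * x * g⁻¹) = orderOf x :=
  orderOf_injective (MulAut.conj g).toMonoidHom (MulAut.conj g).injective x

/-- A subgroup `C` whose 2-subgroups all lie in a central 2-subgroup `Z` has a normal 2-complement `O`,
the set of its odd-order elements; `O` is normalised by everything normalising `C`. -/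
theorem exists_odd_complement (C Z : Subgroup Γ) (hZC : Z ≤ C) (hZ2 : IsPGroup 2 Z)
    (hZc : C ≤ Subgroup.centralizer (Z : Set Γ))
    (hmax : ∀ Q : Subgroup Γ, IsPGroup 2 Q → Q ≤ C → Q ≤ Z) :
    ∃ O : Subgroup Γ, O ≤ C ∧ Odd (Nat.card O) ∧
      (∀ ζ ∈ C, ∃ z ∈ Z, ∃ o ∈ O, ζ = z * o) ∧
      Subgroup.normalizer (C : Set Γ) ≤ Subgroup.normalizer (O : Set Γ) := by
  -- `Z` is a Sylow 2-subgroup of `C`
  obtain ⟨P, hZP, hP⟩ := exists_sylIn_ge (p := 2) hZC hZ2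
  have hPZ : P = Z := le_antisymm (hmax P hP.2.1 hP.1) hZP
  rw [hPZ] at hP
  have hcard : Z.relIndex C * Nat.card Z = Nat.card C := by
    rw [mul_comm]; exact card_mul_relIndex' hZC
  obtain ⟨n, hn⟩ := IsPGroup.iff_card.mp hZ2
  have hodd : Odd (Z.relIndex C) := by
    rw [← Nat.not_even_iff_odd, even_iff_two_dvd]; exact hP.2.2
  have hcop : (Z.relIndex C).Coprime (Nat.card Z) := by
    rw [hn]; exact Nat.Coprime.pow_right n (Nat.coprime_two_right.mpr hodd)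
  have hCZ : C ≤ Subgroup.normalizer (Z : Set Γ) := hZc.trans (Subgroup.centralizer_le_normalizer _)
  obtain ⟨B, hBC, hBcard⟩ := sz_exists_internal Z C hZC hCZ (Z.relIndex C) hcard hcop
  have hBodd : Odd (Nat.card B) := by rw [hBcard]; exact hodd
  have hBZ : B ≤ Subgroup.normalizer (Z : Set Γ) := hBC.trans hCZ
  have hdisj : B ⊓ Z = ⊥ := by
    rw [inf_comm]; exact two_inf_odd_eq_bot hZ2 hBodd
  have hsup : Z ⊔ B = C := by
    apply Subgroup.eq_of_le_of_card_ge (sup_le hZC hBC)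
    rw [sup_comm, card_sup_of_disjoint B Z hBZ hdisj, hBcard, hcard]
  have hdecomp : ∀ ζ ∈ C, ∃ z ∈ Z, ∃ o ∈ B, ζ = z * o := by
    intro ζ hζ
    rw [← hsup] at hζ
    exact exists_mul_of_mem_sup_normalizer hBZ hζ
  -- odd-order elements of `C` lie in `B`
  have hoddmem : ∀ ζ ∈ C, Odd (orderOf ζ) → ζ ∈ B := by
    intro ζ hζ hζodd
    obtain ⟨z, hz, o, ho, rfl⟩ := hdecomp ζ hζ
    have hcomm : Commute z o := by
      have := Subgroup.mem_centralizer_iff.mp (hZc (hBC ho)) z hz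
      exact this
    have h1 : (z * o) ^ orderOf (z * o) = 1 := pow_orderOf_eq_one _
    rw [hcomm.mul_pow] at h1
    have h2 : z ^ orderOf (z * o) = (o ^ orderOf (z * o))⁻¹ := eq_inv_of_mul_eq_one_left h1
    have h3 : z ^ orderOf (z * o) = 1 := by
      apply two_inf_odd hZ2 hBodd (Z.pow_mem hz _)
      rw [h2]; exact B.inv_mem (B.pow_mem ho _)
    have h4 : z = 1 := eq_one_of_pow_odd hZ2 hz hζodd h3
    rw [h4, one_mul]; exact ho
  refine ⟨B, hBC, hBodd, hdecomp, ?_⟩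
  intro g hg
  have key : ∀ g ∈ Subgroup.normalizer (C : Set Γ), ∀ o ∈ B, g * o * g⁻¹ ∈ B := by
    intro g hg o ho
    apply hoddmem _ (conj_mem_of_mem_normalizer hg (hBC ho))
    rw [orderOf_conj']
    exact Odd.of_dvd_nat hBodd (by
      have := orderOf_dvd_natCard (⟨o, ho⟩ : B)
      rwa [Subgroup.orderOf_mk] at this)
  apply mem_normalizer_of_conj (key g hg)
  intro o ho
  have := key g⁻¹ (Subgroup.inv_mem _ hg) o ho
  simpa using this

/-- `N_Γ(R)` normalises `C_Γ(R)` (elementwise form). -/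
theorem conj_mem_centralizer {R : Subgroup Γ} {g ζ : Γ} (hg : g ∈ Subgroup.normalizer (R : Set Γ))
    (hζ : ζ ∈ Subgroup.centralizer (R : Set Γ)) : g * ζ * g⁻¹ ∈ Subgroup.centralizer (R : Set Γ) := by
  rw [Subgroup.mem_centralizer_iff] at hζ ⊢
  intro r hr
  have h1 := hζ _ (conj_inv_mem_of_mem_normalizer hg hr)
  calc r * (g * ζ * g⁻¹) = g * ((g⁻¹ * r * g) * ζ) * g⁻¹ := by group
    _ = g * (ζ * (g⁻¹ * r * g)) * g⁻¹ := by rw [h1]
    _ = g * ζ * g⁻¹ * r := by group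

/-- `N_Γ(H) ∩ N_Γ(R)` normalises `C_H(R)`. -/
theorem le_normalizer_inf_centralizer (H R : Subgroup Γ) :
    Subgroup.normalizer (H : Set Γ) ⊓ Subgroup.normalizer (R : Set Γ) ≤
      Subgroup.normalizer ((H ⊓ Subgroup.centralizer (R : Set Γ) : Subgroup Γ) : Set Γ) := by
  intro g hg
  have key : ∀ g ∈ Subgroup.normalizer (H : Set Γ) ⊓ Subgroup.normalizer (R : Set Γ),
      ∀ ζ ∈ H ⊓ Subgroup.centralizer (R : Set Γ), g * ζ * g⁻¹ ∈ H ⊓ Subgroup.centralizer (R : Set Γ) :=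
    fun g hg ζ hζ => ⟨conj_mem_of_mem_normalizer hg.1 hζ.1, conj_mem_centralizer hg.2 hζ.2⟩
  apply mem_normalizer_of_conj (key g hg)
  intro ζ hζ
  have := key g⁻¹ (Subgroup.inv_mem _ hg) ζ hζ
  simpa using this

/-- STABILITY: an odd-order element `a` normalising `H` and centralising `R1` acts trivially on
`N_H(R1)/O1`. -/
theorem stab_mem {H R1 O1 : Subgroup Γ} (hR12 : IsPGroup 2 R1) (hO1 : Odd (Nat.card O1))
    (hO1C : O1 ≤ H ⊓ Subgroup.centralizer (R1 : Set Γ))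
    (hdecomp : ∀ ζ ∈ H ⊓ Subgroup.centralizer (R1 : Set Γ),
      ∃ z ∈ R1 ⊓ Subgroup.centralizer (R1 : Set Γ), ∃ o ∈ O1, ζ = z * o)
    (hnorm : Subgroup.normalizer ((H ⊓ Subgroup.centralizer (R1 : Set Γ) : Subgroup Γ) : Set Γ) ≤
      Subgroup.normalizer (O1 : Set Γ))
    {a : Γ} (haH : a ∈ Subgroup.normalizer (H : Set Γ)) (haR : a ∈ Subgroup.centralizer (R1 : Set Γ))
    (hodd : Odd (orderOf a))
    {x : Γ} (hxH : x ∈ H) (hxR : x ∈ Subgroup.normalizer (R1 : Set Γ)) :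
    a * x * a⁻¹ * x⁻¹ ∈ O1 := by
  have haN : a ∈ Subgroup.normalizer (R1 : Set Γ) := Subgroup.centralizer_le_normalizer _ haR
  have haO : a ∈ Subgroup.normalizer (O1 : Set Γ) :=
    hnorm (le_normalizer_inf_centralizer H R1 ⟨haH, haN⟩)
  -- ζ ∈ C1
  have hζ : a * x * a⁻¹ * x⁻¹ ∈ H ⊓ Subgroup.centralizer (R1 : Set Γ) := by
    constructor
    · exact H.mul_mem (conj_mem_of_mem_normalizer haH hxH) (H.inv_mem hxH)
    · have h1 : x * a⁻¹ * x⁻¹ ∈ Subgroup.centralizer (R1 : Set Γ) :=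
        conj_mem_centralizer hxR (Subgroup.inv_mem _ haR)
      have h2 : a * x * a⁻¹ * x⁻¹ = a * (x * a⁻¹ * x⁻¹) := by group
      rw [h2]; exact Subgroup.mul_mem _ haR h1
  obtain ⟨z, hz, o, ho, hzo⟩ := hdecomp _ hζ
  have haz : a * z = z * a := (Subgroup.mem_centralizer_iff.mp haR z hz.1).symm
  have hzo_comm : z * o = o * z := (Subgroup.mem_centralizer_iff.mp (hO1C ho).2 z hz.1)
  have hazj : ∀ j : ℕ, a * z ^ j * a⁻¹ = z ^ j := by
    intro j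
    have : Commute a (z ^ j) := (show Commute a z from haz).pow_right j
    rw [this.eq, mul_assoc, mul_inv_cancel, mul_one]
  have hzjo : ∀ j : ℕ, z ^ j * o = o * z ^ j := by
    intro j
    exact ((show Commute z o from hzo_comm).pow_left j).eq
  have hind : ∀ j : ℕ, a ^ j * x * (a ^ j)⁻¹ * x⁻¹ * (z ^ j)⁻¹ ∈ O1 := by
    intro j
    induction j with
    | zero => simp
    | succ j ih =>
      have e : a ^ (j + 1) * x * (a ^ (j + 1))⁻¹ * x⁻¹ * (z ^ (j + 1))⁻¹ =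
          (a * (a ^ j * x * (a ^ j)⁻¹ * x⁻¹ * (z ^ j)⁻¹) * a⁻¹) * (a * z ^ j * a⁻¹) *
            (a * x * a⁻¹ * x⁻¹) * (z ^ (j + 1))⁻¹ := by
        rw [pow_succ' a j]; group
      rw [e, hazj j, hzo]
      have e2 : a * (a ^ j * x * (a ^ j)⁻¹ * x⁻¹ * (z ^ j)⁻¹) * a⁻¹ * z ^ j * (z * o) * (z ^ (j + 1))⁻¹ =
          (a * (a ^ j * x * (a ^ j)⁻¹ * x⁻¹ * (z ^ j)⁻¹) * a⁻¹) * o := by
        have : z ^ j * (z * o) * (z ^ (j + 1))⁻¹ = o := by
          rw [← mul_assoc, ← pow_succ, hzjo (j + 1), mul_assoc, mul_inv_cancel, mul_one]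
        calc _ = a * (a ^ j * x * (a ^ j)⁻¹ * x⁻¹ * (z ^ j)⁻¹) * a⁻¹ * (z ^ j * (z * o) * (z ^ (j + 1))⁻¹) := by
              group
          _ = _ := by rw [this]
      rw [e2]
      exact O1.mul_mem (conj_mem_of_mem_normalizer haO ih) ho
  have hm := hind (orderOf a)
  rw [pow_orderOf_eq_one] at hm
  have hm' : z ^ orderOf a ∈ O1 := by
    have : (z ^ orderOf a)⁻¹ ∈ O1 := by simpa using hm
    simpa using O1.inv_mem this
  have hz1 : z ^ orderOf a = 1 := two_inf_odd hR12 hO1 (R1.pow_mem hz.1 _) hm'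
  have hz : z = 1 := eq_one_of_pow_odd hR12 hz.1 hodd hz1
  rw [hzo, hz, one_mul]; exact ho

/-- the elements normalising `H`, centralising `R1`, normalising `O1` and acting trivially on
`N_H(R1)/O1`. -/
def T1 (H R1 O1 : Subgroup Γ) : Subgroup Γ where
  carrier := {γ | γ ∈ Subgroup.normalizer (H : Set Γ) ⊓ Subgroup.centralizer (R1 : Set Γ) ∧
    γ ∈ Subgroup.normalizer (O1 : Set Γ) ∧
    ∀ x ∈ H ⊓ Subgroup.normalizer (R1 : Set Γ), γ * x * γ⁻¹ * x⁻¹ ∈ O1}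
  one_mem' := ⟨one_mem _, one_mem _, by intro x _; simp⟩
  mul_mem' := by
    rintro γ δ ⟨h1, h2, h3⟩ ⟨h1', h2', h3'⟩
    refine ⟨mul_mem h1 h1', mul_mem h2 h2', ?_⟩
    intro x hx
    have e : γ * δ * x * (γ * δ)⁻¹ * x⁻¹ =
        (γ * (δ * x * δ⁻¹ * x⁻¹) * γ⁻¹) * (γ * x * γ⁻¹ * x⁻¹) := by group
    rw [e]
    exact O1.mul_mem (conj_mem_of_mem_normalizer h2 (h3' x hx)) (h3 x hx)
  inv_mem' := by
    rintro γ ⟨h1, h2, h3⟩
    refine ⟨inv_mem h1, inv_mem h2, ?_⟩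
    intro x hx
    have hy : γ⁻¹ * x * γ ∈ H ⊓ Subgroup.normalizer (R1 : Set Γ) := by
      refine Subgroup.mem_inf.mpr ⟨?_, ?_⟩
      · exact conj_inv_mem_of_mem_normalizer h1.1 hx.1
      · have hγN : γ ∈ Subgroup.normalizer (R1 : Set Γ) := Subgroup.centralizer_le_normalizer _ h1.2
        exact Subgroup.mul_mem _ (Subgroup.mul_mem _ (Subgroup.inv_mem _ hγN) hx.2) hγN
    have := h3 _ hy
    have e : γ⁻¹ * x * γ⁻¹⁻¹ * x⁻¹ = (γ * (γ⁻¹ * x * γ) * γ⁻¹ * (γ⁻¹ * x * γ)⁻¹)⁻¹ := by group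
    rw [e]; exact O1.inv_mem this

theorem mem_T1 {H R1 O1 : Subgroup Γ} {γ : Γ} : γ ∈ T1 H R1 O1 ↔
    γ ∈ Subgroup.normalizer (H : Set Γ) ⊓ Subgroup.centralizer (R1 : Set Γ) ∧
    γ ∈ Subgroup.normalizer (O1 : Set Γ) ∧
    ∀ x ∈ H ⊓ Subgroup.normalizer (R1 : Set Γ), γ * x * γ⁻¹ * x⁻¹ ∈ O1 := Iff.rfl

/-- `T1` normalises every `W` with `O1 ≤ W ≤ N_H(R1)`. -/
theorem T1_le_normalizer {H R1 O1 W : Subgroup Γ} (hOW : O1 ≤ W)
    (hWN : W ≤ H ⊓ Subgroup.normalizer (R1 : Set Γ)) :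
    T1 H R1 O1 ≤ Subgroup.normalizer (W : Set Γ) := by
  intro γ hγ
  have key : ∀ γ ∈ T1 H R1 O1, ∀ w ∈ W, γ * w * γ⁻¹ ∈ W := by
    intro γ hγ w hw
    have h1 := (mem_T1.mp hγ).2.2 w (hWN hw)
    have e : γ * w * γ⁻¹ = (γ * w * γ⁻¹ * w⁻¹) * w := by group
    rw [e]; exact W.mul_mem (hOW h1) hw
  apply mem_normalizer_of_conj (key γ hγ)
  intro w hw
  have := key γ⁻¹ (Subgroup.inv_mem _ hγ) w hw
  simpa using this

/-- the data `(H, R1, O1)` of the climbing step. -/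
structure Dat (H R1 O1 : Subgroup Γ) : Prop where
  hR12 : IsPGroup 2 R1
  hO1 : Odd (Nat.card O1)
  hO1C : O1 ≤ H ⊓ Subgroup.centralizer (R1 : Set Γ)
  hdecomp : ∀ ζ ∈ H ⊓ Subgroup.centralizer (R1 : Set Γ),
      ∃ z ∈ R1 ⊓ Subgroup.centralizer (R1 : Set Γ), ∃ o ∈ O1, ζ = z * o
  hnorm : Subgroup.normalizer ((H ⊓ Subgroup.centralizer (R1 : Set Γ) : Subgroup Γ) : Set Γ) ≤
      Subgroup.normalizer (O1 : Set Γ)

theorem Dat.odd_mem_T1 {H R1 O1 : Subgroup Γ} (d : Dat H R1 O1) {γ : Γ}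
    (hγ : γ ∈ Subgroup.normalizer (H : Set Γ) ⊓ Subgroup.centralizer (R1 : Set Γ))
    (hodd : Odd (orderOf γ)) : γ ∈ T1 H R1 O1 := by
  refine mem_T1.mpr ⟨hγ, ?_, ?_⟩
  · exact d.hnorm (le_normalizer_inf_centralizer H R1
      ⟨hγ.1, Subgroup.centralizer_le_normalizer _ hγ.2⟩)
  · intro x hx
    exact stab_mem d.hR12 d.hO1 d.hO1C d.hdecomp d.hnorm hγ.1 hγ.2 hodd hx.1 hx.2

theorem odd_orderOf_of_mem {A : Subgroup Γ} (hA : Odd (Nat.card A)) {a : Γ} (ha : a ∈ A) :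
    Odd (orderOf a) := by
  apply Odd.of_dvd_nat hA
  have := orderOf_dvd_natCard (⟨a, ha⟩ : A)
  rwa [Subgroup.orderOf_mk] at this

theorem Dat.le_T1 {H R1 O1 : Subgroup Γ} (d : Dat H R1 O1) {A : Subgroup Γ} (hA : Odd (Nat.card A))
    (hAH : A ≤ Subgroup.normalizer (H : Set Γ)) (hAR : A ≤ Subgroup.centralizer (R1 : Set Γ)) :
    A ≤ T1 H R1 O1 :=
  fun a ha => d.odd_mem_T1 ⟨hAH ha, hAR ha⟩ (odd_orderOf_of_mem hA ha)

theorem Dat.O1_le_T1 {H R1 O1 : Subgroup Γ} (d : Dat H R1 O1) : O1 ≤ T1 H R1 O1 :=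
  d.le_T1 d.hO1 (fun _ ho => Subgroup.le_normalizer (d.hO1C ho).1) (fun _ ho => (d.hO1C ho).2)

theorem Dat.commutator_le_T1 {H R1 O1 : Subgroup Γ} (d : Dat H R1 O1) {E A : Subgroup Γ}
    (hEH : E ≤ Subgroup.normalizer (H : Set Γ)) (hER : E ≤ Subgroup.centralizer (R1 : Set Γ))
    (hA : Odd (Nat.card A))
    (hAH : A ≤ Subgroup.normalizer (H : Set Γ)) (hAR : A ≤ Subgroup.centralizer (R1 : Set Γ)) :
    ⁅E, A⁆ ≤ T1 H R1 O1 := by
  rw [Subgroup.commutator_le]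
  intro e he a ha
  have h1 : e * a * e⁻¹ ∈ T1 H R1 O1 := by
    apply d.odd_mem_T1
    · have heM : e ∈ Subgroup.normalizer (H : Set Γ) ⊓ Subgroup.centralizer (R1 : Set Γ) :=
        ⟨hEH he, hER he⟩
      have haM : a ∈ Subgroup.normalizer (H : Set Γ) ⊓ Subgroup.centralizer (R1 : Set Γ) :=
        ⟨hAH ha, hAR ha⟩
      exact Subgroup.mul_mem _ (Subgroup.mul_mem _ heM haM) (Subgroup.inv_mem _ heM)
    · rw [orderOf_conj']; exact odd_orderOf_of_mem hA ha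
  have h2 : a⁻¹ ∈ T1 H R1 O1 := Subgroup.inv_mem _ (d.le_T1 hA hAH hAR ha)
  have e1 : ⁅e, a⁆ = (e * a * e⁻¹) * a⁻¹ := by rw [commutatorElement_def]
  rw [e1]; exact Subgroup.mul_mem _ h1 h2

/-- the inductive step of Theorem G'': a bigger 2-centric subgroup with new `E'`, `A''`. -/
theorem step (H : Subgroup Γ) (R1 : Subgroup Γ) (hR1H : R1 ≤ H) (hR12 : IsPGroup 2 R1)
    (hcent : ∀ Q : Subgroup Γ, IsPGroup 2 Q → Q ≤ H ⊓ Subgroup.centralizer (R1 : Set Γ) → Q ≤ R1)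
    (E : Subgroup Γ) (hE2 : IsPGroup 2 E) (hEH : E ≤ Subgroup.normalizer (H : Set Γ))
    (hER : E ≤ Subgroup.centralizer (R1 : Set Γ))
    (A : Subgroup Γ) (hA : Odd (Nat.card A)) (hAH : A ≤ Subgroup.normalizer (H : Set Γ))
    (hAR : A ≤ Subgroup.centralizer (R1 : Set Γ)) (hAE : A ≤ Subgroup.normalizer (E : Set Γ))
    (Q : Subgroup Γ) (hQ2 : IsPGroup 2 Q) (hR1Q : R1 ≤ Q) (hQH : Q ≤ H) (hne : Q ≠ R1) :
    ∃ R2' E' A'' : Subgroup Γ, Nat.card R1 < Nat.card R2' ∧ R2' ≤ H ∧ IsPGroup 2 R2' ∧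
      (∀ Q' : Subgroup Γ, IsPGroup 2 Q' → Q' ≤ H ⊓ Subgroup.centralizer (R2' : Set Γ) → Q' ≤ R2') ∧
      IsPGroup 2 E' ∧ E' ≤ Subgroup.normalizer (H : Set Γ) ∧
      E' ≤ Subgroup.centralizer (R2' : Set Γ) ∧
      Odd (Nat.card A'') ∧ A'' ≤ Subgroup.normalizer (H : Set Γ) ∧
      A'' ≤ Subgroup.centralizer (R2' : Set Γ) ∧ A'' ≤ Subgroup.normalizer (E' : Set Γ) ∧
      ⁅E, A⁆ ≤ ⁅E', A''⁆ := by
  -- the normal 2-complement `O1` of `C_H(R1)`
  have hZC : R1 ⊓ Subgroup.centralizer (R1 : Set Γ) ≤ H ⊓ Subgroup.centralizer (R1 : Set Γ) :=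
    fun z hz => ⟨hR1H hz.1, hz.2⟩
  have hZ2 : IsPGroup 2 (R1 ⊓ Subgroup.centralizer (R1 : Set Γ) : Subgroup Γ) := hR12.to_le inf_le_left
  have hZc : H ⊓ Subgroup.centralizer (R1 : Set Γ) ≤
      Subgroup.centralizer ((R1 ⊓ Subgroup.centralizer (R1 : Set Γ) : Subgroup Γ) : Set Γ) := by
    intro ζ hζ
    rw [Subgroup.mem_centralizer_iff]
    intro z hz
    exact Subgroup.mem_centralizer_iff.mp hζ.2 z hz.1
  have hmax : ∀ Q' : Subgroup Γ, IsPGroup 2 Q' → Q' ≤ H ⊓ Subgroup.centralizer (R1 : Set Γ) →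
      Q' ≤ R1 ⊓ Subgroup.centralizer (R1 : Set Γ) :=
    fun Q' h2 hle => le_inf (hcent Q' h2 hle) (hle.trans inf_le_right)
  obtain ⟨O1, hO1C, hO1odd, hdecomp, hnorm⟩ := exists_odd_complement _ _ hZC hZ2 hZc hmax
  have d : Dat H R1 O1 := ⟨hR12, hO1odd, hO1C, hdecomp, hnorm⟩
  -- `R2 = N_Q(R1) > R1`
  obtain ⟨x0, hx0Q, hx0N, hx0R⟩ := exists_normalizer_not_mem hQ2 hR1Q (Ne.symm hne)
  obtain ⟨R2, hR2def⟩ : ∃ R2 : Subgroup Γ, R2 = Q ⊓ Subgroup.normalizer (R1 : Set Γ) := ⟨_, rfl⟩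
  have hR1R2 : R1 ≤ R2 := by rw [hR2def]; exact le_inf hR1Q Subgroup.le_normalizer
  have hR22 : IsPGroup 2 R2 := by rw [hR2def]; exact hQ2.to_le inf_le_left
  have hR2N : R2 ≤ H ⊓ Subgroup.normalizer (R1 : Set Γ) := by
    rw [hR2def]; exact fun r hr => ⟨hQH hr.1, hr.2⟩
  have hcardlt : Nat.card R1 < Nat.card R2 := by
    rcases (Subgroup.card_le_of_le hR1R2).lt_or_eq with h | h
    · exact h
    · exfalso
      have := Subgroup.eq_of_le_of_card_ge hR1R2 h.ge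
      apply hx0R
      rw [this, hR2def]
      exact ⟨hx0Q, hx0N⟩
  have hNO : H ⊓ Subgroup.normalizer (R1 : Set Γ) ≤ Subgroup.normalizer (O1 : Set Γ) :=
    fun x hx => hnorm (le_normalizer_inf_centralizer H R1 ⟨Subgroup.le_normalizer hx.1, hx.2⟩)
  -- `W = R2 O1`
  obtain ⟨W, hWdef⟩ : ∃ W : Subgroup Γ, W = R2 ⊔ O1 := ⟨_, rfl⟩
  have hR2O : R2 ≤ Subgroup.normalizer (O1 : Set Γ) := hR2N.trans hNO
  have hO1N : O1 ≤ H ⊓ Subgroup.normalizer (R1 : Set Γ) :=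
    fun o ho => ⟨(hO1C ho).1, Subgroup.centralizer_le_normalizer _ (hO1C ho).2⟩
  have hWN : W ≤ H ⊓ Subgroup.normalizer (R1 : Set Γ) := by rw [hWdef]; exact sup_le hR2N hO1N
  have hOW : O1 ≤ W := by rw [hWdef]; exact le_sup_right
  have hR2W : R2 ≤ W := by rw [hWdef]; exact le_sup_left
  have hWcard : Nat.card W = Nat.card R2 * Nat.card O1 := by
    rw [hWdef]; exact card_sup_of_disjoint R2 O1 hR2O (two_inf_odd_eq_bot hR22 hO1odd)
  have hR2Syl : SylIn 2 W R2 := by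
    refine ⟨hR2W, hR22, ?_⟩
    have h1 := card_mul_relIndex' hR2W
    rw [hWcard] at h1
    have h2 : R2.relIndex W = Nat.card O1 := Nat.eq_of_mul_eq_mul_left Nat.card_pos h1
    rw [h2, ← even_iff_two_dvd, Nat.not_even_iff_odd]
    exact hO1odd
  have hT1W : T1 H R1 O1 ≤ Subgroup.normalizer (W : Set Γ) := T1_le_normalizer hOW hWN
  -- `E' = [E, A]`
  obtain ⟨E', hE'def⟩ : ∃ E' : Subgroup Γ, E' = ⁅E, A⁆ := ⟨_, rfl⟩
  have hE'E : E' ≤ E := by rw [hE'def]; exact commutator_le_left_of_le_normalizer E A hAE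
  have hE'2 : IsPGroup 2 E' := hE2.to_le hE'E
  have hE'T : E' ≤ T1 H R1 O1 := by rw [hE'def]; exact d.commutator_le_T1 hEH hER hA hAH hAR
  have hAT : A ≤ T1 H R1 O1 := d.le_T1 hA hAH hAR
  have hAE' : A ≤ Subgroup.normalizer (E' : Set Γ) := by
    rw [hE'def]; exact le_normalizer_commutator_right E A hAE
  -- an `E'`-invariant Sylow 2-subgroup `R2'` of `W`
  have hXW : E' ⊔ W ≤ Subgroup.normalizer (W : Set Γ) := sup_le (hE'T.trans hT1W) Subgroup.le_normalizer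
  obtain ⟨P, hE'P, hP⟩ := exists_sylIn_ge (p := 2) (le_sup_left : E' ≤ E' ⊔ W) hE'2
  have hR2'S : SylIn 2 W (P ⊓ W) := sylIn_inf_normal (le_sup_right : W ≤ E' ⊔ W) hXW hP
  obtain ⟨R2', hR2'def⟩ : ∃ R2' : Subgroup Γ, R2' = P ⊓ W := ⟨_, rfl⟩
  rw [← hR2'def] at hR2'S
  have hcard' : Nat.card R2' = Nat.card R2 := hR2'S.card_eq hR2Syl
  have hWR1 : W ≤ Subgroup.normalizer (R1 : Set Γ) := hWN.trans inf_le_right
  have hR1R2' : R1 ≤ R2' := hR2'S.normal_le (hR1R2.trans hR2W) hWR1 hR12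
  have hR2'W : R2' ≤ W := hR2'S.1
  have hR2'H : R2' ≤ H := (hR2'W.trans hWN).trans inf_le_left
  have hR2'2 : IsPGroup 2 R2' := hR2'S.2.1
  have hdisj' : ∀ g : Γ, g ∈ R2' → g ∈ O1 → g = 1 := fun g h1 h2 => two_inf_odd hR2'2 hO1odd h1 h2
  have hE'R2' : E' ≤ Subgroup.centralizer (R2' : Set Γ) := by
    intro e he
    rw [Subgroup.mem_centralizer_iff]
    intro r hr
    have heT := hE'T he
    have hr' : r ∈ P ⊓ W := by rw [← hR2'def]; exact hr
    have h1 : e * r * e⁻¹ * r⁻¹ ∈ O1 := (mem_T1.mp heT).2.2 r (hWN hr'.2)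
    have h2 : e * r * e⁻¹ ∈ R2' := by
      rw [hR2'def]
      exact ⟨P.mul_mem (P.mul_mem (hE'P he) hr'.1) (P.inv_mem (hE'P he)),
        conj_mem_of_mem_normalizer (hT1W heT) hr'.2⟩
    have h3 : e * r * e⁻¹ * r⁻¹ = 1 := hdisj' _ (R2'.mul_mem h2 (R2'.inv_mem hr)) h1
    calc r * e = (e * r * e⁻¹ * r⁻¹)⁻¹ * (e * r) := by group
      _ = e * r := by rw [h3, inv_one, one_mul]
  have hcent' : ∀ Q' : Subgroup Γ, IsPGroup 2 Q' →
      Q' ≤ H ⊓ Subgroup.centralizer (R2' : Set Γ) → Q' ≤ R2' := by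
    intro Q' h2 hle
    refine (hcent Q' h2 ?_).trans hR1R2'
    exact hle.trans (inf_le_inf_left _ (Subgroup.centralizer_le hR1R2'))
  -- `A''`
  obtain ⟨F, hFdef⟩ : ∃ F : Subgroup Γ, F = O1 ⊓ Subgroup.centralizer (E' : Set Γ) := ⟨_, rfl⟩
  have hFO : F ≤ O1 := by rw [hFdef]; exact inf_le_left
  have hFE' : F ≤ Subgroup.centralizer (E' : Set Γ) := by rw [hFdef]; exact inf_le_right
  have hAF : A ≤ Subgroup.normalizer (F : Set Γ) := by
    intro a ha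
    have haO : a ∈ Subgroup.normalizer (O1 : Set Γ) := (mem_T1.mp (hAT ha)).2.1
    have haE' := hAE' ha
    rw [hFdef]
    apply mem_normalizer_of_conj
    · intro f hf
      exact ⟨conj_mem_of_mem_normalizer haO hf.1, conj_mem_centralizer haE' hf.2⟩
    · intro f hf
      refine ⟨conj_inv_mem_of_mem_normalizer haO hf.1, ?_⟩
      have := conj_mem_centralizer (Subgroup.inv_mem _ haE') hf.2
      simpa using this
  have hFodd : Odd (Nat.card F) := Odd.of_dvd_nat hO1odd (Subgroup.card_dvd_of_le hFO)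
  have hFAodd : Odd (Nat.card (F ⊔ A : Subgroup Γ)) := by
    have h := card_sup_mul_card_inf A F hAF
    rw [sup_comm]
    exact Odd.of_dvd_nat (hA.mul hFodd) (Dvd.intro _ h)
  obtain ⟨A'', hA''def⟩ : ∃ A'' : Subgroup Γ,
      A'' = (F ⊔ A) ⊓ Subgroup.normalizer (R2' : Set Γ) := ⟨_, rfl⟩
  have hA''FA : A'' ≤ F ⊔ A := by rw [hA''def]; exact inf_le_left
  have hA''N : A'' ≤ Subgroup.normalizer (R2' : Set Γ) := by rw [hA''def]; exact inf_le_right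
  have hA''odd : Odd (Nat.card A'') := Odd.of_dvd_nat hFAodd (Subgroup.card_dvd_of_le hA''FA)
  have hFT : F ⊔ A ≤ T1 H R1 O1 := sup_le (hFO.trans d.O1_le_T1) hAT
  have hA''H : A'' ≤ Subgroup.normalizer (H : Set Γ) :=
    fun g hg => (mem_T1.mp (hFT (hA''FA hg))).1.1
  have hA''R : A'' ≤ Subgroup.centralizer (R2' : Set Γ) := by
    intro g hg
    rw [Subgroup.mem_centralizer_iff]
    intro r hr
    have h1 : g * r * g⁻¹ * r⁻¹ ∈ O1 := (mem_T1.mp (hFT (hA''FA hg))).2.2 r (hWN (hR2'W hr))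
    have h2 : g * r * g⁻¹ ∈ R2' := conj_mem_of_mem_normalizer (hA''N hg) hr
    have h3 := hdisj' _ (R2'.mul_mem h2 (R2'.inv_mem hr)) h1
    calc r * g = (g * r * g⁻¹ * r⁻¹)⁻¹ * (g * r) := by group
      _ = g * r := by rw [h3, inv_one, one_mul]
  have hFAE' : F ⊔ A ≤ Subgroup.normalizer (E' : Set Γ) :=
    sup_le (hFE'.trans (Subgroup.centralizer_le_normalizer _)) hAE'
  have hA''E' : A'' ≤ Subgroup.normalizer (E' : Set Γ) := hA''FA.trans hFAE'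
  -- `[E', A] = E'` and `[E', A] ≤ [E', A'']`
  obtain ⟨n, hn⟩ := IsPGroup.iff_card.mp hE2
  have hcop : (Nat.card A).Coprime (Nat.card E) := by
    rw [hn]; exact Nat.Coprime.pow_right n (Nat.coprime_two_right.mpr hA)
  haveI : Group.IsNilpotent E := hE2.isNilpotent
  have hstab : ⁅E', A⁆ = E' := by
    rw [hE'def]; exact coprime_commutator_stable A E hAE hcop (Or.inr inferInstance)
  have hR2'cE : R2' ≤ Subgroup.centralizer (E' : Set Γ) := Subgroup.le_centralizer_iff.mp hE'R2'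
  have hR2'O : R2' ≤ Subgroup.normalizer (O1 : Set Γ) := (hR2'W.trans hWN).trans hNO
  have hW' : O1 ⊔ R2' = W := by
    apply Subgroup.eq_of_le_of_card_ge (sup_le hOW hR2'W)
    rw [sup_comm, card_sup_of_disjoint R2' O1 hR2'O (two_inf_odd_eq_bot hR2'2 hO1odd), hcard', hWcard]
  have hmain : ⁅E', A⁆ ≤ ⁅E', A''⁆ := by
    rw [Subgroup.commutator_le]
    intro e he a ha
    have haW : a ∈ Subgroup.normalizer (W : Set Γ) := hT1W (hAT ha)
    have h1 : SylIn 2 W (cj a R2') := hR2'S.cj' haW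
    have hR2'V : R2' ≤ W ⊓ Subgroup.centralizer (E' : Set Γ) := le_inf hR2'W hR2'cE
    have hcjV : cj a R2' ≤ W ⊓ Subgroup.centralizer (E' : Set Γ) := by
      refine le_inf h1.1 ?_
      rintro _ ⟨r, hr, rfl⟩
      exact conj_mem_centralizer (hAE' ha) (hR2'cE hr)
    have s1 : SylIn 2 (W ⊓ Subgroup.centralizer (E' : Set Γ)) R2' := hR2'S.mono hR2'V inf_le_left
    have s2 : SylIn 2 (W ⊓ Subgroup.centralizer (E' : Set Γ)) (cj a R2') := h1.mono hcjV inf_le_left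
    obtain ⟨y, hyV, hy⟩ := s1.conj s2
    have hyW : y ∈ O1 ⊔ R2' := by rw [hW']; exact hyV.1
    obtain ⟨f, hf, u, hu, rfl⟩ := exists_mul_of_mem_sup_normalizer hR2'O hyW
    have hfE' : f ∈ Subgroup.centralizer (E' : Set Γ) := by
      have e1 : f = (f * u) * u⁻¹ := by group
      rw [e1]; exact Subgroup.mul_mem _ hyV.2 (Subgroup.inv_mem _ (hR2'cE hu))
    have hfF : f ∈ F := by rw [hFdef]; exact ⟨hf, hfE'⟩
    have hfa : f⁻¹ * a ∈ Subgroup.normalizer (R2' : Set Γ) := by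
      rw [mem_normalizer_iff_cj, cj_mul, ← hy, cj_mul, cj_eq_self_of_mem hu, cj_inv_cj]
    have hg : f⁻¹ * a ∈ A'' := by
      rw [hA''def]
      exact ⟨Subgroup.mul_mem _ (Subgroup.mem_sup_left (F.inv_mem hfF)) (Subgroup.mem_sup_right ha), hfa⟩
    have hea : e * a * e⁻¹ * a⁻¹ ∈ E' := by
      have h2 : a * e⁻¹ * a⁻¹ ∈ E' := conj_mem_of_mem_normalizer (hAE' ha) (E'.inv_mem he)
      have e2 : e * a * e⁻¹ * a⁻¹ = e * (a * e⁻¹ * a⁻¹) := by group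
      rw [e2]; exact E'.mul_mem he h2
    have hfc : (e * a * e⁻¹ * a⁻¹) * f = f * (e * a * e⁻¹ * a⁻¹) :=
      Subgroup.mem_centralizer_iff.mp hfE' _ hea
    have hfe : e * f = f * e := Subgroup.mem_centralizer_iff.mp hfE' _ he
    have key : ⁅e, f⁻¹ * a⁆ = ⁅e, a⁆ := by
      simp only [commutatorElement_def]
      calc e * (f⁻¹ * a) * e⁻¹ * (f⁻¹ * a)⁻¹ = f⁻¹ * ((f * e) * f⁻¹ * a * e⁻¹ * a⁻¹) * f := by group
        _ = f⁻¹ * ((e * f) * f⁻¹ * a * e⁻¹ * a⁻¹) * f := by rw [hfe]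
        _ = f⁻¹ * ((e * a * e⁻¹ * a⁻¹) * f) := by group
        _ = f⁻¹ * (f * (e * a * e⁻¹ * a⁻¹)) := by rw [hfc]
        _ = e * a * e⁻¹ * a⁻¹ := by group
    rw [← key]
    exact Subgroup.commutator_mem_commutator he hg
  refine ⟨R2', E', A'', ?_, hR2'H, hR2'2, hcent', hE'2, hE'E.trans hEH, hE'R2', hA''odd, hA''H, hA''R,
    hA''E', ?_⟩
  · rw [hcard']; exact hcardlt
  · calc ⁅E, A⁆ = E' := hE'def.symm
      _ = ⁅E', A⁆ := hstab.symm
      _ ≤ ⁅E', A''⁆ := hmain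

end Cfsg.Agent.Lib.LB2.Climb

namespace Cfsg.Agent.Lib.LB2

open Cfsg
open scoped commutatorElement

variable {Γ : Type*} [Group Γ] [Finite Γ]

/-- **Theorem G''** (climbing), relative to Theorem G for `H` (hypothesis `hG`): the conclusion of Theorem G
holds if `E`, `A` only centralise a 2-subgroup `R1` of `H` which is 2-centric in `H` (every 2-subgroup of
`C_H(R1)` lies in `R1`). -/
theorem climb_of_thmG (H : Subgroup Γ)
    (hG : ∀ S : Subgroup Γ, S ≤ H → IsPGroup 2 S →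
      (∀ P : Subgroup Γ, IsPGroup 2 P → S ≤ P → P ≤ H → P = S) →
      ∀ E : Subgroup Γ, IsPGroup 2 E → E ≤ Subgroup.normalizer (H : Set Γ) →
      E ≤ Subgroup.centralizer (S : Set Γ) →
      ∀ A : Subgroup Γ, Odd (Nat.card A) → A ≤ Subgroup.normalizer (H : Set Γ) →
      A ≤ Subgroup.centralizer (S : Set Γ) → A ≤ Subgroup.normalizer (E : Set Γ) →
      ⁅E, A⁆ ≤ Subgroup.centralizer (H : Set Γ))
    (R1 : Subgroup Γ) (hR1H : R1 ≤ H) (hR12 : IsPGroup 2 R1)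
    (hcent : ∀ Q : Subgroup Γ, IsPGroup 2 Q → Q ≤ H ⊓ Subgroup.centralizer (R1 : Set Γ) → Q ≤ R1)
    (E : Subgroup Γ) (hE2 : IsPGroup 2 E) (hEH : E ≤ Subgroup.normalizer (H : Set Γ))
    (hER : E ≤ Subgroup.centralizer (R1 : Set Γ))
    (A : Subgroup Γ) (hA : Odd (Nat.card A)) (hAH : A ≤ Subgroup.normalizer (H : Set Γ))
    (hAR : A ≤ Subgroup.centralizer (R1 : Set Γ)) (hAE : A ≤ Subgroup.normalizer (E : Set Γ)) :
    ⁅E, A⁆ ≤ Subgroup.centralizer (H : Set Γ) := by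
  induction' hn : Nat.card Γ - Nat.card R1 using Nat.strong_induction_on with n ih generalizing R1 E A
  by_cases hmax : ∀ P : Subgroup Γ, IsPGroup 2 P → R1 ≤ P → P ≤ H → P = R1
  · exact hG R1 hR1H hR12 hmax E hE2 hEH hER A hA hAH hAR hAE
  · push Not at hmax
    obtain ⟨Q, hQ2, hR1Q, hQH, hne⟩ := hmax
    obtain ⟨R2', E', A'', hlt, hR2'H, hR2'2, hcent', hE'2, hE'H, hE'R, hA''odd, hA''H, hA''R, hA''E',
      hle⟩ := Climb.step H R1 hR1H hR12 hcent E hE2 hEH hER A hA hAH hAR hAE Q hQ2 hR1Q hQH hne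
    have hcardle : Nat.card R2' ≤ Nat.card Γ := Subgroup.card_le_card_group R2'
    have := ih (Nat.card Γ - Nat.card R2') (by omega) R2' hR2'H hR2'2 hcent' E' hE'2 hE'H hE'R A'' hA''odd
      hA''H hA''R hA''E' rfl
    exact hle.trans this

end Cfsg.Agent.Lib.LB2
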