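import Mathlib
import Cfsg.Agent.Lib.Helper1.LW.Basic

/-!
# Livingstone–Wagner (S0746), package A-II: the case `n - k` odd is impossible
(see `notes/S0746_swarm_helper1.md`).
-/

set_option autoImplicit false

namespace Cfsg.Agent.Lib.Helper1.LW

variable {α : Type*} [Fintype α] [DecidableEq α] {G : Subgroup (Equiv.Perm α)} {k : ℕ}

omit [Fintype α] in
theorem aii_adj_symm {Γ : Finset α} {a b : α} (h : Adj G Γ a b) : Adj G Γ b a := by
  obtain ⟨g, hg, hfix, hsw⟩ := h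
  refine ⟨g, hg, ?_, hsw.symm⟩
  rw [Finset.pair_comm]
  exact hfix

omit [Fintype α] in
/-- a point of `Γ` avoiding four given points -/
theorem aii_exists_avoid {Γ : Finset α} (hΓ : 5 ≤ Γ.card) (p q r s : α) :
    ∃ z ∈ Γ, z ≠ p ∧ z ≠ q ∧ z ≠ r ∧ z ≠ s := by
  have hlt : ({p, q, r, s} : Finset α).card < Γ.card :=
    lt_of_le_of_lt Finset.card_le_four (by omega)
  obtain ⟨z, hz, hzn⟩ := Finset.exists_mem_notMem_of_card_lt_card hlt
  simp only [Finset.mem_insert, Finset.mem_singleton, not_or] at hzn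
  exact ⟨z, hz, hzn.1, hzn.2.1, hzn.2.2.1, hzn.2.2.2⟩

/-- Package A-II -/
theorem false_caseA (h : Cfg G k) (w : WK G k) (ak : AK G k) (hk6 : 6 ≤ k) : False := by
  have hkn := h.hkn
  -- a `(k-2)`-set with two distinct points
  obtain ⟨Γ₀, -, hΓ₀⟩ := Finset.exists_subset_card_eq (s := (Finset.univ : Finset α)) (n := k - 2)
    (by rw [Finset.card_univ]; omega)
  have hΓ₀c : Γ₀.card + 2 = k := by omega
  obtain ⟨a, ha0, b, hb0, hab⟩ := Finset.one_lt_card.mp (by omega : 1 < Γ₀.card)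
  obtain ⟨c, hc, hadj⟩ := ak.ta2 Γ₀ hΓ₀c a ha0 b hb0 hab
  obtain ⟨Γ, hΓdef⟩ : ∃ Γ : Finset α, Γ = insert c Γ₀ := ⟨_, rfl⟩
  rw [← hΓdef] at hadj
  have hΓc : Γ.card + 1 = k := by
    rw [hΓdef, Finset.card_insert_of_notMem hc]; omega
  have hΓ5 : 5 ≤ Γ.card := by omega
  have ha : a ∈ Γ := by rw [hΓdef]; exact Finset.mem_insert_of_mem ha0
  have hb : b ∈ Γ := by rw [hΓdef]; exact Finset.mem_insert_of_mem hb0
  -- (1) pairs disjoint from `{a, b}`
  have h1 : ∀ x ∈ Γ, ∀ y ∈ Γ, x ≠ a → x ≠ b → y ≠ a → y ≠ b → x ≠ y → Adj G Γ x y := by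
    intro x hx y hy hxa hxb hya hyb hxy
    obtain ⟨z, hz, hza, hzb, hzx, hzy⟩ := aii_exists_avoid hΓ5 a b x y
    exact ak.ta3 Γ hΓc z hz a ha b hb x hx y hy (Ne.symm hza) (Ne.symm hzb) (Ne.symm hzx)
      (Ne.symm hzy) hab (Ne.symm hxa) (Ne.symm hya) (Ne.symm hxb) (Ne.symm hyb) hxy hadj
  -- (2) pairs meeting `{a, b}` in one point
  have h2 : ∀ x ∈ Γ, x ≠ a → x ≠ b → Adj G Γ a x ∧ Adj G Γ b x := by
    intro x hx hxa hxb
    obtain ⟨y, hy, hya, hyb, hyx, -⟩ := aii_exists_avoid hΓ5 a b x x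
    obtain ⟨z, hz, hza, hzb, hzx, hzy⟩ := aii_exists_avoid hΓ5 a b x y
    have hyz : Adj G Γ y z := h1 y hy z hz hya hyb hza hzb (Ne.symm hzy)
    constructor
    · exact ak.ta3 Γ hΓc b hb y hy z hz a ha x hx hyb hzb hab hxb (Ne.symm hzy) hya hyx
        hza hzx (Ne.symm hxa) hyz
    · exact ak.ta3 Γ hΓc a ha y hy z hz b hb x hx hya hza (Ne.symm hab) hxa (Ne.symm hzy) hyb hyx
        hzb hzx (Ne.symm hxb) hyz
  -- all pairs are adjacent
  have hall : ∀ p ∈ Γ, ∀ q ∈ Γ, p ≠ q → Adj G Γ p q := by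
    intro p hp q hq hpq
    by_cases hpa : p = a
    · subst hpa
      by_cases hqb : q = b
      · subst hqb; exact hadj
      · exact (h2 q hq (Ne.symm hpq) hqb).1
    by_cases hpb : p = b
    · subst hpb
      by_cases hqa : q = a
      · subst hqa; exact aii_adj_symm hadj
      · exact (h2 q hq hqa (Ne.symm hpq)).2
    by_cases hqa : q = a
    · subst hqa
      exact aii_adj_symm (h2 p hp hpa hpb).1
    by_cases hqb : q = b
    · subst hqb
      exact aii_adj_symm (h2 p hp hpa hpb).2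
    exact h1 p hp q hq hpa hpb hqa hqb hpq
  obtain ⟨a₀, ha₀, b₀, hb₀, hne, hno⟩ := w.ns Γ hΓc
  obtain ⟨g, hg, hfix, hsw⟩ := hall a₀ ha₀ b₀ hb₀ hne
  exact hno g hg hfix hsw

end Cfsg.Agent.Lib.Helper1.LW
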