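import Mathlib
import Cfsg.Agent.Lib.Helper1.LW.Defs2
import Cfsg.Agent.Lib.Helper9.LW_AI

/-!
# Livingstone–Wagner exceptions (S0745), package A-I (weak version: `Cfg2` instead of `Cfg`);
see `notes/S0745_swarm_helper1.md`.  Same proofs as `LW_AI.lean`.
-/

set_option autoImplicit false

namespace Cfsg.Agent.Lib.Helper1.LW

variable {α : Type*} [Fintype α] [DecidableEq α] {G : Subgroup (Equiv.Perm α)} {k : ℕ}

/-- `ta2` -/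
theorem ai_ta2_2 (h : Cfg2 G k) (sk : SK G k) (hodd : Odd (Fintype.card α - k))
    (Γ₀ : Finset α) (hΓ₀ : Γ₀.card + 2 = k) (a : α) (ha : a ∈ Γ₀) (b : α) (hb : b ∈ Γ₀)
    (hab : a ≠ b) : ∃ c, c ∉ Γ₀ ∧ Adj G (insert c Γ₀) a b := by
  have hkn := h.hkn
  obtain ⟨Λ, hΛ⟩ : ∃ Λ : Finset α, Λ = Γ₀ \ {a, b} := ⟨_, rfl⟩
  have hΛc : Λ.card + 4 = k := by
    have := ai_card_sdiff_pair ha hb hab
    rw [← hΛ] at this
    omega
  have haΛ : a ∉ Λ := by rw [hΛ, ai_mem_sdiff_pair]; tauto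
  have hbΛ : b ∉ Λ := by rw [hΛ, ai_mem_sdiff_pair]; tauto
  obtain ⟨t, htG, htt, htΛ, hsw⟩ := sk.inv_sw Λ hΛc a b haΛ hbΛ hab
  have ht1 : t ≠ 1 := by
    rintro rfl
    exact hab hsw.1
  have hle := sk.fix_le t htG ht1 htt
  have hge := le_nfix htΛ
  have hpar := nfix_parity htt
  have hn : nfix t = Λ.card + 1 := by
    obtain ⟨m, hm⟩ := hodd
    omega
  have hex : ∃ c, t c = c ∧ c ∉ Λ := by
    by_contra hcon
    push Not at hcon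
    have : nfix t ≤ Λ.card := by
      unfold nfix
      apply Finset.card_le_card
      intro x hx
      exact hcon x (Finset.mem_filter.mp hx).2
    omega
  obtain ⟨c, htc, hcΛ⟩ := hex
  have hca : c ≠ a := by
    rintro rfl
    exact hab (htc.symm.trans hsw.1)
  have hcb : c ≠ b := by
    rintro rfl
    exact hab (hsw.2.symm.trans htc)
  have hcΓ : c ∉ Γ₀ := by
    intro hc
    apply hcΛ
    rw [hΛ, ai_mem_sdiff_pair]
    exact ⟨hc, hca, hcb⟩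
  refine ⟨c, hcΓ, t, htG, ?_, hsw⟩
  intro x hx
  rw [ai_mem_sdiff_pair] at hx
  obtain ⟨hx1, hxa, hxb⟩ := hx
  rcases Finset.mem_insert.mp hx1 with rfl | hx1
  · exact htc
  · apply htΛ
    rw [hΛ, ai_mem_sdiff_pair]
    exact ⟨hx1, hxa, hxb⟩

/-- `ta3` -/
theorem ai_ta3_2 (h : Cfg2 G k) (sk : SK G k) (Γ : Finset α) (hΓ : Γ.card + 1 = k)
    (z : α) (hz : z ∈ Γ) (a : α) (ha : a ∈ Γ) (b : α) (hb : b ∈ Γ) (a' : α) (ha' : a' ∈ Γ)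
    (b' : α) (hb' : b' ∈ Γ) (haz : a ≠ z) (hbz : b ≠ z) (ha'z : a' ≠ z) (hb'z : b' ≠ z)
    (hab : a ≠ b) (haa' : a ≠ a') (hab' : a ≠ b') (hba' : b ≠ a') (hbb' : b ≠ b')
    (ha'b' : a' ≠ b') (hadj : Adj G Γ a b) : Adj G Γ a' b' := by
  obtain ⟨g, hgG, hgfix, hgsw⟩ := hadj
  obtain ⟨Γ0, hΓ0⟩ : ∃ Γ0 : Finset α, Γ0 = Γ.erase z := ⟨_, rfl⟩
  have hmem0 : ∀ x, x ∈ Γ0 ↔ x ≠ z ∧ x ∈ Γ := by
    intro x; rw [hΓ0, Finset.mem_erase]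
  have hzΓ0 : z ∉ Γ0 := by rw [hmem0]; tauto
  have ha0 : a ∈ Γ0 := (hmem0 a).mpr ⟨haz, ha⟩
  have hb0 : b ∈ Γ0 := (hmem0 b).mpr ⟨hbz, hb⟩
  have ha'0 : a' ∈ Γ0 := (hmem0 a').mpr ⟨ha'z, ha'⟩
  have hb'0 : b' ∈ Γ0 := (hmem0 b').mpr ⟨hb'z, hb'⟩
  have hΓ0c : Γ0.card + 2 = k := by
    have := Finset.card_erase_add_one hz
    rw [← hΓ0] at this
    omega
  -- `g` fixes the points of `Γ` other than `a, b`
  have hgx : ∀ x ∈ Γ, x ≠ a → x ≠ b → g x = x := by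
    intro x hx hxa hxb
    apply hgfix
    rw [ai_mem_sdiff_pair]
    exact ⟨hx, hxa, hxb⟩
  have hgz : g z = z := hgx z hz (Ne.symm haz) (Ne.symm hbz)
  -- `g` is an involution
  have hgg : g * g = 1 := by
    apply h.eq_one_of_fixOn (G.mul_mem hgG hgG) (S := Γ) (by omega)
    intro x hx
    by_cases hxa : x = a
    · subst hxa; rw [Equiv.Perm.mul_apply, hgsw.1, hgsw.2]
    by_cases hxb : x = b
    · subst hxb; rw [Equiv.Perm.mul_apply, hgsw.2, hgsw.1]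
    rw [Equiv.Perm.mul_apply, hgx x hx hxa hxb, hgx x hx hxa hxb]
  -- the sets `Λ`, `Λ'`
  obtain ⟨Λ, hΛ⟩ : ∃ Λ : Finset α, Λ = Γ0 \ {a, b} := ⟨_, rfl⟩
  obtain ⟨Λ', hΛ'⟩ : ∃ Λ' : Finset α, Λ' = Γ0 \ {a', b'} := ⟨_, rfl⟩
  have hmemΛ : ∀ x, x ∈ Λ ↔ x ∈ Γ0 ∧ x ≠ a ∧ x ≠ b := by
    intro x; rw [hΛ, ai_mem_sdiff_pair]
  have hmemΛ' : ∀ x, x ∈ Λ' ↔ x ∈ Γ0 ∧ x ≠ a' ∧ x ≠ b' := by
    intro x; rw [hΛ', ai_mem_sdiff_pair]
  have hΛc : Λ.card + 4 = k := by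
    have := ai_card_sdiff_pair ha0 hb0 hab
    rw [← hΛ] at this
    omega
  have hΛ'c : Λ'.card + 4 = k := by
    have := ai_card_sdiff_pair ha'0 hb'0 ha'b'
    rw [← hΛ'] at this
    omega
  have haΛ : a ∉ Λ := by rw [hmemΛ]; tauto
  have hbΛ : b ∉ Λ := by rw [hmemΛ]; tauto
  have ha'Λ' : a' ∉ Λ' := by rw [hmemΛ']; tauto
  have hb'Λ' : b' ∉ Λ' := by rw [hmemΛ']; tauto
  have hΛΓ0 : ∀ x ∈ Λ, x ∈ Γ0 := fun x hx => ((hmemΛ x).mp hx).1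
  -- the involution `t'`
  obtain ⟨t', ht'G, ht't', ht'fix, ht'sw⟩ := sk.inv_sw Λ' hΛ'c a' b' ha'Λ' hb'Λ' ha'b'
  have ht'2 : ∀ x, t' (t' x) = x := by
    intro x
    rw [← Equiv.Perm.mul_apply, ht't', Equiv.Perm.one_apply]
  have ht'a : t' a = a := ht'fix a ((hmemΛ' a).mpr ⟨ha0, haa', hab'⟩)
  have ht'b : t' b = b := ht'fix b ((hmemΛ' b).mpr ⟨hb0, hba', hbb'⟩)
  have ht'Γ0 : ∀ x ∈ Γ0, t' x ∈ Γ0 := by
    intro x hx
    by_cases hxa' : x = a'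
    · subst hxa'; rw [ht'sw.1]; exact hb'0
    by_cases hxb' : x = b'
    · subst hxb'; rw [ht'sw.2]; exact ha'0
    rw [ht'fix x ((hmemΛ' x).mpr ⟨hx, hxa', hxb'⟩)]; exact hx
  -- the conjugate `g'`
  obtain ⟨g', hg'⟩ : ∃ g' : Equiv.Perm α, g' = t' * g * t' := ⟨_, rfl⟩
  have hg'G : g' ∈ G := by rw [hg']; exact G.mul_mem (G.mul_mem ht'G hgG) ht'G
  have hg'app : ∀ x, g' x = t' (g (t' x)) := by
    intro x; rw [hg']; simp [Equiv.Perm.mul_apply]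
  have hg'g' : g' * g' = 1 := by
    rw [hg']
    calc t' * g * t' * (t' * g * t') = t' * g * (t' * t') * g * t' := by group
      _ = t' * (g * g) * t' := by rw [ht't']; group
      _ = 1 := by rw [hgg, mul_one, ht't']
  have hg'fix : FixOn g' Λ := by
    intro x hx
    obtain ⟨hx0, hxa, hxb⟩ := (hmemΛ x).mp hx
    have hxΓ : x ∈ Γ := ((hmem0 x).mp hx0).2
    rw [hg'app]
    by_cases hxa' : x = a'
    · subst hxa'
      rw [ht'sw.1, hgx b' hb' (Ne.symm hab') (Ne.symm hbb'), ht'sw.2]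
    by_cases hxb' : x = b'
    · subst hxb'
      rw [ht'sw.2, hgx a' ha' (Ne.symm haa') (Ne.symm hba'), ht'sw.1]
    have hxΛ' : x ∈ Λ' := (hmemΛ' x).mpr ⟨hx0, hxa', hxb'⟩
    rw [ht'fix x hxΛ', hgx x hxΓ hxa hxb, ht'fix x hxΛ']
  have hg'sw : Swaps g' a b := by
    constructor
    · rw [hg'app, ht'a, hgsw.1, ht'b]
    · rw [hg'app, ht'b, hgsw.2, ht'a]
  have hg'1 : g' ≠ 1 := by
    rintro he
    rw [he] at hg'sw
    exact hab hg'sw.1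
  have hgfixΛ : FixOn g Λ := by
    intro x hx
    obtain ⟨hx0, hxa, hxb⟩ := (hmemΛ x).mp hx
    exact hgx x ((hmem0 x).mp hx0).2 hxa hxb
  -- conjugating element
  obtain ⟨hh, hhG, hhfix, hconj⟩ := sk.inv_conj Λ hΛc a b haΛ hbΛ hab g hgG g' hg'G hgg hg'g'
    hgfixΛ hg'fix hgsw hg'sw
  have hhΓ0 : FixOn hh Γ0 := by
    intro x hx
    apply hhfix
    by_cases hxa : x = a
    · subst hxa; exact Finset.mem_insert_self _ _
    by_cases hxb : x = b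
    · subst hxb; exact Finset.mem_insert_of_mem (Finset.mem_insert_self _ _)
    exact Finset.mem_insert_of_mem (Finset.mem_insert_of_mem ((hmemΛ x).mpr ⟨hx, hxa, hxb⟩))
  have hhinvΓ0 : FixOn hh⁻¹ Γ0 := hhΓ0.inv
  -- two fixed points of `g'`
  have hp1 : g' (hh⁻¹ z) = hh⁻¹ z := by
    rw [hconj]
    simp only [Equiv.Perm.mul_apply]
    rw [ai_apply_inv, hgz]
  have hp2 : g' (t' z) = t' z := by
    rw [hg'app, ht'2, hgz]
  have hp1Λ : hh⁻¹ z ∉ Λ := by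
    intro hm
    have h0 := hΛΓ0 _ hm
    have h1 := hhΓ0 _ h0
    rw [ai_apply_inv] at h1
    apply hzΓ0
    rw [h1]; exact h0
  have hp2Λ : t' z ∉ Λ := by
    intro hm
    have h0 := hΛΓ0 _ hm
    have h1 := ht'Γ0 _ h0
    rw [ht'2] at h1
    exact hzΓ0 h1
  have hnle : nfix g' ≤ Λ.card + 1 := by
    have := sk.fix_le g' hg'G hg'1 hg'g'
    omega
  have hpp : hh⁻¹ z = t' z := eq_of_nfix_le hg'fix hnle hp1Λ hp2Λ hp1 hp2
  -- the element `w`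
  refine ⟨t' * hh⁻¹, G.mul_mem ht'G (G.inv_mem hhG), ?_, ?_⟩
  · intro x hx
    obtain ⟨hxΓ, hxa', hxb'⟩ := ai_mem_sdiff_pair.mp hx
    rw [Equiv.Perm.mul_apply]
    by_cases hxz : x = z
    · subst hxz
      rw [hpp, ht'2]
    · have hx0 : x ∈ Γ0 := (hmem0 x).mpr ⟨hxz, hxΓ⟩
      rw [hhinvΓ0 x hx0]
      exact ht'fix x ((hmemΛ' x).mpr ⟨hx0, hxa', hxb'⟩)
  · constructor
    · rw [Equiv.Perm.mul_apply, hhinvΓ0 a' ha'0, ht'sw.1]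
    · rw [Equiv.Perm.mul_apply, hhinvΓ0 b' hb'0, ht'sw.2]

/-- Package A-I -/
theorem ak_of_cfg2 (h : Cfg2 G k) (w : WK G k) (sk : SK G k)
    (hodd : Odd (Fintype.card α - k)) (hk4 : 4 ≤ k) : AK G k :=
  ⟨fun Γ₀ hΓ₀ a ha b hb hab => ai_ta2_2 h sk hodd Γ₀ hΓ₀ a ha b hb hab,
   fun Γ hΓ z hz a ha b hb a' ha' b' hb' haz hbz ha'z hb'z hab haa' hab' hba' hbb' ha'b' hadj =>
     ai_ta3_2 h sk Γ hΓ z hz a ha b hb a' ha' b' hb' haz hbz ha'z hb'z hab haa' hab' hba' hbb'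
       ha'b' hadj⟩

end Cfsg.Agent.Lib.Helper1.LW
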