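import Mathlib
import Cfsg.Agent.Lib.Helper1.LW.Defs2

/-!
# Livingstone–Wagner exceptions (S0745), package KILL610: there is no configuration with
`k = 6`, `n = 10` (`r = 2`, `s = 3`), i.e. no 4-transitive group of degree 10 whose 4-point
stabiliser has order 3.  See `notes/S0745_swarm_helper1.md` (order-7 commutator argument).
-/

set_option autoImplicit false

namespace Cfsg.Agent.Lib.Helper1.LW

variable {α : Type*} [Fintype α] [DecidableEq α] {G : Subgroup (Equiv.Perm α)}

omit [Fintype α] [DecidableEq α] in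
/-- the subgroup of `G` fixing `S` pointwise, as a subgroup of `Perm α` -/
def k610Fix (G : Subgroup (Equiv.Perm α)) (S : Finset α) : Subgroup (Equiv.Perm α) where
  carrier := {g | g ∈ G ∧ FixOn g S}
  one_mem' := ⟨G.one_mem, FixOn.one S⟩
  mul_mem' := by
    rintro a b ⟨ha, ha'⟩ ⟨hb, hb'⟩
    exact ⟨G.mul_mem ha hb, ha'.mul hb'⟩
  inv_mem' := by
    rintro a ⟨ha, ha'⟩
    exact ⟨G.inv_mem ha, ha'.inv⟩

/-- a permutation of order 7 on 10 points is a 7-cycle -/
theorem k610_isCycle (hn : Fintype.card α = 10) {x : Equiv.Perm α} (hx : orderOf x = 7) :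
    x.IsCycle := by
  have hp : (orderOf x).Prime := by rw [hx]; norm_num
  obtain ⟨m, hm⟩ := Equiv.Perm.cycleType_prime_order hp
  rw [← Equiv.Perm.card_cycleType_eq_one, hm, Multiset.card_replicate]
  have hs := Equiv.Perm.sum_cycleType_le x
  rw [hm, Multiset.sum_replicate, hx, hn, smul_eq_mul] at hs
  omega

omit [DecidableEq α] in
/-- an element with `y ^ 7 = 1` fixing four points is trivial -/
theorem k610_seven_fix (nk : NK2 G 6 2 3) {y : Equiv.Perm α} (hy : y ∈ G) (h7 : y ^ 7 = 1)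
    (S : Finset α) (hS : S.card = 4) (hf : FixOn y S) : y = 1 := by
  have h3 := nk.hpow y hy S (by omega) hf
  have h : y ^ 7 = y ^ 3 * y ^ 3 * y := by
    rw [← pow_add, ← pow_succ]
  rw [h3, one_mul, one_mul] at h
  rw [← h]; exact h7

omit [Fintype α] [DecidableEq α] in
theorem k610_apply_inv (f : Equiv.Perm α) (x : α) : f (f⁻¹ x) = x := by simp

omit [Fintype α] [DecidableEq α] in
theorem k610_inv_apply (f : Equiv.Perm α) (x : α) : f⁻¹ (f x) = x := by simp

/-- KILL: there is no configuration with `k = 6`, `n = 10` (`r = 2`, `s = 3`). -/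
theorem kill_six_ten (h : Cfg2 G 6) (w : WK G 6) (nk : NK2 G 6 2 3)
    (hn : Fintype.card α = 10) : False := by
  classical
  -- a 4-set and a nontrivial element `g` fixing it pointwise
  obtain ⟨Γ0, -, hΓ0⟩ := Finset.exists_subset_card_eq (s := (Finset.univ : Finset α)) (n := 4)
    (by rw [Finset.card_univ, hn]; norm_num)
  have hcard : Nat.card ↥(fixingSubgroup ↥G (Γ0 : Set α)) = 3 := nk.hs Γ0 (by omega)
  have : Nontrivial ↥(fixingSubgroup ↥G (Γ0 : Set α)) := by
    apply (Finite.one_lt_card_iff_nontrivial).mp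
    rw [hcard]; norm_num
  obtain ⟨g', hg'⟩ := exists_ne (1 : ↥(fixingSubgroup ↥G (Γ0 : Set α)))
  obtain ⟨g, hg⟩ : ∃ g : Equiv.Perm α, g = ((g' : ↥G) : Equiv.Perm α) := ⟨_, rfl⟩
  have hgG : g ∈ G := by rw [hg]; exact (g' : ↥G).2
  have hgfix : FixOn g Γ0 := by
    intro z hz
    have := (mem_fixingSubgroup_iff ↥G).mp g'.2 z (Finset.mem_coe.mpr hz)
    rw [hg]; exact this
  have hg1 : g ≠ 1 := by
    intro h1
    apply hg'
    apply Subtype.ext
    apply Subtype.ext
    rw [← hg, h1]; rfl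
  have hg3 : g ^ 3 = 1 := nk.hpow g hgG Γ0 (by omega) hgfix
  have hgnf : ∀ z, z ∉ Γ0 → g z ≠ z := by
    intro z hz hgz
    apply hg1
    apply h.eq_one_of_fixOn hgG (S := insert z Γ0)
      (by rw [Finset.card_insert_of_notMem hz]; omega)
    exact hgfix.insert hgz
  -- a 3-cycle `C1 = {q, q1, q2}` of `g`
  obtain ⟨q, hq⟩ : ∃ q, q ∉ Γ0 := by
    by_contra hcon
    push Not at hcon
    have : (Finset.univ : Finset α).card ≤ Γ0.card := Finset.card_le_card (fun z _ => hcon z)
    rw [Finset.card_univ, hn, hΓ0] at this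
    omega
  obtain ⟨q1, hq1⟩ : ∃ q1, q1 = g q := ⟨_, rfl⟩
  obtain ⟨q2, hq2⟩ : ∃ q2, q2 = g q1 := ⟨_, rfl⟩
  have hgq2 : g q2 = q := by
    have : (g ^ 3) q = q := by rw [hg3]; rfl
    rw [hq2, hq1]
    simpa [pow_succ, Equiv.Perm.mul_apply] using this
  have hq1Γ : q1 ∉ Γ0 := by
    intro hm
    have h1 := hgfix q1 hm
    have h2 : g q1 = g q := by rw [h1, hq1]
    exact hgnf q hq (by rw [← hq1]; exact (g.injective h2))
  have hq2Γ : q2 ∉ Γ0 := by
    intro hm
    have h1 := hgfix q2 hm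
    have h2 : g q2 = g q1 := by rw [h1, hq2]
    exact hgnf q1 hq1Γ (by rw [← hq2]; exact (g.injective h2))
  have hq1q : q1 ≠ q := by rw [hq1]; exact hgnf q hq
  have hq2q1 : q2 ≠ q1 := by rw [hq2]; exact hgnf q1 hq1Γ
  have hq2q : q2 ≠ q := by
    intro he
    have : g q2 = q1 := by rw [he, hq1]
    rw [hgq2] at this
    exact hq1q this.symm
  obtain ⟨C1, hC1⟩ : ∃ C1 : Finset α, C1 = {q, q1, q2} := ⟨_, rfl⟩
  have hmemC1 : ∀ z, z ∈ C1 ↔ z = q ∨ z = q1 ∨ z = q2 := by
    intro z; rw [hC1]; simp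
  have hC1card : C1.card = 3 := by
    rw [hC1, Finset.card_insert_of_notMem, Finset.card_insert_of_notMem, Finset.card_singleton]
    · simp only [Finset.mem_singleton]; exact fun he => hq2q1 he.symm
    · simp only [Finset.mem_insert, Finset.mem_singleton]
      rintro (he | he)
      · exact hq1q he.symm
      · exact hq2q he.symm
  have hC1Γ : ∀ z, z ∈ C1 → z ∉ Γ0 := by
    intro z hz
    rcases (hmemC1 z).mp hz with rfl | rfl | rfl
    · exact hq
    · exact hq1Γ
    · exact hq2Γ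
  have hgC1 : ∀ z, z ∈ C1 → g z ∈ C1 := by
    intro z hz
    rw [hmemC1]
    rcases (hmemC1 z).mp hz with rfl | rfl | rfl
    · right; left; exact hq1.symm
    · right; right; exact hq2.symm
    · left; exact hgq2
  -- the remaining three points
  obtain ⟨C2, hC2⟩ : ∃ C2 : Finset α, C2 = Finset.univ \ (Γ0 ∪ C1) := ⟨_, rfl⟩
  have hmemC2 : ∀ z, z ∈ C2 ↔ z ∉ Γ0 ∧ z ∉ C1 := by
    intro z; rw [hC2]; simp
  have hdisj : Disjoint Γ0 C1 := by
    rw [Finset.disjoint_left]
    intro z hz hz'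
    exact hC1Γ z hz' hz
  have hC2card : C2.card = 3 := by
    rw [hC2, Finset.card_sdiff_of_subset (Finset.subset_univ _), Finset.card_univ, hn,
      Finset.card_union_of_disjoint hdisj, hΓ0, hC1card]
  obtain ⟨a, ha, b, hb, hab⟩ := Finset.one_lt_card.mp (by rw [hC2card]; norm_num : 1 < C2.card)
  have haΓ := ((hmemC2 a).mp ha).1
  have haC1 := ((hmemC2 a).mp ha).2
  have hbΓ := ((hmemC2 b).mp hb).1
  have hbC1 := ((hmemC2 b).mp hb).2
  -- an element `x` of order 7 fixing `C1` pointwise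
  obtain ⟨K, hK⟩ : ∃ K : Subgroup (Equiv.Perm α), K = k610Fix G C1 := ⟨_, rfl⟩
  have hmemK : ∀ y, y ∈ K ↔ y ∈ G ∧ FixOn y C1 := by
    intro y; rw [hK]; rfl
  have horb : MulAction.orbit ↥K a = ((Finset.univ \ C1 : Finset α) : Set α) := by
    ext z
    rw [MulAction.mem_orbit_iff]
    constructor
    · rintro ⟨m, rfl⟩
      simp only [Finset.coe_sdiff, Finset.coe_univ, Set.mem_sdiff, Set.mem_univ, true_and,
        Finset.mem_coe]
      intro hmem
      have hm := ((hmemK m.1).mp m.2).2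
      have h1 : (m : Equiv.Perm α) ((m : Equiv.Perm α) a) = (m : Equiv.Perm α) a := hm _ hmem
      have h2 : (m : Equiv.Perm α) a = a := (m : Equiv.Perm α).injective h1
      apply haC1
      have : (m : Equiv.Perm α) a ∈ C1 := hmem
      rw [h2] at this
      exact this
    · intro hz
      have hzC1 : z ∉ C1 := by
        simpa using hz
      obtain ⟨y, hyG, hyf, hya⟩ := w.tr1 C1 (by rw [hC1card]) a z haC1 hzC1
      exact ⟨⟨y, (hmemK y).mpr ⟨hyG, hyf⟩⟩, hya⟩
  have h7 : 7 ∣ Nat.card ↥K := by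
    have h1 := MulAction.index_stabilizer ↥K a
    have h2 := Subgroup.index_dvd_card (MulAction.stabilizer ↥K a)
    rw [h1, horb, Set.ncard_coe_finset, Finset.card_sdiff_of_subset (Finset.subset_univ _),
      Finset.card_univ, hn, hC1card] at h2
    exact h2
  have : Fact (Nat.Prime 7) := ⟨by norm_num⟩
  obtain ⟨x', hx'⟩ := exists_prime_orderOf_dvd_card' (G := ↥K) 7 h7
  obtain ⟨x, hx⟩ : ∃ x : Equiv.Perm α, x = (x' : Equiv.Perm α) := ⟨_, rfl⟩
  have hxK : x ∈ K := by rw [hx]; exact x'.2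
  have hxG : x ∈ G := ((hmemK x).mp hxK).1
  have hxf : FixOn x C1 := ((hmemK x).mp hxK).2
  have hxo : orderOf x = 7 := by rw [hx, Subgroup.orderOf_coe]; exact hx'
  have hxcyc := k610_isCycle hn hxo
  have hx7 : x ^ 7 = 1 := by rw [← hxo]; exact pow_orderOf_eq_one x
  have hx1 : x ≠ 1 := by
    intro h1
    rw [h1, orderOf_one] at hxo
    omega
  have hxnf : ∀ z, z ∉ C1 → x z ≠ z := by
    intro z hz hxz
    apply hx1
    apply k610_seven_fix nk hxG hx7 (insert z C1)
      (by rw [Finset.card_insert_of_notMem hz, hC1card])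
    exact hxf.insert hxz
  obtain ⟨i, hi⟩ := hxcyc.exists_pow_eq (hxnf a haC1) (hxnf b hbC1)
  obtain ⟨y, hy⟩ : ∃ y : Equiv.Perm α, y = x ^ i := ⟨_, rfl⟩
  have hyG : y ∈ G := by rw [hy]; exact G.pow_mem hxG i
  have hyf : FixOn y C1 := by rw [hy]; exact hxf.pow i
  have hya : y a = b := by rw [hy]; exact hi
  have hy7 : y ^ 7 = 1 := by
    rw [hy, ← pow_mul, mul_comm, pow_mul, hx7, one_pow]
  have hy1 : y ≠ 1 := by
    intro h1
    rw [h1] at hya
    exact hab hya
  -- the commutator `c` fixes at least 5 points, hence is trivial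
  obtain ⟨c, hc⟩ : ∃ c : Equiv.Perm α, c = g⁻¹ * (y * g * y⁻¹) := ⟨_, rfl⟩
  have hcG : c ∈ G := by
    rw [hc]
    exact G.mul_mem (G.inv_mem hgG) (G.mul_mem (G.mul_mem hyG hgG) (G.inv_mem hyG))
  have hyinvf : FixOn y⁻¹ C1 := hyf.inv
  have hcfix : ∀ z, z ∉ C2 → y⁻¹ z ∉ C2 → c z = z := by
    intro z hz hyz
    rw [hc]
    simp only [Equiv.Perm.mul_apply]
    by_cases hzC1 : z ∈ C1
    · rw [hyinvf z hzC1, hyf (g z) (hgC1 z hzC1)]
      exact k610_inv_apply g z
    · have hzΓ : z ∈ Γ0 := by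
        by_contra hcon
        exact hz ((hmemC2 z).mpr ⟨hcon, hzC1⟩)
      have huC1 : y⁻¹ z ∉ C1 := by
        intro hu
        have h1 := hyf _ hu
        rw [k610_apply_inv] at h1
        rw [← h1] at hu
        exact hzC1 hu
      have huΓ : y⁻¹ z ∈ Γ0 := by
        by_contra hcon
        exact hyz ((hmemC2 _).mpr ⟨hcon, huC1⟩)
      rw [hgfix _ huΓ, k610_apply_inv, Equiv.Perm.inv_eq_iff_eq]
      exact (hgfix z hzΓ).symm
  have hc1 : c = 1 := by
    apply h.eq_one_of_fixOn hcG (S := Finset.univ \ (C2 ∪ C2.image y))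
    · have hinter : 1 ≤ (C2 ∩ C2.image y).card := by
        apply Finset.card_pos.mpr
        exact ⟨b, Finset.mem_inter.mpr ⟨hb, Finset.mem_image.mpr ⟨a, ha, hya⟩⟩⟩
      have hui := Finset.card_union_add_card_inter C2 (C2.image y)
      have himg : (C2.image y).card = 3 := by
        rw [Finset.card_image_of_injective _ y.injective, hC2card]
      rw [Finset.card_sdiff_of_subset (Finset.subset_univ _), Finset.card_univ, hn]
      omega
    · intro z hz
      simp only [Finset.mem_sdiff, Finset.mem_univ, true_and, Finset.mem_union,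
        Finset.mem_image, not_or, not_exists, not_and] at hz
      apply hcfix z hz.1
      intro hu
      exact hz.2 _ hu (k610_apply_inv y z)
  -- so `y` commutes with `g` and preserves `Γ0 = Fix g`
  have hcomm : y * g = g * y := by
    have h1 : g * c = y * g * y⁻¹ := by rw [hc]; group
    rw [hc1, mul_one] at h1
    calc y * g = y * g * y⁻¹ * y := by group
      _ = g * y := by rw [← h1]
  have hyΓ : ∀ z, z ∈ Γ0 → y z ∈ Γ0 := by
    intro z hz
    by_contra hcon
    apply hgnf (y z) hcon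
    have : (g * y) z = (y * g) z := by rw [hcomm]
    simp only [Equiv.Perm.mul_apply] at this
    rw [this, hgfix z hz]
  have hypowΓ : ∀ j : ℕ, ∀ z, z ∈ Γ0 → (y ^ j) z ∈ Γ0 := by
    intro j
    induction j with
    | zero => intro z hz; simpa using hz
    | succ j ih =>
      intro z hz
      rw [pow_succ, Equiv.Perm.mul_apply]
      exact ih _ (hyΓ z hz)
  -- `y` is a 7-cycle moving a point of `Γ0` and the point `a ∉ Γ0`
  have hyo : orderOf y = 7 := orderOf_eq_prime hy7 hy1
  have hycyc := k610_isCycle hn hyo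
  obtain ⟨z0, hz0⟩ : ∃ z0, z0 ∈ Γ0 := by
    apply Finset.card_pos.mp
    rw [hΓ0]; norm_num
  have hz0C1 : z0 ∉ C1 := fun hm => hC1Γ z0 hm hz0
  have hyz0 : y z0 ≠ z0 := by
    intro hyz
    apply hy1
    apply k610_seven_fix nk hyG hy7 (insert z0 C1)
      (by rw [Finset.card_insert_of_notMem hz0C1, hC1card])
    exact hyf.insert hyz
  have hyaa : y a ≠ a := by rw [hya]; exact fun he => hab he.symm
  obtain ⟨j, hj⟩ := hycyc.exists_pow_eq hyz0 hyaa
  apply haΓ
  rw [← hj]
  exact hypowΓ j z0 hz0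

end Cfsg.Agent.Lib.Helper1.LW
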