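import Mathlib
import Cfsg.Agent.Lib.Helper9.LargeExtra

set_option autoImplicit false
open Cfsg

namespace Cfsg.Agent.Lib.Helper9.LargeExtra

variable {G : Type*} [Group G]

namespace Core

variable {Q : Subgroup G} {z : G} (h : Core Q z)
include h

theorem mem_conj_map {g x : G} :
    x ∈ Q.map (MulAut.conj g).toMonoidHom ↔ ∃ q ∈ Q, g * q * g⁻¹ = x := by
  rw [Subgroup.mem_map]
  simp only [MulEquiv.coe_toMonoidHom, MulAut.conj_apply]

/-- An element commuting with `g z g⁻¹` normalizes `g Q g⁻¹`. -/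
theorem conj_mem_of_comm {g c : G} (hc : c * (g * z * g⁻¹) = (g * z * g⁻¹) * c) {x : G}
    (hx : x ∈ Q.map (MulAut.conj g).toMonoidHom) :
    c * x * c⁻¹ ∈ Q.map (MulAut.conj g).toMonoidHom := by
  rw [h.mem_conj_map] at hx ⊢
  obtain ⟨q, hq, rfl⟩ := hx
  have h1 : (g⁻¹ * c * g) * z = z * (g⁻¹ * c * g) := by
    calc (g⁻¹ * c * g) * z = g⁻¹ * (c * (g * z * g⁻¹)) * g := by group
      _ = g⁻¹ * ((g * z * g⁻¹) * c) * g := by rw [hc]
      _ = z * (g⁻¹ * c * g) := by group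
  refine ⟨(g⁻¹ * c * g) * q * (g⁻¹ * c * g)⁻¹, h.norm _ h1 q hq, ?_⟩
  group

/-- Elements of `g Q g⁻¹` commute with `g z g⁻¹`. -/
theorem comm_of_mem_conj {g x : G} (hx : x ∈ Q.map (MulAut.conj g).toMonoidHom) :
    x * (g * z * g⁻¹) = (g * z * g⁻¹) * x := by
  rw [h.mem_conj_map] at hx
  obtain ⟨q, hq, rfl⟩ := hx
  calc g * q * g⁻¹ * (g * z * g⁻¹) = g * (q * z) * g⁻¹ := by group
    _ = g * (z * q) * g⁻¹ := by rw [h.z_comm q hq]
    _ = (g * z * g⁻¹) * (g * q * g⁻¹) := by group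

/-- The key Sylow-type step: some element of `C(a)` moves `z` to `z a`. -/
theorem exists_y [Finite G] (g : G) (haQ : g * z * g⁻¹ ∈ Q) (haz : g * z * g⁻¹ ≠ z) :
    ∃ y : G, y * (g * z * g⁻¹) = (g * z * g⁻¹) * y ∧ y * z * y⁻¹ = z * (g * z * g⁻¹) := by
  classical
  obtain ⟨a, ha⟩ : ∃ a, a = g * z * g⁻¹ := ⟨_, rfl⟩
  rw [← ha] at haQ haz ⊢
  have ha1 : a ≠ 1 := by
    intro h1
    apply h.z_ne
    have : z = g⁻¹ * a * g := by rw [ha]; group
    rw [this, h1]; group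
  have haa : a * a = 1 := by
    calc a * a = g * (z * z) * g⁻¹ := by rw [ha]; group
      _ = 1 := by rw [h.z_sq]; group
  haveI : Fact (Nat.Prime 2) := ⟨Nat.prime_two⟩
  set Qa : Subgroup G := Q.map (MulAut.conj g).toMonoidHom with hQa
  set R : Subgroup G := Q ⊓ Subgroup.centralizer ({a} : Set G) with hR
  have hmemR : ∀ r, r ∈ R ↔ r ∈ Q ∧ r * a = a * r := by
    intro r
    rw [hR, Subgroup.mem_inf, Subgroup.mem_centralizer_iff]
    constructor
    · rintro ⟨h1, h2⟩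
      exact ⟨h1, (h2 a rfl).symm⟩
    · rintro ⟨h1, h2⟩
      refine ⟨h1, ?_⟩
      intro x hx
      rw [Set.mem_singleton_iff] at hx
      rw [hx]; exact h2.symm
  have hR2 : IsPGroup 2 R := h.two.to_le inf_le_left
  have hQa2 : IsPGroup 2 Qa := h.two.map _
  have hRN : R ≤ Subgroup.normalizer (Qa : Set G) := by
    intro r hr
    apply Subgroup.mem_normalizer_fintype
    intro x hx
    have hra : r * (g * z * g⁻¹) = (g * z * g⁻¹) * r := by
      rw [← ha]; exact ((hmemR r).mp hr).2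
    exact h.conj_mem_of_comm hra hx
  set S : Subgroup G := R ⊔ Qa with hS
  have hS2 : IsPGroup 2 S := IsPGroup.to_sup_of_normal_right' hR2 hQa2 hRN
  have hSa : ∀ s ∈ S, s * a = a * s := by
    have : S ≤ Subgroup.centralizer ({a} : Set G) := by
      apply sup_le inf_le_right
      intro x hx
      rw [Subgroup.mem_centralizer_iff]
      intro y hy
      rw [Set.mem_singleton_iff] at hy
      rw [hy, ha]
      exact (h.comm_of_mem_conj hx).symm
    intro s hs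
    have := (Subgroup.mem_centralizer_iff.mp (this hs)) a rfl
    exact this.symm
  set H' : Subgroup ↥S := (Subgroup.centralizer ({z} : Set G)).subgroupOf S with hH'
  have hmemH' : ∀ s : ↥S, s ∈ H' ↔ (s : G) * z = z * (s : G) := by
    intro s
    rw [hH', Subgroup.mem_subgroupOf, Subgroup.mem_centralizer_iff]
    constructor
    · intro h1; exact (h1 z rfl).symm
    · intro h1 x hx
      rw [Set.mem_singleton_iff] at hx
      rw [hx]; exact h1.symm
  have hH'top : H' ≠ ⊤ := by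
    intro htop
    -- then Qa centralizes z, so g⁻¹ z g centralizes Q
    have h1 : ∀ q ∈ Q, (g⁻¹ * z * g) * q = q * (g⁻¹ * z * g) := by
      intro q hq
      have hx : g * q * g⁻¹ ∈ S := by
        apply Subgroup.mem_sup_right
        exact (h.mem_conj_map).mpr ⟨q, hq, rfl⟩
      have h2 : (⟨g * q * g⁻¹, hx⟩ : ↥S) ∈ H' := by rw [htop]; exact Subgroup.mem_top _
      rw [hmemH'] at h2
      simp only at h2
      calc (g⁻¹ * z * g) * q = g⁻¹ * (z * (g * q * g⁻¹)) * g := by group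
        _ = g⁻¹ * ((g * q * g⁻¹) * z) * g := by rw [h2]
        _ = q * (g⁻¹ * z * g) := by group
    rcases h.cent _ h1 with h2 | h2
    · apply h.z_ne
      calc z = g * (g⁻¹ * z * g) * g⁻¹ := by group
        _ = 1 := by rw [h2]; group
    · apply haz
      calc a = g * z * g⁻¹ := ha
        _ = g * (g⁻¹ * z * g) * g⁻¹ := by rw [h2]
        _ = z := by group
  haveI : Group.IsNilpotent ↥S := hS2.isNilpotent
  have hlt : H' < Subgroup.normalizer (H' : Set ↥S) :=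
    Group.normalizerCondition_of_isNilpotent H' (lt_top_iff_ne_top.mpr hH'top)
  obtain ⟨y', hy'N, hy'H⟩ := SetLike.exists_of_lt hlt
  refine ⟨(y' : G), hSa _ y'.2, ?_⟩
  -- y z y⁻¹ centralizes R
  have hcR : ∀ r ∈ Q, r * a = a * r → ((y' : G) * z * (y' : G)⁻¹) * r = r * ((y' : G) * z * (y' : G)⁻¹) := by
    intro r hrQ hra
    have hrR : r ∈ R := (hmemR r).mpr ⟨hrQ, hra⟩
    have hrS : r ∈ S := Subgroup.mem_sup_left hrR
    have hrH : (⟨r, hrS⟩ : ↥S) ∈ H' := by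
      rw [hmemH']; exact h.z_comm r hrQ
    have hyinv : y'⁻¹ ∈ Subgroup.normalizer (H' : Set ↥S) := Subgroup.inv_mem _ hy'N
    have h3 := ((Subgroup.mem_normalizer_iff.mp hyinv) ⟨r, hrS⟩).mp hrH
    rw [hmemH'] at h3
    simp only [Subgroup.coe_mul, Subgroup.coe_inv, inv_inv] at h3
    calc ((y' : G) * z * (y' : G)⁻¹) * r = (y' : G) * (z * ((y' : G)⁻¹ * r * (y' : G))) * (y' : G)⁻¹ := by group
      _ = (y' : G) * (((y' : G)⁻¹ * r * (y' : G)) * z) * (y' : G)⁻¹ := by rw [h3]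
      _ = r * ((y' : G) * z * (y' : G)⁻¹) := by group
  rcases h.centralizer_R haQ ha1 haz haa hcR with h1 | h1 | h1 | h1
  · exfalso; apply h.z_ne
    calc z = (y' : G)⁻¹ * ((y' : G) * z * (y' : G)⁻¹) * (y' : G) := by group
      _ = 1 := by rw [h1]; group
  · exfalso; apply hy'H
    rw [hmemH']
    calc (y' : G) * z = ((y' : G) * z * (y' : G)⁻¹) * (y' : G) := by group
      _ = z * (y' : G) := by rw [h1]
  · exfalso; apply haz
    have h2 : (y' : G) * a * (y' : G)⁻¹ = a := by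
      rw [hSa _ y'.2]; group
    have h3 : (y' : G) * z * (y' : G)⁻¹ = (y' : G) * a * (y' : G)⁻¹ := by rw [h1, h2]
    have h4 : z = a := by
      calc z = (y' : G)⁻¹ * ((y' : G) * z * (y' : G)⁻¹) * (y' : G) := by group
        _ = (y' : G)⁻¹ * ((y' : G) * a * (y' : G)⁻¹) * (y' : G) := by rw [h3]
        _ = a := by group
    exact h4.symm
  · exact h1

/-- Conclusion (1): `z ∈ g Q g⁻¹`. -/
theorem z_mem_conj [Finite G] (g : G) (haQ : g * z * g⁻¹ ∈ Q) (haz : g * z * g⁻¹ ≠ z) :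
    z ∈ Q.map (MulAut.conj g).toMonoidHom := by
  obtain ⟨y, hya, hyz⟩ := h.exists_y g haQ haz
  obtain ⟨a, ha⟩ : ∃ a, a = g * z * g⁻¹ := ⟨_, rfl⟩
  rw [← ha] at haQ haz hya hyz
  have ha1 : a ≠ 1 := by
    intro h1
    apply h.z_ne
    have : z = g⁻¹ * a * g := by rw [ha]; group
    rw [this, h1]; group
  have haa : a * a = 1 := by
    calc a * a = g * (z * z) * g⁻¹ := by rw [ha]; group
      _ = 1 := by rw [h.z_sq]; group
  obtain ⟨q0, hq0, hq0a⟩ := h.exists_swap haQ ha1 haz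
  -- hh := q0 * y
  have hya' : y * a * y⁻¹ = a := by rw [hya]; group
  have hhz : (q0 * y) * z * (q0 * y)⁻¹ = a := by
    calc (q0 * y) * z * (q0 * y)⁻¹ = q0 * (y * z * y⁻¹) * q0⁻¹ := by group
      _ = q0 * (z * a) * q0⁻¹ := by rw [hyz]
      _ = a := h.swap_za hq0 hq0a
  have hha : (q0 * y) * a * (q0 * y)⁻¹ = z * a := by
    calc (q0 * y) * a * (q0 * y)⁻¹ = q0 * (y * a * y⁻¹) * q0⁻¹ := by group
      _ = q0 * a * q0⁻¹ := by rw [hya']
      _ = z * a := hq0a
  -- k := g⁻¹ * (q0 * y) commutes with z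
  have hk : (g⁻¹ * (q0 * y)) * z = z * (g⁻¹ * (q0 * y)) := by
    have : (g⁻¹ * (q0 * y)) * z * (g⁻¹ * (q0 * y))⁻¹ = z := by
      calc (g⁻¹ * (q0 * y)) * z * (g⁻¹ * (q0 * y))⁻¹ = g⁻¹ * ((q0 * y) * z * (q0 * y)⁻¹) * g := by group
        _ = g⁻¹ * (g * z * g⁻¹) * g := by rw [hhz, ha]
        _ = z := by group
    calc (g⁻¹ * (q0 * y)) * z = ((g⁻¹ * (q0 * y)) * z * (g⁻¹ * (q0 * y))⁻¹) * (g⁻¹ * (q0 * y)) := by group
      _ = z * (g⁻¹ * (q0 * y)) := by rw [this]
  have hkQ := h.norm _ hk a haQ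
  have hzaQa : z * a ∈ Q.map (MulAut.conj g).toMonoidHom := by
    rw [h.mem_conj_map]
    refine ⟨_, hkQ, ?_⟩
    rw [← hha]; group
  have haQa : a ∈ Q.map (MulAut.conj g).toMonoidHom := by
    rw [h.mem_conj_map]
    exact ⟨z, h.z_mem, ha.symm⟩
  have : z = (z * a) * a := by rw [mul_assoc, haa, mul_one]
  rw [this]
  exact Subgroup.mul_mem _ hzaQa haQa

end Core

end Cfsg.Agent.Lib.Helper9.LargeExtra
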