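import Mathlib
import Cfsg.Agent.Lib.Helper9.LargeExtra
import Cfsg.Agent.Lib.Helper9.LargeExtra2

set_option autoImplicit false
open Cfsg

namespace Cfsg.Agent.Lib.Helper9.LargeExtra

variable {G : Type*} [Group G]

/-- The core data are transported by conjugation. -/
theorem Core.conj {Q : Subgroup G} {z : G} (h : Core Q z) (g : G) :
    Core (Q.map (MulAut.conj g).toMonoidHom) (g * z * g⁻¹) := by
  refine ⟨?_, ?_, ?_, ?_, ?_, ?_, ?_, h.two.map _⟩
  · intro h1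
    apply h.z_ne
    calc z = g⁻¹ * (g * z * g⁻¹) * g := by group
      _ = 1 := by rw [h1]; group
  · calc g * z * g⁻¹ * (g * z * g⁻¹) = g * (z * z) * g⁻¹ := by group
      _ = 1 := by rw [h.z_sq]; group
  · exact h.mem_conj_map.mpr ⟨z, h.z_mem, rfl⟩
  · intro q hq
    exact h.comm_of_mem_conj hq
  · intro q hq r hr
    obtain ⟨q', hq', rfl⟩ := h.mem_conj_map.mp hq
    obtain ⟨r', hr', rfl⟩ := h.mem_conj_map.mp hr
    have e : g * q' * g⁻¹ * (g * r' * g⁻¹) * (g * q' * g⁻¹)⁻¹ * (g * r' * g⁻¹)⁻¹ =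
        g * (q' * r' * q'⁻¹ * r'⁻¹) * g⁻¹ := by group
    rw [e]
    rcases h.comm_mem q' hq' r' hr' with h1 | h1
    · left; rw [h1]; group
    · right; rw [h1]
  · intro c hc
    have h1 : ∀ q ∈ Q, (g⁻¹ * c * g) * q = q * (g⁻¹ * c * g) := by
      intro q hq
      have := hc (g * q * g⁻¹) (h.mem_conj_map.mpr ⟨q, hq, rfl⟩)
      calc (g⁻¹ * c * g) * q = g⁻¹ * (c * (g * q * g⁻¹)) * g := by group
        _ = g⁻¹ * ((g * q * g⁻¹) * c) * g := by rw [this]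
        _ = q * (g⁻¹ * c * g) := by group
    rcases h.cent _ h1 with h2 | h2
    · left
      calc c = g * (g⁻¹ * c * g) * g⁻¹ := by group
        _ = 1 := by rw [h2]; group
    · right
      calc c = g * (g⁻¹ * c * g) * g⁻¹ := by group
        _ = g * z * g⁻¹ := by rw [h2]
  · intro c hc q hq
    exact h.conj_mem_of_comm hc hq

theorem sq_conj {Q : Subgroup G} {z : G} (h : Core Q z)
    (hsq : ∀ x ∈ Q, x * x = 1 ∨ x * x = z) (g : G) :
    ∀ x ∈ Q.map (MulAut.conj g).toMonoidHom, x * x = 1 ∨ x * x = g * z * g⁻¹ := by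
  intro x hx
  obtain ⟨q, hq, rfl⟩ := h.mem_conj_map.mp hx
  have e : g * q * g⁻¹ * (g * q * g⁻¹) = g * (q * q) * g⁻¹ := by group
  rw [e]
  rcases hsq q hq with h1 | h1
  · left; rw [h1]; group
  · right; rw [h1]

/-- conjugation-invariance of `E` under a join. -/
theorem normalizes_of_gens {E A B : Subgroup G}
    (hAE : ∀ x ∈ A, ∀ e ∈ E, x * e * x⁻¹ ∈ E) (hBE : ∀ x ∈ B, ∀ e ∈ E, x * e * x⁻¹ ∈ E) :
    ∀ x ∈ A ⊔ B, ∀ e ∈ E, x * e * x⁻¹ ∈ E := by
  have key : ∀ x ∈ A ⊔ B, ∀ e ∈ E, x * e * x⁻¹ ∈ E ∧ x⁻¹ * e * x ∈ E := by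
    intro x hx
    rw [Subgroup.sup_eq_closure] at hx
    induction hx using Subgroup.closure_induction with
    | mem x hx =>
      intro e he
      rcases hx with hx | hx
      · refine ⟨hAE x hx e he, ?_⟩
        have := hAE x⁻¹ (A.inv_mem hx) e he
        simpa using this
      · refine ⟨hBE x hx e he, ?_⟩
        have := hBE x⁻¹ (B.inv_mem hx) e he
        simpa using this
    | one => intro e he; simpa using he
    | mul x y _ _ ihx ihy =>
      intro e he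
      constructor
      · have := (ihx _ (ihy e he).1).1
        have e1 : x * y * e * (x * y)⁻¹ = x * (y * e * y⁻¹) * x⁻¹ := by group
        rw [e1]; exact this
      · have := (ihy _ (ihx e he).2).2
        have e1 : (x * y)⁻¹ * e * (x * y) = y⁻¹ * (x⁻¹ * e * x) * y := by group
        rw [e1]; exact this
    | inv x _ ihx =>
      intro e he
      refine ⟨?_, ?_⟩
      · have := (ihx e he).2
        simpa using this
      · have := (ihx e he).1
        simpa using this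
  intro x hx e he
  exact (key x hx e he).1

/-- commutators of a join lie in a normalized subgroup as soon as those of the generators do. -/
theorem comm_mem_of_gens {E A B : Subgroup G}
    (hAE : ∀ x ∈ A, ∀ e ∈ E, x * e * x⁻¹ ∈ E) (hBE : ∀ x ∈ B, ∀ e ∈ E, x * e * x⁻¹ ∈ E)
    (hAA : ∀ x ∈ A, ∀ y ∈ A, x * y * x⁻¹ * y⁻¹ ∈ E)
    (hAB : ∀ x ∈ A, ∀ y ∈ B, x * y * x⁻¹ * y⁻¹ ∈ E)
    (hBB : ∀ x ∈ B, ∀ y ∈ B, x * y * x⁻¹ * y⁻¹ ∈ E) :
    ∀ x ∈ A ⊔ B, ∀ y ∈ A ⊔ B, x * y * x⁻¹ * y⁻¹ ∈ E := by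
  have hT := normalizes_of_gens hAE hBE
  intro x hx y hy
  have hx' := hx
  have hy' := hy
  rw [Subgroup.sup_eq_closure] at hx' hy'
  refine Subgroup.closure_induction₂ (k := (A : Set G) ∪ B)
    (p := fun x y _ _ => x * y * x⁻¹ * y⁻¹ ∈ E) ?_ ?_ ?_ ?_ ?_ ?_ ?_ hx' hy'
  · intro x y hx hy
    rcases hx with hx | hx <;> rcases hy with hy | hy
    · exact hAA x hx y hy
    · exact hAB x hx y hy
    · have := E.inv_mem (hAB y hy x hx)
      have e1 : (y * x * y⁻¹ * x⁻¹)⁻¹ = x * y * x⁻¹ * y⁻¹ := by group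
      rw [e1] at this; exact this
    · exact hBB x hx y hy
  · intro x _; simp [E.one_mem]
  · intro x _; simp [E.one_mem]
  · intro x y z hx _ _ h1 h2
    have hxT : x ∈ A ⊔ B := by rw [Subgroup.sup_eq_closure]; exact hx
    have e1 : x * y * z * (x * y)⁻¹ * z⁻¹ = (x * (y * z * y⁻¹ * z⁻¹) * x⁻¹) * (x * z * x⁻¹ * z⁻¹) := by
      group
    rw [e1]
    exact E.mul_mem (hT x hxT _ h2) h1
  · intro y z x hy _ _ h1 h2
    have hyT : y ∈ A ⊔ B := by rw [Subgroup.sup_eq_closure]; exact hy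
    have e1 : x * (y * z) * x⁻¹ * (y * z)⁻¹ = (x * y * x⁻¹ * y⁻¹) * (y * (x * z * x⁻¹ * z⁻¹) * y⁻¹) := by
      group
    rw [e1]
    exact E.mul_mem h1 (hT y hyT _ h2)
  · intro x y hx _ h1
    have hxT : x⁻¹ ∈ A ⊔ B := by
      rw [Subgroup.sup_eq_closure]; exact Subgroup.inv_mem _ hx
    have e1 : x⁻¹ * y * x⁻¹⁻¹ * y⁻¹ = x⁻¹ * (x * y * x⁻¹ * y⁻¹)⁻¹ * x⁻¹⁻¹ := by group
    rw [e1]
    exact hT _ hxT _ (E.inv_mem h1)
  · intro x y _ hy h1
    have hyT : y⁻¹ ∈ A ⊔ B := by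
      rw [Subgroup.sup_eq_closure]; exact Subgroup.inv_mem _ hy
    have e1 : x * y⁻¹ * x⁻¹ * y⁻¹⁻¹ = y⁻¹ * (x * y * x⁻¹ * y⁻¹)⁻¹ * y⁻¹⁻¹ := by group
    rw [e1]
    exact hT _ hyT _ (E.inv_mem h1)

/-- squares of a join lie in `E` as soon as commutators do and squares of the generators do. -/
theorem sq_mem_of_gens {E A B : Subgroup G}
    (hcomm : ∀ x ∈ A ⊔ B, ∀ y ∈ A ⊔ B, x * y * x⁻¹ * y⁻¹ ∈ E)
    (hA2 : ∀ x ∈ A, x * x ∈ E) (hB2 : ∀ x ∈ B, x * x ∈ E) :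
    ∀ x ∈ A ⊔ B, x * x ∈ E := by
  intro x hx
  have hx' := hx
  rw [Subgroup.sup_eq_closure] at hx'
  induction hx' using Subgroup.closure_induction with
  | mem x hx1 =>
    rcases hx1 with h1 | h1
    · exact hA2 x h1
    · exact hB2 x h1
  | one => simp [E.one_mem]
  | mul x y hx1 hy1 ihx ihy =>
    have hxT : x ∈ A ⊔ B := by rw [Subgroup.sup_eq_closure]; exact hx1
    have hyT : y ∈ A ⊔ B := by rw [Subgroup.sup_eq_closure]; exact hy1
    have e1 : x * y * (x * y) = (x * x) * (x⁻¹ * y * x⁻¹⁻¹ * y⁻¹) * (y * y) := by group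
    rw [e1]
    exact E.mul_mem (E.mul_mem (ihx hxT) (hcomm _ (Subgroup.inv_mem _ hxT) _ hyT)) (ihy hyT)
  | inv x hx1 ihx =>
    have hxT : x ∈ A ⊔ B := by rw [Subgroup.sup_eq_closure]; exact hx1
    have e1 : x⁻¹ * x⁻¹ = (x * x)⁻¹ := by group
    rw [e1]
    exact E.inv_mem (ihx hxT)

end Cfsg.Agent.Lib.Helper9.LargeExtra
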