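import Mathlib
import Cfsg.Prelude.Def_MonsterType
import Cfsg.Agent.Lib.Helper9.PCore
import Cfsg.Agent.Lib.Helper9.LargeExtra
import Cfsg.Agent.Lib.Helper9.LargeExtra2
import Cfsg.Agent.Lib.Helper9.LargeExtra6

set_option autoImplicit false
open Cfsg

namespace Cfsg.Agent.Lib.Helper9.LargeExtra

variable {G : Type*} [Group G]

theorem pCoreMap_le (p : ℕ) (H : Subgroup G) : (Cfsg.pCore p ↥H).map H.subtype ≤ H :=
  Subgroup.map_subtype_le _

theorem pCoreMap_isPGroup [Finite G] (p : ℕ) [Fact p.Prime] (H : Subgroup G) :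
    IsPGroup p ((Cfsg.pCore p ↥H).map H.subtype) :=
  (Cfsg.Agent.Lib.Helper9.pCore_isPGroup' p).map _

theorem pCoreMap_conj_mem (p : ℕ) (H : Subgroup G) {h x : G} (hh : h ∈ H)
    (hx : x ∈ (Cfsg.pCore p ↥H).map H.subtype) :
    h * x * h⁻¹ ∈ (Cfsg.pCore p ↥H).map H.subtype := by
  obtain ⟨y, hy, rfl⟩ := hx
  haveI := Cfsg.Agent.Lib.Helper9.pCore_normal' (G := ↥H) p
  exact ⟨⟨h, hh⟩ * y * (⟨h, hh⟩ : ↥H)⁻¹,
    (Cfsg.Agent.Lib.Helper9.pCore_normal' (G := ↥H) p).conj_mem y hy ⟨h, hh⟩, rfl⟩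

theorem le_pCoreMap (p : ℕ) (H N : Subgroup G) (hNH : N ≤ H) (hN : IsPGroup p N)
    (hinv : ∀ h ∈ H, ∀ x ∈ N, h * x * h⁻¹ ∈ N) : N ≤ (Cfsg.pCore p ↥H).map H.subtype := by
  have hn : (N.subgroupOf H).Normal := by
    constructor
    intro n hn h
    rw [Subgroup.mem_subgroupOf] at hn ⊢
    exact hinv h h.2 n hn
  have hp : IsPGroup p (N.subgroupOf H) := hN.comap_subtype
  have hle := Cfsg.Agent.Lib.Helper9.le_pCore hn hp
  intro x hx
  exact ⟨⟨x, hNH hx⟩, hle (Subgroup.mem_subgroupOf.mpr hx), rfl⟩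

theorem mem_map_conj {K : Subgroup G} {g x : G} :
    x ∈ K.map (MulAut.conj g).toMonoidHom ↔ g⁻¹ * x * g ∈ K := by
  rw [Subgroup.mem_map]
  simp only [MulEquiv.coe_toMonoidHom, MulAut.conj_apply]
  constructor
  · rintro ⟨k, hk, rfl⟩
    have : g⁻¹ * (g * k * g⁻¹) * g = k := by group
    rw [this]; exact hk
  · intro h
    exact ⟨g⁻¹ * x * g, h, by group⟩

theorem pCoreMap_conj [Finite G] (p : ℕ) [Fact p.Prime] (H H' : Subgroup G) (g : G)
    (hH' : ∀ x, x ∈ H' ↔ g⁻¹ * x * g ∈ H) :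
    (Cfsg.pCore p ↥H').map H'.subtype =
      ((Cfsg.pCore p ↥H).map H.subtype).map (MulAut.conj g).toMonoidHom := by
  apply le_antisymm
  · have hle : ((Cfsg.pCore p ↥H').map H'.subtype).map (MulAut.conj g⁻¹).toMonoidHom ≤
        (Cfsg.pCore p ↥H).map H.subtype := by
      apply le_pCoreMap
      · intro y hy
        rw [mem_map_conj, inv_inv] at hy
        have h1 := (hH' _).mp (pCoreMap_le p H' hy)
        have e : g⁻¹ * (g * y * g⁻¹) * g = y := by group
        rw [e] at h1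
        exact h1
      · exact (pCoreMap_isPGroup p H').map _
      · intro h hh y hy
        rw [mem_map_conj, inv_inv] at hy ⊢
        have hgh : g * h * g⁻¹ ∈ H' := by
          rw [hH']
          have e : g⁻¹ * (g * h * g⁻¹) * g = h := by group
          rw [e]; exact hh
        have h1 := pCoreMap_conj_mem p H' hgh hy
        have e : g * (h * y * h⁻¹) * g⁻¹ = g * h * g⁻¹ * (g * y * g⁻¹) * (g * h * g⁻¹)⁻¹ := by
          group
        rw [e]; exact h1
    intro x hx
    rw [mem_map_conj]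
    apply hle
    rw [mem_map_conj, inv_inv]
    have e : g * (g⁻¹ * x * g) * g⁻¹ = x := by group
    rw [e]; exact hx
  · apply le_pCoreMap
    · intro x hx
      rw [mem_map_conj] at hx
      rw [hH']
      exact pCoreMap_le p H hx
    · exact (pCoreMap_isPGroup p H).map _
    · intro h hh x hx
      rw [mem_map_conj] at hx ⊢
      have h1 := pCoreMap_conj_mem p H ((hH' h).mp hh) hx
      have e : g⁻¹ * (h * x * h⁻¹) * g = g⁻¹ * h * g * (g⁻¹ * x * g) * (g⁻¹ * h * g)⁻¹ := by
        group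
      rw [e]; exact h1

/-- `O_2(C(x))` as a subgroup of `G`. -/
abbrev QQ (x : G) : Subgroup G :=
  (Cfsg.pCore 2 ↥(Subgroup.centralizer ({x} : Set G))).map
    (Subgroup.centralizer ({x} : Set G)).subtype

theorem mem_centralizer_singleton {c x : G} :
    x ∈ Subgroup.centralizer ({c} : Set G) ↔ x * c = c * x := by
  rw [Subgroup.mem_centralizer_iff]
  constructor
  · intro h1; exact (h1 c rfl).symm
  · intro h1 y hy
    rw [Set.mem_singleton_iff] at hy
    rw [hy]; exact h1.symm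

theorem QQ_conj [Finite G] (g z : G) :
    QQ (g * z * g⁻¹) = (QQ z).map (MulAut.conj g).toMonoidHom := by
  haveI : Fact (Nat.Prime 2) := ⟨Nat.prime_two⟩
  apply pCoreMap_conj
  intro x
  rw [mem_centralizer_singleton, mem_centralizer_singleton]
  constructor
  · intro h
    calc g⁻¹ * x * g * z = g⁻¹ * (x * (g * z * g⁻¹)) * g := by group
      _ = g⁻¹ * ((g * z * g⁻¹) * x) * g := by rw [h]
      _ = z * (g⁻¹ * x * g) := by group
  · intro h
    calc x * (g * z * g⁻¹) = g * ((g⁻¹ * x * g) * z) * g⁻¹ := by group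
      _ = g * (z * (g⁻¹ * x * g)) * g⁻¹ := by rw [h]
      _ = g * z * g⁻¹ * x := by group

/-- The `Core` structure from `Q = O_2(C(z))` extraspecial and self-centralizing. -/
theorem core_of_QQ [Finite G] (z : G) (hz : orderOf z = 2) (hE : Cfsg.IsExtraspecial 2 ↥(QQ z))
    (hC : Subgroup.centralizer ((QQ z : Subgroup G) : Set G) ≤ QQ z) :
    Core (QQ z) z ∧ ∀ x, x ∈ (Subgroup.center ↥(QQ z)).map (QQ z).subtype ↔ x = 1 ∨ x = z := by
  classical
  haveI : Fact (Nat.Prime 2) := ⟨Nat.prime_two⟩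
  have hz1 : z ≠ 1 := by
    intro h; rw [h, orderOf_one] at hz; omega
  have hzz : z * z = 1 := by rw [← pow_two, ← hz, pow_orderOf_eq_one]
  have hQC : QQ z ≤ Subgroup.centralizer ({z} : Set G) := pCoreMap_le 2 _
  have hzQ : z ∈ QQ z := by
    apply le_pCoreMap 2 _ (Subgroup.zpowers z)
    · rw [Subgroup.zpowers_le, mem_centralizer_singleton]
    · rw [IsPGroup.iff_card, Nat.card_zpowers, hz]
      exact ⟨1, by norm_num⟩
    · intro h hh x hx
      obtain ⟨k, rfl⟩ := Subgroup.mem_zpowers_iff.mp hx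
      rw [mem_centralizer_singleton] at hh
      have : h * z ^ k * h⁻¹ = z ^ k := by
        have hc : Commute h z := hh
        have := hc.zpow_right k
        calc h * z ^ k * h⁻¹ = (z ^ k * h) * h⁻¹ := by rw [this.eq]
          _ = z ^ k := by group
      rw [this]
      exact Subgroup.zpow_mem_zpowers z k
    · exact Subgroup.mem_zpowers z
  have hzcomm : ∀ q ∈ QQ z, q * z = z * q := by
    intro q hq
    exact mem_centralizer_singleton.mp (hQC hq)
  -- the centre
  have hzcen : (⟨z, hzQ⟩ : ↥(QQ z)) ∈ Subgroup.center ↥(QQ z) := by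
    rw [Subgroup.mem_center_iff]
    intro q
    apply Subtype.ext
    exact hzcomm q q.2
  have hcard : Nat.card (Subgroup.center ↥(QQ z)) = 2 := hE.2
  have hcen_mem : ∀ y : ↥(QQ z), y ∈ Subgroup.center ↥(QQ z) → y = 1 ∨ y = ⟨z, hzQ⟩ := by
    intro y hy
    obtain ⟨w, hw1, hwu⟩ := (Nat.card_eq_two_iff' (1 : Subgroup.center ↥(QQ z))).mp hcard
    have hzw : (⟨⟨z, hzQ⟩, hzcen⟩ : Subgroup.center ↥(QQ z)) = w := by
      apply hwu
      intro h1
      apply hz1
      have := congrArg (fun u : Subgroup.center ↥(QQ z) => ((u : ↥(QQ z)) : G)) h1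
      simpa using this
    by_cases hy1 : y = 1
    · exact Or.inl hy1
    · right
      have : (⟨y, hy⟩ : Subgroup.center ↥(QQ z)) = w := by
        apply hwu
        intro h1
        apply hy1
        have := congrArg (fun u : Subgroup.center ↥(QQ z) => (u : ↥(QQ z))) h1
        simpa using this
      have h2 : (⟨y, hy⟩ : Subgroup.center ↥(QQ z)) = ⟨⟨z, hzQ⟩, hzcen⟩ := this.trans hzw.symm
      exact congrArg (fun u : Subgroup.center ↥(QQ z) => (u : ↥(QQ z))) h2
  have hZmem : ∀ x, x ∈ (Subgroup.center ↥(QQ z)).map (QQ z).subtype ↔ x = 1 ∨ x = z := by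
    intro x
    rw [Subgroup.mem_map]
    constructor
    · rintro ⟨y, hy, rfl⟩
      rcases hcen_mem y hy with h1 | h1
      · left; rw [h1]; rfl
      · right; rw [h1]; rfl
    · rintro (h1 | h1)
      · exact ⟨1, Subgroup.one_mem _, h1.symm⟩
      · exact ⟨⟨z, hzQ⟩, hzcen, h1.symm⟩
  have hL2 : Subgroup.centralizer ((QQ z : Subgroup G) : Set G) =
      (Subgroup.center ↥(QQ z)).map (QQ z).subtype := by
    ext c
    constructor
    · intro hc
      have hcQ : c ∈ QQ z := hC hc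
      have hcc : (⟨c, hcQ⟩ : ↥(QQ z)) ∈ Subgroup.center ↥(QQ z) := by
        rw [Subgroup.mem_center_iff]
        intro q
        apply Subtype.ext
        exact (Subgroup.mem_centralizer_iff.mp hc) q q.2
      exact ⟨⟨c, hcQ⟩, hcc, rfl⟩
    · rintro ⟨y, hy, rfl⟩
      rw [Subgroup.mem_centralizer_iff]
      intro q hq
      have := (Subgroup.mem_center_iff.mp hy) ⟨q, hq⟩
      exact congrArg Subtype.val this
  have hL3 : Subgroup.centralizer
      (((Subgroup.center ↥(QQ z)).map (QQ z).subtype : Subgroup G) : Set G) ≤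
      Subgroup.normalizer ((QQ z : Subgroup G) : Set G) := by
    intro c hc
    have hcz : c * z = z * c :=
      ((Subgroup.mem_centralizer_iff.mp hc) z ((hZmem z).mpr (Or.inr rfl))).symm
    apply Subgroup.mem_normalizer_fintype
    intro x hx
    exact pCoreMap_conj_mem 2 _ (mem_centralizer_singleton.mpr hcz) hx
  obtain ⟨z', hcore, hZmem'⟩ := core_of_hyps (QQ z) hE hL2 hL3
  have hzz' : z' = z := by
    rcases (hZmem z').mp ((hZmem' z').mpr (Or.inr rfl)) with h | h
    · exact absurd h hcore.z_ne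
    · exact h
  rw [hzz'] at hcore
  exact ⟨hcore, hZmem⟩

end Cfsg.Agent.Lib.Helper9.LargeExtra
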