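import Mathlib

set_option autoImplicit false

namespace Cfsg.Agent.Lib.Helper9.LargeExtra

variable {G : Type*} [Group G]

/-- If a subgroup `U = {1, z, a, za}` is a four-group and `N(U)` contains elements inducing two
different transpositions on `{z, a, za}`, then `|N(U) : C(U)| = 6`. -/
theorem relIndex_four_group [Finite G] (U : Subgroup G) (z a : G) (hz1 : z ≠ 1) (ha1 : a ≠ 1)
    (hza : z ≠ a) (hzz : z * z = 1) (haa : a * a = 1)
    (hU : ∀ x, x ∈ U ↔ x = 1 ∨ x = z ∨ x = a ∨ x = z * a)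
    (q y : G) (hqz : q * z * q⁻¹ = z) (hqa : q * a * q⁻¹ = z * a)
    (hya : y * a * y⁻¹ = a) (hyz : y * z * y⁻¹ = z * a) :
    (Subgroup.centralizer (U : Set G)).relIndex (Subgroup.normalizer (U : Set G)) = 6 := by
  classical
  set N := Subgroup.normalizer (U : Set G) with hN
  have hzU : z ∈ U := (hU z).mpr (Or.inr (Or.inl rfl))
  have haU : a ∈ U := (hU a).mpr (Or.inr (Or.inr (Or.inl rfl)))
  have hzaU : z * a ∈ U := (hU _).mpr (Or.inr (Or.inr (Or.inr rfl)))
  have hzza : z ≠ z * a := by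
    intro h; apply ha1
    have : z * 1 = z * a := by rw [mul_one]; exact h
    exact (mul_left_cancel this).symm
  have haza : a ≠ z * a := by
    intro h; apply hz1
    have : 1 * a = z * a := by rw [one_mul]; exact h
    exact (mul_right_cancel this).symm
  have hza1 : z * a ≠ 1 := by
    intro h; apply hza
    calc z = z * (a * a) := by rw [haa, mul_one]
      _ = (z * a) * a := by group
      _ = a := by rw [h, one_mul]
  have memN : ∀ n : G, n * z * n⁻¹ ∈ U → n * a * n⁻¹ ∈ U → n ∈ N := by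
    intro n h1 h2
    apply Subgroup.mem_normalizer_fintype
    intro x hx
    rcases (hU x).mp hx with rfl | rfl | rfl | rfl
    · simp [U.one_mem]
    · exact h1
    · exact h2
    · have : n * (z * a) * n⁻¹ = (n * z * n⁻¹) * (n * a * n⁻¹) := by group
      rw [this]; exact U.mul_mem h1 h2
  have hqN : q ∈ N := memN q (by rw [hqz]; exact hzU) (by rw [hqa]; exact hzaU)
  have hyN : y ∈ N := memN y (by rw [hyz]; exact hzaU) (by rw [hya]; exact haU)
  -- further conjugation formulas
  have hqza : q * (z * a) * q⁻¹ = a := by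
    calc q * (z * a) * q⁻¹ = (q * z * q⁻¹) * (q * a * q⁻¹) := by group
      _ = z * (z * a) := by rw [hqz, hqa]
      _ = a := by rw [← mul_assoc, hzz, one_mul]
  have hyza : y * (z * a) * y⁻¹ = z := by
    calc y * (z * a) * y⁻¹ = (y * z * y⁻¹) * (y * a * y⁻¹) := by group
      _ = (z * a) * a := by rw [hyz, hya]
      _ = z := by rw [mul_assoc, haa, mul_one]
  rw [Subgroup.relIndex]
  have hsmul1 : ∀ (n : ↥N) (u : ↥U), ((n • u : ↥U) : G) = (n : G) * (u : G) * (n : G)⁻¹ :=
    fun _ _ => rfl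
  have hstab : (Subgroup.centralizer (U : Set G)).subgroupOf N =
      MulAction.stabilizer ↥N ((⟨z, hzU⟩, ⟨a, haU⟩) : ↥U × ↥U) := by
    ext n
    rw [Subgroup.mem_subgroupOf, MulAction.mem_stabilizer_iff, Subgroup.mem_centralizer_iff]
    constructor
    · intro hn
      apply Prod.ext <;> apply Subtype.ext
      · show (n : G) * z * (n : G)⁻¹ = z
        rw [← hn z hzU]; group
      · show (n : G) * a * (n : G)⁻¹ = a
        rw [← hn a haU]; group
    · intro hn x hx
      have h1 : (n : G) * z * (n : G)⁻¹ = z := congrArg (fun p : ↥U × ↥U => (p.1 : G)) hn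
      have h2 : (n : G) * a * (n : G)⁻¹ = a := congrArg (fun p : ↥U × ↥U => (p.2 : G)) hn
      have h1' : z * (n : G) = (n : G) * z := by
        calc z * (n : G) = ((n : G) * z * (n : G)⁻¹) * (n : G) := by rw [h1]
          _ = (n : G) * z := by group
      have h2' : a * (n : G) = (n : G) * a := by
        calc a * (n : G) = ((n : G) * a * (n : G)⁻¹) * (n : G) := by rw [h2]
          _ = (n : G) * a := by group
      rcases (hU x).mp hx with rfl | rfl | rfl | rfl
      · simp
      · exact h1'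
      · exact h2'
      · rw [mul_assoc, h2', ← mul_assoc, h1', mul_assoc]
  rw [hstab, MulAction.index_stabilizer]
  -- the orbit
  have horb : MulAction.orbit ↥N ((⟨z, hzU⟩, ⟨a, haU⟩) : ↥U × ↥U) =
      ((({((⟨z, hzU⟩, ⟨a, haU⟩) : ↥U × ↥U), (⟨z, hzU⟩, ⟨z * a, hzaU⟩), (⟨z * a, hzaU⟩, ⟨a, haU⟩),
        (⟨a, haU⟩, ⟨z * a, hzaU⟩), (⟨z * a, hzaU⟩, ⟨z, hzU⟩), (⟨a, haU⟩, ⟨z, hzU⟩)} :
          Finset (↥U × ↥U)) : Set (↥U × ↥U))) := by
    ext p
    simp only [Finset.coe_insert, Finset.coe_singleton, Set.mem_insert_iff, Set.mem_singleton_iff]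
    constructor
    · rintro ⟨n, rfl⟩
      have h1U : (n : G) * z * (n : G)⁻¹ ∈ U := ((Subgroup.mem_normalizer_iff.mp n.2) z).mp hzU
      have h2U : (n : G) * a * (n : G)⁻¹ ∈ U := ((Subgroup.mem_normalizer_iff.mp n.2) a).mp haU
      have h1ne : (n : G) * z * (n : G)⁻¹ ≠ 1 := by
        intro h; apply hz1
        calc z = (n : G)⁻¹ * ((n : G) * z * (n : G)⁻¹) * (n : G) := by group
          _ = 1 := by rw [h]; group
      have h2ne : (n : G) * a * (n : G)⁻¹ ≠ 1 := by
        intro h; apply ha1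
        calc a = (n : G)⁻¹ * ((n : G) * a * (n : G)⁻¹) * (n : G) := by group
          _ = 1 := by rw [h]; group
      have h12 : (n : G) * z * (n : G)⁻¹ ≠ (n : G) * a * (n : G)⁻¹ := by
        intro h; apply hza
        calc z = (n : G)⁻¹ * ((n : G) * z * (n : G)⁻¹) * (n : G) := by group
          _ = (n : G)⁻¹ * ((n : G) * a * (n : G)⁻¹) * (n : G) := by rw [h]
          _ = a := by group
      have hp : ∀ (x y : G) (hx : x ∈ U) (hy : y ∈ U), (n : G) * z * (n : G)⁻¹ = x →
          (n : G) * a * (n : G)⁻¹ = y →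
          n • ((⟨z, hzU⟩, ⟨a, haU⟩) : ↥U × ↥U) = (⟨x, hx⟩, ⟨y, hy⟩) := by
        intro x y hx hy e1 e2
        apply Prod.ext <;> apply Subtype.ext
        · exact e1
        · exact e2
      rcases (hU _).mp h1U with e1 | e1 | e1 | e1 <;> rcases (hU _).mp h2U with e2 | e2 | e2 | e2
      · exact absurd e1 h1ne
      · exact absurd e1 h1ne
      · exact absurd e1 h1ne
      · exact absurd e1 h1ne
      · exact absurd e2 h2ne
      · exact absurd (e1.trans e2.symm) h12
      · exact Or.inl (hp _ _ _ _ e1 e2)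
      · exact Or.inr (Or.inl (hp _ _ _ _ e1 e2))
      · exact absurd e2 h2ne
      · exact Or.inr (Or.inr (Or.inr (Or.inr (Or.inr (hp _ _ _ _ e1 e2)))))
      · exact absurd (e1.trans e2.symm) h12
      · exact Or.inr (Or.inr (Or.inr (Or.inl (hp _ _ _ _ e1 e2))))
      · exact absurd e2 h2ne
      · exact Or.inr (Or.inr (Or.inr (Or.inr (Or.inl (hp _ _ _ _ e1 e2)))))
      · exact Or.inr (Or.inr (Or.inl (hp _ _ _ _ e1 e2)))
      · exact absurd (e1.trans e2.symm) h12
    · have hmk : ∀ (n : G) (hn : n ∈ N) (x y : G) (hx : x ∈ U) (hy : y ∈ U), n * z * n⁻¹ = x →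
          n * a * n⁻¹ = y →
          ((⟨x, hx⟩, ⟨y, hy⟩) : ↥U × ↥U) ∈ MulAction.orbit ↥N ((⟨z, hzU⟩, ⟨a, haU⟩) : ↥U × ↥U) := by
        intro n hn x y hx hy e1 e2
        refine ⟨⟨n, hn⟩, ?_⟩
        apply Prod.ext <;> apply Subtype.ext
        · exact e1
        · exact e2
      rintro (rfl | rfl | rfl | rfl | rfl | rfl)
      · exact hmk 1 N.one_mem _ _ _ _ (by simp) (by simp)
      · exact hmk q hqN _ _ _ _ hqz hqa
      · exact hmk y hyN _ _ _ _ hyz hya
      · refine hmk (q * y) (N.mul_mem hqN hyN) _ _ _ _ ?_ ?_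
        · calc (q * y) * z * (q * y)⁻¹ = q * (y * z * y⁻¹) * q⁻¹ := by group
            _ = a := by rw [hyz, hqza]
        · calc (q * y) * a * (q * y)⁻¹ = q * (y * a * y⁻¹) * q⁻¹ := by group
            _ = z * a := by rw [hya, hqa]
      · refine hmk (y * q) (N.mul_mem hyN hqN) _ _ _ _ ?_ ?_
        · calc (y * q) * z * (y * q)⁻¹ = y * (q * z * q⁻¹) * y⁻¹ := by group
            _ = z * a := by rw [hqz, hyz]
        · calc (y * q) * a * (y * q)⁻¹ = y * (q * a * q⁻¹) * y⁻¹ := by group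
            _ = z := by rw [hqa, hyza]
      · refine hmk (q * (y * q)) (N.mul_mem hqN (N.mul_mem hyN hqN)) _ _ _ _ ?_ ?_
        · calc (q * (y * q)) * z * (q * (y * q))⁻¹ = q * (y * (q * z * q⁻¹) * y⁻¹) * q⁻¹ := by group
            _ = a := by rw [hqz, hyz, hqza]
        · calc (q * (y * q)) * a * (q * (y * q))⁻¹ = q * (y * (q * a * q⁻¹) * y⁻¹) * q⁻¹ := by group
            _ = z := by rw [hqa, hyza, hqz]
  rw [horb, Set.ncard_coe_finset]
  have e : ∀ (x y : G) (hx : x ∈ U) (hy : y ∈ U), (⟨x, hx⟩ : ↥U) = ⟨y, hy⟩ ↔ x = y := by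
    intro x y hx hy
    exact Subtype.mk_eq_mk
  rw [Finset.card_insert_of_notMem, Finset.card_insert_of_notMem, Finset.card_insert_of_notMem,
    Finset.card_insert_of_notMem, Finset.card_insert_of_notMem, Finset.card_singleton]
  · simp only [Finset.mem_singleton, Prod.mk.injEq, e]
    rintro ⟨h1, h2⟩; exact haza h1.symm
  · simp only [Finset.mem_insert, Finset.mem_singleton, Prod.mk.injEq, e]
    rintro (⟨h1, h2⟩ | ⟨h1, h2⟩)
    · exact haza h1
    · exact hzza h2.symm
  · simp only [Finset.mem_insert, Finset.mem_singleton, Prod.mk.injEq, e]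
    rintro (⟨h1, h2⟩ | ⟨h1, h2⟩ | ⟨h1, h2⟩)
    · exact haza h1.symm
    · exact hza h2.symm
    · exact haza h1.symm
  · simp only [Finset.mem_insert, Finset.mem_singleton, Prod.mk.injEq, e]
    rintro (⟨h1, h2⟩ | ⟨h1, h2⟩ | ⟨h1, h2⟩ | ⟨h1, h2⟩)
    · exact hzza h1
    · exact hza h1
    · exact hzza h1
    · exact hza h1
  · simp only [Finset.mem_insert, Finset.mem_singleton, Prod.mk.injEq, e]
    rintro (⟨h1, h2⟩ | ⟨h1, h2⟩ | ⟨h1, h2⟩ | ⟨h1, h2⟩ | ⟨h1, h2⟩)
    · exact haza h2
    · exact hzza h1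
    · exact hza h1
    · exact hzza h1
    · exact hza h1

end Cfsg.Agent.Lib.Helper9.LargeExtra

namespace Cfsg.Agent.Lib.Helper9.LargeExtra

variable {G : Type*} [Group G]

/-- Elements of the subgroup generated by two commuting involutions. -/
theorem mem_closure_pair_invol {z b : G} (hzz : z * z = 1) (hbb : b * b = 1) (hbz : b * z = z * b)
    (x : G) : x ∈ Subgroup.closure ({z, b} : Set G) ↔ x = 1 ∨ x = z ∨ x = b ∨ x = z * b := by
  have hzb' : ∀ x, z * (z * x) = x := fun x => by rw [← mul_assoc, hzz, one_mul]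
  have hbb' : ∀ x, b * (b * x) = x := fun x => by rw [← mul_assoc, hbb, one_mul]
  have hbz' : ∀ x, b * (z * x) = z * (b * x) := fun x => by rw [← mul_assoc, hbz, mul_assoc]
  have hzinv : z⁻¹ = z := inv_eq_of_mul_eq_one_right hzz
  have hbinv : b⁻¹ = b := inv_eq_of_mul_eq_one_right hbb
  constructor
  · intro hx
    induction hx using Subgroup.closure_induction with
    | mem x hx =>
      rcases hx with rfl | rfl
      · exact Or.inr (Or.inl rfl)
      · exact Or.inr (Or.inr (Or.inl rfl))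
    | one => exact Or.inl rfl
    | mul x y _ _ hx hy =>
      rcases hx with rfl | rfl | rfl | rfl <;> rcases hy with rfl | rfl | rfl | rfl <;>
        simp [mul_assoc, hzz, hbb, hbz, hzb', hbb', hbz']
    | inv x _ hx =>
      rcases hx with rfl | rfl | rfl | rfl <;>
        simp [mul_assoc, hzz, hbb, hbz, hzb', hbb', hbz', hzinv, hbinv]
  · have hzA : z ∈ Subgroup.closure ({z, b} : Set G) := Subgroup.subset_closure (by simp)
    have hbA : b ∈ Subgroup.closure ({z, b} : Set G) := Subgroup.subset_closure (by simp)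
    rintro (rfl | rfl | rfl | rfl)
    · exact Subgroup.one_mem _
    · exact hzA
    · exact hbA
    · exact Subgroup.mul_mem _ hzA hbA

end Cfsg.Agent.Lib.Helper9.LargeExtra
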