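import Mathlib
import Cfsg.Prelude
import Cfsg.Agent.Lib.Helper9.SLRoot1

set_option autoImplicit false

/-!
# Transvection subgroups of `SL_n`: the subgroups `T x φ`, linear algebra, conjugacy
-/

namespace Cfsg.Agent.H9SLRoot

open Matrix

variable {k : Type*} [Field k] {ι : Type*} [Fintype ι] [DecidableEq ι]

/-- the transvection subgroup with centre `x` and axis `ker φ` -/
noncomputable def T (x φ : ι → k) : Subgroup (Matrix.SpecialLinearGroup ι k) :=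
  Subgroup.closure (Set.range (tv x φ))

theorem mem_T {x φ : ι → k} {g : Matrix.SpecialLinearGroup ι k} :
    g ∈ T x φ ↔ ∃ c, g = tv x φ c := by
  constructor
  · intro hg
    unfold T at hg
    induction hg using Subgroup.closure_induction with
    | mem y hy =>
      obtain ⟨c, rfl⟩ := hy
      exact ⟨c, rfl⟩
    | one => exact ⟨0, (tv_zero x φ).symm⟩
    | mul a b _ _ ha hb =>
      obtain ⟨c, rfl⟩ := ha
      obtain ⟨d, rfl⟩ := hb
      exact ⟨c + d, tv_mul x φ c d⟩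
    | inv a _ ha =>
      obtain ⟨c, rfl⟩ := ha
      exact ⟨-c, tv_inv x φ c⟩
  · rintro ⟨c, rfl⟩
    exact Subgroup.subset_closure ⟨c, rfl⟩

theorem tv_mem_T (x φ : ι → k) (c : k) : tv x φ c ∈ T x φ := mem_T.mpr ⟨c, rfl⟩

theorem conjBy_T (g : Matrix.SpecialLinearGroup ι k) (x φ : ι → k) :
    Cfsg.conjBy (T x φ) g =
      T ((g : Matrix ι ι k) *ᵥ x) (φ ᵥ* ((g⁻¹ : Matrix.SpecialLinearGroup ι k) : Matrix ι ι k)) := by
  ext y
  unfold Cfsg.conjBy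
  rw [Subgroup.mem_map, mem_T]
  constructor
  · rintro ⟨z, hz, rfl⟩
    obtain ⟨c, rfl⟩ := mem_T.mp hz
    exact ⟨c, tv_conj g x φ c⟩
  · rintro ⟨c, rfl⟩
    exact ⟨tv x φ c, tv_mem_T x φ c, tv_conj g x φ c⟩

theorem T_smul {lam mu : k} (hlam : lam ≠ 0) (hmu : mu ≠ 0) (x φ : ι → k) :
    T (lam • x) (mu • φ) = T x φ := by
  ext g
  rw [mem_T, mem_T]
  constructor
  · rintro ⟨c, rfl⟩
    exact ⟨_, tv_smul lam mu x φ c⟩
  · rintro ⟨c, rfl⟩
    refine ⟨lam⁻¹ * mu⁻¹ * c, ?_⟩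
    rw [tv_smul]
    congr 1
    field_simp

theorem T_comm (x φ : ι → k) : IsMulCommutative (T x φ) := by
  refine ⟨⟨?_⟩⟩
  rintro ⟨a, ha⟩ ⟨b, hb⟩
  obtain ⟨c, rfl⟩ := mem_T.mp ha
  obtain ⟨d, rfl⟩ := mem_T.mp hb
  apply Subtype.ext
  show tv x φ c * tv x φ d = tv x φ d * tv x φ c
  rw [tv_mul, tv_mul, add_comm]

theorem exists_dot_ne_zero {φ : ι → k} (hφ : φ ≠ 0) : ∃ v : ι → k, φ ⬝ᵥ v ≠ 0 := by
  have : ∃ i, φ i ≠ 0 := by
    by_contra h
    push Not at h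
    exact hφ (funext h)
  obtain ⟨i, hi⟩ := this
  refine ⟨Pi.single i 1, ?_⟩
  rw [dotProduct_single_one]
  exact hi

theorem tv_eq_one_iff {x φ : ι → k} (h : φ ⬝ᵥ x = 0) (hx : x ≠ 0) (hφ : φ ≠ 0) (c : k) :
    tv x φ c = 1 ↔ c = 0 := by
  constructor
  · intro h1
    obtain ⟨v, hv⟩ := exists_dot_ne_zero hφ
    have h2 := tv_mulVec h c v
    rw [h1, coe_one_mulVec] at h2
    have h3 : (c * (φ ⬝ᵥ v)) • x = 0 := by
      have := h2.symm
      rwa [add_eq_left] at this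
    rcases smul_eq_zero.mp h3 with h4 | h4
    · rcases mul_eq_zero.mp h4 with h5 | h5
      · exact h5
      · exact absurd h5 hv
    · exact absurd h4 hx
  · rintro rfl
    exact tv_zero x φ

theorem T_ne_bot {x φ : ι → k} (h : φ ⬝ᵥ x = 0) (hx : x ≠ 0) (hφ : φ ≠ 0) : T x φ ≠ ⊥ := by
  intro hbot
  have h1 : tv x φ 1 ∈ T x φ := tv_mem_T x φ 1
  rw [hbot, Subgroup.mem_bot, tv_eq_one_iff h hx hφ] at h1
  exact one_ne_zero h1

/-- equal transvection subgroups have proportional centres and axes -/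
theorem T_eq_imp {x φ y ψ : ι → k} (hx : φ ⬝ᵥ x = 0) (hy : ψ ⬝ᵥ y = 0) (hx0 : x ≠ 0) (hφ0 : φ ≠ 0)
    (h : T x φ = T y ψ) : x ∈ Submodule.span k {y} ∧ φ ∈ Submodule.span k {ψ} := by
  have h1 : tv x φ 1 ∈ T y ψ := h ▸ tv_mem_T x φ 1
  obtain ⟨e, he⟩ := mem_T.mp h1
  have key : ∀ v, (φ ⬝ᵥ v) • x = (e * (ψ ⬝ᵥ v)) • y := by
    intro v
    have := congrArg (fun g : Matrix.SpecialLinearGroup ι k => (g : Matrix ι ι k) *ᵥ v) he
    beta_reduce at this
    rw [tv_mulVec hx, tv_mulVec hy, one_mul] at this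
    exact add_left_cancel this
  constructor
  · obtain ⟨v, hv⟩ := exists_dot_ne_zero hφ0
    rw [Submodule.mem_span_singleton]
    refine ⟨(φ ⬝ᵥ v)⁻¹ * (e * (ψ ⬝ᵥ v)), ?_⟩
    rw [← smul_smul, ← key v, smul_smul, inv_mul_cancel₀ hv, one_smul]
  · have : ∃ i, x i ≠ 0 := by
      by_contra h'
      push Not at h'
      exact hx0 (funext h')
    obtain ⟨i, hi⟩ := this
    rw [Submodule.mem_span_singleton]
    refine ⟨(x i)⁻¹ * (e * y i), ?_⟩
    funext j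
    have := congrFun (key (Pi.single j 1)) i
    rw [dotProduct_single_one, dotProduct_single_one, Pi.smul_apply, Pi.smul_apply, smul_eq_mul,
      smul_eq_mul] at this
    rw [Pi.smul_apply, smul_eq_mul]
    field_simp
    linear_combination -this

/-! ### linear algebra -/

theorem dual_eq_dot (f : Module.Dual k (ι → k)) (v : ι → k) :
    f v = (fun i => f (Pi.single i 1)) ⬝ᵥ v := by
  rw [LinearMap.pi_apply_eq_sum_univ f v, dotProduct]
  apply Finset.sum_congr rfl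
  intro i _
  rw [smul_eq_mul, mul_comm]
  congr 2
  funext j
  rw [Pi.single_apply]
  simp [eq_comm]

theorem exists_dot_sep {x y : ι → k} (h : x ∉ Submodule.span k {y}) :
    ∃ ρ : ι → k, ρ ⬝ᵥ x = 1 ∧ ρ ⬝ᵥ y = 0 := by
  obtain ⟨f, hfx, hf⟩ := Submodule.exists_dual_map_eq_bot_of_notMem h inferInstance
  have hfy : f y = 0 := by
    have : f y ∈ (Submodule.span k {y}).map f :=
      Submodule.mem_map_of_mem (Submodule.mem_span_singleton_self y)
    rw [hf] at this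
    exact (Submodule.mem_bot k).mp this
  refine ⟨fun i => (f x)⁻¹ * f (Pi.single i 1), ?_, ?_⟩
  · have : (fun i => (f x)⁻¹ * f (Pi.single i 1)) = (f x)⁻¹ • (fun i => f (Pi.single i 1)) := by
      funext i; rfl
    rw [this, smul_dotProduct, ← dual_eq_dot, smul_eq_mul, inv_mul_cancel₀ hfx]
  · have : (fun i => (f x)⁻¹ * f (Pi.single i 1)) = (f x)⁻¹ • (fun i => f (Pi.single i 1)) := by
      funext i; rfl
    rw [this, smul_dotProduct, ← dual_eq_dot, hfy, smul_zero]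

theorem exists_dot_one_one {x y : ι → k} (h1 : x ∉ Submodule.span k {y})
    (h2 : y ∉ Submodule.span k {x}) : ∃ ρ : ι → k, ρ ⬝ᵥ x = 1 ∧ ρ ⬝ᵥ y = 1 := by
  obtain ⟨ρ₁, a1, a2⟩ := exists_dot_sep h1
  obtain ⟨ρ₂, b1, b2⟩ := exists_dot_sep h2
  refine ⟨ρ₁ + ρ₂, ?_, ?_⟩
  · rw [add_dotProduct, a1, b2, add_zero]
  · rw [add_dotProduct, a2, b1, zero_add]

theorem exists_perp_two (hcard : 3 ≤ Fintype.card ι) (x x' : ι → k) :
    ∃ χ : ι → k, χ ≠ 0 ∧ χ ⬝ᵥ x = 0 ∧ χ ⬝ᵥ x' = 0 := by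
  let f : (ι → k) →ₗ[k] (Fin 2 → k) :=
    { toFun := fun χ => ![χ ⬝ᵥ x, χ ⬝ᵥ x']
      map_add' := by
        intro a b
        ext i
        fin_cases i
        · simp [add_dotProduct]
        · simp [add_dotProduct]
      map_smul' := by
        intro c a
        ext i
        fin_cases i
        · simp [smul_dotProduct]
        · simp [smul_dotProduct] }
  have hlt : Module.finrank k (Fin 2 → k) < Module.finrank k (ι → k) := by
    rw [Module.finrank_fin_fun, Module.finrank_fintype_fun_eq_card]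
    omega
  have hker := LinearMap.ker_ne_bot_of_finrank_lt (f := f) hlt
  obtain ⟨χ, hχ, hχ0⟩ := Submodule.exists_mem_ne_zero_of_ne_bot hker
  rw [LinearMap.mem_ker] at hχ
  refine ⟨χ, hχ0, ?_, ?_⟩
  · have := congrFun hχ 0
    exact this
  · have := congrFun hχ 1
    exact this

/-! ### moving centres and axes -/

theorem move_center {x y φ : ι → k} (hx : φ ⬝ᵥ x = 0) (hy : φ ⬝ᵥ y = 0)
    (h1 : x ∉ Submodule.span k {y}) (h2 : y ∉ Submodule.span k {x}) :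
    ∃ u : Matrix.SpecialLinearGroup ι k, (u : Matrix ι ι k) *ᵥ x = y ∧
      φ ᵥ* ((u⁻¹ : Matrix.SpecialLinearGroup ι k) : Matrix ι ι k) = φ := by
  obtain ⟨ρ, r1, r2⟩ := exists_dot_one_one h1 h2
  have hinc : ρ ⬝ᵥ (y - x) = 0 := by rw [dotProduct_sub, r1, r2, sub_self]
  refine ⟨tv (y - x) ρ 1, ?_, ?_⟩
  · rw [tv_mulVec hinc, r1, mul_one, one_smul, add_sub_cancel]
  · rw [tv_inv, tv_vecMul hinc, dotProduct_sub, hx, hy, sub_self, mul_zero, zero_smul, add_zero]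

theorem move_axis {x φ ψ : ι → k} (hφ : φ ⬝ᵥ x = 0) (hψ : ψ ⬝ᵥ x = 0)
    (h1 : φ ∉ Submodule.span k {ψ}) (h2 : ψ ∉ Submodule.span k {φ}) :
    ∃ u : Matrix.SpecialLinearGroup ι k, (u : Matrix ι ι k) *ᵥ x = x ∧
      φ ᵥ* ((u⁻¹ : Matrix.SpecialLinearGroup ι k) : Matrix ι ι k) = ψ := by
  obtain ⟨z, r1, r2⟩ := exists_dot_one_one h1 h2
  rw [dotProduct_comm] at r1 r2
  have hinc : (ψ - φ) ⬝ᵥ z = 0 := by rw [sub_dotProduct, r1, r2, sub_self]
  refine ⟨tv z (ψ - φ) (-1), ?_, ?_⟩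
  · rw [tv_mulVec hinc, sub_dotProduct, hφ, hψ, sub_self, mul_zero, zero_smul, add_zero]
  · rw [tv_inv, neg_neg, tv_vecMul hinc, r1, mul_one, one_smul, add_sub_cancel]

theorem span_dichotomy {x y : ι → k} (hx : x ≠ 0) (hy : y ≠ 0) :
    (∃ lam : k, lam ≠ 0 ∧ x = lam • y) ∨
      (x ∉ Submodule.span k {y} ∧ y ∉ Submodule.span k {x}) := by
  by_cases h : x ∈ Submodule.span k {y}
  · left
    obtain ⟨lam, rfl⟩ := Submodule.mem_span_singleton.mp h
    refine ⟨lam, ?_, rfl⟩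
    rintro rfl
    exact hx (zero_smul _ _)
  · right
    refine ⟨h, ?_⟩
    intro h'
    obtain ⟨mu, rfl⟩ := Submodule.mem_span_singleton.mp h'
    apply h
    rw [Submodule.mem_span_singleton]
    have hmu : mu ≠ 0 := by
      rintro rfl
      exact hy (zero_smul _ _)
    exact ⟨mu⁻¹, by rw [smul_smul, inv_mul_cancel₀ hmu, one_smul]⟩

/-- the conjugates of a fixed subgroup -/
def conjClass (A₀ : Subgroup (Matrix.SpecialLinearGroup ι k)) :
    Set (Subgroup (Matrix.SpecialLinearGroup ι k)) :=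
  {A | ∃ g : Matrix.SpecialLinearGroup ι k, A = Cfsg.conjBy A₀ g}

theorem conjBy_conjBy {G : Type*} [Group G] (A : Subgroup G) (g h : G) :
    Cfsg.conjBy (Cfsg.conjBy A g) h = Cfsg.conjBy A (h * g) := by
  unfold Cfsg.conjBy
  rw [Subgroup.map_map]
  congr 1
  ext a
  simp [MulAut.conj_apply, mul_assoc]

theorem conjBy_one {G : Type*} [Group G] (A : Subgroup G) : Cfsg.conjBy A 1 = A := by
  unfold Cfsg.conjBy
  ext a
  simp

theorem conjClass_conj {A₀ A : Subgroup (Matrix.SpecialLinearGroup ι k)} (hA : A ∈ conjClass A₀)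
    (g : Matrix.SpecialLinearGroup ι k) : Cfsg.conjBy A g ∈ conjClass A₀ := by
  obtain ⟨h, rfl⟩ := hA
  exact ⟨g * h, conjBy_conjBy A₀ h g⟩

theorem self_mem_conjClass (A₀ : Subgroup (Matrix.SpecialLinearGroup ι k)) : A₀ ∈ conjClass A₀ :=
  ⟨1, (conjBy_one A₀).symm⟩

/-- changing the centre inside the class -/
theorem mem_class_center {A₀ : Subgroup (Matrix.SpecialLinearGroup ι k)} {x y φ : ι → k}
    (hx : φ ⬝ᵥ x = 0) (hy : φ ⬝ᵥ y = 0) (hx0 : x ≠ 0) (hy0 : y ≠ 0)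
    (h : T x φ ∈ conjClass A₀) : T y φ ∈ conjClass A₀ := by
  rcases span_dichotomy hx0 hy0 with ⟨lam, hlam, rfl⟩ | ⟨h1, h2⟩
  · have := T_smul hlam one_ne_zero y φ
    rw [one_smul] at this
    rwa [this] at h
  · obtain ⟨u, hu1, hu2⟩ := move_center hx hy h1 h2
    have := conjClass_conj h u
    rwa [conjBy_T, hu1, hu2] at this

/-- changing the axis inside the class -/
theorem mem_class_axis {A₀ : Subgroup (Matrix.SpecialLinearGroup ι k)} {x φ ψ : ι → k}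
    (hφ : φ ⬝ᵥ x = 0) (hψ : ψ ⬝ᵥ x = 0) (hφ0 : φ ≠ 0) (hψ0 : ψ ≠ 0)
    (h : T x φ ∈ conjClass A₀) : T x ψ ∈ conjClass A₀ := by
  rcases span_dichotomy hφ0 hψ0 with ⟨lam, hlam, rfl⟩ | ⟨h1, h2⟩
  · have := T_smul one_ne_zero hlam x ψ
    rw [one_smul] at this
    rwa [this] at h
  · obtain ⟨u, hu1, hu2⟩ := move_axis hφ hψ h1 h2
    have := conjClass_conj h u
    rwa [conjBy_T, hu1, hu2] at this

/-- in dimension at least three all transvection subgroups are conjugate -/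
theorem mem_class_of_incident (hcard : 3 ≤ Fintype.card ι) {x₀ φ₀ x φ : ι → k}
    (h₀ : φ₀ ⬝ᵥ x₀ = 0) (hx₀ : x₀ ≠ 0) (hφ₀ : φ₀ ≠ 0)
    (h : φ ⬝ᵥ x = 0) (hx : x ≠ 0) (hφ : φ ≠ 0) : T x φ ∈ conjClass (T x₀ φ₀) := by
  obtain ⟨χ, hχ0, hχ1, hχ2⟩ := exists_perp_two hcard x₀ x
  have s1 : T x₀ χ ∈ conjClass (T x₀ φ₀) :=
    mem_class_axis h₀ hχ1 hφ₀ hχ0 (self_mem_conjClass _)
  have s2 : T x χ ∈ conjClass (T x₀ φ₀) := mem_class_center hχ1 hχ2 hx₀ hx s1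
  exact mem_class_axis hχ2 h hχ0 hφ s2

/-- every member of the class is a transvection subgroup -/
theorem exists_of_mem_class {x₀ φ₀ : ι → k} (h₀ : φ₀ ⬝ᵥ x₀ = 0) (hx₀ : x₀ ≠ 0) (hφ₀ : φ₀ ≠ 0)
    {A : Subgroup (Matrix.SpecialLinearGroup ι k)} (hA : A ∈ conjClass (T x₀ φ₀)) :
    ∃ x φ : ι → k, φ ⬝ᵥ x = 0 ∧ x ≠ 0 ∧ φ ≠ 0 ∧ A = T x φ := by
  obtain ⟨g, rfl⟩ := hA
  refine ⟨_, _, (dot_conj g x₀ φ₀).trans h₀, ?_, ?_, conjBy_T g x₀ φ₀⟩
  · intro h
    apply hx₀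
    have := inv_mulVec_mulVec g x₀
    rw [h, Matrix.mulVec_zero] at this
    exact this.symm
  · intro h
    apply hφ₀
    have := vecMul_inv_vecMul g φ₀
    rw [h, Matrix.zero_vecMul] at this
    exact this.symm

end Cfsg.Agent.H9SLRoot
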