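import Mathlib

set_option autoImplicit false

/-! Arithmetic of `r`-th powers in a finite field. -/

namespace Cfsg.Agent.Lib.Helper9.H9Elus

section nat

theorem natCast_eq_one_iff (r : ℕ) (Q : ℕ) (hQ : 1 ≤ Q) :
    ((Q : ℕ) : ZMod r) = 1 ↔ r ∣ Q - 1 := by
  rw [← ZMod.natCast_eq_zero_iff]
  have h : ((Q : ℕ) : ZMod r) = ((Q - 1 : ℕ) : ZMod r) + 1 := by
    rw [Nat.cast_sub hQ]; simp
  rw [h]
  constructor
  · intro h1
    simpa using h1
  · intro h1
    rw [h1, zero_add]

theorem orderOf_eq_one_iff_dvd (r : ℕ) (Q : ℕ) (hQ : 1 ≤ Q) :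
    orderOf ((Q : ℕ) : ZMod r) = 1 ↔ r ∣ Q - 1 := by
  rw [orderOf_eq_one_iff, natCast_eq_one_iff r Q hQ]

theorem orderOf_dvd_iff_dvd (r : ℕ) (Q : ℕ) (hQ : 1 ≤ Q) (k : ℕ) :
    orderOf ((Q : ℕ) : ZMod r) ∣ k ↔ r ∣ Q ^ k - 1 := by
  rw [orderOf_dvd_iff_pow_eq_one, ← Nat.cast_pow, natCast_eq_one_iff r (Q ^ k) (Nat.one_le_pow _ _ hQ)]

/-- `gcd N Q ∣ Q / r` when the `r`-part of `N` is smaller than that of `Q`. -/
theorem gcd_dvd_div (r : ℕ) (hr : r.Prime) (Q N : ℕ) (hQ : Q ≠ 0)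
    (hv : padicValNat r N < padicValNat r Q) (hN : N ≠ 0) : Nat.gcd N Q ∣ Q / r := by
  haveI : Fact r.Prime := ⟨hr⟩
  have hGN : Nat.gcd N Q ∣ N := Nat.gcd_dvd_left N Q
  have hGQ : Nat.gcd N Q ∣ Q := Nat.gcd_dvd_right N Q
  generalize Nat.gcd N Q = G at hGN hGQ ⊢
  obtain ⟨t, ht⟩ := hGQ
  by_cases hrt : r ∣ t
  · obtain ⟨t', rfl⟩ := hrt
    have : Q / r = G * t' := by
      rw [ht, show G * (r * t') = r * (G * t') by ring, Nat.mul_div_cancel_left _ hr.pos]
    rw [this]
    exact Dvd.intro _ rfl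
  · exfalso
    have h1 : r ^ padicValNat r Q ∣ Q := pow_padicValNat_dvd
    have hcop : Nat.Coprime (r ^ padicValNat r Q) t :=
      Nat.Coprime.pow_left _ ((Nat.Prime.coprime_iff_not_dvd hr).mpr hrt)
    have h2 : r ^ padicValNat r Q ∣ G := by
      have h1' : r ^ padicValNat r Q ∣ G * t := ht ▸ h1
      exact hcop.dvd_of_dvd_mul_right h1'
    have h3 : r ^ padicValNat r Q ∣ N := h2.trans hGN
    have h4 := (padicValNat_dvd_iff_le hN).mp h3
    omega

end nat

section field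
variable {F : Type*} [Field F] [Fintype F]

theorem exists_pow_eq_of_not_dvd (r : ℕ) (hr : r.Prime) (hnd : ¬ r ∣ Fintype.card F - 1) (c : F) :
    ∃ d : F, d ^ r = c := by
  classical
  by_cases hc : c = 0
  · exact ⟨0, by rw [hc, zero_pow hr.ne_zero]⟩
  · have hcop : (Nat.card Fˣ).Coprime r := by
      rw [Nat.card_eq_fintype_card, Fintype.card_units, Nat.coprime_comm]
      exact (Nat.Prime.coprime_iff_not_dvd hr).mpr hnd
    obtain ⟨d, hd⟩ := (powCoprime hcop).surjective (Units.mk0 c hc)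
    refine ⟨(d : F), ?_⟩
    have := congrArg Units.val hd
    simpa using this

theorem exists_pow_eq_of_pow_eq_one (r : ℕ) (hr : r.Prime) (hd : r ∣ Fintype.card F - 1) (u : F)
    (hu : u ≠ 0) (hpow : u ^ ((Fintype.card F - 1) / r) = 1) : ∃ d : F, d ^ r = u := by
  classical
  obtain ⟨g, hg⟩ := IsCyclic.exists_monoid_generator (α := Fˣ)
  have hord : orderOf g = Fintype.card F - 1 := by
    rw [orderOf_eq_card_of_forall_mem_powers hg, Nat.card_eq_fintype_card, Fintype.card_units]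
  obtain ⟨k, hk⟩ := Submonoid.mem_powers_iff _ _ |>.mp (hg (Units.mk0 u hu))
  have h1 : g ^ (k * ((Fintype.card F - 1) / r)) = 1 := by
    rw [pow_mul, hk]
    apply Units.ext
    simpa using hpow
  have h2 := orderOf_dvd_of_pow_eq_one h1
  rw [hord] at h2
  obtain ⟨M, hM⟩ := hd
  have hMpos : 0 < M := by
    rcases Nat.eq_zero_or_pos M with h | h
    · exfalso
      rw [h, mul_zero] at hM
      have : 1 < Fintype.card F := Fintype.one_lt_card
      omega
    · exact h
  rw [hM, Nat.mul_div_cancel_left _ hr.pos] at h2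
  have h3 : r ∣ k := Nat.dvd_of_mul_dvd_mul_right hMpos h2
  obtain ⟨k', rfl⟩ := h3
  refine ⟨((g ^ k' : Fˣ) : F), ?_⟩
  have := congrArg Units.val hk
  rw [Units.val_pow_eq_pow_val, Units.val_mk0] at this
  rw [Units.val_pow_eq_pow_val, ← pow_mul, mul_comm k' r, this]

theorem pow_div_eq_one (r : ℕ) (hr : r.Prime) (u : F) (hu : u ≠ 0) (N : ℕ) (hN : N ≠ 0)
    (hv : padicValNat r N < padicValNat r (Fintype.card F - 1)) (hpow : u ^ N = 1) :
    u ^ ((Fintype.card F - 1) / r) = 1 := by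
  have h1 : u ^ (Fintype.card F - 1) = 1 := FiniteField.pow_card_sub_one_eq_one u hu
  have h2 : u ^ Nat.gcd N (Fintype.card F - 1) = 1 := pow_gcd_eq_one.mpr ⟨hpow, h1⟩
  have hQ : Fintype.card F - 1 ≠ 0 := by
    have : 1 < Fintype.card F := Fintype.one_lt_card
    omega
  obtain ⟨t, ht⟩ := gcd_dvd_div r hr _ N hQ hv hN
  rw [ht, pow_mul, h2, one_pow]

end field

section field2
variable {F : Type*} [Field F] [Fintype F]

theorem neg_one_pow_succ_of_odd (r : ℕ) (hodd : Odd r) : ((-1 : F)) ^ (r + 1) = 1 :=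
  Even.neg_one_pow (Odd.add_one hodd)

/-- Under the arithmetic condition, `c` is an `r`-th power. -/
theorem is_power_of_arith (r : ℕ) (hr : r.Prime) (hd : r ∣ Fintype.card F - 1) (n : ℕ)
    (hn : n ≠ 0) (hrn : r ∣ n)
    (hv : padicValNat r n ≤ padicValNat r (Fintype.card F - 1))
    (h2 : r = 2 → Even n → Fintype.card F % 4 = 1) (c : F) (hc : c ≠ 0)
    (hpow : ((-1) ^ (r + 1) * c) ^ (n / r) = 1) : ∃ b : F, b ^ r = c := by
  haveI : Fact r.Prime := ⟨hr⟩
  have hN : n / r ≠ 0 := by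
    obtain ⟨t, rfl⟩ := hrn
    rw [Nat.mul_div_cancel_left _ hr.pos]
    rintro rfl
    exact hn (mul_zero r)
  have hvn : 1 ≤ padicValNat r n := one_le_padicValNat_of_dvd hn hrn
  have hvN : padicValNat r (n / r) < padicValNat r (Fintype.card F - 1) := by
    rw [padicValNat.div hrn]
    omega
  have hu : ((-1 : F) ^ (r + 1) * c) ≠ 0 := mul_ne_zero (pow_ne_zero _ (by simp)) hc
  have h1 := pow_div_eq_one r hr _ hu (n / r) hN hvN hpow
  obtain ⟨d, hd'⟩ := exists_pow_eq_of_pow_eq_one r hr hd _ hu h1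
  rcases hr.eq_two_or_odd' with h | h
  · subst h
    have hq : Fintype.card F % 4 = 1 := h2 rfl (even_iff_two_dvd.mpr hrn)
    have hsq : IsSquare (-1 : F) := FiniteField.isSquare_neg_one_iff.mpr (by omega)
    obtain ⟨s, hs⟩ := hsq
    refine ⟨s * d, ?_⟩
    rw [mul_pow, hd', pow_two, ← hs]
    ring
  · refine ⟨d, ?_⟩
    rw [hd', neg_one_pow_succ_of_odd r h, one_mul]

end field2

section field3
variable {F : Type*} [Field F] [Fintype F] {p : ℕ} [Fact p.Prime] [CharP F p]

/-- An element of order `r ^ e` in `F`. -/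
theorem exists_orderOf_eq (N : ℕ) (hN : N ∣ Fintype.card F - 1) :
    ∃ z : F, z ≠ 0 ∧ orderOf z = N := by
  classical
  obtain ⟨g, hg⟩ := IsCyclic.exists_monoid_generator (α := Fˣ)
  have hord : orderOf g = Fintype.card F - 1 := by
    rw [orderOf_eq_card_of_forall_mem_powers hg, Nat.card_eq_fintype_card, Fintype.card_units]
  have hQ : Fintype.card F - 1 ≠ 0 := by
    have : 1 < Fintype.card F := Fintype.one_lt_card
    omega
  obtain ⟨M, hM⟩ := hN
  have hM0 : M ≠ 0 := by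
    rintro rfl
    rw [mul_zero] at hM
    exact hQ hM
  have hN0 : N ≠ 0 := by
    rintro rfl
    rw [zero_mul] at hM
    exact hQ hM
  refine ⟨((g ^ M : Fˣ) : F), Units.ne_zero _, ?_⟩
  rw [orderOf_units, orderOf_pow_of_dvd hM0 (by rw [hord, hM]; exact Dvd.intro_left _ rfl), hord,
    hM, Nat.mul_div_cancel _ (Nat.pos_of_ne_zero hM0)]

theorem exists_nonpower (r : ℕ) (hr : r.Prime) (hrp : r ≠ p) (hd : r ∣ Fintype.card F - 1)
    (n : ℕ) (hn : n ≠ 0)
    (hnot : ¬ (padicValNat r n ≤ padicValNat r (Fintype.card F - 1) ∧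
      (r = 2 → Even n → Fintype.card F % 4 = 1))) :
    r ∣ n ∧ ∃ c : F, (∀ b : F, b ^ r ≠ c) ∧ ((-1) ^ (r + 1) * c) ^ (n / r) = 1 := by
  haveI : Fact r.Prime := ⟨hr⟩
  have hQ : Fintype.card F - 1 ≠ 0 := by
    have : 1 < Fintype.card F := Fintype.one_lt_card
    omega
  by_cases hB : r = 2 ∧ Fintype.card F % 4 ≠ 1
  · obtain ⟨rfl, hq4⟩ := hB
    have heven : Even n := by
      by_contra hne
      apply hnot
      refine ⟨?_, fun _ h => absurd h hne⟩
      have : ¬ 2 ∣ n := fun h => hne (even_iff_two_dvd.mpr h)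
      rw [padicValNat.eq_zero_of_not_dvd this]
      exact Nat.zero_le _
    have hodd : Fintype.card F % 2 = 1 := by
      apply FiniteField.odd_card_of_char_ne_two
      rw [ringChar.eq F p]
      exact fun h => hrp h.symm
    have hq3 : Fintype.card F % 4 = 3 := by omega
    refine ⟨even_iff_two_dvd.mp heven, -1, ?_, ?_⟩
    · intro b hb
      have hsq : IsSquare (-1 : F) := ⟨b, by rw [← hb, pow_two]⟩
      exact (FiniteField.isSquare_neg_one_iff.mp hsq) hq3
    · norm_num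
  · have h2 : r = 2 → Even n → Fintype.card F % 4 = 1 := by
      intro h _
      by_contra hne
      exact hB ⟨h, hne⟩
    have hv : padicValNat r (Fintype.card F - 1) < padicValNat r n := by
      by_contra hle
      exact hnot ⟨not_lt.mp hle, h2⟩
    set e := padicValNat r (Fintype.card F - 1) with he
    have he1 : 1 ≤ e := one_le_padicValNat_of_dvd hQ hd
    have hrn' : r ^ (e + 1) ∣ n := (padicValNat_dvd_iff_le hn).mpr hv
    have hrn : r ∣ n := (dvd_pow_self r (Nat.succ_ne_zero e)).trans hrn'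
    have hren : r ^ e ∣ n / r := by
      obtain ⟨t, ht⟩ := hrn'
      rw [ht, pow_succ, mul_assoc, mul_comm (r ^ e), mul_assoc, Nat.mul_div_cancel_left _ hr.pos]
      exact Dvd.intro_left _ rfl
    obtain ⟨z, hz0, hz⟩ := exists_orderOf_eq (F := F) (r ^ e) pow_padicValNat_dvd
    have hznp : ∀ b : F, b ^ r ≠ z := by
      intro b hb
      have hb0 : b ≠ 0 := by
        rintro rfl
        rw [zero_pow hr.ne_zero] at hb
        exact hz0 hb.symm
      have h1 : z ^ ((Fintype.card F - 1) / r) = 1 := by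
        rw [← hb, ← pow_mul, Nat.mul_div_cancel' hd]
        exact FiniteField.pow_card_sub_one_eq_one b hb0
      have h3 := orderOf_dvd_of_pow_eq_one h1
      rw [hz] at h3
      have h4 : r ^ (e + 1) ∣ Fintype.card F - 1 := by
        obtain ⟨t, ht⟩ := h3
        have := Nat.div_mul_cancel hd
        rw [← this, ht, pow_succ]
        exact ⟨t, by ring⟩
      have h5 := (padicValNat_dvd_iff_le hQ).mp h4
      omega
    have hzpow : z ^ (n / r) = 1 := by
      obtain ⟨t, ht⟩ := hren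
      rw [ht, pow_mul, ← hz, pow_orderOf_eq_one, one_pow]
    refine ⟨hrn, ?_⟩
    rcases hr.eq_two_or_odd' with h | h
    · subst h
      have hq : Fintype.card F % 4 = 1 := h2 rfl (even_iff_two_dvd.mpr hrn)
      have hsq : IsSquare (-1 : F) := FiniteField.isSquare_neg_one_iff.mpr (by omega)
      obtain ⟨s, hs⟩ := hsq
      refine ⟨-z, ?_, ?_⟩
      · intro b hb
        apply hznp (s * b)
        rw [mul_pow, hb, pow_two, ← hs]
        ring
      · have : ((-1 : F) ^ (2 + 1) * -z) = z := by ring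
        rw [this, hzpow]
    · refine ⟨z, hznp, ?_⟩
      rw [neg_one_pow_succ_of_odd r h, one_mul, hzpow]

end field3

end Cfsg.Agent.Lib.Helper9.H9Elus
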