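import Mathlib
import Cfsg.Prelude.Def_GeometricClasses
import Cfsg.Agent.Lib.Helper1.SpBasic
import Cfsg.Agent.Lib.Helper1.SpCard
import Cfsg.Agent.Lib.Helper1.SpPoint
import Cfsg.Agent.Lib.Helper2.Symp4
import Cfsg.Agent.Lib.Helper2.SpIsom

set_option autoImplicit false

namespace Cfsg.Agent.H9SpMax

open Cfsg.Agent.Lib.Helper1.SpBasic Cfsg.Agent.Lib.Helper2.Symp Cfsg.Agent.Lib.Helper2.SpIsom Matrix

variable {F : Type*} [Field F] {m : ℕ}

/-- The embedding of Mathlib's symplectic group into `GL`. -/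
def toGL (m : ℕ) (F : Type*) [Field F] :
    Matrix.symplecticGroup (Fin m) F →* GL (Fin m ⊕ Fin m) F where
  toFun A := ⟨(A : Matrix (Fin m ⊕ Fin m) (Fin m ⊕ Fin m) F),
      ((A⁻¹ : Matrix.symplecticGroup (Fin m) F) : Matrix (Fin m ⊕ Fin m) (Fin m ⊕ Fin m) F),
      by rw [← Submonoid.coe_mul, mul_inv_cancel]; rfl,
      by rw [← Submonoid.coe_mul, inv_mul_cancel]; rfl⟩
  map_one' := Units.ext rfl
  map_mul' _ _ := Units.ext rfl

theorem toGL_coe (A : Matrix.symplecticGroup (Fin m) F) :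
    ((toGL m F A : GL (Fin m ⊕ Fin m) F) : Matrix (Fin m ⊕ Fin m) (Fin m ⊕ Fin m) F) =
      (A : Matrix (Fin m ⊕ Fin m) (Fin m ⊕ Fin m) F) := rfl

theorem toGL_range : (toGL m F).range = Cfsg.spGL m F := by
  ext g
  constructor
  · rintro ⟨A, rfl⟩
    intro x y
    exact form_mulVec A x y
  · intro hg
    have hg' : (g : Matrix (Fin m ⊕ Fin m) (Fin m ⊕ Fin m) F) ∈
        Matrix.symplecticGroup (Fin m) F := by
      rw [Cfsg.Agent.Lib.Helper1.SpCard.mem_symplectic_iff_form]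
      exact hg
    exact ⟨⟨_, hg'⟩, Units.ext rfl⟩

theorem mem_comap_stabilizer (W : Submodule F (Fin m ⊕ Fin m → F))
    (A : Matrix.symplecticGroup (Fin m) F) :
    A ∈ (Cfsg.Geo.subspaceStabilizer W).comap (toGL m F) ↔
      ∀ v, v ∈ W ↔ (A : Matrix (Fin m ⊕ Fin m) (Fin m ⊕ Fin m) F) *ᵥ v ∈ W := Iff.rfl

/-- The set of directions all of whose symplectic transvections lie in `M`. -/
def dirSet (M : Subgroup (Matrix.symplecticGroup (Fin m) F)) : Set (Fin m ⊕ Fin m → F) :=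
  {u | ∀ c : F, T u c ∈ M}

theorem dirSet_smul (M : Subgroup (Matrix.symplecticGroup (Fin m) F)) (a : F)
    {u : Fin m ⊕ Fin m → F} (hu : u ∈ dirSet M) : a • u ∈ dirSet M := by
  intro c
  rw [T_smul]
  exact hu _

theorem dirSet_neg (M : Subgroup (Matrix.symplecticGroup (Fin m) F))
    {u : Fin m ⊕ Fin m → F} (hu : u ∈ dirSet M) : -u ∈ dirSet M := by
  have := dirSet_smul M (-1) hu
  rwa [neg_one_smul] at this

theorem dirSet_mulVec (M : Subgroup (Matrix.symplecticGroup (Fin m) F))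
    {A : Matrix.symplecticGroup (Fin m) F} (hA : A ∈ M)
    {u : Fin m ⊕ Fin m → F} (hu : u ∈ dirSet M) :
    (A : Matrix (Fin m ⊕ Fin m) (Fin m ⊕ Fin m) F) *ᵥ u ∈ dirSet M := by
  intro c
  rw [← conj_T]
  exact M.mul_mem (M.mul_mem hA (hu c)) (M.inv_mem hA)

theorem dirSet_add_of_ne (M : Subgroup (Matrix.symplecticGroup (Fin m) F))
    {a b : Fin m ⊕ Fin m → F} (ha : a ∈ dirSet M) (hb : b ∈ dirSet M)
    (hab : Cfsg.sympForm m F a b ≠ 0) : a + b ∈ dirSet M := by
  have := dirSet_mulVec M (hb (Cfsg.sympForm m F a b)⁻¹) ha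
  rw [T_mulVec, inv_mul_cancel₀ hab, one_smul] at this
  exact this

theorem eq_top_of_dirSet (M : Subgroup (Matrix.symplecticGroup (Fin m) F))
    (h : ∀ u, u ∈ dirSet M) : M = ⊤ := by
  rw [eq_top_iff, ← transvGroup_eq_top, transvGroup, Subgroup.closure_le]
  rintro A ⟨w, c, hA⟩
  have : A = T w c := Subtype.ext hA
  rw [this]
  exact h w c

theorem form_zero_left (x : Fin m ⊕ Fin m → F) : Cfsg.sympForm m F 0 x = 0 := by
  have := sympForm_smul_left (0 : F) (0 : Fin m ⊕ Fin m → F) x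
  rwa [zero_smul, zero_mul] at this

theorem form_zero_right (x : Fin m ⊕ Fin m → F) : Cfsg.sympForm m F x 0 = 0 := by
  rw [sympForm_swap, form_zero_left, neg_zero]

theorem form_neg_right (x y : Fin m ⊕ Fin m → F) :
    Cfsg.sympForm m F x (-y) = - Cfsg.sympForm m F x y := by
  rw [← neg_one_smul F y, sympForm_smul_right, neg_one_mul]

theorem form_neg_left (x y : Fin m ⊕ Fin m → F) :
    Cfsg.sympForm m F (-x) y = - Cfsg.sympForm m F x y := by
  rw [← neg_one_smul F x, sympForm_smul_left, neg_one_mul]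

theorem form_eq_zero_symm {x y : Fin m ⊕ Fin m → F} (h : Cfsg.sympForm m F x y = 0) :
    Cfsg.sympForm m F y x = 0 := by
  rw [sympForm_swap, h, neg_zero]

theorem sympBilin_nondegenerate : (sympBilin m F).Nondegenerate := by
  rw [LinearMap.BilinForm.nondegenerate_iff_ker_eq_bot]
  rw [LinearMap.ker_eq_bot']
  intro x hx
  apply sympForm_nondeg x
  intro y
  rw [← sympBilin_apply, hx]
  rfl

/-- The Eichler/Siegel element `y ↦ y + B(y,x) w + B(y,w) x` for `B(w,x) = 0`. -/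
def eich (w x : Fin m ⊕ Fin m → F) : Matrix.symplecticGroup (Fin m) F :=
  T (w + x) 1 * (T w (-1) * T x (-1))

theorem eich_mulVec (w x : Fin m ⊕ Fin m → F) (hwx : Cfsg.sympForm m F w x = 0)
    (y : Fin m ⊕ Fin m → F) :
    ((eich w x : Matrix.symplecticGroup (Fin m) F) :
        Matrix (Fin m ⊕ Fin m) (Fin m ⊕ Fin m) F) *ᵥ y =
      y + Cfsg.sympForm m F y x • w + Cfsg.sympForm m F y w • x := by
  have hxw : Cfsg.sympForm m F x w = 0 := form_eq_zero_symm hwx
  rw [eich, coe_mul_mulVec, T_mul_T_mulVec w x hwx, T_mulVec]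
  simp only [sympForm_add_left, sympForm_add_right, sympForm_smul_left, sympForm_self, hwx, hxw]
  module

end Cfsg.Agent.H9SpMax
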