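import Mathlib
import Cfsg.Agent.Lib.Helper9.SpMax1

set_option autoImplicit false

namespace Cfsg.Agent.H9SpMax

open Cfsg.Agent.Lib.Helper1.SpBasic Cfsg.Agent.Lib.Helper2.Symp Cfsg.Agent.Lib.Helper2.SpIsom Matrix

variable {F : Type*} [Field F] {m : ℕ}

/-- The orthogonal complement with respect to `sympForm`. -/
def perp (W : Submodule F (Fin m ⊕ Fin m → F)) : Submodule F (Fin m ⊕ Fin m → F) :=
  (sympBilin m F).orthogonal W

theorem mem_perp (W : Submodule F (Fin m ⊕ Fin m → F)) (u : Fin m ⊕ Fin m → F) :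
    u ∈ perp W ↔ ∀ w ∈ W, Cfsg.sympForm m F w u = 0 := by
  rw [perp, LinearMap.BilinForm.mem_orthogonal_iff]
  simp only [sympBilin_apply]

theorem perp_perp (W : Submodule F (Fin m ⊕ Fin m → F)) : perp (perp W) = W :=
  LinearMap.BilinForm.orthogonal_orthogonal sympBilin_nondegenerate sympBilin_isAlt.isRefl W

/-- A transvection with direction in `W^⊥` stabilizes `W`. -/
theorem T_stab_of_perp (W : Submodule F (Fin m ⊕ Fin m → F)) {u : Fin m ⊕ Fin m → F}
    (hu : u ∈ perp W) (c : F) (v : Fin m ⊕ Fin m → F) :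
    v ∈ W ↔ ((T u c : Matrix.symplecticGroup (Fin m) F) :
      Matrix (Fin m ⊕ Fin m) (Fin m ⊕ Fin m) F) *ᵥ v ∈ W := by
  rw [mem_perp] at hu
  rw [T_mulVec]
  constructor
  · intro hv
    rw [hu v hv, mul_zero, zero_smul, add_zero]
    exact hv
  · intro hv
    have h1 := hu _ hv
    rw [sympForm_add_left, sympForm_smul_left, sympForm_self, mul_zero, add_zero] at h1
    rw [h1, mul_zero, zero_smul, add_zero] at hv
    exact hv

section Isotropic

variable (W : Submodule F (Fin m ⊕ Fin m → F))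
  (hW : ∀ u ∈ W, ∀ v ∈ W, Cfsg.sympForm m F u v = 0)
  (M : Subgroup (Matrix.symplecticGroup (Fin m) F))
  (hPM : ∀ A : Matrix.symplecticGroup (Fin m) F,
    (∀ v, v ∈ W ↔ (A : Matrix (Fin m ⊕ Fin m) (Fin m ⊕ Fin m) F) *ᵥ v ∈ W) → A ∈ M)

include hPM in
theorem perp_subset_dirSet {u : Fin m ⊕ Fin m → F} (hu : u ∈ perp W) : u ∈ dirSet M :=
  fun c => hPM _ (T_stab_of_perp W hu c)

include hW in
theorem le_perp : W ≤ perp W := by
  intro u hu
  rw [mem_perp]
  intro w hw
  exact hW w hw u hu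

include hW hPM in
/-- Step 4: `a ∈ C ∖ U`, `u ∈ U` implies `a + u ∈ C`. -/
theorem add_perp_mem {a u : Fin m ⊕ Fin m → F} (ha : a ∈ dirSet M) (haU : a ∉ perp W)
    (hu : u ∈ perp W) : a + u ∈ dirSet M := by
  have hUC : ∀ {x}, x ∈ perp W → x ∈ dirSet M := fun hx => perp_subset_dirSet W M hPM hx
  by_cases hau : Cfsg.sympForm m F a u = 0
  · rw [mem_perp] at haU
    push Not at haU
    obtain ⟨w, hwW, hwa⟩ := haU
    have haw : Cfsg.sympForm m F a w ≠ 0 := by
      intro h
      exact hwa (form_eq_zero_symm h)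
    have hwU : w ∈ perp W := le_perp W hW hwW
    have huw : Cfsg.sympForm m F u w = 0 := form_eq_zero_symm ((mem_perp W u).mp hu w hwW)
    have h1 : a + (u + w) ∈ dirSet M := by
      apply dirSet_add_of_ne M ha (hUC ((perp W).add_mem hu hwU))
      rw [sympForm_add_right, hau, zero_add]
      exact haw
    have h2 : a + (u + w) + (-w) ∈ dirSet M := by
      apply dirSet_add_of_ne M h1 (dirSet_neg M (hUC hwU))
      rw [form_neg_right, neg_ne_zero, sympForm_add_left, sympForm_add_left, huw, sympForm_self,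
        add_zero, add_zero]
      exact haw
    have : a + (u + w) + (-w) = a + u := by abel
    rwa [this] at h2
  · exact dirSet_add_of_ne M ha (hUC hu) hau

include hW hPM in
/-- Step 5: `C` is closed under addition. -/
theorem dirSet_add {a b : Fin m ⊕ Fin m → F} (ha : a ∈ dirSet M) (hb : b ∈ dirSet M) :
    a + b ∈ dirSet M := by
  have hUC : ∀ {x}, x ∈ perp W → x ∈ dirSet M := fun hx => perp_subset_dirSet W M hPM hx
  by_cases haU : a ∈ perp W
  · by_cases hbU : b ∈ perp W
    · exact hUC ((perp W).add_mem haU hbU)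
    · rw [add_comm]
      exact add_perp_mem W hW M hPM hb hbU haU
  · by_cases hbU : b ∈ perp W
    · exact add_perp_mem W hW M hPM ha haU hbU
    · by_cases hab : Cfsg.sympForm m F a b = 0
      · -- find `w ∈ W` non-orthogonal to both
        obtain ⟨w, hwW, hwa, hwb⟩ : ∃ w ∈ W, Cfsg.sympForm m F a w ≠ 0 ∧
            Cfsg.sympForm m F b w ≠ 0 := by
          have haU' := haU
          have hbU' := hbU
          rw [mem_perp] at haU' hbU'
          push Not at haU' hbU'
          obtain ⟨w₁, hw₁W, hw₁⟩ := haU'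
          obtain ⟨w₂, hw₂W, hw₂⟩ := hbU'
          have h1 : Cfsg.sympForm m F a w₁ ≠ 0 := fun h => hw₁ (form_eq_zero_symm h)
          have h2 : Cfsg.sympForm m F b w₂ ≠ 0 := fun h => hw₂ (form_eq_zero_symm h)
          by_cases h3 : Cfsg.sympForm m F b w₁ = 0
          · by_cases h4 : Cfsg.sympForm m F a w₂ = 0
            · refine ⟨w₁ + w₂, W.add_mem hw₁W hw₂W, ?_, ?_⟩
              · rw [sympForm_add_right, h4, add_zero]; exact h1
              · rw [sympForm_add_right, h3, zero_add]; exact h2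
            · exact ⟨w₂, hw₂W, h4, h2⟩
          · exact ⟨w₁, hw₁W, h1, h3⟩
        have hwU : w ∈ perp W := le_perp W hW hwW
        have h1 : a + w ∈ dirSet M := dirSet_add_of_ne M ha (hUC hwU) hwa
        have h2 : a + w + b ∈ dirSet M := by
          apply dirSet_add_of_ne M h1 hb
          rw [sympForm_add_left, hab, zero_add]
          intro h
          exact hwb (form_eq_zero_symm h)
        by_cases habU : a + b ∈ perp W
        · exact hUC habU
        · have h3 : a + w + b ∉ perp W := by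
            intro h
            apply habU
            have := (perp W).sub_mem h hwU
            have e : a + w + b - w = a + b := by abel
            rwa [e] at this
          have := add_perp_mem W hW M hPM h2 h3 ((perp W).neg_mem hwU)
          have e : a + w + b + -w = a + b := by abel
          rwa [e] at this
      · exact dirSet_add_of_ne M ha hb hab

include hW hPM in
/-- The directions form a submodule. -/
def dirSub : Submodule F (Fin m ⊕ Fin m → F) where
  carrier := dirSet M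
  add_mem' := fun ha hb => dirSet_add W hW M hPM ha hb
  zero_mem' := perp_subset_dirSet W M hPM (perp W).zero_mem
  smul_mem' := fun c _ hu => dirSet_smul M c hu

include hW in
/-- The Eichler element stabilizes `W` when `w ∈ W` and `B(w, x) = 0`. -/
theorem eich_stab {w x : Fin m ⊕ Fin m → F} (hw : w ∈ W) (hwx : Cfsg.sympForm m F w x = 0)
    (v : Fin m ⊕ Fin m → F) :
    v ∈ W ↔ ((eich w x : Matrix.symplecticGroup (Fin m) F) :
      Matrix (Fin m ⊕ Fin m) (Fin m ⊕ Fin m) F) *ᵥ v ∈ W := by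
  rw [eich_mulVec w x hwx]
  constructor
  · intro hv
    rw [hW v hv w hw, zero_smul, add_zero]
    exact W.add_mem hv (W.smul_mem _ hw)
  · intro hv
    have h1 := hW _ hv w hw
    rw [sympForm_add_left, sympForm_add_left, sympForm_smul_left, sympForm_smul_left, sympForm_self,
      form_eq_zero_symm hwx, mul_zero, mul_zero, add_zero, add_zero] at h1
    rw [h1, zero_smul, add_zero] at hv
    have := W.sub_mem hv (W.smul_mem (Cfsg.sympForm m F v x) hw)
    rwa [add_sub_cancel_right] at this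

include hW hPM in
/-- Main theorem (isotropic case). -/
theorem eq_top_of_isotropic (h : Matrix.symplecticGroup (Fin m) F) (hM : h ∈ M)
    (hne : ¬ ∀ v, v ∈ W ↔ (h : Matrix (Fin m ⊕ Fin m) (Fin m ⊕ Fin m) F) *ᵥ v ∈ W) :
    M = ⊤ := by
  have hUC : ∀ {x}, x ∈ perp W → x ∈ dirSet M := fun hx => perp_subset_dirSet W M hPM hx
  -- an element `g ∈ M` and `w ∈ W` with `g w ∉ W`
  obtain ⟨g, hgM, w, hwW, hgw⟩ : ∃ g ∈ M, ∃ w ∈ W,
      (g : Matrix (Fin m ⊕ Fin m) (Fin m ⊕ Fin m) F) *ᵥ w ∉ W := by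
    push Not at hne
    obtain ⟨v, hv⟩ := hne
    rcases hv with ⟨hv1, hv2⟩ | ⟨hv1, hv2⟩
    · exact ⟨h, hM, v, hv1, hv2⟩
    · refine ⟨h⁻¹, M.inv_mem hM, _, hv2, ?_⟩
      rw [inv_mulVec_mulVec]
      exact hv1
  -- an element of `C` outside `U`
  obtain ⟨a, haC, haU⟩ : ∃ a, a ∈ dirSet M ∧ a ∉ perp W := by
    have h1 : (g : Matrix (Fin m ⊕ Fin m) (Fin m ⊕ Fin m) F) *ᵥ w ∉ perp (perp W) := by
      rw [perp_perp]; exact hgw
    rw [mem_perp] at h1
    push Not at h1
    obtain ⟨u, huU, hu⟩ := h1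
    refine ⟨_, dirSet_mulVec M (M.inv_mem hgM) (hUC huU), ?_⟩
    rw [mem_perp]
    push Not
    refine ⟨w, hwW, ?_⟩
    rw [sympForm_swap, form_inv_mulVec, neg_ne_zero]
    exact hu
  apply eq_top_of_dirSet
  -- `w₁ ∈ W` with `B(a, w₁) ≠ 0`
  obtain ⟨w₁, hw₁W, hw₁⟩ : ∃ w₁ ∈ W, Cfsg.sympForm m F a w₁ ≠ 0 := by
    rw [mem_perp] at haU
    push Not at haU
    obtain ⟨w₁, hw₁W, hw₁⟩ := haU
    exact ⟨w₁, hw₁W, fun h => hw₁ (form_eq_zero_symm h)⟩
  have hw₁C : w₁ ∈ dirSub W hW M hPM := hUC (le_perp W hW hw₁W)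
  have haC' : a ∈ dirSub W hW M hPM := haC
  have key : ∀ x, Cfsg.sympForm m F w₁ x = 0 → x ∈ dirSub W hW M hPM := by
    intro x hx
    have hE : eich w₁ x ∈ M := hPM _ (eich_stab W hW hw₁W hx)
    have h1 : ((eich w₁ x : Matrix.symplecticGroup (Fin m) F) :
      Matrix (Fin m ⊕ Fin m) (Fin m ⊕ Fin m) F) *ᵥ a ∈ dirSub W hW M hPM :=
      dirSet_mulVec M hE haC
    rw [eich_mulVec w₁ x hx] at h1
    have h2 : Cfsg.sympForm m F a w₁ • x ∈ dirSub W hW M hPM := by
      have := (dirSub W hW M hPM).sub_mem h1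
        ((dirSub W hW M hPM).add_mem haC' ((dirSub W hW M hPM).smul_mem (Cfsg.sympForm m F a x) hw₁C))
      rwa [add_sub_cancel_left] at this
    have := (dirSub W hW M hPM).smul_mem (Cfsg.sympForm m F a w₁)⁻¹ h2
    rwa [smul_smul, inv_mul_cancel₀ hw₁, one_smul] at this
  intro x
  show x ∈ dirSub W hW M hPM
  set l : F := Cfsg.sympForm m F w₁ x * (Cfsg.sympForm m F w₁ a)⁻¹ with hl
  have hw₁a : Cfsg.sympForm m F w₁ a ≠ 0 := by
    rw [sympForm_swap, neg_ne_zero]; exact hw₁
  have h1 : x - l • a ∈ dirSub W hW M hPM := by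
    apply key
    rw [sympForm_sub_right, sympForm_smul_right, hl, mul_assoc, inv_mul_cancel₀ hw₁a, mul_one,
      sub_self]
  have := (dirSub W hW M hPM).add_mem h1 ((dirSub W hW M hPM).smul_mem l haC')
  rwa [sub_add_cancel] at this

end Isotropic

end Cfsg.Agent.H9SpMax
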