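import Mathlib
import Cfsg.Agent.Lib.Helper9.SpMax2

set_option autoImplicit false

namespace Cfsg.Agent.H9SpMax

open Cfsg.Agent.Lib.Helper1.SpBasic Cfsg.Agent.Lib.Helper2.Symp Cfsg.Agent.Lib.Helper2.SpIsom Matrix

variable {F : Type*} [Field F] {m : ℕ}

/-- A transvection with direction in `W` stabilizes `W`. -/
theorem T_stab_of_mem (W : Submodule F (Fin m ⊕ Fin m → F)) {u : Fin m ⊕ Fin m → F}
    (hu : u ∈ W) (c : F) (v : Fin m ⊕ Fin m → F) :
    v ∈ W ↔ ((T u c : Matrix.symplecticGroup (Fin m) F) :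
      Matrix (Fin m ⊕ Fin m) (Fin m ⊕ Fin m) F) *ᵥ v ∈ W := by
  rw [T_mulVec]
  exact (W.add_mem_iff_left (W.smul_mem _ hu)).symm

/-- Spreading lemma: if `X ⊆ C` is nondegenerate and `x + r ∈ C` with `0 ≠ x ∈ X`, `r ⟂ X`, then
`x' + r ∈ C` for every nonzero `x' ∈ X`. -/
theorem spread (M : Subgroup (Matrix.symplecticGroup (Fin m) F))
    (X : Submodule F (Fin m ⊕ Fin m → F))
    (hnd : ∀ x ∈ X, x ≠ 0 → ∃ y ∈ X, Cfsg.sympForm m F x y ≠ 0)
    (hXC : ∀ x ∈ X, x ∈ dirSet M) {x r : Fin m ⊕ Fin m → F} (hx : x ∈ X) (hx0 : x ≠ 0)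
    (hr : ∀ y ∈ X, Cfsg.sympForm m F r y = 0) (hxr : x + r ∈ dirSet M)
    {x' : Fin m ⊕ Fin m → F} (hx' : x' ∈ X) (hx'0 : x' ≠ 0) : x' + r ∈ dirSet M := by
  -- Step A
  have stepA : ∀ x₁ ∈ X, x₁ + r ∈ dirSet M → ∀ x₂ ∈ X, Cfsg.sympForm m F x₁ x₂ ≠ 0 →
      x₂ + r ∈ dirSet M := by
    intro x₁ hx₁ h1 x₂ hx₂ h12
    have h2 : x₁ + r + (x₂ - x₁) ∈ dirSet M := by
      apply dirSet_add_of_ne M h1 (hXC _ (X.sub_mem hx₂ hx₁))
      rw [sympForm_add_left, hr _ (X.sub_mem hx₂ hx₁), add_zero, sympForm_sub_right, sympForm_self,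
        sub_zero]
      exact h12
    have e : x₁ + r + (x₂ - x₁) = x₂ + r := by abel
    rwa [e] at h2
  -- find `x₂` non-orthogonal to both `x` and `x'`
  obtain ⟨x₂, hx₂X, h1, h2⟩ : ∃ x₂ ∈ X, Cfsg.sympForm m F x x₂ ≠ 0 ∧
      Cfsg.sympForm m F x' x₂ ≠ 0 := by
    obtain ⟨y₁, hy₁X, hy₁⟩ := hnd x hx hx0
    obtain ⟨y₂, hy₂X, hy₂⟩ := hnd x' hx' hx'0
    by_cases h3 : Cfsg.sympForm m F x' y₁ = 0
    · by_cases h4 : Cfsg.sympForm m F x y₂ = 0
      · refine ⟨y₁ + y₂, X.add_mem hy₁X hy₂X, ?_, ?_⟩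
        · rw [sympForm_add_right, h4, add_zero]; exact hy₁
        · rw [sympForm_add_right, h3, zero_add]; exact hy₂
      · exact ⟨y₂, hy₂X, h4, hy₂⟩
    · exact ⟨y₁, hy₁X, hy₁, h3⟩
  have h3 := stepA x hx hxr x₂ hx₂X h1
  apply stepA x₂ hx₂X h3 x' hx'
  intro h
  exact h2 (form_eq_zero_symm h)

section Nondeg

variable (W : Submodule F (Fin m ⊕ Fin m → F))
  (hnd : ∀ w ∈ W, w ≠ 0 → ∃ x ∈ W, Cfsg.sympForm m F w x ≠ 0)

include hnd in
theorem disjoint_perp : Disjoint W (perp W) := by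
  rw [Submodule.disjoint_def]
  intro w hwW hwU
  by_contra hw0
  obtain ⟨x, hxW, hx⟩ := hnd w hwW hw0
  rw [mem_perp] at hwU
  exact hx (form_eq_zero_symm (hwU x hxW))

include hnd in
theorem isCompl_perp : IsCompl W (perp W) :=
  (LinearMap.BilinForm.isCompl_orthogonal_iff_disjoint sympBilin_isAlt.isRefl).mpr
    (disjoint_perp W hnd)

include hnd in
theorem exists_decomp (v : Fin m ⊕ Fin m → F) : ∃ w ∈ W, ∃ u ∈ perp W, v = w + u := by
  have h : v ∈ W ⊔ perp W := by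
    rw [(isCompl_perp W hnd).sup_eq_top]; trivial
  rw [Submodule.mem_sup] at h
  obtain ⟨w, hw, u, hu, rfl⟩ := h
  exact ⟨w, hw, u, hu, rfl⟩

include hnd in
theorem perp_nondeg : ∀ u ∈ perp W, u ≠ 0 → ∃ y ∈ perp W, Cfsg.sympForm m F u y ≠ 0 := by
  intro u hu hu0
  have h1 : ∃ y, Cfsg.sympForm m F u y ≠ 0 := by
    by_contra hcon
    push Not at hcon
    exact hu0 (sympForm_nondeg u hcon)
  obtain ⟨y, hy⟩ := h1
  obtain ⟨w, hw, u', hu', rfl⟩ := exists_decomp W hnd y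
  refine ⟨u', hu', ?_⟩
  rw [sympForm_add_right, form_eq_zero_symm ((mem_perp W u).mp hu w hw), zero_add] at hy
  exact hy

include hnd in
theorem finrank_add_perp :
    Module.finrank F W + Module.finrank F (perp W) = 2 * m := by
  have h := Submodule.finrank_add_eq_of_isCompl (isCompl_perp W hnd)
  rw [h, Module.finrank_pi, Fintype.card_sum, Fintype.card_fin]
  ring

/-- a subspace-like set contained in a union of two subspaces is in one of them -/
theorem subset_union_cases (W U : Submodule F (Fin m ⊕ Fin m → F))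
    (X : Submodule F (Fin m ⊕ Fin m → F)) (h : ∀ x ∈ X, x ∈ W ∨ x ∈ U) :
    X ≤ W ∨ X ≤ U := by
  by_contra hcon
  push Not at hcon
  obtain ⟨h1, h2⟩ := hcon
  rw [SetLike.not_le_iff_exists] at h1 h2
  obtain ⟨x₁, hx₁X, hx₁W⟩ := h1
  obtain ⟨x₂, hx₂X, hx₂U⟩ := h2
  have hx₁U : x₁ ∈ U := (h x₁ hx₁X).resolve_left hx₁W
  have hx₂W : x₂ ∈ W := (h x₂ hx₂X).resolve_right hx₂U
  rcases h _ (X.add_mem hx₁X hx₂X) with h3 | h3
  · exact hx₁W ((W.add_mem_iff_left hx₂W).mp h3)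
  · exact hx₂U ((U.add_mem_iff_right hx₁U).mp h3)

variable (M : Subgroup (Matrix.symplecticGroup (Fin m) F))
  (hPM : ∀ A : Matrix.symplecticGroup (Fin m) F,
    (∀ v, v ∈ W ↔ (A : Matrix (Fin m ⊕ Fin m) (Fin m ⊕ Fin m) F) *ᵥ v ∈ W) → A ∈ M)

include hnd hPM in
/-- if `C` contains a mixed vector then `M = ⊤` -/
theorem eq_top_of_mixed {w u : Fin m ⊕ Fin m → F} (hw : w ∈ W) (hw0 : w ≠ 0) (hu : u ∈ perp W)
    (hu0 : u ≠ 0) (hwu : w + u ∈ dirSet M) : M = ⊤ := by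
  have hWC : ∀ x ∈ W, x ∈ dirSet M := fun x hx c => hPM _ (T_stab_of_mem W hx c)
  have hUC : ∀ x ∈ perp W, x ∈ dirSet M := fun x hx c => hPM _ (T_stab_of_perp W hx c)
  apply eq_top_of_dirSet
  intro v
  obtain ⟨w', hw', u', hu', rfl⟩ := exists_decomp W hnd v
  by_cases hw'0 : w' = 0
  · rw [hw'0, zero_add]; exact hUC _ hu'
  by_cases hu'0 : u' = 0
  · rw [hu'0, add_zero]; exact hWC _ hw'
  have h1 : w' + u ∈ dirSet M := by
    apply spread M W hnd hWC hw hw0 ?_ hwu hw' hw'0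
    intro y hy
    exact form_eq_zero_symm ((mem_perp W u).mp hu y hy)
  have h2 : u' + w' ∈ dirSet M := by
    apply spread M (perp W) (perp_nondeg W hnd) hUC hu hu0 ?_ (by rwa [add_comm]) hu' hu'0
    intro y hy
    exact (mem_perp W y).mp hy w' hw'
  rwa [add_comm]

include hnd hPM in
/-- Main theorem (nondegenerate case). -/
theorem eq_top_of_nondegenerate (hW0 : W ≠ ⊥) (hdim : Module.finrank F W < m)
    (h : Matrix.symplecticGroup (Fin m) F) (hM : h ∈ M)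
    (hne : ¬ ∀ v, v ∈ W ↔ (h : Matrix (Fin m ⊕ Fin m) (Fin m ⊕ Fin m) F) *ᵥ v ∈ W) :
    M = ⊤ := by
  have hWC : ∀ x ∈ W, x ∈ dirSet M := fun x hx c => hPM _ (T_stab_of_mem W hx c)
  have hUC : ∀ x ∈ perp W, x ∈ dirSet M := fun x hx c => hPM _ (T_stab_of_perp W hx c)
  by_contra hMtop
  -- every element of `C` lies in `W ∪ U`
  have hC : ∀ a ∈ dirSet M, a ∈ W ∨ a ∈ perp W := by
    intro a ha
    obtain ⟨w, hw, u, hu, rfl⟩ := exists_decomp W hnd a
    by_cases hw0 : w = 0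
    · right; rw [hw0, zero_add]; exact hu
    by_cases hu0 : u = 0
    · left; rw [hu0, add_zero]; exact hw
    exact absurd (eq_top_of_mixed W hnd M hPM hw hw0 hu hu0 ha) hMtop
  set e : (Fin m ⊕ Fin m → F) ≃ₗ[F] (Fin m ⊕ Fin m → F) := spEquiv h with he
  have he_apply : ∀ x, e x = (h : Matrix (Fin m ⊕ Fin m) (Fin m ⊕ Fin m) F) *ᵥ x := fun x => rfl
  have h1 : W.map (e : (Fin m ⊕ Fin m → F) →ₗ[F] (Fin m ⊕ Fin m → F)) ≤ W ∨
      W.map (e : (Fin m ⊕ Fin m → F) →ₗ[F] (Fin m ⊕ Fin m → F)) ≤ perp W := by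
    apply subset_union_cases
    rintro _ ⟨w, hw, rfl⟩
    exact hC _ (dirSet_mulVec M hM (hWC w hw))
  have h2 : (perp W).map (e : (Fin m ⊕ Fin m → F) →ₗ[F] (Fin m ⊕ Fin m → F)) ≤ W ∨
      (perp W).map (e : (Fin m ⊕ Fin m → F) →ₗ[F] (Fin m ⊕ Fin m → F)) ≤ perp W := by
    apply subset_union_cases
    rintro _ ⟨w, hw, rfl⟩
    exact hC _ (dirSet_mulVec M hM (hUC w hw))
  have hfr : ∀ X : Submodule F (Fin m ⊕ Fin m → F),
      Module.finrank F (X.map (e : (Fin m ⊕ Fin m → F) →ₗ[F] (Fin m ⊕ Fin m → F))) =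
        Module.finrank F X := fun X => LinearEquiv.finrank_map_eq e X
  rcases h1 with h1 | h1
  · -- `h W = W`
    apply hne
    have heq : W.map (e : (Fin m ⊕ Fin m → F) →ₗ[F] (Fin m ⊕ Fin m → F)) = W :=
      Submodule.eq_of_le_of_finrank_eq h1 (hfr W)
    intro v
    constructor
    · intro hv
      exact h1 ⟨v, hv, rfl⟩
    · intro hv
      rw [← heq] at hv
      obtain ⟨w, hw, hwv⟩ := hv
      have : w = v := e.injective hwv
      rwa [← this]
  · rcases h2 with h2 | h2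
    · -- dimension contradiction
      have h3 : Module.finrank F (perp W) ≤ Module.finrank F W := by
        rw [← hfr (perp W)]
        exact Submodule.finrank_mono h2
      have h4 := finrank_add_perp W hnd
      omega
    · -- `h V ⊆ U`, so `U = ⊤`, so `W = ⊥`
      apply hW0
      have hUtop : perp W = ⊤ := by
        rw [eq_top_iff]
        intro v _
        obtain ⟨w, hw, u, hu, hwu⟩ := exists_decomp W hnd (e.symm v)
        have : v = e w + e u := by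
          rw [← map_add, ← hwu, LinearEquiv.apply_symm_apply]
        rw [this]
        exact (perp W).add_mem (h1 ⟨w, hw, rfl⟩) (h2 ⟨u, hu, rfl⟩)
      have := (disjoint_perp W hnd).eq_bot
      rwa [hUtop, inf_top_eq] at this

end Nondeg

end Cfsg.Agent.H9SpMax
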