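import Mathlib
import Cfsg.Prelude.Def_GeometricClasses
import Cfsg.Agent.Lib.Helper9.SpMax3
import Cfsg.Agent.Lib.Helper5.AltForm

set_option autoImplicit false

namespace Cfsg.Agent.H9SpDecomp

open Cfsg.Agent.Lib.Helper1.SpBasic Cfsg.Agent.Lib.Helper2.Symp Cfsg.Agent.Lib.Helper2.SpIsom
  Cfsg.Agent.H9SpMax Matrix Module

variable {F : Type*} [Field F] {m : ℕ}

/-- a symplectic basis of a nondegenerate subspace of dimension `2 * k'` -/
theorem exists_basis_sub (W : Submodule F (Fin m ⊕ Fin m → F))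
    (hnd : ∀ w ∈ W, w ≠ 0 → ∃ x ∈ W, Cfsg.sympForm m F w x ≠ 0) (k' : ℕ)
    (hk : finrank F W = 2 * k') :
    ∃ b : Basis (Fin k' ⊕ Fin k') F W, ∀ x y,
      Cfsg.sympForm m F (b x : Fin m ⊕ Fin m → F) (b y : Fin m ⊕ Fin m → F) =
        Matrix.J (Fin k') F x y := by
  set B : LinearMap.BilinForm F W := (sympBilin m F).restrict W with hB
  have hBapp : ∀ x y : W, B x y = Cfsg.sympForm m F (x : Fin m ⊕ Fin m → F) y := by
    intro x y
    show sympBilin m F (x : Fin m ⊕ Fin m → F) (y : Fin m ⊕ Fin m → F) = _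
    rw [sympBilin_apply]
  have halt : B.IsAlt := by
    intro x
    rw [hBapp, sympForm_self]
  have hnd' : ∀ x, (∀ y, B x y = 0) → x = 0 := by
    intro x hx
    by_contra hx0
    have hx0' : (x : Fin m ⊕ Fin m → F) ≠ 0 := fun h => hx0 (Subtype.ext h)
    obtain ⟨y, hyW, hy⟩ := hnd x x.2 hx0'
    apply hy
    have := hx ⟨y, hyW⟩
    rwa [hBapp] at this
  obtain ⟨m', b, h1, h2⟩ := Cfsg.Agent.Lib.Helper5.AltForm.exists_symplectic_basis halt hnd'
  have hm' : m' = k' := by omega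
  subst hm'
  refine ⟨b, fun x y => ?_⟩
  rw [← hBapp, h2]

/-- A basis adapted to an orthogonal decomposition into nondegenerate subspaces. -/
structure AdaptedBasis {t : ℕ} (D : Fin t → Submodule F (Fin m ⊕ Fin m → F)) (k' : ℕ) where
  b : Basis (Fin t × (Fin k' ⊕ Fin k')) F (Fin m ⊕ Fin m → F)
  mem : ∀ i x, b (i, x) ∈ D i
  form : ∀ i j x y, Cfsg.sympForm m F (b (i, x)) (b (j, y)) =
    if i = j then Matrix.J (Fin k') F x y else 0
  span : ∀ i, D i = Submodule.span F (Set.range fun x => b (i, x))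

theorem exists_adapted {t : ℕ} (D : Fin t → Submodule F (Fin m ⊕ Fin m → F)) (k : ℕ)
    (hD : Cfsg.Geo.IsNondegenerateMDecomposition (Cfsg.sympForm m F) k D) :
    ∃ k', 2 * k' = k ∧ Nonempty (AdaptedBasis D k') := by
  classical
  have hnd : ∀ i, ∀ w ∈ D i, w ≠ 0 → ∃ x ∈ D i, Cfsg.sympForm m F w x ≠ 0 :=
    fun i w hw hw0 => (hD.nondegenerate i w hw hw0).2
  -- `k` is even
  have hev : Even k := by
    have hpos : 0 < t := by have := hD.decomp.two_le; omega
    set i₀ : Fin t := ⟨0, hpos⟩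
    set B : LinearMap.BilinForm F (D i₀) := (sympBilin m F).restrict (D i₀) with hB
    have hBapp : ∀ x y : D i₀, B x y = Cfsg.sympForm m F (x : Fin m ⊕ Fin m → F) y := by
      intro x y
      show sympBilin m F (x : Fin m ⊕ Fin m → F) (y : Fin m ⊕ Fin m → F) = _
      rw [sympBilin_apply]
    have halt : B.IsAlt := by
      intro x
      rw [hBapp, sympForm_self]
    have hnd' : ∀ x, (∀ y, B x y = 0) → x = 0 := by
      intro x hx
      by_contra hx0
      have hx0' : (x : Fin m ⊕ Fin m → F) ≠ 0 := fun h => hx0 (Subtype.ext h)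
      obtain ⟨y, hyW, hy⟩ := hnd i₀ x x.2 hx0'
      apply hy
      have := hx ⟨y, hyW⟩
      rwa [hBapp] at this
    have := Cfsg.Agent.Lib.Helper5.AltForm.even_finrank_of_nondegenerate halt hnd'
    rwa [hD.decomp.finrank_eq] at this
  obtain ⟨k', hk'⟩ := hev
  refine ⟨k', by omega, ?_⟩
  have hex : ∀ i, ∃ b : Basis (Fin k' ⊕ Fin k') F (D i), ∀ x y,
      Cfsg.sympForm m F (b x : Fin m ⊕ Fin m → F) (b y : Fin m ⊕ Fin m → F) =
        Matrix.J (Fin k') F x y := by
    intro i
    apply exists_basis_sub (D i) (hnd i) k'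
    rw [hD.decomp.finrank_eq]; omega
  choose bs hbs using hex
  have hint : DirectSum.IsInternal D :=
    DirectSum.isInternal_submodule_of_iSupIndep_of_iSup_eq_top hD.decomp.indep
      hD.decomp.iSup_eq_top
  set cb := (hint.collectedBasis bs).reindex (Equiv.sigmaEquivProd (Fin t) (Fin k' ⊕ Fin k'))
    with hcb
  have hcb_apply : ∀ i x, cb (i, x) = (bs i x : Fin m ⊕ Fin m → F) := by
    intro i x
    rw [hcb, Basis.reindex_apply, DirectSum.IsInternal.collectedBasis_coe]
    rfl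
  refine ⟨⟨cb, ?_, ?_, ?_⟩⟩
  · intro i x
    rw [hcb_apply]
    exact (bs i x).2
  · intro i j x y
    rw [hcb_apply, hcb_apply]
    by_cases hij : i = j
    · subst hij
      rw [if_pos rfl, hbs]
    · rw [if_neg hij]
      exact hD.orthogonal i j hij _ (bs i x).2 _ (bs j y).2
  · intro i
    have h1 : (Set.range fun x => cb (i, x)) = (D i).subtype '' (Set.range (bs i)) := by
      ext v
      constructor
      · rintro ⟨x, rfl⟩
        exact ⟨bs i x, ⟨x, rfl⟩, (hcb_apply i x).symm⟩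
      · rintro ⟨_, ⟨x, rfl⟩, rfl⟩
        exact ⟨x, hcb_apply i x⟩
    rw [h1, Submodule.span_image, (bs i).span_eq, Submodule.map_subtype_top]

end Cfsg.Agent.H9SpDecomp
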