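import Mathlib

set_option autoImplicit false

/-! Counting `m`-dimensional subspaces: `N * ∏_{j<m} (q^m - q^j) = ∏_{j<m} (q^n - q^j)`. -/

namespace Cfsg.Agent.Lib.Helper9.H9Elus

open Module

section
variable {F V : Type*} [Field F] [Fintype F] [AddCommGroup V] [Module F V] [Finite V]

/-- The fibre of `s ↦ span (range s)` over `W` is the set of bases of `W`. -/
noncomputable def fiberEquiv (m : ℕ) (W : Submodule F V) (hW : finrank F W = m) :
    {s : {s : Fin m → V // LinearIndependent F s} // Submodule.span F (Set.range s.1) = W} ≃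
      {t : Fin m → W // LinearIndependent F t} where
  toFun s := ⟨fun j => ⟨s.1.1 j, by
      have h := s.2
      have h2 : s.1.1 j ∈ Submodule.span F (Set.range s.1.1) :=
        Submodule.subset_span ⟨j, rfl⟩
      exact h.le h2⟩, by
    have h1 : LinearIndependent F s.1.1 := s.1.2
    apply LinearIndependent.of_comp W.subtype
    exact h1⟩
  invFun t := ⟨⟨fun j => (t.1 j : V), t.2.map' W.subtype (Submodule.ker_subtype W)⟩, by
    have h1 : LinearIndependent F t.1 := t.2
    have h2 : Submodule.span F (Set.range t.1) = ⊤ := by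
      apply h1.span_eq_top_of_card_eq_finrank'
      rw [Fintype.card_fin, hW]
    have h3 : Set.range (fun j => (t.1 j : V)) = W.subtype '' Set.range t.1 := by
      rw [← Set.range_comp]
      rfl
    show Submodule.span F (Set.range (fun j => (t.1 j : V))) = W
    rw [h3, Submodule.span_image, h2, Submodule.map_top, Submodule.range_subtype]⟩
  left_inv s := by
    apply Subtype.ext
    apply Subtype.ext
    rfl
  right_inv t := by
    apply Subtype.ext
    funext j
    rfl

theorem card_subspaces_mul (m : ℕ) (hm : m ≤ finrank F V) :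
    Nat.card {W : Submodule F V // finrank F W = m} *
        ∏ j : Fin m, (Fintype.card F ^ m - Fintype.card F ^ j.val) =
      ∏ j : Fin m, (Fintype.card F ^ finrank F V - Fintype.card F ^ j.val) := by
  classical
  letI : Fintype V := Fintype.ofFinite V
  rw [← card_linearIndependent (K := F) (V := V) hm]
  let Φ : {s : Fin m → V // LinearIndependent F s} → {W : Submodule F V // finrank F W = m} :=
    fun s => ⟨Submodule.span F (Set.range s.1), by
      rw [finrank_span_eq_card s.2, Fintype.card_fin]⟩
  have e := Equiv.sigmaFiberEquiv Φ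
  rw [← Nat.card_congr e, Nat.card_sigma]
  have hfib : ∀ W : {W : Submodule F V // finrank F W = m},
      Nat.card {s : {s : Fin m → V // LinearIndependent F s} // Φ s = W} =
        ∏ j : Fin m, (Fintype.card F ^ m - Fintype.card F ^ j.val) := by
    intro W
    have e1 : {s : {s : Fin m → V // LinearIndependent F s} // Φ s = W} ≃
        {s : {s : Fin m → V // LinearIndependent F s} //
          Submodule.span F (Set.range s.1) = W.1} :=
      Equiv.subtypeEquivRight (fun s => by
        constructor
        · intro h; exact congrArg Subtype.val h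
        · intro h; exact Subtype.ext h)
    rw [Nat.card_congr e1, Nat.card_congr (fiberEquiv m W.1 W.2)]
    have h := card_linearIndependent (K := F) (V := W.1) (k := m) (by rw [W.2])
    rw [W.2] at h
    exact h
  rw [Finset.sum_congr rfl (fun W _ => hfib W), Finset.sum_const, Finset.card_univ,
    smul_eq_mul, Nat.card_eq_fintype_card]

theorem pow_sub_pow_eq (q k j : ℕ) (hjk : j ≤ k) :
    q ^ k - q ^ j = q ^ j * (q ^ (k - j) - 1) := by
  rw [Nat.mul_sub, mul_one, ← pow_add, Nat.add_sub_cancel' hjk]

/-- The reduced counting formula. -/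
theorem card_subspaces_mul' (m : ℕ) (hm : m ≤ finrank F V) :
    Nat.card {W : Submodule F V // finrank F W = m} *
        ∏ j : Fin m, (Fintype.card F ^ (m - j.val) - 1) =
      ∏ j : Fin m, (Fintype.card F ^ (finrank F V - j.val) - 1) := by
  have h := card_subspaces_mul (F := F) (V := V) m hm
  have h1 : ∏ j : Fin m, (Fintype.card F ^ m - Fintype.card F ^ j.val) =
      (∏ j : Fin m, Fintype.card F ^ j.val) *
        ∏ j : Fin m, (Fintype.card F ^ (m - j.val) - 1) := by
    rw [← Finset.prod_mul_distrib]
    apply Finset.prod_congr rfl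
    intro j _
    exact pow_sub_pow_eq _ _ _ j.2.le
  have h2 : ∏ j : Fin m, (Fintype.card F ^ finrank F V - Fintype.card F ^ j.val) =
      (∏ j : Fin m, Fintype.card F ^ j.val) *
        ∏ j : Fin m, (Fintype.card F ^ (finrank F V - j.val) - 1) := by
    rw [← Finset.prod_mul_distrib]
    apply Finset.prod_congr rfl
    intro j _
    exact pow_sub_pow_eq _ _ _ (j.2.le.trans hm)
  rw [h1, h2] at h
  have hpos : 0 < ∏ j : Fin m, Fintype.card F ^ j.val := by
    apply Finset.prod_pos
    intro j _
    exact pow_pos Fintype.card_pos _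
  apply Nat.eq_of_mul_eq_mul_left hpos
  rw [← h]
  ring

/-- A prime dividing the number of `m`-spaces divides some `q^(n-j) - 1`, `j < m`. -/
theorem exists_dvd_of_dvd_card_subspaces (m : ℕ) (hm : m ≤ finrank F V) {r : ℕ} (hr : r.Prime)
    (h : r ∣ Nat.card {W : Submodule F V // finrank F W = m}) :
    ∃ j, j < m ∧ r ∣ Fintype.card F ^ (finrank F V - j) - 1 := by
  have h1 := card_subspaces_mul' (F := F) (V := V) m hm
  have h2 : r ∣ ∏ j : Fin m, (Fintype.card F ^ (finrank F V - j.val) - 1) := by
    rw [← h1]
    exact Dvd.dvd.mul_right h _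
  obtain ⟨j, -, hj⟩ := (Prime.dvd_finset_prod_iff hr.prime _).mp h2
  exact ⟨j.val, j.2, hj⟩

/-- The characteristic does not divide the number of `m`-spaces. -/
theorem not_char_dvd_card_subspaces (m : ℕ) (hm : m ≤ finrank F V) {p : ℕ} (hp : p.Prime)
    (hpq : p ∣ Fintype.card F) :
    ¬ p ∣ Nat.card {W : Submodule F V // finrank F W = m} := by
  intro h
  obtain ⟨j, hj, hdvd⟩ := exists_dvd_of_dvd_card_subspaces (F := F) (V := V) m hm hp h
  have hpos : 0 < finrank F V - j := by omega
  have h1 : p ∣ Fintype.card F ^ (finrank F V - j) := Dvd.dvd.trans hpq (dvd_pow_self _ hpos.ne')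
  have h2 : 1 ≤ Fintype.card F ^ (finrank F V - j) := Nat.one_le_pow _ _ Fintype.card_pos
  have h3 : p ∣ 1 := by
    have := Nat.dvd_sub h1 hdvd
    rwa [Nat.sub_sub_self h2] at this
  exact hp.one_lt.ne' (Nat.dvd_one.mp h3)

end

end Cfsg.Agent.Lib.Helper9.H9Elus
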