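import Mathlib
import Cfsg.Agent.Lib.Helper9.Elus1

set_option autoImplicit false

/-! Counting complements and complementary pairs. -/

namespace Cfsg.Agent.Lib.Helper9.H9Elus

open Module

section
variable {F V : Type*} [Field F] [Fintype F] [AddCommGroup V] [Module F V] [Finite V]

/-- The restriction map `Hom(V, U) → Hom(U, U)`. -/
noncomputable def resMap (U : Submodule F V) : (V →ₗ[F] U) →ₗ[F] (U →ₗ[F] U) :=
  LinearMap.lcomp F U U.subtype

theorem resMap_apply (U : Submodule F V) (g : V →ₗ[F] U) (x : U) : resMap U g x = g x := rfl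

theorem resMap_surjective (U : Submodule F V) : Function.Surjective (resMap U) := by
  obtain ⟨C, hC⟩ := Submodule.exists_isCompl U
  intro h
  refine ⟨h ∘ₗ U.projectionOnto C hC, ?_⟩
  apply LinearMap.ext
  intro x
  rw [resMap_apply, LinearMap.comp_apply, Submodule.projectionOnto_apply_left]

theorem finrank_ker_resMap (U : Submodule F V) :
    finrank F (LinearMap.ker (resMap U)) + finrank F U * finrank F U
      = finrank F V * finrank F U := by
  have h := LinearMap.finrank_range_add_finrank_ker (resMap U)
  rw [LinearMap.range_eq_top.mpr (resMap_surjective U), finrank_top, Module.finrank_linearMap,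
    Module.finrank_linearMap] at h
  omega

/-- Projections onto `U` form a torsor under the kernel of the restriction map. -/
noncomputable def projEquivKer (U : Submodule F V) (f₀ : V →ₗ[F] U) (hf₀ : ∀ x : U, f₀ x = x) :
    {f : V →ₗ[F] U // ∀ x : U, f x = x} ≃ LinearMap.ker (resMap U) where
  toFun f := ⟨f.1 - f₀, by
    rw [LinearMap.mem_ker]
    apply LinearMap.ext
    intro x
    rw [resMap_apply, LinearMap.sub_apply, f.2, hf₀, sub_self, LinearMap.zero_apply]⟩
  invFun g := ⟨g.1 + f₀, by
    intro x
    have h := g.2
    rw [LinearMap.mem_ker] at h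
    have h2 := congrArg (fun k : U →ₗ[F] U => k x) h
    simp only [resMap_apply, LinearMap.zero_apply] at h2
    rw [LinearMap.add_apply, h2, hf₀, zero_add]⟩
  left_inv f := by
    apply Subtype.ext
    simp
  right_inv g := by
    apply Subtype.ext
    simp

theorem card_complements (U : Submodule F V) :
    Nat.card {W : Submodule F V // IsCompl U W}
      = Fintype.card F ^ (finrank F (LinearMap.ker (resMap U))) := by
  obtain ⟨C, hC⟩ := Submodule.exists_isCompl U
  rw [Nat.card_congr (Submodule.isComplEquivProj U),
    Nat.card_congr (projEquivKer U (U.projectionOnto C hC)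
      (Submodule.projectionOnto_apply_left hC)),
    Module.natCard_eq_pow_finrank (K := F), Nat.card_eq_fintype_card]

theorem card_complements' (U : Submodule F V) (m d : ℕ) (hU : finrank F U = m)
    (hd : finrank F V = d) :
    Nat.card {W : Submodule F V // IsCompl U W} = Fintype.card F ^ (m * (d - m)) := by
  rw [card_complements]
  congr 1
  have h := finrank_ker_resMap U
  rw [hU, hd] at h
  have hmd : m ≤ d := by
    rw [← hU, ← hd]
    exact Submodule.finrank_le U
  obtain ⟨e, rfl⟩ := Nat.exists_eq_add_of_le hmd
  rw [Nat.add_sub_cancel_left]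
  have : (m + e) * m = m * e + m * m := by ring
  omega

/-- The pairs with first component `U`. -/
noncomputable def pairFiberEquiv (m : ℕ) (U : Submodule F V) (hU : finrank F U = m) :
    {P : {P : Submodule F V × Submodule F V // IsCompl P.1 P.2 ∧ finrank F P.1 = m} //
        P.1.1 = U} ≃ {W : Submodule F V // IsCompl U W} where
  toFun P := ⟨P.1.1.2, by
    have h := P.1.2.1
    rw [P.2] at h
    exact h⟩
  invFun W := ⟨⟨(U, W.1), W.2, hU⟩, rfl⟩
  left_inv P := by
    obtain ⟨⟨⟨U', W⟩, h1, h2⟩, h3⟩ := P
    have h3' : U' = U := h3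
    subst h3'
    rfl
  right_inv W := rfl

theorem card_pairs (m d : ℕ) (hd : finrank F V = d) :
    Nat.card {P : Submodule F V × Submodule F V // IsCompl P.1 P.2 ∧ finrank F P.1 = m}
      = Nat.card {U : Submodule F V // finrank F U = m} * Fintype.card F ^ (m * (d - m)) := by
  classical
  letI : Fintype {U : Submodule F V // finrank F U = m} := Fintype.ofFinite _
  let f : {P : Submodule F V × Submodule F V // IsCompl P.1 P.2 ∧ finrank F P.1 = m} →
      {U : Submodule F V // finrank F U = m} := fun P => ⟨P.1.1, P.2.2⟩
  rw [← Nat.card_congr (Equiv.sigmaFiberEquiv f), Nat.card_sigma]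
  have : ∀ U : {U : Submodule F V // finrank F U = m},
      Nat.card {P : {P : Submodule F V × Submodule F V //
        IsCompl P.1 P.2 ∧ finrank F P.1 = m} // f P = U} = Fintype.card F ^ (m * (d - m)) := by
    intro U
    rw [← card_complements' U.1 m d U.2 hd, ← Nat.card_congr (pairFiberEquiv m U.1 U.2)]
    apply Nat.card_congr
    refine Equiv.subtypeEquivRight ?_
    intro P
    constructor
    · intro h
      exact congrArg Subtype.val h
    · intro h
      exact Subtype.ext h
  rw [Finset.sum_congr rfl (fun U _ => this U), Finset.sum_const, Finset.card_univ, smul_eq_mul,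
    Nat.card_eq_fintype_card]

end

section
variable {F : Type*} [Field F] [Fintype F] {p : ℕ} [Fact p.Prime] [CharP F p]

theorem dvd_card_subspaces_of_dvd_card_pairs (n m : ℕ) (r : ℕ) (hr : r.Prime) (hrp : r ≠ p)
    (h : r ∣ Nat.card {P : Submodule F (Fin n → F) × Submodule F (Fin n → F) //
      IsCompl P.1 P.2 ∧ finrank F P.1 = m}) :
    r ∣ Nat.card {W : Submodule F (Fin n → F) // finrank F W = m} := by
  rw [card_pairs (F := F) (V := Fin n → F) m n (Module.finrank_fin_fun F)] at h
  rcases (Nat.Prime.dvd_mul hr).mp h with h1 | h1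
  · exact h1
  · exfalso
    have h2 := hr.dvd_of_dvd_pow h1
    obtain ⟨f, hp, hf⟩ := FiniteField.card F p
    rw [hf] at h2
    have h3 := hr.dvd_of_dvd_pow h2
    exact hrp ((Nat.prime_dvd_prime_iff_eq hr hp).mp h3)

end

end Cfsg.Agent.Lib.Helper9.H9Elus
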