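import Mathlib
import Cfsg.Agent.Lib.Helper9.Elus3

set_option autoImplicit false

/-! Linear maps `z` with `z ^ r = c • 1` where `c` is not an `r`-th power: invariant subspaces have
dimension divisible by `r`, and the determinant of `z`. -/

namespace Cfsg.Agent.Lib.Helper9.H9Elus

open Module Polynomial
open Cfsg.Agent.H9SemiInv

section
variable {F : Type*} [Field F] {V : Type*} [AddCommGroup V] [Module F V]

theorem aeval_X_pow_sub_C_eq_zero (r : ℕ) (c : F) (z : V →ₗ[F] V) (hz : z ^ r = c • 1) :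
    aeval z (X ^ r - C c : F[X]) = 0 := by
  rw [map_sub, map_pow, aeval_X, aeval_C, hz, Algebra.algebraMap_eq_smul_one, sub_self]

variable [FiniteDimensional F V]

theorem isSemisimple_of_pow_eq_smul (r : ℕ) (hr : r.Prime) (c : F) (hc : ∀ b : F, b ^ r ≠ c)
    (z : V →ₗ[F] V) (hz : z ^ r = c • 1) : Module.End.IsSemisimple z := by
  have hirr : Irreducible (X ^ r - C c : F[X]) := X_pow_sub_C_irreducible_of_prime hr hc
  exact Module.End.isSemisimple_of_squarefree_aeval_eq_zero hirr.squarefree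
    (aeval_X_pow_sub_C_eq_zero r c z hz)

theorem hmin_of_pow_eq_smul (r : ℕ) (hr : r.Prime) (c : F) (hc : ∀ b : F, b ^ r ≠ c)
    (z : V →ₗ[F] V) (hz : z ^ r = c • 1) (W : Submodule F V) (hW : Inv z W) (hne : W ≠ ⊥) :
    ∃ Z : Submodule F V, Z ≤ W ∧ Inv z Z ∧ finrank F Z = r := by
  have hirr : Irreducible (X ^ r - C c : F[X]) := X_pow_sub_C_irreducible_of_prime hr hc
  refine exists_inv_finrank_eq z (X ^ r - C c) (X_pow_sub_C_ne_zero hr.pos c) r ?_ ⊤ ?_ W le_top hW hne
  · intro g hg hgd
    have hass : Associated g (X ^ r - C c) := hg.associated_of_dvd hirr hgd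
    rw [natDegree_eq_of_degree_eq (degree_eq_degree_of_associated hass), natDegree_X_pow_sub_C]
  · intro v _
    rw [aeval_X_pow_sub_C_eq_zero r c z hz, LinearMap.zero_apply]

theorem dvd_finrank_of_inv (r : ℕ) (hr : r.Prime) (c : F) (hc : ∀ b : F, b ^ r ≠ c)
    (z : V →ₗ[F] V) (hz : z ^ r = c • 1) (W : Submodule F V) (hW : Inv z W) :
    r ∣ finrank F W :=
  (exists_inv_mul z (isSemisimple_of_pow_eq_smul r hr c hc z hz) r hr.one_le W hW
    (fun W' _ hW' hne => hmin_of_pow_eq_smul r hr c hc z hz W' hW' hne)).1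

theorem exists_inv_of_dvd (r : ℕ) (hr : r.Prime) (c : F) (hc : ∀ b : F, b ^ r ≠ c)
    (z : V →ₗ[F] V) (hz : z ^ r = c • 1) (t : ℕ) (ht : r * t ≤ finrank F V) :
    ∃ W : Submodule F V, Inv z W ∧ finrank F W = r * t := by
  have hinv : Inv z (⊤ : Submodule F V) := fun x _ => Submodule.mem_top
  obtain ⟨W, -, hW, hd⟩ := (exists_inv_mul z (isSemisimple_of_pow_eq_smul r hr c hc z hz) r
    hr.one_le ⊤ hinv
    (fun W' _ hW' hne => hmin_of_pow_eq_smul r hr c hc z hz W' hW' hne)).2 t
      (by rw [finrank_top]; exact ht)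
  exact ⟨W, hW, hd⟩

end

section
universe u v
variable {F : Type v} [Field F]

theorem pow_restrict_eq_smul {V : Type u} [AddCommGroup V] [Module F V] (r : ℕ) (c : F)
    (z : V →ₗ[F] V) (hz : z ^ r = c • 1) (W : Submodule F V) (hW : ∀ x ∈ W, z x ∈ W) :
    (z.restrict hW) ^ r = c • 1 := by
  rw [Module.End.pow_restrict r hW]
  apply LinearMap.ext
  intro v
  apply Subtype.ext
  rw [LinearMap.restrict_coe_apply, hz]
  simp

/-- The determinant on an `r`-dimensional space. -/
theorem det_of_pow_eq_smul_of_finrank {V : Type u} [AddCommGroup V] [Module F V]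
    [FiniteDimensional F V] (r : ℕ) (hr : r.Prime) (c : F) (hc : ∀ b : F, b ^ r ≠ c)
    (z : V →ₗ[F] V) (hz : z ^ r = c • 1) (hV : finrank F V = r) :
    LinearMap.det z = (-1) ^ (r + 1) * c := by
  have hirr : Irreducible (X ^ r - C c : F[X]) := X_pow_sub_C_irreducible_of_prime hr hc
  have hmin : minpoly F z ∣ X ^ r - C c := minpoly.dvd F z (aeval_X_pow_sub_C_eq_zero r c z hz)
  haveI : Nontrivial V := Module.finrank_pos_iff.mp (by rw [hV]; exact hr.pos)
  have hass : Associated (X ^ r - C c) (minpoly F z) := by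
    rcases hirr.dvd_iff.mp hmin with h | h
    · exact absurd h (minpoly.not_isUnit F z)
    · exact h
  have heq : X ^ r - C c = minpoly F z :=
    eq_of_monic_of_associated (monic_X_pow_sub_C c hr.ne_zero) (minpoly.monic z.isIntegral) hass
  have hdvd : X ^ r - C c ∣ z.charpoly := heq ▸ LinearMap.minpoly_dvd_charpoly z
  have hch : z.charpoly = X ^ r - C c :=
    eq_of_monic_of_dvd_of_natDegree_le (monic_X_pow_sub_C c hr.ne_zero) z.charpoly_monic hdvd
      (by rw [LinearMap.charpoly_natDegree, natDegree_X_pow_sub_C, hV])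
  rw [LinearMap.det_eq_sign_charpoly_coeff, hch, hV]
  have : (X ^ r - C c : F[X]).coeff 0 = -c := by
    rw [coeff_sub, coeff_X_pow, coeff_C_zero, if_neg hr.ne_zero.symm, zero_sub]
  rw [this]
  ring

theorem det_of_pow_eq_smul_aux (r : ℕ) (hr : r.Prime) (c : F) (hc : ∀ b : F, b ^ r ≠ c) :
    ∀ (k : ℕ) (U : Type u) [AddCommGroup U] [Module F U] [FiniteDimensional F U]
      (z : U →ₗ[F] U), z ^ r = c • 1 → finrank F U = k →
      LinearMap.det z = ((-1) ^ (r + 1) * c) ^ (k / r) := by
  intro k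
  induction k using Nat.strong_induction_on with
  | _ k ih =>
    intro U _ _ _ z hz hk
    by_cases h0 : k = 0
    · subst h0
      rw [LinearMap.det_eq_one_of_finrank_eq_zero hk, Nat.zero_div, pow_zero]
    · have hpos : 0 < finrank F U := by omega
      have hnt : Nontrivial U := Module.finrank_pos_iff.mp hpos
      have hne : (⊤ : Submodule F U) ≠ ⊥ := top_ne_bot
      have hss := isSemisimple_of_pow_eq_smul r hr c hc z hz
      obtain ⟨Z, -, hZ, hZr⟩ := hmin_of_pow_eq_smul r hr c hc z hz ⊤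
        (fun x _ => Submodule.mem_top) hne
      obtain ⟨C', hC'mem, hcompl⟩ :=
        (Module.End.isSemisimple_iff.mp hss) Z ((inv_iff_mem z Z).mp hZ)
      have hC' : Inv z C' := (inv_iff_mem z C').mpr hC'mem
      have hfr := Submodule.finrank_add_eq_of_isCompl hcompl
      have hCr : finrank F C' = k - r := by omega
      have hrk : r ≤ k := by omega
      let e := Submodule.prodEquivOfIsCompl Z C' hcompl
      have hconj : z = (e : (Z × C') →ₗ[F] U) ∘ₗ ((z.restrict hZ).prodMap (z.restrict hC')) ∘ₗ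
          (e.symm : U →ₗ[F] (Z × C')) := by
        apply LinearMap.ext
        intro u
        obtain ⟨⟨a, b⟩, rfl⟩ := e.surjective u
        simp [e, Submodule.coe_prodEquivOfIsCompl']
        rfl
      rw [hconj, LinearMap.det_conj, LinearMap.det_prodMap,
        det_of_pow_eq_smul_of_finrank r hr c hc (z.restrict hZ)
          (pow_restrict_eq_smul r c z hz Z hZ) hZr,
        ih (k - r) (by have := hr.pos; omega) C' (z.restrict hC')
          (pow_restrict_eq_smul r c z hz C' hC') hCr,
        Nat.div_eq_sub_div hr.pos hrk, pow_succ ((-1) ^ (r + 1) * c) ((k - r) / r), mul_comm]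

theorem det_of_pow_eq_smul {V : Type u} [AddCommGroup V] [Module F V]
    [FiniteDimensional F V] (r : ℕ) (hr : r.Prime) (c : F) (hc : ∀ b : F, b ^ r ≠ c)
    (z : V →ₗ[F] V) (hz : z ^ r = c • 1) :
    LinearMap.det z = ((-1) ^ (r + 1) * c) ^ (finrank F V / r) :=
  det_of_pow_eq_smul_aux r hr c hc _ V z hz rfl

end

end Cfsg.Agent.Lib.Helper9.H9Elus
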