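import Mathlib
import Cfsg.Agent.Lib.Helper9.Elus4

set_option autoImplicit false

/-! Transport of a linear map of determinant one to a matrix of `SL_n`, and the two models. -/

namespace Cfsg.Agent.Lib.Helper9.H9Elus

open Module Polynomial
open Cfsg.Agent.H9SemiInv

section transport
variable {F : Type*} [Field F] {V₀ : Type*} [AddCommGroup V₀] [Module F V₀]

theorem exists_SL_of_det_eq_one [FiniteDimensional F V₀] (n : ℕ) (hfr : finrank F V₀ = n)
    (y₀ : V₀ →ₗ[F] V₀) (hdet : LinearMap.det y₀ = 1) :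
    ∃ (x : Matrix.SpecialLinearGroup (Fin n) F) (e : V₀ ≃ₗ[F] (Fin n → F)),
      ∀ v, Matrix.toLin' (x : Matrix (Fin n) (Fin n) F) (e v) = e (y₀ v) := by
  have e : V₀ ≃ₗ[F] (Fin n → F) :=
    LinearEquiv.ofFinrankEq _ _ (by rw [hfr, Module.finrank_fin_fun])
  let y : (Fin n → F) →ₗ[F] (Fin n → F) := (e : V₀ →ₗ[F] _) ∘ₗ y₀ ∘ₗ (e.symm : _ →ₗ[F] V₀)
  refine ⟨⟨LinearMap.toMatrix' y, ?_⟩, e, ?_⟩
  · rw [LinearMap.det_toMatrix', LinearMap.det_conj, hdet]
  · intro v
    simp [y]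

variable {n : ℕ} (A : Matrix (Fin n) (Fin n) F) (e : V₀ ≃ₗ[F] (Fin n → F)) (y₀ : V₀ →ₗ[F] V₀)
  (h : ∀ v, Matrix.toLin' A (e v) = e (y₀ v))

include h

theorem intertwine_pow (k : ℕ) : ∀ v, Matrix.toLin' (A ^ k) (e v) = e ((y₀ ^ k) v) := by
  induction k with
  | zero => intro v; simp
  | succ k ih =>
    intro v
    rw [pow_succ, Matrix.toLin'_mul, LinearMap.comp_apply, h, ih, pow_succ, Module.End.mul_apply]

theorem matrix_eq_smul_of_intertwine (c : F) (hy : y₀ = c • 1) : A = c • 1 := by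
  apply Matrix.toLin'.injective
  apply LinearMap.ext
  intro w
  have h1 := h (e.symm w)
  rw [LinearEquiv.apply_symm_apply] at h1
  rw [h1, hy]
  simp

theorem smul_of_matrix_eq_smul (c : F) (hA : A = c • 1) : y₀ = c • 1 := by
  apply LinearMap.ext
  intro v
  apply e.injective
  rw [← h v, hA]
  simp

theorem inv_comap_of_intertwine (W : Submodule F (Fin n → F))
    (hW : W.map (Matrix.toLin' A) ≤ W) :
    Inv y₀ (W.comap (e : V₀ →ₗ[F] (Fin n → F))) ∧
      finrank F (W.comap (e : V₀ →ₗ[F] (Fin n → F))) = finrank F W := by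
  constructor
  · intro v hv
    rw [Submodule.mem_comap] at hv ⊢
    have h2 : Matrix.toLin' A (e v) ∈ W := hW (Submodule.mem_map_of_mem hv)
    rw [h v] at h2
    exact h2
  · have h1 : W.comap (e : V₀ →ₗ[F] (Fin n → F)) = W.map (e.symm : (Fin n → F) →ₗ[F] V₀) :=
      (Submodule.map_equiv_eq_comap_symm e.symm W).symm
    rw [h1]
    exact LinearEquiv.finrank_map_eq e.symm W

end transport

section modelIrred
variable {F : Type*} [Field F]

theorem root_pow_eq (r : ℕ) (c : F) :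
    (AdjoinRoot.root (X ^ r - C c : F[X])) ^ r = algebraMap F (AdjoinRoot (X ^ r - C c : F[X])) c := by
  have h := AdjoinRoot.eval₂_root (X ^ r - C c : F[X])
  rw [eval₂_sub, eval₂_pow, eval₂_X, eval₂_C, sub_eq_zero] at h
  rw [h, AdjoinRoot.algebraMap_eq]

theorem model_irred (r : ℕ) (hr : r.Prime) (c : F) (hc : ∀ b : F, b ^ r ≠ c) (n : ℕ)
    (hrn : r ∣ n) (hdet : ((-1) ^ (r + 1) * c) ^ (n / r) = 1) :
    ∃ x : Matrix.SpecialLinearGroup (Fin n) F,
      ((x ^ r : Matrix.SpecialLinearGroup (Fin n) F) : Matrix (Fin n) (Fin n) F) = c • 1 ∧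
      ∀ W : Submodule F (Fin n → F),
        W.map (Matrix.toLin' (x : Matrix (Fin n) (Fin n) F)) ≤ W → r ∣ finrank F W := by
  have hirr : Irreducible (X ^ r - C c : F[X]) := X_pow_sub_C_irreducible_of_prime hr hc
  haveI : Fact (Irreducible (X ^ r - C c : F[X])) := ⟨hirr⟩
  have hne : (X ^ r - C c : F[X]) ≠ 0 := X_pow_sub_C_ne_zero hr.pos c
  haveI : FiniteDimensional F (AdjoinRoot (X ^ r - C c : F[X])) :=
    (AdjoinRoot.powerBasis hne).finite
  have hK : finrank F (AdjoinRoot (X ^ r - C c : F[X])) = r := by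
    rw [(AdjoinRoot.powerBasis hne).finrank, AdjoinRoot.powerBasis_dim, natDegree_X_pow_sub_C]
  have hV₀ : finrank F (Fin (n / r) → AdjoinRoot (X ^ r - C c : F[X])) = n := by
    rw [Module.finrank_pi_fintype]
    simp only [hK, Finset.sum_const, Finset.card_univ, Fintype.card_fin, smul_eq_mul]
    exact Nat.div_mul_cancel hrn
  let y₀ : (Fin (n / r) → AdjoinRoot (X ^ r - C c : F[X])) →ₗ[F]
      (Fin (n / r) → AdjoinRoot (X ^ r - C c : F[X])) :=
    Algebra.lsmul F F (Fin (n / r) → AdjoinRoot (X ^ r - C c : F[X]))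
      (AdjoinRoot.root (X ^ r - C c : F[X]))
  have hy₀ : y₀ ^ r = c • 1 := by
    show (Algebra.lsmul F F (Fin (n / r) → AdjoinRoot (X ^ r - C c : F[X]))
      (AdjoinRoot.root (X ^ r - C c : F[X]))) ^ r = c • 1
    rw [← map_pow, root_pow_eq, AlgHom.commutes, Algebra.algebraMap_eq_smul_one]
  have hdet₀ : LinearMap.det y₀ = 1 := by
    rw [det_of_pow_eq_smul r hr c hc y₀ hy₀, hV₀, hdet]
  obtain ⟨x, e, hint⟩ := exists_SL_of_det_eq_one n hV₀ y₀ hdet₀
  refine ⟨x, ?_, ?_⟩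
  · rw [Matrix.SpecialLinearGroup.coe_pow]
    exact matrix_eq_smul_of_intertwine _ e (y₀ ^ r) (intertwine_pow _ e y₀ hint r) c hy₀
  · intro W hW
    obtain ⟨hinv, hfr⟩ := inv_comap_of_intertwine _ e y₀ hint W hW
    rw [← hfr]
    exact dvd_finrank_of_inv r hr c hc y₀ hy₀ _ hinv

end modelIrred

end Cfsg.Agent.Lib.Helper9.H9Elus
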