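import Mathlib
import Cfsg.Agent.Lib.Helper9.Elus1
import Cfsg.Agent.Lib.Helper9.Elus7

set_option autoImplicit false

/-! Glue lemmas for the elusivity statements on `PSL_n(q)`. -/

namespace Cfsg.Agent.Lib.Helper9.H9Elus

open Module Polynomial
open Cfsg.Agent.H9SemiInv

section
variable {F V : Type*} [Field F] [Fintype F] {p : ℕ} [Fact p.Prime] [CharP F p]
  [AddCommGroup V] [Module F V] [FiniteDimensional F V]

/-- Scalar adjustment: if `z ^ r = d ^ r • 1` then `z` has the invariant subspaces of an element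
of order dividing `r`. -/
theorem exists_inv_of_pow_eq_smul_pow (r : ℕ) [Fact r.Prime] (hrp : r ≠ p) (z : V →ₗ[F] V)
    (d : F) (hd0 : d ≠ 0) (hz : z ^ r = d ^ r • 1) (m : ℕ) (hm : m ≤ finrank F V)
    (hmod : m % orderOf ((Fintype.card F : ℕ) : ZMod r) ≤
      finrank F V % orderOf ((Fintype.card F : ℕ) : ZMod r)) :
    ∃ W : Submodule F V, Inv z W ∧ finrank F W = m := by
  have hy : (d⁻¹ • z) ^ r = 1 := by
    rw [_root_.smul_pow, hz, smul_smul, ← mul_pow, inv_mul_cancel₀ hd0, one_pow, one_smul]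
  obtain ⟨W, hW, hWm⟩ := exists_inv_of_mod r hrp (d⁻¹ • z) hy m hm hmod
  refine ⟨W, ?_, hWm⟩
  intro v hv
  have h1 := W.smul_mem d (hW v hv)
  rwa [LinearMap.smul_apply, smul_smul, mul_inv_cancel₀ hd0, one_smul] at h1

end

section
variable {F : Type*} [Field F]

theorem scalar_ne_zero_of_SL {n : ℕ} (hn : 1 ≤ n) (x : Matrix.SpecialLinearGroup (Fin n) F)
    (c : F) (hx : (x : Matrix (Fin n) (Fin n) F) = c • 1) : c ≠ 0 := by
  rintro rfl
  have h1 : (x : Matrix (Fin n) (Fin n) F).det = 1 := x.2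
  haveI : Nonempty (Fin n) := ⟨⟨0, hn⟩⟩
  rw [hx, zero_smul, Matrix.det_zero] at h1
  exact zero_ne_one h1

theorem toLin_pow_eq_smul {n : ℕ} (x : Matrix.SpecialLinearGroup (Fin n) F) (r : ℕ) (c : F)
    (hx : ((x ^ r : Matrix.SpecialLinearGroup (Fin n) F) : Matrix (Fin n) (Fin n) F) = c • 1) :
    (Matrix.toLin' (x : Matrix (Fin n) (Fin n) F)) ^ r = c • 1 := by
  rw [← Matrix.toLin'_pow, ← Matrix.SpecialLinearGroup.coe_pow, hx, map_smul, Matrix.toLin'_one]
  rfl

theorem det_toLin_SL {n : ℕ} (x : Matrix.SpecialLinearGroup (Fin n) F) :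
    LinearMap.det (Matrix.toLin' (x : Matrix (Fin n) (Fin n) F)) = 1 := by
  rw [LinearMap.det_toLin']
  exact x.2

theorem scalar_pow_eq {n : ℕ} (hn : 1 ≤ n) (x : Matrix.SpecialLinearGroup (Fin n) F) (r : ℕ)
    (c c' : F)
    (hx : ((x ^ r : Matrix.SpecialLinearGroup (Fin n) F) : Matrix (Fin n) (Fin n) F) = c • 1)
    (hx' : (x : Matrix (Fin n) (Fin n) F) = c' • 1) : c' ^ r = c := by
  rw [Matrix.SpecialLinearGroup.coe_pow, hx', _root_.smul_pow, one_pow] at hx
  have := congrFun (congrFun hx ⟨0, hn⟩) ⟨0, hn⟩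
  simpa using this

end

section
variable {F : Type*} [Field F] [Fintype F] {p : ℕ} [Fact p.Prime] [CharP F p]

theorem ne_char_of_dvd_card_subspaces (n m : ℕ) (hmn : m ≤ n) (r : ℕ) [Fact r.Prime]
    (h : r ∣ Nat.card {W : Submodule F (Fin n → F) // finrank F W = m}) : r ≠ p := by
  rintro rfl
  have hr : r.Prime := Fact.out
  obtain ⟨f, -, hf⟩ := FiniteField.card F r
  have hfr : finrank F (Fin n → F) = n := Module.finrank_fin_fun F
  refine not_char_dvd_card_subspaces (F := F) (V := Fin n → F) m (by rw [hfr]; exact hmn) hr ?_ h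
  rw [hf]
  exact dvd_pow_self r (PNat.ne_zero f)

/-- From `r ∣ #{m-spaces}`: some `j < m` with `i ∣ n - j`. -/
theorem exists_order_dvd (n m : ℕ) (hmn : m ≤ n) (r : ℕ) [Fact r.Prime]
    (h : r ∣ Nat.card {W : Submodule F (Fin n → F) // finrank F W = m}) :
    ∃ j, j < m ∧ orderOf ((Fintype.card F : ℕ) : ZMod r) ∣ n - j := by
  have hr : r.Prime := Fact.out
  have hfr : finrank F (Fin n → F) = n := Module.finrank_fin_fun F
  obtain ⟨j, hj, hd⟩ := exists_dvd_of_dvd_card_subspaces (F := F) (V := Fin n → F) m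
    (by rw [hfr]; exact hmn) hr h
  rw [hfr] at hd
  exact ⟨j, hj, (orderOf_dvd_iff_dvd r _ Fintype.card_pos _).mpr hd⟩

theorem order_le_of_dvd_card (n m : ℕ) (hmn : m ≤ n) (r : ℕ) [Fact r.Prime]
    (h : r ∣ Nat.card {W : Submodule F (Fin n → F) // finrank F W = m}) :
    orderOf ((Fintype.card F : ℕ) : ZMod r) ≤ n := by
  obtain ⟨j, hj, hd⟩ := exists_order_dvd n m hmn r h
  have := Nat.le_of_dvd (by omega) hd
  omega

theorem order_le_of_mod_le (n m : ℕ) (hmn : m ≤ n) (r : ℕ) [Fact r.Prime]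
    (h : r ∣ Nat.card {W : Submodule F (Fin n → F) // finrank F W = m})
    (hi : 1 ≤ orderOf ((Fintype.card F : ℕ) : ZMod r))
    (hmod : m % orderOf ((Fintype.card F : ℕ) : ZMod r) ≤
      n % orderOf ((Fintype.card F : ℕ) : ZMod r)) :
    orderOf ((Fintype.card F : ℕ) : ZMod r) ≤ m := by
  obtain ⟨j, hj, hd⟩ := exists_order_dvd n m hmn r h
  set i := orderOf ((Fintype.card F : ℕ) : ZMod r) with hi_def
  by_contra hlt
  rw [not_le] at hlt
  rw [Nat.mod_eq_of_lt hlt] at hmod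
  have hlt2 : n % i < i := Nat.mod_lt n (by omega)
  have hn_eq : i * (n / i) + n % i = n := Nat.div_add_mod n i
  have h1 : n - j = i * (n / i) + (n % i - j) := by omega
  rw [h1] at hd
  have h2 : i ∣ n % i - j := (Nat.dvd_add_right (Dvd.intro _ rfl)).mp hd
  have := Nat.le_of_dvd (by omega) h2
  omega

end

end Cfsg.Agent.Lib.Helper9.H9Elus
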