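import Mathlib

set_option autoImplicit false

/-! Combinatorics: from concave kernel-dimension functions to a sub-partition. -/

namespace Cfsg.Agent.H9Nil

theorem abel_sum (d : ℕ → ℕ) (hd : ∀ k, d (k + 1) ≤ d k) (P : ℕ) :
    ∑ k ∈ Finset.range P, (d k - d (k + 1)) * (k + 1) + P * d P = ∑ k ∈ Finset.range P, d k := by
  induction P with
  | zero => simp
  | succ P ih =>
    rw [Finset.sum_range_succ, Finset.sum_range_succ, ← ih]
    have h1 := hd P
    obtain ⟨e, he⟩ := Nat.exists_eq_add_of_le h1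
    rw [he, Nat.add_sub_cancel_left]
    ring

theorem sum_nsmul_singleton (c : ℕ → ℕ) (P : ℕ) :
    (∑ k ∈ Finset.range P, c k • ({k + 1} : Multiset ℕ)).sum
      = ∑ k ∈ Finset.range P, c k * (k + 1) := by
  induction P with
  | zero => simp
  | succ P ih =>
    rw [Finset.sum_range_succ, Finset.sum_range_succ, Multiset.sum_add, ih, Multiset.sum_nsmul,
      Multiset.sum_singleton, smul_eq_mul]

theorem count_nsmul_singleton (c : ℕ → ℕ) (P : ℕ) (j : ℕ) :
    Multiset.count j (∑ k ∈ Finset.range P, c k • ({k + 1} : Multiset ℕ))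
      = if 1 ≤ j ∧ j ≤ P then c (j - 1) else 0 := by
  rw [Multiset.count_sum']
  simp only [Multiset.count_nsmul, Multiset.count_singleton]
  split_ifs with h
  · obtain ⟨h1, h2⟩ := h
    rw [Finset.sum_eq_single (j - 1)]
    · rw [if_pos (by omega), mul_one]
    · intro k _ hk
      rw [if_neg (by omega), mul_zero]
    · intro hk
      exfalso
      apply hk
      rw [Finset.mem_range]
      omega
  · apply Finset.sum_eq_zero
    intro k hk
    rw [Finset.mem_range] at hk
    rw [if_neg (by omega), mul_zero]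

/-- the combinatorial core -/
theorem exists_subpartition (κ₁ κ₂ κV : ℕ → ℕ) (μ : Multiset ℕ) (a p : ℕ)
    (hadd : ∀ k, κV k = κ₁ k + κ₂ k)
    (h10 : κ₁ 0 = 0) (h1m : Monotone κ₁)
    (h1c : ∀ k, κ₁ (k + 2) + κ₁ k ≤ 2 * κ₁ (k + 1))
    (h2c : ∀ k, κ₂ (k + 2) + κ₂ k ≤ 2 * κ₂ (k + 1))
    (h1p : ∀ k, p ≤ k → κ₁ k = a)
    (hμ : ∀ k, Multiset.count (k + 1) μ + κV (k + 2) + κV k = 2 * κV (k + 1)) :
    ∃ ν : Multiset ℕ, ν ≤ μ ∧ ν.sum = a := by
  set d : ℕ → ℕ := fun k => κ₁ (k + 1) - κ₁ k with hd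
  have hdk : ∀ k, d k + κ₁ k = κ₁ (k + 1) := by
    intro k
    have : κ₁ k ≤ κ₁ (k + 1) := h1m (Nat.le_add_right k 1)
    simp only [hd]
    omega
  have hanti : ∀ k, d (k + 1) ≤ d k := by
    intro k
    have h1 := hdk k
    have h2 := hdk (k + 1)
    have h3 := h1c k
    have : k + 1 + 1 = k + 2 := rfl
    rw [this] at h2
    omega
  refine ⟨∑ k ∈ Finset.range p, (d k - d (k + 1)) • ({k + 1} : Multiset ℕ), ?_, ?_⟩
  · rw [Multiset.le_iff_count]
    intro j
    rw [count_nsmul_singleton]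
    split_ifs with h
    · obtain ⟨h1, h2⟩ := h
      obtain ⟨k, rfl⟩ : ∃ k, j = k + 1 := ⟨j - 1, by omega⟩
      rw [Nat.add_sub_cancel]
      have e1 := hdk k
      have e2 := hdk (k + 1)
      have : k + 1 + 1 = k + 2 := rfl
      rw [this] at e2
      have e3 := hμ k
      have e4 := h2c k
      have e5 := hadd k
      have e6 := hadd (k + 1)
      have e7 := hadd (k + 2)
      have e8 := h1c k
      omega
    · exact Nat.zero_le _
  · rw [sum_nsmul_singleton]
    have h1 := abel_sum d hanti p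
    have h2 : d p = 0 := by
      simp only [hd]
      rw [h1p p le_rfl, h1p (p + 1) (Nat.le_succ p), Nat.sub_self]
    rw [h2, Nat.mul_zero, Nat.add_zero] at h1
    rw [h1]
    have h3 := Finset.sum_range_tsub h1m p
    rw [h10, Nat.sub_zero] at h3
    rw [← h1p p le_rfl, ← h3]

end Cfsg.Agent.H9Nil
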