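import Mathlib
import Cfsg.Agent.Lib.Helper9.SemiInv1

set_option autoImplicit false

/-! Kernel dimensions of powers of a linear map on invariant subspaces. -/

namespace Cfsg.Agent.H9Nil

open Module Cfsg.Agent.H9SemiInv

variable {F V : Type*} [Field F] [AddCommGroup V] [Module F V] [FiniteDimensional F V]

/-- the kernel of a restriction -/
def kerEquiv (N : V →ₗ[F] V) (A : Submodule F V) :
    ↥(LinearMap.ker (N.domRestrict A)) ≃ₗ[F] ↥(A ⊓ LinearMap.ker N) where
  toFun x := ⟨(x.1 : V), x.1.2, by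
    have := x.2
    rwa [LinearMap.mem_ker, LinearMap.domRestrict_apply] at this⟩
  map_add' _ _ := rfl
  map_smul' _ _ := rfl
  invFun y := ⟨⟨y.1, y.2.1⟩, by
    rw [LinearMap.mem_ker, LinearMap.domRestrict_apply]
    exact y.2.2⟩
  left_inv _ := rfl
  right_inv _ := rfl

theorem finrank_map_add (N : V →ₗ[F] V) (A : Submodule F V) :
    finrank F ↥(A.map N) + finrank F ↥(A ⊓ LinearMap.ker N) = finrank F A := by
  have h := LinearMap.finrank_range_add_finrank_ker (N.domRestrict A)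
  rw [LinearMap.range_domRestrict, (kerEquiv N A).finrank_eq] at h
  exact h

/-- `κ N W k = dim (W ∩ ker N^k)` -/
noncomputable def kap (N : V →ₗ[F] V) (W : Submodule F V) (k : ℕ) : ℕ :=
  finrank F ↥(W ⊓ LinearMap.ker (N ^ k))

theorem kap_zero (N : V →ₗ[F] V) (W : Submodule F V) : kap N W 0 = 0 := by
  unfold kap
  rw [pow_zero]
  have : LinearMap.ker (1 : V →ₗ[F] V) = ⊥ := LinearMap.ker_id
  rw [this, inf_bot_eq, finrank_bot]

theorem ker_pow_le_succ (N : V →ₗ[F] V) (k : ℕ) :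
    LinearMap.ker (N ^ k) ≤ LinearMap.ker (N ^ (k + 1)) := by
  intro x hx
  rw [LinearMap.mem_ker] at hx ⊢
  rw [pow_succ', Module.End.mul_apply, hx, map_zero]

theorem kap_mono (N : V →ₗ[F] V) (W : Submodule F V) : Monotone (kap N W) := by
  apply monotone_nat_of_le_succ
  intro k
  exact Submodule.finrank_mono (inf_le_inf_left W (ker_pow_le_succ N k))

theorem kap_of_pow_eq_zero (N : V →ₗ[F] V) (W : Submodule F V) {P : ℕ} (hP : N ^ P = 0) {k : ℕ}
    (hk : P ≤ k) : kap N W k = finrank F W := by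
  unfold kap
  have : LinearMap.ker (N ^ k) = ⊤ := by
    rw [LinearMap.ker_eq_top]
    obtain ⟨j, rfl⟩ := Nat.exists_eq_add_of_le hk
    rw [pow_add, hP, zero_mul]
  rw [this, inf_top_eq]

theorem kap_top (N : V →ₗ[F] V) (k : ℕ) :
    kap N ⊤ k = finrank F ↥(LinearMap.ker (N ^ k)) := by
  unfold kap
  rw [top_inf_eq]

/-- concavity -/
theorem kap_concave (N : V →ₗ[F] V) (W : Submodule F V) (hW : Inv N W) (k : ℕ) :
    kap N W (k + 2) + kap N W k ≤ 2 * kap N W (k + 1) := by
  set A := W ⊓ LinearMap.ker (N ^ (k + 2)) with hA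
  set B := W ⊓ LinearMap.ker (N ^ (k + 1)) with hB
  set C := W ⊓ LinearMap.ker (N ^ k) with hC
  have hker1 : ∀ j, LinearMap.ker N ≤ LinearMap.ker (N ^ (j + 1)) := by
    intro j x hx
    rw [LinearMap.mem_ker] at hx ⊢
    rw [pow_succ, Module.End.mul_apply, hx, map_zero]
  have hAk : A ⊓ LinearMap.ker N = W ⊓ LinearMap.ker N := by
    rw [hA, inf_assoc, inf_eq_right.2 (hker1 (k + 1))]
  have hBk : B ⊓ LinearMap.ker N = W ⊓ LinearMap.ker N := by
    rw [hB, inf_assoc, inf_eq_right.2 (hker1 k)]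
  have h1 := finrank_map_add N A
  have h2 := finrank_map_add N B
  rw [hAk] at h1
  rw [hBk] at h2
  have hAB : A.map N ≤ B := by
    rintro _ ⟨x, hx, rfl⟩
    refine ⟨hW x hx.1, ?_⟩
    have this : x ∈ LinearMap.ker (N ^ (k + 2)) := hx.2
    show N x ∈ LinearMap.ker (N ^ (k + 1))
    rw [LinearMap.mem_ker] at this ⊢
    rw [← Module.End.mul_apply, ← pow_succ]
    exact this
  have hBC : B.map N = A.map N ⊓ C := by
    apply le_antisymm
    · rintro _ ⟨x, hx, rfl⟩
      refine ⟨⟨x, ⟨hx.1, ker_pow_le_succ N (k + 1) hx.2⟩, rfl⟩, hW x hx.1, ?_⟩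
      have this : x ∈ LinearMap.ker (N ^ (k + 1)) := hx.2
      show N x ∈ LinearMap.ker (N ^ k)
      rw [LinearMap.mem_ker] at this ⊢
      rw [← Module.End.mul_apply, ← pow_succ]
      exact this
    · rintro _ ⟨⟨x, hx, rfl⟩, hy⟩
      refine ⟨x, ⟨hx.1, ?_⟩, rfl⟩
      have this : N x ∈ LinearMap.ker (N ^ k) := hy.2
      show x ∈ LinearMap.ker (N ^ (k + 1))
      rw [LinearMap.mem_ker] at this ⊢
      rw [← Module.End.mul_apply, ← pow_succ] at this
      exact this
  have hCB : C ≤ B := inf_le_inf_left W (ker_pow_le_succ N k)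
  have h3 := Submodule.finrank_sup_add_finrank_inf_eq (A.map N) C
  have h4 : finrank F ↥(A.map N ⊔ C) ≤ finrank F B := Submodule.finrank_mono (sup_le hAB hCB)
  rw [← hBC] at h3
  show finrank F A + finrank F C ≤ 2 * finrank F B
  omega

/-- additivity over an invariant direct decomposition -/
theorem kap_add (N : V →ₗ[F] V) (W₁ W₂ : Submodule F V) (h₁ : Inv N W₁) (h₂ : Inv N W₂)
    (hd : Disjoint W₁ W₂) (ht : W₁ ⊔ W₂ = ⊤) (k : ℕ) :
    kap N ⊤ k = kap N W₁ k + kap N W₂ k := by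
  have hpow : ∀ (W : Submodule F V), Inv N W → ∀ j, Inv (N ^ j) W := by
    intro W hW j
    induction j with
    | zero => intro x hx; simpa using hx
    | succ j ih =>
      intro x hx
      rw [pow_succ', Module.End.mul_apply]
      exact hW _ (ih x hx)
  set K := LinearMap.ker (N ^ k) with hK
  have hsplit : K = (W₁ ⊓ K) ⊔ (W₂ ⊓ K) := by
    apply le_antisymm
    · intro x hx
      have hx' : x ∈ W₁ ⊔ W₂ := by rw [ht]; trivial
      obtain ⟨a, ha, b, hb, rfl⟩ := Submodule.mem_sup.1 hx'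
      rw [hK, LinearMap.mem_ker, map_add] at hx
      have ha' := hpow W₁ h₁ k a ha
      have hb' := hpow W₂ h₂ k b hb
      have h0 : (N ^ k) a ∈ W₁ ⊓ W₂ := by
        refine ⟨ha', ?_⟩
        have : (N ^ k) a = -(N ^ k) b := eq_neg_of_add_eq_zero_left hx
        rw [this]
        exact W₂.neg_mem hb'
      rw [hd.eq_bot, Submodule.mem_bot] at h0
      have h0' : (N ^ k) b = 0 := by rw [h0, zero_add] at hx; exact hx
      exact Submodule.add_mem _ (Submodule.mem_sup_left ⟨ha, h0⟩) (Submodule.mem_sup_right ⟨hb, h0'⟩)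
    · exact sup_le inf_le_right inf_le_right
  have hd' : Disjoint (W₁ ⊓ K) (W₂ ⊓ K) := hd.mono inf_le_left inf_le_left
  unfold kap
  rw [top_inf_eq, ← hK, hsplit, finrank_sup_of_disjoint hd', ← hsplit]

end Cfsg.Agent.H9Nil
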