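import Mathlib

set_option autoImplicit false

/-! The model nilpotent operator with prescribed Jordan block sizes. -/

namespace Cfsg.Agent.H9Nil

open Module

variable {F : Type*} [Field F] {ι : Type*} [Fintype ι] [DecidableEq ι] (b : ι → ℕ)

/-- cells `(i, j)` with `j < b i` -/
abbrev Idx (b : ι → ℕ) : Type _ := {ij : ι × ℕ // ij.2 < b ij.1}

/-- cells as a sigma type -/
def idxEquiv : (Σ i, Fin (b i)) ≃ Idx b where
  toFun x := ⟨(x.1, x.2.1), x.2.2⟩
  invFun y := ⟨y.1.1, ⟨y.1.2, y.2⟩⟩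
  left_inv := by rintro ⟨i, j, hj⟩; rfl
  right_inv := by rintro ⟨⟨i, j⟩, hj⟩; rfl

noncomputable instance : Fintype (Idx b) := Fintype.ofEquiv _ (idxEquiv b)

theorem card_idx : Fintype.card (Idx b) = ∑ i, b i := by
  rw [← Fintype.card_congr (idxEquiv b), Fintype.card_sigma]
  simp

/-- cells in columns `≥ k` -/
def colEquiv (k : ℕ) : (Σ i, Fin (b i - k)) ≃ {ij : Idx b // k ≤ ij.1.2} where
  toFun x := ⟨⟨(x.1, x.2.1 + k), by have := x.2.2; show x.2.1 + k < b x.1; omega⟩,
    by show k ≤ x.2.1 + k; omega⟩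
  invFun y := ⟨y.1.1.1, ⟨y.1.1.2 - k, by
    have h1 : y.1.1.2 < b y.1.1.1 := y.1.2
    have h2 : k ≤ y.1.1.2 := y.2
    omega⟩⟩
  left_inv := by
    rintro ⟨i, j, hj⟩
    simp
  right_inv := by
    rintro ⟨⟨⟨i, j⟩, hj⟩, hk⟩
    apply Subtype.ext
    apply Subtype.ext
    simp only
    have hk' : k ≤ j := hk
    rw [Nat.sub_add_cancel hk']

theorem card_col (k : ℕ) : Fintype.card {ij : Idx b // k ≤ ij.1.2} = ∑ i, (b i - k) := by
  rw [← Fintype.card_congr (colEquiv b k), Fintype.card_sigma]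
  simp

/-- the shift operator: `e_{(i, j+1)} ↦ e_{(i, j)}` -/
def shift : (Idx b → F) →ₗ[F] (Idx b → F) where
  toFun v ij := if h : ij.1.2 + 1 < b ij.1.1 then v ⟨(ij.1.1, ij.1.2 + 1), h⟩ else 0
  map_add' v w := by
    funext ij
    simp only [Pi.add_apply]
    split_ifs
    · rfl
    · rw [add_zero]
  map_smul' c v := by
    funext ij
    simp only [Pi.smul_apply, RingHom.id_apply]
    split_ifs
    · rfl
    · rw [smul_zero]

theorem shift_pow_apply (k : ℕ) (v : Idx b → F) (ij : Idx b) :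
    ((shift (F := F) b) ^ k) v ij
      = if h : ij.1.2 + k < b ij.1.1 then v ⟨(ij.1.1, ij.1.2 + k), h⟩ else 0 := by
  induction k generalizing v with
  | zero =>
    rw [pow_zero, Module.End.one_apply, dif_pos (by simpa using ij.2)]
    congr 1
  | succ k ih =>
    rw [pow_succ, Module.End.mul_apply, ih]
    by_cases h : ij.1.2 + k < b ij.1.1
    · rw [dif_pos h]
      show (if h' : ij.1.2 + k + 1 < b ij.1.1 then v ⟨(ij.1.1, ij.1.2 + k + 1), h'⟩ else 0) = _
      by_cases h' : ij.1.2 + k + 1 < b ij.1.1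
      · rw [dif_pos h', dif_pos (by omega)]
        congr 1
      · rw [dif_neg h', dif_neg (by omega)]
    · rw [dif_neg h, dif_neg (by omega)]

theorem shift_pow_eq_zero {P : ℕ} (hP : ∀ i, b i ≤ P) : (shift (F := F) b) ^ P = 0 := by
  apply LinearMap.ext
  intro v
  funext ij
  rw [shift_pow_apply, dif_neg]
  · rfl
  · have := hP ij.1.1
    omega

theorem ker_shift_pow (k : ℕ) :
    LinearMap.ker ((shift (F := F) b) ^ k)
      = LinearMap.ker (LinearMap.funLeft F F (Subtype.val : {ij : Idx b // k ≤ ij.1.2} → Idx b)) := by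
  ext v
  rw [LinearMap.mem_ker, LinearMap.mem_ker]
  constructor
  · intro h
    funext x
    obtain ⟨⟨⟨i, j⟩, hj⟩, hk⟩ := x
    have hk' : k ≤ j := hk
    have h1 := congrFun h ⟨(i, j - k), by show j - k < b i; have : j < b i := hj; omega⟩
    rw [shift_pow_apply] at h1
    have hlt : j - k + k < b i := by have : j < b i := hj; omega
    rw [dif_pos hlt] at h1
    have e : (⟨(i, j - k + k), hlt⟩ : Idx b) = ⟨(i, j), hj⟩ :=
      Subtype.ext (Prod.ext rfl (Nat.sub_add_cancel hk'))
    simp only [Pi.zero_apply] at h1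
    rw [e] at h1
    simp only [LinearMap.funLeft_apply, Pi.zero_apply]
    exact h1
  · intro h
    funext ij
    rw [shift_pow_apply]
    by_cases h' : ij.1.2 + k < b ij.1.1
    · rw [dif_pos h']
      have := congrFun h ⟨⟨(ij.1.1, ij.1.2 + k), h'⟩, by show k ≤ ij.1.2 + k; omega⟩
      simpa using this
    · rw [dif_neg h']
      rfl

theorem finrank_ker_shift_pow (k : ℕ) :
    finrank F ↥(LinearMap.ker ((shift (F := F) b) ^ k)) + ∑ i, (b i - k) = ∑ i, b i := by
  rw [ker_shift_pow]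
  have h := LinearMap.finrank_range_add_finrank_ker
    (LinearMap.funLeft F F (Subtype.val : {ij : Idx b // k ≤ ij.1.2} → Idx b))
  rw [LinearMap.range_eq_top.2 (LinearMap.funLeft_surjective_of_injective F F _
    Subtype.val_injective), finrank_top, Module.finrank_pi, Module.finrank_pi, card_col,
    card_idx] at h
  omega

end Cfsg.Agent.H9Nil
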