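import Mathlib
import Cfsg.Agent.Lib.Helper9.NilType1
import Cfsg.Agent.Lib.Helper9.NilType3

set_option autoImplicit false

/-! Transport of the model to `Fin n → F`, and characteristic `p` identities. -/

namespace Cfsg.Agent.H9Nil

open Module

section Transport

variable {F V V' : Type*} [Field F] [AddCommGroup V] [Module F V] [AddCommGroup V'] [Module F V']

theorem conj_pow (Φ : V ≃ₗ[F] V') (N : V →ₗ[F] V) (k : ℕ) : (Φ.conj N) ^ k = Φ.conj (N ^ k) := by
  induction k with
  | zero =>
    rw [pow_zero, pow_zero]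
    apply LinearMap.ext
    intro x
    simp [LinearEquiv.conj_apply]
  | succ k ih =>
    rw [pow_succ, pow_succ, ih]
    apply LinearMap.ext
    intro x
    simp [LinearEquiv.conj_apply]

theorem ker_conj (Φ : V ≃ₗ[F] V') (N : V →ₗ[F] V) :
    LinearMap.ker (Φ.conj N) = (LinearMap.ker N).map (Φ : V →ₗ[F] V') := by
  ext x
  rw [LinearMap.mem_ker, Submodule.mem_map]
  constructor
  · intro h
    refine ⟨Φ.symm x, ?_, by simp⟩
    rw [LinearMap.mem_ker]
    have : Φ (N (Φ.symm x)) = 0 := by simpa [LinearEquiv.conj_apply] using h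
    simpa using this
  · rintro ⟨y, hy, rfl⟩
    rw [LinearMap.mem_ker] at hy
    simp [LinearEquiv.conj_apply, hy]

theorem finrank_ker_conj_pow (Φ : V ≃ₗ[F] V') (N : V →ₗ[F] V) (k : ℕ) :
    finrank F ↥(LinearMap.ker ((Φ.conj N) ^ k)) = finrank F ↥(LinearMap.ker (N ^ k)) := by
  rw [conj_pow, ker_conj]
  exact LinearEquiv.finrank_map_eq Φ _

end Transport

section Model

variable {F : Type*} [Field F]

theorem count_identity {ι : Type*} [Fintype ι] [DecidableEq ι] (b : ι → ℕ) (k : ℕ) :
    Multiset.count (k + 1) (Finset.univ.val.map b) + 2 * ∑ i, (b i - (k + 1))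
      = ∑ i, (b i - (k + 2)) + ∑ i, (b i - k) := by
  have hc : Multiset.count (k + 1) (Finset.univ.val.map b) = ∑ i, if b i = k + 1 then 1 else 0 := by
    rw [Multiset.count_map]
    have : Multiset.card (Multiset.filter (fun a => k + 1 = b a) Finset.univ.val)
        = (Finset.univ.filter (fun a => k + 1 = b a)).card := rfl
    rw [this, Finset.card_filter]
    apply Finset.sum_congr rfl
    intro i _
    by_cases h : b i = k + 1
    · rw [if_pos h, if_pos h.symm]
    · rw [if_neg h, if_neg (fun h' => h h'.symm)]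
  rw [hc, Finset.mul_sum, ← Finset.sum_add_distrib, ← Finset.sum_add_distrib]
  apply Finset.sum_congr rfl
  intro i _
  split_ifs with h <;> omega

/-- existence of a nilpotent operator on `Fin n → F` with Jordan type `μ` -/
theorem exists_model (n P : ℕ) (μ : Multiset ℕ) (hμ : ∀ c ∈ μ, c ≤ P) (hsum : μ.sum = n) :
    ∃ N : (Fin n → F) →ₗ[F] (Fin n → F), N ^ P = 0 ∧
      ∀ k, Multiset.count (k + 1) μ + kap N ⊤ (k + 2) + kap N ⊤ k = 2 * kap N ⊤ (k + 1) := by
  classical
  set l := μ.toList with hl
  set b : Fin l.length → ℕ := l.get with hb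
  have hμb : μ = Finset.univ.val.map b := by
    rw [Fin.univ_val_map, hb, List.ofFn_get, hl, Multiset.coe_toList]
  have hbP : ∀ i, b i ≤ P := by
    intro i
    apply hμ
    rw [← Multiset.mem_toList]
    exact List.get_mem l i
  have hS : ∑ i, b i = n := by
    rw [← hsum, hμb]
    rfl
  have hcard : Fintype.card (Idx b) = n := by rw [card_idx, hS]
  set e : Idx b ≃ Fin n := Fintype.equivFinOfCardEq hcard with he
  set Φ : (Idx b → F) ≃ₗ[F] (Fin n → F) := (LinearEquiv.funCongrLeft F F e).symm with hΦ
  refine ⟨Φ.conj (shift b), ?_, ?_⟩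
  · rw [conj_pow, shift_pow_eq_zero b hbP]
    simp
  · intro k
    have h0 := finrank_ker_shift_pow (F := F) b k
    have h1 := finrank_ker_shift_pow (F := F) b (k + 1)
    have h2 := finrank_ker_shift_pow (F := F) b (k + 2)
    have hc := count_identity b k
    rw [← hμb] at hc
    rw [kap_top, kap_top, kap_top, finrank_ker_conj_pow, finrank_ker_conj_pow, finrank_ker_conj_pow]
    omega

end Model

section CharP

variable {F V : Type*} [Field F] [AddCommGroup V] [Module F V] (p : ℕ) [Fact p.Prime] [CharP F p]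

theorem one_add_pow_char_poly :
    ((1 : Polynomial F) + Polynomial.X) ^ p = 1 + Polynomial.X ^ p := by
  rw [add_pow_char, one_pow]

theorem X_pow_pred_poly :
    (Polynomial.X : Polynomial F) ^ (p - 1)
      = ∑ i ∈ Finset.range p, ((1 : Polynomial F) + Polynomial.X) ^ i := by
  have hp : p.Prime := Fact.out
  have h1 := geom_sum_mul ((1 : Polynomial F) + Polynomial.X) p
  rw [one_add_pow_char_poly, add_sub_cancel_left, add_sub_cancel_left] at h1
  have h2 : (Polynomial.X : Polynomial F) ^ p = Polynomial.X ^ (p - 1) * Polynomial.X := by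
    rw [← pow_succ, Nat.sub_add_cancel hp.one_le]
  rw [h2] at h1
  exact (mul_right_cancel₀ Polynomial.X_ne_zero h1).symm

theorem one_add_pow_char (N : V →ₗ[F] V) (hN : N ^ p = 0) : (1 + N) ^ p = 1 := by
  have h := congrArg (Polynomial.aeval N) (one_add_pow_char_poly (F := F) p)
  simp only [map_pow, map_add, map_one, Polynomial.aeval_X] at h
  rw [h, hN, add_zero]

theorem pow_pred_eq_sum (N : V →ₗ[F] V) :
    N ^ (p - 1) = ∑ i ∈ Finset.range p, (1 + N) ^ i := by
  have h := congrArg (Polynomial.aeval N) (X_pow_pred_poly (F := F) p)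
  simp only [map_pow, map_add, map_one, Polynomial.aeval_X, map_sum] at h
  exact h

theorem eq_one_of_pow_char {z : F} (hz : z ^ p = 1) : z = 1 := by
  have h : (z - 1) ^ p = 0 := by
    rw [sub_pow_char, hz, one_pow, sub_self]
  have := pow_eq_zero_iff (Nat.Prime.ne_zero Fact.out) |>.1 h
  exact sub_eq_zero.1 this

end CharP

end Cfsg.Agent.H9Nil
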