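import Mathlib
import Cfsg.Agent.Lib.Helper9.NilType1
import Cfsg.Agent.Lib.Helper9.Elus4

set_option autoImplicit false

/-! A nilpotent map has an invariant cyclic subspace with an invariant complement, whence a
decomposition into invariant subspaces of dimension at most the nilpotency index. -/

namespace Cfsg.Agent.H9Nil

open Module
open Cfsg.Agent.H9SemiInv

section key
variable {F V : Type*} [Field F] [AddCommGroup V] [Module F V]

/-- The evaluation map `w ↦ (f (N^k w))_k`. -/
noncomputable def evalMap (N : V →ₗ[F] V) (f : V →ₗ[F] F) (e : ℕ) : V →ₗ[F] (Fin e → F) :=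
  LinearMap.pi (fun k : Fin e => f ∘ₗ (N ^ (k : ℕ)))

theorem evalMap_apply (N : V →ₗ[F] V) (f : V →ₗ[F] F) (e : ℕ) (w : V) (k : Fin e) :
    evalMap N f e w k = f ((N ^ (k : ℕ)) w) := rfl

/-- The combination map `a ↦ ∑ a_k N^k v`. -/
noncomputable def combMap (N : V →ₗ[F] V) (v : V) (e : ℕ) : (Fin e → F) →ₗ[F] V :=
  Fintype.linearCombination F (fun k : Fin e => (N ^ (k : ℕ)) v)

theorem combMap_apply (N : V →ₗ[F] V) (v : V) (e : ℕ) (a : Fin e → F) :
    combMap N v e a = ∑ k : Fin e, a k • (N ^ (k : ℕ)) v := by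
  unfold combMap
  rw [Fintype.linearCombination_apply]

theorem evalMap_combMap (N : V →ₗ[F] V) (f : V →ₗ[F] F) (v : V) (e : ℕ) (a : Fin e → F)
    (k : Fin e) :
    evalMap N f e (combMap N v e a) k = ∑ l : Fin e, a l * f ((N ^ ((k : ℕ) + (l : ℕ))) v) := by
  rw [evalMap_apply, combMap_apply, map_sum, map_sum]
  apply Finset.sum_congr rfl
  intro l _
  rw [map_smul, map_smul, smul_eq_mul, pow_add, Module.End.mul_apply]

theorem combMap_eq_zero_of_eval (N : V →ₗ[F] V) (f : V →ₗ[F] F) (v : V) (e : ℕ)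
    (hNe : N ^ e = 0) (he : 1 ≤ e) (hf : f ((N ^ (e - 1)) v) ≠ 0) (a : Fin e → F)
    (h : evalMap N f e (combMap N v e a) = 0) : a = 0 := by
  have key : ∀ j, ∀ hj : j < e, a ⟨j, hj⟩ = 0 := by
    intro j
    induction j using Nat.strong_induction_on with
    | _ j ih =>
      intro hj
      have h1 := congrFun h ⟨e - 1 - j, by omega⟩
      rw [evalMap_combMap, Pi.zero_apply, Finset.sum_eq_single ⟨j, hj⟩] at h1
      · have h2 : e - 1 - j + j = e - 1 := by omega
        simp only [h2] at h1
        exact (mul_eq_zero.mp h1).resolve_right hf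
      · intro l _ hl
        rcases Nat.lt_or_ge (l : ℕ) j with hlt | hge
        · have : a l = 0 := ih l hlt l.2
          rw [this, zero_mul]
        · have hne : (l : ℕ) ≠ j := fun h => hl (Fin.ext h)
          have hgt : j < (l : ℕ) := by omega
          have h3 : e - 1 - j + (l : ℕ) = e + ((l : ℕ) - j - 1) := by omega
          simp only [h3]
          rw [pow_add, hNe, zero_mul, LinearMap.zero_apply, map_zero, mul_zero]
      · intro h4
        exact absurd (Finset.mem_univ _) h4
  funext k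
  exact key k.1 k.2

variable [FiniteDimensional F V]

theorem exists_cyclic_compl [Nontrivial V] (N : V →ₗ[F] V) (P : ℕ) (hN : N ^ P = 0) :
    ∃ Z C : Submodule F V, IsCompl Z C ∧ Inv N Z ∧ Inv N C ∧ 1 ≤ finrank F Z ∧
      finrank F Z ≤ P := by
  classical
  have hex : ∃ e, N ^ e = 0 := ⟨P, hN⟩
  set e := Nat.find hex with he_def
  have hNe : N ^ e = 0 := Nat.find_spec hex
  have heP : e ≤ P := Nat.find_min' hex hN
  have he1 : 1 ≤ e := by
    by_contra h0
    have h0' : e = 0 := by omega
    rw [h0', pow_zero] at hNe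
    exact one_ne_zero hNe
  have hne : N ^ (e - 1) ≠ 0 := Nat.find_min hex (by omega)
  obtain ⟨v, hv⟩ : ∃ v, (N ^ (e - 1)) v ≠ 0 := by
    by_contra hcon
    push Not at hcon
    exact hne (LinearMap.ext hcon)
  obtain ⟨f, hf⟩ : ∃ f : V →ₗ[F] F, f ((N ^ (e - 1)) v) ≠ 0 := by
    by_contra hcon
    push Not at hcon
    exact hv ((Module.forall_dual_apply_eq_zero_iff F _).mp hcon)
  set Φ := evalMap N f e with hΦ
  set Ψ := combMap N v e with hΨ
  have hkey : ∀ a, Φ (Ψ a) = 0 → a = 0 := fun a h =>
    combMap_eq_zero_of_eval N f v e hNe he1 hf a h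
  have hΨinj : Function.Injective Ψ := by
    rw [← LinearMap.ker_eq_bot, LinearMap.ker_eq_bot']
    intro a ha
    exact hkey a (by rw [ha, map_zero])
  have hZdim : finrank F (LinearMap.range Ψ) = e := by
    rw [LinearMap.finrank_range_of_inj hΨinj, Module.finrank_fin_fun]
  have hdisj : Disjoint (LinearMap.range Ψ) (LinearMap.ker Φ) := by
    rw [Submodule.disjoint_def]
    rintro _ ⟨a, rfl⟩ hx
    rw [hkey a (LinearMap.mem_ker.mp hx), map_zero]
  have hCdim : finrank F V ≤ e + finrank F (LinearMap.ker Φ) := by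
    have h1 := LinearMap.finrank_range_add_finrank_ker Φ
    have h2 : finrank F (LinearMap.range Φ) ≤ finrank F (Fin e → F) := Submodule.finrank_le _
    rw [Module.finrank_fin_fun] at h2
    omega
  have htop : LinearMap.range Ψ ⊔ LinearMap.ker Φ = ⊤ := by
    apply Submodule.eq_top_of_finrank_eq
    have h1 := finrank_sup_of_disjoint hdisj
    have h2 : finrank F ↥(LinearMap.range Ψ ⊔ LinearMap.ker Φ) ≤ finrank F V :=
      Submodule.finrank_le _
    omega
  refine ⟨LinearMap.range Ψ, LinearMap.ker Φ, ⟨hdisj, codisjoint_iff.mpr htop⟩, ?_, ?_,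
    by omega, by omega⟩
  · -- the cyclic subspace is invariant
    rw [inv_iff]
    have hr : LinearMap.range Ψ = Submodule.span F (Set.range fun k : Fin e => (N ^ (k : ℕ)) v) := by
      rw [hΨ]
      unfold combMap
      exact Fintype.range_linearCombination F _
    rw [hr, Submodule.map_span_le]
    rintro _ ⟨k, rfl⟩
    by_cases hk : (k : ℕ) + 1 < e
    · apply Submodule.subset_span
      refine ⟨⟨(k : ℕ) + 1, hk⟩, ?_⟩
      show (N ^ ((k : ℕ) + 1)) v = N ((N ^ (k : ℕ)) v)
      rw [pow_succ', Module.End.mul_apply]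
    · have hk' : (k : ℕ) + 1 = e := by have := k.2; omega
      have : N ((N ^ (k : ℕ)) v) = 0 := by
        rw [← Module.End.mul_apply, ← pow_succ', hk', hNe, LinearMap.zero_apply]
      rw [this]
      exact Submodule.zero_mem _
  · intro w hw
    rw [LinearMap.mem_ker] at hw ⊢
    funext k
    rw [hΦ, evalMap_apply, Pi.zero_apply, ← Module.End.mul_apply, ← pow_succ]
    by_cases hk : (k : ℕ) + 1 < e
    · have := congrFun hw ⟨(k : ℕ) + 1, hk⟩
      rw [hΦ, evalMap_apply, Pi.zero_apply] at this
      exact this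
    · have hk' : (k : ℕ) + 1 = e := by have := k.2; omega
      rw [hk', hNe, LinearMap.zero_apply, map_zero]

end key

section decomp
universe u v
variable {F : Type v} [Field F]

theorem isCompl_sup_left {V : Type u} [AddCommGroup V] [Module F V] {Z C A B : Submodule F V}
    (hZC : IsCompl Z C) (hAB : A ⊔ B = C) (hd : Disjoint A B) : IsCompl (Z ⊔ A) B := by
  have hA : A ≤ C := hAB ▸ le_sup_left
  have hB : B ≤ C := hAB ▸ le_sup_right
  constructor
  · rw [Submodule.disjoint_def]
    intro x hx hxB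
    obtain ⟨z, hz, a, ha, rfl⟩ := Submodule.mem_sup.mp hx
    have hzC : z ∈ C := by
      have : z = (z + a) - a := by abel
      rw [this]
      exact C.sub_mem (hB hxB) (hA ha)
    have hz0 : z = 0 := (Submodule.disjoint_def.mp hZC.disjoint) z hz hzC
    rw [hz0, zero_add] at hxB ⊢
    exact (Submodule.disjoint_def.mp hd) a ha hxB
  · rw [codisjoint_iff, sup_assoc, hAB]
    exact hZC.sup_eq_top

theorem inv_restrict_map' {V : Type u} [AddCommGroup V] [Module F V] (z : V →ₗ[F] V)
    (C : Submodule F V) (hC : ∀ x ∈ C, z x ∈ C)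
    (W' : Submodule F C) (hW' : Inv (z.restrict hC) W') : Inv z (W'.map C.subtype) := by
  rintro _ ⟨w, hw, rfl⟩
  exact ⟨z.restrict hC w, hW' w hw, rfl⟩

theorem pow_restrict_eq_zero {V : Type u} [AddCommGroup V] [Module F V] (N : V →ₗ[F] V) (P : ℕ)
    (hN : N ^ P = 0) (C : Submodule F V) (hC : ∀ x ∈ C, N x ∈ C) : (N.restrict hC) ^ P = 0 := by
  rw [Module.End.pow_restrict P hC]
  apply LinearMap.ext
  intro w
  apply Subtype.ext
  rw [LinearMap.restrict_coe_apply, hN]
  rfl

theorem exists_partition_compl_aux (P : ℕ) :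
    ∀ (k : ℕ) (V : Type u) [AddCommGroup V] [Module F V] [FiniteDimensional F V]
      (N : V →ₗ[F] V), N ^ P = 0 → finrank F V = k →
      ∃ μ : Multiset ℕ, (∀ a ∈ μ, 0 < a ∧ a ≤ P) ∧ μ.sum = k ∧
        ∀ ν : Multiset ℕ, ν ≤ μ → ∃ U W : Submodule F V, IsCompl U W ∧ Inv N U ∧ Inv N W ∧
          finrank F U = ν.sum := by
  intro k
  induction k using Nat.strong_induction_on with
  | _ k ih =>
    intro V _ _ _ N hN hk
    by_cases h0 : k = 0
    · subst h0
      refine ⟨0, by simp, by simp, ?_⟩
      intro ν hν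
      have : ν = 0 := by simpa using hν
      subst this
      exact ⟨⊥, ⊤, isCompl_bot_top, fun x hx => by rw [Submodule.mem_bot] at hx; rw [hx, map_zero]; exact Submodule.zero_mem _,
        fun x _ => Submodule.mem_top, by simp⟩
    · have hpos : 0 < finrank F V := by omega
      haveI : Nontrivial V := Module.finrank_pos_iff.mp hpos
      obtain ⟨Z, C, hZC, hZ, hC, hZ1, hZP⟩ := exists_cyclic_compl N P hN
      have hfr := Submodule.finrank_add_eq_of_isCompl hZC
      have hCk : finrank F C = k - finrank F Z := by omega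
      obtain ⟨μ₁, hμ₁, hsum₁, hsub₁⟩ := ih (k - finrank F Z) (by omega) C (N.restrict hC)
        (pow_restrict_eq_zero N P hN C hC) hCk
      refine ⟨finrank F Z ::ₘ μ₁, ?_, ?_, ?_⟩
      · intro a ha
        rcases Multiset.mem_cons.mp ha with rfl | ha
        · exact ⟨hZ1, hZP⟩
        · exact hμ₁ a ha
      · rw [Multiset.sum_cons, hsum₁]
        omega
      · intro ν hν
        have hν₁ : ν.erase (finrank F Z) ≤ μ₁ := Multiset.erase_le_iff_le_cons.mpr hν
        obtain ⟨U₁, W₁, hUW₁, hU₁, hW₁, hU₁d⟩ := hsub₁ _ hν₁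
        have hU₁' : Inv N (U₁.map C.subtype) := inv_restrict_map' N C hC U₁ hU₁
        have hW₁' : Inv N (W₁.map C.subtype) := inv_restrict_map' N C hC W₁ hW₁
        have hsup : U₁.map C.subtype ⊔ W₁.map C.subtype = C := by
          rw [← Submodule.map_sup, hUW₁.sup_eq_top, Submodule.map_top, Submodule.range_subtype]
        have hdis : Disjoint (U₁.map C.subtype) (W₁.map C.subtype) := by
          rw [disjoint_iff, ← Submodule.map_inf _ C.injective_subtype, hUW₁.inf_eq_bot,
            Submodule.map_bot]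
        have hUd : finrank F ↥(U₁.map C.subtype) = (ν.erase (finrank F Z)).sum := by
          rw [← hU₁d]
          exact (Submodule.equivSubtypeMap C U₁).symm.finrank_eq
        by_cases hmem : finrank F Z ∈ ν
        · refine ⟨Z ⊔ U₁.map C.subtype, W₁.map C.subtype, isCompl_sup_left hZC hsup hdis,
            hZ.sup hU₁', hW₁', ?_⟩
          have hd2 : Disjoint Z (U₁.map C.subtype) :=
            hZC.disjoint.mono_right (Submodule.map_subtype_le C U₁)
          rw [finrank_sup_of_disjoint hd2, hUd, Multiset.sum_erase hmem]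
        · refine ⟨U₁.map C.subtype, Z ⊔ W₁.map C.subtype,
            (isCompl_sup_left hZC (by rw [sup_comm]; exact hsup) hdis.symm).symm,
            hU₁', hZ.sup hW₁', ?_⟩
          rw [hUd, Multiset.erase_of_notMem hmem]

/-- If every partition of `dim V` into parts `≤ P` has a sub-partition of `m`, then a map with
`N ^ P = 0` has complementary invariant subspaces of dimensions `m` and `dim V - m`. -/
theorem exists_compl_of_partition_property {V : Type u} [AddCommGroup V] [Module F V]
    [FiniteDimensional F V] (N : V →ₗ[F] V) (P : ℕ) (hN : N ^ P = 0) (m : ℕ)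
    (hP : ∀ μ : Multiset ℕ, (∀ a ∈ μ, 0 < a ∧ a ≤ P) → μ.sum = finrank F V →
      ∃ ν : Multiset ℕ, ν ≤ μ ∧ ν.sum = m) :
    ∃ U W : Submodule F V, IsCompl U W ∧ Inv N U ∧ Inv N W ∧ finrank F U = m := by
  obtain ⟨μ, hμ, hsum, hsub⟩ := exists_partition_compl_aux (F := F) P _ V N hN rfl
  obtain ⟨ν, hν, hνm⟩ := hP μ hμ hsum
  obtain ⟨U, W, h1, h2, h3, h4⟩ := hsub ν hν
  exact ⟨U, W, h1, h2, h3, by rw [h4, hνm]⟩

end decomp

end Cfsg.Agent.H9Nil
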