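import Mathlib
import Cfsg.Agent.Lib.Helper9.NilType2
import Cfsg.Agent.Lib.Helper9.NilType4
import Cfsg.Agent.Lib.Helper9.NilType5

set_option autoImplicit false

/-! Unipotent elements of `SL_n` with a prescribed Jordan type, and invariant decompositions. -/

namespace Cfsg.Agent.H9Nil

open Module
open Cfsg.Agent.H9SemiInv

section model
variable {F : Type*} [Field F] {p : ℕ} [Fact p.Prime] [CharP F p]

theorem unipotent_model (n : ℕ) (hn : 1 ≤ n) (μ : Multiset ℕ) (hμ : ∀ b ∈ μ, 0 < b ∧ b ≤ p)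
    (hsum : μ.sum = n) (hall : ∃ c ∈ μ, c ≠ 1) :
    ∃ x : Matrix.SpecialLinearGroup (Fin n) F,
      ((x ^ p : Matrix.SpecialLinearGroup (Fin n) F) : Matrix (Fin n) (Fin n) F) = 1 ∧
      (∀ z : F, (x : Matrix (Fin n) (Fin n) F) ≠ z • (1 : Matrix (Fin n) (Fin n) F)) ∧
      ∀ U W : Submodule F (Fin n → F), IsCompl U W →
        U.map (Matrix.toLin' (x : Matrix (Fin n) (Fin n) F)) ≤ U →
        W.map (Matrix.toLin' (x : Matrix (Fin n) (Fin n) F)) ≤ W →
        ∃ ν : Multiset ℕ, ν ≤ μ ∧ ν.sum = finrank F U := by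
  classical
  have hp' : p.Prime := Fact.out
  obtain ⟨c₀, hc₀, hc₀1⟩ := hall
  obtain ⟨N, hNp, hcnt⟩ := exists_model (F := F) n p μ (fun c hc => (hμ c hc).2) hsum
  have hkn : ∀ k, p ≤ k → kap N ⊤ k = n := by
    intro k hk
    rw [kap_of_pow_eq_zero N ⊤ hNp hk, finrank_top, Module.finrank_fin_fun]
  set X : (Fin n → F) →ₗ[F] (Fin n → F) := 1 + N with hX
  have hXp : X ^ p = 1 := one_add_pow_char p N hNp
  have hNX : ∀ w, N w = X w - w := by
    intro w
    rw [hX, LinearMap.add_apply, Module.End.one_apply, add_sub_cancel_left]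
  set M : Matrix (Fin n) (Fin n) F := LinearMap.toMatrixAlgEquiv' X with hM
  have hMX : Matrix.toLin' M = X := by
    rw [hM]
    exact Matrix.toLin'_toMatrix' X
  have hMp : M ^ p = 1 := by
    rw [hM, ← map_pow, hXp, map_one]
  have hdet : M.det = 1 := by
    apply eq_one_of_pow_char p
    rw [← Matrix.det_pow, hMp, Matrix.det_one]
  set x : Matrix.SpecialLinearGroup (Fin n) F := ⟨M, hdet⟩ with hx
  have hx1 : ∃ z : F, ((x ^ p : Matrix.SpecialLinearGroup (Fin n) F) : Matrix (Fin n) (Fin n) F)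
      = z • (1 : Matrix (Fin n) (Fin n) F) := by
    refine ⟨1, ?_⟩
    rw [Matrix.SpecialLinearGroup.coe_pow, one_smul]
    exact hMp
  have hx2 : ∀ z : F, (x : Matrix (Fin n) (Fin n) F) ≠ z • (1 : Matrix (Fin n) (Fin n) F) := by
    intro z hz
    have hz' : M = z • (1 : Matrix (Fin n) (Fin n) F) := hz
    have hXz : ∀ w, X w = z • w := by
      intro w
      rw [← hMX, hz']
      simp
    have hNz : ∀ w, N w = (z - 1) • w := by
      intro w
      rw [hNX, hXz, sub_smul, one_smul]
    have hNpz : ∀ (k : ℕ) (w : Fin n → F), (N ^ k) w = (z - 1) ^ k • w := by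
      intro k
      induction k with
      | zero => intro w; simp
      | succ k ih =>
        intro w
        rw [pow_succ, Module.End.mul_apply, hNz, map_smul, ih, smul_smul, pow_succ, mul_comm]
    set w₀ : Fin n → F := Pi.single ⟨0, by omega⟩ 1 with hw₀
    have hw₀0 : w₀ ≠ 0 := by
      intro h0
      have := congrFun h0 ⟨0, by omega⟩
      simp [hw₀] at this
    have h1 := hNpz p w₀
    rw [hNp, LinearMap.zero_apply] at h1
    have h2 : (z - 1) ^ p = 0 := (smul_eq_zero.1 h1.symm).resolve_right hw₀0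
    have h3 : z - 1 = 0 := (pow_eq_zero_iff hp'.ne_zero).1 h2
    have hN0 : N ^ 1 = 0 := by
      apply LinearMap.ext
      intro w
      rw [pow_one, hNz, h3, zero_smul, LinearMap.zero_apply]
    have hk1 : ∀ k, 1 ≤ k → kap N ⊤ k = n := by
      intro k hk
      rw [kap_of_pow_eq_zero N ⊤ hN0 hk, finrank_top, Module.finrank_fin_fun]
    have hc₀2 : 2 ≤ c₀ := by
      have := (hμ c₀ hc₀).1
      omega
    obtain ⟨k, rfl⟩ : ∃ k, c₀ = k + 2 := ⟨c₀ - 2, by omega⟩
    have h4 := hcnt (k + 1)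
    rw [hk1 (k + 1 + 2) (by omega), hk1 (k + 1) (by omega), hk1 (k + 1 + 1) (by omega)] at h4
    have h5 : 0 < Multiset.count (k + 1 + 1) μ := Multiset.count_pos.2 hc₀
    omega
  refine ⟨x, ?_, hx2, ?_⟩
  · rw [Matrix.SpecialLinearGroup.coe_pow]
    exact hMp
  · intro U W hUW hU hW
    have hinv : ∀ A : Submodule F (Fin n → F),
        A.map (Matrix.toLin' (x : Matrix (Fin n) (Fin n) F)) ≤ A → Inv N A := by
      intro A hA w hw
      rw [hNX]
      apply Submodule.sub_mem _ _ hw
      have : Matrix.toLin' M w ∈ A := hA (Submodule.mem_map_of_mem hw)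
      rwa [hMX] at this
    have hUi := hinv U hU
    have hWi := hinv W hW
    exact exists_subpartition (kap N U) (kap N W) (kap N ⊤) μ (finrank F U) p
      (kap_add N U W hUi hWi hUW.disjoint hUW.sup_eq_top)
      (kap_zero N _) (kap_mono N _)
      (kap_concave N _ hUi) (kap_concave N _ hWi)
      (fun k hk => kap_of_pow_eq_zero N _ hNp hk) hcnt

end model

end Cfsg.Agent.H9Nil
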