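import Mathlib
import Cfsg.Agent.Lib.Helper9.NilType6

set_option autoImplicit false

/-! Elements of order `p` in characteristic `p`: invariant decompositions from partitions. -/

namespace Cfsg.Agent.H9Nil

open Module
open Cfsg.Agent.H9SemiInv

section charp
variable {F V : Type*} [Field F] [AddCommGroup V] [Module F V] (p : ℕ) [Fact p.Prime] [CharP F p]

theorem sub_one_pow_char_poly :
    ((Polynomial.X : Polynomial F) - 1) ^ p = Polynomial.X ^ p - 1 := by
  rw [sub_pow_char, one_pow]

theorem sub_one_pow_char (y : V →ₗ[F] V) (hy : y ^ p = 1) : (y - 1) ^ p = 0 := by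
  have h := congrArg (Polynomial.aeval y) (sub_one_pow_char_poly (F := F) p)
  simp only [map_pow, map_sub, map_one, Polynomial.aeval_X] at h
  rw [h, hy, sub_self]

variable [FiniteDimensional F V]

theorem exists_compl_of_pow_char_eq_one (y : V →ₗ[F] V) (hy : y ^ p = 1) (m : ℕ)
    (hP : ∀ μ : Multiset ℕ, (∀ a ∈ μ, 0 < a ∧ a ≤ p) → μ.sum = finrank F V →
      ∃ ν : Multiset ℕ, ν ≤ μ ∧ ν.sum = m) :
    ∃ U W : Submodule F V, IsCompl U W ∧ Inv y U ∧ Inv y W ∧ finrank F U = m := by
  obtain ⟨U, W, h1, h2, h3, h4⟩ :=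
    exists_compl_of_partition_property (y - 1) p (sub_one_pow_char p y hy) m hP
  have key : ∀ A : Submodule F V, Inv (y - 1) A → Inv y A := by
    intro A hA w hw
    have := A.add_mem (hA w hw) hw
    rwa [LinearMap.sub_apply, Module.End.one_apply, sub_add_cancel] at this
  exact ⟨U, W, h1, key U h2, key W h3, h4⟩

end charp

section two

/-- Partitions into parts `1` and `2`. -/
theorem partition_property_two (n m : ℕ) (hmn : m ≤ n) (h : Odd n ∨ Even m) (μ : Multiset ℕ)
    (hμ : ∀ a ∈ μ, 0 < a ∧ a ≤ 2) (hsum : μ.sum = n) :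
    ∃ ν : Multiset ℕ, ν ≤ μ ∧ ν.sum = m := by
  have hsub : μ.toFinset ⊆ ({1, 2} : Finset ℕ) := by
    intro a ha
    have := hμ a (Multiset.mem_toFinset.mp ha)
    simp only [Finset.mem_insert, Finset.mem_singleton]
    omega
  have hs := Finset.sum_multiset_count_of_subset μ _ hsub
  rw [hsum, Finset.sum_pair (by norm_num)] at hs
  simp only [smul_eq_mul, mul_one] at hs
  set l := Multiset.count 1 μ with hl
  set k := Multiset.count 2 μ with hk
  -- choose the numbers of twos and ones
  have hex : ∃ a b, a ≤ k ∧ b ≤ l ∧ 2 * a + b = m := by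
    by_cases hcase : m / 2 ≤ k
    · refine ⟨m / 2, m % 2, hcase, ?_, by omega⟩
      rcases Nat.mod_two_eq_zero_or_one m with h0 | h1
      · omega
      · rcases h with hn | hm
        · obtain ⟨t, ht⟩ := hn
          omega
        · obtain ⟨t, ht⟩ := hm
          omega
    · exact ⟨k, m - 2 * k, le_rfl, by omega, by omega⟩
  obtain ⟨a, b, hak, hbl, hab⟩ := hex
  refine ⟨Multiset.replicate a 2 + Multiset.replicate b 1, ?_, ?_⟩
  · rw [Multiset.le_iff_count]
    intro x
    rw [Multiset.count_add, Multiset.count_replicate, Multiset.count_replicate]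
    by_cases h2 : x = 2
    · subst h2
      simp only [if_true, show ¬ ((1 : ℕ) = 2) by norm_num, if_false, add_zero]
      exact hak
    · by_cases h1 : x = 1
      · subst h1
        simp only [show ¬ ((2 : ℕ) = 1) by norm_num, if_false, if_true, zero_add]
        exact hbl
      · rw [if_neg (fun h => h2 h.symm), if_neg (fun h => h1 h.symm)]
        exact Nat.zero_le _
  · rw [Multiset.sum_add, Multiset.sum_replicate, Multiset.sum_replicate]
    simp only [smul_eq_mul, mul_one]
    omega

theorem even_sum_of_le_replicate_two (ν : Multiset ℕ) (j : ℕ)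
    (h : ν ≤ Multiset.replicate j 2) : Even ν.sum := by
  obtain ⟨k, -, rfl⟩ := Multiset.le_replicate_iff.mp h
  rw [Multiset.sum_replicate, smul_eq_mul]
  exact ⟨k, by ring⟩

end two

end Cfsg.Agent.H9Nil
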