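import Mathlib
import Cfsg.Agent.Lib.Helper9.Elus8
import Cfsg.Agent.Lib.Helper9.Elus13
import Cfsg.Agent.Lib.Helper9.NilType7

set_option autoImplicit false

/-! Glue lemmas for complementary pairs. -/

namespace Cfsg.Agent.Lib.Helper9.H9Elus

open Module Polynomial
open Cfsg.Agent.H9SemiInv

section
variable {F V : Type*} [Field F] [Fintype F] {p : ℕ} [Fact p.Prime] [CharP F p]
  [AddCommGroup V] [Module F V] [FiniteDimensional F V]

theorem isSemisimple_of_pow_eq_smul_of_ne (r : ℕ) [Fact r.Prime] (hrp : r ≠ p) (c : F)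
    (hc : c ≠ 0) (z : V →ₗ[F] V) (hz : z ^ r = c • 1) : Module.End.IsSemisimple z := by
  have hsep : (X ^ r - C c : F[X]).Separable :=
    separable_X_pow_sub_C c (cast_ne_zero_of_ne (F := F) r hrp) hc
  exact Module.End.isSemisimple_of_squarefree_aeval_eq_zero hsep.squarefree
    (aeval_X_pow_sub_C_eq_zero r c z hz)

theorem exists_inv_compl (z : V →ₗ[F] V) (hss : Module.End.IsSemisimple z) (U : Submodule F V)
    (hU : Inv z U) : ∃ W : Submodule F V, IsCompl U W ∧ Inv z W := by
  obtain ⟨W, hW, hc⟩ := (Module.End.isSemisimple_iff.mp hss) U ((inv_iff_mem z U).mp hU)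
  exact ⟨W, hc, (inv_iff_mem z W).mpr hW⟩

end

end Cfsg.Agent.Lib.Helper9.H9Elus
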