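import Mathlib
import Cfsg.Prelude.Def_ClassicalGeometry
import Cfsg.Agent.Lib.Helper2.SpIsom
import Cfsg.Agent.Lib.Helper1.NDSp0
import Cfsg.Agent.Lib.Helper1.SpBlk1
import Cfsg.Agent.Lib.Helper9.GSpInv0
import Cfsg.Agent.Lib.Helper2.OddSp1

set_option autoImplicit false

/-! S5956 PK-CH2: involutions in characteristic two and invariant nondegenerate subspaces. -/

namespace Cfsg.Agent.Lib.Helper1.NDSp

open Module Cfsg.Agent.Lib.Helper2.SpIsom Cfsg.Agent.H9SemiInv Cfsg.Agent.Lib.Helper1.SpBlk

section ch2

section general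
variable {F : Type*} [Field F] {V : Type*} [AddCommGroup V] [Module F V] [FiniteDimensional F V]
  {B : LinearMap.BilinForm F V}

/-- a pair with nonzero product spans a nondegenerate plane -/
theorem ch2_plane (hB : B.IsAlt) (u v : V) (huv : B u v ≠ 0) :
    Nd B (Submodule.span F {u, v}) ∧ finrank F (Submodule.span F {u, v}) = 2 := by
  have hvu : B v u ≠ 0 := by
    rw [alt_swap hB]; exact neg_ne_zero.2 huv
  constructor
  · intro w hw hw'
    obtain ⟨a, b, rfl⟩ := Submodule.mem_span_pair.1 hw
    have h1 := hw' u (Submodule.subset_span (by simp))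
    have h2 := hw' v (Submodule.subset_span (by simp))
    rw [map_add, LinearMap.add_apply, map_smul, map_smul, LinearMap.smul_apply,
      LinearMap.smul_apply, hB u, smul_zero, zero_add, smul_eq_mul] at h1
    rw [map_add, LinearMap.add_apply, map_smul, map_smul, LinearMap.smul_apply,
      LinearMap.smul_apply, hB v, smul_zero, add_zero, smul_eq_mul] at h2
    have hb : b = 0 := (mul_eq_zero.1 h1).resolve_right hvu
    have ha : a = 0 := (mul_eq_zero.1 h2).resolve_right huv
    rw [ha, hb, zero_smul, zero_smul, add_zero]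
  · have hli : LinearIndependent F ![u, v] := by
      rw [LinearIndependent.pair_iff]
      intro s t hst
      have h1 := congrArg (fun w => B w u) hst
      have h2 := congrArg (fun w => B w v) hst
      simp only [map_add, LinearMap.add_apply, map_smul, LinearMap.smul_apply, hB u, hB v,
        mul_zero, zero_add, add_zero, smul_eq_mul, map_zero, LinearMap.zero_apply] at h1 h2
      exact ⟨(mul_eq_zero.1 h2).resolve_right huv, (mul_eq_zero.1 h1).resolve_right hvu⟩
    have h3 := finrank_span_eq_card hli
    rw [Fintype.card_fin] at h3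
    have h4 : Set.range ![u, v] = {u, v} := by
      ext x
      simp only [Set.mem_range, Set.mem_insert_iff, Set.mem_singleton_iff]
      constructor
      · rintro ⟨i, rfl⟩
        fin_cases i
        · left; rfl
        · right; rfl
      · rintro (rfl | rfl)
        · exact ⟨0, rfl⟩
        · exact ⟨1, rfl⟩
    rw [h4] at h3
    exact h3

omit [FiniteDimensional F V] in
/-- `N = T - 1` is self-adjoint for an involutive isometry `T` -/
theorem ch2_adj (T : V →ₗ[F] V) (hT : ∀ u v, B (T u) (T v) = B u v) (hTT : ∀ v, T (T v) = v)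
    (u v : V) : B (T u - u) v = B u (T v - v) := by
  have h1 : B (T u) v = B u (T v) := by
    have := hT (T u) v
    rw [hTT] at this
    exact this.symm
  rw [map_sub, map_sub, LinearMap.sub_apply, h1]

/-- invariant nondegenerate blocks of dimension `2` or `4` -/
theorem ch2_exists_block (h2 : (2 : F) = 0) (hB : B.IsAlt) (T : V →ₗ[F] V)
    (hT : ∀ u v, B (T u) (T v) = B u v) (hTT : ∀ v, T (T v) = v) {M : Submodule F V}
    (hMinv : Inv T M) (hM : Nd B M) (hne : M ≠ ⊥) :
    ∃ D : Submodule F V, D ≤ M ∧ Inv T D ∧ Nd B D ∧ (finrank F D = 2 ∨ finrank F D = 4) := by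
  have hvv : ∀ v : V, v + v = 0 := by
    intro v
    rw [← two_smul F v, h2, zero_smul]
  have hNN : ∀ v, T (T v - v) - (T v - v) = 0 := by
    intro v
    rw [map_sub, hTT]
    have := hvv (v - T v)
    rw [← this]
    abel
  have hTN : ∀ v, T (T v - v) = T v - v := fun v => sub_eq_zero.1 (hNN v)
  have hNM : ∀ v ∈ M, T v - v ∈ M := fun v hv => Submodule.sub_mem _ (hMinv v hv) hv
  have hadj := ch2_adj T hT hTT
  by_cases hA : ∃ v ∈ M, B v (T v - v) ≠ 0
  · -- a plane `⟨v, N v⟩`
    obtain ⟨v, hvM, hv⟩ := hA
    obtain ⟨hnd, hfr⟩ := ch2_plane hB v (T v - v) hv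
    refine ⟨Submodule.span F {v, T v - v}, ?_, ?_, hnd, Or.inl hfr⟩
    · rw [Submodule.span_le]
      intro x hx
      rcases hx with rfl | hx
      · exact hvM
      · rw [Set.mem_singleton_iff.1 hx]; exact hNM v hvM
    · rw [inv_iff, Submodule.map_span_le]
      intro x hx
      rcases hx with rfl | hx
      · have : T x = x + (T x - x) := by abel
        rw [this]
        exact Submodule.add_mem _ (Submodule.subset_span (by simp))
          (Submodule.subset_span (by simp))
      · rw [Set.mem_singleton_iff.1 hx, hTN]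
        exact Submodule.subset_span (by simp)
  · push Not at hA
    by_cases hB1 : ∀ v ∈ M, T v - v = 0
    · -- `T` is trivial on `M`
      obtain ⟨P, hPM, hPnd, hPfr⟩ := hM.exists_plane hB hne
      refine ⟨P, hPM, ?_, hPnd, Or.inl hPfr⟩
      intro x hx
      have := hB1 x (hPM hx)
      rw [sub_eq_zero] at this
      rw [this]
      exact hx
    · push Not at hB1
      obtain ⟨u, huM, hNu⟩ := hB1
      have hex : ∃ w ∈ M, B (T u - u) w ≠ 0 := by
        by_contra hcon
        push Not at hcon
        exact hNu (hM _ (hNM u huM) hcon)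
      obtain ⟨w, hwM, ha⟩ := hex
      set a := B (T u - u) w with ha_def
      set b := B u w with hb_def
      set c := -b / a with hc_def
      set w' := w + c • (T w - w) with hw'_def
      have hw'M : w' ∈ M := Submodule.add_mem _ hwM (Submodule.smul_mem _ _ (hNM w hwM))
      have hNw' : T w' - w' = T w - w := by
        rw [hw'_def, map_add, map_smul, hTN]
        abel
      have huNw : B u (T w - w) = a := by rw [← hadj]
      have hNuNw : B (T u - u) (T w - w) = 0 := by
        rw [hadj, hTN, sub_self, map_zero]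
      have huw' : B u w' = 0 := by
        rw [hw'_def, map_add, map_smul, huNw, smul_eq_mul, hc_def, div_mul_cancel₀ _ ha]
        ring
      have hw'Nu : B w' (T u - u) = -a := by
        rw [hw'_def, map_add, LinearMap.add_apply, map_smul, LinearMap.smul_apply,
          alt_swap hB (T w - w) (T u - u), hNuNw, neg_zero, smul_zero, add_zero,
          alt_swap hB w (T u - u)]
      obtain ⟨hnd1, hfr1⟩ := ch2_plane hB u (T w - w) (by rw [huNw]; exact ha)
      obtain ⟨hnd2, hfr2⟩ := ch2_plane hB w' (T u - u)
        (by rw [hw'Nu]; exact neg_ne_zero.2 ha)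
      have horth : Submodule.span F {w', T u - u} ≤
          B.orthogonal (Submodule.span F {u, T w - w}) := by
        rw [Submodule.span_le]
        intro x hx y hy
        show B y x = 0
        obtain ⟨α, β, rfl⟩ := Submodule.mem_span_pair.1 hy
        rw [map_add, LinearMap.add_apply, map_smul, map_smul, LinearMap.smul_apply,
          LinearMap.smul_apply]
        rcases hx with rfl | hx
        · have h3 : B (T w - w) w' = 0 := by
            rw [alt_swap hB, hw'_def, map_add, LinearMap.add_apply, map_smul,
              LinearMap.smul_apply, hA w hwM, hB (T w - w), smul_zero, add_zero, neg_zero]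
          rw [huw', h3, smul_zero, smul_zero, add_zero]
        · rw [Set.mem_singleton_iff.1 hx, hA u huM, alt_swap hB (T w - w) (T u - u), hNuNw,
            neg_zero, smul_zero, smul_zero, add_zero]
      have hdisj : Disjoint (Submodule.span F {u, T w - w}) (Submodule.span F {w', T u - u}) :=
        (hnd1.disjoint hB).mono_right horth
      refine ⟨Submodule.span F {u, T w - w} ⊔ Submodule.span F {w', T u - u}, ?_, ?_,
        hnd1.sup hB hnd2 horth, Or.inr ?_⟩
      · apply sup_le
        · rw [Submodule.span_le]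
          intro x hx
          rcases hx with rfl | hx
          · exact huM
          · rw [Set.mem_singleton_iff.1 hx]; exact hNM w hwM
        · rw [Submodule.span_le]
          intro x hx
          rcases hx with rfl | hx
          · exact hw'M
          · rw [Set.mem_singleton_iff.1 hx]; exact hNM u huM
      · -- invariance
        have key : ∀ x ∈ ({u, T w - w, w', T u - u} : Set V),
            T x ∈ Submodule.span F {u, T w - w} ⊔ Submodule.span F {w', T u - u} := by
          intro x hx
          simp only [Set.mem_insert_iff, Set.mem_singleton_iff] at hx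
          rcases hx with rfl | rfl | rfl | rfl
          · have : T x = x + (T x - x) := by abel
            rw [this]
            exact Submodule.add_mem _
              (Submodule.mem_sup_left (Submodule.subset_span (by simp)))
              (Submodule.mem_sup_right (Submodule.subset_span (by simp)))
          · rw [hTN]
            exact Submodule.mem_sup_left (Submodule.subset_span (by simp))
          · have : T w' = w' + (T w - w) := by rw [← hNw']; abel
            rw [this]
            exact Submodule.add_mem _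
              (Submodule.mem_sup_right (Submodule.subset_span (by simp)))
              (Submodule.mem_sup_left (Submodule.subset_span (by simp)))
          · rw [hTN]
            exact Submodule.mem_sup_right (Submodule.subset_span (by simp))
        intro x hx
        obtain ⟨x₁, hx₁, x₂, hx₂, rfl⟩ := Submodule.mem_sup.1 hx
        obtain ⟨α, β, rfl⟩ := Submodule.mem_span_pair.1 hx₁
        obtain ⟨γ, δ, rfl⟩ := Submodule.mem_span_pair.1 hx₂
        simp only [map_add, map_smul]
        exact Submodule.add_mem _
          (Submodule.add_mem _ (Submodule.smul_mem _ _ (key _ (by simp)))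
            (Submodule.smul_mem _ _ (key _ (by simp))))
          (Submodule.add_mem _ (Submodule.smul_mem _ _ (key _ (by simp)))
            (Submodule.smul_mem _ _ (key _ (by simp))))
      · rw [finrank_sup_of_disjoint hdisj, hfr1, hfr2]

/-- the induction: invariant nondegenerate subspaces of the admissible even dimensions -/
theorem ch2_main (h2 : (2 : F) = 0) (hB : B.IsAlt) (T : V →ₗ[F] V)
    (hT : ∀ u v, B (T u) (T v) = B u v) (hTT : ∀ v, T (T v) = v) (hT2 : T ^ 2 = 1) :
    ∀ (n : ℕ) (M : Submodule F V), finrank F M = n → Inv T M → Nd B M →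
      ∀ m : ℕ, Even m → m ≤ n → (n % 4 = 2 ∨ m % 4 = 0) →
      ∃ W : Submodule F V, W ≤ M ∧ finrank F W = m ∧ Nd B W ∧ Inv T W := by
  intro n
  induction n using Nat.strong_induction_on with
  | _ n ih =>
    intro M hMn hMinv hM m hme hmn hcond
    rcases Nat.eq_zero_or_pos m with hm0 | hmpos
    · subst hm0
      refine ⟨⊥, bot_le, finrank_bot F V, nd_bot, ?_⟩
      intro x hx
      rw [(Submodule.mem_bot F).1 hx, map_zero]
      exact Submodule.zero_mem _
    have hne : M ≠ ⊥ := by
      intro h
      rw [h, finrank_bot] at hMn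
      omega
    obtain ⟨D, hDM, hDinv, hDnd, hDfr⟩ := ch2_exists_block h2 hB T hT hTT hMinv hM hne
    have hM'nd : Nd B (M ⊓ B.orthogonal D) := hM.inf_orthogonal hB hDnd hDM
    have hM'inv : Inv T (M ⊓ B.orthogonal D) :=
      hMinv.inf (inv_orthogonal hT (r := 2) (by norm_num) hT2 hDinv)
    have hdim : finrank F D + finrank F ↥(M ⊓ B.orthogonal D) = finrank F M :=
      hDnd.finrank_inf_orthogonal_self hB hDM
    have hevM := hM.even_finrank hB
    have hevM' := hM'nd.even_finrank hB
    obtain ⟨a, ha⟩ := hevM
    obtain ⟨a', ha'⟩ := hevM'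
    obtain ⟨k, hk⟩ := hme
    have hcases : (m ≤ finrank F ↥(M ⊓ B.orthogonal D) ∧
        (finrank F ↥(M ⊓ B.orthogonal D) % 4 = 2 ∨ m % 4 = 0)) ∨
        (finrank F D ≤ m ∧ (finrank F ↥(M ⊓ B.orthogonal D) % 4 = 2 ∨
          (m - finrank F D) % 4 = 0)) := by
      rcases hDfr with h | h <;> omega
    rcases hcases with ⟨h1, h3⟩ | ⟨h1, h3⟩
    · obtain ⟨W, hWM, hWfr, hWnd, hWinv⟩ := ih (finrank F ↥(M ⊓ B.orthogonal D))
        (by rcases hDfr with h | h <;> omega) (M ⊓ B.orthogonal D) rfl hM'inv hM'nd m ⟨k, hk⟩ h1 h3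
      exact ⟨W, hWM.trans inf_le_left, hWfr, hWnd, hWinv⟩
    · obtain ⟨W, hWM, hWfr, hWnd, hWinv⟩ := ih (finrank F ↥(M ⊓ B.orthogonal D))
        (by rcases hDfr with h | h <;> omega) (M ⊓ B.orthogonal D) rfl hM'inv hM'nd
        (m - finrank F D) (by rcases hDfr with h | h <;> rw [h, Nat.even_sub (by omega)] <;>
          simp [Nat.even_iff] <;> omega) (by omega) h3
      have horth : W ≤ B.orthogonal D := hWM.trans inf_le_right
      refine ⟨D ⊔ W, sup_le hDM (hWM.trans inf_le_left), ?_, hDnd.sup hB hWnd horth,
        hDinv.sup hWinv⟩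
      rw [finrank_sup_of_disjoint ((hDnd.disjoint hB).mono_right horth), hWfr]
      omega

end general

/-- the obstruction: `N² = 0` self-adjoint with `B(v, N v) = 0` and totally isotropic kernel has no
invariant nondegenerate subspace of dimension `2 k`, `k` odd -/
theorem ch2_no_fix {F : Type*} [Field F] {V : Type*} [AddCommGroup V] [Module F V]
    [FiniteDimensional F V] (B : LinearMap.BilinForm F V) (hB : B.IsAlt) (N : V →ₗ[F] V)
    (hN2 : ∀ v, N (N v) = 0) (hadj : ∀ u v, B (N u) v = B u (N v)) (halt : ∀ v, B v (N v) = 0)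
    (hker : ∀ u v, N u = 0 → N v = 0 → B u v = 0)
    (W : Submodule F V) (hW : Nd B W) (hinv : ∀ x ∈ W, N x ∈ W) (k : ℕ) (hk : Odd k)
    (hdim : finrank F W = 2 * k) : False := by
  set g : ↥W →ₗ[F] ↥W := N.restrict hinv with hg
  have hgv : ∀ x : ↥W, ((g x : ↥W) : V) = N (x : V) := fun x => rfl
  have hgg : LinearMap.range g ≤ LinearMap.ker g := by
    rintro _ ⟨x, rfl⟩
    rw [LinearMap.mem_ker]
    apply Subtype.ext
    rw [hgv, hgv, hN2]
    rfl
  have hrn := LinearMap.finrank_range_add_finrank_ker g
  have hle := Submodule.finrank_mono hgg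
  -- the kernel is totally isotropic
  have hZle : (LinearMap.ker g).map W.subtype ≤ W := by
    rintro _ ⟨x, -, rfl⟩
    exact x.2
  have hZti : (LinearMap.ker g).map W.subtype ≤
      B.orthogonal ((LinearMap.ker g).map W.subtype) := by
    rintro _ ⟨x, hx, rfl⟩ _ ⟨y, hy, rfl⟩
    show B (W.subtype y) (W.subtype x) = 0
    apply hker
    · have := congrArg Subtype.val (LinearMap.mem_ker.1 hy)
      rw [hgv] at this
      exact this
    · have := congrArg Subtype.val (LinearMap.mem_ker.1 hx)
      rw [hgv] at this
      exact this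
  have h1 := hW.finrank_inf_orthogonal hB hZle
  have h3 : finrank F ↥((LinearMap.ker g).map W.subtype) ≤
      finrank F ↥(W ⊓ B.orthogonal ((LinearMap.ker g).map W.subtype)) :=
    Submodule.finrank_mono (le_inf hZle hZti)
  rw [Submodule.finrank_map_subtype_eq] at h1 h3
  -- the alternating form `B(u, N v)` on `W`
  set β : LinearMap.BilinForm F ↥W := (B.restrict W).compRight g with hβ
  have hβalt : β.IsAlt := by
    intro x
    show B (x : V) (N (x : V)) = 0
    exact halt _
  have hkerβ : LinearMap.ker β = LinearMap.ker g := by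
    ext u
    rw [LinearMap.mem_ker, LinearMap.mem_ker]
    constructor
    · intro h
      apply Subtype.ext
      rw [hgv]
      apply hW _ (hinv _ u.2)
      intro v hv
      have h5 := LinearMap.congr_fun h ⟨v, hv⟩
      have h6 : B (u : V) (N v) = 0 := h5
      rw [hadj]
      exact h6
    · intro h
      apply LinearMap.ext
      intro v
      show B (u : V) (N (v : V)) = 0
      rw [← hadj]
      have := congrArg Subtype.val h
      rw [hgv] at this
      rw [this]
      simp
  have hev := Cfsg.Agent.Lib.Helper9.H9AltForm.even_finrank_sub_ker hβalt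
  rw [hkerβ] at hev
  have hkk : finrank F ↥(LinearMap.ker g) = k := by omega
  rw [hkk, hdim] at hev
  have : 2 * k - k = k := by omega
  rw [this] at hev
  exact (Nat.not_even_iff_odd.2 hk) hev

/-! ## PK-CH2 (characteristic 2) -/

theorem fixND_of_sq_eq_one_char_two {F : Type*} [Field F] (h2 : (2 : F) = 0)
    {V : Type*} [AddCommGroup V] [Module F V] [FiniteDimensional F V]
    (B : LinearMap.BilinForm F V) (hB : B.IsAlt) (hnd : ∀ x, (∀ y, B x y = 0) → x = 0)
    (T : V →ₗ[F] V) (hT : ∀ u v, B (T u) (T v) = B u v) (hT2 : T ^ 2 = 1)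
    (m : ℕ) (hme : Even m) (hm : m ≤ finrank F V)
    (hcond : finrank F V % 4 = 2 ∨ m % 4 = 0) : FixND B T m := by
  have hTT : ∀ v, T (T v) = v := by
    intro v
    have h1 := LinearMap.congr_fun hT2 v
    rw [pow_two, Module.End.mul_apply, Module.End.one_apply] at h1
    exact h1
  have htop : Nd B (⊤ : Submodule F V) := fun u _ h => hnd u (fun y => h y Submodule.mem_top)
  obtain ⟨W, -, hWfr, hWnd, hWinv⟩ := ch2_main h2 hB T hT hTT hT2 (finrank F V) ⊤ (finrank_top F V)
    (fun x _ => Submodule.mem_top) htop m hme hm hcond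
  refine ⟨W, hWfr, ?_, (inv_iff T W).1 hWinv⟩
  intro u hu hu0
  by_contra hcon
  push Not at hcon
  exact hu0 (hWnd u hu hcon)

theorem exists_involution_not_fixND {F : Type*} [Field F] (h2 : (2 : F) = 0) (d m : ℕ)
    (hd : 2 ≤ d) (hde : Even d) (hm : m % 4 = 2) :
    ∃ x : Matrix.symplecticGroup (Fin d) F, x ^ 2 = 1 ∧
      (∀ z : F, (x : Matrix (Fin d ⊕ Fin d) (Fin d ⊕ Fin d) F) ≠ z • 1) ∧
      ¬ FixND (sympBilin d F)
        (Matrix.toLin' (x : Matrix (Fin d ⊕ Fin d) (Fin d ⊕ Fin d) F)) m := by
  classical
  obtain ⟨d', hd'⟩ := hde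
  have hxx : ∀ a : F, a + a = 0 := by
    intro a
    rw [← two_mul, h2, zero_mul]
  have hneg : ∀ a : F, -a = a := fun a => neg_eq_of_add_eq_zero_left (hxx a)
  -- the fixed point free involution on the indices
  have hπlt : ∀ i : Fin d, (if i.val % 2 = 0 then i.val + 1 else i.val - 1) < d := by
    intro i
    have := i.isLt
    split_ifs <;> omega
  set π : Fin d → Fin d := fun i => ⟨if i.val % 2 = 0 then i.val + 1 else i.val - 1, hπlt i⟩
    with hπdef
  have hπ : ∀ i, π (π i) = i := by
    intro i
    apply Fin.ext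
    rw [hπdef]
    dsimp only
    have := i.isLt
    split_ifs <;> omega
  have hπne : ∀ i, π i ≠ i := by
    intro i h
    have h1 := congrArg Fin.val h
    rw [hπdef] at h1
    dsimp only at h1
    split_ifs at h1 <;> omega
  have hπeq : ∀ i j, j = π i ↔ i = π j := by
    intro i j
    constructor
    · intro h; rw [h, hπ]
    · intro h; rw [h, hπ]
  set S : Matrix (Fin d) (Fin d) F := Matrix.of fun i j => if j = π i then 1 else 0 with hS
  have hSt : S.transpose = S := by
    ext i j
    rw [Matrix.transpose_apply, hS, Matrix.of_apply, Matrix.of_apply]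
    by_cases h : j = π i
    · rw [if_pos h, if_pos ((hπeq i j).1 h)]
    · rw [if_neg h, if_neg (fun h' => h ((hπeq i j).2 h'))]
  have hSv : ∀ (b : Fin d → F) (i : Fin d), (S.mulVec b) i = b (π i) := by
    intro b i
    rw [Matrix.mulVec, dotProduct, Finset.sum_eq_single (π i)]
    · rw [hS, Matrix.of_apply, if_pos rfl, one_mul]
    · intro j _ hj
      rw [hS, Matrix.of_apply, if_neg hj, zero_mul]
    · intro h
      exact absurd (Finset.mem_univ _) h
  set A : Matrix (Fin d ⊕ Fin d) (Fin d ⊕ Fin d) F := Matrix.fromBlocks 1 S 0 1 with hA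
  have hAmem : A ∈ Matrix.symplecticGroup (Fin d) F := by
    rw [SymplecticGroup.mem_iff, hA, Matrix.J, Matrix.fromBlocks_multiply,
      Matrix.fromBlocks_transpose, Matrix.fromBlocks_multiply, hSt]
    simp
  have hAA : A * A = 1 := by
    rw [hA, Matrix.fromBlocks_multiply]
    have : (1 : Matrix (Fin d) (Fin d) F) * S + S * 1 = 0 := by
      rw [Matrix.one_mul, Matrix.mul_one]
      ext i j
      exact hxx _
    rw [this]
    simp [Matrix.fromBlocks_one]
  set N : (Fin d ⊕ Fin d → F) →ₗ[F] (Fin d ⊕ Fin d → F) :=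
    Matrix.toLin' (Matrix.fromBlocks 0 S 0 0) with hN
  have hNl : ∀ (v : Fin d ⊕ Fin d → F) (i : Fin d), N v (Sum.inl i) = v (Sum.inr (π i)) := by
    intro v i
    rw [hN, Matrix.toLin'_apply, Matrix.fromBlocks_mulVec, Sum.elim_inl, Matrix.zero_mulVec,
      zero_add, hSv]
    rfl
  have hNr : ∀ (v : Fin d ⊕ Fin d → F) (i : Fin d), N v (Sum.inr i) = 0 := by
    intro v i
    rw [hN, Matrix.toLin'_apply, Matrix.fromBlocks_mulVec, Sum.elim_inr, Matrix.zero_mulVec,
      Matrix.zero_mulVec, zero_add]
    rfl
  have hTN : ∀ v, Matrix.toLin' A v = v + N v := by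
    intro v
    have h1 : A = 1 + Matrix.fromBlocks 0 S 0 0 := by
      rw [hA, ← Matrix.fromBlocks_one, Matrix.fromBlocks_add]
      simp
    rw [h1, map_add, LinearMap.add_apply, Matrix.toLin'_one, LinearMap.id_apply]
  have hN2 : ∀ v, N (N v) = 0 := by
    intro v
    funext s
    rcases s with i | i
    · rw [hNl, hNr]; rfl
    · rw [hNr]; rfl
  have hform : ∀ u v : Fin d ⊕ Fin d → F, sympBilin d F u v =
      ∑ i : Fin d, (u (Sum.inr i) * v (Sum.inl i) - u (Sum.inl i) * v (Sum.inr i)) := by
    intro u v
    rw [sympBilin_apply, Cfsg.Agent.Lib.Helper2.OddSp.sympForm_sum]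
  have hadj : ∀ u v, sympBilin d F (N u) v = sympBilin d F u (N v) := by
    intro u v
    rw [hform, hform]
    have hinv : Function.Involutive π := hπ
    rw [← Equiv.sum_comp (hinv.toPerm π)]
    apply Finset.sum_congr rfl
    intro i _
    rw [Function.Involutive.coe_toPerm, hNr, hNr, hNl, hNl, hπ, zero_mul, mul_zero, sub_zero,
      zero_sub, hneg, mul_comm]
  have halt : ∀ v, sympBilin d F v (N v) = 0 := by
    intro v
    rw [hform]
    apply Finset.sum_ninvolution π
    · intro a
      rw [hNl, hNr, hNl, hNr, hπ, mul_zero, mul_zero, sub_zero, sub_zero, mul_comm]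
      exact hxx _
    · intro a _
      exact hπne a
    · intro a
      exact Finset.mem_univ _
    · exact hπ
  have hker : ∀ u v, N u = 0 → N v = 0 → sympBilin d F u v = 0 := by
    intro u v hu hv
    have hu' : ∀ j, u (Sum.inr j) = 0 := by
      intro j
      have := congrFun hu (Sum.inl (π j))
      rw [hNl, hπ] at this
      exact this
    have hv' : ∀ j, v (Sum.inr j) = 0 := by
      intro j
      have := congrFun hv (Sum.inl (π j))
      rw [hNl, hπ] at this
      exact this
    rw [hform]
    apply Finset.sum_eq_zero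
    intro i _
    rw [hu', hv', zero_mul, mul_zero, sub_zero]
  refine ⟨⟨A, hAmem⟩, ?_, ?_, ?_⟩
  · apply Subtype.ext
    rw [pow_two]
    exact hAA
  · intro z hz
    have hz' : A = z • 1 := hz
    have h1 := congrFun (congrFun hz' (Sum.inl ⟨0, by omega⟩)) (Sum.inr (π ⟨0, by omega⟩))
    rw [hA, Matrix.fromBlocks_apply₁₂, hS, Matrix.of_apply, if_pos rfl, Matrix.smul_apply,
      Matrix.one_apply_ne (by simp), smul_zero] at h1
    exact one_ne_zero h1
  · rintro ⟨W, hWfr, hWnd, hWinv⟩
    have hWinv' : ∀ x ∈ W, Matrix.toLin' A x ∈ W := fun x hx => hWinv ⟨x, hx, rfl⟩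
    have hk : ∃ k, Odd k ∧ m = 2 * k := ⟨m / 2, ⟨m / 4, by omega⟩, by omega⟩
    obtain ⟨k, hkodd, hmk⟩ := hk
    apply ch2_no_fix (sympBilin d F) sympBilin_isAlt N hN2 hadj halt hker W ?_ ?_ k hkodd
      (by rw [hWfr, hmk])
    · intro u hu h
      by_contra hne
      obtain ⟨v, hv, hne'⟩ := hWnd u hu hne
      exact hne' (h v hv)
    · intro x hx
      have h1 := hWinv' x hx
      rw [hTN] at h1
      have h3 : N x = (x + N x) - x := by abel
      rw [h3]
      exact Submodule.sub_mem _ h1 hx

end ch2

end Cfsg.Agent.Lib.Helper1.NDSp
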