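import Mathlib
import Cfsg.Agent.Lib.Helper9.GSpInv0

set_option autoImplicit false

/-! Isometries of square `±1` of a symplectic space: invariant hyperbolic decompositions. -/

namespace Cfsg.Agent.Lib.Helper9.H9TK

open Module
open Cfsg.Agent.Lib.Helper9.H9AltForm

section perp
variable {F : Type*} [Field F] {V : Type*} [AddCommGroup V] [Module F V]
  {B : LinearMap.BilinForm F V}

/-- the orthogonal complement of a family of hyperbolic pairs -/
def famPerp (B : LinearMap.BilinForm F V) {k : ℕ} (e f : Fin k → V) : Submodule F V where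
  carrier := {v | ∀ j, B (e j) v = 0 ∧ B (f j) v = 0}
  add_mem' := by
    intro a b ha hb j
    constructor
    · rw [map_add, (ha j).1, (hb j).1, add_zero]
    · rw [map_add, (ha j).2, (hb j).2, add_zero]
  zero_mem' := by
    intro j
    constructor <;> exact map_zero _
  smul_mem' := by
    intro c a ha j
    constructor
    · rw [map_smul, (ha j).1, smul_zero]
    · rw [map_smul, (ha j).2, smul_zero]

theorem famPerp_right (hB : B.IsAlt) {k : ℕ} {e f : Fin k → V} {v : V}
    (hv : v ∈ famPerp B e f) (j : Fin k) : B v (e j) = 0 ∧ B v (f j) = 0 := by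
  constructor
  · rw [alt_swap hB, (hv j).1, neg_zero]
  · rw [alt_swap hB, (hv j).2, neg_zero]

theorem famPerp_ne_bot [FiniteDimensional F V] {k : ℕ} (e f : Fin k → V)
    (hk : 2 * k < finrank F V) : ∃ x ∈ famPerp B e f, x ≠ 0 := by
  classical
  let φ : V →ₗ[F] (Fin k ⊕ Fin k → F) :=
    LinearMap.pi fun s => Sum.elim (fun i => B (e i)) (fun i => B (f i)) s
  have hφ : finrank F (Fin k ⊕ Fin k → F) < finrank F V := by
    rw [Module.finrank_pi, Fintype.card_sum, Fintype.card_fin]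
    omega
  have hker := LinearMap.ker_ne_bot_of_finrank_lt (f := φ) hφ
  obtain ⟨x, hx, hx0⟩ := Submodule.exists_mem_ne_zero_of_ne_bot hker
  refine ⟨x, fun j => ⟨?_, ?_⟩, hx0⟩
  · exact congrFun (LinearMap.mem_ker.1 hx) (Sum.inl j)
  · exact congrFun (LinearMap.mem_ker.1 hx) (Sum.inr j)

theorem exists_proj (hB : B.IsAlt) {k : ℕ} {e f : Fin k → V} (h : AltFam B e f) (y : V) :
    ∃ y' ∈ famPerp B e f, ∀ x ∈ famPerp B e f, B x y' = B x y := by
  classical
  refine ⟨y - ∑ i, B (e i) y • f i + ∑ i, B (f i) y • e i, ?_, ?_⟩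
  · intro j
    constructor
    · rw [map_add, map_sub, sum_right, sum_right, Finset.sum_eq_single j, h.ef, if_pos rfl,
        mul_one, Finset.sum_eq_zero, add_zero, sub_self]
      · intro i _; rw [h.ee, mul_zero]
      · intro i _ hij; rw [h.ef, if_neg (Ne.symm hij), mul_zero]
      · intro hj; exact absurd (Finset.mem_univ _) hj
    · rw [map_add, map_sub, sum_right, sum_right, Finset.sum_eq_zero, sub_zero,
        Finset.sum_eq_single j, h.fe hB, if_pos rfl]
      · ring
      · intro i _ hij; rw [h.fe hB, if_neg (Ne.symm hij), mul_zero]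
      · intro hj; exact absurd (Finset.mem_univ _) hj
      · intro i _; rw [h.ff, mul_zero]
  · intro x hx
    rw [map_add, map_sub, sum_right, sum_right, Finset.sum_eq_zero, Finset.sum_eq_zero,
      sub_zero, add_zero]
    · intro i _
      rw [(famPerp_right hB hx i).1, mul_zero]
    · intro i _
      rw [(famPerp_right hB hx i).2, mul_zero]

theorem AltFam.snoc' (hB : B.IsAlt) {k : ℕ} {e f : Fin k → V} (h : AltFam B e f) {x y : V}
    (hx : x ∈ famPerp B e f) (hy : y ∈ famPerp B e f) (hxy : B x y = 1) :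
    AltFam B (Fin.snoc (α := fun _ => V) e x) (Fin.snoc (α := fun _ => V) f y) := by
  constructor
  · intro i j
    refine Fin.lastCases ?_ (fun i' => ?_) i <;> refine Fin.lastCases ?_ (fun j' => ?_) j
    · simp only [Fin.snoc_last]; exact hB x
    · simp only [Fin.snoc_last, Fin.snoc_castSucc]; exact (famPerp_right hB hx j').1
    · simp only [Fin.snoc_last, Fin.snoc_castSucc]; exact (hx i').1
    · simp only [Fin.snoc_castSucc]; exact h.ee i' j'
  · intro i j
    refine Fin.lastCases ?_ (fun i' => ?_) i <;> refine Fin.lastCases ?_ (fun j' => ?_) j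
    · simp only [Fin.snoc_last]; exact hB y
    · simp only [Fin.snoc_last, Fin.snoc_castSucc]; exact (famPerp_right hB hy j').2
    · simp only [Fin.snoc_last, Fin.snoc_castSucc]; exact (hy i').2
    · simp only [Fin.snoc_castSucc]; exact h.ff i' j'
  · intro i j
    refine Fin.lastCases ?_ (fun i' => ?_) i <;> refine Fin.lastCases ?_ (fun j' => ?_) j
    · simp only [Fin.snoc_last]
      rw [hxy, if_pos trivial]
    · simp only [Fin.snoc_last, Fin.snoc_castSucc]
      rw [(famPerp_right hB hx j').2, if_neg]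
      exact (Fin.castSucc_lt_last j').ne'
    · simp only [Fin.snoc_last, Fin.snoc_castSucc]
      rw [(hy i').1, if_neg]
      exact (Fin.castSucc_lt_last i').ne
    · simp only [Fin.snoc_castSucc]
      rw [h.ef]
      simp only [Fin.castSucc_inj]

theorem famPerp_inv {k : ℕ} {e f : Fin k → V} (t : V →ₗ[F] V)
    (ht : ∀ u v, B (t u) (t v) = B u v) (z : F) (ht2 : ∀ v, t (t v) = z • v)
    (hspan : ∀ j, ∀ x ∈ famPerp B e f, B (t (e j)) x = 0 ∧ B (t (f j)) x = 0) :
    ∀ x ∈ famPerp B e f, t x ∈ famPerp B e f := by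
  intro x hx j
  constructor
  · rw [← ht, ht2, map_smul, (hspan j x hx).1, smul_zero]
  · rw [← ht, ht2, map_smul, (hspan j x hx).2, smul_zero]

end perp

section eigen
variable {F : Type*} [Field F] {V : Type*} [AddCommGroup V] [Module F V] [FiniteDimensional F V]
  {B : LinearMap.BilinForm F V}

theorem eigen_extend (hB : B.IsAlt) (hnd : ∀ x, (∀ y, B x y = 0) → x = 0) (h2 : (2 : F) ≠ 0)
    (t : V →ₗ[F] V) (ht : ∀ u v, B (t u) (t v) = B u v) (ht2 : ∀ v, t (t v) = v)
    {k : ℕ} {e f : Fin k → V} {s : Fin k → F} (h : AltFam B e f)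
    (he : ∀ j, t (e j) = s j • e j) (hf : ∀ j, t (f j) = s j • f j)
    (hk : 2 * k < finrank F V) :
    ∃ (e' f' : Fin (k + 1) → V) (s' : Fin (k + 1) → F), AltFam B e' f' ∧
      (∀ j, t (e' j) = s' j • e' j) ∧ (∀ j, t (f' j) = s' j • f' j) := by
  have hinv : ∀ x ∈ famPerp B e f, t x ∈ famPerp B e f := by
    apply famPerp_inv t ht 1 (fun v => by rw [ht2, one_smul])
    intro j x hx
    rw [he, hf, map_smul, map_smul, LinearMap.smul_apply, LinearMap.smul_apply, (hx j).1,
      (hx j).2, smul_zero]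
    exact ⟨rfl, rfl⟩
  obtain ⟨x₀, hx₀, hx₀0⟩ := famPerp_ne_bot (B := B) e f hk
  obtain ⟨u, σ, hu, hu0, htu, hσ⟩ : ∃ (u : V) (σ : F), u ∈ famPerp B e f ∧ u ≠ 0 ∧
      t u = σ • u ∧ σ * σ = 1 := by
    by_cases hc : t x₀ = -x₀
    · exact ⟨x₀, -1, hx₀, hx₀0, by rw [hc, neg_one_smul], by ring⟩
    · refine ⟨x₀ + t x₀, 1, Submodule.add_mem _ hx₀ (hinv x₀ hx₀), ?_, ?_, by ring⟩
      · intro h0
        exact hc (eq_neg_of_add_eq_zero_right h0)
      · rw [map_add, ht2, one_smul, add_comm]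
  obtain ⟨y, hy⟩ : ∃ y, B u y ≠ 0 := by
    by_contra hcon
    push Not at hcon
    exact hu0 (hnd u hcon)
  obtain ⟨y', hy'mem, hy'⟩ := exists_proj hB h y
  have huy' : B u y' ≠ 0 := by
    rw [hy' u hu]
    exact hy
  have hy''mem : y' + σ • t y' ∈ famPerp B e f :=
    Submodule.add_mem _ hy'mem (Submodule.smul_mem _ σ (hinv y' hy'mem))
  have hty'' : t (y' + σ • t y') = σ • (y' + σ • t y') := by
    rw [map_add, map_smul, ht2, smul_add, smul_smul, hσ, one_smul, add_comm]
  have hBut : B u (t y') = σ * B u y' := by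
    have := ht u (t y')
    rw [ht2, htu, map_smul, LinearMap.smul_apply, smul_eq_mul] at this
    exact this.symm
  have hBuy'' : B u (y' + σ • t y') = 2 * B u y' := by
    rw [map_add, map_smul, hBut, smul_eq_mul, ← mul_assoc, hσ]
    ring
  have hne : B u (y' + σ • t y') ≠ 0 := by
    rw [hBuy'']
    exact mul_ne_zero h2 huy'
  refine ⟨Fin.snoc (α := fun _ => V) e u,
    Fin.snoc (α := fun _ => V) f ((B u (y' + σ • t y'))⁻¹ • (y' + σ • t y')),
    Fin.snoc (α := fun _ => F) s σ, ?_, ?_, ?_⟩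
  · apply AltFam.snoc' hB h hu (Submodule.smul_mem _ _ hy''mem)
    rw [map_smul, smul_eq_mul, inv_mul_cancel₀ hne]
  · intro j
    refine Fin.lastCases ?_ (fun j' => ?_) j
    · simp only [Fin.snoc_last]
      exact htu
    · simp only [Fin.snoc_castSucc]
      exact he j'
  · intro j
    refine Fin.lastCases ?_ (fun j' => ?_) j
    · simp only [Fin.snoc_last]
      rw [map_smul, hty'', smul_comm]
    · simp only [Fin.snoc_castSucc]
      exact hf j'

theorem exists_eigen_altFam (hB : B.IsAlt) (hnd : ∀ x, (∀ y, B x y = 0) → x = 0)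
    (h2 : (2 : F) ≠ 0) (t : V →ₗ[F] V) (ht : ∀ u v, B (t u) (t v) = B u v)
    (ht2 : ∀ v, t (t v) = v) (k : ℕ) (hk : 2 * k ≤ finrank F V) :
    ∃ (e f : Fin k → V) (s : Fin k → F), AltFam B e f ∧
      (∀ j, t (e j) = s j • e j) ∧ (∀ j, t (f j) = s j • f j) := by
  induction k with
  | zero =>
    exact ⟨Fin.elim0, Fin.elim0, Fin.elim0,
      ⟨fun i => i.elim0, fun i => i.elim0, fun i => i.elim0⟩, fun j => j.elim0, fun j => j.elim0⟩
  | succ k ih =>
    obtain ⟨e, f, s, h, he, hf⟩ := ih (by omega)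
    exact eigen_extend hB hnd h2 t ht ht2 h he hf (by omega)

theorem rot_extend (hB : B.IsAlt) (hnd : ∀ x, (∀ y, B x y = 0) → x = 0) (h2 : (2 : F) ≠ 0)
    (hsq : ∀ c : F, ∃ α γ : F, α ^ 2 + γ ^ 2 = c)
    (t : V →ₗ[F] V) (ht : ∀ u v, B (t u) (t v) = B u v) (ht2 : ∀ v, t (t v) = -v)
    {k : ℕ} {e f : Fin k → V} {τ : Fin k → F} (hτ : ∀ j, τ j ≠ 0) (h : AltFam B e f)
    (he : ∀ j, t (e j) = τ j • f j) (hk : 2 * k < finrank F V) (τ' : F) (hτ' : τ' ≠ 0) :
    ∃ (u v : V), AltFam B (Fin.snoc (α := fun _ => V) e u) (Fin.snoc (α := fun _ => V) f v) ∧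
      t u = τ' • v := by
  have hf : ∀ j, t (f j) = (τ j)⁻¹ • (-(e j)) := by
    intro j
    have h1 : τ j • t (f j) = -(e j) := by rw [← map_smul, ← he, ht2]
    rw [← h1, smul_smul, inv_mul_cancel₀ (hτ j), one_smul]
  have hinv : ∀ x ∈ famPerp B e f, t x ∈ famPerp B e f := by
    apply famPerp_inv t ht (-1) (fun v => by rw [ht2, neg_one_smul])
    intro j x hx
    rw [he, hf, map_smul, map_smul, LinearMap.smul_apply, LinearMap.smul_apply, map_neg,
      LinearMap.neg_apply, (hx j).1, (hx j).2, neg_zero, smul_zero, smul_zero]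
    exact ⟨rfl, rfl⟩
  have hS : ∀ u v, B u (t v) = B v (t u) := by
    intro u v
    rw [← ht u (t v), ht2, map_neg, alt_swap hB v (t u)]
  obtain ⟨x₀, hx₀, hx₀0⟩ := famPerp_ne_bot (B := B) e f hk
  obtain ⟨y, hy⟩ : ∃ y, B x₀ y ≠ 0 := by
    by_contra hcon
    push Not at hcon
    exact hx₀0 (hnd x₀ hcon)
  obtain ⟨y', hy'mem, hy'⟩ := exists_proj hB h y
  have hxy' : B x₀ y' ≠ 0 := by
    rw [hy' x₀ hx₀]
    exact hy
  have hz₀mem : -(t y') ∈ famPerp B e f := Submodule.neg_mem _ (hinv y' hy'mem)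
  have htz₀ : t (-(t y')) = y' := by rw [map_neg, ht2, neg_neg]
  obtain ⟨u₁, hu₁, hσ⟩ : ∃ u₁ ∈ famPerp B e f, B u₁ (t u₁) ≠ 0 := by
    by_contra hall
    push Not at hall
    have h1 := hall x₀ hx₀
    have h3 := hall (-(t y')) hz₀mem
    have h4 := hall (x₀ + -(t y')) (Submodule.add_mem _ hx₀ hz₀mem)
    simp only [map_add, LinearMap.add_apply] at h4
    rw [h1, h3, hS (-(t y')) x₀, htz₀] at h4
    apply hxy'
    have h5 : (2 : F) * B x₀ y' = 0 := by linear_combination h4
    exact (mul_eq_zero.mp h5).resolve_left h2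
  obtain ⟨α, γ, hαγ⟩ := hsq (τ' / B u₁ (t u₁))
  have h3 : (α ^ 2 + γ ^ 2) * B u₁ (t u₁) = τ' := by rw [hαγ, div_mul_cancel₀ _ hσ]
  have humem : α • u₁ + γ • t u₁ ∈ famPerp B e f :=
    Submodule.add_mem _ (Submodule.smul_mem _ _ hu₁) (Submodule.smul_mem _ _ (hinv u₁ hu₁))
  have htu : t (α • u₁ + γ • t u₁) = α • t u₁ - γ • u₁ := by
    rw [map_add, map_smul, map_smul, ht2, smul_neg, sub_eq_add_neg]
  have hBu : B (α • u₁ + γ • t u₁) (t (α • u₁ + γ • t u₁)) = τ' := by
    rw [htu]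
    simp only [map_add, map_sub, map_smul, LinearMap.add_apply,
      LinearMap.smul_apply, smul_eq_mul]
    rw [hB u₁, hB (t u₁), alt_swap hB (t u₁) u₁]
    linear_combination h3
  refine ⟨α • u₁ + γ • t u₁, τ'⁻¹ • t (α • u₁ + γ • t u₁), ?_, ?_⟩
  · apply AltFam.snoc' hB h humem (Submodule.smul_mem _ _ (hinv _ humem))
    rw [map_smul, smul_eq_mul, hBu, inv_mul_cancel₀ hτ']
  · rw [smul_smul, mul_inv_cancel₀ hτ', one_smul]

theorem exists_rot_altFam (hB : B.IsAlt) (hnd : ∀ x, (∀ y, B x y = 0) → x = 0)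
    (h2 : (2 : F) ≠ 0) (hsq : ∀ c : F, ∃ α γ : F, α ^ 2 + γ ^ 2 = c)
    (t : V →ₗ[F] V) (ht : ∀ u v, B (t u) (t v) = B u v) (ht2 : ∀ v, t (t v) = -v)
    (T : ℕ → F) (hT : ∀ j, T j ≠ 0) (k : ℕ) (hk : 2 * k ≤ finrank F V) :
    ∃ (e f : Fin k → V), AltFam B e f ∧ ∀ j, t (e j) = T j.val • f j := by
  induction k with
  | zero =>
    exact ⟨Fin.elim0, Fin.elim0,
      ⟨fun i => i.elim0, fun i => i.elim0, fun i => i.elim0⟩, fun j => j.elim0⟩
  | succ k ih =>
    obtain ⟨e, f, h, he⟩ := ih (by omega)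
    obtain ⟨u, v, huv, htu⟩ := rot_extend hB hnd h2 hsq t ht ht2 (τ := fun j => T j.val)
      (fun j => hT _) h he (by omega) (T k) (hT k)
    refine ⟨_, _, huv, ?_⟩
    intro j
    refine Fin.lastCases ?_ (fun j' => ?_) j
    · simp only [Fin.snoc_last, Fin.val_last]
      exact htu
    · simp only [Fin.snoc_castSucc, Fin.val_castSucc]
      exact he j'

end eigen

section glue
variable {F : Type*} [Field F] {V : Type*} [AddCommGroup V] [Module F V] [FiniteDimensional F V]
  {W : Type*} [AddCommGroup W] [Module F W] [FiniteDimensional F W]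
  {B : LinearMap.BilinForm F V} {B' : LinearMap.BilinForm F W}

/-- Two spaces with matching hyperbolic bases and matching actions are isometric by an
intertwining map. -/
theorem exists_glue (hB : B.IsAlt) (hB' : B'.IsAlt) {n : ℕ} (hV : finrank F V = 2 * n)
    (hW : finrank F W = 2 * n) {e f : Fin n → V} {w w' : Fin n → W} (h : AltFam B e f)
    (h' : AltFam B' w w') (t : V →ₗ[F] V) (K : W →ₗ[F] W) (α β γ δ : Fin n → F)
    (hte : ∀ k, t (e k) = α k • e k + β k • f k) (htf : ∀ k, t (f k) = γ k • e k + δ k • f k)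
    (hKw : ∀ k, K (w k) = α k • w k + β k • w' k)
    (hKw' : ∀ k, K (w' k) = γ k • w k + δ k • w' k) :
    ∃ Ψ : V ≃ₗ[F] W, (∀ u v, B u v = B' (Ψ u) (Ψ v)) ∧ ∀ v, Ψ (t v) = K (Ψ v) := by
  classical
  have hliV := h.linearIndependent hB
  have hliW := h'.linearIndependent hB'
  have hcardV : Fintype.card (Fin n ⊕ Fin n) = finrank F V := by
    rw [Fintype.card_sum, Fintype.card_fin, hV]
    ring
  have hcardW : Fintype.card (Fin n ⊕ Fin n) = finrank F W := by
    rw [Fintype.card_sum, Fintype.card_fin, hW]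
    ring
  have hspanV : ⊤ ≤ Submodule.span F (Set.range (Sum.elim e f)) := by
    rw [hliV.span_eq_top_of_card_eq_finrank' hcardV]
  have hspanW : ⊤ ≤ Submodule.span F (Set.range (Sum.elim w w')) := by
    rw [hliW.span_eq_top_of_card_eq_finrank' hcardW]
  let bV : Basis (Fin n ⊕ Fin n) F V := Basis.mk hliV hspanV
  let bW : Basis (Fin n ⊕ Fin n) F W := Basis.mk hliW hspanW
  have hbV : ∀ s, bV s = Sum.elim e f s := fun s => by
    rw [Basis.coe_mk]
  have hbW : ∀ s, bW s = Sum.elim w w' s := fun s => by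
    rw [Basis.coe_mk]
  let Ψ : V ≃ₗ[F] W := bV.equiv bW (Equiv.refl _)
  have hΨ : ∀ s, Ψ (bV s) = bW s := fun s => by
    rw [Basis.equiv_apply]
    rfl
  have hΨe : ∀ k, Ψ (e k) = w k := fun k => by
    have := hΨ (Sum.inl k)
    rwa [hbV, hbW] at this
  have hΨf : ∀ k, Ψ (f k) = w' k := fun k => by
    have := hΨ (Sum.inr k)
    rwa [hbV, hbW] at this
  refine ⟨Ψ, ?_, ?_⟩
  · have key : B'.compl₁₂ (Ψ : V →ₗ[F] W) (Ψ : V →ₗ[F] W) = B := by
      apply LinearMap.ext_basis bV bV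
      intro i j
      rw [LinearMap.compl₁₂_apply, LinearEquiv.coe_coe, hbV, hbV]
      rcases i with i | i <;> rcases j with j | j <;>
        simp only [Sum.elim_inl, Sum.elim_inr, hΨe, hΨf]
      · rw [h.ee, h'.ee]
      · rw [h.ef, h'.ef]
      · rw [h.fe hB, h'.fe hB']
      · rw [h.ff, h'.ff]
    intro u v
    rw [← key]
    rfl
  · have key : (Ψ : V →ₗ[F] W) ∘ₗ t = K ∘ₗ (Ψ : V →ₗ[F] W) := by
      apply bV.ext
      intro s
      rw [LinearMap.comp_apply, LinearMap.comp_apply, LinearEquiv.coe_coe, hbV]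
      rcases s with k | k
      · simp only [Sum.elim_inl]
        rw [hte, map_add, map_smul, map_smul, hΨe, hΨf, hKw]
      · simp only [Sum.elim_inr]
        rw [htf, map_add, map_smul, map_smul, hΨe, hΨf, hKw']
    intro v
    exact congrArg (fun g : V →ₗ[F] W => g v) key

end glue

end Cfsg.Agent.Lib.Helper9.H9TK
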