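import Mathlib
import Cfsg.Agent.Lib.Helper1.NDSp0
import Cfsg.Agent.Lib.Helper9.TensS7

set_option autoImplicit false

/-! S5956 PK-R2: an isometry of an alternating space with scalar square (characteristic `≠ 2`)
fixes nondegenerate subspaces of every even dimension. -/

namespace Cfsg.Agent.Lib.Helper1.NDSp

open Module
open Cfsg.Agent.Lib.Helper9.H9AltForm Cfsg.Agent.Lib.Helper9.H9TK

section r2

/-- an invariant hyperbolic family spans an invariant nondegenerate subspace -/
theorem r2_span {F : Type*} [Field F] {V : Type*} [AddCommGroup V] [Module F V]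
    (B : LinearMap.BilinForm F V) (hB : B.IsAlt) (T : V →ₗ[F] V) {k : ℕ} (e f : Fin k → V)
    (h : AltFam B e f)
    (hTe : ∀ j, T (e j) ∈ Submodule.span F (Set.range (Sum.elim e f)))
    (hTf : ∀ j, T (f j) ∈ Submodule.span F (Set.range (Sum.elim e f))) : FixND B T (2 * k) := by
  classical
  refine ⟨Submodule.span F (Set.range (Sum.elim e f)), ?_, ?_, ?_⟩
  · rw [finrank_span_eq_card (h.linearIndependent hB), Fintype.card_sum, Fintype.card_fin]
    ring
  · intro u hu hu0
    by_contra hcon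
    push Not at hcon
    apply hu0
    obtain ⟨c, rfl⟩ := (Submodule.mem_span_range_iff_exists_fun F).1 hu
    have hef : ∀ j, f j ∈ Submodule.span F (Set.range (Sum.elim e f)) :=
      fun j => Submodule.subset_span ⟨Sum.inr j, rfl⟩
    have hee : ∀ j, e j ∈ Submodule.span F (Set.range (Sum.elim e f)) :=
      fun j => Submodule.subset_span ⟨Sum.inl j, rfl⟩
    have ha : ∀ j, c (Sum.inl j) = 0 := by
      intro j
      have h1 := hcon (f j) (hef j)
      rw [Fintype.sum_sum_type] at h1
      simp only [Sum.elim_inl, Sum.elim_inr, map_add, LinearMap.add_apply, sum_left] at h1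
      rw [Finset.sum_eq_single j, h.ef, if_pos rfl, mul_one, Finset.sum_eq_zero, add_zero] at h1
      · exact h1
      · intro i _; rw [h.ff, mul_zero]
      · intro i _ hij; rw [h.ef, if_neg hij, mul_zero]
      · intro hj; exact absurd (Finset.mem_univ _) hj
    have hb : ∀ j, c (Sum.inr j) = 0 := by
      intro j
      have h1 := hcon (e j) (hee j)
      rw [Fintype.sum_sum_type] at h1
      simp only [Sum.elim_inl, Sum.elim_inr, map_add, LinearMap.add_apply, sum_left] at h1
      rw [Finset.sum_eq_zero, zero_add, Finset.sum_eq_single j, h.fe hB, if_pos rfl, mul_neg,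
        mul_one, neg_eq_zero] at h1
      · exact h1
      · intro i _ hij; rw [h.fe hB, if_neg hij, mul_zero]
      · intro hj; exact absurd (Finset.mem_univ _) hj
      · intro i _; rw [h.ee, mul_zero]
    apply Finset.sum_eq_zero
    rintro (i | i) _
    · rw [ha i, zero_smul]
    · rw [hb i, zero_smul]
  · rw [Submodule.map_span_le]
    rintro _ ⟨s, rfl⟩
    rcases s with j | j
    · exact hTe j
    · exact hTf j

variable {F : Type*} [Field F] {V : Type*} [AddCommGroup V] [Module F V] [FiniteDimensional F V]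
  {B : LinearMap.BilinForm F V}

/-- one more rotation plane, with a free parameter -/
theorem r2_rot_extend (hB : B.IsAlt) (hnd : ∀ x, (∀ y, B x y = 0) → x = 0) (h2 : (2 : F) ≠ 0)
    (t : V →ₗ[F] V) (ht : ∀ u v, B (t u) (t v) = B u v) (ht2 : ∀ v, t (t v) = -v)
    {k : ℕ} {e f : Fin k → V} {τ : Fin k → F} (hτ : ∀ j, τ j ≠ 0) (h : AltFam B e f)
    (he : ∀ j, t (e j) = τ j • f j) (hk : 2 * k < finrank F V) :
    ∃ (u v : V) (τ' : F), τ' ≠ 0 ∧
      AltFam B (Fin.snoc (α := fun _ => V) e u) (Fin.snoc (α := fun _ => V) f v) ∧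
      t u = τ' • v := by
  have hf : ∀ j, t (f j) = (τ j)⁻¹ • (-(e j)) := by
    intro j
    have h1 : τ j • t (f j) = -(e j) := by rw [← map_smul, ← he, ht2]
    rw [← h1, smul_smul, inv_mul_cancel₀ (hτ j), one_smul]
  have hinv : ∀ x ∈ famPerp B e f, t x ∈ famPerp B e f := by
    apply famPerp_inv t ht (-1) (fun v => by rw [ht2, neg_one_smul])
    intro j x hx
    rw [he, hf, map_smul, map_smul, LinearMap.smul_apply, LinearMap.smul_apply, map_neg,
      LinearMap.neg_apply, (hx j).1, (hx j).2, neg_zero, smul_zero, smul_zero]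
    exact ⟨rfl, rfl⟩
  have hS : ∀ u v, B u (t v) = B v (t u) := by
    intro u v
    rw [← ht u (t v), ht2, map_neg, alt_swap hB v (t u)]
  obtain ⟨x₀, hx₀, hx₀0⟩ := famPerp_ne_bot (B := B) e f hk
  obtain ⟨y, hy⟩ : ∃ y, B x₀ y ≠ 0 := by
    by_contra hcon
    push Not at hcon
    exact hx₀0 (hnd x₀ hcon)
  obtain ⟨y', hy'mem, hy'⟩ := exists_proj hB h y
  have hxy' : B x₀ y' ≠ 0 := by
    rw [hy' x₀ hx₀]
    exact hy
  have hz₀mem : -(t y') ∈ famPerp B e f := Submodule.neg_mem _ (hinv y' hy'mem)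
  have htz₀ : t (-(t y')) = y' := by rw [map_neg, ht2, neg_neg]
  obtain ⟨u₁, hu₁, hσ⟩ : ∃ u₁ ∈ famPerp B e f, B u₁ (t u₁) ≠ 0 := by
    by_contra hall
    push Not at hall
    have h1 := hall x₀ hx₀
    have h3 := hall (-(t y')) hz₀mem
    have h4 := hall (x₀ + -(t y')) (Submodule.add_mem _ hx₀ hz₀mem)
    simp only [map_add, LinearMap.add_apply] at h4
    rw [h1, h3, hS (-(t y')) x₀, htz₀] at h4
    apply hxy'
    have h5 : (2 : F) * B x₀ y' = 0 := by linear_combination h4
    exact (mul_eq_zero.mp h5).resolve_left h2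
  refine ⟨u₁, (B u₁ (t u₁))⁻¹ • t u₁, B u₁ (t u₁), hσ, ?_, ?_⟩
  · apply AltFam.snoc' hB h hu₁ (Submodule.smul_mem _ _ (hinv _ hu₁))
    rw [map_smul, smul_eq_mul, inv_mul_cancel₀ hσ]
  · rw [smul_smul, mul_inv_cancel₀ hσ, one_smul]

theorem r2_exists_rot (hB : B.IsAlt) (hnd : ∀ x, (∀ y, B x y = 0) → x = 0) (h2 : (2 : F) ≠ 0)
    (t : V →ₗ[F] V) (ht : ∀ u v, B (t u) (t v) = B u v) (ht2 : ∀ v, t (t v) = -v)
    (k : ℕ) (hk : 2 * k ≤ finrank F V) :
    ∃ (e f : Fin k → V) (τ : Fin k → F), AltFam B e f ∧ (∀ j, τ j ≠ 0) ∧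
      ∀ j, t (e j) = τ j • f j := by
  induction k with
  | zero =>
    exact ⟨Fin.elim0, Fin.elim0, Fin.elim0,
      ⟨fun i => i.elim0, fun i => i.elim0, fun i => i.elim0⟩, fun j => j.elim0, fun j => j.elim0⟩
  | succ k ih =>
    obtain ⟨e, f, τ, h, hτ, he⟩ := ih (by omega)
    obtain ⟨u, v, τ', hτ', huv, htu⟩ := r2_rot_extend hB hnd h2 t ht ht2 hτ h he (by omega)
    refine ⟨_, _, Fin.snoc (α := fun _ => F) τ τ', huv, ?_, ?_⟩
    · intro j
      refine Fin.lastCases ?_ (fun j' => ?_) j
      · simp only [Fin.snoc_last]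
        exact hτ'
      · simp only [Fin.snoc_castSucc]
        exact hτ j'
    · intro j
      refine Fin.lastCases ?_ (fun j' => ?_) j
      · simp only [Fin.snoc_last]
        exact htu
      · simp only [Fin.snoc_castSucc]
        exact he j'

end r2

/-! ## PK-R2 (abstract; any field of characteristic ≠ 2) -/
section r2

theorem fixND_of_sq_eq_smul {F : Type*} [Field F] (h2 : (2 : F) ≠ 0)
    {V : Type*} [AddCommGroup V] [Module F V] [FiniteDimensional F V]
    (B : LinearMap.BilinForm F V) (hB : B.IsAlt) (hnd : ∀ x, (∀ y, B x y = 0) → x = 0)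
    (T : V →ₗ[F] V) (hT : ∀ u v, B (T u) (T v) = B u v) (z : F) (hz : T ^ 2 = z • 1)
    (m : ℕ) (hme : Even m) (hm : m ≤ finrank F V) : FixND B T m := by
  classical
  obtain ⟨k, hk2⟩ := hme
  have hmk : m = 2 * k := by omega
  subst hmk
  rcases Nat.eq_zero_or_pos k with hk0 | hkpos
  · subst hk0
    exact r2_span B hB T Fin.elim0 Fin.elim0
      ⟨fun i => i.elim0, fun i => i.elim0, fun i => i.elim0⟩ (fun j => j.elim0)
      (fun j => j.elim0)
  have hTT : ∀ v, T (T v) = z • v := by
    intro v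
    have h1 := LinearMap.congr_fun hz v
    rw [pow_two, Module.End.mul_apply, LinearMap.smul_apply, Module.End.one_apply] at h1
    exact h1
  have hz2 : z = 1 ∨ z = -1 := by
    have hpos : 0 < finrank F V := by omega
    obtain ⟨v, hv⟩ := Module.finrank_pos_iff_exists_ne_zero.1 hpos
    have h1 : ∃ y, B v y ≠ 0 := by
      by_contra hc
      push Not at hc
      exact hv (hnd v hc)
    obtain ⟨y, hy⟩ := h1
    have h3 : B (T (T v)) (T (T y)) = B v y := by rw [hT, hT]
    rw [hTT, hTT, map_smul, map_smul, LinearMap.smul_apply, smul_eq_mul, smul_eq_mul] at h3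
    have h4 : (z * z - 1) * B v y = 0 := by linear_combination h3
    rcases mul_eq_zero.1 h4 with h5 | h5
    · have h6 : (z - 1) * (z + 1) = 0 := by linear_combination h5
      rcases mul_eq_zero.1 h6 with h7 | h7
      · exact Or.inl (by linear_combination h7)
      · exact Or.inr (by linear_combination h7)
    · exact absurd h5 hy
  rcases hz2 with rfl | rfl
  · have ht2 : ∀ v, T (T v) = v := fun v => by rw [hTT, one_smul]
    obtain ⟨e, f, s, h, he, hf⟩ := exists_eigen_altFam hB hnd h2 T hT ht2 k hm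
    refine r2_span B hB T e f h ?_ ?_
    · intro j
      rw [he]
      exact Submodule.smul_mem _ _ (Submodule.subset_span ⟨Sum.inl j, rfl⟩)
    · intro j
      rw [hf]
      exact Submodule.smul_mem _ _ (Submodule.subset_span ⟨Sum.inr j, rfl⟩)
  · have ht2 : ∀ v, T (T v) = -v := fun v => by rw [hTT, neg_smul, one_smul]
    obtain ⟨e, f, τ, h, hτ, he⟩ := r2_exists_rot hB hnd h2 T hT ht2 k hm
    refine r2_span B hB T e f h ?_ ?_
    · intro j
      rw [he]
      exact Submodule.smul_mem _ _ (Submodule.subset_span ⟨Sum.inr j, rfl⟩)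
    · intro j
      have h1 : τ j • T (f j) = -(e j) := by rw [← map_smul, ← he, ht2]
      have h3 : T (f j) = (τ j)⁻¹ • (-(e j)) := by
        rw [← h1, smul_smul, inv_mul_cancel₀ (hτ j), one_smul]
      rw [h3]
      exact Submodule.smul_mem _ _ (Submodule.neg_mem _
        (Submodule.subset_span ⟨Sum.inl j, rfl⟩))

end r2

end Cfsg.Agent.Lib.Helper1.NDSp
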