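import Mathlib
import Cfsg.Prelude.Def_FusionSystem

set_option autoImplicit false

namespace Cfsg.Agent.Lib.Helper9

open Cfsg Cfsg.FusionSystem

variable {Ω : Type*} [Group Ω] {S : Subgroup Ω}

/-- Restriction of a map of the system to a smaller subgroup is a map of the system. -/
theorem fs_restrict_mem (F : FusionSystem S) {P R : Subgroup Ω} {φ : P →* Ω} (hφ : φ ∈ F.Hom P)
    (h : R ≤ P) : φ.comp (Subgroup.inclusion h) ∈ F.Hom R := by
  have hPS : P ≤ S := (F.le_of_mem hφ).1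
  have h1 : conjHom R 1 ∈ F.Hom R := F.conj_mem (h.trans hPS) S.one_mem
  have hval : ∀ x : R, conjHom R 1 x ∈ P := by
    intro x
    simp only [conjHom, MonoidHom.coe_comp, Function.comp_apply, Subgroup.subtype_apply]
    simpa using h x.2
  have h2 := F.comp_mem h1 hφ hval
  have : φ.comp ((conjHom R 1).codRestrict P hval) = φ.comp (Subgroup.inclusion h) := by
    ext x
    simp only [MonoidHom.coe_comp, Function.comp_apply]
    congr 1
    apply Subtype.ext
    simp [conjHom]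
  rwa [this] at h2

/-- The inclusion of a subgroup of `S` is a map of the system. -/
theorem fs_subtype_mem (F : FusionSystem S) {P : Subgroup Ω} (hP : P ≤ S) : P.subtype ∈ F.Hom P := by
  have h1 : conjHom P 1 ∈ F.Hom P := F.conj_mem hP S.one_mem
  have : conjHom P 1 = P.subtype := by
    ext x; simp [conjHom]
  rwa [this] at h1

/-- Conjugacy in the system is reflexive on subgroups of `S`. -/
theorem fs_isConj_refl (F : FusionSystem S) {P : Subgroup Ω} (hP : P ≤ S) : F.IsConj P P :=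
  ⟨P.subtype, fs_subtype_mem F hP, by simp⟩

/-- Conjugacy in the system is symmetric. -/
theorem fs_isConj_symm (F : FusionSystem S) {P Q : Subgroup Ω} (h : F.IsConj P Q) : F.IsConj Q P := by
  obtain ⟨φ, hφ, rfl⟩ := h
  obtain ⟨ψ, hψ, hψφ⟩ := F.inv_mem hφ
  refine ⟨ψ, hψ, ?_⟩
  ext y; constructor
  · rintro ⟨⟨_, x, rfl⟩, rfl⟩
    rw [hψφ]; exact x.2
  · intro hy
    exact ⟨⟨φ ⟨y, hy⟩, ⟨_, rfl⟩⟩, hψφ ⟨y, hy⟩⟩

/-- Conjugacy in the system is transitive. -/
theorem fs_isConj_trans (F : FusionSystem S) {P Q R : Subgroup Ω} (h1 : F.IsConj P Q) (h2 : F.IsConj Q R) :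
    F.IsConj P R := by
  obtain ⟨φ, hφ, rfl⟩ := h1
  obtain ⟨ψ, hψ, rfl⟩ := h2
  refine ⟨ψ.comp (φ.codRestrict φ.range (fun x => ⟨x, rfl⟩)), F.comp_mem hφ hψ _, ?_⟩
  ext y; constructor
  · rintro ⟨x, rfl⟩
    exact ⟨_, rfl⟩
  · rintro ⟨⟨_, x, rfl⟩, rfl⟩
    exact ⟨x, rfl⟩

theorem fs_isConj_le_left (F : FusionSystem S) {P Q : Subgroup Ω} (h : F.IsConj P Q) : P ≤ S := by
  obtain ⟨φ, hφ, -⟩ := h
  exact (F.le_of_mem hφ).1

theorem fs_isConj_le_right (F : FusionSystem S) {P Q : Subgroup Ω} (h : F.IsConj P Q) : Q ≤ S := by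
  obtain ⟨φ, hφ, rfl⟩ := h
  rintro _ ⟨x, rfl⟩
  exact (F.le_of_mem hφ).2 x

end Cfsg.Agent.Lib.Helper9
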