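import Mathlib
import Cfsg.Prelude.Def_FusionSystem
import Cfsg.Agent.Lib.Helper9.FusionBasic

set_option autoImplicit false

namespace Cfsg.Agent.Lib.Helper9

open Cfsg Cfsg.FusionSystem

variable {Ω : Type*} [Group Ω] {S : Subgroup Ω}

/-- The elements generating the extender already form a subgroup. -/
theorem mem_extender_iff (S P : Subgroup Ω) (φ : P →* Ω) (g : Ω) :
    g ∈ extender S P φ ↔ (g ∈ S ∧ g ∈ Subgroup.normalizer (P : Set Ω) ∧
      ∃ h ∈ S, ∀ (x : P) (hx : g * (x : Ω) * g⁻¹ ∈ P), φ ⟨g * x * g⁻¹, hx⟩ = h * φ x * h⁻¹) := by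
  let E : Subgroup Ω :=
    { carrier := {g : Ω | g ∈ S ∧ g ∈ Subgroup.normalizer (P : Set Ω) ∧
        ∃ h ∈ S, ∀ (x : P) (hx : g * (x : Ω) * g⁻¹ ∈ P), φ ⟨g * x * g⁻¹, hx⟩ = h * φ x * h⁻¹}
      one_mem' := by
        refine ⟨S.one_mem, Subgroup.one_mem _, 1, S.one_mem, ?_⟩
        intro x hx
        have : (⟨1 * (x : Ω) * 1⁻¹, hx⟩ : P) = x := Subtype.ext (by simp)
        rw [this]; simp
      mul_mem' := by
        rintro g₁ g₂ ⟨hg₁S, hg₁N, h₁, hh₁, H₁⟩ ⟨hg₂S, hg₂N, h₂, hh₂, H₂⟩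
        refine ⟨S.mul_mem hg₁S hg₂S, Subgroup.mul_mem _ hg₁N hg₂N, h₁ * h₂, S.mul_mem hh₁ hh₂, ?_⟩
        intro x hx
        have hy : g₂ * (x : Ω) * g₂⁻¹ ∈ P := (Subgroup.mem_normalizer_iff.mp hg₂N x).mp x.2
        have hx' : g₁ * ((⟨g₂ * (x : Ω) * g₂⁻¹, hy⟩ : P) : Ω) * g₁⁻¹ ∈ P := by
          have : g₁ * (g₂ * (x : Ω) * g₂⁻¹) * g₁⁻¹ = g₁ * g₂ * x * (g₁ * g₂)⁻¹ := by group
          simpa [this] using hx
        have heq : (⟨g₁ * g₂ * (x : Ω) * (g₁ * g₂)⁻¹, hx⟩ : P)
            = ⟨g₁ * ((⟨g₂ * (x : Ω) * g₂⁻¹, hy⟩ : P) : Ω) * g₁⁻¹, hx'⟩ := by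
          apply Subtype.ext
          show g₁ * g₂ * (x : Ω) * (g₁ * g₂)⁻¹ = g₁ * (g₂ * (x : Ω) * g₂⁻¹) * g₁⁻¹
          group
        rw [heq, H₁ _ hx', H₂ x hy]
        group
      inv_mem' := by
        rintro g ⟨hgS, hgN, h, hh, H⟩
        refine ⟨S.inv_mem hgS, Subgroup.inv_mem _ hgN, h⁻¹, S.inv_mem hh, ?_⟩
        intro x hx
        have hx' : g * ((⟨g⁻¹ * (x : Ω) * g⁻¹⁻¹, hx⟩ : P) : Ω) * g⁻¹ ∈ P := by
          have : g * (g⁻¹ * (x : Ω) * g⁻¹⁻¹) * g⁻¹ = x := by group
          show g * (g⁻¹ * (x : Ω) * g⁻¹⁻¹) * g⁻¹ ∈ P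
          rw [this]; exact x.2
        have heq : x = ⟨g * ((⟨g⁻¹ * (x : Ω) * g⁻¹⁻¹, hx⟩ : P) : Ω) * g⁻¹, hx'⟩ := by
          apply Subtype.ext
          show (x : Ω) = g * (g⁻¹ * (x : Ω) * g⁻¹⁻¹) * g⁻¹
          group
        have h1 := H _ hx'
        rw [← heq] at h1
        rw [h1]
        group }
  have hE : extender S P φ = E := by
    unfold extender
    exact Subgroup.closure_eq E
  rw [hE]
  exact Iff.rfl

/-- The automorphisms induced by `K` on `P` already form a subgroup. -/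
theorem mem_autInducedBy_iff (K P : Subgroup Ω) (α : MulAut P) :
    α ∈ autInducedBy K P ↔ ∃ g ∈ K, ∀ x : P, ((α x : P) : Ω) = g * (x : Ω) * g⁻¹ := by
  let E : Subgroup (MulAut P) :=
    { carrier := {α : MulAut P | ∃ g ∈ K, ∀ x : P, ((α x : P) : Ω) = g * (x : Ω) * g⁻¹}
      one_mem' := ⟨1, K.one_mem, fun x => by simp⟩
      mul_mem' := by
        rintro α β ⟨g, hg, Hg⟩ ⟨k, hk, Hk⟩
        refine ⟨g * k, K.mul_mem hg hk, fun x => ?_⟩
        rw [MulAut.mul_apply, Hg, Hk]
        group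
      inv_mem' := by
        rintro α ⟨g, hg, Hg⟩
        refine ⟨g⁻¹, K.inv_mem hg, fun x => ?_⟩
        have h1 := Hg (α⁻¹ x)
        rw [MulAut.apply_inv_self] at h1
        rw [h1]
        group }
  have hE : autInducedBy K P = E := by
    unfold autInducedBy
    exact Subgroup.closure_eq E
  rw [hE]
  exact Iff.rfl

/-- The automorphisms of `P ≤ S` that are maps of the system already form a subgroup. -/
theorem mem_autGroup_iff (F : FusionSystem S) {P : Subgroup Ω} (hP : P ≤ S) (α : MulAut P) :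
    α ∈ F.autGroup P ↔ P.subtype.comp α.toMonoidHom ∈ F.Hom P := by
  let E : Subgroup (MulAut P) :=
    { carrier := {α : MulAut P | P.subtype.comp α.toMonoidHom ∈ F.Hom P}
      one_mem' := by
        show P.subtype.comp (1 : MulAut P).toMonoidHom ∈ F.Hom P
        have : P.subtype.comp (1 : MulAut P).toMonoidHom = P.subtype := by ext x; simp
        rw [this]
        exact fs_subtype_mem F hP
      mul_mem' := by
        intro α β hα hβ
        show P.subtype.comp (α * β).toMonoidHom ∈ F.Hom P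
        have hval : ∀ x : P, (P.subtype.comp β.toMonoidHom) x ∈ P := fun x => (β x).2
        have h1 := F.comp_mem hβ hα hval
        have : (P.subtype.comp α.toMonoidHom).comp ((P.subtype.comp β.toMonoidHom).codRestrict P hval)
            = P.subtype.comp (α * β).toMonoidHom := by
          ext x
          simp only [MonoidHom.coe_comp, Function.comp_apply, Subgroup.subtype_apply, MulEquiv.coe_toMonoidHom,
            MulAut.mul_apply]
          congr 2
        rw [← this]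
        exact h1
      inv_mem' := by
        intro α hα
        show P.subtype.comp (α⁻¹).toMonoidHom ∈ F.Hom P
        obtain ⟨ψ, hψ, hψα⟩ := F.inv_mem hα
        have hval : ∀ x : P, P.subtype x ∈ (P.subtype.comp α.toMonoidHom).range := by
          intro x
          refine ⟨α⁻¹ x, ?_⟩
          simp
        have h1 := F.comp_mem (fs_subtype_mem F hP) hψ hval
        have : ψ.comp (P.subtype.codRestrict _ hval) = P.subtype.comp (α⁻¹).toMonoidHom := by
          ext x
          have h2 := hψα (α⁻¹ x)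
          simp only [MonoidHom.coe_comp, Function.comp_apply, Subgroup.subtype_apply, MulEquiv.coe_toMonoidHom]
          rw [← h2]
          congr 1
          apply Subtype.ext
          show (x : Ω) = ((α (α⁻¹ x) : P) : Ω)
          rw [MulAut.apply_inv_self]
        rw [← this]
        exact h1 }
  have hE : F.autGroup P = E := by
    unfold FusionSystem.autGroup
    exact Subgroup.closure_eq E
  rw [hE]
  exact Iff.rfl

/-- `Aut_S(P) ≤ Aut_F(P)`. -/
theorem autInducedBy_le_autGroup (F : FusionSystem S) {P : Subgroup Ω} (hP : P ≤ S) :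
    autInducedBy S P ≤ F.autGroup P := by
  intro α hα
  rw [mem_autInducedBy_iff] at hα
  obtain ⟨g, hg, Hg⟩ := hα
  rw [mem_autGroup_iff F hP]
  have : P.subtype.comp α.toMonoidHom = conjHom P g := by
    ext x
    simp only [MonoidHom.coe_comp, Function.comp_apply, Subgroup.subtype_apply, MulEquiv.coe_toMonoidHom]
    rw [Hg]
    rfl
  rw [this]
  exact F.conj_mem hP hg

/-- Powers of an induced automorphism. -/
theorem autInduced_pow {P : Subgroup Ω} (α : MulAut P) (g : Ω)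
    (Hg : ∀ x : P, ((α x : P) : Ω) = g * (x : Ω) * g⁻¹) (n : ℕ) (x : P) :
    (((α ^ n) x : P) : Ω) = g ^ n * (x : Ω) * (g ^ n)⁻¹ := by
  induction n generalizing x with
  | zero => simp
  | succ n ih =>
    rw [pow_succ, MulAut.mul_apply, ih, Hg, pow_succ]
    group

/-- `Aut_S(P)` is a `p`-group when `S` is. -/
theorem isPGroup_autInducedBy (p : ℕ) (hS : IsPGroup p S) (P : Subgroup Ω) :
    IsPGroup p (autInducedBy S P) := by
  rintro ⟨α, hα⟩
  rw [mem_autInducedBy_iff] at hα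
  obtain ⟨g, hg, Hg⟩ := hα
  obtain ⟨k, hk⟩ := hS ⟨g, hg⟩
  refine ⟨k, ?_⟩
  apply Subtype.ext
  show α ^ p ^ k = 1
  ext x
  rw [autInduced_pow α g Hg]
  have : g ^ p ^ k = 1 := by
    have := congrArg Subtype.val hk
    simpa using this
  rw [this]; simp

end Cfsg.Agent.Lib.Helper9
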