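import Mathlib
import Cfsg.Prelude.Def_FusionSystem
import Cfsg.Agent.Lib.Helper9.FusionBasic

set_option autoImplicit false

namespace Cfsg.Agent.Lib.Helper9

open Cfsg Cfsg.FusionSystem

variable {Ω : Type*} [Group Ω] {S : Subgroup Ω}

/-- `C_S(Q)` lies in the extender `N_ψ` of any homomorphism `ψ` with source `Q`. -/
theorem fs_centralizerIn_le_extender (Q : Subgroup Ω) (ψ : Q →* Ω) :
    centralizerIn S Q ≤ extender S Q ψ := by
  intro g hg
  apply Subgroup.subset_closure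
  refine ⟨hg.1, ?_, 1, S.one_mem, ?_⟩
  · exact Subgroup.centralizer_le_normalizer _ hg.2
  · intro x hx
    have hgx : g * (x : Ω) * g⁻¹ = x := by
      have := (Subgroup.mem_centralizer_iff.mp hg.2) x x.2
      rw [← this]; group
    have : (⟨g * x * g⁻¹, hx⟩ : Q) = x := Subtype.ext hgx
    rw [this]; simp

/-- `Q` lies in the extender `N_ψ` of any homomorphism `ψ` with source `Q ≤ S` and values in `S`. -/
theorem fs_le_extender (Q : Subgroup Ω) (ψ : Q →* Ω) (hQS : Q ≤ S) (hψS : ∀ x : Q, ψ x ∈ S) :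
    Q ≤ extender S Q ψ := by
  intro g hg
  apply Subgroup.subset_closure
  refine ⟨hQS hg, Subgroup.le_normalizer hg, ψ ⟨g, hg⟩, hψS _, ?_⟩
  intro x hx
  have : (⟨g * x * g⁻¹, hx⟩ : Q) = ⟨g, hg⟩ * x * ⟨g, hg⟩⁻¹ := by
    apply Subtype.ext; simp
  rw [this, map_mul, map_mul, map_inv]

/-- If `V` is receptive and `ψ` is a map of the system from `Q` onto `V`, then `ψ` extends to a map `χ` of the
system defined on `N_ψ ≥ Q C_S(Q)`, and `χ` carries `C_S(Q)` into `C_S(V)`. -/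
theorem fs_receptive_extend (F : FusionSystem S) {V : Subgroup Ω} (hV : F.IsReceptive V) {Q : Subgroup Ω}
    {ψ : Q →* Ω} (hψ : ψ ∈ F.Hom Q) (hψr : ψ.range = V) :
    ∃ χ ∈ F.Hom (extender S Q ψ), ∃ (hQN : Q ≤ extender S Q ψ)
      (hCN : centralizerIn S Q ≤ extender S Q ψ),
      (∀ x : Q, χ ⟨x, hQN x.2⟩ = ψ x) ∧
      ∀ c : centralizerIn S Q, χ ⟨c, hCN c.2⟩ ∈ centralizerIn S V := by
  obtain ⟨χ, hχ, hχψ⟩ := hV.2 Q ψ hψ hψr
  have hQN : Q ≤ extender S Q ψ := fs_le_extender Q ψ (F.le_of_mem hψ).1 (F.le_of_mem hψ).2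
  have hCN : centralizerIn S Q ≤ extender S Q ψ := fs_centralizerIn_le_extender Q ψ
  refine ⟨χ, hχ, hQN, hCN, fun x => hχψ x x.2 (hQN x.2), ?_⟩
  intro c
  refine ⟨(F.le_of_mem hχ).2 _, Subgroup.mem_centralizer_iff.mpr ?_⟩
  intro y hy
  rw [← hψr] at hy
  obtain ⟨q, rfl⟩ := hy
  have hy' : ψ q = χ ⟨q, hQN q.2⟩ := (hχψ q q.2 (hQN q.2)).symm
  have hcomm : (⟨q, hQN q.2⟩ : extender S Q ψ) * ⟨c, hCN c.2⟩ = ⟨c, hCN c.2⟩ * ⟨q, hQN q.2⟩ := by
    apply Subtype.ext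
    exact (Subgroup.mem_centralizer_iff.mp c.2.2) _ q.2
  rw [hy', ← map_mul, ← map_mul, hcomm]

/-- Subgroups of a finite `S` are finite. -/
theorem fs_finite_of_le [Finite S] {P : Subgroup Ω} (h : P ≤ S) : Finite P :=
  Finite.of_injective (Subgroup.inclusion h) (Subgroup.inclusion_injective h)

theorem fs_centralizerIn_le (S P : Subgroup Ω) : centralizerIn S P ≤ S := inf_le_left

theorem fs_normalizerIn_le (S P : Subgroup Ω) : normalizerIn S P ≤ S := inf_le_left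

/-- If `V` is receptive and conjugate to `Q` via `ψ`, then `|C_S(Q)| ≤ |C_S(V)|`. -/
theorem fs_receptive_card_centralizer_le [Finite S] (F : FusionSystem S) {V : Subgroup Ω}
    (hV : F.IsReceptive V) {Q : Subgroup Ω} (h : F.IsConj Q V) :
    Nat.card (centralizerIn S Q) ≤ Nat.card (centralizerIn S V) := by
  obtain ⟨ψ, hψ, hψr⟩ := h
  obtain ⟨χ, hχ, hQN, hCN, -, hχC⟩ := fs_receptive_extend F hV hψ hψr
  have hfin : Finite (centralizerIn S V) := fs_finite_of_le (fs_centralizerIn_le S V)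
  apply Nat.card_le_card_of_injective
    (fun c : centralizerIn S Q => (⟨χ ⟨c, hCN c.2⟩, hχC c⟩ : centralizerIn S V))
  intro a b hab
  have h1 : χ ⟨a, hCN a.2⟩ = χ ⟨b, hCN b.2⟩ := congrArg Subtype.val hab
  have h2 := F.injective_of_mem hχ h1
  exact Subtype.ext (congrArg (fun t : extender S Q ψ => (t : Ω)) h2)

end Cfsg.Agent.Lib.Helper9
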