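import Mathlib
import Cfsg.Prelude.Def_FusionSystem
import Cfsg.Agent.Lib.Helper9.FusionBasic
import Cfsg.Agent.Lib.Helper9.FusionAut

set_option autoImplicit false

namespace Cfsg.Agent.Lib.Helper9

open Cfsg Cfsg.FusionSystem

variable {Ω : Type*} [Group Ω] {S : Subgroup Ω}

/-- The isomorphism from the source of a map of the system onto its image. -/
noncomputable def fsEquiv (F : FusionSystem S) {Q : Subgroup Ω} {φ : Q →* Ω} (hφ : φ ∈ F.Hom Q) :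
    Q ≃* φ.range :=
  MonoidHom.ofInjective (F.injective_of_mem hφ)

theorem fsEquiv_apply (F : FusionSystem S) {Q : Subgroup Ω} {φ : Q →* Ω} (hφ : φ ∈ F.Hom Q) (x : Q) :
    ((fsEquiv F hφ x : φ.range) : Ω) = φ x := rfl

theorem fsEquiv_symm_apply (F : FusionSystem S) {Q : Subgroup Ω} {φ : Q →* Ω} (hφ : φ ∈ F.Hom Q) (x : Q)
    (h : φ x ∈ φ.range) : (fsEquiv F hφ).symm ⟨φ x, h⟩ = x := by
  rw [MulEquiv.symm_apply_eq]
  apply Subtype.ext
  rfl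

theorem fs_range_le (F : FusionSystem S) {Q : Subgroup Ω} {φ : Q →* Ω} (hφ : φ ∈ F.Hom Q) : φ.range ≤ S := by
  rintro _ ⟨x, rfl⟩
  exact (F.le_of_mem hφ).2 x

/-- Transport of `Aut_F(Q)` into `Aut_F(φ(Q))` along a map `φ` of the system. -/
theorem congr_mem_autGroup (F : FusionSystem S) {Q : Subgroup Ω} {φ : Q →* Ω} (hφ : φ ∈ F.Hom Q)
    (α : MulAut Q) (hα : α ∈ F.autGroup Q) :
    MulAut.congr (fsEquiv F hφ) α ∈ F.autGroup φ.range := by
  have hQS : Q ≤ S := (F.le_of_mem hφ).1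
  rw [mem_autGroup_iff F (fs_range_le F hφ)]
  rw [mem_autGroup_iff F hQS] at hα
  obtain ⟨ψ, hψ, hψφ⟩ := F.inv_mem hφ
  have hvalψ : ∀ y : φ.range, ψ y ∈ Q := by
    rintro ⟨_, x, rfl⟩
    rw [hψφ]; exact x.2
  have h1 := F.comp_mem hψ hα hvalψ
  have hval1 : ∀ y : φ.range, ((Q.subtype.comp α.toMonoidHom).comp (ψ.codRestrict Q hvalψ)) y ∈ Q := by
    intro y
    exact (α _).2
  have h2 := F.comp_mem h1 hφ hval1
  have : φ.comp (((Q.subtype.comp α.toMonoidHom).comp (ψ.codRestrict Q hvalψ)).codRestrict Q hval1)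
      = φ.range.subtype.comp (MulAut.congr (fsEquiv F hφ) α).toMonoidHom := by
    ext ⟨_, x, rfl⟩
    have hx : (ψ.codRestrict Q hvalψ) ⟨φ x, ⟨x, rfl⟩⟩ = x := Subtype.ext (hψφ x)
    simp only [MonoidHom.coe_comp, Function.comp_apply, Subgroup.subtype_apply, MulEquiv.coe_toMonoidHom]
    show φ _ = ((fsEquiv F hφ (α ((fsEquiv F hφ).symm ⟨φ x, ⟨x, rfl⟩⟩)) : φ.range) : Ω)
    have hs : (fsEquiv F hφ).symm ⟨φ x, ⟨x, rfl⟩⟩ = x := fsEquiv_symm_apply F hφ x ⟨x, rfl⟩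
    have hA : ((((Q.subtype.comp α.toMonoidHom).comp (ψ.codRestrict Q hvalψ)).codRestrict Q hval1)
        ⟨φ x, ⟨x, rfl⟩⟩ : Q) = α x := by
      apply Subtype.ext
      show ((α ((ψ.codRestrict Q hvalψ) ⟨φ x, ⟨x, rfl⟩⟩) : Q) : Ω) = ((α x : Q) : Ω)
      rw [hx]
    exact congrArg φ (hA.trans (congrArg α hs.symm))
  rw [← this]
  exact h2

end Cfsg.Agent.Lib.Helper9
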