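import Mathlib
import Cfsg.Prelude.Def_FusionSystem
import Cfsg.Agent.Lib.Helper9.GroupFusion

set_option autoImplicit false

namespace Cfsg.Agent.Lib.Helper9

open Cfsg Cfsg.FusionSystem
open scoped Pointwise

variable {G : Type*} [Group G] [Finite G] {p : ℕ} [Fact p.Prime]

/-- Sylow's theorem inside a subgroup `N`, for a subgroup `R ≤ N` of full `p`-power order. -/
theorem exists_conj_le_of_card_eq {R N T : Subgroup G} (hRN : R ≤ N)
    (hR : Nat.card R = p ^ (Nat.card N).factorization p) (hT : IsPGroup p T) (hTN : T ≤ N) :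
    ∃ n ∈ N, T.map (MulAut.conj n).toMonoidHom ≤ R := by
  have hcard : Nat.card (R.subgroupOf N) = Nat.card R :=
    Nat.card_congr (Subgroup.subgroupOfEquivOfLe hRN).toEquiv
  let R' : Sylow p N := Sylow.ofCard (R.subgroupOf N) (hcard.trans hR)
  have hT' : IsPGroup p (T.subgroupOf N) := hT.comap_subtype
  obtain ⟨Q, hQ⟩ := hT'.exists_le_sylow
  obtain ⟨k, hk⟩ := MulAction.exists_smul_eq N Q R'
  refine ⟨k, k.2, ?_⟩
  rintro _ ⟨x, hx, rfl⟩
  have h1 : (⟨x, hTN hx⟩ : N) ∈ (Q : Subgroup N) := hQ (by simpa [Subgroup.mem_subgroupOf] using hx)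
  have h2 : MulAut.conj k • (⟨x, hTN hx⟩ : N) ∈ MulAut.conj k • (Q : Subgroup N) :=
    Subgroup.smul_mem_pointwise_smul _ _ _ h1
  have h3 : MulAut.conj k • (Q : Subgroup N) = ((k • Q : Sylow p N) : Subgroup N) := rfl
  rw [h3, hk] at h2
  have h4 : (MulAut.conj k • (⟨x, hTN hx⟩ : N) : N) ∈ R.subgroupOf N := h2
  rw [Subgroup.mem_subgroupOf] at h4
  simpa using h4

/-- A `p`-subgroup of full `p`-power order in `N` has full `p`-power order in any intermediate subgroup. -/
theorem card_eq_of_le_of_le {R M N : Subgroup G} (hRM : R ≤ M) (hMN : M ≤ N) (hRp : IsPGroup p R)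
    (hR : Nat.card R = p ^ (Nat.card N).factorization p) :
    Nat.card R = p ^ (Nat.card M).factorization p := by
  have hp : p.Prime := Fact.out
  apply le_antisymm (card_le_of_isPGroup_of_le hRp hRM)
  rw [hR]
  apply Nat.pow_le_pow_right hp.pos
  have hdvd : Nat.card M ∣ Nat.card N := Subgroup.card_dvd_of_le hMN
  exact (Nat.factorization_le_iff_dvd Nat.card_pos.ne' Nat.card_pos.ne').mpr hdvd p

/-- `N_G(Q)` normalizes `C_G(Q)`. -/
theorem normalizer_le_normalizer_centralizer (Q : Subgroup G) :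
    Subgroup.normalizer (Q : Set G) ≤ Subgroup.normalizer ((Subgroup.centralizer (Q : Set G) : Subgroup G) : Set G) := by
  intro n hn
  have h1 : Q.map (MulAut.conj n).toMonoidHom = Q := Subgroup.mem_normalizer_iff_map_conj_eq.mp hn
  rw [Subgroup.mem_normalizer_iff_map_conj_eq]
  have h2 := centralizer_map_conj Q n
  rw [h1] at h2
  exact h2.symm

/-- Elements of `H ⊔ N` are products when `H` normalizes `N`. -/
theorem mem_sup_of_le_normalizer {H N : Subgroup G} (hLE : H ≤ Subgroup.normalizer (N : Set G)) {x : G}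
    (hx : x ∈ H ⊔ N) : ∃ h ∈ H, ∃ n ∈ N, h * n = x := by
  have : x ∈ ((H ⊔ N : Subgroup G) : Set G) := hx
  rw [Subgroup.coe_mul_of_left_le_normalizer_right H N hLE] at this
  obtain ⟨h, hh, n, hn, rfl⟩ := this
  exact ⟨h, hh, n, hn, rfl⟩

end Cfsg.Agent.Lib.Helper9
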