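import Mathlib
import Cfsg.Prelude.Def_FusionSystem
import Cfsg.Agent.Lib.Helper9.GroupFusion2

set_option autoImplicit false

namespace Cfsg.Agent.Lib.Helper9

open Cfsg Cfsg.FusionSystem

variable {G : Type*} [Group G]

theorem normalizerMonoidHom_coe_apply (Q : Subgroup G) (n : Subgroup.normalizer (Q : Set G)) (x : Q) :
    ((Q.normalizerMonoidHom n x : Q) : G) = n * x * (n : G)⁻¹ := rfl

/-- `Aut_K(Q)` is the image of `N_K(Q)` under the conjugation homomorphism `N_G(Q) → Aut(Q)`. -/
theorem autInducedBy_eq_map (K Q : Subgroup G) :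
    autInducedBy K Q = (K.subgroupOf (Subgroup.normalizer (Q : Set G))).map Q.normalizerMonoidHom := by
  apply le_antisymm
  · rw [autInducedBy, Subgroup.closure_le]
    rintro α ⟨g, hgK, hg⟩
    have hgN : g ∈ Subgroup.normalizer (Q : Set G) := by
      rw [Subgroup.mem_normalizer_iff]
      intro h
      constructor
      · intro hh
        rw [← hg ⟨h, hh⟩]
        exact (α ⟨h, hh⟩).2
      · intro hh
        obtain ⟨x, hx⟩ := α.surjective ⟨g * h * g⁻¹, hh⟩
        have h1 : g * (x : G) * g⁻¹ = g * h * g⁻¹ := by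
          rw [← hg x, hx]
        have h2 : (x : G) = h := mul_left_cancel (mul_right_cancel h1)
        rw [← h2]; exact x.2
    refine ⟨⟨g, hgN⟩, hgK, ?_⟩
    ext x
    rw [normalizerMonoidHom_coe_apply, hg]
  · rintro _ ⟨n, hn, rfl⟩
    apply Subgroup.subset_closure
    exact ⟨n, hn, fun x => rfl⟩

end Cfsg.Agent.Lib.Helper9
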