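import Mathlib
import Cfsg.Prelude.Def_FusionSystem
import Cfsg.Agent.Lib.Helper9.FusionBasic
import Cfsg.Agent.Lib.Helper9.FusionReceptive
import Cfsg.Agent.Lib.Helper9.FusionAut
import Cfsg.Agent.Lib.Helper9.FusionTransport
import Cfsg.Agent.Lib.Helper9.GroupFusion
import Cfsg.Agent.Lib.Helper9.GroupFusion3

set_option autoImplicit false

namespace Cfsg.Agent.Lib.Helper9

open Cfsg Cfsg.FusionSystem

variable {Ω : Type*} [Group Ω] {S : Subgroup Ω}

/-- A map of the system defined on a subgroup `N` normalizing `Q ≤ N` sends `N` into the normalizer of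
the image of `Q`. -/
theorem fs_map_mem_normalizer {N Q P : Subgroup Ω} (φ : N →* Ω) (hQN : Q ≤ N)
    (hN : N ≤ Subgroup.normalizer (Q : Set Ω)) (hP : (Q.subgroupOf N).map φ = P) (x : N) :
    φ x ∈ Subgroup.normalizer (P : Set Ω) := by
  have key : ∀ x : N, ∀ y ∈ P, φ x * y * (φ x)⁻¹ ∈ P := by
    intro x y hy
    rw [← hP] at hy ⊢
    obtain ⟨q, hq, rfl⟩ := hy
    refine ⟨x * q * x⁻¹, ?_, by simp⟩
    have hq' : (q : Ω) ∈ Q := hq
    show ((x * q * x⁻¹ : N) : Ω) ∈ Q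
    have := (Subgroup.mem_normalizer_iff.mp (hN x.2) (q : Ω)).mp hq'
    simpa using this
  rw [Subgroup.mem_normalizer_iff]
  intro y
  constructor
  · exact key x y
  · intro hy
    have := key x⁻¹ _ hy
    have h2 : φ x⁻¹ * (φ x * y * (φ x)⁻¹) * (φ x⁻¹)⁻¹ = y := by
      rw [map_inv]; group
    rwa [h2] at this

/-- **Lemma** (AKO I.2.6(a)): if `P` is fully automized and receptive and `Q` is conjugate to `P` in the
system, there is a map of the system `N_S(Q) → N_S(P)` carrying `Q` onto `P`. -/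
theorem fs_exists_normalizer_map [Finite S] (p : ℕ) [Fact p.Prime] (hS : IsPGroup p S)
    (F : FusionSystem S) (P Q : Subgroup Ω) (h₁ : F.IsFullyAutomized p P) (h₂ : F.IsReceptive P)
    (hQ : F.IsConj Q P) :
    ∃ φ ∈ F.Hom (normalizerIn S Q), (∀ x, φ x ∈ normalizerIn S P) ∧
      (Q.subgroupOf (normalizerIn S Q)).map φ = P := by
  obtain ⟨φ, hφ, rfl⟩ := hQ
  have hQS : Q ≤ S := (F.le_of_mem hφ).1
  have hPS : φ.range ≤ S := h₁.1
  have : Finite Q := fs_finite_of_le hQS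
  have : Finite φ.range := fs_finite_of_le hPS
  obtain ⟨R, hR⟩ := h₁.2
  obtain ⟨e, he⟩ : ∃ e : Q ≃* φ.range, e = fsEquiv F hφ := ⟨_, rfl⟩
  have hex : ∀ x : Q, ((e x : φ.range) : Ω) = φ x := by
    intro x; rw [he]; rfl
  obtain ⟨c, hc⟩ : ∃ c : MulAut Q →* MulAut φ.range, c = (MulAut.congr e).toMonoidHom := ⟨_, rfl⟩
  have hcapp : ∀ (α : MulAut Q) (y : φ.range), c α y = e (α (e.symm y)) := by
    intro α y; rw [hc]; rfl
  -- the transported group of automorphisms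
  have hA'le : (autInducedBy S Q).map c ≤ F.autGroup φ.range := by
    rintro _ ⟨α, hα, rfl⟩
    rw [hc, he]
    exact congr_mem_autGroup F hφ α (autInducedBy_le_autGroup F hQS hα)
  have hA'p : IsPGroup p ((autInducedBy S Q).map c) := (isPGroup_autInducedBy p hS Q).map c
  have hA''p : IsPGroup p (((autInducedBy S Q).map c).subgroupOf (F.autGroup φ.range)) :=
    hA'p.comap_subtype
  obtain ⟨χ, hχ⟩ := exists_map_conj_le_sylow R hA''p
  have hχmem : (φ.range.subtype.comp (χ : MulAut φ.range).toMonoidHom) ∈ F.Hom φ.range :=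
    (mem_autGroup_iff F hPS _).mp χ.2
  have hcodmem : ∀ x : Q, φ x ∈ φ.range := fun x => ⟨x, rfl⟩
  obtain ⟨ψ₀, hψ₀def⟩ : ∃ ψ₀ : Q →* Ω, ψ₀ = (φ.range.subtype.comp (χ : MulAut φ.range).toMonoidHom).comp
      (φ.codRestrict φ.range hcodmem) := ⟨_, rfl⟩
  have hψ₀ : ψ₀ ∈ F.Hom Q := by
    rw [hψ₀def]; exact F.comp_mem hφ hχmem _
  have hψ₀app : ∀ x : Q, ψ₀ x = (((χ : MulAut φ.range) (e x) : φ.range) : Ω) := by
    intro x
    have hcod : φ.codRestrict φ.range hcodmem x = e x := Subtype.ext (hex x).symm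
    rw [hψ₀def]
    show (((χ : MulAut φ.range) (φ.codRestrict φ.range hcodmem x) : φ.range) : Ω) = _
    rw [hcod]
  have hψ₀r : ψ₀.range = φ.range := by
    ext y
    constructor
    · rintro ⟨x, rfl⟩
      rw [hψ₀app]; exact ((χ : MulAut φ.range) (e x)).2
    · intro hy
      refine ⟨e.symm ((χ : MulAut φ.range)⁻¹ ⟨y, hy⟩), ?_⟩
      rw [hψ₀app, MulEquiv.apply_symm_apply, MulAut.apply_inv_self]
  -- the extender of ψ₀ contains N_S(Q)
  have hNle : normalizerIn S Q ≤ extender S Q ψ₀ := by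
    intro g hg
    rw [mem_extender_iff]
    refine ⟨hg.1, hg.2, ?_⟩
    obtain ⟨αg, hαg⟩ : ∃ αg : MulAut Q, αg = Q.normalizerMonoidHom ⟨g, hg.2⟩ := ⟨_, rfl⟩
    have hαgapp : ∀ x : Q, ((αg x : Q) : Ω) = g * x * g⁻¹ := by
      intro x; rw [hαg]; rfl
    have hαgmem : αg ∈ autInducedBy S Q := (mem_autInducedBy_iff S Q αg).mpr ⟨g, hg.1, hαgapp⟩
    have hcmem : c αg ∈ F.autGroup φ.range := hA'le ⟨αg, hαgmem, rfl⟩
    have h1 : (⟨c αg, hcmem⟩ : F.autGroup φ.range) ∈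
        ((autInducedBy S Q).map c).subgroupOf (F.autGroup φ.range) := by
      rw [Subgroup.mem_subgroupOf]
      exact ⟨αg, hαgmem, rfl⟩
    have h2 : (MulAut.conj χ).toMonoidHom ⟨c αg, hcmem⟩ ∈ (R : Subgroup (F.autGroup φ.range)) :=
      hχ ⟨_, h1, rfl⟩
    rw [hR, Subgroup.mem_subgroupOf, mem_autInducedBy_iff] at h2
    obtain ⟨h, hhS, Hh⟩ := h2
    refine ⟨h, hhS, ?_⟩
    intro x hx
    have h3 := Hh ((χ : MulAut φ.range) (e x))
    have h4 : (((MulAut.conj χ).toMonoidHom ⟨c αg, hcmem⟩ : F.autGroup φ.range) : MulAut φ.range)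
        = (χ : MulAut φ.range) * c αg * (χ : MulAut φ.range)⁻¹ := by
      simp [MulAut.conj_apply]
    rw [h4] at h3
    simp only [MulAut.mul_apply, MulAut.inv_apply_self] at h3
    rw [hcapp, MulEquiv.symm_apply_apply] at h3
    have h5 : (⟨g * (x : Ω) * g⁻¹, hx⟩ : Q) = αg x := Subtype.ext (hαgapp x).symm
    rw [h5, hψ₀app, hψ₀app]
    exact h3
  -- extend and restrict
  obtain ⟨ψt, hψt, hext⟩ := h₂.2 Q ψ₀ hψ₀ hψ₀r
  have hφ' := fs_restrict_mem F hψt hNle
  have hQN : Q ≤ normalizerIn S Q := fun x hx => ⟨hQS hx, Subgroup.le_normalizer hx⟩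
  have himg : (Q.subgroupOf (normalizerIn S Q)).map (ψt.comp (Subgroup.inclusion hNle)) = φ.range := by
    ext y
    constructor
    · rintro ⟨x, hx, rfl⟩
      have hx : (x : Ω) ∈ Q := hx
      have := hext x hx (hNle x.2)
      simp only [MonoidHom.coe_comp, Function.comp_apply]
      rw [← hψ₀r]
      exact ⟨⟨x, hx⟩, this.symm⟩
    · intro hy
      rw [← hψ₀r] at hy
      obtain ⟨q, rfl⟩ := hy
      refine ⟨⟨q, hQN q.2⟩, ?_, ?_⟩
      · show ((⟨q, hQN q.2⟩ : normalizerIn S Q) : Ω) ∈ Q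
        exact q.2
      · simp only [MonoidHom.coe_comp, Function.comp_apply]
        exact hext q q.2 (hNle (hQN q.2))
  refine ⟨_, hφ', ?_, himg⟩
  intro x
  exact ⟨(F.le_of_mem hφ').2 x, fs_map_mem_normalizer _ hQN inf_le_right himg x⟩

end Cfsg.Agent.Lib.Helper9
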