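import Mathlib
import Cfsg.Prelude.Def_FusionSystem
import Cfsg.Agent.Lib.Helper9.FusionBasic
import Cfsg.Agent.Lib.Helper9.FusionReceptive
import Cfsg.Agent.Lib.Helper9.FusionAut
import Cfsg.Agent.Lib.Helper9.FusionTransport
import Cfsg.Agent.Lib.Helper9.FusionNormMap

set_option autoImplicit false

namespace Cfsg.Agent.Lib.Helper9

open Cfsg Cfsg.FusionSystem

variable {Ω : Type*} [Group Ω] {S : Subgroup Ω}

/-- In a conjugacy class of subgroups of a finite `S`, some member maximizes a given numerical invariant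
bounded by `|S|`. -/
theorem fs_exists_max_conj [Finite S] (F : FusionSystem S) {P : Subgroup Ω} (hP : P ≤ S)
    (f : Subgroup Ω → ℕ) (hf : ∀ Q, f Q ≤ Nat.card S) :
    ∃ Q, F.IsConj P Q ∧ ∀ Q', F.IsConj Q Q' → f Q' ≤ f Q := by
  classical
  let s : Set ℕ := {n | ∃ Q, F.IsConj P Q ∧ f Q = n}
  have hne : s.Nonempty := ⟨f P, P, fs_isConj_refl F hP, rfl⟩
  have hbdd : BddAbove s := ⟨Nat.card S, by rintro n ⟨Q, -, rfl⟩; exact hf Q⟩
  obtain ⟨Q, hQ, hQn⟩ := Nat.sSup_mem hne hbdd
  refine ⟨Q, hQ, fun Q' hQ' => ?_⟩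
  rw [hQn]
  exact le_csSup hbdd ⟨Q', fs_isConj_trans F hQ hQ', rfl⟩

theorem fs_card_le_of_le [Finite S] {K : Subgroup Ω} (hK : K ≤ S) : Nat.card K ≤ Nat.card S :=
  Subgroup.card_le_of_le hK

/-- Every subgroup of `S` is conjugate in the system to a fully normalized subgroup. -/
theorem fs_exists_fullyNormalized [Finite S] (F : FusionSystem S) {P : Subgroup Ω} (hP : P ≤ S) :
    ∃ Q, F.IsConj P Q ∧ F.IsFullyNormalized Q := by
  obtain ⟨Q, hQ, hmax⟩ := fs_exists_max_conj F hP (fun Q => Nat.card (normalizerIn S Q))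
    (fun Q => fs_card_le_of_le (fs_normalizerIn_le S Q))
  exact ⟨Q, hQ, fs_isConj_le_right F hQ, hmax⟩

/-- Every subgroup of `S` is conjugate in the system to a fully centralized subgroup. -/
theorem fs_exists_fullyCentralized [Finite S] (F : FusionSystem S) {P : Subgroup Ω} (hP : P ≤ S) :
    ∃ Q, F.IsConj P Q ∧ F.IsFullyCentralized Q := by
  obtain ⟨Q, hQ, hmax⟩ := fs_exists_max_conj F hP (fun Q => Nat.card (centralizerIn S Q))
    (fun Q => fs_card_le_of_le (fs_centralizerIn_le S Q))
  exact ⟨Q, hQ, fs_isConj_le_right F hQ, hmax⟩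

/-- `|Aut_S(P)| · |C_S(P)| = |N_S(P)|`. -/
theorem fs_card_autInducedBy [Finite S] (P : Subgroup Ω) :
    Nat.card (autInducedBy S P) * Nat.card (centralizerIn S P) = Nat.card (normalizerIn S P) := by
  have hfin : Finite (normalizerIn S P) := fs_finite_of_le (fs_normalizerIn_le S P)
  let f : normalizerIn S P →* MulAut P :=
    P.normalizerMonoidHom.comp (Subgroup.inclusion (inf_le_right : normalizerIn S P ≤ _))
  have hfapp : ∀ (g : normalizerIn S P) (x : P), ((f g x : P) : Ω) = g * x * (g : Ω)⁻¹ := fun g x => rfl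
  have hrange : f.range = autInducedBy S P := by
    ext α
    rw [mem_autInducedBy_iff]
    constructor
    · rintro ⟨g, rfl⟩
      exact ⟨g, g.2.1, fun x => hfapp g x⟩
    · rintro ⟨g, hg, Hg⟩
      have hgN : g ∈ Subgroup.normalizer (P : Set Ω) := by
        rw [Subgroup.mem_normalizer_iff]
        intro h
        constructor
        · intro hh
          rw [← Hg ⟨h, hh⟩]
          exact (α ⟨h, hh⟩).2
        · intro hh
          obtain ⟨x, hx⟩ := α.surjective ⟨g * h * g⁻¹, hh⟩
          have h1 : g * (x : Ω) * g⁻¹ = g * h * g⁻¹ := by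
            rw [← Hg x, hx]
          have h2 : (x : Ω) = h := mul_left_cancel (mul_right_cancel h1)
          rw [← h2]; exact x.2
      refine ⟨⟨g, hg, hgN⟩, ?_⟩
      ext x
      rw [hfapp, Hg]
  have hker : f.ker = (centralizerIn S P).subgroupOf (normalizerIn S P) := by
    ext g
    rw [MonoidHom.mem_ker, Subgroup.mem_subgroupOf]
    constructor
    · intro hg
      refine ⟨g.2.1, Subgroup.mem_centralizer_iff.mpr fun x hx => ?_⟩
      have := hfapp g ⟨x, hx⟩
      rw [hg] at this
      simp only [MulAut.one_apply] at this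
      exact (mul_inv_eq_iff_eq_mul.mp this.symm).symm
    · intro hg
      ext x
      rw [hfapp]
      have := (Subgroup.mem_centralizer_iff.mp hg.2) x x.2
      simp only [MulAut.one_apply]
      rw [← this]; group
  have hle : centralizerIn S P ≤ normalizerIn S P :=
    fun x hx => ⟨hx.1, Subgroup.centralizer_le_normalizer _ hx.2⟩
  have h1 : Nat.card f.ker * f.ker.index = Nat.card (normalizerIn S P) := Subgroup.card_mul_index _
  rw [Subgroup.index_ker, hrange, hker,
    Nat.card_congr (Subgroup.subgroupOfEquivOfLe hle).toEquiv] at h1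
  rw [mul_comm]; exact h1

/-- Conjugate subgroups have automorphism groups in the system of the same order (one inequality). -/
theorem fs_card_autGroup_le [Finite S] (F : FusionSystem S) {P Q : Subgroup Ω} (h : F.IsConj P Q) :
    Nat.card (F.autGroup P) ≤ Nat.card (F.autGroup Q) := by
  obtain ⟨φ, hφ, rfl⟩ := h
  have : Finite φ.range := fs_finite_of_le (fs_range_le F hφ)
  apply Nat.card_le_card_of_injective
    (fun α : F.autGroup P => (⟨MulAut.congr (fsEquiv F hφ) α, congr_mem_autGroup F hφ α α.2⟩ :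
      F.autGroup φ.range))
  intro α β hαβ
  have h1 : MulAut.congr (fsEquiv F hφ) (α : MulAut P) = MulAut.congr (fsEquiv F hφ) (β : MulAut P) :=
    congrArg Subtype.val hαβ
  exact Subtype.ext ((MulAut.congr (fsEquiv F hφ)).injective h1)

theorem fs_card_autGroup_eq [Finite S] (F : FusionSystem S) {P Q : Subgroup Ω} (h : F.IsConj P Q) :
    Nat.card (F.autGroup P) = Nat.card (F.autGroup Q) :=
  le_antisymm (fs_card_autGroup_le F h) (fs_card_autGroup_le F (fs_isConj_symm F h))

end Cfsg.Agent.Lib.Helper9
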