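import Mathlib
import Cfsg.Prelude.Def_FusionSystem
import Cfsg.Agent.Lib.Helper9.FusionSat1
import Cfsg.Agent.Lib.Helper9.GroupFusion

set_option autoImplicit false

namespace Cfsg.Agent.Lib.Helper9

open Cfsg Cfsg.FusionSystem

variable {Ω : Type*} [Group Ω] {S : Subgroup Ω}

/-- For a map `φ` of the system on `N_S(P)` carrying `P` onto `Q`: an element `d` of `N_S(P)` centralizes `P`
iff `φ d` lies in `C_S(Q)`. -/
theorem fs_normMap_centralizer_iff (F : FusionSystem S) {P Q : Subgroup Ω} {φ : normalizerIn S P →* Ω}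
    (hφ : φ ∈ F.Hom (normalizerIn S P)) (hPS : P ≤ S)
    (hφP : (P.subgroupOf (normalizerIn S P)).map φ = Q) (d : normalizerIn S P) :
    φ d ∈ centralizerIn S Q ↔ (d : Ω) ∈ centralizerIn S P := by
  have hPN : P ≤ normalizerIn S P := fun x hx => ⟨hPS hx, Subgroup.le_normalizer hx⟩
  constructor
  · intro h
    refine ⟨d.2.1, Subgroup.mem_centralizer_iff.mpr fun x hx => ?_⟩
    have hq : φ ⟨x, hPN hx⟩ ∈ Q := by
      rw [← hφP]; exact ⟨⟨x, hPN hx⟩, hx, rfl⟩
    have h1 : φ ⟨x, hPN hx⟩ * φ d = φ d * φ ⟨x, hPN hx⟩ := (Subgroup.mem_centralizer_iff.mp h.2) _ hq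
    rw [← map_mul, ← map_mul] at h1
    have h2 := F.injective_of_mem hφ h1
    exact congrArg Subtype.val h2
  · intro h
    refine ⟨(F.le_of_mem hφ).2 d, Subgroup.mem_centralizer_iff.mpr fun y hy => ?_⟩
    rw [← hφP] at hy
    obtain ⟨q, hq, rfl⟩ := hy
    have hq' : (q : Ω) ∈ P := hq
    rw [← map_mul, ← map_mul]
    congr 1
    apply Subtype.ext
    exact (Subgroup.mem_centralizer_iff.mp h.2) _ hq'

/-- If `g` lies in the extender of `ψ : R → P` (onto) with witness `h`, then `h` normalizes `P`. -/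
theorem fs_extender_witness_normalizes {R P : Subgroup Ω} (ψ : R →* Ω) (hψr : ψ.range = P) (g h : Ω)
    (hgN : g ∈ Subgroup.normalizer (R : Set Ω))
    (Hh : ∀ (x : R) (hx : g * (x : Ω) * g⁻¹ ∈ R), ψ ⟨g * x * g⁻¹, hx⟩ = h * ψ x * h⁻¹) :
    h ∈ Subgroup.normalizer (P : Set Ω) := by
  rw [Subgroup.mem_normalizer_iff]
  intro y
  constructor
  · intro hy
    rw [← hψr] at hy ⊢
    obtain ⟨x, rfl⟩ := hy
    have hx : g * (x : Ω) * g⁻¹ ∈ R := (Subgroup.mem_normalizer_iff.mp hgN x).mp x.2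
    rw [← Hh x hx]
    exact ⟨_, rfl⟩
  · intro hy
    rw [← hψr] at hy ⊢
    obtain ⟨x', hx'⟩ := hy
    have hgN' : g⁻¹ ∈ Subgroup.normalizer (R : Set Ω) := Subgroup.inv_mem _ hgN
    have hx0 : g⁻¹ * (x' : Ω) * g⁻¹⁻¹ ∈ R := (Subgroup.mem_normalizer_iff.mp hgN' x').mp x'.2
    have hx1 : g * ((⟨g⁻¹ * (x' : Ω) * g⁻¹⁻¹, hx0⟩ : R) : Ω) * g⁻¹ ∈ R := by
      have : g * (g⁻¹ * (x' : Ω) * g⁻¹⁻¹) * g⁻¹ = x' := by group
      show g * (g⁻¹ * (x' : Ω) * g⁻¹⁻¹) * g⁻¹ ∈ R
      rw [this]; exact x'.2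
    have h1 := Hh ⟨g⁻¹ * (x' : Ω) * g⁻¹⁻¹, hx0⟩ hx1
    have h2 : (⟨g * ((⟨g⁻¹ * (x' : Ω) * g⁻¹⁻¹, hx0⟩ : R) : Ω) * g⁻¹, hx1⟩ : R) = x' := by
      apply Subtype.ext
      show g * (g⁻¹ * (x' : Ω) * g⁻¹⁻¹) * g⁻¹ = x'
      group
    rw [h2, hx'] at h1
    have h3 : y = ψ ⟨g⁻¹ * (x' : Ω) * g⁻¹⁻¹, hx0⟩ := mul_left_cancel (mul_right_cancel h1)
    rw [h3]
    exact ⟨_, rfl⟩

/-- **Sylow axiom**: in a saturated system, a fully normalized subgroup is fully centralized and fully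
automized. -/
theorem fs_sylow_axiom [Finite S] (p : ℕ) [Fact p.Prime] (hS : IsPGroup p S) (F : FusionSystem S)
    (hF : F.IsSaturated p) {P : Subgroup Ω} (hP : F.IsFullyNormalized P) :
    F.IsFullyCentralized P ∧ F.IsFullyAutomized p P := by
  obtain ⟨Q, hPQ, hQa, hQr⟩ := hF P hP.1
  obtain ⟨φ, hφ, hφN, hφP⟩ := fs_exists_normalizer_map p hS F Q P hQa hQr hPQ
  have hPS := hP.1
  have hQS := hQa.1
  have hfinNP : Finite (normalizerIn S P) := fs_finite_of_le (fs_normalizerIn_le S P)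
  have hfinNQ : Finite (normalizerIn S Q) := fs_finite_of_le (fs_normalizerIn_le S Q)
  have hfinCP : Finite (centralizerIn S P) := fs_finite_of_le (fs_centralizerIn_le S P)
  have hfinCQ : Finite (centralizerIn S Q) := fs_finite_of_le (fs_centralizerIn_le S Q)
  -- the map N_S(P) → N_S(Q) is bijective
  let g : normalizerIn S P → normalizerIn S Q := fun x => ⟨φ x, hφN x⟩
  have hginj : Function.Injective g := by
    intro a b hab
    exact F.injective_of_mem hφ (congrArg Subtype.val hab)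
  have hgbij : Function.Bijective g := hginj.bijective_of_nat_card_le (hP.2 Q hPQ)
  have hcardN : Nat.card (normalizerIn S P) = Nat.card (normalizerIn S Q) :=
    Nat.card_eq_of_bijective g hgbij
  -- the map C_S(P) → C_S(Q) is bijective
  have hCN : centralizerIn S P ≤ normalizerIn S P :=
    fun x hx => ⟨hx.1, Subgroup.centralizer_le_normalizer _ hx.2⟩
  have hCNQ : centralizerIn S Q ≤ normalizerIn S Q :=
    fun x hx => ⟨hx.1, Subgroup.centralizer_le_normalizer _ hx.2⟩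
  let f : centralizerIn S P → centralizerIn S Q := fun d =>
    ⟨φ ⟨d, hCN d.2⟩, (fs_normMap_centralizer_iff F hφ hPS hφP ⟨d, hCN d.2⟩).mpr d.2⟩
  have hfbij : Function.Bijective f := by
    constructor
    · intro a b hab
      have h1 : φ ⟨a, hCN a.2⟩ = φ ⟨b, hCN b.2⟩ := congrArg Subtype.val hab
      have h2 := F.injective_of_mem hφ h1
      exact Subtype.ext (congrArg (fun t : normalizerIn S P => (t : Ω)) h2)
    · intro c
      obtain ⟨d, hd⟩ := hgbij.2 ⟨c, hCNQ c.2⟩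
      have hd' : φ d = c := congrArg Subtype.val hd
      have hdC : (d : Ω) ∈ centralizerIn S P := by
        rw [← fs_normMap_centralizer_iff F hφ hPS hφP d, hd']; exact c.2
      refine ⟨⟨d, hdC⟩, Subtype.ext ?_⟩
      exact hd'
  have hcardC : Nat.card (centralizerIn S P) = Nat.card (centralizerIn S Q) :=
    Nat.card_eq_of_bijective f hfbij
  refine ⟨⟨hPS, fun Q' hQ' => ?_⟩, hPS, ?_⟩
  · rw [hcardC]
    exact fs_receptive_card_centralizer_le F hQr (fs_isConj_trans F (fs_isConj_symm F hQ') hPQ)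
  · have : Finite P := fs_finite_of_le hPS
    have : Finite Q := fs_finite_of_le hQS
    rw [exists_sylow_eq_subgroupOf_iff (autInducedBy_le_autGroup F hPS)]
    have hQcrit := (exists_sylow_eq_subgroupOf_iff (p := p) (autInducedBy_le_autGroup F hQS)).mp hQa.2
    rw [fs_card_autGroup_eq F hPQ, ← hQcrit]
    have h1 := fs_card_autInducedBy (S := S) P
    have h2 := fs_card_autInducedBy (S := S) Q
    rw [hcardN, hcardC, ← h2] at h1
    exact Nat.eq_of_mul_eq_mul_right Nat.card_pos h1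

end Cfsg.Agent.Lib.Helper9
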