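import Mathlib
import Cfsg.Prelude.Def_FusionSystem
import Cfsg.Agent.Lib.Helper9.FusionSat2

set_option autoImplicit false

namespace Cfsg.Agent.Lib.Helper9

open Cfsg Cfsg.FusionSystem

variable {Ω : Type*} [Group Ω] {S : Subgroup Ω}

/-- **Extension axiom**: in a saturated system, a fully centralized subgroup is receptive. -/
theorem fs_extension_axiom [Finite S] (p : ℕ) [Fact p.Prime] (hS : IsPGroup p S) (F : FusionSystem S)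
    (hF : F.IsSaturated p) {P : Subgroup Ω} (hP : F.IsFullyCentralized P) :
    F.IsReceptive P := by
  obtain ⟨Q, hPQ, hQa, hQr⟩ := hF P hP.1
  obtain ⟨φ, hφ, hφN, hφP⟩ := fs_exists_normalizer_map p hS F Q P hQa hQr hPQ
  have hPS := hP.1
  have hQS := hQa.1
  have hfinCP : Finite (centralizerIn S P) := fs_finite_of_le (fs_centralizerIn_le S P)
  have hfinCQ : Finite (centralizerIn S Q) := fs_finite_of_le (fs_centralizerIn_le S Q)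
  have hPN : P ≤ normalizerIn S P := fun x hx => ⟨hPS hx, Subgroup.le_normalizer hx⟩
  have hCN : centralizerIn S P ≤ normalizerIn S P :=
    fun x hx => ⟨hx.1, Subgroup.centralizer_le_normalizer _ hx.2⟩
  -- C_S(P) → C_S(Q) is bijective
  let f : centralizerIn S P → centralizerIn S Q := fun d =>
    ⟨φ ⟨d, hCN d.2⟩, (fs_normMap_centralizer_iff F hφ hPS hφP ⟨d, hCN d.2⟩).mpr d.2⟩
  have hfinj : Function.Injective f := by
    intro a b hab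
    have h1 : φ ⟨a, hCN a.2⟩ = φ ⟨b, hCN b.2⟩ := congrArg Subtype.val hab
    have h2 := F.injective_of_mem hφ h1
    exact Subtype.ext (congrArg (fun t : normalizerIn S P => (t : Ω)) h2)
  have hfbij : Function.Bijective f := hfinj.bijective_of_nat_card_le (hP.2 Q hPQ)
  have hsurjC : ∀ c ∈ centralizerIn S Q, ∃ d : normalizerIn S P, φ d = c := by
    intro c hc
    obtain ⟨d, hd⟩ := hfbij.2 ⟨c, hc⟩
    exact ⟨⟨d, hCN d.2⟩, congrArg Subtype.val hd⟩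
  refine ⟨hPS, ?_⟩
  intro R ψ hψ hψr
  have hRS : R ≤ S := (F.le_of_mem hψ).1
  have hψP : ∀ x : R, ψ x ∈ P := fun x => hψr ▸ ⟨x, rfl⟩
  have hψN : ∀ x : R, ψ x ∈ normalizerIn S P := fun x => hPN (hψP x)
  obtain ⟨θ, hθdef⟩ : ∃ θ : R →* Ω, θ = φ.comp (ψ.codRestrict (normalizerIn S P) hψN) := ⟨_, rfl⟩
  have hθapp : ∀ x : R, θ x = φ ⟨ψ x, hψN x⟩ := fun x => by rw [hθdef]; rfl
  have hθ : θ ∈ F.Hom R := by rw [hθdef]; exact F.comp_mem hψ hφ hψN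
  have hθr : θ.range = Q := by
    ext y
    constructor
    · rintro ⟨x, rfl⟩
      rw [hθapp, ← hφP]
      exact ⟨⟨ψ x, hψN x⟩, hψP x, rfl⟩
    · intro hy
      rw [← hφP] at hy
      obtain ⟨q, hq, rfl⟩ := hy
      have hq' : (q : Ω) ∈ P := hq
      have hq'' : (q : Ω) ∈ ψ.range := by rw [hψr]; exact hq'
      obtain ⟨x, hx⟩ := hq''
      refine ⟨x, ?_⟩
      rw [hθapp]
      congr 1
      exact Subtype.ext hx
  obtain ⟨θt, hθt, hθext⟩ := hQr.2 R θ hθ hθr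
  -- key computation: for g in N_ψ with witness h, θ(g x g⁻¹) = φ(h) θ(x) φ(h)⁻¹
  have key : ∀ (g h : Ω) (hgN : g ∈ Subgroup.normalizer (R : Set Ω)) (hhS : h ∈ S)
      (Hh : ∀ (x : R) (hx : g * (x : Ω) * g⁻¹ ∈ R), ψ ⟨g * x * g⁻¹, hx⟩ = h * ψ x * h⁻¹),
      ∃ hhN : h ∈ normalizerIn S P, ∀ (x : R) (hx : g * (x : Ω) * g⁻¹ ∈ R),
        θ ⟨g * x * g⁻¹, hx⟩ = φ ⟨h, hhN⟩ * θ x * (φ ⟨h, hhN⟩)⁻¹ := by
    intro g h hgN hhS Hh
    have hhN : h ∈ normalizerIn S P := ⟨hhS, fs_extender_witness_normalizes ψ hψr g h hgN Hh⟩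
    refine ⟨hhN, fun x hx => ?_⟩
    rw [hθapp, hθapp, ← map_inv, ← map_mul, ← map_mul]
    congr 1
    apply Subtype.ext
    exact Hh x hx
  have hle : extender S R ψ ≤ extender S R θ := by
    intro g hg
    rw [mem_extender_iff] at hg ⊢
    obtain ⟨hgS, hgN, h, hhS, Hh⟩ := hg
    obtain ⟨hhN, Hθ⟩ := key g h hgN hhS Hh
    exact ⟨hgS, hgN, φ ⟨h, hhN⟩, (F.le_of_mem hφ).2 _, Hθ⟩
  have hχ := fs_restrict_mem F hθt hle
  obtain ⟨χ, hχdef⟩ : ∃ χ : extender S R ψ →* Ω, χ = θt.comp (Subgroup.inclusion hle) := ⟨_, rfl⟩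
  rw [← hχdef] at hχ
  have hRle : R ≤ extender S R ψ := fs_le_extender R ψ hRS (F.le_of_mem hψ).2
  have hχR : ∀ (x : Ω) (hxR : x ∈ R) (hxN : x ∈ extender S R ψ), χ ⟨x, hxN⟩ = θ ⟨x, hxR⟩ := by
    intro x hxR hxN
    rw [hχdef]
    exact hθext x hxR (hle hxN)
  -- χ takes values in the image of φ
  have hχrange : ∀ g : extender S R ψ, χ g ∈ φ.range := by
    rintro ⟨g, hg⟩
    obtain ⟨hgS, hgN, h, hhS, Hh⟩ := (mem_extender_iff S R ψ g).mp hg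
    obtain ⟨hhN, Hθ⟩ := key g h hgN hhS Hh
    have hcC : (φ ⟨h, hhN⟩)⁻¹ * χ ⟨g, hg⟩ ∈ centralizerIn S Q := by
      refine ⟨S.mul_mem (S.inv_mem ((F.le_of_mem hφ).2 _)) ((F.le_of_mem hχ).2 _),
        Subgroup.mem_centralizer_iff.mpr ?_⟩
      intro y hy
      rw [← hθr] at hy
      obtain ⟨x, rfl⟩ := hy
      have hx : g * (x : Ω) * g⁻¹ ∈ R := (Subgroup.mem_normalizer_iff.mp hgN x).mp x.2
      have h1 := Hθ x hx
      have h2 : χ ⟨g * (x : Ω) * g⁻¹, hRle hx⟩ = θ ⟨g * (x : Ω) * g⁻¹, hx⟩ := hχR _ hx _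
      have h3 : (⟨g * (x : Ω) * g⁻¹, hRle hx⟩ : extender S R ψ)
          = ⟨g, hg⟩ * ⟨x, hRle x.2⟩ * (⟨g, hg⟩ : extender S R ψ)⁻¹ := by
        apply Subtype.ext; rfl
      rw [h3, map_mul, map_mul, map_inv, hχR x x.2 (hRle x.2), h1] at h2
      -- h2 : χ g * θ x * (χ g)⁻¹ = φ h * θ x * (φ h)⁻¹
      have hxx : (⟨(x : Ω), x.2⟩ : R) = x := Subtype.ext rfl
      rw [hxx] at h2
      obtain ⟨a, ha⟩ : ∃ a, a = χ ⟨g, hg⟩ := ⟨_, rfl⟩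
      obtain ⟨b, hb⟩ : ∃ b, b = φ ⟨h, hhN⟩ := ⟨_, rfl⟩
      obtain ⟨t, ht⟩ : ∃ t, t = θ x := ⟨_, rfl⟩
      rw [← ha, ← hb, ← ht] at h2 ⊢
      have h4 : a * t = b * t * b⁻¹ * a := by rw [← h2]; group
      calc t * (b⁻¹ * a) = b⁻¹ * (b * t * b⁻¹ * a) := by group
        _ = b⁻¹ * (a * t) := by rw [h4]
        _ = b⁻¹ * a * t := by group
    obtain ⟨d, hd⟩ := hsurjC _ hcC
    refine ⟨⟨h, hhN⟩ * d, ?_⟩
    rw [map_mul, hd]; group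
  obtain ⟨φi, hφi, hφiφ⟩ := F.inv_mem hφ
  refine ⟨φi.comp (χ.codRestrict φ.range hχrange), F.comp_mem hχ hφi hχrange, ?_⟩
  intro x hxR hxN
  have h1 : χ ⟨x, hxN⟩ = φ ⟨ψ ⟨x, hxR⟩, hψN _⟩ := by rw [hχR x hxR hxN, hθapp]
  have h2 := hφiφ ⟨ψ ⟨x, hxR⟩, hψN _⟩
  show φi (χ.codRestrict φ.range hχrange ⟨x, hxN⟩) = ψ ⟨x, hxR⟩
  have h3 : χ.codRestrict φ.range hχrange ⟨x, hxN⟩ = ⟨φ ⟨ψ ⟨x, hxR⟩, hψN _⟩, ⟨_, rfl⟩⟩ :=
    Subtype.ext h1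
  rw [h3, h2]

end Cfsg.Agent.Lib.Helper9
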