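import Mathlib
import Cfsg.Prelude.Def_FusionSystem
import Cfsg.Agent.Lib.Helper9.FusionSat3

set_option autoImplicit false

namespace Cfsg.Agent.Lib.Helper9

open Cfsg Cfsg.FusionSystem

variable {Ω : Type*} [Group Ω] {S : Subgroup Ω}

/-- Two fusion systems with the same maps are equal. -/
theorem fs_ext {F E : FusionSystem S} (h : ∀ P : Subgroup Ω, F.Hom P = E.Hom P) : F = E := by
  cases F
  cases E
  congr
  funext P
  exact h P

/-- In a finite `p`-group `S`, a proper subgroup is properly contained in its normalizer in `S`. -/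
theorem fs_lt_normalizerIn [Finite S] (p : ℕ) [Fact p.Prime] (hS : IsPGroup p S) {P : Subgroup Ω}
    (hP : P < S) : P < normalizerIn S P := by
  haveI : Group.IsNilpotent S := hS.isNilpotent
  have hH : P.subgroupOf S < ⊤ := by
    rw [lt_top_iff_ne_top, Ne, Subgroup.subgroupOf_eq_top]
    exact not_le_of_gt hP
  have h1 := normalizerCondition_of_isNilpotent (G := S) (P.subgroupOf S) hH
  rw [← Subgroup.subgroupOf_normalizer_eq hP.le] at h1
  obtain ⟨x, hxN, hxP⟩ := SetLike.exists_of_lt h1
  refine lt_of_le_of_ne (fun y hy => ⟨hP.le hy, Subgroup.le_normalizer hy⟩) ?_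
  intro heq
  apply hxP
  rw [Subgroup.mem_subgroupOf, heq]
  exact ⟨x.2, hxN⟩

/-- A map of the system from `R` into `R` is (the inclusion composed with) an element of `Aut_F(R)`. -/
theorem fs_hom_to_aut [Finite S] (F : FusionSystem S) {R : Subgroup Ω} {ρ : R →* Ω} (hρ : ρ ∈ F.Hom R)
    (hval : ∀ y : R, ρ y ∈ R) : ∃ α ∈ F.autGroup R, ∀ y : R, ((α y : R) : Ω) = ρ y := by
  have hRS : R ≤ S := (F.le_of_mem hρ).1
  have : Finite R := fs_finite_of_le hRS
  have hinj : Function.Injective (ρ.codRestrict R hval) := by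
    intro a b hab
    exact F.injective_of_mem hρ (congrArg Subtype.val hab)
  have hbij : Function.Bijective (ρ.codRestrict R hval) := Finite.injective_iff_bijective.mp hinj
  refine ⟨MulEquiv.ofBijective (ρ.codRestrict R hval) hbij, ?_, fun y => rfl⟩
  rw [mem_autGroup_iff F hRS]
  have : R.subtype.comp (MulEquiv.ofBijective (ρ.codRestrict R hval) hbij).toMonoidHom = ρ := by
    ext y; rfl
  rw [this]; exact hρ

/-- If `Aut_F(R)` is a `p`-group and `R` is fully automized then `Aut_F(R) = Aut_S(R)`. -/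
theorem fs_autGroup_le_autInducedBy_of_isPGroup [Finite S] (p : ℕ) [Fact p.Prime] (F : FusionSystem S)
    {R : Subgroup Ω} (hR : F.IsFullyAutomized p R) (hp : IsPGroup p (F.autGroup R)) :
    F.autGroup R ≤ autInducedBy S R := by
  obtain ⟨hRS, T, hT⟩ := hR
  have : Finite R := fs_finite_of_le hRS
  have htop : (T : Subgroup (F.autGroup R)) = ⊤ := by
    apply Subgroup.eq_top_of_card_eq
    rw [T.card_eq_multiplicity]
    obtain ⟨k, hk⟩ := IsPGroup.iff_card.mp hp
    rw [hk, Nat.Prime.factorization_pow Fact.out, Finsupp.single_eq_same]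
  intro α hα
  have : (⟨α, hα⟩ : F.autGroup R) ∈ (T : Subgroup (F.autGroup R)) := by rw [htop]; trivial
  rw [hT, Subgroup.mem_subgroupOf] at this
  exact this

end Cfsg.Agent.Lib.Helper9
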