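import Mathlib
import Cfsg.Prelude.Def_FusionSystem
import Cfsg.Agent.S5083
import Cfsg.Agent.Lib.Helper9.FusionSat1
import Cfsg.Agent.Lib.Helper9.FusionSat2
import Cfsg.Agent.Lib.Helper9.FusionSat3
import Cfsg.Agent.Lib.Helper9.FusionAut2

set_option autoImplicit false

namespace Cfsg.Agent.Lib.Helper9

open Cfsg Cfsg.FusionSystem

variable {Ω : Type*} [Group Ω] {S : Subgroup Ω}

/-- Left cancellation: if `ψ ∘ φ = χ` with `ψ`, `χ` maps of the system, then `φ` is a map of the system. -/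
theorem fs_cancel_left (E : FusionSystem S) {P Q : Subgroup Ω} {φ : P →* Ω} {ψ : Q →* Ω} {χ : P →* Ω}
    (hψ : ψ ∈ E.Hom Q) (hχ : χ ∈ E.Hom P) (hφQ : ∀ x : P, φ x ∈ Q)
    (h : ∀ x : P, ψ ⟨φ x, hφQ x⟩ = χ x) : φ ∈ E.Hom P := by
  obtain ⟨ψ', hψ', H⟩ := E.inv_mem hψ
  have hval : ∀ x : P, χ x ∈ ψ.range := fun x => ⟨⟨φ x, hφQ x⟩, h x⟩
  have h1 := E.comp_mem hχ hψ' hval
  have : ψ'.comp (χ.codRestrict ψ.range hval) = φ := by
    ext x
    have h2 : ψ' ⟨ψ ⟨φ x, hφQ x⟩, ⟨_, rfl⟩⟩ = φ x := H ⟨φ x, hφQ x⟩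
    simp only [MonoidHom.coe_comp, Function.comp_apply]
    rw [← h2]
    congr 1
    apply Subtype.ext
    exact (h x).symm
  rwa [this] at h1

/-- If `b ∘ φ = ρ ∘ a` with `a`, `b`, `ρ` maps of the system, then `φ` is a map of the system. -/
theorem fs_mem_of_conj_decomp (E : FusionSystem S) {P Q R : Subgroup Ω} {φ a : P →* Ω} {b : Q →* Ω}
    {ρ : R →* Ω} (ha : a ∈ E.Hom P) (hb : b ∈ E.Hom Q) (hρ : ρ ∈ E.Hom R)
    (hφQ : ∀ x : P, φ x ∈ Q) (haR : ∀ x : P, a x ∈ R)
    (h : ∀ x : P, b ⟨φ x, hφQ x⟩ = ρ ⟨a x, haR x⟩) : φ ∈ E.Hom P := by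
  have hχ := E.comp_mem ha hρ haR
  exact fs_cancel_left E hb hχ hφQ (fun x => by rw [h x]; rfl)

/-- An element of `Aut_E(R)`, followed by the inclusion, is a map of `E`. -/
theorem fs_mem_of_mem_autGroup (E : FusionSystem S) {R : Subgroup Ω} (hR : R ≤ S) {α : MulAut R}
    (hα : α ∈ E.autGroup R) {ρ : R →* Ω} (h : ∀ y : R, ((α y : R) : Ω) = ρ y) : ρ ∈ E.Hom R := by
  rw [mem_autGroup_iff E hR] at hα
  have : R.subtype.comp α.toMonoidHom = ρ := by
    ext y; exact h y
  rwa [this] at hα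

theorem fs_card_lt_of_lt [Finite S] {A B : Subgroup Ω} (hAB : A < B) (hBS : B ≤ S) :
    Nat.card A < Nat.card B := by
  have : Finite B := fs_finite_of_le hBS
  by_contra hcon
  push Not at hcon
  exact hAB.ne (Subgroup.eq_of_le_of_card_ge hAB.le hcon)

/-- **Reduction to automorphism groups of fully normalized subgroups**: if `F` is saturated and, for every
fully normalized `R` such that all maps of `F` on larger subgroups lie in `E`, one has `Aut_F(R) ≤ Aut_E(R)`,
then `F ≤ E`. -/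
theorem fs_le_of_autGroup_le [Finite S] (p : ℕ) [Fact p.Prime] (hS : IsPGroup p S) (F E : FusionSystem S)
    (hF : F.IsSaturated p)
    (H : ∀ R : Subgroup Ω, F.IsFullyNormalized R →
      (∀ Q : Subgroup Ω, Q ≤ S → Nat.card R < Nat.card Q → F.Hom Q ⊆ E.Hom Q) →
        F.autGroup R ≤ E.autGroup R) :
    ∀ (k : ℕ) (P : Subgroup Ω) (φ : P →* Ω), φ ∈ F.Hom P → Nat.card S - Nat.card P = k → φ ∈ E.Hom P := by
  intro k
  induction k using Nat.strong_induction_on with
  | _ k ih =>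
    intro P φ hφ hk
    have hPS : P ≤ S := (F.le_of_mem hφ).1
    have hQS : φ.range ≤ S := fs_range_le F hφ
    have hfinP : Finite P := fs_finite_of_le hPS
    have hcardPS : Nat.card P ≤ Nat.card S := Subgroup.card_le_of_le hPS
    have IH' : ∀ Q : Subgroup Ω, Q ≤ S → Nat.card P < Nat.card Q → F.Hom Q ⊆ E.Hom Q := by
      intro Q hQ hlt ψ hψ
      have hcardQS : Nat.card Q ≤ Nat.card S := Subgroup.card_le_of_le hQ
      exact ih (Nat.card S - Nat.card Q) (by omega) Q ψ hψ rfl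
    by_cases hPtop : P = S
    · subst hPtop
      obtain ⟨α, hα, hαφ⟩ := fs_hom_to_aut F hφ (fun y => (F.le_of_mem hφ).2 y)
      have hα' := H P (Cfsg.Agent.S5083.top_fullyNormalized F) IH' hα
      exact fs_mem_of_mem_autGroup E le_rfl hα' hαφ
    · have hPlt : P < S := lt_of_le_of_ne hPS hPtop
      have hcardPQ : Nat.card φ.range = Nat.card P :=
        (Nat.card_congr (MonoidHom.ofInjective (F.injective_of_mem hφ)).toEquiv).symm
      have hQlt : φ.range < S := by
        refine lt_of_le_of_ne hQS ?_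
        intro heq
        have h1 : Nat.card P = Nat.card S := by rw [← hcardPQ, heq]
        have := Subgroup.eq_of_le_of_card_ge hPS (le_of_eq h1.symm)
        exact hPtop this
      obtain ⟨R, hPR, hRn⟩ := fs_exists_fullyNormalized F hPS
      obtain ⟨hRc, hRa⟩ := fs_sylow_axiom p hS F hF hRn
      have hRr := fs_extension_axiom p hS F hF hRc
      have hQR : F.IsConj φ.range R := fs_isConj_trans F (fs_isConj_symm F ⟨φ, hφ, rfl⟩) hPR
      obtain ⟨ψ₁, hψ₁, hψ₁N, hψ₁P⟩ := fs_exists_normalizer_map p hS F R P hRa hRr hPR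
      obtain ⟨ψ₂, hψ₂, hψ₂N, hψ₂Q⟩ := fs_exists_normalizer_map p hS F R φ.range hRa hRr hQR
      have hNP := fs_lt_normalizerIn p hS hPlt
      have hNQ := fs_lt_normalizerIn p hS hQlt
      have hc1 : Nat.card P < Nat.card (normalizerIn S P) := fs_card_lt_of_lt hNP (fs_normalizerIn_le S P)
      have hc2 : Nat.card P < Nat.card (normalizerIn S φ.range) := by
        rw [← hcardPQ]; exact fs_card_lt_of_lt hNQ (fs_normalizerIn_le S _)
      have hψ₁E : ψ₁ ∈ E.Hom _ := IH' _ (fs_normalizerIn_le S P) hc1 hψ₁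
      have hψ₂E : ψ₂ ∈ E.Hom _ := IH' _ (fs_normalizerIn_le S _) hc2 hψ₂
      have hPN : P ≤ normalizerIn S P := hNP.le
      have hQN : φ.range ≤ normalizerIn S φ.range := hNQ.le
      -- the restrictions
      obtain ⟨a, hadef⟩ : ∃ a : P →* Ω, a = ψ₁.comp (Subgroup.inclusion hPN) := ⟨_, rfl⟩
      obtain ⟨b, hbdef⟩ : ∃ b : φ.range →* Ω, b = ψ₂.comp (Subgroup.inclusion hQN) := ⟨_, rfl⟩
      have haF : a ∈ F.Hom P := by rw [hadef]; exact fs_restrict_mem F hψ₁ hPN
      have haE : a ∈ E.Hom P := by rw [hadef]; exact fs_restrict_mem E hψ₁E hPN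
      have hbF : b ∈ F.Hom φ.range := by rw [hbdef]; exact fs_restrict_mem F hψ₂ hQN
      have hbE : b ∈ E.Hom φ.range := by rw [hbdef]; exact fs_restrict_mem E hψ₂E hQN
      have harange : a.range = R := by
        rw [← hψ₁P, hadef]
        ext y
        constructor
        · rintro ⟨x, rfl⟩
          exact ⟨Subgroup.inclusion hPN x, x.2, rfl⟩
        · rintro ⟨x, hx, rfl⟩
          exact ⟨⟨x, hx⟩, rfl⟩
      have hbR : ∀ z : φ.range, b z ∈ R := by
        intro z
        rw [← hψ₂Q, hbdef]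
        exact ⟨Subgroup.inclusion hQN z, z.2, rfl⟩
      have hcardR : Nat.card R = Nat.card P := by
        rw [← harange]
        exact (Nat.card_congr (MonoidHom.ofInjective (F.injective_of_mem haF)).toEquiv).symm
      subst harange
      obtain ⟨θ, hθ, Hθ⟩ := F.inv_mem haF
      have hvalθ : ∀ y : a.range, θ y ∈ P := by
        rintro ⟨_, x, rfl⟩
        rw [Hθ]; exact x.2
      have hρ₁ := F.comp_mem hθ hφ hvalθ
      have hval2 : ∀ y : a.range, (φ.comp (θ.codRestrict P hvalθ)) y ∈ φ.range := fun y => ⟨_, rfl⟩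
      have hρF := F.comp_mem hρ₁ hbF hval2
      obtain ⟨ρ, hρdef⟩ : ∃ ρ : a.range →* Ω,
        ρ = b.comp ((φ.comp (θ.codRestrict P hvalθ)).codRestrict φ.range hval2) := ⟨_, rfl⟩
      rw [← hρdef] at hρF
      have hρval : ∀ y : a.range, ρ y ∈ a.range := by
        intro y
        rw [hρdef]
        exact hbR _
      obtain ⟨α, hα, hαρ⟩ := fs_hom_to_aut F hρF hρval
      have hα' := H a.range hRn (fun Q hQ hlt => IH' Q hQ (by rw [← hcardR]; exact hlt)) hα
      have hρE : ρ ∈ E.Hom a.range := fs_mem_of_mem_autGroup E hRn.1 hα' hαρ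
      have hφQ : ∀ x : P, φ x ∈ φ.range := fun x => ⟨x, rfl⟩
      have haR : ∀ x : P, a x ∈ a.range := fun x => ⟨x, rfl⟩
      refine fs_mem_of_conj_decomp E haE hbE hρE hφQ haR ?_
      intro x
      rw [hρdef]
      simp only [MonoidHom.coe_comp, Function.comp_apply]
      congr 1
      apply Subtype.ext
      simp only [MonoidHom.codRestrict_apply, MonoidHom.coe_comp, Function.comp_apply]
      congr 1
      apply Subtype.ext
      simp only [MonoidHom.codRestrict_apply]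
      exact (Hθ x).symm

end Cfsg.Agent.Lib.Helper9
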