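import Mathlib
import Cfsg.Prelude.Def_FusionSystem
import Cfsg.Agent.Lib.Helper9.FusionAG1

set_option autoImplicit false

namespace Cfsg.Agent.Lib.Helper9

open Cfsg Cfsg.FusionSystem

variable {Ω : Type*} [Group Ω] {S : Subgroup Ω}

/-- If an automorphism `α ∈ Aut_F(R)` of a receptive subgroup `R` has an extender strictly bigger than `R`, and all
maps of `F` on subgroups bigger than `R` are in `E`, then `α ∈ Aut_E(R)`. -/
theorem fs_aut_mem_of_extender_gt [Finite S] (F E : FusionSystem S) {R : Subgroup Ω}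
    (hRr : F.IsReceptive R) {α : MulAut R} (hα : α ∈ F.autGroup R)
    (IH : ∀ Q : Subgroup Ω, Q ≤ S → Nat.card R < Nat.card Q → F.Hom Q ⊆ E.Hom Q)
    {g : Ω} (hg : g ∈ extender S R (R.subtype.comp α.toMonoidHom)) (hgR : g ∉ R) :
    α ∈ E.autGroup R := by
  have hRS : R ≤ S := hRr.1
  rw [mem_autGroup_iff F hRS] at hα
  rw [mem_autGroup_iff E hRS]
  obtain ⟨φ, hφdef⟩ : ∃ φ : R →* Ω, φ = R.subtype.comp α.toMonoidHom := ⟨_, rfl⟩
  rw [← hφdef] at hα hg ⊢
  have hrange : φ.range = R := by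
    rw [hφdef]
    ext y
    constructor
    · rintro ⟨x, rfl⟩
      exact (α x).2
    · intro hy
      refine ⟨α.symm ⟨y, hy⟩, ?_⟩
      simp
  obtain ⟨ψ, hψ, Hψ⟩ := hRr.2 R φ hα hrange
  have hRN : R ≤ extender S R φ := fs_le_extender R φ hRS (F.le_of_mem hα).2
  have hNS : extender S R φ ≤ S := (F.le_of_mem hψ).1
  have hlt : R < extender S R φ := lt_of_le_of_ne hRN (fun heq => hgR (by rw [heq]; exact hg))
  have hψE := IH _ hNS (fs_card_lt_of_lt hlt hNS) hψ
  have h1 := fs_restrict_mem E hψE hRN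
  have : ψ.comp (Subgroup.inclusion hRN) = φ := by
    ext x
    exact Hψ x x.2 (hRN x.2)
  rwa [this] at h1

/-- `|Q ∩ C(Q)| = |Z(Q)|`. -/
theorem card_inf_centralizer_eq_card_center (Q : Subgroup Ω) :
    Nat.card (Q ⊓ Subgroup.centralizer (Q : Set Ω) : Subgroup Ω) = Nat.card (Subgroup.center Q) := by
  have h : (Subgroup.center Q).map Q.subtype = Q ⊓ Subgroup.centralizer (Q : Set Ω) := by
    ext y
    constructor
    · rintro ⟨x, hx, rfl⟩
      have hx' : x ∈ Subgroup.center Q := hx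
      refine ⟨x.2, ?_⟩
      show (x : Ω) ∈ Subgroup.centralizer (Q : Set Ω)
      rw [Subgroup.mem_centralizer_iff]
      intro h hh
      have := (Subgroup.mem_center_iff.mp hx') ⟨h, hh⟩
      exact congrArg Subtype.val this
    · rintro ⟨hyQ, hyC⟩
      have hyC' : y ∈ Subgroup.centralizer (Q : Set Ω) := hyC
      refine ⟨⟨y, hyQ⟩, ?_, rfl⟩
      show (⟨y, hyQ⟩ : Q) ∈ Subgroup.center Q
      rw [Subgroup.mem_center_iff]
      intro g
      apply Subtype.ext
      exact (Subgroup.mem_centralizer_iff.mp hyC') g g.2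
  rw [← h]
  exact Subgroup.card_map_of_injective Q.subtype_injective

/-- A fully centralized subgroup containing its centralizer in `S` is centric. -/
theorem fs_centric_of_fullyCentralized_of_le [Finite S] (F : FusionSystem S) {R : Subgroup Ω}
    (hRc : F.IsFullyCentralized R) (hle : centralizerIn S R ≤ R) : F.IsCentric R := by
  refine ⟨hRc.1, fun Q hRQ => ?_⟩
  have hRS := hRc.1
  have hQS : Q ≤ S := fs_isConj_le_right F hRQ
  have h1 := hRc.2 Q hRQ
  have h2 : centralizerIn S R = R ⊓ Subgroup.centralizer (R : Set Ω) := by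
    apply le_antisymm
    · intro x hx
      exact ⟨hle hx, hx.2⟩
    · intro x hx
      exact ⟨hRS hx.1, hx.2⟩
  obtain ⟨φ, hφ, rfl⟩ := hRQ
  have h3 : Nat.card (Subgroup.center R) = Nat.card (Subgroup.center φ.range) :=
    Nat.card_congr (Subgroup.centerCongr (fsEquiv F hφ)).toEquiv
  have h4 : (φ.range ⊓ Subgroup.centralizer (φ.range : Set Ω) : Subgroup Ω) ≤ centralizerIn S φ.range := by
    intro x hx
    exact ⟨hQS hx.1, hx.2⟩
  have hfin : Finite (centralizerIn S φ.range) := fs_finite_of_le (fs_centralizerIn_le S _)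
  have h5 : Nat.card (centralizerIn S φ.range) ≤
      Nat.card (φ.range ⊓ Subgroup.centralizer (φ.range : Set Ω) : Subgroup Ω) := by
    rw [card_inf_centralizer_eq_card_center, ← h3, ← card_inf_centralizer_eq_card_center, ← h2]
    exact h1
  have h6 := Subgroup.eq_of_le_of_card_ge h4 h5
  rw [← h6]
  exact inf_le_left

/-- **Non-centric case** of the Alperin–Goldschmidt induction. -/
theorem fs_autGroup_le_of_not_centric [Finite S] (p : ℕ) [Fact p.Prime] (hS : IsPGroup p S)
    (F E : FusionSystem S) (hF : F.IsSaturated p) {R : Subgroup Ω} (hRn : F.IsFullyNormalized R)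
    (hnc : ¬ F.IsCentric R)
    (IH : ∀ Q : Subgroup Ω, Q ≤ S → Nat.card R < Nat.card Q → F.Hom Q ⊆ E.Hom Q) :
    F.autGroup R ≤ E.autGroup R := by
  obtain ⟨hRc, hRa⟩ := fs_sylow_axiom p hS F hF hRn
  have hRr := fs_extension_axiom p hS F hF hRc
  have hnle : ¬ centralizerIn S R ≤ R := fun hle => hnc (fs_centric_of_fullyCentralized_of_le F hRc hle)
  obtain ⟨g, hgC, hgR⟩ := SetLike.not_le_iff_exists.mp hnle
  intro α hα
  exact fs_aut_mem_of_extender_gt F E hRr hα IH (fs_centralizerIn_le_extender R _ hgC) hgR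

end Cfsg.Agent.Lib.Helper9
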