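import Mathlib
import Cfsg.Prelude.Def_EvenType
import Cfsg.Prelude.Def_ClassificationK

set_option autoImplicit false

namespace Cfsg.Agent.Lib.Helper9

open Cfsg

/-- If `A / I` has no strongly `p`-embedded subgroup, `I ≤ T₀` with `T₀` a Sylow `p`-subgroup of `A` different from `I`,
and `H ≥ I` contains the normalizers of all `Q` with `I < Q ≤ T₀`, then `H = A`. -/
theorem eq_top_of_no_stronglyPEmbedded {A : Type*} [Group A] [Finite A] (p : ℕ) [Fact p.Prime]
    (I : Subgroup A) [I.Normal] (T₀ : Sylow p A) (hIT : I ≤ T₀) (hne : (T₀ : Subgroup A) ≠ I)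
    (hnse : ∀ E' : Subgroup (A ⧸ I), ¬ IsStronglyPEmbedded p E')
    (H : Subgroup A) (hIH : I ≤ H)
    (hH : ∀ Q : Subgroup A, I < Q → Q ≤ T₀ → Subgroup.normalizer (Q : Set A) ≤ H) : H = ⊤ := by
  classical
  obtain ⟨π, hπ⟩ : ∃ π : A →* A ⧸ I, π = QuotientGroup.mk' I := ⟨_, rfl⟩
  have hπs : Function.Surjective π := by rw [hπ]; exact QuotientGroup.mk'_surjective I
  have hker : π.ker = I := by rw [hπ]; exact QuotientGroup.ker_mk' I
  obtain ⟨T, hTdef⟩ : ∃ T : Sylow p (A ⧸ I), T = T₀.mapSurjective hπs := ⟨_, rfl⟩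
  have hT : (T : Subgroup (A ⧸ I)) = (T₀ : Subgroup A).map π := by
    rw [hTdef]; exact Sylow.coe_mapSurjective hπs T₀
  have hcomapT : (T : Subgroup (A ⧸ I)).comap π = T₀ := by
    rw [hT, Subgroup.comap_map_eq, hker]
    exact sup_eq_left.mpr hIT
  have hTne : (T : Subgroup (A ⧸ I)) ≠ ⊥ := by
    intro h0
    apply hne
    apply le_antisymm _ hIT
    intro x hx
    have : π x ∈ (T : Subgroup (A ⧸ I)) := by rw [hT]; exact Subgroup.mem_map_of_mem π hx
    rw [h0, Subgroup.mem_bot] at this
    rw [← hker]; exact this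
  have hpdvd : p ∣ Nat.card (A ⧸ I) := by
    have h1 : Nat.card (T : Subgroup (A ⧸ I)) ∣ Nat.card (A ⧸ I) := Subgroup.card_subgroup_dvd_card _
    rcases T.isPGroup'.card_eq_or_dvd with h2 | h2
    · exact absurd (Subgroup.card_eq_one.mp h2) hTne
    · exact h2.trans h1
  have hΓ : kGeneratedCore p 1 (T : Subgroup (A ⧸ I)) ≤ H.map π := by
    unfold kGeneratedCore
    apply iSup_le
    rintro ⟨Q', hQT, hQr⟩
    show Subgroup.normalizer (Q' : Set (A ⧸ I)) ≤ H.map π
    have hQne : Q' ≠ ⊥ := by
      rintro rfl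
      apply hQr
      intro B _ _
      have : Subsingleton B := by
        constructor
        intro a b
        apply Subtype.ext
        apply Subtype.ext
        have ha := (a : (⊥ : Subgroup (A ⧸ I))).2
        have hb := (b : (⊥ : Subgroup (A ⧸ I))).2
        rw [Subgroup.mem_bot] at ha hb
        rw [ha, hb]
      have h1 : Nat.card B ≤ 1 := Finite.card_le_one_iff_subsingleton.mpr this
      simpa using h1
    intro a' ha'
    obtain ⟨α, rfl⟩ := hπs a'
    apply Subgroup.mem_map_of_mem
    have hlt : I < Q'.comap π := by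
      refine lt_of_le_of_ne ?_ ?_
      · intro x hx
        rw [← hker] at hx
        rw [Subgroup.mem_comap, MonoidHom.mem_ker.mp hx]
        exact Q'.one_mem
      · intro heq
        apply hQne
        rw [← Subgroup.map_comap_eq_self_of_surjective hπs Q', ← heq]
        rw [Subgroup.map_eq_bot_iff, hker]
    have hle : Q'.comap π ≤ T₀ := by
      rw [← hcomapT]
      exact Subgroup.comap_mono hQT
    apply hH _ hlt hle
    apply Subgroup.le_normalizer_comap π
    exact ha'
  have hmap : H.map π = ⊤ := by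
    by_contra hne'
    exact hnse _ ⟨hpdvd, hne', T, hΓ⟩
  have h1 : (H.map π).comap π = H := by
    rw [Subgroup.comap_map_eq, hker]
    exact sup_eq_left.mpr hIH
  rw [← h1, hmap]
  exact Subgroup.comap_top π

end Cfsg.Agent.Lib.Helper9
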