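import Mathlib
import Cfsg.Prelude.Def_FusionSystem
import Cfsg.Agent.Lib.Helper9.FusionAG2
import Cfsg.Agent.Lib.Helper9.StronglyEmbAux
import Cfsg.Agent.Lib.Helper9.GroupFusion3

set_option autoImplicit false

namespace Cfsg.Agent.Lib.Helper9

open Cfsg Cfsg.FusionSystem

variable {Ω : Type*} [Group Ω] {S : Subgroup Ω}

/-- `Inn(R) ≤ Aut_S(R)` for `R ≤ S`. -/
theorem inn_le_autInducedBy {R : Subgroup Ω} (hRS : R ≤ S) : Inn R ≤ autInducedBy S R := by
  rintro _ ⟨r, rfl⟩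
  rw [mem_autInducedBy_iff]
  exact ⟨r, hRS r.2, fun x => by simp [MulAut.conj_apply]⟩

/-- An element inducing an automorphism of `R` normalizes `R`. -/
theorem mem_normalizer_of_induces {R : Subgroup Ω} (q : MulAut R) (g : Ω)
    (Hg : ∀ x : R, ((q x : R) : Ω) = g * x * g⁻¹) : g ∈ Subgroup.normalizer (R : Set Ω) := by
  rw [Subgroup.mem_normalizer_iff]
  intro y
  constructor
  · intro hy
    rw [← Hg ⟨y, hy⟩]
    exact (q _).2
  · intro hy
    have h1 := Hg (q⁻¹ ⟨g * y * g⁻¹, hy⟩)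
    rw [MulAut.apply_inv_self] at h1
    have h2 : y = ((q⁻¹ ⟨g * y * g⁻¹, hy⟩ : R) : Ω) := by
      have h3 : g * y * g⁻¹ = g * ((q⁻¹ ⟨g * y * g⁻¹, hy⟩ : R) : Ω) * g⁻¹ := h1
      have h4 := mul_left_cancel (mul_right_cancel h3)
      exact h4
    rw [h2]
    exact (q⁻¹ _).2

/-- If `C_S(R) ≤ R` and `g ∈ S` induces an inner automorphism of `R`, then `g ∈ R`. -/
theorem mem_of_induces_inner {R : Subgroup Ω} (hle : centralizerIn S R ≤ R) {q : MulAut R}
    (hq : q ∈ Inn R) {g : Ω} (hgS : g ∈ S) (hRS : R ≤ S)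
    (Hg : ∀ x : R, ((q x : R) : Ω) = g * x * g⁻¹) : g ∈ R := by
  obtain ⟨r, rfl⟩ := hq
  have h1 : (r : Ω)⁻¹ * g ∈ centralizerIn S R := by
    refine ⟨S.mul_mem (S.inv_mem (hRS r.2)) hgS, ?_⟩
    show (r : Ω)⁻¹ * g ∈ Subgroup.centralizer (R : Set Ω)
    rw [Subgroup.mem_centralizer_iff]
    intro x hx
    have h2 := Hg ⟨x, hx⟩
    simp only [MulAut.conj_apply, Subgroup.coe_mul, Subgroup.coe_inv] at h2
    -- r x r⁻¹ = g x g⁻¹
    calc x * ((r : Ω)⁻¹ * g) = (r : Ω)⁻¹ * ((r : Ω) * x * (r : Ω)⁻¹) * g := by group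
      _ = (r : Ω)⁻¹ * (g * x * g⁻¹) * g := by rw [h2]
      _ = (r : Ω)⁻¹ * g * x := by group
  have h3 := R.mul_mem r.2 (hle h1)
  have h4 : (r : Ω) * ((r : Ω)⁻¹ * g) = g := by group
  rwa [h4] at h3

/-- **Centric, non-essential case** of the Alperin–Goldschmidt induction. -/
theorem fs_autGroup_le_of_centric_not_essential [Finite S] (p : ℕ) [Fact p.Prime] (hS : IsPGroup p S)
    (F E : FusionSystem S) (hF : F.IsSaturated p) {R : Subgroup Ω} (hRn : F.IsFullyNormalized R)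
    (hRlt : R < S) (hc : F.IsCentric R) (hne : ¬ F.IsEssential p R)
    (IH : ∀ Q : Subgroup Ω, Q ≤ S → Nat.card R < Nat.card Q → F.Hom Q ⊆ E.Hom Q) :
    F.autGroup R ≤ E.autGroup R := by
  have hRS : R ≤ S := hRn.1
  haveI : Finite R := fs_finite_of_le hRS
  obtain ⟨hRc, hRa⟩ := fs_sylow_axiom p hS F hF hRn
  have hRr := fs_extension_axiom p hS F hF hRc
  obtain ⟨-, T₀, hT₀⟩ := hRa
  haveI hInorm : ((Inn R).subgroupOf (F.autGroup R)).Normal := inferInstance
  have hnse : ∀ E' : Subgroup (F.autGroup R ⧸ (Inn R).subgroupOf (F.autGroup R)),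
      ¬ IsStronglyPEmbedded p E' :=
    fun E' h => hne ⟨hc, hRn, hInorm, E', h⟩
  have hInnS : Inn R ≤ autInducedBy S R := inn_le_autInducedBy hRS
  have hCle : centralizerIn S R ≤ R := hc.2 R (fs_isConj_refl F hRS)
  have hIT : (Inn R).subgroupOf (F.autGroup R) ≤ T₀ := by
    rw [hT₀]; exact Subgroup.comap_mono hInnS
  have hTne : (T₀ : Subgroup (F.autGroup R)) ≠ (Inn R).subgroupOf (F.autGroup R) := by
    intro heq
    obtain ⟨g₀, hg₀N, hg₀R⟩ := SetLike.exists_of_lt (fs_lt_normalizerIn p hS hRlt)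
    obtain ⟨c, hc'⟩ : ∃ c : MulAut R, c = R.normalizerMonoidHom ⟨g₀, hg₀N.2⟩ := ⟨_, rfl⟩
    have hcg : ∀ x : R, ((c x : R) : Ω) = g₀ * x * g₀⁻¹ := by
      intro x; rw [hc']; rfl
    have hcS : c ∈ autInducedBy S R := by
      rw [mem_autInducedBy_iff]
      exact ⟨g₀, hg₀N.1, hcg⟩
    have hcF : c ∈ F.autGroup R := autInducedBy_le_autGroup F hRS hcS
    have hcT : (⟨c, hcF⟩ : F.autGroup R) ∈ (T₀ : Subgroup (F.autGroup R)) := by
      rw [hT₀, Subgroup.mem_subgroupOf]; exact hcS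
    rw [heq, Subgroup.mem_subgroupOf] at hcT
    exact hg₀R (mem_of_induces_inner hCle hcT hg₀N.1 hRS hcg)
  have hIH : (Inn R).subgroupOf (F.autGroup R) ≤ (E.autGroup R).subgroupOf (F.autGroup R) :=
    Subgroup.comap_mono (hInnS.trans (autInducedBy_le_autGroup E hRS))
  have key := eq_top_of_no_stronglyPEmbedded p _ T₀ hIT hTne hnse _ hIH ?_
  · exact Subgroup.subgroupOf_eq_top.mp key
  · intro Q' hlt hle α hα
    obtain ⟨q, hqQ, hqI⟩ := SetLike.exists_of_lt hlt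
    have hqT : q ∈ (T₀ : Subgroup (F.autGroup R)) := hle hqQ
    rw [hT₀, Subgroup.mem_subgroupOf, mem_autInducedBy_iff] at hqT
    obtain ⟨g, hgS, Hg⟩ := hqT
    have hgR : g ∉ R := by
      intro hgR
      apply hqI
      rw [Subgroup.mem_subgroupOf]
      refine ⟨⟨g, hgR⟩, ?_⟩
      ext x
      rw [Hg x]
      simp [MulAut.conj_apply]
    have hconj : α * q * α⁻¹ ∈ Q' := (Subgroup.mem_normalizer_iff.mp hα q).mp hqQ
    have hconjT : α * q * α⁻¹ ∈ (T₀ : Subgroup (F.autGroup R)) := hle hconj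
    rw [hT₀, Subgroup.mem_subgroupOf, mem_autInducedBy_iff] at hconjT
    obtain ⟨h, hhS, Hh⟩ := hconjT
    have hgN : g ∈ Subgroup.normalizer (R : Set Ω) := mem_normalizer_of_induces (q : MulAut R) g Hg
    rw [Subgroup.mem_subgroupOf]
    refine fs_aut_mem_of_extender_gt F E hRr α.2 IH ?_ hgR
    rw [mem_extender_iff]
    refine ⟨hgS, hgN, h, hhS, ?_⟩
    intro x hx
    have h1 := Hh ((α : MulAut R) x)
    have h2 : ((α * q * α⁻¹ : F.autGroup R) : MulAut R) ((α : MulAut R) x)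
        = (α : MulAut R) ((q : MulAut R) x) := by
      simp only [Subgroup.coe_mul, Subgroup.coe_inv, MulAut.mul_apply, MulAut.inv_apply_self]
    rw [h2] at h1
    have h3 : (q : MulAut R) x = ⟨g * x * g⁻¹, hx⟩ := Subtype.ext (Hg x)
    rw [h3] at h1
    exact h1

/-- **Alperin–Goldschmidt fusion theorem.** -/
theorem fs_alperin_goldschmidt [Finite S] (p : ℕ) [Fact p.Prime] (hS : IsPGroup p S)
    (F : FusionSystem S) (hF : F.IsSaturated p) (E : FusionSystem S)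
    (hE : ∀ P : Subgroup Ω, (P = S ∨ F.IsEssential p P) → F.autGroup P ≤ E.autGroup P) : F ≤ E := by
  intro P φ hφ
  refine fs_le_of_autGroup_le p hS F E hF ?_ _ P φ hφ rfl
  intro R hRn IH
  by_cases hRtop : R = S
  · exact hE R (Or.inl hRtop)
  have hRlt : R < S := lt_of_le_of_ne hRn.1 hRtop
  by_cases hc : F.IsCentric R
  · by_cases hess : F.IsEssential p R
    · exact hE R (Or.inr hess)
    · exact fs_autGroup_le_of_centric_not_essential p hS F E hF hRn hRlt hc hess IH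
  · exact fs_autGroup_le_of_not_centric p hS F E hF hRn hc IH

end Cfsg.Agent.Lib.Helper9
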