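import Mathlib
import Cfsg.Prelude.Def_FusionSystem
import Cfsg.Agent.Lib.Helper9.FusionBasic

set_option autoImplicit false

namespace Cfsg.Agent.Lib.Helper9

open Cfsg Cfsg.FusionSystem

variable {Ω : Type*} [Group Ω] {S : Subgroup Ω}

/-- A map of the system carries the elements of a strongly closed subgroup into it. -/
theorem fs_stronglyClosed_mem (F : FusionSystem S) {T : Subgroup Ω} (hT : F.StronglyClosed T)
    {P : Subgroup Ω} {φ : P →* Ω} (hφ : φ ∈ F.Hom P) (x : P) (hx : (x : Ω) ∈ T) : φ x ∈ T := by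
  have hle : P ⊓ T ≤ P := inf_le_left
  have h1 := fs_restrict_mem F hφ hle
  have h2 := hT.2 (P ⊓ T) inf_le_right _ h1 ⟨x, x.2, hx⟩
  exact h2

/-- For a finite `S`, a map of the system whose source contains the strongly closed subgroup `T` carries exactly
the elements of `T` into `T`. -/
theorem fs_stronglyClosed_mem_iff [Finite S] (F : FusionSystem S) {T : Subgroup Ω} (hT : F.StronglyClosed T)
    {P : Subgroup Ω} {φ : P →* Ω} (hφ : φ ∈ F.Hom P) (hTP : T ≤ P) (x : P) :
    φ x ∈ T ↔ (x : Ω) ∈ T := by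
  refine ⟨fun hx => ?_, fs_stronglyClosed_mem F hT hφ x⟩
  have hTfin : Finite T := Finite.of_injective (Subgroup.inclusion hT.1) (Subgroup.inclusion_injective hT.1)
  let f : T → T := fun t => ⟨φ ⟨t, hTP t.2⟩, fs_stronglyClosed_mem F hT hφ ⟨t, hTP t.2⟩ t.2⟩
  have hfinj : Function.Injective f := by
    intro a b hab
    have h1 : φ ⟨a, hTP a.2⟩ = φ ⟨b, hTP b.2⟩ := congrArg Subtype.val hab
    have h2 := F.injective_of_mem hφ h1
    exact Subtype.ext (congrArg (fun t : P => (t : Ω)) h2)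
  have hfsurj : Function.Surjective f := Finite.surjective_of_injective hfinj
  obtain ⟨t, ht⟩ := hfsurj ⟨φ x, hx⟩
  have h1 : φ ⟨t, hTP t.2⟩ = φ x := congrArg Subtype.val ht
  have h2 := F.injective_of_mem hφ h1
  rw [← h2]
  exact t.2

end Cfsg.Agent.Lib.Helper9
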