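import Mathlib
import Cfsg.Prelude.Def_FusionComponents
import Cfsg.Agent.Lib.Helper9.FusionStrongly

set_option autoImplicit false

namespace Cfsg.Agent.Lib.Helper9

open Cfsg Cfsg.FusionSystem

variable {Ω : Type*} [Group Ω] {S : Subgroup Ω} {Ω' : Type*} [Group Ω']

theorem mem_preimageAlong_iff (θ : S →* Ω') (P' : Subgroup Ω') (x : Ω) :
    x ∈ preimageAlong θ P' ↔ ∃ hx : x ∈ S, θ ⟨x, hx⟩ ∈ P' := by
  constructor
  · rintro ⟨s, hs, rfl⟩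
    exact ⟨s.2, hs⟩
  · rintro ⟨hx, h⟩
    exact ⟨⟨x, hx⟩, h, rfl⟩

theorem preimageAlong_le (θ : S →* Ω') (P' : Subgroup Ω') : preimageAlong θ P' ≤ S := by
  intro x hx
  exact ((mem_preimageAlong_iff θ P' x).mp hx).1

theorem apply_mem_of_mem_preimageAlong (θ : S →* Ω') (P' : Subgroup Ω') (x : preimageAlong θ P') :
    θ ⟨x, preimageAlong_le θ P' x.2⟩ ∈ P' :=
  ((mem_preimageAlong_iff θ P' x).mp x.2).2

theorem ker_le_preimageAlong (θ : S →* Ω') (P' : Subgroup Ω') {S₀ : Subgroup Ω} (hS₀ : S₀ ≤ S)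
    (hker : ∀ s : S, θ s = 1 ↔ (s : Ω) ∈ S₀) : S₀ ≤ preimageAlong θ P' := by
  intro x hx
  rw [mem_preimageAlong_iff]
  refine ⟨hS₀ hx, ?_⟩
  rw [(hker ⟨x, hS₀ hx⟩).mpr hx]
  exact P'.one_mem

/-- The basic equation of an induced map, in a convenient form. -/
theorem inducedAlong_apply {θ : S →* Ω'} {P : Subgroup Ω} {φ : P →* Ω} {P' : Subgroup Ω'} {φ' : P' →* Ω'}
    (h : InducedAlong θ φ φ') (x : P) (hxS : (x : Ω) ∈ S) (hx' : θ ⟨x, hxS⟩ ∈ P') (hφS : φ x ∈ S) :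
    φ' ⟨θ ⟨x, hxS⟩, hx'⟩ = θ ⟨φ x, hφS⟩ := by
  obtain ⟨hP, hφ, hP', he⟩ := h
  exact he x

end Cfsg.Agent.Lib.Helper9
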