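import Mathlib

set_option autoImplicit false

namespace Cfsg.Agent.Lib.Helper9

variable {P : Type*} [Group P]

/-- If `β` fixes `B` pointwise and moves the elements of `A` by elements of `B`, then `β ^ |P|` fixes `A`
pointwise. -/
theorem stab_step [Finite P] {A B : Subgroup P} (β : MulAut P) (hB : ∀ y ∈ B, β y = y)
    (hA : ∀ x ∈ A, x⁻¹ * β x ∈ B) : ∀ x ∈ A, (β ^ Nat.card P) x = x := by
  intro x hx
  obtain ⟨y, hydef⟩ : ∃ y : P, y = x⁻¹ * β x := ⟨_, rfl⟩
  have hy : y ∈ B := by rw [hydef]; exact hA x hx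
  have hβx : β x = x * y := by rw [hydef]; group
  have key : ∀ n : ℕ, (β ^ n) x = x * y ^ n := by
    intro n
    induction n with
    | zero => simp
    | succ n ih =>
      rw [pow_succ', MulAut.mul_apply, ih, map_mul, map_pow, hB _ hy, hβx, pow_succ', mul_assoc]
  rw [key, pow_card_eq_one', mul_one]

/-- `α` stabilizes the chain `Ps`: it moves every element of `Ps (i+1)` by an element of `Ps i`. -/
def StabChain (Ps : ℕ → Subgroup P) (α : MulAut P) : Prop :=
  ∀ i : ℕ, ∀ x ∈ Ps (i + 1), x⁻¹ * α x ∈ Ps i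

theorem stabChain_invariant {Ps : ℕ → Subgroup P} (hmono : Monotone Ps) (h0 : Ps 0 = ⊥) {α : MulAut P}
    (hα : StabChain Ps α) : ∀ i : ℕ, ∀ y ∈ Ps i, α y ∈ Ps i := by
  intro i y hy
  cases i with
  | zero =>
    rw [h0, Subgroup.mem_bot] at hy
    rw [hy, map_one]; exact Subgroup.one_mem _
  | succ i =>
    have h1 := hmono (Nat.le_succ i) (hα i y hy)
    have h2 : α y = y * (y⁻¹ * α y) := by group
    rw [h2]
    exact Subgroup.mul_mem _ hy h1

theorem stabChain_one (Ps : ℕ → Subgroup P) : StabChain Ps 1 := by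
  intro i x _
  simp

theorem stabChain_mul {Ps : ℕ → Subgroup P} (hmono : Monotone Ps) (h0 : Ps 0 = ⊥) {α β : MulAut P}
    (hα : StabChain Ps α) (hβ : StabChain Ps β) : StabChain Ps (α * β) := by
  intro i x hx
  have h1 := hβ i x hx
  have h2 := hα i x hx
  have h3 := stabChain_invariant hmono h0 hα i _ h1
  have h4 : x⁻¹ * (α * β) x = (x⁻¹ * α x) * α (x⁻¹ * β x) := by
    rw [MulAut.mul_apply, map_mul, map_inv]
    group
  rw [h4]
  exact Subgroup.mul_mem _ h2 h3

theorem stabChain_pow {Ps : ℕ → Subgroup P} (hmono : Monotone Ps) (h0 : Ps 0 = ⊥) {α : MulAut P}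
    (hα : StabChain Ps α) (n : ℕ) : StabChain Ps (α ^ n) := by
  induction n with
  | zero => rw [pow_zero]; exact stabChain_one Ps
  | succ n ih => rw [pow_succ]; exact stabChain_mul hmono h0 ih hα

theorem stabChain_inv [Finite P] {Ps : ℕ → Subgroup P} (hmono : Monotone Ps) (h0 : Ps 0 = ⊥)
    {α : MulAut P} (hα : StabChain Ps α) : StabChain Ps α⁻¹ := by
  have h1 : α⁻¹ = α ^ (orderOf α - 1) := by
    apply inv_eq_of_mul_eq_one_right
    rw [← pow_succ', Nat.sub_add_cancel (orderOf_pos α), pow_orderOf_eq_one]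
  rw [h1]
  exact stabChain_pow hmono h0 hα _

/-- The stabilizer of a chain of subgroups, as a subgroup of `Aut(P)`. -/
def chainStabilizer [Finite P] (Ps : ℕ → Subgroup P) (hmono : Monotone Ps) (h0 : Ps 0 = ⊥) :
    Subgroup (MulAut P) where
  carrier := {α | StabChain Ps α}
  one_mem' := stabChain_one Ps
  mul_mem' := fun ha hb => stabChain_mul hmono h0 ha hb
  inv_mem' := fun ha => stabChain_inv hmono h0 ha

theorem mem_chainStabilizer_iff [Finite P] (Ps : ℕ → Subgroup P) (hmono : Monotone Ps) (h0 : Ps 0 = ⊥)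
    (α : MulAut P) : α ∈ chainStabilizer Ps hmono h0 ↔ StabChain Ps α := Iff.rfl

/-- Conjugating by an automorphism that preserves the chain preserves the stabilizer. -/
theorem stabChain_conj {Ps : ℕ → Subgroup P} {α β : MulAut P} (hα : StabChain Ps α)
    (hβ : ∀ i : ℕ, ∀ y ∈ Ps i, β y ∈ Ps i) (hβ' : ∀ i : ℕ, ∀ y ∈ Ps i, β⁻¹ y ∈ Ps i) :
    StabChain Ps (β * α * β⁻¹) := by
  intro i x hx
  have h1 := hα i _ (hβ' (i + 1) x hx)
  have h2 := hβ i _ h1
  have h3 : x⁻¹ * (β * α * β⁻¹) x = β ((β⁻¹ x)⁻¹ * α (β⁻¹ x)) := by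
    rw [MulAut.mul_apply, MulAut.mul_apply, map_mul, map_inv, MulAut.apply_inv_self]
  rw [h3]
  exact h2

/-- The stabilizer of a chain reaching the whole group is a `p`-group when `P` is. -/
theorem stabChain_pow_eq_one [Finite P] (p : ℕ) [Fact p.Prime] (hP : IsPGroup p P) {Ps : ℕ → Subgroup P}
    (hmono : Monotone Ps) (h0 : Ps 0 = ⊥) (M : ℕ) (hM : Ps M = ⊤) {α : MulAut P}
    (hα : StabChain Ps α) : ∃ k : ℕ, α ^ p ^ k = 1 := by
  obtain ⟨e, he⟩ := IsPGroup.iff_card.mp hP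
  have key : ∀ i : ℕ, ∃ k : ℕ, ∀ x ∈ Ps i, (α ^ p ^ k) x = x := by
    intro i
    induction i with
    | zero =>
      refine ⟨0, fun x hx => ?_⟩
      rw [h0, Subgroup.mem_bot] at hx
      rw [hx, map_one]
    | succ i ih =>
      obtain ⟨k, hk⟩ := ih
      refine ⟨k + e, ?_⟩
      have h1 := stab_step (A := Ps (i + 1)) (B := Ps i) (α ^ p ^ k) hk
        (stabChain_pow hmono h0 hα (p ^ k) i)
      rw [he, ← pow_mul, ← pow_add] at h1
      exact h1
  obtain ⟨k, hk⟩ := key M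
  refine ⟨k, ?_⟩
  ext x
  rw [hk x (by rw [hM]; trivial)]
  rfl

theorem isPGroup_chainStabilizer [Finite P] (p : ℕ) [Fact p.Prime] (hP : IsPGroup p P) {Ps : ℕ → Subgroup P}
    (hmono : Monotone Ps) (h0 : Ps 0 = ⊥) (M : ℕ) (hM : Ps M = ⊤) :
    IsPGroup p (chainStabilizer Ps hmono h0) := by
  rintro ⟨α, hα⟩
  obtain ⟨k, hk⟩ := stabChain_pow_eq_one p hP hmono h0 M hM hα
  exact ⟨k, Subtype.ext hk⟩

end Cfsg.Agent.Lib.Helper9
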