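import Mathlib
import Cfsg.Prelude.Def_FusionSystem
import Cfsg.Agent.Lib.Helper9.FusionBasic

set_option autoImplicit false

namespace Cfsg.Agent.Lib.Helper9

open Cfsg Cfsg.FusionSystem

variable {Ω : Type*} [Group Ω] {S : Subgroup Ω}

/-- The image of a homomorphism defined on `P ⊔ Q` is generated by the images of `P` and of `Q`. -/
theorem sup_range_eq {Ω' : Type*} [Group Ω'] {P Q : Subgroup Ω} (ψ : ↥(P ⊔ Q) →* Ω') :
    ψ.range = (P.subgroupOf (P ⊔ Q)).map ψ ⊔ (Q.subgroupOf (P ⊔ Q)).map ψ := by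
  rw [← Subgroup.map_sup, codisjoint_iff.mp (Subgroup.codisjoint_subgroupOf_sup P Q),
    ← MonoidHom.range_eq_map]

/-- If `ψ` on `P ⊔ Q` extends `φ` on `P`, the image of `P` under `ψ` is the image of `φ`. -/
theorem sup_map_left_eq_range {Ω' : Type*} [Group Ω'] {P Q : Subgroup Ω} (ψ : ↥(P ⊔ Q) →* Ω') (φ : P →* Ω')
    (h : ∀ x : P, ψ (Subgroup.inclusion le_sup_left x) = φ x) :
    (P.subgroupOf (P ⊔ Q)).map ψ = φ.range := by
  ext y
  constructor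
  · rintro ⟨x, hx, rfl⟩
    have hxP : (x : Ω) ∈ P := hx
    refine ⟨⟨x, hxP⟩, ?_⟩
    rw [← h]
    rfl
  · rintro ⟨x, rfl⟩
    refine ⟨Subgroup.inclusion le_sup_left x, ?_, h x⟩
    show ((Subgroup.inclusion le_sup_left x : ↥(P ⊔ Q)) : Ω) ∈ P
    exact x.2

/-- Two homomorphisms on `P ⊔ Q` that agree on `P` and on `Q` are equal. -/
theorem sup_hom_ext {Ω' : Type*} [Group Ω'] {P Q : Subgroup Ω} (ψ ψ' : ↥(P ⊔ Q) →* Ω')
    (hP : ∀ x : P, ψ (Subgroup.inclusion le_sup_left x) = ψ' (Subgroup.inclusion le_sup_left x))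
    (hQ : ∀ x : Q, ψ (Subgroup.inclusion le_sup_right x) = ψ' (Subgroup.inclusion le_sup_right x)) :
    ψ = ψ' := by
  have h : (⊤ : Subgroup ↥(P ⊔ Q)) ≤ ψ.eqLocus ψ' := by
    rw [← codisjoint_iff.mp (Subgroup.codisjoint_subgroupOf_sup P Q)]
    apply sup_le
    · intro x hx
      have hxP : (x : Ω) ∈ P := hx
      exact hP ⟨x, hxP⟩
    · intro x hx
      have hxQ : (x : Ω) ∈ Q := hx
      exact hQ ⟨x, hxQ⟩
  ext x
  exact h (Subgroup.mem_top x)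

/-- Every value of `ψ` on `P ⊔ Q` lies in a subgroup `K` as soon as the values on `P` and on `Q` do. -/
theorem sup_forall_mem {Ω' : Type*} [Group Ω'] {P Q : Subgroup Ω} (ψ : ↥(P ⊔ Q) →* Ω') (K : Subgroup Ω')
    (hP : ∀ x : P, ψ (Subgroup.inclusion le_sup_left x) ∈ K)
    (hQ : ∀ x : Q, ψ (Subgroup.inclusion le_sup_right x) ∈ K) (x : ↥(P ⊔ Q)) : ψ x ∈ K := by
  have h : (⊤ : Subgroup ↥(P ⊔ Q)) ≤ K.comap ψ := by
    rw [← codisjoint_iff.mp (Subgroup.codisjoint_subgroupOf_sup P Q)]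
    apply sup_le
    · intro x hx
      have hxP : (x : Ω) ∈ P := hx
      exact hP ⟨x, hxP⟩
    · intro x hx
      have hxQ : (x : Ω) ∈ Q := hx
      exact hQ ⟨x, hxQ⟩
  exact h (Subgroup.mem_top x)

end Cfsg.Agent.Lib.Helper9
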