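import Mathlib
import Cfsg.Prelude.Def_FusionSystem
import Cfsg.Agent.S5096
import Cfsg.Agent.Lib.Helper9.FusionAG3

set_option autoImplicit false

namespace Cfsg.Agent.Lib.Helper9

open Cfsg Cfsg.FusionSystem

variable {Ω : Type*} [Group Ω] {S : Subgroup Ω}

/-- Transport of a fusion system along an equality of base subgroups. -/
theorem fs_cast_system {T S : Subgroup Ω} (h : T = S) (N : FusionSystem T) :
    ∃ E : FusionSystem S, ∀ P : Subgroup Ω, E.Hom P = N.Hom P := by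
  subst h
  exact ⟨N, fun _ => rfl⟩

/-- If `Q ≤ S` is normalized by `S`, the normalizer system of `Q` is a fusion system over `S`. -/
theorem fs_exists_normalizer_system_top (F : FusionSystem S) (Q : Subgroup Ω) (hQ : Q ≤ S)
    (hQN : S ≤ Subgroup.normalizer (Q : Set Ω)) :
    ∃ E : FusionSystem S, ∀ P : Subgroup Ω, E.Hom P = F.normalizerHom Q P := by
  obtain ⟨N, hN⟩ := Cfsg.Agent.S5096.result F Q hQ
  have h : normalizerIn S Q = S := by
    apply le_antisymm inf_le_left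
    exact le_inf le_rfl hQN
  obtain ⟨E, hE⟩ := fs_cast_system h N
  exact ⟨E, fun P => (hE P).trans (hN P)⟩

/-- A subgroup normal in the system is strongly closed. -/
theorem fs_stronglyClosed_of_isNormal (F : FusionSystem S) {Q : Subgroup Ω} (hQ : F.IsNormal Q) :
    F.StronglyClosed Q := by
  refine ⟨hQ.1, ?_⟩
  intro R hRQ φ hφ x
  obtain ⟨ψ, hψ, hψφ, hψQ⟩ := hQ.2 R φ hφ
  rw [← hψφ x]
  have h1 : ψ (Subgroup.inclusion le_sup_left x) ∈ (Q.subgroupOf (R ⊔ Q)).map ψ := by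
    refine ⟨_, ?_, rfl⟩
    show ((Subgroup.inclusion le_sup_left x : ↥(R ⊔ Q)) : Ω) ∈ Q
    exact hRQ x.2
  rw [hψQ] at h1
  exact h1

/-- **(c) ⇒ (a)**: if `Q` is contained in `S` and in every essential subgroup and is invariant under their
automorphism groups, then `Q` is normal in the system. -/
theorem fs_isNormal_of_essential_invariant [Finite S] (p : ℕ) [Fact p.Prime] (hS : IsPGroup p S)
    (F : FusionSystem S) (hF : F.IsSaturated p) (Q : Subgroup Ω)
    (h : ∀ P : Subgroup Ω, (P = S ∨ F.IsEssential p P) →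
      (Q ≤ P ∧ ∀ α ∈ F.autGroup P, (Q.subgroupOf P).map α.toMonoidHom = Q.subgroupOf P)) :
    F.IsNormal Q := by
  have hQS : Q ≤ S := (h S (Or.inl rfl)).1
  -- Q is normal in S
  have hQN : S ≤ Subgroup.normalizer (Q : Set Ω) := by
    intro g hg
    obtain ⟨α, hα, Hα⟩ := fs_hom_to_aut F (F.conj_mem le_rfl hg)
      (fun y => S.mul_mem (S.mul_mem hg y.2) (S.inv_mem hg))
    have h1 := (h S (Or.inl rfl)).2 α hα
    have hfwd : ∀ y ∈ Q, g * y * g⁻¹ ∈ Q := by
      intro y hy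
      have h2 : α ⟨y, hQS hy⟩ ∈ (Q.subgroupOf S).map α.toMonoidHom := ⟨⟨y, hQS hy⟩, hy, rfl⟩
      rw [h1] at h2
      have h3 : ((α ⟨y, hQS hy⟩ : S) : Ω) ∈ Q := h2
      rw [Hα] at h3
      exact h3
    rw [Subgroup.mem_normalizer_iff]
    intro y
    refine ⟨hfwd y, fun hy => ?_⟩
    have h2 : (⟨g * y * g⁻¹, hQS hy⟩ : S) ∈ (Q.subgroupOf S).map α.toMonoidHom := by
      rw [h1]; exact hy
    obtain ⟨z, hz, hzy⟩ := h2
    have hzQ : (z : Ω) ∈ Q := hz
    have h3 : ((α z : S) : Ω) = g * y * g⁻¹ := congrArg Subtype.val hzy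
    rw [Hα] at h3
    have h4 : (z : Ω) = y := by
      have := mul_left_cancel (mul_right_cancel h3)
      exact this
    rw [← h4]; exact hzQ
  obtain ⟨E, hE⟩ := fs_exists_normalizer_system_top F Q hQS hQN
  have hNS : normalizerIn S Q = S := le_antisymm inf_le_left (le_inf le_rfl hQN)
  have hFE : F ≤ E := by
    apply fs_alperin_goldschmidt p hS F hF E
    intro P hP α hα
    obtain ⟨hQP, hinv⟩ := h P hP
    have hPS : P ≤ S := by
      rcases hP with rfl | hP
      · exact le_rfl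
      · exact hP.1.1
    rw [mem_autGroup_iff E hPS, hE]
    have hα' := hα
    rw [mem_autGroup_iff F hPS] at hα'
    have hle : P ⊔ Q ≤ P := sup_le le_rfl hQP
    refine ⟨hα', by rw [hNS]; exact hPS, fun x => by rw [hNS]; exact (F.le_of_mem hα').2 x,
      (P.subtype.comp α.toMonoidHom).comp (Subgroup.inclusion hle), fs_restrict_mem F hα' hle,
      fun x => rfl, ?_⟩
    have h1 := hinv α hα
    ext y
    constructor
    · rintro ⟨x, hx, rfl⟩
      have hxQ : (x : Ω) ∈ Q := hx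
      have h2 : α (Subgroup.inclusion hle x) ∈ (Q.subgroupOf P).map α.toMonoidHom :=
        ⟨Subgroup.inclusion hle x, hxQ, rfl⟩
      rw [h1] at h2
      exact h2
    · intro hy
      have h2 : (⟨y, hQP hy⟩ : P) ∈ (Q.subgroupOf P).map α.toMonoidHom := by
        rw [h1]; exact hy
      obtain ⟨z, hz, hzy⟩ := h2
      have hzQ : (z : Ω) ∈ Q := hz
      refine ⟨⟨z, (le_sup_right : Q ≤ P ⊔ Q) hzQ⟩, hzQ, ?_⟩
      show ((α (Subgroup.inclusion hle ⟨z, _⟩) : P) : Ω) = y
      have : Subgroup.inclusion hle ⟨z, (le_sup_right : Q ≤ P ⊔ Q) hzQ⟩ = z := Subtype.ext rfl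
      rw [this]
      exact congrArg Subtype.val hzy
  refine ⟨hQS, fun P φ hφ => ?_⟩
  have h1 := hFE P hφ
  rw [hE] at h1
  obtain ⟨-, -, -, ψ, hψ, hψφ, hψQ⟩ := h1
  exact ⟨ψ, hψ, hψφ, hψQ⟩

end Cfsg.Agent.Lib.Helper9
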