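import Mathlib
import Cfsg.Prelude.Def_FusionSystem
import Cfsg.Agent.Lib.Helper9.FusionNormal1
import Cfsg.Agent.Lib.Helper9.FusionSup
import Cfsg.Agent.Lib.Helper9.PCore

set_option autoImplicit false

namespace Cfsg.Agent.Lib.Helper9

open Cfsg Cfsg.FusionSystem

variable {Ω : Type*} [Group Ω] {S : Subgroup Ω}

theorem autInducedBy_mono {K K' : Subgroup Ω} (h : K ≤ K') (P : Subgroup Ω) :
    autInducedBy K P ≤ autInducedBy K' P := by
  intro α hα
  rw [mem_autInducedBy_iff] at hα ⊢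
  obtain ⟨g, hg, Hg⟩ := hα
  exact ⟨g, h hg, Hg⟩

/-- **(a) ⇒ (b)**: a subgroup normal in the system is contained in every centric radical subgroup. -/
theorem fs_le_of_isNormal_of_centric_radical [Finite S] (p : ℕ) [Fact p.Prime] (hS : IsPGroup p S)
    (F : FusionSystem S) {Q P : Subgroup Ω} (hQ : F.IsNormal Q) (hPc : F.IsCentric P)
    (hPr : F.IsRadical p P) : Q ≤ P := by
  have hPS : P ≤ S := hPc.1
  have hQS : Q ≤ S := hQ.1
  have hKS : P ⊔ Q ≤ S := sup_le hPS hQS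
  have hCle : centralizerIn S P ≤ P := hPc.2 P (fs_isConj_refl F hPS)
  haveI : Finite P := fs_finite_of_le hPS
  haveI hfinK : Finite ↥(P ⊔ Q) := fs_finite_of_le hKS
  have hNK : normalizerIn (P ⊔ Q) P ≤ P ⊔ Q := inf_le_left
  have hNS : normalizerIn (P ⊔ Q) P ≤ S := hNK.trans hKS
  have hBle : autInducedBy (normalizerIn (P ⊔ Q) P) P ≤ F.autGroup P :=
    (autInducedBy_mono hNS P).trans (autInducedBy_le_autGroup F hPS)
  have hBp : IsPGroup p (autInducedBy (normalizerIn (P ⊔ Q) P) P) :=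
    isPGroup_autInducedBy p (hS.to_le hNS) P
  -- normality
  have hnormal : ((autInducedBy (normalizerIn (P ⊔ Q) P) P).subgroupOf (F.autGroup P)).Normal := by
    constructor
    intro β hβ α
    rw [Subgroup.mem_subgroupOf, mem_autInducedBy_iff] at hβ
    obtain ⟨g, hgN, Hg⟩ := hβ
    rw [Subgroup.mem_subgroupOf, mem_autInducedBy_iff]
    have hα := α.2
    rw [mem_autGroup_iff F hPS] at hα
    obtain ⟨ψ, hψ, hψα, hψQ⟩ := hQ.2 P _ hα
    have hgK : g ∈ P ⊔ Q := hNK hgN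
    have hψK : ∀ x : ↥(P ⊔ Q), ψ x ∈ P ⊔ Q := by
      apply sup_forall_mem
      · intro x
        rw [hψα]
        exact (le_sup_left : P ≤ P ⊔ Q) ((α : MulAut P) x).2
      · intro x
        have h1 : ψ (Subgroup.inclusion le_sup_right x) ∈ (Q.subgroupOf (P ⊔ Q)).map ψ :=
          ⟨_, by simp [Subgroup.mem_subgroupOf], rfl⟩
        rw [hψQ] at h1
        exact (le_sup_right : Q ≤ P ⊔ Q) h1
    have hind : ∀ x : P, ((((α * β * α⁻¹ : F.autGroup P) : MulAut P) x : P) : Ω)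
        = ψ ⟨g, hgK⟩ * x * (ψ ⟨g, hgK⟩)⁻¹ := by
      intro x
      have h1 : ((α * β * α⁻¹ : F.autGroup P) : MulAut P) x
          = (α : MulAut P) ((β : MulAut P) ((α : MulAut P)⁻¹ x)) := by
        simp only [Subgroup.coe_mul, Subgroup.coe_inv, MulAut.mul_apply]
      rw [h1]
      have h2 := hψα ((β : MulAut P) ((α : MulAut P)⁻¹ x))
      simp only [MonoidHom.coe_comp, Function.comp_apply, Subgroup.subtype_apply,
        MulEquiv.coe_toMonoidHom] at h2
      rw [← h2]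
      have h3 : (Subgroup.inclusion (le_sup_left : P ≤ P ⊔ Q) ((β : MulAut P) ((α : MulAut P)⁻¹ x)))
          = ⟨g, hgK⟩ * Subgroup.inclusion (le_sup_left : P ≤ P ⊔ Q) ((α : MulAut P)⁻¹ x) * ⟨g, hgK⟩⁻¹ := by
        apply Subtype.ext
        show (((β : MulAut P) ((α : MulAut P)⁻¹ x) : P) : Ω) = g * (((α : MulAut P)⁻¹ x : P) : Ω) * g⁻¹
        exact Hg _
      rw [h3, map_mul, map_mul, map_inv]
      have h4 := hψα ((α : MulAut P)⁻¹ x)
      simp only [MonoidHom.coe_comp, Function.comp_apply, Subgroup.subtype_apply,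
        MulEquiv.coe_toMonoidHom, MulAut.apply_inv_self] at h4
      rw [h4]
    refine ⟨ψ ⟨g, hgK⟩, ⟨hψK _, ?_⟩, hind⟩
    exact mem_normalizer_of_induces _ _ hind
  have hBcore : (autInducedBy (normalizerIn (P ⊔ Q) P) P).subgroupOf (F.autGroup P) ≤
      Cfsg.pCore p (F.autGroup P) := by
    apply le_pCore hnormal
    exact hBp.comap_of_injective _ (Subgroup.subtype_injective _)
  have hNP : normalizerIn (P ⊔ Q) P ≤ P := by
    intro g hg
    obtain ⟨c, hc'⟩ : ∃ c : MulAut P, c = P.normalizerMonoidHom ⟨g, hg.2⟩ := ⟨_, rfl⟩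
    have hcg : ∀ x : P, ((c x : P) : Ω) = g * x * g⁻¹ := by
      intro x; rw [hc']; rfl
    have hcB : c ∈ autInducedBy (normalizerIn (P ⊔ Q) P) P := by
      rw [mem_autInducedBy_iff]
      exact ⟨g, hg, hcg⟩
    have hcI : c ∈ Inn P := by
      rw [← hPr.2]
      refine ⟨⟨c, hBle hcB⟩, hBcore ?_, rfl⟩
      rw [Subgroup.mem_subgroupOf]
      exact hcB
    exact mem_of_induces_inner hCle hcI (hNS hg) hPS hcg
  have hKP : P ⊔ Q = P := by
    by_contra hne
    have hlt : P < P ⊔ Q := lt_of_le_of_ne le_sup_left (fun h => hne h.symm)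
    have h1 := fs_lt_normalizerIn (S := P ⊔ Q) p (hS.to_le hKS) hlt
    exact absurd (lt_of_lt_of_le h1 hNP) (lt_irrefl _)
  rw [← hKP]
  exact le_sup_right

end Cfsg.Agent.Lib.Helper9
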