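import Mathlib
import Cfsg.Prelude.Def_FusionSystem
import Cfsg.Agent.S5080
import Cfsg.Agent.Lib.Helper9.FusionNormal2
import Cfsg.Agent.Lib.Helper9.FusionStrongly

set_option autoImplicit false

namespace Cfsg.Agent.Lib.Helper9

open Cfsg Cfsg.FusionSystem

variable {Ω : Type*} [Group Ω] {S : Subgroup Ω}

/-- `S` is centric. -/
theorem fs_top_centric [Finite S] (F : FusionSystem S) : F.IsCentric S := by
  refine ⟨le_rfl, ?_⟩
  rintro Q ⟨φ, hφ, rfl⟩
  have hQS : φ.range ≤ S := fs_range_le F hφ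
  have hcard : Nat.card φ.range = Nat.card S :=
    (Nat.card_congr (MonoidHom.ofInjective (F.injective_of_mem hφ)).toEquiv).symm
  have heq : φ.range = S := Subgroup.eq_of_le_of_card_ge hQS (le_of_eq hcard.symm)
  rw [heq]
  exact inf_le_left

/-- `Aut_S(S) = Inn(S)`. -/
theorem autInducedBy_self_eq_inn (S : Subgroup Ω) : autInducedBy S S = Inn S := by
  apply le_antisymm
  · intro α hα
    rw [mem_autInducedBy_iff] at hα
    obtain ⟨g, hg, Hg⟩ := hα
    refine ⟨⟨g, hg⟩, ?_⟩
    ext x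
    rw [Hg]
    simp [MulAut.conj_apply]
  · exact inn_le_autInducedBy le_rfl

/-- In a saturated system, `S` is radical. -/
theorem fs_top_radical [Finite S] (p : ℕ) [Fact p.Prime] (hS : IsPGroup p S) (F : FusionSystem S)
    (hF : F.IsSaturated p) : F.IsRadical p S := by
  refine ⟨le_rfl, ?_⟩
  obtain ⟨-, T₀, hT₀⟩ := (fs_sylow_axiom p hS F hF (Cfsg.Agent.S5083.top_fullyNormalized F)).2
  rw [autInducedBy_self_eq_inn] at hT₀
  have hInnle : Inn S ≤ F.autGroup S := by
    rw [← autInducedBy_self_eq_inn]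
    exact autInducedBy_le_autGroup F le_rfl
  have h2 : Cfsg.pCore p (F.autGroup S) ≤ (Inn S).subgroupOf (F.autGroup S) := by
    rw [← hT₀]
    exact pCore_le_sylow T₀
  have hInnP : IsPGroup p (Inn S) :=
    hS.of_surjective (MulAut.conj : S →* MulAut S).rangeRestrict
      (MulAut.conj : S →* MulAut S).rangeRestrict_surjective
  have h3 : (Inn S).subgroupOf (F.autGroup S) ≤ Cfsg.pCore p (F.autGroup S) :=
    le_pCore inferInstance hInnP.comap_subtype
  have h4 : Cfsg.pCore p (F.autGroup S) = (Inn S).subgroupOf (F.autGroup S) := le_antisymm h2 h3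
  rw [h4, Subgroup.subgroupOf_map_subtype, inf_eq_left.mpr hInnle]

/-- A strongly closed subgroup contained in `P` is invariant under `Aut_F(P)`. -/
theorem fs_stronglyClosed_aut_invariant [Finite S] (F : FusionSystem S) {Q P : Subgroup Ω}
    (hQ : F.StronglyClosed Q) (hPS : P ≤ S) (hQP : Q ≤ P) {α : MulAut P} (hα : α ∈ F.autGroup P) :
    (Q.subgroupOf P).map α.toMonoidHom = Q.subgroupOf P := by
  rw [mem_autGroup_iff F hPS] at hα
  have key : ∀ x : P, ((α x : P) : Ω) ∈ Q ↔ (x : Ω) ∈ Q := fun x =>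
    fs_stronglyClosed_mem_iff F hQ hα hQP x
  ext y
  constructor
  · rintro ⟨x, hx, rfl⟩
    exact (key x).mpr hx
  · intro hy
    refine ⟨α.symm y, ?_, by simp⟩
    have hy' : ((α (α.symm y) : P) : Ω) ∈ Q := by
      rw [MulEquiv.apply_symm_apply]; exact hy
    exact (key _).mp hy'

/-- **(b) ⇒ (c)**. -/
theorem fs_essential_invariant_of_stronglyClosed [Finite S] (p : ℕ) [Fact p.Prime] (hS : IsPGroup p S)
    (F : FusionSystem S) (hF : F.IsSaturated p) {Q : Subgroup Ω} (hQ : F.StronglyClosed Q)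
    (hle : ∀ P : Subgroup Ω, F.IsCentric P → F.IsRadical p P → Q ≤ P)
    (P : Subgroup Ω) (hP : P = S ∨ F.IsEssential p P) :
    Q ≤ P ∧ ∀ α ∈ F.autGroup P, (Q.subgroupOf P).map α.toMonoidHom = Q.subgroupOf P := by
  have hPS : P ≤ S := by
    rcases hP with rfl | hP
    · exact le_rfl
    · exact hP.1.1
  have hQP : Q ≤ P := by
    rcases hP with rfl | hP
    · exact hQ.1
    · exact hle P hP.1 (Cfsg.Agent.S5080.result p hS F hF P hP)
  exact ⟨hQP, fun α hα => fs_stronglyClosed_aut_invariant F hQ hPS hQP hα⟩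

/-- **Normality criterion (a) ⇔ (b)** (AKO I.4.5). -/
theorem fs_isNormal_iff_centric_radical [Finite S] (p : ℕ) [Fact p.Prime] (hS : IsPGroup p S)
    (F : FusionSystem S) (hF : F.IsSaturated p) (Q : Subgroup Ω) :
    F.IsNormal Q ↔ (F.StronglyClosed Q ∧ ∀ P : Subgroup Ω, F.IsCentric P → F.IsRadical p P → Q ≤ P) := by
  constructor
  · intro hQ
    exact ⟨fs_stronglyClosed_of_isNormal F hQ, fun P hPc hPr =>
      fs_le_of_isNormal_of_centric_radical p hS F hQ hPc hPr⟩
  · rintro ⟨hQ, hle⟩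
    exact fs_isNormal_of_essential_invariant p hS F hF Q
      (fs_essential_invariant_of_stronglyClosed p hS F hF hQ hle)

/-- **Normality criterion (a) ⇔ (c)** (AKO I.4.5). -/
theorem fs_isNormal_iff_essential_invariant [Finite S] (p : ℕ) [Fact p.Prime] (hS : IsPGroup p S)
    (F : FusionSystem S) (hF : F.IsSaturated p) (Q : Subgroup Ω) :
    F.IsNormal Q ↔ ∀ P : Subgroup Ω, (P = S ∨ F.IsEssential p P) →
      (Q ≤ P ∧ ∀ α ∈ F.autGroup P, (Q.subgroupOf P).map α.toMonoidHom = Q.subgroupOf P) := by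
  constructor
  · intro hQ
    have h := (fs_isNormal_iff_centric_radical p hS F hF Q).mp hQ
    exact fs_essential_invariant_of_stronglyClosed p hS F hF h.1 h.2
  · exact fs_isNormal_of_essential_invariant p hS F hF Q

end Cfsg.Agent.Lib.Helper9
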