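import Mathlib
import Cfsg.Prelude.Def_FusionSystem
import Cfsg.Agent.Lib.Helper9.FusionNormal3
import Cfsg.Agent.Lib.Helper9.ChainStab

set_option autoImplicit false

namespace Cfsg.Agent.Lib.Helper9

open Cfsg Cfsg.FusionSystem
open scoped commutatorElement

variable {Ω : Type*} [Group Ω] {S : Subgroup Ω}

theorem mem_sup_of_le_normalizer' {H N : Subgroup Ω} (hLE : H ≤ Subgroup.normalizer (N : Set Ω)) {x : Ω}
    (hx : x ∈ H ⊔ N) : ∃ h ∈ H, ∃ n ∈ N, h * n = x := by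
  have : x ∈ ((H ⊔ N : Subgroup Ω) : Set Ω) := hx
  rw [Subgroup.coe_mul_of_left_le_normalizer_right H N hLE] at this
  obtain ⟨h, hh, n, hn, rfl⟩ := this
  exact ⟨h, hh, n, hn, rfl⟩

/-- A strongly closed subgroup is normalized by `S`. -/
theorem fs_stronglyClosed_le_normalizer (F : FusionSystem S) {Q : Subgroup Ω} (hQ : F.StronglyClosed Q) :
    S ≤ Subgroup.normalizer (Q : Set Ω) := by
  have key : ∀ s ∈ S, ∀ y ∈ Q, s * y * s⁻¹ ∈ Q := by
    intro s hs y hy
    exact hQ.2 Q le_rfl _ (F.conj_mem hQ.1 hs) ⟨y, hy⟩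
  intro s hs
  rw [Subgroup.mem_normalizer_iff]
  intro y
  refine ⟨key s hs y, fun hy => ?_⟩
  have h1 := key s⁻¹ (S.inv_mem hs) _ hy
  have h2 : s⁻¹ * (s * y * s⁻¹) * s⁻¹⁻¹ = y := by group
  rwa [h2] at h1

/-- **Series criterion, core form**: a strongly closed `Q` admitting a chain of strongly closed subgroups
`1 = Q₀ ≤ Q₁ ≤ ⋯ ≤ Q_M = S` with `[Q, Q_{i+1}] ≤ Q_i` is normal in the system. -/
theorem fs_isNormal_of_chain [Finite S] (p : ℕ) [Fact p.Prime] (hS : IsPGroup p S) (F : FusionSystem S)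
    (hF : F.IsSaturated p) (Q : Subgroup Ω) (hQsc : F.StronglyClosed Q)
    (Qn : ℕ → Subgroup Ω) (h0 : Qn 0 = ⊥) (M : ℕ) (hM : Qn M = S) (hmono : Monotone Qn)
    (hsc : ∀ i, F.StronglyClosed (Qn (i + 1))) (hcomm : ∀ i, ⁅Q, Qn (i + 1)⁆ ≤ Qn i) : F.IsNormal Q := by
  rw [fs_isNormal_iff_centric_radical p hS F hF Q]
  refine ⟨hQsc, fun P hPc hPr => ?_⟩
  have hPS : P ≤ S := hPc.1
  have hQS : Q ≤ S := hQsc.1
  haveI : Finite P := fs_finite_of_le hPS
  have hCle : centralizerIn S P ≤ P := hPc.2 P (fs_isConj_refl F hPS)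
  have hPp : IsPGroup p P := hS.to_le hPS
  have hPs0 : (fun i => (Qn i).subgroupOf P) 0 = ⊥ := by
    show (Qn 0).subgroupOf P = ⊥
    rw [h0, Subgroup.bot_subgroupOf]
  have hPsM : (fun i => (Qn i).subgroupOf P) M = ⊤ := by
    show (Qn M).subgroupOf P = ⊤
    rw [hM, Subgroup.subgroupOf_eq_top]
    exact hPS
  have hPsmono : Monotone (fun i => (Qn i).subgroupOf P) := fun i j h => Subgroup.comap_mono (hmono h)
  have hDp := isPGroup_chainStabilizer p hPp hPsmono hPs0 M hPsM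
  -- invariance of the chain under Aut_F(P)
  have hinv : ∀ γ ∈ F.autGroup P, ∀ i : ℕ, ∀ y ∈ (Qn i).subgroupOf P, γ y ∈ (Qn i).subgroupOf P := by
    intro γ hγ i y hy
    rw [mem_autGroup_iff F hPS] at hγ
    cases i with
    | zero =>
      rw [h0, Subgroup.bot_subgroupOf, Subgroup.mem_bot] at hy
      rw [hy, map_one]; exact Subgroup.one_mem _
    | succ i =>
      exact fs_stronglyClosed_mem F (hsc i) hγ y hy
  have hnormal : ((chainStabilizer _ hPsmono hPs0).subgroupOf (F.autGroup P)).Normal := by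
    constructor
    intro α hα β
    rw [Subgroup.mem_subgroupOf, mem_chainStabilizer_iff] at hα ⊢
    have h1 := stabChain_conj (β := (β : MulAut P)) hα (hinv β β.2)
      (hinv _ ((F.autGroup P).inv_mem β.2))
    exact h1
  have hDcore : (chainStabilizer _ hPsmono hPs0).subgroupOf (F.autGroup P) ≤
      Cfsg.pCore p (F.autGroup P) := by
    apply le_pCore hnormal
    exact hDp.comap_of_injective _ (Subgroup.subtype_injective _)
  have hNQ : Q ⊓ Subgroup.normalizer (P : Set Ω) ≤ P := by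
    intro g hg
    obtain ⟨c, hc'⟩ : ∃ c : MulAut P, c = P.normalizerMonoidHom ⟨g, hg.2⟩ := ⟨_, rfl⟩
    have hcg : ∀ x : P, ((c x : P) : Ω) = g * x * g⁻¹ := by
      intro x; rw [hc']; rfl
    have hcS : c ∈ autInducedBy S P := by
      rw [mem_autInducedBy_iff]
      exact ⟨g, hQS hg.1, hcg⟩
    have hcF : c ∈ F.autGroup P := autInducedBy_le_autGroup F hPS hcS
    have hcD : c ∈ chainStabilizer _ hPsmono hPs0 := by
      intro i x hx
      show ((x⁻¹ * c x : P) : Ω) ∈ Qn i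
      have hx' : (x : Ω) ∈ Qn (i + 1) := hx
      rw [Subgroup.coe_mul, Subgroup.coe_inv, hcg]
      have h1 : ⁅(x : Ω)⁻¹, g⁆ ∈ ⁅Qn (i + 1), Q⁆ :=
        Subgroup.commutator_mem_commutator ((Qn (i + 1)).inv_mem hx') hg.1
      rw [Subgroup.commutator_comm] at h1
      have h2 := hcomm i h1
      rw [commutatorElement_def, inv_inv] at h2
      have h3 : (x : Ω)⁻¹ * (g * x * g⁻¹) = (x : Ω)⁻¹ * g * x * g⁻¹ := by group
      rw [h3]; exact h2
    have hcI : c ∈ Inn P := by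
      rw [← hPr.2]
      refine ⟨⟨c, hcF⟩, hDcore ?_, rfl⟩
      rw [Subgroup.mem_subgroupOf]
      exact hcD
    exact mem_of_induces_inner hCle hcI (hQS hg.1) hPS hcg
  by_contra hne
  have hKS : P ⊔ Q ≤ S := sup_le hPS hQS
  haveI hfinK : Finite ↥(P ⊔ Q) := fs_finite_of_le hKS
  have hlt : P < P ⊔ Q := lt_of_le_of_ne le_sup_left (fun h => hne (by rw [h]; exact le_sup_right))
  have h1 := fs_lt_normalizerIn (S := P ⊔ Q) p (hS.to_le hKS) hlt
  obtain ⟨g, hgN, hgP⟩ := SetLike.exists_of_lt h1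
  have hPnQ : P ≤ Subgroup.normalizer (Q : Set Ω) := hPS.trans (fs_stronglyClosed_le_normalizer F hQsc)
  obtain ⟨x, hx, q, hq, hxq⟩ := mem_sup_of_le_normalizer' hPnQ hgN.1
  have hqN : q ∈ Subgroup.normalizer (P : Set Ω) := by
    have h2 : q = x⁻¹ * g := by rw [← hxq]; group
    rw [h2]
    exact Subgroup.mul_mem _ (Subgroup.inv_mem _ (Subgroup.le_normalizer hx)) hgN.2
  apply hgP
  rw [← hxq]
  exact P.mul_mem hx (hNQ ⟨hq, hqN⟩)

end Cfsg.Agent.Lib.Helper9
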