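import Mathlib
import Cfsg.Prelude.Def_FusionSystem
import Cfsg.Agent.Lib.Helper9.FusionBasic
import Cfsg.Agent.Lib.Helper9.FusionSup
import Cfsg.Agent.Lib.Helper9.FusionStrongly
import Cfsg.Agent.Lib.Helper9.FusionNormal4

set_option autoImplicit false
open Cfsg
open Cfsg.FusionSystem

/-! The subsystem of maps that lift modulo a strongly closed subgroup `T` to the product with `T`. -/

namespace Cfsg.Agent.Lib.Helper9

variable {Ω : Type*} [Group Ω] {S : Subgroup Ω}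

/-- A map of the system whose source contains the strongly closed subgroup `T` maps `T` onto `T`. -/
theorem fs_stronglyClosed_surj [Finite S] (F : FusionSystem S) {T : Subgroup Ω} (hT : F.StronglyClosed T)
    {P : Subgroup Ω} {φ : P →* Ω} (hφ : φ ∈ F.Hom P) (hTP : T ≤ P) {t : Ω} (ht : t ∈ T) :
    ∃ x : P, (x : Ω) ∈ T ∧ φ x = t := by
  have hTfin : Finite T := Finite.of_injective (Subgroup.inclusion hT.1) (Subgroup.inclusion_injective hT.1)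
  let f : T → T := fun t => ⟨φ ⟨t, hTP t.2⟩, fs_stronglyClosed_mem F hT hφ ⟨t, hTP t.2⟩ t.2⟩
  have hfinj : Function.Injective f := by
    intro a b hab
    have h1 : φ ⟨a, hTP a.2⟩ = φ ⟨b, hTP b.2⟩ := congrArg Subtype.val hab
    have h2 := F.injective_of_mem hφ h1
    exact Subtype.ext (congrArg (fun z : P => (z : Ω)) h2)
  obtain ⟨a, ha⟩ := (Finite.injective_iff_surjective.mp hfinj) ⟨t, ht⟩
  exact ⟨⟨a, hTP a.2⟩, a.2, congrArg Subtype.val ha⟩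

/-- The maps `φ` of `F` that have a lift modulo `T`: a map `ψ` of `F` on `P ⊔ T` with `ψ x ≡ φ x` modulo `T` on `P`. -/
def liftSystem [Finite S] (F : FusionSystem S) (T : Subgroup Ω) (hT : F.StronglyClosed T) :
    FusionSystem S where
  Hom P := {φ | φ ∈ F.Hom P ∧ ∃ ψ ∈ F.Hom (P ⊔ T),
    ∀ x : P, (φ x)⁻¹ * ψ (Subgroup.inclusion le_sup_left x) ∈ T}
  le_of_mem h := F.le_of_mem h.1
  injective_of_mem h := F.injective_of_mem h.1
  conj_mem := by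
    intro P g hP hg
    refine ⟨F.conj_mem hP hg, conjHom (P ⊔ T) g, F.conj_mem (sup_le hP hT.1) hg, fun x => ?_⟩
    have : (conjHom P g x)⁻¹ * conjHom (P ⊔ T) g (Subgroup.inclusion le_sup_left x) = 1 :=
      inv_mul_cancel _
    rw [this]
    exact T.one_mem
  comp_mem := by
    rintro P Q φ₁ φ₂ ⟨hφ₁, ψ₁, hψ₁, H₁⟩ ⟨hφ₂, ψ₂, hψ₂, H₂⟩ h
    refine ⟨F.comp_mem hφ₁ hφ₂ h, ?_⟩
    have hQS : Q ≤ S := (F.le_of_mem hφ₂).1
    have h' : ∀ y : ↥(P ⊔ T), ψ₁ y ∈ Q ⊔ T := by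
      apply sup_forall_mem
      · intro x
        have e : ψ₁ (Subgroup.inclusion le_sup_left x) =
            φ₁ x * ((φ₁ x)⁻¹ * ψ₁ (Subgroup.inclusion le_sup_left x)) := by
          rw [mul_inv_cancel_left]
        rw [e]
        exact Subgroup.mul_mem _ (Subgroup.mem_sup_left (h x)) (Subgroup.mem_sup_right (H₁ x))
      · intro t
        exact Subgroup.mem_sup_right (fs_stronglyClosed_mem F hT hψ₁ _ t.2)
    refine ⟨ψ₂.comp (ψ₁.codRestrict (Q ⊔ T) h'), F.comp_mem hψ₁ hψ₂ h', fun x => ?_⟩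
    -- τ = (φ₁ x)⁻¹ ψ₁ x
    obtain ⟨τ, hτdef⟩ : ∃ τ : Ω, τ = (φ₁ x)⁻¹ * ψ₁ (Subgroup.inclusion le_sup_left x) := ⟨_, rfl⟩
    have hτ : τ ∈ T := hτdef ▸ H₁ x
    have e1 : ψ₁.codRestrict (Q ⊔ T) h' (Subgroup.inclusion le_sup_left x) =
        Subgroup.inclusion le_sup_left (⟨φ₁ x, h x⟩ : Q) * Subgroup.inclusion le_sup_right (⟨τ, hτ⟩ : T) := by
      apply Subtype.ext
      show ψ₁ (Subgroup.inclusion le_sup_left x) = φ₁ x * τ
      rw [hτdef, mul_inv_cancel_left]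
    show (φ₂ (φ₁.codRestrict Q h x))⁻¹ * ψ₂ (ψ₁.codRestrict (Q ⊔ T) h' (Subgroup.inclusion le_sup_left x)) ∈ T
    rw [e1, map_mul, ← mul_assoc]
    exact T.mul_mem (H₂ ⟨φ₁ x, h x⟩) (fs_stronglyClosed_mem F hT hψ₂ _ hτ)
  inv_mem := by
    rintro P φ ⟨hφ, ψ, hψ, H⟩
    obtain ⟨χ₀, hχ₀, Hχ₀⟩ := F.inv_mem hφ
    obtain ⟨ψ', hψ', Hψ'⟩ := F.inv_mem hψ
    refine ⟨χ₀, ⟨hχ₀, ?_⟩, Hχ₀⟩
    -- every `φ x` is `ψ` of something
    have key : ∀ x : P, ∃ t₀ : T, φ x =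
        ψ (Subgroup.inclusion le_sup_left x * Subgroup.inclusion le_sup_right t₀) := by
      intro x
      have hτ' : (ψ (Subgroup.inclusion le_sup_left x))⁻¹ * φ x ∈ T := by
        have := T.inv_mem (H x)
        rwa [mul_inv_rev, inv_inv] at this
      obtain ⟨y, hyT, hy⟩ := fs_stronglyClosed_surj F hT hψ le_sup_right hτ'
      refine ⟨⟨y, hyT⟩, ?_⟩
      have : Subgroup.inclusion le_sup_right (⟨y, hyT⟩ : T) = y := Subtype.ext rfl
      rw [map_mul, this, hy, mul_inv_cancel_left]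
    have hle : φ.range ⊔ T ≤ ψ.range := by
      apply sup_le
      · rintro _ ⟨x, rfl⟩
        obtain ⟨t₀, ht₀⟩ := key x
        exact ⟨_, ht₀.symm⟩
      · intro t ht
        obtain ⟨y, -, hy⟩ := fs_stronglyClosed_surj F hT hψ le_sup_right ht
        exact ⟨y, hy⟩
    refine ⟨ψ'.comp (Subgroup.inclusion hle), fs_restrict_mem F hψ' hle, ?_⟩
    rintro ⟨_, x, rfl⟩
    obtain ⟨t₀, ht₀⟩ := key x
    have e1 : (ψ'.comp (Subgroup.inclusion hle)) (Subgroup.inclusion le_sup_left (⟨φ x, ⟨x, rfl⟩⟩ : φ.range))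
        = ψ' ⟨ψ (Subgroup.inclusion le_sup_left x * Subgroup.inclusion le_sup_right t₀), ⟨_, rfl⟩⟩ := by
      show ψ' _ = ψ' _
      congr 1
      exact Subtype.ext ht₀
    rw [e1, Hψ', Hχ₀]
    show (x : Ω)⁻¹ * ((x : Ω) * (t₀ : Ω)) ∈ T
    rw [inv_mul_cancel_left]
    exact t₀.2

theorem mem_liftSystem_iff [Finite S] (F : FusionSystem S) (T : Subgroup Ω) (hT : F.StronglyClosed T)
    {P : Subgroup Ω} (φ : P →* Ω) :
    φ ∈ (liftSystem F T hT).Hom P ↔ φ ∈ F.Hom P ∧ ∃ ψ ∈ F.Hom (P ⊔ T),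
      ∀ x : P, (φ x)⁻¹ * ψ (Subgroup.inclusion le_sup_left x) ∈ T := Iff.rfl

end Cfsg.Agent.Lib.Helper9
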