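import Mathlib
import Cfsg.Prelude.Def_FusionComponents
import Cfsg.Agent.Lib.Helper9.FusionBasic
import Cfsg.Agent.Lib.Helper9.FusionFactor
import Cfsg.Agent.Lib.Helper9.FusionLift1
import Cfsg.Agent.S5131

set_option autoImplicit false
open Cfsg
open Cfsg.FusionSystem

/-! Surjective morphisms of fusion systems: pushing maps forward and pulling them back. -/

namespace Cfsg.Agent.Lib.Helper9

variable {Ω : Type*} [Group Ω] {S : Subgroup Ω} {Ω' : Type*} [Group Ω'] {S' : Subgroup Ω'}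

theorem mem_imageAlong_iff (α : S →* Ω') (R : Subgroup Ω) (y : Ω') :
    y ∈ imageAlong α R ↔ ∃ s : S, (s : Ω) ∈ R ∧ α s = y := by
  constructor
  · rintro ⟨s, hs, rfl⟩
    exact ⟨s, hs, rfl⟩
  · rintro ⟨s, hs, rfl⟩
    exact ⟨s, hs, rfl⟩

theorem apply_mem_imageAlong (α : S →* Ω') {R : Subgroup Ω} {x : Ω} (hxS : x ∈ S) (hx : x ∈ R) :
    α ⟨x, hxS⟩ ∈ imageAlong α R := ⟨⟨x, hxS⟩, hx, rfl⟩

/-- `R` is a full preimage under `α`. -/
def IsFull (α : S →* Ω') (R : Subgroup Ω) : Prop :=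
  R ≤ S ∧ ∀ s : S, α s ∈ imageAlong α R → (s : Ω) ∈ R

theorem isFull_preimageAlong (α : S →* Ω') (P' : Subgroup Ω') : IsFull α (preimageAlong α P') := by
  refine ⟨preimageAlong_le α P', fun s hs => ?_⟩
  rw [mem_imageAlong_iff] at hs
  obtain ⟨s', hs', hss'⟩ := hs
  rw [mem_preimageAlong_iff] at hs' ⊢
  obtain ⟨hx, hP'⟩ := hs'
  exact ⟨s.2, by rw [← hss']; exact hP'⟩

theorem imageAlong_preimageAlong_le (α : S →* Ω') (P' : Subgroup Ω') :
    imageAlong α (preimageAlong α P') ≤ P' := by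
  intro y hy
  rw [mem_imageAlong_iff] at hy
  obtain ⟨s, hs, rfl⟩ := hy
  rw [mem_preimageAlong_iff] at hs
  exact hs.2

theorem le_imageAlong_preimageAlong (α : S →* Ω') {P' : Subgroup Ω'} (hP' : P' ≤ α.range) :
    P' ≤ imageAlong α (preimageAlong α P') := by
  intro y hy
  obtain ⟨s, rfl⟩ := hP' hy
  rw [mem_imageAlong_iff]
  exact ⟨s, (mem_preimageAlong_iff α P' s).mpr ⟨s.2, hy⟩, rfl⟩

theorem ker_le_of_isFull (α : S →* Ω') {R : Subgroup Ω} (hR : IsFull α R) :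
    (α.ker).map S.subtype ≤ R := by
  rintro _ ⟨s, hs, rfl⟩
  apply hR.2
  rw [MonoidHom.mem_ker.mp hs]
  exact Subgroup.one_mem _

theorem imageAlong_le_of_range (α : S →* Ω') (hrange : α.range = S') (R : Subgroup Ω) :
    imageAlong α R ≤ S' := by
  rintro _ ⟨s, -, rfl⟩
  rw [← hrange]
  exact ⟨s, rfl⟩

/-- Pushing a map forward along a morphism. -/
theorem morph_push (F : FusionSystem S) (F' : FusionSystem S') (α : S →* Ω') (hα : F.IsMorphism F' α)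
    {R : Subgroup Ω} {φ : R →* Ω} (hφ : φ ∈ F.Hom R) :
    ∃ φ' ∈ F'.Hom (imageAlong α R), ∀ (x : R) (hxS : (x : Ω) ∈ S) (hx' : α ⟨x, hxS⟩ ∈ imageAlong α R)
      (hφS : φ x ∈ S), φ' ⟨α ⟨x, hxS⟩, hx'⟩ = α ⟨φ x, hφS⟩ := by
  obtain ⟨φ', hφ', hind⟩ := hα.2 R φ hφ
  exact ⟨φ', hφ', fun x hxS hx' hφS => inducedAlong_apply hind x hxS hx' hφS⟩

/-- Pulling a map back along a surjective morphism, to a full subgroup. -/
theorem morph_pull (F : FusionSystem S) (F' : FusionSystem S') (α : S →* Ω')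
    (hα : F.IsSurjectiveMorphism F' α) {R : Subgroup Ω} (hR : IsFull α R)
    {φ' : imageAlong α R →* Ω'} (hφ' : φ' ∈ F'.Hom (imageAlong α R)) :
    ∃ φ ∈ F.Hom R, ∀ (x : R) (hxS : (x : Ω) ∈ S) (hx' : α ⟨x, hxS⟩ ∈ imageAlong α R)
      (hφS : φ x ∈ S), φ' ⟨α ⟨x, hxS⟩, hx'⟩ = α ⟨φ x, hφS⟩ := by
  obtain ⟨-, hrange, hsurj⟩ := hα
  obtain ⟨φ, hφ, hind⟩ := hsurj _ (imageAlong_le_of_range α hrange R) φ' hφ'
  have hle : R ≤ preimageAlong α (imageAlong α R) := by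
    intro x hx
    rw [mem_preimageAlong_iff]
    exact ⟨hR.1 hx, apply_mem_imageAlong α (hR.1 hx) hx⟩
  refine ⟨φ.comp (Subgroup.inclusion hle), fs_restrict_mem F hφ hle, fun x hxS hx' hφS => ?_⟩
  exact inducedAlong_apply hind (Subgroup.inclusion hle x) hxS hx' hφS

/-- The image of a full subgroup under a map of `F` is full. -/
theorem isFull_range [Finite S] (p : ℕ) [Fact p.Prime] (hS : IsPGroup p S) (F : FusionSystem S)
    (F' : FusionSystem S') (α : S →* Ω') (hα : F.IsMorphism F' α)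
    {P : Subgroup Ω} (hP : IsFull α P) {φ : P →* Ω} (hφ : φ ∈ F.Hom P) : IsFull α φ.range := by
  have hT := Cfsg.Agent.S5131.result p hS F F' α hα
  have hker := ker_le_of_isFull α hP
  refine ⟨fs_range_le F hφ, fun s hs => ?_⟩
  rw [mem_imageAlong_iff] at hs
  obtain ⟨s', ⟨x, hx⟩, hss'⟩ := hs
  -- `s'⁻¹ s` lies in the kernel
  have hk : s'⁻¹ * s ∈ α.ker := by
    rw [MonoidHom.mem_ker, map_mul, map_inv, hss', inv_mul_cancel]
  have hk' : ((s'⁻¹ * s : S) : Ω) ∈ (α.ker).map S.subtype := ⟨_, hk, rfl⟩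
  obtain ⟨y, -, hy⟩ := fs_stronglyClosed_surj F hT hφ hker hk'
  have e : (s : Ω) = φ (x * y) := by
    rw [map_mul, hx, hy]
    show (s : Ω) = (s' : Ω) * ((s' : Ω)⁻¹ * (s : Ω))
    rw [mul_inv_cancel_left]
  rw [e]
  exact ⟨_, rfl⟩

end Cfsg.Agent.Lib.Helper9
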