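import Mathlib
import Cfsg.Prelude.Def_FusionComponents
import Cfsg.Agent.Lib.Helper9.FusionMorph1
import Cfsg.Agent.Lib.Helper9.FusionAut
import Cfsg.Agent.Lib.Helper9.FusionAut2
import Cfsg.Agent.Lib.Helper9.FusionAG3

set_option autoImplicit false
open Cfsg
open Cfsg.FusionSystem

/-! The homomorphism `Aut_F(R) → Aut_{F'}(α(R))` induced by a morphism of fusion systems. -/

namespace Cfsg.Agent.Lib.Helper9

variable {Ω : Type*} [Group Ω] {S : Subgroup Ω} {Ω' : Type*} [Group Ω'] {S' : Subgroup Ω'}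

/-- `b` is induced by `β` along `α`. -/
def IsInducedAut (α : S →* Ω') {R : Subgroup Ω} (hRS : R ≤ S) (β : MulAut R)
    (b : MulAut (imageAlong α R)) : Prop :=
  ∀ x : R, ((b ⟨α ⟨x, hRS x.2⟩, apply_mem_imageAlong α (hRS x.2) x.2⟩ : imageAlong α R) : Ω') =
    α ⟨(β x : R), hRS (β x).2⟩

theorem isInducedAut_unique (α : S →* Ω') {R : Subgroup Ω} (hRS : R ≤ S) {β : MulAut R}
    {b b' : MulAut (imageAlong α R)} (h : IsInducedAut α hRS β b) (h' : IsInducedAut α hRS β b') :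
    b = b' := by
  apply MulEquiv.ext
  rintro ⟨_, s, hs, rfl⟩
  apply Subtype.ext
  have h1 := h ⟨s, hs⟩
  have h2 := h' ⟨s, hs⟩
  exact h1.trans h2.symm

theorem isInducedAut_mul (α : S →* Ω') {R : Subgroup Ω} (hRS : R ≤ S) {β₁ β₂ : MulAut R}
    {b₁ b₂ : MulAut (imageAlong α R)} (h₁ : IsInducedAut α hRS β₁ b₁) (h₂ : IsInducedAut α hRS β₂ b₂) :
    IsInducedAut α hRS (β₁ * β₂) (b₁ * b₂) := by
  intro x
  have e2 : b₂ ⟨α ⟨x, hRS x.2⟩, apply_mem_imageAlong α (hRS x.2) x.2⟩ =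
      ⟨α ⟨(β₂ x : R), hRS (β₂ x).2⟩, apply_mem_imageAlong α (hRS (β₂ x).2) (β₂ x).2⟩ :=
    Subtype.ext (h₂ x)
  show ((b₁ (b₂ _) : imageAlong α R) : Ω') = _
  rw [e2]
  exact h₁ (β₂ x)

theorem exists_isInducedAut [Finite S'] (F : FusionSystem S) (F' : FusionSystem S') (α : S →* Ω')
    (hα : F.IsMorphism F' α) {R : Subgroup Ω} (hRS : R ≤ S) {β : MulAut R} (hβ : β ∈ F.autGroup R) :
    ∃ b ∈ F'.autGroup (imageAlong α R), IsInducedAut α hRS β b := by
  have hβ' := (mem_autGroup_iff F hRS β).mp hβ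
  obtain ⟨φ', hφ', Hφ'⟩ := morph_push F F' α hα hβ'
  have hval : ∀ y : imageAlong α R, φ' y ∈ imageAlong α R := by
    rintro ⟨_, s, hs, rfl⟩
    have := Hφ' ⟨s, hs⟩ s.2 (apply_mem_imageAlong α s.2 hs) (hRS (β ⟨s, hs⟩).2)
    rw [this]
    exact apply_mem_imageAlong α _ (β ⟨s, hs⟩).2
  obtain ⟨b, hb, Hb⟩ := fs_hom_to_aut F' hφ' hval
  refine ⟨b, hb, fun x => ?_⟩
  rw [Hb]
  exact Hφ' x (hRS x.2) _ _

/-- The induced homomorphism on automorphism groups. -/
noncomputable def inducedAut [Finite S'] (F : FusionSystem S) (F' : FusionSystem S') (α : S →* Ω')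
    (hα : F.IsMorphism F' α) {R : Subgroup Ω} (hRS : R ≤ S) :
    F.autGroup R →* F'.autGroup (imageAlong α R) :=
  MonoidHom.mk' (fun β => ⟨Classical.choose (exists_isInducedAut F F' α hα hRS β.2),
      (Classical.choose_spec (exists_isInducedAut F F' α hα hRS β.2)).1⟩) (by
    intro β₁ β₂
    apply Subtype.ext
    have h₁ := (Classical.choose_spec (exists_isInducedAut F F' α hα hRS β₁.2)).2
    have h₂ := (Classical.choose_spec (exists_isInducedAut F F' α hα hRS β₂.2)).2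
    have h₁₂ := (Classical.choose_spec (exists_isInducedAut F F' α hα hRS (β₁ * β₂).2)).2
    exact isInducedAut_unique α hRS h₁₂ (isInducedAut_mul α hRS h₁ h₂))

theorem inducedAut_spec [Finite S'] (F : FusionSystem S) (F' : FusionSystem S') (α : S →* Ω')
    (hα : F.IsMorphism F' α) {R : Subgroup Ω} (hRS : R ≤ S) (β : F.autGroup R) :
    IsInducedAut α hRS (β : MulAut R) ((inducedAut F F' α hα hRS β : F'.autGroup _) : MulAut _) :=
  (Classical.choose_spec (exists_isInducedAut F F' α hα hRS β.2)).2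

theorem inducedAut_eq_of [Finite S'] (F : FusionSystem S) (F' : FusionSystem S') (α : S →* Ω')
    (hα : F.IsMorphism F' α) {R : Subgroup Ω} (hRS : R ≤ S) (β : F.autGroup R)
    {b : MulAut (imageAlong α R)} (hb : IsInducedAut α hRS (β : MulAut R) b) :
    ((inducedAut F F' α hα hRS β : F'.autGroup _) : MulAut _) = b :=
  isInducedAut_unique α hRS (inducedAut_spec F F' α hα hRS β) hb

end Cfsg.Agent.Lib.Helper9
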