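import Mathlib
import Cfsg.Prelude.Def_FusionComponents
import Cfsg.Agent.Lib.Helper9.FusionMorph2

set_option autoImplicit false
open Cfsg
open Cfsg.FusionSystem

/-! Surjectivity of the induced map on automorphism groups for full subgroups, and the image of `Aut_S(R)`. -/

namespace Cfsg.Agent.Lib.Helper9

variable {Ω : Type*} [Group Ω] {S : Subgroup Ω} {Ω' : Type*} [Group Ω'] {S' : Subgroup Ω'}

theorem inducedAut_surjective [Finite S] [Finite S'] (F : FusionSystem S) (F' : FusionSystem S')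
    (α : S →* Ω') (hα : F.IsSurjectiveMorphism F' α) {R : Subgroup Ω} (hR : IsFull α R) :
    Function.Surjective (inducedAut F F' α hα.1 hR.1) := by
  rintro ⟨b, hb⟩
  have hQ'S' : imageAlong α R ≤ S' := imageAlong_le_of_range α hα.2.1 R
  have hb' := (mem_autGroup_iff F' hQ'S' b).mp hb
  obtain ⟨φ, hφ, Hφ⟩ := morph_pull F F' α hα hR hb'
  have hφS : ∀ x : R, φ x ∈ S := (F.le_of_mem hφ).2
  have hval : ∀ x : R, φ x ∈ R := by
    intro x
    apply hR.2 ⟨φ x, hφS x⟩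
    rw [← Hφ x (hR.1 x.2) (apply_mem_imageAlong α (hR.1 x.2) x.2) (hφS x)]
    exact (b _).2
  obtain ⟨β, hβ, Hβ⟩ := fs_hom_to_aut F hφ hval
  refine ⟨⟨β, hβ⟩, ?_⟩
  apply Subtype.ext
  apply inducedAut_eq_of
  intro x
  have h1 := Hφ x (hR.1 x.2) (apply_mem_imageAlong α (hR.1 x.2) x.2) (hφS x)
  have h2 : (⟨((β x : R) : Ω), hR.1 (β x).2⟩ : S) = ⟨φ x, hφS x⟩ := Subtype.ext (Hβ x)
  show _ = α ⟨((β x : R) : Ω), hR.1 (β x).2⟩
  rw [h2]
  exact h1

theorem inducedAut_map_autInducedBy [Finite S] [Finite S'] (F : FusionSystem S) (F' : FusionSystem S')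
    (α : S →* Ω') (hα : F.IsSurjectiveMorphism F' α) {R : Subgroup Ω} (hR : IsFull α R) :
    ((autInducedBy S R).subgroupOf (F.autGroup R)).map (inducedAut F F' α hα.1 hR.1) =
      (autInducedBy S' (imageAlong α R)).subgroupOf (F'.autGroup (imageAlong α R)) := by
  have hrange := hα.2.1
  apply le_antisymm
  · rintro _ ⟨β, hβ, rfl⟩
    rw [SetLike.mem_coe] at hβ
    rw [Subgroup.mem_subgroupOf, mem_autInducedBy_iff] at hβ ⊢
    obtain ⟨g, hg, Hg⟩ := hβ
    refine ⟨α ⟨g, hg⟩, by rw [← hrange]; exact ⟨_, rfl⟩, ?_⟩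
    rintro ⟨_, s, hs, rfl⟩
    have h1 := inducedAut_spec F F' α hα.1 hR.1 β ⟨s, hs⟩
    refine h1.trans ?_
    have h2 : (⟨(((β : MulAut R) ⟨s, hs⟩ : R) : Ω), hR.1 ((β : MulAut R) ⟨s, hs⟩).2⟩ : S) =
        ⟨g, hg⟩ * s * ⟨g, hg⟩⁻¹ := Subtype.ext (Hg ⟨s, hs⟩)
    rw [h2, map_mul, map_mul, map_inv]
  · rintro ⟨b, hb⟩ hbS
    rw [Subgroup.mem_subgroupOf, mem_autInducedBy_iff] at hbS
    obtain ⟨g, hg, Hg⟩ := hbS
    rw [← hrange] at hg
    obtain ⟨s, rfl⟩ := hg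
    -- `s` normalizes `R`
    have hconj : ∀ x : Ω, x ∈ R → (s : Ω) * x * (s : Ω)⁻¹ ∈ R := by
      intro x hx
      have hxS : x ∈ S := hR.1 hx
      apply hR.2 (s * ⟨x, hxS⟩ * s⁻¹)
      rw [map_mul, map_mul, map_inv]
      have := Hg ⟨α ⟨x, hxS⟩, apply_mem_imageAlong α hxS hx⟩
      rw [← this]
      exact (b _).2
    have hsN : (s : Ω) ∈ Subgroup.normalizer (R : Set Ω) := by
      haveI : Finite R := fs_finite_of_le hR.1
      rw [Subgroup.mem_normalizer_iff]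
      intro x
      refine ⟨hconj x, fun hx => ?_⟩
      -- the conjugation map `R → R` is injective hence surjective
      let f : R → R := fun y => ⟨(s : Ω) * y * (s : Ω)⁻¹, hconj y y.2⟩
      have hf : Function.Injective f := by
        intro a c hac
        have : (s : Ω) * a * (s : Ω)⁻¹ = (s : Ω) * c * (s : Ω)⁻¹ := congrArg Subtype.val hac
        exact Subtype.ext (mul_left_cancel (mul_right_cancel this))
      obtain ⟨y, hy⟩ := (Finite.injective_iff_surjective.mp hf) ⟨_, hx⟩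
      have : (s : Ω) * y * (s : Ω)⁻¹ = (s : Ω) * x * (s : Ω)⁻¹ := congrArg Subtype.val hy
      have hxy : (y : Ω) = x := mul_left_cancel (mul_right_cancel this)
      rw [← hxy]
      exact y.2
    have hcS : R.normalizerMonoidHom ⟨s, hsN⟩ ∈ autInducedBy S R := by
      rw [mem_autInducedBy_iff]
      exact ⟨s, s.2, fun x => rfl⟩
    have hcF : R.normalizerMonoidHom ⟨s, hsN⟩ ∈ F.autGroup R := autInducedBy_le_autGroup F hR.1 hcS
    refine ⟨⟨_, hcF⟩, Subgroup.mem_subgroupOf.mpr hcS, ?_⟩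
    apply Subtype.ext
    apply inducedAut_eq_of
    intro x
    rw [Hg]
    show α s * α ⟨x, hR.1 x.2⟩ * (α s)⁻¹ = α ⟨(s : Ω) * x * (s : Ω)⁻¹, _⟩
    rw [← map_inv, ← map_mul, ← map_mul]
    rfl

end Cfsg.Agent.Lib.Helper9
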