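import Mathlib
import Cfsg.Prelude.Def_FusionSystem
import Cfsg.Agent.Lib.Helper9.SylowAux
import Cfsg.Agent.Lib.Helper9.FusionBasic
import Cfsg.Agent.Lib.Helper9.FusionAut
import Cfsg.Agent.Lib.Helper9.FusionTransport
import Cfsg.Agent.Lib.Helper9.FusionSat3

set_option autoImplicit false
open Cfsg
open Cfsg.FusionSystem

/-! Extending a map modulo a normal subgroup of the automizer of its (fully normalized) image. -/

namespace Cfsg.Agent.Lib.Helper9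

/-- A `p`-subgroup of `K · Sy` (`K` normal, `Sy` Sylow) is conjugate into `Sy` by an element of `K`. -/
theorem exists_conj_le_of_le_sup {A : Type*} [Group A] [Finite A] {p : ℕ} [Fact p.Prime] (Sy : Sylow p A)
    (K : Subgroup A) [K.Normal] (B : Subgroup A) (hB : IsPGroup p B) (hBK : B ≤ (Sy : Subgroup A) ⊔ K) :
    ∃ κ ∈ K, ∀ b ∈ B, κ * b * κ⁻¹ ∈ (Sy : Subgroup A) := by
  obtain ⟨k, hk, Hk⟩ := exists_conj_mem_sylow_of_le Sy _ le_sup_left B hB hBK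
  obtain ⟨σ, hσ, κ, hκ, rfl⟩ := Subgroup.mem_sup_of_normal_right.mp hk
  refine ⟨κ, hκ, fun b hb => ?_⟩
  have h1 := Hk b hb
  have e : κ * b * κ⁻¹ = σ⁻¹ * (σ * κ * b * (σ * κ)⁻¹) * σ := by group
  rw [e]
  exact Subgroup.mul_mem _ (Subgroup.mul_mem _ (Subgroup.inv_mem _ hσ) h1) hσ

variable {Ω : Type*} [Group Ω] {S : Subgroup Ω}

/-- Let `φ` be a map of a saturated system with fully normalized image, `K` a normal subgroup of `Aut_F(φ(P))`, and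
`N ≤ N_S(P)` a subgroup containing `P` such that each `φ c_g φ⁻¹` (`g ∈ N`) lies in `Aut_S(φ(P)) · K`. Then for some
`κ ∈ K` the map `κ ∘ φ` extends to `N`. -/
theorem fs_extend_mod_normal [Finite S] (p : ℕ) [Fact p.Prime] (hS : IsPGroup p S) (F : FusionSystem S)
    (hF : F.IsSaturated p) {P : Subgroup Ω} {φ : P →* Ω} (hφ : φ ∈ F.Hom P)
    (hRn : F.IsFullyNormalized φ.range) (K : Subgroup (F.autGroup φ.range)) [hKn : K.Normal]
    (N : Subgroup Ω) (hPN : P ≤ N) (hNS : N ≤ S)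
    (hcond : ∀ g ∈ N, ∃ (hg : g ∈ Subgroup.normalizer (P : Set Ω)) (β : F.autGroup φ.range),
      β ∈ ((autInducedBy S φ.range).subgroupOf (F.autGroup φ.range)) ⊔ K ∧
      ∀ x : P, (((β : MulAut φ.range) ⟨φ x, ⟨x, rfl⟩⟩ : φ.range) : Ω) =
        φ ⟨g * x * g⁻¹, (Subgroup.mem_normalizer_iff.mp hg x).mp x.2⟩) :
    ∃ κ ∈ K, ∃ ψ ∈ F.Hom N, ∀ x : P, ψ ⟨x, hPN x.2⟩ =
      (((κ : MulAut φ.range) ⟨φ x, ⟨x, rfl⟩⟩ : φ.range) : Ω) := by
  have hPS : P ≤ S := (F.le_of_mem hφ).1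
  have hRS : φ.range ≤ S := fs_range_le F hφ
  haveI : Finite φ.range := fs_finite_of_le hRS
  haveI : Finite (F.autGroup φ.range) := inferInstance
  obtain ⟨hRc, hRa⟩ := fs_sylow_axiom p hS F hF hRn
  have hRr := fs_extension_axiom p hS F hF hRc
  obtain ⟨-, Sy, hSy⟩ := hRa
  -- the `p`-subgroup `B`
  have hNp : IsPGroup p N := hS.to_le hNS
  have hB'p : IsPGroup p ((autInducedBy N P).map (MulAut.congr (fsEquiv F hφ)).toMonoidHom) :=
    (isPGroup_autInducedBy p hNp P).map _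
  have hBp : IsPGroup p (((autInducedBy N P).map (MulAut.congr (fsEquiv F hφ)).toMonoidHom).subgroupOf
      (F.autGroup φ.range)) := hB'p.comap_subtype
  have hBK : ((autInducedBy N P).map (MulAut.congr (fsEquiv F hφ)).toMonoidHom).subgroupOf
      (F.autGroup φ.range) ≤ (Sy : Subgroup (F.autGroup φ.range)) ⊔ K := by
    intro b hb
    rw [Subgroup.mem_subgroupOf] at hb
    obtain ⟨c, hc, hcb⟩ := hb
    rw [SetLike.mem_coe, mem_autInducedBy_iff] at hc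
    obtain ⟨g, hgN, Hg⟩ := hc
    obtain ⟨hg, β, hβ, Hβ⟩ := hcond g hgN
    have : b = β := by
      apply Subtype.ext
      apply MulEquiv.ext
      rintro ⟨_, x, rfl⟩
      apply Subtype.ext
      rw [Hβ x, ← hcb]
      show ((fsEquiv F hφ (c ((fsEquiv F hφ).symm ⟨φ x, ⟨x, rfl⟩⟩)) : φ.range) : Ω) = _
      rw [fsEquiv_symm_apply F hφ x ⟨x, rfl⟩, fsEquiv_apply]
      congr 1
      exact Subtype.ext (Hg x)
    rw [this, hSy]
    exact hβ
  obtain ⟨κ, hκ, Hκ⟩ := exists_conj_le_of_le_sup Sy K _ hBp hBK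
  refine ⟨κ, hκ, ?_⟩
  -- the map `ψ₀ = κ ∘ φ`
  have hκF := (mem_autGroup_iff F hRS _).mp κ.2
  have hφr : ∀ x : P, φ x ∈ φ.range := fun x => ⟨x, rfl⟩
  have hψ₀ := F.comp_mem hφ hκF hφr
  obtain ⟨ψ₀, hψ₀def⟩ : ∃ ψ₀ : P →* Ω, ψ₀ = (φ.range.subtype.comp (κ : MulAut φ.range).toMonoidHom).comp
      (φ.codRestrict φ.range hφr) := ⟨_, rfl⟩
  rw [← hψ₀def] at hψ₀
  have hψ₀x : ∀ x : P, ψ₀ x = (((κ : MulAut φ.range) ⟨φ x, ⟨x, rfl⟩⟩ : φ.range) : Ω) := by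
    intro x; rw [hψ₀def]; rfl
  have hψ₀r : ψ₀.range = φ.range := by
    apply le_antisymm
    · rintro _ ⟨x, rfl⟩
      rw [hψ₀x]
      exact ((κ : MulAut φ.range) _).2
    · intro y hy
      obtain ⟨x, hx⟩ := ((κ : MulAut φ.range)⁻¹ ⟨y, hy⟩).2
      refine ⟨x, ?_⟩
      rw [hψ₀x]
      have : (⟨φ x, ⟨x, rfl⟩⟩ : φ.range) = (κ : MulAut φ.range)⁻¹ ⟨y, hy⟩ := Subtype.ext hx
      rw [this, MulAut.apply_inv_self]
  obtain ⟨χ, hχ, Hχ⟩ := hRr.2 P ψ₀ hψ₀ hψ₀r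
  -- `N` lies in the extender of `ψ₀`
  have hNext : N ≤ extender S P ψ₀ := by
    intro g hgN
    obtain ⟨hg, β, hβ, Hβ⟩ := hcond g hgN
    rw [mem_extender_iff]
    refine ⟨hNS hgN, hg, ?_⟩
    -- the element `b_g` of `B`
    have hcN : P.normalizerMonoidHom ⟨g, hg⟩ ∈ autInducedBy N P := by
      rw [mem_autInducedBy_iff]
      exact ⟨g, hgN, fun x => rfl⟩
    have hcF : P.normalizerMonoidHom ⟨g, hg⟩ ∈ F.autGroup P := by
      apply autInducedBy_le_autGroup F hPS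
      rw [mem_autInducedBy_iff]
      exact ⟨g, hNS hgN, fun x => rfl⟩
    have hbA := congr_mem_autGroup F hφ _ hcF
    have hbB : (⟨_, hbA⟩ : F.autGroup φ.range) ∈
        ((autInducedBy N P).map (MulAut.congr (fsEquiv F hφ)).toMonoidHom).subgroupOf (F.autGroup φ.range) := by
      rw [Subgroup.mem_subgroupOf]
      exact ⟨_, hcN, rfl⟩
    have h1 := Hκ _ hbB
    rw [hSy, Subgroup.mem_subgroupOf, mem_autInducedBy_iff] at h1
    obtain ⟨h, hhS, Hh⟩ := h1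
    refine ⟨h, hhS, fun x hx => ?_⟩
    have h2 := Hh ((κ : MulAut φ.range) ⟨φ x, ⟨x, rfl⟩⟩)
    rw [hψ₀x, hψ₀x, ← h2]
    show _ = (((κ : MulAut φ.range) ((MulAut.congr (fsEquiv F hφ) (P.normalizerMonoidHom ⟨g, hg⟩))
      ((κ : MulAut φ.range)⁻¹ ((κ : MulAut φ.range) ⟨φ x, ⟨x, rfl⟩⟩))) : φ.range) : Ω)
    rw [MulAut.inv_apply_self]
    congr 2
    apply Subtype.ext
    show φ ⟨g * x * g⁻¹, hx⟩ = ((fsEquiv F hφ ((P.normalizerMonoidHom ⟨g, hg⟩)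
      ((fsEquiv F hφ).symm ⟨φ x, ⟨x, rfl⟩⟩)) : φ.range) : Ω)
    rw [fsEquiv_symm_apply F hφ x ⟨x, rfl⟩, fsEquiv_apply]
    rfl
  refine ⟨χ.comp (Subgroup.inclusion hNext), fs_restrict_mem F hχ hNext, fun x => ?_⟩
  rw [← hψ₀x]
  exact Hχ x x.2 (hNext (hPN x.2))

end Cfsg.Agent.Lib.Helper9
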