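import Mathlib
import Cfsg.Prelude.Def_FusionComponents
import Cfsg.Agent.Lib.Helper9.FusionMorph3
import Cfsg.Agent.Lib.Helper9.FusionMorph4
import Cfsg.Agent.Lib.Helper9.FusionReceptive

set_option autoImplicit false
open Cfsg
open Cfsg.FusionSystem

/-! Receptivity in the image of a surjective morphism. -/

namespace Cfsg.Agent.Lib.Helper9

variable {Ω : Type*} [Group Ω] {S : Subgroup Ω} {Ω' : Type*} [Group Ω'] {S' : Subgroup Ω'}

theorem mem_normalizer_of_conj_mem {R : Subgroup Ω} [Finite R] {s : Ω}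
    (hconj : ∀ x : Ω, x ∈ R → s * x * s⁻¹ ∈ R) : s ∈ Subgroup.normalizer (R : Set Ω) := by
  rw [Subgroup.mem_normalizer_iff]
  intro x
  refine ⟨hconj x, fun hx => ?_⟩
  let f : R → R := fun y => ⟨s * y * s⁻¹, hconj y y.2⟩
  have hf : Function.Injective f := by
    intro a c hac
    have : s * a * s⁻¹ = s * c * s⁻¹ := congrArg Subtype.val hac
    exact Subtype.ext (mul_left_cancel (mul_right_cancel this))
  obtain ⟨y, hy⟩ := (Finite.injective_iff_surjective.mp hf) ⟨_, hx⟩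
  have : s * y * s⁻¹ = s * x * s⁻¹ := congrArg Subtype.val hy
  have hxy : (y : Ω) = x := mul_left_cancel (mul_right_cancel this)
  rw [← hxy]
  exact y.2

theorem ker_inducedAut_apply [Finite S'] (F : FusionSystem S) (F' : FusionSystem S') (α : S →* Ω')
    (hα : F.IsMorphism F' α) {R : Subgroup Ω} (hRS : R ≤ S) {κ : F.autGroup R}
    (hκ : κ ∈ (inducedAut F F' α hα hRS).ker) (r : R) :
    α ⟨(((κ : MulAut R) r : R) : Ω), hRS ((κ : MulAut R) r).2⟩ = α ⟨r, hRS r.2⟩ := by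
  have h1 := inducedAut_spec F F' α hα hRS κ r
  rw [MonoidHom.mem_ker.mp hκ] at h1
  exact h1.symm

theorem morph_receptive_aux [Finite S] [Finite S'] (p : ℕ) [Fact p.Prime] (hS : IsPGroup p S)
    (F : FusionSystem S) (hF : F.IsSaturated p) (F' : FusionSystem S') (α : S →* Ω')
    (hα : F.IsSurjectiveMorphism F' α) {P₀' : Subgroup Ω'} {φ' : P₀' →* Ω'} (hφ' : φ' ∈ F'.Hom P₀')
    {φ : preimageAlong α P₀' →* Ω} (hφ : φ ∈ F.Hom (preimageAlong α P₀'))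
    (Hφ : ∀ (x : preimageAlong α P₀') (hφS : φ x ∈ S),
      φ' ⟨α ⟨x, preimageAlong_le α P₀' x.2⟩, apply_mem_of_mem_preimageAlong α P₀' x⟩ = α ⟨φ x, hφS⟩)
    (hRn : F.IsFullyNormalized φ.range) :
    ∃ ψ' ∈ F'.Hom (extender S' P₀' φ'), ∀ (x : Ω') (hP : x ∈ P₀') (hN : x ∈ extender S' P₀' φ'),
      ψ' ⟨x, hN⟩ = φ' ⟨x, hP⟩ := by
  have hrange := hα.2.1
  have hP₀'S' : P₀' ≤ S' := (F'.le_of_mem hφ').1
  have hφ'S' : ∀ y : P₀', φ' y ∈ S' := (F'.le_of_mem hφ').2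
  have hRS : φ.range ≤ S := fs_range_le F hφ
  have hφS : ∀ x : preimageAlong α P₀', φ x ∈ S := (F.le_of_mem hφ).2
  haveI : Finite φ.range := fs_finite_of_le hRS
  have hRfull : IsFull α φ.range := isFull_range p hS F F' α hα.1 (isFull_preimageAlong α P₀') hφ
  have hP₀N : preimageAlong α P₀' ≤ preimageAlong α (extender S' P₀' φ') := by
    intro x hx
    rw [mem_preimageAlong_iff] at hx ⊢
    exact ⟨hx.1, fs_le_extender P₀' φ' hP₀'S' hφ'S' hx.2⟩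
  have hcond : ∀ g ∈ preimageAlong α (extender S' P₀' φ'),
      ∃ (hg : g ∈ Subgroup.normalizer ((preimageAlong α P₀' : Subgroup Ω) : Set Ω)) (β : F.autGroup φ.range),
      β ∈ ((autInducedBy S φ.range).subgroupOf (F.autGroup φ.range)) ⊔
        (inducedAut F F' α hα.1 hRS).ker ∧
      ∀ x : preimageAlong α P₀', (((β : MulAut φ.range) ⟨φ x, ⟨x, rfl⟩⟩ : φ.range) : Ω) =
        φ ⟨g * x * g⁻¹, (Subgroup.mem_normalizer_iff.mp hg x).mp x.2⟩ := by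
    intro g hg
    rw [mem_preimageAlong_iff] at hg
    obtain ⟨hgS, hgN'⟩ := hg
    rw [mem_extender_iff] at hgN'
    obtain ⟨-, hgnorm, h', hh'S', Hh'⟩ := hgN'
    rw [← hrange] at hh'S'
    obtain ⟨h, rfl⟩ := hh'S'
    -- `g` normalizes the preimage
    have hgnormP : g ∈ Subgroup.normalizer ((preimageAlong α P₀' : Subgroup Ω) : Set Ω) := by
      rw [Subgroup.mem_normalizer_iff]
      intro x
      rw [mem_preimageAlong_iff, mem_preimageAlong_iff]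
      constructor
      · rintro ⟨hxS, hx⟩
        refine ⟨S.mul_mem (S.mul_mem hgS hxS) (S.inv_mem hgS), ?_⟩
        have e : (⟨g * x * g⁻¹, S.mul_mem (S.mul_mem hgS hxS) (S.inv_mem hgS)⟩ : S) =
            ⟨g, hgS⟩ * ⟨x, hxS⟩ * ⟨g, hgS⟩⁻¹ := rfl
        rw [e, map_mul, map_mul, map_inv]
        exact (Subgroup.mem_normalizer_iff.mp hgnorm _).mp hx
      · rintro ⟨hxS, hx⟩
        have hxS' : x ∈ S := by
          have := S.mul_mem (S.mul_mem (S.inv_mem hgS) hxS) hgS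
          simpa [mul_assoc] using this
        refine ⟨hxS', ?_⟩
        have e : (⟨g * x * g⁻¹, hxS⟩ : S) = ⟨g, hgS⟩ * ⟨x, hxS'⟩ * ⟨g, hgS⟩⁻¹ := rfl
        rw [e, map_mul, map_mul, map_inv] at hx
        exact (Subgroup.mem_normalizer_iff.mp hgnorm _).mpr hx
    refine ⟨hgnormP, ?_⟩
    have hPS : preimageAlong α P₀' ≤ S := preimageAlong_le α P₀'
    have hcF : (preimageAlong α P₀').normalizerMonoidHom ⟨g, hgnormP⟩ ∈ F.autGroup (preimageAlong α P₀') := by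
      apply autInducedBy_le_autGroup F hPS
      rw [mem_autInducedBy_iff]
      exact ⟨g, hgS, fun x => rfl⟩
    have hbA := congr_mem_autGroup F hφ _ hcF
    have Hβ : ∀ x : preimageAlong α P₀',
        (((MulAut.congr (fsEquiv F hφ) ((preimageAlong α P₀').normalizerMonoidHom ⟨g, hgnormP⟩))
          ⟨φ x, ⟨x, rfl⟩⟩ : φ.range) : Ω) =
        φ ⟨g * x * g⁻¹, (Subgroup.mem_normalizer_iff.mp hgnormP x).mp x.2⟩ := by
      intro x
      show ((fsEquiv F hφ (((preimageAlong α P₀').normalizerMonoidHom ⟨g, hgnormP⟩)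
        ((fsEquiv F hφ).symm ⟨φ x, ⟨x, rfl⟩⟩)) : φ.range) : Ω) = _
      rw [fsEquiv_symm_apply F hφ x ⟨x, rfl⟩, fsEquiv_apply]
      rfl
    refine ⟨⟨_, hbA⟩, ?_, Hβ⟩
    -- the key congruence: `α (φ (g x g⁻¹)) = α h * α (φ x) * (α h)⁻¹`
    have key : ∀ x : preimageAlong α P₀',
        α ⟨φ ⟨g * x * g⁻¹, (Subgroup.mem_normalizer_iff.mp hgnormP x).mp x.2⟩, hφS _⟩ =
          α h * α ⟨φ x, hφS x⟩ * (α h)⁻¹ := by
      intro x
      rw [← Hφ _ (hφS _), ← Hφ x (hφS x)]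
      have hxmem := apply_mem_of_mem_preimageAlong α P₀' x
      have hconjmem : α ⟨g, hgS⟩ * α ⟨x, hPS x.2⟩ * (α ⟨g, hgS⟩)⁻¹ ∈ P₀' :=
        (Subgroup.mem_normalizer_iff.mp hgnorm _).mp hxmem
      have h3 := Hh' ⟨α ⟨x, hPS x.2⟩, hxmem⟩ hconjmem
      rw [← h3]
      congr 1
      apply Subtype.ext
      show α ⟨g * x * g⁻¹, _⟩ = α ⟨g, hgS⟩ * α ⟨x, hPS x.2⟩ * (α ⟨g, hgS⟩)⁻¹
      rw [← map_inv, ← map_mul, ← map_mul]
      rfl
    -- `h` normalizes `φ.range`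
    have hhN : (h : Ω) ∈ Subgroup.normalizer (φ.range : Set Ω) := by
      apply mem_normalizer_of_conj_mem
      rintro _ ⟨x, rfl⟩
      apply hRfull.2 (h * ⟨φ x, hφS x⟩ * h⁻¹)
      rw [map_mul, map_mul, map_inv, ← key x]
      exact apply_mem_imageAlong α (hφS _) ⟨_, rfl⟩
    have hchS : φ.range.normalizerMonoidHom ⟨h, hhN⟩ ∈ autInducedBy S φ.range := by
      rw [mem_autInducedBy_iff]
      exact ⟨h, h.2, fun x => rfl⟩
    have hchF : φ.range.normalizerMonoidHom ⟨h, hhN⟩ ∈ F.autGroup φ.range :=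
      autInducedBy_le_autGroup F hRS hchS
    have hΦeq : inducedAut F F' α hα.1 hRS ⟨_, hbA⟩ = inducedAut F F' α hα.1 hRS ⟨_, hchF⟩ := by
      apply Subtype.ext
      apply inducedAut_eq_of
      rintro ⟨_, x, rfl⟩
      have h1 := inducedAut_spec F F' α hα.1 hRS ⟨_, hchF⟩ ⟨φ x, ⟨x, rfl⟩⟩
      refine h1.trans ?_
      have e1 : (⟨((φ.range.normalizerMonoidHom ⟨h, hhN⟩ ⟨φ x, ⟨x, rfl⟩⟩ : φ.range) : Ω),
          hRS (φ.range.normalizerMonoidHom ⟨h, hhN⟩ ⟨φ x, ⟨x, rfl⟩⟩).2⟩ : S) =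
          h * ⟨φ x, hφS x⟩ * h⁻¹ := rfl
      rw [e1, map_mul, map_mul, map_inv, ← key x]
      congr 1
      apply Subtype.ext
      exact (Hβ x).symm
    have hmemK : (⟨_, hbA⟩ : F.autGroup φ.range) * (⟨_, hchF⟩ : F.autGroup φ.range)⁻¹ ∈
        (inducedAut F F' α hα.1 hRS).ker := by
      rw [MonoidHom.mem_ker, map_mul, map_inv, hΦeq, mul_inv_cancel]
    have e : (⟨_, hbA⟩ : F.autGroup φ.range) =
        ((⟨_, hbA⟩ : F.autGroup φ.range) * (⟨_, hchF⟩ : F.autGroup φ.range)⁻¹) * ⟨_, hchF⟩ := by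
      rw [inv_mul_cancel_right]
    rw [e, sup_comm]
    exact Subgroup.mul_mem_sup hmemK (Subgroup.mem_subgroupOf.mpr hchS)
  obtain ⟨κ, hκ, ψ, hψ, Hψ⟩ := fs_extend_mod_normal p hS F hF hφ hRn
    (inducedAut F F' α hα.1 hRS).ker _ hP₀N (preimageAlong_le α _) hcond
  obtain ⟨ψ', hψ', Hψ'⟩ := morph_push F F' α hα.1 hψ
  have hN'le : extender S' P₀' φ' ≤ imageAlong α (preimageAlong α (extender S' P₀' φ')) := by
    apply le_imageAlong_preimageAlong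
    rw [hrange]
    unfold extender
    rw [Subgroup.closure_le]
    intro g hg
    exact hg.1
  refine ⟨ψ'.comp (Subgroup.inclusion hN'le), fs_restrict_mem F' hψ' hN'le, fun y hP hN => ?_⟩
  have hyS' : y ∈ α.range := by rw [hrange]; exact hP₀'S' hP
  obtain ⟨s, rfl⟩ := hyS'
  have hsP₀ : (s : Ω) ∈ preimageAlong α P₀' := (mem_preimageAlong_iff α P₀' s).mpr ⟨s.2, hP⟩
  have hψS : ∀ x, ψ x ∈ S := (F.le_of_mem hψ).2
  have h1 := Hψ' ⟨s, hP₀N hsP₀⟩ s.2 (hN'le hN) (hψS _)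
  show ψ' (Subgroup.inclusion hN'le ⟨α s, hN⟩) = _
  have e1 : Subgroup.inclusion hN'le ⟨α s, hN⟩ = ⟨α ⟨(s : Ω), s.2⟩, hN'le hN⟩ := Subtype.ext rfl
  rw [e1, h1]
  have h2 := Hψ ⟨s, hsP₀⟩
  have h3 := ker_inducedAut_apply F F' α hα.1 hRS hκ ⟨φ ⟨s, hsP₀⟩, ⟨_, rfl⟩⟩
  have e2 : (⟨ψ ⟨s, hP₀N hsP₀⟩, hψS _⟩ : S) =
      ⟨(((κ : MulAut φ.range) ⟨φ ⟨s, hsP₀⟩, ⟨_, rfl⟩⟩ : φ.range) : Ω),
        hRS ((κ : MulAut φ.range) ⟨φ ⟨s, hsP₀⟩, ⟨_, rfl⟩⟩).2⟩ := Subtype.ext h2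
  rw [e2, h3]
  exact (Hφ ⟨s, hsP₀⟩ (hφS _)).symm

end Cfsg.Agent.Lib.Helper9
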