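import Mathlib
import Cfsg.Prelude.Def_FusionSystem
import Cfsg.Agent.Lib.Helper9.FusionBasic

set_option autoImplicit false

namespace Cfsg.Agent.Lib.Helper9

open Cfsg Cfsg.FusionSystem

variable {Ω : Type*} [Group Ω]

/-- A family of subgroups of a finite `S` containing `⊥` and closed under binary joins contains its join. -/
theorem sSup_mem_of_finite_le (S : Subgroup Ω) [Finite S] (C : Set (Subgroup Ω))
    (hC : ∀ Q ∈ C, Q ≤ S) (hbot : ⊥ ∈ C) (hsup : ∀ Q₁ ∈ C, ∀ Q₂ ∈ C, Q₁ ⊔ Q₂ ∈ C) : sSup C ∈ C := by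
  have hfin : C.Finite := by
    apply Set.Finite.of_injOn (f := fun Q : Subgroup Ω => Q.subgroupOf S) (t := Set.univ)
    · intro Q _; trivial
    · intro Q₁ h₁ Q₂ h₂ h
      have := Subgroup.subgroupOf_inj.mp h
      rwa [inf_eq_left.mpr (hC Q₁ h₁), inf_eq_left.mpr (hC Q₂ h₂)] at this
    · exact Set.finite_univ
  have : sSup C = hfin.toFinset.sup id := by
    rw [Finset.sup_id_eq_sSup]; simp
  rw [this]
  apply Finset.sup_induction hbot hsup
  intro b hb
  simpa using hb

/-- The image of `A ≤ K ≤ K'` under the restriction to `K` of a homomorphism on `K'` is its image under that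
homomorphism. -/
theorem map_subgroupOf_comp_inclusion {Ω' : Type*} [Group Ω'] {K K' A : Subgroup Ω} (h : K ≤ K') (hA : A ≤ K)
    (ψ' : K' →* Ω') :
    (A.subgroupOf K).map (ψ'.comp (Subgroup.inclusion h)) = (A.subgroupOf K').map ψ' := by
  ext y
  constructor
  · rintro ⟨x, hx, rfl⟩
    exact ⟨Subgroup.inclusion h x, hx, rfl⟩
  · rintro ⟨x, hx, rfl⟩
    have hxA : (x : Ω) ∈ A := hx
    refine ⟨⟨x, hA hxA⟩, hxA, ?_⟩
    show ψ' _ = ψ' x
    congr 1

end Cfsg.Agent.Lib.Helper9
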