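import Mathlib
import Cfsg.Prelude.Def_FusionSystem
import Cfsg.Agent.S5085
import Cfsg.Agent.S5145
import Cfsg.Agent.Lib.Helper9.FusionNormal4

set_option autoImplicit false

namespace Cfsg.Agent.Lib.Helper9

open Cfsg Cfsg.FusionSystem
open scoped commutatorElement

variable {Ω : Type*} [Group Ω] {S : Subgroup Ω}

theorem fs_stronglyClosed_top (F : FusionSystem S) : F.StronglyClosed S :=
  ⟨le_rfl, fun _ _ _ hφ x => (F.le_of_mem hφ).2 x⟩

/-- `[Q, S] ≤ Q` when `S` normalizes `Q`. -/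
theorem commutator_le_of_le_normalizer {Q T : Subgroup Ω} (h : T ≤ Subgroup.normalizer (Q : Set Ω)) :
    ⁅Q, T⁆ ≤ Q := by
  rw [Subgroup.commutator_le]
  intro q hq s hs
  have h1 : s * q⁻¹ * s⁻¹ ∈ Q := (Subgroup.mem_normalizer_iff.mp (h hs) q⁻¹).mp (Q.inv_mem hq)
  have h2 : ⁅q, s⁆ = q * (s * q⁻¹ * s⁻¹) := by
    rw [commutatorElement_def]; group
  rw [h2]
  exact Q.mul_mem hq h1

/-- **Series criterion** (AKO I.4.6), the direction from the series. -/
theorem fs_isNormal_of_series [Finite S] (p : ℕ) [Fact p.Prime] (hS : IsPGroup p S) (F : FusionSystem S)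
    (hF : F.IsSaturated p) (Q : Subgroup Ω) (n : ℕ) (Qs : Fin (n + 1) → Subgroup Ω) (h0 : Qs 0 = ⊥)
    (hlast : Qs (Fin.last n) = Q) (hmono : Monotone Qs)
    (hstep : ∀ i : Fin n, F.StronglyClosed (Qs i.succ) ∧ ⁅Q, Qs i.succ⁆ ≤ Qs (Fin.castSucc i)) :
    F.IsNormal Q := by
  cases n with
  | zero =>
    have : Q = ⊥ := by rw [← hlast, ← h0]; rfl
    rw [this]
    exact Cfsg.Agent.S5145.isNormal_bot F
  | succ n' =>
    have hQsc : F.StronglyClosed Q := by
      rw [← hlast, ← Fin.succ_last]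
      exact (hstep (Fin.last n')).1
    have hQS : Q ≤ S := hQsc.1
    have hSN := fs_stronglyClosed_le_normalizer F hQsc
    have hle_last : ∀ (i : ℕ) (h : i < n' + 1 + 1), Qs ⟨i, h⟩ ≤ Q := by
      intro i h
      rw [← hlast]
      exact hmono (Fin.le_last _)
    refine fs_isNormal_of_chain p hS F hF Q hQsc
      (fun i => if h : i < n' + 1 + 1 then Qs ⟨i, h⟩ else S) ?_ (n' + 1 + 1) ?_ ?_ ?_ ?_
    · show (if h : 0 < n' + 1 + 1 then Qs ⟨0, h⟩ else S) = ⊥
      rw [dif_pos (Nat.succ_pos _)]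
      exact h0
    · show (if h : n' + 1 + 1 < n' + 1 + 1 then Qs ⟨n' + 1 + 1, h⟩ else S) = S
      rw [dif_neg (lt_irrefl _)]
    · intro i j hij
      show (if h : i < n' + 1 + 1 then Qs ⟨i, h⟩ else S) ≤ (if h : j < n' + 1 + 1 then Qs ⟨j, h⟩ else S)
      by_cases hj : j < n' + 1 + 1
      · have hi : i < n' + 1 + 1 := lt_of_le_of_lt hij hj
        rw [dif_pos hi, dif_pos hj]
        exact hmono (Fin.mk_le_mk.mpr hij)
      · rw [dif_neg hj]
        by_cases hi : i < n' + 1 + 1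
        · rw [dif_pos hi]
          exact (hle_last i hi).trans hQS
        · rw [dif_neg hi]
    · intro i
      show F.StronglyClosed (if h : i + 1 < n' + 1 + 1 then Qs ⟨i + 1, h⟩ else S)
      by_cases hi : i + 1 < n' + 1 + 1
      · rw [dif_pos hi]
        exact (hstep ⟨i, Nat.lt_of_succ_lt_succ hi⟩).1
      · rw [dif_neg hi]
        exact fs_stronglyClosed_top F
    · intro i
      show ⁅Q, (if h : i + 1 < n' + 1 + 1 then Qs ⟨i + 1, h⟩ else S)⁆ ≤
        (if h : i < n' + 1 + 1 then Qs ⟨i, h⟩ else S)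
      by_cases hi : i + 1 < n' + 1 + 1
      · rw [dif_pos hi, dif_pos (Nat.lt_of_succ_lt hi)]
        exact (hstep ⟨i, Nat.lt_of_succ_lt_succ hi⟩).2
      · rw [dif_neg hi]
        have h1 : ⁅Q, S⁆ ≤ Q := commutator_le_of_le_normalizer hSN
        by_cases hi' : i < n' + 1 + 1
        · rw [dif_pos hi']
          have hieq : i = n' + 1 := by omega
          subst hieq
          have : Qs ⟨n' + 1, hi'⟩ = Q := by rw [← hlast]; rfl
          rw [this]
          exact h1
        · rw [dif_neg hi']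
          exact h1.trans hQS

/-- **Series criterion** (AKO I.4.6), the direction to the series: the upper central series of `Q`. -/
theorem fs_series_of_isNormal [Finite S] (p : ℕ) [Fact p.Prime] (hS : IsPGroup p S) (F : FusionSystem S)
    (Q : Subgroup Ω) (hQ : F.IsNormal Q) :
    ∃ (n : ℕ) (Qs : Fin (n + 1) → Subgroup Ω), Qs 0 = ⊥ ∧ Qs (Fin.last n) = Q ∧ Monotone Qs ∧
      ∀ i : Fin n, F.StronglyClosed (Qs i.succ) ∧ ⁅Q, Qs i.succ⁆ ≤ Qs (Fin.castSucc i) := by
  have hQS : Q ≤ S := hQ.1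
  haveI : Finite Q := fs_finite_of_le hQS
  have hQp : IsPGroup p Q := hS.to_le hQS
  haveI : Group.IsNilpotent Q := hQp.isNilpotent
  obtain ⟨n, hn⟩ := (Group.IsNilpotent.nilpotent' : ∃ n : ℕ, Subgroup.upperCentralSeries Q n = ⊤)
  refine ⟨n, fun i => (Subgroup.upperCentralSeries Q i).map Q.subtype, ?_, ?_, ?_, ?_⟩
  · show (Subgroup.upperCentralSeries Q 0).map Q.subtype = ⊥
    rw [Subgroup.upperCentralSeries_zero, Subgroup.map_bot]
  · show (Subgroup.upperCentralSeries Q n).map Q.subtype = Q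
    rw [hn, ← MonoidHom.range_eq_map, Subgroup.range_subtype]
  · intro i j hij
    exact Subgroup.map_mono (Subgroup.upperCentralSeries_mono Q hij)
  · intro i
    constructor
    · apply fs_stronglyClosed_of_isNormal
      apply Cfsg.Agent.S5085.result F Q _ hQ (Subgroup.map_subtype_le _)
      have : ((Subgroup.upperCentralSeries Q ((i.succ : Fin (n + 1)) : ℕ)).map Q.subtype).subgroupOf Q
          = Subgroup.upperCentralSeries Q ((i.succ : Fin (n + 1)) : ℕ) :=
        Subgroup.comap_map_eq_self_of_injective Q.subtype_injective _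
      rw [this]
      infer_instance
    · show ⁅Q, (Subgroup.upperCentralSeries Q ((i.succ : Fin (n + 1)) : ℕ)).map Q.subtype⁆ ≤
        (Subgroup.upperCentralSeries Q ((Fin.castSucc i : Fin (n + 1)) : ℕ)).map Q.subtype
      rw [Subgroup.commutator_le]
      intro q hq z hz
      obtain ⟨z', hz', rfl⟩ := hz
      have h1 : ((i.succ : Fin (n + 1)) : ℕ) = ((Fin.castSucc i : Fin (n + 1)) : ℕ) + 1 := by simp
      rw [h1] at hz'
      have hz'' : z' ∈ Subgroup.upperCentralSeries Q (((Fin.castSucc i : Fin (n + 1)) : ℕ) + 1) := hz'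
      rw [Subgroup.mem_upperCentralSeries_succ_iff] at hz''
      have h2 := hz'' ⟨q, hq⟩
      refine ⟨⁅(⟨q, hq⟩ : Q), z'⁆, ?_, rfl⟩
      rw [← commutatorElement_inv]
      exact Subgroup.inv_mem _ h2

end Cfsg.Agent.Lib.Helper9
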