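import Mathlib
import Cfsg.Prelude.Def_FusionSystem
import Cfsg.Agent.S5106
import Cfsg.Agent.Lib.Helper9.FusionNormal5

set_option autoImplicit false

namespace Cfsg.Agent.Lib.Helper9

open Cfsg Cfsg.FusionSystem
open scoped commutatorElement

variable {Ω : Type*} [Group Ω] {S : Subgroup Ω}

/-- **Series criterion, descending form**: `D 0 = S ≥ D 1 ≥ ⋯ ≥ D M = 1` strongly closed with
`[Q, D i] ≤ D (i+1)`. -/
theorem fs_isNormal_of_descending_chain [Finite S] (p : ℕ) [Fact p.Prime] (hS : IsPGroup p S)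
    (F : FusionSystem S) (hF : F.IsSaturated p) (Q : Subgroup Ω) (hQsc : F.StronglyClosed Q)
    (D : ℕ → Subgroup Ω) (h0 : D 0 = S) (M : ℕ) (hM : D M = ⊥) (hanti : Antitone D)
    (hsc : ∀ i, F.StronglyClosed (D i)) (hcomm : ∀ i, ⁅Q, D i⁆ ≤ D (i + 1)) : F.IsNormal Q := by
  refine fs_isNormal_of_chain p hS F hF Q hQsc (fun i => D (M - i)) ?_ M ?_ ?_ ?_ ?_
  · show D (M - 0) = ⊥
    rw [Nat.sub_zero]; exact hM
  · show D (M - M) = S
    rw [Nat.sub_self]; exact h0
  · intro i j hij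
    exact hanti (Nat.sub_le_sub_left hij M)
  · intro i
    exact hsc _
  · intro i
    show ⁅Q, D (M - (i + 1))⁆ ≤ D (M - i)
    by_cases hi : i < M
    · have : M - i = (M - (i + 1)) + 1 := by omega
      rw [this]
      exact hcomm _
    · have h1 : M - (i + 1) = 0 := by omega
      have h2 : M - i = 0 := by omega
      rw [h1, h2, h0]
      rw [Subgroup.commutator_le]
      intro a ha b hb
      rw [commutatorElement_def]
      have haS := hQsc.1 ha
      exact S.mul_mem (S.mul_mem (S.mul_mem haS hb) (S.inv_mem haS)) (S.inv_mem hb)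

/-- A subgroup normal in the system is weakly closed. -/
theorem fs_weaklyClosed_of_isNormal [Finite S] (F : FusionSystem S) {Q : Subgroup Ω} (hQ : F.IsNormal Q) :
    F.WeaklyClosed Q := by
  have hsc := fs_stronglyClosed_of_isNormal F hQ
  refine ⟨hQ.1, fun φ hφ => ?_⟩
  haveI : Finite Q := fs_finite_of_le hQ.1
  have hle : φ.range ≤ Q := by
    rintro _ ⟨x, rfl⟩
    exact hsc.2 Q le_rfl φ hφ x
  have hcard : Nat.card φ.range = Nat.card Q :=
    (Nat.card_congr (MonoidHom.ofInjective (F.injective_of_mem hφ)).toEquiv).symm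
  exact Subgroup.eq_of_le_of_card_ge hle (le_of_eq hcard.symm)

/-- A weakly closed subgroup is fully normalized. -/
theorem fs_fullyNormalized_of_weaklyClosed (F : FusionSystem S) {Q : Subgroup Ω} (hQ : F.WeaklyClosed Q) :
    F.IsFullyNormalized Q := by
  refine ⟨hQ.1, ?_⟩
  rintro Q' ⟨φ, hφ, rfl⟩
  rw [hQ.2 φ hφ]

/-- If `Q₁` is normal in a saturated system and `Aut_F(Q₁)` is a `p`-group, every map of the system defined on
a subgroup of `Q₁` is conjugation by an element of `S`. -/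
theorem fs_conj_of_isNormal_of_isPGroup [Finite S] (p : ℕ) [Fact p.Prime] (hS : IsPGroup p S)
    (F : FusionSystem S) (hF : F.IsSaturated p) {Q₁ : Subgroup Ω} (hQ₁ : F.IsNormal Q₁)
    (hAut : IsPGroup p (F.autGroup Q₁)) {R : Subgroup Ω} (hR : R ≤ Q₁) {φ : R →* Ω} (hφ : φ ∈ F.Hom R) :
    ∃ s ∈ S, ∀ x : R, φ x = s * x * s⁻¹ := by
  obtain ⟨α, hα, Hα⟩ := (Cfsg.Agent.S5106.result p hS F hF Q₁ hQ₁.1).mp hQ₁ R hR φ hφ
  have hfn := fs_fullyNormalized_of_weaklyClosed F (fs_weaklyClosed_of_isNormal F hQ₁)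
  have hfa := (fs_sylow_axiom p hS F hF hfn).2
  have h1 := fs_autGroup_le_autInducedBy_of_isPGroup p F hfa hAut hα
  rw [mem_autInducedBy_iff] at h1
  obtain ⟨s, hs, Hs⟩ := h1
  refine ⟨s, hs, fun x => ?_⟩
  rw [← Hα x, Hs]
  rfl

end Cfsg.Agent.Lib.Helper9
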