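import Mathlib
import Cfsg.Prelude.Def_FusionSystem
import Cfsg.Agent.Lib.Helper9.FusionNormal6

set_option autoImplicit false

namespace Cfsg.Agent.Lib.Helper9

open Cfsg Cfsg.FusionSystem
open scoped commutatorElement

variable {Ω : Type*} [Group Ω] {S : Subgroup Ω}

/-- **Absorption lemma**: a subgroup `X ⊴ S` that acts nilpotently along a chain of strongly closed subgroups
`1 = Q₀ ≤ ⋯ ≤ Q_M = S` lies in every centric radical subgroup. -/
theorem fs_le_centric_radical_of_chain [Finite S] (p : ℕ) [Fact p.Prime] (hS : IsPGroup p S)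
    (F : FusionSystem S) (X : Subgroup Ω) (hXS : X ≤ S) (hXN : S ≤ Subgroup.normalizer (X : Set Ω))
    (Qn : ℕ → Subgroup Ω) (h0 : Qn 0 = ⊥) (M : ℕ) (hM : Qn M = S) (hmono : Monotone Qn)
    (hsc : ∀ i, F.StronglyClosed (Qn (i + 1))) (hcomm : ∀ i, ⁅X, Qn (i + 1)⁆ ≤ Qn i)
    {P : Subgroup Ω} (hPc : F.IsCentric P) (hPr : F.IsRadical p P) : X ≤ P := by
  have hPS : P ≤ S := hPc.1
  haveI : Finite P := fs_finite_of_le hPS
  have hCle : centralizerIn S P ≤ P := hPc.2 P (fs_isConj_refl F hPS)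
  have hPp : IsPGroup p P := hS.to_le hPS
  have hPs0 : (fun i => (Qn i).subgroupOf P) 0 = ⊥ := by
    show (Qn 0).subgroupOf P = ⊥
    rw [h0, Subgroup.bot_subgroupOf]
  have hPsM : (fun i => (Qn i).subgroupOf P) M = ⊤ := by
    show (Qn M).subgroupOf P = ⊤
    rw [hM, Subgroup.subgroupOf_eq_top]
    exact hPS
  have hPsmono : Monotone (fun i => (Qn i).subgroupOf P) := fun i j h => Subgroup.comap_mono (hmono h)
  have hDp := isPGroup_chainStabilizer p hPp hPsmono hPs0 M hPsM
  have hinv : ∀ γ ∈ F.autGroup P, ∀ i : ℕ, ∀ y ∈ (Qn i).subgroupOf P, γ y ∈ (Qn i).subgroupOf P := by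
    intro γ hγ i y hy
    rw [mem_autGroup_iff F hPS] at hγ
    cases i with
    | zero =>
      rw [h0, Subgroup.bot_subgroupOf, Subgroup.mem_bot] at hy
      rw [hy, map_one]; exact Subgroup.one_mem _
    | succ i =>
      exact fs_stronglyClosed_mem F (hsc i) hγ y hy
  have hnormal : ((chainStabilizer _ hPsmono hPs0).subgroupOf (F.autGroup P)).Normal := by
    constructor
    intro α hα β
    rw [Subgroup.mem_subgroupOf, mem_chainStabilizer_iff] at hα ⊢
    have h1 := stabChain_conj (β := (β : MulAut P)) hα (hinv β β.2)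
      (hinv _ ((F.autGroup P).inv_mem β.2))
    exact h1
  have hDcore : (chainStabilizer _ hPsmono hPs0).subgroupOf (F.autGroup P) ≤
      Cfsg.pCore p (F.autGroup P) := by
    apply le_pCore hnormal
    exact hDp.comap_of_injective _ (Subgroup.subtype_injective _)
  have hNQ : X ⊓ Subgroup.normalizer (P : Set Ω) ≤ P := by
    intro g hg
    obtain ⟨c, hc'⟩ : ∃ c : MulAut P, c = P.normalizerMonoidHom ⟨g, hg.2⟩ := ⟨_, rfl⟩
    have hcg : ∀ x : P, ((c x : P) : Ω) = g * x * g⁻¹ := by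
      intro x; rw [hc']; rfl
    have hcS : c ∈ autInducedBy S P := by
      rw [mem_autInducedBy_iff]
      exact ⟨g, hXS hg.1, hcg⟩
    have hcF : c ∈ F.autGroup P := autInducedBy_le_autGroup F hPS hcS
    have hcD : c ∈ chainStabilizer _ hPsmono hPs0 := by
      intro i x hx
      show ((x⁻¹ * c x : P) : Ω) ∈ Qn i
      have hx' : (x : Ω) ∈ Qn (i + 1) := hx
      rw [Subgroup.coe_mul, Subgroup.coe_inv, hcg]
      have h1 : ⁅(x : Ω)⁻¹, g⁆ ∈ ⁅Qn (i + 1), X⁆ :=
        Subgroup.commutator_mem_commutator ((Qn (i + 1)).inv_mem hx') hg.1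
      rw [Subgroup.commutator_comm] at h1
      have h2 := hcomm i h1
      rw [commutatorElement_def, inv_inv] at h2
      have h3 : (x : Ω)⁻¹ * (g * x * g⁻¹) = (x : Ω)⁻¹ * g * x * g⁻¹ := by group
      rw [h3]; exact h2
    have hcI : c ∈ Inn P := by
      rw [← hPr.2]
      refine ⟨⟨c, hcF⟩, hDcore ?_, rfl⟩
      rw [Subgroup.mem_subgroupOf]
      exact hcD
    exact mem_of_induces_inner hCle hcI (hXS hg.1) hPS hcg
  by_contra hne
  have hKS : P ⊔ X ≤ S := sup_le hPS hXS
  haveI hfinK : Finite ↥(P ⊔ X) := fs_finite_of_le hKS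
  have hlt : P < P ⊔ X := lt_of_le_of_ne le_sup_left (fun h => hne (by rw [h]; exact le_sup_right))
  have h1 := fs_lt_normalizerIn (S := P ⊔ X) p (hS.to_le hKS) hlt
  obtain ⟨g, hgN, hgP⟩ := SetLike.exists_of_lt h1
  have hPnQ : P ≤ Subgroup.normalizer (X : Set Ω) := hPS.trans hXN
  obtain ⟨x, hx, q, hq, hxq⟩ := mem_sup_of_le_normalizer' hPnQ hgN.1
  have hqN : q ∈ Subgroup.normalizer (P : Set Ω) := by
    have h2 : q = x⁻¹ * g := by rw [← hxq]; group
    rw [h2]
    exact Subgroup.mul_mem _ (Subgroup.inv_mem _ (Subgroup.le_normalizer hx)) hgN.2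
  apply hgP
  rw [← hxq]
  exact P.mul_mem hx (hNQ ⟨hq, hqN⟩)

/-- Descending form of the absorption lemma. -/
theorem fs_le_centric_radical_of_descending_chain [Finite S] (p : ℕ) [Fact p.Prime] (hS : IsPGroup p S)
    (F : FusionSystem S) (X : Subgroup Ω) (hXS : X ≤ S) (hXN : S ≤ Subgroup.normalizer (X : Set Ω))
    (D : ℕ → Subgroup Ω) (h0 : D 0 = S) (M : ℕ) (hM : D M = ⊥) (hanti : Antitone D)
    (hsc : ∀ i, F.StronglyClosed (D i)) (hcomm : ∀ i, ⁅X, D i⁆ ≤ D (i + 1))
    {P : Subgroup Ω} (hPc : F.IsCentric P) (hPr : F.IsRadical p P) : X ≤ P := by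
  refine fs_le_centric_radical_of_chain p hS F X hXS hXN (fun i => D (M - i)) ?_ M ?_ ?_ ?_ ?_ hPc hPr
  · show D (M - 0) = ⊥
    rw [Nat.sub_zero]; exact hM
  · show D (M - M) = S
    rw [Nat.sub_self]; exact h0
  · intro i j hij
    exact hanti (Nat.sub_le_sub_left hij M)
  · intro i
    exact hsc _
  · intro i
    show ⁅X, D (M - (i + 1))⁆ ≤ D (M - i)
    by_cases hi : i < M
    · have : M - i = (M - (i + 1)) + 1 := by omega
      rw [this]
      exact hcomm _
    · have h1 : M - (i + 1) = 0 := by omega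
      have h2 : M - i = 0 := by omega
      rw [h1, h2, h0]
      rw [Subgroup.commutator_le]
      intro a ha b hb
      rw [commutatorElement_def]
      have haS := hXS ha
      exact S.mul_mem (S.mul_mem (S.mul_mem haS hb) (S.inv_mem haS)) (S.inv_mem hb)

/-- A weakly closed subgroup contained in `P ≤ S` is invariant under `Aut_F(P)`. -/
theorem fs_weaklyClosed_aut_invariant (F : FusionSystem S) {W P : Subgroup Ω}
    (hW : F.WeaklyClosed W) (hPS : P ≤ S) (hWP : W ≤ P) {α : MulAut P} (hα : α ∈ F.autGroup P) :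
    (W.subgroupOf P).map α.toMonoidHom = W.subgroupOf P := by
  rw [mem_autGroup_iff F hPS] at hα
  have h1 := fs_restrict_mem F hα hWP
  have h2 := hW.2 _ h1
  ext y
  constructor
  · rintro ⟨x, hx, rfl⟩
    have hxW : (x : Ω) ∈ W := hx
    show ((α x : P) : Ω) ∈ W
    rw [← h2]
    exact ⟨⟨x, hxW⟩, rfl⟩
  · intro hy
    have hyW : (y : Ω) ∈ W := hy
    rw [← h2] at hyW
    obtain ⟨w, hw⟩ := hyW
    refine ⟨Subgroup.inclusion hWP w, w.2, ?_⟩
    apply Subtype.ext
    exact hw

/-- A weakly closed subgroup is normalized by `S`. -/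
theorem fs_weaklyClosed_le_normalizer (F : FusionSystem S) {W : Subgroup Ω} (hW : F.WeaklyClosed W) :
    S ≤ Subgroup.normalizer (W : Set Ω) := by
  have key : ∀ s ∈ S, ∀ y ∈ W, s * y * s⁻¹ ∈ W := by
    intro s hs y hy
    have h1 := hW.2 _ (F.conj_mem hW.1 hs)
    rw [← h1]
    exact ⟨⟨y, hy⟩, rfl⟩
  intro s hs
  rw [Subgroup.mem_normalizer_iff]
  intro y
  refine ⟨key s hs y, fun hy => ?_⟩
  have h1 := key s⁻¹ (S.inv_mem hs) _ hy
  have h2 : s⁻¹ * (s * y * s⁻¹) * s⁻¹⁻¹ = y := by group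
  rwa [h2] at h1

/-- A weakly closed subgroup contained in every centric radical subgroup is normal in the system. -/
theorem fs_isNormal_of_weaklyClosed_of_le [Finite S] (p : ℕ) [Fact p.Prime] (hS : IsPGroup p S)
    (F : FusionSystem S) (hF : F.IsSaturated p) {W : Subgroup Ω} (hW : F.WeaklyClosed W)
    (hle : ∀ P : Subgroup Ω, F.IsCentric P → F.IsRadical p P → W ≤ P) : F.IsNormal W := by
  apply fs_isNormal_of_essential_invariant p hS F hF W
  intro P hP
  have hPS : P ≤ S := by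
    rcases hP with rfl | hP
    · exact le_rfl
    · exact hP.1.1
  have hWP : W ≤ P := by
    rcases hP with rfl | hP
    · exact hW.1
    · exact hle P hP.1 (Cfsg.Agent.S5080.result p hS F hF P hP)
  exact ⟨hWP, fun α hα => fs_weaklyClosed_aut_invariant F hW hPS hWP hα⟩

/-- A strongly closed subgroup is weakly closed. -/
theorem fs_weaklyClosed_of_stronglyClosed [Finite S] (F : FusionSystem S) {Q : Subgroup Ω}
    (hsc : F.StronglyClosed Q) : F.WeaklyClosed Q := by
  refine ⟨hsc.1, fun φ hφ => ?_⟩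
  haveI : Finite Q := fs_finite_of_le hsc.1
  have hle : φ.range ≤ Q := by
    rintro _ ⟨x, rfl⟩
    exact hsc.2 Q le_rfl φ hφ x
  have hcard : Nat.card φ.range = Nat.card Q :=
    (Nat.card_congr (MonoidHom.ofInjective (F.injective_of_mem hφ)).toEquiv).symm
  exact Subgroup.eq_of_le_of_card_ge hle (le_of_eq hcard.symm)

end Cfsg.Agent.Lib.Helper9
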