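import Mathlib
import Cfsg.Prelude.Def_FusionComponents
import Cfsg.Agent.Lib.Helper9.FusionFactor
import Cfsg.Agent.S5076
import Cfsg.Agent.S5133

set_option autoImplicit false
open Cfsg
open Cfsg.FusionSystem

/-! The fusion system of a subgroup `H` on a Sylow `p`-subgroup of `H` is saturated. -/

namespace Cfsg.Agent.Lib.Helper9

variable {G : Type*} [Group G]

theorem fsos_isSaturated (p : ℕ) [Fact p.Prime] (H T : Subgroup G) [Finite H] (hTH : T ≤ H)
    (T' : Sylow p H) (hT' : (T' : Subgroup H).map H.subtype = T) :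
    (fusionSystemOfSubgroup H T hTH).IsSaturated p := by
  have hsat : (groupFusionSystem (T' : Subgroup H)).IsSaturated p := Cfsg.Agent.S5076.result p T'
  obtain ⟨α, hαdef⟩ : ∃ α : (T' : Subgroup H) →* G, α = H.subtype.comp (T' : Subgroup H).subtype := ⟨_, rfl⟩
  have hαx : ∀ s : (T' : Subgroup H), α s = ((s : H) : G) := by intro s; rw [hαdef]; rfl
  have hαT : ∀ s : (T' : Subgroup H), α s ∈ T := by
    intro s
    rw [← hT', hαx]
    exact ⟨s, s.2, rfl⟩
  have hinjT : ∀ x : H, (x : G) ∈ T → x ∈ (T' : Subgroup H) := by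
    intro x hx
    rw [← hT'] at hx
    obtain ⟨y, hy, hyx⟩ := hx
    have : y = x := Subtype.ext hyx
    rw [← this]
    exact hy
  refine Cfsg.Agent.S5133.result p T'.isPGroup' (groupFusionSystem (T' : Subgroup H)) hsat
    (fusionSystemOfSubgroup H T hTH) α ⟨⟨hαT, ?_⟩, ?_, ?_⟩
  · -- morphism
    rintro P φ ⟨hP, hφT', h, Hh⟩
    have hval : ∀ y : imageAlong α P, (h : G) * (y : G) * (h : G)⁻¹ ∈ T := by
      rintro ⟨_, s, hs, rfl⟩
      have hsP : (s : H) ∈ P := hs
      have h1 := Hh ⟨s, hsP⟩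
      have h2 : (h : G) * α s * (h : G)⁻¹ = ((φ ⟨s, hsP⟩ : H) : G) := by
        rw [h1, hαx]
        rfl
      show (h : G) * α s * (h : G)⁻¹ ∈ T
      rw [h2, ← hT']
      exact ⟨_, hφT' _, rfl⟩
    have hP'T : imageAlong α P ≤ T := by
      rintro _ ⟨s, -, rfl⟩
      exact hαT s
    refine ⟨conjHom (imageAlong α P) (h : G), ⟨hP'T, hval, h, h.2, fun y => rfl⟩, hP, hφT', ?_, ?_⟩
    · intro x
      exact ⟨⟨x, hP x.2⟩, x.2, rfl⟩
    · intro x
      subst hαdef
      show (h : G) * ((x : H) : G) * (h : G)⁻¹ = ((φ x : H) : G)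
      rw [Hh x]
      rfl
  · -- range
    rw [← hT']
    ext y
    constructor
    · rintro ⟨s, rfl⟩
      exact ⟨s, s.2, (hαx s).symm⟩
    · rintro ⟨x, hx, rfl⟩
      exact ⟨⟨x, hx⟩, hαx _⟩
  · -- surjectivity
    rintro P' hP'T φ' ⟨-, hφ'T, g, hgH, Hg⟩
    have hpre : preimageAlong α P' ≤ (T' : Subgroup H) := preimageAlong_le α P'
    have hval : ∀ x : preimageAlong α P',
        (⟨g, hgH⟩ : H) * (x : H) * (⟨g, hgH⟩ : H)⁻¹ ∈ (T' : Subgroup H) := by
      intro x
      apply hinjT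
      have hx' := apply_mem_of_mem_preimageAlong α P' x
      have h1 := Hg ⟨_, hx'⟩
      have h2 := hφ'T ⟨_, hx'⟩
      rw [h1] at h2
      subst hαdef
      exact h2
    refine ⟨conjHom (preimageAlong α P') (⟨g, hgH⟩ : H), ⟨hpre, hval, ⟨g, hgH⟩, fun x => rfl⟩,
      hpre, hval, fun x => apply_mem_of_mem_preimageAlong α P' x, ?_⟩
    intro x
    rw [Hg]
    subst hαdef
    rfl

end Cfsg.Agent.Lib.Helper9
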