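import Mathlib
import Cfsg.Prelude.Def_FusionSystem
import Cfsg.Agent.Lib.Helper9.FusionAG2
import Cfsg.Agent.Lib.Helper9.ChainStab
import Cfsg.Agent.Lib.Helper9.GroupFusion
import Cfsg.Agent.Lib.Helper9.FusionTransport

set_option autoImplicit false

namespace Cfsg.Agent.Lib.Helper9

open Cfsg Cfsg.FusionSystem

variable {Ω : Type*} [Group Ω] {S : Subgroup Ω}

/-- An overgroup (inside `S`) of a centric subgroup is centric. -/
theorem fs_centric_of_le (F : FusionSystem S) {Q N : Subgroup Ω} (hQ : F.IsCentric Q) (hQN : Q ≤ N)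
    (hNS : N ≤ S) : F.IsCentric N := by
  refine ⟨hNS, ?_⟩
  rintro N' ⟨χ, hχ, rfl⟩
  have h1 := fs_restrict_mem F hχ hQN
  have h2 := hQ.2 _ ⟨_, h1, rfl⟩
  have h3 : (χ.comp (Subgroup.inclusion hQN)).range ≤ χ.range := by
    rintro _ ⟨y, rfl⟩
    exact ⟨_, rfl⟩
  intro x hx
  apply h3
  apply h2
  exact ⟨hx.1, Subgroup.centralizer_le (SetLike.coe_subset_coe.mpr h3) hx.2⟩

/-- An automorphism in `Aut_F(P)` fixing pointwise a centric subgroup `Q ⊴ P` is conjugation by an element of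
`Z(Q)`. -/
theorem fs_aut_eq_conj_of_fix_centric [Finite S] (p : ℕ) [Fact p.Prime] (hS : IsPGroup p S)
    (F : FusionSystem S) (hF : F.IsSaturated p) {P Q : Subgroup Ω} (hPS : P ≤ S) (hQP : Q ≤ P)
    (hPN : P ≤ Subgroup.normalizer (Q : Set Ω)) (hQ : F.IsCentric Q)
    {α : MulAut P} (hα : α ∈ F.autGroup P) (hfix : ∀ x : P, (x : Ω) ∈ Q → α x = x) :
    ∃ z : P, (z : Ω) ∈ Q ∧ (z : Ω) ∈ Subgroup.centralizer (Q : Set Ω) ∧ ∀ y : P, α y = z * y * z⁻¹ := by
  haveI : Finite P := fs_finite_of_le hPS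
  have hQS : Q ≤ S := hQ.1
  have hCle : centralizerIn S Q ≤ Q := hQ.2 Q (fs_isConj_refl F hQS)
  -- (a) α moves elements by elements of Q
  have hmove : ∀ x : P, ((x⁻¹ * α x : P) : Ω) ∈ Q := by
    intro x
    apply hCle
    refine ⟨hPS (x⁻¹ * α x).2, ?_⟩
    show ((x⁻¹ * α x : P) : Ω) ∈ Subgroup.centralizer (Q : Set Ω)
    rw [Subgroup.mem_centralizer_iff]
    intro y hy
    have hconj : ((x * ⟨y, hQP hy⟩ * x⁻¹ : P) : Ω) ∈ Q :=
      (Subgroup.mem_normalizer_iff.mp (hPN x.2) y).mp hy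
    have h1 := hfix _ hconj
    have h2 := hfix ⟨y, hQP hy⟩ hy
    rw [map_mul, map_mul, map_inv, h2] at h1
    -- h1 : α x * y' * (α x)⁻¹ = x * y' * x⁻¹
    have h3 : (⟨y, hQP hy⟩ : P) * (x⁻¹ * α x) = (x⁻¹ * α x) * ⟨y, hQP hy⟩ := by
      have h4 : α x * ⟨y, hQP hy⟩ = x * ⟨y, hQP hy⟩ * x⁻¹ * α x := by
        rw [← h1]; group
      calc (⟨y, hQP hy⟩ : P) * (x⁻¹ * α x) = x⁻¹ * (x * ⟨y, hQP hy⟩ * x⁻¹ * α x) := by group
        _ = x⁻¹ * (α x * ⟨y, hQP hy⟩) := by rw [h4]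
        _ = (x⁻¹ * α x) * ⟨y, hQP hy⟩ := by group
    exact congrArg Subtype.val h3
  -- (b) α has p-power order
  have hPp : IsPGroup p P := hS.to_le hPS
  have hmono : Monotone (fun i : ℕ => match i with
      | 0 => (⊥ : Subgroup P)
      | 1 => Q.subgroupOf P
      | _ => ⊤) := by
    apply monotone_nat_of_le_succ
    intro n
    rcases n with _ | _ | n
    · exact bot_le
    · exact le_top
    · exact le_rfl
  obtain ⟨k, hk⟩ := stabChain_pow_eq_one p hPp hmono rfl 2 rfl (α := α) (by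
    intro i x hx
    rcases i with _ | _ | i
    · show x⁻¹ * α x ∈ (⊥ : Subgroup P)
      rw [hfix x hx, inv_mul_cancel]
      exact Subgroup.one_mem _
    · exact hmove x
    · trivial)
  -- (c) a fully normalized conjugate
  obtain ⟨R, hPR, hRn⟩ := fs_exists_fullyNormalized F hPS
  obtain ⟨ψ, hψ, hψR⟩ := hPR
  subst hψR
  have hRS : ψ.range ≤ S := hRn.1
  haveI : Finite ψ.range := fs_finite_of_le hRS
  obtain ⟨-, -, T₀, hT₀⟩ := fs_sylow_axiom p hS F hF hRn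
  obtain ⟨e, he⟩ : ∃ e : P ≃* ψ.range, e = fsEquiv F hψ := ⟨_, rfl⟩
  have hex : ∀ x : P, ((e x : ψ.range) : Ω) = ψ x := by intro x; rw [he]; rfl
  have hα' : MulAut.congr e α ∈ F.autGroup ψ.range := by
    rw [he]; exact congr_mem_autGroup F hψ α hα
  have hα'app : ∀ r : ψ.range, (MulAut.congr e α) r = e (α (e.symm r)) := fun r => rfl
  have hpow : (⟨MulAut.congr e α, hα'⟩ : F.autGroup ψ.range) ^ p ^ k = 1 := by
    apply Subtype.ext
    show (MulAut.congr e α) ^ p ^ k = 1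
    rw [← map_pow, hk, map_one]
  have hzp : IsPGroup p (Subgroup.zpowers (⟨MulAut.congr e α, hα'⟩ : F.autGroup ψ.range)) := by
    rintro ⟨g, hg⟩
    obtain ⟨n, rfl⟩ := Subgroup.mem_zpowers_iff.mp hg
    refine ⟨k, Subtype.ext ?_⟩
    show ((⟨MulAut.congr e α, hα'⟩ : F.autGroup ψ.range) ^ n) ^ p ^ k = 1
    rw [← zpow_natCast, ← zpow_mul, mul_comm, zpow_mul, zpow_natCast, hpow, one_zpow]
  obtain ⟨b, hb⟩ := exists_map_conj_le_sylow T₀ hzp
  have hc := hb (conj_mem_map_conj _ b (Subgroup.mem_zpowers _))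
  have hc' : (b * ⟨MulAut.congr e α, hα'⟩ * b⁻¹ : F.autGroup ψ.range) ∈ (T₀ : Subgroup _) := hc
  rw [hT₀, Subgroup.mem_subgroupOf, mem_autInducedBy_iff] at hc'
  obtain ⟨h, hhS, Hh⟩ := hc'
  -- the map ψ' = β ∘ e
  have hb' := b.2
  rw [mem_autGroup_iff F hRS] at hb'
  have hval : ∀ x : P, ψ x ∈ ψ.range := fun x => ⟨x, rfl⟩
  have hψ' := F.comp_mem hψ hb' hval
  obtain ⟨ψ', hψ'def⟩ : ∃ ψ' : P →* Ω, ψ' = (ψ.range.subtype.comp (b : MulAut ψ.range).toMonoidHom).comp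
      (ψ.codRestrict ψ.range hval) := ⟨_, rfl⟩
  rw [← hψ'def] at hψ'
  have hψ'app : ∀ x : P, ψ' x = (((b : MulAut ψ.range) (e x) : ψ.range) : Ω) := by
    intro x
    rw [hψ'def]
    show (((b : MulAut ψ.range) (ψ.codRestrict ψ.range hval x) : ψ.range) : Ω) = _
    congr 2
    apply Subtype.ext
    exact (hex x).symm
  have hψ'inj : Function.Injective ψ' := F.injective_of_mem hψ'
  -- key identity
  have hkey : ∀ x : P, h * ψ' x * h⁻¹ = ψ' (α x) := by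
    intro x
    rw [hψ'app, hψ'app, ← Hh]
    congr 1
    show (b : MulAut ψ.range) ((MulAut.congr e α) ((b : MulAut ψ.range)⁻¹ ((b : MulAut ψ.range) (e x))))
      = (b : MulAut ψ.range) (e (α x))
    rw [MulAut.inv_apply_self, hα'app, MulEquiv.symm_apply_apply]
  -- the image of Q
  have hχ := fs_restrict_mem F hψ' hQP
  have hCle' := hQ.2 _ ⟨_, hχ, rfl⟩
  have hhC : h ∈ centralizerIn S (ψ'.comp (Subgroup.inclusion hQP)).range := by
    refine ⟨hhS, ?_⟩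
    show h ∈ Subgroup.centralizer (((ψ'.comp (Subgroup.inclusion hQP)).range : Subgroup Ω) : Set Ω)
    rw [Subgroup.mem_centralizer_iff]
    rintro _ ⟨y, rfl⟩
    have h1 := hkey (Subgroup.inclusion hQP y)
    rw [hfix _ y.2] at h1
    show ψ' (Subgroup.inclusion hQP y) * h = h * ψ' (Subgroup.inclusion hQP y)
    calc ψ' (Subgroup.inclusion hQP y) * h = (h * ψ' (Subgroup.inclusion hQP y) * h⁻¹) * h := by rw [h1]
      _ = h * ψ' (Subgroup.inclusion hQP y) := by group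
  obtain ⟨z₀, hz₀⟩ := hCle' hhC
  have hz₀' : ψ' (Subgroup.inclusion hQP z₀) = h := hz₀
  refine ⟨Subgroup.inclusion hQP z₀, z₀.2, ?_, ?_⟩
  · rw [Subgroup.mem_centralizer_iff]
    intro y hy
    have h1 := hkey ⟨y, hQP hy⟩
    rw [hfix _ hy, ← hz₀', ← map_inv, ← map_mul, ← map_mul] at h1
    have h2 := hψ'inj h1
    have h3 := congrArg Subtype.val h2
    simp only [Subgroup.coe_mul, Subgroup.coe_inv, Subgroup.coe_inclusion] at h3
    -- h3 : z * y * z⁻¹ = y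
    calc y * (z₀ : Ω) = ((z₀ : Ω) * y * (z₀ : Ω)⁻¹) * z₀ := by rw [h3]
      _ = (z₀ : Ω) * y := by group
  · intro y
    have h1 := hkey y
    rw [← hz₀', ← map_inv, ← map_mul, ← map_mul] at h1
    exact (hψ'inj h1).symm

end Cfsg.Agent.Lib.Helper9
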