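import Mathlib
import Cfsg.Prelude.Def_FusionSystem
import Cfsg.Agent.Lib.Helper9.FusionCentric

set_option autoImplicit false

namespace Cfsg.Agent.Lib.Helper9

open Cfsg Cfsg.FusionSystem

variable {Ω : Type*} [Group Ω] {S : Subgroup Ω}

/-- Two maps of the system on `P` agreeing on a centric subgroup `Q ⊴ P` differ by conjugation by an element of
`Z(Q)`. -/
theorem fs_maps_agree_centric_normal [Finite S] (p : ℕ) [Fact p.Prime] (hS : IsPGroup p S)
    (F : FusionSystem S) (hF : F.IsSaturated p) {P Q : Subgroup Ω} (hQP : Q ≤ P)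
    (hPN : P ≤ Subgroup.normalizer (Q : Set Ω)) (hQ : F.IsCentric Q)
    {φ φ' : P →* Ω} (hφ : φ ∈ F.Hom P) (hφ' : φ' ∈ F.Hom P)
    (h : ∀ x : P, (x : Ω) ∈ Q → φ x = φ' x) :
    ∃ z : P, (z : Ω) ∈ Q ∧ (z : Ω) ∈ Subgroup.centralizer (Q : Set Ω) ∧
      ∀ y : P, φ' y = φ (z * y * z⁻¹) := by
  have hPS : P ≤ S := (F.le_of_mem hφ).1
  have hχ := fs_restrict_mem F hφ hQP
  have hCle := hQ.2 _ ⟨_, hχ, rfl⟩
  -- φ' x ∈ φ.range
  have hrange : ∀ x : P, φ' x ∈ φ.range := by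
    intro x
    have hu : (φ x)⁻¹ * φ' x ∈ centralizerIn S (φ.comp (Subgroup.inclusion hQP)).range := by
      refine ⟨S.mul_mem (S.inv_mem ((F.le_of_mem hφ).2 x)) ((F.le_of_mem hφ').2 x), ?_⟩
      show (φ x)⁻¹ * φ' x ∈ Subgroup.centralizer (((φ.comp (Subgroup.inclusion hQP)).range : Subgroup Ω) : Set Ω)
      rw [Subgroup.mem_centralizer_iff]
      rintro _ ⟨y, rfl⟩
      show φ (Subgroup.inclusion hQP y) * ((φ x)⁻¹ * φ' x) = (φ x)⁻¹ * φ' x * φ (Subgroup.inclusion hQP y)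
      have hconj : ((x * Subgroup.inclusion hQP y * x⁻¹ : P) : Ω) ∈ Q :=
        (Subgroup.mem_normalizer_iff.mp (hPN x.2) y).mp y.2
      have h1 := h _ hconj
      have h2 := h (Subgroup.inclusion hQP y) y.2
      rw [map_mul, map_mul, map_inv, map_mul, map_mul, map_inv, ← h2] at h1
      -- h1 : φ x * φ y * (φ x)⁻¹ = φ' x * φ y * (φ' x)⁻¹
      calc φ (Subgroup.inclusion hQP y) * ((φ x)⁻¹ * φ' x)
          = (φ x)⁻¹ * (φ x * φ (Subgroup.inclusion hQP y) * (φ x)⁻¹) * φ' x := by group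
        _ = (φ x)⁻¹ * (φ' x * φ (Subgroup.inclusion hQP y) * (φ' x)⁻¹) * φ' x := by rw [h1]
        _ = (φ x)⁻¹ * φ' x * φ (Subgroup.inclusion hQP y) := by group
    obtain ⟨y, hy⟩ := hCle hu
    refine ⟨x * Subgroup.inclusion hQP y, ?_⟩
    rw [map_mul]
    have : φ (Subgroup.inclusion hQP y) = (φ x)⁻¹ * φ' x := hy
    rw [this]; group
  obtain ⟨ψ, hψ, Hψ⟩ := F.inv_mem hφ
  have hρ := F.comp_mem hφ' hψ hrange
  have hval : ∀ y : P, (ψ.comp (φ'.codRestrict φ.range hrange)) y ∈ P := by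
    intro y
    obtain ⟨w, hw⟩ := hrange y
    have : (ψ.comp (φ'.codRestrict φ.range hrange)) y = ψ ⟨φ w, ⟨w, rfl⟩⟩ := by
      show ψ _ = ψ _
      congr 1
      apply Subtype.ext
      exact hw.symm
    rw [this, Hψ]
    exact w.2
  obtain ⟨α, hα, Hα⟩ := fs_hom_to_aut F hρ hval
  have hφα : ∀ y : P, φ (α y) = φ' y := by
    intro y
    obtain ⟨w, hw⟩ := hrange y
    have h1 : (ψ.comp (φ'.codRestrict φ.range hrange)) y = ψ ⟨φ w, ⟨w, rfl⟩⟩ := by
      show ψ _ = ψ _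
      congr 1
      apply Subtype.ext
      exact hw.symm
    have h2 : α y = w := by
      apply Subtype.ext
      rw [Hα, h1, Hψ]
    rw [h2, hw]
  have hfix : ∀ x : P, (x : Ω) ∈ Q → α x = x := by
    intro x hx
    apply F.injective_of_mem hφ
    rw [hφα, h x hx]
  obtain ⟨z, hzQ, hzC, Hz⟩ := fs_aut_eq_conj_of_fix_centric p hS F hF hPS hQP hPN hQ hα hfix
  exact ⟨z, hzQ, hzC, fun y => by rw [← hφα, Hz]⟩

/-- **Maps agreeing on a centric subgroup** differ by conjugation by an element of its centre. -/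
theorem fs_maps_agree_centric [Finite S] (p : ℕ) [Fact p.Prime] (hS : IsPGroup p S)
    (F : FusionSystem S) (hF : F.IsSaturated p) {P : Subgroup Ω} {φ' : P →* Ω} (hφ' : φ' ∈ F.Hom P) :
    ∀ (k : ℕ) (Q : Subgroup Ω) (hQP : Q ≤ P), F.IsCentric Q → ∀ (φ : P →* Ω), φ ∈ F.Hom P →
      (∀ x : P, (x : Ω) ∈ Q → φ x = φ' x) → Nat.card P - Nat.card Q = k →
      ∃ z : P, (z : Ω) ∈ Q ∧ (z : Ω) ∈ Subgroup.centralizer (Q : Set Ω) ∧
        ∀ y : P, φ' y = φ (z * y * z⁻¹) := by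
  have hPS : P ≤ S := (F.le_of_mem hφ').1
  haveI : Finite P := fs_finite_of_le hPS
  have hPp : IsPGroup p P := hS.to_le hPS
  intro k
  induction k using Nat.strong_induction_on with
  | _ k ih =>
  intro Q hQP hQ φ hφ h hk
  by_cases hQtop : Q = P
  · refine ⟨1, Q.one_mem, Subgroup.one_mem _, fun y => ?_⟩
    rw [one_mul, inv_one, mul_one]
    exact (h y (by rw [hQtop]; exact y.2)).symm
  · have hQlt : Q < P := lt_of_le_of_ne hQP hQtop
    have hNlt := fs_lt_normalizerIn (S := P) p hPp hQlt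
    have hNP : normalizerIn P Q ≤ P := inf_le_left
    have hQN : Q ≤ normalizerIn P Q := hNlt.le
    have hNN : normalizerIn P Q ≤ Subgroup.normalizer (Q : Set Ω) := inf_le_right
    have hφN := fs_restrict_mem F hφ hNP
    have hφ'N := fs_restrict_mem F hφ' hNP
    obtain ⟨z₁, hz₁Q, hz₁C, Hz₁⟩ := fs_maps_agree_centric_normal p hS F hF hQN hNN hQ hφN hφ'N
      (fun x hx => h (Subgroup.inclusion hNP x) hx)
    have hz₁P : (z₁ : Ω) ∈ P := hNP z₁.2
    -- φ₁ = φ ∘ c_{z₁}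
    have hc := F.conj_mem hPS (hPS hz₁P)
    have hcval : ∀ y : P, conjHom P (z₁ : Ω) y ∈ P := by
      intro y
      exact P.mul_mem (P.mul_mem hz₁P y.2) (P.inv_mem hz₁P)
    have hφ₁ := F.comp_mem hc hφ hcval
    have hφ₁app : ∀ y : P, (φ.comp ((conjHom P (z₁ : Ω)).codRestrict P hcval)) y
        = φ (⟨z₁, hz₁P⟩ * y * ⟨z₁, hz₁P⟩⁻¹) := by
      intro y
      show φ _ = φ _
      congr 1
    have hNc : F.IsCentric (normalizerIn P Q) := fs_centric_of_le F hQ hQN (hNP.trans hPS)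
    have hagree : ∀ x : P, (x : Ω) ∈ normalizerIn P Q →
        (φ.comp ((conjHom P (z₁ : Ω)).codRestrict P hcval)) x = φ' x := by
      intro x hx
      rw [hφ₁app]
      have h1 := Hz₁ ⟨x, hx⟩
      simp only [MonoidHom.coe_comp, Function.comp_apply] at h1
      have h2 : Subgroup.inclusion hNP ⟨x, hx⟩ = x := Subtype.ext rfl
      rw [h2] at h1
      rw [h1]
      congr 1
    haveI : Finite (normalizerIn P Q) := fs_finite_of_le (hNP.trans hPS)
    have hcardN : Nat.card Q < Nat.card (normalizerIn P Q) := by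
      by_contra hcon
      push Not at hcon
      exact hNlt.ne (Subgroup.eq_of_le_of_card_ge hNlt.le hcon)
    have hcardNP : Nat.card (normalizerIn P Q) ≤ Nat.card P := Subgroup.card_le_of_le hNP
    obtain ⟨z₂, hz₂N, hz₂C, Hz₂⟩ := ih (Nat.card P - Nat.card (normalizerIn P Q)) (by omega)
      (normalizerIn P Q) hNP hNc _ hφ₁ hagree rfl
    have hCle : centralizerIn S Q ≤ Q := hQ.2 Q (fs_isConj_refl F hQ.1)
    have hz₂CQ : (z₂ : Ω) ∈ Subgroup.centralizer (Q : Set Ω) :=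
      Subgroup.centralizer_le (SetLike.coe_subset_coe.mpr hQN) hz₂C
    have hz₂Q : (z₂ : Ω) ∈ Q := hCle ⟨hPS z₂.2, hz₂CQ⟩
    refine ⟨⟨z₁, hz₁P⟩ * z₂, Q.mul_mem hz₁Q hz₂Q, Subgroup.mul_mem _ hz₁C hz₂CQ, fun y => ?_⟩
    rw [Hz₂ y, hφ₁app]
    congr 1
    group

end Cfsg.Agent.Lib.Helper9
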