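import Mathlib
import Cfsg.Prelude
import Cfsg.Agent.Lib.Helper2.CDGen
import Cfsg.Agent.Lib.Helper2.HypTrans
import Cfsg.Agent.Lib.Helper5.QuadFin

set_option autoImplicit false

/-! Orthogonal groups: tools for exhibiting elements of `Ω` (the commutator subgroup of the isometry
group) and non-maximality results. -/

namespace Cfsg.Agent.H9Orth

open Matrix Cfsg.Agent.Lib.Helper2.ReflGen Cfsg.Agent.Lib.Helper2.CDG

variable {F : Type*} [Field F] {ι : Type} [Fintype ι] [DecidableEq ι]

/-- package a non-degenerate quadratic form given as a function into a Mathlib quadratic form -/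
theorem exists_quadForm (Q : (ι → F) → F) (hQ : Cfsg.Geo.IsNondegenerateQuadraticForm Q) :
    ∃ Q' : QuadraticForm F (ι → F), ⇑Q' = Q ∧ (QuadraticMap.polarBilin Q').Nondegenerate := by
  have hb := hQ.polar_bilinear
  let B : LinearMap.BilinMap F (ι → F) F :=
    LinearMap.mk₂ F (QuadraticMap.polar Q) hb.add_left
      (fun c x v => by rw [hb.smul_left, smul_eq_mul])
      hb.add_right (fun c v x => by rw [hb.smul_right, smul_eq_mul])
  let Q' : QuadraticForm F (ι → F) :=
    { toFun := Q
      toFun_smul := fun c v => by rw [hQ.smul, smul_eq_mul, pow_two]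
      exists_companion' := ⟨B, fun x y => by
        show Q (x + y) = Q x + Q y + QuadraticMap.polar Q x y
        unfold QuadraticMap.polar; ring⟩ }
  refine ⟨Q', rfl, ?_⟩
  constructor
  · intro x hx
    by_contra hx0
    obtain ⟨⟨y, hy⟩, -⟩ := hQ.nondegenerate x hx0
    apply hy
    have := hx y
    have h2 : QuadraticMap.polar Q x y = 0 := this
    rw [QuadraticMap.polar_comm] ; exact h2
  · intro x hx
    by_contra hx0
    obtain ⟨⟨y, hy⟩, -⟩ := hQ.nondegenerate x hx0
    apply hy
    exact hx y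

variable {Q : QuadraticForm F (ι → F)}

/-- a commutator of two isometries lies in `Ω` viewed in `GL` -/
theorem comm_mem_omegaGL (x y : ↥(Cfsg.isometryGroup F ⇑Q)) :
    ((x * y * x⁻¹ * y⁻¹ : ↥(Cfsg.isometryGroup F ⇑Q)) : Matrix.GeneralLinearGroup ι F) ∈
      Cfsg.Geo.omegaGL ⇑Q := by
  refine ⟨x * y * x⁻¹ * y⁻¹, ?_, rfl⟩
  have := Subgroup.commutator_mem_commutator (Subgroup.mem_top x) (Subgroup.mem_top y)
  rw [commutatorElement_def] at this
  exact this

/-- elements of `Ω` are isometries -/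
theorem exists_iso_of_mem_omegaGL {g : Matrix.GeneralLinearGroup ι F}
    (hg : g ∈ Cfsg.Geo.omegaGL ⇑Q) :
    ∃ h : ↥(Cfsg.isometryGroup F ⇑Q), (h : Matrix.GeneralLinearGroup ι F) = g := by
  obtain ⟨h, -, rfl⟩ := hg
  exact ⟨h, rfl⟩

theorem omegaGL_Q {g : Matrix.GeneralLinearGroup ι F}
    (hg : g ∈ Cfsg.Geo.omegaGL ⇑Q) (v : ι → F) : Q ((g : Matrix ι ι F) *ᵥ v) = Q v := by
  obtain ⟨h, rfl⟩ := exists_iso_of_mem_omegaGL hg
  exact iso_Q h v

/-- in a field with at most three elements every non-zero element squares to one -/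
theorem mul_self_eq_one_of_card [Fintype F] (hq : Fintype.card F ≤ 3) {s : F} (hs : s ≠ 0) :
    s * s = 1 := by
  have h1 := FiniteField.pow_card_sub_one_eq_one s hs
  have h2 : 1 < Fintype.card F := Fintype.one_lt_card
  have h3 : Fintype.card F = 2 ∨ Fintype.card F = 3 := by omega
  rcases h3 with h3 | h3
  · rw [h3] at h1
    norm_num at h1
    rw [h1, mul_one]
  · rw [h3] at h1
    rw [← pow_two]; simpa using h1

end Cfsg.Agent.H9Orth
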