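import Mathlib
import Cfsg.Prelude
import Cfsg.Agent.Lib.Helper9.OrthNM1

set_option autoImplicit false

namespace Cfsg.Agent.H9Orth

open Matrix Cfsg.Agent.Lib.Helper2.ReflGen Cfsg.Agent.Lib.Helper2.CDG

variable {F : Type*} [Field F] {ι : Type} [Fintype ι] [DecidableEq ι]
variable {Q : QuadraticForm F (ι → F)}

theorem refl_neg_one (v : ι → F) (hv : Q v = -1) (hv' : Q v ≠ 0) (z : ι → F) :
    ((refl Q v hv' : Matrix.GeneralLinearGroup ι F) : Matrix ι ι F) *ᵥ z =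
      z + QuadraticMap.polar (⇑Q) v z • v := by
  rw [refl_mulVec, hv]
  have : ((-1 : F))⁻¹ = -1 := by norm_num
  rw [this, neg_one_mul, neg_smul, sub_neg_eq_add]

/-- Lemma G: an explicit element of `Ω` acting as `w ↦ w + B(a, w) (a + e₁)` on `⟨e₁, f₁⟩^⊥`. -/
theorem comm_refl_apply (a e₁ f₁ : ι → F) (ha : Q a = -1) (he : Q e₁ = 0) (hf : Q f₁ = 0)
    (hef : QuadraticMap.polar (⇑Q) e₁ f₁ = 1) (hae : QuadraticMap.polar (⇑Q) a e₁ = 0)
    (haf : QuadraticMap.polar (⇑Q) a f₁ = 0) :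
    ∃ g : Matrix.GeneralLinearGroup ι F, g ∈ Cfsg.Geo.omegaGL ⇑Q ∧
      ∀ w, QuadraticMap.polar (⇑Q) e₁ w = 0 → QuadraticMap.polar (⇑Q) f₁ w = 0 →
        (g : Matrix ι ι F) *ᵥ w = w + QuadraticMap.polar (⇑Q) a w • (a + e₁) := by
  have hx : Q (a + e₁) = -1 := by
    rw [QuadraticMap.map_add Q, ha, he, hae]; ring
  have hy : Q (a + f₁) = -1 := by
    rw [QuadraticMap.map_add Q, ha, hf, haf]; ring
  have hx' : Q (a + e₁) ≠ 0 := by rw [hx]; exact neg_ne_zero.2 one_ne_zero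
  have hy' : Q (a + f₁) ≠ 0 := by rw [hy]; exact neg_ne_zero.2 one_ne_zero
  have haa : QuadraticMap.polar (⇑Q) a a = -2 := by
    rw [polar_self, ha]; ring
  have hee : QuadraticMap.polar (⇑Q) e₁ e₁ = 0 := by rw [polar_self, he]; ring
  have hff : QuadraticMap.polar (⇑Q) f₁ f₁ = 0 := by rw [polar_self, hf]; ring
  have hea : QuadraticMap.polar (⇑Q) e₁ a = 0 := by rw [QuadraticMap.polar_comm]; exact hae
  have hfa : QuadraticMap.polar (⇑Q) f₁ a = 0 := by rw [QuadraticMap.polar_comm]; exact haf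
  have hfe : QuadraticMap.polar (⇑Q) f₁ e₁ = 1 := by rw [QuadraticMap.polar_comm]; exact hef
  refine ⟨((refl Q (a + e₁) hx' * refl Q (a + f₁) hy' * (refl Q (a + e₁) hx')⁻¹ *
    (refl Q (a + f₁) hy')⁻¹ : ↥(Cfsg.isometryGroup F ⇑Q)) : Matrix.GeneralLinearGroup ι F),
    comm_mem_omegaGL _ _, ?_⟩
  intro w hew hfw
  rw [refl_inv, refl_inv, mul_mulVec, mul_mulVec, mul_mulVec]
  set β := QuadraticMap.polar (⇑Q) a w with hβ
  have hxw : QuadraticMap.polar (⇑Q) (a + e₁) w = β := by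
    rw [QuadraticMap.polar_add_left, hew, add_zero]
  have hyw : QuadraticMap.polar (⇑Q) (a + f₁) w = β := by
    rw [QuadraticMap.polar_add_left, hfw, add_zero]
  have hxy : QuadraticMap.polar (⇑Q) (a + e₁) (a + f₁) = -1 := by
    rw [QuadraticMap.polar_add_left, QuadraticMap.polar_add_right, QuadraticMap.polar_add_right,
      haa, haf, hea, hef]; ring
  have hyx : QuadraticMap.polar (⇑Q) (a + f₁) (a + e₁) = -1 := by
    rw [QuadraticMap.polar_comm]; exact hxy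
  have hyy : QuadraticMap.polar (⇑Q) (a + f₁) (a + f₁) = -2 := by
    rw [polar_self, hy]; ring
  -- step 1
  have s1 : ((refl Q (a + f₁) hy' : Matrix.GeneralLinearGroup ι F) : Matrix ι ι F) *ᵥ w =
      w + β • (a + f₁) := by
    rw [refl_neg_one _ hy, hyw]
  -- step 2
  have s2 : ((refl Q (a + e₁) hx' : Matrix.GeneralLinearGroup ι F) : Matrix ι ι F) *ᵥ
      (w + β • (a + f₁)) = w + β • (a + f₁) := by
    rw [refl_neg_one _ hx, QuadraticMap.polar_add_right, QuadraticMap.polar_smul_right, hxw, hxy]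
    have : β + β • (-1 : F) = 0 := by rw [smul_eq_mul]; ring
    rw [this, zero_smul, add_zero]
  -- step 3
  have s3 : ((refl Q (a + f₁) hy' : Matrix.GeneralLinearGroup ι F) : Matrix ι ι F) *ᵥ
      (w + β • (a + f₁)) = w := by
    rw [refl_neg_one _ hy, QuadraticMap.polar_add_right, QuadraticMap.polar_smul_right, hyw, hyy]
    have : β + β • (-2 : F) = -β := by rw [smul_eq_mul]; ring
    rw [this, neg_smul]
    abel
  rw [s1, s2, s3, refl_neg_one _ hx, hxw]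

/-- Lemma H: two further hyperbolic pairs orthogonal to a given one. -/
theorem exists_two_hyp [Finite F] (hQ : (QuadraticMap.polarBilin Q).Nondegenerate)
    (hn : 7 ≤ Fintype.card ι) (e f : ι → F) (he : Q e = 0) (hf : Q f = 0)
    (hef : QuadraticMap.polar (⇑Q) e f = 1) :
    ∃ e₁ f₁ e₂ f₂ : ι → F, Q e₁ = 0 ∧ Q f₁ = 0 ∧ Q e₂ = 0 ∧ Q f₂ = 0 ∧
      QuadraticMap.polar (⇑Q) e₁ f₁ = 1 ∧ QuadraticMap.polar (⇑Q) e₂ f₂ = 1 ∧
      QuadraticMap.polar (⇑Q) e₁ e₂ = 0 ∧ QuadraticMap.polar (⇑Q) e₁ f₂ = 0 ∧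
      QuadraticMap.polar (⇑Q) f₁ e₂ = 0 ∧ QuadraticMap.polar (⇑Q) f₁ f₂ = 0 ∧
      QuadraticMap.polar (⇑Q) e e₁ = 0 ∧ QuadraticMap.polar (⇑Q) e f₁ = 0 ∧
      QuadraticMap.polar (⇑Q) e e₂ = 0 ∧ QuadraticMap.polar (⇑Q) e f₂ = 0 ∧
      QuadraticMap.polar (⇑Q) f e₁ = 0 ∧ QuadraticMap.polar (⇑Q) f f₁ = 0 ∧
      QuadraticMap.polar (⇑Q) f e₂ = 0 ∧ QuadraticMap.polar (⇑Q) f f₂ = 0 := by
  obtain ⟨k, E, Fv, W, hH, hmem, hd, hW2, -⟩ := Cfsg.Agent.Lib.Helper5.exists_witt Q hQ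
  rw [Module.finrank_fintype_fun_eq_card] at hd
  have hk : 3 ≤ k := by omega
  obtain ⟨g, hge, hgf⟩ := Cfsg.Agent.Lib.Helper2.HypTrans.exists_map_pair hQ
    (E ⟨0, by omega⟩) (Fv ⟨0, by omega⟩) e f (hH.qe _) (hH.qf _) he hf
    (by rw [hH.ef]; simp) hef
  set G := ((g : Matrix.GeneralLinearGroup ι F) : Matrix ι ι F) with hG
  have i1 : (⟨0, by omega⟩ : Fin k) ≠ ⟨1, by omega⟩ := by
    intro h; have := congrArg Fin.val h; simp at this
  have i2 : (⟨0, by omega⟩ : Fin k) ≠ ⟨2, by omega⟩ := by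
    intro h; have := congrArg Fin.val h; simp at this
  have i3 : (⟨1, by omega⟩ : Fin k) ≠ ⟨2, by omega⟩ := by
    intro h; have := congrArg Fin.val h; simp at this
  refine ⟨G *ᵥ E ⟨1, by omega⟩, G *ᵥ Fv ⟨1, by omega⟩, G *ᵥ E ⟨2, by omega⟩,
    G *ᵥ Fv ⟨2, by omega⟩, ?_, ?_, ?_, ?_, ?_, ?_, ?_, ?_, ?_, ?_, ?_, ?_, ?_, ?_, ?_, ?_, ?_, ?_⟩
  · rw [iso_Q]; exact hH.qe _
  · rw [iso_Q]; exact hH.qf _
  · rw [iso_Q]; exact hH.qe _
  · rw [iso_Q]; exact hH.qf _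
  · rw [iso_polar, hH.ef]; simp
  · rw [iso_polar, hH.ef]; simp
  · rw [iso_polar, hH.ee]
  · rw [iso_polar, hH.ef, if_neg i3]
  · rw [iso_polar, QuadraticMap.polar_comm, hH.ef, if_neg i3.symm]
  · rw [iso_polar, hH.ff]
  · rw [← hge, iso_polar, hH.ee]
  · rw [← hge, iso_polar, hH.ef, if_neg i1]
  · rw [← hge, iso_polar, hH.ee]
  · rw [← hge, iso_polar, hH.ef, if_neg i2]
  · rw [← hgf, iso_polar, QuadraticMap.polar_comm, hH.ef, if_neg i1.symm]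
  · rw [← hgf, iso_polar, hH.ff]
  · rw [← hgf, iso_polar, QuadraticMap.polar_comm, hH.ef, if_neg i2.symm]
  · rw [← hgf, iso_polar, hH.ff]

end Cfsg.Agent.H9Orth
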