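import Mathlib
import Cfsg.Prelude
import Cfsg.Agent.Lib.Helper9.OrthNM2

set_option autoImplicit false

namespace Cfsg.Agent.H9Orth

open Matrix Cfsg.Agent.Lib.Helper2.ReflGen Cfsg.Agent.Lib.Helper2.CDG

variable {F : Type*} [Field F] {ι : Type} [Fintype ι] [DecidableEq ι]
variable {Q : QuadraticForm F (ι → F)}

/-- structure of a non-degenerate plane of plus type -/
theorem exists_hyp_of_plane (W : Submodule F (ι → F)) (hdim : Module.finrank F W = 2)
    (hW : Cfsg.Geo.IsNondegenerateOn (QuadraticMap.polar ⇑Q) W)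
    (hWp : Cfsg.Geo.IsPlusTypeOn ⇑Q W) :
    ∃ e f : ι → F, e ∈ W ∧ f ∈ W ∧ Q e = 0 ∧ Q f = 0 ∧ QuadraticMap.polar (⇑Q) e f = 1 ∧
      ∀ w ∈ W, ∃ s t : F, w = s • e + t • f := by
  obtain ⟨U, hUW, hUts, hUdim⟩ := hWp
  have hU1 : Module.finrank F U = 1 := by omega
  have hUne : U ≠ ⊥ := by
    intro h
    rw [h, finrank_bot] at hU1
    exact zero_ne_one hU1
  obtain ⟨e, heU, he0⟩ := Submodule.exists_mem_ne_zero_of_ne_bot hUne
  have heW : e ∈ W := hUW heU
  have he : Q e = 0 := hUts e heU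
  obtain ⟨⟨x, hxW, hx⟩, -⟩ := hW e heW he0
  have hex : QuadraticMap.polar (⇑Q) e x ≠ 0 := by rwa [QuadraticMap.polar_comm]
  have hee : QuadraticMap.polar (⇑Q) e e = 0 := by rw [polar_self, he, mul_zero]
  obtain ⟨f₀, hf₀W, hef₀⟩ : ∃ f₀ ∈ W, QuadraticMap.polar (⇑Q) e f₀ = 1 := by
    refine ⟨(QuadraticMap.polar (⇑Q) e x)⁻¹ • x, W.smul_mem _ hxW, ?_⟩
    rw [QuadraticMap.polar_smul_right, smul_eq_mul, inv_mul_cancel₀ hex]
  obtain ⟨f, hfW, hef, hQf⟩ : ∃ f ∈ W, QuadraticMap.polar (⇑Q) e f = 1 ∧ Q f = 0 := by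
    refine ⟨f₀ - Q f₀ • e, W.sub_mem hf₀W (W.smul_mem _ heW), ?_, ?_⟩
    · rw [QuadraticMap.polar_sub_right, QuadraticMap.polar_smul_right, hee, smul_zero, sub_zero,
        hef₀]
    · have : f₀ - Q f₀ • e = f₀ + (-Q f₀) • e := by rw [neg_smul, sub_eq_add_neg]
      rw [this, map_add_smul, he, QuadraticMap.polar_comm, hef₀]; ring
  have hfe : QuadraticMap.polar (⇑Q) f e = 1 := by rw [QuadraticMap.polar_comm]; exact hef
  have hff : QuadraticMap.polar (⇑Q) f f = 0 := by rw [polar_self, hQf, mul_zero]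
  refine ⟨e, f, heW, hfW, he, hQf, hef, ?_⟩
  have hli : LinearIndependent F ![e, f] := by
    rw [LinearIndependent.pair_iff]
    intro s t hst
    have h1 := congrArg (fun v => QuadraticMap.polar (⇑Q) e v) hst
    have h2 := congrArg (fun v => QuadraticMap.polar (⇑Q) f v) hst
    simp only [QuadraticMap.polar_add_right, QuadraticMap.polar_smul_right, hee, hef, hfe, hff,
      smul_eq_mul, mul_zero, mul_one, zero_add, add_zero, QuadraticMap.polar_zero_right] at h1 h2
    exact ⟨h2, h1⟩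
  have hspan : Submodule.span F (Set.range ![e, f]) = W := by
    apply Submodule.eq_of_le_of_finrank_eq
    · rw [Submodule.span_le]
      rintro _ ⟨i, rfl⟩
      fin_cases i
      · exact heW
      · exact hfW
    · rw [finrank_span_eq_card hli, hdim]; simp
  intro w hw
  rw [← hspan] at hw
  have : Set.range ![e, f] = {e, f} := by
    ext v; simp [eq_comm, or_comm]
  rw [this] at hw
  obtain ⟨s, t, rfl⟩ := Submodule.mem_span_pair.1 hw
  exact ⟨s, t, rfl⟩

/-- membership in the stabilizer of a line from `g a, g⁻¹ a ∈ ⟨a⟩` -/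
theorem mem_stab_span_singleton (g : Matrix.GeneralLinearGroup ι F) (a : ι → F)
    (h1 : (g : Matrix ι ι F) *ᵥ a ∈ Submodule.span F {a})
    (h2 : ((g⁻¹ : Matrix.GeneralLinearGroup ι F) : Matrix ι ι F) *ᵥ a ∈ Submodule.span F {a}) :
    g ∈ Cfsg.Geo.subspaceStabilizer (Submodule.span F {a}) := by
  intro v
  constructor
  · intro hv
    obtain ⟨c, rfl⟩ := Submodule.mem_span_singleton.1 hv
    show (g : Matrix ι ι F) *ᵥ (c • a) ∈ Submodule.span F {a}
    rw [Matrix.mulVec_smul]
    exact Submodule.smul_mem _ _ h1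
  · intro hv
    have hv' : (g : Matrix ι ι F) *ᵥ v ∈ Submodule.span F {a} := hv
    obtain ⟨c, hc⟩ := Submodule.mem_span_singleton.1 hv'
    have : v = ((g⁻¹ : Matrix.GeneralLinearGroup ι F) : Matrix ι ι F) *ᵥ
        ((g : Matrix ι ι F) *ᵥ v) := by
      rw [Matrix.mulVec_mulVec, ← Matrix.GeneralLinearGroup.coe_mul, inv_mul_cancel]
      simp
    rw [this, ← hc, Matrix.mulVec_smul]
    exact Submodule.smul_mem _ _ h2

/-- a non-degenerate plus-type plane stabilizer is not maximal in `Ω` when `q ≤ 3` -/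
theorem plane_not_max [Fintype F] (hQ : (QuadraticMap.polarBilin Q).Nondegenerate)
    (hq : Fintype.card F ≤ 3) (hn : 7 ≤ Fintype.card ι)
    (W : Submodule F (ι → F)) (hdim : Module.finrank F W = 2)
    (hW : Cfsg.Geo.IsNondegenerateOn (QuadraticMap.polar ⇑Q) W)
    (hWp : Cfsg.Geo.IsPlusTypeOn ⇑Q W) :
    ∃ K : Subgroup (Matrix.GeneralLinearGroup ι F),
      Cfsg.Geo.subspaceStabilizer W ⊓ Cfsg.Geo.omegaGL ⇑Q < K ∧ K < Cfsg.Geo.omegaGL ⇑Q := by
  obtain ⟨e, f, heW, hfW, he, hf, hef, hspan⟩ := exists_hyp_of_plane W hdim hW hWp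
  obtain ⟨e₁, f₁, e₂, f₂, he₁, hf₁, he₂, hf₂, hef₁, hef₂, he₁e₂, he₁f₂, hf₁e₂, hf₁f₂, hee₁, hef₁',
    hee₂, hef₂', hfe₁, hff₁, hfe₂, hff₂⟩ := exists_two_hyp hQ hn e f he hf hef
  have hee : QuadraticMap.polar (⇑Q) e e = 0 := by rw [polar_self, he, mul_zero]
  have hff : QuadraticMap.polar (⇑Q) f f = 0 := by rw [polar_self, hf, mul_zero]
  have hfe : QuadraticMap.polar (⇑Q) f e = 1 := by rw [QuadraticMap.polar_comm]; exact hef
  set a := e + f with ha
  set b := e - f with hb
  have haW : a ∈ W := W.add_mem heW hfW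
  have hQa : Q a = 1 := by
    rw [ha, QuadraticMap.map_add Q, he, hf, hef]; ring
  have hQb : Q b = -1 := by
    have : b = e + (-1 : F) • f := by rw [hb, neg_one_smul, sub_eq_add_neg]
    rw [this, map_add_smul, he, hf, hef]; ring
  have hba : QuadraticMap.polar (⇑Q) b a = 0 := by
    rw [hb, ha, QuadraticMap.polar_sub_left, QuadraticMap.polar_add_right,
      QuadraticMap.polar_add_right, hee, hef, hfe, hff]; ring
  -- uniqueness of norm one vectors of W up to scalars
  have huniq : ∀ w ∈ W, Q w = 1 → w ∈ Submodule.span F {a} := by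
    intro w hw hQw
    obtain ⟨s, t, rfl⟩ := hspan w hw
    have h1 : Q (s • e + t • f) = s * t := by
      rw [QuadraticMap.map_add Q, QuadraticMap.map_smul, QuadraticMap.map_smul, he, hf,
        QuadraticMap.polar_smul_left, QuadraticMap.polar_smul_right, hef]
      simp only [smul_eq_mul]; ring
    rw [h1] at hQw
    have hs : s ≠ 0 := by
      rintro rfl
      rw [zero_mul] at hQw
      exact zero_ne_one hQw
    have hss := mul_self_eq_one_of_card hq hs
    have hts : t = s := by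
      have : s * t = s * s := by rw [hQw, hss]
      exact mul_left_cancel₀ hs this
    rw [hts, ← smul_add]
    exact Submodule.smul_mem _ _ (Submodule.mem_span_singleton_self a)
  have hclaim : ∀ g ∈ Cfsg.Geo.subspaceStabilizer W ⊓ Cfsg.Geo.omegaGL ⇑Q,
      (g : Matrix ι ι F) *ᵥ a ∈ Submodule.span F {a} := by
    intro g hg
    obtain ⟨hgW, hgΩ⟩ := Subgroup.mem_inf.1 hg
    apply huniq
    · exact (hgW a).1 haW
    · rw [omegaGL_Q hgΩ, hQa]
  refine ⟨Cfsg.Geo.subspaceStabilizer (Submodule.span F {a}) ⊓ Cfsg.Geo.omegaGL ⇑Q, ?_, ?_⟩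
  · -- first strict inclusion
    apply lt_of_le_of_ne
    · intro g hg
      refine Subgroup.mem_inf.2 ⟨?_, (Subgroup.mem_inf.1 hg).2⟩
      exact mem_stab_span_singleton g a (hclaim g hg) (hclaim g⁻¹ (Subgroup.inv_mem _ hg))
    · intro heq
      obtain ⟨g, hgΩ, hgw⟩ := comm_refl_apply b e₁ f₁ hQb he₁ hf₁ hef₁
        (by rw [hb, QuadraticMap.polar_sub_left, hee₁, hfe₁, sub_zero])
        (by rw [hb, QuadraticMap.polar_sub_left, hef₁', hff₁, sub_zero])
      have hga : (g : Matrix ι ι F) *ᵥ a = a := by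
        rw [hgw a (by rw [ha, QuadraticMap.polar_add_right, QuadraticMap.polar_comm, hee₁,
          QuadraticMap.polar_comm, hfe₁, add_zero])
          (by rw [ha, QuadraticMap.polar_add_right, QuadraticMap.polar_comm, hef₁',
          QuadraticMap.polar_comm, hff₁, add_zero]), hba, zero_smul, add_zero]
      have hgia : ((g⁻¹ : Matrix.GeneralLinearGroup ι F) : Matrix ι ι F) *ᵥ a = a := by
        conv_lhs => rw [← hga]
        rw [Matrix.mulVec_mulVec, ← Matrix.GeneralLinearGroup.coe_mul, inv_mul_cancel]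
        simp
      have hgK : g ∈ Cfsg.Geo.subspaceStabilizer (Submodule.span F {a}) ⊓
          Cfsg.Geo.omegaGL ⇑Q := by
        refine Subgroup.mem_inf.2 ⟨?_, hgΩ⟩
        apply mem_stab_span_singleton
        · rw [hga]; exact Submodule.mem_span_singleton_self a
        · rw [hgia]; exact Submodule.mem_span_singleton_self a
      rw [← heq] at hgK
      have hgW := (Subgroup.mem_inf.1 hgK).1
      have h1 := (hgW e).1 heW
      have h1' : (g : Matrix ι ι F) *ᵥ e ∈ W := h1
      rw [hgw e (by rw [QuadraticMap.polar_comm]; exact hee₁)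
        (by rw [QuadraticMap.polar_comm]; exact hef₁')] at h1'
      have hbe : QuadraticMap.polar (⇑Q) b e = -1 := by
        rw [hb, QuadraticMap.polar_sub_left, hee, hfe]; ring
      rw [hbe, neg_one_smul] at h1'
      -- hence e₁ ∈ W
      have hbW : b ∈ W := W.sub_mem heW hfW
      have he₁W : e₁ ∈ W := by
        have h2 : e - (e + -(b + e₁)) - b ∈ W := W.sub_mem (W.sub_mem heW h1') hbW
        have : e - (e + -(b + e₁)) - b = e₁ := by abel
        rwa [this] at h2
      obtain ⟨s, t, hst⟩ := hspan e₁ he₁W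
      have h3 : QuadraticMap.polar (⇑Q) e₁ f₁ = 0 := by
        rw [hst, QuadraticMap.polar_add_left, QuadraticMap.polar_smul_left,
          QuadraticMap.polar_smul_left, hef₁', hff₁, smul_zero, smul_zero, add_zero]
      rw [hef₁] at h3
      exact one_ne_zero h3
  · -- second strict inclusion
    apply lt_of_le_of_ne inf_le_right
    intro heq
    set a' := e + (e₂ - f₂) with ha'
    have hQz : Q (e₂ - f₂) = -1 := by
      have : e₂ - f₂ = e₂ + (-1 : F) • f₂ := by rw [neg_one_smul, sub_eq_add_neg]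
      rw [this, map_add_smul, he₂, hf₂, hef₂]; ring
    have hQa' : Q a' = -1 := by
      rw [ha', QuadraticMap.map_add Q, he, hQz, QuadraticMap.polar_sub_right, hee₂, hef₂']; ring
    have he₂e₁ : QuadraticMap.polar (⇑Q) e₂ e₁ = 0 := by rw [QuadraticMap.polar_comm]; exact he₁e₂
    have hf₂e₁ : QuadraticMap.polar (⇑Q) f₂ e₁ = 0 := by rw [QuadraticMap.polar_comm]; exact he₁f₂
    have he₂f₁ : QuadraticMap.polar (⇑Q) e₂ f₁ = 0 := by rw [QuadraticMap.polar_comm]; exact hf₁e₂
    have hf₂f₁ : QuadraticMap.polar (⇑Q) f₂ f₁ = 0 := by rw [QuadraticMap.polar_comm]; exact hf₁f₂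
    obtain ⟨g, hgΩ, hgw⟩ := comm_refl_apply a' e₁ f₁ hQa' he₁ hf₁ hef₁
      (by rw [ha', QuadraticMap.polar_add_left, QuadraticMap.polar_sub_left, hee₁, he₂e₁, hf₂e₁]
          ring)
      (by rw [ha', QuadraticMap.polar_add_left, QuadraticMap.polar_sub_left, hef₁', he₂f₁, hf₂f₁]
          ring)
    rw [← heq] at hgΩ
    have hgS := (Subgroup.mem_inf.1 hgΩ).1
    have h1 : (g : Matrix ι ι F) *ᵥ a ∈ Submodule.span F {a} :=
      (hgS a).1 (Submodule.mem_span_singleton_self a)
    rw [hgw a (by rw [ha, QuadraticMap.polar_add_right, QuadraticMap.polar_comm, hee₁,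
          QuadraticMap.polar_comm, hfe₁, add_zero])
          (by rw [ha, QuadraticMap.polar_add_right, QuadraticMap.polar_comm, hef₁',
          QuadraticMap.polar_comm, hff₁, add_zero])] at h1
    have ha'a : QuadraticMap.polar (⇑Q) a' a = 1 := by
      rw [ha', ha, QuadraticMap.polar_add_left, QuadraticMap.polar_sub_left,
        QuadraticMap.polar_add_right, QuadraticMap.polar_add_right, QuadraticMap.polar_add_right,
        hee, hef, QuadraticMap.polar_comm _ e₂ e, hee₂, QuadraticMap.polar_comm _ e₂ f, hfe₂,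
        QuadraticMap.polar_comm _ f₂ e, hef₂', QuadraticMap.polar_comm _ f₂ f, hff₂]
      ring
    rw [ha'a, one_smul] at h1
    obtain ⟨c, hc⟩ := Submodule.mem_span_singleton.1 h1
    have h2 := congrArg (fun v => QuadraticMap.polar (⇑Q) v f₁) hc
    simp only [QuadraticMap.polar_add_left, QuadraticMap.polar_smul_left,
      QuadraticMap.polar_sub_left, ha, ha', hef₁', hff₁, he₂f₁, hf₂f₁, hef₁, smul_eq_mul] at h2
    norm_num at h2

end Cfsg.Agent.H9Orth
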