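import Mathlib
import Cfsg.Prelude
import Cfsg.Agent.Lib.Helper9.OrthNM3

set_option autoImplicit false

namespace Cfsg.Agent.H9Orth

open Matrix Cfsg.Agent.Lib.Helper2.ReflGen Cfsg.Agent.Lib.Helper2.CDG

variable {F : Type*} [Field F] {ι : Type} [Fintype ι] [DecidableEq ι]
variable {Q : QuadraticForm F (ι → F)}

/-- the reflection in `u - v` swaps two orthogonal vectors of the same non-zero norm -/
theorem refl_swap (h2 : (2 : F) ≠ 0) (u v : ι → F) (d : F) (hd : d ≠ 0) (hu : Q u = d)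
    (hv : Q v = d) (huv : QuadraticMap.polar (⇑Q) u v = 0) :
    ∃ hx : Q (u - v) ≠ 0,
      ((refl Q (u - v) hx : Matrix.GeneralLinearGroup ι F) : Matrix ι ι F) *ᵥ u = v ∧
      ((refl Q (u - v) hx : Matrix.GeneralLinearGroup ι F) : Matrix ι ι F) *ᵥ v = u ∧
      ∀ w, QuadraticMap.polar (⇑Q) u w = 0 → QuadraticMap.polar (⇑Q) v w = 0 →
        ((refl Q (u - v) hx : Matrix.GeneralLinearGroup ι F) : Matrix ι ι F) *ᵥ w = w := by
  have hQx : Q (u - v) = 2 * d := by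
    have : u - v = u + (-1 : F) • v := by rw [neg_one_smul, sub_eq_add_neg]
    rw [this, map_add_smul, hu, hv, huv]; ring
  have hx : Q (u - v) ≠ 0 := by rw [hQx]; exact mul_ne_zero h2 hd
  have hvu : QuadraticMap.polar (⇑Q) v u = 0 := by rw [QuadraticMap.polar_comm]; exact huv
  refine ⟨hx, ?_, ?_, ?_⟩
  · rw [refl_mulVec, hQx, QuadraticMap.polar_sub_left, polar_self, hu, hvu, sub_zero,
      inv_mul_cancel₀ (mul_ne_zero h2 hd), one_smul]
    abel
  · rw [refl_mulVec, hQx, QuadraticMap.polar_sub_left, polar_self, hv, huv, zero_sub,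
      mul_neg, inv_mul_cancel₀ (mul_ne_zero h2 hd), neg_one_smul]
    abel
  · intro w h1 h2'
    apply refl_fix
    rw [QuadraticMap.polar_sub_left, h1, h2', sub_zero]

/-- a three-cycle on three mutually orthogonal vectors of the same norm, inside `Ω` -/
theorem three_cycle (h2 : (2 : F) ≠ 0) (v₁ v₂ v₃ : ι → F) (d : F) (hd : d ≠ 0)
    (h1 : Q v₁ = d) (h2' : Q v₂ = d) (h3 : Q v₃ = d)
    (h12 : QuadraticMap.polar (⇑Q) v₁ v₂ = 0) (h13 : QuadraticMap.polar (⇑Q) v₁ v₃ = 0)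
    (h23 : QuadraticMap.polar (⇑Q) v₂ v₃ = 0) :
    ∃ g : Matrix.GeneralLinearGroup ι F, g ∈ Cfsg.Geo.omegaGL ⇑Q ∧
      (g : Matrix ι ι F) *ᵥ v₁ = v₃ ∧ (g : Matrix ι ι F) *ᵥ v₂ = v₁ ∧
      (g : Matrix ι ι F) *ᵥ v₃ = v₂ ∧
      ∀ w, QuadraticMap.polar (⇑Q) v₁ w = 0 → QuadraticMap.polar (⇑Q) v₂ w = 0 →
        QuadraticMap.polar (⇑Q) v₃ w = 0 → (g : Matrix ι ι F) *ᵥ w = w := by
  obtain ⟨hx, x1, x2, xw⟩ := refl_swap h2 v₁ v₂ d hd h1 h2' h12
  obtain ⟨hy, y2, y3, yw⟩ := refl_swap h2 v₂ v₃ d hd h2' h3 h23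
  have h21 : QuadraticMap.polar (⇑Q) v₂ v₁ = 0 := by rw [QuadraticMap.polar_comm]; exact h12
  have h31 : QuadraticMap.polar (⇑Q) v₃ v₁ = 0 := by rw [QuadraticMap.polar_comm]; exact h13
  have h32 : QuadraticMap.polar (⇑Q) v₃ v₂ = 0 := by rw [QuadraticMap.polar_comm]; exact h23
  have x3 := xw v₃ h13 h23
  have y1 := yw v₁ h21 h31
  refine ⟨((refl Q (v₁ - v₂) hx * refl Q (v₂ - v₃) hy * (refl Q (v₁ - v₂) hx)⁻¹ *
    (refl Q (v₂ - v₃) hy)⁻¹ : ↥(Cfsg.isometryGroup F ⇑Q)) : Matrix.GeneralLinearGroup ι F),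
    comm_mem_omegaGL _ _, ?_, ?_, ?_, ?_⟩
  · rw [refl_inv, refl_inv, mul_mulVec, mul_mulVec, mul_mulVec, y1, x1, y2, x3]
  · rw [refl_inv, refl_inv, mul_mulVec, mul_mulVec, mul_mulVec, y2, x3, y3, x2]
  · rw [refl_inv, refl_inv, mul_mulVec, mul_mulVec, mul_mulVec, y3, x2, y1, x1]
  · intro w hw1 hw2 hw3
    rw [refl_inv, refl_inv, mul_mulVec, mul_mulVec, mul_mulVec, yw w hw2 hw3, xw w hw1 hw2,
      yw w hw2 hw3, xw w hw1 hw2]

/-- membership in a set stabilizer from mapping the set into itself (finite case) -/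
theorem mem_stabilizing_of_mapsTo [Finite F] (S : Set (ι → F)) (g : Matrix.GeneralLinearGroup ι F)
    (h : ∀ v ∈ S, (g : Matrix ι ι F) *ᵥ v ∈ S) :
    g ∈ Cfsg.stabilizing (Cfsg.glToMat ι F) S := by
  intro v
  constructor
  · exact h v
  · intro hv
    have hv' : (g : Matrix ι ι F) *ᵥ v ∈ S := hv
    let φ : S → S := fun s => ⟨(g : Matrix ι ι F) *ᵥ s.1, h s.1 s.2⟩
    have hinj : Function.Injective φ := by
      intro s s' hss
      have h1 : (g : Matrix ι ι F) *ᵥ s.1 = (g : Matrix ι ι F) *ᵥ s'.1 := congrArg Subtype.val hss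
      apply Subtype.ext
      have h2 := congrArg (fun z => ((g⁻¹ : Matrix.GeneralLinearGroup ι F) : Matrix ι ι F) *ᵥ z) h1
      simp only [Matrix.mulVec_mulVec, ← Matrix.GeneralLinearGroup.coe_mul, inv_mul_cancel] at h2
      simpa using h2
    have hsurj := Finite.surjective_of_injective hinj
    obtain ⟨s, hs⟩ := hsurj ⟨_, hv'⟩
    have h1 : (g : Matrix ι ι F) *ᵥ s.1 = (g : Matrix ι ι F) *ᵥ v := congrArg Subtype.val hs
    have h2 := congrArg (fun z => ((g⁻¹ : Matrix.GeneralLinearGroup ι F) : Matrix ι ι F) *ᵥ z) h1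
    simp only [Matrix.mulVec_mulVec, ← Matrix.GeneralLinearGroup.coe_mul, inv_mul_cancel] at h2
    have h3 : s.1 = v := by simpa using h2
    rw [← h3]; exact s.2

end Cfsg.Agent.H9Orth
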