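import Mathlib
import Cfsg.Prelude
import Cfsg.Agent.Lib.Helper9.OrthNM4

set_option autoImplicit false

namespace Cfsg.Agent.H9Orth

open Matrix Cfsg.Agent.Lib.Helper2.ReflGen Cfsg.Agent.Lib.Helper2.CDG

variable {F : Type*} [Field F] {ι : Type} [Fintype ι] [DecidableEq ι]
variable {Q : QuadraticForm F (ι → F)}

/-- refinement to a rigid orthogonal frame: the decomposition stabilizer is not maximal in `Ω` -/
theorem frame_not_max [Fintype F] (h2 : (2 : F) ≠ 0) (h3 : (3 : F) = 0)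
    {t : ℕ} (ht : 3 ≤ t) (D : Fin t → Submodule F (ι → F))
    (horth : ∀ i j, i ≠ j → Cfsg.Geo.AreOrthogonalFor (QuadraticMap.polar ⇑Q) (D i) (D j))
    (d : F) (hd : d ≠ 0)
    (hframe : ∀ i, ∃ u₁ u₂ : ι → F, u₁ ∈ D i ∧ u₂ ∈ D i ∧ Q u₁ = d ∧ Q u₂ = d ∧
      QuadraticMap.polar (⇑Q) u₁ u₂ = 0)
    (hrig : ∀ i, ∀ s ∈ D i, ∀ s' ∈ D i, Q s = d → Q s' = d →
      s' = s ∨ s' = -s ∨ QuadraticMap.polar (⇑Q) s s' = 0) :
    ∃ K : Subgroup (Matrix.GeneralLinearGroup ι F),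
      Cfsg.Geo.decompositionStabilizer D ⊓ Cfsg.Geo.omegaGL ⇑Q < K ∧
        K < Cfsg.Geo.omegaGL ⇑Q := by
  set S : Set (ι → F) := {v | Q v = d ∧ ∃ i, v ∈ D i} with hS
  have h2d : (2 : F) * d ≠ 0 := mul_ne_zero h2 hd
  -- a vector of norm d lying in two members forces the members to coincide
  have hsame : ∀ (v : ι → F) (i j : Fin t), Q v = d → v ∈ D i → v ∈ D j → i = j := by
    intro v i j hv hi hj
    by_contra hij
    have := horth i j hij v hi v hj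
    rw [polar_self, hv] at this
    exact h2d this
  obtain ⟨a₁, a₂, ha₁, ha₂, hQa₁, hQa₂, ha₁₂⟩ := hframe ⟨0, by omega⟩
  obtain ⟨b₁, b₂, hb₁, hb₂, hQb₁, hQb₂, hb₁₂⟩ := hframe ⟨1, by omega⟩
  obtain ⟨c₁, c₂, hc₁, hc₂, hQc₁, hQc₂, hc₁₂⟩ := hframe ⟨2, by omega⟩
  have h01 : (⟨0, by omega⟩ : Fin t) ≠ ⟨1, by omega⟩ := by
    intro h; have := congrArg Fin.val h; simp at this
  have h02 : (⟨0, by omega⟩ : Fin t) ≠ ⟨2, by omega⟩ := by
    intro h; have := congrArg Fin.val h; simp at this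
  have h12 : (⟨1, by omega⟩ : Fin t) ≠ ⟨2, by omega⟩ := by
    intro h; have := congrArg Fin.val h; simp at this
  refine ⟨Cfsg.stabilizing (Cfsg.glToMat ι F) S ⊓ Cfsg.Geo.omegaGL ⇑Q, ?_, ?_⟩
  · apply lt_of_le_of_ne
    · intro g hg
      obtain ⟨hgD, hgΩ⟩ := Subgroup.mem_inf.1 hg
      refine Subgroup.mem_inf.2 ⟨?_, hgΩ⟩
      apply mem_stabilizing_of_mapsTo
      rintro v ⟨hv, i, hi⟩
      obtain ⟨σ, hσ⟩ := hgD
      refine ⟨by rw [omegaGL_Q hgΩ, hv], σ i, ?_⟩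
      rw [← hσ i]
      exact ⟨v, hi, by rw [Matrix.toLin'_apply]⟩
    · intro heq
      obtain ⟨g, hgΩ, g1, g2, g3, gw⟩ := three_cycle h2 a₁ a₂ b₁ d hd hQa₁ hQa₂ hQb₁ ha₁₂
        (horth _ _ h01 a₁ ha₁ b₁ hb₁) (horth _ _ h01 a₂ ha₂ b₁ hb₁)
      have hgK : g ∈ Cfsg.stabilizing (Cfsg.glToMat ι F) S ⊓ Cfsg.Geo.omegaGL ⇑Q := by
        refine Subgroup.mem_inf.2 ⟨?_, hgΩ⟩
        apply mem_stabilizing_of_mapsTo
        rintro s ⟨hs, i, hi⟩
        have hneg : ∀ v : ι → F, Q (-v) = Q v := fun v => by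
          rw [← neg_one_smul F v, QuadraticMap.map_smul]; simp
        have r1 : s = a₁ ∨ s = -a₁ ∨ QuadraticMap.polar (⇑Q) a₁ s = 0 := by
          by_cases hi0 : i = ⟨0, by omega⟩
          · subst hi0
            exact hrig _ a₁ ha₁ s hi hQa₁ hs
          · right; right
            rw [QuadraticMap.polar_comm]
            exact horth i _ hi0 s hi a₁ ha₁
        have r2 : s = a₂ ∨ s = -a₂ ∨ QuadraticMap.polar (⇑Q) a₂ s = 0 := by
          by_cases hi0 : i = ⟨0, by omega⟩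
          · subst hi0
            exact hrig _ a₂ ha₂ s hi hQa₂ hs
          · right; right
            rw [QuadraticMap.polar_comm]
            exact horth i _ hi0 s hi a₂ ha₂
        have r3 : s = b₁ ∨ s = -b₁ ∨ QuadraticMap.polar (⇑Q) b₁ s = 0 := by
          by_cases hi0 : i = ⟨1, by omega⟩
          · subst hi0
            exact hrig _ b₁ hb₁ s hi hQb₁ hs
          · right; right
            rw [QuadraticMap.polar_comm]
            exact horth i _ hi0 s hi b₁ hb₁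
        rcases r1 with rfl | rfl | r1
        · rw [g1]; exact ⟨hQb₁, _, hb₁⟩
        · rw [Matrix.mulVec_neg, g1]; exact ⟨by rw [hneg, hQb₁], _, (D _).neg_mem hb₁⟩
        rcases r2 with rfl | rfl | r2
        · rw [g2]; exact ⟨hQa₁, _, ha₁⟩
        · rw [Matrix.mulVec_neg, g2]; exact ⟨by rw [hneg, hQa₁], _, (D _).neg_mem ha₁⟩
        rcases r3 with rfl | rfl | r3
        · rw [g3]; exact ⟨hQa₂, _, ha₂⟩
        · rw [Matrix.mulVec_neg, g3]; exact ⟨by rw [hneg, hQa₂], _, (D _).neg_mem ha₂⟩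
        rw [gw s r1 r2 r3]
        exact ⟨hs, i, hi⟩
      rw [← heq] at hgK
      obtain ⟨σ, hσ⟩ := (Subgroup.mem_inf.1 hgK).1
      have e1 : (g : Matrix ι ι F) *ᵥ a₁ ∈ D (σ ⟨0, by omega⟩) := by
        rw [← hσ]; exact ⟨a₁, ha₁, by rw [Matrix.toLin'_apply]⟩
      have e2 : (g : Matrix ι ι F) *ᵥ a₂ ∈ D (σ ⟨0, by omega⟩) := by
        rw [← hσ]; exact ⟨a₂, ha₂, by rw [Matrix.toLin'_apply]⟩
      rw [g1] at e1
      rw [g2] at e2
      have k1 := hsame b₁ _ _ hQb₁ hb₁ e1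
      have k2 := hsame a₁ _ _ hQa₁ ha₁ e2
      exact h01 (k2.trans k1.symm)
  · apply lt_of_le_of_ne inf_le_right
    intro heq
    -- the vector u = a₂ + b₂ + c₁ + c₂ of norm 4d = d
    have p1 : QuadraticMap.polar (⇑Q) a₂ b₂ = 0 := horth _ _ h01 a₂ ha₂ b₂ hb₂
    have p2 : QuadraticMap.polar (⇑Q) a₂ c₁ = 0 := horth _ _ h02 a₂ ha₂ c₁ hc₁
    have p3 : QuadraticMap.polar (⇑Q) a₂ c₂ = 0 := horth _ _ h02 a₂ ha₂ c₂ hc₂
    have p4 : QuadraticMap.polar (⇑Q) b₂ c₁ = 0 := horth _ _ h12 b₂ hb₂ c₁ hc₁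
    have p5 : QuadraticMap.polar (⇑Q) b₂ c₂ = 0 := horth _ _ h12 b₂ hb₂ c₂ hc₂
    set u := a₂ + b₂ + c₁ + c₂ with hu
    have hQu : Q u = d := by
      rw [hu, QuadraticMap.map_add Q, QuadraticMap.map_add Q, QuadraticMap.map_add Q, hQa₂, hQb₂,
        hQc₁, hQc₂, QuadraticMap.polar_add_left, QuadraticMap.polar_add_left,
        QuadraticMap.polar_add_left, p1, p2, p3, p4, p5, hc₁₂]
      linear_combination d * h3
    have q1 : QuadraticMap.polar (⇑Q) a₁ u = 0 := by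
      rw [hu, QuadraticMap.polar_add_right, QuadraticMap.polar_add_right,
        QuadraticMap.polar_add_right, ha₁₂, horth _ _ h01 a₁ ha₁ b₂ hb₂,
        horth _ _ h02 a₁ ha₁ c₁ hc₁, horth _ _ h02 a₁ ha₁ c₂ hc₂]
      ring
    have q2 : QuadraticMap.polar (⇑Q) b₁ u = 0 := by
      rw [hu, QuadraticMap.polar_add_right, QuadraticMap.polar_add_right,
        QuadraticMap.polar_add_right, hb₁₂, QuadraticMap.polar_comm _ b₁ a₂,
        horth _ _ h01 a₂ ha₂ b₁ hb₁,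
        horth _ _ h12 b₁ hb₁ c₁ hc₁, horth _ _ h12 b₁ hb₁ c₂ hc₂]
      ring
    obtain ⟨g, hgΩ, g1, -, -, -⟩ := three_cycle h2 a₁ b₁ u d hd hQa₁ hQb₁ hQu
      (horth _ _ h01 a₁ ha₁ b₁ hb₁) q1 q2
    rw [← heq] at hgΩ
    have hgS := (Subgroup.mem_inf.1 hgΩ).1
    have hu_S : (g : Matrix ι ι F) *ᵥ a₁ ∈ S := (hgS a₁).1 ⟨hQa₁, _, ha₁⟩
    rw [g1] at hu_S
    obtain ⟨-, i, hi⟩ := hu_S
    have k1 : i = ⟨0, by omega⟩ := by
      by_contra hne
      have := horth i _ hne u hi a₂ ha₂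
      rw [hu, QuadraticMap.polar_add_left, QuadraticMap.polar_add_left,
        QuadraticMap.polar_add_left, polar_self, hQa₂, QuadraticMap.polar_comm _ b₂ a₂, p1,
        QuadraticMap.polar_comm _ c₁ a₂, p2, QuadraticMap.polar_comm _ c₂ a₂, p3] at this
      apply h2d
      linear_combination this
    have k2 : i = ⟨1, by omega⟩ := by
      by_contra hne
      have := horth i _ hne u hi b₂ hb₂
      rw [hu, QuadraticMap.polar_add_left, QuadraticMap.polar_add_left,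
        QuadraticMap.polar_add_left, polar_self, hQb₂, p1,
        QuadraticMap.polar_comm _ c₁ b₂, p4, QuadraticMap.polar_comm _ c₂ b₂, p5] at this
      apply h2d
      linear_combination this
    exact h01 (k1.symm.trans k2)

end Cfsg.Agent.H9Orth
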