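import Mathlib
import Cfsg.Prelude
import Cfsg.Agent.Lib.Helper9.OrthNM5

set_option autoImplicit false

namespace Cfsg.Agent.H9Orth

open Matrix Cfsg.Agent.Lib.Helper2.ReflGen Cfsg.Agent.Lib.Helper2.CDG

set_option maxRecDepth 100000 in
theorem r3_zmod : ∀ δ x₁ x₂ x₃ y₁ y₂ y₃ : ZMod 3, δ ≠ 0 →
    x₁ * x₁ + x₂ * x₂ + δ * (x₃ * x₃) = δ → y₁ * y₁ + y₂ * y₂ + δ * (y₃ * y₃) = δ →
    ((y₁ = x₁ ∧ y₂ = x₂ ∧ y₃ = x₃) ∨ (y₁ = -x₁ ∧ y₂ = -x₂ ∧ y₃ = -x₃) ∨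
      x₁ * y₁ + x₂ * y₂ + δ * (x₃ * y₃) = 0) := by decide +kernel

theorem r2_zmod : ∀ x₁ x₂ y₁ y₂ : ZMod 3,
    x₁ * x₁ + x₂ * x₂ = 1 → y₁ * y₁ + y₂ * y₂ = 1 →
    ((y₁ = x₁ ∧ y₂ = x₂) ∨ (y₁ = -x₁ ∧ y₂ = -x₂) ∨ x₁ * y₁ + x₂ * y₂ = 0) := by decide +kernel

variable {F : Type*} [Field F]

theorem r3_field [Fintype F] (hq : Fintype.card F = 3) (δ x₁ x₂ x₃ y₁ y₂ y₃ : F) (hδ : δ ≠ 0)
    (hx : x₁ * x₁ + x₂ * x₂ + δ * (x₃ * x₃) = δ) (hy : y₁ * y₁ + y₂ * y₂ + δ * (y₃ * y₃) = δ) :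
    (y₁ = x₁ ∧ y₂ = x₂ ∧ y₃ = x₃) ∨ (y₁ = -x₁ ∧ y₂ = -x₂ ∧ y₃ = -x₃) ∨
      x₁ * y₁ + x₂ * y₂ + δ * (x₃ * y₃) = 0 := by
  haveI : Fact (Nat.Prime 3) := ⟨Nat.prime_three⟩
  let ψ : ZMod 3 ≃+* F := ZMod.ringEquivOfPrime F Nat.prime_three hq
  obtain ⟨δ', rfl⟩ := ψ.surjective δ
  obtain ⟨a₁, rfl⟩ := ψ.surjective x₁
  obtain ⟨a₂, rfl⟩ := ψ.surjective x₂
  obtain ⟨a₃, rfl⟩ := ψ.surjective x₃
  obtain ⟨b₁, rfl⟩ := ψ.surjective y₁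
  obtain ⟨b₂, rfl⟩ := ψ.surjective y₂
  obtain ⟨b₃, rfl⟩ := ψ.surjective y₃
  simp only [← map_mul, ← map_add, ← map_neg, ψ.injective.eq_iff] at hx hy ⊢
  have hδ' : δ' ≠ 0 := by
    rintro rfl
    exact hδ (map_zero ψ)
  have := r3_zmod δ' a₁ a₂ a₃ b₁ b₂ b₃ hδ' hx hy
  rcases this with h | h | h
  · left; exact h
  · right; left; exact h
  · right; right
    rw [h, map_zero]

theorem r2_field [Fintype F] (hq : Fintype.card F = 3) (x₁ x₂ y₁ y₂ : F)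
    (hx : x₁ * x₁ + x₂ * x₂ = 1) (hy : y₁ * y₁ + y₂ * y₂ = 1) :
    (y₁ = x₁ ∧ y₂ = x₂) ∨ (y₁ = -x₁ ∧ y₂ = -x₂) ∨ x₁ * y₁ + x₂ * y₂ = 0 := by
  haveI : Fact (Nat.Prime 3) := ⟨Nat.prime_three⟩
  let ψ : ZMod 3 ≃+* F := ZMod.ringEquivOfPrime F Nat.prime_three hq
  obtain ⟨a₁, rfl⟩ := ψ.surjective x₁
  obtain ⟨a₂, rfl⟩ := ψ.surjective x₂
  obtain ⟨b₁, rfl⟩ := ψ.surjective y₁
  obtain ⟨b₂, rfl⟩ := ψ.surjective y₂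
  rw [← map_one ψ] at hx hy
  simp only [← map_mul, ← map_add, ← map_neg, ψ.injective.eq_iff] at hx hy ⊢
  have := r2_zmod a₁ a₂ b₁ b₂ hx hy
  rcases this with h | h | h
  · left; exact h
  · right; left; exact h
  · right; right
    rw [h, map_zero]

theorem char_three [Fintype F] (hq : Fintype.card F = 3) : (3 : F) = 0 := by
  have := Nat.cast_card_eq_zero F
  rw [hq] at this
  exact_mod_cast this

theorem two_ne_zero_of_card [Fintype F] (hq : Fintype.card F = 3) : (2 : F) ≠ 0 := by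
  intro h
  have h3 := char_three hq
  have : (1 : F) = 0 := by linear_combination h3 - h
  exact one_ne_zero this

theorem eq_one_or_neg_one [Fintype F] (hq : Fintype.card F = 3) {x : F} (hx : x ≠ 0) :
    x = 1 ∨ x = -1 := by
  have h := mul_self_eq_one_of_card (le_of_eq hq) hx
  exact mul_self_eq_one_iff.1 h

end Cfsg.Agent.H9Orth
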