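import Mathlib
import Cfsg.Prelude
import Cfsg.Agent.Lib.Helper9.OrthNM6

set_option autoImplicit false

namespace Cfsg.Agent.H9Orth

open Matrix Cfsg.Agent.Lib.Helper2.ReflGen Cfsg.Agent.Lib.Helper2.CDG

variable {F : Type*} [Field F] {ι : Type} [Fintype ι] [DecidableEq ι]
variable {Q : QuadraticForm F (ι → F)}

/-- nondegeneracy of the restriction of `Q` to a subspace on which the polar form is non-degenerate -/
theorem nondeg_comp_subtype (U : Submodule F (ι → F))
    (hU : Cfsg.Geo.IsNondegenerateOn (QuadraticMap.polar ⇑Q) U) :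
    (QuadraticMap.polarBilin (Q.comp U.subtype)).Nondegenerate := by
  constructor
  · intro x hx
    by_contra hx0
    have hx0' : (x : ι → F) ≠ 0 := fun h => hx0 (Subtype.ext h)
    obtain ⟨-, ⟨y, hyU, hy⟩⟩ := hU x x.2 hx0'
    apply hy
    have := hx ⟨y, hyU⟩
    have h2 : QuadraticMap.polar (Q.comp U.subtype) x ⟨y, hyU⟩ = 0 := this
    rwa [Cfsg.Agent.Lib.Helper5.polar_comp_subtype] at h2
  · intro x hx
    by_contra hx0
    have hx0' : (x : ι → F) ≠ 0 := fun h => hx0 (Subtype.ext h)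
    obtain ⟨⟨y, hyU, hy⟩, -⟩ := hU x x.2 hx0'
    apply hy
    have := hx ⟨y, hyU⟩
    have h2 : QuadraticMap.polar (Q.comp U.subtype) ⟨y, hyU⟩ x = 0 := this
    rwa [Cfsg.Agent.Lib.Helper5.polar_comp_subtype] at h2

/-- coordinates with respect to three orthogonal anisotropic vectors in a 3-dimensional subspace -/
theorem coord3 (h2 : (2 : F) ≠ 0) (U : Submodule F (ι → F)) (hdim : Module.finrank F U = 3)
    (b0 b1 b2 : ι → F) (h0 : b0 ∈ U) (h1 : b1 ∈ U) (hb2 : b2 ∈ U)
    (q0 : Q b0 ≠ 0) (q1 : Q b1 ≠ 0) (q2 : Q b2 ≠ 0)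
    (p01 : QuadraticMap.polar (⇑Q) b0 b1 = 0) (p02 : QuadraticMap.polar (⇑Q) b0 b2 = 0)
    (p12 : QuadraticMap.polar (⇑Q) b1 b2 = 0) :
    ∀ s ∈ U, ∃ x₀ x₁ x₂ : F, s = x₀ • b0 + x₁ • b1 + x₂ • b2 := by
  have p10 : QuadraticMap.polar (⇑Q) b1 b0 = 0 := by rw [QuadraticMap.polar_comm]; exact p01
  have p20 : QuadraticMap.polar (⇑Q) b2 b0 = 0 := by rw [QuadraticMap.polar_comm]; exact p02
  have p21 : QuadraticMap.polar (⇑Q) b2 b1 = 0 := by rw [QuadraticMap.polar_comm]; exact p12
  have hli : LinearIndependent F ![b0, b1, b2] := by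
    rw [Fintype.linearIndependent_iff]
    intro c hc
    rw [Fin.sum_univ_three] at hc
    replace hc : c 0 • b0 + c 1 • b1 + c 2 • b2 = 0 := hc
    have e0 := congrArg (fun v => QuadraticMap.polar (⇑Q) b0 v) hc
    have e1 := congrArg (fun v => QuadraticMap.polar (⇑Q) b1 v) hc
    have e2 := congrArg (fun v => QuadraticMap.polar (⇑Q) b2 v) hc
    simp only [QuadraticMap.polar_add_right, QuadraticMap.polar_smul_right, polar_self, p01, p02,
      p10, p12, p20, p21, smul_eq_mul, mul_zero, add_zero, zero_add,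
      QuadraticMap.polar_zero_right] at e0 e1 e2
    intro i
    fin_cases i
    · rcases mul_eq_zero.1 e0 with h | h
      · exact h
      · exact absurd h (mul_ne_zero h2 q0)
    · rcases mul_eq_zero.1 e1 with h | h
      · exact h
      · exact absurd h (mul_ne_zero h2 q1)
    · rcases mul_eq_zero.1 e2 with h | h
      · exact h
      · exact absurd h (mul_ne_zero h2 q2)
  have hspan : Submodule.span F (Set.range ![b0, b1, b2]) = U := by
    apply Submodule.eq_of_le_of_finrank_eq
    · rw [Submodule.span_le]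
      rintro _ ⟨i, rfl⟩
      fin_cases i
      · exact h0
      · exact h1
      · exact hb2
    · rw [finrank_span_eq_card hli, hdim]; simp
  intro s hs
  rw [← hspan] at hs
  obtain ⟨c, hc⟩ := (Submodule.mem_span_range_iff_exists_fun F).1 hs
  rw [Fin.sum_univ_three] at hc
  replace hc : c 0 • b0 + c 1 • b1 + c 2 • b2 = s := hc
  exact ⟨c 0, c 1, c 2, hc.symm⟩

/-- coordinates with respect to two orthogonal anisotropic vectors in a plane -/
theorem coord2 (h2 : (2 : F) ≠ 0) (U : Submodule F (ι → F)) (hdim : Module.finrank F U = 2)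
    (b0 b1 : ι → F) (h0 : b0 ∈ U) (h1 : b1 ∈ U)
    (q0 : Q b0 ≠ 0) (q1 : Q b1 ≠ 0)
    (p01 : QuadraticMap.polar (⇑Q) b0 b1 = 0) :
    ∀ s ∈ U, ∃ x₀ x₁ : F, s = x₀ • b0 + x₁ • b1 := by
  have p10 : QuadraticMap.polar (⇑Q) b1 b0 = 0 := by rw [QuadraticMap.polar_comm]; exact p01
  have hli : LinearIndependent F ![b0, b1] := by
    rw [Fintype.linearIndependent_iff]
    intro c hc
    rw [Fin.sum_univ_two] at hc
    replace hc : c 0 • b0 + c 1 • b1 = 0 := hc
    have e0 := congrArg (fun v => QuadraticMap.polar (⇑Q) b0 v) hc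
    have e1 := congrArg (fun v => QuadraticMap.polar (⇑Q) b1 v) hc
    simp only [QuadraticMap.polar_add_right, QuadraticMap.polar_smul_right, polar_self, p01,
      p10, smul_eq_mul, mul_zero, add_zero, zero_add,
      QuadraticMap.polar_zero_right] at e0 e1
    intro i
    fin_cases i
    · rcases mul_eq_zero.1 e0 with h | h
      · exact h
      · exact absurd h (mul_ne_zero h2 q0)
    · rcases mul_eq_zero.1 e1 with h | h
      · exact h
      · exact absurd h (mul_ne_zero h2 q1)
  have hspan : Submodule.span F (Set.range ![b0, b1]) = U := by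
    apply Submodule.eq_of_le_of_finrank_eq
    · rw [Submodule.span_le]
      rintro _ ⟨i, rfl⟩
      fin_cases i
      · exact h0
      · exact h1
    · rw [finrank_span_eq_card hli, hdim]; simp
  intro s hs
  rw [← hspan] at hs
  obtain ⟨c, hc⟩ := (Submodule.mem_span_range_iff_exists_fun F).1 hs
  rw [Fin.sum_univ_two] at hc
  replace hc : c 0 • b0 + c 1 • b1 = s := hc
  exact ⟨c 0, c 1, hc.symm⟩

end Cfsg.Agent.H9Orth
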