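import Mathlib
import Cfsg.Prelude
import Cfsg.Agent.Lib.Helper9.OrthNM7

set_option autoImplicit false

namespace Cfsg.Agent.H9Orth

open Matrix Cfsg.Agent.Lib.Helper2.ReflGen Cfsg.Agent.Lib.Helper2.CDG

variable {F : Type*} [Field F] {ι : Type} [Fintype ι] [DecidableEq ι]
variable {Q : QuadraticForm F (ι → F)}

/-- rigidity of the vectors of norm `d` in a non-degenerate 3-space over the field with 3 elements -/
theorem rig3 [Fintype F] (hq : Fintype.card F = 3) (U : Submodule F (ι → F))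
    (hdim : Module.finrank F U = 3)
    (hU : Cfsg.Geo.IsNondegenerateOn (QuadraticMap.polar ⇑Q) U) :
    ∃ d : F, d ≠ 0 ∧
      (∃ u₁ u₂ : ι → F, u₁ ∈ U ∧ u₂ ∈ U ∧ Q u₁ = d ∧ Q u₂ = d ∧
        QuadraticMap.polar (⇑Q) u₁ u₂ = 0) ∧
      ∀ s ∈ U, ∀ s' ∈ U, Q s = d → Q s' = d →
        s' = s ∨ s' = -s ∨ QuadraticMap.polar (⇑Q) s s' = 0 := by
  have h2 := two_ne_zero_of_card hq
  have h3 := char_three hq
  haveI : Finite F := Finite.of_fintype F
  obtain ⟨b, horth, hnorm, hlast⟩ := Cfsg.Agent.Lib.Helper5.exists_orthogonal_family_aux h2 2 U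
    (Q.comp U.subtype) (nondeg_comp_subtype U hU) (by rw [hdim])
  have q0 : Q (b 0 : ι → F) = 1 := hnorm 0 (by decide)
  have q1 : Q (b 1 : ι → F) = 1 := hnorm 1 (by decide)
  have q2' : Q (b 2 : ι → F) ≠ 0 := hlast
  set δ := Q (b 2 : ι → F) with hδ
  have p01 : QuadraticMap.polar (⇑Q) (b 0 : ι → F) (b 1 : ι → F) = 0 := by
    rw [← Cfsg.Agent.Lib.Helper5.polar_comp_subtype]; exact horth 0 1 (by decide)
  have p02 : QuadraticMap.polar (⇑Q) (b 0 : ι → F) (b 2 : ι → F) = 0 := by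
    rw [← Cfsg.Agent.Lib.Helper5.polar_comp_subtype]; exact horth 0 2 (by decide)
  have p12 : QuadraticMap.polar (⇑Q) (b 1 : ι → F) (b 2 : ι → F) = 0 := by
    rw [← Cfsg.Agent.Lib.Helper5.polar_comp_subtype]; exact horth 1 2 (by decide)
  have p10 : QuadraticMap.polar (⇑Q) (b 1 : ι → F) (b 0 : ι → F) = 0 := by
    rw [QuadraticMap.polar_comm]; exact p01
  have p20 : QuadraticMap.polar (⇑Q) (b 2 : ι → F) (b 0 : ι → F) = 0 := by
    rw [QuadraticMap.polar_comm]; exact p02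
  have p21 : QuadraticMap.polar (⇑Q) (b 2 : ι → F) (b 1 : ι → F) = 0 := by
    rw [QuadraticMap.polar_comm]; exact p12
  have hcoord := coord3 h2 U hdim (b 0) (b 1) (b 2) (b 0).2 (b 1).2 (b 2).2
    (by rw [q0]; exact one_ne_zero) (by rw [q1]; exact one_ne_zero) q2' p01 p02 p12
  have hδ2 : δ * δ = 1 := mul_self_eq_one_of_card (le_of_eq hq) q2'
  have hnormf : ∀ x₀ x₁ x₂ : F, Q (x₀ • (b 0 : ι → F) + x₁ • (b 1 : ι → F) + x₂ • (b 2 : ι → F)) =
      x₀ * x₀ + x₁ * x₁ + δ * (x₂ * x₂) := by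
    intro x₀ x₁ x₂
    rw [Cfsg.Agent.Lib.Helper5.map_lin3, q0, q1, p01, p02, p12]; ring
  refine ⟨δ, q2', ?_, ?_⟩
  · refine ⟨b 2, (b 0 : ι → F) + (1 - δ) • (b 1 : ι → F), (b 2).2,
      U.add_mem (b 0).2 (U.smul_mem _ (b 1).2), rfl, ?_, ?_⟩
    · rw [map_add_smul, q0, q1, p01]
      linear_combination hδ2 + (1 - δ) * h3
    · rw [QuadraticMap.polar_add_right, QuadraticMap.polar_smul_right, p20, p21]
      simp
  · intro s hs s' hs' hQs hQs'
    obtain ⟨x₀, x₁, x₂, rfl⟩ := hcoord s hs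
    obtain ⟨y₀, y₁, y₂, rfl⟩ := hcoord s' hs'
    rw [hnormf] at hQs hQs'
    rcases r3_field hq δ x₀ x₁ x₂ y₀ y₁ y₂ q2' hQs hQs' with ⟨e0, e1, e2⟩ | ⟨e0, e1, e2⟩ | e
    · left; rw [e0, e1, e2]
    · right; left
      rw [e0, e1, e2]
      simp only [neg_smul]
      abel
    · right; right
      simp only [QuadraticMap.polar_add_left, QuadraticMap.polar_add_right,
        QuadraticMap.polar_smul_left, QuadraticMap.polar_smul_right, polar_self, p01, p02, p12, p10,
        p20, p21, q0, q1, smul_eq_mul, mul_zero, add_zero, zero_add]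
      rw [← hδ]
      linear_combination (2 : F) * e

/-- rigidity of the vectors of norm `1` in an anisotropic plane over the field with 3 elements -/
theorem rig2 [Fintype F] (hq : Fintype.card F = 3) (U : Submodule F (ι → F))
    (hdim : Module.finrank F U = 2)
    (hU : Cfsg.Geo.IsNondegenerateOn (QuadraticMap.polar ⇑Q) U)
    (hminus : ¬ Cfsg.Geo.IsPlusTypeOn ⇑Q U) :
    (∃ u₁ u₂ : ι → F, u₁ ∈ U ∧ u₂ ∈ U ∧ Q u₁ = 1 ∧ Q u₂ = 1 ∧
        QuadraticMap.polar (⇑Q) u₁ u₂ = 0) ∧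
      ∀ s ∈ U, ∀ s' ∈ U, Q s = 1 → Q s' = 1 →
        s' = s ∨ s' = -s ∨ QuadraticMap.polar (⇑Q) s s' = 0 := by
  have h2 := two_ne_zero_of_card hq
  have h3 := char_three hq
  haveI : Finite F := Finite.of_fintype F
  obtain ⟨b, horth, hnorm, hlast⟩ := Cfsg.Agent.Lib.Helper5.exists_orthogonal_family_aux h2 1 U
    (Q.comp U.subtype) (nondeg_comp_subtype U hU) (by rw [hdim])
  have q0 : Q (b 0 : ι → F) = 1 := hnorm 0 (by decide)
  have q1' : Q (b 1 : ι → F) ≠ 0 := hlast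
  have p01 : QuadraticMap.polar (⇑Q) (b 0 : ι → F) (b 1 : ι → F) = 0 := by
    rw [← Cfsg.Agent.Lib.Helper5.polar_comp_subtype]; exact horth 0 1 (by decide)
  have p10 : QuadraticMap.polar (⇑Q) (b 1 : ι → F) (b 0 : ι → F) = 0 := by
    rw [QuadraticMap.polar_comm]; exact p01
  have hcoord := coord2 h2 U hdim (b 0) (b 1) (b 0).2 (b 1).2
    (by rw [q0]; exact one_ne_zero) q1' p01
  -- the second norm is one, else the plane is of plus type
  have q1 : Q (b 1 : ι → F) = 1 := by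
    rcases eq_one_or_neg_one hq q1' with h | h
    · exact h
    · exfalso
      apply hminus
      have hv : Q ((b 0 : ι → F) + (b 1 : ι → F)) = 0 := by
        rw [QuadraticMap.map_add Q, q0, h, p01]; ring
      have hv0 : (b 0 : ι → F) + (b 1 : ι → F) ≠ 0 := by
        intro h0
        have e := congrArg (fun v => QuadraticMap.polar (⇑Q) (b 0 : ι → F) v) h0
        simp only [QuadraticMap.polar_add_right, polar_self, p01, q0, add_zero, mul_one,
          QuadraticMap.polar_zero_right] at e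
        exact h2 e
      refine ⟨Submodule.span F {(b 0 : ι → F) + (b 1 : ι → F)}, ?_, ?_, ?_⟩
      · rw [Submodule.span_le, Set.singleton_subset_iff]
        exact U.add_mem (b 0).2 (b 1).2
      · intro w hw
        obtain ⟨c, rfl⟩ := Submodule.mem_span_singleton.1 hw
        rw [QuadraticMap.map_smul, hv, smul_zero]
      · rw [finrank_span_singleton hv0, hdim]
  have hnormf : ∀ x₀ x₁ : F, Q (x₀ • (b 0 : ι → F) + x₁ • (b 1 : ι → F)) =
      x₀ * x₀ + x₁ * x₁ := by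
    intro x₀ x₁
    rw [Cfsg.Agent.Lib.Helper5.map_lin2, q0, q1, p01]; ring
  refine ⟨⟨b 0, b 1, (b 0).2, (b 1).2, q0, q1, p01⟩, ?_⟩
  intro s hs s' hs' hQs hQs'
  obtain ⟨x₀, x₁, rfl⟩ := hcoord s hs
  obtain ⟨y₀, y₁, rfl⟩ := hcoord s' hs'
  rw [hnormf] at hQs hQs'
  rcases r2_field hq x₀ x₁ y₀ y₁ hQs hQs' with ⟨e0, e1⟩ | ⟨e0, e1⟩ | e
  · left; rw [e0, e1]
  · right; left
    rw [e0, e1]
    simp only [neg_smul]
    abel
  · right; right
    simp only [QuadraticMap.polar_add_left, QuadraticMap.polar_add_right,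
      QuadraticMap.polar_smul_left, QuadraticMap.polar_smul_right, polar_self, p01, p10,
      q0, q1, smul_eq_mul, mul_zero, add_zero, zero_add]
    linear_combination (2 : F) * e

end Cfsg.Agent.H9Orth
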