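import Mathlib
import Cfsg.Prelude
import Cfsg.Agent.Lib.Helper9.OrthNM8

set_option autoImplicit false

namespace Cfsg.Agent.H9Orth

open Matrix Cfsg.Agent.Lib.Helper2.ReflGen Cfsg.Agent.Lib.Helper2.CDG

variable {F : Type*} [Field F] {ι : Type} [Fintype ι] [DecidableEq ι]

/-- the number of members times their dimension is the dimension of the space -/
theorem decomp_card {t m : ℕ} (D : Fin t → Submodule F (ι → F))
    (hD : Cfsg.Geo.IsMDecomposition m D) : t * m = Fintype.card ι := by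
  have hint : DirectSum.IsInternal D :=
    DirectSum.isInternal_submodule_of_iSupIndep_of_iSup_eq_top hD.indep hD.iSup_eq_top
  let bs : ∀ i, Module.Basis (Fin m) F (D i) := fun i =>
    Module.finBasisOfFinrankEq F (D i) (hD.finrank_eq i)
  have h1 := Module.finrank_eq_card_basis (hint.collectedBasis bs)
  rw [Module.finrank_fintype_fun_eq_card] at h1
  rw [h1]
  simp

variable {Q : QuadraticForm F (ι → F)}

/-- transfer of the frame and rigidity properties along an isometry of subspaces -/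
theorem transfer_rig (U U' : Submodule F (ι → F)) (hiso : Cfsg.Geo.AreIsometricFor ⇑Q U U') (d : F)
    (hfr : ∃ u₁ u₂ : ι → F, u₁ ∈ U ∧ u₂ ∈ U ∧ Q u₁ = d ∧ Q u₂ = d ∧
        QuadraticMap.polar (⇑Q) u₁ u₂ = 0)
    (hrig : ∀ s ∈ U, ∀ s' ∈ U, Q s = d → Q s' = d →
        s' = s ∨ s' = -s ∨ QuadraticMap.polar (⇑Q) s s' = 0) :
    (∃ u₁ u₂ : ι → F, u₁ ∈ U' ∧ u₂ ∈ U' ∧ Q u₁ = d ∧ Q u₂ = d ∧
        QuadraticMap.polar (⇑Q) u₁ u₂ = 0) ∧
    (∀ s ∈ U', ∀ s' ∈ U', Q s = d → Q s' = d →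
        s' = s ∨ s' = -s ∨ QuadraticMap.polar (⇑Q) s s' = 0) := by
  obtain ⟨e, he⟩ := hiso
  have hpol : ∀ a b : U, QuadraticMap.polar (⇑Q) ((e a : U') : ι → F) ((e b : U') : ι → F) =
      QuadraticMap.polar (⇑Q) (a : ι → F) (b : ι → F) := by
    intro a b
    unfold QuadraticMap.polar
    have : ((e a : U') : ι → F) + ((e b : U') : ι → F) = ((e (a + b) : U') : ι → F) := by
      rw [map_add]; rfl
    rw [this, he, he, he]
    rfl
  constructor
  · obtain ⟨u₁, u₂, h1, h2, q1, q2, p⟩ := hfr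
    refine ⟨(e ⟨u₁, h1⟩ : U'), (e ⟨u₂, h2⟩ : U'), (e ⟨u₁, h1⟩).2, (e ⟨u₂, h2⟩).2, ?_, ?_, ?_⟩
    · rw [he]; exact q1
    · rw [he]; exact q2
    · rw [hpol]; exact p
  · intro s hs s' hs' hQs hQs'
    have e1 : ((e (e.symm ⟨s, hs⟩) : U') : ι → F) = s := by rw [LinearEquiv.apply_symm_apply]
    have e2 : ((e (e.symm ⟨s', hs'⟩) : U') : ι → F) = s' := by rw [LinearEquiv.apply_symm_apply]
    have q1 : Q ((e.symm ⟨s, hs⟩ : U) : ι → F) = d := by rw [← he, e1]; exact hQs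
    have q2 : Q ((e.symm ⟨s', hs'⟩ : U) : ι → F) = d := by rw [← he, e2]; exact hQs'
    rcases hrig _ (e.symm ⟨s, hs⟩).2 _ (e.symm ⟨s', hs'⟩).2 q1 q2 with h | h | h
    · left
      have : e.symm ⟨s', hs'⟩ = e.symm ⟨s, hs⟩ := Subtype.ext h
      have := e.symm.injective this
      exact congrArg Subtype.val this
    · right; left
      have : e.symm ⟨s', hs'⟩ = -e.symm ⟨s, hs⟩ := Subtype.ext h
      rw [← map_neg] at this
      have := e.symm.injective this
      exact congrArg Subtype.val this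
    · right; right
      rw [← e1, ← e2, hpol]; exact h

/-- decompositions into non-degenerate 3-spaces or anisotropic planes over the field with three
elements: the stabilizer is not maximal in `Ω` -/
theorem decomp_not_max [Fintype F] (hq : Fintype.card F = 3) {t k : ℕ}
    (D : Fin t → Submodule F (ι → F)) (hD : Cfsg.Geo.IsOrthogonalMDecomposition ⇑Q k D)
    (ht : 3 ≤ t) (hk : k = 3 ∨ (k = 2 ∧ ∀ i, ¬ Cfsg.Geo.IsPlusTypeOn ⇑Q (D i))) :
    ∃ K : Subgroup (Matrix.GeneralLinearGroup ι F),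
      Cfsg.Geo.decompositionStabilizer D ⊓ Cfsg.Geo.omegaGL ⇑Q < K ∧
        K < Cfsg.Geo.omegaGL ⇑Q := by
  have h2 := two_ne_zero_of_card hq
  have h3 := char_three hq
  have key : ∃ d : F, d ≠ 0 ∧
      (∃ u₁ u₂ : ι → F, u₁ ∈ D ⟨0, by omega⟩ ∧ u₂ ∈ D ⟨0, by omega⟩ ∧ Q u₁ = d ∧ Q u₂ = d ∧
        QuadraticMap.polar (⇑Q) u₁ u₂ = 0) ∧
      ∀ s ∈ D ⟨0, by omega⟩, ∀ s' ∈ D ⟨0, by omega⟩, Q s = d → Q s' = d →
        s' = s ∨ s' = -s ∨ QuadraticMap.polar (⇑Q) s s' = 0 := by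
    rcases hk with hk | ⟨hk, hminus⟩
    · exact rig3 hq (D ⟨0, by omega⟩) (by rw [hD.decomp.decomp.finrank_eq, hk])
        (hD.decomp.nondegenerate _)
    · obtain ⟨hf, hr⟩ := rig2 hq (D ⟨0, by omega⟩) (by rw [hD.decomp.decomp.finrank_eq, hk])
        (hD.decomp.nondegenerate _) (hminus _)
      exact ⟨1, one_ne_zero, hf, hr⟩
  obtain ⟨d, hd, hfr, hrig⟩ := key
  have hall := fun i => transfer_rig _ _ (hD.isometric ⟨0, by omega⟩ i) d hfr hrig
  exact frame_not_max h2 h3 ht D hD.decomp.orthogonal d hd (fun i => (hall i).1)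
    (fun i => (hall i).2)

end Cfsg.Agent.H9Orth
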