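import Mathlib
import Cfsg.Prelude
import Cfsg.Agent.Lib.Helper9.OrthNM9

set_option autoImplicit false

namespace Cfsg.Agent.H9Orth

open Matrix Cfsg.Agent.Lib.Helper2.ReflGen Cfsg.Agent.Lib.Helper2.CDG

variable {F : Type*} [Field F] {ι : Type} [Fintype ι] [DecidableEq ι]
variable {Q : QuadraticForm F (ι → F)}

theorem omegaGL_polar {g : Matrix.GeneralLinearGroup ι F}
    (hg : g ∈ Cfsg.Geo.omegaGL ⇑Q) (v w : ι → F) :
    QuadraticMap.polar (⇑Q) ((g : Matrix ι ι F) *ᵥ v) ((g : Matrix ι ι F) *ᵥ w) =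
      QuadraticMap.polar (⇑Q) v w := by
  obtain ⟨h, rfl⟩ := exists_iso_of_mem_omegaGL hg
  exact iso_polar h v w

theorem refl_self (v : ι → F) (hv : Q v ≠ 0) :
    ((refl Q v hv : Matrix.GeneralLinearGroup ι F) : Matrix ι ι F) *ᵥ v = -v := by
  rw [refl_mulVec, polar_self]
  have : (Q v)⁻¹ * (2 * Q v) = 2 := by field_simp
  rw [this, two_smul]
  abel

/-- an element of `Ω` acting as `-1` on the plane spanned by two orthogonal vectors of the same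
non-zero norm and trivially on its orthogonal complement -/
theorem neg_plane (h2 : (2 : F) ≠ 0) (s₁ s₂ : ι → F) (d : F) (hd : d ≠ 0)
    (h1 : Q s₁ = d) (h2' : Q s₂ = d) (h12 : QuadraticMap.polar (⇑Q) s₁ s₂ = 0) :
    ∃ g : Matrix.GeneralLinearGroup ι F, g ∈ Cfsg.Geo.omegaGL ⇑Q ∧
      (g : Matrix ι ι F) *ᵥ s₁ = -s₁ ∧ (g : Matrix ι ι F) *ᵥ s₂ = -s₂ ∧
      ∀ w, QuadraticMap.polar (⇑Q) s₁ w = 0 → QuadraticMap.polar (⇑Q) s₂ w = 0 →
        (g : Matrix ι ι F) *ᵥ w = w := by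
  obtain ⟨hy, y1, y2, yw⟩ := refl_swap h2 s₁ s₂ d hd h1 h2' h12
  have hx : Q s₁ ≠ 0 := by rw [h1]; exact hd
  have x1 := refl_self s₁ hx
  have x2 := refl_fix s₁ hx s₂ h12
  refine ⟨((refl Q s₁ hx * refl Q (s₁ - s₂) hy * (refl Q s₁ hx)⁻¹ *
    (refl Q (s₁ - s₂) hy)⁻¹ : ↥(Cfsg.isometryGroup F ⇑Q)) : Matrix.GeneralLinearGroup ι F),
    comm_mem_omegaGL _ _, ?_, ?_, ?_⟩
  · rw [refl_inv, refl_inv, mul_mulVec, mul_mulVec, mul_mulVec, y1, x2, y2, x1]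
  · rw [refl_inv, refl_inv, mul_mulVec, mul_mulVec, mul_mulVec, y2, x1, Matrix.mulVec_neg, y1,
      Matrix.mulVec_neg, x2]
  · intro w hw1 hw2
    rw [refl_inv, refl_inv, mul_mulVec, mul_mulVec, mul_mulVec, yw w hw1 hw2,
      refl_fix s₁ hx w hw1, yw w hw1 hw2, refl_fix s₁ hx w hw1]

end Cfsg.Agent.H9Orth
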