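import Mathlib
import Cfsg.Prelude
import Cfsg.Agent.Lib.Helper9.OrthNM10
import Cfsg.Agent.Lib.Helper2.Siegel

set_option autoImplicit false

namespace Cfsg.Agent.H9Orth

open Matrix Cfsg.Agent.Lib.Helper2.ReflGen Cfsg.Agent.Lib.Helper2.CDG
  Cfsg.Agent.Lib.Helper2.Siegel

variable {F : Type*} [Field F] {ι : Type} [Fintype ι] [DecidableEq ι]
variable {Q : QuadraticForm F (ι → F)}

/-- a Siegel transformation (long root element) as an isometry -/
noncomputable def sieg (hQ : (QuadraticMap.polarBilin Q).Nondegenerate) (u v : ι → F)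
    (hu : Q u = 0) (hv : Q v = 0) (huv : QuadraticMap.polar (⇑Q) u v = 0) (c : F) :
    ↥(Cfsg.isometryGroup F ⇑Q) :=
  mkIso hQ (Cfsg.siegelMatrix ⇑Q u v c) (siegel_preserves u v hu hv huv c)

theorem sieg_mulVec (hQ : (QuadraticMap.polarBilin Q).Nondegenerate) (u v : ι → F)
    (hu : Q u = 0) (hv : Q v = 0) (huv : QuadraticMap.polar (⇑Q) u v = 0) (c : F) (x : ι → F) :
    ((sieg hQ u v hu hv huv c : Matrix.GeneralLinearGroup ι F) : Matrix ι ι F) *ᵥ x =
      x + c • (QuadraticMap.polar (⇑Q) u x • v - QuadraticMap.polar (⇑Q) v x • u) := by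
  unfold sieg
  rw [mkIso_coe, siegelMatrix_mulVec]

theorem sieg_mul_neg (hQ : (QuadraticMap.polarBilin Q).Nondegenerate) (u v : ι → F)
    (hu : Q u = 0) (hv : Q v = 0) (huv : QuadraticMap.polar (⇑Q) u v = 0) (c : F) :
    sieg hQ u v hu hv huv c * sieg hQ u v hu hv huv (-c) = 1 := by
  apply iso_ext
  intro x
  have huu : QuadraticMap.polar (⇑Q) u u = 0 := by rw [polar_self, hu, mul_zero]
  have hvv : QuadraticMap.polar (⇑Q) v v = 0 := by rw [polar_self, hv, mul_zero]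
  have hvu : QuadraticMap.polar (⇑Q) v u = 0 := by rw [QuadraticMap.polar_comm]; exact huv
  rw [mul_mulVec, one_mulVec', sieg_mulVec, sieg_mulVec]
  simp only [QuadraticMap.polar_add_right, QuadraticMap.polar_smul_right,
    QuadraticMap.polar_sub_right, huu, hvv, huv, hvu, smul_eq_mul, mul_zero, sub_zero, add_zero]
  rw [neg_smul]
  abel

theorem sieg_inv (hQ : (QuadraticMap.polarBilin Q).Nondegenerate) (u v : ι → F)
    (hu : Q u = 0) (hv : Q v = 0) (huv : QuadraticMap.polar (⇑Q) u v = 0) (c : F) :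
    (sieg hQ u v hu hv huv c)⁻¹ = sieg hQ u v hu hv huv (-c) :=
  inv_eq_of_mul_eq_one_right (sieg_mul_neg hQ u v hu hv huv c)

/-- long root elements are commutators, hence lie in `Ω` -/
theorem sieg_mem_omegaGL (hQ : (QuadraticMap.polarBilin Q).Nondegenerate) (u v e₃ f₃ : ι → F)
    (hu : Q u = 0) (hv : Q v = 0) (huv : QuadraticMap.polar (⇑Q) u v = 0)
    (he : Q e₃ = 0) (hf : Q f₃ = 0) (hef : QuadraticMap.polar (⇑Q) e₃ f₃ = 1)
    (hue : QuadraticMap.polar (⇑Q) u e₃ = 0) (huf : QuadraticMap.polar (⇑Q) u f₃ = 0)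
    (hve : QuadraticMap.polar (⇑Q) v e₃ = 0) (hvf : QuadraticMap.polar (⇑Q) v f₃ = 0) :
    ((sieg hQ u v hu hv huv (-1) : ↥(Cfsg.isometryGroup F ⇑Q)) :
      Matrix.GeneralLinearGroup ι F) ∈ Cfsg.Geo.omegaGL ⇑Q := by
  have hev : QuadraticMap.polar (⇑Q) e₃ v = 0 := by rw [QuadraticMap.polar_comm]; exact hve
  have hfu : QuadraticMap.polar (⇑Q) f₃ u = 0 := by rw [QuadraticMap.polar_comm]; exact huf
  have heu : QuadraticMap.polar (⇑Q) e₃ u = 0 := by rw [QuadraticMap.polar_comm]; exact hue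
  have hfv : QuadraticMap.polar (⇑Q) f₃ v = 0 := by rw [QuadraticMap.polar_comm]; exact hvf
  have hfe : QuadraticMap.polar (⇑Q) f₃ e₃ = 1 := by rw [QuadraticMap.polar_comm]; exact hef
  have hvu : QuadraticMap.polar (⇑Q) v u = 0 := by rw [QuadraticMap.polar_comm]; exact huv
  have huu : QuadraticMap.polar (⇑Q) u u = 0 := by rw [polar_self, hu, mul_zero]
  have hvv : QuadraticMap.polar (⇑Q) v v = 0 := by rw [polar_self, hv, mul_zero]
  have hee : QuadraticMap.polar (⇑Q) e₃ e₃ = 0 := by rw [polar_self, he, mul_zero]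
  have hff : QuadraticMap.polar (⇑Q) f₃ f₃ = 0 := by rw [polar_self, hf, mul_zero]
  have key : sieg hQ u f₃ hu hf huf 1 * sieg hQ e₃ v he hv hev 1 *
      (sieg hQ u f₃ hu hf huf 1)⁻¹ * (sieg hQ e₃ v he hv hev 1)⁻¹ =
      sieg hQ u v hu hv huv (-1) := by
    apply iso_ext
    intro x
    rw [sieg_inv, sieg_inv, mul_mulVec, mul_mulVec, mul_mulVec, sieg_mulVec, sieg_mulVec,
      sieg_mulVec, sieg_mulVec, sieg_mulVec]
    simp only [QuadraticMap.polar_add_right, QuadraticMap.polar_smul_right,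
      QuadraticMap.polar_sub_right, QuadraticMap.polar_neg_right,
      huu, hvv, hee, hff, huv, hvu, hue, heu, huf, hfu, hve, hev,
      hvf, hfv, hef, hfe, smul_eq_mul, mul_zero, mul_one, sub_zero, add_zero, zero_sub, zero_add,
      neg_mul, one_mul, neg_neg, one_smul, neg_smul, neg_zero, sub_neg_eq_add]
    module
  rw [← key]
  exact comm_mem_omegaGL _ _

end Cfsg.Agent.H9Orth
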