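import Mathlib
import Cfsg.Prelude
import Cfsg.Agent.Lib.Helper9.OrthDk1
import Cfsg.Agent.Lib.Helper2.Dickson4
import Cfsg.Agent.Lib.Helper5.AltForm

set_option autoImplicit false

namespace Cfsg.Agent.H9Orth

open Matrix Cfsg.Agent.Lib.Helper2.ReflGen Cfsg.Agent.Lib.Helper2.CDG
  Cfsg.Agent.Lib.Helper2

variable {F : Type*} [Field F] {ι : Type} [Fintype ι] [DecidableEq ι]
variable {Q : QuadraticForm F (ι → F)}

/-- the isometry group of a non-degenerate form over a finite field is generated by reflections -/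
theorem closure_R_eq_top' [Fintype F] (hQ : (QuadraticMap.polarBilin Q).Nondegenerate)
    (hcard : 5 ≤ Fintype.card ι) : Subgroup.closure (R Q) = ⊤ := by
  by_cases h2 : (2 : F) = 0
  · exact OrthTwo.closure_R_eq_top₂ h2 hQ (Or.inr (by omega)) (by omega)
  · exact closure_R_eq_top h2 hQ

/-- elements of `Ω` have trivial Dickson invariant -/
theorem dfun_eq_zero_of_mem_commutator [Fintype F]
    (hQ : (QuadraticMap.polarBilin Q).Nondegenerate) (hcard : 5 ≤ Fintype.card ι)
    (g : ↥(Cfsg.isometryGroup F ⇑Q)) (hg : g ∈ commutator ↥(Cfsg.isometryGroup F ⇑Q)) :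
    Dickson.dfun g = 0 := by
  have hgen := closure_R_eq_top' hQ hcard
  have h1 := Abelianization.commutator_subset_ker (Dickson.dickson hQ hgen) hg
  rw [MonoidHom.mem_ker] at h1
  have h2 : Multiplicative.ofAdd (Dickson.dfun g) = 1 := h1
  exact Multiplicative.ofAdd.injective h2

/-- the polar form vanishes on a totally singular subspace -/
theorem polar_eq_zero_of_ts (D : Submodule F (ι → F)) (hD : ∀ w ∈ D, Q w = 0) {x y : ι → F}
    (hx : x ∈ D) (hy : y ∈ D) : QuadraticMap.polar (⇑Q) x y = 0 := by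
  unfold QuadraticMap.polar
  rw [hD _ (D.add_mem hx hy), hD x hx, hD y hy]; ring

/-- an isometry interchanging two complementary totally singular subspaces of odd dimension has
non-trivial Dickson invariant -/
theorem dfun_swap [Fintype F] (hQ : (QuadraticMap.polarBilin Q).Nondegenerate)
    (D0 D1 : Submodule F (ι → F)) (h0 : ∀ w ∈ D0, Q w = 0) (h1 : ∀ w ∈ D1, Q w = 0)
    (hdisj : D0 ⊓ D1 = ⊥) (hsup : D0 ⊔ D1 = ⊤) (hk : Odd (Module.finrank F D0))
    (hk' : Module.finrank F D1 = Module.finrank F D0)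
    (g : ↥(Cfsg.isometryGroup F ⇑Q))
    (h01 : ∀ u ∈ D0, ((g : Matrix.GeneralLinearGroup ι F) : Matrix ι ι F) *ᵥ u ∈ D1)
    (h10 : ∀ w ∈ D1, ((g : Matrix.GeneralLinearGroup ι F) : Matrix ι ι F) *ᵥ w ∈ D0) :
    Dickson.dfun g = 1 := by
  set M : Matrix ι ι F := ((g : Matrix.GeneralLinearGroup ι F) : Matrix ι ι F) with hM
  set G : (ι → F) →ₗ[F] (ι → F) := Matrix.toLin' M with hG
  have hGa : ∀ x, G x = M *ᵥ x := fun x => Matrix.toLin'_apply M x
  have hcompl : IsCompl D0 D1 := ⟨disjoint_iff.2 hdisj, codisjoint_iff.2 hsup⟩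
  have hpol : ∀ x y, QuadraticMap.polar (⇑Q) (G x) (G y) = QuadraticMap.polar (⇑Q) x y := by
    intro x y; rw [hGa, hGa]; exact iso_polar g x y
  have hGinj : Function.Injective G := by
    intro x y hxy
    rw [hGa, hGa] at hxy
    have key : ∀ z, (((g⁻¹ : ↥(Cfsg.isometryGroup F ⇑Q)) :
        Matrix.GeneralLinearGroup ι F) : Matrix ι ι F) *ᵥ (M *ᵥ z) = z := by
      intro z
      rw [hM, ← mul_mulVec, inv_mul_cancel, one_mulVec']
    rw [← key x, hxy, key y]
  -- surjectivity of G : D0 → D1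
  have hsurj : ∀ y ∈ D1, ∃ b ∈ D0, G b = y := by
    intro y hy
    set x := (((g⁻¹ : ↥(Cfsg.isometryGroup F ⇑Q)) : Matrix.GeneralLinearGroup ι F) :
      Matrix ι ι F) *ᵥ y with hx
    have hGx : G x = y := by
      rw [hGa, hx, ← mul_mulVec, mul_inv_cancel, one_mulVec']
    have hxs : x ∈ D0 ⊔ D1 := by rw [hsup]; trivial
    obtain ⟨x0, hx0, x1, hx1, hxx⟩ := Submodule.mem_sup.1 hxs
    have h3 : G x1 ∈ D0 ⊓ D1 := by
      refine ⟨by rw [hGa]; exact h10 x1 hx1, ?_⟩
      have : G x1 = y - G x0 := by rw [← hGx, ← hxx, map_add]; abel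
      rw [this]
      exact D1.sub_mem hy (by rw [hGa]; exact h01 x0 hx0)
    rw [hdisj, Submodule.mem_bot] at h3
    have hx10 : x1 = 0 := hGinj (by rw [h3, map_zero])
    refine ⟨x0, hx0, ?_⟩
    rw [← hGx, ← hxx, hx10, add_zero]
  -- the alternating form
  set B := QuadraticMap.polarBilin Q with hB
  have hBa : ∀ x y, B x y = QuadraticMap.polar (⇑Q) x y := fun x y => rfl
  set B₁ : LinearMap.BilinForm F D0 := B.compl₁₂ (G ∘ₗ D0.subtype) D0.subtype with hB₁
  set γ : LinearMap.BilinForm F D0 := B₁ - B₁.flip with hγ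
  have hγa : ∀ a b : D0, γ a b = QuadraticMap.polar (⇑Q) (G a) b -
      QuadraticMap.polar (⇑Q) (G b) a := by
    intro a b
    rfl
  have halt : γ.IsAlt := by
    intro a
    rw [hγa, sub_self]
  -- the kernel of γ
  have hker : ∀ a : D0, a ∈ LinearMap.ker γ ↔ G (G a) = a := by
    intro a
    constructor
    · intro ha
      have hz : ∀ y, B (G (G a) - a) y = 0 := by
        intro y
        have hys : y ∈ D0 ⊔ D1 := by rw [hsup]; trivial
        obtain ⟨y0, hy0, y1, hy1, rfl⟩ := Submodule.mem_sup.1 hys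
        have hzD : G (G a) - a ∈ D0 := by
          refine D0.sub_mem ?_ a.2
          rw [hGa]; apply h10; rw [hGa]; exact h01 a a.2
        rw [map_add, hBa, hBa, polar_eq_zero_of_ts D0 h0 hzD hy0, zero_add]
        obtain ⟨b, hb, rfl⟩ := hsurj y1 hy1
        rw [QuadraticMap.polar_sub_left, hpol]
        have := LinearMap.mem_ker.1 ha
        have h4 : γ a ⟨b, hb⟩ = 0 := by rw [this]; rfl
        rw [hγa] at h4
        rw [QuadraticMap.polar_comm (⇑Q) (a : ι → F) (G b)]
        exact h4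
      have := hQ.1 _ hz
      exact sub_eq_zero.1 this
    · intro ha
      rw [LinearMap.mem_ker]
      ext b
      rw [hγa, LinearMap.zero_apply]
      have : QuadraticMap.polar (⇑Q) (G b) a = QuadraticMap.polar (⇑Q) (G b) (G (G a)) := by
        rw [ha]
      rw [this, hpol, QuadraticMap.polar_comm, sub_self]
  -- the linear equivalence between the kernel and the fixed space
  have hfix : ∀ a : D0, a ∈ LinearMap.ker γ → (a : ι → F) + G a ∈ Dickson.Fix g := by
    intro a ha
    rw [Dickson.mem_Fix]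
    show M *ᵥ ((a : ι → F) + G a) = _
    rw [Matrix.mulVec_add, ← hGa, ← hGa, (hker a).1 ha, add_comm]
  let φ : ↥(LinearMap.ker γ) →ₗ[F] ↥(Dickson.Fix g) :=
    LinearMap.codRestrict (Dickson.Fix g)
      ((D0.subtype + G ∘ₗ D0.subtype) ∘ₗ (LinearMap.ker γ).subtype)
      (fun a => hfix a.1 a.2)
  have hφa : ∀ a : ↥(LinearMap.ker γ), ((φ a : ↥(Dickson.Fix g)) : ι → F) =
      ((a : D0) : ι → F) + G ((a : D0) : ι → F) := fun a => rfl
  have hφinj : Function.Injective φ := by
    intro a b hab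
    have h2 : ((a : D0) : ι → F) + G ((a : D0) : ι → F) =
        ((b : D0) : ι → F) + G ((b : D0) : ι → F) := by
      rw [← hφa, ← hφa, hab]
    have h3 : ((a : D0) : ι → F) - ((b : D0) : ι → F) ∈ D0 ⊓ D1 := by
      refine ⟨D0.sub_mem a.1.2 b.1.2, ?_⟩
      have : ((a : D0) : ι → F) - ((b : D0) : ι → F) =
          G ((b : D0) : ι → F) - G ((a : D0) : ι → F) := by
        rw [sub_eq_sub_iff_add_eq_add, add_comm (G _) _, h2, add_comm]
      rw [this]
      exact D1.sub_mem (by rw [hGa]; exact h01 _ b.1.2) (by rw [hGa]; exact h01 _ a.1.2)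
    rw [hdisj, Submodule.mem_bot] at h3
    apply Subtype.ext
    apply Subtype.ext
    exact sub_eq_zero.1 h3
  have hφsurj : Function.Surjective φ := by
    intro x
    have hx : M *ᵥ (x : ι → F) = x := (Dickson.mem_Fix g x).1 x.2
    have hxs : (x : ι → F) ∈ D0 ⊔ D1 := by rw [hsup]; trivial
    obtain ⟨a, ha, b, hb, hab⟩ := Submodule.mem_sup.1 hxs
    have h3 : G a - b ∈ D0 ⊓ D1 := by
      refine ⟨?_, D1.sub_mem (by rw [hGa]; exact h01 a ha) hb⟩
      have : G a - b = a - G b := by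
        rw [sub_eq_sub_iff_add_eq_add]
        have h4 : G (a + b) = a + b := by rw [hab, hGa]; exact hx
        rw [map_add] at h4
        rw [h4, add_comm]
      rw [this]
      exact D0.sub_mem ha (by rw [hGa]; exact h10 b hb)
    rw [hdisj, Submodule.mem_bot] at h3
    have hb' : b = G a := (sub_eq_zero.1 h3).symm
    have hGG : G (G a) = a := by
      have h4 : G (a + b) = a + b := by rw [hab, hGa]; exact hx
      rw [map_add, hb'] at h4
      have : G a + G (G a) = G a + a := by rw [h4, add_comm]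
      exact add_left_cancel this
    refine ⟨⟨⟨a, ha⟩, (hker ⟨a, ha⟩).2 hGG⟩, ?_⟩
    apply Subtype.ext
    rw [hφa]
    show a + G a = x
    rw [← hb', hab]
  have hequiv : Module.finrank F ↥(LinearMap.ker γ) = Module.finrank F ↥(Dickson.Fix g) :=
    LinearEquiv.finrank_eq (LinearEquiv.ofBijective φ ⟨hφinj, hφsurj⟩)
  have heven := Cfsg.Agent.Lib.Helper5.AltForm.even_finrank_sub_ker halt
  have hle : Module.finrank F ↥(LinearMap.ker γ) ≤ Module.finrank F D0 :=
    Submodule.finrank_le _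
  have hodd : Odd (Module.finrank F ↥(Dickson.Fix g)) := by
    rw [← hequiv]
    obtain ⟨r, hr⟩ := heven
    obtain ⟨s, hs⟩ := hk
    exact ⟨s - r, by omega⟩
  have hcard : Even (Fintype.card ι) := by
    have := Submodule.finrank_add_eq_of_isCompl hcompl
    rw [Module.finrank_fintype_fun_eq_card, hk'] at this
    exact ⟨Module.finrank F D0, this.symm⟩
  unfold Dickson.dfun
  rw [(ZMod.natCast_eq_one_iff_odd).2 hodd, (ZMod.natCast_eq_zero_iff_even).2 hcard, add_zero]

end Cfsg.Agent.H9Orth
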