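import Mathlib
import Cfsg.Prelude
import Cfsg.Agent.Lib.Helper9.OrthDk2

set_option autoImplicit false

namespace Cfsg.Agent.H9Orth

open Matrix Cfsg.Agent.Lib.Helper2.ReflGen Cfsg.Agent.Lib.Helper2.CDG
  Cfsg.Agent.Lib.Helper2

variable {F : Type*} [Field F] {ι : Type} [Fintype ι] [DecidableEq ι]
variable {Q : QuadraticForm F (ι → F)}

theorem mem_subspaceStabilizer_of_map_eq (W : Submodule F (ι → F))
    (g : Matrix.GeneralLinearGroup ι F)
    (h : W.map (Matrix.toLin' (g : Matrix ι ι F)) = W) :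
    g ∈ Cfsg.Geo.subspaceStabilizer W := by
  intro v
  constructor
  · intro hv
    show (g : Matrix ι ι F) *ᵥ v ∈ W
    rw [← h]
    exact ⟨v, hv, Matrix.toLin'_apply _ _⟩
  · intro hv
    have hv' : (g : Matrix ι ι F) *ᵥ v ∈ W := hv
    rw [← h] at hv'
    obtain ⟨v', hv'W, hv'v⟩ := hv'
    rw [Matrix.toLin'_apply] at hv'v
    have h2 := congrArg (fun z => ((g⁻¹ : Matrix.GeneralLinearGroup ι F) : Matrix ι ι F) *ᵥ z) hv'v
    simp only [Matrix.mulVec_mulVec, ← Matrix.GeneralLinearGroup.coe_mul, inv_mul_cancel] at h2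
    have h3 : v' = v := by simpa using h2
    rw [← h3]; exact hv'W

theorem mem_subspaceStabilizer_of_fix (W : Submodule F (ι → F))
    (g : Matrix.GeneralLinearGroup ι F) (h : ∀ x ∈ W, (g : Matrix ι ι F) *ᵥ x = x) :
    g ∈ Cfsg.Geo.subspaceStabilizer W := by
  apply mem_subspaceStabilizer_of_map_eq
  ext x
  constructor
  · rintro ⟨y, hy, rfl⟩
    rw [Matrix.toLin'_apply, h y hy]; exact hy
  · intro hx
    exact ⟨x, hx, by rw [Matrix.toLin'_apply, h x hx]⟩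

/-- a long root element of `Ω` fixing `D0` pointwise and moving `D1` -/
theorem siegel_move (hQ : (QuadraticMap.polarBilin Q).Nondegenerate)
    (D0 D1 : Submodule F (ι → F)) (h0 : ∀ w ∈ D0, Q w = 0) (h1 : ∀ w ∈ D1, Q w = 0)
    (hdisj : D0 ⊓ D1 = ⊥) (hsup : D0 ⊔ D1 = ⊤) (hk : 3 ≤ Module.finrank F D0) :
    ∃ g : Matrix.GeneralLinearGroup ι F, g ∈ Cfsg.Geo.omegaGL ⇑Q ∧
      (∀ x ∈ D0, (g : Matrix ι ι F) *ᵥ x = x) ∧ ∃ w ∈ D1, (g : Matrix ι ι F) *ᵥ w ∉ D1 := by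
  -- a vector of D0 not orthogonal to a given non-zero vector of D1, and conversely
  have hpair0 : ∀ x ∈ D1, x ≠ 0 → ∃ y ∈ D0, QuadraticMap.polar (⇑Q) x y ≠ 0 := by
    intro x hx hx0
    have : ∃ y, QuadraticMap.polar (⇑Q) x y ≠ 0 := by
      by_contra hcon
      push Not at hcon
      exact hx0 (hQ.1 x hcon)
    obtain ⟨y, hy⟩ := this
    have hys : y ∈ D0 ⊔ D1 := by rw [hsup]; trivial
    obtain ⟨y0, hy0, y1, hy1, rfl⟩ := Submodule.mem_sup.1 hys
    refine ⟨y0, hy0, ?_⟩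
    rw [QuadraticMap.polar_add_right, polar_eq_zero_of_ts D1 h1 hx hy1, add_zero] at hy
    exact hy
  have hpair1 : ∀ x ∈ D0, x ≠ 0 → ∃ y ∈ D1, QuadraticMap.polar (⇑Q) x y ≠ 0 := by
    intro x hx hx0
    have : ∃ y, QuadraticMap.polar (⇑Q) x y ≠ 0 := by
      by_contra hcon
      push Not at hcon
      exact hx0 (hQ.1 x hcon)
    obtain ⟨y, hy⟩ := this
    have hys : y ∈ D0 ⊔ D1 := by rw [hsup]; trivial
    obtain ⟨y0, hy0, y1, hy1, rfl⟩ := Submodule.mem_sup.1 hys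
    refine ⟨y1, hy1, ?_⟩
    rw [QuadraticMap.polar_add_right, polar_eq_zero_of_ts D0 h0 hx hy0, zero_add] at hy
    exact hy
  -- D1 is not zero
  have hD0ne : D0 ≠ ⊥ := by
    intro h
    rw [h, finrank_bot] at hk
    omega
  obtain ⟨a₀, ha₀, ha₀0⟩ := Submodule.exists_mem_ne_zero_of_ne_bot hD0ne
  obtain ⟨f₃, hf₃, hf₃a⟩ := hpair1 a₀ ha₀ ha₀0
  have hf₃0 : f₃ ≠ 0 := by
    rintro rfl
    rw [QuadraticMap.polar_zero_right] at hf₃a
    exact hf₃a rfl
  -- e₃ ∈ D0 with B(e₃, f₃) = 1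
  obtain ⟨y, hy, hyf⟩ := hpair0 f₃ hf₃ hf₃0
  set e₃ := (QuadraticMap.polar (⇑Q) f₃ y)⁻¹ • y with he₃
  have he₃D : e₃ ∈ D0 := D0.smul_mem _ hy
  have hef : QuadraticMap.polar (⇑Q) e₃ f₃ = 1 := by
    rw [QuadraticMap.polar_comm, he₃, QuadraticMap.polar_smul_right, smul_eq_mul,
      inv_mul_cancel₀ hyf]
  -- the functional B(f₃, ·) on D0 and its kernel
  set ℓ : D0 →ₗ[F] F := (QuadraticMap.polarBilin Q f₃) ∘ₗ D0.subtype with hℓ
  have hℓa : ∀ a : D0, ℓ a = QuadraticMap.polar (⇑Q) f₃ (a : ι → F) := fun a => rfl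
  have hkd : 2 ≤ Module.finrank F (LinearMap.ker ℓ) := by
    have h3 := LinearMap.finrank_range_add_finrank_ker ℓ
    have h4 : Module.finrank F (LinearMap.range ℓ) ≤ 1 := by
      have := Submodule.finrank_le (LinearMap.range ℓ)
      rwa [Module.finrank_self] at this
    omega
  have hkne : (LinearMap.ker ℓ) ≠ ⊥ := by
    intro h
    rw [h, finrank_bot] at hkd
    omega
  obtain ⟨u', hu', hu'0⟩ := Submodule.exists_mem_ne_zero_of_ne_bot hkne
  have hu'0' : (⟨u', hu'⟩ : LinearMap.ker ℓ) ≠ 0 := fun h => hu'0 (congrArg Subtype.val h)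
  obtain ⟨v', hli⟩ := exists_linearIndependent_pair_of_one_lt_finrank (R := F)
    (M := ↥(LinearMap.ker ℓ)) (by omega) hu'0'
  set u : ι → F := ((u' : D0) : ι → F) with hu
  set v : ι → F := (((v' : LinearMap.ker ℓ) : D0) : ι → F) with hv
  have huD : u ∈ D0 := u'.2
  have hvD : v ∈ D0 := v'.1.2
  have hfu : QuadraticMap.polar (⇑Q) f₃ u = 0 := by
    have := LinearMap.mem_ker.1 hu'
    rwa [hℓa] at this
  have hfv : QuadraticMap.polar (⇑Q) f₃ v = 0 := by
    have := LinearMap.mem_ker.1 v'.2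
    rwa [hℓa] at this
  have hindep : ∀ s t : F, s • u + t • v = 0 → s = 0 ∧ t = 0 := by
    intro s t hst
    have h5 := LinearIndependent.pair_iff.1 hli s t (by
      apply Subtype.ext
      apply Subtype.ext
      exact hst)
    exact h5
  have hQu : Q u = 0 := h0 u huD
  have hQv : Q v = 0 := h0 v hvD
  have huv : QuadraticMap.polar (⇑Q) u v = 0 := polar_eq_zero_of_ts D0 h0 huD hvD
  have hmem := sieg_mem_omegaGL hQ u v e₃ f₃ hQu hQv huv (h0 e₃ he₃D) (h1 f₃ hf₃) hef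
    (polar_eq_zero_of_ts D0 h0 huD he₃D) (by rw [QuadraticMap.polar_comm]; exact hfu)
    (polar_eq_zero_of_ts D0 h0 hvD he₃D) (by rw [QuadraticMap.polar_comm]; exact hfv)
  refine ⟨_, hmem, ?_, ?_⟩
  · intro x hx
    rw [sieg_mulVec, polar_eq_zero_of_ts D0 h0 huD hx, polar_eq_zero_of_ts D0 h0 hvD hx]
    simp
  · have hu0 : u ≠ 0 := by
      intro h
      have := (hindep 1 0 (by rw [h]; simp)).1
      exact one_ne_zero this
    obtain ⟨w, hw, huw⟩ := hpair1 u huD hu0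
    refine ⟨w, hw, ?_⟩
    intro hgw
    rw [sieg_mulVec] at hgw
    have h6 : QuadraticMap.polar (⇑Q) u w • v - QuadraticMap.polar (⇑Q) v w • u ∈ D0 ⊓ D1 := by
      refine ⟨D0.sub_mem (D0.smul_mem _ hvD) (D0.smul_mem _ huD), ?_⟩
      have h7 := D1.sub_mem hw hgw
      have : w - (w + (-1 : F) • (QuadraticMap.polar (⇑Q) u w • v -
          QuadraticMap.polar (⇑Q) v w • u)) =
          QuadraticMap.polar (⇑Q) u w • v - QuadraticMap.polar (⇑Q) v w • u := by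
        rw [neg_one_smul]; abel
      rwa [this] at h7
    rw [hdisj, Submodule.mem_bot] at h6
    have h8 := (hindep (-QuadraticMap.polar (⇑Q) v w) (QuadraticMap.polar (⇑Q) u w) (by
      rw [neg_smul, ← h6]; abel)).2
    exact huw h8

end Cfsg.Agent.H9Orth
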