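import Mathlib
import Cfsg.Prelude
import Cfsg.Agent.Lib.Helper9.OrthDk1

set_option autoImplicit false

/-! Eichler (Siegel) transformations `E_{u,v}` of a quadratic space, for a singular vector `u` and
an arbitrary vector `v` orthogonal to `u`:
`x ↦ x + B(u,x) v - B(v,x) u - Q(v) B(u,x) u`. -/

namespace Cfsg.Agent.H9Orth

open Matrix Cfsg.Agent.Lib.Helper2.ReflGen Cfsg.Agent.Lib.Helper2.CDG
  Cfsg.Agent.Lib.Helper2.Siegel

variable {F : Type*} [Field F] {ι : Type} [Fintype ι] [DecidableEq ι]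
variable {Q : QuadraticForm F (ι → F)}

/-- the matrix of the Eichler transformation -/
def eichMat (Q : QuadraticForm F (ι → F)) (u v : ι → F) : Matrix ι ι F :=
  1 + Matrix.vecMulVec v (Cfsg.polarVec (⇑Q) u) - Matrix.vecMulVec u (Cfsg.polarVec (⇑Q) v)
    - Q v • Matrix.vecMulVec u (Cfsg.polarVec (⇑Q) u)

theorem eichMat_mulVec (u v x : ι → F) :
    eichMat Q u v *ᵥ x = x + QuadraticMap.polar (⇑Q) u x • v - QuadraticMap.polar (⇑Q) v x • u
      - (Q v * QuadraticMap.polar (⇑Q) u x) • u := by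
  unfold eichMat
  rw [Matrix.sub_mulVec, Matrix.sub_mulVec, Matrix.add_mulVec, Matrix.one_mulVec,
    Matrix.smul_mulVec, vecMulVec_polarVec_mulVec, vecMulVec_polarVec_mulVec,
    vecMulVec_polarVec_mulVec, smul_smul]

theorem eichMat_preserves (u v : ι → F) (hu : Q u = 0)
    (huv : QuadraticMap.polar (⇑Q) u v = 0) (x : ι → F) :
    Q (eichMat Q u v *ᵥ x) = Q x := by
  rw [eichMat_mulVec]
  have hvu : QuadraticMap.polar (⇑Q) v u = 0 := by rw [QuadraticMap.polar_comm]; exact huv
  have e : x + QuadraticMap.polar (⇑Q) u x • v - QuadraticMap.polar (⇑Q) v x • u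
      - (Q v * QuadraticMap.polar (⇑Q) u x) • u =
      (x + QuadraticMap.polar (⇑Q) u x • v) +
        (-(QuadraticMap.polar (⇑Q) v x + Q v * QuadraticMap.polar (⇑Q) u x)) • u := by
    module
  rw [e, map_add_smul, map_add_smul, hu, QuadraticMap.polar_add_left,
    QuadraticMap.polar_smul_left, hvu, QuadraticMap.polar_comm (⇑Q) x u,
    QuadraticMap.polar_comm (⇑Q) x v]
  simp only [smul_eq_mul]
  ring

/-- the Eichler transformation as an isometry -/
noncomputable def eich (hQ : (QuadraticMap.polarBilin Q).Nondegenerate) (u v : ι → F)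
    (hu : Q u = 0) (huv : QuadraticMap.polar (⇑Q) u v = 0) : ↥(Cfsg.isometryGroup F ⇑Q) :=
  mkIso hQ (eichMat Q u v) (eichMat_preserves u v hu huv)

theorem eich_mulVec (hQ : (QuadraticMap.polarBilin Q).Nondegenerate) (u v : ι → F)
    (hu : Q u = 0) (huv : QuadraticMap.polar (⇑Q) u v = 0) (x : ι → F) :
    ((eich hQ u v hu huv : Matrix.GeneralLinearGroup ι F) : Matrix ι ι F) *ᵥ x =
      x + QuadraticMap.polar (⇑Q) u x • v - QuadraticMap.polar (⇑Q) v x • u
      - (Q v * QuadraticMap.polar (⇑Q) u x) • u := by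
  unfold eich
  rw [mkIso_coe, eichMat_mulVec]

theorem eich_congr (hQ : (QuadraticMap.polarBilin Q).Nondegenerate) {u v u' v' : ι → F}
    (h1 : u = u') (h2 : v = v') (hu : Q u = 0) (huv : QuadraticMap.polar (⇑Q) u v = 0)
    (hu' : Q u' = 0) (huv' : QuadraticMap.polar (⇑Q) u' v' = 0) :
    eich hQ u v hu huv = eich hQ u' v' hu' huv' := by
  subst h1; subst h2; rfl

/-- additivity in the second argument -/
theorem eich_mul (hQ : (QuadraticMap.polarBilin Q).Nondegenerate) (u v v' : ι → F)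
    (hu : Q u = 0) (huv : QuadraticMap.polar (⇑Q) u v = 0)
    (huv' : QuadraticMap.polar (⇑Q) u v' = 0) :
    eich hQ u v hu huv * eich hQ u v' hu huv' =
      eich hQ u (v + v') hu (by rw [QuadraticMap.polar_add_right, huv, huv', add_zero]) := by
  apply iso_ext
  intro x
  have huu : QuadraticMap.polar (⇑Q) u u = 0 := by rw [polar_self, hu, mul_zero]
  have hvu : QuadraticMap.polar (⇑Q) v u = 0 := by rw [QuadraticMap.polar_comm]; exact huv
  have hv'u : QuadraticMap.polar (⇑Q) v' u = 0 := by rw [QuadraticMap.polar_comm]; exact huv'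
  rw [mul_mulVec, eich_mulVec, eich_mulVec, eich_mulVec, QuadraticMap.map_add Q v v']
  simp only [QuadraticMap.polar_add_right, QuadraticMap.polar_smul_right,
    QuadraticMap.polar_sub_right, QuadraticMap.polar_add_left, huu, huv, huv', hvu, hv'u,
    smul_eq_mul, mul_zero, sub_zero, add_zero]
  module

theorem eich_zero (hQ : (QuadraticMap.polarBilin Q).Nondegenerate) (u : ι → F)
    (hu : Q u = 0) :
    eich hQ u 0 hu (by simp [QuadraticMap.polar]) = 1 := by
  apply iso_ext
  intro x
  rw [eich_mulVec, one_mulVec']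
  simp [QuadraticMap.polar]

theorem eich_inv (hQ : (QuadraticMap.polarBilin Q).Nondegenerate) (u v : ι → F)
    (hu : Q u = 0) (huv : QuadraticMap.polar (⇑Q) u v = 0) :
    (eich hQ u v hu huv)⁻¹ =
      eich hQ u (-v) hu (by rw [QuadraticMap.polar_neg_right, huv, neg_zero]) := by
  apply inv_eq_of_mul_eq_one_right
  rw [eich_mul]
  rw [← eich_zero hQ u hu]
  exact eich_congr hQ rfl (by simp) _ _ _ _

/-- rescaling the singular vector -/
theorem eich_smul (hQ : (QuadraticMap.polarBilin Q).Nondegenerate) (c : F) (u v : ι → F)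
    (hu : Q u = 0) (huv : QuadraticMap.polar (⇑Q) u v = 0) :
    eich hQ (c • u) v (by rw [QuadraticMap.map_smul, hu, smul_zero])
      (by rw [QuadraticMap.polar_smul_left, huv, smul_zero]) =
    eich hQ u (c • v) hu (by rw [QuadraticMap.polar_smul_right, huv, smul_zero]) := by
  apply iso_ext
  intro x
  rw [eich_mulVec, eich_mulVec, QuadraticMap.map_smul]
  simp only [QuadraticMap.polar_smul_left, smul_eq_mul]
  module

/-- Eichler transformations with singular second vector are long root elements -/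
theorem eich_eq_sieg (hQ : (QuadraticMap.polarBilin Q).Nondegenerate) (u v : ι → F)
    (hu : Q u = 0) (hv : Q v = 0) (huv : QuadraticMap.polar (⇑Q) u v = 0) :
    eich hQ u v hu huv = sieg hQ u v hu hv huv 1 := by
  apply iso_ext
  intro x
  rw [eich_mulVec, sieg_mulVec, hv]
  module

/-- conjugation of Eichler transformations -/
theorem conj_eich (hQ : (QuadraticMap.polarBilin Q).Nondegenerate)
    (g : ↥(Cfsg.isometryGroup F ⇑Q)) (u v : ι → F)
    (hu : Q u = 0) (huv : QuadraticMap.polar (⇑Q) u v = 0) :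
    g * eich hQ u v hu huv * g⁻¹ =
      eich hQ (((g : Matrix.GeneralLinearGroup ι F) : Matrix ι ι F) *ᵥ u)
        (((g : Matrix.GeneralLinearGroup ι F) : Matrix ι ι F) *ᵥ v)
        (by rw [iso_Q]; exact hu) (by rw [iso_polar]; exact huv) := by
  apply iso_ext
  intro x
  have h1 : ∀ w : ι → F, QuadraticMap.polar (⇑Q) w
      (((g⁻¹ : ↥(Cfsg.isometryGroup F ⇑Q)) : Matrix.GeneralLinearGroup ι F).1 *ᵥ x) =
      QuadraticMap.polar (⇑Q) (((g : Matrix.GeneralLinearGroup ι F) : Matrix ι ι F) *ᵥ w) x := by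
    intro w
    have h := iso_polar g w
      (((g⁻¹ : ↥(Cfsg.isometryGroup F ⇑Q)) : Matrix.GeneralLinearGroup ι F).1 *ᵥ x)
    rw [← mul_mulVec, mul_inv_cancel, one_mulVec'] at h
    exact h.symm
  rw [mul_mulVec, mul_mulVec, eich_mulVec, eich_mulVec, Matrix.mulVec_sub, Matrix.mulVec_sub,
    Matrix.mulVec_add, Matrix.mulVec_smul, Matrix.mulVec_smul, Matrix.mulVec_smul,
    ← mul_mulVec, mul_inv_cancel, one_mulVec', h1, h1, iso_Q]

end Cfsg.Agent.H9Orth
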