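import Mathlib
import Cfsg.Prelude
import Cfsg.Agent.Lib.Helper9.OrthMax1
import Cfsg.Agent.Lib.Helper5.QuadFin
import Cfsg.Agent.Lib.Helper2.LongRoot9

set_option autoImplicit false

/-! Hyperbolic pairs orthogonal to a small subspace; Eichler transformations lie in `Ω`. -/

namespace Cfsg.Agent.H9Orth

open Matrix Module Cfsg.Agent.Lib.Helper2.ReflGen Cfsg.Agent.Lib.Helper2.CDG
  Cfsg.Agent.Lib.Helper2.Siegel Cfsg.Agent.Lib.Helper2.LongRoot

variable {F : Type*} [Field F] {ι : Type} [Fintype ι] [DecidableEq ι]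
variable {Q : QuadraticForm F (ι → F)}

/-- a hyperbolic pair orthogonal to a subspace of small dimension -/
theorem exists_hyp_perp [Finite F] (hQ : (QuadraticMap.polarBilin Q).Nondegenerate)
    (X : Submodule F (ι → F)) (hdim : 2 * finrank F X + 3 ≤ Fintype.card ι) :
    ∃ p q : ι → F, Q p = 0 ∧ Q q = 0 ∧ QuadraticMap.polar (⇑Q) p q = 1 ∧
      ∀ x ∈ X, QuadraticMap.polar (⇑Q) x p = 0 ∧ QuadraticMap.polar (⇑Q) x q = 0 := by
  classical
  have hrefl : (QuadraticMap.polarBilin Q).IsRefl := Cfsg.Agent.Lib.Helper5.polarBilin_isRefl Q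
  set O := LinearMap.BilinForm.orthogonal (QuadraticMap.polarBilin Q) X with hO
  have hn : finrank F (ι → F) = Fintype.card ι := Module.finrank_fintype_fun_eq_card F
  have hOdim : finrank F O = Fintype.card ι - finrank F X := by
    rw [hO, LinearMap.BilinForm.finrank_orthogonal hQ, hn]
  have hXle : finrank F X ≤ Fintype.card ι := by
    rw [← hn]; exact Submodule.finrank_le X
  obtain ⟨C', hC'⟩ := Submodule.exists_isCompl (O ⊓ X)
  have hC'dim : finrank F ↥(O ⊓ X) + finrank F C' = Fintype.card ι := by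
    rw [Submodule.finrank_add_eq_of_isCompl hC', hn]
  have hrle : finrank F ↥(O ⊓ X) ≤ finrank F X := Submodule.finrank_mono inf_le_right
  set C := C' ⊓ O with hC
  have hCX : ∀ x ∈ C, x ∈ X → x = 0 := by
    intro x hx hxX
    have h1 : x ∈ (O ⊓ X) ⊓ C' := ⟨⟨hx.2, hxX⟩, hx.1⟩
    rw [hC'.inf_eq_bot] at h1
    exact (Submodule.mem_bot F).1 h1
  have hCdim : 3 ≤ finrank F C := by
    have h1 := Submodule.finrank_sup_add_finrank_inf_eq C' O
    have h2 : finrank F ↥(C' ⊔ O) ≤ Fintype.card ι := by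
      rw [← hn]; exact Submodule.finrank_le _
    rw [← hC] at h1
    omega
  obtain ⟨p', hp'0, hp'⟩ := Cfsg.Agent.Lib.Helper5.exists_singular_of_finrank
    (Q.comp C.subtype) hCdim
  have hpC : (p' : ι → F) ∈ C := p'.2
  have hpO : (p' : ι → F) ∈ O := hpC.2
  have hp0 : (p' : ι → F) ≠ 0 := fun h => hp'0 (Subtype.ext h)
  have hpX : (p' : ι → F) ∉ X := fun h => hp0 (hCX _ hpC h)
  have hpQ : Q (p' : ι → F) = 0 := hp'
  obtain ⟨q₀, hq₀O, hq₀⟩ : ∃ q₀ ∈ O, QuadraticMap.polar (⇑Q) q₀ (p' : ι → F) ≠ 0 := by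
    by_contra hcon
    push Not at hcon
    have h1 : (p' : ι → F) ∈ LinearMap.BilinForm.orthogonal (QuadraticMap.polarBilin Q) O :=
      fun n hn => hcon n hn
    rw [hO, LinearMap.BilinForm.orthogonal_orthogonal hQ hrefl] at h1
    exact hpX h1
  obtain ⟨p, hp⟩ : ∃ p : ι → F, p = (p' : ι → F) := ⟨_, rfl⟩
  rw [← hp] at hpO hpQ hq₀
  have hpq₀ : QuadraticMap.polar (⇑Q) p q₀ ≠ 0 := by rwa [QuadraticMap.polar_comm]
  obtain ⟨q₁, hq₁⟩ : ∃ q₁ : ι → F, q₁ = (QuadraticMap.polar (⇑Q) p q₀)⁻¹ • q₀ := ⟨_, rfl⟩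
  have hq₁O : q₁ ∈ O := by rw [hq₁]; exact O.smul_mem _ hq₀O
  have hpq₁ : QuadraticMap.polar (⇑Q) p q₁ = 1 := by
    rw [hq₁, QuadraticMap.polar_smul_right, smul_eq_mul, inv_mul_cancel₀ hpq₀]
  obtain ⟨q, hq⟩ : ∃ q : ι → F, q = q₁ + (-Q q₁) • p := ⟨_, rfl⟩
  have hqO : q ∈ O := by rw [hq]; exact O.add_mem hq₁O (O.smul_mem _ hpO)
  have hpp : QuadraticMap.polar (⇑Q) p p = 0 := by rw [polar_self, hpQ, mul_zero]
  refine ⟨p, q, hpQ, ?_, ?_, ?_⟩
  · rw [hq, map_add_smul, hpQ, QuadraticMap.polar_comm (⇑Q) q₁ p, hpq₁]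
    ring
  · rw [hq, QuadraticMap.polar_add_right, QuadraticMap.polar_smul_right, hpp, hpq₁]
    simp
  · intro x hx
    exact ⟨hpO x hx, hqO x hx⟩

theorem finrank_span_pair_le (u v : ι → F) : finrank F ↥(Submodule.span F {u, v}) ≤ 2 := by
  classical
  have h := finrank_span_le_card (R := F) ({u, v} : Set (ι → F))
  have h2 : ({u, v} : Set (ι → F)).toFinset.card ≤ 2 := by
    have : ({u, v} : Set (ι → F)).toFinset = {u, v} := by ext; simp
    rw [this]
    exact Finset.card_le_two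
  exact h.trans h2

/-- Eichler transformations lie in `Ω` -/
theorem eich_mem_Omega [Finite F] (hQ : (QuadraticMap.polarBilin Q).Nondegenerate)
    (hn : 7 ≤ Fintype.card ι) (u v : ι → F)
    (hu : Q u = 0) (huv : QuadraticMap.polar (⇑Q) u v = 0) :
    eich hQ u v hu huv ∈ Cfsg.Omega F ⇑Q := by
  have hTle : T Q ≤ Cfsg.Omega F ⇑Q := by
    refine (T_le_comm hQ hn).trans ?_
    show ⁅T Q, T Q⁆ ≤ commutator ↥(Cfsg.isometryGroup F ⇑Q)
    rw [commutator_def]
    exact Subgroup.commutator_mono le_top le_top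
  have hsing : ∀ w (hw : Q w = 0) (huw : QuadraticMap.polar (⇑Q) u w = 0),
      eich hQ u w hu huw ∈ Cfsg.Omega F ⇑Q := by
    intro w hw huw
    rw [eich_eq_sieg hQ u w hu hw huw]
    exact hTle (LR_mem_T hQ u w hu hw huw 1)
  obtain ⟨p, q, hp, hq, hpq, hperp⟩ := exists_hyp_perp hQ (Submodule.span F {u, v})
    (by have := finrank_span_pair_le u v; omega)
  have hup := (hperp u (Submodule.subset_span (by simp))).1
  have huq := (hperp u (Submodule.subset_span (by simp))).2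
  have hvp := (hperp v (Submodule.subset_span (by simp))).1
  have hvq := (hperp v (Submodule.subset_span (by simp))).2
  set v₁ := v + p + (-Q v) • q with hv₁
  have hv₁Q : Q v₁ = 0 := by
    have e : v₁ = (1 : F) • v + (1 : F) • p + (-Q v) • q := by rw [hv₁, one_smul, one_smul]
    rw [e, Cfsg.Agent.Lib.Helper5.map_lin3, hp, hq, hvp, hvq, hpq]
    ring
  have huv₁ : QuadraticMap.polar (⇑Q) u v₁ = 0 := by
    rw [hv₁, QuadraticMap.polar_add_right, QuadraticMap.polar_add_right,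
      QuadraticMap.polar_smul_right, huv, hup, huq]
    simp
  have huv₂ : QuadraticMap.polar (⇑Q) u (-p) = 0 := by
    rw [QuadraticMap.polar_neg_right, hup, neg_zero]
  have hv₂Q : Q (-p) = 0 := by rw [QuadraticMap.map_neg, hp]
  have huv₃ : QuadraticMap.polar (⇑Q) u (Q v • q) = 0 := by
    rw [QuadraticMap.polar_smul_right, huq, smul_zero]
  have hv₃Q : Q (Q v • q) = 0 := by rw [QuadraticMap.map_smul, hq, smul_zero]
  have hdecomp : eich hQ u v hu huv =
      eich hQ u v₁ hu huv₁ * eich hQ u (-p) hu huv₂ * eich hQ u (Q v • q) hu huv₃ := by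
    rw [eich_mul, eich_mul]
    apply eich_congr hQ rfl
    rw [hv₁]
    module
  rw [hdecomp]
  exact Subgroup.mul_mem _ (Subgroup.mul_mem _ (hsing v₁ hv₁Q huv₁) (hsing _ hv₂Q huv₂))
    (hsing _ hv₃Q huv₃)

theorem eich_mem_omegaGL [Finite F] (hQ : (QuadraticMap.polarBilin Q).Nondegenerate)
    (hn : 7 ≤ Fintype.card ι) (u v : ι → F)
    (hu : Q u = 0) (huv : QuadraticMap.polar (⇑Q) u v = 0) :
    ((eich hQ u v hu huv : ↥(Cfsg.isometryGroup F ⇑Q)) : Matrix.GeneralLinearGroup ι F) ∈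
      Cfsg.Geo.omegaGL ⇑Q :=
  ⟨_, eich_mem_Omega hQ hn u v hu huv, rfl⟩

end Cfsg.Agent.H9Orth
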