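import Mathlib
import Cfsg.Prelude
import Cfsg.Agent.Lib.Helper9.OrthMax2

set_option autoImplicit false

/-! Full singular points of a subgroup of `GL`, and the spreading lemma: a subgroup containing
the full unipotent radicals of two opposite singular points contains `Ω`. -/

namespace Cfsg.Agent.H9Orth

open Matrix Module Cfsg.Agent.Lib.Helper2.ReflGen Cfsg.Agent.Lib.Helper2.CDG
  Cfsg.Agent.Lib.Helper2.Siegel Cfsg.Agent.Lib.Helper2.LongRoot

variable {F : Type*} [Field F] {ι : Type} [Fintype ι] [DecidableEq ι]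
variable {Q : QuadraticForm F (ι → F)}

/-- `M` contains every Eichler transformation `E_{u,v}` -/
def Full (hQ : (QuadraticMap.polarBilin Q).Nondegenerate)
    (M : Subgroup (Matrix.GeneralLinearGroup ι F)) (u : ι → F) : Prop :=
  ∀ (hu : Q u = 0) (v : ι → F) (huv : QuadraticMap.polar (⇑Q) u v = 0),
    ((eich hQ u v hu huv : ↥(Cfsg.isometryGroup F ⇑Q)) : Matrix.GeneralLinearGroup ι F) ∈ M

variable (hQ : (QuadraticMap.polarBilin Q).Nondegenerate)
  {M : Subgroup (Matrix.GeneralLinearGroup ι F)}

theorem full_smul {u : ι → F} (h : Full hQ M u) (c : F) : Full hQ M (c • u) := by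
  intro hcu v hcuv
  by_cases hc : c = 0
  · subst hc
    have e : eich hQ ((0 : F) • u) v hcu hcuv = 1 := by
      apply iso_ext
      intro x
      rw [eich_mulVec, one_mulVec']
      simp [QuadraticMap.polar]
    rw [e]
    exact M.one_mem
  · have hu : Q u = 0 := by
      rw [QuadraticMap.map_smul, smul_eq_mul] at hcu
      rcases mul_eq_zero.1 hcu with h1 | h1
      · exact absurd (mul_self_eq_zero.1 h1) hc
      · exact h1
    have huv : QuadraticMap.polar (⇑Q) u v = 0 := by
      rw [QuadraticMap.polar_smul_left, smul_eq_mul] at hcuv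
      rcases mul_eq_zero.1 hcuv with h1 | h1
      · exact absurd h1 hc
      · exact h1
    have e := eich_smul hQ c u v hu huv
    have e' : eich hQ (c • u) v hcu hcuv = eich hQ u (c • v) hu
        (by rw [QuadraticMap.polar_smul_right, huv, smul_zero]) := e
    rw [e']
    exact h hu _ _

theorem full_map {u : ι → F} (h : Full hQ M u) (g : ↥(Cfsg.isometryGroup F ⇑Q))
    (hg : (g : Matrix.GeneralLinearGroup ι F) ∈ M) :
    Full hQ M (((g : Matrix.GeneralLinearGroup ι F) : Matrix ι ι F) *ᵥ u) := by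
  intro hgu w hguw
  have hu : Q u = 0 := by rw [← iso_Q g]; exact hgu
  set w' := (((g⁻¹ : ↥(Cfsg.isometryGroup F ⇑Q)) : Matrix.GeneralLinearGroup ι F) :
    Matrix ι ι F) *ᵥ w with hw'
  have hgw' : ((g : Matrix.GeneralLinearGroup ι F) : Matrix ι ι F) *ᵥ w' = w := by
    rw [hw', ← mul_mulVec, mul_inv_cancel, one_mulVec']
  have huw' : QuadraticMap.polar (⇑Q) u w' = 0 := by
    rw [← iso_polar g, hgw']; exact hguw
  have e := conj_eich hQ g u w' hu huw'
  have e' : eich hQ (((g : Matrix.GeneralLinearGroup ι F) : Matrix ι ι F) *ᵥ u) w hgu hguw =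
      g * eich hQ u w' hu huw' * g⁻¹ := by
    rw [e]
    exact eich_congr hQ rfl hgw'.symm _ _ _ _
  rw [e']
  have h1 := h hu w' huw'
  have h2 : ((g * eich hQ u w' hu huw' * g⁻¹ : ↥(Cfsg.isometryGroup F ⇑Q)) :
      Matrix.GeneralLinearGroup ι F) =
      (g : Matrix.GeneralLinearGroup ι F) *
        ((eich hQ u w' hu huw' : ↥(Cfsg.isometryGroup F ⇑Q)) : Matrix.GeneralLinearGroup ι F) *
        (g : Matrix.GeneralLinearGroup ι F)⁻¹ := rfl
  rw [h2]
  exact M.mul_mem (M.mul_mem hg h1) (M.inv_mem hg)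

/-- the unipotent radical of `u` is transitive on the singular vectors `z'` with the same value
of `B(u, z')` -/
theorem eich_move (u z z' : ι → F) (hu : Q u = 0) (hz : Q z = 0) (hz' : Q z' = 0)
    (hβ : QuadraticMap.polar (⇑Q) u z ≠ 0)
    (hzz' : QuadraticMap.polar (⇑Q) u z' = QuadraticMap.polar (⇑Q) u z) :
    ∃ (v : ι → F) (huv : QuadraticMap.polar (⇑Q) u v = 0),
      ((eich hQ u v hu huv : Matrix.GeneralLinearGroup ι F) : Matrix ι ι F) *ᵥ z = z' := by
  obtain ⟨β, hβdef⟩ : ∃ β : F, β = QuadraticMap.polar (⇑Q) u z := ⟨_, rfl⟩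
  rw [← hβdef] at hβ hzz'
  have huv : QuadraticMap.polar (⇑Q) u (β⁻¹ • (z' - z)) = 0 := by
    rw [QuadraticMap.polar_smul_right, QuadraticMap.polar_sub_right, hzz', ← hβdef, sub_self,
      smul_zero]
  refine ⟨β⁻¹ • (z' - z), huv, ?_⟩
  have hzz : QuadraticMap.polar (⇑Q) z z = 0 := by rw [polar_self, hz, mul_zero]
  have hQv : Q (β⁻¹ • (z' - z)) = -(β⁻¹ * β⁻¹ * QuadraticMap.polar (⇑Q) z' z) := by
    have e : z' - z = z' + (-1 : F) • z := by rw [neg_smul, one_smul, sub_eq_add_neg]
    rw [QuadraticMap.map_smul, e, map_add_smul, hz, hz', smul_eq_mul]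
    ring
  rw [eich_mulVec, hQv, ← hβdef, QuadraticMap.polar_smul_left, QuadraticMap.polar_sub_left, hzz,
    smul_eq_mul, sub_zero]
  have h1 : β⁻¹ * QuadraticMap.polar (⇑Q) z' z +
      -(β⁻¹ * β⁻¹ * QuadraticMap.polar (⇑Q) z' z) * β = 0 := by
    field_simp
    ring
  have h2 : β • β⁻¹ • (z' - z) = z' - z := by rw [smul_smul, mul_inv_cancel₀ hβ, one_smul]
  rw [h2]
  have h3 : z + (z' - z) - (β⁻¹ * QuadraticMap.polar (⇑Q) z' z) • u -
      (-(β⁻¹ * β⁻¹ * QuadraticMap.polar (⇑Q) z' z) * β) • u =
      z' - (β⁻¹ * QuadraticMap.polar (⇑Q) z' z +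
        -(β⁻¹ * β⁻¹ * QuadraticMap.polar (⇑Q) z' z) * β) • u := by
    module
  rw [h3, h1, zero_smul, sub_zero]

/-- one step of the spreading -/
theorem full_step {u z z' : ι → F} (hfu : Full hQ M u) (hfz : Full hQ M z)
    (hu : Q u = 0) (hz : Q z = 0) (hz' : Q z' = 0)
    (huz : QuadraticMap.polar (⇑Q) u z ≠ 0) (huz' : QuadraticMap.polar (⇑Q) u z' ≠ 0) :
    Full hQ M z' := by
  set c := QuadraticMap.polar (⇑Q) u z / QuadraticMap.polar (⇑Q) u z' with hc
  have hc0 : c ≠ 0 := div_ne_zero huz huz'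
  have h1 : QuadraticMap.polar (⇑Q) u (c • z') = QuadraticMap.polar (⇑Q) u z := by
    rw [QuadraticMap.polar_smul_right, smul_eq_mul, hc]
    field_simp
  have hcz' : Q (c • z') = 0 := by rw [QuadraticMap.map_smul, hz', smul_zero]
  obtain ⟨v, huv, hmove⟩ := eich_move hQ u z (c • z') hu hz hcz' huz h1
  have h2 : Full hQ M (c • z') := by
    rw [← hmove]
    exact full_map hQ hfz _ (hfu hu v huv)
  have h3 := full_smul hQ h2 c⁻¹
  rwa [smul_smul, inv_mul_cancel₀ hc0, one_smul] at h3

/-- **Spreading lemma**: two opposite full points make every singular point full. -/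
theorem full_all {u z : ι → F} (hfu : Full hQ M u) (hfz : Full hQ M z)
    (hu : Q u = 0) (hz : Q z = 0) (huz : QuadraticMap.polar (⇑Q) u z ≠ 0)
    (y : ι → F) (hy : Q y = 0) : Full hQ M y := by
  by_cases huy : QuadraticMap.polar (⇑Q) u y = 0
  · -- find a singular `z'` opposite to both `u` and `y`
    by_cases hzy : QuadraticMap.polar (⇑Q) z y = 0
    · by_cases hex : ∃ v, QuadraticMap.polar (⇑Q) u v = 0 ∧ QuadraticMap.polar (⇑Q) v y ≠ 0
      · obtain ⟨v, huv, hvy⟩ := hex
        set z' := ((eich hQ u v hu huv : Matrix.GeneralLinearGroup ι F) : Matrix ι ι F) *ᵥ z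
          with hz'def
        have hz'Q : Q z' = 0 := by rw [hz'def, iso_Q]; exact hz
        have hfz' : Full hQ M z' := full_map hQ hfz _ (hfu hu v huv)
        have huu : QuadraticMap.polar (⇑Q) u u = 0 := by rw [polar_self, hu, mul_zero]
        have hz'y : QuadraticMap.polar (⇑Q) z' y ≠ 0 := by
          rw [hz'def, eich_mulVec]
          simp only [QuadraticMap.polar_sub_left, QuadraticMap.polar_add_left,
            QuadraticMap.polar_smul_left, huy, hzy, smul_eq_mul, mul_zero, sub_zero, zero_add]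
          exact mul_ne_zero huz hvy
        have huz' : QuadraticMap.polar (⇑Q) u z' ≠ 0 := by
          rw [hz'def, eich_mulVec]
          simp only [QuadraticMap.polar_sub_right, QuadraticMap.polar_add_right,
            QuadraticMap.polar_smul_right, huu, huv, smul_eq_mul, mul_zero, sub_zero, add_zero]
          exact huz
        have hz'u : QuadraticMap.polar (⇑Q) z' u ≠ 0 := by
          rwa [QuadraticMap.polar_comm]
        exact full_step hQ hfz' hfu hz'Q hu hy hz'u hz'y
      · -- then `y` is a multiple of `u`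
        push Not at hex
        have hzu : QuadraticMap.polar (⇑Q) z u ≠ 0 := by rwa [QuadraticMap.polar_comm]
        set w := (QuadraticMap.polar (⇑Q) u z)⁻¹ • z with hw
        have huw : QuadraticMap.polar (⇑Q) u w = 1 := by
          rw [hw, QuadraticMap.polar_smul_right, smul_eq_mul, inv_mul_cancel₀ huz]
        have hyu : y = QuadraticMap.polar (⇑Q) w y • u := by
          have h0 : y - QuadraticMap.polar (⇑Q) w y • u = 0 := by
            apply hQ.2
            intro x
            show QuadraticMap.polar (⇑Q) x (y - QuadraticMap.polar (⇑Q) w y • u) = 0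
            have h1 := hex (x - QuadraticMap.polar (⇑Q) u x • w) (by
              rw [QuadraticMap.polar_sub_right, QuadraticMap.polar_smul_right, huw]
              simp)
            rw [QuadraticMap.polar_sub_left, QuadraticMap.polar_smul_left, smul_eq_mul] at h1
            rw [QuadraticMap.polar_sub_right, QuadraticMap.polar_smul_right, smul_eq_mul,
              QuadraticMap.polar_comm (⇑Q) x u]
            linear_combination h1
          exact sub_eq_zero.1 h0
        rw [hyu]
        exact full_smul hQ hfu _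
    · have hzu : QuadraticMap.polar (⇑Q) z u ≠ 0 := by rwa [QuadraticMap.polar_comm]
      exact full_step hQ hfz hfu hz hu hy hzu hzy
  · exact full_step hQ hfu hfz hu hz hy huz huy

/-- a subgroup all of whose singular points are full contains `Ω` -/
theorem omegaGL_le_of_full [Fintype F] (hn : 7 ≤ Fintype.card ι)
    (h : ∀ u : ι → F, Q u = 0 → Full hQ M u) : Cfsg.Geo.omegaGL ⇑Q ≤ M := by
  have hT : T Q ≤ M.comap (Cfsg.isometryGroup F ⇑Q).subtype := by
    unfold T
    rw [Subgroup.closure_le]
    rintro g ⟨u, v, c, hu, hv, huv, hg⟩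
    have hcv : QuadraticMap.polar (⇑Q) u (c • v) = 0 := by
      rw [QuadraticMap.polar_smul_right, huv, smul_zero]
    have e : g = eich hQ u (c • v) hu hcv := by
      apply iso_ext
      intro x
      rw [hg, siegelMatrix_mulVec, eich_mulVec, QuadraticMap.map_smul, hv,
        QuadraticMap.polar_smul_left]
      simp only [smul_eq_mul, mul_zero, zero_mul, zero_smul, sub_zero]
      module
    show (g : Matrix.GeneralLinearGroup ι F) ∈ M
    rw [e]
    exact h u hu hu _ hcv
  rintro _ ⟨g, hg, rfl⟩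
  have hg' : g ∈ T Q := by rw [T_eq_Omega hQ hn]; exact hg
  exact hT hg'

end Cfsg.Agent.H9Orth
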