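import Mathlib
import Cfsg.Prelude
import Cfsg.Agent.Lib.Helper9.OrthMax3
import Cfsg.Agent.Lib.Helper9.OrthDk3

set_option autoImplicit false

/-! The stabiliser of a totally singular subspace is maximal in `Ω`. -/

namespace Cfsg.Agent.H9Orth

open Matrix Module Cfsg.Agent.Lib.Helper2.ReflGen Cfsg.Agent.Lib.Helper2.CDG
  Cfsg.Agent.Lib.Helper2.Siegel Cfsg.Agent.Lib.Helper2.LongRoot

variable {F : Type*} [Field F] {ι : Type} [Fintype ι] [DecidableEq ι]
variable {Q : QuadraticForm F (ι → F)}

theorem mem_subspaceStabilizer_of_mapsTo [Finite F] (W : Submodule F (ι → F))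
    (g : Matrix.GeneralLinearGroup ι F) (h : ∀ x ∈ W, (g : Matrix ι ι F) *ᵥ x ∈ W) :
    g ∈ Cfsg.Geo.subspaceStabilizer W :=
  mem_stabilizing_of_mapsTo (W : Set (ι → F)) g h

/-- a nonsingular vector orthogonal to `W` and to `a`, when there is room -/
theorem exists_nonsingular_perp (hQ : (QuadraticMap.polarBilin Q).Nondegenerate)
    (W : Submodule F (ι → F)) (a : ι → F)
    (hdim : 2 * finrank F W + 3 ≤ Fintype.card ι) :
    ∃ b : ι → F, (∀ w ∈ W, QuadraticMap.polar (⇑Q) w b = 0) ∧
      QuadraticMap.polar (⇑Q) a b = 0 ∧ Q b ≠ 0 := by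
  classical
  by_contra hcon
  push Not at hcon
  have hrefl : (QuadraticMap.polarBilin Q).IsRefl := Cfsg.Agent.Lib.Helper5.polarBilin_isRefl Q
  have hZdim : finrank F ↥(W ⊔ Submodule.span F {a}) ≤ finrank F W + 1 := by
    have h1 := Submodule.finrank_add_le_finrank_add_finrank W (Submodule.span F {a})
    have h2 : finrank F ↥(Submodule.span F {a}) ≤ 1 := by
      have := finrank_span_le_card (R := F) ({a} : Set (ι → F))
      simpa using this
    omega
  set Z := W ⊔ Submodule.span F {a} with hZ
  set Y := LinearMap.BilinForm.orthogonal (QuadraticMap.polarBilin Q) Z with hY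
  have hn : finrank F (ι → F) = Fintype.card ι := Module.finrank_fintype_fun_eq_card F
  have hYdim : finrank F Y = Fintype.card ι - finrank F Z := by
    rw [hY, LinearMap.BilinForm.finrank_orthogonal hQ, hn]
  have hYts : ∀ y ∈ Y, Q y = 0 := by
    intro y hy
    apply hcon y
    · intro w hw
      exact hy w (le_sup_left (a := W) hw)
    · exact hy a (le_sup_right (a := W) (Submodule.subset_span rfl))
  have hYle : Y ≤ LinearMap.BilinForm.orthogonal (QuadraticMap.polarBilin Q) Y := by
    intro y hy n hn
    exact polar_eq_zero_of_ts Y hYts hn hy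
  rw [hY, LinearMap.BilinForm.orthogonal_orthogonal hQ hrefl, ← hY] at hYle
  have h3 := Submodule.finrank_mono hYle
  have h4 : finrank F Z ≤ Fintype.card ι := by rw [← hn]; exact Submodule.finrank_le Z
  omega

/-- **Maximality of the stabiliser of a totally singular subspace.** -/
theorem ts_stab_maximal [Fintype F] (hQ : (QuadraticMap.polarBilin Q).Nondegenerate)
    (hn : 7 ≤ Fintype.card ι) (W : Submodule F (ι → F)) (hW0 : W ≠ ⊥)
    (hW : ∀ w ∈ W, Q w = 0)
    (hcase : 2 * finrank F W + 3 ≤ Fintype.card ι ∨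
      ∀ x : ι → F, Q x = 0 → (∀ w ∈ W, QuadraticMap.polar (⇑Q) w x = 0) → x ∈ W) :
    Cfsg.Geo.IsMaximalIn (Cfsg.Geo.omegaGL ⇑Q)
      (Cfsg.Geo.subspaceStabilizer W ⊓ Cfsg.Geo.omegaGL ⇑Q) := by
  classical
  have : Finite F := Finite.of_fintype F
  have hrefl : (QuadraticMap.polarBilin Q).IsRefl := Cfsg.Agent.Lib.Helper5.polarBilin_isRefl Q
  obtain ⟨w₀, hw₀W, hw₀0⟩ := Submodule.exists_mem_ne_zero_of_ne_bot hW0
  constructor
  · -- the stabiliser is a proper subgroup
    apply lt_of_le_of_ne inf_le_right
    intro heq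
    obtain ⟨z, hw₀z, hz⟩ := Cfsg.Agent.Lib.Helper5.exists_partner Q hQ hw₀0 (hW w₀ hw₀W)
    obtain ⟨p, q, hp, hq, hpq, hperp⟩ := exists_hyp_perp hQ (Submodule.span F {w₀, z})
      (by have := finrank_span_pair_le w₀ z; omega)
    have hwp := (hperp w₀ (Submodule.subset_span (by simp))).1
    have hwq := (hperp w₀ (Submodule.subset_span (by simp))).2
    have hzp := (hperp z (Submodule.subset_span (by simp))).1
    have hzq := (hperp z (Submodule.subset_span (by simp))).2
    have hzv : QuadraticMap.polar (⇑Q) z (p + q) = 0 := by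
      rw [QuadraticMap.polar_add_right, hzp, hzq, add_zero]
    have hQv : Q (p + q) = 1 := by
      rw [QuadraticMap.map_add Q, hp, hq, hpq]; ring
    have hg := eich_mem_omegaGL hQ hn z (p + q) hz hzv
    rw [← heq] at hg
    have hgW := ((Subgroup.mem_inf.1 hg).1 w₀).1 hw₀W
    have hgW' : ((eich hQ z (p + q) hz hzv : Matrix.GeneralLinearGroup ι F) : Matrix ι ι F) *ᵥ w₀
        ∈ W := hgW
    have h0 := polar_eq_zero_of_ts W hW hw₀W hgW'
    rw [eich_mulVec, hQv] at h0
    have hzw₀ : QuadraticMap.polar (⇑Q) z w₀ = 1 := by rw [QuadraticMap.polar_comm]; exact hw₀z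
    have hww : QuadraticMap.polar (⇑Q) w₀ w₀ = 0 := by rw [polar_self, hW w₀ hw₀W, mul_zero]
    have hpw : QuadraticMap.polar (⇑Q) p w₀ = 0 := by rw [QuadraticMap.polar_comm]; exact hwp
    have hqw : QuadraticMap.polar (⇑Q) q w₀ = 0 := by rw [QuadraticMap.polar_comm]; exact hwq
    simp only [QuadraticMap.polar_sub_right, QuadraticMap.polar_add_right,
      QuadraticMap.polar_add_left,
      QuadraticMap.polar_smul_right, hzw₀, hww, hwp, hwq, hpw, hqw, hw₀z, smul_eq_mul, mul_one,
      mul_zero, add_zero, zero_add, sub_zero, zero_sub] at h0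
    exact one_ne_zero (neg_eq_zero.1 h0)
  · intro M hHM hMK
    by_cases hMS : M ≤ Cfsg.Geo.subspaceStabilizer W
    · left
      exact le_antisymm (le_inf hMS hMK) hHM
    · right
      apply le_antisymm hMK
      rw [SetLike.not_le_iff_exists] at hMS
      obtain ⟨g₀, hg₀M, hg₀S⟩ := hMS
      obtain ⟨γ, hγ⟩ := exists_iso_of_mem_omegaGL (hMK hg₀M)
      -- points of `W` are full
      have hfullW : ∀ u ∈ W, Full hQ M u := by
        intro u huW hu v huv
        apply hHM
        refine Subgroup.mem_inf.2 ⟨?_, eich_mem_omegaGL hQ hn u v hu huv⟩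
        apply mem_subspaceStabilizer_of_mapsTo
        intro x hx
        rw [eich_mulVec, polar_eq_zero_of_ts W hW huW hx, zero_smul, mul_zero, zero_smul,
          add_zero, sub_zero]
        exact W.sub_mem hx (W.smul_mem _ huW)
      -- a vector of `W` moved out of `W`
      obtain ⟨w, hwW, hgw⟩ : ∃ w ∈ W, (g₀ : Matrix ι ι F) *ᵥ w ∉ W := by
        by_contra hcon
        push Not at hcon
        exact hg₀S (mem_subspaceStabilizer_of_mapsTo W g₀ hcon)
      rw [← hγ] at hgw hg₀M
      set x := ((γ : Matrix.GeneralLinearGroup ι F) : Matrix ι ι F) *ᵥ w with hx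
      have hxQ : Q x = 0 := by rw [hx, iso_Q]; exact hW w hwW
      have hfx : Full hQ M x := full_map hQ (hfullW w hwW) γ hg₀M
      apply omegaGL_le_of_full hQ hn
      by_cases hA : ∃ u ∈ W, QuadraticMap.polar (⇑Q) u x ≠ 0
      · obtain ⟨u, huW, hux⟩ := hA
        exact full_all hQ (hfullW u huW) hfx (hW u huW) hxQ hux
      · push Not at hA
        rcases hcase with hdim | hnone
        · -- construct `a`, `b`
          obtain ⟨a₀, ha₀W, hxa₀⟩ : ∃ a₀, (∀ w ∈ W, QuadraticMap.polar (⇑Q) w a₀ = 0) ∧
              QuadraticMap.polar (⇑Q) x a₀ ≠ 0 := by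
            by_contra hcon
            push Not at hcon
            apply hgw
            have h1 : x ∈ LinearMap.BilinForm.orthogonal (QuadraticMap.polarBilin Q)
                (LinearMap.BilinForm.orthogonal (QuadraticMap.polarBilin Q) W) := by
              intro n hn'
              show QuadraticMap.polar (⇑Q) n x = 0
              rw [QuadraticMap.polar_comm]
              exact hcon n hn'
            rwa [LinearMap.BilinForm.orthogonal_orthogonal hQ hrefl] at h1
          obtain ⟨c, hc⟩ : ∃ c : F, c = Q a₀ / QuadraticMap.polar (⇑Q) x a₀ := ⟨_, rfl⟩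
          obtain ⟨a, ha⟩ : ∃ a : ι → F, a = a₀ + (-c) • x := ⟨_, rfl⟩
          have hxx : QuadraticMap.polar (⇑Q) x x = 0 := by rw [polar_self, hxQ, mul_zero]
          have haQ : Q a = 0 := by
            rw [ha, map_add_smul, hxQ, QuadraticMap.polar_comm (⇑Q) a₀ x, hc]
            field_simp
            ring
          have haW : ∀ w ∈ W, QuadraticMap.polar (⇑Q) w a = 0 := by
            intro w' hw'
            rw [ha, QuadraticMap.polar_add_right, QuadraticMap.polar_smul_right, ha₀W w' hw',
              hA w' hw']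
            simp
          have hxa : QuadraticMap.polar (⇑Q) x a ≠ 0 := by
            rw [ha, QuadraticMap.polar_add_right, QuadraticMap.polar_smul_right, hxx, smul_zero,
              add_zero]
            exact hxa₀
          obtain ⟨b, hbW, hab, hbQ⟩ := exists_nonsingular_perp hQ W a hdim
          set h := eich hQ a b haQ hab with hh
          have hhH : (h : Matrix.GeneralLinearGroup ι F) ∈ M := by
            apply hHM
            refine Subgroup.mem_inf.2 ⟨?_, eich_mem_omegaGL hQ hn a b haQ hab⟩
            apply mem_subspaceStabilizer_of_fix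
            intro w' hw'
            rw [hh, eich_mulVec, QuadraticMap.polar_comm (⇑Q) a w', haW w' hw',
              QuadraticMap.polar_comm (⇑Q) b w', hbW w' hw']
            simp
          have hfhx : Full hQ M (((h : Matrix.GeneralLinearGroup ι F) : Matrix ι ι F) *ᵥ x) :=
            full_map hQ hfx h hhH
          have hhxQ : Q (((h : Matrix.GeneralLinearGroup ι F) : Matrix ι ι F) *ᵥ x) = 0 := by
            rw [iso_Q]; exact hxQ
          have hopp : QuadraticMap.polar (⇑Q) x
              (((h : Matrix.GeneralLinearGroup ι F) : Matrix ι ι F) *ᵥ x) ≠ 0 := by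
            rw [hh, eich_mulVec]
            have hax : QuadraticMap.polar (⇑Q) a x = QuadraticMap.polar (⇑Q) x a :=
              QuadraticMap.polar_comm _ _ _
            simp only [QuadraticMap.polar_sub_right, QuadraticMap.polar_add_right,
              QuadraticMap.polar_smul_right, hxx, hax, smul_eq_mul, zero_add]
            have : QuadraticMap.polar (⇑Q) x a * QuadraticMap.polar (⇑Q) x b -
                QuadraticMap.polar (⇑Q) b x * QuadraticMap.polar (⇑Q) x a -
                Q b * QuadraticMap.polar (⇑Q) x a * QuadraticMap.polar (⇑Q) x a =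
                -(Q b * QuadraticMap.polar (⇑Q) x a * QuadraticMap.polar (⇑Q) x a) := by
              rw [QuadraticMap.polar_comm (⇑Q) b x]; ring
            rw [this]
            exact neg_ne_zero.2 (mul_ne_zero (mul_ne_zero hbQ hxa) hxa)
          exact full_all hQ hfx hfhx hxQ hhxQ hopp
        · exact absurd (hnone x hxQ hA) hgw

end Cfsg.Agent.H9Orth
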