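import Mathlib
import Cfsg.Prelude
import Cfsg.Agent.Lib.Helper9.OrthMax4

set_option autoImplicit false

/-! Wrappers for the maximality of the stabiliser of a totally singular subspace. -/

namespace Cfsg.Agent.H9Orth

open Matrix Module Cfsg.Agent.Lib.Helper2.ReflGen Cfsg.Agent.Lib.Helper2.CDG

variable {F : Type*} [Field F] {ι : Type} [Fintype ι] [DecidableEq ι]
variable {Q : QuadraticForm F (ι → F)}

/-- totally singular subspaces have at most half the dimension -/
theorem ts_finrank_le (hQ : (QuadraticMap.polarBilin Q).Nondegenerate)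
    (U : Submodule F (ι → F)) (hU : ∀ u ∈ U, Q u = 0) :
    2 * finrank F U ≤ Fintype.card ι := by
  have hn : finrank F (ι → F) = Fintype.card ι := Module.finrank_fintype_fun_eq_card F
  have hle : U ≤ LinearMap.BilinForm.orthogonal (QuadraticMap.polarBilin Q) U := by
    intro y hy n hn'
    exact polar_eq_zero_of_ts U hU hn' hy
  have h1 := Submodule.finrank_mono hle
  rw [LinearMap.BilinForm.finrank_orthogonal hQ, hn] at h1
  have h2 : finrank F U ≤ Fintype.card ι := by rw [← hn]; exact Submodule.finrank_le U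
  omega

/-- a singular vector orthogonal to a maximal totally singular subspace lies in it -/
theorem mem_of_ts_maximal (W : Submodule F (ι → F)) (hW : ∀ w ∈ W, Q w = 0)
    (hmax : ∀ U : Submodule F (ι → F), (∀ u ∈ U, Q u = 0) → W ≤ U → finrank F U ≤ finrank F W)
    (x : ι → F) (hx : Q x = 0) (hWx : ∀ w ∈ W, QuadraticMap.polar (⇑Q) w x = 0) : x ∈ W := by
  set U := W ⊔ Submodule.span F {x} with hU
  have hUts : ∀ u ∈ U, Q u = 0 := by
    intro u hu
    obtain ⟨w, hw, y, hy, rfl⟩ := Submodule.mem_sup.1 hu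
    obtain ⟨c, rfl⟩ := Submodule.mem_span_singleton.1 hy
    rw [map_add_smul, hW w hw, hx, hWx w hw]
    ring
  have hWU : W ≤ U := le_sup_left
  have h1 := hmax U hUts hWU
  have h2 : W = U := Submodule.eq_of_le_of_finrank_le hWU h1
  rw [h2]
  exact le_sup_right (a := W) (Submodule.subset_span rfl)

theorem ts_stab_maximal' [Fintype F] (hQ : (QuadraticMap.polarBilin Q).Nondegenerate)
    (hn : 7 ≤ Fintype.card ι) (W : Submodule F (ι → F)) (hW0 : W ≠ ⊥)
    (hW : ∀ w ∈ W, Q w = 0)
    (hcase : 2 * finrank F W + 3 ≤ Fintype.card ι ∨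
      ∀ U : Submodule F (ι → F), (∀ u ∈ U, Q u = 0) → W ≤ U → finrank F U ≤ finrank F W) :
    Cfsg.Geo.IsMaximalIn (Cfsg.Geo.omegaGL ⇑Q)
      (Cfsg.Geo.subspaceStabilizer W ⊓ Cfsg.Geo.omegaGL ⇑Q) := by
  apply ts_stab_maximal hQ hn W hW0 hW
  rcases hcase with h | h
  · left; exact h
  · right; exact mem_of_ts_maximal W hW h

end Cfsg.Agent.H9Orth
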