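import Mathlib
import Cfsg.Prelude
import Cfsg.Agent.Lib.Helper9.OrthMax5

set_option autoImplicit false

/-! The stabiliser of a nonsingular point is maximal in `Ω`. -/

namespace Cfsg.Agent.H9Orth

open Matrix Module Cfsg.Agent.Lib.Helper2.ReflGen Cfsg.Agent.Lib.Helper2.CDG
  Cfsg.Agent.Lib.Helper2.Siegel Cfsg.Agent.Lib.Helper2.LongRoot

variable {F : Type*} [Field F] {ι : Type} [Fintype ι] [DecidableEq ι]
variable {Q : QuadraticForm F (ι → F)}

theorem inv_mulVec_mulVec (g : ↥(Cfsg.isometryGroup F ⇑Q)) (x : ι → F) :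
    ((g : Matrix.GeneralLinearGroup ι F) : Matrix ι ι F) *ᵥ
      ((((g⁻¹ : ↥(Cfsg.isometryGroup F ⇑Q)) : Matrix.GeneralLinearGroup ι F) :
        Matrix ι ι F) *ᵥ x) = x := by
  rw [← mul_mulVec, mul_inv_cancel, one_mulVec']

theorem polar_inv_mulVec (g : ↥(Cfsg.isometryGroup F ⇑Q)) (x y : ι → F) :
    QuadraticMap.polar (⇑Q) ((((g⁻¹ : ↥(Cfsg.isometryGroup F ⇑Q)) :
      Matrix.GeneralLinearGroup ι F) : Matrix ι ι F) *ᵥ x) y =
    QuadraticMap.polar (⇑Q) x (((g : Matrix.GeneralLinearGroup ι F) : Matrix ι ι F) *ᵥ y) := by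
  rw [← iso_polar g, inv_mulVec_mulVec]

/-- an Eichler transformation fixing `v` stabilises the line of `v` -/
theorem eich_mem_stab_span [Finite F] (hQ : (QuadraticMap.polarBilin Q).Nondegenerate)
    (u b v : ι → F) (hu : Q u = 0) (hub : QuadraticMap.polar (⇑Q) u b = 0)
    (huv : QuadraticMap.polar (⇑Q) u v = 0) (hbv : QuadraticMap.polar (⇑Q) b v = 0) :
    ((eich hQ u b hu hub : ↥(Cfsg.isometryGroup F ⇑Q)) : Matrix.GeneralLinearGroup ι F) ∈
      Cfsg.Geo.subspaceStabilizer (Submodule.span F {v}) := by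
  apply mem_subspaceStabilizer_of_fix
  intro x hx
  obtain ⟨c, rfl⟩ := Submodule.mem_span_singleton.1 hx
  rw [eich_mulVec, QuadraticMap.polar_smul_right, QuadraticMap.polar_smul_right, huv, hbv]
  simp

/-- **Maximality of the stabiliser of a nonsingular point.** -/
theorem nonsing_stab_maximal [Fintype F] (hQ : (QuadraticMap.polarBilin Q).Nondegenerate)
    (hn : 7 ≤ Fintype.card ι) (v : ι → F) (hv : Q v ≠ 0) :
    Cfsg.Geo.IsMaximalIn (Cfsg.Geo.omegaGL ⇑Q)
      (Cfsg.Geo.subspaceStabilizer (Submodule.span F {v}) ⊓ Cfsg.Geo.omegaGL ⇑Q) := by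
  classical
  have : Finite F := Finite.of_fintype F
  have hrefl : (QuadraticMap.polarBilin Q).IsRefl := Cfsg.Agent.Lib.Helper5.polarBilin_isRefl Q
  have hv0 : v ≠ 0 := by
    rintro rfl
    exact hv (map_zero Q)
  have hspan1 : finrank F ↥(Submodule.span F {v}) ≤ 1 := by
    have := finrank_span_le_card (R := F) ({v} : Set (ι → F))
    simpa using this
  constructor
  · apply lt_of_le_of_ne inf_le_right
    intro heq
    obtain ⟨p, q, hp, hq, hpq, hperp⟩ := exists_hyp_perp hQ (Submodule.span F {v})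
      (by omega)
    have hvp := (hperp v (Submodule.subset_span rfl)).1
    have hvq := (hperp v (Submodule.subset_span rfl)).2
    obtain ⟨b₀, hb₀⟩ : ∃ b₀, QuadraticMap.polar (⇑Q) b₀ v ≠ 0 := by
      by_contra hcon
      push Not at hcon
      exact hv0 (hQ.2 v hcon)
    obtain ⟨b, hb⟩ : ∃ b : ι → F, b = b₀ + (-QuadraticMap.polar (⇑Q) p b₀) • q := ⟨_, rfl⟩
    have hpb : QuadraticMap.polar (⇑Q) p b = 0 := by
      rw [hb, QuadraticMap.polar_add_right, QuadraticMap.polar_smul_right, hpq]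
      simp
    have hqv : QuadraticMap.polar (⇑Q) q v = 0 := by rw [QuadraticMap.polar_comm]; exact hvq
    have hpv : QuadraticMap.polar (⇑Q) p v = 0 := by rw [QuadraticMap.polar_comm]; exact hvp
    have hbv : QuadraticMap.polar (⇑Q) b v ≠ 0 := by
      rw [hb, QuadraticMap.polar_add_left, QuadraticMap.polar_smul_left, hqv, smul_zero, add_zero]
      exact hb₀
    have hg := eich_mem_omegaGL hQ hn p b hp hpb
    rw [← heq] at hg
    have hgv := ((Subgroup.mem_inf.1 hg).1 v).1 (Submodule.subset_span rfl)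
    have hgv' : ((eich hQ p b hp hpb : Matrix.GeneralLinearGroup ι F) : Matrix ι ι F) *ᵥ v ∈
        Submodule.span F {v} := hgv
    rw [eich_mulVec, hpv, zero_smul, add_zero, mul_zero, zero_smul, sub_zero] at hgv'
    obtain ⟨c, hc⟩ := Submodule.mem_span_singleton.1 hgv'
    have h1 := congrArg (fun y => QuadraticMap.polar (⇑Q) y q) hc
    simp only [QuadraticMap.polar_sub_left, QuadraticMap.polar_smul_left, hvq, hpq, smul_eq_mul,
      mul_zero, mul_one, zero_sub] at h1
    exact hbv (by linear_combination h1)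
  · intro M hHM hMK
    by_cases hMS : M ≤ Cfsg.Geo.subspaceStabilizer (Submodule.span F {v})
    · left
      exact le_antisymm (le_inf hMS hMK) hHM
    · right
      apply le_antisymm hMK
      rw [SetLike.not_le_iff_exists] at hMS
      obtain ⟨g₀, hg₀M, hg₀S⟩ := hMS
      obtain ⟨γ, hγ⟩ := exists_iso_of_mem_omegaGL (hMK hg₀M)
      rw [← hγ] at hg₀M hg₀S
      obtain ⟨v', hv'⟩ : ∃ v' : ι → F,
          v' = ((γ : Matrix.GeneralLinearGroup ι F) : Matrix ι ι F) *ᵥ v := ⟨_, rfl⟩
      have hv'span : v' ∉ Submodule.span F {v} := by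
        intro h
        apply hg₀S
        apply mem_subspaceStabilizer_of_mapsTo
        intro x hx
        obtain ⟨c, rfl⟩ := Submodule.mem_span_singleton.1 hx
        rw [Matrix.mulVec_smul, ← hv']
        exact Submodule.smul_mem _ _ h
      obtain ⟨u₁, u₂, hu₁, hu₂, hu₁₂, hperp⟩ := exists_hyp_perp hQ (Submodule.span F {v, v'})
        (by have := finrank_span_pair_le v v'; omega)
      have hvu₁ := (hperp v (Submodule.subset_span (by simp))).1
      have hvu₂ := (hperp v (Submodule.subset_span (by simp))).2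
      have hv'u₁ := (hperp v' (Submodule.subset_span (by simp))).1
      have hv'u₂ := (hperp v' (Submodule.subset_span (by simp))).2
      -- the key claim
      have key : ∀ u u' : ι → F, Q u = 0 → QuadraticMap.polar (⇑Q) u u' = 1 →
          QuadraticMap.polar (⇑Q) v u = 0 → QuadraticMap.polar (⇑Q) v' u = 0 →
          QuadraticMap.polar (⇑Q) v u' = 0 → QuadraticMap.polar (⇑Q) v' u' = 0 →
          Full hQ M u := by
        intro u u' huQ huu' hvu hv'u hvu' hv'u' _ b hub
        have huv : QuadraticMap.polar (⇑Q) u v = 0 := by rw [QuadraticMap.polar_comm]; exact hvu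
        have huv' : QuadraticMap.polar (⇑Q) u v' = 0 := by
          rw [QuadraticMap.polar_comm]; exact hv'u
        -- a vector `c` orthogonal to `u` and `v'` with `B(v, c) = 1`
        obtain ⟨c₀, hc₀u, hc₀v', hc₀v⟩ : ∃ c₀, QuadraticMap.polar (⇑Q) u c₀ = 0 ∧
            QuadraticMap.polar (⇑Q) v' c₀ = 0 ∧ QuadraticMap.polar (⇑Q) v c₀ ≠ 0 := by
          by_contra hcon
          push Not at hcon
          have h1 : v ∈ LinearMap.BilinForm.orthogonal (QuadraticMap.polarBilin Q)
              (LinearMap.BilinForm.orthogonal (QuadraticMap.polarBilin Q)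
                (Submodule.span F {u, v'})) := by
            intro n hn'
            show QuadraticMap.polar (⇑Q) n v = 0
            rw [QuadraticMap.polar_comm]
            apply hcon n
            · exact hn' u (Submodule.subset_span (by simp))
            · exact hn' v' (Submodule.subset_span (by simp))
          rw [LinearMap.BilinForm.orthogonal_orthogonal hQ hrefl] at h1
          obtain ⟨α, β, hαβ⟩ := Submodule.mem_span_pair.1 h1
          have h2 := congrArg (fun y => QuadraticMap.polar (⇑Q) y u') hαβ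
          simp only [QuadraticMap.polar_add_left, QuadraticMap.polar_smul_left, huu', hv'u',
            hvu', smul_eq_mul, mul_one, mul_zero, add_zero] at h2
          rw [h2, zero_smul, zero_add] at hαβ
          have hβ : β ≠ 0 := by
            rintro rfl
            rw [zero_smul] at hαβ
            exact hv0 hαβ.symm
          apply hv'span
          have hv'eq : v' = β⁻¹ • v := by
            rw [← hαβ, smul_smul, inv_mul_cancel₀ hβ, one_smul]
          rw [hv'eq]
          exact Submodule.smul_mem _ _ (Submodule.subset_span rfl)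
        obtain ⟨c, hc⟩ : ∃ c : ι → F, c = (QuadraticMap.polar (⇑Q) v c₀)⁻¹ • c₀ := ⟨_, rfl⟩
        have hcu : QuadraticMap.polar (⇑Q) u c = 0 := by
          rw [hc, QuadraticMap.polar_smul_right, hc₀u, smul_zero]
        have hcv' : QuadraticMap.polar (⇑Q) v' c = 0 := by
          rw [hc, QuadraticMap.polar_smul_right, hc₀v', smul_zero]
        have hcv : QuadraticMap.polar (⇑Q) v c = 1 := by
          rw [hc, QuadraticMap.polar_smul_right, smul_eq_mul, inv_mul_cancel₀ hc₀v]
        obtain ⟨b₁, hb₁⟩ : ∃ b₁ : ι → F, b₁ = b + (-QuadraticMap.polar (⇑Q) v b) • c := ⟨_, rfl⟩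
        obtain ⟨b₂, hb₂⟩ : ∃ b₂ : ι → F, b₂ = QuadraticMap.polar (⇑Q) v b • c := ⟨_, rfl⟩
        have hub₁ : QuadraticMap.polar (⇑Q) u b₁ = 0 := by
          rw [hb₁, QuadraticMap.polar_add_right, QuadraticMap.polar_smul_right, hub, hcu]
          simp
        have hub₂ : QuadraticMap.polar (⇑Q) u b₂ = 0 := by
          rw [hb₂, QuadraticMap.polar_smul_right, hcu, smul_zero]
        have hb₁v : QuadraticMap.polar (⇑Q) b₁ v = 0 := by
          rw [QuadraticMap.polar_comm, hb₁, QuadraticMap.polar_add_right,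
            QuadraticMap.polar_smul_right, hcv]
          simp
        have hb₂v' : QuadraticMap.polar (⇑Q) b₂ v' = 0 := by
          rw [QuadraticMap.polar_comm, hb₂, QuadraticMap.polar_smul_right, hcv', smul_zero]
        have hdec : eich hQ u b huQ hub = eich hQ u b₁ huQ hub₁ * eich hQ u b₂ huQ hub₂ := by
          rw [eich_mul]
          apply eich_congr hQ rfl
          rw [hb₁, hb₂]
          module
        rw [hdec]
        have hmem1 : ((eich hQ u b₁ huQ hub₁ : ↥(Cfsg.isometryGroup F ⇑Q)) :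
            Matrix.GeneralLinearGroup ι F) ∈ M := by
          apply hHM
          exact Subgroup.mem_inf.2 ⟨eich_mem_stab_span hQ u b₁ v huQ hub₁ huv hb₁v,
            eich_mem_omegaGL hQ hn u b₁ huQ hub₁⟩
        have hmem2 : ((eich hQ u b₂ huQ hub₂ : ↥(Cfsg.isometryGroup F ⇑Q)) :
            Matrix.GeneralLinearGroup ι F) ∈ M := by
          set u₀ := (((γ⁻¹ : ↥(Cfsg.isometryGroup F ⇑Q)) : Matrix.GeneralLinearGroup ι F) :
            Matrix ι ι F) *ᵥ u with hu₀
          set b₀ := (((γ⁻¹ : ↥(Cfsg.isometryGroup F ⇑Q)) : Matrix.GeneralLinearGroup ι F) :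
            Matrix ι ι F) *ᵥ b₂ with hb₀
          have hu₀Q : Q u₀ = 0 := by rw [hu₀, iso_Q]; exact huQ
          have hu₀b₀ : QuadraticMap.polar (⇑Q) u₀ b₀ = 0 := by
            rw [hu₀, hb₀, iso_polar]; exact hub₂
          have hu₀v : QuadraticMap.polar (⇑Q) u₀ v = 0 := by
            rw [hu₀, polar_inv_mulVec, ← hv']; exact huv'
          have hb₀v : QuadraticMap.polar (⇑Q) b₀ v = 0 := by
            rw [hb₀, polar_inv_mulVec, ← hv']; exact hb₂v'
          have e := conj_eich hQ γ u₀ b₀ hu₀Q hu₀b₀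
          have e' : eich hQ u b₂ huQ hub₂ = γ * eich hQ u₀ b₀ hu₀Q hu₀b₀ * γ⁻¹ := by
            rw [e]
            apply eich_congr hQ
            · rw [hu₀, inv_mulVec_mulVec]
            · rw [hb₀, inv_mulVec_mulVec]
          rw [e']
          have h1 : ((eich hQ u₀ b₀ hu₀Q hu₀b₀ : ↥(Cfsg.isometryGroup F ⇑Q)) :
              Matrix.GeneralLinearGroup ι F) ∈ M := by
            apply hHM
            exact Subgroup.mem_inf.2 ⟨eich_mem_stab_span hQ u₀ b₀ v hu₀Q hu₀b₀ hu₀v hb₀v,
              eich_mem_omegaGL hQ hn u₀ b₀ hu₀Q hu₀b₀⟩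
          have h2 : ((γ * eich hQ u₀ b₀ hu₀Q hu₀b₀ * γ⁻¹ : ↥(Cfsg.isometryGroup F ⇑Q)) :
              Matrix.GeneralLinearGroup ι F) =
              (γ : Matrix.GeneralLinearGroup ι F) *
                ((eich hQ u₀ b₀ hu₀Q hu₀b₀ : ↥(Cfsg.isometryGroup F ⇑Q)) :
                  Matrix.GeneralLinearGroup ι F) *
                (γ : Matrix.GeneralLinearGroup ι F)⁻¹ := rfl
          rw [h2]
          exact M.mul_mem (M.mul_mem hg₀M h1) (M.inv_mem hg₀M)
        have h3 : ((eich hQ u b₁ huQ hub₁ * eich hQ u b₂ huQ hub₂ :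
            ↥(Cfsg.isometryGroup F ⇑Q)) : Matrix.GeneralLinearGroup ι F) =
            ((eich hQ u b₁ huQ hub₁ : ↥(Cfsg.isometryGroup F ⇑Q)) :
              Matrix.GeneralLinearGroup ι F) *
            ((eich hQ u b₂ huQ hub₂ : ↥(Cfsg.isometryGroup F ⇑Q)) :
              Matrix.GeneralLinearGroup ι F) := rfl
        rw [h3]
        exact M.mul_mem hmem1 hmem2
      have hu₂₁ : QuadraticMap.polar (⇑Q) u₂ u₁ = 1 := by rw [QuadraticMap.polar_comm]; exact hu₁₂
      have hf1 : Full hQ M u₁ := key u₁ u₂ hu₁ hu₁₂ hvu₁ hv'u₁ hvu₂ hv'u₂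
      have hf2 : Full hQ M u₂ := key u₂ u₁ hu₂ hu₂₁ hvu₂ hv'u₂ hvu₁ hv'u₁
      apply omegaGL_le_of_full hQ hn
      intro y hy
      exact full_all hQ hf1 hf2 hu₁ hu₂ (by rw [hu₁₂]; exact one_ne_zero) y hy

end Cfsg.Agent.H9Orth
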