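import Mathlib
import Cfsg.Prelude
import Cfsg.Agent.Lib.Helper9.OrthMax6

set_option autoImplicit false

/-! Orthogonal splittings `V = A ⊥ B` and hyperbolic pairs inside a nondegenerate subspace. -/

namespace Cfsg.Agent.H9Orth

open Matrix Module Cfsg.Agent.Lib.Helper2.ReflGen Cfsg.Agent.Lib.Helper2.CDG

section abstract

variable {F : Type*} [Field F] {V : Type*} [AddCommGroup V] [Module F V]

/-- a hyperbolic pair inside a subspace of small codimension -/
theorem exists_hyp_of_codim [Finite F] [FiniteDimensional F V] (Q : QuadraticForm F V)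
    (hQ : (QuadraticMap.polarBilin Q).Nondegenerate) (O : Submodule F V)
    (hdim : 2 * (finrank F V - finrank F O) + 3 ≤ finrank F V) :
    ∃ p q : V, p ∈ O ∧ q ∈ O ∧ Q p = 0 ∧ Q q = 0 ∧ QuadraticMap.polar (⇑Q) p q = 1 := by
  classical
  set X := LinearMap.BilinForm.orthogonal (QuadraticMap.polarBilin Q) O with hX
  have hXdim : finrank F X = finrank F V - finrank F O := by
    rw [hX, LinearMap.BilinForm.finrank_orthogonal hQ]
  have hOle : finrank F O ≤ finrank F V := Submodule.finrank_le O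
  obtain ⟨C', hC'⟩ := Submodule.exists_isCompl (O ⊓ X)
  have hC'dim : finrank F ↥(O ⊓ X) + finrank F C' = finrank F V :=
    Submodule.finrank_add_eq_of_isCompl hC'
  have hrle : finrank F ↥(O ⊓ X) ≤ finrank F X := Submodule.finrank_mono inf_le_right
  set C := C' ⊓ O with hC
  have hCX : ∀ x ∈ C, x ∈ X → x = 0 := by
    intro x hx hxX
    have h1 : x ∈ (O ⊓ X) ⊓ C' := ⟨⟨hx.2, hxX⟩, hx.1⟩
    rw [hC'.inf_eq_bot] at h1
    exact (Submodule.mem_bot F).1 h1
  have hCdim : 3 ≤ finrank F C := by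
    have h1 := Submodule.finrank_sup_add_finrank_inf_eq C' O
    have h2 : finrank F ↥(C' ⊔ O) ≤ finrank F V := Submodule.finrank_le _
    rw [← hC] at h1
    omega
  obtain ⟨p', hp'0, hp'⟩ := Cfsg.Agent.Lib.Helper5.exists_singular_of_finrank
    (Q.comp C.subtype) hCdim
  have hpC : (p' : V) ∈ C := p'.2
  have hpO : (p' : V) ∈ O := hpC.2
  have hp0 : (p' : V) ≠ 0 := fun h => hp'0 (Subtype.ext h)
  have hpX : (p' : V) ∉ X := fun h => hp0 (hCX _ hpC h)
  have hpQ : Q (p' : V) = 0 := hp'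
  obtain ⟨q₀, hq₀O, hq₀⟩ : ∃ q₀ ∈ O, QuadraticMap.polar (⇑Q) q₀ (p' : V) ≠ 0 := by
    by_contra hcon
    push Not at hcon
    exact hpX (fun n hn => hcon n hn)
  obtain ⟨p, hp⟩ : ∃ p : V, p = (p' : V) := ⟨_, rfl⟩
  rw [← hp] at hpO hpQ hq₀
  have hpq₀ : QuadraticMap.polar (⇑Q) p q₀ ≠ 0 := by rwa [QuadraticMap.polar_comm]
  obtain ⟨q₁, hq₁⟩ : ∃ q₁ : V, q₁ = (QuadraticMap.polar (⇑Q) p q₀)⁻¹ • q₀ := ⟨_, rfl⟩
  have hq₁O : q₁ ∈ O := by rw [hq₁]; exact O.smul_mem _ hq₀O
  have hpq₁ : QuadraticMap.polar (⇑Q) p q₁ = 1 := by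
    rw [hq₁, QuadraticMap.polar_smul_right, smul_eq_mul, inv_mul_cancel₀ hpq₀]
  obtain ⟨q, hq⟩ : ∃ q : V, q = q₁ + (-Q q₁) • p := ⟨_, rfl⟩
  have hqO : q ∈ O := by rw [hq]; exact O.add_mem hq₁O (O.smul_mem _ hpO)
  have hpp : QuadraticMap.polar (⇑Q) p p = 0 := by
    rw [QuadraticMap.polar_self, hpQ, smul_zero]
  refine ⟨p, q, hpO, hqO, hpQ, ?_, ?_⟩
  · rw [hq, QuadraticMap.map_add Q, QuadraticMap.map_smul, hpQ, QuadraticMap.polar_smul_right,
      QuadraticMap.polar_comm (⇑Q) q₁ p, hpq₁]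
    simp
  · rw [hq, QuadraticMap.polar_add_right, QuadraticMap.polar_smul_right, hpp, hpq₁]
    simp

end abstract

variable {F : Type*} [Field F] {ι : Type} [Fintype ι] [DecidableEq ι]
variable {Q : QuadraticForm F (ι → F)}

/-- an orthogonal splitting of the space -/
structure OrthSplit (Q : QuadraticForm F (ι → F)) (A B : Submodule F (ι → F)) : Prop where
  orth : ∀ a ∈ A, ∀ b ∈ B, QuadraticMap.polar (⇑Q) a b = 0
  sum : ∀ x : ι → F, ∃ a ∈ A, ∃ b ∈ B, x = a + b

namespace OrthSplit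

variable {A B : Submodule F (ι → F)}

theorem symm (h : OrthSplit Q A B) : OrthSplit Q B A where
  orth := fun b hb a ha => by rw [QuadraticMap.polar_comm]; exact h.orth a ha b hb
  sum := fun x => by
    obtain ⟨a, ha, b, hb, rfl⟩ := h.sum x
    exact ⟨b, hb, a, ha, add_comm a b⟩

/-- each summand is nondegenerate -/
theorem nondeg (h : OrthSplit Q A B) (hQ : (QuadraticMap.polarBilin Q).Nondegenerate)
    {a : ι → F} (ha : a ∈ A) (h0 : ∀ a' ∈ A, QuadraticMap.polar (⇑Q) a a' = 0) : a = 0 := by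
  apply hQ.1
  intro x
  obtain ⟨a', ha', b, hb, rfl⟩ := h.sum x
  show QuadraticMap.polar (⇑Q) a (a' + b) = 0
  rw [QuadraticMap.polar_add_right, h0 a' ha', h.orth a ha b hb, add_zero]

theorem disj (h : OrthSplit Q A B) (hQ : (QuadraticMap.polarBilin Q).Nondegenerate)
    {x : ι → F} (hA : x ∈ A) (hB : x ∈ B) : x = 0 :=
  h.nondeg hQ hA (fun a' ha' => by rw [QuadraticMap.polar_comm]; exact h.orth a' ha' x hB)

/-- `A` is the orthogonal complement of `B` -/
theorem mem_left_iff (h : OrthSplit Q A B) (hQ : (QuadraticMap.polarBilin Q).Nondegenerate)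
    (x : ι → F) : x ∈ A ↔ ∀ b ∈ B, QuadraticMap.polar (⇑Q) x b = 0 := by
  constructor
  · intro hx b hb
    exact h.orth x hx b hb
  · intro hx
    obtain ⟨a, ha, b, hb, rfl⟩ := h.sum x
    have hb0 : b = 0 := by
      apply h.symm.nondeg hQ hb
      intro b' hb'
      have := hx b' hb'
      rw [QuadraticMap.polar_add_left, h.orth a ha b' hb', zero_add] at this
      exact this
    rw [hb0, add_zero]
    exact ha

theorem finrank_add (h : OrthSplit Q A B) (hQ : (QuadraticMap.polarBilin Q).Nondegenerate) :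
    finrank F A + finrank F B = Fintype.card ι := by
  have hdisj : Disjoint A B := by
    rw [Submodule.disjoint_def]
    intro x hA hB
    exact h.disj hQ hA hB
  have hsup : A ⊔ B = ⊤ := by
    rw [eq_top_iff]
    intro x _
    obtain ⟨a, ha, b, hb, rfl⟩ := h.sum x
    exact Submodule.add_mem_sup ha hb
  have h1 := Submodule.finrank_sup_add_finrank_inf_eq A B
  rw [hsup, disjoint_iff.1 hdisj, finrank_bot, add_zero, finrank_top,
    Module.finrank_fintype_fun_eq_card] at h1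
  exact h1.symm

/-- the restricted form is nondegenerate -/
theorem nondeg_comp (h : OrthSplit Q A B) (hQ : (QuadraticMap.polarBilin Q).Nondegenerate) :
    (QuadraticMap.polarBilin (Q.comp A.subtype)).Nondegenerate := by
  constructor
  · intro a ha
    apply Subtype.ext
    apply h.nondeg hQ a.2
    intro a' ha'
    have := ha ⟨a', ha'⟩
    have h2 : QuadraticMap.polar (⇑(Q.comp A.subtype)) a ⟨a', ha'⟩ = 0 := this
    rw [Cfsg.Agent.Lib.Helper5.polar_comp_subtype] at h2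
    exact h2
  · intro a ha
    apply Subtype.ext
    apply h.nondeg hQ a.2
    intro a' ha'
    have := ha ⟨a', ha'⟩
    have h2 : QuadraticMap.polar (⇑(Q.comp A.subtype)) ⟨a', ha'⟩ a = 0 := this
    rw [Cfsg.Agent.Lib.Helper5.polar_comp_subtype] at h2
    rw [QuadraticMap.polar_comm]
    exact h2

/-- a hyperbolic pair inside `A` orthogonal to a small subspace -/
theorem exists_hyp_in [Finite F] (h : OrthSplit Q A B)
    (hQ : (QuadraticMap.polarBilin Q).Nondegenerate) (X : Submodule F (ι → F))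
    (hdim : 2 * finrank F X + 3 ≤ finrank F A) :
    ∃ p q : ι → F, p ∈ A ∧ q ∈ A ∧ Q p = 0 ∧ Q q = 0 ∧ QuadraticMap.polar (⇑Q) p q = 1 ∧
      ∀ x ∈ X, QuadraticMap.polar (⇑Q) x p = 0 ∧ QuadraticMap.polar (⇑Q) x q = 0 := by
  classical
  set Y := LinearMap.BilinForm.orthogonal (QuadraticMap.polarBilin Q) X with hY
  have hn : finrank F (ι → F) = Fintype.card ι := Module.finrank_fintype_fun_eq_card F
  have hYdim : finrank F Y = Fintype.card ι - finrank F X := by
    rw [hY, LinearMap.BilinForm.finrank_orthogonal hQ, hn]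
  have hXle : finrank F X ≤ Fintype.card ι := by rw [← hn]; exact Submodule.finrank_le X
  have hinf : finrank F A ≤ finrank F ↥(A ⊓ Y) + finrank F X := by
    have h1 := Submodule.finrank_sup_add_finrank_inf_eq A Y
    have h2 : finrank F ↥(A ⊔ Y) ≤ Fintype.card ι := by rw [← hn]; exact Submodule.finrank_le _
    omega
  set O : Submodule F ↥A := (A ⊓ Y).comap A.subtype with hO
  have hOdim : finrank F O = finrank F ↥(A ⊓ Y) :=
    LinearEquiv.finrank_eq (Submodule.comapSubtypeEquivOfLe (inf_le_left : A ⊓ Y ≤ A))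
  obtain ⟨p, q, hpO, hqO, hp, hq, hpq⟩ := exists_hyp_of_codim (Q.comp A.subtype)
    (h.nondeg_comp hQ) O (by omega)
  have hpY : (p : ι → F) ∈ Y := (show (p : ι → F) ∈ A ⊓ Y from hpO).2
  have hqY : (q : ι → F) ∈ Y := (show (q : ι → F) ∈ A ⊓ Y from hqO).2
  refine ⟨p, q, p.2, q.2, hp, hq, ?_, ?_⟩
  · rw [← Cfsg.Agent.Lib.Helper5.polar_comp_subtype]; exact hpq
  · intro x hx
    exact ⟨hpY x hx, hqY x hx⟩

/-- a singular vector of `A` has a singular partner inside `A` -/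
theorem exists_partner_in (h : OrthSplit Q A B) (hQ : (QuadraticMap.polarBilin Q).Nondegenerate)
    {u : ι → F} (huA : u ∈ A) (hu0 : u ≠ 0) (hu : Q u = 0) :
    ∃ p ∈ A, Q p = 0 ∧ QuadraticMap.polar (⇑Q) u p = 1 := by
  obtain ⟨a, haA, hua⟩ : ∃ a ∈ A, QuadraticMap.polar (⇑Q) u a ≠ 0 := by
    by_contra hcon
    push Not at hcon
    exact hu0 (h.nondeg hQ huA hcon)
  obtain ⟨a₁, ha₁⟩ : ∃ a₁ : ι → F, a₁ = (QuadraticMap.polar (⇑Q) u a)⁻¹ • a := ⟨_, rfl⟩
  have ha₁A : a₁ ∈ A := by rw [ha₁]; exact A.smul_mem _ haA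
  have hua₁ : QuadraticMap.polar (⇑Q) u a₁ = 1 := by
    rw [ha₁, QuadraticMap.polar_smul_right, smul_eq_mul, inv_mul_cancel₀ hua]
  have huu : QuadraticMap.polar (⇑Q) u u = 0 := by rw [polar_self, hu, mul_zero]
  refine ⟨a₁ + (-Q a₁) • u, A.add_mem ha₁A (A.smul_mem _ huA), ?_, ?_⟩
  · rw [map_add_smul, hu, QuadraticMap.polar_comm (⇑Q) a₁ u, hua₁]
    ring
  · rw [QuadraticMap.polar_add_right, QuadraticMap.polar_smul_right, huu, hua₁]
    simp

end OrthSplit

end Cfsg.Agent.H9Orth
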