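import Mathlib
import Cfsg.Prelude
import Cfsg.Agent.Lib.Helper9.OrthMax7

set_option autoImplicit false

/-! Subspaces invariant under Eichler transformations. -/

namespace Cfsg.Agent.H9Orth

open Matrix Module Cfsg.Agent.Lib.Helper2.ReflGen Cfsg.Agent.Lib.Helper2.CDG

variable {F : Type*} [Field F] {ι : Type} [Fintype ι] [DecidableEq ι]
variable {Q : QuadraticForm F (ι → F)}

/-- the basic argument: a subspace invariant under enough Eichler transformations at `p` and
containing a vector not orthogonal to `p` contains `p` and the relevant part of `p^⊥` -/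
theorem mem_of_eich_invariant (hQ : (QuadraticMap.polarBilin Q).Nondegenerate)
    (X D : Submodule F (ι → F)) (p x : ι → F) (hp : Q p = 0) (hx : x ∈ X)
    (hpx : QuadraticMap.polar (⇑Q) p x ≠ 0)
    (hinv : ∀ d ∈ D, ∀ hd : QuadraticMap.polar (⇑Q) p d = 0,
      ((eich hQ p d hp hd : Matrix.GeneralLinearGroup ι F) : Matrix ι ι F) *ᵥ x ∈ X)
    (c c' : ι → F) (hcD : c ∈ D) (hc'D : c' ∈ D) (hc : QuadraticMap.polar (⇑Q) p c = 0)
    (hc' : QuadraticMap.polar (⇑Q) p c' = 0) (hcc' : QuadraticMap.polar (⇑Q) c c' ≠ 0) :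
    p ∈ X ∧ ∀ d ∈ D, QuadraticMap.polar (⇑Q) p d = 0 → d ∈ X := by
  obtain ⟨β, hβ⟩ : ∃ β : F, β = QuadraticMap.polar (⇑Q) p x := ⟨_, rfl⟩
  rw [← hβ] at hpx
  -- `Φ d = β d - (B(d,x) + Q(d) β) p ∈ X`
  have hΦ : ∀ d ∈ D, QuadraticMap.polar (⇑Q) p d = 0 →
      β • d - (QuadraticMap.polar (⇑Q) d x + Q d * β) • p ∈ X := by
    intro d hdD hd
    have h1 := X.sub_mem (hinv d hdD hd) hx
    rw [eich_mulVec, ← hβ] at h1
    have e : x + β • d - QuadraticMap.polar (⇑Q) d x • p - (Q d * β) • p - x =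
        β • d - (QuadraticMap.polar (⇑Q) d x + Q d * β) • p := by module
    rwa [e] at h1
  have hcc : QuadraticMap.polar (⇑Q) p (c + c') = 0 := by
    rw [QuadraticMap.polar_add_right, hc, hc', add_zero]
  have h1 := hΦ (c + c') (D.add_mem hcD hc'D) hcc
  have h2 := hΦ c hcD hc
  have h3 := hΦ c' hc'D hc'
  have h4 := X.sub_mem (X.sub_mem h1 h2) h3
  have e : β • (c + c') - (QuadraticMap.polar (⇑Q) (c + c') x + Q (c + c') * β) • p -
      (β • c - (QuadraticMap.polar (⇑Q) c x + Q c * β) • p) -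
      (β • c' - (QuadraticMap.polar (⇑Q) c' x + Q c' * β) • p) =
      (-(QuadraticMap.polar (⇑Q) c c' * β)) • p := by
    rw [QuadraticMap.map_add Q c c', QuadraticMap.polar_add_left]
    module
  rw [e] at h4
  have hne : -(QuadraticMap.polar (⇑Q) c c' * β) ≠ 0 := neg_ne_zero.2 (mul_ne_zero hcc' hpx)
  have hpX : p ∈ X := by
    have := X.smul_mem (-(QuadraticMap.polar (⇑Q) c c' * β))⁻¹ h4
    rwa [smul_smul, inv_mul_cancel₀ hne, one_smul] at this
  refine ⟨hpX, ?_⟩
  intro d hdD hd
  have h5 := X.add_mem (hΦ d hdD hd) (X.smul_mem (QuadraticMap.polar (⇑Q) d x + Q d * β) hpX)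
  rw [sub_add_cancel] at h5
  have := X.smul_mem β⁻¹ h5
  rwa [smul_smul, inv_mul_cancel₀ hpx, one_smul] at this

namespace OrthSplit

variable {A B : Submodule F (ι → F)}

/-- decomposition of a vector of `A` along a hyperbolic pair -/
theorem hyp_decomp (p p' a : ι → F) (hp : Q p = 0) (hp' : Q p' = 0)
    (hpp' : QuadraticMap.polar (⇑Q) p p' = 1) :
    QuadraticMap.polar (⇑Q) p
      (a - QuadraticMap.polar (⇑Q) p' a • p - QuadraticMap.polar (⇑Q) p a • p') = 0 ∧
    QuadraticMap.polar (⇑Q) p'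
      (a - QuadraticMap.polar (⇑Q) p' a • p - QuadraticMap.polar (⇑Q) p a • p') = 0 := by
  have h1 : QuadraticMap.polar (⇑Q) p p = 0 := by rw [polar_self, hp, mul_zero]
  have h2 : QuadraticMap.polar (⇑Q) p' p' = 0 := by rw [polar_self, hp', mul_zero]
  have h3 : QuadraticMap.polar (⇑Q) p' p = 1 := by rw [QuadraticMap.polar_comm]; exact hpp'
  constructor
  · rw [QuadraticMap.polar_sub_right, QuadraticMap.polar_sub_right,
      QuadraticMap.polar_smul_right, QuadraticMap.polar_smul_right, h1, hpp']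
    simp
  · rw [QuadraticMap.polar_sub_right, QuadraticMap.polar_sub_right,
      QuadraticMap.polar_smul_right, QuadraticMap.polar_smul_right, h2, h3]
    simp

/-- room next to a hyperbolic pair in a nondegenerate subspace of dimension at least three -/
theorem exists_room (h : OrthSplit Q A B) (hQ : (QuadraticMap.polarBilin Q).Nondegenerate)
    (h3 : 3 ≤ finrank F A) (p p' : ι → F) (hpA : p ∈ A) (hp'A : p' ∈ A) (hp : Q p = 0)
    (hp' : Q p' = 0) (hpp' : QuadraticMap.polar (⇑Q) p p' = 1) :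
    ∃ c c' : ι → F, c ∈ A ∧ c' ∈ A ∧ QuadraticMap.polar (⇑Q) p c = 0 ∧
      QuadraticMap.polar (⇑Q) p' c = 0 ∧ QuadraticMap.polar (⇑Q) p c' = 0 ∧
      QuadraticMap.polar (⇑Q) p' c' = 0 ∧ QuadraticMap.polar (⇑Q) c c' ≠ 0 := by
  classical
  set Y := LinearMap.BilinForm.orthogonal (QuadraticMap.polarBilin Q) (Submodule.span F {p, p'})
    with hY
  have hn : finrank F (ι → F) = Fintype.card ι := Module.finrank_fintype_fun_eq_card F
  have hYdim : finrank F Y = Fintype.card ι - finrank F ↥(Submodule.span F {p, p'}) := by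
    rw [hY, LinearMap.BilinForm.finrank_orthogonal hQ, hn]
  have hsp := finrank_span_pair_le p p'
  have hsple : finrank F ↥(Submodule.span F {p, p'}) ≤ Fintype.card ι := by
    rw [← hn]; exact Submodule.finrank_le _
  have hinf : 1 ≤ finrank F ↥(A ⊓ Y) := by
    have h1 := Submodule.finrank_sup_add_finrank_inf_eq A Y
    have h2 : finrank F ↥(A ⊔ Y) ≤ Fintype.card ι := by rw [← hn]; exact Submodule.finrank_le _
    omega
  have hne : A ⊓ Y ≠ ⊥ := by
    intro h0
    rw [h0, finrank_bot] at hinf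
    omega
  obtain ⟨c, hcAY, hc0⟩ := Submodule.exists_mem_ne_zero_of_ne_bot hne
  have hcA : c ∈ A := hcAY.1
  have hpc : QuadraticMap.polar (⇑Q) p c = 0 := hcAY.2 p (Submodule.subset_span (by simp))
  have hp'c : QuadraticMap.polar (⇑Q) p' c = 0 := hcAY.2 p' (Submodule.subset_span (by simp))
  -- a vector of `A` not orthogonal to `c`
  obtain ⟨a, haA, hca⟩ : ∃ a ∈ A, QuadraticMap.polar (⇑Q) c a ≠ 0 := by
    by_contra hcon
    push Not at hcon
    exact hc0 (h.nondeg hQ hcA hcon)
  obtain ⟨hd1, hd2⟩ := hyp_decomp p p' a hp hp' hpp'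
  refine ⟨c, a - QuadraticMap.polar (⇑Q) p' a • p - QuadraticMap.polar (⇑Q) p a • p', hcA,
    A.sub_mem (A.sub_mem haA (A.smul_mem _ hpA)) (A.smul_mem _ hp'A), hpc, hp'c, hd1, hd2, ?_⟩
  rw [QuadraticMap.polar_sub_right, QuadraticMap.polar_sub_right,
    QuadraticMap.polar_smul_right, QuadraticMap.polar_smul_right,
    QuadraticMap.polar_comm (⇑Q) c p, QuadraticMap.polar_comm (⇑Q) c p', hpc, hp'c]
  simpa using hca

/-- a nondegenerate subspace of dimension at most two containing a hyperbolic pair is spanned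
by it -/
theorem eq_of_finrank_le_two (h : OrthSplit Q A B)
    (h2 : finrank F A ≤ 2) (p p' : ι → F) (hpA : p ∈ A) (hp'A : p' ∈ A) (hp : Q p = 0)
    (hp' : Q p' = 0) (hpp' : QuadraticMap.polar (⇑Q) p p' = 1) (a : ι → F) (haA : a ∈ A) :
    a = QuadraticMap.polar (⇑Q) p' a • p + QuadraticMap.polar (⇑Q) p a • p' := by
  classical
  obtain ⟨hd1, hd2⟩ := hyp_decomp p p' a hp hp' hpp'
  obtain ⟨r, hr⟩ : ∃ r : ι → F,
      r = a - QuadraticMap.polar (⇑Q) p' a • p - QuadraticMap.polar (⇑Q) p a • p' := ⟨_, rfl⟩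
  rw [← hr] at hd1 hd2
  have hrA : r ∈ A := by
    rw [hr]; exact A.sub_mem (A.sub_mem haA (A.smul_mem _ hpA)) (A.smul_mem _ hp'A)
  have h1 : QuadraticMap.polar (⇑Q) p p = 0 := by rw [polar_self, hp, mul_zero]
  have h2' : QuadraticMap.polar (⇑Q) p' p' = 0 := by rw [polar_self, hp', mul_zero]
  have h3 : QuadraticMap.polar (⇑Q) p' p = 1 := by rw [QuadraticMap.polar_comm]; exact hpp'
  by_contra hne
  have hr0 : r ≠ 0 := by
    intro h0
    apply hne
    have : a = r + QuadraticMap.polar (⇑Q) p' a • p + QuadraticMap.polar (⇑Q) p a • p' := by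
      rw [hr]; abel
    rw [this, h0, zero_add]
    congr 1 <;> simp [QuadraticMap.polar_add_right, QuadraticMap.polar_smul_right, h1, h2', h3,
      hpp']
  -- `p, p', r` are linearly independent in `A`
  have hli : LinearIndependent F ![p, p', r] := by
    rw [Fintype.linearIndependent_iff]
    intro g hg
    rw [Fin.sum_univ_three] at hg
    replace hg : g 0 • p + g 1 • p' + g 2 • r = 0 := hg
    have e0 : g 0 = 0 := by
      have := congrArg (fun y => QuadraticMap.polar (⇑Q) p' y) hg
      simp only [QuadraticMap.polar_add_right, QuadraticMap.polar_smul_right, h3, h2', hd2,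
        smul_eq_mul, mul_one, mul_zero, add_zero] at this
      have h00 : QuadraticMap.polar (⇑Q) p' 0 = 0 := by simp [QuadraticMap.polar]
      rw [h00] at this
      exact this
    have e1 : g 1 = 0 := by
      have := congrArg (fun y => QuadraticMap.polar (⇑Q) p y) hg
      simp only [QuadraticMap.polar_add_right, QuadraticMap.polar_smul_right, h1, hpp', hd1,
        smul_eq_mul, mul_one, mul_zero, add_zero, zero_add] at this
      have h00 : QuadraticMap.polar (⇑Q) p 0 = 0 := by simp [QuadraticMap.polar]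
      rw [h00] at this
      exact this
    have e2 : g 2 = 0 := by
      rw [e0, e1, zero_smul, zero_smul, zero_add, zero_add] at hg
      rcases smul_eq_zero.1 hg with h | h
      · exact h
      · exact absurd h hr0
    intro i
    fin_cases i
    · exact e0
    · exact e1
    · exact e2
  have hspan : Submodule.span F (Set.range ![p, p', r]) ≤ A := by
    rw [Submodule.span_le]
    rintro _ ⟨i, rfl⟩
    fin_cases i
    · exact hpA
    · exact hp'A
    · exact hrA
  have hcard := finrank_span_eq_card hli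
  rw [Fintype.card_fin] at hcard
  have := Submodule.finrank_mono hspan
  omega

end OrthSplit

end Cfsg.Agent.H9Orth
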