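import Mathlib
import Cfsg.Prelude
import Cfsg.Agent.Lib.Helper9.OrthMax8

set_option autoImplicit false

/-! Irreducibility: a nonzero subspace of a nondegenerate summand invariant under reflections and
Eichler transformations of that summand is the whole summand (with the known exceptions). -/

namespace Cfsg.Agent.H9Orth

open Matrix Module Cfsg.Agent.Lib.Helper2.ReflGen Cfsg.Agent.Lib.Helper2.CDG

variable {F : Type*} [Field F] {ι : Type} [Fintype ι] [DecidableEq ι]
variable {Q : QuadraticForm F (ι → F)}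

namespace OrthSplit

variable {A B : Submodule F (ι → F)}

theorem irreducible [Fintype F] (h : OrthSplit Q A B)
    (hQ : (QuadraticMap.polarBilin Q).Nondegenerate)
    (B₀ : Submodule F (ι → F)) (b₁ : ι → F) (hb₁ : b₁ ∈ B₀) (hb₁A : b₁ ∈ A) (hb₁0 : b₁ ≠ 0)
    (hR : ∀ z ∈ A, Q z ≠ 0 → ∀ b ∈ B₀, QuadraticMap.polar (⇑Q) b z ≠ 0 → z ∈ B₀)
    (hE : ∀ p ∈ A, ∀ hp : Q p = 0, ∀ d ∈ A, ∀ hd : QuadraticMap.polar (⇑Q) p d = 0,
      ∀ b ∈ B₀, ((eich hQ p d hp hd : Matrix.GeneralLinearGroup ι F) : Matrix ι ι F) *ᵥ b ∈ B₀)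
    (hX : Fintype.card F ≤ 3 → ∀ e f : ι → F, e ∈ A → f ∈ A → Q e = 0 → Q f = 0 →
      QuadraticMap.polar (⇑Q) e f = 1 →
      ∃ c ∈ A, c ≠ 0 ∧ QuadraticMap.polar (⇑Q) e c = 0 ∧ QuadraticMap.polar (⇑Q) f c = 0) :
    A ≤ B₀ := by
  classical
  by_cases hsing : ∃ p ∈ A, p ≠ 0 ∧ Q p = 0
  · obtain ⟨p₀, hp₀A, hp₀0, hp₀⟩ := hsing
    obtain ⟨p₀', hp₀'A, hp₀', hpp₀⟩ := h.exists_partner_in hQ hp₀A hp₀0 hp₀
    by_cases h3 : 3 ≤ finrank F A
    · -- a singular vector of `A` not orthogonal to `b₁`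
      obtain ⟨p, hpA, hp, hpb⟩ : ∃ p ∈ A, Q p = 0 ∧ QuadraticMap.polar (⇑Q) p b₁ ≠ 0 := by
        by_cases h1 : QuadraticMap.polar (⇑Q) p₀ b₁ ≠ 0
        · exact ⟨p₀, hp₀A, hp₀, h1⟩
        by_cases h2 : QuadraticMap.polar (⇑Q) p₀' b₁ ≠ 0
        · exact ⟨p₀', hp₀'A, hp₀', h2⟩
        push Not at h1 h2
        obtain ⟨a, haA, hba⟩ : ∃ a ∈ A, QuadraticMap.polar (⇑Q) b₁ a ≠ 0 := by
          by_contra hcon
          push Not at hcon
          exact hb₁0 (h.nondeg hQ hb₁A hcon)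
        obtain ⟨hd1, hd2⟩ := hyp_decomp p₀ p₀' a hp₀ hp₀' hpp₀
        obtain ⟨c, hc⟩ : ∃ c : ι → F, c = a - QuadraticMap.polar (⇑Q) p₀' a • p₀ -
            QuadraticMap.polar (⇑Q) p₀ a • p₀' := ⟨_, rfl⟩
        rw [← hc] at hd1 hd2
        have hcA : c ∈ A := by
          rw [hc]
          exact A.sub_mem (A.sub_mem haA (A.smul_mem _ hp₀A)) (A.smul_mem _ hp₀'A)
        have hb₁p₀ : QuadraticMap.polar (⇑Q) b₁ p₀ = 0 := by
          rw [QuadraticMap.polar_comm]; exact h1
        have hb₁p₀' : QuadraticMap.polar (⇑Q) b₁ p₀' = 0 := by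
          rw [QuadraticMap.polar_comm]; exact h2
        have hbc : QuadraticMap.polar (⇑Q) b₁ c ≠ 0 := by
          rw [hc, QuadraticMap.polar_sub_right, QuadraticMap.polar_sub_right,
            QuadraticMap.polar_smul_right, QuadraticMap.polar_smul_right, hb₁p₀, hb₁p₀']
          simpa using hba
        have hcp₀ : QuadraticMap.polar (⇑Q) c p₀ = 0 := by
          rw [QuadraticMap.polar_comm]; exact hd1
        have hcp₀' : QuadraticMap.polar (⇑Q) c p₀' = 0 := by
          rw [QuadraticMap.polar_comm]; exact hd2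
        refine ⟨c + p₀ + (-Q c) • p₀', A.add_mem (A.add_mem hcA hp₀A) (A.smul_mem _ hp₀'A), ?_, ?_⟩
        · have e : c + p₀ + (-Q c) • p₀' = (1 : F) • c + (1 : F) • p₀ + (-Q c) • p₀' := by
            rw [one_smul, one_smul]
          rw [e, Cfsg.Agent.Lib.Helper5.map_lin3, hp₀, hp₀', hcp₀, hcp₀', hpp₀]
          ring
        · rw [QuadraticMap.polar_add_left, QuadraticMap.polar_add_left,
            QuadraticMap.polar_smul_left, h1, h2, QuadraticMap.polar_comm (⇑Q) c b₁]
          simpa using hbc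
      have hp0 : p ≠ 0 := by
        rintro rfl
        apply hpb
        simp [QuadraticMap.polar]
      obtain ⟨p', hp'A, hp', hpp'⟩ := h.exists_partner_in hQ hpA hp0 hp
      obtain ⟨c, c', hcA, hc'A, hpc, hp'c, hpc', hp'c', hcc'⟩ :=
        h.exists_room hQ h3 p p' hpA hp'A hp hp' hpp'
      obtain ⟨hpB₀, hperp⟩ := mem_of_eich_invariant hQ B₀ A p b₁ hp hb₁ hpb
        (fun d hdA hd => hE p hpA hp d hdA hd b₁ hb₁) c c' hcA hc'A hpc hpc' hcc'
      have hp'p : QuadraticMap.polar (⇑Q) p' p = 1 := by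
        rw [QuadraticMap.polar_comm]; exact hpp'
      obtain ⟨hp'B₀, -⟩ := mem_of_eich_invariant hQ B₀ A p' p hp' hpB₀
        (by rw [hp'p]; exact one_ne_zero)
        (fun d hdA hd => hE p' hp'A hp' d hdA hd p hpB₀) c c' hcA hc'A hp'c hp'c' hcc'
      intro a haA
      have hpp : QuadraticMap.polar (⇑Q) p p = 0 := by rw [polar_self, hp, mul_zero]
      have h1 : a - QuadraticMap.polar (⇑Q) p a • p' ∈ B₀ := by
        apply hperp _ (A.sub_mem haA (A.smul_mem _ hp'A))
        rw [QuadraticMap.polar_sub_right, QuadraticMap.polar_smul_right, hpp']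
        simp
      have := B₀.add_mem h1 (B₀.smul_mem (QuadraticMap.polar (⇑Q) p a) hp'B₀)
      rwa [sub_add_cancel] at this
    · -- the hyperbolic plane
      push Not at h3
      have h2 : finrank F A ≤ 2 := by omega
      have hspan := h.eq_of_finrank_le_two h2 p₀ p₀' hp₀A hp₀'A hp₀ hp₀' hpp₀
      have hq4 : 4 ≤ Fintype.card F := by
        by_contra hcon
        push Not at hcon
        obtain ⟨c, hcA, hc0, hec, hfc⟩ := hX (by omega) p₀ p₀' hp₀A hp₀'A hp₀ hp₀' hpp₀
        apply hc0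
        rw [hspan c hcA, hec, hfc, zero_smul, zero_smul, add_zero]
      obtain ⟨x, hx⟩ : ∃ x : F, x = QuadraticMap.polar (⇑Q) b₁ p₀' := ⟨_, rfl⟩
      obtain ⟨y, hy⟩ : ∃ y : F, y = QuadraticMap.polar (⇑Q) b₁ p₀ := ⟨_, rfl⟩
      have hxy : ¬ (x = 0 ∧ y = 0) := by
        rintro ⟨hx0, hy0⟩
        apply hb₁0
        rw [hspan b₁ hb₁A, QuadraticMap.polar_comm (⇑Q) p₀' b₁, QuadraticMap.polar_comm (⇑Q) p₀ b₁,
          ← hx, ← hy, hx0, hy0, zero_smul, zero_smul, add_zero]
      -- two good parameters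
      have hcard : 1 < (Finset.univ \ ({0, -y / x} : Finset F)).card := by
        rw [Finset.card_univ_diff]
        have : ({0, -y / x} : Finset F).card ≤ 2 := Finset.card_le_two
        omega
      obtain ⟨β₁, hβ₁, β₂, hβ₂, hne⟩ := Finset.one_lt_card.1 hcard
      have hgood : ∀ β : F, β ∈ Finset.univ \ ({0, -y / x} : Finset F) →
          p₀ + β • p₀' ∈ B₀ := by
        intro β hβ
        rw [Finset.mem_sdiff, Finset.mem_insert, Finset.mem_singleton] at hβ
        have hβ' := hβ.2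
        push Not at hβ'
        obtain ⟨hβ0, hβ1⟩ := hβ'
        apply hR _ (A.add_mem hp₀A (A.smul_mem _ hp₀'A)) _ b₁ hb₁
        · rw [QuadraticMap.polar_add_right, QuadraticMap.polar_smul_right, ← hx, ← hy,
            smul_eq_mul]
          intro h0
          by_cases hx0 : x = 0
          · rw [hx0, mul_zero, add_zero] at h0
            exact hxy ⟨hx0, h0⟩
          · apply hβ1
            field_simp
            linear_combination h0
        · rw [map_add_smul, hp₀, hp₀', hpp₀]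
          simpa using hβ0
      have hz₁ := hgood β₁ hβ₁
      have hz₂ := hgood β₂ hβ₂
      have hf : p₀' ∈ B₀ := by
        have h1 := B₀.sub_mem hz₁ hz₂
        have e : p₀ + β₁ • p₀' - (p₀ + β₂ • p₀') = (β₁ - β₂) • p₀' := by module
        rw [e] at h1
        have hne' : β₁ - β₂ ≠ 0 := sub_ne_zero.2 hne
        have := B₀.smul_mem (β₁ - β₂)⁻¹ h1
        rwa [smul_smul, inv_mul_cancel₀ hne', one_smul] at this
      have he : p₀ ∈ B₀ := by
        have := B₀.sub_mem hz₁ (B₀.smul_mem β₁ hf)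
        rwa [add_sub_cancel_right] at this
      intro a haA
      rw [hspan a haA]
      exact B₀.add_mem (B₀.smul_mem _ he) (B₀.smul_mem _ hf)
  · -- the anisotropic case
    push Not at hsing
    obtain ⟨z₀, hz₀A, hbz₀⟩ : ∃ z₀ ∈ A, QuadraticMap.polar (⇑Q) b₁ z₀ ≠ 0 := by
      by_contra hcon
      push Not at hcon
      exact hb₁0 (h.nondeg hQ hb₁A hcon)
    have key : ∀ z ∈ A, QuadraticMap.polar (⇑Q) b₁ z ≠ 0 → z ∈ B₀ := by
      intro z hzA hbz
      have hz0 : z ≠ 0 := by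
        rintro rfl
        apply hbz
        simp [QuadraticMap.polar]
      have hzQ : Q z ≠ 0 := fun h0 => hz0 (by
        by_contra hne
        exact hsing z hzA hne h0)
      exact hR z hzA hzQ b₁ hb₁ hbz
    intro a haA
    by_cases hba : QuadraticMap.polar (⇑Q) b₁ a = 0
    · have h1 : a + z₀ ∈ B₀ := by
        apply key _ (A.add_mem haA hz₀A)
        rw [QuadraticMap.polar_add_right, hba, zero_add]
        exact hbz₀
      have := B₀.sub_mem h1 (key z₀ hz₀A hbz₀)
      rwa [add_sub_cancel_right] at this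
    · exact key a haA hba

end OrthSplit

end Cfsg.Agent.H9Orth
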