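import Mathlib
import Cfsg.Prelude
import Cfsg.Agent.Lib.Helper9.OrthMax9

set_option autoImplicit false

/-! Subspaces invariant under the Eichler transformations of a nondegenerate summand, and
auxiliary facts for the maximality of the stabiliser of a nondegenerate subspace. -/

namespace Cfsg.Agent.H9Orth

open Matrix Module Cfsg.Agent.Lib.Helper2.ReflGen Cfsg.Agent.Lib.Helper2.CDG

variable {F : Type*} [Field F] {ι : Type} [Fintype ι] [DecidableEq ι]
variable {Q : QuadraticForm F (ι → F)}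

theorem eich_fix (hQ : (QuadraticMap.polarBilin Q).Nondegenerate) (p d x : ι → F)
    (hp : Q p = 0) (hd : QuadraticMap.polar (⇑Q) p d = 0)
    (hpx : QuadraticMap.polar (⇑Q) p x = 0) (hdx : QuadraticMap.polar (⇑Q) d x = 0) :
    ((eich hQ p d hp hd : Matrix.GeneralLinearGroup ι F) : Matrix ι ι F) *ᵥ x = x := by
  rw [eich_mulVec, hpx, hdx]
  simp

namespace OrthSplit

variable {A B : Submodule F (ι → F)}

/-- a singular vector of `A` not orthogonal to a given vector -/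
theorem exists_singular_not_perp [Finite F] (h : OrthSplit Q A B)
    (hQ : (QuadraticMap.polarBilin Q).Nondegenerate) (h3 : 3 ≤ finrank F A)
    (x : ι → F) (hx : ∃ a ∈ A, QuadraticMap.polar (⇑Q) a x ≠ 0) :
    ∃ p ∈ A, Q p = 0 ∧ QuadraticMap.polar (⇑Q) p x ≠ 0 := by
  obtain ⟨p₀, p₀', hp₀A, hp₀'A, hp₀, hp₀', hpp₀, -⟩ := h.exists_hyp_in hQ ⊥ (by
    rw [finrank_bot]; omega)
  by_cases h1 : QuadraticMap.polar (⇑Q) p₀ x ≠ 0
  · exact ⟨p₀, hp₀A, hp₀, h1⟩
  by_cases h2 : QuadraticMap.polar (⇑Q) p₀' x ≠ 0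
  · exact ⟨p₀', hp₀'A, hp₀', h2⟩
  push Not at h1 h2
  obtain ⟨a, haA, hax⟩ := hx
  obtain ⟨hd1, hd2⟩ := hyp_decomp p₀ p₀' a hp₀ hp₀' hpp₀
  obtain ⟨c, hc⟩ : ∃ c : ι → F, c = a - QuadraticMap.polar (⇑Q) p₀' a • p₀ -
      QuadraticMap.polar (⇑Q) p₀ a • p₀' := ⟨_, rfl⟩
  rw [← hc] at hd1 hd2
  have hcA : c ∈ A := by
    rw [hc]
    exact A.sub_mem (A.sub_mem haA (A.smul_mem _ hp₀A)) (A.smul_mem _ hp₀'A)
  have hcx : QuadraticMap.polar (⇑Q) c x ≠ 0 := by
    rw [hc, QuadraticMap.polar_sub_left, QuadraticMap.polar_sub_left,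
      QuadraticMap.polar_smul_left, QuadraticMap.polar_smul_left, h1, h2]
    simpa using hax
  have hcp₀ : QuadraticMap.polar (⇑Q) c p₀ = 0 := by
    rw [QuadraticMap.polar_comm]; exact hd1
  have hcp₀' : QuadraticMap.polar (⇑Q) c p₀' = 0 := by
    rw [QuadraticMap.polar_comm]; exact hd2
  refine ⟨c + p₀ + (-Q c) • p₀', A.add_mem (A.add_mem hcA hp₀A) (A.smul_mem _ hp₀'A), ?_, ?_⟩
  · have e : c + p₀ + (-Q c) • p₀' = (1 : F) • c + (1 : F) • p₀ + (-Q c) • p₀' := by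
      rw [one_smul, one_smul]
    rw [e, Cfsg.Agent.Lib.Helper5.map_lin3, hp₀, hp₀', hcp₀, hcp₀', hpp₀]
    ring
  · rw [QuadraticMap.polar_add_left, QuadraticMap.polar_add_left,
      QuadraticMap.polar_smul_left, h1, h2]
    simpa using hcx

/-- a subspace invariant under the Eichler transformations of `A` and not orthogonal to `A`
contains `A` -/
theorem eich_invariant_ge [Finite F] (h : OrthSplit Q A B)
    (hQ : (QuadraticMap.polarBilin Q).Nondegenerate) (h3 : 3 ≤ finrank F A)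
    (X : Submodule F (ι → F))
    (hE : ∀ p ∈ A, ∀ hp : Q p = 0, ∀ d ∈ A, ∀ hd : QuadraticMap.polar (⇑Q) p d = 0,
      ∀ x ∈ X, ((eich hQ p d hp hd : Matrix.GeneralLinearGroup ι F) : Matrix ι ι F) *ᵥ x ∈ X)
    (x : ι → F) (hx : x ∈ X) (hxA : ∃ a ∈ A, QuadraticMap.polar (⇑Q) a x ≠ 0) : A ≤ X := by
  obtain ⟨p, hpA, hp, hpx⟩ := h.exists_singular_not_perp hQ h3 x hxA
  have hp0 : p ≠ 0 := by
    rintro rfl
    apply hpx
    simp [QuadraticMap.polar]
  obtain ⟨p', hp'A, hp', hpp'⟩ := h.exists_partner_in hQ hpA hp0 hp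
  obtain ⟨c, c', hcA, hc'A, hpc, hp'c, hpc', hp'c', hcc'⟩ :=
    h.exists_room hQ h3 p p' hpA hp'A hp hp' hpp'
  obtain ⟨hpX, hperp⟩ := mem_of_eich_invariant hQ X A p x hp hx hpx
    (fun d hdA hd => hE p hpA hp d hdA hd x hx) c c' hcA hc'A hpc hpc' hcc'
  have hp'p : QuadraticMap.polar (⇑Q) p' p = 1 := by
    rw [QuadraticMap.polar_comm]; exact hpp'
  obtain ⟨hp'X, -⟩ := mem_of_eich_invariant hQ X A p' p hp' hpX
    (by rw [hp'p]; exact one_ne_zero)
    (fun d hdA hd => hE p' hp'A hp' d hdA hd p hpX) c c' hcA hc'A hp'c hp'c' hcc'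
  intro a haA
  have h1 : a - QuadraticMap.polar (⇑Q) p a • p' ∈ X := by
    apply hperp _ (A.sub_mem haA (A.smul_mem _ hp'A))
    rw [QuadraticMap.polar_sub_right, QuadraticMap.polar_smul_right, hpp']
    simp
  have := X.add_mem h1 (X.smul_mem (QuadraticMap.polar (⇑Q) p a) hp'X)
  rwa [sub_add_cancel] at this

/-- Eichler transformations inside `A` stabilise `A` -/
theorem eich_mem_stab [Finite F] (h : OrthSplit Q A B)
    (hQ : (QuadraticMap.polarBilin Q).Nondegenerate)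
    (u v : ι → F) (huA : u ∈ A) (hvA : v ∈ A) (hu : Q u = 0)
    (huv : QuadraticMap.polar (⇑Q) u v = 0) :
    ((eich hQ u v hu huv : ↥(Cfsg.isometryGroup F ⇑Q)) : Matrix.GeneralLinearGroup ι F) ∈
      Cfsg.Geo.subspaceStabilizer A := by
  apply mem_subspaceStabilizer_of_mapsTo
  intro x hx
  rw [eich_mulVec]
  exact A.sub_mem (A.sub_mem (A.add_mem hx (A.smul_mem _ hvA)) (A.smul_mem _ huA))
    (A.smul_mem _ huA)

/-- Eichler transformations inside `B` stabilise `A` -/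
theorem eich_mem_stab' (h : OrthSplit Q A B)
    (hQ : (QuadraticMap.polarBilin Q).Nondegenerate)
    (u v : ι → F) (huB : u ∈ B) (hvB : v ∈ B) (hu : Q u = 0)
    (huv : QuadraticMap.polar (⇑Q) u v = 0) :
    ((eich hQ u v hu huv : ↥(Cfsg.isometryGroup F ⇑Q)) : Matrix.GeneralLinearGroup ι F) ∈
      Cfsg.Geo.subspaceStabilizer A := by
  apply mem_subspaceStabilizer_of_fix
  intro x hx
  apply eich_fix
  · rw [QuadraticMap.polar_comm]; exact h.orth x hx u huB
  · rw [QuadraticMap.polar_comm]; exact h.orth x hx v hvB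

end OrthSplit

end Cfsg.Agent.H9Orth
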