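import Mathlib
import Cfsg.Prelude
import Cfsg.Agent.Lib.Helper9.OrthMax10
import Cfsg.Agent.Lib.Helper2.LongRoot9

set_option autoImplicit false

/-! The stabiliser of a nondegenerate subspace is maximal in `Ω`. -/

namespace Cfsg.Agent.H9Orth

open Matrix Module Cfsg.Agent.Lib.Helper2.ReflGen Cfsg.Agent.Lib.Helper2.CDG
  Cfsg.Agent.Lib.Helper2.LongRoot

variable {F : Type*} [Field F] {ι : Type} [Fintype ι] [DecidableEq ι]
variable {Q : QuadraticForm F (ι → F)}

/-- the vectors `b` of `B` all of whose multiples give Eichler transformations at `u` in `M` -/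
def rootSub (hQ : (QuadraticMap.polarBilin Q).Nondegenerate)
    (M : Subgroup (Matrix.GeneralLinearGroup ι F)) (B : Submodule F (ι → F)) (u : ι → F)
    (hu : Q u = 0) : Submodule F (ι → F) where
  carrier := {b | b ∈ B ∧ QuadraticMap.polar (⇑Q) u b = 0 ∧
    ∀ (c : F) (hd : QuadraticMap.polar (⇑Q) u (c • b) = 0),
      ((eich hQ u (c • b) hu hd : ↥(Cfsg.isometryGroup F ⇑Q)) : Matrix.GeneralLinearGroup ι F) ∈ M}
  zero_mem' := by
    refine ⟨B.zero_mem, by simp [QuadraticMap.polar], fun c hd => ?_⟩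
    have e : eich hQ u (c • (0 : ι → F)) hu hd = 1 := by
      rw [← eich_zero hQ u hu]
      exact eich_congr hQ rfl (smul_zero c) _ _ _ _
    rw [e]
    exact M.one_mem
  add_mem' := by
    rintro b b' ⟨hb, hub, hb2⟩ ⟨hb', hub', hb2'⟩
    refine ⟨B.add_mem hb hb', by rw [QuadraticMap.polar_add_right, hub, hub', add_zero],
      fun c hd => ?_⟩
    have h1 : QuadraticMap.polar (⇑Q) u (c • b) = 0 := by
      rw [QuadraticMap.polar_smul_right, hub, smul_zero]
    have h2 : QuadraticMap.polar (⇑Q) u (c • b') = 0 := by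
      rw [QuadraticMap.polar_smul_right, hub', smul_zero]
    have e : eich hQ u (c • (b + b')) hu hd = eich hQ u (c • b) hu h1 * eich hQ u (c • b') hu h2 := by
      rw [eich_mul]
      exact eich_congr hQ rfl (smul_add c b b') _ _ _ _
    rw [e]
    exact M.mul_mem (hb2 c h1) (hb2' c h2)
  smul_mem' := by
    rintro c' b ⟨hb, hub, hb2⟩
    refine ⟨B.smul_mem c' hb, by rw [QuadraticMap.polar_smul_right, hub, smul_zero],
      fun c hd => ?_⟩
    have h1 : QuadraticMap.polar (⇑Q) u ((c * c') • b) = 0 := by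
      rw [QuadraticMap.polar_smul_right, hub, smul_zero]
    have e : eich hQ u (c • c' • b) hu hd = eich hQ u ((c * c') • b) hu h1 :=
      eich_congr hQ rfl (smul_smul c c' b) _ _ _ _
    rw [e]
    exact hb2 (c * c') h1

theorem mem_rootSub (hQ : (QuadraticMap.polarBilin Q).Nondegenerate)
    (M : Subgroup (Matrix.GeneralLinearGroup ι F)) (B : Submodule F (ι → F)) (u : ι → F)
    (hu : Q u = 0) (b : ι → F) :
    b ∈ rootSub hQ M B u hu ↔ b ∈ B ∧ QuadraticMap.polar (⇑Q) u b = 0 ∧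
    ∀ (c : F) (hd : QuadraticMap.polar (⇑Q) u (c • b) = 0),
      ((eich hQ u (c • b) hu hd : ↥(Cfsg.isometryGroup F ⇑Q)) :
        Matrix.GeneralLinearGroup ι F) ∈ M := Iff.rfl

/-- transport of `rootSub` by an element of `M` fixing `u` -/
theorem rootSub_map (hQ : (QuadraticMap.polarBilin Q).Nondegenerate)
    {M : Subgroup (Matrix.GeneralLinearGroup ι F)} {B : Submodule F (ι → F)} {u : ι → F}
    (hu : Q u = 0) (ρ : ↥(Cfsg.isometryGroup F ⇑Q))
    (hρM : (ρ : Matrix.GeneralLinearGroup ι F) ∈ M)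
    (hρu : ((ρ : Matrix.GeneralLinearGroup ι F) : Matrix ι ι F) *ᵥ u = u)
    (hρB : ∀ b ∈ B, ((ρ : Matrix.GeneralLinearGroup ι F) : Matrix ι ι F) *ᵥ b ∈ B)
    {b : ι → F} (hb : b ∈ rootSub hQ M B u hu) :
    ((ρ : Matrix.GeneralLinearGroup ι F) : Matrix ι ι F) *ᵥ b ∈ rootSub hQ M B u hu := by
  obtain ⟨hbB, hub, hb2⟩ := hb
  have hub' : QuadraticMap.polar (⇑Q) u
      (((ρ : Matrix.GeneralLinearGroup ι F) : Matrix ι ι F) *ᵥ b) = 0 := by
    have := iso_polar ρ u b
    rw [hρu] at this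
    rw [this]; exact hub
  refine ⟨hρB b hbB, hub', fun c hd => ?_⟩
  have h1 : QuadraticMap.polar (⇑Q) u (c • b) = 0 := by
    rw [QuadraticMap.polar_smul_right, hub, smul_zero]
  have e := conj_eich hQ ρ u (c • b) hu h1
  have e' : eich hQ u (c • ((ρ : Matrix.GeneralLinearGroup ι F) : Matrix ι ι F) *ᵥ b) hu hd =
      ρ * eich hQ u (c • b) hu h1 * ρ⁻¹ := by
    rw [e]
    apply eich_congr hQ hρu.symm
    rw [Matrix.mulVec_smul]
  rw [e']
  have h2 : ((ρ * eich hQ u (c • b) hu h1 * ρ⁻¹ : ↥(Cfsg.isometryGroup F ⇑Q)) :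
      Matrix.GeneralLinearGroup ι F) =
      (ρ : Matrix.GeneralLinearGroup ι F) *
        ((eich hQ u (c • b) hu h1 : ↥(Cfsg.isometryGroup F ⇑Q)) : Matrix.GeneralLinearGroup ι F) *
        (ρ : Matrix.GeneralLinearGroup ι F)⁻¹ := rfl
  rw [h2]
  exact M.mul_mem (M.mul_mem hρM (hb2 c h1)) (M.inv_mem hρM)

end Cfsg.Agent.H9Orth
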