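import Mathlib
import Cfsg.Prelude
import Cfsg.Agent.Lib.Helper9.OrthMax11
import Cfsg.Agent.Lib.Helper2.LongRoot9

set_option autoImplicit false
set_option maxHeartbeats 800000

/-! The stabiliser of a nondegenerate subspace is maximal in `Ω`. -/

namespace Cfsg.Agent.H9Orth

open Matrix Module Cfsg.Agent.Lib.Helper2.ReflGen Cfsg.Agent.Lib.Helper2.CDG
  Cfsg.Agent.Lib.Helper2.LongRoot

variable {F : Type*} [Field F] {ι : Type} [Fintype ι] [DecidableEq ι]
variable {Q : QuadraticForm F (ι → F)}

theorem coe_mul_coe (g h : ↥(Cfsg.isometryGroup F ⇑Q)) :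
    ((g * h : ↥(Cfsg.isometryGroup F ⇑Q)) : Matrix.GeneralLinearGroup ι F) =
      (g : Matrix.GeneralLinearGroup ι F) * (h : Matrix.GeneralLinearGroup ι F) := rfl

theorem coe_inv_coe (g : ↥(Cfsg.isometryGroup F ⇑Q)) :
    ((g⁻¹ : ↥(Cfsg.isometryGroup F ⇑Q)) : Matrix.GeneralLinearGroup ι F) =
      (g : Matrix.GeneralLinearGroup ι F)⁻¹ := rfl

/-- **Maximality of the stabiliser of a nondegenerate subspace.** -/
theorem nondeg_stab_maximal_gen [Fintype F] (hQ : (QuadraticMap.polarBilin Q).Nondegenerate)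
    {A B : Submodule F (ι → F)} (h : OrthSplit Q A B) (hA7 : 7 ≤ finrank F A)
    (hsw : ∀ γ : ↥(Cfsg.isometryGroup F ⇑Q), ¬ ∀ a ∈ A,
      ((γ : Matrix.GeneralLinearGroup ι F) : Matrix ι ι F) *ᵥ a ∈ B) (hB0 : B ≠ ⊥)
    (hX : Fintype.card F ≤ 3 → ∀ e f : ι → F, e ∈ B → f ∈ B → Q e = 0 → Q f = 0 →
      QuadraticMap.polar (⇑Q) e f = 1 →
      ∃ c ∈ B, c ≠ 0 ∧ QuadraticMap.polar (⇑Q) e c = 0 ∧ QuadraticMap.polar (⇑Q) f c = 0) :
    Cfsg.Geo.IsMaximalIn (Cfsg.Geo.omegaGL ⇑Q)
      (Cfsg.Geo.subspaceStabilizer A ⊓ Cfsg.Geo.omegaGL ⇑Q) := by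
  classical
  have : Finite F := Finite.of_fintype F
  have hn : 7 ≤ Fintype.card ι := by
    have := h.finrank_add hQ
    omega
  have hTle : T Q ≤ Cfsg.Omega F ⇑Q := by rw [T_eq_Omega hQ hn]
  obtain ⟨b, hbB, hb0⟩ := Submodule.exists_mem_ne_zero_of_ne_bot hB0
  constructor
  · apply lt_of_le_of_ne inf_le_right
    intro heq
    obtain ⟨p, q, hpA, hqA, hp, hq, hpq, -⟩ := h.exists_hyp_in hQ ⊥ (by
      rw [finrank_bot]; omega)
    have hpb : QuadraticMap.polar (⇑Q) p b = 0 := h.orth p hpA b hbB
    have hbq : QuadraticMap.polar (⇑Q) b q = 0 := by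
      rw [QuadraticMap.polar_comm]; exact h.orth q hqA b hbB
    have hg := eich_mem_omegaGL hQ hn p b hp hpb
    rw [← heq] at hg
    have hgq := ((Subgroup.mem_inf.1 hg).1 q).1 hqA
    have hgq' : ((eich hQ p b hp hpb : Matrix.GeneralLinearGroup ι F) : Matrix ι ι F) *ᵥ q ∈ A :=
      hgq
    rw [eich_mulVec, hpq, hbq, one_smul, zero_smul, sub_zero, mul_one] at hgq'
    have h1 : b ∈ A := by
      have := A.sub_mem (A.add_mem hgq' (A.smul_mem (Q b) hpA)) hqA
      have e : q + b - Q b • p + Q b • p - q = b := by abel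
      rwa [e] at this
    exact hb0 (h.disj hQ h1 hbB)
  · intro M hHM hMK
    by_cases hMS : M ≤ Cfsg.Geo.subspaceStabilizer A
    · left
      exact le_antisymm (le_inf hMS hMK) hHM
    · right
      apply le_antisymm hMK
      rw [SetLike.not_le_iff_exists] at hMS
      obtain ⟨g₀, hg₀M, hg₀S⟩ := hMS
      obtain ⟨γ, hγ⟩ := exists_iso_of_mem_omegaGL (hMK hg₀M)
      rw [← hγ] at hg₀M hg₀S
      -- Eichler transformations inside `A` and inside `B` lie in `M`
      have hHA : ∀ (u v : ι → F) (hu : Q u = 0) (huv : QuadraticMap.polar (⇑Q) u v = 0),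
          u ∈ A → v ∈ A →
          ((eich hQ u v hu huv : ↥(Cfsg.isometryGroup F ⇑Q)) :
            Matrix.GeneralLinearGroup ι F) ∈ M := by
        intro u v hu huv huA hvA
        apply hHM
        exact Subgroup.mem_inf.2 ⟨h.eich_mem_stab hQ u v huA hvA hu huv,
          eich_mem_omegaGL hQ hn u v hu huv⟩
      have hHB : ∀ (u v : ι → F) (hu : Q u = 0) (huv : QuadraticMap.polar (⇑Q) u v = 0),
          u ∈ B → v ∈ B →
          ((eich hQ u v hu huv : ↥(Cfsg.isometryGroup F ⇑Q)) :
            Matrix.GeneralLinearGroup ι F) ∈ M := by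
        intro u v hu huv huB hvB
        apply hHM
        exact Subgroup.mem_inf.2 ⟨h.eich_mem_stab' hQ u v huB hvB hu huv,
          eich_mem_omegaGL hQ hn u v hu huv⟩
      -- Step 1: an Eichler transformation in `M` moving `A`
      set X : Submodule F (ι → F) :=
        A.comap (Matrix.toLin' ((γ : Matrix.GeneralLinearGroup ι F) : Matrix ι ι F)) with hXdef
      have hXmem : ∀ x, x ∈ X ↔
          ((γ : Matrix.GeneralLinearGroup ι F) : Matrix ι ι F) *ᵥ x ∈ A := by
        intro x
        rw [hXdef, Submodule.mem_comap, Matrix.toLin'_apply]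
      obtain ⟨p, hpA, hp, d, hdA, hpd, x, hxX, hEx⟩ : ∃ p ∈ A, ∃ hp : Q p = 0, ∃ d ∈ A,
          ∃ hd : QuadraticMap.polar (⇑Q) p d = 0, ∃ x ∈ X,
          ((eich hQ p d hp hd : Matrix.GeneralLinearGroup ι F) : Matrix ι ι F) *ᵥ x ∉ X := by
        by_contra hcon
        push Not at hcon
        by_cases hXB : ∃ x ∈ X, ∃ a ∈ A, QuadraticMap.polar (⇑Q) a x ≠ 0
        · obtain ⟨x, hx, hxA⟩ := hXB
          have hAX := h.eich_invariant_ge hQ (by omega) X hcon x hx hxA
          apply hg₀S
          apply mem_subspaceStabilizer_of_mapsTo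
          intro a ha
          exact (hXmem a).1 (hAX ha)
        · push Not at hXB
          have hXB' : X ≤ B := by
            intro x hx
            rw [h.symm.mem_left_iff hQ]
            intro a ha
            rw [QuadraticMap.polar_comm]
            exact hXB x hx a ha
          set f := Matrix.toLin' (((γ⁻¹ : ↥(Cfsg.isometryGroup F ⇑Q)) :
            Matrix.GeneralLinearGroup ι F) : Matrix ι ι F) with hf
          have hfinj : Function.Injective f := by
            intro y y' hyy'
            rw [hf, Matrix.toLin'_apply, Matrix.toLin'_apply] at hyy'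
            have := congrArg (fun z => ((γ : Matrix.GeneralLinearGroup ι F) : Matrix ι ι F) *ᵥ z)
              hyy'
            simp only [inv_mulVec_mulVec] at this
            exact this
          have hmapX : A.map f ≤ X := by
            rintro _ ⟨a, ha, rfl⟩
            rw [hXmem, hf, Matrix.toLin'_apply, inv_mulVec_mulVec]
            exact ha
          apply hsw γ⁻¹
          intro a ha
          have h1 : f a ∈ A.map f := ⟨a, ha, rfl⟩
          have h2 := hXB' (hmapX h1)
          rw [hf, Matrix.toLin'_apply] at h2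
          exact h2
      set E := eich hQ p d hp hpd with hEdef
      have hEM : (E : Matrix.GeneralLinearGroup ι F) ∈ M := hHA p d hp hpd hpA hdA
      set m := γ * E * γ⁻¹ with hm
      have hmM : (m : Matrix.GeneralLinearGroup ι F) ∈ M := by
        rw [hm, coe_mul_coe, coe_mul_coe, coe_inv_coe]
        exact M.mul_mem (M.mul_mem hg₀M hEM) (M.inv_mem hg₀M)
      obtain ⟨p', hp'⟩ : ∃ p' : ι → F,
          p' = ((γ : Matrix.GeneralLinearGroup ι F) : Matrix ι ι F) *ᵥ p := ⟨_, rfl⟩
      obtain ⟨d', hd'⟩ : ∃ d' : ι → F,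
          d' = ((γ : Matrix.GeneralLinearGroup ι F) : Matrix ι ι F) *ᵥ d := ⟨_, rfl⟩
      have hp'Q : Q p' = 0 := by rw [hp', iso_Q]; exact hp
      have hp'd' : QuadraticMap.polar (⇑Q) p' d' = 0 := by rw [hp', hd', iso_polar]; exact hpd
      have hmE : m = eich hQ p' d' hp'Q hp'd' := by
        rw [hm, hEdef, conj_eich]
        exact eich_congr hQ hp'.symm hd'.symm _ _ _ _
      obtain ⟨a₀, ha₀⟩ : ∃ a₀ : ι → F,
          a₀ = ((γ : Matrix.GeneralLinearGroup ι F) : Matrix ι ι F) *ᵥ x := ⟨_, rfl⟩
      have ha₀A : a₀ ∈ A := by rw [ha₀]; exact (hXmem x).1 hxX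
      have hma₀ : ((m : Matrix.GeneralLinearGroup ι F) : Matrix ι ι F) *ᵥ a₀ ∉ A := by
        intro hcon
        apply hEx
        rw [hXmem]
        have e : ((m : Matrix.GeneralLinearGroup ι F) : Matrix ι ι F) *ᵥ a₀ =
            ((γ : Matrix.GeneralLinearGroup ι F) : Matrix ι ι F) *ᵥ
              (((E : Matrix.GeneralLinearGroup ι F) : Matrix ι ι F) *ᵥ x) := by
          rw [hm, mul_mulVec, mul_mulVec, ha₀]
          congr 2
          have := inv_mulVec_mulVec (γ⁻¹) x
          rw [inv_inv] at this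
          exact this
        rw [← e]
        exact hcon
      -- Step 1c: a singular vector of `A` orthogonal to `p'`, `d'`, `a₀`
      obtain ⟨u, huA, hu0, hu, hup', hud', hua₀⟩ : ∃ u ∈ A, u ≠ 0 ∧ Q u = 0 ∧
          QuadraticMap.polar (⇑Q) p' u = 0 ∧ QuadraticMap.polar (⇑Q) d' u = 0 ∧
          QuadraticMap.polar (⇑Q) a₀ u = 0 := by
        set S : Finset (ι → F) := {p', d', a₀} with hS
        set Y := LinearMap.BilinForm.orthogonal (QuadraticMap.polarBilin Q)
          (Submodule.span F (S : Set (ι → F))) with hY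
        have hnn : finrank F (ι → F) = Fintype.card ι := Module.finrank_fintype_fun_eq_card F
        have hsp : finrank F ↥(Submodule.span F (S : Set (ι → F))) ≤ 3 :=
          (finrank_span_finset_le_card S).trans Finset.card_le_three
        have hYdim : finrank F Y =
            Fintype.card ι - finrank F ↥(Submodule.span F (S : Set (ι → F))) := by
          rw [hY, LinearMap.BilinForm.finrank_orthogonal hQ, hnn]
        have hsple : finrank F ↥(Submodule.span F (S : Set (ι → F))) ≤ Fintype.card ι := by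
          rw [← hnn]; exact Submodule.finrank_le _
        have hinf : 3 ≤ finrank F ↥(A ⊓ Y) := by
          have h1 := Submodule.finrank_sup_add_finrank_inf_eq A Y
          have h2 : finrank F ↥(A ⊔ Y) ≤ Fintype.card ι := by
            rw [← hnn]; exact Submodule.finrank_le _
          omega
        obtain ⟨u', hu'0, hu'⟩ := Cfsg.Agent.Lib.Helper5.exists_singular_of_finrank
          (Q.comp (A ⊓ Y).subtype) hinf
        have huAY : (u' : ι → F) ∈ A ⊓ Y := u'.2
        refine ⟨u', huAY.1, fun h0 => hu'0 (Subtype.ext h0), hu', ?_, ?_, ?_⟩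
        · exact huAY.2 p' (Submodule.subset_span (by simp [hS]))
        · exact huAY.2 d' (Submodule.subset_span (by simp [hS]))
        · exact huAY.2 a₀ (Submodule.subset_span (by simp [hS]))
      -- Step 1d: a nonzero element of the root subspace at `u`
      have hmu : ((m : Matrix.GeneralLinearGroup ι F) : Matrix ι ι F) *ᵥ u = u := by
        rw [hmE]
        exact eich_fix hQ p' d' u hp'Q hp'd' hup' hud'
      obtain ⟨b₀, hb₀⟩ : ∃ b₀ : ι → F,
          b₀ = ((m : Matrix.GeneralLinearGroup ι F) : Matrix ι ι F) *ᵥ a₀ := ⟨_, rfl⟩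
      have hua₀' : QuadraticMap.polar (⇑Q) u a₀ = 0 := by
        rw [QuadraticMap.polar_comm]; exact hua₀
      have hub₀ : QuadraticMap.polar (⇑Q) u b₀ = 0 := by
        have := iso_polar m u a₀
        rw [hmu, ← hb₀] at this
        rw [this]; exact hua₀'
      have hb₀M : ∀ (c : F) (hd : QuadraticMap.polar (⇑Q) u (c • b₀) = 0),
          ((eich hQ u (c • b₀) hu hd : ↥(Cfsg.isometryGroup F ⇑Q)) :
            Matrix.GeneralLinearGroup ι F) ∈ M := by
        intro c hd
        have h1 : QuadraticMap.polar (⇑Q) u (c • a₀) = 0 := by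
          rw [QuadraticMap.polar_smul_right, hua₀', smul_zero]
        have e := conj_eich hQ m u (c • a₀) hu h1
        have e' : eich hQ u (c • b₀) hu hd = m * eich hQ u (c • a₀) hu h1 * m⁻¹ := by
          rw [e]
          apply eich_congr hQ hmu.symm
          rw [Matrix.mulVec_smul, hb₀]
        rw [e', coe_mul_coe, coe_mul_coe, coe_inv_coe]
        exact M.mul_mem (M.mul_mem hmM (hHA u (c • a₀) hu h1 huA (A.smul_mem c ha₀A)))
          (M.inv_mem hmM)
      obtain ⟨bA, hbA, bB, hbB', hbsum⟩ := h.sum b₀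
      have hbB0 : bB ≠ 0 := by
        rintro rfl
        apply hma₀
        rw [← hb₀, hbsum, add_zero]
        exact hbA
      have hubB : QuadraticMap.polar (⇑Q) u bB = 0 := h.orth u huA bB hbB'
      have hubA : QuadraticMap.polar (⇑Q) u bA = 0 := by
        have := hub₀
        rw [hbsum, QuadraticMap.polar_add_right, hubB, add_zero] at this
        exact this
      have hbBroot : bB ∈ rootSub hQ M B u hu := by
        refine ⟨hbB', hubB, fun c hd => ?_⟩
        have h1 : QuadraticMap.polar (⇑Q) u (c • b₀) = 0 := by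
          rw [QuadraticMap.polar_smul_right, hub₀, smul_zero]
        have h2 : QuadraticMap.polar (⇑Q) u (-(c • bA)) = 0 := by
          rw [QuadraticMap.polar_neg_right, QuadraticMap.polar_smul_right, hubA, smul_zero,
            neg_zero]
        have e : eich hQ u (c • bB) hu hd =
            eich hQ u (c • b₀) hu h1 * eich hQ u (-(c • bA)) hu h2 := by
          rw [eich_mul]
          apply eich_congr hQ rfl
          rw [hbsum]
          module
        rw [e, coe_mul_coe]
        exact M.mul_mem (hb₀M c h1) (hHA u _ hu h2 huA (A.neg_mem (A.smul_mem c hbA)))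
      -- Step 2: the root subspace is all of `B`
      have hBle : B ≤ rootSub hQ M B u hu := by
        apply h.symm.irreducible hQ (rootSub hQ M B u hu) bB hbBroot hbB' hbB0
        · -- reflections
          intro z hzB hzQ b' hb' hb'z
          obtain ⟨p₁, q₁, hp₁A, hq₁A, hp₁, hq₁, hpq₁, hperp₁⟩ :=
            h.exists_hyp_in hQ (Submodule.span F {u}) (by
              have : finrank F ↥(Submodule.span F {u}) ≤ 1 := by
                have := finrank_span_le_card (R := F) ({u} : Set (ι → F))
                simpa using this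
              omega)
          have hup₁ := (hperp₁ u (Submodule.subset_span rfl)).1
          have huq₁ := (hperp₁ u (Submodule.subset_span rfl)).2
          obtain ⟨y, hy⟩ : ∃ y : ι → F, y = p₁ + Q z • q₁ := ⟨_, rfl⟩
          have hyA : y ∈ A := by rw [hy]; exact A.add_mem hp₁A (A.smul_mem _ hq₁A)
          have hyQ : Q y = Q z := by
            rw [hy, map_add_smul, hp₁, hq₁, hpq₁]; ring
          have hyQ0 : Q y ≠ 0 := by rw [hyQ]; exact hzQ
          have huy : QuadraticMap.polar (⇑Q) y u = 0 := by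
            rw [hy, QuadraticMap.polar_add_left, QuadraticMap.polar_smul_left,
              QuadraticMap.polar_comm (⇑Q) p₁ u, QuadraticMap.polar_comm (⇑Q) q₁ u, hup₁, huq₁]
            simp
          have hzu : QuadraticMap.polar (⇑Q) z u = 0 := by
            rw [QuadraticMap.polar_comm]; exact h.orth u huA z hzB
          set ρ := refl Q z hzQ * refl Q y hyQ0 with hρ
          have hρΩ : ρ ∈ Cfsg.Omega F ⇑Q :=
            hTle (refl_mul_refl_mem_T hQ (by omega) z y hzQ hyQ0 hyQ)
          have hρact : ∀ w, ((ρ : Matrix.GeneralLinearGroup ι F) : Matrix ι ι F) *ᵥ w =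
              ((refl Q z hzQ : Matrix.GeneralLinearGroup ι F) : Matrix ι ι F) *ᵥ
                (((refl Q y hyQ0 : Matrix.GeneralLinearGroup ι F) : Matrix ι ι F) *ᵥ w) := by
            intro w
            rw [hρ, mul_mulVec]
          have hρM : (ρ : Matrix.GeneralLinearGroup ι F) ∈ M := by
            apply hHM
            refine Subgroup.mem_inf.2 ⟨?_, ⟨ρ, hρΩ, rfl⟩⟩
            apply mem_subspaceStabilizer_of_mapsTo
            intro a ha
            rw [hρact, refl_mulVec, refl_mulVec]
            have ha' : a - ((Q y)⁻¹ * QuadraticMap.polar (⇑Q) y a) • y ∈ A :=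
              A.sub_mem ha (A.smul_mem _ hyA)
            have hz0 : QuadraticMap.polar (⇑Q) z
                (a - ((Q y)⁻¹ * QuadraticMap.polar (⇑Q) y a) • y) = 0 := by
              rw [QuadraticMap.polar_comm]; exact h.orth _ ha' z hzB
            rw [hz0, mul_zero, zero_smul, sub_zero]
            exact ha'
          have hyu' : ((refl Q y hyQ0 : Matrix.GeneralLinearGroup ι F) : Matrix ι ι F) *ᵥ u = u := by
            rw [refl_mulVec, huy, mul_zero, zero_smul, sub_zero]
          have hρu : ((ρ : Matrix.GeneralLinearGroup ι F) : Matrix ι ι F) *ᵥ u = u := by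
            rw [hρact, hyu', refl_mulVec, hzu, mul_zero, zero_smul, sub_zero]
          have hρB : ∀ b'' ∈ B, ((ρ : Matrix.GeneralLinearGroup ι F) : Matrix ι ι F) *ᵥ b'' =
              b'' - ((Q z)⁻¹ * QuadraticMap.polar (⇑Q) z b'') • z := by
            intro b'' hb''
            have hyb : QuadraticMap.polar (⇑Q) y b'' = 0 := h.orth y hyA b'' hb''
            have hyb' : ((refl Q y hyQ0 : Matrix.GeneralLinearGroup ι F) : Matrix ι ι F) *ᵥ b'' =
                b'' := by
              rw [refl_mulVec, hyb, mul_zero, zero_smul, sub_zero]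
            rw [hρact, hyb', refl_mulVec]
          have hρB' : ∀ b'' ∈ B, ((ρ : Matrix.GeneralLinearGroup ι F) : Matrix ι ι F) *ᵥ b'' ∈ B := by
            intro b'' hb''
            rw [hρB b'' hb'']
            exact B.sub_mem hb'' (B.smul_mem _ hzB)
          have h1 := rootSub_map hQ hu ρ hρM hρu hρB' hb'
          rw [hρB b' hb'.1] at h1
          have h2 := (rootSub hQ M B u hu).sub_mem hb' h1
          rw [sub_sub_cancel] at h2
          have hzb' : QuadraticMap.polar (⇑Q) z b' ≠ 0 := by
            rw [QuadraticMap.polar_comm]; exact hb'z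
          have hne : (Q z)⁻¹ * QuadraticMap.polar (⇑Q) z b' ≠ 0 :=
            mul_ne_zero (inv_ne_zero hzQ) hzb'
          have := (rootSub hQ M B u hu).smul_mem ((Q z)⁻¹ * QuadraticMap.polar (⇑Q) z b')⁻¹ h2
          rwa [smul_smul, inv_mul_cancel₀ hne, one_smul] at this
        · -- Eichler transformations of `B`
          intro p₂ hp₂B hp₂ d₂ hd₂B hpd₂ b' hb'
          apply rootSub_map hQ hu (eich hQ p₂ d₂ hp₂ hpd₂) (hHB p₂ d₂ hp₂ hpd₂ hp₂B hd₂B)
          · apply eich_fix
            · rw [QuadraticMap.polar_comm]; exact h.orth u huA p₂ hp₂B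
            · rw [QuadraticMap.polar_comm]; exact h.orth u huA d₂ hd₂B
          · intro b'' hb''
            rw [eich_mulVec]
            exact B.sub_mem (B.sub_mem (B.add_mem hb'' (B.smul_mem _ hd₂B)) (B.smul_mem _ hp₂B))
              (B.smul_mem _ hp₂B)
          · exact hb'
        · exact hX
      -- Step 3: `u` is full, and so is an opposite point
      have hfu : Full hQ M u := by
        intro _ v huv
        obtain ⟨vA, hvA, vB, hvB, hvsum⟩ := h.sum v
        have huvB : QuadraticMap.polar (⇑Q) u vB = 0 := h.orth u huA vB hvB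
        have huvA : QuadraticMap.polar (⇑Q) u vA = 0 := by
          have := huv
          rw [hvsum, QuadraticMap.polar_add_right, huvB, add_zero] at this
          exact this
        have e : eich hQ u v hu huv = eich hQ u vA hu huvA * eich hQ u vB hu huvB := by
          rw [eich_mul]
          exact eich_congr hQ rfl hvsum _ _ _ _
        rw [e, coe_mul_coe]
        apply M.mul_mem (hHA u vA hu huvA huA hvA)
        have h1 := (hBle hvB).2.2 1 (by rw [one_smul]; exact huvB)
        have e2 : eich hQ u ((1 : F) • vB) hu (by rw [one_smul]; exact huvB) =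
            eich hQ u vB hu huvB := eich_congr hQ rfl (one_smul F vB) _ _ _ _
        rw [e2] at h1
        exact h1
      obtain ⟨p₂, hp₂A, hp₂, hup₂⟩ := h.exists_partner_in hQ huA hu0 hu
      obtain ⟨p₃, q₃, hp₃A, hq₃A, hp₃, hq₃, hpq₃, hperp₃⟩ :=
        h.exists_hyp_in hQ (Submodule.span F {u, p₂}) (by
          have := finrank_span_pair_le u p₂; omega)
      have hup₃ := (hperp₃ u (Submodule.subset_span (by simp))).1
      have huq₃ := (hperp₃ u (Submodule.subset_span (by simp))).2
      have hp₂p₃ := (hperp₃ p₂ (Submodule.subset_span (by simp))).1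
      have hp₂q₃ := (hperp₃ p₂ (Submodule.subset_span (by simp))).2
      have hp₂c : QuadraticMap.polar (⇑Q) p₂ (p₃ + q₃) = 0 := by
        rw [QuadraticMap.polar_add_right, hp₂p₃, hp₂q₃, add_zero]
      have hcQ : Q (p₃ + q₃) = 1 := by
        rw [QuadraticMap.map_add Q, hp₃, hq₃, hpq₃]; ring
      set η := eich hQ p₂ (p₃ + q₃) hp₂ hp₂c with hη
      have hηM : (η : Matrix.GeneralLinearGroup ι F) ∈ M :=
        hHA p₂ (p₃ + q₃) hp₂ hp₂c hp₂A (A.add_mem hp₃A hq₃A)
      have hfηu : Full hQ M (((η : Matrix.GeneralLinearGroup ι F) : Matrix ι ι F) *ᵥ u) :=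
        full_map hQ hfu η hηM
      have hηuQ : Q (((η : Matrix.GeneralLinearGroup ι F) : Matrix ι ι F) *ᵥ u) = 0 := by
        rw [iso_Q]; exact hu
      have hopp : QuadraticMap.polar (⇑Q) u
          (((η : Matrix.GeneralLinearGroup ι F) : Matrix ι ι F) *ᵥ u) ≠ 0 := by
        rw [hη, eich_mulVec, hcQ]
        have huu : QuadraticMap.polar (⇑Q) u u = 0 := by rw [polar_self, hu, mul_zero]
        have hp₂u : QuadraticMap.polar (⇑Q) p₂ u = 1 := by
          rw [QuadraticMap.polar_comm]; exact hup₂
        have hcu : QuadraticMap.polar (⇑Q) (p₃ + q₃) u = 0 := by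
          rw [QuadraticMap.polar_add_left, QuadraticMap.polar_comm (⇑Q) p₃ u,
            QuadraticMap.polar_comm (⇑Q) q₃ u, hup₃, huq₃, add_zero]
        have huc : QuadraticMap.polar (⇑Q) u (p₃ + q₃) = 0 := by
          rw [QuadraticMap.polar_comm]; exact hcu
        simp only [QuadraticMap.polar_sub_right, QuadraticMap.polar_add_right,
          QuadraticMap.polar_smul_right, huu, hp₂u, hcu, hup₂, hup₃, huq₃, smul_eq_mul, mul_one,
          mul_zero, add_zero, zero_add, sub_zero, zero_sub, one_mul]
        exact neg_ne_zero.2 one_ne_zero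
      apply omegaGL_le_of_full hQ hn
      intro y hy
      exact full_all hQ hfu hfηu hu hηuQ hopp y hy

/-- **Maximality of the stabiliser of a nondegenerate subspace** (unequal dimensions). -/
theorem nondeg_stab_maximal [Fintype F] (hQ : (QuadraticMap.polarBilin Q).Nondegenerate)
    {A B : Submodule F (ι → F)} (h : OrthSplit Q A B) (hA7 : 7 ≤ finrank F A)
    (hlt : finrank F B < finrank F A) (hB0 : B ≠ ⊥)
    (hX : Fintype.card F ≤ 3 → ∀ e f : ι → F, e ∈ B → f ∈ B → Q e = 0 → Q f = 0 →
      QuadraticMap.polar (⇑Q) e f = 1 →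
      ∃ c ∈ B, c ≠ 0 ∧ QuadraticMap.polar (⇑Q) e c = 0 ∧ QuadraticMap.polar (⇑Q) f c = 0) :
    Cfsg.Geo.IsMaximalIn (Cfsg.Geo.omegaGL ⇑Q)
      (Cfsg.Geo.subspaceStabilizer A ⊓ Cfsg.Geo.omegaGL ⇑Q) := by
  apply nondeg_stab_maximal_gen hQ h hA7 _ hB0 hX
  intro γ hγ
  set f := Matrix.toLin' ((γ : Matrix.GeneralLinearGroup ι F) : Matrix ι ι F) with hf
  have hfinj : Function.Injective f := by
    intro y y' hyy'
    rw [hf, Matrix.toLin'_apply, Matrix.toLin'_apply] at hyy'
    have := congrArg (fun z => (((γ⁻¹ : ↥(Cfsg.isometryGroup F ⇑Q)) :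
      Matrix.GeneralLinearGroup ι F) : Matrix ι ι F) *ᵥ z) hyy'
    have e := inv_mulVec_mulVec (γ⁻¹)
    rw [inv_inv] at e
    simp only [e] at this
    exact this
  have hmap : A.map f ≤ B := by
    rintro _ ⟨a, ha, rfl⟩
    rw [hf, Matrix.toLin'_apply]
    exact hγ a ha
  have h1 : finrank F ↥(A.map f) = finrank F A :=
    (LinearEquiv.finrank_eq (Submodule.equivMapOfInjective f hfinj A)).symm
  have h2 := Submodule.finrank_mono hmap
  omega

end Cfsg.Agent.H9Orth
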