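import Mathlib
import Cfsg.Prelude
import Cfsg.Agent.Lib.Helper9.OrthMax12

set_option autoImplicit false
set_option maxHeartbeats 800000

/-! Wrappers around `nondeg_stab_maximal`: from a nondegenerate subspace to an orthogonal
splitting. -/

namespace Cfsg.Agent.H9Orth

open Matrix Module Cfsg.Agent.Lib.Helper2.ReflGen Cfsg.Agent.Lib.Helper2.CDG
  Cfsg.Agent.Lib.Helper2.LongRoot

variable {F : Type*} [Field F] {ι : Type} [Fintype ι] [DecidableEq ι]
variable {Q : QuadraticForm F (ι → F)}

namespace OrthSplit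

variable {A B : Submodule F (ι → F)}

/-- an isometry stabilising `A` stabilises `B` -/
theorem stab_le [Finite F] (h : OrthSplit Q A B) (hQ : (QuadraticMap.polarBilin Q).Nondegenerate) :
    Cfsg.Geo.subspaceStabilizer A ⊓ Cfsg.Geo.omegaGL ⇑Q ≤ Cfsg.Geo.subspaceStabilizer B := by
  intro g hg
  obtain ⟨hgA, hgΩ⟩ := Subgroup.mem_inf.1 hg
  obtain ⟨γ, rfl⟩ := exists_iso_of_mem_omegaGL hgΩ
  apply mem_subspaceStabilizer_of_mapsTo
  intro b hb
  rw [h.symm.mem_left_iff hQ]
  intro a ha
  rw [QuadraticMap.polar_comm, ← polar_inv_mulVec]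
  refine h.orth _ ?_ b hb
  have h1 := (hgA ((((γ⁻¹ : ↥(Cfsg.isometryGroup F ⇑Q)) : Matrix.GeneralLinearGroup ι F) :
    Matrix ι ι F) *ᵥ a)).2
  apply h1
  show ((γ : Matrix.GeneralLinearGroup ι F) : Matrix ι ι F) *ᵥ _ ∈ A
  rw [inv_mulVec_mulVec]
  exact ha

theorem stab_eq [Finite F] (h : OrthSplit Q A B) (hQ : (QuadraticMap.polarBilin Q).Nondegenerate) :
    Cfsg.Geo.subspaceStabilizer A ⊓ Cfsg.Geo.omegaGL ⇑Q =
      Cfsg.Geo.subspaceStabilizer B ⊓ Cfsg.Geo.omegaGL ⇑Q :=
  le_antisymm (le_inf (h.stab_le hQ) inf_le_right) (le_inf (h.symm.stab_le hQ) inf_le_right)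

end OrthSplit

/-- a nondegenerate subspace and its orthogonal complement split the space -/
theorem orthSplit_of_nondeg (W : Submodule F (ι → F))
    (hW : Cfsg.Geo.IsNondegenerateOn (QuadraticMap.polar (⇑Q)) W) :
    OrthSplit Q W (LinearMap.BilinForm.orthogonal (QuadraticMap.polarBilin Q) W) := by
  have hrefl : (QuadraticMap.polarBilin Q).IsRefl := by
    intro x y hxy
    show QuadraticMap.polar (⇑Q) y x = 0
    rw [QuadraticMap.polar_comm]; exact hxy
  have hnd : (LinearMap.BilinForm.restrict (QuadraticMap.polarBilin Q) W).Nondegenerate := by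
    constructor
    · intro x hx
      by_contra hx0
      have hx0' : (x : ι → F) ≠ 0 := fun h0 => hx0 (Subtype.ext h0)
      obtain ⟨-, y, hy, hxy⟩ := hW x x.2 hx0'
      exact hxy (hx ⟨y, hy⟩)
    · intro x hx
      by_contra hx0
      have hx0' : (x : ι → F) ≠ 0 := fun h0 => hx0 (Subtype.ext h0)
      obtain ⟨⟨y, hy, hyx⟩, -⟩ := hW x x.2 hx0'
      exact hyx (hx ⟨y, hy⟩)
  have hc := LinearMap.BilinForm.isCompl_orthogonal_of_restrict_nondegenerate hrefl hnd
  constructor
  · intro a ha b hb
    exact hb a ha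
  · intro x
    have hx : x ∈ W ⊔ LinearMap.BilinForm.orthogonal (QuadraticMap.polarBilin Q) W := by
      rw [hc.sup_eq_top]; trivial
    obtain ⟨a, ha, b, hb, hab⟩ := Submodule.mem_sup.1 hx
    exact ⟨a, ha, b, hb, hab.symm⟩

/-- the exceptional hypothesis from dimension or from the exclusion of plus-type planes -/
theorem OrthSplit.hX_of [Finite F] {A B : Submodule F (ι → F)} (h : OrthSplit Q A B)
    (hQ : (QuadraticMap.polarBilin Q).Nondegenerate)
    (hpl : finrank F B = 2 → Cfsg.Geo.IsNondegenerateOn (QuadraticMap.polar (⇑Q)) B →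
      Cfsg.Geo.IsPlusTypeOn (⇑Q) B → False) :
    ∀ e f : ι → F, e ∈ B → f ∈ B → Q e = 0 → Q f = 0 →
      QuadraticMap.polar (⇑Q) e f = 1 →
      ∃ c ∈ B, c ≠ 0 ∧ QuadraticMap.polar (⇑Q) e c = 0 ∧ QuadraticMap.polar (⇑Q) f c = 0 := by
  intro e f heB hfB he hf hef
  have hli : LinearIndependent F ![e, f] := by
    rw [LinearIndependent.pair_iff]
    intro s t hst
    have h1 := congrArg (fun z => QuadraticMap.polar (⇑Q) e z) hst
    have h2 := congrArg (fun z => QuadraticMap.polar (⇑Q) z f) hst
    have hee : QuadraticMap.polar (⇑Q) e e = 0 := by rw [polar_self, he, mul_zero]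
    have hff : QuadraticMap.polar (⇑Q) f f = 0 := by rw [polar_self, hf, mul_zero]
    simp only [QuadraticMap.polar_add_right, QuadraticMap.polar_smul_right,
      QuadraticMap.polar_add_left, QuadraticMap.polar_smul_left, hee, hff, hef, smul_eq_mul,
      mul_zero, mul_one, zero_add, add_zero, QuadraticMap.polar_zero_right,
      QuadraticMap.polar_zero_left] at h1 h2
    exact ⟨h2, h1⟩
  have hspan : Submodule.span F (Set.range ![e, f]) ≤ B := by
    rw [Submodule.span_le]
    rintro _ ⟨i, rfl⟩
    fin_cases i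
    · exact heB
    · exact hfB
  have hspdim : finrank F ↥(Submodule.span F (Set.range ![e, f])) = 2 := by
    rw [finrank_span_eq_card hli]; simp
  by_cases h3 : 3 ≤ finrank F B
  · set Y := LinearMap.BilinForm.orthogonal (QuadraticMap.polarBilin Q)
      (Submodule.span F (Set.range ![e, f])) with hY
    have hnn : finrank F (ι → F) = Fintype.card ι := Module.finrank_fintype_fun_eq_card F
    have hYdim : finrank F Y = Fintype.card ι - 2 := by
      rw [hY, LinearMap.BilinForm.finrank_orthogonal hQ, hnn, hspdim]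
    have hinf : 1 ≤ finrank F ↥(B ⊓ Y) := by
      have h1 := Submodule.finrank_sup_add_finrank_inf_eq B Y
      have h2 : finrank F ↥(B ⊔ Y) ≤ Fintype.card ι := by
        rw [← hnn]; exact Submodule.finrank_le _
      have h4 : finrank F B ≤ Fintype.card ι := by
        rw [← hnn]; exact Submodule.finrank_le _
      omega
    have hne : B ⊓ Y ≠ ⊥ := by
      intro h0
      rw [h0, finrank_bot] at hinf
      omega
    obtain ⟨c, hc, hc0⟩ := Submodule.exists_mem_ne_zero_of_ne_bot hne
    refine ⟨c, hc.1, hc0, ?_, ?_⟩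
    · exact hc.2 e (Submodule.subset_span ⟨0, rfl⟩)
    · exact hc.2 f (Submodule.subset_span ⟨1, rfl⟩)
  · exfalso
    have h2 : finrank F B = 2 := by
      have := Submodule.finrank_mono hspan
      omega
    have hBeq : Submodule.span F (Set.range ![e, f]) = B := by
      apply Submodule.eq_of_le_of_finrank_eq hspan
      rw [hspdim, h2]
    apply hpl h2
    · intro w hw hw0
      have : ∃ x ∈ B, QuadraticMap.polar (⇑Q) x w ≠ 0 := by
        by_contra hcon
        push Not at hcon
        apply hw0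
        apply h.symm.nondeg hQ hw
        intro b' hb'
        rw [QuadraticMap.polar_comm]
        exact hcon b' hb'
      obtain ⟨x, hx, hxw⟩ := this
      exact ⟨⟨x, hx, hxw⟩, ⟨x, hx, by rw [QuadraticMap.polar_comm]; exact hxw⟩⟩
    · refine ⟨Submodule.span F {e}, ?_, ?_, ?_⟩
      · rw [Submodule.span_le]
        rintro _ rfl
        exact heB
      · intro w hw
        obtain ⟨c, rfl⟩ := Submodule.mem_span_singleton.1 hw
        rw [QuadraticMap.map_smul, he, smul_zero]
      · have he0 : e ≠ 0 := by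
          rintro rfl
          rw [QuadraticMap.polar_zero_left] at hef
          exact zero_ne_one hef
        rw [finrank_span_singleton he0, h2]

/-- **Maximality of the stabiliser of a nondegenerate subspace**: version for a
nondegenerate subspace `W` of dimension different from half the dimension. -/
theorem nondeg_stab_maximal' [Fintype F] (hQ : (QuadraticMap.polarBilin Q).Nondegenerate)
    (hn : 13 ≤ Fintype.card ι) (W : Submodule F (ι → F)) (hW0 : W ≠ ⊥) (hW1 : W ≠ ⊤)
    (hdim : 2 * finrank F W ≠ Fintype.card ι)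
    (hW : Cfsg.Geo.IsNondegenerateOn (QuadraticMap.polar (⇑Q)) W)
    (hex : Fintype.card F ≤ 3 → ∀ U : Submodule F (ι → F), finrank F U = 2 →
      Cfsg.Geo.IsNondegenerateOn (QuadraticMap.polar (⇑Q)) U → Cfsg.Geo.IsPlusTypeOn (⇑Q) U →
      (U = W ∨ (Cfsg.Geo.AreOrthogonalFor (QuadraticMap.polar (⇑Q)) U W ∧
        finrank F U + finrank F W = Fintype.card ι)) → False) :
    Cfsg.Geo.IsMaximalIn (Cfsg.Geo.omegaGL ⇑Q)
      (Cfsg.Geo.subspaceStabilizer W ⊓ Cfsg.Geo.omegaGL ⇑Q) := by
  have : Finite F := Finite.of_fintype F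
  have h := orthSplit_of_nondeg W hW
  have hadd := h.finrank_add hQ
  set W' := LinearMap.BilinForm.orthogonal (QuadraticMap.polarBilin Q) W with hW'
  have hW'0 : W' ≠ ⊥ := by
    intro h0
    apply hW1
    rw [h0, finrank_bot, add_zero] at hadd
    apply Submodule.eq_top_of_finrank_eq
    rw [hadd, Module.finrank_fintype_fun_eq_card]
  rcases lt_or_gt_of_ne hdim with hlt | hgt
  · -- `W` is the smaller one
    rw [h.stab_eq hQ]
    apply nondeg_stab_maximal hQ h.symm (by omega) (by omega) hW0
    intro hq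
    apply h.symm.hX_of hQ
    intro h2 hnd hpl
    exact hex hq W h2 hnd hpl (Or.inl rfl)
  · apply nondeg_stab_maximal hQ h (by omega) (by omega) hW'0
    intro hq
    apply h.hX_of hQ
    intro h2 hnd hpl
    refine hex hq W' h2 hnd hpl (Or.inr ⟨?_, by omega⟩)
    intro u hu w hw
    exact h.symm.orth u hu w hw

end Cfsg.Agent.H9Orth
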