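import Mathlib
import Cfsg.Prelude
import Cfsg.Agent.Lib.Helper9.OrthMax13

set_option autoImplicit false
set_option maxHeartbeats 800000

/-! Anti-isometries of even-dimensional quadratic spaces over finite fields; an orthogonal
sum of two isometric even-dimensional spaces is of plus type. -/

namespace Cfsg.Agent.H9Orth

open Matrix Module Cfsg.Agent.Lib.Helper2.ReflGen Cfsg.Agent.Lib.Helper2.CDG
  Cfsg.Agent.Lib.Helper2.LongRoot

section anti

variable {F : Type*} [Field F]

/-- a nondegenerate binary diagonal form over a finite field of odd order represents `-1` -/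
theorem exists_repr_neg_one [Fintype F] (h2 : (2 : F) ≠ 0) (δ : F) (hδ : δ ≠ 0) :
    ∃ a b : F, a ^ 2 + δ * b ^ 2 = -1 := by
  have hchar : ringChar F ≠ 2 := by
    intro h
    apply h2
    have := ringChar.Nat.cast_ringChar (R := F)
    rw [h] at this
    exact_mod_cast this
  have hodd := FiniteField.odd_card_of_char_ne_two hchar
  have hf : (Polynomial.X ^ 2 : Polynomial F).degree = 2 := Polynomial.degree_X_pow 2
  have hg : (Polynomial.C δ * Polynomial.X ^ 2 + Polynomial.C 0 * Polynomial.X +
      Polynomial.C 1 : Polynomial F).degree = 2 := Polynomial.degree_quadratic hδ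
  obtain ⟨a, b, hab⟩ := FiniteField.exists_root_sum_quadratic hf hg hodd
  refine ⟨a, b, ?_⟩
  simp only [Polynomial.eval_pow, Polynomial.eval_X, Polynomial.eval_add, Polynomial.eval_mul,
    Polynomial.eval_C, zero_mul, add_zero] at hab
  linear_combination hab

variable {V : Type*} [AddCommGroup V] [Module F V] [FiniteDimensional F V]

/-- an even-dimensional nondegenerate quadratic space over a finite field has an
anti-isometry -/
theorem exists_anti_isometry [Fintype F] (Q : QuadraticForm F V)
    (hQ : (QuadraticMap.polarBilin Q).Nondegenerate) (hev : Even (finrank F V)) :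
    ∃ ψ : V →ₗ[F] V, ∀ z, Q (ψ z) = - Q z := by
  classical
  by_cases h2 : (2 : F) = 0
  · refine ⟨LinearMap.id, fun z => ?_⟩
    have : Q z + Q z = 0 := by rw [← two_mul, h2, zero_mul]
    rw [LinearMap.id_apply]
    exact eq_neg_of_add_eq_zero_left this
  · haveI : Invertible (2 : F) := invertibleOfNonzero h2
    have hsymm : LinearMap.IsSymm (QuadraticMap.polarBilin Q) := by
      constructor
      intro x y
      show QuadraticMap.polar (⇑Q) x y = QuadraticMap.polar (⇑Q) y x
      exact QuadraticMap.polar_comm _ _ _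
    obtain ⟨v, hv⟩ := LinearMap.BilinForm.exists_orthogonal_basis hsymm
    obtain ⟨k, hk⟩ := hev
    have hk2 : finrank F V = k * 2 := by omega
    let e : Fin (finrank F V) ≃ Fin k × Fin 2 := (finCongr hk2).trans finProdFinEquiv.symm
    let w : Basis (Fin k × Fin 2) F V := v.reindex e
    have hwo : ∀ p q, p ≠ q → QuadraticMap.polar (⇑Q) (w p) (w q) = 0 := by
      intro p q hpq
      have := LinearMap.isOrthoᵢ_def.1 hv (e.symm p) (e.symm q)
        (fun h => hpq (e.symm.injective h))
      have e1 : w p = v (e.symm p) := by simp [w]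
      have e2 : w q = v (e.symm q) := by simp [w]
      rw [e1, e2]
      exact this
    have hwself : ∀ p, QuadraticMap.polar (⇑Q) (w p) (w p) = 2 * Q (w p) := by
      intro p
      rw [QuadraticMap.polar_self, two_smul, two_mul]
    have hwQ : ∀ p, Q (w p) ≠ 0 := by
      intro p hp
      have hw0 : w p = 0 := by
        apply hQ.1
        intro y
        have hlin : (QuadraticMap.polarBilin Q) (w p) = 0 := by
          apply w.ext
          intro q
          show QuadraticMap.polar (⇑Q) (w p) (w q) = 0
          by_cases hpq : p = q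
          · subst hpq
            rw [hwself, hp, mul_zero]
          · exact hwo p q hpq
        rw [hlin]; rfl
      exact w.ne_zero p hw0
    obtain ⟨δ, hδ⟩ : ∃ δ : Fin k → F, ∀ i, Q (w (i, 1)) = δ i * Q (w (i, 0)) :=
      ⟨fun i => Q (w (i, 1)) / Q (w (i, 0)), fun i => by
        have := hwQ (i, 0)
        field_simp⟩
    have hδ0 : ∀ i, δ i ≠ 0 := by
      intro i h0
      apply hwQ (i, 1)
      rw [hδ, h0, zero_mul]
    have hab : ∀ i : Fin k, ∃ a b : F, a ^ 2 + δ i * b ^ 2 = -1 :=
      fun i => exists_repr_neg_one h2 _ (hδ0 i)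
    choose a b hab using hab
    let img : Fin k × Fin 2 → V := fun p =>
      if p.2 = 0 then a p.1 • w (p.1, 0) + b p.1 • w (p.1, 1)
      else (-(δ p.1 * b p.1)) • w (p.1, 0) + a p.1 • w (p.1, 1)
    let ψ : V →ₗ[F] V := w.constr F img
    have hψw : ∀ p, ψ (w p) = img p := fun p => w.constr_basis F img p
    have hbil : (QuadraticMap.polarBilin Q).compl₁₂ ψ ψ = - QuadraticMap.polarBilin Q := by
      apply LinearMap.BilinForm.ext_basis w
      intro p q
      rw [LinearMap.compl₁₂_apply, LinearMap.neg_apply, LinearMap.neg_apply, hψw, hψw]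
      show QuadraticMap.polar (⇑Q) (img p) (img q) = - QuadraticMap.polar (⇑Q) (w p) (w q)
      obtain ⟨i, s⟩ := p
      obtain ⟨j, t⟩ := q
      have h01 : ∀ i', QuadraticMap.polar (⇑Q) (w (i', 0)) (w (i', 1)) = 0 := fun i' =>
        hwo _ _ (by simp)
      have h10 : ∀ i', QuadraticMap.polar (⇑Q) (w (i', 1)) (w (i', 0)) = 0 := fun i' =>
        hwo _ _ (by simp)
      by_cases hij : i = j
      · subst hij
        have hi := hab i
        fin_cases s <;> fin_cases t
        · simp only [img, Fin.zero_eta, if_true, QuadraticMap.polar_add_left,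
            QuadraticMap.polar_add_right, QuadraticMap.polar_smul_left,
            QuadraticMap.polar_smul_right, hwself, h01, h10, smul_eq_mul, hδ]
          linear_combination (2 * Q (w (i, 0))) * hi
        · simp only [img, Fin.zero_eta, Fin.mk_one, if_true, one_ne_zero, if_false,
            QuadraticMap.polar_add_left,
            QuadraticMap.polar_add_right, QuadraticMap.polar_smul_left,
            QuadraticMap.polar_smul_right, hwself, h01, h10, smul_eq_mul, hδ]
          ring
        · simp only [img, Fin.zero_eta, Fin.mk_one, if_true, one_ne_zero, if_false,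
            QuadraticMap.polar_add_left,
            QuadraticMap.polar_add_right, QuadraticMap.polar_smul_left,
            QuadraticMap.polar_smul_right, hwself, h01, h10, smul_eq_mul, hδ]
          ring
        · simp only [img, Fin.mk_one, one_ne_zero, if_false, QuadraticMap.polar_add_left,
            QuadraticMap.polar_add_right, QuadraticMap.polar_smul_left,
            QuadraticMap.polar_smul_right, hwself, h01, h10, smul_eq_mul, hδ]
          linear_combination (2 * δ i * Q (w (i, 0))) * hi
      · have hx : ∀ s' t', QuadraticMap.polar (⇑Q) (w (i, s')) (w (j, t')) = 0 := fun s' t' =>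
          hwo _ _ (by simp [hij])
        rw [hx]
        simp only [img]
        split_ifs <;>
        simp only [QuadraticMap.polar_add_left,
            QuadraticMap.polar_add_right, QuadraticMap.polar_smul_left,
            QuadraticMap.polar_smul_right, hx, smul_zero, add_zero, neg_zero]
    refine ⟨ψ, fun z => ?_⟩
    have h1 := LinearMap.congr_fun (LinearMap.congr_fun hbil z) z
    rw [LinearMap.compl₁₂_apply, LinearMap.neg_apply, LinearMap.neg_apply] at h1
    have h1' : QuadraticMap.polar (⇑Q) (ψ z) (ψ z) = - QuadraticMap.polar (⇑Q) z z := h1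
    rw [QuadraticMap.polar_self, QuadraticMap.polar_self, two_smul, two_smul] at h1'
    have : (2 : F) * (Q (ψ z) + Q z) = 0 := by linear_combination h1'
    rcases mul_eq_zero.1 this with h | h
    · exact absurd h h2
    · exact eq_neg_of_add_eq_zero_left h

end anti

variable {F : Type*} [Field F] {ι : Type} [Fintype ι] [DecidableEq ι]
variable {Q : QuadraticForm F (ι → F)}

/-- an orthogonal sum of two isometric even-dimensional spaces is of plus type -/
theorem OrthSplit.plus_of_swap [Fintype F] {A B : Submodule F (ι → F)} (h : OrthSplit Q A B)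
    (hQ : (QuadraticMap.polarBilin Q).Nondegenerate) (hev : Even (finrank F A))
    (hdim : 2 * finrank F A = Fintype.card ι) (γ : ↥(Cfsg.isometryGroup F ⇑Q))
    (hγ : ∀ a ∈ A, ((γ : Matrix.GeneralLinearGroup ι F) : Matrix ι ι F) *ᵥ a ∈ B) :
    Cfsg.Geo.IsPlusTypeOn (⇑Q) ⊤ := by
  obtain ⟨ψ, hψ⟩ := exists_anti_isometry (Q.comp A.subtype) (h.nondeg_comp hQ) hev
  let Φ : ↥A →ₗ[F] (ι → F) := A.subtype +
    (Matrix.toLin' ((γ : Matrix.GeneralLinearGroup ι F) : Matrix ι ι F)).comp (A.subtype.comp ψ)
  have hΦ : ∀ z : ↥A, Φ z = (z : ι → F) +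
      ((γ : Matrix.GeneralLinearGroup ι F) : Matrix ι ι F) *ᵥ ((ψ z : ↥A) : ι → F) := by
    intro z
    simp [Φ]
  have hinj : Function.Injective Φ := by
    rw [← LinearMap.ker_eq_bot, LinearMap.ker_eq_bot']
    intro z hz
    rw [hΦ] at hz
    have hzB : (z : ι → F) ∈ B := by
      have e : (z : ι → F) = -(((γ : Matrix.GeneralLinearGroup ι F) : Matrix ι ι F) *ᵥ
          ((ψ z : ↥A) : ι → F)) := eq_neg_of_add_eq_zero_left hz
      rw [e]
      exact B.neg_mem (hγ _ (ψ z).2)
    exact Subtype.ext (h.disj hQ z.2 hzB)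
  refine ⟨LinearMap.range Φ, le_top, ?_, ?_⟩
  · rintro _ ⟨z, rfl⟩
    rw [hΦ, QuadraticMap.map_add Q, iso_Q, h.orth _ z.2 _ (hγ _ (ψ z).2), add_zero]
    have h1 := hψ z
    have h2 : Q ((ψ z : ↥A) : ι → F) = - Q (z : ι → F) := h1
    rw [h2, add_neg_cancel]
  · rw [LinearMap.finrank_range_of_inj hinj, finrank_top, Module.finrank_fintype_fun_eq_card]
    exact hdim

/-- **Maximality of the stabiliser of a nondegenerate subspace**: half-dimensional case,
for a form of minus type. -/
theorem nondeg_stab_maximal_half [Fintype F] (hQ : (QuadraticMap.polarBilin Q).Nondegenerate)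
    (hn : 13 ≤ Fintype.card ι) (W : Submodule F (ι → F))
    (hdim : 2 * finrank F W = Fintype.card ι) (hev : Even (finrank F W))
    (hW : Cfsg.Geo.IsNondegenerateOn (QuadraticMap.polar (⇑Q)) W)
    (hminus : ¬ Cfsg.Geo.IsPlusTypeOn (⇑Q) ⊤) :
    Cfsg.Geo.IsMaximalIn (Cfsg.Geo.omegaGL ⇑Q)
      (Cfsg.Geo.subspaceStabilizer W ⊓ Cfsg.Geo.omegaGL ⇑Q) := by
  have : Finite F := Finite.of_fintype F
  have h := orthSplit_of_nondeg W hW
  have hadd := h.finrank_add hQ
  apply nondeg_stab_maximal_gen hQ h (by omega)
  · intro γ hγ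
    exact hminus (h.plus_of_swap hQ hev hdim γ hγ)
  · intro h0
    rw [h0, finrank_bot] at hadd
    omega
  · intro _
    apply h.hX_of hQ
    intro h2 _ _
    omega

end Cfsg.Agent.H9Orth
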