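import Mathlib
import Cfsg.Prelude
import Cfsg.Agent.Lib.Helper9.OrthMax14

set_option autoImplicit false
set_option maxHeartbeats 800000

/-! The stabiliser of a decomposition into two non-isometric nondegenerate halves. -/

namespace Cfsg.Agent.H9Orth

open Matrix Module Cfsg.Agent.Lib.Helper2.ReflGen Cfsg.Agent.Lib.Helper2.CDG
  Cfsg.Agent.Lib.Helper2.LongRoot

variable {F : Type*} [Field F] {ι : Type} [Fintype ι] [DecidableEq ι]
variable {Q : QuadraticForm F (ι → F)}

/-- an isometry mapping `A` into `B` (of the same dimension) makes them isometric -/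
theorem isometric_of_maps {A B : Submodule F (ι → F)} (γ : ↥(Cfsg.isometryGroup F ⇑Q))
    (hγ : ∀ a ∈ A, ((γ : Matrix.GeneralLinearGroup ι F) : Matrix ι ι F) *ᵥ a ∈ B)
    (hfin : finrank F A = finrank F B) : Cfsg.Geo.AreIsometricFor (⇑Q) A B := by
  let φ : ↥A →ₗ[F] ↥B :=
    LinearMap.codRestrict B
      ((Matrix.toLin' ((γ : Matrix.GeneralLinearGroup ι F) : Matrix ι ι F)).comp A.subtype)
      (fun a => by
        rw [LinearMap.comp_apply, Matrix.toLin'_apply]
        exact hγ _ a.2)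
  have hφ : ∀ a : ↥A, ((φ a : ↥B) : ι → F) =
      ((γ : Matrix.GeneralLinearGroup ι F) : Matrix ι ι F) *ᵥ (a : ι → F) := by
    intro a
    simp [φ]
  have hinj : Function.Injective φ := by
    intro a a' haa
    have h1 : ((φ a : ↥B) : ι → F) = ((φ a' : ↥B) : ι → F) := by rw [haa]
    rw [hφ, hφ] at h1
    have := congrArg (fun z => (((γ⁻¹ : ↥(Cfsg.isometryGroup F ⇑Q)) :
      Matrix.GeneralLinearGroup ι F) : Matrix ι ι F) *ᵥ z) h1
    have e := inv_mulVec_mulVec (γ⁻¹)
    rw [inv_inv] at e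
    simp only [e] at this
    exact Subtype.ext this
  refine ⟨LinearMap.linearEquivOfInjective φ hinj hfin, fun w => ?_⟩
  rw [LinearMap.linearEquivOfInjective_apply, hφ, iso_Q]

/-- from stabilising to mapping onto -/
theorem map_eq_of_mem_stab (W : Submodule F (ι → F)) (g : Matrix.GeneralLinearGroup ι F)
    (hg : g ∈ Cfsg.Geo.subspaceStabilizer W) :
    W.map (Matrix.toLin' (g : Matrix ι ι F)) = W := by
  apply le_antisymm
  · rintro _ ⟨w, hw, rfl⟩
    rw [Matrix.toLin'_apply]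
    exact (hg w).1 hw
  · intro w hw
    refine ⟨((g⁻¹ : Matrix.GeneralLinearGroup ι F) : Matrix ι ι F) *ᵥ w, ?_, ?_⟩
    · apply (hg _).2
      show (g : Matrix ι ι F) *ᵥ _ ∈ W
      rw [Matrix.mulVec_mulVec, ← Matrix.GeneralLinearGroup.coe_mul, mul_inv_cancel]
      simpa using hw
    · rw [Matrix.toLin'_apply, Matrix.mulVec_mulVec, ← Matrix.GeneralLinearGroup.coe_mul,
        mul_inv_cancel]
      simp

/-- **Maximality of the stabiliser of two non-isometric nondegenerate halves.** -/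
theorem nonisometric_halves_maximal [Fintype F] (hQ : (QuadraticMap.polarBilin Q).Nondegenerate)
    (hn : 13 ≤ Fintype.card ι) (k : ℕ) (hk : 2 * k = Fintype.card ι)
    (D : Fin 2 → Submodule F (ι → F))
    (hD : Cfsg.Geo.IsNondegenerateMDecomposition (QuadraticMap.polar (⇑Q)) k D)
    (hni : ¬ Cfsg.Geo.AreIsometricFor (⇑Q) (D 0) (D 1)) :
    Cfsg.Geo.IsMaximalIn (Cfsg.Geo.omegaGL ⇑Q)
      (Cfsg.Geo.decompositionStabilizer D ⊓ Cfsg.Geo.omegaGL ⇑Q) := by
  have : Finite F := Finite.of_fintype F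
  have hsup : D 0 ⊔ D 1 = ⊤ := by
    rw [← hD.decomp.iSup_eq_top]
    apply le_antisymm
    · exact sup_le (le_iSup D 0) (le_iSup D 1)
    · apply iSup_le
      intro i
      fin_cases i
      · exact le_sup_left
      · exact le_sup_right
  have h : OrthSplit Q (D 0) (D 1) := by
    constructor
    · exact hD.orthogonal 0 1 (by decide)
    · intro x
      have hx : x ∈ D 0 ⊔ D 1 := by rw [hsup]; trivial
      obtain ⟨a, ha, b, hb, hab⟩ := Submodule.mem_sup.1 hx
      exact ⟨a, ha, b, hb, hab.symm⟩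
  have h0 : finrank F (D 0) = k := hD.decomp.finrank_eq 0
  have h1 : finrank F (D 1) = k := hD.decomp.finrank_eq 1
  have hsw : ∀ γ : ↥(Cfsg.isometryGroup F ⇑Q), ¬ ∀ a ∈ D 0,
      ((γ : Matrix.GeneralLinearGroup ι F) : Matrix ι ι F) *ᵥ a ∈ D 1 := by
    intro γ hγ
    exact hni (isometric_of_maps γ hγ (by rw [h0, h1]))
  have heq : Cfsg.Geo.decompositionStabilizer D ⊓ Cfsg.Geo.omegaGL ⇑Q =
      Cfsg.Geo.subspaceStabilizer (D 0) ⊓ Cfsg.Geo.omegaGL ⇑Q := by
    apply le_antisymm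
    · intro g hg
      obtain ⟨⟨σ, hσ⟩, hgΩ⟩ := Subgroup.mem_inf.1 hg
      refine Subgroup.mem_inf.2 ⟨?_, hgΩ⟩
      obtain ⟨γ, rfl⟩ := exists_iso_of_mem_omegaGL hgΩ
      have hσ0 := hσ 0
      by_cases hs : σ 0 = 0
      · rw [hs] at hσ0
        apply mem_subspaceStabilizer_of_mapsTo
        intro a ha
        rw [← hσ0]
        exact ⟨a, ha, by rw [Matrix.toLin'_apply]⟩
      · exfalso
        have hs1 : σ 0 = 1 := by
          have : ∀ j : Fin 2, j ≠ 0 → j = 1 := by decide
          exact this _ hs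
        rw [hs1] at hσ0
        apply hsw γ
        intro a ha
        rw [← hσ0]
        exact ⟨a, ha, by rw [Matrix.toLin'_apply]⟩
    · intro g hg
      have hg1 := h.stab_le hQ hg
      obtain ⟨hg0, hgΩ⟩ := Subgroup.mem_inf.1 hg
      refine Subgroup.mem_inf.2 ⟨⟨1, fun i => ?_⟩, hgΩ⟩
      fin_cases i
      · exact map_eq_of_mem_stab (D 0) g hg0
      · exact map_eq_of_mem_stab (D 1) g hg1
  rw [heq]
  apply nondeg_stab_maximal_gen hQ h (by omega) hsw
  · intro hb
    rw [hb, finrank_bot] at h1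
    omega
  · intro _
    apply h.hX_of hQ
    intro h2 _ _
    omega

end Cfsg.Agent.H9Orth
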