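import Mathlib
import Cfsg.Agent.Lib.Helper9.Elus8

set_option autoImplicit false

/-! Invariant flags `U ≤ W`. -/

namespace Cfsg.Agent.Lib.Helper9.H9Elus

open Module Polynomial
open Cfsg.Agent.H9SemiInv

section general
variable {F V : Type*} [Field F] [AddCommGroup V] [Module F V] [FiniteDimensional F V]

theorem inv_restrict_map (z : V →ₗ[F] V) (C : Submodule F V) (hC : ∀ x ∈ C, z x ∈ C)
    (W' : Submodule F C) (hW' : Inv (z.restrict hC) W') : Inv z (W'.map C.subtype) := by
  rintro _ ⟨w, hw, rfl⟩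
  exact ⟨z.restrict hC w, hW' w hw, rfl⟩

theorem exists_flag_of_restrict (z : V →ₗ[F] V) (U C : Submodule F V) (hU : Inv z U)
    (hC : ∀ x ∈ C, z x ∈ C) (hdisj : Disjoint U C) (W' : Submodule F C)
    (hW' : Inv (z.restrict hC) W') :
    ∃ W : Submodule F V, U ≤ W ∧ Inv z W ∧ finrank F W = finrank F U + finrank F W' := by
  refine ⟨U ⊔ W'.map C.subtype, le_sup_left, hU.sup (inv_restrict_map z C hC W' hW'), ?_⟩
  have hd : Disjoint U (W'.map C.subtype) := hdisj.mono_right (Submodule.map_subtype_le C W')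
  rw [finrank_sup_of_disjoint hd, (Submodule.equivSubtypeMap C W').symm.finrank_eq]

/-- Flags from an invariant subspace with invariant complements carrying invariant subspaces. -/
theorem exists_flag_of_compl (z : V →ₗ[F] V) (hss : Module.End.IsSemisimple z)
    (U : Submodule F V) (hU : Inv z U) (k : ℕ)
    (hk : ∀ (C : Submodule F V) (hC : ∀ x ∈ C, z x ∈ C),
      finrank F U + finrank F C = finrank F V →
        ∃ W' : Submodule F C, Inv (z.restrict hC) W' ∧ finrank F W' = k) :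
    ∃ W : Submodule F V, U ≤ W ∧ Inv z W ∧ finrank F W = finrank F U + k := by
  obtain ⟨C, hCmem, hcompl⟩ := (Module.End.isSemisimple_iff.mp hss) U ((inv_iff_mem z U).mp hU)
  have hC : Inv z C := (inv_iff_mem z C).mpr hCmem
  obtain ⟨W', hW', hW'k⟩ := hk C hC (Submodule.finrank_add_eq_of_isCompl hcompl)
  obtain ⟨W, h1, h2, h3⟩ := exists_flag_of_restrict z U C hU hC hcompl.disjoint W' hW'
  exact ⟨W, h1, h2, by rw [h3, hW'k]⟩

end general

section nat

theorem flag_mod_arith (n m i : ℕ) (hi : 1 ≤ i) (h2m : 2 * m ≤ n)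
    (h : 2 * (m % i) ≤ n % i) : m % i ≤ n % i ∧ (n - 2 * m) % i ≤ (n - m) % i := by
  refine ⟨by omega, ?_⟩
  have hlt : n % i < i := Nat.mod_lt n (by omega)
  have hB : i * (n / i) + n % i = n := Nat.div_add_mod n i
  have hM : i * (m / i) + m % i = m := Nat.div_add_mod m i
  have hBM : 2 * (m / i) ≤ n / i := by
    by_contra hcon
    have h1 : n / i + 1 ≤ 2 * (m / i) := by omega
    have h2 : i * (n / i + 1) ≤ i * (2 * (m / i)) := Nat.mul_le_mul_left i h1
    rw [mul_add, mul_one, show i * (2 * (m / i)) = 2 * (i * (m / i)) by ring] at h2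
    omega
  obtain ⟨D, hD⟩ := Nat.exists_eq_add_of_le hBM
  have hB' : 2 * (i * (m / i)) + i * D + n % i = n := by
    rw [hD] at hB
    have : i * (2 * (m / i) + D) = 2 * (i * (m / i)) + i * D := by ring
    omega
  have hexp : i * (m / i + D) = i * (m / i) + i * D := mul_add _ _ _
  have e1 : n - m = i * (m / i + D) + (n % i - m % i) := by omega
  have e2 : n - 2 * m = i * D + (n % i - 2 * (m % i)) := by omega
  have r1 : (n - m) % i = n % i - m % i := by
    rw [e1, Nat.mul_add_mod]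
    exact Nat.mod_eq_of_lt (by omega)
  have r2 : (n - 2 * m) % i = n % i - 2 * (m % i) := by
    rw [e2, Nat.mul_add_mod]
    exact Nat.mod_eq_of_lt (by omega)
  rw [r1, r2]
  omega

end nat

section cyc
variable {F V : Type*} [Field F] [Fintype F] {p : ℕ} [Fact p.Prime] [CharP F p]
  [AddCommGroup V] [Module F V] [FiniteDimensional F V]

theorem pow_restrict_eq_one (r : ℕ) (y : V →ₗ[F] V) (hy : y ^ r = 1) (C : Submodule F V)
    (hC : ∀ x ∈ C, y x ∈ C) : (y.restrict hC) ^ r = 1 := by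
  have := pow_restrict_eq_smul r (1 : F) y (by rw [hy, one_smul]) C hC
  rwa [one_smul] at this

/-- An invariant subspace splits along the fixed space and the cyclotomic kernel. -/
theorem finrank_inv_eq (r : ℕ) [Fact r.Prime] (hrp : r ≠ p) (y : V →ₗ[F] V) (hy : y ^ r = 1)
    (W : Submodule F V) (hW : Inv y W) :
    finrank F W = finrank F ↥(W ⊓ LinearMap.ker (aeval y (cyclotomic r F)))
      + finrank F ↥(W ⊓ LinearMap.ker (aeval y (X - 1 : F[X]))) := by
  obtain ⟨u, v, huv⟩ := isCoprime_X_sub_one_cyclotomic (F := F) r hrp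
  have hc := isCompl_ker r hrp y hy
  have hXr : aeval y (X ^ r - 1 : F[X]) = 0 := by
    rw [map_sub, map_pow, aeval_X, map_one, hy, sub_self]
  have hdisj : Disjoint (W ⊓ LinearMap.ker (aeval y (cyclotomic r F)))
      (W ⊓ LinearMap.ker (aeval y (X - 1 : F[X]))) :=
    (hc.disjoint.mono inf_le_right inf_le_right).symm
  have hWeq : W = (W ⊓ LinearMap.ker (aeval y (cyclotomic r F))) ⊔
      (W ⊓ LinearMap.ker (aeval y (X - 1 : F[X]))) := by
    apply le_antisymm
    · intro w hw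
      have h1 : w = aeval y (u * (X - 1)) w + aeval y (v * cyclotomic r F) w := by
        rw [← LinearMap.add_apply, ← map_add, huv, map_one, Module.End.one_apply]
      rw [h1]
      apply Submodule.add_mem_sup
      · refine Submodule.mem_inf.mpr ⟨Inv.aeval hW _ w hw, ?_⟩
        rw [LinearMap.mem_ker, ← Module.End.mul_apply, ← map_mul,
          show cyclotomic r F * (u * (X - 1)) = u * (cyclotomic r F * (X - 1)) by ring,
          cyclotomic_prime_mul_X_sub_one, map_mul, hXr, mul_zero, LinearMap.zero_apply]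
      · refine Submodule.mem_inf.mpr ⟨Inv.aeval hW _ w hw, ?_⟩
        rw [LinearMap.mem_ker, ← Module.End.mul_apply, ← map_mul,
          show (X - 1) * (v * cyclotomic r F) = v * (cyclotomic r F * (X - 1)) by ring,
          cyclotomic_prime_mul_X_sub_one, map_mul, hXr, mul_zero, LinearMap.zero_apply]
    · exact sup_le inf_le_left inf_le_left
  conv_lhs => rw [hWeq]
  exact finrank_sup_of_disjoint hdisj

theorem order_dvd_finrank_inf (r : ℕ) [Fact r.Prime] (hrp : r ≠ p) (y : V →ₗ[F] V)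
    (hy : y ^ r = 1) (W : Submodule F V) (hW : Inv y W) :
    orderOf ((Fintype.card F : ℕ) : ZMod r) ∣
      finrank F ↥(W ⊓ LinearMap.ker (aeval y (cyclotomic r F))) := by
  have hss := isSemisimple_of_pow_eq_one r hrp y hy
  exact (exists_inv_mul y hss _ (order_pos r hrp) _ (hW.inf (inv_ker_aeval y _))
    (fun Z hZ hZinv hZne => hmin_cyclotomic r hrp y Z (hZ.trans inf_le_right) hZinv hZne)).1

/-- Two disjoint invariant `m`-spaces force `2 (m % i) ≤ a`. -/
theorem two_mod_le (r : ℕ) [Fact r.Prime] (hrp : r ≠ p) (y : V →ₗ[F] V) (hy : y ^ r = 1)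
    (U₁ U₂ : Submodule F V) (h₁ : Inv y U₁) (h₂ : Inv y U₂) (hd : Disjoint U₁ U₂) (m : ℕ)
    (hm₁ : finrank F U₁ = m) (hm₂ : finrank F U₂ = m) (a : ℕ)
    (ha : finrank F (LinearMap.ker (aeval y (X - 1 : F[X]))) ≤ a)
    (hai : a < orderOf ((Fintype.card F : ℕ) : ZMod r)) :
    2 * (m % orderOf ((Fintype.card F : ℕ) : ZMod r)) ≤ a := by
  set i := orderOf ((Fintype.card F : ℕ) : ZMod r) with hi
  have e₁ := finrank_inv_eq r hrp y hy U₁ h₁
  have e₂ := finrank_inv_eq r hrp y hy U₂ h₂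
  obtain ⟨s₁, hs₁⟩ := order_dvd_finrank_inf r hrp y hy U₁ h₁
  obtain ⟨s₂, hs₂⟩ := order_dvd_finrank_inf r hrp y hy U₂ h₂
  rw [← hi] at hs₁ hs₂
  rw [hm₁, hs₁] at e₁
  rw [hm₂, hs₂] at e₂
  have hdE : Disjoint (U₁ ⊓ LinearMap.ker (aeval y (X - 1 : F[X])))
      (U₂ ⊓ LinearMap.ker (aeval y (X - 1 : F[X]))) := hd.mono inf_le_left inf_le_left
  have hsum := finrank_sup_of_disjoint hdE
  have hle : finrank F ↥((U₁ ⊓ LinearMap.ker (aeval y (X - 1 : F[X]))) ⊔
      (U₂ ⊓ LinearMap.ker (aeval y (X - 1 : F[X])))) ≤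
      finrank F (LinearMap.ker (aeval y (X - 1 : F[X]))) :=
    Submodule.finrank_mono (sup_le inf_le_right inf_le_right)
  have hm1 : m % i = finrank F ↥(U₁ ⊓ LinearMap.ker (aeval y (X - 1 : F[X]))) := by
    rw [e₁, Nat.mul_add_mod, Nat.mod_eq_of_lt (by omega)]
  have hm2 : m % i = finrank F ↥(U₂ ⊓ LinearMap.ker (aeval y (X - 1 : F[X]))) := by
    rw [e₂, Nat.mul_add_mod, Nat.mod_eq_of_lt (by omega)]
  omega

/-- Existence of invariant flags for elements of order dividing `r`. -/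
theorem exists_flag_of_mod (r : ℕ) [Fact r.Prime] (hrp : r ≠ p) (y : V →ₗ[F] V) (hy : y ^ r = 1)
    (m : ℕ) (h2m : 2 * m ≤ finrank F V)
    (hmod : 2 * (m % orderOf ((Fintype.card F : ℕ) : ZMod r)) ≤
      finrank F V % orderOf ((Fintype.card F : ℕ) : ZMod r)) :
    ∃ U W : Submodule F V, U ≤ W ∧ Inv y U ∧ Inv y W ∧ finrank F U = m ∧
      finrank F W = finrank F V - m := by
  obtain ⟨hm1, hm2⟩ := flag_mod_arith (finrank F V) m _ (order_pos r hrp) h2m hmod
  obtain ⟨U, hU, hUm⟩ := exists_inv_of_mod r hrp y hy m (by omega) hm1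
  have hss := isSemisimple_of_pow_eq_one r hrp y hy
  obtain ⟨W, hUW, hW, hWd⟩ := exists_flag_of_compl y hss U hU (finrank F V - 2 * m) (by
    intro C hC hfr
    have hCd : finrank F C = finrank F V - m := by omega
    exact exists_inv_of_mod r hrp (y.restrict hC) (pow_restrict_eq_one r y hy C hC)
      (finrank F V - 2 * m) (by omega) (by rw [hCd]; exact hm2))
  exact ⟨U, W, hUW, hU, hW, hUm, by omega⟩

end cyc

section irred
variable {F V : Type*} [Field F] [AddCommGroup V] [Module F V] [FiniteDimensional F V]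

theorem exists_flag_of_dvd (r : ℕ) (hr : r.Prime) (c : F) (hc : ∀ b : F, b ^ r ≠ c)
    (z : V →ₗ[F] V) (hz : z ^ r = c • 1) (m : ℕ) (hrm : r ∣ m) (h2m : 2 * m ≤ finrank F V) :
    ∃ U W : Submodule F V, U ≤ W ∧ Inv z U ∧ Inv z W ∧ finrank F U = m ∧
      finrank F W = finrank F V - m := by
  have hrn : r ∣ finrank F V := by
    have := dvd_finrank_of_inv r hr c hc z hz ⊤ (fun v _ => Submodule.mem_top)
    rwa [finrank_top] at this
  obtain ⟨t, rfl⟩ := hrm
  obtain ⟨U, hU, hUm⟩ := exists_inv_of_dvd r hr c hc z hz t (by omega)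
  have hss := isSemisimple_of_pow_eq_smul r hr c hc z hz
  have hd2 : r ∣ finrank F V - 2 * (r * t) :=
    Nat.dvd_sub hrn (Dvd.intro _ (by ring : r * (2 * t) = 2 * (r * t)))
  obtain ⟨t', ht'⟩ := hd2
  obtain ⟨W, hUW, hW, hWd⟩ := exists_flag_of_compl z hss U hU (finrank F V - 2 * (r * t)) (by
    intro C hC hfr
    have hCd : finrank F C = finrank F V - r * t := by omega
    obtain ⟨W', hW', hW'd⟩ := exists_inv_of_dvd r hr c hc (z.restrict hC)
      (pow_restrict_eq_smul r c z hz C hC) t' (by rw [hCd, ← ht']; omega)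
    exact ⟨W', hW', by rw [hW'd, ht']⟩)
  exact ⟨U, W, hUW, hU, hW, hUm, by omega⟩

end irred

end Cfsg.Agent.Lib.Helper9.H9Elus
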