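import Mathlib
import Cfsg.Prelude
import Cfsg.Agent.Lib.Helper9.SLRoot2

set_option autoImplicit false

/-!
# Transvection subgroups of `SL_n`: the three relations between two of them
-/

namespace Cfsg.Agent.H9SLRoot

open Matrix
open scoped commutatorElement

variable {k : Type*} [Field k] {ι : Type*} [Fintype ι] [DecidableEq ι]

theorem T_nilpotent (x φ : ι → k) : Group.IsNilpotent (T x φ) :=
  ⟨⟨1, Subgroup.upperCentralSeries_one_eq_top_iff.mpr (T_comm x φ)⟩⟩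

theorem commutator_eq_bot {x φ y ψ : ι → k} (hx : φ ⬝ᵥ x = 0) (hy : ψ ⬝ᵥ y = 0)
    (h1 : ψ ⬝ᵥ x = 0) (h2 : φ ⬝ᵥ y = 0) : ⁅T x φ, T y ψ⁆ = ⊥ := by
  rw [Subgroup.commutator_eq_bot_iff_le_centralizer]
  intro a ha
  obtain ⟨c, rfl⟩ := mem_T.mp ha
  rw [Subgroup.mem_centralizer_iff]
  intro b hb
  obtain ⟨d, rfl⟩ := mem_T.mp hb
  exact (tv_comm hx hy h1 h2 c d).symm

theorem T_ne_of_dot {x φ y ψ : ι → k} (hx : φ ⬝ᵥ x = 0) (hy : ψ ⬝ᵥ y = 0) (hx0 : x ≠ 0)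
    (hφ0 : φ ≠ 0) (hα : ψ ⬝ᵥ x ≠ 0) : T x φ ≠ T y ψ := by
  intro h
  obtain ⟨h1, -⟩ := T_eq_imp hx hy hx0 hφ0 h
  obtain ⟨lam, rfl⟩ := Submodule.mem_span_singleton.mp h1
  apply hα
  rw [dotProduct_smul, hy, smul_zero]

theorem rankOneCondition {x φ y ψ : ι → k} (hx : φ ⬝ᵥ x = 0) (hy : ψ ⬝ᵥ y = 0)
    (hy0 : y ≠ 0) (hψ0 : ψ ≠ 0) (hα : ψ ⬝ᵥ x ≠ 0) (hβ : φ ⬝ᵥ y ≠ 0) :
    Cfsg.RankOneCondition (T x φ) (T y ψ) := by
  intro a ha ha1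
  obtain ⟨c, rfl⟩ := mem_T.mp ha
  have hc : c ≠ 0 := by
    intro hc
    apply ha1
    rw [hc, tv_zero]
  obtain ⟨α, hα'⟩ : ∃ α, α = ψ ⬝ᵥ x := ⟨_, rfl⟩
  obtain ⟨β, hβ'⟩ : ∃ β, β = φ ⬝ᵥ y := ⟨_, rfl⟩
  rw [← hα'] at hα
  rw [← hβ'] at hβ
  refine ⟨tv y ψ (α * β * c)⁻¹, tv_mem_T _ _ _, ?_, ?_⟩
  · rw [Ne, tv_eq_one_iff hy hy0 hψ0, inv_eq_zero]
    exact mul_ne_zero (mul_ne_zero hα hβ) hc
  · rw [conjBy_T, conjBy_T, inv_inv, inv_inv, tv_inv, tv_inv, tv_mulVec hy, tv_mulVec hx,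
      tv_vecMul hy, tv_vecMul hx, ← hα', ← hβ']
    have e1 : x + (-(α * β * c)⁻¹ * α) • y = (-(c * β)⁻¹) • (y + (-c * β) • x) := by
      have h1 : -(α * β * c)⁻¹ * α = -(c * β)⁻¹ := by field_simp
      have h2 : -(c * β)⁻¹ * (-c * β) = 1 := by field_simp
      rw [smul_add, smul_smul, h2, one_smul, h1, add_comm]
    have e2 : φ + ((α * β * c)⁻¹ * β) • ψ = (c * α)⁻¹ • (ψ + (c * α) • φ) := by
      have h1 : (α * β * c)⁻¹ * β = (c * α)⁻¹ := by field_simp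
      have h2 : (c * α)⁻¹ * (c * α) = 1 := inv_mul_cancel₀ (mul_ne_zero hc hα)
      rw [smul_add, smul_smul, h2, one_smul, h1, add_comm]
    rw [e1, e2, T_smul (neg_ne_zero.mpr (inv_ne_zero (mul_ne_zero hc hβ)))
      (inv_ne_zero (mul_ne_zero hc hα))]

theorem isRankOnePair {x φ y ψ : ι → k} (hx : φ ⬝ᵥ x = 0) (hy : ψ ⬝ᵥ y = 0)
    (hx0 : x ≠ 0) (hφ0 : φ ≠ 0) (hy0 : y ≠ 0) (hψ0 : ψ ≠ 0) (hα : ψ ⬝ᵥ x ≠ 0) (hβ : φ ⬝ᵥ y ≠ 0) :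
    Cfsg.IsRankOnePair (T x φ) (T y ψ) :=
  ⟨T_ne_of_dot hx hy hx0 hφ0 hα, T_nilpotent x φ, T_nilpotent y ψ,
    rankOneCondition hx hy hy0 hψ0 hα hβ, rankOneCondition hy hx hx0 hφ0 hβ hα⟩

theorem commutator_eq_T {x φ y ψ : ι → k} (hx : φ ⬝ᵥ x = 0) (hy : ψ ⬝ᵥ y = 0)
    (hα : ψ ⬝ᵥ x ≠ 0) (hβ : φ ⬝ᵥ y = 0) : ⁅T x φ, T y ψ⁆ = T y φ := by
  apply le_antisymm
  · rw [Subgroup.commutator_le]
    intro a ha b hb
    obtain ⟨c, rfl⟩ := mem_T.mp ha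
    obtain ⟨d, rfl⟩ := mem_T.mp hb
    rw [commutatorElement_def, tv_commutator hx hy hβ]
    exact tv_mem_T _ _ _
  · intro g hg
    obtain ⟨e, rfl⟩ := mem_T.mp hg
    have h1 : ⁅tv x φ 1, tv y ψ (-(e / (ψ ⬝ᵥ x)))⁆ ∈ ⁅T x φ, T y ψ⁆ :=
      Subgroup.commutator_mem_commutator (tv_mem_T _ _ _) (tv_mem_T _ _ _)
    rw [commutatorElement_def, tv_commutator hx hy hβ] at h1
    have : -(1 * -(e / (ψ ⬝ᵥ x)) * (ψ ⬝ᵥ x)) = e := by field_simp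
    rwa [this] at h1

theorem rootCommutatorCase (S : Set (Subgroup (Matrix.SpecialLinearGroup ι k)))
    {x φ y ψ : ι → k} (hx : φ ⬝ᵥ x = 0) (hy : ψ ⬝ᵥ y = 0)
    (hx0 : x ≠ 0) (hφ0 : φ ≠ 0) (hy0 : y ≠ 0) (hψ0 : ψ ≠ 0)
    (hS : T y φ ∈ S) (hα : ψ ⬝ᵥ x ≠ 0) (hβ : φ ⬝ᵥ y = 0) :
    Cfsg.RootCommutatorCase S (T x φ) (T y ψ) := by
  have hcomm := commutator_eq_T hx hy hα hβ
  refine ⟨hcomm ▸ hS, ?_, ?_, ?_⟩
  · intro c hc z hz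
    rw [hcomm] at hc
    obtain ⟨e, rfl⟩ := mem_T.mp hc
    have hle : T x φ ⊔ T y ψ ≤ Subgroup.centralizer {tv y φ e} := by
      apply sup_le
      · intro a ha
        obtain ⟨c', rfl⟩ := mem_T.mp ha
        rw [Subgroup.mem_centralizer_iff]
        intro b hb
        rw [Set.mem_singleton_iff] at hb
        rw [hb]
        exact tv_comm hβ hx hβ hx _ _
      · intro a ha
        obtain ⟨c', rfl⟩ := mem_T.mp ha
        rw [Subgroup.mem_centralizer_iff]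
        intro b hb
        rw [Set.mem_singleton_iff] at hb
        rw [hb]
        exact tv_comm hβ hy hy hβ _ _
    have := hle hz
    rw [Subgroup.mem_centralizer_iff] at this
    exact this _ rfl
  · intro a ha ha1
    obtain ⟨c, rfl⟩ := mem_T.mp ha
    have hc : c ≠ 0 := by
      intro hc
      apply ha1
      rw [hc, tv_zero]
    rw [hcomm]
    unfold T
    congr 1
    ext g
    constructor
    · rintro ⟨b, hb, rfl⟩
      obtain ⟨d, rfl⟩ := mem_T.mp hb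
      exact ⟨_, (tv_commutator hx hy hβ c d).symm⟩
    · rintro ⟨e, rfl⟩
      refine ⟨tv y ψ (-(e / (c * (ψ ⬝ᵥ x)))), tv_mem_T _ _ _, ?_⟩
      show tv x φ c * tv y ψ (-(e / (c * (ψ ⬝ᵥ x)))) * (tv x φ c)⁻¹ *
        (tv y ψ (-(e / (c * (ψ ⬝ᵥ x)))))⁻¹ = tv y φ e
      rw [tv_commutator hx hy hβ]
      congr 1
      field_simp
  · intro b hb hb1
    obtain ⟨d, rfl⟩ := mem_T.mp hb
    have hd : d ≠ 0 := by
      intro hd
      apply hb1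
      rw [hd, tv_zero]
    rw [hcomm]
    unfold T
    congr 1
    ext g
    constructor
    · rintro ⟨a, ha, rfl⟩
      obtain ⟨c, rfl⟩ := mem_T.mp ha
      exact ⟨_, (tv_commutator hx hy hβ c d).symm⟩
    · rintro ⟨e, rfl⟩
      refine ⟨tv x φ (-(e / (d * (ψ ⬝ᵥ x)))), tv_mem_T _ _ _, ?_⟩
      show tv x φ (-(e / (d * (ψ ⬝ᵥ x)))) * tv y ψ d * (tv x φ (-(e / (d * (ψ ⬝ᵥ x)))))⁻¹ *
        (tv y ψ d)⁻¹ = tv y φ e
      rw [tv_commutator hx hy hβ]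
      congr 1
      field_simp

theorem rootCommutatorCase_symm {G : Type*} [Group G] {S : Set (Subgroup G)} {A B : Subgroup G}
    (h : Cfsg.RootCommutatorCase S A B) : Cfsg.RootCommutatorCase S B A := by
  obtain ⟨h1, h2, h3, h4⟩ := h
  have hc : ⁅B, A⁆ = ⁅A, B⁆ := Subgroup.commutator_comm B A
  have key : ∀ (X Y : Subgroup G) (y : G),
      Subgroup.closure ((fun a : G => y * a * y⁻¹ * a⁻¹) '' (X : Set G)) =
        Subgroup.closure ((fun a : G => a * y * a⁻¹ * y⁻¹) '' (X : Set G)) := by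
    intro X Y y
    apply le_antisymm
    · rw [Subgroup.closure_le]
      rintro _ ⟨a, ha, rfl⟩
      have : y * a * y⁻¹ * a⁻¹ = (a * y * a⁻¹ * y⁻¹)⁻¹ := by group
      show y * a * y⁻¹ * a⁻¹ ∈ _
      rw [this]
      exact Subgroup.inv_mem _ (Subgroup.subset_closure ⟨a, ha, rfl⟩)
    · rw [Subgroup.closure_le]
      rintro _ ⟨a, ha, rfl⟩
      have : a * y * a⁻¹ * y⁻¹ = (y * a * y⁻¹ * a⁻¹)⁻¹ := by group
      show a * y * a⁻¹ * y⁻¹ ∈ _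
      rw [this]
      exact Subgroup.inv_mem _ (Subgroup.subset_closure ⟨a, ha, rfl⟩)
  refine ⟨hc ▸ h1, ?_, ?_, ?_⟩
  · intro c hc' z hz
    rw [hc] at hc'
    rw [sup_comm] at hz
    exact h2 c hc' z hz
  · intro b hb hb1
    rw [hc, key A B b]
    exact h4 b hb hb1
  · intro a ha ha1
    rw [hc, ← key B A a]
    exact h3 a ha ha1

theorem conjBy_eq_self_of_comm {G : Type*} [Group G] (A : Subgroup G) (g : G)
    (h : ∀ a ∈ A, g * a = a * g) : Cfsg.conjBy A g = A := by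
  ext z
  unfold Cfsg.conjBy
  rw [Subgroup.mem_map]
  constructor
  · rintro ⟨w, hw, rfl⟩
    show g * w * g⁻¹ ∈ A
    rw [h w hw, mul_inv_cancel_right]
    exact hw
  · intro hz
    refine ⟨z, hz, ?_⟩
    show g * z * g⁻¹ = z
    rw [h z hz, mul_inv_cancel_right]

/-- commuting transvection subgroups are not a rank one pair -/
theorem not_rankOne_of_comm {x φ y ψ : ι → k} (hx : φ ⬝ᵥ x = 0) (hy : ψ ⬝ᵥ y = 0)
    (hx0 : x ≠ 0) (hφ0 : φ ≠ 0) (h1 : ψ ⬝ᵥ x = 0) (h2 : φ ⬝ᵥ y = 0) :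
    ¬ Cfsg.IsRankOnePair (T x φ) (T y ψ) := by
  intro h
  have ha1 : tv x φ (1 : k) ≠ 1 := by
    rw [Ne, tv_eq_one_iff hx hx0 hφ0]; exact one_ne_zero
  obtain ⟨b, hb, _, hconj⟩ := h.cond_left (tv x φ 1) (tv_mem_T _ _ _) ha1
  obtain ⟨d, rfl⟩ := mem_T.mp hb
  rw [conjBy_eq_self_of_comm, conjBy_eq_self_of_comm] at hconj
  · exact h.ne hconj
  · intro a ha
    obtain ⟨c, rfl⟩ := mem_T.mp ha
    rw [tv_inv]
    exact tv_comm hx hy h1 h2 _ _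
  · intro a ha
    obtain ⟨c, rfl⟩ := mem_T.mp ha
    rw [tv_inv]
    exact tv_comm hy hx h2 h1 _ _

/-- in the commutator case the two subgroups are not a rank one pair -/
theorem not_rankOne_of_half {x φ y ψ : ι → k} (hx : φ ⬝ᵥ x = 0) (hy : ψ ⬝ᵥ y = 0)
    (hx0 : x ≠ 0) (hφ0 : φ ≠ 0) (hα : ψ ⬝ᵥ x ≠ 0) (hβ : φ ⬝ᵥ y = 0) :
    ¬ Cfsg.IsRankOnePair (T x φ) (T y ψ) := by
  intro h
  have ha1 : tv x φ (1 : k) ≠ 1 := by
    rw [Ne, tv_eq_one_iff hx hx0 hφ0]; exact one_ne_zero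
  obtain ⟨b, hb, _, hconj⟩ := h.cond_left (tv x φ 1) (tv_mem_T _ _ _) ha1
  obtain ⟨d, rfl⟩ := mem_T.mp hb
  rw [conjBy_T, conjBy_T, inv_inv, inv_inv] at hconj
  have hinc1 : (φ ᵥ* ((tv y ψ d : Matrix.SpecialLinearGroup ι k) : Matrix ι ι k)) ⬝ᵥ
      (((tv y ψ d)⁻¹ : Matrix.SpecialLinearGroup ι k) : Matrix ι ι k) *ᵥ x = 0 := by
    have := dot_conj (tv y ψ d)⁻¹ x φ
    rw [inv_inv] at this
    rw [this, hx]
  have hinc2 : (ψ ᵥ* ((tv x φ 1 : Matrix.SpecialLinearGroup ι k) : Matrix ι ι k)) ⬝ᵥ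
      (((tv x φ 1)⁻¹ : Matrix.SpecialLinearGroup ι k) : Matrix ι ι k) *ᵥ y = 0 := by
    have := dot_conj (tv x φ 1)⁻¹ y ψ
    rw [inv_inv] at this
    rw [this, hy]
  have hx1 : (((tv y ψ d)⁻¹ : Matrix.SpecialLinearGroup ι k) : Matrix ι ι k) *ᵥ x ≠ 0 := by
    intro h0
    apply hx0
    have := mulVec_inv_mulVec (tv y ψ d) x
    rw [h0, Matrix.mulVec_zero] at this
    exact this.symm
  have hφ1 : φ ᵥ* ((tv y ψ d : Matrix.SpecialLinearGroup ι k) : Matrix ι ι k) ≠ 0 := by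
    intro h0
    apply hφ0
    have := vecMul_vecMul_inv (tv y ψ d) φ
    rw [h0, Matrix.zero_vecMul] at this
    exact this.symm
  obtain ⟨-, h2⟩ := T_eq_imp hinc1 hinc2 hx1 hφ1 hconj
  rw [tv_vecMul hy, tv_vecMul hx, hβ, mul_zero, zero_smul, add_zero, one_mul] at h2
  obtain ⟨mu, hmu⟩ := Submodule.mem_span_singleton.mp h2
  have h3 := congrArg (fun w => w ⬝ᵥ x) hmu
  beta_reduce at h3
  rw [smul_dotProduct, add_dotProduct, smul_dotProduct, hx, smul_zero, add_zero, smul_eq_mul] at h3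
  rcases mul_eq_zero.mp h3 with h4 | h4
  · rw [h4, zero_smul] at hmu
    exact hφ0 hmu.symm
  · exact hα h4

end Cfsg.Agent.H9SLRoot
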