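import Mathlib
import Cfsg.Prelude
import Cfsg.Agent.Lib.Helper2.Symp4

set_option autoImplicit false

/-!
# Symplectic transvection subgroups as a class of abstract root subgroups: basic facts
-/

namespace Cfsg.Agent.H9SpRoot

open Matrix
open Cfsg.Agent.Lib.Helper2.Symp

variable {F : Type*} [Field F] {n : ℕ}

theorem ext_mulVec {A B : Matrix (Fin n ⊕ Fin n) (Fin n ⊕ Fin n) F}
    (h : ∀ v, A *ᵥ v = B *ᵥ v) : A = B := by
  apply Matrix.toLin'.injective
  apply LinearMap.ext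
  intro v
  rw [Matrix.toLin'_apply, Matrix.toLin'_apply]
  exact h v

/-- the symplectic transvection as an element of the symplectic group -/
def tv (p : Fin n ⊕ Fin n → F) (c : F) : Matrix.symplecticGroup (Fin n) F :=
  ⟨Cfsg.sympTransvection n p c, sympTransvection_mem p c⟩

theorem tv_coe (p : Fin n ⊕ Fin n → F) (c : F) :
    ((tv p c : Matrix.symplecticGroup (Fin n) F) : Matrix (Fin n ⊕ Fin n) (Fin n ⊕ Fin n) F) =
      Cfsg.sympTransvection n p c := rfl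

theorem tv_mulVec (p : Fin n ⊕ Fin n → F) (c : F) (x : Fin n ⊕ Fin n → F) :
    ((tv p c : Matrix.symplecticGroup (Fin n) F) : Matrix (Fin n ⊕ Fin n) (Fin n ⊕ Fin n) F) *ᵥ x =
      x + (c * Cfsg.sympForm n F x p) • p := sympTransvection_mulVec p c x

theorem sp_ext {g h : Matrix.symplecticGroup (Fin n) F}
    (H : ∀ v, (g : Matrix (Fin n ⊕ Fin n) (Fin n ⊕ Fin n) F) *ᵥ v =
      (h : Matrix (Fin n ⊕ Fin n) (Fin n ⊕ Fin n) F) *ᵥ v) : g = h :=
  Subtype.ext (ext_mulVec H)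

theorem coe_mul_mulVec (g h : Matrix.symplecticGroup (Fin n) F) (v : Fin n ⊕ Fin n → F) :
    ((g * h : Matrix.symplecticGroup (Fin n) F) : Matrix (Fin n ⊕ Fin n) (Fin n ⊕ Fin n) F) *ᵥ v =
      (g : Matrix (Fin n ⊕ Fin n) (Fin n ⊕ Fin n) F) *ᵥ
        ((h : Matrix (Fin n ⊕ Fin n) (Fin n ⊕ Fin n) F) *ᵥ v) := by
  rw [Matrix.mulVec_mulVec]; rfl

theorem coe_one_mulVec (v : Fin n ⊕ Fin n → F) :
    ((1 : Matrix.symplecticGroup (Fin n) F) : Matrix (Fin n ⊕ Fin n) (Fin n ⊕ Fin n) F) *ᵥ v = v := by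
  show (1 : Matrix (Fin n ⊕ Fin n) (Fin n ⊕ Fin n) F) *ᵥ v = v
  rw [Matrix.one_mulVec]

theorem inv_mulVec_mulVec (g : Matrix.symplecticGroup (Fin n) F) (v : Fin n ⊕ Fin n → F) :
    ((g⁻¹ : Matrix.symplecticGroup (Fin n) F) : Matrix (Fin n ⊕ Fin n) (Fin n ⊕ Fin n) F) *ᵥ
      ((g : Matrix (Fin n ⊕ Fin n) (Fin n ⊕ Fin n) F) *ᵥ v) = v := by
  rw [← coe_mul_mulVec, inv_mul_cancel, coe_one_mulVec]

theorem mulVec_inv_mulVec (g : Matrix.symplecticGroup (Fin n) F) (v : Fin n ⊕ Fin n → F) :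
    (g : Matrix (Fin n ⊕ Fin n) (Fin n ⊕ Fin n) F) *ᵥ
      (((g⁻¹ : Matrix.symplecticGroup (Fin n) F) : Matrix (Fin n ⊕ Fin n) (Fin n ⊕ Fin n) F) *ᵥ v) = v := by
  rw [← coe_mul_mulVec, mul_inv_cancel, coe_one_mulVec]

theorem form_mulVec (g : Matrix.symplecticGroup (Fin n) F) (x y : Fin n ⊕ Fin n → F) :
    Cfsg.sympForm n F ((g : Matrix (Fin n ⊕ Fin n) (Fin n ⊕ Fin n) F) *ᵥ x)
      ((g : Matrix (Fin n ⊕ Fin n) (Fin n ⊕ Fin n) F) *ᵥ y) = Cfsg.sympForm n F x y :=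
  sympForm_mulVec g.1 g.2 x y

theorem form_inv_mulVec (g : Matrix.symplecticGroup (Fin n) F) (x y : Fin n ⊕ Fin n → F) :
    Cfsg.sympForm n F
      (((g⁻¹ : Matrix.symplecticGroup (Fin n) F) : Matrix (Fin n ⊕ Fin n) (Fin n ⊕ Fin n) F) *ᵥ x) y =
      Cfsg.sympForm n F x ((g : Matrix (Fin n ⊕ Fin n) (Fin n ⊕ Fin n) F) *ᵥ y) := by
  rw [← form_mulVec g, mulVec_inv_mulVec]

theorem tv_mul (p : Fin n ⊕ Fin n → F) (c d : F) : tv p c * tv p d = tv p (c + d) :=
  Subtype.ext (sympTransvection_mul p c d)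

theorem tv_zero (p : Fin n ⊕ Fin n → F) : tv p (0 : F) = 1 := by
  apply sp_ext
  intro v
  rw [tv_mulVec, coe_one_mulVec, zero_mul, zero_smul, add_zero]

theorem tv_inv (p : Fin n ⊕ Fin n → F) (c : F) : (tv p c)⁻¹ = tv p (-c) := by
  rw [inv_eq_iff_mul_eq_one, tv_mul, add_neg_cancel, tv_zero]

/-- nondegeneracy of the standard alternating form -/
theorem exists_form_ne_zero {p : Fin n ⊕ Fin n → F} (hp : p ≠ 0) :
    ∃ v, Cfsg.sympForm n F p v ≠ 0 := by
  have : ∃ i, p i ≠ 0 := by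
    by_contra h
    push Not at h
    exact hp (funext h)
  obtain ⟨i, hi⟩ := this
  rcases i with j | j
  · refine ⟨Pi.single (Sum.inr j) 1, ?_⟩
    rw [sympForm_single_inr]
    exact neg_ne_zero.mpr hi
  · refine ⟨Pi.single (Sum.inl j) 1, ?_⟩
    rw [sympForm_single_inl]
    exact hi

theorem exists_partner {p : Fin n ⊕ Fin n → F} (hp : p ≠ 0) :
    ∃ v, Cfsg.sympForm n F p v = 1 := by
  obtain ⟨v, hv⟩ := exists_form_ne_zero hp
  refine ⟨(Cfsg.sympForm n F p v)⁻¹ • v, ?_⟩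
  rw [sympForm_smul_right, inv_mul_cancel₀ hv]

theorem form_zero_left (v : Fin n ⊕ Fin n → F) : Cfsg.sympForm n F 0 v = 0 := by
  have := sympForm_smul_left (0 : F) (0 : Fin n ⊕ Fin n → F) v
  rw [zero_smul, zero_mul] at this
  exact this

theorem form_zero_right (v : Fin n ⊕ Fin n → F) : Cfsg.sympForm n F v 0 = 0 := by
  rw [sympForm_swap, form_zero_left, neg_zero]

theorem form_neg_right (u v : Fin n ⊕ Fin n → F) :
    Cfsg.sympForm n F u (-v) = - Cfsg.sympForm n F u v := by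
  have := sympForm_smul_right (-1 : F) u v
  rw [neg_one_smul, neg_one_mul] at this
  exact this

theorem ne_zero_of_form_ne_zero_left {p r : Fin n ⊕ Fin n → F} (h : Cfsg.sympForm n F p r ≠ 0) :
    p ≠ 0 := by
  rintro rfl
  exact h (form_zero_left r)

theorem ne_zero_of_form_ne_zero_right {p r : Fin n ⊕ Fin n → F} (h : Cfsg.sympForm n F p r ≠ 0) :
    r ≠ 0 := by
  rintro rfl
  exact h (form_zero_right p)

theorem tv_eq_one_iff {p : Fin n ⊕ Fin n → F} (hp : p ≠ 0) (c : F) : tv p c = 1 ↔ c = 0 := by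
  constructor
  · intro h
    obtain ⟨v, hv⟩ := exists_form_ne_zero hp
    have h1 := tv_mulVec p c v
    rw [h, coe_one_mulVec] at h1
    have h2 : (c * Cfsg.sympForm n F v p) • p = 0 := by
      have := h1.symm
      rwa [add_eq_left] at this
    rcases smul_eq_zero.mp h2 with h3 | h3
    · rcases mul_eq_zero.mp h3 with h4 | h4
      · exact h4
      · exfalso
        rw [sympForm_swap, neg_eq_zero] at h4
        exact hv h4
    · exact absurd h3 hp
  · rintro rfl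
    exact tv_zero p

theorem tv_injective {p : Fin n ⊕ Fin n → F} (hp : p ≠ 0) {c d : F} (h : tv p c = tv p d) :
    c = d := by
  have : tv p (c - d) = 1 := by
    rw [sub_eq_add_neg, ← tv_mul, ← tv_inv, h, mul_inv_cancel]
  exact sub_eq_zero.mp ((tv_eq_one_iff hp _).mp this)

/-- conjugation of transvections -/
theorem tv_conj (g : Matrix.symplecticGroup (Fin n) F) (p : Fin n ⊕ Fin n → F) (c : F) :
    g * tv p c * g⁻¹ =
      tv ((g : Matrix (Fin n ⊕ Fin n) (Fin n ⊕ Fin n) F) *ᵥ p) c := by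
  apply sp_ext
  intro v
  rw [coe_mul_mulVec, coe_mul_mulVec, tv_mulVec, tv_mulVec, Matrix.mulVec_add, mulVec_inv_mulVec,
    Matrix.mulVec_smul, form_inv_mulVec]

theorem tv_smul (lam : F) (p : Fin n ⊕ Fin n → F) (c : F) :
    tv (lam • p) c = tv p (lam * lam * c) := by
  apply sp_ext
  intro v
  rw [tv_mulVec, tv_mulVec, sympForm_smul_right, smul_smul]
  congr 2
  ring

/-- transvections with orthogonal centres commute -/
theorem tv_comm {p r : Fin n ⊕ Fin n → F} (h : Cfsg.sympForm n F p r = 0) (c d : F) :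
    tv p c * tv r d = tv r d * tv p c := by
  have h' : Cfsg.sympForm n F r p = 0 := by rw [sympForm_swap, h, neg_zero]
  apply sp_ext
  intro v
  rw [coe_mul_mulVec, coe_mul_mulVec, tv_mulVec, tv_mulVec, tv_mulVec, tv_mulVec,
    sympForm_add_left, sympForm_add_left, sympForm_smul_left, sympForm_smul_left, h, h']
  simp only [mul_zero, add_zero]
  abel

/-- transvections with non-orthogonal centres do not commute -/
theorem tv_not_comm {p r : Fin n ⊕ Fin n → F} (h : Cfsg.sympForm n F p r ≠ 0) {c d : F}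
    (hc : c ≠ 0) (hd : d ≠ 0) : tv p c * tv r d ≠ tv r d * tv p c := by
  intro heq
  have hp : p ≠ 0 := ne_zero_of_form_ne_zero_left h
  have h1 := congrArg (fun g : Matrix.symplecticGroup (Fin n) F =>
    (g : Matrix (Fin n ⊕ Fin n) (Fin n ⊕ Fin n) F) *ᵥ p) heq
  beta_reduce at h1
  rw [coe_mul_mulVec, coe_mul_mulVec, tv_mulVec, tv_mulVec, tv_mulVec, tv_mulVec,
    sympForm_add_left, sympForm_add_left, sympForm_smul_left, sympForm_smul_left,
    sympForm_self] at h1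
  have hrp : Cfsg.sympForm n F r p = - Cfsg.sympForm n F p r := sympForm_swap r p
  rw [hrp] at h1
  simp only [mul_zero, zero_mul, zero_smul, add_zero, zero_add] at h1
  -- h1 : p + (d * e) • r + (c * (d * e * (-e))) • p = p + (d * e) • r   (roughly)
  have h2 : (c * (d * Cfsg.sympForm n F p r * -Cfsg.sympForm n F p r)) • p = 0 := by
    have := h1
    rw [add_eq_left] at this
    exact this
  rcases smul_eq_zero.mp h2 with h3 | h3
  · have : c * (d * Cfsg.sympForm n F p r * -Cfsg.sympForm n F p r) ≠ 0 := by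
      apply mul_ne_zero hc
      apply mul_ne_zero (mul_ne_zero hd h)
      exact neg_ne_zero.mpr h
    exact this h3
  · exact hp h3

/-- the generating set of the transvection subgroup, as in the statement -/
def Tset (p : Fin n ⊕ Fin n → F) : Set (Matrix.symplecticGroup (Fin n) F) :=
  {g | ∃ c : F, ∀ v : Fin n ⊕ Fin n → F,
    (g : Matrix (Fin n ⊕ Fin n) (Fin n ⊕ Fin n) F) *ᵥ v =
      v + (c * (v ⬝ᵥ (Matrix.J (Fin n) F *ᵥ p))) • p}

theorem mem_Tset {p : Fin n ⊕ Fin n → F} {g : Matrix.symplecticGroup (Fin n) F} :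
    g ∈ Tset p ↔ ∃ c, g = tv p c := by
  constructor
  · rintro ⟨c, hc⟩
    refine ⟨c, sp_ext fun v => ?_⟩
    rw [hc v, tv_mulVec]
    rfl
  · rintro ⟨c, rfl⟩
    exact ⟨c, fun v => tv_mulVec p c v⟩

/-- the transvection subgroup with centre `p` -/
def T (p : Fin n ⊕ Fin n → F) : Subgroup (Matrix.symplecticGroup (Fin n) F) :=
  Subgroup.closure (Tset p)

theorem mem_T {p : Fin n ⊕ Fin n → F} {g : Matrix.symplecticGroup (Fin n) F} :
    g ∈ T p ↔ ∃ c, g = tv p c := by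
  constructor
  · intro hg
    unfold T at hg
    induction hg using Subgroup.closure_induction with
    | mem x hx => exact mem_Tset.mp hx
    | one => exact ⟨0, (tv_zero p).symm⟩
    | mul x y _ _ hx hy =>
      obtain ⟨c, rfl⟩ := hx
      obtain ⟨d, rfl⟩ := hy
      exact ⟨c + d, tv_mul p c d⟩
    | inv x _ hx =>
      obtain ⟨c, rfl⟩ := hx
      exact ⟨-c, tv_inv p c⟩
  · rintro ⟨c, rfl⟩
    exact Subgroup.subset_closure (mem_Tset.mpr ⟨c, rfl⟩)

theorem tv_mem_T (p : Fin n ⊕ Fin n → F) (c : F) : tv p c ∈ T p := mem_T.mpr ⟨c, rfl⟩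

theorem T_smul {lam : F} (hlam : lam ≠ 0) (p : Fin n ⊕ Fin n → F) : T (lam • p) = T p := by
  ext g
  rw [mem_T, mem_T]
  constructor
  · rintro ⟨c, rfl⟩
    exact ⟨_, tv_smul lam p c⟩
  · rintro ⟨c, rfl⟩
    refine ⟨lam⁻¹ * lam⁻¹ * c, ?_⟩
    rw [tv_smul]
    congr 1
    field_simp

theorem conjBy_T (g : Matrix.symplecticGroup (Fin n) F) (p : Fin n ⊕ Fin n → F) :
    Cfsg.conjBy (T p) g = T ((g : Matrix (Fin n ⊕ Fin n) (Fin n ⊕ Fin n) F) *ᵥ p) := by
  ext x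
  unfold Cfsg.conjBy
  rw [Subgroup.mem_map, mem_T]
  constructor
  · rintro ⟨y, hy, rfl⟩
    obtain ⟨c, rfl⟩ := mem_T.mp hy
    exact ⟨c, tv_conj g p c⟩
  · rintro ⟨c, rfl⟩
    exact ⟨tv p c, tv_mem_T p c, tv_conj g p c⟩

theorem T_ne_bot {p : Fin n ⊕ Fin n → F} (hp : p ≠ 0) : T p ≠ ⊥ := by
  intro h
  have h1 : tv p 1 ∈ T p := tv_mem_T p 1
  rw [h, Subgroup.mem_bot, tv_eq_one_iff hp] at h1
  exact one_ne_zero h1

theorem T_comm (p : Fin n ⊕ Fin n → F) : IsMulCommutative (T p) := by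
  refine ⟨⟨?_⟩⟩
  rintro ⟨a, ha⟩ ⟨b, hb⟩
  obtain ⟨c, rfl⟩ := mem_T.mp ha
  obtain ⟨d, rfl⟩ := mem_T.mp hb
  apply Subtype.ext
  show tv p c * tv p d = tv p d * tv p c
  rw [tv_mul, tv_mul, add_comm]

theorem mulVec_ne_zero (g : Matrix.symplecticGroup (Fin n) F) {p : Fin n ⊕ Fin n → F} (hp : p ≠ 0) :
    (g : Matrix (Fin n ⊕ Fin n) (Fin n ⊕ Fin n) F) *ᵥ p ≠ 0 := by
  intro h
  apply hp
  have := inv_mulVec_mulVec g p
  rw [h, Matrix.mulVec_zero] at this
  exact this.symm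

/-- the symplectic group is transitive on non-zero vectors -/
theorem exists_mulVec_eq {p r : Fin n ⊕ Fin n → F} (hp : p ≠ 0) (hr : r ≠ 0) :
    ∃ g : Matrix.symplecticGroup (Fin n) F,
      (g : Matrix (Fin n ⊕ Fin n) (Fin n ⊕ Fin n) F) *ᵥ p = r := by
  obtain ⟨v, hv⟩ := exists_partner hp
  obtain ⟨w, hw⟩ := exists_partner hr
  obtain ⟨A, _, hA, _⟩ := transitive_on_hyperbolic_pairs p v r w hv hw
  exact ⟨A, hA⟩

end Cfsg.Agent.H9SpRoot
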