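import Mathlib
import Cfsg.Prelude
import Cfsg.Agent.Lib.Helper9.SpRoot1

set_option autoImplicit false

/-!
# Symplectic transvection subgroups: rank one pairs, no commutator case, connectedness
-/

namespace Cfsg.Agent.H9SpRoot

open Matrix
open Cfsg.Agent.Lib.Helper2.Symp
open scoped commutatorElement

variable {F : Type*} [Field F] {n : ℕ}

theorem T_ne {p r : Fin n ⊕ Fin n → F} (h : Cfsg.sympForm n F p r ≠ 0) : T p ≠ T r := by
  intro heq
  have hp : p ≠ 0 := ne_zero_of_form_ne_zero_left h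
  have h1 : tv p 1 ∈ T r := heq ▸ tv_mem_T p 1
  obtain ⟨d, hd⟩ := mem_T.mp h1
  have h2 := congrArg (fun g : Matrix.symplecticGroup (Fin n) F =>
    (g : Matrix (Fin n ⊕ Fin n) (Fin n ⊕ Fin n) F) *ᵥ r) hd
  beta_reduce at h2
  rw [tv_mulVec, tv_mulVec, sympForm_self, mul_zero, zero_smul, add_zero, add_eq_left, one_mul] at h2
  rcases smul_eq_zero.mp h2 with h3 | h3
  · rw [sympForm_swap, neg_eq_zero] at h3
    exact h h3
  · exact hp h3

theorem T_nilpotent (p : Fin n ⊕ Fin n → F) : Group.IsNilpotent (T p) :=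
  ⟨⟨1, Subgroup.upperCentralSeries_one_eq_top_iff.mpr (T_comm p)⟩⟩

theorem rankOneCondition {p r : Fin n ⊕ Fin n → F} (h : Cfsg.sympForm n F p r ≠ 0) :
    Cfsg.RankOneCondition (T p) (T r) := by
  have hp : p ≠ 0 := ne_zero_of_form_ne_zero_left h
  have hr : r ≠ 0 := ne_zero_of_form_ne_zero_right h
  intro a ha ha1
  obtain ⟨c, rfl⟩ := mem_T.mp ha
  have hc : c ≠ 0 := by
    intro hc
    apply ha1
    rw [hc, tv_zero]
  obtain ⟨e, he⟩ : ∃ e, e = Cfsg.sympForm n F p r := ⟨_, rfl⟩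
  rw [← he] at h
  have hrp : Cfsg.sympForm n F r p = -e := by rw [sympForm_swap, he]
  refine ⟨tv r (-(c * e * e)⁻¹), tv_mem_T _ _, ?_, ?_⟩
  · rw [Ne, tv_eq_one_iff hr, neg_eq_zero, inv_eq_zero]
    exact mul_ne_zero (mul_ne_zero hc h) h
  · rw [conjBy_T, conjBy_T, tv_inv, tv_inv, tv_mulVec, tv_mulVec, ← he, hrp, neg_neg]
    have : p + ((c * e * e)⁻¹ * e) • r = (c * e)⁻¹ • (r + (-c * -e) • p) := by
      rw [smul_add, smul_smul, add_comm]
      congr 1
      · congr 1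
        field_simp
      · rw [show (c * e)⁻¹ * (-c * -e) = 1 by field_simp, one_smul]
    rw [this, T_smul (inv_ne_zero (mul_ne_zero hc h))]

theorem isRankOnePair {p r : Fin n ⊕ Fin n → F} (h : Cfsg.sympForm n F p r ≠ 0) :
    Cfsg.IsRankOnePair (T p) (T r) := by
  have h' : Cfsg.sympForm n F r p ≠ 0 := by
    rw [sympForm_swap]; exact neg_ne_zero.mpr h
  exact ⟨T_ne h, T_nilpotent p, T_nilpotent r, rankOneCondition h, rankOneCondition h'⟩

theorem commutator_eq_bot {p r : Fin n ⊕ Fin n → F} (h : Cfsg.sympForm n F p r = 0) :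
    ⁅T p, T r⁆ = ⊥ := by
  rw [Subgroup.commutator_eq_bot_iff_le_centralizer]
  intro a ha
  obtain ⟨c, rfl⟩ := mem_T.mp ha
  rw [Subgroup.mem_centralizer_iff]
  intro b hb
  obtain ⟨d, rfl⟩ := mem_T.mp hb
  exact (tv_comm h c d).symm

theorem conjBy_eq_self_of_comm {G : Type*} [Group G] (A : Subgroup G) (g : G)
    (h : ∀ a ∈ A, g * a = a * g) : Cfsg.conjBy A g = A := by
  ext x
  unfold Cfsg.conjBy
  rw [Subgroup.mem_map]
  constructor
  · rintro ⟨y, hy, rfl⟩
    show g * y * g⁻¹ ∈ A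
    rw [h y hy, mul_inv_cancel_right]
    exact hy
  · intro hx
    refine ⟨x, hx, ?_⟩
    show g * x * g⁻¹ = x
    rw [h x hx, mul_inv_cancel_right]

theorem form_ne_zero_of_rankOne {p r : Fin n ⊕ Fin n → F} (hp : p ≠ 0)
    (h : Cfsg.IsRankOnePair (T p) (T r)) : Cfsg.sympForm n F p r ≠ 0 := by
  intro h0
  have h0' : Cfsg.sympForm n F r p = 0 := by rw [sympForm_swap, h0, neg_zero]
  have ha1 : tv p (1 : F) ≠ 1 := by
    rw [Ne, tv_eq_one_iff hp]; exact one_ne_zero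
  obtain ⟨b, hb, _, hconj⟩ := h.cond_left (tv p 1) (tv_mem_T p 1) ha1
  obtain ⟨d, rfl⟩ := mem_T.mp hb
  rw [conjBy_eq_self_of_comm, conjBy_eq_self_of_comm] at hconj
  · exact h.ne hconj
  · intro a ha
    obtain ⟨c, rfl⟩ := mem_T.mp ha
    rw [tv_inv]
    exact tv_comm h0 _ _
  · intro a ha
    obtain ⟨c, rfl⟩ := mem_T.mp ha
    rw [tv_inv]
    exact tv_comm h0' _ _

/-- the commutator case never occurs -/
theorem not_commutatorCase (S : Set (Subgroup (Matrix.symplecticGroup (Fin n) F)))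
    (hS : ∀ A ∈ S, A ≠ ⊥) {p r : Fin n ⊕ Fin n → F} (hp : p ≠ 0) (hr : r ≠ 0) :
    ¬ Cfsg.RootCommutatorCase S (T p) (T r) := by
  rintro ⟨hmem, hcent, -, -⟩
  by_cases h : Cfsg.sympForm n F p r = 0
  · exact hS _ hmem (commutator_eq_bot h)
  · -- the commutator of `tv p 1` and `tv r 1` does not commute with `tv p 1`
    have hc : ⁅tv p (1 : F), tv r (1 : F)⁆ ∈ ⁅T p, T r⁆ :=
      Subgroup.commutator_mem_commutator (tv_mem_T p 1) (tv_mem_T r 1)
    have h1 := hcent _ hc (tv p 1) (Subgroup.mem_sup_left (tv_mem_T p 1))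
    rw [commutatorElement_def] at h1
    -- b a⁻¹ b⁻¹ commutes with a
    have h2 : (tv r (1 : F) * (tv p (1 : F))⁻¹ * (tv r (1 : F))⁻¹) * tv p 1 =
        tv p 1 * (tv r (1 : F) * (tv p (1 : F))⁻¹ * (tv r (1 : F))⁻¹) := by
      have := congrArg (fun x => (tv p (1 : F))⁻¹ * x) h1
      beta_reduce at this
      simp only [mul_assoc, inv_mul_cancel_left] at this
      simp only [mul_assoc]
      exact this
    rw [tv_inv p, tv_conj, tv_mulVec] at h2
    have h3 : Cfsg.sympForm n F p (p + (1 * Cfsg.sympForm n F p r) • r) ≠ 0 := by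
      rw [sympForm_add_right, sympForm_self, zero_add, sympForm_smul_right, one_mul]
      exact mul_ne_zero h h
    exact tv_not_comm h3 one_ne_zero (neg_ne_zero.mpr one_ne_zero) h2.symm

/-- a common neighbour -/
theorem exists_common {p r : Fin n ⊕ Fin n → F} (hp : p ≠ 0) (hr : r ≠ 0) :
    ∃ s, Cfsg.sympForm n F p s ≠ 0 ∧ Cfsg.sympForm n F s r ≠ 0 := by
  obtain ⟨s₁, h1⟩ := exists_form_ne_zero hp
  obtain ⟨s₂, h2⟩ := exists_form_ne_zero hr
  have h2' : Cfsg.sympForm n F s₂ r ≠ 0 := by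
    rw [sympForm_swap]; exact neg_ne_zero.mpr h2
  by_cases h3 : Cfsg.sympForm n F s₁ r = 0
  · by_cases h4 : Cfsg.sympForm n F p s₂ = 0
    · refine ⟨s₁ + s₂, ?_, ?_⟩
      · rw [sympForm_add_right, h4, add_zero]; exact h1
      · rw [sympForm_add_left, h3, zero_add]; exact h2'
    · exact ⟨s₂, h4, h2'⟩
  · exact ⟨s₁, h1, h3⟩

end Cfsg.Agent.H9SpRoot
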