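import Mathlib
import Cfsg.Prelude
import Cfsg.Agent.Lib.Helper9.SpRoot2
import Cfsg.Agent.Lib.Helper1.SLn

set_option autoImplicit false

/-!
# Symplectic transvection subgroups: the `SL₂` attached to a hyperbolic pair
-/

namespace Cfsg.Agent.H9SpRoot

open Matrix
open Cfsg.Agent.Lib.Helper2.Symp

variable {F : Type*} [Field F] {n : ℕ}

theorem mem_symplectic_of_preserves (A : Matrix (Fin n ⊕ Fin n) (Fin n ⊕ Fin n) F)
    (h : ∀ x y, Cfsg.sympForm n F (A *ᵥ x) (A *ᵥ y) = Cfsg.sympForm n F x y) :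
    A ∈ Matrix.symplecticGroup (Fin n) F := by
  rw [SymplecticGroup.mem_iff']
  ext i j
  have h1 := h (Pi.single i 1) (Pi.single j 1)
  unfold Cfsg.sympForm at h1
  have h2 : ∀ (x w : Fin n ⊕ Fin n → F), (A *ᵥ x) ⬝ᵥ w = x ⬝ᵥ (Aᵀ *ᵥ w) := by
    intro x w
    rw [dotProduct_comm, Matrix.dotProduct_mulVec, dotProduct_comm, Matrix.mulVec_transpose]
  rw [h2, Matrix.mulVec_mulVec, Matrix.mulVec_mulVec, single_one_dotProduct, single_one_dotProduct,
    Matrix.mulVec_single_one, Matrix.mulVec_single_one] at h1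
  exact h1

/-- the linear map attached to a `2 × 2` matrix and a hyperbolic pair -/
def Lmap (p r : Fin n ⊕ Fin n → F) (g : Matrix (Fin 2) (Fin 2) F) :
    (Fin n ⊕ Fin n → F) →ₗ[F] (Fin n ⊕ Fin n → F) where
  toFun v := v + ((g 0 0 - 1) * Cfsg.sympForm n F v r + g 0 1 * Cfsg.sympForm n F p v) • p +
    (g 1 0 * Cfsg.sympForm n F v r + (g 1 1 - 1) * Cfsg.sympForm n F p v) • r
  map_add' v w := by
    rw [sympForm_add_left, sympForm_add_right]
    module
  map_smul' c v := by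
    rw [sympForm_smul_left, sympForm_smul_right, RingHom.id_apply]
    module

theorem Lmap_apply (p r : Fin n ⊕ Fin n → F) (g : Matrix (Fin 2) (Fin 2) F)
    (v : Fin n ⊕ Fin n → F) :
    Lmap p r g v = v + ((g 0 0 - 1) * Cfsg.sympForm n F v r + g 0 1 * Cfsg.sympForm n F p v) • p +
    (g 1 0 * Cfsg.sympForm n F v r + (g 1 1 - 1) * Cfsg.sympForm n F p v) • r := rfl

/-- the matrix of `Lmap` -/
noncomputable def Mmat (p r : Fin n ⊕ Fin n → F) (g : Matrix (Fin 2) (Fin 2) F) :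
    Matrix (Fin n ⊕ Fin n) (Fin n ⊕ Fin n) F := LinearMap.toMatrix' (Lmap p r g)

theorem Mmat_mulVec (p r : Fin n ⊕ Fin n → F) (g : Matrix (Fin 2) (Fin 2) F)
    (v : Fin n ⊕ Fin n → F) : Mmat p r g *ᵥ v = Lmap p r g v := by
  unfold Mmat
  rw [← Matrix.toLin'_apply, Matrix.toLin'_toMatrix']

section pair

variable {p r : Fin n ⊕ Fin n → F} (h : Cfsg.sympForm n F p r = 1)
include h

theorem form_r_p : Cfsg.sympForm n F r p = -1 := by rw [sympForm_swap, h]

theorem alpha_Lmap (g : Matrix (Fin 2) (Fin 2) F) (v : Fin n ⊕ Fin n → F) :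
    Cfsg.sympForm n F (Lmap p r g v) r =
      g 0 0 * Cfsg.sympForm n F v r + g 0 1 * Cfsg.sympForm n F p v := by
  rw [Lmap_apply, sympForm_add_left, sympForm_add_left, sympForm_smul_left, sympForm_smul_left,
    h, sympForm_self]
  ring

theorem beta_Lmap (g : Matrix (Fin 2) (Fin 2) F) (v : Fin n ⊕ Fin n → F) :
    Cfsg.sympForm n F p (Lmap p r g v) =
      g 1 0 * Cfsg.sympForm n F v r + g 1 1 * Cfsg.sympForm n F p v := by
  rw [Lmap_apply, sympForm_add_right, sympForm_add_right, sympForm_smul_right, sympForm_smul_right,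
    h, sympForm_self]
  ring

theorem Lmap_mul (g g' : Matrix (Fin 2) (Fin 2) F) (v : Fin n ⊕ Fin n → F) :
    Lmap p r g (Lmap p r g' v) = Lmap p r (g * g') v := by
  rw [Lmap_apply p r g, alpha_Lmap h, beta_Lmap h, Lmap_apply, Lmap_apply]
  simp only [Matrix.mul_apply, Fin.sum_univ_two]
  module

theorem Lmap_form (g : Matrix (Fin 2) (Fin 2) F) (hg : g 0 0 * g 1 1 - g 0 1 * g 1 0 = 1)
    (v w : Fin n ⊕ Fin n → F) :
    Cfsg.sympForm n F (Lmap p r g v) (Lmap p r g w) = Cfsg.sympForm n F v w := by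
  have hrp := form_r_p h
  have e1 : Cfsg.sympForm n F v p = - Cfsg.sympForm n F p v := sympForm_swap v p
  have e2 : Cfsg.sympForm n F r w = - Cfsg.sympForm n F w r := sympForm_swap r w
  rw [Lmap_apply, Lmap_apply]
  simp only [sympForm_add_left, sympForm_add_right, sympForm_smul_left, sympForm_smul_right,
    sympForm_self, h, hrp, e1, e2]
  linear_combination (Cfsg.sympForm n F v r * Cfsg.sympForm n F p w -
    Cfsg.sympForm n F p v * Cfsg.sympForm n F w r) * hg

theorem Mmat_mem (g : Matrix.SpecialLinearGroup (Fin 2) F) :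
    Mmat p r (g : Matrix (Fin 2) (Fin 2) F) ∈ Matrix.symplecticGroup (Fin n) F := by
  apply mem_symplectic_of_preserves
  intro x y
  rw [Mmat_mulVec, Mmat_mulVec]
  apply Lmap_form h
  have := g.2
  rw [Matrix.det_fin_two] at this
  linear_combination this

theorem Lmap_one (v : Fin n ⊕ Fin n → F) : Lmap p r (1 : Matrix (Fin 2) (Fin 2) F) v = v := by
  rw [Lmap_apply]
  simp

/-- the homomorphism from `SL₂` -/
noncomputable def phi : Matrix.SpecialLinearGroup (Fin 2) F →* Matrix.symplecticGroup (Fin n) F where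
  toFun g := ⟨Mmat p r (g : Matrix (Fin 2) (Fin 2) F), Mmat_mem h g⟩
  map_one' := by
    apply sp_ext
    intro v
    rw [coe_one_mulVec]
    show Mmat p r ((1 : Matrix.SpecialLinearGroup (Fin 2) F) : Matrix (Fin 2) (Fin 2) F) *ᵥ v = v
    rw [Mmat_mulVec, Matrix.SpecialLinearGroup.coe_one, Lmap_one h]
  map_mul' g g' := by
    apply sp_ext
    intro v
    rw [coe_mul_mulVec]
    show Mmat p r ((g * g' : Matrix.SpecialLinearGroup (Fin 2) F) : Matrix (Fin 2) (Fin 2) F) *ᵥ v =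
      Mmat p r (g : Matrix (Fin 2) (Fin 2) F) *ᵥ (Mmat p r (g' : Matrix (Fin 2) (Fin 2) F) *ᵥ v)
    rw [Mmat_mulVec, Mmat_mulVec, Mmat_mulVec, Matrix.SpecialLinearGroup.coe_mul, Lmap_mul h]

theorem phi_mulVec (g : Matrix.SpecialLinearGroup (Fin 2) F) (v : Fin n ⊕ Fin n → F) :
    ((phi h g : Matrix.symplecticGroup (Fin n) F) : Matrix (Fin n ⊕ Fin n) (Fin n ⊕ Fin n) F) *ᵥ v =
      Lmap p r (g : Matrix (Fin 2) (Fin 2) F) v := Mmat_mulVec p r _ v

theorem phi_injective : Function.Injective (phi h) := by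
  rw [injective_iff_map_eq_one]
  intro g hg
  have hrp := form_r_p h
  have h1 := phi_mulVec h g p
  have h2 := phi_mulVec h g r
  rw [hg, coe_one_mulVec, Lmap_apply, sympForm_self, h] at h1
  rw [hg, coe_one_mulVec, Lmap_apply, sympForm_self, h] at h2
  -- h1 : p = p + ((g00 - 1) * 1 + g01 * 0) • p + (g10 * 1 + (g11 - 1) * 0) • r
  have a1 := congrArg (fun x => Cfsg.sympForm n F x r) h1
  have a2 := congrArg (fun x => Cfsg.sympForm n F p x) h1
  have a3 := congrArg (fun x => Cfsg.sympForm n F x r) h2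
  have a4 := congrArg (fun x => Cfsg.sympForm n F p x) h2
  beta_reduce at a1 a2 a3 a4
  simp only [sympForm_add_left, sympForm_add_right, sympForm_smul_left, sympForm_smul_right,
    sympForm_self, h, hrp] at a1 a2 a3 a4
  apply Subtype.ext
  ext i j
  rw [Matrix.SpecialLinearGroup.coe_one]
  fin_cases i <;> fin_cases j
  · show (g : Matrix (Fin 2) (Fin 2) F) 0 0 = 1
    linear_combination -a1
  · show (g : Matrix (Fin 2) (Fin 2) F) 0 1 = 0
    linear_combination -a3
  · show (g : Matrix (Fin 2) (Fin 2) F) 1 0 = 0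
    linear_combination -a2
  · show (g : Matrix (Fin 2) (Fin 2) F) 1 1 = 1
    linear_combination -a4

theorem phi_upper (g : Matrix.SpecialLinearGroup (Fin 2) F)
    (hg : (g : Matrix (Fin 2) (Fin 2) F) 1 0 = 0 ∧ (g : Matrix (Fin 2) (Fin 2) F) 0 0 = 1 ∧
      (g : Matrix (Fin 2) (Fin 2) F) 1 1 = 1) :
    phi h g = tv p (-(g : Matrix (Fin 2) (Fin 2) F) 0 1) := by
  apply sp_ext
  intro v
  rw [phi_mulVec, Lmap_apply, tv_mulVec, hg.1, hg.2.1, hg.2.2, sympForm_swap v p]
  module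

theorem phi_lower (g : Matrix.SpecialLinearGroup (Fin 2) F)
    (hg : (g : Matrix (Fin 2) (Fin 2) F) 0 1 = 0 ∧ (g : Matrix (Fin 2) (Fin 2) F) 0 0 = 1 ∧
      (g : Matrix (Fin 2) (Fin 2) F) 1 1 = 1) :
    phi h g = tv r ((g : Matrix (Fin 2) (Fin 2) F) 1 0) := by
  apply sp_ext
  intro v
  rw [phi_mulVec, Lmap_apply, tv_mulVec, hg.1, hg.2.1, hg.2.2]
  module

end pair

end Cfsg.Agent.H9SpRoot
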