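import Mathlib
import Cfsg.Prelude
import Cfsg.Agent.Lib.Helper9.SpRoot3

set_option autoImplicit false

/-!
# Symplectic transvection subgroups form a degenerate class of abstract root subgroups
-/

namespace Cfsg.Agent.H9SpRoot

open Matrix
open Cfsg.Agent.Lib.Helper2.Symp

variable {F : Type*} [Field F] {n : ℕ}

theorem SL2_sup : Cfsg.upperUnipotentSL2 F ⊔ Cfsg.lowerUnipotentSL2 F = ⊤ := by
  apply Cfsg.Agent.Lib.Helper1.eq_top_of_transvection_mem
  intro i j hij c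
  fin_cases i <;> fin_cases j
  · exact absurd rfl hij
  · apply Subgroup.mem_sup_left
    apply Subgroup.subset_closure
    simp [Matrix.SpecialLinearGroup.transvection_coe, Matrix.single_apply]
  · apply Subgroup.mem_sup_right
    apply Subgroup.subset_closure
    simp [Matrix.SpecialLinearGroup.transvection_coe, Matrix.single_apply]
  · exact absurd rfl hij

/-- upper unitriangular element of `SL₂` -/
def uu (c : F) : Matrix.SpecialLinearGroup (Fin 2) F :=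
  ⟨!![1, c; 0, 1], by rw [Matrix.det_fin_two_of]; ring⟩

/-- lower unitriangular element of `SL₂` -/
def ll (c : F) : Matrix.SpecialLinearGroup (Fin 2) F :=
  ⟨!![1, 0; c, 1], by rw [Matrix.det_fin_two_of]; ring⟩

theorem map_upper {p r : Fin n ⊕ Fin n → F} (h : Cfsg.sympForm n F p r = 1) :
    (Cfsg.upperUnipotentSL2 F).map (phi h) = T p := by
  unfold Cfsg.upperUnipotentSL2 T
  rw [MonoidHom.map_closure]
  congr 1
  ext x
  rw [Set.mem_image, mem_Tset]
  constructor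
  · rintro ⟨g, hg, rfl⟩
    exact ⟨_, phi_upper h g hg⟩
  · rintro ⟨c, rfl⟩
    refine ⟨uu (-c), ⟨rfl, rfl, rfl⟩, ?_⟩
    rw [phi_upper h (uu (-c)) ⟨rfl, rfl, rfl⟩]
    congr 1
    show - (-c) = c
    rw [neg_neg]

theorem map_lower {p r : Fin n ⊕ Fin n → F} (h : Cfsg.sympForm n F p r = 1) :
    (Cfsg.lowerUnipotentSL2 F).map (phi h) = T r := by
  unfold Cfsg.lowerUnipotentSL2 T
  rw [MonoidHom.map_closure]
  congr 1
  ext x
  rw [Set.mem_image, mem_Tset]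
  constructor
  · rintro ⟨g, hg, rfl⟩
    exact ⟨_, phi_lower h g hg⟩
  · rintro ⟨c, rfl⟩
    refine ⟨ll c, ⟨rfl, rfl, rfl⟩, ?_⟩
    rw [phi_lower h (ll c) ⟨rfl, rfl, rfl⟩]
    rfl

theorem isPSL2PairOver {p r : Fin n ⊕ Fin n → F} (h : Cfsg.sympForm n F p r ≠ 0) :
    Cfsg.IsPSL2PairOver F (T p) (T r) := by
  have h1 : Cfsg.sympForm n F p ((Cfsg.sympForm n F p r)⁻¹ • r) = 1 := by
    rw [sympForm_smul_right, inv_mul_cancel₀ h]
  have hT : T ((Cfsg.sympForm n F p r)⁻¹ • r) = T r := T_smul (inv_ne_zero h) r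
  refine ⟨phi h1, ?_, ?_, map_upper h1, (map_lower h1).trans hT⟩
  · rw [MonoidHom.range_eq_map, ← SL2_sup, Subgroup.map_sup, map_upper h1, map_lower h1, hT]
  · rw [(MonoidHom.ker_eq_bot_iff _).mpr (phi_injective h1)]
    exact bot_le

/-- the set of transvection subgroups, exactly as in the statement -/
def Sig (n : ℕ) (F : Type*) [Field F] : Set (Subgroup ↥(Matrix.symplecticGroup (Fin n) F)) :=
  {A | ∃ p : Fin n ⊕ Fin n → F, p ≠ 0 ∧
    A = Subgroup.closure {g : ↥(Matrix.symplecticGroup (Fin n) F) | ∃ c : F,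
      ∀ v : Fin n ⊕ Fin n → F,
        (g : Matrix (Fin n ⊕ Fin n) (Fin n ⊕ Fin n) F) *ᵥ v =
          v + (c * (v ⬝ᵥ (Matrix.J (Fin n) F *ᵥ p))) • p}}

theorem mem_Sig {A : Subgroup ↥(Matrix.symplecticGroup (Fin n) F)} :
    A ∈ Sig n F ↔ ∃ p : Fin n ⊕ Fin n → F, p ≠ 0 ∧ A = T p := Iff.rfl

theorem T_mem_Sig {p : Fin n ⊕ Fin n → F} (hp : p ≠ 0) : T p ∈ Sig n F := ⟨p, hp, rfl⟩

theorem tv_zero_left (c : F) : tv (0 : Fin n ⊕ Fin n → F) c = 1 := by
  apply sp_ext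
  intro v
  rw [tv_mulVec, coe_one_mulVec, smul_zero, add_zero]

theorem isRootSubgroupSet : Cfsg.IsRootSubgroupSet (Sig n F) := by
  refine ⟨?_, ?_, ?_, ?_, ?_⟩
  · intro A hA
    obtain ⟨p, _, rfl⟩ := mem_Sig.mp hA
    exact T_comm p
  · intro A hA
    obtain ⟨p, hp, rfl⟩ := mem_Sig.mp hA
    exact T_ne_bot hp
  · rw [eq_top_iff, ← transvGroup_eq_top]
    unfold transvGroup
    rw [Subgroup.closure_le]
    rintro A ⟨w, c, hA⟩
    have hA' : A = tv w c := Subtype.ext hA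
    rw [hA']
    by_cases hw : w = 0
    · rw [hw, tv_zero_left]
      exact Subgroup.one_mem _
    · have hle : T w ≤ ⨆ A ∈ Sig n F, A :=
        le_iSup₂ (f := fun (A : Subgroup ↥(Matrix.symplecticGroup (Fin n) F)) (_ : A ∈ Sig n F) => A)
          (T w) (T_mem_Sig hw)
      exact hle (tv_mem_T w c)
  · intro A hA g
    obtain ⟨p, hp, rfl⟩ := mem_Sig.mp hA
    rw [conjBy_T]
    exact T_mem_Sig (mulVec_ne_zero g hp)
  · intro A hA B hB
    obtain ⟨p, hp, rfl⟩ := mem_Sig.mp hA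
    obtain ⟨r, hr, rfl⟩ := mem_Sig.mp hB
    by_cases h : Cfsg.sympForm n F p r = 0
    · left
      exact commutator_eq_bot h
    · right; left
      exact isRankOnePair h

theorem isConjClass (hn : 0 < n) : Cfsg.IsConjClassOfSubgroups (Sig n F) := by
  refine ⟨?_, ?_⟩
  · refine ⟨T (Pi.single (Sum.inl ⟨0, hn⟩) 1), T_mem_Sig ?_⟩
    intro h
    have := congrFun h (Sum.inl ⟨0, hn⟩)
    rw [Pi.single_eq_same, Pi.zero_apply] at this
    exact one_ne_zero this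
  · intro A hA B hB
    obtain ⟨p, hp, rfl⟩ := mem_Sig.mp hA
    obtain ⟨r, hr, rfl⟩ := mem_Sig.mp hB
    obtain ⟨g, hg⟩ := exists_mulVec_eq hp hr
    exact ⟨g, by rw [conjBy_T, hg]⟩

theorem isDegenerate : Cfsg.IsDegenerateRootSet (Sig n F) := by
  intro A hA B hB
  obtain ⟨p, hp, rfl⟩ := mem_Sig.mp hA
  obtain ⟨r, hr, rfl⟩ := mem_Sig.mp hB
  apply not_commutatorCase (Sig n F) _ hp hr
  intro A hA
  obtain ⟨p, hp, rfl⟩ := mem_Sig.mp hA
  exact T_ne_bot hp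

theorem isKRoot : Cfsg.IsKRootSubgroupSet F (Sig n F) := by
  refine ⟨isRootSubgroupSet, ?_⟩
  intro A hA B hB hpair
  obtain ⟨p, hp, rfl⟩ := mem_Sig.mp hA
  obtain ⟨r, hr, rfl⟩ := mem_Sig.mp hB
  exact isPSL2PairOver (form_ne_zero_of_rankOne hp hpair)

theorem isConnected : Cfsg.IsConnectedFamily (Cfsg.FAdj (Sig n F)) (Sig n F) := by
  intro A hA B hB
  obtain ⟨p, hp, rfl⟩ := mem_Sig.mp hA
  obtain ⟨r, hr, rfl⟩ := mem_Sig.mp hB
  obtain ⟨s, h1, h2⟩ := exists_common hp hr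
  have hs : s ≠ 0 := ne_zero_of_form_ne_zero_right h1
  refine Relation.ReflTransGen.tail (b := T s) (Relation.ReflTransGen.single ?_) ?_
  · exact ⟨T_mem_Sig hp, T_mem_Sig hs, isRankOnePair h1⟩
  · exact ⟨T_mem_Sig hs, T_mem_Sig hr, isRankOnePair h2⟩

end Cfsg.Agent.H9SpRoot
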