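import Mathlib
import Cfsg.Prelude
import Cfsg.Agent.Lib.Helper9.SLRoot3
import Cfsg.Agent.Lib.Helper9.SpRoot4

set_option autoImplicit false

/-!
# Transvection subgroups of `SL_n`: the `SL₂` generated by a rank one pair
-/

namespace Cfsg.Agent.H9SLRoot

open Matrix
open Cfsg.Agent.H9SpRoot (SL2_sup uu ll)

variable {k : Type*} [Field k] {ι : Type*} [Fintype ι] [DecidableEq ι]

/-- the linear map attached to a `2 × 2` matrix and two transvection data -/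
def Lmap (x φ y ψ : ι → k) (g : Matrix (Fin 2) (Fin 2) k) : (ι → k) →ₗ[k] (ι → k) where
  toFun v := v + ((g 0 0 - 1) * (ψ ⬝ᵥ v) + g 0 1 * (φ ⬝ᵥ v)) • x +
    (g 1 0 * (ψ ⬝ᵥ v) + (g 1 1 - 1) * (φ ⬝ᵥ v)) • y
  map_add' v w := by
    rw [dotProduct_add, dotProduct_add]
    module
  map_smul' c v := by
    rw [dotProduct_smul, dotProduct_smul, RingHom.id_apply, smul_eq_mul, smul_eq_mul]
    module

theorem Lmap_apply (x φ y ψ : ι → k) (g : Matrix (Fin 2) (Fin 2) k) (v : ι → k) :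
    Lmap x φ y ψ g v = v + ((g 0 0 - 1) * (ψ ⬝ᵥ v) + g 0 1 * (φ ⬝ᵥ v)) • x +
    (g 1 0 * (ψ ⬝ᵥ v) + (g 1 1 - 1) * (φ ⬝ᵥ v)) • y := rfl

/-- the matrix of `Lmap` -/
noncomputable def Mmat (x φ y ψ : ι → k) (g : Matrix (Fin 2) (Fin 2) k) : Matrix ι ι k :=
  LinearMap.toMatrix' (Lmap x φ y ψ g)

theorem Mmat_mulVec (x φ y ψ : ι → k) (g : Matrix (Fin 2) (Fin 2) k) (v : ι → k) :
    Mmat x φ y ψ g *ᵥ v = Lmap x φ y ψ g v := by
  unfold Mmat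
  rw [← Matrix.toLin'_apply, Matrix.toLin'_toMatrix']

section pair

variable {x φ y ψ : ι → k} (hx : φ ⬝ᵥ x = 0) (hy : ψ ⬝ᵥ y = 0) (hα : ψ ⬝ᵥ x = 1)
  (hβ : φ ⬝ᵥ y = 1)

include hx hy hα hβ

theorem alpha_Lmap (g : Matrix (Fin 2) (Fin 2) k) (v : ι → k) :
    ψ ⬝ᵥ (Lmap x φ y ψ g v) = g 0 0 * (ψ ⬝ᵥ v) + g 0 1 * (φ ⬝ᵥ v) := by
  rw [Lmap_apply, dotProduct_add, dotProduct_add, dotProduct_smul, dotProduct_smul, hα, hy]
  simp only [smul_eq_mul]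
  ring

theorem beta_Lmap (g : Matrix (Fin 2) (Fin 2) k) (v : ι → k) :
    φ ⬝ᵥ (Lmap x φ y ψ g v) = g 1 0 * (ψ ⬝ᵥ v) + g 1 1 * (φ ⬝ᵥ v) := by
  rw [Lmap_apply, dotProduct_add, dotProduct_add, dotProduct_smul, dotProduct_smul, hx, hβ]
  simp only [smul_eq_mul]
  ring

theorem Lmap_mul (g g' : Matrix (Fin 2) (Fin 2) k) (v : ι → k) :
    Lmap x φ y ψ g (Lmap x φ y ψ g' v) = Lmap x φ y ψ (g * g') v := by
  rw [Lmap_apply x φ y ψ g, alpha_Lmap hx hy hα hβ, beta_Lmap hx hy hα hβ, Lmap_apply, Lmap_apply]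
  simp only [Matrix.mul_apply, Fin.sum_univ_two]
  module

omit hx hy hα hβ in
theorem Lmap_one (v : ι → k) : Lmap x φ y ψ (1 : Matrix (Fin 2) (Fin 2) k) v = v := by
  rw [Lmap_apply]
  simp

theorem Mmat_mul (g g' : Matrix (Fin 2) (Fin 2) k) :
    Mmat x φ y ψ g * Mmat x φ y ψ g' = Mmat x φ y ψ (g * g') := by
  apply ext_mulVec
  intro v
  rw [← Matrix.mulVec_mulVec, Mmat_mulVec, Mmat_mulVec, Mmat_mulVec, Lmap_mul hx hy hα hβ]

omit hx hy hα hβ in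
theorem Mmat_one : Mmat x φ y ψ (1 : Matrix (Fin 2) (Fin 2) k) = 1 := by
  apply ext_mulVec
  intro v
  rw [Mmat_mulVec, Lmap_one, Matrix.one_mulVec]

omit hy hα hβ in
theorem Mmat_upper (g : Matrix (Fin 2) (Fin 2) k) (hg : g 1 0 = 0 ∧ g 0 0 = 1 ∧ g 1 1 = 1) :
    Mmat x φ y ψ g = tmat x φ (g 0 1) := by
  apply ext_mulVec
  intro v
  rw [Mmat_mulVec, Lmap_apply, tmat_mulVec, hg.1, hg.2.1, hg.2.2]
  module

omit hx hα hβ in
theorem Mmat_lower (g : Matrix (Fin 2) (Fin 2) k) (hg : g 0 1 = 0 ∧ g 0 0 = 1 ∧ g 1 1 = 1) :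
    Mmat x φ y ψ g = tmat y ψ (g 1 0) := by
  apply ext_mulVec
  intro v
  rw [Mmat_mulVec, Lmap_apply, tmat_mulVec, hg.1, hg.2.1, hg.2.2]
  module

theorem det_Mmat (g : Matrix.SpecialLinearGroup (Fin 2) k) :
    (Mmat x φ y ψ (g : Matrix (Fin 2) (Fin 2) k)).det = 1 := by
  have hg : g ∈ (⊤ : Subgroup (Matrix.SpecialLinearGroup (Fin 2) k)) := Subgroup.mem_top g
  rw [← SL2_sup] at hg
  unfold Cfsg.upperUnipotentSL2 Cfsg.lowerUnipotentSL2 at hg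
  rw [← Subgroup.closure_union] at hg
  induction hg using Subgroup.closure_induction with
  | mem g hg =>
    rcases hg with hg | hg
    · rw [Mmat_upper hx _ hg, det_tmat _ _ _ hx]
    · rw [Mmat_lower hy _ hg, det_tmat _ _ _ hy]
  | one => rw [Matrix.SpecialLinearGroup.coe_one, Mmat_one, Matrix.det_one]
  | mul a b _ _ ha hb =>
    rw [Matrix.SpecialLinearGroup.coe_mul, ← Mmat_mul hx hy hα hβ, Matrix.det_mul, ha, hb, one_mul]
  | inv a _ ha =>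
    have h1 : Mmat x φ y ψ ((a⁻¹ : Matrix.SpecialLinearGroup (Fin 2) k) : Matrix (Fin 2) (Fin 2) k) *
        Mmat x φ y ψ (a : Matrix (Fin 2) (Fin 2) k) = 1 := by
      rw [Mmat_mul hx hy hα hβ, ← Matrix.SpecialLinearGroup.coe_mul, inv_mul_cancel,
        Matrix.SpecialLinearGroup.coe_one, Mmat_one]
    have h2 := congrArg Matrix.det h1
    rw [Matrix.det_mul, ha, mul_one, Matrix.det_one] at h2
    exact h2

/-- the homomorphism from `SL₂` -/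
noncomputable def phi : Matrix.SpecialLinearGroup (Fin 2) k →* Matrix.SpecialLinearGroup ι k where
  toFun g := ⟨Mmat x φ y ψ (g : Matrix (Fin 2) (Fin 2) k), det_Mmat hx hy hα hβ g⟩
  map_one' := by
    apply Subtype.ext
    show Mmat x φ y ψ ((1 : Matrix.SpecialLinearGroup (Fin 2) k) : Matrix (Fin 2) (Fin 2) k) = 1
    rw [Matrix.SpecialLinearGroup.coe_one, Mmat_one]
  map_mul' g g' := by
    apply Subtype.ext
    show Mmat x φ y ψ ((g * g' : Matrix.SpecialLinearGroup (Fin 2) k) : Matrix (Fin 2) (Fin 2) k) =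
      Mmat x φ y ψ (g : Matrix (Fin 2) (Fin 2) k) * Mmat x φ y ψ (g' : Matrix (Fin 2) (Fin 2) k)
    rw [Matrix.SpecialLinearGroup.coe_mul, Mmat_mul hx hy hα hβ]

theorem phi_coe (g : Matrix.SpecialLinearGroup (Fin 2) k) :
    ((phi hx hy hα hβ g : Matrix.SpecialLinearGroup ι k) : Matrix ι ι k) =
      Mmat x φ y ψ (g : Matrix (Fin 2) (Fin 2) k) := rfl

theorem phi_upper (g : Matrix.SpecialLinearGroup (Fin 2) k)
    (hg : (g : Matrix (Fin 2) (Fin 2) k) 1 0 = 0 ∧ (g : Matrix (Fin 2) (Fin 2) k) 0 0 = 1 ∧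
      (g : Matrix (Fin 2) (Fin 2) k) 1 1 = 1) :
    phi hx hy hα hβ g = tv x φ ((g : Matrix (Fin 2) (Fin 2) k) 0 1) := by
  apply Subtype.ext
  rw [phi_coe, tv_coe hx, Mmat_upper hx _ hg]

theorem phi_lower (g : Matrix.SpecialLinearGroup (Fin 2) k)
    (hg : (g : Matrix (Fin 2) (Fin 2) k) 0 1 = 0 ∧ (g : Matrix (Fin 2) (Fin 2) k) 0 0 = 1 ∧
      (g : Matrix (Fin 2) (Fin 2) k) 1 1 = 1) :
    phi hx hy hα hβ g = tv y ψ ((g : Matrix (Fin 2) (Fin 2) k) 1 0) := by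
  apply Subtype.ext
  rw [phi_coe, tv_coe hy, Mmat_lower hy _ hg]

theorem phi_injective : Function.Injective (phi hx hy hα hβ) := by
  rw [injective_iff_map_eq_one]
  intro g hg
  have h0 : Mmat x φ y ψ (g : Matrix (Fin 2) (Fin 2) k) = 1 := by
    rw [← phi_coe hx hy hα hβ, hg, Matrix.SpecialLinearGroup.coe_one]
  have h1 := Mmat_mulVec x φ y ψ (g : Matrix (Fin 2) (Fin 2) k) x
  have h2 := Mmat_mulVec x φ y ψ (g : Matrix (Fin 2) (Fin 2) k) y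
  rw [h0, Matrix.one_mulVec, Lmap_apply, hα, hx] at h1
  rw [h0, Matrix.one_mulVec, Lmap_apply, hy, hβ] at h2
  have a1 := congrArg (fun w => ψ ⬝ᵥ w) h1
  have a2 := congrArg (fun w => φ ⬝ᵥ w) h1
  have a3 := congrArg (fun w => ψ ⬝ᵥ w) h2
  have a4 := congrArg (fun w => φ ⬝ᵥ w) h2
  beta_reduce at a1 a2 a3 a4
  simp only [dotProduct_add, dotProduct_smul, hx, hy, hα, hβ, smul_eq_mul] at a1 a2 a3 a4
  apply Subtype.ext
  ext i j
  rw [Matrix.SpecialLinearGroup.coe_one]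
  fin_cases i <;> fin_cases j
  · show (g : Matrix (Fin 2) (Fin 2) k) 0 0 = 1
    linear_combination -a1
  · show (g : Matrix (Fin 2) (Fin 2) k) 0 1 = 0
    linear_combination -a3
  · show (g : Matrix (Fin 2) (Fin 2) k) 1 0 = 0
    linear_combination -a2
  · show (g : Matrix (Fin 2) (Fin 2) k) 1 1 = 1
    linear_combination -a4

theorem map_upper : (Cfsg.upperUnipotentSL2 k).map (phi hx hy hα hβ) = T x φ := by
  unfold Cfsg.upperUnipotentSL2 T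
  rw [MonoidHom.map_closure]
  congr 1
  ext z
  rw [Set.mem_image, Set.mem_range]
  constructor
  · rintro ⟨g, hg, rfl⟩
    exact ⟨_, (phi_upper hx hy hα hβ g hg).symm⟩
  · rintro ⟨c, rfl⟩
    refine ⟨uu c, ⟨rfl, rfl, rfl⟩, ?_⟩
    rw [phi_upper hx hy hα hβ (uu c) ⟨rfl, rfl, rfl⟩]
    rfl

theorem map_lower : (Cfsg.lowerUnipotentSL2 k).map (phi hx hy hα hβ) = T y ψ := by
  unfold Cfsg.lowerUnipotentSL2 T
  rw [MonoidHom.map_closure]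
  congr 1
  ext z
  rw [Set.mem_image, Set.mem_range]
  constructor
  · rintro ⟨g, hg, rfl⟩
    exact ⟨_, (phi_lower hx hy hα hβ g hg).symm⟩
  · rintro ⟨c, rfl⟩
    refine ⟨ll c, ⟨rfl, rfl, rfl⟩, ?_⟩
    rw [phi_lower hx hy hα hβ (ll c) ⟨rfl, rfl, rfl⟩]
    rfl

theorem range_phi : (phi hx hy hα hβ).range = T x φ ⊔ T y ψ := by
  rw [MonoidHom.range_eq_map, ← SL2_sup, Subgroup.map_sup, map_upper hx hy hα hβ,
    map_lower hx hy hα hβ]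

end pair

theorem isPSL2PairOver {x φ y ψ : ι → k} (hx : φ ⬝ᵥ x = 0) (hy : ψ ⬝ᵥ y = 0)
    (hα : ψ ⬝ᵥ x ≠ 0) (hβ : φ ⬝ᵥ y ≠ 0) : Cfsg.IsPSL2PairOver k (T x φ) (T y ψ) := by
  have hx' : ((φ ⬝ᵥ y)⁻¹ • φ) ⬝ᵥ x = 0 := by rw [smul_dotProduct, hx, smul_zero]
  have hy' : ((ψ ⬝ᵥ x)⁻¹ • ψ) ⬝ᵥ y = 0 := by rw [smul_dotProduct, hy, smul_zero]
  have hα' : ((ψ ⬝ᵥ x)⁻¹ • ψ) ⬝ᵥ x = 1 := by
    rw [smul_dotProduct, smul_eq_mul, inv_mul_cancel₀ hα]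
  have hβ' : ((φ ⬝ᵥ y)⁻¹ • φ) ⬝ᵥ y = 1 := by
    rw [smul_dotProduct, smul_eq_mul, inv_mul_cancel₀ hβ]
  have e1 : T x ((φ ⬝ᵥ y)⁻¹ • φ) = T x φ := by
    have := T_smul (one_ne_zero (α := k)) (inv_ne_zero hβ) x φ
    rwa [one_smul] at this
  have e2 : T y ((ψ ⬝ᵥ x)⁻¹ • ψ) = T y ψ := by
    have := T_smul (one_ne_zero (α := k)) (inv_ne_zero hα) y ψ
    rwa [one_smul] at this
  refine ⟨phi hx' hy' hα' hβ', ?_, ?_, ?_, ?_⟩
  · rw [range_phi, e1, e2]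
  · rw [(MonoidHom.ker_eq_bot_iff _).mpr (phi_injective hx' hy' hα' hβ')]
    exact bot_le
  · rw [map_upper, e1]
  · rw [map_lower, e2]

end Cfsg.Agent.H9SLRoot
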