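import Mathlib
import Cfsg.Prelude
import Cfsg.Agent.Lib.Helper9.SLRoot4

set_option autoImplicit false

/-!
# The conjugates of an elementary root subgroup of `SL_n`, `n ≥ 3`, form a non-degenerate class of
abstract root subgroups
-/

namespace Cfsg.Agent.H9SLRoot

open Matrix

variable {k : Type*} [Field k] {ι : Type*} [Fintype ι] [DecidableEq ι]

/-- standard basis vector -/
def e (i : ι) : ι → k := Pi.single i 1

theorem e_dot_e (i j : ι) : (e i : ι → k) ⬝ᵥ e j = if i = j then 1 else 0 := by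
  unfold e
  rw [dotProduct_single_one, Pi.single_apply]
  simp [eq_comm]

theorem e_dot_e_ne {i j : ι} (h : i ≠ j) : (e i : ι → k) ⬝ᵥ e j = 0 := by
  rw [e_dot_e, if_neg h]

theorem e_dot_e_self (i : ι) : (e i : ι → k) ⬝ᵥ e i = 1 := by
  rw [e_dot_e, if_pos rfl]

theorem e_ne_zero (i : ι) : (e i : ι → k) ≠ 0 := by
  intro h
  have := congrFun h i
  unfold e at this
  rw [Pi.single_eq_same, Pi.zero_apply] at this
  exact one_ne_zero this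

theorem tmat_e (i j : ι) (c : k) : tmat (e i) (e j) c = Matrix.transvection i j c := by
  unfold tmat Matrix.transvection e
  congr 1
  ext a b
  rw [Matrix.smul_apply, Matrix.vecMulVec_apply, Matrix.single_apply, Pi.single_apply,
    Pi.single_apply]
  by_cases h1 : i = a
  · by_cases h2 : j = b
    · simp [h1, h2]
    · have h2' : ¬ b = j := fun h => h2 h.symm
      simp [h1, h2, h2']
  · have h1' : ¬ a = i := fun h => h1 h.symm
    by_cases h2 : j = b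
    · simp [h1, h2, h1']
    · have h2' : ¬ b = j := fun h => h2 h.symm
      simp [h1, h2, h1', h2']

theorem tv_e_coe {i j : ι} (hij : i ≠ j) (c : k) :
    ((tv (e i) (e j) c : Matrix.SpecialLinearGroup ι k) : Matrix ι ι k) =
      Matrix.transvection i j c := by
  rw [tv_coe (e_dot_e_ne hij.symm), tmat_e]

/-- the elementary root subgroup -/
theorem closure_elementary {i j : ι} (hij : i ≠ j) :
    Subgroup.closure {t : Matrix.SpecialLinearGroup ι k |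
      ∃ c : k, (t : Matrix ι ι k) = Matrix.transvection i j c} = T (e i) (e j) := by
  unfold T
  congr 1
  ext t
  constructor
  · rintro ⟨c, hc⟩
    exact ⟨c, Subtype.ext ((tv_e_coe hij c).trans hc.symm)⟩
  · rintro ⟨c, rfl⟩
    exact ⟨c, tv_e_coe hij c⟩

section class_

variable (hcard : 3 ≤ Fintype.card ι) {x₀ φ₀ : ι → k} (h₀ : φ₀ ⬝ᵥ x₀ = 0) (hx₀ : x₀ ≠ 0)
  (hφ₀ : φ₀ ≠ 0)

include hcard h₀ hx₀ hφ₀

theorem mem_class_iff {A : Subgroup (Matrix.SpecialLinearGroup ι k)} :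
    A ∈ conjClass (T x₀ φ₀) ↔ ∃ x φ : ι → k, φ ⬝ᵥ x = 0 ∧ x ≠ 0 ∧ φ ≠ 0 ∧ A = T x φ := by
  constructor
  · exact exists_of_mem_class h₀ hx₀ hφ₀
  · rintro ⟨x, φ, h, hx, hφ, rfl⟩
    exact mem_class_of_incident hcard h₀ hx₀ hφ₀ h hx hφ

theorem class_pair {A B : Subgroup (Matrix.SpecialLinearGroup ι k)}
    (hA : A ∈ conjClass (T x₀ φ₀)) (hB : B ∈ conjClass (T x₀ φ₀)) :
    ⁅A, B⁆ = ⊥ ∨ Cfsg.IsRankOnePair A B ∨ Cfsg.RootCommutatorCase (conjClass (T x₀ φ₀)) A B := by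
  obtain ⟨x, φ, hx, hx0, hφ0, rfl⟩ := (mem_class_iff hcard h₀ hx₀ hφ₀).mp hA
  obtain ⟨y, ψ, hy, hy0, hψ0, rfl⟩ := (mem_class_iff hcard h₀ hx₀ hφ₀).mp hB
  by_cases hα : ψ ⬝ᵥ x = 0
  · by_cases hβ : φ ⬝ᵥ y = 0
    · left
      exact commutator_eq_bot hx hy hα hβ
    · right; right
      apply rootCommutatorCase_symm
      exact rootCommutatorCase _ hy hx hy0 hψ0 hx0 hφ0
        (mem_class_of_incident hcard h₀ hx₀ hφ₀ hα hx0 hψ0) hβ hα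
  · by_cases hβ : φ ⬝ᵥ y = 0
    · right; right
      exact rootCommutatorCase _ hx hy hx0 hφ0 hy0 hψ0
        (mem_class_of_incident hcard h₀ hx₀ hφ₀ hβ hy0 hφ0) hα hβ
    · right; left
      exact isRankOnePair hx hy hx0 hφ0 hy0 hψ0 hα hβ

theorem class_rankOne_imp {x φ y ψ : ι → k} (hx : φ ⬝ᵥ x = 0) (hy : ψ ⬝ᵥ y = 0)
    (hx0 : x ≠ 0) (hφ0 : φ ≠ 0) (hy0 : y ≠ 0) (hψ0 : ψ ≠ 0)
    (h : Cfsg.IsRankOnePair (T x φ) (T y ψ)) : ψ ⬝ᵥ x ≠ 0 ∧ φ ⬝ᵥ y ≠ 0 := by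
  by_cases hα : ψ ⬝ᵥ x = 0
  · by_cases hβ : φ ⬝ᵥ y = 0
    · exact absurd h (not_rankOne_of_comm hx hy hx0 hφ0 hα hβ)
    · exact absurd (Cfsg.RankOnePair_symm h) (not_rankOne_of_half hy hx hy0 hψ0 hβ hα)
  · by_cases hβ : φ ⬝ᵥ y = 0
    · exact absurd h (not_rankOne_of_half hx hy hx0 hφ0 hα hβ)
    · exact ⟨hα, hβ⟩

omit hcard h₀ hx₀ hφ₀ in
theorem class_isConj : Cfsg.IsConjClassOfSubgroups (conjClass (T x₀ φ₀)) := by
  refine ⟨⟨_, self_mem_conjClass _⟩, ?_⟩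
  rintro A ⟨g, rfl⟩ B ⟨h, rfl⟩
  refine ⟨h * g⁻¹, ?_⟩
  rw [conjBy_conjBy, inv_mul_cancel_right]

theorem class_isKRoot_aux {A B : Subgroup (Matrix.SpecialLinearGroup ι k)}
    (hA : A ∈ conjClass (T x₀ φ₀)) (hB : B ∈ conjClass (T x₀ φ₀))
    (h : Cfsg.IsRankOnePair A B) : Cfsg.IsPSL2PairOver k A B := by
  obtain ⟨x, φ, hx, hx0, hφ0, rfl⟩ := (mem_class_iff hcard h₀ hx₀ hφ₀).mp hA
  obtain ⟨y, ψ, hy, hy0, hψ0, rfl⟩ := (mem_class_iff hcard h₀ hx₀ hφ₀).mp hB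
  obtain ⟨hα, hβ⟩ := class_rankOne_imp hcard h₀ hx₀ hφ₀ hx hy hx0 hφ0 hy0 hψ0 h
  exact isPSL2PairOver hx hy hα hβ

theorem class_connected :
    Cfsg.IsConnectedFamily (Cfsg.FAdj (conjClass (T x₀ φ₀))) (conjClass (T x₀ φ₀)) := by
  intro A hA B hB
  obtain ⟨x, φ, hx, hx0, hφ0, rfl⟩ := (mem_class_iff hcard h₀ hx₀ hφ₀).mp hA
  obtain ⟨y, ψ, hy, hy0, hψ0, rfl⟩ := (mem_class_iff hcard h₀ hx₀ hφ₀).mp hB
  -- a vector off both axes
  obtain ⟨z, hz1, hz2⟩ : ∃ z : ι → k, φ ⬝ᵥ z ≠ 0 ∧ ψ ⬝ᵥ z ≠ 0 := by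
    obtain ⟨z₁, h1⟩ := exists_dot_ne_zero hφ0
    obtain ⟨z₂, h2⟩ := exists_dot_ne_zero hψ0
    by_cases h3 : ψ ⬝ᵥ z₁ = 0
    · by_cases h4 : φ ⬝ᵥ z₂ = 0
      · refine ⟨z₁ + z₂, ?_, ?_⟩
        · rw [dotProduct_add, h4, add_zero]; exact h1
        · rw [dotProduct_add, h3, zero_add]; exact h2
      · exact ⟨z₂, h4, h2⟩
    · exact ⟨z₁, h1, h3⟩
  have hz0 : z ≠ 0 := by
    rintro rfl
    exact hz1 (dotProduct_zero _)
  have hxz : x ∉ Submodule.span k {z} := by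
    intro hmem
    obtain ⟨lam, rfl⟩ := Submodule.mem_span_singleton.mp hmem
    rw [dotProduct_smul, smul_eq_mul] at hx
    rcases mul_eq_zero.mp hx with h | h
    · exact hx0 (by rw [h, zero_smul])
    · exact hz1 h
  have hyz : y ∉ Submodule.span k {z} := by
    intro hmem
    obtain ⟨lam, rfl⟩ := Submodule.mem_span_singleton.mp hmem
    rw [dotProduct_smul, smul_eq_mul] at hy
    rcases mul_eq_zero.mp hy with h | h
    · exact hy0 (by rw [h, zero_smul])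
    · exact hz2 h
  obtain ⟨χ, hχz, hχx, hχy⟩ : ∃ χ : ι → k, χ ⬝ᵥ z = 0 ∧ χ ⬝ᵥ x ≠ 0 ∧ χ ⬝ᵥ y ≠ 0 := by
    obtain ⟨ρ, r1, r2⟩ := exists_dot_sep hxz
    obtain ⟨ρ', r1', r2'⟩ := exists_dot_sep hyz
    by_cases h3 : ρ ⬝ᵥ y = 0
    · by_cases h4 : ρ' ⬝ᵥ x = 0
      · refine ⟨ρ + ρ', ?_, ?_, ?_⟩
        · rw [add_dotProduct, r2, r2', add_zero]
        · rw [add_dotProduct, r1, h4, add_zero]; exact one_ne_zero
        · rw [add_dotProduct, h3, r1', zero_add]; exact one_ne_zero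
      · exact ⟨ρ', r2', h4, by rw [r1']; exact one_ne_zero⟩
    · exact ⟨ρ, r2, by rw [r1]; exact one_ne_zero, h3⟩
  have hχ0 : χ ≠ 0 := by
    rintro rfl
    exact hχx (zero_dotProduct _)
  have hmem : T z χ ∈ conjClass (T x₀ φ₀) := mem_class_of_incident hcard h₀ hx₀ hφ₀ hχz hz0 hχ0
  refine Relation.ReflTransGen.tail (b := T z χ) (Relation.ReflTransGen.single ?_) ?_
  · exact ⟨hA, hmem, isRankOnePair hx hχz hx0 hφ0 hz0 hχ0 hχx hz1⟩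
  · exact ⟨hmem, hB, isRankOnePair hχz hy hz0 hχ0 hy0 hψ0 hz2 hχy⟩

end class_

end Cfsg.Agent.H9SLRoot
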