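import Mathlib
import Cfsg.Prelude.Def_Characters
import Cfsg.Agent.Lib.Helper4.SLMin.Defs
import Cfsg.Agent.Lib.Helper4.Characters
import Cfsg.Agent.Lib.Helper6.SLMin_B

set_option autoImplicit false
set_option linter.unusedSectionVars false

/-! S2332, package AH1: Frobenius reciprocity by hand for the stabiliser `Q . emb(SL_m)` of the
first basis vector in `SL_(m+1)`. -/

namespace Cfsg.Agent.Lib.Helper4.SLMin

open Matrix Cfsg Cfsg.Agent.H9SLRoot Cfsg.Agent.Lib.Helper1.SUMin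
open scoped ComplexConjugate

universe u

variable {F : Type u} [Field F]

namespace PkAH1

variable {m : ℕ}

section Transitive

variable {ι : Type*} [Fintype ι] [DecidableEq ι]

theorem exists_map_of_indep {x y : ι → F} (h1 : x ∉ Submodule.span F {y})
    (h2 : y ∉ Submodule.span F {x}) :
    ∃ g : SpecialLinearGroup ι F, (g : Matrix ι ι F) *ᵥ x = y := by
  obtain ⟨ρ, hx, hy⟩ := exists_dot_one_one h1 h2
  have hinc : ρ ⬝ᵥ (y - x) = 0 := by rw [dotProduct_sub, hx, hy, sub_self]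
  refine ⟨tv (y - x) ρ 1, ?_⟩
  rw [tv_mulVec hinc, hx, mul_one, one_smul]
  abel

end Transitive

theorem e_apply_self {k : ℕ} (i : Fin k) : (e i : Fin k → F) i = 1 := by
  unfold e
  rw [Pi.single_eq_same]

theorem e_apply_ne {k : ℕ} {i j : Fin k} (h : j ≠ i) : (e i : Fin k → F) j = 0 := by
  unfold e
  rw [Pi.single_eq_of_ne h]

/-- `SL_(m+1)`, `m ≥ 1`, is transitive on the nonzero vectors -/
theorem exists_map_e0 (hm : 1 ≤ m) (v : Fin (m + 1) → F) (hv : v ≠ 0) :
    ∃ g : SpecialLinearGroup (Fin (m + 1)) F,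
      (g : Matrix (Fin (m + 1)) (Fin (m + 1)) F) *ᵥ (e 0 : Fin (m + 1) → F) = v := by
  rcases span_dichotomy (e_ne_zero (k := F) (0 : Fin (m + 1))) hv with ⟨lam, hlam, hl⟩ | ⟨h1, h2⟩
  · obtain ⟨j, hjdef⟩ : ∃ j : Fin (m + 1), j = ⟨1, by omega⟩ := ⟨_, rfl⟩
    have hj0 : j ≠ 0 := by
      rw [hjdef]
      intro h
      have := congrArg Fin.val h
      simp at this
    have hz1 : (e j : Fin (m + 1) → F) ∉ Submodule.span F {(e 0 : Fin (m + 1) → F)} := by
      intro h
      obtain ⟨a, ha⟩ := Submodule.mem_span_singleton.mp h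
      have := congrFun ha j
      rw [Pi.smul_apply, e_apply_ne hj0, smul_zero, e_apply_self] at this
      exact zero_ne_one this
    have hz2 : (e 0 : Fin (m + 1) → F) ∉ Submodule.span F {(e j : Fin (m + 1) → F)} := by
      intro h
      obtain ⟨a, ha⟩ := Submodule.mem_span_singleton.mp h
      have := congrFun ha 0
      rw [Pi.smul_apply, e_apply_ne (Ne.symm hj0), smul_zero, e_apply_self] at this
      exact zero_ne_one this
    have hz3 : (e j : Fin (m + 1) → F) ∉ Submodule.span F {v} := by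
      intro h
      obtain ⟨a, ha⟩ := Submodule.mem_span_singleton.mp h
      have h' : lam • (e j : Fin (m + 1) → F) = a • (e 0 : Fin (m + 1) → F) := by
        rw [← ha, hl, smul_smul, smul_smul, mul_comm]
      have := congrFun h' j
      rw [Pi.smul_apply, Pi.smul_apply, e_apply_self, e_apply_ne hj0, smul_zero, smul_eq_mul,
        mul_one] at this
      exact hlam this
    have hz4 : v ∉ Submodule.span F {(e j : Fin (m + 1) → F)} := by
      intro h
      obtain ⟨a, ha⟩ := Submodule.mem_span_singleton.mp h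
      have h' : (e 0 : Fin (m + 1) → F) = (lam * a) • (e j : Fin (m + 1) → F) := by
        rw [hl, ← ha, smul_smul]
      have := congrFun h' 0
      rw [Pi.smul_apply, e_apply_self, e_apply_ne (Ne.symm hj0), smul_zero] at this
      exact one_ne_zero this
    obtain ⟨g1, hg1⟩ := exists_map_of_indep hz2 hz1
    obtain ⟨g2, hg2⟩ := exists_map_of_indep hz3 hz4
    exact ⟨g2 * g1, by rw [coe_mul_mulVec, hg1, hg2]⟩
  · exact exists_map_of_indep h1 h2

open scoped Classical in
/-- a chosen element mapping `e_0` to `v` -/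
noncomputable def tvec (hm : 1 ≤ m) (v : Fin (m + 1) → F) : SpecialLinearGroup (Fin (m + 1)) F :=
  if h : v ≠ 0 then Classical.choose (exists_map_e0 hm v h) else 1

theorem tvec_spec (hm : 1 ≤ m) {v : Fin (m + 1) → F} (hv : v ≠ 0) :
    ((tvec hm v : SpecialLinearGroup (Fin (m + 1)) F) : Matrix (Fin (m + 1)) (Fin (m + 1)) F) *ᵥ
      (e 0 : Fin (m + 1) → F) = v := by
  unfold tvec
  rw [dif_pos hv]
  exact Classical.choose_spec (exists_map_e0 hm v hv)

theorem mulVec_e0_ne_zero (g : SpecialLinearGroup (Fin (m + 1)) F) :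
    (g : Matrix (Fin (m + 1)) (Fin (m + 1)) F) *ᵥ (e 0 : Fin (m + 1) → F) ≠ 0 := by
  intro h
  have := inv_mulVec_mulVec g (e 0 : Fin (m + 1) → F)
  rw [h, Matrix.mulVec_zero] at this
  exact e_ne_zero (k := F) (0 : Fin (m + 1)) this.symm

section Sums

variable [Fintype F] [DecidableEq F]

local notation "q" => Fintype.card F

theorem card_subtype_eq_sum {α : Type*} [Fintype α] (P : α → Prop) [DecidablePred P] :
    (Nat.card {a : α // P a} : ℂ) = ∑ a : α, if P a then (1 : ℂ) else 0 := by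
  rw [Nat.card_eq_fintype_card, Fintype.card_subtype, Finset.card_filter, Nat.cast_sum]
  apply Finset.sum_congr rfl
  intro a _
  split_ifs <;> simp

/-- Lemma A: the fixed point count against a class function -/
theorem sum_fix_eq (hm : 1 ≤ m) {f : SpecialLinearGroup (Fin (m + 1)) F → ℂ}
    (hf : ∀ a g, f (a * g * a⁻¹) = f g) :
    ∑ g : SpecialLinearGroup (Fin (m + 1)) F, f g *
        (Nat.card {v : Fin (m + 1) → F // v ≠ 0 ∧
          (g : Matrix (Fin (m + 1)) (Fin (m + 1)) F) *ᵥ v = v} : ℂ) =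
      (Nat.card {v : Fin (m + 1) → F // v ≠ 0} : ℂ) *
        ∑ g : SpecialLinearGroup (Fin (m + 1)) F,
          if (g : Matrix (Fin (m + 1)) (Fin (m + 1)) F) *ᵥ (e 0 : Fin (m + 1) → F) = e 0
            then f g else 0 := by
  classical
  obtain ⟨S0, hS0⟩ : ∃ S0 : ℂ, S0 = ∑ g : SpecialLinearGroup (Fin (m + 1)) F,
      if (g : Matrix (Fin (m + 1)) (Fin (m + 1)) F) *ᵥ (e 0 : Fin (m + 1) → F) = e 0
        then f g else 0 := ⟨_, rfl⟩
  rw [← hS0]
  have key : ∀ v : Fin (m + 1) → F, v ≠ 0 →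
      ∑ g : SpecialLinearGroup (Fin (m + 1)) F,
        (if v ≠ 0 ∧ (g : Matrix (Fin (m + 1)) (Fin (m + 1)) F) *ᵥ v = v then f g else 0) = S0 := by
    intro v hv
    rw [hS0]
    have ha := tvec_spec hm hv
    obtain ⟨a, hadef⟩ : ∃ a, a = tvec hm v := ⟨_, rfl⟩
    rw [← hadef] at ha
    apply Fintype.sum_equiv ((Equiv.mulLeft a⁻¹).trans (Equiv.mulRight a))
    intro g
    have hval : ((Equiv.mulLeft a⁻¹).trans (Equiv.mulRight a)) g = a⁻¹ * g * a := rfl
    rw [hval]
    have hfa : f (a⁻¹ * g * a) = f g := by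
      have := hf a⁻¹ g
      rwa [inv_inv] at this
    have hiff : ((a⁻¹ * g * a : SpecialLinearGroup (Fin (m + 1)) F) :
        Matrix (Fin (m + 1)) (Fin (m + 1)) F) *ᵥ (e 0 : Fin (m + 1) → F) = e 0 ↔
        (g : Matrix (Fin (m + 1)) (Fin (m + 1)) F) *ᵥ v = v := by
      rw [coe_mul_mulVec, coe_mul_mulVec, ha]
      constructor
      · intro h
        rw [← mulVec_inv_mulVec a ((g : Matrix (Fin (m + 1)) (Fin (m + 1)) F) *ᵥ v), h, ha]
      · intro h
        rw [h, ← ha, inv_mulVec_mulVec]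
    by_cases hg : (g : Matrix (Fin (m + 1)) (Fin (m + 1)) F) *ᵥ v = v
    · rw [if_pos ⟨hv, hg⟩, if_pos (hiff.2 hg), hfa]
    · rw [if_neg (fun h => hg h.2), if_neg (fun h => hg (hiff.1 h))]
  calc ∑ g : SpecialLinearGroup (Fin (m + 1)) F, f g *
        (Nat.card {v : Fin (m + 1) → F // v ≠ 0 ∧
          (g : Matrix (Fin (m + 1)) (Fin (m + 1)) F) *ᵥ v = v} : ℂ)
      = ∑ g : SpecialLinearGroup (Fin (m + 1)) F, ∑ v : Fin (m + 1) → F,
          (if v ≠ 0 ∧ (g : Matrix (Fin (m + 1)) (Fin (m + 1)) F) *ᵥ v = v then f g else 0) := by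
        apply Finset.sum_congr rfl
        intro g _
        rw [card_subtype_eq_sum, Finset.mul_sum]
        apply Finset.sum_congr rfl
        intro v _
        split_ifs <;> simp
    _ = ∑ v : Fin (m + 1) → F, ∑ g : SpecialLinearGroup (Fin (m + 1)) F,
          (if v ≠ 0 ∧ (g : Matrix (Fin (m + 1)) (Fin (m + 1)) F) *ᵥ v = v then f g else 0) :=
        Finset.sum_comm
    _ = ∑ v : Fin (m + 1) → F, (if v ≠ 0 then (1 : ℂ) else 0) * S0 := by
        apply Finset.sum_congr rfl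
        intro v _
        by_cases hv : v = 0
        · rw [if_neg (not_not.2 hv), zero_mul]
          apply Finset.sum_eq_zero
          intro g _
          rw [if_neg (fun h => h.1 hv)]
        · rw [if_pos hv, one_mul, key v hv]
    _ = (Nat.card {v : Fin (m + 1) → F // v ≠ 0} : ℂ) * S0 := by
        rw [← Finset.sum_mul, card_subtype_eq_sum]

/-- Lemma B: the order of the group -/
theorem card_G_eq (hm : 1 ≤ m) :
    (Nat.card (SpecialLinearGroup (Fin (m + 1)) F) : ℂ) =
      (Nat.card {v : Fin (m + 1) → F // v ≠ 0} : ℂ) *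
        ∑ g : SpecialLinearGroup (Fin (m + 1)) F,
          if (g : Matrix (Fin (m + 1)) (Fin (m + 1)) F) *ᵥ (e 0 : Fin (m + 1) → F) = e 0
            then (1 : ℂ) else 0 := by
  classical
  obtain ⟨S0, hS0⟩ : ∃ S0 : ℂ, S0 = ∑ g : SpecialLinearGroup (Fin (m + 1)) F,
      if (g : Matrix (Fin (m + 1)) (Fin (m + 1)) F) *ᵥ (e 0 : Fin (m + 1) → F) = e 0
        then (1 : ℂ) else 0 := ⟨_, rfl⟩
  rw [← hS0]
  have key : ∀ v : Fin (m + 1) → F, v ≠ 0 →
      ∑ g : SpecialLinearGroup (Fin (m + 1)) F,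
        (if v ≠ 0 ∧ (g : Matrix (Fin (m + 1)) (Fin (m + 1)) F) *ᵥ (e 0 : Fin (m + 1) → F) = v
          then (1 : ℂ) else 0) = S0 := by
    intro v hv
    rw [hS0]
    have ha := tvec_spec hm hv
    obtain ⟨a, hadef⟩ : ∃ a, a = tvec hm v := ⟨_, rfl⟩
    rw [← hadef] at ha
    apply Fintype.sum_equiv (Equiv.mulLeft a⁻¹)
    intro g
    have hval : (Equiv.mulLeft a⁻¹) g = a⁻¹ * g := rfl
    rw [hval]
    have hiff : ((a⁻¹ * g : SpecialLinearGroup (Fin (m + 1)) F) :
        Matrix (Fin (m + 1)) (Fin (m + 1)) F) *ᵥ (e 0 : Fin (m + 1) → F) = e 0 ↔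
        (g : Matrix (Fin (m + 1)) (Fin (m + 1)) F) *ᵥ (e 0 : Fin (m + 1) → F) = v := by
      rw [coe_mul_mulVec]
      constructor
      · intro h
        rw [← mulVec_inv_mulVec a ((g : Matrix (Fin (m + 1)) (Fin (m + 1)) F) *ᵥ
          (e 0 : Fin (m + 1) → F)), h, ha]
      · intro h
        rw [h, ← ha, inv_mulVec_mulVec]
    by_cases hg : (g : Matrix (Fin (m + 1)) (Fin (m + 1)) F) *ᵥ (e 0 : Fin (m + 1) → F) = v
    · rw [if_pos ⟨hv, hg⟩, if_pos (hiff.2 hg)]
    · rw [if_neg (fun h => hg h.2), if_neg (fun h => hg (hiff.1 h))]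
  calc (Nat.card (SpecialLinearGroup (Fin (m + 1)) F) : ℂ)
      = ∑ _g : SpecialLinearGroup (Fin (m + 1)) F, (1 : ℂ) := by
        rw [Finset.sum_const, Finset.card_univ, Nat.card_eq_fintype_card, nsmul_eq_mul, mul_one]
    _ = ∑ g : SpecialLinearGroup (Fin (m + 1)) F, ∑ v : Fin (m + 1) → F,
          (if v ≠ 0 ∧ (g : Matrix (Fin (m + 1)) (Fin (m + 1)) F) *ᵥ (e 0 : Fin (m + 1) → F) = v
            then (1 : ℂ) else 0) := by
        apply Finset.sum_congr rfl
        intro g _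
        rw [Finset.sum_eq_single ((g : Matrix (Fin (m + 1)) (Fin (m + 1)) F) *ᵥ
          (e 0 : Fin (m + 1) → F))]
        · rw [if_pos ⟨mulVec_e0_ne_zero g, rfl⟩]
        · intro v _ hv
          rw [if_neg (fun h => hv h.2.symm)]
        · intro h
          exact absurd (Finset.mem_univ _) h
    _ = ∑ v : Fin (m + 1) → F, ∑ g : SpecialLinearGroup (Fin (m + 1)) F,
          (if v ≠ 0 ∧ (g : Matrix (Fin (m + 1)) (Fin (m + 1)) F) *ᵥ (e 0 : Fin (m + 1) → F) = v
            then (1 : ℂ) else 0) := Finset.sum_comm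
    _ = ∑ v : Fin (m + 1) → F, (if v ≠ 0 then (1 : ℂ) else 0) * S0 := by
        apply Finset.sum_congr rfl
        intro v _
        by_cases hv : v = 0
        · rw [if_neg (not_not.2 hv), zero_mul]
          apply Finset.sum_eq_zero
          intro g _
          rw [if_neg (fun h => h.1 hv)]
        · rw [if_pos hv, one_mul, key v hv]
    _ = (Nat.card {v : Fin (m + 1) → F // v ≠ 0} : ℂ) * S0 := by
        rw [← Finset.sum_mul, card_subtype_eq_sum]

end Sums

section Stab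

variable [Fintype F] [DecidableEq F]

/-- rows of `qrow w * emb h` -/
theorem row_zero (w : Fin m → F) (h : SpecialLinearGroup (Fin m) F) :
    (e 0 : Fin (m + 1) → F) ᵥ* ((qrow w * emb m h : SpecialLinearGroup (Fin (m + 1)) F) :
      Matrix (Fin (m + 1)) (Fin (m + 1)) F) =
      e 0 + ext0 (w ᵥ* (h : Matrix (Fin m) (Fin m) F)) := by
  have h0 : (e 0 : Fin (m + 1) → F) ᵥ* embMat (h : Matrix (Fin m) (Fin m) F) = e 0 := by
    unfold e
    rw [Matrix.single_one_vecMul]
    funext j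
    refine Fin.cases ?_ (fun j' => ?_) j
    · rw [Matrix.row_apply, embMat_zero_zero, Pi.single_eq_same]
    · rw [Matrix.row_apply, embMat_zero_succ, Pi.single_eq_of_ne (Fin.succ_ne_zero j')]
  unfold qrow
  rw [coe_mul_vecMul, tv_vecMul (PkB.ext0_dot_e0 w), e_dot_e_self, mul_one, one_smul, emb_coe,
    Matrix.add_vecMul, h0, PkB.ext0_vecMul_embMat]

theorem row_succ (w : Fin m → F) (h : SpecialLinearGroup (Fin m) F) (i : Fin m) :
    (e i.succ : Fin (m + 1) → F) ᵥ* ((qrow w * emb m h : SpecialLinearGroup (Fin (m + 1)) F) :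
      Matrix (Fin (m + 1)) (Fin (m + 1)) F) =
      ext0 ((e i : Fin m → F) ᵥ* (h : Matrix (Fin m) (Fin m) F)) := by
  unfold qrow
  rw [coe_mul_vecMul, tv_vecMul (PkB.ext0_dot_e0 w), e_dot_e_ne (Fin.succ_ne_zero i), mul_zero,
    zero_smul, add_zero, emb_coe, ← ext0_e, PkB.ext0_vecMul_embMat]

theorem mat_ext_rows {k : ℕ} {A B : Matrix (Fin k) (Fin k) F}
    (h : ∀ i, (e i : Fin k → F) ᵥ* A = (e i : Fin k → F) ᵥ* B) : A = B := by
  ext i j
  have := congrFun (h i) j
  unfold e at this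
  rw [Matrix.single_one_vecMul, Matrix.single_one_vecMul] at this
  exact this

theorem phi_mem (w : Fin m → F) (h : SpecialLinearGroup (Fin m) F) :
    ((qrow w * emb m h : SpecialLinearGroup (Fin (m + 1)) F) :
      Matrix (Fin (m + 1)) (Fin (m + 1)) F) *ᵥ (e 0 : Fin (m + 1) → F) = e 0 := by
  unfold qrow
  rw [coe_mul_mulVec, emb_coe, PkB.embMat_mulVec_e0, tv_mulVec (PkB.ext0_dot_e0 w),
    PkB.ext0_dot_e0, mul_zero, zero_smul, add_zero]

theorem phi_injective :
    Function.Injective (fun p : SpecialLinearGroup (Fin m) F × (Fin m → F) =>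
      (qrow p.2 * emb m p.1 : SpecialLinearGroup (Fin (m + 1)) F)) := by
  rintro ⟨h, w⟩ ⟨h', w'⟩ heq
  simp only at heq
  have hh : h = h' := by
    apply Subtype.ext
    apply mat_ext_rows
    intro i
    apply PkB.ext0_injective
    rw [← row_succ w h i, ← row_succ w' h' i, heq]
  subst hh
  have hw : w = w' := qrow_injective (mul_right_cancel heq)
  rw [hw]

theorem phi_surjective (g : SpecialLinearGroup (Fin (m + 1)) F)
    (hg : (g : Matrix (Fin (m + 1)) (Fin (m + 1)) F) *ᵥ (e 0 : Fin (m + 1) → F) = e 0) :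
    ∃ (h : SpecialLinearGroup (Fin m) F) (w : Fin m → F), qrow w * emb m h = g := by
  have hcol : ∀ i, (g : Matrix (Fin (m + 1)) (Fin (m + 1)) F) i 0 = (e 0 : Fin (m + 1) → F) i := by
    intro i
    have := congrFun hg i
    unfold e at this ⊢
    rw [Matrix.mulVec_single_one, Matrix.col_apply] at this
    exact this
  have h00 : (g : Matrix (Fin (m + 1)) (Fin (m + 1)) F) 0 0 = 1 := by
    rw [hcol, e_apply_self]
  have hs0 : ∀ i : Fin m, (g : Matrix (Fin (m + 1)) (Fin (m + 1)) F) i.succ 0 = 0 := by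
    intro i
    rw [hcol, e_apply_ne (Fin.succ_ne_zero i)]
  have hdet : ((g : Matrix (Fin (m + 1)) (Fin (m + 1)) F).submatrix Fin.succ Fin.succ).det = 1 := by
    have h1 := g.2
    rw [Matrix.det_succ_column_zero, Fin.sum_univ_succ] at h1
    have hz : ∀ i : Fin m, (-1 : F) ^ (i.succ : ℕ) *
        (g : Matrix (Fin (m + 1)) (Fin (m + 1)) F) i.succ 0 *
        ((g : Matrix (Fin (m + 1)) (Fin (m + 1)) F).submatrix i.succ.succAbove Fin.succ).det = 0 := by
      intro i
      rw [hs0, mul_zero, zero_mul]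
    rw [Finset.sum_eq_zero (fun i _ => hz i), add_zero, h00, Fin.succAbove_zero] at h1
    simpa using h1
  obtain ⟨h, hhdef⟩ : ∃ h : SpecialLinearGroup (Fin m) F,
      (h : Matrix (Fin m) (Fin m) F) =
        (g : Matrix (Fin (m + 1)) (Fin (m + 1)) F).submatrix Fin.succ Fin.succ :=
    ⟨⟨_, hdet⟩, rfl⟩
  obtain ⟨r, hrdef⟩ : ∃ r : Fin m → F,
      r = fun j => (g : Matrix (Fin (m + 1)) (Fin (m + 1)) F) 0 j.succ := ⟨_, rfl⟩
  refine ⟨h, r ᵥ* ((h⁻¹ : SpecialLinearGroup (Fin m) F) : Matrix (Fin m) (Fin m) F), ?_⟩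
  apply Subtype.ext
  apply mat_ext_rows
  intro i
  refine Fin.cases ?_ (fun i' => ?_) i
  · rw [row_zero, vecMul_inv_vecMul]
    unfold e
    rw [Matrix.single_one_vecMul]
    funext j
    refine Fin.cases ?_ (fun j' => ?_) j
    · rw [Pi.add_apply, Pi.single_eq_same, PkB.ext0_zero, add_zero, Matrix.row_apply, h00]
    · rw [Pi.add_apply, Pi.single_eq_of_ne (Fin.succ_ne_zero j'), zero_add, PkB.ext0_succ,
        Matrix.row_apply, hrdef]
  · rw [row_succ]
    unfold e
    rw [Matrix.single_one_vecMul, Matrix.single_one_vecMul]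
    funext j
    refine Fin.cases ?_ (fun j' => ?_) j
    · rw [PkB.ext0_zero, Matrix.row_apply, hs0]
    · rw [PkB.ext0_succ, Matrix.row_apply, Matrix.row_apply, hhdef, Matrix.submatrix_apply]

/-- Lemma C: summation over the stabiliser of `e_0` -/
theorem sum_stab_eq (f : SpecialLinearGroup (Fin (m + 1)) F → ℂ) :
    (∑ g : SpecialLinearGroup (Fin (m + 1)) F,
      if (g : Matrix (Fin (m + 1)) (Fin (m + 1)) F) *ᵥ (e 0 : Fin (m + 1) → F) = e 0
        then f g else 0) =
      ∑ h : SpecialLinearGroup (Fin m) F, ∑ w : Fin m → F, f (qrow w * emb m h) := by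
  classical
  rw [← Finset.sum_filter, ← Fintype.sum_prod_type']
  have himg : (Finset.univ.filter fun g : SpecialLinearGroup (Fin (m + 1)) F =>
      (g : Matrix (Fin (m + 1)) (Fin (m + 1)) F) *ᵥ (e 0 : Fin (m + 1) → F) = e 0) =
      Finset.univ.image (fun p : SpecialLinearGroup (Fin m) F × (Fin m → F) =>
        (qrow p.2 * emb m p.1 : SpecialLinearGroup (Fin (m + 1)) F)) := by
    ext g
    rw [Finset.mem_filter, Finset.mem_image]
    constructor
    · rintro ⟨-, hg⟩
      obtain ⟨h, w, hhw⟩ := phi_surjective g hg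
      exact ⟨(h, w), Finset.mem_univ _, hhw⟩
    · rintro ⟨⟨h, w⟩, -, rfl⟩
      exact ⟨Finset.mem_univ _, phi_mem w h⟩
  rw [himg, Finset.sum_image (fun a _ b _ hab => phi_injective hab)]

end Stab

end PkAH1

section Main

variable [Fintype F] [DecidableEq F] {m : ℕ}

open PkAH1 in
/-- AH1 (Frobenius reciprocity by hand): the multiplicity of the trivial character of `SL_m` on the
`Q`-fixed points is the multiplicity of `χ` in the permutation character on vectors -/
theorem inner_psi_one (hm : 1 ≤ m) (ψ0 : AddChar F ℂ)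
    {χ : SpecialLinearGroup (Fin (m + 1)) F → ℂ}
    (hχ : IsCharacter (SpecialLinearGroup (Fin (m + 1)) F) χ) :
    classInner (fun h : SpecialLinearGroup (Fin m) F =>
        isoAvg qrow (lamU ψ0 (0 : Fin m → F)) χ (emb m h)) (fun _ => 1) =
      classInner χ (permVec (m + 1)) := by
  classical
  have hcf := Cfsg.Agent.Lib.Helper4.isClassFunction_of_isCharacter hχ
  have hf : ∀ a g, χ (a * g * a⁻¹) = χ g := fun a g => hcf g a
  obtain ⟨S0, hS0⟩ : ∃ S0 : ℂ, S0 = ∑ g : SpecialLinearGroup (Fin (m + 1)) F,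
      if (g : Matrix (Fin (m + 1)) (Fin (m + 1)) F) *ᵥ (e 0 : Fin (m + 1) → F) = e 0
        then χ g else 0 := ⟨_, rfl⟩
  obtain ⟨N, hN⟩ : ∃ N : ℂ, N = (Nat.card {v : Fin (m + 1) → F // v ≠ 0} : ℂ) := ⟨_, rfl⟩
  obtain ⟨cK, hcK⟩ : ∃ cK : ℂ, cK = (Nat.card (SpecialLinearGroup (Fin m) F) : ℂ) := ⟨_, rfl⟩
  obtain ⟨cW, hcW⟩ : ∃ cW : ℂ, cW = (Fintype.card (Fin m → F) : ℂ) := ⟨_, rfl⟩
  have hN0 : N ≠ 0 := by
    rw [hN]
    haveI : Nonempty {v : Fin (m + 1) → F // v ≠ 0} := ⟨⟨e 0, e_ne_zero 0⟩⟩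
    exact Nat.cast_ne_zero.2 Nat.card_pos.ne'
  have hcK0 : cK ≠ 0 := by
    rw [hcK]
    exact Nat.cast_ne_zero.2 Nat.card_pos.ne'
  have hcW0 : cW ≠ 0 := by
    rw [hcW]
    exact Nat.cast_ne_zero.2 Fintype.card_pos.ne'
  have hL : classInner (fun h : SpecialLinearGroup (Fin m) F =>
      isoAvg qrow (lamU ψ0 (0 : Fin m → F)) χ (emb m h)) (fun _ => 1) = cK⁻¹ * (cW⁻¹ * S0) := by
    unfold classInner
    rw [← hcK, hS0, sum_stab_eq χ]
    congr 1
    rw [Finset.mul_sum]
    apply Finset.sum_congr rfl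
    intro h _
    show isoAvg qrow (lamU ψ0 (0 : Fin m → F)) χ (emb m h) * conj (1 : ℂ) =
      cW⁻¹ * ∑ w : Fin m → F, χ (qrow w * emb m h)
    rw [map_one, mul_one, isoAvg_apply, ← hcW]
    congr 1
    apply Finset.sum_congr rfl
    intro w _
    rw [lamU_apply, zero_dotProduct, AddChar.map_zero_eq_one, map_one, one_mul]
  have hR : classInner χ (permVec (m + 1)) =
      (Nat.card (SpecialLinearGroup (Fin (m + 1)) F) : ℂ)⁻¹ * (N * S0) := by
    unfold classInner
    congr 1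
    rw [hN, hS0, ← sum_fix_eq hm hf]
    apply Finset.sum_congr rfl
    intro g _
    unfold permVec
    rw [Complex.conj_natCast]
  have hG : (Nat.card (SpecialLinearGroup (Fin (m + 1)) F) : ℂ) = N * (cK * cW) := by
    rw [card_G_eq hm, ← hN, sum_stab_eq (fun _ => (1 : ℂ))]
    congr 1
    simp only [Finset.sum_const, Finset.card_univ, nsmul_eq_mul, mul_one]
    rw [hcK, hcW, Nat.card_eq_fintype_card]
  rw [hL, hR, hG]
  field_simp

end Main

end Cfsg.Agent.Lib.Helper4.SLMin
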