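import Mathlib
import Cfsg.Prelude.Def_Characters
import Cfsg.Agent.Lib.Helper4.SLMin.Defs
import Cfsg.Agent.Lib.Helper4.Characters
import Cfsg.Agent.Lib.Helper1.SiegelW

set_option autoImplicit false

/-! S2332, package AH4: characters of `SL_2(q)`, `q` even, that are nontrivial on the root group
have degree at least `q - 1`. -/

namespace Cfsg.Agent.Lib.Helper4.SLMin

open Matrix Cfsg Cfsg.Agent.H9SLRoot Cfsg.Agent.Lib.Helper1.SUMin
open scoped ComplexConjugate

universe u

variable {F : Type u} [Field F] [Fintype F] [DecidableEq F]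

local notation "q" => Fintype.card F

/-- the torus element `diag(c, d)` with `c d = 1` -/
def ah4Diag (c d : F) (hcd : c * d = 1) : SpecialLinearGroup (Fin 2) F :=
  ⟨!![c, 0; 0, d], by rw [Matrix.det_fin_two_of, mul_zero, sub_zero, hcd]⟩

theorem ah4Diag_mul (c d : F) (hcd : c * d = 1) (hdc : d * c = 1) :
    ah4Diag c d hcd * ah4Diag d c hdc = 1 := by
  apply Subtype.ext
  rw [Matrix.SpecialLinearGroup.coe_mul, Matrix.SpecialLinearGroup.coe_one]
  unfold ah4Diag
  ext i j
  fin_cases i <;> fin_cases j <;> simp [Matrix.mul_apply, Fin.sum_univ_two, hcd, hdc]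

theorem ah4Diag_conj (c d : F) (hcd : c * d = 1) (a : F) :
    ah4Diag c d hcd * tauE 1 a * (ah4Diag c d hcd)⁻¹ = tauE 1 (c * c * a) := by
  have hdc : d * c = 1 := by rw [mul_comm]; exact hcd
  have hinv : (ah4Diag c d hcd)⁻¹ = ah4Diag d c hdc :=
    inv_eq_of_mul_eq_one_right (ah4Diag_mul c d hcd hdc)
  unfold tauE
  rw [tv_conj, hinv]
  have h1 : ((ah4Diag c d hcd : SpecialLinearGroup (Fin 2) F) : Matrix (Fin 2) (Fin 2) F) *ᵥ
      (e 0 : Fin 2 → F) = c • (e 0 : Fin 2 → F) := by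
    unfold ah4Diag e
    ext i
    fin_cases i <;> simp [Matrix.mulVec, dotProduct, Fin.sum_univ_two]
  have h2 : (e 1 : Fin 2 → F) ᵥ*
      ((ah4Diag d c hdc : SpecialLinearGroup (Fin 2) F) : Matrix (Fin 2) (Fin 2) F) =
      c • (e 1 : Fin 2 → F) := by
    unfold ah4Diag e
    ext i
    fin_cases i <;> simp [Matrix.vecMul, dotProduct, Fin.sum_univ_two]
  rw [h1, h2, tv_smul]

/-- multiplication by a nonzero scalar as an additive automorphism -/
def ah4Scale (s : F) (hs : s ≠ 0) : F ≃+ F where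
  toFun a := s * a
  invFun a := s⁻¹ * a
  left_inv a := by
    show s⁻¹ * (s * a) = a
    rw [← mul_assoc, inv_mul_cancel₀ hs, one_mul]
  right_inv a := by
    show s * (s⁻¹ * a) = a
    rw [← mul_assoc, mul_inv_cancel₀ hs, one_mul]
  map_add' a b := mul_add s a b

/-- AH4: `SL_2(q)`, `q` even: a character nontrivial on the root group has degree `≥ q - 1` -/
theorem sl2_even_bound (hq : Even q) {ψ : SpecialLinearGroup (Fin 2) F → ℂ}
    (hψ : IsCharacter (SpecialLinearGroup (Fin 2) F) ψ) (t : F) (ht : ψ (tauE 1 t) ≠ ψ 1) :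
    ∃ k : ℕ, ψ 1 = k ∧ q - 1 ≤ k := by
  classical
  have hζ : ∀ a b : F, (tauE 1 (a + b) : SpecialLinearGroup (Fin 2) F) = tauE 1 a * tauE 1 b := by
    intro a b
    unfold tauE
    rw [tv_mul]
  obtain ⟨lam, hlam, hO⟩ := siegel_wrapper hψ (fun a : F => (tauE 1 a : SpecialLinearGroup (Fin 2) F))
    hζ t ht
  have hlam1 : lam ≠ 1 := by
    rintro rfl
    exact hlam rfl
  have hprim : lam.IsPrimitive := AddChar.IsPrimitive.of_ne_one hlam1
  have hinj : Function.Injective (fun b : F => AddChar.mulShift lam b) :=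
    AddChar.to_mulShift_inj_of_isPrimitive hprim
  have hbij : Function.Bijective (fun b : F => AddChar.mulShift lam b) := by
    rw [Fintype.bijective_iff_injective_and_card]
    exact ⟨hinj, (AddChar.card_eq (α := F)).symm⟩
  have hcard : (Finset.univ.erase (1 : AddChar F ℂ)).card = q - 1 := by
    rw [Finset.card_erase_of_mem (Finset.mem_univ _), Finset.card_univ, AddChar.card_eq]
  obtain ⟨k, hk1, hk2⟩ := hO (Finset.univ.erase (1 : AddChar F ℂ)) (by
    intro μ hμ
    have hμ1 : μ ≠ 1 := (Finset.mem_erase.1 hμ).1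
    obtain ⟨b, hb⟩ := hbij.2 μ
    have hb' : AddChar.mulShift lam b = μ := hb
    have hb0 : b ≠ 0 := by
      rintro rfl
      apply hμ1
      rw [← hb', AddChar.mulShift_zero]
    obtain ⟨j, hj⟩ := hq
    obtain ⟨c, hcdef⟩ : ∃ c : F, c = b ^ j := ⟨_, rfl⟩
    have hcc : c * c = b := by
      rw [hcdef, ← pow_add, ← hj, FiniteField.pow_card]
    have hc0 : c ≠ 0 := by
      rintro rfl
      apply hb0
      rw [← hcc, mul_zero]
    refine ⟨ah4Diag c c⁻¹ (mul_inv_cancel₀ hc0),
      ah4Scale (c * c) (mul_ne_zero hc0 hc0), ?_, ?_⟩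
    · intro a
      exact ah4Diag_conj c c⁻¹ (mul_inv_cancel₀ hc0) a
    · intro a
      rw [← hb', AddChar.mulShift_apply, ← hcc]
      rfl)
  exact ⟨k, hk1, by rw [← hcard]; exact hk2⟩

end Cfsg.Agent.Lib.Helper4.SLMin
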