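import Mathlib
import Cfsg.Prelude.Def_SporadicB
import Cfsg.Prelude.Def_Solvable
import Cfsg.Agent.Lib.Helper7.Wielandt6
import Cfsg.Agent.Lib.Helper6.Subn

set_option autoImplicit false
open Cfsg

namespace Cfsg.Agent.Lib.Helper9.ThreeTransp

variable {G : Type*} [Group G]

theorem sq_one {D : Set G} (hD : IsThreeTranspositionSet D) {a : G} (ha : a ∈ D) : a * a = 1 := by
  have := hD.1 a ha
  rw [← pow_two, ← this, pow_orderOf_eq_one]

theorem commute_iff_sq {a b : G} (ha : a * a = 1) (hb : b * b = 1) :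
    Commute a b ↔ (a * b) ^ 2 = 1 := by
  have hai : a⁻¹ = a := inv_eq_of_mul_eq_one_right ha
  have hbi : b⁻¹ = b := inv_eq_of_mul_eq_one_right hb
  constructor
  · intro h
    rw [pow_two]
    calc a * b * (a * b) = a * (b * a) * b := by group
      _ = a * (a * b) * b := by rw [h.eq]
      _ = (a * a) * (b * b) := by group
      _ = 1 := by rw [ha, hb, one_mul]
  · intro h
    rw [pow_two] at h
    have h1 : a * b = (a * b)⁻¹ := (inv_eq_of_mul_eq_one_right h).symm
    show a * b = b * a
    rw [h1, mul_inv_rev, hai, hbi]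

theorem commute_or_braid {D : Set G} (hD : IsThreeTranspositionSet D) {a b : G}
    (ha : a ∈ D) (hb : b ∈ D) : Commute a b ∨ a * b * a = b * a * b := by
  have haa := sq_one hD ha
  have hbb := sq_one hD hb
  have hai : a⁻¹ = a := inv_eq_of_mul_eq_one_right haa
  have hbi : b⁻¹ = b := inv_eq_of_mul_eq_one_right hbb
  rcases hD.2 a ha b hb with h | h
  · left; exact (commute_iff_sq haa hbb).mpr h
  · right
    have h1 : a * b * a * (b * a * b) = 1 := by
      have : (a * b) ^ 3 = a * b * a * (b * a * b) := by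
        rw [pow_succ, pow_two]; group
      rw [← this]; exact h
    have h2 : a * b * a = (b * a * b)⁻¹ := eq_inv_of_mul_eq_one_left h1
    rw [h2, mul_inv_rev, mul_inv_rev, hai, hbi, mul_assoc]

/-- In the `S_4`-configuration `a - c - b` (with `a`, `b` commuting), `c` commutes with its
conjugate by `a * b`. -/
theorem word1 {a b c : G} (hab : a * b = b * a) (hac : a * c * a = c * a * c)
    (hbc : b * c * b = c * b * c) :
    c * (a * b * c * (a * b)) = (a * b * c * (a * b)) * c := by
  calc c * (a * b * c * (a * b)) = c * a * b * c * (a * b) := by group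
    _ = c * a * b * c * (b * a) := by rw [hab]
    _ = c * a * (b * c * b) * a := by group
    _ = c * a * (c * b * c) * a := by rw [hbc]
    _ = (c * a * c) * b * c * a := by group
    _ = (a * c * a) * b * c * a := by rw [hac]
    _ = a * c * (a * b) * c * a := by group
    _ = a * c * (b * a) * c * a := by rw [hab]
    _ = a * c * b * (a * c * a) := by group
    _ = a * c * b * (c * a * c) := by rw [hac]
    _ = a * (c * b * c) * a * c := by group
    _ = a * (b * c * b) * a * c := by rw [hbc]
    _ = a * b * c * (b * a) * c := by group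
    _ = a * b * c * (a * b) * c := by rw [hab]

/-- In the `S_4`-configuration, `c (ab) c` conjugates `a` to `b`. -/
theorem word2 {a b c : G} (haa : a * a = 1) (hbb : b * b = 1) (hcc : c * c = 1)
    (hab : a * b = b * a) (hac : a * c * a = c * a * c)
    (hbc : b * c * b = c * b * c) :
    (c * (a * b) * c) * a * (c * (a * b) * c)⁻¹ = b := by
  have hai : a⁻¹ = a := inv_eq_of_mul_eq_one_right haa
  have hbi : b⁻¹ = b := inv_eq_of_mul_eq_one_right hbb
  have hci : c⁻¹ = c := inv_eq_of_mul_eq_one_right hcc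
  have hinv : (c * (a * b) * c)⁻¹ = c * b * a * c := by
    rw [mul_inv_rev, mul_inv_rev, mul_inv_rev, hai, hbi, hci]; group
  have haba : a * b * a = b := by
    rw [hab, mul_assoc, haa, mul_one]
  rw [hinv]
  calc c * (a * b) * c * a * (c * b * a * c) = c * a * b * (c * a * c) * b * a * c := by group
    _ = c * a * b * (a * c * a) * b * a * c := by rw [hac]
    _ = c * (a * b * a) * c * (a * b * a) * c := by group
    _ = c * b * c * b * c := by rw [haba]
    _ = (c * b * c) * b * c := by group
    _ = (b * c * b) * b * c := by rw [hbc]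
    _ = b * c * (b * b) * c := by group
    _ = b * (c * c) := by rw [hbb]; group
    _ = b := by rw [hcc, mul_one]

theorem isPGroup_zpowers_of_pow {t : G} {k : ℕ} (h : t ^ (2 ^ k) = 1) :
    IsPGroup 2 ↥(Subgroup.zpowers t) := by
  rintro ⟨x, hx⟩
  obtain ⟨m, rfl⟩ := Subgroup.mem_zpowers_iff.mp hx
  refine ⟨k, ?_⟩
  apply Subtype.ext
  rw [Subgroup.coe_pow]
  show (t ^ m) ^ 2 ^ k = 1
  rw [← zpow_natCast, ← zpow_mul, mul_comm, zpow_mul, zpow_natCast, h, one_zpow]

/-- Two involutions whose product has order dividing 4 generate a 2-group. -/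
theorem isPGroup_two_of_pow_four [Finite G] {t t' : G} (ht : t * t = 1) (ht' : t' * t' = 1)
    (h4 : (t * t') ^ 4 = 1) :
    IsPGroup 2 ↥(Subgroup.zpowers t ⊔ Subgroup.zpowers t') := by
  have hti : t⁻¹ = t := inv_eq_of_mul_eq_one_right ht
  have ht'i : t'⁻¹ = t' := inv_eq_of_mul_eq_one_right ht'
  have h1 : IsPGroup 2 ↥(Subgroup.zpowers t) :=
    isPGroup_zpowers_of_pow (k := 1) (by rw [pow_one, pow_two]; exact ht)
  have h2 : IsPGroup 2 ↥(Subgroup.zpowers (t * t')) :=
    isPGroup_zpowers_of_pow (k := 2) (by norm_num; exact h4)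
  have hnorm : Subgroup.zpowers t ≤ Subgroup.normalizer (Subgroup.zpowers (t * t') : Set G) := by
    rw [Subgroup.zpowers_le]
    apply Subgroup.mem_normalizer_fintype
    intro n hn
    obtain ⟨m, rfl⟩ := Subgroup.mem_zpowers_iff.mp hn
    have e : t * (t * t') ^ m * t⁻¹ = ((t * t')⁻¹) ^ m := by
      have e1 : t * (t * t') * t⁻¹ = (t * t')⁻¹ := by
        rw [mul_inv_rev, hti, ht'i]
        calc t * (t * t') * t = (t * t) * t' * t := by group
          _ = t' * t := by rw [ht, one_mul]
      have := map_zpow (MulAut.conj t) (t * t') m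
      simp only [MulAut.conj_apply] at this
      rw [this, e1]
    rw [SetLike.mem_coe, e, inv_zpow']
    exact Subgroup.zpow_mem_zpowers _ _
  have h3 := IsPGroup.to_sup_of_normal_right' h1 h2 hnorm
  apply h3.to_le
  apply sup_le le_sup_left
  rw [Subgroup.zpowers_le]
  have hmem : t⁻¹ * (t * t') ∈ Subgroup.zpowers t ⊔ Subgroup.zpowers (t * t') :=
    Subgroup.mul_mem _ (Subgroup.inv_mem _ (Subgroup.mem_sup_left (Subgroup.mem_zpowers t)))
      (Subgroup.mem_sup_right (Subgroup.mem_zpowers _))
  have e : t⁻¹ * (t * t') = t' := by group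
  rw [e] at hmem
  exact hmem

/-- An involution generating a 2-group with each of its conjugates lies in `O_2(G)`. -/
theorem mem_pCore_two_of_conj [Finite G] {t : G} (ht : t * t = 1)
    (h : ∀ g : G, (t * (g * t * g⁻¹)) ^ 4 = 1) : t ∈ Cfsg.pCore 2 G := by
  haveI : Fact (Nat.Prime 2) := ⟨Nat.prime_two⟩
  have hX : ∀ g : G, IsPGroup 2 ↥(Subgroup.zpowers t ⊔
      Cfsg.Agent.Lib.Helper7.cj g (Subgroup.zpowers t)) := by
    intro g
    have e : Cfsg.Agent.Lib.Helper7.cj g (Subgroup.zpowers t) = Subgroup.zpowers (g * t * g⁻¹) := by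
      unfold Cfsg.Agent.Lib.Helper7.cj
      rw [MonoidHom.map_zpowers]
      simp only [MulEquiv.coe_toMonoidHom, MulAut.conj_apply]
    rw [e]
    apply isPGroup_two_of_pow_four ht _ (h g)
    calc g * t * g⁻¹ * (g * t * g⁻¹) = g * (t * t) * g⁻¹ := by group
      _ = 1 := by rw [ht]; group
  obtain ⟨hsn, _⟩ := Cfsg.Agent.Lib.Helper7.baer_suzuki (Subgroup.zpowers t) hX
  have hp : IsPGroup 2 ↥(Subgroup.zpowers t) :=
    isPGroup_zpowers_of_pow (k := 1) (by rw [pow_one, pow_two]; exact ht)
  exact Cfsg.Agent.Lib.Helper6.le_pCore_of_isSubnormal_of_isPGroup hsn hp (Subgroup.mem_zpowers t)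

end Cfsg.Agent.Lib.Helper9.ThreeTransp
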