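import Mathlib

set_option autoImplicit false

/-! A verified coset table: the Coxeter relations of type `A₃` give a homomorphism from `S₄`. -/

namespace Cfsg.Agent.H9S4

def Wl : List (List ℕ) :=
  [[], [2], [2, 1], [2, 1, 0], [0], [0, 2], [0, 2, 1], [0, 2, 1, 0], [1], [1, 2], [1, 2, 1], [1, 2, 1, 0], [0, 1], [0, 1, 2], [0, 1, 2, 1], [0, 1, 2, 1, 0], [1, 0], [1, 0, 2], [1, 0, 2, 1], [1, 0, 2, 1, 0], [0, 1, 0], [0, 1, 0, 2], [0, 1, 0, 2, 1], [0, 1, 0, 2, 1, 0]]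

def tab : List (List ℕ × ℕ × List ℕ) :=
  [([], 0, [0]),
   ([], 1, [1]),
   ([], 2, [2]),
   ([2], 0, [0, 2]),
   ([2], 1, [2, 1]),
   ([2], 2, []),
   ([2, 1], 0, [2, 1, 0]),
   ([2, 1], 1, [2]),
   ([2, 1], 2, [1, 2, 1]),
   ([2, 1, 0], 0, [2, 1]),
   ([2, 1, 0], 1, [0, 2, 1, 0]),
   ([2, 1, 0], 2, [1, 2, 1, 0]),
   ([0], 0, []),
   ([0], 1, [0, 1]),
   ([0], 2, [0, 2]),
   ([0, 2], 0, [2]),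
   ([0, 2], 1, [0, 2, 1]),
   ([0, 2], 2, [0]),
   ([0, 2, 1], 0, [0, 2, 1, 0]),
   ([0, 2, 1], 1, [0, 2]),
   ([0, 2, 1], 2, [0, 1, 2, 1]),
   ([0, 2, 1, 0], 0, [0, 2, 1]),
   ([0, 2, 1, 0], 1, [2, 1, 0]),
   ([0, 2, 1, 0], 2, [0, 1, 2, 1, 0]),
   ([1], 0, [1, 0]),
   ([1], 1, []),
   ([1], 2, [1, 2]),
   ([1, 2], 0, [1, 0, 2]),
   ([1, 2], 1, [1, 2, 1]),
   ([1, 2], 2, [1]),
   ([1, 2, 1], 0, [1, 2, 1, 0]),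
   ([1, 2, 1], 1, [1, 2]),
   ([1, 2, 1], 2, [2, 1]),
   ([1, 2, 1, 0], 0, [1, 2, 1]),
   ([1, 2, 1, 0], 1, [1, 0, 2, 1, 0]),
   ([1, 2, 1, 0], 2, [2, 1, 0]),
   ([0, 1], 0, [0, 1, 0]),
   ([0, 1], 1, [0]),
   ([0, 1], 2, [0, 1, 2]),
   ([0, 1, 2], 0, [0, 1, 0, 2]),
   ([0, 1, 2], 1, [0, 1, 2, 1]),
   ([0, 1, 2], 2, [0, 1]),
   ([0, 1, 2, 1], 0, [0, 1, 2, 1, 0]),
   ([0, 1, 2, 1], 1, [0, 1, 2]),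
   ([0, 1, 2, 1], 2, [0, 2, 1]),
   ([0, 1, 2, 1, 0], 0, [0, 1, 2, 1]),
   ([0, 1, 2, 1, 0], 1, [0, 1, 0, 2, 1, 0]),
   ([0, 1, 2, 1, 0], 2, [0, 2, 1, 0]),
   ([1, 0], 0, [1]),
   ([1, 0], 1, [0, 1, 0]),
   ([1, 0], 2, [1, 0, 2]),
   ([1, 0, 2], 0, [1, 2]),
   ([1, 0, 2], 1, [1, 0, 2, 1]),
   ([1, 0, 2], 2, [1, 0]),
   ([1, 0, 2, 1], 0, [1, 0, 2, 1, 0]),
   ([1, 0, 2, 1], 1, [1, 0, 2]),
   ([1, 0, 2, 1], 2, [0, 1, 0, 2, 1]),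
   ([1, 0, 2, 1, 0], 0, [1, 0, 2, 1]),
   ([1, 0, 2, 1, 0], 1, [1, 2, 1, 0]),
   ([1, 0, 2, 1, 0], 2, [0, 1, 0, 2, 1, 0]),
   ([0, 1, 0], 0, [0, 1]),
   ([0, 1, 0], 1, [1, 0]),
   ([0, 1, 0], 2, [0, 1, 0, 2]),
   ([0, 1, 0, 2], 0, [0, 1, 2]),
   ([0, 1, 0, 2], 1, [0, 1, 0, 2, 1]),
   ([0, 1, 0, 2], 2, [0, 1, 0]),
   ([0, 1, 0, 2, 1], 0, [0, 1, 0, 2, 1, 0]),
   ([0, 1, 0, 2, 1], 1, [0, 1, 0, 2]),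
   ([0, 1, 0, 2, 1], 2, [1, 0, 2, 1]),
   ([0, 1, 0, 2, 1, 0], 0, [0, 1, 0, 2, 1]),
   ([0, 1, 0, 2, 1, 0], 1, [0, 1, 2, 1, 0]),
   ([0, 1, 0, 2, 1, 0], 2, [1, 0, 2, 1, 0])]

/-- transition function of the normal-form automaton -/
def step (w : List ℕ) (i : ℕ) : List ℕ :=
  match tab.find? (fun x => x.1 = w ∧ x.2.1 = i) with
  | some x => x.2.2
  | none => []

/-- the generators of `S₄` -/
def sP : ℕ → Equiv.Perm (Fin 4)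
  | 0 => Equiv.swap 0 1
  | 1 => Equiv.swap 1 2
  | _ => Equiv.swap 2 3

/-- evaluation of a word in `S₄` -/
def evP (w : List ℕ) : Equiv.Perm (Fin 4) := (w.map sP).prod

theorem step_spec : ∀ w ∈ Wl, ∀ i < 3, (w, i, step w i) ∈ tab := by decide

theorem step_mem : ∀ w ∈ Wl, ∀ i < 3, step w i ∈ Wl := by decide

theorem letters_lt : ∀ w ∈ Wl, ∀ i ∈ w, i < 3 := by decide

theorem nil_mem : ([] : List ℕ) ∈ Wl := by decide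

theorem evP_tab : ∀ x ∈ tab, evP x.2.2 = evP x.1 * sP x.2.1 := by decide

theorem evP_inj : ∀ w ∈ Wl, ∀ w' ∈ Wl, evP w = evP w' → w = w' := by decide

end Cfsg.Agent.H9S4
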