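import Mathlib
import Cfsg.Agent.Lib.Helper9.S4Table1

set_option autoImplicit false

namespace Cfsg.Agent.H9S4

theorem evP_surj : ∀ σ : Equiv.Perm (Fin 4), ∃ w ∈ Wl, evP w = σ := by decide

set_option maxRecDepth 100000 in
theorem normal_closure : ∀ w ∈ Wl, w ≠ [] → ∃ u ∈ Wl, ∃ v ∈ Wl,
    evP u * evP w * (evP u)⁻¹ * (evP v * evP w * (evP v)⁻¹) = Equiv.swap 0 1 * Equiv.swap 2 3 := by
  decide

end Cfsg.Agent.H9S4
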