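import Mathlib
import Cfsg.Agent.Lib.Helper9.S4Table2

set_option autoImplicit false

namespace Cfsg.Agent.H9S4

variable {G : Type*} [Group G] (a b c : G)

/-- the images of the generators -/
def gG : ℕ → G
  | 0 => a
  | 1 => b
  | _ => c

/-- evaluation of a word in `G` -/
def ev (w : List ℕ) : G := (w.map (gG a b c)).prod

theorem ev_nil : ev a b c [] = 1 := rfl

theorem ev_append (u v : List ℕ) : ev a b c (u ++ v) = ev a b c u * ev a b c v := by
  unfold ev
  rw [List.map_append, List.prod_append]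

theorem evP_append (u v : List ℕ) : evP (u ++ v) = evP u * evP v := by
  unfold evP
  rw [List.map_append, List.prod_append]

set_option maxHeartbeats 4000000 in
theorem ev_tab (ha : a * a = 1) (hb : b * b = 1) (hc : c * c = 1) (hca : c * a = a * c)
    (hbab : b * (a * b) = a * (b * a)) (hcbc : c * (b * c) = b * (c * b)) :
    ∀ x ∈ tab, ev a b c x.2.2 = ev a b c x.1 * gG a b c x.2.1 := by
  have ha' : ∀ z, a * (a * z) = z := fun z => by rw [← mul_assoc, ha, one_mul]
  have hb' : ∀ z, b * (b * z) = z := fun z => by rw [← mul_assoc, hb, one_mul]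
  have hc' : ∀ z, c * (c * z) = z := fun z => by rw [← mul_assoc, hc, one_mul]
  have hca' : ∀ z, c * (a * z) = a * (c * z) := fun z => by rw [← mul_assoc, hca, mul_assoc]
  have hbab' : ∀ z, b * (a * (b * z)) = a * (b * (a * z)) := fun z => by
    rw [← mul_assoc, ← mul_assoc, mul_assoc b a b, hbab]; simp only [mul_assoc]
  have hcbc' : ∀ z, c * (b * (c * z)) = b * (c * (b * z)) := fun z => by
    rw [← mul_assoc, ← mul_assoc, mul_assoc c b c, hcbc]; simp only [mul_assoc]
  have hcbac : c * (b * (a * c)) = b * (c * (b * a)) := by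
    rw [← hca, hcbc']
  have hcbac' : ∀ z, c * (b * (a * (c * z))) = b * (c * (b * (a * z))) := fun z => by
    have := congrArg (· * z) hcbac
    simpa only [mul_assoc] using this
  simp only [tab, List.forall_mem_cons, List.not_mem_nil, false_imp_iff, implies_true, and_true]
  simp only [ev, gG, List.map_cons, List.map_nil, List.prod_cons, List.prod_nil, mul_one, one_mul, mul_assoc,
    ha, hb, hc, hca, hbab, hcbc, hcbac, ha', hb', hc', hca', hbab', hcbc', hcbac', and_self]

theorem ev_step (ha : a * a = 1) (hb : b * b = 1) (hc : c * c = 1) (hca : c * a = a * c)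
    (hbab : b * (a * b) = a * (b * a)) (hcbc : c * (b * c) = b * (c * b)) :
    ∀ w ∈ Wl, ∀ i < 3, ev a b c (step w i) = ev a b c w * gG a b c i := by
  intro w hw i hi
  exact ev_tab a b c ha hb hc hca hbab hcbc _ (step_spec w hw i hi)

theorem evP_step : ∀ w ∈ Wl, ∀ i < 3, evP (step w i) = evP w * sP i := by
  intro w hw i hi
  exact evP_tab _ (step_spec w hw i hi)

/-- running the automaton -/
theorem run_spec (ha : a * a = 1) (hb : b * b = 1) (hc : c * c = 1) (hca : c * a = a * c)
    (hbab : b * (a * b) = a * (b * a)) (hcbc : c * (b * c) = b * (c * b)) :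
    ∀ (l : List ℕ), (∀ i ∈ l, i < 3) → ∀ w₀ ∈ Wl, ∃ w ∈ Wl,
      ev a b c w = ev a b c w₀ * ev a b c l ∧ evP w = evP w₀ * evP l := by
  intro l
  induction l with
  | nil =>
    intro _ w₀ hw₀
    exact ⟨w₀, hw₀, by rw [ev_nil, mul_one], by simp [evP]⟩
  | cons i l ih =>
    intro hl w₀ hw₀
    have hi : i < 3 := hl i (List.mem_cons_self)
    obtain ⟨w, hw, h1, h2⟩ := ih (fun j hj => hl j (List.mem_cons_of_mem _ hj)) (step w₀ i)
      (step_mem w₀ hw₀ i hi)
    refine ⟨w, hw, ?_, ?_⟩
    · rw [h1, ev_step a b c ha hb hc hca hbab hcbc w₀ hw₀ i hi, mul_assoc]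
      rfl
    · rw [h2, evP_step w₀ hw₀ i hi, mul_assoc]
      rfl

end Cfsg.Agent.H9S4
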