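import Mathlib
import Cfsg.Agent.Lib.Helper9.S4Table3

set_option autoImplicit false

namespace Cfsg.Agent.H9S4

variable {G : Type*} [Group G] (a b c : G)

theorem evP_singleton (i : ℕ) : evP [i] = sP i := by
  simp [evP]

theorem ev_singleton (i : ℕ) : ev a b c [i] = gG a b c i := by
  simp [ev]

/-- The Coxeter relations of type `A₃` give an injective homomorphism from `S₄`. -/
theorem exists_hom (ha : a * a = 1) (hb : b * b = 1) (hc : c * c = 1) (hca : c * a = a * c)
    (hbab : b * (a * b) = a * (b * a)) (hcbc : c * (b * c) = b * (c * b)) (hne : a * c ≠ 1) :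
    ∃ φ : Equiv.Perm (Fin 4) →* G, Function.Injective φ ∧ φ (Equiv.swap 0 1) = a ∧
      φ (Equiv.swap 1 2) = b ∧ φ (Equiv.swap 2 3) = c := by
  classical
  choose wd hwd using evP_surj
  set f : Equiv.Perm (Fin 4) → G := fun σ => ev a b c (wd σ) with hf
  have hkey : ∀ w ∈ Wl, f (evP w) = ev a b c w := by
    intro w hw
    have := evP_inj (wd (evP w)) (hwd (evP w)).1 w hw (hwd (evP w)).2
    simp only [hf]
    rw [this]
  have hmul : ∀ σ τ, f (σ * τ) = f σ * f τ := by
    intro σ τ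
    obtain ⟨w, hw, h1, h2⟩ := run_spec a b c ha hb hc hca hbab hcbc (wd τ)
      (letters_lt (wd τ) (hwd τ).1) (wd σ) (hwd σ).1
    rw [(hwd σ).2, (hwd τ).2] at h2
    rw [← h2, hkey w hw, h1]
  set φ : Equiv.Perm (Fin 4) →* G := MonoidHom.mk' f hmul with hφ
  have hφf : ∀ σ, φ σ = f σ := fun σ => rfl
  have hgen : ∀ i < 3, φ (sP i) = gG a b c i := by
    intro i hi
    have hmem : [i] ∈ Wl := by
      interval_cases i <;> decide
    rw [hφf, ← evP_singleton, hkey [i] hmem, ev_singleton]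
  refine ⟨φ, ?_, hgen 0 (by norm_num), hgen 1 (by norm_num), hgen 2 (by norm_num)⟩
  rw [injective_iff_map_eq_one]
  intro σ hσ
  by_contra hσ1
  have hw0 : wd σ ≠ [] := by
    intro h
    apply hσ1
    rw [← (hwd σ).2, h]
    rfl
  obtain ⟨u, -, v, -, huv⟩ := normal_closure (wd σ) (hwd σ).1 hw0
  rw [(hwd σ).2] at huv
  have h1 := congrArg φ huv
  simp only [map_mul, map_inv, hσ, mul_one, mul_inv_cancel] at h1
  have h2 : φ (Equiv.swap 0 1) = a := hgen 0 (by norm_num)
  have h3 : φ (Equiv.swap 2 3) = c := hgen 2 (by norm_num)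
  rw [h2, h3] at h1
  exact hne h1.symm

end Cfsg.Agent.H9S4
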