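import Mathlib
import Cfsg.Prelude
import Cfsg.Agent.Lib.Helper9.ThreeTransp
import Cfsg.Agent.S5344

set_option autoImplicit false

/-!
# Three-transpositions: basic facts, perp sets and the `S_4` configuration
-/

namespace Cfsg.Agent.H9TT

open Cfsg Cfsg.Agent.Lib.Helper9.ThreeTransp

variable {G : Type*} [Group G]

/-- the members of `D` other than `d` commuting with `d` -/
def Dp (D : Set G) (d : G) : Set G := {y | y ∈ D ∧ y ≠ d ∧ Commute d y}

/-- a set of 3-transpositions closed under conjugation -/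
structure TT (D : Set G) : Prop where
  hset : IsThreeTranspositionSet D
  hconj : ∀ g : G, ∀ d ∈ D, g * d * g⁻¹ ∈ D

namespace TT

variable {D : Set G} (h : TT D)
include h

theorem sq {a : G} (ha : a ∈ D) : a * a = 1 := sq_one h.hset ha

theorem inv {a : G} (ha : a ∈ D) : a⁻¹ = a := inv_eq_of_mul_eq_one_right (h.sq ha)

theorem braid {a b : G} (ha : a ∈ D) (hb : b ∈ D) (hn : ¬ Commute a b) : a * b * a = b * a * b := by
  rcases commute_or_braid h.hset ha hb with h1 | h1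
  · exact absurd h1 hn
  · exact h1

theorem third_mem {a b : G} (ha : a ∈ D) (hb : b ∈ D) : a * b * a ∈ D := by
  have := h.hconj a b hb
  rwa [h.inv ha] at this

theorem cube {a b : G} (ha : a ∈ D) (hb : b ∈ D) (hn : ¬ Commute a b) : (a * b) ^ 3 = 1 := by
  rcases h.hset.2 a ha b hb with h1 | h1
  · exact absurd ((commute_iff_sq (h.sq ha) (h.sq hb)).mpr h1) hn
  · exact h1

/-- a product of two members has order dividing three unless they commute and differ -/
theorem cube' {a b : G} (ha : a ∈ D) (hb : b ∈ D) (hn : Commute a b → a = b) : (a * b) ^ 3 = 1 := by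
  by_cases hc : Commute a b
  · rw [← hn hc, h.sq ha, one_pow]
  · exact h.cube ha hb hc

omit h in
theorem commute_conj_iff (g x e : G) : Commute (g * x * g⁻¹) e ↔ Commute x (g⁻¹ * e * g) := by
  constructor
  · intro h1
    show x * (g⁻¹ * e * g) = (g⁻¹ * e * g) * x
    calc x * (g⁻¹ * e * g) = g⁻¹ * ((g * x * g⁻¹) * e) * g := by group
      _ = g⁻¹ * (e * (g * x * g⁻¹)) * g := by rw [h1.eq]
      _ = (g⁻¹ * e * g) * x := by group
  · intro h1
    show (g * x * g⁻¹) * e = e * (g * x * g⁻¹)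
    calc (g * x * g⁻¹) * e = g * (x * (g⁻¹ * e * g)) * g⁻¹ := by group
      _ = g * ((g⁻¹ * e * g) * x) * g⁻¹ := by rw [h1.eq]
      _ = e * (g * x * g⁻¹) := by group

theorem mem_Dp_conj (g d y : G) : y ∈ Dp D (g * d * g⁻¹) ↔ g⁻¹ * y * g ∈ Dp D d := by
  unfold Dp
  simp only [Set.mem_setOf_eq]
  constructor
  · rintro ⟨h1, h2, h3⟩
    refine ⟨?_, ?_, ?_⟩
    · have := h.hconj g⁻¹ y h1
      rwa [inv_inv] at this
    · intro e
      apply h2
      rw [← e]; group
    · exact (commute_conj_iff g d y).mp h3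
  · rintro ⟨h1, h2, h3⟩
    refine ⟨?_, ?_, ?_⟩
    · have := h.hconj g _ h1
      have e : g * (g⁻¹ * y * g) * g⁻¹ = y := by group
      rwa [e] at this
    · intro e
      apply h2
      rw [e]; group
    · exact (commute_conj_iff g d y).mpr h3

/-- conjugation transports perp sets -/
theorem Dp_conj_eq {g d e : G} (hde : Dp D d = Dp D e) : Dp D (g * d * g⁻¹) = Dp D (g * e * g⁻¹) := by
  ext y
  rw [h.mem_Dp_conj, h.mem_Dp_conj, hde]

end TT

/-! ### the `S_4` configuration -/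

theorem s4_id1 : Commute (Equiv.swap (1 : Fin 4) 2)
    ((Equiv.swap 0 1 * Equiv.swap 2 3) * Equiv.swap 1 2 * (Equiv.swap 0 1 * Equiv.swap 2 3)⁻¹) := by
  show _ * _ = _ * _
  decide

theorem s4_id2 : (Equiv.swap (0 : Fin 4) 1 * Equiv.swap 2 3) * Equiv.swap 1 2 *
    (Equiv.swap 0 1 * Equiv.swap 2 3)⁻¹ ≠ Equiv.swap (1 : Fin 4) 2 := by
  decide

theorem s4_id3 : Equiv.swap (0 : Fin 4) 1 * (Equiv.swap 1 2 * ((Equiv.swap 0 1 * Equiv.swap 2 3) *
    Equiv.swap 1 2 * (Equiv.swap 0 1 * Equiv.swap 2 3)⁻¹)) * (Equiv.swap 0 1)⁻¹ =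
    (Equiv.swap 0 1 * Equiv.swap 2 3) * (Equiv.swap 1 2 * ((Equiv.swap 0 1 * Equiv.swap 2 3) *
    Equiv.swap 1 2 * (Equiv.swap 0 1 * Equiv.swap 2 3)⁻¹)) := by
  decide

theorem s4_id4 : (Equiv.swap (0 : Fin 4) 1 * Equiv.swap 2 3) * (Equiv.swap 1 2 *
    ((Equiv.swap 0 1 * Equiv.swap 2 3) * Equiv.swap 1 2 * (Equiv.swap 0 1 * Equiv.swap 2 3)⁻¹)) =
    (Equiv.swap 1 2 * ((Equiv.swap 0 1 * Equiv.swap 2 3) *
    Equiv.swap 1 2 * (Equiv.swap 0 1 * Equiv.swap 2 3)⁻¹)) * (Equiv.swap 0 1 * Equiv.swap 2 3) := by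
  decide

/-- consequences of the `S_4` configuration `a - b - c` (with `a`, `c` commuting) -/
theorem s4_facts {D : Set G} (h : TT D) {a b c : G} (ha : a ∈ D) (hb : b ∈ D) (hc : c ∈ D)
    (hac : a ≠ c) (hac' : Commute a c) (hab : ¬ Commute a b) (hbc : ¬ Commute b c) :
    Commute b ((a * c) * b * (a * c)⁻¹) ∧ (a * c) * b * (a * c)⁻¹ ≠ b ∧
    a * (b * ((a * c) * b * (a * c)⁻¹)) * a⁻¹ = (a * c) * (b * ((a * c) * b * (a * c)⁻¹)) ∧
    (a * c) * (b * ((a * c) * b * (a * c)⁻¹)) = (b * ((a * c) * b * (a * c)⁻¹)) * (a * c) := by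
  obtain ⟨φ, hinj, rfl, rfl, rfl⟩ := Cfsg.Agent.S5344.result h.hset ha hb hc hac hac' hab hbc
  refine ⟨?_, ?_, ?_, ?_⟩
  · have := s4_id1.map φ
    simpa only [map_mul, map_inv] using this
  · intro e
    apply s4_id2
    apply hinj
    simpa only [map_mul, map_inv] using e
  · have := congrArg φ s4_id3
    simpa only [map_mul, map_inv] using this
  · have := congrArg φ s4_id4
    simpa only [map_mul, map_inv] using this

end Cfsg.Agent.H9TT
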