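import Mathlib
import Cfsg.Prelude
import Cfsg.Agent.Lib.Helper9.TT9a

set_option autoImplicit false

/-!
# Three-transpositions: the algebraic core of the key lemma on `W`-classes
-/

namespace Cfsg.Agent.H9TT

open Cfsg

variable {G : Type*} [Group G]

/-- the third point of the line through `e` and `x⁻¹ e x` is `x e x⁻¹` -/
theorem alg_line {d w e : G} (hdd : d * d = 1) (hww : w * w = 1) (hee : e * e = 1)
    (hdw : d * w * d = w * d * w)
    (hde : d * e * d = e * d * e) (hwe : w * e * w = e * w * e)
    (hue : (d * w * d) * e * (d * w * d) = e * (d * w * d) * e) :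
    e * (w * d * e * (d * w)) * e = d * w * e * (w * d) := by
  have h1 : w * (d * w * d) = d * w := by
    calc w * (d * w * d) = w * (w * d * w) := by rw [hdw]
      _ = (w * w) * d * w := by group
      _ = d * w := by rw [hww, one_mul]
  have h2 : (d * w * d) * w = w * d := by
    calc (d * w * d) * w = (w * d * w) * w := by rw [hdw]
      _ = w * d * (w * w) := by group
      _ = w * d := by rw [hww, mul_one]
  calc e * (w * d * e * (d * w)) * e = e * w * (d * e * d) * w * e := by group
    _ = e * w * (e * d * e) * w * e := by rw [hde]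
    _ = (e * w * e) * d * (e * w * e) := by group
    _ = (w * e * w) * d * (w * e * w) := by rw [hwe]
    _ = w * e * (w * d * w) * e * w := by group
    _ = w * e * (d * w * d) * e * w := by rw [hdw]
    _ = w * (e * (d * w * d) * e) * w := by group
    _ = w * ((d * w * d) * e * (d * w * d)) * w := by rw [hue]
    _ = (w * (d * w * d)) * e * ((d * w * d) * w) := by group
    _ = d * w * e * (w * d) := by rw [h1, h2]

theorem alg_key {d w e f : G} (hdd : d * d = 1) (hww : w * w = 1) (hee : e * e = 1) (hff : f * f = 1)
    (hdw : d * w * d = w * d * w) (hef : e * f = f * e)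
    (hde : d * e * d = e * d * e) (hwe : w * e * w = e * w * e)
    (hue : (d * w * d) * e * (d * w * d) = e * (d * w * d) * e)
    (gd gw : G) (hgd : gd = (e * f) * d * (e * f)) (hgw : gw = (e * f) * w * (e * f))
    (c1 : d * gd = gd * d) (c2 : w * gd = gd * w) (c3 : d * gw = gw * d) (c4 : w * gw = gw * w)
    (i3d : e * (d * gd) * e = (e * f) * (d * gd)) (i4d : (e * f) * (d * gd) = (d * gd) * (e * f))
    (i3w : e * (w * gw) * e = (e * f) * (w * gw)) :
    (d * w * e * (w * d)) * f = f * (d * w * e * (w * d)) := by
  have hss : (e * f) * (e * f) = 1 := by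
    calc (e * f) * (e * f) = e * (f * e) * f := by group
      _ = e * (e * f) * f := by rw [hef]
      _ = (e * e) * (f * f) := by group
      _ = 1 := by rw [hee, hff, one_mul]
  have hses : (e * f) * e * (e * f) = e := by
    calc (e * f) * e * (e * f) = e * f * (e * e) * f := by group
      _ = e * (f * f) := by rw [hee]; group
      _ = e := by rw [hff, mul_one]
  have hx' : (e * f) * (d * w) * (e * f) = gd * gw := by
    rw [hgd, hgw]
    calc (e * f) * (d * w) * (e * f) = (e * f) * d * 1 * w * (e * f) := by group
      _ = (e * f) * d * ((e * f) * (e * f)) * w * (e * f) := by rw [hss]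
      _ = (e * f) * d * (e * f) * ((e * f) * w * (e * f)) := by group
  have hx'i : (e * f) * (w * d) * (e * f) = gw * gd := by
    rw [hgd, hgw]
    calc (e * f) * (w * d) * (e * f) = (e * f) * w * 1 * d * (e * f) := by group
      _ = (e * f) * w * ((e * f) * (e * f)) * d * (e * f) := by rw [hss]
      _ = (e * f) * w * (e * f) * ((e * f) * d * (e * f)) := by group
  have hxxi : (d * w) * (w * d) = 1 := by
    calc (d * w) * (w * d) = d * (w * w) * d := by group
      _ = 1 := by rw [hww, mul_one, hdd]
  have hxix : (w * d) * (d * w) = 1 := by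
    calc (w * d) * (d * w) = w * (d * d) * w := by group
      _ = 1 := by rw [hdd, mul_one, hww]
  have hx'x'i : (gw * gd) * (gd * gw) = 1 := by
    rw [← hx', ← hx'i]
    calc (e * f) * (w * d) * (e * f) * ((e * f) * (d * w) * (e * f))
        = (e * f) * (w * d) * ((e * f) * (e * f)) * (d * w) * (e * f) := by group
      _ = (e * f) * ((w * d) * (d * w)) * (e * f) := by rw [hss]; group
      _ = 1 := by rw [hxix, mul_one, hss]
  have ht : (d * w) * (gd * gw) = (d * gd) * (w * gw) := by
    calc (d * w) * (gd * gw) = d * (w * gd) * gw := by group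
      _ = d * (gd * w) * gw := by rw [c2]
      _ = (d * gd) * (w * gw) := by group
  have hcomm : (d * w) * (gd * gw) = (gd * gw) * (d * w) := by
    calc (d * w) * (gd * gw) = d * (w * gd) * gw := by group
      _ = d * (gd * w) * gw := by rw [c2]
      _ = (d * gd) * (w * gw) := by group
      _ = (gd * d) * (gw * w) := by rw [c1, c4]
      _ = gd * (d * gw) * w := by group
      _ = gd * (gw * d) * w := by rw [c3]
      _ = (gd * gw) * (d * w) := by group
  have het : e * ((d * gd) * (w * gw)) * e = (d * gd) * (w * gw) := by
    calc e * ((d * gd) * (w * gw)) * e = e * (d * gd) * 1 * (w * gw) * e := by group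
      _ = e * (d * gd) * (e * e) * (w * gw) * e := by rw [hee]
      _ = (e * (d * gd) * e) * (e * (w * gw) * e) := by group
      _ = ((e * f) * (d * gd)) * ((e * f) * (w * gw)) := by rw [i3d, i3w]
      _ = ((d * gd) * (e * f)) * ((e * f) * (w * gw)) := by rw [i4d]
      _ = (d * gd) * ((e * f) * (e * f)) * (w * gw) := by group
      _ = (d * gd) * (w * gw) := by rw [hss, mul_one]
  -- `p = x'⁻¹ e x'`
  have hp : d * w * e * (w * d) = (gw * gd) * e * (gd * gw) := by
    have h1 : e * ((gd * gw) * (d * w)) * e = (gd * gw) * (d * w) := by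
      rw [← hcomm, ht]; exact het
    have h2 : (gd * gw) * (d * w) * e = e * ((gd * gw) * (d * w)) := by
      calc (gd * gw) * (d * w) * e = (e * e) * ((gd * gw) * (d * w) * e) := by rw [hee, one_mul]
        _ = e * (e * ((gd * gw) * (d * w)) * e) := by group
        _ = e * ((gd * gw) * (d * w)) := by rw [h1]
    calc d * w * e * (w * d) = ((gw * gd) * (gd * gw)) * (d * w * e * (w * d)) := by
          rw [hx'x'i, one_mul]
      _ = (gw * gd) * ((gd * gw) * (d * w) * e) * (w * d) := by group
      _ = (gw * gd) * (e * ((gd * gw) * (d * w))) * (w * d) := by rw [h2]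
      _ = (gw * gd) * e * (gd * gw) * ((d * w) * (w * d)) := by group
      _ = (gw * gd) * e * (gd * gw) := by rw [hxxi, mul_one]
  -- `p = s q s`
  have hp2 : d * w * e * (w * d) = (e * f) * (w * d * e * (d * w)) * (e * f) := by
    rw [hp, ← hx', ← hx'i]
    calc (e * f) * (w * d) * (e * f) * e * ((e * f) * (d * w) * (e * f))
        = (e * f) * (w * d) * ((e * f) * e * (e * f)) * (d * w) * (e * f) := by group
      _ = (e * f) * (w * d) * e * (d * w) * (e * f) := by rw [hses]
      _ = (e * f) * (w * d * e * (d * w)) * (e * f) := by group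
  have hline := alg_line hdd hww hee hdw hde hwe hue
  have hp3 : d * w * e * (w * d) = f * (d * w * e * (w * d)) * f := by
    calc d * w * e * (w * d) = (e * f) * (w * d * e * (d * w)) * (e * f) := hp2
      _ = (f * e) * (w * d * e * (d * w)) * (e * f) := by rw [hef]
      _ = f * (e * (w * d * e * (d * w)) * e) * f := by group
      _ = f * (d * w * e * (w * d)) * f := by rw [hline]
  calc (d * w * e * (w * d)) * f = (f * (d * w * e * (w * d)) * f) * f := by rw [← hp3]
    _ = f * (d * w * e * (w * d)) * (f * f) := by group
    _ = f * (d * w * e * (w * d)) := by rw [hff, mul_one]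

end Cfsg.Agent.H9TT
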