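import Mathlib
import Cfsg.Prelude
import Cfsg.Agent.Lib.Helper9.TT9b

set_option autoImplicit false

/-!
# Three-transpositions: `W`-pairs and the key lemma
-/

namespace Cfsg.Agent.H9TT

open Cfsg

variable {G : Type*} [Group G] {D : Set G}

/-- two different members of `D` with the same perp set -/
structure WPair (D : Set G) (d w : G) : Prop where
  hd : d ∈ D
  hw : w ∈ D
  hne : w ≠ d
  hDp : Dp D d = Dp D w

namespace WPair

variable {d w : G} (P : WPair D d w)
include P

theorem symm : WPair D w d := ⟨P.hw, P.hd, P.hne.symm, P.hDp.symm⟩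

theorem not_commute : ¬ Commute d w := by
  intro hc
  have h1 : w ∈ Dp D d := ⟨P.hw, P.hne, hc⟩
  rw [P.hDp] at h1
  exact h1.2.1 rfl

theorem comm_of_mem {y : G} (hy : y ∈ Dp D d) : Commute d y ∧ Commute w y := by
  refine ⟨hy.2.2, ?_⟩
  rw [P.hDp] at hy
  exact hy.2.2

variable (h : TT D)
include h

theorem braid : d * w * d = w * d * w := h.braid P.hd P.hw P.not_commute

theorem inv_x : (d * w)⁻¹ = w * d := by
  rw [mul_inv_rev, h.inv P.hd, h.inv P.hw]

theorem x_conj_d : (d * w) * d * (d * w)⁻¹ = w := by
  rw [P.inv_x h]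
  calc (d * w) * d * (w * d) = d * (w * d * w) * d := by group
    _ = d * (d * w * d) * d := by rw [P.braid h]
    _ = (d * d) * w * (d * d) := by group
    _ = w := by rw [h.sq P.hd, one_mul, mul_one]

theorem Dp_third : Dp D (d * w * d) = Dp D d := by
  have h1 := h.Dp_conj_eq (g := d) P.hDp.symm
  have e1 : d * d * d⁻¹ = d := by group
  rw [e1, h.inv P.hd] at h1
  exact h1

theorem conj_of_mem {y : G} (hy : y ∈ Dp D d) : (d * w) * y * (d * w)⁻¹ = y := by
  obtain ⟨h1, h2⟩ := P.comm_of_mem hy
  have : Commute (d * w) y := h1.mul_left h2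
  calc (d * w) * y * (d * w)⁻¹ = (y * (d * w)) * (d * w)⁻¹ := by rw [this.eq]
    _ = y := by group

theorem conj_of_mem' {y : G} (hy : y ∈ Dp D d) : (d * w)⁻¹ * y * (d * w) = y := by
  have h1 := P.conj_of_mem h hy
  calc (d * w)⁻¹ * y * (d * w) = (d * w)⁻¹ * ((d * w) * y * (d * w)⁻¹) * (d * w) := by rw [h1]
    _ = y := by group

/-- a member of `D` commuting with one end of a `W`-pair is that end or commutes with both -/
theorem eq_or_mem_of_commute {e : G} (he : e ∈ D) (hc : Commute d e) : e = d ∨ e ∈ Dp D d := by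
  by_cases hed : e = d
  · left; exact hed
  · right; exact ⟨he, hed, hc⟩

/-- the key lemma: conjugation by `d * w` preserves perp sets -/
theorem key {e f : G} (he : e ∈ D) (hf : f ∈ Dp D e) : f ∈ Dp D ((d * w) * e * (d * w)⁻¹) := by
  have hfD := hf.1
  have hfe := hf.2.1
  have hcef := hf.2.2
  by_cases hcde : Commute d e
  · rcases P.eq_or_mem_of_commute h he hcde with hed | hed
    · rw [hed, P.x_conj_d h, ← P.hDp, ← hed]; exact hf
    · rw [P.conj_of_mem h hed]; exact hf
  by_cases hDe : Dp D e = Dp D d
  · have h1 := h.Dp_conj_eq (g := d * w) hDe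
    rw [h1, P.x_conj_d h, ← P.hDp, ← hDe]
    exact hf
  -- now `e` is off the line and does not commute with it
  have hcwe : ¬ Commute w e := by
    intro hc
    rcases P.symm.eq_or_mem_of_commute h he hc with hew | hew
    · apply hDe; rw [hew, P.hDp]
    · rw [← P.hDp] at hew
      exact hcde hew.2.2
  have hu : d * w * d ∈ D := h.third_mem P.hd P.hw
  have hcue : ¬ Commute (d * w * d) e := by
    intro hc
    by_cases heu : e = d * w * d
    · apply hDe; rw [heu, P.Dp_third h]
    · have : e ∈ Dp D (d * w * d) := ⟨he, heu, hc⟩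
      rw [P.Dp_third h] at this
      exact hcde this.2.2
  by_cases hcdf : Commute d f
  · have hfd : f ≠ d := by
      intro e1
      apply hcde
      rw [← e1]; exact hcef.symm
    have hfm : f ∈ Dp D d := ⟨hfD, hfd, hcdf⟩
    rw [h.mem_Dp_conj, P.conj_of_mem' h hfm]
    exact hf
  -- the main case
  have hDf : Dp D f ≠ Dp D d := by
    intro e1
    have : e ∈ Dp D f := ⟨he, fun e2 => hfe e2.symm, hcef.symm⟩
    rw [e1] at this
    exact hcde this.2.2
  have hcwf : ¬ Commute w f := by
    intro hc
    rcases P.symm.eq_or_mem_of_commute h hfD hc with hfw | hfw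
    · apply hDf; rw [hfw, P.hDp]
    · rw [← P.hDp] at hfw
      exact hcdf hfw.2.2
  have hdd := h.sq P.hd
  have hww := h.sq P.hw
  have hee := h.sq he
  have hff := h.sq hfD
  have hefi : (e * f)⁻¹ = e * f := by
    rw [mul_inv_rev, h.inv he, h.inv hfD, hcef.eq]
  -- the two `S_4` configurations
  obtain ⟨a1, a2, a3, a4⟩ := s4_facts h he P.hd hfD (fun e1 => hfe e1.symm) hcef
    (fun hc => hcde hc.symm) hcdf
  obtain ⟨b1, b2, b3, b4⟩ := s4_facts h he P.hw hfD (fun e1 => hfe e1.symm) hcef
    (fun hc => hcwe hc.symm) hcwf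
  rw [hefi] at a1 a2 a3 a4 b1 b2 b3 b4
  rw [h.inv he] at a3 b3
  have hgdD : (e * f) * d * (e * f) ∈ D := by
    have := h.hconj (e * f) d P.hd
    rwa [hefi] at this
  have hgwD : (e * f) * w * (e * f) ∈ D := by
    have := h.hconj (e * f) w P.hw
    rwa [hefi] at this
  have hgd_mem : (e * f) * d * (e * f) ∈ Dp D d := ⟨hgdD, a2, a1⟩
  have hgw_mem : (e * f) * w * (e * f) ∈ Dp D w := ⟨hgwD, b2, b1⟩
  have c1 : d * ((e * f) * d * (e * f)) = ((e * f) * d * (e * f)) * d := a1.eq
  have c2 : w * ((e * f) * d * (e * f)) = ((e * f) * d * (e * f)) * w :=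
    (P.comm_of_mem hgd_mem).2.eq
  have c4 : w * ((e * f) * w * (e * f)) = ((e * f) * w * (e * f)) * w := b1.eq
  have c3 : d * ((e * f) * w * (e * f)) = ((e * f) * w * (e * f)) * d :=
    (P.symm.comm_of_mem hgw_mem).2.eq
  have hmain := alg_key hdd hww hee hff (P.braid h) hcef.eq (h.braid P.hd he hcde)
    (h.braid P.hw he hcwe) (h.braid hu he hcue) _ _ rfl rfl c1 c2 c3 c4 a3 a4 b3
  -- conclude
  rw [P.inv_x h]
  have hpD : d * w * e * (w * d) ∈ D := by
    have := h.hconj (d * w) e he
    rwa [P.inv_x h] at this
  refine ⟨hfD, ?_, ?_⟩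
  · intro e1
    -- then `e` commutes with `p`, forcing `d = w`
    have hline := alg_line hdd hww hee (P.braid h) (h.braid P.hd he hcde)
      (h.braid P.hw he hcwe) (h.braid hu he hcue)
    have hcp : e * (d * w * e * (w * d)) = (d * w * e * (w * d)) * e := by
      rw [← e1]; exact hcef.eq
    -- `q = p`
    have hq : w * d * e * (d * w) = d * w * e * (w * d) := by
      have h2 : e * (w * d * e * (d * w)) * e = d * w * e * (w * d) := hline
      calc w * d * e * (d * w) = (e * e) * (w * d * e * (d * w)) * (e * e) := by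
            rw [hee, one_mul, mul_one]
        _ = e * (e * (w * d * e * (d * w)) * e) * e := by group
        _ = e * (d * w * e * (w * d)) * e := by rw [h2]
        _ = (d * w * e * (w * d)) * e * e := by rw [hcp]
        _ = (d * w * e * (w * d)) * (e * e) := by group
        _ = d * w * e * (w * d) := by rw [hee, mul_one]
    -- hence `x` commutes with `e`
    have hx3 : (d * w) * (d * w) = w * d := by
      calc (d * w) * (d * w) = (d * w * d) * w := by group
        _ = (w * d * w) * w := by rw [P.braid h]
        _ = w * d * (w * w) := by group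
        _ = w * d := by rw [hww, mul_one]
    have hxe : (d * w) * e = e * (d * w) := by
      have h3 : (w * d) * (d * w) = 1 := by
        calc (w * d) * (d * w) = w * (d * d) * w := by group
          _ = 1 := by rw [hdd, mul_one, hww]
      have h4 : (d * w) * (w * d) = 1 := by
        calc (d * w) * (w * d) = d * (w * w) * d := by group
          _ = 1 := by rw [hww, mul_one, hdd]
      -- from `x⁻¹ e x = x e x⁻¹` get `x² e = e x²`, and `x² = x⁻¹`
      have h5 : e * ((d * w) * (d * w)) = ((d * w) * (d * w)) * e := by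
        calc e * ((d * w) * (d * w)) = ((d * w) * (w * d)) * e * ((d * w) * (d * w)) := by
              rw [h4, one_mul]
          _ = (d * w) * (w * d * e * (d * w)) * (d * w) := by group
          _ = (d * w) * (d * w * e * (w * d)) * (d * w) := by rw [hq]
          _ = (d * w) * (d * w) * e * ((w * d) * (d * w)) := by group
          _ = (d * w) * (d * w) * e := by rw [h3, mul_one]
      rw [hx3] at h5
      -- `e (w d) = (w d) e`
      calc (d * w) * e = (d * w) * (e * (w * d)) * (d * w) := by
            rw [mul_assoc (d * w) (e * (w * d)), mul_assoc e, h3, mul_one]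
        _ = (d * w) * ((w * d) * e) * (d * w) := by rw [h5]
        _ = ((d * w) * (w * d)) * e * (d * w) := by group
        _ = e * (d * w) := by rw [h4, one_mul]
    -- then `w e w = d e d`, so `d = w`
    have h6 : w * e * w = d * e * d := by
      calc w * e * w = (d * d) * w * e * w := by rw [hdd, one_mul]
        _ = d * ((d * w) * e) * w := by group
        _ = d * (e * (d * w)) * w := by rw [hxe]
        _ = d * e * d * (w * w) := by group
        _ = d * e * d := by rw [hww, mul_one]
    have h7 : e * w * e = e * d * e := by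
      rw [← h.braid P.hw he hcwe, ← h.braid P.hd he hcde]; exact h6
    apply P.hne
    calc w = (e * e) * w * (e * e) := by rw [hee, one_mul, mul_one]
      _ = e * (e * w * e) * e := by group
      _ = e * (e * d * e) * e := by rw [h7]
      _ = (e * e) * d * (e * e) := by group
      _ = d := by rw [hee, one_mul, mul_one]
  · exact hmain

end WPair

end Cfsg.Agent.H9TT
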