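import Mathlib
import Cfsg.Prelude
import Cfsg.Agent.Lib.Helper9.TT9c
import Cfsg.Agent.Lib.Helper9.PCore
import Cfsg.Agent.Lib.Lead.InvProdP
import Cfsg.Agent.Lib.Lead.OddStable2

set_option autoImplicit false

/-!
# Three-transpositions: `W`-classes are orbits of `O_3`
-/

namespace Cfsg.Agent.H9TT

open Cfsg Cfsg.Agent.Lib.Helper9

variable {G : Type*} [Group G] {D : Set G}

/-- the elements whose conjugation preserves all perp sets -/
def Nsub (h : TT D) : Subgroup G where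
  carrier := {g | ∀ e ∈ D, Dp D (g * e * g⁻¹) = Dp D e}
  one_mem' := by
    intro e _
    have : (1 : G) * e * 1⁻¹ = e := by group
    rw [this]
  mul_mem' := by
    intro a b ha hb e he
    have e1 : a * b * e * (a * b)⁻¹ = a * (b * e * b⁻¹) * a⁻¹ := by group
    rw [e1, ha _ (h.hconj b e he), hb e he]
  inv_mem' := by
    intro a ha e he
    have h1 := ha (a⁻¹ * e * a⁻¹⁻¹) (h.hconj a⁻¹ e he)
    have e1 : a * (a⁻¹ * e * a⁻¹⁻¹) * a⁻¹ = e := by group
    rw [e1] at h1
    exact h1.symm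

theorem mem_Nsub (h : TT D) (g : G) : g ∈ Nsub h ↔ ∀ e ∈ D, Dp D (g * e * g⁻¹) = Dp D e := Iff.rfl

instance Nsub_normal (h : TT D) : (Nsub h).Normal := by
  constructor
  intro n hn g e he
  rw [mem_Nsub] at hn
  have h1 := hn (g⁻¹ * e * g) (by have := h.hconj g⁻¹ e he; rwa [inv_inv] at this)
  have h2 := h.Dp_conj_eq (g := g) h1
  have e1 : g * (n * (g⁻¹ * e * g) * n⁻¹) * g⁻¹ = g * n * g⁻¹ * e * (g * n * g⁻¹)⁻¹ := by group
  have e2 : g * (g⁻¹ * e * g) * g⁻¹ = e := by group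
  rw [e1, e2] at h2
  exact h2

theorem WPair.mem_Nsub (h : TT D) {d w : G} (P : WPair D d w) : d * w ∈ Nsub h := by
  intro e he
  apply Set.Subset.antisymm
  · intro f hf
    have hpD : (d * w) * e * (d * w)⁻¹ ∈ D := h.hconj _ e he
    have h1 := P.symm.key h hpD hf
    have e1 : w * d * ((d * w) * e * (d * w)⁻¹) * (w * d)⁻¹ = e := by
      rw [P.inv_x h, P.symm.inv_x h]
      calc w * d * (d * w * e * (w * d)) * (d * w)
          = w * (d * d) * w * e * w * (d * d) * w := by group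
        _ = (w * w) * e * (w * w) := by rw [h.sq P.hd]; group
        _ = e := by rw [h.sq P.hw, one_mul, mul_one]
    rwa [e1] at h1
  · intro f hf
    exact P.key h he hf

/-- the stabiliser of the perp set of `d` -/
def Wstab (h : TT D) (d : G) : Subgroup G where
  carrier := {g | Dp D (g * d * g⁻¹) = Dp D d}
  one_mem' := by
    show Dp D (1 * d * 1⁻¹) = Dp D d
    have : (1 : G) * d * 1⁻¹ = d := by group
    rw [this]
  mul_mem' := by
    intro a b ha hb
    show Dp D (a * b * d * (a * b)⁻¹) = Dp D d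
    have e1 : a * b * d * (a * b)⁻¹ = a * (b * d * b⁻¹) * a⁻¹ := by group
    rw [e1, h.Dp_conj_eq (g := a) hb]
    exact ha
  inv_mem' := by
    intro a ha
    show Dp D (a⁻¹ * d * a⁻¹⁻¹) = Dp D d
    have h1 := h.Dp_conj_eq (g := a⁻¹) ha
    have e1 : a⁻¹ * (a * d * a⁻¹) * a⁻¹⁻¹ = d := by group
    rw [e1] at h1
    exact h1.symm

theorem mem_Wstab (h : TT D) (d g : G) : g ∈ Wstab h d ↔ Dp D (g * d * g⁻¹) = Dp D d := Iff.rfl

theorem Nsub_le_Wstab (h : TT D) {d : G} (hd : d ∈ D) : Nsub h ≤ Wstab h d :=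
  fun _ hg => hg d hd

theorem self_mem_Wstab (h : TT D) (d : G) : d ∈ Wstab h d := by
  show Dp D (d * d * d⁻¹) = Dp D d
  have : d * d * d⁻¹ = d := by group
  rw [this]

/-- the intersection of `O_p` of an overgroup with a normal subgroup lies in `O_p(G)` -/
theorem inf_normal_le_pCore [Finite G] {p : ℕ} [Fact p.Prime] (N : Subgroup G) [N.Normal]
    (Y : Subgroup G) (hNY : N ≤ Y) : (pCore p ↥Y).map Y.subtype ⊓ N ≤ pCore p G := by
  intro q hq
  obtain ⟨⟨y, hy, rfl⟩, hqN⟩ := hq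
  have hnorm : ((pCore p ↥Y).map Y.subtype ⊓ N).subgroupOf N ≤ pCore p ↥N := by
    apply le_pCore
    · constructor
      intro n hn g
      rw [Subgroup.mem_subgroupOf] at hn ⊢
      obtain ⟨⟨z, hz, hz2⟩, -⟩ := hn
      refine ⟨?_, ?_⟩
      · refine ⟨⟨g, hNY g.2⟩ * z * ⟨g, hNY g.2⟩⁻¹, (pCore_normal' p).conj_mem z hz _, ?_⟩
        simp only [Subgroup.coe_mul, Subgroup.coe_inv] at hz2 ⊢
        rw [map_mul, map_mul, map_inv, hz2]
        rfl
      · exact (g * n * g⁻¹).2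
    · have h1 : IsPGroup p ((pCore p ↥Y).map Y.subtype ⊓ N : Subgroup G) :=
        ((pCore_isPGroup' p).map Y.subtype).to_le inf_le_left
      exact h1.comap_of_injective N.subtype N.subtype_injective
  have h2 : (⟨(y : G), hqN⟩ : ↥N) ∈ pCore p ↥N := by
    apply hnorm
    rw [Subgroup.mem_subgroupOf]
    exact ⟨⟨y, hy, rfl⟩, hqN⟩
  exact Cfsg.Agent.Lib.Lead.OddStable.pCore_map_subtype_le_of_normal N ⟨_, h2, rfl⟩

/-- for a `W`-pair the product lies in `O_3(G)` -/
theorem WPair.mem_pCore [Finite G] (h : TT D) {d w : G} (P : WPair D d w) : d * w ∈ pCore 3 G := by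
  haveI : Fact (Nat.Prime 3) := ⟨Nat.prime_three⟩
  have hx : d * w ∈ Nsub h := P.mem_Nsub h
  apply inf_normal_le_pCore (Nsub h) (Wstab h d) (Nsub_le_Wstab h P.hd)
  refine ⟨?_, hx⟩
  -- work inside the stabiliser
  obtain ⟨dY, hdY⟩ : ∃ dY : ↥(Wstab h d), (dY : G) = d := ⟨⟨d, self_mem_Wstab h d⟩, rfl⟩
  have hord : orderOf dY = 2 := by
    rw [← Subgroup.orderOf_coe, hdY]
    exact h.hset.1 d P.hd
  have hconjD : ∀ a ∈ conjugatesOf dY, (a : G) ∈ D ∧ Dp D (a : G) = Dp D d := by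
    intro a ha
    change IsConj dY a at ha
    rw [isConj_iff] at ha
    obtain ⟨c, rfl⟩ := ha
    have e1 : ((c * dY * c⁻¹ : ↥(Wstab h d)) : G) = (c : G) * d * (c : G)⁻¹ := by
      simp [hdY]
    rw [e1]
    exact ⟨h.hconj _ d P.hd, c.2⟩
  have key := Cfsg.Agent.Lib.Lead.InvProdP.main (G := ↥(Wstab h d)) (p := 3) Nat.prime_three
    (by norm_num) dY hord (by
      intro a ha b hb
      obtain ⟨haD, haP⟩ := hconjD a ha
      obtain ⟨hbD, hbP⟩ := hconjD b hb
      have h3 : ((a : G) * (b : G)) ^ 3 = 1 := by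
        apply h.cube' haD hbD
        intro hc
        by_contra hne
        have Q : WPair D (a : G) (b : G) := ⟨haD, hbD, fun e => hne e.symm, haP.trans hbP.symm⟩
        exact Q.not_commute hc
      have h3' : (a * b) ^ 3 = 1 := by
        apply Subtype.ext
        simpa using h3
      have hdvd := orderOf_dvd_of_pow_eq_one h3'
      rcases (Nat.dvd_prime Nat.prime_three).mp hdvd with h1 | h1
      · exact ⟨0, by rw [h1, pow_zero]⟩
      · exact ⟨1, by rw [h1, pow_one]⟩)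
  -- `w` is a conjugate of `d` inside the stabiliser
  have hxW : d * w ∈ Wstab h d := Nsub_le_Wstab h P.hd hx
  have hw : (⟨d * w, hxW⟩ * dY * ⟨d * w, hxW⟩⁻¹ : ↥(Wstab h d)) ∈ conjugatesOf dY := by
    change IsConj dY _
    rw [isConj_iff]
    exact ⟨_, rfl⟩
  have h1 := key dY mem_conjugatesOf_self _ hw
  refine ⟨_, h1, ?_⟩
  simp only [Subgroup.subtype_apply, Subgroup.coe_mul, Subgroup.coe_inv, hdY]
  rw [P.x_conj_d h]

end Cfsg.Agent.H9TT
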