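import Mathlib
import Cfsg.Prelude
import Cfsg.Agent.Lib.Helper9.TT9d

set_option autoImplicit false

/-!
# Three-transpositions: members congruent modulo `O_3` have the same perp set
-/

namespace Cfsg.Agent.H9TT

open Cfsg Cfsg.Agent.Lib.Helper9

variable {G : Type*} [Group G] {D : Set G}

theorem eq_one_of_sq_of_mem_pCore_three [Finite G] {t : G} (ht : t * t = 1) (hm : t ∈ pCore 3 G) :
    t = 1 := by
  haveI : Fact (Nat.Prime 3) := ⟨Nat.prime_three⟩
  obtain ⟨k, hk⟩ := (pCore_isPGroup' (G := G) 3) ⟨t, hm⟩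
  have hk' : t ^ 3 ^ k = 1 := by
    have := congrArg Subtype.val hk
    simpa using this
  have h2 : t ^ 2 = 1 := by rw [pow_two]; exact ht
  have h1 : orderOf t ∣ Nat.gcd 2 (3 ^ k) :=
    Nat.dvd_gcd (orderOf_dvd_of_pow_eq_one h2) (orderOf_dvd_of_pow_eq_one hk')
  have h4 : Nat.gcd 2 (3 ^ k) = 1 := by
    apply Nat.Coprime.pow_right
    norm_num
  rw [h4] at h1
  exact orderOf_eq_one_iff.mp (Nat.dvd_one.mp h1)

theorem conj_of_braid {d w : G} (hdd : d * d = 1) (hww : w * w = 1) (hbr : d * w * d = w * d * w) :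
    (d * w) * d * (d * w)⁻¹ = w := by
  have hdi : d⁻¹ = d := inv_eq_of_mul_eq_one_right hdd
  have hwi : w⁻¹ = w := inv_eq_of_mul_eq_one_right hww
  rw [mul_inv_rev, hdi, hwi]
  calc (d * w) * d * (w * d) = d * (w * d * w) * d := by group
    _ = d * (d * w * d) * d := by rw [hbr]
    _ = (d * d) * w * (d * d) := by group
    _ = w := by rw [hdd, one_mul, mul_one]

theorem Dp_subset_of_mem_pCore [Finite G] (h : TT D) {a b : G} (ha : a ∈ D) (hb : b ∈ D)
    (hab : a⁻¹ * b ∈ pCore 3 G) : Dp D a ⊆ Dp D b := by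
  haveI hN : (pCore 3 G).Normal := pCore_normal' 3
  rintro y ⟨hy, hya, hc⟩
  have haa := h.sq ha
  have hyy := h.sq hy
  have hπ : (QuotientGroup.mk' (pCore 3 G)) a = (QuotientGroup.mk' (pCore 3 G)) b := by
    rw [QuotientGroup.mk'_apply, QuotientGroup.mk'_apply, QuotientGroup.eq]
    exact hab
  have ht2 : (a * y) * (a * y) = 1 := by
    calc (a * y) * (a * y) = a * (y * a) * y := by group
      _ = a * (a * y) * y := by rw [hc.eq]
      _ = (a * a) * (y * y) := by group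
      _ = 1 := by rw [haa, hyy, one_mul]
  have hne1 : a * y ≠ 1 := by
    intro e
    apply hya
    have : y = a⁻¹ := (inv_eq_of_mul_eq_one_right e).symm
    rw [this, h.inv ha]
  refine ⟨hy, ?_, ?_⟩
  · intro e
    apply hne1
    apply eq_one_of_sq_of_mem_pCore_three ht2
    rw [e, ← h.inv ha]
    exact hab
  · by_contra hnc
    have h3 : (b * y) ^ 3 = 1 := h.cube hb hy hnc
    apply hne1
    apply eq_one_of_sq_of_mem_pCore_three ht2
    rw [← QuotientGroup.eq_one_iff, ← QuotientGroup.mk'_apply]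
    have e2 : (QuotientGroup.mk' (pCore 3 G)) (a * y) ^ 2 = 1 := by
      rw [← map_pow, pow_two, ht2, map_one]
    have e3 : (QuotientGroup.mk' (pCore 3 G)) (a * y) ^ 3 = 1 := by
      rw [map_mul, hπ, ← map_mul, ← map_pow, h3, map_one]
    calc (QuotientGroup.mk' (pCore 3 G)) (a * y)
        = (QuotientGroup.mk' (pCore 3 G)) (a * y) ^ 3 *
          ((QuotientGroup.mk' (pCore 3 G)) (a * y) ^ 2)⁻¹ := by group
      _ = 1 := by rw [e2, e3, inv_one, mul_one]

theorem Dp_eq_of_mem_pCore [Finite G] (h : TT D) {a b : G} (ha : a ∈ D) (hb : b ∈ D)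
    (hab : a⁻¹ * b ∈ pCore 3 G) : Dp D a = Dp D b := by
  apply Set.Subset.antisymm (Dp_subset_of_mem_pCore h ha hb hab)
  apply Dp_subset_of_mem_pCore h hb ha
  have : b⁻¹ * a = (a⁻¹ * b)⁻¹ := by group
  rw [this]
  exact Subgroup.inv_mem _ hab

/-- a class of 3-transpositions is closed under conjugation -/
theorem TT.of_class (hD : IsThreeTranspositionClass D) : TT D := by
  obtain ⟨hset, ⟨d0, hd0, hDconj⟩, -⟩ := hD
  refine ⟨hset, ?_⟩
  intro g e he
  rw [hDconj] at he ⊢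
  change IsConj d0 e at he
  change IsConj d0 (g * e * g⁻¹)
  exact he.trans (isConj_iff.mpr ⟨g, rfl⟩)

/-- the three descriptions of a `W`-class -/
theorem Wclass_eq [Finite G] (h : TT D) {d : G} (hd : d ∈ D) :
    {w : G | w ∈ D ∧ Dp D d = Dp D w} = {w : G | w ∈ D ∧ d⁻¹ * w ∈ pCore 3 G} ∧
    {w : G | w ∈ D ∧ Dp D d = Dp D w} = {w : G | ∃ g ∈ pCore 3 G, w = g * d * g⁻¹} := by
  haveI hN : (pCore 3 G).Normal := pCore_normal' 3
  have hA : ∀ w, (w ∈ D ∧ Dp D d = Dp D w) → (w ∈ D ∧ d⁻¹ * w ∈ pCore 3 G) := by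
    rintro w ⟨hw, hW⟩
    refine ⟨hw, ?_⟩
    by_cases hwd : w = d
    · rw [hwd, inv_mul_cancel]; exact Subgroup.one_mem _
    · rw [h.inv hd]
      exact WPair.mem_pCore h ⟨hd, hw, hwd, hW⟩
  have hB : ∀ w, (w ∈ D ∧ d⁻¹ * w ∈ pCore 3 G) → ∃ g ∈ pCore 3 G, w = g * d * g⁻¹ := by
    rintro w ⟨hw, hm⟩
    by_cases hwd : w = d
    · exact ⟨1, Subgroup.one_mem _, by rw [hwd]; group⟩
    · rw [h.inv hd] at hm
      have hnc : ¬ Commute d w := by
        intro hc
        have ht2 : (d * w) * (d * w) = 1 := by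
          calc (d * w) * (d * w) = d * (w * d) * w := by group
            _ = d * (d * w) * w := by rw [hc.eq]
            _ = (d * d) * (w * w) := by group
            _ = 1 := by rw [h.sq hd, h.sq hw, one_mul]
        have := eq_one_of_sq_of_mem_pCore_three ht2 hm
        apply hwd
        have : w = d⁻¹ := (inv_eq_of_mul_eq_one_right this).symm
        rw [this, h.inv hd]
      exact ⟨d * w, hm, (conj_of_braid (h.sq hd) (h.sq hw) (h.braid hd hw hnc)).symm⟩
  have hC : ∀ w, (∃ g ∈ pCore 3 G, w = g * d * g⁻¹) → (w ∈ D ∧ Dp D d = Dp D w) := by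
    rintro w ⟨g, hg, rfl⟩
    have hwD := h.hconj g d hd
    refine ⟨hwD, Dp_eq_of_mem_pCore h hd hwD ?_⟩
    have : d⁻¹ * (g * d * g⁻¹) = (d⁻¹ * g * d⁻¹⁻¹) * g⁻¹ := by group
    rw [this]
    exact Subgroup.mul_mem _ (hN.conj_mem g hg d⁻¹) (Subgroup.inv_mem _ hg)
  constructor
  · ext w
    exact ⟨hA w, fun hw => hC w (hB w hw)⟩
  · ext w
    exact ⟨fun hw => hB w (hA w hw), hC w⟩

end Cfsg.Agent.H9TT
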