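import Mathlib
import Cfsg.Prelude
import Cfsg.Agent.Lib.Helper9.TT9e
import Cfsg.Agent.Lib.Helper3.Components8

set_option autoImplicit false

/-!
# Three-transpositions: a class of 3-transpositions and normal subgroups
-/

namespace Cfsg.Agent.H9TT

open Cfsg Cfsg.Agent.Lib.Helper9
open scoped commutatorElement

variable {G : Type*} [Group G] {D : Set G}

/-- a conjugacy class of 3-transpositions generating the group -/
structure TC (D : Set G) : Prop extends TT D where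
  hgen : Subgroup.closure D = ⊤
  hclass : ∀ a ∈ D, ∀ b ∈ D, ∃ g : G, g * a * g⁻¹ = b

theorem TC.of_class (hD : IsThreeTranspositionClass D) : TC D := by
  refine ⟨TT.of_class hD, hD.2.2, ?_⟩
  obtain ⟨-, ⟨d0, -, hDconj⟩, -⟩ := hD
  intro a ha b hb
  rw [hDconj] at ha hb
  change IsConj d0 a at ha
  change IsConj d0 b at hb
  exact isConj_iff.mp (ha.symm.trans hb)

/-- an element commuting with all members of `D` is central -/
theorem TC.mem_center (h : TC D) {n : G} (hn : ∀ e ∈ D, Commute e n) : n ∈ Subgroup.center G := by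
  rw [Subgroup.mem_center_iff]
  have hle : Subgroup.closure D ≤ Subgroup.centralizer ({n} : Set G) := by
    rw [Subgroup.closure_le]
    intro e he
    rw [SetLike.mem_coe, Subgroup.mem_centralizer_singleton_iff]
    exact (hn e he).eq
  rw [h.hgen] at hle
  intro g
  have := hle (Subgroup.mem_top g)
  rw [Subgroup.mem_centralizer_singleton_iff] at this
  exact this

/-- a normal subgroup centralised by one member of `D` is central -/
theorem TC.le_center_of_commute (h : TC D) (N : Subgroup G) [hN : N.Normal] {d : G} (hd : d ∈ D)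
    (hc : ∀ n ∈ N, Commute d n) : N ≤ Subgroup.center G := by
  intro n hn
  apply h.mem_center
  intro e he
  obtain ⟨g, rfl⟩ := h.hclass d hd e he
  have h1 := hc (g⁻¹ * n * g) (by have := hN.conj_mem n hn g⁻¹; rwa [inv_inv] at this)
  exact (TT.commute_conj_iff g d n).mpr h1

/-- if `D` has two members then no member is central -/
theorem TC.not_mem_center (h : TC D) (h2 : ∃ a ∈ D, ∃ b ∈ D, a ≠ b) {d : G} (hd : d ∈ D) :
    d ∉ Subgroup.center G := by
  intro hc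
  obtain ⟨a, ha, b, hb, hab⟩ := h2
  apply hab
  obtain ⟨g, rfl⟩ := h.hclass d hd a ha
  obtain ⟨g', rfl⟩ := h.hclass d hd b hb
  rw [Subgroup.mem_center_iff] at hc
  rw [hc g, hc g']
  group

theorem comm_mem_normal (N : Subgroup G) [hN : N.Normal] {d n : G} (hdd : d * d = 1) (hn : n ∈ N) :
    d * (n * d * n⁻¹) ∈ N := by
  have hdi : d⁻¹ = d := inv_eq_of_mul_eq_one_right hdd
  have e : d * (n * d * n⁻¹) = (d * n * d⁻¹) * n⁻¹ := by rw [hdi]; group
  rw [e]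
  exact N.mul_mem (hN.conj_mem n hn d) (N.inv_mem hn)

/-- two commuting normal subgroups: the products `d d^n` have the same order on both -/
theorem TT.order_sync (h : TT D) (N₁ N₂ : Subgroup G) [N₁.Normal] [N₂.Normal]
    (hcomm : ∀ a ∈ N₁, ∀ b ∈ N₂, Commute a b) {d : G} (hd : d ∈ D)
    {n₁ : G} (hn₁ : n₁ ∈ N₁) (hne : n₁ * d * n₁⁻¹ ≠ d) (hc : Commute d (n₁ * d * n₁⁻¹)) :
    ∀ n₂ ∈ N₂, Commute d (n₂ * d * n₂⁻¹) := by
  intro n₂ hn₂
  by_contra hnc
  have hdd := h.sq hd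
  have haD : n₁ * d * n₁⁻¹ ∈ D := h.hconj _ d hd
  have hbD : n₂ * d * n₂⁻¹ ∈ D := h.hconj _ d hd
  obtain ⟨a, rfl⟩ : ∃ a, a = n₁ * d * n₁⁻¹ := ⟨_, rfl⟩
  obtain ⟨b, rfl⟩ : ∃ b, b = n₂ * d * n₂⁻¹ := ⟨_, rfl⟩
  have haa := h.sq haD
  have hbb := h.sq hbD
  have hx₁ : d * (n₁ * d * n₁⁻¹) ∈ N₁ := comm_mem_normal N₁ hdd hn₁
  have hx₂ : d * (n₂ * d * n₂⁻¹) ∈ N₂ := comm_mem_normal N₂ hdd hn₂
  have hxc := hcomm _ hx₁ _ hx₂
  obtain ⟨x₁, hx₁e⟩ : ∃ x₁, x₁ = d * (n₁ * d * n₁⁻¹) := ⟨_, rfl⟩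
  obtain ⟨x₂, hx₂e⟩ : ∃ x₂, x₂ = d * (n₂ * d * n₂⁻¹) := ⟨_, rfl⟩
  rw [← hx₁e, ← hx₂e] at hxc
  -- orders
  have h1 : x₁ * x₁ = 1 := by
    rw [hx₁e]
    calc d * (n₁ * d * n₁⁻¹) * (d * (n₁ * d * n₁⁻¹))
        = d * ((n₁ * d * n₁⁻¹) * d) * (n₁ * d * n₁⁻¹) := by group
      _ = d * (d * (n₁ * d * n₁⁻¹)) * (n₁ * d * n₁⁻¹) := by rw [hc.eq]
      _ = (d * d) * ((n₁ * d * n₁⁻¹) * (n₁ * d * n₁⁻¹)) := by group
      _ = 1 := by rw [hdd, haa, one_mul]
  have h1ne : x₁ ≠ 1 := by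
    intro e
    apply hne
    rw [hx₁e] at e
    have : n₁ * d * n₁⁻¹ = d⁻¹ := (inv_eq_of_mul_eq_one_right e).symm
    rw [this, h.inv hd]
  have h2 : x₂ ^ 3 = 1 := by rw [hx₂e]; exact h.cube hd hbD hnc
  have h2ne : x₂ ≠ 1 := by
    intro e
    apply hnc
    rw [hx₂e] at e
    have : n₂ * d * n₂⁻¹ = d⁻¹ := (inv_eq_of_mul_eq_one_right e).symm
    rw [this, h.inv hd]
  -- `a * b = x₁⁻¹ * x₂`
  have hab : (n₁ * d * n₁⁻¹) * (n₂ * d * n₂⁻¹) = x₁⁻¹ * x₂ := by
    rw [hx₁e, hx₂e, mul_inv_rev, h.inv hd, h.inv haD]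
    calc (n₁ * d * n₁⁻¹) * (n₂ * d * n₂⁻¹)
        = (n₁ * d * n₁⁻¹) * (d * d) * (n₂ * d * n₂⁻¹) := by rw [hdd, mul_one]
      _ = (n₁ * d * n₁⁻¹) * d * (d * (n₂ * d * n₂⁻¹)) := by group
  have hx₁i : x₁⁻¹ = x₁ := inv_eq_of_mul_eq_one_right h1
  rw [hx₁i] at hab
  rcases h.hset.2 _ haD _ hbD with h3 | h3
  · rw [hab, hxc.mul_pow, pow_two x₁, h1, one_mul] at h3
    apply h2ne
    calc x₂ = x₂ ^ 3 * (x₂ ^ 2)⁻¹ := by group
      _ = 1 := by rw [h2, h3, inv_one, mul_one]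
  · rw [hab, hxc.mul_pow, h2, mul_one] at h3
    apply h1ne
    calc x₁ = x₁ ^ 3 * (x₁ * x₁)⁻¹ := by group
      _ = 1 := by rw [h3, h1, inv_one, mul_one]

/-- a perfect normal subgroup on which the commutators with `d` are central is centralised by `d` -/
theorem commute_of_central_comm (N : Subgroup G) [hN : N.Normal] (hperf : ⁅N, N⁆ = N) {d : G}
    (hdd : d * d = 1)
    (hZ : ∀ n ∈ N, ∀ m ∈ N, Commute (d * (n * d * n⁻¹)) m) : ∀ n ∈ N, Commute d n := by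
  have hdi : d⁻¹ = d := inv_eq_of_mul_eq_one_right hdd
  have hle : ⁅N, N⁆ ≤ Subgroup.centralizer ({d} : Set G) := by
    rw [Subgroup.commutator_le]
    intro n hn m hm
    rw [Subgroup.mem_centralizer_singleton_iff]
    -- `d n d⁻¹ = c n` with `c` central in `N`
    obtain ⟨c, hc⟩ : ∃ c, c = d * (n * d * n⁻¹) := ⟨_, rfl⟩
    obtain ⟨c', hc'⟩ : ∃ c', c' = d * (m * d * m⁻¹) := ⟨_, rfl⟩
    have hcN : c ∈ N := by rw [hc]; exact comm_mem_normal N hdd hn
    have hc'N : c' ∈ N := by rw [hc']; exact comm_mem_normal N hdd hm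
    have e1 : d * n * d = c * n := by rw [hc]; group
    have e2 : d * m * d = c' * m := by rw [hc']; group
    have e1' : d * n⁻¹ * d = n⁻¹ * c⁻¹ := by
      have : d * n⁻¹ * d = (d * n * d)⁻¹ := by rw [mul_inv_rev, mul_inv_rev, hdi]; group
      rw [this, e1, mul_inv_rev]
    have e2' : d * m⁻¹ * d = m⁻¹ * c'⁻¹ := by
      have : d * m⁻¹ * d = (d * m * d)⁻¹ := by rw [mul_inv_rev, mul_inv_rev, hdi]; group
      rw [this, e2, mul_inv_rev]
    have z1 : ∀ k ∈ N, c * k = k * c := fun k hk => by rw [hc]; exact (hZ n hn k hk).eq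
    have z2 : ∀ k ∈ N, c' * k = k * c' := fun k hk => by rw [hc']; exact (hZ m hm k hk).eq
    have key : d * ⁅n, m⁆ * d = ⁅n, m⁆ := by
      rw [commutatorElement_def]
      calc d * (n * m * n⁻¹ * m⁻¹) * d
          = (d * n * d) * (d * m * d) * (d * n⁻¹ * d) * (d * m⁻¹ * d) := by
            have h2 : ∀ a b : G, (d * a * d) * (d * b * d) = d * (a * b) * d := by
              intro a b
              calc (d * a * d) * (d * b * d) = d * a * (d * d) * b * d := by group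
                _ = d * (a * b) * d := by rw [hdd]; group
            rw [h2, h2, h2]
        _ = (c * n) * (c' * m) * (n⁻¹ * c⁻¹) * (m⁻¹ * c'⁻¹) := by rw [e1, e2, e1', e2']
        _ = n * m * n⁻¹ * m⁻¹ := by
          have s1 : (c * n) * (c' * m) * (n⁻¹ * c⁻¹) * (m⁻¹ * c'⁻¹) =
              c * (n * c') * m * n⁻¹ * (c⁻¹ * m⁻¹) * c'⁻¹ := by group
          rw [s1, ← z2 n hn]
          have hci : c⁻¹ * m⁻¹ = m⁻¹ * c⁻¹ := by
            have := z1 m⁻¹ (N.inv_mem hm)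
            calc c⁻¹ * m⁻¹ = c⁻¹ * (m⁻¹ * c) * c⁻¹ := by group
              _ = c⁻¹ * (c * m⁻¹) * c⁻¹ := by rw [this]
              _ = m⁻¹ * c⁻¹ := by group
          rw [hci]
          have s2 : c * (c' * n) * m * n⁻¹ * (m⁻¹ * c⁻¹) * c'⁻¹ =
              c * c' * (n * m * n⁻¹ * m⁻¹) * c⁻¹ * c'⁻¹ := by group
          rw [s2]
          have hk : n * m * n⁻¹ * m⁻¹ ∈ N :=
            N.mul_mem (N.mul_mem (N.mul_mem hn hm) (N.inv_mem hn)) (N.inv_mem hm)
          have s3 : c * c' * (n * m * n⁻¹ * m⁻¹) * c⁻¹ * c'⁻¹ =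
              c * (c' * (n * m * n⁻¹ * m⁻¹)) * c⁻¹ * c'⁻¹ := by group
          rw [s3, z2 _ hk]
          have s4 : c * (n * m * n⁻¹ * m⁻¹ * c') * c⁻¹ * c'⁻¹ =
              (c * (n * m * n⁻¹ * m⁻¹)) * (c' * c⁻¹) * c'⁻¹ := by group
          rw [s4, z1 _ hk]
          have hcc : c' * c⁻¹ = c⁻¹ * c' := by
            have := z2 c⁻¹ (N.inv_mem hcN)
            exact this
          rw [hcc]; group
    calc ⁅n, m⁆ * d = (d * d) * ⁅n, m⁆ * d := by rw [hdd, one_mul]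
      _ = d * (d * ⁅n, m⁆ * d) := by group
      _ = d * ⁅n, m⁆ := by rw [key]
  rw [hperf] at hle
  intro n hn
  have := hle hn
  rw [Subgroup.mem_centralizer_singleton_iff] at this
  exact this.symm

/-- a nilpotent subgroup of a normal subgroup `N`, normalised by `N`, commutes with `N` when `N`
commutes with the Fitting subgroup -/
theorem commute_of_nilpotent [Finite G] (N : Subgroup G) [hN : N.Normal]
    (hNF : ⁅N, Cfsg.fittingSubgroup G⁆ = ⊥) {K : Subgroup G} (hKN : K ≤ N)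
    (hnorm : ∀ n ∈ N, ∀ k ∈ K, n * k * n⁻¹ ∈ K) (hnil : Group.IsNilpotent K) :
    ∀ k ∈ K, ∀ m ∈ N, Commute k m := by
  have hsub : K.IsSubnormal := by
    apply Subgroup.IsSubnormal.step K N hKN hN.isSubnormal
    constructor
    intro k hk n
    rw [Subgroup.mem_subgroupOf] at hk ⊢
    simp only [Subgroup.coe_mul, Subgroup.coe_inv]
    exact hnorm n n.2 k hk
  have hKF : K ≤ Cfsg.fittingSubgroup G :=
    Cfsg.Agent.Lib.Helper3.le_fittingSubgroup_of_isSubnormal hsub hnil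
  intro k hk m hm
  have h1 : ⁅m, k⁆ ∈ ⁅N, Cfsg.fittingSubgroup G⁆ := Subgroup.commutator_mem_commutator hm (hKF hk)
  rw [hNF, Subgroup.mem_bot, commutatorElement_eq_one_iff_commute] at h1
  exact h1.symm

end Cfsg.Agent.H9TT
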