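import Mathlib
import Cfsg.Prelude
import Cfsg.Agent.Lib.Helper9.TT9f

set_option autoImplicit false

/-!
# Three-transpositions: a member of `D` centralises a perfect normal subgroup on which its
commutators all have order two, or all have order three
-/

namespace Cfsg.Agent.H9TT

open Cfsg Cfsg.Agent.Lib.Helper9
open scoped commutatorElement

variable {G : Type*} [Group G] {D : Set G}

/-- the elements conjugating `d` into its orbit under the normal subgroup `N` -/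
def Ysub (N : Subgroup G) [hN : N.Normal] (d : G) : Subgroup G where
  carrier := {g | ∃ n ∈ N, g * d * g⁻¹ = n * d * n⁻¹}
  one_mem' := ⟨1, N.one_mem, rfl⟩
  mul_mem' := by
    rintro a b ⟨n, hn, ha⟩ ⟨m, hm, hb⟩
    refine ⟨(a * m * a⁻¹) * n, N.mul_mem (hN.conj_mem m hm a) hn, ?_⟩
    calc a * b * d * (a * b)⁻¹ = a * (b * d * b⁻¹) * a⁻¹ := by group
      _ = a * (m * d * m⁻¹) * a⁻¹ := by rw [hb]
      _ = (a * m * a⁻¹) * (a * d * a⁻¹) * (a * m * a⁻¹)⁻¹ := by group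
      _ = (a * m * a⁻¹) * (n * d * n⁻¹) * (a * m * a⁻¹)⁻¹ := by rw [ha]
      _ = (a * m * a⁻¹ * n) * d * (a * m * a⁻¹ * n)⁻¹ := by group
  inv_mem' := by
    rintro a ⟨n, hn, ha⟩
    refine ⟨(a⁻¹ * n * a⁻¹⁻¹)⁻¹, N.inv_mem (hN.conj_mem n hn a⁻¹), ?_⟩
    have h1 : d = a⁻¹ * (n * d * n⁻¹) * a := by rw [← ha]; group
    calc a⁻¹ * d * a⁻¹⁻¹ = (a⁻¹ * n * a⁻¹⁻¹)⁻¹ * (a⁻¹ * (n * d * n⁻¹) * a) * (a⁻¹ * n * a⁻¹⁻¹)⁻¹⁻¹ := by
          group
      _ = (a⁻¹ * n * a⁻¹⁻¹)⁻¹ * d * (a⁻¹ * n * a⁻¹⁻¹)⁻¹⁻¹ := by rw [← h1]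

theorem le_Ysub (N : Subgroup G) [N.Normal] (d : G) : N ≤ Ysub N d := fun n hn => ⟨n, hn, rfl⟩

theorem self_mem_Ysub (N : Subgroup G) [N.Normal] (d : G) : d ∈ Ysub N d :=
  ⟨1, N.one_mem, by group⟩

/-- all commutators of order dividing three: they lie in a nilpotent normal subgroup of `N` -/
theorem TT.three_case [Finite G] (h : TT D) (N : Subgroup G) [hN : N.Normal] {d : G} (hd : d ∈ D)
    (h3 : ∀ n ∈ N, (d * (n * d * n⁻¹)) ^ 3 = 1) :
    ∃ K : Subgroup G, K ≤ N ∧ (∀ n ∈ N, ∀ k ∈ K, n * k * n⁻¹ ∈ K) ∧ Group.IsNilpotent K ∧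
      ∀ n ∈ N, d * (n * d * n⁻¹) ∈ K := by
  haveI : Fact (Nat.Prime 3) := ⟨Nat.prime_three⟩
  refine ⟨(pCore 3 ↥(Ysub N d)).map (Ysub N d).subtype ⊓ N, inf_le_right, ?_, ?_, ?_⟩
  · rintro n hn k ⟨⟨z, hz, rfl⟩, hkN⟩
    refine ⟨?_, hN.conj_mem _ hkN n⟩
    refine ⟨⟨n, le_Ysub N d hn⟩ * z * ⟨n, le_Ysub N d hn⟩⁻¹, (pCore_normal' 3).conj_mem z hz _, ?_⟩
    simp
  · have h1 : IsPGroup 3 ((pCore 3 ↥(Ysub N d)).map (Ysub N d).subtype ⊓ N : Subgroup G) :=
      ((pCore_isPGroup' 3).map (Ysub N d).subtype).to_le inf_le_left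
    exact h1.isNilpotent
  · obtain ⟨dY, hdY⟩ : ∃ dY : ↥(Ysub N d), (dY : G) = d := ⟨⟨d, self_mem_Ysub N d⟩, rfl⟩
    have hord : orderOf dY = 2 := by
      rw [← Subgroup.orderOf_coe, hdY]
      exact h.hset.1 d hd
    have hconjD : ∀ a ∈ conjugatesOf dY, ∃ n ∈ N, (a : G) = n * d * n⁻¹ := by
      intro a ha
      change IsConj dY a at ha
      rw [isConj_iff] at ha
      obtain ⟨c, rfl⟩ := ha
      obtain ⟨n, hn, hc⟩ := c.2
      refine ⟨n, hn, ?_⟩
      rw [← hc]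
      simp [hdY]
    have key := Cfsg.Agent.Lib.Lead.InvProdP.main (G := ↥(Ysub N d)) (p := 3) Nat.prime_three
      (by norm_num) dY hord (by
        intro a ha b hb
        obtain ⟨n, hn, han⟩ := hconjD a ha
        obtain ⟨m, hm, hbm⟩ := hconjD b hb
        have h3' : ((a : G) * (b : G)) ^ 3 = 1 := by
          rw [han, hbm]
          have e1 : n * d * n⁻¹ * (m * d * m⁻¹) =
              n * (d * ((n⁻¹ * m) * d * (n⁻¹ * m)⁻¹)) * n⁻¹ := by group
          rw [e1, conj_pow, h3 _ (N.mul_mem (N.inv_mem hn) hm)]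
          group
        have h3'' : (a * b) ^ 3 = 1 := by
          apply Subtype.ext
          simpa using h3'
        have hdvd := orderOf_dvd_of_pow_eq_one h3''
        rcases (Nat.dvd_prime Nat.prime_three).mp hdvd with h1 | h1
        · exact ⟨0, by rw [h1, pow_zero]⟩
        · exact ⟨1, by rw [h1, pow_one]⟩)
    intro n hn
    refine ⟨?_, comm_mem_normal N (h.sq hd) hn⟩
    have hw : (⟨n, le_Ysub N d hn⟩ * dY * ⟨n, le_Ysub N d hn⟩⁻¹ : ↥(Ysub N d)) ∈ conjugatesOf dY := by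
      change IsConj dY _
      rw [isConj_iff]
      exact ⟨_, rfl⟩
    have h1 := key dY mem_conjugatesOf_self _ hw
    refine ⟨_, h1, ?_⟩
    simp [hdY]

/-- all commutators of order dividing two: they lie in an abelian normal subgroup of `N` -/
theorem TT.two_case (h : TT D) (N : Subgroup G) [hN : N.Normal] {d : G} (hd : d ∈ D)
    (h2 : ∀ n ∈ N, Commute d (n * d * n⁻¹)) :
    ∃ K : Subgroup G, K ≤ N ∧ (∀ n ∈ N, ∀ k ∈ K, n * k * n⁻¹ ∈ K) ∧ Group.IsNilpotent K ∧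
      ∀ n ∈ N, d * (n * d * n⁻¹) ∈ K := by
  obtain ⟨C, hC⟩ : ∃ C : Set G, C = {c | ∃ n ∈ N, c = n * d * n⁻¹} := ⟨_, rfl⟩
  have hCC : C ⊆ Subgroup.centralizer C := by
    intro a ha
    rw [hC] at ha
    obtain ⟨n, hn, rfl⟩ := ha
    rw [SetLike.mem_coe, Subgroup.mem_centralizer_iff]
    intro b hb
    rw [hC] at hb
    obtain ⟨m, hm, rfl⟩ := hb
    -- conjugate the commuting pair `d`, `(m⁻¹ n) d (m⁻¹ n)⁻¹` by `m`
    have h1 := h2 (m⁻¹ * n) (N.mul_mem (N.inv_mem hm) hn)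
    calc m * d * m⁻¹ * (n * d * n⁻¹) = m * (d * ((m⁻¹ * n) * d * (m⁻¹ * n)⁻¹)) * m⁻¹ := by group
      _ = m * (((m⁻¹ * n) * d * (m⁻¹ * n)⁻¹) * d) * m⁻¹ := by rw [h1.eq]
      _ = n * d * n⁻¹ * (m * d * m⁻¹) := by group
  have hAA : ∀ x ∈ Subgroup.closure C, ∀ y ∈ Subgroup.closure C, Commute x y := by
    intro x hx y hy
    have h1 : Subgroup.closure C ≤ Subgroup.centralizer (Subgroup.centralizer C : Set G) :=
      Subgroup.closure_le_centralizer_centralizer C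
    have h3 : Subgroup.centralizer (Subgroup.centralizer C : Set G) ≤ Subgroup.centralizer C :=
      Subgroup.centralizer_le hCC
    have hy' := h3 (h1 hy)
    have hx' := h1 hx
    rw [Subgroup.mem_centralizer_iff] at hx'
    exact (hx' y hy').symm
  have hconjA : ∀ n ∈ N, ∀ k ∈ Subgroup.closure C, n * k * n⁻¹ ∈ Subgroup.closure C := by
    intro n hn k hk
    induction hk using Subgroup.closure_induction with
    | mem x hx =>
      apply Subgroup.subset_closure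
      rw [hC] at hx ⊢
      obtain ⟨m, hm, rfl⟩ := hx
      exact ⟨n * m, N.mul_mem hn hm, by group⟩
    | one =>
      have : n * 1 * n⁻¹ = 1 := by group
      rw [this]; exact Subgroup.one_mem _
    | mul x y _ _ hx hy =>
      have : n * (x * y) * n⁻¹ = (n * x * n⁻¹) * (n * y * n⁻¹) := by group
      rw [this]; exact Subgroup.mul_mem _ hx hy
    | inv x _ hx =>
      have : n * x⁻¹ * n⁻¹ = (n * x * n⁻¹)⁻¹ := by group
      rw [this]; exact Subgroup.inv_mem _ hx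
  refine ⟨Subgroup.closure C ⊓ N, inf_le_right, ?_, ?_, ?_⟩
  · rintro n hn k ⟨hkA, hkN⟩
    exact ⟨hconjA n hn k hkA, hN.conj_mem k hkN n⟩
  · apply Cfsg.Agent.Lib.Helper3.isNilpotent_of_le_centralizer
    intro x hx
    rw [Subgroup.mem_centralizer_iff]
    intro y hy
    exact (hAA x hx.1 y hy.1).symm.eq
  · intro n hn
    refine ⟨?_, comm_mem_normal N (h.sq hd) hn⟩
    apply Subgroup.mul_mem
    · apply Subgroup.subset_closure
      rw [hC]
      exact ⟨1, N.one_mem, by group⟩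
    · apply Subgroup.subset_closure
      rw [hC]
      exact ⟨n, hn, rfl⟩

/-- a member of `D` centralises a perfect normal subgroup commuting with the Fitting subgroup
as soon as its commutators there all have order two, or all have order three -/
theorem TT.commute_perfect_normal [Finite G] (h : TT D) (N : Subgroup G) [hN : N.Normal]
    (hperf : ⁅N, N⁆ = N) (hNF : ⁅N, Cfsg.fittingSubgroup G⁆ = ⊥) {d : G} (hd : d ∈ D)
    (hall : (∀ n ∈ N, Commute d (n * d * n⁻¹)) ∨ (∀ n ∈ N, (d * (n * d * n⁻¹)) ^ 3 = 1)) :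
    ∀ n ∈ N, Commute d n := by
  have hK : ∃ K : Subgroup G, K ≤ N ∧ (∀ n ∈ N, ∀ k ∈ K, n * k * n⁻¹ ∈ K) ∧ Group.IsNilpotent K ∧
      ∀ n ∈ N, d * (n * d * n⁻¹) ∈ K := by
    rcases hall with h2 | h3
    · exact h.two_case N hd h2
    · exact h.three_case N hd h3
  obtain ⟨K, hKN, hnorm, hnil, hmem⟩ := hK
  have hcomm := commute_of_nilpotent N hNF hKN hnorm hnil
  exact commute_of_central_comm N hperf (h.sq hd) (fun n hn m hm => hcomm _ (hmem n hn) m hm)

end Cfsg.Agent.H9TT
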