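import Mathlib
import Cfsg.Prelude
import Cfsg.Agent.Lib.Helper9.TT9g
import Cfsg.Agent.Lib.Helper3.Components7
import Cfsg.Agent.S5347
import Cfsg.Agent.S0009

set_option autoImplicit false

/-!
# Three-transpositions: the trichotomy for the generalised Fitting subgroup
-/

namespace Cfsg.Agent.H9TT

open Cfsg Cfsg.Agent.Lib.Helper9 Cfsg.Agent.Lib.Helper3
open scoped commutatorElement

variable {G : Type*} [Group G] {D : Set G}

theorem TC.group (h : TC D) : IsThreeTranspositionGroup D :=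
  ⟨h.hset, fun g d hd => h.hconj g d hd, h.hgen⟩

/-- for `p > 3` the `p`-core is central -/
theorem TC.pCore_le_center [Finite G] (h : TC D) (hne : D.Nonempty) {p : ℕ} (hp : p.Prime)
    (hp3 : 3 < p) : pCore p G ≤ Subgroup.center G := by
  haveI : Fact p.Prime := ⟨hp⟩
  obtain ⟨d, hd⟩ := hne
  haveI := pCore_normal' (G := G) p
  apply h.le_center_of_commute (pCore p G) hd
  apply Cfsg.Agent.S5347.result h.group hp hp3 (pCore p G) (pCore_isPGroup' p) hd
  exact (Subgroup.normalizer_eq_top (H := pCore p G)) ▸ Subgroup.mem_top d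

/-- if `d` does not centralise the normal subgroup `N` then some `N`-conjugate of `d` differs
from `d` -/
theorem TC.exists_conj_ne (h : TC D) (N : Subgroup G) [N.Normal] {d : G} (hd : d ∈ D)
    (hN : ¬ N ≤ Subgroup.center G) : ∃ n ∈ N, n * d * n⁻¹ ≠ d := by
  by_contra hcon
  push Not at hcon
  apply hN
  apply h.le_center_of_commute N hd
  intro n hn
  have := hcon n hn
  show d * n = n * d
  calc d * n = (n * d * n⁻¹) * n := by rw [this]
    _ = n * d := by group

theorem commute_of_sq {d a : G} (hdd : d * d = 1) (haa : a * a = 1) (h2 : (d * a) ^ 2 = 1) :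
    Commute d a := by
  show d * a = a * d
  have hdi : d⁻¹ = d := inv_eq_of_mul_eq_one_right hdd
  have hai : a⁻¹ = a := inv_eq_of_mul_eq_one_right haa
  have : d * a = (d * a)⁻¹ := by
    rw [eq_inv_iff_mul_eq_one, ← pow_two]; exact h2
  rw [this, mul_inv_rev, hdi, hai]

theorem sq_of_commute {d a : G} (hdd : d * d = 1) (haa : a * a = 1) (hc : Commute d a) :
    (d * a) * (d * a) = 1 := by
  calc d * a * (d * a) = d * (a * d) * a := by group
    _ = d * (d * a) * a := by rw [hc.eq]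
    _ = (d * d) * (a * a) := by group
    _ = 1 := by rw [hdd, haa, one_mul]

theorem eq_of_mul_eq_one_inv {d a : G} (hdd : d * d = 1) (h1 : d * a = 1) : a = d := by
  have hdi : d⁻¹ = d := inv_eq_of_mul_eq_one_right hdd
  rw [← hdi]
  exact (inv_eq_of_mul_eq_one_right h1).symm

/-- an element of a `2`-group whose cube is trivial is trivial -/
theorem eq_one_of_cube_of_mem_pCore_two [Finite G] {t : G} (ht : t ^ 3 = 1)
    (hm : t ∈ pCore 2 G) : t = 1 := by
  haveI : Fact (Nat.Prime 2) := ⟨Nat.prime_two⟩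
  obtain ⟨k, hk⟩ := (pCore_isPGroup' (G := G) 2) ⟨t, hm⟩
  have hk' : t ^ (2 ^ k) = 1 := by
    have := congrArg Subtype.val hk
    simpa using this
  have h1 : orderOf t ∣ 3 := orderOf_dvd_of_pow_eq_one ht
  have h2 : orderOf t ∣ 2 ^ k := orderOf_dvd_of_pow_eq_one hk'
  have h3 : orderOf t ∣ Nat.gcd 3 (2 ^ k) := Nat.dvd_gcd h1 h2
  have h4 : Nat.gcd 3 (2 ^ k) = 1 := Nat.Coprime.pow_right k (by norm_num)
  rw [h4, Nat.dvd_one, orderOf_eq_one_iff] at h3
  exact h3

/-- the `2`-core and the `3`-core commute -/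
theorem commute_pCore_two_three [Finite G] : ∀ a ∈ pCore 2 G, ∀ b ∈ pCore 3 G, Commute a b := by
  intro a ha b hb
  haveI := pCore_normal' (G := G) 2
  haveI := pCore_normal' (G := G) 3
  have h1 : a * b * a⁻¹ * b⁻¹ ∈ pCore 2 G := by
    have := (pCore_normal' (G := G) 2).conj_mem a⁻¹ (Subgroup.inv_mem _ ha) b
    have e : a * b * a⁻¹ * b⁻¹ = a * (b * a⁻¹ * b⁻¹) := by group
    rw [e]
    exact Subgroup.mul_mem _ ha this
  have h2 : a * b * a⁻¹ * b⁻¹ ∈ pCore 3 G := by
    have := (pCore_normal' (G := G) 3).conj_mem b hb a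
    exact Subgroup.mul_mem _ this (Subgroup.inv_mem _ hb)
  haveI : Fact (Nat.Prime 2) := ⟨Nat.prime_two⟩
  haveI : Fact (Nat.Prime 3) := ⟨Nat.prime_three⟩
  obtain ⟨k, hk⟩ := (pCore_isPGroup' (G := G) 2) ⟨_, h1⟩
  obtain ⟨l, hl⟩ := (pCore_isPGroup' (G := G) 3) ⟨_, h2⟩
  have hk' : (a * b * a⁻¹ * b⁻¹) ^ (2 ^ k) = 1 := by
    have := congrArg Subtype.val hk
    simpa using this
  have hl' : (a * b * a⁻¹ * b⁻¹) ^ (3 ^ l) = 1 := by
    have := congrArg Subtype.val hl
    simpa using this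
  have h3 : orderOf (a * b * a⁻¹ * b⁻¹) ∣ Nat.gcd (2 ^ k) (3 ^ l) :=
    Nat.dvd_gcd (orderOf_dvd_of_pow_eq_one hk') (orderOf_dvd_of_pow_eq_one hl')
  have h4 : Nat.gcd (2 ^ k) (3 ^ l) = 1 := Nat.Coprime.pow k l (by norm_num)
  rw [h4, Nat.dvd_one, orderOf_eq_one_iff] at h3
  show a * b = b * a
  calc a * b = (a * b * a⁻¹ * b⁻¹) * (b * a) := by group
    _ = b * a := by rw [h3, one_mul]

end Cfsg.Agent.H9TT
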