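import Mathlib
import Cfsg.Prelude
import Cfsg.Agent.Lib.Helper9.TT9h

set_option autoImplicit false

/-!
# Three-transpositions: the trichotomy for the generalised Fitting subgroup, main steps
-/

namespace Cfsg.Agent.H9TT

open Cfsg Cfsg.Agent.Lib.Helper9 Cfsg.Agent.Lib.Helper3
open scoped commutatorElement

variable {G : Type*} [Group G] {D : Set G}

theorem TC.two_witness [Finite G] (h : TC D) {d : G} (hd : d ∈ D)
    (h2 : ¬ pCore 2 G ≤ Subgroup.center G) :
    ∃ n₁ ∈ pCore 2 G, n₁ * d * n₁⁻¹ ≠ d ∧ Commute d (n₁ * d * n₁⁻¹) := by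
  haveI := pCore_normal' (G := G) 2
  obtain ⟨n₁, hn₁, hne⟩ := h.exists_conj_ne (pCore 2 G) hd h2
  refine ⟨n₁, hn₁, hne, ?_⟩
  have haD : n₁ * d * n₁⁻¹ ∈ D := h.hconj _ d hd
  have hdd := h.sq hd
  rcases h.hset.2 d hd _ haD with h2' | h3'
  · exact commute_of_sq hdd (h.sq haD) h2'
  · exfalso
    apply hne
    have hx : d * (n₁ * d * n₁⁻¹) ∈ pCore 2 G := comm_mem_normal _ hdd hn₁
    exact eq_of_mul_eq_one_inv hdd (eq_one_of_cube_of_mem_pCore_two h3' hx)

theorem TC.three_witness [Finite G] (h : TC D) {d : G} (hd : d ∈ D)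
    (h3 : ¬ pCore 3 G ≤ Subgroup.center G) :
    ∃ n₁ ∈ pCore 3 G, ¬ Commute d (n₁ * d * n₁⁻¹) := by
  haveI := pCore_normal' (G := G) 3
  obtain ⟨n₁, hn₁, hne⟩ := h.exists_conj_ne (pCore 3 G) hd h3
  refine ⟨n₁, hn₁, ?_⟩
  intro hc
  apply hne
  have haD : n₁ * d * n₁⁻¹ ∈ D := h.hconj _ d hd
  have hdd := h.sq hd
  have hx : d * (n₁ * d * n₁⁻¹) ∈ pCore 3 G := comm_mem_normal _ hdd hn₁
  exact eq_of_mul_eq_one_inv hdd
    (eq_one_of_sq_of_mem_pCore_three (sq_of_commute hdd (h.sq haD) hc) hx)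

/-- if the `2`-core is not central then the `3`-core is -/
theorem TC.pCore_three_le_of_two [Finite G] (h : TC D) (hne : D.Nonempty)
    (h2 : ¬ pCore 2 G ≤ Subgroup.center G) : pCore 3 G ≤ Subgroup.center G := by
  obtain ⟨d, hd⟩ := hne
  haveI := pCore_normal' (G := G) 2
  haveI := pCore_normal' (G := G) 3
  obtain ⟨n₁, hn₁, hne₁, hc₁⟩ := h.two_witness hd h2
  have hs := h.toTT.order_sync (pCore 2 G) (pCore 3 G) commute_pCore_two_three hd hn₁ hne₁ hc₁
  apply h.le_center_of_commute (pCore 3 G) hd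
  intro n hn
  have hdd := h.sq hd
  have haD : n * d * n⁻¹ ∈ D := h.hconj _ d hd
  have hx : d * (n * d * n⁻¹) ∈ pCore 3 G := comm_mem_normal _ hdd hn
  have e : n * d * n⁻¹ = d := eq_of_mul_eq_one_inv hdd
    (eq_one_of_sq_of_mem_pCore_three (sq_of_commute hdd (h.sq haD) (hs n hn)) hx)
  show d * n = n * d
  calc d * n = (n * d * n⁻¹) * n := by rw [e]
    _ = n * d := by group

theorem pCore_le_fittingSubgroup [Finite G] (p : ℕ) [Fact p.Prime] :
    pCore p G ≤ fittingSubgroup G :=
  le_sSup ⟨pCore_normal' p, (pCore_isPGroup' p).isNilpotent⟩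

theorem commute_layer_pCore [Finite G] (p : ℕ) [Fact p.Prime] :
    ∀ a ∈ layer G, ∀ b ∈ pCore p G, Commute a b := by
  intro a ha b hb
  have h1 := commutator_layer_fittingSubgroup (G := G)
  rw [Subgroup.commutator_eq_bot_iff_le_centralizer] at h1
  have h2 := h1 ha
  rw [Subgroup.mem_centralizer_iff] at h2
  exact (h2 b (pCore_le_fittingSubgroup p hb)).symm

/-- a central layer is trivial -/
theorem layer_eq_bot_of_le_center (hl : layer G ≤ Subgroup.center G) : layer G = ⊥ := by
  rw [← commutator_layer_layer, Subgroup.commutator_eq_bot_iff_le_centralizer]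
  exact hl.trans (Subgroup.center_le_centralizer _)

/-- if the `2`-core is not central then there are no components -/
theorem TC.layer_eq_bot_of_two [Finite G] (h : TC D) (hne : D.Nonempty)
    (h2 : ¬ pCore 2 G ≤ Subgroup.center G) : layer G = ⊥ := by
  obtain ⟨d, hd⟩ := hne
  haveI := pCore_normal' (G := G) 2
  haveI : Fact (Nat.Prime 2) := ⟨Nat.prime_two⟩
  obtain ⟨n₁, hn₁, hne₁, hc₁⟩ := h.two_witness hd h2
  have hs := h.toTT.order_sync (pCore 2 G) (layer G)
    (fun a ha b hb => (commute_layer_pCore 2 b hb a ha).symm) hd hn₁ hne₁ hc₁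
  have hc := h.toTT.commute_perfect_normal (layer G) commutator_layer_layer
    commutator_layer_fittingSubgroup hd (Or.inl hs)
  exact layer_eq_bot_of_le_center (h.le_center_of_commute (layer G) hd hc)

/-- if the `3`-core is not central then there are no components -/
theorem TC.layer_eq_bot_of_three [Finite G] (h : TC D) (hne : D.Nonempty)
    (h3 : ¬ pCore 3 G ≤ Subgroup.center G) : layer G = ⊥ := by
  obtain ⟨d, hd⟩ := hne
  haveI := pCore_normal' (G := G) 3
  haveI : Fact (Nat.Prime 3) := ⟨Nat.prime_three⟩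
  obtain ⟨n₁, hn₁, hnc₁⟩ := h.three_witness hd h3
  have hdd := h.sq hd
  have hall : ∀ n ∈ layer G, (d * (n * d * n⁻¹)) ^ 3 = 1 := by
    intro n hn
    have haD : n * d * n⁻¹ ∈ D := h.hconj _ d hd
    apply h.toTT.cube' hd haD
    intro hc
    by_contra hne'
    exact hnc₁ (h.toTT.order_sync (layer G) (pCore 3 G) (commute_layer_pCore 3) hd hn
      (fun e => hne' e.symm) hc n₁ hn₁)
  have hc := h.toTT.commute_perfect_normal (layer G) commutator_layer_layer
    commutator_layer_fittingSubgroup hd (Or.inr hall)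
  exact layer_eq_bot_of_le_center (h.le_center_of_commute (layer G) hd hc)

/-- if the `2`-core and the `3`-core are central then there is a component -/
theorem TC.layer_ne_bot [Finite G] (h : TC D) (hD2 : ∃ a ∈ D, ∃ b ∈ D, a ≠ b)
    (h2 : pCore 2 G ≤ Subgroup.center G) (h3 : pCore 3 G ≤ Subgroup.center G) :
    layer G ≠ ⊥ := by
  intro hl
  obtain ⟨d, hd, -⟩ := id hD2
  have hne : D.Nonempty := ⟨d, hd⟩
  have hF : fittingSubgroup G ≤ Subgroup.center G := by
    rw [Cfsg.Agent.S0009.result]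
    apply iSup_le
    intro p
    rcases lt_or_ge 3 (p : ℕ) with hp | hp
    · exact h.pCore_le_center hne p.2 hp
    · have hp2 := p.2.two_le
      have : (p : ℕ) = 2 ∨ (p : ℕ) = 3 := by omega
      rcases this with e | e
      · rw [e]; exact h2
      · rw [e]; exact h3
  have hFs : generalizedFittingSubgroup G ≤ Subgroup.center G := by
    unfold generalizedFittingSubgroup
    rw [hl, bot_sup_eq]
    exact hF
  have hB := centralizer_generalizedFittingSubgroup_le (G := G)
  have htop : Subgroup.centralizer (generalizedFittingSubgroup G : Set G) = ⊤ := by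
    rw [Subgroup.centralizer_eq_top_iff_subset]
    exact hFs
  rw [htop] at hB
  exact h.not_mem_center hD2 hd (hFs (hB (Subgroup.mem_top d)))

end Cfsg.Agent.H9TT
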