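import Mathlib
import Cfsg.Prelude
import Cfsg.Agent.Lib.Helper9.TT9i
import Cfsg.Agent.S0144

set_option autoImplicit false

/-!
# Three-transpositions: members of `D` normalise every component
-/

namespace Cfsg.Agent.H9TT

open Cfsg Cfsg.Agent.Lib.Helper9 Cfsg.Agent.Lib.Helper3
open scoped commutatorElement

theorem eq_two_pow_mul_three_pow {n : ℕ} (hn : n ≠ 0)
    (h : ∀ p : ℕ, p.Prime → p ∣ n → p = 2 ∨ p = 3) : ∃ a b : ℕ, n = 2 ^ a * 3 ^ b := by
  obtain ⟨a, n', h2, e1⟩ := Nat.exists_eq_pow_mul_and_not_dvd hn 2 (by norm_num)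
  have hn' : n' ≠ 0 := by
    rintro rfl
    exact h2 (dvd_zero 2)
  obtain ⟨b, n'', h3, e2⟩ := Nat.exists_eq_pow_mul_and_not_dvd hn' 3 (by norm_num)
  refine ⟨a, b, ?_⟩
  have h1 : n'' = 1 := by
    by_contra hne
    obtain ⟨p, hp, hpd⟩ := Nat.exists_prime_and_dvd hne
    have hpn' : p ∣ n' := by rw [e2]; exact Dvd.dvd.mul_left hpd _
    have hpn : p ∣ n := by rw [e1]; exact Dvd.dvd.mul_left hpn' _
    rcases h p hp hpn with rfl | rfl
    · exact h2 hpn'
    · exact h3 hpd
  rw [e1, e2, h1, mul_one]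

theorem card_two_three_of_pow (X : Type*) [Group X] [Finite X]
    (h : ∀ x : X, x ^ 2 = 1 ∨ x ^ 3 = 1) : ∃ a b : ℕ, Nat.card X = 2 ^ a * 3 ^ b := by
  apply eq_two_pow_mul_three_pow Nat.card_pos.ne'
  intro p hp hpd
  haveI : Fact p.Prime := ⟨hp⟩
  obtain ⟨x, hx⟩ := exists_prime_orderOf_dvd_card' p hpd
  rcases h x with h2 | h3
  · left
    have := orderOf_dvd_of_pow_eq_one h2
    rw [hx] at this
    exact (Nat.prime_dvd_prime_iff_eq hp Nat.prime_two).mp this
  · right
    have := orderOf_dvd_of_pow_eq_one h3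
    rw [hx] at this
    exact (Nat.prime_dvd_prime_iff_eq hp Nat.prime_three).mp this

/-- in a finite quasisimple group not every element has its square or its cube central -/
theorem not_pow_center_of_isQuasisimple {X : Type*} [Group X] [Finite X] (hX : IsQuasisimple X)
    (h : ∀ x : X, x ^ 2 ∈ Subgroup.center X ∨ x ^ 3 ∈ Subgroup.center X) : False := by
  apply IsQuasisimple.not_isSolvable hX
  have hq : ∀ q : X ⧸ Subgroup.center X, q ^ 2 = 1 ∨ q ^ 3 = 1 := by
    intro q
    induction q using QuotientGroup.induction_on with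
    | H x =>
      rcases h x with h2 | h3
      · left
        rw [← QuotientGroup.mk_pow, QuotientGroup.eq_one_iff]
        exact h2
      · right
        rw [← QuotientGroup.mk_pow, QuotientGroup.eq_one_iff]
        exact h3
  obtain ⟨a, b, hab⟩ := card_two_three_of_pow _ hq
  haveI : Group.IsSolvable (X ⧸ Subgroup.center X) :=
    Cfsg.Agent.S0144.result 2 3 a b Nat.prime_two Nat.prime_three hab
  haveI : Group.IsSolvable (Subgroup.center X) := Group.isSolvable_of_comm (fun a b => by
    apply Subtype.ext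
    have := Subgroup.mem_center_iff.mp a.2 b.1
    simpa using this.symm)
  apply solvable_of_ker_le_range (Subgroup.center X).subtype (QuotientGroup.mk' (Subgroup.center X))
  rw [QuotientGroup.ker_mk', Subgroup.range_subtype]

variable {G : Type*} [Group G] {D : Set G}

/-- a member of `D` normalises every component -/
theorem TT.map_conj_component [Finite G] (h : TT D) {K : Subgroup G} (hK : IsComponent K)
    {d : G} (hd : d ∈ D) : K.map (MulAut.conj d).toMonoidHom = K := by
  by_contra hne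
  have hKd := IsComponent.map_conj hK d
  have hcomm := IsComponent.commutator_eq_bot_of_ne hKd hK hne
  rw [Subgroup.commutator_eq_bot_iff_le_centralizer] at hcomm
  have hdd := h.sq hd
  have hdi := h.inv hd
  apply not_pow_center_of_isQuasisimple hK.2
  intro x
  obtain ⟨g, hg⟩ := x
  have hu : d * g * d⁻¹ ∈ K.map (MulAut.conj d).toMonoidHom := ⟨g, hg, rfl⟩
  have hcu : ∀ k ∈ K, Commute k (d * g * d⁻¹) := by
    intro k hk
    have := hcomm hu
    rw [Subgroup.mem_centralizer_iff] at this
    exact this k hk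
  have hcpow : ∀ m : ℕ, ∀ k ∈ K, Commute k ((d * g * d⁻¹) ^ m) := by
    intro m k hk
    exact (hcu k hk).pow_right m
  have haD : g * d * g⁻¹ ∈ D := h.hconj _ d hd
  have e : d * (g * d * g⁻¹) = (d * g * d⁻¹) * g⁻¹ := by rw [hdi]; group
  have hkey : ∀ m : ℕ, (d * (g * d * g⁻¹)) ^ m = 1 →
      (⟨g, hg⟩ : ↥K) ^ m ∈ Subgroup.center ↥K := by
    intro m hm
    rw [e, ((hcu g⁻¹ (K.inv_mem hg)).symm).mul_pow, inv_pow, mul_inv_eq_one] at hm
    rw [Subgroup.mem_center_iff]
    intro y
    apply Subtype.ext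
    simp only [Subgroup.coe_mul, Subgroup.coe_pow]
    rw [← hm]
    exact (hcpow m y.1 y.2).eq
  rcases h.hset.2 d hd _ haD with h2 | h3
  · exact Or.inl (hkey 2 h2)
  · exact Or.inr (hkey 3 h3)

/-- every component is normal -/
theorem TC.component_normal [Finite G] (h : TC D) {K : Subgroup G} (hK : IsComponent K) :
    K.Normal := by
  rw [← Subgroup.normalizer_eq_top_iff, eq_top_iff, ← h.hgen, Subgroup.closure_le]
  intro d hd
  have hmap := h.toTT.map_conj_component hK hd
  have hdd := h.sq hd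
  have hdi := h.inv hd
  have h1 : ∀ n ∈ K, d * n * d⁻¹ ∈ K := by
    intro n hn
    have : d * n * d⁻¹ ∈ K.map (MulAut.conj d).toMonoidHom := ⟨n, hn, rfl⟩
    rwa [hmap] at this
  rw [SetLike.mem_coe, Subgroup.mem_normalizer_iff]
  intro n
  refine ⟨h1 n, fun hn => ?_⟩
  have := h1 _ hn
  have e : d * (d * n * d⁻¹) * d⁻¹ = n := by
    rw [hdi]
    calc d * (d * n * d) * d = (d * d) * n * (d * d) := by group
      _ = n := by rw [hdd, one_mul, mul_one]
  rwa [e] at this

end Cfsg.Agent.H9TT
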