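import Mathlib
import Cfsg.Prelude
import Cfsg.Agent.Lib.Helper9.TT9j

set_option autoImplicit false

/-!
# Three-transpositions: the unique component
-/

namespace Cfsg.Agent.H9TT

open Cfsg Cfsg.Agent.Lib.Helper9 Cfsg.Agent.Lib.Helper3
open scoped commutatorElement

variable {G : Type*} [Group G] {D : Set G}

/-- no member of `D` centralises a normal quasisimple subgroup -/
theorem TC.not_commute_quasisimple (h : TC D) (K : Subgroup G) [K.Normal] (hK : IsQuasisimple K)
    {d : G} (hd : d ∈ D) : ¬ ∀ n ∈ K, Commute d n := by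
  intro hc
  have hle := h.le_center_of_commute K hd hc
  apply IsQuasisimple.commutator_self_ne_bot hK
  rw [Subgroup.commutator_eq_bot_iff_le_centralizer]
  exact hle.trans (Subgroup.center_le_centralizer _)

/-- for a normal quasisimple subgroup `K` commuting with the Fitting subgroup some `K`-conjugate
of `d` commutes with `d` and differs from it -/
theorem TC.exists_commuting_conj [Finite G] (h : TC D) (K : Subgroup G) [K.Normal]
    (hK : IsQuasisimple K) (hKF : ⁅K, fittingSubgroup G⁆ = ⊥) {d : G} (hd : d ∈ D) :
    ∃ n ∈ K, n * d * n⁻¹ ≠ d ∧ Commute d (n * d * n⁻¹) := by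
  by_contra hcon
  push Not at hcon
  apply h.not_commute_quasisimple K hK hd
  apply h.toTT.commute_perfect_normal K (IsQuasisimple.commutator_eq_self hK) hKF hd
  right
  intro n hn
  apply h.toTT.cube' hd (h.hconj _ d hd)
  intro hc
  by_contra hne
  exact hcon n hn (fun e => hne e.symm) hc

/-- two components are equal -/
theorem TC.component_unique [Finite G] (h : TC D) (hne : D.Nonempty) {K₁ K₂ : Subgroup G}
    (hK₁ : IsComponent K₁) (hK₂ : IsComponent K₂) : K₁ = K₂ := by
  by_contra hne'
  obtain ⟨d, hd⟩ := hne
  haveI := h.component_normal hK₁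
  haveI := h.component_normal hK₂
  have hcomm := IsComponent.commutator_eq_bot_of_ne hK₁ hK₂ hne'
  rw [Subgroup.commutator_eq_bot_iff_le_centralizer] at hcomm
  obtain ⟨n₁, hn₁, hne₁, hc₁⟩ := h.exists_commuting_conj K₁ hK₁.2
    (IsComponent.commutator_fittingSubgroup hK₁) hd
  have hs := h.toTT.order_sync K₁ K₂ (fun a ha b hb => by
    have := hcomm ha
    rw [Subgroup.mem_centralizer_iff] at this
    exact (this b hb).symm) hd hn₁ hne₁ hc₁
  apply h.not_commute_quasisimple K₂ hK₂.2 hd
  exact h.toTT.commute_perfect_normal K₂ (IsQuasisimple.commutator_eq_self hK₂.2)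
    (IsComponent.commutator_fittingSubgroup hK₂) hd (Or.inl hs)

/-- if the `2`-core and the `3`-core are central then the Fitting subgroup is the centre -/
theorem TC.fitting_eq_center [Finite G] (h : TC D) (hne : D.Nonempty)
    (h2 : pCore 2 G ≤ Subgroup.center G) (h3 : pCore 3 G ≤ Subgroup.center G) :
    fittingSubgroup G = Subgroup.center G := by
  apply le_antisymm
  · rw [Cfsg.Agent.S0009.result]
    apply iSup_le
    intro p
    rcases lt_or_ge 3 (p : ℕ) with hp | hp
    · exact h.pCore_le_center hne p.2 hp
    · have hp2 := p.2.two_le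
      have : (p : ℕ) = 2 ∨ (p : ℕ) = 3 := by omega
      rcases this with e | e
      · rw [e]; exact h2
      · rw [e]; exact h3
  · exact le_sSup ⟨inferInstance, isNilpotent_of_le_centralizer (Subgroup.center_le_centralizer _)⟩

/-- the layer is a normal quasisimple subgroup, and `F*(G)` is its product with the centre -/
theorem TC.layer_quasisimple [Finite G] (h : TC D) (hD2 : ∃ a ∈ D, ∃ b ∈ D, a ≠ b)
    (h2 : pCore 2 G ≤ Subgroup.center G) (h3 : pCore 3 G ≤ Subgroup.center G) :
    IsComponent (layer G) ∧
      generalizedFittingSubgroup G = layer G ⊔ Subgroup.center G := by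
  obtain ⟨d, hd, -⟩ := id hD2
  have hne : D.Nonempty := ⟨d, hd⟩
  have hl := h.layer_ne_bot hD2 h2 h3
  rw [Ne, layer_eq_bot_iff] at hl
  push Not at hl
  obtain ⟨L, hL⟩ := hl
  have e : layer G = L := by
    apply le_antisymm
    · apply sSup_le
      intro K hK
      exact (h.component_unique hne hK hL).le
    · exact le_sSup hL
  refine ⟨e ▸ hL, ?_⟩
  unfold generalizedFittingSubgroup
  rw [h.fitting_eq_center hne h2 h3]

end Cfsg.Agent.H9TT
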