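import Mathlib
import Cfsg.Prelude
import Cfsg.Agent.Lib.Helper9.TT9k

set_option autoImplicit false

/-!
# Three-transpositions: modulo a normal quasisimple subgroup commuting members of `D` coincide
-/

namespace Cfsg.Agent.H9TT

open Cfsg Cfsg.Agent.Lib.Helper9 Cfsg.Agent.Lib.Helper3
open scoped commutatorElement

variable {G : Type*} [Group G] {D : Set G}

theorem pow_three_mem_of_mul {L : Subgroup G} [hLn : L.Normal] {x l : G} (hl : l ∈ L)
    (h3 : (x * l) ^ 3 = 1) : x ^ 3 ∈ L := by
  have h1 : ((x * l : G) : G ⧸ L) = (x : G ⧸ L) := by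
    rw [QuotientGroup.mk_mul, (QuotientGroup.eq_one_iff l).mpr hl, mul_one]
  have h2 : ((x : G ⧸ L)) ^ 3 = 1 := by
    rw [← h1, ← QuotientGroup.mk_pow, h3, QuotientGroup.mk_one]
  rw [← QuotientGroup.mk_pow, QuotientGroup.eq_one_iff] at h2
  exact h2

/-- two commuting members of `D` whose product is not in the normal quasisimple subgroup `L`:
impossible -/
theorem TC.mul_mem_of_commute (h : TC D) (L : Subgroup G) [hLn : L.Normal]
    (hLq : IsQuasisimple L) {a b : G} (ha : a ∈ D) (hb : b ∈ D) (hc : Commute a b) :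
    a * b ∈ L := by
  by_contra hnot
  have haa := h.sq ha
  have hbb := h.sq hb
  have hai := h.inv ha
  -- step 1
  have step1 : ∀ g ∈ L, Commute b (g * a * g⁻¹) := by
    intro g hg
    rcases h.hset.2 b hb _ (h.hconj g a ha) with h2' | h3'
    · exact commute_of_sq hbb (h.sq (h.hconj g a ha)) h2'
    · exfalso
      apply hnot
      have hl : a⁻¹ * g * a * g⁻¹ ∈ L := by
        have := hLn.conj_mem g hg a⁻¹
        rw [inv_inv] at this
        exact L.mul_mem this (L.inv_mem hg)
      have e : b * (g * a * g⁻¹) = (b * a) * (a⁻¹ * g * a * g⁻¹) := by group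
      rw [e] at h3'
      have h4 := pow_three_mem_of_mul hl h3'
      have e2 : (b * a) ^ 3 = a * b := by
        rw [pow_succ, pow_two, sq_of_commute hbb haa hc.symm, one_mul, hc.eq]
      rwa [e2] at h4
  -- step 2: the centraliser of the `L`-conjugates of `b`
  obtain ⟨S, hS⟩ : ∃ S : Set G, S = {x | ∃ g ∈ L, x = g * b * g⁻¹} := ⟨_, rfl⟩
  have hSconj : ∀ l ∈ L, ∀ s ∈ S, l⁻¹ * s * l ∈ S := by
    intro l hl s hs
    rw [hS] at hs ⊢
    obtain ⟨g, hg, rfl⟩ := hs
    exact ⟨l⁻¹ * g, L.mul_mem (L.inv_mem hl) hg, by group⟩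
  have hCconj : ∀ l ∈ L, ∀ c ∈ Subgroup.centralizer S, l * c * l⁻¹ ∈ Subgroup.centralizer S := by
    intro l hl c hcC
    rw [Subgroup.mem_centralizer_iff] at hcC ⊢
    intro s hs
    have h1 := hcC _ (hSconj l hl s hs)
    calc s * (l * c * l⁻¹) = l * ((l⁻¹ * s * l) * c) * l⁻¹ := by group
      _ = l * (c * (l⁻¹ * s * l)) * l⁻¹ := by rw [h1]
      _ = l * c * l⁻¹ * s := by group
  have haC : a ∈ Subgroup.centralizer S := by
    rw [Subgroup.mem_centralizer_iff]
    intro s hs
    rw [hS] at hs
    obtain ⟨g, hg, rfl⟩ := hs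
    have := step1 g⁻¹ (L.inv_mem hg)
    rw [inv_inv] at this
    exact ((TT.commute_conj_iff g b a).mpr this).eq
  have hbS : b ∈ S := by
    rw [hS]
    exact ⟨1, L.one_mem, by group⟩
  haveI : ((Subgroup.centralizer S).subgroupOf L).Normal := by
    constructor
    intro n hn g
    rw [Subgroup.mem_subgroupOf] at hn ⊢
    simp only [Subgroup.coe_mul, InvMemClass.coe_inv]
    exact hCconj g.1 g.2 n.1 hn
  rcases IsQuasisimple.normal_eq_top_or_le_center hLq ((Subgroup.centralizer S).subgroupOf L)
    with h1 | h1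
  · rw [Subgroup.subgroupOf_eq_top] at h1
    apply h.not_commute_quasisimple L hLq hb
    intro n hn
    have := h1 hn
    rw [Subgroup.mem_centralizer_iff] at this
    exact this b hbS
  · apply h.not_commute_quasisimple L hLq ha
    apply commute_of_central_comm L (IsQuasisimple.commutator_eq_self hLq) haa
    intro n hn m hm
    have hxL : a * (n * a * n⁻¹) ∈ L := comm_mem_normal L haa hn
    have hxC : a * (n * a * n⁻¹) ∈ Subgroup.centralizer S :=
      (Subgroup.centralizer S).mul_mem haC (hCconj n hn a haC)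
    have hmem : (⟨a * (n * a * n⁻¹), hxL⟩ : ↥L) ∈ (Subgroup.centralizer S).subgroupOf L := by
      rw [Subgroup.mem_subgroupOf]
      exact hxC
    have := Subgroup.mem_center_iff.mp (h1 hmem) ⟨m, hm⟩
    have := congrArg Subtype.val this
    simp only [Subgroup.coe_mul] at this
    exact this.symm

/-- two members of `D` whose commutator lies in the normal quasisimple subgroup `L` have the
same image modulo `L` -/
theorem TC.width_one_mod (h : TC D) (L : Subgroup G) [hLn : L.Normal] (hLq : IsQuasisimple L) :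
    ∀ a ∈ D, ∀ b ∈ D, a * b * a⁻¹ * b⁻¹ ∈ L → a⁻¹ * b ∈ L := by
  intro a ha b hb hab
  have hai := h.inv ha
  have hbi := h.inv hb
  rw [hai]
  by_cases hc : Commute a b
  · exact h.mul_mem_of_commute L hLq ha hb hc
  · have h3 := h.toTT.cube ha hb hc
    rw [hai, hbi] at hab
    have e : a * b = (a * b * a * b)⁻¹ := by
      rw [eq_inv_iff_mul_eq_one]
      calc a * b * (a * b * a * b) = (a * b) ^ 3 := by
            simp only [pow_succ, pow_zero, one_mul, mul_assoc]
        _ = 1 := h3
    rw [e]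
    exact L.inv_mem hab

end Cfsg.Agent.H9TT
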