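import Mathlib
import Cfsg.Prelude
import Cfsg.Agent.Lib.Helper9.TT9l

set_option autoImplicit false

/-!
# Three-transpositions: blocks for the conjugation action
-/

namespace Cfsg.Agent.H9TT

open Cfsg Cfsg.Agent.Lib.Helper9 Cfsg.Agent.Lib.Helper3
open scoped commutatorElement

variable {G : Type*} [Group G] {D : Set G}

/-- the conjugate of a set -/
def cj (g : G) (B : Set G) : Set G := (fun x => g * x * g⁻¹) '' B

theorem mem_cj {g y : G} {B : Set G} : y ∈ cj g B ↔ g⁻¹ * y * g ∈ B := by
  constructor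
  · rintro ⟨x, hx, rfl⟩
    have : g⁻¹ * (g * x * g⁻¹) * g = x := by group
    rw [this]; exact hx
  · intro h
    exact ⟨g⁻¹ * y * g, h, by group⟩

theorem conj_mem_cj {g x : G} {B : Set G} (hx : x ∈ B) : g * x * g⁻¹ ∈ cj g B := ⟨x, hx, rfl⟩

theorem cj_mul (g k : G) (B : Set G) : cj (g * k) B = cj g (cj k B) := by
  ext y
  rw [mem_cj, mem_cj, mem_cj]
  have : (g * k)⁻¹ * y * (g * k) = k⁻¹ * (g⁻¹ * y * g) * k := by group
  rw [this]

theorem cj_one (B : Set G) : cj 1 B = B := by
  ext y
  rw [mem_cj]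
  simp

theorem cj_inv_cj (g : G) (B : Set G) : cj g⁻¹ (cj g B) = B := by
  rw [← cj_mul, inv_mul_cancel, cj_one]

theorem cj_cj_inv (g : G) (B : Set G) : cj g (cj g⁻¹ B) = B := by
  rw [← cj_mul, mul_inv_cancel, cj_one]

theorem cj_injective (g : G) {B B' : Set G} (h : cj g B = cj g B') : B = B' := by
  rw [← cj_inv_cj g B, h, cj_inv_cj]

/-- a block for the conjugation action -/
def Blk (B : Set G) : Prop := ∀ g : G, cj g B = B ∨ Disjoint (cj g B) B

/-- two conjugates of a block sharing a member coincide -/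
theorem Blk.eq_of_mem {B : Set G} (hB : Blk B) {x y u : G} (hx : u ∈ cj x B) (hy : u ∈ cj y B) :
    cj x B = cj y B := by
  rcases hB (y⁻¹ * x) with h1 | h1
  · have : cj x B = cj (y * (y⁻¹ * x)) B := by rw [mul_inv_cancel_left]
    rw [this, cj_mul, h1]
  · exfalso
    rw [Set.disjoint_left] at h1
    apply h1 (a := y⁻¹ * u * y)
    · rw [mem_cj]
      rw [mem_cj] at hx
      have : (y⁻¹ * x)⁻¹ * (y⁻¹ * u * y) * (y⁻¹ * x) = x⁻¹ * u * x := by group
      rw [this]; exact hx
    · rw [mem_cj] at hy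
      exact hy

/-- an involution fixes the conjugate of a block to which it belongs -/
theorem Blk.cj_self {B : Set G} (hB : Blk B) {x u : G} (hx : u ∈ cj x B) :
    cj u (cj x B) = cj x B := by
  rw [← cj_mul]
  apply hB.eq_of_mem (u := u) _ hx
  rw [cj_mul]
  have h1 : u * u * u⁻¹ ∈ cj u (cj x B) := conj_mem_cj hx
  rwa [mul_inv_cancel_right] at h1

/-- the kernel of the action on the conjugates of `B` -/
def Ker (B : Set G) : Subgroup G where
  carrier := {g | ∀ x : G, cj g (cj x B) = cj x B}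
  one_mem' := fun x => cj_one _
  mul_mem' := by
    intro a b ha hb x
    rw [cj_mul, hb x, ha x]
  inv_mem' := by
    intro a ha x
    have := ha x
    calc cj a⁻¹ (cj x B) = cj a⁻¹ (cj a (cj x B)) := by rw [this]
      _ = cj x B := cj_inv_cj _ _

theorem mem_Ker {B : Set G} {g : G} : g ∈ Ker B ↔ ∀ x : G, cj g (cj x B) = cj x B := Iff.rfl

instance Ker_normal (B : Set G) : (Ker B).Normal := by
  constructor
  intro n hn g x
  have e : cj x B = cj g (cj (g⁻¹ * x) B) := by
    rw [← cj_mul, mul_inv_cancel_left]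
  calc cj (g * n * g⁻¹) (cj x B) = cj (g * n * g⁻¹) (cj g (cj (g⁻¹ * x) B)) := by rw [← e]
    _ = cj g (cj n (cj g⁻¹ (cj g (cj (g⁻¹ * x) B)))) := by rw [cj_mul, cj_mul]
    _ = cj g (cj n (cj (g⁻¹ * x) B)) := by rw [cj_inv_cj]
    _ = cj g (cj (g⁻¹ * x) B) := by rw [hn]
    _ = cj x B := e.symm

/-- the action of a member `d` of `D` on the conjugate `B'` of the block `B`, seen through
a member `e` of `B'` -/
theorem TT.cj_of_commute (h : TT D) {B : Set G} (hB : Blk B) {x d e : G}
    (he : e ∈ cj x B) (hc : Commute d e) : cj d (cj x B) = cj x B := by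
  rw [← cj_mul]
  apply hB.eq_of_mem (u := e) _ he
  rw [cj_mul]
  have : e = d * e * d⁻¹ := by rw [hc.eq]; group
  rw [this]
  exact conj_mem_cj he

theorem TT.cj_of_not_commute (h : TT D) {B : Set G} (hB : Blk B) (hBD : B ⊆ D) {x y d e : G}
    (hd : d ∈ cj y B) (he : e ∈ cj x B) (hc : ¬ Commute d e) :
    cj d (cj x B) = cj e (cj y B) := by
  have hdD : d ∈ D := by
    obtain ⟨z, hz, rfl⟩ := hd
    exact h.hconj _ z (hBD hz)
  have heD : e ∈ D := by
    obtain ⟨z, hz, rfl⟩ := he
    exact h.hconj _ z (hBD hz)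
  rw [← cj_mul, ← cj_mul]
  apply hB.eq_of_mem (u := d * e * d⁻¹)
  · rw [cj_mul]; exact conj_mem_cj he
  · rw [cj_mul]
    have : d * e * d⁻¹ = e * d * e⁻¹ := by
      rw [h.inv hdD, h.inv heD]
      exact h.braid hdD heD hc
    rw [this]
    exact conj_mem_cj hd

/-- the product of two members of a block acts trivially on the conjugates of the block -/
theorem TT.mul_mem_Ker (h : TT D) {B : Set G} (hB : Blk B) (hBD : B ⊆ D) {a b : G}
    (ha : a ∈ B) (hb : b ∈ B) : a * b ∈ Ker B := by
  rw [mem_Ker]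
  intro x
  have haB : a ∈ cj 1 B := by rw [cj_one]; exact ha
  have hbB : b ∈ cj 1 B := by rw [cj_one]; exact hb
  have hai := h.inv (hBD ha)
  -- it suffices that `a` and `b` act in the same way
  suffices hs : cj a (cj x B) = cj b (cj x B) by
    rw [cj_mul, ← hs, ← cj_mul, h.sq (hBD ha), cj_one]
  obtain ⟨e, he⟩ : ∃ e, e ∈ cj x B := ⟨x * a * x⁻¹, conj_mem_cj ha⟩
  by_cases hca : Commute a e
  · by_cases hcb : Commute b e
    · rw [h.cj_of_commute hB he hca, h.cj_of_commute hB he hcb]
    · rw [h.cj_of_commute hB he hca, h.cj_of_not_commute hB hBD hbB he hcb]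
      -- `cj e B` contains `a`
      have h1 : cj e (cj 1 B) = cj 1 B := by
        rw [← cj_mul]
        apply hB.eq_of_mem (u := a) _ haB
        rw [cj_mul]
        have : a = e * a * e⁻¹ := by rw [← hca.eq]; group
        rw [this]
        exact conj_mem_cj haB
      rw [h1]
      -- hence `b` maps `cj x B` to `B`
      have h2 : cj b (cj x B) = cj 1 B := by
        rw [h.cj_of_not_commute hB hBD hbB he hcb, h1]
      have h3 : cj b (cj 1 B) = cj 1 B := hB.cj_self hbB
      rw [← h3] at h2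
      exact cj_injective b h2
  · by_cases hcb : Commute b e
    · rw [h.cj_of_commute hB he hcb, h.cj_of_not_commute hB hBD haB he hca]
      have h1 : cj e (cj 1 B) = cj 1 B := by
        rw [← cj_mul]
        apply hB.eq_of_mem (u := b) _ hbB
        rw [cj_mul]
        have : b = e * b * e⁻¹ := by rw [← hcb.eq]; group
        rw [this]
        exact conj_mem_cj hbB
      rw [h1]
      have h2 : cj a (cj x B) = cj 1 B := by
        rw [h.cj_of_not_commute hB hBD haB he hca, h1]
      have h3 : cj a (cj 1 B) = cj 1 B := hB.cj_self haB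
      rw [← h3] at h2
      exact (cj_injective a h2).symm
    · rw [h.cj_of_not_commute hB hBD haB he hca, h.cj_of_not_commute hB hBD hbB he hcb]

end Cfsg.Agent.H9TT
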