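import Mathlib
import Cfsg.Prelude
import Cfsg.Agent.Lib.Helper9.TT9m

set_option autoImplicit false

/-!
# Three-transpositions: normal subgroups contain the component or are central
-/

namespace Cfsg.Agent.H9TT

open Cfsg Cfsg.Agent.Lib.Helper9 Cfsg.Agent.Lib.Helper3
open scoped commutatorElement

variable {G : Type*} [Group G] {D : Set G}

/-- a normal subgroup contains the quasisimple normal subgroup `L` or is central -/
theorem TC.normal_dichotomy [Finite G] (h : TC D) (hne : D.Nonempty)
    (h2 : pCore 2 G ≤ Subgroup.center G) (h3 : pCore 3 G ≤ Subgroup.center G)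
    (L : Subgroup G) [hLn : L.Normal] (hL : IsQuasisimple L)
    (hF : generalizedFittingSubgroup G = L ⊔ Subgroup.center G)
    (K : Subgroup G) [hKn : K.Normal] : L ≤ K ∨ K ≤ Subgroup.center G := by
  have hLc : IsComponent L := ⟨hLn.isSubnormal, hL⟩
  rcases IsComponent.le_or_commutator_eq_bot_of_isSubnormal hLc hKn.isSubnormal with h1 | h1
  · exact Or.inl h1
  · right
    rw [Subgroup.commutator_comm, Subgroup.commutator_eq_bot_iff_le_centralizer] at h1
    refine h1.trans ?_
    obtain ⟨C, hC⟩ : ∃ C : Subgroup G, C = Subgroup.centralizer (L : Set G) := ⟨_, rfl⟩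
    rw [← hC]
    haveI : C.Normal := by rw [hC]; infer_instance
    have hLC : L ⊔ Subgroup.center G ≤ Subgroup.centralizer (C : Set G) := by
      apply sup_le
      · rw [Subgroup.le_centralizer_iff, hC]
      · exact Subgroup.center_le_centralizer _
    have hCF : C ≤ L ⊔ Subgroup.center G := by
      rw [← hF]
      refine le_trans ?_ (centralizer_generalizedFittingSubgroup_le (G := G))
      rw [hF, Subgroup.le_centralizer_iff]
      exact hLC
    have hnil : Group.IsNilpotent C := isNilpotent_of_le_centralizer (hCF.trans hLC)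
    rw [← h.fitting_eq_center hne h2 h3]
    exact le_sSup ⟨inferInstance, hnil⟩

/-- two members of `D` whose product is central coincide -/
theorem TC.eq_of_mul_mem_center (h : TC D) (hD2 : ∃ a ∈ D, ∃ b ∈ D, a ≠ b) {a b : G}
    (ha : a ∈ D) (hb : b ∈ D) (hz : a * b ∈ Subgroup.center G) : a = b := by
  have haa := h.sq ha
  have hbb := h.sq hb
  have hai := h.inv ha
  -- a member of `D` not commuting with `a`
  obtain ⟨e, he, hnc⟩ : ∃ e ∈ D, ¬ Commute e a := by
    by_contra hcon
    push Not at hcon
    exact h.not_mem_center hD2 ha (h.mem_center hcon)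
  obtain ⟨z, hzd⟩ : ∃ z, z = a * b := ⟨_, rfl⟩
  rw [← hzd] at hz
  rw [Subgroup.mem_center_iff] at hz
  have hbz : b = z * a := by
    rw [← hz a, hzd]
    calc b = (a * a) * b := by rw [haa, one_mul]
      _ = a * (a * b) := by group
  have hzz : z * z = 1 := by
    have : b * b = (z * z) * (a * a) := by
      rw [hbz]
      calc z * a * (z * a) = z * (a * z) * a := by group
        _ = z * (z * a) * a := by rw [hz a]
        _ = z * z * (a * a) := by group
    rw [hbb, haa, mul_one] at this
    exact this.symm
  have hcz : Commute z (a * e) := (hz (a * e)).symm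
  have hbe : b * e = z * (a * e) := by rw [hbz]; group
  rcases h.hset.2 b hb e he with h2' | h3'
  · exfalso
    rw [hbe, hcz.mul_pow, pow_two z, hzz, one_mul] at h2'
    exact hnc (commute_of_sq haa (h.sq he) h2').symm
  · have h3a : (a * e) ^ 3 = 1 := h.toTT.cube ha he (fun hc => hnc hc.symm)
    rw [hbe, hcz.mul_pow, h3a, mul_one, pow_succ, pow_two, hzz, one_mul] at h3'
    rw [hbz, h3', one_mul]

/-- if all of `D` lies in one coset of the normal subgroup `N` then `N` has index at most two -/
theorem TC.index_le_two [Finite G] (h : TC D) (N : Subgroup G) [hN : N.Normal] {d : G} (hd : d ∈ D)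
    (hall : ∀ e ∈ D, d * e ∈ N) : N.index ≤ 2 := by
  have hdd := h.sq hd
  have hdi := h.inv hd
  have hpi : ∀ e ∈ D, ((e : G) : G ⧸ N) = ((d : G) : G ⧸ N) := by
    intro e he
    rw [eq_comm, QuotientGroup.eq, hdi]
    exact hall e he
  have hsq : ((d : G) : G ⧸ N) * ((d : G) : G ⧸ N) = 1 := by
    rw [← QuotientGroup.mk_mul, hdd, QuotientGroup.mk_one]
  have hinv : ((d : G) : G ⧸ N)⁻¹ = ((d : G) : G ⧸ N) := inv_eq_of_mul_eq_one_right hsq
  have key : ∀ g : G, ((g : G) : G ⧸ N) = 1 ∨ ((g : G) : G ⧸ N) = ((d : G) : G ⧸ N) := by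
    intro g
    have hg : g ∈ Subgroup.closure D := by rw [h.hgen]; exact Subgroup.mem_top g
    induction hg using Subgroup.closure_induction with
    | mem x hx => exact Or.inr (hpi x hx)
    | one => exact Or.inl (QuotientGroup.mk_one N)
    | mul x y _ _ hx hy =>
      rw [QuotientGroup.mk_mul]
      rcases hx with hx | hx <;> rcases hy with hy | hy <;> rw [hx, hy]
      · left; rw [one_mul]
      · right; rw [one_mul]
      · right; rw [mul_one]
      · left; exact hsq
    | inv x _ hx =>
      rw [QuotientGroup.mk_inv]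
      rcases hx with hx | hx <;> rw [hx]
      · left; rw [inv_one]
      · right; exact hinv
  rw [Subgroup.index_eq_card]
  have hsurj : Function.Surjective (fun i : Fin 2 => if i = 0 then (1 : G ⧸ N) else ((d : G) : G ⧸ N)) := by
    intro q
    induction q using QuotientGroup.induction_on with
    | H g =>
      rcases key g with hg | hg
      · exact ⟨0, by simp [hg]⟩
      · exact ⟨1, by simp [hg]⟩
  have := Nat.card_le_card_of_surjective _ hsurj
  simpa using this

end Cfsg.Agent.H9TT
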