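import Mathlib
import Cfsg.Prelude
import Cfsg.Agent.Lib.Helper9.TT9n

set_option autoImplicit false

/-!
# Three-transpositions: primitivity of the conjugation action on `D`
-/

namespace Cfsg.Agent.H9TT

open Cfsg Cfsg.Agent.Lib.Helper9 Cfsg.Agent.Lib.Helper3
open scoped commutatorElement

variable {G : Type*} [Group G] {D : Set G}

/-- members of `D` joined in the commuting graph agree modulo `L` -/
theorem TC.mul_mem_of_reachable (h : TC D) (L : Subgroup G) [hLn : L.Normal]
    (hLq : IsQuasisimple L) {u v : D} (hr : (commutingGraph D).Reachable u v) :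
    (u : G) * (v : G) ∈ L := by
  obtain ⟨w⟩ := hr
  induction w with
  | nil =>
    rename_i u
    rw [h.sq u.2]; exact L.one_mem
  | cons hadj p ih =>
    rename_i u w v
    have hc : Commute (u : G) (w : G) := by
      unfold commutingGraph at hadj
      rw [SimpleGraph.fromRel_adj] at hadj
      rcases hadj.2 with hc | hc
      · exact hc
      · exact hc.symm
    have h1 := h.mul_mem_of_commute L hLq u.2 w.2 hc
    have e : (u : G) * (v : G) = ((u : G) * (w : G)) * ((w : G) * (v : G)) := by
      calc (u : G) * (v : G) = (u : G) * 1 * (v : G) := by rw [mul_one]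
        _ = (u : G) * ((w : G) * (w : G)) * (v : G) := by rw [h.sq w.2]
        _ = ((u : G) * (w : G)) * ((w : G) * (v : G)) := by group
    rw [e]
    exact L.mul_mem h1 ih

/-- if the commuting graph is connected then `L` has index at most two -/
theorem TC.index_le_two_of_connected [Finite G] (h : TC D) (L : Subgroup G) [hLn : L.Normal]
    (hLq : IsQuasisimple L) (hconn : (commutingGraph D).Connected) : L.index ≤ 2 := by
  obtain ⟨d⟩ := hconn.nonempty
  apply h.index_le_two L d.2
  intro e he
  exact h.mul_mem_of_reachable L hLq (hconn.preconnected d ⟨e, he⟩)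

/-- a normal subgroup of index at most two and a member `a` of `D` -/
theorem TC.mem_or_mul_mem [Finite G] (h : TC D) (L : Subgroup G) [hLn : L.Normal]
    (hidx : L.index ≤ 2) {a : G} (ha : a ∈ D) (g : G) : g ∈ L ∨ a * g ∈ L := by
  by_cases haL : a ∈ L
  · left
    have : L = ⊤ := by
      rw [eq_top_iff, ← h.hgen, Subgroup.closure_le]
      intro e he
      obtain ⟨x, rfl⟩ := h.hclass a ha e he
      exact hLn.conj_mem a haL x
    rw [this]; exact Subgroup.mem_top g
  · have h1 : L.index ≠ 1 := by
      rw [Ne, Subgroup.index_eq_one]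
      rintro rfl
      exact haL (Subgroup.mem_top a)
    have h0 : L.index ≠ 0 := Subgroup.index_ne_zero_of_finite
    have h2 : L.index = 2 := by omega
    by_cases hg : g ∈ L
    · exact Or.inl hg
    · right
      rw [Subgroup.mul_mem_iff_of_index_two h2]
      exact ⟨fun h' => (haL h').elim, fun h' => (hg h').elim⟩

/-- **primitivity** -/
theorem TC.primitive [Finite G] (h : TC D) (hD2 : ∃ a ∈ D, ∃ b ∈ D, a ≠ b)
    (h2 : pCore 2 G ≤ Subgroup.center G) (h3 : pCore 3 G ≤ Subgroup.center G)
    (L : Subgroup G) [hLn : L.Normal] (hL : IsQuasisimple L)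
    (hF : generalizedFittingSubgroup G = L ⊔ Subgroup.center G) (hidx : L.index ≤ 2) :
    IsPrimitiveUnderConj D := by
  refine ⟨h.hclass, hD2, ?_⟩
  intro B hBD hblk
  have hB : Blk B := hblk
  by_contra hcon
  push Not at hcon
  obtain ⟨hns, hBne⟩ := hcon
  obtain ⟨a, ha, b, hb, hab⟩ := hns
  have hne : D.Nonempty := ⟨a, hBD ha⟩
  have hK := h.toTT.mul_mem_Ker hB hBD ha hb
  rcases h.normal_dichotomy hne h2 h3 L hL hF (Ker B) with h1 | h1
  · apply hBne
    apply Set.Subset.antisymm hBD
    intro e he
    obtain ⟨g, rfl⟩ := h.hclass a (hBD ha) e he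
    have haB : a ∈ cj 1 B := by rw [cj_one]; exact ha
    have hcg : cj g B = B := by
      rcases h.mem_or_mul_mem L hidx (hBD ha) g with hg | hg
      · have := (mem_Ker.mp (h1 hg)) 1
        rwa [cj_one] at this
      · have h4 := (mem_Ker.mp (h1 hg)) 1
        rw [cj_one] at h4
        have h5 : cj a (cj 1 B) = cj 1 B := hB.cj_self haB
        rw [cj_one] at h5
        have e : g = a * (a * g) := by
          rw [← mul_assoc, h.sq (hBD ha), one_mul]
        rw [e, cj_mul, h4, h5]
    rw [← hcg]
    exact conj_mem_cj ha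
  · exact hab (h.eq_of_mul_mem_center hD2 (hBD ha) (hBD hb) (h1 hK))

end Cfsg.Agent.H9TT
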