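import Mathlib
import Cfsg.Prelude
import Cfsg.Agent.Lib.Helper9.TT9o

set_option autoImplicit false

/-!
# Three-transpositions: blocks from cosets of normal subgroups and from the commuting graph
-/

namespace Cfsg.Agent.H9TT

open Cfsg Cfsg.Agent.Lib.Helper9 Cfsg.Agent.Lib.Helper3
open scoped commutatorElement

variable {G : Type*} [Group G] {D : Set G}

theorem TT.hconj' (h : TT D) (g y : G) (hy : y ∈ D) : g⁻¹ * y * g ∈ D := by
  have := h.hconj g⁻¹ y hy
  rwa [inv_inv] at this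

/-- the members of `D` in the coset `a N` -/
def cosetBlock (D : Set G) (N : Subgroup G) (a : G) : Set G := {e | e ∈ D ∧ a * e ∈ N}

theorem cosetBlock_subset (N : Subgroup G) (a : G) : cosetBlock D N a ⊆ D := fun _ he => he.1

theorem TT.self_mem_cosetBlock (h : TT D) (N : Subgroup G) {a : G} (ha : a ∈ D) :
    a ∈ cosetBlock D N a := ⟨ha, by rw [h.sq ha]; exact N.one_mem⟩

theorem TT.cosetBlock_blk (h : TT D) (N : Subgroup G) [hN : N.Normal] {a : G} (ha : a ∈ D) :
    Blk (cosetBlock D N a) := by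
  intro g
  by_cases hdis : Disjoint (cj g (cosetBlock D N a)) (cosetBlock D N a)
  · exact Or.inr hdis
  · left
    rw [Set.not_disjoint_iff] at hdis
    obtain ⟨u, hu1, hu2⟩ := hdis
    rw [mem_cj] at hu1
    have hai := h.inv ha
    -- `g a g⁻¹ a⁻¹ ∈ N`
    have h1 : g * a * g⁻¹ * u ∈ N := by
      have := hN.conj_mem _ hu1.2 g
      have e : g * (a * (g⁻¹ * u * g)) * g⁻¹ = g * a * g⁻¹ * u := by group
      rwa [e] at this
    have h2 : g * a * g⁻¹ * a ∈ N := by
      have := N.mul_mem h1 (N.inv_mem hu2.2)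
      have e : g * a * g⁻¹ * u * (a * u)⁻¹ = g * a * g⁻¹ * a⁻¹ := by group
      rwa [e, hai] at this
    ext y
    rw [mem_cj]
    constructor
    · rintro ⟨hy1, hy2⟩
      have hyD : y ∈ D := by
        have := h.hconj g _ hy1
        have e : g * (g⁻¹ * y * g) * g⁻¹ = y := by group
        rwa [e] at this
      refine ⟨hyD, ?_⟩
      have h3 : g * a * g⁻¹ * y ∈ N := by
        have := hN.conj_mem _ hy2 g
        have e : g * (a * (g⁻¹ * y * g)) * g⁻¹ = g * a * g⁻¹ * y := by group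
        rwa [e] at this
      have := N.mul_mem (N.inv_mem h2) h3
      have e : (g * a * g⁻¹ * a)⁻¹ * (g * a * g⁻¹ * y) = a⁻¹ * y := by group
      rwa [e, hai] at this
    · rintro ⟨hy1, hy2⟩
      refine ⟨h.hconj' g y hy1, ?_⟩
      have h3 : g * a * g⁻¹ * y ∈ N := by
        have := N.mul_mem h2 hy2
        have e : g * a * g⁻¹ * a * (a * y) = g * a * g⁻¹ * (a * a) * y := by group
        rwa [e, h.sq ha, mul_one] at this
      have := hN.conj_mem _ h3 g⁻¹
      have e : g⁻¹ * (g * a * g⁻¹ * y) * g⁻¹⁻¹ = a * (g⁻¹ * y * g) := by group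
      rwa [e] at this

/-- conjugation as an endomorphism of the commuting graph -/
def TT.conjHom (h : TT D) (g : G) : commutingGraph D →g commutingGraph D where
  toFun u := ⟨g * u * g⁻¹, h.hconj g u u.2⟩
  map_rel' := by
    intro u v hadj
    unfold commutingGraph at hadj ⊢
    rw [SimpleGraph.fromRel_adj] at hadj ⊢
    refine ⟨?_, ?_⟩
    · intro e
      apply hadj.1
      have := congrArg Subtype.val e
      simp only [mul_left_inj, mul_right_inj] at this
      exact Subtype.ext this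
    · have hc : Commute (u : G) (v : G) := by
        rcases hadj.2 with hc | hc
        · exact hc
        · exact hc.symm
      left
      show g * u * g⁻¹ * (g * v * g⁻¹) = g * v * g⁻¹ * (g * u * g⁻¹)
      calc g * u * g⁻¹ * (g * v * g⁻¹) = g * ((u : G) * v) * g⁻¹ := by group
        _ = g * ((v : G) * u) * g⁻¹ := by rw [hc.eq]
        _ = g * v * g⁻¹ * (g * u * g⁻¹) := by group

/-- the members of `D` joined to `a` in the commuting graph -/
def compBlock (D : Set G) (a : G) : Set G :=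
  {e | ∃ (ha : a ∈ D) (he : e ∈ D), (commutingGraph D).Reachable ⟨a, ha⟩ ⟨e, he⟩}

theorem compBlock_subset (a : G) : compBlock D a ⊆ D := fun _ he => he.2.1

theorem self_mem_compBlock {a : G} (ha : a ∈ D) : a ∈ compBlock D a :=
  ⟨ha, ha, SimpleGraph.Reachable.refl _⟩

theorem TT.reachable_conj (h : TT D) (g : G) {u v : G} (hu : u ∈ D) (hv : v ∈ D)
    (hr : (commutingGraph D).Reachable ⟨u, hu⟩ ⟨v, hv⟩) :
    (commutingGraph D).Reachable ⟨g * u * g⁻¹, h.hconj g u hu⟩ ⟨g * v * g⁻¹, h.hconj g v hv⟩ :=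
  hr.map (h.conjHom g)

theorem TT.compBlock_blk (h : TT D) {a : G} (ha : a ∈ D) : Blk (compBlock D a) := by
  intro g
  by_cases hdis : Disjoint (cj g (compBlock D a)) (compBlock D a)
  · exact Or.inr hdis
  · left
    rw [Set.not_disjoint_iff] at hdis
    obtain ⟨u, hu1, hu2⟩ := hdis
    rw [mem_cj] at hu1
    obtain ⟨_, hu1D, hr1⟩ := hu1
    obtain ⟨_, huD, hr2⟩ := hu2
    -- `g a g⁻¹` is joined to `u`, hence to `a`
    have hr3 := h.reachable_conj g ha hu1D hr1
    have e1 : (⟨g * (g⁻¹ * u * g) * g⁻¹, h.hconj g _ hu1D⟩ : D) = ⟨u, huD⟩ := by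
      apply Subtype.ext
      show g * (g⁻¹ * u * g) * g⁻¹ = u
      group
    rw [e1] at hr3
    have hr4 : (commutingGraph D).Reachable ⟨a, ha⟩ ⟨g * a * g⁻¹, h.hconj g a ha⟩ :=
      hr2.trans hr3.symm
    ext y
    rw [mem_cj]
    constructor
    · rintro ⟨_, hy1, hry⟩
      have hyD : y ∈ D := by
        have := h.hconj g _ hy1
        have e : g * (g⁻¹ * y * g) * g⁻¹ = y := by group
        rwa [e] at this
      refine ⟨ha, hyD, ?_⟩
      have hr5 := h.reachable_conj g ha hy1 hry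
      have e2 : (⟨g * (g⁻¹ * y * g) * g⁻¹, h.hconj g _ hy1⟩ : D) = ⟨y, hyD⟩ := by
        apply Subtype.ext
        show g * (g⁻¹ * y * g) * g⁻¹ = y
        group
      rw [e2] at hr5
      exact hr4.trans hr5
    · rintro ⟨_, hyD, hry⟩
      refine ⟨ha, h.hconj' g y hyD, ?_⟩
      have hr5 := h.reachable_conj g⁻¹ (h.hconj g a ha) hyD (hr4.symm.trans hry)
      have e2 : (⟨g⁻¹ * (g * a * g⁻¹) * g⁻¹⁻¹, h.hconj g⁻¹ _ (h.hconj g a ha)⟩ : D) = ⟨a, ha⟩ := by
        apply Subtype.ext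
        show g⁻¹ * (g * a * g⁻¹) * g⁻¹⁻¹ = a
        group
      have e3 : (⟨g⁻¹ * y * g⁻¹⁻¹, h.hconj g⁻¹ _ hyD⟩ : D) = ⟨g⁻¹ * y * g, h.hconj' g y hyD⟩ := by
        apply Subtype.ext
        show g⁻¹ * y * g⁻¹⁻¹ = g⁻¹ * y * g
        rw [inv_inv]
      rw [e2, e3] at hr5
      exact hr5

end Cfsg.Agent.H9TT
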