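import Mathlib
import Cfsg.Prelude
import Cfsg.Agent.Lib.Helper9.TT9p

set_option autoImplicit false

/-!
# Three-transpositions: consequences of primitivity
-/

namespace Cfsg.Agent.H9TT

open Cfsg Cfsg.Agent.Lib.Helper9 Cfsg.Agent.Lib.Helper3
open scoped commutatorElement

variable {G : Type*} [Group G] {D : Set G}

/-- if `D` lies in one coset of the `2`-core then the centre is not trivial -/
theorem TC.center_ne_bot_of_two_coset [Finite G] (h : TC D) (hD2 : ∃ a ∈ D, ∃ b ∈ D, a ≠ b)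
    {a : G} (ha : a ∈ D) (hall : ∀ e ∈ D, a * e ∈ pCore 2 G) : Subgroup.center G ≠ ⊥ := by
  haveI := pCore_normal' (G := G) 2
  haveI : Fact (Nat.Prime 2) := ⟨Nat.prime_two⟩
  have hidx := h.index_le_two (pCore 2 G) ha hall
  have h0 : (pCore 2 G).index ≠ 0 := Subgroup.index_ne_zero_of_finite
  obtain ⟨k, hk⟩ := IsPGroup.iff_card.mp (pCore_isPGroup' (G := G) 2)
  have hcard := Subgroup.card_mul_index (pCore 2 G)
  have hP : IsPGroup 2 G := by
    have : (pCore 2 G).index = 1 ∨ (pCore 2 G).index = 2 := by omega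
    rcases this with e | e
    · apply IsPGroup.of_card (n := k)
      rw [← hcard, hk, e, mul_one]
    · apply IsPGroup.of_card (n := k + 1)
      rw [← hcard, hk, e, pow_succ]
  haveI : Nontrivial G := by
    obtain ⟨x, -, y, -, hxy⟩ := hD2
    exact ⟨⟨x, y, hxy⟩⟩
  have := hP.center_nontrivial
  rwa [Subgroup.nontrivial_iff_ne_bot] at this

/-- a block with two members is all of `D` -/
theorem eq_of_primitive (hprim : IsPrimitiveUnderConj D) {B : Set G} (hBD : B ⊆ D) (hB : Blk B)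
    {a b : G} (ha : a ∈ B) (hb : b ∈ B) (hab : a ≠ b) : B = D := by
  rcases hprim.2.2 B hBD hB with h1 | h1
  · exact (hab (h1 ha hb)).elim
  · exact h1

/-- primitivity, trivial centre: the `2`-core is trivial -/
theorem TC.pCore_two_eq_bot [Finite G] (h : TC D) (hZ : Subgroup.center G = ⊥)
    (hprim : IsPrimitiveUnderConj D) : pCore 2 G = ⊥ := by
  by_contra hne
  haveI := pCore_normal' (G := G) 2
  have hD2 := hprim.2.1
  obtain ⟨a, ha, -⟩ := id hD2
  have hnc : ¬ pCore 2 G ≤ Subgroup.center G := by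
    rw [hZ, le_bot_iff]; exact hne
  obtain ⟨n, hn, hna⟩ := h.exists_conj_ne (pCore 2 G) ha hnc
  have hB := eq_of_primitive hprim (cosetBlock_subset (pCore 2 G) a)
    (h.toTT.cosetBlock_blk (pCore 2 G) ha) (h.toTT.self_mem_cosetBlock (pCore 2 G) ha)
    (b := n * a * n⁻¹) ⟨h.hconj n a ha, comm_mem_normal (pCore 2 G) (h.sq ha) hn⟩
    (fun e => hna e.symm)
  apply h.center_ne_bot_of_two_coset hD2 ha _ hZ
  intro e he
  rw [← hB] at he
  exact he.2

/-- primitivity, trivial centre, a commuting pair: the `3`-core is trivial -/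
theorem TC.pCore_three_eq_bot [Finite G] (h : TC D) (hZ : Subgroup.center G = ⊥)
    (hw : ∃ a ∈ D, ∃ b ∈ D, a ≠ b ∧ Commute a b)
    (hprim : IsPrimitiveUnderConj D) : pCore 3 G = ⊥ := by
  by_contra hne
  haveI := pCore_normal' (G := G) 3
  obtain ⟨a, ha, b, hb, hab, hc⟩ := hw
  have hnc : ¬ pCore 3 G ≤ Subgroup.center G := by
    rw [hZ, le_bot_iff]; exact hne
  obtain ⟨n, hn, hna⟩ := h.exists_conj_ne (pCore 3 G) ha hnc
  have hB := eq_of_primitive hprim (cosetBlock_subset (pCore 3 G) a)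
    (h.toTT.cosetBlock_blk (pCore 3 G) ha) (h.toTT.self_mem_cosetBlock (pCore 3 G) ha)
    (b := n * a * n⁻¹) ⟨h.hconj n a ha, comm_mem_normal (pCore 3 G) (h.sq ha) hn⟩
    (fun e => hna e.symm)
  rw [← hB] at hb
  apply hab
  exact (eq_of_mul_eq_one_inv (h.sq ha)
    (eq_one_of_sq_of_mem_pCore_three (sq_of_commute (h.sq ha) (h.sq hb.1) hc) hb.2)).symm

/-- primitivity, a commuting pair: the commuting graph is connected -/
theorem TC.connected_of_primitive (h : TC D)
    (hw : ∃ a ∈ D, ∃ b ∈ D, a ≠ b ∧ Commute a b)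
    (hprim : IsPrimitiveUnderConj D) : (commutingGraph D).Connected := by
  obtain ⟨a, ha, b, hb, hab, hc⟩ := hw
  have hbB : b ∈ compBlock D a := by
    refine ⟨ha, hb, SimpleGraph.Adj.reachable ?_⟩
    unfold commutingGraph
    rw [SimpleGraph.fromRel_adj]
    exact ⟨fun e => hab (congrArg Subtype.val e), Or.inl hc⟩
  have hB := eq_of_primitive hprim (compBlock_subset a) (h.toTT.compBlock_blk ha)
    (self_mem_compBlock ha) hbB hab
  haveI : Nonempty D := ⟨⟨a, ha⟩⟩
  refine ⟨?_⟩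
  intro u v
  have hu : (u : G) ∈ compBlock D a := by rw [hB]; exact u.2
  have hv : (v : G) ∈ compBlock D a := by rw [hB]; exact v.2
  obtain ⟨_, _, hru⟩ := hu
  obtain ⟨_, _, hrv⟩ := hv
  exact hru.symm.trans hrv

end Cfsg.Agent.H9TT
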