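import Mathlib
import Cfsg.Prelude
import Cfsg.Agent.Lib.Helper9.TT9q

set_option autoImplicit false

/-!
# Three-transpositions: primitivity and simplicity of the commutator subgroup
-/

namespace Cfsg.Agent.H9TT

open Cfsg Cfsg.Agent.Lib.Helper9 Cfsg.Agent.Lib.Helper3
open scoped commutatorElement

variable {G : Type*} [Group G] {D : Set G}

/-- primitive, trivial centre, a commuting pair: the commutator subgroup is simple -/
theorem TC.simple_of_primitive [Finite G] (h : TC D) (hZ : Subgroup.center G = ⊥)
    (hw : ∃ a ∈ D, ∃ b ∈ D, a ≠ b ∧ Commute a b)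
    (hprim : IsPrimitiveUnderConj D) : IsSimpleGroup ↥(commutator G) := by
  have h2 : pCore 2 G ≤ Subgroup.center G := by rw [h.pCore_two_eq_bot hZ hprim]; exact bot_le
  have h3 : pCore 3 G ≤ Subgroup.center G := by
    rw [h.pCore_three_eq_bot hZ hw hprim]; exact bot_le
  have hD2 := hprim.2.1
  obtain ⟨a, ha, -⟩ := id hD2
  have hne : D.Nonempty := ⟨a, ha⟩
  obtain ⟨hcomp, hFs⟩ := h.layer_quasisimple hD2 h2 h3
  haveI := h.component_normal hcomp
  have hconn := h.connected_of_primitive hw hprim
  have hidx := h.index_le_two_of_connected (layer G) hcomp.2 hconn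
  have hcz : Subgroup.center ↥(layer G) = ⊥ := by
    have := center_layer_map_subtype (G := G)
    rw [h.fitting_eq_center hne h2 h3, hZ, bot_inf_eq] at this
    exact (Subgroup.map_eq_bot_iff_of_injective _ (Subgroup.subtype_injective _)).mp this
  have e : commutator G = layer G := by
    apply le_antisymm
    · apply Subgroup.Normal.commutator_le_of_self_sup_commutative_eq_top
        (H := Subgroup.zpowers a) _ inferInstance
      rw [eq_top_iff]
      intro g _
      rcases h.mem_or_mul_mem (layer G) hidx ha g with hg | hg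
      · exact Subgroup.mem_sup_left hg
      · have e1 : g = a⁻¹ * (a * g) := by group
        rw [e1, sup_comm]
        exact Subgroup.mul_mem_sup (Subgroup.inv_mem _ (Subgroup.mem_zpowers a)) hg
    · rw [commutator_def, ← commutator_layer_layer]
      exact Subgroup.commutator_mono le_top le_top
  rw [e]
  haveI : IsSimpleGroup (↥(layer G) ⧸ Subgroup.center ↥(layer G)) := hcomp.2.2
  exact MulEquiv.isSimpleGroup
    ((QuotientGroup.quotientBot).symm.trans (QuotientGroup.quotientMulEquivOfEq hcz.symm))

/-- a simple normal subgroup `S`: another normal subgroup contains it or meets it trivially -/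
theorem simple_le_or_disjoint (S N : Subgroup G) [hs : IsSimpleGroup ↥S] [hN : N.Normal] :
    S ≤ N ∨ Disjoint N S := by
  have hn : (N.subgroupOf S).Normal := inferInstance
  rcases hn.eq_bot_or_eq_top with h1 | h1
  · right
    rwa [Subgroup.subgroupOf_eq_bot] at h1
  · left
    rwa [Subgroup.subgroupOf_eq_top] at h1

/-- simple commutator subgroup, trivial centre, a commuting pair: primitive -/
theorem TC.primitive_of_simple [Finite G] (h : TC D) (hZ : Subgroup.center G = ⊥)
    (hw : ∃ a ∈ D, ∃ b ∈ D, a ≠ b ∧ Commute a b)
    (hs : IsSimpleGroup ↥(commutator G)) : IsPrimitiveUnderConj D := by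
  obtain ⟨a, ha, b, hb, hab, hc⟩ := id hw
  have hD2 : ∃ a ∈ D, ∃ b ∈ D, a ≠ b := ⟨a, ha, b, hb, hab⟩
  have hne : D.Nonempty := ⟨a, ha⟩
  have hmulS : ∀ e ∈ D, ∀ e' ∈ D, e * e' ∈ commutator G := by
    intro e he e' he'
    obtain ⟨g, rfl⟩ := h.hclass e he e' he'
    have : e * (g * e * g⁻¹) = ⁅e, g⁆ := by
      rw [commutatorElement_def, h.inv he]; group
    rw [this, commutator_def]
    exact Subgroup.commutator_mem_commutator (Subgroup.mem_top e) (Subgroup.mem_top g)
  -- a normal subgroup contains the commutator subgroup or is central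
  have dich : ∀ N : Subgroup G, N.Normal → commutator G ≤ N ∨ N ≤ Subgroup.center G := by
    intro N hN
    haveI := hN
    rcases simple_le_or_disjoint (commutator G) N with h1 | h1
    · exact Or.inl h1
    · right
      apply h.le_center_of_commute N ha
      intro n hn
      have h4 : a * n * a⁻¹ * n⁻¹ ∈ N := N.mul_mem (hN.conj_mem n hn a) (N.inv_mem hn)
      have h5 : a * n * a⁻¹ * n⁻¹ ∈ commutator G := by
        rw [← commutatorElement_def, commutator_def]
        exact Subgroup.commutator_mem_commutator (Subgroup.mem_top a) (Subgroup.mem_top n)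
      have h6 := (Subgroup.disjoint_def.mp h1) h4 h5
      show a * n = n * a
      calc a * n = (a * n * a⁻¹ * n⁻¹) * (n * a) := by group
        _ = n * a := by rw [h6, one_mul]
  have h3 : pCore 3 G ≤ Subgroup.center G := by
    rcases dich (pCore 3 G) (pCore_normal' 3) with h1 | h1
    · exfalso
      apply hab
      exact (eq_of_mul_eq_one_inv (h.sq ha) (eq_one_of_sq_of_mem_pCore_three
        (sq_of_commute (h.sq ha) (h.sq hb) hc) (h1 (hmulS a ha b hb)))).symm
    · exact h1
  have h2 : pCore 2 G ≤ Subgroup.center G := by
    rcases dich (pCore 2 G) (pCore_normal' 2) with h1 | h1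
    · exfalso
      exact h.center_ne_bot_of_two_coset hD2 ha (fun e he => h1 (hmulS a ha e he)) hZ
    · exact h1
  obtain ⟨hcomp, hFs⟩ := h.layer_quasisimple hD2 h2 h3
  haveI := h.component_normal hcomp
  have hLS : layer G ≤ commutator G := by
    rw [commutator_def, ← commutator_layer_layer]
    exact Subgroup.commutator_mono le_top le_top
  have hSL : commutator G ≤ layer G := by
    rcases simple_le_or_disjoint (commutator G) (layer G) with h1 | h1
    · exact h1
    · exfalso
      apply IsQuasisimple.ne_bot hcomp.2
      exact disjoint_self.mp (h1.mono_right hLS)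
  have hidx : (layer G).index ≤ 2 :=
    h.index_le_two (layer G) ha (fun e he => hSL (hmulS a ha e he))
  exact h.primitive hD2 h2 h3 (layer G) hcomp.2 hFs hidx

end Cfsg.Agent.H9TT
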