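import Mathlib
import Cfsg.Prelude
import Cfsg.Agent.Lib.Helper9.TT9r

set_option autoImplicit false

/-!
# Three-transpositions: homogeneous sets for the commuting relation are trivial in the primitive case
-/

namespace Cfsg.Agent.H9TT

open Cfsg Cfsg.Agent.Lib.Helper9 Cfsg.Agent.Lib.Helper3
open scoped commutatorElement

variable {G : Type*} [Group G] {D : Set G}

/-- a homogeneous set for the commuting relation: a member of `D` outside it commutes with all of it
or with none of it -/
def IsMod (D Γ : Set G) : Prop :=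
  Γ ⊆ D ∧ ∀ y ∈ D, y ∉ Γ → (∀ a ∈ Γ, Commute y a) ∨ (∀ a ∈ Γ, ¬ Commute y a)

theorem TT.isMod_cj (h : TT D) {Γ : Set G} (hΓ : IsMod D Γ) (g : G) : IsMod D (cj g Γ) := by
  refine ⟨?_, ?_⟩
  · rintro _ ⟨x, hx, rfl⟩
    exact h.hconj g x (hΓ.1 hx)
  · intro y hy hyn
    have hy' : g⁻¹ * y * g ∈ D := h.hconj' g y hy
    have hyn' : g⁻¹ * y * g ∉ Γ := fun hh => hyn (mem_cj.mpr hh)
    rcases hΓ.2 _ hy' hyn' with h1 | h1
    · left
      rintro _ ⟨x, hx, rfl⟩
      exact ((TT.commute_conj_iff g x y).mpr (h1 x hx).symm).symm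
    · right
      rintro _ ⟨x, hx, rfl⟩ hc
      exact h1 x hx ((TT.commute_conj_iff g x y).mp hc.symm).symm

theorem IsMod.union {Γ₁ Γ₂ : Set G} (h1 : IsMod D Γ₁) (h2 : IsMod D Γ₂)
    (hne : (Γ₁ ∩ Γ₂).Nonempty) : IsMod D (Γ₁ ∪ Γ₂) := by
  obtain ⟨u, hu1, hu2⟩ := hne
  refine ⟨Set.union_subset h1.1 h2.1, ?_⟩
  intro y hy hyn
  have hyn1 : y ∉ Γ₁ := fun hh => hyn (Or.inl hh)
  have hyn2 : y ∉ Γ₂ := fun hh => hyn (Or.inr hh)
  rcases h1.2 y hy hyn1 with c1 | c1
  · rcases h2.2 y hy hyn2 with c2 | c2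
    · left
      rintro a (ha | ha)
      · exact c1 a ha
      · exact c2 a ha
    · exact (c2 u hu2 (c1 u hu1)).elim
  · rcases h2.2 y hy hyn2 with c2 | c2
    · exact (c1 u hu1 (c2 u hu2)).elim
    · right
      rintro a (ha | ha)
      · exact c1 a ha
      · exact c2 a ha

/-- the non-commuting graph of a class is connected -/
theorem TC.eq_of_commute_compl (h : TC D) {A : Set G} (hA : A ⊆ D) (hne : A.Nonempty)
    (hc : ∀ x ∈ A, ∀ y ∈ D, y ∉ A → Commute x y) : A = D := by
  -- `A` is invariant under conjugation by members of `D`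
  have hinv : ∀ e ∈ D, ∀ x ∈ A, e * x * e⁻¹ ∈ A := by
    intro e he x hx
    by_cases hex : Commute e x
    · have : e * x * e⁻¹ = x := by rw [hex.eq]; group
      rw [this]; exact hx
    · by_contra hn
      have hxD := hA hx
      have hyD : e * x * e⁻¹ ∈ D := h.hconj e x hxD
      have h1 := hc x hx _ hyD hn
      apply hex
      -- `x` commutes with `e x e⁻¹`, so with `e`
      have hbr := h.toTT.braid he hxD hex
      rw [h.inv he] at h1
      have h2 : x * (e * x * e) = (e * x * e) * x := h1.eq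
      rw [hbr] at h2
      -- `x * (x * e * x) = (x * e * x) * x`
      have hxx := h.sq hxD
      show e * x = x * e
      calc e * x = (x * x) * e * x := by rw [hxx, one_mul]
        _ = x * (x * e * x) := by group
        _ = (x * e * x) * x := h2
        _ = x * e * (x * x) := by group
        _ = x * e := by rw [hxx, mul_one]
  -- hence under the whole group
  have hinvG : ∀ g : G, (∀ x ∈ A, g * x * g⁻¹ ∈ A) ∧ (∀ x ∈ A, g⁻¹ * x * g ∈ A) := by
    intro g
    have hg : g ∈ Subgroup.closure D := by rw [h.hgen]; exact Subgroup.mem_top g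
    induction hg using Subgroup.closure_induction with
    | mem e he =>
      refine ⟨hinv e he, ?_⟩
      intro x hx
      have := hinv e he x hx
      rw [h.inv he] at this ⊢
      exact this
    | one =>
      refine ⟨?_, ?_⟩ <;> intro x hx <;> simpa using hx
    | mul a b _ _ iha ihb =>
      refine ⟨?_, ?_⟩
      · intro x hx
        have := iha.1 _ (ihb.1 x hx)
        have e : a * b * x * (a * b)⁻¹ = a * (b * x * b⁻¹) * a⁻¹ := by group
        rw [e]; exact this
      · intro x hx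
        have := ihb.2 _ (iha.2 x hx)
        have e : (a * b)⁻¹ * x * (a * b) = b⁻¹ * (a⁻¹ * x * a) * b := by group
        rw [e]; exact this
    | inv a _ iha =>
      refine ⟨?_, ?_⟩
      · intro x hx
        have := iha.2 x hx
        rwa [inv_inv]
      · intro x hx
        have := iha.1 x hx
        rwa [inv_inv]
  obtain ⟨a, ha⟩ := hne
  apply Set.Subset.antisymm hA
  intro e he
  obtain ⟨g, rfl⟩ := h.hclass a (hA ha) e he
  exact (hinvG g).1 a ha

/-- if the commuting graph is connected, a non-empty subset of `D` not joined to its complement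
is everything -/
theorem eq_of_not_commute_compl (hconn : (commutingGraph D).Connected) {A : Set G} (hA : A ⊆ D)
    (hne : A.Nonempty) (hc : ∀ x ∈ A, ∀ y ∈ D, y ∉ A → ¬ Commute x y) : A = D := by
  have key : ∀ u v : D, (commutingGraph D).Reachable u v → (u : G) ∈ A → (v : G) ∈ A := by
    intro u v hr
    obtain ⟨w⟩ := hr
    induction w with
    | nil => exact id
    | cons hadj p ih =>
      rename_i u w v
      intro hu
      apply ih
      by_contra hw
      have hcuw : Commute (u : G) (w : G) := by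
        unfold commutingGraph at hadj
        rw [SimpleGraph.fromRel_adj] at hadj
        rcases hadj.2 with hc' | hc'
        · exact hc'
        · exact hc'.symm
      exact hc _ hu _ w.2 hw hcuw
  obtain ⟨a, ha⟩ := hne
  apply Set.Subset.antisymm hA
  intro e he
  exact key ⟨a, hA ha⟩ ⟨e, he⟩ (hconn.preconnected _ _) ha

/-- two homogeneous sets covering `D`, neither containing the other: impossible -/
theorem TC.not_cover (h : TC D) (hconn : (commutingGraph D).Connected) {Γ₁ Γ₂ : Set G}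
    (h1 : IsMod D Γ₁) (h2 : IsMod D Γ₂) (hU : Γ₁ ∪ Γ₂ = D)
    {v₀ w₀ : G} (hv₀ : v₀ ∈ Γ₁) (hv₀' : v₀ ∉ Γ₂) (hw₀ : w₀ ∈ Γ₂) (hw₀' : w₀ ∉ Γ₁) : False := by
  have hAD : Γ₁ \ Γ₂ ⊆ D := fun x hx => h1.1 hx.1
  have hne : (Γ₁ \ Γ₂).Nonempty := ⟨v₀, hv₀, hv₀'⟩
  have hcompl : ∀ y ∈ D, y ∉ Γ₁ \ Γ₂ → y ∈ Γ₂ := by
    intro y hy hyn
    rw [← hU] at hy
    rcases hy with hy | hy
    · by_contra hy2
      exact hyn ⟨hy, hy2⟩
    · exact hy
  have hw₀A : w₀ ∉ Γ₁ \ Γ₂ := fun hh => hw₀' hh.1
  rcases h1.2 w₀ (h2.1 hw₀) hw₀' with c | c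
  · -- `w₀` commutes with all of `Γ₁`
    have : Γ₁ \ Γ₂ = D := by
      apply h.eq_of_commute_compl hAD hne
      intro x hx y hy hyn
      rcases h2.2 x (h1.1 hx.1) hx.2 with c2 | c2
      · exact c2 y (hcompl y hy hyn)
      · exact (c2 w₀ hw₀ (c x hx.1).symm).elim
    exact hw₀A (this ▸ h2.1 hw₀)
  · have : Γ₁ \ Γ₂ = D := by
      apply eq_of_not_commute_compl hconn hAD hne
      intro x hx y hy hyn
      rcases h2.2 x (h1.1 hx.1) hx.2 with c2 | c2
      · exact (c x hx.1 (c2 w₀ hw₀).symm).elim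
      · exact c2 y (hcompl y hy hyn)
    exact hw₀A (this ▸ h2.1 hw₀)

end Cfsg.Agent.H9TT
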