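import Mathlib
import Cfsg.Prelude
import Cfsg.Agent.Lib.Helper9.TT9s

set_option autoImplicit false

/-!
# Three-transpositions: the centraliser of a member of `D` generates a maximal `D`-subgroup
-/

namespace Cfsg.Agent.H9TT

open Cfsg Cfsg.Agent.Lib.Helper9 Cfsg.Agent.Lib.Helper3
open scoped commutatorElement

variable {G : Type*} [Group G] {D : Set G}

theorem cj_ncard [Finite G] (g : G) (Γ : Set G) : (cj g Γ).ncard = Γ.ncard := by
  unfold cj
  apply Set.ncard_image_of_injective
  intro x y hxy
  simpa using hxy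

/-- in the primitive connected case a proper homogeneous set has at most one member -/
theorem TC.mod_trivial [Finite G] (h : TC D) (hprim : IsPrimitiveUnderConj D)
    (hconn : (commutingGraph D).Connected) :
    ∀ n : ℕ, ∀ Γ : Set G, IsMod D Γ → Γ ≠ D → Γ.Nontrivial → (D \ Γ).ncard = n → False := by
  intro n
  induction n using Nat.strong_induction_on with
  | _ n ih =>
    intro Γ hΓ hne hnt hcard
    have hblk : Blk Γ := by
      intro g
      by_cases hdis : Disjoint (cj g Γ) Γ
      · exact Or.inr hdis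
      by_cases heq : cj g Γ = Γ
      · exact Or.inl heq
      exfalso
      have hΓ' := h.toTT.isMod_cj hΓ g
      rw [Set.not_disjoint_iff] at hdis
      obtain ⟨u, hu1, hu2⟩ := hdis
      have hcardeq := cj_ncard g Γ
      have hb : ∃ b ∈ cj g Γ, b ∉ Γ := by
        by_contra hcon
        push Not at hcon
        exact heq (Set.eq_of_subset_of_ncard_le hcon hcardeq.ge (Set.toFinite _))
      have ha' : ∃ a' ∈ Γ, a' ∉ cj g Γ := by
        by_contra hcon
        push Not at hcon
        exact heq (Set.eq_of_subset_of_ncard_le hcon hcardeq.le (Set.toFinite _)).symm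
      obtain ⟨b, hb1, hb2⟩ := hb
      obtain ⟨a', ha1, ha2⟩ := ha'
      have hUmod := hΓ.union hΓ' ⟨u, hu2, hu1⟩
      by_cases hU : Γ ∪ cj g Γ = D
      · exact h.not_cover hconn hΓ hΓ' hU ha1 ha2 hb1 hb2
      · apply ih (D \ (Γ ∪ cj g Γ)).ncard ?_ (Γ ∪ cj g Γ) hUmod hU
          (hnt.mono Set.subset_union_left) rfl
        rw [← hcard]
        apply Set.ncard_lt_ncard _ (Set.toFinite _)
        refine ⟨fun x hx => ⟨hx.1, fun hh => hx.2 (Or.inl hh)⟩, ?_⟩
        intro hsub
        have := hsub ⟨hΓ'.1 hb1, hb2⟩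
        exact this.2 (Or.inr hb1)
    rcases hprim.2.2 Γ hΓ.1 hblk with hs | he
    · obtain ⟨a, ha, b, hb, hab⟩ := hnt
      exact hab (hs ha hb)
    · exact hne he

/-- **maximality** of the subgroup generated by the members of `D` commuting with `d` -/
theorem TC.centralizer_closure_maximal [Finite G] (h : TC D) (hprim : IsPrimitiveUnderConj D)
    (hconn : (commutingGraph D).Connected) {d : G} (hd : d ∈ D) :
    Subgroup.closure {y : G | y ∈ D ∧ Commute d y} ≠ ⊤ ∧
      ∀ H : Subgroup G, IsDSubgroup D H → Subgroup.closure {y : G | y ∈ D ∧ Commute d y} ≤ H →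
        H = Subgroup.closure {y : G | y ∈ D ∧ Commute d y} ∨ H = ⊤ := by
  have hD2 := hprim.2.1
  refine ⟨?_, ?_⟩
  · intro htop
    apply h.not_mem_center hD2 hd
    have hle : Subgroup.closure {y : G | y ∈ D ∧ Commute d y} ≤ Subgroup.centralizer ({d} : Set G) := by
      rw [Subgroup.closure_le]
      intro y hy
      rw [SetLike.mem_coe, Subgroup.mem_centralizer_singleton_iff]
      exact hy.2.eq.symm
    rw [htop] at hle
    rw [Subgroup.mem_center_iff]
    intro g
    have := hle (Subgroup.mem_top g)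
    rw [Subgroup.mem_centralizer_singleton_iff] at this
    exact this
  · intro H hH hle
    by_cases hall : ∀ y, y ∈ D → y ∈ H → Commute d y
    · left
      apply le_antisymm _ hle
      calc H = Subgroup.closure {x : G | x ∈ D ∧ x ∈ H} := hH.symm
        _ ≤ Subgroup.closure {y : G | y ∈ D ∧ Commute d y} :=
          Subgroup.closure_mono (fun y hy => ⟨hy.1, hall y hy.1 hy.2⟩)
    · right
      push Not at hall
      obtain ⟨e, heD, heH, hnc⟩ := hall
      by_contra hHtop
      have hdH : d ∈ H := hle (Subgroup.subset_closure ⟨hd, Commute.refl d⟩)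
      obtain ⟨Γ, hΓdef⟩ : ∃ Γ : Set G, Γ = {x | ∃ k ∈ H, x = k * d * k⁻¹} := ⟨_, rfl⟩
      have hΓD : Γ ⊆ D := by
        rw [hΓdef]
        rintro _ ⟨k, -, rfl⟩
        exact h.hconj k d hd
      have hΓH : Γ ⊆ (H : Set G) := by
        rw [hΓdef]
        rintro _ ⟨k, hk, rfl⟩
        exact H.mul_mem (H.mul_mem hk hdH) (H.inv_mem hk)
      have hdΓ : d ∈ Γ := by
        rw [hΓdef]; exact ⟨1, H.one_mem, by group⟩
      -- a member of `D ∩ H` not commuting with a member `a` of `Γ` is in `Γ`
      have hin : ∀ a ∈ Γ, ∀ y ∈ D, y ∈ H → ¬ Commute y a → y ∈ Γ := by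
        intro a ha y hyD hyH hya
        have haH := hΓH ha
        have haD := hΓD ha
        rw [hΓdef] at ha ⊢
        obtain ⟨k, hk, rfl⟩ := ha
        refine ⟨(k * d * k⁻¹) * y * k, H.mul_mem (H.mul_mem haH hyH) hk, ?_⟩
        have hbr := h.toTT.braid hyD haD hya
        have e1 : (k * d * k⁻¹) * y * k * d * ((k * d * k⁻¹) * y * k)⁻¹ =
            (k * d * k⁻¹) * y * (k * d * k⁻¹) * y⁻¹ * (k * d * k⁻¹)⁻¹ := by group
        rw [e1, h.inv hyD, h.inv haD]
        obtain ⟨a, hadef⟩ : ∃ a, a = k * d * k⁻¹ := ⟨_, rfl⟩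
        rw [← hadef] at hbr haD ⊢
        calc y = y * (a * a) := by rw [h.sq haD, mul_one]
          _ = (y * a * y) * (y * a) := by
              have : y * a * y * (y * a) = y * a * (y * y) * a := by group
              rw [this, h.sq hyD, mul_one, mul_assoc]
          _ = (a * y * a) * (y * a) := by rw [hbr]
          _ = a * y * a * y * a := by group
      have heΓ : e ∈ Γ := hin d hdΓ e heD heH (fun hc => hnc hc.symm)
      -- members of `D` commuting with a member of `Γ` lie in `H`
      have hF1 : ∀ a ∈ Γ, ∀ y ∈ D, Commute a y → y ∈ H := by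
        intro a ha y hyD hc
        rw [hΓdef] at ha
        obtain ⟨k, hk, rfl⟩ := ha
        have h1 := (TT.commute_conj_iff k d y).mp hc
        have h2 : k⁻¹ * y * k ∈ H := hle (Subgroup.subset_closure ⟨h.toTT.hconj' k y hyD, h1⟩)
        have e1 : y = k * (k⁻¹ * y * k) * k⁻¹ := by group
        rw [e1]
        exact H.mul_mem (H.mul_mem hk h2) (H.inv_mem hk)
      have hmod : IsMod D Γ := by
        refine ⟨hΓD, ?_⟩
        intro y hyD hyΓ
        by_cases hyH : y ∈ H
        · left
          intro a ha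
          by_contra hya
          exact hyΓ (hin a ha y hyD hyH hya)
        · right
          intro a ha hc
          exact hyH (hF1 a ha y hyD hc.symm)
      have hΓne : Γ ≠ D := by
        intro e1
        apply hHtop
        rw [eq_top_iff, ← h.hgen, Subgroup.closure_le, ← e1]
        exact hΓH
      have hnt : Γ.Nontrivial := ⟨d, hdΓ, e, heΓ, fun e1 => hnc (e1 ▸ Commute.refl d)⟩
      exact h.mod_trivial hprim hconn _ Γ hmod hΓne hnt rfl

/-- primitivity forces the `2`-core into the centre -/
theorem TC.pCore_two_le_center_of_primitive [Finite G] (h : TC D)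
    (hprim : IsPrimitiveUnderConj D) : pCore 2 G ≤ Subgroup.center G := by
  by_contra hnc
  haveI := pCore_normal' (G := G) 2
  have hD2 := hprim.2.1
  obtain ⟨a, ha, -⟩ := id hD2
  obtain ⟨n, hn, hna⟩ := h.exists_conj_ne (pCore 2 G) ha hnc
  have hB := eq_of_primitive hprim (cosetBlock_subset (pCore 2 G) a)
    (h.toTT.cosetBlock_blk (pCore 2 G) ha) (h.toTT.self_mem_cosetBlock (pCore 2 G) ha)
    (b := n * a * n⁻¹) ⟨h.hconj n a ha, comm_mem_normal (pCore 2 G) (h.sq ha) hn⟩
    (fun e => hna e.symm)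
  apply h.not_mem_center hD2 ha
  apply h.mem_center
  intro e he
  have hmem : a * e ∈ pCore 2 G := by
    rw [← hB] at he
    exact he.2
  rcases h.hset.2 a ha e he with h2' | h3'
  · exact (commute_of_sq (h.sq ha) (h.sq he) h2').symm
  · have := eq_of_mul_eq_one_inv (h.sq ha) (eq_one_of_cube_of_mem_pCore_two h3' hmem)
    rw [this]

/-- primitivity and a commuting pair force the `3`-core into the centre -/
theorem TC.pCore_three_le_center_of_primitive [Finite G] (h : TC D)
    (hw : ∃ a ∈ D, ∃ b ∈ D, a ≠ b ∧ Commute a b)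
    (hprim : IsPrimitiveUnderConj D) : pCore 3 G ≤ Subgroup.center G := by
  by_contra hnc
  haveI := pCore_normal' (G := G) 3
  obtain ⟨a, ha, b, hb, hab, hc⟩ := hw
  obtain ⟨n, hn, hna⟩ := h.exists_conj_ne (pCore 3 G) ha hnc
  have hB := eq_of_primitive hprim (cosetBlock_subset (pCore 3 G) a)
    (h.toTT.cosetBlock_blk (pCore 3 G) ha) (h.toTT.self_mem_cosetBlock (pCore 3 G) ha)
    (b := n * a * n⁻¹) ⟨h.hconj n a ha, comm_mem_normal (pCore 3 G) (h.sq ha) hn⟩
    (fun e => hna e.symm)
  rw [← hB] at hb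
  apply hab
  exact (eq_of_mul_eq_one_inv (h.sq ha)
    (eq_one_of_sq_of_mem_pCore_three (sq_of_commute (h.sq ha) (h.sq hb.1) hc) hb.2)).symm

end Cfsg.Agent.H9TT
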