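import Mathlib
import Cfsg.Prelude
import Cfsg.Agent.Lib.Helper2.SpTorus
import Cfsg.Agent.Lib.Helper9.SpRoot1

set_option autoImplicit false

/-!
# Block elements of the symplectic group: Levi elements and Siegel elements
-/

namespace Cfsg.Agent.H9SpF

open Matrix

variable {F : Type*} [Field F] {m : ℕ}

/-- the block diagonal matrix `diag(P, Qᵀ)` -/
def levM (P Q : Matrix (Fin m) (Fin m) F) : Matrix (Fin m ⊕ Fin m) (Fin m ⊕ Fin m) F :=
  fromBlocks P 0 0 Qᵀ

theorem levM_mem {P Q : Matrix (Fin m) (Fin m) F} (h : P * Q = 1) :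
    levM P Q ∈ symplecticGroup (Fin m) F := by
  rw [SymplecticGroup.mem_iff]
  unfold levM Matrix.J
  rw [fromBlocks_transpose, fromBlocks_multiply, fromBlocks_multiply]
  simp only [Matrix.mul_zero, Matrix.zero_mul, zero_add, add_zero, Matrix.mul_one, Matrix.transpose_zero,
    Matrix.transpose_transpose, Matrix.mul_neg, Matrix.neg_mul]
  have h2 : Qᵀ * Pᵀ = 1 := by rw [← Matrix.transpose_mul, h, Matrix.transpose_one]
  rw [h, h2, neg_zero]

theorem levM_mul (P Q P' Q' : Matrix (Fin m) (Fin m) F) :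
    levM P Q * levM P' Q' = levM (P * P') (Q' * Q) := by
  unfold levM
  rw [fromBlocks_multiply]
  simp only [Matrix.mul_zero, Matrix.zero_mul, zero_add, add_zero, Matrix.transpose_mul]

theorem levM_one : levM (1 : Matrix (Fin m) (Fin m) F) 1 = 1 := by
  unfold levM
  rw [Matrix.transpose_one, fromBlocks_one]

/-- the Levi embedding of the general linear group into the symplectic group -/
def lev : GL (Fin m) F →* symplecticGroup (Fin m) F where
  toFun P := ⟨levM (P : Matrix (Fin m) (Fin m) F) ((P⁻¹ : GL (Fin m) F) : Matrix (Fin m) (Fin m) F),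
    levM_mem (by rw [← Units.val_mul, mul_inv_cancel, Units.val_one])⟩
  map_one' := by
    apply Subtype.ext
    show levM _ _ = 1
    rw [inv_one, Units.val_one, levM_one]
  map_mul' P Q := by
    apply Subtype.ext
    show levM _ _ = levM _ _ * levM _ _
    rw [levM_mul, _root_.mul_inv_rev, Units.val_mul, Units.val_mul]

theorem lev_coe (P : GL (Fin m) F) :
    ((lev P : symplecticGroup (Fin m) F) : Matrix (Fin m ⊕ Fin m) (Fin m ⊕ Fin m) F) =
      levM (P : Matrix (Fin m) (Fin m) F) ((P⁻¹ : GL (Fin m) F) : Matrix (Fin m) (Fin m) F) := rfl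

/-- the block matrix `[[1, S], [0, 1]]` -/
def siegM (S : Matrix (Fin m) (Fin m) F) : Matrix (Fin m ⊕ Fin m) (Fin m ⊕ Fin m) F :=
  fromBlocks 1 S 0 1

theorem siegM_mem {S : Matrix (Fin m) (Fin m) F} (h : S.IsSymm) :
    siegM S ∈ symplecticGroup (Fin m) F := by
  rw [SymplecticGroup.mem_iff]
  unfold siegM Matrix.J
  rw [fromBlocks_transpose, fromBlocks_multiply, fromBlocks_multiply]
  simp only [Matrix.mul_zero, Matrix.zero_mul, zero_add, add_zero, Matrix.mul_one, Matrix.transpose_zero,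
    Matrix.transpose_one, Matrix.one_mul, Matrix.mul_neg, Matrix.neg_mul]
  rw [h.eq]
  simp

theorem siegM_mul (S S' : Matrix (Fin m) (Fin m) F) : siegM S * siegM S' = siegM (S + S') := by
  unfold siegM
  rw [fromBlocks_multiply]
  simp only [Matrix.mul_zero, Matrix.zero_mul, zero_add, add_zero, Matrix.mul_one, Matrix.one_mul]
  rw [add_comm]

theorem siegM_zero : siegM (0 : Matrix (Fin m) (Fin m) F) = 1 := by
  unfold siegM
  rw [fromBlocks_one]

/-- the Siegel element with symmetric parameter `S` -/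
def sieg (S : Matrix (Fin m) (Fin m) F) (h : S.IsSymm) : symplecticGroup (Fin m) F :=
  ⟨siegM S, siegM_mem h⟩

theorem sieg_coe (S : Matrix (Fin m) (Fin m) F) (h : S.IsSymm) :
    ((sieg S h : symplecticGroup (Fin m) F) : Matrix (Fin m ⊕ Fin m) (Fin m ⊕ Fin m) F) = siegM S := rfl

theorem sieg_mul (S S' : Matrix (Fin m) (Fin m) F) (h : S.IsSymm) (h' : S'.IsSymm) :
    sieg S h * sieg S' h' = sieg (S + S') (h.add h') :=
  Subtype.ext (siegM_mul S S')

theorem sieg_zero : sieg (0 : Matrix (Fin m) (Fin m) F) Matrix.isSymm_zero = 1 :=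
  Subtype.ext siegM_zero

theorem sieg_inv (S : Matrix (Fin m) (Fin m) F) (h : S.IsSymm) :
    (sieg S h)⁻¹ = sieg (-S) h.neg := by
  rw [inv_eq_iff_mul_eq_one, sieg_mul]
  have : S + -S = 0 := add_neg_cancel S
  apply Subtype.ext
  rw [sieg_coe, this, siegM_zero]
  rfl

theorem sieg_congr {S S' : Matrix (Fin m) (Fin m) F} (h : S.IsSymm) (e : S = S') :
    sieg S h = sieg S' (e ▸ h) := by
  subst e; rfl

theorem siegM_injective {S S' : Matrix (Fin m) (Fin m) F} (h : siegM S = siegM S') : S = S' := by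
  unfold siegM at h
  exact (Matrix.fromBlocks_inj.mp h).2.1

theorem isSymm_conj {S : Matrix (Fin m) (Fin m) F} (h : S.IsSymm) (P : Matrix (Fin m) (Fin m) F) :
    (P * S * Pᵀ).IsSymm := by
  unfold Matrix.IsSymm
  rw [Matrix.transpose_mul, Matrix.transpose_mul, Matrix.transpose_transpose, h.eq, Matrix.mul_assoc]

/-- conjugation of a Siegel element by a Levi element -/
theorem lev_mul_sieg (P : GL (Fin m) F) (S : Matrix (Fin m) (Fin m) F) (h : S.IsSymm) :
    lev P * sieg S h = sieg ((P : Matrix (Fin m) (Fin m) F) * S * (P : Matrix (Fin m) (Fin m) F)ᵀ)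
      (isSymm_conj h _) * lev P := by
  apply Subtype.ext
  show levM _ _ * siegM _ = siegM _ * levM _ _
  unfold levM siegM
  rw [fromBlocks_multiply, fromBlocks_multiply]
  simp only [Matrix.mul_zero, Matrix.zero_mul, zero_add, add_zero, Matrix.mul_one, Matrix.one_mul]
  congr 1
  rw [Matrix.mul_assoc, Matrix.mul_assoc, ← Matrix.transpose_mul, ← Units.val_mul, inv_mul_cancel,
    Units.val_one, Matrix.transpose_one, Matrix.mul_one]

theorem lev_conj_sieg (P : GL (Fin m) F) (S : Matrix (Fin m) (Fin m) F) (h : S.IsSymm) :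
    lev P * sieg S h * (lev P)⁻¹ =
      sieg ((P : Matrix (Fin m) (Fin m) F) * S * (P : Matrix (Fin m) (Fin m) F)ᵀ) (isSymm_conj h _) := by
  rw [lev_mul_sieg, mul_assoc, mul_inv_cancel, mul_one]

/-! ### Entries and coordinates -/

theorem lev_apply_ll (P : GL (Fin m) F) (i j : Fin m) :
    ((lev P : symplecticGroup (Fin m) F) : Matrix (Fin m ⊕ Fin m) (Fin m ⊕ Fin m) F) (Sum.inl i) (Sum.inl j) =
      (P : Matrix (Fin m) (Fin m) F) i j := rfl

theorem lev_apply_lr (P : GL (Fin m) F) (i j : Fin m) :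
    ((lev P : symplecticGroup (Fin m) F) : Matrix (Fin m ⊕ Fin m) (Fin m ⊕ Fin m) F) (Sum.inl i) (Sum.inr j) =
      0 := rfl

theorem lev_apply_rl (P : GL (Fin m) F) (i j : Fin m) :
    ((lev P : symplecticGroup (Fin m) F) : Matrix (Fin m ⊕ Fin m) (Fin m ⊕ Fin m) F) (Sum.inr i) (Sum.inl j) =
      0 := rfl

theorem lev_apply_rr (P : GL (Fin m) F) (i j : Fin m) :
    ((lev P : symplecticGroup (Fin m) F) : Matrix (Fin m ⊕ Fin m) (Fin m ⊕ Fin m) F) (Sum.inr i) (Sum.inr j) =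
      ((P⁻¹ : GL (Fin m) F) : Matrix (Fin m) (Fin m) F) j i := rfl

theorem sieg_apply_ll (S : Matrix (Fin m) (Fin m) F) (h : S.IsSymm) (i j : Fin m) :
    ((sieg S h : symplecticGroup (Fin m) F) : Matrix (Fin m ⊕ Fin m) (Fin m ⊕ Fin m) F) (Sum.inl i) (Sum.inl j) =
      (1 : Matrix (Fin m) (Fin m) F) i j := rfl

theorem sieg_apply_lr (S : Matrix (Fin m) (Fin m) F) (h : S.IsSymm) (i j : Fin m) :
    ((sieg S h : symplecticGroup (Fin m) F) : Matrix (Fin m ⊕ Fin m) (Fin m ⊕ Fin m) F) (Sum.inl i) (Sum.inr j) =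
      S i j := rfl

theorem sieg_apply_rl (S : Matrix (Fin m) (Fin m) F) (h : S.IsSymm) (i j : Fin m) :
    ((sieg S h : symplecticGroup (Fin m) F) : Matrix (Fin m ⊕ Fin m) (Fin m ⊕ Fin m) F) (Sum.inr i) (Sum.inl j) =
      0 := rfl

theorem sieg_apply_rr (S : Matrix (Fin m) (Fin m) F) (h : S.IsSymm) (i j : Fin m) :
    ((sieg S h : symplecticGroup (Fin m) F) : Matrix (Fin m ⊕ Fin m) (Fin m ⊕ Fin m) F) (Sum.inr i) (Sum.inr j) =
      (1 : Matrix (Fin m) (Fin m) F) i j := rfl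

theorem mulVec_sum (A : Matrix (Fin m ⊕ Fin m) (Fin m ⊕ Fin m) F) (x : Fin m ⊕ Fin m → F)
    (r : Fin m ⊕ Fin m) :
    (A *ᵥ x) r = ∑ k, A r (Sum.inl k) * x (Sum.inl k) + ∑ k, A r (Sum.inr k) * x (Sum.inr k) := by
  unfold Matrix.mulVec dotProduct
  rw [Fintype.sum_sum_type]

theorem lev_mulVec_inl (P : GL (Fin m) F) (x : Fin m ⊕ Fin m → F) (i : Fin m) :
    (((lev P : symplecticGroup (Fin m) F) : Matrix (Fin m ⊕ Fin m) (Fin m ⊕ Fin m) F) *ᵥ x) (Sum.inl i) =
      ∑ k, (P : Matrix (Fin m) (Fin m) F) i k * x (Sum.inl k) := by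
  rw [mulVec_sum]
  simp only [lev_apply_ll, lev_apply_lr, zero_mul, Finset.sum_const_zero, add_zero]

theorem lev_mulVec_inr (P : GL (Fin m) F) (x : Fin m ⊕ Fin m → F) (i : Fin m) :
    (((lev P : symplecticGroup (Fin m) F) : Matrix (Fin m ⊕ Fin m) (Fin m ⊕ Fin m) F) *ᵥ x) (Sum.inr i) =
      ∑ k, ((P⁻¹ : GL (Fin m) F) : Matrix (Fin m) (Fin m) F) k i * x (Sum.inr k) := by
  rw [mulVec_sum]
  simp only [lev_apply_rl, lev_apply_rr, zero_mul, Finset.sum_const_zero, zero_add]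

theorem sieg_mulVec_inl (S : Matrix (Fin m) (Fin m) F) (h : S.IsSymm) (x : Fin m ⊕ Fin m → F) (i : Fin m) :
    (((sieg S h : symplecticGroup (Fin m) F) : Matrix (Fin m ⊕ Fin m) (Fin m ⊕ Fin m) F) *ᵥ x) (Sum.inl i) =
      x (Sum.inl i) + ∑ k, S i k * x (Sum.inr k) := by
  rw [mulVec_sum]
  simp only [sieg_apply_ll, sieg_apply_lr, Matrix.one_apply, ite_mul, one_mul, zero_mul,
    Finset.sum_ite_eq, Finset.mem_univ, if_true]

theorem sieg_mulVec_inr (S : Matrix (Fin m) (Fin m) F) (h : S.IsSymm) (x : Fin m ⊕ Fin m → F) (i : Fin m) :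
    (((sieg S h : symplecticGroup (Fin m) F) : Matrix (Fin m ⊕ Fin m) (Fin m ⊕ Fin m) F) *ᵥ x) (Sum.inr i) =
      x (Sum.inr i) := by
  rw [mulVec_sum]
  simp only [sieg_apply_rl, sieg_apply_rr, Matrix.one_apply, ite_mul, one_mul, zero_mul,
    Finset.sum_ite_eq, Finset.mem_univ, if_true, Finset.sum_const_zero, zero_add]

end Cfsg.Agent.H9SpF
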