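import Mathlib
import Cfsg.Prelude.Def_FusionSystem
import Cfsg.Agent.Lib.Helper6.PRes
import Cfsg.Agent.Lib.Helper9.Hyperfocal1
import Cfsg.Agent.Lib.Helper9.FusionAut
import Cfsg.Agent.Lib.Helper9.FusionAG3

set_option autoImplicit false

/-! Fusion-theoretic lemmas for the hyperfocal subgroup theorem. -/

namespace Cfsg.Agent.Lib.Helper9

open Cfsg Cfsg.FusionSystem Cfsg.Agent.Lib.Helper6
open scoped commutatorElement

variable {G : Type*} [Group G]

theorem mem_groupFusion_autGroup_iff (S P : Subgroup G) (hP : P ≤ S) (α : MulAut P) :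
    α ∈ (groupFusionSystem S).autGroup P ↔ ∃ g : G, ∀ x : P, ((α x : P) : G) = g * x * g⁻¹ := by
  rw [mem_autGroup_iff _ hP]
  constructor
  · rintro ⟨-, -, g, hg⟩
    exact ⟨g, hg⟩
  · rintro ⟨g, hg⟩
    exact ⟨hP, fun x => hP (α x).2, g, hg⟩

/-- Mathlib's focal subgroup is contained in the focal subgroup of the group fusion system. -/
theorem focalSubgroup_le_fs_focal (S : Subgroup G) :
    S.focalSubgroup ≤ (groupFusionSystem S).focalSubgroup := by
  rw [Subgroup.focalSubgroup_def, Subgroup.closure_le]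
  rintro g ⟨hgS, x, hxS, u, rfl⟩
  have hx' : x⁻¹ ∈ S := S.inv_mem hxS
  have hconj : u * x⁻¹ * u⁻¹ ∈ S := by
    have : u * x⁻¹ * u⁻¹ = x⁻¹ * ⁅x, u⁆ := by rw [commutatorElement_def]; group
    rw [this]
    exact S.mul_mem hx' hgS
  have hPS : Subgroup.zpowers x⁻¹ ≤ S := by
    rw [Subgroup.zpowers_le]
    exact hx'
  have hφ : conjHom (Subgroup.zpowers x⁻¹) u ∈ (groupFusionSystem S).Hom (Subgroup.zpowers x⁻¹) := by
    refine ⟨hPS, ?_, u, fun y => rfl⟩
    rintro ⟨_, n, rfl⟩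
    show u * (x⁻¹ ^ n) * u⁻¹ ∈ S
    have : u * (x⁻¹ ^ n) * u⁻¹ = (u * x⁻¹ * u⁻¹) ^ n := by
      rw [conj_zpow]
    rw [this]
    exact S.zpow_mem hconj n
  apply Subgroup.subset_closure
  refine ⟨Subgroup.zpowers x⁻¹, conjHom _ u, ⟨x⁻¹, Subgroup.mem_zpowers _⟩, hφ, ?_⟩
  show ⁅x, u⁆ = (x⁻¹)⁻¹ * (u * x⁻¹ * u⁻¹)
  rw [commutatorElement_def]
  group

/-- The hyperfocal subgroup of the fusion system of `G` lies in `O^p(G)`. -/
theorem hyperfocal_le_pResidual [Finite G] (p : ℕ) [Fact p.Prime] (S : Subgroup G) :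
    (groupFusionSystem S).hyperfocalSubgroup p ≤ pResidual p G := by
  unfold FusionSystem.hyperfocalSubgroup
  rw [Subgroup.closure_le]
  rintro _ ⟨P, α, x, hPS, hα, rfl⟩
  have hmem : ∀ n : Subgroup.normalizer (P : Set G),
      P.normalizerMonoidHom n ∈ (groupFusionSystem S).autGroup P := by
    intro n
    rw [mem_groupFusion_autGroup_iff S P hPS]
    exact ⟨n, fun x => rfl⟩
  obtain ⟨f, hf⟩ : ∃ f : Subgroup.normalizer (P : Set G) →* (groupFusionSystem S).autGroup P,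
      f = P.normalizerMonoidHom.codRestrict _ hmem := ⟨_, rfl⟩
  have hsurj : Function.Surjective f := by
    rintro ⟨β, hβ⟩
    have hβ' := hβ
    rw [mem_groupFusion_autGroup_iff S P hPS] at hβ'
    obtain ⟨g, hg⟩ := hβ'
    refine ⟨⟨g, mem_normalizer_of_induces β g hg⟩, ?_⟩
    apply Subtype.ext
    apply MulEquiv.ext
    intro y
    apply Subtype.ext
    rw [hf]
    exact (hg y).symm
  have hmap := pResidual_map_of_surjective (p := p) f hsurj
  rw [← hmap] at hα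
  obtain ⟨n, hn, hnα⟩ := hα
  have hnK : (n : G) ∈ pResidual p G :=
    pResidual_map_le p (Subgroup.normalizer (P : Set G)).subtype ⟨n, hn, rfl⟩
  have hval : (((α : MulAut P) x : P) : G) = n * x * (n : G)⁻¹ := by
    rw [← hnα, hf]
    rfl
  rw [SetLike.mem_coe, hval]
  have hnorm : (pResidual p G).Normal := inferInstance
  have h1 : (x : G)⁻¹ * n * (x : G)⁻¹⁻¹ ∈ pResidual p G := hnorm.conj_mem _ hnK _
  have h2 : (x : G)⁻¹ * (n * x * (n : G)⁻¹) = ((x : G)⁻¹ * n * (x : G)⁻¹⁻¹) * (n : G)⁻¹ := by group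
  rw [h2]
  exact Subgroup.mul_mem _ h1 (Subgroup.inv_mem _ hnK)

end Cfsg.Agent.Lib.Helper9
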