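import Mathlib
import Cfsg.Prelude.Def_EvenType
import Cfsg.Prelude.Def_ClassificationK
import Cfsg.Agent.Lib.Helper9.PCore
import Cfsg.Agent.Lib.Helper9.GroupFusion2
import Cfsg.Agent.Lib.Helper9.FusionAut2

set_option autoImplicit false

namespace Cfsg.Agent.Lib.Helper9

open Cfsg Cfsg.FusionSystem

variable {X : Type*} [Group X] [Finite X] {p : ℕ} [Fact p.Prime]

theorem card_lt_of_lt' {A B : Subgroup X} (hAB : A < B) : Nat.card A < Nat.card B := by
  by_contra hcon
  push Not at hcon
  exact hAB.ne (Subgroup.eq_of_le_of_card_ge hAB.le hcon)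

/-- The normalizer of a nontrivial subgroup of `T` lies in `Γ_{T,1}(X)`. -/
theorem normalizer_le_kGeneratedCore (T : Sylow p X) {V : Subgroup X} (hVT : V ≤ T) (hV : V ≠ ⊥) :
    Subgroup.normalizer (V : Set X) ≤ kGeneratedCore p 1 (T : Subgroup X) := by
  have hVp : IsPGroup p V := T.isPGroup'.to_le hVT
  have hrank : ¬ PRankLE p (1 - 1) V := by
    intro h
    haveI : Nontrivial V := (Subgroup.nontrivial_iff_ne_bot _).mpr hV
    obtain ⟨A, hA1, hA2, hA3⟩ := exists_elementary_of_ne_bot hVp
    have := h A hA1 hA2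
    simp at this
    omega
  unfold kGeneratedCore
  exact le_iSup (fun Q : {Q : Subgroup X // Q ≤ (T : Subgroup X) ∧ ¬ PRankLE p (1 - 1) Q} =>
    Subgroup.normalizer ((Q : Subgroup X) : Set X)) ⟨V, hVT, hrank⟩

/-- `Γ_{T,1}(X)` controls fusion in `T`: an element conjugating a nontrivial subgroup of `T` into `T` lies in
`Γ_{T,1}(X)`. -/
theorem mem_kGeneratedCore_of_conj_le (T : Sylow p X) :
    ∀ (k : ℕ) (U : Subgroup X), U ≤ T → U ≠ ⊥ → ∀ g : X, U.map (MulAut.conj g).toMonoidHom ≤ T →
      Nat.card (T : Subgroup X) - Nat.card U = k → g ∈ kGeneratedCore p 1 (T : Subgroup X) := by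
  intro k
  induction k using Nat.strong_induction_on with
  | _ k ih =>
  intro U hUT hU g hg hk
  have hTp : IsPGroup p (T : Subgroup X) := T.isPGroup'
  have hcardV : Nat.card (U.map (MulAut.conj g).toMonoidHom) = Nat.card U := card_map_conj U g
  by_cases hUtop : U = T
  · -- g normalizes T
    have hTne : (T : Subgroup X) ≠ ⊥ := by rw [← hUtop]; exact hU
    apply normalizer_le_kGeneratedCore T le_rfl hTne
    have hVeq : U.map (MulAut.conj g).toMonoidHom = T := by
      apply Subgroup.eq_of_le_of_card_ge hg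
      rw [hcardV, hUtop]
    rw [hUtop] at hVeq
    exact Subgroup.mem_normalizer_iff_map_conj_eq.mpr hVeq
  · have hUlt : U < (T : Subgroup X) := lt_of_le_of_ne hUT hUtop
    obtain ⟨V, hVdef⟩ : ∃ V : Subgroup X, V = U.map (MulAut.conj g).toMonoidHom := ⟨_, rfl⟩
    rw [← hVdef] at hg hcardV
    have hVne : V ≠ ⊥ := by
      rw [hVdef]
      intro h
      rw [Subgroup.map_eq_bot_iff_of_injective _ (MulAut.conj g).injective] at h
      exact hU h
    have hVlt : V < (T : Subgroup X) := by
      refine lt_of_le_of_ne hg ?_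
      intro h
      have h1 : Nat.card U = Nat.card (T : Subgroup X) := by rw [← hcardV, h]
      exact hUtop (Subgroup.eq_of_le_of_card_ge hUT (le_of_eq h1.symm))
    have hNU := fs_lt_normalizerIn (S := (T : Subgroup X)) p hTp hUlt
    have hNV := fs_lt_normalizerIn (S := (T : Subgroup X)) p hTp hVlt
    have hNUT : normalizerIn (T : Subgroup X) U ≤ T := inf_le_left
    have hNVT : normalizerIn (T : Subgroup X) V ≤ T := inf_le_left
    have hNUp : IsPGroup p (normalizerIn (T : Subgroup X) U) := hTp.to_le hNUT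
    have hNVp : IsPGroup p (normalizerIn (T : Subgroup X) V) := hTp.to_le hNVT
    have hcU : Nat.card U < Nat.card (normalizerIn (T : Subgroup X) U) := card_lt_of_lt' hNU
    have hcV : Nat.card V < Nat.card (normalizerIn (T : Subgroup X) V) := card_lt_of_lt' hNV
    have hcUT : Nat.card (normalizerIn (T : Subgroup X) U) ≤ Nat.card (T : Subgroup X) :=
      Subgroup.card_le_of_le hNUT
    have hcVT : Nat.card (normalizerIn (T : Subgroup X) V) ≤ Nat.card (T : Subgroup X) :=
      Subgroup.card_le_of_le hNVT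
    -- the image of N_T(U) in N_X(V)
    have hAle : (normalizerIn (T : Subgroup X) U).map (MulAut.conj g).toMonoidHom ≤
        Subgroup.normalizer (V : Set X) := by
      rw [hVdef, normalizer_map_conj]
      exact Subgroup.map_mono inf_le_right
    have hAp : IsPGroup p ((normalizerIn (T : Subgroup X) U).map (MulAut.conj g).toMonoidHom) :=
      hNUp.map _
    obtain ⟨T₂, hNVT₂, hT₂N, hT₂p, hT₂card⟩ :=
      exists_isPGroup_card_eq hNVp (inf_le_right : normalizerIn (T : Subgroup X) V ≤
        Subgroup.normalizer (V : Set X))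
    obtain ⟨c, hcN, hc⟩ := exists_conj_le_of_card_eq hT₂N hT₂card hAp hAle
    obtain ⟨d, hd⟩ := exists_map_conj_le_sylow T hT₂p
    have hNUne : normalizerIn (T : Subgroup X) U ≠ ⊥ := by
      intro h; rw [h] at hNU; exact hU (le_bot_iff.mp hNU.le)
    have hNVne : normalizerIn (T : Subgroup X) V ≠ ⊥ := by
      intro h; rw [h] at hNV; exact hVne (le_bot_iff.mp hNV.le)
    have hd_mem : d ∈ kGeneratedCore p 1 (T : Subgroup X) := by
      refine ih (Nat.card (T : Subgroup X) - Nat.card (normalizerIn (T : Subgroup X) V)) (by omega)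
        _ hNVT hNVne d ((Subgroup.map_mono hNVT₂).trans hd) rfl
    have hdcg_mem : d * c * g ∈ kGeneratedCore p 1 (T : Subgroup X) := by
      refine ih (Nat.card (T : Subgroup X) - Nat.card (normalizerIn (T : Subgroup X) U)) (by omega)
        _ hNUT hNUne (d * c * g) ?_ rfl
      rintro _ ⟨x, hx, rfl⟩
      have h1 := conj_mem_map_conj _ g hx
      have h2 := hc (conj_mem_map_conj _ c h1)
      have h3 := hd (conj_mem_map_conj _ d h2)
      have h4 : (MulAut.conj (d * c * g)).toMonoidHom x = d * (c * (g * x * g⁻¹) * c⁻¹) * d⁻¹ := by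
        simp only [MulEquiv.coe_toMonoidHom, MulAut.conj_apply]
        group
      rw [h4]
      exact h3
    have hc_mem : c ∈ kGeneratedCore p 1 (T : Subgroup X) :=
      normalizer_le_kGeneratedCore T hg hVne hcN
    have h5 : g = c⁻¹ * (d⁻¹ * (d * c * g)) := by group
    rw [h5]
    exact Subgroup.mul_mem _ (Subgroup.inv_mem _ hc_mem)
      (Subgroup.mul_mem _ (Subgroup.inv_mem _ hd_mem) hdcg_mem)

end Cfsg.Agent.Lib.Helper9
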