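import Mathlib
import Cfsg.Prelude.Def_EvenType
import Cfsg.Prelude.Def_ClassificationK
import Cfsg.Agent.Lib.Helper9.StronglyEmbAux2

set_option autoImplicit false

namespace Cfsg.Agent.Lib.Helper9

open Cfsg

/-- A subgroup of positive `p`-rank is nontrivial. -/
theorem ne_bot_of_not_pRankLE_zero {X : Type*} [Group X] {p : ℕ} {Q : Subgroup X}
    (h : ¬ PRankLE p (1 - 1) Q) : Q ≠ ⊥ := by
  rintro rfl
  apply h
  intro B _ _
  have : Subsingleton B := by
    constructor
    intro a b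
    apply Subtype.ext
    apply Subtype.ext
    have ha := (a : (⊥ : Subgroup X)).2
    have hb := (b : (⊥ : Subgroup X)).2
    rw [Subgroup.mem_bot] at ha hb
    rw [ha, hb]
  have h1 : Nat.card B ≤ 1 := Finite.card_le_one_iff_subsingleton.mpr this
  simpa using h1

/-- `Γ_{T,1}(X) ≤ M` iff `M` contains the normalizers of all nontrivial subgroups of `T`. -/
theorem kGeneratedCore_one_le_iff {X : Type*} [Group X] [Finite X] {p : ℕ} [Fact p.Prime] (T : Sylow p X)
    (M : Subgroup X) :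
    kGeneratedCore p 1 (T : Subgroup X) ≤ M ↔
      ∀ Q : Subgroup X, Q ≤ T → Q ≠ ⊥ → Subgroup.normalizer (Q : Set X) ≤ M := by
  constructor
  · intro h Q hQT hQ
    exact (normalizer_le_kGeneratedCore T hQT hQ).trans h
  · intro h
    unfold kGeneratedCore
    apply iSup_le
    rintro ⟨Q, hQT, hQr⟩
    exact h Q hQT (ne_bot_of_not_pRankLE_zero hQr)

/-- If `X` has a strongly `p`-embedded subgroup, then for every Sylow `p`-subgroup `T` there is a proper
subgroup containing `Γ_{T,1}(X)`. -/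
theorem exists_ne_top_ge_kGeneratedCore {X : Type*} [Group X] [Finite X] {p : ℕ} [Fact p.Prime]
    {E' : Subgroup X} (hE' : IsStronglyPEmbedded p E') (T : Sylow p X) :
    kGeneratedCore p 1 (T : Subgroup X) ≠ ⊤ := by
  obtain ⟨-, hne, T', hT'⟩ := hE'
  obtain ⟨x, hx⟩ := MulAction.exists_smul_eq X T T'
  intro htop
  apply hne
  rw [eq_top_iff]
  rw [kGeneratedCore_one_le_iff] at hT'
  -- E' contains x N(Q) x⁻¹ for all Q ≤ T nontrivial, hence x Γ_T x⁻¹ = ⊤
  have h1 : kGeneratedCore p 1 (T : Subgroup X) ≤ E'.map (MulAut.conj x⁻¹).toMonoidHom := by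
    rw [kGeneratedCore_one_le_iff]
    intro Q hQT hQ
    have hQ' : Q.map (MulAut.conj x).toMonoidHom ≤ T' := by
      rw [← hx]
      rintro _ ⟨y, hy, rfl⟩
      exact Subgroup.smul_mem_pointwise_smul _ _ _ (hQT hy)
    have hQ'ne : Q.map (MulAut.conj x).toMonoidHom ≠ ⊥ := by
      intro h
      rw [Subgroup.map_eq_bot_iff_of_injective _ (MulAut.conj x).injective] at h
      exact hQ h
    have h2 := hT' _ hQ' hQ'ne
    rw [normalizer_map_conj] at h2
    intro n hn
    rw [mem_map_conj_iff, inv_inv]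
    have h3 := h2 (conj_mem_map_conj _ x hn)
    exact h3
  rw [htop] at h1
  intro y _
  have h2 : x⁻¹ * y * x⁻¹⁻¹ ∈ E'.map (MulAut.conj x⁻¹).toMonoidHom := h1 (Subgroup.mem_top _)
  rw [mem_map_conj_iff] at h2
  have h3 : x⁻¹⁻¹ * (x⁻¹ * y * x⁻¹⁻¹) * x⁻¹ = y := by group
  rwa [h3] at h2

/-- The image in `A / I` of a subgroup `H` containing the normalizers of all `Q` with `I < Q ≤ T₀` contains
`Γ_{T,1}(A / I)` for `T` the image of the Sylow subgroup `T₀ ≥ I`. -/
theorem kGeneratedCore_le_map_mk {A : Type*} [Group A] [Finite A] (p : ℕ) [Fact p.Prime]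
    (I : Subgroup A) [I.Normal] (T₀ : Sylow p A) (hIT : I ≤ T₀)
    (H : Subgroup A)
    (hH : ∀ Q : Subgroup A, I < Q → Q ≤ T₀ → Subgroup.normalizer (Q : Set A) ≤ H) :
    kGeneratedCore p 1
      ((T₀.mapSurjective (QuotientGroup.mk'_surjective I) : Sylow p (A ⧸ I)) : Subgroup (A ⧸ I)) ≤
      H.map (QuotientGroup.mk' I) := by
  obtain ⟨π, hπ⟩ : ∃ π : A →* A ⧸ I, π = QuotientGroup.mk' I := ⟨_, rfl⟩
  have hπs : Function.Surjective π := by rw [hπ]; exact QuotientGroup.mk'_surjective I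
  have hker : π.ker = I := by rw [hπ]; exact QuotientGroup.ker_mk' I
  rw [kGeneratedCore_one_le_iff]
  intro Q' hQT hQne
  rw [Sylow.coe_mapSurjective] at hQT
  rw [← hπ] at hQT ⊢
  have hcomapT : ((T₀ : Subgroup A).map π).comap π = T₀ := by
    rw [Subgroup.comap_map_eq, hker]
    exact sup_eq_left.mpr hIT
  intro a' ha'
  obtain ⟨α, rfl⟩ := hπs a'
  apply Subgroup.mem_map_of_mem
  have hlt : I < Q'.comap π := by
    refine lt_of_le_of_ne ?_ ?_
    · intro x hx
      rw [← hker] at hx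
      rw [Subgroup.mem_comap, MonoidHom.mem_ker.mp hx]
      exact Q'.one_mem
    · intro heq
      apply hQne
      rw [← Subgroup.map_comap_eq_self_of_surjective hπs Q', ← heq]
      rw [Subgroup.map_eq_bot_iff, hker]
  have hle : Q'.comap π ≤ T₀ := by
    rw [← hcomapT]
    exact Subgroup.comap_mono hQT
  apply hH _ hlt hle
  apply Subgroup.le_normalizer_comap π
  exact ha'

end Cfsg.Agent.Lib.Helper9
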