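import Mathlib
import Cfsg.Prelude.Def_EvenType
import Cfsg.Prelude.Def_ClassificationK
import Cfsg.Agent.Lib.Helper9.StronglyEmbAux3

set_option autoImplicit false

/-! If `A / I` has a strongly `p`-embedded subgroup, there is a proper subgroup of `A` containing every
element that conjugates some element of `T₀ ∖ I` into `T₀`. -/

namespace Cfsg.Agent.Lib.Helper9

open Cfsg

theorem exists_proper_of_stronglyPEmbedded {A : Type*} [Group A] [Finite A] (p : ℕ) [Fact p.Prime]
    (I : Subgroup A) [I.Normal] (T₀ : Sylow p A) (hIT : I ≤ T₀)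
    {E' : Subgroup (A ⧸ I)} (hE' : IsStronglyPEmbedded p E') :
    ∃ M : Subgroup A, M ≠ ⊤ ∧ ∀ α q : A, q ∈ (T₀ : Subgroup A) → q ∉ I →
      α * q * α⁻¹ ∈ (T₀ : Subgroup A) → α ∈ M := by
  obtain ⟨π, hπ⟩ : ∃ π : A →* A ⧸ I, π = QuotientGroup.mk' I := ⟨_, rfl⟩
  have hπs : Function.Surjective π := by rw [hπ]; exact QuotientGroup.mk'_surjective I
  have hker : π.ker = I := by rw [hπ]; exact QuotientGroup.ker_mk' I
  obtain ⟨T, hTdef⟩ : ∃ T : Sylow p (A ⧸ I), T = T₀.mapSurjective hπs := ⟨_, rfl⟩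
  have hT : (T : Subgroup (A ⧸ I)) = (T₀ : Subgroup A).map π := by
    rw [hTdef]; exact Sylow.coe_mapSurjective hπs T₀
  have hne := exists_ne_top_ge_kGeneratedCore hE' T
  refine ⟨(kGeneratedCore p 1 (T : Subgroup (A ⧸ I))).comap π, ?_, ?_⟩
  · intro htop
    apply hne
    rw [eq_top_iff]
    intro x _
    obtain ⟨a, rfl⟩ := hπs x
    have : a ∈ (kGeneratedCore p 1 (T : Subgroup (A ⧸ I))).comap π := by rw [htop]; exact Subgroup.mem_top a
    exact this
  · intro α q hqT hqI hconj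
    rw [Subgroup.mem_comap]
    have hUT : Subgroup.zpowers (π q) ≤ (T : Subgroup (A ⧸ I)) := by
      rw [Subgroup.zpowers_le, hT]
      exact Subgroup.mem_map_of_mem π hqT
    have hUne : Subgroup.zpowers (π q) ≠ ⊥ := by
      intro h
      rw [Subgroup.zpowers_eq_bot] at h
      apply hqI
      rw [← hker]
      exact h
    have hUconj : (Subgroup.zpowers (π q)).map (MulAut.conj (π α)).toMonoidHom ≤ (T : Subgroup (A ⧸ I)) := by
      rw [MonoidHom.map_zpowers, Subgroup.zpowers_le, hT]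
      refine ⟨α * q * α⁻¹, hconj, ?_⟩
      rw [map_mul, map_mul, map_inv]
      rfl
    exact mem_kGeneratedCore_of_conj_le T _ _ hUT hUne (π α) hUconj rfl

end Cfsg.Agent.Lib.Helper9
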