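import Mathlib
import Cfsg.Prelude
import Cfsg.Agent.Lib.Helper9.EssGen1

set_option autoImplicit false

/-!
# Characteristic chains with factors of order `p`: automizers are `p`-closed

If a finite `p`-group `H` has a chain of characteristic subgroups with all factors of order `p` (or `1`),
then every subgroup `A` of `Aut H` has a normal `p`-subgroup containing all its `p`-elements; so no quotient
`A ⧸ I` has a strongly `p`-embedded subgroup.
-/

namespace Cfsg.Agent.H9CS

open Cfsg Cfsg.Agent.Lib.Helper9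

/-- an endomorphism of `p`-power order fixes an element of order `p` whose cyclic group it preserves -/
theorem fix_of_iterate {G : Type*} [Group G] (p : ℕ) [Fact p.Prime] (f : G →* G) (k : ℕ) (y : G)
    (hf : (f^[p ^ k]) y = y) (hy : y ^ p = 1) (hfy : f y ∈ Subgroup.zpowers y) : f y = y := by
  have hpp : p.Prime := Fact.out
  by_cases hy1 : y = 1
  · rw [hy1, map_one]
  have hord : orderOf y = p := orderOf_eq_prime hy hy1
  have hfin : IsOfFinOrder y := isOfFinOrder_iff_pow_eq_one.mpr ⟨p, hpp.pos, hy⟩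
  rw [← hfin.mem_powers_iff_mem_zpowers] at hfy
  obtain ⟨m, hm⟩ := hfy
  have hm' : f y = y ^ m := hm.symm
  have hiter : ∀ j : ℕ, (f^[j]) y = y ^ (m ^ j) := by
    intro j
    induction j with
    | zero => rw [Function.iterate_zero, id_eq, pow_zero, pow_one]
    | succ j ih =>
      rw [Function.iterate_succ_apply', ih, map_pow, hm', ← pow_mul, pow_succ, mul_comm]
  have h1 : y ^ (m ^ (p ^ k)) = y ^ 1 := by rw [← hiter, hf, pow_one]
  rw [pow_eq_pow_iff_modEq, hord] at h1
  have h2 : ((m ^ (p ^ k) : ℕ) : ZMod p) = ((1 : ℕ) : ZMod p) := (ZMod.natCast_eq_natCast_iff _ _ _).mpr h1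
  rw [Nat.cast_pow, ZMod.pow_card_pow, Nat.cast_one] at h2
  have h3 : m ≡ 1 [MOD p] := by
    rw [← ZMod.natCast_eq_natCast_iff, h2, Nat.cast_one]
  rw [hm']
  have h4 : y ^ m = y ^ 1 := by
    rw [pow_eq_pow_iff_modEq, hord]
    exact h3
  rw [h4, pow_one]

variable {H : Type*} [Group H]

theorem pow_mem_of_char (N : Subgroup H) (q : MulAut H) (hN : ∀ h ∈ N, q h ∈ N) (j : ℕ) :
    ∀ h ∈ N, (q ^ j) h ∈ N := by
  induction j with
  | zero => intro h hh; rw [pow_zero]; exact hh
  | succ j ih =>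
    intro h hh
    rw [pow_succ, MulAut.mul_apply]
    exact ih _ (hN h hh)

/-- an automorphism of `p`-power order acts trivially on an invariant section of order `p` -/
theorem step (p : ℕ) [Fact p.Prime] (q : MulAut H) (k : ℕ) (hq : q ^ (p ^ k) = 1)
    (N L : Subgroup H) [N.Normal] (hN : ∀ h ∈ N, q h ∈ N) (hL : ∀ h ∈ L, q h ∈ L)
    (hidx : N.relIndex L ∣ p) : ∀ h ∈ L, h⁻¹ * q h ∈ N := by
  have hpp : p.Prime := Fact.out
  intro h hh
  obtain ⟨f, hf⟩ : ∃ f : H ⧸ N →* H ⧸ N, f = QuotientGroup.map N N q.toMonoidHom hN := ⟨_, rfl⟩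
  have hfmk : ∀ x : H, f (QuotientGroup.mk x) = QuotientGroup.mk (q x) := by
    intro x
    rw [hf]
    rfl
  have hiter : ∀ (j : ℕ) (x : H), (f^[j]) (QuotientGroup.mk x) = QuotientGroup.mk ((q ^ j) x) := by
    intro j
    induction j with
    | zero => intro x; rw [Function.iterate_zero, id_eq, pow_zero]; rfl
    | succ j ih =>
      intro x
      rw [Function.iterate_succ_apply, hfmk, ih, pow_succ, MulAut.mul_apply]
  obtain ⟨Y, hY⟩ : ∃ Y : Subgroup (H ⧸ N), Y = L.map (QuotientGroup.mk' N) := ⟨_, rfl⟩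
  have hcardY : Nat.card Y ∣ p := by
    have := Subgroup.relIndex_ker (QuotientGroup.mk' N) (K := L)
    rw [QuotientGroup.ker_mk'] at this
    rw [hY, ← this]
    exact hidx
  have hYfin : Finite Y := Nat.finite_of_card_ne_zero (fun h0 => by
    rw [h0] at hcardY
    exact hpp.ne_zero (Nat.eq_zero_of_zero_dvd hcardY))
  obtain ⟨y, hy⟩ : ∃ y : H ⧸ N, y = QuotientGroup.mk h := ⟨_, rfl⟩
  have hyY : y ∈ Y := by
    rw [hy, hY]
    exact ⟨h, hh, rfl⟩
  have hfyY : f y ∈ Y := by
    rw [hy, hfmk, hY]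
    exact ⟨q h, hL h hh, rfl⟩
  have hordY : orderOf y ∣ Nat.card Y := by
    have := orderOf_dvd_natCard (⟨y, hyY⟩ : Y)
    rwa [Subgroup.orderOf_mk] at this
  have hyp : y ^ p = 1 := orderOf_dvd_iff_pow_eq_one.mp (hordY.trans hcardY)
  have hfz : f y ∈ Subgroup.zpowers y := by
    by_cases hy1 : y = 1
    · rw [hy1, map_one]
      exact Subgroup.one_mem _
    · have hord : orderOf y = p := orderOf_eq_prime hyp hy1
      have hcY : Nat.card Y = p := by
        rcases (Nat.dvd_prime hpp).mp hcardY with h1 | h1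
        · exfalso
          rw [h1] at hordY
          rw [Nat.dvd_one.mp hordY] at hord
          exact hpp.one_lt.ne hord
        · exact h1
      have : Subgroup.zpowers y = Y := by
        apply Subgroup.eq_of_le_of_card_ge (Subgroup.zpowers_le.mpr hyY)
        rw [Nat.card_zpowers, hord, hcY]
      rw [this]
      exact hfyY
  have hfix : (f^[p ^ k]) y = y := by
    rw [hy, hiter, hq]
    rfl
  have := fix_of_iterate p f k y hfix hyp hfz
  rw [hy, hfmk] at this
  exact QuotientGroup.eq.mp this.symm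

/-- the stability group of a chain of characteristic subgroups, inside `A` -/
def stab (A : Subgroup (MulAut H)) (K : ℕ → Subgroup H)
    (hchar : ∀ (i : ℕ) (α : MulAut H), ∀ h ∈ K i, α h ∈ K i) : Subgroup A where
  carrier := {α | ∀ i, ∀ h ∈ K (i + 1), h⁻¹ * (α : MulAut H) h ∈ K i}
  one_mem' := by
    intro i h _
    show h⁻¹ * (1 : MulAut H) h ∈ K i
    rw [MulAut.one_apply, inv_mul_cancel]
    exact Subgroup.one_mem _
  mul_mem' := by
    intro α β hα hβ i h hh
    show h⁻¹ * ((α : MulAut H) * (β : MulAut H)) h ∈ K i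
    rw [MulAut.mul_apply]
    have h1 := hβ i h hh
    have h2 := hα i _ (hchar (i + 1) β h hh)
    have := Subgroup.mul_mem _ h1 h2
    rwa [mul_assoc, mul_inv_cancel_left] at this
  inv_mem' := by
    intro α hα i h hh
    show h⁻¹ * ((α : MulAut H)⁻¹) h ∈ K i
    have h1 := hα i _ (hchar (i + 1) (α : MulAut H)⁻¹ h hh)
    rw [MulAut.apply_inv_self] at h1
    have := Subgroup.inv_mem _ h1
    rwa [mul_inv_rev, inv_inv] at this

theorem mem_stab (A : Subgroup (MulAut H)) (K : ℕ → Subgroup H)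
    (hchar : ∀ (i : ℕ) (α : MulAut H), ∀ h ∈ K i, α h ∈ K i) (α : A) :
    α ∈ stab A K hchar ↔ ∀ i, ∀ h ∈ K (i + 1), h⁻¹ * (α : MulAut H) h ∈ K i := Iff.rfl

theorem stab_normal (A : Subgroup (MulAut H)) (K : ℕ → Subgroup H)
    (hchar : ∀ (i : ℕ) (α : MulAut H), ∀ h ∈ K i, α h ∈ K i) : (stab A K hchar).Normal := by
  constructor
  intro α hα γ
  rw [mem_stab]
  intro i h hh
  show h⁻¹ * ((γ : MulAut H) * (α : MulAut H) * (γ : MulAut H)⁻¹) h ∈ K i
  rw [MulAut.mul_apply, MulAut.mul_apply]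
  have h1 := hα i _ (hchar (i + 1) (γ : MulAut H)⁻¹ h hh)
  have h2 := hchar i (γ : MulAut H) _ h1
  rw [map_mul, map_inv, MulAut.apply_inv_self] at h2
  exact h2

/-- iterating an automorphism which is trivial on `N` and modulo `N` -/
theorem pow_apply_of_triv (β : MulAut H) (h k : H) (hk : β h = h * k) (hβk : β k = k) (j : ℕ) :
    (β ^ j) h = h * k ^ j := by
  induction j with
  | zero => rw [pow_zero, pow_zero, mul_one]; rfl
  | succ j ih =>
    rw [pow_succ', MulAut.mul_apply, ih, map_mul, map_pow, hk, hβk, mul_assoc, ← pow_succ']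

theorem stab_isPGroup [Finite H] (p : ℕ) [Fact p.Prime] (hH : IsPGroup p H)
    (A : Subgroup (MulAut H)) (K : ℕ → Subgroup H)
    (hchar : ∀ (i : ℕ) (α : MulAut H), ∀ h ∈ K i, α h ∈ K i) (h0 : K 0 = ⊥) (n : ℕ)
    (hn : K n = ⊤) : IsPGroup p (stab A K hchar) := by
  obtain ⟨c, hc⟩ := IsPGroup.iff_card.mp hH
  have key : ∀ α : A, α ∈ stab A K hchar → ∀ i : ℕ, ∀ h ∈ K i,
      ((α : MulAut H) ^ ((Nat.card H) ^ i)) h = h := by
    intro α hα i
    induction i with
    | zero =>
      intro h hh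
      rw [h0, Subgroup.mem_bot] at hh
      rw [hh, map_one]
    | succ i ih =>
      intro h hh
      obtain ⟨β, hβ⟩ : ∃ β : A, β = α ^ ((Nat.card H) ^ i) := ⟨_, rfl⟩
      have hβs : β ∈ stab A K hchar := by rw [hβ]; exact Subgroup.pow_mem _ hα _
      have hβc : (β : MulAut H) = (α : MulAut H) ^ ((Nat.card H) ^ i) := by rw [hβ]; rfl
      have h1 := hβs i h hh
      have h2 : (β : MulAut H) (h⁻¹ * (β : MulAut H) h) = h⁻¹ * (β : MulAut H) h := by
        rw [hβc]
        exact ih _ (hβc ▸ h1)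
      have h3 : (β : MulAut H) h = h * (h⁻¹ * (β : MulAut H) h) := by rw [mul_inv_cancel_left]
      have h4 := pow_apply_of_triv (β : MulAut H) h _ h3 h2 (Nat.card H)
      rw [pow_card_eq_one', mul_one, hβc, ← pow_mul, ← pow_succ] at h4
      exact h4
  intro ⟨α, hα⟩
  refine ⟨c * n, ?_⟩
  apply Subtype.ext
  apply Subtype.ext
  show (α : MulAut H) ^ (p ^ (c * n)) = 1
  ext h
  have := key α hα n h (by rw [hn]; exact Subgroup.mem_top h)
  rw [hc, ← pow_mul] at this
  rw [this]
  rfl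

/-- every `p`-element of `A` lies in the stability group -/
theorem mem_stab_of_pow (p : ℕ) [Fact p.Prime] (A : Subgroup (MulAut H)) (K : ℕ → Subgroup H)
    (hchar : ∀ (i : ℕ) (α : MulAut H), ∀ h ∈ K i, α h ∈ K i)
    (hidx : ∀ i, (K i).relIndex (K (i + 1)) ∣ p) (q : A) (k : ℕ) (hq : q ^ (p ^ k) = 1) :
    q ∈ stab A K hchar := by
  rw [mem_stab]
  intro i
  haveI : (K i).Normal := by
    constructor
    intro x hx g
    exact hchar i (MulAut.conj g) x hx
  have hq' : (q : MulAut H) ^ (p ^ k) = 1 := by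
    have := congrArg (fun a : A => (a : MulAut H)) hq
    exact this
  exact step p (q : MulAut H) k hq' (K i) (K (i + 1)) (hchar i _) (hchar (i + 1) _) (hidx i)

/-- a normal `p`-subgroup containing all `p`-elements contradicts a strongly `p`-embedded subgroup in a
quotient by a normal `p`-subgroup -/
theorem contra_of_normal_pgroup {A : Type*} [Group A] [Finite A] (p : ℕ) [Fact p.Prime]
    (I : Subgroup A) [I.Normal] (hI : IsPGroup p I) (E : Subgroup (A ⧸ I))
    (hE : IsStronglyPEmbedded p E) (R : Subgroup A) (hRn : R.Normal) (hRp : IsPGroup p R)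
    (hall : ∀ (q : A) (k : ℕ), q ^ (p ^ k) = 1 → q ∈ R) : False := by
  obtain ⟨T₀, hRT⟩ := (hRp.to_sup_of_normal_right hI).exists_le_sylow
  have hRT₀ : R ≤ (T₀ : Subgroup A) := le_trans le_sup_left hRT
  have hIT₀ : I ≤ (T₀ : Subgroup A) := le_trans le_sup_right hRT
  by_cases hTI : (T₀ : Subgroup A) ≤ I
  · -- then `p` does not divide the order of `A ⧸ I`
    have h1 : p ∣ I.index := hE.1
    have h2 := Subgroup.relIndex_mul_index hTI
    have h3 : p ∣ (T₀ : Subgroup A).index := by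
      rw [← h2]
      exact Dvd.dvd.mul_left h1 _
    exact T₀.not_dvd_index h3
  · obtain ⟨q, hqT, hqI⟩ := Set.not_subset.mp hTI
    obtain ⟨M, hM, hMem⟩ := exists_proper_of_stronglyPEmbedded p I T₀ hIT₀ hE
    obtain ⟨k, hk⟩ := T₀.isPGroup' ⟨q, hqT⟩
    have hk' : q ^ (p ^ k) = 1 := congrArg Subtype.val hk
    have hqR : q ∈ R := hall q k hk'
    apply hM
    rw [eq_top_iff]
    intro α _
    exact hMem α q hqT hqI (hRT₀ (hRn.conj_mem q hqR α))

/-- a commutative group has no strongly `p`-embedded subgroup in a quotient by a `p`-subgroup -/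
theorem contra_of_comm {A : Type*} [Group A] [Finite A] (p : ℕ) [Fact p.Prime]
    (hcomm : ∀ a b : A, a * b = b * a)
    (I : Subgroup A) [I.Normal] (hI : IsPGroup p I) (E : Subgroup (A ⧸ I))
    (hE : IsStronglyPEmbedded p E) : False := by
  obtain ⟨R, hR⟩ : ∃ R : Subgroup A, ∀ q : A, q ∈ R ↔ ∃ k : ℕ, q ^ (p ^ k) = 1 := by
    refine ⟨{ carrier := {q | ∃ k : ℕ, q ^ (p ^ k) = 1}
              one_mem' := ⟨0, one_pow _⟩
              mul_mem' := ?_
              inv_mem' := ?_ }, fun q => Iff.rfl⟩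
    · rintro a b ⟨k, hk⟩ ⟨l, hl⟩
      refine ⟨k + l, ?_⟩
      have hc : Commute a b := hcomm a b
      rw [hc.mul_pow, pow_add, pow_mul, hk, one_pow, mul_comm (p ^ k), pow_mul, hl, one_pow, one_mul]
    · rintro a ⟨k, hk⟩
      exact ⟨k, by rw [inv_pow, hk, inv_one]⟩
  refine contra_of_normal_pgroup p I hI E hE R ?_ ?_ ?_
  · constructor
    intro n hn g
    have : g * n * g⁻¹ = n := by rw [hcomm g n, mul_inv_cancel_right]
    rw [this]
    exact hn
  · intro ⟨q, hq⟩
    obtain ⟨k, hk⟩ := (hR q).mp hq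
    exact ⟨k, Subtype.ext hk⟩
  · intro q k hk
    exact (hR q).mpr ⟨k, hk⟩

/-- the main consequence: no strongly `p`-embedded subgroup in a quotient of `A` by a normal `p`-subgroup -/
theorem chain_contra [Finite H] (p : ℕ) [Fact p.Prime] (hH : IsPGroup p H)
    (A : Subgroup (MulAut H)) (I : Subgroup A) [I.Normal] (hI : IsPGroup p I) (E : Subgroup (A ⧸ I))
    (hE : IsStronglyPEmbedded p E) (K : ℕ → Subgroup H)
    (hchar : ∀ (i : ℕ) (α : MulAut H), ∀ h ∈ K i, α h ∈ K i) (h0 : K 0 = ⊥) (n : ℕ)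
    (hn : K n = ⊤) (hidx : ∀ i, (K i).relIndex (K (i + 1)) ∣ p) : False := by
  haveI : Finite (MulAut H) :=
    Finite.of_injective (fun f : MulAut H => (f : H → H)) DFunLike.coe_injective
  exact contra_of_normal_pgroup p I hI E hE (stab A K hchar) (stab_normal A K hchar)
    (stab_isPGroup p hH A K hchar h0 n hn)
    (fun q k hk => mem_stab_of_pow p A K hchar hidx q k hk)

end Cfsg.Agent.H9CS
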