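import Mathlib
import Cfsg.Prelude
import Cfsg.Agent.Lib.Helper9.FusionBasic
import Cfsg.Agent.Lib.Helper9.FusionAut
import Cfsg.Agent.Lib.Helper9.FusionAut2
import Cfsg.Agent.Lib.Helper9.FusionTransport
import Cfsg.Agent.Lib.Helper9.FusionSat1
import Cfsg.Agent.Lib.Helper9.FusionSat2

set_option autoImplicit false

/-!
# Subsystems over the same group satisfying the Frattini condition: they contain all `p`-elements of
the automizers
-/

namespace Cfsg.Agent.Lib.Helper9.H9SC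

open Cfsg Cfsg.FusionSystem Cfsg.Agent.Lib.Helper9

/-- an element of `p`-power order is conjugate into any given Sylow `p`-subgroup -/
theorem exists_conj_mem_sylow {A : Type*} [Group A] [Finite A] {p : ℕ} [Fact p.Prime] (T₀ : Sylow p A)
    (b : A) (hb : ∃ k : ℕ, orderOf b = p ^ k) : ∃ d : A, d * b * d⁻¹ ∈ (T₀ : Subgroup A) := by
  obtain ⟨k, hk⟩ := hb
  have hpg : IsPGroup p (Subgroup.zpowers b) := by
    apply IsPGroup.of_card (n := k)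
    rw [Nat.card_zpowers, hk]
  obtain ⟨Q, hQ⟩ := hpg.exists_le_sylow
  obtain ⟨g, hg⟩ := MulAction.exists_smul_eq A Q T₀
  refine ⟨g, ?_⟩
  rw [← hg, Sylow.coe_subgroup_smul]
  have h1 : b ∈ (Q : Subgroup A) := hQ (Subgroup.mem_zpowers b)
  have h2 := Subgroup.smul_mem_pointwise_smul b (MulAut.conj g) (Q : Subgroup A) h1
  rw [MulAut.smul_def, MulAut.conj_apply] at h2
  exact h2

variable {Ω : Type*} [Group Ω] {S : Subgroup Ω}

/-- the Frattini condition for a subsystem over the same group -/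
def Frat (F E : FusionSystem S) : Prop :=
  ∀ (P : Subgroup Ω), P ≤ S → ∀ (φ : P →* Ω), φ ∈ F.Hom P →
    ∃ α ∈ F.autGroup S, ∃ φ₀ ∈ E.Hom P, ∀ (x : P) (hx : φ₀ x ∈ S), φ x = ((α ⟨φ₀ x, hx⟩ : S) : Ω)

/-- if a subsystem `E` over `S` of a saturated system `F` satisfies the Frattini condition, then every
element of `p`-power order of `Aut_F(P)` lies in `Aut_E(P)` -/
theorem pElement_mem [Finite S] (p : ℕ) [Fact p.Prime] (hS : IsPGroup p S) (F : FusionSystem S)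
    (hF : F.IsSaturated p) (E : FusionSystem S) (hfrat : Frat F E) {P : Subgroup Ω} (hPS : P ≤ S)
    (β : MulAut P) (hβ : β ∈ F.autGroup P) (hord : ∃ k : ℕ, orderOf β = p ^ k) :
    β ∈ E.autGroup P := by
  obtain ⟨P', hPP', hP'⟩ := fs_exists_fullyNormalized F hPS
  obtain ⟨ξ, hξ, rfl⟩ := hPP'
  obtain ⟨-, hRS, T₀, hT₀⟩ := fs_sylow_axiom p hS F hF hP'
  haveI : Finite ξ.range := fs_finite_of_le hRS
  haveI : Finite P := fs_finite_of_le hPS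
  obtain ⟨e, he⟩ : ∃ e : P ≃* ξ.range, e = fsEquiv F hξ := ⟨_, rfl⟩
  have hex : ∀ x : P, ((e x : ξ.range) : Ω) = ξ x := by intro x; rw [he]; rfl
  obtain ⟨β', hβ'def⟩ : ∃ β' : MulAut ξ.range, β' = MulAut.congr e β := ⟨_, rfl⟩
  have hβ'F : β' ∈ F.autGroup ξ.range := by
    rw [hβ'def, he]; exact congr_mem_autGroup F hξ β hβ
  have hβ'app : ∀ x : P, β' (e x) = e (β x) := by
    intro x
    rw [hβ'def]
    simp [MulAut.congr]
  have hβ'ord : ∃ k : ℕ, orderOf (⟨β', hβ'F⟩ : F.autGroup ξ.range) = p ^ k := by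
    obtain ⟨k, hk⟩ := hord
    refine ⟨k, ?_⟩
    rw [← hk, ← Subgroup.orderOf_coe]
    show orderOf β' = orderOf β
    rw [hβ'def]
    exact MulEquiv.orderOf_eq (MulAut.congr e) β
  obtain ⟨d, hd⟩ := exists_conj_mem_sylow T₀ ⟨β', hβ'F⟩ hβ'ord
  rw [hT₀, Subgroup.mem_subgroupOf, mem_autInducedBy_iff] at hd
  obtain ⟨s, hs, Hs⟩ := hd
  obtain ⟨δ, hδdef⟩ : ∃ δ : MulAut ξ.range, δ = (d : MulAut ξ.range) := ⟨_, rfl⟩
  have hδF : δ ∈ F.autGroup ξ.range := by rw [hδdef]; exact d.2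
  have hδ' := (mem_autGroup_iff F hRS δ).mp hδF
  have hvalξ : ∀ x : P, ξ x ∈ ξ.range := fun x => ⟨x, rfl⟩
  obtain ⟨ξ', hξ'def⟩ : ∃ ξ' : P →* Ω,
      ξ' = (ξ.range.subtype.comp δ.toMonoidHom).comp (ξ.codRestrict ξ.range hvalξ) := ⟨_, rfl⟩
  have hξ' : ξ' ∈ F.Hom P := by rw [hξ'def]; exact F.comp_mem hξ hδ' hvalξ
  have hξ'app : ∀ x : P, ξ' x = ((δ (e x) : ξ.range) : Ω) := by
    intro x
    rw [hξ'def]
    have : ξ.codRestrict ξ.range hvalξ x = e x := Subtype.ext (hex x).symm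
    simp only [MonoidHom.coe_comp, Function.comp_apply, Subgroup.subtype_apply,
      MulEquiv.coe_toMonoidHom]
    rw [this]
  have hkey : ∀ x : P, ξ' (β x) = s * ξ' x * s⁻¹ := by
    intro x
    rw [hξ'app, hξ'app]
    have h1 := Hs (δ (e x))
    rw [← h1]
    have h2 : ((d * ⟨β', hβ'F⟩ * d⁻¹ : F.autGroup ξ.range) : MulAut ξ.range) = δ * β' * δ⁻¹ := by
      rw [hδdef]; rfl
    rw [h2, MulAut.mul_apply, MulAut.mul_apply, MulAut.inv_apply_self, hβ'app]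
  obtain ⟨α, hα, ξ₀, hξ₀, Hξ₀⟩ := hfrat P hPS ξ' hξ'
  have hξ₀S : ∀ x : P, ξ₀ x ∈ S := (E.le_of_mem hξ₀).2
  obtain ⟨t, htdef⟩ : ∃ t : S, t = α⁻¹ ⟨s, hs⟩ := ⟨_, rfl⟩
  have hαt : α t = ⟨s, hs⟩ := by rw [htdef, MulAut.apply_inv_self]
  have hconj : ∀ x : P, ξ₀ (β x) = (t : Ω) * ξ₀ x * (t : Ω)⁻¹ := by
    intro x
    have h1 : α ⟨ξ₀ (β x), hξ₀S _⟩ = α (t * ⟨ξ₀ x, hξ₀S x⟩ * t⁻¹) := by
      apply Subtype.ext
      rw [← Hξ₀ (β x) (hξ₀S _), hkey x, Hξ₀ x (hξ₀S x), map_mul, map_mul, map_inv, hαt]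
      rfl
    have h2 := α.injective h1
    exact congrArg Subtype.val h2
  have hr₀S : ξ₀.range ≤ S := fs_range_le E hξ₀
  have hvalξ₀ : ∀ x : P, ξ₀ x ∈ ξ₀.range := fun x => ⟨x, rfl⟩
  obtain ⟨ω, hωdef⟩ : ∃ ω : P →* Ω,
      ω = (conjHom ξ₀.range (t : Ω)).comp (ξ₀.codRestrict ξ₀.range hvalξ₀) := ⟨_, rfl⟩
  have hω : ω ∈ E.Hom P := by
    rw [hωdef]; exact E.comp_mem hξ₀ (E.conj_mem hr₀S t.2) hvalξ₀
  have hωapp : ∀ x : P, ω x = ξ₀ (β x) := by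
    intro x
    rw [hωdef, hconj]
    rfl
  have hvalω : ∀ x : P, ω x ∈ ξ₀.range := by
    intro x; rw [hωapp]; exact ⟨_, rfl⟩
  obtain ⟨ψ, hψ, Hψ⟩ := E.inv_mem hξ₀
  have hfin := E.comp_mem hω hψ hvalω
  rw [mem_autGroup_iff E hPS]
  have : P.subtype.comp β.toMonoidHom = ψ.comp (ω.codRestrict ξ₀.range hvalω) := by
    ext x
    simp only [MonoidHom.coe_comp, Function.comp_apply, Subgroup.subtype_apply,
      MulEquiv.coe_toMonoidHom]
    have h1 : ω.codRestrict ξ₀.range hvalω x = ⟨ξ₀ (β x), ⟨β x, rfl⟩⟩ := Subtype.ext (hωapp x)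
    rw [h1, Hψ]
  rw [this]
  exact hfin

end Cfsg.Agent.Lib.Helper9.H9SC
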