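import Mathlib
import Cfsg.Prelude
import Cfsg.Agent.Lib.Helper9.SimpCrit1
import Cfsg.Agent.Lib.Helper9.FusionSat3
import Cfsg.Agent.Lib.Helper9.FusionNormMap
import Cfsg.Agent.Lib.Helper9.ChainStab1

set_option autoImplicit false

/-!
# Extending an automorphism of a centric subgroup lying in a subsystem of index prime to `p`
-/

namespace Cfsg.Agent.Lib.Helper9.H9SC

open Cfsg Cfsg.FusionSystem Cfsg.Agent.Lib.Helper9 Cfsg.Agent.H9CS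

variable {Ω : Type*} [Group Ω] {S : Subgroup Ω}

theorem autGroup_mono {T : Subgroup Ω} (E : FusionSystem T) (F : FusionSystem S)
    (hsub : E.IsSubsystemOf F) {P : Subgroup Ω} (hPT : P ≤ T) (hPS : P ≤ S) :
    E.autGroup P ≤ F.autGroup P := by
  intro a ha
  rw [mem_autGroup_iff E hPT] at ha
  rw [mem_autGroup_iff F hPS]
  exact hsub P ha

/-- an automorphism trivial on a normal `p`-subgroup `R` and modulo `R` has `p`-power order -/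
theorem pElement_of_trivial {N : Type*} [Group N] (p : ℕ) [hp : Fact p.Prime] (R : Subgroup N)
    [Finite R] (hR : IsPGroup p R) (χ : MulAut N) (h1 : ∀ r ∈ R, χ r = r)
    (h2 : ∀ x : N, x⁻¹ * χ x ∈ R) : ∃ k : ℕ, orderOf χ = p ^ k := by
  obtain ⟨m, hm⟩ := IsPGroup.iff_card.mp hR
  have hpow : χ ^ (Nat.card R) = 1 := by
    ext x
    have hk : χ x = x * (x⁻¹ * χ x) := by group
    have h3 := pow_apply_of_triv χ x (x⁻¹ * χ x) hk (h1 _ (h2 x)) (Nat.card R)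
    rw [h3]
    have h4 : (⟨x⁻¹ * χ x, h2 x⟩ : R) ^ Nat.card R = 1 := pow_card_eq_one'
    have h5 : (x⁻¹ * χ x) ^ Nat.card R = 1 := by
      have h6 := congrArg Subtype.val h4
      rw [Subgroup.coe_pow, Subgroup.coe_one] at h6
      exact h6
    rw [h5, mul_one]; rfl
  have hdvd : orderOf χ ∣ p ^ m := by rw [← hm]; exact orderOf_dvd_of_pow_eq_one hpow
  obtain ⟨j, -, hj⟩ := (Nat.dvd_prime_pow hp.out).mp hdvd
  exact ⟨j, hj⟩

set_option maxHeartbeats 1000000 in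
/-- **Extension step.** Let `E ⊆ F` be saturated systems over `S` such that `E` contains all
`p`-elements of the automizers of `F`. If `α ∈ Aut_F(S)` normalises the `F`-centric subgroup `R` and
restricts to an element of `Aut_E(R)`, then it restricts to an element of `Aut_E(N_S(R))`. -/
theorem ext_step [Finite S] (p : ℕ) [Fact p.Prime] (hS : IsPGroup p S) (F : FusionSystem S)
    (E : FusionSystem S) (hE : E.IsSaturated p) (hsub : E.IsSubsystemOf F)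
    (hpel : ∀ P : Subgroup Ω, P ≤ S → ∀ β ∈ F.autGroup P, (∃ k : ℕ, orderOf β = p ^ k) →
      β ∈ E.autGroup P)
    {R : Subgroup Ω} (hR : F.IsCentric R) (α : MulAut S) (hα : α ∈ F.autGroup S)
    (β : MulAut R) (hβα : ∀ x : R, ((β x : R) : Ω) = ((α ⟨x, hR.1 x.2⟩ : S) : Ω))
    (hβE : β ∈ E.autGroup R) :
    ∃ γ ∈ E.autGroup (normalizerIn S R), ∀ x : normalizerIn S R,
      ((γ x : normalizerIn S R) : Ω) = ((α ⟨x, x.2.1⟩ : S) : Ω) := by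
  have hRS := hR.1
  have hNS : normalizerIn S R ≤ S := inf_le_left
  have hRN : R ≤ normalizerIn S R := fun x hx => ⟨hRS hx, Subgroup.le_normalizer hx⟩
  haveI : Finite R := fs_finite_of_le hRS
  haveI : Finite (normalizerIn S R) := fs_finite_of_le hNS
  -- `α` maps `R` onto `R`
  have hαR : ∀ r : R, ∃ r₀ : R, ((α ⟨r₀, hRS r₀.2⟩ : S) : Ω) = r := by
    intro r
    refine ⟨β⁻¹ r, ?_⟩
    rw [← hβα, MulAut.apply_inv_self]
  have hαconj : ∀ x ∈ normalizerIn S R, ∀ (hx : x ∈ S), ∀ r ∈ R,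
      ((α ⟨x, hx⟩ : S) : Ω) * r * ((α ⟨x, hx⟩ : S) : Ω)⁻¹ ∈ R := by
    intro x hxN hx r hr
    obtain ⟨r₀, hr₀⟩ := hαR ⟨r, hr⟩
    have hr₀' : ((α ⟨r₀, hRS r₀.2⟩ : S) : Ω) = r := hr₀
    have hmem : x * (r₀ : Ω) * x⁻¹ ∈ R := (Subgroup.mem_normalizer_iff.mp hxN.2 r₀).mp r₀.2
    have h1 := hβα ⟨x * r₀ * x⁻¹, hmem⟩
    have h2 : (⟨x * (r₀ : Ω) * x⁻¹, hRS hmem⟩ : S) = ⟨x, hx⟩ * ⟨r₀, hRS r₀.2⟩ * ⟨x, hx⟩⁻¹ := rfl
    have h3 : ((α ⟨x, hx⟩ : S) : Ω) * r * ((α ⟨x, hx⟩ : S) : Ω)⁻¹ =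
        ((α ⟨x * r₀ * x⁻¹, hRS hmem⟩ : S) : Ω) := by
      rw [h2, map_mul, map_mul, map_inv, Subgroup.coe_mul, Subgroup.coe_mul, Subgroup.coe_inv, hr₀']
    rw [h3, ← h1]
    exact (β _).2
  have hαN : ∀ x : normalizerIn S R, ((α ⟨x, hNS x.2⟩ : S) : Ω) ∈ normalizerIn S R := by
    intro x
    refine ⟨(α _).2, ?_⟩
    show ((α ⟨x, hNS x.2⟩ : S) : Ω) ∈ Subgroup.normalizer (R : Set Ω)
    rw [Subgroup.mem_normalizer_iff]
    intro h
    constructor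
    · intro hh; exact hαconj x x.2 (hNS x.2) h hh
    · intro hh
      have hx' : (x : Ω)⁻¹ ∈ normalizerIn S R := (normalizerIn S R).inv_mem x.2
      have h1 := hαconj _ hx' (hNS hx') _ hh
      have h2 : (⟨(x : Ω)⁻¹, hNS hx'⟩ : S) = (⟨x, hNS x.2⟩ : S)⁻¹ := rfl
      rw [h2, map_inv, Subgroup.coe_inv, inv_inv] at h1
      have h3 : ((α ⟨x, hNS x.2⟩ : S) : Ω)⁻¹ * (((α ⟨x, hNS x.2⟩ : S) : Ω) * h *
          ((α ⟨x, hNS x.2⟩ : S) : Ω)⁻¹) * ((α ⟨x, hNS x.2⟩ : S) : Ω) = h := by group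
      rw [h3] at h1; exact h1
  have hα' := (mem_autGroup_iff F le_rfl α).mp hα
  have hρ := fs_restrict_mem F hα' hNS
  obtain ⟨αN, hαNF, HαN⟩ := fs_hom_to_aut F hρ (fun y => hαN y)
  have HαN' : ∀ y : normalizerIn S R,
      ((αN y : normalizerIn S R) : Ω) = ((α ⟨y, hNS y.2⟩ : S) : Ω) := fun y => HαN y
  have hαNR : ∀ r : R, αN ⟨r, hRN r.2⟩ = ⟨β r, hRN (β r).2⟩ := by
    intro r; apply Subtype.ext; rw [HαN']; exact (hβα r).symm
  -- a fully `E`-normalised conjugate of `R`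
  obtain ⟨Q, hRQ, hQfn⟩ := fs_exists_fullyNormalized E hRS
  obtain ⟨hQfc, hQfa⟩ := fs_sylow_axiom p hS E hE hQfn
  have hQrec := fs_extension_axiom p hS E hE hQfc
  obtain ⟨θ, hθ, hθN, hθR⟩ := fs_exists_normalizer_map p hS E Q R hQfa hQrec hRQ
  have hβ' := (mem_autGroup_iff E hRS β).mp hβE
  have hθR' := fs_restrict_mem E hθ hRN
  have hvalβ : ∀ x : R, (R.subtype.comp β.toMonoidHom) x ∈ R := fun x => (β x).2
  obtain ⟨φ, hφdef⟩ : ∃ φ : R →* Ω, φ = (θ.comp (Subgroup.inclusion hRN)).comp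
      ((R.subtype.comp β.toMonoidHom).codRestrict R hvalβ) := ⟨_, rfl⟩
  have hφ : φ ∈ E.Hom R := by rw [hφdef]; exact E.comp_mem hβ' hθR' hvalβ
  have hφapp : ∀ x : R, φ x = θ ⟨β x, hRN (β x).2⟩ := by intro x; rw [hφdef]; rfl
  have hφr : φ.range = Q := by
    rw [← hθR]
    ext y
    constructor
    · rintro ⟨x, rfl⟩
      rw [hφapp]
      exact ⟨⟨β x, hRN (β x).2⟩, Subgroup.mem_subgroupOf.mpr (β x).2, rfl⟩
    · rintro ⟨z, hz, rfl⟩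
      rw [SetLike.mem_coe, Subgroup.mem_subgroupOf] at hz
      refine ⟨β⁻¹ ⟨z, hz⟩, ?_⟩
      rw [hφapp]
      congr 1
      apply Subtype.ext
      show ((β (β⁻¹ ⟨z, hz⟩) : R) : Ω) = z
      rw [MulAut.apply_inv_self]
  have key : ∀ (g : normalizerIn S R) (r : R) (hmem : (g : Ω) * r * (g : Ω)⁻¹ ∈ R),
      φ ⟨(g : Ω) * r * (g : Ω)⁻¹, hmem⟩ = θ (αN g) * φ r * (θ (αN g))⁻¹ := by
    intro g r hmem
    rw [hφapp, hφapp, ← map_inv, ← map_mul, ← map_mul]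
    congr 1
    apply Subtype.ext
    show ((β ⟨(g : Ω) * r * (g : Ω)⁻¹, hmem⟩ : R) : Ω) = ((αN g : normalizerIn S R) : Ω) * ((β r : R) : Ω) *
      ((αN g : normalizerIn S R) : Ω)⁻¹
    rw [hβα, HαN', hβα]
    have h2 : (⟨(g : Ω) * (r : Ω) * (g : Ω)⁻¹, hRS hmem⟩ : S) =
        ⟨g, hNS g.2⟩ * ⟨r, hRS r.2⟩ * ⟨g, hNS g.2⟩⁻¹ := rfl
    rw [h2, map_mul, map_mul, map_inv]; rfl
  obtain ⟨ψ, hψ, Hψ⟩ := hQrec.2 R φ hφ hφr
  have hNext : normalizerIn S R ≤ extender S R φ := by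
    intro g hg
    rw [mem_extender_iff]
    refine ⟨hg.1, hg.2, θ (αN ⟨g, hg⟩), (E.le_of_mem hθ).2 _, ?_⟩
    intro x hx
    exact key ⟨g, hg⟩ x hx
  have hψN := fs_restrict_mem E hψ hNext
  obtain ⟨ψN, hψNdef⟩ : ∃ ψN : normalizerIn S R →* Ω, ψN = ψ.comp (Subgroup.inclusion hNext) :=
    ⟨_, rfl⟩
  have hψN' : ψN ∈ E.Hom (normalizerIn S R) := by rw [hψNdef]; exact hψN
  have hψNR : ∀ r : R, ψN ⟨r, hRN r.2⟩ = φ r := by
    intro r; rw [hψNdef]; exact Hψ r r.2 (hNext (hRN r.2))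
  have hQcen : centralizerIn S Q ≤ Q := by
    apply hR.2 Q
    obtain ⟨f, hf, hfr⟩ := hRQ
    exact ⟨f, hsub R hf, hfr⟩
  have hvalψ : ∀ x : normalizerIn S R, ψN x ∈ θ.range := by
    intro x
    have hc : (θ (αN x))⁻¹ * ψN x ∈ centralizerIn S Q := by
      refine ⟨S.mul_mem (S.inv_mem ((E.le_of_mem hθ).2 _)) ((E.le_of_mem hψN').2 _), ?_⟩
      show _ ∈ Subgroup.centralizer (Q : Set Ω)
      rw [Subgroup.mem_centralizer_iff]
      intro q hq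
      rw [SetLike.mem_coe, ← hφr] at hq
      obtain ⟨r, rfl⟩ := hq
      have hmem : (x : Ω) * r * (x : Ω)⁻¹ ∈ R := (Subgroup.mem_normalizer_iff.mp x.2.2 r).mp r.2
      have e1 : ψN x * φ r * (ψN x)⁻¹ = φ ⟨(x : Ω) * r * (x : Ω)⁻¹, hmem⟩ := by
        rw [← hψNR r, ← hψNR ⟨_, hmem⟩, ← map_inv, ← map_mul, ← map_mul]
        congr 1
      have e3 : ψN x * φ r * (ψN x)⁻¹ = θ (αN x) * φ r * (θ (αN x))⁻¹ := e1.trans (key x r hmem)
      calc φ r * ((θ (αN x))⁻¹ * ψN x)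
          = (θ (αN x))⁻¹ * (θ (αN x) * φ r * (θ (αN x))⁻¹) * ψN x := by group
        _ = (θ (αN x))⁻¹ * (ψN x * φ r * (ψN x)⁻¹) * ψN x := by rw [e3]
        _ = (θ (αN x))⁻¹ * ψN x * φ r := by group
    have hcQ := hQcen hc
    rw [← hθR] at hcQ
    obtain ⟨z, -, hzc⟩ := hcQ
    refine ⟨αN x * z, ?_⟩
    rw [map_mul, hzc]; group
  obtain ⟨θ', hθ', Hθ'⟩ := E.inv_mem hθ
  have hcomp := E.comp_mem hψN' hθ' hvalψ
  have hval1 : ∀ y : normalizerIn S R,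
      (θ'.comp (ψN.codRestrict θ.range hvalψ)) y ∈ normalizerIn S R := by
    intro y
    obtain ⟨z, hz⟩ := hvalψ y
    have h1 : (ψN.codRestrict θ.range hvalψ) y = ⟨θ z, ⟨z, rfl⟩⟩ := Subtype.ext hz.symm
    show θ' ((ψN.codRestrict θ.range hvalψ) y) ∈ _
    rw [h1, Hθ']; exact z.2
  obtain ⟨ψ₁, hψ₁E, Hψ₁⟩ := fs_hom_to_aut E hcomp hval1
  have hθψ₁ : ∀ y : normalizerIn S R, θ (ψ₁ y) = ψN y := by
    intro y
    obtain ⟨z, hz⟩ := hvalψ y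
    have h1 : (ψN.codRestrict θ.range hvalψ) y = ⟨θ z, ⟨z, rfl⟩⟩ := Subtype.ext hz.symm
    have h2 : ((ψ₁ y : normalizerIn S R) : Ω) = z := by
      rw [Hψ₁]
      show θ' ((ψN.codRestrict θ.range hvalψ) y) = _
      rw [h1, Hθ']
    have h3 : ψ₁ y = z := Subtype.ext h2
    rw [h3, hz]
  have hψ₁R : ∀ r : R, ψ₁ ⟨r, hRN r.2⟩ = ⟨β r, hRN (β r).2⟩ := by
    intro r
    apply E.injective_of_mem hθ
    rw [hθψ₁, hψNR, hφapp]
  have hψ₁F : ψ₁ ∈ F.autGroup (normalizerIn S R) := autGroup_mono E F hsub hNS hNS hψ₁E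
  obtain ⟨χ, hχdef⟩ : ∃ χ : MulAut (normalizerIn S R), χ = αN⁻¹ * ψ₁ := ⟨_, rfl⟩
  have hχF : χ ∈ F.autGroup (normalizerIn S R) := by
    rw [hχdef]; exact Subgroup.mul_mem _ (Subgroup.inv_mem _ hαNF) hψ₁F
  have hχR : ∀ r ∈ (R.subgroupOf (normalizerIn S R)), χ r = r := by
    intro r hr
    rw [Subgroup.mem_subgroupOf] at hr
    have h1 : r = ⟨((⟨r, hr⟩ : R) : Ω), hRN hr⟩ := rfl
    rw [hχdef, MulAut.mul_apply]
    conv_lhs => rw [h1]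
    rw [hψ₁R, ← hαNR, MulAut.inv_apply_self]
  have hχ2 : ∀ x : normalizerIn S R, x⁻¹ * χ x ∈ R.subgroupOf (normalizerIn S R) := by
    intro x
    rw [Subgroup.mem_subgroupOf]
    apply hR.2 R (fs_isConj_refl F hRS)
    refine ⟨hNS (x⁻¹ * χ x).2, ?_⟩
    show _ ∈ Subgroup.centralizer (R : Set Ω)
    rw [Subgroup.mem_centralizer_iff]
    intro r hr
    have hmem : (x : Ω) * r * (x : Ω)⁻¹ ∈ R := (Subgroup.mem_normalizer_iff.mp x.2.2 r).mp hr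
    have h1 : χ (x * ⟨r, hRN hr⟩ * x⁻¹) = x * ⟨r, hRN hr⟩ * x⁻¹ :=
      hχR _ (by rw [Subgroup.mem_subgroupOf]; simpa using hmem)
    have h2 : χ ⟨r, hRN hr⟩ = ⟨r, hRN hr⟩ := hχR _ (by rw [Subgroup.mem_subgroupOf]; exact hr)
    rw [map_mul, map_mul, map_inv, h2] at h1
    have h3 := congrArg Subtype.val h1
    simp only [Subgroup.coe_mul, Subgroup.coe_inv] at h3
    simp only [Subgroup.coe_mul, Subgroup.coe_inv]
    calc r * ((x : Ω)⁻¹ * (χ x : Ω))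
        = (x : Ω)⁻¹ * ((x : Ω) * r * (x : Ω)⁻¹) * (χ x : Ω) := by group
      _ = (x : Ω)⁻¹ * ((χ x : Ω) * r * (χ x : Ω)⁻¹) * (χ x : Ω) := by rw [h3]
      _ = (x : Ω)⁻¹ * (χ x : Ω) * r := by group
  have hRp : IsPGroup p (R.subgroupOf (normalizerIn S R)) := (hS.to_le hRS).comap_subtype
  have hχp := pElement_of_trivial p (R.subgroupOf (normalizerIn S R)) hRp χ hχR hχ2
  have hχE := hpel _ hNS χ hχF hχp
  refine ⟨αN, ?_, HαN'⟩
  have h9 : αN = ψ₁ * χ⁻¹ := by rw [hχdef]; group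
  rw [h9]
  exact Subgroup.mul_mem _ hψ₁E (Subgroup.inv_mem _ hχE)

end Cfsg.Agent.Lib.Helper9.H9SC
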