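import Mathlib
import Cfsg.Prelude
import Cfsg.Agent.Lib.Helper9.SimpCrit2
import Cfsg.Agent.Lib.Helper9.FusionCentric
import Cfsg.Agent.Lib.Helper9.FusionAG1

set_option autoImplicit false

/-!
# An automorphism of `S` restricting into a subsystem of index prime to `p` on a centric subgroup
-/

namespace Cfsg.Agent.Lib.Helper9.H9SC

open Cfsg Cfsg.FusionSystem Cfsg.Agent.Lib.Helper9

variable {Ω : Type*} [Group Ω] {S : Subgroup Ω}

theorem mem_of_restrict_aux [Finite S] (p : ℕ) [Fact p.Prime] (hS : IsPGroup p S) (F : FusionSystem S)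
    (E : FusionSystem S) (hE : E.IsSaturated p) (hsub : E.IsSubsystemOf F)
    (hpel : ∀ P : Subgroup Ω, P ≤ S → ∀ β ∈ F.autGroup P, (∃ k : ℕ, orderOf β = p ^ k) →
      β ∈ E.autGroup P)
    (α : MulAut S) (hα : α ∈ F.autGroup S) :
    ∀ (n : ℕ) (R : Subgroup Ω) (hR : F.IsCentric R), Nat.card S - Nat.card R = n →
      ∀ (β : MulAut R), (∀ x : R, ((β x : R) : Ω) = ((α ⟨x, hR.1 x.2⟩ : S) : Ω)) →
        β ∈ E.autGroup R → α ∈ E.autGroup S := by
  intro n
  induction n using Nat.strong_induction_on with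
  | _ n ih =>
    intro R hR hn β hβα hβE
    by_cases hRS' : R = S
    · subst hRS'
      have : β = α := by
        ext x
        exact hβα x
      rw [← this]
      exact hβE
    · have hlt : R < S := lt_of_le_of_ne hR.1 hRS'
      have hltN := fs_lt_normalizerIn p hS hlt
      obtain ⟨γ, hγE, Hγ⟩ := ext_step p hS F E hE hsub hpel hR α hα β hβα hβE
      have hNc : F.IsCentric (normalizerIn S R) := fs_centric_of_le F hR hltN.le inf_le_left
      have hcard : Nat.card R < Nat.card (normalizerIn S R) :=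
        fs_card_lt_of_lt hltN (fs_normalizerIn_le S R)
      have hcardS : Nat.card (normalizerIn S R) ≤ Nat.card S :=
        fs_card_le_of_le (fs_normalizerIn_le S R)
      exact ih (Nat.card S - Nat.card (normalizerIn S R)) (by omega) _ hNc rfl γ Hγ hγE

/-- Let `E ⊆ F` be saturated systems over `S` such that `E` contains all `p`-elements of the
automizers of `F`. If `α ∈ Aut_F(S)` normalises an `F`-centric subgroup `R` and restricts to an
element of `Aut_E(R)`, then `α ∈ Aut_E(S)`. -/
theorem mem_of_restrict [Finite S] (p : ℕ) [Fact p.Prime] (hS : IsPGroup p S) (F : FusionSystem S)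
    (E : FusionSystem S) (hE : E.IsSaturated p) (hsub : E.IsSubsystemOf F)
    (hpel : ∀ P : Subgroup Ω, P ≤ S → ∀ β ∈ F.autGroup P, (∃ k : ℕ, orderOf β = p ^ k) →
      β ∈ E.autGroup P)
    (α : MulAut S) (hα : α ∈ F.autGroup S) {R : Subgroup Ω} (hR : F.IsCentric R)
    (β : MulAut R) (hβα : ∀ x : R, ((β x : R) : Ω) = ((α ⟨x, hR.1 x.2⟩ : S) : Ω))
    (hβE : β ∈ E.autGroup R) : α ∈ E.autGroup S :=
  mem_of_restrict_aux p hS F E hE hsub hpel α hα _ R hR rfl β hβα hβE

end Cfsg.Agent.Lib.Helper9.H9SC
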