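import Mathlib
import Cfsg.Prelude
import Cfsg.Agent.Lib.Helper9.SimpCrit3
import Cfsg.Agent.Lib.Helper9.Hyperfocal2
import Cfsg.Agent.S5076

set_option autoImplicit false

/-!
# A simplicity criterion for the fusion system of a finite group
-/

namespace Cfsg.Agent.Lib.Helper9.H9SC

open Cfsg Cfsg.FusionSystem Cfsg.Agent.Lib.Helper9

theorem simple_of_criterion {G : Type*} [Group G] [Finite G] (p : ℕ) [Fact p.Prime] (S : Sylow p G)
    (hS1 : (S : Subgroup G) ≠ ⊥)
    (ha : ∀ T : Subgroup G, (Cfsg.groupFusionSystem (S : Subgroup G)).StronglyClosed T →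
      T = ⊥ ∨ T = (S : Subgroup G))
    (hb : Cfsg.autInducedBy ⊤ (S : Subgroup G) =
      ⨆ (R : Subgroup G) (_ : (Cfsg.groupFusionSystem (S : Subgroup G)).IsFullyNormalized R ∧
        (Cfsg.groupFusionSystem (S : Subgroup G)).IsRadical p R ∧
        (Cfsg.groupFusionSystem (S : Subgroup G)).IsCentric R),
        Cfsg.autInducedBy (Subgroup.closure {g : G | g ∈ Subgroup.normalizer (R : Set G) ∧
          ∃ k : ℕ, orderOf g = p ^ k}) (S : Subgroup G)) :
    (Cfsg.groupFusionSystem (S : Subgroup G)).IsSimple p := by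
  have hsat : (Cfsg.groupFusionSystem (S : Subgroup G)).IsSaturated p := Cfsg.Agent.S5076.result p S
  have hS : IsPGroup p ↥(S : Subgroup G) := S.isPGroup'
  refine ⟨hsat, hS1, ?_⟩
  intro T E hEn
  obtain ⟨⟨hEsat, -, hsub, hsc, -, hfrat⟩, -⟩ := hEn
  rcases ha T hsc with hT | hT
  · left; exact hT
  · right
    subst hT
    have hpel : ∀ P : Subgroup G, P ≤ (S : Subgroup G) →
        ∀ β ∈ (Cfsg.groupFusionSystem (S : Subgroup G)).autGroup P,
        (∃ k : ℕ, orderOf β = p ^ k) → β ∈ E.autGroup P :=
      fun P hP β hβ hord => pElement_mem p hS _ hsat E hfrat hP β hβ hord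
    have hmain : (Cfsg.groupFusionSystem (S : Subgroup G)).autGroup (S : Subgroup G) ≤
        E.autGroup (S : Subgroup G) := by
      intro α hα
      have h1 : α ∈ autInducedBy ⊤ (S : Subgroup G) := by
        rw [mem_autInducedBy_iff]
        obtain ⟨g, hg⟩ := (mem_groupFusion_autGroup_iff _ _ le_rfl α).mp hα
        exact ⟨g, Subgroup.mem_top g, hg⟩
      rw [hb] at h1
      have hle : (⨆ (R : Subgroup G) (_ : (Cfsg.groupFusionSystem (S : Subgroup G)).IsFullyNormalized R ∧
          (Cfsg.groupFusionSystem (S : Subgroup G)).IsRadical p R ∧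
          (Cfsg.groupFusionSystem (S : Subgroup G)).IsCentric R),
          Cfsg.autInducedBy (Subgroup.closure {g : G | g ∈ Subgroup.normalizer (R : Set G) ∧
            ∃ k : ℕ, orderOf g = p ^ k}) (S : Subgroup G)) ≤ E.autGroup (S : Subgroup G) := by
        refine iSup_le fun R => iSup_le fun hR => ?_
        intro α' hα'
        rw [mem_autInducedBy_iff] at hα'
        obtain ⟨g, hgK, Hg⟩ := hα'
        have hRS : R ≤ (S : Subgroup G) := hR.2.2.1
        have hKM : Subgroup.closure {g : G | g ∈ Subgroup.normalizer (R : Set G) ∧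
            ∃ k : ℕ, orderOf g = p ^ k} ≤
            ((E.autGroup R).comap R.normalizerMonoidHom).map
              (Subgroup.normalizer (R : Set G)).subtype := by
          rw [Subgroup.closure_le]
          rintro g' ⟨hgN, k, hk⟩
          refine ⟨⟨g', hgN⟩, ?_, rfl⟩
          show R.normalizerMonoidHom ⟨g', hgN⟩ ∈ E.autGroup R
          apply hpel R hRS
          · rw [mem_groupFusion_autGroup_iff _ _ hRS]
            exact ⟨g', fun x => rfl⟩
          · have h2 : orderOf (R.normalizerMonoidHom ⟨g', hgN⟩) ∣ p ^ k := by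
              rw [← hk]
              have h3 := orderOf_map_dvd R.normalizerMonoidHom (⟨g', hgN⟩ : Subgroup.normalizer (R : Set G))
              have h4 : orderOf (⟨g', hgN⟩ : Subgroup.normalizer (R : Set G)) = orderOf g' :=
                Subgroup.orderOf_mk g' hgN
              rw [h4] at h3
              exact h3
            obtain ⟨j, -, hj⟩ := (Nat.dvd_prime_pow (Fact.out : p.Prime)).mp h2
            exact ⟨j, hj⟩
        obtain ⟨n, hn, hng⟩ := hKM hgK
        have hαF : α' ∈ (Cfsg.groupFusionSystem (S : Subgroup G)).autGroup (S : Subgroup G) := by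
          rw [mem_groupFusion_autGroup_iff _ _ le_rfl]
          exact ⟨g, Hg⟩
        refine mem_of_restrict p hS _ E hEsat hsub hpel α' hαF hR.2.2 (R.normalizerMonoidHom n) ?_ hn
        intro x
        rw [Hg]
        show (n : G) * x * (n : G)⁻¹ = _
        have : (n : G) = g := hng
        rw [this]
      exact hle h1
    refine ⟨rfl, fun P => ?_⟩
    apply Set.Subset.antisymm (hsub P)
    intro φ hφ
    have hPS : P ≤ (S : Subgroup G) := ((Cfsg.groupFusionSystem (S : Subgroup G)).le_of_mem hφ).1
    obtain ⟨α, hα, φ₀, hφ₀, H⟩ := hfrat P hPS φ hφ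
    have hαE := hmain hα
    have hα' := (mem_autGroup_iff E le_rfl α).mp hαE
    have hval : ∀ x : P, φ₀ x ∈ (S : Subgroup G) := (E.le_of_mem hφ₀).2
    have hcomp := E.comp_mem hφ₀ hα' hval
    have h9 : φ = ((S : Subgroup G).subtype.comp α.toMonoidHom).comp
        (φ₀.codRestrict (S : Subgroup G) hval) := by
      ext x
      exact H x (hval x)
    rw [h9]
    exact hcomp

end Cfsg.Agent.Lib.Helper9.H9SC
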