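import Mathlib
import Cfsg.Prelude
import Cfsg.Agent.Lib.Helper9.SimpCrit4

set_option autoImplicit false

/-!
# A generator form of the simplicity criterion for the fusion system of a finite group
-/

namespace Cfsg.Agent.H9PF

open Cfsg Cfsg.FusionSystem Cfsg.Agent.Lib.Helper9 Cfsg.Agent.Lib.Helper9.H9SC

variable {G : Type*} [Group G] [Finite G]

/-- the good elements: those lying in the subgroup generated by the `p`-elements of the normaliser
of a centric subgroup -/
def goodSet (p : ℕ) (S : Subgroup G) : Set G :=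
  {g : G | g ∈ Subgroup.normalizer (S : Set G) ∧ ∃ R : Subgroup G,
    (groupFusionSystem S).IsCentric R ∧
    g ∈ Subgroup.closure {h : G | h ∈ Subgroup.normalizer (R : Set G) ∧ ∃ k : ℕ, orderOf h = p ^ k}}

theorem simple_of_generators (p : ℕ) [Fact p.Prime] (S : Sylow p G)
    (hS1 : (S : Subgroup G) ≠ ⊥)
    (ha : ∀ T : Subgroup G, (Cfsg.groupFusionSystem (S : Subgroup G)).StronglyClosed T →
      T = ⊥ ∨ T = (S : Subgroup G))
    (hb : Subgroup.normalizer ((S : Subgroup G) : Set G) ≤
      Subgroup.closure (goodSet p (S : Subgroup G))) :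
    (Cfsg.groupFusionSystem (S : Subgroup G)).IsSimple p := by
  have hsat : (Cfsg.groupFusionSystem (S : Subgroup G)).IsSaturated p := Cfsg.Agent.S5076.result p S
  have hS : IsPGroup p ↥(S : Subgroup G) := S.isPGroup'
  refine ⟨hsat, hS1, ?_⟩
  intro T E hEn
  obtain ⟨⟨hEsat, -, hsub, hsc, -, hfrat⟩, -⟩ := hEn
  rcases ha T hsc with hT | hT
  · left; exact hT
  · right
    subst hT
    have hpel : ∀ P : Subgroup G, P ≤ (S : Subgroup G) →
        ∀ β ∈ (Cfsg.groupFusionSystem (S : Subgroup G)).autGroup P,
        (∃ k : ℕ, orderOf β = p ^ k) → β ∈ E.autGroup P :=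
      fun P hP β hβ hord => pElement_mem p hS _ hsat E hfrat hP β hβ hord
    -- the subgroup of elements of the normaliser inducing maps of `E`
    have hgood : ∀ g ∈ goodSet p (S : Subgroup G),
        ∀ α : MulAut (S : Subgroup G), (∀ x : (S : Subgroup G), ((α x : (S : Subgroup G)) : G) = g * x * g⁻¹) →
        α ∈ E.autGroup (S : Subgroup G) := by
      rintro g ⟨hgN, R, hR, hgK⟩ α Hg
      have hRS : R ≤ (S : Subgroup G) := hR.1
      have hKM : Subgroup.closure {g : G | g ∈ Subgroup.normalizer (R : Set G) ∧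
          ∃ k : ℕ, orderOf g = p ^ k} ≤
          ((E.autGroup R).comap R.normalizerMonoidHom).map
            (Subgroup.normalizer (R : Set G)).subtype := by
        rw [Subgroup.closure_le]
        rintro g' ⟨hgN', k, hk⟩
        refine ⟨⟨g', hgN'⟩, ?_, rfl⟩
        show R.normalizerMonoidHom ⟨g', hgN'⟩ ∈ E.autGroup R
        apply hpel R hRS
        · rw [mem_groupFusion_autGroup_iff _ _ hRS]
          exact ⟨g', fun x => rfl⟩
        · have h2 : orderOf (R.normalizerMonoidHom ⟨g', hgN'⟩) ∣ p ^ k := by
            rw [← hk]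
            have h3 := orderOf_map_dvd R.normalizerMonoidHom (⟨g', hgN'⟩ : Subgroup.normalizer (R : Set G))
            have h4 : orderOf (⟨g', hgN'⟩ : Subgroup.normalizer (R : Set G)) = orderOf g' :=
              Subgroup.orderOf_mk g' hgN'
            rw [h4] at h3
            exact h3
          obtain ⟨j, -, hj⟩ := (Nat.dvd_prime_pow (Fact.out : p.Prime)).mp h2
          exact ⟨j, hj⟩
      obtain ⟨n, hn, hng⟩ := hKM hgK
      have hαF : α ∈ (Cfsg.groupFusionSystem (S : Subgroup G)).autGroup (S : Subgroup G) := by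
        rw [mem_groupFusion_autGroup_iff _ _ le_rfl]
        exact ⟨g, Hg⟩
      refine mem_of_restrict p hS _ E hEsat hsub hpel α hαF hR (R.normalizerMonoidHom n) ?_ hn
      intro x
      rw [Hg]
      show (n : G) * x * (n : G)⁻¹ = _
      have : (n : G) = g := hng
      rw [this]
    have hcl : Subgroup.closure (goodSet p (S : Subgroup G)) ≤
        ((E.autGroup (S : Subgroup G)).comap (S : Subgroup G).normalizerMonoidHom).map
          (Subgroup.normalizer ((S : Subgroup G) : Set G)).subtype := by
      rw [Subgroup.closure_le]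
      intro g hg
      refine ⟨⟨g, hg.1⟩, ?_, rfl⟩
      show (S : Subgroup G).normalizerMonoidHom ⟨g, hg.1⟩ ∈ E.autGroup (S : Subgroup G)
      exact hgood g hg _ (fun x => rfl)
    have hmain : (Cfsg.groupFusionSystem (S : Subgroup G)).autGroup (S : Subgroup G) ≤
        E.autGroup (S : Subgroup G) := by
      intro α hα
      obtain ⟨g, hg⟩ := (mem_groupFusion_autGroup_iff _ _ le_rfl α).mp hα
      have hgN : g ∈ Subgroup.normalizer ((S : Subgroup G) : Set G) := by
        rw [Subgroup.mem_normalizer_iff]
        intro h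
        constructor
        · intro hh
          rw [← hg ⟨h, hh⟩]
          exact (α ⟨h, hh⟩).2
        · intro hh
          obtain ⟨x, hx⟩ := α.surjective ⟨g * h * g⁻¹, hh⟩
          have h1 : g * (x : G) * g⁻¹ = g * h * g⁻¹ := by rw [← hg x, hx]
          have h2 : (x : G) = h := mul_left_cancel (mul_right_cancel h1)
          rw [← h2]; exact x.2
      obtain ⟨n, hn, hng⟩ := hcl (hb hgN)
      have e1 : α = (S : Subgroup G).normalizerMonoidHom n := by
        apply MulEquiv.ext
        intro x
        apply Subtype.ext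
        rw [hg]
        show _ = (n : G) * x * (n : G)⁻¹
        have : (n : G) = g := hng
        rw [this]
      rw [e1]
      exact hn
    refine ⟨rfl, fun P => ?_⟩
    apply Set.Subset.antisymm (hsub P)
    intro φ hφ
    have hPS : P ≤ (S : Subgroup G) := ((Cfsg.groupFusionSystem (S : Subgroup G)).le_of_mem hφ).1
    obtain ⟨α, hα, φ₀, hφ₀, H⟩ := hfrat P hPS φ hφ
    have hαE := hmain hα
    have hα' := (mem_autGroup_iff E le_rfl α).mp hαE
    have hval : ∀ x : P, φ₀ x ∈ (S : Subgroup G) := (E.le_of_mem hφ₀).2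
    have hcomp := E.comp_mem hφ₀ hα' hval
    have h9 : φ = ((S : Subgroup G).subtype.comp α.toMonoidHom).comp
        (φ₀.codRestrict (S : Subgroup G) hval) := by
      ext x
      exact H x (hval x)
    rw [h9]
    exact hcomp

end Cfsg.Agent.H9PF
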