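import Mathlib
import Cfsg.Prelude
import Cfsg.Agent.Lib.Helper2.Herm
import Cfsg.Agent.Lib.Helper9.SLRoot1

set_option autoImplicit false

/-!
# Unitary transvection subgroups as a class of abstract root subgroups: basic facts
-/

namespace Cfsg.Agent.H9SURoot

open Matrix
open Cfsg.Agent.Lib.Helper2.Herm

variable {F : Type*} [Field F] [Fintype F] {q N : ℕ} [hF : Fact (Fintype.card F = q ^ 2)]

/-! ### the `q`-th power map -/

include hF in
theorem q_two_le : 2 ≤ q := by
  have h1 : 1 < Fintype.card F := Fintype.one_lt_card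
  rw [hF.out] at h1
  by_contra hq
  push Not at hq
  interval_cases q <;> simp at h1

include hF in
theorem q_ne_zero : q ≠ 0 := by
  have := q_two_le (F := F) (q := q)
  omega

theorem bar_add (a b : F) : (a + b) ^ q = a ^ q + b ^ q := add_pow_q hF.out a b

theorem bar_bar (a : F) : (a ^ q) ^ q = a := pow_q_pow_q hF.out a

theorem bar_zero : (0 : F) ^ q = 0 := zero_pow (q_ne_zero (F := F))

theorem bar_neg (a : F) : (-a) ^ q = -(a ^ q) := by
  have h := bar_add (q := q) (-a) a
  rw [neg_add_cancel, bar_zero] at h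
  exact eq_neg_of_add_eq_zero_left h.symm

theorem bar_sub (a b : F) : (a - b) ^ q = a ^ q - b ^ q := by
  rw [sub_eq_add_neg, bar_add, bar_neg, ← sub_eq_add_neg]

theorem bar_injective {a b : F} (h : a ^ q = b ^ q) : a = b := by
  rw [← bar_bar (q := q) a, ← bar_bar (q := q) b, h]

theorem bar_eq_zero {a : F} (h : a ^ q = 0) : a = 0 := pow_eq_zero_iff (q_ne_zero (F := F)) |>.mp h

theorem bar_ne_zero {a : F} (h : a ≠ 0) : a ^ q ≠ 0 := pow_ne_zero _ h

/-- there is an element not fixed by the `q`-th power map -/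
theorem exists_bar_ne : ∃ x : F, x ^ q ≠ x := by
  classical
  by_contra hcon
  push Not at hcon
  have hq := q_two_le (F := F) (q := q)
  obtain ⟨g, hg⟩ := IsCyclic.exists_ofOrder_eq_natCard (α := Fˣ)
  rw [Nat.card_units, Nat.card_eq_fintype_card, hF.out] at hg
  have h1 : g ^ (q - 1) = 1 := by
    apply Units.ext
    rw [Units.val_pow_eq_pow_val, Units.val_one]
    have h2 := hcon (g : F)
    have h3 : ((g : F) ^ (q - 1) - 1) * g = 0 := by
      rw [sub_mul, one_mul, ← pow_succ, Nat.sub_add_cancel (by omega), h2, sub_self]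
    rcases mul_eq_zero.mp h3 with h4 | h4
    · exact sub_eq_zero.mp h4
    · exact absurd h4 g.ne_zero
  have h2 := orderOf_dvd_of_pow_eq_one h1
  rw [hg] at h2
  have h3 := Nat.le_of_dvd (by omega) h2
  have h4 : q < q ^ 2 := by nlinarith
  omega

/-! ### skew elements -/

/-- `c` is skew: `c^q + c = 0` -/
def IsSkew (q : ℕ) (c : F) : Prop := c ^ q + c = 0

theorem isSkew_zero : IsSkew q (0 : F) := by
  unfold IsSkew
  rw [bar_zero, add_zero]

theorem IsSkew.add {c d : F} (hc : IsSkew q c) (hd : IsSkew q d) : IsSkew q (c + d) := by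
  unfold IsSkew at *
  rw [bar_add]
  linear_combination hc + hd

theorem IsSkew.neg {c : F} (hc : IsSkew q c) : IsSkew q (-c) := by
  unfold IsSkew at *
  rw [bar_neg]
  linear_combination -hc

theorem IsSkew.bar {c : F} (hc : IsSkew q c) : c ^ q = -c := by
  unfold IsSkew at hc
  linear_combination hc

theorem IsSkew.mul_fixed {c a : F} (hc : IsSkew q c) (ha : a ^ q = a) : IsSkew q (a * c) := by
  unfold IsSkew
  rw [mul_pow, ha, hc.bar]
  ring

theorem IsSkew.inv {c : F} (hc : IsSkew q c) : IsSkew q c⁻¹ := by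
  unfold IsSkew
  rw [inv_pow, hc.bar, inv_neg]
  ring

theorem IsSkew.div_fixed {c e : F} (hc : IsSkew q c) (he : IsSkew q e) : (c / e) ^ q = c / e := by
  rw [div_pow, hc.bar, he.bar, neg_div_neg_eq]

theorem exists_skew : ∃ e : F, e ≠ 0 ∧ IsSkew q e := by
  obtain ⟨x, hx⟩ := exists_bar_ne (F := F) (q := q)
  refine ⟨x - x ^ q, sub_ne_zero.mpr (Ne.symm hx), ?_⟩
  unfold IsSkew
  rw [bar_sub, bar_bar]
  ring

theorem norm_fixed (a : F) : (a * a ^ q) ^ q = a * a ^ q := by
  rw [mul_pow, bar_bar, mul_comm]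

/-! ### the hermitian form -/

theorem hm_add_left (u u' w : Fin N → F) :
    Cfsg.hermForm N F q (u + u') w = Cfsg.hermForm N F q u w + Cfsg.hermForm N F q u' w :=
  herm_add_left u u' w

theorem hm_smul_left (a : F) (u w : Fin N → F) :
    Cfsg.hermForm N F q (a • u) w = a * Cfsg.hermForm N F q u w := herm_smul_left a u w

theorem hm_add_right (u w w' : Fin N → F) :
    Cfsg.hermForm N F q u (w + w') = Cfsg.hermForm N F q u w + Cfsg.hermForm N F q u w' :=
  herm_add_right hF.out u w w'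

theorem hm_smul_right (a : F) (u w : Fin N → F) :
    Cfsg.hermForm N F q u (a • w) = a ^ q * Cfsg.hermForm N F q u w := herm_smul_right a u w

theorem hm_conj (u w : Fin N → F) :
    (Cfsg.hermForm N F q u w) ^ q = Cfsg.hermForm N F q w u := herm_conj hF.out u w

theorem hm_zero_left (w : Fin N → F) : Cfsg.hermForm N F q 0 w = 0 := by
  have := hm_smul_left (q := q) (0 : F) (0 : Fin N → F) w
  rw [zero_smul, zero_mul] at this
  exact this

theorem hm_zero_right (u : Fin N → F) : Cfsg.hermForm N F q u 0 = 0 := by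
  have := hm_smul_right (q := q) (0 : F) u (0 : Fin N → F)
  rw [zero_smul, bar_zero, zero_mul] at this
  exact this

theorem hm_eq_zero_symm {u w : Fin N → F} (h : Cfsg.hermForm N F q u w = 0) :
    Cfsg.hermForm N F q w u = 0 := by
  rw [← hm_conj, h, bar_zero]

theorem hm_ne_zero_symm {u w : Fin N → F} (h : Cfsg.hermForm N F q u w ≠ 0) :
    Cfsg.hermForm N F q w u ≠ 0 := fun h0 => h (hm_eq_zero_symm h0)

theorem hm_single (i : Fin N) (p : Fin N → F) :
    Cfsg.hermForm N F q (Pi.single i 1) p = p i ^ q := by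
  unfold Cfsg.hermForm
  rw [Finset.sum_eq_single i]
  · rw [Pi.single_eq_same, one_mul]
  · intro j _ hj
    rw [Pi.single_eq_of_ne hj, zero_mul]
  · intro h
    exact absurd (Finset.mem_univ i) h

theorem exists_hm_ne_zero {p : Fin N → F} (hp : p ≠ 0) : ∃ r, Cfsg.hermForm N F q r p ≠ 0 := by
  obtain ⟨i, hi⟩ : ∃ i, p i ≠ 0 := by
    by_contra hcon
    push Not at hcon
    exact hp (funext hcon)
  exact ⟨Pi.single i 1, by rw [hm_single]; exact bar_ne_zero hi⟩

theorem exists_hm_eq_one {p : Fin N → F} (hp : p ≠ 0) : ∃ r, Cfsg.hermForm N F q r p = 1 := by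
  obtain ⟨r, hr⟩ := exists_hm_ne_zero (q := q) hp
  exact ⟨(Cfsg.hermForm N F q r p)⁻¹ • r, by rw [hm_smul_left, inv_mul_cancel₀ hr]⟩

theorem ne_zero_of_hm_left {p r : Fin N → F} (h : Cfsg.hermForm N F q p r ≠ 0) : p ≠ 0 := by
  rintro rfl
  exact h (hm_zero_left r)

theorem ne_zero_of_hm_right {p r : Fin N → F} (h : Cfsg.hermForm N F q p r ≠ 0) : r ≠ 0 := by
  rintro rfl
  exact h (hm_zero_right p)

end Cfsg.Agent.H9SURoot
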