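import Mathlib
import Cfsg.Prelude
import Cfsg.Agent.Lib.Helper9.SURoot1

set_option autoImplicit false

namespace Cfsg.Agent.H9SURoot

open Matrix
open Cfsg.Agent.Lib.Helper2.Herm

variable {F : Type*} [Field F] [Fintype F] {q N : ℕ} [hF : Fact (Fintype.card F = q ^ 2)]

/-- the matrix of an element of the special unitary group -/
abbrev mat (g : ↥(Cfsg.SU N F q)) : Matrix (Fin N) (Fin N) F :=
  ((g : Matrix.SpecialLinearGroup (Fin N) F) : Matrix (Fin N) (Fin N) F)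

theorem det_ut {p : Fin N → F} (hp : Cfsg.hermForm N F q p p = 0) (c : F) :
    (Cfsg.unitaryTransvection N q p c).det = 1 := by
  have : Cfsg.unitaryTransvection N q p c = H9SLRoot.tmat p (fun j => p j ^ q) c := rfl
  rw [this]
  apply H9SLRoot.det_tmat
  unfold Cfsg.hermForm at hp
  unfold dotProduct
  rw [← hp]
  apply Finset.sum_congr rfl
  intro i _
  rw [mul_comm]

theorem pres_ut {p : Fin N → F} (hp : Cfsg.hermForm N F q p p = 0) {c : F} (hc : IsSkew q c)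
    (x y : Fin N → F) :
    Cfsg.hermForm N F q (Cfsg.unitaryTransvection N q p c *ᵥ x)
      (Cfsg.unitaryTransvection N q p c *ᵥ y) = Cfsg.hermForm N F q x y := by
  rw [herm_transvection hF.out p hp c x y]
  unfold IsSkew at hc
  rw [hc, zero_mul, add_zero]

open Classical in
/-- the unitary transvection as an element of the special unitary group -/
noncomputable def tv (p : Fin N → F) (c : F) : ↥(Cfsg.SU N F q) :=
  if h : Cfsg.hermForm N F q p p = 0 ∧ IsSkew q c then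
    ⟨⟨Cfsg.unitaryTransvection N q p c, det_ut h.1 c⟩, pres_ut h.1 h.2⟩
  else 1

theorem tv_coe {p : Fin N → F} (hp : Cfsg.hermForm N F q p p = 0) {c : F} (hc : IsSkew q c) :
    mat (tv p c : ↥(Cfsg.SU N F q)) = Cfsg.unitaryTransvection N q p c := by
  unfold tv
  rw [dif_pos ⟨hp, hc⟩]

theorem tv_mulVec {p : Fin N → F} (hp : Cfsg.hermForm N F q p p = 0) {c : F} (hc : IsSkew q c)
    (x : Fin N → F) :
    mat (tv p c : ↥(Cfsg.SU N F q)) *ᵥ x = x + (c * Cfsg.hermForm N F q x p) • p := by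
  rw [tv_coe hp hc, unitaryTransvection_mulVec]

theorem su_ext {g h : ↥(Cfsg.SU N F q)} (H : ∀ v, mat g *ᵥ v = mat h *ᵥ v) : g = h := by
  apply Subtype.ext
  apply Subtype.ext
  exact H9SLRoot.ext_mulVec H

theorem coe_mul_mulVec (g h : ↥(Cfsg.SU N F q)) (v : Fin N → F) :
    mat (g * h) *ᵥ v = mat g *ᵥ (mat h *ᵥ v) := by
  rw [Matrix.mulVec_mulVec]; rfl

theorem coe_one_mulVec (v : Fin N → F) : mat (1 : ↥(Cfsg.SU N F q)) *ᵥ v = v := by
  show (1 : Matrix (Fin N) (Fin N) F) *ᵥ v = v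
  rw [Matrix.one_mulVec]

theorem inv_mulVec_mulVec (g : ↥(Cfsg.SU N F q)) (v : Fin N → F) :
    mat g⁻¹ *ᵥ (mat g *ᵥ v) = v := by
  rw [← coe_mul_mulVec, inv_mul_cancel, coe_one_mulVec]

theorem mulVec_inv_mulVec (g : ↥(Cfsg.SU N F q)) (v : Fin N → F) :
    mat g *ᵥ (mat g⁻¹ *ᵥ v) = v := by
  rw [← coe_mul_mulVec, mul_inv_cancel, coe_one_mulVec]

theorem form_mulVec (g : ↥(Cfsg.SU N F q)) (x y : Fin N → F) :
    Cfsg.hermForm N F q (mat g *ᵥ x) (mat g *ᵥ y) = Cfsg.hermForm N F q x y := g.2 x y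

theorem form_inv_mulVec (g : ↥(Cfsg.SU N F q)) (x y : Fin N → F) :
    Cfsg.hermForm N F q (mat g⁻¹ *ᵥ x) y = Cfsg.hermForm N F q x (mat g *ᵥ y) := by
  rw [← form_mulVec g (mat g⁻¹ *ᵥ x) y, mulVec_inv_mulVec]

theorem mulVec_smul' (g : ↥(Cfsg.SU N F q)) (a : F) (v : Fin N → F) :
    mat g *ᵥ (a • v) = a • (mat g *ᵥ v) := Matrix.mulVec_smul _ _ _

theorem mulVec_add' (g : ↥(Cfsg.SU N F q)) (v w : Fin N → F) :
    mat g *ᵥ (v + w) = mat g *ᵥ v + mat g *ᵥ w := Matrix.mulVec_add _ _ _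

theorem mulVec_ne_zero (g : ↥(Cfsg.SU N F q)) {p : Fin N → F} (hp : p ≠ 0) : mat g *ᵥ p ≠ 0 := by
  intro h
  apply hp
  rw [← inv_mulVec_mulVec g p, h, Matrix.mulVec_zero]

theorem tv_mul {p : Fin N → F} (hp : Cfsg.hermForm N F q p p = 0) {c d : F} (hc : IsSkew q c)
    (hd : IsSkew q d) : (tv p c * tv p d : ↥(Cfsg.SU N F q)) = tv p (c + d) := by
  apply su_ext
  intro v
  rw [coe_mul_mulVec, tv_mulVec hp hd, tv_mulVec hp hc, tv_mulVec hp (hc.add hd), hm_add_left,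
    hm_smul_left, hp]
  module

theorem tv_zero (p : Fin N → F) : (tv p (0 : F) : ↥(Cfsg.SU N F q)) = 1 := by
  by_cases hp : Cfsg.hermForm N F q p p = 0
  · apply su_ext
    intro v
    rw [tv_mulVec hp isSkew_zero, coe_one_mulVec, zero_mul, zero_smul, add_zero]
  · unfold tv
    rw [dif_neg (fun h => hp h.1)]

theorem tv_inv {p : Fin N → F} (hp : Cfsg.hermForm N F q p p = 0) {c : F} (hc : IsSkew q c) :
    (tv p c : ↥(Cfsg.SU N F q))⁻¹ = tv p (-c) := by
  rw [inv_eq_iff_mul_eq_one, tv_mul hp hc hc.neg, add_neg_cancel, tv_zero]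

theorem iso_mulVec (g : ↥(Cfsg.SU N F q)) {p : Fin N → F} (hp : Cfsg.hermForm N F q p p = 0) :
    Cfsg.hermForm N F q (mat g *ᵥ p) (mat g *ᵥ p) = 0 := by
  rw [form_mulVec, hp]

theorem tv_conj (g : ↥(Cfsg.SU N F q)) {p : Fin N → F} (hp : Cfsg.hermForm N F q p p = 0) {c : F}
    (hc : IsSkew q c) : g * tv p c * g⁻¹ = tv (mat g *ᵥ p) c := by
  apply su_ext
  intro v
  rw [coe_mul_mulVec, coe_mul_mulVec, tv_mulVec hp hc, tv_mulVec (iso_mulVec g hp) hc, mulVec_add',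
    mulVec_inv_mulVec, mulVec_smul', form_inv_mulVec]

theorem iso_smul {p : Fin N → F} (hp : Cfsg.hermForm N F q p p = 0) (a : F) :
    Cfsg.hermForm N F q (a • p) (a • p) = 0 := by
  rw [hm_smul_left, hm_smul_right, hp, mul_zero, mul_zero]

theorem tv_smul (a : F) {p : Fin N → F} (hp : Cfsg.hermForm N F q p p = 0) {c : F}
    (hc : IsSkew q c) :
    (tv (a • p) c : ↥(Cfsg.SU N F q)) = tv p (a * a ^ q * c) := by
  apply su_ext
  intro v
  rw [tv_mulVec (iso_smul hp a) hc, tv_mulVec hp (hc.mul_fixed (norm_fixed a)), hm_smul_right]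
  module

theorem tv_comm {p r : Fin N → F} (hp : Cfsg.hermForm N F q p p = 0)
    (hr : Cfsg.hermForm N F q r r = 0) (h : Cfsg.hermForm N F q p r = 0) {c d : F}
    (hc : IsSkew q c) (hd : IsSkew q d) :
    (tv p c * tv r d : ↥(Cfsg.SU N F q)) = tv r d * tv p c := by
  have h' := hm_eq_zero_symm h
  apply su_ext
  intro v
  rw [coe_mul_mulVec, coe_mul_mulVec, tv_mulVec hr hd, tv_mulVec hp hc, tv_mulVec hp hc,
    tv_mulVec hr hd, hm_add_left, hm_add_left, hm_smul_left, hm_smul_left, h, h']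
  module

theorem tv_eq_one_iff {p : Fin N → F} (hp0 : p ≠ 0) (hp : Cfsg.hermForm N F q p p = 0) {c : F}
    (hc : IsSkew q c) : (tv p c : ↥(Cfsg.SU N F q)) = 1 ↔ c = 0 := by
  constructor
  · intro h
    obtain ⟨r, hr⟩ := exists_hm_eq_one (q := q) hp0
    have h1 := congrArg (fun g : ↥(Cfsg.SU N F q) => mat g *ᵥ r) h
    beta_reduce at h1
    rw [tv_mulVec hp hc, coe_one_mulVec, hr, mul_one] at h1
    have h2 : c • p = 0 := by
      have := h1
      rw [add_eq_left] at this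
      exact this
    rcases smul_eq_zero.mp h2 with h3 | h3
    · exact h3
    · exact absurd h3 hp0
  · rintro rfl
    exact tv_zero p

theorem tv_injective {p : Fin N → F} (hp0 : p ≠ 0) (hp : Cfsg.hermForm N F q p p = 0) {c d : F}
    (hc : IsSkew q c) (hd : IsSkew q d) (h : (tv p c : ↥(Cfsg.SU N F q)) = tv p d) : c = d := by
  have h1 : (tv p c : ↥(Cfsg.SU N F q)) * (tv p d)⁻¹ = 1 := by rw [h, mul_inv_cancel]
  rw [tv_inv hp hd, tv_mul hp hc hd.neg, tv_eq_one_iff hp0 hp (hc.add hd.neg)] at h1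
  linear_combination h1

end Cfsg.Agent.H9SURoot
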