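import Mathlib
import Cfsg.Agent.Lib.Helper9.GSpInv0

set_option autoImplicit false

/-! Alternating forms for which a given linear map is a similitude. -/

namespace Cfsg.Agent.Lib.Helper9.H9GSpInv

open Module

section defs
variable {F : Type*} [Field F] {V : Type*} [AddCommGroup V] [Module F V]

/-- Nondegeneracy (left radical trivial). -/
def Nondeg (B : LinearMap.BilinForm F V) : Prop := ∀ x, (∀ y, B x y = 0) → x = 0

/-- `x` is a similitude of `B` with multiplier `τ`. -/
def IsSim (B : LinearMap.BilinForm F V) (x : V →ₗ[F] V) (τ : F) : Prop :=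
  ∀ u v, B (x u) (x v) = τ * B u v

/-- The proposition that `x` is a similitude of some nondegenerate alternating form. -/
def HasSimForm (x : V →ₗ[F] V) (τ : F) : Prop :=
  ∃ B : LinearMap.BilinForm F V, B.IsAlt ∧ Nondeg B ∧ IsSim B x τ

theorem proj_restrict (x : V →ₗ[F] V) (Z C : Submodule F V) (h : IsCompl Z C)
    (hZ : ∀ v ∈ Z, x v ∈ Z) (hC : ∀ v ∈ C, x v ∈ C) (v : V) :
    Z.projectionOnto C h (x v) = x.restrict hZ (Z.projectionOnto C h v) := by
  have hv := Submodule.projection_add_projection_eq_self h v
  have h1 : x v = x (Z.projection C h v) + x (C.projection Z h.symm v) := by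
    rw [← map_add, hv]
  rw [h1, map_add]
  have h2 : x (Z.projection C h v) ∈ Z := hZ _ (Submodule.projection_apply_mem h v)
  have h3 : x (C.projection Z h.symm v) ∈ C := hC _ (Submodule.projection_apply_mem h.symm v)
  rw [Submodule.projectionOnto_apply_of_mem_left h h2,
    Submodule.projectionOnto_apply_of_mem_right h h3, add_zero]
  apply Subtype.ext
  rw [LinearMap.restrict_coe_apply]
  rfl

/-- Orthogonal direct sum of forms along an invariant decomposition. -/
theorem hasSimForm_of_compl (x : V →ₗ[F] V) (τ : F) (Z C : Submodule F V) (h : IsCompl Z C)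
    (hZ : ∀ v ∈ Z, x v ∈ Z) (hC : ∀ v ∈ C, x v ∈ C)
    (hfZ : HasSimForm (x.restrict hZ) τ) (hfC : HasSimForm (x.restrict hC) τ) :
    HasSimForm x τ := by
  obtain ⟨BZ, hZa, hZn, hZs⟩ := hfZ
  obtain ⟨BC, hCa, hCn, hCs⟩ := hfC
  refine ⟨BZ.compl₁₂ (Z.projectionOnto C h) (Z.projectionOnto C h) +
    BC.compl₁₂ (C.projectionOnto Z h.symm) (C.projectionOnto Z h.symm), ?_, ?_, ?_⟩
  · intro v
    simp only [LinearMap.add_apply, LinearMap.compl₁₂_apply]
    rw [hZa, hCa, add_zero]
  · intro v hv
    have hz : Z.projectionOnto C h v = 0 := by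
      apply hZn
      intro y
      have := hv (y : V)
      simp only [LinearMap.add_apply, LinearMap.compl₁₂_apply] at this
      rw [Submodule.projectionOnto_apply_left h y,
        Submodule.projectionOnto_apply_of_mem_right h.symm y.2, map_zero, add_zero] at this
      exact this
    have hc : C.projectionOnto Z h.symm v = 0 := by
      apply hCn
      intro y
      have := hv (y : V)
      simp only [LinearMap.add_apply, LinearMap.compl₁₂_apply] at this
      rw [Submodule.projectionOnto_apply_left h.symm y,
        Submodule.projectionOnto_apply_of_mem_right h y.2, map_zero, zero_add] at this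
      exact this
    have := Submodule.projection_add_projection_eq_self h v
    rw [Submodule.projection_apply, Submodule.projection_apply, hz, hc] at this
    simpa using this.symm
  · intro u v
    simp only [LinearMap.add_apply, LinearMap.compl₁₂_apply]
    rw [proj_restrict x Z C h hZ hC, proj_restrict x Z C h hZ hC,
      proj_restrict x C Z h.symm hC hZ, proj_restrict x C Z h.symm hC hZ, hZs, hCs, mul_add]

end defs

section small
variable {F : Type*} [Field F] {V : Type*} [AddCommGroup V] [Module F V]

/-- The determinant form attached to a basis indexed by `Fin 2`. -/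
noncomputable def detForm (b : Basis (Fin 2) F V) : LinearMap.BilinForm F V :=
  LinearMap.mk₂ F (fun u v => b.coord 0 u * b.coord 1 v - b.coord 1 u * b.coord 0 v)
    (by intro u u' v; simp only [map_add]; ring)
    (by intro c u v; simp only [map_smul, smul_eq_mul]; ring)
    (by intro u v v'; simp only [map_add]; ring)
    (by intro c u v; simp only [map_smul, smul_eq_mul]; ring)

theorem detForm_apply (b : Basis (Fin 2) F V) (u v : V) :
    detForm b u v = b.coord 0 u * b.coord 1 v - b.coord 1 u * b.coord 0 v := rfl

theorem detForm_isAlt (b : Basis (Fin 2) F V) : (detForm b).IsAlt := by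
  intro u
  rw [detForm_apply]
  ring

theorem detForm_nondeg (b : Basis (Fin 2) F V) : Nondeg (detForm b) := by
  intro u hu
  have h1 := hu (b 1)
  have h0 := hu (b 0)
  rw [detForm_apply] at h1 h0
  simp only [Basis.coord_apply, Basis.repr_self, Finsupp.single_apply] at h1 h0
  simp at h1 h0
  apply b.ext_elem
  intro i
  fin_cases i
  · simpa using h1
  · simpa using h0

theorem coord_apply_map (b : Basis (Fin 2) F V) (x : V →ₗ[F] V) (u : V) (i : Fin 2) :
    b.coord i (x u) = LinearMap.toMatrix b b x i 0 * b.coord 0 u
      + LinearMap.toMatrix b b x i 1 * b.coord 1 u := by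
  have h := congrFun (LinearMap.toMatrix_mulVec_repr b b x u) i
  rw [Matrix.mulVec, dotProduct, Fin.sum_univ_two] at h
  simp only [Basis.coord_apply]
  exact h.symm

theorem detForm_isSim (b : Basis (Fin 2) F V) (x : V →ₗ[F] V) :
    IsSim (detForm b) x (LinearMap.det x) := by
  intro u v
  rw [← LinearMap.det_toMatrix b x, Matrix.det_fin_two, detForm_apply, detForm_apply,
    coord_apply_map b x u 0, coord_apply_map b x u 1, coord_apply_map b x v 0,
    coord_apply_map b x v 1]
  ring

theorem hasSimForm_of_finrank_two [FiniteDimensional F V] (hV : finrank F V = 2)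
    (x : V →ₗ[F] V) : HasSimForm x (LinearMap.det x) := by
  let b : Basis (Fin 2) F V := Module.finBasisOfFinrankEq F V hV
  exact ⟨detForm b, detForm_isAlt b, detForm_nondeg b, detForm_isSim b x⟩

/-- The standard alternating form attached to a basis indexed by `Fin m × Fin 2`. -/
noncomputable def pairForm {m : ℕ} (b : Basis (Fin m × Fin 2) F V) : LinearMap.BilinForm F V :=
  LinearMap.mk₂ F (fun u v => ∑ i : Fin m,
      (b.coord (i, 0) u * b.coord (i, 1) v - b.coord (i, 1) u * b.coord (i, 0) v))
    (by intro u u' v; simp only [map_add]; rw [← Finset.sum_add_distrib]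
        exact Finset.sum_congr rfl (fun i _ => by ring))
    (by intro c u v; simp only [map_smul, smul_eq_mul]; rw [Finset.mul_sum]
        exact Finset.sum_congr rfl (fun i _ => by ring))
    (by intro u v v'; simp only [map_add]; rw [← Finset.sum_add_distrib]
        exact Finset.sum_congr rfl (fun i _ => by ring))
    (by intro c u v; simp only [map_smul, smul_eq_mul]; rw [Finset.mul_sum]
        exact Finset.sum_congr rfl (fun i _ => by ring))

theorem pairForm_apply {m : ℕ} (b : Basis (Fin m × Fin 2) F V) (u v : V) :
    pairForm b u v = ∑ i : Fin m,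
      (b.coord (i, 0) u * b.coord (i, 1) v - b.coord (i, 1) u * b.coord (i, 0) v) := rfl

theorem pairForm_isAlt {m : ℕ} (b : Basis (Fin m × Fin 2) F V) : (pairForm b).IsAlt := by
  intro u
  rw [pairForm_apply]
  apply Finset.sum_eq_zero
  intro i _
  ring

theorem pairForm_nondeg {m : ℕ} (b : Basis (Fin m × Fin 2) F V) : Nondeg (pairForm b) := by
  classical
  intro u hu
  apply b.ext_elem
  rintro ⟨i, s⟩
  fin_cases s
  · have h1 := hu (b (i, 1))
    rw [pairForm_apply, Finset.sum_eq_single i] at h1
    · simpa [Basis.coord_apply] using h1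
    · intro j _ hj
      simp [Basis.coord_apply, Finsupp.single_apply, hj.symm]
    · intro h
      exact absurd (Finset.mem_univ _) h
  · have h0 := hu (b (i, 0))
    rw [pairForm_apply, Finset.sum_eq_single i] at h0
    · simpa [Basis.coord_apply] using h0
    · intro j _ hj
      simp [Basis.coord_apply, Finsupp.single_apply, hj.symm]
    · intro h
      exact absurd (Finset.mem_univ _) h

/-- Even-dimensional spaces carry nondegenerate alternating forms; scalars are similitudes. -/
theorem hasSimForm_smul [FiniteDimensional F V] (hV : Even (finrank F V)) (c : F) :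
    HasSimForm (c • (1 : V →ₗ[F] V)) (c ^ 2) := by
  obtain ⟨m, hm⟩ := hV
  have hcard : finrank F V = Fintype.card (Fin m × Fin 2) := by
    rw [Fintype.card_prod, Fintype.card_fin, Fintype.card_fin, hm]
    ring
  let b : Basis (Fin m × Fin 2) F V :=
    (Module.finBasis F V).reindex (Fintype.equivOfCardEq (by rw [Fintype.card_fin, hcard]))
  refine ⟨pairForm b, pairForm_isAlt b, pairForm_nondeg b, ?_⟩
  intro u v
  simp only [LinearMap.smul_apply, Module.End.one_apply, map_smul, smul_eq_mul]
  ring

end small

end Cfsg.Agent.Lib.Helper9.H9GSpInv
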