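import Mathlib
import Cfsg.Prelude.Def_GeometricClasses
import Cfsg.Agent.Lib.Helper9.GSpInv1

set_option autoImplicit false

/-! Conjugating a similitude of some alternating form into the similarity group of a given
symplectic form, by a matrix of determinant one. -/

namespace Cfsg.Agent.Lib.Helper9.H9GSpInv

open Module
open Cfsg.Agent.Lib.Helper9.H9AltForm

section cent
variable {F : Type*} [Field F] {V : Type*} [AddCommGroup V] [Module F V]

/-- `g` on `A`, identity on `B`. -/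
noncomputable def blockMap (A B : Submodule F V) (h : IsCompl A B) (g : A →ₗ[F] A) : V →ₗ[F] V :=
  ((Submodule.prodEquivOfIsCompl A B h : (A × B) →ₗ[F] V)) ∘ₗ (g.prodMap LinearMap.id) ∘ₗ
    ((Submodule.prodEquivOfIsCompl A B h).symm : V →ₗ[F] (A × B))

theorem blockMap_apply (A B : Submodule F V) (h : IsCompl A B) (g : A →ₗ[F] A) (a : A) (b : B) :
    blockMap A B h g ((a : V) + b) = (g a : V) + b := by
  unfold blockMap
  have : (Submodule.prodEquivOfIsCompl A B h).symm ((a : V) + b) = (a, b) := by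
    rw [LinearEquiv.symm_apply_eq]
    rfl
  simp only [LinearMap.comp_apply, LinearEquiv.coe_coe, this, LinearMap.prodMap_apply,
    LinearMap.id_apply, Submodule.coe_prodEquivOfIsCompl']

theorem det_blockMap [FiniteDimensional F V] (A B : Submodule F V) (h : IsCompl A B)
    (g : A →ₗ[F] A) : LinearMap.det (blockMap A B h g) = LinearMap.det g := by
  unfold blockMap
  rw [LinearMap.det_conj, LinearMap.det_prodMap, LinearMap.det_id, mul_one]

theorem blockMap_comm (A B : Submodule F V) (h : IsCompl A B) (g : A →ₗ[F] A) (x : V →ₗ[F] V)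
    (hA : ∀ v ∈ A, x v ∈ A) (hB : ∀ v ∈ B, x v ∈ B)
    (hg : ∀ a : A, g (x.restrict hA a) = x.restrict hA (g a)) (v : V) :
    blockMap A B h g (x v) = x (blockMap A B h g v) := by
  obtain ⟨⟨a, b⟩, rfl⟩ := (Submodule.prodEquivOfIsCompl A B h).surjective v
  show blockMap A B h g (x ((a : V) + b)) = x (blockMap A B h g ((a : V) + b))
  have h1 : x ((a : V) + b) = ((x.restrict hA a : A) : V) + ((x.restrict hB b : B) : V) := by
    rw [map_add]
    rfl
  rw [h1, blockMap_apply, blockMap_apply, hg, map_add]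
  rfl

end cent

section form
variable {F : Type*} [Field F] {n : ℕ}

/-- The bilinear form of a function form. -/
def bfOf (f : (Fin n → F) → (Fin n → F) → F) (hf : Cfsg.Geo.IsBilinearForm f) :
    LinearMap.BilinForm F (Fin n → F) :=
  LinearMap.mk₂ F f hf.add_left (fun c x v => by rw [smul_eq_mul]; exact hf.smul_left c x v)
    hf.add_right (fun c x v => by rw [smul_eq_mul]; exact hf.smul_right c x v)

theorem bfOf_apply (f : (Fin n → F) → (Fin n → F) → F) (hf : Cfsg.Geo.IsBilinearForm f)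
    (u v : Fin n → F) : bfOf f hf u v = f u v := rfl

theorem bfOf_isAlt (f : (Fin n → F) → (Fin n → F) → F) (hf : Cfsg.Geo.IsSymplecticForm f) :
    (bfOf f hf.bilinear).IsAlt := fun v => hf.alternating v

theorem bfOf_nondeg (f : (Fin n → F) → (Fin n → F) → F) (hf : Cfsg.Geo.IsSymplecticForm f) :
    Nondeg (bfOf f hf.bilinear) := by
  intro x hx
  by_contra hne
  obtain ⟨-, y, hy⟩ := hf.nondegenerate x hne
  exact hy (hx y)

/-- Two nondegenerate alternating forms on the same space are equivalent. -/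
theorem exists_equiv_of_forms {V : Type*} [AddCommGroup V] [Module F V] [FiniteDimensional F V]
    (B₁ B₂ : LinearMap.BilinForm F V) (h₁ : B₁.IsAlt) (n₁ : Nondeg B₁) (h₂ : B₂.IsAlt)
    (n₂ : Nondeg B₂) : ∃ g : V ≃ₗ[F] V, ∀ u v, B₂ (g u) (g v) = B₁ u v := by
  obtain ⟨m₁, b₁, hm₁, hb₁⟩ := exists_symplectic_basis h₁ n₁
  obtain ⟨m₂, b₂, hm₂, hb₂⟩ := exists_symplectic_basis h₂ n₂
  have hm : m₁ = m₂ := by omega
  subst hm
  refine ⟨b₁.equiv b₂ (Equiv.refl _), ?_⟩
  have key : B₂.compl₁₂ (b₁.equiv b₂ (Equiv.refl _) : V →ₗ[F] V)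
      (b₁.equiv b₂ (Equiv.refl _) : V →ₗ[F] V) = B₁ := by
    apply LinearMap.ext_basis b₁ b₁
    intro i j
    rw [LinearMap.compl₁₂_apply, LinearEquiv.coe_coe, Basis.equiv_apply, Basis.equiv_apply,
      Equiv.refl_apply, Equiv.refl_apply, hb₁, hb₂]
  intro u v
  rw [← key]
  rfl

end form

section conj
variable {F : Type*} [Field F] {n : ℕ}

/-- The main conjugation lemma. -/
theorem conj_mem_of_hasSimForm (f : (Fin n → F) → (Fin n → F) → F)
    (hf : Cfsg.Geo.IsSymplecticForm f) (x : Matrix.SpecialLinearGroup (Fin n) F) (τ : F)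
    (hτ : τ ≠ 0)
    (hform : HasSimForm (Matrix.toLin' (x : Matrix (Fin n) (Fin n) F)) τ)
    (hcent : ∀ δ : F, δ ≠ 0 → ∃ c : (Fin n → F) →ₗ[F] (Fin n → F), LinearMap.det c = δ ∧
      ∀ v, c (Matrix.toLin' (x : Matrix (Fin n) (Fin n) F) v)
        = Matrix.toLin' (x : Matrix (Fin n) (Fin n) F) (c v)) :
    ∃ P : Matrix.SpecialLinearGroup (Fin n) F,
      P⁻¹ * x * P ∈ (Cfsg.Geo.similarityGroup f).comap
        (Matrix.SpecialLinearGroup.toGL : Matrix.SpecialLinearGroup (Fin n) F →* GL (Fin n) F) := by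
  obtain ⟨B', ha, hn, hs⟩ := hform
  obtain ⟨g, hg⟩ := exists_equiv_of_forms B' (bfOf f hf.bilinear) ha hn (bfOf_isAlt f hf)
    (bfOf_nondeg f hf)
  have hγ : LinearMap.det (g : (Fin n → F) →ₗ[F] (Fin n → F)) ≠ 0 :=
    (LinearEquiv.isUnit_det' g).ne_zero
  obtain ⟨c, hcdet, hcc⟩ := hcent _ (inv_ne_zero hγ)
  set q : (Fin n → F) →ₗ[F] (Fin n → F) := (g : (Fin n → F) →ₗ[F] (Fin n → F)) ∘ₗ c with hq
  have hqdet : LinearMap.det q = 1 := by
    rw [hq, LinearMap.det_comp, hcdet, mul_inv_cancel₀ hγ]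
  let Q : Matrix.SpecialLinearGroup (Fin n) F :=
    ⟨LinearMap.toMatrix' q, by rw [LinearMap.det_toMatrix', hqdet]⟩
  have hQ : Matrix.toLin' (Q : Matrix (Fin n) (Fin n) F) = q := Matrix.toLin'_toMatrix' q
  refine ⟨Q⁻¹, ?_⟩
  rw [inv_inv, Subgroup.mem_comap]
  refine ⟨Units.mk0 τ hτ, ?_⟩
  intro u v
  rw [Units.val_mk0, Matrix.SpecialLinearGroup.coe_GL_coe_matrix]
  have hinv : ∀ w : Fin n → F, q (Matrix.toLin' ((Q⁻¹ : Matrix.SpecialLinearGroup (Fin n) F) :
      Matrix (Fin n) (Fin n) F) w) = w := by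
    intro w
    rw [← hQ, ← LinearMap.comp_apply, ← Matrix.toLin'_mul, ← Matrix.SpecialLinearGroup.coe_mul,
      mul_inv_cancel, Matrix.SpecialLinearGroup.coe_one, Matrix.toLin'_one, LinearMap.id_apply]
  have hM : ∀ w : Fin n → F, Matrix.mulVec ((Q * x * Q⁻¹ : Matrix.SpecialLinearGroup (Fin n) F) :
      Matrix (Fin n) (Fin n) F) w = q (Matrix.toLin' (x : Matrix (Fin n) (Fin n) F)
        (Matrix.toLin' ((Q⁻¹ : Matrix.SpecialLinearGroup (Fin n) F) :
      Matrix (Fin n) (Fin n) F) w)) := by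
    intro w
    rw [← Matrix.toLin'_apply, Matrix.SpecialLinearGroup.coe_mul,
      Matrix.SpecialLinearGroup.coe_mul, Matrix.toLin'_mul, Matrix.toLin'_mul, hQ]
    rfl
  rw [hM u, hM v]
  set a := Matrix.toLin' ((Q⁻¹ : Matrix.SpecialLinearGroup (Fin n) F) :
      Matrix (Fin n) (Fin n) F) u with ha'
  set b := Matrix.toLin' ((Q⁻¹ : Matrix.SpecialLinearGroup (Fin n) F) :
      Matrix (Fin n) (Fin n) F) v with hb'
  have e1 : ∀ s t : Fin n → F, f (q s) (q t) = B' (c s) (c t) := by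
    intro s t
    rw [← hg]
    rfl
  rw [e1, hcc, hcc, hs, ← e1, hinv u, hinv v]

end conj

end Cfsg.Agent.Lib.Helper9.H9GSpInv
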