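import Mathlib
import Cfsg.Agent.Lib.Helper9.NilType5

set_option autoImplicit false

/-! The cyclic subspace of maximal dimension, with its dimension. -/

namespace Cfsg.Agent.H9Nil

open Module
open Cfsg.Agent.H9SemiInv

section key
variable {F V : Type*} [Field F] [AddCommGroup V] [Module F V] [FiniteDimensional F V]

theorem exists_cyclic_compl_of_index (N : V →ₗ[F] V) (e : ℕ) (he1 : 1 ≤ e) (hNe : N ^ e = 0)
    (hne : N ^ (e - 1) ≠ 0) :
    ∃ Z C : Submodule F V, IsCompl Z C ∧ Inv N Z ∧ Inv N C ∧ finrank F Z = e := by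
  classical
  obtain ⟨v, hv⟩ : ∃ v, (N ^ (e - 1)) v ≠ 0 := by
    by_contra hcon
    push Not at hcon
    exact hne (LinearMap.ext hcon)
  obtain ⟨f, hf⟩ : ∃ f : V →ₗ[F] F, f ((N ^ (e - 1)) v) ≠ 0 := by
    by_contra hcon
    push Not at hcon
    exact hv ((Module.forall_dual_apply_eq_zero_iff F _).mp hcon)
  set Φ := evalMap N f e with hΦ
  set Ψ := combMap N v e with hΨ
  have hkey : ∀ a, Φ (Ψ a) = 0 → a = 0 := fun a h =>
    combMap_eq_zero_of_eval N f v e hNe he1 hf a h
  have hΨinj : Function.Injective Ψ := by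
    rw [← LinearMap.ker_eq_bot, LinearMap.ker_eq_bot']
    intro a ha
    exact hkey a (by rw [ha, map_zero])
  have hZdim : finrank F (LinearMap.range Ψ) = e := by
    rw [LinearMap.finrank_range_of_inj hΨinj, Module.finrank_fin_fun]
  have hdisj : Disjoint (LinearMap.range Ψ) (LinearMap.ker Φ) := by
    rw [Submodule.disjoint_def]
    rintro _ ⟨a, rfl⟩ hx
    rw [hkey a (LinearMap.mem_ker.mp hx), map_zero]
  have hCdim : finrank F V ≤ e + finrank F (LinearMap.ker Φ) := by
    have h1 := LinearMap.finrank_range_add_finrank_ker Φ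
    have h2 : finrank F (LinearMap.range Φ) ≤ finrank F (Fin e → F) := Submodule.finrank_le _
    rw [Module.finrank_fin_fun] at h2
    omega
  have htop : LinearMap.range Ψ ⊔ LinearMap.ker Φ = ⊤ := by
    apply Submodule.eq_top_of_finrank_eq
    have h1 := finrank_sup_of_disjoint hdisj
    have h2 : finrank F ↥(LinearMap.range Ψ ⊔ LinearMap.ker Φ) ≤ finrank F V :=
      Submodule.finrank_le _
    omega
  refine ⟨LinearMap.range Ψ, LinearMap.ker Φ, ⟨hdisj, codisjoint_iff.mpr htop⟩, ?_, ?_, hZdim⟩
  · -- the cyclic subspace is invariant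
    rw [inv_iff]
    have hr : LinearMap.range Ψ = Submodule.span F (Set.range fun k : Fin e => (N ^ (k : ℕ)) v) := by
      rw [hΨ]
      unfold combMap
      exact Fintype.range_linearCombination F _
    rw [hr, Submodule.map_span_le]
    rintro _ ⟨k, rfl⟩
    by_cases hk : (k : ℕ) + 1 < e
    · apply Submodule.subset_span
      refine ⟨⟨(k : ℕ) + 1, hk⟩, ?_⟩
      show (N ^ ((k : ℕ) + 1)) v = N ((N ^ (k : ℕ)) v)
      rw [pow_succ', Module.End.mul_apply]
    · have hk' : (k : ℕ) + 1 = e := by have := k.2; omega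
      have : N ((N ^ (k : ℕ)) v) = 0 := by
        rw [← Module.End.mul_apply, ← pow_succ', hk', hNe, LinearMap.zero_apply]
      rw [this]
      exact Submodule.zero_mem _
  · intro w hw
    rw [LinearMap.mem_ker] at hw ⊢
    funext k
    rw [hΦ, evalMap_apply, Pi.zero_apply, ← Module.End.mul_apply, ← pow_succ]
    by_cases hk : (k : ℕ) + 1 < e
    · have := congrFun hw ⟨(k : ℕ) + 1, hk⟩
      rw [hΦ, evalMap_apply, Pi.zero_apply] at this
      exact this
    · have hk' : (k : ℕ) + 1 = e := by have := k.2; omega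
      rw [hk', hNe, LinearMap.zero_apply, map_zero]

end key

end Cfsg.Agent.H9Nil
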