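import Mathlib
import Cfsg.Agent.Lib.Helper9.GSpInv2
import Cfsg.Agent.Lib.Helper9.NilType8
import Cfsg.Agent.Lib.Helper9.Elus4

set_option autoImplicit false

/-! Elements with scalar square: similitude forms and centralisers. -/

namespace Cfsg.Agent.Lib.Helper9.H9GSpInv

open Module
open Cfsg.Agent.H9SemiInv
open Cfsg.Agent.Lib.Helper9.H9Elus

section general
universe u v
variable {F : Type v} [Field F] {V : Type u} [AddCommGroup V] [Module F V] [FiniteDimensional F V]

theorem exists_det_eq [Nontrivial V] (δ : F) : ∃ g : V →ₗ[F] V, LinearMap.det g = δ := by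
  classical
  let b := Module.finBasis F V
  have hpos : 0 < finrank F V := Module.finrank_pos
  let i₀ : Fin (finrank F V) := ⟨0, hpos⟩
  refine ⟨Matrix.toLin b b (Matrix.diagonal (Function.update (fun _ => (1 : F)) i₀ δ)), ?_⟩
  rw [LinearMap.det_toLin, Matrix.det_diagonal, Finset.prod_update_of_mem (Finset.mem_univ i₀)]
  simp

theorem det_eq_of_isCompl (x : V →ₗ[F] V) (A B : Submodule F V) (h : IsCompl A B)
    (hA : ∀ v ∈ A, x v ∈ A) (hB : ∀ v ∈ B, x v ∈ B) :
    LinearMap.det x = LinearMap.det (x.restrict hA) * LinearMap.det (x.restrict hB) := by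
  let e := Submodule.prodEquivOfIsCompl A B h
  have hconj : x = (e : (A × B) →ₗ[F] V) ∘ₗ ((x.restrict hA).prodMap (x.restrict hB)) ∘ₗ
      (e.symm : V →ₗ[F] (A × B)) := by
    apply LinearMap.ext
    intro u
    obtain ⟨⟨a, b⟩, rfl⟩ := e.surjective u
    simp [e, Submodule.coe_prodEquivOfIsCompl']
  conv_lhs => rw [hconj]
  rw [LinearMap.det_conj, LinearMap.det_prodMap]

theorem det_smul_one (c : F) : LinearMap.det (c • (1 : V →ₗ[F] V)) = c ^ finrank F V := by
  rw [LinearMap.det_smul, map_one, mul_one]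

end general

section odd
variable {F : Type*} [Field F] {V : Type*} [AddCommGroup V] [Module F V] [FiniteDimensional F V]
variable (d : F) (t : V →ₗ[F] V)

theorem inv_ker_sub (c : F) : ∀ v ∈ LinearMap.ker (t - c • 1), t v ∈ LinearMap.ker (t - c • 1) := by
  intro v hv
  rw [LinearMap.mem_ker, LinearMap.sub_apply, LinearMap.smul_apply, Module.End.one_apply,
    sub_eq_zero] at hv ⊢
  rw [hv, map_smul, hv]

theorem restrict_ker_sub (c : F) :
    t.restrict (inv_ker_sub t c) = c • (1 : LinearMap.ker (t - c • 1) →ₗ[F] _) := by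
  apply LinearMap.ext
  intro v
  apply Subtype.ext
  have hv := v.2
  rw [LinearMap.mem_ker, LinearMap.sub_apply, LinearMap.smul_apply, Module.End.one_apply,
    sub_eq_zero] at hv
  rw [LinearMap.restrict_coe_apply, hv]
  rfl

theorem isCompl_eigen (hd : d ≠ 0) (h2 : (2 : F) ≠ 0) (ht : t ^ 2 = (d ^ 2) • 1) :
    IsCompl (LinearMap.ker (t - d • 1)) (LinearMap.ker (t - (-d) • 1)) := by
  have htt : ∀ v, t (t v) = d ^ 2 • v := by
    intro v
    have := congrArg (fun g : V →ₗ[F] V => g v) ht
    simpa [pow_two, Module.End.mul_apply] using this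
  constructor
  · rw [Submodule.disjoint_def]
    intro v h1 h2'
    rw [LinearMap.mem_ker, LinearMap.sub_apply, LinearMap.smul_apply, Module.End.one_apply,
      sub_eq_zero] at h1 h2'
    have h3 : (2 * d) • v = 0 := by
      have : d • v = (-d) • v := h1.symm.trans h2'
      rw [neg_smul, eq_neg_iff_add_eq_zero, ← add_smul] at this
      rw [two_mul]
      exact this
    exact (smul_eq_zero.mp h3).resolve_left (mul_ne_zero h2 hd)
  · rw [codisjoint_iff, eq_top_iff]
    intro v _
    have hv : v = (2 * d)⁻¹ • (t v + d • v) + (-(2 * d)⁻¹) • (t v - d • v) := by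
      have h3 : (t v + d • v) - (t v - d • v) = (2 * d) • v := by
        rw [two_mul, add_smul]
        abel
      rw [neg_smul, ← sub_eq_add_neg, ← smul_sub, h3, smul_smul,
        inv_mul_cancel₀ (mul_ne_zero h2 hd), one_smul]
    rw [hv]
    apply Submodule.add_mem_sup
    · apply Submodule.smul_mem
      rw [LinearMap.mem_ker, LinearMap.sub_apply, LinearMap.smul_apply, Module.End.one_apply,
        map_add, map_smul, htt, sub_eq_zero]
      module
    · apply Submodule.smul_mem
      rw [LinearMap.mem_ker, LinearMap.sub_apply, LinearMap.smul_apply, Module.End.one_apply,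
        map_sub, map_smul, htt, sub_eq_zero]
      module

end odd

section odd2
variable {F : Type*} [Field F] {V : Type*} [AddCommGroup V] [Module F V] [FiniteDimensional F V]
variable (d : F) (t : V →ₗ[F] V)

/-- Both eigenspaces even-dimensional: `t` is a similitude with multiplier `d ^ 2`. -/
theorem hasSimForm_of_even (hd : d ≠ 0) (h2 : (2 : F) ≠ 0) (ht : t ^ 2 = (d ^ 2) • 1)
    (hp : Even (finrank F (LinearMap.ker (t - d • 1))))
    (hm : Even (finrank F (LinearMap.ker (t - (-d) • 1)))) : HasSimForm t (d ^ 2) := by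
  apply hasSimForm_of_compl t (d ^ 2) _ _ (isCompl_eigen d t hd h2 ht) (inv_ker_sub t d)
    (inv_ker_sub t (-d))
  · rw [restrict_ker_sub]
    exact hasSimForm_smul hp d
  · rw [restrict_ker_sub]
    have := hasSimForm_smul (V := LinearMap.ker (t - (-d) • 1)) hm (-d)
    rwa [neg_pow_two] at this

theorem det_of_sq_eq (hd : d ≠ 0) (h2 : (2 : F) ≠ 0) (ht : t ^ 2 = (d ^ 2) • 1) :
    LinearMap.det t = d ^ finrank F (LinearMap.ker (t - d • 1)) *
      (-d) ^ finrank F (LinearMap.ker (t - (-d) • 1)) := by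
  rw [det_eq_of_isCompl t _ _ (isCompl_eigen d t hd h2 ht) (inv_ker_sub t d) (inv_ker_sub t (-d)),
    restrict_ker_sub, restrict_ker_sub, det_smul_one, det_smul_one]

/-- The centraliser of a non-scalar `t` with `t ^ 2 = d ^ 2` has all determinants. -/
theorem cent_of_sq_eq (hd : d ≠ 0) (h2 : (2 : F) ≠ 0) (ht : t ^ 2 = (d ^ 2) • 1)
    (hns : t ≠ d • 1) (δ : F) :
    ∃ c : V →ₗ[F] V, LinearMap.det c = δ ∧ ∀ v, c (t v) = t (c v) := by
  have hc := isCompl_eigen d t hd h2 ht
  have hne : Nontrivial (LinearMap.ker (t - (-d) • 1)) := by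
    rw [Submodule.nontrivial_iff_ne_bot]
    intro hbot
    apply hns
    have htop : LinearMap.ker (t - d • 1) = ⊤ := by
      have := hc.sup_eq_top
      rwa [hbot, sup_bot_eq] at this
    rw [LinearMap.ker_eq_top, sub_eq_zero] at htop
    exact htop
  obtain ⟨g, hg⟩ := exists_det_eq (V := LinearMap.ker (t - (-d) • 1)) δ
  refine ⟨blockMap _ _ hc.symm g, by rw [det_blockMap, hg], ?_⟩
  intro v
  apply blockMap_comm _ _ hc.symm g t (inv_ker_sub t (-d)) (inv_ker_sub t d)
  intro a
  rw [restrict_ker_sub, LinearMap.smul_apply, LinearMap.smul_apply, Module.End.one_apply,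
    Module.End.one_apply, map_smul]

end odd2

end Cfsg.Agent.Lib.Helper9.H9GSpInv
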