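import Mathlib
import Cfsg.Agent.Lib.Helper9.GSpInv3

set_option autoImplicit false

/-! Characteristic two, and the irreducible case. -/

namespace Cfsg.Agent.Lib.Helper9.H9GSpInv

open Module Polynomial
open Cfsg.Agent.H9SemiInv
open Cfsg.Agent.Lib.Helper9.H9Elus

section chartwo
universe u v
variable {F : Type v} [Field F]

theorem sub_smul_sq_eq_zero {V : Type u} [AddCommGroup V] [Module F V] (h2 : (2 : F) = 0) (d : F)
    (t : V →ₗ[F] V) (ht : t ^ 2 = (d ^ 2) • 1) : (t - d • 1) ^ 2 = 0 := by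
  have htt : ∀ v, t (t v) = d ^ 2 • v := by
    intro v
    have := congrArg (fun g : V →ₗ[F] V => g v) ht
    simpa [pow_two, Module.End.mul_apply] using this
  apply LinearMap.ext
  intro v
  rw [pow_two, Module.End.mul_apply, LinearMap.zero_apply]
  simp only [LinearMap.sub_apply, LinearMap.smul_apply, Module.End.one_apply, map_sub, map_smul]
  rw [htt]
  have : d ^ 2 • v - d • t v - d • (t v - d • v) = (2 * d ^ 2) • v - (2 * d) • t v := by
    module
  rw [this, h2, zero_mul, zero_mul, zero_smul, zero_smul, sub_zero]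

theorem inv_of_inv_sub {V : Type u} [AddCommGroup V] [Module F V] (d : F) (t : V →ₗ[F] V)
    (W : Submodule F V) (hW : Inv (t - d • 1) W) : ∀ v ∈ W, t v ∈ W := by
  intro v hv
  have := W.add_mem (hW v hv) (W.smul_mem d hv)
  rwa [LinearMap.sub_apply, LinearMap.smul_apply, Module.End.one_apply, sub_add_cancel] at this

theorem eq_of_sq_eq_char_two (h2 : (2 : F) = 0) (a b : F) (h : a ^ 2 = b ^ 2) : a = b := by
  have h1 : (a - b) ^ 2 = 0 := by
    have : (a - b) ^ 2 = a ^ 2 + b ^ 2 - 2 * (a * b) := by ring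
    rw [this, h2, zero_mul, sub_zero, h, ← two_mul, h2, zero_mul]
  exact sub_eq_zero.mp ((pow_eq_zero_iff (two_ne_zero)).mp h1)

theorem det_restrict_char_two {V : Type u} [AddCommGroup V] [Module F V] [FiniteDimensional F V]
    (h2 : (2 : F) = 0) (d : F) (t : V →ₗ[F] V) (ht : t ^ 2 = (d ^ 2) • 1) (hV : finrank F V = 2) :
    LinearMap.det t = d ^ 2 := by
  apply eq_of_sq_eq_char_two h2
  rw [← map_pow, ht, det_smul_one, hV]

theorem hasSimForm_char_two_aux (h2 : (2 : F) = 0) (d : F) :
    ∀ (k : ℕ) (V : Type u) [AddCommGroup V] [Module F V] [FiniteDimensional F V]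
      (t : V →ₗ[F] V), t ^ 2 = (d ^ 2) • 1 → finrank F V = k → Even k → HasSimForm t (d ^ 2) := by
  intro k
  induction k using Nat.strong_induction_on with
  | _ k ih =>
    intro V _ _ _ t ht hk hek
    by_cases hN : t - d • 1 = 0
    · rw [sub_eq_zero.mp hN]
      exact hasSimForm_smul (by rw [hk]; exact hek) d
    · have hN2 := sub_smul_sq_eq_zero h2 d t ht
      obtain ⟨Z, C, hZC, hZ, hC, hZ2⟩ := Cfsg.Agent.H9Nil.exists_cyclic_compl_of_index
        (t - d • 1) 2 (by norm_num) hN2 (by simpa using hN)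
      have hZt := inv_of_inv_sub d t Z hZ
      have hCt := inv_of_inv_sub d t C hC
      have hfr := Submodule.finrank_add_eq_of_isCompl hZC
      have hCk : finrank F C = k - 2 := by omega
      have hek' : Even (k - 2) := by
        obtain ⟨j, hj⟩ := hek
        exact ⟨j - 1, by omega⟩
      apply hasSimForm_of_compl t (d ^ 2) Z C hZC hZt hCt
      · have h1 := hasSimForm_of_finrank_two hZ2 (t.restrict hZt)
        rwa [det_restrict_char_two h2 d (t.restrict hZt)
          (pow_restrict_eq_smul 2 (d ^ 2) t ht Z hZt) hZ2] at h1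
      · exact ih (k - 2) (by omega) C (t.restrict hCt)
          (pow_restrict_eq_smul 2 (d ^ 2) t ht C hCt) hCk hek'

theorem hasSimForm_char_two {V : Type u} [AddCommGroup V] [Module F V] [FiniteDimensional F V]
    (h2 : (2 : F) = 0) (d : F) (t : V →ₗ[F] V) (ht : t ^ 2 = (d ^ 2) • 1)
    (hV : Even (finrank F V)) : HasSimForm t (d ^ 2) :=
  hasSimForm_char_two_aux h2 d _ V t ht rfl hV

theorem cent_char_two {V : Type u} [AddCommGroup V] [Module F V] [FiniteDimensional F V]
    (h2 : (2 : F) = 0) (hsq : ∀ δ : F, ∃ a : F, a ^ 2 = δ) (d : F) (t : V →ₗ[F] V)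
    (ht : t ^ 2 = (d ^ 2) • 1) (hns : t ≠ d • 1) (δ : F) :
    ∃ c : V →ₗ[F] V, LinearMap.det c = δ ∧ ∀ v, c (t v) = t (c v) := by
  have hN : t - d • 1 ≠ 0 := fun h => hns (sub_eq_zero.mp h)
  have hN2 := sub_smul_sq_eq_zero h2 d t ht
  obtain ⟨Z, C, hZC, hZ, hC, hZ2⟩ := Cfsg.Agent.H9Nil.exists_cyclic_compl_of_index
    (t - d • 1) 2 (by norm_num) hN2 (by simpa using hN)
  have hZt := inv_of_inv_sub d t Z hZ
  have hCt := inv_of_inv_sub d t C hC
  obtain ⟨a, ha⟩ := hsq δ
  refine ⟨blockMap Z C hZC (a • 1), by rw [det_blockMap, det_smul_one, hZ2, ha], ?_⟩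
  intro v
  apply blockMap_comm Z C hZC (a • 1) t hZt hCt
  intro w
  rw [LinearMap.smul_apply, LinearMap.smul_apply, Module.End.one_apply, Module.End.one_apply,
    map_smul]

end chartwo

section irred
universe u v
variable {F : Type v} [Field F]

theorem charpoly_of_pow_eq_smul_of_finrank {V : Type u} [AddCommGroup V] [Module F V]
    [FiniteDimensional F V] (r : ℕ) (hr : r.Prime) (c : F) (hc : ∀ b : F, b ^ r ≠ c)
    (z : V →ₗ[F] V) (hz : z ^ r = c • 1) (hV : finrank F V = r) :
    z.charpoly = X ^ r - C c := by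
  have hirr : Irreducible (X ^ r - C c : F[X]) := X_pow_sub_C_irreducible_of_prime hr hc
  have hmin : minpoly F z ∣ X ^ r - C c := minpoly.dvd F z (aeval_X_pow_sub_C_eq_zero r c z hz)
  haveI : Nontrivial V := Module.finrank_pos_iff.mp (by rw [hV]; exact hr.pos)
  have hass : Associated (X ^ r - C c) (minpoly F z) := by
    rcases hirr.dvd_iff.mp hmin with h | h
    · exact absurd h (minpoly.not_isUnit F z)
    · exact h
  have heq : X ^ r - C c = minpoly F z :=
    eq_of_monic_of_associated (monic_X_pow_sub_C c hr.ne_zero) (minpoly.monic z.isIntegral) hass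
  have hdvd : X ^ r - C c ∣ z.charpoly := heq ▸ LinearMap.minpoly_dvd_charpoly z
  exact eq_of_monic_of_dvd_of_natDegree_le (monic_X_pow_sub_C c hr.ne_zero) z.charpoly_monic hdvd
    (by rw [LinearMap.charpoly_natDegree, natDegree_X_pow_sub_C, hV])

/-- The determinant of `α + β s` on a plane where `s ^ 2 = z` is not a square. -/
theorem det_add_smul {V : Type u} [AddCommGroup V] [Module F V] [FiniteDimensional F V]
    (z : F) (hz : ∀ b : F, b ^ 2 ≠ z) (s : V →ₗ[F] V) (hs : s ^ 2 = z • 1)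
    (hV : finrank F V = 2) (α β : F) :
    LinearMap.det (α • (1 : V →ₗ[F] V) + β • s) = α ^ 2 - z * β ^ 2 := by
  have hch := charpoly_of_pow_eq_smul_of_finrank 2 Nat.prime_two z hz s hs hV
  by_cases hβ : β = 0
  · rw [hβ, zero_smul, add_zero, det_smul_one, hV]
    ring
  · have h1 : α • (1 : V →ₗ[F] V) + β • s = (-β) • (algebraMap F (V →ₗ[F] V) (-α / β) - s) := by
      rw [Algebra.algebraMap_eq_smul_one, smul_sub, smul_smul]
      have : -β * (-α / β) = α := by field_simp
      rw [this, neg_smul, sub_neg_eq_add]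
    rw [h1, LinearMap.det_smul, ← LinearMap.eval_charpoly, hch, hV]
    simp only [eval_sub, eval_pow, eval_X, eval_C]
    field_simp

theorem hasSimForm_irred_aux (z : F) (hz : ∀ b : F, b ^ 2 ≠ z) :
    ∀ (k : ℕ) (V : Type u) [AddCommGroup V] [Module F V] [FiniteDimensional F V]
      (t : V →ₗ[F] V), t ^ 2 = z • 1 → finrank F V = k → HasSimForm t (-z) := by
  intro k
  induction k using Nat.strong_induction_on with
  | _ k ih =>
    intro V _ _ _ t ht hk
    by_cases h0 : k = 0
    · subst h0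
      haveI : Subsingleton V := Module.finrank_zero_iff.mp hk
      exact ⟨0, fun v => rfl, fun v _ => Subsingleton.elim _ _, fun u v => by simp⟩
    · have hpos : 0 < finrank F V := by omega
      haveI : Nontrivial V := Module.finrank_pos_iff.mp hpos
      obtain ⟨Z, -, hZ, hZ2⟩ := hmin_of_pow_eq_smul 2 Nat.prime_two z hz t ht ⊤
        (fun x _ => Submodule.mem_top) top_ne_bot
      have hss := isSemisimple_of_pow_eq_smul 2 Nat.prime_two z hz t ht
      obtain ⟨C, hCmem, hZC⟩ :=
        (Module.End.isSemisimple_iff.mp hss) Z ((inv_iff_mem t Z).mp hZ)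
      have hC : Inv t C := (inv_iff_mem t C).mpr hCmem
      have hfr := Submodule.finrank_add_eq_of_isCompl hZC
      have hCk : finrank F C = k - 2 := by omega
      apply hasSimForm_of_compl t (-z) Z C hZC hZ hC
      · have h1 := hasSimForm_of_finrank_two hZ2 (t.restrict hZ)
        rw [det_of_pow_eq_smul_of_finrank 2 Nat.prime_two z hz (t.restrict hZ)
          (pow_restrict_eq_smul 2 z t ht Z hZ) hZ2] at h1
        have : (-1 : F) ^ (2 + 1) * z = -z := by ring
        rwa [this] at h1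
      · exact ih (k - 2) (by omega) C (t.restrict hC) (pow_restrict_eq_smul 2 z t ht C hC) hCk

theorem hasSimForm_irred {V : Type u} [AddCommGroup V] [Module F V] [FiniteDimensional F V]
    (z : F) (hz : ∀ b : F, b ^ 2 ≠ z) (t : V →ₗ[F] V) (ht : t ^ 2 = z • 1) :
    HasSimForm t (-z) :=
  hasSimForm_irred_aux z hz _ V t ht rfl

theorem cent_irred {V : Type u} [AddCommGroup V] [Module F V] [FiniteDimensional F V]
    [Nontrivial V] (z : F) (hz : ∀ b : F, b ^ 2 ≠ z) (t : V →ₗ[F] V) (ht : t ^ 2 = z • 1) (δ : F)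
    (hδ : ∃ α β : F, α ^ 2 - z * β ^ 2 = δ) :
    ∃ c : V →ₗ[F] V, LinearMap.det c = δ ∧ ∀ v, c (t v) = t (c v) := by
  obtain ⟨Z, -, hZ, hZ2⟩ := hmin_of_pow_eq_smul 2 Nat.prime_two z hz t ht ⊤
    (fun x _ => Submodule.mem_top) top_ne_bot
  have hss := isSemisimple_of_pow_eq_smul 2 Nat.prime_two z hz t ht
  obtain ⟨C, hCmem, hZC⟩ := (Module.End.isSemisimple_iff.mp hss) Z ((inv_iff_mem t Z).mp hZ)
  have hC : Inv t C := (inv_iff_mem t C).mpr hCmem
  obtain ⟨α, β, hαβ⟩ := hδ
  refine ⟨blockMap Z C hZC (α • 1 + β • t.restrict hZ), ?_, ?_⟩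
  · rw [det_blockMap, det_add_smul z hz (t.restrict hZ) (pow_restrict_eq_smul 2 z t ht Z hZ) hZ2,
      hαβ]
  · intro v
    apply blockMap_comm Z C hZC _ t hZ hC
    intro w
    simp only [LinearMap.add_apply, LinearMap.smul_apply, Module.End.one_apply, map_add, map_smul]

end irred

end Cfsg.Agent.Lib.Helper9.H9GSpInv
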