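import Mathlib
import Cfsg.Agent.Lib.Helper9.GSpInv4
import Cfsg.Agent.Lib.Helper9.Elus6

set_option autoImplicit false

/-! The pseudo-reflection `d • diag(-1, 1, …, 1)` is not a symplectic similitude. -/

namespace Cfsg.Agent.Lib.Helper9.H9GSpInv

open Cfsg.Agent.Lib.Helper9.H9Elus

section nonmem
variable {F : Type*} [Field F] {n : ℕ}

/-- negate coordinate `i₀` -/
def negCoord (i₀ : Fin n) (u : Fin n → F) : Fin n → F := Function.update u i₀ (- u i₀)

theorem negCoord_of_eq_zero (i₀ : Fin n) (u : Fin n → F) (hu : u i₀ = 0) : negCoord i₀ u = u := by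
  unfold negCoord
  rw [hu, neg_zero, ← hu, Function.update_eq_self]

theorem negCoord_negCoord (i₀ : Fin n) (u : Fin n → F) : negCoord i₀ (negCoord i₀ u) = u := by
  unfold negCoord
  rw [Function.update_self, neg_neg, Function.update_idem, Function.update_eq_self]

theorem negCoord_single (i₀ : Fin n) :
    negCoord i₀ (Pi.single i₀ (1 : F)) = (-1 : F) • Pi.single i₀ (1 : F) := by
  funext j
  unfold negCoord
  by_cases hj : j = i₀
  · subst hj
    simp
  · simp [Function.update_of_ne hj, Pi.single_eq_of_ne hj]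

theorem decomp_coord (i₀ : Fin n) (v : Fin n → F) :
    v = v i₀ • Pi.single i₀ (1 : F) + Function.update v i₀ 0 := by
  funext j
  by_cases hj : j = i₀
  · subst hj
    simp
  · simp [Function.update_of_ne hj, Pi.single_eq_of_ne hj]

theorem no_sim_negCoord (g : (Fin n → F) → (Fin n → F) → F)
    (hal : ∀ x y v, g (x + y) v = g x v + g y v)
    (hsl : ∀ (c : F) x v, g (c • x) v = c * g x v)
    (har : ∀ v x y, g v (x + y) = g v x + g v y)
    (hsr : ∀ (c : F) v x, g v (c • x) = c * g v x)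
    (halt : ∀ v, g v v = 0)
    (hnd : ∀ v, v ≠ 0 → ∃ x, g v x ≠ 0)
    (h2 : (2 : F) ≠ 0) (i₀ i₁ i₂ : Fin n) (h01 : i₀ ≠ i₁) (h02 : i₀ ≠ i₂) (h12 : i₁ ≠ i₂)
    (τ : F) (hsim : ∀ u v, g (negCoord i₀ u) (negCoord i₀ v) = τ * g u v) : False := by
  set e₀ : Fin n → F := Pi.single i₀ 1 with he₀
  have he₀0 : e₀ ≠ 0 := by
    intro h
    have := congrFun h i₀
    simp [he₀] at this
  obtain ⟨w, hw⟩ := hnd e₀ he₀0
  have hτ2 : τ * τ = 1 := by
    have h1 := hsim (negCoord i₀ e₀) (negCoord i₀ w)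
    rw [negCoord_negCoord, negCoord_negCoord, hsim] at h1
    have h3 : (τ * τ - 1) * g e₀ w = 0 := by linear_combination -h1
    rcases mul_eq_zero.mp h3 with h | h
    · exact sub_eq_zero.mp h
    · exact absurd h hw
  have hτ : τ = 1 ∨ τ = -1 := by
    have : (τ - 1) * (τ + 1) = 0 := by linear_combination hτ2
    rcases mul_eq_zero.mp this with h | h
    · exact Or.inl (sub_eq_zero.mp h)
    · exact Or.inr (eq_neg_of_add_eq_zero_left h)
  -- general principle
  have key : ∀ w' : Fin n → F, g w' e₀ = 0 → (∀ v' : Fin n → F, v' i₀ = 0 → g w' v' = 0) →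
      ∀ v, g w' v = 0 := by
    intro w' h1 h2' v
    rw [decomp_coord i₀ v, har, hsr, h1, mul_zero, zero_add]
    exact h2' _ (by simp)
  rcases hτ with hτ | hτ
  · -- τ = 1
    apply hw
    apply key e₀ (halt e₀)
    intro v' hv'
    have h1 := hsim e₀ v'
    rw [negCoord_single, negCoord_of_eq_zero i₀ v' hv', hsl, hτ] at h1
    have h3 : (2 : F) * g e₀ v' = 0 := by linear_combination -h1
    exact (mul_eq_zero.mp h3).resolve_left h2
  · -- τ = -1
    have hti : ∀ u u' : Fin n → F, u i₀ = 0 → u' i₀ = 0 → g u u' = 0 := by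
      intro u u' hu hu'
      have h1 := hsim u u'
      rw [negCoord_of_eq_zero i₀ u hu, negCoord_of_eq_zero i₀ u' hu', hτ] at h1
      have h3 : (2 : F) * g u u' = 0 := by linear_combination h1
      exact (mul_eq_zero.mp h3).resolve_left h2
    set e₁ : Fin n → F := Pi.single i₁ 1 with he₁
    set e₂ : Fin n → F := Pi.single i₂ 1 with he₂
    have he₁i : e₁ i₀ = 0 := by rw [he₁, Pi.single_eq_of_ne h01]
    have he₂i : e₂ i₀ = 0 := by rw [he₂, Pi.single_eq_of_ne h02]
    by_cases hα : g e₁ e₀ = 0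
    · have he₁0 : e₁ ≠ 0 := by
        intro h
        have := congrFun h i₁
        simp [he₁] at this
      obtain ⟨y, hy⟩ := hnd e₁ he₁0
      exact hy (key e₁ hα (fun v' hv' => hti e₁ v' he₁i hv') y)
    · set w' : Fin n → F := g e₂ e₀ • e₁ + (-(g e₁ e₀)) • e₂ with hw'
      have hw'0 : w' ≠ 0 := by
        intro h
        have := congrFun h i₂
        rw [hw', he₁, he₂] at this
        simp [Pi.single_eq_of_ne h12.symm] at this
        exact hα this
      have hw'i : w' i₀ = 0 := by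
        rw [hw']
        simp [he₁i, he₂i]
      obtain ⟨y, hy⟩ := hnd w' hw'0
      apply hy
      apply key w' _ (fun v' hv' => hti w' v' hw'i hv') y
      rw [hw', hal, hsl, hsl]
      ring

/-- The matrix `d • diag(-1, 1, …, 1)`. -/
def pseudoRefl (d : F) (i₀ : Fin n) : Matrix (Fin n) (Fin n) F :=
  d • Matrix.diagonal (Function.update (fun _ => (1 : F)) i₀ (-1))

theorem pseudoRefl_mulVec (d : F) (i₀ : Fin n) (u : Fin n → F) :
    Matrix.mulVec (pseudoRefl d i₀) u = d • negCoord i₀ u := by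
  unfold pseudoRefl
  rw [Matrix.smul_mulVec]
  congr 1
  funext j
  rw [Matrix.mulVec_diagonal]
  unfold negCoord
  by_cases hj : j = i₀
  · subst hj
    simp
  · simp [Function.update_of_ne hj]

theorem det_pseudoRefl (d : F) (i₀ : Fin n) : (pseudoRefl d i₀).det = - d ^ n := by
  unfold pseudoRefl
  rw [Matrix.det_smul, Matrix.det_diagonal, Finset.prod_update_of_mem (Finset.mem_univ i₀)]
  simp

theorem pseudoRefl_sq (d : F) (i₀ : Fin n) :
    pseudoRefl d i₀ * pseudoRefl d i₀ = (d ^ 2) • (1 : Matrix (Fin n) (Fin n) F) := by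
  unfold pseudoRefl
  rw [Matrix.smul_mul, Matrix.mul_smul, smul_smul, Matrix.diagonal_mul_diagonal, ← pow_two]
  congr 1
  rw [← Matrix.diagonal_one]
  congr 1
  funext j
  by_cases hj : j = i₀
  · subst hj
    simp
  · simp [Function.update_of_ne hj]

theorem pseudoRefl_ne_smul (d : F) (hd : d ≠ 0) (h2 : (2 : F) ≠ 0) (i₀ i₁ : Fin n) (h01 : i₀ ≠ i₁)
    (z : F) : pseudoRefl d i₀ ≠ z • (1 : Matrix (Fin n) (Fin n) F) := by
  intro h
  have h0 := congrFun (congrFun h i₀) i₀
  have h1 := congrFun (congrFun h i₁) i₁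
  unfold pseudoRefl at h0 h1
  simp [Function.update_of_ne h01.symm] at h0 h1
  have : (2 : F) * d = 0 := by linear_combination h1 - h0
  rcases mul_eq_zero.mp this with h | h
  · exact h2 h
  · exact hd h

/-- The non-membership lemma. -/
theorem no_conj (f : (Fin n → F) → (Fin n → F) → F) (hf : Cfsg.Geo.IsSymplecticForm f)
    (h2 : (2 : F) ≠ 0) (i₀ i₁ i₂ : Fin n) (h01 : i₀ ≠ i₁) (h02 : i₀ ≠ i₂) (h12 : i₁ ≠ i₂)
    (d : F) (hd : d ≠ 0) (x : Matrix.SpecialLinearGroup (Fin n) F)
    (hx : (x : Matrix (Fin n) (Fin n) F) = pseudoRefl d i₀)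
    (P : Matrix.SpecialLinearGroup (Fin n) F)
    (hP : P⁻¹ * x * P ∈ (Cfsg.Geo.similarityGroup f).comap
        (Matrix.SpecialLinearGroup.toGL : Matrix.SpecialLinearGroup (Fin n) F →* GL (Fin n) F)) :
    False := by
  rw [Subgroup.mem_comap] at hP
  obtain ⟨c, hc⟩ := hP
  rw [Matrix.SpecialLinearGroup.coe_GL_coe_matrix] at hc
  set Pi : Matrix (Fin n) (Fin n) F := ((P⁻¹ : Matrix.SpecialLinearGroup (Fin n) F) :
    Matrix (Fin n) (Fin n) F) with hPi
  set Pm : Matrix (Fin n) (Fin n) F := (P : Matrix (Fin n) (Fin n) F) with hPm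
  have hPP : Pm * Pi = 1 := by
    rw [hPm, hPi, ← Matrix.SpecialLinearGroup.coe_mul, mul_inv_cancel,
      Matrix.SpecialLinearGroup.coe_one]
  have hPP' : Pi * Pm = 1 := by
    rw [hPm, hPi, ← Matrix.SpecialLinearGroup.coe_mul, inv_mul_cancel,
      Matrix.SpecialLinearGroup.coe_one]
  have hconj : ∀ u : Fin n → F, Matrix.mulVec ((P⁻¹ * x * P : Matrix.SpecialLinearGroup (Fin n) F) :
      Matrix (Fin n) (Fin n) F) (Matrix.mulVec Pi u) = d • Matrix.mulVec Pi (negCoord i₀ u) := by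
    intro u
    rw [Matrix.SpecialLinearGroup.coe_mul, Matrix.SpecialLinearGroup.coe_mul, hx,
      Matrix.mulVec_mulVec, Matrix.mul_assoc, Matrix.mul_assoc, hPP, Matrix.mul_one,
      ← Matrix.mulVec_mulVec, pseudoRefl_mulVec, Matrix.mulVec_smul]
  apply no_sim_negCoord (fun u v => f (Matrix.mulVec Pi u) (Matrix.mulVec Pi v))
    (fun a b v => by simp only [Matrix.mulVec_add, hf.bilinear.add_left])
    (fun a b v => by simp only [Matrix.mulVec_smul, hf.bilinear.smul_left])
    (fun a b v => by simp only [Matrix.mulVec_add, hf.bilinear.add_right])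
    (fun a b v => by simp only [Matrix.mulVec_smul, hf.bilinear.smul_right])
    (fun v => hf.alternating _) ?_ h2 i₀ i₁ i₂ h01 h02 h12 ((c : F) / d ^ 2) ?_
  · intro v hv
    have hv' : Matrix.mulVec Pi v ≠ 0 := by
      intro h
      apply hv
      have := congrArg (Matrix.mulVec Pm) h
      rwa [Matrix.mulVec_mulVec, hPP, Matrix.one_mulVec, Matrix.mulVec_zero] at this
    obtain ⟨y, hy⟩ := (hf.nondegenerate _ hv').2
    refine ⟨Matrix.mulVec Pm y, ?_⟩
    show f (Matrix.mulVec Pi v) (Matrix.mulVec Pi (Matrix.mulVec Pm y)) ≠ 0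
    rwa [Matrix.mulVec_mulVec, hPP', Matrix.one_mulVec]
  · intro u v
    show f (Matrix.mulVec Pi (negCoord i₀ u)) (Matrix.mulVec Pi (negCoord i₀ v)) =
      (c : F) / d ^ 2 * f (Matrix.mulVec Pi u) (Matrix.mulVec Pi v)
    have h1 := hc (Matrix.mulVec Pi u) (Matrix.mulVec Pi v)
    rw [hconj u, hconj v, hf.bilinear.smul_left, hf.bilinear.smul_right] at h1
    field_simp
    linear_combination h1

end nonmem

section arith

theorem dvd_of_dvd_two_mul (a n m : ℕ) (hn : n ≠ 0) (hm : m ≠ 0) (h1 : a ∣ 2 * n) (h2 : a ∣ m)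
    (hv : padicValNat 2 m ≤ padicValNat 2 n) : a ∣ n := by
  rw [Nat.dvd_iff_prime_pow_dvd_dvd]
  intro p k hp hpk
  by_cases hp2 : p = 2
  · subst hp2
    haveI : Fact (Nat.Prime 2) := ⟨hp⟩
    have h3 : 2 ^ k ∣ m := hpk.trans h2
    have h4 : k ≤ padicValNat 2 m := (padicValNat_dvd_iff_le hm).mp h3
    exact (padicValNat_dvd_iff_le hn).mpr (h4.trans hv)
  · have h3 : p ^ k ∣ 2 * n := hpk.trans h1
    have hcop : Nat.Coprime (p ^ k) 2 :=
      Nat.Coprime.pow_left k ((Nat.coprime_primes hp Nat.prime_two).mpr hp2)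
    exact hcop.dvd_of_dvd_mul_left h3

variable {F : Type*} [Field F] [Fintype F]

/-- Under the arithmetic condition no `d` has `d ^ n = -1`. -/
theorem pow_ne_neg_one (h2 : (2 : F) ≠ 0) (n : ℕ) (hn : n ≠ 0)
    (hv : padicValNat 2 (Fintype.card F - 1) ≤ padicValNat 2 n) (d : F) : d ^ n ≠ -1 := by
  intro h
  have hd : d ≠ 0 := by
    rintro rfl
    rw [zero_pow hn] at h
    have : (1 : F) = 0 := by linear_combination h
    exact one_ne_zero this
  have hQ : Fintype.card F - 1 ≠ 0 := by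
    have : 1 < Fintype.card F := Fintype.one_lt_card
    omega
  have h1 : d ^ (Fintype.card F - 1) = 1 := FiniteField.pow_card_sub_one_eq_one d hd
  have h3 : d ^ (2 * n) = 1 := by
    rw [mul_comm, pow_mul, h]
    ring
  have h4 : orderOf d ∣ n :=
    dvd_of_dvd_two_mul _ n _ hn hQ (orderOf_dvd_of_pow_eq_one h3) (orderOf_dvd_of_pow_eq_one h1) hv
  have h5 : d ^ n = 1 := orderOf_dvd_iff_pow_eq_one.mp h4
  rw [h5] at h
  have : (2 : F) = 0 := by linear_combination h
  exact h2 this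

/-- If the arithmetic condition fails some `d` has `d ^ n = -1`. -/
theorem exists_pow_eq_neg_one (n : ℕ) (hn : n ≠ 0)
    (hv : padicValNat 2 n < padicValNat 2 (Fintype.card F - 1)) : ∃ d : F, d ≠ 0 ∧ d ^ n = -1 := by
  haveI : Fact (Nat.Prime 2) := ⟨Nat.prime_two⟩
  have hQ : Fintype.card F - 1 ≠ 0 := by
    have : 1 < Fintype.card F := Fintype.one_lt_card
    omega
  set v := padicValNat 2 n with hvdef
  have hdvd : 2 ^ (v + 1) ∣ Fintype.card F - 1 := (padicValNat_dvd_iff_le hQ).mpr hv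
  obtain ⟨d, hd0, hd⟩ := exists_orderOf_eq (F := F) (2 ^ (v + 1)) hdvd
  refine ⟨d, hd0, ?_⟩
  set e := d ^ (2 ^ v) with he
  have he2 : e ^ 2 = 1 := by
    rw [he, ← pow_mul, ← pow_succ, ← hd, pow_orderOf_eq_one]
  have he1 : e ≠ 1 := by
    intro h
    have h1 : orderOf d ∣ 2 ^ v := orderOf_dvd_of_pow_eq_one h
    rw [hd] at h1
    have := Nat.le_of_dvd (by positivity) h1
    rw [pow_succ] at this
    have hpos : 0 < 2 ^ v := by positivity
    omega
  have he' : e = -1 := by
    have : (e - 1) * (e + 1) = 0 := by linear_combination he2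
    rcases mul_eq_zero.mp this with h | h
    · exact absurd (sub_eq_zero.mp h) he1
    · exact eq_neg_of_add_eq_zero_left h
  obtain ⟨n', hn'⟩ : 2 ^ v ∣ n := pow_padicValNat_dvd
  have hodd : Odd n' := by
    rw [← Nat.not_even_iff_odd]
    intro hev
    obtain ⟨j, hj⟩ := hev
    have h1 : 2 ^ (v + 1) ∣ n := ⟨j, by rw [hn', hj, pow_succ]; ring⟩
    have h2 := (padicValNat_dvd_iff_le hn).mp h1
    omega
  rw [hn', pow_mul, ← he, he', hodd.neg_one_pow]

/-- Norm forms of quadratic extensions of finite fields are surjective. -/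
theorem exists_norm_eq (hodd : Fintype.card F % 2 = 1) (z : F) (hz : z ≠ 0) (δ : F) :
    ∃ α β : F, α ^ 2 - z * β ^ 2 = δ := by
  classical
  have hf2 : (Polynomial.X ^ 2 - Polynomial.C δ : Polynomial F).degree = 2 := by
    rw [Polynomial.degree_X_pow_sub_C (by norm_num)]
    rfl
  have hg2 : (Polynomial.C (-z) * Polynomial.X ^ 2 : Polynomial F).degree = 2 := by
    rw [Polynomial.degree_C_mul (neg_ne_zero.mpr hz), Polynomial.degree_X_pow]
    rfl
  obtain ⟨a, b, hab⟩ := FiniteField.exists_root_sum_quadratic hf2 hg2 hodd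
  refine ⟨a, b, ?_⟩
  simp only [Polynomial.eval_sub, Polynomial.eval_pow, Polynomial.eval_X, Polynomial.eval_C,
    Polynomial.eval_mul] at hab
  linear_combination hab

end arith

end Cfsg.Agent.Lib.Helper9.H9GSpInv
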