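import Mathlib
import Cfsg.Agent.Lib.Helper9.GSpInv5

set_option autoImplicit false

/-! Conjugacy lemmas: from `GL`-conjugacy to `SL`-conjugacy, and intertwiners for maps with
scalar square. -/

namespace Cfsg.Agent.Lib.Helper9.H9GConj

open Module
open Cfsg.Agent.H9SemiInv
open Cfsg.Agent.Lib.Helper9.H9Elus
open Cfsg.Agent.Lib.Helper9.H9GSpInv

section sl
variable {F : Type*} [Field F] {n : ℕ}

/-- From an intertwiner and a centraliser with all determinants to an `SL`-conjugation. -/
theorem exists_SL_conj (x : Matrix.SpecialLinearGroup (Fin n) F)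
    (t' : (Fin n → F) →ₗ[F] (Fin n → F))
    (g : (Fin n → F) ≃ₗ[F] (Fin n → F))
    (hg : ∀ v, g (Matrix.toLin' (x : Matrix (Fin n) (Fin n) F) v) = t' (g v))
    (hcent : ∀ δ : F, δ ≠ 0 → ∃ c : (Fin n → F) →ₗ[F] (Fin n → F), LinearMap.det c = δ ∧
      ∀ v, c (Matrix.toLin' (x : Matrix (Fin n) (Fin n) F) v)
        = Matrix.toLin' (x : Matrix (Fin n) (Fin n) F) (c v)) :
    ∃ P : Matrix.SpecialLinearGroup (Fin n) F,
      ((P⁻¹ * x * P : Matrix.SpecialLinearGroup (Fin n) F) : Matrix (Fin n) (Fin n) F)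
        = LinearMap.toMatrix' t' := by
  have hγ : LinearMap.det (g : (Fin n → F) →ₗ[F] (Fin n → F)) ≠ 0 :=
    (LinearEquiv.isUnit_det' g).ne_zero
  obtain ⟨c, hcdet, hcc⟩ := hcent _ (inv_ne_zero hγ)
  set q : (Fin n → F) →ₗ[F] (Fin n → F) := (g : (Fin n → F) →ₗ[F] (Fin n → F)) ∘ₗ c with hq
  have hqdet : LinearMap.det q = 1 := by
    rw [hq, LinearMap.det_comp, hcdet, mul_inv_cancel₀ hγ]
  let Q : Matrix.SpecialLinearGroup (Fin n) F :=
    ⟨LinearMap.toMatrix' q, by rw [LinearMap.det_toMatrix', hqdet]⟩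
  have hQ : (Q : Matrix (Fin n) (Fin n) F) = LinearMap.toMatrix' q := rfl
  refine ⟨Q⁻¹, ?_⟩
  rw [inv_inv]
  have h1 : (Q : Matrix (Fin n) (Fin n) F) * (x : Matrix (Fin n) (Fin n) F)
      = LinearMap.toMatrix' t' * (Q : Matrix (Fin n) (Fin n) F) := by
    apply Matrix.toLin'.injective
    apply LinearMap.ext
    intro v
    rw [Matrix.toLin'_mul, Matrix.toLin'_mul, hQ, Matrix.toLin'_toMatrix', Matrix.toLin'_toMatrix',
      LinearMap.comp_apply, LinearMap.comp_apply, hq, LinearMap.comp_apply, LinearMap.comp_apply,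
      hcc]
    exact hg _
  rw [Matrix.SpecialLinearGroup.coe_mul, Matrix.SpecialLinearGroup.coe_mul, h1, Matrix.mul_assoc,
    ← Matrix.SpecialLinearGroup.coe_mul, mul_inv_cancel, Matrix.SpecialLinearGroup.coe_one,
    Matrix.mul_one]

end sl

section conj
universe u v
variable {F : Type v} [Field F]

/-- Conjugacy of maps with `t ^ 2 = d ^ 2` and equal eigenspace dimensions. -/
theorem conj_of_sq_eq {V V' : Type u} [AddCommGroup V] [Module F V] [FiniteDimensional F V]
    [AddCommGroup V'] [Module F V'] [FiniteDimensional F V']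
    (d : F) (hd : d ≠ 0) (h2 : (2 : F) ≠ 0) (t : V →ₗ[F] V) (t' : V' →ₗ[F] V')
    (ht : t ^ 2 = (d ^ 2) • 1) (ht' : t' ^ 2 = (d ^ 2) • 1)
    (hp : finrank F (LinearMap.ker (t - d • 1)) = finrank F (LinearMap.ker (t' - d • 1)))
    (hm : finrank F (LinearMap.ker (t - (-d) • 1)) = finrank F (LinearMap.ker (t' - (-d) • 1))) :
    ∃ g : V ≃ₗ[F] V', ∀ v, g (t v) = t' (g v) := by
  have hc := isCompl_eigen d t hd h2 ht
  have hc' := isCompl_eigen d t' hd h2 ht'
  let e := Submodule.prodEquivOfIsCompl _ _ hc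
  let e' := Submodule.prodEquivOfIsCompl _ _ hc'
  let gp := LinearEquiv.ofFinrankEq _ _ hp
  let gm := LinearEquiv.ofFinrankEq _ _ hm
  refine ⟨e.symm ≪≫ₗ (gp.prodCongr gm) ≪≫ₗ e', ?_⟩
  intro v
  obtain ⟨⟨a, b⟩, rfl⟩ := e.surjective v
  have ha := a.2
  have hb := b.2
  rw [LinearMap.mem_ker, LinearMap.sub_apply, LinearMap.smul_apply, Module.End.one_apply,
    sub_eq_zero] at ha hb
  have h1 : t (e (a, b)) = e (d • a, (-d) • b) := by
    simp only [e, Submodule.coe_prodEquivOfIsCompl', map_add, ha, hb, Submodule.coe_smul]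
  have ha' := (gp a).2
  have hb' := (gm b).2
  rw [LinearMap.mem_ker, LinearMap.sub_apply, LinearMap.smul_apply, Module.End.one_apply,
    sub_eq_zero] at ha' hb'
  rw [h1]
  simp only [LinearEquiv.trans_apply, LinearEquiv.symm_apply_apply, LinearEquiv.prodCongr_apply,
    map_smul]
  simp only [e', Submodule.coe_prodEquivOfIsCompl', map_add, ha', hb', Submodule.coe_smul]

/-- Conjugacy in dimension two of non-scalar maps with the same scalar square. -/
theorem conj_of_finrank_two {V V' : Type u} [AddCommGroup V] [Module F V] [FiniteDimensional F V]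
    [AddCommGroup V'] [Module F V'] [FiniteDimensional F V']
    (z : F) (t : V →ₗ[F] V) (t' : V' →ₗ[F] V')
    (ht : t ^ 2 = z • 1) (ht' : t' ^ 2 = z • 1) (hV : finrank F V = 2) (hV' : finrank F V' = 2)
    (hns : ∀ c : F, t ≠ c • 1) (hns' : ∀ c : F, t' ≠ c • 1) :
    ∃ g : V ≃ₗ[F] V', ∀ v, g (t v) = t' (g v) := by
  have htt : ∀ v, t (t v) = z • v := by
    intro v
    have := congrArg (fun g : V →ₗ[F] V => g v) ht
    simpa [pow_two, Module.End.mul_apply] using this
  have htt' : ∀ v, t' (t' v) = z • v := by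
    intro v
    have := congrArg (fun g : V' →ₗ[F] V' => g v) ht'
    simpa [pow_two, Module.End.mul_apply] using this
  obtain ⟨v, hv⟩ : ∃ v, LinearIndependent F ![v, t v] := by
    by_contra h
    push Not at h
    obtain ⟨a, ha⟩ := LinearMap.exists_eq_smul_id_of_forall_notLinearIndependent h
    exact hns a ha
  obtain ⟨v', hv'⟩ : ∃ v', LinearIndependent F ![v', t' v'] := by
    by_contra h
    push Not at h
    obtain ⟨a, ha⟩ := LinearMap.exists_eq_smul_id_of_forall_notLinearIndependent h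
    exact hns' a ha
  let b := basisOfLinearIndependentOfCardEqFinrank hv (by rw [hV]; rfl)
  let b' := basisOfLinearIndependentOfCardEqFinrank hv' (by rw [hV']; rfl)
  have hb0 : b 0 = v := by simp [b]
  have hb1 : b 1 = t v := by simp [b]
  have hb0' : b' 0 = v' := by simp [b']
  have hb1' : b' 1 = t' v' := by simp [b']
  let g := b.equiv b' (Equiv.refl _)
  have hg0 : g v = v' := by
    rw [← hb0, Basis.equiv_apply, Equiv.refl_apply, hb0']
  have hg1 : g (t v) = t' v' := by
    rw [← hb1, Basis.equiv_apply, Equiv.refl_apply, hb1']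
  refine ⟨g, ?_⟩
  have hcomp : (g : V →ₗ[F] V') ∘ₗ t = t' ∘ₗ (g : V →ₗ[F] V') := by
    apply b.ext
    intro i
    fin_cases i
    · show g (t (b 0)) = t' (g (b 0))
      rw [hb0, hg1, hg0]
    · show g (t (b 1)) = t' (g (b 1))
      rw [hb1, htt, map_smul, hg0, hg1, htt']
  intro w
  exact congrArg (fun f : V →ₗ[F] V' => f w) hcomp

/-- Conjugacy of maps with `t ^ 2 = z`, `z` a non-square. -/
theorem conj_irred_aux (z : F) (hz : ∀ b : F, b ^ 2 ≠ z) :
    ∀ (k : ℕ) (V V' : Type u) [AddCommGroup V] [Module F V] [FiniteDimensional F V]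
      [AddCommGroup V'] [Module F V'] [FiniteDimensional F V']
      (t : V →ₗ[F] V) (t' : V' →ₗ[F] V'), t ^ 2 = z • 1 → t' ^ 2 = z • 1 →
      finrank F V = k → finrank F V' = k → ∃ g : V ≃ₗ[F] V', ∀ v, g (t v) = t' (g v) := by
  intro k
  induction k using Nat.strong_induction_on with
  | _ k ih =>
    intro V V' _ _ _ _ _ _ t t' ht ht' hk hk'
    by_cases h0 : k = 0
    · subst h0
      haveI : Subsingleton V := Module.finrank_zero_iff.mp hk
      haveI : Subsingleton V' := Module.finrank_zero_iff.mp hk'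
      exact ⟨LinearEquiv.ofFinrankEq V V' (by rw [hk, hk']), fun v => Subsingleton.elim _ _⟩
    · have hpos : 0 < finrank F V := by omega
      have hpos' : 0 < finrank F V' := by omega
      haveI : Nontrivial V := Module.finrank_pos_iff.mp hpos
      haveI : Nontrivial V' := Module.finrank_pos_iff.mp hpos'
      obtain ⟨Z, -, hZ, hZ2⟩ := hmin_of_pow_eq_smul 2 Nat.prime_two z hz t ht ⊤
        (fun x _ => Submodule.mem_top) top_ne_bot
      obtain ⟨Z', -, hZ', hZ2'⟩ := hmin_of_pow_eq_smul 2 Nat.prime_two z hz t' ht' ⊤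
        (fun x _ => Submodule.mem_top) top_ne_bot
      have hss := isSemisimple_of_pow_eq_smul 2 Nat.prime_two z hz t ht
      have hss' := isSemisimple_of_pow_eq_smul 2 Nat.prime_two z hz t' ht'
      obtain ⟨C, hCmem, hZC⟩ := (Module.End.isSemisimple_iff.mp hss) Z ((inv_iff_mem t Z).mp hZ)
      have hC : Inv t C := (inv_iff_mem t C).mpr hCmem
      obtain ⟨C', hCmem', hZC'⟩ :=
        (Module.End.isSemisimple_iff.mp hss') Z' ((inv_iff_mem t' Z').mp hZ')
      have hC' : Inv t' C' := (inv_iff_mem t' C').mpr hCmem'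
      have hfr := Submodule.finrank_add_eq_of_isCompl hZC
      have hfr' := Submodule.finrank_add_eq_of_isCompl hZC'
      have hCk : finrank F C = k - 2 := by omega
      have hCk' : finrank F C' = k - 2 := by omega
      have hnsZ : ∀ (W : Submodule F V) (hW : Inv t W), finrank F W = 2 →
          ∀ c : F, t.restrict hW ≠ c • 1 := by
        intro W hW hW2 c h
        have h1 := pow_restrict_eq_smul 2 z t ht W hW
        rw [h] at h1
        haveI : Nontrivial W := Module.finrank_pos_iff.mp (by rw [hW2]; norm_num)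
        obtain ⟨w, hw⟩ := exists_ne (0 : W)
        have h2 := congrArg (fun g : W →ₗ[F] W => g w) h1
        simp only [pow_two, Module.End.mul_apply, LinearMap.smul_apply, Module.End.one_apply,
          smul_smul] at h2
        have h3 : (c * c - z) • w = 0 := by rw [sub_smul, h2, sub_self]
        rcases smul_eq_zero.mp h3 with h4 | h4
        · exact hz c (by rw [pow_two]; exact sub_eq_zero.mp h4)
        · exact hw h4
      have hnsZ' : ∀ (W : Submodule F V') (hW : Inv t' W), finrank F W = 2 →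
          ∀ c : F, t'.restrict hW ≠ c • 1 := by
        intro W hW hW2 c h
        have h1 := pow_restrict_eq_smul 2 z t' ht' W hW
        rw [h] at h1
        haveI : Nontrivial W := Module.finrank_pos_iff.mp (by rw [hW2]; norm_num)
        obtain ⟨w, hw⟩ := exists_ne (0 : W)
        have h2 := congrArg (fun g : W →ₗ[F] W => g w) h1
        simp only [pow_two, Module.End.mul_apply, LinearMap.smul_apply, Module.End.one_apply,
          smul_smul] at h2
        have h3 : (c * c - z) • w = 0 := by rw [sub_smul, h2, sub_self]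
        rcases smul_eq_zero.mp h3 with h4 | h4
        · exact hz c (by rw [pow_two]; exact sub_eq_zero.mp h4)
        · exact hw h4
      obtain ⟨gZ, hgZ⟩ := conj_of_finrank_two z (t.restrict hZ) (t'.restrict hZ')
        (pow_restrict_eq_smul 2 z t ht Z hZ) (pow_restrict_eq_smul 2 z t' ht' Z' hZ') hZ2 hZ2'
        (hnsZ Z hZ hZ2) (hnsZ' Z' hZ' hZ2')
      obtain ⟨gC, hgC⟩ := ih (k - 2) (by omega) C C' (t.restrict hC) (t'.restrict hC')
        (pow_restrict_eq_smul 2 z t ht C hC) (pow_restrict_eq_smul 2 z t' ht' C' hC') hCk hCk'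
      let e := Submodule.prodEquivOfIsCompl _ _ hZC
      let e' := Submodule.prodEquivOfIsCompl _ _ hZC'
      refine ⟨e.symm ≪≫ₗ (gZ.prodCongr gC) ≪≫ₗ e', ?_⟩
      intro v
      obtain ⟨⟨a, b⟩, rfl⟩ := e.surjective v
      have h1 : t (e (a, b)) = e (t.restrict hZ a, t.restrict hC b) := by
        simp only [e, Submodule.coe_prodEquivOfIsCompl', map_add]
        rfl
      rw [h1]
      simp only [LinearEquiv.trans_apply, LinearEquiv.symm_apply_apply, LinearEquiv.prodCongr_apply]
      rw [hgZ, hgC]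
      simp only [e', Submodule.coe_prodEquivOfIsCompl', map_add]
      rfl

theorem conj_irred {V V' : Type u} [AddCommGroup V] [Module F V] [FiniteDimensional F V]
    [AddCommGroup V'] [Module F V'] [FiniteDimensional F V']
    (z : F) (hz : ∀ b : F, b ^ 2 ≠ z) (t : V →ₗ[F] V) (t' : V' →ₗ[F] V')
    (ht : t ^ 2 = z • 1) (ht' : t' ^ 2 = z • 1) (hVV' : finrank F V = finrank F V') :
    ∃ g : V ≃ₗ[F] V', ∀ v, g (t v) = t' (g v) :=
  conj_irred_aux z hz _ V V' t t' ht ht' rfl hVV'.symm

end conj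

end Cfsg.Agent.Lib.Helper9.H9GConj
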