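import Mathlib
import Cfsg.Agent.Lib.Helper9.NilType9

set_option autoImplicit false

/-! Linear maps having a basis in which their matrix has entries in a subfield. -/

namespace Cfsg.Agent.Lib.Helper9.H9GReal

open Module
open Cfsg.Agent.H9SemiInv

section real
variable {F : Type*} [Field F] {V : Type*} [AddCommGroup V] [Module F V]

/-- `t` has a (finite) basis in which its matrix has entries in `F₀`. -/
def RealOver (F₀ : Subfield F) (t : V →ₗ[F] V) : Prop :=
  ∃ (ι : Type) (_ : Fintype ι) (b : Basis ι F V), ∀ i j, b.repr (t (b j)) i ∈ F₀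

theorem realOver_of_isCompl (F₀ : Subfield F) (t : V →ₗ[F] V) (Z C : Submodule F V)
    (h : IsCompl Z C) (hZ : ∀ v ∈ Z, t v ∈ Z) (hC : ∀ v ∈ C, t v ∈ C)
    (hfZ : RealOver F₀ (t.restrict hZ)) (hfC : RealOver F₀ (t.restrict hC)) :
    RealOver F₀ t := by
  classical
  obtain ⟨ι₁, _, b₁, h₁⟩ := hfZ
  obtain ⟨ι₂, _, b₂, h₂⟩ := hfC
  let e := Submodule.prodEquivOfIsCompl Z C h
  refine ⟨ι₁ ⊕ ι₂, inferInstance, (b₁.prod b₂).map e, ?_⟩
  have hsymm1 : ∀ z : Z, e.symm (z : V) = (z, 0) := by
    intro z
    rw [LinearEquiv.symm_apply_eq]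
    simp [e]
  have hsymm2 : ∀ c : C, e.symm (c : V) = (0, c) := by
    intro c
    rw [LinearEquiv.symm_apply_eq]
    simp [e]
  intro i j
  rw [Basis.map_repr, LinearEquiv.trans_apply]
  rcases j with j | j
  · have h1 : t (((b₁.prod b₂).map e) (Sum.inl j)) = ((t.restrict hZ (b₁ j) : Z) : V) := by
      rw [Basis.map_apply]
      simp [e]
    rw [h1, hsymm1]
    rcases i with i | i
    · rw [Basis.prod_repr_inl]
      exact h₁ i j
    · rw [Basis.prod_repr_inr]
      simp
  · have h1 : t (((b₁.prod b₂).map e) (Sum.inr j)) = ((t.restrict hC (b₂ j) : C) : V) := by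
      rw [Basis.map_apply]
      simp [e]
    rw [h1, hsymm2]
    rcases i with i | i
    · rw [Basis.prod_repr_inl]
      simp
    · rw [Basis.prod_repr_inr]
      exact h₂ i j

theorem realOver_smul_one [FiniteDimensional F V] (F₀ : Subfield F) (c : F) (hc : c ∈ F₀) :
    RealOver F₀ (c • (1 : V →ₗ[F] V)) := by
  classical
  refine ⟨Fin (finrank F V), inferInstance, Module.finBasis F V, ?_⟩
  intro i j
  rw [LinearMap.smul_apply, Module.End.one_apply, map_smul, Basis.repr_self, Finsupp.smul_apply,
    Finsupp.single_apply]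
  split_ifs
  · rw [smul_eq_mul, mul_one]; exact hc
  · rw [smul_zero]; exact F₀.zero_mem

/-- Adding a scalar of `F₀`. -/
theorem RealOver.smul_one_add (F₀ : Subfield F) (t : V →ₗ[F] V) (h : RealOver F₀ t) (c : F)
    (hc : c ∈ F₀) : RealOver F₀ (c • (1 : V →ₗ[F] V) + t) := by
  classical
  obtain ⟨ι, _, b, hb⟩ := h
  refine ⟨ι, inferInstance, b, ?_⟩
  intro i j
  rw [LinearMap.add_apply, LinearMap.smul_apply, Module.End.one_apply, map_add, map_smul,
    Basis.repr_self, Finsupp.add_apply, Finsupp.smul_apply, Finsupp.single_apply]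
  apply F₀.add_mem _ (hb i j)
  split_ifs
  · rw [smul_eq_mul, mul_one]; exact hc
  · rw [smul_zero]; exact F₀.zero_mem

end real

section nil
universe u v
variable {F : Type v} [Field F]

/-- Nilpotent maps are realisable over every subfield (Jordan normal form). -/
theorem realOver_of_nilpotent_aux (F₀ : Subfield F) :
    ∀ (k : ℕ) (V : Type u) [AddCommGroup V] [Module F V] [FiniteDimensional F V]
      (N : V →ₗ[F] V), (∃ e, N ^ e = 0) → finrank F V = k → RealOver F₀ N := by
  intro k
  induction k using Nat.strong_induction_on with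
  | _ k ih =>
    intro V _ _ _ N hex hk
    classical
    by_cases h0 : k = 0
    · subst h0
      haveI : Subsingleton V := Module.finrank_zero_iff.mp hk
      have : N = (0 : F) • (1 : V →ₗ[F] V) := Subsingleton.elim _ _
      rw [this]
      exact realOver_smul_one F₀ 0 F₀.zero_mem
    · have hpos : 0 < finrank F V := by omega
      haveI : Nontrivial V := Module.finrank_pos_iff.mp hpos
      set e := Nat.find hex with he_def
      have hNe : N ^ e = 0 := Nat.find_spec hex
      have he1 : 1 ≤ e := by
        by_contra h0'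
        have h0'' : e = 0 := by omega
        rw [h0'', pow_zero] at hNe
        exact one_ne_zero hNe
      have hne : N ^ (e - 1) ≠ 0 := Nat.find_min hex (by omega)
      obtain ⟨Z, C, hZC, hZ, hC, hZe, v, b, hb⟩ :=
        Cfsg.Agent.H9Nil.exists_cyclic_compl_basis N e he1 hNe hne
      have hfr := Submodule.finrank_add_eq_of_isCompl hZC
      apply realOver_of_isCompl F₀ N Z C hZC hZ hC
      · refine ⟨Fin e, inferInstance, b, ?_⟩
        intro i j
        by_cases hj : (j : ℕ) + 1 < e
        · have h1 : N.restrict hZ (b j) = b ⟨(j : ℕ) + 1, hj⟩ := by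
            apply Subtype.ext
            show N ((b j : Z) : V) = ((b ⟨(j : ℕ) + 1, hj⟩ : Z) : V)
            rw [hb, hb]
            show N ((N ^ (j : ℕ)) v) = (N ^ ((j : ℕ) + 1)) v
            rw [pow_succ', Module.End.mul_apply]
          rw [h1, Basis.repr_self, Finsupp.single_apply]
          split_ifs
          · exact F₀.one_mem
          · exact F₀.zero_mem
        · have hj' : (j : ℕ) + 1 = e := by have := j.2; omega
          have h1 : N.restrict hZ (b j) = 0 := by
            apply Subtype.ext
            show N ((b j : Z) : V) = ((0 : Z) : V)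
            rw [hb, ← Module.End.mul_apply, ← pow_succ', hj', hNe, LinearMap.zero_apply]
            rfl
          rw [h1, map_zero]
          exact F₀.zero_mem
      · apply ih (finrank F C) (by omega) C (N.restrict hC) ?_ rfl
        refine ⟨e, ?_⟩
        rw [Module.End.pow_restrict e hC]
        apply LinearMap.ext
        intro w
        apply Subtype.ext
        show (N ^ e) (w : V) = ((0 : C) : V)
        rw [hNe]
        rfl

theorem realOver_of_nilpotent {V : Type u} [AddCommGroup V] [Module F V] [FiniteDimensional F V]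
    (F₀ : Subfield F) (N : V →ₗ[F] V) (e : ℕ) (hN : N ^ e = 0) : RealOver F₀ N :=
  realOver_of_nilpotent_aux F₀ _ V N ⟨e, hN⟩ rfl

end nil

end Cfsg.Agent.Lib.Helper9.H9GReal
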