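import Mathlib
import Cfsg.Prelude.Def_GeometricClasses

set_option autoImplicit false

namespace Cfsg.Agent.Lib.Helper9

open Matrix

/-- Existence of a transvection in `SL_n(F)` fixing the subspace `Z` pointwise and moving `u ∉ Z`
to `u + v`, for a prescribed `v ∈ Z`. -/
theorem exists_sl_transvection {F : Type*} [Field F] (n : ℕ) (Z : Submodule F (Fin n → F))
    (u v : Fin n → F) (hu : u ∉ Z) (hv : v ∈ Z) :
    ∃ (g : Matrix.GeneralLinearGroup (Fin n) F) (φ : (Fin n → F) →ₗ[F] F),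
      g ∈ Cfsg.Geo.specialLinear (Fin n) F ∧ (∀ z ∈ Z, φ z = 0) ∧ φ u = 1 ∧
      ∀ x, (g : Matrix (Fin n) (Fin n) F) *ᵥ x = x + φ x • v := by
  classical
  obtain ⟨f, hfu, hZf⟩ := Submodule.exists_le_ker_of_notMem hu
  set φ : (Fin n → F) →ₗ[F] F := (f u)⁻¹ • f with hφ
  have hφu : φ u = 1 := by
    simp [hφ, inv_mul_cancel₀ hfu]
  have hφZ : ∀ z ∈ Z, φ z = 0 := by
    intro z hz
    have : f z = 0 := hZf hz
    simp [hφ, this]
  set c : Fin n → F := fun i => φ (Pi.single i 1) with hc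
  have hφc : ∀ x, φ x = c ⬝ᵥ x := by
    intro x
    rw [LinearMap.pi_apply_eq_sum_univ φ x]
    simp only [dotProduct, hc, smul_eq_mul]
    refine Finset.sum_congr rfl (fun i _ => ?_)
    rw [mul_comm]
    congr 2
    ext j
    simp [Pi.single_apply, eq_comm]
  set M : Matrix (Fin n) (Fin n) F := 1 + vecMulVec v c with hM
  have hdet : M.det = 1 := by
    rw [hM, vecMulVec_eq Unit, det_one_add_replicateCol_mul_replicateRow, ← hφc, hφZ v hv, add_zero]
  have hMx : ∀ x, M *ᵥ x = x + φ x • v := by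
    intro x
    rw [hM, add_mulVec, one_mulVec, vecMulVec_mulVec, ← hφc, op_smul_eq_smul]
  refine ⟨Matrix.GeneralLinearGroup.mkOfDetNeZero M (by rw [hdet]; exact one_ne_zero), φ, ?_, hφZ, hφu, ?_⟩
  · rw [Cfsg.Geo.specialLinear, MonoidHom.mem_ker]
    apply Units.ext
    exact hdet
  · intro x
    exact hMx x

/-- A transvection `x ↦ x + φ x • v` with `φ W = 0`, `φ v = 0` stabilizes `W`. -/
theorem transvection_mem_subspaceStabilizer {F : Type*} [Field F] (n : ℕ)
    (W : Submodule F (Fin n → F)) (g : Matrix.GeneralLinearGroup (Fin n) F)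
    (φ : (Fin n → F) →ₗ[F] F) (v : Fin n → F)
    (hg : ∀ x, (g : Matrix (Fin n) (Fin n) F) *ᵥ x = x + φ x • v)
    (hW : ∀ z ∈ W, φ z = 0) (hv : φ v = 0) :
    g ∈ Cfsg.Geo.subspaceStabilizer W := by
  intro x
  show x ∈ W ↔ (g : Matrix (Fin n) (Fin n) F) *ᵥ x ∈ W
  rw [hg]
  constructor
  · intro hx
    rw [hW x hx, zero_smul, add_zero]
    exact hx
  · intro hx
    have h0 := hW _ hx
    rw [map_add, map_smul, hv, smul_zero, add_zero] at h0
    rw [h0, zero_smul, add_zero] at hx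
    exact hx

/-- An element of `SL` that does not stabilize `W`. -/
theorem exists_sl_not_mem_stabilizer {F : Type*} [Field F] (n : ℕ)
    (W : Submodule F (Fin n → F)) (w v : Fin n → F) (hw : w ∈ W) (hw0 : w ≠ 0) (hv : v ∉ W) :
    ∃ g ∈ Cfsg.Geo.specialLinear (Fin n) F, g ∉ Cfsg.Geo.subspaceStabilizer W := by
  have hwZ : w ∉ Submodule.span F {v} := by
    intro h
    rw [Submodule.mem_span_singleton] at h
    obtain ⟨c, rfl⟩ := h
    have hc : c ≠ 0 := by
      rintro rfl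
      exact hw0 (zero_smul _ _)
    apply hv
    have := W.smul_mem c⁻¹ hw
    rwa [smul_smul, inv_mul_cancel₀ hc, one_smul] at this
  obtain ⟨g, φ, hgSL, -, hφw, hgx⟩ := exists_sl_transvection n (Submodule.span F {v}) w v hwZ
    (Submodule.mem_span_singleton_self v)
  refine ⟨g, hgSL, fun hmem => ?_⟩
  have h1 : (g : Matrix (Fin n) (Fin n) F) *ᵥ w ∈ W := (hmem w).mp hw
  rw [hgx, hφw, one_smul] at h1
  exact hv ((W.add_mem_iff_right hw).mp h1)

/-- An element of `SL` stabilizing `W` but not `U`. -/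
theorem exists_sl_mem_stabilizer_not_mem {F : Type*} [Field F] (n : ℕ)
    (W U Z : Submodule F (Fin n → F)) (u v : Fin n → F) (hWZ : W ≤ Z) (hvZ : v ∈ Z) (huZ : u ∉ Z)
    (hu : u ∈ U) (hv : v ∉ U) :
    ∃ g ∈ Cfsg.Geo.subspaceStabilizer W ⊓ Cfsg.Geo.specialLinear (Fin n) F,
      g ∉ Cfsg.Geo.subspaceStabilizer U := by
  obtain ⟨g, φ, hgSL, hφZ, hφu, hgx⟩ := exists_sl_transvection n Z u v huZ hvZ
  refine ⟨g, ⟨transvection_mem_subspaceStabilizer n W g φ v hgx (fun z hz => hφZ z (hWZ hz))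
    (hφZ v hvZ), hgSL⟩, fun hmem => ?_⟩
  have h1 : (g : Matrix (Fin n) (Fin n) F) *ᵥ u ∈ U := (hmem u).mp hu
  rw [hgx, hφu, one_smul] at h1
  exact hv ((U.add_mem_iff_right hu).mp h1)

end Cfsg.Agent.Lib.Helper9
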