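import Mathlib
import Cfsg.Prelude.Def_GeometricClasses
import Cfsg.Agent.Lib.Helper9.Transvection
import Cfsg.Agent.Lib.Helper1.SLn

set_option autoImplicit false

namespace Cfsg.Agent.H9SLMax

open Matrix

variable {F : Type*} [Field F] {n : ℕ}

/-- `g` acts as the transvection `x ↦ x + φ x • u`. -/
def IsTransv (g : GL (Fin n) F) (φ : (Fin n → F) →ₗ[F] F) (u : Fin n → F) : Prop :=
  φ u = 0 ∧ ∀ x, (g : Matrix (Fin n) (Fin n) F) *ᵥ x = x + φ x • u

theorem inv_mulVec_mulVec (h : GL (Fin n) F) (x : Fin n → F) :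
    ((h⁻¹ : GL (Fin n) F) : Matrix (Fin n) (Fin n) F) *ᵥ ((h : Matrix (Fin n) (Fin n) F) *ᵥ x) = x := by
  rw [Matrix.mulVec_mulVec, ← Units.val_mul, inv_mul_cancel, Units.val_one, Matrix.one_mulVec]

theorem mulVec_inv_mulVec (h : GL (Fin n) F) (x : Fin n → F) :
    (h : Matrix (Fin n) (Fin n) F) *ᵥ (((h⁻¹ : GL (Fin n) F) : Matrix (Fin n) (Fin n) F) *ᵥ x) = x := by
  rw [Matrix.mulVec_mulVec, ← Units.val_mul, mul_inv_cancel, Units.val_one, Matrix.one_mulVec]

theorem gl_ext {g h : GL (Fin n) F}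
    (H : ∀ x, (g : Matrix (Fin n) (Fin n) F) *ᵥ x = (h : Matrix (Fin n) (Fin n) F) *ᵥ x) : g = h := by
  apply Units.ext
  apply Matrix.toLin'.injective
  apply LinearMap.ext
  intro x
  rw [Matrix.toLin'_apply, Matrix.toLin'_apply, H]

theorem IsTransv.eq_one {g : GL (Fin n) F} {φ : (Fin n → F) →ₗ[F] F}
    (h : IsTransv g φ 0) : g = 1 := by
  apply gl_ext
  intro x
  rw [h.2 x, smul_zero, add_zero, Units.val_one, Matrix.one_mulVec]

theorem IsTransv.mem_specialLinear {g : GL (Fin n) F} {φ : (Fin n → F) →ₗ[F] F} {u : Fin n → F}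
    (h : IsTransv g φ u) : g ∈ Cfsg.Geo.specialLinear (Fin n) F := by
  classical
  set c : Fin n → F := fun i => φ (Pi.single i 1) with hc
  have hφc : ∀ x, φ x = c ⬝ᵥ x := by
    intro x
    rw [LinearMap.pi_apply_eq_sum_univ φ x]
    simp only [dotProduct, hc, smul_eq_mul]
    refine Finset.sum_congr rfl (fun i _ => ?_)
    rw [mul_comm]
    congr 2
    ext j
    simp [Pi.single_apply, eq_comm]
  have hM : (g : Matrix (Fin n) (Fin n) F) = 1 + vecMulVec u c := by
    apply Matrix.toLin'.injective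
    apply LinearMap.ext
    intro x
    rw [Matrix.toLin'_apply, Matrix.toLin'_apply, h.2 x, add_mulVec, one_mulVec, vecMulVec_mulVec,
      ← hφc, op_smul_eq_smul]
  rw [Cfsg.Geo.specialLinear, MonoidHom.mem_ker]
  apply Units.ext
  show (g : Matrix (Fin n) (Fin n) F).det = 1
  rw [hM, vecMulVec_eq Unit, det_one_add_replicateCol_mul_replicateRow, ← hφc, h.1, add_zero]

/-- A transvection with direction in `W` stabilizes `W`. -/
theorem IsTransv.mem_stabilizer {g : GL (Fin n) F} {φ : (Fin n → F) →ₗ[F] F} {u : Fin n → F}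
    (h : IsTransv g φ u) (W : Submodule F (Fin n → F)) (hu : u ∈ W) :
    g ∈ Cfsg.Geo.subspaceStabilizer W := by
  intro x
  show x ∈ W ↔ (g : Matrix (Fin n) (Fin n) F) *ᵥ x ∈ W
  rw [h.2 x]
  exact (W.add_mem_iff_left (W.smul_mem _ hu)).symm

/-- The set of directions all of whose transvections lie in `M`. -/
def dirSet (M : Subgroup (GL (Fin n) F)) : Set (Fin n → F) :=
  {u | ∀ (g : GL (Fin n) F) (φ : (Fin n → F) →ₗ[F] F), IsTransv g φ u → g ∈ M}

theorem dirSet_zero (M : Subgroup (GL (Fin n) F)) : (0 : Fin n → F) ∈ dirSet M := by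
  intro g φ h
  rw [h.eq_one]
  exact M.one_mem

theorem dirSet_smul (M : Subgroup (GL (Fin n) F)) (c : F) {u : Fin n → F} (hu : u ∈ dirSet M) :
    c • u ∈ dirSet M := by
  by_cases hc : c = 0
  · rw [hc, zero_smul]
    exact dirSet_zero M
  intro g φ h
  apply hu g (c • φ)
  refine ⟨?_, fun x => ?_⟩
  · have := h.1
    rw [map_smul, smul_eq_mul] at this
    rw [LinearMap.smul_apply, smul_eq_mul]
    exact this
  · rw [h.2 x, LinearMap.smul_apply, smul_eq_mul, smul_smul, mul_comm]

theorem dirSet_mulVec (M : Subgroup (GL (Fin n) F)) {h : GL (Fin n) F} (hh : h ∈ M)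
    {u : Fin n → F} (hu : u ∈ dirSet M) :
    (h : Matrix (Fin n) (Fin n) F) *ᵥ u ∈ dirSet M := by
  intro g φ hg
  have h1 : h⁻¹ * g * h ∈ M := by
    apply hu (h⁻¹ * g * h) (φ.comp (Matrix.toLin' (h : Matrix (Fin n) (Fin n) F)))
    refine ⟨?_, fun x => ?_⟩
    · rw [LinearMap.comp_apply, Matrix.toLin'_apply]
      exact hg.1
    · rw [Units.val_mul, Units.val_mul, ← Matrix.mulVec_mulVec, ← Matrix.mulVec_mulVec, hg.2,
        Matrix.mulVec_add, Matrix.mulVec_smul, inv_mulVec_mulVec, inv_mulVec_mulVec,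
        LinearMap.comp_apply, Matrix.toLin'_apply]
  have h2 : g = h * (h⁻¹ * g * h) * h⁻¹ := by group
  rw [h2]
  exact M.mul_mem (M.mul_mem hh h1) (M.inv_mem hh)

theorem dirSet_add (M : Subgroup (GL (Fin n) F)) {a b : Fin n → F} (ha : a ∈ dirSet M)
    (hb : b ∈ dirSet M) : a + b ∈ dirSet M := by
  by_cases hab : a ∈ Submodule.span F {b}
  · rw [Submodule.mem_span_singleton] at hab
    obtain ⟨c, rfl⟩ := hab
    have : c • b + b = (c + 1) • b := by rw [add_smul, one_smul]
    rw [this]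
    exact dirSet_smul M _ hb
  · obtain ⟨t, ψ, -, hψZ, hψa, htx⟩ :=
      Cfsg.Agent.Lib.Helper9.exists_sl_transvection n (Submodule.span F {b}) a b hab
        (Submodule.mem_span_singleton_self b)
    have htM : t ∈ M := hb t ψ ⟨hψZ b (Submodule.mem_span_singleton_self b), htx⟩
    have := dirSet_mulVec M htM ha
    rw [htx, hψa, one_smul] at this
    exact this

/-- The directions form a submodule. -/
def dirSub (M : Subgroup (GL (Fin n) F)) : Submodule F (Fin n → F) where
  carrier := dirSet M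
  add_mem' := fun ha hb => dirSet_add M ha hb
  zero_mem' := dirSet_zero M
  smul_mem' := fun c _ hu => dirSet_smul M c hu

theorem mem_dirSub (M : Subgroup (GL (Fin n) F)) (u : Fin n → F) :
    u ∈ dirSub M ↔ ∀ (g : GL (Fin n) F) (φ : (Fin n → F) →ₗ[F] F), IsTransv g φ u → g ∈ M :=
  Iff.rfl

/-- A subgroup of `GL` all of whose transvection directions are allowed contains `SL`. -/
theorem specialLinear_le_of_dirSub_eq_top (M : Subgroup (GL (Fin n) F)) (h : dirSub M = ⊤) :
    Cfsg.Geo.specialLinear (Fin n) F ≤ M := by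
  classical
  rcases Nat.lt_or_ge n 2 with hn | hn
  · -- `n ≤ 1`: SL is trivial
    intro g hg
    rw [Cfsg.Geo.specialLinear, MonoidHom.mem_ker] at hg
    have hdet : (g : Matrix (Fin n) (Fin n) F).det = 1 := by
      have := congrArg Units.val hg
      simpa using this
    have : g = 1 := by
      apply Units.ext
      interval_cases n
      · exact Subsingleton.elim _ _
      · ext i j
        have hi : i = 0 := Subsingleton.elim _ _
        have hj : j = 0 := Subsingleton.elim _ _
        subst hi hj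
        rw [Matrix.det_fin_one] at hdet
        simp [hdet]
    rw [this]
    exact M.one_mem
  have : Nontrivial (Fin n) := Fin.nontrivial_iff_two_le.2 hn
  set M' : Subgroup (Matrix.SpecialLinearGroup (Fin n) F) :=
    M.comap (Matrix.SpecialLinearGroup.toGL) with hM'
  have hM'top : M' = ⊤ := by
    apply Cfsg.Agent.Lib.Helper1.eq_top_of_transvection_mem
    intro i j hij c
    rw [hM', Subgroup.mem_comap]
    have hu : (Pi.single i 1 : Fin n → F) ∈ dirSub M := by rw [h]; trivial
    apply hu _ (c • LinearMap.proj j)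
    refine ⟨?_, fun x => ?_⟩
    · simp [hij]
    · show (Matrix.SpecialLinearGroup.transvection hij c : Matrix (Fin n) (Fin n) F) *ᵥ x = _
      rw [Matrix.SpecialLinearGroup.transvection_coe, Matrix.add_mulVec, Matrix.one_mulVec]
      congr 1
      ext k
      by_cases hik : i = k
      · subst hik
        simp [Matrix.mulVec, dotProduct, Matrix.single_apply, Pi.single_apply]
      · simp [Matrix.mulVec, dotProduct, Matrix.single_apply, Pi.single_apply, hik]
  intro g hg
  rw [Cfsg.Geo.specialLinear, MonoidHom.mem_ker] at hg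
  have hdet : (g : Matrix (Fin n) (Fin n) F).det = 1 := by
    have := congrArg Units.val hg
    simpa using this
  obtain ⟨gs, hgs⟩ : ∃ gs : Matrix.SpecialLinearGroup (Fin n) F,
      Matrix.SpecialLinearGroup.toGL gs = g := ⟨⟨g, hdet⟩, Units.ext rfl⟩
  have hmem : gs ∈ M' := by rw [hM'top]; trivial
  rw [← hgs]
  exact hmem

/-- Key theorem: an overgroup in `SL` of a subspace stabilizer that does not stabilize `W` is `SL`. -/
theorem eq_specialLinear (W : Submodule F (Fin n → F)) (M : Subgroup (GL (Fin n) F))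
    (hPM : Cfsg.Geo.subspaceStabilizer W ⊓ Cfsg.Geo.specialLinear (Fin n) F ≤ M)
    (hMS : M ≤ Cfsg.Geo.specialLinear (Fin n) F)
    (hne : ¬ M ≤ Cfsg.Geo.subspaceStabilizer W) : M = Cfsg.Geo.specialLinear (Fin n) F := by
  refine le_antisymm hMS ?_
  apply specialLinear_le_of_dirSub_eq_top
  -- `W ≤ dirSub M`
  have hWC : W ≤ dirSub M := by
    intro u hu g φ hg
    exact hPM ⟨hg.mem_stabilizer W hu, hg.mem_specialLinear⟩
  -- an element of `dirSub M` outside `W`
  obtain ⟨a, haC, haW⟩ : ∃ a, a ∈ dirSub M ∧ a ∉ W := by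
    rw [SetLike.not_le_iff_exists] at hne
    obtain ⟨h, hhM, hhW⟩ := hne
    have : ¬ ∀ v, v ∈ W ↔ (h : Matrix (Fin n) (Fin n) F) *ᵥ v ∈ W := hhW
    push Not at this
    obtain ⟨v, hv⟩ := this
    rcases hv with ⟨hv1, hv2⟩ | ⟨hv1, hv2⟩
    · exact ⟨_, dirSet_mulVec M hhM (hWC hv1), hv2⟩
    · refine ⟨v, ?_, hv1⟩
      have := dirSet_mulVec M (M.inv_mem hhM) (hWC hv2)
      rwa [inv_mulVec_mulVec] at this
  rw [eq_top_iff]
  intro x _
  by_contra hx
  -- `a ∉ W ⊔ span {x}`
  have haZ : a ∉ W ⊔ Submodule.span F {x} := by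
    intro h
    rw [Submodule.mem_sup] at h
    obtain ⟨w, hw, y, hy, hwy⟩ := h
    rw [Submodule.mem_span_singleton] at hy
    obtain ⟨c, rfl⟩ := hy
    by_cases hc : c = 0
    · rw [hc, zero_smul, add_zero] at hwy
      exact haW (hwy ▸ hw)
    · apply hx
      have h1 : c • x = a - w := by rw [← hwy]; abel
      have h2 : c • x ∈ dirSub M := by
        rw [h1]
        exact (dirSub M).sub_mem haC (hWC hw)
      have := (dirSub M).smul_mem c⁻¹ h2
      rwa [smul_smul, inv_mul_cancel₀ hc, one_smul] at this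
  obtain ⟨g, φ, hgSL, hφZ, hφa, hgx⟩ :=
    Cfsg.Agent.Lib.Helper9.exists_sl_transvection n (W ⊔ Submodule.span F {x}) a x haZ
      (Submodule.mem_sup_right (Submodule.mem_span_singleton_self x))
  have hgM : g ∈ M := by
    apply hPM
    refine ⟨?_, hgSL⟩
    exact Cfsg.Agent.Lib.Helper9.transvection_mem_subspaceStabilizer n W g φ x hgx
      (fun z hz => hφZ z (Submodule.mem_sup_left hz))
      (hφZ x (Submodule.mem_sup_right (Submodule.mem_span_singleton_self x)))
  have := dirSet_mulVec M hgM haC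
  rw [hgx, hφa, one_smul] at this
  exact hx (((dirSub M).add_mem_iff_right haC).mp this)

end Cfsg.Agent.H9SLMax
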