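import Mathlib
import Cfsg.Agent.Lib.Helper2.UT13

set_option autoImplicit false

/-!
Overgroups of subgroups of the special unitary group, via unitary transvection directions.
Abstract setting: a Hermitian form `H` (with respect to `σ`) on a vector space `V`.
-/

namespace Cfsg.Agent.H9SUMax

open Module Cfsg.Agent.Lib.Helper2 Cfsg.Agent.Lib.Helper2.UT Cfsg.Agent.Lib.Helper2.IsomDecomp
  Cfsg.Agent.Lib.Helper2.HermDecomp Cfsg.Agent.Lib.Helper5.PSLCoset

universe u v

variable {F : Type v} [Field F] {σ : F ≃+* F} {V : Type u} [AddCommGroup V] [Module F V]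
  {H : V → V → F}

/-- the isotropic directions all of whose unitary transvections lie in `M` -/
def dirSet (h : IsHerm σ H) (M : Subgroup (V ≃ₗ[F] V)) : Set V :=
  {u | ∃ hu : H u u = 0, ∀ c : F, σ c = -c → tv h u c hu ∈ M}

theorem dirSet_iso (h : IsHerm σ H) (M : Subgroup (V ≃ₗ[F] V)) {u : V} (hu : u ∈ dirSet h M) :
    H u u = 0 := hu.1

theorem mem_dirSet_of (h : IsHerm σ H) (M : Subgroup (V ≃ₗ[F] V)) {u : V} (hu : H u u = 0)
    (hM : ∀ c : F, σ c = -c → tv h u c hu ∈ M) : u ∈ dirSet h M := ⟨hu, hM⟩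

theorem tv_smul (h : IsHerm σ H) (a : F) (u : V) (c : F) (hu : H u u = 0)
    (hau : H (a • u) (a • u) = 0) :
    tv h (a • u) c hau = tv h u (c * (a * σ a)) hu := by
  apply LinearEquiv.ext
  intro x
  rw [tv_apply, tv_apply, h.smul_right, smul_smul]
  congr 2
  ring

theorem dirSet_smul (hσ2 : ∀ a : F, σ (σ a) = a) (h : IsHerm σ H) (M : Subgroup (V ≃ₗ[F] V))
    (a : F) {u : V} (hu : u ∈ dirSet h M) : a • u ∈ dirSet h M := by
  obtain ⟨hu0, hM⟩ := hu
  have hau : H (a • u) (a • u) = 0 := by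
    rw [h.smul_left, h.smul_right, hu0, mul_zero, mul_zero]
  refine ⟨hau, ?_⟩
  intro c hc
  rw [tv_smul h a u c hu0 hau]
  apply hM
  rw [map_mul, map_mul, hσ2, hc]
  ring

theorem dirSet_map (h : IsHerm σ H) (M : Subgroup (V ≃ₗ[F] V)) {g : V ≃ₗ[F] V} (hgM : g ∈ M)
    (hg : g ∈ isom H) {u : V} (hu : u ∈ dirSet h M) : g u ∈ dirSet h M := by
  obtain ⟨hu0, hM⟩ := hu
  have hgu : H (g u) (g u) = 0 := by rw [hg, hu0]
  refine ⟨hgu, ?_⟩
  intro c hc
  rw [← conj_tv h hg u c hu0]
  exact M.mul_mem (M.mul_mem hgM (hM c hc)) (M.inv_mem hgM)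

theorem zero_mem_dirSet (h : IsHerm σ H) (M : Subgroup (V ≃ₗ[F] V)) : (0 : V) ∈ dirSet h M := by
  refine ⟨h.zero_left 0, ?_⟩
  intro c _
  have : tv h (0 : V) c (h.zero_left 0) = 1 := by
    apply LinearEquiv.ext
    intro x
    rw [tv_apply, smul_zero, add_zero]
    rfl
  rw [this]
  exact M.one_mem

/-- the transvections with directions in `dirSet` preserve `dirSet` -/
theorem dirSet_tv (h : IsHerm σ H) (M : Subgroup (V ≃ₗ[F] V)) (hMG : M ≤ isom H) {z y : V}
    (hz : z ∈ dirSet h M) (hy : y ∈ dirSet h M) (c : F) (hc : σ c = -c) :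
    y + (c * H y z) • z ∈ dirSet h M := by
  have h1 := dirSet_map h M (hz.2 c hc) (hMG (hz.2 c hc)) hy
  rwa [tv_apply] at h1

/-- pulling back along a transvection with direction in `dirSet` -/
theorem dirSet_of_tv (h : IsHerm σ H) (M : Subgroup (V ≃ₗ[F] V)) (hMG : M ≤ isom H) {z y : V}
    (hz : z ∈ dirSet h M) (c : F) (hc : σ c = -c)
    (hy : y + (c * H y z) • z ∈ dirSet h M) : y ∈ dirSet h M := by
  have hM : (tv h z c hz.1)⁻¹ ∈ M := M.inv_mem (hz.2 c hc)
  have h1 := dirSet_map h M hM (hMG hM) hy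
  rw [← tv_apply h z c hz.1 y] at h1
  have h2 : (tv h z c hz.1)⁻¹ (tv h z c hz.1 y) = y := by
    rw [← LinearEquiv.mul_apply, inv_mul_cancel]
    rfl
  rwa [h2] at h1

/-- if every isotropic vector is a direction, then `M` contains the special unitary group -/
theorem le_of_dirSet [Finite F] [FiniteDimensional F V] (hσ : orderOf σ = 2) (h : IsHerm σ H)
    (hnd : ∀ v, (∀ w, H v w = 0) → v = 0) (hdim : 4 ≤ finrank F V)
    (M : Subgroup (V ≃ₗ[F] V)) (hall : ∀ u, H u u = 0 → u ∈ dirSet h M)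
    {g : V ≃ₗ[F] V} (hg : g ∈ isom H) (hdet : LinearEquiv.det g = 1) : g ∈ M := by
  have hT : T h ≤ M := by
    unfold T
    rw [Subgroup.closure_le]
    rintro t ⟨v, c, hv, hc, rfl⟩
    exact (hall v hv).2 c hc
  apply hT
  exact mem_T_main hσ (finrank F V) (by omega) V H h hnd rfl (by intro h3; omega) g hg hdet

/-- a linear automorphism mapping a finite-dimensional subspace into itself stabilises it -/
theorem mem_iff_of_forall [FiniteDimensional F V] (g : V ≃ₗ[F] V) (W : Submodule F V)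
    (hg : ∀ v ∈ W, g v ∈ W) (v : V) : v ∈ W ↔ g v ∈ W := by
  constructor
  · exact hg v
  · intro hv
    have hle : W.map (g : V →ₗ[F] V) ≤ W := by
      rintro _ ⟨w, hw, rfl⟩
      exact hg w hw
    have heq : W.map (g : V →ₗ[F] V) = W :=
      Submodule.eq_of_le_of_finrank_eq hle (LinearEquiv.finrank_map_eq g W)
    rw [← heq] at hv
    obtain ⟨w, hw, hwv⟩ := hv
    have : w = v := g.injective hwv
    rwa [← this]

/-- the Eichler (Siegel) transformation `x ↦ x + H(x,w) y - (H(x,y) + r H(x,w)) w` -/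
noncomputable def eich (h : IsHerm σ H) (w y : V) (r : F) (hwy : H w y = 0)
    (hyw : H y w = 0) (hww : H w w = 0) : V ≃ₗ[F] V :=
  LinearEquiv.transvection (f := -(h.toDual y)) (v := w)
      (by rw [LinearMap.neg_apply, IsHerm.toDual_apply, hwy, neg_zero]) *
    LinearEquiv.transvection (f := h.toDual w) (v := y + σ r • w)
      (by rw [IsHerm.toDual_apply, h.add_left, h.smul_left, hyw, hww, mul_zero, add_zero])

theorem eich_apply (h : IsHerm σ H) (w y : V) (r : F) (hwy : H w y = 0)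
    (hyw : H y w = 0) (hww : H w w = 0) (hr : r + σ r = H y y) (x : V) :
    eich h w y r hwy hyw hww x = x + H x w • y - (H x y + r * H x w) • w := by
  unfold eich
  rw [LinearEquiv.mul_apply, LinearEquiv.transvection.apply, LinearEquiv.transvection.apply,
    LinearMap.neg_apply, IsHerm.toDual_apply, IsHerm.toDual_apply, h.add_left, h.smul_left,
    h.add_left, h.smul_left, hwy, ← hr]
  module

theorem det_eich (h : IsHerm σ H) (w y : V) (r : F) (hwy : H w y = 0)
    (hyw : H y w = 0) (hww : H w w = 0) : LinearEquiv.det (eich h w y r hwy hyw hww) = 1 := by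
  unfold eich
  rw [map_mul, LinearEquiv.transvection.det_eq_one, LinearEquiv.transvection.det_eq_one, one_mul]

theorem eich_mem_isom (h : IsHerm σ H) (w y : V) (r : F) (hwy : H w y = 0)
    (hyw : H y w = 0) (hww : H w w = 0) (hr : r + σ r = H y y) :
    eich h w y r hwy hyw hww ∈ isom H := by
  intro x x'
  rw [eich_apply h w y r hwy hyw hww hr, eich_apply h w y r hwy hyw hww hr]
  simp only [h.add_left, h.add_right, h.sub_left, h.sub_right, h.smul_left, h.smul_right, hww,
    hwy, hyw, map_add, map_mul]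
  rw [h.symm x' w, h.symm x' y]
  linear_combination (-(H x w * σ (H x' w))) * hr

end Cfsg.Agent.H9SUMax
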