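import Mathlib
import Cfsg.Agent.Lib.Helper9.SUMax1

set_option autoImplicit false

/-!
Maximality of the stabiliser of a totally isotropic subspace in the special unitary group
(abstract version).
-/

namespace Cfsg.Agent.H9SUMax

open Module Cfsg.Agent.Lib.Helper2 Cfsg.Agent.Lib.Helper2.UT Cfsg.Agent.Lib.Helper2.IsomDecomp
  Cfsg.Agent.Lib.Helper2.HermDecomp Cfsg.Agent.Lib.Helper2.HermFrames
  Cfsg.Agent.Lib.Helper5.PSLCoset

universe u v

variable {F : Type v} [Field F] {σ : F ≃+* F} {V : Type u} [AddCommGroup V] [Module F V]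
  {H : V → V → F}

section TS

variable (hσ : orderOf σ = 2) (h : IsHerm σ H)
  (W : Submodule F V) (hW : ∀ u ∈ W, ∀ v ∈ W, H u v = 0)
  (M : Subgroup (V ≃ₗ[F] V)) (hMG : M ≤ isom H)
  (hPM : ∀ g : V ≃ₗ[F] V, g ∈ isom H → LinearEquiv.det g = 1 → (∀ v ∈ W, g v ∈ W) → g ∈ M)

include hPM in
/-- isotropic vectors orthogonal to `W` are directions -/
theorem ts_perp_mem {u : V} (hu : H u u = 0) (huW : ∀ w ∈ W, H w u = 0) : u ∈ dirSet h M := by
  refine ⟨hu, ?_⟩
  intro c hc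
  apply hPM _ (tv_mem_isom h u c hu hc) (det_tv h u c hu)
  intro v hv
  rw [tv_apply, huW v hv, mul_zero, zero_smul, add_zero]
  exact hv

include hW hPM in
theorem ts_mem_of_mem {u : V} (hu : u ∈ W) : u ∈ dirSet h M :=
  ts_perp_mem h W M hPM (hW u hu u hu) (fun w hw => hW w hw u hu)

include hσ hW hMG hPM in
/-- Step 3 -/
theorem ts_mem_of_one {a w₁ : V} (ha : a ∈ dirSet h M) (hw₁ : w₁ ∈ W) (haw : H a w₁ = 1)
    {y : V} (hy : H y y = 0) (hyw : H y w₁ = 1) : y ∈ dirSet h M := by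
  have hσ2 := WittHerm.sigma_sigma hσ
  have ha0 : H a a = 0 := ha.1
  have hww : H w₁ w₁ = 0 := hW w₁ hw₁ w₁ hw₁
  have hxw : H (y - a) w₁ = 0 := by rw [h.sub_left, haw, hyw, sub_self]
  have hwx : H w₁ (y - a) = 0 := by rw [h.symm (y - a) w₁, hxw, map_zero]
  have hr : -(H a y) + σ (-(H a y)) = H (y - a) (y - a) := by
    rw [h.sub_left, h.sub_right, h.sub_right, hy, ha0, map_neg, ← h.symm a y]
    ring
  have hE : eich h w₁ (y - a) (-(H a y)) hwx hxw hww ∈ M := by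
    apply hPM _ (eich_mem_isom h _ _ _ hwx hxw hww hr) (det_eich h _ _ _ hwx hxw hww)
    intro v hv
    rw [eich_apply h _ _ _ hwx hxw hww hr, hW v hv w₁ hw₁, zero_smul, add_zero, mul_zero,
      add_zero]
    exact W.sub_mem hv (W.smul_mem _ hw₁)
  have h1 := dirSet_map h M hE (hMG hE) ha
  rw [eich_apply h _ _ _ hwx hxw hww hr, haw, one_smul, mul_one, h.sub_right, ha0, sub_zero,
    add_neg_cancel, zero_smul, sub_zero, add_sub_cancel] at h1
  exact h1

include hσ hW hMG hPM in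
/-- Step 3b -/
theorem ts_mem_of_ne {a w₁ : V} (ha : a ∈ dirSet h M) (hw₁ : w₁ ∈ W) (haw : H a w₁ = 1)
    {y : V} (hy : H y y = 0) (hyw : H y w₁ ≠ 0) : y ∈ dirSet h M := by
  have hσ2 := WittHerm.sigma_sigma hσ
  have h1 : (H y w₁)⁻¹ • y ∈ dirSet h M := by
    apply ts_mem_of_one hσ h W hW M hMG hPM ha hw₁ haw
    · rw [h.smul_left, h.smul_right, hy, mul_zero, mul_zero]
    · rw [h.smul_left, inv_mul_cancel₀ hyw]
  have h2 := dirSet_smul hσ2 h M (H y w₁) h1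
  rwa [smul_smul, mul_inv_cancel₀ hyw, one_smul] at h2

include hσ hW hMG hPM in
/-- Step 4 -/
theorem ts_mem_of_eq_zero (hnd : ∀ v, (∀ w, H v w = 0) → v = 0)
    {a w₁ : V} (ha : a ∈ dirSet h M) (hw₁ : w₁ ∈ W)
    (haw : H a w₁ = 1) {y : V} (hy : H y y = 0) (hyw : H y w₁ = 0) : y ∈ dirSet h M := by
  have hσ2 := WittHerm.sigma_sigma hσ
  have ha0 : H a a = 0 := ha.1
  have hww : H w₁ w₁ = 0 := hW w₁ hw₁ w₁ hw₁
  have hwa : H w₁ a = 1 := by rw [h.symm a w₁, haw, map_one]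
  have hwy : H w₁ y = 0 := by rw [h.symm y w₁, hyw, map_zero]
  by_cases hy0 : y = 0
  · rw [hy0]; exact zero_mem_dirSet h M
  -- a direction `z` with `H z w₁ = 1` and `H y z ≠ 0`
  obtain ⟨z, hzz, hzw, hyz⟩ : ∃ z, H z z = 0 ∧ H z w₁ = 1 ∧ H y z ≠ 0 := by
    by_cases hya : H y a = 0
    · -- some `x₁ ⟂ w₁` with `H y x₁ ≠ 0`
      obtain ⟨x₁, hx₁w, hyx₁⟩ : ∃ x₁, H x₁ w₁ = 0 ∧ H y x₁ ≠ 0 := by
        by_contra hcon
        push Not at hcon
        apply hy0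
        apply hnd
        intro v
        have h1 := hcon (v - H v w₁ • a) (by rw [h.sub_left, h.smul_left, haw, mul_one, sub_self])
        rw [h.sub_right, h.smul_right, hya, mul_zero, sub_zero] at h1
        exact h1
      have hfix : σ (-(H (a + x₁) (a + x₁))) = -(H (a + x₁) (a + x₁)) := by
        rw [map_neg, WittHerm.self_fixed h]
      obtain ⟨s, hs⟩ := WittHerm.exists_trace hσ _ hfix
      have hw₁x₁ : H w₁ x₁ = 0 := by rw [h.symm x₁ w₁, hx₁w, map_zero]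
      refine ⟨a + x₁ + s • w₁, ?_, ?_, ?_⟩
      · have e1 : H (a + x₁ + s • w₁) (a + x₁ + s • w₁) =
            H (a + x₁) (a + x₁) + (s + σ s) := by
          simp only [h.add_left, h.add_right, h.smul_left, h.smul_right, hww, haw, hwa, hx₁w,
            hw₁x₁]
          ring
        rw [e1, hs]
        ring
      · rw [h.add_left, h.add_left, h.smul_left, haw, hx₁w, hww, mul_zero, add_zero, add_zero]
      · rw [h.add_right, h.add_right, h.smul_right, hya, hyw, mul_zero, add_zero, zero_add]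
        exact hyx₁
    · exact ⟨a, ha0, haw, hya⟩
  have hz : z ∈ dirSet h M :=
    ts_mem_of_one hσ h W hW M hMG hPM ha hw₁ haw hzz hzw
  obtain ⟨c, hc0, hc⟩ := exists_skew hσ
  apply dirSet_of_tv h M hMG hz c hc
  apply ts_mem_of_ne hσ h W hW M hMG hPM ha hw₁ haw
  · rw [← tv_apply h z c hzz y, tv_mem_isom h z c hzz hc, hy]
  · rw [h.add_left, h.smul_left, hyw, hzw, zero_add, mul_one]
    exact mul_ne_zero hc0 hyz

end TS

section TSmain

variable [Finite F] [FiniteDimensional F V]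

/-- **Maximality of the stabiliser of a totally isotropic subspace** (abstract version): a
subgroup `M` of the isometry group containing all determinant-one isometries stabilising the
nonzero totally isotropic subspace `W`, and some element not stabilising `W`, contains every
determinant-one isometry. -/
theorem ts_main (hσ : orderOf σ = 2) (h : IsHerm σ H)
    (hnd : ∀ v, (∀ w, H v w = 0) → v = 0) (hdim : 4 ≤ finrank F V)
    (W : Submodule F V) (hW : ∀ u ∈ W, ∀ v ∈ W, H u v = 0)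
    (M : Subgroup (V ≃ₗ[F] V)) (hMG : M ≤ isom H)
    (hPM : ∀ g : V ≃ₗ[F] V, g ∈ isom H → LinearEquiv.det g = 1 → (∀ v ∈ W, g v ∈ W) → g ∈ M)
    {g₀ : V ≃ₗ[F] V} (hg₀ : g₀ ∈ M) {w₀ : V} (hw₀ : w₀ ∈ W) (hgw : g₀ w₀ ∉ W)
    {g : V ≃ₗ[F] V} (hg : g ∈ isom H) (hdet : LinearEquiv.det g = 1) : g ∈ M := by
  have hσ2 := WittHerm.sigma_sigma hσ
  have hg₀i : g₀ ∈ isom H := hMG hg₀
  -- Step 2: a direction not orthogonal to `W`
  obtain ⟨a, ha, w, hw, haw⟩ : ∃ a ∈ dirSet h M, ∃ w ∈ W, H a w ≠ 0 := by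
    have hy : g₀ w₀ ∈ dirSet h M := dirSet_map h M hg₀ hg₀i (ts_mem_of_mem h W hW M hPM hw₀)
    by_cases hyW : ∃ w ∈ W, H (g₀ w₀) w ≠ 0
    · obtain ⟨w, hw, hne⟩ := hyW
      exact ⟨_, hy, w, hw, hne⟩
    · push Not at hyW
      -- `g₀ w₀ ∉ W = W^⊥⊥`
      have h1 : g₀ w₀ ∉ orthoCompl h (orthoCompl h W) := by
        rw [orthoCompl_orthoCompl hσ h hnd W]
        exact hgw
      rw [mem_orthoCompl] at h1
      push Not at h1
      obtain ⟨x₀, hx₀, hx₀y⟩ := h1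
      rw [mem_orthoCompl] at hx₀
      have hyx₀ : H (g₀ w₀) x₀ ≠ 0 := by
        rw [h.symm x₀ (g₀ w₀)]
        exact (map_ne_zero_iff _ σ.injective).2 hx₀y
      have hyy : H (g₀ w₀) (g₀ w₀) = 0 := hy.1
      have hfix : σ (-(H x₀ x₀)) = -(H x₀ x₀) := by rw [map_neg, WittHerm.self_fixed h]
      obtain ⟨s, hs⟩ := WittHerm.exists_trace hσ _ hfix
      have hx : (x₀ + (s / H (g₀ w₀) x₀) • g₀ w₀) ∈ dirSet h M := by
        apply ts_perp_mem h W M hPM
        · have e1 : H (x₀ + (s / H (g₀ w₀) x₀) • g₀ w₀) (x₀ + (s / H (g₀ w₀) x₀) • g₀ w₀) =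
              H x₀ x₀ + (s / H (g₀ w₀) x₀ * H (g₀ w₀) x₀ +
                σ (s / H (g₀ w₀) x₀ * H (g₀ w₀) x₀)) := by
            simp only [h.add_left, h.add_right, h.smul_left, h.smul_right, hyy, map_mul]
            rw [← h.symm (g₀ w₀) x₀]
            ring
          rw [e1, div_mul_cancel₀ _ hyx₀, hs]
          ring
        · intro w hw
          rw [h.add_right, h.smul_right, hx₀ w hw, h.symm (g₀ w₀) w, hyW w hw, map_zero,
            mul_zero, add_zero]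
      have hinv : g₀⁻¹ ∈ M := M.inv_mem hg₀
      refine ⟨_, dirSet_map h M hinv (hMG hinv) hx, w₀, hw₀, ?_⟩
      have e2 : H (g₀⁻¹ (x₀ + (s / H (g₀ w₀) x₀) • g₀ w₀)) w₀ =
          H (x₀ + (s / H (g₀ w₀) x₀) • g₀ w₀) (g₀ w₀) := by
        rw [← hg₀i (g₀⁻¹ _) w₀, ← LinearEquiv.mul_apply, mul_inv_cancel]
        rfl
      rw [e2, h.add_left, h.smul_left, hyy, mul_zero, add_zero]
      exact hx₀y
  -- normalise
  obtain ⟨w₁, hw₁, haw₁⟩ : ∃ w₁ ∈ W, H a w₁ = 1 := by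
    refine ⟨(σ (H a w))⁻¹ • w, W.smul_mem _ hw, ?_⟩
    rw [h.smul_right, map_inv₀, hσ2, inv_mul_cancel₀ haw]
  apply le_of_dirSet hσ h hnd hdim M _ hg hdet
  intro y hy
  by_cases hyw : H y w₁ = 0
  · exact ts_mem_of_eq_zero hσ h W hW M hMG hPM hnd ha hw₁ haw₁ hy hyw
  · exact ts_mem_of_ne hσ h W hW M hMG hPM ha hw₁ haw₁ hy hyw

end TSmain

end Cfsg.Agent.H9SUMax
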