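import Mathlib
import Cfsg.Prelude
import Cfsg.Agent.Lib.Helper9.SUMax2

set_option autoImplicit false

/-!
Transfer between subgroups of `GL (Fin n) F` and groups of linear automorphisms, for maximality
statements in `GU n F q ⊓ specialLinear`.
-/

namespace Cfsg.Agent.H9SUMax

open Module Cfsg.Agent.Lib.Helper2 Cfsg.Agent.Lib.Helper2.UT Cfsg.Agent.Lib.Helper2.IsomDecomp
  Cfsg.Agent.Lib.Helper2.HermDecomp Cfsg.Agent.Lib.Helper2.HermFrames
  Cfsg.Agent.Lib.Helper5.PSLCoset Cfsg.Agent.Lib.Helper2.GUIsom Matrix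

variable {F : Type*} [Field F] {n q : ℕ}

theorem det_glLin (g : GL (Fin n) F) :
    ((LinearEquiv.det (glLin n F g) : Fˣ) : F) = (g : Matrix (Fin n) (Fin n) F).det := by
  rw [LinearEquiv.coe_det]
  have h1 : ((glLin n F g : (Fin n → F) ≃ₗ[F] (Fin n → F)) : (Fin n → F) →ₗ[F] (Fin n → F)) =
      Matrix.toLin' (g : Matrix (Fin n) (Fin n) F) := by
    apply LinearMap.ext
    intro x
    rw [Matrix.toLin'_apply]
    rfl
  rw [h1, LinearMap.det_toLin']

theorem mem_specialLinear_iff (g : GL (Fin n) F) :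
    g ∈ Cfsg.Geo.specialLinear (Fin n) F ↔ LinearEquiv.det (glLin n F g) = 1 := by
  unfold Cfsg.Geo.specialLinear
  rw [MonoidHom.mem_ker, Units.ext_iff, Units.ext_iff, det_glLin, Units.val_one]
  rfl

theorem mem_GU_iff (g : GL (Fin n) F) :
    g ∈ Cfsg.GU n F q ↔ glLin n F g ∈ isom (Cfsg.hermForm n F q) := Iff.rfl

theorem mem_subspaceStabilizer_iff (W : Submodule F (Fin n → F)) (g : GL (Fin n) F) :
    g ∈ Cfsg.Geo.subspaceStabilizer W ↔ ∀ v, v ∈ W ↔ glLin n F g v ∈ W := Iff.rfl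

/-- the transfer principle -/
theorem isMaximalIn_of (S : Subgroup (GL (Fin n) F))
    (P : ((Fin n → F) ≃ₗ[F] (Fin n → F)) → Prop)
    (hS : ∀ g, g ∈ S ↔ P (glLin n F g))
    (hex : ∃ g, g ∈ isom (Cfsg.hermForm n F q) ∧ LinearEquiv.det g = 1 ∧ ¬ P g)
    (key : ∀ M' : Subgroup ((Fin n → F) ≃ₗ[F] (Fin n → F)), M' ≤ isom (Cfsg.hermForm n F q) →
      (∀ g, g ∈ isom (Cfsg.hermForm n F q) → LinearEquiv.det g = 1 → P g → g ∈ M') →
      ∀ g₀ ∈ M', ¬ P g₀ → ∀ g, g ∈ isom (Cfsg.hermForm n F q) → LinearEquiv.det g = 1 → g ∈ M') :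
    Cfsg.Geo.IsMaximalIn (Cfsg.GU n F q ⊓ Cfsg.Geo.specialLinear (Fin n) F)
      (S ⊓ (Cfsg.GU n F q ⊓ Cfsg.Geo.specialLinear (Fin n) F)) := by
  constructor
  · apply lt_of_le_of_ne inf_le_right
    intro heq
    obtain ⟨g, hg, hdet, hP⟩ := hex
    have h1 : (glLin n F).symm g ∈ Cfsg.GU n F q ⊓ Cfsg.Geo.specialLinear (Fin n) F := by
      refine Subgroup.mem_inf.2 ⟨?_, ?_⟩
      · rw [mem_GU_iff, MulEquiv.apply_symm_apply]; exact hg
      · rw [mem_specialLinear_iff, MulEquiv.apply_symm_apply]; exact hdet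
    rw [← heq] at h1
    apply hP
    have := (hS _).1 h1.1
    rwa [MulEquiv.apply_symm_apply] at this
  · intro M hHM hMK
    by_cases hMS : M ≤ S
    · left
      exact le_antisymm (le_inf hMS hMK) hHM
    · right
      rw [SetLike.not_le_iff_exists] at hMS
      obtain ⟨g₀, hg₀M, hg₀S⟩ := hMS
      apply le_antisymm hMK
      have hM'G : M.map (glLin n F).toMonoidHom ≤ isom (Cfsg.hermForm n F q) := by
        rintro _ ⟨m, hm, rfl⟩
        exact (hMK hm).1
      have hPM : ∀ g, g ∈ isom (Cfsg.hermForm n F q) → LinearEquiv.det g = 1 → P g →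
          g ∈ M.map (glLin n F).toMonoidHom := by
        intro g hg hdet hP
        refine ⟨(glLin n F).symm g,
          hHM (Subgroup.mem_inf.2 ⟨?_, Subgroup.mem_inf.2 ⟨?_, ?_⟩⟩), ?_⟩
        · rw [hS, MulEquiv.apply_symm_apply]; exact hP
        · rw [mem_GU_iff, MulEquiv.apply_symm_apply]; exact hg
        · rw [mem_specialLinear_iff, MulEquiv.apply_symm_apply]; exact hdet
        · exact (glLin n F).apply_symm_apply g
      have hg₀ : glLin n F g₀ ∈ M.map (glLin n F).toMonoidHom := ⟨g₀, hg₀M, rfl⟩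
      have hg₀P : ¬ P (glLin n F g₀) := fun hP => hg₀S ((hS g₀).2 hP)
      intro k hk
      have h1 := key _ hM'G hPM _ hg₀ hg₀P (glLin n F k) hk.1 ((mem_specialLinear_iff k).1 hk.2)
      obtain ⟨m, hm, hmk⟩ := h1
      have : m = k := (glLin n F).injective hmk
      rwa [← this]

end Cfsg.Agent.H9SUMax
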