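import Mathlib
import Cfsg.Agent.Lib.Helper9.SUMax1

set_option autoImplicit false

/-!
A rational structure `V₀` (over the fixed field of `σ`) on a Hermitian space on which a scalar
multiple of the form is alternating: the "symplectic subfield subgroup" situation.
-/

namespace Cfsg.Agent.H9USub

open Module Cfsg.Agent.Lib.Helper2 Cfsg.Agent.Lib.Helper2.UT Cfsg.Agent.Lib.Helper2.IsomDecomp
  Cfsg.Agent.Lib.Helper2.HermDecomp Cfsg.Agent.Lib.Helper5.PSLCoset Cfsg.Agent.H9SUMax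

universe u v

variable {F : Type v} [Field F] {σ : F ≃+* F} {V : Type u} [AddCommGroup V] [Module F V]
  {H : V → V → F} {ζ θ : F} {V₀ : AddSubgroup V}

/-- `V₀` is a form of `V` over the fixed field of `σ` on which `ζ H` is alternating with fixed
values -/
structure RatStr (σ : F ≃+* F) (H : V → V → F) (ζ θ : F) (V₀ : AddSubgroup V) : Prop where
  smul_mem : ∀ a : F, σ a = a → ∀ x ∈ V₀, a • x ∈ V₀
  decomp : ∀ x : V, ∃ a ∈ V₀, ∃ b ∈ V₀, x = a + θ • b
  rat : ∀ x ∈ V₀, ∀ y ∈ V₀, σ (ζ * H x y) = ζ * H x y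
  alt : ∀ x ∈ V₀, H x x = 0
  hζ : σ ζ = -ζ
  hζ0 : ζ ≠ 0
  hθ : σ θ ≠ θ

namespace RatStr

variable (R : RatStr σ H ζ θ V₀) (h : IsHerm σ H)
include R h

theorem skew {x y : V} (hx : x ∈ V₀) (hy : y ∈ V₀) : H y x = -H x y := by
  have h1 := R.alt (x + y) (V₀.add_mem hx hy)
  rw [h.add_left, h.add_right, h.add_right, R.alt x hx, R.alt y hy] at h1
  linear_combination h1

theorem nondeg0 (hnd : ∀ v, (∀ w, H v w = 0) → v = 0) {x : V} (hx : ∀ y ∈ V₀, H x y = 0) :
    x = 0 := by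
  apply hnd
  intro w
  obtain ⟨a, ha, b, hb, rfl⟩ := R.decomp w
  rw [h.add_right, h.smul_right, hx a ha, hx b hb, mul_zero, add_zero]

omit h in
/-- decomposition of scalars -/
theorem field_decomp (hσ2 : ∀ a : F, σ (σ a) = a) (l : F) :
    ∃ a b : F, σ a = a ∧ σ b = b ∧ l = a + θ * b := by
  have hθ' : θ - σ θ ≠ 0 := sub_ne_zero.2 (Ne.symm R.hθ)
  have hθ'' : σ θ - θ ≠ 0 := sub_ne_zero.2 R.hθ
  refine ⟨l - θ * ((l - σ l) / (θ - σ θ)), (l - σ l) / (θ - σ θ), ?_, ?_, by ring⟩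
  · rw [map_sub, map_mul, map_div₀, map_sub, map_sub, hσ2, hσ2]
    field_simp
    ring
  · rw [map_div₀, map_sub, map_sub, hσ2, hσ2]
    field_simp
    ring

theorem uniq (hσ2 : ∀ a : F, σ (σ a) = a) (hnd : ∀ v, (∀ w, H v w = 0) → v = 0) {a b : V}
    (ha : a ∈ V₀) (hb : b ∈ V₀) (hab : a + θ • b = 0) : a = 0 ∧ b = 0 := by
  have hθ' : θ - σ θ ≠ 0 := sub_ne_zero.2 (Ne.symm R.hθ)
  have key : ∀ z ∈ V₀, H a z = 0 ∧ H b z = 0 := by
    intro z hz
    have h1 : H (a + θ • b) z = 0 := by rw [hab, h.zero_left]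
    rw [h.add_left, h.smul_left] at h1
    have h2 : ζ * H a z + θ * (ζ * H b z) = 0 := by linear_combination ζ * h1
    have h3 := congrArg σ h2
    rw [map_add, map_mul σ θ, R.rat a ha z hz, R.rat b hb z hz, map_zero] at h3
    have h4 : (θ - σ θ) * (ζ * H b z) = 0 := by linear_combination h2 - h3
    have h5 : H b z = 0 := by
      rcases mul_eq_zero.1 h4 with h0 | h0
      · exact absurd h0 hθ'
      · rcases mul_eq_zero.1 h0 with h0 | h0
        · exact absurd h0 R.hζ0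
        · exact h0
    refine ⟨?_, h5⟩
    rw [h5, mul_zero, mul_zero, add_zero] at h2
    rcases mul_eq_zero.1 h2 with h0 | h0
    · exact absurd h0 R.hζ0
    · exact h0
  exact ⟨R.nondeg0 h hnd (fun z hz => (key z hz).1), R.nondeg0 h hnd (fun z hz => (key z hz).2)⟩

/-- isotropy of `a + θ b` -/
theorem iso_iff {a b : V} (ha : a ∈ V₀) (hb : b ∈ V₀) :
    H (a + θ • b) (a + θ • b) = 0 ↔ H a b = 0 := by
  have hθ'' : σ θ - θ ≠ 0 := sub_ne_zero.2 R.hθ
  have e : H (a + θ • b) (a + θ • b) = (σ θ - θ) * H a b := by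
    rw [h.add_left, h.add_right, h.add_right, h.smul_left, h.smul_left, h.smul_right,
      h.smul_right, R.alt a ha, R.alt b hb, R.skew h ha hb]
    ring
  rw [e]
  constructor
  · intro h0
    rcases mul_eq_zero.1 h0 with h1 | h1
    · exact absurd h1 hθ''
    · exact h1
  · intro h0
    rw [h0, mul_zero]

/-- the multiplier making `ζ H x y` a fixed scalar -/
theorem fix_inv {x y : V} (hx : x ∈ V₀) (hy : y ∈ V₀) : σ ((ζ * H x y)⁻¹) = (ζ * H x y)⁻¹ := by
  rw [map_inv₀, R.rat x hx y hy]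

omit h in
theorem sigma_mul_zeta {c : F} (hc : σ c = c) : σ (c * ζ) = -(c * ζ) := by
  rw [map_mul, hc, R.hζ, mul_neg]

/-- rational transvections preserve `V₀` -/
theorem tv_mem {w : V} (hw : w ∈ V₀) {c : F} (hc : σ c = c) {x : V} (hx : x ∈ V₀) :
    tv h w (c * ζ) (R.alt w hw) x ∈ V₀ := by
  rw [tv_apply]
  apply V₀.add_mem hx
  apply R.smul_mem _ _ w hw
  have e : c * ζ * H x w = c * (ζ * H x w) := by ring
  rw [e, map_mul, hc, R.rat x hx w hw]

end RatStr

end Cfsg.Agent.H9USub
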