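import Mathlib
import Cfsg.Agent.Lib.Helper9.USub1

set_option autoImplicit false

/-!
Transitivity of the rational transvections and the closure theorem for `dirSet`.
-/

namespace Cfsg.Agent.H9USub

open Module Cfsg.Agent.Lib.Helper2 Cfsg.Agent.Lib.Helper2.UT Cfsg.Agent.Lib.Helper2.IsomDecomp
  Cfsg.Agent.Lib.Helper2.HermDecomp Cfsg.Agent.Lib.Helper5.PSLCoset Cfsg.Agent.H9SUMax

universe u v

variable {F : Type v} [Field F] {σ : F ≃+* F} {V : Type u} [AddCommGroup V] [Module F V]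
  {H : V → V → F} {ζ θ : F} {V₀ : AddSubgroup V}

/-- elements of `M` preserving `V₀` -/
def Good (V₀ : AddSubgroup V) (M : Subgroup (V ≃ₗ[F] V)) (g : V ≃ₗ[F] V) : Prop :=
  g ∈ M ∧ ∀ z ∈ V₀, g z ∈ V₀

theorem Good.mul {M : Subgroup (V ≃ₗ[F] V)} {g g' : V ≃ₗ[F] V} (hg : Good V₀ M g)
    (hg' : Good V₀ M g') : Good V₀ M (g * g') :=
  ⟨M.mul_mem hg.1 hg'.1, fun z hz => by
    rw [LinearEquiv.mul_apply]; exact hg.2 _ (hg'.2 z hz)⟩

namespace RatStr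

variable (R : RatStr σ H ζ θ V₀) (h : IsHerm σ H) (hσ2 : ∀ a : F, σ (σ a) = a)
  (hnd : ∀ v, (∀ w, H v w = 0) → v = 0) (M : Subgroup (V ≃ₗ[F] V))
  (hV₀ : ∀ x ∈ V₀, x ∈ dirSet h M)
include R h hV₀

/-- one rational transvection mapping `x` to `y` -/
theorem step {x y : V} (hx : x ∈ V₀) (hy : y ∈ V₀) (hxy : H x y ≠ 0) :
    ∃ g, Good V₀ M g ∧ g x = y ∧ ∀ a, H a x = 0 → H a y = 0 → g a = a := by
  have hw : y - x ∈ V₀ := V₀.sub_mem hy hx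
  obtain ⟨c, hc⟩ : ∃ c, c = (ζ * H x y)⁻¹ := ⟨_, rfl⟩
  have hcσ : σ c = c := by rw [hc]; exact R.fix_inv h hx hy
  have hne : ζ * H x y ≠ 0 := mul_ne_zero R.hζ0 hxy
  refine ⟨tv h (y - x) (c * ζ) (R.alt _ hw), ⟨?_, ?_⟩, ?_, ?_⟩
  · exact (hV₀ _ hw).2 (c * ζ) (R.sigma_mul_zeta hcσ)
  · intro z hz
    exact R.tv_mem h hw hcσ hz
  · rw [tv_apply, h.sub_right, R.alt x hx, sub_zero]
    have e : c * ζ * H x y = 1 := by
      rw [hc, mul_assoc, inv_mul_cancel₀ hne]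
    rw [e, one_smul]
    abel
  · intro a hax hay
    rw [tv_apply, h.sub_right, hax, hay, sub_zero, mul_zero, zero_smul, add_zero]

include hnd in
theorem exists_ne {x : V} (hx : x ∈ V₀) (hx0 : x ≠ 0) : ∃ z ∈ V₀, H x z ≠ 0 := by
  by_contra hcon
  push Not at hcon
  exact hx0 (R.nondeg0 h hnd hcon)

include hnd in
theorem exists_both {x y : V} (hx : x ∈ V₀) (hy : y ∈ V₀) (hx0 : x ≠ 0) (hy0 : y ≠ 0) :
    ∃ z ∈ V₀, H x z ≠ 0 ∧ H y z ≠ 0 := by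
  obtain ⟨z₁, hz₁, h1⟩ := R.exists_ne h hnd M hV₀ hx hx0
  obtain ⟨z₂, hz₂, h2⟩ := R.exists_ne h hnd M hV₀ hy hy0
  by_cases h3 : H y z₁ = 0
  · by_cases h4 : H x z₂ = 0
    · refine ⟨z₁ + z₂, V₀.add_mem hz₁ hz₂, ?_, ?_⟩
      · rw [h.add_right, h4, add_zero]; exact h1
      · rw [h.add_right, h3, zero_add]; exact h2
    · exact ⟨z₂, hz₂, h4, h2⟩
  · exact ⟨z₁, hz₁, h1, h3⟩

include hnd in
/-- the rational transvections are transitive on non-zero vectors of `V₀` -/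
theorem exists_map {x y : V} (hx : x ∈ V₀) (hy : y ∈ V₀) (hx0 : x ≠ 0) (hy0 : y ≠ 0) :
    ∃ g, Good V₀ M g ∧ g x = y := by
  by_cases hxy : H x y = 0
  · obtain ⟨z, hz, h1, h2⟩ := R.exists_both h hnd M hV₀ hx hy hx0 hy0
    obtain ⟨g₁, hg₁, e₁, -⟩ := R.step h M hV₀ hx hz h1
    have h3 : H z y ≠ 0 := by
      rw [R.skew h hy hz, neg_ne_zero]; exact h2
    obtain ⟨g₂, hg₂, e₂, -⟩ := R.step h M hV₀ hz hy h3
    exact ⟨g₂ * g₁, hg₂.mul hg₁, by rw [LinearEquiv.mul_apply, e₁, e₂]⟩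
  · obtain ⟨g, hg, e, -⟩ := R.step h M hV₀ hx hy hxy
    exact ⟨g, hg, e⟩

include hnd in
theorem exists_perp_ne {a b : V} (ha : a ∈ V₀) (hb : b ∈ V₀)
    (hba : ∀ c : F, σ c = c → b ≠ c • a) : ∃ z ∈ V₀, H a z = 0 ∧ H b z ≠ 0 := by
  by_contra hcon
  push Not at hcon
  by_cases ha0 : a = 0
  · apply hba 0 (map_zero σ)
    rw [zero_smul]
    apply R.nondeg0 h hnd
    intro z hz
    apply hcon z hz
    rw [ha0, h.zero_left]
  · obtain ⟨z₀, hz₀, h0⟩ := R.exists_ne h hnd M hV₀ ha ha0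
    have hne : ζ * H a z₀ ≠ 0 := mul_ne_zero R.hζ0 h0
    have hζ0 : ζ ≠ 0 := R.hζ0
    obtain ⟨κ, hκ⟩ : ∃ κ, κ = (ζ * H b z₀) * (ζ * H a z₀)⁻¹ := ⟨_, rfl⟩
    have hκσ : σ κ = κ := by
      rw [hκ, map_mul, R.rat b hb z₀ hz₀, R.fix_inv h ha hz₀]
    apply hba κ hκσ
    have h1 : b - κ • a = 0 := by
      apply R.nondeg0 h hnd
      intro z hz
      obtain ⟨c, hc⟩ : ∃ c, c = (ζ * H a z) * (ζ * H a z₀)⁻¹ := ⟨_, rfl⟩
      have hcσ : σ c = c := by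
        rw [hc, map_mul, R.rat a ha z hz, R.fix_inv h ha hz₀]
      have hz' : z - c • z₀ ∈ V₀ := V₀.sub_mem hz (R.smul_mem c hcσ z₀ hz₀)
      have h2 : H a (z - c • z₀) = 0 := by
        rw [h.sub_right, h.smul_right, hcσ, hc]
        field_simp
        ring
      have h3 := hcon _ hz' h2
      rw [h.sub_right, h.smul_right, hcσ] at h3
      rw [h.sub_left, h.smul_left, hκ]
      rw [hc] at h3
      field_simp at h3 ⊢
      linear_combination h3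
    exact sub_eq_zero.1 h1

include hnd in
theorem exists_perp_both {a b b' : V} (ha : a ∈ V₀) (hb : b ∈ V₀) (hb' : b' ∈ V₀)
    (hba : ∀ c : F, σ c = c → b ≠ c • a) (hba' : ∀ c : F, σ c = c → b' ≠ c • a) :
    ∃ z ∈ V₀, H a z = 0 ∧ H b z ≠ 0 ∧ H b' z ≠ 0 := by
  obtain ⟨z₁, hz₁, ha1, h1⟩ := R.exists_perp_ne h hnd M hV₀ ha hb hba
  obtain ⟨z₂, hz₂, ha2, h2⟩ := R.exists_perp_ne h hnd M hV₀ ha hb' hba'
  by_cases h3 : H b' z₁ = 0
  · by_cases h4 : H b z₂ = 0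
    · refine ⟨z₁ + z₂, V₀.add_mem hz₁ hz₂, ?_, ?_, ?_⟩
      · rw [h.add_right, ha1, ha2, add_zero]
      · rw [h.add_right, h4, add_zero]; exact h1
      · rw [h.add_right, h3, zero_add]; exact h2
    · exact ⟨z₂, hz₂, ha2, h4, h2⟩
  · exact ⟨z₁, hz₁, ha1, h1, h3⟩

include hnd in
/-- the rational transvections fixing `a` are transitive on the vectors orthogonal to `a`
outside the line of `a` -/
theorem exists_map_fix {a b b' : V} (ha : a ∈ V₀) (hb : b ∈ V₀) (hb' : b' ∈ V₀)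
    (hab : H a b = 0) (hab' : H a b' = 0)
    (hba : ∀ c : F, σ c = c → b ≠ c • a) (hba' : ∀ c : F, σ c = c → b' ≠ c • a) :
    ∃ g, Good V₀ M g ∧ g a = a ∧ g b = b' := by
  by_cases hbb : H b b' = 0
  · obtain ⟨z, hz, haz, h1, h2⟩ := R.exists_perp_both h hnd M hV₀ ha hb hb' hba hba'
    obtain ⟨g₁, hg₁, e₁, f₁⟩ := R.step h M hV₀ hb hz h1
    have h3 : H z b' ≠ 0 := by
      rw [R.skew h hb' hz, neg_ne_zero]; exact h2
    obtain ⟨g₂, hg₂, e₂, f₂⟩ := R.step h M hV₀ hz hb' h3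
    refine ⟨g₂ * g₁, hg₂.mul hg₁, ?_, ?_⟩
    · rw [LinearEquiv.mul_apply, f₁ a hab haz, f₂ a haz hab']
    · rw [LinearEquiv.mul_apply, e₁, e₂]
  · obtain ⟨g, hg, e, f⟩ := R.step h M hV₀ hb hb' hbb
    exact ⟨g, hg, f a hab hab', e⟩

include hσ2 hnd in
/-- **closure**: if `dirSet` contains `V₀` and one isotropic vector outside `F · V₀`, it contains
every isotropic vector -/
theorem dirSet_all (hMG : M ≤ isom H) {v : V} (hv : v ∈ dirSet h M)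
    (hvn : ∀ (l : F), ∀ w ∈ V₀, v ≠ l • w) : ∀ u, H u u = 0 → u ∈ dirSet h M := by
  obtain ⟨v₁, hv₁, v₂, hv₂, rfl⟩ := R.decomp v
  have hv12 : H v₁ v₂ = 0 := (R.iso_iff h hv₁ hv₂).1 hv.1
  have hv₁0 : v₁ ≠ 0 := by
    intro h0
    apply hvn θ v₂ hv₂
    rw [h0, zero_add]
  have hv₂n : ∀ c : F, σ c = c → v₂ ≠ c • v₁ := by
    intro c hc h0
    apply hvn (1 + θ * c) v₁ hv₁
    rw [h0, smul_smul, add_smul, one_smul]
  intro u hu
  obtain ⟨a, ha, b, hb, rfl⟩ := R.decomp u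
  have hab : H a b = 0 := (R.iso_iff h ha hb).1 hu
  by_cases ha0 : a = 0
  · rw [ha0, zero_add]
    exact dirSet_smul hσ2 h M θ (hV₀ b hb)
  by_cases hbn : ∃ c : F, σ c = c ∧ b = c • a
  · obtain ⟨c, hc, rfl⟩ := hbn
    have e : a + θ • c • a = (1 + θ * c) • a := by
      rw [smul_smul, add_smul, one_smul]
    rw [e]
    exact dirSet_smul hσ2 h M _ (hV₀ a ha)
  · push Not at hbn
    obtain ⟨g₁, hg₁, e₁⟩ := R.exists_map h hnd M hV₀ hv₁ ha hv₁0 ha0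
    have hg₁i := hMG hg₁.1
    have hb₁ : g₁ v₂ ∈ V₀ := hg₁.2 v₂ hv₂
    have hab₁ : H a (g₁ v₂) = 0 := by rw [← e₁, hg₁i, hv12]
    have hb₁n : ∀ c : F, σ c = c → g₁ v₂ ≠ c • a := by
      intro c hc h0
      apply hv₂n c hc
      apply g₁.injective
      rw [h0, map_smul, e₁]
    obtain ⟨g₂, hg₂, e₂, f₂⟩ := R.exists_map_fix h hnd M hV₀ ha hb₁ hb hab₁ hab hb₁n hbn
    have hgg := hg₂.mul hg₁
    have h1 := dirSet_map h M hgg.1 (hMG hgg.1) hv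
    rw [map_add, map_smul, LinearEquiv.mul_apply, LinearEquiv.mul_apply, e₁, e₂, f₂] at h1
    exact h1

end RatStr

end Cfsg.Agent.H9USub
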