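import Mathlib
import Cfsg.Agent.Lib.Helper9.USub2

set_option autoImplicit false

/-!
Existence of isotropic vectors outside `F · V₀` and the abstract maximality statement.
-/

namespace Cfsg.Agent.H9USub

open Module Cfsg.Agent.Lib.Helper2 Cfsg.Agent.Lib.Helper2.UT Cfsg.Agent.Lib.Helper2.IsomDecomp
  Cfsg.Agent.Lib.Helper2.HermDecomp Cfsg.Agent.Lib.Helper5.PSLCoset Cfsg.Agent.H9SUMax

universe u v

variable {F : Type v} [Field F] {σ : F ≃+* F} {V : Type u} [AddCommGroup V] [Module F V]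
  {H : V → V → F} {ζ θ : F} {V₀ : AddSubgroup V}

namespace RatStr

variable (R : RatStr σ H ζ θ V₀) (h : IsHerm σ H) (hσ2 : ∀ a : F, σ (σ a) = a)
  (hnd : ∀ v, (∀ w, H v w = 0) → v = 0)
include R h hσ2 hnd

/-- `a + θ b` is not a scalar multiple of a rational vector when `a, b` are independent -/
theorem not_smul_of_indep {a b : V} (ha : a ∈ V₀) (hb : b ∈ V₀) (ha0 : a ≠ 0)
    (hba : ∀ c : F, σ c = c → b ≠ c • a) : ∀ l : F, ∀ w ∈ V₀, a + θ • b ≠ l • w := by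
  intro l w hw heq
  obtain ⟨l₁, l₂, h1, h2, rfl⟩ := R.field_decomp hσ2 l
  have e : (a - l₁ • w) + θ • (b - l₂ • w) = 0 := by
    rw [smul_sub, smul_smul]
    have : a + θ • b - (l₁ • w + (θ * l₂) • w) = 0 := by
      rw [heq, add_smul, sub_self]
    rw [← this]
    abel
  obtain ⟨e1, e2⟩ := R.uniq h hσ2 hnd (V₀.sub_mem ha (R.smul_mem l₁ h1 w hw))
    (V₀.sub_mem hb (R.smul_mem l₂ h2 w hw)) e
  have e1' : a = l₁ • w := sub_eq_zero.1 e1
  have e2' : b = l₂ • w := sub_eq_zero.1 e2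
  have hl₁ : l₁ ≠ 0 := by
    rintro rfl
    rw [zero_smul] at e1'
    exact ha0 e1'
  apply hba (l₂ * l₁⁻¹) (by rw [map_mul, map_inv₀, h1, h2])
  rw [e2', e1', smul_smul, mul_assoc, inv_mul_cancel₀ hl₁, mul_one]

/-- an isotropic vector outside `F · V₀` -/
theorem exists_rank_two [FiniteDimensional F V] (hdim : 3 ≤ finrank F V) :
    ∃ a ∈ V₀, a ≠ 0 ∧ ∃ x : V, H x x = 0 ∧ x ≠ 0 ∧ ∀ l : F, ∀ w ∈ V₀, x ≠ l • w := by
  -- a non-zero rational vector
  obtain ⟨a, ha, ha0⟩ : ∃ a ∈ V₀, a ≠ 0 := by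
    by_contra hcon
    push Not at hcon
    have hV : ∀ x : V, x = 0 := by
      intro x
      obtain ⟨a, ha, b, hb, rfl⟩ := R.decomp x
      rw [hcon a ha, hcon b hb, smul_zero, add_zero]
    have : finrank F V = 0 := by
      haveI : Subsingleton V := ⟨fun x y => by rw [hV x, hV y]⟩
      exact finrank_zero_of_subsingleton
    omega
  obtain ⟨b₁, hb₁, hab₁⟩ : ∃ b₁ ∈ V₀, H a b₁ ≠ 0 := by
    by_contra hcon
    push Not at hcon
    exact ha0 (R.nondeg0 h hnd hcon)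
  obtain ⟨b₂, hb₂, hb₂n⟩ : ∃ b₂ ∈ V₀, b₂ ∉ Submodule.span F {a, b₁} := by
    by_contra hcon
    push Not at hcon
    have htop : Submodule.span F {a, b₁} = ⊤ := by
      rw [eq_top_iff]
      intro x _
      obtain ⟨c, hc, d, hd, rfl⟩ := R.decomp x
      exact Submodule.add_mem _ (hcon c hc) (Submodule.smul_mem _ _ (hcon d hd))
    have h1 : finrank F ↥(Submodule.span F {a, b₁}) ≤ 2 := by
      classical
      have h2 := finrank_span_le_card (R := F) ({a, b₁} : Set V)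
      have h3 : ({a, b₁} : Set V).toFinset.card ≤ 2 := by
        have : ({a, b₁} : Set V).toFinset = {a, b₁} := by ext; simp
        rw [this]
        exact Finset.card_le_two
      exact h2.trans h3
    rw [htop, finrank_top] at h1
    omega
  have hne : ζ * H a b₁ ≠ 0 := mul_ne_zero R.hζ0 hab₁
  have hζ0 : ζ ≠ 0 := R.hζ0
  obtain ⟨κ, hκ⟩ : ∃ κ, κ = (ζ * H a b₂) * (ζ * H a b₁)⁻¹ := ⟨_, rfl⟩
  have hκσ : σ κ = κ := by
    rw [hκ, map_mul, R.rat a ha b₂ hb₂, R.fix_inv h ha hb₁]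
  obtain ⟨b, hbdef⟩ : ∃ b, b = b₂ - κ • b₁ := ⟨_, rfl⟩
  have hb : b ∈ V₀ := by
    rw [hbdef]; exact V₀.sub_mem hb₂ (R.smul_mem κ hκσ b₁ hb₁)
  have hab : H a b = 0 := by
    rw [hbdef, h.sub_right, h.smul_right, hκσ, hκ]
    field_simp
    ring
  have hba : ∀ c : F, σ c = c → b ≠ c • a := by
    intro c _ h0
    apply hb₂n
    have e : b₂ = c • a + κ • b₁ := by
      rw [← h0, hbdef]; abel
    rw [e]
    exact Submodule.add_mem _ (Submodule.smul_mem _ _ (Submodule.subset_span (by simp)))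
      (Submodule.smul_mem _ _ (Submodule.subset_span (by simp)))
  refine ⟨a, ha, ha0, a + θ • b, (R.iso_iff h ha hb).2 hab, ?_,
    R.not_smul_of_indep h hσ2 hnd ha hb ha0 hba⟩
  intro h0
  have := R.not_smul_of_indep h hσ2 hnd ha hb ha0 hba 0 a ha
  rw [zero_smul] at this
  exact this h0

/-- a unitary transformation of determinant one not preserving `F · V₀` -/
theorem exists_not_pres [Finite F] [FiniteDimensional F V] (hσ : orderOf σ = 2) (hdim : 3 ≤ finrank F V) :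
    ∃ g, g ∈ isom H ∧ LinearEquiv.det g = 1 ∧
      ∃ a ∈ V₀, ∀ l : F, ∀ w ∈ V₀, g a ≠ l • w := by
  obtain ⟨a, ha, ha0, x, hxx, hx0, hx⟩ := R.exists_rank_two h hσ2 hnd hdim
  obtain ⟨t, ht, hta⟩ := exists_T_map_iso hσ h hnd hdim (R.alt a ha) hxx ha0 hx0
  exact ⟨t, T_le_isom h ht, det_of_mem_T h ht, a, ha, by rw [hta]; exact hx⟩

/-- **abstract maximality**: a subgroup of the unitary group containing all determinant-one
isometries preserving `V₀`, and an element moving a rational vector outside `F · V₀`, contains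
the special unitary group -/
theorem sub_main [Finite F] [FiniteDimensional F V] (hσ : orderOf σ = 2)
    (hdim : 4 ≤ finrank F V) (M : Subgroup (V ≃ₗ[F] V)) (hMG : M ≤ isom H)
    (hPM : ∀ g, g ∈ isom H → LinearEquiv.det g = 1 → (∀ x ∈ V₀, g x ∈ V₀) → g ∈ M)
    {g₀ : V ≃ₗ[F] V} (hg₀ : g₀ ∈ M) {x₀ : V} (hx₀ : x₀ ∈ V₀)
    (hgx : ∀ l : F, ∀ w ∈ V₀, g₀ x₀ ≠ l • w)
    {g : V ≃ₗ[F] V} (hg : g ∈ isom H) (hdet : LinearEquiv.det g = 1) : g ∈ M := by
  have hV₀ : ∀ x ∈ V₀, x ∈ dirSet h M := by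
    intro x hx
    refine ⟨R.alt x hx, fun c hc => ?_⟩
    apply hPM _ (tv_mem_isom h x c _ hc) (det_tv h x c _)
    intro y hy
    have hcσ : σ (c * ζ⁻¹) = c * ζ⁻¹ := by
      rw [map_mul, map_inv₀, hc, R.hζ, inv_neg, neg_mul_neg]
    have e : c = c * ζ⁻¹ * ζ := by
      rw [mul_assoc, inv_mul_cancel₀ R.hζ0, mul_one]
    have := R.tv_mem h hx hcσ hy
    rw [← e] at this
    exact this
  have hv : g₀ x₀ ∈ dirSet h M := dirSet_map h M hg₀ (hMG hg₀) (hV₀ x₀ hx₀)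
  have hall := R.dirSet_all h hσ2 hnd M hV₀ hMG hv hgx
  exact le_of_dirSet hσ h hnd hdim M hall hg hdet

/-- a rational vector which is an `F`-multiple of a non-zero rational vector is a rational
multiple -/
theorem smul_fixed {a x : V} (ha : a ∈ V₀) (hx : x ∈ V₀) (ha0 : a ≠ 0) {l : F}
    (hxl : x = l • a) : σ l = l := by
  obtain ⟨l₁, l₂, h1, h2, rfl⟩ := R.field_decomp hσ2 l
  have e : (x - l₁ • a) + θ • (-(l₂ • a)) = 0 := by
    rw [hxl, add_smul, smul_neg, smul_smul]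
    abel
  obtain ⟨-, e2⟩ := R.uniq h hσ2 hnd (V₀.sub_mem hx (R.smul_mem l₁ h1 a ha))
    (V₀.neg_mem (R.smul_mem l₂ h2 a ha)) e
  have hl₂ : l₂ = 0 := by
    rw [neg_eq_zero] at e2
    rcases smul_eq_zero.1 e2 with h0 | h0
    · exact h0
    · exact absurd h0 ha0
  rw [hl₂, mul_zero, add_zero]
  exact h1

/-- a linear automorphism mapping rational points to rational points projectively does so
linearly up to one scalar -/
theorem proj_to_lin (g : V ≃ₗ[F] V) (hg : ∀ x ∈ V₀, ∃ l : F, ∃ w ∈ V₀, g x = l • w)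
    {a₀ : V} (ha₀ : a₀ ∈ V₀) (ha₀0 : a₀ ≠ 0) :
    ∃ c : F, c ≠ 0 ∧ ∀ x ∈ V₀, ∃ w ∈ V₀, g x = c • w := by
  obtain ⟨c, w₀, hw₀, hc⟩ := hg a₀ ha₀
  have hga₀ : g a₀ ≠ 0 := fun h0 => ha₀0 (g.map_eq_zero_iff.1 h0)
  have hc0 : c ≠ 0 := by
    rintro rfl
    rw [zero_smul] at hc
    exact hga₀ hc
  refine ⟨c, hc0, ?_⟩
  intro x hx
  by_cases hxa : ∃ s : F, x = s • a₀
  · obtain ⟨s, hs⟩ := hxa
    have hsσ := R.smul_fixed h hσ2 hnd ha₀ hx ha₀0 hs
    refine ⟨s • w₀, R.smul_mem s hsσ w₀ hw₀, ?_⟩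
    rw [hs, map_smul, hc, smul_comm]
  · push Not at hxa
    have hx0 : x ≠ 0 := by
      intro h0
      apply hxa 0
      rw [h0, zero_smul]
    obtain ⟨l, w, hw, hl⟩ := hg x hx
    obtain ⟨m, w', hw', hm⟩ := hg (x + a₀) (V₀.add_mem hx ha₀)
    have hgx : g x ≠ 0 := fun h0 => hx0 (g.map_eq_zero_iff.1 h0)
    have hl0 : l ≠ 0 := by
      rintro rfl
      rw [zero_smul] at hl
      exact hgx hl
    have hm0 : m ≠ 0 := by
      rintro rfl
      rw [zero_smul] at hm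
      have h1 := g.map_eq_zero_iff.1 hm
      apply hxa (-1)
      rw [neg_one_smul]
      exact eq_neg_of_add_eq_zero_left h1
    -- independence of `w`, `w₀`
    have hind : ∀ s t : F, s • w + t • w₀ = 0 → s = 0 ∧ t = 0 := by
      intro s t hst
      have h1 : g ((s * l⁻¹) • x + (t * c⁻¹) • a₀) = 0 := by
        rw [map_add, map_smul, map_smul, hl, hc, smul_smul, smul_smul, mul_assoc,
          inv_mul_cancel₀ hl0, mul_one, mul_assoc, inv_mul_cancel₀ hc0, mul_one]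
        exact hst
      have h2 := g.map_eq_zero_iff.1 h1
      have hs : s = 0 := by
        by_contra hs0
        apply hxa (-(t * c⁻¹) * (s * l⁻¹)⁻¹)
        have hsl : s * l⁻¹ ≠ 0 := mul_ne_zero hs0 (inv_ne_zero hl0)
        have h3 : (s * l⁻¹) • x = -((t * c⁻¹) • a₀) := eq_neg_of_add_eq_zero_left h2
        have h4 : x = (s * l⁻¹)⁻¹ • ((s * l⁻¹) • x) := by
          rw [smul_smul, inv_mul_cancel₀ hsl, one_smul]
        rw [h4, h3, smul_neg, smul_smul, ← neg_smul]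
        congr 1
        ring
      refine ⟨hs, ?_⟩
      rw [hs, zero_smul, zero_add] at hst
      rcases smul_eq_zero.1 hst with h0 | h0
      · exact h0
      · exfalso
        rw [h0, smul_zero] at hc
        exact hga₀ hc
    obtain ⟨α₁, α₂, hα₁, hα₂, hα⟩ := R.field_decomp hσ2 (l * m⁻¹)
    obtain ⟨β₁, β₂, hβ₁, hβ₂, hβ⟩ := R.field_decomp hσ2 (c * m⁻¹)
    have hw'eq : w' = (l * m⁻¹) • w + (c * m⁻¹) • w₀ := by
      have h1 : m • w' = l • w + c • w₀ := by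
        rw [← hm, map_add, hl, hc]
      have h2 : w' = m⁻¹ • (m • w') := by
        rw [smul_smul, inv_mul_cancel₀ hm0, one_smul]
      rw [h2, h1, smul_add, smul_smul, smul_smul, mul_comm m⁻¹ l, mul_comm m⁻¹ c]
    have e : (w' - (α₁ • w + β₁ • w₀)) + θ • (-(α₂ • w + β₂ • w₀)) = 0 := by
      rw [hw'eq, hα, hβ, add_smul, add_smul, smul_neg, smul_add, smul_smul, smul_smul]
      abel
    obtain ⟨-, e2⟩ := R.uniq h hσ2 hnd
      (V₀.sub_mem hw' (V₀.add_mem (R.smul_mem α₁ hα₁ w hw) (R.smul_mem β₁ hβ₁ w₀ hw₀)))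
      (V₀.neg_mem (V₀.add_mem (R.smul_mem α₂ hα₂ w hw) (R.smul_mem β₂ hβ₂ w₀ hw₀))) e
    rw [neg_eq_zero] at e2
    obtain ⟨hα₂0, hβ₂0⟩ := hind α₂ β₂ e2
    rw [hα₂0, mul_zero, add_zero] at hα
    rw [hβ₂0, mul_zero, add_zero] at hβ
    have hβ₁0 : β₁ ≠ 0 := by
      rw [← hβ]
      exact mul_ne_zero hc0 (inv_ne_zero hm0)
    refine ⟨(α₁ * β₁⁻¹) • w, R.smul_mem _ (by rw [map_mul, map_inv₀, hα₁, hβ₁]) w hw, ?_⟩
    rw [hl, smul_smul]
    congr 1
    rw [← hα, ← hβ]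
    field_simp

end RatStr

end Cfsg.Agent.H9USub
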