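import Mathlib
import Cfsg.Prelude
import Cfsg.Agent.Lib.Helper9.USub3
import Cfsg.Agent.Lib.Helper9.SUMax3
import Cfsg.Agent.Lib.Helper9.SLMax1

set_option autoImplicit false

/-!
Subfield subgroups of `GL_n(F)`: concrete description.
-/

namespace Cfsg.Agent.H9USub

open Module Matrix Polynomial Cfsg.Agent.Lib.Helper2 Cfsg.Agent.Lib.Helper2.UT
  Cfsg.Agent.Lib.Helper2.IsomDecomp Cfsg.Agent.Lib.Helper2.HermDecomp
  Cfsg.Agent.Lib.Helper5.PSLCoset Cfsg.Agent.Lib.Helper2.GUIsom Cfsg.Agent.H9SUMax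

variable {F : Type*} [Field F]

theorem pow_eq_of_mem [Fintype F] (F₀ : Subfield F) {q : ℕ}
    (hq : Nat.card F₀ = q) {a : F} (ha : a ∈ F₀) : a ^ q = a := by
  classical
  have h1 := FiniteField.pow_card (⟨a, ha⟩ : F₀)
  rw [← Nat.card_eq_fintype_card, hq] at h1
  have h2 := congrArg (Subtype.val) h1
  simpa using h2

theorem mem_of_pow_eq [Fintype F] (F₀ : Subfield F) {q : ℕ}
    (hq : Nat.card F₀ = q) (hq1 : 1 < q) {a : F} (ha : a ^ q = a) : a ∈ F₀ := by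
  classical
  have hp : (X ^ q - X : F[X]) ≠ 0 := FiniteField.X_pow_card_sub_X_ne_zero F hq1
  have hdeg : (X ^ q - X : F[X]).natDegree = q := FiniteField.X_pow_card_sub_X_natDegree_eq F hq1
  have hroots : ∀ b : F, b ^ q = b → b ∈ (X ^ q - X : F[X]).roots.toFinset := by
    intro b hb
    rw [Multiset.mem_toFinset, mem_roots hp, IsRoot, eval_sub, eval_pow, eval_X, hb, sub_self]
  set S : Finset F := Finset.univ.image (fun x : F₀ => (x : F)) with hS
  have hScard : S.card = q := by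
    rw [hS, Finset.card_image_of_injective _ Subtype.val_injective, Finset.card_univ,
      ← Nat.card_eq_fintype_card, hq]
  have hSsub : S ⊆ (X ^ q - X : F[X]).roots.toFinset := by
    intro b hb
    rw [hS, Finset.mem_image] at hb
    obtain ⟨x, -, rfl⟩ := hb
    exact hroots _ (pow_eq_of_mem F₀ hq x.2)
  have hle : (X ^ q - X : F[X]).roots.toFinset.card ≤ S.card := by
    rw [hScard]
    calc _ ≤ Multiset.card (X ^ q - X : F[X]).roots := Multiset.toFinset_card_le _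
      _ ≤ (X ^ q - X : F[X]).natDegree := card_roots' _
      _ = q := hdeg
  have heq := Finset.eq_of_subset_of_card_le hSsub hle
  have := hroots a ha
  rw [← heq, hS, Finset.mem_image] at this
  obtain ⟨x, -, rfl⟩ := this
  exact x.2

variable {n : ℕ}

/-- the `F₀`-span of the columns of `P` -/
def ratSub (F₀ : Subfield F) (P : GL (Fin n) F) : AddSubgroup (Fin n → F) where
  carrier := {x | ∃ u : Fin n → F, (∀ i, u i ∈ F₀) ∧ x = (P : Matrix (Fin n) (Fin n) F) *ᵥ u}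
  zero_mem' := ⟨0, fun _ => F₀.zero_mem, by rw [Matrix.mulVec_zero]⟩
  add_mem' := by
    rintro _ _ ⟨u, hu, rfl⟩ ⟨v, hv, rfl⟩
    exact ⟨u + v, fun i => F₀.add_mem (hu i) (hv i), by rw [Matrix.mulVec_add]⟩
  neg_mem' := by
    rintro _ ⟨u, hu, rfl⟩
    exact ⟨-u, fun i => F₀.neg_mem (hu i), by rw [Matrix.mulVec_neg]⟩

theorem mem_ratSub (F₀ : Subfield F) (P : GL (Fin n) F) (x : Fin n → F) :
    x ∈ ratSub F₀ P ↔ ∃ u : Fin n → F, (∀ i, u i ∈ F₀) ∧
      x = (P : Matrix (Fin n) (Fin n) F) *ᵥ u := Iff.rfl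

theorem smul_mem_ratSub (F₀ : Subfield F) (P : GL (Fin n) F) {a : F} (ha : a ∈ F₀)
    {x : Fin n → F} (hx : x ∈ ratSub F₀ P) : a • x ∈ ratSub F₀ P := by
  obtain ⟨u, hu, rfl⟩ := hx
  exact ⟨a • u, fun i => F₀.mul_mem ha (hu i), by rw [Matrix.mulVec_smul]⟩

theorem scalars_normal : (Cfsg.Geo.scalars (Fin n) F).Normal := by
  constructor
  intro z hz g
  obtain ⟨c, hc⟩ := (Cfsg.Geo.mem_scalars_iff z).1 hz
  rw [Cfsg.Geo.mem_scalars_iff]
  refine ⟨c, ?_⟩
  rw [Units.val_mul, Units.val_mul, hc, Matrix.mul_smul, Matrix.mul_one, Matrix.smul_mul,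
    ← Units.val_mul, mul_inv_cancel, Units.val_one]

/-- rational matrices map rational vectors to rational vectors -/
theorem map_mulVec_rat (F₀ : Subfield F) (A : GL (Fin n) F₀) {u : Fin n → F}
    (hu : ∀ i, u i ∈ F₀) (i : Fin n) :
    (((Matrix.GeneralLinearGroup.map (F₀.subtype : F₀ →+* F)) A : GL (Fin n) F) :
      Matrix (Fin n) (Fin n) F).mulVec u i ∈ F₀ := by
  unfold Matrix.mulVec dotProduct
  apply Subfield.sum_mem
  intro j _
  beta_reduce
  rw [Matrix.GeneralLinearGroup.map_apply]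
  exact F₀.mul_mem (Subtype.mem _) (hu j)

theorem mem_subfieldSubgroup_iff (F₀ : Subfield F) (P : GL (Fin n) F) (g : GL (Fin n) F) :
    g ∈ Cfsg.Geo.subfieldSubgroup F₀ P ↔
      ∃ c : F, c ≠ 0 ∧ ∀ x ∈ ratSub F₀ P, ∃ w ∈ ratSub F₀ P,
        (g : Matrix (Fin n) (Fin n) F) *ᵥ x = c • w := by
  classical
  haveI := scalars_normal (F := F) (n := n)
  constructor
  · rintro ⟨g₁, hg₁, rfl⟩
    rw [SetLike.mem_coe, Subgroup.mem_sup_of_normal_right] at hg₁
    obtain ⟨y, ⟨A, rfl⟩, z, hz, rfl⟩ := hg₁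
    obtain ⟨c, hc⟩ := (Cfsg.Geo.mem_scalars_iff z).1 hz
    refine ⟨c, c.ne_zero, ?_⟩
    rintro _ ⟨u, hu, rfl⟩
    refine ⟨(P : Matrix (Fin n) (Fin n) F) *ᵥ
      ((((Matrix.GeneralLinearGroup.map (F₀.subtype : F₀ →+* F)) A : GL (Fin n) F) :
      Matrix (Fin n) (Fin n) F) *ᵥ u), ⟨_, map_mulVec_rat F₀ A hu, rfl⟩, ?_⟩
    show ((P * ((Matrix.GeneralLinearGroup.map (F₀.subtype : F₀ →+* F)) A * z) * P⁻¹ :
      GL (Fin n) F) : Matrix (Fin n) (Fin n) F) *ᵥ _ = _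
    rw [Units.val_mul, Units.val_mul, Units.val_mul, ← Matrix.mulVec_mulVec,
      ← Matrix.mulVec_mulVec, ← Matrix.mulVec_mulVec, Cfsg.Agent.H9SLMax.inv_mulVec_mulVec, hc,
      Matrix.smul_mulVec, Matrix.one_mulVec, Matrix.mulVec_smul, Matrix.mulVec_smul]
  · rintro ⟨c, hc0, hg⟩
    -- the matrix `g' = P⁻¹ g P`
    obtain ⟨g', hg'⟩ : ∃ g' : GL (Fin n) F, g' = P⁻¹ * g * P := ⟨_, rfl⟩
    have hrat : ∀ u : Fin n → F, (∀ i, u i ∈ F₀) → ∃ u' : Fin n → F, (∀ i, u' i ∈ F₀) ∧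
        (g' : Matrix (Fin n) (Fin n) F) *ᵥ u = c • u' := by
      intro u hu
      obtain ⟨_, ⟨u', hu', rfl⟩, hgu⟩ := hg _ ⟨u, hu, rfl⟩
      refine ⟨u', hu', ?_⟩
      rw [hg', Units.val_mul, Units.val_mul, ← Matrix.mulVec_mulVec, ← Matrix.mulVec_mulVec, hgu,
        Matrix.mulVec_smul, Cfsg.Agent.H9SLMax.inv_mulVec_mulVec]
    -- the entries of `c⁻¹ g'` are rational
    have hent : ∀ i j, c⁻¹ * (g' : Matrix (Fin n) (Fin n) F) i j ∈ F₀ := by
      intro i j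
      obtain ⟨u', hu', he⟩ := hrat (Pi.single j 1) (fun k => by
        by_cases hk : k = j
        · rw [hk, Pi.single_eq_same]; exact F₀.one_mem
        · rw [Pi.single_eq_of_ne hk]; exact F₀.zero_mem)
      have h1 := congrFun he i
      rw [Matrix.mulVec_single_one] at h1
      have h2 : (g' : Matrix (Fin n) (Fin n) F) i j = c * u' i := h1
      rw [h2, ← mul_assoc, inv_mul_cancel₀ hc0, one_mul]
      exact hu' i
    obtain ⟨A₀, hA₀⟩ : ∃ A₀ : Matrix (Fin n) (Fin n) F₀, A₀ =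
        fun i j => ⟨c⁻¹ * (g' : Matrix (Fin n) (Fin n) F) i j, hent i j⟩ := ⟨_, rfl⟩
    have hA₀map : (F₀.subtype : F₀ →+* F).mapMatrix A₀ = c⁻¹ • (g' : Matrix (Fin n) (Fin n) F) := by
      ext i j
      rw [RingHom.mapMatrix_apply, Matrix.map_apply, hA₀, Matrix.smul_apply, smul_eq_mul]
      rfl
    have hdet : A₀.det ≠ 0 := by
      intro h0
      have h1 := RingHom.map_det (F₀.subtype : F₀ →+* F) A₀
      rw [h0, map_zero, hA₀map, Matrix.det_smul] at h1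
      have h2 : (g' : Matrix (Fin n) (Fin n) F).det ≠ 0 := by
        have := (Matrix.isUnit_iff_isUnit_det _).1 (Units.isUnit g')
        exact this.ne_zero
      exact mul_ne_zero (pow_ne_zero _ (inv_ne_zero hc0)) h2 h1.symm
    have hg'mem : g' ∈ (Matrix.GeneralLinearGroup.map (F₀.subtype : F₀ →+* F)).range ⊔
        Cfsg.Geo.scalars (Fin n) F := by
      rw [Subgroup.mem_sup_of_normal_right]
      obtain ⟨z, hz⟩ : ∃ z : GL (Fin n) F, (z : Matrix (Fin n) (Fin n) F) = c • 1 := by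
        refine ⟨Units.map (Matrix.scalar (Fin n) : F →+* Matrix (Fin n) (Fin n) F).toMonoidHom
          (Units.mk0 c hc0), ?_⟩
        simp [Matrix.smul_one_eq_diagonal]
      refine ⟨_, ⟨Matrix.GeneralLinearGroup.mkOfDetNeZero A₀ hdet, rfl⟩, z,
        (Cfsg.Geo.mem_scalars_iff z).2 ⟨Units.mk0 c hc0, hz⟩, ?_⟩
      apply Units.ext
      rw [Units.val_mul, hz, Matrix.mul_smul, Matrix.mul_one]
      ext i j
      rw [Matrix.smul_apply, Matrix.GeneralLinearGroup.map_apply]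
      show c • (F₀.subtype ((Matrix.GeneralLinearGroup.mkOfDetNeZero A₀ hdet :
        Matrix (Fin n) (Fin n) F₀) i j)) = _
      have : ((Matrix.GeneralLinearGroup.mkOfDetNeZero A₀ hdet : GL (Fin n) F₀) :
          Matrix (Fin n) (Fin n) F₀) = A₀ := rfl
      rw [this, hA₀]
      show c • (c⁻¹ * (g' : Matrix (Fin n) (Fin n) F) i j) = _
      rw [smul_eq_mul, ← mul_assoc, mul_inv_cancel₀ hc0, one_mul]
    refine ⟨g', hg'mem, ?_⟩
    show P * g' * P⁻¹ = g
    rw [hg']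
    group

end Cfsg.Agent.H9USub
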