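import Mathlib
import Cfsg.Agent.Lib.Helper9.GReal1
import Cfsg.Agent.Lib.Helper9.GConj1
import Cfsg.Agent.Lib.Helper9.USub4

set_option autoImplicit false

/-! Membership in the subfield subgroup by entries, and the conjugation lemma. -/

namespace Cfsg.Agent.Lib.Helper9.H9GReal

open Module
open Cfsg.Agent.Lib.Helper9.H9GConj

section mem
variable {F : Type*} [Field F] {n : ℕ}

local notation "Mat" => Matrix (Fin n) (Fin n) F

theorem mem_subfieldSubgroup_one_iff (F₀ : Subfield F) (g : GL (Fin n) F) :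
    g ∈ Cfsg.Geo.subfieldSubgroup F₀ (1 : GL (Fin n) F) ↔
      ∃ c : F, c ≠ 0 ∧ ∀ i j, ∃ a ∈ F₀, (g : Mat) i j = c * a := by
  classical
  rw [Cfsg.Agent.H9USub.mem_subfieldSubgroup_iff]
  constructor
  · rintro ⟨c, hc, h⟩
    refine ⟨c, hc, ?_⟩
    intro i j
    obtain ⟨w, ⟨u, hu, rfl⟩, hw⟩ := h (Pi.single j 1)
      ⟨Pi.single j 1, fun i => by
        by_cases hij : i = j
        · subst hij; rw [Pi.single_eq_same]; exact F₀.one_mem
        · rw [Pi.single_eq_of_ne hij]; exact F₀.zero_mem, by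
        rw [Units.val_one, Matrix.one_mulVec]⟩
    refine ⟨u i, hu i, ?_⟩
    have := congrFun hw i
    rw [Matrix.mulVec_single_one, Units.val_one, Matrix.one_mulVec] at this
    simpa using this
  · rintro ⟨c, hc, h⟩
    refine ⟨c, hc, ?_⟩
    rintro _ ⟨u, hu, rfl⟩
    choose a ha hga using h
    refine ⟨fun i => ∑ j, a i j * u j, ⟨fun i => ∑ j, a i j * u j, ?_, ?_⟩, ?_⟩
    · intro i
      exact F₀.sum_mem (fun j _ => F₀.mul_mem (ha i j) (hu j))
    · rw [Units.val_one, Matrix.one_mulVec]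
    · rw [Units.val_one, Matrix.one_mulVec]
      funext i
      rw [Matrix.mulVec, dotProduct, Pi.smul_apply, smul_eq_mul, Finset.mul_sum]
      apply Finset.sum_congr rfl
      intro j _
      rw [hga, mul_assoc]

end mem

section conj
variable {F : Type*} [Field F] {n : ℕ}

local notation "Mat" => Matrix (Fin n) (Fin n) F

/-- The conjugation lemma for subfield subgroups. -/
theorem conj_mem_subfield (F₀ : Subfield F) (x : Matrix.SpecialLinearGroup (Fin n) F)
    (d : F) (hd : d ≠ 0) (s : (Fin n → F) →ₗ[F] (Fin n → F))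
    (hts : Matrix.toLin' (x : Mat) = d • s) (hs : RealOver F₀ s)
    (hcent : ∀ δ : F, δ ≠ 0 → ∃ c : (Fin n → F) →ₗ[F] (Fin n → F), LinearMap.det c = δ ∧
      ∀ v, c (Matrix.toLin' (x : Mat) v) = Matrix.toLin' (x : Mat) (c v)) :
    ∃ P : Matrix.SpecialLinearGroup (Fin n) F,
      P⁻¹ * x * P ∈ (Cfsg.Geo.subfieldSubgroup F₀ (1 : GL (Fin n) F)).comap
        (Matrix.SpecialLinearGroup.toGL : Matrix.SpecialLinearGroup (Fin n) F →* GL (Fin n) F) := by
  classical
  obtain ⟨ι, _, b, hb⟩ := hs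
  have hcard : Fintype.card ι = n := by
    rw [← Module.finrank_eq_card_basis b, Module.finrank_fin_fun]
  let eι : ι ≃ Fin n := Fintype.equivFinOfCardEq hcard
  let b' : Basis (Fin n) F (Fin n → F) := b.reindex eι
  let g : (Fin n → F) ≃ₗ[F] (Fin n → F) := b'.equivFun
  let y : (Fin n → F) →ₗ[F] (Fin n → F) :=
    (g : (Fin n → F) →ₗ[F] (Fin n → F)) ∘ₗ Matrix.toLin' (x : Mat) ∘ₗ
      (g.symm : (Fin n → F) →ₗ[F] (Fin n → F))
  have hg : ∀ v, g (Matrix.toLin' (x : Mat) v) = y (g v) := by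
    intro v
    simp [y]
  obtain ⟨P, hP⟩ := exists_SL_conj x y g hg hcent
  refine ⟨P, ?_⟩
  rw [Subgroup.mem_comap, mem_subfieldSubgroup_one_iff]
  refine ⟨d, hd, ?_⟩
  intro i j
  rw [Matrix.SpecialLinearGroup.coe_GL_coe_matrix, hP]
  refine ⟨b.repr (s (b (eι.symm j))) (eι.symm i), hb _ _, ?_⟩
  rw [LinearMap.toMatrix'_apply]
  show g (Matrix.toLin' (x : Mat) (g.symm (Pi.single j 1))) i = _
  have h1 : g.symm (Pi.single j 1) = b (eι.symm j) := by
    rw [LinearEquiv.symm_apply_eq]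
    show _ = b'.equivFun (b (eι.symm j))
    have : b (eι.symm j) = b' j := by
      simp [b']
    rw [this]
    funext k
    rw [Basis.equivFun_self, Pi.single_apply]
    simp only [eq_comm]
  rw [h1, hts, LinearMap.smul_apply, map_smul, Pi.smul_apply, smul_eq_mul]
  congr 1

end conj

end Cfsg.Agent.Lib.Helper9.H9GReal
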