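import Mathlib
import Cfsg.Agent.Lib.Helper1.TIDefs

set_option autoImplicit false

/-! S3797 swarm (Thompson, one class of involutions), package GS: Gauss sums of an anisotropic
quadratic map between elementary abelian 2-groups. -/

namespace Cfsg.Agent.Lib.Helper9.TIGS

open Cfsg.Agent.Lib.Helper1.TI

/-- orthogonality for `ZMod 2`-valued additive characters -/
theorem sum_sgn_hom {A : Type*} [AddCommGroup A] [Fintype A] (f : A →+ ZMod 2) :
    ∑ a : A, sgn (f a) = if f = 0 then (Fintype.card A : ℤ) else 0 := by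
  classical
  split_ifs with h
  · rw [h]
    simp [sgn_zero]
  · have hex : ∃ a₀ : A, f a₀ ≠ 0 := by
      by_contra hne
      push Not at hne
      exact h (AddMonoidHom.ext hne)
    obtain ⟨a₀, ha₀⟩ := hex
    have h1 : sgn (f a₀) = -1 := by
      unfold sgn
      rw [if_neg ha₀]
    have h2 : ∑ a : A, sgn (f a) = ∑ a : A, sgn (f (a + a₀)) :=
      (Fintype.sum_equiv (Equiv.addRight a₀) _ _ (fun a => rfl)).symm
    have h3 : ∑ a : A, sgn (f (a + a₀)) = - ∑ a : A, sgn (f a) := by
      rw [← Finset.sum_neg_distrib]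
      refine Finset.sum_congr rfl (fun a _ => ?_)
      rw [map_add, sgn_add, h1]
      ring
    rw [h3] at h2
    omega

section GS

variable {W V : Type*} [AddCommGroup W] [Finite W] [AddCommGroup V] [Finite V] (q : QMap W V)

theorem exists_dual_ne_zero (hV2 : ∀ v : V, v + v = 0) {v : V} (hv : v ≠ 0) :
    ∃ l : V →+ ZMod 2, l v ≠ 0 := by
  classical
  let _ : Module (ZMod 2) V := AddCommGroup.zmodModule (n := 2) (fun x => by rw [two_nsmul]; exact hV2 x)
  by_contra hne
  push Not at hne
  apply hv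
  rw [← Module.forall_dual_apply_eq_zero_iff (ZMod 2) v]
  intro φ
  exact hne φ.toAddMonoidHom

theorem card_dual (hV2 : ∀ v : V, v + v = 0) : Nat.card (V →+ ZMod 2) = Nat.card V := by
  classical
  let _ : Module (ZMod 2) V := AddCommGroup.zmodModule (n := 2) (fun x => by rw [two_nsmul]; exact hV2 x)
  let _ : Fintype V := Fintype.ofFinite V
  have e : (V →+ ZMod 2) ≃ Module.Dual (ZMod 2) V :=
    { toFun := fun f => AddMonoidHom.toZModLinearMap 2 f
      invFun := fun φ => φ.toAddMonoidHom
      left_inv := fun f => by ext; rfl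
      right_inv := fun φ => by ext; rfl }
  rw [Nat.card_congr e]
  have h1 : Nat.card V = 2 ^ Module.finrank (ZMod 2) V := by
    rw [Nat.card_eq_fintype_card, Module.card_eq_pow_finrank (K := ZMod 2) (V := V)]
    simp
  have hfin : Finite (Module.Dual (ZMod 2) V) :=
    Finite.of_injective (fun φ : Module.Dual (ZMod 2) V => (φ : V → ZMod 2)) DFunLike.coe_injective
  have h2 : Nat.card (Module.Dual (ZMod 2) V) = 2 ^ Module.finrank (ZMod 2) (Module.Dual (ZMod 2) V) := by
    let _ : Fintype (Module.Dual (ZMod 2) V) := Fintype.ofFinite _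
    rw [Nat.card_eq_fintype_card, Module.card_eq_pow_finrank (K := ZMod 2) (V := Module.Dual (ZMod 2) V)]
    simp
  rw [h1, h2, Subspace.dual_finrank_eq]

omit [Finite W] [Finite V] in
theorem gsum_eq_sum (Y : AddSubgroup W) [Fintype Y] (l : V →+ ZMod 2) :
    gsum q Y l = ∑ w : Y, sgn (l (q.sq (w : W))) := by
  unfold gsum
  rw [finsum_eq_sum_of_fintype]

theorem gsum_zero (Y : AddSubgroup W) : gsum q Y 0 = Nat.card Y := by
  classical
  let _ : Fintype Y := Fintype.ofFinite Y
  rw [gsum_eq_sum]
  simp [sgn_zero, Nat.card_eq_fintype_card]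

/-- orthogonality: only `w = 0` has `sq w = 0`. -/
theorem finsum_gsum (Y : AddSubgroup W) : ∑ᶠ l : V →+ ZMod 2, gsum q Y l = Nat.card V := by
  classical
  let _ : Fintype Y := Fintype.ofFinite Y
  have hfin : Finite (V →+ ZMod 2) :=
    Finite.of_injective (fun f : V →+ ZMod 2 => (f : V → ZMod 2)) DFunLike.coe_injective
  let _ : Fintype (V →+ ZMod 2) := Fintype.ofFinite _
  rw [finsum_eq_sum_of_fintype]
  simp_rw [gsum_eq_sum]
  rw [Finset.sum_comm]
  have h2 : ∀ w : Y, ∑ l : V →+ ZMod 2, sgn (l (q.sq (w : W)))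
      = if w = 0 then (Nat.card V : ℤ) else 0 := by
    intro w
    let ev : (V →+ ZMod 2) →+ ZMod 2 :=
      { toFun := fun l => l (q.sq (w : W)), map_zero' := rfl, map_add' := fun _ _ => rfl }
    have h := sum_sgn_hom ev
    have hev : ∀ l : V →+ ZMod 2, ev l = l (q.sq (w : W)) := fun _ => rfl
    simp_rw [hev] at h
    rw [h]
    by_cases hw : w = 0
    · have hev0 : ev = 0 := by
        refine AddMonoidHom.ext (fun l => ?_)
        rw [hev, hw]
        show l (q.sq 0) = 0
        rw [q.sq_zero, map_zero]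
      rw [if_pos hev0, if_pos hw, ← Nat.card_eq_fintype_card, card_dual q.hV2]
    · have hsq : q.sq (w : W) ≠ 0 := by
        intro h0
        apply hw
        apply Subtype.ext
        exact q.aniso _ h0
      obtain ⟨l₀, hl₀⟩ := exists_dual_ne_zero q.hV2 hsq
      have hev0 : ev ≠ 0 := by
        intro h0
        apply hl₀
        rw [← hev, h0]
        rfl
      rw [if_neg hev0, if_neg hw]
  simp_rw [h2]
  rw [Finset.sum_ite_eq' Finset.univ (0 : Y)]
  simp

/-- `S(l)² = |Y|·|rad|` when `l ∘ sq` vanishes on the radical of `l ∘ β`. -/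
theorem gsum_sq (Y : AddSubgroup W) (l : V →+ ZMod 2)
    (hrad : ∀ t ∈ rad q Y l, l (q.sq t) = 0) :
    gsum q Y l ^ 2 = Nat.card Y * Nat.card (rad q Y l) := by
  classical
  let _ : Fintype Y := Fintype.ofFinite Y
  rw [gsum_eq_sum, sq, Finset.sum_mul_sum]
  have h2 : ∀ u : Y, ∑ w : Y, sgn (l (q.sq (u : W))) * sgn (l (q.sq (w : W)))
      = ∑ t : Y, sgn (l (q.sq (t : W))) * sgn (l (q.β (u : W) (t : W))) := by
    intro u
    rw [← Fintype.sum_equiv (Equiv.addLeft u)
      (fun t : Y => sgn (l (q.sq (u : W))) * sgn (l (q.sq ((u + t : Y) : W))))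
      (fun w : Y => sgn (l (q.sq (u : W))) * sgn (l (q.sq (w : W)))) (fun t => rfl)]
    refine Finset.sum_congr rfl (fun t _ => ?_)
    rw [AddSubgroup.coe_add, q.sq_add, map_add, map_add, sgn_add, sgn_add]
    have := sgn_mul_self (l (q.sq (u : W)))
    calc sgn (l (q.sq (u : W))) * (sgn (l (q.sq (u : W))) * sgn (l (q.sq (t : W))) * sgn (l (q.β (u : W) (t : W))))
        = (sgn (l (q.sq (u : W))) * sgn (l (q.sq (u : W)))) * (sgn (l (q.sq (t : W))) * sgn (l (q.β (u : W) (t : W)))) := by ring
      _ = sgn (l (q.sq (t : W))) * sgn (l (q.β (u : W) (t : W))) := by rw [this, one_mul]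
  simp_rw [h2]
  rw [Finset.sum_comm]
  have h3 : ∀ t : Y, ∑ u : Y, sgn (l (q.sq (t : W))) * sgn (l (q.β (u : W) (t : W)))
      = if (t : W) ∈ rad q Y l then (Nat.card Y : ℤ) else 0 := by
    intro t
    rw [← Finset.mul_sum]
    let f : Y →+ ZMod 2 :=
      { toFun := fun u => l (q.β (u : W) (t : W))
        map_zero' := by
          show l (q.β ((0 : Y) : W) (t : W)) = 0
          rw [AddSubgroup.coe_zero, q.β_zero_left, map_zero]
        map_add' := fun a b => by
          show l (q.β ((a + b : Y) : W) (t : W)) = l (q.β (a : W) (t : W)) + l (q.β (b : W) (t : W))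
          rw [AddSubgroup.coe_add, q.β_add_left, map_add] }
    have hf : ∀ u : Y, f u = l (q.β (u : W) (t : W)) := fun _ => rfl
    have h := sum_sgn_hom f
    simp_rw [hf] at h
    rw [h]
    by_cases ht : (t : W) ∈ rad q Y l
    · have hf0 : f = 0 := by
        refine AddMonoidHom.ext (fun u => ?_)
        rw [hf]
        exact ht.2 u u.2
      rw [if_pos hf0, if_pos ht, hrad _ ht, sgn_zero, one_mul, Nat.card_eq_fintype_card]
    · have hf0 : f ≠ 0 := by
        intro h0
        apply ht
        refine ⟨t.2, fun w hw => ?_⟩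
        have := congrArg (fun g : Y →+ ZMod 2 => g ⟨w, hw⟩) h0
        exact this
      rw [if_neg hf0, if_neg ht, mul_zero]
  simp_rw [h3]
  let _ : Fintype (rad q Y l) := Fintype.ofFinite _
  have hcard : (Finset.univ.filter (fun t : Y => (t : W) ∈ rad q Y l)).card
      = Nat.card (rad q Y l) := by
    rw [← Fintype.card_subtype, Nat.card_eq_fintype_card]
    refine Fintype.card_congr ?_
    exact
      { toFun := fun t => ⟨(t.1 : W), t.2⟩
        invFun := fun r => ⟨⟨(r : W), r.2.1⟩, r.2⟩
        left_inv := fun _ => rfl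
        right_inv := fun _ => rfl }
  rw [← Finset.sum_filter, Finset.sum_const, nsmul_eq_mul, hcard, mul_comm]

end GS

end Cfsg.Agent.Lib.Helper9.TIGS
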