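import Mathlib
import Cfsg.Agent.Lib.Helper1.TIDefs
import Cfsg.Agent.Lib.Helper9.TIGS

set_option autoImplicit false

/-! S3797 swarm, package PC: a subgroup on which all the forms `l ∘ β` are non-degenerate is `0`
or has order `|V|²` (Gauss sum count). -/

namespace Cfsg.Agent.Lib.Helper9.TIPC

open Cfsg.Agent.Lib.Helper1.TI Cfsg.Agent.Lib.Helper9.TIGS

/-- a finite elementary abelian `2`-group has order a power of `2`. -/
theorem card_two_pow {A : Type*} [AddCommGroup A] [Finite A] (h2 : ∀ a : A, a + a = 0) :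
    ∃ m : ℕ, Nat.card A = 2 ^ m := by
  classical
  let _ : Module (ZMod 2) A :=
    AddCommGroup.zmodModule (n := 2) (fun x => by rw [two_nsmul]; exact h2 x)
  let _ : Fintype A := Fintype.ofFinite A
  refine ⟨Module.finrank (ZMod 2) A, ?_⟩
  rw [Nat.card_eq_fintype_card, Module.card_eq_pow_finrank (K := ZMod 2) (V := A)]
  simp

/-- a sum of signs has the parity of the number of terms. -/
theorem odd_sum_signs {ι : Type*} [DecidableEq ι] (f : ι → ℤ) (s : Finset ι)
    (hf : ∀ i ∈ s, f i = 1 ∨ f i = -1) : Odd (∑ i ∈ s, f i) ↔ Odd s.card := by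
  induction s using Finset.induction_on with
  | empty => simp
  | insert a s ha ih =>
    rw [Finset.sum_insert ha, Finset.card_insert_of_notMem ha]
    have hfa : Odd (f a) := by
      rcases hf a (Finset.mem_insert_self a s) with h | h
      · rw [h]; exact odd_one
      · rw [h]; exact Odd.neg odd_one
    have ih' := ih (fun i hi => hf i (Finset.mem_insert_of_mem hi))
    rw [Int.odd_add, Nat.odd_add_one, ← ih']
    constructor
    · intro h hodd
      have := (h.mp hfa)
      exact (Int.not_even_iff_odd.mpr hodd) this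
    · intro h
      constructor
      · intro _
        exact Int.not_odd_iff_even.mp h
      · intro _
        exact hfa

/-- the arithmetic: `2^(2n) + 2^n t = 2^m` with `t` odd forces `n = 0` or `n = m`. -/
theorem arith_piece (n m : ℕ) (t : ℤ) (ht : Odd t)
    (h : (2 : ℤ) ^ (2 * n) + 2 ^ n * t = 2 ^ m) : n = 0 ∨ n = m := by
  by_cases hn : n = 0
  · left; exact hn
  right
  have hn1 : 1 ≤ n := Nat.one_le_iff_ne_zero.mpr hn
  set u : ℤ := 2 ^ n + t with hu
  have hu_odd : Odd u := by
    rw [hu]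
    have : Even ((2 : ℤ) ^ n) := by
      obtain ⟨j, rfl⟩ := Nat.exists_eq_succ_of_ne_zero hn
      rw [pow_succ]
      exact Even.mul_left even_two _
    exact Even.add_odd this ht
  have hprod : (2 : ℤ) ^ n * u = 2 ^ m := by
    rw [hu, mul_add, ← h, two_mul, pow_add]
  have hdvd : u.natAbs ∣ 2 ^ m := by
    have h1 : u ∣ (2 : ℤ) ^ m := ⟨2 ^ n, by rw [← hprod]; ring⟩
    have h2 := Int.natAbs_dvd_natAbs.mpr h1
    simpa [Int.natAbs_pow] using h2
  obtain ⟨j, -, hj⟩ := (Nat.dvd_prime_pow Nat.prime_two).mp hdvd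
  have hj0 : j = 0 := by
    by_contra hj0
    have : Even u.natAbs := by
      rw [hj]
      obtain ⟨j', rfl⟩ := Nat.exists_eq_succ_of_ne_zero hj0
      rw [pow_succ]
      exact Even.mul_left even_two _
    have h3 : Odd u.natAbs := Int.natAbs_odd.mpr hu_odd
    exact (Nat.not_even_iff_odd.mpr h3) this
  rw [hj0, pow_zero] at hj
  rcases Int.natAbs_eq u with h1 | h1
  · rw [hj] at h1
    rw [h1] at hprod
    have : (2 : ℤ) ^ n = 2 ^ m := by simpa using hprod
    have h4 : (2 : ℕ) ^ n = 2 ^ m := by exact_mod_cast this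
    exact Nat.pow_right_injective (le_refl 2) h4
  · rw [hj] at h1
    rw [h1] at hprod
    exfalso
    have h5 : (0 : ℤ) < 2 ^ m := by positivity
    have h6 : (0 : ℤ) < 2 ^ n := by positivity
    have : (2 : ℤ) ^ n * (-(1 : ℕ) : ℤ) < 0 := by
      simp only [Nat.cast_one, mul_neg, mul_one, Left.neg_neg_iff]
      exact h6
    rw [hprod] at this
    exact absurd this (not_lt.mpr h5.le)

/-- for a non-degenerate `l`, the Gauss sum squares to `|Y|`. -/
theorem gsum_sq_of_nondeg {W V : Type*} [AddCommGroup W] [Finite W] [AddCommGroup V] [Finite V]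
    (q : QMap W V) (Y : AddSubgroup W) (hY : Nondeg q Y) (l : V →+ ZMod 2) (hl : l ≠ 0) :
    gsum q Y l ^ 2 = Nat.card Y := by
  have hr : rad q Y l = ⊥ := by
    rw [eq_bot_iff]
    intro t ht
    rw [AddSubgroup.mem_bot]
    exact hY l hl t ht.1 ht.2
  have h := gsum_sq q Y l (by
    intro t ht
    rw [hr, AddSubgroup.mem_bot] at ht
    rw [ht, q.sq_zero, map_zero])
  rw [h, hr]
  simp

/-- PC: a subgroup on which all `l ∘ β` are non-degenerate is `0` or of order `|V|²`. -/
theorem piece {W V : Type*} [AddCommGroup W] [Finite W] [AddCommGroup V] [Finite V] (q : QMap W V)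
    (Y : AddSubgroup W) (hY : Nondeg q Y) : Y = ⊥ ∨ Nat.card Y = Nat.card V ^ 2 := by
  classical
  obtain ⟨m, hm⟩ := card_two_pow q.hV2
  obtain ⟨k, hk⟩ := card_two_pow (A := Y) (fun y => Subtype.ext (q.hW2 (y : W)))
  have hfin : Finite (V →+ ZMod 2) :=
    Finite.of_injective (fun f : V →+ ZMod 2 => (f : V → ZMod 2)) DFunLike.coe_injective
  let _ : Fintype (V →+ ZMod 2) := Fintype.ofFinite _
  have hsum := finsum_gsum q Y
  rw [finsum_eq_sum_of_fintype] at hsum
  rw [← Finset.add_sum_erase Finset.univ _ (Finset.mem_univ (0 : V →+ ZMod 2)), gsum_zero] at hsum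
  have hcardE : (Finset.univ.erase (0 : V →+ ZMod 2)).card = 2 ^ m - 1 := by
    rw [Finset.card_erase_of_mem (Finset.mem_univ _), Finset.card_univ,
      ← Nat.card_eq_fintype_card, card_dual q.hV2, hm]
  have hS : ∀ l ∈ Finset.univ.erase (0 : V →+ ZMod 2), gsum q Y l ^ 2 = (2 : ℤ) ^ k := by
    intro l hl
    rw [gsum_sq_of_nondeg q Y hY l (Finset.ne_of_mem_erase hl), hk]
    norm_cast
  by_cases hE : (Finset.univ.erase (0 : V →+ ZMod 2)) = ∅
  · -- only the zero functional
    rw [hE, Finset.sum_empty, add_zero] at hsum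
    have h1 : 2 ^ m - 1 = 0 := by rw [← hcardE, hE, Finset.card_empty]
    have hm0 : (2 : ℕ) ^ m = 1 := by
      have := Nat.one_le_two_pow (n := m)
      omega
    left
    have hY1 : Nat.card Y = 1 := by
      have : (Nat.card Y : ℤ) = 1 := by rw [hsum, hm, hm0]; norm_cast
      exact_mod_cast this
    rw [eq_bot_iff]
    intro y hy
    rw [AddSubgroup.mem_bot]
    have hsub : Subsingleton Y := (Finite.card_le_one_iff_subsingleton).mp hY1.le
    have := Subsingleton.elim (⟨y, hy⟩ : Y) 0
    exact congrArg Subtype.val this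
  · obtain ⟨l₀, hl₀⟩ := Finset.nonempty_iff_ne_empty.mpr hE
    -- `k` is even
    have h0 := hS l₀ hl₀
    have hdvd : (gsum q Y l₀).natAbs ∣ 2 ^ k := by
      have h1 : gsum q Y l₀ ∣ (2 : ℤ) ^ k := ⟨gsum q Y l₀, by rw [← h0]; ring⟩
      have h2 := Int.natAbs_dvd_natAbs.mpr h1
      simpa [Int.natAbs_pow] using h2
    obtain ⟨n, -, hn⟩ := (Nat.dvd_prime_pow Nat.prime_two).mp hdvd
    have hk2 : k = 2 * n := by
      have h1 : ((gsum q Y l₀).natAbs : ℤ) ^ 2 = (2 : ℤ) ^ k := by
        rw [Int.natCast_natAbs, sq_abs, h0]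
      rw [hn] at h1
      have h2 : ((2 : ℕ) ^ n) ^ 2 = 2 ^ k := by exact_mod_cast h1
      rw [← pow_mul] at h2
      have := Nat.pow_right_injective (le_refl 2) h2
      omega
    -- each Gauss sum is `± 2^n`
    have hS' : ∀ l ∈ Finset.univ.erase (0 : V →+ ZMod 2),
        gsum q Y l = 2 ^ n ∨ gsum q Y l = -(2 ^ n) := by
      intro l hl
      have h1 := hS l hl
      rw [hk2, pow_mul', ] at h1
      exact sq_eq_sq_iff_eq_or_eq_neg.mp h1
    let e : (V →+ ZMod 2) → ℤ := fun l => if gsum q Y l = 2 ^ n then 1 else -1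
    have he : ∀ l ∈ Finset.univ.erase (0 : V →+ ZMod 2), gsum q Y l = 2 ^ n * e l := by
      intro l hl
      simp only [e]
      rcases hS' l hl with h | h
      · rw [if_pos h, mul_one]; exact h
      · by_cases h' : gsum q Y l = 2 ^ n
        · rw [if_pos h', mul_one]; exact h'
        · rw [if_neg h', mul_neg, mul_one]; exact h
    have he' : ∀ l ∈ Finset.univ.erase (0 : V →+ ZMod 2), e l = 1 ∨ e l = -1 := by
      intro l _
      simp only [e]
      by_cases h' : gsum q Y l = 2 ^ n
      · left; rw [if_pos h']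
      · right; rw [if_neg h']
    rw [Finset.sum_congr rfl he, ← Finset.mul_sum] at hsum
    have hodd : Odd (∑ l ∈ Finset.univ.erase (0 : V →+ ZMod 2), e l) := by
      rw [odd_sum_signs e _ he', hcardE]
      have hm1 : 1 ≤ m := by
        by_contra hm1
        have : m = 0 := by omega
        rw [this, pow_zero] at hcardE
        have : (Finset.univ.erase (0 : V →+ ZMod 2)).card ≠ 0 :=
          Finset.card_ne_zero.mpr (Finset.nonempty_iff_ne_empty.mpr hE)
        omega
      obtain ⟨j, rfl⟩ := Nat.exists_eq_add_of_le hm1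
      rw [pow_add, pow_one]
      refine ⟨2 ^ j - 1, ?_⟩
      have := Nat.one_le_two_pow (n := j)
      omega
    have harith := arith_piece n m _ hodd (by
      rw [hk, hm, hk2] at hsum
      push_cast at hsum
      exact hsum)
    rcases harith with h | h
    · left
      have hY1 : Nat.card Y = 1 := by rw [hk, hk2, h]; simp
      rw [eq_bot_iff]
      intro y hy
      rw [AddSubgroup.mem_bot]
      have hsub : Subsingleton Y := (Finite.card_le_one_iff_subsingleton).mp hY1.le
      have := Subsingleton.elim (⟨y, hy⟩ : Y) 0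
      exact congrArg Subtype.val this
    · right
      rw [hk, hm, hk2, h, ← pow_mul, mul_comm]

end Cfsg.Agent.Lib.Helper9.TIPC
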