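import Mathlib
import Cfsg.Agent.Lib.Helper1.TIDefs
import Cfsg.Agent.Lib.Helper9.TIPC

set_option autoImplicit false

/-! S3797 swarm, package FP: an odd-order element acting trivially on `V` is trivial or
fixed-point-free on `W`. -/

namespace Cfsg.Agent.Lib.Helper9.TIFP

open Cfsg.Agent.Lib.Helper1.TI Cfsg.Agent.Lib.Helper9.TIGS Cfsg.Agent.Lib.Helper9.TIPC

/-- `β` in terms of `sq`. -/
theorem β_eq {W V : Type*} [AddCommGroup W] [AddCommGroup V] (q : QMap W V) (a b : W) :
    q.β a b = q.sq (a + b) + q.sq a + q.sq b := by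
  rw [q.sq_add]
  have h1 := q.hV2 (q.sq a)
  have h2 := q.hV2 (q.sq b)
  calc q.β a b = q.β a b + (q.sq a + q.sq a) + (q.sq b + q.sq b) := by rw [h1, h2, add_zero, add_zero]
    _ = q.sq a + q.sq b + q.β a b + q.sq a + q.sq b := by abel

/-- invariance of `β` under an element acting trivially on `V`. -/
theorem β_smul_of_trivial {𝒩 W V : Type*} [Group 𝒩] [AddCommGroup W] [AddCommGroup V]
    [DistribMulAction 𝒩 W] [DistribMulAction 𝒩 V] (q : QMap W V)
    (hequiv : ∀ (n : 𝒩) (w : W), q.sq (n • w) = n • q.sq w)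
    (k : 𝒩) (hkV : ∀ v : V, k • v = v) (a b : W) : q.β (k • a) (k • b) = q.β a b := by
  rw [β_eq, β_eq, ← smul_add, hequiv, hequiv, hequiv, hkV, hkV, hkV]

/-- FP: an odd-order element acting trivially on `V` is trivial or fixed-point-free on `W`. -/
theorem fpf_of_odd {𝒩 W V : Type*} [Group 𝒩] [AddCommGroup W] [Finite W] [AddCommGroup V] [Finite V]
    [DistribMulAction 𝒩 W] [DistribMulAction 𝒩 V] (q : QMap W V)
    (hequiv : ∀ (n : 𝒩) (w : W), q.sq (n • w) = n • q.sq w)
    (hcard : Nat.card W = Nat.card V ^ 2) (hnd : Nondeg q ⊤)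
    (k : 𝒩) (hkodd : Odd (orderOf k)) (hkV : ∀ v : V, k • v = v) (hk : ∃ w : W, k • w ≠ w) :
    ∀ w : W, k • w = w → w = 0 := by
  classical
  -- `δ = k + 1`
  let δ : W →+ W :=
    { toFun := fun w => k • w + w
      map_zero' := by rw [smul_zero, add_zero]
      map_add' := fun a b => by rw [smul_add]; abel }
  have hδ : ∀ w, δ w = k • w + w := fun _ => rfl
  set Y₁ : AddSubgroup W := δ.range with hY₁
  -- powers
  have hpow_mem : ∀ (i : ℕ) (w : W), (k ^ i) • w + w ∈ Y₁ := by
    intro i
    induction i with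
    | zero => intro w; rw [pow_zero, one_smul, q.hW2]; exact Y₁.zero_mem
    | succ i ih =>
      intro w
      have h1 : (k ^ (i + 1)) • w + w = δ ((k ^ i) • w) + ((k ^ i) • w + w) := by
        rw [hδ, pow_succ', mul_smul]
        have := q.hW2 ((k ^ i) • w)
        calc k • k ^ i • w + w = k • k ^ i • w + ((k ^ i) • w + (k ^ i) • w) + w := by
              rw [this, add_zero]
          _ = k • k ^ i • w + k ^ i • w + (k ^ i • w + w) := by abel
      rw [h1]
      exact Y₁.add_mem ⟨_, rfl⟩ (ih w)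
  -- decomposition
  obtain ⟨j, hj⟩ := hkodd
  have hN : ∀ w : W, (orderOf k) • w = w := by
    intro w
    rw [hj, add_smul, mul_smul, one_smul, two_nsmul, q.hW2, zero_add]
  have hdecomp : ∀ w : W, ∃ y ∈ Y₁, ∃ c : W, k • c = c ∧ w = y + c := by
    intro w
    refine ⟨∑ i ∈ Finset.range (orderOf k), ((k ^ i) • w + w), ?_,
      ∑ i ∈ Finset.range (orderOf k), (k ^ i) • w, ?_, ?_⟩
    · exact Y₁.sum_mem (fun i _ => hpow_mem i w)
    · rw [Finset.smul_sum]
      have h1 : ∀ i, k • (k ^ i) • w = (k ^ (i + 1)) • w := by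
        intro i; rw [pow_succ', mul_smul]
      simp_rw [h1]
      have h2 := Finset.sum_range_succ' (fun i => (k ^ i) • w) (orderOf k)
      have h3 := Finset.sum_range_succ (fun i => (k ^ i) • w) (orderOf k)
      rw [h3] at h2
      simp only [pow_orderOf_eq_one, pow_zero] at h2
      exact (add_right_cancel h2).symm
    · rw [Finset.sum_add_distrib, Finset.sum_const, Finset.card_range, hN]
      have := q.hW2 (∑ i ∈ Finset.range (orderOf k), (k ^ i) • w)
      calc w = w + (∑ i ∈ Finset.range (orderOf k), (k ^ i) • w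
            + ∑ i ∈ Finset.range (orderOf k), (k ^ i) • w) := by rw [this, add_zero]
        _ = _ := by abel
  -- orthogonality
  have horth : ∀ y ∈ Y₁, ∀ c : W, k • c = c → q.β y c = 0 := by
    rintro _ ⟨s, rfl⟩ c hc
    rw [hδ, q.β_add_left]
    have h1 : q.β (k • s) c = q.β s c := by
      conv_lhs => rw [← hc]
      exact β_smul_of_trivial q hequiv k hkV s c
    rw [h1, q.hV2]
  -- non-degeneracy on `Y₁`
  have hndY : Nondeg q Y₁ := by
    intro l hl t ht hall
    apply hnd l hl t (AddSubgroup.mem_top t)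
    intro w _
    obtain ⟨y, hy, c, hc, rfl⟩ := hdecomp w
    rw [q.β_add_left, map_add, hall y hy, zero_add, q.β_comm, horth t ht c hc, map_zero]
  have hY₁ne : Y₁ ≠ ⊥ := by
    obtain ⟨w, hw⟩ := hk
    intro hbot
    have h1 : δ w ∈ Y₁ := ⟨w, rfl⟩
    rw [hbot, AddSubgroup.mem_bot, hδ] at h1
    apply hw
    have := q.hW2 w
    calc k • w = k • w + (w + w) := by rw [this, add_zero]
      _ = (k • w + w) + w := by abel
      _ = w := by rw [h1, zero_add]
  have hcardY : Nat.card Y₁ = Nat.card W := by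
    rcases piece q Y₁ hndY with h | h
    · exact absurd h hY₁ne
    · rw [h, hcard]
  -- counting
  have h1 : Nat.card W = Nat.card (W ⧸ δ.ker) * Nat.card δ.ker :=
    AddSubgroup.card_eq_card_quotient_mul_card_addSubgroup δ.ker
  have h2 : Nat.card (W ⧸ δ.ker) = Nat.card δ.range :=
    Nat.card_congr (QuotientAddGroup.quotientKerEquivRange δ).toEquiv
  rw [h2, hcardY] at h1
  have hWpos : 0 < Nat.card W := Nat.card_pos
  have hker : Nat.card δ.ker = 1 := by
    have : Nat.card W * 1 = Nat.card W * Nat.card δ.ker := by rw [mul_one]; exact h1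
    exact (Nat.eq_of_mul_eq_mul_left hWpos this).symm
  intro w hw
  have hmem : w ∈ δ.ker := by
    rw [AddMonoidHom.mem_ker, hδ, hw, q.hW2]
  have hsub : Subsingleton δ.ker := (Finite.card_le_one_iff_subsingleton).mp hker.le
  have := Subsingleton.elim (⟨w, hmem⟩ : δ.ker) 0
  exact congrArg Subtype.val this

end Cfsg.Agent.Lib.Helper9.TIFP
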