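import Mathlib
import Cfsg.Agent.Lib.Helper2.HermFrames3

/-!
# S5984: abstract lemmas on pairs of complementary totally singular subspaces
-/

set_option autoImplicit false

namespace Cfsg.Agent.Lib.Helper9.UPol

open Module Cfsg.Agent.Lib.Helper2 Cfsg.Agent.Lib.Helper2.IsomDecomp
  Cfsg.Agent.Lib.Helper2.HermDecomp Cfsg.Agent.Lib.Helper2.HermFrames
  Cfsg.Agent.Lib.Helper5.PSLCoset

variable {F : Type*} [Field F] {σ : F ≃+* F} {V : Type*} [AddCommGroup V] [Module F V]
  {H : V → V → F}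

/-- `x` fixes or interchanges `A` and `B` -/
def PairStab (x : V →ₗ[F] V) (A B : Submodule F V) : Prop :=
  (A.map x = A ∧ B.map x = B) ∨ (A.map x = B ∧ B.map x = A)

/-- totally singular subspaces -/
def TS (H : V → V → F) (A : Submodule F V) : Prop := ∀ u ∈ A, ∀ v ∈ A, H u v = 0

/-- nondegenerate subspaces -/
def ND (H : V → V → F) (K : Submodule F V) : Prop := ∀ u ∈ K, (∀ v ∈ K, H u v = 0) → u = 0

theorem ts_finrank_le [FiniteDimensional F V] [Finite F] (hσ : orderOf σ = 2) (h : IsHerm σ H)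
    (hnd : ∀ v, (∀ w, H v w = 0) → v = 0) {K T : Submodule F V} (hK : ND H K) (hTK : T ≤ K)
    (hT : TS H T) : 2 * finrank F T ≤ finrank F K := by
  have h1 := finrank_orthoCompl hσ h hnd K
  have h2 := finrank_orthoCompl hσ h hnd T
  have h3 : orthoCompl h K ⊔ T ≤ orthoCompl h T := by
    apply sup_le
    · intro v hv w hw
      exact hv w (hTK hw)
    · intro v hv w hw
      exact hT w hw v hv
  have h4 : orthoCompl h K ⊓ T = ⊥ := by
    rw [eq_bot_iff]
    rintro v ⟨hv1, hv2⟩
    rw [Submodule.mem_bot]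
    apply hK v (hTK hv2)
    intro w hw
    exact eq_zero_of_symm h (hv1 w hw)
  have h5 := Submodule.finrank_sup_add_finrank_inf_eq (orthoCompl h K) T
  rw [h4, finrank_bot, add_zero] at h5
  have h6 := Submodule.finrank_mono h3
  omega

theorem nd_top (hnd : ∀ v, (∀ w, H v w = 0) → v = 0) : ND H (⊤ : Submodule F V) :=
  fun u _ hu => hnd u (fun w => hu w trivial)

/-- a nondegenerate subspace of odd dimension which is the kernel of an operator preserving
`A` and `B` cannot exist when `A`, `B` are complementary and totally singular -/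
theorem no_split_odd [FiniteDimensional F V] [Finite F] (hσ : orderOf σ = 2) (h : IsHerm σ H)
    (hnd : ∀ v, (∀ w, H v w = 0) → v = 0) (P : V →ₗ[F] V) {A B : Submodule F V}
    (hAB : A ⊓ B = ⊥) (hsup : A ⊔ B = ⊤) (hA : TS H A) (hB : TS H B)
    (hPA : ∀ a ∈ A, P a ∈ A) (hPB : ∀ b ∈ B, P b ∈ B)
    {K : Submodule F V} (hker : LinearMap.ker P = K)
    (hK : ND H K) (hodd : Odd (finrank F K)) : False := by
  have hsplit : K ≤ (K ⊓ A) ⊔ (K ⊓ B) := by
    intro k hk
    have hk' : k ∈ A ⊔ B := by rw [hsup]; trivial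
    obtain ⟨a, ha, b, hb, rfl⟩ := Submodule.mem_sup.1 hk'
    have h0 : P a + P b = 0 := by
      rw [← hker] at hk
      have := LinearMap.mem_ker.1 hk
      rwa [map_add] at this
    have hPa : P a ∈ A ⊓ B := by
      refine ⟨hPA a ha, ?_⟩
      have : P a = -P b := eq_neg_of_add_eq_zero_left h0
      rw [this]
      exact B.neg_mem (hPB b hb)
    rw [hAB, Submodule.mem_bot] at hPa
    have hPb : P b = 0 := by rw [hPa, zero_add] at h0; exact h0
    have ha' : a ∈ K := by rw [← hker]; exact LinearMap.mem_ker.2 hPa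
    have hb' : b ∈ K := by rw [← hker]; exact LinearMap.mem_ker.2 hPb
    exact Submodule.add_mem_sup ⟨ha', ha⟩ ⟨hb', hb⟩
  have hle : (K ⊓ A) ⊔ (K ⊓ B) ≤ K := sup_le inf_le_left inf_le_left
  have heq : (K ⊓ A) ⊔ (K ⊓ B) = K := le_antisymm hle hsplit
  have hdisj : (K ⊓ A) ⊓ (K ⊓ B) = ⊥ := by
    rw [eq_bot_iff, ← hAB]
    exact inf_le_inf inf_le_right inf_le_right
  have h5 := Submodule.finrank_sup_add_finrank_inf_eq (K ⊓ A) (K ⊓ B)
  rw [hdisj, finrank_bot, add_zero, heq] at h5
  have h6 := ts_finrank_le hσ h hnd hK (inf_le_left : K ⊓ A ≤ K)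
    (fun u hu v hv => hA u hu.2 v hv.2)
  have h7 := ts_finrank_le hσ h hnd hK (inf_le_left : K ⊓ B ≤ K)
    (fun u hu v hv => hB u hu.2 v hv.2)
  obtain ⟨t, ht⟩ := hodd
  omega

/-- an element whose odd power is a scalar cannot interchange `A` and `B` -/
theorem swap_odd_false (X : V ≃ₗ[F] V) {A B : Submodule F V} (hAB : A ⊓ B = ⊥) (hA0 : A ≠ ⊥)
    {r : ℕ} (hr : Odd r) {z : F} (hX : ∀ v, (X ^ r) v = z • v)
    (h1 : A.map (X : V →ₗ[F] V) = B) (h2 : B.map (X : V →ₗ[F] V) = A) : False := by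
  obtain ⟨a, ha, ha0⟩ := Submodule.exists_mem_ne_zero_of_ne_bot hA0
  have hz : z ≠ 0 := by
    rintro rfl
    have := hX a
    rw [zero_smul] at this
    exact ha0 ((X ^ r).map_eq_zero_iff.1 this)
  have hmem : ∀ k : ℕ, ∀ a ∈ A, (X ^ (2 * k)) a ∈ A := by
    intro k
    induction k with
    | zero => intro a ha; simpa using ha
    | succ k ih =>
      intro a ha
      have e : X ^ (2 * (k + 1)) = X * X * X ^ (2 * k) := by
        rw [show 2 * (k + 1) = 2 + 2 * k by ring, pow_add, pow_two]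
      rw [e, LinearEquiv.mul_apply, LinearEquiv.mul_apply]
      have h3 : X ((X ^ (2 * k)) a) ∈ B := by
        rw [← h1]; exact ⟨_, ih a ha, rfl⟩
      rw [← h2]; exact ⟨_, h3, rfl⟩
  obtain ⟨k, hk⟩ := hr
  have h3 : (X ^ (2 * (k + 1))) a ∈ A := hmem (k + 1) a ha
  have h4 : (X ^ (2 * (k + 1))) a = z • X a := by
    have e : X ^ (2 * (k + 1)) = X ^ r * X := by
      rw [hk, show 2 * (k + 1) = 2 * k + 1 + 1 by ring, pow_succ]
    rw [e, LinearEquiv.mul_apply, hX]
  have h5 : X a ∈ B := by rw [← h1]; exact ⟨a, ha, rfl⟩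
  have h6 : X a ∈ A := by
    rw [h4] at h3
    have := A.smul_mem z⁻¹ h3
    rwa [smul_smul, inv_mul_cancel₀ hz, one_smul] at this
  have h7 : X a ∈ A ⊓ B := ⟨h6, h5⟩
  rw [hAB, Submodule.mem_bot] at h7
  exact ha0 (X.map_eq_zero_iff.1 h7)

/-- an element differing from a scalar by a rank one operator cannot interchange `A` and `B`
when these have dimension at least two -/
theorem rank_one_swap_false [FiniteDimensional F V] (X : V ≃ₗ[F] V) (c : F) (a : V)
    (hXa : ∀ v, X v - c • v ∈ Submodule.span F {a}) {A B : Submodule F V}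
    (hAB : A ⊓ B = ⊥) (hA2 : 2 ≤ finrank F A) (h1 : A.map (X : V →ₗ[F] V) = B) : False := by
  let φ : A →ₗ[F] Submodule.span F {a} :=
    { toFun := fun u => ⟨X (u : V) - c • (u : V), hXa u⟩
      map_add' := by
        intro u v
        apply Subtype.ext
        show X ((u : V) + (v : V)) - c • ((u : V) + (v : V)) =
          (X (u : V) - c • (u : V)) + (X (v : V) - c • (v : V))
        rw [map_add, smul_add]
        abel
      map_smul' := by
        intro t u
        apply Subtype.ext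
        show X (t • (u : V)) - c • (t • (u : V)) = t • (X (u : V) - c • (u : V))
        rw [map_smul, smul_sub, smul_comm c t] }
  have hinj : Function.Injective φ := by
    rw [← LinearMap.ker_eq_bot, LinearMap.ker_eq_bot']
    intro u hu
    have h0 : X (u : V) - c • (u : V) = 0 := congrArg Subtype.val hu
    have h2 : X (u : V) ∈ A := by
      rw [sub_eq_zero.1 h0]; exact A.smul_mem c u.2
    have h3 : X (u : V) ∈ B := by rw [← h1]; exact ⟨u, u.2, rfl⟩
    have h4 : X (u : V) ∈ A ⊓ B := ⟨h2, h3⟩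
    rw [hAB, Submodule.mem_bot] at h4
    exact Subtype.ext (X.map_eq_zero_iff.1 h4)
  have h5 := LinearMap.finrank_le_finrank_of_injective hinj
  have h6 : finrank F (Submodule.span F {a}) ≤ 1 := by
    have := finrank_span_le_card (R := F) ({a} : Set V)
    simpa using this
  omega

/-- an element differing from a scalar by a rank one operator with anisotropic image, and
preserving `A` and `B`, is scalar -/
theorem rank_one_fix_scalar (X : V ≃ₗ[F] V) (c : F) (a : V)
    (hXa : ∀ v, X v - c • v ∈ Submodule.span F {a}) (haa : H a a ≠ 0) {A B : Submodule F V}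
    (hsup : A ⊔ B = ⊤) (hA : TS H A) (hB : TS H B)
    (h1 : ∀ u ∈ A, X u ∈ A) (h2 : ∀ u ∈ B, X u ∈ B) : ∀ v, X v = c • v := by
  have key : ∀ C : Submodule F V, TS H C → (∀ u ∈ C, X u ∈ C) → ∀ u ∈ C, X u = c • u := by
    intro C hC hXC u hu
    obtain ⟨t, ht⟩ := Submodule.mem_span_singleton.1 (hXa u)
    by_cases ht0 : t = 0
    · rw [ht0, zero_smul] at ht
      exact sub_eq_zero.1 ht.symm
    · exfalso
      have h3 : t • a ∈ C := by rw [ht]; exact C.sub_mem (hXC u hu) (C.smul_mem c hu)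
      have h4 : a ∈ C := by
        have := C.smul_mem t⁻¹ h3
        rwa [smul_smul, inv_mul_cancel₀ ht0, one_smul] at this
      exact haa (hC a h4 a h4)
  intro v
  have hv : v ∈ A ⊔ B := by rw [hsup]; trivial
  obtain ⟨a', ha', b', hb', rfl⟩ := Submodule.mem_sup.1 hv
  rw [map_add, key A hA h1 a' ha', key B hB h2 b' hb', smul_add]

/-- a unitary transvection preserves no pair of complementary totally singular subspaces -/
theorem tv_fix_false (h : IsHerm σ H) (hnd : ∀ v, (∀ w, H v w = 0) → v = 0) (a : V) (ha0 : a ≠ 0)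
    (μ : F) (hμ : μ ≠ 0) (X : V ≃ₗ[F] V) (hX : ∀ v, X v = v + (μ * H v a) • a)
    {A B : Submodule F V} (hsup : A ⊔ B = ⊤) (hA : TS H A) (hB : TS H B)
    (h1 : ∀ u ∈ A, X u ∈ A) (h2 : ∀ u ∈ B, X u ∈ B) : False := by
  have key : ∀ C : Submodule F V, (∀ u ∈ C, X u ∈ C) → ∀ u ∈ C, H u a ≠ 0 → a ∈ C := by
    intro C hXC u hu hne
    have h3 : (μ * H u a) • a ∈ C := by
      have := C.sub_mem (hXC u hu) hu
      rwa [hX, add_sub_cancel_left] at this
    have := C.smul_mem (μ * H u a)⁻¹ h3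
    rwa [smul_smul, inv_mul_cancel₀ (mul_ne_zero hμ hne), one_smul] at this
  have hAz : ∀ u ∈ A, H u a = 0 := by
    intro u hu
    by_contra hne
    exact hne (hA u hu a (key A h1 u hu hne))
  have hBz : ∀ u ∈ B, H u a = 0 := by
    intro u hu
    by_contra hne
    exact hne (hB u hu a (key B h2 u hu hne))
  apply ha0
  apply hnd
  intro w
  have hw : w ∈ A ⊔ B := by rw [hsup]; trivial
  obtain ⟨a', ha', b', hb', rfl⟩ := Submodule.mem_sup.1 hw
  rw [h.add_right, eq_zero_of_symm h (hAz a' ha'), eq_zero_of_symm h (hBz b' hb'), add_zero]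

/-- the two cases of `PairStab` in terms of elements -/
theorem mapsTo_of_map_eq {X : V ≃ₗ[F] V} {A B : Submodule F V}
    (h : A.map (X : V →ₗ[F] V) = B) : ∀ u ∈ A, X u ∈ B := by
  intro u hu
  rw [← h]
  exact ⟨u, hu, rfl⟩

theorem map_eq_of_mapsTo [FiniteDimensional F V] {X : V ≃ₗ[F] V} {A B : Submodule F V}
    (hdim : finrank F A = finrank F B) (h : ∀ u ∈ A, X u ∈ B) :
    A.map (X : V →ₗ[F] V) = B := by
  apply Submodule.eq_of_le_of_finrank_eq
  · rintro _ ⟨u, hu, rfl⟩
    exact h u hu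
  · rw [← hdim]
    exact LinearEquiv.finrank_map_eq X A

end Cfsg.Agent.Lib.Helper9.UPol
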