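import Mathlib

/-!
# S5963, package L3: arithmetic of the number of pairs of complementary Lagrangians
-/

set_option autoImplicit false

namespace Cfsg.Agent.Lib.Carve.L3

open Finset

theorem prod_gl (q d : ℕ) (hq : 1 ≤ q) :
    ∏ i : Fin d, (q ^ d - q ^ (i : ℕ)) =
      (∏ i ∈ range d, q ^ i) * ∏ i ∈ range d, (q ^ (i + 1) - 1) := by
  rw [Fin.prod_univ_eq_prod_range (fun i => q ^ d - q ^ i) d]
  rw [← Finset.prod_range_reflect (fun i => q ^ (i + 1) - 1) d, ← Finset.prod_mul_distrib]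
  apply Finset.prod_congr rfl
  intro i hi
  rw [Finset.mem_range] at hi
  have h1 : d - 1 - i + 1 = d - i := by omega
  rw [h1, Nat.mul_sub, mul_one, ← pow_add]
  congr 2
  omega

theorem prod_sp (q d : ℕ) (hq : 1 ≤ q) :
    ∏ i ∈ range d, (q ^ (2 * (i + 1)) - 1) =
      (∏ i ∈ range d, (q ^ (i + 1) - 1)) * ∏ i ∈ range d, (q ^ (i + 1) + 1) := by
  rw [← Finset.prod_mul_distrib]
  apply Finset.prod_congr rfl
  intro i _
  have h1 : 1 ≤ q ^ (i + 1) := Nat.one_le_pow _ _ hq
  have h2 : q ^ (2 * (i + 1)) = q ^ (i + 1) * q ^ (i + 1) := by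
    rw [two_mul, pow_add]
  rw [h2]
  zify [h1, Nat.mul_le_mul h1 h1]
  ring

theorem arith {q d r N : ℕ} (hq : 2 ≤ q) (hqo : Odd q) (hd : 1 ≤ d) (hr : r.Prime) (hr2 : r ≠ 2)
    (hrq : ¬ r ∣ q)
    (hN : N * ∏ i : Fin d, (q ^ d - q ^ (i : ℕ)) =
      q ^ (d ^ 2) * ∏ i ∈ Finset.range d, (q ^ (2 * (i + 1)) - 1))
    (hΩ : r ∣ N / 2) :
    ∃ h, 1 ≤ h ∧ h ≤ d ∧ r ∣ q ^ h + 1 ∧ orderOf (q : ZMod r) = 2 * h := by
  haveI : Fact r.Prime := ⟨hr⟩
  have hq1 : 1 ≤ q := by omega
  set A := ∏ i ∈ range d, (q ^ (i + 1) - 1) with hA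
  set B := ∏ i ∈ range d, (q ^ (i + 1) + 1) with hB
  set S := ∏ i ∈ range d, q ^ i with hS
  rw [prod_gl q d hq1, prod_sp q d hq1] at hN
  have hApos : 0 < A := by
    apply Finset.prod_pos
    intro i _
    have : 2 ≤ q ^ (i + 1) := by
      calc 2 ≤ q := hq
        _ = q ^ 1 := (pow_one q).symm
        _ ≤ q ^ (i + 1) := Nat.pow_le_pow_right hq1 (by omega)
    omega
  have hN' : N * S = q ^ (d ^ 2) * B := by
    have : (N * S) * A = (q ^ (d ^ 2) * B) * A := by
      calc (N * S) * A = N * (S * A) := by ring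
        _ = q ^ (d ^ 2) * (A * B) := hN
        _ = (q ^ (d ^ 2) * B) * A := by ring
    exact Nat.eq_of_mul_eq_mul_right hApos this
  have hSodd : Odd S := by
    apply Finset.prod_induction _ (fun n => Odd n)
    · intro a b ha hb
      exact ha.mul hb
    · exact odd_one
    · intro i _
      exact hqo.pow
  have hBeven : Even B := by
    have h0 : 0 ∈ range d := Finset.mem_range.2 (by omega)
    have : (q ^ (0 + 1) + 1) ∣ B := Finset.dvd_prod_of_mem (fun i => q ^ (i + 1) + 1) h0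
    have h2 : 2 ∣ q ^ (0 + 1) + 1 := by
      rw [zero_add, pow_one]
      obtain ⟨k, hk⟩ := hqo
      exact ⟨k + 1, by omega⟩
    exact even_iff_two_dvd.2 (h2.trans this)
  have hNeven : Even N := by
    have h1 : Even (N * S) := by
      rw [hN']
      exact hBeven.mul_left _
    rcases Nat.even_mul.1 h1 with h | h
    · exact h
    · exact absurd h (Nat.not_even_iff_odd.2 hSodd)
  have hrN : r ∣ N := by
    obtain ⟨k, hk⟩ := hNeven
    have : N / 2 = k := by omega
    rw [this] at hΩ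
    rw [hk]
    exact hΩ.mul_right _ |>.trans (by rw [← two_mul, mul_comm])
  have hrB : r ∣ B := by
    have h1 : r ∣ q ^ (d ^ 2) * B := by
      rw [← hN']
      exact hrN.mul_right _
    rcases (Nat.Prime.dvd_mul hr).1 h1 with h | h
    · exact absurd (hr.dvd_of_dvd_pow h) hrq
    · exact h
  obtain ⟨i, hi, hri⟩ := (Prime.dvd_finset_prod_iff hr.prime _).1 hrB
  rw [Finset.mem_range] at hi
  set j := i + 1 with hj
  -- in `ZMod r`
  have hqj : (q : ZMod r) ^ j = -1 := by
    have h1 : ((q ^ j + 1 : ℕ) : ZMod r) = 0 := (ZMod.natCast_eq_zero_iff _ _).2 hri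
    push_cast at h1
    exact eq_neg_of_add_eq_zero_left h1
  have hne : (1 : ZMod r) ≠ -1 := by
    intro h
    have h2 : ((2 : ℕ) : ZMod r) = 0 := by
      push_cast
      linear_combination h
    have h3 := (ZMod.natCast_eq_zero_iff _ _).1 h2
    have := (Nat.prime_dvd_prime_iff_eq hr Nat.prime_two).1 h3
    exact hr2 this
  set c := orderOf (q : ZMod r) with hc
  have hc2j : c ∣ 2 * j := by
    apply orderOf_dvd_of_pow_eq_one
    rw [mul_comm, pow_mul, hqj]
    norm_num
  have hcj : ¬ c ∣ j := by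
    intro h
    have := orderOf_dvd_iff_pow_eq_one.1 h
    rw [hqj] at this
    exact hne this.symm
  have hceven : Even c := by
    by_contra hodd
    rw [Nat.not_even_iff_odd] at hodd
    have hcop : Nat.Coprime c 2 := (Nat.coprime_two_right).2 hodd
    exact hcj (hcop.dvd_of_dvd_mul_left hc2j)
  obtain ⟨h, hh⟩ := hceven
  have hch : c = 2 * h := by omega
  have hhj : h ∣ j := by
    rw [hch] at hc2j
    exact (Nat.mul_dvd_mul_iff_left (by norm_num : 0 < 2)).1 hc2j
  have hjpos : 0 < j := by omega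
  have hh1 : 1 ≤ h := by
    rcases Nat.eq_zero_or_pos h with h0 | h0
    · rw [h0] at hhj
      have := zero_dvd_iff.1 hhj
      omega
    · exact h0
  refine ⟨h, hh1, (Nat.le_of_dvd hjpos hhj).trans (by omega), ?_, hch⟩
  -- `q ^ h = -1`
  have hsq : ((q : ZMod r) ^ h) ^ 2 = 1 := by
    rw [← pow_mul, mul_comm, ← hch]
    exact pow_orderOf_eq_one _
  have hne1 : (q : ZMod r) ^ h ≠ 1 := by
    intro h1
    have := orderOf_dvd_of_pow_eq_one h1
    rw [← hc, hch] at this
    have := Nat.le_of_dvd (by omega) this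
    omega
  have hqh : (q : ZMod r) ^ h = -1 := by
    have h3 : ((q : ZMod r) ^ h - 1) * ((q : ZMod r) ^ h + 1) = 0 := by
      linear_combination hsq
    rcases mul_eq_zero.1 h3 with h4 | h4
    · exact absurd (sub_eq_zero.1 h4) hne1
    · exact eq_neg_of_add_eq_zero_left h4
  apply (ZMod.natCast_eq_zero_iff _ _).1
  push_cast
  rw [hqh]
  ring

end Cfsg.Agent.Lib.Carve.L3
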