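import Mathlib
import Cfsg.Agent.Lib.Helper9.UPol1

/-!
# S5984: hyperbolic bases adapted to a pair of complementary totally singular subspaces
-/

set_option autoImplicit false

namespace Cfsg.Agent.Lib.Helper9.UPol

open Module Cfsg.Agent.Lib.Helper2 Cfsg.Agent.Lib.Helper2.IsomDecomp
  Cfsg.Agent.Lib.Helper2.HermDecomp Cfsg.Agent.Lib.Helper2.HermFrames
  Cfsg.Agent.Lib.Helper5.PSLCoset

variable {F : Type*} [Field F] {σ : F ≃+* F} {V : Type*} [AddCommGroup V] [Module F V]
  {H : V → V → F}

/-- expansion of the form in a basis -/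
theorem form_basis {ι : Type*} [Fintype ι] (h : IsHerm σ H) (b : Basis ι F V) (x y : V) :
    H x y = ∑ k, ∑ l, b.repr x k * σ (b.repr y l) * H (b k) (b l) := by
  conv_lhs => rw [← b.sum_repr x, ← b.sum_repr y]
  rw [sum_left h]
  apply Finset.sum_congr rfl
  intro k _
  rw [sum_right h, Finset.mul_sum]
  apply Finset.sum_congr rfl
  intro l _
  ring

/-- two bases with the same Gram matrix differ by an isometry -/
theorem isom_of_gram {ι : Type*} [Fintype ι] (h : IsHerm σ H) (b b' : Basis ι F V)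
    (hbb : ∀ k l, H (b k) (b l) = H (b' k) (b' l)) :
    (b.repr.trans b'.repr.symm : V ≃ₗ[F] V) ∈ isom H := by
  intro x y
  have e : ∀ x, b'.repr ((b.repr.trans b'.repr.symm) x) = b.repr x := by
    intro x
    rw [LinearEquiv.trans_apply, LinearEquiv.apply_symm_apply]
  rw [form_basis h b' _ _, form_basis h b x y]
  simp only [e, hbb]

theorem gram_equiv_apply {ι : Type*} (b b' : Basis ι F V) (k : ι) :
    (b.repr.trans b'.repr.symm : V ≃ₗ[F] V) (b k) = b' k := by
  rw [LinearEquiv.trans_apply, Basis.repr_self, Basis.repr_symm_single_one]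

/-- the hyperbolic Gram matrix -/
def hypGram (F : Type*) [Field F] {m : ℕ} : Fin m ⊕ Fin m → Fin m ⊕ Fin m → F
  | Sum.inl i, Sum.inr j => if i = j then 1 else 0
  | Sum.inr i, Sum.inl j => if i = j then 1 else 0
  | _, _ => 0

/-- hyperbolic families -/
def IsHyp (H : V → V → F) {m : ℕ} (w : Fin m ⊕ Fin m → V) : Prop :=
  ∀ k l, H (w k) (w l) = hypGram F k l

theorem exists_basis_of_isHyp [FiniteDimensional F V] (h : IsHerm σ H) {m : ℕ}
    (w : Fin m ⊕ Fin m → V) (hw : IsHyp H w) (hfin : finrank F V = 2 * m) :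
    ∃ b : Basis (Fin m ⊕ Fin m) F V, ⇑b = w := by
  classical
  have hli : LinearIndependent F w := by
    rw [Fintype.linearIndependent_iff]
    intro c hc k
    have key : ∀ l, ∑ k, c k * hypGram F k l = 0 := by
      intro l
      have h1 : H (∑ k, c k • w k) (w l) = 0 := by rw [hc]; exact h.zero_left _
      rw [sum_left h] at h1
      simpa only [hw _ _] using h1
    cases k with
    | inl i =>
      have := key (Sum.inr i)
      rw [Fintype.sum_sum_type] at this
      simpa [hypGram] using this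
    | inr i =>
      have := key (Sum.inl i)
      rw [Fintype.sum_sum_type] at this
      simpa [hypGram] using this
  have hcard : Fintype.card (Fin m ⊕ Fin m) = finrank F V := by
    rw [Fintype.card_sum, Fintype.card_fin, hfin]; ring
  have hsp : Submodule.span F (Set.range w) = ⊤ := hli.span_eq_top_of_card_eq_finrank' hcard
  exact ⟨Basis.mk hli (by rw [hsp]), Basis.coe_mk _ _⟩

/-- the dual family in `B` of a basis of `A` -/
theorem exists_dual [FiniteDimensional F V] [Finite F] (hσ : orderOf σ = 2) (h : IsHerm σ H)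
    (hnd : ∀ v, (∀ w, H v w = 0) → v = 0) {A B : Submodule F V}
    (hsup : A ⊔ B = ⊤) (hB : TS H B) {m : ℕ} (hBm : finrank F B = m)
    (u : Basis (Fin m) F A) :
    ∃ v : Fin m → V, (∀ j, v j ∈ B) ∧
      ∀ i j, H (u i : V) (v j) = if i = j then 1 else 0 := by
  classical
  let ψ : B →ₗ[F] (Fin m → F) :=
    { toFun := fun b i => H (b : V) (u i : V)
      map_add' := by intro x y; funext i; exact h.add_left _ _ _
      map_smul' := by intro t x; funext i; exact h.smul_left _ _ _ }
  have hinj : Function.Injective ψ := by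
    rw [← LinearMap.ker_eq_bot, LinearMap.ker_eq_bot']
    intro b hb
    have h0 : ∀ i, H (b : V) (u i : V) = 0 := fun i => congrFun hb i
    have h1 : ∀ a ∈ A, H a (b : V) = 0 :=
      eq_zero_of_basis h A u (b : V) (fun j => eq_zero_of_symm h (h0 j))
    have h2 : (b : V) = 0 := by
      apply hnd
      intro w
      have hw : w ∈ A ⊔ B := by rw [hsup]; trivial
      obtain ⟨a', ha', b', hb', rfl⟩ := Submodule.mem_sup.1 hw
      rw [h.add_right, eq_zero_of_symm h (h1 a' ha'), hB _ b.2 _ hb', add_zero]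
    exact Subtype.ext h2
  have hsurj : Function.Surjective ψ :=
    (LinearMap.injective_iff_surjective_of_finrank_eq_finrank
      (by rw [hBm, Module.finrank_fin_fun])).1 hinj
  choose v hv using fun j => hsurj (Pi.single j 1)
  refine ⟨fun j => (v j : V), fun j => (v j).2, ?_⟩
  intro i j
  have h1 : H ((v j : B) : V) (u i : V) = (Pi.single j (1 : F) : Fin m → F) i :=
    congrFun (hv j) i
  rw [h.symm, h1, Pi.single_apply]
  split_ifs <;> simp

/-- a hyperbolic basis adapted to `A`, `B`, extending a given basis of `A` -/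
theorem exists_hyp_basis [FiniteDimensional F V] [Finite F] (hσ : orderOf σ = 2)
    (h : IsHerm σ H) (hnd : ∀ v, (∀ w, H v w = 0) → v = 0) {A B : Submodule F V}
    (hsup : A ⊔ B = ⊤) (hA : TS H A) (hB : TS H B) {m : ℕ} (hBm : finrank F B = m)
    (hV : finrank F V = 2 * m) (u : Basis (Fin m) F A) :
    ∃ b : Basis (Fin m ⊕ Fin m) F V, IsHyp H ⇑b ∧ (∀ i, b (Sum.inl i) = (u i : V)) ∧
      (∀ i, b (Sum.inr i) ∈ B) := by
  obtain ⟨v, hvB, huv⟩ := exists_dual hσ h hnd hsup hB hBm u
  have hw : IsHyp H (Sum.elim (fun i => (u i : V)) v) := by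
    intro k l
    cases k with
    | inl i =>
      cases l with
      | inl j => exact hA _ (u i).2 _ (u j).2
      | inr j => exact huv i j
    | inr i =>
      cases l with
      | inl j =>
        show H (v i) (u j : V) = if i = j then 1 else 0
        rw [h.symm, huv j i]
        by_cases hij : i = j
        · subst hij; simp
        · rw [if_neg hij, if_neg (Ne.symm hij), map_zero]
      | inr j => exact hB _ (hvB i) _ (hvB j)
  obtain ⟨b, hb⟩ := exists_basis_of_isHyp h _ hw hV
  refine ⟨b, ?_, ?_, ?_⟩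
  · rw [hb]; exact hw
  · intro i; rw [hb]; rfl
  · intro i; rw [hb]; exact hvB i

theorem span_inl_eq [FiniteDimensional F V] {m : ℕ} (b : Basis (Fin m ⊕ Fin m) F V)
    {A : Submodule F V} (hAm : finrank F A = m) (hb : ∀ i, b (Sum.inl i) ∈ A) :
    Submodule.span F (Set.range (⇑b ∘ Sum.inl)) = A := by
  apply Submodule.eq_of_le_of_finrank_eq
  · rw [Submodule.span_le]
    rintro _ ⟨i, rfl⟩
    exact hb i
  · rw [finrank_span_eq_card (b.linearIndependent.comp _ Sum.inl_injective), Fintype.card_fin,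
      hAm]

theorem span_inr_eq [FiniteDimensional F V] {m : ℕ} (b : Basis (Fin m ⊕ Fin m) F V)
    {B : Submodule F V} (hBm : finrank F B = m) (hb : ∀ i, b (Sum.inr i) ∈ B) :
    Submodule.span F (Set.range (⇑b ∘ Sum.inr)) = B := by
  apply Submodule.eq_of_le_of_finrank_eq
  · rw [Submodule.span_le]
    rintro _ ⟨i, rfl⟩
    exact hb i
  · rw [finrank_span_eq_card (b.linearIndependent.comp _ Sum.inr_injective), Fintype.card_fin,
      hBm]

theorem mapsTo_of_span {ι : Type*} (g : V ≃ₗ[F] V) (w : ι → V) (C : Submodule F V)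
    (hw : ∀ i, g (w i) ∈ C) : ∀ a ∈ Submodule.span F (Set.range w), g a ∈ C := by
  intro a ha
  induction ha using Submodule.span_induction with
  | mem x hx =>
    obtain ⟨i, rfl⟩ := hx
    exact hw i
  | zero => rw [map_zero]; exact C.zero_mem
  | add x y _ _ hx hy => rw [map_add]; exact C.add_mem hx hy
  | smul c x _ hx => rw [map_smul]; exact C.smul_mem c hx

/-- the isometry group is transitive on pairs of complementary totally singular subspaces -/
theorem exists_isom_pair [FiniteDimensional F V] [Finite F] (hσ : orderOf σ = 2)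
    (h : IsHerm σ H) (hnd : ∀ v, (∀ w, H v w = 0) → v = 0) {A B A' B' : Submodule F V}
    {m : ℕ} (hV : finrank F V = 2 * m)
    (hsup : A ⊔ B = ⊤) (hA : TS H A) (hB : TS H B) (hAm : finrank F A = m)
    (hBm : finrank F B = m)
    (hsup' : A' ⊔ B' = ⊤) (hA' : TS H A') (hB' : TS H B') (hAm' : finrank F A' = m)
    (hBm' : finrank F B' = m) :
    ∃ g ∈ isom H, (∀ a ∈ A, g a ∈ A') ∧ (∀ b ∈ B, g b ∈ B') := by
  obtain ⟨b, hb, hbA, hbB⟩ := exists_hyp_basis hσ h hnd hsup hA hB hBm hV
    (finBasisOfFinrankEq F A hAm)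
  obtain ⟨b', hb', hbA', hbB'⟩ := exists_hyp_basis hσ h hnd hsup' hA' hB' hBm' hV
    (finBasisOfFinrankEq F A' hAm')
  have hbA1 : ∀ i, b (Sum.inl i) ∈ A := fun i => by rw [hbA]; exact Subtype.coe_prop _
  have hbA1' : ∀ i, b' (Sum.inl i) ∈ A' := fun i => by rw [hbA']; exact Subtype.coe_prop _
  refine ⟨b.repr.trans b'.repr.symm, isom_of_gram h b b' (fun k l => by rw [hb, hb']), ?_, ?_⟩
  · intro a ha
    rw [← span_inl_eq b hAm hbA1] at ha
    exact mapsTo_of_span _ _ A' (fun i => by rw [Function.comp_apply, gram_equiv_apply]; exact hbA1' i) a ha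
  · intro x hx
    rw [← span_inr_eq b hBm hbB] at hx
    exact mapsTo_of_span _ _ B' (fun i => by rw [Function.comp_apply, gram_equiv_apply]; exact hbB' i) x hx

/-- every automorphism of `A` extends to an isometry preserving `B` -/
theorem exists_isom_extend [FiniteDimensional F V] [Finite F] (hσ : orderOf σ = 2)
    (h : IsHerm σ H) (hnd : ∀ v, (∀ w, H v w = 0) → v = 0) {A B : Submodule F V}
    {m : ℕ} (hV : finrank F V = 2 * m)
    (hsup : A ⊔ B = ⊤) (hA : TS H A) (hB : TS H B) (hAm : finrank F A = m)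
    (hBm : finrank F B = m) (ℓ : A ≃ₗ[F] A) :
    ∃ g ∈ isom H, (∀ a : A, g (a : V) = (ℓ a : V)) ∧ (∀ b ∈ B, g b ∈ B) := by
  set u := finBasisOfFinrankEq F A hAm with hu
  obtain ⟨b, hb, hbA, hbB⟩ := exists_hyp_basis hσ h hnd hsup hA hB hBm hV u
  obtain ⟨b', hb', hbA', hbB'⟩ := exists_hyp_basis hσ h hnd hsup hA hB hBm hV (u.map ℓ)
  refine ⟨b.repr.trans b'.repr.symm, isom_of_gram h b b' (fun k l => by rw [hb, hb']), ?_, ?_⟩
  · have hmaps : ((b.repr.trans b'.repr.symm : V ≃ₗ[F] V) : V →ₗ[F] V) ∘ₗ A.subtype =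
        A.subtype ∘ₗ (ℓ : A →ₗ[F] A) := by
      apply u.ext
      intro i
      show (b.repr.trans b'.repr.symm : V ≃ₗ[F] V) (u i : V) = (ℓ (u i) : V)
      rw [← hbA, gram_equiv_apply, hbA']
      rfl
    intro a
    exact LinearMap.congr_fun hmaps a
  · intro x hx
    rw [← span_inr_eq b hBm hbB] at hx
    exact mapsTo_of_span _ _ B (fun i => by rw [Function.comp_apply, gram_equiv_apply]; exact hbB' i) x hx

end Cfsg.Agent.Lib.Helper9.UPol
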