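import Mathlib
import Cfsg.Agent.Lib.Helper9.UPol2
import Cfsg.Agent.S0278
import Cfsg.Agent.Lib.Helper9.SUMax3
import Cfsg.Agent.Lib.Helper9.CarveL3

/-!
# S5984: the index of the stabilizer of a pair of complementary totally singular subspaces
-/

set_option autoImplicit false

namespace Cfsg.Agent.Lib.Helper9.UPol

open Module Cfsg.Agent.Lib.Helper2 Cfsg.Agent.Lib.Helper2.IsomDecomp
  Cfsg.Agent.Lib.Helper2.HermDecomp Cfsg.Agent.Lib.Helper2.HermFrames
  Cfsg.Agent.Lib.Helper5.PSLCoset Cfsg.Agent.Lib.Helper2.GUIsom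

section abstract

variable {F : Type*} [Field F] {σ : F ≃+* F} {V : Type*} [AddCommGroup V] [Module F V]
  {H : V → V → F}

/-- isometries fixing both `A` and `B` -/
def fixBoth (H : V → V → F) (A B : Submodule F V) : Subgroup (V ≃ₗ[F] V) :=
  isom H ⊓ stab A ⊓ stab B

/-- restriction to `A` -/
noncomputable def resA (H : V → V → F) (A B : Submodule F V) :
    ↥(fixBoth H A B) →* (A ≃ₗ[F] A) where
  toFun g := (g : V ≃ₗ[F] V).ofSubmodules A A (map_eq_of_stab g.2.1.2)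
  map_one' := by
    apply LinearEquiv.ext
    intro a
    apply Subtype.ext
    rfl
  map_mul' g g' := by
    apply LinearEquiv.ext
    intro a
    apply Subtype.ext
    rfl

theorem resA_surjective [FiniteDimensional F V] [Finite F] (hσ : orderOf σ = 2)
    (h : IsHerm σ H) (hnd : ∀ v, (∀ w, H v w = 0) → v = 0) {A B : Submodule F V}
    {m : ℕ} (hV : finrank F V = 2 * m)
    (hsup : A ⊔ B = ⊤) (hA : TS H A) (hB : TS H B) (hAm : finrank F A = m)
    (hBm : finrank F B = m) : Function.Surjective (resA H A B) := by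
  intro ℓ
  obtain ⟨g, hg, hgA, hgB⟩ := exists_isom_extend hσ h hnd hV hsup hA hB hAm hBm ℓ
  have h1 : g ∈ stab A := by
    apply IsoFrames.mem_stab_of_map
    apply map_eq_of_mapsTo rfl
    intro u hu
    rw [hgA ⟨u, hu⟩]
    exact (ℓ ⟨u, hu⟩).2
  have h2 : g ∈ stab B := by
    apply IsoFrames.mem_stab_of_map
    exact map_eq_of_mapsTo rfl hgB
  refine ⟨⟨g, ⟨⟨hg, h1⟩, h2⟩⟩, ?_⟩
  apply LinearEquiv.ext
  intro a
  apply Subtype.ext
  show g (a : V) = (ℓ a : V)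
  exact hgA a

theorem card_dvd_card_fixBoth [FiniteDimensional F V] [Finite F] (hσ : orderOf σ = 2)
    (h : IsHerm σ H) (hnd : ∀ v, (∀ w, H v w = 0) → v = 0) {A B : Submodule F V}
    {m : ℕ} (hV : finrank F V = 2 * m)
    (hsup : A ⊔ B = ⊤) (hA : TS H A) (hB : TS H B) (hAm : finrank F A = m)
    (hBm : finrank F B = m) :
    Nat.card (GL (Fin m) F) ∣ Nat.card ↥(fixBoth H A B) := by
  have hs := resA_surjective hσ h hnd hV hsup hA hB hAm hBm
  have h1 := Subgroup.card_mul_index (resA H A B).ker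
  rw [Subgroup.index_ker, MonoidHom.range_eq_top.2 hs, Subgroup.card_top] at h1
  have h2 : Nat.card (A ≃ₗ[F] A) = Nat.card (GL (Fin m) F) :=
    Nat.card_congr (basisGL (finBasisOfFinrankEq F A hAm)).toEquiv
  rw [← h2, ← h1]
  exact Dvd.intro_left _ rfl

end abstract

section arith

open Finset

theorem prod_range_two_mul (f : ℕ → ℕ) (m : ℕ) :
    ∏ i ∈ range (2 * m), f i = ∏ j ∈ range m, (f (2 * j) * f (2 * j + 1)) := by
  induction m with
  | zero => simp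
  | succ m ih =>
    rw [show 2 * (m + 1) = 2 * m + 1 + 1 by ring, Finset.prod_range_succ, Finset.prod_range_succ,
      ih, Finset.prod_range_succ]
    ring

theorem arith_core {q m r i₀ κ : ℕ} (hq : 2 ≤ q) (hr : r.Prime) (hrq : ¬ r ∣ q)
    (hmain : i₀ * κ * ∏ i : Fin m, ((q ^ 2) ^ m - (q ^ 2) ^ (i : ℕ)) =
      q ^ ((2 * m) * (2 * m - 1) / 2) *
        ∏ i ∈ Finset.range (2 * m), (if Even i then q ^ (i + 1) + 1 else q ^ (i + 1) - 1))
    (hri : r ∣ i₀) : ∃ j < m, r ∣ q ^ (2 * j + 1) + 1 := by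
  have hq1 : 1 ≤ q ^ 2 := Nat.one_le_pow _ _ (by omega)
  rw [Cfsg.Agent.Lib.Carve.L3.prod_gl (q ^ 2) m hq1, prod_range_two_mul] at hmain
  have e1 : ∀ j ∈ range m, ((if Even (2 * j) then q ^ (2 * j + 1) + 1 else q ^ (2 * j + 1) - 1) *
      (if Even (2 * j + 1) then q ^ (2 * j + 1 + 1) + 1 else q ^ (2 * j + 1 + 1) - 1)) =
      (q ^ (2 * j + 1) + 1) * ((q ^ 2) ^ (j + 1) - 1) := by
    intro j _
    rw [if_pos (even_two_mul j), if_neg (by rw [Nat.not_even_iff_odd]; exact odd_two_mul_add_one j),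
      ← pow_mul]
    congr 3
  rw [Finset.prod_congr rfl e1, Finset.prod_mul_distrib] at hmain
  set A' := ∏ i ∈ range m, ((q ^ 2) ^ (i + 1) - 1) with hA'
  set Bq := ∏ j ∈ range m, (q ^ (2 * j + 1) + 1) with hBq
  set Sq := ∏ i ∈ range m, (q ^ 2) ^ i with hSq
  have hApos : 0 < A' := by
    apply Finset.prod_pos
    intro i _
    have : 2 ≤ (q ^ 2) ^ (i + 1) := by
      calc 2 ≤ q := hq
        _ = q ^ 1 := (pow_one q).symm
        _ ≤ q ^ 2 := Nat.pow_le_pow_right (by omega) (by omega)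
        _ = (q ^ 2) ^ 1 := (pow_one _).symm
        _ ≤ (q ^ 2) ^ (i + 1) := Nat.pow_le_pow_right hq1 (by omega)
    omega
  have h2 : i₀ * κ * Sq = q ^ ((2 * m) * (2 * m - 1) / 2) * Bq := by
    have : (i₀ * κ * Sq) * A' = (q ^ ((2 * m) * (2 * m - 1) / 2) * Bq) * A' := by
      calc (i₀ * κ * Sq) * A' = i₀ * κ * (Sq * A') := by ring
        _ = q ^ ((2 * m) * (2 * m - 1) / 2) * (Bq * A') := hmain
        _ = (q ^ ((2 * m) * (2 * m - 1) / 2) * Bq) * A' := by ring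
    exact Nat.eq_of_mul_eq_mul_right hApos this
  have h3 : r ∣ q ^ ((2 * m) * (2 * m - 1) / 2) * Bq := by
    rw [← h2]
    exact (hri.mul_right _).mul_right _
  rcases (Nat.Prime.dvd_mul hr).1 h3 with h4 | h4
  · exact absurd (hr.dvd_of_dvd_pow h4) hrq
  · obtain ⟨j, hj, hrj⟩ := (Prime.dvd_finsetProd_iff hr.prime _).1 h4
    exact ⟨j, Finset.mem_range.1 hj, hrj⟩

end arith

section concrete

variable {F : Type*} [Field F] [Fintype F] {n q : ℕ}

omit [Fintype F] in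
theorem glLin_coe (g : GL (Fin n) F) :
    ((glLin n F g : (Fin n → F) ≃ₗ[F] (Fin n → F)) : (Fin n → F) →ₗ[F] (Fin n → F)) =
      Matrix.toLin' (g : Matrix (Fin n) (Fin n) F) := by
  apply LinearMap.ext
  intro x
  rw [Matrix.toLin'_apply]
  rfl

omit [Fintype F] in
/-- the two members of a decomposition into two subspaces span -/
theorem sup_eq_top_of_decomp {m : ℕ} (D : Fin 2 → Submodule F (Fin n → F))
    (hD : Cfsg.Geo.IsMDecomposition m D) : D 0 ⊔ D 1 = ⊤ := by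
  rw [← hD.iSup_eq_top]
  apply le_antisymm
  · exact sup_le (le_iSup D 0) (le_iSup D 1)
  · apply iSup_le
    intro i
    fin_cases i
    · exact le_sup_left
    · exact le_sup_right

omit [Fintype F] in
theorem inf_eq_bot_of_decomp {m : ℕ} (D : Fin 2 → Submodule F (Fin n → F))
    (hD : Cfsg.Geo.IsMDecomposition m D) : D 0 ⊓ D 1 = ⊥ := by
  have h1 := hD.indep.pairwiseDisjoint (by decide : (0 : Fin 2) ≠ 1)
  exact disjoint_iff.1 h1

theorem exists_j_of_dvd_relIndex (hF : Fintype.card F = q ^ 2) {m : ℕ} (hm : 1 ≤ m)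
    (hn : n = 2 * m) (D : Fin 2 → Submodule F (Fin n → F))
    (hD : Cfsg.Geo.IsMDecomposition m D)
    (hDs : ∀ i, Cfsg.Geo.IsTotallySingularFor (Cfsg.hermForm n F q) (D i))
    {r : ℕ} (hr : r.Prime) (hrq : ¬ r ∣ q)
    (hΩ : r ∣ (Cfsg.Geo.decompositionStabilizer D).relIndex
      (Cfsg.GU n F q ⊓ Cfsg.Geo.specialLinear (Fin n) F)) :
    ∃ j < m, r ∣ q ^ (2 * j + 1) + 1 := by
  classical
  obtain ⟨σ, hσ, hσq, h, hnd⟩ := exists_data hF n
  have hq2 : 2 ≤ q := Cfsg.Agent.Lib.Helper1.HermCount.two_le_q hF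
  have hn1 : 1 ≤ n := by omega
  have hV : finrank F (Fin n → F) = 2 * m := by rw [Module.finrank_fin_fun, hn]
  have hsup := sup_eq_top_of_decomp D hD
  have hAm : finrank F (D 0) = m := hD.finrank_eq 0
  have hBm : finrank F (D 1) = m := hD.finrank_eq 1
  set K₁' := fixBoth (Cfsg.hermForm n F q) (D 0) (D 1) with hK₁'
  set K₁ : Subgroup (GL (Fin n) F) := K₁'.comap (glLin n F).toMonoidHom with hK₁
  have hcardK : Nat.card ↥K₁ = Nat.card ↥K₁' :=
    Nat.card_congr (equivOfMemIff (glLin n F) K₁ K₁' (fun _ => Iff.rfl)).toEquiv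
  have hdvd : Nat.card (GL (Fin m) F) ∣ Nat.card ↥K₁ := by
    rw [hcardK]
    exact card_dvd_card_fixBoth hσ h hnd hV hsup (hDs 0) (hDs 1) hAm hBm
  set det := (Matrix.GeneralLinearGroup.det : GL (Fin n) F →* Fˣ) with hdet
  set SL := Cfsg.Geo.specialLinear (Fin n) F with hSL
  have hSLk : SL = det.ker := rfl
  set GUg := Cfsg.GU n F q with hGUg
  set S := Cfsg.Geo.decompositionStabilizer D with hS
  have hK₁GU : K₁ ≤ GUg := fun g hg => hg.1.1
  have hK₁S : K₁ ≤ S := by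
    intro g hg
    refine ⟨1, fun i => ?_⟩
    rw [← glLin_coe]
    fin_cases i
    · exact map_eq_of_stab hg.1.2
    · exact map_eq_of_stab hg.2
  have h_a : S.relIndex (GUg ⊓ SL) ∣ (K₁ ⊓ SL).relIndex (GUg ⊓ SL) :=
    Subgroup.relIndex_dvd_of_le_left (GUg ⊓ SL) (inf_le_left.trans hK₁S)
  have h_b : Nat.card ↥(K₁ ⊓ SL) * (K₁ ⊓ SL).relIndex (GUg ⊓ SL) = Nat.card ↥(GUg ⊓ SL) := by
    have := Subgroup.relIndex_mul_relIndex ⊥ (K₁ ⊓ SL) (GUg ⊓ SL) bot_le
      (inf_le_inf_right SL hK₁GU)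
    rwa [Subgroup.relIndex_bot_left, Subgroup.relIndex_bot_left] at this
  have h_c : Nat.card ↥(GUg ⊓ SL) * SL.relIndex GUg = Nat.card ↥GUg := by
    have := Subgroup.relIndex_mul_relIndex ⊥ (GUg ⊓ SL) GUg bot_le inf_le_left
    rwa [Subgroup.relIndex_bot_left, Subgroup.relIndex_bot_left, Subgroup.inf_relIndex_left]
      at this
  have h_d : Nat.card ↥(K₁ ⊓ SL) * SL.relIndex K₁ = Nat.card ↥K₁ := by
    have := Subgroup.relIndex_mul_relIndex ⊥ (K₁ ⊓ SL) K₁ bot_le inf_le_left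
    rwa [Subgroup.relIndex_bot_left, Subgroup.relIndex_bot_left, Subgroup.inf_relIndex_left]
      at this
  have hmapGU : GUg.map det = (Cfsg.Agent.S0278.detGU n F q).range := by
    ext l
    constructor
    · rintro ⟨g, hg, rfl⟩
      exact ⟨⟨g, hg⟩, rfl⟩
    · rintro ⟨g, rfl⟩
      exact ⟨g.1, g.2, rfl⟩
  have h_e : SL.relIndex GUg = q + 1 := by
    rw [hSLk, Subgroup.relIndex_ker, hmapGU, ← Cfsg.Agent.S0278.card_norm_one hF]
    apply Nat.card_congr
    exact ⟨fun l => ⟨l.1, (Cfsg.Agent.S0278.range_detGU hF hn1 l.1).mp l.2⟩,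
      fun l => ⟨l.1, (Cfsg.Agent.S0278.range_detGU hF hn1 l.1).mpr l.2⟩,
      fun _ => rfl, fun _ => rfl⟩
  have h_f : SL.relIndex K₁ ∣ q + 1 := by
    rw [← h_e, hSLk, Subgroup.relIndex_ker, Subgroup.relIndex_ker]
    exact Subgroup.card_dvd_of_le (Subgroup.map_mono hK₁GU)
  obtain ⟨e', he'⟩ := h_f
  obtain ⟨κ', hκ'⟩ := hdvd
  have hri : r ∣ (K₁ ⊓ SL).relIndex (GUg ⊓ SL) := hΩ.trans h_a
  have hGUcard := Cfsg.Agent.S0277.result hF n
  have hGLcard := Matrix.card_GL_field (𝔽 := F) m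
  rw [hF] at hGLcard
  apply arith_core (κ := κ' * e') hq2 hr hrq ?_ hri
  rw [← hn, ← hGUcard, ← hGLcard, ← h_c, h_e, he', ← h_b]
  have : Nat.card ↥(K₁ ⊓ SL) * SL.relIndex K₁ = Nat.card (GL (Fin m) F) * κ' := by
    rw [h_d, hκ']
  calc (K₁ ⊓ SL).relIndex (GUg ⊓ SL) * (κ' * e') * Nat.card (GL (Fin m) F)
      = (Nat.card (GL (Fin m) F) * κ') * ((K₁ ⊓ SL).relIndex (GUg ⊓ SL) * e') := by ring
    _ = (Nat.card ↥(K₁ ⊓ SL) * SL.relIndex K₁) * ((K₁ ⊓ SL).relIndex (GUg ⊓ SL) * e') := by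
        rw [this]
    _ = Nat.card ↥(K₁ ⊓ SL) * (K₁ ⊓ SL).relIndex (GUg ⊓ SL) * (SL.relIndex K₁ * e') := by ring

end concrete

end Cfsg.Agent.Lib.Helper9.UPol
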