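import Mathlib
import Cfsg.Agent.Lib.Helper9.UPol3
import Cfsg.Agent.Lib.Helper1.GUCard
import Cfsg.Agent.Lib.Helper2.UT3

/-!
# S5984: elements of odd prime order acting fixed point freely on a nondegenerate subspace of
odd dimension
-/

set_option autoImplicit false

namespace Cfsg.Agent.Lib.Helper9.UPol

open Module Cfsg.Agent.Lib.Helper2 Cfsg.Agent.Lib.Helper2.IsomDecomp
  Cfsg.Agent.Lib.Helper2.HermDecomp Cfsg.Agent.Lib.Helper2.HermFrames
  Cfsg.Agent.Lib.Helper5.PSLCoset Cfsg.Agent.Lib.Helper2.GUIsom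

section abstract

variable {F : Type*} [Field F] {σ : F ≃+* F} {V : Type*} [AddCommGroup V] [Module F V]
  {H : V → V → F}

/-- the sum of the first `r` powers of `X` -/
noncomputable def avg (X : V ≃ₗ[F] V) (r : ℕ) : V →ₗ[F] V :=
  ∑ i ∈ Finset.range r, ((X ^ i : V ≃ₗ[F] V) : V →ₗ[F] V)

theorem avg_apply (X : V ≃ₗ[F] V) (r : ℕ) (v : V) :
    avg X r v = ∑ i ∈ Finset.range r, (X ^ i) v := by
  unfold avg
  rw [LinearMap.sum_apply]
  rfl

theorem pow_mem_of_mapsTo (X : V ≃ₗ[F] V) (C : Submodule F V) (hC : ∀ u ∈ C, X u ∈ C) (i : ℕ) :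
    ∀ u ∈ C, (X ^ i) u ∈ C := by
  induction i with
  | zero => intro u hu; simpa using hu
  | succ i ih =>
    intro u hu
    rw [pow_succ', LinearEquiv.mul_apply]
    exact hC _ (ih u hu)

theorem avg_mem (X : V ≃ₗ[F] V) (r : ℕ) (C : Submodule F V) (hC : ∀ u ∈ C, X u ∈ C) :
    ∀ u ∈ C, avg X r u ∈ C := by
  intro u hu
  rw [avg_apply]
  exact C.sum_mem (fun i _ => pow_mem_of_mapsTo X C hC i u hu)

theorem avg_fixed (X : V ≃ₗ[F] V) {r : ℕ} (hXr : X ^ r = 1) (v : V) :
    X (avg X r v) = avg X r v := by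
  rw [avg_apply, map_sum]
  have h1 : ∀ i, X ((X ^ i) v) = (X ^ (i + 1)) v := by
    intro i
    rw [pow_succ', LinearEquiv.mul_apply]
  simp only [h1]
  have h2 := Finset.sum_range_succ' (fun i => (X ^ i) v) r
  have h3 := Finset.sum_range_succ (fun i => (X ^ i) v) r
  rw [h3] at h2
  simp only [hXr, pow_zero] at h2
  exact (add_right_cancel h2).symm

theorem pow_apply_of_fixed (X : V ≃ₗ[F] V) {w : V} (hw : X w = w) (i : ℕ) : (X ^ i) w = w := by
  induction i with
  | zero => rfl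
  | succ i ih => rw [pow_succ', LinearEquiv.mul_apply, ih, hw]

theorem avg_of_fixed (X : V ≃ₗ[F] V) (r : ℕ) {w : V} (hw : X w = w) :
    avg X r w = (r : F) • w := by
  rw [avg_apply]
  simp only [pow_apply_of_fixed X hw]
  rw [Finset.sum_const, Finset.card_range, Nat.cast_smul_eq_nsmul]

/-- the block model: `X` acts fixed point freely on the nondegenerate subspace `W` of odd
dimension and trivially on a complement `W'` -/
theorem block_no_pair [FiniteDimensional F V] [Finite F] (hσ : orderOf σ = 2) (h : IsHerm σ H)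
    (hnd : ∀ v, (∀ w, H v w = 0) → v = 0) (X : V ≃ₗ[F] V) {W W' : Submodule F V}
    (hWW' : W ⊔ W' = ⊤) (hW : ND H W) (hodd : Odd (finrank F W))
    (hXW : ∀ w ∈ W, X w ∈ W) (hXW' : ∀ w ∈ W', X w = w) {r : ℕ} (hrF : (r : F) ≠ 0)
    (hXr : X ^ r = 1) (hfpf : ∀ w ∈ W, X w = w → w = 0)
    {A B : Submodule F V} (hAB : A ⊓ B = ⊥) (hsup : A ⊔ B = ⊤) (hA : TS H A) (hB : TS H B)
    (h1 : ∀ u ∈ A, X u ∈ A) (h2 : ∀ u ∈ B, X u ∈ B) : False := by
  have h3 : ∀ w ∈ W, avg X r w = 0 := fun w hw =>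
    hfpf _ (avg_mem X r W hXW w hw) (avg_fixed X hXr w)
  have hker : LinearMap.ker (avg X r) = W := by
    apply le_antisymm
    · intro v hv
      have hv' : v ∈ W ⊔ W' := by rw [hWW']; trivial
      obtain ⟨w, hw, w', hw', rfl⟩ := Submodule.mem_sup.1 hv'
      have h4 := LinearMap.mem_ker.1 hv
      rw [map_add, h3 w hw, zero_add, avg_of_fixed X r (hXW' w' hw')] at h4
      have h5 : w' = 0 := by
        rcases smul_eq_zero.1 h4 with h6 | h6
        · exact absurd h6 hrF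
        · exact h6
      rw [h5, add_zero]
      exact hw
    · intro w hw
      exact LinearMap.mem_ker.2 (h3 w hw)
  exact no_split_odd hσ h hnd (avg X r) hAB hsup hA hB (avg_mem X r A h1) (avg_mem X r B h2)
    hker hW hodd

/-- the fixed space of an isometry of order prime to the characteristic is nondegenerate -/
theorem fixed_nd (h : IsHerm σ H) (hnd : ∀ v, (∀ w, H v w = 0) → v = 0) (X : V ≃ₗ[F] V)
    (hX : X ∈ isom H) {r : ℕ} (hrF : (r : F) ≠ 0) (hXr : X ^ r = 1) (u : V) (hu : X u = u)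
    (hu' : ∀ k, X k = k → H u k = 0) : u = 0 := by
  apply hnd
  intro y
  have h1 : H u (avg X r y) = (r : F) * H u y := by
    rw [avg_apply]
    have h2 : H u (∑ i ∈ Finset.range r, (X ^ i) y) =
        ∑ i ∈ Finset.range r, H u ((X ^ i) y) := by
      have := sum_right h (Finset.range r) (fun _ => (1 : F)) (fun i => (X ^ i) y) u
      simpa using this
    rw [h2]
    have h3 : ∀ i ∈ Finset.range r, H u ((X ^ i) y) = H u y := by
      intro i _
      have h4 := ((isom H).pow_mem hX i) u y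
      rw [pow_apply_of_fixed X hu i] at h4
      exact h4
    rw [Finset.sum_congr rfl h3, Finset.sum_const, Finset.card_range, nsmul_eq_mul]
  have h5 := hu' _ (avg_fixed X hXr y)
  rw [h1] at h5
  rcases mul_eq_zero.1 h5 with h6 | h6
  · exact absurd h6 hrF
  · exact h6

end abstract

section concrete

variable {F : Type*} [Field F] [Fintype F] {q : ℕ}

attribute [local instance] Cfsg.Agent.Lib.Helper1.GUCard.vecAction

open Cfsg.Agent.Lib.Helper1.GUCard Cfsg.Agent.Lib.Helper1.GUBasic Matrix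

/-- an element of prime order `r` of `GU_{k+1}(q)`, where `r` does not divide the order of
`GU_k(q)`, has no nonzero fixed vector -/
theorem fpf_of_order (hF : Fintype.card F = q ^ 2) {k : ℕ} (x₀ : Cfsg.GU (k + 1) F q)
    {r : ℕ} (hr : r.Prime) (hxr : x₀ ^ r = 1) (hx1 : x₀ ≠ 1) (hrF : (r : F) ≠ 0)
    (hrk : ¬ r ∣ Nat.card (Cfsg.GU k F q)) (v : Fin (k + 1) → F)
    (hv : ((x₀ : GL (Fin (k + 1)) F) : Matrix (Fin (k + 1)) (Fin (k + 1)) F) *ᵥ v = v) :
    v = 0 := by
  classical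
  have : Fact r.Prime := ⟨hr⟩
  by_contra hv0
  obtain ⟨σ, hσ, hσq, h, hnd⟩ := exists_data hF (k + 1)
  set Y := glLin (k + 1) F (x₀ : GL (Fin (k + 1)) F) with hY
  have hYisom : Y ∈ isom (Cfsg.hermForm (k + 1) F q) := x₀.2
  have hYr : Y ^ r = 1 := by
    rw [hY, ← map_pow]
    have h1 : ((x₀ : GL (Fin (k + 1)) F)) ^ r = 1 := by
      have := congrArg Subtype.val hxr
      simpa using this
    rw [h1, map_one]
  have hYv : Y v = v := hv
  obtain ⟨w, hw, hvw⟩ : ∃ w, Y w = w ∧ Cfsg.hermForm (k + 1) F q v w ≠ 0 := by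
    by_contra hcon
    push Not at hcon
    exact hv0 (fixed_nd h hnd Y hYisom hrF hYr v hYv hcon)
  let Fix : Submodule F (Fin (k + 1) → F) :=
    LinearMap.ker ((Y : (Fin (k + 1) → F) →ₗ[F] (Fin (k + 1) → F)) - LinearMap.id)
  have hFix : ∀ u, u ∈ Fix ↔ Y u = u := by
    intro u
    rw [LinearMap.mem_ker, LinearMap.sub_apply, LinearMap.id_apply, sub_eq_zero]
    rfl
  have hσ1 : σ ≠ 1 := by
    intro h1
    rw [h1, orderOf_one] at hσ
    omega
  obtain ⟨e', he'⟩ := exists_norm_ne_zero hσ1 (isHerm_restrict h Fix)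
    (v := ⟨v, (hFix v).2 hYv⟩) (w := ⟨w, (hFix w).2 hw⟩) hvw
  set c := Cfsg.hermForm (k + 1) F q (e' : Fin (k + 1) → F) (e' : Fin (k + 1) → F) with hc
  have hcfix : σ c = c := WittHerm.self_fixed h _
  obtain ⟨s, hs0, hs⟩ := UT.exists_norm_eq hσ c⁻¹ (inv_ne_zero he') (by rw [map_inv₀, hcfix])
  set e : Fin (k + 1) → F := s • (e' : Fin (k + 1) → F) with he
  have hee : Cfsg.hermForm (k + 1) F q e e = 1 := by
    rw [he, h.smul_left, h.smul_right, ← mul_assoc, hs, ← hc, inv_mul_cancel₀ he']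
  have hYe : Y e = e := by
    rw [he, map_smul, (hFix _).1 e'.2]
  obtain ⟨g, hg⟩ := exists_GU_map hF e hee
  set t : Cfsg.GU (k + 1) F q := g⁻¹ * x₀ * g with ht
  have htstab : t ∈ MulAction.stabilizer (Cfsg.GU (k + 1) F q)
      (⟨Pi.single 0 1⟩ : VecW (k + 1) F) := by
    rw [MulAction.mem_stabilizer_iff, ht, mul_smul, mul_smul]
    have h1 : g • (⟨Pi.single 0 1⟩ : VecW (k + 1) F) = ⟨e⟩ := by
      rw [smul_def]
      exact VecW.ext hg
    rw [h1]
    have h2 : x₀ • (⟨e⟩ : VecW (k + 1) F) = ⟨e⟩ := by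
      rw [smul_def]
      exact VecW.ext hYe
    rw [h2, ← h1, inv_smul_smul]
  have htr : t ^ r = 1 := by
    have h1 : t = g⁻¹ * x₀ * g⁻¹⁻¹ := by rw [inv_inv]
    rw [h1, conj_pow, hxr, mul_one, inv_inv, inv_mul_cancel]
  have ht1 : t ≠ 1 := by
    intro h1
    apply hx1
    have h2 : x₀ = g * t * g⁻¹ := by rw [ht]; group
    rw [h2, h1, mul_one, mul_inv_cancel]
  have hordt : orderOf t = r := orderOf_eq_prime htr ht1
  have h3 : orderOf (⟨t, htstab⟩ : MulAction.stabilizer (Cfsg.GU (k + 1) F q)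
      (⟨Pi.single 0 1⟩ : VecW (k + 1) F)) = r := by
    rw [← hordt]
    exact Subgroup.orderOf_mk t htstab
  have h4 := orderOf_dvd_natCard (⟨t, htstab⟩ : MulAction.stabilizer (Cfsg.GU (k + 1) F q)
      (⟨Pi.single 0 1⟩ : VecW (k + 1) F))
  rw [h3, card_stabilizer hF] at h4
  exact hrk h4

end concrete

end Cfsg.Agent.Lib.Helper9.UPol
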