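import Mathlib
import Cfsg.Agent.Lib.Helper9.UPol4
import Cfsg.Agent.Lib.Helper2.UT2

/-!
# S5984: the block model
-/

set_option autoImplicit false
set_option maxHeartbeats 800000

namespace Cfsg.Agent.Lib.Helper9.UPol

open Module Cfsg.Agent.Lib.Helper2 Cfsg.Agent.Lib.Helper2.IsomDecomp
  Cfsg.Agent.Lib.Helper2.HermDecomp Cfsg.Agent.Lib.Helper2.HermFrames
  Cfsg.Agent.Lib.Helper5.PSLCoset Cfsg.Agent.Lib.Helper2.GUIsom
  Cfsg.Agent.Lib.Helper1.GUBasic Cfsg.Agent.Lib.Helper1.HermCount Matrix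

variable {F : Type*} [Field F] [Fintype F] {q : ℕ}

/-- the determinant of an isometry of the standard unitary space has norm one -/
theorem det_isom_norm (hF : Fintype.card F = q ^ 2) {n : ℕ} (X : (Fin n → F) ≃ₗ[F] (Fin n → F))
    (hX : X ∈ isom (Cfsg.hermForm n F q)) :
    ((LinearEquiv.det X : Fˣ) : F) * ((LinearEquiv.det X : Fˣ) : F) ^ q = 1 := by
  set g := (glLin n F).symm X with hg
  have h1 : glLin n F g = X := (glLin n F).apply_symm_apply X
  have h2 : g ∈ Cfsg.GU n F q := by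
    rw [Cfsg.Agent.H9SUMax.mem_GU_iff, h1]
    exact hX
  have h3 := Cfsg.Agent.S0278.nrm_det hF (g : Matrix (Fin n) (Fin n) F)
    (GU_preserves (⟨g, h2⟩ : Cfsg.GU n F q))
  rw [← Cfsg.Agent.H9SUMax.det_glLin, h1] at h3
  exact h3

theorem exists_block_model (hF : Fintype.card F = q ^ 2) {n k : ℕ} (hkn : k + 1 ≤ n)
    (hodd : Odd (k + 1)) {r : ℕ} (hr : r.Prime) (hrF : (r : F) ≠ 0)
    (hrk : ¬ r ∣ Nat.card (Cfsg.GU k F q)) (hrd : r ∣ Nat.card (Cfsg.GU (k + 1) F q))
    (hrq1 : Nat.Coprime r (q + 1)) :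
    ∃ X : (Fin n → F) ≃ₗ[F] (Fin n → F), X ∈ isom (Cfsg.hermForm n F q) ∧
      LinearEquiv.det X = 1 ∧ X ^ r = 1 ∧
      ∀ A B : Submodule F (Fin n → F), A ⊓ B = ⊥ → A ⊔ B = ⊤ → TS (Cfsg.hermForm n F q) A →
        TS (Cfsg.hermForm n F q) B → (∀ u ∈ A, X u ∈ A) → (∀ u ∈ B, X u ∈ B) → False := by
  classical
  have : Fact r.Prime := ⟨hr⟩
  obtain ⟨σ, hσ, hσq, h, hnd⟩ := exists_data hF n
  have hσ2 := WittHerm.sigma_sigma hσ
  have hq2 : 2 ≤ q := two_le_q hF
  let vf : Fin (k + 1) → (Fin n → F) := fun i => Pi.single (Fin.castLE hkn i) 1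
  have hli : LinearIndependent F vf := by
    have h1 := (Pi.basisFun F (Fin n)).linearIndependent.comp (Fin.castLE hkn)
      (Fin.castLE_injective hkn)
    convert h1 using 1
    funext i
    simp [vf, Pi.basisFun_apply]
  set W := Submodule.span F (Set.range vf) with hW
  let bW : Basis (Fin (k + 1)) F W := Basis.span hli
  have hbW : ∀ i, (bW i : Fin n → F) = vf i := fun i => congrArg Subtype.val (Basis.span_apply hli i)
  have hb : ∀ i j, Cfsg.hermForm n F q (bW i : Fin n → F) (bW j : Fin n → F) =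
      if i = j then 1 else 0 := by
    intro i j
    rw [hbW, hbW]
    show Cfsg.hermForm n F q (Pi.single (Fin.castLE hkn i) 1) (Pi.single (Fin.castLE hkn j) 1) = _
    rw [herm_single_left, Pi.single_apply]
    by_cases hij : i = j
    · subst hij
      simp
    · have hne : Fin.castLE hkn i ≠ Fin.castLE hkn j := fun h => hij (Fin.castLE_injective hkn h)
      rw [if_neg hne, if_neg hij, zero_pow (by omega)]
  have hWnd : ∀ u ∈ W, (∀ v ∈ W, Cfsg.hermForm n F q u v = 0) → u = 0 := by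
    intro u hu hu'
    have h1 : ∀ j, bW.repr ⟨u, hu⟩ j = 0 := by
      intro j
      have h2 := form_eq_sum (isHerm_restrict h W) bW hb ⟨u, hu⟩ (bW j)
      rw [Finset.sum_eq_single j] at h2
      · rw [Basis.repr_self, Finsupp.single_eq_same, map_one, mul_one] at h2
        rw [← h2]
        exact hu' _ (bW j).2
      · intro i _ hij
        rw [Basis.repr_self, Finsupp.single_apply, if_neg (Ne.symm hij), map_zero, mul_zero]
      · intro hj
        exact absurd (Finset.mem_univ j) hj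
    have h3 : (⟨u, hu⟩ : W) = 0 := by
      apply bW.ext_elem
      intro j
      rw [h1 j]
      simp
    exact congrArg Subtype.val h3
  have hdW := orthoDecomp hσ h W hWnd
  let φ := isomSubEquivGU σ hσ2 hσq W bW hb
  obtain ⟨x₀, hx₀⟩ := exists_prime_orderOf_dvd_card' r hrd
  have hx₀r : x₀ ^ r = 1 := by rw [← hx₀]; exact pow_orderOf_eq_one x₀
  have hx₀1 : x₀ ≠ 1 := by
    intro h1
    rw [h1, orderOf_one] at hx₀
    exact hr.one_lt.ne hx₀
  set y₀ := φ.symm x₀ with hy₀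
  have hφy : φ y₀ = x₀ := φ.apply_symm_apply x₀
  have hy₀r : y₀ ^ r = 1 := by rw [hy₀, ← map_pow, hx₀r, map_one]
  set y : W ≃ₗ[F] W := (y₀ : W ≃ₗ[F] W) with hy
  have hyr : y ^ r = 1 := by
    have := congrArg Subtype.val hy₀r
    simpa using this
  set X := UT.ext hdW y with hX
  have hXisom : X ∈ isom (Cfsg.hermForm n F q) :=
    (glue_mem hdW y₀.2 (isomSub (Cfsg.hermForm n F q) (orthoCompl h W)).one_mem).1
  have hXr : X ^ r = 1 := by
    have h1 : X = UT.extHom hdW y := rfl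
    rw [h1, ← map_pow, hyr, map_one]
  have hXW : ∀ w ∈ W, X w ∈ W := by
    intro w hw
    have := UT.ext_apply_mem hdW y ⟨w, hw⟩
    rw [hX, this]
    exact (y ⟨w, hw⟩).2
  have hXW' : ∀ w ∈ orthoCompl h W, X w = w := fun w hw => UT.ext_apply_compl hdW y ⟨w, hw⟩
  have hfpf : ∀ w ∈ W, X w = w → w = 0 := by
    intro w hw hXw
    have h1 : (y ⟨w, hw⟩ : Fin n → F) = w := by
      rw [← UT.ext_apply_mem hdW y ⟨w, hw⟩]
      exact hXw
    have h2 : y ⟨w, hw⟩ = ⟨w, hw⟩ := Subtype.ext h1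
    have h3 : ((x₀ : GL (Fin (k + 1)) F) : Matrix (Fin (k + 1)) (Fin (k + 1)) F) =
        LinearMap.toMatrix bW bW (y : W →ₗ[F] W) := by
      rw [← hφy]
      rfl
    have h4 : ((x₀ : GL (Fin (k + 1)) F) : Matrix (Fin (k + 1)) (Fin (k + 1)) F) *ᵥ
        (bW.repr ⟨w, hw⟩) = bW.repr ⟨w, hw⟩ := by
      rw [h3, LinearMap.toMatrix_mulVec_repr]
      show (bW.repr (y ⟨w, hw⟩) : Fin (k + 1) → F) = _
      rw [h2]
    have h5 := fpf_of_order hF x₀ hr hx₀r hx₀1 hrF hrk _ h4
    have h6 : (⟨w, hw⟩ : W) = 0 := by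
      apply bW.ext_elem
      intro j
      have := congrFun h5 j
      simpa using this
    exact congrArg Subtype.val h6
  have hdet : LinearEquiv.det X = 1 := by
    have h1 := det_isom_norm hF X hXisom
    have h2 : (LinearEquiv.det X) ^ r = 1 := by rw [← map_pow, hXr, map_one]
    have h3 : (LinearEquiv.det X) ^ (q + 1) = 1 := by
      apply Units.ext
      rw [Units.val_pow_eq_pow_val, Units.val_one, pow_succ']
      exact h1
    have h4 : orderOf (LinearEquiv.det X) ∣ Nat.gcd r (q + 1) :=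
      Nat.dvd_gcd (orderOf_dvd_of_pow_eq_one h2) (orderOf_dvd_of_pow_eq_one h3)
    rw [hrq1] at h4
    exact orderOf_eq_one_iff.1 (Nat.dvd_one.1 h4)
  have hfinW : finrank F W = k + 1 := by
    rw [hW, finrank_span_eq_card hli, Fintype.card_fin]
  refine ⟨X, hXisom, hdet, hXr, ?_⟩
  intro A B hAB hsup hA hB h1 h2
  exact block_no_pair hσ h hnd X hdW.compl.sup_eq_top hWnd (by rw [hfinW]; exact hodd) hXW hXW'
    hrF hXr hfpf hAB hsup hA hB h1 h2

end Cfsg.Agent.Lib.Helper9.UPol
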