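import Mathlib
import Cfsg.Agent.Lib.Helper9.UPol5

/-!
# S5984: diagonal models and the transvection model
-/

set_option autoImplicit false
set_option maxHeartbeats 800000

namespace Cfsg.Agent.Lib.Helper9.UPol

open Module Cfsg.Agent.Lib.Helper2 Cfsg.Agent.Lib.Helper2.IsomDecomp
  Cfsg.Agent.Lib.Helper2.HermDecomp Cfsg.Agent.Lib.Helper2.HermFrames
  Cfsg.Agent.Lib.Helper5.PSLCoset Cfsg.Agent.Lib.Helper2.GUIsom
  Cfsg.Agent.Lib.Helper1.GUBasic Cfsg.Agent.Lib.Helper1.HermCount Matrix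

section tv

variable {F : Type*} [Field F] {σ : F ≃+* F} {V : Type*} [AddCommGroup V] [Module F V]
  {H : V → V → F}

theorem tv_model [FiniteDimensional F V] (hσ : orderOf σ = 2) (h : IsHerm σ H)
    (hnd : ∀ v, (∀ w, H v w = 0) → v = 0) (a : V) (ha0 : a ≠ 0) (haa : H a a = 0)
    {p : ℕ} [CharP F p] :
    ∃ X : V ≃ₗ[F] V, X ∈ isom H ∧ LinearEquiv.det X = 1 ∧ X ^ p = 1 ∧
      ∀ A B : Submodule F V, A ⊓ B = ⊥ → A ⊔ B = ⊤ → TS H A → TS H B → 2 ≤ finrank F A →
        ¬ PairStab (X : V →ₗ[F] V) A B := by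
  obtain ⟨μ, hμ0, hμ⟩ := UT.exists_skew (F := F) hσ
  set X := UT.tv h a μ haa with hX
  have hXv : ∀ v, X v = v + (μ * H v a) • a := fun v => UT.tv_apply h a μ haa v
  have hXk : ∀ k : ℕ, ∀ v, (X ^ k) v = v + ((k : F) * μ * H v a) • a := by
    intro k
    induction k with
    | zero => intro v; simp
    | succ k ih =>
      intro v
      rw [pow_succ', LinearEquiv.mul_apply, ih, hXv, h.add_left, h.smul_left, haa, mul_zero,
        add_zero, add_assoc, ← add_smul]
      congr 2
      push_cast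
      ring
  refine ⟨X, UT.tv_mem_isom h a μ haa hμ, UT.det_tv h a μ haa, ?_, ?_⟩
  · apply LinearEquiv.ext
    intro v
    rw [hXk, CharP.cast_eq_zero F p, zero_mul, zero_mul, zero_smul, add_zero]
    rfl
  · intro A B hAB hsup hA hB hA2 hstab
    rcases hstab with ⟨h1, h2⟩ | ⟨h1, -⟩
    · exact tv_fix_false h hnd a ha0 μ hμ0 X hXv hsup hA hB (mapsTo_of_map_eq h1)
        (mapsTo_of_map_eq h2)
    · apply rank_one_swap_false X 1 a _ hAB hA2 h1
      intro v
      rw [hXv, one_smul, add_sub_cancel_left]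
      exact Submodule.smul_mem _ _ (Submodule.mem_span_singleton_self a)

end tv

section diag

variable {F : Type*} [Field F] [Fintype F] {q : ℕ}

theorem two_ne_zero_of_odd (hF : Fintype.card F = q ^ 2) (hodd : Odd q) : (2 : F) ≠ 0 := by
  intro h0
  have hchar : ringChar F = 2 :=
    CharP.ringChar_of_prime_eq_zero Nat.prime_two (by exact_mod_cast h0)
  have heven := (FiniteField.even_card_iff_char_two).1 hchar
  rw [hF] at heven
  have : ¬ Odd (q ^ 2) := by
    rw [Nat.not_odd_iff_even]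
    exact Nat.even_iff.2 heven
  exact this (Odd.pow hodd)

/-- isometries from form-preserving matrices -/
theorem exists_of_matrix (hF : Fintype.card F = q ^ 2) {n : ℕ} (M : Matrix (Fin n) (Fin n) F)
    (hM : ∀ u v, Cfsg.hermForm n F q (M *ᵥ u) (M *ᵥ v) = Cfsg.hermForm n F q u v) :
    ∃ X : (Fin n → F) ≃ₗ[F] (Fin n → F), X ∈ isom (Cfsg.hermForm n F q) ∧
      ((LinearEquiv.det X : Fˣ) : F) = M.det ∧ ∀ v, X v = M *ᵥ v := by
  refine ⟨glLin n F (mkGU hF M hM : Cfsg.GU n F q).1, (mkGU hF M hM).2, ?_, ?_⟩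
  · rw [Cfsg.Agent.H9SUMax.det_glLin, mkGU_coe]
  · intro v
    rw [glLin_apply, mkGU_coe]

theorem exists_diag (hF : Fintype.card F = q ^ 2) {n : ℕ} (d : Fin n → F)
    (hd : ∀ i, d i * d i ^ q = 1) :
    ∃ X : (Fin n → F) ≃ₗ[F] (Fin n → F), X ∈ isom (Cfsg.hermForm n F q) ∧
      ((LinearEquiv.det X : Fˣ) : F) = ∏ i, d i ∧ ∀ v i, X v i = d i * v i := by
  obtain ⟨X, h1, h2, h3⟩ := exists_of_matrix hF (Matrix.diagonal d)
    (Cfsg.Agent.S0278.diag_preserves d hd)
  refine ⟨X, h1, by rw [h2, Matrix.det_diagonal], fun v i => by rw [h3, Matrix.mulVec_diagonal]⟩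

omit [Fintype F] in
theorem diag_pow {n : ℕ} (X : (Fin n → F) ≃ₗ[F] (Fin n → F)) (d : Fin n → F)
    (hX : ∀ v i, X v i = d i * v i) (k : ℕ) : ∀ v i, (X ^ k) v i = d i ^ k * v i := by
  induction k with
  | zero => intro v i; simp
  | succ k ih =>
    intro v i
    rw [pow_succ', LinearEquiv.mul_apply, hX, ih]
    ring

/-- the scaled reflection -/
theorem exists_refl_model (hF : Fintype.card F = q ^ 2) (hodd : Odd q) {n' : ℕ} (w : F)
    (hw : w * w ^ q = 1) (hwn : w ^ (n' + 1) = -1) :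
    ∃ X : (Fin (n' + 1) → F) ≃ₗ[F] (Fin (n' + 1) → F),
      X ∈ isom (Cfsg.hermForm (n' + 1) F q) ∧ LinearEquiv.det X = 1 ∧
      (∀ v, (X ^ 2) v = (w ^ 2) • v) ∧
      ∀ A B : Submodule F (Fin (n' + 1) → F), A ⊓ B = ⊥ → A ⊔ B = ⊤ →
        TS (Cfsg.hermForm (n' + 1) F q) A → TS (Cfsg.hermForm (n' + 1) F q) B →
        2 ≤ finrank F A → ¬ PairStab (X : (Fin (n' + 1) → F) →ₗ[F] (Fin (n' + 1) → F)) A B := by
  classical
  have h2 := two_ne_zero_of_odd hF hodd
  have hw0 : w ≠ 0 := by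
    rintro rfl
    rw [zero_mul] at hw
    exact zero_ne_one hw
  set d : Fin (n' + 1) → F := Function.update (fun _ => w) 0 (-w) with hd
  have hd0 : d 0 = -w := by rw [hd, Function.update_self]
  have hdi : ∀ i, i ≠ 0 → d i = w := fun i hi => by rw [hd, Function.update_of_ne hi]
  have hdn : ∀ i, d i * d i ^ q = 1 := by
    intro i
    by_cases hi : i = 0
    · rw [hi, hd0, Odd.neg_pow hodd]
      linear_combination hw
    · rw [hdi i hi]
      exact hw
  obtain ⟨X, hX1, hX2, hX3⟩ := exists_diag hF d hdn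
  have hdet : LinearEquiv.det X = 1 := by
    apply Units.ext
    rw [hX2, Units.val_one, Fin.prod_univ_succ, hd0]
    have : ∀ i : Fin n', d i.succ = w := fun i => hdi _ (Fin.succ_ne_zero i)
    simp only [this]
    rw [Finset.prod_const, Finset.card_univ, Fintype.card_fin]
    linear_combination -hwn
  have hsq : ∀ v, (X ^ 2) v = (w ^ 2) • v := by
    intro v
    funext i
    rw [diag_pow X d hX3, Pi.smul_apply, smul_eq_mul]
    by_cases hi : i = 0
    · rw [hi, hd0]; ring
    · rw [hdi i hi]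
  set e₀ : Fin (n' + 1) → F := Pi.single 0 1 with he₀
  have hXa : ∀ v, X v - w • v ∈ Submodule.span F {e₀} := by
    intro v
    have : X v - w • v = (-2 * w * v 0) • e₀ := by
      funext i
      rw [Pi.sub_apply, hX3, Pi.smul_apply, Pi.smul_apply, smul_eq_mul, smul_eq_mul, he₀,
        Pi.single_apply]
      by_cases hi : i = 0
      · rw [hi, hd0, if_pos rfl]; ring
      · rw [hdi i hi, if_neg hi]; ring
    rw [this]
    exact Submodule.smul_mem _ _ (Submodule.mem_span_singleton_self e₀)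
  have hee : Cfsg.hermForm (n' + 1) F q e₀ e₀ ≠ 0 := by
    rw [he₀, herm_single_left, Pi.single_eq_same, one_pow]
    exact one_ne_zero
  refine ⟨X, hX1, hdet, hsq, ?_⟩
  intro A B hAB hsup hA hB hA2 hstab
  rcases hstab with ⟨h1, h2'⟩ | ⟨h1, -⟩
  · have h3 := rank_one_fix_scalar X w e₀ hXa hee hsup hA hB (mapsTo_of_map_eq h1)
      (mapsTo_of_map_eq h2')
    have h4 := congrFun (h3 e₀) 0
    rw [hX3, hd0, Pi.smul_apply, smul_eq_mul, he₀, Pi.single_eq_same, mul_one, mul_one] at h4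
    apply h2
    have h5 : (2 : F) * w = 0 := by linear_combination -h4
    rcases mul_eq_zero.1 h5 with h6 | h6
    · exact h6
    · exact absurd h6 hw0
  · exact rank_one_swap_false X w e₀ hXa hAB hA2 h1

/-- the diagonal element `diag(l, l⁻¹, 1, …, 1)` -/
theorem exists_lam_model (hF : Fintype.card F = q ^ 2) {n'' : ℕ} {r : ℕ} (hr : Odd r) (l : F)
    (hl : l * l ^ q = 1) (hlr : l ^ r = 1) (hl1 : l ≠ 1) :
    ∃ X : (Fin (n'' + 2) → F) ≃ₗ[F] (Fin (n'' + 2) → F),
      X ∈ isom (Cfsg.hermForm (n'' + 2) F q) ∧ LinearEquiv.det X = 1 ∧ X ^ r = 1 ∧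
      ∀ A B : Submodule F (Fin (n'' + 2) → F), A ⊓ B = ⊥ → A ⊔ B = ⊤ →
        TS (Cfsg.hermForm (n'' + 2) F q) A → TS (Cfsg.hermForm (n'' + 2) F q) B →
        1 ≤ finrank F A → ¬ PairStab (X : (Fin (n'' + 2) → F) →ₗ[F] (Fin (n'' + 2) → F)) A B := by
  classical
  obtain ⟨σ, hσ, hσq, h, hnd⟩ := exists_data hF (n'' + 2)
  have hl0 : l ≠ 0 := by
    rintro rfl
    rw [zero_mul] at hl
    exact zero_ne_one hl
  have hl2 : l⁻¹ ≠ l := by
    intro h1
    have h2 : l ^ 2 = 1 := by
      have : l * l⁻¹ = l * l := by rw [h1]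
      rw [mul_inv_cancel₀ hl0] at this
      rw [pow_two, ← this]
    obtain ⟨k, hk⟩ := hr
    apply hl1
    have : l ^ r = l := by rw [hk, pow_succ, pow_mul, h2, one_pow, one_mul]
    rw [← this, hlr]
  set d : Fin (n'' + 2) → F := Function.update (Function.update (fun _ => 1) 0 l) 1 l⁻¹ with hd
  have h01 : (0 : Fin (n'' + 2)) ≠ 1 := by
    intro h0
    have := congrArg Fin.val h0
    simp at this
  have hd0 : d 0 = l := by rw [hd, Function.update_of_ne h01, Function.update_self]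
  have hd1 : d 1 = l⁻¹ := by rw [hd, Function.update_self]
  have hdi : ∀ i, i ≠ 0 → i ≠ 1 → d i = 1 := fun i hi0 hi1 => by
    rw [hd, Function.update_of_ne hi1, Function.update_of_ne hi0]
  have hdn : ∀ i, d i * d i ^ q = 1 := by
    intro i
    by_cases hi1 : i = 1
    · rw [hi1, hd1, inv_pow, ← mul_inv, hl, inv_one]
    · by_cases hi0 : i = 0
      · rw [hi0, hd0]; exact hl
      · rw [hdi i hi0 hi1, one_pow, one_mul]
  have hdl : ∀ i, i ≠ 0 → d i - l ≠ 0 := by
    intro i hi0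
    by_cases hi1 : i = 1
    · rw [hi1, hd1]
      exact sub_ne_zero.2 hl2
    · rw [hdi i hi0 hi1]
      exact sub_ne_zero.2 (Ne.symm hl1)
  obtain ⟨X, hX1, hX2, hX3⟩ := exists_diag hF d hdn
  have hdet : LinearEquiv.det X = 1 := by
    apply Units.ext
    rw [hX2, Units.val_one, Fin.prod_univ_succ, Fin.prod_univ_succ, hd0, Fin.succ_zero_eq_one,
      hd1]
    have : ∀ i : Fin n'', d i.succ.succ = 1 := by
      intro i
      apply hdi
      · exact Fin.succ_ne_zero _
      · intro h0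
        have := congrArg Fin.val h0
        simp at this
    simp only [this]
    rw [Finset.prod_const_one, mul_one, mul_inv_cancel₀ hl0]
  have hXr : X ^ r = 1 := by
    apply LinearEquiv.ext
    intro v
    funext i
    rw [diag_pow X d hX3]
    have : d i ^ r = 1 := by
      by_cases hi1 : i = 1
      · rw [hi1, hd1, inv_pow, hlr, inv_one]
      · by_cases hi0 : i = 0
        · rw [hi0, hd0, hlr]
        · rw [hdi i hi0 hi1, one_pow]
    rw [this, one_mul]
    rfl
  set e₀ : Fin (n'' + 2) → F := Pi.single 0 1 with he₀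
  have he₀0 : e₀ ≠ 0 := by
    intro h0
    have := congrFun h0 0
    rw [he₀, Pi.single_eq_same] at this
    exact one_ne_zero this
  set P : (Fin (n'' + 2) → F) →ₗ[F] (Fin (n'' + 2) → F) :=
    (X : (Fin (n'' + 2) → F) →ₗ[F] (Fin (n'' + 2) → F)) - l • LinearMap.id with hP
  have hPv : ∀ v i, P v i = (d i - l) * v i := by
    intro v i
    rw [hP, LinearMap.sub_apply, LinearMap.smul_apply, LinearMap.id_apply, Pi.sub_apply,
      Pi.smul_apply, smul_eq_mul]
    show X v i - l * v i = _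
    rw [hX3]
    ring
  have hker : LinearMap.ker P = Submodule.span F {e₀} := by
    ext v
    rw [LinearMap.mem_ker, Submodule.mem_span_singleton]
    constructor
    · intro hv
      refine ⟨v 0, ?_⟩
      funext i
      rw [Pi.smul_apply, smul_eq_mul, he₀, Pi.single_apply]
      by_cases hi : i = 0
      · rw [hi, if_pos rfl, mul_one]
      · rw [if_neg hi, mul_zero]
        have := congrFun hv i
        rw [hPv, Pi.zero_apply] at this
        rcases mul_eq_zero.1 this with h6 | h6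
        · exact absurd h6 (hdl i hi)
        · exact h6.symm
    · rintro ⟨t, rfl⟩
      funext i
      rw [hPv, Pi.smul_apply, smul_eq_mul, he₀, Pi.single_apply, Pi.zero_apply]
      by_cases hi : i = 0
      · rw [hi, hd0, sub_self, zero_mul]
      · rw [if_neg hi, mul_zero, mul_zero]
  have hee : Cfsg.hermForm (n'' + 2) F q e₀ e₀ = 1 := by
    rw [he₀, herm_single_left, Pi.single_eq_same, one_pow]
  have hK : ND (Cfsg.hermForm (n'' + 2) F q) (Submodule.span F {e₀}) := by
    intro u hu hu'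
    obtain ⟨t, rfl⟩ := Submodule.mem_span_singleton.1 hu
    have := hu' e₀ (Submodule.mem_span_singleton_self e₀)
    rw [h.smul_left, hee, mul_one] at this
    rw [this, zero_smul]
  refine ⟨X, hX1, hdet, hXr, ?_⟩
  intro A B hAB hsup hA hB hA1 hstab
  rcases hstab with ⟨h1, h2⟩ | ⟨h1, h2⟩
  · have hPA : ∀ C : Submodule F (Fin (n'' + 2) → F), (∀ u ∈ C, X u ∈ C) → ∀ u ∈ C, P u ∈ C := by
      intro C hC u hu
      rw [hP, LinearMap.sub_apply, LinearMap.smul_apply, LinearMap.id_apply]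
      exact C.sub_mem (hC u hu) (C.smul_mem l hu)
    apply no_split_odd hσ h hnd P hAB hsup hA hB (hPA A (mapsTo_of_map_eq h1))
      (hPA B (mapsTo_of_map_eq h2)) hker hK
    rw [finrank_span_singleton he₀0]
    exact odd_one
  · have hA0 : A ≠ ⊥ := by
      intro h0
      rw [h0, finrank_bot] at hA1
      omega
    apply swap_odd_false X hAB hA0 hr (z := 1) _ h1 h2
    intro v
    rw [hXr, one_smul]
    rfl

end diag

end Cfsg.Agent.Lib.Helper9.UPol
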