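import Mathlib
import Cfsg.Agent.Lib.Helper9.UPol6
import Cfsg.Agent.S0277

/-!
# S5984: number theory
-/

set_option autoImplicit false

namespace Cfsg.Agent.Lib.Helper9.UPol

section units

variable {F : Type*} [Field F] [Fintype F] {q : ℕ}

/-- elements of norm one of prescribed order -/
theorem exists_norm_one_of_order (hF : Fintype.card F = q ^ 2) {t : ℕ} (ht0 : 0 < t)
    (ht : t ∣ q + 1) : ∃ u : F, u * u ^ q = 1 ∧ orderOf u = t := by
  classical
  have hq2 : 2 ≤ q := Cfsg.Agent.Lib.Helper1.HermCount.two_le_q hF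
  obtain ⟨ζ, hζ⟩ := IsCyclic.exists_ofOrder_eq_natCard (α := Fˣ)
  rw [Nat.card_eq_fintype_card, Fintype.card_units, hF] at hζ
  have hN : q ^ 2 - 1 = (q - 1) * (q + 1) := by
    have h1 : 1 ≤ q := by omega
    zify [h1, Nat.one_le_pow 2 q h1]
    ring
  have hNpos : 0 < q ^ 2 - 1 := by
    rw [hN]
    exact Nat.mul_pos (by omega) (by omega)
  have htN : t ∣ q ^ 2 - 1 := by
    rw [hN]
    exact ht.mul_left _
  set e := (q ^ 2 - 1) / t with he
  have he0 : e ≠ 0 := by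
    rw [he]
    exact (Nat.div_pos (Nat.le_of_dvd hNpos htN) ht0).ne'
  have hedvd : e ∣ orderOf ζ := by
    rw [hζ, he]
    exact Nat.div_dvd_of_dvd htN
  have hord : orderOf (ζ ^ e) = t := by
    rw [orderOf_pow_of_dvd he0 hedvd, hζ, he, Nat.div_div_self htN hNpos.ne']
  refine ⟨((ζ ^ e : Fˣ) : F), ?_, ?_⟩
  · have h1 : (ζ ^ e) ^ (q + 1) = 1 := by
      rw [← orderOf_dvd_iff_pow_eq_one, hord]
      exact ht
    have h2 := congrArg Units.val h1
    rw [Units.val_pow_eq_pow_val, Units.val_one, pow_succ'] at h2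
    exact h2
  · rw [orderOf_units, hord]

/-- an element `w` of norm one with `w ^ n = -1` when the 2-part of `q + 1` exceeds that of `n` -/
theorem exists_w (hF : Fintype.card F = q ^ 2) (hodd : Odd q) {n : ℕ} (hn : 0 < n)
    (hv : ¬ padicValNat 2 (q + 1) ≤ padicValNat 2 n) :
    ∃ w : F, w * w ^ q = 1 ∧ w ^ n = -1 := by
  have h2 := two_ne_zero_of_odd hF hodd
  set k := padicValNat 2 n with hk
  have hk1 : k + 1 ≤ padicValNat 2 (q + 1) := by omega
  have hdvd : 2 ^ (k + 1) ∣ q + 1 :=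
    (padicValNat_dvd_iff_le (by omega)).2 hk1
  obtain ⟨w, hw1, hw2⟩ := exists_norm_one_of_order hF ((Nat.pow_pos (by norm_num) : 0 < 2 ^ (k + 1))) hdvd
  refine ⟨w, hw1, ?_⟩
  have hkn : 2 ^ k ∣ n := pow_padicValNat_dvd
  obtain ⟨n', hn'⟩ := hkn
  have hn'odd : Odd n' := by
    rw [← Nat.not_even_iff_odd]
    rintro ⟨c, hc⟩
    have : 2 ^ (k + 1) ∣ n := ⟨c, by rw [hn', hc, pow_succ]; ring⟩
    exact pow_succ_padicValNat_not_dvd hn.ne' this
  have hsq : (w ^ 2 ^ k) ^ 2 = 1 := by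
    rw [← pow_mul, ← pow_succ, ← hw2]
    exact pow_orderOf_eq_one w
  have hne : w ^ 2 ^ k ≠ 1 := by
    intro h1
    have := orderOf_dvd_of_pow_eq_one h1
    rw [hw2] at this
    have h3 := Nat.le_of_dvd ((Nat.pow_pos (by norm_num) : 0 < 2 ^ k)) this
    rw [pow_succ] at h3
    have : 0 < 2 ^ k := (Nat.pow_pos (by norm_num) : 0 < 2 ^ k)
    omega
  have hm1 : w ^ 2 ^ k = -1 := by
    have h3 : (w ^ 2 ^ k - 1) * (w ^ 2 ^ k + 1) = 0 := by linear_combination hsq
    rcases mul_eq_zero.1 h3 with h4 | h4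
    · exact absurd (sub_eq_zero.1 h4) hne
    · exact eq_neg_of_add_eq_zero_left h4
  rw [hn', pow_mul, hm1, Odd.neg_one_pow hn'odd]

/-- an element of norm one of prime order `r` dividing `q + 1` -/
theorem exists_lam (hF : Fintype.card F = q ^ 2) {r : ℕ} (hr : r.Prime) (hrq : r ∣ q + 1) :
    ∃ l : F, l * l ^ q = 1 ∧ l ^ r = 1 ∧ l ≠ 1 := by
  obtain ⟨l, hl1, hl2⟩ := exists_norm_one_of_order hF hr.pos hrq
  refine ⟨l, hl1, ?_, ?_⟩
  · rw [← hl2]
    exact pow_orderOf_eq_one l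
  · intro h1
    rw [h1, orderOf_one] at hl2
    exact hr.one_lt.ne hl2

end units

section zmod

variable {q r : ℕ}

/-- the terms of the order formula of the unitary groups modulo `r` -/
theorem dvd_term_iff [Fact r.Prime] (hq : 1 ≤ q) (i : ℕ) :
    r ∣ (if Even i then q ^ (i + 1) + 1 else q ^ (i + 1) - 1) ↔
      (-(q : ZMod r)) ^ (i + 1) = 1 := by
  by_cases hi : Even i
  · rw [if_pos hi, ← ZMod.natCast_eq_zero_iff]
    have hodd : Odd (i + 1) := hi.add_one
    rw [Odd.neg_pow hodd]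
    push_cast
    constructor
    · intro h
      linear_combination -h
    · intro h
      linear_combination -h
  · rw [if_neg hi, ← ZMod.natCast_eq_zero_iff]
    have heven : Even (i + 1) := by
      rw [Nat.not_even_iff_odd] at hi
      exact hi.add_one
    rw [Even.neg_pow heven, Nat.cast_sub (Nat.one_le_pow _ _ hq)]
    push_cast
    exact sub_eq_zero

theorem dvd_prod_iff [Fact r.Prime] (hq : 1 ≤ q) (k : ℕ) :
    r ∣ ∏ i ∈ Finset.range k, (if Even i then q ^ (i + 1) + 1 else q ^ (i + 1) - 1) ↔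
      ∃ i < k, orderOf (-(q : ZMod r)) ∣ i + 1 := by
  have hr : r.Prime := Fact.out
  rw [Prime.dvd_finsetProd_iff hr.prime]
  constructor
  · rintro ⟨i, hi, h⟩
    exact ⟨i, Finset.mem_range.1 hi, orderOf_dvd_of_pow_eq_one ((dvd_term_iff hq i).1 h)⟩
  · rintro ⟨i, hi, h⟩
    exact ⟨i, Finset.mem_range.2 hi, (dvd_term_iff hq i).2 (orderOf_dvd_iff_pow_eq_one.1 h)⟩

end zmod

section gu

variable {F : Type*} [Field F] [Fintype F] {q : ℕ}

theorem dvd_card_GU_iff (hF : Fintype.card F = q ^ 2) {r : ℕ} [Fact r.Prime] (hrq : ¬ r ∣ q)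
    (k : ℕ) : r ∣ Nat.card (Cfsg.GU k F q) ↔ ∃ i < k, orderOf (-(q : ZMod r)) ∣ i + 1 := by
  have hr : r.Prime := Fact.out
  have hq2 : 2 ≤ q := Cfsg.Agent.Lib.Helper1.HermCount.two_le_q hF
  rw [Cfsg.Agent.S0277.result hF k, ← dvd_prod_iff (by omega) k]
  constructor
  · intro h
    rcases (Nat.Prime.dvd_mul hr).1 h with h1 | h1
    · exact absurd (hr.dvd_of_dvd_pow h1) hrq
    · exact h1
  · intro h
    exact h.mul_left _

end gu

end Cfsg.Agent.Lib.Helper9.UPol
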