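import Cfsg.Agent.Lib.Helper2.WG.Defs3

/-!
# S2524 PK-R1 : `ιK`, the Siegel radical and the centre
-/

set_option autoImplicit false

namespace Cfsg.Agent.Lib.Helper2.WG

open Matrix Cfsg Cfsg.Agent.H9SpF Cfsg.Agent.Lib.Helper6.Siegel Cfsg.Agent.Lib.Helper1.SUMin
open scoped ComplexConjugate

universe u

variable {F : Type u} [Field F] [Fintype F]

variable {m : ℕ}

namespace PkR1

theorem eIdx_symm_inl_zero : (eIdx m).symm (Sum.inl 0) = Sum.inl (Sum.inl 0) := by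
  simp [eIdx]

theorem eIdx_symm_inl_succ (k : Fin m) : (eIdx m).symm (Sum.inl k.succ) = Sum.inr (Sum.inl k) := by
  simp [eIdx]

theorem eIdx_symm_inr_zero : (eIdx m).symm (Sum.inr 0) = Sum.inl (Sum.inr 0) := by
  simp [eIdx]

theorem eIdx_symm_inr_succ (k : Fin m) : (eIdx m).symm (Sum.inr k.succ) = Sum.inr (Sum.inr k) := by
  simp [eIdx]

theorem dsumM_apply (A : Matrix (Fin 1 ⊕ Fin 1) (Fin 1 ⊕ Fin 1) F)
    (B : Matrix (Fin m ⊕ Fin m) (Fin m ⊕ Fin m) F) (i j : Fin (m + 1) ⊕ Fin (m + 1)) :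
    dsumM A B i j = Matrix.fromBlocks A 0 0 B ((eIdx m).symm i) ((eIdx m).symm j) := rfl

theorem dsumM_neg (A : Matrix (Fin 1 ⊕ Fin 1) (Fin 1 ⊕ Fin 1) F)
    (B : Matrix (Fin m ⊕ Fin m) (Fin m ⊕ Fin m) F) : dsumM (-A) (-B) = -dsumM A B := by
  ext i j
  rw [Matrix.neg_apply, dsumM_apply, dsumM_apply]
  rcases (eIdx m).symm i with a | a <;> rcases (eIdx m).symm j with b | b <;> simp

theorem dsumM_injective {A A' : Matrix (Fin 1 ⊕ Fin 1) (Fin 1 ⊕ Fin 1) F}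
    {B B' : Matrix (Fin m ⊕ Fin m) (Fin m ⊕ Fin m) F} (h : dsumM A B = dsumM A' B') :
    A = A' ∧ B = B' := by
  unfold dsumM at h
  have h1 := (Matrix.reindex (eIdx m) (eIdx m)).injective h
  have h2 := Matrix.fromBlocks_inj.1 h1
  exact ⟨h2.1, h2.2.2.2⟩

end PkR1

open PkR1

section R1

theorem ιK_eq_mul (s : Sp 1 F) (g : Sp m F) : ιK (s, g) = ιS s * ιG g := by
  rw [ιS_apply, ιG_apply, ← map_mul, Prod.mk_mul_mk, mul_one, one_mul]

theorem ιS_comm_ιG (s : Sp 1 F) (g : Sp m F) : (ιS s : Sp (m + 1) F) * ιG g = ιG g * ιS s := by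
  rw [ιS_apply, ιG_apply, ← map_mul, ← map_mul, Prod.mk_mul_mk, Prod.mk_mul_mk, mul_one, one_mul,
    mul_one, one_mul]

theorem ιK_injective : Function.Injective (ιK (m := m) (F := F)) := by
  intro p p' h
  have h1 : dsumM p.1.1 p.2.1 = dsumM p'.1.1 p'.2.1 := congrArg Subtype.val h
  obtain ⟨h2, h3⟩ := dsumM_injective h1
  exact Prod.ext (Subtype.ext h2) (Subtype.ext h3)

theorem ιK_siegHom (S₁ : symAdd 1 F) (S' : symAdd m F) :
    ιK (siegHom S₁, siegHom S') = qE (S₁.1 0 0) 0 S' := by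
  apply Subtype.ext
  show dsumM (siegM S₁.1) (siegM S'.1) = siegM (bsym (S₁.1 0 0) 0 S'.1)
  ext i j
  rw [dsumM_apply]
  rcases i with i | i <;> rcases j with j | j <;>
    refine Fin.cases ?_ (fun i' => ?_) i <;> refine Fin.cases ?_ (fun j' => ?_) j <;>
    simp [eIdx_symm_inl_zero, eIdx_symm_inl_succ, eIdx_symm_inr_zero, eIdx_symm_inr_succ, siegM,
      Matrix.one_apply, Fin.succ_ne_zero, Ne.symm (Fin.succ_ne_zero _)]

theorem siegHom_eq_z1 (S₁ : symAdd 1 F) : siegHom S₁ = z1 (S₁.1 0 0) := by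
  apply Subtype.ext
  show siegM S₁.1 = siegM (bsym (S₁.1 0 0) 0 (0 : symAdd 0 F).1)
  congr 1
  ext i j
  have hi : i = 0 := Subsingleton.elim _ _
  have hj : j = 0 := Subsingleton.elim _ _
  subst hi; subst hj
  rfl

/-- symmetric `1 × 1` matrices are the field -/
def sym1Equiv : F ≃+ symAdd 1 F where
  toFun t := ⟨Matrix.of fun _ _ => t, by rw [mem_symAdd]; ext i j; rfl⟩
  invFun S := S.1 0 0
  left_inv t := rfl
  right_inv S := by
    apply Subtype.ext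
    ext i j
    have hi : i = 0 := Subsingleton.elim _ _
    have hj : j = 0 := Subsingleton.elim _ _
    subst hi; subst hj; rfl
  map_add' a b := by
    apply Subtype.ext
    ext i j
    rfl

theorem siegHom_sym1Equiv (t : F) : siegHom (sym1Equiv t) = z1 t :=
  siegHom_eq_z1 (sym1Equiv t)

theorem ιS_z1 (t : F) : (ιS (z1 t) : Sp (m + 1) F) = zE t := by
  have h1 : (1 : Sp m F) = siegHom (0 : symAdd m F) := by
    apply Subtype.ext
    show (1 : Matrix _ _ F) = siegM (0 : Matrix (Fin m) (Fin m) F)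
    rw [siegM_zero]
  rw [ιS_apply, ← siegHom_sym1Equiv, h1, ιK_siegHom]
  rfl

theorem ιG_siegHom (S' : symAdd m F) : (ιG (siegHom S') : Sp (m + 1) F) = qE 0 0 S' := by
  have h1 : (1 : Sp 1 F) = siegHom (0 : symAdd 1 F) := by
    apply Subtype.ext
    show (1 : Matrix _ _ F) = siegM (0 : Matrix (Fin 1) (Fin 1) F)
    rw [siegM_zero]
  rw [ιG_apply, h1, ιK_siegHom]
  rfl

theorem ιS_h1 (u : Fˣ) : (ιS (h1 u) : Sp (m + 1) F) = hT u := by
  apply Subtype.ext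
  show dsumM (levM (bdiagM (m := 0) (u : F)) (bdiagM (m := 0) ((u⁻¹ : Fˣ) : F))) 1 =
    levM (bdiagM (u : F)) (bdiagM ((u⁻¹ : Fˣ) : F))
  ext i j
  rw [dsumM_apply]
  rcases i with i | i <;> rcases j with j | j <;>
    refine Fin.cases ?_ (fun i' => ?_) i <;> refine Fin.cases ?_ (fun j' => ?_) j <;>
    simp [eIdx_symm_inl_zero, eIdx_symm_inl_succ, eIdx_symm_inr_zero, eIdx_symm_inr_succ, levM,
      bdiagM, Matrix.one_apply, Fin.succ_ne_zero, Ne.symm (Fin.succ_ne_zero _)]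
  by_cases h : i' = j'
  · subst h
    simp
  · rw [if_neg h, if_neg (Ne.symm h)]

theorem negS_eq_mul {n : ℕ} (g : Sp n F) : negS g = negS 1 * g := by
  apply Subtype.ext
  show -g.1 = -(1 : Matrix _ _ F) * g.1
  rw [neg_mul, one_mul]

theorem negS_one_comm {n : ℕ} (g : Sp n F) : negS 1 * g = g * negS 1 := by
  apply Subtype.ext
  show -(1 : Matrix _ _ F) * g.1 = g.1 * -(1 : Matrix _ _ F)
  rw [neg_mul, one_mul, mul_neg, mul_one]

theorem negS_one_mul_self {n : ℕ} : (negS 1 : Sp n F) * negS 1 = 1 := by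
  apply Subtype.ext
  show -(1 : Matrix _ _ F) * -(1 : Matrix _ _ F) = 1
  rw [neg_mul_neg, one_mul]

theorem negS_one_eq_ιK : (negS 1 : Sp (m + 1) F) = ιK (negS 1, negS 1) := by
  apply Subtype.ext
  show -(1 : Matrix _ _ F) = dsumM (-(1 : Matrix _ _ F)) (-(1 : Matrix _ _ F))
  rw [dsumM_neg, dsumM_one]

theorem hT_neg_one : (hT (-1) : Sp (m + 1) F) = ιK (negS 1, 1) := by
  rw [← ιS_h1, ιS_apply]
  congr 2
  apply Subtype.ext
  show levM (bdiagM (m := 0) (((-1 : Fˣ)) : F)) (bdiagM (m := 0) (((-1 : Fˣ)⁻¹ : Fˣ) : F)) =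
    -(1 : Matrix _ _ F)
  ext i j
  rcases i with i | i <;> rcases j with j | j <;>
    refine Fin.cases ?_ (fun i' => Fin.elim0 i') i <;>
    refine Fin.cases ?_ (fun j' => Fin.elim0 j') j <;>
    simp [levM, bdiagM, Matrix.one_apply]

end R1

end Cfsg.Agent.Lib.Helper2.WG
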