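import Mathlib
import Cfsg.Agent.Lib.Helper7.HkkDefs

set_option autoImplicit false

namespace Cfsg.Agent.Lib.Helper7.Hkk

namespace BC5

section

variable {p : ℕ} [Fact p.Prime] {A : Type*} [CommRing A]

/-- `ζ k = ω ^ k.val` -/
def zeta (ω : A) (k : ZMod p) : A := ω ^ k.val

theorem zeta_zero (ω : A) : zeta ω (0 : ZMod p) = 1 := by
  simp [zeta]

theorem zeta_add (ω : A) (hω1 : ω ^ p = 1) (a b : ZMod p) :
    zeta ω (a + b) = zeta ω a * zeta ω b := by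
  unfold zeta
  rw [ZMod.val_add, ← pow_add]
  exact (pow_eq_pow_mod _ hω1).symm

theorem zeta_mul_val (ω : A) (hω1 : ω ^ p = 1) (a b : ZMod p) :
    zeta ω (a * b) = ω ^ (a.val * b.val) := by
  unfold zeta
  rw [ZMod.val_mul]
  exact (pow_eq_pow_mod _ hω1).symm

theorem zeta_neg_mul (ω : A) (hω1 : ω ^ p = 1) (a : ZMod p) :
    zeta ω (-a) * zeta ω a = 1 := by
  rw [← zeta_add ω hω1, neg_add_cancel, zeta_zero]

theorem sum_zeta (ω : A) (hω : ∑ i ∈ Finset.range p, ω ^ i = 0) :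
    ∑ j : ZMod p, zeta ω j = 0 := by
  obtain ⟨q, hq⟩ : ∃ q, p = q + 1 :=
    ⟨p - 1, by have := (Fact.out : p.Prime).pos; omega⟩
  subst hq
  rw [← hω]
  exact Fin.sum_univ_eq_sum_range (fun i => ω ^ i) (q + 1)

theorem sum_zeta_mul (ω : A) (hω : ∑ i ∈ Finset.range p, ω ^ i = 0)
    (k : ZMod p) :
    ∑ j : ZMod p, zeta ω (k * j) = if k = 0 then (p : A) else 0 := by
  split_ifs with hk
  · subst hk
    simp [zeta_zero, ZMod.card]
  · rw [← sum_zeta ω hω]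
    exact Fintype.sum_equiv (Equiv.mulLeft₀ k hk) _ _ (fun j => rfl)

end

section

variable {p : ℕ} [Fact p.Prime] {A : Type*} [CommRing A] {L' : Type*} [LieRing L'] [LieAlgebra A L']

/-- the projection `π_k = u • ∑_j ζ(k j) Φ^j` -/
noncomputable def P (ω : A) (Φ : L' →ₗ[A] L') (u : ℕ) (k : ZMod p) : L' →+ L' :=
  (u • ∑ j : ZMod p, zeta ω (k * j) • (Φ ^ j.val) : Module.End A L').toAddMonoidHom

theorem P_apply (ω : A) (Φ : L' →ₗ[A] L') (u : ℕ) (k : ZMod p) (x : L') :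
    P ω Φ u k x = u • ∑ j : ZMod p, zeta ω (k * j) • (Φ ^ j.val) x := by
  simp only [P, LinearMap.toAddMonoidHom_coe, LinearMap.smul_apply, LinearMap.sum_apply]

/-- `Φ ^ (j+1).val = Φ ^ (j.val + 1)` -/
theorem pow_val_succ (Φ : L' →ₗ[A] L') (hΦp : Φ ^ p = 1) (j : ZMod p) :
    Φ ^ (j + 1).val = Φ ^ (j.val + 1) := by
  rw [ZMod.val_add, ZMod.val_one]
  exact (pow_eq_pow_mod _ hΦp).symm

theorem eigen_P (ω : A) (hω1 : ω ^ p = 1) (Φ : L' →ₗ[A] L') (hΦp : Φ ^ p = 1) (u : ℕ)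
    (k : ZMod p) (x : L') :
    zeta ω k • Φ (P ω Φ u k x) = P ω Φ u k x := by
  rw [P_apply, map_nsmul, map_sum, smul_comm, Finset.smul_sum]
  congr 1
  rw [← Fintype.sum_equiv (Equiv.addRight (1 : ZMod p))
    (fun j => zeta ω (k * (j + 1)) • (Φ ^ (j + 1).val) x)
    (fun j => zeta ω (k * j) • (Φ ^ j.val) x) (fun j => rfl)]
  refine Finset.sum_congr rfl (fun j _ => ?_)
  rw [map_smul, smul_smul, mul_add, mul_one, zeta_add ω hω1, mul_comm, pow_val_succ Φ hΦp,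
    pow_succ', Module.End.mul_apply]

omit [Fact p.Prime] in
theorem eigen_iter (ω : A) (Φ : L' →ₗ[A] L') (k : ZMod p) (y : L')
    (hy : zeta ω k • Φ y = y) (n : ℕ) : ω ^ (k.val * n) • (Φ ^ n) y = y := by
  induction n with
  | zero => simp
  | succ n ih =>
    rw [Nat.mul_succ, pow_add, pow_succ, Module.End.mul_apply, mul_smul]
    have : ω ^ k.val • (Φ ^ n) (Φ y) = (Φ ^ n) (zeta ω k • Φ y) := by
      rw [map_smul]; rfl
    rw [this, hy, ih]

theorem eigen_psi (ω : A) (hω1 : ω ^ p = 1) (Φ : L' →ₗ[A] L') (k : ZMod p) (y : L')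
    (hy : zeta ω k • Φ y = y) (a : ZMod p) : (Φ ^ a.val) y = zeta ω (-(k * a)) • y := by
  have h1 : zeta ω (k * a) • (Φ ^ a.val) y = y := by
    rw [zeta_mul_val ω hω1]
    exact eigen_iter ω Φ k y hy a.val
  calc (Φ ^ a.val) y = (zeta ω (-(k * a)) * zeta ω (k * a)) • (Φ ^ a.val) y := by
        rw [zeta_neg_mul ω hω1, one_smul]
    _ = zeta ω (-(k * a)) • y := by rw [mul_smul, h1]

theorem P_of_eigen (ω : A) (hω1 : ω ^ p = 1) (hω : ∑ i ∈ Finset.range p, ω ^ i = 0)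
    (Φ : L' →ₗ[A] L') (u : ℕ) (hu : ∀ x : L', (u * p) • x = x)
    (k : ZMod p) (y : L') (hy : zeta ω k • Φ y = y) (l : ZMod p) :
    P ω Φ u l y = if l = k then y else 0 := by
  rw [P_apply]
  have h1 : ∀ a : ZMod p, zeta ω (l * a) • (Φ ^ a.val) y = zeta ω ((l - k) * a) • y := by
    intro a
    rw [eigen_psi ω hω1 Φ k y hy a, smul_smul, ← zeta_add ω hω1]
    congr 2
    ring
  rw [Finset.sum_congr rfl (fun a _ => h1 a), ← Finset.sum_smul, sum_zeta_mul ω hω]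
  by_cases hlk : l = k
  · subst hlk
    simp only [sub_self, if_true]
    rw [Nat.cast_smul_eq_nsmul, ← mul_smul]
    exact hu y
  · have : l - k ≠ 0 := sub_ne_zero.mpr hlk
    simp [this, hlk]

end

end BC5

open BC5 in
/-- P5 -/
theorem grading_of_eigen {p : ℕ} [Fact p.Prime] {A : Type*} [CommRing A] {L' : Type*} [LieRing L']
    [LieAlgebra A L'] (ω : A) (hω1 : ω ^ p = 1) (hω : ∑ i ∈ Finset.range p, ω ^ i = 0)
    (Φ : L' →ₗ[A] L') (hΦlie : ∀ x y, Φ ⁅x, y⁆ = ⁅Φ x, Φ y⁆) (hΦp : ∀ x, Φ^[p] x = x)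
    (hfix : ∀ x, Φ x = x → x = 0) (u : ℕ) (hu : ∀ x : L', (u * p) • x = x) :
    Nonempty (PGrading p L') := by
  have hΦp' : Φ ^ p = 1 := by
    ext x
    rw [Module.End.pow_apply, hΦp x]
    rfl
  have hE : ∀ k x, zeta ω k • Φ (P ω Φ u k x) = P ω Φ u k x :=
    fun k x => eigen_P ω hω1 Φ hΦp' u k x
  have hPE : ∀ (k : ZMod p) (y : L'), zeta ω k • Φ y = y →
      ∀ l : ZMod p, P ω Φ u l y = if l = k then y else 0 :=
    fun k y hy l => P_of_eigen ω hω1 hω Φ u hu k y hy l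
  refine ⟨{ π := P ω Φ u, idem := ?_, sum := ?_, zero := ?_, lie := ?_ }⟩
  · intro i j x
    rw [hPE j _ (hE j x) i]
  · intro x
    simp only [P_apply]
    rw [← Finset.smul_sum, Finset.sum_comm]
    have h1 : ∀ j : ZMod p, ∑ k : ZMod p, zeta ω (k * j) • (Φ ^ j.val) x =
        (if j = 0 then (p : A) else 0) • (Φ ^ j.val) x := by
      intro j
      rw [← Finset.sum_smul, ← sum_zeta_mul ω hω j]
      congr 1
      exact Finset.sum_congr rfl (fun k _ => by rw [mul_comm])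
    rw [Finset.sum_congr rfl (fun j _ => h1 j)]
    simp only [ite_smul, zero_smul, Finset.sum_ite_eq', Finset.mem_univ, if_true, ZMod.val_zero,
      pow_zero, Module.End.one_apply]
    rw [Nat.cast_smul_eq_nsmul, ← mul_smul]
    exact hu x
  · intro x
    apply hfix
    have := hE 0 x
    rwa [zeta_zero, one_smul] at this
  · intro i j x y
    have hxy : zeta ω (i + j) • Φ ⁅P ω Φ u i x, P ω Φ u j y⁆ = ⁅P ω Φ u i x, P ω Φ u j y⁆ := by
      rw [hΦlie, zeta_add ω hω1, mul_smul, ← lie_smul, ← smul_lie, hE i x, hE j y]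
    rw [hPE (i + j) _ hxy (i + j), if_pos rfl]

end Cfsg.Agent.Lib.Helper7.Hkk
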