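import Mathlib

set_option autoImplicit false

/-! Three-cycles `cyc a b c` (`a → b → c → a`) and their basic calculus, towards
`Aut(A_n) = S_n`. -/

namespace Cfsg.Agent.Lib.Helper9.H9AutAlt

open Equiv Equiv.Perm

section
variable {α : Type*} [DecidableEq α]

/-- The three-cycle `a → b → c → a`. -/
def cyc (a b c : α) : Perm α := swap a b * swap b c

theorem cyc_apply_fst {a b c : α} (hab : a ≠ b) (hac : a ≠ c) : cyc a b c a = b := by
  simp [cyc, Equiv.swap_apply_of_ne_of_ne hab hac]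

theorem cyc_apply_snd {a b c : α} (hac : a ≠ c) (hbc : b ≠ c) : cyc a b c b = c := by
  simp [cyc, Equiv.swap_apply_of_ne_of_ne hac.symm hbc.symm]

theorem cyc_apply_trd {a b c : α} : cyc a b c c = a := by
  simp [cyc]

theorem cyc_apply_of_ne {a b c x : α} (ha : x ≠ a) (hb : x ≠ b) (hc : x ≠ c) :
    cyc a b c x = x := by
  simp [cyc, Equiv.swap_apply_of_ne_of_ne hb hc, Equiv.swap_apply_of_ne_of_ne ha hb]

theorem cyc_conj (σ : Perm α) (a b c : α) :
    σ * cyc a b c * σ⁻¹ = cyc (σ a) (σ b) (σ c) := by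
  unfold cyc
  rw [Equiv.swap_apply_apply, Equiv.swap_apply_apply]
  group

theorem cyc_rot {a b c : α} (hab : a ≠ b) (hac : a ≠ c) (hbc : b ≠ c) :
    cyc a b c = cyc b c a := by
  ext x
  by_cases hxa : x = a
  · subst hxa
    rw [cyc_apply_fst hab hac, cyc_apply_trd]
  by_cases hxb : x = b
  · subst hxb
    rw [cyc_apply_snd hac hbc, cyc_apply_fst hbc hxa]
  by_cases hxc : x = c
  · subst hxc
    rw [cyc_apply_trd, cyc_apply_snd hab.symm hxa]
  rw [cyc_apply_of_ne hxa hxb hxc, cyc_apply_of_ne hxb hxc hxa]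

theorem cyc_isThreeCycle {a b c : α} [Fintype α] (hab : a ≠ b) (hac : a ≠ c) (hbc : b ≠ c) :
    (cyc a b c).IsThreeCycle := by
  have h : cyc a b c = swap b a * swap b c := by
    unfold cyc
    rw [Equiv.swap_comm a b]
  rw [h]
  exact Equiv.Perm.isThreeCycle_swap_mul_swap_same hab.symm hbc (hac)

theorem cyc_inv {a b c : α} : (cyc a b c)⁻¹ = swap b c * swap a b := by
  unfold cyc
  rw [mul_inv_rev, Equiv.swap_inv, Equiv.swap_inv]

end

end Cfsg.Agent.Lib.Helper9.H9AutAlt
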