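import Mathlib
import Cfsg.Agent.Lib.Helper9.AutAlt1

set_option autoImplicit false

/-! Decomposition of three-cycles and the normal form of an adjacent pair. -/

namespace Cfsg.Agent.Lib.Helper9.H9AutAlt

open Equiv Equiv.Perm

section
variable {α : Type*} [DecidableEq α] [Fintype α]

theorem threeCycle_eq_cyc {σ : Perm α} (h : σ.IsThreeCycle) {a : α} (ha : σ a ≠ a) :
    σ = cyc a (σ a) (σ (σ a)) ∧ a ≠ σ a ∧ a ≠ σ (σ a) ∧ σ a ≠ σ (σ a) ∧ σ (σ (σ a)) = a := by
  have hmem : a ∈ σ.support := by rwa [mem_support]
  have h1 := h.eq_swap_mul_swap_iff_mem_support.mpr hmem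
  have h2 := h.nodup_iff_mem_support.mpr hmem
  have h3 : (σ ^ 3) a = a := by
    rw [← h.orderOf, pow_orderOf_eq_one]; rfl
  refine ⟨h1, ?_, ?_, ?_, ?_⟩
  · intro e; simp [← e] at h2
  · intro e
    simp only [List.nodup_cons, List.mem_cons] at h2
    exact h2.1 (Or.inr (by simpa using e))
  · intro e
    simp only [List.nodup_cons, List.mem_cons] at h2
    exact h2.2.1 (by simpa using e)
  · simpa [pow_succ] using h3

theorem threeCycle_fixed_of_ne {σ : Perm α} (h : σ.IsThreeCycle) {a x : α} (ha : σ a ≠ a)
    (h1 : x ≠ a) (h2 : x ≠ σ a) (h3 : x ≠ σ (σ a)) : σ x = x := by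
  have hmem : a ∈ σ.support := by rwa [mem_support]
  have hs := h.support_eq_iff_mem_support.mpr hmem
  by_contra hx
  have : x ∈ σ.support := by rwa [mem_support]
  rw [hs] at this
  simp only [Finset.mem_insert, Finset.mem_singleton] at this
  rcases this with e | e | e
  · exact h1 e
  · exact h2 e
  · exact h3 e

/-- Two three-cycles whose product is an involution share an ordered pair of points. -/
theorem adjacent_form {s t : Perm α} (hs : s.IsThreeCycle) (ht : t.IsThreeCycle)
    (h2 : (s * t) * (s * t) = 1) (h1 : s * t ≠ 1) :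
    ∃ a b c d : α, a ≠ b ∧ a ≠ c ∧ a ≠ d ∧ b ≠ c ∧ b ≠ d ∧ c ≠ d ∧
      s = cyc a b c ∧ t = cyc a b d := by
  -- a point moved by `t` and fixed by `s`
  have key : ∃ d, t d ≠ d ∧ s d = d := by
    by_contra hcon
    push Not at hcon
    have hsub : t.support ⊆ s.support := by
      intro x hx
      rw [mem_support] at hx ⊢
      exact hcon x hx
    have hsupp : (s * t).support ⊆ s.support := by
      refine (support_mul_le s t).trans ?_
      exact Finset.union_subset (Finset.Subset.refl _) hsub
    have hcard : (s * t).support.card ≤ 3 := by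
      rw [← hs.card_support]
      exact Finset.card_le_card hsupp
    have hord : orderOf (s * t) = 2 := by
      refine orderOf_eq_prime ?_ h1
      rw [pow_two]; exact h2
    have hpr : (orderOf (s * t)).Prime := by rw [hord]; exact Nat.prime_two
    obtain ⟨m, hm⟩ := cycleType_prime_order hpr
    rw [hord] at hm
    have hsum : (s * t).cycleType.sum = 2 * (m + 1) := by
      rw [hm, Multiset.sum_replicate, smul_eq_mul, mul_comm]
    have hsign : sign (s * t) = 1 := by
      rw [map_mul, hs.sign, ht.sign, mul_one]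
    rw [sign_of_cycleType, hsum, hm, Multiset.card_replicate] at hsign
    have hev : Even (2 * (m + 1) + (m + 1)) := by
      by_contra hodd
      rw [Nat.not_even_iff_odd] at hodd
      rw [hodd.neg_one_pow] at hsign
      exact absurd hsign (by decide)
    have hm1 : 1 ≤ m := by
      rcases Nat.eq_zero_or_pos m with h0 | h0
      · subst h0; exact absurd hev (by decide)
      · exact h0
    rw [sum_cycleType] at hsum
    omega
  obtain ⟨d, htd, hsd⟩ := key
  obtain ⟨ht1, hda, hdb, hab, htb⟩ := threeCycle_eq_cyc ht htd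
  have hsa : s (t d) = t (t d) := by
    have := congrArg (fun f : Perm α => f (t (t d))) h2
    simp only [Perm.coe_mul, Function.comp_apply, Perm.coe_one, id_eq] at this
    rw [htb, hsd] at this
    exact this
  have hsa' : s (t d) ≠ t d := by
    rw [hsa]; exact hab.symm
  obtain ⟨hs1, hab', hac, hbc, -⟩ := threeCycle_eq_cyc hs hsa'
  rw [hsa] at hs1 hac hbc
  refine ⟨t d, t (t d), s (t (t d)), d, hab, hac, hda.symm, hbc, hdb.symm, ?_, hs1, ?_⟩
  · intro e
    have h5 : s (s (t (t d))) = t d := by
      have := (threeCycle_eq_cyc hs hsa').2.2.2.2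
      rwa [hsa] at this
    rw [e, hsd] at h5
    exact hda h5
  · exact ht1.trans (cyc_rot hda hdb hab)

end

end Cfsg.Agent.Lib.Helper9.H9AutAlt
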