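import Mathlib
import Cfsg.Agent.Lib.Helper9.AutAlt2

set_option autoImplicit false

/-! A three-cycle adjacent to two adjacent three-cycles `(a b c)`, `(a b d)` is `(a b e)`. -/

namespace Cfsg.Agent.Lib.Helper9.H9AutAlt

open Equiv Equiv.Perm

section
variable {α : Type*} [DecidableEq α] [Fintype α]

theorem cyc_eq_cases {a b c a' b' c' : α} (hab : a ≠ b) (hac : a ≠ c) (hbc : b ≠ c)
    (hab' : a' ≠ b') (hac' : a' ≠ c') (hbc' : b' ≠ c')
    (h : cyc a b c = cyc a' b' c') :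
    (a = a' ∧ b = b' ∧ c = c') ∨ (b = a' ∧ c = b' ∧ a = c') ∨ (c = a' ∧ a = b' ∧ b = c') := by
  have e1 : cyc a b c a' = b' := by rw [h, cyc_apply_fst hab' hac']
  have e2 : cyc a b c b' = c' := by rw [h, cyc_apply_snd hac' hbc']
  by_cases h1 : a' = a
  · left
    subst h1
    rw [cyc_apply_fst hab hac] at e1
    subst e1
    rw [cyc_apply_snd hac hbc] at e2
    exact ⟨rfl, rfl, e2⟩
  by_cases h2 : a' = b
  · right; left
    subst h2
    rw [cyc_apply_snd hac hbc] at e1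
    subst e1
    rw [cyc_apply_trd] at e2
    exact ⟨rfl, rfl, e2⟩
  by_cases h3 : a' = c
  · right; right
    subst h3
    rw [cyc_apply_trd] at e1
    subst e1
    rw [cyc_apply_fst hab hac] at e2
    exact ⟨rfl, rfl, e2⟩
  exfalso
  rw [cyc_apply_of_ne h1 h2 h3] at e1
  exact hab' e1

theorem third_form {a b c d : α} (hab : a ≠ b) (hac : a ≠ c) (had : a ≠ d) (hbc : b ≠ c)
    (hbd : b ≠ d) (hcd : c ≠ d) {u : Perm α} (hu : u.IsThreeCycle)
    (h1 : (cyc a b c * u) * (cyc a b c * u) = 1) (h1' : cyc a b c * u ≠ 1)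
    (h2 : (cyc a b d * u) * (cyc a b d * u) = 1) (h2' : cyc a b d * u ≠ 1) :
    ∃ e, e ≠ a ∧ e ≠ b ∧ u = cyc a b e := by
  obtain ⟨a1, b1, c1, d1, hab1, hac1, had1, hbc1, hbd1, hcd1, hs1, hu1⟩ :=
    adjacent_form (cyc_isThreeCycle hab hac hbc) hu h1 h1'
  obtain ⟨a2, b2, c2, d2, hab2, hac2, had2, hbc2, hbd2, hcd2, hs2, hu2⟩ :=
    adjacent_form (cyc_isThreeCycle hab had hbd) hu h2 h2'
  -- values of `u`
  have u_a1 : u a1 = b1 := by rw [hu1, cyc_apply_fst hab1 had1]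
  have u_b1 : u b1 = d1 := by rw [hu1, cyc_apply_snd had1 hbd1]
  have u_d1 : u d1 = a1 := by rw [hu1, cyc_apply_trd]
  have u_a2 : u a2 = b2 := by rw [hu2, cyc_apply_fst hab2 had2]
  have u_b2 : u b2 = d2 := by rw [hu2, cyc_apply_snd had2 hbd2]
  have u_d2 : u d2 = a2 := by rw [hu2, cyc_apply_trd]
  have u_fix : ∀ x, x ≠ a1 → x ≠ b1 → x ≠ d1 → u x = x := by
    intro x h1 h2 h3
    rw [hu1, cyc_apply_of_ne h1 h2 h3]
  rcases cyc_eq_cases hab hac hbc hab1 hac1 hbc1 hs1 with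
    ⟨rfl, rfl, rfl⟩ | ⟨rfl, rfl, rfl⟩ | ⟨rfl, rfl, rfl⟩
  · exact ⟨d1, had1.symm, hbd1.symm, hu1⟩
  · -- (a1, b1, c1) = (b, c, a): u b = c, u c = d1, u d1 = b
    exfalso
    rcases cyc_eq_cases hab had hbd hab2 hac2 hbc2 hs2 with
      ⟨rfl, rfl, rfl⟩ | ⟨rfl, rfl, rfl⟩ | ⟨rfl, rfl, rfl⟩
    · -- u a = b and u d1 = b
      have : a = d1 := u.injective (u_a2.trans u_d1.symm)
      exact hcd1 this
    · -- u b = c and u b = d
      exact hcd (u_a1.symm.trans u_a2)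
    · -- u d = a, so d is moved, hence d = d1, so u d = b
      have hmoved : u d ≠ d := by rw [u_a2]; exact had
      have : d = d1 := by
        by_contra hne
        exact hmoved (u_fix d hbd.symm hcd.symm hne)
      rw [this, u_d1] at u_a2
      exact hab u_a2.symm
  · -- (a1, b1, c1) = (c, a, b): u c = a, u a = d1, u d1 = c
    exfalso
    rcases cyc_eq_cases hab had hbd hab2 hac2 hbc2 hs2 with
      ⟨rfl, rfl, rfl⟩ | ⟨rfl, rfl, rfl⟩ | ⟨rfl, rfl, rfl⟩
    · -- u a = d1 and u a = b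
      exact hcd1 (u_a2.symm.trans u_b1)
    · -- u b = d, so b is moved, but b ∉ {c, a, d1}
      have hmoved : u b ≠ b := by rw [u_a2]; exact hbd.symm
      exact hmoved (u_fix b hbc hab.symm hcd1)
    · -- u d = a = u c
      have : d = c := u.injective (u_a2.trans u_a1.symm)
      exact hcd this.symm

end

end Cfsg.Agent.Lib.Helper9.H9AutAlt
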