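import Mathlib
import Cfsg.Agent.Lib.Helper9.AutAlt3

set_option autoImplicit false

/-! The three-cycles `(z0 z1 i)` generate the alternating group. -/

namespace Cfsg.Agent.Lib.Helper9.H9AutAlt

open Equiv Equiv.Perm

section
variable {α : Type*} [DecidableEq α]

theorem cyc_inv' {a b c : α} : (cyc a b c)⁻¹ = cyc c b a := by
  unfold cyc
  rw [mul_inv_rev, Equiv.swap_inv, Equiv.swap_inv, Equiv.swap_comm b c, Equiv.swap_comm a b]

/-- `(a b c)(a b d)` is an involution. -/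
theorem cyc_mul_cyc_sq {a b c d : α} (hab : a ≠ b) (hac : a ≠ c) (had : a ≠ d) (hbc : b ≠ c)
    (hbd : b ≠ d) (hcd : c ≠ d) :
    (cyc a b c * cyc a b d) * (cyc a b c * cyc a b d) = 1 := by
  have ea : (cyc a b c * cyc a b d) a = c := by
    rw [Perm.mul_apply, cyc_apply_fst hab had, cyc_apply_snd hac hbc]
  have eb : (cyc a b c * cyc a b d) b = d := by
    rw [Perm.mul_apply, cyc_apply_snd had hbd, cyc_apply_of_ne had.symm hbd.symm hcd.symm]
  have ec : (cyc a b c * cyc a b d) c = a := by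
    rw [Perm.mul_apply, cyc_apply_of_ne hac.symm hbc.symm hcd, cyc_apply_trd]
  have ed : (cyc a b c * cyc a b d) d = b := by
    rw [Perm.mul_apply, cyc_apply_trd, cyc_apply_fst hab hac]
  ext x
  rw [Perm.mul_apply, Perm.one_apply]
  by_cases hxa : x = a
  · rw [hxa, ea, ec]
  by_cases hxb : x = b
  · rw [hxb, eb, ed]
  by_cases hxc : x = c
  · rw [hxc, ec, ea]
  by_cases hxd : x = d
  · rw [hxd, ed, eb]
  have e : (cyc a b c * cyc a b d) x = x := by
    rw [Perm.mul_apply, cyc_apply_of_ne hxa hxb hxd, cyc_apply_of_ne hxa hxb hxc]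
  rw [e, e]

theorem cyc_mul_cyc_ne_one {a b c d : α} (hab : a ≠ b) (hac : a ≠ c) (had : a ≠ d)
    (hbc : b ≠ c) : cyc a b c * cyc a b d ≠ 1 := by
  intro h
  have := congrArg (fun f : Perm α => f a) h
  simp only [Perm.mul_apply, Perm.one_apply] at this
  rw [cyc_apply_fst hab had, cyc_apply_snd hac hbc] at this
  exact hac this.symm

variable (z0 z1 : α)

/-- The generating set `{(z0 z1 i)}`. -/
def genSet : Set (Perm α) := {σ | ∃ i, i ≠ z0 ∧ i ≠ z1 ∧ σ = cyc z0 z1 i}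

variable {z0 z1}

theorem gen_mem {i : α} (h0 : i ≠ z0) (h1 : i ≠ z1) :
    cyc z0 z1 i ∈ Subgroup.closure (genSet z0 z1) :=
  Subgroup.subset_closure ⟨i, h0, h1, rfl⟩

theorem gen_mem' (h01 : z0 ≠ z1) {i : α} (h0 : i ≠ z0) (h1 : i ≠ z1) :
    cyc z1 z0 i ∈ Subgroup.closure (genSet z0 z1) := by
  have : cyc z1 z0 i = (cyc z0 z1 i)⁻¹ := by
    rw [cyc_inv']
    exact (cyc_rot h01.symm h1.symm h0.symm).trans (cyc_rot h0.symm h01 h1)
  rw [this]
  exact inv_mem (gen_mem h0 h1)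

theorem gen_mem_zero (h01 : z0 ≠ z1) {i j : α} (hi0 : i ≠ z0) (hi1 : i ≠ z1) (hj0 : j ≠ z0)
    (hj1 : j ≠ z1) (hij : i ≠ j) : cyc z0 i j ∈ Subgroup.closure (genSet z0 z1) := by
  have : cyc z0 i j = cyc z0 z1 j * (cyc z0 z1 i)⁻¹ := by
    rw [cyc_inv']
    ext x
    rw [Perm.mul_apply]
    by_cases hx0 : x = z0
    · rw [hx0, cyc_apply_trd, cyc_apply_fst hi0.symm hj0.symm,
        cyc_apply_of_ne hi0 hi1 hij]
    by_cases hxi : x = i
    · rw [hxi, cyc_apply_snd hj0.symm hij, cyc_apply_fst hi1 hi0, cyc_apply_snd hj0.symm hj1.symm]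
    by_cases hxj : x = j
    · rw [hxj, cyc_apply_trd, cyc_apply_of_ne hij.symm hj1 hj0, cyc_apply_trd]
    by_cases hx1 : x = z1
    · rw [hx1, cyc_apply_of_ne h01.symm hi1.symm hj1.symm, cyc_apply_snd hi0 h01.symm,
        cyc_apply_fst h01 hj0.symm]
    rw [cyc_apply_of_ne hx0 hxi hxj, cyc_apply_of_ne hxi hx1 hx0, cyc_apply_of_ne hx0 hx1 hxj]
  rw [this]
  exact mul_mem (gen_mem hj0 hj1) (inv_mem (gen_mem hi0 hi1))

theorem gen_mem_one (h01 : z0 ≠ z1) {i j : α} (hi0 : i ≠ z0) (hi1 : i ≠ z1) (hj0 : j ≠ z0)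
    (hj1 : j ≠ z1) (hij : i ≠ j) : cyc z1 i j ∈ Subgroup.closure (genSet z0 z1) := by
  have : cyc z1 i j = (cyc z0 z1 j)⁻¹ * cyc z0 z1 i := by
    rw [cyc_inv']
    ext x
    rw [Perm.mul_apply]
    by_cases hx1 : x = z1
    · rw [hx1, cyc_apply_fst hi1.symm hj1.symm, cyc_apply_snd hi0.symm hi1.symm,
        cyc_apply_of_ne hij hi1 hi0]
    by_cases hxi : x = i
    · rw [hxi, cyc_apply_snd hj1.symm hij, cyc_apply_trd, cyc_apply_trd]
    by_cases hxj : x = j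
    · rw [hxj, cyc_apply_trd, cyc_apply_of_ne hj0 hj1 hij.symm, cyc_apply_fst hj1 hj0]
    by_cases hx0 : x = z0
    · rw [hx0, cyc_apply_of_ne h01 hi0.symm hj0.symm, cyc_apply_fst h01 hi0.symm,
        cyc_apply_snd hj0 h01.symm]
    rw [cyc_apply_of_ne hx1 hxi hxj, cyc_apply_of_ne hx0 hx1 hxi, cyc_apply_of_ne hxj hx1 hx0]
  rw [this]
  exact mul_mem (inv_mem (gen_mem hj0 hj1)) (gen_mem hi0 hi1)

theorem gen_mem_none (h01 : z0 ≠ z1) {i j k : α} (hi0 : i ≠ z0) (hi1 : i ≠ z1) (hj0 : j ≠ z0)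
    (hj1 : j ≠ z1) (hk0 : k ≠ z0) (hk1 : k ≠ z1) (hij : i ≠ j) (hik : i ≠ k) (hjk : j ≠ k) :
    cyc i j k ∈ Subgroup.closure (genSet z0 z1) := by
  have h := cyc_conj (cyc z0 z1 k)⁻¹ z0 i j
  have e0 : (cyc z0 z1 k)⁻¹ z0 = k := by
    rw [Perm.inv_eq_iff_eq, cyc_apply_trd]
  have ei : (cyc z0 z1 k)⁻¹ i = i := by
    rw [Perm.inv_eq_iff_eq, cyc_apply_of_ne hi0 hi1 hik]
  have ej : (cyc z0 z1 k)⁻¹ j = j := by
    rw [Perm.inv_eq_iff_eq, cyc_apply_of_ne hj0 hj1 hjk]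
  rw [e0, ei, ej] at h
  have h2 : cyc i j k = cyc k i j := by
    rw [cyc_rot hij hik hjk, cyc_rot hjk hij.symm hik.symm]
  rw [h2, ← h]
  exact mul_mem (mul_mem (inv_mem (gen_mem hk0 hk1)) (gen_mem_zero h01 hi0 hi1 hj0 hj1 hij))
    (inv_mem (inv_mem (gen_mem hk0 hk1)))

/-- A three-cycle whose first point is `z0` or `z1` and whose last point is not. -/
theorem gen_mem_first (h01 : z0 ≠ z1) {x y z : α} (hx : x = z0 ∨ x = z1) (hz0 : z ≠ z0)
    (hz1 : z ≠ z1) (hxy : x ≠ y) (hyz : y ≠ z) :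
    cyc x y z ∈ Subgroup.closure (genSet z0 z1) := by
  by_cases hy : y = z0 ∨ y = z1
  · rcases hx with rfl | rfl
    · rcases hy with rfl | rfl
      · exact absurd rfl hxy
      · exact gen_mem hz0 hz1
    · rcases hy with rfl | rfl
      · exact gen_mem' h01 hz0 hz1
      · exact absurd rfl hxy
  · push Not at hy
    rcases hx with rfl | rfl
    · exact gen_mem_zero h01 hy.1 hy.2 hz0 hz1 hyz
    · exact gen_mem_one h01 hy.1 hy.2 hz0 hz1 hyz

theorem cyc_mem_closure (h01 : z0 ≠ z1) {x y z : α} (hxy : x ≠ y) (hxz : x ≠ z) (hyz : y ≠ z) :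
    cyc x y z ∈ Subgroup.closure (genSet z0 z1) := by
  by_cases hx : x = z0 ∨ x = z1
  · by_cases hz : z = z0 ∨ z = z1
    · by_cases hy : y = z0 ∨ y = z1
      · exfalso
        rcases hx with rfl | rfl <;> rcases hy with rfl | rfl <;> rcases hz with rfl | rfl <;>
          simp_all
      · push Not at hy
        -- rotate to (z, x, y)
        rw [cyc_rot hxy hxz hyz, cyc_rot hyz hxy.symm hxz.symm]
        exact gen_mem_first h01 hz hy.1 hy.2 hxz.symm hxy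
    · push Not at hz
      exact gen_mem_first h01 hx hz.1 hz.2 hxy hyz
  · push Not at hx
    by_cases hy : y = z0 ∨ y = z1
    · -- rotate to (y, z, x)
      rw [cyc_rot hxy hxz hyz]
      exact gen_mem_first h01 hy hx.1 hx.2 hyz hxz.symm
    · push Not at hy
      by_cases hz : z = z0 ∨ z = z1
      · rw [cyc_rot hxy hxz hyz, cyc_rot hyz hxy.symm hxz.symm]
        exact gen_mem_first h01 hz hy.1 hy.2 hxz.symm hxy
      · push Not at hz
        exact gen_mem_none h01 hx.1 hx.2 hy.1 hy.2 hz.1 hz.2 hxy hxz hyz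

theorem alternatingGroup_le_closure [Fintype α] (h01 : z0 ≠ z1) :
    alternatingGroup α ≤ Subgroup.closure (genSet z0 z1) := by
  rw [← closure_three_cycles_eq_alternating, Subgroup.closure_le]
  intro σ hσ
  have hσ3 : σ.IsThreeCycle := hσ
  obtain ⟨a, ha⟩ : ∃ a, σ a ≠ a := by
    by_contra hcon
    push Not at hcon
    exact hσ3.ne_one (Perm.ext hcon)
  obtain ⟨h1, h2, h3, h4, -⟩ := threeCycle_eq_cyc hσ3 ha
  rw [SetLike.mem_coe, h1]
  exact cyc_mem_closure h01 h2 h3 h4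

end

end Cfsg.Agent.Lib.Helper9.H9AutAlt
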