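import Mathlib
import Cfsg.Agent.Lib.Helper9.AutAlt4

set_option autoImplicit false

/-! An automorphism of the alternating group preserving three-cycles is a conjugation. -/

namespace Cfsg.Agent.Lib.Helper9.H9AutAlt

open Equiv Equiv.Perm

section
variable {α : Type*} [DecidableEq α] [Fintype α]

theorem exists_conj_of_preserves (φ : alternatingGroup α ≃* alternatingGroup α)
    (hφ : ∀ g : alternatingGroup α, (g : Perm α).IsThreeCycle → (φ g : Perm α).IsThreeCycle)
    {z0 z1 p2 p3 : α} (h01 : z0 ≠ z1) (h20 : p2 ≠ z0) (h21 : p2 ≠ z1) (h30 : p3 ≠ z0)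
    (h31 : p3 ≠ z1) (h23 : p2 ≠ p3) :
    ∃ π : Perm α, ∀ g : alternatingGroup α, (φ g : Perm α) = π * g * π⁻¹ := by
  classical
  have hmem : ∀ i, i ≠ z0 → i ≠ z1 → cyc z0 z1 i ∈ alternatingGroup α := fun i h0 h1 =>
    (cyc_isThreeCycle h01 h0.symm h1.symm).mem_alternatingGroup
  let U : α → Perm α := fun i =>
    if h : i ≠ z0 ∧ i ≠ z1 then (φ ⟨cyc z0 z1 i, hmem i h.1 h.2⟩ : Perm α) else 1
  have hU : ∀ i (h0 : i ≠ z0) (h1 : i ≠ z1),
      U i = (φ ⟨cyc z0 z1 i, hmem i h0 h1⟩ : Perm α) := by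
    intro i h0 h1
    simp only [U]
    rw [dif_pos ⟨h0, h1⟩]
  have hU3 : ∀ i, i ≠ z0 → i ≠ z1 → (U i).IsThreeCycle := by
    intro i h0 h1
    rw [hU i h0 h1]
    exact hφ _ (cyc_isThreeCycle h01 h0.symm h1.symm)
  have hadj : ∀ i j, i ≠ z0 → i ≠ z1 → j ≠ z0 → j ≠ z1 → i ≠ j →
      (U i * U j) * (U i * U j) = 1 ∧ U i * U j ≠ 1 := by
    intro i j hi0 hi1 hj0 hj1 hij
    rw [hU i hi0 hi1, hU j hj0 hj1]
    constructor
    · have h1 := cyc_mul_cyc_sq h01 hi0.symm hj0.symm hi1.symm hj1.symm hij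
      have h2 : ((⟨cyc z0 z1 i, hmem i hi0 hi1⟩ : alternatingGroup α) *
          ⟨cyc z0 z1 j, hmem j hj0 hj1⟩) * (⟨cyc z0 z1 i, hmem i hi0 hi1⟩ *
          ⟨cyc z0 z1 j, hmem j hj0 hj1⟩) = 1 := Subtype.ext h1
      have h3 := congrArg φ h2
      rw [map_mul, map_mul, map_one] at h3
      exact congrArg Subtype.val h3
    · intro h
      have h2 : φ ((⟨cyc z0 z1 i, hmem i hi0 hi1⟩ : alternatingGroup α) *
          ⟨cyc z0 z1 j, hmem j hj0 hj1⟩) = 1 := by
        rw [map_mul]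
        exact Subtype.ext h
      have h3 := φ.injective (h2.trans (map_one φ).symm)
      exact cyc_mul_cyc_ne_one h01 hi0.symm hj0.symm hi1.symm (congrArg Subtype.val h3)
  obtain ⟨a, b, c, d, hab, hac, had, hbc, hbd, hcd, h2, h3⟩ :=
    adjacent_form (hU3 p2 h20 h21) (hU3 p3 h30 h31) (hadj p2 p3 h20 h21 h30 h31 h23).1
      (hadj p2 p3 h20 h21 h30 h31 h23).2
  have hform : ∀ i, i ≠ z0 → i ≠ z1 → ∃ e, e ≠ a ∧ e ≠ b ∧ U i = cyc a b e := by
    intro i hi0 hi1
    by_cases hi2 : i = p2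
    · rw [hi2]; exact ⟨c, hac.symm, hbc.symm, h2⟩
    by_cases hi3 : i = p3
    · rw [hi3]; exact ⟨d, had.symm, hbd.symm, h3⟩
    have A := hadj p2 i h20 h21 hi0 hi1 (Ne.symm hi2)
    have B := hadj p3 i h30 h31 hi0 hi1 (Ne.symm hi3)
    rw [h2] at A
    rw [h3] at B
    exact third_form hab hac had hbc hbd hcd (hU3 i hi0 hi1) A.1 A.2 B.1 B.2
  let π0 : α → α := fun i => if i = z0 then a else if i = z1 then b else U i b
  have hπ0 : ∀ i, i ≠ z0 → i ≠ z1 → U i = cyc a b (π0 i) ∧ π0 i ≠ a ∧ π0 i ≠ b := by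
    intro i hi0 hi1
    obtain ⟨e, hea, heb, he⟩ := hform i hi0 hi1
    have : π0 i = e := by
      simp only [π0]
      rw [if_neg hi0, if_neg hi1, he, cyc_apply_snd hea.symm heb.symm]
    rw [this]
    exact ⟨he, hea, heb⟩
  have hπa : π0 z0 = a := by
    simp [π0]
  have hπb : π0 z1 = b := by
    simp [π0, h01.symm]
  have hinj : Function.Injective π0 := by
    intro i j hij
    by_cases hi0 : i = z0
    · by_cases hj0 : j = z0
      · rw [hi0, hj0]
      · exfalso
        rw [hi0, hπa] at hij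
        by_cases hj1 : j = z1
        · rw [hj1, hπb] at hij
          exact hab hij
        · exact (hπ0 j hj0 hj1).2.1 hij.symm
    · by_cases hi1 : i = z1
      · by_cases hj1 : j = z1
        · rw [hi1, hj1]
        · exfalso
          rw [hi1, hπb] at hij
          by_cases hj0 : j = z0
          · rw [hj0, hπa] at hij
            exact hab hij.symm
          · exact (hπ0 j hj0 hj1).2.2 hij.symm
      · by_cases hj0 : j = z0
        · exfalso
          rw [hj0, hπa] at hij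
          exact (hπ0 i hi0 hi1).2.1 hij
        · by_cases hj1 : j = z1
          · exfalso
            rw [hj1, hπb] at hij
            exact (hπ0 i hi0 hi1).2.2 hij
          · have e1 := (hπ0 i hi0 hi1).1
            have e2 := (hπ0 j hj0 hj1).1
            rw [hij] at e1
            have e3 : U i = U j := e1.trans e2.symm
            rw [hU i hi0 hi1, hU j hj0 hj1] at e3
            have e4 := φ.injective (Subtype.ext e3)
            have e5 : cyc z0 z1 i = cyc z0 z1 j := congrArg Subtype.val e4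
            have e6 := DFunLike.congr_fun e5 z1
            rw [cyc_apply_snd (Ne.symm hi0) (Ne.symm hi1),
              cyc_apply_snd (Ne.symm hj0) (Ne.symm hj1)] at e6
            exact e6
  let π : Perm α := Equiv.ofBijective π0 (Finite.injective_iff_bijective.mp hinj)
  have hπapp : ∀ i, π i = π0 i := fun i => rfl
  have hgen : ∀ i (hi0 : i ≠ z0) (hi1 : i ≠ z1), U i = π * cyc z0 z1 i * π⁻¹ := by
    intro i hi0 hi1
    rw [cyc_conj, hπapp, hπapp, hπapp, hπa, hπb]
    exact (hπ0 i hi0 hi1).1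
  refine ⟨π, ?_⟩
  have key : ∀ σ ∈ Subgroup.closure (genSet z0 z1),
      ∃ h : σ ∈ alternatingGroup α, (φ ⟨σ, h⟩ : Perm α) = π * σ * π⁻¹ := by
    intro σ hσ
    induction hσ using Subgroup.closure_induction with
    | mem x hx =>
      obtain ⟨i, hi0, hi1, rfl⟩ := hx
      exact ⟨hmem i hi0 hi1, by rw [← hU i hi0 hi1, hgen i hi0 hi1]⟩
    | one =>
      refine ⟨one_mem _, ?_⟩
      have : (⟨1, one_mem _⟩ : alternatingGroup α) = 1 := rfl
      rw [this, map_one]
      simp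
    | mul x y _ _ hx hy =>
      obtain ⟨h1, e1⟩ := hx
      obtain ⟨h2, e2⟩ := hy
      refine ⟨mul_mem h1 h2, ?_⟩
      have : (⟨x * y, mul_mem h1 h2⟩ : alternatingGroup α) = ⟨x, h1⟩ * ⟨y, h2⟩ := rfl
      rw [this, map_mul, Subgroup.coe_mul, e1, e2]
      group
    | inv x _ hx =>
      obtain ⟨h1, e1⟩ := hx
      refine ⟨inv_mem h1, ?_⟩
      have : (⟨x⁻¹, inv_mem h1⟩ : alternatingGroup α) = (⟨x, h1⟩)⁻¹ := rfl
      rw [this, map_inv, Subgroup.coe_inv, e1]
      group
  intro g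
  obtain ⟨h, e⟩ := key g (alternatingGroup_le_closure h01 g.2)
  exact e

end

end Cfsg.Agent.Lib.Helper9.H9AutAlt
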