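import Mathlib
import Cfsg.Agent.Lib.Helper9.AutAlt5

set_option autoImplicit false

/-! Counting: automorphisms of `A_n`, `n ≠ 6`, preserve three-cycles. -/

namespace Cfsg.Agent.Lib.Helper9.H9AutAlt

open Equiv Equiv.Perm Nat

theorem arith_three (m j : ℕ) :
    2 * 3 ^ (m + 3) * (m + 3)! * j ! < 3 * (j + 3 * (m + 2))! := by
  induction m with
  | zero =>
    have h1 : j ! * 6! ≤ (j + 6)! :=
      Nat.le_of_dvd (Nat.factorial_pos _) (Nat.factorial_mul_factorial_dvd_factorial_add j 6)
    have h6 : (6 : ℕ)! = 720 := by decide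
    have h3 : (3 : ℕ)! = 6 := by decide
    have hj : 0 < j ! := Nat.factorial_pos j
    rw [h6] at h1
    simp only [zero_add, h3]
    norm_num
    nlinarith
  | succ m ih =>
    obtain ⟨N, hN⟩ : ∃ N, N = j + 3 * (m + 2) := ⟨_, rfl⟩
    have e1 : (m + 1 + 3)! = (m + 4) * (m + 3)! := by
      rw [show m + 1 + 3 = (m + 3) + 1 by ring, Nat.factorial_succ]
    have e2 : (j + 3 * (m + 1 + 2))! = (N + 3) * ((N + 2) * ((N + 1) * N !)) := by
      rw [show j + 3 * (m + 1 + 2) = N + 1 + 1 + 1 by rw [hN]; ring, Nat.factorial_succ,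
        Nat.factorial_succ, Nat.factorial_succ]
    rw [← hN] at ih
    rw [e1, e2, show m + 1 + 3 = (m + 3) + 1 by ring, pow_succ]
    have hpos : 0 < N ! := Nat.factorial_pos _
    have hk : 3 * (m + 4) ≤ (N + 3) * ((N + 2) * (N + 1)) := by
      have h1 : 2 * 1 ≤ (N + 2) * (N + 1) := Nat.mul_le_mul (by omega) (by omega)
      have h2 : 3 * (m + 4) ≤ (N + 3) * 2 := by rw [hN]; omega
      calc 3 * (m + 4) ≤ (N + 3) * 2 := h2
        _ ≤ (N + 3) * ((N + 2) * (N + 1)) := Nat.mul_le_mul_left _ (by omega)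
    calc 2 * (3 ^ (m + 3) * 3) * ((m + 4) * (m + 3)!) * j !
        = 3 * (m + 4) * (2 * 3 ^ (m + 3) * (m + 3)! * j !) := by ring
      _ < 3 * (m + 4) * (3 * N !) :=
          Nat.mul_lt_mul_of_pos_left ih (by positivity)
      _ ≤ (N + 3) * ((N + 2) * (N + 1)) * (3 * N !) :=
          Nat.mul_le_mul_right _ hk
      _ = 3 * ((N + 3) * ((N + 2) * ((N + 1) * N !))) := by
          ring

theorem arith_two (j : ℕ) (hj : 1 ≤ j) : 2 * 3 ^ 2 * 2! * j ! < 3 * (j + 3)! := by
  have e : (j + 3)! = (j + 3) * ((j + 2) * ((j + 1) * j !)) := by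
    rw [Nat.factorial_succ, Nat.factorial_succ, Nat.factorial_succ]
  have h2 : (2 : ℕ)! = 2 := by decide
  have hpos : 0 < j ! := Nat.factorial_pos j
  rw [e, h2]
  have h24 : 4 * (3 * 2) ≤ (j + 3) * ((j + 2) * (j + 1)) :=
    Nat.mul_le_mul (by omega) (Nat.mul_le_mul (by omega) (by omega))
  calc 2 * 3 ^ 2 * 2 * j ! = 36 * j ! := by ring
    _ < 3 * (4 * (3 * 2)) * j ! := by nlinarith
    _ ≤ 3 * ((j + 3) * ((j + 2) * (j + 1))) * j ! :=
        Nat.mul_le_mul_right _ (Nat.mul_le_mul_left _ h24)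
    _ = 3 * ((j + 3) * ((j + 2) * ((j + 1) * j !))) := by ring

/-- The arithmetic inequality used for counting. -/
theorem arith_main (k j : ℕ) (hk : 2 ≤ k) (h : 3 ≤ k ∨ 1 ≤ j) :
    2 * 3 ^ k * k ! * j ! < 3 * (j + 3 * (k - 1))! := by
  rcases Nat.lt_or_ge k 3 with hlt | hge
  · have hk2 : k = 2 := by omega
    subst hk2
    have hj : 1 ≤ j := by
      rcases h with h | h
      · omega
      · exact h
    simpa using arith_two j hj
  · obtain ⟨m, rfl⟩ : ∃ m, k = m + 3 := ⟨k - 3, by omega⟩
    have := arith_three m j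
    rwa [show m + 3 - 1 = m + 2 by omega]

section
variable {α : Type*} [DecidableEq α] [Fintype α]

theorem card_filter_replicate (k : ℕ) (hk : 1 ≤ k) (hkn : 3 * k ≤ Fintype.card α) :
    (Finset.univ.filter fun g : alternatingGroup α =>
        (g : Perm α).cycleType = Multiset.replicate k 3).card *
      ((Fintype.card α - 3 * k)! * 3 ^ k * k !) = (Fintype.card α)! := by
  have h := AlternatingGroup.card_of_cycleType_mul_eq α (Multiset.replicate k 3)
  have hsum : (Multiset.replicate k 3).sum = 3 * k := by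
    rw [Multiset.sum_replicate, smul_eq_mul, mul_comm]
  have hprod : (Multiset.replicate k 3).prod = 3 ^ k := Multiset.prod_replicate k 3
  have hfin : (Multiset.replicate k 3).toFinset = {3} := by
    rw [Multiset.toFinset_replicate, if_neg (by omega)]
  have hcond : ((Multiset.replicate k 3).sum ≤ Fintype.card α ∧
      ∀ a ∈ Multiset.replicate k 3, 2 ≤ a) ∧
      Even ((Multiset.replicate k 3).sum + Multiset.card (Multiset.replicate k 3)) := by
    refine ⟨⟨by rw [hsum]; exact hkn, ?_⟩, ?_⟩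
    · intro a ha
      rw [Multiset.eq_of_mem_replicate ha]
      norm_num
    · rw [hsum, Multiset.card_replicate]
      exact ⟨2 * k, by ring⟩
  rw [if_pos hcond, hsum, hprod, hfin, Finset.prod_singleton, Multiset.count_replicate_self] at h
  exact h

/-- Automorphisms of the alternating group of degree `≠ 6` preserve three-cycles. -/
theorem map_isThreeCycle (hn : Fintype.card α ≠ 6)
    (f : alternatingGroup α ≃* alternatingGroup α) (g : alternatingGroup α)
    (hg : (g : Perm α).IsThreeCycle) : (f g : Perm α).IsThreeCycle := by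
  have hord : orderOf (f g : Perm α) = 3 := by
    rw [Subgroup.orderOf_coe, MulEquiv.orderOf_eq, ← Subgroup.orderOf_coe, hg.orderOf]
  have hpr : (orderOf (f g : Perm α)).Prime := by rw [hord]; exact Nat.prime_three
  obtain ⟨m, hm⟩ := cycleType_prime_order hpr
  rw [hord] at hm
  rcases Nat.eq_zero_or_pos m with h0 | hmpos
  · subst h0
    exact hm
  exfalso
  set k := m + 1 with hk
  have hk2 : 2 ≤ k := by omega
  have hkn : 3 * k ≤ Fintype.card α := by
    have := sum_cycleType_le (f g : Perm α)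
    rw [hm, Multiset.sum_replicate, smul_eq_mul] at this
    omega
  have h7 : 7 ≤ Fintype.card α := by omega
  -- an odd permutation
  obtain ⟨x, y, hxy⟩ : ∃ x y : α, x ≠ y := by
    have : 1 < Fintype.card α := by omega
    exact Fintype.exists_pair_of_one_lt_card this
  set t : Perm α := swap x y with ht
  have hts : sign t = -1 := sign_swap hxy
  set T1 := Finset.univ.filter fun z : alternatingGroup α =>
    (z : Perm α).cycleType = Multiset.replicate 1 3 with hT1
  set Tk := Finset.univ.filter fun z : alternatingGroup α =>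
    (z : Perm α).cycleType = Multiset.replicate k 3 with hTk
  have hg1 : (g : Perm α).cycleType = Multiset.replicate 1 3 := hg
  have hsub : Tk ⊆ T1.image f ∪ T1.image (fun y => (MulAut.conjNormal t : MulAut (alternatingGroup α)) (f y)) := by
    intro z hz
    rw [hTk, Finset.mem_filter] at hz
    have hconj : IsConj (f g : Perm α) (z : Perm α) := by
      rw [isConj_iff_cycleType_eq, hm, hz.2]
    obtain ⟨σ, hσ⟩ := isConj_iff.mp hconj
    rcases Int.units_eq_one_or (sign σ) with hs | hs
    · -- even conjugator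
      have hσA : σ ∈ alternatingGroup α := mem_alternatingGroup.mpr hs
      rw [Finset.mem_union]; left
      rw [Finset.mem_image]
      refine ⟨f.symm ⟨σ, hσA⟩ * g * (f.symm ⟨σ, hσA⟩)⁻¹, ?_, ?_⟩
      · rw [hT1, Finset.mem_filter]
        refine ⟨Finset.mem_univ _, ?_⟩
        rw [Subgroup.coe_mul, Subgroup.coe_mul, Subgroup.coe_inv, cycleType_conj]
        exact hg1
      · rw [map_mul, map_mul, map_inv, MulEquiv.apply_symm_apply]
        exact Subtype.ext hσ
    · -- odd conjugator
      have hτ : sign (t⁻¹ * σ) = 1 := by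
        rw [map_mul, map_inv, hts, hs]; decide
      have hτA : t⁻¹ * σ ∈ alternatingGroup α := mem_alternatingGroup.mpr hτ
      rw [Finset.mem_union]; right
      rw [Finset.mem_image]
      refine ⟨f.symm ⟨t⁻¹ * σ, hτA⟩ * g * (f.symm ⟨t⁻¹ * σ, hτA⟩)⁻¹, ?_, ?_⟩
      · rw [hT1, Finset.mem_filter]
        refine ⟨Finset.mem_univ _, ?_⟩
        rw [Subgroup.coe_mul, Subgroup.coe_mul, Subgroup.coe_inv, cycleType_conj]
        exact hg1
      · have e1 : f (f.symm ⟨t⁻¹ * σ, hτA⟩ * g * (f.symm ⟨t⁻¹ * σ, hτA⟩)⁻¹) =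
            ⟨t⁻¹ * σ, hτA⟩ * f g * (⟨t⁻¹ * σ, hτA⟩ : alternatingGroup α)⁻¹ := by
          rw [map_mul, map_mul, map_inv, MulEquiv.apply_symm_apply]
        show (MulAut.conjNormal t : MulAut (alternatingGroup α))
          (f (f.symm ⟨t⁻¹ * σ, hτA⟩ * g * (f.symm ⟨t⁻¹ * σ, hτA⟩)⁻¹)) = z
        rw [e1]
        apply Subtype.ext
        rw [MulAut.conjNormal_apply]
        rw [Subgroup.coe_mul, Subgroup.coe_mul, Subgroup.coe_inv]
        rw [← hσ]
        simp only [mul_inv_rev, inv_inv]
        group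
  have hcard : Tk.card ≤ T1.card + T1.card := by
    calc Tk.card ≤ (T1.image f ∪ T1.image (fun y => (MulAut.conjNormal t : MulAut (alternatingGroup α)) (f y))).card := Finset.card_le_card hsub
      _ ≤ (T1.image f).card + (T1.image (fun y => (MulAut.conjNormal t : MulAut (alternatingGroup α)) (f y))).card := Finset.card_union_le _ _
      _ ≤ T1.card + T1.card := Nat.add_le_add Finset.card_image_le Finset.card_image_le
  have c1 := card_filter_replicate (α := α) 1 le_rfl (by omega)
  have ck := card_filter_replicate (α := α) k (by omega) hkn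
  rw [← hT1] at c1
  rw [← hTk] at ck
  obtain ⟨j, hj⟩ : ∃ j, Fintype.card α = j + 3 * k := ⟨Fintype.card α - 3 * k, by omega⟩
  have hj1 : 3 ≤ k ∨ 1 ≤ j := by
    rcases Nat.lt_or_ge k 3 with h | h
    · right; omega
    · left; exact h
  have harith := arith_main k j hk2 hj1
  have e1 : Fintype.card α - 3 * k = j := by omega
  have e2 : Fintype.card α - 3 * 1 = j + 3 * (k - 1) := by omega
  rw [e1] at ck
  rw [e2] at c1
  simp only [pow_one, Nat.factorial_one, mul_one] at c1
  have hT1pos : 0 < T1.card := by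
    rcases Nat.eq_zero_or_pos T1.card with h | h
    · rw [h, zero_mul] at c1
      exact absurd c1.symm (Nat.factorial_ne_zero _)
    · exact h
  -- T1.card * ((j + 3 (k-1))! * 3) = Tk.card * (j! * 3^k * k!)
  have hEq : T1.card * ((j + 3 * (k - 1))! * 3) = Tk.card * (j ! * 3 ^ k * k !) := by
    rw [c1, ck]
  have hle : T1.card * ((j + 3 * (k - 1))! * 3) ≤ (T1.card + T1.card) * (j ! * 3 ^ k * k !) := by
    rw [hEq]
    exact Nat.mul_le_mul_right _ hcard
  have : T1.card * (3 * (j + 3 * (k - 1))!) ≤ T1.card * (2 * 3 ^ k * k ! * j !) := by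
    calc T1.card * (3 * (j + 3 * (k - 1))!) = T1.card * ((j + 3 * (k - 1))! * 3) := by ring
      _ ≤ (T1.card + T1.card) * (j ! * 3 ^ k * k !) := hle
      _ = T1.card * (2 * 3 ^ k * k ! * j !) := by ring
  have := Nat.le_of_mul_le_mul_left this hT1pos
  omega

end

end Cfsg.Agent.Lib.Helper9.H9AutAlt
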