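import Mathlib
import Cfsg.Prelude
import Cfsg.Agent.Lib.Helper9.ChainStab1

set_option autoImplicit false

/-!
# Characteristic chains of length three
-/

namespace Cfsg.Agent.H9CS

open Cfsg

variable {H : Type*} [Group H]

/-- the chain `1 ≤ K₁ ≤ K₂ ≤ H` -/
def chain3 (K₁ K₂ : Subgroup H) : ℕ → Subgroup H
  | 0 => ⊥
  | 1 => K₁
  | 2 => K₂
  | _ => ⊤

theorem inn_isPGroup (p : ℕ) (hH : IsPGroup p H) (A : Subgroup (MulAut H)) :
    IsPGroup p ((Inn H).subgroupOf A) := by
  apply IsPGroup.comap_subtype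
  have : Inn H = (⊤ : Subgroup H).map (MulAut.conj : H →* MulAut H) := by
    rw [← MonoidHom.range_eq_map]
  rw [this]
  exact (IsPGroup.of_equiv hH Subgroup.topEquiv.symm).map _

theorem chain3_contra [Finite H] (p : ℕ) [Fact p.Prime] (hH : IsPGroup p H)
    (A : Subgroup (MulAut H)) (hN : ((Inn H).subgroupOf A).Normal)
    (E : Subgroup (A ⧸ (Inn H).subgroupOf A)) (hE : IsStronglyPEmbedded p E)
    (K₁ K₂ : Subgroup H) (hchar₁ : ∀ α : MulAut H, ∀ h ∈ K₁, α h ∈ K₁)
    (hchar₂ : ∀ α : MulAut H, ∀ h ∈ K₂, α h ∈ K₂) (hc1 : Nat.card K₁ ∣ p)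
    (hc2 : K₁.relIndex K₂ ∣ p) (hc3 : K₂.index ∣ p) : False := by
  refine chain_contra p hH A ((Inn H).subgroupOf A) (inn_isPGroup p hH A) E hE (chain3 K₁ K₂) ?_ rfl 3 rfl ?_
  · intro i α h hh
    rcases i with _ | _ | _ | i
    · have : h = 1 := hh
      rw [this, map_one]
      exact Subgroup.one_mem _
    · exact hchar₁ α h hh
    · exact hchar₂ α h hh
    · exact Subgroup.mem_top _
  · intro i
    rcases i with _ | _ | _ | i
    · show (⊥ : Subgroup H).relIndex K₁ ∣ p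
      rw [Subgroup.relIndex_bot_left]
      exact hc1
    · exact hc2
    · show K₂.relIndex ⊤ ∣ p
      rw [Subgroup.relIndex_top_right]
      exact hc3
    · show (⊤ : Subgroup H).relIndex ⊤ ∣ p
      rw [Subgroup.relIndex_top_right, Subgroup.index_top]
      exact one_dvd p

end Cfsg.Agent.H9CS
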