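import Mathlib
import Cfsg.Prelude
import Cfsg.Agent.Lib.Helper9.ChainStab2
import Cfsg.Agent.Lib.Lead.OmegaAut

set_option autoImplicit false

/-!
# Groups of order `p ^ 3`: structure and characteristic chains
-/

namespace Cfsg.Agent.H9P3

open Cfsg
open scoped commutatorElement

variable {H : Type*} [Group H] [Finite H]

theorem pow_sq_of_not_cyclic (p : ℕ) [Fact p.Prime] (hcard : Nat.card H = p ^ 3)
    (hnc : ¬ IsCyclic H) (x : H) : x ^ (p ^ 2) = 1 := by
  have hpp : p.Prime := Fact.out
  have hdvd : orderOf x ∣ p ^ 3 := hcard ▸ orderOf_dvd_natCard x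
  obtain ⟨k, hk, hk'⟩ := (Nat.dvd_prime_pow hpp).mp hdvd
  have hk3 : k ≠ 3 := by
    rintro rfl
    exact hnc (isCyclic_of_orderOf_eq_card x (by rw [hk', hcard]))
  apply orderOf_dvd_iff_pow_eq_one.mp
  rw [hk']
  exact pow_dvd_pow p (by omega)

theorem nonab_center (p : ℕ) [Fact p.Prime] (hcard : Nat.card H = p ^ 3)
    (hna : ¬ ∀ a b : H, a * b = b * a) :
    Nat.card (Subgroup.center H) = p ∧ (∀ x y : H, ⁅x, y⁆ ∈ Subgroup.center H) ∧
      ∀ x : H, x ^ p ∈ Subgroup.center H := by
  have hpp : p.Prime := Fact.out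
  have hH : IsPGroup p H := IsPGroup.of_card hcard
  haveI : Nontrivial H := by
    rw [← Finite.one_lt_card_iff_nontrivial, hcard]
    exact Nat.one_lt_pow (by norm_num) hpp.one_lt
  have hdvd : Nat.card (Subgroup.center H) ∣ p ^ 3 := hcard ▸ Subgroup.card_subgroup_dvd_card _
  obtain ⟨k, hk, hk'⟩ := (Nat.dvd_prime_pow hpp).mp hdvd
  have hidx : Nat.card (Subgroup.center H) * (Subgroup.center H).index = p ^ 3 := by
    rw [Subgroup.card_mul_index, hcard]
  have hk0 : k ≠ 0 := by
    rintro rfl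
    have := hH.center_nontrivial
    rw [← Finite.one_lt_card_iff_nontrivial, hk', pow_zero] at this
    exact lt_irrefl _ this
  have hk3 : k ≠ 3 := by
    rintro rfl
    apply hna
    have htop : Subgroup.center H = ⊤ := by
      apply (Subgroup.card_eq_iff_eq_top _).mp
      rw [hk', hcard]
    intro a b
    have : a ∈ Subgroup.center H := by rw [htop]; exact Subgroup.mem_top a
    exact (Subgroup.mem_center_iff.mp this b).symm
  have hk2 : k ≠ 2 := by
    rintro rfl
    apply hna
    have hi : (Subgroup.center H).index = p := by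
      rw [hk'] at hidx
      have : p ^ 2 * (Subgroup.center H).index = p ^ 2 * p := by rw [hidx]; ring
      exact Nat.eq_of_mul_eq_mul_left (pow_pos hpp.pos 2) this
    have hq : Nat.card (H ⧸ Subgroup.center H) = p := hi
    haveI : IsCyclic (H ⧸ Subgroup.center H) := isCyclic_of_prime_card hq
    have := isMulCommutative_of_isCyclic_quotient_center_self (G := H)
    exact this.is_comm.comm
  have hk1 : k = 1 := by omega
  subst hk1
  rw [pow_one] at hk'
  have hi : (Subgroup.center H).index = p ^ 2 := by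
    rw [hk'] at hidx
    have : p * (Subgroup.center H).index = p * p ^ 2 := by rw [hidx]; ring
    exact Nat.eq_of_mul_eq_mul_left hpp.pos this
  have hq : Nat.card (H ⧸ Subgroup.center H) = p ^ 2 := hi
  have hqc := (IsPGroup.isMulCommutative_of_card_eq_prime_sq hq).is_comm.comm
  refine ⟨hk', ?_, ?_⟩
  · intro x y
    rw [← QuotientGroup.eq_one_iff]
    have : ((⁅x, y⁆ : H) : H ⧸ Subgroup.center H) =
        ⁅(x : H ⧸ Subgroup.center H), (y : H ⧸ Subgroup.center H)⁆ :=
      map_commutatorElement (QuotientGroup.mk' (Subgroup.center H)) x y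
    rw [this, commutatorElement_eq_one_iff_mul_comm]
    exact hqc _ _
  · intro x
    rw [← QuotientGroup.eq_one_iff, QuotientGroup.mk_pow]
    have hd : orderOf (x : H ⧸ Subgroup.center H) ∣ p ^ 2 := hq ▸ orderOf_dvd_natCard _
    obtain ⟨j, hj, hj'⟩ := (Nat.dvd_prime_pow hpp).mp hd
    have hj2 : j ≠ 2 := by
      rintro rfl
      apply hna
      haveI : IsCyclic (H ⧸ Subgroup.center H) :=
        isCyclic_of_orderOf_eq_card (x : H ⧸ Subgroup.center H) (by rw [hj', hq])
      have := isMulCommutative_of_isCyclic_quotient_center_self (G := H)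
      exact this.is_comm.comm
    apply orderOf_dvd_iff_pow_eq_one.mp
    rw [hj']
    calc p ^ j ∣ p ^ 1 := pow_dvd_pow p (by omega)
      _ = p := pow_one p

/-- the `p`-power endomorphism -/
def powHom (p : ℕ) (hmul : ∀ x y : H, (x * y) ^ p = x ^ p * y ^ p) : H →* H where
  toFun x := x ^ p
  map_one' := one_pow p
  map_mul' := hmul

theorem powHom_apply (p : ℕ) (hmul : ∀ x y : H, (x * y) ^ p = x ^ p * y ^ p) (x : H) :
    powHom p hmul x = x ^ p := rfl

/-- if the `p`-th power map is an endomorphism of a noncyclic group of order `p ^ 3` which is not of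
exponent `p`, there is a characteristic chain with factors of order `p` -/
theorem contra_of_powHom (p : ℕ) [Fact p.Prime] (hcard : Nat.card H = p ^ 3)
    (hmul : ∀ x y : H, (x * y) ^ p = x ^ p * y ^ p) (hsq : ∀ x : H, x ^ (p ^ 2) = 1)
    (hne : ∃ x : H, x ^ p ≠ 1) (A : Subgroup (MulAut H)) (hN : ((Inn H).subgroupOf A).Normal)
    (E : Subgroup (A ⧸ (Inn H).subgroupOf A)) (hE : IsStronglyPEmbedded p E) : False := by
  have hpp : p.Prime := Fact.out
  have hH : IsPGroup p H := IsPGroup.of_card hcard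
  obtain ⟨π, hπ⟩ : ∃ π : H →* H, π = powHom p hmul := ⟨_, rfl⟩
  have hπa : ∀ x, π x = x ^ p := by intro x; rw [hπ]; rfl
  have hle : π.range ≤ π.ker := by
    rintro _ ⟨x, rfl⟩
    rw [MonoidHom.mem_ker, hπa, hπa, ← pow_mul, ← sq]
    exact hsq x
  have hprod : Nat.card π.range * Nat.card π.ker = p ^ 3 := by
    rw [← Subgroup.index_ker, mul_comm, Subgroup.card_mul_index, hcard]
  have hd1 : Nat.card π.range ∣ p ^ 3 := Dvd.intro _ hprod
  have hd2 : Nat.card π.ker ∣ p ^ 3 := Dvd.intro_left _ hprod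
  obtain ⟨a, ha, ha'⟩ := (Nat.dvd_prime_pow hpp).mp hd1
  obtain ⟨b, hb, hb'⟩ := (Nat.dvd_prime_pow hpp).mp hd2
  have hab : a + b = 3 := by
    rw [ha', hb', ← pow_add] at hprod
    exact Nat.pow_right_injective hpp.two_le hprod
  have hab' : a ≤ b := by
    have := Subgroup.card_dvd_of_le hle
    rw [ha', hb'] at this
    exact (Nat.pow_dvd_pow_iff_le_right hpp.one_lt).mp this
  have ha0 : a ≠ 0 := by
    rintro rfl
    rw [pow_zero] at ha'
    obtain ⟨x, hx⟩ := hne
    apply hx
    have : π.range = ⊥ := Subgroup.card_eq_one.mp ha'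
    have hm : π x ∈ π.range := ⟨x, rfl⟩
    rw [this, Subgroup.mem_bot, hπa] at hm
    exact hm
  have ha1 : a = 1 := by omega
  have hb2 : b = 2 := by omega
  subst ha1
  subst hb2
  rw [pow_one] at ha'
  refine H9CS.chain3_contra p hH A hN E hE π.range π.ker ?_ ?_ ?_ ?_ ?_
  · rintro α _ ⟨x, rfl⟩
    refine ⟨α x, ?_⟩
    rw [hπa, hπa, map_pow]
  · intro α x hx
    rw [MonoidHom.mem_ker, hπa] at hx ⊢
    rw [← map_pow, hx, map_one]
  · rw [ha']
  · have h1 := Subgroup.relIndex_mul_relIndex ⊥ π.range π.ker bot_le hle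
    rw [Subgroup.relIndex_bot_left, Subgroup.relIndex_bot_left, ha', hb'] at h1
    have : p * π.range.relIndex π.ker = p * p := by rw [h1]; ring
    rw [Nat.eq_of_mul_eq_mul_left hpp.pos this]
  · rw [Subgroup.index_ker, ha']

end Cfsg.Agent.H9P3
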