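import Mathlib
import Cfsg.Prelude
import Cfsg.Agent.Lib.Helper9.P3Class1
import Cfsg.Agent.Lib.Lead.Frattini
import Cfsg.Agent.Lib.Lead.QuatRecog
import Cfsg.Agent.Lib.Helper6.Frattini

set_option autoImplicit false

/-!
# Groups of order `p ^ 3`: the extraspecial case and the case `p = 2`
-/

namespace Cfsg.Agent.H9P3

open Cfsg
open scoped commutatorElement

variable {H : Type*} [Group H] [Finite H]

theorem isExtraspecial_of_nonab (p : ℕ) [Fact p.Prime] (hcard : Nat.card H = p ^ 3)
    (hna : ¬ ∀ a b : H, a * b = b * a) : Cfsg.IsExtraspecial p H := by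
  have hpp : p.Prime := Fact.out
  have hH : IsPGroup p H := IsPGroup.of_card hcard
  obtain ⟨hZ, hcomm, hpow⟩ := nonab_center p hcard hna
  have hle : commutator H ≤ Subgroup.center H := by
    rw [commutator_def, Subgroup.commutator_le]
    intro x _ y _
    exact hcomm x y
  have hcZ : commutator H = Subgroup.center H := by
    apply Subgroup.eq_of_le_of_card_ge hle
    have hd := Subgroup.card_dvd_of_le hle
    rw [hZ] at hd ⊢
    rcases (Nat.dvd_prime hpp).mp hd with h1 | h1
    · exfalso
      apply hna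
      intro a b
      have hbot : commutator H = ⊥ := Subgroup.card_eq_one.mp h1
      have hm : ⁅a, b⁆ ∈ commutator H := by
        rw [commutator_def]
        exact Subgroup.commutator_mem_commutator (Subgroup.mem_top a) (Subgroup.mem_top b)
      rw [hbot, Subgroup.mem_bot, commutatorElement_eq_one_iff_mul_comm] at hm
      exact hm
    · exact h1.ge
  refine ⟨⟨hH, ?_, hcZ⟩, hZ⟩
  apply le_antisymm
  · exact Cfsg.Agent.Lib.Helper6.frattini_le_of_elemAb (p := p) (Subgroup.center H) hcomm hpow
  · rw [← hcZ]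
    exact Cfsg.Agent.Lib.Lead.commutator_le_frattini_of_isPGroup hH

omit [Finite H] in
theorem top_of_index_two {N K : Subgroup H} (hN : N.index = 2) (hNK : N ≤ K) {x : H} (hxK : x ∈ K)
    (hxN : x ∉ N) : K = ⊤ := by
  rw [eq_top_iff]
  intro g _
  by_cases hg : g ∈ N
  · exact hNK hg
  · have h1 : x⁻¹ * g ∈ N := by
      rw [Subgroup.mul_mem_iff_of_index_two hN, Subgroup.inv_mem_iff]
      exact ⟨fun h => absurd h hxN, fun h => absurd h hg⟩
    have : g = x * (x⁻¹ * g) := by group
    rw [this]
    exact Subgroup.mul_mem _ hxK (hNK h1)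

omit [Finite H] in
theorem comm_of_sq (h : ∀ x : H, x ^ 2 = 1) (a b : H) : a * b = b * a := by
  have hinv : ∀ x : H, x⁻¹ = x := fun x => by
    rw [inv_eq_iff_mul_eq_one, ← sq]
    exact h x
  calc a * b = (a * b)⁻¹ := (hinv _).symm
    _ = b⁻¹ * a⁻¹ := mul_inv_rev a b
    _ = b * a := by rw [hinv, hinv]

theorem mem_zpowers_four {a g : H} (ha : orderOf a = 4) (hg : g ∈ Subgroup.zpowers a) :
    g = 1 ∨ g = a ∨ g = a ^ 2 ∨ g = a ^ 3 := by
  classical
  rw [mem_zpowers_iff_mem_range_orderOf, ha] at hg
  simp only [Finset.mem_image, Finset.mem_range] at hg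
  obtain ⟨i, hi, rfl⟩ := hg
  interval_cases i
  · left; exact pow_zero a
  · right; left; exact pow_one a
  · right; right; left; rfl
  · right; right; right; rfl

theorem two_case [Fact (Nat.Prime 2)] (hcard : Nat.card H = 2 ^ 3) (hna : ¬ ∀ a b : H, a * b = b * a)
    (A : Subgroup (MulAut H)) (hN : ((Inn H).subgroupOf A).Normal)
    (E : Subgroup (A ⧸ (Inn H).subgroupOf A)) (hE : IsStronglyPEmbedded 2 E) :
    Nonempty (H ≃* QuaternionGroup 2) := by
  have hH : IsPGroup 2 H := IsPGroup.of_card hcard
  have hnc : ¬ IsCyclic H := by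
    intro hc
    apply hna
    intro a b
    exact (IsCyclic.isMulCommutative (α := H)).is_comm.comm a b
  -- an element of order 4
  obtain ⟨a, ha⟩ : ∃ a : H, orderOf a = 4 := by
    by_contra hno
    push Not at hno
    apply hna
    apply comm_of_sq
    intro x
    have hdvd : orderOf x ∣ 2 ^ 3 := hcard ▸ orderOf_dvd_natCard x
    obtain ⟨k, hk, hk'⟩ := (Nat.dvd_prime_pow Nat.prime_two).mp hdvd
    have hk3 : k ≠ 3 := by
      rintro rfl
      exact hnc (isCyclic_of_orderOf_eq_card x (by rw [hk', hcard]))
    have hk2 : k ≠ 2 := by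
      rintro rfl
      exact hno x (by rw [hk']; norm_num)
    apply orderOf_dvd_iff_pow_eq_one.mp
    rw [hk']
    calc 2 ^ k ∣ 2 ^ 1 := pow_dvd_pow 2 (by omega)
      _ = 2 := pow_one 2
  have ha4 : a ^ 4 = 1 := by rw [← ha]; exact pow_orderOf_eq_one a
  have ha2 : a ^ 2 ≠ 1 := by
    intro h
    have := orderOf_dvd_of_pow_eq_one h
    rw [ha] at this
    norm_num at this
  obtain ⟨N, hNdef⟩ : ∃ N : Subgroup H, N = Subgroup.zpowers a := ⟨_, rfl⟩
  have haN : a ∈ N := by rw [hNdef]; exact Subgroup.mem_zpowers a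
  have hNcard : Nat.card N = 4 := by rw [hNdef, Nat.card_zpowers, ha]
  have hNidx : N.index = 2 := by
    have := Subgroup.card_mul_index N
    rw [hNcard, hcard] at this
    omega
  haveI hNn : N.Normal := Subgroup.normal_of_index_eq_two hNidx
  have hNmem : ∀ g ∈ N, g = 1 ∨ g = a ∨ g = a ^ 2 ∨ g = a ^ 3 := by
    intro g hg
    rw [hNdef] at hg
    exact mem_zpowers_four ha hg
  -- elements of order 4 in `N`
  have hN4 : ∀ g ∈ N, orderOf g = 4 → g = a ∨ g = a ^ 3 := by
    intro g hg hog
    rcases hNmem g hg with rfl | rfl | rfl | rfl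
    · rw [orderOf_one] at hog; norm_num at hog
    · left; rfl
    · exfalso
      have : (a ^ 2) ^ 2 = 1 := by rw [← pow_mul]; exact ha4
      have := orderOf_dvd_of_pow_eq_one this
      rw [hog] at this
      norm_num at this
    · right; rfl
  have ha3 : a ^ 3 = a⁻¹ := by
    rw [eq_inv_iff_mul_eq_one, ← pow_succ]
    exact ha4
  -- the action of an element outside `N`
  have hconj : ∀ x : H, x ∉ N → x * a * x⁻¹ = a⁻¹ := by
    intro x hx
    have h1 : x * a * x⁻¹ ∈ N := hNn.conj_mem a haN x
    have h2 : orderOf (x * a * x⁻¹) = 4 := by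
      have := (MulAut.conj x).orderOf_eq a
      rw [MulAut.conj_apply] at this
      rw [this, ha]
    rcases hN4 _ h1 h2 with h3 | h3
    · exfalso
      have hxa : x * a = a * x := by
        calc x * a = x * a * x⁻¹ * x := by group
          _ = a * x := by rw [h3]
      -- then `a` and `x` are central
      have hK1 : Subgroup.centralizer ({a} : Set H) = ⊤ := by
        apply top_of_index_two hNidx _ (x := x) _ hx
        · rw [hNdef, Subgroup.zpowers_le]
          exact Subgroup.mem_centralizer_singleton_iff.mpr rfl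
        · exact Subgroup.mem_centralizer_singleton_iff.mpr hxa
      have hK2 : Subgroup.centralizer ({x} : Set H) = ⊤ := by
        apply top_of_index_two hNidx _ (x := x) _ hx
        · rw [hNdef, Subgroup.zpowers_le]
          exact Subgroup.mem_centralizer_singleton_iff.mpr hxa.symm
        · exact Subgroup.mem_centralizer_singleton_iff.mpr rfl
      have hac : a ∈ Subgroup.center H := by
        rw [Subgroup.mem_center_iff]
        intro g
        have : g ∈ Subgroup.centralizer ({a} : Set H) := by rw [hK1]; exact Subgroup.mem_top g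
        exact Subgroup.mem_centralizer_singleton_iff.mp this
      have hxc : x ∈ Subgroup.center H := by
        rw [Subgroup.mem_center_iff]
        intro g
        have : g ∈ Subgroup.centralizer ({x} : Set H) := by rw [hK2]; exact Subgroup.mem_top g
        exact Subgroup.mem_centralizer_singleton_iff.mp this
      have hK3 : Subgroup.center H = ⊤ := by
        apply top_of_index_two hNidx _ hxc hx
        rw [hNdef, Subgroup.zpowers_le]
        exact hac
      apply hna
      intro u v
      have : u ∈ Subgroup.center H := by rw [hK3]; exact Subgroup.mem_top u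
      exact (Subgroup.mem_center_iff.mp this v).symm
    · rw [h3, ha3]
  have hsq : ∀ x : H, x ∉ N → x ^ 2 = 1 ∨ x ^ 2 = a ^ 2 := by
    intro x hx
    have h1 : x ^ 2 ∈ N := Subgroup.sq_mem_of_index_two hNidx x
    have hc := hconj x hx
    have hpow : ∀ i : ℕ, x * a ^ i * x⁻¹ = (a⁻¹) ^ i := by
      intro i
      have := map_pow (MulAut.conj x) a i
      rw [MulAut.conj_apply, MulAut.conj_apply, hc] at this
      exact this
    have hfix : x * x ^ 2 * x⁻¹ = x ^ 2 := by group
    rcases hNmem _ h1 with h2 | h2 | h2 | h2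
    · left; exact h2
    · exfalso
      rw [h2, hc] at hfix
      apply ha2
      rw [sq]
      calc a * a = a * a⁻¹ := by rw [hfix]
        _ = 1 := mul_inv_cancel a
    · right; exact h2
    · exfalso
      rw [h2, hpow 3] at hfix
      apply ha2
      have h6 : a ^ 6 = 1 := by
        calc a ^ 6 = a ^ 3 * a ^ 3 := by rw [← pow_add]
          _ = a ^ 3 * (a⁻¹) ^ 3 := by rw [hfix]
          _ = 1 := by rw [inv_pow, mul_inv_cancel]
      calc a ^ 2 = a ^ 6 * (a ^ 4)⁻¹ := by group
        _ = 1 := by rw [h6, ha4, inv_one, mul_one]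
  by_cases hQ : ∃ x : H, x ∉ N ∧ x ^ 2 = a ^ 2
  · obtain ⟨x, hxN, hx2⟩ := hQ
    exact Cfsg.Agent.Lib.Lead.quaternion_recognition 2 a x ha hx2 (hconj x hxN)
      (by rw [← hNdef]; exact hxN) (by rw [hcard]; norm_num)
  · exfalso
    push Not at hQ
    have hinv : ∀ x : H, x ∉ N → x ^ 2 = 1 := by
      intro x hx
      rcases hsq x hx with h | h
      · exact h
      · exact absurd h (hQ x hx)
    have hαa : ∀ α : MulAut H, α a = a ∨ α a = a ^ 3 := by
      intro α
      have h1 : α a ∈ N := by
        by_contra hn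
        have := hinv _ hn
        rw [← map_pow, ← map_one α] at this
        exact ha2 (α.injective this)
      apply hN4 _ h1
      rw [α.orderOf_eq a, ha]
    have hαa2 : ∀ α : MulAut H, α (a ^ 2) = a ^ 2 := by
      intro α
      rw [map_pow]
      rcases hαa α with h | h
      · rw [h]
      · rw [h, ← pow_mul]
        calc a ^ (3 * 2) = a ^ 4 * a ^ 2 := by rw [← pow_add]
          _ = a ^ 2 := by rw [ha4, one_mul]
    have hle : Subgroup.zpowers (a ^ 2) ≤ N := by
      rw [Subgroup.zpowers_le]
      exact Subgroup.pow_mem _ haN 2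
    have hc1 : Nat.card (Subgroup.zpowers (a ^ 2)) = 2 := by
      rw [Nat.card_zpowers]
      apply orderOf_eq_prime
      · rw [← pow_mul]; exact ha4
      · exact ha2
    refine H9CS.chain3_contra 2 hH A hN E hE (Subgroup.zpowers (a ^ 2)) N ?_ ?_ ?_ ?_ ?_
    · intro α h hh
      obtain ⟨k, rfl⟩ := Subgroup.mem_zpowers_iff.mp hh
      rw [map_zpow, hαa2]
      exact Subgroup.zpow_mem _ (Subgroup.mem_zpowers _) k
    · intro α h hh
      rw [hNdef] at hh
      obtain ⟨k, rfl⟩ := Subgroup.mem_zpowers_iff.mp hh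
      rw [map_zpow]
      apply Subgroup.zpow_mem
      rcases hαa α with h | h
      · rw [h]; exact haN
      · rw [h]; exact Subgroup.pow_mem _ haN 3
    · rw [hc1]
    · have h1 := Subgroup.relIndex_mul_relIndex ⊥ (Subgroup.zpowers (a ^ 2)) N bot_le hle
      rw [Subgroup.relIndex_bot_left, Subgroup.relIndex_bot_left, hc1, hNcard] at h1
      have : (Subgroup.zpowers (a ^ 2)).relIndex N = 2 := by omega
      rw [this]
    · rw [hNidx]

end Cfsg.Agent.H9P3
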