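import Mathlib
import Cfsg.Agent.Lib.Lead.BG14n5
import Cfsg.Agent.Lib.Helper5.BG143b
import Cfsg.Agent.Lib.Helper7.PiClass1

set_option autoImplicit false
set_option linter.style.haveILetI false
set_option linter.unusedSectionVars false

/-! B and G, Theorem 14.6 (b), (c): the covering theorem.  Part 1: conjugating `σ(M)`-elements
into `M_σ`. -/

namespace Cfsg.Agent.Lib.Helper9.BGCover

open Cfsg Cfsg.Agent.Lib.Lead Cfsg.Agent.Lib.Lead.BG10 Cfsg.Agent.Lib.Helper7 Cfsg.Agent.Lib.Helper4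
open Cfsg.Agent.Lib.Helper4.BG76 Cfsg.Agent.Lib.Helper4.BG8 Cfsg.Agent.Lib.Helper4.BG9
open Cfsg.Agent.Lib.Helper4.BG7 Cfsg.Agent.Lib.Helper4.BG12 Cfsg.Agent.Lib.Helper4.BGConj
open Cfsg.Agent.Lib.Helper4.BG13 Cfsg.Agent.Lib.Lead.BG95 Cfsg.Agent.Lib.Lead.BG12q
open Cfsg.Agent.Lib.Lead.BG11 Cfsg.Agent.Lib.Lead.BG13q Cfsg.Agent.Lib.Helper4.BG18
open Cfsg.Agent.Lib.Helper2.BG12 Cfsg.Agent.Lib.Helper6 Cfsg.Agent.Lib.Helper2.BG13x
open Cfsg.Agent.Lib.Helper2.BG14y Cfsg.Agent.Lib.Helper5.BG139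
open Cfsg.Agent.Lib.Helper4.BG14 Cfsg.Agent.Lib.Lead.BG14n
open scoped commutatorElement

universe u

variable {G : Type u} [Group G] [Finite G]

/-- the conclusion of the covering theorem for the element `g` -/
def Cov (g : G) : Prop :=
  (∃ N : Subgroup G, IsCoatom N ∧ g ∈ tildeOf N ((sigmaCore N : Set G) \ {1})) ∨
  (∃ H K : Subgroup G, IsCoatom H ∧ IsPiHallOf (kappa H) K H ∧ K ≠ ⊥ ∧
    ∃ y : G, ∃ z ∈ (↑(K ⊔ (sigmaCore H ⊓ Subgroup.centralizer (K : Set G))) : Set G) \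
      (↑K ∪ ↑(sigmaCore H ⊓ Subgroup.centralizer (K : Set G))), g = y * z * y⁻¹)

/-- the conclusion of the covering theorem is invariant under conjugation -/
theorem cov_conj {g c : G} (h : Cov (c * g * c⁻¹)) : Cov g := by
  have hg : g = c⁻¹ * (c * g * c⁻¹) * c := by group
  rcases h with ⟨N, hN, a, ha, r, hr, y, hy⟩ | ⟨H, K, hH, hK, hK1, y, z, hz, hy⟩
  · left
    refine ⟨N, hN, a, ha, r, hr, c⁻¹ * y, ?_⟩
    rw [hg, hy]; group
  · right
    refine ⟨H, K, hH, hK, hK1, c⁻¹ * y, z, hz, ?_⟩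
    rw [hg, hy]; group

/-- the order of a conjugate -/
theorem orderOf_conj' (c y : G) : orderOf (c * y * c⁻¹) = orderOf y :=
  orderOf_injective (MulAut.conj c).toMonoidHom (MulAut.conj c).injective y

/-- an element generating a `p`-group is conjugate into a given Sylow `p`-subgroup -/
theorem exists_conj_mem_sylow {p : ℕ} [Fact p.Prime] (T : Sylow p G) {y : G}
    (hy : IsPGroup p ↥(Subgroup.zpowers y)) : ∃ c : G, c * y * c⁻¹ ∈ (T : Subgroup G) := by
  obtain ⟨Q, hQ⟩ := hy.exists_le_sylow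
  obtain ⟨h, hh⟩ := MulAction.exists_smul_eq G Q T
  refine ⟨h, ?_⟩
  have h1 : y ∈ (Q : Subgroup G) := hQ (Subgroup.mem_zpowers y)
  rw [← hh, Sylow.coe_subgroup_smul]
  exact Subgroup.smul_mem_pointwise_smul y (MulAut.conj h) (Q : Subgroup G) h1

/-- `C_M(x)` is a Hall `σ(N)'`-subgroup of `C_G(x)` for the partner `N` -/
theorem hall_of_partner (hG : IsMinSimpleOddOrder G) {M N C : Subgroup G}
    (hN : IsCoatom N) (hCN : C ≤ N) (hcompl : IsComplIn (M ⊓ N) (sigmaCore N) N)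
    (hc : IsComplIn (M ⊓ C) (sigmaCore N ⊓ C) C) :
    IsPiHallOf {q | q ∉ sigma N} (M ⊓ C) C := by
  have hcard := card_mul_of_isComplIn hc
  have hrel : (M ⊓ C).relIndex C = Nat.card ↥(sigmaCore N ⊓ C) := by
    have h1 := Subgroup.relIndex_mul_relIndex (H := ⊥) (K := M ⊓ C) (L := C) bot_le inf_le_right
    rw [Subgroup.relIndex_bot_left, Subgroup.relIndex_bot_left, hcard] at h1
    exact Nat.eq_of_mul_eq_mul_left Nat.card_pos h1
  refine ⟨inf_le_right, ?_, ?_⟩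
  · intro p hp hpd
    exact not_sigma_of_dvd_card_compl hG hN hcompl hp
      (hpd.trans (Subgroup.card_dvd_of_le (inf_le_inf_left M hCN)))
  · intro p hp hpπ hpd
    rw [hrel] at hpd
    apply hpπ
    apply (sigmaCore_hall hG hN).1.2.1 p hp
    exact hpd.trans (Subgroup.card_dvd_of_le inf_le_left)

/-- a `σ(M)`-element `y` some power of which is a non-identity element of `M_σ` is conjugate into
`M_σ` -/
theorem exists_conj_of_pow_mem (hG : IsMinSimpleOddOrder G) {M : Subgroup G} (hM : IsCoatom M)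
    {y : G} {n : ℕ} (hx : y ^ n ∈ sigmaCore M) (hx1 : y ^ n ≠ 1)
    (hy : ∀ p : ℕ, p.Prime → p ∣ orderOf y → p ∈ sigma M) :
    ∃ c : G, c * y * c⁻¹ ∈ sigmaCore M := by
  have hyC : y ∈ Subgroup.centralizer ({y ^ n} : Set G) := by
    rw [Subgroup.mem_centralizer_singleton_iff]
    exact ((Commute.refl y).pow_right n).eq
  rcases supportR_cases hG hM hx hx1 with ⟨hCM, -⟩ | ⟨hCM, N, hN, hCN, hnc, hcompl, -, -⟩
  · refine ⟨1, ?_⟩
    have := mem_sigmaCore_of_orderOf hG hM (hCM hyC) hy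
    simpa using this
  · obtain ⟨hnorm, hc, -, -⟩ := partner_props hG hM hx hx1 hN hCN hcompl
    have hH := hall_of_partner hG hN hCN hcompl hc
    have hsolv : Group.IsSolvable ↥(Subgroup.centralizer ({y ^ n} : Set G)) :=
      solvable_of_ne_top hG (ne_top_of_le_ne_top hN.1 hCN)
    obtain ⟨k, hk, hkH⟩ := exists_cj_le_hall hsolv _ hH (Subgroup.zpowers_le.mpr hyC) (by
      intro q hq hqd
      rw [Nat.card_zpowers] at hqd
      intro hqN
      obtain ⟨g, hg⟩ := sigma_partition hG hM hN (hy q hq hqd) hqN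
      exact hnc g hg)
    refine ⟨k, ?_⟩
    have h1 : k * y * k⁻¹ ∈ M := (hkH (conj_mem_cj (Subgroup.mem_zpowers y))).1
    apply mem_sigmaCore_of_orderOf hG hM h1
    intro q hq hqd
    rw [orderOf_conj'] at hqd
    exact hy q hq hqd

/-- **Step 1**: an element all of whose prime divisors lie in `σ(M)` is conjugate into `M_σ` -/
theorem exists_conj_mem_sigmaCore (hG : IsMinSimpleOddOrder G) {M : Subgroup G} (hM : IsCoatom M)
    {y : G} (hy : ∀ p : ℕ, p.Prime → p ∣ orderOf y → p ∈ sigma M) :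
    ∃ c : G, c * y * c⁻¹ ∈ sigmaCore M := by
  by_cases hy1 : y = 1
  · refine ⟨1, ?_⟩
    rw [hy1]
    simp
  have hord : orderOf y ≠ 1 := fun h => hy1 (orderOf_eq_one_iff.mp h)
  obtain ⟨p, hp, hpy⟩ := Nat.exists_prime_and_dvd hord
  haveI : Fact p.Prime := ⟨hp⟩
  have hpσ := hy p hp hpy
  obtain ⟨P, dP⟩ := exists_sigmaData hM hpσ
  obtain ⟨T, hT⟩ := dP.hPsyl
  have hx0o : orderOf (y ^ (orderOf y / p)) = p :=
    orderOf_pow_orderOf_div (orderOf_pos y).ne' hpy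
  have hx0p : IsPGroup p ↥(Subgroup.zpowers (y ^ (orderOf y / p))) :=
    IsPGroup.of_card (n := 1) (by rw [Nat.card_zpowers, hx0o, pow_one])
  obtain ⟨c₁, hc₁⟩ := exists_conj_mem_sylow T hx0p
  rw [hT] at hc₁
  have hpow : (c₁ * y * c₁⁻¹) ^ (orderOf y / p) = c₁ * y ^ (orderOf y / p) * c₁⁻¹ := conj_pow
  have ho1 : orderOf ((c₁ * y * c₁⁻¹) ^ (orderOf y / p)) = p := by
    rw [hpow, orderOf_conj', hx0o]
  have hx1M : (c₁ * y * c₁⁻¹) ^ (orderOf y / p) ∈ sigmaCore M := by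
    apply mem_sigmaCore_of_orderOf hG hM
    · rw [hpow]; exact dP.hPM hc₁
    · intro q hq hqd
      rw [ho1] at hqd
      rw [(Nat.prime_dvd_prime_iff_eq hq hp).mp hqd]
      exact hpσ
  have hx11 : (c₁ * y * c₁⁻¹) ^ (orderOf y / p) ≠ 1 := by
    intro h
    rw [h, orderOf_one] at ho1
    exact hp.one_lt.ne ho1
  obtain ⟨c, hc⟩ := exists_conj_of_pow_mem hG hM hx1M hx11 (by
    intro q hq hqd
    rw [orderOf_conj'] at hqd
    exact hy q hq hqd)
  refine ⟨c * c₁, ?_⟩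
  have : c * c₁ * y * (c * c₁)⁻¹ = c * (c₁ * y * c₁⁻¹) * c⁻¹ := by group
  rw [this]
  exact hc

end Cfsg.Agent.Lib.Helper9.BGCover
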