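import Mathlib
import Cfsg.Agent.Lib.Helper9.BGCover1

set_option autoImplicit false
set_option linter.style.haveILetI false
set_option linter.unusedSectionVars false

/-! B and G, Theorem 14.6 (b), (c): the covering theorem.  Part 2: the two outcomes of Lemma 14.3
and the theorem. -/

namespace Cfsg.Agent.Lib.Helper9.BGCover

open Cfsg Cfsg.Agent.Lib.Lead Cfsg.Agent.Lib.Lead.BG10 Cfsg.Agent.Lib.Helper7 Cfsg.Agent.Lib.Helper4
open Cfsg.Agent.Lib.Helper4.BG76 Cfsg.Agent.Lib.Helper4.BG8 Cfsg.Agent.Lib.Helper4.BG9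
open Cfsg.Agent.Lib.Helper4.BG7 Cfsg.Agent.Lib.Helper4.BG12 Cfsg.Agent.Lib.Helper4.BGConj
open Cfsg.Agent.Lib.Helper4.BG13 Cfsg.Agent.Lib.Lead.BG95 Cfsg.Agent.Lib.Lead.BG12q
open Cfsg.Agent.Lib.Lead.BG11 Cfsg.Agent.Lib.Lead.BG13q Cfsg.Agent.Lib.Helper4.BG18
open Cfsg.Agent.Lib.Helper2.BG12 Cfsg.Agent.Lib.Helper6 Cfsg.Agent.Lib.Helper2.BG13x
open Cfsg.Agent.Lib.Helper2.BG14y Cfsg.Agent.Lib.Helper5.BG139
open Cfsg.Agent.Lib.Helper4.BG14 Cfsg.Agent.Lib.Lead.BG14n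
open Cfsg.Agent.Lib.Helper5.BG143 Cfsg.Agent.Lib.Helper2.BG14z Cfsg.Agent.Lib.Helper7.PiClass
open scoped commutatorElement

universe u

variable {G : Type u} [Group G] [Finite G]

/-- a non-identity element has a prime divisor of its order -/
theorem exists_prime_dvd_orderOf {w : G} (hw1 : w ≠ 1) : ∃ p : ℕ, p.Prime ∧ p ∣ orderOf w :=
  Nat.exists_prime_and_dvd (fun h => hw1 (orderOf_eq_one_iff.mp h))

/-- the `τ₂` outcome of Lemma 14.3: `x ∈ M_σ`, `w ≠ 1` commuting with `x`, a `σ(L)`-element and a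
`σ(M)'`-element with `M` the unique maximal subgroup containing `C_G(w)`: then `x w ∈ L~` -/
theorem tau2_outcome (hG : IsMinSimpleOddOrder G) {M L : Subgroup G} (hM : IsCoatom M)
    (hL : IsCoatom L) {x w : G} (hx : x ∈ sigmaCore M) (hw1 : w ≠ 1) (hxw : x * w = w * x)
    (hwL : ∀ p : ℕ, p.Prime → p ∣ orderOf w → p ∈ sigma L)
    (hwM : ∀ p : ℕ, p.Prime → p ∣ orderOf w → p ∉ sigma M)
    (huniq : ∀ L' : Subgroup G, IsCoatom L' → Subgroup.centralizer ({w} : Set G) ≤ L' → L' = M) :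
    x * w ∈ tildeOf L ((sigmaCore L : Set G) \ {1}) := by
  obtain ⟨c, hc⟩ := exists_conj_mem_sigmaCore hG hL hwL
  have hc1 : c * w * c⁻¹ ≠ 1 := conj_ne_one hw1
  -- the unique maximal subgroup containing `C_G(c w c⁻¹)` is `c M c⁻¹`
  have huniq' : ∀ L' : Subgroup G, IsCoatom L' →
      Subgroup.centralizer ({c * w * c⁻¹} : Set G) ≤ L' → L' = cj c M := by
    intro L' hL' hCL'
    rw [centralizer_singleton_cj] at hCL'
    have h1 : Subgroup.centralizer ({w} : Set G) ≤ cj c⁻¹ L' := by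
      have := Cfsg.Agent.Lib.Helper7.cj_mono c⁻¹ hCL'
      rwa [Cfsg.Agent.Lib.Helper7.cj_inv_cj] at this
    have h2 := huniq _ (isCoatom_cj hL' c⁻¹) h1
    rw [← h2, Cfsg.Agent.Lib.Helper7.cj_cj_inv]
  obtain ⟨p, hp, hpw⟩ := exists_prime_dvd_orderOf hw1
  rcases supportR_cases hG hL hc hc1 with ⟨hCL, -⟩ | ⟨-, L', hL', hCL', -, -, -, hR⟩
  · exfalso
    have h1 := huniq' L hL hCL
    apply hwM p hp hpw
    have h2 := hwL p hp hpw
    rw [h1, sigma_cj] at h2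
    exact h2
  · have h1 := huniq' L' hL' hCL'
    have hx2 : c * x * c⁻¹ ∈ supportR L (c * w * c⁻¹) := by
      rw [hR, h1, sigmaCore_cj]
      refine ⟨conj_mem_cj hx, ?_⟩
      show c * x * c⁻¹ ∈ Subgroup.centralizer ({c * w * c⁻¹} : Set G)
      rw [Subgroup.mem_centralizer_singleton_iff]
      calc c * x * c⁻¹ * (c * w * c⁻¹) = c * (x * w) * c⁻¹ := by group
        _ = c * (w * x) * c⁻¹ := by rw [hxw]
        _ = c * w * c⁻¹ * (c * x * c⁻¹) := by group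
    refine ⟨c * w * c⁻¹, ⟨hc, hc1⟩, c * x * c⁻¹, hx2, c⁻¹, ?_⟩
    rw [hxw]
    group

/-- the `κ` outcome of Lemma 14.3: `x ∈ M_σ#`, `w ≠ 1` a `κ(M)`-element of `M` commuting with `x`:
then `x w ∈ K K* \ (K ∪ K*)` for a Hall `κ(M)`-subgroup `K` of `M` -/
theorem kappa_outcome (hG : IsMinSimpleOddOrder G) {M : Subgroup G} (hM : IsCoatom M)
    {x w : G} (hx : x ∈ sigmaCore M) (hx1 : x ≠ 1) (hwM : w ∈ M) (hw1 : w ≠ 1)
    (hxw : x * w = w * x) (hwκ : ∀ p : ℕ, p.Prime → p ∣ orderOf w → p ∈ kappa M) :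
    ∃ K : Subgroup G, IsPiHallOf (kappa M) K M ∧ K ≠ ⊥ ∧
      x * w ∈ (↑(K ⊔ (sigmaCore M ⊓ Subgroup.centralizer (K : Set G))) : Set G) \
        (↑K ∪ ↑(sigmaCore M ⊓ Subgroup.centralizer (K : Set G))) := by
  have hsolv : Group.IsSolvable ↥M := solvable_of_ne_top hG hM.1
  obtain ⟨K, hK, hwK⟩ := exists_hall_ge hsolv (kappa M) (Subgroup.zpowers_le.mpr hwM) (by
    intro p hp hpd
    rw [Nat.card_zpowers] at hpd
    exact hwκ p hp hpd)
  have hwK' : w ∈ K := hwK (Subgroup.mem_zpowers w)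
  have hK1 : K ≠ ⊥ := by
    intro h
    rw [h, Subgroup.mem_bot] at hwK'
    exact hw1 hwK'
  have d : KData M K := tkdata hG M K hM hK hK1
  have hxK : x ∈ sigmaCore M ⊓ Subgroup.centralizer (K : Set G) := by
    rw [← d.semiprime w hwK' hw1]
    exact ⟨hx, Subgroup.mem_centralizer_singleton_iff.mpr hxw⟩
  -- `K ∩ M_σ = 1`
  have hKσ : ∀ a : G, a ∈ K → a ∈ sigmaCore M → a = 1 := by
    intro a haK haσ
    by_contra ha1
    obtain ⟨p, hp, hpa⟩ := exists_prime_dvd_orderOf ha1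
    have h1 : p ∈ sigma M := Cfsg.Agent.Lib.Lead.BG14n.mem_sigma_of_dvd_orderOf hG hM haσ hp hpa
    have h2 : p ∈ kappa M := hK.2.1 p hp (hpa.trans (orderOf_dvd_card_of_mem haK))
    exact h2.2.2.1 h1
  refine ⟨K, hK, hK1, ⟨?_, ?_⟩⟩
  · exact Subgroup.mul_mem _ (Subgroup.mem_sup_right hxK) (Subgroup.mem_sup_left hwK')
  · rintro (h | h)
    · apply hx1
      apply hKσ x _ hx
      have : x = x * w * w⁻¹ := by group
      rw [this]
      exact K.mul_mem h (K.inv_mem hwK')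
    · apply hw1
      apply hKσ w hwK'
      have : w = x⁻¹ * (x * w) := by group
      rw [this]
      exact (sigmaCore M).mul_mem ((sigmaCore M).inv_mem hx) h.1

end Cfsg.Agent.Lib.Helper9.BGCover
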