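import Mathlib
import Cfsg.Agent.Lib.Helper9.BGCover2

set_option autoImplicit false
set_option linter.style.haveILetI false
set_option linter.unusedSectionVars false

/-! B and G, Theorem 14.6 (b), (c): the covering theorem.  Part 3: the theorem. -/

namespace Cfsg.Agent.Lib.Helper9.BGCover

open Cfsg Cfsg.Agent.Lib.Lead Cfsg.Agent.Lib.Lead.BG10 Cfsg.Agent.Lib.Helper7 Cfsg.Agent.Lib.Helper4
open Cfsg.Agent.Lib.Helper4.BG76 Cfsg.Agent.Lib.Helper4.BG8 Cfsg.Agent.Lib.Helper4.BG9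
open Cfsg.Agent.Lib.Helper4.BG7 Cfsg.Agent.Lib.Helper4.BG12 Cfsg.Agent.Lib.Helper4.BGConj
open Cfsg.Agent.Lib.Helper4.BG13 Cfsg.Agent.Lib.Lead.BG95 Cfsg.Agent.Lib.Lead.BG12q
open Cfsg.Agent.Lib.Lead.BG11 Cfsg.Agent.Lib.Lead.BG13q Cfsg.Agent.Lib.Helper4.BG18
open Cfsg.Agent.Lib.Helper2.BG12 Cfsg.Agent.Lib.Helper6 Cfsg.Agent.Lib.Helper2.BG13x
open Cfsg.Agent.Lib.Helper2.BG14y Cfsg.Agent.Lib.Helper5.BG139
open Cfsg.Agent.Lib.Helper4.BG14 Cfsg.Agent.Lib.Lead.BG14n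
open Cfsg.Agent.Lib.Helper5.BG143 Cfsg.Agent.Lib.Helper2.BG14z Cfsg.Agent.Lib.Helper7.PiClass
open scoped commutatorElement

universe u

variable {G : Type u} [Group G] [Finite G]

/-- conjugates of commuting elements commute -/
theorem conj_comm {k a b : G} (h : a * b = b * a) :
    (k * a * k⁻¹) * (k * b * k⁻¹) = (k * b * k⁻¹) * (k * a * k⁻¹) := by
  calc (k * a * k⁻¹) * (k * b * k⁻¹) = k * (a * b) * k⁻¹ := by group
    _ = k * (b * a) * k⁻¹ := by rw [h]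
    _ = _ := by group

/-- the covering theorem for `g = x w`, `x ∈ M_σ#`, `w` a `σ(M)'`-element commuting with `x` -/
theorem cover_aux (hG : IsMinSimpleOddOrder G) {M : Subgroup G} (hM : IsCoatom M) {x w : G}
    (hx : x ∈ sigmaCore M) (hx1 : x ≠ 1) (hxw : x * w = w * x)
    (hwM : ∀ p : ℕ, p.Prime → p ∣ orderOf w → p ∉ sigma M) : Cov (x * w) := by
  by_cases hw1 : w = 1
  · left
    refine ⟨M, hM, x, ⟨hx, hx1⟩, 1, Subgroup.one_mem _, 1, ?_⟩
    rw [hw1]; group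
  have hwC : w ∈ Subgroup.centralizer ({x} : Set G) :=
    Subgroup.mem_centralizer_singleton_iff.mpr hxw.symm
  by_cases hC : Subgroup.centralizer ({x} : Set G) ≤ M
  · -- Case A: `C_G(x) ≤ M`
    rcases s1432_of_kdata hG (tkdata hG) hM hx hx1 ⟨hC hwC, hwC⟩ hw1 hwM with
      ⟨hκ, -⟩ | ⟨-, ⟨L, hL, hσL⟩, -, huniq⟩
    · right
      obtain ⟨K, hK, hK1, hz⟩ := kappa_outcome hG hM hx hx1 (hC hwC) hw1 hxw hκ
      exact ⟨M, K, hM, hK, hK1, 1, x * w, hz, by group⟩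
    · left
      exact ⟨L, hL, tau2_outcome hG hM hL hx hw1 hxw hσL hwM huniq⟩
  · -- Case B: `C_G(x) ≰ M`
    rcases supportR_cases hG hM hx hx1 with ⟨hCM, -⟩ | ⟨-, N, hN, hCN, hnc, hcompl, -, hR⟩
    · exact absurd hCM hC
    obtain ⟨hnorm, hc, -, -⟩ := partner_props hG hM hx hx1 hN hCN hcompl
    obtain ⟨r, hrdef⟩ : ∃ r : G, r = piPart (sigma N) w := ⟨_, rfl⟩
    obtain ⟨v, hvdef⟩ : ∃ v : G, v = piPart' (sigma N) w := ⟨_, rfl⟩
    have hrv : r * v = w := by rw [hrdef, hvdef]; exact piPart_mul_piPart' _ _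
    have hr : IsPi (sigma N) r := by rw [hrdef]; exact isPi_piPart _ _
    have hv : IsPi' (sigma N) v := by rw [hvdef]; exact isPi'_piPart' _ _
    have hrC : r ∈ Subgroup.centralizer ({x} : Set G) := by rw [hrdef]; exact piPart_mem _ hwC
    have hvC : v ∈ Subgroup.centralizer ({x} : Set G) := by rw [hvdef]; exact piPart'_mem _ hwC
    have hrvc : r * v = v * r := by
      rw [hrdef, hvdef]; exact (commute_piPart_piPart' (sigma N) w).eq
    have hvw : orderOf v ∣ orderOf w := by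
      rw [hvdef]; exact orderOf_pow_dvd _
    have hrR : r ∈ sigmaCore N ⊓ Subgroup.centralizer ({x} : Set G) :=
      ⟨mem_sigmaCore_of_orderOf hG hN (hCN hrC) hr, hrC⟩
    by_cases hv1 : v = 1
    · left
      refine ⟨M, hM, x, ⟨hx, hx1⟩, r, by rw [hR]; exact hrR, 1, ?_⟩
      rw [← hrv, hv1]; group
    -- conjugate `v` into `C_M(x)`
    have hH := hall_of_partner hG hN hCN hcompl hc
    have hsolv : Group.IsSolvable ↥(Subgroup.centralizer ({x} : Set G)) :=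
      solvable_of_ne_top hG (ne_top_of_le_ne_top hN.1 hCN)
    obtain ⟨k, hk, hkH⟩ := exists_cj_le_hall hsolv _ hH (Subgroup.zpowers_le.mpr hvC) (by
      intro q hq hqd
      rw [Nat.card_zpowers] at hqd
      exact hv q hq hqd)
    have hkv : k * v * k⁻¹ ∈ M ⊓ Subgroup.centralizer ({x} : Set G) :=
      hkH (conj_mem_cj (Subgroup.mem_zpowers v))
    have hkx : k * x * k⁻¹ = x := by
      have := Subgroup.mem_centralizer_singleton_iff.mp hk
      rw [this]; group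
    apply cov_conj (c := k)
    have hconj : k * (x * w) * k⁻¹ = x * ((k * r * k⁻¹) * (k * v * k⁻¹)) := by
      rw [← hrv]
      calc k * (x * (r * v)) * k⁻¹ = (k * x * k⁻¹) * ((k * r * k⁻¹) * (k * v * k⁻¹)) := by group
        _ = _ := by rw [hkx]
    rw [hconj]
    have hkv1 : k * v * k⁻¹ ≠ 1 := conj_ne_one hv1
    have hkvM : ∀ p : ℕ, p.Prime → p ∣ orderOf (k * v * k⁻¹) → p ∉ sigma M := by
      intro p hp hpd
      rw [orderOf_conj'] at hpd
      exact hwM p hp (hpd.trans hvw)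
    rcases s1432_of_kdata hG (tkdata hG) hM hx hx1 hkv hkv1 hkvM with
      ⟨-, hCM⟩ | ⟨-, ⟨L, hL, hσL⟩, hCv, huniq⟩
    · exact absurd hCM hC
    have hkr : k * r * k⁻¹ ∈ sigmaCore N :=
      (Subgroup.mem_normalizer_iff.mp (le_normalizer_sigmaCore N (hCN hk)) r).mp hrR.1
    have hkrM : k * r * k⁻¹ ∈ M :=
      hCv (Subgroup.mem_centralizer_singleton_iff.mpr (conj_comm hrvc))
    have hkr1 : k * r * k⁻¹ = 1 := by
      have h3 : k * r * k⁻¹ ∈ (M ⊓ N) ⊓ sigmaCore N := ⟨⟨hkrM, sigmaCore_le N hkr⟩, hkr⟩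
      rwa [hcompl.2.2.1, Subgroup.mem_bot] at h3
    rw [hkr1, one_mul]
    left
    refine ⟨L, hL, tau2_outcome hG hM hL hx hkv1 ?_ hσL hkvM huniq⟩
    exact (Subgroup.mem_centralizer_singleton_iff.mp hkv.2).symm

/-- the covering theorem, in terms of `Cov` -/
theorem cover' (hG : IsMinSimpleOddOrder G) {g : G} (hg : g ≠ 1) : Cov g := by
  obtain ⟨p, hp, hpg⟩ := exists_prime_dvd_orderOf hg
  have hpG : p ∣ Nat.card G := hpg.trans (orderOf_dvd_natCard g)
  obtain ⟨M, hM, hpM⟩ := exists_sigma hG hp hpG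
  obtain ⟨x, hxdef⟩ : ∃ x : G, x = piPart (sigma M) g := ⟨_, rfl⟩
  obtain ⟨w, hwdef⟩ : ∃ w : G, w = piPart' (sigma M) g := ⟨_, rfl⟩
  have hxw : x * w = g := by rw [hxdef, hwdef]; exact piPart_mul_piPart' _ _
  have hx : IsPi (sigma M) x := by rw [hxdef]; exact isPi_piPart _ _
  have hw : IsPi' (sigma M) w := by rw [hwdef]; exact isPi'_piPart' _ _
  have hxwc : x * w = w * x := by
    rw [hxdef, hwdef]; exact (commute_piPart_piPart' (sigma M) g).eq
  have hx1 : x ≠ 1 := by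
    intro h
    rw [h, one_mul] at hxw
    rw [← hxw] at hpg
    exact hw p hp hpg hpM
  obtain ⟨c, hc⟩ := exists_conj_mem_sigmaCore hG hM hx
  apply cov_conj (c := c)
  have h1 : c * g * c⁻¹ = (c * x * c⁻¹) * (c * w * c⁻¹) := by rw [← hxw]; group
  rw [h1]
  refine cover_aux hG hM hc (conj_ne_one hx1) (conj_comm hxwc) ?_
  intro q hq hqd
  rw [orderOf_conj'] at hqd
  exact hw q hq hqd

/-- **B and G, Theorem 14.6 (b), (c)**, the covering part: every non-identity element of `G` lies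
in `M_σ~` for some maximal subgroup `M`, or is conjugate to an element of `K K* \ (K ∪ K*)` for a
nontrivial Hall `κ(H)`-subgroup `K` of some maximal subgroup `H`, `K* = C_{H_σ}(K)` -/
theorem cover (hG : IsMinSimpleOddOrder G) {g : G} (hg : g ≠ 1) :
    (∃ N : Subgroup G, IsCoatom N ∧ g ∈ tildeOf N ((sigmaCore N : Set G) \ {1})) ∨
    (∃ H K : Subgroup G, IsCoatom H ∧ IsPiHallOf (kappa H) K H ∧ K ≠ ⊥ ∧
      ∃ y : G, ∃ z ∈ (↑(K ⊔ (sigmaCore H ⊓ Subgroup.centralizer (K : Set G))) : Set G) \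
        (↑K ∪ ↑(sigmaCore H ⊓ Subgroup.centralizer (K : Set G))), g = y * z * y⁻¹) :=
  cover' hG hg

end Cfsg.Agent.Lib.Helper9.BGCover
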