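import Mathlib
import Cfsg.Agent.Lib.Helper9.BGCover3
import Cfsg.Agent.Lib.Helper5.BG147m
import Cfsg.Agent.Lib.Helper2.BG11b

set_option autoImplicit false
set_option linter.style.haveILetI false
set_option linter.unusedSectionVars false

/-! B and G, Theorem 14.6 (b), (c): the covering theorem.  Part 4: the second conjunct and the
first half of the third conjunct of S1379, verbatim. -/

namespace Cfsg.Agent.Lib.Helper9.BGCover

open Cfsg Cfsg.Agent.Lib.Lead Cfsg.Agent.Lib.Lead.BG10 Cfsg.Agent.Lib.Helper7 Cfsg.Agent.Lib.Helper4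
open Cfsg.Agent.Lib.Helper4.BG76 Cfsg.Agent.Lib.Helper4.BG8 Cfsg.Agent.Lib.Helper4.BG9
open Cfsg.Agent.Lib.Helper4.BG7 Cfsg.Agent.Lib.Helper4.BG12 Cfsg.Agent.Lib.Helper4.BGConj
open Cfsg.Agent.Lib.Helper4.BG13 Cfsg.Agent.Lib.Lead.BG95 Cfsg.Agent.Lib.Lead.BG12q
open Cfsg.Agent.Lib.Lead.BG11 Cfsg.Agent.Lib.Lead.BG13q Cfsg.Agent.Lib.Helper4.BG18
open Cfsg.Agent.Lib.Helper2.BG12 Cfsg.Agent.Lib.Helper6 Cfsg.Agent.Lib.Helper2.BG13x
open Cfsg.Agent.Lib.Helper2.BG14y Cfsg.Agent.Lib.Helper5.BG139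
open Cfsg.Agent.Lib.Helper4.BG14 Cfsg.Agent.Lib.Lead.BG14n
open Cfsg.Agent.Lib.Helper5.BG143 Cfsg.Agent.Lib.Helper2.BG14z Cfsg.Agent.Lib.Helper7.PiClass
open Cfsg.Agent.Lib.Helper5.BG147
open scoped commutatorElement

universe u

variable {G : Type u} [Group G] [Finite G]

/-- a nontrivial subgroup has a prime divisor of its order -/
theorem exists_prime_dvd_card {K : Subgroup G} (hK1 : K ≠ ⊥) : ∃ p : ℕ, p.Prime ∧ p ∣ Nat.card ↥K := by
  apply Nat.exists_prime_and_dvd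
  intro h
  exact hK1 (Subgroup.card_eq_one.mp h)

/-- a nontrivial Hall `κ(H)`-subgroup forces `κ(H) ≠ ∅` -/
theorem kappa_nonempty_of_hall {H K : Subgroup G} (hK : IsPiHallOf (kappa H) K H) (hK1 : K ≠ ⊥) :
    (kappa H).Nonempty := by
  obtain ⟨p, hp, hpd⟩ := exists_prime_dvd_card hK1
  exact ⟨p, hK.2.1 p hp hpd⟩

/-- **S1379, second conjunct**: if `κ(M) = ∅` for every maximal subgroup `M` then every
non-identity element lies in some `M~` -/
theorem cover_of_kappa_empty (hG : IsMinSimpleOddOrder G)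
    (hκ : ∀ M : Subgroup G, IsCoatom M → kappa M = ∅) (g : G) (hg : g ≠ 1) :
    ∃ M : Subgroup G, IsCoatom M ∧ g ∈ tildeOf M ((sigmaCore M : Set G) \ {1}) := by
  rcases cover hG hg with h | ⟨H, K, hH, hK, hK1, -⟩
  · exact h
  · exfalso
    obtain ⟨p, hp⟩ := kappa_nonempty_of_hall hK hK1
    rw [hκ H hH] at hp
    exact hp

/-- Hall subgroups and conjugation -/
theorem isPiHallOf_cj' {π : Set ℕ} {K M : Subgroup G} (s : G) (h : IsPiHallOf π K M) :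
    IsPiHallOf π (cj s K) (cj s M) := by
  refine ⟨Cfsg.Agent.Lib.Helper7.cj_mono s h.1, ?_, ?_⟩
  · intro p hp hpd
    rw [Subgroup.card_map_of_injective (MulAut.conj s).injective] at hpd
    exact h.2.1 p hp hpd
  · intro p hp hpπ hpd
    rw [Subgroup.relIndex_map_map_of_injective K M (MulAut.conj s).injective] at hpd
    exact h.2.2 p hp hpπ hpd

/-- a Hall `κ`-subgroup of a conjugate of `M₀` is a simultaneous conjugate of a given Hall
`κ(M₀)`-subgroup of `M₀` -/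
theorem exists_cj_pair (hG : IsMinSimpleOddOrder G) {M₀ K₀ H K₂ : Subgroup G} (hH : IsCoatom H)
    (hK₀ : IsPiHallOf (kappa M₀) K₀ M₀) (hK₂ : IsPiHallOf (kappa H) K₂ H) {s : G}
    (hs : H = cj s M₀) : ∃ u : G, H = cj u M₀ ∧ K₂ = cj u K₀ := by
  have hsolv : Group.IsSolvable ↥H := solvable_of_ne_top hG hH.1
  have h1 : IsPiHallOf (kappa H) (cj s K₀) H := by
    have := isPiHallOf_cj' s hK₀
    rw [← hs] at this
    rw [hs, Cfsg.Agent.Lib.Helper2.BG11.kappa_cj, ← hs]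
    exact this
  obtain ⟨k, hk, hkK⟩ := hall_conj hsolv _ h1 hK₂
  refine ⟨k * s, ?_, ?_⟩
  · rw [Cfsg.Agent.Lib.Helper7.cj_mul, ← hs, Cfsg.Agent.Lib.Helper7.cj_eq_self_of_mem hk]
  · rw [Cfsg.Agent.Lib.Helper7.cj_mul, hkK]

/-- the set `Ẑ` of a conjugate pair -/
theorem mem_zhat_cj {M₀ K₀ : Subgroup G} {u z : G}
    (hz : z ∈ ((↑(cj u K₀ ⊔ (sigmaCore (cj u M₀) ⊓
        Subgroup.centralizer ((cj u K₀ : Subgroup G) : Set G))) : Set G) \
      (((cj u K₀ : Subgroup G) : Set G) ∪ ↑(sigmaCore (cj u M₀) ⊓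
        Subgroup.centralizer ((cj u K₀ : Subgroup G) : Set G))))) :
    u⁻¹ * z * u ∈ ((↑(K₀ ⊔ (sigmaCore M₀ ⊓ Subgroup.centralizer (K₀ : Set G))) : Set G) \
      ((K₀ : Set G) ∪ ↑(sigmaCore M₀ ⊓ Subgroup.centralizer (K₀ : Set G)))) := by
  have e1 : sigmaCore (cj u M₀) ⊓ Subgroup.centralizer ((cj u K₀ : Subgroup G) : Set G) =
      cj u (sigmaCore M₀ ⊓ Subgroup.centralizer (K₀ : Set G)) := by
    rw [sigmaCore_cj, Cfsg.Agent.Lib.Lead.BG95.centralizer_cj, cj_inf']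
  rw [e1, ← Cfsg.Agent.Lib.Helper7.cj_sup] at hz
  obtain ⟨h1, h2⟩ := hz
  refine ⟨?_, ?_⟩
  · exact (Cfsg.Agent.Lib.Helper7.mem_cj u z _).mp h1
  · rintro (h | h)
    · exact h2 (Or.inl ((Cfsg.Agent.Lib.Helper7.mem_cj u z _).mpr h))
    · exact h2 (Or.inr ((Cfsg.Agent.Lib.Helper7.mem_cj u z _).mpr h))

/-- **S1379, third conjunct, first half**: if `M = K U M_σ` with `K ≠ 1` then every non-identity
element lies in some `N~` or in a conjugate of `Ẑ = K K* \ (K ∪ K*)` -/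
theorem cover_of_decomposition (hG : IsMinSimpleOddOrder G) {M K : Subgroup G} (hM : IsCoatom M)
    (hK : IsPiHallOf (kappa M) K M) (hK1 : K ≠ ⊥) (g : G) (hg : g ≠ 1) :
    (∃ N : Subgroup G, IsCoatom N ∧ g ∈ tildeOf N ((sigmaCore N : Set G) \ {1})) ∨
      ∃ y : G, ∃ z ∈ ((↑(K ⊔ (sigmaCore M ⊓ Subgroup.centralizer (K : Set G))) : Set G) \
        ((K : Set G) ∪ ↑(sigmaCore M ⊓ Subgroup.centralizer (K : Set G)))), g = y * z * y⁻¹ := by
  rcases cover hG hg with h | ⟨H, K₂, hH, hK₂, hK₂1, y, z, hz, hgz⟩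
  · exact Or.inl h
  right
  obtain ⟨Ms, t⟩ := t147 hG hM hK hK1
  obtain ⟨s, hs | hs⟩ := t.conj H hH (kappa_nonempty_of_hall hK₂ hK₂1)
  · obtain ⟨u, hu1, hu2⟩ := exists_cj_pair hG hH hK hK₂ hs
    rw [hu1, hu2] at hz
    refine ⟨y * u, u⁻¹ * z * u, mem_zhat_cj hz, ?_⟩
    rw [hgz]; group
  · obtain ⟨u, hu1, hu2⟩ := exists_cj_pair hG hH t.hKs hK₂ hs
    rw [hu1, hu2] at hz
    have h1 := mem_zhat_cj hz
    rw [t.zhat_eq] at h1
    refine ⟨y * u, u⁻¹ * z * u, h1, ?_⟩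
    rw [hgz]; group

end Cfsg.Agent.Lib.Helper9.BGCover
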