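import Mathlib
import Cfsg.Agent.Lib.Helper2.G2LDefs
import Cfsg.Agent.Lib.Helper2.Basic

set_option autoImplicit false

namespace Cfsg.Agent.Lib.Helper9.G2LE2h

open Cfsg Cfsg.Agent.Lib.Helper2.G2L

universe u

section
variable {H : Type u} [Group H]

/-- the centre of `D` as a subgroup of `H` -/
abbrev Zc (D : Subgroup H) : Subgroup H := (Subgroup.center D).map D.subtype

theorem mem_Zc {D : Subgroup H} {z : H} : z ∈ Zc D ↔ z ∈ D ∧ ∀ c ∈ D, z * c = c * z := by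
  constructor
  · rintro ⟨w, hw, rfl⟩
    refine ⟨w.2, fun c hc => ?_⟩
    have := (Subgroup.mem_center_iff.mp hw) ⟨c, hc⟩
    exact (congrArg Subtype.val this).symm
  · rintro ⟨hz, hc⟩
    refine ⟨⟨z, hz⟩, ?_, rfl⟩
    rw [SetLike.mem_coe, Subgroup.mem_center_iff]
    intro g
    exact Subtype.ext (hc g g.2).symm

theorem cm_mem {D : Subgroup H} {a b : H} (ha : a ∈ D) (hb : b ∈ D) : cm a b ∈ D :=
  mul_mem (mul_mem (mul_mem (inv_mem ha) (inv_mem hb)) ha) hb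

/-- `cm a b⁻¹ = (cm a b)⁻¹` in class two -/
theorem cm_inv_right {D : Subgroup H}
    (hcl : ∀ a ∈ D, ∀ b ∈ D, ∀ c ∈ D, cm a b * c = c * cm a b) {a b : H} (ha : a ∈ D)
    (hb : b ∈ D) : cm a b⁻¹ = (cm a b)⁻¹ := by
  have h := hcl a ha b hb b hb
  -- (cm a b)⁻¹ commutes with b
  have h2 : (cm a b)⁻¹ * b = b * (cm a b)⁻¹ := by
    calc (cm a b)⁻¹ * b = (cm a b)⁻¹ * (b * cm a b) * (cm a b)⁻¹ := by group
      _ = (cm a b)⁻¹ * (cm a b * b) * (cm a b)⁻¹ := by rw [h]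
      _ = b * (cm a b)⁻¹ := by group
  calc cm a b⁻¹ = b * (cm a b)⁻¹ * b⁻¹ := by unfold cm; group
    _ = (cm a b)⁻¹ * b * b⁻¹ := by rw [h2]
    _ = (cm a b)⁻¹ := by group


/-- conjugation by `t` -/
def tc (t d : H) : H := t * d * t⁻¹

theorem tc_mul (t a b : H) : tc t (a * b) = tc t a * tc t b := by unfold tc; group

theorem tc_inv (t a : H) : tc t a⁻¹ = (tc t a)⁻¹ := by unfold tc; group

theorem tc_pow (t a : H) (n : ℕ) : tc t (a ^ n) = (tc t a) ^ n := by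
  induction n with
  | zero => simp [tc]
  | succ n ih => rw [pow_succ, tc_mul, ih, pow_succ]

theorem tc_tc {t : H} (ht2 : t * t = 1) (a : H) : tc t (tc t a) = a := by
  have hinv : t⁻¹ = t := inv_eq_of_mul_eq_one_left ht2
  unfold tc
  rw [hinv]
  calc t * (t * a * t) * t = (t * t) * a * (t * t) := by group
    _ = a := by rw [ht2]; group

theorem tc_cm (t a b : H) : tc t (cm a b) = cm (tc t a) (tc t b) := by unfold tc cm; group

theorem tc_mem {D : Subgroup H} (hDn : D.Normal) (t : H) {d : H} (hd : d ∈ D) : tc t d ∈ D :=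
  hDn.conj_mem d hd t

theorem tc_eq_self_iff (t d : H) : tc t d = d ↔ t * d = d * t := by
  unfold tc
  constructor
  · intro h
    calc t * d = (t * d * t⁻¹) * t := by group
      _ = d * t := by rw [h]
  · intro h
    rw [h]; group

end

section Main

variable {H : Type u} [Group H] [Finite H] {q : ℕ} {D : Subgroup H} {t : H}

omit [Finite H] in
/-- an element of `D` (a `q`-group, `q` odd) whose square is trivial is trivial -/
theorem eq_one_of_sq (hq : q.Prime) (hq2 : q ≠ 2) (hDq : IsPGroup q D) {z : H} (hz : z ∈ D)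
    (h : z * z = 1) : z = 1 := by
  obtain ⟨k, hk⟩ := hDq ⟨z, hz⟩
  have hk' : z ^ q ^ k = 1 := by
    have := congrArg Subtype.val hk
    simpa using this
  have h2 : z ^ 2 = 1 := by rw [pow_two]; exact h
  have hd1 : orderOf z ∣ q ^ k := orderOf_dvd_of_pow_eq_one hk'
  have hd2 : orderOf z ∣ 2 := orderOf_dvd_of_pow_eq_one h2
  have hcop : Nat.Coprime (q ^ k) 2 := by
    apply Nat.Coprime.pow_left
    rw [Nat.coprime_primes hq Nat.prime_two]
    exact hq2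
  have : orderOf z ∣ 1 := by
    have := Nat.dvd_gcd hd1 hd2
    rwa [hcop] at this
  exact orderOf_eq_one_iff.mp (Nat.dvd_one.mp this)

/-- a uniform odd exponent of `D` -/
theorem exists_exponent (hq : q.Prime) (hq2 : q ≠ 2) (hDq : IsPGroup q D) :
    ∃ e : ℕ, ∀ x ∈ D, x ^ (2 * e) = x := by
  have : Fact q.Prime := ⟨hq⟩
  obtain ⟨k, hk⟩ := IsPGroup.iff_card.mp hDq
  have hodd : Odd (q ^ k) := (hq.odd_of_ne_two hq2).pow
  obtain ⟨e', he'⟩ := hodd
  refine ⟨e' + 1, fun x hx => ?_⟩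
  have h1 : x ^ q ^ k = 1 := by
    have : (⟨x, hx⟩ : ↥D) ^ Nat.card ↥D = 1 := pow_card_eq_one'
    rw [hk] at this
    have := congrArg Subtype.val this
    simpa using this
  have : 2 * (e' + 1) = q ^ k + 1 := by omega
  rw [this, pow_succ, h1, one_mul]

/-- if the square of an element of `D` is central then so is the element -/
theorem mem_Zc_of_sq (hq : q.Prime) (hq2 : q ≠ 2) (hDq : IsPGroup q D) {c : H} (hc : c ∈ D)
    (h : c * c ∈ Zc D) : c ∈ Zc D := by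
  obtain ⟨e, he⟩ := exists_exponent hq hq2 hDq
  have : c = (c * c) ^ e := by
    rw [← pow_two, ← pow_mul]; exact (he c hc).symm
  rw [this]; exact pow_mem h e

variable (D t)

/-- `D₁` : the elements of `D` inverted by `t` modulo the centre -/
def D1 (hDn : D.Normal)
    (hcl : ∀ a ∈ D, ∀ b ∈ D, ∀ c ∈ D, cm a b * c = c * cm a b) : Subgroup H where
  carrier := {d | d ∈ D ∧ d * tc t d ∈ Zc D}
  one_mem' := by
    refine ⟨one_mem _, ?_⟩
    have : (1 : H) * tc t 1 = 1 := by simp [tc]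
    rw [this]; exact one_mem _
  mul_mem' := by
    rintro d e ⟨hd, hdz⟩ ⟨he, hez⟩
    refine ⟨mul_mem hd he, ?_⟩
    have hdt : tc t d ∈ D := tc_mem hDn t hd
    have het : tc t e ∈ D := tc_mem hDn t he
    -- d e d^t e^t = (d d^t) (cm e d^t) (e e^t)
    have hk : cm e (tc t d) ∈ Zc D :=
      mem_Zc.mpr ⟨cm_mem he hdt, hcl e he _ hdt⟩
    have h1 := (mem_Zc.mp hk).2 e he
    have h2 := (mem_Zc.mp hk).2 (tc t e) het
    have : d * e * tc t (d * e) = (d * tc t d) * cm e (tc t d) * (e * tc t e) := by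
      rw [tc_mul]
      have e1 : e * tc t d = tc t d * e * cm e (tc t d) := by unfold cm; group
      calc d * e * (tc t d * tc t e) = d * (e * tc t d) * tc t e := by group
        _ = d * (tc t d * e * cm e (tc t d)) * tc t e := by rw [e1]
        _ = d * tc t d * (e * cm e (tc t d)) * tc t e := by group
        _ = d * tc t d * (cm e (tc t d) * e) * tc t e := by rw [h1]
        _ = (d * tc t d) * cm e (tc t d) * (e * tc t e) := by group
    rw [this]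
    exact mul_mem (mul_mem hdz hk) hez
  inv_mem' := by
    rintro d ⟨hd, hdz⟩
    refine ⟨inv_mem hd, ?_⟩
    have hdt : tc t d ∈ D := tc_mem hDn t hd
    have hk : cm (tc t d) d ∈ Zc D := mem_Zc.mpr ⟨cm_mem hdt hd, hcl _ hdt d hd⟩
    have : d⁻¹ * tc t d⁻¹ = (d * tc t d * cm (tc t d) d)⁻¹ := by
      rw [tc_inv]; unfold cm; group
    rw [this]
    exact inv_mem (mul_mem hdz hk)

omit [Finite H] in
theorem mem_D1 (hDn : D.Normal)
    (hcl : ∀ a ∈ D, ∀ b ∈ D, ∀ c ∈ D, cm a b * c = c * cm a b) (d : H) :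
    d ∈ D1 D t hDn hcl ↔ d ∈ D ∧ d * tc t d ∈ Zc D := Iff.rfl


variable {D t}

omit [Finite H] in
/-- the centre lies in `D₁` -/
theorem Zc_le_D1 (hDn : D.Normal)
    (hcl : ∀ a ∈ D, ∀ b ∈ D, ∀ c ∈ D, cm a b * c = c * cm a b)
    (hZt : ∀ z ∈ D, (∀ c ∈ D, z * c = c * z) → t * z = z * t) :
    Zc D ≤ D1 D t hDn hcl := by
  intro z hz
  have hz' := mem_Zc.mp hz
  refine ⟨hz'.1, ?_⟩
  have : tc t z = z := (tc_eq_self_iff t z).mpr (hZt z hz'.1 hz'.2)
  rw [this]; exact mul_mem hz hz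

omit [Finite H] in
/-- `C_D(t)` centralises `D₁` -/
theorem comm_fix_D1 (hq : q.Prime) (hq2 : q ≠ 2) (hDn : D.Normal) (hDq : IsPGroup q D)
    (hcl : ∀ a ∈ D, ∀ b ∈ D, ∀ c ∈ D, cm a b * c = c * cm a b)
    (hZt : ∀ z ∈ D, (∀ c ∈ D, z * c = c * z) → t * z = z * t)
    {a b : H} (ha : a ∈ D) (hat : t * a = a * t) (hb : b ∈ D1 D t hDn hcl) : a * b = b * a := by
  obtain ⟨hbD, hbz⟩ := hb
  set c := cm a b with hc
  have hcD : c ∈ D := cm_mem ha hbD
  have hcZ : ∀ x ∈ D, c * x = x * c := hcl a ha b hbD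
  have htc : tc t c = c := (tc_eq_self_iff t c).mpr (hZt c hcD hcZ)
  -- tc c = c⁻¹
  have hu := mem_Zc.mp hbz
  set u := b * tc t b with hu_def
  have htb : tc t b = b⁻¹ * u := by rw [hu_def]; group
  have hta : tc t a = a := (tc_eq_self_iff t a).mpr hat
  have hinv : tc t c = c⁻¹ := by
    rw [hc, tc_cm, hta, htb, ← cm_inv_right hcl ha hbD]
    have h1 := hu.2 a ha
    have h1' : u⁻¹ * a = a * u⁻¹ := by
      calc u⁻¹ * a = u⁻¹ * (a * u) * u⁻¹ := by group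
        _ = u⁻¹ * (u * a) * u⁻¹ := by rw [h1]
        _ = a * u⁻¹ := by group
    have h2 := hu.2 b⁻¹ (inv_mem hbD)
    unfold cm
    calc a⁻¹ * (b⁻¹ * u)⁻¹ * a * (b⁻¹ * u) = a⁻¹ * (u⁻¹ * b) * a * (b⁻¹ * u) := by group
      _ = a⁻¹ * u⁻¹ * (b * a * b⁻¹) * u := by group
      _ = a⁻¹ * u⁻¹ * (u * (b * a * b⁻¹)) := by
          have h3 : (b * a * b⁻¹) * u = u * (b * a * b⁻¹) :=
            (hu.2 _ (mul_mem (mul_mem hbD ha) (inv_mem hbD))).symm
          rw [mul_assoc (a⁻¹ * u⁻¹), h3]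
      _ = a⁻¹ * b⁻¹⁻¹ * a * b⁻¹ := by group
  have hcc : c * c = 1 := by
    have : c = c⁻¹ := htc.symm.trans hinv
    calc c * c = c * c⁻¹ := by rw [← this]
      _ = 1 := mul_inv_cancel c
  have hc1 : c = 1 := eq_one_of_sq hq hq2 hDq hcD hcc
  have : a * b = b * a * c := by rw [hc]; unfold cm; group
  rw [this, hc1, mul_one]

/-- the decomposition `d = d₀ d₁` with `d₀ ∈ C_D(t)`, `d₁ ∈ D₁` -/
theorem exists_decomp (hq : q.Prime) (hq2 : q ≠ 2) (hDn : D.Normal) (hDq : IsPGroup q D)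
    (hcl : ∀ a ∈ D, ∀ b ∈ D, ∀ c ∈ D, cm a b * c = c * cm a b) (ht2 : t * t = 1)
    (hZt : ∀ z ∈ D, (∀ c ∈ D, z * c = c * z) → t * z = z * t) {d : H} (hd : d ∈ D) :
    ∃ d0 ∈ D, ∃ d1 ∈ D1 D t hDn hcl, t * d0 = d0 * t ∧ d = d0 * d1 := by
  obtain ⟨e, he⟩ := exists_exponent hq hq2 hDq
  have hdt : tc t d ∈ D := tc_mem hDn t hd
  set x := d * (tc t d)⁻¹ with hx
  have hxD : x ∈ D := mul_mem hd (inv_mem hdt)
  have htx : tc t x = x⁻¹ := by
    rw [hx, tc_mul, tc_inv, tc_tc ht2]; group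
  set d1 := x ^ e with hd1
  have hd1D : d1 ∈ D := pow_mem hxD e
  have htd1 : tc t d1 = d1⁻¹ := by rw [hd1, tc_pow, htx, inv_pow]
  have hd1mem : d1 ∈ D1 D t hDn hcl := by
    refine ⟨hd1D, ?_⟩
    rw [htd1, mul_inv_cancel]; exact one_mem _
  set d0 := d * d1⁻¹ with hd0
  have hd0D : d0 ∈ D := mul_mem hd (inv_mem hd1D)
  refine ⟨d0, hd0D, d1, hd1mem, ?_, by rw [hd0]; group⟩
  -- ζ := d0⁻¹ * tc d0 is central and inverted by t, hence trivial
  set ζ := d0⁻¹ * tc t d0 with hζ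
  have hκ : ∀ y ∈ D, cm x⁻¹ d * y = y * cm x⁻¹ d := hcl _ (inv_mem hxD) d hd
  have hζeq : ζ = cm x⁻¹ d := by
    have h1 : tc t d0 = tc t d * d1 := by
      rw [hd0, tc_mul, tc_inv, htd1, inv_inv]
    have h2 : d⁻¹ * tc t d = x⁻¹ * cm x⁻¹ d := by rw [hx]; unfold cm; group
    have hxx : x ^ e * x⁻¹ * x ^ e = 1 := by
      have h3 : x ^ e * x⁻¹ = x⁻¹ * x ^ e := by
        have : Commute (x ^ e) x⁻¹ := (Commute.refl x).inv_right.pow_left e
        exact this.eq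
      rw [h3, mul_assoc, ← pow_add, ← two_mul, he x hxD, inv_mul_cancel]
    have hk := hκ (x ^ e) (pow_mem hxD e)
    calc ζ = d1 * (d⁻¹ * tc t d) * d1 := by rw [hζ, h1, hd0]; group
      _ = x ^ e * (x⁻¹ * cm x⁻¹ d) * x ^ e := by rw [h2]
      _ = x ^ e * x⁻¹ * (cm x⁻¹ d * x ^ e) := by group
      _ = x ^ e * x⁻¹ * (x ^ e * cm x⁻¹ d) := by rw [hk]
      _ = (x ^ e * x⁻¹ * x ^ e) * cm x⁻¹ d := by group
      _ = cm x⁻¹ d := by rw [hxx, one_mul]
  have hζD : ζ ∈ D := by rw [hζeq]; exact cm_mem (inv_mem hxD) hd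
  have hζZ : ∀ y ∈ D, ζ * y = y * ζ := by rw [hζeq]; exact hκ
  have htζ : tc t ζ = ζ := (tc_eq_self_iff t ζ).mpr (hZt ζ hζD hζZ)
  have htζ' : tc t ζ = ζ⁻¹ := by
    rw [hζ, tc_mul, tc_inv, tc_tc ht2]; group
  have hζζ : ζ * ζ = 1 := by
    have : ζ = ζ⁻¹ := htζ.symm.trans htζ'
    calc ζ * ζ = ζ * ζ⁻¹ := by rw [← this]
      _ = 1 := mul_inv_cancel ζ
  have hζ1 : ζ = 1 := eq_one_of_sq hq hq2 hDq hζD hζζ
  have : tc t d0 = d0 := by
    have : tc t d0 = d0 * ζ := by rw [hζ]; group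
    rw [this, hζ1, mul_one]
  exact (tc_eq_self_iff t d0).mp this


omit [Finite H] in
theorem conj_mem_Zc (hDn : D.Normal) {z : H} (hz : z ∈ Zc D) (x : H) : x * z * x⁻¹ ∈ Zc D := by
  have hz' := mem_Zc.mp hz
  refine mem_Zc.mpr ⟨hDn.conj_mem z hz'.1 x, fun c hc => ?_⟩
  have hc' : x⁻¹ * c * x ∈ D := by
    have := hDn.conj_mem c hc x⁻¹
    simpa using this
  have := hz'.2 _ hc'
  calc x * z * x⁻¹ * c = x * (z * (x⁻¹ * c * x)) * x⁻¹ := by group
    _ = x * ((x⁻¹ * c * x) * z) * x⁻¹ := by rw [this]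
    _ = c * (x * z * x⁻¹) := by group

/-- E2h : the `±1`-decomposition of a class two `q`-group under an involution centralising the
centre (`D₀` = fixed modulo the centre, `D₁` = inverted modulo the centre) -/
theorem exists_split (H : Type u) [Group H] [Finite H] (q : ℕ) (hq : q.Prime) (hq2 : q ≠ 2)
    (D : Subgroup H) (hDn : D.Normal) (hDq : IsPGroup q D)
    (hcl : ∀ a ∈ D, ∀ b ∈ D, ∀ c ∈ D, cm a b * c = c * cm a b)
    (t : H) (ht2 : t * t = 1)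
    (hZt : ∀ z ∈ D, (∀ c ∈ D, z * c = c * z) → t * z = z * t) :
    ∃ D₀ D₁ : Subgroup H, D₀ ≤ D ∧ D₁ ≤ D ∧
      D₀ = (D ⊓ Subgroup.centralizer {t}) ⊔ (Subgroup.center D).map D.subtype ∧
      (Subgroup.center D).map D.subtype ≤ D₁ ∧
      (∀ a ∈ D₀, ∀ b ∈ D₁, a * b = b * a) ∧
      (∀ b ∈ D₁, (∀ c ∈ D₁, b * c = c * b) → ∀ c ∈ D, b * c = c * b) ∧
      (∀ b ∈ D₁, t * b = b * t → ∀ c ∈ D, b * c = c * b) ∧
      (∀ x : H, x * t = t * x → ∀ b ∈ D₁, x * b * x⁻¹ ∈ D₁) ∧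
      ((∃ d ∈ D, t * d ≠ d * t) → ∃ b ∈ D₁, t * b ≠ b * t) ∧
      Nat.card D * Nat.card ((Subgroup.center D).map D.subtype) = Nat.card D₀ * Nat.card D₁ := by
  have hZD : Zc D ≤ D := Subgroup.map_subtype_le _
  have hmemC : ∀ a : H, a ∈ D ⊓ Subgroup.centralizer {t} ↔ a ∈ D ∧ t * a = a * t := by
    intro a
    rw [Subgroup.mem_inf, Subgroup.mem_centralizer_singleton_iff]
    constructor
    · rintro ⟨h1, h2⟩; exact ⟨h1, h2.symm⟩
    · rintro ⟨h1, h2⟩; exact ⟨h1, h2.symm⟩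
  have hZC : Zc D ≤ D ⊓ Subgroup.centralizer {t} := by
    intro z hz
    have hz' := mem_Zc.mp hz
    exact (hmemC z).mpr ⟨hz'.1, hZt z hz'.1 hz'.2⟩
  have hD0 : (D ⊓ Subgroup.centralizer {t}) ⊔ Zc D = D ⊓ Subgroup.centralizer {t} :=
    sup_eq_left.mpr hZC
  -- property 7 first
  have h7 : ∀ b ∈ D1 D t hDn hcl, t * b = b * t → b ∈ Zc D := by
    intro b hb hbt
    have htb : tc t b = b := (tc_eq_self_iff t b).mpr hbt
    have := hb.2
    rw [htb] at this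
    exact mem_Zc_of_sq hq hq2 hDq hb.1 this
  have h5 : ∀ a ∈ D ⊓ Subgroup.centralizer {t}, ∀ b ∈ D1 D t hDn hcl, a * b = b * a := by
    intro a ha b hb
    obtain ⟨haD, hat⟩ := (hmemC a).mp ha
    exact comm_fix_D1 hq hq2 hDn hDq hcl hZt haD hat hb
  refine ⟨(D ⊓ Subgroup.centralizer {t}) ⊔ Zc D, D1 D t hDn hcl, ?_, fun d hd => hd.1, rfl,
    Zc_le_D1 hDn hcl hZt, ?_, ?_, ?_, ?_, ?_, ?_⟩
  · rw [hD0]; exact inf_le_left
  · rw [hD0]; exact h5
  · intro b hb hbc c hc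
    obtain ⟨c0, hc0, c1, hc1, hc0t, rfl⟩ := exists_decomp hq hq2 hDn hDq hcl ht2 hZt hc
    have e0 : c0 * b = b * c0 := h5 c0 ((hmemC c0).mpr ⟨hc0, hc0t⟩) b hb
    have e1 := hbc c1 hc1
    calc b * (c0 * c1) = (b * c0) * c1 := by group
      _ = (c0 * b) * c1 := by rw [e0]
      _ = c0 * (b * c1) := by group
      _ = c0 * (c1 * b) := by rw [e1]
      _ = c0 * c1 * b := by group
  · intro b hb hbt c hc
    exact (mem_Zc.mp (h7 b hb hbt)).2 c hc
  · intro x hxt b hb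
    refine ⟨hDn.conj_mem b hb.1 x, ?_⟩
    have hxt' : t⁻¹ * x⁻¹ = x⁻¹ * t⁻¹ := by
      rw [← mul_inv_rev, ← mul_inv_rev, hxt]
    have : x * b * x⁻¹ * tc t (x * b * x⁻¹) = x * (b * tc t b) * x⁻¹ := by
      unfold tc
      calc x * b * x⁻¹ * (t * (x * b * x⁻¹) * t⁻¹)
          = x * b * x⁻¹ * ((t * x) * b * (x⁻¹ * t⁻¹)) := by group
        _ = x * b * x⁻¹ * ((x * t) * b * (t⁻¹ * x⁻¹)) := by rw [hxt, hxt']
        _ = x * (b * (t * b * t⁻¹)) * x⁻¹ := by group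
    rw [this]
    exact conj_mem_Zc hDn hb.2 x
  · rintro ⟨d, hd, hdt⟩
    by_contra hcon
    push Not at hcon
    apply hdt
    obtain ⟨d0, hd0, d1, hd1, hd0t, rfl⟩ := exists_decomp hq hq2 hDn hDq hcl ht2 hZt hd
    have e1 := hcon d1 hd1
    calc t * (d0 * d1) = (t * d0) * d1 := by group
      _ = (d0 * t) * d1 := by rw [hd0t]
      _ = d0 * (t * d1) := by group
      _ = d0 * (d1 * t) := by rw [e1]
      _ = d0 * d1 * t := by group
  · rw [hD0]
    set C := D ⊓ Subgroup.centralizer {t} with hC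
    have hnorm : C ≤ Subgroup.normalizer ((D1 D t hDn hcl : Subgroup H) : Set H) := by
      refine le_trans ?_ (Subgroup.centralizer_le_normalizer _)
      intro a ha
      rw [Subgroup.mem_centralizer_iff]
      intro b hb
      exact (h5 a ha b hb).symm
    have hcard := Cfsg.Agent.Lib.Helper2.card_sup_mul_card_inf C (D1 D t hDn hcl) hnorm
    have hsup : C ⊔ D1 D t hDn hcl = D := by
      apply le_antisymm (sup_le inf_le_left (fun d hd => hd.1))
      intro d hd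
      obtain ⟨d0, hd0, d1, hd1, hd0t, rfl⟩ := exists_decomp hq hq2 hDn hDq hcl ht2 hZt hd
      exact mul_mem (Subgroup.mem_sup_left ((hmemC d0).mpr ⟨hd0, hd0t⟩))
        (Subgroup.mem_sup_right hd1)
    have hinf : C ⊓ D1 D t hDn hcl = Zc D := by
      apply le_antisymm
      · rintro g ⟨hgC, hg1⟩
        exact h7 g hg1 ((hmemC g).mp hgC).2
      · exact le_inf hZC (Zc_le_D1 hDn hcl hZt)
    rw [hsup, hinf] at hcard
    exact hcard

end Main

end Cfsg.Agent.Lib.Helper9.G2LE2h
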