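import Mathlib
import Cfsg.Agent.Lib.Helper2.G2LDefs

/-!
# S3801 package C : weight spaces of a finite abelian group (coprime characteristic)
-/

set_option autoImplicit false

namespace Cfsg.Agent.Lib.Helper9.G2LC

open Polynomial

section C

variable {K : Type*} [Field K] [IsAlgClosed K] {A : Type*} [CommGroup A] [Finite A]
  {V : Type*} [AddCommGroup V] [Module K V] [FiniteDimensional K V]

/-- the weight space of a function `χ : A → K` -/
def wtSpace (τ : Representation K A V) (χ : A → K) : Submodule K V :=
  ⨅ a : A, Module.End.eigenspace (τ a) (χ a)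

omit [IsAlgClosed K] [Finite A] [FiniteDimensional K V] in
theorem mem_wtSpace (τ : Representation K A V) (χ : A → K) (v : V) :
    v ∈ wtSpace τ χ ↔ ∀ a : A, τ a v = χ a • v := by
  simp only [wtSpace, Submodule.mem_iInf, Module.End.mem_eigenspace_iff]

omit [IsAlgClosed K] [Finite A] [FiniteDimensional K V] in
theorem isSemisimple_apply (τ : Representation K A V) (hc : (Nat.card A : K) ≠ 0) (a : A) :
    Module.End.IsSemisimple (τ a) := by
  have hpow : (τ a) ^ Nat.card A = 1 := by
    rw [← map_pow, pow_card_eq_one', map_one]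
  have hsep : (X ^ Nat.card A - C (1 : K) : K[X]).Separable :=
    separable_X_pow_sub_C 1 hc one_ne_zero
  refine Module.End.isSemisimple_of_squarefree_aeval_eq_zero hsep.squarefree ?_
  simp [hpow]

omit [IsAlgClosed K] [Finite A] [FiniteDimensional K V] in
theorem commute_apply (τ : Representation K A V) (a b : A) : Commute (τ a) (τ b) := by
  show τ a * τ b = τ b * τ a
  rw [← map_mul, ← map_mul, mul_comm]

omit [IsAlgClosed K] [Finite A] in
theorem wtSpace_eq_iInf_maxGen (τ : Representation K A V) (hc : (Nat.card A : K) ≠ 0)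
    (χ : A → K) : wtSpace τ χ = ⨅ a : A, Module.End.maxGenEigenspace (τ a) (χ a) := by
  unfold wtSpace
  refine iInf_congr fun a => ?_
  exact ((Module.End.isFinitelySemisimple_iff_isSemisimple.mpr
    (isSemisimple_apply τ hc a)).maxGenEigenspace_eq_eigenspace (χ a)).symm

omit [Finite A] in
/-- C1 -/
theorem iSup_wtSpace (τ : Representation K A V) (hc : (Nat.card A : K) ≠ 0) :
    (⨆ χ : A → K, wtSpace τ χ) = ⊤ := by
  have h := Module.End.iSup_iInf_maxGenEigenspace_eq_top_of_iSup_maxGenEigenspace_eq_top_of_commute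
    (fun a : A => τ a) (fun a b _ => commute_apply τ a b)
    (fun a => Module.End.iSup_maxGenEigenspace_eq_top (τ a))
  rw [← h]
  exact iSup_congr fun χ => wtSpace_eq_iInf_maxGen τ hc χ

omit [IsAlgClosed K] [Finite A] [FiniteDimensional K V] in
theorem wtSpace_le_iInf_maxGen (τ : Representation K A V) (χ : A → K) :
    wtSpace τ χ ≤ ⨅ a : A, Module.End.maxGenEigenspace (τ a) (χ a) := by
  unfold wtSpace
  refine iInf_mono fun a => ?_
  exact Module.End.eigenspace_le_maxGenEigenspace

omit [IsAlgClosed K] [Finite A] [FiniteDimensional K V] in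
/-- C2 -/
theorem iSupIndep_wtSpace (τ : Representation K A V) :
    iSupIndep (fun χ : A → K => wtSpace τ χ) := by
  have h : iSupIndep fun χ : A → K => ⨅ a : A, Module.End.maxGenEigenspace (τ a) (χ a) :=
    Module.End.independent_iInf_maxGenEigenspace_of_forall_mapsTo
      (fun a : A => τ a)
      (fun a b φ => Module.End.mapsTo_maxGenEigenspace_of_comm (commute_apply τ b a) φ)
  exact h.mono (wtSpace_le_iInf_maxGen τ)

omit [IsAlgClosed K] [Finite A] [FiniteDimensional K V] in
/-- C3, the inclusion that needs no surjectivity -/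
theorem wtSpace_le_map (τ : Representation K A V) (X Y : Module.End K V) (hXY : X * Y = 1)
    (hYX : Y * X = 1) (φ : A → A) (hφ : ∀ a, X * τ a = τ (φ a) * X) (χ : A → K) :
    wtSpace τ χ ≤ (wtSpace τ (fun a => χ (φ a))).map X := by
  intro w hw
  rw [mem_wtSpace] at hw
  refine ⟨Y w, ?_, ?_⟩
  · rw [SetLike.mem_coe, mem_wtSpace]
    intro a
    -- τ a (Y w) = Y (X (τ a (Y w))) = Y (τ (φ a) (X (Y w))) = Y (τ (φ a) w)
    have h1 : τ a (Y w) = Y (X (τ a (Y w))) := by
      have := LinearMap.congr_fun hYX (τ a (Y w))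
      simpa using this.symm
    have h2 : X (τ a (Y w)) = τ (φ a) (X (Y w)) := by
      have := LinearMap.congr_fun (hφ a) (Y w)
      simpa using this
    have h3 : X (Y w) = w := by
      have := LinearMap.congr_fun hXY w
      simpa using this
    rw [h1, h2, h3, hw (φ a), map_smul]
  · have := LinearMap.congr_fun hXY w
    simpa using this

omit [IsAlgClosed K] [Finite A] [FiniteDimensional K V] in
/-- C3 : an invertible operator normalising `τ A` permutes the weight spaces -/
theorem map_wtSpace (τ : Representation K A V) (X Y : Module.End K V) (hXY : X * Y = 1)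
    (hYX : Y * X = 1) (φ : A → A) (hφ : ∀ a, X * τ a = τ (φ a) * X)
    (hφs : Function.Surjective φ) (χ : A → K) :
    (wtSpace τ (fun a => χ (φ a))).map X = wtSpace τ χ := by
  apply le_antisymm _ (wtSpace_le_map τ X Y hXY hYX φ hφ χ)
  rintro _ ⟨v, hv, rfl⟩
  rw [SetLike.mem_coe, mem_wtSpace] at hv
  rw [mem_wtSpace]
  intro b
  obtain ⟨a, rfl⟩ := hφs b
  have h2 : τ (φ a) (X v) = X (τ a v) := by
    have := LinearMap.congr_fun (hφ a) v
    simpa using this.symm
  rw [h2, hv a, map_smul]

end C

end Cfsg.Agent.Lib.Helper9.G2LC
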