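import Mathlib
import Cfsg.Agent.Lib.Helper2.G2LDefs
import Cfsg.Agent.Lib.Helper9.G2LC
import Cfsg.Agent.Lib.Helper8.HB3

/-!
# S3801 package D2 : `step_weights` (a non-scalar abelian normal subgroup of odd order)

`step_weights_of` is the skeleton statement `step_weights` with the two facts used from other
packages (A4 `mem_lowSub_of_conj` and D1 `step_reducible`, the latter only for the given
`H, V, ρ, g, n`) as explicit hypotheses, so this file depends on no other S3801 package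
except C (`G2LC`).
-/

set_option autoImplicit false

open scoped IsMulCommutative

namespace Cfsg.Agent.Lib.Helper9.G2LD2

open Cfsg Cfsg.Agent.Lib.Helper2.G2L Cfsg.Agent.Lib.Helper9.G2LC

universe u v

section Basic

variable {K : Type*} [Field K] {H : Type u} [Group H] {V : Type v} [AddCommGroup V] [Module K V]

/-- in characteristic `2`, `(X - 1)^(2^n - 1)` is the norm `1 + X + ... + X^(2^n-1)` -/
theorem sub_one_pow_eq_sum [CharP K 2] (X : Module.End K V) (n : ℕ) :
    (X - 1) ^ (2 ^ n - 1) = ∑ i ∈ Finset.range (2 ^ n), X ^ i := by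
  have := Cfsg.Agent.Lib.Helper8.HB.geom_sum_char 2 (X - 1) n
  rw [add_sub_cancel] at this
  exact this.symm

/-- geometric sum over `m * L` terms -/
theorem geom_sum_mul_range {R : Type*} [Ring R] (X : R) (m L : ℕ) :
    ∑ i ∈ Finset.range (m * L), X ^ i =
      (∑ r ∈ Finset.range m, X ^ r) * ∑ l ∈ Finset.range L, (X ^ m) ^ l := by
  induction L with
  | zero => simp
  | succ L ih =>
    rw [Nat.mul_succ, Finset.sum_range_add, ih, Finset.sum_range_succ, mul_add]
    congr 1
    rw [Finset.sum_mul]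
    refine Finset.sum_congr rfl fun r _ => ?_
    rw [← pow_mul, ← pow_add, add_comm]

/-- the stabiliser of a subspace -/
def stab (ρ : Representation K H V) (W : Submodule K V) : Subgroup H where
  carrier := {h | W.map (ρ h) = W}
  one_mem' := by
    show W.map (ρ 1) = W
    rw [map_one, Module.End.one_eq_id, Submodule.map_id]
  mul_mem' := by
    intro a b ha hb
    have ha' : W.map (ρ a) = W := ha
    have hb' : W.map (ρ b) = W := hb
    show W.map (ρ (a * b)) = W
    rw [map_mul, Module.End.mul_eq_comp, Submodule.map_comp, hb', ha']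
  inv_mem' := by
    intro a ha
    have ha' : W.map (ρ a) = W := ha
    show W.map (ρ a⁻¹) = W
    conv_lhs => rw [← ha']
    rw [← Submodule.map_comp, ← Module.End.mul_eq_comp, ← map_mul, inv_mul_cancel, map_one,
      Module.End.one_eq_id, Submodule.map_id]

theorem mem_stab (ρ : Representation K H V) (W : Submodule K V) (h : H) :
    h ∈ stab ρ W ↔ W.map (ρ h) = W := Iff.rfl

theorem apply_mem_of_mem_stab (ρ : Representation K H V) (W : Submodule K V) {h : H}
    (hh : h ∈ stab ρ W) {w : V} (hw : w ∈ W) : ρ h w ∈ W := by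
  have : ρ h w ∈ W.map (ρ h) := Submodule.mem_map_of_mem hw
  rwa [(mem_stab ρ W h).mp hh] at this

/-- the representation of the stabiliser on the subspace -/
def resRep (ρ : Representation K H V) (W : Submodule K V) :
    Representation K ↥(stab ρ W) ↥W where
  toFun h := (ρ (h : H)).restrict (fun _ hw => apply_mem_of_mem_stab ρ W h.2 hw)
  map_one' := by
    ext w
    simp
  map_mul' a b := by
    ext w
    simp

@[simp] theorem resRep_coe (ρ : Representation K H V) (W : Submodule K V) (h : ↥(stab ρ W))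
    (w : ↥W) : ((resRep ρ W h w : ↥W) : V) = ρ (h : H) (w : V) := rfl

theorem resRep_pow_coe (ρ : Representation K H V) (W : Submodule K V) (h : ↥(stab ρ W))
    (k : ℕ) (w : ↥W) : ((((resRep ρ W h) ^ k) w : ↥W) : V) = ((ρ (h : H)) ^ k) (w : V) := by
  rw [← map_pow, resRep_coe, ← map_pow]
  rfl

theorem mem_ker_resRep (ρ : Representation K H V) (W : Submodule K V) (h : ↥(stab ρ W)) :
    h ∈ MonoidHom.ker (resRep ρ W) ↔ ∀ w ∈ W, ρ (h : H) w = w := by
  rw [MonoidHom.mem_ker]
  constructor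
  · intro hh w hw
    have := LinearMap.congr_fun hh ⟨w, hw⟩
    exact congrArg Subtype.val this
  · intro hh
    ext w
    exact hh w w.2

/-- conjugates of exceptional elements are exceptional -/
theorem exc_conj (ρ : Representation K H V) (g x : H) (n : ℕ) (hg : Exc (ρ g) n) :
    Exc (ρ (x⁻¹ * g * x)) n := by
  have hc : ∀ k : ℕ, (ρ (x⁻¹ * g * x)) ^ k = ρ x⁻¹ * (ρ g) ^ k * ρ x := by
    intro k
    rw [← map_pow, ← map_pow, ← map_mul, ← map_mul]
    congr 1
    induction k with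
    | zero => simp
    | succ k ih => rw [pow_succ, ih, pow_succ]; group
  have hxx : ρ x⁻¹ * ρ x = 1 := by rw [← map_mul, inv_mul_cancel, map_one]
  constructor
  · rw [hc, hg.1, mul_one, hxx]
  · have h1 : ρ (x⁻¹ * g * x) - 1 = ρ x⁻¹ * (ρ g - 1) * ρ x := by
      rw [mul_sub, sub_mul, mul_one, hxx, map_mul, map_mul]
    have h2 : ∀ k : ℕ, (ρ x⁻¹ * (ρ g - 1) * ρ x) ^ k = ρ x⁻¹ * (ρ g - 1) ^ k * ρ x := by
      intro k
      induction k with
      | zero => simp [hxx]
      | succ k ih =>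
        have hxx' : ρ x * ρ x⁻¹ = 1 := by rw [← map_mul, mul_inv_cancel, map_one]
        rw [pow_succ, ih, pow_succ]
        calc ρ x⁻¹ * (ρ g - 1) ^ k * ρ x * (ρ x⁻¹ * (ρ g - 1) * ρ x)
            = ρ x⁻¹ * (ρ g - 1) ^ k * (ρ x * ρ x⁻¹) * (ρ g - 1) * ρ x := by
              simp only [mul_assoc]
          _ = ρ x⁻¹ * ((ρ g - 1) ^ k * (ρ g - 1)) * ρ x := by
              rw [hxx', mul_one]; simp only [mul_assoc]
    rw [h1, h2, hg.2, mul_zero, zero_mul]

end Basic

section M

variable {K : Type*} [Field K] [CharP K 2] {H : Type u} [Group H] [Finite H]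
  {V : Type v} [AddCommGroup V] [Module K V] [FiniteDimensional K V]

omit [Finite H] in
/-- the minimal positive exponent `m` with `s ^ m` in a subgroup -/
theorem exists_min_pow (S : Subgroup H) (s : H) (N : ℕ) (hN : 0 < N) (hsN : s ^ N ∈ S) :
    ∃ m : ℕ, 0 < m ∧ s ^ m ∈ S ∧ (∀ i, 0 < i → i < m → s ^ i ∉ S) ∧ m ∣ N := by
  classical
  have hex : ∃ i, 0 < i ∧ s ^ i ∈ S := ⟨N, hN, hsN⟩
  refine ⟨Nat.find hex, (Nat.find_spec hex).1, (Nat.find_spec hex).2, ?_, ?_⟩
  · intro i hi him hiS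
    exact Nat.find_min hex him ⟨hi, hiS⟩
  · set m := Nat.find hex with hm
    have hm0 : 0 < m := (Nat.find_spec hex).1
    have hmS : s ^ m ∈ S := (Nat.find_spec hex).2
    by_contra hdiv
    have hr : 0 < N % m := Nat.pos_of_ne_zero (fun h => hdiv (Nat.dvd_of_mod_eq_zero h))
    have hlt : N % m < m := Nat.mod_lt _ hm0
    have hmem : s ^ (N % m) ∈ S := by
      have h1 : s ^ N = (s ^ m) ^ (N / m) * s ^ (N % m) := by
        rw [← pow_mul, ← pow_add, Nat.div_add_mod]
      have h2 : s ^ (N % m) = ((s ^ m) ^ (N / m))⁻¹ * s ^ N := by rw [h1]; group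
      rw [h2]
      exact mul_mem (inv_mem (pow_mem hmS _)) hsN
    exact Nat.find_min hex hlt ⟨hr, hmem⟩

/-- Lemma M : the level drops along the stabiliser of a subspace that is moved into a disjoint
subspace by every element outside its stabiliser. -/
theorem main_claim (ρ : Representation K H V) (hH : Group.IsSolvable H) (V0 M : Submodule K V)
    (hdis : Disjoint V0 M) (hV0 : V0 ≠ ⊥)
    (hmove : ∀ h : H, h ∉ stab ρ V0 → V0.map (ρ h) ≤ M)
    (ih : RStmt.{u, v} K (Module.finrank K V0))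
    (s : H) (n : ℕ) (hn : 1 ≤ n) (hs : Exc (ρ s) n) :
    ∃ hs' : s ^ 2 ^ (n - 1) ∈ stab ρ V0,
      (⟨_, hs'⟩ : ↥(stab ρ V0)) ∈ lowSub (MonoidHom.ker (resRep ρ V0)) := by
  have hN1 : (ρ s) ^ 2 ^ n = 1 := hs.1
  have hnorm : ∑ i ∈ Finset.range (2 ^ n), (ρ s) ^ i = 0 := by
    rw [← sub_one_pow_eq_sum]; exact hs.2
  have hsN : s ^ 2 ^ n ∈ stab ρ V0 := by
    rw [mem_stab, map_pow, hN1, Module.End.one_eq_id, Submodule.map_id]
  obtain ⟨m, hm0, hmS, hmin, hmN⟩ := exists_min_pow (stab ρ V0) s (2 ^ n) (by positivity) hsN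
  obtain ⟨j, hjn, rfl⟩ := (Nat.dvd_prime_pow Nat.prime_two).mp hmN
  -- the norm of `s ^ 2 ^ j` vanishes on `V0`
  have hmL : 2 ^ j * 2 ^ (n - j) = 2 ^ n := by rw [← pow_add, Nat.add_sub_cancel' hjn]
  have hu : ∀ v ∈ V0, (∑ l ∈ Finset.range (2 ^ (n - j)), ((ρ s) ^ 2 ^ j) ^ l) v = 0 := by
    intro v hv
    set u := (∑ l ∈ Finset.range (2 ^ (n - j)), ((ρ s) ^ 2 ^ j) ^ l) v with hu
    have huV0 : u ∈ V0 := by
      rw [hu, LinearMap.sum_apply]
      refine Submodule.sum_mem _ fun l _ => ?_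
      have : (s ^ 2 ^ j) ^ l ∈ stab ρ V0 := pow_mem hmS l
      have := apply_mem_of_mem_stab ρ V0 this hv
      rwa [map_pow, map_pow] at this
    have h0 : (∑ r ∈ Finset.range (2 ^ j), (ρ s) ^ r) u = 0 := by
      have := geom_sum_mul_range (ρ s) (2 ^ j) (2 ^ (n - j))
      rw [hmL, hnorm] at this
      have h2 := LinearMap.congr_fun this v
      simpa [hu] using h2.symm
    obtain ⟨m', hm'⟩ : ∃ m', 2 ^ j = m' + 1 := ⟨2 ^ j - 1, by
      have : 0 < 2 ^ j := by positivity
      omega⟩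
    rw [hm', Finset.sum_range_succ', LinearMap.add_apply, pow_zero, Module.End.one_apply,
      LinearMap.sum_apply] at h0
    have hrest : (∑ r ∈ Finset.range m', ((ρ s) ^ (r + 1)) u) ∈ M := by
      refine Submodule.sum_mem _ fun r hr => ?_
      have hr' : r + 1 < 2 ^ j := by rw [hm']; have := Finset.mem_range.mp hr; omega
      have hnot : s ^ (r + 1) ∉ stab ρ V0 := hmin (r + 1) (Nat.succ_pos r) hr'
      have := hmove _ hnot
      apply this
      rw [← map_pow]
      exact Submodule.mem_map_of_mem huV0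
    have huM : u ∈ M := by
      have : u = - ∑ r ∈ Finset.range m', ((ρ s) ^ (r + 1)) u := by
        rw [eq_neg_iff_add_eq_zero, add_comm]; exact h0
      rw [this]; exact M.neg_mem hrest
    exact (Submodule.disjoint_def.mp hdis) u huV0 huM
  -- `j < n`
  have hjlt : j < n := by
    rcases Nat.lt_or_ge j n with h | h
    · exact h
    · exfalso
      have hjn' : n - j = 0 := by omega
      apply hV0
      rw [eq_bot_iff]
      intro v hv
      have := hu v hv
      rw [hjn'] at this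
      simpa using this
  -- the restricted representation
  let s0 : ↥(stab ρ V0) := ⟨s ^ 2 ^ j, hmS⟩
  have hexc : Exc (resRep ρ V0 s0) (n - j) := by
    constructor
    · ext v
      rw [resRep_pow_coe]
      show ((ρ (s ^ 2 ^ j)) ^ 2 ^ (n - j)) (v : V) = _
      rw [map_pow, ← pow_mul, hmL, hN1]
      rfl
    · rw [sub_one_pow_eq_sum]
      ext v
      rw [LinearMap.sum_apply]
      simp only [LinearMap.zero_apply, ZeroMemClass.coe_zero, AddSubmonoidClass.coe_finsetSum]
      have := hu (v : V) v.2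
      rw [LinearMap.sum_apply] at this
      rw [← this]
      refine Finset.sum_congr rfl fun l _ => ?_
      rw [resRep_pow_coe]
      show ((ρ (s ^ 2 ^ j)) ^ l) (v : V) = _
      rw [map_pow]
  have hsolv : Group.IsSolvable ↥(stab ρ V0) := by
    have := hH
    infer_instance
  have hres := ih ↥(stab ρ V0) ↥V0 (resRep ρ V0) rfl hsolv s0 (n - j) (by omega) hexc
  have hpow : (s ^ 2 ^ j) ^ 2 ^ (n - j - 1) = s ^ 2 ^ (n - 1) := by
    rw [← pow_mul, ← pow_add]
    congr 2
    omega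
  have hmem : s ^ 2 ^ (n - 1) ∈ stab ρ V0 := by rw [← hpow]; exact pow_mem hmS _
  refine ⟨hmem, ?_⟩
  have : (⟨s ^ 2 ^ (n - 1), hmem⟩ : ↥(stab ρ V0)) = s0 ^ 2 ^ (n - j - 1) := by
    apply Subtype.ext
    show s ^ 2 ^ (n - 1) = (s ^ 2 ^ j) ^ 2 ^ (n - j - 1)
    exact hpow.symm
  rw [this]
  exact hres

end M

section D2

variable (K : Type*) [Field K] [CharP K 2]

/-- D2 : a non-scalar abelian normal subgroup of odd order (A4 and D1 as hypotheses) -/
theorem step_weights_of [IsAlgClosed K] (d : ℕ) (ih : ∀ d' < d, RStmt.{u, v} K d')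
    (H : Type u) [Group H] [Finite H] (V : Type v) [AddCommGroup V] [Module K V]
    [FiniteDimensional K V] (ρ : Representation K H V) (hd : Module.finrank K V = d)
    (hH : Group.IsSolvable H) (A : Subgroup H) (hA : A.Normal)
    (hAc : ∀ a ∈ A, ∀ b ∈ A, a * b = b * a) (hAodd : Odd (Nat.card A))
    (hns : ¬ ∀ a ∈ A, ∃ c : K, ρ a = c • (1 : Module.End K V))
    (g : H) (n : ℕ) (hn : 1 ≤ n) (hg : Exc (ρ g) n)
    (hA4 : ∀ (N : Subgroup H) [N.Normal] (H₀ : Subgroup H) (N₀ : Subgroup H₀) [N₀.Normal],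
      (∀ h : H, (∀ x : H, ∃ hx : x⁻¹ * h * x ∈ H₀, (⟨_, hx⟩ : H₀) ∈ N₀) → h ∈ N) →
      (∀ h ∈ N, ∀ x : H, ∃ hx : x⁻¹ * h * x ∈ H₀, (⟨_, hx⟩ : H₀) ∈ N₀) →
      ∀ t : H, (∀ x : H, ∃ hx : x⁻¹ * t * x ∈ H₀, (⟨_, hx⟩ : H₀) ∈ lowSub N₀) → t ∈ lowSub N)
    (hD1 : ∀ W : Submodule K V, (∀ h : H, ∀ w ∈ W, ρ h w ∈ W) → W ≠ ⊥ → W ≠ ⊤ →
      g ^ 2 ^ (n - 1) ∈ lowSub (MonoidHom.ker ρ)) :
    g ^ 2 ^ (n - 1) ∈ lowSub (MonoidHom.ker ρ) := by
  have hAcomm : IsMulCommutative A := IsMulCommutative.of_setLike_mul_comm hAc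
  -- the restriction of `ρ` to `A`
  let τ : Representation K ↥A V := ρ.comp A.subtype
  have hτ : ∀ a : ↥A, τ a = ρ (a : H) := fun a => rfl
  have hcard : (Nat.card ↥A : K) ≠ 0 := by
    intro h0
    rw [CharP.cast_eq_zero_iff K 2] at h0
    exact (Nat.not_even_iff_odd.mpr hAodd) (even_iff_two_dvd.mpr h0)
  -- conjugation on `A`
  let φ : H → ↥A → ↥A := fun h a => ⟨h * a * h⁻¹, hA.conj_mem a a.2 h⟩
  have hφφ : ∀ (h : H) (a : ↥A), φ h⁻¹ (φ h a) = a := by
    intro h a
    apply Subtype.ext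
    show h⁻¹ * (h * a * h⁻¹) * h⁻¹⁻¹ = a
    group
  have hφφ' : ∀ (h : H) (a : ↥A), φ h (φ h⁻¹ a) = a := by
    intro h a
    apply Subtype.ext
    show h * (h⁻¹ * a * h⁻¹⁻¹) * h⁻¹ = a
    group
  have hL1 : ∀ (h : H) (χ : ↥A → K),
      (wtSpace τ χ).map (ρ h) = wtSpace τ (fun a => χ (φ h⁻¹ a)) := by
    intro h χ
    have hXY : ρ h * ρ h⁻¹ = 1 := by rw [← map_mul, mul_inv_cancel, map_one]
    have hYX : ρ h⁻¹ * ρ h = 1 := by rw [← map_mul, inv_mul_cancel, map_one]
    have hφh : ∀ a : ↥A, ρ h * τ a = τ (φ h a) * ρ h := by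
      intro a
      rw [hτ, hτ, ← map_mul, ← map_mul]
      congr 1
      show h * a = h * a * h⁻¹ * h
      group
    have hsurj : Function.Surjective (φ h) := fun a => ⟨φ h⁻¹ a, hφφ' h a⟩
    have := map_wtSpace τ (ρ h) (ρ h⁻¹) hXY hYX (φ h) hφh hsurj (fun a => χ (φ h⁻¹ a))
    simp only [hφφ] at this
    exact this
  -- a weight space which is neither `⊥` nor `⊤`
  obtain ⟨χ0, hχ0bot, hχ0top⟩ : ∃ χ0 : ↥A → K, wtSpace τ χ0 ≠ ⊥ ∧ wtSpace τ χ0 ≠ ⊤ := by
    by_contra hcon
    push Not at hcon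
    have htop : ∃ χ : ↥A → K, wtSpace τ χ = ⊤ := by
      by_contra hno
      push Not at hno
      have hall : ∀ χ : ↥A → K, wtSpace τ χ = ⊥ := by
        intro χ
        by_contra hb
        exact hno χ (hcon χ hb)
      have h1 := iSup_wtSpace τ hcard
      simp only [hall, iSup_bot] at h1
      exact hno (fun _ => 0) ((hall _).trans h1)
    obtain ⟨χ, hχ⟩ := htop
    apply hns
    intro a ha
    refine ⟨χ ⟨a, ha⟩, ?_⟩
    ext v
    have hv : v ∈ wtSpace τ χ := by rw [hχ]; trivial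
    have := (mem_wtSpace τ χ v).mp hv ⟨a, ha⟩
    simpa [hτ] using this
  set V0 := wtSpace τ χ0 with hV0def
  let M : Submodule K V := ⨆ (χ : ↥A → K) (_ : χ ≠ χ0), wtSpace τ χ
  have hdis : Disjoint V0 M := iSupIndep_wtSpace τ χ0
  have hmove : ∀ h : H, h ∉ stab ρ V0 → V0.map (ρ h) ≤ M := by
    intro h hh
    rw [hL1 h χ0]
    by_cases heq : (fun a => χ0 (φ h⁻¹ a)) = χ0
    · exfalso
      apply hh
      rw [mem_stab, hL1 h χ0, heq]
    · exact le_iSup₂ (f := fun (χ : ↥A → K) (_ : χ ≠ χ0) => wtSpace τ χ) _ heq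
  -- the orbit sum
  let U : Submodule K V := ⨆ x : H, V0.map (ρ x)
  have hUinv : ∀ h : H, ∀ w ∈ U, ρ h w ∈ U := by
    intro h w hw
    have : U.map (ρ h) ≤ U := by
      rw [Submodule.map_iSup]
      refine iSup_le fun x => ?_
      rw [← Submodule.map_comp, ← Module.End.mul_eq_comp, ← map_mul]
      exact le_iSup (fun x : H => V0.map (ρ x)) (h * x)
    exact this (Submodule.mem_map_of_mem hw)
  have hV0U : V0 ≤ U := by
    have := le_iSup (fun x : H => V0.map (ρ x)) 1
    simpa [Module.End.one_eq_id] using this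
  have hU0 : U ≠ ⊥ := by
    intro h
    apply hχ0bot
    rw [eq_bot_iff, ← h]
    exact hV0U
  by_cases hU : U = ⊤
  · -- A4
    have hlt : Module.finrank K V0 < d := by
      rw [← hd]
      exact Submodule.finrank_lt hχ0top
    refine hA4 (MonoidHom.ker ρ) (stab ρ V0) (MonoidHom.ker (resRep ρ V0))
      ?_ ?_ (g ^ 2 ^ (n - 1)) ?_
    · intro h hh
      rw [MonoidHom.mem_ker]
      -- `ρ h` is the identity on `U = ⊤`
      have hfix : ∀ w ∈ U, ρ h w = w := by
        intro w hw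
        refine Submodule.iSup_induction (fun x : H => V0.map (ρ x)) (motive := fun w => ρ h w = w)
          hw ?_ (by simp) ?_
        · rintro x _ ⟨v, hv, rfl⟩
          obtain ⟨hx, hxk⟩ := hh x
          have := (mem_ker_resRep ρ V0 ⟨_, hx⟩).mp hxk v hv
          -- ρ (x⁻¹ h x) v = v
          have h2 : ρ h (ρ x v) = ρ x (ρ (x⁻¹ * h * x) v) := by
            rw [← Module.End.mul_apply, ← Module.End.mul_apply, ← map_mul, ← map_mul]
            congr 2
            group
          rw [h2]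
          exact congrArg (ρ x) this
        · intro a b ha hb
          rw [map_add, ha, hb]
      ext w
      have : w ∈ U := by rw [hU]; trivial
      simpa using hfix w this
    · intro h hh x
      have hk : ρ (x⁻¹ * h * x) = 1 := by
        rw [map_mul, map_mul, MonoidHom.mem_ker.mp hh, mul_one, ← map_mul, inv_mul_cancel,
          map_one]
      have hmem : x⁻¹ * h * x ∈ stab ρ V0 := by
        rw [mem_stab, hk, Module.End.one_eq_id, Submodule.map_id]
      refine ⟨hmem, ?_⟩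
      rw [mem_ker_resRep]
      intro w _
      show ρ (x⁻¹ * h * x) w = w
      rw [hk]; rfl
    · intro x
      have hpow : (x⁻¹ * g * x) ^ 2 ^ (n - 1) = x⁻¹ * g ^ 2 ^ (n - 1) * x := by
        generalize 2 ^ (n - 1) = k
        induction k with
        | zero => simp
        | succ k ih => rw [pow_succ, ih, pow_succ]; group
      have key := main_claim ρ hH V0 M hdis hχ0bot hmove (ih _ hlt) (x⁻¹ * g * x) n hn
        (exc_conj ρ g x n hg)
      rw [hpow] at key
      exact key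
  · exact hD1 U hUinv hU0 hU

end D2

end Cfsg.Agent.Lib.Helper9.G2LD2
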