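import Mathlib
import Cfsg.Agent.Lib.Helper2.G2LDefs
import Cfsg.Agent.Lib.Helper9.G2LD2
import Cfsg.Agent.Lib.Lead.G2LA
import Cfsg.Agent.Lib.Lead.G2LD1

/-!
# S3801 package D2 : `step_weights`, the skeleton statement verbatim
-/

set_option autoImplicit false

namespace Cfsg.Agent.Lib.Helper9.G2LD2w

open Cfsg Cfsg.Agent.Lib.Helper2.G2L

universe u v

variable (K : Type*) [Field K] [CharP K 2]

/-- D2 : a non-scalar abelian normal subgroup of odd order -/
theorem step_weights [IsAlgClosed K] (d : ℕ) (ih : ∀ d' < d, RStmt.{u, v} K d')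
    (H : Type u) [Group H] [Finite H] (V : Type v) [AddCommGroup V] [Module K V]
    [FiniteDimensional K V] (ρ : Representation K H V) (hd : Module.finrank K V = d)
    (hH : Group.IsSolvable H) (A : Subgroup H) (hA : A.Normal)
    (hAc : ∀ a ∈ A, ∀ b ∈ A, a * b = b * a) (hAodd : Odd (Nat.card A))
    (hns : ¬ ∀ a ∈ A, ∃ c : K, ρ a = c • (1 : Module.End K V))
    (g : H) (n : ℕ) (hn : 1 ≤ n) (hg : Exc (ρ g) n) :
    g ^ 2 ^ (n - 1) ∈ lowSub (MonoidHom.ker ρ) :=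
  Cfsg.Agent.Lib.Helper9.G2LD2.step_weights_of K d ih H V ρ hd hH A hA hAc hAodd hns g n hn hg
    (fun N _ H₀ N₀ _ => Cfsg.Agent.Lib.Lead.G2LA.mem_lowSub_of_conj N H₀ N₀)
    (fun W hW h0 h1 =>
      Cfsg.Agent.Lib.Lead.G2LD1.step_reducible K d ih H V ρ hd hH W hW h0 h1 g n hn hg)

end Cfsg.Agent.Lib.Helper9.G2LD2w
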