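import Mathlib

set_option autoImplicit false
set_option linter.unusedVariables false

namespace Cfsg.Agent.Lib.Helper9.PPMN

theorem fermat_arith_pp (q p a j M : ℕ) (hq : q.Prime) (hp : p.Prime) (hp2 : p ≠ 2)
    (hM : M = q ^ (2 * j)) (hle : M ≤ (p ^ a - 1) ^ 2) (hM1 : M ≠ 1) (hmod : M ≡ 1 [MOD p ^ a]) :
    q = 2 ∧ p ^ a = 2 ^ j + 1 := by
  set N := p ^ a with hN
  set m := q ^ j with hm
  have hMm : M = m ^ 2 := by rw [hM, hm, ← pow_mul, mul_comm]
  have hmpos : 0 < m := pow_pos hq.pos j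
  have hm2 : 2 ≤ m := by
    by_contra h
    have : m = 1 := by omega
    rw [this] at hMm
    exact hM1 (by rw [hMm]; norm_num)
  have hmle : m ≤ N - 1 := by
    rw [hMm] at hle
    exact (pow_le_pow_iff_left₀ (by omega) (by omega) (by norm_num)).mp hle
  have hN3 : 3 ≤ N := by omega
  -- `N ∣ (m - 1) * (m + 1)`
  have hdvd : N ∣ (m - 1) * (m + 1) := by
    have h1 : N ∣ M - 1 := (Nat.modEq_iff_dvd' (by rw [hMm]; exact Nat.one_le_pow _ _ hmpos)).mp hmod.symm
    have h2 : M - 1 = (m - 1) * (m + 1) := by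
      rw [hMm]
      obtain ⟨c, hc⟩ : ∃ c, m = c + 1 := ⟨m - 1, by omega⟩
      rw [hc]
      have h5 : (c + 1) ^ 2 = (c * (c + 2)) + 1 := by ring
      rw [h5]; simp
    rwa [h2] at h1
  have hpodd : ¬ p ∣ 2 := by
    intro h
    have := (Nat.prime_dvd_prime_iff_eq hp Nat.prime_two).mp h
    exact hp2 this
  have hplus : N ∣ m + 1 := by
    by_cases hpm : p ∣ m - 1
    · -- then `p ∤ m + 1`, so `N ∣ m - 1`, impossible
      exfalso
      have hnp : ¬ p ∣ m + 1 := by
        intro h
        apply hpodd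
        have h3 : m + 1 = (m - 1) + 2 := by omega
        rw [h3] at h
        exact (Nat.dvd_add_right hpm).mp h
      have hcop : Nat.Coprime N (m + 1) := Nat.Coprime.pow_left a ((Nat.Prime.coprime_iff_not_dvd hp).mpr hnp)
      have h4 : N ∣ m - 1 := hcop.dvd_of_dvd_mul_right hdvd
      have := Nat.le_of_dvd (by omega) h4
      omega
    · have hcop : Nat.Coprime N (m - 1) := Nat.Coprime.pow_left a ((Nat.Prime.coprime_iff_not_dvd hp).mpr hpm)
      exact hcop.dvd_of_dvd_mul_left hdvd
  have hNeq : N = m + 1 := by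
    have := Nat.le_of_dvd (by omega) hplus
    omega
  refine ⟨?_, ?_⟩
  · -- parity
    have hpo : Odd p := hp.odd_of_ne_two hp2
    have hNo : Odd N := hpo.pow
    have hme : Even m := by
      rcases Nat.even_or_odd m with h | h
      · exact h
      · exfalso
        rw [hNeq] at hNo
        exact (Nat.not_even_iff_odd.mpr hNo) (h.add_one)
    have hq2 : Even q := by
      rw [hm] at hme
      exact (Nat.even_pow.mp hme).1
    exact (Nat.Prime.even_iff hq).mp hq2
  · have hq2 : q = 2 := by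
      have hpo : Odd p := hp.odd_of_ne_two hp2
      have hNo : Odd N := hpo.pow
      have hme : Even m := by
        rcases Nat.even_or_odd m with h | h
        · exact h
        · exfalso
          rw [hNeq] at hNo
          exact (Nat.not_even_iff_odd.mpr hNo) (h.add_one)
      have hq2 : Even q := by
        rw [hm] at hme
        exact (Nat.even_pow.mp hme).1
      exact (Nat.Prime.even_iff hq).mp hq2
    rw [hNeq, hm, hq2]

/-- lifting the exponent: `p^a = 2^j + 1`, `p` odd, `p^(a+b) ∣ 2^e - 1`, `e > 0` ⇒ `2 j p^b ∣ e`. -/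
theorem lte_bound (p a b j e : ℕ) (hp : p.Prime) (hp2 : p ≠ 2) (hj : p ^ a = 2 ^ j + 1)
    (he : 0 < e) (hdvd : p ^ (a + b) ∣ 2 ^ e - 1) : 2 * j * p ^ b ≤ e := by
  have hpo : Odd p := hp.odd_of_ne_two hp2
  set N := p ^ a with hN
  have ha : a ≠ 0 := by
    rintro rfl
    rw [pow_zero] at hN
    have : 0 < 2 ^ j := by positivity
    omega
  have hjpos : 0 < j := by
    by_contra h
    have hj0 : j = 0 := by omega
    rw [hj0, pow_zero] at hj
    -- `N = 2`, but `N` is odd
    have hNo : Odd N := hpo.pow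
    rw [hj] at hNo
    exact absurd hNo (by decide)
  have hN3 : 3 ≤ N := by
    have : 2 ≤ 2 ^ j := by
      calc 2 = 2 ^ 1 := by norm_num
        _ ≤ 2 ^ j := Nat.pow_le_pow_right (by norm_num) hjpos
    omega
  have hN1 : Fact (1 < N) := ⟨by omega⟩
  -- the order of `2` modulo `N` is `2 j`
  have h2j : (2 : ZMod N) ^ j = -1 := by
    have h1 : ((2 ^ j + 1 : ℕ) : ZMod N) = 0 := by
      rw [← hj]; exact ZMod.natCast_self N
    push_cast at h1
    exact eq_neg_of_add_eq_zero_left h1
  have h22j : (2 : ZMod N) ^ (2 * j) = 1 := by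
    rw [mul_comm, pow_mul, h2j]; norm_num
  have hord_dvd : orderOf (2 : ZMod N) ∣ 2 * j := orderOf_dvd_of_pow_eq_one h22j
  have hord_pos : 0 < orderOf (2 : ZMod N) :=
    Nat.pos_of_dvd_of_pos hord_dvd (by omega)
  have hpow_ne : ∀ d, 0 < d → d ≤ j → (2 : ZMod N) ^ d ≠ 1 := by
    intro d hd0 hdj h
    have h1 : ((2 ^ d - 1 : ℕ) : ZMod N) = 0 := by
      rw [Nat.cast_sub (Nat.one_le_two_pow), Nat.cast_pow]
      push_cast
      rw [h]; ring
    rw [ZMod.natCast_eq_zero_iff] at h1
    have h2 : 2 ^ d ≤ 2 ^ j := Nat.pow_le_pow_right (by norm_num) hdj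
    have h3 : 2 ≤ 2 ^ d := by
      calc 2 = 2 ^ 1 := by norm_num
        _ ≤ 2 ^ d := Nat.pow_le_pow_right (by norm_num) hd0
    have := Nat.le_of_dvd (by omega) h1
    omega
  have hord : orderOf (2 : ZMod N) = 2 * j := by
    obtain ⟨c, hc⟩ := hord_dvd
    have hc0 : c ≠ 0 := by
      rintro rfl; omega
    by_cases hc1 : c = 1
    · rw [hc1, mul_one] at hc; exact hc.symm
    · exfalso
      have hc2 : 2 ≤ c := by omega
      have hle : orderOf (2 : ZMod N) ≤ j := by
        by_contra hlt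
        push Not at hlt
        have : 2 * j < orderOf (2 : ZMod N) * c := by
          calc 2 * j < 2 * orderOf (2 : ZMod N) := by omega
            _ = orderOf (2 : ZMod N) * 2 := by ring
            _ ≤ orderOf (2 : ZMod N) * c := Nat.mul_le_mul_left _ hc2
        omega
      exact hpow_ne _ hord_pos hle (pow_orderOf_eq_one _)
  -- `2 j ∣ e`
  have hNe : N ∣ 2 ^ e - 1 := Dvd.dvd.trans (pow_dvd_pow p (Nat.le_add_right a b)) hdvd
  have h2e : (2 : ZMod N) ^ e = 1 := by
    have h1 : ((2 ^ e - 1 : ℕ) : ZMod N) = 0 := (ZMod.natCast_eq_zero_iff _ _).mpr hNe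
    rw [Nat.cast_sub (Nat.one_le_two_pow), Nat.cast_pow] at h1
    push_cast at h1
    exact sub_eq_zero.mp h1
  have h2je : 2 * j ∣ e := by
    rw [← hord]; exact orderOf_dvd_of_pow_eq_one h2e
  obtain ⟨k, hk⟩ := h2je
  have hkpos : 0 < k := by
    rcases Nat.eq_zero_or_pos k with h | h
    · rw [h, mul_zero] at hk; omega
    · exact h
  -- LTE
  have hx1 : p ∣ 2 ^ (2 * j) - 1 := by
    have h1 : 2 ^ (2 * j) - 1 = (2 ^ j - 1) * (2 ^ j + 1) := by
      have h2 : 2 ^ (2 * j) = (2 ^ j) * (2 ^ j) := by rw [two_mul, pow_add]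
      obtain ⟨c, hc⟩ : ∃ c, 2 ^ j = c + 1 := ⟨2 ^ j - 1, by have := Nat.one_le_two_pow (n := j); omega⟩
      rw [h2, hc]
      have h5 : (c + 1) * (c + 1) = (c * (c + 2)) + 1 := by ring
      rw [h5]; simp
    rw [h1, ← hj]
    exact Dvd.dvd.mul_left (dvd_pow_self p ha) _
  have hxnd : ¬ p ∣ 2 ^ (2 * j) := by
    intro h
    have := hp.dvd_of_dvd_pow h
    exact hp2 ((Nat.prime_dvd_prime_iff_eq hp Nat.prime_two).mp this)
  have hlte := Nat.emultiplicity_pow_sub_pow hp hpo (x := 2 ^ (2 * j)) (y := 1) hx1 hxnd k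
  rw [one_pow, ← pow_mul, ← hk] at hlte
  -- multiplicity of `p` in `2^(2j) - 1` is exactly `a`
  have hmult : emultiplicity p (2 ^ (2 * j) - 1) = a := by
    have h1 : 2 ^ (2 * j) - 1 = p ^ a * (2 ^ j - 1) := by
      have h2 : 2 ^ (2 * j) = (2 ^ j) * (2 ^ j) := by rw [two_mul, pow_add]
      obtain ⟨c, hc⟩ : ∃ c, 2 ^ j = c + 1 := ⟨2 ^ j - 1, by have := Nat.one_le_two_pow (n := j); omega⟩
      rw [h2, ← hN, hj, hc]
      have h5 : (c + 1) * (c + 1) = (c * (c + 2)) + 1 := by ring
      rw [h5]; simp; ring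
    have hnd : ¬ p ∣ 2 ^ j - 1 := by
      intro h
      have h3 : p ∣ 2 ^ j + 1 := by rw [← hj]; exact dvd_pow_self p ha
      have h4 : p ∣ 2 := by
        have h5 : 2 ^ j + 1 = (2 ^ j - 1) + 2 := by have := Nat.one_le_two_pow (n := j); omega
        rw [h5] at h3
        exact (Nat.dvd_add_right h).mp h3
      exact hp2 ((Nat.prime_dvd_prime_iff_eq hp Nat.prime_two).mp h4)
    rw [h1]
    apply emultiplicity_eq_of_dvd_of_not_dvd
    · exact Dvd.intro _ rfl
    · rw [pow_succ]
      intro h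
      exact hnd (Nat.dvd_of_mul_dvd_mul_left (pow_pos hp.pos a) h)
  rw [hmult] at hlte
  have hle1 : ((a + b : ℕ) : ℕ∞) ≤ emultiplicity p (2 ^ e - 1) :=
    le_emultiplicity_of_pow_dvd hdvd
  rw [hlte] at hle1
  have hle2 : (b : ℕ∞) ≤ emultiplicity p k := by
    have h6 : ((a + b : ℕ) : ℕ∞) = (a : ℕ∞) + (b : ℕ∞) := by push_cast; rfl
    rw [h6] at hle1
    exact (ENat.add_le_add_iff_left (ENat.natCast_ne_top a)).mp hle1
  have hpbk : p ^ b ∣ k := pow_dvd_of_le_emultiplicity hle2
  have hkb : p ^ b ≤ k := Nat.le_of_dvd hkpos hpbk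
  calc 2 * j * p ^ b ≤ 2 * j * k := Nat.mul_le_mul_left _ hkb
    _ = e := hk.symm

/-- in a finite group, one-sided normalization is normalization. -/
theorem conj_mem_iff_of_forall {G : Type*} [Group G] [Finite G] (H : Subgroup G) (n : G)
    (h : ∀ x ∈ H, n * x * n⁻¹ ∈ H) : ∀ x, n * x * n⁻¹ ∈ H ↔ x ∈ H := by
  have hle : H.map (MulAut.conj n).toMonoidHom ≤ H := by
    rintro _ ⟨x, hx, rfl⟩
    exact h x hx
  have hcard : Nat.card (H.map (MulAut.conj n).toMonoidHom) = Nat.card H :=
    Subgroup.card_map_of_injective (MulAut.conj n).injective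
  have heq : H.map (MulAut.conj n).toMonoidHom = H :=
    Subgroup.eq_of_le_of_card_ge hle (by rw [hcard])
  intro x
  constructor
  · intro hx
    rw [← heq] at hx
    obtain ⟨z, hz, hzx⟩ := hx
    have : z = x := (MulAut.conj n).injective hzx
    exact this ▸ hz
  · exact h x

/-- semiregular counting: if every non-identity element of a finite group `A` fixes exactly one
point of a finite set `X`, then `card X ≡ 1 [MOD card A]`. -/
theorem card_modEq_one_of_semiregular {A X : Type*} [Group A] [Fintype A] [Fintype X]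
    [DecidableEq X] [MulAction A X]
    (x₀ : X) (hfix : ∀ e : A, e • x₀ = x₀) (hsemi : ∀ e : A, e ≠ 1 → ∀ x : X, e • x = x → x = x₀) :
    Fintype.card X ≡ 1 [MOD Fintype.card A] := by
  classical
  have hB := MulAction.sum_card_fixedBy_eq_card_orbits_mul_card_group A X
  have h1 : ∀ e : A, Fintype.card (MulAction.fixedBy X e) = if e = 1 then Fintype.card X else 1 := by
    intro e
    split_ifs with he
    · subst he
      apply Fintype.card_congr
      exact ⟨fun x => x.1, fun x => ⟨x, by simp⟩, fun x => rfl, fun x => rfl⟩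
    · rw [Fintype.card_eq_one_iff]
      refine ⟨⟨x₀, hfix e⟩, ?_⟩
      rintro ⟨x, hx⟩
      apply Subtype.ext
      exact hsemi e he x hx
  rw [Finset.sum_congr rfl (fun e _ => h1 e)] at hB
  rw [Finset.sum_ite, Finset.sum_const, Finset.sum_const] at hB
  have h2 : (Finset.univ.filter (fun e : A => e = 1)).card = 1 := by
    rw [Finset.card_eq_one]
    exact ⟨1, by ext e; simp⟩
  have h3 : (Finset.univ.filter (fun e : A => ¬ e = 1)).card = Fintype.card A - 1 := by
    have := Finset.card_filter_add_card_filter_not (s := (Finset.univ : Finset A))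
      (fun e : A => e = 1)
    rw [h2, Finset.card_univ] at this
    omega
  rw [h2, h3] at hB
  simp only [smul_eq_mul, one_mul, mul_one] at hB
  have hApos : 0 < Fintype.card A := Fintype.card_pos
  -- `card X + (card A - 1) = k * card A`
  have h4 : Fintype.card X + Fintype.card A = (Fintype.card (Quotient (MulAction.orbitRel A X)) ) * Fintype.card A + 1 := by
    omega
  have h5 : (Fintype.card X + Fintype.card A) ≡ 1 [MOD Fintype.card A] := by
    rw [h4]
    calc _ ≡ 0 + 1 [MOD Fintype.card A] :=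
          Nat.ModEq.add_right 1 ((Nat.modEq_zero_iff_dvd).mpr (Dvd.intro_left _ rfl))
      _ = 1 := by norm_num
  have h6 : (Fintype.card X + Fintype.card A) ≡ Fintype.card X [MOD Fintype.card A] := by
    calc _ ≡ Fintype.card X + 0 [MOD Fintype.card A] :=
          Nat.ModEq.add_left _ ((Nat.modEq_zero_iff_dvd).mpr dvd_rfl)
      _ = Fintype.card X := by norm_num
  exact h6.symm.trans h5

/-- a group acting by conjugation on `Q/T` with only trivial stabilisers of non-trivial cosets. -/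
theorem index_modEq_one_of_semiregular {G : Type*} [Group G] [Finite G] (Q T : Subgroup G)
    (hTQ : T ≤ Q) (hTn : ∀ m ∈ Q, ∀ t ∈ T, m * t * m⁻¹ ∈ T)
    (y : G) (hyQ : ∀ m ∈ Q, y * m * y⁻¹ ∈ Q) (hyT : ∀ t ∈ T, y * t * y⁻¹ ∈ T)
    (hsemi : ∀ e ∈ Subgroup.zpowers y, e ≠ 1 → ∀ m ∈ Q, m⁻¹ * e⁻¹ * m * e ∈ T → m ∈ T) :
    (T.subgroupOf Q).index ≡ 1 [MOD orderOf y] := by
  classical
  have hyN : y ∈ Subgroup.normalizer (Q : Set G) ⊓ Subgroup.normalizer (T : Set G) := by
    refine Subgroup.mem_inf.mpr ⟨?_, ?_⟩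
    · rw [Subgroup.mem_normalizer_iff]
      intro h
      exact (conj_mem_iff_of_forall Q y hyQ h).symm
    · rw [Subgroup.mem_normalizer_iff]
      intro h
      exact (conj_mem_iff_of_forall T y hyT h).symm
  have hA : Subgroup.zpowers y ≤
      Subgroup.normalizer (Q : Set G) ⊓ Subgroup.normalizer (T : Set G) :=
    (Subgroup.zpowers_le).mpr hyN
  have hQc : ∀ e ∈ Subgroup.zpowers y, ∀ m, m ∈ Q ↔ e * m * e⁻¹ ∈ Q :=
    fun e he => Subgroup.mem_normalizer_iff.mp (hA he).1
  have hTc : ∀ e ∈ Subgroup.zpowers y, ∀ m, m ∈ T ↔ e * m * e⁻¹ ∈ T :=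
    fun e he => Subgroup.mem_normalizer_iff.mp (hA he).2
  let act : MulAction (Subgroup.zpowers y) (↥Q ⧸ T.subgroupOf Q) :=
    { smul := fun e => Quotient.map' (fun m : Q => (⟨e * m * e⁻¹, (hQc e e.2 m).mp m.2⟩ : Q)) (by
        intro m₁ m₂ h
        rw [QuotientGroup.leftRel_apply] at h ⊢
        rw [Subgroup.mem_subgroupOf] at h ⊢
        have h1 := (hTc e e.2 _).mp h
        have h2 : (((⟨e * m₁ * e⁻¹, (hQc e e.2 m₁).mp m₁.2⟩ : Q)⁻¹ *
            (⟨e * m₂ * e⁻¹, (hQc e e.2 m₂).mp m₂.2⟩ : Q) : Q) : G) =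
            (e : G) * ((m₁⁻¹ * m₂ : Q) : G) * (e : G)⁻¹ := by
          simp only [Subgroup.coe_mul, Subgroup.coe_inv]
          group
        rw [h2]; exact h1)
      one_smul := by
        intro x
        induction x using Quotient.inductionOn' with
        | h m =>
          apply Quotient.sound'
          rw [QuotientGroup.leftRel_apply]
          simp
      mul_smul := by
        intro e₁ e₂ x
        induction x using Quotient.inductionOn' with
        | h m =>
          apply Quotient.sound'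
          rw [QuotientGroup.leftRel_apply, Subgroup.mem_subgroupOf]
          simp only [Subgroup.coe_mul, Subgroup.coe_inv]
          have : (((e₁ : G) * (e₂ : G)) * (m : G) * ((e₁ : G) * (e₂ : G))⁻¹)⁻¹ *
              ((e₁ : G) * ((e₂ : G) * (m : G) * (e₂ : G)⁻¹) * (e₁ : G)⁻¹) = 1 := by group
          rw [this]; exact T.one_mem }
  have hsmul : ∀ (e : Subgroup.zpowers y) (m : Q),
      e • (Quotient.mk'' m : ↥Q ⧸ T.subgroupOf Q) =
        Quotient.mk'' (⟨e * m * e⁻¹, (hQc e e.2 m).mp m.2⟩ : Q) := fun e m => rfl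
  have hfinA : Fintype (Subgroup.zpowers y) := Fintype.ofFinite _
  have hfinX : Fintype (↥Q ⧸ T.subgroupOf Q) := Fintype.ofFinite _
  have key := card_modEq_one_of_semiregular (A := Subgroup.zpowers y)
    (X := ↥Q ⧸ T.subgroupOf Q) (Quotient.mk'' (1 : Q))
    (by
      intro e
      rw [hsmul]
      apply Quotient.sound'
      rw [QuotientGroup.leftRel_apply, Subgroup.mem_subgroupOf]
      simp)
    (by
      intro e he x hx
      induction x using Quotient.inductionOn' with
      | h m =>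
        rw [hsmul] at hx
        have h1 := Quotient.exact' hx
        rw [QuotientGroup.leftRel_apply, Subgroup.mem_subgroupOf] at h1
        -- h1 : (e m e⁻¹)⁻¹ * m ∈ T
        have he' : (e : G)⁻¹ ∈ Subgroup.zpowers y := Subgroup.inv_mem _ e.2
        have hne : (e : G)⁻¹ ≠ 1 := by
          intro h
          apply he
          apply Subtype.ext
          simpa using h
        have h2 : (m : G)⁻¹ * ((e : G)⁻¹)⁻¹ * (m : G) * (e : G)⁻¹ ∈ T := by
          have h3 := T.inv_mem h1
          simp only [Subgroup.coe_mul, Subgroup.coe_inv] at h3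
          convert h3 using 1
          group
        have hmT := hsemi _ he' hne m m.2 h2
        apply Quotient.sound'
        rw [QuotientGroup.leftRel_apply, Subgroup.mem_subgroupOf]
        simpa using hmT)
  have hcA : Fintype.card (Subgroup.zpowers y) = orderOf y := by
    rw [← Nat.card_eq_fintype_card, Nat.card_zpowers]
  have hcX : Fintype.card (↥Q ⧸ T.subgroupOf Q) = (T.subgroupOf Q).index := by
    rw [Subgroup.index_eq_card, Nat.card_eq_fintype_card]
  rw [hcA, hcX] at key
  exact key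

end Cfsg.Agent.Lib.Helper9.PPMN
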