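import Mathlib
import Cfsg.Agent.Lib.Helper4.HH5

set_option autoImplicit false

/-! S3793 package M-A: the three inequalities of Hall–Higman for an element of arbitrary finite
order (adapted from `Helper4.HH3/HH4/HH5`). -/

namespace Cfsg.Agent.Lib.Helper9.PPMA

open Module Cfsg.Agent.Lib.Helper4.FM Cfsg.Agent.Lib.Helper4.HH

open scoped commutatorElement

variable {K : Type*} [Field K] [IsAlgClosed K] {G : Type*} [Group G] {Y : Type*} [AddCommGroup Y]
  [Module K Y] [FiniteDimensional K Y] (ρ : Representation K G Y) (Q : Subgroup G)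
  [hQn : Q.Normal] [Finite Q]

theorem second_ineq_pp (hQ : (Nat.card Q : K) ≠ 0)
    (H1 : ∀ u ∈ Q, ∀ v ∈ Q, ∃ c : K, ρ ⁅u, v⁆ = c • 1)
    (Z₁ : Subgroup G) (hZQ : Z₁ ≤ Q) (Hs : ∀ n ∈ Z₁, ∃ c : K, ρ n = c • 1)
    (x : G) (hfin : IsOfFinOrder x)
    (Hgen : ∀ e ∈ Subgroup.zpowers x, e ≠ 1 → ∀ S : Subgroup G,
      (∀ m ∈ Q, m⁻¹ * e⁻¹ * m * e ∈ S) → Z₁ ≤ S → Q ≤ S) :
    orderOf x * finrank K (inv (ad ρ) (Subgroup.zpowers x)) + finrank K (inv (ad ρ) Q) ≤
      orderOf x * finrank K (inv (ad ρ) Q) + finrank K Y * finrank K Y := by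
  classical
  let _ : Fintype Q := Fintype.ofFinite Q
  have hcard : Nat.card (Subgroup.zpowers x) = orderOf x := Nat.card_zpowers x
  have : Finite (Subgroup.zpowers x) := by
    apply Nat.finite_of_card_ne_zero
    rw [hcard]
    exact (orderOf_pos_iff.mpr hfin).ne'
  have hc : IsCompl (inv (ad ρ) Q) (ycomp (ad ρ) Q) := isCompl_inv_ycomp (ad ρ) Q hQ
  have hZ : ∀ g, inv (ad ρ) Q ≤ (inv (ad ρ) Q).comap (ad ρ g) := inv_invariant (ad ρ) Q
  have hY : ∀ g, ycomp (ad ρ) Q ≤ (ycomp (ad ρ) Q).comap (ad ρ g) := ycomp_invariant (ad ρ) Q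
  have hadd := finrank_inv_add (ad ρ) _ _ hZ hY hc (Subgroup.zpowers x)
  have hle1 : finrank K (inv ((ad ρ).subrepresentation _ hZ) (Subgroup.zpowers x)) ≤
      finrank K (inv (ad ρ) Q) := Submodule.finrank_le _
  have hcomm' : ∀ a b : Q, Commute ((ad ρ).subrepresentation _ hY (a : G))
      ((ad ρ).subrepresentation _ hY (b : G)) :=
    fun a b => sub_commute (ad ρ) _ hY _ _ (ad_commute ρ Q H1 a b)
  have hindep := iSupIndep_wt ((ad ρ).subrepresentation _ hY) Q hcomm'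
  have hspan := iSup_wt_eq_top ((ad ρ).subrepresentation _ hY) Q hcomm' hQ
  have hinv' : inv ((ad ρ).subrepresentation _ hY) Q = ⊥ :=
    inv_sub_eq_bot (ad ρ) _ hY Q hc.inf_eq_bot
  have hfree : ∀ e ∈ Subgroup.zpowers x, e ≠ 1 →
      ∀ χ : Q → K, wt ((ad ρ).subrepresentation _ hY) Q χ ≠ ⊥ → conjWt Q e χ ≠ χ := by
    intro e he he1
    apply free_of_gen _ Q e _ hinv'
    intro S hS hn
    apply Hgen e he he1 S hS
    intro n hnZ
    apply hn n (hZQ hnZ)
    obtain ⟨c, hc'⟩ := Hs n hnZ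
    have h1 : ad ρ n = ad ρ 1 := by
      rw [ad_eq_one_of_scalar ρ n c hc', map_one]
    rw [sub_eq_of_eq (ad ρ) _ hY n 1 h1, map_one]
  obtain ⟨h1, h2⟩ := finrank_eq_of_free _ Q (Subgroup.zpowers x) hindep hspan hfree
  have h3 := finrank_add_of_isCompl _ _ hc
  rw [Module.finrank_linearMap] at h3
  rw [hcard] at h1
  rw [hadd, h2, h3, h1, mul_add]
  have := Nat.mul_le_mul_left (orderOf x) hle1
  omega

omit [hQn : Q.Normal] [Finite Q] in
theorem third_ineq_pp (x : G) (r : ℕ) (hr : 0 < r) (hx : x ^ r = 1) (hrK : (r : K) ≠ 0)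
    (H4 : inv ρ (Subgroup.zpowers x) = ⊥) :
    finrank K Y * finrank K Y ≤ (r - 1) * finrank K (inv (ad ρ) (Subgroup.zpowers x)) := by
  classical
  set S : Finset K := (Polynomial.nthRootsFinset r (1 : K)).erase 1 with hS
  have hout : ∀ μ : K, μ ∉ S → Module.End.eigenspace (ρ x) μ = ⊥ := by
    intro μ hμ
    rw [Submodule.eq_bot_iff]
    intro v hv
    by_contra hv0
    apply hμ
    rw [Module.End.mem_eigenspace_iff] at hv
    have hpow : ∀ n : ℕ, ρ (x ^ n) v = μ ^ n • v := by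
      intro n
      induction n with
      | zero => simp
      | succ n ih => rw [pow_succ, rho_mul_apply, hv, map_smul, ih, smul_smul, pow_succ, mul_comm]
    have h1 := hpow r
    rw [hx, map_one, Module.End.one_apply] at h1
    have h2 : (μ ^ r - 1) • v = 0 := by rw [sub_smul, one_smul, ← h1, sub_self]
    have h3 : μ ^ r = 1 := by
      rcases smul_eq_zero.1 h2 with h | h
      · exact sub_eq_zero.1 h
      · exact absurd h hv0
    rw [hS, Finset.mem_erase, Polynomial.mem_nthRootsFinset hr]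
    refine ⟨?_, h3⟩
    rintro rfl
    rw [one_smul] at hv
    have hxf : x ∈ fixer ρ v := hv
    have hle : Subgroup.zpowers x ≤ fixer ρ v := (Subgroup.zpowers_le).2 hxf
    have hvi : v ∈ inv ρ (Subgroup.zpowers x) := fun s hs => hle hs
    rw [H4] at hvi
    exact hv0 ((Submodule.mem_bot K).1 hvi)
  have htop : ⨆ μ ∈ S, Module.End.eigenspace (ρ x) μ = ⊤ := by
    rw [eq_top_iff, ← iSup_eigenspace_eq_top ρ x r hrK hx]
    apply iSup_le
    intro μ
    by_cases hμ : μ ∈ S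
    · exact le_biSup (fun μ => Module.End.eigenspace (ρ x) μ) hμ
    · rw [hout μ hμ]
      exact bot_le
  have hD := sum_finrank_eq_of_indep _ (Module.End.eigenspaces_iSupIndep (ρ x)) S htop
  have hE : ∑ μ ∈ S, finrank K (emu (ρ x) μ) ≤
      finrank K (inv (ad ρ) (Subgroup.zpowers x)) := by
    rw [← finrank_biSup_of_indep _ (emu_indep (ρ x)) S]
    apply Submodule.finrank_mono
    apply iSup₂_le
    intro μ _
    exact emu_le_inv ρ x μ
  have hcard : S.card ≤ r - 1 := by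
    have h1 : (1 : K) ∈ Polynomial.nthRootsFinset r (1 : K) := by
      rw [Polynomial.mem_nthRootsFinset hr, one_pow]
    rw [hS, Finset.card_erase_of_mem h1]
    apply Nat.sub_le_sub_right
    rw [Polynomial.nthRootsFinset_def]
    exact le_trans (Multiset.toFinset_card_le _) (Polynomial.card_nthRoots r 1)
  have hcs := sq_sum_le_card_mul_sum_sq (s := S)
    (f := fun μ => finrank K (Module.End.eigenspace (ρ x) μ))
  rw [hD] at hcs
  calc finrank K Y * finrank K Y = finrank K Y ^ 2 := (sq _).symm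
    _ ≤ S.card * ∑ μ ∈ S, finrank K (Module.End.eigenspace (ρ x) μ) ^ 2 := hcs
    _ ≤ (r - 1) * finrank K (inv (ad ρ) (Subgroup.zpowers x)) := by
        apply Nat.mul_le_mul hcard
        refine le_trans ?_ hE
        apply Finset.sum_le_sum
        intro μ _
        rw [sq]
        exact finrank_emu_ge (ρ x) μ

theorem core_bound_pp [Nontrivial Y] (hQ : (Nat.card Q : K) ≠ 0)
    (H1 : ∀ u ∈ Q, ∀ v ∈ Q, ∃ c : K, ρ ⁅u, v⁆ = c • 1)
    (Z₁ : Subgroup G) (hZQ : Z₁ ≤ Q) (Hs : ∀ n ∈ Z₁, ∃ c : K, ρ n = c • 1)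
    (H2 : ∀ v ∈ Q, (∀ u ∈ Q, ρ ⁅u, v⁆ = 1) → v ∈ Z₁)
    (x : G) (hfin : IsOfFinOrder x) (hrK : (orderOf x : K) ≠ 0)
    (Hgen : ∀ e ∈ Subgroup.zpowers x, e ≠ 1 → ∀ S : Subgroup G,
      (∀ m ∈ Q, m⁻¹ * e⁻¹ * m * e ∈ S) → Z₁ ≤ S → Q ≤ S)
    (H4 : inv ρ (Subgroup.zpowers x) = ⊥) :
    (Z₁.subgroupOf Q).index ≤ (orderOf x - 1) ^ 2 := by
  have hpos : 0 < orderOf x := orderOf_pos_iff.mpr hfin
  have h1 := first_ineq ρ Q H1 Z₁ H2
  have h2 := second_ineq_pp ρ Q hQ H1 Z₁ hZQ Hs x hfin Hgen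
  have h3 := third_ineq_pp ρ x (orderOf x) hpos (pow_orderOf_eq_one x) hrK H4
  have hc : 1 ≤ finrank K (inv (ad ρ) Q) := by
    rw [Nat.one_le_iff_ne_zero]
    intro h0
    have hbot := Submodule.finrank_eq_zero.1 h0
    have h1m := one_mem_inv_ad ρ Q
    rw [hbot, Submodule.mem_bot] at h1m
    obtain ⟨y, hy⟩ := exists_ne (0 : Y)
    apply hy
    have := LinearMap.congr_fun h1m y
    rwa [Module.End.one_apply, LinearMap.zero_apply] at this
  obtain ⟨s, hs⟩ : ∃ s, orderOf x = s + 1 := ⟨orderOf x - 1, by omega⟩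
  rw [hs] at h2 h3 ⊢
  rw [Nat.add_sub_cancel] at h3 ⊢
  exact core_arith _ _ _ _ s hc h1 h2 h3

end Cfsg.Agent.Lib.Helper9.PPMA
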