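import Mathlib

set_option autoImplicit false

/-! S3795 package MASCHKE: Maschke's theorem and existence of irreducible submodules for
submodules of a representation that are stable under a finite subgroup, in the elementary
`∀ g ∈ H, Y ≤ Y.comap (σ g)` language of the `PP` library. -/

namespace Cfsg.Agent.Lib.Helper9.GR2Maschke

open Module

variable {K : Type*} [Field K] {G : Type*} [Group G] {W : Type*} [AddCommGroup W] [Module K W]
  (σ : Representation K G W)

/-- `Y` is stable under the subgroup `H`. -/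
def Stable (H : Subgroup G) (Y : Submodule K W) : Prop := ∀ g ∈ H, Y ≤ Y.comap (σ g)

theorem stable_top_iff (Y : Submodule K W) : Stable σ ⊤ Y ↔ ∀ g, Y ≤ Y.comap (σ g) :=
  ⟨fun h g => h g (Subgroup.mem_top g), fun h g _ => h g⟩

theorem Stable.map_mem {H : Subgroup G} {Y : Submodule K W} (h : Stable σ H Y) {g : G}
    (hg : g ∈ H) {v : W} (hv : v ∈ Y) : σ g v ∈ Y := h g hg hv

theorem stable_inf {H : Subgroup G} {Y₁ Y₂ : Submodule K W} (h₁ : Stable σ H Y₁)
    (h₂ : Stable σ H Y₂) : Stable σ H (Y₁ ⊓ Y₂) :=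
  fun g hg _ hv => ⟨h₁ g hg hv.1, h₂ g hg hv.2⟩

theorem stable_sup {H : Subgroup G} {Y₁ Y₂ : Submodule K W} (h₁ : Stable σ H Y₁)
    (h₂ : Stable σ H Y₂) : Stable σ H (Y₁ ⊔ Y₂) := by
  intro g hg v hv
  obtain ⟨a, ha, b, hb, rfl⟩ := Submodule.mem_sup.1 hv
  rw [Submodule.mem_comap, map_add]
  exact Submodule.add_mem _ (Submodule.mem_sup_left (h₁ g hg ha))
    (Submodule.mem_sup_right (h₂ g hg hb))

theorem stable_sSup {H : Subgroup G} {S : Set (Submodule K W)} (h : ∀ Y ∈ S, Stable σ H Y) :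
    Stable σ H (sSup S) := by
  intro g hg
  rw [sSup_le_iff]
  intro Y hY v hv
  rw [Submodule.mem_comap]
  exact (le_sSup hY : Y ≤ sSup S) (h Y hY g hg hv)

theorem stable_bot (H : Subgroup G) : Stable σ H (⊥ : Submodule K W) := by
  intro g _ v hv
  rw [Submodule.mem_bot] at hv
  rw [Submodule.mem_comap, hv, map_zero]
  exact Submodule.zero_mem _

/-- Maschke's theorem for stable submodules. -/
theorem exists_compl (H : Subgroup G) [Finite H] (hH : (Nat.card H : K) ≠ 0)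
    (Y₁ Y : Submodule K W) (h₁ : Stable σ H Y₁) (hY : Stable σ H Y) (hle : Y₁ ≤ Y) :
    ∃ Y₂ : Submodule K W, Y₂ ≤ Y ∧ Stable σ H Y₂ ∧ Y₁ ⊓ Y₂ = ⊥ ∧ Y₁ ⊔ Y₂ = Y := by
  classical
  let _ : Fintype H := Fintype.ofFinite H
  obtain ⟨π₀, hπ₀⟩ := LinearMap.exists_leftInverse_of_injective Y₁.subtype
    (LinearMap.ker_eq_bot.2 Y₁.injective_subtype)
  -- `p₀ : W → W`, a projection onto `Y₁`
  set p₀ : W →ₗ[K] W := Y₁.subtype ∘ₗ π₀ with hp₀
  have hp₀mem : ∀ v, p₀ v ∈ Y₁ := fun v => (π₀ v).2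
  have hp₀id : ∀ v ∈ Y₁, p₀ v = v := by
    intro v hv
    have := LinearMap.congr_fun hπ₀ ⟨v, hv⟩
    simp only [LinearMap.coe_comp, Function.comp_apply, Submodule.coe_subtype,
      LinearMap.id_coe, id_eq] at this
    show ((π₀ v : Y₁) : W) = v
    rw [this]
  set π : W →ₗ[K] W := (Nat.card H : K)⁻¹ • ∑ h : H, σ (h : G) ∘ₗ p₀ ∘ₗ σ ((h : G)⁻¹) with hπ
  have hπapply : ∀ v, π v = (Nat.card H : K)⁻¹ • ∑ h : H, σ (h : G) (p₀ (σ ((h : G)⁻¹) v)) := by
    intro v
    simp [hπ, LinearMap.sum_apply]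
  have hπmem : ∀ v, π v ∈ Y₁ := by
    intro v
    rw [hπapply]
    apply Submodule.smul_mem
    apply Submodule.sum_mem
    intro h _
    exact h₁ (h : G) h.2 (hp₀mem _)
  have hπid : ∀ v ∈ Y₁, π v = v := by
    intro v hv
    rw [hπapply]
    have : ∀ h : H, σ (h : G) (p₀ (σ ((h : G)⁻¹) v)) = v := by
      intro h
      rw [hp₀id _ (h₁ _ (H.inv_mem h.2) hv)]
      rw [← Module.End.mul_apply, ← map_mul, mul_inv_cancel, map_one, Module.End.one_apply]
    rw [Finset.sum_congr rfl (fun h _ => this h), Finset.sum_const, Finset.card_univ,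
      ← Nat.card_eq_fintype_card, ← Nat.cast_smul_eq_nsmul K, smul_smul, inv_mul_cancel₀ hH,
      one_smul]
  have hπcomm : ∀ g ∈ H, ∀ v, π (σ g v) = σ g (π v) := by
    intro g hg v
    rw [hπapply, hπapply, map_smul, map_sum]
    congr 1
    -- reindex by `h ↦ g * h`
    let e : H ≃ H := Equiv.mulLeft (⟨g, hg⟩ : H)
    rw [← Equiv.sum_comp e]
    apply Finset.sum_congr rfl
    intro h _
    have he : ((e h : H) : G) = g * h := rfl
    have h1 : σ ((g * (h : G))⁻¹) (σ g v) = σ ((h : G)⁻¹) v := by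
      rw [← Module.End.mul_apply, ← map_mul]
      congr 2
      group
    rw [he, h1, map_mul, Module.End.mul_apply]
  refine ⟨Y ⊓ LinearMap.ker π, inf_le_left, ?_, ?_, ?_⟩
  · intro g hg v hv
    refine ⟨hY g hg hv.1, ?_⟩
    show σ g v ∈ LinearMap.ker π
    rw [LinearMap.mem_ker, hπcomm g hg, LinearMap.mem_ker.1 hv.2, map_zero]
  · rw [eq_bot_iff]
    intro v hv
    rw [Submodule.mem_bot]
    have h1 := hπid v hv.1
    have h2 := LinearMap.mem_ker.1 hv.2.2
    rw [← h1, h2]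
  · apply le_antisymm
    · exact sup_le hle inf_le_left
    · intro v hv
      rw [Submodule.mem_sup]
      refine ⟨π v, hπmem v, v - π v, ⟨Y.sub_mem hv (hle (hπmem v)), ?_⟩, by abel⟩
      show π (v - π v) = 0
      rw [map_sub, hπid _ (hπmem v), sub_self]

/-- irreducibility of a stable submodule. -/
def IsIrr (H : Subgroup G) (Y : Submodule K W) : Prop :=
  Y ≠ ⊥ ∧ Stable σ H Y ∧ ∀ Y' : Submodule K W, Y' ≤ Y → Stable σ H Y' → Y' = ⊥ ∨ Y' = Y

theorem exists_irreducible [FiniteDimensional K W] (H : Subgroup G) (Y : Submodule K W)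
    (hY : Stable σ H Y) (hne : Y ≠ ⊥) : ∃ Y' : Submodule K W, Y' ≤ Y ∧ IsIrr σ H Y' := by
  classical
  -- choose a non-zero stable submodule of `Y` of minimal dimension
  let P : ℕ → Prop := fun n => ∃ Y' : Submodule K W, Y' ≤ Y ∧ Y' ≠ ⊥ ∧ Stable σ H Y' ∧
    finrank K Y' = n
  have hP : ∃ n, P n := ⟨_, Y, le_rfl, hne, hY, rfl⟩
  obtain ⟨Y', hle, hne', hst, hfr⟩ := Nat.find_spec hP
  refine ⟨Y', hle, hne', hst, ?_⟩
  intro Y'' hle'' hst''
  by_cases h0 : Y'' = ⊥
  · exact Or.inl h0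
  · right
    have hmin := Nat.find_min' hP ⟨Y'', le_trans hle'' hle, h0, hst'', rfl⟩
    rw [← hfr] at hmin
    exact Submodule.eq_of_le_of_finrank_le hle'' hmin

/-- a stable submodule is the sum of its irreducible stable submodules. -/
theorem sSup_irreducible [FiniteDimensional K W] (H : Subgroup G) [Finite H]
    (hH : (Nat.card H : K) ≠ 0) (Y : Submodule K W) (hY : Stable σ H Y) :
    sSup {Y' : Submodule K W | Y' ≤ Y ∧ IsIrr σ H Y'} = Y := by
  set S := sSup {Y' : Submodule K W | Y' ≤ Y ∧ IsIrr σ H Y'} with hS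
  have hSle : S ≤ Y := sSup_le (fun Y' h => h.1)
  have hSst : Stable σ H S := stable_sSup σ (fun Y' h => h.2.2.1)
  obtain ⟨Y₂, hY₂le, hY₂st, hinf, hsup⟩ := exists_compl σ H hH S Y hSst hY hSle
  by_cases h2 : Y₂ = ⊥
  · rw [h2, sup_bot_eq] at hsup
    exact hsup
  · exfalso
    obtain ⟨Y', hle', hirr⟩ := exists_irreducible σ H Y₂ hY₂st h2
    have h1 : Y' ≤ S := le_sSup ⟨le_trans hle' hY₂le, hirr⟩
    have h3 : Y' ≤ S ⊓ Y₂ := le_inf h1 hle'
    rw [hinf, le_bot_iff] at h3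
    exact hirr.1 h3

/-- a linear map that does not vanish on a stable submodule does not vanish on one of its
irreducible stable submodules. -/
theorem exists_irreducible_not_le_ker [FiniteDimensional K W] (H : Subgroup G) [Finite H]
    (hH : (Nat.card H : K) ≠ 0) (Y : Submodule K W) (hY : Stable σ H Y)
    {W' : Type*} [AddCommGroup W'] [Module K W'] (f : W →ₗ[K] W') (hf : ¬ Y ≤ LinearMap.ker f) :
    ∃ Y' : Submodule K W, Y' ≤ Y ∧ IsIrr σ H Y' ∧ ¬ Y' ≤ LinearMap.ker f := by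
  by_contra hcon
  push Not at hcon
  apply hf
  rw [← sSup_irreducible σ H hH Y hY]
  apply sSup_le
  intro Y' h
  exact hcon Y' h.1 h.2

/-- the `⊤`-versions, in the language of `Representation.subrepresentation`. -/
theorem exists_compl_top [Finite G] (hG : (Nat.card G : K) ≠ 0)
    (Y₁ Y : Submodule K W) (h₁ : ∀ g, Y₁ ≤ Y₁.comap (σ g)) (hY : ∀ g, Y ≤ Y.comap (σ g))
    (hle : Y₁ ≤ Y) :
    ∃ Y₂ : Submodule K W, Y₂ ≤ Y ∧ (∀ g, Y₂ ≤ Y₂.comap (σ g)) ∧ Y₁ ⊓ Y₂ = ⊥ ∧ Y₁ ⊔ Y₂ = Y := by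
  have hcard : Nat.card (⊤ : Subgroup G) = Nat.card G := Subgroup.card_top
  obtain ⟨Y₂, h1, h2, h3, h4⟩ := exists_compl σ ⊤ (by rw [hcard]; exact hG) Y₁ Y
    ((stable_top_iff σ Y₁).2 h₁) ((stable_top_iff σ Y).2 hY) hle
  exact ⟨Y₂, h1, (stable_top_iff σ Y₂).1 h2, h3, h4⟩

theorem exists_irreducible_top [FiniteDimensional K W] (Y : Submodule K W)
    (hY : ∀ g, Y ≤ Y.comap (σ g)) (hne : Y ≠ ⊥) :
    ∃ Y' : Submodule K W, Y' ≤ Y ∧ Y' ≠ ⊥ ∧ (∀ g, Y' ≤ Y'.comap (σ g)) ∧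
      ∀ Y'' : Submodule K W, Y'' ≤ Y' → (∀ g, Y'' ≤ Y''.comap (σ g)) → Y'' = ⊥ ∨ Y'' = Y' := by
  obtain ⟨Y', hle, hne', hst, hirr⟩ := exists_irreducible σ ⊤ Y ((stable_top_iff σ Y).2 hY) hne
  exact ⟨Y', hle, hne', (stable_top_iff σ Y').1 hst,
    fun Y'' h1 h2 => hirr Y'' h1 ((stable_top_iff σ Y'').2 h2)⟩

theorem map_subtype_eq_bot' {Y : Submodule K W} {Y' : Submodule K Y}
    (h : Y'.map Y.subtype = ⊥) : Y' = ⊥ := by
  rw [Submodule.eq_bot_iff]
  intro w hw
  have h1 : (w : W) ∈ Y'.map Y.subtype := ⟨w, hw, rfl⟩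
  rw [h, Submodule.mem_bot] at h1
  exact Subtype.ext h1

/-- Schur's lemma for a representation without proper non-zero `H`-stable submodules. -/
theorem schur_rep [IsAlgClosed K] {Y : Type*} [AddCommGroup Y] [Module K Y]
    [FiniteDimensional K Y] [Nontrivial Y] (ρ : Representation K G Y) (H : Subgroup G)
    (hirr : ∀ Y' : Submodule K Y, Stable ρ H Y' → Y' = ⊥ ∨ Y' = ⊤)
    (T : Module.End K Y) (hT : ∀ g ∈ H, ρ g * T = T * ρ g) : ∃ c : K, T = c • 1 := by
  obtain ⟨c, hc⟩ := Module.End.exists_eigenvalue T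
  refine ⟨c, ?_⟩
  have hst : Stable ρ H (Module.End.eigenspace T c) := by
    intro g hg v hv
    rw [Submodule.mem_comap, Module.End.mem_eigenspace_iff]
    rw [Module.End.mem_eigenspace_iff] at hv
    have := LinearMap.congr_fun (hT g hg) v
    simp only [Module.End.mul_apply] at this
    rw [← this, hv, map_smul]
  rcases hirr _ hst with h | h
  · exact absurd h hc
  · apply LinearMap.ext
    intro v
    have hv : v ∈ Module.End.eigenspace T c := by
      rw [h]
      exact Submodule.mem_top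
    rw [LinearMap.smul_apply, Module.End.one_apply]
    exact Module.End.mem_eigenspace_iff.1 hv

/-- an irreducible stable submodule gives a subrepresentation without proper non-zero stable
submodules. -/
theorem irr_subrepresentation (H : Subgroup G) (Y : Submodule K W)
    (hYinv : ∀ g, Y ≤ Y.comap (σ g)) (hirr : IsIrr σ H Y) :
    ∀ Y' : Submodule K Y, Stable (σ.subrepresentation Y hYinv) H Y' → Y' = ⊥ ∨ Y' = ⊤ := by
  intro Y' hst
  have hle : Y'.map Y.subtype ≤ Y := by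
    rintro _ ⟨w, _, rfl⟩
    exact w.2
  have hst' : Stable σ H (Y'.map Y.subtype) := by
    rintro g hg _ ⟨w, hw, rfl⟩
    rw [Submodule.mem_comap]
    exact ⟨σ.subrepresentation Y hYinv g w, hst g hg hw, rfl⟩
  rcases hirr.2.2 _ hle hst' with h | h
  · left
    exact map_subtype_eq_bot' h
  · right
    rw [eq_top_iff]
    intro w _
    have hw : (w : W) ∈ Y'.map Y.subtype := by
      rw [h]
      exact w.2
    obtain ⟨w', hw', hww⟩ := hw
    have : w' = w := Subtype.ext hww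
    rwa [← this]

/-- Schur's lemma for an irreducible stable submodule, elementwise. -/
theorem schur [IsAlgClosed K] [FiniteDimensional K W] (H : Subgroup G) (Y : Submodule K W)
    (hirr : IsIrr σ H Y) (T : W →ₗ[K] W) (hTY : Y ≤ Y.comap T)
    (hcomm : ∀ g ∈ H, ∀ v ∈ Y, T (σ g v) = σ g (T v)) : ∃ c : K, ∀ v ∈ Y, T v = c • v := by
  have : Nontrivial Y := (Submodule.nontrivial_iff_ne_bot).2 hirr.1
  obtain ⟨c, hc⟩ := Module.End.exists_eigenvalue (T.restrict hTY)
  refine ⟨c, ?_⟩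
  set E : Submodule K W := (Module.End.eigenspace (T.restrict hTY) c).map Y.subtype with hE
  have hEle : E ≤ Y := by
    rintro _ ⟨w, _, rfl⟩
    exact w.2
  have hEmem : ∀ v : W, v ∈ E ↔ v ∈ Y ∧ T v = c • v := by
    intro v
    constructor
    · rintro ⟨w, hw, rfl⟩
      refine ⟨w.2, ?_⟩
      have := congrArg Subtype.val (Module.End.mem_eigenspace_iff.1 hw)
      exact this
    · rintro ⟨hv, hTv⟩
      refine ⟨⟨v, hv⟩, ?_, rfl⟩
      rw [SetLike.mem_coe, Module.End.mem_eigenspace_iff]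
      apply Subtype.ext
      exact hTv
  have hEst : Stable σ H E := by
    intro g hg v hv
    rw [Submodule.mem_comap, hEmem]
    rw [hEmem] at hv
    refine ⟨hirr.2.1 g hg hv.1, ?_⟩
    rw [hcomm g hg v hv.1, hv.2, map_smul]
  rcases hirr.2.2 E hEle hEst with h | h
  · exfalso
    apply hc
    exact map_subtype_eq_bot' h
  · intro v hv
    rw [← h, hEmem] at hv
    exact hv.2

end Cfsg.Agent.Lib.Helper9.GR2Maschke
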