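import Mathlib
import Cfsg.Agent.Lib.Helper4.PPD0
import Cfsg.Agent.Lib.Helper4.PPD2
import Cfsg.Agent.Lib.Helper9.GR2Maschke
import Cfsg.Agent.Lib.Helper4.GR2PWB

set_option autoImplicit false
set_option linter.unusedVariables false
set_option linter.unusedSectionVars false
set_option linter.style.haveILetI false

/-! S3795 package PW-C: the sharp per-weight lemma on a whole weight space (Maschke + the sharp
lemma `pw2` on irreducible pieces, taken here as a hypothesis `hpw2`). -/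

namespace Cfsg.Agent.Lib.Helper9.GR2PWC

open Module Cfsg.Agent.Lib.Helper4.FM Cfsg.Agent.Lib.Helper4.HH Cfsg.Agent.Lib.Helper4.PP
  Cfsg.Agent.Lib.Helper9.GR2Maschke

open Cfsg.Agent.Lib.Helper4.PPD2 (stabY mem_stabY_of_finOrder)

open scoped commutatorElement

universe u

section stab

variable {K : Type*} [Field K] {G : Type*} [Group G] {W : Type*} [AddCommGroup W] [Module K W]
  (σ : Representation K G W)

theorem stable_sup_zpowers (Q : Subgroup G) (y : G) (hfin : IsOfFinOrder y) (Y : Submodule K W)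
    (hYQ : ∀ m ∈ Q, Y ≤ Y.comap (σ m)) (hYy : Y ≤ Y.comap (σ y)) :
    Stable σ (Q ⊔ Subgroup.zpowers y) Y := by
  have h : Q ⊔ Subgroup.zpowers y ≤ stabY σ Y := by
    apply sup_le
    · intro m hm
      exact ⟨hYQ m hm, hYQ m⁻¹ (Q.inv_mem hm)⟩
    · rw [Subgroup.zpowers_le]
      exact mem_stabY_of_finOrder σ Y y hfin hYy
  intro g hg
  exact (h hg).1

theorem card_sup_zpowers_ne_zero [Finite G] (Q : Subgroup G) [Q.Normal] (y : G) (q a : ℕ)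
    (hq : q.Prime) (hQ : IsPGroup q Q) (hqK : (q : K) ≠ 0) (hy : orderOf y = 2 ^ a)
    (h2K : (2 : K) ≠ 0) : (Nat.card ↥(Q ⊔ Subgroup.zpowers y) : K) ≠ 0 := by
  have : Fact q.Prime := ⟨hq⟩
  obtain ⟨N, hN⟩ := IsPGroup.iff_card.1 hQ
  have h1 : Nat.card ↥(Q ⊔ Subgroup.zpowers y) =
      Nat.card Q * Q.relIndex (Subgroup.zpowers y) := by
    rw [← Subgroup.relIndex_bot_left, ← Subgroup.relIndex_bot_left,
      ← Subgroup.relIndex_sup_left (K := Q) (H := Subgroup.zpowers y)]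
    exact (Subgroup.relIndex_mul_relIndex ⊥ Q _ bot_le le_sup_left).symm
  have h2 : Q.relIndex (Subgroup.zpowers y) ∣ 2 ^ a := by
    have := Subgroup.relIndex_dvd_card Q (Subgroup.zpowers y)
    rwa [Nat.card_zpowers, hy] at this
  obtain ⟨b, _, hb⟩ := (Nat.dvd_prime_pow Nat.prime_two).1 h2
  rw [h1, hN, hb, Nat.cast_mul, Nat.cast_pow, Nat.cast_pow]
  exact mul_ne_zero (pow_ne_zero _ hqK) (pow_ne_zero _ (by exact_mod_cast h2K))

end stab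

theorem fixed_of_eigen {K : Type*} [Field K] {V : Type*} [AddCommGroup V] [Module K V]
    (A : Module.End K V) (htop : ⨆ μ : K, Module.End.eigenspace A μ = ⊤)
    (h : ∀ μ : K, μ ≠ 1 → ∀ T : V, A T = μ • T → T = 0) : ∀ T : V, A T = T := by
  intro T
  have hT : T ∈ ⨆ μ : K, Module.End.eigenspace A μ := by
    rw [htop]
    exact Submodule.mem_top
  refine Submodule.iSup_induction (fun μ : K => Module.End.eigenspace A μ)
    (motive := fun T => A T = T) hT ?_ (map_zero _) ?_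
  · intro μ T hTμ
    rw [Module.End.mem_eigenspace_iff] at hTμ
    by_cases hμ1 : μ = 1
    · rw [hTμ, hμ1, one_smul]
    · rw [h μ hμ1 T hTμ, map_zero]
  · intro T₁ T₂ h1 h2
    rw [map_add, h1, h2]

section comm

variable {K : Type*} [Field K] [IsAlgClosed K] {G : Type*} [Group G] {Y : Type*} [AddCommGroup Y]
  [Module K Y] [FiniteDimensional K Y] (ρ : Representation K G Y) (Q : Subgroup G)
  [hQn : Q.Normal]

/-- `ad y` is diagonalisable on `End_Q(Y)`; if no eigenvector with eigenvalue `≠ 1` survives,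
`y` commutes with `End_Q(Y)`. -/
theorem comm_of_eigen (y : G) (n : ℕ) (hnK : (n : K) ≠ 0) (hyn : y ^ n = 1)
    (hev : ∀ g : Module.End K Y, (∀ s ∈ Q, ρ s * g = g * ρ s) → ∀ μ : K, μ ≠ 1 → μ ^ n = 1 →
      ρ y * g = μ • (g * ρ y) → g = 0)
    (f : Module.End K Y) (hf : ∀ s ∈ Q, ρ s * f = f * ρ s) : ρ y * f = f * ρ y := by
  classical
  have hCinv : ∀ g, inv (ad ρ) Q ≤ (inv (ad ρ) Q).comap (ad ρ g) := inv_invariant (ad ρ) Q
  have htop := iSup_eigenspace_eq_top ((ad ρ).subrepresentation _ hCinv) y n hnK hyn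
  have hval : ∀ (g : G) (T : inv (ad ρ) Q),
      ((((ad ρ).subrepresentation _ hCinv) g T : inv (ad ρ) Q) : Module.End K Y) =
        ad ρ g (T : Module.End K Y) := fun g T => rfl
  have hkey := fixed_of_eigen _ htop (by
    intro μ hμ1 T hTμ
    have hpow : ∀ k : ℕ, ((ad ρ).subrepresentation _ hCinv) (y ^ k) T = μ ^ k • T := by
      intro k
      induction k with
      | zero => rw [pow_zero, map_one, Module.End.one_apply, pow_zero, one_smul]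
      | succ k ih =>
        rw [pow_succ, rho_mul_apply, hTμ, map_smul, ih, smul_smul, pow_succ, mul_comm]
    by_contra hT0
    have hT0' : (T : Module.End K Y) ≠ 0 := fun h => hT0 (Subtype.ext h)
    have hμpow : μ ^ n = 1 := by
      have h1 := hpow n
      rw [hyn, map_one, Module.End.one_apply] at h1
      have h1' : (T : Module.End K Y) = μ ^ n • (T : Module.End K Y) := congrArg Subtype.val h1
      have h2 : (μ ^ n - 1) • (T : Module.End K Y) = 0 := by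
        rw [sub_smul, one_smul, ← h1', sub_self]
      rcases smul_eq_zero.1 h2 with h | h
      · exact sub_eq_zero.1 h
      · exact absurd h hT0'
    apply hT0
    apply Subtype.ext
    apply hev (T : Module.End K Y) ((mem_inv_ad ρ Q _).1 T.2) μ hμ1 hμpow
    have h1 : ad ρ y (T : Module.End K Y) = μ • (T : Module.End K Y) := by
      have := congrArg Subtype.val hTμ
      rw [hval] at this
      exact this
    rw [ad_apply] at h1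
    calc ρ y * (T : Module.End K Y)
        = (ρ y * (T : Module.End K Y) * ρ y⁻¹) * ρ y := by
          rw [mul_assoc, mul_assoc, rho_inv_mul, mul_one]
      _ = μ • ((T : Module.End K Y) * ρ y) := by rw [h1, smul_mul_assoc])
  have h1 := hkey ⟨f, (mem_inv_ad ρ Q f).2 hf⟩
  have h2 : ad ρ y f = f := by
    have := congrArg Subtype.val h1
    rw [hval] at this
    exact this
  exact (ad_eq_iff ρ y f).1 h2

end comm

section main

variable {K : Type*} [Field K] [IsAlgClosed K] {G : Type u} [Group G] [Finite G] {W : Type*}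
  [AddCommGroup W] [Module K W] [FiniteDimensional K W] (σ : Representation K G W)
  (Q : Subgroup G) [hQn : Q.Normal]

/-- package PW-C, with the sharp lemma on irreducible pieces as a hypothesis. -/
theorem pw2_space_of (q : ℕ) (hq : q.Prime) (hQ : IsPGroup q Q) (hqK : (q : K) ≠ 0)
    (Z : Subgroup G) (hZQ : Z ≤ Q)
    (hZc : ∀ z ∈ Z, ∀ m ∈ Q, m * z = z * m)
    (hder : ∀ u ∈ Q, ∀ v ∈ Q, ⁅u, v⁆ ∈ Z)
    (y τ : G) (a : ℕ) (hq2 : q ≠ 2) (hy : orderOf y = 2 ^ a) (h2K : (2 : K) ≠ 0)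
    (hcyc : ∀ e ∈ Subgroup.zpowers y, e ≠ 1 → τ ∈ Subgroup.zpowers e)
    (hτy : τ ∈ Subgroup.zpowers y)
    (hZτ : ∀ m ∈ Q, τ * m = m * τ → m ∈ Z)
    (Hgenτ : ∀ S : Subgroup G, (∀ m ∈ Q, m⁻¹ * τ⁻¹ * m * τ ∈ S) → Q ≤ S)
    (hpw2 : ∀ Y : Submodule K W, (∀ m ∈ Q, Y ≤ Y.comap (σ m)) → Y ≤ Y.comap (σ y) → Y ≠ ⊥ →
      (∀ Y₁ : Submodule K W, Y₁ ≤ Y → (∀ m ∈ Q, Y₁ ≤ Y₁.comap (σ m)) →
        Y₁ ≤ Y₁.comap (σ y) → Y₁ = ⊥ ∨ Y₁ = Y) →
      (∀ z ∈ Z, ∃ c : K, ∀ v ∈ Y, σ z v = c • v) → (∀ v ∈ Y, σ y v = v → v = 0) →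
      (∀ m ∈ Q, ∀ v ∈ Y, σ m v = v) ∨
      (2 ≤ a ∧ ∀ μ : K, μ ^ (2 ^ a) = 1 → μ ≠ 1 → ∃ v ∈ Y, v ≠ 0 ∧ σ y v = μ • v))
    (Y : Submodule K W) (hYQ : ∀ m ∈ Q, Y ≤ Y.comap (σ m)) (hYy : Y ≤ Y.comap (σ y))
    (hY : Y ≠ ⊥)
    (hZs : ∀ z ∈ Z, ∃ c : K, ∀ v ∈ Y, σ z v = c • v)
    (H4 : ∀ v ∈ Y, σ y v = v → v = 0) :
    (∀ m ∈ Q, ∀ v ∈ Y, σ m v = v) ∨
    (2 ≤ a ∧ (∀ μ : K, μ ^ (2 ^ a) = 1 → μ ≠ 1 → ∃ v ∈ Y, v ≠ 0 ∧ σ y v = μ • v) ∧
      ∀ f : W →ₗ[K] W, (∀ v ∈ Y, f v ∈ Y) → (∀ m ∈ Q, ∀ v ∈ Y, f (σ m v) = σ m (f v)) →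
        ∀ v ∈ Y, f (σ y v) = σ y (f v)) := by
  classical
  set G₀ : Subgroup G := Q ⊔ Subgroup.zpowers y with hG₀
  have hQG₀ : Q ≤ G₀ := le_sup_left
  have hyG₀ : y ∈ G₀ := (le_sup_right : Subgroup.zpowers y ≤ G₀) (Subgroup.mem_zpowers y)
  have hτG₀ : τ ∈ G₀ := (le_sup_right : Subgroup.zpowers y ≤ G₀) hτy
  let σ₀ : Representation K G₀ W := σ.comp G₀.subtype
  have hσ₀ : ∀ g : G₀, σ₀ g = σ (g : G) := fun g => rfl
  set Q₀ : Subgroup G₀ := Q.subgroupOf G₀ with hQ₀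
  haveI hQ₀n : Q₀.Normal := hQn.subgroupOf G₀
  set Z₀ : Subgroup G₀ := Z.subgroupOf G₀ with hZ₀
  let y₀ : G₀ := ⟨y, hyG₀⟩
  let τ₀ : G₀ := ⟨τ, hτG₀⟩
  have hfin : IsOfFinOrder y := isOfFinOrder_of_finite y
  have hstabG₀ : ∀ Y' : Submodule K W, (∀ m ∈ Q, Y' ≤ Y'.comap (σ m)) → Y' ≤ Y'.comap (σ y) →
      Stable σ G₀ Y' := fun Y' h1 h2 => stable_sup_zpowers σ Q y hfin Y' h1 h2
  have hYst : Stable σ G₀ Y := hstabG₀ Y hYQ hYy
  have hYinv₀ : ∀ g : G₀, Y ≤ Y.comap (σ₀ g) := fun g => hYst g g.2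
  have hQ₀p : IsPGroup q Q₀ := hQ.comap_subtype
  have hZ₀Q₀ : Z₀ ≤ Q₀ := fun m hm => hZQ hm
  have hZc₀ : ∀ z ∈ Z₀, ∀ m ∈ Q₀, m * z = z * m := by
    intro z hz m hm
    apply Subtype.ext
    exact hZc z hz m hm
  have hcoe_comm : ∀ u v : G₀, ((⁅u, v⁆ : G₀) : G) = ⁅(u : G), (v : G)⁆ := by
    intro u v
    rw [commutatorElement_def, commutatorElement_def]
    simp
  have hder₀ : ∀ u ∈ Q₀, ∀ v ∈ Q₀, ⁅u, v⁆ ∈ Z₀ := by
    intro u hu v hv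
    show ((⁅u, v⁆ : G₀) : G) ∈ Z
    rw [hcoe_comm]
    exact hder u hu v hv
  have hy₀ : orderOf y₀ = 2 ^ a := by
    rw [← hy]
    exact Subgroup.orderOf_mk y hyG₀
  have hzp : ∀ e : G₀, e ∈ Subgroup.zpowers y₀ → (e : G) ∈ Subgroup.zpowers y := by
    intro e he
    obtain ⟨i, rfl⟩ := Subgroup.mem_zpowers_iff.1 he
    rw [Subgroup.coe_zpow]
    exact Subgroup.zpow_mem _ (Subgroup.mem_zpowers y) i
  have hcyc₀ : ∀ e ∈ Subgroup.zpowers y₀, e ≠ 1 → τ₀ ∈ Subgroup.zpowers e := by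
    intro e he he1
    have h1 : (e : G) ≠ 1 := fun h => he1 (Subtype.ext h)
    obtain ⟨i, hi⟩ := Subgroup.mem_zpowers_iff.1 (hcyc (e : G) (hzp e he) h1)
    rw [Subgroup.mem_zpowers_iff]
    refine ⟨i, ?_⟩
    apply Subtype.ext
    rw [Subgroup.coe_zpow]
    exact hi
  have hτy₀ : τ₀ ∈ Subgroup.zpowers y₀ := by
    obtain ⟨i, hi⟩ := Subgroup.mem_zpowers_iff.1 hτy
    rw [Subgroup.mem_zpowers_iff]
    refine ⟨i, ?_⟩
    apply Subtype.ext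
    rw [Subgroup.coe_zpow]
    exact hi
  have hZτ₀ : ∀ m ∈ Q₀, τ₀ * m = m * τ₀ → m ∈ Z₀ := by
    intro m hm h
    apply hZτ (m : G) hm
    have := congrArg Subtype.val h
    simpa using this
  have Hgenτ₀ : ∀ S : Subgroup G₀, (∀ m ∈ Q₀, m⁻¹ * τ₀⁻¹ * m * τ₀ ∈ S) → Q₀ ≤ S := by
    intro S hS
    have h1 : Q ≤ S.map G₀.subtype := by
      apply Hgenτ
      intro m hm
      refine ⟨(⟨m, hQG₀ hm⟩ : G₀)⁻¹ * τ₀⁻¹ * ⟨m, hQG₀ hm⟩ * τ₀, hS ⟨m, hQG₀ hm⟩ hm, ?_⟩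
      simp [τ₀]
    intro m hm
    obtain ⟨s, hs, hsm⟩ := h1 hm
    have : s = m := Subtype.ext hsm
    rw [← this]
    exact hs
  have hZs₀ : ∀ z ∈ Z₀, ∃ c : K, ∀ v ∈ Y, σ₀ z v = c • v := fun z hz => hZs (z : G) hz
  have H4₀ : ∀ v ∈ Y, σ₀ y₀ v = v → v = 0 := H4
  have hmain := Cfsg.Agent.Lib.Helper4.PPD0.pp_weight_hyps σ₀ Q₀ q hq hQ₀p hqK Z₀ hZ₀Q₀ hZc₀ hder₀
    y₀ τ₀ 2 a Nat.prime_two hq2 hy₀ hcyc₀ hτy₀ hZτ₀ Hgenτ₀ Y hYinv₀ hY hZs₀ H4₀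
  rcases hmain with h | ⟨hnc, -⟩
  · left
    intro m hm v hv
    exact h ⟨m, hQG₀ hm⟩ hm v hv
  right
  set ρ : Representation K G₀ Y := σ₀.subrepresentation Y hYinv₀ with hρ
  have hρval : ∀ (g : G₀) (w : Y), ((ρ g w : Y) : W) = σ (g : G) (w : W) := fun g w => rfl
  -- (b) a central element acting by a scalar `≠ 1`
  obtain ⟨z₀, hz₀Z, c₀, hc₀, hc₀1⟩ : ∃ z₀ ∈ Z, ∃ c₀ : K, (∀ v ∈ Y, σ z₀ v = c₀ • v) ∧ c₀ ≠ 1 := by
    push Not at hnc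
    obtain ⟨a₁, b₁, hab⟩ := hnc
    have hzZ : ⁅((a₁ : G₀) : G), ((b₁ : G₀) : G)⁆ ∈ Z := hder _ a₁.2 _ b₁.2
    obtain ⟨c₀, hc₀⟩ := hZs _ hzZ
    refine ⟨_, hzZ, c₀, hc₀, ?_⟩
    rintro rfl
    apply hab
    show ρ (a₁ : G₀) * ρ (b₁ : G₀) = ρ (b₁ : G₀) * ρ (a₁ : G₀)
    apply LinearMap.ext
    intro w
    apply Subtype.ext
    rw [Module.End.mul_apply, Module.End.mul_apply, hρval, hρval, hρval, hρval]
    have hmem : σ ((b₁ : G₀) : G) (σ ((a₁ : G₀) : G) (w : W)) ∈ Y :=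
      hYQ _ b₁.2 (hYQ _ a₁.2 w.2)
    have h1 := hc₀ _ hmem
    rw [one_smul] at h1
    have h2 : ((a₁ : G₀) : G) * ((b₁ : G₀) : G) =
        ⁅((a₁ : G₀) : G), ((b₁ : G₀) : G)⁆ * (((b₁ : G₀) : G) * ((a₁ : G₀) : G)) := by
      rw [commutatorElement_def]
      group
    calc σ ((a₁ : G₀) : G) (σ ((b₁ : G₀) : G) (w : W))
        = σ (((a₁ : G₀) : G) * ((b₁ : G₀) : G)) (w : W) := (rho_mul_apply σ _ _ _).symm
      _ = σ ⁅((a₁ : G₀) : G), ((b₁ : G₀) : G)⁆ (σ (((b₁ : G₀) : G) * ((a₁ : G₀) : G)) (w : W)) := by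
          rw [h2, rho_mul_apply]
      _ = σ ((b₁ : G₀) : G) (σ ((a₁ : G₀) : G) (w : W)) := by
          rw [rho_mul_apply, h1]
  have hz₀Q : z₀ ∈ Q := hZQ hz₀Z
  -- (c) the spectrum on every non-zero stable submodule
  have hspec : ∀ Y' : Submodule K W, Y' ≤ Y → Stable σ G₀ Y' → Y' ≠ ⊥ →
      2 ≤ a ∧ ∀ μ : K, μ ^ (2 ^ a) = 1 → μ ≠ 1 → ∃ v ∈ Y', v ≠ 0 ∧ σ y v = μ • v := by
    intro Y' hle hst hne
    obtain ⟨Y'', hle'', hne'', hst'', hirr''⟩ := exists_irreducible σ G₀ Y' hst hne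
    have hle2 : Y'' ≤ Y := le_trans hle'' hle
    have h := hpw2 Y'' (fun m hm => hst'' m (hQG₀ hm)) (hst'' y hyG₀) hne''
      (fun Y₁ h1 h2 h3 => hirr'' Y₁ h1 (hstabG₀ Y₁ h2 h3))
      (fun z hz => by
        obtain ⟨c, hc⟩ := hZs z hz
        exact ⟨c, fun v hv => hc v (hle2 hv)⟩)
      (fun v hv => H4 v (hle2 hv))
    rcases h with h | ⟨h2a, h⟩
    · exfalso
      obtain ⟨v, hv, hv0⟩ := Submodule.exists_mem_ne_zero_of_ne_bot hne''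
      have h1 := h z₀ hz₀Q v hv
      rw [hc₀ v (hle2 hv)] at h1
      have h2 : (c₀ - 1) • v = 0 := by rw [sub_smul, one_smul, h1, sub_self]
      rcases smul_eq_zero.1 h2 with h3 | h3
      · exact hc₀1 (sub_eq_zero.1 h3)
      · exact hv0 h3
    · refine ⟨h2a, fun μ hμ hμ1 => ?_⟩
      obtain ⟨v, hv, hv0, hyv⟩ := h μ hμ hμ1
      exact ⟨v, hle'' hv, hv0, hyv⟩
  obtain ⟨h2a, hspecY⟩ := hspec Y le_rfl hYst hY
  refine ⟨h2a, hspecY, ?_⟩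
  -- (d) COMM
  intro f hfY hfQ
  set f' : Module.End K Y := f.restrict hfY with hf'
  have hf'val : ∀ w : Y, ((f' w : Y) : W) = f (w : W) := fun w => rfl
  have hf'Q : ∀ s ∈ Q₀, ρ s * f' = f' * ρ s := by
    intro s hs
    apply LinearMap.ext
    intro w
    apply Subtype.ext
    rw [Module.End.mul_apply, Module.End.mul_apply, hρval, hf'val, hf'val, hρval]
    exact (hfQ (s : G) hs (w : W) w.2).symm
  have h2K' : ((2 : ℕ) : K) ≠ 0 := by exact_mod_cast h2K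
  have h2aK : ((2 ^ a : ℕ) : K) ≠ 0 := by
    rw [Nat.cast_pow]
    exact pow_ne_zero _ h2K'
  have hy₀pow : y₀ ^ (2 ^ a) = 1 := by
    rw [← hy₀]
    exact pow_orderOf_eq_one y₀
  have hcardG₀ : (Nat.card ↥G₀ : K) ≠ 0 :=
    card_sup_zpowers_ne_zero Q y q a hq hQ hqK hy h2K
  have hev : ∀ g : Module.End K Y, (∀ s ∈ Q₀, ρ s * g = g * ρ s) → ∀ μ : K, μ ≠ 1 →
      μ ^ (2 ^ a) = 1 → ρ y₀ * g = μ • (g * ρ y₀) → g = 0 := by
    intro g hgQ' μ hμ1 hμpow hgy'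
    by_contra hg0
    have hμ0 : μ ≠ 0 := by
      rintro rfl
      rw [zero_pow (by positivity)] at hμpow
      exact zero_ne_one hμpow
    have hνpow : μ⁻¹ ^ (2 ^ a) = 1 := by rw [inv_pow, hμpow, inv_one]
    have hν1 : μ⁻¹ ≠ 1 := fun h => hμ1 (inv_eq_one.1 h)
    have hgy : ∀ w : Y, ρ y₀ (g w) = μ • g (ρ y₀ w) := by
      intro w
      have h2 := LinearMap.congr_fun hgy' w
      rw [Module.End.mul_apply, LinearMap.smul_apply, Module.End.mul_apply] at h2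
      exact h2
    have hgQ : ∀ s ∈ Q₀, ∀ w : Y, g (ρ s w) = ρ s (g w) := by
      intro s hs w
      have h2 := LinearMap.congr_fun (hgQ' s hs) w
      rw [Module.End.mul_apply, Module.End.mul_apply] at h2
      exact h2.symm
    set N' : Submodule K W := (LinearMap.ker g).map Y.subtype with hN'
    have hN'le : N' ≤ Y := by
      rintro _ ⟨w, _, rfl⟩
      exact w.2
    have hN'mem : ∀ w : Y, (w : W) ∈ N' ↔ g w = 0 := by
      intro w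
      constructor
      · rintro ⟨w', hw', hww⟩
        have : w' = w := Subtype.ext hww
        rw [← this]
        exact hw'
      · intro h
        exact ⟨w, h, rfl⟩
    have hN'st : Stable σ G₀ N' := by
      apply hstabG₀
      · rintro m hm _ ⟨w, hw, rfl⟩
        rw [Submodule.mem_comap]
        have h1 : σ m ((Y.subtype) w) = ((ρ ⟨m, hQG₀ hm⟩ w : Y) : W) := rfl
        rw [h1, hN'mem, hgQ ⟨m, hQG₀ hm⟩ hm w, LinearMap.mem_ker.1 hw, map_zero]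
      · rintro _ ⟨w, hw, rfl⟩
        rw [Submodule.mem_comap]
        have h1 : σ y ((Y.subtype) w) = ((ρ y₀ w : Y) : W) := rfl
        rw [h1, hN'mem]
        have h2 := hgy w
        rw [LinearMap.mem_ker.1 hw, map_zero] at h2
        rcases smul_eq_zero.1 h2.symm with h | h
        · exact absurd h hμ0
        · exact h
    obtain ⟨Y₂, hY₂le, hY₂st, hinf, hsup⟩ := exists_compl σ G₀ hcardG₀ N' Y hN'st hYst hN'le
    have hY₂ne : Y₂ ≠ ⊥ := by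
      intro h
      rw [h, sup_bot_eq] at hsup
      apply hg0
      apply LinearMap.ext
      intro w
      rw [LinearMap.zero_apply, ← hN'mem, hsup]
      exact w.2
    obtain ⟨-, hsp⟩ := hspec Y₂ hY₂le hY₂st hY₂ne
    obtain ⟨v, hv, hv0, hyv⟩ := hsp μ⁻¹ hνpow hν1
    set w : Y := ⟨v, hY₂le hv⟩ with hw
    have hyw : ρ y₀ w = μ⁻¹ • w := by
      apply Subtype.ext
      rw [hρval]
      exact hyv
    have hgw : g w ≠ 0 := by
      intro h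
      have h1 : v ∈ N' ⊓ Y₂ := ⟨(hN'mem w).2 h, hv⟩
      rw [hinf, Submodule.mem_bot] at h1
      exact hv0 h1
    apply hgw
    apply Subtype.ext
    apply H4 _ (g w).2
    have h1 := hgy w
    rw [hyw, map_smul, smul_smul, mul_inv_cancel₀ hμ0, one_smul] at h1
    have h2 := congrArg Subtype.val h1
    rw [hρval] at h2
    exact h2
  have h2 := comm_of_eigen ρ Q₀ y₀ (2 ^ a) h2aK hy₀pow hev f' hf'Q
  intro v hv
  have h3 := LinearMap.congr_fun h2 ⟨v, hv⟩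
  rw [Module.End.mul_apply, Module.End.mul_apply] at h3
  have h4 := congrArg Subtype.val h3
  rw [hρval, hf'val, hf'val, hρval] at h4
  exact h4.symm

/-- package PW-C (skeleton statement). -/
theorem pw2_space (q : ℕ) (hq : q.Prime) (hQ : IsPGroup q Q) (hqK : (q : K) ≠ 0)
    (Z : Subgroup G) (hZQ : Z ≤ Q)
    (hZc : ∀ z ∈ Z, ∀ m ∈ Q, m * z = z * m)
    (hder : ∀ u ∈ Q, ∀ v ∈ Q, ⁅u, v⁆ ∈ Z)
    (y τ : G) (a : ℕ) (hq2 : q ≠ 2) (hy : orderOf y = 2 ^ a) (h2K : (2 : K) ≠ 0)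
    (hcyc : ∀ e ∈ Subgroup.zpowers y, e ≠ 1 → τ ∈ Subgroup.zpowers e)
    (hτy : τ ∈ Subgroup.zpowers y)
    (hZτ : ∀ m ∈ Q, τ * m = m * τ → m ∈ Z)
    (Hgenτ : ∀ S : Subgroup G, (∀ m ∈ Q, m⁻¹ * τ⁻¹ * m * τ ∈ S) → Q ≤ S)
    (Y : Submodule K W) (hYQ : ∀ m ∈ Q, Y ≤ Y.comap (σ m)) (hYy : Y ≤ Y.comap (σ y))
    (hY : Y ≠ ⊥)
    (hZs : ∀ z ∈ Z, ∃ c : K, ∀ v ∈ Y, σ z v = c • v)
    (H4 : ∀ v ∈ Y, σ y v = v → v = 0) :
    (∀ m ∈ Q, ∀ v ∈ Y, σ m v = v) ∨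
    (2 ≤ a ∧ (∀ μ : K, μ ^ (2 ^ a) = 1 → μ ≠ 1 → ∃ v ∈ Y, v ≠ 0 ∧ σ y v = μ • v) ∧
      ∀ f : W →ₗ[K] W, (∀ v ∈ Y, f v ∈ Y) → (∀ m ∈ Q, ∀ v ∈ Y, f (σ m v) = σ m (f v)) →
        ∀ v ∈ Y, f (σ y v) = σ y (f v)) :=
  pw2_space_of σ Q q hq hQ hqK Z hZQ hZc hder y τ a hq2 hy h2K hcyc hτy hZτ Hgenτ
    (fun Y' h1 h2 h3 h4 h5 h6 => Cfsg.Agent.Lib.Helper4.GR2PWB.pw2 σ Q q hq hQ hqK Z hZQ hZc hder
      y τ a hq2 hy h2K hcyc hτy hZτ Hgenτ Y' h1 h2 h3 h4 h5 h6)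
    Y hYQ hYy hY hZs H4

end main

end Cfsg.Agent.Lib.Helper9.GR2PWC
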