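import Mathlib
import Cfsg.Agent.Lib.Lead.Hx3Defs
import Cfsg.Agent.Lib.Lead.QuatRecog

set_option autoImplicit false

/-!
# S2933 / S1237 swarm, package L2: abelian two-groups generated by `x, ρ x` are homocyclic
(paper: `notes/S2933_S1237_paper_lead.md`, L2).
-/

namespace Cfsg.Agent.Lib.Lead.Hx3

open Cfsg.Agent.Lib.Helper3.S64
open Cfsg.Agent.Lib.Lead

variable {T : Type*} [Group T]

/-- in a cyclic group of order `2 ^ (k + 1)` every nontrivial element has the involution among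
its powers -/
theorem l2_aux_invol {x w : T} {k : ℕ} (hox : orderOf x = 2 ^ (k + 1))
    (hw : w ∈ Subgroup.zpowers x) (hw1 : w ≠ 1) : ∃ j : ℕ, w ^ j = x ^ 2 ^ k := by
  have hfin : IsOfFinOrder x := by
    rw [← orderOf_pos_iff, hox]; positivity
  obtain ⟨i, rfl⟩ := (Submonoid.mem_powers_iff _ _).mp (hfin.mem_powers_iff_mem_zpowers.mpr hw)
  have hi0 : i ≠ 0 := by
    rintro rfl
    exact hw1 (pow_zero x)
  obtain ⟨a, m, hm, rfl⟩ := Nat.exists_eq_two_pow_mul_odd hi0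
  obtain ⟨c, rfl⟩ := hm
  have hak : a ≤ k := by
    by_contra hcon
    have hlt : k + 1 ≤ a := by omega
    apply hw1
    rw [← orderOf_dvd_iff_pow_eq_one, hox]
    exact Dvd.dvd.mul_right (pow_dvd_pow 2 hlt) _
  refine ⟨2 ^ (k - a), ?_⟩
  have h2k : 2 ^ a * 2 ^ (k - a) = 2 ^ k := by
    rw [← pow_add]; congr 1; omega
  have hexp : 2 ^ a * (2 * c + 1) * 2 ^ (k - a) = 2 ^ (k + 1) * c + 2 ^ k := by
    calc 2 ^ a * (2 * c + 1) * 2 ^ (k - a) = (2 ^ a * 2 ^ (k - a)) * (2 * c + 1) := by ring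
      _ = 2 ^ k * (2 * c + 1) := by rw [h2k]
      _ = 2 ^ (k + 1) * c + 2 ^ k := by ring
  rw [← pow_mul, hexp, pow_add, pow_mul, ← hox, pow_orderOf_eq_one, one_pow, one_mul]

/-- the cyclic groups generated by `x` and `ρ x` meet trivially -/
theorem l2_disj [Finite T] {ρ : MulAut T} (h : Fpf3 ρ) {x : T} {n : ℕ} (hox : orderOf x = 2 ^ n) :
    Subgroup.zpowers x ⊓ Subgroup.zpowers (ρ x) = ⊥ := by
  rcases Nat.eq_zero_or_pos n with h0 | h0
  · rw [h0, pow_zero, orderOf_eq_one_iff] at hox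
    rw [hox, Subgroup.zpowers_one_eq_bot, bot_inf_eq]
  obtain ⟨k, rfl⟩ : ∃ k, n = k + 1 := ⟨n - 1, by omega⟩
  have hoy : orderOf (ρ x) = 2 ^ (k + 1) := by rw [MulEquiv.orderOf_eq, hox]
  obtain ⟨z, hz⟩ : ∃ z, z = x ^ 2 ^ k := ⟨_, rfl⟩
  have hz1 : z ≠ 1 := by
    intro h1
    rw [hz] at h1
    have hd := orderOf_dvd_of_pow_eq_one h1
    rw [hox] at hd
    have hle := Nat.le_of_dvd (by positivity) hd
    rw [pow_succ] at hle
    have hpos : 0 < 2 ^ k := by positivity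
    omega
  have hz2 : z ^ 2 = 1 := by
    rw [hz, ← pow_mul, ← pow_succ, ← hox]; exact pow_orderOf_eq_one x
  rw [eq_bot_iff]
  intro w hw
  rw [Subgroup.mem_bot]
  by_contra hw1
  obtain ⟨hwx, hwy⟩ := hw
  obtain ⟨j, hj⟩ := l2_aux_invol hoy hwy hw1
  have hρz : ρ z = w ^ j := by rw [hj, hz, map_pow]
  have hρz_mem : ρ z ∈ Subgroup.zpowers x := by
    rw [hρz]; exact Subgroup.pow_mem _ hwx j
  have hρz1 : ρ z ≠ 1 := by
    intro h1
    apply hz1
    have : ρ z = ρ 1 := by rw [h1, map_one]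
    exact ρ.injective this
  obtain ⟨j', hj'⟩ := l2_aux_invol hox hρz_mem hρz1
  have hρz2 : (ρ z) ^ 2 = 1 := by rw [← map_pow, hz2, map_one]
  have hred : (ρ z) ^ j' = (ρ z) ^ (j' % 2) := by
    conv_lhs => rw [← Nat.div_add_mod j' 2, pow_add, pow_mul, hρz2, one_pow, one_mul]
  rw [hred, ← hz] at hj'
  rcases Nat.mod_two_eq_zero_or_one j' with h2 | h2
  · rw [h2, pow_zero] at hj'; exact hz1 hj'.symm
  · rw [h2, pow_one] at hj'; exact hz1 (h.fpf z hj')

/-- the homomorphism `(i, j) ↦ x ^ i * (ρ x) ^ j` is injective, with image in the closure of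
`{x, ρ x}` and containing `x` and `ρ x` -/
theorem l2_hom [Finite T] {ρ : MulAut T} (h : Fpf3 ρ) (hab : ∀ a b : T, a * b = b * a)
    {x : T} {n : ℕ} (hox : orderOf x = 2 ^ n) :
    ∃ f : Multiplicative (ZMod (2 ^ n)) × Multiplicative (ZMod (2 ^ n)) →* T,
      Function.Injective f ∧ (∀ u, f u ∈ Subgroup.closure {x, ρ x}) ∧
        x ∈ f.range ∧ ρ x ∈ f.range := by
  classical
  have : NeZero (2 ^ n) := ⟨by positivity⟩
  have hoy : orderOf (ρ x) = 2 ^ n := by rw [MulEquiv.orderOf_eq, hox]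
  have ha1 : x ^ 2 ^ n = 1 := by rw [← hox]; exact pow_orderOf_eq_one x
  have hb1 : (ρ x) ^ 2 ^ n = 1 := by rw [← hoy]; exact pow_orderOf_eq_one (ρ x)
  have hD := l2_disj h hox
  let fa : Multiplicative (ZMod (2 ^ n)) →* T :=
    AddMonoidHom.toMultiplicativeLeft (zmodPow (2 ^ n) x ha1)
  let fb : Multiplicative (ZMod (2 ^ n)) →* T :=
    AddMonoidHom.toMultiplicativeLeft (zmodPow (2 ^ n) (ρ x) hb1)
  have hfa : ∀ u, fa u = (zmodPow (2 ^ n) x ha1 u.toAdd).toMul := fun u => rfl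
  have hfb : ∀ u, fb u = (zmodPow (2 ^ n) (ρ x) hb1 u.toAdd).toMul := fun u => rfl
  have hfaA : ∀ u, fa u ∈ Subgroup.zpowers x := fun u => zmodPow_mem_zpowers _ x ha1 _
  have hfbB : ∀ u, fb u ∈ Subgroup.zpowers (ρ x) := fun u => zmodPow_mem_zpowers _ (ρ x) hb1 _
  have hc : ∀ u v, Commute (fa u) (fb v) := fun u v => hab _ _
  let f : Multiplicative (ZMod (2 ^ n)) × Multiplicative (ZMod (2 ^ n)) →* T :=
    MonoidHom.noncommCoprod fa fb hc
  have hf : ∀ uv, f uv = fa uv.1 * fb uv.2 := fun uv => rfl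
  refine ⟨f, ?_, ?_, ?_, ?_⟩
  · rw [injective_iff_map_eq_one]
    rintro ⟨u, v⟩ huv
    rw [hf] at huv
    simp only at huv
    have h1 : fa u = (fb v)⁻¹ := eq_inv_of_mul_eq_one_left huv
    have h2 : fa u ∈ Subgroup.zpowers x ⊓ Subgroup.zpowers (ρ x) :=
      ⟨hfaA u, by rw [h1]; exact Subgroup.inv_mem _ (hfbB v)⟩
    rw [hD, Subgroup.mem_bot] at h2
    have h3 : fb v = 1 := by rw [h2, one_mul] at huv; exact huv
    have hu : u.toAdd = 0 := zmodPow_eq_one (2 ^ n) x ha1 hox _ h2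
    have hv : v.toAdd = 0 := zmodPow_eq_one (2 ^ n) (ρ x) hb1 hoy _ h3
    apply Prod.ext
    · exact hu
    · exact hv
  · intro uv
    rw [hf]
    refine Subgroup.mul_mem _ ?_ ?_
    · have hle : Subgroup.zpowers x ≤ Subgroup.closure {x, ρ x} := by
        rw [Subgroup.zpowers_le]
        exact Subgroup.subset_closure (by simp)
      exact hle (hfaA _)
    · have hle : Subgroup.zpowers (ρ x) ≤ Subgroup.closure {x, ρ x} := by
        rw [Subgroup.zpowers_le]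
        exact Subgroup.subset_closure (by simp)
      exact hle (hfbB _)
  · refine ⟨(Multiplicative.ofAdd ((1 : ℕ) : ZMod (2 ^ n)), 1), ?_⟩
    rw [hf, hfa]
    simp only [toAdd_ofAdd, map_one, mul_one]
    rw [zmodPow_natCast, pow_one]
  · refine ⟨(1, Multiplicative.ofAdd ((1 : ℕ) : ZMod (2 ^ n))), ?_⟩
    rw [hf, hfb]
    simp only [toAdd_ofAdd, map_one, one_mul]
    rw [zmodPow_natCast, pow_one]

/-- L2: an abelian two-group generated by `x, ρ x` is homocyclic of rank two. -/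
theorem l2_homocyclic [Finite T] [Nontrivial T] (hT : IsPGroup 2 T) {ρ : MulAut T} (h : Fpf3 ρ)
    (hab : ∀ a b : T, a * b = b * a) (x : T) (hx : Subgroup.closure {x, ρ x} = ⊤) :
    ∃ n : ℕ, 1 ≤ n ∧
      Nonempty (T ≃* Multiplicative (ZMod (2 ^ n)) × Multiplicative (ZMod (2 ^ n))) := by
  classical
  obtain ⟨n, hox⟩ : ∃ n : ℕ, orderOf x = 2 ^ n := by
    obtain ⟨k, hk⟩ := hT x
    obtain ⟨n, -, hn⟩ := (Nat.dvd_prime_pow Nat.prime_two).mp (orderOf_dvd_of_pow_eq_one hk)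
    exact ⟨n, hn⟩
  have hx1 : x ≠ 1 := by
    rintro rfl
    rw [map_one, Set.pair_eq_singleton, Subgroup.closure_singleton_one] at hx
    exact bot_ne_top hx
  have hn : 1 ≤ n := by
    rcases Nat.eq_zero_or_pos n with h0 | h0
    · exfalso
      apply hx1
      rw [h0, pow_zero, orderOf_eq_one_iff] at hox
      exact hox
    · exact h0
  refine ⟨n, hn, ?_⟩
  obtain ⟨f, hinj, -, hxr, hyr⟩ := l2_hom h hab hox
  have hsurj : Function.Surjective f := by
    rw [← MonoidHom.range_eq_top, eq_top_iff, ← hx, Subgroup.closure_le]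
    rintro y (rfl | rfl)
    · exact hxr
    · exact hyr
  exact ⟨(MulEquiv.ofBijective f ⟨hinj, hsurj⟩).symm⟩

end Cfsg.Agent.Lib.Lead.Hx3
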