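import Mathlib
import Cfsg.Agent.Lib.Helper9.Hx3L2

set_option autoImplicit false

/-!
# S2933 / S1237 swarm, package L2': an abelian two-group with a fixed-point-free automorphism of
order three and at most four solutions of `x² = 1` is generated by `b, ρ b`
(paper: `notes/S2933_S1237_paper_lead.md`, L2').
-/

namespace Cfsg.Agent.Lib.Lead.Hx3

open Cfsg.Agent.Lib.Helper3.S64

universe u

/-- an abelian group of exponent dividing `2 ^ n` with at most four solutions of `x² = 1` has
order at most `4 ^ n` -/
theorem l2p_card_le : ∀ (n : ℕ) (B : Type u) [Group B] [Finite B],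
    (∀ a b : B, a * b = b * a) → (∀ b : B, b ^ 2 ^ n = 1) →
      Nat.card {x : B // x ^ 2 = 1} ≤ 4 → Nat.card B ≤ 4 ^ n := by
  intro n
  induction n with
  | zero =>
    intro B _ _ _ hexp _
    have : Subsingleton B := ⟨fun a b => by
      have h1 := hexp a
      have h2 := hexp b
      rw [pow_zero, pow_one] at h1 h2
      rw [h1, h2]⟩
    rw [Nat.card_of_subsingleton (1 : B)]
    simp
  | succ n ih =>
    intro B _ _ hab hexp hO
    let sq : B →* B :=
      { toFun := fun b => b ^ 2
        map_one' := one_pow 2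
        map_mul' := fun a b => Commute.mul_pow (hab a b) 2 }
    have hsq : ∀ b, sq b = b ^ 2 := fun b => rfl
    have hker : Nat.card sq.ker ≤ 4 := by
      have he : Nat.card sq.ker = Nat.card {x : B // x ^ 2 = 1} :=
        Nat.card_congr (Equiv.subtypeEquivRight (fun b => by rw [MonoidHom.mem_ker, hsq]))
      rw [he]; exact hO
    have hR : Nat.card sq.range ≤ 4 ^ n := by
      apply ih sq.range
      · intro a b
        exact Subtype.ext (hab _ _)
      · rintro ⟨y, b, rfl⟩
        apply Subtype.ext
        show (sq b) ^ 2 ^ n = 1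
        rw [hsq, ← pow_mul, ← pow_succ']
        exact hexp b
      · refine le_trans ?_ hO
        refine Nat.card_le_card_of_injective
          (fun y : {y : sq.range // y ^ 2 = 1} =>
            (⟨(y.1 : B), by
              have := congrArg Subtype.val y.2
              simpa using this⟩ : {x : B // x ^ 2 = 1})) ?_
        intro y y' hyy
        have h1 : ((y.1 : sq.range) : B) = ((y'.1 : sq.range) : B) :=
          congrArg (fun w : {x : B // x ^ 2 = 1} => (w : B)) hyy
        exact Subtype.ext (Subtype.ext h1)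
    have hmul : Nat.card sq.ker * Nat.card sq.range = Nat.card B := by
      rw [← Subgroup.index_ker]
      exact Subgroup.card_mul_index sq.ker
    rw [← hmul, pow_succ']
    exact Nat.mul_le_mul hker hR

variable {T : Type*} [Group T]

/-- L2': an abelian two-group with at most four solutions of `x² = 1` is generated by `b, ρ b`. -/
theorem l2p_two_gen [Finite T] (hT : IsPGroup 2 T) {ρ : MulAut T} (h : Fpf3 ρ)
    (hab : ∀ a b : T, a * b = b * a) (hO : Nat.card {x : T // x ^ 2 = 1} ≤ 4) :
    ∃ b : T, Subgroup.closure {b, ρ b} = ⊤ := by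
  classical
  have hord : ∀ y : T, ∃ m : ℕ, orderOf y = 2 ^ m := by
    intro y
    obtain ⟨k, hk⟩ := hT y
    obtain ⟨m, -, hm⟩ := (Nat.dvd_prime_pow Nat.prime_two).mp (orderOf_dvd_of_pow_eq_one hk)
    exact ⟨m, hm⟩
  obtain ⟨b, hb⟩ : ∃ b : T, ∀ y : T, orderOf y ≤ orderOf b :=
    Finite.exists_max (fun y : T => orderOf y)
  obtain ⟨n, hob⟩ := hord b
  have hexp : ∀ y : T, y ^ 2 ^ n = 1 := by
    intro y
    obtain ⟨m, hm⟩ := hord y
    have hle : 2 ^ m ≤ 2 ^ n := by rw [← hm, ← hob]; exact hb y
    have hmn : m ≤ n := (Nat.pow_le_pow_iff_right (by norm_num)).mp hle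
    rw [← orderOf_dvd_iff_pow_eq_one, hm]
    exact pow_dvd_pow 2 hmn
  have hcard : Nat.card T ≤ 4 ^ n := l2p_card_le n T hab hexp hO
  obtain ⟨f, hinj, hmem, -, -⟩ := l2_hom h hab hob
  refine ⟨b, ?_⟩
  have hN : Nat.card (Multiplicative (ZMod (2 ^ n))) = 2 ^ n := by
    rw [Nat.card_congr Multiplicative.toAdd]
    exact Nat.card_zmod _
  have hNN : Nat.card (Multiplicative (ZMod (2 ^ n)) × Multiplicative (ZMod (2 ^ n))) = 4 ^ n := by
    rw [Nat.card_prod, hN, ← mul_pow]
    norm_num
  have h1 : 4 ^ n ≤ Nat.card (Subgroup.closure {b, ρ b}) := by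
    rw [← hNN]
    exact Nat.card_le_card_of_injective
      (fun u => (⟨f u, hmem u⟩ : Subgroup.closure {b, ρ b}))
      (fun u v huv => hinj (congrArg Subtype.val huv))
  exact Subgroup.eq_top_of_le_card _ (hcard.trans h1)

end Cfsg.Agent.Lib.Lead.Hx3
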