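import Mathlib
import Cfsg.Agent.Lib.Helper2.OrthCfB
import Cfsg.Agent.Lib.Helper2.OrthNdJ
import Cfsg.Agent.Lib.Lead.TSO_CNT
import Cfsg.Agent.Lib.Helper9.GSpInv0

/-!
# S5974 board, PK-R2E: isometric involutions in characteristic 2
-/

set_option autoImplicit false

namespace Cfsg.Agent.Lib.Helper2.OrthCf

open Module QuadraticMap
open Cfsg.Agent.Lib.Helper2.MaxTS2 Cfsg.Agent.Lib.Helper2.OrthEl Cfsg.Agent.Lib.Helper2.OrthNd
open Cfsg.Agent.H9SemiInv

section r2e_basic

variable {F : Type*} [Field F] {V : Type*} [AddCommGroup V] [Module F V]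
variable {Q : QuadraticForm F V} {y : V →ₗ[F] V}

theorem r2e_neg_eq (h2 : (2 : F) = 0) (x : V) : -x = x := by
  have : (2 : F) • x = 0 := by rw [h2, zero_smul]
  rw [two_smul] at this
  exact neg_eq_of_add_eq_zero_left this

theorem r2e_sub_eq_add (h2 : (2 : F) = 0) (a b : V) : a - b = a + b := by
  rw [sub_eq_add_neg, r2e_neg_eq h2]

theorem r2e_polar_iso (hiso : ∀ v, Q (y v) = Q v) (u v : V) :
    polar (⇑Q) (y u) (y v) = polar (⇑Q) u v := by
  unfold polar
  rw [← map_add, hiso, hiso, hiso]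

theorem r2e_polar_self (h2 : (2 : F) = 0) (x : V) : polar (⇑Q) x x = 0 := by
  rw [QuadraticMap.polar_self, two_smul, ← two_mul, h2, zero_mul]

theorem r2e_adj (hiso : ∀ v, Q (y v) = Q v) (hy : ∀ v, y (y v) = v) (u v : V) :
    polar (⇑Q) (y u - u) v = polar (⇑Q) u (y v - v) := by
  rw [polar_sub_left, polar_sub_right]
  have h1 := r2e_polar_iso (Q := Q) hiso u (y v)
  rw [hy] at h1
  rw [h1]

theorem r2e_Q_N (h2 : (2 : F) = 0) (hiso : ∀ v, Q (y v) = Q v) (u : V) :
    Q (y u - u) = polar (⇑Q) u (y u - u) := by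
  rw [r2e_sub_eq_add h2, QuadraticMap.map_add Q (y u) u, hiso, polar_add_right, r2e_polar_self h2,
    add_zero, polar_comm]
  have : Q u + Q u = 0 := by rw [← two_mul, h2, zero_mul]
  rw [this, zero_add]

theorem r2e_NN (h2 : (2 : F) = 0) (hy : ∀ v, y (y v) = v) (v : V) :
    y (y v - v) - (y v - v) = 0 := by
  rw [map_sub, hy]
  have := r2e_neg_eq h2 (y v - v)
  rw [neg_sub] at this
  rw [this, sub_self]

/-- global version of `r2e_neg` -/
theorem r2e_neg_top [FiniteDimensional F V] (h2 : (2 : F) = 0)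
    (hQ : (polarBilin Q).Nondegenerate) (hiso : ∀ v, Q (y v) = Q v) (hy : ∀ v, y (y v) = v)
    (hfix : ∀ v, y v = v → Q v = 0) : 4 ∣ finrank F V := by
  set N : V →ₗ[F] V := y - LinearMap.id with hN
  have hNv : ∀ v, N v = y v - v := fun v => by
    rw [hN, LinearMap.sub_apply, LinearMap.id_apply]
  have hK : IsTS Q (LinearMap.ker N) := by
    intro v hv
    apply hfix
    rw [LinearMap.mem_ker, hNv] at hv
    exact sub_eq_zero.1 hv
  have d1 := two_mul_finrank_le_of_isTS hQ (ndeg_top hQ) hK le_top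
  rw [finrank_top] at d1
  have hRK : LinearMap.range N ≤ LinearMap.ker N := by
    rintro _ ⟨v, rfl⟩
    rw [LinearMap.mem_ker, hNv, hNv]
    exact r2e_NN h2 hy v
  have d2 := Submodule.finrank_mono hRK
  have d3 := LinearMap.finrank_range_add_finrank_ker N
  -- the alternating form
  set β : LinearMap.BilinForm F V := LinearMap.BilinForm.compRight (polarBilin Q) N with hβ
  have hβv : ∀ u v, β u v = polar (⇑Q) u (N v) := fun u v => rfl
  have hβalt : β.IsAlt := by
    intro u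
    rw [hβv, hNv, ← r2e_Q_N h2 hiso]
    apply hfix
    have := r2e_NN h2 hy u
    exact sub_eq_zero.1 this
  have hker : LinearMap.ker β = LinearMap.ker N := by
    ext u
    rw [LinearMap.mem_ker, LinearMap.mem_ker]
    constructor
    · intro hu
      apply hQ.1
      intro v
      have h1 := LinearMap.congr_fun hu v
      rw [hβv, hNv, ← r2e_adj hiso hy, ← hNv] at h1
      exact h1
    · intro hu
      ext v
      rw [hβv, hNv, ← r2e_adj hiso hy, ← hNv, hu]
      simp
  have hev := Cfsg.Agent.Lib.Helper9.H9AltForm.even_finrank_sub_ker hβalt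
  rw [hker] at hev
  obtain ⟨s, hs⟩ := hev
  exact ⟨s, by omega⟩

/-- in characteristic 2 two vectors with nonzero polar product span a nondegenerate plane -/
theorem r2e_plane (h2 : (2 : F) = 0) {e f : V} (hef : polar (⇑Q) e f ≠ 0) :
    NDeg Q (Submodule.span F {e, f}) ∧ finrank F (Submodule.span F {e, f}) = 2 := by
  have hfe : polar (⇑Q) f e ≠ 0 := by rw [polar_comm]; exact hef
  constructor
  · unfold NDeg
    rw [Submodule.disjoint_def]
    intro x hx hx'
    obtain ⟨a, b, rfl⟩ := Submodule.mem_span_pair.1 hx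
    rw [mem_perp_iff] at hx'
    have h1 := hx' e (Submodule.subset_span (by simp))
    have h3 := hx' f (Submodule.subset_span (by simp))
    rw [polar_add_right, polar_smul_right, polar_smul_right, r2e_polar_self h2, smul_zero,
      zero_add, smul_eq_mul] at h1
    rw [polar_add_right, polar_smul_right, polar_smul_right, r2e_polar_self h2, smul_zero,
      add_zero, smul_eq_mul] at h3
    have hb : b = 0 := (mul_eq_zero.1 h1).resolve_right hef
    have ha : a = 0 := (mul_eq_zero.1 h3).resolve_right hfe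
    rw [ha, hb, zero_smul, zero_smul, add_zero]
  · have hli : LinearIndependent F ![e, f] := by
      rw [LinearIndependent.pair_iff]
      intro s t hst
      have h1 : polar (⇑Q) e (s • e + t • f) = 0 := by rw [hst]; exact polar_zero_right Q e
      have h3 : polar (⇑Q) f (s • e + t • f) = 0 := by rw [hst]; exact polar_zero_right Q f
      rw [polar_add_right, polar_smul_right, polar_smul_right, r2e_polar_self h2, smul_zero,
        zero_add, smul_eq_mul] at h1
      rw [polar_add_right, polar_smul_right, polar_smul_right, r2e_polar_self h2, smul_zero,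
        add_zero, smul_eq_mul] at h3
      exact ⟨(mul_eq_zero.1 h3).resolve_right hfe, (mul_eq_zero.1 h1).resolve_right hef⟩
    have h3 := finrank_span_eq_card hli
    rw [Fintype.card_fin] at h3
    have h4 : Set.range ![e, f] = {e, f} := by
      ext x
      simp only [Set.mem_range, Set.mem_insert_iff, Set.mem_singleton_iff]
      constructor
      · rintro ⟨i, rfl⟩
        fin_cases i
        · left; rfl
        · right; rfl
      · rintro (rfl | rfl)
        · exact ⟨0, rfl⟩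
        · exact ⟨1, rfl⟩
    rw [h4] at h3
    exact h3

theorem r2e_inv_pair {e f : V} (he : y e ∈ Submodule.span F {e, f})
    (hf : y f ∈ Submodule.span F {e, f}) : Inv y (Submodule.span F {e, f}) := by
  intro x hx
  obtain ⟨a, b, rfl⟩ := Submodule.mem_span_pair.1 hx
  rw [map_add, map_smul, map_smul]
  exact Submodule.add_mem _ (Submodule.smul_mem _ _ he) (Submodule.smul_mem _ _ hf)

/-- a nondegenerate plane containing a nonzero singular vector is of plus type -/
theorem r2e_plusS_plane {P : Submodule F V} (hdim : finrank F P = 2) {k : V} (hk : k ∈ P)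
    (hk0 : k ≠ 0) (hQk : Q k = 0) : PlusS Q P := by
  refine ⟨Submodule.span F {k}, ?_, ?_, ?_⟩
  · rw [Submodule.span_singleton_le_iff_mem]; exact hk
  · intro x hx
    obtain ⟨a, rfl⟩ := Submodule.mem_span_singleton.1 hx
    rw [QuadraticMap.map_smul, hQk, smul_zero]
  · rw [finrank_span_singleton hk0, hdim]

/-- the orthogonal complement of an invariant subspace inside an invariant subspace is invariant -/
theorem r2e_inv_inf_perp (hiso : ∀ v, Q (y v) = Q v) (hy : ∀ v, y (y v) = v)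
    {M P : Submodule F V} (hM : Inv y M) (hP : Inv y P) : Inv y (M ⊓ perp Q P) := by
  intro x hx
  refine ⟨hM x hx.1, ?_⟩
  apply (mem_perp_iff P (y x)).2
  intro p hp
  have h1 := r2e_polar_iso (Q := Q) hiso (y p) x
  rw [hy] at h1
  rw [h1]
  exact (mem_perp_iff P x).1 hx.2 (y p) (hP p hp)

theorem r2e_inv_sup {A B : Submodule F V} (hA : Inv y A) (hB : Inv y B) : Inv y (A ⊔ B) := by
  intro w hw
  obtain ⟨a, ha, b, hb, rfl⟩ := Submodule.mem_sup.1 hw
  rw [map_add]
  exact Submodule.add_mem_sup (hA a ha) (hB b hb)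

/-- block of type A: a vector `u` with `Q (y u - u) ≠ 0` -/
theorem r2e_blockA (h2 : (2 : F) = 0) (hiso : ∀ v, Q (y v) = Q v) (hy : ∀ v, y (y v) = v)
    {M : Submodule F V} (hM : Inv y M) {u : V} (hu : u ∈ M) (hQu : Q (y u - u) ≠ 0) :
    ∃ P : Submodule F V, P ≤ M ∧ Inv y P ∧ NDeg Q P ∧ finrank F P = 2 := by
  have hpol : polar (⇑Q) u (y u - u) ≠ 0 := by rw [← r2e_Q_N h2 hiso]; exact hQu
  obtain ⟨h1, h3⟩ := r2e_plane (Q := Q) h2 hpol
  refine ⟨Submodule.span F {u, y u - u}, ?_, ?_, h1, h3⟩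
  · rw [Submodule.span_le]
    intro x hx
    rcases hx with rfl | rfl
    · exact hu
    · exact M.sub_mem (hM _ hu) hu
  · apply r2e_inv_pair
    · have : y u = u + (y u - u) := by abel
      rw [this]
      exact Submodule.add_mem _ (Submodule.subset_span (by simp)) (Submodule.subset_span (by simp))
    · rw [sub_eq_zero.1 (r2e_NN h2 hy u)]
      exact Submodule.subset_span (by simp)

end r2e_basic

section r2e_fin

variable {F : Type*} [Field F] [Finite F]
variable {V : Type*} [AddCommGroup V] [Module F V] [FiniteDimensional F V]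
variable {Q : QuadraticForm F V} {y : V →ₗ[F] V}

omit [Finite F] [FiniteDimensional F V] in
theorem r2e_pair_le_perp {a b c d : V} (h1 : polar (⇑Q) c a = 0) (h3 : polar (⇑Q) c b = 0)
    (h4 : polar (⇑Q) d a = 0) (h5 : polar (⇑Q) d b = 0) :
    Submodule.span F {a, b} ≤ perp Q (Submodule.span F {c, d}) := by
  intro x hx
  obtain ⟨s, t, rfl⟩ := Submodule.mem_span_pair.1 hx
  rw [mem_perp_iff]
  intro p hp
  obtain ⟨s', t', rfl⟩ := Submodule.mem_span_pair.1 hp
  rw [polar_add_left, polar_add_right, polar_add_right, polar_smul_left, polar_smul_left,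
    polar_smul_left, polar_smul_left, polar_smul_right, polar_smul_right, polar_smul_right,
    polar_smul_right, h1, h3, h4, h5]
  simp

/-- block of type B: `Q (y u - u) = 0` on `M` but `y ≠ 1` on `M` -/
theorem r2e_blockB (h2 : (2 : F) = 0) (hiso : ∀ v, Q (y v) = Q v) (hy : ∀ v, y (y v) = v)
    {M : Submodule F V} (hMi : Inv y M) (hM : NDeg Q M)
    (halt : ∀ u ∈ M, Q (y u - u) = 0) {u₀ : V} (hu₀ : u₀ ∈ M) (hNu₀ : y u₀ - u₀ ≠ 0) :
    ∃ L : Submodule F V, L ≤ M ∧ Inv y L ∧ NDeg Q L ∧ finrank F L = 4 ∧ PlusS Q L := by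
  have hNM : ∀ u ∈ M, y u - u ∈ M := fun u hu => M.sub_mem (hMi u hu) hu
  have hNN : ∀ v, y (y v - v) = y v - v := fun v => sub_eq_zero.1 (r2e_NN h2 hy v)
  have hbeta : ∀ u ∈ M, polar (⇑Q) u (y u - u) = 0 := by
    intro u hu
    rw [← r2e_Q_N h2 hiso]
    exact halt u hu
  -- polar (N a) (N b) = 0
  have hNNpol : ∀ a b : V, polar (⇑Q) (y a - a) (y b - b) = 0 := by
    intro a b
    rw [r2e_adj hiso hy, r2e_NN h2 hy]
    exact polar_zero_right Q a
  obtain ⟨n₀, hn₀⟩ : ∃ n₀, n₀ = y u₀ - u₀ := ⟨_, rfl⟩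
  rw [← hn₀] at hNu₀
  have hn₀M : n₀ ∈ M := by rw [hn₀]; exact hNM u₀ hu₀
  have hyn₀ : y n₀ = n₀ := by rw [hn₀]; exact hNN u₀
  obtain ⟨u', hu', hb⟩ : ∃ u' ∈ M, polar (⇑Q) u' n₀ ≠ 0 := by
    by_contra hcon
    push Not at hcon
    apply hNu₀
    apply (Submodule.disjoint_def.1 hM) n₀ hn₀M
    rw [mem_perp_iff]
    exact hcon
  obtain ⟨b, hbdef⟩ : ∃ b, b = polar (⇑Q) u' n₀ := ⟨_, rfl⟩
  rw [← hbdef] at hb
  obtain ⟨n', hn'⟩ : ∃ n', n' = y u' - u' := ⟨_, rfl⟩
  have hn'M : n' ∈ M := by rw [hn']; exact hNM u' hu'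
  have hyn' : y n' = n' := by rw [hn']; exact hNN u'
  obtain ⟨t, ht⟩ : ∃ t, t = polar (⇑Q) u₀ u' / b := ⟨_, rfl⟩
  obtain ⟨u'', hu''def⟩ : ∃ u'', u'' = u' + t • n' := ⟨_, rfl⟩
  have hu''M : u'' ∈ M := by rw [hu''def]; exact M.add_mem hu' (M.smul_mem _ hn'M)
  have hn'' : y u'' - u'' = n' := by
    rw [hu''def, map_add, map_smul, hyn', hn']
    abel
  have hnn : polar (⇑Q) n' n₀ = 0 := by rw [hn', hn₀]; exact hNNpol u' u₀
  have f1 : polar (⇑Q) u₀ n₀ = 0 := by rw [hn₀]; exact hbeta u₀ hu₀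
  have f2 : polar (⇑Q) u'' n' = 0 := by
    have := hbeta u'' hu''M
    rwa [hn''] at this
  have f6 : polar (⇑Q) u'' n₀ = b := by
    rw [hu''def, polar_add_left, polar_smul_left, hnn, smul_zero, add_zero, hbdef]
  have f3 : polar (⇑Q) u₀ n' = b := by
    have h1 := hbeta (u₀ + u'') (M.add_mem hu₀ hu''M)
    have h3 : y (u₀ + u'') - (u₀ + u'') = n₀ + n' := by
      rw [map_add, ← hn'', hn₀]; abel
    rw [h3, polar_add_left, polar_add_right, polar_add_right, f1, f2, f6, zero_add,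
      add_zero] at h1
    have h4 : polar (⇑Q) u₀ n' = -b := eq_neg_of_add_eq_zero_left h1
    rw [h4]
    have : (2 : F) * b = 0 := by rw [h2, zero_mul]
    linear_combination -this
  have hb0 : b ≠ 0 := hb
  have f4 : polar (⇑Q) u₀ u'' = 0 := by
    rw [hu''def, polar_add_right, polar_smul_right, f3, ht, smul_eq_mul, div_mul_cancel₀ _ hb0,
      ← two_mul, h2, zero_mul]
  have hQn' : Q n' = 0 := by rw [← hn'']; exact halt u'' hu''M
  have hQn₀ : Q n₀ = 0 := by rw [hn₀]; exact halt u₀ hu₀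
  have hn'0 : n' ≠ 0 := by
    intro h0
    rw [h0, polar_zero_right] at f3
    exact hb0 f3.symm
  obtain ⟨hP₁, hP₁d⟩ := r2e_plane (Q := Q) h2 (e := u₀) (f := n') (by rw [f3]; exact hb0)
  obtain ⟨hP₂, hP₂d⟩ := r2e_plane (Q := Q) h2 (e := u'') (f := n₀) (by rw [f6]; exact hb0)
  have horth : Submodule.span F {u₀, n'} ≤ perp Q (Submodule.span F {u'', n₀}) := by
    apply r2e_pair_le_perp
    · rw [polar_comm]; exact f4
    · exact f2
    · rw [polar_comm]; exact f1
    · rw [polar_comm]; exact hnn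
  obtain ⟨g1, g2, g3⟩ := plusS_sup hP₁ hP₂ horth (by rw [hP₁d]; exact even_two)
    (by rw [hP₂d]; exact even_two)
  have hpl₁ : PlusS Q (Submodule.span F {u₀, n'}) :=
    r2e_plusS_plane hP₁d (Submodule.subset_span (by simp)) hn'0 hQn'
  have hpl₂ : PlusS Q (Submodule.span F {u'', n₀}) :=
    r2e_plusS_plane hP₂d (Submodule.subset_span (by simp)) hNu₀ hQn₀
  refine ⟨Submodule.span F {u₀, n'} ⊔ Submodule.span F {u'', n₀}, ?_, ?_, g1, ?_, ?_⟩
  · apply sup_le
    · rw [Submodule.span_le]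
      intro x hx
      rcases hx with rfl | rfl
      · exact hu₀
      · exact hn'M
    · rw [Submodule.span_le]
      intro x hx
      rcases hx with rfl | rfl
      · exact hu''M
      · exact hn₀M
  · intro x hx
    obtain ⟨x₁, hx₁, x₂, hx₂, rfl⟩ := Submodule.mem_sup.1 hx
    obtain ⟨a, a', rfl⟩ := Submodule.mem_span_pair.1 hx₁
    obtain ⟨c, c', rfl⟩ := Submodule.mem_span_pair.1 hx₂
    have e1 : y u₀ = u₀ + n₀ := by rw [hn₀]; abel
    have e2 : y u'' = u'' + n' := by rw [← hn'']; abel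
    have m1 : u₀ ∈ Submodule.span F {u₀, n'} ⊔ Submodule.span F {u'', n₀} :=
      Submodule.mem_sup_left (Submodule.subset_span (by simp))
    have m2 : n' ∈ Submodule.span F {u₀, n'} ⊔ Submodule.span F {u'', n₀} :=
      Submodule.mem_sup_left (Submodule.subset_span (by simp))
    have m3 : u'' ∈ Submodule.span F {u₀, n'} ⊔ Submodule.span F {u'', n₀} :=
      Submodule.mem_sup_right (Submodule.subset_span (by simp))
    have m4 : n₀ ∈ Submodule.span F {u₀, n'} ⊔ Submodule.span F {u'', n₀} :=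
      Submodule.mem_sup_right (Submodule.subset_span (by simp))
    rw [map_add, map_add, map_add, map_smul, map_smul, map_smul, map_smul, e1, e2, hyn',
      hyn₀]
    exact Submodule.add_mem _
      (Submodule.add_mem _ (Submodule.smul_mem _ _ (Submodule.add_mem _ m1 m4))
        (Submodule.smul_mem _ _ m2))
      (Submodule.add_mem _ (Submodule.smul_mem _ _ (Submodule.add_mem _ m3 m2))
        (Submodule.smul_mem _ _ m4))
  · rw [g2, hP₁d, hP₂d]
  · exact g3.2 ⟨fun _ => hpl₂, fun _ => hpl₁⟩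

/-- block of type C: `y = 1` on `M` -/
theorem r2e_blockC {M : Submodule F V} (hM : NDeg Q M) (hfixM : ∀ u ∈ M, y u = u)
    (hev : Even (finrank F M)) (h6 : 6 ≤ finrank F M) :
    ∃ L : Submodule F V, L ≤ M ∧ Inv y L ∧ NDeg Q L ∧ finrank F L = 4 ∧ PlusS Q L := by
  obtain ⟨W, hWM, hW, hWd, hWp⟩ := exists_ndeg_sub' hM hev 4 (by norm_num) (by decide)
    (by omega) True
  refine ⟨W, hWM, ?_, hW, hWd, hWp.2 trivial⟩
  intro x hx
  rw [hfixM x (hWM hx)]
  exact hx

/-- one step: a good block of dimension 4 or an invariant nondegenerate plane -/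
theorem r2e_step (h2 : (2 : F) = 0) (hiso : ∀ v, Q (y v) = Q v) (hy : ∀ v, y (y v) = v)
    {M : Submodule F V} (hMi : Inv y M) (hM : NDeg Q M) (hev : Even (finrank F M))
    (h6 : 6 ≤ finrank F M) :
    (∃ L : Submodule F V, L ≤ M ∧ Inv y L ∧ NDeg Q L ∧ finrank F L = 4 ∧ PlusS Q L) ∨
    (∃ P : Submodule F V, P ≤ M ∧ Inv y P ∧ NDeg Q P ∧ finrank F P = 2) := by
  by_cases hA : ∃ u ∈ M, Q (y u - u) ≠ 0
  · obtain ⟨u, hu, hQu⟩ := hA
    exact Or.inr (r2e_blockA h2 hiso hy hMi hu hQu)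
  · push Not at hA
    left
    by_cases hB : ∃ u₀ ∈ M, y u₀ - u₀ ≠ 0
    · obtain ⟨u₀, hu₀, hN⟩ := hB
      exact r2e_blockB h2 hiso hy hMi hM hA hu₀ hN
    · push Not at hB
      exact r2e_blockC hM (fun u hu => sub_eq_zero.1 (hB u hu)) hev h6

end r2e_fin


section r2e_main

variable {F : Type*} [Field F] [Finite F]
variable {V : Type*} [AddCommGroup V] [Module F V] [FiniteDimensional F V]
variable {Q : QuadraticForm F V} {y : V →ₗ[F] V}

/-- characteristic 2, negative direction: if every fixed vector of the isometric involution `y` is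
singular, every invariant nondegenerate subspace has dimension divisible by `4` -/
theorem r2e_neg (h2 : (2 : F) = 0) (hiso : ∀ v, Q (y v) = Q v) (hy : ∀ v, y (y v) = v)
    (hfix : ∀ v, y v = v → Q v = 0) (W : Submodule F V) (hWinv : Inv y W) (hW : NDeg Q W) :
    4 ∣ finrank F W := by
  have hW' : ∀ x ∈ W, y x ∈ W := hWinv
  apply r2e_neg_top (Q := Q.comp W.subtype) (y := y.restrict hW') h2 hW.restrict
  · intro v
    rw [QuadraticMap.comp_apply, QuadraticMap.comp_apply, Submodule.subtype_apply,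
      Submodule.subtype_apply, LinearMap.coe_restrict_apply]
    exact hiso _
  · intro v
    apply Subtype.ext
    rw [LinearMap.coe_restrict_apply, LinearMap.coe_restrict_apply]
    exact hy _
  · intro v hv
    rw [QuadraticMap.comp_apply, Submodule.subtype_apply]
    apply hfix
    have := congrArg Subtype.val hv
    rwa [LinearMap.coe_restrict_apply] at this

omit [Finite F] in
/-- the relative orthogonal complement of an invariant nondegenerate subspace -/
theorem r2e_peel (hQ : (polarBilin Q).Nondegenerate) (hiso : ∀ v, Q (y v) = Q v)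
    (hy : ∀ v, y (y v) = v) {M L : Submodule F V} (hMi : Inv y M) (hM : NDeg Q M) (hLM : L ≤ M)
    (hLi : Inv y L) (hL : NDeg Q L) :
    Inv y (M ⊓ perp Q L) ∧ NDeg Q (M ⊓ perp Q L) ∧
      finrank F ↥(M ⊓ perp Q L) + finrank F L = finrank F M :=
  ⟨r2e_inv_inf_perp hiso hy hMi hLi, ndeg_inf_perp hM hLM hL, finrank_inf_perp hQ hM hLM⟩

/-- the type of the relative orthogonal complement -/
theorem r2e_peel_plus (hQ : (polarBilin Q).Nondegenerate) {M L : Submodule F V} (hM : NDeg Q M)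
    (hLM : L ≤ M) (hL : NDeg Q L) (hevM : Even (finrank F M)) (hevL : Even (finrank F L))
    (hpM : PlusS Q M) (hpL : PlusS Q L) : PlusS Q (M ⊓ perp Q L) := by
  have hM' := ndeg_inf_perp hM hLM hL
  have hd := finrank_inf_perp hQ hM hLM
  have hev' : Even (finrank F ↥(M ⊓ perp Q L)) := by
    obtain ⟨a, ha⟩ := hevM
    obtain ⟨b, hb⟩ := hevL
    exact ⟨a - b, by omega⟩
  obtain ⟨g1, g2, g3⟩ := plusS_sup hM' hL inf_le_right hev' hevL
  have hsup : (M ⊓ perp Q L) ⊔ L = M := by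
    apply Submodule.eq_of_le_of_finrank_eq (sup_le inf_le_left hLM)
    rw [g2, hd]
  rw [hsup] at g3
  exact (g3.1 hpM).2 hpL

/-- orthogonal sum of invariant plus-type subspaces -/
theorem r2e_join {A B : Submodule F V} (hAi : Inv y A) (hBi : Inv y B) (hA : NDeg Q A)
    (hB : NDeg Q B) (horth : A ≤ perp Q B) (hevA : Even (finrank F A))
    (hevB : Even (finrank F B)) (hpA : PlusS Q A) (hpB : PlusS Q B) :
    Inv y (A ⊔ B) ∧ NDeg Q (A ⊔ B) ∧ finrank F ↥(A ⊔ B) = finrank F A + finrank F B ∧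
      PlusS Q (A ⊔ B) := by
  obtain ⟨g1, g2, g3⟩ := plusS_sup hA hB horth hevA hevB
  exact ⟨r2e_inv_sup hAi hBi, g1, g2, g3.2 ⟨fun _ => hpB, fun _ => hpA⟩⟩

/-- two orthogonal invariant nondegenerate planes of the same type -/
theorem r2e_two_planes {M P P' : Submodule F V} (hPM : P ≤ M) (hP'M : P' ≤ M) (hPi : Inv y P)
    (hP'i : Inv y P') (hP : NDeg Q P) (hP' : NDeg Q P') (hd : finrank F P = 2)
    (hd' : finrank F P' = 2) (horth : P' ≤ perp Q P) (hty : PlusS Q P' ↔ PlusS Q P) :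
    ∃ L : Submodule F V, L ≤ M ∧ Inv y L ∧ NDeg Q L ∧ finrank F L = 4 ∧ PlusS Q L := by
  obtain ⟨g1, g2, g3⟩ := plusS_sup hP' hP horth (by rw [hd']; exact even_two)
    (by rw [hd]; exact even_two)
  exact ⟨P' ⊔ P, sup_le hP'M hPM, r2e_inv_sup hP'i hPi, g1, by rw [g2, hd, hd'], g3.2 hty⟩

/-- (L4): an invariant nondegenerate subspace of even dimension at least 10 contains an invariant
nondegenerate plus-type subspace of dimension 4 -/
theorem r2e_L4 (h2 : (2 : F) = 0) (hQ : (polarBilin Q).Nondegenerate)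
    (hiso : ∀ v, Q (y v) = Q v) (hy : ∀ v, y (y v) = v)
    {M : Submodule F V} (hMi : Inv y M) (hM : NDeg Q M) (hev : Even (finrank F M))
    (h10 : 10 ≤ finrank F M) :
    ∃ L : Submodule F V, L ≤ M ∧ Inv y L ∧ NDeg Q L ∧ finrank F L = 4 ∧ PlusS Q L := by
  rcases r2e_step h2 hiso hy hMi hM hev (by omega) with hL | ⟨P₁, hP₁M, hP₁i, hP₁, hP₁d⟩
  · exact hL
  obtain ⟨hM₁i, hM₁, hM₁d⟩ := r2e_peel hQ hiso hy hMi hM hP₁M hP₁i hP₁
  have hev₁ : Even (finrank F ↥(M ⊓ perp Q P₁)) := by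
    obtain ⟨a, ha⟩ := hev
    exact ⟨a - 1, by omega⟩
  rcases r2e_step h2 hiso hy hM₁i hM₁ hev₁ (by omega) with
    ⟨L, hL, hrest⟩ | ⟨P₂, hP₂M, hP₂i, hP₂, hP₂d⟩
  · exact ⟨L, hL.trans inf_le_left, hrest⟩
  obtain ⟨hM₂i, hM₂, hM₂d⟩ := r2e_peel hQ hiso hy hM₁i hM₁ hP₂M hP₂i hP₂
  have hev₂ : Even (finrank F ↥((M ⊓ perp Q P₁) ⊓ perp Q P₂)) := by
    obtain ⟨a, ha⟩ := hev₁
    exact ⟨a - 1, by omega⟩
  rcases r2e_step h2 hiso hy hM₂i hM₂ hev₂ (by omega) with
    ⟨L, hL, hrest⟩ | ⟨P₃, hP₃M, hP₃i, hP₃, hP₃d⟩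
  · exact ⟨L, hL.trans (inf_le_left.trans inf_le_left), hrest⟩
  have h21 : P₂ ≤ perp Q P₁ := hP₂M.trans inf_le_right
  have h32 : P₃ ≤ perp Q P₂ := hP₃M.trans inf_le_right
  have h31 : P₃ ≤ perp Q P₁ := hP₃M.trans (inf_le_left.trans inf_le_right)
  have hP₂M' : P₂ ≤ M := hP₂M.trans inf_le_left
  have hP₃M' : P₃ ≤ M := hP₃M.trans (inf_le_left.trans inf_le_left)
  by_cases c1 : (PlusS Q P₂ ↔ PlusS Q P₁)
  · exact r2e_two_planes hP₁M hP₂M' hP₁i hP₂i hP₁ hP₂ hP₁d hP₂d h21 c1
  by_cases c2 : (PlusS Q P₃ ↔ PlusS Q P₁)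
  · exact r2e_two_planes hP₁M hP₃M' hP₁i hP₃i hP₁ hP₃ hP₁d hP₃d h31 c2
  have c3 : (PlusS Q P₃ ↔ PlusS Q P₂) := by tauto
  exact r2e_two_planes hP₂M' hP₃M' hP₂i hP₃i hP₂ hP₃ hP₂d hP₃d h32 c3

omit [Finite F] [FiniteDimensional F V] in
/-- a nonzero vector of a subspace of positive dimension -/
theorem r2e_exists_ne_zero {T : Submodule F V} (hT : 0 < finrank F T) : ∃ k ∈ T, k ≠ 0 := by
  by_contra hcon
  push Not at hcon
  have : T = ⊥ := (Submodule.eq_bot_iff T).2 hcon
  rw [this, finrank_bot] at hT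
  exact lt_irrefl _ hT

/-- (L2): if the rank of `y - 1` is not `d`, there is a pointwise fixed hyperbolic plane -/
theorem r2e_L2 (h2 : (2 : F) = 0) (hQ : (polarBilin Q).Nondegenerate)
    (hiso : ∀ v, Q (y v) = Q v) (hy : ∀ v, y (y v) = v) (d : ℕ)
    (hdim : finrank F V = 2 * d) (hV : PlusS Q ⊤)
    (hs : finrank F ↥(LinearMap.range (y - 1)) ≠ d) :
    ∃ H : Submodule F V, (∀ x ∈ H, y x = x) ∧ NDeg Q H ∧ finrank F H = 2 ∧ PlusS Q H := by
  obtain ⟨N, hN⟩ : ∃ N : V →ₗ[F] V, N = y - 1 := ⟨_, rfl⟩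
  have hNv : ∀ v, N v = y v - v := fun v => by
    rw [hN, LinearMap.sub_apply, Module.End.one_apply]
  rw [← hN] at hs
  obtain ⟨R, hR⟩ : ∃ R, R = LinearMap.range N := ⟨_, rfl⟩
  obtain ⟨U, hU⟩ : ∃ U, U = LinearMap.ker N := ⟨_, rfl⟩
  have hmemU : ∀ x, x ∈ U ↔ y x = x := by
    intro x
    rw [hU, LinearMap.mem_ker, hNv, sub_eq_zero]
  have hRU : R ≤ U := by
    rw [hR, hU]
    rintro _ ⟨v, rfl⟩
    rw [LinearMap.mem_ker, hNv, hNv]
    exact r2e_NN h2 hy v
  have hUperp : U = perp Q R := by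
    ext x
    rw [hU, hR, LinearMap.mem_ker, mem_perp_iff]
    constructor
    · rintro hx _ ⟨v, rfl⟩
      rw [hNv, r2e_adj hiso hy, ← hNv, hx]
      exact polar_zero_right Q v
    · intro hx
      apply hQ.1
      intro v
      have h1 := hx (N v) ⟨v, rfl⟩
      rw [hNv, r2e_adj hiso hy, ← hNv, polar_comm] at h1
      exact h1
  have hperpU : perp Q U = R := by rw [hUperp, perp_perp hQ]
  have d3 := LinearMap.finrank_range_add_finrank_ker N
  rw [← hR, ← hU, hdim] at d3
  rw [← hR] at hs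
  have d2 := Submodule.finrank_mono hRU
  -- a complement of R in U
  obtain ⟨C₀, hC₀⟩ := Submodule.exists_isCompl R
  obtain ⟨C, hCdef⟩ : ∃ C, C = C₀ ⊓ U := ⟨_, rfl⟩
  have hCU : C ≤ U := by rw [hCdef]; exact inf_le_right
  have hRC : Disjoint R C := by
    rw [hCdef]
    exact hC₀.disjoint.mono_right inf_le_left
  have hsup : R ⊔ C = U := by
    have := sup_inf_assoc_of_le C₀ hRU
    rw [hC₀.sup_eq_top, top_inf_eq] at this
    rw [hCdef, ← this]
  have hCd : finrank F R + finrank F C = finrank F U := by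
    have := Submodule.finrank_sup_add_finrank_inf_eq R C
    rw [hsup, hRC.eq_bot, finrank_bot, add_zero] at this
    exact this.symm
  have hCR : C ≤ perp Q R := by rw [← hUperp]; exact hCU
  have hC : NDeg Q C := by
    unfold NDeg
    rw [Submodule.disjoint_def]
    intro x hx hx'
    apply (Submodule.disjoint_def.1 hRC) x _ hx
    rw [← hperpU, mem_perp_iff]
    intro u hu
    rw [← hsup] at hu
    obtain ⟨r, hr, c, hc, rfl⟩ := Submodule.mem_sup.1 hu
    rw [polar_add_left, (mem_perp_iff R x).1 (hCR hx) r hr, (mem_perp_iff C x).1 hx' c hc,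
      add_zero]
  -- a singular vector of U outside R
  obtain ⟨k, hkU, hkR, hQk⟩ : ∃ k ∈ U, k ∉ R ∧ Q k = 0 := by
    have key : ∀ T : Submodule F V, T ≤ C → IsTS Q T → finrank F T = 1 →
        ∃ k ∈ U, k ∉ R ∧ Q k = 0 := by
      intro T hTC hT hTd
      obtain ⟨k, hk, hk0⟩ := r2e_exists_ne_zero (T := T) (by omega)
      refine ⟨k, hCU (hTC hk), ?_, hT k hk⟩
      intro hkR
      exact hk0 ((Submodule.disjoint_def.1 hRC) k hkR (hTC hk))
    by_cases h3 : 3 ≤ finrank F C
    · obtain ⟨T, hTC, hT, hTd⟩ := exists_isTS_of_ndeg hC 1 (by omega)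
      exact key T hTC hT hTd
    · have hC2 : finrank F C = 2 := by omega
      by_cases hRs : ∃ r ∈ R, Q r ≠ 0
      · obtain ⟨r, hr, hQr⟩ := hRs
        obtain ⟨c, hc, hc0⟩ := r2e_exists_ne_zero (T := C) (by omega)
        have : CharP F 2 := CharTwo.of_one_ne_zero_of_two_eq_zero one_ne_zero h2
        obtain ⟨l, hl⟩ := FiniteField.isSquare_of_char_two (ringChar.eq F 2) (Q c / Q r)
        refine ⟨c + l • r, U.add_mem (hCU hc) (U.smul_mem _ (hRU hr)), ?_, ?_⟩
        · intro hk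
          apply hc0
          apply (Submodule.disjoint_def.1 hRC) c _ hc
          have : c = (c + l • r) - l • r := by abel
          rw [this]
          exact R.sub_mem hk (R.smul_mem _ hr)
        · have hcr : polar (⇑Q) c r = 0 := by
            rw [polar_comm]
            exact (mem_perp_iff R c).1 (hCR hc) r hr
          rw [QuadraticMap.map_add Q c (l • r), QuadraticMap.map_smul, polar_smul_right, hcr,
            smul_zero, add_zero, smul_eq_mul, ← hl, div_mul_cancel₀ _ hQr, ← two_mul, h2,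
            zero_mul]
      · push Not at hRs
        have := Fintype.ofFinite F
        have hty := Cfsg.Agent.Lib.Helper7.TSO.cnt_type hQ (Z := R) (N := C) hRs hC hCR
          (by omega) (by rw [hC2]; exact even_two)
        have hCp : PlusS Q C :=
          (plusS_iff_isPlus C).2 (hty.2 (Cfsg.Agent.Lib.Helper7.TSO.cnt_plusS_top.1 hV))
        obtain ⟨T, hTC, hT, hTd⟩ := hCp
        exact key T hTC hT (by omega)
  -- the partner
  obtain ⟨k', hk'U, hkk'⟩ : ∃ k' ∈ U, polar (⇑Q) k' k ≠ 0 := by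
    by_contra hcon
    push Not at hcon
    apply hkR
    rw [← hperpU, mem_perp_iff]
    exact hcon
  have hpol : polar (⇑Q) k k' ≠ 0 := by rw [polar_comm]; exact hkk'
  obtain ⟨hH, hHd⟩ := r2e_plane (Q := Q) h2 hpol
  have hk0 : k ≠ 0 := by
    intro h0
    apply hkR
    rw [h0]
    exact R.zero_mem
  refine ⟨Submodule.span F {k, k'}, ?_, hH, hHd,
    r2e_plusS_plane hHd (Submodule.subset_span (by simp)) hk0 hQk⟩
  intro x hx
  obtain ⟨a, b, rfl⟩ := Submodule.mem_span_pair.1 hx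
  rw [map_add, map_smul, map_smul, (hmemU k).1 hkU, (hmemU k').1 hk'U]

/-- the even case: invariant nondegenerate plus-type subspaces of dimension `4 b` -/
theorem r2e_even (h2 : (2 : F) = 0) (hQ : (polarBilin Q).Nondegenerate)
    (hiso : ∀ v, Q (y v) = Q v) (hy : ∀ v, y (y v) = v) :
    ∀ (b : ℕ) (M : Submodule F V) (μ : ℕ), Inv y M → NDeg Q M → PlusS Q M →
      finrank F M = 2 * μ → 4 * b < μ →
      ∃ W : Submodule F V, W ≤ M ∧ Inv y W ∧ NDeg Q W ∧ finrank F W = 4 * b ∧ PlusS Q W := by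
  intro b
  induction b with
  | zero =>
    intro M μ _ _ _ _ _
    refine ⟨⊥, bot_le, ?_, ndeg_bot, by simp, ⟨⊥, le_rfl, ?_, by simp⟩⟩
    · intro x hx
      rw [(Submodule.mem_bot F).1 hx, map_zero]
      exact Submodule.zero_mem _
    · intro w hw
      rw [(Submodule.mem_bot F).1 hw, map_zero]
  | succ b ih =>
    intro M μ hMi hM hMp hMd hb
    have hMev : Even (finrank F M) := by rw [hMd]; exact even_two_mul _
    obtain ⟨L, hLM, hLi, hL, hLd, hLp⟩ := r2e_L4 h2 hQ hiso hy hMi hM hMev (by omega)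
    have hLev : Even (finrank F L) := by rw [hLd]; exact ⟨2, rfl⟩
    obtain ⟨hM'i, hM', hM'd⟩ := r2e_peel hQ hiso hy hMi hM hLM hLi hL
    have hM'p := r2e_peel_plus hQ hM hLM hL hMev hLev hMp hLp
    obtain ⟨W', hW'M, hW'i, hW', hW'd, hW'p⟩ :=
      ih (M ⊓ perp Q L) (μ - 2) hM'i hM' hM'p (by omega) (by omega)
    obtain ⟨g1, g2, g3, g4⟩ := r2e_join hW'i hLi hW' hL (hW'M.trans inf_le_right)
      (by rw [hW'd]; exact ⟨2 * b, by ring⟩) hLev hW'p hLp
    exact ⟨W' ⊔ L, sup_le (hW'M.trans inf_le_left) hLM, g1, g2, by rw [g3, hW'd, hLd]; ring, g4⟩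

/-- characteristic 2, positive direction: an isometric involution of a plus-type space of dimension
`2d` fixes a nondegenerate plus-type subspace of dimension `2a < d` whenever `a` is even, or `d` is
odd and the rank of `y - 1` is even -/
theorem r2e_pos (h2 : (2 : F) = 0) (hQ : (polarBilin Q).Nondegenerate)
    (hiso : ∀ v, Q (y v) = Q v) (hy : ∀ v, y (y v) = v) (d a : ℕ)
    (hdim : finrank F V = 2 * d) (hV : PlusS Q ⊤) (ha0 : 0 < a) (had : 2 * a < d)
    (hcond : Even a ∨ (Odd d ∧ Even (finrank F ↥(LinearMap.range (y - 1))))) :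
    ∃ W : Submodule F V, Inv y W ∧ NDeg Q W ∧ finrank F W = 2 * a ∧ PlusS Q W := by
  have hTi : Inv y (⊤ : Submodule F V) := fun x _ => Submodule.mem_top
  have hT := ndeg_top (Q := Q) hQ
  have hTd : finrank F (⊤ : Submodule F V) = 2 * d := by rw [finrank_top, hdim]
  rcases Nat.even_or_odd a with hae | hao
  · obtain ⟨b, hb⟩ := hae
    obtain ⟨W, -, hWi, hW, hWd, hWp⟩ := r2e_even h2 hQ hiso hy b ⊤ d hTi hT hV hTd (by omega)
    exact ⟨W, hWi, hW, by rw [hWd]; omega, hWp⟩
  · have hc : Odd d ∧ Even (finrank F ↥(LinearMap.range (y - 1))) := by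
      rcases hcond with h | h
      · exact absurd h (Nat.not_even_iff_odd.2 hao)
      · exact h
    obtain ⟨hdo, hse⟩ := hc
    have hs : finrank F ↥(LinearMap.range (y - 1)) ≠ d := by
      intro h
      rw [h] at hse
      exact (Nat.not_even_iff_odd.2 hdo) hse
    obtain ⟨H, hHfix, hH, hHd, hHp⟩ := r2e_L2 h2 hQ hiso hy d hdim hV hs
    have hHi : Inv y H := fun x hx => by rw [hHfix x hx]; exact hx
    have hHev : Even (finrank F H) := by rw [hHd]; exact even_two
    obtain ⟨hM'i, hM', hM'd⟩ := r2e_peel hQ hiso hy hTi hT le_top hHi hH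
    have hM'p := r2e_peel_plus hQ hT le_top hH (by rw [hTd]; exact even_two_mul _) hHev hV hHp
    obtain ⟨b, hb⟩ := hao
    obtain ⟨W', hW'M, hW'i, hW', hW'd, hW'p⟩ :=
      r2e_even h2 hQ hiso hy b (⊤ ⊓ perp Q H) (d - 1) hM'i hM' hM'p (by omega) (by omega)
    obtain ⟨g1, g2, g3, g4⟩ := r2e_join hW'i hHi hW' hH (hW'M.trans inf_le_right)
      (by rw [hW'd]; exact ⟨2 * b, by ring⟩) hHev hW'p hHp
    exact ⟨W' ⊔ H, g1, g2, by rw [g3, hW'd, hHd]; omega, g4⟩

end r2e_main

end Cfsg.Agent.Lib.Helper2.OrthCf
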