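import Mathlib
import Cfsg.Agent.Lib.Helper9.Elus7

set_option autoImplicit false

/-! The cyclotomic model with the bound on its fixed space. -/

namespace Cfsg.Agent.Lib.Helper9.H9Elus

open Module Polynomial
open Cfsg.Agent.H9SemiInv

section transport
variable {F : Type*} [Field F] {V₀ : Type*} [AddCommGroup V₀] [Module F V₀]
variable {n : ℕ} (A : Matrix (Fin n) (Fin n) F) (e : V₀ ≃ₗ[F] (Fin n → F)) (y₀ : V₀ →ₗ[F] V₀)
  (h : ∀ v, Matrix.toLin' A (e v) = e (y₀ v))

include h

theorem finrank_ker_sub_one_intertwine :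
    finrank F (LinearMap.ker (aeval (Matrix.toLin' A) (X - 1 : F[X])))
      = finrank F (LinearMap.ker (aeval y₀ (X - 1 : F[X]))) := by
  have h1 : LinearMap.ker (aeval (Matrix.toLin' A) (X - 1 : F[X]))
      = (LinearMap.ker (aeval y₀ (X - 1 : F[X]))).map (e : V₀ →ₗ[F] (Fin n → F)) := by
    ext w
    rw [LinearMap.mem_ker, Submodule.mem_map]
    constructor
    · intro hw
      refine ⟨e.symm w, ?_, by simp⟩
      rw [LinearMap.mem_ker]
      rw [map_sub, aeval_X, map_one, LinearMap.sub_apply, Module.End.one_apply, sub_eq_zero] at hw ⊢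
      apply e.injective
      rw [← h, LinearEquiv.apply_symm_apply, hw]
    · rintro ⟨v, hv, rfl⟩
      rw [LinearMap.mem_ker] at hv
      rw [map_sub, aeval_X, map_one, LinearMap.sub_apply, Module.End.one_apply, sub_eq_zero] at hv ⊢
      show Matrix.toLin' A (e v) = e v
      rw [h, hv]
  rw [h1]
  exact LinearEquiv.finrank_map_eq e _

end transport

section modelCyc
variable {F : Type*} [Field F] [Fintype F] {p : ℕ} [Fact p.Prime] [CharP F p]

theorem model_cyclotomic_ker (r : ℕ) [Fact r.Prime] (hrp : r ≠ p) (n : ℕ)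
    (hi : 2 ≤ orderOf ((Fintype.card F : ℕ) : ZMod r))
    (hin : orderOf ((Fintype.card F : ℕ) : ZMod r) ≤ n) :
    ∃ x : Matrix.SpecialLinearGroup (Fin n) F,
      ((x ^ r : Matrix.SpecialLinearGroup (Fin n) F) : Matrix (Fin n) (Fin n) F) = 1 ∧
      (∀ c' : F, (x : Matrix (Fin n) (Fin n) F) ≠ c' • 1) ∧
      finrank F (LinearMap.ker (aeval (Matrix.toLin' (x : Matrix (Fin n) (Fin n) F))
        (X - 1 : F[X]))) ≤ n % orderOf ((Fintype.card F : ℕ) : ZMod r) := by
  classical
  have hr : r.Prime := Fact.out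
  set i := orderOf ((Fintype.card F : ℕ) : ZMod r) with hidef
  -- an irreducible factor of the cyclotomic polynomial
  have hnu : ¬ IsUnit (cyclotomic r F) := by
    intro hu
    have := natDegree_eq_zero_of_isUnit hu
    rw [natDegree_cyclotomic, Nat.totient_prime hr] at this
    have := hr.two_le
    omega
  obtain ⟨g, hg, hgd⟩ := WfDvdMonoid.exists_irreducible_factor hnu (cyclotomic_ne_zero r F)
  have hgdeg : g.natDegree = i := natDegree_of_dvd_cyclotomic r hrp g hg hgd
  haveI : Fact (Irreducible g) := ⟨hg⟩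
  have hg0 : g ≠ 0 := hg.ne_zero
  haveI : FiniteDimensional F (AdjoinRoot g) := (AdjoinRoot.powerBasis hg0).finite
  have hK : finrank F (AdjoinRoot g) = i := by
    rw [(AdjoinRoot.powerBasis hg0).finrank, AdjoinRoot.powerBasis_dim, hgdeg]
  have hipos : 0 < i := by omega
  have hV₀ : finrank F ((Fin (n % i) → F) × (Fin (n / i) → AdjoinRoot g)) = n := by
    rw [Module.finrank_prod, Module.finrank_fin_fun, Module.finrank_pi_fintype]
    simp only [hK, Finset.sum_const, Finset.card_univ, Fintype.card_fin, smul_eq_mul]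
    rw [mul_comm]
    exact Nat.mod_add_div n i
  -- the root has order dividing r and is not in F
  have hroot : (AdjoinRoot.root g) ^ r = 1 := by
    have hdvd : g ∣ X ^ r - 1 := by
      rw [← cyclotomic_prime_mul_X_sub_one F r]
      exact Dvd.dvd.mul_right hgd _
    obtain ⟨s, hs⟩ := hdvd
    have h := congrArg (eval₂ (AdjoinRoot.of g) (AdjoinRoot.root g)) hs
    rw [eval₂_mul, AdjoinRoot.eval₂_root, zero_mul, eval₂_sub, eval₂_pow, eval₂_X, eval₂_one,
      sub_eq_zero] at h
    exact h
  have hrootF : ∀ c' : F, AdjoinRoot.root g ≠ algebraMap F (AdjoinRoot g) c' := by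
    intro c' h
    have h1 : AdjoinRoot.mk g X = AdjoinRoot.mk g (C c') := by
      rw [AdjoinRoot.mk_X, AdjoinRoot.mk_C, h, AdjoinRoot.algebraMap_eq]
    rw [AdjoinRoot.mk_eq_mk] at h1
    have h2 := natDegree_le_of_dvd h1 (X_sub_C_ne_zero c')
    rw [natDegree_X_sub_C, hgdeg] at h2
    omega
  let L : (Fin (n / i) → AdjoinRoot g) →ₗ[F] (Fin (n / i) → AdjoinRoot g) :=
    Algebra.lsmul F F (Fin (n / i) → AdjoinRoot g) (AdjoinRoot.root g)
  have hL : L ^ r = 1 := by
    show (Algebra.lsmul F F (Fin (n / i) → AdjoinRoot g) (AdjoinRoot.root g)) ^ r = 1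
    rw [← map_pow, hroot, map_one]
  have hLapp : ∀ w : Fin (n / i) → AdjoinRoot g, L w = AdjoinRoot.root g • w := fun w => rfl
  let y₀ : ((Fin (n % i) → F) × (Fin (n / i) → AdjoinRoot g)) →ₗ[F]
      ((Fin (n % i) → F) × (Fin (n / i) → AdjoinRoot g)) :=
    LinearMap.prodMap (1 : (Fin (n % i) → F) →ₗ[F] (Fin (n % i) → F)) L
  have hy₀ : y₀ ^ r = 1 := by
    show (LinearMap.prodMap (1 : (Fin (n % i) → F) →ₗ[F] (Fin (n % i) → F)) L) ^ r = 1
    rw [prodMap_pow', one_pow, hL, LinearMap.prodMap_one]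
  have hy₀app : ∀ v, y₀ v = (v.1, AdjoinRoot.root g • v.2) := fun v => rfl
  -- the determinant
  have hnd : ¬ r ∣ Fintype.card F - 1 := by
    intro h
    have := (orderOf_eq_one_iff_dvd r (Fintype.card F) Fintype.card_pos).mpr h
    omega
  have hdet₀ : LinearMap.det y₀ = 1 := by
    have h1 : (LinearMap.det y₀) ^ r = 1 := by
      rw [← map_pow, hy₀, map_one]
    have h0 : LinearMap.det y₀ ≠ 0 := by
      intro h
      rw [h, zero_pow hr.ne_zero] at h1
      exact zero_ne_one h1
    have h2 := FiniteField.pow_card_sub_one_eq_one _ h0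
    have hcop : Nat.Coprime r (Fintype.card F - 1) := (Nat.Prime.coprime_iff_not_dvd hr).mpr hnd
    exact (pow_eq_one_iff_of_coprime hcop).mp ⟨h1, h2⟩
  obtain ⟨x, e, hint⟩ := exists_SL_of_det_eq_one n hV₀ y₀ hdet₀
  have hb : 0 < n / i := Nat.div_pos hin hipos
  -- the fixed space
  have hker : finrank F (LinearMap.ker (aeval y₀ (X - 1 : F[X]))) ≤ n % i := by
    let φ : LinearMap.ker (aeval y₀ (X - 1 : F[X])) →ₗ[F] (Fin (n % i) → F) :=
      (LinearMap.fst F _ _).comp (Submodule.subtype _)
    have hφ : Function.Injective φ := by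
      rw [← LinearMap.ker_eq_bot, LinearMap.ker_eq_bot']
      rintro ⟨v, hvk⟩ hv
      have hv1 : v.1 = 0 := hv
      have hv2 : aeval y₀ (X - 1 : F[X]) v = 0 := LinearMap.mem_ker.mp hvk
      rw [map_sub, aeval_X, map_one, LinearMap.sub_apply, Module.End.one_apply,
        hy₀app, sub_eq_zero] at hv2
      have hv3 : AdjoinRoot.root g • v.2 = v.2 := congrArg Prod.snd hv2
      have hv4 : v.2 = 0 := by
        funext j
        have h5 := congrFun hv3 j
        rw [Pi.smul_apply, smul_eq_mul] at h5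
        have h6 : (AdjoinRoot.root g - 1) * v.2 j = 0 := by
          rw [sub_mul, one_mul, h5, sub_self]
        rcases mul_eq_zero.mp h6 with h7 | h7
        · exfalso
          apply hrootF 1
          rw [map_one]
          exact sub_eq_zero.mp h7
        · exact h7
      apply Subtype.ext
      exact Prod.ext hv1 hv4
    have := LinearMap.finrank_le_finrank_of_injective hφ
    rwa [Module.finrank_fin_fun] at this
  refine ⟨x, ?_, ?_, ?_⟩
  · rw [Matrix.SpecialLinearGroup.coe_pow]
    have := matrix_eq_smul_of_intertwine _ e (y₀ ^ r) (intertwine_pow _ e y₀ hint r) 1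
      (by rw [hy₀, one_smul])
    rw [this, one_smul]
  · intro c' hx
    have h1 := smul_of_matrix_eq_smul _ e y₀ hint c' hx
    have h2 := congrArg (fun f => f ((0 : Fin (n % i) → F), (fun _ => (1 : AdjoinRoot g)))) h1
    simp only [hy₀app, LinearMap.smul_apply, Module.End.one_apply] at h2
    have h3 := congrFun (congrArg Prod.snd h2) ⟨0, hb⟩
    simp only [Prod.smul_snd, Pi.smul_apply, smul_eq_mul, mul_one] at h3
    apply hrootF c'
    rw [h3, Algebra.algebraMap_eq_smul_one]
  · rw [finrank_ker_sub_one_intertwine _ e y₀ hint]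
    exact hker

end modelCyc

end Cfsg.Agent.Lib.Helper9.H9Elus
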