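import Mathlib
import Cfsg.Agent.Lib.Helper8.SBS3
import Cfsg.Agent.Lib.Helper4.S3HH

/-!
# S4305, case (a): group-side support lemmas

* an involution normalizing a finite subgroup without fixed points inverts it;
* the elements of `closure {s, t}` when `s³ = 1`, `t² = 1`, `t s = s⁻¹ t`;
* the action of the setwise stabilizer of an additive subgroup `W ≤ V` on `W`.
-/

set_option autoImplicit false

namespace Cfsg.Agent.Lib.Helper9.S3A2

universe u w

section inverts

variable {T : Type w} [Group T]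

/-- an involution normalizing the finite subgroup `N` without fixed points on `N` inverts `N` -/
theorem inverts_of_fpf_sub (N : Subgroup T) [Finite N] {t : T} (htt : t * t = 1)
    (hN : ∀ x ∈ N, t * x * t⁻¹ ∈ N)
    (hC : ∀ x ∈ N, t * x * t⁻¹ = x → x = 1) : ∀ z ∈ N, t * z * t⁻¹ = z⁻¹ := by
  let φ : N → N := fun x => ⟨(x : T)⁻¹ * (t * (x : T) * t⁻¹),
    N.mul_mem (N.inv_mem x.2) (hN _ x.2)⟩
  have hinj : Function.Injective φ := by
    intro x y hxy
    have h1 : (x : T)⁻¹ * (t * (x : T) * t⁻¹) = (y : T)⁻¹ * (t * (y : T) * t⁻¹) :=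
      congrArg Subtype.val hxy
    have h2 : t * ((y : T) * (x : T)⁻¹) * t⁻¹ = (y : T) * (x : T)⁻¹ := by
      have e1 : t * ((y : T) * (x : T)⁻¹) * t⁻¹ =
          (t * (y : T) * t⁻¹) * (t * (x : T) * t⁻¹)⁻¹ := by group
      have e2 : t * (y : T) * t⁻¹ = (y : T) * ((y : T)⁻¹ * (t * (y : T) * t⁻¹)) := by group
      rw [e1, e2, ← h1]; group
    have h3 := hC _ (N.mul_mem y.2 (N.inv_mem x.2)) h2
    apply Subtype.ext
    have : (x : T) = ((y : T) * (x : T)⁻¹)⁻¹ * (y : T) := by group
    rw [this, h3]; group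
  have hsurj : Function.Surjective φ := Finite.injective_iff_surjective.mp hinj
  intro z hz
  obtain ⟨x, hx⟩ := hsurj ⟨z, hz⟩
  have hx' : (x : T)⁻¹ * (t * (x : T) * t⁻¹) = z := congrArg Subtype.val hx
  rw [← hx']
  have : t * ((x : T)⁻¹ * (t * (x : T) * t⁻¹)) * t⁻¹ = (t * (x : T)⁻¹ * t⁻¹) * ((t * t) * x * (t⁻¹ * t⁻¹)) := by
    group
  have h1 : t * t * (x : T) * (t⁻¹ * t⁻¹) = x := by
    rw [htt, one_mul, ← mul_inv_rev, htt, inv_one, mul_one]
  rw [this, h1]
  group

end inverts

section s3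

variable {T : Type w} [Group T]

theorem t_mul_s_pow {s t : T} (hts : t * s = s⁻¹ * t) (k : ℕ) : t * s ^ k = (s⁻¹) ^ k * t := by
  induction k with
  | zero => simp
  | succ k ih => rw [pow_succ, ← mul_assoc, ih, mul_assoc, hts, ← mul_assoc, ← pow_succ]

/-- the elements of `⟨s, t⟩ ≅` (a quotient of) `S₃` -/
theorem mem_closure_s3 {s t : T} (hs3 : s ^ 3 = 1) (ht2 : t ^ 2 = 1) (hts : t * s = s⁻¹ * t)
    {a : T} (ha : a ∈ Subgroup.closure ({s, t} : Set T)) :
    a = 1 ∨ a = s ∨ a = s⁻¹ ∨ a = t ∨ a = s * t * s⁻¹ ∨ a = s⁻¹ * t * s := by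
  have hsinv : s⁻¹ = s ^ 2 := by
    have : s ^ 2 * s = 1 := by rw [← pow_succ]; exact hs3
    exact (eq_inv_of_mul_eq_one_left this).symm ▸ rfl
  have htinv : t⁻¹ = t := by
    have : t * t = 1 := by rw [← pow_two]; exact ht2
    exact inv_eq_of_mul_eq_one_left this
  -- normal form s^i t^j
  have hnf : ∃ i j : ℕ, a = s ^ i * t ^ j := by
    induction ha using Subgroup.closure_induction with
    | mem x hx =>
      rcases hx with rfl | hx
      · exact ⟨1, 0, by simp⟩
      · rw [Set.mem_singleton_iff] at hx; subst hx; exact ⟨0, 1, by simp⟩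
    | one => exact ⟨0, 0, by simp⟩
    | mul x y _ _ hx hy =>
      obtain ⟨i, j, rfl⟩ := hx
      obtain ⟨k, l, rfl⟩ := hy
      -- t^j s^k = s^(k') t^j
      have hcomm : ∀ j : ℕ, ∃ k' : ℕ, t ^ j * s ^ k = s ^ k' * t ^ j := by
        intro j
        induction j with
        | zero => exact ⟨k, by simp⟩
        | succ j ih =>
          obtain ⟨k', hk'⟩ := ih
          refine ⟨2 * k', ?_⟩
          rw [pow_succ', mul_assoc, hk', ← mul_assoc, t_mul_s_pow hts, hsinv, ← pow_mul, mul_assoc,
            ← pow_succ']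
      obtain ⟨k', hk'⟩ := hcomm j
      refine ⟨i + k', j + l, ?_⟩
      rw [pow_add, pow_add]
      calc s ^ i * t ^ j * (s ^ k * t ^ l) = s ^ i * (t ^ j * s ^ k) * t ^ l := by group
        _ = s ^ i * (s ^ k' * t ^ j) * t ^ l := by rw [hk']
        _ = s ^ i * s ^ k' * (t ^ j * t ^ l) := by group
    | inv x _ hx =>
      obtain ⟨i, j, rfl⟩ := hx
      have hcomm : ∀ j : ℕ, ∃ k' : ℕ, t ^ j * s ^ (2 * i) = s ^ k' * t ^ j := by
        intro j
        induction j with
        | zero => exact ⟨2 * i, by simp⟩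
        | succ j ih =>
          obtain ⟨k', hk'⟩ := ih
          refine ⟨2 * k', ?_⟩
          rw [pow_succ', mul_assoc, hk', ← mul_assoc, t_mul_s_pow hts, hsinv, ← pow_mul, mul_assoc,
            ← pow_succ']
      obtain ⟨k', hk'⟩ := hcomm j
      refine ⟨k', j, ?_⟩
      rw [mul_inv_rev, ← inv_pow, ← inv_pow, htinv, hsinv, ← pow_mul, hk']
  obtain ⟨i, j, rfl⟩ := hnf
  have hi : s ^ i = s ^ (i % 3) := by
    conv_lhs => rw [← Nat.mod_add_div i 3, pow_add, pow_mul, hs3, one_pow, mul_one]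
  have hj : t ^ j = t ^ (j % 2) := by
    conv_lhs => rw [← Nat.mod_add_div j 2, pow_add, pow_mul, ht2, one_pow, mul_one]
  rw [hi, hj]
  have hi3 : i % 3 < 3 := Nat.mod_lt _ (by norm_num)
  have hj2 : j % 2 < 2 := Nat.mod_lt _ (by norm_num)
  -- s t s⁻¹ = s² t,  s⁻¹ t s = s t
  have e1 : s * t * s⁻¹ = s ^ 2 * t := by
    have : t * s⁻¹ = s * t := by
      symm; rw [eq_mul_inv_iff_mul_eq, mul_assoc, hts, mul_inv_cancel_left]
    rw [mul_assoc, this, ← mul_assoc, ← pow_two]
  have e2 : s⁻¹ * t * s = s * t := by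
    rw [mul_assoc, hts, ← mul_assoc, hsinv, ← pow_two, ← pow_mul]
    have : s ^ (2 * 2) = s := by
      have : s ^ (2 * 2) = s ^ 3 * s := by rw [← pow_succ]
      rw [this, hs3, one_mul]
    rw [this]
  interval_cases h : i % 3 <;> interval_cases h' : j % 2
  · left; simp
  · right; right; right; left; simp
  · right; left; simp
  · right; right; right; right; right; rw [e2]; simp
  · right; right; left; rw [hsinv]; simp
  · right; right; right; right; left; rw [e1]; simp

end s3

section stab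

variable {V : Type u} [AddCommGroup V] {T : Type w} [Group T] [DistribMulAction T V]

/-- the setwise stabilizer of an additive subgroup -/
def stabW (W : AddSubgroup V) : Subgroup T where
  carrier := {g | ∀ w : V, w ∈ W ↔ g • w ∈ W}
  mul_mem' := by
    intro a b ha hb w
    rw [mul_smul]
    exact (hb w).trans (ha _)
  one_mem' := by intro w; rw [one_smul]
  inv_mem' := by
    intro a ha w
    have := ha (a⁻¹ • w)
    rw [smul_inv_smul] at this
    exact this.symm

theorem mem_stabW {W : AddSubgroup V} {g : T} : g ∈ stabW (T := T) W ↔ ∀ w : V, w ∈ W ↔ g • w ∈ W :=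
  Iff.rfl

/-- an element of a subgroup all of whose elements map `W` into itself stabilizes `W` -/
theorem mem_stabW_of_subgroup {W : AddSubgroup V} (K : Subgroup T)
    (hK : ∀ x ∈ K, ∀ w ∈ W, x • w ∈ W) {g : T} (hg : g ∈ K) : g ∈ stabW (T := T) W := by
  intro w
  constructor
  · exact hK g hg w
  · intro h
    have := hK g⁻¹ (K.inv_mem hg) _ h
    rwa [inv_smul_smul] at this

instance stabAction (W : AddSubgroup V) : DistribMulAction (stabW (T := T) W) W where
  smul g w := ⟨(g : T) • (w : V), (g.2 w).1 w.2⟩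
  one_smul w := by apply Subtype.ext; exact one_smul T (w : V)
  mul_smul g h w := by apply Subtype.ext; exact mul_smul (g : T) (h : T) (w : V)
  smul_zero g := by apply Subtype.ext; exact smul_zero (g : T)
  smul_add g v w := by apply Subtype.ext; exact smul_add (g : T) (v : V) (w : V)

@[simp] theorem stab_smul_coe (W : AddSubgroup V) (g : stabW (T := T) W) (w : W) :
    ((g • w : W) : V) = (g : T) • (w : V) := rfl

end stab

section hhsub

variable {V : Type u} [AddCommGroup V] [Finite V] {T : Type w} [Group T] [Finite T]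
  [DistribMulAction T V]

/-- **(HH) on a submodule** invariant under `P` and `a` only (skeleton name `hh_comm_sub`). -/
theorem hh_comm_sub {p q s : ℕ} (hp : p.Prime) (hq : q.Prime) (hs : s.Prime)
    (hV : ∀ v : V, p • v = 0)
    (hpq : p ≠ q) (hps : p ≠ s) (hqs : q ≠ s) (hq2 : q ≠ 2)
    (P : Subgroup T) (hP : IsPGroup q P) (a : T) (has : a ^ s = 1)
    (haP : ∀ x ∈ P, a * x * a⁻¹ ∈ P)
    (W : AddSubgroup V) (hWP : ∀ x ∈ P, ∀ w ∈ W, x • w ∈ W) (hWa : ∀ w ∈ W, a • w ∈ W)
    (hfix : ∀ w ∈ W, a • w = w → w = 0) :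
    ∀ x ∈ P, ∀ w ∈ W, (a * x * a⁻¹ * x⁻¹) • w = w := by
  have hPle : ∀ x ∈ P, x ∈ stabW (T := T) W := fun x hx => mem_stabW_of_subgroup P hWP hx
  have hapow : ∀ k : ℕ, ∀ w ∈ W, a ^ k • w ∈ W := by
    intro k
    induction k with
    | zero => intro w hw; simpa using hw
    | succ k ih => intro w hw; rw [pow_succ', mul_smul]; exact hWa _ (ih w hw)
  have ha : a ∈ stabW (T := T) W := by
    intro w
    constructor
    · exact hWa w
    · intro h
      have h1 := hapow (s - 1) _ h
      have h2 : a ^ (s - 1) * a = 1 := by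
        rw [← pow_succ, Nat.sub_add_cancel hs.one_le, has]
      rwa [← mul_smul, h2, one_smul] at h1
  let T₀ := stabW (T := T) W
  let P₀ : Subgroup T₀ := P.subgroupOf T₀
  let a₀ : T₀ := ⟨a, ha⟩
  have hP₀ : IsPGroup q P₀ := by
    intro g
    obtain ⟨k, hk⟩ := hP ⟨(g : T₀), g.2⟩
    refine ⟨k, ?_⟩
    have h1 : ((g : T₀) : T) ^ q ^ k = 1 := by
      have := congrArg Subtype.val hk
      simpa using this
    apply Subtype.ext
    apply Subtype.ext
    simpa using h1
  have hmain := Cfsg.Agent.Lib.Helper4.S3HH.comm_acts_trivially (V := W) (T := T₀) hp hq hs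
    (by
      intro v
      apply Subtype.ext
      simpa using hV (v : V))
    hq2 hqs hpq hps P₀ hP₀ a₀
    (by apply Subtype.ext; simpa [a₀] using has)
    (by
      intro x hx
      rw [Subgroup.mem_subgroupOf] at hx ⊢
      simpa [a₀] using haP _ hx)
    (by
      intro v hv
      have h1 : a • (v : V) = v := congrArg Subtype.val hv
      apply Subtype.ext
      simpa using hfix v v.2 h1)
  intro x hx w hw
  have := hmain ⟨x, hPle x hx⟩ (by rw [Subgroup.mem_subgroupOf]; exact hx) ⟨w, hw⟩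
  exact congrArg Subtype.val this

end hhsub

end Cfsg.Agent.Lib.Helper9.S3A2
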