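import Mathlib
import Cfsg.Prelude.Def_FusionSystem
import Cfsg.Agent.Lib.Helper9.FusionBasic
import Cfsg.Agent.Lib.Helper9.FusionAut
import Cfsg.Agent.Lib.Helper9.FusionTransport
import Cfsg.Agent.Lib.Helper9.FusionAG1

set_option autoImplicit false

namespace Cfsg.Agent.Lib.Helper9

open Cfsg Cfsg.FusionSystem

variable {Ω : Type*} [Group Ω] {S : Subgroup Ω}

/-- An isomorphism between two subgroups which is a map of the system. -/
def IsFIso (F : FusionSystem S) {P Q : Subgroup Ω} (e : P ≃* Q) : Prop :=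
  Q.subtype.comp e.toMonoidHom ∈ F.Hom P

theorem IsFIso.le_left {F : FusionSystem S} {P Q : Subgroup Ω} {e : P ≃* Q} (he : IsFIso F e) : P ≤ S :=
  (F.le_of_mem he).1

theorem IsFIso.le_right {F : FusionSystem S} {P Q : Subgroup Ω} {e : P ≃* Q} (he : IsFIso F e) : Q ≤ S := by
  intro y hy
  have := (F.le_of_mem he).2 (e.symm ⟨y, hy⟩)
  simpa using this

theorem IsFIso.symm {F : FusionSystem S} {P Q : Subgroup Ω} {e : P ≃* Q} (he : IsFIso F e) :
    IsFIso F e.symm := by
  have hQ : Q.subtype ∈ F.Hom Q := fs_subtype_mem F he.le_right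
  refine fs_cancel_left F (φ := P.subtype.comp e.symm.toMonoidHom) he hQ (fun x => (e.symm x).2) ?_
  intro x
  show ((e (⟨(e.symm x : Ω), _⟩ : P) : Q) : Ω) = x
  simp

theorem IsFIso.trans {F : FusionSystem S} {P Q R : Subgroup Ω} {e : P ≃* Q} {e' : Q ≃* R}
    (he : IsFIso F e) (he' : IsFIso F e') : IsFIso F (e.trans e') := by
  have h := F.comp_mem he he' (fun x => (e x).2)
  have : (R.subtype.comp e'.toMonoidHom).comp
      ((Q.subtype.comp e.toMonoidHom).codRestrict Q (fun x => (e x).2)) =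
      R.subtype.comp (e.trans e').toMonoidHom := by
    ext x
    rfl
  rwa [this] at h

theorem isFIso_refl (F : FusionSystem S) {P : Subgroup Ω} (hP : P ≤ S) : IsFIso F (MulEquiv.refl P) := by
  have h := fs_subtype_mem F hP
  have : P.subtype.comp (MulEquiv.refl P).toMonoidHom = P.subtype := by ext x; rfl
  show P.subtype.comp (MulEquiv.refl P).toMonoidHom ∈ F.Hom P
  rwa [this]

theorem isFIso_of_mem_autGroup (F : FusionSystem S) {P : Subgroup Ω} (hP : P ≤ S) {α : MulAut P}
    (hα : α ∈ F.autGroup P) : IsFIso F (α : P ≃* P) := by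
  rw [mem_autGroup_iff F hP] at hα
  exact hα

theorem IsFIso.mem_autGroup {F : FusionSystem S} {P : Subgroup Ω} {α : MulAut P}
    (hα : IsFIso F (α : P ≃* P)) : α ∈ F.autGroup P := by
  rw [mem_autGroup_iff F hα.le_left]
  exact hα

theorem IsFIso.isConj {F : FusionSystem S} {P Q : Subgroup Ω} {e : P ≃* Q} (he : IsFIso F e) :
    F.IsConj P Q := by
  refine ⟨_, he, ?_⟩
  ext y
  constructor
  · rintro ⟨x, rfl⟩
    exact (e x).2
  · intro hy
    exact ⟨e.symm ⟨y, hy⟩, by simp⟩

/-- A map of the system with image `Q` gives an isomorphism of the system onto `Q`. -/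
theorem exists_isFIso_of_mem (F : FusionSystem S) {P Q : Subgroup Ω} {φ : P →* Ω} (hφ : φ ∈ F.Hom P)
    (hr : φ.range = Q) : ∃ e : P ≃* Q, IsFIso F e ∧ ∀ x : P, ((e x : Q) : Ω) = φ x := by
  subst hr
  refine ⟨fsEquiv F hφ, ?_, fun x => rfl⟩
  have : φ.range.subtype.comp (fsEquiv F hφ).toMonoidHom = φ := by
    ext x; rfl
  show φ.range.subtype.comp (fsEquiv F hφ).toMonoidHom ∈ F.Hom P
  rwa [this]

theorem exists_isFIso_of_isConj (F : FusionSystem S) {P Q : Subgroup Ω} (h : F.IsConj P Q) :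
    ∃ e : P ≃* Q, IsFIso F e := by
  obtain ⟨φ, hφ, hr⟩ := h
  obtain ⟨e, he, -⟩ := exists_isFIso_of_mem F hφ hr
  exact ⟨e, he⟩

/-- Transport of a group of automorphisms along an isomorphism. -/
def trAut {Q Q' : Subgroup Ω} (e : Q ≃* Q') (K : Subgroup (MulAut Q)) : Subgroup (MulAut Q') :=
  K.map (MulAut.congr e).toMonoidHom

theorem mem_trAut_iff {Q Q' : Subgroup Ω} (e : Q ≃* Q') (K : Subgroup (MulAut Q)) (β : MulAut Q') :
    β ∈ trAut e K ↔ MulAut.congr e.symm β ∈ K := by
  constructor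
  · rintro ⟨α, hα, rfl⟩
    have : MulAut.congr e.symm ((MulAut.congr e).toMonoidHom α) = α := by
      ext x; simp [MulAut.congr]
    rwa [this]
  · intro h
    refine ⟨_, h, ?_⟩
    ext x; simp [MulAut.congr]

theorem congr_mem_trAut {Q Q' : Subgroup Ω} (e : Q ≃* Q') {K : Subgroup (MulAut Q)} {α : MulAut Q}
    (hα : α ∈ K) : MulAut.congr e α ∈ trAut e K := ⟨α, hα, rfl⟩

theorem trAut_trans {Q Q' Q'' : Subgroup Ω} (e : Q ≃* Q') (e' : Q' ≃* Q'') (K : Subgroup (MulAut Q)) :
    trAut e' (trAut e K) = trAut (e.trans e') K := by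
  ext β
  rw [mem_trAut_iff, mem_trAut_iff, mem_trAut_iff]
  have : MulAut.congr e.symm (MulAut.congr e'.symm β) = MulAut.congr (e.trans e').symm β := by
    ext x; simp [MulAut.congr]
  rw [this]

theorem trAut_symm_self {Q Q' : Subgroup Ω} (e : Q ≃* Q') (K : Subgroup (MulAut Q)) :
    trAut e.symm (trAut e K) = K := by
  ext β
  rw [mem_trAut_iff, mem_trAut_iff]
  have : MulAut.congr e.symm (MulAut.congr e.symm.symm β) = β := by
    ext x; simp [MulAut.congr]
  rw [this]

theorem trAut_self_symm {Q Q' : Subgroup Ω} (e : Q ≃* Q') (K : Subgroup (MulAut Q')) :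
    trAut e (trAut e.symm K) = K := by
  have := trAut_symm_self e.symm K
  simpa using this

theorem trAut_mono {Q Q' : Subgroup Ω} (e : Q ≃* Q') {K K' : Subgroup (MulAut Q)} (h : K ≤ K') :
    trAut e K ≤ trAut e K' := Subgroup.map_mono h

theorem trAut_inf {Q Q' : Subgroup Ω} (e : Q ≃* Q') (K K' : Subgroup (MulAut Q)) :
    trAut e (K ⊓ K') = trAut e K ⊓ trAut e K' := by
  ext β
  simp only [mem_trAut_iff, Subgroup.mem_inf]

theorem congr_apply {Q Q' : Subgroup Ω} (e : Q ≃* Q') (α : MulAut Q) (y : Q') :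
    MulAut.congr e α y = e (α (e.symm y)) := rfl

/-- Transport of `Aut_F` along an isomorphism of the system. -/
theorem IsFIso.congr_mem_autGroup {F : FusionSystem S} {Q Q' : Subgroup Ω} {e : Q ≃* Q'} (he : IsFIso F e)
    {α : MulAut Q} (hα : α ∈ F.autGroup Q) : MulAut.congr e α ∈ F.autGroup Q' := by
  have h1 : IsFIso F (α : Q ≃* Q) := isFIso_of_mem_autGroup F he.le_left hα
  have h2 : IsFIso F ((e.symm.trans (α : Q ≃* Q)).trans e) := (he.symm.trans h1).trans he
  apply IsFIso.mem_autGroup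
  exact h2

theorem IsFIso.trAut_autGroup {F : FusionSystem S} {Q Q' : Subgroup Ω} {e : Q ≃* Q'} (he : IsFIso F e) :
    trAut e (F.autGroup Q) = F.autGroup Q' := by
  ext β
  rw [mem_trAut_iff]
  constructor
  · intro h
    have := he.congr_mem_autGroup h
    have h2 : MulAut.congr e (MulAut.congr e.symm β) = β := by
      ext x; simp [MulAut.congr]
    rwa [h2] at this
  · intro h
    exact he.symm.congr_mem_autGroup h

end Cfsg.Agent.Lib.Helper9
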