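import Mathlib
import Cfsg.Prelude.Def_FusionSystem
import Cfsg.Agent.Lib.Helper9.KNorm2
import Cfsg.Agent.Lib.Helper6.PCore

set_option autoImplicit false

namespace Cfsg.Agent.Lib.Helper9

open Cfsg Cfsg.FusionSystem

variable {Ω : Type*} [Group Ω] {S : Subgroup Ω}

/-- The isomorphism `Aut_F(P) ≅ Aut_F(P')` induced by an isomorphism `P ≅ P'` of the system. -/
noncomputable def autGroupEquiv (F : FusionSystem S) {P P' : Subgroup Ω} (e : P ≃* P') (he : IsFIso F e) :
    F.autGroup P ≃* F.autGroup P' where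
  toFun α := ⟨MulAut.congr e α, he.congr_mem_autGroup α.2⟩
  invFun β := ⟨MulAut.congr e.symm β, he.symm.congr_mem_autGroup β.2⟩
  left_inv α := by
    apply Subtype.ext
    ext x
    simp [MulAut.congr]
  right_inv β := by
    apply Subtype.ext
    ext x
    simp [MulAut.congr]
  map_mul' α β := by
    apply Subtype.ext
    exact map_mul (MulAut.congr e) _ _

theorem autGroupEquiv_coe (F : FusionSystem S) {P P' : Subgroup Ω} (e : P ≃* P') (he : IsFIso F e)
    (α : F.autGroup P) : ((autGroupEquiv F e he α : F.autGroup P') : MulAut P') = MulAut.congr e α := rfl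

/-- `O_p(Aut_F(P))` is transported to `O_p(Aut_F(P'))`. -/
theorem pCore_autGroup_transport (F : FusionSystem S) (p : ℕ) {P P' : Subgroup Ω} (e : P ≃* P')
    (he : IsFIso F e) :
    (pCore p (F.autGroup P')).map (F.autGroup P').subtype =
      trAut e ((pCore p (F.autGroup P)).map (F.autGroup P).subtype) := by
  rw [← Cfsg.Agent.Lib.Helper6.pCore_map_equiv p (autGroupEquiv F e he)]
  unfold trAut
  rw [Subgroup.map_map, Subgroup.map_map]
  congr 1

theorem trAut_inn {P P' : Subgroup Ω} (e : P ≃* P') : trAut e (Inn P) = Inn P' := by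
  ext β
  constructor
  · rintro ⟨_, ⟨x, rfl⟩, rfl⟩
    refine ⟨e x, ?_⟩
    ext y
    simp [MulAut.congr, MulAut.conj_apply]
  · rintro ⟨y, rfl⟩
    refine ⟨MulAut.conj (e.symm y), ⟨_, rfl⟩, ?_⟩
    ext z
    simp [MulAut.congr, MulAut.conj_apply]

/-- Being radical is invariant under conjugacy in the system. -/
theorem radical_transport (F : FusionSystem S) (p : ℕ) {P P' : Subgroup Ω} (e : P ≃* P') (he : IsFIso F e)
    (hP : F.IsRadical p P) : F.IsRadical p P' := by
  refine ⟨he.le_right, ?_⟩
  rw [pCore_autGroup_transport F p e he, hP.2, trAut_inn]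

/-- Being centric is invariant under conjugacy in the system. -/
theorem centric_of_isConj (F : FusionSystem S) {P P' : Subgroup Ω} (h : F.IsConj P P') (hP : F.IsCentric P) :
    F.IsCentric P' :=
  ⟨fs_isConj_le_right F h, fun Q hQ => hP.2 Q (fs_isConj_trans F h hQ)⟩

end Cfsg.Agent.Lib.Helper9
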