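import Mathlib

set_option autoImplicit false

namespace Cfsg.Agent.H9Perfect

open RegularWreathProduct
open scoped commutatorElement

/-- general principle: a subquotient with long derived series -/
theorem derivedSeries_ne_bot_of_subquotient {X Y D : Type*} [Group X] [Group Y] [Group D]
    (i : X →* Y) (hi : Function.Injective i) (φ : X →* D) (hφ : Function.Surjective φ) (k : ℕ)
    (hD : derivedSeries D k ≠ ⊥) : derivedSeries Y k ≠ ⊥ := by
  intro hY
  have h1 : (derivedSeries X k).map i ≤ derivedSeries Y k := map_derivedSeries_le_derivedSeries i k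
  rw [hY, le_bot_iff, Subgroup.map_eq_bot_iff_of_injective _ hi] at h1
  have h2 := map_derivedSeries_eq hφ k
  rw [h1, Subgroup.map_bot] at h2
  exact hD h2.symm

theorem derivedSeries_succ_eq_map (G : Type*) [Group G] (k : ℕ) :
    derivedSeries G (k + 1) = (derivedSeries (commutator G) k).map (commutator G).subtype := by
  induction k with
  | zero =>
    rw [derivedSeries_succ, derivedSeries_zero, derivedSeries_zero, ← MonoidHom.range_eq_map,
      Subgroup.range_subtype, commutator_def]
  | succ k ih =>
    rw [derivedSeries_succ, ih, derivedSeries_succ, Subgroup.map_commutator]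

theorem exists_perfect_core (W : Type*) [Group W] [Finite W] :
    ∃ n, derivedSeries W (n + 1) = derivedSeries W n := by
  by_contra h
  push Not at h
  have hlt : ∀ n, Nat.card (derivedSeries W (n + 1)) < Nat.card (derivedSeries W n) := by
    intro n
    by_contra hge
    push Not at hge
    apply h n
    apply Subgroup.eq_of_le_of_card_ge _ hge
    rw [derivedSeries_succ]
    exact Subgroup.commutator_le_left _ _
  have hb : ∀ n, Nat.card (derivedSeries W n) + n ≤ Nat.card W := by
    intro n
    induction n with
    | zero => simp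
    | succ n ih => have := hlt n; omega
  have h1 := hb (Nat.card W + 1)
  omega

theorem commutator_core_eq_top {W : Type*} [Group W] (n : ℕ)
    (hn : derivedSeries W (n + 1) = derivedSeries W n) :
    commutator (derivedSeries W n) = ⊤ := by
  apply Subgroup.map_injective (derivedSeries W n).subtype_injective
  rw [commutator_def, Subgroup.map_commutator, ← MonoidHom.range_eq_map, Subgroup.range_subtype,
    ← derivedSeries_succ, hn]

theorem derivedSeries_eq_top_of_perfect {Q : Type*} [Group Q] (hQ : commutator Q = ⊤) (n : ℕ) :
    derivedSeries Q n = ⊤ := by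
  induction n with
  | zero => rfl
  | succ n ih => rw [derivedSeries_succ, ih, ← commutator_def, hQ]

/-- the commutator computation in a regular wreath product -/
theorem wreath_comm {D Q : Type*} [Group D] [Group Q] (w : D ≀ᵣ Q) (hw : w.right ≠ 1) (s : D) :
    ∃ b : D ≀ᵣ Q, b.right = 1 ∧ (⁅b, w⁆).right = 1 ∧ (⁅b, w⁆).left 1 = s := by
  classical
  refine ⟨⟨Pi.mulSingle 1 s, 1⟩, rfl, ?_, ?_⟩
  · rw [commutatorElement_def]
    simp [mul_right, inv_right]
  · rw [commutatorElement_def]
    simp only [mul_left, inv_left, inv_right, mul_right, Pi.mul_apply, one_mul, inv_one, mul_one,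
      Pi.inv_apply]
    have h1 : (Pi.mulSingle (1 : Q) s : Q → D) (w.right⁻¹) = 1 := by
      apply Pi.mulSingle_eq_of_ne
      intro h
      apply hw
      rw [inv_eq_one] at h; exact h
    simp [h1]

/-- the base group -/
def base (D Q : Type*) [Group D] [Group Q] : Subgroup (D ≀ᵣ Q) :=
  (rightHom : D ≀ᵣ Q →* Q).ker

theorem mem_base {D Q : Type*} [Group D] [Group Q] (c : D ≀ᵣ Q) : c ∈ base D Q ↔ c.right = 1 :=
  MonoidHom.mem_ker

/-- the `left` hom on the base group -/
def baseLeft (D Q : Type*) [Group D] [Group Q] : base D Q →* (Q → D) where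
  toFun c := c.1.left
  map_one' := rfl
  map_mul' a b := by
    have ha : a.1.right = 1 := (mem_base _).mp a.2
    funext x
    change (a.1 * b.1).left x = _
    rw [mul_left, Pi.mul_apply, Pi.mul_apply, ha, inv_one, one_mul]

theorem baseLeft_injective (D Q : Type*) [Group D] [Group Q] :
    Function.Injective (baseLeft D Q) := by
  intro a b h
  apply Subtype.ext
  apply RegularWreathProduct.ext
  · exact h
  · rw [(mem_base _).mp a.2, (mem_base _).mp b.2]

/-- evaluation at `1` on the base group -/
def baseEval (D Q : Type*) [Group D] [Group Q] : base D Q →* D :=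
  (Pi.evalMonoidHom (fun _ : Q => D) 1).comp (baseLeft D Q)

theorem baseEval_apply {D Q : Type*} [Group D] [Group Q] (c : base D Q) :
    baseEval D Q c = c.1.left 1 := rfl

theorem isSolvable_fun_of_isPGroup {D Q : Type*} [Group D] [Finite D] [Finite Q]
    (hD : IsPGroup 2 D) : Group.IsSolvable (Q → D) := by
  haveI : Fact (Nat.Prime 2) := ⟨Nat.prime_two⟩
  obtain ⟨m, hm⟩ := IsPGroup.iff_card.mp hD
  have hP : IsPGroup 2 (Q → D) := by
    apply IsPGroup.of_card (n := m * Nat.card Q)
    rw [Nat.card_fun, hm, pow_mul]
  have := hP.isNilpotent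
  infer_instance

end Cfsg.Agent.H9Perfect
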