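import Mathlib
import Cfsg.Agent.Lib.Helper8.SmTwoC
import Cfsg.Agent.Lib.Helper2.SmTwoPTDef

set_option autoImplicit false
set_option linter.unusedSectionVars false

/-! S4409, package PQ: the section `Y₀ / Z(Y₀)` of a non-abelian group of order `8`, transported to
the quotient `N(Z) / Z` so that the four-group lemmas apply. -/

namespace Cfsg.Agent.Lib.Helper8.SmTwo

universe u

open scoped commutatorElement

variable {G : Type u} [Group G]

section quot

variable (L K : Subgroup G) [hKn : (K.subgroupOf L).Normal]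

/-- image of `U` in `L / K` -/
noncomputable def pq_img (U : Subgroup G) : Subgroup (↥L ⧸ K.subgroupOf L) :=
  (U.subgroupOf L).map (QuotientGroup.mk' (K.subgroupOf L))

theorem pq_mem_img {U : Subgroup G} {u : G} (hu : u ∈ U) (huL : u ∈ L) :
    QuotientGroup.mk' (K.subgroupOf L) ⟨u, huL⟩ ∈ pq_img L K U :=
  Subgroup.mem_map_of_mem _ (by rw [Subgroup.mem_subgroupOf]; exact hu)

theorem pq_exists_of_mem_img {U : Subgroup G} {q : ↥L ⧸ K.subgroupOf L}
    (hq : q ∈ pq_img L K U) :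
    ∃ u, ∃ (_ : u ∈ U) (huL : u ∈ L), QuotientGroup.mk' (K.subgroupOf L) ⟨u, huL⟩ = q := by
  obtain ⟨w, hw, rfl⟩ := Subgroup.mem_map.mp hq
  exact ⟨w.1, Subgroup.mem_subgroupOf.mp hw, w.2, rfl⟩

theorem pq_img_le_normalizer {U V : Subgroup G}
    (hUV : U ≤ Subgroup.normalizer (V : Set G)) :
    pq_img L K U ≤ Subgroup.normalizer ((pq_img L K V : Subgroup (↥L ⧸ K.subgroupOf L)) :
      Set (↥L ⧸ K.subgroupOf L)) := by
  have h1 : U.subgroupOf L ≤ Subgroup.normalizer ((V.subgroupOf L : Subgroup L) : Set L) := by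
    intro u hu
    rw [Subgroup.mem_subgroupOf] at hu
    have := hUV hu
    rw [Subgroup.mem_normalizer_iff] at this ⊢
    intro h
    rw [Subgroup.mem_subgroupOf, Subgroup.mem_subgroupOf]
    exact this h.1
  exact (Subgroup.map_mono h1).trans (Subgroup.le_normalizer_map _)

theorem pq_card_img [Finite G] {U : Subgroup G} (hKU : K ≤ U) (hUL : U ≤ L) :
    Nat.card K * Nat.card (pq_img L K U) = Nat.card U := by
  unfold pq_img
  rw [← Subgroup.relIndex_ker, QuotientGroup.ker_mk', Subgroup.relIndex_subgroupOf hUL]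
  have := Subgroup.relIndex_mul_relIndex (⊥ : Subgroup G) K U bot_le hKU
  rwa [Subgroup.relIndex_bot_left, Subgroup.relIndex_bot_left] at this

theorem pq_isPGroup_img {p : ℕ} {U : Subgroup G} (hU : IsPGroup p U) :
    IsPGroup p (pq_img L K U) :=
  (hU.comap_subtype).map _

theorem pq_card_img_dvd [Finite G] {U : Subgroup G} (hUL : U ≤ L) :
    Nat.card (pq_img L K U) ∣ Nat.card U := by
  have h1 : Nat.card (pq_img L K U) ∣ Nat.card (U.subgroupOf L) := Subgroup.card_map_dvd _ _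
  rwa [Nat.card_congr (Subgroup.subgroupOfEquivOfLe hUL).toEquiv] at h1

theorem pq_mem_of_mem_centralizer {V : Subgroup G} {t : G} (ht : t ∈ L)
    (h : QuotientGroup.mk' (K.subgroupOf L) ⟨t, ht⟩ ∈
      Subgroup.centralizer ((pq_img L K V : Subgroup (↥L ⧸ K.subgroupOf L)) :
        Set (↥L ⧸ K.subgroupOf L)))
    {x : G} (hx : x ∈ V) (hxL : x ∈ L) : x⁻¹ * (t * x * t⁻¹) ∈ K := by
  have h1 := Subgroup.mem_centralizer_iff.mp h _ (pq_mem_img L K hx hxL)
  have h2 : QuotientGroup.mk' (K.subgroupOf L) (⟨x, hxL⟩ : L) =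
      QuotientGroup.mk' (K.subgroupOf L) ((⟨t, ht⟩ : L) * ⟨x, hxL⟩ * (⟨t, ht⟩ : L)⁻¹) := by
    rw [map_mul, map_mul, map_inv, ← h1, mul_inv_cancel_right]
  have h3 := QuotientGroup.eq.mp h2
  rw [Subgroup.mem_subgroupOf] at h3
  simpa using h3

end quot

/-- in a finite group, a subgroup `C ≤ T` with `|T| ≤ 2 |C|` contains the product of any two
elements of `T` outside `C` -/
theorem pq_mul_mem_of_card_le {H : Type*} [Group H] [Finite H] (T C : Subgroup H) (hCT : C ≤ T)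
    (hcard : Nat.card T ≤ 2 * Nat.card C) {a b : H} (ha : a ∈ T) (hb : b ∈ T) (hac : a ∉ C)
    (hbc : b ∉ C) : a * b ∈ C := by
  have h1 := Subgroup.relIndex_mul_relIndex (⊥ : Subgroup H) C T bot_le hCT
  rw [Subgroup.relIndex_bot_left, Subgroup.relIndex_bot_left] at h1
  have hpos : 0 < Nat.card C := Nat.card_pos
  have hne1 : C.relIndex T ≠ 1 := by
    intro h
    rw [Subgroup.relIndex_eq_one] at h
    exact hac (h ha)
  have hle : C.relIndex T ≤ 2 := by
    by_contra hgt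
    push Not at hgt
    have : Nat.card C * 3 ≤ Nat.card C * C.relIndex T := Nat.mul_le_mul_left _ hgt
    omega
  have hne0 : C.relIndex T ≠ 0 := by
    intro h
    rw [h, mul_zero] at h1
    have : 0 < Nat.card T := Nat.card_pos
    omega
  have h2 : (C.subgroupOf T).index = 2 := by
    have : C.relIndex T = 2 := by omega
    exact this
  have h3 := Subgroup.mul_mem_iff_of_index_two h2 (a := (⟨a, ha⟩ : T)) (b := (⟨b, hb⟩ : T))
  rw [Subgroup.mem_subgroupOf, Subgroup.mem_subgroupOf, Subgroup.mem_subgroupOf] at h3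
  exact h3.mpr ⟨fun h => absurd h hac, fun h => absurd h hbc⟩

section na8

variable [Finite G] (Y₀ : Subgroup G)

theorem pq_normalizer_le :
    Subgroup.normalizer (Y₀ : Set G) ≤
      Subgroup.normalizer ((Y₀ ⊓ Subgroup.centralizer (Y₀ : Set G) : Subgroup G) : Set G) := by
  have key : ∀ g ∈ Subgroup.normalizer (Y₀ : Set G),
      ∀ k ∈ Y₀ ⊓ Subgroup.centralizer (Y₀ : Set G),
      g * k * g⁻¹ ∈ Y₀ ⊓ Subgroup.centralizer (Y₀ : Set G) := by
    intro g hg k hk
    rw [Subgroup.mem_inf] at hk ⊢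
    refine ⟨((Subgroup.mem_normalizer_iff.mp hg) k).mp hk.1, ?_⟩
    rw [Subgroup.mem_centralizer_iff]
    intro y hy
    have hy' : g⁻¹ * y * g ∈ Y₀ := by
      have := (Subgroup.mem_normalizer_iff.mp (Subgroup.inv_mem _ hg)) y
      simpa using this.mp hy
    have hc := Subgroup.mem_centralizer_iff.mp hk.2 _ hy'
    calc y * (g * k * g⁻¹) = g * ((g⁻¹ * y * g) * k) * g⁻¹ := by group
      _ = g * (k * (g⁻¹ * y * g)) * g⁻¹ := by rw [hc]
      _ = g * k * g⁻¹ * y := by group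
  intro g hg
  rw [Subgroup.mem_normalizer_iff]
  intro h
  refine ⟨key g hg h, fun hh => ?_⟩
  have := key g⁻¹ (Subgroup.inv_mem _ hg) _ hh
  simpa [mul_assoc] using this

/-- the section `Y₀ / Z(Y₀)` is a four-group in `N(Z) / Z` -/
theorem pq_isV4 (h0 : IsNA8 Y₀) (L K : Subgroup G) [hKn : (K.subgroupOf L).Normal]
    (hK : K = Y₀ ⊓ Subgroup.centralizer (Y₀ : Set G)) (hYL : Y₀ ≤ L) :
    IsV4 (pq_img L K Y₀) := by
  obtain ⟨z, hzY, hz1, hz2, hzc, hsq, -, hcen, -⟩ := h0.facts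
  have hKY : K ≤ Y₀ := by rw [hK]; exact inf_le_left
  have hzK : z ∈ K := by
    rw [hK, Subgroup.mem_inf, Subgroup.mem_centralizer_iff]
    exact ⟨hzY, fun y hy => (hzc y hy).symm⟩
  have hKmem : ∀ k ∈ K, k = 1 ∨ k = z := by
    intro k hk
    rw [hK, Subgroup.mem_inf, Subgroup.mem_centralizer_iff] at hk
    exact hcen k hk.1 (fun y hy => (hk.2 y hy).symm)
  have hcardK : Nat.card K = 2 := by
    rw [Nat.card_eq_two_iff]
    refine ⟨⟨1, K.one_mem⟩, ⟨z, hzK⟩, ?_, ?_⟩
    · intro h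
      exact hz1 (congrArg Subtype.val h).symm
    · ext k
      simp only [Set.mem_insert_iff, Set.mem_singleton_iff, Set.mem_univ, iff_true]
      rcases hKmem k.1 k.2 with h | h
      · left; exact Subtype.ext h
      · right; exact Subtype.ext h
  refine ⟨?_, ?_⟩
  · have h1 := pq_card_img L K hKY hYL
    rw [hcardK, h0.1] at h1
    omega
  · intro q hq
    obtain ⟨x, hx, hxL, rfl⟩ := pq_exists_of_mem_img L K hq
    rw [← map_pow, QuotientGroup.mk'_apply, QuotientGroup.eq_one_iff, Subgroup.mem_subgroupOf]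
    change x ^ 2 ∈ K
    rcases hsq x hx with h | h
    · rw [h]; exact K.one_mem
    · rw [h]; exact hzK

end na8

/-- (S3-trick for the section `Y₀ / Z(Y₀)`) -/
theorem na8_actsTrivMod [Finite G] (Y₀ Y A : Subgroup G) (h0 : IsNA8 Y₀) (hY : IsPGroup 2 Y)
    (hYn : Y ≤ Subgroup.normalizer (Y₀ : Set G)) (hAn : A ≤ Subgroup.normalizer (Y₀ : Set G))
    (hAY : A ≤ Subgroup.normalizer (Y : Set G)) (hodd : Odd (Nat.card A))
    (hcomm : ⁅Y₀, A⁆ = Y₀) : ∀ y ∈ Y, ActsTrivMod Y₀ y := by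
  obtain ⟨K, hK⟩ : ∃ K : Subgroup G, K = Y₀ ⊓ Subgroup.centralizer (Y₀ : Set G) := ⟨_, rfl⟩
  obtain ⟨L, hL⟩ : ∃ L : Subgroup G, L = Subgroup.normalizer (K : Set G) := ⟨_, rfl⟩
  have hKn : (K.subgroupOf L).Normal := by rw [hL]; exact Subgroup.normal_in_normalizer
  have hNL : Subgroup.normalizer (Y₀ : Set G) ≤ L := by
    rw [hL, hK]; exact pq_normalizer_le Y₀
  have hY₀L : Y₀ ≤ L := Subgroup.le_normalizer.trans hNL
  have hYL : Y ≤ L := hYn.trans hNL
  have hAL : A ≤ L := hAn.trans hNL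
  have hV4 : IsV4 (pq_img L K Y₀) := pq_isV4 Y₀ h0 L K hK hY₀L
  have hnc : ¬ pq_img L K A ≤ Subgroup.centralizer
      ((pq_img L K Y₀ : Subgroup (↥L ⧸ K.subgroupOf L)) : Set (↥L ⧸ K.subgroupOf L)) := by
    intro h
    have h1 : ⁅Y₀, A⁆ ≤ K := by
      rw [Subgroup.commutator_le]
      intro x hx a ha
      have := pq_mem_of_mem_centralizer L K (hAL ha) (h (pq_mem_img L K ha (hAL ha)))
        (Y₀.inv_mem hx) (hY₀L (Y₀.inv_mem hx))
      have e : ⁅x, a⁆ = x⁻¹⁻¹ * (a * x⁻¹ * a⁻¹) := by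
        rw [commutatorElement_def]; group
      rw [e]; exact this
    rw [hcomm] at h1
    obtain ⟨-, a, ha, b, hb, hab⟩ := h0
    apply hab
    have hb' := h1 hb
    rw [hK, Subgroup.mem_inf, Subgroup.mem_centralizer_iff] at hb'
    exact hb'.2 a ha
  have hoddA : Odd (Nat.card (pq_img L K A)) := hodd.of_dvd_nat (pq_card_img_dvd L K hAL)
  have hcen := v4_le_centralizer (pq_img L K Y₀) (pq_img L K Y) (pq_img L K A) hV4
    (pq_isPGroup_img L K hY) (pq_img_le_normalizer L K hYn) (pq_img_le_normalizer L K hAn)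
    (pq_img_le_normalizer L K hAY) hoddA hnc
  intro y hy x hx
  rw [← hK]
  exact pq_mem_of_mem_centralizer L K (hYL hy) (hcen (pq_mem_img L K hy (hYL hy))) hx (hY₀L hx)

end Cfsg.Agent.Lib.Helper8.SmTwo
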