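import Mathlib

set_option autoImplicit false

/-!
# Presentations of `SL₂(q)`: generic words and commutation of the root conjugates
-/

namespace Cfsg.Agent.Lib.Helper9.SLP

open Polynomial

variable {G : Type*} [Group G] {H : Type*} [Group H]

/-- the conjugate `h^i u h^{-i}` -/
def cU (u h : G) (i : ℕ) : G := h ^ i * u * (h ^ i)⁻¹

/-- the conjugate `h^i u h^{-i}`, integer exponent -/
def cZ (u h : G) (i : ℤ) : G := h ^ i * u * (h ^ i)⁻¹

theorem cZ_natCast (u h : G) (i : ℕ) : cZ u h (i : ℤ) = cU u h i := by simp [cZ, cU]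

theorem cU_zero (u h : G) : cU u h 0 = u := by simp [cU]

theorem cZ_zero (u h : G) : cZ u h 0 = u := by simp [cZ]

theorem cU_succ (u h : G) (i : ℕ) : cU u h (i + 1) = h * cU u h i * h⁻¹ := by
  simp only [cU, pow_succ', mul_inv_rev, mul_assoc]

theorem cZ_conj (u h : G) (m i : ℤ) : h ^ m * cZ u h i * (h ^ m)⁻¹ = cZ u h (m + i) := by
  simp only [cZ, zpow_add, mul_inv_rev, mul_assoc]

theorem cU_conj_pow (u h : G) (m i : ℕ) : h ^ m * cU u h i * (h ^ m)⁻¹ = cU u h (m + i) := by
  simp only [cU, pow_add, mul_inv_rev, mul_assoc]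

theorem cU_pow (u h : G) (i n : ℕ) : cU u h i ^ n = h ^ i * u ^ n * (h ^ i)⁻¹ := by
  simp only [cU, conj_pow]

theorem cU_pow_eq_one (u h : G) (i n : ℕ) (hu : u ^ n = 1) : cU u h i ^ n = 1 := by
  rw [cU_pow, hu]; simp

/-- partial products `∏_{i<n} (h^i u h^{-i})^{c i}` -/
def PWn (u h : G) (c : ℕ → ℕ) : ℕ → G
  | 0 => 1
  | n + 1 => PWn u h c n * cU u h n ^ c n

theorem PWn_zero (u h : G) (c : ℕ → ℕ) : PWn u h c 0 = 1 := rfl

theorem PWn_succ (u h : G) (c : ℕ → ℕ) (n : ℕ) :
    PWn u h c (n + 1) = PWn u h c n * cU u h n ^ c n := rfl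

/-- the word of a polynomial -/
noncomputable def PW {p : ℕ} (u h : G) (f : (ZMod p)[X]) : G :=
  PWn u h (fun i => (f.coeff i).val) (f.natDegree + 1)

theorem map_cU (φ : G →* H) (u h : G) (i : ℕ) : φ (cU u h i) = cU (φ u) (φ h) i := by
  simp [cU]

theorem map_PWn (φ : G →* H) (u h : G) (c : ℕ → ℕ) (n : ℕ) :
    φ (PWn u h c n) = PWn (φ u) (φ h) c n := by
  induction n with
  | zero => simp [PWn]
  | succ n ih => simp [PWn, ih, map_cU]

theorem map_PW {p : ℕ} (φ : G →* H) (u h : G) (f : (ZMod p)[X]) :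
    φ (PW u h f) = PW (φ u) (φ h) f := map_PWn φ u h _ _

theorem cU_mem (K : Subgroup G) {u h : G} (hu : u ∈ K) (hh : h ∈ K) (i : ℕ) : cU u h i ∈ K :=
  K.mul_mem (K.mul_mem (K.pow_mem hh i) hu) (K.inv_mem (K.pow_mem hh i))

theorem PWn_mem (K : Subgroup G) {u h : G} (hu : u ∈ K) (hh : h ∈ K) (c : ℕ → ℕ) (n : ℕ) :
    PWn u h c n ∈ K := by
  induction n with
  | zero => exact K.one_mem
  | succ n ih => exact K.mul_mem ih (K.pow_mem (cU_mem K hu hh n) _)

theorem PW_mem {p : ℕ} (K : Subgroup G) {u h : G} (hu : u ∈ K) (hh : h ∈ K) (f : (ZMod p)[X]) :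
    PW u h f ∈ K := PWn_mem K hu hh _ _

/-! ### commutation -/

theorem commute_cZ_iff (u h : G) (i j : ℤ) :
    Commute (cZ u h i) (cZ u h j) ↔ Commute u (cZ u h (j - i)) := by
  have h1 : cZ u h i = h ^ i * u * (h ^ i)⁻¹ := rfl
  have h2 : cZ u h j = h ^ i * cZ u h (j - i) * (h ^ i)⁻¹ := by
    rw [cZ_conj]; congr 1; ring
  rw [h1, h2, Commute.conj_iff]

theorem commute_cZ_neg (u h : G) (j : ℤ) :
    Commute u (cZ u h (-j)) ↔ Commute u (cZ u h j) := by
  have := commute_cZ_iff u h j 0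
  rw [cZ_zero, zero_sub] at this
  rw [← this]
  exact ⟨fun h => h.symm, fun h => h.symm⟩

theorem cZ_rel_shift (u h : G) (a k : ℕ) (ε : ℤ) (hrel : cU u h k = u * cU u h a ^ ε) (c : ℤ) :
    cZ u h (c + k) = cZ u h c * cZ u h (c + a) ^ ε := by
  rw [← cZ_conj u h c k, ← cZ_conj u h c a, cZ_natCast, cZ_natCast, hrel, conj_zpow]
  simp only [cZ, mul_assoc, inv_mul_cancel_left]

/-- the root conjugates commute as soon as the first few do and one additive relation holds -/
theorem commute_all (u h : G) (a k : ℕ) (ha : 0 < a) (ε : ℤ) (hε : ε = 1 ∨ ε = -1)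
    (hc : ∀ j : ℕ, j ≤ a → Commute u (cU u h j))
    (hrel : cU u h k = u * cU u h a ^ ε) :
    ∀ j : ℤ, Commute u (cZ u h j) := by
  have hsh := cZ_rel_shift u h a k ε hrel
  have hsym := commute_cZ_neg u h
  have T1 : ∀ c : ℤ, Commute u (cZ u h c) → Commute u (cZ u h (c + a)) →
      Commute u (cZ u h (c + k)) := by
    intro c h1 h2
    rw [hsh c]
    exact h1.mul_right (h2.zpow_right ε)
  have hzp : ∀ y z : G, Commute y (z ^ ε) → Commute y z := by
    intro y z hyz
    rcases hε with rfl | rfl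
    · simpa using hyz
    · simpa using hyz
  have T2 : ∀ c : ℤ, Commute u (cZ u h c) → Commute u (cZ u h (c + k)) →
      Commute u (cZ u h (c + a)) := by
    intro c h1 h2
    apply hzp
    have : cZ u h (c + a) ^ ε = (cZ u h c)⁻¹ * cZ u h (c + k) := by
      rw [hsh c]; group
    rw [this]
    exact h1.inv_right.mul_right h2
  have T3 : ∀ c : ℤ, Commute u (cZ u h (c + a)) → Commute u (cZ u h (c + k)) →
      Commute u (cZ u h c) := by
    intro c h1 h2
    have : cZ u h c = cZ u h (c + k) * (cZ u h (c + a) ^ ε)⁻¹ := by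
      rw [hsh c]; group
    rw [this]
    exact h2.mul_right (h1.zpow_right ε).inv_right
  have hcZ : ∀ j : ℕ, j ≤ a → Commute u (cZ u h (j : ℤ)) := by
    intro j hj; rw [cZ_natCast]; exact hc j hj
  have main : ∀ j : ℕ, Commute u (cZ u h (j : ℤ)) ∧ Commute u (cZ u h ((k : ℤ) + j)) := by
    intro j
    induction j using Nat.strong_induction_on with
    | _ j ih =>
      have hj : Commute u (cZ u h (j : ℤ)) := by
        by_cases hja : j ≤ a
        · exact hcZ j hja
        · have hja' : a ≤ j := by omega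
          obtain ⟨i1, i2⟩ := ih (j - a) (by omega)
          have := T2 (((j - a : ℕ) : ℤ)) i1 (by
            have e : ((j - a : ℕ) : ℤ) + k = (k : ℤ) + ((j - a : ℕ) : ℤ) := by ring
            rw [e]; exact i2)
          have e : ((j - a : ℕ) : ℤ) + a = (j : ℤ) := by
            rw [Nat.cast_sub hja']; ring
          rwa [e] at this
      refine ⟨hj, ?_⟩
      -- `k + j - a ∈ D`
      have hkja : Commute u (cZ u h ((k : ℤ) + j - a)) := by
        by_cases hja : j < a
        · have h1 : Commute u (cZ u h (-(((a - j : ℕ)) : ℤ))) :=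
            (hsym _).mpr (hcZ (a - j) (by omega))
          have h2 : Commute u (cZ u h (-(((a - j : ℕ)) : ℤ) + a)) := by
            have e : -(((a - j : ℕ)) : ℤ) + a = (j : ℤ) := by
              rw [Nat.cast_sub hja.le]; ring
            rw [e]; exact hj
          have := T1 _ h1 h2
          have e : -(((a - j : ℕ)) : ℤ) + k = (k : ℤ) + j - a := by
            rw [Nat.cast_sub hja.le]; ring
          rwa [e] at this
        · have hja' : a ≤ j := by omega
          obtain ⟨_, i2⟩ := ih (j - a) (by omega)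
          have e : (k : ℤ) + ((j - a : ℕ) : ℤ) = (k : ℤ) + j - a := by
            rw [Nat.cast_sub hja']; ring
          rwa [e] at i2
      have h1 : Commute u (cZ u h ((-(k : ℤ) - j) + a)) := by
        have e : (-(k : ℤ) - j) + a = -((k : ℤ) + j - a) := by ring
        rw [e]; exact (hsym _).mpr hkja
      have h2 : Commute u (cZ u h ((-(k : ℤ) - j) + k)) := by
        have e : (-(k : ℤ) - j) + k = -(j : ℤ) := by ring
        rw [e]; exact (hsym _).mpr hj
      have := T3 _ h1 h2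
      have e : (-(k : ℤ) - j) = -((k : ℤ) + j) := by ring
      rw [e] at this
      exact (hsym _).mp this
  intro j
  rcases le_total 0 j with hj | hj
  · obtain ⟨n, rfl⟩ := Int.eq_ofNat_of_zero_le hj
    exact (main n).1
  · obtain ⟨n, hn⟩ := Int.eq_ofNat_of_zero_le (neg_nonneg.mpr hj)
    have : j = -(n : ℤ) := by omega
    rw [this]
    exact (hsym _).mpr (main n).1

theorem commute_cU_of_commute (u h : G) (hc : ∀ j : ℤ, Commute u (cZ u h j)) (i j : ℕ) :
    Commute (cU u h i) (cU u h j) := by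
  rw [← cZ_natCast, ← cZ_natCast, commute_cZ_iff]
  exact hc _

/-- if `h u h⁻¹` is a power of `u`, all conjugates are powers of `u` -/
theorem cU_mem_zpowers (u h : G) (hh : cU u h 1 ∈ Subgroup.zpowers u) (i : ℕ) :
    cU u h i ∈ Subgroup.zpowers u := by
  induction i with
  | zero => rw [cU_zero]; exact Subgroup.mem_zpowers u
  | succ i ih =>
    obtain ⟨s, hs⟩ := Subgroup.mem_zpowers_iff.mp hh
    obtain ⟨r, hr⟩ := Subgroup.mem_zpowers_iff.mp ih
    rw [cU_succ, ← hr]
    have : h * u ^ r * h⁻¹ = (h * u * h⁻¹) ^ r := by rw [conj_zpow]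
    rw [this]
    have h1 : h * u * h⁻¹ = cU u h 1 := by simp [cU]
    rw [h1, ← hs, ← zpow_mul]
    exact Subgroup.zpow_mem_zpowers u _

theorem commute_cU_of_mem_zpowers (u h : G) (hh : cU u h 1 ∈ Subgroup.zpowers u) (i j : ℕ) :
    Commute (cU u h i) (cU u h j) := by
  obtain ⟨r, hr⟩ := Subgroup.mem_zpowers_iff.mp (cU_mem_zpowers u h hh i)
  obtain ⟨s, hs⟩ := Subgroup.mem_zpowers_iff.mp (cU_mem_zpowers u h hh j)
  rw [← hr, ← hs]
  exact ((Commute.refl u).zpow_right s).zpow_left r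

end Cfsg.Agent.Lib.Helper9.SLP
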