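import Mathlib
import Cfsg.Agent.Lib.Helper9.SLP1

set_option autoImplicit false

/-!
# Presentations of `SL₂(q)`: the additive parametrisation of the root subgroup
-/

namespace Cfsg.Agent.Lib.Helper9.SLP

open Polynomial

variable {G : Type*} [Group G]

theorem commute_PWn_cU (u h : G) (hcomm : ∀ i j : ℕ, Commute (cU u h i) (cU u h j))
    (c : ℕ → ℕ) (n j : ℕ) : Commute (PWn u h c n) (cU u h j) := by
  induction n with
  | zero => exact Commute.one_left _
  | succ n ih => exact ih.mul_left ((hcomm n j).pow_left _)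

theorem PWn_add (u h : G) (hcomm : ∀ i j : ℕ, Commute (cU u h i) (cU u h j))
    (c d : ℕ → ℕ) (n : ℕ) :
    PWn u h (fun i => c i + d i) n = PWn u h c n * PWn u h d n := by
  induction n with
  | zero => simp [PWn]
  | succ n ih =>
    rw [PWn_succ, PWn_succ, PWn_succ, ih, pow_add]
    have hc : Commute (PWn u h d n) (cU u h n ^ c n) :=
      (commute_PWn_cU u h hcomm d n n).pow_right _
    calc PWn u h c n * PWn u h d n * (cU u h n ^ c n * cU u h n ^ d n)
        = PWn u h c n * (PWn u h d n * cU u h n ^ c n) * cU u h n ^ d n := by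
          simp only [mul_assoc]
      _ = PWn u h c n * (cU u h n ^ c n * PWn u h d n) * cU u h n ^ d n := by rw [hc.eq]
      _ = _ := by simp only [mul_assoc]

theorem PWn_congr (u h : G) (c d : ℕ → ℕ) (n : ℕ) (hcd : ∀ i < n, c i = d i) :
    PWn u h c n = PWn u h d n := by
  induction n with
  | zero => rfl
  | succ n ih =>
    rw [PWn_succ, PWn_succ, ih (fun i hi => hcd i (by omega)), hcd n (by omega)]

theorem PWn_congr_mod (u h : G) (p : ℕ) (hup : u ^ p = 1) (c d : ℕ → ℕ) (n : ℕ)
    (hcd : ∀ i < n, c i % p = d i % p) :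
    PWn u h c n = PWn u h d n := by
  induction n with
  | zero => rfl
  | succ n ih =>
    rw [PWn_succ, PWn_succ, ih (fun i hi => hcd i (by omega))]
    congr 1
    have h1 := cU_pow_eq_one u h n p hup
    rw [pow_eq_pow_mod (c n) h1, pow_eq_pow_mod (d n) h1, hcd n (by omega)]

theorem PWn_shift (u h : G) (c : ℕ → ℕ) (n : ℕ) :
    PWn u h (fun i => Nat.casesOn i 0 c) (n + 1) = h * PWn u h c n * h⁻¹ := by
  induction n with
  | zero => simp [PWn]
  | succ n ih =>
    rw [PWn_succ, ih, PWn_succ, cU_succ, conj_pow]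
    simp only [mul_assoc, inv_mul_cancel_left]

variable {p : ℕ}

theorem PW_eq_PWn (u h : G) (f : (ZMod p)[X]) (N : ℕ) (hN : f.natDegree + 1 ≤ N) :
    PWn u h (fun i => (f.coeff i).val) N = PW u h f := by
  induction N, hN using Nat.le_induction with
  | base => rfl
  | succ N hN ih =>
    rw [PWn_succ, ih, coeff_eq_zero_of_natDegree_lt (by omega), ZMod.val_zero, pow_zero,
      mul_one]

variable [Fact p.Prime]

theorem PW_zero (u h : G) : PW u h (0 : (ZMod p)[X]) = 1 := by
  simp [PW, PWn]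

theorem PW_one (u h : G) : PW u h (1 : (ZMod p)[X]) = u := by
  haveI : Fact (1 < p) := ⟨(Fact.out : p.Prime).one_lt⟩
  simp [PW, PWn, cU_zero, ZMod.val_one]

theorem PW_add (u h : G) (hup : u ^ p = 1)
    (hcomm : ∀ i j : ℕ, Commute (cU u h i) (cU u h j)) (f g : (ZMod p)[X]) :
    PW u h (f + g) = PW u h f * PW u h g := by
  set N := max f.natDegree g.natDegree + 1 with hN
  have h1 : (f + g).natDegree + 1 ≤ N := by
    have := natDegree_add_le f g
    omega
  rw [← PW_eq_PWn u h (f + g) N h1, ← PW_eq_PWn u h f N (by omega),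
    ← PW_eq_PWn u h g N (by omega), ← PWn_add u h hcomm]
  apply PWn_congr_mod u h p hup
  intro i _
  simp only [coeff_add, ZMod.val_add, Nat.mod_mod]

theorem PW_X_mul (u h : G) (f : (ZMod p)[X]) :
    PW u h (X * f) = h * PW u h f * h⁻¹ := by
  have h1 : (X * f).natDegree + 1 ≤ f.natDegree + 1 + 1 := by
    have := natDegree_mul_le (p := (X : (ZMod p)[X])) (q := f)
    have h2 : (X : (ZMod p)[X]).natDegree ≤ 1 := natDegree_X_le
    omega
  rw [← PW_eq_PWn u h (X * f) _ h1, PW, ← PWn_shift]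
  apply PWn_congr
  intro i _
  cases i with
  | zero => simp
  | succ i => simp [coeff_X_mul]

theorem PW_X_pow_mul (u h : G) (f : (ZMod p)[X]) (i : ℕ) :
    PW u h (X ^ i * f) = h ^ i * PW u h f * (h ^ i)⁻¹ := by
  induction i with
  | zero => simp
  | succ i ih =>
    rw [pow_succ', mul_assoc, PW_X_mul, ih, pow_succ']
    simp only [mul_inv_rev, mul_assoc]

theorem PW_nsmul (u h : G) (hup : u ^ p = 1)
    (hcomm : ∀ i j : ℕ, Commute (cU u h i) (cU u h j)) (f : (ZMod p)[X]) (n : ℕ) :
    PW u h (n • f) = PW u h f ^ n := by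
  induction n with
  | zero => simp [PW_zero]
  | succ n ih => rw [succ_nsmul, PW_add u h hup hcomm, ih, pow_succ]

theorem PW_mul_eq_one (u h : G) (hup : u ^ p = 1)
    (hcomm : ∀ i j : ℕ, Commute (cU u h i) (cU u h j)) (m : (ZMod p)[X])
    (hm : PW u h m = 1) (g : (ZMod p)[X]) : PW u h (g * m) = 1 := by
  induction g using Polynomial.induction_on' with
  | add g1 g2 h1 h2 => rw [add_mul, PW_add u h hup hcomm, h1, h2, one_mul]
  | monomial i c =>
    have h1 : (monomial i c : (ZMod p)[X]) * m = c.val • (X ^ i * m) := by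
      rw [← C_mul_X_pow_eq_monomial, mul_assoc, nsmul_eq_mul]
      congr 1
      rw [← map_natCast (C : ZMod p →+* (ZMod p)[X]), ZMod.natCast_zmod_val]
    rw [h1, PW_nsmul u h hup hcomm, PW_X_pow_mul, hm]
    simp

theorem PW_eq_of_dvd_sub (u h : G) (hup : u ^ p = 1)
    (hcomm : ∀ i j : ℕ, Commute (cU u h i) (cU u h j)) (m : (ZMod p)[X])
    (hm : PW u h m = 1) (f g : (ZMod p)[X]) (hfg : m ∣ f - g) : PW u h f = PW u h g := by
  obtain ⟨r, hr⟩ := hfg
  have : f = g + r * m := by rw [mul_comm, ← hr]; ring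
  rw [this, PW_add u h hup hcomm, PW_mul_eq_one u h hup hcomm m hm, mul_one]

/-- the additive parametrisation of the root subgroup -/
theorem exists_psi (u h : G) (hup : u ^ p = 1)
    (hcomm : ∀ i j : ℕ, Commute (cU u h i) (cU u h j)) {F : Type*} [Field F]
    (ev : (ZMod p)[X] →+* F) (hsurj : Function.Surjective ev) (m : (ZMod p)[X])
    (hker : ∀ f, ev f = 0 → m ∣ f) (hm : PW u h m = 1) :
    ∃ ψ : F → G, (∀ a b, ψ (a + b) = ψ a * ψ b) ∧ (∀ f, ψ (ev f) = PW u h f) ∧
      (∀ a, h * ψ a * h⁻¹ = ψ (ev X * a)) := by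
  choose s hs using hsurj
  have key : ∀ f g, ev f = ev g → PW u h f = PW u h g := by
    intro f g hfg
    apply PW_eq_of_dvd_sub u h hup hcomm m hm
    apply hker
    rw [map_sub, hfg, sub_self]
  refine ⟨fun a => PW u h (s a), ?_, ?_, ?_⟩
  · intro a b
    show PW u h (s (a + b)) = PW u h (s a) * PW u h (s b)
    rw [← PW_add u h hup hcomm]
    apply key
    rw [hs, map_add, hs, hs]
  · intro f
    exact key _ _ (hs _)
  · intro a
    show h * PW u h (s a) * h⁻¹ = PW u h (s (ev X * a))
    rw [← PW_X_mul]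
    apply key
    rw [hs, map_mul, hs]

end Cfsg.Agent.Lib.Helper9.SLP
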