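import Mathlib
import Cfsg.Agent.Lib.Helper9.SLP2

set_option autoImplicit false

/-!
# Presentations of `SL₂(q)`: the abstract Bruhat count
-/

namespace Cfsg.Agent.Lib.Helper9.SLP

variable {G : Type*} [Group G] {F : Type*} [Field F]

section basic

variable (ψ : F → G) (hadd : ∀ a b, ψ (a + b) = ψ a * ψ b)
include hadd

theorem psi_zero : ψ 0 = 1 := by
  have := hadd 0 0
  rw [add_zero] at this
  exact (mul_eq_left.mp this.symm)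

theorem psi_neg (a : F) : ψ (-a) = (ψ a)⁻¹ := by
  have := hadd (-a) a
  rw [neg_add_cancel, psi_zero ψ hadd] at this
  exact eq_inv_of_mul_eq_one_left this.symm

end basic

section weyl

variable (ψ : F → G) (t h : G) (ζ : F) (hζ : ζ ≠ 0)
  (hconj : ∀ a, h * ψ a * h⁻¹ = ψ (ζ ^ 2 * a))
  (hth : t * h * t⁻¹ = h⁻¹)

include hconj hζ in
theorem psi_conj_zpow (i : ℤ) (a : F) : h ^ i * ψ a * (h ^ i)⁻¹ = ψ ((ζ ^ 2) ^ i * a) := by
  have hl : (ζ ^ 2 : F) ≠ 0 := pow_ne_zero 2 hζ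
  have hnat : ∀ (n : ℕ) (a : F), h ^ n * ψ a * (h ^ n)⁻¹ = ψ ((ζ ^ 2) ^ n * a) := by
    intro n
    induction n with
    | zero => intro a; simp
    | succ n ih =>
      intro a
      rw [pow_succ', mul_inv_rev]
      have : h * h ^ n * ψ a * ((h ^ n)⁻¹ * h⁻¹) = h * (h ^ n * ψ a * (h ^ n)⁻¹) * h⁻¹ := by
        simp only [mul_assoc]
      rw [this, ih, hconj, pow_succ' (ζ ^ 2), mul_assoc]
  rcases le_total 0 i with hi | hi
  · obtain ⟨n, rfl⟩ := Int.eq_ofNat_of_zero_le hi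
    simpa using hnat n a
  · obtain ⟨n, hn⟩ := Int.eq_ofNat_of_zero_le (neg_nonneg.mpr hi)
    have hi' : i = -(n : ℤ) := by omega
    subst hi'
    have h1 := hnat n ((ζ ^ 2) ^ (-(n : ℤ)) * a)
    rw [zpow_neg, zpow_natCast, ← mul_assoc, mul_inv_cancel₀ (pow_ne_zero n hl), one_mul] at h1
    rw [zpow_neg, zpow_natCast, inv_inv, zpow_neg, zpow_natCast, ← h1]
    group

include hth in
theorem zpow_mul_t (i : ℤ) : h ^ i * t = t * h ^ (-i) := by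
  have h1 : t * h ^ (-i) * t⁻¹ = h ^ i := by
    rw [← conj_zpow, hth, inv_zpow, zpow_neg, inv_inv]
  rw [← h1]; group

include hconj hth hζ in
theorem weyl_conj (a b : F) (m : ℤ)
    (hab : t * ψ a * t⁻¹ = ψ b * h ^ m * t * ψ b) (i : ℤ) :
    t * ψ ((ζ ^ 2) ^ (-i) * a) * t⁻¹ =
      ψ ((ζ ^ 2) ^ i * b) * h ^ (m + 2 * i) * t * ψ ((ζ ^ 2) ^ i * b) := by
  have e1 := psi_conj_zpow ψ h ζ hζ hconj (-i) a
  have e2 := psi_conj_zpow ψ h ζ hζ hconj i b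
  have e3 := zpow_mul_t t h hth i
  have e4 := zpow_mul_t t h hth (-i)
  rw [neg_neg] at e4
  rw [← e1, ← e2]
  -- t h^{-i} ψ a h^{i} t⁻¹ = h^i t ψ a t⁻¹ h^{-i}
  have s1 : t * (h ^ (-i) * ψ a * (h ^ (-i))⁻¹) * t⁻¹ =
      h ^ i * (t * ψ a * t⁻¹) * (h ^ i)⁻¹ := by
    have : t * (h ^ (-i) * ψ a * (h ^ (-i))⁻¹) * t⁻¹ =
        (t * h ^ (-i)) * ψ a * (t * h ^ (-i))⁻¹ := by group
    rw [this, ← e3]; group
  rw [s1, hab]
  have s2 : h ^ i * (ψ b * h ^ m * t * ψ b) * (h ^ i)⁻¹ =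
      (h ^ i * ψ b * (h ^ i)⁻¹) * h ^ m * (h ^ i * t) * ψ b * (h ^ i)⁻¹ := by group
  rw [s2, e3]
  have s3 : h ^ i * ψ b * (h ^ i)⁻¹ * h ^ m * (t * h ^ (-i)) * ψ b * (h ^ i)⁻¹ =
      h ^ i * ψ b * (h ^ i)⁻¹ * h ^ m * (t * h ^ (-i)) * h ^ (-i) *
        (h ^ i * ψ b * (h ^ i)⁻¹) := by group
  rw [s3]
  have e5 := zpow_mul_t t h hth (2 * i)
  have s4 : h ^ i * ψ b * (h ^ i)⁻¹ * h ^ (m + 2 * i) * t * (h ^ i * ψ b * (h ^ i)⁻¹) =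
      h ^ i * ψ b * (h ^ i)⁻¹ * h ^ m * (h ^ (2 * i) * t) * (h ^ i * ψ b * (h ^ i)⁻¹) := by
    group
  rw [s4, e5]
  group

variable (hW1 : t * ψ 1 * t⁻¹ = ψ (-1) * t * ψ (-1))
  (hWz : t * ψ ζ * t⁻¹ = ψ (-ζ⁻¹) * h⁻¹ * t * ψ (-ζ⁻¹))

include hconj hth hζ hW1 hWz in
theorem weyl_all (j : ℤ) :
    t * ψ (ζ ^ j) * t⁻¹ = ψ (-(ζ ^ j)⁻¹) * h ^ (-j) * t * ψ (-(ζ ^ j)⁻¹) := by
  have hl : ∀ i : ℤ, (ζ ^ 2 : F) ^ i = ζ ^ (2 * i) := by
    intro i; rw [← zpow_natCast ζ 2, ← zpow_mul]; norm_num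
  rcases Int.even_or_odd' j with ⟨i, rfl | rfl⟩
  · have := weyl_conj ψ t h ζ hζ hconj hth 1 (-1) 0 (by simpa using hW1) (-i)
    rw [neg_neg, hl, hl] at this
    have e1 : ζ ^ (2 * i) * 1 = ζ ^ (2 * i) := mul_one _
    have e2 : ζ ^ (2 * -i) * (-1 : F) = -(ζ ^ (2 * i))⁻¹ := by
      rw [mul_neg_one, mul_neg, zpow_neg]
    have e3 : (0 : ℤ) + 2 * -i = -(2 * i) := by ring
    rw [e1, e2, e3] at this
    exact this
  · have := weyl_conj ψ t h ζ hζ hconj hth ζ (-ζ⁻¹) (-1) (by simpa using hWz) (-i)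
    rw [neg_neg, hl, hl] at this
    have e1 : ζ ^ (2 * i) * ζ = ζ ^ (2 * i + 1) := by
      rw [zpow_add₀ hζ, zpow_one]
    have e2 : ζ ^ (2 * -i) * (-ζ⁻¹) = -(ζ ^ (2 * i + 1))⁻¹ := by
      rw [zpow_add₀ hζ, zpow_one, mul_neg, mul_neg, zpow_neg, mul_inv]
    have e3 : (-1 : ℤ) + 2 * -i = -(2 * i + 1) := by ring
    rw [e1, e2, e3] at this
    exact this

include hconj hth hζ hW1 hWz in
theorem h_zpow_eq_one (N : ℤ) (hN : ζ ^ N = 1) : h ^ N = 1 := by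
  have h0 := weyl_all ψ t h ζ hζ hconj hth hW1 hWz 0
  have h1 := weyl_all ψ t h ζ hζ hconj hth hW1 hWz N
  rw [hN] at h1
  rw [zpow_zero] at h0
  have h2 := h0.symm.trans h1
  have h3 := mul_left_cancel (mul_right_cancel (mul_right_cancel h2))
  rw [neg_zero, zpow_zero] at h3
  rw [zpow_neg] at h3
  exact inv_eq_one.mp h3.symm

include hconj hth hζ hW1 hWz in
theorem t_sq_eq (hadd : ∀ a b, ψ (a + b) = ψ a * ψ b) (j0 : ℤ) (hj0 : ζ ^ j0 = -1) :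
    t * t = h ^ j0 := by
  have h1 := weyl_all ψ t h ζ hζ hconj hth hW1 hWz j0
  rw [hj0] at h1
  have e : -(-1 : F)⁻¹ = 1 := by norm_num
  rw [e] at h1
  have h2 : t * ψ (-1) * t⁻¹ = ψ 1 * t⁻¹ * ψ 1 := by
    have := congrArg (·⁻¹) hW1
    simp only [mul_inv_rev, inv_inv] at this
    rw [psi_neg ψ hadd 1, inv_inv] at this
    rw [psi_neg ψ hadd 1]
    simpa [mul_assoc] using this
  rw [h2] at h1
  have h3 : t⁻¹ = h ^ (-j0) * t := by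
    have : ψ 1 * t⁻¹ * ψ 1 = ψ 1 * (h ^ (-j0) * t) * ψ 1 := by
      rw [h1]; simp only [mul_assoc]
    exact mul_left_cancel (mul_right_cancel this)
  have h4 : h ^ j0 * t⁻¹ = t := by rw [h3]; group
  calc t * t = h ^ j0 * t⁻¹ * t := by rw [h4]
    _ = h ^ j0 := by group

end weyl

end Cfsg.Agent.Lib.Helper9.SLP
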