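import Mathlib
import Cfsg.Agent.Lib.Helper9.SLP3

set_option autoImplicit false

/-!
# Presentations of `SL₂(q)`: the abstract Bruhat count, II
-/

namespace Cfsg.Agent.Lib.Helper9.SLP

variable {G : Type*} [Group G] {F : Type*} [Field F]

section bn

variable (ψ : F → G) (t h : G) (ζ : F) (hζ : ζ ≠ 0)
  (hadd : ∀ a b, ψ (a + b) = ψ a * ψ b)
  (hconj : ∀ a, h * ψ a * h⁻¹ = ψ (ζ ^ 2 * a))
  (hth : t * h * t⁻¹ = h⁻¹)
  (ht2 : ∃ j0 : ℤ, t * t = h ^ j0)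
  (hW : ∀ a : F, a ≠ 0 → ∃ m : ℤ, t * ψ a * t⁻¹ = ψ (-a⁻¹) * h ^ m * t * ψ (-a⁻¹))

/-- the Borel part -/
def bnS1 : Set G := {g | ∃ (a : F) (m : ℤ), g = ψ a * h ^ m}

/-- the big cell -/
def bnS2 : Set G := {g | ∃ (a : F) (m : ℤ) (b : F), g = ψ a * h ^ m * t * ψ b}

include hζ hadd hconj in
theorem s1_mul_psi {g : G} (hg : g ∈ bnS1 ψ h) (c : F) : g * ψ c ∈ bnS1 ψ h := by
  obtain ⟨a, m, rfl⟩ := hg
  refine ⟨a + (ζ ^ 2) ^ m * c, m, ?_⟩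
  rw [hadd, ← psi_conj_zpow ψ h ζ hζ hconj m c]
  group

theorem s1_mul_h {g : G} (hg : g ∈ bnS1 ψ h) (k : ℤ) : g * h ^ k ∈ bnS1 ψ h := by
  obtain ⟨a, m, rfl⟩ := hg
  exact ⟨a, m + k, by rw [zpow_add, mul_assoc]⟩

include hadd in
theorem s1_mul_t {g : G} (hg : g ∈ bnS1 ψ h) : g * t ∈ bnS2 ψ t h := by
  obtain ⟨a, m, rfl⟩ := hg
  exact ⟨a, m, 0, by rw [psi_zero ψ hadd, mul_one]⟩

include hadd in
theorem s2_mul_psi {g : G} (hg : g ∈ bnS2 ψ t h) (c : F) : g * ψ c ∈ bnS2 ψ t h := by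
  obtain ⟨a, m, b, rfl⟩ := hg
  exact ⟨a, m, b + c, by rw [hadd, mul_assoc]⟩

include hζ hconj hth in
theorem s2_mul_h {g : G} (hg : g ∈ bnS2 ψ t h) (k : ℤ) : g * h ^ k ∈ bnS2 ψ t h := by
  obtain ⟨a, m, b, rfl⟩ := hg
  refine ⟨a, m - k, (ζ ^ 2) ^ (-k) * b, ?_⟩
  rw [← psi_conj_zpow ψ h ζ hζ hconj (-k) b]
  have e := zpow_mul_t t h hth (-k)
  rw [neg_neg] at e
  have s1 : ψ a * h ^ m * t * ψ b * h ^ k = ψ a * h ^ m * (t * h ^ k) * ((h ^ k)⁻¹ * ψ b * h ^ k) := by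
    group
  rw [s1, ← e]
  group

include hζ hadd hconj hth ht2 hW in
theorem s_mul_t {g : G} (hg : g ∈ bnS1 ψ h ∪ bnS2 ψ t h) : g * t ∈ bnS1 ψ h ∪ bnS2 ψ t h := by
  rcases hg with hg | hg
  · exact Or.inr (s1_mul_t ψ t h hadd hg)
  · obtain ⟨a, m, b, rfl⟩ := hg
    obtain ⟨j0, hj0⟩ := ht2
    by_cases hb : b = 0
    · subst hb
      left
      refine ⟨a, m + j0, ?_⟩
      rw [psi_zero ψ hadd, mul_one, mul_assoc, hj0, zpow_add, mul_assoc]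
    · obtain ⟨m', hm'⟩ := hW b hb
      have e : ψ a * h ^ m * t * ψ b * t =
          ψ a * h ^ m * ψ (-b⁻¹) * h ^ m' * t * ψ (-b⁻¹) * h ^ j0 := by
        have : ψ a * h ^ m * t * ψ b * t = ψ a * h ^ m * (t * ψ b * t⁻¹) * (t * t) := by group
        rw [this, hm', hj0]
        simp only [mul_assoc]
      rw [e]
      have h1 : ψ a * h ^ m ∈ bnS1 ψ h := ⟨a, m, rfl⟩
      have h2 := s1_mul_h ψ h (s1_mul_psi ψ h ζ hζ hadd hconj h1 (-b⁻¹)) m'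
      have h3 := s1_mul_t ψ t h hadd h2
      have h4 := s2_mul_h ψ t h ζ hζ hconj hth (s2_mul_psi ψ t h hadd h3 (-b⁻¹)) j0
      exact Or.inr h4

include hζ hadd hconj hth ht2 hW in
theorem bn_closure (g : G) (hg : g ∈ Subgroup.closure ({ψ 1, t, h} : Set G)) :
    g ∈ bnS1 ψ h ∪ bnS2 ψ t h := by
  have hpsi : ∀ g ∈ bnS1 ψ h ∪ bnS2 ψ t h, ∀ c : F, g * ψ c ∈ bnS1 ψ h ∪ bnS2 ψ t h := by
    intro g hg c
    rcases hg with hg | hg
    · exact Or.inl (s1_mul_psi ψ h ζ hζ hadd hconj hg c)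
    · exact Or.inr (s2_mul_psi ψ t h hadd hg c)
  have hh : ∀ g ∈ bnS1 ψ h ∪ bnS2 ψ t h, ∀ k : ℤ, g * h ^ k ∈ bnS1 ψ h ∪ bnS2 ψ t h := by
    intro g hg k
    rcases hg with hg | hg
    · exact Or.inl (s1_mul_h ψ h hg k)
    · exact Or.inr (s2_mul_h ψ t h ζ hζ hconj hth hg k)
  have ht := fun g hg => s_mul_t ψ t h ζ hζ hadd hconj hth ht2 hW (g := g) hg
  have htinv : ∀ g ∈ bnS1 ψ h ∪ bnS2 ψ t h, g * t⁻¹ ∈ bnS1 ψ h ∪ bnS2 ψ t h := by
    intro g hg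
    obtain ⟨j0, hj0⟩ := ht2
    have : t⁻¹ = t * h ^ (-j0) := by
      rw [zpow_neg, ← hj0]; group
    rw [this, ← mul_assoc]
    exact hh _ (ht g hg) _
  induction hg using Subgroup.closure_induction_right with
  | one => exact Or.inl ⟨0, 0, by rw [psi_zero ψ hadd]; simp⟩
  | mul_right x hx y hy ih =>
    rcases hy with rfl | rfl | rfl
    · exact hpsi x ih 1
    · exact ht x ih
    · simpa using hh x ih 1
  | mul_inv_cancel x hx y hy ih =>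
    rcases hy with rfl | rfl | rfl
    · rw [← psi_neg ψ hadd]; exact hpsi x ih (-1)
    · exact htinv x ih
    · simpa using hh x ih (-1)

include hζ hadd hconj hth ht2 hW in
theorem bn_card [Finite F] (hgen : Subgroup.closure ({ψ 1, t, h} : Set G) = ⊤)
    (hfin : IsOfFinOrder h) :
    Finite G ∧ Nat.card G ≤ Nat.card F * orderOf h * (Nat.card F + 1) := by
  haveI : Finite (Subgroup.zpowers h) := hfin.finite_zpowers.to_subtype
  let f : (F × Subgroup.zpowers h) ⊕ (F × Subgroup.zpowers h × F) → G := fun x =>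
    match x with
    | Sum.inl (a, T) => ψ a * (T : G)
    | Sum.inr (a, T, b) => ψ a * (T : G) * t * ψ b
  have hf : Function.Surjective f := by
    intro g
    have hg : g ∈ Subgroup.closure ({ψ 1, t, h} : Set G) := by rw [hgen]; trivial
    rcases bn_closure ψ t h ζ hζ hadd hconj hth ht2 hW g hg with ⟨a, m, rfl⟩ | ⟨a, m, b, rfl⟩
    · exact ⟨Sum.inl (a, ⟨h ^ m, Subgroup.zpow_mem_zpowers h m⟩), rfl⟩
    · exact ⟨Sum.inr (a, ⟨h ^ m, Subgroup.zpow_mem_zpowers h m⟩, b), rfl⟩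
  refine ⟨Finite.of_surjective f hf, ?_⟩
  refine (Nat.card_le_card_of_surjective f hf).trans ?_
  rw [Nat.card_sum, Nat.card_prod, Nat.card_prod, Nat.card_prod, Nat.card_zpowers]
  apply le_of_eq
  ring

end bn

end Cfsg.Agent.Lib.Helper9.SLP
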