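import Mathlib
import Cfsg.Agent.Lib.Helper9.SLP4

set_option autoImplicit false

/-!
# Presentations of `SL₂(q)`: the abstract upper bound
-/

namespace Cfsg.Agent.Lib.Helper9.SLP

open Polynomial

variable {G : Type*} [Group G] {F : Type*} [Field F] [Fintype F]

/-- the upper bound for a group satisfying the relations -/
theorem abstract_bounds (p : ℕ) [Fact p.Prime]
    (ev : (ZMod p)[X] →+* F) (hsurj : Function.Surjective ev) (m : (ZMod p)[X])
    (hker : ∀ f, ev f = 0 → m ∣ f) (ζ : F) (hζ : ζ ≠ 0)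
    (hζgen : ∀ a : F, a ≠ 0 → ∃ j : ℕ, ζ ^ j = a) (hlam : ev X = ζ ^ 2)
    (fz fz' : (ZMod p)[X]) (hfz : ev fz = ζ) (hfz' : ev fz' = -ζ⁻¹)
    (u t h : G) (hgen : Subgroup.closure ({u, t, h} : Set G) = ⊤)
    (H1 : u ^ p = 1) (H2 : ∀ i j : ℕ, Commute (cU u h i) (cU u h j)) (H3 : PW u h m = 1)
    (H4 : t * h * t⁻¹ = h⁻¹) (H5 : t * u * t⁻¹ = u⁻¹ * t * u⁻¹)
    (H6 : t * PW u h fz * t⁻¹ = PW u h fz' * h⁻¹ * t * PW u h fz') :
    Finite G ∧ Nat.card G ≤ Fintype.card F * (Fintype.card F - 1) * (Fintype.card F + 1) ∧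
      (t * t = 1 → (2 : F) ≠ 0 →
        2 * Nat.card G ≤ Fintype.card F * (Fintype.card F - 1) * (Fintype.card F + 1)) := by
  obtain ⟨ψ, hadd, hψ, hconj'⟩ := exists_psi u h H1 H2 ev hsurj m hker H3
  have hconj : ∀ a, h * ψ a * h⁻¹ = ψ (ζ ^ 2 * a) := by
    intro a; rw [hconj', hlam]
  have hψ1 : ψ 1 = u := by
    have := hψ 1
    rwa [map_one, PW_one] at this
  have hψm1 : ψ (-1) = u⁻¹ := by rw [psi_neg ψ hadd, hψ1]
  have hψz : ψ ζ = PW u h fz := by rw [← hfz, hψ]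
  have hψz' : ψ (-ζ⁻¹) = PW u h fz' := by rw [← hfz', hψ]
  have hW1 : t * ψ 1 * t⁻¹ = ψ (-1) * t * ψ (-1) := by rw [hψ1, hψm1, H5]
  have hWz : t * ψ ζ * t⁻¹ = ψ (-ζ⁻¹) * h⁻¹ * t * ψ (-ζ⁻¹) := by rw [hψz, hψz', H6]
  have hall := weyl_all ψ t h ζ hζ hconj H4 hW1 hWz
  have hq : 2 ≤ Fintype.card F := Fintype.one_lt_card
  have hζq : ζ ^ ((Fintype.card F - 1 : ℕ) : ℤ) = 1 := by
    rw [zpow_natCast]; exact FiniteField.pow_card_sub_one_eq_one ζ hζ
  have hhq : h ^ (Fintype.card F - 1) = 1 := by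
    have := h_zpow_eq_one ψ t h ζ hζ hconj H4 hW1 hWz _ hζq
    rwa [zpow_natCast] at this
  obtain ⟨j0, hj0⟩ := hζgen (-1) (by simp)
  have ht2 : t * t = h ^ (j0 : ℤ) :=
    t_sq_eq ψ t h ζ hζ hconj H4 hW1 hWz hadd j0 (by rw [zpow_natCast]; exact hj0)
  have hW : ∀ a : F, a ≠ 0 → ∃ m : ℤ, t * ψ a * t⁻¹ = ψ (-a⁻¹) * h ^ m * t * ψ (-a⁻¹) := by
    intro a ha
    obtain ⟨j, rfl⟩ := hζgen a ha
    refine ⟨-(j : ℤ), ?_⟩
    have := hall j
    rwa [zpow_natCast] at this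
  have hfin : IsOfFinOrder h := isOfFinOrder_iff_pow_eq_one.mpr ⟨_, by omega, hhq⟩
  have hgen' : Subgroup.closure ({ψ 1, t, h} : Set G) = ⊤ := by rw [hψ1]; exact hgen
  obtain ⟨hF, hcard⟩ := bn_card ψ t h ζ hζ hadd hconj H4 ⟨j0, ht2⟩ hW hgen' hfin
  rw [Nat.card_eq_fintype_card (α := F)] at hcard
  have hdvd : orderOf h ∣ Fintype.card F - 1 := orderOf_dvd_of_pow_eq_one hhq
  have hle : orderOf h ≤ Fintype.card F - 1 := Nat.le_of_dvd (by omega) hdvd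
  refine ⟨hF, ?_, ?_⟩
  · refine hcard.trans ?_
    exact Nat.mul_le_mul_right _ (Nat.mul_le_mul_left _ hle)
  · intro htt h2
    have hj0' : h ^ j0 = 1 := by
      rw [← zpow_natCast, ← ht2, htt]
    have hdvd2 : orderOf h ∣ j0 := orderOf_dvd_of_pow_eq_one hj0'
    have hne : orderOf h ≠ Fintype.card F - 1 := by
      intro he
      rw [he] at hdvd2
      obtain ⟨r, rfl⟩ := hdvd2
      rw [pow_mul, FiniteField.pow_card_sub_one_eq_one ζ hζ, one_pow] at hj0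
      have : (2 : F) = 0 := by linear_combination hj0
      exact h2 this
    obtain ⟨r, hr⟩ := hdvd
    have hr2 : 2 ≤ r := by
      rcases r with _ | _ | r
      · omega
      · exfalso; apply hne; rw [hr]; ring
      · omega
    have h2le : 2 * orderOf h ≤ Fintype.card F - 1 := by
      rw [hr]; nlinarith
    calc 2 * Nat.card G ≤ 2 * (Fintype.card F * orderOf h * (Fintype.card F + 1)) :=
          Nat.mul_le_mul_left _ hcard
      _ = Fintype.card F * (2 * orderOf h) * (Fintype.card F + 1) := by ring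
      _ ≤ _ := Nat.mul_le_mul_right _ (Nat.mul_le_mul_left _ h2le)

end Cfsg.Agent.Lib.Helper9.SLP
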