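import Mathlib
import Cfsg.Agent.Lib.Helper9.SLP5

set_option autoImplicit false

/-!
# Presentations of `SL₂(q)`: deriving the commutation relations in the three schemes
-/

namespace Cfsg.Agent.Lib.Helper9.SLP

open Polynomial

variable {G : Type*} [Group G]

/-- scheme A: the minimal polynomial is linear -/
theorem H2_of_linear (p : ℕ) [Fact p.Prime] (u h : G) (c : ZMod p)
    (hm : PW u h (X - C c : (ZMod p)[X]) = 1) :
    ∀ i j : ℕ, Commute (cU u h i) (cU u h j) := by
  apply commute_cU_of_mem_zpowers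
  haveI : Fact (1 < p) := ⟨(Fact.out : p.Prime).one_lt⟩
  have h1 : PW u h (X - C c : (ZMod p)[X]) = u ^ (-c).val * cU u h 1 := by
    simp only [PW, natDegree_X_sub_C, PWn, one_mul, cU_zero]
    simp [coeff_X, coeff_C, ZMod.val_one]
  rw [h1] at hm
  have h2 : cU u h 1 = (u ^ (-c).val)⁻¹ := eq_inv_of_mul_eq_one_right hm
  rw [h2]
  exact Subgroup.inv_mem _ (Subgroup.pow_mem _ (Subgroup.mem_zpowers u) _)

/-- scheme B: two commutators and one additive relation -/
theorem H2_of_comm (u h : G) (hc1 : Commute u (cU u h 1)) (hc2 : Commute u (cU u h 2))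
    (a k : ℕ) (ha : a = 1 ∨ a = 2) (ε : ℤ) (hε : ε = 1 ∨ ε = -1)
    (hrel : cU u h k = u * cU u h a ^ ε) :
    ∀ i j : ℕ, Commute (cU u h i) (cU u h j) := by
  apply commute_cU_of_commute
  apply commute_all u h a k (by omega) ε hε _ hrel
  intro j hj
  have : j = 0 ∨ j = 1 ∨ j = 2 := by omega
  rcases this with rfl | rfl | rfl
  · rw [cU_zero]
  · exact hc1
  · exact hc2

/-- scheme B in characteristic two: the additive relation alone -/
theorem H2_of_char_two (u h : G) (hu : u ^ 2 = 1) (k : ℕ)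
    (hrel : cU u h k = u * cU u h 1) :
    ∀ i j : ℕ, Commute (cU u h i) (cU u h j) := by
  have hk := cU_pow_eq_one u h k 2 hu
  have h1 := cU_pow_eq_one u h 1 2 hu
  have hc1 : Commute u (cU u h 1) := by
    rw [hrel, pow_two] at hk
    rw [pow_two] at hu h1
    show u * cU u h 1 = cU u h 1 * u
    have e1 : u⁻¹ = u := inv_eq_of_mul_eq_one_left hu
    have e2 : (cU u h 1)⁻¹ = cU u h 1 := inv_eq_of_mul_eq_one_left h1
    have e3 : (u * cU u h 1)⁻¹ = u * cU u h 1 := inv_eq_of_mul_eq_one_left hk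
    rw [mul_inv_rev, e1, e2] at e3
    exact e3.symm
  apply commute_cU_of_commute
  apply commute_all u h 1 k (by omega) 1 (Or.inl rfl) _ (by rw [zpow_one]; exact hrel)
  intro j hj
  have : j = 0 ∨ j = 1 := by omega
  rcases this with rfl | rfl
  · rw [cU_zero]
  · exact hc1

theorem t_sq_of_char_two (u t : G) (hu : u ^ 2 = 1) (H5 : t * u * t⁻¹ = u⁻¹ * t * u⁻¹) :
    t * t = 1 := by
  have e1 : u⁻¹ = u := inv_eq_of_mul_eq_one_left (by rw [← pow_two]; exact hu)
  rw [e1] at H5
  have h1 : t = (u * t) * u * (u * t)⁻¹ := by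
    have : (u * t) * u * (u * t)⁻¹ = u * (t * u * t⁻¹) * u⁻¹ := by group
    rw [this, H5, e1]
    have : u * (u * t * u) * u = (u * u) * t * (u * u) := by group
    rw [this, ← pow_two, hu]; simp
  have h2 : t ^ 2 = 1 := by
    rw [h1, conj_pow, hu]; simp
  rwa [pow_two] at h2

/-- in characteristic two the inversion relation follows from the Weyl relation at `ζ` -/
theorem H4_of_char_two (t h A B : G) (hA : A * A = 1) (hB : B * B = 1) (ht : t * t = 1)
    (H6 : t * A * t⁻¹ = B * h⁻¹ * t * B) : t * h * t⁻¹ = h⁻¹ := by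
  have eA : A⁻¹ = A := inv_eq_of_mul_eq_one_left hA
  have eB : B⁻¹ = B := inv_eq_of_mul_eq_one_left hB
  have et : t⁻¹ = t := inv_eq_of_mul_eq_one_left ht
  rw [et] at H6 ⊢
  have h1 : h⁻¹ = B * t * A * t * B * t := by
    have : h⁻¹ = B⁻¹ * (B * h⁻¹ * t * B) * B⁻¹ * t⁻¹ := by group
    rw [this, ← H6, eB, et]
    simp only [mul_assoc]
  have h2 : h = t * B * t * A * t * B := by
    have : h = (h⁻¹)⁻¹ := (inv_inv h).symm
    rw [this, h1]
    simp only [mul_inv_rev, eA, eB, et, mul_assoc]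
  rw [h1]
  nth_rewrite 1 [h2]
  have : t * (t * B * t * A * t * B) * t = (t * t) * B * t * A * t * B * t := by
    simp only [mul_assoc]
  rw [this, ht, one_mul]

end Cfsg.Agent.Lib.Helper9.SLP
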