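import Mathlib
import Cfsg.Agent.Lib.Helper9.SLP6

set_option autoImplicit false

/-!
# Presentations of `SL₂(q)`: the matrices
-/

namespace Cfsg.Agent.Lib.Helper9.SLP

open Matrix Polynomial

variable {F : Type*} [Field F]

/-- upper unitriangular -/
def mU (a : F) : SpecialLinearGroup (Fin 2) F := ⟨!![1, a; 0, 1], by simp [det_fin_two_of]⟩

/-- the Weyl element -/
def mT : SpecialLinearGroup (Fin 2) F := ⟨!![0, 1; -1, 0], by simp [det_fin_two_of]⟩

/-- diagonal -/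
def mH (z : Fˣ) : SpecialLinearGroup (Fin 2) F :=
  ⟨!![(z : F), 0; 0, ((z⁻¹ : Fˣ) : F)], by simp [det_fin_two_of]⟩

theorem mU_coe (a : F) : (mU a : Matrix (Fin 2) (Fin 2) F) = !![1, a; 0, 1] := rfl

theorem mT_coe : ((mT : SpecialLinearGroup (Fin 2) F) : Matrix (Fin 2) (Fin 2) F) =
    !![0, 1; -1, 0] := rfl

theorem mH_coe (z : Fˣ) : (mH z : Matrix (Fin 2) (Fin 2) F) =
    !![(z : F), 0; 0, ((z⁻¹ : Fˣ) : F)] := rfl

theorem mU_mul (a b : F) : mU a * mU b = mU (a + b) := by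
  ext i j
  fin_cases i <;> fin_cases j <;> simp [mU_coe, Matrix.mul_apply, Fin.sum_univ_two, add_comm]

theorem mU_zero : mU (0 : F) = 1 := by
  ext i j
  fin_cases i <;> fin_cases j <;> simp [mU_coe]

theorem mU_inv (a : F) : (mU a)⁻¹ = mU (-a) := by
  apply inv_eq_of_mul_eq_one_left
  rw [mU_mul, neg_add_cancel, mU_zero]

theorem mU_pow (a : F) (n : ℕ) : mU a ^ n = mU (n * a) := by
  induction n with
  | zero => simp [mU_zero]
  | succ n ih => rw [pow_succ, ih, mU_mul]; congr 1; push_cast; ring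

theorem mU_zpow (a : F) (n : ℤ) : mU a ^ n = mU (n * a) := by
  rcases le_total 0 n with hn | hn
  · obtain ⟨k, rfl⟩ := Int.eq_ofNat_of_zero_le hn
    rw [zpow_natCast, mU_pow]; simp
  · obtain ⟨k, hk⟩ := Int.eq_ofNat_of_zero_le (neg_nonneg.mpr hn)
    have : n = -(k : ℤ) := by omega
    subst this
    rw [_root_.zpow_neg, zpow_natCast, mU_pow, mU_inv]; congr 1; push_cast; ring

theorem mU_injective : Function.Injective (mU : F → SpecialLinearGroup (Fin 2) F) := by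
  intro a b hab
  have := congrArg (fun M : SpecialLinearGroup (Fin 2) F => (M : Matrix (Fin 2) (Fin 2) F) 0 1) hab
  simpa [mU_coe] using this

theorem mH_mul (z w : Fˣ) : mH z * mH w = mH (z * w) := by
  ext i j
  fin_cases i <;> fin_cases j <;>
    simp [mH_coe, Matrix.mul_apply, Fin.sum_univ_two, mul_comm]

theorem mH_one : mH (1 : Fˣ) = 1 := by
  ext i j
  fin_cases i <;> fin_cases j <;> simp [mH_coe]

theorem mH_inv (z : Fˣ) : (mH z)⁻¹ = mH z⁻¹ := by
  apply inv_eq_of_mul_eq_one_left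
  rw [mH_mul, inv_mul_cancel, mH_one]

theorem mH_pow (z : Fˣ) (n : ℕ) : mH z ^ n = mH (z ^ n) := by
  induction n with
  | zero => simp [mH_one]
  | succ n ih => rw [pow_succ, ih, mH_mul, pow_succ]

theorem mH_mU (z : Fˣ) (a : F) : mH z * mU a = mU ((z : F) ^ 2 * a) * mH z := by
  ext i j
  fin_cases i <;> fin_cases j <;>
    simp [mH_coe, mU_coe, Matrix.mul_apply, Fin.sum_univ_two]
  field_simp

theorem mH_conj_mU (z : Fˣ) (a : F) : mH z * mU a * (mH z)⁻¹ = mU ((z : F) ^ 2 * a) := by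
  rw [mH_mU, mul_inv_cancel_right]

theorem mT_mH (z : Fˣ) : mT * mH z = mH z⁻¹ * mT := by
  ext i j
  fin_cases i <;> fin_cases j <;>
    simp [mH_coe, mT_coe, Matrix.mul_apply, Fin.sum_univ_two]

theorem mT_conj_mH (z : Fˣ) : mT * mH z * (mT : SpecialLinearGroup (Fin 2) F)⁻¹ = (mH z)⁻¹ := by
  rw [mT_mH, mul_inv_cancel_right, mH_inv]

theorem mT_mU (a : Fˣ) :
    mT * mU (a : F) = mU (-((a⁻¹ : Fˣ) : F)) * mH a⁻¹ * mT * mU (-((a⁻¹ : Fˣ) : F)) * mT := by
  ext i j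
  fin_cases i <;> fin_cases j <;>
    simp [mH_coe, mT_coe, mU_coe, Matrix.mul_apply, Fin.sum_univ_two]

theorem mT_conj_mU (a : Fˣ) :
    mT * mU (a : F) * (mT : SpecialLinearGroup (Fin 2) F)⁻¹ =
      mU (-((a⁻¹ : Fˣ) : F)) * mH a⁻¹ * mT * mU (-((a⁻¹ : Fˣ) : F)) := by
  rw [mT_mU, mul_inv_cancel_right]

theorem mT_mT : (mT : SpecialLinearGroup (Fin 2) F) * mT = mH (-1) := by
  ext i j
  fin_cases i <;> fin_cases j <;>
    simp [mH_coe, mT_coe, Matrix.mul_apply, Fin.sum_univ_two]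

end Cfsg.Agent.Lib.Helper9.SLP
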