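import Mathlib
import Cfsg.Agent.Lib.Helper9.SLP7

set_option autoImplicit false

/-!
# Presentations of `SL₂(q)`: evaluating the words on matrices, generation
-/

namespace Cfsg.Agent.Lib.Helper9.SLP

open Matrix Polynomial

variable {F : Type*} [Field F]

/-- lower unitriangular -/
def mL (c : F) : SpecialLinearGroup (Fin 2) F := ⟨!![1, 0; c, 1], by simp [det_fin_two_of]⟩

theorem mL_coe (c : F) : (mL c : Matrix (Fin 2) (Fin 2) F) = !![1, 0; c, 1] := rfl

theorem mL_mT (c : F) : mL c * mT = mT * mU (-c) := by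
  ext i j
  fin_cases i <;> fin_cases j <;>
    simp [mL_coe, mT_coe, mU_coe, Matrix.mul_apply, Fin.sum_univ_two]

theorem mL_eq (c : F) : mL c = mT * mU (-c) * (mT : SpecialLinearGroup (Fin 2) F)⁻¹ := by
  rw [← mL_mT, mul_inv_cancel_right]

theorem sl2_decomp (M : SpecialLinearGroup (Fin 2) F) (hc : M 1 0 ≠ 0) :
    M = mU ((M 0 0 - 1) / M 1 0) * mL (M 1 0) * mU ((M 1 1 - 1) / M 1 0) := by
  have hdet : M 0 0 * M 1 1 - M 0 1 * M 1 0 = 1 := by
    have := M.det_coe; rwa [det_fin_two] at this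
  ext i j
  fin_cases i <;> fin_cases j <;>
    simp [mL_coe, mU_coe, Matrix.mul_apply, Fin.sum_univ_two]
  · field_simp; ring
  · field_simp; linear_combination (-1 : F) * hdet
  · field_simp; ring

theorem mem_of_mU_mT (K : Subgroup (SpecialLinearGroup (Fin 2) F)) (hU : ∀ a : F, mU a ∈ K)
    (hT : mT ∈ K) : K = ⊤ := by
  have hL : ∀ c : F, mL c ∈ K := by
    intro c
    rw [mL_eq]
    exact K.mul_mem (K.mul_mem hT (hU _)) (K.inv_mem hT)
  have h1 : ∀ M : SpecialLinearGroup (Fin 2) F, M 1 0 ≠ 0 → M ∈ K := by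
    intro M hM
    rw [sl2_decomp M hM]
    exact K.mul_mem (K.mul_mem (hU _) (hL _)) (hU _)
  rw [eq_top_iff]
  intro M _
  by_cases hM : M 1 0 = 0
  · have hdet : M 0 0 * M 1 1 - M 0 1 * M 1 0 = 1 := by
      have := M.det_coe; rwa [det_fin_two] at this
    have ha : M 0 0 ≠ 0 := by
      intro h0
      rw [h0, hM] at hdet
      simp at hdet
    have h2 : mL 1 * M ∈ K := by
      apply h1
      simp [mL_coe, Matrix.mul_apply, Fin.sum_univ_two, hM, ha]
    have : M = (mL 1)⁻¹ * (mL 1 * M) := by group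
    rw [this]
    exact K.mul_mem (K.inv_mem (hL 1)) h2
  · exact h1 M hM

section ev

variable (p : ℕ) [Fact p.Prime] [CharP F p]

/-- evaluation of polynomials over the prime field -/
noncomputable def evl (lam : F) : (ZMod p)[X] →+* F :=
  Polynomial.eval₂RingHom (ZMod.castHom (dvd_refl p) F) lam

theorem evl_X (lam : F) : evl p lam X = lam := by simp [evl]

theorem evl_C (lam : F) (c : ZMod p) : evl p lam (C c) = (c.val : F) := by
  simp [evl, ZMod.natCast_val]

theorem evl_eq_sum (lam : F) (f : (ZMod p)[X]) :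
    evl p lam f = ∑ i ∈ Finset.range (f.natDegree + 1), ((f.coeff i).val : F) * lam ^ i := by
  simp only [evl, coe_eval₂RingHom]
  rw [eval₂_eq_sum_range]
  simp [ZMod.natCast_val]

theorem cU_mat (z : Fˣ) (i : ℕ) : cU (mU (1 : F)) (mH z) i = mU (((z : F) ^ 2) ^ i) := by
  rw [cU, mH_pow, mH_conj_mU]
  congr 1
  push_cast
  ring

theorem PWn_mat (z : Fˣ) (c : ℕ → ℕ) (n : ℕ) :
    PWn (mU (1 : F)) (mH z) c n = mU (∑ i ∈ Finset.range n, (c i : F) * ((z : F) ^ 2) ^ i) := by
  induction n with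
  | zero => simp [PWn, mU_zero]
  | succ n ih =>
    rw [PWn_succ, ih, cU_mat, mU_pow, mU_mul, Finset.sum_range_succ]

theorem PW_mat (z : Fˣ) (f : (ZMod p)[X]) :
    PW (mU (1 : F)) (mH z) f = mU (evl p ((z : F) ^ 2) f) := by
  rw [PW, PWn_mat, evl_eq_sum]

theorem closure_gens (z : Fˣ) (hsurj : Function.Surjective (evl p ((z : F) ^ 2))) :
    Subgroup.closure ({mU (1 : F), mT, mH z} : Set (SpecialLinearGroup (Fin 2) F)) = ⊤ := by
  apply mem_of_mU_mT
  · intro a
    obtain ⟨f, rfl⟩ := hsurj a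
    rw [← PW_mat]
    apply PW_mem
    · exact Subgroup.subset_closure (by simp)
    · exact Subgroup.subset_closure (by simp)
  · exact Subgroup.subset_closure (by simp)

end ev

end Cfsg.Agent.Lib.Helper9.SLP
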