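import Mathlib
import Cfsg.Agent.Lib.Helper9.SLP8

set_option autoImplicit false

/-!
# Presentations of `SL₂(q)`: the three relator schemes
-/

namespace Cfsg.Agent.Lib.Helper9.SLP

open Polynomial

variable {G : Type*} [Group G] {H : Type*} [Group H]

/-- the relations needed by `abstract_bounds` -/
def RelsHold (p : ℕ) (m fz fz' : (ZMod p)[X]) (u t h : G) : Prop :=
  u ^ p = 1 ∧ (∀ i j : ℕ, Commute (cU u h i) (cU u h j)) ∧ PW u h m = 1 ∧
    t * h * t⁻¹ = h⁻¹ ∧ t * u * t⁻¹ = u⁻¹ * t * u⁻¹ ∧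
    t * PW u h fz * t⁻¹ = PW u h fz' * h⁻¹ * t * PW u h fz'

/-- the basic relators -/
noncomputable def schemeA (p : ℕ) (m fz fz' : (ZMod p)[X]) (u t h : G) : List G :=
  [u ^ p, t * h * t⁻¹ * h, t * u * t⁻¹ * (u⁻¹ * t * u⁻¹)⁻¹,
    t * PW u h fz * t⁻¹ * (PW u h fz' * h⁻¹ * t * PW u h fz')⁻¹, PW u h m]

/-- the relators making the root group abelian -/
def schemeC (k a : ℕ) (ε : ℤ) (u h : G) : List G :=
  [u * cU u h 1 * u⁻¹ * (cU u h 1)⁻¹, u * cU u h 2 * u⁻¹ * (cU u h 2)⁻¹,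
    (cU u h k)⁻¹ * (u * cU u h a ^ ε)]

/-- the relators in characteristic two -/
noncomputable def scheme2 (m fz fz' : (ZMod 2)[X]) (k : ℕ) (u t h : G) : List G :=
  [u ^ 2, t * u * t⁻¹ * (u⁻¹ * t * u⁻¹)⁻¹,
    t * PW u h fz * t⁻¹ * (PW u h fz' * h⁻¹ * t * PW u h fz')⁻¹, PW u h m,
    (cU u h k)⁻¹ * (u * cU u h 1)]

theorem map_schemeA (φ : G →* H) (p : ℕ) (m fz fz' : (ZMod p)[X]) (u t h : G) :
    (schemeA p m fz fz' u t h).map φ = schemeA p m fz fz' (φ u) (φ t) (φ h) := by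
  simp [schemeA, map_PW]

theorem map_schemeC (φ : G →* H) (k a : ℕ) (ε : ℤ) (u h : G) :
    (schemeC k a ε u h).map φ = schemeC k a ε (φ u) (φ h) := by
  simp [schemeC, map_cU]

theorem map_scheme2 (φ : G →* H) (m fz fz' : (ZMod 2)[X]) (k : ℕ) (u t h : G) :
    (scheme2 m fz fz' k u t h).map φ = scheme2 m fz fz' k (φ u) (φ t) (φ h) := by
  simp [scheme2, map_PW, map_cU]

theorem schemeA_length (p : ℕ) (m fz fz' : (ZMod p)[X]) (u t h : G) :
    (schemeA p m fz fz' u t h).length = 5 := rfl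

theorem schemeC_length (k a : ℕ) (ε : ℤ) (u h : G) : (schemeC k a ε u h).length = 3 := rfl

theorem scheme2_length (m fz fz' : (ZMod 2)[X]) (k : ℕ) (u t h : G) :
    (scheme2 m fz fz' k u t h).length = 5 := rfl

theorem relsHold_of_schemeA (p : ℕ) [Fact p.Prime] (c : ZMod p) (fz fz' : (ZMod p)[X])
    (u t h : G) (hs : ∀ r ∈ schemeA p (X - C c) fz fz' u t h, r = 1) :
    RelsHold p (X - C c) fz fz' u t h := by
  simp only [schemeA, List.mem_cons, List.not_mem_nil, or_false, forall_eq_or_imp, forall_eq]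
    at hs
  obtain ⟨h1, h2, h3, h4, h5⟩ := hs
  refine ⟨h1, H2_of_linear p u h c h5, h5, ?_, ?_, ?_⟩
  · exact mul_eq_one_iff_eq_inv.mp h2
  · exact mul_inv_eq_one.mp h3
  · exact mul_inv_eq_one.mp h4

theorem relsHold_of_schemeAC (p : ℕ) [Fact p.Prime] (m fz fz' : (ZMod p)[X])
    (k a : ℕ) (ha : a = 1 ∨ a = 2) (ε : ℤ) (hε : ε = 1 ∨ ε = -1)
    (u t h : G) (hs : ∀ r ∈ schemeA p m fz fz' u t h ++ schemeC k a ε u h, r = 1) :
    RelsHold p m fz fz' u t h := by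
  simp only [schemeA, schemeC, List.cons_append, List.nil_append, List.mem_cons,
    List.not_mem_nil, or_false, forall_eq_or_imp, forall_eq] at hs
  obtain ⟨h1, h2, h3, h4, h5, h6, h7, h8⟩ := hs
  refine ⟨h1, ?_, h5, ?_, ?_, ?_⟩
  · apply H2_of_comm u h _ _ a k ha ε hε
    · exact (inv_mul_eq_one.mp h8).symm ▸ rfl
    · exact mul_inv_eq_one.mp (by rw [← h6]; group)
    · exact mul_inv_eq_one.mp (by rw [← h7]; group)
  · exact mul_eq_one_iff_eq_inv.mp h2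
  · exact mul_inv_eq_one.mp h3
  · exact mul_inv_eq_one.mp h4

theorem two_nsmul_poly (f : (ZMod 2)[X]) : 2 • f = 0 := by
  rw [two_nsmul]
  exact CharTwo.add_self_eq_zero f

theorem relsHold_of_scheme2 (m fz fz' : (ZMod 2)[X]) (k : ℕ)
    (u t h : G) (hs : ∀ r ∈ scheme2 m fz fz' k u t h, r = 1) :
    RelsHold 2 m fz fz' u t h ∧ t * t = 1 := by
  haveI : Fact (Nat.Prime 2) := ⟨Nat.prime_two⟩
  simp only [scheme2, List.mem_cons, List.not_mem_nil, or_false, forall_eq_or_imp, forall_eq]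
    at hs
  obtain ⟨h1, h3, h4, h5, h8⟩ := hs
  have H5 : t * u * t⁻¹ = u⁻¹ * t * u⁻¹ := mul_inv_eq_one.mp h3
  have H6 := mul_inv_eq_one.mp h4
  have H2 : ∀ i j : ℕ, Commute (cU u h i) (cU u h j) :=
    H2_of_char_two u h h1 k (inv_mul_eq_one.mp h8)
  have htt : t * t = 1 := t_sq_of_char_two u t h1 H5
  have hsq : ∀ f : (ZMod 2)[X], PW u h f * PW u h f = 1 := by
    intro f
    rw [← pow_two, ← PW_nsmul u h h1 H2, two_nsmul_poly, PW_zero]
  refine ⟨⟨h1, H2, h5, ?_, H5, H6⟩, htt⟩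
  exact H4_of_char_two t h _ _ (hsq fz) (hsq fz') htt H6

end Cfsg.Agent.Lib.Helper9.SLP
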