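import Mathlib
import Cfsg.Agent.Lib.Helper9.SLP9

set_option autoImplicit false

/-!
# Presentations of `SL₂(q)`: the relators hold in `SL₂(q)`
-/

namespace Cfsg.Agent.Lib.Helper9.SLP

open Matrix Polynomial

variable {F : Type*} [Field F]

theorem w1_mat : mT * mU (1 : F) * (mT : SpecialLinearGroup (Fin 2) F)⁻¹ *
    ((mU (1 : F))⁻¹ * mT * (mU (1 : F))⁻¹)⁻¹ = 1 := by
  have := mT_conj_mU (1 : Fˣ)
  simp only [Units.val_one, inv_one, mH_one, mul_one] at this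
  rw [this, mU_inv, mul_inv_cancel]

theorem comm_mat (a b : F) : mU a * mU b * (mU a)⁻¹ * (mU b)⁻¹ = 1 := by
  rw [mU_inv, mU_inv, mU_mul, mU_mul, mU_mul]
  rw [← mU_zero]; congr 1; ring

section ev

variable (p : ℕ) [Fact p.Prime] [CharP F p]

theorem wz_mat (z : Fˣ) (fz fz' : (ZMod p)[X]) (hfz : evl p ((z : F) ^ 2) fz = z)
    (hfz' : evl p ((z : F) ^ 2) fz' = -((z⁻¹ : Fˣ) : F)) :
    mT * PW (mU (1 : F)) (mH z) fz * (mT : SpecialLinearGroup (Fin 2) F)⁻¹ *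
      (PW (mU (1 : F)) (mH z) fz' * (mH z)⁻¹ * mT * PW (mU (1 : F)) (mH z) fz')⁻¹ = 1 := by
  rw [PW_mat, PW_mat, hfz, hfz', mT_conj_mU, mH_inv, mul_inv_cancel]

theorem schemeA_mat (z : Fˣ) (m fz fz' : (ZMod p)[X]) (hm : evl p ((z : F) ^ 2) m = 0)
    (hfz : evl p ((z : F) ^ 2) fz = z) (hfz' : evl p ((z : F) ^ 2) fz' = -((z⁻¹ : Fˣ) : F)) :
    ∀ r ∈ schemeA p m fz fz' (mU (1 : F)) mT (mH z), r = 1 := by
  simp only [schemeA, List.mem_cons, List.not_mem_nil, or_false, forall_eq_or_imp, forall_eq]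
  refine ⟨?_, ?_, w1_mat, wz_mat p z fz fz' hfz hfz', ?_⟩
  · rw [mU_pow, mul_one, CharP.cast_eq_zero, mU_zero]
  · rw [mT_conj_mH, inv_mul_cancel]
  · rw [PW_mat, hm, mU_zero]

theorem schemeC_mat (z : Fˣ) (k a : ℕ) (ε : ℤ)
    (hrel : ((z : F) ^ 2) ^ k = 1 + (ε : F) * ((z : F) ^ 2) ^ a) :
    ∀ r ∈ schemeC k a ε (mU (1 : F)) (mH z), r = 1 := by
  simp only [schemeC, List.mem_cons, List.not_mem_nil, or_false, forall_eq_or_imp, forall_eq]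
  refine ⟨?_, ?_, ?_⟩
  · rw [cU_mat]; exact comm_mat _ _
  · rw [cU_mat]; exact comm_mat _ _
  · rw [cU_mat, cU_mat, mU_zpow, mU_inv, mU_mul, mU_mul, hrel, ← mU_zero]
    congr 1; ring

end ev

theorem scheme2_mat [CharP F 2] (z : Fˣ) (m fz fz' : (ZMod 2)[X]) (k : ℕ)
    (hm : evl 2 ((z : F) ^ 2) m = 0)
    (hfz : evl 2 ((z : F) ^ 2) fz = z) (hfz' : evl 2 ((z : F) ^ 2) fz' = -((z⁻¹ : Fˣ) : F))
    (hrel : ((z : F) ^ 2) ^ k = 1 + (z : F) ^ 2) :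
    ∀ r ∈ scheme2 m fz fz' k (mU (1 : F)) mT (mH z), r = 1 := by
  haveI : Fact (Nat.Prime 2) := ⟨Nat.prime_two⟩
  simp only [scheme2, List.mem_cons, List.not_mem_nil, or_false, forall_eq_or_imp, forall_eq]
  refine ⟨?_, w1_mat, wz_mat 2 z fz fz' hfz hfz', ?_, ?_⟩
  · rw [mU_pow, mul_one]
    have : ((2 : ℕ) : F) = 0 := CharP.cast_eq_zero F 2
    rw [this, mU_zero]
  · rw [PW_mat, hm, mU_zero]
  · rw [cU_mat, cU_mat, mU_inv, mU_mul, mU_mul, hrel, pow_one, ← mU_zero]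
    congr 1; ring

end Cfsg.Agent.Lib.Helper9.SLP
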