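import Mathlib
import Cfsg.Agent.Lib.Helper9.SLP10

set_option autoImplicit false

/-!
# Presentations of `SL₂(q)`: facts about the finite field
-/

namespace Cfsg.Agent.Lib.Helper9.SLP

open Polynomial

variable {F : Type*} [Field F] [Fintype F]

theorem gen_pow (ζ : Fˣ) (hgen : ∀ x : Fˣ, x ∈ Subgroup.zpowers ζ) (a : F) (ha : a ≠ 0) :
    ∃ j : ℕ, (ζ : F) ^ j = a := by
  have h1 := hgen (Units.mk0 a ha)
  rw [← mem_powers_iff_mem_zpowers] at h1
  obtain ⟨j, hj⟩ := h1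
  refine ⟨j, ?_⟩
  have := congrArg (fun x : Fˣ => (x : F)) hj
  simpa using this

theorem orderOf_gen (ζ : Fˣ) (hgen : ∀ x : Fˣ, x ∈ Subgroup.zpowers ζ) :
    orderOf ζ = Fintype.card F - 1 := by
  rw [orderOf_eq_card_of_forall_mem_zpowers hgen, Nat.card_units, Nat.card_eq_fintype_card]

theorem le_two_mul_orderOf_sq (ζ : Fˣ) (hgen : ∀ x : Fˣ, x ∈ Subgroup.zpowers ζ) :
    Fintype.card F - 1 ≤ 2 * orderOf (ζ ^ 2) := by
  have h1 : ζ ^ (2 * orderOf (ζ ^ 2)) = 1 := by rw [pow_mul, pow_orderOf_eq_one]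
  have h2 := orderOf_dvd_of_pow_eq_one h1
  rw [orderOf_gen ζ hgen] at h2
  have hpos : 0 < orderOf (ζ ^ 2) := orderOf_pos _
  exact Nat.le_of_dvd (by omega) h2

section ev

variable (p : ℕ) [Fact p.Prime] [CharP F p]

theorem evl_surjective (ζ : Fˣ) (hgen : ∀ x : Fˣ, x ∈ Subgroup.zpowers ζ) :
    Function.Surjective (evl p ((ζ : F) ^ 2)) := by
  classical
  set lam : F := (ζ : F) ^ 2 with hlam
  let K : AddSubgroup F := (evl p lam).range.toAddSubgroup
  have hmem : ∀ i : ℕ, lam ^ i ∈ K := by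
    intro i
    refine ⟨X ^ i, ?_⟩
    rw [map_pow, evl_X]
  set o := orderOf (ζ ^ 2) with ho
  let g : Option (Fin o) → K := fun x =>
    match x with
    | none => ⟨0, K.zero_mem⟩
    | some i => ⟨lam ^ (i : ℕ), hmem i⟩
  have hlam0 : lam ≠ 0 := pow_ne_zero 2 ζ.ne_zero
  have hg : Function.Injective g := by
    intro x y hxy
    rcases x with _ | i <;> rcases y with _ | j
    · rfl
    · exfalso
      have := congrArg Subtype.val hxy
      exact pow_ne_zero _ hlam0 this.symm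
    · exfalso
      have := congrArg Subtype.val hxy
      exact pow_ne_zero _ hlam0 this
    · have h1 : lam ^ (i : ℕ) = lam ^ (j : ℕ) := congrArg Subtype.val hxy
      have h2 : (ζ ^ 2) ^ (i : ℕ) = (ζ ^ 2) ^ (j : ℕ) := by
        apply Units.ext
        push_cast
        exact h1
      have := pow_injOn_Iio_orderOf (x := ζ ^ 2) (Set.mem_Iio.mpr i.2) (Set.mem_Iio.mpr j.2) h2
      exact congrArg some (Fin.ext this)
  have hcard : o + 1 ≤ Nat.card K := by
    have := Nat.card_le_card_of_injective g hg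
    simpa using this
  have hdvd : Nat.card K ∣ Nat.card F := AddSubgroup.card_addSubgroup_dvd_card K
  rw [Nat.card_eq_fintype_card (α := F)] at hdvd
  have hle := le_two_mul_orderOf_sq ζ hgen
  have hq : 2 ≤ Fintype.card F := Fintype.one_lt_card
  obtain ⟨r, hr⟩ := hdvd
  have hr1 : r = 1 := by
    rcases r with _ | _ | r
    · omega
    · rfl
    · exfalso
      have : Fintype.card F ≥ Nat.card K * 2 := by rw [hr]; nlinarith
      omega
  rw [hr1, mul_one] at hr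
  have htop : K = ⊤ := AddSubgroup.eq_top_of_card_eq K (by rw [Nat.card_eq_fintype_card (α := F), hr])
  intro a
  have : a ∈ K := by rw [htop]; trivial
  exact this

theorem exists_ker_gen (lam : F) :
    ∃ m : (ZMod p)[X], evl p lam m = 0 ∧ ∀ f, evl p lam f = 0 → m ∣ f := by
  refine ⟨Submodule.IsPrincipal.generator (RingHom.ker (evl p lam)), ?_, ?_⟩
  · exact (RingHom.mem_ker).mp (Submodule.IsPrincipal.generator_mem _)
  · intro f hf
    exact (Submodule.IsPrincipal.mem_iff_generator_dvd _).mp ((RingHom.mem_ker).mpr hf)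

theorem evl_C' (lam : F) (c : ZMod p) :
    evl p lam (C c) = ZMod.castHom (dvd_refl p) F c := by
  simp [evl]

theorem ker_linear (c : ZMod p) :
    evl p (ZMod.castHom (dvd_refl p) F c) (X - C c) = 0 ∧
      ∀ f, evl p (ZMod.castHom (dvd_refl p) F c) f = 0 → (X - C c) ∣ f := by
  refine ⟨by rw [map_sub, evl_X, evl_C', sub_self], ?_⟩
  intro f hf
  rw [dvd_iff_isRoot, IsRoot.def]
  have h1 : evl p (ZMod.castHom (dvd_refl p) F c) f =
      ZMod.castHom (dvd_refl p) F (eval c f) := by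
    simp only [evl, coe_eval₂RingHom]
    exact eval₂_at_apply _ _
  rw [h1] at hf
  exact (map_eq_zero_iff _ (RingHom.injective _)).mp hf

theorem lam_ne_of_not_mem (lam : F) (hB : ¬ ∃ c : ZMod p, ZMod.castHom (dvd_refl p) F c = lam) :
    lam ≠ 1 ∧ lam ≠ -1 := by
  constructor
  · rintro rfl
    exact hB ⟨1, map_one _⟩
  · rintro rfl
    exact hB ⟨-1, by rw [map_neg, map_one]⟩

end ev

theorem exists_add_rel (ζ : Fˣ) (hgen : ∀ x : Fˣ, x ∈ Subgroup.zpowers ζ)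
    (h1 : (ζ : F) ^ 2 ≠ 1) (h2 : (ζ : F) ^ 2 ≠ -1) :
    ∃ a k : ℕ, ∃ ε : ℤ, (a = 1 ∨ a = 2) ∧ (ε = 1 ∨ ε = -1) ∧
      ((ζ : F) ^ 2) ^ k = 1 + (ε : F) * ((ζ : F) ^ 2) ^ a := by
  have hp : (1 : F) + (ζ : F) ^ 2 ≠ 0 := by
    intro h; apply h2; linear_combination h
  have hm : (1 : F) - (ζ : F) ^ 2 ≠ 0 := by
    intro h; apply h1; linear_combination -h
  obtain ⟨i, hi⟩ := gen_pow ζ hgen _ hp
  obtain ⟨j, hj⟩ := gen_pow ζ hgen _ hm
  rcases Nat.even_or_odd' i with ⟨i', rfl | rfl⟩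
  · refine ⟨1, i', 1, Or.inl rfl, Or.inl rfl, ?_⟩
    rw [← pow_mul, hi]; simp
  · rcases Nat.even_or_odd' j with ⟨j', rfl | rfl⟩
    · refine ⟨1, j', -1, Or.inl rfl, Or.inr rfl, ?_⟩
      rw [← pow_mul, hj]; simp; ring
    · refine ⟨2, i' + j' + 1, -1, Or.inr rfl, Or.inr rfl, ?_⟩
      have : ((ζ : F) ^ 2) ^ (i' + j' + 1) = (ζ : F) ^ (2 * i' + 1) * (ζ : F) ^ (2 * j' + 1) := by
        rw [← pow_mul, ← pow_add]; congr 1; ring
      rw [this, hi, hj]; simp; ring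

theorem exists_add_rel_two [CharP F 2] (ζ : Fˣ) (hgen : ∀ x : Fˣ, x ∈ Subgroup.zpowers ζ)
    (h1 : (ζ : F) ^ 2 ≠ 1) :
    ∃ k : ℕ, ((ζ : F) ^ 2) ^ k = 1 + (ζ : F) ^ 2 := by
  haveI : Fact (Nat.Prime 2) := ⟨Nat.prime_two⟩
  obtain ⟨y, hy⟩ := surjective_frobenius F 2 (1 + (ζ : F) ^ 2)
  rw [frobenius_def] at hy
  have hy0 : y ≠ 0 := by
    rintro rfl
    apply h1
    have h3 : (1 : F) + (ζ : F) ^ 2 = 0 := by rw [← hy]; simp
    have h4 : (-1 : F) = 1 := by
      rw [neg_eq_iff_add_eq_zero]; exact CharTwo.add_self_eq_zero 1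
    linear_combination h3 + h4
  obtain ⟨l, hl⟩ := gen_pow ζ hgen y hy0
  refine ⟨l, ?_⟩
  rw [← hy, ← hl, ← pow_mul, ← pow_mul, mul_comm]

end Cfsg.Agent.Lib.Helper9.SLP
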