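import Mathlib
import Cfsg.Agent.S0991
import Cfsg.Agent.S0493
import Cfsg.Agent.S0144
import Cfsg.Agent.Lib.Helper3.NC

set_option autoImplicit false

/-!
# Basic tools for excluding orders of non-abelian simple groups
-/

namespace Cfsg.Agent.Lib.Helper9.SmallOrd

open Subgroup

variable {G : Type*} [Group G] [Finite G] [IsSimpleGroup G]

theorem comm_of_solvable (h : Group.IsSolvable G) : IsMulCommutative G :=
  ⟨⟨fun a b => IsSimpleGroup.comm_iff_isSolvable.2 h a b⟩⟩

theorem comm_of_cyclic (h : IsCyclic G) : IsMulCommutative G :=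
  ⟨⟨fun a b => h.commGroup.mul_comm a b⟩⟩

/-- Burnside: orders `p^a q^b`. -/
theorem paqb (hG : ¬ IsMulCommutative G) (p q a b : ℕ) (hp : p.Prime) (hq : q.Prime)
    (h : Nat.card G = p ^ a * q ^ b) : False :=
  hG (comm_of_solvable (Cfsg.Agent.S0144.result p q a b hp hq h))

/-- orders `2 * odd`. -/
theorem two_odd (hG : ¬ IsMulCommutative G) (m : ℕ) (hm : Odd m) (h : Nat.card G = 2 * m) : False :=
  hG (comm_of_cyclic (Cfsg.Agent.S0493.cyclic_of_two_odd m hm h))

theorem normal_absurd (N : Subgroup G) (hN : N.Normal) (h1 : N ≠ ⊥) (h2 : N ≠ ⊤) : False :=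
  (hN.eq_bot_or_eq_top).elim h1 h2

theorem center_eq_bot (hG : ¬ IsMulCommutative G) : Subgroup.center G = ⊥ := by
  rcases (inferInstance : (Subgroup.center G).Normal).eq_bot_or_eq_top with h | h
  · exact h
  · exfalso
    apply hG
    refine ⟨⟨fun a b => ?_⟩⟩
    have hb : b ∈ Subgroup.center G := by rw [h]; trivial
    exact (Subgroup.mem_center_iff.mp hb a)

/-- the index of a proper subgroup `H` satisfies `2 |G| ∣ (index H)!`. -/
theorem two_mul_card_dvd_factorial (hG : ¬ IsMulCommutative G) (H : Subgroup G) (hH : H ≠ ⊤) :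
    2 * Nat.card G ∣ (H.index).factorial := by
  classical
  obtain ⟨f, hf⟩ := Cfsg.Agent.S0991.result hG H hH
  have h1 : Nat.card G ∣ Nat.card (alternatingGroup (Fin H.index)) :=
    Subgroup.card_dvd_of_injective f hf
  have hidx : 2 ≤ H.index := by
    have h0 : H.index ≠ 0 := Subgroup.index_ne_zero_of_finite
    have h1 : H.index ≠ 1 := fun h => hH (Subgroup.index_eq_one.mp h)
    omega
  have : Nontrivial (Fin H.index) := Fin.nontrivial_iff_two_le.mpr hidx
  have h2 : 2 * Nat.card (alternatingGroup (Fin H.index)) = (H.index).factorial := by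
    rw [Nat.card_eq_fintype_card, two_mul_card_alternatingGroup, Fintype.card_perm, Fintype.card_fin]
  rw [← h2]
  exact Nat.mul_dvd_mul_left 2 h1

/-- every prime divisor of `|G|` is at most the index of a proper subgroup. -/
theorem prime_le_index (hG : ¬ IsMulCommutative G) (H : Subgroup G) (hH : H ≠ ⊤) {r : ℕ}
    (hr : r.Prime) (hrG : r ∣ Nat.card G) : r ≤ H.index := by
  have h := two_mul_card_dvd_factorial hG H hH
  have : r ∣ (H.index).factorial := dvd_trans (dvd_trans hrG (Dvd.intro_left 2 rfl)) h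
  exact (Nat.Prime.dvd_factorial hr).mp this

section sylow

variable {p : ℕ} [hp : Fact p.Prime]

/-- Data about Sylow `p`-subgroups of a non-abelian simple group of order `p^a m`. -/
theorem sylow_data (hG : ¬ IsMulCommutative G) (a m : ℕ) (ha : 0 < a) (hm : 1 < m)
    (hcard : Nat.card G = p ^ a * m) (hpm : ¬ p ∣ m) (P : Sylow p G) :
    Nat.card P = p ^ a ∧ (P : Subgroup G) ≠ ⊥ ∧ (P : Subgroup G) ≠ ⊤ ∧
      Nat.card (Sylow p G) ∣ m ∧ Nat.card (Sylow p G) % p = 1 ∧ Nat.card (Sylow p G) ≠ 1 ∧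
      normalizer ((P : Subgroup G) : Set G) ≠ ⊤ ∧
      Nat.card (normalizer ((P : Subgroup G) : Set G)) * Nat.card (Sylow p G) = Nat.card G ∧
      2 * Nat.card G ∣ (Nat.card (Sylow p G)).factorial := by
  have hPcard : Nat.card P = p ^ a :=
    Cfsg.Agent.Lib.Helper3.sylow_card_eq_of_card_eq P a m hcard hpm
  have hPidx : (P : Subgroup G).index = m :=
    Cfsg.Agent.Lib.Helper3.sylow_index_eq_of_card_eq P a m hcard hpm
  have hpa : 1 < p ^ a := Nat.one_lt_pow ha.ne' hp.1.one_lt
  have hPbot : (P : Subgroup G) ≠ ⊥ := by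
    intro h
    have : Nat.card (P : Subgroup G) = 1 := by rw [h]; exact Subgroup.card_bot
    omega
  have hPtop : (P : Subgroup G) ≠ ⊤ := by
    intro h
    have : (P : Subgroup G).index = 1 := by rw [h]; exact Subgroup.index_top
    omega
  have hdvd : Nat.card (Sylow p G) ∣ m := hPidx ▸ P.card_dvd_index
  have hmod : Nat.card (Sylow p G) % p = 1 := by
    have h := card_sylow_modEq_one p G
    have h' : Nat.card (Sylow p G) % p = 1 % p := h
    rw [h', Nat.mod_eq_of_lt hp.1.one_lt]
  have hne1 : Nat.card (Sylow p G) ≠ 1 := by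
    intro h
    exact normal_absurd _ (Cfsg.Agent.Lib.Helper3.sylow_normal_of_card_eq_one P h) hPbot hPtop
  have hNtop : normalizer ((P : Subgroup G) : Set G) ≠ ⊤ := by
    intro h
    exact normal_absurd _ (Subgroup.normalizer_eq_top_iff.mp h) hPbot hPtop
  have hidx : (normalizer ((P : Subgroup G) : Set G)).index = Nat.card (Sylow p G) :=
    (Sylow.card_eq_index_normalizer P).symm
  refine ⟨hPcard, hPbot, hPtop, hdvd, hmod, hne1, hNtop, ?_, ?_⟩
  · rw [← hidx]; exact Subgroup.card_mul_index _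
  · rw [← hidx]; exact two_mul_card_dvd_factorial hG _ hNtop

/-- Some prime forces a unique Sylow subgroup. -/
theorem sylow_unique_kill (hG : ¬ IsMulCommutative G) (a m : ℕ) (ha : 0 < a) (hm : 1 < m)
    (hcard : Nat.card G = p ^ a * m) (hpm : ¬ p ∣ m)
    (hdiv : ∀ d ∈ Nat.divisors m, d % p = 1 → d = 1) : False := by
  obtain ⟨P⟩ : Nonempty (Sylow p G) := inferInstance
  obtain ⟨-, -, -, hdvd, hmod, hne1, -⟩ := sylow_data hG a m ha hm hcard hpm P
  exact hne1 (hdiv _ (Nat.mem_divisors.mpr ⟨hdvd, by omega⟩) hmod)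

/-- Burnside transfer for a Sylow subgroup of prime order. -/
theorem transfer_kill (P : Sylow p G) (k : ℕ) (hP : Nat.card P = p)
    (hPbot : (P : Subgroup G) ≠ ⊥) (hPtop : (P : Subgroup G) ≠ ⊤)
    (hN : Nat.card (normalizer ((P : Subgroup G) : Set G)) = p * k)
    (hk : Nat.Coprime k (p - 1)) : False := by
  have hPN : (P : Subgroup G).relIndex (normalizer ((P : Subgroup G) : Set G)) = k := by
    have h1 := ((P : Subgroup G).subgroupOf (normalizer ((P : Subgroup G) : Set G))).index_mul_card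
    rw [Nat.card_congr (Subgroup.subgroupOfEquivOfLe (le_normalizer : (P : Subgroup G) ≤ _)).toEquiv,
      hP, hN] at h1
    have h2 : (P : Subgroup G).relIndex (normalizer ((P : Subgroup G) : Set G)) * p = p * k := h1
    rw [mul_comm] at h2
    exact Nat.eq_of_mul_eq_mul_left hp.1.pos h2
  have hcyc : IsCyclic (P : Subgroup G) := isCyclic_of_prime_card hP
  have hcomm : IsMulCommutative (P : Subgroup G) := ⟨⟨fun a b => hcyc.commGroup.mul_comm a b⟩⟩
  have h1 := Cfsg.Agent.Lib.Helper3.relIndex_centralizer_normalizer_dvd_card_mulAut (P : Subgroup G)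
  rw [IsCyclic.card_mulAut, hP, Nat.totient_prime hp.1] at h1
  have h2 := Cfsg.Agent.Lib.Helper3.relIndex_centralizer_normalizer_dvd_relIndex (P : Subgroup G)
    (Cfsg.Agent.Lib.Helper3.le_centralizer_of_isMulCommutative (P : Subgroup G))
  rw [hPN] at h2
  have h3 : (centralizer ((P : Subgroup G) : Set G)).relIndex
      (normalizer ((P : Subgroup G) : Set G)) = 1 := by
    have := Nat.dvd_gcd h2 h1
    rw [hk] at this
    exact Nat.dvd_one.mp this
  have h4 : normalizer ((P : Subgroup G) : Set G) ≤ centralizer ((P : Subgroup G) : Set G) :=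
    relIndex_eq_one.mp h3
  rcases Cfsg.Agent.Lib.Helper3.sylow_eq_bot_or_top_of_normalizer_le_centralizer P h4 with h' | h'
  · exact hPbot h'
  · exact hPtop h'

end sylow

end Cfsg.Agent.Lib.Helper9.SmallOrd
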