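import Mathlib
import Cfsg.Agent.Lib.Helper9.SmallOrd1

set_option autoImplicit false

/-!
# Sylow counting with embedding and transfer
-/

namespace Cfsg.Agent.Lib.Helper9.SmallOrd

open Subgroup

variable {G : Type*} [Group G] [Finite G] [IsSimpleGroup G]

section sylow

variable {p : ℕ} [hp : Fact p.Prime]

/-- Burnside transfer when the Sylow subgroup is abelian and self-normalizing. -/
theorem transfer_kill_self (P : Sylow p G) (a : ℕ) (ha : a ≤ 2) (hP : Nat.card P = p ^ a)
    (hPbot : (P : Subgroup G) ≠ ⊥) (hPtop : (P : Subgroup G) ≠ ⊤)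
    (hN : Nat.card (normalizer ((P : Subgroup G) : Set G)) = p ^ a) : False := by
  have hNP : normalizer ((P : Subgroup G) : Set G) = (P : Subgroup G) := by
    symm
    apply Subgroup.eq_of_le_of_card_ge le_normalizer
    rw [hN, hP]
  have hcomm : IsMulCommutative (P : Subgroup G) := by
    interval_cases a
    · exfalso
      apply hPbot
      rw [pow_zero] at hP
      exact Subgroup.card_eq_one.mp hP
    · rw [pow_one] at hP
      have hcyc : IsCyclic (P : Subgroup G) := isCyclic_of_prime_card hP
      exact ⟨⟨fun a b => hcyc.commGroup.mul_comm a b⟩⟩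
    · exact IsPGroup.isMulCommutative_of_card_eq_prime_sq hP
  have h4 : normalizer ((P : Subgroup G) : Set G) ≤ centralizer ((P : Subgroup G) : Set G) := by
    rw [hNP]
    exact Cfsg.Agent.Lib.Helper3.le_centralizer_of_isMulCommutative (P : Subgroup G)
  rcases Cfsg.Agent.Lib.Helper3.sylow_eq_bot_or_top_of_normalizer_le_centralizer P h4 with h' | h'
  · exact hPbot h'
  · exact hPtop h'

/-- Sylow counting: every candidate for the number of Sylow `p`-subgroups is excluded by the
embedding into an alternating group or by Burnside's transfer theorem. -/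
theorem sylow_kill (hG : ¬ IsMulCommutative G) (a m : ℕ) (ha : 0 < a) (hm : 1 < m)
    (hcard : Nat.card G = p ^ a * m) (hpm : ¬ p ∣ m)
    (hdiv : ∀ d ∈ Nat.divisors m, d % p = 1 → d = 1 ∨ ¬ (2 * (p ^ a * m) ∣ d.factorial) ∨
      (a = 1 ∧ Nat.Coprime (m / d) (p - 1)) ∨ (d = m ∧ a ≤ 2)) : False := by
  obtain ⟨P⟩ : Nonempty (Sylow p G) := inferInstance
  obtain ⟨hPcard, hPbot, hPtop, hdvd, hmod, hne1, -, hNcard, hfact⟩ :=
    sylow_data hG a m ha hm hcard hpm P
  have hm0 : m ≠ 0 := by omega
  rcases hdiv _ (Nat.mem_divisors.mpr ⟨hdvd, hm0⟩) hmod with h | h | ⟨rfl, h⟩ | ⟨h, ha2⟩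
  · exact hne1 h
  · rw [hcard] at hfact
    exact h hfact
  · -- transfer
    obtain ⟨k, hk⟩ := hdvd
    have hd0 : 0 < Nat.card (Sylow p G) := Nat.card_pos
    have hmk : m / Nat.card (Sylow p G) = k := by
      rw [hk, Nat.mul_div_cancel_left _ hd0]
    rw [hmk] at h
    rw [pow_one] at hPcard hcard
    have hN : Nat.card (normalizer ((P : Subgroup G) : Set G)) = p * k := by
      rw [hcard, hk] at hNcard
      have : Nat.card (normalizer ((P : Subgroup G) : Set G)) * Nat.card (Sylow p G)
          = (p * k) * Nat.card (Sylow p G) := by rw [hNcard]; ring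
      exact Nat.eq_of_mul_eq_mul_right hd0 this
    exact transfer_kill P k hPcard hPbot hPtop hN h
  · have hN : Nat.card (normalizer ((P : Subgroup G) : Set G)) = p ^ a := by
      rw [hcard, h] at hNcard
      have hm1 : 0 < m := by omega
      exact Nat.eq_of_mul_eq_mul_right hm1 hNcard
    exact transfer_kill_self P a ha2 hPcard hPbot hPtop hN

end sylow

end Cfsg.Agent.Lib.Helper9.SmallOrd
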