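import Mathlib
import Cfsg.Agent.Lib.Helper9.SmallOrd2
import Cfsg.Agent.Lib.Helper3.Basic

set_option autoImplicit false

/-!
# The action on Sylow subgroups: parity and regular Sylow subgroups
-/

namespace Cfsg.Agent.Lib.Helper9.SmallOrd

open Subgroup MulAction

variable {G : Type*} [Group G] [Finite G] [IsSimpleGroup G]

/-- In a non-abelian simple group every element acts as an even permutation. -/
theorem sign_eq_one (hG : ¬ IsMulCommutative G) {Ω : Type*} [MulAction G Ω] [Fintype Ω]
    [DecidableEq Ω] (g : G) : Equiv.Perm.sign (MulAction.toPermHom G Ω g) = 1 := by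
  set φ := MulAction.toPermHom G Ω with hφ
  have hker : (Equiv.Perm.sign.comp φ).ker = ⊤ := by
    rcases (MonoidHom.normal_ker (Equiv.Perm.sign.comp φ)).eq_bot_or_eq_top with h1 | h1
    · exfalso
      apply hG
      have hinj : Function.Injective (Equiv.Perm.sign.comp φ) := (MonoidHom.ker_eq_bot_iff _).mp h1
      refine ⟨⟨fun a b => ?_⟩⟩
      apply hinj
      rw [map_mul, map_mul, mul_comm]
    · exact h1
  have : g ∈ (Equiv.Perm.sign.comp φ).ker := by rw [hker]; trivial
  exact this

/-- An element of order at most two moves a multiple of four points. -/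
theorem card_eq_fixed_add_four_mul (hG : ¬ IsMulCommutative G) {Ω : Type*} [MulAction G Ω]
    [Finite Ω] (t : G) (ht : t * t = 1) :
    ∃ k, Nat.card Ω = Nat.card {ω : Ω // t • ω = ω} + 4 * k := by
  classical
  haveI : Fintype Ω := Fintype.ofFinite Ω
  set σ := MulAction.toPermHom G Ω t with hσ
  have hsign : Equiv.Perm.sign σ = 1 := sign_eq_one hG t
  have hfix : Nat.card {ω : Ω // t • ω = ω} = Fintype.card Ω - σ.support.card := by
    rw [Nat.card_eq_fintype_card, Fintype.card_subtype, ← Finset.card_compl]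
    congr 1
    ext ω
    simp only [Finset.mem_filter, Finset.mem_univ, true_and, Finset.mem_compl,
      Equiv.Perm.mem_support, not_not]
    rfl
  have hle : σ.support.card ≤ Fintype.card Ω := Finset.card_le_univ _
  have hσσ : σ * σ = 1 := by rw [hσ, ← map_mul, ht, map_one]
  by_cases h1 : σ = 1
  · refine ⟨0, ?_⟩
    rw [hfix, h1, Equiv.Perm.support_one, Finset.card_empty, Nat.card_eq_fintype_card]
    simp
  · have hord : orderOf σ = 2 := by
      apply orderOf_eq_prime
      · rw [pow_two]; exact hσσ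
      · exact h1
    obtain ⟨n, hn⟩ := Equiv.Perm.cycleType_prime_order (σ := σ) (by rw [hord]; exact Nat.prime_two)
    rw [hord] at hn
    have hsupp : σ.support.card = (n + 1) * 2 := by
      rw [← Equiv.Perm.sum_cycleType, hn, Multiset.sum_replicate, smul_eq_mul]
    have heven : Even (n + 1) := by
      have hs := Equiv.Perm.sign_of_cycleType σ
      rw [hsign, hn, Multiset.sum_replicate, smul_eq_mul, Multiset.card_replicate] at hs
      have h1 : (-1 : ℤˣ) ^ ((n + 1) * 2 + (n + 1)) = 1 := hs.symm
      have hne : (-1 : ℤˣ) ≠ 1 := by decide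
      have h2 := (neg_one_pow_eq_one_iff_even hne).mp h1
      rcases Nat.even_or_odd (n + 1) with he | ho
      · exact he
      · exfalso
        have : Odd ((n + 1) * 2 + (n + 1)) := by
          obtain ⟨k, hk⟩ := ho
          exact ⟨3 * k + 1, by rw [hk]; ring⟩
        exact (Nat.not_even_iff_odd.mpr this) h2
    obtain ⟨k, hk⟩ := heven
    refine ⟨k, ?_⟩
    rw [hfix, Nat.card_eq_fintype_card]
    omega

section sylow

variable {p : ℕ} [hp : Fact p.Prime]

theorem smul_self_of_mem (P : Sylow p G) (x : G) (hx : x ∈ (P : Subgroup G)) : x • P = P :=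
  Sylow.smul_eq_iff_mem_normalizer.mpr (Subgroup.le_normalizer hx)

/-- An element fixing every Sylow `p`-subgroup is trivial. -/
theorem eq_one_of_fix_all (P : Sylow p G) (hN : normalizer ((P : Subgroup G) : Set G) ≠ ⊤)
    (g : G) (hg : ∀ Q : Sylow p G, g • Q = Q) : g = 1 := by
  have hgk : g ∈ (MulAction.toPermHom G (Sylow p G)).ker := by
    rw [MonoidHom.mem_ker]
    apply Equiv.ext
    intro Q
    simp only [MulAction.toPermHom_apply, MulAction.toPerm_apply, Equiv.Perm.coe_one, id_eq]
    exact hg Q
  rcases (MonoidHom.normal_ker (MulAction.toPermHom G (Sylow p G))).eq_bot_or_eq_top with h1 | h1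
  · rw [h1] at hgk
    exact Subgroup.mem_bot.mp hgk
  · exfalso
    apply hN
    rw [eq_top_iff]
    intro x _
    have hx : x ∈ (MulAction.toPermHom G (Sylow p G)).ker := by rw [h1]; trivial
    rw [MonoidHom.mem_ker] at hx
    have : x • P = P := by
      have := congrArg (fun σ : Equiv.Perm (Sylow p G) => σ P) hx
      simpa using this
    exact Sylow.smul_eq_iff_mem_normalizer.mp this

/-- `P` acts regularly on the other Sylow subgroups. -/
structure Reg (P : Sylow p G) : Prop where
  card : Nat.card (Sylow p G) = Nat.card P + 1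
  free : ∀ R : Sylow p G, R ≠ P → ∀ x ∈ (P : Subgroup G), x • R = R → x = 1

namespace Reg

variable {P : Sylow p G}

theorem smul_inj (h : Reg P) (R : Sylow p G) (hR : R ≠ P) (x x' : G)
    (hx : x ∈ (P : Subgroup G)) (hx' : x' ∈ (P : Subgroup G)) (hxx : x • R = x' • R) :
    x = x' := by
  have h1 : (x'⁻¹ * x) • R = R := by
    rw [mul_smul, hxx, inv_smul_smul]
  have h2 := h.free R hR (x'⁻¹ * x)
    ((P : Subgroup G).mul_mem ((P : Subgroup G).inv_mem hx') hx) h1
  have : x = x' * (x'⁻¹ * x) := by group
  rw [this, h2, mul_one]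

theorem smul_ne (R : Sylow p G) (hR : R ≠ P) (x : G) (hx : x ∈ (P : Subgroup G)) :
    x • R ≠ P := by
  intro hxP
  apply hR
  have : R = x⁻¹ • P := by
    rw [eq_inv_smul_iff]; exact hxP
  rw [this, smul_self_of_mem P _ ((P : Subgroup G).inv_mem hx)]

theorem exists_smul_eq (h : Reg P) (R S : Sylow p G) (hR : R ≠ P) (hS : S ≠ P) :
    ∃ x ∈ (P : Subgroup G), x • R = S := by
  classical
  let f : ↥(P : Subgroup G) → Sylow p G := fun x => (x : G) • R
  have hfinj : Function.Injective f := by
    intro x x' hxx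
    exact Subtype.ext (h.smul_inj R hR x x' x.2 x'.2 hxx)
  have hsub : Set.range f ⊆ (Set.univ : Set (Sylow p G)) \ {P} := by
    rintro _ ⟨x, rfl⟩
    refine ⟨Set.mem_univ _, ?_⟩
    intro hxP
    rw [Set.mem_singleton_iff] at hxP
    exact smul_ne R hR x x.2 hxP
  have hcard : ((Set.univ : Set (Sylow p G)) \ {P}).ncard = Nat.card P := by
    rw [Set.ncard_diff_singleton_of_mem (Set.mem_univ P), Set.ncard_univ, h.card]
    rfl
  have hrange : Set.range f = (Set.univ : Set (Sylow p G)) \ {P} := by
    apply Set.eq_of_subset_of_ncard_le hsub _ (Set.toFinite _)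
    rw [hcard, ← Nat.card_coe_set_eq, Nat.card_range_of_injective hfinj]
  have : S ∈ Set.range f := by
    rw [hrange]
    exact ⟨Set.mem_univ _, fun hS' => hS (Set.mem_singleton_iff.mp hS')⟩
  obtain ⟨x, rfl⟩ := this
  exact ⟨x, x.2, rfl⟩

theorem exists_ne (h : Reg P) : ∃ R : Sylow p G, R ≠ P := by
  by_contra hcon
  push Not at hcon
  have : Nat.card (Sylow p G) ≤ 1 := by
    rw [Finite.card_le_one_iff_subsingleton]
    exact ⟨fun a b => by rw [hcon a, hcon b]⟩
  have h2 := h.card
  have h3 : 0 < Nat.card P := Nat.card_pos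
  omega

/-- If `P` is abelian then it is self-centralizing. -/
theorem centralizer_le (h : Reg P) (hN : normalizer ((P : Subgroup G) : Set G) ≠ ⊤)
    (hab : ∀ a ∈ (P : Subgroup G), ∀ b ∈ (P : Subgroup G), a * b = b * a) :
    centralizer ((P : Subgroup G) : Set G) ≤ (P : Subgroup G) := by
  intro c hc
  obtain ⟨R, hR⟩ := h.exists_ne
  have hcN : c ∈ normalizer ((P : Subgroup G) : Set G) :=
    Subgroup.centralizer_le_normalizer _ hc
  have hcP : c • P = P := Sylow.smul_eq_iff_mem_normalizer.mpr hcN
  have hcR : c • R ≠ P := by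
    intro hcon
    apply hR
    have : R = c⁻¹ • P := by rw [eq_inv_smul_iff]; exact hcon
    rw [this, inv_smul_eq_iff, hcP]
  obtain ⟨y, hyP, hy⟩ := h.exists_smul_eq R (c • R) hR hcR
  have hcomm : ∀ x ∈ (P : Subgroup G), (y⁻¹ * c) * x = x * (y⁻¹ * c) := by
    intro x hx
    have h1 : c * x = x * c := ((Subgroup.mem_centralizer_iff.mp hc) x hx).symm
    have h2 : y⁻¹ * x = x * y⁻¹ := hab _ ((P : Subgroup G).inv_mem hyP) _ hx
    calc y⁻¹ * c * x = y⁻¹ * (c * x) := by group
      _ = y⁻¹ * (x * c) := by rw [h1]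
      _ = (y⁻¹ * x) * c := by group
      _ = (x * y⁻¹) * c := by rw [h2]
      _ = x * (y⁻¹ * c) := by group
  have hzR : (y⁻¹ * c) • R = R := by
    rw [mul_smul, ← hy, inv_smul_smul]
  have hz : y⁻¹ * c = 1 := by
    apply eq_one_of_fix_all P hN
    intro Q
    by_cases hQ : Q = P
    · rw [hQ, mul_smul, hcP, smul_self_of_mem P _ ((P : Subgroup G).inv_mem hyP)]
    · obtain ⟨x, hxP, hx⟩ := h.exists_smul_eq R Q hR hQ
      rw [← hx, ← mul_smul, hcomm x hxP, mul_smul, hzR]
  have : c = y := by
    calc c = y * (y⁻¹ * c) := by group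
      _ = y := by rw [hz, mul_one]
  rw [this]; exact hyP

/-- The number of fixed points of an element normalizing `P` and fixing another point. -/
theorem card_fixed (h : Reg P) (t : G) (htP : t • P = P) (R : Sylow p G) (hR : R ≠ P)
    (htR : t • R = R) :
    Nat.card {S : Sylow p G // t • S = S}
      = Nat.card ((P : Subgroup G) ⊓ centralizer ({t} : Set G) : Subgroup G) + 1 := by
  classical
  set C : Subgroup G := (P : Subgroup G) ⊓ centralizer ({t} : Set G) with hC
  have hCmem : ∀ x, x ∈ C ↔ x ∈ (P : Subgroup G) ∧ t * x * t⁻¹ = x := by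
    intro x
    rw [hC, Subgroup.mem_inf, mem_centralizer_iff]
    constructor
    · rintro ⟨h1, h2⟩
      refine ⟨h1, ?_⟩
      rw [h2 t (Set.mem_singleton t)]; group
    · rintro ⟨h1, h2⟩
      refine ⟨h1, ?_⟩
      intro y hy
      rw [Set.mem_singleton_iff] at hy
      rw [hy]
      calc t * x = (t * x * t⁻¹) * t := by group
        _ = x * t := by rw [h2]
  have htN : t ∈ normalizer ((P : Subgroup G) : Set G) := Sylow.smul_eq_iff_mem_normalizer.mp htP
  let f : C → Sylow p G := fun x => (x : G) • R
  have hfinj : Function.Injective f := by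
    intro x x' hxx
    exact Subtype.ext (h.smul_inj R hR x x' ((hCmem x).mp x.2).1 ((hCmem x').mp x'.2).1 hxx)
  have hF : {S : Sylow p G | t • S = S} = insert P (Set.range f) := by
    ext S
    simp only [Set.mem_setOf_eq, Set.mem_insert_iff, Set.mem_range]
    constructor
    · intro hS
      by_cases hSP : S = P
      · exact Or.inl hSP
      · right
        obtain ⟨x, hxP, hxS⟩ := h.exists_smul_eq R S hR hSP
        have hconj : (t * x * t⁻¹) • R = x • R := by
          rw [mul_smul, mul_smul]
          have : t⁻¹ • R = R := by rw [inv_smul_eq_iff, htR]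
          rw [this, hxS, hS]
        have hcP : t * x * t⁻¹ ∈ (P : Subgroup G) := (mem_normalizer_iff.mp htN x).mp hxP
        have := h.smul_inj R hR _ _ hcP hxP hconj
        exact ⟨⟨x, (hCmem x).mpr ⟨hxP, this⟩⟩, hxS⟩
    · rintro (rfl | ⟨x, rfl⟩)
      · exact htP
      · simp only [f]
        have hx := ((hCmem x).mp x.2).2
        rw [← mul_smul]
        have : t * (x : G) = (x : G) * t := by
          calc t * (x : G) = (t * x * t⁻¹) * t := by group
            _ = x * t := by rw [hx]
        rw [this, mul_smul, htR]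
  have hPnot : P ∉ Set.range f := by
    rintro ⟨x, hx⟩
    exact smul_ne R hR x ((hCmem x).mp x.2).1 hx
  have hFcard : {S : Sylow p G | t • S = S}.ncard = Nat.card C + 1 := by
    rw [hF, Set.ncard_insert_of_notMem hPnot (Set.toFinite _), ← Nat.card_coe_set_eq,
      Nat.card_range_of_injective hfinj]
  rw [← hFcard, ← Nat.card_coe_set_eq]
  rfl

end Reg

/-- Sylow subgroups of prime order with `p + 1` conjugates are regular. -/
theorem reg_of_prime (P : Sylow p G) (hP : Nat.card P = p)
    (hn : Nat.card (Sylow p G) = p + 1) : Reg P := by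
  refine ⟨by rw [hn, hP], ?_⟩
  intro R hR x hx hxR
  have h1 : x ∈ normalizer ((R : Subgroup G) : Set G) := Sylow.smul_eq_iff_mem_normalizer.mp hxR
  have h2 : x ∈ (P : Subgroup G) ⊓ (R : Subgroup G) := by
    rw [← P.2.inf_normalizer_sylow R]; exact ⟨hx, h1⟩
  have h3 : (P : Subgroup G) ⊓ (R : Subgroup G) = ⊥ := by
    have hdvd : Nat.card ((P : Subgroup G) ⊓ (R : Subgroup G) : Subgroup G) ∣ p := by
      have := Subgroup.card_dvd_of_le (inf_le_left : (P : Subgroup G) ⊓ (R : Subgroup G) ≤ P)
      rwa [hP] at this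
    rcases (Nat.dvd_prime hp.1).mp hdvd with h | h
    · exact Subgroup.card_eq_one.mp h
    · exfalso
      apply hR
      have h4 : (P : Subgroup G) ⊓ (R : Subgroup G) = (P : Subgroup G) := by
        apply Subgroup.eq_of_le_of_card_ge inf_le_left
        rw [h, hP]
      have h5 : (P : Subgroup G) ≤ (R : Subgroup G) := by
        rw [← h4]; exact inf_le_right
      exact (Cfsg.Agent.Lib.Helper3.sylow_eq_of_le P R h5).symm
  rw [h3] at h2
  exact Subgroup.mem_bot.mp h2

end sylow

end Cfsg.Agent.Lib.Helper9.SmallOrd
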