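import Mathlib
import Cfsg.Agent.Lib.Helper9.SmallOrd3
import Cfsg.Agent.Lib.Helper3.Count

set_option autoImplicit false

/-!
# Centralizers of `p`-elements and class sizes modulo `p`
-/

namespace Cfsg.Agent.Lib.Helper9.SmallOrd

open Subgroup MulAction

variable {G : Type*} [Group G] [Finite G] {p : ℕ} [hp : Fact p.Prime]

/-- The centralizer of an element of a Sylow `p`-subgroup of order at least `p²` has order
divisible by `p²`. -/
theorem sq_dvd_card_centralizer (S : Sylow p G) (hS : p ^ 2 ∣ Nat.card S) (z : G)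
    (hz : z ∈ (S : Subgroup G)) : p ^ 2 ∣ Nat.card (centralizer ({z} : Set G)) := by
  classical
  set A : Subgroup G := (S : Subgroup G) ⊓ centralizer ({z} : Set G) with hA
  have hAp : IsPGroup p A := S.2.to_le inf_le_left
  obtain ⟨k, hk⟩ := IsPGroup.iff_card.mp hAp
  have hAdvd : Nat.card A ∣ Nat.card (centralizer ({z} : Set G)) :=
    Subgroup.card_dvd_of_le inf_le_right
  have hScard : 1 < Nat.card S := by
    have h1 : 0 < Nat.card S := Nat.card_pos
    have h2 : p ^ 2 ≤ Nat.card S := Nat.le_of_dvd h1 hS
    have h3 : 1 < p ^ 2 := Nat.one_lt_pow (by norm_num) hp.1.one_lt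
    omega
  haveI : Nontrivial (S : Subgroup G) := Finite.one_lt_card_iff_nontrivial.mp hScard
  have hcn := IsPGroup.center_nontrivial S.2
  obtain ⟨⟨c, hc⟩, hc1⟩ := exists_ne (1 : Subgroup.center (S : Subgroup G))
  have hc1' : (c : G) ≠ 1 := by
    intro h
    apply hc1
    apply Subtype.ext
    apply Subtype.ext
    exact h
  have hcomm : ∀ s ∈ (S : Subgroup G), s * (c : G) = (c : G) * s := by
    intro s hs
    have := Subgroup.mem_center_iff.mp hc ⟨s, hs⟩
    exact congrArg Subtype.val this
  have hcA : (c : G) ∈ A := by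
    refine Subgroup.mem_inf.mpr ⟨c.2, ?_⟩
    rw [Subgroup.mem_centralizer_iff]
    intro y hy
    rw [Set.mem_singleton_iff] at hy
    rw [hy]
    exact hcomm z hz
  by_cases hk2 : 2 ≤ k
  · exact dvd_trans (pow_dvd_pow p hk2) (hk ▸ hAdvd)
  · exfalso
    have hk1 : k = 1 := by
      have hk0 : k ≠ 0 := by
        intro h0
        rw [h0, pow_zero] at hk
        have hbot : A = ⊥ := Subgroup.card_eq_one.mp hk
        rw [hbot] at hcA
        exact hc1' (Subgroup.mem_bot.mp hcA)
      omega
    rw [hk1, pow_one] at hk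
    have hzp : zpowers (c : G) = A := by
      apply Subgroup.eq_of_le_of_card_ge (Subgroup.zpowers_le.mpr hcA)
      rw [hk, Nat.card_zpowers]
      have hdvd : orderOf (c : G) ∣ p := by
        have := orderOf_dvd_natCard (⟨(c : G), hcA⟩ : A)
        rw [hk, Subgroup.orderOf_mk] at this
        exact this
      rcases (Nat.dvd_prime hp.1).mp hdvd with h | h
      · exact absurd (orderOf_eq_one_iff.mp h) hc1'
      · exact h.ge
    have hzA : z ∈ A := by
      refine Subgroup.mem_inf.mpr ⟨hz, ?_⟩
      rw [Subgroup.mem_centralizer_iff]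
      intro y hy
      rw [Set.mem_singleton_iff] at hy
      rw [hy]
    rw [← hzp] at hzA
    obtain ⟨n, hn⟩ := Subgroup.mem_zpowers_iff.mp hzA
    have hSle : (S : Subgroup G) ≤ A := by
      intro s hs
      refine Subgroup.mem_inf.mpr ⟨hs, ?_⟩
      rw [Subgroup.mem_centralizer_iff]
      intro y hy
      rw [Set.mem_singleton_iff] at hy
      rw [hy, ← hn]
      have h1 : Commute s (c : G) := hcomm s hs
      exact (h1.zpow_right n).eq.symm
    have h2 : Nat.card S ≤ Nat.card A := Nat.le_of_dvd Nat.card_pos (Subgroup.card_dvd_of_le hSle)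
    have h3 : p ^ 2 ≤ Nat.card S := Nat.le_of_dvd Nat.card_pos hS
    have h4 : p < p ^ 2 := by
      have := hp.1.one_lt
      nlinarith
    omega

/-- If `t` centralizes the `p`-subgroup `P` and is the only one of its conjugates doing so, then
the class of `t` has size `1` modulo `p`. -/
theorem index_centralizer_mod (P : Subgroup G) (hP : IsPGroup p P) (t : G)
    (htP : t ∈ centralizer (P : Set G))
    (huniq : ∀ u, IsConj t u → u ∈ centralizer (P : Set G) → u = t) :
    (centralizer ({t} : Set G)).index % p = 1 := by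
  classical
  let X := {g : G // IsConj t g}
  let act : MulAction P X :=
    { smul := fun x u => ⟨(x : G) * u.1 * (x : G)⁻¹,
        u.2.trans (isConj_iff.mpr ⟨(x : G), rfl⟩)⟩
      one_smul := fun u => Subtype.ext (by show (1 : G) * u.1 * (1 : G)⁻¹ = u.1; group)
      mul_smul := fun x y u => Subtype.ext (by
        show ((x : G) * (y : G)) * u.1 * ((x : G) * (y : G))⁻¹
          = (x : G) * ((y : G) * u.1 * (y : G)⁻¹) * (x : G)⁻¹
        group) }
  have h1 := hP.card_modEq_card_fixedPoints X
  have h2 : Nat.card (fixedPoints P X) = 1 := by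
    rw [Nat.card_eq_one_iff_unique]
    refine ⟨⟨fun a b => ?_⟩, ⟨⟨⟨t, IsConj.refl t⟩, ?_⟩⟩⟩
    · have key : ∀ c : fixedPoints P X, c.1.1 = t := by
        intro c
        apply huniq _ c.1.2
        rw [Subgroup.mem_centralizer_iff]
        intro x hx
        have := c.2 ⟨x, hx⟩
        have h3 : x * c.1.1 * x⁻¹ = c.1.1 := congrArg Subtype.val this
        calc x * c.1.1 = (x * c.1.1 * x⁻¹) * x := by group
          _ = c.1.1 * x := by rw [h3]
      exact Subtype.ext (Subtype.ext (by rw [key a, key b]))
    · intro x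
      apply Subtype.ext
      show (x : G) * t * (x : G)⁻¹ = t
      have := (Subgroup.mem_centralizer_iff.mp htP) x x.2
      rw [this]; group
  rw [h2] at h1
  have h3 : Nat.card X = (centralizer ({t} : Set G)).index := by
    have e1 := Cfsg.Agent.Lib.Helper3.card_conj_class_mul_card_centralizer t
    have e2 := (centralizer ({t} : Set G)).index_mul_card
    have : Nat.card X * Nat.card (centralizer ({t} : Set G))
        = (centralizer ({t} : Set G)).index * Nat.card (centralizer ({t} : Set G)) := by
      rw [e2]; exact e1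
    exact Nat.eq_of_mul_eq_mul_right Nat.card_pos this
  rw [← h3]
  have h4 : Nat.card X % p = 1 % p := h1
  rw [h4, Nat.mod_eq_of_lt hp.1.one_lt]

end Cfsg.Agent.Lib.Helper9.SmallOrd
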