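import Mathlib
import Cfsg.Agent.Lib.Helper9.SmallOrd3

set_option autoImplicit false

/-!
# Sylow subgroups of prime order `p` with `p + 1` conjugates
-/

namespace Cfsg.Agent.Lib.Helper9.SmallOrd

open Subgroup MulAction

variable {G : Type*} [Group G] [Finite G] [IsSimpleGroup G]

section sylow

variable {p : ℕ} [hp : Fact p.Prime]

theorem comm_of_card_prime (P : Sylow p G) (hP : Nat.card P = p) :
    ∀ a ∈ (P : Subgroup G), ∀ b ∈ (P : Subgroup G), a * b = b * a := by
  have hcyc : IsCyclic (P : Subgroup G) := isCyclic_of_prime_card hP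
  intro a ha b hb
  have := hcyc.commGroup.mul_comm (⟨a, ha⟩ : (P : Subgroup G)) ⟨b, hb⟩
  exact congrArg Subtype.val this

/-- If `|P| = p` and `n_p = p + 1` then `C_G(P) = P`. -/
theorem centralizer_eq_of_np_succ (P : Sylow p G) (hP : Nat.card P = p)
    (hn : Nat.card (Sylow p G) = p + 1) (hN : normalizer ((P : Subgroup G) : Set G) ≠ ⊤) :
    centralizer ((P : Subgroup G) : Set G) = (P : Subgroup G) := by
  apply le_antisymm
  · exact (reg_of_prime P hP hn).centralizer_le hN (comm_of_card_prime P hP)
  · intro x hx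
    rw [Subgroup.mem_centralizer_iff]
    intro y hy
    exact comm_of_card_prime P hP y hy x hx

/-- If `|P| = p`, `n_p = p + 1` and `|N(P)| = p k`, then `k ∣ p - 1`. -/
theorem np_succ_dvd (P : Sylow p G) (hP : Nat.card P = p)
    (hn : Nat.card (Sylow p G) = p + 1) (hN : normalizer ((P : Subgroup G) : Set G) ≠ ⊤)
    (k : ℕ) (hk : Nat.card (normalizer ((P : Subgroup G) : Set G)) = p * k) : k ∣ p - 1 := by
  have hPN : (P : Subgroup G).relIndex (normalizer ((P : Subgroup G) : Set G)) = k := by
    have h1 := ((P : Subgroup G).subgroupOf (normalizer ((P : Subgroup G) : Set G))).index_mul_card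
    rw [Nat.card_congr (Subgroup.subgroupOfEquivOfLe (le_normalizer : (P : Subgroup G) ≤ _)).toEquiv,
      hP, hk] at h1
    have h2 : (P : Subgroup G).relIndex (normalizer ((P : Subgroup G) : Set G)) * p = p * k := h1
    rw [mul_comm] at h2
    exact Nat.eq_of_mul_eq_mul_left hp.1.pos h2
  have hcyc : IsCyclic (P : Subgroup G) := isCyclic_of_prime_card hP
  have h1 := Cfsg.Agent.Lib.Helper3.relIndex_centralizer_normalizer_dvd_card_mulAut (P : Subgroup G)
  rw [IsCyclic.card_mulAut, hP, Nat.totient_prime hp.1, centralizer_eq_of_np_succ P hP hn hN,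
    hPN] at h1
  exact h1

/-- Orders `p m` where the only possibility is `n_p = p + 1` and `|N(P)/P|` does not divide
`p - 1`. -/
theorem np_succ_kill (hG : ¬ IsMulCommutative G) (m k : ℕ) (hm : 1 < m)
    (hcard : Nat.card G = p ^ 1 * m) (hpm : ¬ p ∣ m)
    (hdiv : ∀ d ∈ Nat.divisors m, d % p = 1 → d = 1 ∨ d = p + 1)
    (hmk : m = (p + 1) * k) (hk : ¬ k ∣ p - 1) : False := by
  obtain ⟨P⟩ : Nonempty (Sylow p G) := inferInstance
  obtain ⟨hPcard, hPbot, hPtop, hdvd, hmod, hne1, hNtop, hNcard, hfact⟩ :=
    sylow_data hG 1 m Nat.one_pos hm hcard hpm P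
  rw [pow_one] at hPcard hcard
  have hm0 : m ≠ 0 := by omega
  have hn : Nat.card (Sylow p G) = p + 1 := by
    rcases hdiv _ (Nat.mem_divisors.mpr ⟨hdvd, hm0⟩) hmod with h | h
    · exact absurd h hne1
    · exact h
  have hN : Nat.card (normalizer ((P : Subgroup G) : Set G)) = p * k := by
    rw [hcard, hn, hmk] at hNcard
    have : Nat.card (normalizer ((P : Subgroup G) : Set G)) * (p + 1) = (p * k) * (p + 1) := by
      rw [hNcard]; ring
    exact Nat.eq_of_mul_eq_mul_right (Nat.succ_pos p) this
  exact hk (np_succ_dvd P hPcard hn hNtop k hN)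

/-- Orders `p m` with `p ≡ 3 (mod 4)` where the only possibility is `n_p = p + 1` and
`|N(P)|` is even. -/
theorem np_succ_parity_kill (hG : ¬ IsMulCommutative G) (m k : ℕ) (hm : 1 < m)
    (hcard : Nat.card G = p ^ 1 * m) (hpm : ¬ p ∣ m)
    (hdiv : ∀ d ∈ Nat.divisors m, d % p = 1 → d = 1 ∨ d = p + 1)
    (hmk : m = (p + 1) * (2 * k)) (hp4 : p % 4 = 3) : False := by
  obtain ⟨P⟩ : Nonempty (Sylow p G) := inferInstance
  obtain ⟨hPcard, hPbot, hPtop, hdvd, hmod, hne1, hNtop, hNcard, hfact⟩ :=
    sylow_data hG 1 m Nat.one_pos hm hcard hpm P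
  rw [pow_one] at hPcard hcard
  have hm0 : m ≠ 0 := by omega
  have hn : Nat.card (Sylow p G) = p + 1 := by
    rcases hdiv _ (Nat.mem_divisors.mpr ⟨hdvd, hm0⟩) hmod with h | h
    · exact absurd h hne1
    · exact h
  have hN : Nat.card (normalizer ((P : Subgroup G) : Set G)) = p * (2 * k) := by
    rw [hcard, hn, hmk] at hNcard
    have : Nat.card (normalizer ((P : Subgroup G) : Set G)) * (p + 1)
        = (p * (2 * k)) * (p + 1) := by
      rw [hNcard]; ring
    exact Nat.eq_of_mul_eq_mul_right (Nat.succ_pos p) this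
  -- an involution in the normalizer
  haveI : Fact (Nat.Prime 2) := ⟨Nat.prime_two⟩
  have h2dvd : 2 ∣ Nat.card (normalizer ((P : Subgroup G) : Set G)) := by
    rw [hN]; exact ⟨p * k, by ring⟩
  obtain ⟨t', ht'⟩ := exists_prime_orderOf_dvd_card' 2 h2dvd
  set t : G := (t' : G) with ht
  have hto : orderOf t = 2 := by rw [ht, Subgroup.orderOf_coe, ht']
  have htN : t ∈ normalizer ((P : Subgroup G) : Set G) := t'.2
  have htP : t • P = P := Sylow.smul_eq_iff_mem_normalizer.mpr htN
  have htt : t * t = 1 := by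
    rw [← pow_two, ← hto]; exact pow_orderOf_eq_one t
  have hreg := reg_of_prime P hPcard hn
  obtain ⟨j, hj⟩ := card_eq_fixed_add_four_mul hG (Ω := Sylow p G) t htt
  rw [hn] at hj
  have hfix : Nat.card {S : Sylow p G // t • S = S} = 1 ∨
      Nat.card {S : Sylow p G // t • S = S} = 2 := by
    by_cases hex : ∃ R : Sylow p G, R ≠ P ∧ t • R = R
    · right
      obtain ⟨R, hR, htR⟩ := hex
      rw [hreg.card_fixed t htP R hR htR]
      have hdvd' : Nat.card ((P : Subgroup G) ⊓ centralizer ({t} : Set G) : Subgroup G) ∣ p := by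
        have := Subgroup.card_dvd_of_le
          (inf_le_left : (P : Subgroup G) ⊓ centralizer ({t} : Set G) ≤ P)
        rwa [hPcard] at this
      rcases (Nat.dvd_prime hp.1).mp hdvd' with h | h
      · rw [h]
      · exfalso
        have h4 : (P : Subgroup G) ⊓ centralizer ({t} : Set G) = (P : Subgroup G) := by
          apply Subgroup.eq_of_le_of_card_ge inf_le_left
          rw [h, hPcard]
        have h5 : (P : Subgroup G) ≤ centralizer ({t} : Set G) := by
          rw [← h4]; exact inf_le_right
        have h6 : t ∈ centralizer ((P : Subgroup G) : Set G) := by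
          rw [Subgroup.mem_centralizer_iff]
          intro y hy
          have := Subgroup.mem_centralizer_iff.mp (h5 hy) t (Set.mem_singleton t)
          exact this.symm
        rw [centralizer_eq_of_np_succ P hPcard hn hNtop] at h6
        have h7 : orderOf t ∣ p := by
          have := orderOf_dvd_natCard (⟨t, h6⟩ : (P : Subgroup G))
          rw [hPcard, Subgroup.orderOf_mk] at this
          exact this
        rw [hto] at h7
        have : p = 2 := ((Nat.prime_dvd_prime_iff_eq Nat.prime_two hp.1).mp h7).symm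
        omega
    · left
      push Not at hex
      rw [Nat.card_eq_one_iff_unique]
      refine ⟨⟨fun a b => ?_⟩, ⟨⟨P, htP⟩⟩⟩
      have ha : a.1 = P := by
        by_contra hne
        exact hex a.1 hne a.2
      have hb : b.1 = P := by
        by_contra hne
        exact hex b.1 hne b.2
      exact Subtype.ext (by rw [ha, hb])
  rcases hfix with h | h <;> rw [h] at hj <;> omega

end sylow

end Cfsg.Agent.Lib.Helper9.SmallOrd
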