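import Mathlib
import Cfsg.Agent.Lib.Helper9.SmallOrd4
import Cfsg.Agent.S0143

set_option autoImplicit false

/-!
# Orders 120, 180 (via `A₆`) and the orders handled by `n_p = p + 1`
-/

namespace Cfsg.Agent.Lib.Helper9.SmallOrd

open Subgroup MulAction

theorem card_alt6 : Nat.card (alternatingGroup (Fin 6)) = 360 := by
  have h := two_mul_card_alternatingGroup (α := Fin 6)
  rw [Fintype.card_perm, Fintype.card_fin] at h
  rw [Nat.card_eq_fintype_card]
  have : (6 : ℕ).factorial = 720 := by decide
  omega

instance : IsSimpleGroup (alternatingGroup (Fin 6)) :=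
  alternatingGroup.isSimpleGroup (by simp)

theorem alt6_not_comm : ¬ IsMulCommutative (alternatingGroup (Fin 6)) := by
  intro h
  have hp := Cfsg.Agent.S0143.prime_card_of_comm (G := alternatingGroup (Fin 6))
    (fun a b => h.is_comm.comm a b)
  rw [card_alt6] at hp
  norm_num at hp

variable {G : Type*} [Group G] [Finite G] [IsSimpleGroup G]

/-- A simple group embedded in `A₆` with index between 2 and 5. -/
theorem alt6_kill' (f : G →* alternatingGroup (Fin 6)) (hf : Function.Injective f)
    (j : ℕ) (hj : Nat.card G * j = 360) (hj1 : 1 < j) (hj5 : j ≤ 5) : False := by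
  have hcard : Nat.card f.range = Nat.card G :=
    (Nat.card_congr (MonoidHom.ofInjective hf).toEquiv).symm
  have hidx2 : f.range.index = j := by
    have h1 := f.range.card_mul_index
    rw [hcard, card_alt6, ← hj] at h1
    exact Nat.eq_of_mul_eq_mul_left Nat.card_pos h1
  have hne : f.range ≠ ⊤ := by
    intro h
    rw [h, Subgroup.index_top] at hidx2
    omega
  have h2 := two_mul_card_dvd_factorial alt6_not_comm f.range hne
  rw [hidx2, card_alt6] at h2
  have h3 : j.factorial ∣ (5 : ℕ).factorial := Nat.factorial_dvd_factorial hj5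
  have h4 : 2 * 360 ∣ (5 : ℕ).factorial := dvd_trans h2 h3
  revert h4
  decide

/-- A simple group with a subgroup of index 6 whose order is a proper divisor of 360 with
quotient at most 5. -/
theorem alt6_kill (hG : ¬ IsMulCommutative G) (H : Subgroup G) (hH : H ≠ ⊤) (hidx : H.index = 6)
    (j : ℕ) (hj : Nat.card G * j = 360) (hj1 : 1 < j) (hj5 : j ≤ 5) : False := by
  obtain ⟨f, hf⟩ := Cfsg.Agent.S0991.result hG H hH
  generalize H.index = d at f hf hidx
  subst hidx
  exact alt6_kill' f hf j hj hj1 hj5

theorem ne_120 (hG : ¬ IsMulCommutative G) : Nat.card G ≠ 120 := by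
  intro hcard
  haveI : Fact (Nat.Prime 5) := ⟨by norm_num⟩
  obtain ⟨P⟩ : Nonempty (Sylow 5 G) := inferInstance
  obtain ⟨hPcard, hPbot, hPtop, hdvd, hmod, hne1, hNtop, hNcard, hfact⟩ :=
    sylow_data hG 1 24 Nat.one_pos (by norm_num) (by rw [hcard]; norm_num) (by norm_num) P
  have h6 : Nat.card (Sylow 5 G) = 6 := by
    have hmem : Nat.card (Sylow 5 G) ∈ (Nat.divisors 24).filter (fun n => n % 5 = 1) := by
      rw [Finset.mem_filter, Nat.mem_divisors]
      exact ⟨⟨hdvd, by norm_num⟩, hmod⟩
    have hset : (Nat.divisors 24).filter (fun n => n % 5 = 1) = {1, 6} := by decide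
    rw [hset] at hmem
    simp only [Finset.mem_insert, Finset.mem_singleton] at hmem
    rcases hmem with h | h
    · exact absurd h hne1
    · exact h
  have hidx : (normalizer ((P : Subgroup G) : Set G)).index = 6 := by
    rw [← h6]; exact (Sylow.card_eq_index_normalizer P).symm
  exact alt6_kill hG _ hNtop hidx 3 (by rw [hcard]) (by norm_num) (by norm_num)

theorem ne_180 (hG : ¬ IsMulCommutative G) : Nat.card G ≠ 180 := by
  intro hcard
  haveI : Fact (Nat.Prime 5) := ⟨by norm_num⟩
  obtain ⟨P⟩ : Nonempty (Sylow 5 G) := inferInstance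
  obtain ⟨hPcard, hPbot, hPtop, hdvd, hmod, hne1, hNtop, hNcard, hfact⟩ :=
    sylow_data hG 1 36 Nat.one_pos (by norm_num) (by rw [hcard]; norm_num) (by norm_num) P
  have h6 : Nat.card (Sylow 5 G) = 6 ∨ Nat.card (Sylow 5 G) = 36 := by
    have hmem : Nat.card (Sylow 5 G) ∈ (Nat.divisors 36).filter (fun n => n % 5 = 1) := by
      rw [Finset.mem_filter, Nat.mem_divisors]
      exact ⟨⟨hdvd, by norm_num⟩, hmod⟩
    have hset : (Nat.divisors 36).filter (fun n => n % 5 = 1) = {1, 6, 36} := by decide
    rw [hset] at hmem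
    simp only [Finset.mem_insert, Finset.mem_singleton] at hmem
    rcases hmem with h | h | h
    · exact absurd h hne1
    · exact Or.inl h
    · exact Or.inr h
  rcases h6 with h6 | h36
  · have hidx : (normalizer ((P : Subgroup G) : Set G)).index = 6 := by
      rw [← h6]; exact (Sylow.card_eq_index_normalizer P).symm
    exact alt6_kill hG _ hNtop hidx 2 (by rw [hcard]) (by norm_num) (by norm_num)
  · rw [pow_one] at hPcard
    have hN : Nat.card (normalizer ((P : Subgroup G) : Set G)) = 5 * 1 := by
      rw [h36, hcard] at hNcard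
      omega
    exact transfer_kill P 1 hPcard hPbot hPtop hN (by norm_num)

theorem ne_264 (hG : ¬ IsMulCommutative G) : Nat.card G ≠ 264 := by
  intro hcard
  exact @np_succ_parity_kill G _ _ _ 11 ⟨by norm_num⟩ hG 24 1 (by norm_num)
    (by rw [hcard]; norm_num) (by norm_num) (by decide) (by norm_num) (by norm_num)

theorem ne_336 (hG : ¬ IsMulCommutative G) : Nat.card G ≠ 336 := by
  intro hcard
  exact @np_succ_parity_kill G _ _ _ 7 ⟨by norm_num⟩ hG 48 3 (by norm_num)
    (by rw [hcard]; norm_num) (by norm_num) (by decide) (by norm_num) (by norm_num)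

theorem ne_760 (hG : ¬ IsMulCommutative G) : Nat.card G ≠ 760 := by
  intro hcard
  exact @np_succ_parity_kill G _ _ _ 19 ⟨by norm_num⟩ hG 40 1 (by norm_num)
    (by rw [hcard]; norm_num) (by norm_num) (by decide) (by norm_num) (by norm_num)

theorem ne_528 (hG : ¬ IsMulCommutative G) : Nat.card G ≠ 528 := by
  intro hcard
  exact @np_succ_kill G _ _ _ 11 ⟨by norm_num⟩ hG 48 4 (by norm_num)
    (by rw [hcard]; norm_num) (by norm_num) (by decide) (by norm_num) (by norm_num)

theorem ne_560 (hG : ¬ IsMulCommutative G) : Nat.card G ≠ 560 := by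
  intro hcard
  exact @np_succ_kill G _ _ _ 7 ⟨by norm_num⟩ hG 80 10 (by norm_num)
    (by rw [hcard]; norm_num) (by norm_num) (by decide) (by norm_num) (by norm_num)

theorem ne_672 (hG : ¬ IsMulCommutative G) : Nat.card G ≠ 672 := by
  intro hcard
  exact @np_succ_kill G _ _ _ 7 ⟨by norm_num⟩ hG 96 12 (by norm_num)
    (by rw [hcard]; norm_num) (by norm_num) (by decide) (by norm_num) (by norm_num)

theorem ne_792 (hG : ¬ IsMulCommutative G) : Nat.card G ≠ 792 := by
  intro hcard
  exact @np_succ_kill G _ _ _ 11 ⟨by norm_num⟩ hG 72 6 (by norm_num)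
    (by rw [hcard]; norm_num) (by norm_num) (by decide) (by norm_num) (by norm_num)

theorem ne_1056 (hG : ¬ IsMulCommutative G) : Nat.card G ≠ 1056 := by
  intro hcard
  exact @np_succ_kill G _ _ _ 11 ⟨by norm_num⟩ hG 96 8 (by norm_num)
    (by rw [hcard]; norm_num) (by norm_num) (by decide) (by norm_num) (by norm_num)

end Cfsg.Agent.Lib.Helper9.SmallOrd
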