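import Mathlib
import Cfsg.Agent.Lib.Helper9.SmallOrd5

set_option autoImplicit false

/-!
# An involution centralizing a Sylow subgroup of prime order: orders 420 and 840
-/

namespace Cfsg.Agent.Lib.Helper9.SmallOrd

open Subgroup MulAction

variable {G : Type*} [Group G] [Finite G] [IsSimpleGroup G]

section sylow

variable {p : ℕ} [hp : Fact p.Prime]

/-- The number of Sylow `p`-subgroups fixed by an element centralizing `P` is `1` mod `p`. -/
theorem card_fixed_mod (P : Sylow p G) (t : G) (ht : t ∈ centralizer ((P : Subgroup G) : Set G)) :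
    Nat.card {S : Sylow p G // t • S = S} % p = 1 := by
  classical
  let act : MulAction (P : Subgroup G) {S : Sylow p G // t • S = S} :=
    { smul := fun x S => ⟨(x : G) • S.1, by
        have hc : t * (x : G) = (x : G) * t := ((Subgroup.mem_centralizer_iff.mp ht) x x.2).symm
        rw [← mul_smul, hc, mul_smul, S.2]⟩
      one_smul := fun S => Subtype.ext (one_smul G S.1)
      mul_smul := fun x y S => Subtype.ext (mul_smul (x : G) (y : G) S.1) }
  have h1 := P.2.card_modEq_card_fixedPoints {S : Sylow p G // t • S = S}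
  have htP : t • P = P :=
    Sylow.smul_eq_iff_mem_normalizer.mpr (Subgroup.centralizer_le_normalizer _ ht)
  have h2 : Nat.card (fixedPoints (P : Subgroup G) {S : Sylow p G // t • S = S}) = 1 := by
    rw [Nat.card_eq_one_iff_unique]
    refine ⟨⟨fun a b => ?_⟩, ⟨⟨⟨P, htP⟩, ?_⟩⟩⟩
    · have key : ∀ c : fixedPoints (P : Subgroup G) {S : Sylow p G // t • S = S},
          c.1.1 = P := by
        intro c
        have hc : ∀ x : (P : Subgroup G), (x : G) • c.1.1 = c.1.1 := by
          intro x
          have := c.2 x
          exact congrArg Subtype.val this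
        have hle : (P : Subgroup G) ≤ normalizer ((c.1.1 : Subgroup G) : Set G) := by
          intro x hx
          exact Sylow.smul_eq_iff_mem_normalizer.mp (hc ⟨x, hx⟩)
        have h3 : (P : Subgroup G) ≤ (c.1.1 : Subgroup G) := by
          intro x hx
          have hx2 : x ∈ (P : Subgroup G) ⊓ (c.1.1 : Subgroup G) := by
            rw [← P.2.inf_normalizer_sylow c.1.1]
            exact ⟨hx, hle hx⟩
          exact hx2.2
        exact (Cfsg.Agent.Lib.Helper3.sylow_eq_of_le P c.1.1 h3).symm
      exact Subtype.ext (Subtype.ext (by rw [key a, key b]))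
    · intro x
      exact Subtype.ext (smul_self_of_mem P x x.2)
  rw [h2] at h1
  have h3 : Nat.card {S : Sylow p G // t • S = S} % p = 1 % p := h1
  rw [h3, Nat.mod_eq_of_lt hp.1.one_lt]

/-- If `|P| = p`, `|N(P)| = p k` with `k / gcd(k, p - 1)` even, then an involution centralizes
`P`; this is impossible if the parity and the congruence force it to fix every Sylow subgroup. -/
theorem central_invol_false (hG : ¬ IsMulCommutative G) (P : Sylow p G) (hP : Nat.card P = p)
    (hNtop : normalizer ((P : Subgroup G) : Set G) ≠ ⊤) (d k : ℕ)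
    (hn : Nat.card (Sylow p G) = d)
    (hN : Nat.card (normalizer ((P : Subgroup G) : Set G)) = p * k)
    (hev : Even (k / Nat.gcd k (p - 1)))
    (harith : ∀ f, f % p = 1 → f ≤ d → (∃ j, d = f + 4 * j) → f = d) : False := by
  classical
  set N := normalizer ((P : Subgroup G) : Set G) with hNdef
  set C := centralizer ((P : Subgroup G) : Set G) with hCdef
  have hPN : (P : Subgroup G).relIndex N = k := by
    have h1 := ((P : Subgroup G).subgroupOf N).index_mul_card
    rw [Nat.card_congr (Subgroup.subgroupOfEquivOfLe (le_normalizer : (P : Subgroup G) ≤ N)).toEquiv,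
      hP, hN] at h1
    have h2 : (P : Subgroup G).relIndex N * p = p * k := h1
    rw [mul_comm] at h2
    exact Nat.eq_of_mul_eq_mul_left hp.1.pos h2
  have hcyc : IsCyclic (P : Subgroup G) := isCyclic_of_prime_card hP
  have hcomm : IsMulCommutative (P : Subgroup G) := ⟨⟨fun a b => hcyc.commGroup.mul_comm a b⟩⟩
  have h1 := Cfsg.Agent.Lib.Helper3.relIndex_centralizer_normalizer_dvd_card_mulAut (P : Subgroup G)
  rw [IsCyclic.card_mulAut, hP, Nat.totient_prime hp.1] at h1
  have hPC : (P : Subgroup G) ≤ C :=
    Cfsg.Agent.Lib.Helper3.le_centralizer_of_isMulCommutative (P : Subgroup G)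
  have h2 := Cfsg.Agent.Lib.Helper3.relIndex_centralizer_normalizer_dvd_relIndex (P : Subgroup G) hPC
  rw [hPN] at h2
  have h3 : C.relIndex N ∣ Nat.gcd k (p - 1) := Nat.dvd_gcd h2 h1
  have hCN : C ≤ N := Subgroup.centralizer_le_normalizer _
  have hk0 : 0 < k := by
    rcases Nat.eq_zero_or_pos k with h | h
    · rw [h, mul_zero] at hN
      have : 0 < Nat.card N := Nat.card_pos
      omega
    · exact h
  -- |C| * relIndex = p * k
  have hCcard : Nat.card C * C.relIndex N = p * k := by
    have := (C.subgroupOf N).card_mul_index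
    rw [Nat.card_congr (Subgroup.subgroupOfEquivOfLe hCN).toEquiv, hN] at this
    exact this
  have hCeven : 2 ∣ Nat.card C := by
    set r := C.relIndex N with hr
    set g := Nat.gcd k (p - 1) with hg
    have hgk : g ∣ k := Nat.gcd_dvd_left _ _
    obtain ⟨u, hu⟩ := h3
    obtain ⟨v, hv⟩ := hgk
    have hg0 : 0 < g := Nat.gcd_pos_of_pos_left _ hk0
    have hr0 : 0 < r := by
      rcases Nat.eq_zero_or_pos r with h | h
      · rw [h, zero_mul] at hu; omega
      · exact h
    have hkg : k / g = v := by rw [hv, Nat.mul_div_cancel_left _ hg0]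
    rw [hkg] at hev
    have hcard : Nat.card C = p * (u * v) := by
      have : Nat.card C * r = (p * (u * v)) * r := by
        rw [hCcard, hv, hu]; ring
      exact Nat.eq_of_mul_eq_mul_right hr0 this
    rw [hcard]
    obtain ⟨w, hw⟩ := hev
    exact ⟨p * u * w, by rw [hw]; ring⟩
  haveI : Fact (Nat.Prime 2) := ⟨Nat.prime_two⟩
  obtain ⟨t', ht'⟩ := exists_prime_orderOf_dvd_card' 2 hCeven
  set t : G := (t' : G) with ht
  have hto : orderOf t = 2 := by rw [ht, Subgroup.orderOf_coe, ht']
  have htC : t ∈ C := t'.2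
  have htt : t * t = 1 := by
    rw [← pow_two, ← hto]; exact pow_orderOf_eq_one t
  obtain ⟨j, hj⟩ := card_eq_fixed_add_four_mul hG (Ω := Sylow p G) t htt
  rw [hn] at hj
  have hmod := card_fixed_mod P t htC
  have hle : Nat.card {S : Sylow p G // t • S = S} ≤ d := by omega
  have hall := harith _ hmod hle ⟨j, hj⟩
  -- t fixes everything
  have hfix : ∀ Q : Sylow p G, t • Q = Q := by
    by_contra hcon
    push Not at hcon
    obtain ⟨Q, hQ⟩ := hcon
    have hlt : Nat.card {S : Sylow p G // t • S = S} < Nat.card (Sylow p G) := by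
      exact Finite.card_subtype_lt (p := fun S : Sylow p G => t • S = S) (x := Q) hQ
    omega
  have ht1 : t = 1 := eq_one_of_fix_all P hNtop t hfix
  rw [ht1, orderOf_one] at hto
  omega

end sylow

theorem ne_420 (hG : ¬ IsMulCommutative G) : Nat.card G ≠ 420 := by
  intro hcard
  haveI : Fact (Nat.Prime 7) := ⟨by norm_num⟩
  obtain ⟨P⟩ : Nonempty (Sylow 7 G) := inferInstance
  obtain ⟨hPcard, hPbot, hPtop, hdvd, hmod, hne1, hNtop, hNcard, hfact⟩ :=
    sylow_data hG 1 60 Nat.one_pos (by norm_num) (by rw [hcard]; norm_num) (by norm_num) P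
  rw [pow_one] at hPcard
  have h15 : Nat.card (Sylow 7 G) = 15 := by
    have hmem : Nat.card (Sylow 7 G) ∈ (Nat.divisors 60).filter (fun n => n % 7 = 1) := by
      rw [Finset.mem_filter, Nat.mem_divisors]
      exact ⟨⟨hdvd, by norm_num⟩, hmod⟩
    have hset : (Nat.divisors 60).filter (fun n => n % 7 = 1) = {1, 15} := by decide
    rw [hset] at hmem
    simp only [Finset.mem_insert, Finset.mem_singleton] at hmem
    rcases hmem with h | h
    · exact absurd h hne1
    · exact h
  have hN : Nat.card (normalizer ((P : Subgroup G) : Set G)) = 7 * 4 := by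
    rw [h15, hcard] at hNcard
    omega
  refine central_invol_false hG P hPcard hNtop 15 4 h15 hN (by decide) ?_
  intro f hf hle ⟨j, hj⟩
  omega

theorem ne_840 (hG : ¬ IsMulCommutative G) : Nat.card G ≠ 840 := by
  intro hcard
  haveI : Fact (Nat.Prime 7) := ⟨by norm_num⟩
  obtain ⟨P⟩ : Nonempty (Sylow 7 G) := inferInstance
  obtain ⟨hPcard, hPbot, hPtop, hdvd, hmod, hne1, hNtop, hNcard, hfact⟩ :=
    sylow_data hG 1 120 Nat.one_pos (by norm_num) (by rw [hcard]; norm_num) (by norm_num) P
  rw [pow_one] at hPcard
  have hcases : Nat.card (Sylow 7 G) = 8 ∨ Nat.card (Sylow 7 G) = 15 ∨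
      Nat.card (Sylow 7 G) = 120 := by
    have hmem : Nat.card (Sylow 7 G) ∈ (Nat.divisors 120).filter (fun n => n % 7 = 1) := by
      rw [Finset.mem_filter, Nat.mem_divisors]
      exact ⟨⟨hdvd, by norm_num⟩, hmod⟩
    have hset : (Nat.divisors 120).filter (fun n => n % 7 = 1) = {1, 8, 15, 120} := by decide
    rw [hset] at hmem
    simp only [Finset.mem_insert, Finset.mem_singleton] at hmem
    rcases hmem with h | h | h | h
    · exact absurd h hne1
    · exact Or.inl h
    · exact Or.inr (Or.inl h)
    · exact Or.inr (Or.inr h)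
  rcases hcases with h8 | h15 | h120
  · have hN : Nat.card (normalizer ((P : Subgroup G) : Set G)) = 7 * 15 := by
      rw [h8, hcard] at hNcard
      omega
    have := np_succ_dvd P hPcard h8 hNtop 15 hN
    norm_num at this
  · have hN : Nat.card (normalizer ((P : Subgroup G) : Set G)) = 7 * 8 := by
      rw [h15, hcard] at hNcard
      omega
    refine central_invol_false hG P hPcard hNtop 15 8 h15 hN (by decide) ?_
    intro f hf hle ⟨j, hj⟩
    omega
  · have hN : Nat.card (normalizer ((P : Subgroup G) : Set G)) = 7 * 1 := by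
      rw [h120, hcard] at hNcard
      omega
    exact transfer_kill P 1 hPcard hPbot hPtop hN (by norm_num)

end Cfsg.Agent.Lib.Helper9.SmallOrd
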