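import Mathlib
import Cfsg.Agent.Lib.Helper9.SmallOrd10
import Cfsg.Agent.Lib.Helper9.SmallOrd7
import Cfsg.Agent.S0219

set_option autoImplicit false

/-!
# Order 1080
-/

namespace Cfsg.Agent.Lib.Helper9.SmallOrd

open Subgroup MulAction

section general

variable {G : Type*} [Group G] [Finite G] {p : ℕ} [hp : Fact p.Prime]

/-- `|C(P)| * r = |N(P)|` with `r ∣ gcd(k, p - 1)` for a Sylow subgroup of prime order. -/
theorem card_centralizer_sylow_prime (P : Sylow p G) (hP : Nat.card P = p) (k : ℕ)
    (hN : Nat.card (normalizer ((P : Subgroup G) : Set G)) = p * k) :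
    ∃ r, r ∣ Nat.gcd k (p - 1) ∧
      Nat.card (centralizer ((P : Subgroup G) : Set G)) * r = p * k := by
  set N := normalizer ((P : Subgroup G) : Set G) with hNdef
  set C := centralizer ((P : Subgroup G) : Set G) with hCdef
  have hPN : (P : Subgroup G).relIndex N = k := by
    have h1 := ((P : Subgroup G).subgroupOf N).index_mul_card
    rw [Nat.card_congr (Subgroup.subgroupOfEquivOfLe (le_normalizer : (P : Subgroup G) ≤ N)).toEquiv,
      hP, hN] at h1
    have h2 : (P : Subgroup G).relIndex N * p = p * k := h1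
    rw [mul_comm] at h2
    exact Nat.eq_of_mul_eq_mul_left hp.1.pos h2
  have hcyc : IsCyclic (P : Subgroup G) := isCyclic_of_prime_card hP
  have hcomm : IsMulCommutative (P : Subgroup G) := ⟨⟨fun a b => hcyc.commGroup.mul_comm a b⟩⟩
  have h1 := Cfsg.Agent.Lib.Helper3.relIndex_centralizer_normalizer_dvd_card_mulAut (P : Subgroup G)
  rw [IsCyclic.card_mulAut, hP, Nat.totient_prime hp.1] at h1
  have hPC : (P : Subgroup G) ≤ C :=
    Cfsg.Agent.Lib.Helper3.le_centralizer_of_isMulCommutative (P : Subgroup G)
  have h2 := Cfsg.Agent.Lib.Helper3.relIndex_centralizer_normalizer_dvd_relIndex (P : Subgroup G) hPC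
  rw [hPN] at h2
  have hCN : C ≤ N := Subgroup.centralizer_le_normalizer _
  refine ⟨C.relIndex N, Nat.dvd_gcd h2 h1, ?_⟩
  have := (C.subgroupOf N).card_mul_index
  rw [Nat.card_congr (Subgroup.subgroupOfEquivOfLe hCN).toEquiv, hN] at this
  exact this

/-- A subgroup containing `P` in which `P` is forced to be the unique Sylow subgroup normalizes
`P`. -/
theorem le_normalizer_of_forced (P : Sylow p G) (K : Subgroup G) (hPK : (P : Subgroup G) ≤ K)
    (j : ℕ) (hK : Nat.card K = Nat.card P * j)
    (hdiv : ∀ d ∈ Nat.divisors j, d % p = 1 → d = 1) :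
    K ≤ normalizer ((P : Subgroup G) : Set G) := by
  let P' : Sylow p K := P.subtype hPK
  have hcardP' : Nat.card (P' : Subgroup K) = Nat.card P := by
    show Nat.card ((P : Subgroup G).subgroupOf K) = Nat.card P
    exact Nat.card_congr (Subgroup.subgroupOfEquivOfLe hPK).toEquiv
  have hidx : (P' : Subgroup K).index = j := by
    have := (P' : Subgroup K).card_mul_index
    rw [hcardP', hK] at this
    exact Nat.eq_of_mul_eq_mul_left Nat.card_pos this
  have h1 : Nat.card (Sylow p K) ∣ j := hidx ▸ P'.card_dvd_index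
  have h2 : Nat.card (Sylow p K) % p = 1 := by
    have h := card_sylow_modEq_one p K
    have h' : Nat.card (Sylow p K) % p = 1 % p := h
    rw [h', Nat.mod_eq_of_lt hp.1.one_lt]
  have hj0 : j ≠ 0 := by
    rintro rfl
    rw [mul_zero] at hK
    have : 0 < Nat.card K := Nat.card_pos
    omega
  have h3 : Nat.card (Sylow p K) = 1 := hdiv _ (Nat.mem_divisors.mpr ⟨h1, hj0⟩) h2
  have hnorm : (P' : Subgroup K).Normal :=
    Cfsg.Agent.Lib.Helper3.sylow_normal_of_card_eq_one P' h3
  have hnorm' : ((P : Subgroup G).subgroupOf K).Normal := hnorm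
  exact (Subgroup.normal_subgroupOf_iff_le_normalizer hPK).mp hnorm'

/-- A group of order `2 * odd` has a subgroup of index `2`; version for a subgroup `H` of `G`:
there is `K ≤ H` with `2 |K| = |H|` containing every subgroup of `H` of odd order. -/
theorem exists_half (H : Subgroup G) (m : ℕ) (hm : Odd m) (hH : Nat.card H = 2 * m) :
    ∃ K : Subgroup G, K ≤ H ∧ Nat.card K = m ∧
      ∀ Q : Subgroup G, Q ≤ H → Odd (Nat.card Q) → Q ≤ K := by
  haveI : Fact (Nat.Prime 2) := ⟨Nat.prime_two⟩
  have heven : Even (Nat.card H) := by rw [hH]; exact even_two_mul m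
  obtain T : Sylow 2 H := default
  have hm0 : m ≠ 0 := by
    rintro rfl
    exact (Nat.not_odd_iff_even.2 (by decide)) hm
  have hTcard : Nat.card T = 2 := by
    rw [Sylow.card_eq_multiplicity, hH, Nat.factorization_mul (by norm_num) hm0]
    have h2 : (2 : ℕ).factorization 2 = 1 := Nat.Prime.factorization_self Nat.prime_two
    have hm2 : m.factorization 2 = 0 := by
      apply Nat.factorization_eq_zero_of_not_dvd
      intro hd
      exact (Nat.not_even_iff_odd.2 hm) (even_iff_two_dvd.2 hd)
    simp [h2, hm2]
  have hTcyc : IsCyclic (T : Subgroup H) := isCyclic_of_prime_card hTcard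
  obtain ⟨K, hK⟩ := Cfsg.Agent.S0219.result heven T hTcyc
  have hKn : K.Normal := Subgroup.normal_of_index_eq_two hK
  have hKcard : Nat.card K = m := by
    have := K.index_mul_card
    rw [hK, hH] at this
    omega
  refine ⟨K.map H.subtype, Subgroup.map_subtype_le K, ?_, ?_⟩
  · rw [Subgroup.card_map_of_injective (Subgroup.subtype_injective _), hKcard]
  · intro Q hQH hQodd
    have h1 : K.relIndex (Q.subgroupOf H) ∣ K.index := Subgroup.relIndex_dvd_index_of_normal K _
    rw [hK] at h1
    have h2 : K.relIndex (Q.subgroupOf H) ∣ Nat.card (Q.subgroupOf H) :=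
      Subgroup.relIndex_dvd_card K (Q.subgroupOf H)
    rw [Nat.card_congr (Subgroup.subgroupOfEquivOfLe hQH).toEquiv] at h2
    have h3 : K.relIndex (Q.subgroupOf H) = 1 := by
      rcases (Nat.dvd_prime Nat.prime_two).mp h1 with h | h
      · exact h
      · exfalso
        rw [h] at h2
        exact (Nat.not_even_iff_odd.2 hQodd) (even_iff_two_dvd.2 h2)
    have h4 : Q.subgroupOf H ≤ K := Subgroup.relIndex_eq_one.mp h3
    intro x hx
    exact ⟨⟨x, hQH hx⟩, h4 (Subgroup.mem_subgroupOf.mpr hx), rfl⟩

end general

variable {G : Type*} [Group G] [Finite G] [IsSimpleGroup G]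

theorem ne_1080 (hG : ¬ IsMulCommutative G) : Nat.card G ≠ 1080 := by
  intro hcard
  haveI : Fact (Nat.Prime 5) := ⟨by norm_num⟩
  haveI : Fact (Nat.Prime 3) := ⟨by norm_num⟩
  obtain ⟨P⟩ : Nonempty (Sylow 5 G) := inferInstance
  obtain ⟨hPcard, hPbot, hPtop, hdvd, hmod, hne1, hNtop, hNcard, hfact⟩ :=
    sylow_data hG 1 216 Nat.one_pos (by norm_num) (by rw [hcard]; norm_num) (by norm_num) P
  rw [pow_one] at hPcard
  have hcases : Nat.card (Sylow 5 G) = 6 ∨ Nat.card (Sylow 5 G) = 36 ∨
      Nat.card (Sylow 5 G) = 216 := by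
    have hmem : Nat.card (Sylow 5 G) ∈ (Nat.divisors 216).filter (fun n => n % 5 = 1) := by
      rw [Finset.mem_filter, Nat.mem_divisors]
      exact ⟨⟨hdvd, by norm_num⟩, hmod⟩
    have hset : (Nat.divisors 216).filter (fun n => n % 5 = 1) = {1, 6, 36, 216} := by decide
    rw [hset] at hmem
    simp only [Finset.mem_insert, Finset.mem_singleton] at hmem
    rcases hmem with h | h | h | h
    · exact absurd h hne1
    · exact Or.inl h
    · exact Or.inr (Or.inl h)
    · exact Or.inr (Or.inr h)
  rcases hcases with h6 | h36 | h216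
  · rw [h6, hcard] at hfact
    revert hfact
    decide
  · have hN : Nat.card (normalizer ((P : Subgroup G) : Set G)) = 5 * 6 := by
      rw [h36, hcard] at hNcard
      omega
    obtain ⟨r, hr, hCr⟩ := card_centralizer_sylow_prime P hPcard 6 hN
    have h3C : 3 ∣ Nat.card (centralizer ((P : Subgroup G) : Set G)) := by
      have hr2 : r ∣ 2 := by simpa using hr
      have hr12 : r = 1 ∨ r = 2 := by
        have := Nat.le_of_dvd (by norm_num) hr2
        interval_cases r <;> simp_all
      rcases hr12 with rfl | rfl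
      · exact ⟨10, by omega⟩
      · exact ⟨5, by omega⟩
    obtain ⟨z', hz'⟩ := exists_prime_orderOf_dvd_card' 3 h3C
    set z : G := (z' : G) with hzdef
    have hzo : orderOf z = 3 := by rw [hzdef, Subgroup.orderOf_coe, hz']
    have hzC : z ∈ centralizer ((P : Subgroup G) : Set G) := z'.2
    have hz1 : z ≠ 1 := by
      intro h
      rw [h, orderOf_one] at hzo
      omega
    set H := centralizer ({z} : Set G) with hHdef
    have hPH : (P : Subgroup G) ≤ H := by
      intro x hx
      rw [hHdef, Subgroup.mem_centralizer_iff]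
      intro y hy
      rw [Set.mem_singleton_iff] at hy
      rw [hy]
      exact ((Subgroup.mem_centralizer_iff.mp hzC) x hx).symm
    have h5H : 5 ∣ Nat.card H := by
      have := Subgroup.card_dvd_of_le hPH
      rwa [hPcard] at this
    -- a Sylow 3-subgroup containing z
    have hzp : IsPGroup 3 (zpowers z) := by
      apply IsPGroup.of_card (n := 1)
      rw [Nat.card_zpowers, hzo]; norm_num
    obtain ⟨S, hS⟩ := hzp.exists_le_sylow
    have hScard : Nat.card S = 3 ^ 3 :=
      Cfsg.Agent.Lib.Helper3.sylow_card_eq_of_card_eq S 3 40 (by rw [hcard]; norm_num) (by norm_num)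
    have h9H : 3 ^ 2 ∣ Nat.card H := by
      apply sq_dvd_card_centralizer S _ z (hS (mem_zpowers z))
      rw [hScard]
      exact ⟨3, by norm_num⟩
    have h45 : 45 ∣ Nat.card H := by
      have hcop : Nat.Coprime 5 (3 ^ 2) := by norm_num
      have := hcop.mul_dvd_of_dvd_of_dvd h5H h9H
      simpa using this
    have hHtop : H ≠ ⊤ := by
      intro h
      have hzc : z ∈ Subgroup.center G := by
        rw [Subgroup.mem_center_iff]
        intro g
        have hg : g ∈ H := by rw [h]; trivial
        rw [hHdef, Subgroup.mem_centralizer_iff] at hg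
        exact (hg z (Set.mem_singleton z)).symm
      rw [center_eq_bot hG] at hzc
      exact hz1 (Subgroup.mem_bot.mp hzc)
    have hidx := two_mul_card_dvd_factorial hG H hHtop
    have hidx9 : 9 ≤ H.index := by
      by_contra hlt
      push Not at hlt
      have h8 : H.index ≤ 8 := by omega
      have h1 : (H.index).factorial ∣ (8 : ℕ).factorial := Nat.factorial_dvd_factorial h8
      have h2 : 2 * Nat.card G ∣ (8 : ℕ).factorial := dvd_trans hidx h1
      rw [hcard] at h2
      revert h2
      decide
    have hmul := H.card_mul_index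
    rw [hcard] at hmul
    obtain ⟨u, hu⟩ := h45
    have hu12 : u = 1 ∨ u = 2 := by
      rw [hu] at hmul
      have h24 : u * H.index = 24 := by nlinarith
      have hu0 : u ≠ 0 := by
        rintro rfl
        omega
      have : u ≤ 2 := by
        by_contra hgt
        push Not at hgt
        have : 3 * 9 ≤ u * H.index := Nat.mul_le_mul hgt hidx9
        omega
      omega
    -- a subgroup of order 45 containing P
    obtain ⟨K, hK45, hPK⟩ : ∃ K : Subgroup G, Nat.card K = 45 ∧ (P : Subgroup G) ≤ K := by
      rcases hu12 with rfl | rfl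
      · exact ⟨H, by rw [hu], hPH⟩
      · obtain ⟨K, hKH, hKcard, hKodd⟩ := exists_half H 45 (by decide) (by rw [hu])
        refine ⟨K, hKcard, hKodd _ hPH ?_⟩
        rw [hPcard]; decide
    have hKN := le_normalizer_of_forced P K hPK 9 (by rw [hK45, hPcard]) (by decide)
    have := Subgroup.card_dvd_of_le hKN
    rw [hK45, hN] at this
    norm_num at this
  · have hN : Nat.card (normalizer ((P : Subgroup G) : Set G)) = 5 * 1 := by
      rw [h216, hcard] at hNcard
      omega
    exact transfer_kill P 1 hPcard hPbot hPtop hN (by norm_num)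

end Cfsg.Agent.Lib.Helper9.SmallOrd
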