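import Mathlib

set_option autoImplicit false

/-!
# A group of order 16 has an abelian subgroup of order 8
-/

namespace Cfsg.Agent.Lib.Helper9.SmallOrd

open Subgroup

section

variable {T : Type*} [Group T] [Finite T]

/-- If `y` is not central but `W ≤ C(y)` is central in `C(y)` of order at least 4 and
`|C(y)| = 8`, then `C(y)` is abelian. -/
theorem comm_of_centralizer_card_eight (y : T) (hC : Nat.card (centralizer ({y} : Set T)) = 8)
    (W : Subgroup T) (hW : W ≤ center T ⊔ zpowers y) (hW4 : 4 ≤ Nat.card W) :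
    ∀ a ∈ centralizer ({y} : Set T), ∀ b ∈ centralizer ({y} : Set T), a * b = b * a := by
  set M := centralizer ({y} : Set T) with hM
  have hWM : W ≤ M := by
    refine le_trans hW (sup_le ?_ ?_)
    · intro z hz
      rw [hM, Subgroup.mem_centralizer_iff]
      intro x hx
      rw [Set.mem_singleton_iff] at hx
      rw [hx]
      exact (Subgroup.mem_center_iff.mp hz y)
    · rw [Subgroup.zpowers_le, hM, Subgroup.mem_centralizer_iff]
      intro x hx
      rw [Set.mem_singleton_iff] at hx
      rw [hx]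
  -- W is central in M
  have hle : center T ⊔ zpowers y ≤ centralizer (M : Set T) := by
    refine sup_le ?_ ?_
    · intro z hz
      rw [Subgroup.mem_centralizer_iff]
      intro m _
      exact (Subgroup.mem_center_iff.mp hz m)
    · rw [Subgroup.zpowers_le, Subgroup.mem_centralizer_iff]
      intro m hm
      have hm' : m ∈ centralizer ({y} : Set T) := hm
      rw [Subgroup.mem_centralizer_iff] at hm'
      exact (hm' y (Set.mem_singleton y)).symm
  have hWc : ∀ w ∈ W, ∀ m ∈ M, w * m = m * w := by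
    intro w hw m hm
    have hw' := hle (hW hw)
    rw [Subgroup.mem_centralizer_iff] at hw'
    exact (hw' m hm).symm
  have hsub : W.subgroupOf M ≤ center M := by
    intro w hw
    rw [Subgroup.mem_center_iff]
    intro m
    apply Subtype.ext
    exact (hWc w.1 (Subgroup.mem_subgroupOf.mp hw) m.1 m.2).symm
  have hcardW : Nat.card (W.subgroupOf M) = Nat.card W :=
    Nat.card_congr (Subgroup.subgroupOfEquivOfLe hWM).toEquiv
  have h4 : 4 ≤ Nat.card (center M) := by
    have := Nat.le_of_dvd Nat.card_pos (Subgroup.card_dvd_of_le hsub)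
    omega
  have hmul := (center M).index_mul_card
  rw [hC] at hmul
  have hidx : (center M).index = 1 ∨ (center M).index = 2 := by
    have h0 : (center M).index ≠ 0 := Subgroup.index_ne_zero_of_finite
    have : (center M).index ≤ 2 := by
      by_contra hgt
      push Not at hgt
      have : 3 * 4 ≤ (center M).index * Nat.card (center M) := Nat.mul_le_mul hgt h4
      omega
    omega
  have hcyc : IsCyclic (M ⧸ center M) := by
    rcases hidx with h | h
    · have : Nat.card (M ⧸ center M) = 1 := h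
      haveI : Subsingleton (M ⧸ center M) := (Nat.card_eq_one_iff_unique.mp this).1
      exact isCyclic_of_subsingleton
    · have hc2 : Nat.card (M ⧸ center M) = 2 := h
      haveI : Fact (Nat.Prime 2) := ⟨Nat.prime_two⟩
      exact isCyclic_of_prime_card hc2
  intro a ha b hb
  have hMc : IsMulCommutative M :=
    MonoidHom.isMulCommutative_of_isCyclic_of_ker_le_center (QuotientGroup.mk' (center M))
      (by rw [QuotientGroup.ker_mk'])
  have := hMc.is_comm.comm (⟨a, ha⟩ : M) ⟨b, hb⟩
  exact congrArg Subtype.val this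

/-- In a nonabelian group of order 16 some noncentral element has a centralizer of order 8. -/
theorem exists_centralizer_card_eight (hT : Nat.card T = 16)
    (hnc : ¬ ∀ a b : T, a * b = b * a) :
    ∃ y : T, y ∉ center T ∧ Nat.card (centralizer ({y} : Set T)) = 8 ∧
      4 ≤ Nat.card (center T ⊔ zpowers y : Subgroup T) := by
  classical
  haveI : Fact (Nat.Prime 2) := ⟨Nat.prime_two⟩
  have hp : IsPGroup 2 T := IsPGroup.of_card (n := 4) (by rw [hT]; norm_num)
  haveI : Nontrivial T := by
    apply Finite.one_lt_card_iff_nontrivial.mp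
    rw [hT]; norm_num
  set Z := center T with hZ
  have hZnt : Nontrivial Z := hp.center_nontrivial
  have hZ1 : 1 < Nat.card Z := Finite.one_lt_card_iff_nontrivial.mpr hZnt
  have hZdvd : Nat.card Z ∣ 16 := hT ▸ Subgroup.card_subgroup_dvd_card Z
  have hZtop : Z ≠ ⊤ := by
    intro h
    apply hnc
    intro a b
    have : b ∈ Z := by rw [h]; trivial
    exact (Subgroup.mem_center_iff.mp this a)
  have hZ16 : Nat.card Z ≠ 16 := by
    intro h
    apply hZtop
    apply Subgroup.eq_top_of_card_eq
    rw [h, hT]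
  -- general facts about a noncentral element
  have key : ∀ y : T, y ∉ Z → Nat.card Z < Nat.card (Z ⊔ zpowers y : Subgroup T) ∧
      (Z ⊔ zpowers y : Subgroup T) ≤ centralizer ({y} : Set T) ∧
      Nat.card (centralizer ({y} : Set T)) ∣ 16 ∧ Nat.card (centralizer ({y} : Set T)) ≠ 16 := by
    intro y hy
    refine ⟨?_, ?_, ?_, ?_⟩
    · have hle : Nat.card Z ≤ Nat.card (Z ⊔ zpowers y : Subgroup T) :=
        Nat.le_of_dvd Nat.card_pos (Subgroup.card_dvd_of_le le_sup_left)
      rcases Nat.lt_or_ge (Nat.card Z) (Nat.card (Z ⊔ zpowers y : Subgroup T)) with h | h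
      · exact h
      · exfalso
        apply hy
        have heq : Z = Z ⊔ zpowers y := Subgroup.eq_of_le_of_card_ge le_sup_left h
        rw [heq]
        exact (le_sup_right : zpowers y ≤ Z ⊔ zpowers y) (Subgroup.mem_zpowers y)
    · refine sup_le ?_ ?_
      · intro z hz
        rw [Subgroup.mem_centralizer_iff]
        intro x hx
        rw [Set.mem_singleton_iff] at hx
        rw [hx]
        exact (Subgroup.mem_center_iff.mp hz y)
      · rw [Subgroup.zpowers_le, Subgroup.mem_centralizer_iff]
        intro x hx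
        rw [Set.mem_singleton_iff] at hx
        rw [hx]
    · exact hT ▸ Subgroup.card_subgroup_dvd_card _
    · intro h
      apply hy
      have htop : centralizer ({y} : Set T) = ⊤ := by
        apply Subgroup.eq_top_of_card_eq
        rw [h, hT]
      rw [hZ, Subgroup.mem_center_iff]
      intro g
      have hg : g ∈ centralizer ({y} : Set T) := by rw [htop]; trivial
      rw [Subgroup.mem_centralizer_iff] at hg
      exact (hg y (Set.mem_singleton y)).symm
  have hdiv16 : ∀ n : ℕ, n ∣ 16 → n = 1 ∨ n = 2 ∨ n = 4 ∨ n = 8 ∨ n = 16 := by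
    intro n hn
    have hle : n ≤ 16 := Nat.le_of_dvd (by norm_num) hn
    interval_cases n <;> simp_all
  have hZcases : Nat.card Z = 2 ∨ Nat.card Z = 4 ∨ Nat.card Z = 8 := by
    rcases hdiv16 _ hZdvd with h | h | h | h | h
    · omega
    · exact Or.inl h
    · exact Or.inr (Or.inl h)
    · exact Or.inr (Or.inr h)
    · exact absurd h hZ16
  obtain ⟨y₀, hy₀⟩ : ∃ y : T, y ∉ Z := by
    by_contra hcon
    push Not at hcon
    apply hZtop
    rw [eq_top_iff]
    intro x _
    exact hcon x
  -- cardinality of Z ⊔ zpowers y divides 16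
  have hsupdvd : ∀ y : T, Nat.card (Z ⊔ zpowers y : Subgroup T) ∣ 16 :=
    fun y => hT ▸ Subgroup.card_subgroup_dvd_card _
  rcases hZcases with h2 | h4 | h8
  · -- |Z| = 2 : use the centre of the quotient
    have hQp : IsPGroup 2 (T ⧸ Z) := hp.to_quotient Z
    have hQcard : Nat.card (T ⧸ Z) = 8 := by
      have := Z.index_mul_card
      rw [h2, hT] at this
      have : Z.index = 8 := by omega
      exact this
    haveI : Nontrivial (T ⧸ Z) := by
      apply Finite.one_lt_card_iff_nontrivial.mp
      rw [hQcard]; norm_num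
    have hQcn : Nontrivial (center (T ⧸ Z)) := hQp.center_nontrivial
    obtain ⟨⟨q, hq⟩, hq1⟩ := exists_ne (1 : center (T ⧸ Z))
    obtain ⟨y, rfl⟩ := QuotientGroup.mk_surjective q
    have hyZ : y ∉ Z := by
      intro h
      apply hq1
      apply Subtype.ext
      exact (QuotientGroup.eq_one_iff y).mpr h
    have hcommZ : ∀ g : T, g⁻¹ * y * g * y⁻¹ ∈ Z := by
      intro g
      rw [← QuotientGroup.eq_one_iff]
      have h1 := Subgroup.mem_center_iff.mp hq (QuotientGroup.mk g)
      have h2 : ((g⁻¹ * y * g * y⁻¹ : T) : T ⧸ Z)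
          = (QuotientGroup.mk g)⁻¹ * (QuotientGroup.mk y) * (QuotientGroup.mk g)
            * (QuotientGroup.mk y)⁻¹ := by
        simp
      rw [h2, mul_assoc ((QuotientGroup.mk g : T ⧸ Z)⁻¹), ← h1]
      group
    -- the unique nonidentity element of Z
    obtain ⟨z₀, hz₀Z, hz₀1, hz₀u⟩ : ∃ z₀ ∈ Z, z₀ ≠ 1 ∧ ∀ z ∈ Z, z ≠ 1 → z = z₀ := by
      obtain ⟨⟨z₀, hz₀⟩, hne⟩ := exists_ne (1 : Z)
      refine ⟨z₀, hz₀, fun h => hne (Subtype.ext h), ?_⟩
      intro z hz hz1
      by_contra hzz
      have h3 : 3 ≤ Nat.card Z := by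
        have : Function.Injective (fun i : Fin 3 => (![⟨1, Z.one_mem⟩, ⟨z₀, hz₀⟩, ⟨z, hz⟩] i : Z)) := by
          intro i j hij
          fin_cases i <;> fin_cases j <;> simp_all [Subtype.ext_iff]
        have := Nat.card_le_card_of_injective _ this
        simpa using this
      omega
    set H := centralizer ({y} : Set T) with hH
    have hmemH : ∀ g : T, g ∈ H ↔ g⁻¹ * y * g * y⁻¹ = 1 := by
      intro g
      rw [hH, Subgroup.mem_centralizer_iff]
      constructor
      · intro h
        have := h y (Set.mem_singleton y)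
        calc g⁻¹ * y * g * y⁻¹ = g⁻¹ * (y * g) * y⁻¹ := by group
          _ = g⁻¹ * (g * y) * y⁻¹ := by rw [this]
          _ = 1 := by group
      · intro h x hx
        rw [Set.mem_singleton_iff] at hx
        rw [hx]
        have : g⁻¹ * y * g = y := by
          calc g⁻¹ * y * g = (g⁻¹ * y * g * y⁻¹) * y := by group
            _ = y := by rw [h, one_mul]
        calc y * g = g * (g⁻¹ * y * g) := by group
          _ = g * y := by rw [this]
    obtain ⟨-, hsupH, hHdvd, hH16⟩ := key y hyZ
    obtain ⟨g₀, hg₀⟩ : ∃ g₀ : T, g₀ ∉ H := by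
      by_contra hcon
      push Not at hcon
      apply hH16
      have htop : H = ⊤ := by
        rw [eq_top_iff]; intro x _; exact hcon x
      have : Nat.card H = 16 := by rw [htop, Subgroup.card_top, hT]
      exact this
    have hidx2 : H.index = 2 := by
      rw [Subgroup.index_eq_two_iff]
      refine ⟨g₀⁻¹, fun b => ?_⟩
      by_cases hb : b ∈ H
      · refine Or.inr ⟨hb, ?_⟩
        intro hbg
        apply hg₀
        have h1 : b⁻¹ * (b * g₀⁻¹) ∈ H := H.mul_mem (H.inv_mem hb) hbg
        have h2 : b⁻¹ * (b * g₀⁻¹) = g₀⁻¹ := by group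
        rw [h2] at h1
        exact (Subgroup.inv_mem_iff H).mp h1
      · refine Or.inl ⟨?_, hb⟩
        have hb1 : b⁻¹ * y * b * y⁻¹ = z₀ :=
          hz₀u _ (hcommZ b) (fun h => hb ((hmemH b).mpr h))
        have hg1 : g₀⁻¹ * y * g₀ * y⁻¹ = z₀ :=
          hz₀u _ (hcommZ g₀) (fun h => hg₀ ((hmemH g₀).mpr h))
        rw [hmemH]
        have e1 : b⁻¹ * y * b = g₀⁻¹ * y * g₀ := by
          have : b⁻¹ * y * b * y⁻¹ = g₀⁻¹ * y * g₀ * y⁻¹ := by rw [hb1, hg1]
          exact mul_right_cancel this
        calc (b * g₀⁻¹)⁻¹ * y * (b * g₀⁻¹) * y⁻¹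
            = g₀ * (b⁻¹ * y * b) * g₀⁻¹ * y⁻¹ := by group
          _ = g₀ * (g₀⁻¹ * y * g₀) * g₀⁻¹ * y⁻¹ := by rw [e1]
          _ = 1 := by group
    have hHcard : Nat.card H = 8 := by
      have := H.index_mul_card
      rw [hidx2, hT] at this
      omega
    refine ⟨y, hyZ, hHcard, ?_⟩
    obtain ⟨hlt, -, -, -⟩ := key y hyZ
    rcases hdiv16 _ (hsupdvd y) with h | h | h | h | h <;> omega
  · -- |Z| = 4
    obtain ⟨hlt, hsupH, hHdvd, hH16⟩ := key y₀ hy₀
    have hsup8 : 8 ≤ Nat.card (Z ⊔ zpowers y₀ : Subgroup T) := by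
      rcases hdiv16 _ (hsupdvd y₀) with h | h | h | h | h <;> omega
    have hle := Nat.le_of_dvd Nat.card_pos (Subgroup.card_dvd_of_le hsupH)
    refine ⟨y₀, hy₀, ?_, by omega⟩
    rcases hdiv16 _ hHdvd with h | h | h | h | h <;> omega
  · -- |Z| = 8 is impossible
    exfalso
    obtain ⟨hlt, hsupH, hHdvd, hH16⟩ := key y₀ hy₀
    have hsup16 : 16 ≤ Nat.card (Z ⊔ zpowers y₀ : Subgroup T) := by
      rcases hdiv16 _ (hsupdvd y₀) with h | h | h | h | h <;> omega
    have hle := Nat.le_of_dvd Nat.card_pos (Subgroup.card_dvd_of_le hsupH)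
    rcases hdiv16 _ hHdvd with h | h | h | h | h <;> omega

/-- A group of order 16 has an abelian subgroup of order 8. -/
theorem exists_comm_card_eight (hT : Nat.card T = 16) :
    ∃ M : Subgroup T, Nat.card M = 8 ∧ ∀ a ∈ M, ∀ b ∈ M, a * b = b * a := by
  haveI : Fact (Nat.Prime 2) := ⟨Nat.prime_two⟩
  by_cases hcomm : ∀ a b : T, a * b = b * a
  · obtain ⟨K, hK⟩ := Sylow.exists_subgroup_card_pow_prime 2 (G := T) (n := 3)
      (by rw [hT]; norm_num)
    exact ⟨K, by rw [hK]; norm_num, fun a _ b _ => hcomm a b⟩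
  · obtain ⟨y, hy, hC, hW⟩ := exists_centralizer_card_eight hT hcomm
    exact ⟨centralizer ({y} : Set T), hC,
      comm_of_centralizer_card_eight y hC (center T ⊔ zpowers y) le_rfl hW⟩

end

/-- Version for a subgroup of order 16. -/
theorem exists_comm_card_eight_le {G : Type*} [Group G] [Finite G] (S : Subgroup G)
    (hS : Nat.card S = 16) :
    ∃ M : Subgroup G, M ≤ S ∧ Nat.card M = 8 ∧ ∀ a ∈ M, ∀ b ∈ M, a * b = b * a := by
  obtain ⟨M, hM, hcomm⟩ := exists_comm_card_eight (T := S) hS
  refine ⟨M.map S.subtype, Subgroup.map_subtype_le M, ?_, ?_⟩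
  · rw [Subgroup.card_map_of_injective (Subgroup.subtype_injective _), hM]
  · rintro _ ⟨a, ha, rfl⟩ _ ⟨b, hb, rfl⟩
    have := hcomm a ha b hb
    exact congrArg Subtype.val this

end Cfsg.Agent.Lib.Helper9.SmallOrd
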