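import Mathlib
import Cfsg.Agent.Lib.Helper9.SmallOrd11
import Cfsg.Agent.Lib.Helper9.SmallOrd12
import Cfsg.Agent.S0111

set_option autoImplicit false

/-!
# Order 1008
-/

namespace Cfsg.Agent.Lib.Helper9.SmallOrd

open Subgroup MulAction

variable {G : Type*} [Group G] [Finite G] [IsSimpleGroup G]

/-- An involution whose centralizer has order not divisible by 8, in a group whose Sylow
2-subgroups have order 16, contradicts the Thompson transfer lemma. -/
theorem thompson_kill (hG : ¬ IsMulCommutative G) (hG2 : 2 < Nat.card G) (S : Sylow 2 G)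
    (hS : Nat.card S = 16) (t : G) (hto : orderOf t = 2) (htS : t ∈ (S : Subgroup G))
    (h8 : ¬ 8 ∣ Nat.card (centralizer ({t} : Set G))) : False := by
  obtain ⟨M, hMS, hM8, hMcomm⟩ := exists_comm_card_eight_le (S : Subgroup G) hS
  have hrel : M.relIndex (S : Subgroup G) = 2 := by
    have h1 := (M.subgroupOf (S : Subgroup G)).index_mul_card
    rw [Nat.card_congr (Subgroup.subgroupOfEquivOfLe hMS).toEquiv, hM8, hS] at h1
    have : M.relIndex (S : Subgroup G) * 8 = 16 := h1
    omega
  have key : ∀ u : G, u ∈ M → 8 ∣ Nat.card (centralizer ({u} : Set G)) := by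
    intro u hu
    have hle : M ≤ centralizer ({u} : Set G) := by
      intro m hm
      rw [Subgroup.mem_centralizer_iff]
      intro x hx
      rw [Set.mem_singleton_iff] at hx
      rw [hx]
      exact hMcomm u hu m hm
    have := Subgroup.card_dvd_of_le hle
    rwa [hM8] at this
  by_cases htM : t ∈ M
  · exact h8 (key t htM)
  · rcases Cfsg.Agent.S0111.result S M hMS hrel t hto htS htM with ⟨K, hKn, hKi, -⟩ | ⟨g, hg⟩
    · apply normal_absurd K hKn
      · intro h
        rw [h, Subgroup.index_bot] at hKi
        omega
      · intro h
        rw [h, Subgroup.index_top] at hKi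
        omega
    · apply h8
      have h1 := key _ hg
      -- conjugate back
      have hle : (centralizer ({g * t * g⁻¹} : Set G)).map (MulAut.conj g⁻¹).toMonoidHom
          ≤ centralizer ({t} : Set G) := by
        rintro _ ⟨x, hx, rfl⟩
        have hx0 : x ∈ centralizer ({g * t * g⁻¹} : Set G) := hx
        rw [Subgroup.mem_centralizer_iff] at hx0
        rw [Subgroup.mem_centralizer_iff]
        intro y hy
        rw [Set.mem_singleton_iff] at hy
        rw [hy]
        have hx' := hx0 (g * t * g⁻¹) (Set.mem_singleton _)
        show t * (g⁻¹ * x * g⁻¹⁻¹) = (g⁻¹ * x * g⁻¹⁻¹) * t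
        rw [inv_inv]
        calc t * (g⁻¹ * x * g) = g⁻¹ * ((g * t * g⁻¹) * x) * g := by group
          _ = g⁻¹ * (x * (g * t * g⁻¹)) * g := by rw [hx']
          _ = g⁻¹ * x * g * t := by group
      have h2 := Subgroup.card_dvd_of_le hle
      rw [Subgroup.card_map_of_injective (MulAut.conj g⁻¹).injective] at h2
      exact dvd_trans h1 h2

theorem ne_1008 (hG : ¬ IsMulCommutative G) : Nat.card G ≠ 1008 := by
  intro hcard
  haveI : Fact (Nat.Prime 7) := ⟨by norm_num⟩
  haveI : Fact (Nat.Prime 2) := ⟨Nat.prime_two⟩
  obtain ⟨P⟩ : Nonempty (Sylow 7 G) := inferInstance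
  obtain ⟨hPcard, hPbot, hPtop, hdvd, hmod, hne1, hNtop, hNcard, hfact⟩ :=
    sylow_data hG 1 144 Nat.one_pos (by norm_num) (by rw [hcard]; norm_num) (by norm_num) P
  rw [pow_one] at hPcard
  have hcases : Nat.card (Sylow 7 G) = 8 ∨ Nat.card (Sylow 7 G) = 36 := by
    have hmem : Nat.card (Sylow 7 G) ∈ (Nat.divisors 144).filter (fun n => n % 7 = 1) := by
      rw [Finset.mem_filter, Nat.mem_divisors]
      exact ⟨⟨hdvd, by norm_num⟩, hmod⟩
    have hset : (Nat.divisors 144).filter (fun n => n % 7 = 1) = {1, 8, 36} := by decide
    rw [hset] at hmem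
    simp only [Finset.mem_insert, Finset.mem_singleton] at hmem
    rcases hmem with h | h | h
    · exact absurd h hne1
    · exact Or.inl h
    · exact Or.inr h
  rcases hcases with h8 | h36
  · have hN : Nat.card (normalizer ((P : Subgroup G) : Set G)) = 7 * 18 := by
      rw [h8, hcard] at hNcard
      omega
    have := np_succ_dvd P hPcard h8 hNtop 18 hN
    norm_num at this
  · have hN : Nat.card (normalizer ((P : Subgroup G) : Set G)) = 7 * 4 := by
      rw [h36, hcard] at hNcard
      omega
    obtain ⟨r, hr, hCr⟩ := card_centralizer_sylow_prime P hPcard 4 hN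
    set C := centralizer ((P : Subgroup G) : Set G) with hCdef
    have hr12 : r = 1 ∨ r = 2 := by
      have hr2 : r ∣ 2 := by simpa using hr
      have := Nat.le_of_dvd (by norm_num) hr2
      interval_cases r <;> simp_all
    have hCcard : Nat.card C = 14 := by
      rcases hr12 with rfl | rfl
      · exfalso
        have hCN : C ≤ normalizer ((P : Subgroup G) : Set G) :=
          Subgroup.centralizer_le_normalizer _
        have heq : C = normalizer ((P : Subgroup G) : Set G) := by
          apply Subgroup.eq_of_le_of_card_ge hCN
          rw [hN]; omega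
        rcases Cfsg.Agent.Lib.Helper3.sylow_eq_bot_or_top_of_normalizer_le_centralizer P
          (heq ▸ le_rfl) with h' | h'
        · exact hPbot h'
        · exact hPtop h'
      · omega
    have hPC : (P : Subgroup G) ≤ C := by
      intro x hx
      rw [hCdef, Subgroup.mem_centralizer_iff]
      intro y hy
      exact comm_of_card_prime P hPcard y hy x hx
    obtain ⟨t', ht'⟩ := exists_prime_orderOf_dvd_card' 2 (show 2 ∣ Nat.card C by rw [hCcard]; norm_num)
    set t : G := (t' : G) with htdef
    have hto : orderOf t = 2 := by rw [htdef, Subgroup.orderOf_coe, ht']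
    have htC : t ∈ C := t'.2
    have htt : t * t = 1 := by
      rw [← pow_two, ← hto]; exact pow_orderOf_eq_one t
    -- elements of C of order two are equal to t
    have hodd : ∀ x ∈ (P : Subgroup G), x * x = 1 → x = 1 := by
      intro x hx hxx
      have h1 : orderOf x ∣ 2 := orderOf_dvd_of_pow_eq_one (by rw [pow_two]; exact hxx)
      have h2 : orderOf x ∣ 7 := by
        have := orderOf_dvd_natCard (⟨x, hx⟩ : (P : Subgroup G))
        rw [hPcard, Subgroup.orderOf_mk] at this
        exact this
      have h3 : orderOf x ∣ Nat.gcd 2 7 := Nat.dvd_gcd h1 h2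
      have h4 : orderOf x = 1 := by simpa using h3
      exact orderOf_eq_one_iff.mp h4
    have hidxP : ((P : Subgroup G).subgroupOf C).index = 2 := by
      have h1 := ((P : Subgroup G).subgroupOf C).index_mul_card
      rw [Nat.card_congr (Subgroup.subgroupOfEquivOfLe hPC).toEquiv, hPcard, hCcard] at h1
      omega
    have hnotP : ∀ u : G, orderOf u = 2 → u ∉ (P : Subgroup G) := by
      intro u hu huP
      have huu : u * u = 1 := by
        rw [← pow_two, ← hu]; exact pow_orderOf_eq_one u
      have := hodd u huP huu
      rw [this, orderOf_one] at hu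
      omega
    have huniq : ∀ u ∈ C, orderOf u = 2 → u = t := by
      intro u huC hu
      have huu : u * u = 1 := by
        rw [← pow_two, ← hu]; exact pow_orderOf_eq_one u
      have h1 : (⟨u, huC⟩ : C) ∉ (P : Subgroup G).subgroupOf C := fun h =>
        hnotP u hu (Subgroup.mem_subgroupOf.mp h)
      have h2 : (⟨t, htC⟩ : C) ∉ (P : Subgroup G).subgroupOf C := fun h =>
        hnotP t hto (Subgroup.mem_subgroupOf.mp h)
      have h3 : (⟨u, huC⟩ : C) * ⟨t, htC⟩ ∈ (P : Subgroup G).subgroupOf C := by
        rw [Subgroup.mul_mem_iff_of_index_two hidxP]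
        exact ⟨fun h => absurd h h1, fun h => absurd h h2⟩
      have hx : u * t ∈ (P : Subgroup G) := Subgroup.mem_subgroupOf.mp h3
      have hcomm : t * (u * t) = (u * t) * t :=
        ((Subgroup.mem_centralizer_iff.mp htC) (u * t) hx).symm
      have hut : t * u = u * t := by
        have : t * (u * t) * t = (u * t) * t * t := by rw [hcomm]
        calc t * u = t * (u * t) * t := by rw [mul_assoc, mul_assoc u, htt, mul_one]
          _ = (u * t) * t * t := this
          _ = u * t := by rw [mul_assoc (u * t), htt, mul_one]
      have hsq : (u * t) * (u * t) = 1 := by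
        calc (u * t) * (u * t) = u * (t * u) * t := by group
          _ = u * (u * t) * t := by rw [hut]
          _ = (u * u) * (t * t) := by group
          _ = 1 := by rw [huu, htt, one_mul]
      have := hodd _ hx hsq
      calc u = (u * t) * t := by rw [mul_assoc, htt, mul_one]
        _ = t := by rw [this, one_mul]
    -- the class of t has size 1 mod 7
    have hmod7 : (centralizer ({t} : Set G)).index % 7 = 1 := by
      apply index_centralizer_mod (P : Subgroup G) P.2 t htC
      intro u hconj huC
      apply huniq u huC
      obtain ⟨c, hc⟩ := isConj_iff.mp hconj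
      rw [← hc]
      have : c * t * c⁻¹ = (MulAut.conj c).toMonoidHom t := by simp
      rw [this, orderOf_injective (MulAut.conj c).toMonoidHom (MulAut.conj c).injective, hto]
    set H := centralizer ({t} : Set G) with hHdef
    have hPH : (P : Subgroup G) ≤ H := by
      intro x hx
      rw [hHdef, Subgroup.mem_centralizer_iff]
      intro y hy
      rw [Set.mem_singleton_iff] at hy
      rw [hy]
      exact ((Subgroup.mem_centralizer_iff.mp htC) x hx).symm
    have h7H : 7 ∣ Nat.card H := by
      have := Subgroup.card_dvd_of_le hPH
      rwa [hPcard] at this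
    have htp : IsPGroup 2 (zpowers t) := by
      apply IsPGroup.of_card (n := 1)
      rw [Nat.card_zpowers, hto]; norm_num
    obtain ⟨S, hS⟩ := htp.exists_le_sylow
    have hScard : Nat.card S = 2 ^ 4 :=
      Cfsg.Agent.Lib.Helper3.sylow_card_eq_of_card_eq S 4 63 (by rw [hcard]; norm_num) (by norm_num)
    have htS : t ∈ (S : Subgroup G) := hS (mem_zpowers t)
    have h4H : 2 ^ 2 ∣ Nat.card H := by
      apply sq_dvd_card_centralizer S _ t htS
      rw [hScard]
      exact ⟨4, by norm_num⟩
    have h28 : 28 ∣ Nat.card H := by
      have hcop : Nat.Coprime 7 (2 ^ 2) := by norm_num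
      have := hcop.mul_dvd_of_dvd_of_dvd h7H h4H
      simpa using this
    have ht1 : t ≠ 1 := by
      intro h
      rw [h, orderOf_one] at hto
      omega
    have hHtop : H ≠ ⊤ := by
      intro h
      have hzc : t ∈ Subgroup.center G := by
        rw [Subgroup.mem_center_iff]
        intro g
        have hg : g ∈ H := by rw [h]; trivial
        rw [hHdef, Subgroup.mem_centralizer_iff] at hg
        exact (hg t (Set.mem_singleton t)).symm
      rw [center_eq_bot hG] at hzc
      exact ht1 (Subgroup.mem_bot.mp hzc)
    have hidx := two_mul_card_dvd_factorial hG H hHtop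
    have hidx8 : 8 ≤ H.index := by
      by_contra hlt
      push Not at hlt
      have h7 : H.index ≤ 7 := by omega
      have h1 : (H.index).factorial ∣ (7 : ℕ).factorial := Nat.factorial_dvd_factorial h7
      have h2 : 2 * Nat.card G ∣ (7 : ℕ).factorial := dvd_trans hidx h1
      rw [hcard] at h2
      revert h2
      decide
    have hmul := H.card_mul_index
    rw [hcard] at hmul
    obtain ⟨u, hu⟩ := h28
    have hH28 : Nat.card H = 28 := by
      rw [hu] at hmul
      have h36' : u * H.index = 36 := by nlinarith
      have hu0 : u ≠ 0 := by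
        rintro rfl
        omega
      have hu4 : u ≤ 4 := by
        by_contra hgt
        push Not at hgt
        have : 5 * 8 ≤ u * H.index := Nat.mul_le_mul hgt hidx8
        omega
      have hu1 : u = 1 := by
        have hc : u = 1 ∨ u = 2 ∨ u = 3 ∨ u = 4 := by omega
        rcases hc with h | h | h | h
        · exact h
        · exfalso
          rw [h] at h36'
          have : H.index = 18 := by omega
          rw [this] at hmod7
          omega
        · exfalso
          rw [h] at h36'
          have : H.index = 12 := by omega
          rw [this] at hmod7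
          omega
        · exfalso
          rw [h] at h36'
          have : H.index = 9 := by omega
          rw [this] at hmod7
          omega
      rw [hu, hu1]
    apply thompson_kill hG (by rw [hcard]; norm_num) S (by rw [hScard]; norm_num) t hto htS
    rw [← hHdef, hH28]
    norm_num

end Cfsg.Agent.Lib.Helper9.SmallOrd
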