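import Mathlib
import Cfsg.Agent.Lib.Helper9.SmallOrd3

set_option autoImplicit false

/-!
# Sylow subgroups with a large intersection
-/

namespace Cfsg.Agent.Lib.Helper9.SmallOrd

open Subgroup MulAction

/-- If every stabilizer has index divisible by `m`, then `m` divides the cardinality. -/
theorem dvd_card_of_forall_index (H : Type*) [Group H] [Finite H] (X : Type*) [MulAction H X]
    [Finite X] (m : ℕ) (h : ∀ x : X, m ∣ (stabilizer H x).index) : m ∣ Nat.card X := by
  classical
  haveI : Fintype (Quotient (orbitRel H X)) := Fintype.ofFinite _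
  rw [Nat.card_congr (selfEquivSigmaOrbitsQuotientStabilizer H X), Nat.card_sigma]
  apply Finset.dvd_sum
  intro ω _
  exact h _

variable {G : Type*} [Group G] [Finite G] [IsSimpleGroup G] {p : ℕ} [hp : Fact p.Prime]

/-- If the number of Sylow `p`-subgroups is not `1` mod `p²`, two of them intersect in a subgroup
of index `p`. -/
theorem exists_sylow_inter_index (P : Sylow p G) (hn : Nat.card (Sylow p G) % (p ^ 2) ≠ 1) :
    ∃ Q : Sylow p G, Q ≠ P ∧
      Nat.card ((P : Subgroup G) ⊓ (Q : Subgroup G) : Subgroup G) * p = Nat.card P := by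
  classical
  by_contra hcon
  push Not at hcon
  let X := {Q : Sylow p G // Q ≠ P}
  let act : MulAction (P : Subgroup G) X :=
    { smul := fun x Q => ⟨(x : G) • Q.1, Reg.smul_ne Q.1 Q.2 x x.2⟩
      one_smul := fun Q => Subtype.ext (one_smul G Q.1)
      mul_smul := fun x y Q => Subtype.ext (mul_smul (x : G) (y : G) Q.1) }
  have hdvd : p ^ 2 ∣ Nat.card X := by
    apply dvd_card_of_forall_index (P : Subgroup G) X
    intro Q
    set S := stabilizer (P : Subgroup G) Q with hS
    have hmap : S.map (P : Subgroup G).subtype = (P : Subgroup G) ⊓ (Q.1 : Subgroup G) := by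
      ext x
      constructor
      · rintro ⟨y, hy, rfl⟩
        have hy' : y • Q = Q := hy
        have hy2 : (y : G) • Q.1 = Q.1 := congrArg Subtype.val hy'
        have h1 : (y : G) ∈ normalizer ((Q.1 : Subgroup G) : Set G) :=
          Sylow.smul_eq_iff_mem_normalizer.mp hy2
        have h2 : (y : G) ∈ (P : Subgroup G) ⊓ (Q.1 : Subgroup G) := by
          rw [← P.2.inf_normalizer_sylow Q.1]; exact ⟨y.2, h1⟩
        exact h2
      · intro hx
        refine ⟨⟨x, hx.1⟩, ?_, rfl⟩
        show (⟨x, hx.1⟩ : (P : Subgroup G)) • Q = Q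
        apply Subtype.ext
        show x • Q.1 = Q.1
        exact smul_self_of_mem Q.1 x hx.2
    have hcardS : Nat.card S = Nat.card ((P : Subgroup G) ⊓ (Q.1 : Subgroup G) : Subgroup G) := by
      rw [← hmap]
      exact (Subgroup.card_map_of_injective (Subgroup.subtype_injective _)).symm
    have hidx : S.index * Nat.card S = Nat.card P := S.index_mul_card
    obtain ⟨a, ha⟩ := (IsPGroup.iff_card.mp P.2)
    have hSp : IsPGroup p S := P.2.to_subgroup S
    obtain ⟨b, hb⟩ := (IsPGroup.iff_card.mp hSp)
    obtain ⟨c, hc⟩ : ∃ c, S.index = p ^ c := by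
      have hd : S.index ∣ p ^ a := by rw [← ha, ← hidx]; exact Dvd.intro _ rfl
      obtain ⟨c, -, hc⟩ := (Nat.dvd_prime_pow hp.1).mp hd
      exact ⟨c, hc⟩
    rw [hc]
    apply pow_dvd_pow
    by_contra hlt
    have hc01 : c = 0 ∨ c = 1 := by omega
    rcases hc01 with h0 | h1
    · -- index one: P ≤ Q
      rw [h0, pow_zero] at hc
      have hStop : S = ⊤ := Subgroup.index_eq_one.mp hc
      have hle : (P : Subgroup G) ≤ (Q.1 : Subgroup G) := by
        intro x hx
        have hx' : (⟨x, hx⟩ : (P : Subgroup G)) ∈ S := by rw [hStop]; trivial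
        have : x ∈ S.map (P : Subgroup G).subtype := ⟨⟨x, hx⟩, hx', rfl⟩
        rw [hmap] at this
        exact this.2
      exact Q.2 (Cfsg.Agent.Lib.Helper3.sylow_eq_of_le P Q.1 hle).symm
    · rw [h1, pow_one] at hc
      apply hcon Q.1 Q.2
      rw [← hcardS, ← hidx, hc, mul_comm]
  have hXcard : Nat.card X + 1 = Nat.card (Sylow p G) := by
    have h1 : Nat.card X = Nat.card (Sylow p G) - 1 := by
      haveI : Fintype (Sylow p G) := Fintype.ofFinite _
      rw [Nat.card_eq_fintype_card, Nat.card_eq_fintype_card, Fintype.card_subtype_compl,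
        Fintype.card_subtype_eq]
    have h2 : 0 < Nat.card (Sylow p G) := Nat.card_pos
    omega
  apply hn
  obtain ⟨k, hk⟩ := hdvd
  rw [← hXcard, hk, Nat.add_comm, Nat.add_mul_mod_self_left]
  apply Nat.mod_eq_of_lt
  exact Nat.one_lt_pow (by norm_num) hp.1.one_lt

/-- A subgroup of index `p` in a finite `p`-group is normal: version inside `G`. -/
theorem le_normalizer_of_card_mul (P : Subgroup G) (hP : IsPGroup p P) (D : Subgroup G)
    (hD : D ≤ P) (hcard : Nat.card D * p = Nat.card P) : P ≤ normalizer (D : Set G) := by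
  have hrel : (D.subgroupOf P).index = p := by
    have h1 := (D.subgroupOf P).index_mul_card
    rw [Nat.card_congr (Subgroup.subgroupOfEquivOfLe hD).toEquiv, ← hcard] at h1
    have h2 : (D.subgroupOf P).index * Nat.card D = p * Nat.card D := by rw [mul_comm p]; exact h1
    exact Nat.eq_of_mul_eq_mul_right Nat.card_pos h2
  obtain ⟨a, ha⟩ := (IsPGroup.iff_card.mp hP)
  have ha0 : a ≠ 0 := by
    rintro rfl
    rw [pow_zero] at ha
    rw [ha] at hcard
    have h1 : Nat.card D = 1 := Nat.eq_one_of_mul_eq_one_right hcard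
    rw [h1, one_mul] at hcard
    exact hp.1.one_lt.ne' hcard
  have hnorm : (D.subgroupOf P).Normal := by
    apply Subgroup.normal_of_index_eq_minFac_card
    rw [hrel, ha, Nat.pow_minFac ha0, hp.1.minFac_eq]
  exact (Subgroup.normal_subgroupOf_iff_le_normalizer hD).mp hnorm

end Cfsg.Agent.Lib.Helper9.SmallOrd
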