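import Mathlib
import Cfsg.Agent.Lib.Helper9.SmallOrd8

set_option autoImplicit false

/-!
# Orders 480 and 960: two Sylow 2-subgroups with a large intersection
-/

namespace Cfsg.Agent.Lib.Helper9.SmallOrd

open Subgroup MulAction

variable {G : Type*} [Group G] [Finite G] [IsSimpleGroup G] {p : ℕ} [hp : Fact p.Prime]

/-- A subgroup containing two distinct Sylow `p`-subgroups of order `p^a` has order `p^a j`
with `j ≥ p + 1`. -/
theorem card_of_two_sylow (P Q : Sylow p G) (hPQ : Q ≠ P) (N : Subgroup G)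
    (hP : (P : Subgroup G) ≤ N) (hQ : (Q : Subgroup G) ≤ N) :
    ∃ j, Nat.card N = Nat.card P * j ∧ p + 1 ≤ j := by
  classical
  let P' : Sylow p N := P.subtype hP
  let Q' : Sylow p N := Q.subtype hQ
  have hne : Q' ≠ P' := by
    intro h
    apply hPQ
    have h1 : (Q : Subgroup G).subgroupOf N = (P : Subgroup G).subgroupOf N := by
      have := congrArg (fun S : Sylow p N => (S : Subgroup N)) h
      simpa [P', Q', Sylow.coe_subtype] using this
    have h2 := (Subgroup.subgroupOf_inj).mp h1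
    rw [inf_eq_left.mpr hQ, inf_eq_left.mpr hP] at h2
    exact Sylow.ext h2
  have hcardP' : Nat.card (P' : Subgroup N) = Nat.card P := by
    show Nat.card ((P : Subgroup G).subgroupOf N) = Nat.card P
    exact Nat.card_congr (Subgroup.subgroupOfEquivOfLe hP).toEquiv
  have h1 : Nat.card (Sylow p N) ∣ (P' : Subgroup N).index := P'.card_dvd_index
  have h2 : Nat.card (Sylow p N) ≡ 1 [MOD p] := card_sylow_modEq_one p N
  have h3 : 1 < Nat.card (Sylow p N) := by
    rw [Finite.one_lt_card_iff_nontrivial]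
    exact ⟨⟨Q', P', hne⟩⟩
  have h4 : p + 1 ≤ Nat.card (Sylow p N) := by
    have h5 : Nat.card (Sylow p N) % p = 1 % p := h2
    rw [Nat.mod_eq_of_lt hp.1.one_lt] at h5
    by_contra hlt
    push Not at hlt
    have h6 : Nat.card (Sylow p N) < p ∨ Nat.card (Sylow p N) = p := by omega
    rcases h6 with h6 | h6
    · rw [Nat.mod_eq_of_lt h6] at h5; omega
    · rw [h6, Nat.mod_self] at h5; omega
  refine ⟨(P' : Subgroup N).index, ?_, ?_⟩
  · rw [← hcardP']; exact ((P' : Subgroup N).card_mul_index).symm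
  · have hpos : 0 < (P' : Subgroup N).index :=
      Nat.pos_of_ne_zero Subgroup.index_ne_zero_of_finite
    exact le_trans h4 (Nat.le_of_dvd hpos h1)

/-- Orders `p^a m` with `a ≥ 2` where every candidate for `n_p` is not `1` mod `p²`, and there
is no subgroup of index at most `m / (p + 1)`. -/
theorem inter_kill (hG : ¬ IsMulCommutative G) (a m : ℕ) (ha : 1 < a) (hm : 1 < m)
    (hcard : Nat.card G = p ^ a * m) (hpm : ¬ p ∣ m)
    (hnp : ∀ d ∈ Nat.divisors m, d % p = 1 → d = 1 ∨ d % p ^ 2 ≠ 1 ∨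
      ¬ (2 * (p ^ a * m) ∣ d.factorial))
    (hidx : ∀ i ∈ Nat.divisors m, i * (p + 1) ≤ m → ¬ (2 * (p ^ a * m) ∣ i.factorial)) :
    False := by
  obtain ⟨P⟩ : Nonempty (Sylow p G) := inferInstance
  obtain ⟨hPcard, hPbot, hPtop, hdvd, hmod, hne1, hNtop, hNcard, hfact⟩ :=
    sylow_data hG a m (by omega) hm hcard hpm P
  have hm0 : m ≠ 0 := by omega
  have hn : Nat.card (Sylow p G) % p ^ 2 ≠ 1 := by
    rcases hnp _ (Nat.mem_divisors.mpr ⟨hdvd, hm0⟩) hmod with h | h | h
    · exact absurd h hne1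
    · exact h
    · rw [hcard] at hfact; exact absurd hfact h
  obtain ⟨Q, hQP, hD⟩ := exists_sylow_inter_index P hn
  set D : Subgroup G := (P : Subgroup G) ⊓ (Q : Subgroup G) with hDdef
  have hPN : (P : Subgroup G) ≤ normalizer (D : Set G) :=
    le_normalizer_of_card_mul (P : Subgroup G) P.2 D inf_le_left hD
  have hQN : (Q : Subgroup G) ≤ normalizer (D : Set G) := by
    apply le_normalizer_of_card_mul (Q : Subgroup G) Q.2 D inf_le_right
    rw [hD, Cfsg.Agent.Lib.Helper3.card_sylow_eq P Q]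
  -- D is neither trivial nor everything
  have hDcard : Nat.card D = p ^ (a - 1) := by
    have h1 : Nat.card D * p = p ^ (a - 1) * p := by
      rw [hD, hPcard, ← pow_succ]
      congr 1
      omega
    exact Nat.eq_of_mul_eq_mul_right hp.1.pos h1
  have hDbot : D ≠ ⊥ := by
    intro h
    rw [h, Subgroup.card_bot] at hDcard
    have : 1 < p ^ (a - 1) := Nat.one_lt_pow (by omega) hp.1.one_lt
    omega
  have hDtop : D ≠ ⊤ := by
    intro h
    apply hPtop
    rw [eq_top_iff, ← h]
    exact inf_le_left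
  have hNDtop : normalizer (D : Set G) ≠ ⊤ := by
    intro h
    exact normal_absurd D (Subgroup.normalizer_eq_top_iff.mp h) hDbot hDtop
  obtain ⟨j, hj, hjp⟩ := card_of_two_sylow P Q hQP (normalizer (D : Set G)) hPN hQN
  have h2 := two_mul_card_dvd_factorial hG _ hNDtop
  have hmul := (normalizer (D : Set G)).card_mul_index
  rw [hj, hPcard, hcard] at hmul
  have hm' : j * (normalizer (D : Set G)).index = m := by
    have : p ^ a * (j * (normalizer (D : Set G)).index) = p ^ a * m := by
      rw [← hmul]; ring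
    exact Nat.eq_of_mul_eq_mul_left (pow_pos hp.1.pos a) this
  have hi : (normalizer (D : Set G)).index ∈ Nat.divisors m :=
    Nat.mem_divisors.mpr ⟨Dvd.intro_left j hm', hm0⟩
  have hle : (normalizer (D : Set G)).index * (p + 1) ≤ m := by
    rw [← hm', mul_comm]
    exact Nat.mul_le_mul_right _ hjp
  rw [hcard] at h2
  exact hidx _ hi hle h2

theorem ne_480 (hG : ¬ IsMulCommutative G) : Nat.card G ≠ 480 := by
  intro hcard
  exact @inter_kill G _ _ _ 2 ⟨Nat.prime_two⟩ hG 5 15 (by norm_num) (by norm_num)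
    (by rw [hcard]; norm_num) (by norm_num) (by decide) (by decide)

theorem ne_960 (hG : ¬ IsMulCommutative G) : Nat.card G ≠ 960 := by
  intro hcard
  exact @inter_kill G _ _ _ 2 ⟨Nat.prime_two⟩ hG 6 15 (by norm_num) (by norm_num)
    (by rw [hcard]; norm_num) (by norm_num) (by decide) (by decide)

end Cfsg.Agent.Lib.Helper9.SmallOrd
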