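import Mathlib
import Cfsg.Agent.Lib.Helper9.SmallOrd13
import Cfsg.Agent.S4216
import Cfsg.Agent.Lib.Helper9.SmallOrd9

set_option autoImplicit false

namespace Cfsg.Agent.Lib.Helper9.SmallOrd

open Subgroup MulAction
open scoped commutatorElement

/-- In a nonabelian group of order `p^3`, the centre has order `p` and contains all commutators. -/
theorem center_of_card_cube {H : Type*} [Group H] [Finite H] {p : ℕ} [hp : Fact p.Prime]
    (hH : Nat.card H = p ^ 3) (hnc : ¬ IsMulCommutative H) :
    Nat.card (center H) = p ∧ ∀ x y : H, ⁅x, y⁆ ∈ center H := by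
  have hpg : IsPGroup p H := IsPGroup.of_card hH
  haveI : Nontrivial H := by
    rw [← Finite.one_lt_card_iff_nontrivial, hH]
    exact Nat.one_lt_pow (by norm_num) hp.1.one_lt
  haveI := hpg.center_nontrivial
  have h1 : 1 < Nat.card (center H) := Finite.one_lt_card_iff_nontrivial.mpr inferInstance
  have hdvd : Nat.card (center H) ∣ p ^ 3 := hH ▸ Subgroup.card_subgroup_dvd_card _
  obtain ⟨k, hk3, hk⟩ := (Nat.dvd_prime_pow hp.1).mp hdvd
  have hq := (center H).card_eq_card_quotient_mul_card_subgroup
  rw [hH, hk] at hq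
  have hk1 : k = 1 := by
    have hk0 : k ≠ 0 := by
      rintro rfl
      rw [hk] at h1
      simp at h1
    have hk3' : k ≠ 3 := by
      rintro rfl
      apply hnc
      have htop : center H = ⊤ := by
        apply Subgroup.eq_top_of_card_eq
        rw [hk, hH]
      exact ⟨⟨fun a b => by
        have ha : a ∈ center H := by rw [htop]; trivial
        exact ((Subgroup.mem_center_iff.mp ha) b).symm⟩⟩
    have hk2 : k ≠ 2 := by
      rintro rfl
      apply hnc
      have hcq : Nat.card (H ⧸ center H) = p := by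
        have : p ^ 3 = p * p ^ 2 := by ring
        rw [this] at hq
        exact (Nat.eq_of_mul_eq_mul_right (pow_pos hp.1.pos 2) hq).symm
      haveI : IsCyclic (H ⧸ center H) := isCyclic_of_prime_card hcq
      exact isMulCommutative_of_isCyclic_quotient_center_self H
    omega
  subst hk1
  rw [pow_one] at hk
  refine ⟨hk, ?_⟩
  have hcq : Nat.card (H ⧸ center H) = p ^ 2 := by
    have : p ^ 3 = p ^ 2 * p ^ 1 := by ring
    rw [this] at hq
    exact (Nat.eq_of_mul_eq_mul_right (pow_pos hp.1.pos 1) hq).symm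
  have hcomm := IsPGroup.isMulCommutative_of_card_eq_prime_sq hcq
  intro x y
  rw [← QuotientGroup.eq_one_iff]
  have : ((⁅x, y⁆ : H) : H ⧸ center H) = ⁅(x : H ⧸ center H), (y : H ⧸ center H)⁆ := rfl
  rw [this, commutatorElement_eq_one_iff_mul_comm]
  exact hcomm.is_comm.comm _ _

variable {G : Type*} [Group G] [Finite G] [IsSimpleGroup G]

theorem commutator_eq_top_of_simple (hG : ¬ IsMulCommutative G) : commutator G = ⊤ := by
  rcases (inferInstance : (commutator G).Normal).eq_bot_or_eq_top with h | h
  · exfalso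
    apply hG
    refine ⟨⟨fun a b => ?_⟩⟩
    have : ⁅a, b⁆ ∈ commutator G := by
      rw [commutator_def]
      exact Subgroup.commutator_mem_commutator (Subgroup.mem_top a) (Subgroup.mem_top b)
    rw [h, Subgroup.mem_bot, commutatorElement_eq_one_iff_mul_comm] at this
    exact this
  · exact h

/-- Two distinct Sylow `p`-subgroups cannot meet in a subgroup of index `p`, when there are no
subgroups of small index. -/
theorem inter_index_kill {p : ℕ} [hp : Fact p.Prime] (hG : ¬ IsMulCommutative G) (a m : ℕ)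
    (ha : 1 < a) (hm : 1 < m)
    (hcard : Nat.card G = p ^ a * m) (hpm : ¬ p ∣ m)
    (hidx : ∀ i ∈ Nat.divisors m, i * (p + 1) ≤ m → ¬ (2 * (p ^ a * m) ∣ i.factorial))
    (P Q : Sylow p G) (hQP : Q ≠ P)
    (hD : Nat.card ((P : Subgroup G) ⊓ (Q : Subgroup G) : Subgroup G) * p = Nat.card P) :
    False := by
  obtain ⟨hPcard, hPbot, hPtop, hdvd, hmod, hne1, hNtop, hNcard, hfact⟩ :=
    sylow_data hG a m (by omega) hm hcard hpm P
  have hm0 : m ≠ 0 := by omega
  set D : Subgroup G := (P : Subgroup G) ⊓ (Q : Subgroup G) with hDdef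
  have hPN : (P : Subgroup G) ≤ normalizer (D : Set G) :=
    le_normalizer_of_card_mul (P : Subgroup G) P.2 D inf_le_left hD
  have hQN : (Q : Subgroup G) ≤ normalizer (D : Set G) := by
    apply le_normalizer_of_card_mul (Q : Subgroup G) Q.2 D inf_le_right
    rw [hD, Cfsg.Agent.Lib.Helper3.card_sylow_eq P Q]
  have hDcard : Nat.card D = p ^ (a - 1) := by
    have h1 : Nat.card D * p = p ^ (a - 1) * p := by
      rw [hD, hPcard, ← pow_succ]
      congr 1
      omega
    exact Nat.eq_of_mul_eq_mul_right hp.1.pos h1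
  have hDbot : D ≠ ⊥ := by
    intro h
    rw [h, Subgroup.card_bot] at hDcard
    have : 1 < p ^ (a - 1) := Nat.one_lt_pow (by omega) hp.1.one_lt
    omega
  have hDtop : D ≠ ⊤ := by
    intro h
    apply hPtop
    rw [eq_top_iff, ← h]
    exact inf_le_left
  have hNDtop : normalizer (D : Set G) ≠ ⊤ := by
    intro h
    exact normal_absurd D (Subgroup.normalizer_eq_top_iff.mp h) hDbot hDtop
  obtain ⟨j, hj, hjp⟩ := card_of_two_sylow P Q hQP (normalizer (D : Set G)) hPN hQN
  have h2 := two_mul_card_dvd_factorial hG _ hNDtop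
  have hmul := (normalizer (D : Set G)).card_mul_index
  rw [hj, hPcard, hcard] at hmul
  have hm' : j * (normalizer (D : Set G)).index = m := by
    have : p ^ a * (j * (normalizer (D : Set G)).index) = p ^ a * m := by
      rw [← hmul]; ring
    exact Nat.eq_of_mul_eq_mul_left (pow_pos hp.1.pos a) this
  have hi : (normalizer (D : Set G)).index ∈ Nat.divisors m :=
    Nat.mem_divisors.mpr ⟨Dvd.intro_left j hm', hm0⟩
  have hle : (normalizer (D : Set G)).index * (p + 1) ≤ m := by
    rw [← hm', mul_comm]
    exact Nat.mul_le_mul_right _ hjp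
  rw [hcard] at h2
  exact hidx _ hi hle h2

end Cfsg.Agent.Lib.Helper9.SmallOrd
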