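import Mathlib
import Cfsg.Agent.Lib.Helper9.SmallOrd14

set_option autoImplicit false

namespace Cfsg.Agent.Lib.Helper9.SmallOrd

open Subgroup MulAction
open scoped commutatorElement

variable {G : Type*} [Group G] [Finite G] [IsSimpleGroup G]

set_option maxHeartbeats 800000 in
theorem ne_756 (hG : ¬ IsMulCommutative G) : Nat.card G ≠ 756 := by
  intro hcard
  haveI : Fact (Nat.Prime 3) := ⟨by norm_num⟩
  have hc : Nat.card G = 3 ^ 3 * 28 := by rw [hcard]; norm_num
  -- data valid for every Sylow 3-subgroup
  have hA : ∀ P : Sylow 3 G, Nat.card P = 27 ∧ (P : Subgroup G) ≠ ⊥ ∧ (P : Subgroup G) ≠ ⊤ ∧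
      normalizer ((P : Subgroup G) : Set G) = P := by
    intro P
    obtain ⟨hPcard, hPbot, hPtop, hdvd, hmod, hne1, hNtop, hNcard, hfact⟩ :=
      sylow_data hG 3 28 (by norm_num) (by norm_num) hc (by norm_num) P
    have h28 : Nat.card (Sylow 3 G) = 28 := by
      have hmem : Nat.card (Sylow 3 G) ∈ (Nat.divisors 28).filter (fun n => n % 3 = 1) := by
        rw [Finset.mem_filter, Nat.mem_divisors]
        exact ⟨⟨hdvd, by norm_num⟩, hmod⟩
      have hset : (Nat.divisors 28).filter (fun n => n % 3 = 1) = {1, 4, 7, 28} := by decide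
      rw [hset] at hmem
      simp only [Finset.mem_insert, Finset.mem_singleton] at hmem
      rcases hmem with h | h | h | h
      · exact absurd h hne1
      · exfalso; rw [h, hcard] at hfact; revert hfact; decide
      · exfalso; rw [h, hcard] at hfact; revert hfact; decide
      · exact h
    have hN : Nat.card (normalizer ((P : Subgroup G) : Set G)) = 27 := by
      rw [h28, hcard] at hNcard; omega
    refine ⟨by rw [hPcard]; norm_num, hPbot, hPtop, ?_⟩
    symm
    apply Subgroup.eq_of_le_of_card_ge le_normalizer
    rw [hN, hPcard]; norm_num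
  have hint : ∀ P Q : Sylow 3 G, Q ≠ P →
      Nat.card ((P : Subgroup G) ⊓ (Q : Subgroup G) : Subgroup G) ≤ 3 := by
    intro P Q hQP
    obtain ⟨hPcard, -, -, -⟩ := hA P
    have hdvd : Nat.card ((P : Subgroup G) ⊓ (Q : Subgroup G) : Subgroup G) ∣ 3 ^ 3 := by
      have := Subgroup.card_dvd_of_le (inf_le_left : (P : Subgroup G) ⊓ (Q : Subgroup G) ≤ P)
      rwa [hPcard] at this
    obtain ⟨k, hk3, hk⟩ := (Nat.dvd_prime_pow (by norm_num : Nat.Prime 3)).mp hdvd
    have hk3' : k ≠ 3 := by
      rintro rfl
      apply hQP
      have h1 : (P : Subgroup G) ⊓ (Q : Subgroup G) = P := by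
        apply Subgroup.eq_of_le_of_card_ge inf_le_left
        rw [hk, hPcard]; norm_num
      have h2 : (P : Subgroup G) ≤ Q := by rw [← h1]; exact inf_le_right
      have h3 : (P : Subgroup G) = Q := by
        apply Subgroup.eq_of_le_of_card_ge h2
        rw [(hA Q).1, hPcard]
      exact (Sylow.ext h3).symm
    have hk2 : k ≠ 2 := by
      rintro rfl
      apply inter_index_kill hG 3 28 (by norm_num) (by norm_num) hc (by norm_num) (by decide)
        P Q hQP
      rw [hk, hPcard]; norm_num
    have hk01 : k = 0 ∨ k = 1 := by omega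
    rcases hk01 with rfl | rfl <;> rw [hk] <;> norm_num
  have hB : ∀ P : Sylow 3 G,
      Nat.card ((P : Subgroup G) ⊓ centralizer ((P : Subgroup G) : Set G) : Subgroup G) = 3 ∧
      ⁅(P : Subgroup G), (P : Subgroup G)⁆ ≤
        (P : Subgroup G) ⊓ centralizer ((P : Subgroup G) : Set G) ∧
      normalizer (((P : Subgroup G) ⊓ centralizer ((P : Subgroup G) : Set G) : Subgroup G) : Set G)
        = P := by
    intro P
    obtain ⟨hPcard, hPbot, hPtop, hNP⟩ := hA P
    have hnc : ¬ IsMulCommutative (P : Subgroup G) := by
      intro hcomm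
      have hle : normalizer ((P : Subgroup G) : Set G) ≤ centralizer ((P : Subgroup G) : Set G) := by
        rw [hNP]
        intro x hx
        rw [Subgroup.mem_centralizer_iff]
        intro y hy
        have := hcomm.is_comm.comm (⟨y, hy⟩ : (P : Subgroup G)) ⟨x, hx⟩
        exact congrArg Subtype.val this
      rcases Cfsg.Agent.Lib.Helper3.sylow_eq_bot_or_top_of_normalizer_le_centralizer P hle
        with h' | h'
      · exact hPbot h'
      · exact hPtop h'
    obtain ⟨hZ, hcomm⟩ := center_of_card_cube (H := (P : Subgroup G)) (p := 3)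
      (by rw [hPcard]; norm_num) hnc
    set Z : Subgroup G := (P : Subgroup G) ⊓ centralizer ((P : Subgroup G) : Set G) with hZdef
    have hZmap : Z = (center (P : Subgroup G)).map (P : Subgroup G).subtype := by
      ext x
      constructor
      · intro hx
        obtain ⟨hx1, hx2⟩ := Subgroup.mem_inf.mp hx
        refine ⟨⟨x, hx1⟩, ?_, rfl⟩
        rw [SetLike.mem_coe, Subgroup.mem_center_iff]
        intro g
        apply Subtype.ext
        exact (Subgroup.mem_centralizer_iff.mp hx2) g g.2
      · rintro ⟨y, hy, rfl⟩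
        rw [SetLike.mem_coe, Subgroup.mem_center_iff] at hy
        refine Subgroup.mem_inf.mpr ⟨y.2, ?_⟩
        rw [Subgroup.mem_centralizer_iff]
        intro g hg
        exact congrArg Subtype.val (hy ⟨g, hg⟩)
    have hZcard : Nat.card Z = 3 := by
      rw [hZmap, Subgroup.card_map_of_injective (Subgroup.subtype_injective _)]
      exact hZ
    refine ⟨hZcard, ?_, ?_⟩
    · rw [Subgroup.commutator_le]
      intro g₁ h₁ g₂ h₂
      have := hcomm ⟨g₁, h₁⟩ ⟨g₂, h₂⟩
      rw [hZmap]
      exact ⟨_, this, rfl⟩
    · have hPNZ : (P : Subgroup G) ≤ normalizer (Z : Set G) := by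
        have : (P : Subgroup G) ≤ centralizer (Z : Set G) := by
          rw [Subgroup.le_centralizer_iff]
          exact inf_le_right
        exact this.trans (Subgroup.centralizer_le_normalizer _)
      have hZbot : Z ≠ ⊥ := by
        intro h
        rw [h, Subgroup.card_bot] at hZcard
        omega
      have hZtop : Z ≠ ⊤ := by
        intro h
        rw [h, Subgroup.card_top, hcard] at hZcard
        omega
      have hNZtop : normalizer (Z : Set G) ≠ ⊤ := fun h =>
        normal_absurd Z (Subgroup.normalizer_eq_top_iff.mp h) hZbot hZtop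
      have hidx := two_mul_card_dvd_factorial hG _ hNZtop
      have hidx9 : 9 ≤ (normalizer (Z : Set G)).index := by
        by_contra hlt
        push Not at hlt
        have h8 : (normalizer (Z : Set G)).index ≤ 8 := by omega
        have h1 : ((normalizer (Z : Set G)).index).factorial ∣ (8 : ℕ).factorial :=
          Nat.factorial_dvd_factorial h8
        have h2 : 2 * Nat.card G ∣ (8 : ℕ).factorial := dvd_trans hidx h1
        rw [hcard] at h2
        revert h2
        decide
      have hmul := (normalizer (Z : Set G)).card_mul_index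
      rw [hcard] at hmul
      obtain ⟨k, hk⟩ : 27 ∣ Nat.card (normalizer (Z : Set G)) := by
        have := Subgroup.card_dvd_of_le hPNZ
        rwa [hPcard] at this
      have hk12 : k = 1 ∨ k = 2 := by
        rw [hk] at hmul
        have h28 : k * (normalizer (Z : Set G)).index = 28 := by nlinarith
        have hk0 : k ≠ 0 := by
          rintro rfl
          omega
        have hk3 : k ≤ 3 := by
          by_contra hgt
          push Not at hgt
          have : 4 * 9 ≤ k * (normalizer (Z : Set G)).index := Nat.mul_le_mul hgt hidx9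
          omega
        have hc3 : k = 1 ∨ k = 2 ∨ k = 3 := by omega
        rcases hc3 with h | h | h
        · exact Or.inl h
        · exact Or.inr h
        · exfalso
          rw [h] at h28
          omega
      rcases hk12 with rfl | rfl
      · symm
        apply Subgroup.eq_of_le_of_card_ge hPNZ
        rw [hk, hPcard]
      · exfalso
        have hrel : ((P : Subgroup G).subgroupOf (normalizer (Z : Set G))).index = 2 := by
          have h1 := ((P : Subgroup G).subgroupOf (normalizer (Z : Set G))).index_mul_card
          rw [Nat.card_congr (Subgroup.subgroupOfEquivOfLe hPNZ).toEquiv, hPcard, hk] at h1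
          omega
        have hnorm := Subgroup.normal_of_index_eq_two hrel
        have hle : normalizer (Z : Set G) ≤ normalizer ((P : Subgroup G) : Set G) :=
          (Subgroup.normal_subgroupOf_iff_le_normalizer hPNZ).mp hnorm
        rw [hNP] at hle
        have := Subgroup.card_le_of_le hle
        rw [hk, hPcard] at this
        omega
  have hC : ∀ P Q : Sylow 3 G,
      (P : Subgroup G) ⊓ centralizer ((P : Subgroup G) : Set G) ≤ Q → Q = P := by
    intro P Q hle
    by_contra hQP
    obtain ⟨hZP, -, hNZP⟩ := hB P
    obtain ⟨hZQ, -, hNZQ⟩ := hB Q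
    set ZP : Subgroup G := (P : Subgroup G) ⊓ centralizer ((P : Subgroup G) : Set G) with hZPdef
    set ZQ : Subgroup G := (Q : Subgroup G) ⊓ centralizer ((Q : Subgroup G) : Set G) with hZQdef
    have h1 : ZQ ≤ P := by
      have h0 : ZQ ≤ centralizer (ZP : Set G) := by
        calc ZQ ≤ centralizer ((Q : Subgroup G) : Set G) := inf_le_right
          _ ≤ centralizer (ZP : Set G) := Subgroup.centralizer_le hle
      have h2 := h0.trans (Subgroup.centralizer_le_normalizer _)
      rwa [hNZP] at h2
    have h3 : ZQ ≤ (P : Subgroup G) ⊓ (Q : Subgroup G) := le_inf h1 inf_le_left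
    have h4 : ZP ≤ (P : Subgroup G) ⊓ (Q : Subgroup G) := le_inf inf_le_left hle
    have h5 := hint P Q hQP
    have e1 : ZQ = (P : Subgroup G) ⊓ (Q : Subgroup G) :=
      Subgroup.eq_of_le_of_card_ge h3 (by rw [hZQ]; exact h5)
    have e2 : ZP = (P : Subgroup G) ⊓ (Q : Subgroup G) :=
      Subgroup.eq_of_le_of_card_ge h4 (by rw [hZP]; exact h5)
    have : (P : Subgroup G) = Q := by rw [← hNZP, ← hNZQ, e1, e2]
    exact hQP (Sylow.ext this).symm
  obtain ⟨P⟩ : Nonempty (Sylow 3 G) := inferInstance
  obtain ⟨hPcard, hPbot, hPtop, hNP⟩ := hA P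
  obtain ⟨hZP, hcomP, hNZP⟩ := hB P
  have hgrun := Cfsg.Agent.S4216.result P
  rw [commutator_eq_top_of_simple hG, inf_top_eq, hNP] at hgrun
  have hle : (P : Subgroup G) ≤
      (P : Subgroup G) ⊓ centralizer ((P : Subgroup G) : Set G) := by
    refine hgrun.le.trans ?_
    apply sup_le
    · exact inf_le_right.trans hcomP
    · apply iSup_le
      intro z x hx
      obtain ⟨hxP, hxz⟩ := Subgroup.mem_inf.mp hx
      have hmap : (⁅(P : Subgroup G), (P : Subgroup G)⁆).map (MulAut.conj z).toMonoidHom =
          ⁅((z • P : Sylow 3 G) : Subgroup G), ((z • P : Sylow 3 G) : Subgroup G)⁆ := by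
        rw [Subgroup.map_commutator]
        rfl
      rw [hmap] at hxz
      obtain ⟨hZQ, hcomQ, hNZQ⟩ := hB (z • P)
      have hxZQ := hcomQ hxz
      by_cases hx1 : x = 1
      · rw [hx1]; exact one_mem _
      have hzp : zpowers x = ((z • P : Sylow 3 G) : Subgroup G) ⊓
          centralizer (((z • P : Sylow 3 G) : Subgroup G) : Set G) := by
        apply Subgroup.eq_of_le_of_card_ge ((zpowers_le).mpr hxZQ)
        rw [hZQ, Nat.card_zpowers]
        have hdvd : orderOf x ∣ 3 := by
          have := orderOf_dvd_natCard (⟨x, hxZQ⟩ : (((z • P : Sylow 3 G) : Subgroup G) ⊓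
            centralizer (((z • P : Sylow 3 G) : Subgroup G) : Set G) : Subgroup G))
          rwa [hZQ, Subgroup.orderOf_mk] at this
        rcases (Nat.dvd_prime (by norm_num)).mp hdvd with h | h
        · exact absurd (orderOf_eq_one_iff.mp h) hx1
        · rw [h]
      have hZQP : ((z • P : Sylow 3 G) : Subgroup G) ⊓
          centralizer (((z • P : Sylow 3 G) : Subgroup G) : Set G) ≤ P := by
        rw [← hzp]; exact (zpowers_le).mpr hxP
      have hPQ : P = z • P := hC (z • P) P hZQP
      rw [← hPQ] at hxZQ
      exact hxZQ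
  have := Subgroup.card_le_of_le hle
  rw [hZP, hPcard] at this
  omega

end Cfsg.Agent.Lib.Helper9.SmallOrd
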