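import Mathlib
import Cfsg.Agent.Lib.Helper9.SmallOrd15

set_option autoImplicit false

namespace Cfsg.Agent.Lib.Helper9.SmallOrd

open Subgroup MulAction

variable {G : Type*} [Group G] [Finite G] [IsSimpleGroup G]

open scoped IsMulCommutative in
/-- Transfer lemma: in a non-abelian simple group, an abelian Sylow subgroup contains no
non-trivial element centralized by its normalizer. -/
theorem abelian_sylow_central (hG : ¬ IsMulCommutative G) {p : ℕ} [hp : Fact p.Prime]
    (P : Sylow p G)
    (hab : ∀ a ∈ (P : Subgroup G), ∀ b ∈ (P : Subgroup G), a * b = b * a) (w : G)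
    (hw : w ∈ (P : Subgroup G))
    (hc : ∀ n ∈ normalizer ((P : Subgroup G) : Set G), n * w = w * n) : w = 1 := by
  haveI : IsMulCommutative (P : Subgroup G) :=
    ⟨⟨fun a b => Subtype.ext (hab a a.2 b b.2)⟩⟩
  have key : ∀ (k : ℕ) (g₀ : G), g₀⁻¹ * w ^ k * g₀ ∈ (P : Subgroup G) →
      g₀⁻¹ * w ^ k * g₀ = w ^ k := by
    intro k g₀ h
    obtain ⟨n, hn, hn'⟩ := P.conj_eq_normalizer_conj_of_mem (w ^ k) g₀ (pow_mem hw k) h
    rw [hn']
    have h1 : n * w ^ k = w ^ k * n := by
      have : Commute n w := hc n hn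
      exact (this.pow_right k)
    calc n⁻¹ * w ^ k * n = n⁻¹ * (w ^ k * n) := by group
      _ = n⁻¹ * (n * w ^ k) := by rw [h1]
      _ = w ^ k := by group
  set φ : G →* (P : Subgroup G) := MonoidHom.transfer (MonoidHom.id (P : Subgroup G)) with hφ
  have h1 : φ w = ⟨w ^ (P : Subgroup G).index, MonoidHom.transfer_eq_pow_aux w key⟩ :=
    MonoidHom.transfer_eq_pow (MonoidHom.id (P : Subgroup G)) w key
  rcases (MonoidHom.normal_ker φ).eq_bot_or_eq_top with h | h
  · exfalso
    apply hG
    have hinj : Function.Injective φ := (MonoidHom.ker_eq_bot_iff _).mp h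
    refine ⟨⟨fun a b => ?_⟩⟩
    apply hinj
    rw [map_mul, map_mul, mul_comm]
  · have hwk : w ∈ φ.ker := by rw [h]; trivial
    rw [MonoidHom.mem_ker, h1] at hwk
    have h2 : w ^ (P : Subgroup G).index = 1 := congrArg Subtype.val hwk
    have h3 : orderOf w ∣ (P : Subgroup G).index := orderOf_dvd_of_pow_eq_one h2
    obtain ⟨k, hk⟩ := (P.2 ⟨w, hw⟩)
    have h4 : w ^ p ^ k = 1 := congrArg Subtype.val hk
    have h5 : orderOf w ∣ p ^ k := orderOf_dvd_of_pow_eq_one h4
    have hcop : Nat.Coprime (p ^ k) (P : Subgroup G).index :=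
      Nat.Coprime.pow_left k ((Nat.Prime.coprime_iff_not_dvd hp.1).mpr P.not_dvd_index)
    have h6 : orderOf w ∣ 1 := by
      have := Nat.dvd_gcd h5 h3
      rwa [hcop] at this
    exact orderOf_eq_one_iff.mp (Nat.dvd_one.mp h6)

end Cfsg.Agent.Lib.Helper9.SmallOrd

namespace Cfsg.Agent.Lib.Helper9.SmallOrd

open Subgroup MulAction

section general

variable {G : Type*} [Group G] [Finite G] {p : ℕ} [hp : Fact p.Prime]

/-- Fixed points of an element centralizing a `p`-subgroup `D` which has a unique fixed point. -/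
theorem card_fixed_mod_unique {X : Type*} [MulAction G X] [Finite X] (D : Subgroup G)
    (hD : IsPGroup p D) (t : G) (ht : t ∈ centralizer (D : Set G)) (x₀ : X) (hx₀ : t • x₀ = x₀)
    (hD₀ : ∀ d ∈ D, d • x₀ = x₀) (huniq : ∀ x : X, (∀ d ∈ D, d • x = x) → x = x₀) :
    Nat.card {x : X // t • x = x} % p = 1 := by
  classical
  let act : MulAction D {x : X // t • x = x} :=
    { smul := fun d x => ⟨(d : G) • x.1, by
        have hc : t * (d : G) = (d : G) * t := ((Subgroup.mem_centralizer_iff.mp ht) d d.2).symm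
        rw [← mul_smul, hc, mul_smul, x.2]⟩
      one_smul := fun x => Subtype.ext (one_smul G x.1)
      mul_smul := fun a b x => Subtype.ext (mul_smul (a : G) (b : G) x.1) }
  have h1 := hD.card_modEq_card_fixedPoints {x : X // t • x = x}
  have h2 : Nat.card (fixedPoints D {x : X // t • x = x}) = 1 := by
    rw [Nat.card_eq_one_iff_unique]
    refine ⟨⟨fun a b => ?_⟩, ⟨⟨⟨x₀, hx₀⟩, ?_⟩⟩⟩
    · have key : ∀ c : fixedPoints D {x : X // t • x = x}, c.1.1 = x₀ := by
        intro c
        apply huniq
        intro d hd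
        have := c.2 ⟨d, hd⟩
        exact congrArg Subtype.val this
      exact Subtype.ext (Subtype.ext (by rw [key a, key b]))
    · intro d
      exact Subtype.ext (hD₀ d d.2)
  rw [h2] at h1
  have h3 : Nat.card {x : X // t • x = x} % p = 1 % p := h1
  rw [h3, Nat.mod_eq_of_lt hp.1.one_lt]

/-- `|N| = n_p(N) * |N ∩ N_G(P)|` for a Sylow subgroup `P` of `G` contained in `N`. -/
theorem card_eq_card_sylow_mul (P : Sylow p G) (N : Subgroup G) (hPN : (P : Subgroup G) ≤ N) :
    Nat.card N = Nat.card (Sylow p N) *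
      Nat.card (N ⊓ normalizer ((P : Subgroup G) : Set G) : Subgroup G) := by
  let P' : Sylow p N := P.subtype hPN
  have h1 : Nat.card (Sylow p N) = (normalizer ((P' : Subgroup N) : Set N)).index :=
    P'.card_eq_index_normalizer
  have h2 := (normalizer ((P' : Subgroup N) : Set N)).index_mul_card
  have h3 : normalizer ((P' : Subgroup N) : Set N) =
      (normalizer ((P : Subgroup G) : Set G)).subgroupOf N := by
    show normalizer (((P : Subgroup G).subgroupOf N : Subgroup N) : Set N) = _
    exact (Subgroup.subgroupOf_normalizer_eq hPN).symm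
  have h4 : Nat.card ((normalizer ((P : Subgroup G) : Set G)).subgroupOf N) =
      Nat.card (N ⊓ normalizer ((P : Subgroup G) : Set G) : Subgroup G) := by
    rw [← Subgroup.inf_subgroupOf_left]
    exact Nat.card_congr (Subgroup.subgroupOfEquivOfLe inf_le_left).toEquiv
  rw [← h2, h1, h3, h4]

end general

variable {G : Type*} [Group G] [Finite G] [IsSimpleGroup G]

/-- An element fixing every point of a `G`-set with a proper point stabilizer is trivial. -/
theorem eq_one_of_fix_all' {X : Type*} [MulAction G X] (x₀ : X) (hx₀ : stabilizer G x₀ ≠ ⊤)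
    (g : G) (hg : ∀ x : X, g • x = x) : g = 1 := by
  have hgk : g ∈ (MulAction.toPermHom G X).ker := by
    rw [MonoidHom.mem_ker]
    apply Equiv.ext
    intro x
    simp only [MulAction.toPermHom_apply, MulAction.toPerm_apply, Equiv.Perm.coe_one, id_eq]
    exact hg x
  rcases (MonoidHom.normal_ker (MulAction.toPermHom G X)).eq_bot_or_eq_top with h1 | h1
  · rw [h1] at hgk
    exact Subgroup.mem_bot.mp hgk
  · exfalso
    apply hx₀
    rw [eq_top_iff]
    intro x _
    have hx : x ∈ (MulAction.toPermHom G X).ker := by rw [h1]; trivial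
    rw [MonoidHom.mem_ker] at hx
    have : x • x₀ = x₀ := by
      have := congrArg (fun σ : Equiv.Perm X => σ x₀) hx
      simpa using this
    exact mem_stabilizer_iff.mpr this

end Cfsg.Agent.Lib.Helper9.SmallOrd
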