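import Mathlib
import Cfsg.Agent.Lib.Helper9.SmallOrd16
import Cfsg.Agent.Lib.Helper5.Ord360B

set_option autoImplicit false

namespace Cfsg.Agent.Lib.Helper9.SmallOrd

open Subgroup MulAction

section general

variable {G : Type*} [Group G]

theorem smul_coset_eq_iff (M : Subgroup G) (g x : G) :
    g • (x : G ⧸ M) = (x : G ⧸ M) ↔ x⁻¹ * g * x ∈ M := by
  have h1 : g • (x : G ⧸ M) = ((g * x : G) : G ⧸ M) := rfl
  rw [h1, QuotientGroup.eq]
  constructor
  · intro h
    have := M.inv_mem h
    have e : ((g * x)⁻¹ * x)⁻¹ = x⁻¹ * g * x := by group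
    rwa [e] at this
  · intro h
    have := M.inv_mem h
    have e : (x⁻¹ * g * x)⁻¹ = (g * x)⁻¹ * x := by group
    rwa [e] at this

end general

variable {G : Type*} [Group G] [Finite G] [IsSimpleGroup G]

open Cfsg.Agent.Lib.Helper5.Ord360 in
set_option maxHeartbeats 1000000 in
theorem ne_720_caseB (hG : ¬ IsMulCommutative G) (hcard : Nat.card G = 720)
    (h40 : Nat.card (Sylow 3 G) = 40) : False := by
  haveI : Fact (Nat.Prime 3) := ⟨by norm_num⟩
  have hc : Nat.card G = 3 ^ 2 * 80 := by rw [hcard]; norm_num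
  -- data for every Sylow 3-subgroup
  have hA : ∀ R : Sylow 3 G, Nat.card R = 9 ∧
      Nat.card (normalizer ((R : Subgroup G) : Set G)) = 18 ∧
      (∀ a ∈ (R : Subgroup G), ∀ b ∈ (R : Subgroup G), a * b = b * a) := by
    intro R
    obtain ⟨hRcard, -, -, -, -, -, -, hNcard, -⟩ :=
      sylow_data hG 2 80 (by norm_num) (by norm_num) hc (by norm_num) R
    refine ⟨by rw [hRcard]; norm_num, by rw [h40, hcard] at hNcard; omega, ?_⟩
    intro a ha b hb
    have hcomm := IsPGroup.isMulCommutative_of_card_eq_prime_sq (p := 3)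
      (G := (R : Subgroup G)) hRcard
    exact congrArg Subtype.val (hcomm.is_comm.comm ⟨a, ha⟩ ⟨b, hb⟩)
  -- elements of the normalizer centralize or invert
  have hB1 : ∀ R : Sylow 3 G, ∀ n ∈ normalizer ((R : Subgroup G) : Set G),
      ∀ y ∈ (R : Subgroup G), n * y * n⁻¹ = y ∨ n * y * n⁻¹ = y⁻¹ := by
    intro R n hn y hy
    obtain ⟨hRcard, hNcard, hab⟩ := hA R
    by_cases hnR : n ∈ (R : Subgroup G)
    · left
      rw [hab n hnR y hy]; group
    · right
      set N := normalizer ((R : Subgroup G) : Set G) with hNdef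
      have hidx : ((R : Subgroup G).subgroupOf N).index = 2 := by
        have h1 := ((R : Subgroup G).subgroupOf N).index_mul_card
        rw [Nat.card_congr (Subgroup.subgroupOfEquivOfLe
          (le_normalizer : (R : Subgroup G) ≤ N)).toEquiv, hRcard, hNcard] at h1
        omega
      have hconj : ∀ m ∈ N, ∀ r ∈ (R : Subgroup G), m * r * m⁻¹ ∈ (R : Subgroup G) :=
        fun m hm r hr => (mem_normalizer_iff.mp hm r).mp hr
      have hnn : n * n ∈ (R : Subgroup G) := by
        have := (Subgroup.mul_mem_iff_of_index_two hidx (a := (⟨n, hn⟩ : N))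
          (b := (⟨n, hn⟩ : N))).mpr Iff.rfl
        exact Subgroup.mem_subgroupOf.mp this
      have hyn : n * y * n⁻¹ ∈ (R : Subgroup G) := hconj n hn y hy
      have hwR : y * (n * y * n⁻¹) ∈ (R : Subgroup G) := mul_mem hy hyn
      have hnw : n * (y * (n * y * n⁻¹)) * n⁻¹ = y * (n * y * n⁻¹) := by
        have h1 : (n * n) * y * (n * n)⁻¹ = y := by rw [hab (n * n) hnn y hy]; group
        calc n * (y * (n * y * n⁻¹)) * n⁻¹
            = (n * y * n⁻¹) * ((n * n) * y * (n * n)⁻¹) := by group
          _ = (n * y * n⁻¹) * y := by rw [h1]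
          _ = y * (n * y * n⁻¹) := hab _ hyn _ hy
      have hw1 : y * (n * y * n⁻¹) = 1 := by
        apply abelian_sylow_central hG R hab _ hwR
        intro m hm
        by_cases hmR : m ∈ (R : Subgroup G)
        · exact hab m hmR _ hwR
        · have h1 : m * n⁻¹ ∈ (R : Subgroup G) := by
            have hn' : n⁻¹ ∈ N := N.inv_mem hn
            have := (Subgroup.mul_mem_iff_of_index_two hidx (a := (⟨m, hm⟩ : N))
              (b := (⟨n⁻¹, hn'⟩ : N))).mpr ?_
            · exact Subgroup.mem_subgroupOf.mp this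
            · constructor
              · intro h; exact absurd (Subgroup.mem_subgroupOf.mp h) hmR
              · intro h
                exfalso
                apply hnR
                have h' : n⁻¹ ∈ (R : Subgroup G) := Subgroup.mem_subgroupOf.mp h
                simpa using (R : Subgroup G).inv_mem h'
          have h2 : (m * n⁻¹) * (y * (n * y * n⁻¹)) = (y * (n * y * n⁻¹)) * (m * n⁻¹) :=
            hab _ h1 _ hwR
          have h3 : n * (y * (n * y * n⁻¹)) = (y * (n * y * n⁻¹)) * n := by
            calc n * (y * (n * y * n⁻¹)) = (n * (y * (n * y * n⁻¹)) * n⁻¹) * n := by group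
              _ = (y * (n * y * n⁻¹)) * n := by rw [hnw]
          calc m * (y * (n * y * n⁻¹)) = (m * n⁻¹) * (n * (y * (n * y * n⁻¹))) := by group
            _ = (m * n⁻¹) * ((y * (n * y * n⁻¹)) * n) := by rw [h3]
            _ = ((m * n⁻¹) * (y * (n * y * n⁻¹))) * n := by group
            _ = ((y * (n * y * n⁻¹)) * (m * n⁻¹)) * n := by rw [h2]
            _ = (y * (n * y * n⁻¹)) * m := by group
      exact eq_inv_of_mul_eq_one_right hw1
  obtain ⟨P⟩ : Nonempty (Sylow 3 G) := inferInstance
  obtain ⟨Q, hQP, hDcard'⟩ := exists_sylow_inter_index P (by rw [h40]; norm_num)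
  obtain ⟨hPcard, hNPcard, habP⟩ := hA P
  obtain ⟨hQcard, hNQcard, habQ⟩ := hA Q
  set D : Subgroup G := (P : Subgroup G) ⊓ (Q : Subgroup G) with hDdef
  have hDcard : Nat.card D = 3 := by rw [hPcard] at hDcard'; omega
  have hDP : D ≤ P := inf_le_left
  have hDQ : D ≤ Q := inf_le_right
  have h3D : IsPGroup 3 D := IsPGroup.of_card (n := 1) (by rw [hDcard]; norm_num)
  obtain ⟨d, hdD, hd1⟩ : ∃ d ∈ D, d ≠ 1 := by
    have hne : D ≠ ⊥ := by
      intro h
      rw [h, Subgroup.card_bot] at hDcard
      omega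
    obtain ⟨a, ha⟩ := Subgroup.ne_bot_iff_exists_ne_one.mp hne
    exact ⟨a.1, a.2, fun h => ha (Subtype.ext h)⟩
  have hdo : orderOf d = 3 := by
    have h1 : orderOf d ∣ 3 := by
      rw [← hDcard]; exact Subgroup.orderOf_dvd_natCard D hdD
    rcases (Nat.dvd_prime Nat.prime_three).mp h1 with h | h
    · exact absurd (orderOf_eq_one_iff.mp h) hd1
    · exact h
  set M := normalizer (D : Set G) with hMdef
  -- normalizers of Sylow subgroups containing D normalize D
  have hNR : ∀ R : Sylow 3 G, D ≤ R → normalizer ((R : Subgroup G) : Set G) ≤ M := by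
    intro R hDR n hn
    apply mem_normalizer_of_conj_gen hDcard hdD hd1
    rcases hB1 R n hn d (hDR hdD) with h | h
    · rw [h]; exact hdD
    · rw [h]; exact D.inv_mem hdD
  have hPC : (P : Subgroup G) ≤ centralizer (D : Set G) := by
    intro x hx
    rw [Subgroup.mem_centralizer_iff]
    intro y hy
    exact habP y (hDP hy) x hx
  have hQC : (Q : Subgroup G) ≤ centralizer (D : Set G) := by
    intro x hx
    rw [Subgroup.mem_centralizer_iff]
    intro y hy
    exact habQ y (hDQ hy) x hx
  have hCM : centralizer (D : Set G) ≤ M := Subgroup.centralizer_le_normalizer _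
  -- weak closure
  have hii : ∀ g : G, g⁻¹ * d * g ∈ M → g ∈ M := by
    intro g hg
    have h3d' : IsPGroup 3 (zpowers (g⁻¹ * d * g)) := by
      apply IsPGroup.of_card (n := 1)
      rw [Nat.card_zpowers, pow_one]
      have : g⁻¹ * d * g = (MulAut.conj g⁻¹).toMonoidHom d := by simp
      rw [this, orderOf_injective (MulAut.conj g⁻¹).toMonoidHom (MulAut.conj g⁻¹).injective, hdo]
    have hle : zpowers (g⁻¹ * d * g) ≤ normalizer (D : Set G) := (zpowers_le).mpr hg
    have hsup : IsPGroup 3 (zpowers (g⁻¹ * d * g) ⊔ D : Subgroup G) :=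
      IsPGroup.to_sup_of_normal_right' h3d' h3D hle
    obtain ⟨R, hR⟩ := hsup.exists_le_sylow
    have hdR : d ∈ (R : Subgroup G) := hR ((le_sup_right : D ≤ _) hdD)
    have hd'R : g⁻¹ * d * g ∈ (R : Subgroup G) :=
      hR ((le_sup_left : zpowers (g⁻¹ * d * g) ≤ _) (mem_zpowers _))
    obtain ⟨hRcard, hNRcard, habR⟩ := hA R
    haveI : IsMulCommutative (R : Subgroup G) :=
      ⟨⟨fun a b => Subtype.ext (habR a a.2 b b.2)⟩⟩
    obtain ⟨n, hn, hn'⟩ := R.conj_eq_normalizer_conj_of_mem d g hdR hd'R
    have hd'D : g⁻¹ * d * g ∈ D := by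
      rw [hn']
      have hn1 : n⁻¹ ∈ normalizer ((R : Subgroup G) : Set G) := inv_mem hn
      rcases hB1 R n⁻¹ hn1 d hdR with h | h
      · rw [inv_inv] at h; rw [h]; exact hdD
      · rw [inv_inv] at h; rw [h]; exact D.inv_mem hdD
    have h1 : g⁻¹ ∈ M := by
      apply mem_normalizer_of_conj_gen hDcard hdD hd1
      rw [inv_inv]; exact hd'D
    simpa using M.inv_mem h1
  -- M is a proper subgroup
  have hDbot : D ≠ ⊥ := by
    intro h
    rw [h, Subgroup.card_bot] at hDcard
    omega
  have hDtop : D ≠ ⊤ := by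
    intro h
    rw [h, Subgroup.card_top, hcard] at hDcard
    omega
  have hMtop : M ≠ ⊤ := fun h =>
    normal_absurd D (Subgroup.normalizer_eq_top_iff.mp h) hDbot hDtop
  have hstab : stabilizer G ((1 : G) : G ⧸ M) ≠ ⊤ := by
    rw [MulAction.stabilizer_quotient]; exact hMtop
  have hbase : ∀ t ∈ M, t • ((1 : G) : G ⧸ M) = ((1 : G) : G ⧸ M) := by
    intro t ht
    rw [smul_coset_eq_iff]
    simpa using ht
  have huniq : ∀ x : G ⧸ M, (∀ e ∈ D, e • x = x) → x = ((1 : G) : G ⧸ M) := by
    intro x hx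
    induction x using QuotientGroup.induction_on with
    | H g =>
      have h1 := hx d hdD
      rw [smul_coset_eq_iff] at h1
      have h2 := hii g h1
      rw [QuotientGroup.eq]
      simpa using M.inv_mem h2
  have hDM : D ≤ M := le_normalizer
  -- the index of M is 1 mod 3
  have hmod : M.index % 3 = 1 := by
    have h1 := card_fixed_mod_unique (X := G ⧸ M) D h3D 1 (one_mem _) ((1 : G) : G ⧸ M)
      (one_smul _ _) (fun e he => hbase e (hDM he)) huniq
    have h2 : Nat.card {x : G ⧸ M // (1 : G) • x = x} = M.index := by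
      rw [Subgroup.index]
      exact Nat.card_congr (Equiv.subtypeUnivEquiv (fun x => one_smul G x))
    rwa [h2] at h1
  have hNPM : normalizer ((P : Subgroup G) : Set G) ≤ M := hNR P hDP
  have h18 : 18 ∣ Nat.card M := by
    have := Subgroup.card_dvd_of_le hNPM
    rwa [hNPcard] at this
  obtain ⟨j, hj, hj4⟩ := card_of_two_sylow P Q hQP (centralizer (D : Set G)) hPC hQC
  rw [hPcard] at hj
  have hCdvd : Nat.card (centralizer (D : Set G)) ∣ Nat.card M := Subgroup.card_dvd_of_le hCM
  have hidx := two_mul_card_dvd_factorial hG M hMtop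
  have hidx8 : 8 ≤ M.index := by
    by_contra hlt
    push Not at hlt
    have h7 : M.index ≤ 7 := by omega
    have h1 : (M.index).factorial ∣ (7 : ℕ).factorial := Nat.factorial_dvd_factorial h7
    have h2 : 2 * Nat.card G ∣ (7 : ℕ).factorial := dvd_trans hidx h1
    rw [hcard] at h2
    revert h2
    decide
  have hmul := M.card_mul_index
  rw [hcard] at hmul
  have hM72 : Nat.card M = 72 ∧ M.index = 10 := by
    obtain ⟨l, hl⟩ := h18
    rw [hl] at hmul
    have h40' : l * M.index = 40 := by nlinarith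
    have hCle : Nat.card (centralizer (D : Set G)) ≤ Nat.card M :=
      Nat.le_of_dvd Nat.card_pos hCdvd
    have hl2 : 2 ≤ l := by
      by_contra hlt
      push Not at hlt
      have : 36 ≤ 18 * l := by
        calc 36 = 9 * 4 := by norm_num
          _ ≤ 9 * j := Nat.mul_le_mul_left 9 hj4
          _ = Nat.card (centralizer (D : Set G)) := hj.symm
          _ ≤ Nat.card M := hCle
          _ = 18 * l := hl
      omega
    have hl5 : l ≤ 5 := by
      by_contra hgt
      push Not at hgt
      have : 6 * 8 ≤ l * M.index := Nat.mul_le_mul hgt hidx8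
      omega
    have hcases : l = 2 ∨ l = 3 ∨ l = 4 ∨ l = 5 := by omega
    rcases hcases with h | h | h | h
    · exfalso
      rw [h] at h40'
      have : M.index = 20 := by omega
      rw [this] at hmod
      omega
    · exfalso
      rw [h] at h40'
      omega
    · rw [h] at h40'
      have hi : M.index = 10 := by omega
      exact ⟨by rw [hl, h], hi⟩
    · exfalso
      rw [h] at h40'
      have : M.index = 8 := by omega
      rw [this] at hmod
      omega
  obtain ⟨hMcard, hMidx⟩ := hM72
  -- an involution in the centralizer of D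
  have h2C : 2 ∣ Nat.card (centralizer (D : Set G)) := by
    rw [hj]
    rw [hj, hMcard] at hCdvd
    have hj8 : j ∣ 8 := by
      have : 9 * j ∣ 9 * 8 := hCdvd
      exact Nat.dvd_of_mul_dvd_mul_left (by norm_num) this
    have hjle : j ≤ 8 := Nat.le_of_dvd (by norm_num) hj8
    have : j = 4 ∨ j = 8 := by
      interval_cases j <;> simp_all
    rcases this with h | h <;> rw [h] <;> norm_num
  haveI : Fact (Nat.Prime 2) := ⟨Nat.prime_two⟩
  obtain ⟨z', hz'⟩ := exists_prime_orderOf_dvd_card' 2 h2C
  have hzo : orderOf (z' : G) = 2 := by rw [Subgroup.orderOf_coe, hz']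
  have hzC : (z' : G) ∈ centralizer (D : Set G) := z'.2
  have hzz : (z' : G) * (z' : G) = 1 := by
    rw [← pow_two, ← hzo]; exact pow_orderOf_eq_one _
  have hfix := card_fixed_mod_unique (X := G ⧸ M) D h3D (z' : G) hzC ((1 : G) : G ⧸ M)
    (hbase _ (hCM hzC)) (fun e he => hbase e (hDM he)) huniq
  obtain ⟨k, hk⟩ := card_eq_fixed_add_four_mul hG (Ω := G ⧸ M) (z' : G) hzz
  have hX : Nat.card (G ⧸ M) = 10 := hMidx
  rw [hX] at hk
  have hall : ∀ x : G ⧸ M, (z' : G) • x = x := by
    by_contra hcon
    push Not at hcon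
    obtain ⟨x, hx⟩ := hcon
    have hlt := Finite.card_subtype_lt (p := fun y : G ⧸ M => (z' : G) • y = y) (x := x) hx
    rw [hX] at hlt
    omega
  have hz1 := eq_one_of_fix_all' ((1 : G) : G ⧸ M) hstab (z' : G) hall
  rw [hz1, orderOf_one] at hzo
  omega

end Cfsg.Agent.Lib.Helper9.SmallOrd
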