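import Mathlib
import Cfsg.Agent.Lib.Helper9.SmallOrd17

set_option autoImplicit false

namespace Cfsg.Agent.Lib.Helper9.SmallOrd

open Subgroup MulAction

section general

variable {G : Type*} [Group G] [Finite G] {p : ℕ} [hp : Fact p.Prime]

/-- A subgroup containing two distinct Sylow `p`-subgroups has at least `p + 1` of them. -/
theorem card_sylow_sub_ge (P Q : Sylow p G) (hPQ : Q ≠ P) (N : Subgroup G)
    (hP : (P : Subgroup G) ≤ N) (hQ : (Q : Subgroup G) ≤ N) :
    p + 1 ≤ Nat.card (Sylow p N) ∧ Nat.card (Sylow p N) % p = 1 := by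
  classical
  let P' : Sylow p N := P.subtype hP
  let Q' : Sylow p N := Q.subtype hQ
  have hne : Q' ≠ P' := by
    intro h
    apply hPQ
    have h1 : (Q : Subgroup G).subgroupOf N = (P : Subgroup G).subgroupOf N := by
      have := congrArg (fun S : Sylow p N => (S : Subgroup N)) h
      simpa [P', Q', Sylow.coe_subtype] using this
    have h2 := (Subgroup.subgroupOf_inj).mp h1
    rw [inf_eq_left.mpr hQ, inf_eq_left.mpr hP] at h2
    exact Sylow.ext h2
  have h2 : Nat.card (Sylow p N) ≡ 1 [MOD p] := card_sylow_modEq_one p N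
  have h3 : 1 < Nat.card (Sylow p N) := by
    rw [Finite.one_lt_card_iff_nontrivial]
    exact ⟨⟨Q', P', hne⟩⟩
  have h5 : Nat.card (Sylow p N) % p = 1 % p := h2
  rw [Nat.mod_eq_of_lt hp.1.one_lt] at h5
  refine ⟨?_, h5⟩
  by_contra hlt
  push Not at hlt
  have h6 : Nat.card (Sylow p N) < p ∨ Nat.card (Sylow p N) = p := by omega
  rcases h6 with h6 | h6
  · rw [Nat.mod_eq_of_lt h6] at h5; omega
  · rw [h6, Nat.mod_self] at h5; omega

/-- Orbit-stabilizer bound for the normalizer of `P` acting on the other Sylow subgroups. -/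
theorem card_normalizer_le (P Q : Sylow p G) (hQP : Q ≠ P) :
    Nat.card (normalizer ((P : Subgroup G) : Set G)) ≤ (Nat.card (Sylow p G) - 1) *
      Nat.card (normalizer ((P : Subgroup G) : Set G) ⊓ normalizer ((Q : Subgroup G) : Set G) :
        Subgroup G) := by
  classical
  set N := normalizer ((P : Subgroup G) : Set G) with hN
  have h1 : (orbit N Q).ncard * Nat.card (stabilizer N Q) = Nat.card N := by
    rw [← MulAction.index_stabilizer]
    exact (stabilizer N Q).index_mul_card
  have h2 : (orbit N Q).ncard ≤ Nat.card (Sylow p G) - 1 := by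
    have hsub : orbit N Q ⊆ (Set.univ : Set (Sylow p G)) \ {P} := by
      rintro _ ⟨n, rfl⟩
      refine ⟨Set.mem_univ _, ?_⟩
      intro hnP
      rw [Set.mem_singleton_iff] at hnP
      apply hQP
      have h3 : (n : G) • Q = P := hnP
      have h4 : (n : G) • P = P := Sylow.smul_eq_iff_mem_normalizer.mpr n.2
      have : (n : G) • Q = (n : G) • P := by rw [h3, h4]
      exact smul_left_cancel _ this
    have hcard : ((Set.univ : Set (Sylow p G)) \ {P}).ncard = Nat.card (Sylow p G) - 1 := by
      rw [Set.ncard_diff_singleton_of_mem (Set.mem_univ P), Set.ncard_univ]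
    rw [← hcard]
    exact Set.ncard_le_ncard hsub (Set.toFinite _)
  have h3 : Nat.card (stabilizer N Q) ≤
      Nat.card (N ⊓ normalizer ((Q : Subgroup G) : Set G) : Subgroup G) := by
    let f : stabilizer N Q → (N ⊓ normalizer ((Q : Subgroup G) : Set G) : Subgroup G) :=
      fun s => ⟨(s.1 : G), ⟨s.1.2, by
        have : (s.1 : G) • Q = Q := s.2
        exact Sylow.smul_eq_iff_mem_normalizer.mp this⟩⟩
    have hf : Function.Injective f := by
      intro a b hab
      have : (a.1 : G) = (b.1 : G) := congrArg (fun x : (N ⊓ normalizer ((Q : Subgroup G) : Set G) : Subgroup G) => (x : G)) hab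
      exact Subtype.ext (Subtype.ext this)
    exact Nat.card_le_card_of_injective f hf
  calc Nat.card N = (orbit N Q).ncard * Nat.card (stabilizer N Q) := h1.symm
    _ ≤ (Nat.card (Sylow p G) - 1) *
        Nat.card (N ⊓ normalizer ((Q : Subgroup G) : Set G) : Subgroup G) :=
      Nat.mul_le_mul h2 h3

end general

end Cfsg.Agent.Lib.Helper9.SmallOrd

namespace Cfsg.Agent.Lib.Helper9.SmallOrd

open Subgroup MulAction

variable {G : Type*} [Group G] [Finite G] [IsSimpleGroup G]

/-- basic data on Sylow `3`-subgroups when `|G| = 720` and `n_3 = 10`. -/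
theorem data_720 (hG : ¬ IsMulCommutative G) (hcard : Nat.card G = 720)
    (h10 : Nat.card (Sylow 3 G) = 10) (R : Sylow 3 G) :
    Nat.card R = 9 ∧ Nat.card (normalizer ((R : Subgroup G) : Set G)) = 72 ∧
      (∀ a ∈ (R : Subgroup G), ∀ b ∈ (R : Subgroup G), a * b = b * a) ∧
      (R : Subgroup G) ≠ ⊤ ∧ normalizer ((R : Subgroup G) : Set G) ≠ ⊤ := by
  haveI : Fact (Nat.Prime 3) := ⟨by norm_num⟩
  have hc : Nat.card G = 3 ^ 2 * 80 := by rw [hcard]; norm_num
  obtain ⟨hRcard, -, hRtop, -, -, -, hNtop, hNcard, -⟩ :=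
    sylow_data hG 2 80 (by norm_num) (by norm_num) hc (by norm_num) R
  refine ⟨by rw [hRcard]; norm_num, by rw [h10, hcard] at hNcard; omega, ?_, hRtop, hNtop⟩
  intro a ha b hb
  have hcomm := IsPGroup.isMulCommutative_of_card_eq_prime_sq (p := 3)
    (G := (R : Subgroup G)) hRcard
  exact congrArg Subtype.val (hcomm.is_comm.comm ⟨a, ha⟩ ⟨b, hb⟩)

set_option maxHeartbeats 1000000 in
theorem ti_720 (hG : ¬ IsMulCommutative G) (hcard : Nat.card G = 720)
    (h10 : Nat.card (Sylow 3 G) = 10) (P Q : Sylow 3 G) (hQP : Q ≠ P) :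
    (P : Subgroup G) ⊓ (Q : Subgroup G) = ⊥ := by
  haveI : Fact (Nat.Prime 3) := ⟨by norm_num⟩
  obtain ⟨hPcard, hNPcard, habP, hPtop, hNPtop⟩ := data_720 hG hcard h10 P
  obtain ⟨hQcard, hNQcard, habQ, hQtop, hNQtop⟩ := data_720 hG hcard h10 Q
  by_contra hne
  set D : Subgroup G := (P : Subgroup G) ⊓ (Q : Subgroup G) with hDdef
  have hDP : D ≤ P := inf_le_left
  have hDQ : D ≤ Q := inf_le_right
  have hDcard : Nat.card D ≤ 3 := by
    have hdvd : Nat.card D ∣ 3 ^ 2 := by
      have := Subgroup.card_dvd_of_le hDP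
      rwa [hPcard] at this
    obtain ⟨k, hk2, hk⟩ := (Nat.dvd_prime_pow (by norm_num : Nat.Prime 3)).mp hdvd
    have hk2' : k ≠ 2 := by
      rintro rfl
      apply hQP
      have h1 : D = P := by
        apply Subgroup.eq_of_le_of_card_ge hDP
        rw [hk, hPcard]; norm_num
      have h2 : (P : Subgroup G) ≤ Q := by rw [← h1]; exact hDQ
      have h3 : (P : Subgroup G) = Q := by
        apply Subgroup.eq_of_le_of_card_ge h2
        rw [hQcard, hPcard]
      exact (Sylow.ext h3).symm
    have hk01 : k = 0 ∨ k = 1 := by omega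
    rcases hk01 with rfl | rfl <;> rw [hk] <;> norm_num
  have hPC : (P : Subgroup G) ≤ centralizer (D : Set G) := by
    intro x hx
    rw [Subgroup.mem_centralizer_iff]
    intro y hy
    exact habP y (hDP hy) x hx
  have hQC : (Q : Subgroup G) ≤ centralizer (D : Set G) := by
    intro x hx
    rw [Subgroup.mem_centralizer_iff]
    intro y hy
    exact habQ y (hDQ hy) x hx
  set M := normalizer (D : Set G) with hMdef
  have hCM : centralizer (D : Set G) ≤ M := Subgroup.centralizer_le_normalizer _
  have hPM : (P : Subgroup G) ≤ M := hPC.trans hCM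
  have hQM : (Q : Subgroup G) ≤ M := hQC.trans hCM
  have hDtop : D ≠ ⊤ := by
    intro h
    apply hPtop
    rw [eq_top_iff, ← h]
    exact hDP
  have hMtop : M ≠ ⊤ := fun h =>
    normal_absurd D (Subgroup.normalizer_eq_top_iff.mp h) hne hDtop
  have hidx := two_mul_card_dvd_factorial hG M hMtop
  have hidx8 : 8 ≤ M.index := by
    by_contra hlt
    push Not at hlt
    have h7 : M.index ≤ 7 := by omega
    have h1 : (M.index).factorial ∣ (7 : ℕ).factorial := Nat.factorial_dvd_factorial h7
    have h2 : 2 * Nat.card G ∣ (7 : ℕ).factorial := dvd_trans hidx h1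
    rw [hcard] at h2
    revert h2
    decide
  have hM90 : Nat.card M ≤ 90 := by
    have hmul := M.card_mul_index
    rw [hcard] at hmul
    by_contra hgt
    push Not at hgt
    have : 91 * 8 ≤ Nat.card M * M.index := Nat.mul_le_mul hgt hidx8
    omega
  obtain ⟨hn4, -⟩ := card_sylow_sub_ge P Q hQP M hPM hQM
  have hmul := card_eq_card_sylow_mul P M hPM
  set Y : Subgroup G := M ⊓ normalizer ((P : Subgroup G) : Set G) with hYdef
  have hY22 : Nat.card Y ≤ 22 := by
    by_contra hgt
    push Not at hgt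
    have : 4 * 23 ≤ Nat.card (Sylow 3 M) * Nat.card Y := Nat.mul_le_mul hn4 hgt
    omega
  have hPY : (P : Subgroup G) ≤ Y := le_inf hPM le_normalizer
  have h9Y : 9 ∣ Nat.card Y := by
    have := Subgroup.card_dvd_of_le hPY
    rwa [hPcard] at this
  have hY : Nat.card Y = 9 ∨ Nat.card Y = 18 := by
    obtain ⟨e, he⟩ := h9Y
    have hpos : 0 < Nat.card Y := Nat.card_pos
    have : e = 1 ∨ e = 2 := by omega
    rcases this with h | h <;> rw [he, h] <;> norm_num
  set X : Subgroup G := normalizer ((P : Subgroup G) : Set G) ⊓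
    normalizer ((Q : Subgroup G) : Set G) with hXdef
  have hXY : X ≤ Y := by
    rintro x ⟨hx1, hx2⟩
    have hxM : x ∈ M := by
      rw [hMdef, mem_normalizer_iff]
      intro h
      rw [hDdef, Subgroup.mem_inf, Subgroup.mem_inf, ← mem_normalizer_iff.mp hx1 h,
        ← mem_normalizer_iff.mp hx2 h]
    exact Subgroup.mem_inf.mpr ⟨hxM, hx1⟩
  have hX8 : 8 ≤ Nat.card X := by
    have := card_normalizer_le P Q hQP
    rw [hNPcard, h10] at this
    change 72 ≤ (10 - 1) * Nat.card X at this
    omega
  have hXdvd : Nat.card X ∣ Nat.card Y := Subgroup.card_dvd_of_le hXY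
  have h9X : 3 ^ 2 ∣ Nat.card X := by
    rcases hY with h | h
    · rw [h] at hXdvd
      have hle := Nat.le_of_dvd (by norm_num) hXdvd
      have : Nat.card X = 9 := by
        interval_cases (Nat.card X) <;> simp_all
      rw [this]; norm_num
    · rw [h] at hXdvd
      have hle := Nat.le_of_dvd (by norm_num) hXdvd
      have : Nat.card X = 9 ∨ Nat.card X = 18 := by
        interval_cases (Nat.card X) <;> simp_all
      rcases this with h' | h' <;> rw [h'] <;> norm_num
  obtain ⟨K, hK⟩ := Sylow.exists_subgroup_card_pow_prime 3 h9X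
  set K' : Subgroup G := K.map X.subtype with hK'def
  have hK'card : Nat.card K' = 9 := by
    rw [hK'def, Subgroup.card_map_of_injective (Subgroup.subtype_injective _), hK]; norm_num
  have hK'X : K' ≤ X := Subgroup.map_subtype_le K
  have hK'3 : IsPGroup 3 K' := IsPGroup.of_card (n := 2) (by rw [hK'card]; norm_num)
  have hK'P : K' ≤ P := by
    intro x hx
    have h1 : x ∈ K' ⊓ (P : Subgroup G) := by
      rw [← hK'3.inf_normalizer_sylow P]; exact ⟨hx, (hK'X hx).1⟩
    exact h1.2
  have hK'Q : K' ≤ Q := by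
    intro x hx
    have h1 : x ∈ K' ⊓ (Q : Subgroup G) := by
      rw [← hK'3.inf_normalizer_sylow Q]; exact ⟨hx, (hK'X hx).2⟩
    exact h1.2
  have hK'D : K' ≤ D := le_inf hK'P hK'Q
  have := Subgroup.card_le_of_le hK'D
  omega

end Cfsg.Agent.Lib.Helper9.SmallOrd
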