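import Mathlib
import Cfsg.Agent.Lib.Helper9.SmallOrd18
import Cfsg.Agent.Lib.Helper5.SL2Count
import Cfsg.Agent.Lib.Helper1.SLCard
import Cfsg.Agent.S0344

set_option autoImplicit false

namespace Cfsg.Agent.Lib.Helper9.SmallOrd

open Subgroup MulAction

theorem card_psl_two' {F : Type*} [Field F] [Fintype F] :
    Nat.gcd 2 (Fintype.card F - 1) *
      Nat.card (Matrix.ProjectiveSpecialLinearGroup (Fin 2) F) =
      Fintype.card F * (Fintype.card F - 1) * (Fintype.card F + 1) := by
  classical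
  rw [← Cfsg.Agent.Lib.Helper5.card_SL2,
    Subgroup.card_eq_card_quotient_mul_card_subgroup
      (Subgroup.center (Matrix.SpecialLinearGroup (Fin 2) F)),
    Cfsg.Agent.Lib.Helper1.card_center_SL_field (F := F) 2 (by norm_num), mul_comm]

variable {G : Type*} [Group G] [Finite G] [IsSimpleGroup G]

theorem reg_720 (hG : ¬ IsMulCommutative G) (hcard : Nat.card G = 720)
    (h10 : Nat.card (Sylow 3 G) = 10) (P : Sylow 3 G) : Reg P := by
  haveI : Fact (Nat.Prime 3) := ⟨by norm_num⟩
  refine ⟨by rw [h10, (data_720 hG hcard h10 P).1], ?_⟩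
  intro R hR x hx hxR
  have h1 : x ∈ normalizer ((R : Subgroup G) : Set G) := Sylow.smul_eq_iff_mem_normalizer.mp hxR
  have h2 : x ∈ (P : Subgroup G) ⊓ (R : Subgroup G) := by
    rw [← P.2.inf_normalizer_sylow R]; exact ⟨hx, h1⟩
  rw [ti_720 hG hcard h10 P R hR] at h2
  exact Subgroup.mem_bot.mp h2

theorem two_transitive_720 (hG : ¬ IsMulCommutative G) (hcard : Nat.card G = 720)
    (h10 : Nat.card (Sylow 3 G) = 10) : IsMultiplyPretransitive G (Sylow 3 G) 2 := by
  haveI : Fact (Nat.Prime 3) := ⟨by norm_num⟩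
  rw [is_two_pretransitive_iff]
  intro a b c d hab hcd
  obtain ⟨g1, hg1⟩ := MulAction.exists_smul_eq G a c
  have hne : g1 • b ≠ c := by
    intro hc
    apply hab
    rw [← hg1] at hc
    exact (smul_left_cancel g1 hc).symm
  obtain ⟨x, hxc, hx⟩ := (reg_720 hG hcard h10 c).exists_smul_eq (g1 • b) d hne (Ne.symm hcd)
  refine ⟨x * g1, ?_, ?_⟩
  · rw [mul_smul, hg1, smul_self_of_mem c x hxc]
  · rw [mul_smul, hx]

theorem faithful_720 (hG : ¬ IsMulCommutative G) (hcard : Nat.card G = 720)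
    (h10 : Nat.card (Sylow 3 G) = 10) : FaithfulSMul G (Sylow 3 G) := by
  haveI : Fact (Nat.Prime 3) := ⟨by norm_num⟩
  refine ⟨fun {g g'} hgg => ?_⟩
  obtain ⟨P⟩ : Nonempty (Sylow 3 G) := inferInstance
  have h1 : g'⁻¹ * g = 1 := by
    apply eq_one_of_fix_all P (data_720 hG hcard h10 P).2.2.2.2
    intro Q
    rw [mul_smul, hgg Q, inv_smul_smul]
  calc g = g' * (g'⁻¹ * g) := by group
    _ = g' := by rw [h1, mul_one]

/-- the two-point stabilizer has order `8`. -/
theorem card_two_point_720 (hG : ¬ IsMulCommutative G) (hcard : Nat.card G = 720)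
    (h10 : Nat.card (Sylow 3 G) = 10) (P Q : Sylow 3 G) (hQP : Q ≠ P) :
    Nat.card (stabilizer G P ⊓ stabilizer G Q : Subgroup G) = 8 := by
  haveI : Fact (Nat.Prime 3) := ⟨by norm_num⟩
  rw [Sylow.stabilizer_eq_normalizer, Sylow.stabilizer_eq_normalizer]
  obtain ⟨hPcard, hNPcard, habP, hPtop, hNPtop⟩ := data_720 hG hcard h10 P
  set X : Subgroup G := normalizer ((P : Subgroup G) : Set G) ⊓
    normalizer ((Q : Subgroup G) : Set G) with hXdef
  have hX8 : 8 ≤ Nat.card X := by
    have := card_normalizer_le P Q hQP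
    rw [hNPcard, h10] at this
    change 72 ≤ (10 - 1) * Nat.card X at this
    omega
  have h3 : ¬ 3 ∣ Nat.card X := by
    intro hdvd
    obtain ⟨x, hx⟩ := exists_prime_orderOf_dvd_card' 3 hdvd
    have hxo : orderOf (x : G) = 3 := by rw [Subgroup.orderOf_coe, hx]
    have hxX : (x : G) ∈ X := x.2
    have hp : IsPGroup 3 (zpowers (x : G)) := by
      apply IsPGroup.of_card (n := 1)
      rw [Nat.card_zpowers, hxo]; norm_num
    have hxP : (x : G) ∈ (P : Subgroup G) := by
      have h2 : (x : G) ∈ zpowers (x : G) ⊓ (P : Subgroup G) := by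
        rw [← hp.inf_normalizer_sylow P]
        exact ⟨mem_zpowers _, hxX.1⟩
      exact h2.2
    have hxQ : (x : G) • Q = Q := Sylow.smul_eq_iff_mem_normalizer.mpr hxX.2
    have hx1 := (reg_720 hG hcard h10 P).free Q hQP (x : G) hxP hxQ
    rw [hx1, orderOf_one] at hxo
    omega
  have hdvd8 : Nat.card X ∣ 8 := by
    have h72 : Nat.card X ∣ 8 * 9 := by
      have := Subgroup.card_dvd_of_le (inf_le_left : X ≤ normalizer ((P : Subgroup G) : Set G))
      rwa [hNPcard] at this
    have hcop : Nat.Coprime (Nat.card X) 9 := by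
      have : Nat.Coprime 3 (Nat.card X) := (Nat.Prime.coprime_iff_not_dvd Nat.prime_three).mpr h3
      have h9 : (9 : ℕ) = 3 ^ 2 := by norm_num
      rw [h9]
      exact (Nat.Coprime.pow_left 2 this).symm
    exact Nat.Coprime.dvd_of_dvd_mul_right hcop h72
  have hle : Nat.card X ≤ 8 := Nat.le_of_dvd (by norm_num) hdvd8
  show Nat.card X = 8
  omega

theorem eq_one_of_fix_three_720 (hG : ¬ IsMulCommutative G) (hcard : Nat.card G = 720)
    (h10 : Nat.card (Sylow 3 G) = 10) (g : G) (a b c : Sylow 3 G) (hab : a ≠ b)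
    (hbc : b ≠ c) (hac : a ≠ c) (ha : g • a = a) (hb : g • b = b) (hc : g • c = c) : g = 1 := by
  haveI : Fact (Nat.Prime 3) := ⟨by norm_num⟩
  haveI : Fact (Nat.Prime 2) := ⟨Nat.prime_two⟩
  by_contra hg1
  have hgH : g ∈ stabilizer G a ⊓ stabilizer G b :=
    ⟨mem_stabilizer_iff.mpr ha, mem_stabilizer_iff.mpr hb⟩
  have h8 := card_two_point_720 hG hcard h10 a b hab.symm
  have hord : orderOf g ∣ 2 ^ 3 := by
    have := Subgroup.orderOf_dvd_natCard _ hgH
    rw [h8] at this
    simpa using this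
  have h2 : 2 ∣ Nat.card (zpowers g) := by
    rw [Nat.card_zpowers]
    have hne1 : orderOf g ≠ 1 := fun h => hg1 (orderOf_eq_one_iff.mp h)
    obtain ⟨k, hk3, hk⟩ := (Nat.dvd_prime_pow Nat.prime_two).mp hord
    rw [hk]
    have hk0 : k ≠ 0 := by
      rintro rfl
      exact hne1 (by simpa using hk)
    exact dvd_pow_self 2 hk0
  obtain ⟨t', ht'⟩ := exists_prime_orderOf_dvd_card' 2 h2
  have hto : orderOf (t' : G) = 2 := by rw [Subgroup.orderOf_coe, ht']
  obtain ⟨j, hj⟩ := Subgroup.mem_zpowers_iff.mp t'.2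
  have hfix : ∀ s : Sylow 3 G, g • s = s → (t' : G) • s = s := by
    intro s hs
    rw [← hj]
    exact mem_stabilizer_iff.mp ((stabilizer G s).zpow_mem (mem_stabilizer_iff.mpr hs) j)
  have hta := hfix a ha
  have htb := hfix b hb
  have htc := hfix c hc
  have htt : (t' : G) * (t' : G) = 1 := by
    rw [← pow_two, ← hto]; exact pow_orderOf_eq_one _
  have hcf := (reg_720 hG hcard h10 a).card_fixed (t' : G) hta b hab.symm htb
  obtain ⟨hacard, hNa, -, -, hNatop⟩ := data_720 hG hcard h10 a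
  have hCdvd : Nat.card ((a : Subgroup G) ⊓ centralizer ({(t' : G)} : Set G) : Subgroup G) ∣ 3 ^ 2 := by
    have := Subgroup.card_dvd_of_le
      (inf_le_left : (a : Subgroup G) ⊓ centralizer ({(t' : G)} : Set G) ≤ a)
    rwa [hacard] at this
  obtain ⟨k, hk⟩ := card_eq_fixed_add_four_mul hG (Ω := Sylow 3 G) (t' : G) htt
  have hf3 : 3 ≤ Nat.card {S : Sylow 3 G // (t' : G) • S = S} := by
    have hsub : ({a, b, c} : Set (Sylow 3 G)) ⊆ {S : Sylow 3 G | (t' : G) • S = S} := by
      intro S hS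
      simp only [Set.mem_insert_iff, Set.mem_singleton_iff] at hS
      rcases hS with rfl | rfl | rfl
      · exact hta
      · exact htb
      · exact htc
    have h3 : ({a, b, c} : Set (Sylow 3 G)).ncard = 3 :=
      Set.ncard_eq_three.mpr ⟨a, b, c, hab, hac, hbc, rfl⟩
    have := Set.ncard_le_ncard hsub (Set.toFinite _)
    rw [h3, ← Nat.card_coe_set_eq] at this
    exact this
  obtain ⟨e, he2, he⟩ := (Nat.dvd_prime_pow (by norm_num : Nat.Prime 3)).mp hCdvd
  have hall : ∀ S : Sylow 3 G, (t' : G) • S = S := by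
    by_contra hcon
    push Not at hcon
    obtain ⟨S, hS⟩ := hcon
    have hlt := Finite.card_subtype_lt (p := fun S : Sylow 3 G => (t' : G) • S = S) (x := S) hS
    rw [h10] at hlt hk
    rw [he] at hcf
    have : e = 0 ∨ e = 1 ∨ e = 2 := by omega
    rcases this with rfl | rfl | rfl
    · norm_num at hcf; omega
    · norm_num at hcf; omega
    · norm_num at hcf; omega
  have ht1 := eq_one_of_fix_all a hNatop (t' : G) hall
  rw [ht1, orderOf_one] at hto
  omega

theorem zassenhaus_720 (hG : ¬ IsMulCommutative G) (hcard : Nat.card G = 720)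
    (h10 : Nat.card (Sylow 3 G) = 10) : Cfsg.IsZassenhausGroup G (Sylow 3 G) := by
  haveI : Fact (Nat.Prime 3) := ⟨by norm_num⟩
  have hnt : Nontrivial (Sylow 3 G) := by
    rw [← Finite.one_lt_card_iff_nontrivial]; omega
  refine ⟨faithful_720 hG hcard h10, two_transitive_720 hG hcard h10, ?_, ?_, ?_⟩
  · intro g a b c hab hbc hac ha hb hc
    exact eq_one_of_fix_three_720 hG hcard h10 g a b c hab hbc hac ha hb hc
  · obtain ⟨a, b, hab⟩ := hnt
    have hcard2 := card_two_point_720 hG hcard h10 a b hab.symm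
    have hne : (stabilizer G a ⊓ stabilizer G b) ≠ ⊥ := by
      intro hbot
      rw [hbot, Subgroup.card_bot] at hcard2
      omega
    obtain ⟨g, hg, hg1⟩ : ∃ g ∈ stabilizer G a ⊓ stabilizer G b, g ≠ 1 := by
      by_contra hcon
      apply hne
      rw [Subgroup.eq_bot_iff_forall]
      intro x hx
      by_contra hx1
      exact hcon ⟨x, hx, hx1⟩
    exact ⟨g, hg1, a, b, hab, mem_stabilizer_iff.mp hg.1, mem_stabilizer_iff.mp hg.2⟩
  · intro N hN htrans
    obtain ⟨a, b, hab⟩ := hnt
    rcases hN.eq_bot_or_eq_top with hbot | htop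
    · exfalso
      obtain ⟨n, hn⟩ := htrans.exists_smul_eq a b
      have hn1 : (n : G) = 1 := by
        have hle : N ≤ ⊥ := le_of_eq hbot
        exact Subgroup.mem_bot.mp (hle n.2)
      have : (n : G) • a = b := hn
      rw [hn1, one_smul] at this
      exact hab this
    · refine ⟨a, ?_⟩
      obtain ⟨hacard, -, -, -, -⟩ := data_720 hG hcard h10 a
      obtain ⟨x, hxa, hx1⟩ : ∃ x ∈ (a : Subgroup G), x ≠ 1 := by
        by_contra hcon
        have hbot : (a : Subgroup G) = ⊥ := by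
          rw [Subgroup.eq_bot_iff_forall]
          intro x hx
          by_contra hx1
          exact hcon ⟨x, hx, hx1⟩
        rw [hbot, Subgroup.card_bot] at hacard
        omega
      intro hstab
      have hxN : x ∈ N := by rw [htop]; trivial
      have hmem : (⟨x, hxN⟩ : N) ∈ stabilizer N a := by
        rw [mem_stabilizer_iff]
        exact smul_self_of_mem a x hxa
      rw [hstab, Subgroup.mem_bot] at hmem
      apply hx1
      exact congrArg Subtype.val hmem

theorem ne_720_caseA (hG : ¬ IsMulCommutative G) (hcard : Nat.card G = 720)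
    (h10 : Nat.card (Sylow 3 G) = 10) : False := by
  haveI : Fact (Nat.Prime 3) := ⟨by norm_num⟩
  have hnt : Nontrivial (Sylow 3 G) := by
    rw [← Finite.one_lt_card_iff_nontrivial]; omega
  obtain ⟨a, b, hab⟩ := hnt
  have hcard2 := card_two_point_720 hG hcard h10 a b hab.symm
  obtain ⟨F, instF, instFF, hF3, ⟨e⟩⟩ :=
    Cfsg.Agent.S0344.result (zassenhaus_720 hG hcard h10) hab (by rw [hcard2]; decide)
  have h1 : Nat.card (Matrix.ProjectiveSpecialLinearGroup (Fin 2) F) = 720 := by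
    rw [← Nat.card_congr e.toEquiv, hcard]
  have h2 := card_psl_two' (F := F)
  rw [h1] at h2
  obtain ⟨q, hq⟩ : ∃ q, q = Fintype.card F := ⟨_, rfl⟩
  rw [← hq] at h2 hF3
  have hd : Nat.gcd 2 (q - 1) = 1 ∨ Nat.gcd 2 (q - 1) = 2 := by
    have h1 : Nat.gcd 2 (q - 1) ∣ 2 := Nat.gcd_dvd_left _ _
    have h2 : Nat.gcd 2 (q - 1) ≤ 2 := Nat.le_of_dvd (by norm_num) h1
    have h3 : 0 < Nat.gcd 2 (q - 1) := Nat.gcd_pos_of_pos_left _ (by norm_num)
    interval_cases (Nat.gcd 2 (q - 1)) <;> simp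
  have hq12 : q ≤ 12 := by
    by_contra hgt
    push Not at hgt
    have h3 : 13 * 12 * 14 ≤ q * (q - 1) * (q + 1) := by
      apply Nat.mul_le_mul (Nat.mul_le_mul hgt (by omega)) (by omega)
    rcases hd with h | h <;> rw [h] at h2 <;> omega
  clear hd hq
  interval_cases q <;> revert h2 <;> decide

end Cfsg.Agent.Lib.Helper9.SmallOrd
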