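import Mathlib
import Cfsg.Agent.Lib.Helper9.SLP11
import Cfsg.Agent.Lib.Helper9.SmallOrd19

set_option autoImplicit false

/-!
# Presentations of `SL₂(q)`: from the bound to the isomorphism
-/

namespace Cfsg.Agent.Lib.Helper9.SLP

open Matrix Polynomial

theorem lift_of_eq_mk (rels : Set (FreeGroup (Fin 3))) :
    FreeGroup.lift (PresentedGroup.of (rels := rels)) = PresentedGroup.mk rels := by
  ext i
  simp [PresentedGroup.of]

theorem closure_of_three (rels : Set (FreeGroup (Fin 3))) :
    Subgroup.closure ({PresentedGroup.of (rels := rels) 0, PresentedGroup.of 1,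
      PresentedGroup.of 2} : Set (PresentedGroup rels)) = ⊤ := by
  rw [eq_top_iff, ← PresentedGroup.closure_range_of rels]
  apply Subgroup.closure_mono
  rintro _ ⟨i, rfl⟩
  fin_cases i <;> simp

theorem nonempty_mulEquiv_of_bound (L : List (FreeGroup (Fin 3))) {H' : Type*} [Group H']
    (f₀ : Fin 3 → H') (hrel : ∀ r ∈ L, FreeGroup.lift f₀ r = 1)
    (hgen : Subgroup.closure (Set.range f₀) = ⊤)
    (hfin : Finite (PresentedGroup (↑L.toFinset : Set (FreeGroup (Fin 3)))))
    (hcard : Nat.card (PresentedGroup (↑L.toFinset : Set (FreeGroup (Fin 3)))) ≤ Nat.card H') :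
    Nonempty (PresentedGroup (↑L.toFinset : Set (FreeGroup (Fin 3))) ≃* H') := by
  have hrel' : ∀ r ∈ (↑L.toFinset : Set (FreeGroup (Fin 3))), FreeGroup.lift f₀ r = 1 := by
    intro r hr
    exact hrel r (List.mem_toFinset.mp (Finset.mem_coe.mp hr))
  let φ := PresentedGroup.toGroup hrel'
  have hsurj : Function.Surjective φ := by
    rw [← MonoidHom.range_eq_top, eq_top_iff, ← hgen, Subgroup.closure_le]
    rintro _ ⟨i, rfl⟩
    exact ⟨PresentedGroup.of i, PresentedGroup.toGroup.of hrel'⟩
  have hbij : Function.Bijective φ := hsurj.bijective_of_nat_card_le hcard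
  exact ⟨MulEquiv.ofBijective φ hbij⟩

theorem rels_hold_in_presented (L : List (FreeGroup (Fin 3))) :
    ∀ r ∈ L, FreeGroup.lift
      (PresentedGroup.of (rels := (↑L.toFinset : Set (FreeGroup (Fin 3))))) r = 1 := by
  intro r hr
  rw [lift_of_eq_mk]
  exact PresentedGroup.one_of_mem (Finset.mem_coe.mpr (List.mem_toFinset.mpr hr))

variable {F : Type*} [Field F] [Fintype F]

theorem mH_neg_one_mem_center :
    mH (-1 : Fˣ) ∈ Subgroup.center (SpecialLinearGroup (Fin 2) F) := by
  rw [Subgroup.mem_center_iff]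
  intro B
  ext i j
  fin_cases i <;> fin_cases j <;>
    simp [mH_coe, Matrix.mul_apply, Fin.sum_univ_two]

theorem card_psl_even (h2 : Even (Fintype.card F)) :
    Nat.card (ProjectiveSpecialLinearGroup (Fin 2) F) =
      Fintype.card F * (Fintype.card F - 1) * (Fintype.card F + 1) := by
  have := SmallOrd.card_psl_two' (F := F)
  have hq : 2 ≤ Fintype.card F := Fintype.one_lt_card
  have hg : Nat.gcd 2 (Fintype.card F - 1) = 1 := by
    obtain ⟨r, hr⟩ := h2
    have : Fintype.card F - 1 = 2 * (r - 1) + 1 := by omega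
    rw [this]; simp
  rwa [hg, one_mul] at this

theorem card_psl_odd (h2 : Odd (Fintype.card F)) :
    2 * Nat.card (ProjectiveSpecialLinearGroup (Fin 2) F) =
      Fintype.card F * (Fintype.card F - 1) * (Fintype.card F + 1) := by
  have := SmallOrd.card_psl_two' (F := F)
  have hg : Nat.gcd 2 (Fintype.card F - 1) = 2 := by
    obtain ⟨r, hr⟩ := h2
    have : Fintype.card F - 1 = 2 * r := by omega
    rw [this]; simp
  rwa [hg] at this

end Cfsg.Agent.Lib.Helper9.SLP
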