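import Mathlib
import Cfsg.Agent.Lib.Helper9.SLP12

set_option autoImplicit false

/-!
# Presentations of `SL₂(q)`: the generic theorem
-/

namespace Cfsg.Agent.Lib.Helper9.SLP

open Matrix Polynomial

variable {F : Type*} [Field F] [Fintype F]

theorem lift_comp_eq {G H : Type*} [Group G] [Group H] (π : G →* H) (f : Fin 3 → G)
    (r : FreeGroup (Fin 3)) : FreeGroup.lift (π ∘ f) r = π (FreeGroup.lift f r) := by
  have : FreeGroup.lift (π ∘ f) = π.comp (FreeGroup.lift f) := by
    ext i; simp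
  rw [this]; rfl

theorem closure_range_gens (p : ℕ) [Fact p.Prime] [CharP F p] (ζ : Fˣ)
    (hgen : ∀ x : Fˣ, x ∈ Subgroup.zpowers ζ) :
    Subgroup.closure (Set.range (![mU (1 : F), mT, mH ζ] :
      Fin 3 → SpecialLinearGroup (Fin 2) F)) = ⊤ := by
  rw [eq_top_iff, ← closure_gens p ζ (evl_surjective p ζ hgen)]
  apply Subgroup.closure_mono
  rintro x (rfl | rfl | rfl)
  · exact ⟨0, rfl⟩
  · exact ⟨1, rfl⟩
  · exact ⟨2, rfl⟩

theorem main_generic (p : ℕ) [Fact p.Prime] [CharP F p] (ζ : Fˣ)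
    (hgen : ∀ x : Fˣ, x ∈ Subgroup.zpowers ζ)
    (m fz fz' : (ZMod p)[X])
    (hker : ∀ f, evl p ((ζ : F) ^ 2) f = 0 → m ∣ f)
    (hfz : evl p ((ζ : F) ^ 2) fz = ζ) (hfz' : evl p ((ζ : F) ^ 2) fz' = -((ζ⁻¹ : Fˣ) : F))
    (L : List (FreeGroup (Fin 3)))
    (P1 : ∀ (G : Type) [Group G] (f : Fin 3 → G), (∀ r ∈ L, FreeGroup.lift f r = 1) →
      RelsHold p m fz fz' (f 0) (f 1) (f 2))
    (P2 : ∀ r ∈ L, FreeGroup.lift (![mU (1 : F), mT, mH ζ] :
      Fin 3 → SpecialLinearGroup (Fin 2) F) r = 1) :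
    Nonempty (PresentedGroup (↑L.toFinset : Set (FreeGroup (Fin 3))) ≃*
      SpecialLinearGroup (Fin 2) F) ∧
    (p = 2 → Nonempty (PresentedGroup (↑L.toFinset : Set (FreeGroup (Fin 3))) ≃*
      ProjectiveSpecialLinearGroup (Fin 2) F)) ∧
    (p ≠ 2 → Nonempty (PresentedGroup
      (↑(L ++ [FreeGroup.of 1 * FreeGroup.of 1]).toFinset : Set (FreeGroup (Fin 3))) ≃*
      ProjectiveSpecialLinearGroup (Fin 2) F)) := by
  classical
  have hsurj := evl_surjective p ζ hgen
  have hfz'' : evl p ((ζ : F) ^ 2) fz' = -(ζ : F)⁻¹ := by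
    rw [hfz', Units.val_inv_eq_inv_val]
  have bounds : ∀ L' : List (FreeGroup (Fin 3)), (∀ r ∈ L, r ∈ L') →
      Finite (PresentedGroup (↑L'.toFinset : Set (FreeGroup (Fin 3)))) ∧
      Nat.card (PresentedGroup (↑L'.toFinset : Set (FreeGroup (Fin 3)))) ≤
        Fintype.card F * (Fintype.card F - 1) * (Fintype.card F + 1) ∧
      ((PresentedGroup.of (rels := (↑L'.toFinset : Set (FreeGroup (Fin 3)))) 1 *
          PresentedGroup.of 1 = 1) → (2 : F) ≠ 0 →
        2 * Nat.card (PresentedGroup (↑L'.toFinset : Set (FreeGroup (Fin 3)))) ≤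
          Fintype.card F * (Fintype.card F - 1) * (Fintype.card F + 1)) := by
    intro L' hsub
    obtain ⟨H1, H2, H3, H4, H5, H6⟩ := P1 (PresentedGroup (↑L'.toFinset : Set (FreeGroup (Fin 3))))
      PresentedGroup.of (fun r hr => rels_hold_in_presented L' r (hsub r hr))
    exact abstract_bounds p (evl p ((ζ : F) ^ 2)) hsurj m hker (ζ : F) ζ.ne_zero
      (gen_pow ζ hgen) (evl_X p _) fz fz' hfz hfz'' _ _ _ (closure_of_three _) H1 H2 H3 H4 H5 H6
  have hgenSL := closure_range_gens p ζ hgen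
  let π : SpecialLinearGroup (Fin 2) F →* ProjectiveSpecialLinearGroup (Fin 2) F :=
    QuotientGroup.mk' (Subgroup.center (SpecialLinearGroup (Fin 2) F))
  have hπ : Function.Surjective π := QuotientGroup.mk'_surjective _
  have hgenPSL : Subgroup.closure (Set.range (π ∘ (![mU (1 : F), mT, mH ζ] :
      Fin 3 → SpecialLinearGroup (Fin 2) F))) = ⊤ := by
    rw [Set.range_comp, ← MonoidHom.map_closure, hgenSL, Subgroup.map_top_of_surjective π hπ]
  have P2' : ∀ r ∈ L, FreeGroup.lift (π ∘ (![mU (1 : F), mT, mH ζ] :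
      Fin 3 → SpecialLinearGroup (Fin 2) F)) r = 1 := by
    intro r hr
    rw [lift_comp_eq, P2 r hr, map_one]
  obtain ⟨n, -, hn⟩ := FiniteField.card F p
  refine ⟨?_, ?_, ?_⟩
  · obtain ⟨hfin, hcard, -⟩ := bounds L (fun r hr => hr)
    refine nonempty_mulEquiv_of_bound L _ P2 hgenSL hfin ?_
    rw [Cfsg.Agent.Lib.Helper5.card_SL2]
    exact hcard
  · intro hp2
    obtain ⟨hfin, hcard, -⟩ := bounds L (fun r hr => hr)
    refine nonempty_mulEquiv_of_bound L _ P2' hgenPSL hfin ?_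
    rw [card_psl_even]
    · exact hcard
    · rw [hn, hp2]
      exact (Nat.even_pow.mpr ⟨even_two, n.ne_zero⟩)
  · intro hp2
    obtain ⟨hfin, -, hcard⟩ := bounds (L ++ [FreeGroup.of 1 * FreeGroup.of 1])
      (fun r hr => List.mem_append_left _ hr)
    have htt : PresentedGroup.of (rels := (↑(L ++ [FreeGroup.of 1 * FreeGroup.of 1]).toFinset :
        Set (FreeGroup (Fin 3)))) 1 * PresentedGroup.of 1 = 1 := by
      have := rels_hold_in_presented (L ++ [FreeGroup.of 1 * FreeGroup.of 1])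
        (FreeGroup.of 1 * FreeGroup.of 1) (by simp)
      simpa using this
    have h2F : (2 : F) ≠ 0 := by
      intro h2
      have h3 : ((2 : ℕ) : F) = 0 := by exact_mod_cast h2
      rw [CharP.cast_eq_zero_iff F p 2] at h3
      exact hp2 ((Nat.prime_dvd_prime_iff_eq (Fact.out : p.Prime) Nat.prime_two).mp h3)
    have hcard' := hcard htt h2F
    refine nonempty_mulEquiv_of_bound _ _ ?_ hgenPSL hfin ?_
    · intro r hr
      rcases List.mem_append.mp hr with hr | hr
      · exact P2' r hr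
      · rw [List.mem_singleton] at hr
        subst hr
        rw [lift_comp_eq]
        simp only [map_mul, FreeGroup.lift_apply_of, Matrix.cons_val_one, Matrix.cons_val_zero]
        rw [← map_mul, mT_mT]
        exact (QuotientGroup.eq_one_iff _).mpr mH_neg_one_mem_center
    · have hodd : Odd (Fintype.card F) := by
        rw [hn]
        exact ((Fact.out : p.Prime).odd_of_ne_two hp2).pow
      have := card_psl_odd (F := F) hodd
      omega

end Cfsg.Agent.Lib.Helper9.SLP
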