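import Mathlib
import Cfsg.Agent.Lib.Helper9.SLP13

set_option autoImplicit false

/-!
# Presentations of `SL₂(q)`: the three cases
-/

namespace Cfsg.Agent.Lib.Helper9.SLP

open Matrix Polynomial

variable {F : Type*} [Field F] [Fintype F]

/-- the conclusion of `main_generic` -/
def Concl (F : Type*) [Field F] [Fintype F] (p : ℕ) (L : List (FreeGroup (Fin 3))) : Prop :=
  Nonempty (PresentedGroup (↑L.toFinset : Set (FreeGroup (Fin 3))) ≃*
      SpecialLinearGroup (Fin 2) F) ∧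
    (p = 2 → Nonempty (PresentedGroup (↑L.toFinset : Set (FreeGroup (Fin 3))) ≃*
      ProjectiveSpecialLinearGroup (Fin 2) F)) ∧
    (p ≠ 2 → Nonempty (PresentedGroup
      (↑(L ++ [FreeGroup.of 1 * FreeGroup.of 1]).toFinset : Set (FreeGroup (Fin 3))) ≃*
      ProjectiveSpecialLinearGroup (Fin 2) F))

theorem forall_lift_iff {G : Type*} [Group G] (f : Fin 3 → G) (L : List (FreeGroup (Fin 3)))
    (L' : List G) (h : L.map (FreeGroup.lift f) = L') :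
    (∀ r ∈ L, FreeGroup.lift f r = 1) ↔ (∀ r ∈ L', r = 1) := by
  subst h
  simp [List.forall_mem_map]

theorem caseA (p : ℕ) [Fact p.Prime] [CharP F p] (ζ : Fˣ)
    (hgen : ∀ x : Fˣ, x ∈ Subgroup.zpowers ζ)
    (hA : ∃ c : ZMod p, ZMod.castHom (dvd_refl p) F c = (ζ : F) ^ 2) :
    ∃ L : List (FreeGroup (Fin 3)), L.length = 5 ∧ Concl F p L := by
  have hsurj := evl_surjective p ζ hgen
  obtain ⟨fz, hfz⟩ := hsurj ζ
  obtain ⟨fz', hfz'⟩ := hsurj (-((ζ⁻¹ : Fˣ) : F))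
  obtain ⟨c, hc⟩ := hA
  have hk := ker_linear (F := F) p c
  rw [hc] at hk
  refine ⟨schemeA p (X - C c) fz fz' (FreeGroup.of 0) (FreeGroup.of 1) (FreeGroup.of 2),
    rfl, ?_⟩
  apply main_generic p ζ hgen (X - C c) fz fz' hk.2 hfz hfz'
  · intro G _ f hf
    exact relsHold_of_schemeA p c fz fz' _ _ _
      ((forall_lift_iff f _ (schemeA p (X - C c) fz fz' (f 0) (f 1) (f 2))
        (by rw [map_schemeA]; simp)).mp hf)
  · rw [forall_lift_iff _ _ (schemeA p (X - C c) fz fz' (mU (1 : F)) mT (mH ζ))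
      (by rw [map_schemeA]; simp)]
    exact schemeA_mat p ζ (X - C c) fz fz' hk.1 hfz hfz'

theorem caseB_odd (p : ℕ) [Fact p.Prime] [CharP F p] (ζ : Fˣ)
    (hgen : ∀ x : Fˣ, x ∈ Subgroup.zpowers ζ)
    (hB : ¬ ∃ c : ZMod p, ZMod.castHom (dvd_refl p) F c = (ζ : F) ^ 2) :
    ∃ L : List (FreeGroup (Fin 3)), L.length = 8 ∧ Concl F p L := by
  have hsurj := evl_surjective p ζ hgen
  obtain ⟨fz, hfz⟩ := hsurj ζ
  obtain ⟨fz', hfz'⟩ := hsurj (-((ζ⁻¹ : Fˣ) : F))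
  obtain ⟨m, hm, hker⟩ := exists_ker_gen p ((ζ : F) ^ 2)
  obtain ⟨hl1, hl2⟩ := lam_ne_of_not_mem p _ hB
  obtain ⟨a, k, ε, ha, hε, hrel⟩ := exists_add_rel ζ hgen hl1 hl2
  refine ⟨schemeA p m fz fz' (FreeGroup.of 0) (FreeGroup.of 1) (FreeGroup.of 2) ++
    schemeC k a ε (FreeGroup.of 0) (FreeGroup.of 2), rfl, ?_⟩
  apply main_generic p ζ hgen m fz fz' hker hfz hfz'
  · intro G _ f hf
    exact relsHold_of_schemeAC p m fz fz' k a ha ε hε _ _ _
      ((forall_lift_iff f _ (schemeA p m fz fz' (f 0) (f 1) (f 2) ++ schemeC k a ε (f 0) (f 2))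
        (by rw [List.map_append, map_schemeA, map_schemeC]; simp)).mp hf)
  · rw [forall_lift_iff _ _ (schemeA p m fz fz' (mU (1 : F)) mT (mH ζ) ++
        schemeC k a ε (mU (1 : F)) (mH ζ))
      (by rw [List.map_append, map_schemeA, map_schemeC]; simp)]
    intro r hr
    rcases List.mem_append.mp hr with hr | hr
    · exact schemeA_mat p ζ m fz fz' hm hfz hfz' r hr
    · exact schemeC_mat ζ k a ε hrel r hr

theorem caseB_two [CharP F 2] (ζ : Fˣ)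
    (hgen : ∀ x : Fˣ, x ∈ Subgroup.zpowers ζ)
    (hB : ¬ ∃ c : ZMod 2, ZMod.castHom (dvd_refl 2) F c = (ζ : F) ^ 2) :
    ∃ L : List (FreeGroup (Fin 3)), L.length = 5 ∧ Concl F 2 L := by
  haveI : Fact (Nat.Prime 2) := ⟨Nat.prime_two⟩
  have hsurj := evl_surjective 2 ζ hgen
  obtain ⟨fz, hfz⟩ := hsurj ζ
  obtain ⟨fz', hfz'⟩ := hsurj (-((ζ⁻¹ : Fˣ) : F))
  obtain ⟨m, hm, hker⟩ := exists_ker_gen 2 ((ζ : F) ^ 2)
  obtain ⟨hl1, -⟩ := lam_ne_of_not_mem 2 _ hB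
  obtain ⟨k, hrel⟩ := exists_add_rel_two ζ hgen hl1
  refine ⟨scheme2 m fz fz' k (FreeGroup.of 0) (FreeGroup.of 1) (FreeGroup.of 2), rfl, ?_⟩
  apply main_generic 2 ζ hgen m fz fz' hker hfz hfz'
  · intro G _ f hf
    exact (relsHold_of_scheme2 m fz fz' k _ _ _
      ((forall_lift_iff f _ (scheme2 m fz fz' k (f 0) (f 1) (f 2))
        (by rw [map_scheme2]; simp)).mp hf)).1
  · rw [forall_lift_iff _ _ (scheme2 m fz fz' k (mU (1 : F)) mT (mH ζ))
      (by rw [map_scheme2]; simp)]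
    exact scheme2_mat ζ m fz fz' k hm hfz hfz' hrel

end Cfsg.Agent.Lib.Helper9.SLP
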