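import Mathlib
import Cfsg.Agent.Lib.Helper9.SLP14

set_option autoImplicit false

/-!
# Presentations of `Sp₄(q)`: the matrices
-/

namespace Cfsg.Agent.Lib.Helper9.SP4P

open Matrix Cfsg.Agent.Lib.Helper9.SLP

variable {F : Type*} [Field F]

/-- the `SL₂` of the long root, acting on `⟨e₂, f₂⟩` -/
def aMat (g : Matrix (Fin 2) (Fin 2) F) : Matrix (Fin 2 ⊕ Fin 2) (Fin 2 ⊕ Fin 2) F :=
  fromBlocks !![1, 0; 0, g 0 0] !![0, 0; 0, g 0 1] !![0, 0; 0, g 1 0] !![1, 0; 0, g 1 1]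

/-- the Levi `GL₂` -/
def bMat (g : Matrix (Fin 2) (Fin 2) F) : Matrix (Fin 2 ⊕ Fin 2) (Fin 2 ⊕ Fin 2) F :=
  fromBlocks !![g 0 0, g 0 1; g 1 0, g 1 1] 0 0 !![g 1 1, -g 1 0; -g 0 1, g 0 0]

/-- the unipotent radical -/
def vMat (a b c : F) : Matrix (Fin 2 ⊕ Fin 2) (Fin 2 ⊕ Fin 2) F :=
  fromBlocks 1 !![c, b; b, a] 0 1

theorem aMat_mul (g g' : Matrix (Fin 2) (Fin 2) F) : aMat (g * g') = aMat g * aMat g' := by
  ext (i | i) (j | j) <;> fin_cases i <;> fin_cases j <;>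
    simp [aMat, Matrix.mul_apply, Fintype.sum_sum_type, Fin.sum_univ_two]

theorem aMat_one : aMat (1 : Matrix (Fin 2) (Fin 2) F) = 1 := by
  ext (i | i) (j | j) <;> fin_cases i <;> fin_cases j <;> simp [aMat]

theorem bMat_mul (g g' : Matrix (Fin 2) (Fin 2) F) : bMat (g * g') = bMat g * bMat g' := by
  ext (i | i) (j | j) <;> fin_cases i <;> fin_cases j <;>
    simp [bMat, Matrix.mul_apply, Fintype.sum_sum_type, Fin.sum_univ_two] <;> ring

theorem bMat_one : bMat (1 : Matrix (Fin 2) (Fin 2) F) = 1 := by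
  ext (i | i) (j | j) <;> fin_cases i <;> fin_cases j <;> simp [bMat]

theorem vMat_mul (a b c a' b' c' : F) :
    vMat a b c * vMat a' b' c' = vMat (a + a') (b + b') (c + c') := by
  ext (i | i) (j | j) <;> fin_cases i <;> fin_cases j <;>
    simp [vMat, Matrix.mul_apply, Fintype.sum_sum_type, Fin.sum_univ_two] <;> ring

theorem aMat_mem {g : Matrix (Fin 2) (Fin 2) F} (hg : g.det = 1) :
    aMat g ∈ symplecticGroup (Fin 2) F := by
  rw [det_fin_two] at hg
  rw [aMat, SymplecticGroup.fromBlocks_mem_iff]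
  refine ⟨?_, ?_, ?_⟩ <;> ext i j <;> fin_cases i <;> fin_cases j <;>
    simp [Matrix.mul_apply, Fin.sum_univ_two, mul_comm]
  linear_combination hg

theorem bMat_mem {g : Matrix (Fin 2) (Fin 2) F} (hg : g.det = 1) :
    bMat g ∈ symplecticGroup (Fin 2) F := by
  rw [det_fin_two] at hg
  rw [bMat, SymplecticGroup.fromBlocks_mem_iff]
  refine ⟨?_, ?_, ?_⟩ <;> ext i j <;> fin_cases i <;> fin_cases j <;>
    simp [Matrix.mul_apply, Fin.sum_univ_two]
  · linear_combination hg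
  · ring
  · ring
  · linear_combination hg

theorem vMat_mem (a b c : F) : vMat a b c ∈ symplecticGroup (Fin 2) F := by
  rw [vMat, SymplecticGroup.fromBlocks_mem_iff]
  refine ⟨?_, ?_, ?_⟩ <;> ext i j <;> fin_cases i <;> fin_cases j <;>
    simp [Matrix.mul_apply, Fin.sum_univ_two]

end Cfsg.Agent.Lib.Helper9.SP4P
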