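import Mathlib
import Cfsg.Agent.Lib.Helper9.SP4P8

set_option autoImplicit false

/-!
# Presentations of `Sp₄(q)`: the two `SL₂`'s in `Sp₄` and their relations
-/

namespace Cfsg.Agent.Lib.Helper9.SP4P

open Matrix Cfsg.Agent.Lib.Helper9.SLP

variable {F : Type*} [Field F]

/-- the long root `SL₂` -/
def aHom : SpecialLinearGroup (Fin 2) F →* symplecticGroup (Fin 2) F where
  toFun g := ⟨aMat (g : Matrix (Fin 2) (Fin 2) F), aMat_mem g.2⟩
  map_one' := by
    apply Subtype.ext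
    have e : ((1 : SpecialLinearGroup (Fin 2) F) : Matrix (Fin 2) (Fin 2) F) = 1 := rfl
    exact (congrArg aMat e).trans aMat_one
  map_mul' g g' := by
    apply Subtype.ext
    have e : ((g * g' : SpecialLinearGroup (Fin 2) F) : Matrix (Fin 2) (Fin 2) F) =
      (g : Matrix (Fin 2) (Fin 2) F) * (g' : Matrix (Fin 2) (Fin 2) F) := rfl
    exact (congrArg aMat e).trans (aMat_mul _ _)

/-- the short root `SL₂` -/
def bHom : SpecialLinearGroup (Fin 2) F →* symplecticGroup (Fin 2) F where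
  toFun g := ⟨bMat (g : Matrix (Fin 2) (Fin 2) F), bMat_mem g.2⟩
  map_one' := by
    apply Subtype.ext
    have e : ((1 : SpecialLinearGroup (Fin 2) F) : Matrix (Fin 2) (Fin 2) F) = 1 := rfl
    exact (congrArg bMat e).trans bMat_one
  map_mul' g g' := by
    apply Subtype.ext
    have e : ((g * g' : SpecialLinearGroup (Fin 2) F) : Matrix (Fin 2) (Fin 2) F) =
      (g : Matrix (Fin 2) (Fin 2) F) * (g' : Matrix (Fin 2) (Fin 2) F) := rfl
    exact (congrArg bMat e).trans (bMat_mul _ _)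

/-- the elements of the unipotent radical -/
def gV (a b c : F) : symplecticGroup (Fin 2) F := ⟨vMat a b c, vMat_mem a b c⟩

theorem aHom_coe (g : SpecialLinearGroup (Fin 2) F) :
    ((aHom g : symplecticGroup (Fin 2) F) : Matrix (Fin 2 ⊕ Fin 2) (Fin 2 ⊕ Fin 2) F) =
      aMat (g : Matrix (Fin 2) (Fin 2) F) := rfl

theorem bHom_coe (g : SpecialLinearGroup (Fin 2) F) :
    ((bHom g : symplecticGroup (Fin 2) F) : Matrix (Fin 2 ⊕ Fin 2) (Fin 2 ⊕ Fin 2) F) =
      bMat (g : Matrix (Fin 2) (Fin 2) F) := rfl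

theorem gV_coe (a b c : F) :
    ((gV a b c : symplecticGroup (Fin 2) F) : Matrix (Fin 2 ⊕ Fin 2) (Fin 2 ⊕ Fin 2) F) =
      vMat a b c := rfl

theorem gV_mul (a b c a' b' c' : F) : gV a b c * gV a' b' c' = gV (a + a') (b + b') (c + c') := by
  apply Subtype.ext
  rw [Submonoid.coe_mul, gV_coe, gV_coe, gV_coe, vMat_mul]

theorem gV_zero : gV (0 : F) 0 0 = 1 := by
  apply Subtype.ext
  rw [gV_coe]
  ext (i | i) (j | j) <;> fin_cases i <;> fin_cases j <;> simp [vMat]

theorem gV_inv (a b c : F) : (gV a b c)⁻¹ = gV (-a) (-b) (-c) := by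
  apply inv_eq_of_mul_eq_one_right
  rw [gV_mul, add_neg_cancel, add_neg_cancel, add_neg_cancel, gV_zero]

theorem gV_comm (a b c a' b' c' : F) : Commute (gV a b c) (gV a' b' c') := by
  show gV a b c * gV a' b' c' = gV a' b' c' * gV a b c
  rw [gV_mul, gV_mul, add_comm a, add_comm b, add_comm c]

theorem i1 (t : F) : aHom (mU t) = gV t 0 0 := by
  apply Subtype.ext
  rw [aHom_coe, gV_coe, mU_coe]
  ext (i | i) (j | j) <;> fin_cases i <;> fin_cases j <;> simp [aMat, vMat]

theorem i2 (a b c : F) : bHom mT * gV a b c = gV c (-b) a * bHom mT := by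
  apply Subtype.ext
  rw [Submonoid.coe_mul, Submonoid.coe_mul, bHom_coe, gV_coe, gV_coe, mT_coe]
  ext (i | i) (j | j) <;> fin_cases i <;> fin_cases j <;>
    simp [bMat, vMat, Matrix.mul_apply, Fintype.sum_sum_type, Fin.sum_univ_two]

theorem i3 (s : F) : aHom mT * bHom (mU s) = gV 0 (-s) 0 * aHom mT := by
  apply Subtype.ext
  rw [Submonoid.coe_mul, Submonoid.coe_mul, aHom_coe, bHom_coe, gV_coe, mT_coe, mU_coe]
  ext (i | i) (j | j) <;> fin_cases i <;> fin_cases j <;>
    simp [aMat, bMat, vMat, Matrix.mul_apply, Fintype.sum_sum_type, Fin.sum_univ_two]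

theorem i4 (c : F) : aHom mT * gV 0 0 c = gV 0 0 c * aHom mT := by
  apply Subtype.ext
  rw [Submonoid.coe_mul, Submonoid.coe_mul, aHom_coe, gV_coe, mT_coe]
  ext (i | i) (j | j) <;> fin_cases i <;> fin_cases j <;>
    simp [aMat, vMat, Matrix.mul_apply, Fintype.sum_sum_type, Fin.sum_univ_two]

theorem i5 (s a b c : F) :
    bHom (mU s) * gV a b c = gV a (b + s * a) (c + 2 * s * b + s ^ 2 * a) * bHom (mU s) := by
  apply Subtype.ext
  rw [Submonoid.coe_mul, Submonoid.coe_mul, bHom_coe, gV_coe, gV_coe, mU_coe]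
  ext (i | i) (j | j) <;> fin_cases i <;> fin_cases j <;>
    simp [bMat, vMat, Matrix.mul_apply, Fintype.sum_sum_type, Fin.sum_univ_two] <;> ring

theorem i6 (z w : Fˣ) : aHom (mH z) * bHom (mH w) = bHom (mH w) * aHom (mH z) := by
  apply Subtype.ext
  rw [Submonoid.coe_mul, Submonoid.coe_mul, aHom_coe, bHom_coe, mH_coe, mH_coe]
  ext (i | i) (j | j) <;> fin_cases i <;> fin_cases j <;>
    simp [aMat, bMat, Matrix.mul_apply, Fintype.sum_sum_type, Fin.sum_univ_two, mul_comm]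

theorem i7 (z : Fˣ) (s : F) :
    aHom (mH z) * bHom (mU s) = bHom (mU (((z⁻¹ : Fˣ) : F) * s)) * aHom (mH z) := by
  apply Subtype.ext
  rw [Submonoid.coe_mul, Submonoid.coe_mul, aHom_coe, bHom_coe, bHom_coe, mH_coe, mU_coe, mU_coe]
  ext (i | i) (j | j) <;> fin_cases i <;> fin_cases j <;>
    simp [aMat, bMat, Matrix.mul_apply, Fintype.sum_sum_type, Fin.sum_univ_two, mul_comm]

theorem i8 (z : Fˣ) (a b c : F) :
    bHom (mH z) * gV a b c =
      gV (((z⁻¹ : Fˣ) : F) ^ 2 * a) b ((z : F) ^ 2 * c) * bHom (mH z) := by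
  apply Subtype.ext
  rw [Submonoid.coe_mul, Submonoid.coe_mul, bHom_coe, gV_coe, gV_coe, mH_coe]
  ext (i | i) (j | j) <;> fin_cases i <;> fin_cases j <;>
    simp [bMat, vMat, Matrix.mul_apply, Fintype.sum_sum_type, Fin.sum_univ_two] <;>
    field_simp

theorem i9 (z : Fˣ) : bHom mT * aHom (mH z) = aHom (mH z) * bHom (mH z) * bHom mT := by
  apply Subtype.ext
  rw [Submonoid.coe_mul, Submonoid.coe_mul, Submonoid.coe_mul, aHom_coe, bHom_coe, bHom_coe,
    mH_coe, mT_coe]
  ext (i | i) (j | j) <;> fin_cases i <;> fin_cases j <;>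
    simp [aMat, bMat, Matrix.mul_apply, Fintype.sum_sum_type, Fin.sum_univ_two]

theorem i10 (z : Fˣ) :
    aHom mT * bHom (mH z) = bHom (mH z) * (aHom (mH z) * aHom (mH z)) * aHom mT := by
  apply Subtype.ext
  rw [Submonoid.coe_mul, Submonoid.coe_mul, Submonoid.coe_mul, Submonoid.coe_mul, aHom_coe,
    aHom_coe, bHom_coe, mH_coe, mT_coe]
  ext (i | i) (j | j) <;> fin_cases i <;> fin_cases j <;>
    simp [aMat, bMat, Matrix.mul_apply, Fintype.sum_sum_type, Fin.sum_univ_two]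

theorem i11 : (aHom mT * bHom mT * aHom mT * bHom mT : symplecticGroup (Fin 2) F) =
    bHom mT * aHom mT * bHom mT * aHom mT := by
  apply Subtype.ext
  simp only [Submonoid.coe_mul, aHom_coe, bHom_coe, mT_coe]
  ext (i | i) (j | j) <;> fin_cases i <;> fin_cases j <;>
    simp [aMat, bMat, Matrix.mul_apply, Fintype.sum_sum_type, Fin.sum_univ_two]

end Cfsg.Agent.Lib.Helper9.SP4P
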