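import Mathlib
import Cfsg.Agent.Lib.Helper9.SP4P9

set_option autoImplicit false

/-!
# Presentations of `Sp₄(q)`: the cross relators and their validity in `Sp₄`
-/

namespace Cfsg.Agent.Lib.Helper9.SP4P

open Matrix Polynomial Cfsg.Agent.Lib.Helper9.SLP

/-- the relators linking the two `SL₂`'s -/
noncomputable def cross {G : Type*} [Group G] {p : ℕ} (gz : (ZMod p)[X])
    (u₁ t₁ h₁ u₂ t₂ h₂ : G) : List G :=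
  [h₁ * h₂ * h₁⁻¹ * h₂⁻¹,
    h₁ * u₂ * h₁⁻¹ * (PW u₂ h₂ gz)⁻¹,
    h₂ * u₁ * h₂⁻¹ * (h₁⁻¹ * u₁ * h₁)⁻¹,
    t₂ * h₁ * t₂⁻¹ * (h₁ * h₂)⁻¹,
    t₁ * h₂ * t₁⁻¹ * (h₂ * (h₁ * h₁))⁻¹,
    t₁ * (t₂ * u₁ * t₂⁻¹) * t₁⁻¹ * (t₂ * u₁ * t₂⁻¹)⁻¹,
    t₂ * (t₁ * u₂ * t₁⁻¹) * t₂⁻¹ * (t₁ * u₂⁻¹ * t₁⁻¹)⁻¹,
    u₂ * u₁ * u₂⁻¹ * ((t₂ * u₁ * t₂⁻¹) * (t₁ * u₂⁻¹ * t₁⁻¹) * u₁)⁻¹,
    u₁ * (t₂ * u₁ * t₂⁻¹) * u₁⁻¹ * (t₂ * u₁ * t₂⁻¹)⁻¹,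
    u₁ * (t₁ * u₂ * t₁⁻¹) * u₁⁻¹ * (t₁ * u₂ * t₁⁻¹)⁻¹,
    t₁ * t₂ * t₁ * t₂ * (t₂ * t₁ * t₂ * t₁)⁻¹]

theorem cross_length {G : Type*} [Group G] {p : ℕ} (gz : (ZMod p)[X])
    (u₁ t₁ h₁ u₂ t₂ h₂ : G) : (cross gz u₁ t₁ h₁ u₂ t₂ h₂).length = 11 := rfl

theorem map_cross {G H : Type*} [Group G] [Group H] (φ : G →* H) {p : ℕ} (gz : (ZMod p)[X])
    (u₁ t₁ h₁ u₂ t₂ h₂ : G) :
    (cross gz u₁ t₁ h₁ u₂ t₂ h₂).map φ =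
      cross gz (φ u₁) (φ t₁) (φ h₁) (φ u₂) (φ t₂) (φ h₂) := by
  simp [cross, map_PW]

theorem cross_iff {G : Type*} [Group G] {p : ℕ} (gz : (ZMod p)[X]) (u₁ t₁ h₁ u₂ t₂ h₂ : G) :
    (∀ r ∈ cross gz u₁ t₁ h₁ u₂ t₂ h₂, r = 1) ↔
      (h₁ * h₂ * h₁⁻¹ = h₂ ∧ h₁ * u₂ * h₁⁻¹ = PW u₂ h₂ gz ∧
        h₂ * u₁ * h₂⁻¹ = h₁⁻¹ * u₁ * h₁ ∧ t₂ * h₁ * t₂⁻¹ = h₁ * h₂ ∧
        t₁ * h₂ * t₁⁻¹ = h₂ * (h₁ * h₁) ∧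
        t₁ * (t₂ * u₁ * t₂⁻¹) * t₁⁻¹ = t₂ * u₁ * t₂⁻¹ ∧
        t₂ * (t₁ * u₂ * t₁⁻¹) * t₂⁻¹ = t₁ * u₂⁻¹ * t₁⁻¹ ∧
        u₂ * u₁ * u₂⁻¹ = (t₂ * u₁ * t₂⁻¹) * (t₁ * u₂⁻¹ * t₁⁻¹) * u₁ ∧
        u₁ * (t₂ * u₁ * t₂⁻¹) * u₁⁻¹ = t₂ * u₁ * t₂⁻¹ ∧
        u₁ * (t₁ * u₂ * t₁⁻¹) * u₁⁻¹ = t₁ * u₂ * t₁⁻¹ ∧
        t₁ * t₂ * t₁ * t₂ = t₂ * t₁ * t₂ * t₁) := by
  simp only [cross, List.mem_cons, List.not_mem_nil, or_false, forall_eq_or_imp, forall_eq,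
    mul_inv_eq_one]

variable {F : Type*} [Field F]

theorem gV_congr {a b c a' b' c' : F} (h1 : a = a') (h2 : b = b') (h3 : c = c') :
    gV a b c = gV a' b' c' := by
  subst h1 h2 h3; rfl

theorem cross_mat (p : ℕ) [Fact p.Prime] [CharP F p] (z : Fˣ) (gz : (ZMod p)[X])
    (hgz : evl p ((z : F) ^ 2) gz = ((z⁻¹ : Fˣ) : F)) :
    ∀ r ∈ cross gz (aHom (mU (1 : F))) (aHom mT) (aHom (mH z)) (bHom (mU (1 : F))) (bHom mT)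
      (bHom (mH z)), r = 1 := by
  rw [cross_iff]
  have ez : (bHom mT * aHom (mU (1 : F)) * (bHom mT)⁻¹ : symplecticGroup (Fin 2) F) =
      gV 0 0 1 := by
    rw [i1, i2, mul_inv_cancel_right, neg_zero]
  have ey : (aHom mT * bHom (mU (1 : F)) * (aHom mT)⁻¹ : symplecticGroup (Fin 2) F) =
      gV 0 (-1) 0 := by
    rw [i3, mul_inv_cancel_right]
  have ey' : (aHom mT * (bHom (mU (1 : F)))⁻¹ * (aHom mT)⁻¹ : symplecticGroup (Fin 2) F) =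
      gV 0 1 0 := by
    have : (aHom mT * (bHom (mU (1 : F)))⁻¹ * (aHom mT)⁻¹ : symplecticGroup (Fin 2) F) =
        (aHom mT * bHom (mU (1 : F)) * (aHom mT)⁻¹)⁻¹ := by group
    rw [this, ey, gV_inv, neg_zero, neg_neg]
  refine ⟨?_, ?_, ?_, ?_, ?_, ?_, ?_, ?_, ?_, ?_, ?_⟩
  · rw [i6, mul_inv_cancel_right]
  · rw [← map_PW, PW_mat p, hgz, i7, mul_one, mul_inv_cancel_right]
  · have e : ((aHom (mH z))⁻¹ * aHom (mU (1 : F)) * aHom (mH z) : symplecticGroup (Fin 2) F) =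
        aHom (mU (((z⁻¹ : Fˣ) : F) ^ 2 * 1)) := by
      rw [← map_inv, ← map_mul, ← map_mul, mH_inv]
      congr 1
      have := mH_conj_mU z⁻¹ (1 : F)
      rw [mH_inv, inv_inv] at this
      exact this
    rw [e, i1, i1, i8, mul_inv_cancel_right, mul_zero]
  · rw [i9, mul_inv_cancel_right]
  · rw [i10, mul_inv_cancel_right]
  · rw [ez, i4, mul_inv_cancel_right]
  · rw [ey, ey', i2, mul_inv_cancel_right, neg_neg]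
  · rw [ez, ey', i1, i5, mul_inv_cancel_right, gV_mul, gV_mul]
    exact gV_congr (by ring) (by ring) (by ring)
  · rw [ez, i1, (gV_comm _ _ _ _ _ _).eq, mul_inv_cancel_right]
  · rw [ey, i1, (gV_comm _ _ _ _ _ _).eq, mul_inv_cancel_right]
  · exact i11

end Cfsg.Agent.Lib.Helper9.SP4P
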