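import Mathlib
import Cfsg.Agent.Lib.Helper9.SP4P10
import Cfsg.Agent.Lib.Helper9.SpMax1

set_option autoImplicit false

/-!
# Presentations of `Sp₄(q)`: generation of `Sp₄` by the two `SL₂`'s
-/

namespace Cfsg.Agent.Lib.Helper9.SP4P

open Matrix Cfsg.Agent.Lib.Helper9.SLP Cfsg.Agent.Lib.Helper1.SpBasic Cfsg.Agent.H9SpMax

variable {F : Type*} [Field F]

/-- vectors in the coordinates `(e₁, e₂ | f₁, f₂)` -/
def vec (a c b d : F) : Fin 2 ⊕ Fin 2 → F := Sum.elim ![a, c] ![b, d]

theorem vec_congr {a c b d a' c' b' d' : F} (h1 : a = a') (h2 : c = c') (h3 : b = b')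
    (h4 : d = d') : vec a c b d = vec a' c' b' d' := by
  subst h1 h2 h3 h4; rfl

theorem vec_eta (v : Fin 2 ⊕ Fin 2 → F) :
    v = vec (v (Sum.inl 0)) (v (Sum.inl 1)) (v (Sum.inr 0)) (v (Sum.inr 1)) := by
  funext k
  rcases k with k | k <;> fin_cases k <;> simp [vec]

theorem vec_smul (s a c b d : F) : s • vec a c b d = vec (s * a) (s * c) (s * b) (s * d) := by
  funext k
  rcases k with k | k <;> fin_cases k <;> simp [vec]

theorem vec_add (a c b d a' c' b' d' : F) :
    vec a c b d + vec a' c' b' d' = vec (a + a') (c + c') (b + b') (d + d') := by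
  funext k
  rcases k with k | k <;> fin_cases k <;> simp [vec]

theorem form_vec (a c b d a' c' b' d' : F) :
    Cfsg.sympForm 2 F (vec a c b d) (vec a' c' b' d') = b * a' + d * c' - a * b' - c * d' := by
  simp [Cfsg.sympForm, vec, Matrix.J, dotProduct, Matrix.mulVec, Fintype.sum_sum_type,
    Fin.sum_univ_two, Matrix.one_apply]
  ring

theorem bU_mulVec (s a c b d : F) :
    ((bHom (mU s) : symplecticGroup (Fin 2) F) : Matrix (Fin 2 ⊕ Fin 2) (Fin 2 ⊕ Fin 2) F) *ᵥ
      vec a c b d = vec (a + s * c) c b (d - s * b) := by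
  rw [bHom_coe, mU_coe]
  funext k
  rcases k with k | k <;> fin_cases k <;>
    simp [bMat, vec, Matrix.mulVec, dotProduct, Fintype.sum_sum_type, Fin.sum_univ_two] <;> ring

theorem bT_mulVec (a c b d : F) :
    ((bHom mT : symplecticGroup (Fin 2) F) : Matrix (Fin 2 ⊕ Fin 2) (Fin 2 ⊕ Fin 2) F) *ᵥ
      vec a c b d = vec c (-a) d (-b) := by
  rw [bHom_coe, mT_coe]
  funext k
  rcases k with k | k <;> fin_cases k <;>
    simp [bMat, vec, Matrix.mulVec, dotProduct, Fintype.sum_sum_type, Fin.sum_univ_two]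

theorem aT_mulVec (a c b d : F) :
    ((aHom mT : symplecticGroup (Fin 2) F) : Matrix (Fin 2 ⊕ Fin 2) (Fin 2 ⊕ Fin 2) F) *ᵥ
      vec a c b d = vec a d b (-c) := by
  rw [aHom_coe, mT_coe]
  funext k
  rcases k with k | k <;> fin_cases k <;>
    simp [aMat, vec, Matrix.mulVec, dotProduct, Fintype.sum_sum_type, Fin.sum_univ_two]

theorem gV_eq_T (c : F) : gV c 0 0 = T (vec 0 1 0 0) c := by
  apply Subtype.ext
  rw [gV_coe, T_coe]
  ext (i | i) (j | j) <;> fin_cases i <;> fin_cases j <;>
    simp [Cfsg.sympTransvection, vMat, vec, Matrix.vecMulVec, Matrix.J, Matrix.mulVec,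
      dotProduct, Fintype.sum_sum_type, Fin.sum_univ_two, Matrix.one_apply]

theorem eq_top_of_homs (K : Subgroup (symplecticGroup (Fin 2) F))
    (hA : ∀ g, aHom g ∈ K) (hB : ∀ g, bHom g ∈ K) : K = ⊤ := by
  apply eq_top_of_dirSet
  have d0 : vec (0 : F) 1 0 0 ∈ dirSet K := by
    intro c
    rw [← gV_eq_T, ← i1]; exact hA _
  have E : ∀ a c : F, vec a c 0 0 ∈ dirSet K := by
    intro a c
    by_cases hc : c = 0
    · subst hc
      have h1 := dirSet_mulVec K (hB mT) d0
      rw [bT_mulVec] at h1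
      have h2 := dirSet_smul K a h1
      rw [vec_smul] at h2
      have e : vec (a * 1) (a * -0) (a * 0) (a * -0) = vec a 0 0 0 :=
        vec_congr (by ring) (by ring) (by ring) (by ring)
      rwa [e] at h2
    · have h1 := dirSet_mulVec K (hB (mU (a / c))) d0
      rw [bU_mulVec] at h1
      have h2 := dirSet_smul K c h1
      rw [vec_smul] at h2
      have e : vec (c * (0 + a / c * 1)) (c * 1) (c * 0) (c * (0 - a / c * 0)) = vec a c 0 0 :=
        vec_congr (by field_simp; ring) (by ring) (by ring) (by ring)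
      rwa [e] at h2
  have d4 : vec (0 : F) 0 0 (-1) ∈ dirSet K := by
    have h1 := dirSet_mulVec K (hA mT) d0
    rw [aT_mulVec] at h1
    exact h1
  have d5 : vec (0 : F) 0 (-1) 0 ∈ dirSet K := by
    have h1 := dirSet_mulVec K (hB mT) d4
    rw [bT_mulVec] at h1
    have e' : vec (0 : F) (-0) (-1) (-0) = vec 0 0 (-1) 0 :=
      vec_congr rfl (by ring) rfl (by ring)
    rwa [e'] at h1
  have E' : ∀ b d : F, vec 0 0 b d ∈ dirSet K := by
    intro b d
    by_cases hb : b = 0
    · subst hb
      have h2 := dirSet_smul K (-d) d4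
      rw [vec_smul] at h2
      have e : vec (-d * 0) (-d * 0) (-d * 0) (-d * -1) = vec 0 0 0 d :=
        vec_congr (by ring) (by ring) (by ring) (by ring)
      rwa [e] at h2
    · have h1 := dirSet_mulVec K (hB (mU (-(d / b)))) d5
      rw [bU_mulVec] at h1
      have h2 := dirSet_smul K (-b) h1
      rw [vec_smul] at h2
      have e : vec (-b * (0 + -(d / b) * 0)) (-b * 0) (-b * -1) (-b * (0 - -(d / b) * -1)) =
          vec 0 0 b d :=
        vec_congr (by ring) (by ring) (by ring) (by field_simp; ring)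
      rwa [e] at h2
  intro v
  rw [vec_eta v]
  obtain ⟨a, ha⟩ : ∃ a, a = v (Sum.inl 0) := ⟨_, rfl⟩
  obtain ⟨c, hc⟩ : ∃ c, c = v (Sum.inl 1) := ⟨_, rfl⟩
  obtain ⟨b, hb⟩ : ∃ b, b = v (Sum.inr 0) := ⟨_, rfl⟩
  obtain ⟨d, hd⟩ : ∃ d, d = v (Sum.inr 1) := ⟨_, rfl⟩
  rw [← ha, ← hc, ← hb, ← hd]
  by_cases h0 : a * b + c * d = 0
  · by_cases hbd : b = 0 ∧ d = 0
    · obtain ⟨rfl, rfl⟩ := hbd
      exact E a c
    · obtain ⟨a', c', hne⟩ : ∃ a' c' : F, a' * b + c' * d ≠ 0 := by
        by_cases hb0 : b = 0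
        · refine ⟨0, 1, ?_⟩
          have : d ≠ 0 := fun hd0 => hbd ⟨hb0, hd0⟩
          simpa using this
        · exact ⟨1, 0, by simpa using hb0⟩
      have h1 : vec (a - a') (c - c') 0 0 + vec 0 0 b d ∈ dirSet K := by
        apply dirSet_add_of_ne K (E _ _) (E' _ _)
        rw [form_vec]
        intro h; apply hne; linear_combination h + h0
      have h2 : (vec (a - a') (c - c') 0 0 + vec 0 0 b d) + vec a' c' 0 0 ∈ dirSet K := by
        apply dirSet_add_of_ne K h1 (E _ _)
        rw [vec_add, form_vec]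
        intro h; apply hne; linear_combination h
      have e : vec a c b d = (vec (a - a') (c - c') 0 0 + vec 0 0 b d) + vec a' c' 0 0 := by
        rw [vec_add, vec_add]
        exact vec_congr (by ring) (by ring) (by ring) (by ring)
      rw [e]; exact h2
  · have h1 : vec a c 0 0 + vec 0 0 b d ∈ dirSet K := by
      apply dirSet_add_of_ne K (E _ _) (E' _ _)
      rw [form_vec]
      intro h; apply h0; linear_combination -h
    have e : vec a c b d = vec a c 0 0 + vec 0 0 b d := by
      rw [vec_add]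
      exact vec_congr (by ring) (by ring) (by ring) (by ring)
    rw [e]; exact h1

theorem closure_gens6 (p : ℕ) [Fact p.Prime] [CharP F p] (z : Fˣ)
    (hsurj : Function.Surjective (evl p ((z : F) ^ 2))) :
    Subgroup.closure (Set.range (![aHom (mU (1 : F)), aHom mT, aHom (mH z), bHom (mU (1 : F)),
      bHom mT, bHom (mH z)] : Fin 6 → symplecticGroup (Fin 2) F)) = ⊤ := by
  have hSL := closure_gens p z hsurj
  apply eq_top_of_homs
  · intro g
    have hg : g ∈ Subgroup.closure
        ({mU (1 : F), mT, mH z} : Set (SpecialLinearGroup (Fin 2) F)) := by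
      rw [hSL]; trivial
    have hle : Subgroup.closure ({mU (1 : F), mT, mH z} : Set (SpecialLinearGroup (Fin 2) F)) ≤
        (Subgroup.closure (Set.range (![aHom (mU (1 : F)), aHom mT, aHom (mH z),
          bHom (mU (1 : F)), bHom mT, bHom (mH z)] :
            Fin 6 → symplecticGroup (Fin 2) F))).comap aHom := by
      rw [Subgroup.closure_le]
      rintro x (rfl | rfl | rfl)
      · exact Subgroup.subset_closure ⟨0, rfl⟩
      · exact Subgroup.subset_closure ⟨1, rfl⟩
      · exact Subgroup.subset_closure ⟨2, rfl⟩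
    exact hle hg
  · intro g
    have hg : g ∈ Subgroup.closure
        ({mU (1 : F), mT, mH z} : Set (SpecialLinearGroup (Fin 2) F)) := by
      rw [hSL]; trivial
    have hle : Subgroup.closure ({mU (1 : F), mT, mH z} : Set (SpecialLinearGroup (Fin 2) F)) ≤
        (Subgroup.closure (Set.range (![aHom (mU (1 : F)), aHom mT, aHom (mH z),
          bHom (mU (1 : F)), bHom mT, bHom (mH z)] :
            Fin 6 → symplecticGroup (Fin 2) F))).comap bHom := by
      rw [Subgroup.closure_le]
      rintro x (rfl | rfl | rfl)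
      · exact Subgroup.subset_closure ⟨3, rfl⟩
      · exact Subgroup.subset_closure ⟨4, rfl⟩
      · exact Subgroup.subset_closure ⟨5, rfl⟩
    exact hle hg

end Cfsg.Agent.Lib.Helper9.SP4P
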