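import Mathlib

set_option autoImplicit false

/-!
# The Steinberg group of type `B₂` and `Sp₄`: explicit `4 × 4` matrices
-/

namespace Cfsg.Agent.Lib.Helper9.SpSt

open Matrix

variable {K : Type*} [CommRing K]

/-- a matrix with the given sixteen entries, indexed by `Fin 2 ⊕ Fin 2` -/
def M4 (a00 a01 a02 a03 a10 a11 a12 a13 a20 a21 a22 a23 a30 a31 a32 a33 : K) :
    Matrix (Fin 2 ⊕ Fin 2) (Fin 2 ⊕ Fin 2) K :=
  fromBlocks !![a00, a01; a10, a11] !![a02, a03; a12, a13] !![a20, a21; a30, a31]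
    !![a22, a23; a32, a33]

theorem M4_mul (a00 a01 a02 a03 a10 a11 a12 a13 a20 a21 a22 a23 a30 a31 a32 a33
    b00 b01 b02 b03 b10 b11 b12 b13 b20 b21 b22 b23 b30 b31 b32 b33 : K) :
    M4 a00 a01 a02 a03 a10 a11 a12 a13 a20 a21 a22 a23 a30 a31 a32 a33 *
      M4 b00 b01 b02 b03 b10 b11 b12 b13 b20 b21 b22 b23 b30 b31 b32 b33 =
    M4 (a00 * b00 + a01 * b10 + a02 * b20 + a03 * b30)
       (a00 * b01 + a01 * b11 + a02 * b21 + a03 * b31)
       (a00 * b02 + a01 * b12 + a02 * b22 + a03 * b32)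
       (a00 * b03 + a01 * b13 + a02 * b23 + a03 * b33)
       (a10 * b00 + a11 * b10 + a12 * b20 + a13 * b30)
       (a10 * b01 + a11 * b11 + a12 * b21 + a13 * b31)
       (a10 * b02 + a11 * b12 + a12 * b22 + a13 * b32)
       (a10 * b03 + a11 * b13 + a12 * b23 + a13 * b33)
       (a20 * b00 + a21 * b10 + a22 * b20 + a23 * b30)
       (a20 * b01 + a21 * b11 + a22 * b21 + a23 * b31)
       (a20 * b02 + a21 * b12 + a22 * b22 + a23 * b32)
       (a20 * b03 + a21 * b13 + a22 * b23 + a23 * b33)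
       (a30 * b00 + a31 * b10 + a32 * b20 + a33 * b30)
       (a30 * b01 + a31 * b11 + a32 * b21 + a33 * b31)
       (a30 * b02 + a31 * b12 + a32 * b22 + a33 * b32)
       (a30 * b03 + a31 * b13 + a32 * b23 + a33 * b33) := by
  ext (i | i) (j | j) <;> fin_cases i <;> fin_cases j <;>
    simp [M4, Matrix.mul_apply, Fintype.sum_sum_type, Fin.sum_univ_two] <;> ring

theorem M4_one : (1 : Matrix (Fin 2 ⊕ Fin 2) (Fin 2 ⊕ Fin 2) K) =
    M4 1 0 0 0 0 1 0 0 0 0 1 0 0 0 0 1 := by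
  ext (i | i) (j | j) <;> fin_cases i <;> fin_cases j <;> simp [M4, Matrix.one_apply]

theorem M4_transpose (a00 a01 a02 a03 a10 a11 a12 a13 a20 a21 a22 a23 a30 a31 a32 a33 : K) :
    (M4 a00 a01 a02 a03 a10 a11 a12 a13 a20 a21 a22 a23 a30 a31 a32 a33)ᵀ =
      M4 a00 a10 a20 a30 a01 a11 a21 a31 a02 a12 a22 a32 a03 a13 a23 a33 := by
  ext (i | i) (j | j) <;> fin_cases i <;> fin_cases j <;> simp [M4, Matrix.transpose_apply]

theorem M4_J : (Matrix.J (Fin 2) K) = M4 0 0 (-1) 0 0 0 0 (-1) 1 0 0 0 0 1 0 0 := by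
  ext (i | i) (j | j) <;> fin_cases i <;> fin_cases j <;>
    simp [M4, Matrix.J, Matrix.one_apply]

theorem M4_congr {a00 a01 a02 a03 a10 a11 a12 a13 a20 a21 a22 a23 a30 a31 a32 a33
    b00 b01 b02 b03 b10 b11 b12 b13 b20 b21 b22 b23 b30 b31 b32 b33 : K}
    (h00 : a00 = b00) (h01 : a01 = b01) (h02 : a02 = b02) (h03 : a03 = b03)
    (h10 : a10 = b10) (h11 : a11 = b11) (h12 : a12 = b12) (h13 : a13 = b13)
    (h20 : a20 = b20) (h21 : a21 = b21) (h22 : a22 = b22) (h23 : a23 = b23)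
    (h30 : a30 = b30) (h31 : a31 = b31) (h32 : a32 = b32) (h33 : a33 = b33) :
    M4 a00 a01 a02 a03 a10 a11 a12 a13 a20 a21 a22 a23 a30 a31 a32 a33 =
      M4 b00 b01 b02 b03 b10 b11 b12 b13 b20 b21 b22 b23 b30 b31 b32 b33 := by
  subst h00 h01 h02 h03 h10 h11 h12 h13 h20 h21 h22 h23 h30 h31 h32 h33
  rfl

theorem M4_inj {a00 a01 a02 a03 a10 a11 a12 a13 a20 a21 a22 a23 a30 a31 a32 a33
    b00 b01 b02 b03 b10 b11 b12 b13 b20 b21 b22 b23 b30 b31 b32 b33 : K}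
    (h : M4 a00 a01 a02 a03 a10 a11 a12 a13 a20 a21 a22 a23 a30 a31 a32 a33 =
      M4 b00 b01 b02 b03 b10 b11 b12 b13 b20 b21 b22 b23 b30 b31 b32 b33) :
    a00 = b00 ∧ a01 = b01 ∧ a11 = b11 ∧ a22 = b22 ∧ a33 = b33 := by
  have h1 := congrFun (congrFun h (Sum.inl 0)) (Sum.inl 0)
  have h2 := congrFun (congrFun h (Sum.inl 0)) (Sum.inl 1)
  have h3 := congrFun (congrFun h (Sum.inl 1)) (Sum.inl 1)
  have h4 := congrFun (congrFun h (Sum.inr 0)) (Sum.inr 0)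
  have h5 := congrFun (congrFun h (Sum.inr 1)) (Sum.inr 1)
  simp [M4] at h1 h2 h3 h4 h5
  exact ⟨h1, h2, h3, h4, h5⟩

end Cfsg.Agent.Lib.Helper9.SpSt
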