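import Mathlib
import Cfsg.Agent.Lib.Helper9.SpStA

set_option autoImplicit false

/-!
# The Steinberg group of type `B₂` and `Sp₄`: the root elements of `Sp₄`
-/

namespace Cfsg.Agent.Lib.Helper9.SpSt

open Matrix

variable {K : Type*} [Field K]

/-- the root elements of `Sp₄`, indexed as the roots of the datum of type `B₂` -/
def xM (r : ℕ) (t : K) : Matrix (Fin 2 ⊕ Fin 2) (Fin 2 ⊕ Fin 2) K :=
  match r with
  | 0 => M4 1 0 0 0  0 1 0 0  t 0 1 0  0 0 0 1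
  | 1 => M4 1 0 0 0  0 1 0 0  0 t 1 0  t 0 0 1
  | 2 => M4 1 0 0 0  t 1 0 0  0 0 1 (-t)  0 0 0 1
  | 3 => M4 1 0 0 0  0 1 0 0  0 0 1 0  0 (-t) 0 1
  | 4 => M4 1 0 0 0  0 1 0 (-t)  0 0 1 0  0 0 0 1
  | 5 => M4 1 t 0 0  0 1 0 0  0 0 1 0  0 0 (-t) 1
  | 6 => M4 1 0 0 t  0 1 t 0  0 0 1 0  0 0 0 1
  | 7 => M4 1 0 t 0  0 1 0 0  0 0 1 0  0 0 0 1
  | _ => 1

theorem xM_0 (t : K) : xM 0 t = M4 1 0 0 0  0 1 0 0  t 0 1 0  0 0 0 1 := rfl

theorem xM_1 (t : K) : xM 1 t = M4 1 0 0 0  0 1 0 0  0 t 1 0  t 0 0 1 := rfl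

theorem xM_2 (t : K) : xM 2 t = M4 1 0 0 0  t 1 0 0  0 0 1 (-t)  0 0 0 1 := rfl

theorem xM_3 (t : K) : xM 3 t = M4 1 0 0 0  0 1 0 0  0 0 1 0  0 (-t) 0 1 := rfl

theorem xM_4 (t : K) : xM 4 t = M4 1 0 0 0  0 1 0 (-t)  0 0 1 0  0 0 0 1 := rfl

theorem xM_5 (t : K) : xM 5 t = M4 1 t 0 0  0 1 0 0  0 0 1 0  0 0 (-t) 1 := rfl

theorem xM_6 (t : K) : xM 6 t = M4 1 0 0 t  0 1 t 0  0 0 1 0  0 0 0 1 := rfl

theorem xM_7 (t : K) : xM 7 t = M4 1 0 t 0  0 1 0 0  0 0 1 0  0 0 0 1 := rfl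

theorem xM_of_le (r : ℕ) (hr : 8 ≤ r) (t : K) : xM r t = 1 := by
  unfold xM
  split <;> first | omega | rfl

theorem xM_mem (r : ℕ) (t : K) : xM r t ∈ symplecticGroup (Fin 2) K := by
  rw [SymplecticGroup.mem_iff]
  by_cases hr : 8 ≤ r
  · rw [xM_of_le r hr]; simp
  · have hr' : r < 8 := by omega
    interval_cases r <;>
      simp only [xM, M4_J, M4_transpose, M4_mul] <;> apply M4_congr <;> ring

/-- the root elements as elements of the symplectic group -/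
def xS (r : ℕ) (t : K) : symplecticGroup (Fin 2) K := ⟨xM r t, xM_mem r t⟩

theorem xS_coe (r : ℕ) (t : K) :
    ((xS r t : symplecticGroup (Fin 2) K) : Matrix (Fin 2 ⊕ Fin 2) (Fin 2 ⊕ Fin 2) K) = xM r t := rfl

theorem xS_of_le (r : ℕ) (hr : 8 ≤ r) (t : K) : xS r t = 1 :=
  Subtype.ext (xM_of_le r hr t)

theorem xM_add (r : ℕ) (a b : K) : xM r (a + b) = xM r a * xM r b := by
  by_cases hr : 8 ≤ r
  · rw [xM_of_le r hr, xM_of_le r hr, xM_of_le r hr, one_mul]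
  · have hr' : r < 8 := by omega
    interval_cases r <;>
      simp only [xM, M4_mul] <;> apply M4_congr <;> ring

theorem xS_add (r : ℕ) (a b : K) : xS r (a + b) = xS r a * xS r b :=
  Subtype.ext (xM_add r a b)

theorem xM_zero (r : ℕ) : xM r (0 : K) = 1 := by
  by_cases hr : 8 ≤ r
  · exact xM_of_le r hr 0
  · have hr' : r < 8 := by omega
    interval_cases r <;>
      simp only [xM, M4_one] <;> apply M4_congr <;> ring

theorem xS_zero (r : ℕ) : xS r (0 : K) = 1 := Subtype.ext (xM_zero r)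

theorem xS_neg (r : ℕ) (a : K) : xS r (-a) = (xS r a)⁻¹ := by
  rw [eq_inv_iff_mul_eq_one, ← xS_add, neg_add_cancel, xS_zero]

end Cfsg.Agent.Lib.Helper9.SpSt
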