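import Mathlib
import Cfsg.Prelude.Def_Steinberg
import Cfsg.Prelude.Def_ChevB2
import Cfsg.Agent.Lib.Helper9.SpStB

set_option autoImplicit false
set_option linter.unusedSimpArgs false
set_option linter.unusedTactic false

/-!
# The Steinberg group of type `B₂` and `Sp₄`: the commutator relations, first half
-/

namespace Cfsg.Agent.Lib.Helper9.SpSt

open Cfsg Cfsg.Lie Matrix

variable {K : Type*} [Field K]

/-- the product of the root elements of a word -/
def wordS (w : List (ℕ × K)) : symplecticGroup (Fin 2) K := (w.map fun p => xS p.1 p.2).prod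

theorem comm_0_1 (t u : K) :
    xS 1 u * xS 0 t = xS 0 t * xS 1 u * wordS (chevB2.commWord K 0 1 t u) := by
  have e : chevB2.commWord K 0 1 t u = [] := rfl
  rw [e]
  apply Subtype.ext
  simp only [wordS, List.map_cons, List.map_nil, List.prod_cons, List.prod_nil, Submonoid.coe_mul,
    xS_coe, OneMemClass.coe_one, xM, M4_mul, M4_one]
  apply M4_congr <;> (push_cast; ring)

theorem comm_0_2 (t u : K) :
    xS 2 u * xS 0 t = xS 0 t * xS 2 u * wordS (chevB2.commWord K 0 2 t u) := by
  have e : chevB2.commWord K 0 2 t u = [] := rfl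
  rw [e]
  apply Subtype.ext
  simp only [wordS, List.map_cons, List.map_nil, List.prod_cons, List.prod_nil, Submonoid.coe_mul,
    xS_coe, OneMemClass.coe_one, xM, M4_mul, M4_one]
  apply M4_congr <;> (push_cast; ring)

theorem comm_0_3 (t u : K) :
    xS 3 u * xS 0 t = xS 0 t * xS 3 u * wordS (chevB2.commWord K 0 3 t u) := by
  have e : chevB2.commWord K 0 3 t u = [] := rfl
  rw [e]
  apply Subtype.ext
  simp only [wordS, List.map_cons, List.map_nil, List.prod_cons, List.prod_nil, Submonoid.coe_mul,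
    xS_coe, OneMemClass.coe_one, xM, M4_mul, M4_one]
  apply M4_congr <;> (push_cast; ring)

theorem comm_0_4 (t u : K) :
    xS 4 u * xS 0 t = xS 0 t * xS 4 u * wordS (chevB2.commWord K 0 4 t u) := by
  have e : chevB2.commWord K 0 4 t u = [] := rfl
  rw [e]
  apply Subtype.ext
  simp only [wordS, List.map_cons, List.map_nil, List.prod_cons, List.prod_nil, Submonoid.coe_mul,
    xS_coe, OneMemClass.coe_one, xM, M4_mul, M4_one]
  apply M4_congr <;> (push_cast; ring)

theorem comm_0_5 (t u : K) :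
    xS 5 u * xS 0 t = xS 0 t * xS 5 u * wordS (chevB2.commWord K 0 5 t u) := by
  have e : chevB2.commWord K 0 5 t u = [(1, ((1:ℤ):K) * (-t)^1 * u^1), (3, ((-1:ℤ):K) * (-t)^1 * u^2)] := rfl
  rw [e]
  apply Subtype.ext
  simp only [wordS, List.map_cons, List.map_nil, List.prod_cons, List.prod_nil, Submonoid.coe_mul,
    xS_coe, OneMemClass.coe_one, xM, M4_mul, M4_one]
  apply M4_congr <;> (push_cast; ring)

theorem comm_0_6 (t u : K) :
    xS 6 u * xS 0 t = xS 0 t * xS 6 u * wordS (chevB2.commWord K 0 6 t u) := by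
  have e : chevB2.commWord K 0 6 t u = [(2, ((-1:ℤ):K) * (-t)^1 * u^1), (4, ((1:ℤ):K) * (-t)^1 * u^2)] := rfl
  rw [e]
  apply Subtype.ext
  simp only [wordS, List.map_cons, List.map_nil, List.prod_cons, List.prod_nil, Submonoid.coe_mul,
    xS_coe, OneMemClass.coe_one, xM, M4_mul, M4_one]
  apply M4_congr <;> (push_cast; ring)

theorem comm_1_0 (t u : K) :
    xS 0 u * xS 1 t = xS 1 t * xS 0 u * wordS (chevB2.commWord K 1 0 t u) := by
  have e : chevB2.commWord K 1 0 t u = [] := rfl
  rw [e]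
  apply Subtype.ext
  simp only [wordS, List.map_cons, List.map_nil, List.prod_cons, List.prod_nil, Submonoid.coe_mul,
    xS_coe, OneMemClass.coe_one, xM, M4_mul, M4_one]
  apply M4_congr <;> (push_cast; ring)

theorem comm_1_2 (t u : K) :
    xS 2 u * xS 1 t = xS 1 t * xS 2 u * wordS (chevB2.commWord K 1 2 t u) := by
  have e : chevB2.commWord K 1 2 t u = [(0, ((2:ℤ):K) * (-t)^1 * u^1)] := rfl
  rw [e]
  apply Subtype.ext
  simp only [wordS, List.map_cons, List.map_nil, List.prod_cons, List.prod_nil, Submonoid.coe_mul,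
    xS_coe, OneMemClass.coe_one, xM, M4_mul, M4_one]
  apply M4_congr <;> (push_cast; ring)

theorem comm_1_3 (t u : K) :
    xS 3 u * xS 1 t = xS 1 t * xS 3 u * wordS (chevB2.commWord K 1 3 t u) := by
  have e : chevB2.commWord K 1 3 t u = [] := rfl
  rw [e]
  apply Subtype.ext
  simp only [wordS, List.map_cons, List.map_nil, List.prod_cons, List.prod_nil, Submonoid.coe_mul,
    xS_coe, OneMemClass.coe_one, xM, M4_mul, M4_one]
  apply M4_congr <;> (push_cast; ring)

theorem comm_1_4 (t u : K) :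
    xS 4 u * xS 1 t = xS 1 t * xS 4 u * wordS (chevB2.commWord K 1 4 t u) := by
  have e : chevB2.commWord K 1 4 t u = [(2, ((1:ℤ):K) * (-t)^1 * u^1), (0, ((1:ℤ):K) * (-t)^2 * u^1)] := rfl
  rw [e]
  apply Subtype.ext
  simp only [wordS, List.map_cons, List.map_nil, List.prod_cons, List.prod_nil, Submonoid.coe_mul,
    xS_coe, OneMemClass.coe_one, xM, M4_mul, M4_one]
  apply M4_congr <;> (push_cast; ring)

theorem comm_1_5 (t u : K) :
    xS 5 u * xS 1 t = xS 1 t * xS 5 u * wordS (chevB2.commWord K 1 5 t u) := by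
  have e : chevB2.commWord K 1 5 t u = [(3, ((-2:ℤ):K) * (-t)^1 * u^1)] := rfl
  rw [e]
  apply Subtype.ext
  simp only [wordS, List.map_cons, List.map_nil, List.prod_cons, List.prod_nil, Submonoid.coe_mul,
    xS_coe, OneMemClass.coe_one, xM, M4_mul, M4_one]
  apply M4_congr <;> (push_cast; ring)

theorem comm_1_7 (t u : K) :
    xS 7 u * xS 1 t = xS 1 t * xS 7 u * wordS (chevB2.commWord K 1 7 t u) := by
  have e : chevB2.commWord K 1 7 t u = [(5, ((-1:ℤ):K) * (-t)^1 * u^1), (3, ((1:ℤ):K) * (-t)^2 * u^1)] := rfl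
  rw [e]
  apply Subtype.ext
  simp only [wordS, List.map_cons, List.map_nil, List.prod_cons, List.prod_nil, Submonoid.coe_mul,
    xS_coe, OneMemClass.coe_one, xM, M4_mul, M4_one]
  apply M4_congr <;> (push_cast; ring)

theorem comm_2_0 (t u : K) :
    xS 0 u * xS 2 t = xS 2 t * xS 0 u * wordS (chevB2.commWord K 2 0 t u) := by
  have e : chevB2.commWord K 2 0 t u = [] := rfl
  rw [e]
  apply Subtype.ext
  simp only [wordS, List.map_cons, List.map_nil, List.prod_cons, List.prod_nil, Submonoid.coe_mul,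
    xS_coe, OneMemClass.coe_one, xM, M4_mul, M4_one]
  apply M4_congr <;> (push_cast; ring)

theorem comm_2_1 (t u : K) :
    xS 1 u * xS 2 t = xS 2 t * xS 1 u * wordS (chevB2.commWord K 2 1 t u) := by
  have e : chevB2.commWord K 2 1 t u = [(0, ((-2:ℤ):K) * (-t)^1 * u^1)] := rfl
  rw [e]
  apply Subtype.ext
  simp only [wordS, List.map_cons, List.map_nil, List.prod_cons, List.prod_nil, Submonoid.coe_mul,
    xS_coe, OneMemClass.coe_one, xM, M4_mul, M4_one]
  apply M4_congr <;> (push_cast; ring)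

theorem comm_2_3 (t u : K) :
    xS 3 u * xS 2 t = xS 2 t * xS 3 u * wordS (chevB2.commWord K 2 3 t u) := by
  have e : chevB2.commWord K 2 3 t u = [(1, ((1:ℤ):K) * (-t)^1 * u^1), (0, ((-1:ℤ):K) * (-t)^2 * u^1)] := rfl
  rw [e]
  apply Subtype.ext
  simp only [wordS, List.map_cons, List.map_nil, List.prod_cons, List.prod_nil, Submonoid.coe_mul,
    xS_coe, OneMemClass.coe_one, xM, M4_mul, M4_one]
  apply M4_congr <;> (push_cast; ring)

theorem comm_2_4 (t u : K) :
    xS 4 u * xS 2 t = xS 2 t * xS 4 u * wordS (chevB2.commWord K 2 4 t u) := by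
  have e : chevB2.commWord K 2 4 t u = [] := rfl
  rw [e]
  apply Subtype.ext
  simp only [wordS, List.map_cons, List.map_nil, List.prod_cons, List.prod_nil, Submonoid.coe_mul,
    xS_coe, OneMemClass.coe_one, xM, M4_mul, M4_one]
  apply M4_congr <;> (push_cast; ring)

theorem comm_2_6 (t u : K) :
    xS 6 u * xS 2 t = xS 2 t * xS 6 u * wordS (chevB2.commWord K 2 6 t u) := by
  have e : chevB2.commWord K 2 6 t u = [(4, ((-2:ℤ):K) * (-t)^1 * u^1)] := rfl
  rw [e]
  apply Subtype.ext
  simp only [wordS, List.map_cons, List.map_nil, List.prod_cons, List.prod_nil, Submonoid.coe_mul,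
    xS_coe, OneMemClass.coe_one, xM, M4_mul, M4_one]
  apply M4_congr <;> (push_cast; ring)

theorem comm_2_7 (t u : K) :
    xS 7 u * xS 2 t = xS 2 t * xS 7 u * wordS (chevB2.commWord K 2 7 t u) := by
  have e : chevB2.commWord K 2 7 t u = [(6, ((1:ℤ):K) * (-t)^1 * u^1), (4, ((-1:ℤ):K) * (-t)^2 * u^1)] := rfl
  rw [e]
  apply Subtype.ext
  simp only [wordS, List.map_cons, List.map_nil, List.prod_cons, List.prod_nil, Submonoid.coe_mul,
    xS_coe, OneMemClass.coe_one, xM, M4_mul, M4_one]
  apply M4_congr <;> (push_cast; ring)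

theorem comm_3_0 (t u : K) :
    xS 0 u * xS 3 t = xS 3 t * xS 0 u * wordS (chevB2.commWord K 3 0 t u) := by
  have e : chevB2.commWord K 3 0 t u = [] := rfl
  rw [e]
  apply Subtype.ext
  simp only [wordS, List.map_cons, List.map_nil, List.prod_cons, List.prod_nil, Submonoid.coe_mul,
    xS_coe, OneMemClass.coe_one, xM, M4_mul, M4_one]
  apply M4_congr <;> (push_cast; ring)

theorem comm_3_1 (t u : K) :
    xS 1 u * xS 3 t = xS 3 t * xS 1 u * wordS (chevB2.commWord K 3 1 t u) := by
  have e : chevB2.commWord K 3 1 t u = [] := rfl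
  rw [e]
  apply Subtype.ext
  simp only [wordS, List.map_cons, List.map_nil, List.prod_cons, List.prod_nil, Submonoid.coe_mul,
    xS_coe, OneMemClass.coe_one, xM, M4_mul, M4_one]
  apply M4_congr <;> (push_cast; ring)

theorem comm_3_2 (t u : K) :
    xS 2 u * xS 3 t = xS 3 t * xS 2 u * wordS (chevB2.commWord K 3 2 t u) := by
  have e : chevB2.commWord K 3 2 t u = [(1, ((-1:ℤ):K) * (-t)^1 * u^1), (0, ((-1:ℤ):K) * (-t)^1 * u^2)] := rfl
  rw [e]
  apply Subtype.ext
  simp only [wordS, List.map_cons, List.map_nil, List.prod_cons, List.prod_nil, Submonoid.coe_mul,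
    xS_coe, OneMemClass.coe_one, xM, M4_mul, M4_one]
  apply M4_congr <;> (push_cast; ring)

theorem comm_3_5 (t u : K) :
    xS 5 u * xS 3 t = xS 3 t * xS 5 u * wordS (chevB2.commWord K 3 5 t u) := by
  have e : chevB2.commWord K 3 5 t u = [] := rfl
  rw [e]
  apply Subtype.ext
  simp only [wordS, List.map_cons, List.map_nil, List.prod_cons, List.prod_nil, Submonoid.coe_mul,
    xS_coe, OneMemClass.coe_one, xM, M4_mul, M4_one]
  apply M4_congr <;> (push_cast; ring)

theorem comm_3_6 (t u : K) :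
    xS 6 u * xS 3 t = xS 3 t * xS 6 u * wordS (chevB2.commWord K 3 6 t u) := by
  have e : chevB2.commWord K 3 6 t u = [(5, ((1:ℤ):K) * (-t)^1 * u^1), (7, ((1:ℤ):K) * (-t)^1 * u^2)] := rfl
  rw [e]
  apply Subtype.ext
  simp only [wordS, List.map_cons, List.map_nil, List.prod_cons, List.prod_nil, Submonoid.coe_mul,
    xS_coe, OneMemClass.coe_one, xM, M4_mul, M4_one]
  apply M4_congr <;> (push_cast; ring)

theorem comm_3_7 (t u : K) :
    xS 7 u * xS 3 t = xS 3 t * xS 7 u * wordS (chevB2.commWord K 3 7 t u) := by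
  have e : chevB2.commWord K 3 7 t u = [] := rfl
  rw [e]
  apply Subtype.ext
  simp only [wordS, List.map_cons, List.map_nil, List.prod_cons, List.prod_nil, Submonoid.coe_mul,
    xS_coe, OneMemClass.coe_one, xM, M4_mul, M4_one]
  apply M4_congr <;> (push_cast; ring)

end Cfsg.Agent.Lib.Helper9.SpSt
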