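import Mathlib
import Cfsg.Prelude.Def_Steinberg
import Cfsg.Prelude.Def_ChevB2
import Cfsg.Agent.Lib.Helper9.SpStC

set_option autoImplicit false
set_option linter.unusedSimpArgs false
set_option linter.unusedTactic false

/-!
# The Steinberg group of type `B₂` and `Sp₄`: the commutator relations, second half
-/

namespace Cfsg.Agent.Lib.Helper9.SpSt

open Cfsg Cfsg.Lie Matrix

variable {K : Type*} [Field K]

theorem comm_4_0 (t u : K) :
    xS 0 u * xS 4 t = xS 4 t * xS 0 u * wordS (chevB2.commWord K 4 0 t u) := by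
  have e : chevB2.commWord K 4 0 t u = [] := rfl
  rw [e]
  apply Subtype.ext
  simp only [wordS, List.map_cons, List.map_nil, List.prod_cons, List.prod_nil, Submonoid.coe_mul,
    xS_coe, OneMemClass.coe_one, xM, M4_mul, M4_one]
  apply M4_congr <;> (push_cast; ring)

theorem comm_4_1 (t u : K) :
    xS 1 u * xS 4 t = xS 4 t * xS 1 u * wordS (chevB2.commWord K 4 1 t u) := by
  have e : chevB2.commWord K 4 1 t u = [(2, ((-1:ℤ):K) * (-t)^1 * u^1), (0, ((1:ℤ):K) * (-t)^1 * u^2)] := rfl
  rw [e]
  apply Subtype.ext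
  simp only [wordS, List.map_cons, List.map_nil, List.prod_cons, List.prod_nil, Submonoid.coe_mul,
    xS_coe, OneMemClass.coe_one, xM, M4_mul, M4_one]
  apply M4_congr <;> (push_cast; ring)

theorem comm_4_2 (t u : K) :
    xS 2 u * xS 4 t = xS 4 t * xS 2 u * wordS (chevB2.commWord K 4 2 t u) := by
  have e : chevB2.commWord K 4 2 t u = [] := rfl
  rw [e]
  apply Subtype.ext
  simp only [wordS, List.map_cons, List.map_nil, List.prod_cons, List.prod_nil, Submonoid.coe_mul,
    xS_coe, OneMemClass.coe_one, xM, M4_mul, M4_one]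
  apply M4_congr <;> (push_cast; ring)

theorem comm_4_5 (t u : K) :
    xS 5 u * xS 4 t = xS 4 t * xS 5 u * wordS (chevB2.commWord K 4 5 t u) := by
  have e : chevB2.commWord K 4 5 t u = [(6, ((1:ℤ):K) * (-t)^1 * u^1), (7, ((-1:ℤ):K) * (-t)^1 * u^2)] := rfl
  rw [e]
  apply Subtype.ext
  simp only [wordS, List.map_cons, List.map_nil, List.prod_cons, List.prod_nil, Submonoid.coe_mul,
    xS_coe, OneMemClass.coe_one, xM, M4_mul, M4_one]
  apply M4_congr <;> (push_cast; ring)

theorem comm_4_6 (t u : K) :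
    xS 6 u * xS 4 t = xS 4 t * xS 6 u * wordS (chevB2.commWord K 4 6 t u) := by
  have e : chevB2.commWord K 4 6 t u = [] := rfl
  rw [e]
  apply Subtype.ext
  simp only [wordS, List.map_cons, List.map_nil, List.prod_cons, List.prod_nil, Submonoid.coe_mul,
    xS_coe, OneMemClass.coe_one, xM, M4_mul, M4_one]
  apply M4_congr <;> (push_cast; ring)

theorem comm_4_7 (t u : K) :
    xS 7 u * xS 4 t = xS 4 t * xS 7 u * wordS (chevB2.commWord K 4 7 t u) := by
  have e : chevB2.commWord K 4 7 t u = [] := rfl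
  rw [e]
  apply Subtype.ext
  simp only [wordS, List.map_cons, List.map_nil, List.prod_cons, List.prod_nil, Submonoid.coe_mul,
    xS_coe, OneMemClass.coe_one, xM, M4_mul, M4_one]
  apply M4_congr <;> (push_cast; ring)

theorem comm_5_0 (t u : K) :
    xS 0 u * xS 5 t = xS 5 t * xS 0 u * wordS (chevB2.commWord K 5 0 t u) := by
  have e : chevB2.commWord K 5 0 t u = [(1, ((-1:ℤ):K) * (-t)^1 * u^1), (3, ((-1:ℤ):K) * (-t)^2 * u^1)] := rfl
  rw [e]
  apply Subtype.ext
  simp only [wordS, List.map_cons, List.map_nil, List.prod_cons, List.prod_nil, Submonoid.coe_mul,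
    xS_coe, OneMemClass.coe_one, xM, M4_mul, M4_one]
  apply M4_congr <;> (push_cast; ring)

theorem comm_5_1 (t u : K) :
    xS 1 u * xS 5 t = xS 5 t * xS 1 u * wordS (chevB2.commWord K 5 1 t u) := by
  have e : chevB2.commWord K 5 1 t u = [(3, ((2:ℤ):K) * (-t)^1 * u^1)] := rfl
  rw [e]
  apply Subtype.ext
  simp only [wordS, List.map_cons, List.map_nil, List.prod_cons, List.prod_nil, Submonoid.coe_mul,
    xS_coe, OneMemClass.coe_one, xM, M4_mul, M4_one]
  apply M4_congr <;> (push_cast; ring)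

theorem comm_5_3 (t u : K) :
    xS 3 u * xS 5 t = xS 5 t * xS 3 u * wordS (chevB2.commWord K 5 3 t u) := by
  have e : chevB2.commWord K 5 3 t u = [] := rfl
  rw [e]
  apply Subtype.ext
  simp only [wordS, List.map_cons, List.map_nil, List.prod_cons, List.prod_nil, Submonoid.coe_mul,
    xS_coe, OneMemClass.coe_one, xM, M4_mul, M4_one]
  apply M4_congr <;> (push_cast; ring)

theorem comm_5_4 (t u : K) :
    xS 4 u * xS 5 t = xS 5 t * xS 4 u * wordS (chevB2.commWord K 5 4 t u) := by
  have e : chevB2.commWord K 5 4 t u = [(6, ((-1:ℤ):K) * (-t)^1 * u^1), (7, ((-1:ℤ):K) * (-t)^2 * u^1)] := rfl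
  rw [e]
  apply Subtype.ext
  simp only [wordS, List.map_cons, List.map_nil, List.prod_cons, List.prod_nil, Submonoid.coe_mul,
    xS_coe, OneMemClass.coe_one, xM, M4_mul, M4_one]
  apply M4_congr <;> (push_cast; ring)

theorem comm_5_6 (t u : K) :
    xS 6 u * xS 5 t = xS 5 t * xS 6 u * wordS (chevB2.commWord K 5 6 t u) := by
  have e : chevB2.commWord K 5 6 t u = [(7, ((2:ℤ):K) * (-t)^1 * u^1)] := rfl
  rw [e]
  apply Subtype.ext
  simp only [wordS, List.map_cons, List.map_nil, List.prod_cons, List.prod_nil, Submonoid.coe_mul,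
    xS_coe, OneMemClass.coe_one, xM, M4_mul, M4_one]
  apply M4_congr <;> (push_cast; ring)

theorem comm_5_7 (t u : K) :
    xS 7 u * xS 5 t = xS 5 t * xS 7 u * wordS (chevB2.commWord K 5 7 t u) := by
  have e : chevB2.commWord K 5 7 t u = [] := rfl
  rw [e]
  apply Subtype.ext
  simp only [wordS, List.map_cons, List.map_nil, List.prod_cons, List.prod_nil, Submonoid.coe_mul,
    xS_coe, OneMemClass.coe_one, xM, M4_mul, M4_one]
  apply M4_congr <;> (push_cast; ring)

theorem comm_6_0 (t u : K) :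
    xS 0 u * xS 6 t = xS 6 t * xS 0 u * wordS (chevB2.commWord K 6 0 t u) := by
  have e : chevB2.commWord K 6 0 t u = [(2, ((1:ℤ):K) * (-t)^1 * u^1), (4, ((1:ℤ):K) * (-t)^2 * u^1)] := rfl
  rw [e]
  apply Subtype.ext
  simp only [wordS, List.map_cons, List.map_nil, List.prod_cons, List.prod_nil, Submonoid.coe_mul,
    xS_coe, OneMemClass.coe_one, xM, M4_mul, M4_one]
  apply M4_congr <;> (push_cast; ring)

theorem comm_6_2 (t u : K) :
    xS 2 u * xS 6 t = xS 6 t * xS 2 u * wordS (chevB2.commWord K 6 2 t u) := by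
  have e : chevB2.commWord K 6 2 t u = [(4, ((2:ℤ):K) * (-t)^1 * u^1)] := rfl
  rw [e]
  apply Subtype.ext
  simp only [wordS, List.map_cons, List.map_nil, List.prod_cons, List.prod_nil, Submonoid.coe_mul,
    xS_coe, OneMemClass.coe_one, xM, M4_mul, M4_one]
  apply M4_congr <;> (push_cast; ring)

theorem comm_6_3 (t u : K) :
    xS 3 u * xS 6 t = xS 6 t * xS 3 u * wordS (chevB2.commWord K 6 3 t u) := by
  have e : chevB2.commWord K 6 3 t u = [(5, ((-1:ℤ):K) * (-t)^1 * u^1), (7, ((1:ℤ):K) * (-t)^2 * u^1)] := rfl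
  rw [e]
  apply Subtype.ext
  simp only [wordS, List.map_cons, List.map_nil, List.prod_cons, List.prod_nil, Submonoid.coe_mul,
    xS_coe, OneMemClass.coe_one, xM, M4_mul, M4_one]
  apply M4_congr <;> (push_cast; ring)

theorem comm_6_4 (t u : K) :
    xS 4 u * xS 6 t = xS 6 t * xS 4 u * wordS (chevB2.commWord K 6 4 t u) := by
  have e : chevB2.commWord K 6 4 t u = [] := rfl
  rw [e]
  apply Subtype.ext
  simp only [wordS, List.map_cons, List.map_nil, List.prod_cons, List.prod_nil, Submonoid.coe_mul,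
    xS_coe, OneMemClass.coe_one, xM, M4_mul, M4_one]
  apply M4_congr <;> (push_cast; ring)

theorem comm_6_5 (t u : K) :
    xS 5 u * xS 6 t = xS 6 t * xS 5 u * wordS (chevB2.commWord K 6 5 t u) := by
  have e : chevB2.commWord K 6 5 t u = [(7, ((-2:ℤ):K) * (-t)^1 * u^1)] := rfl
  rw [e]
  apply Subtype.ext
  simp only [wordS, List.map_cons, List.map_nil, List.prod_cons, List.prod_nil, Submonoid.coe_mul,
    xS_coe, OneMemClass.coe_one, xM, M4_mul, M4_one]
  apply M4_congr <;> (push_cast; ring)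

theorem comm_6_7 (t u : K) :
    xS 7 u * xS 6 t = xS 6 t * xS 7 u * wordS (chevB2.commWord K 6 7 t u) := by
  have e : chevB2.commWord K 6 7 t u = [] := rfl
  rw [e]
  apply Subtype.ext
  simp only [wordS, List.map_cons, List.map_nil, List.prod_cons, List.prod_nil, Submonoid.coe_mul,
    xS_coe, OneMemClass.coe_one, xM, M4_mul, M4_one]
  apply M4_congr <;> (push_cast; ring)

theorem comm_7_1 (t u : K) :
    xS 1 u * xS 7 t = xS 7 t * xS 1 u * wordS (chevB2.commWord K 7 1 t u) := by
  have e : chevB2.commWord K 7 1 t u = [(5, ((1:ℤ):K) * (-t)^1 * u^1), (3, ((1:ℤ):K) * (-t)^1 * u^2)] := rfl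
  rw [e]
  apply Subtype.ext
  simp only [wordS, List.map_cons, List.map_nil, List.prod_cons, List.prod_nil, Submonoid.coe_mul,
    xS_coe, OneMemClass.coe_one, xM, M4_mul, M4_one]
  apply M4_congr <;> (push_cast; ring)

theorem comm_7_2 (t u : K) :
    xS 2 u * xS 7 t = xS 7 t * xS 2 u * wordS (chevB2.commWord K 7 2 t u) := by
  have e : chevB2.commWord K 7 2 t u = [(6, ((-1:ℤ):K) * (-t)^1 * u^1), (4, ((-1:ℤ):K) * (-t)^1 * u^2)] := rfl
  rw [e]
  apply Subtype.ext
  simp only [wordS, List.map_cons, List.map_nil, List.prod_cons, List.prod_nil, Submonoid.coe_mul,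
    xS_coe, OneMemClass.coe_one, xM, M4_mul, M4_one]
  apply M4_congr <;> (push_cast; ring)

theorem comm_7_3 (t u : K) :
    xS 3 u * xS 7 t = xS 7 t * xS 3 u * wordS (chevB2.commWord K 7 3 t u) := by
  have e : chevB2.commWord K 7 3 t u = [] := rfl
  rw [e]
  apply Subtype.ext
  simp only [wordS, List.map_cons, List.map_nil, List.prod_cons, List.prod_nil, Submonoid.coe_mul,
    xS_coe, OneMemClass.coe_one, xM, M4_mul, M4_one]
  apply M4_congr <;> (push_cast; ring)

theorem comm_7_4 (t u : K) :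
    xS 4 u * xS 7 t = xS 7 t * xS 4 u * wordS (chevB2.commWord K 7 4 t u) := by
  have e : chevB2.commWord K 7 4 t u = [] := rfl
  rw [e]
  apply Subtype.ext
  simp only [wordS, List.map_cons, List.map_nil, List.prod_cons, List.prod_nil, Submonoid.coe_mul,
    xS_coe, OneMemClass.coe_one, xM, M4_mul, M4_one]
  apply M4_congr <;> (push_cast; ring)

theorem comm_7_5 (t u : K) :
    xS 5 u * xS 7 t = xS 7 t * xS 5 u * wordS (chevB2.commWord K 7 5 t u) := by
  have e : chevB2.commWord K 7 5 t u = [] := rfl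
  rw [e]
  apply Subtype.ext
  simp only [wordS, List.map_cons, List.map_nil, List.prod_cons, List.prod_nil, Submonoid.coe_mul,
    xS_coe, OneMemClass.coe_one, xM, M4_mul, M4_one]
  apply M4_congr <;> (push_cast; ring)

theorem comm_7_6 (t u : K) :
    xS 6 u * xS 7 t = xS 7 t * xS 6 u * wordS (chevB2.commWord K 7 6 t u) := by
  have e : chevB2.commWord K 7 6 t u = [] := rfl
  rw [e]
  apply Subtype.ext
  simp only [wordS, List.map_cons, List.map_nil, List.prod_cons, List.prod_nil, Submonoid.coe_mul,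
    xS_coe, OneMemClass.coe_one, xM, M4_mul, M4_one]
  apply M4_congr <;> (push_cast; ring)

theorem xS_comm (r s : ℕ) (hr : r < 8) (hs : s < 8) (h1 : s ≠ r) (h2 : s ≠ chevB2.neg r) (t u : K) :
    xS s u * xS r t = xS r t * xS s u * wordS (chevB2.commWord K r s t u) := by
  interval_cases r <;> interval_cases s <;>
    first
    | exact absurd rfl h1
    | exact absurd (by decide) h2
    | exact comm_0_1 t u
    | exact comm_0_2 t u
    | exact comm_0_3 t u
    | exact comm_0_4 t u
    | exact comm_0_5 t u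
    | exact comm_0_6 t u
    | exact comm_1_0 t u
    | exact comm_1_2 t u
    | exact comm_1_3 t u
    | exact comm_1_4 t u
    | exact comm_1_5 t u
    | exact comm_1_7 t u
    | exact comm_2_0 t u
    | exact comm_2_1 t u
    | exact comm_2_3 t u
    | exact comm_2_4 t u
    | exact comm_2_6 t u
    | exact comm_2_7 t u
    | exact comm_3_0 t u
    | exact comm_3_1 t u
    | exact comm_3_2 t u
    | exact comm_3_5 t u
    | exact comm_3_6 t u
    | exact comm_3_7 t u
    | exact comm_4_0 t u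
    | exact comm_4_1 t u
    | exact comm_4_2 t u
    | exact comm_4_5 t u
    | exact comm_4_6 t u
    | exact comm_4_7 t u
    | exact comm_5_0 t u
    | exact comm_5_1 t u
    | exact comm_5_3 t u
    | exact comm_5_4 t u
    | exact comm_5_6 t u
    | exact comm_5_7 t u
    | exact comm_6_0 t u
    | exact comm_6_2 t u
    | exact comm_6_3 t u
    | exact comm_6_4 t u
    | exact comm_6_5 t u
    | exact comm_6_7 t u
    | exact comm_7_1 t u
    | exact comm_7_2 t u
    | exact comm_7_3 t u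
    | exact comm_7_4 t u
    | exact comm_7_5 t u
    | exact comm_7_6 t u

end Cfsg.Agent.Lib.Helper9.SpSt
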