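import Mathlib
import Cfsg.Prelude.Def_Steinberg
import Cfsg.Prelude.Def_ChevB2
import Cfsg.Agent.Lib.Helper9.SpStD

set_option autoImplicit false
set_option linter.unusedSimpArgs false
set_option linter.unusedTactic false

/-!
# The Steinberg group of type `B₂` and `Sp₄`: the torus elements
-/

namespace Cfsg.Agent.Lib.Helper9.SpSt

open Cfsg Cfsg.Lie Matrix

variable {K : Type*} [Field K]

/-- the diagonal matrices `h_r(t)` -/
def hM (r : ℕ) (t : K) : Matrix (Fin 2 ⊕ Fin 2) (Fin 2 ⊕ Fin 2) K :=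
  match r with
  | 0 => M4 t⁻¹ 0 0 0  0 1 0 0  0 0 t 0  0 0 0 1
  | 1 => M4 t⁻¹ 0 0 0  0 t⁻¹ 0 0  0 0 t 0  0 0 0 t
  | 2 => M4 t⁻¹ 0 0 0  0 t 0 0  0 0 t 0  0 0 0 t⁻¹
  | 3 => M4 1 0 0 0  0 t⁻¹ 0 0  0 0 1 0  0 0 0 t
  | 4 => M4 1 0 0 0  0 t 0 0  0 0 1 0  0 0 0 t⁻¹
  | 5 => M4 t 0 0 0  0 t⁻¹ 0 0  0 0 t⁻¹ 0  0 0 0 t
  | 6 => M4 t 0 0 0  0 t 0 0  0 0 t⁻¹ 0  0 0 0 t⁻¹
  | 7 => M4 t 0 0 0  0 1 0 0  0 0 t⁻¹ 0  0 0 0 1
  | _ => 1

theorem nM_0 (t s : K) (h : t * s = 1) :
    xM 0 t * xM 7 (-s) * xM 0 t = M4 0 0 (-s) 0  0 1 0 0  t 0 0 0  0 0 0 1 := by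
  simp only [xM, M4_mul]
  apply M4_congr
  · linear_combination ((-1)) * h
  · linear_combination (0) * h
  · linear_combination (0) * h
  · linear_combination (0) * h
  · linear_combination (0) * h
  · linear_combination (0) * h
  · linear_combination (0) * h
  · linear_combination (0) * h
  · linear_combination ((-1)*t) * h
  · linear_combination (0) * h
  · linear_combination ((-1)) * h
  · linear_combination (0) * h
  · linear_combination (0) * h
  · linear_combination (0) * h
  · linear_combination (0) * h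
  · linear_combination (0) * h

theorem hWord_0 (t : K) (ht : t ≠ 0) :
    ((wordS (chevB2.hWord 0 t) : symplecticGroup (Fin 2) K) :
      Matrix (Fin 2 ⊕ Fin 2) (Fin 2 ⊕ Fin 2) K) = hM 0 t := by
  have e : chevB2.hWord 0 t = [(0, t), (7, -t⁻¹), (0, t), (0, -1), (7, -(-1)⁻¹), (0, -1)] := rfl
  rw [e, inv_neg_one]
  simp only [wordS, List.map_cons, List.map_nil, List.prod_cons, List.prod_nil, Submonoid.coe_mul,
    xS_coe, OneMemClass.coe_one, mul_one]
  rw [show ∀ A B C D : Matrix (Fin 2 ⊕ Fin 2) (Fin 2 ⊕ Fin 2) K,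
    A * (B * (A * (C * (D * C)))) = (A * B * A) * (C * D * C) from
      fun A B C D => by simp only [mul_assoc]]
  rw [nM_0 t t⁻¹ (mul_inv_cancel₀ ht), nM_0 (-1 : K) (-1) (by ring)]
  simp only [hM, M4_mul]
  apply M4_congr <;> ring

theorem nM_1 (t s : K) (h : t * s = 1) :
    xM 1 t * xM 6 (-s) * xM 1 t = M4 0 0 0 (-s)  0 0 (-s) 0  0 t 0 0  t 0 0 0 := by
  simp only [xM, M4_mul]
  apply M4_congr
  · linear_combination ((-1)) * h
  · linear_combination (0) * h
  · linear_combination (0) * h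
  · linear_combination (0) * h
  · linear_combination (0) * h
  · linear_combination ((-1)) * h
  · linear_combination (0) * h
  · linear_combination (0) * h
  · linear_combination (0) * h
  · linear_combination ((-1)*t) * h
  · linear_combination ((-1)) * h
  · linear_combination (0) * h
  · linear_combination ((-1)*t) * h
  · linear_combination (0) * h
  · linear_combination (0) * h
  · linear_combination ((-1)) * h

theorem hWord_1 (t : K) (ht : t ≠ 0) :
    ((wordS (chevB2.hWord 1 t) : symplecticGroup (Fin 2) K) :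
      Matrix (Fin 2 ⊕ Fin 2) (Fin 2 ⊕ Fin 2) K) = hM 1 t := by
  have e : chevB2.hWord 1 t = [(1, t), (6, -t⁻¹), (1, t), (1, -1), (6, -(-1)⁻¹), (1, -1)] := rfl
  rw [e, inv_neg_one]
  simp only [wordS, List.map_cons, List.map_nil, List.prod_cons, List.prod_nil, Submonoid.coe_mul,
    xS_coe, OneMemClass.coe_one, mul_one]
  rw [show ∀ A B C D : Matrix (Fin 2 ⊕ Fin 2) (Fin 2 ⊕ Fin 2) K,
    A * (B * (A * (C * (D * C)))) = (A * B * A) * (C * D * C) from
      fun A B C D => by simp only [mul_assoc]]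
  rw [nM_1 t t⁻¹ (mul_inv_cancel₀ ht), nM_1 (-1 : K) (-1) (by ring)]
  simp only [hM, M4_mul]
  apply M4_congr <;> ring

theorem nM_2 (t s : K) (h : t * s = 1) :
    xM 2 t * xM 5 (-s) * xM 2 t = M4 0 (-s) 0 0  t 0 0 0  0 0 0 (-t)  0 0 s 0 := by
  simp only [xM, M4_mul]
  apply M4_congr
  · linear_combination ((-1)) * h
  · linear_combination (0) * h
  · linear_combination (0) * h
  · linear_combination (0) * h
  · linear_combination ((-1)*t) * h
  · linear_combination ((-1)) * h
  · linear_combination (0) * h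
  · linear_combination (0) * h
  · linear_combination (0) * h
  · linear_combination (0) * h
  · linear_combination ((-1)) * h
  · linear_combination ((1)*t) * h
  · linear_combination (0) * h
  · linear_combination (0) * h
  · linear_combination (0) * h
  · linear_combination ((-1)) * h

theorem hWord_2 (t : K) (ht : t ≠ 0) :
    ((wordS (chevB2.hWord 2 t) : symplecticGroup (Fin 2) K) :
      Matrix (Fin 2 ⊕ Fin 2) (Fin 2 ⊕ Fin 2) K) = hM 2 t := by
  have e : chevB2.hWord 2 t = [(2, t), (5, -t⁻¹), (2, t), (2, -1), (5, -(-1)⁻¹), (2, -1)] := rfl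
  rw [e, inv_neg_one]
  simp only [wordS, List.map_cons, List.map_nil, List.prod_cons, List.prod_nil, Submonoid.coe_mul,
    xS_coe, OneMemClass.coe_one, mul_one]
  rw [show ∀ A B C D : Matrix (Fin 2 ⊕ Fin 2) (Fin 2 ⊕ Fin 2) K,
    A * (B * (A * (C * (D * C)))) = (A * B * A) * (C * D * C) from
      fun A B C D => by simp only [mul_assoc]]
  rw [nM_2 t t⁻¹ (mul_inv_cancel₀ ht), nM_2 (-1 : K) (-1) (by ring)]
  simp only [hM, M4_mul]
  apply M4_congr <;> ring

theorem nM_3 (t s : K) (h : t * s = 1) :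
    xM 3 t * xM 4 (-s) * xM 3 t = M4 1 0 0 0  0 0 0 s  0 0 1 0  0 (-t) 0 0 := by
  simp only [xM, M4_mul]
  apply M4_congr
  · linear_combination (0) * h
  · linear_combination (0) * h
  · linear_combination (0) * h
  · linear_combination (0) * h
  · linear_combination (0) * h
  · linear_combination ((-1)) * h
  · linear_combination (0) * h
  · linear_combination (0) * h
  · linear_combination (0) * h
  · linear_combination (0) * h
  · linear_combination (0) * h
  · linear_combination (0) * h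
  · linear_combination (0) * h
  · linear_combination ((1)*t) * h
  · linear_combination (0) * h
  · linear_combination ((-1)) * h

theorem hWord_3 (t : K) (ht : t ≠ 0) :
    ((wordS (chevB2.hWord 3 t) : symplecticGroup (Fin 2) K) :
      Matrix (Fin 2 ⊕ Fin 2) (Fin 2 ⊕ Fin 2) K) = hM 3 t := by
  have e : chevB2.hWord 3 t = [(3, t), (4, -t⁻¹), (3, t), (3, -1), (4, -(-1)⁻¹), (3, -1)] := rfl
  rw [e, inv_neg_one]
  simp only [wordS, List.map_cons, List.map_nil, List.prod_cons, List.prod_nil, Submonoid.coe_mul,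
    xS_coe, OneMemClass.coe_one, mul_one]
  rw [show ∀ A B C D : Matrix (Fin 2 ⊕ Fin 2) (Fin 2 ⊕ Fin 2) K,
    A * (B * (A * (C * (D * C)))) = (A * B * A) * (C * D * C) from
      fun A B C D => by simp only [mul_assoc]]
  rw [nM_3 t t⁻¹ (mul_inv_cancel₀ ht), nM_3 (-1 : K) (-1) (by ring)]
  simp only [hM, M4_mul]
  apply M4_congr <;> ring

theorem nM_4 (t s : K) (h : t * s = 1) :
    xM 4 t * xM 3 (-s) * xM 4 t = M4 1 0 0 0  0 0 0 (-t)  0 0 1 0  0 s 0 0 := by
  simp only [xM, M4_mul]
  apply M4_congr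
  · linear_combination (0) * h
  · linear_combination (0) * h
  · linear_combination (0) * h
  · linear_combination (0) * h
  · linear_combination (0) * h
  · linear_combination ((-1)) * h
  · linear_combination (0) * h
  · linear_combination ((1)*t) * h
  · linear_combination (0) * h
  · linear_combination (0) * h
  · linear_combination (0) * h
  · linear_combination (0) * h
  · linear_combination (0) * h
  · linear_combination (0) * h
  · linear_combination (0) * h
  · linear_combination ((-1)) * h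

theorem hWord_4 (t : K) (ht : t ≠ 0) :
    ((wordS (chevB2.hWord 4 t) : symplecticGroup (Fin 2) K) :
      Matrix (Fin 2 ⊕ Fin 2) (Fin 2 ⊕ Fin 2) K) = hM 4 t := by
  have e : chevB2.hWord 4 t = [(4, t), (3, -t⁻¹), (4, t), (4, -1), (3, -(-1)⁻¹), (4, -1)] := rfl
  rw [e, inv_neg_one]
  simp only [wordS, List.map_cons, List.map_nil, List.prod_cons, List.prod_nil, Submonoid.coe_mul,
    xS_coe, OneMemClass.coe_one, mul_one]
  rw [show ∀ A B C D : Matrix (Fin 2 ⊕ Fin 2) (Fin 2 ⊕ Fin 2) K,
    A * (B * (A * (C * (D * C)))) = (A * B * A) * (C * D * C) from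
      fun A B C D => by simp only [mul_assoc]]
  rw [nM_4 t t⁻¹ (mul_inv_cancel₀ ht), nM_4 (-1 : K) (-1) (by ring)]
  simp only [hM, M4_mul]
  apply M4_congr <;> ring

theorem nM_5 (t s : K) (h : t * s = 1) :
    xM 5 t * xM 2 (-s) * xM 5 t = M4 0 t 0 0  (-s) 0 0 0  0 0 0 s  0 0 (-t) 0 := by
  simp only [xM, M4_mul]
  apply M4_congr
  · linear_combination ((-1)) * h
  · linear_combination ((-1)*t) * h
  · linear_combination (0) * h
  · linear_combination (0) * h
  · linear_combination (0) * h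
  · linear_combination ((-1)) * h
  · linear_combination (0) * h
  · linear_combination (0) * h
  · linear_combination (0) * h
  · linear_combination (0) * h
  · linear_combination ((-1)) * h
  · linear_combination (0) * h
  · linear_combination (0) * h
  · linear_combination (0) * h
  · linear_combination ((1)*t) * h
  · linear_combination ((-1)) * h

theorem hWord_5 (t : K) (ht : t ≠ 0) :
    ((wordS (chevB2.hWord 5 t) : symplecticGroup (Fin 2) K) :
      Matrix (Fin 2 ⊕ Fin 2) (Fin 2 ⊕ Fin 2) K) = hM 5 t := by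
  have e : chevB2.hWord 5 t = [(5, t), (2, -t⁻¹), (5, t), (5, -1), (2, -(-1)⁻¹), (5, -1)] := rfl
  rw [e, inv_neg_one]
  simp only [wordS, List.map_cons, List.map_nil, List.prod_cons, List.prod_nil, Submonoid.coe_mul,
    xS_coe, OneMemClass.coe_one, mul_one]
  rw [show ∀ A B C D : Matrix (Fin 2 ⊕ Fin 2) (Fin 2 ⊕ Fin 2) K,
    A * (B * (A * (C * (D * C)))) = (A * B * A) * (C * D * C) from
      fun A B C D => by simp only [mul_assoc]]
  rw [nM_5 t t⁻¹ (mul_inv_cancel₀ ht), nM_5 (-1 : K) (-1) (by ring)]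
  simp only [hM, M4_mul]
  apply M4_congr <;> ring

theorem nM_6 (t s : K) (h : t * s = 1) :
    xM 6 t * xM 1 (-s) * xM 6 t = M4 0 0 0 t  0 0 t 0  0 (-s) 0 0  (-s) 0 0 0 := by
  simp only [xM, M4_mul]
  apply M4_congr
  · linear_combination ((-1)) * h
  · linear_combination (0) * h
  · linear_combination (0) * h
  · linear_combination ((-1)*t) * h
  · linear_combination (0) * h
  · linear_combination ((-1)) * h
  · linear_combination ((-1)*t) * h
  · linear_combination (0) * h
  · linear_combination (0) * h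
  · linear_combination (0) * h
  · linear_combination ((-1)) * h
  · linear_combination (0) * h
  · linear_combination (0) * h
  · linear_combination (0) * h
  · linear_combination (0) * h
  · linear_combination ((-1)) * h

theorem hWord_6 (t : K) (ht : t ≠ 0) :
    ((wordS (chevB2.hWord 6 t) : symplecticGroup (Fin 2) K) :
      Matrix (Fin 2 ⊕ Fin 2) (Fin 2 ⊕ Fin 2) K) = hM 6 t := by
  have e : chevB2.hWord 6 t = [(6, t), (1, -t⁻¹), (6, t), (6, -1), (1, -(-1)⁻¹), (6, -1)] := rfl
  rw [e, inv_neg_one]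
  simp only [wordS, List.map_cons, List.map_nil, List.prod_cons, List.prod_nil, Submonoid.coe_mul,
    xS_coe, OneMemClass.coe_one, mul_one]
  rw [show ∀ A B C D : Matrix (Fin 2 ⊕ Fin 2) (Fin 2 ⊕ Fin 2) K,
    A * (B * (A * (C * (D * C)))) = (A * B * A) * (C * D * C) from
      fun A B C D => by simp only [mul_assoc]]
  rw [nM_6 t t⁻¹ (mul_inv_cancel₀ ht), nM_6 (-1 : K) (-1) (by ring)]
  simp only [hM, M4_mul]
  apply M4_congr <;> ring

theorem nM_7 (t s : K) (h : t * s = 1) :
    xM 7 t * xM 0 (-s) * xM 7 t = M4 0 0 t 0  0 1 0 0  (-s) 0 0 0  0 0 0 1 := by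
  simp only [xM, M4_mul]
  apply M4_congr
  · linear_combination ((-1)) * h
  · linear_combination (0) * h
  · linear_combination ((-1)*t) * h
  · linear_combination (0) * h
  · linear_combination (0) * h
  · linear_combination (0) * h
  · linear_combination (0) * h
  · linear_combination (0) * h
  · linear_combination (0) * h
  · linear_combination (0) * h
  · linear_combination ((-1)) * h
  · linear_combination (0) * h
  · linear_combination (0) * h
  · linear_combination (0) * h
  · linear_combination (0) * h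
  · linear_combination (0) * h

theorem hWord_7 (t : K) (ht : t ≠ 0) :
    ((wordS (chevB2.hWord 7 t) : symplecticGroup (Fin 2) K) :
      Matrix (Fin 2 ⊕ Fin 2) (Fin 2 ⊕ Fin 2) K) = hM 7 t := by
  have e : chevB2.hWord 7 t = [(7, t), (0, -t⁻¹), (7, t), (7, -1), (0, -(-1)⁻¹), (7, -1)] := rfl
  rw [e, inv_neg_one]
  simp only [wordS, List.map_cons, List.map_nil, List.prod_cons, List.prod_nil, Submonoid.coe_mul,
    xS_coe, OneMemClass.coe_one, mul_one]
  rw [show ∀ A B C D : Matrix (Fin 2 ⊕ Fin 2) (Fin 2 ⊕ Fin 2) K,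
    A * (B * (A * (C * (D * C)))) = (A * B * A) * (C * D * C) from
      fun A B C D => by simp only [mul_assoc]]
  rw [nM_7 t t⁻¹ (mul_inv_cancel₀ ht), nM_7 (-1 : K) (-1) (by ring)]
  simp only [hM, M4_mul]
  apply M4_congr <;> ring

theorem hWord_coe (r : ℕ) (hr : r < 8) (t : K) (ht : t ≠ 0) :
    ((wordS (chevB2.hWord r t) : symplecticGroup (Fin 2) K) :
      Matrix (Fin 2 ⊕ Fin 2) (Fin 2 ⊕ Fin 2) K) = hM r t := by
  interval_cases r
  · exact hWord_0 t ht
  · exact hWord_1 t ht
  · exact hWord_2 t ht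
  · exact hWord_3 t ht
  · exact hWord_4 t ht
  · exact hWord_5 t ht
  · exact hWord_6 t ht
  · exact hWord_7 t ht

theorem hM_mul (r : ℕ) (hr : r < 8) (a b : K) : hM r a * hM r b = hM r (a * b) := by
  interval_cases r <;> simp only [hM, M4_mul] <;> apply M4_congr <;>
    first | ring | (rw [mul_inv]; ring)

theorem hWord_mul (r : ℕ) (hr : r < 8) (a b : K) (ha : a ≠ 0) (hb : b ≠ 0) :
    (wordS (chevB2.hWord r a) : symplecticGroup (Fin 2) K) * wordS (chevB2.hWord r b) =
      wordS (chevB2.hWord r (a * b)) := by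
  apply Subtype.ext
  rw [Submonoid.coe_mul, hWord_coe r hr a ha, hWord_coe r hr b hb,
    hWord_coe r hr (a * b) (mul_ne_zero ha hb), hM_mul r hr]

end Cfsg.Agent.Lib.Helper9.SpSt
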