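import Mathlib
import Cfsg.Prelude.Def_Steinberg
import Cfsg.Prelude.Def_ChevB2
import Cfsg.Agent.Lib.Helper9.SpStE
import Cfsg.Agent.Lib.Helper9.SP4P11
import Cfsg.Agent.Lib.Helper3.StB13

set_option autoImplicit false

/-!
# The Steinberg group of type `B₂` and `Sp₄`: the homomorphism onto `Sp₄`
-/

namespace Cfsg.Agent.Lib.Helper9.SpSt

open Cfsg Cfsg.Lie Matrix

variable {K : Type*} [Field K]

/-- the homomorphism of the free group sending the symbols to the root elements of `Sp₄` -/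
def liftS (K : Type*) [Field K] : FreeGroup (Fin chevB2.nroots × K) →* symplecticGroup (Fin 2) K :=
  FreeGroup.lift fun p => xS p.1.val p.2

theorem liftS_stX (r : ℕ) (t : K) : liftS K (chevB2.stX r t) = xS r t := by
  by_cases hr : r < chevB2.nroots
  · rw [Cfsg.Agent.Lib.Helper3.StB.stX_of_lt _ r hr]
    exact FreeGroup.lift_apply_of
  · rw [Cfsg.Agent.Lib.Helper3.StB.stX_of_not_lt _ r hr, map_one]
    have h8 : chevB2.nroots = 8 := rfl
    rw [xS_of_le r (by omega)]

theorem liftS_stWord (w : List (ℕ × K)) : liftS K (chevB2.stWord w) = wordS w := by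
  rw [Cfsg.Agent.Lib.Helper3.StB.map_stWord]
  unfold Cfsg.Agent.Lib.Helper3.StB.wordS wordS
  congr 1
  apply List.map_congr_left
  intro p _
  exact liftS_stX _ _

theorem liftS_rels : ∀ g ∈ chevB2.steinbergRels K, liftS K g = 1 := by
  have h8 : chevB2.nroots = 8 := rfl
  rintro g ((⟨r, t₁, t₂, hr, rfl⟩ | ⟨r, s, t, u, hr, hs, h1, h2, rfl⟩) | ⟨r, t₁, t₂, hr, h1, h2, rfl⟩)
  · rw [map_mul, map_mul, map_inv, liftS_stX, liftS_stX, liftS_stX, xS_add, mul_inv_cancel]
  · rw [map_mul, map_mul, map_mul, map_mul, map_inv, map_inv, map_inv, liftS_stX, liftS_stX,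
      liftS_stWord, mul_inv_eq_one]
    have h := xS_comm r s (by omega) (by omega) h1 h2 t u
    calc (xS s u)⁻¹ * (xS r t)⁻¹ * xS s u * xS r t
        = (xS s u)⁻¹ * (xS r t)⁻¹ * (xS s u * xS r t) := by group
      _ = wordS (chevB2.commWord K r s t u) := by rw [h]; group
  · have e : ∀ t : K, liftS K (chevB2.stH r t) = wordS (chevB2.hWord r t) := fun t =>
      liftS_stWord _
    rw [map_mul, map_mul, map_inv, e, e, e, hWord_mul r (by omega) t₁ t₂ h1 h2, mul_inv_cancel]

/-- the homomorphism from the Steinberg group of type `B₂` to `Sp₄` -/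
def theta4 (K : Type*) [Field K] : chevB2.SteinbergGroup K →* symplecticGroup (Fin 2) K :=
  PresentedGroup.toGroup (f := fun p => xS p.1.val p.2) liftS_rels

theorem theta4_mk (g : FreeGroup (Fin chevB2.nroots × K)) :
    theta4 K (PresentedGroup.mk (chevB2.steinbergRels K) g) = liftS K g := rfl

theorem theta4_stX (r : ℕ) (t : K) :
    theta4 K (PresentedGroup.mk (chevB2.steinbergRels K) (chevB2.stX r t)) = xS r t := by
  rw [theta4_mk, liftS_stX]

theorem theta4_stH (r : ℕ) (hr : r < 8) (t : K) (ht : t ≠ 0) :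
    ((theta4 K (PresentedGroup.mk (chevB2.steinbergRels K) (chevB2.stH r t)) :
      symplecticGroup (Fin 2) K) : Matrix (Fin 2 ⊕ Fin 2) (Fin 2 ⊕ Fin 2) K) = hM r t := by
  rw [theta4_mk]
  have e : liftS K (chevB2.stH r t) = wordS (chevB2.hWord r t) := liftS_stWord _
  rw [e, hWord_coe r hr t ht]

open Cfsg.Agent.Lib.Helper9.SLP Cfsg.Agent.Lib.Helper9.SP4P in
theorem aHom_mU (a : K) : aHom (mU a) = xS 4 (-a) := by
  apply Subtype.ext
  rw [aHom_coe, mU_coe, xS_coe]
  ext (i | i) (j | j) <;> fin_cases i <;> fin_cases j <;> simp [aMat, M4, xM]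

open Cfsg.Agent.Lib.Helper9.SLP Cfsg.Agent.Lib.Helper9.SP4P in
theorem aHom_mL (a : K) : aHom (mL a) = xS 3 (-a) := by
  apply Subtype.ext
  rw [aHom_coe, mL_coe, xS_coe]
  ext (i | i) (j | j) <;> fin_cases i <;> fin_cases j <;> simp [aMat, M4, xM]

open Cfsg.Agent.Lib.Helper9.SLP Cfsg.Agent.Lib.Helper9.SP4P in
theorem bHom_mU (a : K) : bHom (mU a) = xS 5 a := by
  apply Subtype.ext
  rw [bHom_coe, mU_coe, xS_coe]
  ext (i | i) (j | j) <;> fin_cases i <;> fin_cases j <;> simp [bMat, M4, xM]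

open Cfsg.Agent.Lib.Helper9.SLP Cfsg.Agent.Lib.Helper9.SP4P in
theorem bHom_mL (a : K) : bHom (mL a) = xS 2 a := by
  apply Subtype.ext
  rw [bHom_coe, mL_coe, xS_coe]
  ext (i | i) (j | j) <;> fin_cases i <;> fin_cases j <;> simp [bMat, M4, xM]

open Cfsg.Agent.Lib.Helper9.SLP in
theorem mT_eq : (mT : SpecialLinearGroup (Fin 2) K) = mU 1 * mL (-1) * mU 1 := by
  ext i j
  fin_cases i <;> fin_cases j <;>
    simp [mL_coe, mT_coe, mU_coe, Matrix.mul_apply, Fin.sum_univ_two]

open Cfsg.Agent.Lib.Helper9.SLP in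
theorem sl2_eq_top (H : Subgroup (SpecialLinearGroup (Fin 2) K)) (hU : ∀ a : K, mU a ∈ H)
    (hL : ∀ a : K, mL a ∈ H) : H = ⊤ := by
  apply mem_of_mU_mT H hU
  rw [mT_eq]
  exact H.mul_mem (H.mul_mem (hU _) (hL _)) (hU _)

theorem xS_mem_range (r : ℕ) (t : K) : xS r t ∈ (theta4 K).range :=
  ⟨_, theta4_stX r t⟩

open Cfsg.Agent.Lib.Helper9.SLP Cfsg.Agent.Lib.Helper9.SP4P in
theorem theta4_surjective : Function.Surjective (theta4 K) := by
  rw [← MonoidHom.range_eq_top]
  apply eq_top_of_homs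
  · intro g
    have h : (theta4 K).range.comap aHom = ⊤ := by
      apply sl2_eq_top
      · intro a
        rw [Subgroup.mem_comap, aHom_mU]
        exact xS_mem_range _ _
      · intro a
        rw [Subgroup.mem_comap, aHom_mL]
        exact xS_mem_range _ _
    have : g ∈ (theta4 K).range.comap aHom := by rw [h]; trivial
    exact this
  · intro g
    have h : (theta4 K).range.comap bHom = ⊤ := by
      apply sl2_eq_top
      · intro a
        rw [Subgroup.mem_comap, bHom_mU]
        exact xS_mem_range _ _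
      · intro a
        rw [Subgroup.mem_comap, bHom_mL]
        exact xS_mem_range _ _
    have : g ∈ (theta4 K).range.comap bHom := by rw [h]; trivial
    exact this

end Cfsg.Agent.Lib.Helper9.SpSt
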