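import Mathlib
import Cfsg.Prelude.Def_Steinberg
import Cfsg.Prelude.Def_ChevB2
import Cfsg.Agent.Lib.Helper9.SpStF
import Cfsg.Agent.Lib.Helper3.StEmb2
import Cfsg.Agent.Lib.Helper3.ChevData.B2St
import Cfsg.Agent.Lib.Helper3.ChevData.B2CommData
import Cfsg.Agent.Lib.Helper3.ChevData.B2Rel
import Cfsg.Agent.Lib.Helper3.ChevData.B2Hdec
import Cfsg.Agent.Lib.Helper3.ChevData.B2Tri
import Cfsg.Agent.Lib.Helper3.ChevData.B2NegTri
import Cfsg.Agent.Lib.Helper3.ChevData.B2Opp
import Cfsg.Agent.Lib.Helper3.ChevData.B2NegRefl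
import Cfsg.Agent.Lib.Helper3.ChevData.B2Rwc
import Cfsg.Agent.Lib.Helper3.ChevData.B2Inj
import Cfsg.Agent.S1056

set_option autoImplicit false

/-!
# The Steinberg group of type `B₂` and `Sp₄`: injectivity
-/

namespace Cfsg.Agent.Lib.Helper9.SpSt

open Cfsg Cfsg.Lie Matrix
open Cfsg.Agent.Lib.Helper3.ChevM Cfsg.Agent.Lib.Helper3.StB

variable {K : Type*} [Field K]

/-- the normal core of the Borel subgroup of `B₂(K)` is trivial (the case `B₂` of S1051, with the
imports of type `B₂` only) -/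
theorem b2_core (K : Type*) [Field K] :
    ((chevB2.borelSubgroup K).subgroupOf (chevB2.group K)).normalCore = ⊥ :=
  relB2.borel_core_trivial (of_pairRange (m := 8) (n := 8) b2Hdec) b2Tri b2NegTri w0B2 w0rB2
    w0B2_lt b2Opp (of_pairRange (m := 2) (n := 8) b2NegRefl) rwB2 b2Rwc b2Inj

/-- Steinberg's homomorphism onto the adjoint group, with the shape of the central elements. -/
theorem exists_theta_aux :
    ∃ θ : PresentedGroup (cdB2.D.steinbergRels K) →* ↥(cdB2.D.group K), Function.Surjective θ ∧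
      θ.ker = Subgroup.center (PresentedGroup (cdB2.D.steinbergRels K)) ∧
      (∀ z ∈ Subgroup.center (PresentedGroup (cdB2.D.steinbergRels K)),
        ∃ a b : K, a ≠ 0 ∧ b ≠ 0 ∧
        z = PresentedGroup.mk (cdB2.D.steinbergRels K) (cdB2.D.stH 5 a) *
          PresentedGroup.mk (cdB2.D.steinbergRels K) (cdB2.D.stH 4 b)) ∧
      PresentedGroup.mk (cdB2.D.steinbergRels K) (cdB2.D.stH 5 (1 : K)) = 1 ∧
      PresentedGroup.mk (cdB2.D.steinbergRels K) (cdB2.D.stH 4 (1 : K)) = 1 := by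
  classical
  have hcore := b2_core K
  have hAB : cdB2.D.steinbergRelsAB K ⊆ cdB2.D.steinbergRels K := fun g hg => Or.inl hg
  have hrel := stLift_rels relB2 (F := K) commB2
  set θ := presHom relB2 (cdB2.D.steinbergRels K) hrel with hθdef
  have hθ : ∀ r < cdB2.D.nroots, ∀ t : K,
      ((θ (PresentedGroup.mk (cdB2.D.steinbergRels K) (cdB2.D.stX r t)) : GL cdB2.D.Idx K) :
        Matrix cdB2.D.Idx cdB2.D.Idx K) = cdB2.D.x K r t := by
    intro r hr t
    rw [hθdef, presHom_mk, stLift_stX, relB2.xU_val]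
  have hsurj := presHom_surjective relB2 (cdB2.D.steinbergRels K) hrel
  have hker := pres_ker_eq_center relB2 commB2 stHypB2 hcore _ hAB θ hsurj hθ
  have hφ : ∀ r < cdB2.D.nroots, ∀ t : K,
      ((cdB2.D.group K).subtype.comp θ)
        (PresentedGroup.mk (cdB2.D.steinbergRels K) (cdB2.D.stX r t)) = relB2.xU r t := by
    intro r hr t
    apply Units.ext
    rw [relB2.xU_val, ← hθ r hr t]
    rfl
  set S := presData relB2 (cdB2.D.steinbergRels K) hAB _ hφ with hS
  have hmul : ∀ i < cdB2.D.rank, ∀ a b : K, a ≠ 0 → b ≠ 0 →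
      S.hS (cdB2.D.simple i) a * S.hS (cdB2.D.simple i) b = S.hS (cdB2.D.simple i) (a * b) := by
    intro i hi a b ha hb
    have hrel3 : cdB2.D.stH (cdB2.D.simple i) a * cdB2.D.stH (cdB2.D.simple i) b *
        (cdB2.D.stH (cdB2.D.simple i) (a * b))⁻¹ ∈ cdB2.D.steinbergRels K :=
      Or.inr ⟨cdB2.D.simple i, a, b, relB2.simple_lt i hi, ha, hb, rfl⟩
    have h1 := PresentedGroup.one_of_mem hrel3
    rw [map_mul, map_mul, map_inv, mul_inv_eq_one] at h1
    rw [hS, presData_hS, presData_hS, presData_hS]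
    exact h1
  refine ⟨θ, hsurj, hker, ?_, ?_, ?_⟩
  · intro z hz
    have hz0 : z ∈ θ.ker := by rw [hker]; exact hz
    have hz' : ((cdB2.D.group K).subtype.comp θ) z = 1 := by
      rw [MonoidHom.comp_apply, MonoidHom.mem_ker.mp hz0]; rfl
    have hzH : z ∈ S.Hbar :=
      S.ker_le_Hbar stHypB2 (presData_gen relB2 _ hAB _ hφ) (MonoidHom.mem_ker.mpr hz')
    obtain ⟨c, hc, rfl⟩ := S.exists_hProd stHypB2 hmul z hzH
    refine ⟨c 0, c 1, hc 0, hc 1, ?_⟩
    have h2 : cdB2.D.rank = 2 := rfl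
    rw [h2, S.hProd_succ, S.hProd_succ, S.hProd_zero, one_mul, hS, presData_hS, presData_hS]
    rfl
  · have h := S.hS_one 5
    rw [hS, presData_hS] at h
    exact h
  · have h := S.hS_one 4
    rw [hS, presData_hS] at h
    exact h

/-- Steinberg's homomorphism onto the adjoint group, with the shape of the central elements. -/
theorem exists_theta :
    ∃ θ : chevB2.SteinbergGroup K →* ↥(chevB2.group K), Function.Surjective θ ∧
      θ.ker = Subgroup.center (chevB2.SteinbergGroup K) ∧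
      (∀ z ∈ Subgroup.center (chevB2.SteinbergGroup K), ∃ a b : K, a ≠ 0 ∧ b ≠ 0 ∧
        z = PresentedGroup.mk (chevB2.steinbergRels K) (chevB2.stH 5 a) *
          PresentedGroup.mk (chevB2.steinbergRels K) (chevB2.stH 4 b)) ∧
      PresentedGroup.mk (chevB2.steinbergRels K) (chevB2.stH 5 (1 : K)) = 1 ∧
      PresentedGroup.mk (chevB2.steinbergRels K) (chevB2.stH 4 (1 : K)) = 1 :=
  exists_theta_aux

theorem xS_noncomm (h10 : (1 : K) ≠ 0) : xS 5 (1 : K) * xS 2 1 ≠ xS 2 1 * xS 5 1 := by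
  intro h
  have e := congrArg Subtype.val h
  simp only [Submonoid.coe_mul, xS_coe, xM, M4_mul] at e
  obtain ⟨e1, -⟩ := M4_inj e
  apply h10
  linear_combination e1

theorem theta4_injective (hK : ∃ a : K, a ≠ 0 ∧ a ≠ 1) : Function.Injective (theta4 K) := by
  obtain ⟨θ, hsurj, hker, hform, h51, h41⟩ := exists_theta (K := K)
  obtain ⟨hsimple, -⟩ := Cfsg.Agent.S1056.result hK
  have h1 : (theta4 K).ker ≤ Subgroup.center (chevB2.SteinbergGroup K) := by
    have hN : ((theta4 K).ker.map θ).Normal := Subgroup.Normal.map inferInstance θ hsurj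
    rcases hN.eq_bot_or_eq_top with hb | ht
    · rw [← hker]
      intro z hz
      rw [MonoidHom.mem_ker]
      have : θ z ∈ (theta4 K).ker.map θ := Subgroup.mem_map_of_mem _ hz
      rw [hb] at this
      exact Subgroup.mem_bot.mp this
    · exfalso
      have key : ∀ g : chevB2.SteinbergGroup K,
          ∃ z ∈ Subgroup.center (chevB2.SteinbergGroup K), theta4 K g = theta4 K z := by
        intro g
        have hg : θ g ∈ (theta4 K).ker.map θ := by rw [ht]; trivial
        obtain ⟨n, hn, hng⟩ := hg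
        refine ⟨g * n⁻¹, ?_, ?_⟩
        · rw [← hker, MonoidHom.mem_ker, map_mul, map_inv, hng, mul_inv_cancel]
        · rw [map_mul, map_inv, MonoidHom.mem_ker.mp hn, inv_one, mul_one]
      obtain ⟨z1, hz1, e1⟩ :=
        key (PresentedGroup.mk (chevB2.steinbergRels K) (chevB2.stX 5 (1 : K)))
      obtain ⟨z2, hz2, e2⟩ :=
        key (PresentedGroup.mk (chevB2.steinbergRels K) (chevB2.stX 2 (1 : K)))
      obtain ⟨a, ha0, ha1⟩ := hK
      apply xS_noncomm (K := K) one_ne_zero
      rw [← theta4_stX 5 1, ← theta4_stX 2 1, e1, e2, ← map_mul, ← map_mul,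
        (Subgroup.mem_center_iff.mp hz1 z2)]
  rw [injective_iff_map_eq_one]
  intro z hz
  obtain ⟨a, b, ha, hb, rfl⟩ := hform z (h1 (MonoidHom.mem_ker.mpr hz))
  have e := congrArg Subtype.val hz
  rw [map_mul, Submonoid.coe_mul, theta4_stH 5 (by norm_num) a ha,
    theta4_stH 4 (by norm_num) b hb] at e
  simp only [hM, M4_mul, OneMemClass.coe_one, M4_one] at e
  obtain ⟨e1, -, e2, -, -⟩ := M4_inj e
  have ha1 : a = 1 := by linear_combination e1
  subst ha1
  have hb1 : b = 1 := by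
    rw [inv_one] at e2
    linear_combination e2
  subst hb1
  rw [h51, h41, one_mul]

end Cfsg.Agent.Lib.Helper9.SpSt
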