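import Mathlib
import Cfsg.Prelude.Def_Steinberg
import Cfsg.Prelude.Def_ChevB2
import Cfsg.Prelude.Def_KGroupFacts
import Cfsg.Agent.Lib.Helper9.SpStG

set_option autoImplicit false

/-!
# The Steinberg group of type `B₂` is `Sp₄`; transfer of the Schur multiplier
-/

namespace Cfsg.Agent.Lib.Helper9.SpSt

open Cfsg Cfsg.Lie Matrix

universe u v

/-- the property `HasSchurMultiplier` is invariant under isomorphism -/
theorem hasSchurMultiplier_of_mulEquiv {G H : Type u} [Group G] [Group H] {A : Type v}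
    [CommGroup A] (e : G ≃* H) (h : Cfsg.HasSchurMultiplier G A) : Cfsg.HasSchurMultiplier H A := by
  obtain ⟨⟨Γ, iΓ, fΓ, σ, ⟨hs, hc, hd⟩, ⟨f⟩⟩, h2⟩ := h
  have hk : ∀ {Γ : Type u} [Group Γ] (σ : Γ →* G), (e.toMonoidHom.comp σ).ker = σ.ker := by
    intro Γ _ σ
    ext x
    simp [MonoidHom.mem_ker]
  have hk' : ∀ {Γ : Type u} [Group Γ] (σ : Γ →* H), (e.symm.toMonoidHom.comp σ).ker = σ.ker := by
    intro Γ _ σ
    ext x
    simp [MonoidHom.mem_ker]
  constructor
  · refine ⟨Γ, iΓ, fΓ, e.toMonoidHom.comp σ, ⟨e.surjective.comp hs, ?_, ?_⟩,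
      ⟨(MulEquiv.subgroupCongr (hk σ)).trans f⟩⟩
    · rw [hk]; exact hc
    · rw [hk]; exact hd
  · intro Γ _ _ σ hσ
    obtain ⟨hs', hc', hd'⟩ := hσ
    obtain ⟨π, hπ⟩ := h2 Γ (e.symm.toMonoidHom.comp σ)
      ⟨e.symm.surjective.comp hs', by rw [hk']; exact hc', by rw [hk']; exact hd'⟩
    exact ⟨(MulEquiv.subgroupCongr (hk' σ)).toMonoidHom.comp π,
      (MulEquiv.subgroupCongr (hk' σ)).surjective.comp hπ⟩

variable {K : Type u} [Field K]

/-- the group presented by Steinberg's relators of type `B₂` is `Sp₄(K)`, for `K ≠ 𝔽₂` -/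
noncomputable def steinbergEquiv (hK : ∃ a : K, a ≠ 0 ∧ a ≠ 1) :
    chevB2.SteinbergGroup K ≃* symplecticGroup (Fin 2) K :=
  MulEquiv.ofBijective (theta4 K) ⟨theta4_injective hK, theta4_surjective⟩

theorem steinbergEquiv_apply (hK : ∃ a : K, a ≠ 0 ∧ a ≠ 1) (g : chevB2.SteinbergGroup K) :
    steinbergEquiv hK g = theta4 K g := rfl

theorem steinbergEquiv_stGen (hK : ∃ a : K, a ≠ 0 ∧ a ≠ 1) (r : ℕ) (t : K) :
    steinbergEquiv hK (chevB2.stGen K r t) = xS r t :=
  theta4_stX r t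

theorem exists_ne_of_card [Fintype K] (hK : 3 ≤ Fintype.card K) : ∃ a : K, a ≠ 0 ∧ a ≠ 1 := by
  classical
  have hlt : ({0, 1} : Finset K).card < (Finset.univ : Finset K).card := by
    rw [Finset.card_univ]
    calc ({0, 1} : Finset K).card ≤ 2 := Finset.card_le_two
      _ < Fintype.card K := by omega
  obtain ⟨v, -, hv⟩ := Finset.exists_mem_notMem_of_card_lt_card hlt
  simp only [Finset.mem_insert, Finset.mem_singleton, not_or] at hv
  exact ⟨v, hv.1, hv.2⟩

/-- the Schur multiplier of `Sp₄(K)` is that of the Steinberg group of type `B₂` -/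
theorem sp4_split_of [Fintype K] (hK : 3 ≤ Fintype.card K)
    (h : Cfsg.HasCyclicSchurMultiplier (chevB2.SteinbergGroup K) 1) :
    Cfsg.HasCyclicSchurMultiplier (Matrix.symplecticGroup (Fin 2) K) 1 :=
  hasSchurMultiplier_of_mulEquiv (steinbergEquiv (exists_ne_of_card hK)) h

end Cfsg.Agent.Lib.Helper9.SpSt
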