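import Mathlib

set_option autoImplicit false

/-!
# Permutational wreath products `C_p ≀ Q` in coordinates
-/

namespace Cfsg.Agent.H9AF

open Equiv

/-- the point set: `p` points over each block `b : B`, plus leftover points `C` -/
abbrev Om (p : ℕ) (B C : Type) := (B × ZMod p) ⊕ C

variable {p : ℕ} [Fact p.Prime] {B C : Type}

/-- `(b, x) ↦ (q b, x + f b)` -/
def mk (f : B → ZMod p) (q : Perm B) : Perm (Om p B C) :=
  Equiv.sumCongr (Equiv.prodShear q (fun b => Equiv.addRight (f b))) (Equiv.refl C)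

@[simp] theorem mk_inl (f : B → ZMod p) (q : Perm B) (b : B) (x : ZMod p) :
    (mk f q : Perm (Om p B C)) (Sum.inl (b, x)) = Sum.inl (q b, x + f b) := rfl

@[simp] theorem mk_inr (f : B → ZMod p) (q : Perm B) (c : C) :
    (mk f q : Perm (Om p B C)) (Sum.inr c) = Sum.inr c := rfl

theorem mk_mul (f f' : B → ZMod p) (q q' : Perm B) :
    (mk f q : Perm (Om p B C)) * mk f' q' = mk (fun b => f' b + f (q' b)) (q * q') := by
  ext x
  rcases x with ⟨b, x⟩ | c
  · simp [Perm.mul_apply, add_assoc]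
  · simp [Perm.mul_apply]

theorem mk_one : (mk (0 : B → ZMod p) 1 : Perm (Om p B C)) = 1 := by
  ext x
  rcases x with ⟨b, x⟩ | c <;> simp

theorem mk_inv (f : B → ZMod p) (q : Perm B) :
    (mk f q : Perm (Om p B C))⁻¹ = mk (fun b => - f (q⁻¹ b)) q⁻¹ := by
  rw [inv_eq_iff_mul_eq_one, mk_mul]
  have h : (fun b => - f (q⁻¹ b) + f (q⁻¹ b)) = (0 : B → ZMod p) := by
    funext b; simp
  rw [h, mul_inv_cancel, mk_one]

theorem mk_inj {f f' : B → ZMod p} {q q' : Perm B}
    (h : (mk f q : Perm (Om p B C)) = mk f' q') : f = f' ∧ q = q' := by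
  have h1 : ∀ b : B, q b = q' b ∧ f b = f' b := by
    intro b
    have := congrArg (fun σ : Perm (Om p B C) => σ (Sum.inl (b, 0))) h
    simp only [mk_inl, zero_add, Sum.inl.injEq, Prod.mk.injEq] at this
    exact this
  exact ⟨funext fun b => (h1 b).2, Equiv.ext fun b => (h1 b).1⟩

variable (p C) in
/-- the wreath product `C_p ≀ Q` -/
def wr (Q : Subgroup (Perm B)) : Subgroup (Perm (Om p B C)) where
  carrier := {σ | ∃ (f : B → ZMod p) (q : Perm B), q ∈ Q ∧ σ = mk f q}
  mul_mem' := by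
    rintro _ _ ⟨f, q, hq, rfl⟩ ⟨f', q', hq', rfl⟩
    exact ⟨_, _, Q.mul_mem hq hq', mk_mul f f' q q'⟩
  one_mem' := ⟨0, 1, Q.one_mem, mk_one.symm⟩
  inv_mem' := by
    rintro _ ⟨f, q, hq, rfl⟩
    exact ⟨_, _, Q.inv_mem hq, mk_inv f q⟩

theorem mem_wr {Q : Subgroup (Perm B)} {σ : Perm (Om p B C)} :
    σ ∈ wr p C Q ↔ ∃ (f : B → ZMod p) (q : Perm B), q ∈ Q ∧ σ = mk f q := Iff.rfl

theorem mk_mem_wr {Q : Subgroup (Perm B)} {f : B → ZMod p} {q : Perm B} :
    (mk f q : Perm (Om p B C)) ∈ wr p C Q ↔ q ∈ Q := by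
  constructor
  · rintro ⟨f', q', hq', h⟩
    rw [(mk_inj h).2]; exact hq'
  · intro h; exact ⟨f, q, h, rfl⟩

theorem wr_mono {Q Q' : Subgroup (Perm B)} (h : Q ≤ Q') : wr p C Q ≤ wr p C Q' := by
  rintro _ ⟨f, q, hq, rfl⟩
  exact ⟨f, q, h hq, rfl⟩

variable (p C) in
/-- block permutations -/
def hat : Perm B →* Perm (Om p B C) where
  toFun q := mk 0 q
  map_one' := mk_one
  map_mul' q q' := by
    rw [mk_mul]; congr 1
    funext b; simp

variable (C) in
/-- the base group -/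
def ef : Multiplicative (B → ZMod p) →* Perm (Om p B C) where
  toFun f := mk (Multiplicative.toAdd f) 1
  map_one' := mk_one
  map_mul' f f' := by
    rw [mk_mul]
    congr 1
    funext b
    simp [add_comm]

@[simp] theorem hat_inl (q : Perm B) (b : B) (x : ZMod p) :
    hat p C q (Sum.inl (b, x)) = Sum.inl (q b, x) := by
  show (mk 0 q : Perm (Om p B C)) _ = _
  simp

@[simp] theorem hat_inr (q : Perm B) (c : C) : hat p C q (Sum.inr c) = Sum.inr c := rfl

@[simp] theorem ef_inl (f : B → ZMod p) (b : B) (x : ZMod p) :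
    ef C (Multiplicative.ofAdd f) (Sum.inl (b, x)) = Sum.inl (b, x + f b) := rfl

@[simp] theorem ef_inr (f : B → ZMod p) (c : C) :
    ef C (Multiplicative.ofAdd f) (Sum.inr c) = Sum.inr c := rfl

theorem mk_eq (f : B → ZMod p) (q : Perm B) :
    (mk f q : Perm (Om p B C)) = hat p C q * ef C (Multiplicative.ofAdd f) := by
  ext x
  rcases x with ⟨b, x⟩ | c <;> simp [Perm.mul_apply]

theorem hat_injective : Function.Injective (hat p C : Perm B →* Perm (Om p B C)) := by
  intro q q' h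
  exact (mk_inj h).2

theorem ef_injective : Function.Injective (ef C : Multiplicative (B → ZMod p) →* Perm (Om p B C)) := by
  intro f f' h
  exact (mk_inj h).1

theorem hat_mem_wr {Q : Subgroup (Perm B)} {q : Perm B} : hat p C q ∈ wr p C Q ↔ q ∈ Q :=
  mk_mem_wr

theorem ef_mem_wr (Q : Subgroup (Perm B)) (f : Multiplicative (B → ZMod p)) :
    ef C f ∈ wr p C Q := mk_mem_wr.mpr Q.one_mem

theorem hat_conj_ef (π : Perm B) (f : B → ZMod p) :
    hat p C π * ef C (Multiplicative.ofAdd f) * (hat p C π)⁻¹ =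
      ef C (Multiplicative.ofAdd (fun b => f (π⁻¹ b))) := by
  rw [mul_inv_eq_iff_eq_mul]
  ext x
  rcases x with ⟨b, x⟩ | c <;> simp [Perm.mul_apply]

end Cfsg.Agent.H9AF
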