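import Mathlib
import Cfsg.Agent.Lib.Helper9.AltFus1

set_option autoImplicit false

/-!
# The wreath product of a Sylow subgroup is a Sylow subgroup
-/

namespace Cfsg.Agent.H9AF

open Equiv

variable {p : ℕ} [Fact p.Prime] {B C : Type}

/-- being a Sylow `p`-subgroup of a symmetric group, by order -/
def IsSyl (p : ℕ) {α : Type} (P : Subgroup (Perm α)) : Prop :=
  Nat.card P = p ^ (Nat.card (Perm α)).factorization p

theorem card_wr [Finite B] (Q : Subgroup (Perm B)) :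
    Nat.card (wr p C Q) = p ^ Nat.card B * Nat.card Q := by
  have e : ((B → ZMod p) × Q) ≃ wr p C Q := by
    refine Equiv.ofBijective (fun x => ⟨mk x.1 x.2.1, x.1, x.2.1, x.2.2, rfl⟩) ⟨?_, ?_⟩
    · rintro ⟨f, q, hq⟩ ⟨f', q', hq'⟩ h
      have h1 := mk_inj (congrArg Subtype.val h)
      simp only at h1
      obtain ⟨rfl, rfl⟩ := h1
      rfl
    · rintro ⟨_, f, q, hq, rfl⟩
      exact ⟨⟨f, q, hq⟩, rfl⟩
  rw [← Nat.card_congr e, Nat.card_prod, Nat.card_fun, Nat.card_zmod]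

theorem isSyl_wr [Finite B] [Finite C] (hC : Nat.card C < p) (Q : Subgroup (Perm B))
    (hQ : IsSyl p Q) : IsSyl p (wr p C Q) := by
  have hp : p.Prime := Fact.out
  unfold IsSyl at hQ ⊢
  rw [card_wr, hQ, Nat.card_perm, Nat.card_perm, Nat.card_sum, Nat.card_prod, Nat.card_zmod,
    Nat.factorization_def _ hp, Nat.factorization_def _ hp, mul_comm (Nat.card B) p,
    padicValNat_factorial_mul_add _ hC, padicValNat_factorial_mul, ← pow_add, add_comm]

theorem IsSyl.exists_sylow {α : Type} [Finite α] {P : Subgroup (Perm α)} (h : IsSyl p P) :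
    ∃ S : Sylow p (Perm α), (S : Subgroup (Perm α)) = P :=
  ⟨Sylow.ofCard P h, Sylow.coe_ofCard P h⟩

theorem isSyl_sylow {α : Type} [Finite α] (S : Sylow p (Perm α)) :
    IsSyl p (S : Subgroup (Perm α)) := S.card_eq_multiplicity

theorem IsSyl.isPGroup {α : Type} [Finite α] {P : Subgroup (Perm α)} (h : IsSyl p P) :
    IsPGroup p P := IsPGroup.of_card h

/-- two Sylow subgroups are conjugate -/
theorem IsSyl.conj {α : Type} [Finite α] {P P' : Subgroup (Perm α)} (h : IsSyl p P)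
    (h' : IsSyl p P') : ∃ g : Perm α, ∀ x, x ∈ P ↔ g⁻¹ * x * g ∈ P' := by
  obtain ⟨S, hS⟩ := h.exists_sylow
  obtain ⟨S', hS'⟩ := h'.exists_sylow
  obtain ⟨g, hg⟩ := MulAction.exists_smul_eq (Perm α) S' S
  refine ⟨g, fun x => ?_⟩
  rw [← hS, ← hS', ← hg, Sylow.coe_subgroup_smul, Subgroup.mem_pointwise_smul_iff_inv_smul_mem]
  simp [MulAut.smul_def, MulAut.conj_apply]

/-- a `p`-subgroup is conjugate into a given Sylow subgroup -/
theorem IsSyl.exists_conj_le {α : Type} [Finite α] {P : Subgroup (Perm α)} (h : IsSyl p P)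
    {H : Subgroup (Perm α)} (hH : IsPGroup p H) : ∃ g : Perm α, ∀ x ∈ H, g⁻¹ * x * g ∈ P := by
  obtain ⟨S', hS'⟩ := hH.exists_le_sylow
  obtain ⟨g, hg⟩ := h.conj (isSyl_sylow S') |>.imp fun g hg => hg
  -- x ∈ P ↔ g⁻¹ x g ∈ S'
  refine ⟨g⁻¹, fun x hx => ?_⟩
  rw [hg]
  have : g⁻¹ * (g⁻¹⁻¹ * x * g⁻¹) * g = x := by group
  rw [this]
  exact hS' hx

end Cfsg.Agent.H9AF
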