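import Mathlib

set_option autoImplicit false

/-! S3777 (Vaughan-Lee) infrastructure: generating sets of subgroups above a subgroup `D` with
elementary abelian quotient. -/

namespace Cfsg.Agent.Lib.Helper9.VL

open Subgroup
open scoped commutatorElement

variable {G : Type*} [Group G]

/-- a subgroup containing the commutator subgroup is normal -/
theorem normal_of_commutator_le (D : Subgroup G) (hcomm : commutator G ≤ D) : D.Normal := by
  refine ⟨fun d hd g => ?_⟩
  have h1 : ⁅g, d⁆ ∈ commutator G := by
    rw [commutator_def]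
    exact Subgroup.commutator_mem_commutator (Subgroup.mem_top g) (Subgroup.mem_top d)
  have h2 : g * d * g⁻¹ = ⁅g, d⁆ * d := by
    rw [commutatorElement_def]; group
  rw [h2]
  exact D.mul_mem (hcomm h1) hd

/-- one step: adjoining `t ∉ D` with `t^p ∈ D` multiplies the index by `p` -/
theorem relIndex_sup_zpowers_of_pow_mem {p : ℕ} [hp : Fact p.Prime] (D : Subgroup G)
    (hcomm : commutator G ≤ D) (t : G) (ht : t ∉ D) (htp : t ^ p ∈ D) :
    D.relIndex (D ⊔ zpowers t) = p := by
  have hDn : D.Normal := normal_of_commutator_le D hcomm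
  rw [Subgroup.relIndex_sup_left]
  have h1 := Subgroup.relIndex_ker (QuotientGroup.mk' D) (K := zpowers t)
  rw [QuotientGroup.ker_mk'] at h1
  rw [h1, MonoidHom.map_zpowers, Nat.card_zpowers]
  apply orderOf_eq_prime
  · rw [← map_pow]
    exact (QuotientGroup.eq_one_iff _).mpr htp
  · intro h
    exact ht ((QuotientGroup.eq_one_iff _).mp h)

theorem coe_insert_closure (S : Finset G) (t : G) [DecidableEq G] :
    closure ((insert t S : Finset G) : Set G) = zpowers t ⊔ closure (S : Set G) := by
  rw [Finset.coe_insert, Set.insert_eq, Subgroup.closure_union, Subgroup.zpowers_eq_closure]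

/-- the main extraction lemma: from a generating set `T` of `Q` over `D` one can choose exactly
`k = log_p |Q : D|` elements generating `Q` over `D` -/
theorem exists_finset_subset_generating [Finite G] {p : ℕ} [hp : Fact p.Prime]
    (D : Subgroup G) (hcomm : commutator G ≤ D) (hpow : ∀ x : G, x ^ p ∈ D)
    (Q : Subgroup G) (hDQ : D ≤ Q) (k : ℕ) (hk : D.relIndex Q = p ^ k)
    (T : Set G) (hT : D ⊔ closure T = Q) :
    ∃ S : Finset G, S.card = k ∧ (S : Set G) ⊆ T ∧ (∀ s ∈ S, s ∉ D) ∧
      D ⊔ closure (S : Set G) = Q := by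
  classical
  have hTQ : closure T ≤ Q := by rw [← hT]; exact le_sup_right
  -- inductive claim
  have key : ∀ j : ℕ, j ≤ k → ∃ S : Finset G, S.card = j ∧ (S : Set G) ⊆ T ∧ (∀ s ∈ S, s ∉ D) ∧
      D.relIndex (D ⊔ closure (S : Set G)) = p ^ j := by
    intro j
    induction j with
    | zero =>
      intro _
      refine ⟨∅, rfl, by simp, by simp, ?_⟩
      rw [Finset.coe_empty, Subgroup.closure_empty, sup_bot_eq, pow_zero]
      exact Subgroup.relIndex_self D
    | succ j ih =>
      intro hj
      obtain ⟨S, hScard, hST, hSD, hSidx⟩ := ih (by omega)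
      set E := D ⊔ closure (S : Set G) with hE
      have hDE : D ≤ E := le_sup_left
      have hEQ : E ≤ Q := by
        rw [hE, sup_le_iff]
        exact ⟨hDQ, (Subgroup.closure_mono hST).trans hTQ⟩
      -- some element of `T` lies outside `E`
      have hex : ∃ t ∈ T, t ∉ E := by
        by_contra hcon
        have hcon' : ∀ t ∈ T, t ∈ E := by
          intro t ht
          by_contra h
          exact hcon ⟨t, ht, h⟩
        have h1 : closure T ≤ E := (Subgroup.closure_le E).mpr hcon'
        have h2 : Q ≤ E := by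
          rw [← hT, sup_le_iff]; exact ⟨hDE, h1⟩
        have h3 : E = Q := le_antisymm hEQ h2
        rw [h3, hk] at hSidx
        have : k = j := Nat.pow_right_injective hp.out.two_le hSidx
        omega
      obtain ⟨t, htT, htE⟩ := hex
      have hcommE : commutator G ≤ E := hcomm.trans hDE
      have hstep := relIndex_sup_zpowers_of_pow_mem (p := p) E hcommE t htE (hDE (hpow t))
      have htS : t ∉ S := by
        intro h
        apply htE
        exact (le_sup_right : closure (S : Set G) ≤ E) (Subgroup.subset_closure h)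
      refine ⟨insert t S, ?_, ?_, ?_, ?_⟩
      · rw [Finset.card_insert_of_notMem htS, hScard]
      · rw [Finset.coe_insert]
        exact Set.insert_subset htT hST
      · intro s hs
        rcases Finset.mem_insert.mp hs with rfl | hs
        · intro h; exact htE (hDE h)
        · exact hSD s hs
      · rw [coe_insert_closure]
        have e1 : D ⊔ (zpowers t ⊔ closure (S : Set G)) = E ⊔ zpowers t := by
          rw [hE, sup_assoc, sup_comm (zpowers t)]
        rw [e1, ← Subgroup.relIndex_mul_relIndex D E (E ⊔ zpowers t) hDE le_sup_left, hSidx, hstep,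
          pow_succ]
  obtain ⟨S, hScard, hST, hSD, hSidx⟩ := key k le_rfl
  refine ⟨S, hScard, hST, hSD, ?_⟩
  set E := D ⊔ closure (S : Set G) with hE
  have hDE : D ≤ E := le_sup_left
  have hEQ : E ≤ Q := by
    rw [hE, sup_le_iff]
    exact ⟨hDQ, (Subgroup.closure_mono hST).trans hTQ⟩
  have h1 := Subgroup.relIndex_mul_relIndex D E Q hDE hEQ
  rw [hSidx, hk] at h1
  have hpos : 0 < p ^ k := pow_pos hp.out.pos k
  have h2 : E.relIndex Q = 1 := by
    have : p ^ k * E.relIndex Q = p ^ k * 1 := by rw [h1, mul_one]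
    exact Nat.eq_of_mul_eq_mul_left hpos this
  exact le_antisymm hEQ (Subgroup.relIndex_eq_one.mp h2)

/-- the version with `T = Q` -/
theorem exists_finset_generating [Finite G] {p : ℕ} [hp : Fact p.Prime]
    (D : Subgroup G) (hcomm : commutator G ≤ D) (hpow : ∀ x : G, x ^ p ∈ D)
    (Q : Subgroup G) (hDQ : D ≤ Q) (k : ℕ) (hk : D.relIndex Q = p ^ k) :
    ∃ S : Finset G, S.card = k ∧ (∀ s ∈ S, s ∈ Q) ∧ (∀ s ∈ S, s ∉ D) ∧
      D ⊔ closure (S : Set G) = Q := by
  have hT : D ⊔ closure (Q : Set G) = Q := by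
    rw [Subgroup.closure_eq, sup_eq_right.mpr hDQ]
  obtain ⟨S, h1, h2, h3, h4⟩ :=
    exists_finset_subset_generating D hcomm hpow Q hDQ k hk (Q : Set G) hT
  exact ⟨S, h1, fun s hs => h2 hs, h3, h4⟩

/-- the version with `Q = ⊤`, in index form -/
theorem exists_finset_generating_top [Finite G] {p : ℕ} [hp : Fact p.Prime]
    (D : Subgroup G) (hcomm : commutator G ≤ D) (hpow : ∀ x : G, x ^ p ∈ D)
    (k : ℕ) (hk : D.index = p ^ k) (T : Set G) (hT : D ⊔ closure T = ⊤) :
    ∃ S : Finset G, S.card = k ∧ (S : Set G) ⊆ T ∧ (∀ s ∈ S, s ∉ D) ∧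
      D ⊔ closure (S : Set G) = ⊤ := by
  apply exists_finset_subset_generating D hcomm hpow ⊤ le_top k _ T hT
  rw [Subgroup.relIndex_top_right, hk]

/-- conversely `|D ⊔ ⟨S⟩ : D|` divides `p ^ |S|` -/
theorem relIndex_sup_closure_dvd [Finite G] {p : ℕ} [hp : Fact p.Prime]
    (D : Subgroup G) (hcomm : commutator G ≤ D) (hpow : ∀ x : G, x ^ p ∈ D) (S : Finset G) :
    D.relIndex (D ⊔ closure (S : Set G)) ∣ p ^ S.card := by
  classical
  induction S using Finset.induction_on with
  | empty =>
    rw [Finset.coe_empty, Subgroup.closure_empty, sup_bot_eq, Subgroup.relIndex_self]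
    exact one_dvd _
  | insert t S htS ih =>
    set E := D ⊔ closure (S : Set G) with hE
    have hDE : D ≤ E := le_sup_left
    rw [coe_insert_closure, Finset.card_insert_of_notMem htS]
    have e1 : D ⊔ (zpowers t ⊔ closure (S : Set G)) = E ⊔ zpowers t := by
      rw [hE, sup_assoc, sup_comm (zpowers t)]
    rw [e1, ← Subgroup.relIndex_mul_relIndex D E (E ⊔ zpowers t) hDE le_sup_left, pow_succ]
    apply Nat.mul_dvd_mul ih
    by_cases htE : t ∈ E
    · have : E ⊔ zpowers t = E := by
        rw [sup_eq_left, Subgroup.zpowers_le]; exact htE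
      rw [this, Subgroup.relIndex_self]
      exact one_dvd _
    · rw [relIndex_sup_zpowers_of_pow_mem (p := p) E (hcomm.trans hDE) t htE (hDE (hpow t))]

theorem relIndex_sup_closure_le [Finite G] {p : ℕ} [hp : Fact p.Prime]
    (D : Subgroup G) (hcomm : commutator G ≤ D) (hpow : ∀ x : G, x ^ p ∈ D) (S : Finset G) :
    D.relIndex (D ⊔ closure (S : Set G)) ≤ p ^ S.card :=
  Nat.le_of_dvd (pow_pos hp.out.pos _) (relIndex_sup_closure_dvd D hcomm hpow S)

end Cfsg.Agent.Lib.Helper9.VL
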