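import Mathlib

set_option autoImplicit false

/-! S3777 (Vaughan-Lee) infrastructure: breadth under quotients, "Tool R", "Lemma 2". -/

namespace Cfsg.Agent.Lib.Helper9.VL

open scoped commutatorElement

variable {G : Type*} [Group G]

/-- the preimage of the centralizer of `uN` in `G/N` -/
theorem mem_comap_centralizer_mk (N : Subgroup G) [N.Normal] (u y : G) :
    y ∈ (Subgroup.centralizer {(QuotientGroup.mk' N u)}).comap (QuotientGroup.mk' N) ↔
      ⁅y, u⁆ ∈ N := by
  rw [Subgroup.mem_comap, Subgroup.mem_centralizer_iff]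
  constructor
  · intro h
    have h1 := h _ (Set.mem_singleton _)
    rw [← QuotientGroup.eq_one_iff, commutatorElement_def]
    have h2 : (QuotientGroup.mk' N u) * (QuotientGroup.mk' N y) =
        (QuotientGroup.mk' N y) * (QuotientGroup.mk' N u) := h1
    have : ((y * u * y⁻¹ * u⁻¹ : G) : G ⧸ N) =
        (QuotientGroup.mk' N y) * (QuotientGroup.mk' N u) * (QuotientGroup.mk' N y)⁻¹ *
          (QuotientGroup.mk' N u)⁻¹ := by
      simp
    rw [this, ← h2]
    group
  · intro h z hz
    rw [Set.mem_singleton_iff] at hz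
    subst hz
    rw [← QuotientGroup.eq_one_iff, commutatorElement_def] at h
    have h2 : (QuotientGroup.mk' N y) * (QuotientGroup.mk' N u) * (QuotientGroup.mk' N y)⁻¹ *
          (QuotientGroup.mk' N u)⁻¹ = 1 := by
      have : ((y * u * y⁻¹ * u⁻¹ : G) : G ⧸ N) =
        (QuotientGroup.mk' N y) * (QuotientGroup.mk' N u) * (QuotientGroup.mk' N y)⁻¹ *
          (QuotientGroup.mk' N u)⁻¹ := by
        simp
      rw [← this]; exact h
    calc (QuotientGroup.mk' N u) * (QuotientGroup.mk' N y)
        = ((QuotientGroup.mk' N y) * (QuotientGroup.mk' N u) * (QuotientGroup.mk' N y)⁻¹ *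
          (QuotientGroup.mk' N u)⁻¹)⁻¹ * ((QuotientGroup.mk' N y) * (QuotientGroup.mk' N u)) := by
          group
      _ = (QuotientGroup.mk' N y) * (QuotientGroup.mk' N u) := by rw [h2, inv_one, one_mul]

theorem centralizer_le_comap (N : Subgroup G) [N.Normal] (u : G) :
    Subgroup.centralizer {u} ≤
      (Subgroup.centralizer {(QuotientGroup.mk' N u)}).comap (QuotientGroup.mk' N) := by
  intro y hy
  rw [mem_comap_centralizer_mk]
  have h1 : u * y = y * u := (Subgroup.mem_centralizer_iff.mp hy) u (Set.mem_singleton _)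
  have : ⁅y, u⁆ = 1 := by
    rw [commutatorElement_def, ← h1]; group
  rw [this]; exact one_mem _

/-- T1 : breadth does not grow in quotients -/
theorem index_centralizer_quotient_le [Finite G] (N : Subgroup G) [N.Normal] (u : G) :
    (Subgroup.centralizer {(QuotientGroup.mk' N u)}).index ≤ (Subgroup.centralizer {u}).index := by
  have h1 := Subgroup.index_comap_of_surjective
    (Subgroup.centralizer {(QuotientGroup.mk' N u)}) (QuotientGroup.mk'_surjective N)
  rw [← h1]
  exact Nat.le_of_dvd (Nat.pos_of_ne_zero Subgroup.index_ne_zero_of_finite)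
    (Subgroup.index_dvd_of_le (centralizer_le_comap N u))

/-- T1, exact drop : a nontrivial commutator `⁅y,u⁆ ∈ N` makes the breadth drop -/
theorem index_centralizer_quotient_mul_le [Finite G] {p : ℕ} [hp : Fact p.Prime]
    (hG : IsPGroup p G) (N : Subgroup G) [N.Normal] (u y : G) (hy : ⁅y, u⁆ ∈ N)
    (hy1 : ⁅y, u⁆ ≠ 1) :
    (Subgroup.centralizer {(QuotientGroup.mk' N u)}).index * p ≤
      (Subgroup.centralizer {u}).index := by
  set D := (Subgroup.centralizer {(QuotientGroup.mk' N u)}).comap (QuotientGroup.mk' N) with hD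
  have h1 : D.index = (Subgroup.centralizer {(QuotientGroup.mk' N u)}).index :=
    Subgroup.index_comap_of_surjective _ (QuotientGroup.mk'_surjective N)
  have hle : Subgroup.centralizer {u} ≤ D := centralizer_le_comap N u
  have h2 := Subgroup.relIndex_mul_index hle
  have hyD : y ∈ D := (mem_comap_centralizer_mk N u y).mpr hy
  have hyC : y ∉ Subgroup.centralizer {u} := by
    intro h
    apply hy1
    have h1 : u * y = y * u := (Subgroup.mem_centralizer_iff.mp h) u (Set.mem_singleton _)
    rw [commutatorElement_def, ← h1]; group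
  have h3 : (Subgroup.centralizer {u}).relIndex D ≠ 1 := by
    intro h
    exact hyC ((Subgroup.relIndex_eq_one.mp h) hyD)
  obtain ⟨k, hk⟩ : ∃ k, (Subgroup.centralizer {u}).relIndex D = p ^ k := by
    have hDp : IsPGroup p D := hG.to_subgroup D
    exact hDp.index _
  have hk1 : k ≠ 0 := by
    intro h; rw [h, pow_zero] at hk; exact h3 hk
  have h4 : p ≤ (Subgroup.centralizer {u}).relIndex D := by
    rw [hk]
    calc p = p ^ 1 := (pow_one p).symm
      _ ≤ p ^ k := Nat.pow_le_pow_right hp.out.pos (Nat.one_le_iff_ne_zero.mpr hk1)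
  rw [← h1, ← h2, mul_comm]
  exact Nat.mul_le_mul_right _ h4

/-- T5 : translation by a central element does not change the centralizer -/
theorem centralizer_mul_of_mem_center {z v : G} (hz : z ∈ Subgroup.center G) :
    Subgroup.centralizer {z * v} = Subgroup.centralizer {v} := by
  ext y
  rw [Subgroup.mem_centralizer_iff, Subgroup.mem_centralizer_iff]
  have hzy : z * y = y * z := (Subgroup.mem_center_iff.mp hz y).symm
  constructor
  · intro h w hw
    rw [Set.mem_singleton_iff] at hw
    subst hw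
    have h1 := h (z * w) (Set.mem_singleton _)
    have h2 : z * (w * y) = z * (y * w) := by
      calc z * (w * y) = z * w * y := (mul_assoc _ _ _).symm
        _ = y * (z * w) := h1
        _ = (y * z) * w := (mul_assoc _ _ _).symm
        _ = (z * y) * w := by rw [hzy]
        _ = z * (y * w) := mul_assoc _ _ _
    exact mul_left_cancel h2
  · intro h w hw
    rw [Set.mem_singleton_iff] at hw
    subst hw
    have h1 : v * y = y * v := h v (Set.mem_singleton _)
    calc z * v * y = z * (v * y) := mul_assoc _ _ _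
      _ = z * (y * v) := by rw [h1]
      _ = (z * y) * v := (mul_assoc _ _ _).symm
      _ = (y * z) * v := by rw [hzy]
      _ = y * (z * v) := mul_assoc _ _ _

/-- if all commutators `⁅y,g⁆` lie in `N` then `gN` is central in `G/N` -/
theorem mk_mem_center_of_forall_commutator_mem (N : Subgroup G) [N.Normal] (g : G)
    (hN : ∀ y : G, ⁅y, g⁆ ∈ N) : QuotientGroup.mk' N g ∈ Subgroup.center (G ⧸ N) := by
  rw [Subgroup.mem_center_iff]
  intro x
  obtain ⟨y, rfl⟩ := QuotientGroup.mk'_surjective N x
  have h := (mem_comap_centralizer_mk N g y).mpr (hN y)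
  rw [Subgroup.mem_comap, Subgroup.mem_centralizer_iff] at h
  exact (h _ (Set.mem_singleton _)).symm

/-- T7, "Tool R": if `g ∉ M`, `C_G(g) ≤ M'`, all `u ∉ M` have `|G : C_G(u)| ≤ p^b`, and `N` is a
normal subgroup containing all commutators `⁅y,g⁆`, then every `v ∉ M'` has
`|G/N : C_{G/N}(vN)| * p ≤ p^b`. -/
theorem toolR [Finite G] {p : ℕ} [Fact p.Prime] (hG : IsPGroup p G) (b : ℕ)
    (M M' : Subgroup G) (g : G) (hgM : g ∉ M) (hC : Subgroup.centralizer {g} ≤ M')
    (hb : ∀ u, u ∉ M → (Subgroup.centralizer {u}).index ≤ p ^ b)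
    (N : Subgroup G) [N.Normal] (hN : ∀ y : G, ⁅y, g⁆ ∈ N) (v : G) (hv : v ∉ M') :
    (Subgroup.centralizer {(QuotientGroup.mk' N v)}).index * p ≤ p ^ b := by
  have hgM' : g ∈ M' := hC (Subgroup.mem_centralizer_iff.mpr (fun w hw => by
    rw [Set.mem_singleton_iff] at hw; rw [hw]))
  -- the case of an element outside `M` and `M'`
  have key : ∀ w, w ∉ M → w ∉ M' →
      (Subgroup.centralizer {(QuotientGroup.mk' N w)}).index * p ≤ p ^ b := by
    intro w hwM hwM'
    have h1 : ⁅g, w⁆ ∈ N := by
      have := N.inv_mem (hN w)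
      rwa [commutatorElement_inv] at this
    have h2 : ⁅g, w⁆ ≠ 1 := by
      intro h
      apply hwM'
      apply hC
      rw [Subgroup.mem_centralizer_iff]
      intro x hx
      rw [Set.mem_singleton_iff] at hx
      subst hx
      exact (commutatorElement_eq_one_iff_mul_comm.mp h)
    exact (index_centralizer_quotient_mul_le hG N w g h1 h2).trans (hb w hwM)
  by_cases hvM : v ∈ M
  · have hw1 : g * v ∉ M := by
      intro h
      apply hgM
      have := M.mul_mem h (M.inv_mem hvM)
      rwa [mul_inv_cancel_right] at this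
    have hw2 : g * v ∉ M' := by
      intro h
      apply hv
      have := M'.mul_mem (M'.inv_mem hgM') h
      rwa [inv_mul_cancel_left] at this
    have h3 := key (g * v) hw1 hw2
    have h4 : Subgroup.centralizer {(QuotientGroup.mk' N (g * v))} =
        Subgroup.centralizer {(QuotientGroup.mk' N v)} := by
      rw [map_mul]
      exact centralizer_mul_of_mem_center (mk_mem_center_of_forall_commutator_mem N g hN)
    rw [h4] at h3
    exact h3
  · exact key v hvM hv

section lemma2

variable {Q : Type*} [Group Q]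

/-- the commutator map `a ↦ ⁅a,t⁆` on an abelian normal subgroup, as a homomorphism -/
noncomputable def commHom (A : Subgroup Q) [hAn : A.Normal]
    (hA : ∀ a ∈ A, ∀ b ∈ A, a * b = b * a) (t : Q) : A →* A where
  toFun a := ⟨⁅(a : Q), t⁆, by
    rw [commutatorElement_def]
    have h1 : t * (a : Q)⁻¹ * t⁻¹ ∈ A := hAn.conj_mem _ (A.inv_mem a.2) t
    have : (a : Q) * t * (a : Q)⁻¹ * t⁻¹ = (a : Q) * (t * (a : Q)⁻¹ * t⁻¹) := by group
    rw [this]
    exact A.mul_mem a.2 h1⟩
  map_one' := by
    apply Subtype.ext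
    simp
  map_mul' a b := by
    apply Subtype.ext
    show ⁅((a * b : A) : Q), t⁆ = ⁅(a : Q), t⁆ * ⁅(b : Q), t⁆
    have hc : t * (a : Q)⁻¹ * t⁻¹ ∈ A := hAn.conj_mem _ (A.inv_mem a.2) t
    have hd : ⁅(b : Q), t⁆ ∈ A := by
      rw [commutatorElement_def]
      have h1 : t * (b : Q)⁻¹ * t⁻¹ ∈ A := hAn.conj_mem _ (A.inv_mem b.2) t
      have : (b : Q) * t * (b : Q)⁻¹ * t⁻¹ = (b : Q) * (t * (b : Q)⁻¹ * t⁻¹) := by group
      rw [this]
      exact A.mul_mem b.2 h1
    have hcomm := hA _ hd _ hc
    calc ⁅((a * b : A) : Q), t⁆ = (a : Q) * (⁅(b : Q), t⁆ * (t * (a : Q)⁻¹ * t⁻¹)) := by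
          rw [commutatorElement_def, commutatorElement_def, Subgroup.coe_mul]; group
      _ = (a : Q) * ((t * (a : Q)⁻¹ * t⁻¹) * ⁅(b : Q), t⁆) := by rw [hcomm]
      _ = ⁅(a : Q), t⁆ * ⁅(b : Q), t⁆ := by
          rw [commutatorElement_def, commutatorElement_def]; group

theorem commHom_apply (A : Subgroup Q) [A.Normal]
    (hA : ∀ a ∈ A, ∀ b ∈ A, a * b = b * a) (t : Q) (a : A) :
    ((commHom A hA t a : A) : Q) = ⁅(a : Q), t⁆ := rfl

/-- a group `Q = A⟨t⟩` with `A` abelian normal has `|Q'| ≤ |A : C_A(t)|` -/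
theorem card_commutator_le_relIndex [Finite Q] (A : Subgroup Q) [hAn : A.Normal]
    (hA : ∀ a ∈ A, ∀ b ∈ A, a * b = b * a) (t : Q) (htop : A ⊔ Subgroup.zpowers t = ⊤) :
    Nat.card (commutator Q) ≤ (Subgroup.centralizer {t}).relIndex A := by
  obtain ⟨f, hf⟩ : ∃ f : A →* A, f = commHom A hA t := ⟨_, rfl⟩
  have hfa : ∀ a : A, ((f a : A) : Q) = ⁅(a : Q), t⁆ := by
    intro a; rw [hf]; rfl
  obtain ⟨L, hL⟩ : ∃ L : Subgroup Q, L = f.range.map A.subtype := ⟨_, rfl⟩
  have hLmem : ∀ x, x ∈ L ↔ ∃ a : A, ⁅(a : Q), t⁆ = x := by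
    intro x
    rw [hL, Subgroup.mem_map]
    constructor
    · rintro ⟨y, ⟨a, rfl⟩, rfl⟩
      exact ⟨a, (hfa a).symm⟩
    · rintro ⟨a, rfl⟩
      exact ⟨f a, ⟨a, rfl⟩, hfa a⟩
  have hLA : L ≤ A := by
    intro x hx
    obtain ⟨a, rfl⟩ := (hLmem x).mp hx
    rw [← hfa a]
    exact (f a).2
  have hconj : ∀ (a : A) (s : Q), s * ⁅(a : Q), t⁆ * s⁻¹ = ⁅s * (a : Q) * s⁻¹, s * t * s⁻¹⁆ := by
    intro a s
    rw [commutatorElement_def, commutatorElement_def]; group
  -- `L` is normal
  have hLn : L.Normal := by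
    rw [← Subgroup.normalizer_eq_top_iff, eq_top_iff, ← htop, sup_le_iff]
    constructor
    · intro a ha
      rw [Subgroup.mem_normalizer_iff]
      intro h
      constructor
      · intro hh
        have h1 : a * h = h * a := hA a ha h (hLA hh)
        have : a * h * a⁻¹ = h := by rw [h1]; group
        rw [this]; exact hh
      · intro hh
        have h0 : a * h * a⁻¹ ∈ A := hLA hh
        have hhA : h ∈ A := by
          have := A.mul_mem (A.mul_mem (A.inv_mem ha) h0) ha
          have e : a⁻¹ * (a * h * a⁻¹) * a = h := by group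
          rwa [e] at this
        have h1 : a * h = h * a := hA a ha h hhA
        have : a * h * a⁻¹ = h := by rw [h1]; group
        rw [this] at hh; exact hh
    · rw [Subgroup.zpowers_le, Subgroup.mem_normalizer_iff]
      intro h
      constructor
      · intro hh
        obtain ⟨a, rfl⟩ := (hLmem h).mp hh
        rw [hconj a t]
        have e : t * t * t⁻¹ = t := by group
        rw [e]
        exact (hLmem _).mpr ⟨⟨t * (a : Q) * t⁻¹, hAn.conj_mem _ a.2 t⟩, rfl⟩
      · intro hh
        obtain ⟨a, ha⟩ := (hLmem _).mp hh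
        have e1 : h = t⁻¹ * ⁅(a : Q), t⁆ * (t⁻¹)⁻¹ := by rw [ha]; group
        rw [e1, hconj a t⁻¹]
        have e : t⁻¹ * t * (t⁻¹)⁻¹ = t := by group
        rw [e]
        exact (hLmem _).mpr ⟨⟨t⁻¹ * (a : Q) * (t⁻¹)⁻¹, hAn.conj_mem _ a.2 t⁻¹⟩, rfl⟩
  -- the quotient is commutative
  have hcomm : commutator Q ≤ L := by
    rw [← Subgroup.Normal.quotient_commutative_iff_commutator_le]
    have hcen : ∀ u : Q, (∀ a ∈ A, ⁅a, u⁆ ∈ L) → ⁅t, u⁆ ∈ L →
        QuotientGroup.mk' L u ∈ Subgroup.center (Q ⧸ L) := by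
      intro u h1 h2
      have h3 : (⊤ : Subgroup Q) ≤
          (Subgroup.centralizer {(QuotientGroup.mk' L u)}).comap (QuotientGroup.mk' L) := by
        rw [← htop, sup_le_iff]
        constructor
        · intro a ha
          exact (mem_comap_centralizer_mk L u a).mpr (h1 a ha)
        · rw [Subgroup.zpowers_le]
          exact (mem_comap_centralizer_mk L u t).mpr h2
      rw [Subgroup.mem_center_iff]
      intro x
      obtain ⟨y, rfl⟩ := QuotientGroup.mk'_surjective L x
      have h4 := h3 (Subgroup.mem_top y)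
      rw [Subgroup.mem_comap, Subgroup.mem_centralizer_iff] at h4
      exact (h4 _ (Set.mem_singleton _)).symm
    have ht : QuotientGroup.mk' L t ∈ Subgroup.center (Q ⧸ L) := by
      apply hcen
      · intro a ha
        exact (hLmem _).mpr ⟨⟨a, ha⟩, rfl⟩
      · rw [commutatorElement_self]; exact L.one_mem
    have hAc : ∀ a ∈ A, QuotientGroup.mk' L a ∈ Subgroup.center (Q ⧸ L) := by
      intro a ha
      apply hcen
      · intro b hb
        have : ⁅b, a⁆ = 1 := commutatorElement_eq_one_iff_mul_comm.mpr (hA b hb a ha)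
        rw [this]; exact L.one_mem
      · have h1 : ⁅a, t⁆ ∈ L := (hLmem _).mpr ⟨⟨a, ha⟩, rfl⟩
        have := L.inv_mem h1
        rwa [commutatorElement_inv] at this
    have hall : (⊤ : Subgroup Q) ≤ (Subgroup.center (Q ⧸ L)).comap (QuotientGroup.mk' L) := by
      rw [← htop, sup_le_iff]
      constructor
      · intro a ha; exact hAc a ha
      · rw [Subgroup.zpowers_le]; exact ht
    refine ⟨⟨fun x y => ?_⟩⟩
    obtain ⟨x', rfl⟩ := QuotientGroup.mk'_surjective L x
    have hx : QuotientGroup.mk' L x' ∈ Subgroup.center (Q ⧸ L) := hall (Subgroup.mem_top x')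
    exact (Subgroup.mem_center_iff.mp hx y).symm
  -- cardinalities
  have hker : f.ker = (Subgroup.centralizer {t}).subgroupOf A := by
    ext a
    rw [MonoidHom.mem_ker, Subgroup.mem_subgroupOf, Subgroup.mem_centralizer_iff]
    constructor
    · intro h w hw
      rw [Set.mem_singleton_iff] at hw
      subst hw
      have h1 : ⁅(a : Q), w⁆ = 1 := by rw [← hfa a, h]; rfl
      exact (commutatorElement_eq_one_iff_mul_comm.mp h1).symm
    · intro h
      apply Subtype.ext
      rw [hfa a]
      exact commutatorElement_eq_one_iff_mul_comm.mpr (h t (Set.mem_singleton _)).symm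
  have hcardL : Nat.card L = Nat.card f.range := by
    rw [hL]
    exact Subgroup.card_map_of_injective (Subgroup.subtype_injective A)
  calc Nat.card (commutator Q) ≤ Nat.card L := Subgroup.card_le_of_le hcomm
    _ = Nat.card f.range := hcardL
    _ = f.ker.index := (Subgroup.index_ker f).symm
    _ = (Subgroup.centralizer {t}).relIndex A := by rw [hker]; rfl

end lemma2

/-- a subgroup of prime index together with an element outside it generates the group -/
theorem sup_zpowers_eq_top_of_index_prime [Finite G] {p : ℕ} [hp : Fact p.Prime]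
    (H : Subgroup G) (hH : H.index = p) (y : G) (hy : y ∉ H) : H ⊔ Subgroup.zpowers y = ⊤ := by
  have hle : H ≤ H ⊔ Subgroup.zpowers y := le_sup_left
  have h1 := Subgroup.relIndex_mul_index hle
  rw [hH] at h1
  have h2 : (H ⊔ Subgroup.zpowers y).index ∣ p := Dvd.intro_left _ h1
  rcases (Nat.dvd_prime hp.out).mp h2 with h3 | h3
  · exact Subgroup.index_eq_one.mp h3
  · exfalso
    rw [h3] at h1
    have h4 : H.relIndex (H ⊔ Subgroup.zpowers y) = 1 := by
      have hp0 : 0 < p := hp.out.pos
      exact Nat.eq_of_mul_eq_mul_right hp0 (by rw [h1, one_mul])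
    have h5 := Subgroup.relIndex_eq_one.mp h4
    apply hy
    apply h5
    exact (le_sup_right : Subgroup.zpowers y ≤ H ⊔ Subgroup.zpowers y)
      (Subgroup.mem_zpowers y)

/-- T4, "Lemma 2": for `H` normal of index `p` and `y ∉ H`, `|G'| ≤ |H'| |G : C_G(y)|`. -/
theorem card_commutator_le_mul_index [Finite G] {p : ℕ} [hp : Fact p.Prime]
    (H : Subgroup G) [hHn : H.Normal] (hH : H.index = p) (y : G) (hy : y ∉ H) :
    Nat.card (commutator G) ≤ Nat.card (commutator H) * (Subgroup.centralizer {y}).index := by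
  obtain ⟨K, hK⟩ : ∃ K : Subgroup G, K = ⁅H, H⁆ := ⟨_, rfl⟩
  have hKn : K.Normal := by rw [hK]; infer_instance
  have hKcard : Nat.card K = Nat.card (commutator H) := by
    rw [hK, ← Subgroup.map_subtype_commutator]
    exact Subgroup.card_map_of_injective (Subgroup.subtype_injective H)
  have hKH : K ≤ H := by rw [hK]; exact Subgroup.commutator_le_left H H
  have hKG : K ≤ commutator G := by
    rw [hK, commutator_def]
    exact Subgroup.commutator_mono le_top le_top
  have hs := QuotientGroup.mk'_surjective K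
  obtain ⟨A, hAdef⟩ : ∃ A : Subgroup (G ⧸ K), A = H.map (QuotientGroup.mk' K) := ⟨_, rfl⟩
  have hAn : A.Normal := by
    rw [hAdef]; exact Subgroup.Normal.map hHn _ hs
  have hA : ∀ a ∈ A, ∀ b ∈ A, a * b = b * a := by
    intro a ha b hb
    rw [hAdef] at ha hb
    obtain ⟨h₁, hh₁, rfl⟩ := Subgroup.mem_map.mp ha
    obtain ⟨h₂, hh₂, rfl⟩ := Subgroup.mem_map.mp hb
    have h1 : ⁅h₁, h₂⁆ ∈ K := by
      rw [hK]; exact Subgroup.commutator_mem_commutator hh₁ hh₂
    have h2 := (mem_comap_centralizer_mk K h₂ h₁).mpr h1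
    rw [Subgroup.mem_comap, Subgroup.mem_centralizer_iff] at h2
    exact (h2 _ (Set.mem_singleton _)).symm
  have htop : A ⊔ Subgroup.zpowers (QuotientGroup.mk' K y) = ⊤ := by
    have h1 := sup_zpowers_eq_top_of_index_prime H hH y hy
    have h2 := congrArg (Subgroup.map (QuotientGroup.mk' K)) h1
    rw [Subgroup.map_sup, Subgroup.map_top_of_surjective _ hs, MonoidHom.map_zpowers] at h2
    rw [hAdef]; exact h2
  have h1 := card_commutator_le_relIndex A hA (QuotientGroup.mk' K y) htop
  have h2 : (Subgroup.centralizer {(QuotientGroup.mk' K y)}).relIndex A ≤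
      (Subgroup.centralizer {(QuotientGroup.mk' K y)}).index := by
    rw [← Subgroup.relIndex_top_right]
    apply Subgroup.relIndex_le_of_le_right le_top
    rw [Subgroup.relIndex_top_right]
    exact Subgroup.index_ne_zero_of_finite
  have h3 := index_centralizer_quotient_le K y
  -- `|G'| = |K| |(G/K)'|`
  have hmap : (commutator G).map (QuotientGroup.mk' K) = commutator (G ⧸ K) := by
    rw [commutator_def, commutator_def, Subgroup.map_commutator,
      Subgroup.map_top_of_surjective _ hs]
  have hidx : ((commutator G).map (QuotientGroup.mk' K)).index = (commutator G).index := by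
    apply Subgroup.index_map_eq _ hs
    rw [QuotientGroup.ker_mk']; exact hKG
  have e1 := Subgroup.card_mul_index (commutator G)
  have e2 := Subgroup.card_mul_index ((commutator G).map (QuotientGroup.mk' K))
  have e3 := Subgroup.card_eq_card_quotient_mul_card_subgroup K
  rw [hidx, hmap] at e2
  have hpos : 0 < (commutator G).index := Nat.pos_of_ne_zero Subgroup.index_ne_zero_of_finite
  have e4 : Nat.card (commutator G) = Nat.card (commutator (G ⧸ K)) * Nat.card K := by
    apply Nat.eq_of_mul_eq_mul_right hpos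
    rw [e1, e3, ← e2]; ring
  rw [e4, hKcard, mul_comm]
  exact Nat.mul_le_mul_left _ (h1.trans (h2.trans h3))

end Cfsg.Agent.Lib.Helper9.VL
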