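import Mathlib

set_option autoImplicit false

namespace Cfsg.Agent.Lib.Helper9

/-- A nontrivial finite `p`-subgroup contains a central element of order `p`. -/
theorem exists_central_order_p {Ω : Type*} [Group Ω] {p : ℕ} [Fact p.Prime] {P : Subgroup Ω} [Finite P]
    (hP : IsPGroup p P) (hne : P ≠ ⊥) :
    ∃ z ∈ P, orderOf z = p ∧ ∀ x ∈ P, x * z = z * x := by
  haveI : Nontrivial P := (Subgroup.nontrivial_iff_ne_bot P).mpr hne
  haveI := hP.center_nontrivial
  have hZp : IsPGroup p (Subgroup.center P) := hP.to_subgroup _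
  obtain ⟨n, hn⟩ := IsPGroup.iff_card.mp hZp
  have hn0 : n ≠ 0 := by
    rintro rfl
    have h1 : Nat.card (Subgroup.center P) = 1 := by simpa using hn
    have := Finite.one_lt_card (α := Subgroup.center P)
    omega
  have hdvd : p ∣ Nat.card (Subgroup.center P) := by
    rw [hn]
    exact dvd_pow_self p hn0
  obtain ⟨z, hz⟩ := exists_prime_orderOf_dvd_card' p hdvd
  refine ⟨((z : P) : Ω), (z : P).2, ?_, fun x hx => ?_⟩
  · rw [← hz, Subgroup.orderOf_coe, Subgroup.orderOf_coe]
  · have h1 := Subgroup.mem_center_iff.mp z.2 ⟨x, hx⟩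
    exact congrArg (fun y : P => (y : Ω)) h1

end Cfsg.Agent.Lib.Helper9
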