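import Cfsg.Agent.Lib.Helper9.WG_R1
import Cfsg.Agent.Lib.Helper7.WG_R3
import Cfsg.Agent.Lib.Helper9.SpRoot1

set_option autoImplicit false

/-!
S2524, package PK-R5: `Sp (m+1)` is generated by `ιS (Sp 1)` together with the parts `X`, `Y` of the
Heisenberg group `H₁`.

Proof: the subgroup `H` they generate contains the long root group `zE = ιS z1`, that is all
transvections with centre `e₀`; the set of centres `p` all of whose transvections lie in `H` is
stable under `H` and under scalars, so it contains `f₀ = wS e₀`, then every vector `ηE x v t f₀`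
(these are the vectors with `f₀`-coordinate `1`), then every vector with nonzero `f₀`-coordinate,
and a vector `p` with zero `f₀`-coordinate is `τ_r (p + r)` for a suitable `r`.
-/

namespace Cfsg.Agent.Lib.Helper2.WG

open Matrix Cfsg Cfsg.Agent.H9SpF Cfsg.Agent.Lib.Helper6.Siegel Cfsg.Agent.Lib.Helper1.SUMin

universe u

namespace PkR5

open Cfsg.Agent.H9SpRoot Cfsg.Agent.Lib.Helper2.Symp

section vec
variable {F : Type u} [Field F] {m : ℕ}

/-- the vector with coordinates `a` at `e₀`, `u` at `e_j`, `b` at `f₀`, `w` at `f_j` -/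
def mkV (a : F) (u : Fin m → F) (b : F) (w : Fin m → F) : Fin (m + 1) ⊕ Fin (m + 1) → F :=
  Sum.elim (Fin.cons a u) (Fin.cons b w)

theorem mkV_eta (p : Fin (m + 1) ⊕ Fin (m + 1) → F) :
    p = mkV (p (Sum.inl 0)) (fun j => p (Sum.inl j.succ)) (p (Sum.inr 0))
      (fun j => p (Sum.inr j.succ)) := by
  funext i
  rcases i with i | i <;> refine Fin.cases ?_ (fun i' => ?_) i <;> simp [mkV]

theorem single_inl_zero :
    (Pi.single (Sum.inl 0) 1 : Fin (m + 1) ⊕ Fin (m + 1) → F) = mkV 1 0 0 0 := by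
  funext i
  rcases i with i | i <;> refine Fin.cases ?_ (fun i' => ?_) i <;>
    simp [mkV, Pi.single_apply, Fin.succ_ne_zero]

theorem single_inr_zero :
    (Pi.single (Sum.inr 0) 1 : Fin (m + 1) ⊕ Fin (m + 1) → F) = mkV 0 0 1 0 := by
  funext i
  rcases i with i | i <;> refine Fin.cases ?_ (fun i' => ?_) i <;>
    simp [mkV, Pi.single_apply, Fin.succ_ne_zero]

theorem cons_add_cons (a b : F) (u w : Fin m → F) :
    (Fin.cons a u : Fin (m + 1) → F) + Fin.cons b w = Fin.cons (a + b) (u + w) := by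
  funext i
  refine Fin.cases ?_ (fun i' => ?_) i <;> simp

theorem bordM_mulVec_cons (a : F) (r c : Fin m → F) (M : Matrix (Fin m) (Fin m) F) (b : F)
    (u : Fin m → F) :
    r3_bordM a r c M *ᵥ (Fin.cons b u : Fin (m + 1) → F) =
      Fin.cons (a * b + r ⬝ᵥ u) (b • c + M *ᵥ u) := by
  funext i
  refine Fin.cases ?_ (fun i' => ?_) i
  · simp [Matrix.mulVec, dotProduct, Fin.sum_univ_succ]
  · simp [Matrix.mulVec, dotProduct, Fin.sum_univ_succ, mul_comm]

theorem fromBlocks_mulVec_mkV (A B C D : Matrix (Fin (m + 1)) (Fin (m + 1)) F) (a : F)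
    (u : Fin m → F) (b : F) (w : Fin m → F) :
    fromBlocks A B C D *ᵥ mkV a u b w =
      Sum.elim (A *ᵥ (Fin.cons a u : Fin (m + 1) → F) + B *ᵥ (Fin.cons b w : Fin (m + 1) → F))
        (C *ᵥ (Fin.cons a u : Fin (m + 1) → F) + D *ᵥ (Fin.cons b w : Fin (m + 1) → F)) := by
  unfold mkV
  rw [Matrix.fromBlocks_mulVec, Sum.elim_comp_inl, Sum.elim_comp_inr]

end vec

section act
variable {F : Type u} [Field F] [Fintype F] {m : ℕ}

theorem xE_mulVec_mkV (x : Fin m → F) (a : F) (u : Fin m → F) (b : F) (w : Fin m → F) :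
    ((xE x : Sp (m + 1) F) : Matrix (Fin (m + 1) ⊕ Fin (m + 1)) (Fin (m + 1) ⊕ Fin (m + 1)) F) *ᵥ
      mkV a u b w = mkV (a + x ⬝ᵥ u) u b (w - b • x) := by
  rw [r3_xE_coe, fromBlocks_mulVec_mkV, bordM_mulVec_cons, bordM_mulVec_cons, Matrix.zero_mulVec,
    Matrix.zero_mulVec, add_zero, zero_add, Matrix.one_mulVec, Matrix.one_mulVec, smul_zero,
    zero_add, one_mul, one_mul, zero_dotProduct, add_zero, smul_neg, neg_add_eq_sub]
  rfl

theorem qE_mulVec_mkV (t : F) (v : Fin m → F) (a : F) (u : Fin m → F) (b : F) (w : Fin m → F) :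
    ((qE t v 0 : Sp (m + 1) F) : Matrix (Fin (m + 1) ⊕ Fin (m + 1)) (Fin (m + 1) ⊕ Fin (m + 1)) F) *ᵥ
      mkV a u b w = mkV (a + (t * b + v ⬝ᵥ w)) (u + b • v) b w := by
  rw [r3_qE_coe, fromBlocks_mulVec_mkV, bordM_mulVec_cons, Matrix.zero_mulVec,
    zero_add, Matrix.one_mulVec, Matrix.one_mulVec, r3_symAdd_zero_val, Matrix.zero_mulVec,
    add_zero, cons_add_cons]
  rfl

theorem wS_mulVec_mkV (a : F) (u : Fin m → F) (b : F) (w : Fin m → F) :
    ((wS : Sp (m + 1) F) : Matrix (Fin (m + 1) ⊕ Fin (m + 1)) (Fin (m + 1) ⊕ Fin (m + 1)) F) *ᵥ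
      mkV a u b w = mkV (-b) u a w := by
  have h1 : ((wS : Sp (m + 1) F) : Matrix (Fin (m + 1) ⊕ Fin (m + 1)) (Fin (m + 1) ⊕ Fin (m + 1)) F) =
      dsumM (fromBlocks 0 (-1) 1 0) (fromBlocks 1 0 0 1) := by
    show dsumM (Matrix.J (Fin 1) F) (1 : Matrix (Fin m ⊕ Fin m) (Fin m ⊕ Fin m) F) = _
    rw [Matrix.fromBlocks_one]
    rfl
  rw [h1, r3_dsumM_fromBlocks, fromBlocks_mulVec_mkV, bordM_mulVec_cons, bordM_mulVec_cons,
    bordM_mulVec_cons, bordM_mulVec_cons, cons_add_cons, cons_add_cons]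
  simp [mkV]

theorem ηE_mulVec_f0 (x v : Fin m → F) (t : F) :
    ((ηE x v t : Sp (m + 1) F) : Matrix (Fin (m + 1) ⊕ Fin (m + 1)) (Fin (m + 1) ⊕ Fin (m + 1)) F) *ᵥ
      mkV 0 0 1 0 = mkV (t + x ⬝ᵥ v) v 1 (-x) := by
  rw [r3_ηE_eq, coe_mul_mulVec, qE_mulVec_mkV, xE_mulVec_mkV]
  simp

/-- the long root elements `zE` are the transvections with centre `e₀` -/
theorem tv_e0 (c : F) : tv (mkV (1 : F) (0 : Fin m → F) 0 0) c = zE c := by
  apply sp_ext
  intro p
  rw [tv_mulVec, ← single_inl_zero, sympForm_single_inl, single_inl_zero, mkV_eta p]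
  show _ = ((qE c 0 0 : Sp (m + 1) F) :
    Matrix (Fin (m + 1) ⊕ Fin (m + 1)) (Fin (m + 1) ⊕ Fin (m + 1)) F) *ᵥ _
  rw [qE_mulVec_mkV]
  funext i
  rcases i with i | i <;> refine Fin.cases ?_ (fun i' => ?_) i <;> simp [mkV]

end act

section gen
variable {F : Type u} [Field F] [Fintype F] {m : ℕ}

theorem tv_zero_left (c : F) : tv (0 : Fin (m + 1) ⊕ Fin (m + 1) → F) c = 1 := by
  have h := tv_smul (0 : F) (0 : Fin (m + 1) ⊕ Fin (m + 1) → F) c
  rw [zero_smul, zero_mul, zero_mul, tv_zero] at h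
  exact h

/-- a subgroup containing `ιS (Sp 1)`, `X` and `Y` is everything -/
theorem eq_top_of_mem (H : Subgroup (Sp (m + 1) F)) (hS : ∀ s : Sp 1 F, ιS s ∈ H)
    (hX : ∀ x : Fin m → F, xE x ∈ H) (hY : ∀ v : Fin m → F, yE v ∈ H) : H = ⊤ := by
  have hz : ∀ t : F, (zE t : Sp (m + 1) F) ∈ H := fun t => by
    rw [← ιS_z1]
    exact hS _
  have hw : (wS : Sp (m + 1) F) ∈ H := hS _
  have hη : ∀ (x v : Fin m → F) (t : F), (ηE x v t : Sp (m + 1) F) ∈ H := fun x v t =>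
    H.mul_mem (H.mul_mem (hX x) (hY v)) (hz t)
  -- invariance of the set of good centres
  have Tinv : ∀ (h : Sp (m + 1) F) (p : Fin (m + 1) ⊕ Fin (m + 1) → F), h ∈ H →
      (∀ c : F, tv p c ∈ H) → ∀ c : F,
      tv ((h : Matrix (Fin (m + 1) ⊕ Fin (m + 1)) (Fin (m + 1) ⊕ Fin (m + 1)) F) *ᵥ p) c ∈ H := by
    intro h p hh hp c
    rw [← tv_conj]
    exact H.mul_mem (H.mul_mem hh (hp c)) (H.inv_mem hh)
  have Tsmul : ∀ (a : F) (p : Fin (m + 1) ⊕ Fin (m + 1) → F),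
      (∀ c : F, tv p c ∈ H) → ∀ c : F, tv (a • p) c ∈ H := by
    intro a p hp c
    rw [tv_smul]
    exact hp _
  have Te0 : ∀ c : F, tv (mkV (1 : F) (0 : Fin m → F) 0 0) c ∈ H := fun c => by
    rw [tv_e0]
    exact hz c
  have Tf0 : ∀ c : F, tv (mkV (0 : F) (0 : Fin m → F) 1 0) c ∈ H := by
    have h := Tinv wS _ hw Te0
    rw [wS_mulVec_mkV, neg_zero] at h
    exact h
  have Tone : ∀ p : Fin (m + 1) ⊕ Fin (m + 1) → F, p (Sum.inr 0) = 1 → ∀ c : F, tv p c ∈ H := by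
    intro p hp
    have h := Tinv (ηE (-(fun j : Fin m => p (Sum.inr j.succ))) (fun j : Fin m => p (Sum.inl j.succ))
      (p (Sum.inl 0) + (fun j : Fin m => p (Sum.inr j.succ)) ⬝ᵥ (fun j : Fin m => p (Sum.inl j.succ))))
      _ (hη _ _ _) Tf0
    rw [ηE_mulVec_f0, neg_dotProduct, add_neg_cancel_right, neg_neg] at h
    rw [mkV_eta p, hp]
    exact h
  have Tne : ∀ p : Fin (m + 1) ⊕ Fin (m + 1) → F, p (Sum.inr 0) ≠ 0 → ∀ c : F, tv p c ∈ H := by
    intro p hp
    have h := Tsmul (p (Sum.inr 0)) ((p (Sum.inr 0))⁻¹ • p) (Tone _ (by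
      rw [Pi.smul_apply, smul_eq_mul, inv_mul_cancel₀ hp]))
    rw [smul_smul, mul_inv_cancel₀ hp, one_smul] at h
    exact h
  have Tall : ∀ (p : Fin (m + 1) ⊕ Fin (m + 1) → F) (c : F), tv p c ∈ H := by
    intro p
    by_cases hp0 : p (Sum.inr 0) = 0
    swap
    · exact Tne p hp0
    by_cases hp : p = 0
    · intro c
      rw [hp, tv_zero_left]
      exact H.one_mem
    -- a vector `r` with nonzero `f₀`-coordinate and `f(p, r) ≠ 0`
    have hr : ∃ r : Fin (m + 1) ⊕ Fin (m + 1) → F, r (Sum.inr 0) ≠ 0 ∧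
        Cfsg.sympForm (m + 1) F p r ≠ 0 := by
      obtain ⟨r₀, hr₀⟩ := exists_form_ne_zero hp
      by_cases h1 : r₀ (Sum.inr 0) = 0
      swap
      · exact ⟨r₀, h1, hr₀⟩
      by_cases h2 : Cfsg.sympForm (m + 1) F p (Pi.single (Sum.inr 0) 1) = 0
      · refine ⟨r₀ + Pi.single (Sum.inr 0) 1, ?_, ?_⟩
        · rw [Pi.add_apply, h1, zero_add, Pi.single_eq_same]
          exact one_ne_zero
        · rw [sympForm_add_right, h2, add_zero]
          exact hr₀
      · refine ⟨Pi.single (Sum.inr 0) 1, ?_, h2⟩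
        rw [Pi.single_eq_same]
        exact one_ne_zero
    obtain ⟨r, hr1, hr2⟩ := hr
    have hpr : ∀ c : F, tv (p + r) c ∈ H := Tne _ (by
      rw [Pi.add_apply, hp0, zero_add]
      exact hr1)
    have h := Tinv (tv r (-(Cfsg.sympForm (m + 1) F p r)⁻¹)) _ (Tne r hr1 _) hpr
    rw [tv_mulVec, sympForm_add_left, sympForm_self, add_zero, neg_mul, inv_mul_cancel₀ hr2,
      neg_smul, one_smul, add_neg_cancel_right] at h
    exact h
  rw [eq_top_iff, ← transvGroup_eq_top]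
  unfold transvGroup
  rw [Subgroup.closure_le]
  rintro A ⟨w, c, hA⟩
  have hAT : A = tv w c := Subtype.ext hA
  rw [hAT]
  exact Tall w c

end gen

end PkR5

variable {F : Type u} [Field F] [Fintype F] {m : ℕ}

theorem closure_ιS_H1 :
    Subgroup.closure (Set.range (ιS (m := m) (F := F)) ∪ Set.range (xE (m := m) (F := F)) ∪
      Set.range (yE (m := m) (F := F))) = ⊤ := by
  apply PkR5.eq_top_of_mem
  · intro s
    exact Subgroup.subset_closure (Or.inl (Or.inl ⟨s, rfl⟩))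
  · intro x
    exact Subgroup.subset_closure (Or.inl (Or.inr ⟨x, rfl⟩))
  · intro v
    exact Subgroup.subset_closure (Or.inr ⟨v, rfl⟩)

end Cfsg.Agent.Lib.Helper2.WG
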