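import Mathlib

set_option autoImplicit false

/-! Odd-order automorphisms of a 2-group with a cyclic maximal subgroup outside of which
all elements have order dividing 4 are trivial. -/

namespace Cfsg.Agent.Lib.Helper9

section
variable {G : Type*} [Group G]

theorem aut_step_trivial (α : MulAut G) (m : ℕ) (hm : Odd m) (hα : α ^ m = 1) {x w : G} (N : ℕ)
    (hw2 : w ^ (2 ^ N) = 1) (hx : α x = x * w) (hw : α w = w) : w = 1 := by
  have hiter : ∀ t : ℕ, (α ^ t) x = x * w ^ t := by
    intro t
    induction t with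
    | zero => simp
    | succ t ih =>
      rw [pow_succ', MulAut.mul_apply, ih, map_mul, map_pow, hx, hw, pow_succ, mul_assoc]
      congr 1
      exact (pow_mul_comm' w t).symm ▸ rfl
  have h1 := hiter m
  rw [hα, MulAut.one_apply] at h1
  have hwm : w ^ m = 1 := by
    have : x * 1 = x * w ^ m := by rw [mul_one]; exact h1
    exact (mul_left_cancel this).symm
  have h4 : orderOf w ∣ m := orderOf_dvd_of_pow_eq_one hwm
  have h5 : orderOf w ∣ 2 ^ N := orderOf_dvd_of_pow_eq_one hw2
  have hcop : Nat.Coprime m (2 ^ N) := by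
    apply Nat.Coprime.pow_right
    exact (Nat.coprime_comm.mp (Nat.coprime_two_left.mpr hm))
  have h6 : orderOf w ∣ 1 := by
    have := Nat.dvd_gcd h4 h5
    rwa [hcop] at this
  exact orderOf_eq_one_iff.mp (Nat.dvd_one.mp h6)

theorem odd_aut_trivial_of_cyclic_max [Finite G] (hG : IsPGroup 2 G) (g : G)
    (h1 : ∀ x : G, x ∉ Subgroup.zpowers g → x ^ 4 = 1) (h2 : g ^ 4 ≠ 1)
    (h3 : ∀ x y : G, x ∉ Subgroup.zpowers g → y ∉ Subgroup.zpowers g → x⁻¹ * y ∈ Subgroup.zpowers g)
    (α : MulAut G) (m : ℕ) (hm : Odd m) (hα : α ^ m = 1) : ∀ x, α x = x := by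
  have hinv : ∀ β : MulAut G, β g ∈ Subgroup.zpowers g := by
    intro β
    by_contra hcon
    have := h1 _ hcon
    rw [← map_pow] at this
    have h4 : g ^ 4 = 1 := by
      apply β.injective
      rw [this, map_one]
    exact h2 h4
  have hCinv : ∀ (β : MulAut G) (x : G), x ∈ Subgroup.zpowers g → β x ∈ Subgroup.zpowers g := by
    intro β x hx
    obtain ⟨z, rfl⟩ := Subgroup.mem_zpowers_iff.mp hx
    rw [map_zpow]
    exact Subgroup.zpow_mem _ (hinv β) z
  have h2el : ∀ w : G, ∃ N : ℕ, w ^ (2 ^ N) = 1 := fun w => hG w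
  -- α g = g ^ j
  obtain ⟨j, hj⟩ : ∃ j : ℕ, g ^ j = α g := by
    have := hinv α
    rw [← mem_powers_iff_mem_zpowers] at this
    exact Submonoid.mem_powers_iff _ _ |>.mp this
  obtain ⟨K, hK⟩ := (IsPGroup.iff_orderOf.mp hG) g
  have hK1 : 1 ≤ K := by
    by_contra hcon
    have : K = 0 := by omega
    rw [this, pow_zero, orderOf_eq_one_iff] at hK
    apply h2
    rw [hK, one_pow]
  have hjodd : Odd j := by
    rw [← Nat.not_even_iff_odd]
    rintro ⟨i, hi⟩
    have hord : orderOf (α g) = 2 ^ K := by
      rw [← hK]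
      exact MulEquiv.orderOf_eq α g
    have h5 : (α g) ^ (2 ^ (K - 1)) = 1 := by
      rw [← hj, hi, ← pow_mul]
      have : (i + i) * 2 ^ (K - 1) = 2 ^ K * i := by
        have : 2 ^ K = 2 ^ (K - 1) * 2 := by
          rw [← pow_succ]
          congr 1
          omega
        rw [this]
        ring
      rw [this, pow_mul, ← hK, pow_orderOf_eq_one, one_pow]
    have h6 := orderOf_dvd_of_pow_eq_one h5
    rw [hord] at h6
    have h7 := Nat.le_of_dvd (by positivity) h6
    have h8 : 2 ^ (K - 1) < 2 ^ K := Nat.pow_lt_pow_right (by norm_num) (by omega)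
    omega
  obtain ⟨i, hi⟩ := hjodd
  have claim : ∀ t k : ℕ, t + k = K → α (g ^ (2 ^ k)) = g ^ (2 ^ k) := by
    intro t
    induction t with
    | zero =>
      intro k hk
      have : k = K := by omega
      subst this
      rw [← hK, pow_orderOf_eq_one, map_one]
    | succ t ih =>
      intro k hk
      have hk1 := ih (k + 1) (by omega)
      set h := g ^ (2 ^ k) with hh
      set w := (g ^ (2 ^ (k + 1))) ^ i with hw
      have hαh : α h = h * w := by
        rw [hh, map_pow, ← hj, hw, ← pow_mul, ← pow_mul, ← pow_add]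
        congr 1
        rw [hi, pow_succ]
        ring
      have hαw : α w = w := by
        rw [hw, map_pow, hk1]
      obtain ⟨N, hN⟩ := h2el w
      have := aut_step_trivial α m hm hα N hN hαh hαw
      rw [hαh, this, mul_one]
  have hg : α g = g := by
    have := claim K 0 (by omega)
    simpa using this
  have hC : ∀ x ∈ Subgroup.zpowers g, α x = x := by
    intro x hx
    obtain ⟨z, rfl⟩ := Subgroup.mem_zpowers_iff.mp hx
    rw [map_zpow, hg]
  intro x
  by_cases hx : x ∈ Subgroup.zpowers g
  · exact hC x hx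
  · have hαx : α x ∉ Subgroup.zpowers g := by
      intro hcon
      have := hCinv α⁻¹ _ hcon
      rw [MulAut.inv_apply_self] at this
      exact hx this
    have hw := h3 x (α x) hx hαx
    obtain ⟨N, hN⟩ := h2el (x⁻¹ * α x)
    have hxw : α x = x * (x⁻¹ * α x) := by group
    have := aut_step_trivial α m hm hα N hN hxw (hC _ hw)
    rw [hxw, this, mul_one]

end

end Cfsg.Agent.Lib.Helper9
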