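import Mathlib
import Cfsg.Agent.Lib.Helper9.CyclicMax1

set_option autoImplicit false

/-! Dihedral and generalized quaternion 2-groups of order at least 16 have no nontrivial
automorphisms of odd order. -/

namespace Cfsg.Agent.Lib.Helper9

theorem four_ne_zero_zmod (N : ℕ) (hN : 8 ≤ N) : (4 : ZMod N) ≠ 0 := by
  intro h
  have h4 : ((4 : ℕ) : ZMod N) = 0 := by exact_mod_cast h
  rw [ZMod.natCast_eq_zero_iff] at h4
  have := Nat.le_of_dvd (by norm_num) h4
  omega

theorem dihedral_isPGroup (k : ℕ) : IsPGroup 2 (DihedralGroup (2 ^ k)) := by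
  apply IsPGroup.of_card (n := k + 1)
  rw [DihedralGroup.nat_card, pow_succ]
  ring

theorem dihedral_odd_aut_trivial (k : ℕ) (hk : 3 ≤ k) (α : MulAut (DihedralGroup (2 ^ k))) (m : ℕ)
    (hm : Odd m) (hα : α ^ m = 1) : ∀ x, α x = x := by
  haveI : NeZero (2 ^ k) := ⟨by positivity⟩
  have hmem : ∀ i : ZMod (2 ^ k), DihedralGroup.r i ∈ Subgroup.zpowers (DihedralGroup.r (1 : ZMod (2 ^ k))) := by
    intro i
    refine ⟨(i.val : ℤ), ?_⟩
    show DihedralGroup.r (1 : ZMod (2 ^ k)) ^ (i.val : ℤ) = _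
    rw [zpow_natCast, DihedralGroup.r_one_pow, ZMod.natCast_zmod_val]
  have h8 : 8 ≤ 2 ^ k := by
    calc 8 = 2 ^ 3 := by norm_num
      _ ≤ 2 ^ k := Nat.pow_le_pow_right (by norm_num) hk
  apply odd_aut_trivial_of_cyclic_max (dihedral_isPGroup k) (DihedralGroup.r 1) _ _ _ α m hm hα
  · intro x hx
    cases x with
    | r i => exact absurd (hmem i) hx
    | sr i =>
      have : DihedralGroup.sr i ^ 4 = (DihedralGroup.sr i * DihedralGroup.sr i) * (DihedralGroup.sr i * DihedralGroup.sr i) := by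
        rw [← pow_two, ← pow_two, ← pow_mul]
      rw [this, DihedralGroup.sr_mul_self, mul_one]
  · rw [DihedralGroup.r_one_pow, DihedralGroup.one_def]
    intro h
    have h' : ((4 : ℕ) : ZMod (2 ^ k)) = 0 := by
      injection h
    exact four_ne_zero_zmod _ h8 (by exact_mod_cast h')
  · intro x y hx hy
    cases x with
    | r i => exact absurd (hmem i) hx
    | sr i =>
      cases y with
      | r j => exact absurd (hmem j) hy
      | sr j =>
        rw [DihedralGroup.inv_sr, DihedralGroup.sr_mul_sr]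
        exact hmem _

theorem quaternion_isPGroup (k : ℕ) : IsPGroup 2 (QuaternionGroup (2 ^ k)) := by
  haveI : NeZero (2 ^ k) := ⟨by positivity⟩
  apply IsPGroup.of_card (n := k + 2)
  rw [Nat.card_eq_fintype_card, QuaternionGroup.card, pow_succ, pow_succ]
  ring

theorem quaternion_odd_aut_trivial (k : ℕ) (hk : 2 ≤ k) (α : MulAut (QuaternionGroup (2 ^ k))) (m : ℕ)
    (hm : Odd m) (hα : α ^ m = 1) : ∀ x, α x = x := by
  haveI : NeZero (2 ^ k) := ⟨by positivity⟩
  haveI : NeZero (2 * 2 ^ k) := ⟨by positivity⟩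
  have hmem : ∀ i : ZMod (2 * 2 ^ k), QuaternionGroup.a i ∈ Subgroup.zpowers (QuaternionGroup.a (1 : ZMod (2 * 2 ^ k))) := by
    intro i
    refine ⟨(i.val : ℤ), ?_⟩
    show QuaternionGroup.a (1 : ZMod (2 * 2 ^ k)) ^ (i.val : ℤ) = _
    rw [zpow_natCast, QuaternionGroup.a_one_pow, ZMod.natCast_zmod_val]
  have h8 : 8 ≤ 2 * 2 ^ k := by
    have : 4 ≤ 2 ^ k := by
      calc 4 = 2 ^ 2 := by norm_num
        _ ≤ 2 ^ k := Nat.pow_le_pow_right (by norm_num) hk
    omega
  apply odd_aut_trivial_of_cyclic_max (quaternion_isPGroup k) (QuaternionGroup.a 1) _ _ _ α m hm hα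
  · intro x hx
    cases x with
    | a i => exact absurd (hmem i) hx
    | xa i => exact QuaternionGroup.xa_pow_four i
  · rw [QuaternionGroup.a_one_pow, QuaternionGroup.one_def]
    intro h
    have h' : ((4 : ℕ) : ZMod (2 * 2 ^ k)) = 0 := by
      injection h
    exact four_ne_zero_zmod _ h8 (by exact_mod_cast h')
  · intro x y hx hy
    cases x with
    | a i => exact absurd (hmem i) hx
    | xa i =>
      cases y with
      | a j => exact absurd (hmem j) hy
      | xa j =>
        have hinv : (QuaternionGroup.xa i)⁻¹ = QuaternionGroup.xa (((2 ^ k : ℕ) : ZMod (2 * 2 ^ k)) + i) := by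
          rfl
        rw [hinv, QuaternionGroup.xa_mul_xa]
        exact hmem _

end Cfsg.Agent.Lib.Helper9
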