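import Mathlib
import Cfsg.Prelude
import Cfsg.Agent.Lib.Helper9.SLRoot2

set_option autoImplicit false

/-!
# Siegel transvections: basic calculus

For a quadratic form `Q` on `ι → F` with polar form `bp Q`, and a singular pair `p, r`
(`Q p = Q r = bp Q p r = 0`), `rho Q p r c` is the isometry
`v ↦ v + c (B(v, r) p - B(v, p) r)`.
-/

namespace Cfsg.Agent.H9Sieg

open Matrix

variable {F : Type*} [Field F] {ι : Type} [Fintype ι] [DecidableEq ι]

/-- the polar form of a quadratic form, as a bilinear form -/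
noncomputable def bp (Q : QuadraticForm F (ι → F)) : LinearMap.BilinForm F (ι → F) :=
  QuadraticMap.polarBilin Q

variable {Q : QuadraticForm F (ι → F)}

theorem bp_apply (u v : ι → F) : bp Q u v = Q (u + v) - Q u - Q v := rfl

theorem bp_comm (u v : ι → F) : bp Q u v = bp Q v u := QuadraticMap.polar_comm Q u v

theorem bp_self (v : ι → F) : bp Q v v = 2 * Q v := by
  show QuadraticMap.polar Q v v = 2 * Q v
  rw [QuadraticMap.polar_self]
  simp

theorem bp_self_of_sing {v : ι → F} (hv : Q v = 0) : bp Q v v = 0 := by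
  rw [bp_self, hv, mul_zero]

theorem Q_add (u v : ι → F) : Q (u + v) = Q u + Q v + bp Q u v := by
  rw [bp_apply]; ring

theorem Q_smul (c : F) (v : ι → F) : Q (c • v) = c * c * Q v := by
  rw [QuadraticMap.map_smul]; rfl

theorem Q_sub (u v : ι → F) : Q (u - v) = Q u + Q v - bp Q u v := by
  have h : u - v = u + (-1 : F) • v := by module
  rw [h, Q_add, Q_smul, map_smul, smul_eq_mul]
  ring

/-- the matrix of an element of the isometry group -/
abbrev mat (g : ↥(Cfsg.isometryGroup F ⇑Q)) : Matrix ι ι F :=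
  ((g : Matrix.GeneralLinearGroup ι F) : Matrix ι ι F)

theorem Q_mulVec (g : ↥(Cfsg.isometryGroup F ⇑Q)) (v : ι → F) : Q (mat g *ᵥ v) = Q v :=
  g.2 v v

theorem bp_mulVec (g : ↥(Cfsg.isometryGroup F ⇑Q)) (u v : ι → F) :
    bp Q (mat g *ᵥ u) (mat g *ᵥ v) = bp Q u v := by
  rw [bp_apply, bp_apply, ← Matrix.mulVec_add, Q_mulVec, Q_mulVec, Q_mulVec]

theorem iso_ext {g h : ↥(Cfsg.isometryGroup F ⇑Q)} (H : ∀ v, mat g *ᵥ v = mat h *ᵥ v) :
    g = h := by
  apply Subtype.ext
  apply Units.ext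
  exact H9SLRoot.ext_mulVec H

theorem coe_mul_mulVec (g h : ↥(Cfsg.isometryGroup F ⇑Q)) (v : ι → F) :
    mat (g * h) *ᵥ v = mat g *ᵥ (mat h *ᵥ v) := by
  rw [Matrix.mulVec_mulVec]; rfl

theorem coe_one_mulVec (v : ι → F) : mat (1 : ↥(Cfsg.isometryGroup F ⇑Q)) *ᵥ v = v := by
  show (1 : Matrix ι ι F) *ᵥ v = v
  rw [Matrix.one_mulVec]

theorem inv_mulVec_mulVec (g : ↥(Cfsg.isometryGroup F ⇑Q)) (v : ι → F) :
    mat g⁻¹ *ᵥ (mat g *ᵥ v) = v := by
  rw [← coe_mul_mulVec, inv_mul_cancel, coe_one_mulVec]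

theorem mulVec_inv_mulVec (g : ↥(Cfsg.isometryGroup F ⇑Q)) (v : ι → F) :
    mat g *ᵥ (mat g⁻¹ *ᵥ v) = v := by
  rw [← coe_mul_mulVec, mul_inv_cancel, coe_one_mulVec]

theorem bp_inv_mulVec (g : ↥(Cfsg.isometryGroup F ⇑Q)) (u v : ι → F) :
    bp Q (mat g⁻¹ *ᵥ u) v = bp Q u (mat g *ᵥ v) := by
  have := bp_mulVec g (mat g⁻¹ *ᵥ u) v
  rw [mulVec_inv_mulVec] at this
  exact this.symm

theorem mulVec_injective (g : ↥(Cfsg.isometryGroup F ⇑Q)) {u v : ι → F}
    (h : mat g *ᵥ u = mat g *ᵥ v) : u = v := by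
  have := congrArg (fun w => mat g⁻¹ *ᵥ w) h
  simpa only [inv_mulVec_mulVec] using this

/-- a singular pair: two singular vectors perpendicular to each other -/
structure SingPair (Q : QuadraticForm F (ι → F)) (p r : ι → F) : Prop where
  hp : Q p = 0
  hr : Q r = 0
  hpr : bp Q p r = 0

namespace SingPair

variable {p r : ι → F}

theorem hrp (h : SingPair Q p r) : bp Q r p = 0 := by rw [bp_comm, h.hpr]

theorem hpp (h : SingPair Q p r) : bp Q p p = 0 := bp_self_of_sing h.hp

theorem hrr (h : SingPair Q p r) : bp Q r r = 0 := bp_self_of_sing h.hr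

theorem symm (h : SingPair Q p r) : SingPair Q r p := ⟨h.hr, h.hp, h.hrp⟩

theorem Q_comb (h : SingPair Q p r) (a b : F) : Q (a • p + b • r) = 0 := by
  rw [Q_add, Q_smul, Q_smul, h.hp, h.hr]
  simp only [map_smul, LinearMap.smul_apply, smul_eq_mul, h.hpr]
  ring

theorem bp_comb (h : SingPair Q p r) (a b c d : F) :
    bp Q (a • p + b • r) (c • p + d • r) = 0 := by
  simp only [map_add, map_smul, LinearMap.add_apply, LinearMap.smul_apply, smul_eq_mul, h.hpr,
    h.hrp, h.hpp, h.hrr]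
  ring

theorem comb (h : SingPair Q p r) (a b c d : F) :
    SingPair Q (a • p + b • r) (c • p + d • r) :=
  ⟨h.Q_comb a b, h.Q_comb c d, h.bp_comb a b c d⟩

theorem map (h : SingPair Q p r) (g : ↥(Cfsg.isometryGroup F ⇑Q)) :
    SingPair Q (mat g *ᵥ p) (mat g *ᵥ r) :=
  ⟨by rw [Q_mulVec, h.hp], by rw [Q_mulVec, h.hr], by rw [bp_mulVec, h.hpr]⟩

end SingPair

/-- the Siegel transformation as a linear map -/
noncomputable def rhoL (Q : QuadraticForm F (ι → F)) (p r : ι → F) (c : F) :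
    (ι → F) →ₗ[F] (ι → F) where
  toFun v := v + c • (bp Q v r • p - bp Q v p • r)
  map_add' v w := by
    simp only [map_add, LinearMap.add_apply]
    module
  map_smul' a v := by
    simp only [map_smul, LinearMap.smul_apply, smul_eq_mul, RingHom.id_apply]
    module

theorem rhoL_apply (p r : ι → F) (c : F) (v : ι → F) :
    rhoL Q p r c v = v + c • (bp Q v r • p - bp Q v p • r) := rfl

/-- the matrix of the Siegel transformation -/
noncomputable def rhoM (Q : QuadraticForm F (ι → F)) (p r : ι → F) (c : F) : Matrix ι ι F :=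
  LinearMap.toMatrix' (rhoL Q p r c)

theorem rhoM_mulVec (p r : ι → F) (c : F) (v : ι → F) :
    rhoM Q p r c *ᵥ v = v + c • (bp Q v r • p - bp Q v p • r) := by
  unfold rhoM
  rw [← Matrix.toLin'_apply, Matrix.toLin'_toMatrix', rhoL_apply]

section pair

variable {p r : ι → F} (h : SingPair Q p r)
include h

theorem bp_rho_r (c : F) (v : ι → F) :
    bp Q (v + c • (bp Q v r • p - bp Q v p • r)) r = bp Q v r := by
  simp only [map_add, map_smul, map_sub, LinearMap.add_apply, LinearMap.smul_apply,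
    LinearMap.sub_apply, smul_eq_mul, h.hpr, h.hrr]
  ring

theorem bp_rho_p (c : F) (v : ι → F) :
    bp Q (v + c • (bp Q v r • p - bp Q v p • r)) p = bp Q v p := by
  simp only [map_add, map_smul, map_sub, LinearMap.add_apply, LinearMap.smul_apply,
    LinearMap.sub_apply, smul_eq_mul, h.hrp, h.hpp]
  ring

theorem rhoM_mul (c d : F) : rhoM Q p r c * rhoM Q p r d = rhoM Q p r (c + d) := by
  apply H9SLRoot.ext_mulVec
  intro v
  rw [← Matrix.mulVec_mulVec, rhoM_mulVec, rhoM_mulVec, rhoM_mulVec, bp_rho_r h, bp_rho_p h]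
  module

omit h in
theorem rhoM_zero : rhoM Q p r 0 = 1 := by
  apply H9SLRoot.ext_mulVec
  intro v
  rw [rhoM_mulVec, Matrix.one_mulVec, zero_smul, add_zero]

theorem Q_rhoM (c : F) (v : ι → F) : Q (rhoM Q p r c *ᵥ v) = Q v := by
  rw [rhoM_mulVec, Q_add, Q_smul, Q_sub, Q_smul, Q_smul, h.hp, h.hr]
  simp only [map_add, map_smul, map_sub, LinearMap.add_apply, LinearMap.smul_apply,
    LinearMap.sub_apply, smul_eq_mul, h.hpr]
  ring

end pair

open Classical in
/-- the Siegel transformation as an element of the isometry group -/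
noncomputable def rho (Q : QuadraticForm F (ι → F)) (p r : ι → F) (c : F) :
    ↥(Cfsg.isometryGroup F ⇑Q) :=
  if h : SingPair Q p r then
    ⟨⟨rhoM Q p r c, rhoM Q p r (-c), by rw [rhoM_mul h, add_neg_cancel, rhoM_zero],
      by rw [rhoM_mul h, neg_add_cancel, rhoM_zero]⟩, fun u _ => Q_rhoM h c u⟩
  else 1

theorem rho_coe {p r : ι → F} (h : SingPair Q p r) (c : F) : mat (rho Q p r c) = rhoM Q p r c := by
  unfold rho
  rw [dif_pos h]

theorem rho_mulVec {p r : ι → F} (h : SingPair Q p r) (c : F) (v : ι → F) :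
    mat (rho Q p r c) *ᵥ v = v + c • (bp Q v r • p - bp Q v p • r) := by
  rw [rho_coe h, rhoM_mulVec]

end Cfsg.Agent.H9Sieg
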