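import Mathlib
import Cfsg.Prelude.Def_ClassicalGeometry

/-!
# Shared definitions for S5963 (pairs of complementary Lagrangians of the symplectic space)
-/

set_option autoImplicit false

namespace Cfsg.Agent.Lib.Helper9.Lag

variable (d : ℕ) (F : Type*) [Field F]

/-- the standard Lagrangian `{v | v (inr i) = 0}` -/
def stdU : Submodule F (Fin d ⊕ Fin d → F) where
  carrier := {v | ∀ i, v (Sum.inr i) = 0}
  add_mem' := by
    intro a b ha hb i
    simp [ha i, hb i]
  zero_mem' := by
    intro i
    rfl
  smul_mem' := by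
    intro c a ha i
    simp [ha i]

/-- the standard Lagrangian `{v | v (inl i) = 0}` -/
def stdW : Submodule F (Fin d ⊕ Fin d → F) where
  carrier := {v | ∀ i, v (Sum.inl i) = 0}
  add_mem' := by
    intro a b ha hb i
    simp [ha i, hb i]
  zero_mem' := by
    intro i
    rfl
  smul_mem' := by
    intro c a ha i
    simp [ha i]

/-- a pair of complementary totally isotropic subspaces -/
def IsLagPair (U W : Submodule F (Fin d ⊕ Fin d → F)) : Prop :=
  IsCompl U W ∧ (∀ u ∈ U, ∀ v ∈ U, Cfsg.sympForm d F u v = 0) ∧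
    (∀ u ∈ W, ∀ v ∈ W, Cfsg.sympForm d F u v = 0)

end Cfsg.Agent.Lib.Helper9.Lag
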