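import Mathlib
import Cfsg.Prelude
import Cfsg.Agent.Lib.Helper9.Siegel1

set_option autoImplicit false

/-!
# Siegel transvections: group laws, conjugation, change of basis, dual vectors
-/

namespace Cfsg.Agent.H9Sieg

open Matrix

variable {F : Type*} [Field F] {ι : Type} [Fintype ι] [DecidableEq ι]
variable {Q : QuadraticForm F (ι → F)}

section pair

variable {p r : ι → F} (h : SingPair Q p r)
include h

theorem rho_mul (c d : F) : rho Q p r c * rho Q p r d = rho Q p r (c + d) := by
  apply iso_ext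
  intro v
  rw [coe_mul_mulVec, rho_coe h, rho_coe h, rho_coe h, Matrix.mulVec_mulVec, rhoM_mul h]

omit h in
theorem rho_zero : rho Q p r 0 = 1 := by
  by_cases h : SingPair Q p r
  · apply iso_ext
    intro v
    rw [rho_coe h, rhoM_zero, coe_one_mulVec, Matrix.one_mulVec]
  · unfold rho
    rw [dif_neg h]

theorem rho_inv (c : F) : (rho Q p r c)⁻¹ = rho Q p r (-c) := by
  apply inv_eq_of_mul_eq_one_right
  rw [rho_mul h, add_neg_cancel, rho_zero]

theorem rho_comm (c d : F) : rho Q p r c * rho Q p r d = rho Q p r d * rho Q p r c := by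
  rw [rho_mul h, rho_mul h, add_comm]

theorem rho_conj (g : ↥(Cfsg.isometryGroup F ⇑Q)) (c : F) :
    g * rho Q p r c * g⁻¹ = rho Q (mat g *ᵥ p) (mat g *ᵥ r) c := by
  apply iso_ext
  intro v
  rw [coe_mul_mulVec, coe_mul_mulVec, rho_mulVec h, rho_mulVec (h.map g), bp_inv_mulVec,
    bp_inv_mulVec, Matrix.mulVec_add, mulVec_inv_mulVec, Matrix.mulVec_smul, Matrix.mulVec_sub,
    Matrix.mulVec_smul, Matrix.mulVec_smul]

/-- change of basis inside the line -/
theorem rho_basis (a b c d e : F) :
    rho Q (a • p + b • r) (c • p + d • r) e = rho Q p r ((a * d - b * c) * e) := by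
  apply iso_ext
  intro v
  rw [rho_mulVec (h.comb a b c d), rho_mulVec h]
  simp only [map_add, map_smul, smul_eq_mul]
  module

theorem rho_swap (e : F) : rho Q r p e = rho Q p r (-e) := by
  have := rho_basis h 0 1 1 0 e
  simp only [zero_smul, one_smul, zero_add, add_zero] at this
  rw [this]
  congr 1
  ring

theorem rho_smul_left (a e : F) : rho Q (a • p) r e = rho Q p r (a * e) := by
  have := rho_basis h a 0 0 1 e
  simp only [zero_smul, one_smul, zero_add, add_zero] at this
  rw [this]
  congr 1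
  ring

theorem rho_smul_right (a e : F) : rho Q p (a • r) e = rho Q p r (a * e) := by
  have := rho_basis h 1 0 0 a e
  simp only [zero_smul, one_smul, zero_add, add_zero] at this
  rw [this]
  congr 1
  ring

end pair

/-- linear independence of a pair, in the form used here -/
def LI (p r : ι → F) : Prop := ∀ s t : F, s • p + t • r = 0 → s = 0 ∧ t = 0

theorem LI_iff {p r : ι → F} : LinearIndependent F ![p, r] ↔ LI p r :=
  LinearIndependent.pair_iff

namespace LI

variable {p r : ι → F}

theorem left_ne_zero (h : LI p r) : p ≠ 0 := by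
  intro h0
  have := (h 1 0 (by rw [h0]; simp)).1
  exact one_ne_zero this

theorem right_ne_zero (h : LI p r) : r ≠ 0 := by
  intro h0
  have := (h 0 1 (by rw [h0]; simp)).2
  exact one_ne_zero this

theorem symm (h : LI p r) : LI r p := by
  intro s t hst
  have := h t s (by rw [add_comm]; exact hst)
  exact ⟨this.2, this.1⟩

theorem comb (h : LI p r) {a b c d : F} (hdet : a * d - b * c ≠ 0) :
    LI (a • p + b • r) (c • p + d • r) := by
  intro s t hst
  have h1 : (s * a + t * c) • p + (s * b + t * d) • r = 0 := by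
    rw [← hst]; module
  obtain ⟨e1, e2⟩ := h _ _ h1
  have e3 : s * (a * d - b * c) = 0 := by linear_combination d * e1 - c * e2
  have e4 : t * (a * d - b * c) = 0 := by linear_combination a * e2 - b * e1
  exact ⟨(mul_eq_zero.mp e3).resolve_right hdet, (mul_eq_zero.mp e4).resolve_right hdet⟩

theorem map (h : LI p r) (g : ↥(Cfsg.isometryGroup F ⇑Q)) : LI (mat g *ᵥ p) (mat g *ᵥ r) := by
  intro s t hst
  apply h s t
  apply mulVec_injective g
  rw [Matrix.mulVec_add, Matrix.mulVec_smul, Matrix.mulVec_smul, hst, Matrix.mulVec_zero]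

theorem notMem_span (h : LI p r) : p ∉ Submodule.span F {r} := by
  intro hmem
  obtain ⟨a, ha⟩ := Submodule.mem_span_singleton.mp hmem
  have := (h 1 (-a) (by rw [← ha]; module)).1
  exact one_ne_zero this

end LI

/-- a vector pairing to `1` with a given vector outside a subspace and to `0` with the subspace -/
theorem exists_dual_vec (hnd : (bp Q).Nondegenerate) {W : Submodule F (ι → F)} {x : ι → F}
    (hx : x ∉ W) : ∃ w, bp Q w x = 1 ∧ ∀ y ∈ W, bp Q w y = 0 := by
  obtain ⟨f, hfx, hfW⟩ := Submodule.exists_dual_map_eq_bot_of_notMem hx inferInstance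
  refine ⟨((bp Q).toDual hnd).symm ((f x)⁻¹ • f), ?_, ?_⟩
  · rw [LinearMap.BilinForm.apply_toDual_symm_apply, LinearMap.smul_apply, smul_eq_mul,
      inv_mul_cancel₀ hfx]
  · intro y hy
    rw [LinearMap.BilinForm.apply_toDual_symm_apply, LinearMap.smul_apply, smul_eq_mul]
    have : f y ∈ W.map f := ⟨y, hy, rfl⟩
    rw [hfW, Submodule.mem_bot] at this
    rw [this, mul_zero]

theorem exists_bp_ne_zero (hnd : (bp Q).Nondegenerate) {x : ι → F} (hx : x ≠ 0) :
    ∃ w, bp Q w x = 1 := by
  obtain ⟨w, hw, _⟩ := exists_dual_vec hnd (W := ⊥) (x := x) (by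
    rw [Submodule.mem_bot]; exact hx)
  exact ⟨w, hw⟩

/-- dual vectors to a linearly independent pair -/
theorem exists_dual_pair (hnd : (bp Q).Nondegenerate) {p r : ι → F} (hli : LI p r) :
    ∃ p' r', bp Q p' p = 1 ∧ bp Q p' r = 0 ∧ bp Q r' p = 0 ∧ bp Q r' r = 1 := by
  obtain ⟨p', h1, h2⟩ := exists_dual_vec hnd hli.notMem_span
  obtain ⟨r', h3, h4⟩ := exists_dual_vec hnd hli.symm.notMem_span
  exact ⟨p', r', h1, h2 r (Submodule.mem_span_singleton_self r),
    h4 p (Submodule.mem_span_singleton_self p), h3⟩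

theorem eq_zero_of_bp (hnd : (bp Q).Nondegenerate) {u : ι → F} (h : ∀ v, bp Q u v = 0) : u = 0 :=
  hnd.1 u h

/-- `rho p r c = 1` only for `c = 0` -/
theorem rho_eq_one_iff (hnd : (bp Q).Nondegenerate) {p r : ι → F} (h : SingPair Q p r)
    (hli : LI p r) (c : F) : rho Q p r c = 1 ↔ c = 0 := by
  constructor
  · intro h1
    obtain ⟨p', r', e1, e2, e3, e4⟩ := exists_dual_pair hnd hli
    have h2 := congrArg (fun g : ↥(Cfsg.isometryGroup F ⇑Q) => mat g *ᵥ r') h1
    beta_reduce at h2
    rw [rho_mulVec h, coe_one_mulVec, e3, e4, one_smul, zero_smul, sub_zero, add_eq_left] at h2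
    rcases smul_eq_zero.mp h2 with h3 | h3
    · exact h3
    · exact absurd h3 hli.left_ne_zero
  · rintro rfl
    exact rho_zero

theorem rho_injective (hnd : (bp Q).Nondegenerate) {p r : ι → F} (h : SingPair Q p r)
    (hli : LI p r) {c d : F} (hcd : rho Q p r c = rho Q p r d) : c = d := by
  have h1 : rho Q p r (c - d) = 1 := by
    rw [sub_eq_add_neg, ← rho_mul h, ← rho_inv h, hcd, mul_inv_cancel]
  have := (rho_eq_one_iff hnd h hli _).mp h1
  exact sub_eq_zero.mp this

end Cfsg.Agent.H9Sieg
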