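import Mathlib
import Cfsg.Prelude
import Cfsg.Agent.Lib.Helper9.Siegel2

set_option autoImplicit false

/-!
# Siegel transvection groups: the isometries fixing `⟨p, r⟩^⊥` pointwise
-/

namespace Cfsg.Agent.H9Sieg

open Matrix

variable {F : Type*} [Field F] {ι : Type} [Fintype ι] [DecidableEq ι]

/-- the set of isometries fixing every vector perpendicular to `p` and `r`, as in the statement -/
def Tset (f : (ι → F) → F) (p r : ι → F) : Set ↥(Cfsg.isometryGroup F f) :=
  {σ | ∀ v : ι → F, f (v + p) - f v - f p = 0 → f (v + r) - f v - f r = 0 →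
      ((σ : Matrix.GeneralLinearGroup ι F) : Matrix ι ι F) *ᵥ v = v}

/-- the Siegel transvection group of the line `⟨p, r⟩` -/
def T (f : (ι → F) → F) (p r : ι → F) : Subgroup ↥(Cfsg.isometryGroup F f) :=
  Subgroup.closure (Tset f p r)

variable {Q : QuadraticForm F (ι → F)}

theorem mem_Tset {p r : ι → F} {σ : ↥(Cfsg.isometryGroup F ⇑Q)} :
    σ ∈ Tset ⇑Q p r ↔ ∀ v, bp Q v p = 0 → bp Q v r = 0 → mat σ *ᵥ v = v := Iff.rfl

/-- a vector perpendicular to `⟨p, r⟩^⊥` lies in `⟨p, r⟩` -/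
theorem eq_comb_of_perp_perp (hnd : (bp Q).Nondegenerate) {p r p' r' : ι → F}
    (e1 : bp Q p' p = 1) (e2 : bp Q p' r = 0) (e3 : bp Q r' p = 0) (e4 : bp Q r' r = 1)
    {u : ι → F} (hu : ∀ w, bp Q w p = 0 → bp Q w r = 0 → bp Q u w = 0) :
    u = bp Q u p' • p + bp Q u r' • r := by
  apply sub_eq_zero.mp
  apply eq_zero_of_bp hnd
  intro v
  have h0 := hu (v - bp Q v p • p' - bp Q v r • r')
    (by simp only [map_sub, map_smul, LinearMap.sub_apply, LinearMap.smul_apply, smul_eq_mul, e1,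
          e3]; ring)
    (by simp only [map_sub, map_smul, LinearMap.sub_apply, LinearMap.smul_apply, smul_eq_mul, e2,
          e4]; ring)
  simp only [map_sub, map_smul, smul_eq_mul] at h0
  simp only [map_sub, map_add, map_smul, LinearMap.sub_apply, LinearMap.add_apply,
    LinearMap.smul_apply, smul_eq_mul]
  rw [bp_comm p v, bp_comm r v]
  linear_combination h0

theorem rho_mem_Tset {p r : ι → F} (h : SingPair Q p r) (c : F) : rho Q p r c ∈ Tset ⇑Q p r := by
  rw [mem_Tset]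
  intro v h1 h2
  rw [rho_mulVec h, h1, h2, zero_smul, zero_smul, sub_zero, smul_zero, add_zero]

theorem mem_Tset_iff (hnd : (bp Q).Nondegenerate) {p r : ι → F} (h : SingPair Q p r)
    (hli : LI p r) {σ : ↥(Cfsg.isometryGroup F ⇑Q)} :
    σ ∈ Tset ⇑Q p r ↔ ∃ c, σ = rho Q p r c := by
  constructor
  · intro hσ
    rw [mem_Tset] at hσ
    obtain ⟨p', r', e1, e2, e3, e4⟩ := exists_dual_pair hnd hli
    obtain ⟨x, hx⟩ : ∃ x, x = mat σ *ᵥ p' - p' := ⟨_, rfl⟩
    obtain ⟨y, hy⟩ : ∃ y, y = mat σ *ᵥ r' - r' := ⟨_, rfl⟩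
    have hdec : ∀ v, mat σ *ᵥ v = v + bp Q v p • x + bp Q v r • y := by
      intro v
      have h0 := hσ (v - bp Q v p • p' - bp Q v r • r')
        (by simp only [map_sub, map_smul, LinearMap.sub_apply, LinearMap.smul_apply, smul_eq_mul,
              e1, e3]; ring)
        (by simp only [map_sub, map_smul, LinearMap.sub_apply, LinearMap.smul_apply, smul_eq_mul,
              e2, e4]; ring)
      rw [Matrix.mulVec_sub, Matrix.mulVec_sub, Matrix.mulVec_smul, Matrix.mulVec_smul,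
        sub_eq_iff_eq_add, sub_eq_iff_eq_add] at h0
      rw [h0, hx, hy]
      module
    have hperp : ∀ u w, bp Q w p = 0 → bp Q w r = 0 → bp Q (mat σ *ᵥ u - u) w = 0 := by
      intro u w h1 h2
      have h3 := hσ w h1 h2
      have h4 := bp_mulVec σ u w
      rw [h3] at h4
      rw [map_sub, LinearMap.sub_apply, h4, sub_self]
    have hxe := eq_comb_of_perp_perp hnd e1 e2 e3 e4 (u := x) (by rw [hx]; exact hperp p')
    have hye := eq_comb_of_perp_perp hnd e1 e2 e3 e4 (u := y) (by rw [hy]; exact hperp r')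
    obtain ⟨a₁, ha₁⟩ : ∃ a, a = bp Q x p' := ⟨_, rfl⟩
    obtain ⟨a₂, ha₂⟩ : ∃ a, a = bp Q x r' := ⟨_, rfl⟩
    obtain ⟨b₁, hb₁⟩ : ∃ a, a = bp Q y p' := ⟨_, rfl⟩
    obtain ⟨b₂, hb₂⟩ : ∃ a, a = bp Q y r' := ⟨_, rfl⟩
    rw [← ha₁, ← ha₂] at hxe
    rw [← hb₁, ← hb₂] at hye
    have key : ∀ v, (bp Q v p * a₁ + bp Q v r * b₁) * bp Q v p +
        (bp Q v p * a₂ + bp Q v r * b₂) * bp Q v r = 0 := by
      intro v
      have hq := Q_mulVec σ v
      have e : v + bp Q v p • x + bp Q v r • y =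
          v + ((bp Q v p * a₁ + bp Q v r * b₁) • p + (bp Q v p * a₂ + bp Q v r * b₂) • r) := by
        rw [hxe, hye]; module
      rw [hdec v, e, Q_add, h.Q_comb] at hq
      simp only [map_add, map_smul, smul_eq_mul] at hq
      linear_combination hq
    have k1 := key p'
    have k2 := key r'
    have k3 := key (p' + r')
    simp only [map_add, LinearMap.add_apply, e1, e2, e3, e4] at k1 k2 k3
    have ha10 : a₁ = 0 := by linear_combination k1
    have hb20 : b₂ = 0 := by linear_combination k2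
    have hab : a₂ = -b₁ := by linear_combination k3 - k1 - k2
    refine ⟨b₁, iso_ext fun v => ?_⟩
    rw [hdec v, rho_mulVec h, hxe, hye, ha10, hb20, hab]
    module
  · rintro ⟨c, rfl⟩
    exact rho_mem_Tset h c

theorem mem_T (hnd : (bp Q).Nondegenerate) {p r : ι → F} (h : SingPair Q p r)
    (hli : LI p r) {σ : ↥(Cfsg.isometryGroup F ⇑Q)} :
    σ ∈ T ⇑Q p r ↔ ∃ c, σ = rho Q p r c := by
  constructor
  · intro hσ
    unfold T at hσ
    induction hσ using Subgroup.closure_induction with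
    | mem x hx => exact (mem_Tset_iff hnd h hli).mp hx
    | one => exact ⟨0, rho_zero.symm⟩
    | mul x y _ _ hx hy =>
      obtain ⟨c, rfl⟩ := hx
      obtain ⟨d, rfl⟩ := hy
      exact ⟨c + d, rho_mul h c d⟩
    | inv x _ hx =>
      obtain ⟨c, rfl⟩ := hx
      exact ⟨-c, rho_inv h c⟩
  · rintro ⟨c, rfl⟩
    exact Subgroup.subset_closure (rho_mem_Tset h c)

theorem rho_mem_T {p r : ι → F} (h : SingPair Q p r) (c : F) : rho Q p r c ∈ T ⇑Q p r :=
  Subgroup.subset_closure (rho_mem_Tset h c)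

theorem T_comm (hnd : (bp Q).Nondegenerate) {p r : ι → F} (h : SingPair Q p r) (hli : LI p r) :
    IsMulCommutative (T ⇑Q p r) := by
  refine ⟨⟨fun a b => ?_⟩⟩
  obtain ⟨c, hc⟩ := (mem_T hnd h hli).mp a.2
  obtain ⟨d, hd⟩ := (mem_T hnd h hli).mp b.2
  apply Subtype.ext
  show (a : ↥(Cfsg.isometryGroup F ⇑Q)) * b = b * a
  rw [hc, hd, rho_comm h]

theorem T_ne_bot (hnd : (bp Q).Nondegenerate) {p r : ι → F} (h : SingPair Q p r) (hli : LI p r) :
    T ⇑Q p r ≠ ⊥ := by
  intro hbot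
  have h1 : rho Q p r 1 ∈ T ⇑Q p r := rho_mem_T h 1
  rw [hbot, Subgroup.mem_bot, rho_eq_one_iff hnd h hli] at h1
  exact one_ne_zero h1

theorem conjBy_T (hnd : (bp Q).Nondegenerate) {p r : ι → F} (h : SingPair Q p r) (hli : LI p r)
    (g : ↥(Cfsg.isometryGroup F ⇑Q)) :
    Cfsg.conjBy (T ⇑Q p r) g = T ⇑Q (mat g *ᵥ p) (mat g *ᵥ r) := by
  ext x
  rw [mem_T hnd (h.map g) (hli.map g)]
  constructor
  · rintro ⟨a, ha, rfl⟩
    obtain ⟨c, rfl⟩ := (mem_T hnd h hli).mp ha
    exact ⟨c, rho_conj h g c⟩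
  · rintro ⟨c, rfl⟩
    exact ⟨rho Q p r c, rho_mem_T h c, rho_conj h g c⟩

theorem T_basis (hnd : (bp Q).Nondegenerate) {p r : ι → F} (h : SingPair Q p r) (hli : LI p r)
    {a b c d : F} (hdet : a * d - b * c ≠ 0) :
    T ⇑Q (a • p + b • r) (c • p + d • r) = T ⇑Q p r := by
  ext x
  rw [mem_T hnd h hli, mem_T hnd (h.comb a b c d) (hli.comb hdet)]
  constructor
  · rintro ⟨e, rfl⟩
    exact ⟨_, rho_basis h a b c d e⟩
  · rintro ⟨e, rfl⟩
    refine ⟨e / (a * d - b * c), ?_⟩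
    rw [rho_basis h a b c d, mul_div_cancel₀ _ hdet]

theorem T_swap (hnd : (bp Q).Nondegenerate) {p r : ι → F} (h : SingPair Q p r) (hli : LI p r) :
    T ⇑Q r p = T ⇑Q p r := by
  have := T_basis hnd h hli (a := 0) (b := 1) (c := 1) (d := 0) (by norm_num)
  simpa only [zero_smul, one_smul, zero_add, add_zero] using this

end Cfsg.Agent.H9Sieg
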