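import Mathlib
import Cfsg.Prelude
import Cfsg.Agent.Lib.Helper9.Siegel3

set_option autoImplicit false

/-!
# Siegel transvection groups: adapted pairs of lines, commuting and commutator cases
-/

namespace Cfsg.Agent.H9Sieg

open Matrix
open scoped commutatorElement

variable {F : Type*} [Field F] {ι : Type} [Fintype ι] [DecidableEq ι]
variable {Q : QuadraticForm F (ι → F)}

/-- two lines with adapted bases `(a, x)`, `(a', x')`: `a ⊥ a', x'` and `x ⊥ a'` -/
structure Adapted (Q : QuadraticForm F (ι → F)) (a x a' x' : ι → F) : Prop where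
  h : SingPair Q a x
  h' : SingPair Q a' x'
  e1 : bp Q a a' = 0
  e2 : bp Q a x' = 0
  e3 : bp Q x a' = 0

namespace Adapted

variable {a x a' x' : ι → F}

theorem sp (ad : Adapted Q a x a' x') : SingPair Q a a' := ⟨ad.h.hp, ad.h'.hp, ad.e1⟩

theorem symm (ad : Adapted Q a x a' x') : Adapted Q a' x' a x :=
  ⟨ad.h', ad.h, by rw [bp_comm, ad.e1], by rw [bp_comm, ad.e3], by rw [bp_comm, ad.e2]⟩

/-- the commutator formula -/
theorem mul_eq (ad : Adapted Q a x a' x') (c d : F) :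
    rho Q a x c * rho Q a' x' d =
      rho Q a a' (-(c * d * bp Q x x')) * (rho Q a' x' d * rho Q a x c) := by
  apply iso_ext
  intro v
  have f1 : bp Q a' a = 0 := by rw [bp_comm, ad.e1]
  have f2 : bp Q x' a = 0 := by rw [bp_comm, ad.e2]
  have f3 : bp Q a' x = 0 := by rw [bp_comm, ad.e3]
  have f4 : bp Q x' x = bp Q x x' := bp_comm _ _
  rw [coe_mul_mulVec, coe_mul_mulVec, coe_mul_mulVec, rho_mulVec ad.h, rho_mulVec ad.h',
    rho_mulVec ad.sp, rho_mulVec ad.h', rho_mulVec ad.h]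
  simp only [map_add, map_smul, map_sub, LinearMap.add_apply, LinearMap.smul_apply,
    LinearMap.sub_apply, smul_eq_mul, ad.h.hpr, ad.h.hrp, ad.h.hpp, ad.h.hrr, ad.h'.hpr, ad.h'.hrp,
    ad.h'.hpp, ad.h'.hrr, ad.e1, ad.e2, ad.e3, f1, f2, f3, f4]
  module

theorem commutator_eq (ad : Adapted Q a x a' x') (c d : F) :
    ⁅rho Q a x c, rho Q a' x' d⁆ = rho Q a a' (-(c * d * bp Q x x')) := by
  rw [commutatorElement_def, ad.mul_eq c d]
  group

theorem comm_of_perp (ad : Adapted Q a x a' x') (hμ : bp Q x x' = 0) (c d : F) :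
    rho Q a x c * rho Q a' x' d = rho Q a' x' d * rho Q a x c := by
  rw [ad.mul_eq c d, hμ, mul_zero, neg_zero, rho_zero, one_mul]

end Adapted

theorem rho_self {a : ι → F} (e : F) : rho Q a a e = 1 := by
  by_cases h : SingPair Q a a
  · apply iso_ext
    intro v
    rw [rho_mulVec h, coe_one_mulVec, sub_self, smul_zero, add_zero]
  · unfold rho
    rw [dif_neg h]

theorem rho_dep {a a' : ι → F} (h : SingPair Q a a') (hdep : ¬ LI a a') (ha : a ≠ 0) (e : F) :
    rho Q a a' e = 1 := by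
  unfold LI at hdep
  push Not at hdep
  obtain ⟨s, t, hst, hne⟩ := hdep
  have ht : t ≠ 0 := by
    intro ht
    rw [ht, zero_smul, add_zero] at hst
    rcases smul_eq_zero.mp hst with h1 | h1
    · exact absurd ht (hne h1)
    · exact ha h1
  have ha' : a' = (-(s / t)) • a := by
    have : t • a' = -(s • a) := by
      rw [eq_neg_iff_add_eq_zero, add_comm]; exact hst
    calc a' = t⁻¹ • (t • a') := by rw [smul_smul, inv_mul_cancel₀ ht, one_smul]
      _ = (-(s / t)) • a := by rw [this]; module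
  have hs : SingPair Q a a := ⟨h.hp, h.hp, h.hpp⟩
  rw [ha', rho_smul_right hs, rho_self]

section cases

variable {a x a' x' : ι → F} (hnd : (bp Q).Nondegenerate) (ad : Adapted Q a x a' x')
  (hli : LI a x) (hli' : LI a' x')
include hnd ad hli hli'

/-- the commuting case -/
theorem commutator_eq_bot (hc : bp Q x x' = 0 ∨ ¬ LI a a') :
    ⁅T ⇑Q a x, T ⇑Q a' x'⁆ = ⊥ := by
  rw [Subgroup.commutator_eq_bot_iff_le_centralizer]
  intro α hα
  obtain ⟨c, rfl⟩ := (mem_T hnd ad.h hli).mp hα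
  rw [Subgroup.mem_centralizer_iff]
  intro β hβ
  obtain ⟨d, rfl⟩ := (mem_T hnd ad.h' hli').mp hβ
  rcases hc with hc | hc
  · exact (ad.comm_of_perp hc c d).symm
  · rw [ad.mul_eq c d, rho_dep ad.sp hc hli.left_ne_zero, one_mul]

theorem comm_elem (hc : bp Q x x' = 0 ∨ ¬ LI a a') :
    ∀ α ∈ T ⇑Q a x, ∀ β ∈ T ⇑Q a' x', α * β = β * α := by
  intro α hα β hβ
  obtain ⟨c, rfl⟩ := (mem_T hnd ad.h hli).mp hα
  obtain ⟨d, rfl⟩ := (mem_T hnd ad.h' hli').mp hβ
  rcases hc with hc | hc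
  · exact ad.comm_of_perp hc c d
  · rw [ad.mul_eq c d, rho_dep ad.sp hc hli.left_ne_zero, one_mul]

/-- the commutator subgroup in the special case -/
theorem commutator_eq_T (hμ : bp Q x x' ≠ 0) (hl : LI a a') :
    ⁅T ⇑Q a x, T ⇑Q a' x'⁆ = T ⇑Q a a' := by
  apply le_antisymm
  · rw [Subgroup.commutator_le]
    intro α hα β hβ
    obtain ⟨c, rfl⟩ := (mem_T hnd ad.h hli).mp hα
    obtain ⟨d, rfl⟩ := (mem_T hnd ad.h' hli').mp hβ
    rw [ad.commutator_eq]
    exact rho_mem_T ad.sp _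
  · intro γ hγ
    obtain ⟨e, rfl⟩ := (mem_T hnd ad.sp hl).mp hγ
    have h1 : rho Q a a' e = ⁅rho Q a x 1, rho Q a' x' (-(e / bp Q x x'))⁆ := by
      rw [ad.commutator_eq]
      congr 1
      field_simp
    rw [h1]
    exact Subgroup.commutator_mem_commutator (rho_mem_T ad.h 1) (rho_mem_T ad.h' _)

/-- the commutator case -/
theorem rootCommutatorCase (hμ : bp Q x x' ≠ 0) (hl : LI a a')
    {S : Set (Subgroup ↥(Cfsg.isometryGroup F ⇑Q))} (hS : T ⇑Q a a' ∈ S) :
    Cfsg.RootCommutatorCase S (T ⇑Q a x) (T ⇑Q a' x') := by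
  have hcomm := commutator_eq_T hnd ad hli hli' hμ hl
  refine ⟨by rw [hcomm]; exact hS, ?_, ?_, ?_⟩
  · intro γ hγ y hy
    rw [hcomm] at hγ
    obtain ⟨e, rfl⟩ := (mem_T hnd ad.sp hl).mp hγ
    have hle : T ⇑Q a x ⊔ T ⇑Q a' x' ≤ Subgroup.centralizer {rho Q a a' e} := by
      apply sup_le
      · intro α hα
        obtain ⟨c, rfl⟩ := (mem_T hnd ad.h hli).mp hα
        rw [Subgroup.mem_centralizer_iff]
        intro z hz
        rw [Set.mem_singleton_iff] at hz
        rw [hz]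
        -- the pairs (a, a') and (a, x)
        have ad2 : Adapted Q a a' a x :=
          ⟨ad.sp, ad.h, ad.h.hpp, ad.h.hpr, by rw [bp_comm, ad.e1]⟩
        exact ad2.comm_of_perp (by rw [bp_comm, ad.e3]) e c
      · intro β hβ
        obtain ⟨d, rfl⟩ := (mem_T hnd ad.h' hli').mp hβ
        rw [Subgroup.mem_centralizer_iff]
        intro z hz
        rw [Set.mem_singleton_iff] at hz
        rw [hz, rho_swap ad.sp.symm e]
        have ad2 : Adapted Q a' a a' x' :=
          ⟨ad.sp.symm, ad.h', ad.h'.hpp, ad.h'.hpr, ad.e1⟩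
        exact ad2.comm_of_perp ad.e2 (-e) d
    have := hle hy
    rw [Subgroup.mem_centralizer_iff] at this
    exact this _ rfl
  · intro α hα hα1
    obtain ⟨c, rfl⟩ := (mem_T hnd ad.h hli).mp hα
    have hc : c ≠ 0 := by
      intro hc
      apply hα1
      rw [hc, rho_zero]
    rw [hcomm]
    apply le_antisymm
    · rw [Subgroup.closure_le]
      rintro _ ⟨β, hβ, rfl⟩
      obtain ⟨d, rfl⟩ := (mem_T hnd ad.h' hli').mp hβ
      have := ad.commutator_eq c d
      rw [commutatorElement_def] at this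
      show rho Q a x c * rho Q a' x' d * (rho Q a x c)⁻¹ * (rho Q a' x' d)⁻¹ ∈ T ⇑Q a a'
      rw [this]
      exact rho_mem_T ad.sp _
    · intro γ hγ
      obtain ⟨e, rfl⟩ := (mem_T hnd ad.sp hl).mp hγ
      apply Subgroup.subset_closure
      refine ⟨rho Q a' x' (-(e / (c * bp Q x x'))), rho_mem_T ad.h' _, ?_⟩
      have := ad.commutator_eq c (-(e / (c * bp Q x x')))
      rw [commutatorElement_def] at this
      show rho Q a x c * rho Q a' x' (-(e / (c * bp Q x x'))) * (rho Q a x c)⁻¹ *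
        (rho Q a' x' (-(e / (c * bp Q x x'))))⁻¹ = rho Q a a' e
      rw [this]
      congr 1
      field_simp
  · intro β hβ hβ1
    obtain ⟨d, rfl⟩ := (mem_T hnd ad.h' hli').mp hβ
    have hd : d ≠ 0 := by
      intro hd
      apply hβ1
      rw [hd, rho_zero]
    rw [hcomm]
    apply le_antisymm
    · rw [Subgroup.closure_le]
      rintro _ ⟨α, hα, rfl⟩
      obtain ⟨c, rfl⟩ := (mem_T hnd ad.h hli).mp hα
      have := ad.commutator_eq c d
      rw [commutatorElement_def] at this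
      show rho Q a x c * rho Q a' x' d * (rho Q a x c)⁻¹ * (rho Q a' x' d)⁻¹ ∈ T ⇑Q a a'
      rw [this]
      exact rho_mem_T ad.sp _
    · intro γ hγ
      obtain ⟨e, rfl⟩ := (mem_T hnd ad.sp hl).mp hγ
      apply Subgroup.subset_closure
      refine ⟨rho Q a x (-(e / (d * bp Q x x'))), rho_mem_T ad.h _, ?_⟩
      have := ad.commutator_eq (-(e / (d * bp Q x x'))) d
      rw [commutatorElement_def] at this
      show rho Q a x (-(e / (d * bp Q x x'))) * rho Q a' x' d *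
        (rho Q a x (-(e / (d * bp Q x x'))))⁻¹ * (rho Q a' x' d)⁻¹ = rho Q a a' e
      rw [this]
      congr 1
      field_simp

/-- in the adapted situation with `B(x, x') ≠ 0` the rank one condition fails -/
theorem not_rankOneCondition (hμ : bp Q x x' ≠ 0) :
    ¬ Cfsg.RankOneCondition (T ⇑Q a x) (T ⇑Q a' x') := by
  intro hcond
  have hα1 : rho Q a x 1 ≠ 1 := by
    rw [Ne, rho_eq_one_iff hnd ad.h hli]
    exact one_ne_zero
  obtain ⟨β, hβ, _, hconj⟩ := hcond (rho Q a x 1) (rho_mem_T ad.h 1) hα1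
  obtain ⟨d, rfl⟩ := (mem_T hnd ad.h' hli').mp hβ
  have hmem : (rho Q a' x' d)⁻¹ * rho Q a x 1 * (rho Q a' x' d)⁻¹⁻¹ ∈
      Cfsg.conjBy (T ⇑Q a x) (rho Q a' x' d)⁻¹ := ⟨rho Q a x 1, rho_mem_T ad.h 1, rfl⟩
  rw [hconj] at hmem
  obtain ⟨γ, hγ, hγe⟩ := hmem
  obtain ⟨e, rfl⟩ := (mem_T hnd ad.h' hli').mp hγ
  have heq : (rho Q a x 1)⁻¹ * rho Q a' x' e * (rho Q a x 1)⁻¹⁻¹ =
      (rho Q a' x' d)⁻¹ * rho Q a x 1 * (rho Q a' x' d)⁻¹⁻¹ := hγe
  rw [inv_inv, inv_inv, rho_inv ad.h, rho_inv ad.h'] at heq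
  have f1 : bp Q a' a = 0 := by rw [bp_comm, ad.e1]
  have f2 : bp Q x' a = 0 := by rw [bp_comm, ad.e2]
  have f3 : bp Q a' x = 0 := by rw [bp_comm, ad.e3]
  have f4 : bp Q x' x = bp Q x x' := bp_comm _ _
  have h2 := congrArg (fun g : ↥(Cfsg.isometryGroup F ⇑Q) => mat g *ᵥ x') heq
  beta_reduce at h2
  rw [coe_mul_mulVec, coe_mul_mulVec, coe_mul_mulVec, coe_mul_mulVec, rho_mulVec ad.h,
    rho_mulVec ad.h', rho_mulVec ad.h, rho_mulVec ad.h', rho_mulVec ad.h, rho_mulVec ad.h'] at h2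
  simp only [map_add, map_smul, map_sub, LinearMap.add_apply, LinearMap.smul_apply,
    LinearMap.sub_apply, smul_eq_mul, ad.h.hpr, ad.h.hrp, ad.h.hpp, ad.h.hrr, ad.h'.hpr, ad.h'.hrp,
    ad.h'.hpp, ad.h'.hrr, ad.e1, ad.e2, ad.e3, f1, f2, f3, f4] at h2
  have h3 : bp Q x x' • a = 0 := by
    have h4 : x' = x' + bp Q x x' • a := by
      rw [← sub_eq_zero] at h2 ⊢
      rw [← h2]
      module
    rwa [left_eq_add] at h4
  rcases smul_eq_zero.mp h3 with h4 | h4
  · exact hμ h4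
  · exact hli.left_ne_zero h4

end cases

end Cfsg.Agent.H9Sieg
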