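import Mathlib
import Cfsg.Prelude
import Cfsg.Agent.Lib.Helper9.Siegel4

set_option autoImplicit false

/-!
# Siegel transvection groups: opposite lines form rank one pairs
-/

namespace Cfsg.Agent.H9Sieg

open Matrix

variable {F : Type*} [Field F] {ι : Type} [Fintype ι] [DecidableEq ι]
variable {Q : QuadraticForm F (ι → F)}

/-- a hyperbolic quadruple: two opposite singular lines `⟨p, r⟩`, `⟨s, t⟩` with dual bases -/
structure HQuad (Q : QuadraticForm F (ι → F)) (p r s t : ι → F) : Prop where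
  h : SingPair Q p r
  h' : SingPair Q s t
  pt : bp Q p t = 1
  rs : bp Q r s = 1
  ps : bp Q p s = 0
  rt : bp Q r t = 0

namespace HQuad

variable {p r s t : ι → F}

theorem tp (hq : HQuad Q p r s t) : bp Q t p = 1 := by rw [bp_comm, hq.pt]

theorem sr (hq : HQuad Q p r s t) : bp Q s r = 1 := by rw [bp_comm, hq.rs]

theorem sp (hq : HQuad Q p r s t) : bp Q s p = 0 := by rw [bp_comm, hq.ps]

theorem tr (hq : HQuad Q p r s t) : bp Q t r = 0 := by rw [bp_comm, hq.rt]

theorem symm (hq : HQuad Q p r s t) : HQuad Q s t p r :=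
  ⟨hq.h', hq.h, hq.sr, hq.tp, hq.sp, hq.tr⟩

theorem li (hq : HQuad Q p r s t) : LI p r := by
  intro a b hab
  have h1 := congrArg (fun v => bp Q v t) hab
  have h2 := congrArg (fun v => bp Q v s) hab
  simp only [map_add, map_smul, LinearMap.add_apply, LinearMap.smul_apply, smul_eq_mul, hq.pt,
    hq.rt, hq.ps, hq.rs, map_zero, LinearMap.zero_apply] at h1 h2
  constructor
  · linear_combination h1
  · linear_combination h2

theorem rankOneCondition (hnd : (bp Q).Nondegenerate) (hq : HQuad Q p r s t) :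
    Cfsg.RankOneCondition (T ⇑Q p r) (T ⇑Q s t) := by
  intro α hα hα1
  obtain ⟨c, rfl⟩ := (mem_T hnd hq.h hq.li).mp hα
  have hc : c ≠ 0 := by
    intro hc
    apply hα1
    rw [hc, rho_zero]
  obtain ⟨d, hd⟩ : ∃ d, d = c⁻¹ := ⟨_, rfl⟩
  have hdc : d * c = 1 := by rw [hd, inv_mul_cancel₀ hc]
  have hd0 : d ≠ 0 := by rw [hd]; exact inv_ne_zero hc
  refine ⟨rho Q s t d, rho_mem_T hq.h' _, ?_, ?_⟩
  · rw [Ne, rho_eq_one_iff hnd hq.h' hq.symm.li]
    exact hd0
  · have hu : SingPair Q (mat (rho Q p r c)⁻¹ *ᵥ s) (mat (rho Q p r c)⁻¹ *ᵥ t) := hq.h'.map _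
    have hl : LI (mat (rho Q p r c)⁻¹ *ᵥ s) (mat (rho Q p r c)⁻¹ *ᵥ t) := hq.symm.li.map _
    have e1 : mat (rho Q s t d)⁻¹ *ᵥ p =
        (-d) • (mat (rho Q p r c)⁻¹ *ᵥ s) + (0 : F) • (mat (rho Q p r c)⁻¹ *ᵥ t) := by
      rw [rho_inv hq.h', rho_inv hq.h, rho_mulVec hq.h', rho_mulVec hq.h, rho_mulVec hq.h, hq.pt,
        hq.ps, hq.sr, hq.sp, hq.tr, hq.tp]
      linear_combination (norm := module) (-hdc) • p
    have e2 : mat (rho Q s t d)⁻¹ *ᵥ r =
        (0 : F) • (mat (rho Q p r c)⁻¹ *ᵥ s) + d • (mat (rho Q p r c)⁻¹ *ᵥ t) := by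
      rw [rho_inv hq.h', rho_inv hq.h, rho_mulVec hq.h', rho_mulVec hq.h, rho_mulVec hq.h, hq.rt,
        hq.rs, hq.sr, hq.sp, hq.tr, hq.tp]
      linear_combination (norm := module) (-hdc) • r
    rw [conjBy_T hnd hq.h hq.li, conjBy_T hnd hq.h' hq.symm.li, e1, e2, T_basis hnd hu hl]
    intro h0
    apply hd0
    have : d * d = 0 := by linear_combination -h0
    exact mul_self_eq_zero.mp this

theorem T_ne (hnd : (bp Q).Nondegenerate) (hq : HQuad Q p r s t) : T ⇑Q p r ≠ T ⇑Q s t := by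
  intro heq
  have h1 : rho Q p r 1 ∈ T ⇑Q s t := by
    rw [← heq]
    exact rho_mem_T hq.h 1
  obtain ⟨e, he⟩ := (mem_T hnd hq.h' hq.symm.li).mp h1
  have h2 := congrArg (fun g : ↥(Cfsg.isometryGroup F ⇑Q) => mat g *ᵥ s) he
  beta_reduce at h2
  rw [rho_mulVec hq.h, rho_mulVec hq.h', hq.sr, hq.sp, hq.h'.hpr, hq.h'.hpp] at h2
  have h3 : p = 0 := by
    have h4 : s + p = s := by
      rw [← sub_eq_zero] at h2 ⊢
      rw [← h2]
      module
    rwa [add_eq_left] at h4
  exact hq.li.left_ne_zero h3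

theorem isRankOnePair (hnd : (bp Q).Nondegenerate) (hq : HQuad Q p r s t) :
    Cfsg.IsRankOnePair (T ⇑Q p r) (T ⇑Q s t) := by
  haveI := T_comm hnd hq.h hq.li
  haveI := T_comm hnd hq.h' hq.symm.li
  refine ⟨hq.T_ne hnd, ?_, ?_, hq.rankOneCondition hnd, hq.symm.rankOneCondition hnd⟩
  · letI : CommGroup (T ⇑Q p r) :=
      { (inferInstance : Group (T ⇑Q p r)) with mul_comm := fun a b => mul_comm' a b }
    exact CommGroup.isNilpotent
  · letI : CommGroup (T ⇑Q s t) :=
      { (inferInstance : Group (T ⇑Q s t)) with mul_comm := fun a b => mul_comm' a b }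
    exact CommGroup.isNilpotent

end HQuad

/-- the Gram determinant of two pairs -/
noncomputable def gdet (Q : QuadraticForm F (ι → F)) (p r p' r' : ι → F) : F :=
  bp Q p p' * bp Q r r' - bp Q p r' * bp Q r p'

/-- normalisation of an opposite pair of lines to a hyperbolic quadruple -/
theorem exists_hquad (hnd : (bp Q).Nondegenerate) {p r p' r' : ι → F} (h : SingPair Q p r)
    (h' : SingPair Q p' r') (hli' : LI p' r') (hdet : gdet Q p r p' r' ≠ 0) :
    ∃ s t, HQuad Q p r s t ∧ T ⇑Q s t = T ⇑Q p' r' := by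
  obtain ⟨D, hD⟩ : ∃ D, D = gdet Q p r p' r' := ⟨_, rfl⟩
  rw [← hD] at hdet
  unfold gdet at hD
  refine ⟨(-(bp Q p r' / D)) • p' + (bp Q p p' / D) • r',
    (bp Q r r' / D) • p' + (-(bp Q r p' / D)) • r', ⟨h, h'.comb _ _ _ _, ?_, ?_, ?_, ?_⟩, ?_⟩
  · simp only [map_add, map_smul, smul_eq_mul]
    field_simp
    linear_combination -hD
  · simp only [map_add, map_smul, smul_eq_mul]
    field_simp
    linear_combination -hD
  · simp only [map_add, map_smul, smul_eq_mul]
    field_simp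
    ring
  · simp only [map_add, map_smul, smul_eq_mul]
    field_simp
    ring
  · apply T_basis hnd h' hli'
    have : -(bp Q p r' / D) * -(bp Q r p' / D) - bp Q p p' / D * (bp Q r r' / D) = -(1 / D) := by
      field_simp
      linear_combination hD
    rw [this]
    exact neg_ne_zero.mpr (one_div_ne_zero hdet)

theorem isRankOnePair_of_gdet (hnd : (bp Q).Nondegenerate) {p r p' r' : ι → F}
    (h : SingPair Q p r) (h' : SingPair Q p' r') (hli' : LI p' r')
    (hdet : gdet Q p r p' r' ≠ 0) : Cfsg.IsRankOnePair (T ⇑Q p r) (T ⇑Q p' r') := by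
  obtain ⟨s, t, hq, hT⟩ := exists_hquad hnd h h' hli' hdet
  rw [← hT]
  exact hq.isRankOnePair hnd

end Cfsg.Agent.H9Sieg
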