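import Mathlib
import Cfsg.Prelude
import Cfsg.Agent.Lib.Helper9.Siegel5
import Cfsg.Agent.Lib.Helper9.SpRoot4

set_option autoImplicit false

/-!
# Siegel transvection groups: the homomorphism from `SL₂(F)` for a pair of opposite lines
-/

namespace Cfsg.Agent.H9Sieg

open Matrix

variable {F : Type*} [Field F] {ι : Type} [Fintype ι] [DecidableEq ι]
variable {Q : QuadraticForm F (ι → F)}

/-- the linear map attached to a `2 × 2` matrix and a hyperbolic quadruple -/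
noncomputable def Lmap (Q : QuadraticForm F (ι → F)) (p r s t : ι → F)
    (g : Matrix (Fin 2) (Fin 2) F) : (ι → F) →ₗ[F] (ι → F) where
  toFun v := v + (bp Q v t * (g 0 0 - 1) + bp Q v r * g 0 1) • p +
    (bp Q v s * (g 0 0 - 1) - bp Q v p * g 0 1) • r +
    (bp Q v t * g 1 0 + bp Q v r * (g 1 1 - 1)) • s +
    (-(bp Q v s * g 1 0) + bp Q v p * (g 1 1 - 1)) • t
  map_add' v w := by
    simp only [map_add, LinearMap.add_apply]
    module
  map_smul' a v := by
    simp only [map_smul, LinearMap.smul_apply, smul_eq_mul, RingHom.id_apply]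
    module

theorem Lmap_apply (p r s t : ι → F) (g : Matrix (Fin 2) (Fin 2) F) (v : ι → F) :
    Lmap Q p r s t g v = v + (bp Q v t * (g 0 0 - 1) + bp Q v r * g 0 1) • p +
      (bp Q v s * (g 0 0 - 1) - bp Q v p * g 0 1) • r +
      (bp Q v t * g 1 0 + bp Q v r * (g 1 1 - 1)) • s +
      (-(bp Q v s * g 1 0) + bp Q v p * (g 1 1 - 1)) • t := rfl

/-- the matrix of `Lmap` -/
noncomputable def Mmat (Q : QuadraticForm F (ι → F)) (p r s t : ι → F)
    (g : Matrix (Fin 2) (Fin 2) F) : Matrix ι ι F := LinearMap.toMatrix' (Lmap Q p r s t g)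

theorem Mmat_mulVec (p r s t : ι → F) (g : Matrix (Fin 2) (Fin 2) F) (v : ι → F) :
    Mmat Q p r s t g *ᵥ v = Lmap Q p r s t g v := by
  unfold Mmat
  rw [← Matrix.toLin'_apply, Matrix.toLin'_toMatrix']

section quad

variable {p r s t : ι → F} (hq : HQuad Q p r s t)
include hq

theorem coord_t (g : Matrix (Fin 2) (Fin 2) F) (v : ι → F) :
    bp Q (Lmap Q p r s t g v) t = bp Q v t * g 0 0 + bp Q v r * g 0 1 := by
  rw [Lmap_apply]
  simp only [map_add, map_smul, LinearMap.add_apply, LinearMap.smul_apply, smul_eq_mul, hq.pt,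
    hq.rt, hq.h'.hpr, hq.h'.hrr]
  ring

theorem coord_s (g : Matrix (Fin 2) (Fin 2) F) (v : ι → F) :
    bp Q (Lmap Q p r s t g v) s = bp Q v s * g 0 0 - bp Q v p * g 0 1 := by
  rw [Lmap_apply]
  simp only [map_add, map_smul, LinearMap.add_apply, LinearMap.smul_apply, smul_eq_mul, hq.ps,
    hq.rs, hq.h'.hpp, hq.h'.hrp]
  ring

theorem coord_r (g : Matrix (Fin 2) (Fin 2) F) (v : ι → F) :
    bp Q (Lmap Q p r s t g v) r = bp Q v t * g 1 0 + bp Q v r * g 1 1 := by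
  rw [Lmap_apply]
  simp only [map_add, map_smul, LinearMap.add_apply, LinearMap.smul_apply, smul_eq_mul, hq.h.hpr,
    hq.h.hrr, hq.sr, hq.tr]
  ring

theorem coord_p (g : Matrix (Fin 2) (Fin 2) F) (v : ι → F) :
    bp Q (Lmap Q p r s t g v) p = -(bp Q v s * g 1 0) + bp Q v p * g 1 1 := by
  rw [Lmap_apply]
  simp only [map_add, map_smul, LinearMap.add_apply, LinearMap.smul_apply, smul_eq_mul, hq.h.hpp,
    hq.h.hrp, hq.sp, hq.tp]
  ring

theorem Lmap_mul (g g' : Matrix (Fin 2) (Fin 2) F) (v : ι → F) :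
    Lmap Q p r s t g (Lmap Q p r s t g' v) = Lmap Q p r s t (g * g') v := by
  rw [Lmap_apply p r s t g, coord_t hq, coord_s hq, coord_r hq, coord_p hq, Lmap_apply, Lmap_apply]
  simp only [Matrix.mul_apply, Fin.sum_univ_two]
  module

omit hq in
theorem Lmap_one (v : ι → F) : Lmap Q p r s t (1 : Matrix (Fin 2) (Fin 2) F) v = v := by
  rw [Lmap_apply]
  simp

theorem Mmat_mul (g g' : Matrix (Fin 2) (Fin 2) F) :
    Mmat Q p r s t (g * g') = Mmat Q p r s t g * Mmat Q p r s t g' := by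
  apply H9SLRoot.ext_mulVec
  intro v
  rw [← Matrix.mulVec_mulVec, Mmat_mulVec, Mmat_mulVec, Mmat_mulVec, Lmap_mul hq]

omit hq in
theorem Mmat_one : Mmat Q p r s t (1 : Matrix (Fin 2) (Fin 2) F) = 1 := by
  apply H9SLRoot.ext_mulVec
  intro v
  rw [Mmat_mulVec, Lmap_one, Matrix.one_mulVec]

theorem Mmat_upper (g : Matrix.SpecialLinearGroup (Fin 2) F)
    (hg : (g : Matrix (Fin 2) (Fin 2) F) 1 0 = 0 ∧ (g : Matrix (Fin 2) (Fin 2) F) 0 0 = 1 ∧
      (g : Matrix (Fin 2) (Fin 2) F) 1 1 = 1) :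
    Mmat Q p r s t (g : Matrix (Fin 2) (Fin 2) F) =
      mat (rho Q p r ((g : Matrix (Fin 2) (Fin 2) F) 0 1)) := by
  apply H9SLRoot.ext_mulVec
  intro v
  rw [Mmat_mulVec, Lmap_apply, rho_mulVec hq.h, hg.1, hg.2.1, hg.2.2]
  module

theorem Mmat_lower (g : Matrix.SpecialLinearGroup (Fin 2) F)
    (hg : (g : Matrix (Fin 2) (Fin 2) F) 0 1 = 0 ∧ (g : Matrix (Fin 2) (Fin 2) F) 0 0 = 1 ∧
      (g : Matrix (Fin 2) (Fin 2) F) 1 1 = 1) :
    Mmat Q p r s t (g : Matrix (Fin 2) (Fin 2) F) =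
      mat (rho Q s t ((g : Matrix (Fin 2) (Fin 2) F) 1 0)) := by
  apply H9SLRoot.ext_mulVec
  intro v
  rw [Mmat_mulVec, Lmap_apply, rho_mulVec hq.h', hg.1, hg.2.1, hg.2.2]
  module

theorem exists_iso (g : Matrix.SpecialLinearGroup (Fin 2) F) :
    ∃ u : ↥(Cfsg.isometryGroup F ⇑Q), mat u = Mmat Q p r s t (g : Matrix (Fin 2) (Fin 2) F) := by
  have hg : g ∈ Cfsg.upperUnipotentSL2 F ⊔ Cfsg.lowerUnipotentSL2 F := by
    rw [H9SpRoot.SL2_sup]
    exact Subgroup.mem_top g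
  unfold Cfsg.upperUnipotentSL2 Cfsg.lowerUnipotentSL2 at hg
  rw [← Subgroup.closure_union] at hg
  induction hg using Subgroup.closure_induction with
  | mem x hx =>
    rcases hx with hx | hx
    · exact ⟨_, (Mmat_upper hq x hx).symm⟩
    · exact ⟨_, (Mmat_lower hq x hx).symm⟩
  | one =>
    refine ⟨1, ?_⟩
    rw [Matrix.SpecialLinearGroup.coe_one, Mmat_one]
    rfl
  | mul x y _ _ hx hy =>
    obtain ⟨u, hu⟩ := hx
    obtain ⟨v, hv⟩ := hy
    refine ⟨u * v, ?_⟩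
    rw [Matrix.SpecialLinearGroup.coe_mul, Mmat_mul hq, ← hu, ← hv]
    rfl
  | inv x _ hx =>
    obtain ⟨u, hu⟩ := hx
    refine ⟨u⁻¹, ?_⟩
    have h1 : mat u⁻¹ * mat u = 1 := by
      have : mat (u⁻¹ * u) = 1 := by rw [inv_mul_cancel]; rfl
      exact this
    have h2 : Mmat Q p r s t (x : Matrix (Fin 2) (Fin 2) F) *
        Mmat Q p r s t ((x⁻¹ : Matrix.SpecialLinearGroup (Fin 2) F) : Matrix (Fin 2) (Fin 2) F) =
        1 := by
      rw [← Mmat_mul hq, ← Matrix.SpecialLinearGroup.coe_mul, mul_inv_cancel,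
        Matrix.SpecialLinearGroup.coe_one, Mmat_one]
    calc mat u⁻¹ = mat u⁻¹ * (Mmat Q p r s t (x : Matrix (Fin 2) (Fin 2) F) *
          Mmat Q p r s t ((x⁻¹ : Matrix.SpecialLinearGroup (Fin 2) F) :
            Matrix (Fin 2) (Fin 2) F)) := by rw [h2, mul_one]
      _ = (mat u⁻¹ * mat u) *
          Mmat Q p r s t ((x⁻¹ : Matrix.SpecialLinearGroup (Fin 2) F) :
            Matrix (Fin 2) (Fin 2) F) := by rw [hu, mul_assoc]
      _ = _ := by rw [h1, one_mul]

/-- the homomorphism from `SL₂(F)` to the isometry group -/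
noncomputable def phi : Matrix.SpecialLinearGroup (Fin 2) F →* ↥(Cfsg.isometryGroup F ⇑Q) where
  toFun g := Classical.choose (exists_iso hq g)
  map_one' := by
    apply iso_ext
    intro v
    rw [Classical.choose_spec (exists_iso hq 1), Matrix.SpecialLinearGroup.coe_one, Mmat_one,
      coe_one_mulVec, Matrix.one_mulVec]
  map_mul' g g' := by
    apply iso_ext
    intro v
    rw [coe_mul_mulVec, Classical.choose_spec (exists_iso hq (g * g')),
      Classical.choose_spec (exists_iso hq g), Classical.choose_spec (exists_iso hq g'),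
      Matrix.SpecialLinearGroup.coe_mul, Mmat_mul hq, Matrix.mulVec_mulVec]

theorem phi_coe (g : Matrix.SpecialLinearGroup (Fin 2) F) :
    mat (phi hq g) = Mmat Q p r s t (g : Matrix (Fin 2) (Fin 2) F) :=
  Classical.choose_spec (exists_iso hq g)

theorem phi_mulVec (g : Matrix.SpecialLinearGroup (Fin 2) F) (v : ι → F) :
    mat (phi hq g) *ᵥ v = Lmap Q p r s t (g : Matrix (Fin 2) (Fin 2) F) v := by
  rw [phi_coe]
  exact Mmat_mulVec p r s t _ v

theorem phi_upper (g : Matrix.SpecialLinearGroup (Fin 2) F)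
    (hg : (g : Matrix (Fin 2) (Fin 2) F) 1 0 = 0 ∧ (g : Matrix (Fin 2) (Fin 2) F) 0 0 = 1 ∧
      (g : Matrix (Fin 2) (Fin 2) F) 1 1 = 1) :
    phi hq g = rho Q p r ((g : Matrix (Fin 2) (Fin 2) F) 0 1) := by
  apply iso_ext
  intro v
  rw [phi_coe, Mmat_upper hq g hg]

theorem phi_lower (g : Matrix.SpecialLinearGroup (Fin 2) F)
    (hg : (g : Matrix (Fin 2) (Fin 2) F) 0 1 = 0 ∧ (g : Matrix (Fin 2) (Fin 2) F) 0 0 = 1 ∧
      (g : Matrix (Fin 2) (Fin 2) F) 1 1 = 1) :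
    phi hq g = rho Q s t ((g : Matrix (Fin 2) (Fin 2) F) 1 0) := by
  apply iso_ext
  intro v
  rw [phi_coe, Mmat_lower hq g hg]

theorem phi_injective : Function.Injective (phi hq) := by
  rw [injective_iff_map_eq_one]
  intro g hg
  have h1 := phi_mulVec hq g p
  have h2 := phi_mulVec hq g s
  rw [hg, coe_one_mulVec] at h1 h2
  have a1 := coord_t hq (g : Matrix (Fin 2) (Fin 2) F) p
  have a2 := coord_r hq (g : Matrix (Fin 2) (Fin 2) F) p
  have a3 := coord_t hq (g : Matrix (Fin 2) (Fin 2) F) s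
  have a4 := coord_r hq (g : Matrix (Fin 2) (Fin 2) F) s
  rw [← h1, hq.pt, hq.h.hpr, one_mul, zero_mul, add_zero] at a1 a2
  rw [← h2, hq.h'.hpr, hq.sr, one_mul, zero_mul, zero_add] at a3 a4
  apply Subtype.ext
  ext i j
  rw [Matrix.SpecialLinearGroup.coe_one]
  fin_cases i <;> fin_cases j
  · exact a1.symm
  · exact a3.symm
  · exact a2.symm
  · exact a4.symm

theorem map_upper (hnd : (bp Q).Nondegenerate) :
    (Cfsg.upperUnipotentSL2 F).map (phi hq) = T ⇑Q p r := by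
  apply le_antisymm
  · unfold Cfsg.upperUnipotentSL2
    rw [MonoidHom.map_closure, Subgroup.closure_le]
    rintro _ ⟨g, hg, rfl⟩
    rw [phi_upper hq g hg]
    exact rho_mem_T hq.h _
  · intro x hx
    obtain ⟨c, rfl⟩ := (mem_T hnd hq.h hq.li).mp hx
    refine ⟨H9SpRoot.uu c, Subgroup.subset_closure ⟨rfl, rfl, rfl⟩, ?_⟩
    rw [phi_upper hq (H9SpRoot.uu c) ⟨rfl, rfl, rfl⟩]
    rfl

theorem map_lower (hnd : (bp Q).Nondegenerate) :
    (Cfsg.lowerUnipotentSL2 F).map (phi hq) = T ⇑Q s t := by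
  apply le_antisymm
  · unfold Cfsg.lowerUnipotentSL2
    rw [MonoidHom.map_closure, Subgroup.closure_le]
    rintro _ ⟨g, hg, rfl⟩
    rw [phi_lower hq g hg]
    exact rho_mem_T hq.h' _
  · intro x hx
    obtain ⟨c, rfl⟩ := (mem_T hnd hq.h' hq.symm.li).mp hx
    refine ⟨H9SpRoot.ll c, Subgroup.subset_closure ⟨rfl, rfl, rfl⟩, ?_⟩
    rw [phi_lower hq (H9SpRoot.ll c) ⟨rfl, rfl, rfl⟩]
    rfl

theorem isPSL2PairOver (hnd : (bp Q).Nondegenerate) :
    Cfsg.IsPSL2PairOver F (T ⇑Q p r) (T ⇑Q s t) := by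
  refine ⟨phi hq, ?_, ?_, map_upper hq hnd, map_lower hq hnd⟩
  · rw [MonoidHom.range_eq_map, ← H9SpRoot.SL2_sup, Subgroup.map_sup, map_upper hq hnd,
      map_lower hq hnd]
  · rw [(MonoidHom.ker_eq_bot_iff _).mpr (phi_injective hq)]
    exact bot_le

end quad

theorem isPSL2PairOver_of_gdet (hnd : (bp Q).Nondegenerate) {p r p' r' : ι → F}
    (h : SingPair Q p r) (h' : SingPair Q p' r') (hli' : LI p' r')
    (hdet : gdet Q p r p' r' ≠ 0) : Cfsg.IsPSL2PairOver F (T ⇑Q p r) (T ⇑Q p' r') := by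
  obtain ⟨s, t, hq, hT⟩ := exists_hquad hnd h h' hli' hdet
  rw [← hT]
  exact isPSL2PairOver hq hnd

end Cfsg.Agent.H9Sieg
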