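import Mathlib
import Cfsg.Prelude

set_option autoImplicit false

/-!
A field subalgebra `K` of a matrix algebra as a field acting on column vectors: the structure
`FK K hK` carries the field structure, the algebra structure over the base field and the module
structure on `ι → F`.
-/

namespace Cfsg.Agent.H9FK

open Module Matrix

variable {F : Type*} [Field F] {ι : Type} [Fintype ι] [DecidableEq ι] {r : ℕ}

/-- the field subalgebra as a type -/
structure FK (K : Subalgebra F (Matrix ι ι F)) (hK : Cfsg.Geo.IsFieldSubalgebra r K) where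
  /-- the underlying matrix -/
  val : Matrix ι ι F
  mem : val ∈ K

namespace FK

variable {K : Subalgebra F (Matrix ι ι F)} {hK : Cfsg.Geo.IsFieldSubalgebra r K}

theorem val_injective : Function.Injective (val : FK K hK → Matrix ι ι F) := by
  intro a b h
  cases a; cases b
  congr

instance : Zero (FK K hK) := ⟨⟨0, K.zero_mem⟩⟩
instance : One (FK K hK) := ⟨⟨1, K.one_mem⟩⟩
instance : Add (FK K hK) := ⟨fun a b => ⟨a.val + b.val, K.add_mem a.mem b.mem⟩⟩
instance : Mul (FK K hK) := ⟨fun a b => ⟨a.val * b.val, K.mul_mem a.mem b.mem⟩⟩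
instance : Neg (FK K hK) := ⟨fun a => ⟨-a.val, K.neg_mem a.mem⟩⟩
instance : Sub (FK K hK) := ⟨fun a b => ⟨a.val - b.val, K.sub_mem a.mem b.mem⟩⟩
instance : SMul ℕ (FK K hK) := ⟨fun n a => ⟨n • a.val, K.nsmul_mem a.mem n⟩⟩
instance : SMul ℤ (FK K hK) := ⟨fun n a => ⟨n • a.val, K.zsmul_mem a.mem n⟩⟩
instance : Pow (FK K hK) ℕ := ⟨fun a n => ⟨a.val ^ n, K.pow_mem a.mem n⟩⟩
instance : NatCast (FK K hK) := ⟨fun n => ⟨n, K.natCast_mem n⟩⟩
instance : IntCast (FK K hK) := ⟨fun n => ⟨n, K.intCast_mem n⟩⟩
instance : SMul F (FK K hK) := ⟨fun c a => ⟨c • a.val, K.smul_mem a.mem c⟩⟩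

@[simp] theorem val_zero : (0 : FK K hK).val = 0 := rfl
@[simp] theorem val_one : (1 : FK K hK).val = 1 := rfl
@[simp] theorem val_add (a b : FK K hK) : (a + b).val = a.val + b.val := rfl
@[simp] theorem val_mul (a b : FK K hK) : (a * b).val = a.val * b.val := rfl
@[simp] theorem val_neg (a : FK K hK) : (-a).val = -a.val := rfl
@[simp] theorem val_sub (a b : FK K hK) : (a - b).val = a.val - b.val := rfl
@[simp] theorem val_smul (c : F) (a : FK K hK) : (c • a).val = c • a.val := rfl

instance instRing : Ring (FK K hK) :=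
  val_injective.ring val rfl rfl (fun _ _ => rfl) (fun _ _ => rfl) (fun _ => rfl) (fun _ _ => rfl)
    (fun _ _ => rfl) (fun _ _ => rfl) (fun _ _ => rfl) (fun _ => rfl) (fun _ => rfl)

/-- the underlying matrix, as a ring homomorphism -/
def valHom : FK K hK →+* Matrix ι ι F where
  toFun := val
  map_one' := rfl
  map_mul' _ _ := rfl
  map_zero' := rfl
  map_add' _ _ := rfl

instance instModuleF : Module F (FK K hK) :=
  val_injective.module F (valHom : FK K hK →+* Matrix ι ι F).toAddMonoidHom (fun _ _ => rfl)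

instance instAlgebra : Algebra F (FK K hK) :=
  Algebra.ofModule
    (fun c a b => val_injective (by
      show (c • a.val) * b.val = c • (a.val * b.val)
      rw [Matrix.smul_mul]))
    (fun c a b => val_injective (by
      show a.val * (c • b.val) = c • (a.val * b.val)
      rw [Matrix.mul_smul]))

theorem val_algebraMap (c : F) : (algebraMap F (FK K hK) c).val = c • (1 : Matrix ι ι F) := by
  rw [Algebra.algebraMap_eq_smul_one, val_smul, val_one]

/-- the linear equivalence with the subalgebra -/
def equivSub : FK K hK ≃ₗ[F] ↥K where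
  toFun a := ⟨a.val, a.mem⟩
  invFun a := ⟨a.1, a.2⟩
  left_inv _ := rfl
  right_inv _ := rfl
  map_add' _ _ := rfl
  map_smul' _ _ := rfl

theorem finrank_eq : finrank F (FK K hK) = r := by
  rw [LinearEquiv.finrank_eq (equivSub : FK K hK ≃ₗ[F] ↥K), hK.finrank_eq]

include hK in
theorem nontrivial_mat [NeZero r] : (1 : Matrix ι ι F) ≠ 0 := by
  intro h10
  have h1 : 0 < finrank F ↥K := by
    rw [hK.finrank_eq]; exact Nat.pos_of_ne_zero (NeZero.ne r)
  have : Nontrivial ↥K := Module.nontrivial_of_finrank_pos (R := F) h1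
  obtain ⟨x, y, hxy⟩ := exists_pair_ne ↥K
  apply hxy
  apply Subtype.ext
  have e : ∀ z : Matrix ι ι F, z = 0 := by
    intro z
    rw [← Matrix.mul_one z, h10, Matrix.mul_zero]
  rw [e x.1, e y.1]

theorem exists_inv (a : FK K hK) (ha : a ≠ 0) : ∃ b : FK K hK, a * b = 1 := by
  obtain ⟨y, hy, hay⟩ := hK.inv a.val a.mem (fun h0 => ha (val_injective h0))
  exact ⟨⟨y, hy⟩, val_injective hay⟩

open Classical in
/-- the inverse in the field subalgebra -/
noncomputable def invK (a : FK K hK) : FK K hK :=
  if ha : a = 0 then 0 else Classical.choose (exists_inv a ha)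

theorem invK_zero : invK (0 : FK K hK) = 0 := by
  unfold invK
  rw [dif_pos rfl]

theorem mul_invK_cancel (a : FK K hK) (ha : a ≠ 0) : a * invK a = 1 := by
  unfold invK
  rw [dif_neg ha]
  exact Classical.choose_spec (exists_inv a ha)

noncomputable instance instField [NeZero r] : Field (FK K hK) where
  __ := (instRing : Ring (FK K hK))
  mul_comm a b := val_injective (hK.comm a.val a.mem b.val b.mem)
  exists_pair_ne := ⟨0, 1, fun h => nontrivial_mat (hK := hK) (congrArg val h).symm⟩
  inv := invK
  inv_zero := invK_zero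
  mul_inv_cancel := mul_invK_cancel
  nnqsmul := _
  nnqsmul_def _ _ := rfl
  qsmul := _
  qsmul_def _ _ := rfl

/-- an element of `K` as an element of the field -/
def mk' (k : Matrix ι ι F) (hk : k ∈ K) : FK K hK := ⟨k, hk⟩

/-- the action on column vectors -/
instance instModule : Module (FK K hK) (ι → F) :=
  Module.compHom (ι → F)
    ((Matrix.toLinAlgEquiv' : Matrix ι ι F ≃ₐ[F] Module.End F (ι → F)).toAlgHom.toRingHom.comp
      (valHom : FK K hK →+* Matrix ι ι F))

theorem smul_def (k : FK K hK) (v : ι → F) : k • v = k.val *ᵥ v := rfl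

instance instTower : IsScalarTower F (FK K hK) (ι → F) where
  smul_assoc := by
    intro c k v
    rw [smul_def, smul_def, val_smul, Matrix.smul_mulVec]

instance instFinite [Finite F] : Finite (FK K hK) :=
  Finite.of_injective val val_injective

end FK

end Cfsg.Agent.H9FK
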