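import Mathlib
import Cfsg.Prelude
import Cfsg.Agent.Lib.Helper9.FieldSub1

set_option autoImplicit false

/-!
The adjoint automorphism of an adjoint-closed field subalgebra, and coordinates in a quadratic
field subalgebra.
-/

namespace Cfsg.Agent.H9FK

open Module Matrix

variable {F : Type*} [Field F] {ι : Type} [Fintype ι] [DecidableEq ι] {r : ℕ} [NeZero r]
  {K : Subalgebra F (Matrix ι ι F)} {hK : Cfsg.Geo.IsFieldSubalgebra r K}
  {f : (ι → F) → (ι → F) → F}

/-- the hypotheses on the form -/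
structure RForm (f : (ι → F) → (ι → F) → F) (δ : F) : Prop where
  bil : Cfsg.Geo.IsBilinearForm f
  nd : ∀ v, (∀ u, f u v = 0) → v = 0
  swap : ∀ u v, f v u = δ * f u v
  sq : δ * δ = 1

variable {δ : F}

theorem RForm.sub_right (hf : RForm f δ) (u v w : ι → F) : f u (v - w) = f u v - f u w := by
  have h1 := hf.bil.add_right u (v - w) w
  rw [sub_add_cancel] at h1
  rw [h1, add_sub_cancel_right]

theorem RForm.ext (hf : RForm f δ) {A B : Matrix ι ι F}
    (h : ∀ u v, f u (A *ᵥ v) = f u (B *ᵥ v)) : A = B := by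
  apply Matrix.mulVec_injective
  funext v
  have h1 : A *ᵥ v - B *ᵥ v = 0 := by
    apply hf.nd
    intro u
    rw [hf.sub_right, h u v, sub_self]
  exact sub_eq_zero.1 h1

/-- the adjoint of an element -/
noncomputable def adj (hac : Cfsg.Geo.IsAdjointClosedFor f K) (k : FK K hK) : FK K hK :=
  FK.mk (Classical.choose (hac (k.val) k.mem))
    (Classical.choose_spec (hac (k.val) k.mem)).1

theorem adj_spec (hac : Cfsg.Geo.IsAdjointClosedFor f K) (k : FK K hK) (u v : ι → F) :
    f (k.val *ᵥ u) v = f u ((adj hac k).val *ᵥ v) :=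
  (Classical.choose_spec (hac (k.val) k.mem)).2 u v

theorem adj_unique (hf : RForm f δ) (hac : Cfsg.Geo.IsAdjointClosedFor f K) (k k' : FK K hK)
    (h : ∀ u v, f (k.val *ᵥ u) v = f u (k'.val *ᵥ v)) : adj hac k = k' := by
  apply FK.val_injective
  apply hf.ext
  intro u v
  rw [← adj_spec hac k u v, h u v]

theorem adj_mul (hf : RForm f δ) (hac : Cfsg.Geo.IsAdjointClosedFor f K) (a b : FK K hK) :
    adj hac (a * b) = adj hac a * adj hac b := by
  apply adj_unique hf
  intro u v
  rw [mul_comm (adj hac a), FK.val_mul, FK.val_mul, ← Matrix.mulVec_mulVec, ← Matrix.mulVec_mulVec,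
    adj_spec hac a, adj_spec hac b]

theorem adj_add (hf : RForm f δ) (hac : Cfsg.Geo.IsAdjointClosedFor f K) (a b : FK K hK) :
    adj hac (a + b) = adj hac a + adj hac b := by
  apply adj_unique hf
  intro u v
  rw [FK.val_add, FK.val_add, Matrix.add_mulVec, Matrix.add_mulVec, hf.bil.add_left, hf.bil.add_right,
    adj_spec hac a, adj_spec hac b]

theorem adj_adj (hf : RForm f δ) (hac : Cfsg.Geo.IsAdjointClosedFor f K) (a : FK K hK) :
    adj hac (adj hac a) = a := by
  apply adj_unique hf
  intro u v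
  rw [hf.swap v ((adj hac a).val *ᵥ u), ← adj_spec hac a, hf.swap (a.val *ᵥ v) u]

/-- the adjoint automorphism -/
noncomputable def tau (hf : RForm f δ) (hac : Cfsg.Geo.IsAdjointClosedFor f K) :
    FK K hK ≃+* FK K hK where
  toFun := adj hac
  invFun := adj hac
  left_inv := adj_adj hf hac
  right_inv := adj_adj hf hac
  map_mul' := adj_mul hf hac
  map_add' := adj_add hf hac

theorem tau_spec (hf : RForm f δ) (hac : Cfsg.Geo.IsAdjointClosedFor f K) (k : FK K hK)
    (u v : ι → F) : f (k • u) v = f u (tau hf hac k • v) := adj_spec hac k u v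

theorem tau_tau (hf : RForm f δ) (hac : Cfsg.Geo.IsAdjointClosedFor f K) (k : FK K hK) :
    tau hf hac (tau hf hac k) = k := adj_adj hf hac k

theorem tau_algebraMap (hf : RForm f δ) (hac : Cfsg.Geo.IsAdjointClosedFor f K) (c : F) :
    tau hf hac (algebraMap F (FK K hK) c) = algebraMap F (FK K hK) c := by
  show adj hac _ = _
  apply adj_unique hf hac
  intro u v
  rw [FK.val_algebraMap, Matrix.smul_mulVec, Matrix.smul_mulVec, Matrix.one_mulVec,
    Matrix.one_mulVec, hf.bil.smul_left, hf.bil.smul_right]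

theorem orderOf_tau (hf : RForm f δ) (hac : Cfsg.Geo.IsAdjointClosedFor f K)
    (hnsa : ¬ Cfsg.Geo.IsSelfAdjointFor f K) : orderOf (tau hf hac : FK K hK ≃+* FK K hK) = 2 := by
  haveI : Fact (Nat.Prime 2) := ⟨Nat.prime_two⟩
  apply orderOf_eq_prime
  · apply RingEquiv.ext
    intro k
    rw [pow_two]
    show tau hf hac (tau hf hac k) = k
    exact tau_tau hf hac k
  · intro h1
    apply hnsa
    intro k hk u v
    have h2 := tau_spec hf hac (⟨k, hk⟩ : FK K hK) u v
    rw [h1] at h2
    exact h2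

theorem exists_tau_ne (hf : RForm f δ) (hac : Cfsg.Geo.IsAdjointClosedFor f K)
    (hnsa : ¬ Cfsg.Geo.IsSelfAdjointFor f K) : ∃ k : FK K hK, tau hf hac k ≠ k := by
  by_contra hcon
  push Not at hcon
  apply hnsa
  intro k hk u v
  have h2 := tau_spec hf hac (⟨k, hk⟩ : FK K hK) u v
  rw [hcon] at h2
  exact h2

end Cfsg.Agent.H9FK
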