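import Mathlib
import Cfsg.Prelude
import Cfsg.Agent.Lib.Helper9.FieldSub2

set_option autoImplicit false

/-!
Coordinates in a quadratic field subalgebra.
-/

namespace Cfsg.Agent.H9FK

open Module Matrix

variable {F : Type*} [Field F] {ι : Type} [Fintype ι] [DecidableEq ι]
  {K : Subalgebra F (Matrix ι ι F)} {hK : Cfsg.Geo.IsFieldSubalgebra 2 K}

theorem coord_indep {j : FK K hK} (hj : ∀ c : F, j ≠ algebraMap F (FK K hK) c) {a b : F}
    (h : algebraMap F (FK K hK) a + b • j = 0) : a = 0 ∧ b = 0 := by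
  have hb : b = 0 := by
    by_contra hb
    apply hj (-(a / b))
    have h1 : b • j = -algebraMap F (FK K hK) a := eq_neg_of_add_eq_zero_right h
    have h2 : j = b⁻¹ • (b • j) := by rw [smul_smul, inv_mul_cancel₀ hb, one_smul]
    rw [h2, h1, smul_neg, Algebra.smul_def, ← map_mul, ← map_neg]
    congr 1
    field_simp
  rw [hb, zero_smul, add_zero] at h
  exact ⟨(map_eq_zero (algebraMap F (FK K hK))).1 h, hb⟩

theorem exists_coord {j : FK K hK} (hj : ∀ c : F, j ≠ algebraMap F (FK K hK) c) (l : FK K hK) :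
    ∃ a b : F, l = algebraMap F (FK K hK) a + b • j := by
  have hli : LinearIndependent F ![(1 : FK K hK), j] := by
    rw [LinearIndependent.pair_iff' one_ne_zero]
    intro a ha
    apply hj a
    rw [← ha, Algebra.algebraMap_eq_smul_one]
  haveI : FiniteDimensional F (FK K hK) := by
    apply FiniteDimensional.of_finrank_pos
    rw [FK.finrank_eq]
    norm_num
  have hspan := hli.span_eq_top_of_card_eq_finrank' (by
    rw [Fintype.card_fin, FK.finrank_eq])
  have hl : l ∈ Submodule.span F (Set.range ![(1 : FK K hK), j]) := by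
    rw [hspan]; trivial
  rw [Submodule.mem_span_range_iff_exists_fun] at hl
  obtain ⟨c, hc⟩ := hl
  rw [Fin.sum_univ_two] at hc
  refine ⟨c 0, c 1, ?_⟩
  rw [← hc, Algebra.algebraMap_eq_smul_one]
  rfl

end Cfsg.Agent.H9FK
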