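import Mathlib
import Cfsg.Agent.Lib.Helper9.SUMax1

set_option autoImplicit false

/-!
General facts on nondegenerate Hermitian spaces over finite fields: spanning by isotropic
vectors, connectivity of the non-orthogonality graph, two orthogonal hyperbolic pairs,
transitivity of the transvection group on vectors of equal norm.
-/

namespace Cfsg.Agent.H9SUMax

open Module Cfsg.Agent.Lib.Helper2 Cfsg.Agent.Lib.Helper2.UT Cfsg.Agent.Lib.Helper2.IsomDecomp
  Cfsg.Agent.Lib.Helper2.HermDecomp Cfsg.Agent.Lib.Helper2.HermFrames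
  Cfsg.Agent.Lib.Helper5.PSLCoset

universe u v

variable {F : Type v} [Field F] {σ : F ≃+* F} {V : Type u} [AddCommGroup V] [Module F V]
  {H : V → V → F}

section general

variable [Finite F] [FiniteDimensional F V]

/-- every vector is a sum of three isotropic vectors -/
theorem exists_iso_decomp (hσ : orderOf σ = 2) (h : IsHerm σ H)
    (hnd : ∀ v, (∀ w, H v w = 0) → v = 0) (hdim : 2 ≤ finrank F V) (v : V) :
    ∃ x₁ x₂ x₃ : V, H x₁ x₁ = 0 ∧ H x₂ x₂ = 0 ∧ H x₃ x₃ = 0 ∧ v = x₁ + x₂ + x₃ := by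
  obtain ⟨e, f, hp⟩ := exists_hypPair hσ h hnd hdim
  have hfe := hp.vu h
  obtain ⟨v', hv'⟩ : ∃ v' : V, v' = v - H v f • e - H v e • f := ⟨_, rfl⟩
  have hv'e : H v' e = 0 := by
    rw [hv', h.sub_left, h.sub_left, h.smul_left, h.smul_left, hp.uu, hfe]
    ring
  have hv'f : H v' f = 0 := by
    rw [hv', h.sub_left, h.sub_left, h.smul_left, h.smul_left, hp.uv, hp.vv]
    ring
  have hev' : H e v' = 0 := by rw [h.symm v' e, hv'e, map_zero]
  have hfv' : H f v' = 0 := by rw [h.symm v' f, hv'f, map_zero]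
  have hfix : σ (-(H v' v')) = -(H v' v') := by rw [map_neg, WittHerm.self_fixed h]
  obtain ⟨s, hs⟩ := WittHerm.exists_trace hσ _ hfix
  refine ⟨v' + e + s • f, (H v f - 1) • e, (H v e - s) • f, ?_, ?_, ?_, ?_⟩
  · have e1 : H (v' + e + s • f) (v' + e + s • f) = H v' v' + (s + σ s) := by
      simp only [h.add_left, h.add_right, h.smul_left, h.smul_right, hp.uu, hp.vv, hp.uv, hfe,
        hv'e, hv'f, hev', hfv']
      ring
    rw [e1, hs]
    ring
  · rw [h.smul_left, h.smul_right, hp.uu, mul_zero, mul_zero]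
  · rw [h.smul_left, h.smul_right, hp.vv, mul_zero, mul_zero]
  · rw [hv']
    module

omit [Finite F] [FiniteDimensional F V] in
/-- connectivity: two nonzero vectors, the first isotropic and orthogonal to the second, have a
common isotropic non-neighbour -/
theorem exists_iso_conn (hσ : orderOf σ = 2) (h : IsHerm σ H)
    (hnd : ∀ v, (∀ w, H v w = 0) → v = 0) {y y'' : V} (hy0 : y ≠ 0) (hy''0 : y'' ≠ 0)
    (hyy : H y y = 0) (hyy'' : H y y'' = 0) :
    ∃ y' : V, H y' y' = 0 ∧ H y y' ≠ 0 ∧ H y'' y' ≠ 0 := by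
  obtain ⟨v₁, hv₁⟩ : ∃ v₁, H y v₁ ≠ 0 := by
    by_contra hcon
    push Not at hcon
    exact hy0 (hnd y hcon)
  obtain ⟨v₂, hv₂⟩ : ∃ v₂, H y'' v₂ ≠ 0 := by
    by_contra hcon
    push Not at hcon
    exact hy''0 (hnd y'' hcon)
  obtain ⟨x, hx1, hx2⟩ : ∃ x, H y x ≠ 0 ∧ H y'' x ≠ 0 := by
    by_cases h3 : H y'' v₁ = 0
    · by_cases h4 : H y v₂ = 0
      · refine ⟨v₁ + v₂, ?_, ?_⟩
        · rw [h.add_right, h4, add_zero]; exact hv₁
        · rw [h.add_right, h3, zero_add]; exact hv₂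
      · exact ⟨v₂, h4, hv₂⟩
    · exact ⟨v₁, hv₁, h3⟩
  have hfix : σ (-(H x x)) = -(H x x) := by rw [map_neg, WittHerm.self_fixed h]
  obtain ⟨t, ht⟩ := WittHerm.exists_trace hσ _ hfix
  have hy''y : H y'' y = 0 := by rw [h.symm y y'', hyy'', map_zero]
  refine ⟨x + (t / H y x) • y, ?_, ?_, ?_⟩
  · have e1 : H (x + (t / H y x) • y) (x + (t / H y x) • y) =
        H x x + (t / H y x * H y x + σ (t / H y x * H y x)) := by
      simp only [h.add_left, h.add_right, h.smul_left, h.smul_right, hyy, map_mul]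
      rw [← h.symm y x]
      ring
    rw [e1, div_mul_cancel₀ _ hx1, ht]
    ring
  · rw [h.add_right, h.smul_right, hyy, mul_zero, add_zero]
    exact hx1
  · rw [h.add_right, h.smul_right, hy''y, mul_zero, add_zero]
    exact hx2

/-- two mutually orthogonal hyperbolic pairs -/
theorem exists_two_hypPairs (hσ : orderOf σ = 2) (h : IsHerm σ H)
    (hnd : ∀ v, (∀ w, H v w = 0) → v = 0) (hdim : 4 ≤ finrank F V) :
    ∃ e₁ f₁ e₂ f₂ : V, HypPair H e₁ f₁ ∧ HypPair H e₂ f₂ ∧ H e₁ e₂ = 0 ∧ H e₁ f₂ = 0 ∧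
      H f₁ e₂ = 0 ∧ H f₁ f₂ = 0 := by
  obtain ⟨u, v, hp⟩ := exists_hypPair hσ h hnd (by omega)
  have huv0 : H u v ≠ 0 := by rw [hp.uv]; exact one_ne_zero
  have hli : LinearIndependent F ![u, v] := hp.linearIndependent h
  obtain ⟨P, hP⟩ : ∃ P : Submodule F V, P = Submodule.span F (Set.range ![u, v]) := ⟨_, rfl⟩
  have huP : u ∈ P := by
    rw [hP]
    exact Submodule.subset_span ⟨0, rfl⟩
  have hvP : v ∈ P := by
    rw [hP]
    exact Submodule.subset_span ⟨1, rfl⟩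
  have hfr : finrank F P = 2 := by
    rw [hP, finrank_span_eq_card hli, Fintype.card_fin]
  have hPnd : ∀ x ∈ P, (∀ y ∈ P, H x y = 0) → x = 0 := by
    intro x hx hx'
    rw [hP, Submodule.mem_span_range_iff_exists_fun] at hx
    obtain ⟨c, rfl⟩ := hx
    rw [Fin.sum_univ_two] at hx' ⊢
    have := iso_pair_zero h hp.uu hp.vv huv0 (c 0) (c 1) (hx' u huP) (hx' v hvP)
    rw [this.1, this.2]
    simp
  have hd := orthoDecomp hσ h P hPnd
  have hnd' := nondeg_orthoCompl h _ hd hnd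
  have hfr' := HermFrames.finrank_orthoCompl hσ h hnd P
  obtain ⟨w₁', w₂', hq'⟩ := exists_hypPair (V := ↥(orthoCompl h P)) (H := res H (orthoCompl h P))
    hσ (isHerm_restrict h _) (nondeg_res hnd') (by omega)
  refine ⟨u, v, (w₁' : V), (w₂' : V), hp, ⟨hq'.uu, hq'.vv, hq'.uv⟩, ?_, ?_, ?_, ?_⟩
  · exact w₁'.2 u huP
  · exact w₂'.2 u huP
  · exact w₁'.2 v hvP
  · exact w₂'.2 v hvP

/-- two vectors with prescribed norms and prescribed product -/
theorem exists_pair_norms (hσ : orderOf σ = 2) (h : IsHerm σ H)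
    (hnd : ∀ v, (∀ w, H v w = 0) → v = 0) (hdim : 4 ≤ finrank F V) (c₁ c₂ β μ : F)
    (hc₁ : σ c₁ = c₁) (hc₂ : σ c₂ = c₂) :
    ∃ u₁ u₂ : V, H u₁ u₁ = c₁ ∧ H u₂ u₂ = c₂ ∧ H u₂ u₁ = β ∧ u₁ ≠ 0 ∧ u₂ ≠ 0 ∧
      u₂ + μ • u₁ ≠ 0 := by
  obtain ⟨e₁, f₁, e₂, f₂, hp, hq, h1, h2, h3, h4⟩ := exists_two_hypPairs hσ h hnd hdim
  have hf₁e₁ := hp.vu h
  have hf₂e₂ := hq.vu h
  have h1' : H e₂ e₁ = 0 := by rw [h.symm e₁ e₂, h1, map_zero]
  have h2' : H f₂ e₁ = 0 := by rw [h.symm e₁ f₂, h2, map_zero]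
  have h3' : H e₂ f₁ = 0 := by rw [h.symm f₁ e₂, h3, map_zero]
  have h4' : H f₂ f₁ = 0 := by rw [h.symm f₁ f₂, h4, map_zero]
  obtain ⟨a₁, ha₁⟩ := WittHerm.exists_trace hσ c₁ hc₁
  obtain ⟨a₂, ha₂⟩ := WittHerm.exists_trace hσ c₂ hc₂
  refine ⟨e₁ + a₁ • f₁, e₂ + a₂ • f₂ + β • f₁, ?_, ?_, ?_, ?_, ?_, ?_⟩
  · simp only [h.add_left, h.add_right, h.smul_left, h.smul_right, hp.uu, hp.vv, hp.uv, hf₁e₁]
    rw [← ha₁]
    ring
  · simp only [h.add_left, h.add_right, h.smul_left, h.smul_right, hq.uu, hq.vv, hq.uv, hf₂e₂,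
      hp.vv, h3, h4, h3', h4']
    rw [← ha₂]
    ring
  · simp only [h.add_left, h.add_right, h.smul_left, h.smul_right, hp.vv, hf₁e₁, h1', h2', h3',
      h4']
    ring
  · intro h0
    have : H (e₁ + a₁ • f₁) f₁ = 0 := by rw [h0, h.zero_left]
    rw [h.add_left, h.smul_left, hp.uv, hp.vv, mul_zero, add_zero] at this
    exact one_ne_zero this
  · intro h0
    have : H (e₂ + a₂ • f₂ + β • f₁) f₂ = 0 := by rw [h0, h.zero_left]
    rw [h.add_left, h.add_left, h.smul_left, h.smul_left, hq.uv, hq.vv, h4, mul_zero, mul_zero,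
      add_zero, add_zero] at this
    exact one_ne_zero this
  · intro h0
    have : H (e₂ + a₂ • f₂ + β • f₁ + μ • (e₁ + a₁ • f₁)) f₂ = 0 := by rw [h0, h.zero_left]
    simp only [h.add_left, h.smul_left, hq.uv, hq.vv, h4, h2, mul_zero, add_zero] at this
    exact one_ne_zero this

/-- the transvection group is transitive on nonzero vectors of equal norm -/
theorem exists_T_map_of_norm_eq (hσ : orderOf σ = 2) (h : IsHerm σ H)
    (hnd : ∀ v, (∀ w, H v w = 0) → v = 0) (hdim : 4 ≤ finrank F V) {a b : V} (ha0 : a ≠ 0)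
    (hb0 : b ≠ 0) (hab : H a a = H b b) : ∃ t ∈ T h, t a = b := by
  by_cases ha : H a a = 0
  · exact exists_T_map_iso hσ h hnd (by omega) ha (by rw [← hab]; exact ha) ha0 hb0
  · obtain ⟨c, hc0, hc⟩ := exists_smul_norm_one hσ h a ha
    have hcb : H (c • b) (c • b) = 1 := by
      rw [h.smul_left, h.smul_right, ← hab, ← h.smul_right, ← h.smul_left]
      exact hc
    obtain ⟨t, ht, hta⟩ := exists_T_map_norm_one hσ h hnd (by omega) (by intro h3; omega) hc hcb
    refine ⟨t, ht, ?_⟩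
    rw [map_smul] at hta
    exact smul_right_injective V hc0 hta

end general

end Cfsg.Agent.H9SUMax
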