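import Mathlib
import Cfsg.Agent.Lib.Helper9.SUMax4

set_option autoImplicit false

/-!
Hermitian geometry over a finite field: hyperbolic pairs orthogonal to a small subspace, vectors
orthogonal to a subspace but not to a vector outside it.
-/

namespace Cfsg.Agent.H9SpU

open Module Cfsg.Agent.Lib.Helper2 Cfsg.Agent.Lib.Helper2.UT Cfsg.Agent.Lib.Helper2.IsomDecomp
  Cfsg.Agent.Lib.Helper2.HermDecomp Cfsg.Agent.Lib.Helper2.HermFrames
  Cfsg.Agent.Lib.Helper5.PSLCoset Cfsg.Agent.H9SUMax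

universe u v

variable {F : Type v} [Field F] {σ : F ≃+* F} {V : Type u} [AddCommGroup V] [Module F V]
  {H : V → V → F}

variable [Finite F] [FiniteDimensional F V]

/-- a hyperbolic pair orthogonal to a subspace of small dimension -/
theorem exists_hypPair_perp (hσ : orderOf σ = 2) (h : IsHerm σ H)
    (hnd : ∀ v, (∀ w, H v w = 0) → v = 0) (X : Submodule F V)
    (hdim : 2 * finrank F X + 2 ≤ finrank F V) :
    ∃ u v : V, HypPair H u v ∧ ∀ x ∈ X, H x u = 0 ∧ H x v = 0 := by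
  obtain ⟨O, hO⟩ : ∃ O, O = orthoCompl h X := ⟨_, rfl⟩
  obtain ⟨C', hC'⟩ := Submodule.exists_isCompl (O ⊓ X)
  have hle : O ⊓ X ≤ O := inf_le_left
  obtain ⟨C, hC⟩ : ∃ C, C = C' ⊓ O := ⟨_, rfl⟩
  have hsup : (O ⊓ X) ⊔ C = O := by
    rw [hC, ← sup_inf_assoc_of_le C' hle, hC'.sup_eq_top, top_inf_eq]
  have hinf : (O ⊓ X) ⊓ C = ⊥ := by
    rw [hC, ← inf_assoc, hC'.inf_eq_bot, bot_inf_eq]
  have hCO : C ≤ O := by rw [hC]; exact inf_le_right
  have hCnd : ∀ x ∈ C, (∀ y ∈ C, H x y = 0) → x = 0 := by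
    intro x hx hx'
    have hxO : x ∈ O := hCO hx
    have h1 : x ∈ orthoCompl h O := by
      intro v hv
      rw [← hsup] at hv
      obtain ⟨w, hw, c, hc, rfl⟩ := Submodule.mem_sup.1 hv
      rw [h.add_left, eq_zero_of_symm h (hx' c hc), add_zero]
      have hxO' : x ∈ orthoCompl h X := by rw [← hO]; exact hxO
      exact hxO' w hw.2
    rw [hO, orthoCompl_orthoCompl hσ h hnd] at h1
    have h2 : x ∈ (O ⊓ X) ⊓ C' := ⟨⟨hxO, h1⟩, by rw [hC] at hx; exact hx.1⟩
    rw [hC'.inf_eq_bot] at h2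
    exact (Submodule.mem_bot F).1 h2
  have hCdim : 2 ≤ finrank F C := by
    have h1 := Submodule.finrank_sup_add_finrank_inf_eq (O ⊓ X) C
    rw [hsup, hinf, finrank_bot, add_zero] at h1
    have h2 := finrank_orthoCompl hσ h hnd X
    rw [← hO] at h2
    have h3 : finrank F ↥(O ⊓ X) ≤ finrank F X := Submodule.finrank_mono inf_le_right
    omega
  obtain ⟨u, v, hp⟩ := exists_hypPair (V := ↥C) (H := res H C)
    hσ (isHerm_restrict h _) (nondeg_res hCnd) hCdim
  refine ⟨(u : V), (v : V), ⟨hp.uu, hp.vv, hp.uv⟩, ?_⟩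
  intro x hx
  have hu : (u : V) ∈ orthoCompl h X := by rw [← hO]; exact hCO u.2
  have hv : (v : V) ∈ orthoCompl h X := by rw [← hO]; exact hCO v.2
  exact ⟨hu x hx, hv x hx⟩

/-- a vector orthogonal to a subspace `X` but not to `a ∉ X` -/
theorem exists_perp_not (hσ : orderOf σ = 2) (h : IsHerm σ H)
    (hnd : ∀ v, (∀ w, H v w = 0) → v = 0) (X : Submodule F V) {a : V} (ha : a ∉ X) :
    ∃ y : V, (∀ x ∈ X, H x y = 0) ∧ H a y ≠ 0 := by
  by_contra hcon
  push Not at hcon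
  apply ha
  rw [← orthoCompl_orthoCompl hσ h hnd X]
  intro y hy
  exact eq_zero_of_symm h (hcon y hy)

end Cfsg.Agent.H9SpU
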