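import Mathlib
import Cfsg.Agent.Lib.Helper9.SpU1
import Cfsg.Agent.Lib.Helper9.SpMax1

set_option autoImplicit false

/-!
A unitary structure on the standard symplectic space: a quadratic extension field `L = F[J]`
acting on `F^{2m}`, and an `L`-Hermitian form `H` whose `J`-coordinate is the symplectic form.
-/

namespace Cfsg.Agent.H9SpU

open Module Matrix Cfsg.Agent.Lib.Helper2 Cfsg.Agent.Lib.Helper2.UT
  Cfsg.Agent.Lib.Helper2.IsomDecomp
  Cfsg.Agent.Lib.Helper2.HermDecomp Cfsg.Agent.Lib.Helper2.HermFrames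
  Cfsg.Agent.Lib.Helper5.PSLCoset Cfsg.Agent.H9SUMax
  Cfsg.Agent.Lib.Helper1.SpBasic Cfsg.Agent.Lib.Helper2.Symp Cfsg.Agent.Lib.Helper2.SpIsom
  Cfsg.Agent.H9SpMax

variable {F : Type*} [Field F] {m : ℕ} {L : Type*} [Field L] [Algebra F L]
  [Module L (Fin m ⊕ Fin m → F)] [IsScalarTower F L (Fin m ⊕ Fin m → F)]
  {τ : L ≃+* L} {H : (Fin m ⊕ Fin m → F) → (Fin m ⊕ Fin m → F) → L} {J : L} {ε : F}

/-- a unitary structure on the symplectic space -/
structure UData (τ : L ≃+* L) (H : (Fin m ⊕ Fin m → F) → (Fin m ⊕ Fin m → F) → L) (J : L)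
    (ε : F) : Prop where
  herm : IsHerm τ H
  ord : orderOf τ = 2
  nd : ∀ v, (∀ w, H v w = 0) → v = 0
  tauJ : τ J = -J
  tau_alg : ∀ a : F, τ (algebraMap F L a) = algebraMap F L a
  Jsq : J * J = algebraMap F L ε
  decomp : ∀ l : L, ∃ a b : F, l = algebraMap F L a + b • J
  indep : ∀ a b : F, algebraMap F L a + b • J = 0 → a = 0 ∧ b = 0
  form : ∀ u v, H u v = algebraMap F L (Cfsg.sympForm m F (J • u) v) + Cfsg.sympForm m F u v • J
  h2 : (2 : F) ≠ 0

namespace UData

variable (R : UData τ H J ε)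
include R

theorem indep' {a b a' b' : F} (hab : algebraMap F L a + b • J = algebraMap F L a' + b' • J) :
    a = a' ∧ b = b' := by
  have h1 : algebraMap F L (a - a') + (b - b') • J = 0 := by
    rw [map_sub, sub_smul]
    linear_combination hab
  obtain ⟨h2, h3⟩ := R.indep _ _ h1
  exact ⟨sub_eq_zero.1 h2, sub_eq_zero.1 h3⟩

theorem J_ne : J ≠ 0 := by
  intro h0
  have := R.indep 0 1 (by rw [map_zero, h0, smul_zero, add_zero])
  exact one_ne_zero this.2

theorem eps_ne : ε ≠ 0 := by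
  intro h0
  have h1 := R.Jsq
  rw [h0, map_zero] at h1
  exact R.J_ne (mul_self_eq_zero.1 h1)

theorem tau_smul (b : F) (l : L) : τ (b • l) = b • τ l := by
  rw [Algebra.smul_def, map_mul, R.tau_alg, ← Algebra.smul_def]

theorem J_J_smul (u : Fin m ⊕ Fin m → F) : J • J • u = ε • u := by
  rw [← mul_smul, R.Jsq, algebraMap_smul]

/-- `J` is skew-adjoint for the symplectic form -/
theorem form_J_left (u v : Fin m ⊕ Fin m → F) :
    Cfsg.sympForm m F (J • u) v = -Cfsg.sympForm m F u (J • v) := by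
  have h1 := R.herm.symm u v
  rw [R.form v u, R.form u v, map_add, R.tau_alg, R.tau_smul, R.tauJ, smul_neg,
    ← sub_eq_add_neg] at h1
  have h2 : algebraMap F L (Cfsg.sympForm m F (J • v) u) + Cfsg.sympForm m F v u • J =
      algebraMap F L (Cfsg.sympForm m F (J • u) v) + (-Cfsg.sympForm m F u v) • J := by
    rw [h1, neg_smul, sub_eq_add_neg]
  rw [(R.indep' h2).1.symm, sympForm_swap]

theorem form_J_J (u v : Fin m ⊕ Fin m → F) :
    Cfsg.sympForm m F (J • u) (J • v) = -(ε * Cfsg.sympForm m F u v) := by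
  rw [R.form_J_left, R.J_J_smul, sympForm_smul_right]

theorem H_eq_zero_iff (u v : Fin m ⊕ Fin m → F) :
    H u v = 0 ↔ Cfsg.sympForm m F (J • u) v = 0 ∧ Cfsg.sympForm m F u v = 0 := by
  rw [R.form]
  constructor
  · intro h0
    exact R.indep _ _ h0
  · rintro ⟨h1, h2⟩
    rw [h1, h2, map_zero, zero_smul, add_zero]

theorem H_self (u : Fin m ⊕ Fin m → F) :
    H u u = algebraMap F L (Cfsg.sympForm m F (J • u) u) := by
  rw [R.form, sympForm_self, zero_smul, add_zero]

theorem iso_iff (u : Fin m ⊕ Fin m → F) :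
    H u u = 0 ↔ Cfsg.sympForm m F (J • u) u = 0 := by
  rw [R.H_self]
  constructor
  · intro h0
    exact (FaithfulSMul.algebraMap_injective F L) (by rw [h0, map_zero])
  · intro h0
    rw [h0, map_zero]

/-- the symplectic form is the `J`-coordinate of `H` -/
theorem form_of_H {u v : Fin m ⊕ Fin m → F} {a b : F} (hab : H u v = algebraMap F L a + b • J) :
    Cfsg.sympForm m F u v = b := by
  rw [R.form] at hab
  exact (R.indep' hab).2

/-- an `L`-linear isometry of `H` is a symplectic matrix -/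
theorem exists_sp_of_isom (g : (Fin m ⊕ Fin m → F) ≃ₗ[L] (Fin m ⊕ Fin m → F))
    (hg : g ∈ isom H) :
    ∃ γ : Matrix.symplecticGroup (Fin m) F, ∀ x,
      (γ : Matrix (Fin m ⊕ Fin m) (Fin m ⊕ Fin m) F) *ᵥ x = g x := by
  obtain ⟨φ, hφ⟩ : ∃ φ : (Fin m ⊕ Fin m → F) →ₗ[F] (Fin m ⊕ Fin m → F), ∀ x, φ x = g x :=
    ⟨(g : (Fin m ⊕ Fin m → F) →ₗ[L] (Fin m ⊕ Fin m → F)).restrictScalars F, fun x => rfl⟩
  have hA : LinearMap.toMatrix' φ ∈ Matrix.symplecticGroup (Fin m) F := by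
    rw [Cfsg.Agent.Lib.Helper1.SpCard.mem_symplectic_iff_form]
    intro x y
    rw [LinearMap.toMatrix'_mulVec, LinearMap.toMatrix'_mulVec, hφ, hφ]
    have h1 := hg x y
    rw [R.form, R.form x y] at h1
    exact (R.indep' h1).2
  refine ⟨⟨_, hA⟩, fun x => ?_⟩
  show LinearMap.toMatrix' φ *ᵥ x = g x
  rw [LinearMap.toMatrix'_mulVec, hφ]

end UData

end Cfsg.Agent.H9SpU
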