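import Mathlib
import Cfsg.Agent.Lib.Helper9.SpU2

set_option autoImplicit false

/-!
Unitary structures on the symplectic space: unitary transvections as products of two symplectic
transvections, and the production of a symplectic transvection in an overgroup.
-/

namespace Cfsg.Agent.H9SpU

open Module Matrix Cfsg.Agent.Lib.Helper2 Cfsg.Agent.Lib.Helper2.UT
  Cfsg.Agent.Lib.Helper2.IsomDecomp
  Cfsg.Agent.Lib.Helper2.HermDecomp Cfsg.Agent.Lib.Helper2.HermFrames
  Cfsg.Agent.Lib.Helper5.PSLCoset Cfsg.Agent.H9SUMax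
  Cfsg.Agent.Lib.Helper1.SpBasic Cfsg.Agent.Lib.Helper2.Symp Cfsg.Agent.Lib.Helper2.SpIsom
  Cfsg.Agent.H9SpMax

variable {F : Type*} [Field F] {m : ℕ} {L : Type*} [Field L] [Algebra F L]
  [Module L (Fin m ⊕ Fin m → F)] [IsScalarTower F L (Fin m ⊕ Fin m → F)]
  {τ : L ≃+* L} {H : (Fin m ⊕ Fin m → F) → (Fin m ⊕ Fin m → F) → L} {J : L} {ε : F}

theorem finrank_span_pair_le' {K : Type*} [Field K] {V : Type*} [AddCommGroup V] [Module K V]
    (u v : V) : finrank K ↥(Submodule.span K {u, v}) ≤ 2 := by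
  classical
  have h := finrank_span_le_card (R := K) ({u, v} : Set V)
  have h2 : ({u, v} : Set V).toFinset.card ≤ 2 := by
    have : ({u, v} : Set V).toFinset = {u, v} := by ext; simp
    rw [this]
    exact Finset.card_le_two
  exact h.trans h2

/-- a product of six commuting transvections that is a single transvection -/
theorem six_T (a b z : Fin m ⊕ Fin m → F) (hab : Cfsg.sympForm m F a b = 0)
    (haz : Cfsg.sympForm m F a z = 0) (hbz : Cfsg.sympForm m F b z = 0) (α c : F) :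
    (T (a - z) α * T b (-c)) * (T (a + z) α * T b (-c)) * (T a (α * (-2)) * T b (2 * c)) =
      T z (2 * α) := by
  have hba := form_eq_zero_symm hab
  have hza := form_eq_zero_symm haz
  have hzb := form_eq_zero_symm hbz
  apply ext_mulVec
  intro x
  simp only [coe_mul_mulVec, T_mulVec, sympForm_add_left, sympForm_sub_left, sympForm_smul_left,
    sympForm_add_right, sympForm_sub_right, sympForm_smul_right, sympForm_self, hab, hba, haz, hza,
    hbz, hzb, mul_zero, add_zero, sub_zero, zero_add, zero_sub]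
  module

theorem conj_T_mul (γ : Matrix.symplecticGroup (Fin m) F) (u v : Fin m ⊕ Fin m → F) (α β : F) :
    γ * (T u α * T v β) * γ⁻¹ =
      T ((γ : Matrix (Fin m ⊕ Fin m) (Fin m ⊕ Fin m) F) *ᵥ u) α *
        T ((γ : Matrix (Fin m ⊕ Fin m) (Fin m ⊕ Fin m) F) *ᵥ v) β := by
  rw [← conj_T, ← conj_T]
  group

namespace UData

variable (R : UData τ H J ε)
include R

theorem sigma_smul_J (c : F) : τ (c • J) = -(c • J) := by
  rw [R.tau_smul, R.tauJ, smul_neg]

/-- a unitary transvection is a product of two symplectic transvections -/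
theorem utv_mem (M' : Subgroup (Matrix.symplecticGroup (Fin m) F))
    (hN : ∀ g : (Fin m ⊕ Fin m → F) ≃ₗ[L] (Fin m ⊕ Fin m → F), g ∈ isom H →
      ∃ γ ∈ M', ∀ x, (γ : Matrix (Fin m ⊕ Fin m) (Fin m ⊕ Fin m) F) *ᵥ x = g x)
    {w₁ : Fin m ⊕ Fin m → F} (hw₁ : H w₁ w₁ = 0) (c : F) :
    T w₁ (ε * c) * T (J • w₁) (-c) ∈ M' := by
  obtain ⟨γ, hγM, hγ⟩ := hN _ (tv_mem_isom R.herm w₁ (c • J) hw₁ (R.sigma_smul_J c))
  have h0 : Cfsg.sympForm m F w₁ (J • w₁) = 0 := by
    rw [sympForm_swap, (R.iso_iff w₁).1 hw₁, neg_zero]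
  have : T w₁ (ε * c) * T (J • w₁) (-c) = γ := by
    apply ext_mulVec
    intro x
    rw [T_mul_T_mulVec _ _ h0, hγ, tv_apply, R.form x w₁, mul_add, add_smul, R.form_J_left]
    have e1 : c • J * (algebraMap F L) (-Cfsg.sympForm m F x (J • w₁)) =
        (-c * Cfsg.sympForm m F x (J • w₁)) • J := by
      rw [Algebra.smul_def, Algebra.smul_def, map_mul, map_neg, map_neg]
      ring
    have e2 : c • J * Cfsg.sympForm m F x w₁ • J =
        algebraMap F L (ε * c * Cfsg.sympForm m F x w₁) := by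
      rw [Algebra.smul_def, Algebra.smul_def, map_mul, map_mul]
      linear_combination (algebraMap F L c * algebraMap F L (Cfsg.sympForm m F x w₁)) * R.Jsq
    rw [e1, e2, algebraMap_smul, smul_assoc]
    abel
  rw [this]
  exact hγM

/-- **a symplectic transvection**: if `γ₀ ∈ M'` maps an isotropic `L`-line to a plane that is not
an `L`-line, then `M'` contains the transvections of an isotropic direction -/
theorem stepOne [Finite L] [FiniteDimensional L (Fin m ⊕ Fin m → F)]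
    (hfr : 6 ≤ finrank L (Fin m ⊕ Fin m → F))
    (M' : Subgroup (Matrix.symplecticGroup (Fin m) F))
    (hN : ∀ g : (Fin m ⊕ Fin m → F) ≃ₗ[L] (Fin m ⊕ Fin m → F), g ∈ isom H →
      ∃ γ ∈ M', ∀ x, (γ : Matrix (Fin m ⊕ Fin m) (Fin m ⊕ Fin m) F) *ᵥ x = g x)
    {γ₀ : Matrix.symplecticGroup (Fin m) F} (hγ₀ : γ₀ ∈ M')
    {w₁ : Fin m ⊕ Fin m → F} (hw₁ : H w₁ w₁ = 0)
    (hab : ∀ β : L, (γ₀ : Matrix (Fin m ⊕ Fin m) (Fin m ⊕ Fin m) F) *ᵥ w₁ ≠
      β • ((γ₀ : Matrix (Fin m ⊕ Fin m) (Fin m ⊕ Fin m) F) *ᵥ (J • w₁))) :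
    ∃ z, z ≠ 0 ∧ H z z = 0 ∧ z ∈ dirSet M' := by
  have h := R.herm
  obtain ⟨a, ha⟩ : ∃ a, a = (γ₀ : Matrix (Fin m ⊕ Fin m) (Fin m ⊕ Fin m) F) *ᵥ w₁ := ⟨_, rfl⟩
  obtain ⟨b, hb⟩ : ∃ b, b = (γ₀ : Matrix (Fin m ⊕ Fin m) (Fin m ⊕ Fin m) F) *ᵥ (J • w₁) :=
    ⟨_, rfl⟩
  rw [← ha, ← hb] at hab
  have hfab : Cfsg.sympForm m F a b = 0 := by
    rw [ha, hb, form_mulVec, sympForm_swap, (R.iso_iff w₁).1 hw₁, neg_zero]
  have hP : ∀ c : F, T a (ε * c) * T b (-c) ∈ M' := by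
    intro c
    have h1 := R.utv_mem M' hN hw₁ c
    rw [ha, hb, ← conj_T_mul]
    exact M'.mul_mem (M'.mul_mem hγ₀ h1) (M'.inv_mem hγ₀)
  obtain ⟨w, ws, hp, hX⟩ := exists_hypPair_perp R.ord h R.nd (Submodule.span L {a, b}) (by
    have := finrank_span_pair_le' (K := L) a b
    omega)
  have haw := hX a (Submodule.subset_span (by simp))
  have hbw := hX b (Submodule.subset_span (by simp))
  have hw0 : w ≠ 0 := by
    intro h0
    have := hp.uv
    rw [h0, h.zero_left] at this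
    exact zero_ne_one this
  have hnot : a ∉ Submodule.span L {w, b} := by
    intro hmem
    obtain ⟨r, s, hrs⟩ := Submodule.mem_span_pair.1 hmem
    have h1 : H (r • w + s • b) ws = 0 := by rw [hrs]; exact haw.2
    rw [h.add_left, h.smul_left, h.smul_left, hp.uv, hbw.2, mul_one, mul_zero, add_zero] at h1
    rw [h1, zero_smul, zero_add] at hrs
    exact hab s hrs.symm
  obtain ⟨y', hy'X, hay'⟩ := exists_perp_not R.ord h R.nd _ hnot
  have hwy' : H w y' = 0 := hy'X w (Submodule.subset_span (by simp))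
  have hby' : H b y' = 0 := hy'X b (Submodule.subset_span (by simp))
  have hy'w : H y' w = 0 := eq_zero_of_symm h hwy'
  obtain ⟨r, hr⟩ := WittHerm.exists_trace R.ord (H y' y') (WittHerm.self_fixed h y')
  obtain ⟨γE, hγEM, hγE⟩ := hN _ (eich_mem_isom h w y' r hwy' hy'w hp.uu hr)
  obtain ⟨z, hz⟩ : ∃ z, z = H a y' • w := ⟨_, rfl⟩
  have hEa : (γE : Matrix (Fin m ⊕ Fin m) (Fin m ⊕ Fin m) F) *ᵥ a = a - z := by
    rw [hγE, eich_apply h w y' r hwy' hy'w hp.uu hr, haw.1, zero_smul, add_zero, mul_zero,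
      add_zero, hz]
  have hEb : (γE : Matrix (Fin m ⊕ Fin m) (Fin m ⊕ Fin m) F) *ᵥ b = b := by
    rw [hγE, eich_apply h w y' r hwy' hy'w hp.uu hr, hbw.1, hby', zero_smul, add_zero, mul_zero,
      add_zero, zero_smul, sub_zero]
  have hEz : (γE : Matrix (Fin m ⊕ Fin m) (Fin m ⊕ Fin m) F) *ᵥ z = z := by
    rw [hγE, hz, map_smul, eich_apply h w y' r hwy' hy'w hp.uu hr, hp.uu, hwy', zero_smul,
      add_zero, mul_zero, add_zero, zero_smul, sub_zero]
  have hEa' : ((γE⁻¹ : Matrix.symplecticGroup (Fin m) F) :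
      Matrix (Fin m ⊕ Fin m) (Fin m ⊕ Fin m) F) *ᵥ a = a + z := by
    have h1 : (γE : Matrix (Fin m ⊕ Fin m) (Fin m ⊕ Fin m) F) *ᵥ (a + z) = a := by
      rw [Matrix.mulVec_add, hEa, hEz]; abel
    have h2 := inv_mulVec_mulVec γE (a + z)
    rwa [h1] at h2
  have hEb' : ((γE⁻¹ : Matrix.symplecticGroup (Fin m) F) :
      Matrix (Fin m ⊕ Fin m) (Fin m ⊕ Fin m) F) *ᵥ b = b := by
    have h2 := inv_mulVec_mulVec γE b
    rwa [hEb] at h2
  have hHaz : H a z = 0 := by rw [hz, h.smul_right, haw.1, mul_zero]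
  have hHbz : H b z = 0 := by rw [hz, h.smul_right, hbw.1, mul_zero]
  have hfaz : Cfsg.sympForm m F a z = 0 := ((R.H_eq_zero_iff a z).1 hHaz).2
  have hfbz : Cfsg.sympForm m F b z = 0 := ((R.H_eq_zero_iff b z).1 hHbz).2
  refine ⟨z, ?_, ?_, ?_⟩
  · rw [hz]
    exact smul_ne_zero hay' hw0
  · rw [hz, h.smul_left, h.smul_right, hp.uu, mul_zero, mul_zero]
  · intro d
    obtain ⟨c, hc⟩ : ∃ c, c = d / (2 * ε) := ⟨_, rfl⟩
    have h6 := six_T a b z hfab hfaz hfbz (ε * c) c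
    have e1 : γE * (T a (ε * c) * T b (-c)) * γE⁻¹ = T (a - z) (ε * c) * T b (-c) := by
      rw [conj_T_mul, hEa, hEb]
    have e2 : γE⁻¹ * (T a (ε * c) * T b (-c)) * γE = T (a + z) (ε * c) * T b (-c) := by
      have := conj_T_mul γE⁻¹ a b (ε * c) (-c)
      rw [inv_inv, hEa', hEb'] at this
      exact this
    have e3 : T a (ε * c * -2) * T b (2 * c) = T a (ε * (-2 * c)) * T b (-(-2 * c)) := by
      congr 2 <;> ring
    have hd : d = 2 * (ε * c) := by
      rw [hc]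
      have h2 := R.h2
      have hε := R.eps_ne
      field_simp
    rw [hd, ← h6, ← e1, ← e2, e3]
    have hPc := hP c
    exact M'.mul_mem (M'.mul_mem (M'.mul_mem (M'.mul_mem hγEM hPc) (M'.inv_mem hγEM))
      (M'.mul_mem (M'.mul_mem (M'.inv_mem hγEM) hPc) hγEM)) (hP (-2 * c))

end UData

end Cfsg.Agent.H9SpU
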