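import Mathlib
import Cfsg.Agent.Lib.Helper9.SpU3

set_option autoImplicit false

/-!
Unitary structures on the symplectic space: spreading a transvection direction, recognising
semilinear maps, and the overgroup theorem.
-/

namespace Cfsg.Agent.H9SpU

open Module Matrix Cfsg.Agent.Lib.Helper2 Cfsg.Agent.Lib.Helper2.UT
  Cfsg.Agent.Lib.Helper2.IsomDecomp
  Cfsg.Agent.Lib.Helper2.HermDecomp Cfsg.Agent.Lib.Helper2.HermFrames
  Cfsg.Agent.Lib.Helper5.PSLCoset Cfsg.Agent.H9SUMax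
  Cfsg.Agent.Lib.Helper1.SpBasic Cfsg.Agent.Lib.Helper2.Symp Cfsg.Agent.Lib.Helper2.SpIsom
  Cfsg.Agent.H9SpMax

variable {F : Type*} [Field F] {m : ℕ} {L : Type*} [Field L] [Algebra F L]
  [Module L (Fin m ⊕ Fin m → F)] [IsScalarTower F L (Fin m ⊕ Fin m → F)]
  {τ : L ≃+* L} {H : (Fin m ⊕ Fin m → F) → (Fin m ⊕ Fin m → F) → L} {J : L} {ε : F}

namespace UData

variable (R : UData τ H J ε)
include R

/-- one isotropic transvection direction gives all directions -/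
theorem stepTwo [Finite L] [FiniteDimensional L (Fin m ⊕ Fin m → F)]
    (hfr : 3 ≤ finrank L (Fin m ⊕ Fin m → F))
    (M' : Subgroup (Matrix.symplecticGroup (Fin m) F))
    (hN : ∀ g : (Fin m ⊕ Fin m → F) ≃ₗ[L] (Fin m ⊕ Fin m → F), g ∈ isom H →
      ∃ γ ∈ M', ∀ x, (γ : Matrix (Fin m ⊕ Fin m) (Fin m ⊕ Fin m) F) *ᵥ x = g x)
    {z : Fin m ⊕ Fin m → F} (hz0 : z ≠ 0) (hzz : H z z = 0) (hz : z ∈ dirSet M')
    (x : Fin m ⊕ Fin m → F) : x ∈ dirSet M' := by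
  have h := R.herm
  have hiso : ∀ u, H u u = 0 → u ∈ dirSet M' := by
    intro u hu
    by_cases hu0 : u = 0
    · intro c
      rw [hu0, T_zero_left]
      exact M'.one_mem
    obtain ⟨t, ht, htz⟩ := exists_T_map_iso R.ord h R.nd hfr hzz hu hz0 hu0
    obtain ⟨γ, hγM, hγ⟩ := hN t (T_le_isom h ht)
    have := dirSet_mulVec M' hγM hz
    rwa [hγ, htz] at this
  by_cases hxx : H x x = 0
  · exact hiso x hxx
  have hx0 : x ≠ 0 := by
    intro h0
    apply hxx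
    rw [h0, h.zero_left]
  obtain ⟨v, hv⟩ : ∃ v, H v x ≠ 0 := by
    by_contra hcon
    push Not at hcon
    apply hx0
    apply R.nd
    intro w
    exact eq_zero_of_symm h (hcon w)
  obtain ⟨a'', ha'', ha''x⟩ : ∃ a'', H a'' a'' = 0 ∧ H a'' x ≠ 0 := by
    obtain ⟨x₁, x₂, x₃, h1, h2, h3, hsum⟩ := exists_iso_decomp R.ord h R.nd (by omega) v
    by_contra hcon
    push Not at hcon
    apply hv
    rw [hsum, h.add_left, h.add_left, hcon x₁ h1, hcon x₂ h2, hcon x₃ h3, add_zero, add_zero]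
  obtain ⟨ν₀, hν₀⟩ : ∃ ν₀, ν₀ = Cfsg.sympForm m F (J • x) x := ⟨_, rfl⟩
  have hxν : H x x = algebraMap F L ν₀ := by rw [R.H_self, hν₀]
  obtain ⟨ρ, hρ⟩ : ∃ ρ : L, ρ = algebraMap F L (ν₀ / 2) + (1 : F) • J := ⟨_, rfl⟩
  have hτρ : τ ρ = algebraMap F L (ν₀ / 2) - (1 : F) • J := by
    rw [hρ, map_add, R.tau_alg, R.sigma_smul_J, sub_eq_add_neg]
  obtain ⟨a', ha'⟩ : ∃ a', a' = (ρ / H a'' x) • a'' := ⟨_, rfl⟩
  have ha'x : H a' x = ρ := by
    rw [ha', h.smul_left, div_mul_cancel₀ _ ha''x]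
  have ha'a' : H a' a' = 0 := by
    rw [ha', h.smul_left, h.smul_right, ha'', mul_zero, mul_zero]
  have hb'b' : H (x - a') (x - a') = 0 := by
    rw [h.sub_left, h.sub_right, h.sub_right, ha'a', ha'x, h.symm a' x, ha'x, hτρ, hxν, hρ]
    have h2 := R.h2
    have e : algebraMap F L ν₀ = algebraMap F L (ν₀ / 2) + algebraMap F L (ν₀ / 2) := by
      rw [← map_add]
      congr 1
      field_simp
      ring
    rw [e]
    ring
  have hf : Cfsg.sympForm m F a' (x - a') ≠ 0 := by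
    rw [sympForm_sub_right, sympForm_self, sub_zero, R.form_of_H (ha'x.trans hρ)]
    exact one_ne_zero
  have := dirSet_add_of_ne M' (hiso a' ha'a') (hiso (x - a') hb'b') hf
  rwa [add_sub_cancel] at this

/-- an `F`-linear map scaling every isotropic vector by an element of `L` is a scalar -/
theorem stepZero [Finite L] [FiniteDimensional L (Fin m ⊕ Fin m → F)]
    (hfr : 6 ≤ finrank L (Fin m ⊕ Fin m → F))
    (Φ : (Fin m ⊕ Fin m → F) →ₗ[F] (Fin m ⊕ Fin m → F))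
    (hΦ : ∀ w₁, H w₁ w₁ = 0 → ∃ κ : L, Φ w₁ = κ • w₁) : ∃ κ₀ : L, ∀ x, Φ x = κ₀ • x := by
  have h := R.herm
  -- the pair lemma
  have hpair : ∀ (κ : L) (x z : Fin m ⊕ Fin m → F), H x x = 0 → H z z = 0 → H x z = 0 →
      (∀ s t : L, s • x + t • z = 0 → s = 0 ∧ t = 0) → Φ x = κ • x → Φ z = κ • z := by
    intro κ x z hx hz hxz hind hκ
    obtain ⟨κz, hκz⟩ := hΦ z hz
    have hzx : H z x = 0 := eq_zero_of_symm h hxz
    have hsum : H (x + z) (x + z) = 0 := by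
      rw [h.add_left, h.add_right, h.add_right, hx, hz, hxz, hzx]; ring
    obtain ⟨κ', hκ'⟩ := hΦ (x + z) hsum
    rw [map_add, hκ, hκz, smul_add] at hκ'
    have h1 : (κ - κ') • x + (κz - κ') • z = 0 := by
      rw [sub_smul, sub_smul]
      have : κ • x - κ' • x + (κz • z - κ' • z) = (κ • x + κz • z) - (κ' • x + κ' • z) := by abel
      rw [this, hκ', sub_self]
    obtain ⟨h2, h3⟩ := hind _ _ h1
    rw [hκz, sub_eq_zero.1 h3, ← sub_eq_zero.1 h2]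
  obtain ⟨p₀, p₀s, hp₀⟩ := exists_hypPair R.ord h R.nd (by omega)
  have hp₀0 : p₀ ≠ 0 := by
    intro h0
    have := hp₀.uv
    rw [h0, h.zero_left] at this
    exact zero_ne_one this
  obtain ⟨κ₀, hκ₀⟩ := hΦ p₀ hp₀.uu
  refine ⟨κ₀, ?_⟩
  have hindep : ∀ (u p ps : Fin m ⊕ Fin m → F), u ≠ 0 → H u ps = 0 → H p ps = 1 →
      ∀ s t : L, s • u + t • p = 0 → s = 0 ∧ t = 0 := by
    intro u p ps hu0 hups hpps s t hst
    have h1 : H (s • u + t • p) ps = 0 := by rw [hst, h.zero_left]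
    rw [h.add_left, h.smul_left, h.smul_left, hups, hpps, mul_zero, zero_add, mul_one] at h1
    rw [h1, zero_smul, add_zero] at hst
    exact ⟨(smul_eq_zero.1 hst).resolve_right hu0, h1⟩
  have hiso : ∀ u, H u u = 0 → Φ u = κ₀ • u := by
    intro u hu
    by_cases hu0 : u = 0
    · rw [hu0, map_zero, smul_zero]
    obtain ⟨p, ps, hp, hX⟩ := exists_hypPair_perp R.ord h R.nd (Submodule.span L {p₀, u}) (by
      have := finrank_span_pair_le' (K := L) p₀ u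
      omega)
    have h1 := hX p₀ (Submodule.subset_span (by simp))
    have h2 := hX u (Submodule.subset_span (by simp))
    have hΦp := hpair κ₀ p₀ p hp₀.uu hp.uu h1.1 (hindep p₀ p ps hp₀0 h1.2 hp.uv) hκ₀
    apply hpair κ₀ p u hp.uu hu (eq_zero_of_symm h h2.1) _ hΦp
    intro s t hst
    have := hindep u p ps hu0 h2.2 hp.uv t s (by rw [add_comm]; exact hst)
    exact ⟨this.2, this.1⟩
  intro x
  obtain ⟨x₁, x₂, x₃, h1, h2, h3, hsum⟩ := exists_iso_decomp R.ord h R.nd (by omega) x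
  rw [hsum, map_add, map_add, hiso x₁ h1, hiso x₂ h2, hiso x₃ h3, smul_add, smul_add]

/-- **Overgroups**: a subgroup of the symplectic group containing the `L`-linear isometries of `H`
and an element not normalising `L` is the whole symplectic group -/
theorem main [Finite L] [FiniteDimensional L (Fin m ⊕ Fin m → F)]
    (hfr : 6 ≤ finrank L (Fin m ⊕ Fin m → F))
    (M' : Subgroup (Matrix.symplecticGroup (Fin m) F))
    (hN : ∀ g : (Fin m ⊕ Fin m → F) ≃ₗ[L] (Fin m ⊕ Fin m → F), g ∈ isom H →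
      ∃ γ ∈ M', ∀ x, (γ : Matrix (Fin m ⊕ Fin m) (Fin m ⊕ Fin m) F) *ᵥ x = g x)
    {γ₀ : Matrix.symplecticGroup (Fin m) F} (hγ₀ : γ₀ ∈ M')
    (hbad : ¬ ∃ κ : L, ∀ x, ((γ₀⁻¹ : Matrix.symplecticGroup (Fin m) F) :
      Matrix (Fin m ⊕ Fin m) (Fin m ⊕ Fin m) F) *ᵥ
        (J • ((γ₀ : Matrix (Fin m ⊕ Fin m) (Fin m ⊕ Fin m) F) *ᵥ x)) = κ • x) : M' = ⊤ := by
  obtain ⟨Φ, hΦ⟩ : ∃ Φ : (Fin m ⊕ Fin m → F) →ₗ[F] (Fin m ⊕ Fin m → F), ∀ x, Φ x =
      ((γ₀⁻¹ : Matrix.symplecticGroup (Fin m) F) :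
      Matrix (Fin m ⊕ Fin m) (Fin m ⊕ Fin m) F) *ᵥ
        (J • ((γ₀ : Matrix (Fin m ⊕ Fin m) (Fin m ⊕ Fin m) F) *ᵥ x)) :=
    ⟨(Matrix.mulVecLin ((γ₀⁻¹ : Matrix.symplecticGroup (Fin m) F) :
      Matrix (Fin m ⊕ Fin m) (Fin m ⊕ Fin m) F)) ∘ₗ
      ((LinearMap.lsmul L (Fin m ⊕ Fin m → F) J).restrictScalars F) ∘ₗ
      (Matrix.mulVecLin (γ₀ : Matrix (Fin m ⊕ Fin m) (Fin m ⊕ Fin m) F)), fun x => rfl⟩
  obtain ⟨w₁, hw₁, hbw⟩ : ∃ w₁, H w₁ w₁ = 0 ∧ ∀ κ : L, Φ w₁ ≠ κ • w₁ := by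
    by_contra hcon
    push Not at hcon
    obtain ⟨κ₀, hκ₀⟩ := R.stepZero hfr Φ hcon
    exact hbad ⟨κ₀, fun x => by rw [← hΦ]; exact hκ₀ x⟩
  have hw₁0 : w₁ ≠ 0 := by
    intro h0
    apply hbw 0
    rw [h0, map_zero, smul_zero]
  have hab : ∀ β : L, (γ₀ : Matrix (Fin m ⊕ Fin m) (Fin m ⊕ Fin m) F) *ᵥ w₁ ≠
      β • ((γ₀ : Matrix (Fin m ⊕ Fin m) (Fin m ⊕ Fin m) F) *ᵥ (J • w₁)) := by
    intro β hβ
    obtain ⟨a, ha⟩ : ∃ a, a = (γ₀ : Matrix (Fin m ⊕ Fin m) (Fin m ⊕ Fin m) F) *ᵥ w₁ := ⟨_, rfl⟩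
    obtain ⟨b, hb⟩ : ∃ b, b = (γ₀ : Matrix (Fin m ⊕ Fin m) (Fin m ⊕ Fin m) F) *ᵥ (J • w₁) :=
      ⟨_, rfl⟩
    rw [← ha, ← hb] at hβ
    have hia : ((γ₀⁻¹ : Matrix.symplecticGroup (Fin m) F) :
        Matrix (Fin m ⊕ Fin m) (Fin m ⊕ Fin m) F) *ᵥ a = w₁ := by
      rw [ha, inv_mulVec_mulVec]
    have hib : ((γ₀⁻¹ : Matrix.symplecticGroup (Fin m) F) :
        Matrix (Fin m ⊕ Fin m) (Fin m ⊕ Fin m) F) *ᵥ b = J • w₁ := by
      rw [hb, inv_mulVec_mulVec]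
    have ha0 : a ≠ 0 := by
      intro h0
      rw [h0, Matrix.mulVec_zero] at hia
      exact hw₁0 hia.symm
    have hβ0 : β ≠ 0 := by
      intro h0
      rw [h0, zero_smul] at hβ
      exact ha0 hβ
    have hb' : b = β⁻¹ • a := by
      rw [hβ, smul_smul, inv_mul_cancel₀ hβ0, one_smul]
    obtain ⟨p, q, hpq⟩ := R.decomp β⁻¹
    have hb'' : b = p • a + q • (J • a) := by
      rw [hb', hpq, add_smul, algebraMap_smul, smul_assoc]
    by_cases hq : q = 0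
    · rw [hq, zero_smul, add_zero] at hb''
      have h1 : J • w₁ = p • w₁ := by
        rw [← hib, hb'', Matrix.mulVec_smul, hia]
      have h2 : (J - algebraMap F L p) • w₁ = 0 := by
        rw [sub_smul, algebraMap_smul, h1, sub_self]
      have h3 : J - algebraMap F L p = 0 := (smul_eq_zero.1 h2).resolve_right hw₁0
      have h4 := R.indep (-p) 1 (by rw [map_neg, one_smul]; linear_combination h3)
      exact one_ne_zero h4.2
    · apply hbw (algebraMap F L (-p / q) + q⁻¹ • J)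
      have h1 : J • a = q⁻¹ • (b - p • a) := by
        rw [hb'', add_sub_cancel_left, smul_smul, inv_mul_cancel₀ hq, one_smul]
      rw [hΦ, ← ha, h1, Matrix.mulVec_smul, Matrix.mulVec_sub, Matrix.mulVec_smul, hib, hia,
        add_smul, algebraMap_smul, smul_assoc, smul_sub, smul_smul]
      have : q⁻¹ * p = -(-p / q) := by field_simp
      rw [this, neg_smul]
      abel
  obtain ⟨z, hz0, hzz, hz⟩ := R.stepOne hfr M' hN hγ₀ hw₁ hab
  apply eq_top_of_dirSet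
  intro x
  exact R.stepTwo (by omega) M' hN hz0 hzz hz x

end UData

end Cfsg.Agent.H9SpU
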