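import Mathlib
import Cfsg.Agent.Lib.Helper9.SpU4

set_option autoImplicit false

/-!
Transfer principle for maximality in `Sp_{2m}(F)`; a symplectic transvection does not normalise a
unitary structure.
-/

namespace Cfsg.Agent.H9SpU

open Module Matrix Cfsg.Agent.Lib.Helper2 Cfsg.Agent.Lib.Helper2.UT
  Cfsg.Agent.Lib.Helper2.IsomDecomp
  Cfsg.Agent.Lib.Helper2.HermDecomp Cfsg.Agent.Lib.Helper2.HermFrames
  Cfsg.Agent.Lib.Helper5.PSLCoset Cfsg.Agent.H9SUMax
  Cfsg.Agent.Lib.Helper1.SpBasic Cfsg.Agent.Lib.Helper2.Symp Cfsg.Agent.Lib.Helper2.SpIsom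
  Cfsg.Agent.H9SpMax

variable {F : Type*} [Field F] {m : ℕ}

/-- the transfer principle for subgroups of `Sp` -/
theorem sp_isMaximalIn_of (S : Subgroup (GL (Fin m ⊕ Fin m) F))
    (hex : ∃ γ : Matrix.symplecticGroup (Fin m) F, toGL m F γ ∉ S)
    (key : ∀ M' : Subgroup (Matrix.symplecticGroup (Fin m) F),
      (∀ γ, toGL m F γ ∈ S → γ ∈ M') → ∀ γ₀ ∈ M', toGL m F γ₀ ∉ S → M' = ⊤) :
    Cfsg.Geo.IsMaximalIn (Cfsg.spGL m F) (S ⊓ Cfsg.spGL m F) := by
  have hmemS : ∀ g : Matrix.symplecticGroup (Fin m) F, toGL m F g ∈ Cfsg.spGL m F := by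
    intro g
    rw [← toGL_range]; exact ⟨_, rfl⟩
  constructor
  · apply lt_of_le_of_ne inf_le_right
    intro heq
    obtain ⟨γ, hγ⟩ := hex
    have h1 := hmemS γ
    rw [← heq] at h1
    exact hγ h1.1
  · intro M hHM hMK
    by_cases hMS : M ≤ S
    · left
      exact le_antisymm (le_inf hMS hMK) hHM
    · right
      rw [SetLike.not_le_iff_exists] at hMS
      obtain ⟨g₀, hg₀M, hg₀S⟩ := hMS
      apply le_antisymm hMK
      have hg₀ : g₀ ∈ (toGL m F).range := by rw [toGL_range]; exact hMK hg₀M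
      obtain ⟨γ₀, rfl⟩ := hg₀
      have htop := key (M.comap (toGL m F))
        (fun γ hγ => hHM (Subgroup.mem_inf.2 ⟨hγ, hmemS γ⟩)) γ₀ hg₀M hg₀S
      intro k hk
      rw [← toGL_range] at hk
      obtain ⟨γ, rfl⟩ := hk
      have : γ ∈ M.comap (toGL m F) := by rw [htop]; trivial
      exact this

variable {L : Type*} [Field L] [Algebra F L]
  [Module L (Fin m ⊕ Fin m → F)] [IsScalarTower F L (Fin m ⊕ Fin m → F)]
  {τ : L ≃+* L} {H : (Fin m ⊕ Fin m → F) → (Fin m ⊕ Fin m → F) → L} {J : L} {ε : F}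

namespace UData

variable (R : UData τ H J ε)
include R

/-- a symplectic transvection does not normalise the unitary structure -/
theorem transv_not_norm [Finite L] [FiniteDimensional L (Fin m ⊕ Fin m → F)]
    (hfr : 6 ≤ finrank L (Fin m ⊕ Fin m → F)) {x : Fin m ⊕ Fin m → F} (hx : x ≠ 0) :
    ¬ ∃ κ : L, ∀ v, (((T x 1)⁻¹ : Matrix.symplecticGroup (Fin m) F) :
      Matrix (Fin m ⊕ Fin m) (Fin m ⊕ Fin m) F) *ᵥ
        (J • ((T x 1 : Matrix.symplecticGroup (Fin m) F) :
          Matrix (Fin m ⊕ Fin m) (Fin m ⊕ Fin m) F) *ᵥ v) = κ • v := by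
  rintro ⟨κ, hκ⟩
  have h := R.herm
  -- `κ = J`
  obtain ⟨u, v, hp, hX⟩ := exists_hypPair_perp R.ord h R.nd (Submodule.span L {x, x}) (by
    have := finrank_span_pair_le' (K := L) x x
    omega)
  have hxu := (hX x (Submodule.subset_span (by simp))).1
  have hu0 : u ≠ 0 := by
    intro h0
    have := hp.uv
    rw [h0, h.zero_left] at this
    exact zero_ne_one this
  have hux : H u x = 0 := eq_zero_of_symm h hxu
  obtain ⟨h1, h2⟩ := (R.H_eq_zero_iff u x).1 hux
  have hκJ : κ = J := by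
    have h3 := hκ u
    rw [T_mulVec, h2, mul_zero, zero_smul, add_zero, T_inv, T_mulVec, h1, mul_zero, zero_smul,
      add_zero] at h3
    have h4 : (J - κ) • u = 0 := by rw [sub_smul, h3, sub_self]
    have h5 := (smul_eq_zero.1 h4).resolve_right hu0
    exact (sub_eq_zero.1 h5).symm
  -- a vector not orthogonal to `x`
  obtain ⟨y, hy⟩ : ∃ y, Cfsg.sympForm m F y x ≠ 0 := by
    by_contra hcon
    push Not at hcon
    apply hx
    apply sympForm_nondeg
    intro y
    rw [sympForm_swap, hcon y, neg_zero]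
  have h6 := hκ y
  rw [hκJ] at h6
  have h7 := congrArg (fun w => ((T x 1 : Matrix.symplecticGroup (Fin m) F) :
          Matrix (Fin m ⊕ Fin m) (Fin m ⊕ Fin m) F) *ᵥ w) h6
  simp only [mulVec_inv_mulVec] at h7
  rw [T_mulVec, T_mulVec, one_mul, one_mul, smul_add] at h7
  have h8 : Cfsg.sympForm m F y x • J • x = Cfsg.sympForm m F (J • y) x • x := by
    have := add_left_cancel h7
    rw [← this]
    exact smul_comm _ _ _
  have h9 : (J - algebraMap F L (Cfsg.sympForm m F (J • y) x / Cfsg.sympForm m F y x)) • x = 0 := by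
    rw [sub_smul, algebraMap_smul, div_eq_inv_mul, mul_smul, ← h8, smul_smul, inv_mul_cancel₀ hy,
      one_smul, sub_self]
  have h10 := (smul_eq_zero.1 h9).resolve_right hx
  have h11 := R.indep (-(Cfsg.sympForm m F (J • y) x / Cfsg.sympForm m F y x)) 1 (by
    rw [map_neg, one_smul]; linear_combination h10)
  exact one_ne_zero h11.2

end UData

end Cfsg.Agent.H9SpU
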