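import Mathlib
import Cfsg.Prelude
import Cfsg.Agent.Lib.Helper9.SpU5
import Cfsg.Agent.Lib.Helper9.FieldSub3

set_option autoImplicit false

/-!
The unitary structure on the symplectic space defined by an adjoint-closed, not self-adjoint
quadratic field subalgebra of the matrix algebra.
-/

namespace Cfsg.Agent.H9SpU

open Module Matrix Cfsg.Agent.Lib.Helper2 Cfsg.Agent.Lib.Helper2.UT
  Cfsg.Agent.Lib.Helper2.IsomDecomp
  Cfsg.Agent.Lib.Helper2.HermDecomp Cfsg.Agent.Lib.Helper2.HermFrames
  Cfsg.Agent.Lib.Helper5.PSLCoset Cfsg.Agent.H9SUMax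
  Cfsg.Agent.Lib.Helper1.SpBasic Cfsg.Agent.Lib.Helper2.Symp Cfsg.Agent.Lib.Helper2.SpIsom
  Cfsg.Agent.H9SpMax Cfsg.Agent.H9FK

variable {F : Type*} [Field F] {m : ℕ}

theorem rform_symp : RForm (Cfsg.sympForm m F) (-1) where
  bil := ⟨sympForm_add_left, sympForm_smul_left, sympForm_add_right, sympForm_smul_right⟩
  nd := by
    intro v hv
    apply sympForm_nondeg
    intro y
    rw [sympForm_swap, hv y, neg_zero]
  swap := by
    intro u v
    rw [sympForm_swap, neg_one_mul]
  sq := by ring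

variable {K : Subalgebra F (Matrix (Fin m ⊕ Fin m) (Fin m ⊕ Fin m) F)}
  {hK : Cfsg.Geo.IsFieldSubalgebra 2 K}

/-- the Hermitian form attached to a skew-adjoint element `J` -/
noncomputable def hForm (J : FK K hK) (u v : Fin m ⊕ Fin m → F) : FK K hK :=
  algebraMap F (FK K hK) (Cfsg.sympForm m F (J • u) v) + Cfsg.sympForm m F u v • J

/-- **existence of the unitary structure** -/
theorem exists_udata (h2 : (2 : F) ≠ 0)
    (hac : Cfsg.Geo.IsAdjointClosedFor (Cfsg.sympForm m F) K)
    (hnsa : ¬ Cfsg.Geo.IsSelfAdjointFor (Cfsg.sympForm m F) K) :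
    ∃ (τ : FK K hK ≃+* FK K hK) (J : FK K hK) (ε : F), UData τ (hForm J) J ε := by
  have hf := rform_symp (F := F) (m := m)
  obtain ⟨τ, hτ⟩ : ∃ τ : FK K hK ≃+* FK K hK, τ = tau hf hac := ⟨_, rfl⟩
  have hspec : ∀ (k : FK K hK) (u v : Fin m ⊕ Fin m → F),
      Cfsg.sympForm m F (k • u) v = Cfsg.sympForm m F u (τ k • v) := by
    intro k u v; rw [hτ]; exact tau_spec hf hac k u v
  have hττ : ∀ k, τ (τ k) = k := by
    intro k; rw [hτ]; exact tau_tau hf hac k
  have hτalg : ∀ c : F, τ (algebraMap F (FK K hK) c) = algebraMap F (FK K hK) c := by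
    intro c; rw [hτ]; exact tau_algebraMap hf hac c
  have hτsmul : ∀ (c : F) (l : FK K hK), τ (c • l) = c • τ l := by
    intro c l
    rw [Algebra.smul_def, map_mul, hτalg, ← Algebra.smul_def]
  obtain ⟨k₀, hk₀⟩ : ∃ k₀ : FK K hK, τ k₀ ≠ k₀ := by
    rw [hτ]; exact exists_tau_ne hf hac hnsa
  obtain ⟨J, hJ⟩ : ∃ J : FK K hK, J = k₀ - τ k₀ := ⟨_, rfl⟩
  have hτJ : τ J = -J := by rw [hJ, map_sub, hττ]; ring
  have hJ0 : J ≠ 0 := by
    rw [hJ]; exact sub_ne_zero.2 (Ne.symm hk₀)
  have h2' : (2 : FK K hK) ≠ 0 := by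
    have : (2 : FK K hK) = algebraMap F (FK K hK) 2 := (map_ofNat _ 2).symm
    rw [this]
    exact (map_ne_zero _).2 h2
  have hJalg : ∀ c : F, J ≠ algebraMap F (FK K hK) c := by
    intro c hc
    have h1 : τ J = J := by rw [hc, hτalg]
    rw [hτJ] at h1
    have h3 : (2 : FK K hK) * J = 0 := by linear_combination -h1
    rcases mul_eq_zero.1 h3 with h4 | h4
    · exact h2' h4
    · exact hJ0 h4
  have hdecomp := fun l => exists_coord hJalg l
  have hindep : ∀ a b : F, algebraMap F (FK K hK) a + b • J = 0 → a = 0 ∧ b = 0 :=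
    fun a b h => coord_indep hJalg h
  obtain ⟨ε, hε⟩ : ∃ ε : F, J * J = algebraMap F (FK K hK) ε := by
    obtain ⟨a, b, hab⟩ := hdecomp (J * J)
    have h1 : τ (J * J) = J * J := by rw [map_mul, hτJ]; ring
    rw [hab, map_add, hτalg, hτsmul, hτJ, smul_neg] at h1
    have h3 := hindep 0 (2 * b) (by
      rw [map_zero, zero_add, mul_smul]
      have : (2 : F) • b • J = b • J + b • J := two_smul F _
      rw [this]
      linear_combination -h1)
    have hb : b = 0 := by
      rcases mul_eq_zero.1 h3.2 with h4 | h4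
      · exact absurd h4 h2
      · exact h4
    rw [hb, zero_smul, add_zero] at hab
    exact ⟨a, hab⟩
  have hJJ : ∀ u : Fin m ⊕ Fin m → F, J • J • u = ε • u := by
    intro u
    rw [← mul_smul, hε, algebraMap_smul]
  have hJskew : ∀ u v, Cfsg.sympForm m F (J • u) v = -Cfsg.sympForm m F u (J • v) := by
    intro u v
    rw [hspec, hτJ, neg_smul, ← neg_one_smul F (J • v), sympForm_smul_right, neg_one_mul]
  refine ⟨τ, J, ε, ⟨?_, ?_, ?_, hτJ, hτalg, hε, hdecomp, hindep, fun u v => rfl, h2⟩⟩
  · -- Hermitian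
    refine ⟨?_, ?_, ?_⟩
    · intro u v w
      unfold hForm
      rw [smul_add, sympForm_add_left, sympForm_add_left, map_add, add_smul]
      abel
    · intro l u v
      obtain ⟨a, b, hab⟩ := hdecomp l
      unfold hForm
      have e1 : l • u = a • u + b • (J • u) := by
        rw [hab, add_smul, algebraMap_smul, smul_assoc]
      have e2 : J • (l • u) = a • (J • u) + (b * ε) • u := by
        rw [e1, smul_add, smul_comm J a u, smul_comm J b (J • u), hJJ, smul_smul]
      rw [e2, e1, sympForm_add_left, sympForm_add_left, sympForm_smul_left, sympForm_smul_left,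
        sympForm_smul_left, sympForm_smul_left, hab]
      simp only [Algebra.smul_def, map_add, map_mul]
      linear_combination (-(algebraMap F (FK K hK) b *
        algebraMap F (FK K hK) (Cfsg.sympForm m F u v))) * hε
    · intro v w
      unfold hForm
      rw [map_add, hτalg, hτsmul, hτJ, hJskew w v, sympForm_swap w (J • v), neg_neg,
        sympForm_swap w v, neg_smul, smul_neg]
  · rw [hτ]; exact orderOf_tau hf hac hnsa
  · intro v hv
    apply sympForm_nondeg
    intro w
    exact (hindep _ _ (hv w)).2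

end Cfsg.Agent.H9SpU
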