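import Mathlib
import Cfsg.Prelude
import Cfsg.Agent.Lib.Helper9.SpU6

set_option autoImplicit false

/-!
The normaliser of a quadratic, adjoint-closed, not self-adjoint field subalgebra in the symplectic
group is maximal.
-/

namespace Cfsg.Agent.H9SpU

open Module Matrix Cfsg.Agent.Lib.Helper2 Cfsg.Agent.Lib.Helper2.UT
  Cfsg.Agent.Lib.Helper2.IsomDecomp
  Cfsg.Agent.Lib.Helper2.HermDecomp Cfsg.Agent.Lib.Helper2.HermFrames
  Cfsg.Agent.Lib.Helper5.PSLCoset Cfsg.Agent.H9SUMax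
  Cfsg.Agent.Lib.Helper1.SpBasic Cfsg.Agent.Lib.Helper2.Symp Cfsg.Agent.Lib.Helper2.SpIsom
  Cfsg.Agent.H9SpMax Cfsg.Agent.H9FK

variable {F : Type*} [Field F] {m : ℕ}
  {K : Subalgebra F (Matrix (Fin m ⊕ Fin m) (Fin m ⊕ Fin m) F)}

theorem toGL_inv_coe (γ : Matrix.symplecticGroup (Fin m) F) :
    (((toGL m F γ)⁻¹ : GL (Fin m ⊕ Fin m) F) : Matrix (Fin m ⊕ Fin m) (Fin m ⊕ Fin m) F) =
      ((γ⁻¹ : Matrix.symplecticGroup (Fin m) F) : Matrix (Fin m ⊕ Fin m) (Fin m ⊕ Fin m) F) := by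
  rw [← map_inv, toGL_coe]

theorem mem_norm_iff (γ : Matrix.symplecticGroup (Fin m) F) :
    toGL m F γ ∈ Cfsg.Geo.subalgebraNormalizer K ↔
      ∀ k : Matrix (Fin m ⊕ Fin m) (Fin m ⊕ Fin m) F, k ∈ K ↔
        (γ : Matrix (Fin m ⊕ Fin m) (Fin m ⊕ Fin m) F) * k *
          ((γ⁻¹ : Matrix.symplecticGroup (Fin m) F) :
            Matrix (Fin m ⊕ Fin m) (Fin m ⊕ Fin m) F) ∈ K := by
  change (∀ k : Matrix (Fin m ⊕ Fin m) (Fin m ⊕ Fin m) F, k ∈ K ↔
    ((toGL m F γ : GL (Fin m ⊕ Fin m) F) : Matrix (Fin m ⊕ Fin m) (Fin m ⊕ Fin m) F) * k *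
      (((toGL m F γ)⁻¹ : GL (Fin m ⊕ Fin m) F) :
        Matrix (Fin m ⊕ Fin m) (Fin m ⊕ Fin m) F) ∈ K) ↔ _
  rw [toGL_inv_coe, toGL_coe]

theorem sp_mul_inv_coe (γ : Matrix.symplecticGroup (Fin m) F) :
    (γ : Matrix (Fin m ⊕ Fin m) (Fin m ⊕ Fin m) F) *
      ((γ⁻¹ : Matrix.symplecticGroup (Fin m) F) :
        Matrix (Fin m ⊕ Fin m) (Fin m ⊕ Fin m) F) = 1 := by
  have h : γ * γ⁻¹ = 1 := mul_inv_cancel γ
  have h2 := congrArg Subtype.val h
  exact h2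

theorem sp_inv_mul_coe (γ : Matrix.symplecticGroup (Fin m) F) :
    ((γ⁻¹ : Matrix.symplecticGroup (Fin m) F) :
        Matrix (Fin m ⊕ Fin m) (Fin m ⊕ Fin m) F) *
      (γ : Matrix (Fin m ⊕ Fin m) (Fin m ⊕ Fin m) F) = 1 := by
  have h : γ⁻¹ * γ = 1 := inv_mul_cancel γ
  have h2 := congrArg Subtype.val h
  exact h2

/-- a symplectic matrix commuting with the subalgebra normalises it -/
theorem mem_norm_of_comm (γ : Matrix.symplecticGroup (Fin m) F)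
    (hc : ∀ k ∈ K, (γ : Matrix (Fin m ⊕ Fin m) (Fin m ⊕ Fin m) F) * k =
      k * (γ : Matrix (Fin m ⊕ Fin m) (Fin m ⊕ Fin m) F)) :
    toGL m F γ ∈ Cfsg.Geo.subalgebraNormalizer K := by
  rw [mem_norm_iff]
  intro k
  have hconj : ∀ k ∈ K, (γ : Matrix (Fin m ⊕ Fin m) (Fin m ⊕ Fin m) F) * k *
          ((γ⁻¹ : Matrix.symplecticGroup (Fin m) F) :
            Matrix (Fin m ⊕ Fin m) (Fin m ⊕ Fin m) F) = k := by
    intro k hk
    rw [hc k hk, Matrix.mul_assoc, sp_mul_inv_coe, Matrix.mul_one]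
  constructor
  · intro hk
    rw [hconj k hk]; exact hk
  · intro hk
    have h1 := hc _ hk
    have h2 : k = (γ : Matrix (Fin m ⊕ Fin m) (Fin m ⊕ Fin m) F) * k *
          ((γ⁻¹ : Matrix.symplecticGroup (Fin m) F) :
            Matrix (Fin m ⊕ Fin m) (Fin m ⊕ Fin m) F) := by
      have h4 : (γ : Matrix (Fin m ⊕ Fin m) (Fin m ⊕ Fin m) F) * k *
          ((γ⁻¹ : Matrix.symplecticGroup (Fin m) F) :
            Matrix (Fin m ⊕ Fin m) (Fin m ⊕ Fin m) F) *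
              (γ : Matrix (Fin m ⊕ Fin m) (Fin m ⊕ Fin m) F) =
          (γ : Matrix (Fin m ⊕ Fin m) (Fin m ⊕ Fin m) F) * k := by
        rw [Matrix.mul_assoc, sp_inv_mul_coe, Matrix.mul_one]
      rw [h4] at h1
      have h5 := congrArg (fun M => ((γ⁻¹ : Matrix.symplecticGroup (Fin m) F) :
            Matrix (Fin m ⊕ Fin m) (Fin m ⊕ Fin m) F) * M) h1
      beta_reduce at h5
      rw [← Matrix.mul_assoc, ← Matrix.mul_assoc _ _ k, sp_inv_mul_coe, Matrix.one_mul,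
        Matrix.one_mul] at h5
      exact h5.symm
    rw [h2]; exact hk

variable {hK : Cfsg.Geo.IsFieldSubalgebra 2 K}

/-- an element of the normaliser conjugates `J` into the field -/
theorem conj_of_mem_norm (J : FK K hK) (γ : Matrix.symplecticGroup (Fin m) F)
    (hγ : toGL m F γ ∈ Cfsg.Geo.subalgebraNormalizer K) :
    ∃ κ : FK K hK, ∀ x, ((γ⁻¹ : Matrix.symplecticGroup (Fin m) F) :
      Matrix (Fin m ⊕ Fin m) (Fin m ⊕ Fin m) F) *ᵥ
        (J • ((γ : Matrix (Fin m ⊕ Fin m) (Fin m ⊕ Fin m) F) *ᵥ x)) = κ • x := by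
  have h1 : toGL m F γ⁻¹ ∈ Cfsg.Geo.subalgebraNormalizer K := by
    rw [map_inv]; exact inv_mem hγ
  rw [mem_norm_iff] at h1
  have h2 := (h1 J.val).1 J.mem
  rw [inv_inv] at h2
  refine ⟨⟨_, h2⟩, ?_⟩
  intro x
  rw [FK.smul_def, FK.smul_def, Matrix.mulVec_mulVec, Matrix.mulVec_mulVec]

theorem val_coord (a b : F) (κ : FK K hK) :
    (algebraMap F (FK K hK) a + b • κ).val =
      a • (1 : Matrix (Fin m ⊕ Fin m) (Fin m ⊕ Fin m) F) + b • κ.val := by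
  rw [FK.val_add, FK.val_algebraMap, FK.val_smul]

theorem conj_coord (γ : Matrix.symplecticGroup (Fin m) F) (a b : F)
    (A : Matrix (Fin m ⊕ Fin m) (Fin m ⊕ Fin m) F) :
    (γ : Matrix (Fin m ⊕ Fin m) (Fin m ⊕ Fin m) F) *
      (a • (1 : Matrix (Fin m ⊕ Fin m) (Fin m ⊕ Fin m) F) + b • A) *
        ((γ⁻¹ : Matrix.symplecticGroup (Fin m) F) :
          Matrix (Fin m ⊕ Fin m) (Fin m ⊕ Fin m) F) =
      a • (1 : Matrix (Fin m ⊕ Fin m) (Fin m ⊕ Fin m) F) +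
        b • ((γ : Matrix (Fin m ⊕ Fin m) (Fin m ⊕ Fin m) F) * A *
          ((γ⁻¹ : Matrix.symplecticGroup (Fin m) F) :
            Matrix (Fin m ⊕ Fin m) (Fin m ⊕ Fin m) F)) := by
  rw [Matrix.mul_add, Matrix.add_mul, Matrix.mul_smul, Matrix.smul_mul, Matrix.mul_one,
    sp_mul_inv_coe, Matrix.mul_smul, Matrix.smul_mul]

/-- an element conjugating `J` into the field normalises the field -/
theorem mem_norm_of_conj {J : FK K hK}
    (hdecomp : ∀ l : FK K hK, ∃ a b : F, l = algebraMap F (FK K hK) a + b • J)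
    (hJalg : ∀ c : F, J ≠ algebraMap F (FK K hK) c)
    (γ : Matrix.symplecticGroup (Fin m) F) (κ : FK K hK)
    (hκ : ∀ x, ((γ⁻¹ : Matrix.symplecticGroup (Fin m) F) :
      Matrix (Fin m ⊕ Fin m) (Fin m ⊕ Fin m) F) *ᵥ
        (J • ((γ : Matrix (Fin m ⊕ Fin m) (Fin m ⊕ Fin m) F) *ᵥ x)) = κ • x) :
    toGL m F γ ∈ Cfsg.Geo.subalgebraNormalizer K := by
  have hmat : ((γ⁻¹ : Matrix.symplecticGroup (Fin m) F) :
      Matrix (Fin m ⊕ Fin m) (Fin m ⊕ Fin m) F) * J.val *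
        (γ : Matrix (Fin m ⊕ Fin m) (Fin m ⊕ Fin m) F) = κ.val := by
    apply Matrix.mulVec_injective
    funext x
    have h1 := hκ x
    rw [FK.smul_def, FK.smul_def, Matrix.mulVec_mulVec, Matrix.mulVec_mulVec] at h1
    exact h1
  have hJ' : (γ : Matrix (Fin m ⊕ Fin m) (Fin m ⊕ Fin m) F) * κ.val *
      ((γ⁻¹ : Matrix.symplecticGroup (Fin m) F) :
        Matrix (Fin m ⊕ Fin m) (Fin m ⊕ Fin m) F) = J.val := by
    rw [← hmat, ← Matrix.mul_assoc, ← Matrix.mul_assoc, sp_mul_inv_coe, Matrix.one_mul,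
      Matrix.mul_assoc, sp_mul_inv_coe, Matrix.mul_one]
  have hκ' : ((γ⁻¹ : Matrix.symplecticGroup (Fin m) F) :
      Matrix (Fin m ⊕ Fin m) (Fin m ⊕ Fin m) F) * J.val *
        (((γ⁻¹)⁻¹ : Matrix.symplecticGroup (Fin m) F) :
          Matrix (Fin m ⊕ Fin m) (Fin m ⊕ Fin m) F) = κ.val := by
    rw [inv_inv]; exact hmat
  have hκalg : ∀ c : F, κ ≠ algebraMap F (FK K hK) c := by
    intro c hc
    apply hJalg c
    apply FK.val_injective
    rw [← hJ', hc, FK.val_algebraMap, Matrix.mul_smul, Matrix.smul_mul, Matrix.mul_one,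
      sp_mul_inv_coe]
  rw [mem_norm_iff]
  intro k
  constructor
  · intro hk
    obtain ⟨a, b, hab⟩ := exists_coord hκalg (⟨k, hk⟩ : FK K hK)
    have h1 : k = a • (1 : Matrix (Fin m ⊕ Fin m) (Fin m ⊕ Fin m) F) + b • κ.val := by
      rw [← val_coord, ← hab]
    rw [h1, conj_coord, hJ', ← val_coord]
    exact (algebraMap F (FK K hK) a + b • J).mem
  · intro hk
    obtain ⟨a, b, hab⟩ := hdecomp (⟨_, hk⟩ : FK K hK)
    have h1 : (γ : Matrix (Fin m ⊕ Fin m) (Fin m ⊕ Fin m) F) * k *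
          ((γ⁻¹ : Matrix.symplecticGroup (Fin m) F) :
            Matrix (Fin m ⊕ Fin m) (Fin m ⊕ Fin m) F) =
        a • (1 : Matrix (Fin m ⊕ Fin m) (Fin m ⊕ Fin m) F) + b • J.val := by
      rw [← val_coord, ← hab]
    have h2 : k = ((γ⁻¹ : Matrix.symplecticGroup (Fin m) F) :
      Matrix (Fin m ⊕ Fin m) (Fin m ⊕ Fin m) F) *
        ((γ : Matrix (Fin m ⊕ Fin m) (Fin m ⊕ Fin m) F) * k *
          ((γ⁻¹ : Matrix.symplecticGroup (Fin m) F) :
            Matrix (Fin m ⊕ Fin m) (Fin m ⊕ Fin m) F)) *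
        (((γ⁻¹)⁻¹ : Matrix.symplecticGroup (Fin m) F) :
          Matrix (Fin m ⊕ Fin m) (Fin m ⊕ Fin m) F) := by
      rw [inv_inv, ← Matrix.mul_assoc, ← Matrix.mul_assoc, sp_inv_mul_coe, Matrix.one_mul,
        Matrix.mul_assoc, sp_inv_mul_coe, Matrix.mul_one]
    rw [h2, h1, conj_coord, hκ', ← val_coord]
    exact (algebraMap F (FK K hK) a + b • κ).mem

/-- **the unitary normaliser is maximal in the symplectic group** -/
theorem gu_maximal_sp [Finite F] (hm : 6 ≤ m) (h2 : (2 : F) ≠ 0)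
    (hK : Cfsg.Geo.IsFieldSubalgebra 2 K)
    (hac : Cfsg.Geo.IsAdjointClosedFor (Cfsg.sympForm m F) K)
    (hnsa : ¬ Cfsg.Geo.IsSelfAdjointFor (Cfsg.sympForm m F) K) :
    Cfsg.Geo.IsMaximalIn (Cfsg.spGL m F) (Cfsg.Geo.subalgebraNormalizer K ⊓ Cfsg.spGL m F) := by
  haveI : NeZero (2 : ℕ) := ⟨by norm_num⟩
  obtain ⟨τ, J, ε, R⟩ := exists_udata (hK := hK) h2 hac hnsa
  haveI : FiniteDimensional (FK K hK) (Fin m ⊕ Fin m → F) :=
    Module.Finite.of_restrictScalars_finite F (FK K hK) (Fin m ⊕ Fin m → F)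
  have hfr : 6 ≤ finrank (FK K hK) (Fin m ⊕ Fin m → F) := by
    have h1 := Module.finrank_mul_finrank F (FK K hK) (Fin m ⊕ Fin m → F)
    rw [FK.finrank_eq, Module.finrank_pi, Fintype.card_sum, Fintype.card_fin] at h1
    omega
  have hJalg : ∀ c : F, J ≠ algebraMap F (FK K hK) c := by
    intro c hc
    have := R.indep c (-1) (by rw [neg_smul, one_smul, ← hc, add_neg_cancel])
    exact one_ne_zero (neg_eq_zero.1 this.2)
  apply sp_isMaximalIn_of (Cfsg.Geo.subalgebraNormalizer K)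
  · have hm0 : 0 < m := by omega
    have hx : (Pi.single (Sum.inl ⟨0, hm0⟩) 1 : Fin m ⊕ Fin m → F) ≠ 0 := by
      intro h
      have := congrFun h (Sum.inl ⟨0, hm0⟩)
      rw [Pi.single_eq_same] at this
      exact one_ne_zero this
    refine ⟨T (Pi.single (Sum.inl ⟨0, hm0⟩) 1) 1, ?_⟩
    intro hmem
    exact R.transv_not_norm hfr hx (conj_of_mem_norm J _ hmem)
  · intro M' hM' γ₀ hγ₀ hnot
    apply R.main hfr M' ?_ hγ₀ ?_
    · intro g hg
      obtain ⟨γ, hγ⟩ := R.exists_sp_of_isom g hg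
      refine ⟨γ, hM' γ (mem_norm_of_comm γ ?_), hγ⟩
      intro k hk
      apply Matrix.mulVec_injective
      funext x
      rw [← Matrix.mulVec_mulVec, ← Matrix.mulVec_mulVec, hγ, hγ]
      have h1 : k *ᵥ x = (⟨k, hk⟩ : FK K hK) • x := rfl
      have h3 : k *ᵥ g x = (⟨k, hk⟩ : FK K hK) • g x := rfl
      rw [h1, h3, map_smul]
    · rintro ⟨κ, hκ⟩
      exact hnot (mem_norm_of_conj R.decomp hJalg γ₀ κ hκ)

end Cfsg.Agent.H9SpU
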