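import Mathlib
import Cfsg.Prelude.Def_GeometricClasses

set_option autoImplicit false
open scoped MatrixGroups Kronecker

/-! Kronecker products: pure tensors, fixed spaces, repeated blocks. -/

namespace Cfsg.Agent.Lib.Helper9.H9TK

open Module Matrix

section pure
variable {F : Type*} [Field F] {a b : ℕ}

/-- Pure tensors in coordinates. -/
def pt (u : Fin a → F) (v : Fin b → F) : Fin a × Fin b → F := fun ij => u ij.1 * v ij.2

theorem pt_apply (u : Fin a → F) (v : Fin b → F) (i : Fin a) (j : Fin b) :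
    pt u v (i, j) = u i * v j := rfl

theorem kron_mulVec_pt (A : Matrix (Fin a) (Fin a) F) (B : Matrix (Fin b) (Fin b) F)
    (u : Fin a → F) (v : Fin b → F) :
    (A ⊗ₖ B) *ᵥ pt u v = pt (A *ᵥ u) (B *ᵥ v) := by
  funext ⟨i, j⟩
  simp only [mulVec, dotProduct, pt, kroneckerMap_apply, Fintype.sum_prod_type, Finset.sum_mul_sum]
  refine Finset.sum_congr rfl fun i' _ => Finset.sum_congr rfl fun j' _ => ?_
  ring

/-- `v ↦ u ⊗ v` as a linear map. -/
def ptRight (u : Fin a → F) : (Fin b → F) →ₗ[F] (Fin a × Fin b → F) where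
  toFun v := pt u v
  map_add' v w := by funext ij; simp only [pt, Pi.add_apply]; ring
  map_smul' c v := by funext ij; simp only [pt, Pi.smul_apply, smul_eq_mul, RingHom.id_apply]; ring

theorem ptRight_apply (u : Fin a → F) (v : Fin b → F) : ptRight u v = pt u v := rfl

theorem ptRight_injective (u : Fin a → F) (hu : u ≠ 0) : Function.Injective (ptRight (b := b) u) := by
  obtain ⟨i, hi⟩ := Function.ne_iff.mp hu
  intro v w h
  funext j
  have := congrFun h (i, j)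
  simp only [ptRight_apply, pt_apply] at this
  exact mul_left_cancel₀ hi this

theorem one_kron_mulVec (h : Matrix (Fin b) (Fin b) F) (w : Fin a × Fin b → F) (i : Fin a) (j : Fin b) :
    (((1 : Matrix (Fin a) (Fin a) F) ⊗ₖ h) *ᵥ w) (i, j) = (h *ᵥ fun j' => w (i, j')) j := by
  simp only [mulVec, dotProduct, kroneckerMap_apply, Fintype.sum_prod_type]
  rw [Finset.sum_eq_single i]
  · simp
  · intro i' _ hne
    simp [Matrix.one_apply_ne' hne]
  · simp

end pure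

section defs
universe u
variable {F : Type u} [Field F] {V : Type u} [AddCommGroup V] [Module F V]

/-- In the coordinates `Ψ`, `t` is the Kronecker product of `A` and `B`. -/
def KronRel {a b : ℕ} (Ψ : V ≃ₗ[F] (Fin a × Fin b → F)) (A : Matrix (Fin a) (Fin a) F)
    (B : Matrix (Fin b) (Fin b) F) (t : V →ₗ[F] V) : Prop :=
  ∀ v, Ψ (t v) = (A ⊗ₖ B) *ᵥ (Ψ v)

/-- `t` is a Kronecker product of two invertible matrices in suitable coordinates. -/
def IsKron (a b : ℕ) (t : V →ₗ[F] V) : Prop :=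
  ∃ (Ψ : V ≃ₗ[F] (Fin a × Fin b → F)) (g1 : GL (Fin a) F) (g2 : GL (Fin b) F),
    KronRel Ψ (g1 : Matrix (Fin a) (Fin a) F) (g2 : Matrix (Fin b) (Fin b) F) t

/-- `t` is `a` copies of `h`. -/
def IsRep (a : ℕ) {U : Type u} [AddCommGroup U] [Module F U] (h : U →ₗ[F] U) (t : V →ₗ[F] V) : Prop :=
  ∃ Ψ : V ≃ₗ[F] (Fin a → U), ∀ v i, Ψ (t v) i = h (Ψ v i)

theorem kron_swap_mulVec {a b : ℕ} (A : Matrix (Fin a) (Fin a) F) (B : Matrix (Fin b) (Fin b) F)
    (w : Fin a × Fin b → F) (j : Fin b) (i : Fin a) :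
    ((B ⊗ₖ A) *ᵥ fun ji => w (ji.2, ji.1)) (j, i) = ((A ⊗ₖ B) *ᵥ w) (i, j) := by
  simp only [mulVec, dotProduct, kroneckerMap_apply, Fintype.sum_prod_type]
  rw [Finset.sum_comm]
  refine Finset.sum_congr rfl fun i' _ => Finset.sum_congr rfl fun j' _ => ?_
  ring

theorem KronRel.swap {a b : ℕ} {t : V →ₗ[F] V} {Ψ : V ≃ₗ[F] (Fin a × Fin b → F)}
    {A : Matrix (Fin a) (Fin a) F} {B : Matrix (Fin b) (Fin b) F} (h : KronRel Ψ A B t) :
    KronRel (Ψ ≪≫ₗ LinearEquiv.funCongrLeft F F (Equiv.prodComm (Fin b) (Fin a))) B A t := by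
  intro v
  funext ⟨j, i⟩
  have h1 := kron_swap_mulVec A B (Ψ v) j i
  rw [← h v] at h1
  exact h1.symm

theorem IsKron.swap {a b : ℕ} {t : V →ₗ[F] V} (h : IsKron a b t) : IsKron b a t := by
  obtain ⟨Ψ, g1, g2, hΨ⟩ := h
  exact ⟨_, g2, g1, hΨ.swap⟩

/-- A large eigenspace forces the left factor to be scalar. -/
theorem KronRel.left_scalar {a b : ℕ} {t : V →ₗ[F] V} {Ψ : V ≃ₗ[F] (Fin a × Fin b → F)}
    {A : Matrix (Fin a) (Fin a) F} {B : Matrix (Fin b) (Fin b) F} (h : KronRel Ψ A B t)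
    (hB : ∀ v, B *ᵥ v = 0 → v = 0) (μ : F)
    (hfix : a * b < finrank F (LinearMap.ker (t - μ • 1)) + b) : ∃ α : F, A = α • 1 := by
  have key : ∀ u : Fin a → F, u ≠ 0 → ∃ c : F, A *ᵥ u = c • u := by
    intro u hu
    set E' : Submodule F (Fin a × Fin b → F) :=
      (LinearMap.ker (t - μ • 1)).map (Ψ : V →ₗ[F] (Fin a × Fin b → F)) with hE'
    set R : Submodule F (Fin a × Fin b → F) := LinearMap.range (ptRight (b := b) u) with hR
    have h1 : finrank F E' = finrank F (LinearMap.ker (t - μ • 1)) :=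
      LinearEquiv.finrank_map_eq Ψ _
    have h2 : finrank F R = b := by
      rw [hR, LinearMap.finrank_range_of_inj (ptRight_injective u hu), Module.finrank_fin_fun]
    have h3 := Submodule.finrank_sup_add_finrank_inf_eq E' R
    have h4 : finrank F (E' ⊔ R : Submodule F (Fin a × Fin b → F)) ≤ a * b := by
      have := Submodule.finrank_le (E' ⊔ R)
      rwa [Module.finrank_fintype_fun_eq_card, Fintype.card_prod, Fintype.card_fin,
        Fintype.card_fin] at this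
    have h5 : 0 < finrank F (E' ⊓ R : Submodule F (Fin a × Fin b → F)) := by omega
    obtain ⟨⟨w, hw⟩, hw0⟩ := Module.finrank_pos_iff_exists_ne_zero.mp h5
    have hw0' : w ≠ 0 := fun h0 => hw0 (Subtype.ext h0)
    obtain ⟨hwE, hwR⟩ := Submodule.mem_inf.mp hw
    obtain ⟨e, he, rfl⟩ := (Submodule.mem_map).mp hwE
    obtain ⟨v, hv⟩ := LinearMap.mem_range.mp hwR
    rw [ptRight_apply] at hv
    have hte : t e = μ • e := by
      have := LinearMap.mem_ker.mp he
      rwa [LinearMap.sub_apply, LinearMap.smul_apply, Module.End.one_apply, sub_eq_zero] at this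
    have hK : pt (A *ᵥ u) (B *ᵥ v) = μ • pt u v := by
      rw [← kron_mulVec_pt, hv]
      have := h e
      rw [hte, map_smul] at this
      exact this.symm
    have hv0 : v ≠ 0 := by
      rintro rfl
      apply hw0'
      rw [← hv]
      funext ij
      simp [pt]
    have hBv : B *ᵥ v ≠ 0 := fun h0 => hv0 (hB v h0)
    obtain ⟨j, hj⟩ := Function.ne_iff.mp hBv
    refine ⟨μ * v j / (B *ᵥ v) j, ?_⟩
    funext i
    have := congrFun hK (i, j)
    simp only [pt_apply, Pi.smul_apply, smul_eq_mul] at this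
    rw [Pi.smul_apply, smul_eq_mul]
    rw [Pi.zero_apply] at hj
    field_simp
    linear_combination this
  have h2 : ∀ u : Fin a → F, ¬ LinearIndependent F ![u, Matrix.toLin' A u] := by
    intro u hli
    by_cases hu : u = 0
    · have := hli.ne_zero 0
      simp [hu] at this
    · obtain ⟨c, hc⟩ := key u hu
      rw [LinearIndependent.pair_iff] at hli
      have := (hli c (-1) (by rw [Matrix.toLin'_apply, hc]; simp)).2
      simp at this
  obtain ⟨α, hα⟩ := LinearMap.exists_eq_smul_id_of_forall_notLinearIndependent h2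
  refine ⟨α, ?_⟩
  have := congrArg LinearMap.toMatrix' hα
  rwa [LinearMap.toMatrix'_toLin', map_smul, LinearMap.toMatrix'_one] at this

/-- A Kronecker product with scalar left factor is a repeated block. -/
theorem KronRel.isRep_of_scalar {a b : ℕ} {t : V →ₗ[F] V} {Ψ : V ≃ₗ[F] (Fin a × Fin b → F)}
    {B : Matrix (Fin b) (Fin b) F} (α : F) (h : KronRel Ψ (α • (1 : Matrix (Fin a) (Fin a) F)) B t) :
    IsRep a (Matrix.toLin' (α • B)) t := by
  refine ⟨Ψ ≪≫ₗ LinearEquiv.curry F F (Fin a) (Fin b), ?_⟩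
  intro v i
  funext j
  have h1 : (Ψ ≪≫ₗ LinearEquiv.curry F F (Fin a) (Fin b)) (t v) i j = Ψ (t v) (i, j) := rfl
  rw [h1, h v, Matrix.smul_kronecker, Matrix.smul_mulVec, Pi.smul_apply, one_kron_mulVec,
    Matrix.toLin'_apply, Matrix.smul_mulVec, Pi.smul_apply]
  rfl

theorem IsRep.pow_apply {a : ℕ} {U : Type u} [AddCommGroup U] [Module F U] {h : U →ₗ[F] U}
    {t : V →ₗ[F] V} {Ψ : V ≃ₗ[F] (Fin a → U)} (hΨ : ∀ v i, Ψ (t v) i = h (Ψ v i)) (k : ℕ) :
    ∀ v i, Ψ ((t ^ k) v) i = (h ^ k) (Ψ v i) := by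
  induction k with
  | zero => intro v i; simp
  | succ k ih =>
    intro v i
    rw [pow_succ, pow_succ, Module.End.mul_apply, Module.End.mul_apply, ih, hΨ]

theorem IsRep.aeval_apply {a : ℕ} {U : Type u} [AddCommGroup U] [Module F U] {h : U →ₗ[F] U}
    {t : V →ₗ[F] V} {Ψ : V ≃ₗ[F] (Fin a → U)} (hΨ : ∀ v i, Ψ (t v) i = h (Ψ v i))
    (f : Polynomial F) : ∀ v i, Ψ (Polynomial.aeval t f v) i = Polynomial.aeval h f (Ψ v i) := by
  intro v i
  rw [Polynomial.aeval_eq_sum_range, Polynomial.aeval_eq_sum_range, LinearMap.sum_apply,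
    LinearMap.sum_apply, map_sum, Finset.sum_apply]
  refine Finset.sum_congr rfl fun k _ => ?_
  rw [LinearMap.smul_apply, LinearMap.smul_apply, map_smul, Pi.smul_apply,
    IsRep.pow_apply hΨ k v i]

/-- The kernel of a polynomial in a repeated block. -/
theorem IsRep.finrank_ker {a : ℕ} {U : Type u} [AddCommGroup U] [Module F U]
    [FiniteDimensional F U] {h : U →ₗ[F] U} {t : V →ₗ[F] V} (hr : IsRep a h t)
    (f : Polynomial F) :
    finrank F (LinearMap.ker (Polynomial.aeval t f)) =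
      a * finrank F (LinearMap.ker (Polynomial.aeval h f)) := by
  obtain ⟨Ψ, hΨ⟩ := hr
  have hae := IsRep.aeval_apply hΨ f
  let φ : LinearMap.ker (Polynomial.aeval t f) ≃ₗ[F]
      (Fin a → LinearMap.ker (Polynomial.aeval h f)) :=
    { toFun := fun v i => ⟨Ψ v.1 i, by
        rw [LinearMap.mem_ker, ← hae, LinearMap.mem_ker.mp v.2, map_zero]; rfl⟩
      map_add' := fun v w => by
        funext i; apply Subtype.ext; simp
      map_smul' := fun c v => by
        funext i; apply Subtype.ext; simp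
      invFun := fun w => ⟨Ψ.symm (fun i => (w i : U)), by
        rw [LinearMap.mem_ker]
        apply Ψ.injective
        funext i
        rw [hae, LinearEquiv.apply_symm_apply, map_zero, LinearMap.mem_ker.mp (w i).2]; rfl⟩
      left_inv := fun v => by
        apply Subtype.ext
        simp
      right_inv := fun w => by
        funext i
        apply Subtype.ext
        simp }
  rw [LinearEquiv.finrank_eq φ, Module.finrank_pi_fintype]
  simp

theorem IsRep.injective {a : ℕ} (ha : 0 < a) {U : Type u} [AddCommGroup U] [Module F U]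
    {h : U →ₗ[F] U} {t : V →ₗ[F] V} (hr : IsRep a h t) (ht : Function.Injective t) :
    Function.Injective h := by
  obtain ⟨Ψ, hΨ⟩ := hr
  rw [← LinearMap.ker_eq_bot, LinearMap.ker_eq_bot']
  intro x hx
  have h1 : t (Ψ.symm fun _ => x) = 0 := by
    apply Ψ.injective
    funext i
    rw [hΨ, LinearEquiv.apply_symm_apply, hx, map_zero]; rfl
  have h2 : (Ψ.symm fun _ => x) = 0 := ht (by rw [h1, map_zero])
  have h3 := congrArg Ψ h2
  rw [LinearEquiv.apply_symm_apply, map_zero] at h3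
  exact congrFun h3 ⟨0, ha⟩

/-- A repeated block is a Kronecker product. -/
theorem isKron_of_isRep {a k : ℕ} {U : Type u} [AddCommGroup U] [Module F U]
    [FiniteDimensional F U] {h : U →ₗ[F] U} {t : V →ₗ[F] V} (hr : IsRep a h t)
    (hU : finrank F U = k) (hinj : Function.Injective h) : IsKron a k t := by
  obtain ⟨Ψ, hΨ⟩ := hr
  have φ : U ≃ₗ[F] (Fin k → F) :=
    LinearEquiv.ofFinrankEq _ _ (by rw [hU, Module.finrank_fin_fun])
  set h' : (Fin k → F) →ₗ[F] (Fin k → F) :=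
    (φ : U →ₗ[F] (Fin k → F)) ∘ₗ h ∘ₗ (φ.symm : (Fin k → F) →ₗ[F] U) with hh'
  have hinj' : Function.Injective h' := by
    rw [hh']
    exact φ.injective.comp (hinj.comp φ.symm.injective)
  have hdet : (LinearMap.toMatrix' h').det ≠ 0 := by
    rw [LinearMap.det_toMatrix']
    intro h0
    have := LinearMap.bot_lt_ker_of_det_eq_zero h0
    rw [LinearMap.ker_eq_bot.mpr hinj'] at this
    exact lt_irrefl _ this
  refine ⟨Ψ ≪≫ₗ LinearEquiv.piCongrRight (fun _ => φ) ≪≫ₗ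
    (LinearEquiv.curry F F (Fin a) (Fin k)).symm, 1,
    Matrix.GeneralLinearGroup.mkOfDetNeZero (LinearMap.toMatrix' h') hdet, ?_⟩
  intro v
  funext ⟨i, j⟩
  rw [Units.val_one, one_kron_mulVec]
  have h1 : ∀ w : V, (Ψ ≪≫ₗ LinearEquiv.piCongrRight (fun _ => φ) ≪≫ₗ
    (LinearEquiv.curry F F (Fin a) (Fin k)).symm) w (i, j) = φ (Ψ w i) j := fun w => rfl
  have h2 : (fun j' => (Ψ ≪≫ₗ LinearEquiv.piCongrRight (fun _ => φ) ≪≫ₗ
    (LinearEquiv.curry F F (Fin a) (Fin k)).symm) v (i, j')) = φ (Ψ v i) := rfl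
  rw [h1, h2, hΨ]
  change _ = (LinearMap.toMatrix' h' *ᵥ φ (Ψ v i)) j
  rw [← Matrix.toLin'_apply, Matrix.toLin'_toMatrix', hh']
  simp

/-- Transport of a repeated block along an intertwining isomorphism. -/
theorem IsRep.congr {a : ℕ} {U : Type u} [AddCommGroup U] [Module F U] {h : U →ₗ[F] U}
    {V' : Type u} [AddCommGroup V'] [Module F V'] {t : V →ₗ[F] V} {t' : V' →ₗ[F] V'}
    (φ : V' ≃ₗ[F] V) (hφ : ∀ v, φ (t' v) = t (φ v)) (hr : IsRep a h t) : IsRep a h t' := by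
  obtain ⟨Ψ, hΨ⟩ := hr
  refine ⟨φ ≪≫ₗ Ψ, fun v i => ?_⟩
  rw [LinearEquiv.trans_apply, hφ, hΨ]
  rfl

/-- componentwise pairing -/
def piProdEquiv (a : ℕ) (A B : Type u) [AddCommGroup A] [Module F A] [AddCommGroup B]
    [Module F B] : ((Fin a → A) × (Fin a → B)) ≃ₗ[F] (Fin a → A × B) where
  toFun p i := (p.1 i, p.2 i)
  map_add' p q := rfl
  map_smul' c p := rfl
  invFun w := (fun i => (w i).1, fun i => (w i).2)
  left_inv p := rfl
  right_inv w := rfl

theorem IsRep.prod {a : ℕ} {U₁ U₂ : Type u} [AddCommGroup U₁] [Module F U₁] [AddCommGroup U₂]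
    [Module F U₂] {h₁ : U₁ →ₗ[F] U₁} {h₂ : U₂ →ₗ[F] U₂}
    {V₁ V₂ : Type u} [AddCommGroup V₁] [Module F V₁] [AddCommGroup V₂] [Module F V₂]
    {t₁ : V₁ →ₗ[F] V₁} {t₂ : V₂ →ₗ[F] V₂} (hr₁ : IsRep a h₁ t₁) (hr₂ : IsRep a h₂ t₂) :
    IsRep a (h₁.prodMap h₂) (t₁.prodMap t₂) := by
  obtain ⟨Ψ₁, hΨ₁⟩ := hr₁
  obtain ⟨Ψ₂, hΨ₂⟩ := hr₂
  refine ⟨(Ψ₁.prodCongr Ψ₂) ≪≫ₗ piProdEquiv a U₁ U₂, fun v i => ?_⟩
  change (Ψ₁ (t₁ v.1) i, Ψ₂ (t₂ v.2) i) = (h₁ (Ψ₁ v.1 i), h₂ (Ψ₂ v.2 i))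
  rw [hΨ₁, hΨ₂]

theorem prodEquiv_symm_restrict {t : V →ₗ[F] V} (Z C : Submodule F V) (hZC : IsCompl Z C)
    (hZ : ∀ x ∈ Z, t x ∈ Z) (hC : ∀ x ∈ C, t x ∈ C) (v : V) :
    (Submodule.prodEquivOfIsCompl Z C hZC).symm (t v) =
      ((t.restrict hZ).prodMap (t.restrict hC)) ((Submodule.prodEquivOfIsCompl Z C hZC).symm v) := by
  rw [LinearEquiv.symm_apply_eq]
  set p := (Submodule.prodEquivOfIsCompl Z C hZC).symm v with hp
  have hv : v = (p.1 : V) + (p.2 : V) := by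
    have := (Submodule.prodEquivOfIsCompl Z C hZC).apply_symm_apply v
    rw [← hp, Submodule.coe_prodEquivOfIsCompl'] at this
    exact this.symm
  rw [Submodule.coe_prodEquivOfIsCompl', hv, map_add]
  rfl

theorem IsRep.of_isCompl {a : ℕ} {U₁ U₂ : Type u} [AddCommGroup U₁] [Module F U₁]
    [AddCommGroup U₂] [Module F U₂] {h₁ : U₁ →ₗ[F] U₁} {h₂ : U₂ →ₗ[F] U₂}
    {t : V →ₗ[F] V} (Z C : Submodule F V) (hZC : IsCompl Z C) (hZ : ∀ x ∈ Z, t x ∈ Z)
    (hC : ∀ x ∈ C, t x ∈ C) (hr₁ : IsRep a h₁ (t.restrict hZ)) (hr₂ : IsRep a h₂ (t.restrict hC)) :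
    IsRep a (h₁.prodMap h₂) t :=
  IsRep.congr (Submodule.prodEquivOfIsCompl Z C hZC).symm
    (prodEquiv_symm_restrict Z C hZC hZ hC) (hr₁.prod hr₂)

theorem IsRep.cons {b : ℕ} {U : Type u} [AddCommGroup U] [Module F U] {h : U →ₗ[F] U}
    {V₁ V₂ : Type u} [AddCommGroup V₁] [Module F V₁] [AddCommGroup V₂] [Module F V₂]
    {t₁ : V₁ →ₗ[F] V₁} {t₂ : V₂ →ₗ[F] V₂} (φ : V₁ ≃ₗ[F] U) (hφ : ∀ v, φ (t₁ v) = h (φ v))
    (hr₂ : IsRep b h t₂) : IsRep (b + 1) h (t₁.prodMap t₂) := by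
  obtain ⟨Ψ₂, hΨ₂⟩ := hr₂
  refine ⟨(φ.prodCongr Ψ₂) ≪≫ₗ Fin.consLinearEquiv F (fun _ : Fin (b + 1) => U), fun v i => ?_⟩
  refine Fin.cases ?_ (fun j => ?_) i
  · change φ (t₁ v.1) = h (φ v.1)
    exact hφ _
  · change Ψ₂ (t₂ v.2) j = h (Ψ₂ v.2 j)
    exact hΨ₂ _ _

theorem IsRep.cons_of_isCompl {b : ℕ} {U : Type u} [AddCommGroup U] [Module F U] {h : U →ₗ[F] U}
    {t : V →ₗ[F] V} (Z C : Submodule F V) (hZC : IsCompl Z C) (hZ : ∀ x ∈ Z, t x ∈ Z)
    (hC : ∀ x ∈ C, t x ∈ C) (φ : Z ≃ₗ[F] U) (hφ : ∀ v, φ (t.restrict hZ v) = h (φ v))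
    (hr₂ : IsRep b h (t.restrict hC)) : IsRep (b + 1) h t :=
  IsRep.congr (Submodule.prodEquivOfIsCompl Z C hZC).symm
    (prodEquiv_symm_restrict Z C hZC hZ hC) (IsRep.cons φ hφ hr₂)

theorem isRep_zero [Subsingleton V] {U : Type u} [AddCommGroup U] [Module F U] (h : U →ₗ[F] U)
    (t : V →ₗ[F] V) : IsRep 0 h t := by
  refine ⟨⟨0, 0, fun _ => Subsingleton.elim _ _, fun _ => Subsingleton.elim _ _⟩, fun v i => ?_⟩
  exact i.elim0

/-- A scalar is a repeated scalar. -/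
theorem isRep_smul [FiniteDimensional F V] {a k : ℕ} (hV : finrank F V = a * k) (c : F) :
    IsRep a (c • (1 : (Fin k → F) →ₗ[F] (Fin k → F))) (c • (1 : V →ₗ[F] V)) := by
  have Ψ : V ≃ₗ[F] (Fin a → Fin k → F) :=
    LinearEquiv.ofFinrankEq _ _ (by
      rw [hV, Module.finrank_pi_fintype]
      simp)
  refine ⟨Ψ, fun v i => ?_⟩
  simp

end defs

end Cfsg.Agent.Lib.Helper9.H9TK
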