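import Mathlib
import Cfsg.Prelude.Def_GeometricClasses
import Cfsg.Agent.Lib.Helper9.TensK1

set_option autoImplicit false
open scoped MatrixGroups Kronecker

namespace Cfsg.Agent.Lib.Helper9.H9TK

open Module Matrix

section bridge
universe u
variable {F : Type u} [Field F] {n a b : ℕ}

theorem glReindex_coe (e : Fin n ≃ Fin a × Fin b) (k : GL (Fin a × Fin b) F) :
    ((Cfsg.Geo.glReindex e.symm k : GL (Fin n) F) : Matrix (Fin n) (Fin n) F) =
      (k : Matrix (Fin a × Fin b) (Fin a × Fin b) F).submatrix e e := rfl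

theorem mem_tensor_iff (e : Fin n ≃ Fin a × Fin b) (P y : GL (Fin n) F) :
    y ∈ Cfsg.Geo.tensorProductSubgroup a b e P ↔
      ∃ k : GL (Fin a × Fin b) F, (∃ (g1 : GL (Fin a) F) (g2 : GL (Fin b) F),
        (k : Matrix (Fin a × Fin b) (Fin a × Fin b) F) =
          (g1 : Matrix (Fin a) (Fin a) F) ⊗ₖ (g2 : Matrix (Fin b) (Fin b) F)) ∧
        y = P * Cfsg.Geo.glReindex e.symm k * P⁻¹ := by
  unfold Cfsg.Geo.tensorProductSubgroup
  constructor
  · intro h
    obtain ⟨k', hk', rfl⟩ := Subgroup.mem_map.mp h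
    obtain ⟨k, hk, rfl⟩ := Subgroup.mem_map.mp hk'
    exact ⟨k, hk, rfl⟩
  · rintro ⟨k, hk, rfl⟩
    exact Subgroup.mem_map.mpr ⟨_, Subgroup.mem_map.mpr ⟨k, hk, rfl⟩, rfl⟩

/-- coordinates along the index bijection -/
theorem submatrix_mulVec_funCongr (e : Fin n ≃ Fin a × Fin b)
    (K : Matrix (Fin a × Fin b) (Fin a × Fin b) F) (w : Fin n → F) :
    LinearEquiv.funCongrLeft F F e.symm ((K.submatrix e e) *ᵥ w) =
      K *ᵥ (LinearEquiv.funCongrLeft F F e.symm w) := by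
  funext ij
  change ((K.submatrix e e) *ᵥ w) (e.symm ij) = (K *ᵥ (fun x => w (e.symm x))) ij
  rw [Matrix.submatrix_mulVec_equiv]
  simp [Function.comp_def]

theorem isKron_of_conj_mem (e : Fin n ≃ Fin a × Fin b) (P x g : GL (Fin n) F)
    (h : g⁻¹ * x * g ∈ Cfsg.Geo.tensorProductSubgroup a b e P) :
    IsKron a b (Matrix.toLin' (x : Matrix (Fin n) (Fin n) F)) := by
  obtain ⟨k, ⟨g1, g2, hk⟩, hy⟩ := (mem_tensor_iff e P _).mp h
  set M : GL (Fin n) F := g * P with hM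
  have hgrp : M⁻¹ * x = Cfsg.Geo.glReindex e.symm k * M⁻¹ := by
    have : x = g * (P * Cfsg.Geo.glReindex e.symm k * P⁻¹) * g⁻¹ := by
      rw [← hy]; group
    rw [this, hM]; group
  have hmat : ((M⁻¹ : GL (Fin n) F) : Matrix (Fin n) (Fin n) F) * (x : Matrix (Fin n) (Fin n) F) =
      ((k : Matrix (Fin a × Fin b) (Fin a × Fin b) F).submatrix e e) *
        ((M⁻¹ : GL (Fin n) F) : Matrix (Fin n) (Fin n) F) := by
    have := congrArg (fun y : GL (Fin n) F => (y : Matrix (Fin n) (Fin n) F)) hgrp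
    simpa only [Units.val_mul, glReindex_coe] using this
  let Ψ₁ : (Fin n → F) ≃ₗ[F] (Fin n → F) :=
    Matrix.toLin'OfInv (M := (M : Matrix (Fin n) (Fin n) F))
      (M' := ((M⁻¹ : GL (Fin n) F) : Matrix (Fin n) (Fin n) F))
      (by rw [← Units.val_mul, mul_inv_cancel, Units.val_one])
      (by rw [← Units.val_mul, inv_mul_cancel, Units.val_one])
  have hΨ₁ : ∀ v, Ψ₁ v = ((M⁻¹ : GL (Fin n) F) : Matrix (Fin n) (Fin n) F) *ᵥ v := fun v => rfl
  refine ⟨Ψ₁ ≪≫ₗ LinearEquiv.funCongrLeft F F e.symm, g1, g2, ?_⟩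
  intro v
  rw [LinearEquiv.trans_apply, LinearEquiv.trans_apply, hΨ₁, hΨ₁, Matrix.toLin'_apply,
    Matrix.mulVec_mulVec, hmat, ← Matrix.mulVec_mulVec, submatrix_mulVec_funCongr, hk]

/-- The GL element of a Kronecker product. -/
def kronGL (g1 : GL (Fin a) F) (g2 : GL (Fin b) F) : GL (Fin a × Fin b) F :=
  ⟨(g1 : Matrix (Fin a) (Fin a) F) ⊗ₖ (g2 : Matrix (Fin b) (Fin b) F),
   ((g1⁻¹ : GL (Fin a) F) : Matrix (Fin a) (Fin a) F) ⊗ₖ ((g2⁻¹ : GL (Fin b) F) : Matrix (Fin b) (Fin b) F),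
   by rw [← Matrix.mul_kronecker_mul, ← Units.val_mul, ← Units.val_mul, mul_inv_cancel,
        mul_inv_cancel, Units.val_one, Units.val_one, Matrix.one_kronecker_one],
   by rw [← Matrix.mul_kronecker_mul, ← Units.val_mul, ← Units.val_mul, inv_mul_cancel,
        inv_mul_cancel, Units.val_one, Units.val_one, Matrix.one_kronecker_one]⟩

theorem conj_mem_of_isKron (e : Fin n ≃ Fin a × Fin b) (P x : GL (Fin n) F)
    (hk : IsKron a b (Matrix.toLin' (x : Matrix (Fin n) (Fin n) F)))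
    (hcent : ∀ δ : F, δ ≠ 0 → ∃ c : (Fin n → F) →ₗ[F] (Fin n → F), LinearMap.det c = δ ∧
      ∀ v, c (Matrix.toLin' (x : Matrix (Fin n) (Fin n) F) v)
        = Matrix.toLin' (x : Matrix (Fin n) (Fin n) F) (c v)) :
    ∃ g ∈ Cfsg.Geo.specialLinear (Fin n) F,
      g⁻¹ * x * g ∈ Cfsg.Geo.tensorProductSubgroup a b e P := by
  obtain ⟨Ψ, g1, g2, hΨ⟩ := hk
  set K : Matrix (Fin a × Fin b) (Fin a × Fin b) F :=
    (g1 : Matrix (Fin a) (Fin a) F) ⊗ₖ (g2 : Matrix (Fin b) (Fin b) F) with hK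
  set θ : (Fin n → F) ≃ₗ[F] (Fin n → F) := Ψ ≪≫ₗ (LinearEquiv.funCongrLeft F F e.symm).symm with hθ
  have hθx : ∀ v, θ (Matrix.toLin' (x : Matrix (Fin n) (Fin n) F) v) =
      (K.submatrix e e) *ᵥ θ v := by
    intro v
    apply (LinearEquiv.funCongrLeft F F e.symm).injective
    rw [submatrix_mulVec_funCongr, hθ, LinearEquiv.trans_apply, LinearEquiv.trans_apply,
      LinearEquiv.apply_symm_apply, LinearEquiv.apply_symm_apply]
    exact hΨ v
  have hθs : ∀ v, θ.symm ((K.submatrix e e) *ᵥ v) =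
      Matrix.toLin' (x : Matrix (Fin n) (Fin n) F) (θ.symm v) := by
    intro v
    rw [LinearEquiv.symm_apply_eq, hθx, LinearEquiv.apply_symm_apply]
  have hdθ : LinearMap.det (θ.symm : (Fin n → F) →ₗ[F] (Fin n → F)) ≠ 0 :=
    (LinearEquiv.isUnit_det' θ.symm).ne_zero
  have hdP : (P : Matrix (Fin n) (Fin n) F).det ≠ 0 := by
    have := Matrix.GeneralLinearGroup.det_ne_zero P
    exact this
  obtain ⟨c, hcdet, hcc⟩ := hcent ((P : Matrix (Fin n) (Fin n) F).det *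
    (LinearMap.det (θ.symm : (Fin n → F) →ₗ[F] (Fin n → F)))⁻¹) (mul_ne_zero hdP (inv_ne_zero hdθ))
  set Q : (Fin n → F) →ₗ[F] (Fin n → F) := c ∘ₗ (θ.symm : (Fin n → F) →ₗ[F] (Fin n → F)) with hQ
  have hQdet : LinearMap.det Q = (P : Matrix (Fin n) (Fin n) F).det := by
    rw [hQ, LinearMap.det_comp, hcdet]
    field_simp
  have hQne : (LinearMap.toMatrix' Q).det ≠ 0 := by
    rw [LinearMap.det_toMatrix', hQdet]; exact hdP
  set G : GL (Fin n) F := Matrix.GeneralLinearGroup.mkOfDetNeZero (LinearMap.toMatrix' Q) hQne with hG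
  have hGc : (G : Matrix (Fin n) (Fin n) F) = LinearMap.toMatrix' Q := rfl
  have hxG : x * G = G * Cfsg.Geo.glReindex e.symm (kronGL g1 g2) := by
    apply Units.ext
    rw [Units.val_mul, Units.val_mul, glReindex_coe, hGc]
    apply Matrix.toLin'.injective
    apply LinearMap.ext
    intro v
    rw [Matrix.toLin'_mul, Matrix.toLin'_mul, LinearMap.comp_apply, LinearMap.comp_apply,
      Matrix.toLin'_toMatrix', hQ, LinearMap.comp_apply, LinearMap.comp_apply]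
    change _ = c (θ.symm ((K.submatrix e e) *ᵥ v))
    rw [hθs, hcc]
    rfl
  refine ⟨G * P⁻¹, ?_, ?_⟩
  · change Matrix.GeneralLinearGroup.det (G * P⁻¹) = 1
    rw [map_mul, map_inv]
    apply Units.ext
    rw [Units.val_mul, Units.val_inv_eq_inv_val, Matrix.GeneralLinearGroup.val_det_apply,
      Matrix.GeneralLinearGroup.val_det_apply, hGc, LinearMap.det_toMatrix', hQdet, Units.val_one]
    exact mul_inv_cancel₀ hdP
  · rw [mem_tensor_iff]
    refine ⟨kronGL g1 g2, ⟨g1, g2, rfl⟩, ?_⟩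
    have : (G * P⁻¹)⁻¹ * x * (G * P⁻¹) = P * (G⁻¹ * (x * G)) * P⁻¹ := by group
    rw [this, hxG]
    group

end bridge

end Cfsg.Agent.Lib.Helper9.H9TK
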