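import Mathlib
import Cfsg.Prelude.Def_GeometricClasses
import Cfsg.Agent.Lib.Helper9.TensK2

set_option autoImplicit false
open scoped MatrixGroups Kronecker

/-! Bridge lemmas for tensor product subgroups over an arbitrary index type, and the isometric
version used for subgroups of classical groups. -/

namespace Cfsg.Agent.Lib.Helper9.H9TK

open Module Matrix

section bridge
universe u
variable {F : Type u} [Field F] {ι : Type} [Fintype ι] [DecidableEq ι] {a b : ℕ}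

theorem glReindex_coe' (e : ι ≃ Fin a × Fin b) (k : GL (Fin a × Fin b) F) :
    ((Cfsg.Geo.glReindex e.symm k : GL ι F) : Matrix ι ι F) =
      (k : Matrix (Fin a × Fin b) (Fin a × Fin b) F).submatrix e e := rfl

theorem mem_tensor_iff' (e : ι ≃ Fin a × Fin b) (P y : GL ι F) :
    y ∈ Cfsg.Geo.tensorProductSubgroup a b e P ↔
      ∃ k : GL (Fin a × Fin b) F, (∃ (g1 : GL (Fin a) F) (g2 : GL (Fin b) F),
        (k : Matrix (Fin a × Fin b) (Fin a × Fin b) F) =
          (g1 : Matrix (Fin a) (Fin a) F) ⊗ₖ (g2 : Matrix (Fin b) (Fin b) F)) ∧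
        y = P * Cfsg.Geo.glReindex e.symm k * P⁻¹ := by
  unfold Cfsg.Geo.tensorProductSubgroup
  constructor
  · intro h
    obtain ⟨k', hk', rfl⟩ := Subgroup.mem_map.mp h
    obtain ⟨k, hk, rfl⟩ := Subgroup.mem_map.mp hk'
    exact ⟨k, hk, rfl⟩
  · rintro ⟨k, hk, rfl⟩
    exact Subgroup.mem_map.mpr ⟨_, Subgroup.mem_map.mpr ⟨k, hk, rfl⟩, rfl⟩

theorem submatrix_mulVec_funCongr' (e : ι ≃ Fin a × Fin b)
    (K : Matrix (Fin a × Fin b) (Fin a × Fin b) F) (w : ι → F) :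
    LinearEquiv.funCongrLeft F F e.symm ((K.submatrix e e) *ᵥ w) =
      K *ᵥ (LinearEquiv.funCongrLeft F F e.symm w) := by
  funext ij
  change ((K.submatrix e e) *ᵥ w) (e.symm ij) = (K *ᵥ (fun x => w (e.symm x))) ij
  rw [Matrix.submatrix_mulVec_equiv]
  simp [Function.comp_def]

/-- the coordinates `u ↦ (M⁻¹ u) ∘ e⁻¹` attached to an invertible matrix `M` -/
noncomputable def coordEquiv (e : ι ≃ Fin a × Fin b) (M : GL ι F) :
    (ι → F) ≃ₗ[F] (Fin a × Fin b → F) :=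
  (Matrix.toLin'OfInv (M := (M : Matrix ι ι F)) (M' := ((M⁻¹ : GL ι F) : Matrix ι ι F))
      (by rw [← Units.val_mul, mul_inv_cancel, Units.val_one])
      (by rw [← Units.val_mul, inv_mul_cancel, Units.val_one])) ≪≫ₗ
    LinearEquiv.funCongrLeft F F e.symm

theorem coordEquiv_apply (e : ι ≃ Fin a × Fin b) (M : GL ι F) (u : ι → F) :
    coordEquiv e M u = fun ij => (((M⁻¹ : GL ι F) : Matrix ι ι F) *ᵥ u) (e.symm ij) := rfl

theorem coordEquiv_mulVec (e : ι ≃ Fin a × Fin b) (M : GL ι F) (w : Fin a × Fin b → F) :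
    coordEquiv e M ((M : Matrix ι ι F) *ᵥ (w ∘ e)) = w := by
  rw [coordEquiv_apply]
  funext ij
  rw [Matrix.mulVec_mulVec, ← Units.val_mul, inv_mul_cancel, Units.val_one, Matrix.one_mulVec]
  simp

theorem mulVec_coordEquiv (e : ι ≃ Fin a × Fin b) (M : GL ι F) (u : ι → F) :
    (M : Matrix ι ι F) *ᵥ ((coordEquiv e M u) ∘ e) = u := by
  have : (coordEquiv e M u) ∘ e = ((M⁻¹ : GL ι F) : Matrix ι ι F) *ᵥ u := by
    funext k
    simp [coordEquiv_apply]
  rw [this, Matrix.mulVec_mulVec, ← Units.val_mul, mul_inv_cancel, Units.val_one,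
    Matrix.one_mulVec]

/-- A conjugate lying in the tensor product subgroup is a Kronecker product in the coordinates
attached to `g * P`. -/
theorem kronRel_of_conj_mem (e : ι ≃ Fin a × Fin b) (P x g : GL ι F)
    (h : g⁻¹ * x * g ∈ Cfsg.Geo.tensorProductSubgroup a b e P) :
    ∃ (g1 : GL (Fin a) F) (g2 : GL (Fin b) F), KronRel (coordEquiv e (g * P))
      (g1 : Matrix (Fin a) (Fin a) F) (g2 : Matrix (Fin b) (Fin b) F)
      (Matrix.toLin' (x : Matrix ι ι F)) := by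
  obtain ⟨k, ⟨g1, g2, hk⟩, hy⟩ := (mem_tensor_iff' e P _).mp h
  set M : GL ι F := g * P with hM
  have hgrp : M⁻¹ * x = Cfsg.Geo.glReindex e.symm k * M⁻¹ := by
    have : x = g * (P * Cfsg.Geo.glReindex e.symm k * P⁻¹) * g⁻¹ := by
      rw [← hy]; group
    rw [this, hM]; group
  have hmat : ((M⁻¹ : GL ι F) : Matrix ι ι F) * (x : Matrix ι ι F) =
      ((k : Matrix (Fin a × Fin b) (Fin a × Fin b) F).submatrix e e) *
        ((M⁻¹ : GL ι F) : Matrix ι ι F) := by
    have := congrArg (fun y : GL ι F => (y : Matrix ι ι F)) hgrp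
    simpa only [Units.val_mul, glReindex_coe'] using this
  refine ⟨g1, g2, ?_⟩
  intro v
  have h1 : ∀ u : ι → F, coordEquiv e M u =
      LinearEquiv.funCongrLeft F F e.symm (((M⁻¹ : GL ι F) : Matrix ι ι F) *ᵥ u) := fun u => rfl
  rw [h1, h1, Matrix.toLin'_apply, Matrix.mulVec_mulVec, hmat, ← Matrix.mulVec_mulVec,
    submatrix_mulVec_funCongr', hk]

theorem isKron_of_conj_mem' (e : ι ≃ Fin a × Fin b) (P x g : GL ι F)
    (h : g⁻¹ * x * g ∈ Cfsg.Geo.tensorProductSubgroup a b e P) :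
    IsKron a b (Matrix.toLin' (x : Matrix ι ι F)) := by
  obtain ⟨g1, g2, hk⟩ := kronRel_of_conj_mem e P x g h
  exact ⟨_, g1, g2, hk⟩

/-- the invertible matrix of a linear automorphism -/
noncomputable def glOfEquiv (θ : (ι → F) ≃ₗ[F] (ι → F)) : GL ι F :=
  ⟨LinearMap.toMatrix' (θ : (ι → F) →ₗ[F] (ι → F)),
   LinearMap.toMatrix' (θ.symm : (ι → F) →ₗ[F] (ι → F)),
   by rw [← LinearMap.toMatrix'_comp, LinearEquiv.comp_symm, LinearMap.toMatrix'_id],
   by rw [← LinearMap.toMatrix'_comp, LinearEquiv.symm_comp, LinearMap.toMatrix'_id]⟩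

theorem glOfEquiv_mulVec (θ : (ι → F) ≃ₗ[F] (ι → F)) (u : ι → F) :
    ((glOfEquiv θ : GL ι F) : Matrix ι ι F) *ᵥ u = θ u := by
  change LinearMap.toMatrix' (θ : (ι → F) →ₗ[F] (ι → F)) *ᵥ u = θ u
  rw [LinearMap.toMatrix'_mulVec]
  rfl

/-- The isometric conjugation lemma: if `x` is a Kronecker product in coordinates `Ψ` in which the
form `f` looks the same as in the coordinates attached to `P`, then an `f`-isometry conjugates `x`
into the tensor product subgroup. -/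
theorem conj_mem_of_isometry (e : ι ≃ Fin a × Fin b) (P x : GL ι F)
    (f : (ι → F) → (ι → F) → F) (T' : (Fin a × Fin b → F) → (Fin a × Fin b → F) → F)
    (hP : ∀ w w' : Fin a × Fin b → F,
      f ((P : Matrix ι ι F) *ᵥ (w ∘ e)) ((P : Matrix ι ι F) *ᵥ (w' ∘ e)) = T' w w')
    (Ψ : (ι → F) ≃ₗ[F] (Fin a × Fin b → F)) (hΨf : ∀ u v, f u v = T' (Ψ u) (Ψ v))
    (g1 : GL (Fin a) F) (g2 : GL (Fin b) F)
    (hΨ : KronRel Ψ (g1 : Matrix (Fin a) (Fin a) F) (g2 : Matrix (Fin b) (Fin b) F)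
      (Matrix.toLin' (x : Matrix ι ι F))) :
    ∃ g : GL ι F, (∀ u v, f ((g : Matrix ι ι F) *ᵥ u) ((g : Matrix ι ι F) *ᵥ v) = f u v) ∧
      g⁻¹ * x * g ∈ Cfsg.Geo.tensorProductSubgroup a b e P := by
  set θ : (ι → F) ≃ₗ[F] (ι → F) := coordEquiv e P ≪≫ₗ Ψ.symm with hθ
  have hθΨ : ∀ u, Ψ (θ u) = coordEquiv e P u := by
    intro u
    rw [hθ, LinearEquiv.trans_apply, LinearEquiv.apply_symm_apply]
  refine ⟨glOfEquiv θ, ?_, ?_⟩
  · intro u v
    rw [glOfEquiv_mulVec, glOfEquiv_mulVec, hΨf, hθΨ, hθΨ, ← hP, mulVec_coordEquiv,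
      mulVec_coordEquiv]
  · rw [mem_tensor_iff']
    refine ⟨kronGL g1 g2, ⟨g1, g2, rfl⟩, ?_⟩
    have hxG : x * glOfEquiv θ =
        glOfEquiv θ * (P * Cfsg.Geo.glReindex e.symm (kronGL g1 g2) * P⁻¹) := by
      apply Units.ext
      apply Matrix.toLin'.injective
      apply LinearMap.ext
      intro u
      rw [Units.val_mul, Units.val_mul, Matrix.toLin'_mul, Matrix.toLin'_mul,
        LinearMap.comp_apply, LinearMap.comp_apply, Matrix.toLin'_apply, Matrix.toLin'_apply,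
        Matrix.toLin'_apply, Matrix.toLin'_apply, glOfEquiv_mulVec, glOfEquiv_mulVec]
      apply Ψ.injective
      rw [hθΨ]
      have h1 := hΨ (θ u)
      rw [Matrix.toLin'_apply] at h1
      rw [h1, hθΨ, coordEquiv_apply, coordEquiv_apply, Units.val_mul, Units.val_mul,
        glReindex_coe']
      have h2 : ((P⁻¹ : GL ι F) : Matrix ι ι F) *ᵥ
          (((P : Matrix ι ι F) *
            ((kronGL g1 g2 : GL (Fin a × Fin b) F) : Matrix (Fin a × Fin b) (Fin a × Fin b) F).submatrix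
              e e * ((P⁻¹ : GL ι F) : Matrix ι ι F)) *ᵥ u) =
          (((kronGL g1 g2 : GL (Fin a × Fin b) F) :
            Matrix (Fin a × Fin b) (Fin a × Fin b) F).submatrix e e) *ᵥ
            (((P⁻¹ : GL ι F) : Matrix ι ι F) *ᵥ u) := by
        rw [Matrix.mulVec_mulVec, ← mul_assoc, ← mul_assoc, ← Units.val_mul, inv_mul_cancel,
          Units.val_one, one_mul, ← Matrix.mulVec_mulVec]
      rw [h2]
      have h3 := submatrix_mulVec_funCongr' e
        ((kronGL g1 g2 : GL (Fin a × Fin b) F) : Matrix (Fin a × Fin b) (Fin a × Fin b) F)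
        (((P⁻¹ : GL ι F) : Matrix ι ι F) *ᵥ u)
      exact h3.symm
    have : (glOfEquiv θ)⁻¹ * x * glOfEquiv θ = (glOfEquiv θ)⁻¹ * (x * glOfEquiv θ) := by group
    rw [this, hxG]
    group

end bridge

end Cfsg.Agent.Lib.Helper9.H9TK
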