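import Mathlib
import Cfsg.Agent.Lib.Helper9.TensS1
import Cfsg.Agent.Lib.Helper9.TensS7
import Cfsg.Agent.Lib.Helper9.GSpInv2

set_option autoImplicit false
open scoped MatrixGroups Kronecker

/-! Isometries of square `±1` of a symplectic space are conjugate into the stabiliser of a
tensor decomposition `Sp_2 ⊗ O_b`. -/

namespace Cfsg.Agent.Lib.Helper9.H9TK

open Module Matrix
open Cfsg.Agent.Lib.Helper9.H9AltForm
open Cfsg.Agent.Lib.Helper9.H9GSpInv

section ptlemmas
variable {F : Type*} [Field F] {a b : ℕ}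

theorem pt_dot_pt (u u' : Fin a → F) (v v' : Fin b → F) :
    pt u v ⬝ᵥ pt u' v' = (u ⬝ᵥ u') * (v ⬝ᵥ v') := by
  simp only [dotProduct, pt, Fintype.sum_prod_type, Finset.sum_mul_sum]
  refine Finset.sum_congr rfl fun i _ => Finset.sum_congr rfl fun j _ => ?_
  ring

theorem pt_smul_right (u : Fin a → F) (c : F) (v : Fin b → F) : pt u (c • v) = c • pt u v := by
  funext ij
  simp only [pt, Pi.smul_apply, smul_eq_mul]
  ring

theorem pt_neg_left (u : Fin a → F) (v : Fin b → F) : pt (-u) v = -pt u v := by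
  funext ij
  simp only [pt, Pi.neg_apply]
  ring

theorem toBilin_kron_pt (G₁ : Matrix (Fin a) (Fin a) F) (G₂ : Matrix (Fin b) (Fin b) F)
    (u u' : Fin a → F) (v v' : Fin b → F) :
    Matrix.toBilin' (G₁ ⊗ₖ G₂) (pt u v) (pt u' v') =
      Matrix.toBilin' G₁ u u' * Matrix.toBilin' G₂ v v' := by
  rw [Matrix.toBilin'_apply', kron_mulVec_pt, pt_dot_pt, ← Matrix.toBilin'_apply',
    ← Matrix.toBilin'_apply']

theorem toBilin_gram {n : ℕ} (f : (Fin n → F) → (Fin n → F) → F)
    (hf : Cfsg.Geo.IsBilinearForm f) (u v : Fin n → F) :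
    Matrix.toBilin' (Cfsg.Geo.gramMatrix f) u v = f u v := by
  have h : Cfsg.Geo.gramMatrix f = LinearMap.BilinForm.toMatrix' (bfOf f hf) := by
    ext i j
    rw [LinearMap.BilinForm.toMatrix'_apply]
    rfl
  rw [h, Matrix.toBilin'_toMatrix']
  rfl

/-- the tensor product form, as a bilinear form -/
noncomputable def tensForm (c : F) (f₁ : (Fin a → F) → (Fin a → F) → F)
    (f₂ : (Fin b → F) → (Fin b → F) → F) : LinearMap.BilinForm F (Fin a × Fin b → F) :=
  c • Matrix.toBilin' (Cfsg.Geo.gramMatrix f₁ ⊗ₖ Cfsg.Geo.gramMatrix f₂)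

theorem tensForm_apply (c : F) (f₁ : (Fin a → F) → (Fin a → F) → F)
    (f₂ : (Fin b → F) → (Fin b → F) → F) (w w' : Fin a × Fin b → F) :
    tensForm c f₁ f₂ w w' =
      c * Cfsg.Geo.formOfGram id (Cfsg.Geo.gramMatrix f₁ ⊗ₖ Cfsg.Geo.gramMatrix f₂) w w' := by
  unfold tensForm Cfsg.Geo.formOfGram
  rw [LinearMap.smul_apply, LinearMap.smul_apply, Matrix.toBilin'_apply, smul_eq_mul]
  rfl

theorem tensForm_pt (c : F) (f₁ : (Fin a → F) → (Fin a → F) → F)
    (f₂ : (Fin b → F) → (Fin b → F) → F) (hf₁ : Cfsg.Geo.IsBilinearForm f₁)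
    (hf₂ : Cfsg.Geo.IsBilinearForm f₂) (u u' : Fin a → F) (v v' : Fin b → F) :
    tensForm c f₁ f₂ (pt u v) (pt u' v') = c * (f₁ u u' * f₂ v v') := by
  unfold tensForm
  rw [LinearMap.smul_apply, LinearMap.smul_apply, toBilin_kron_pt, toBilin_gram f₁ hf₁,
    toBilin_gram f₂ hf₂, smul_eq_mul]

theorem exists_orth_basis (h2 : (2 : F) ≠ 0) (f₂ : (Fin b → F) → (Fin b → F) → F)
    (hf₂ : Cfsg.Geo.IsSymmetricForm f₂) :
    ∃ v : Basis (Fin b) F (Fin b → F), (∀ k l, k ≠ l → f₂ (v k) (v l) = 0) ∧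
      ∀ k, f₂ (v k) (v k) ≠ 0 := by
  have : Invertible (2 : F) := invertibleOfNonzero h2
  have hsymm : LinearMap.IsSymm (bfOf f₂ hf₂.bilinear) :=
    ⟨fun x y => by rw [RingHom.id_apply]; exact hf₂.symm x y⟩
  obtain ⟨v₀, hv₀⟩ := LinearMap.BilinForm.exists_orthogonal_basis hsymm
  have hsep : (bfOf f₂ hf₂.bilinear).SeparatingLeft := by
    intro x hx
    by_contra hne
    obtain ⟨-, y, hy⟩ := hf₂.nondegenerate x hne
    exact hy (hx y)
  have hfr : finrank F (Fin b → F) = b := Module.finrank_fin_fun F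
  refine ⟨v₀.reindex (finCongr hfr), ?_, ?_⟩
  · intro k l hkl
    rw [Basis.reindex_apply, Basis.reindex_apply]
    apply hv₀
    intro h
    exact hkl ((finCongr hfr).symm.injective h)
  · intro k
    rw [Basis.reindex_apply]
    exact hv₀.not_isOrtho_basis_self_of_separatingLeft hsep _

end ptlemmas

section final
variable {F : Type*} [Field F] [Fintype F]

theorem exists_sq_add_sq' (hodd : Fintype.card F % 2 = 1) (c : F) :
    ∃ x y : F, x ^ 2 + y ^ 2 = c := by
  classical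
  have hf : (Polynomial.X ^ 2 : Polynomial F).degree = 2 := Polynomial.degree_X_pow 2
  have hg : (Polynomial.X ^ 2 - Polynomial.C c : Polynomial F).degree = 2 :=
    Polynomial.degree_X_pow_sub_C (by norm_num) c
  obtain ⟨a, b, hab⟩ := FiniteField.exists_root_sum_quadratic hf hg hodd
  refine ⟨a, b, ?_⟩
  simp only [Polynomial.eval_pow, Polynomial.eval_X, Polynomial.eval_sub, Polynomial.eval_C] at hab
  linear_combination hab

/-- An isometry of square `±1` of a symplectic space is conjugate, by an isometry, into the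
stabiliser of a tensor decomposition `Sp_2 ⊗ O_b`. -/
theorem conj_mem_tensor_two {ι : Type} [Fintype ι] [DecidableEq ι] {b : ℕ} (hb : 0 < b)
    (hodd : Fintype.card F % 2 = 1) (h2 : (2 : F) ≠ 0) (e : ι ≃ Fin 2 × Fin b) (P x : GL ι F)
    (f : (ι → F) → (ι → F) → F) (Bf : LinearMap.BilinForm F (ι → F))
    (hBf : ∀ u v, Bf u v = f u v) (hBalt : Bf.IsAlt) (hBnd : ∀ u, (∀ v, Bf u v = 0) → u = 0)
    (f₁ : (Fin 2 → F) → (Fin 2 → F) → F) (f₂ : (Fin b → F) → (Fin b → F) → F)
    (hf₁ : Cfsg.Geo.IsSymplecticForm f₁) (hf₂ : Cfsg.Geo.IsSymmetricForm f₂)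
    (hS : Cfsg.Geo.IsTensorFormStructure id f f₁ f₂ e P)
    (hx : ∀ u v, f ((x : Matrix ι ι F) *ᵥ u) ((x : Matrix ι ι F) *ᵥ v) = f u v)
    (z : F) (hz : ((x ^ 2 : GL ι F) : Matrix ι ι F) = z • 1) :
    ∃ g : GL ι F, (∀ u v, f ((g : Matrix ι ι F) *ᵥ u) ((g : Matrix ι ι F) *ᵥ v) = f u v) ∧
      g⁻¹ * x * g ∈ Cfsg.Geo.tensorProductSubgroup 2 b e P := by
  classical
  obtain ⟨c, hc0, hP⟩ := hS
  set t := Matrix.toLin' (x : Matrix ι ι F) with htdef
  have ht : ∀ u v, Bf (t u) (t v) = Bf u v := by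
    intro u v
    rw [hBf, hBf, htdef, Matrix.toLin'_apply, Matrix.toLin'_apply, hx]
  have ht2 : ∀ v, t (t v) = z • v := by
    intro v
    rw [htdef, Matrix.toLin'_apply, Matrix.toLin'_apply, Matrix.mulVec_mulVec, ← pow_two,
      ← Units.val_pow_eq_pow_val, hz, Matrix.smul_mulVec, Matrix.one_mulVec]
  have hcard : Fintype.card ι = 2 * b := by
    rw [Fintype.card_congr e, Fintype.card_prod, Fintype.card_fin, Fintype.card_fin]
  have hV : finrank F (ι → F) = 2 * b := by rw [Module.finrank_pi, hcard]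
  have hW : finrank F (Fin 2 × Fin b → F) = 2 * b := by
    rw [Module.finrank_pi, Fintype.card_prod, Fintype.card_fin, Fintype.card_fin]
  -- `z = ±1`
  have hzz : z * z = 1 := by
    obtain ⟨u₀, hu₀⟩ : ∃ u₀ : ι → F, u₀ ≠ 0 := by
      refine ⟨fun _ => 1, ?_⟩
      intro h
      have := congrFun h (e.symm (0, ⟨0, hb⟩))
      exact one_ne_zero this
    obtain ⟨v₀, hv₀⟩ : ∃ v₀, Bf u₀ v₀ ≠ 0 := by
      by_contra hcon
      push Not at hcon
      exact hu₀ (hBnd u₀ hcon)
    have h1 := ht (t u₀) (t v₀)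
    simp only [ht2, map_smul, LinearMap.smul_apply, smul_eq_mul] at h1
    rw [ht, ← mul_assoc] at h1
    have h3 : (z * z - 1) * Bf u₀ v₀ = 0 := by linear_combination h1
    rcases mul_eq_zero.mp h3 with h4 | h4
    · linear_combination h4
    · exact absurd h4 hv₀
  -- the model side
  set a₀ : Fin 2 → F := Pi.single 0 1 with ha₀
  set a₁ : Fin 2 → F := Pi.single 1 1 with ha₁
  have hγ : f₁ a₀ a₁ ≠ 0 := by
    intro h0
    have ha₀0 : a₀ ≠ 0 := by
      intro h
      have := congrFun h 0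
      simp [ha₀] at this
    obtain ⟨-, y, hy⟩ := hf₁.nondegenerate a₀ ha₀0
    apply hy
    have hy' : y = y 0 • a₀ + y 1 • a₁ := by
      funext i
      fin_cases i <;> simp [ha₀, ha₁]
    rw [hy', hf₁.bilinear.add_right, hf₁.bilinear.smul_right, hf₁.bilinear.smul_right,
      hf₁.alternating, h0, mul_zero, mul_zero, add_zero]
  obtain ⟨vb, hvb, hδ⟩ := exists_orth_basis h2 f₂ hf₂
  set B' := tensForm c f₁ f₂ with hB'
  have hB'f : ∀ w w' : Fin 2 × Fin b → F,
      f ((P : Matrix ι ι F) *ᵥ (w ∘ e)) ((P : Matrix ι ι F) *ᵥ (w' ∘ e)) = B' w w' := by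
    intro w w'
    rw [hB', tensForm_apply]
    exact hP w w'
  have hB'alt : B'.IsAlt := by
    intro w
    rw [← hB'f, ← hBf]
    exact hBalt _
  set lam : Fin b → F := fun k => (c * f₁ a₀ a₁ * f₂ (vb k) (vb k))⁻¹ with hlam
  have hlam0 : ∀ k, c * f₁ a₀ a₁ * f₂ (vb k) (vb k) ≠ 0 :=
    fun k => mul_ne_zero (mul_ne_zero hc0 hγ) (hδ k)
  set w : Fin b → (Fin 2 × Fin b → F) := fun k => pt a₀ (vb k) with hw
  set w' : Fin b → (Fin 2 × Fin b → F) := fun k => lam k • pt a₁ (vb k) with hw'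
  have hfam : AltFam B' w w' := by
    constructor
    · intro i j
      rw [hw, hB']
      simp only
      rw [tensForm_pt c f₁ f₂ hf₁.bilinear hf₂.bilinear, hf₁.alternating, zero_mul, mul_zero]
    · intro i j
      rw [hw', hB']
      simp only
      rw [map_smul, map_smul, LinearMap.smul_apply,
        tensForm_pt c f₁ f₂ hf₁.bilinear hf₂.bilinear, hf₁.alternating, zero_mul, mul_zero,
        smul_zero, smul_zero]
    · intro i j
      rw [hw, hw', hB']
      simp only
      rw [map_smul, tensForm_pt c f₁ f₂ hf₁.bilinear hf₂.bilinear, smul_eq_mul]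
      by_cases hij : i = j
      · subst hij
        rw [if_pos rfl, hlam]
        simp only
        rw [← mul_assoc c, inv_mul_cancel₀ (hlam0 i)]
      · rw [if_neg hij, hvb i j hij, mul_zero, mul_zero, mul_zero]
  -- the common last step
  have finish : ∀ (e' f' : Fin b → (ι → F)) (α β γ δ : Fin b → F) (g1 : GL (Fin 2) F)
      (g2 : GL (Fin b) F), AltFam Bf e' f' →
      (∀ k, t (e' k) = α k • e' k + β k • f' k) → (∀ k, t (f' k) = γ k • e' k + δ k • f' k) →
      (∀ k, ((g1 : Matrix (Fin 2) (Fin 2) F) ⊗ₖ (g2 : Matrix (Fin b) (Fin b) F)) *ᵥ w k =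
        α k • w k + β k • w' k) →
      (∀ k, ((g1 : Matrix (Fin 2) (Fin 2) F) ⊗ₖ (g2 : Matrix (Fin b) (Fin b) F)) *ᵥ w' k =
        γ k • w k + δ k • w' k) →
      ∃ g : GL ι F, (∀ u v, f ((g : Matrix ι ι F) *ᵥ u) ((g : Matrix ι ι F) *ᵥ v) = f u v) ∧
        g⁻¹ * x * g ∈ Cfsg.Geo.tensorProductSubgroup 2 b e P := by
    intro e' f' α β γ δ g1 g2 hfamV hte htf hKw hKw'
    obtain ⟨Ψ, hΨiso, hΨt⟩ := exists_glue hBalt hB'alt hV hW hfamV hfam t
      (Matrix.toLin' ((g1 : Matrix (Fin 2) (Fin 2) F) ⊗ₖ (g2 : Matrix (Fin b) (Fin b) F)))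
      α β γ δ hte htf
      (fun k => by rw [Matrix.toLin'_apply]; exact hKw k)
      (fun k => by rw [Matrix.toLin'_apply]; exact hKw' k)
    refine conj_mem_of_isometry e P x f (fun w₁ w₂ => B' w₁ w₂) hB'f Ψ ?_ g1 g2 ?_
    · intro u v
      rw [← hBf]
      exact hΨiso u v
    · intro v
      rw [hΨt v, Matrix.toLin'_apply]
  rcases mul_self_eq_one_iff.mp hzz with hz1 | hz1
  · -- `x ^ 2 = 1`
    have ht2' : ∀ v, t (t v) = v := fun v => by rw [ht2, hz1, one_smul]
    obtain ⟨e', f', s, hfamV, hse, hsf⟩ :=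
      exists_eigen_altFam hBalt hBnd h2 t ht ht2' b (by rw [hV])
    have hss : ∀ k, s k * s k = 1 := by
      intro k
      have h1 := ht2' (e' k)
      rw [hse, map_smul, hse, smul_smul] at h1
      have hne : e' k ≠ 0 := by
        intro h0
        have := hfamV.ef k k
        rw [h0, map_zero, LinearMap.zero_apply, if_pos rfl] at this
        exact zero_ne_one this
      have h3 : (s k * s k - 1) • e' k = 0 := by rw [sub_smul, one_smul, h1, sub_self]
      rcases smul_eq_zero.mp h3 with h4 | h4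
      · exact sub_eq_zero.mp h4
      · exact absurd h4 hne
    -- the orthogonal involution
    set hmap : (Fin b → F) →ₗ[F] (Fin b → F) := vb.constr F (fun k => s k • vb k) with hhmap
    have hmapv : ∀ k, hmap (vb k) = s k • vb k := fun k => by rw [hhmap, Basis.constr_basis]
    have hhh : hmap ∘ₗ hmap = LinearMap.id := by
      apply vb.ext
      intro k
      rw [LinearMap.comp_apply, hmapv, map_smul, hmapv, smul_smul, hss, one_smul,
        LinearMap.id_apply]
    set θ : (Fin b → F) ≃ₗ[F] (Fin b → F) := LinearEquiv.ofLinearMap hmap hmap hhh hhh with hθ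
    have hg2 : ∀ u, ((glOfEquiv θ : GL (Fin b) F) : Matrix (Fin b) (Fin b) F) *ᵥ u = hmap u :=
      fun u => glOfEquiv_mulVec θ u
    refine finish e' f' s (fun _ => 0) (fun _ => 0) s 1 (glOfEquiv θ) hfamV ?_ ?_ ?_ ?_
    · intro k
      rw [hse, zero_smul, add_zero]
    · intro k
      rw [hsf, zero_smul, zero_add]
    · intro k
      rw [hw]
      simp only
      rw [kron_mulVec_pt, Units.val_one, Matrix.one_mulVec, hg2, hmapv, pt_smul_right,
        zero_smul, add_zero]
    · intro k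
      rw [hw, hw']
      simp only
      rw [Matrix.mulVec_smul, kron_mulVec_pt, Units.val_one, Matrix.one_mulVec, hg2, hmapv,
        pt_smul_right, zero_smul, zero_add, smul_comm]
  · -- `x ^ 2 = -1`
    have ht2' : ∀ v, t (t v) = -v := fun v => by rw [ht2, hz1, neg_one_smul]
    set T : ℕ → F := fun j =>
      if hj : j < b then c * f₁ a₀ a₁ * f₂ (vb ⟨j, hj⟩) (vb ⟨j, hj⟩) else 1 with hT
    have hTk : ∀ k : Fin b, T k.val = c * f₁ a₀ a₁ * f₂ (vb k) (vb k) := by
      intro k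
      rw [hT]
      simp only
      rw [dif_pos k.2]
    have hT0 : ∀ j, T j ≠ 0 := by
      intro j
      rw [hT]
      simp only
      by_cases hj : j < b
      · rw [dif_pos hj]
        exact hlam0 ⟨j, hj⟩
      · rw [dif_neg hj]
        exact one_ne_zero
    obtain ⟨e', f', hfamV, hte⟩ := exists_rot_altFam hBalt hBnd h2 (exists_sq_add_sq' hodd) t ht
      ht2' T hT0 b (by rw [hV])
    have htf : ∀ k, t (f' k) = -(T k.val)⁻¹ • e' k := by
      intro k
      have h1 : T k.val • t (f' k) = -(e' k) := by rw [← map_smul, ← hte, ht2']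
      rw [neg_smul, ← smul_neg, ← h1, smul_smul, inv_mul_cancel₀ (hT0 _), one_smul]
    -- the rotation
    have hdet : (!![0, -1; 1, 0] : Matrix (Fin 2) (Fin 2) F).det ≠ 0 := by
      rw [Matrix.det_fin_two_of]
      norm_num
    set g1 : GL (Fin 2) F := Matrix.GeneralLinearGroup.mkOfDetNeZero !![0, -1; 1, 0] hdet
      with hg1
    have hg1a₀ : (g1 : Matrix (Fin 2) (Fin 2) F) *ᵥ a₀ = a₁ := by
      show (!![0, -1; 1, 0] : Matrix (Fin 2) (Fin 2) F) *ᵥ a₀ = a₁
      rw [ha₀, Matrix.mulVec_single_one, ha₁]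
      funext i
      fin_cases i <;> simp
    have hg1a₁ : (g1 : Matrix (Fin 2) (Fin 2) F) *ᵥ a₁ = -a₀ := by
      show (!![0, -1; 1, 0] : Matrix (Fin 2) (Fin 2) F) *ᵥ a₁ = -a₀
      rw [ha₁, Matrix.mulVec_single_one, ha₀]
      funext i
      fin_cases i <;> simp
    have hlamT : ∀ k, lam k = (T k.val)⁻¹ := by
      intro k
      rw [hTk]
    refine finish e' f' (fun _ => 0) (fun k => T k.val) (fun k => -(T k.val)⁻¹) (fun _ => 0)
      g1 1 hfamV ?_ ?_ ?_ ?_
    · intro k
      rw [hte, zero_smul, zero_add]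
    · intro k
      rw [htf, zero_smul, add_zero]
    · intro k
      rw [hw, hw']
      simp only
      rw [kron_mulVec_pt, Units.val_one, Matrix.one_mulVec, hg1a₀, zero_smul, zero_add,
        hlamT, smul_smul, mul_inv_cancel₀ (hT0 _), one_smul]
    · intro k
      rw [hw, hw']
      simp only
      rw [Matrix.mulVec_smul, kron_mulVec_pt, Units.val_one, Matrix.one_mulVec, hg1a₁,
        pt_neg_left, zero_smul, add_zero, hlamT, smul_neg, neg_smul]

end final

end Cfsg.Agent.Lib.Helper9.H9TK
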