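import Mathlib
import Cfsg.Prelude
import Cfsg.Agent.Lib.Helper2.SpIsom
import Cfsg.Agent.Lib.Helper9.TensS8

set_option autoImplicit false

/-! S5976 PK-H1 / PK-H2: conjugacy in `Sp` of elements of square `±1`. -/

namespace Cfsg.Agent.Lib.Helper3.GUSp

open Module Matrix Polynomial
open Cfsg.Agent.Lib.Helper9.H9AltForm Cfsg.Agent.Lib.Helper9.H9TK Cfsg.Agent.Lib.Helper2.SpIsom

/-- the standard hyperbolic family of `sympForm` -/
theorem pkH_std {F : Type*} [Field F] (d : ℕ) :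
    AltFam (sympBilin d F) (fun k : Fin d => (Pi.single (Sum.inr k) 1 : Fin d ⊕ Fin d → F))
      (fun k : Fin d => (Pi.single (Sum.inl k) 1 : Fin d ⊕ Fin d → F)) := by
  constructor
  · intro i j
    rw [sympBilin_apply, Cfsg.Agent.Lib.Helper2.Symp.sympForm_single_inr, Pi.single_apply,
      if_neg (by simp), neg_zero]
  · intro i j
    rw [sympBilin_apply, Cfsg.Agent.Lib.Helper2.Symp.sympForm_single_inl, Pi.single_apply,
      if_neg (by simp)]
  · intro i j
    rw [sympBilin_apply, Cfsg.Agent.Lib.Helper2.Symp.sympForm_single_inl, Pi.single_apply]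
    by_cases hij : i = j
    · rw [if_pos hij, if_pos (by rw [hij])]
    · rw [if_neg hij, if_neg (by simpa using Ne.symm hij)]

theorem pkH_finrank {F : Type*} [Field F] (d : ℕ) : finrank F (Fin d ⊕ Fin d → F) = 2 * d := by
  rw [Module.finrank_fintype_fun_eq_card, Fintype.card_sum, Fintype.card_fin]
  ring

/-- gluing two hyperbolic families with matching actions: matrix version -/
theorem pkH_glue {F : Type*} [Field F] (d : ℕ)
    (X D : Matrix (Fin d ⊕ Fin d) (Fin d ⊕ Fin d) F)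
    {e f e' f' : Fin d → (Fin d ⊕ Fin d → F)} (h : AltFam (sympBilin d F) e f)
    (h' : AltFam (sympBilin d F) e' f') (α β γ δ : Fin d → F)
    (hDe : ∀ k, D *ᵥ e k = α k • e k + β k • f k) (hDf : ∀ k, D *ᵥ f k = γ k • e k + δ k • f k)
    (hXe : ∀ k, X *ᵥ e' k = α k • e' k + β k • f' k)
    (hXf : ∀ k, X *ᵥ f' k = γ k • e' k + δ k • f' k) :
    ∃ P ∈ Cfsg.spGL d F, X * (P : Matrix (Fin d ⊕ Fin d) (Fin d ⊕ Fin d) F) =
      (P : Matrix (Fin d ⊕ Fin d) (Fin d ⊕ Fin d) F) * D := by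
  obtain ⟨Ψ, hΨiso, hΨt⟩ := exists_glue (sympBilin_isAlt (m := d) (F := F))
    (sympBilin_isAlt (m := d) (F := F)) (pkH_finrank d) (pkH_finrank d) h h'
    (Matrix.toLin' D) (Matrix.toLin' X) α β γ δ
    (fun k => by rw [Matrix.toLin'_apply]; exact hDe k)
    (fun k => by rw [Matrix.toLin'_apply]; exact hDf k)
    (fun k => by rw [Matrix.toLin'_apply]; exact hXe k)
    (fun k => by rw [Matrix.toLin'_apply]; exact hXf k)
  refine ⟨glOfEquiv Ψ, ?_, ?_⟩
  · show ∀ u v, Cfsg.sympForm d F _ _ = Cfsg.sympForm d F u v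
    intro u v
    have h1 := hΨiso u v
    rw [sympBilin_apply, sympBilin_apply] at h1
    rw [h1]
    congr 1
    · exact glOfEquiv_mulVec Ψ u
    · exact glOfEquiv_mulVec Ψ v
  · apply Matrix.toLin'.injective
    apply LinearMap.ext
    intro v
    rw [Matrix.toLin'_apply, Matrix.toLin'_apply, ← Matrix.mulVec_mulVec, ← Matrix.mulVec_mulVec,
      glOfEquiv_mulVec, glOfEquiv_mulVec]
    have h1 := hΨt v
    rw [Matrix.toLin'_apply, Matrix.toLin'_apply] at h1
    exact h1.symm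

/-! ### PK-H1 -/
theorem conj_diag_of_sq_one {F : Type*} [Field F] (h2 : (2 : F) ≠ 0) (d : ℕ)
    (x : GL (Fin d ⊕ Fin d) F) (hx : x ∈ Cfsg.spGL d F)
    (hx2 : (x : Matrix (Fin d ⊕ Fin d) (Fin d ⊕ Fin d) F) *
      (x : Matrix (Fin d ⊕ Fin d) (Fin d ⊕ Fin d) F) = 1) :
    ∃ P ∈ Cfsg.spGL d F, ∃ s : Fin d → F,
      (x : Matrix (Fin d ⊕ Fin d) (Fin d ⊕ Fin d) F) *
        (P : Matrix (Fin d ⊕ Fin d) (Fin d ⊕ Fin d) F) =
      (P : Matrix (Fin d ⊕ Fin d) (Fin d ⊕ Fin d) F) *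
        Matrix.fromBlocks (Matrix.diagonal s) 0 0 (Matrix.diagonal s) := by
  classical
  set t := Matrix.toLin' (x : Matrix (Fin d ⊕ Fin d) (Fin d ⊕ Fin d) F) with htdef
  have ht : ∀ u v, sympBilin d F (t u) (t v) = sympBilin d F u v := by
    intro u v
    rw [sympBilin_apply, sympBilin_apply, htdef, Matrix.toLin'_apply, Matrix.toLin'_apply]
    exact hx u v
  have ht2 : ∀ v, t (t v) = v := by
    intro v
    rw [htdef, Matrix.toLin'_apply, Matrix.toLin'_apply, Matrix.mulVec_mulVec, hx2,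
      Matrix.one_mulVec]
  have hnd : ∀ u, (∀ v, sympBilin d F u v = 0) → u = 0 := by
    intro u hu
    apply sympForm_nondeg u
    intro y
    rw [← sympBilin_apply]
    exact hu y
  obtain ⟨e', f', s, hfam, hse, hsf⟩ :=
    exists_eigen_altFam (sympBilin_isAlt (m := d) (F := F)) hnd h2 t ht ht2 d
      (by rw [pkH_finrank])
  have hDe : ∀ k : Fin d, Matrix.fromBlocks (Matrix.diagonal s) 0 0 (Matrix.diagonal s) *ᵥ
      (Pi.single (Sum.inr k) 1 : Fin d ⊕ Fin d → F) =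
      s k • (Pi.single (Sum.inr k) 1 : Fin d ⊕ Fin d → F) +
        (0 : F) • (Pi.single (Sum.inl k) 1 : Fin d ⊕ Fin d → F) := by
    intro k
    rw [zero_smul, add_zero, Matrix.mulVec_single_one]
    funext i
    rcases i with i | i
    · simp [Matrix.fromBlocks]
    · simp only [Matrix.col_apply, Matrix.fromBlocks_apply₂₂, Pi.smul_apply, smul_eq_mul,
        Matrix.diagonal_apply, Pi.single_apply, Sum.inr.injEq]
      by_cases hik : i = k
      · subst hik
        simp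
      · simp [hik]
  have hDf : ∀ k : Fin d, Matrix.fromBlocks (Matrix.diagonal s) 0 0 (Matrix.diagonal s) *ᵥ
      (Pi.single (Sum.inl k) 1 : Fin d ⊕ Fin d → F) =
      (0 : F) • (Pi.single (Sum.inr k) 1 : Fin d ⊕ Fin d → F) +
        s k • (Pi.single (Sum.inl k) 1 : Fin d ⊕ Fin d → F) := by
    intro k
    rw [zero_smul, zero_add, Matrix.mulVec_single_one]
    funext i
    rcases i with i | i
    · simp only [Matrix.col_apply, Matrix.fromBlocks_apply₁₁, Pi.smul_apply, smul_eq_mul,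
        Matrix.diagonal_apply, Pi.single_apply, Sum.inl.injEq]
      by_cases hik : i = k
      · subst hik
        simp
      · simp [hik]
    · simp [Matrix.fromBlocks]
  have hXe : ∀ k, (x : Matrix (Fin d ⊕ Fin d) (Fin d ⊕ Fin d) F) *ᵥ e' k =
      s k • e' k + (0 : F) • f' k := by
    intro k
    rw [zero_smul, add_zero, ← Matrix.toLin'_apply]
    exact hse k
  have hXf : ∀ k, (x : Matrix (Fin d ⊕ Fin d) (Fin d ⊕ Fin d) F) *ᵥ f' k =
      (0 : F) • e' k + s k • f' k := by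
    intro k
    rw [zero_smul, zero_add, ← Matrix.toLin'_apply]
    exact hsf k
  obtain ⟨P, hP, hPx⟩ := pkH_glue d (x : Matrix (Fin d ⊕ Fin d) (Fin d ⊕ Fin d) F)
    (Matrix.fromBlocks (Matrix.diagonal s) 0 0 (Matrix.diagonal s)) (pkH_std d) hfam
    s (fun _ => 0) (fun _ => 0) s hDe hDf hXe hXf
  exact ⟨P, hP, s, hPx⟩

theorem pkH_two_ne_zero {F : Type*} [Field F] [Fintype F] (hodd : Fintype.card F % 2 = 1) :
    (2 : F) ≠ 0 := by
  intro h
  have h1 : ringChar F = 2 := by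
    have h3 : ringChar F ∣ 2 := by
      apply ringChar.dvd
      exact_mod_cast h
    rcases (Nat.dvd_prime Nat.prime_two).1 h3 with h1 | h1
    · exact absurd h1 (CharP.ringChar_ne_one (R := F))
    · exact h1
  have h3 := FiniteField.even_card_of_char_two h1
  omega

/-! ### PK-H2 -/
theorem conj_of_sq_neg_one {F : Type*} [Field F] [Fintype F] (hodd : Fintype.card F % 2 = 1)
    (d : ℕ) (x x' : GL (Fin d ⊕ Fin d) F) (hx : x ∈ Cfsg.spGL d F) (hx' : x' ∈ Cfsg.spGL d F)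
    (hx2 : (x : Matrix (Fin d ⊕ Fin d) (Fin d ⊕ Fin d) F) *
      (x : Matrix (Fin d ⊕ Fin d) (Fin d ⊕ Fin d) F) = -1)
    (hx'2 : (x' : Matrix (Fin d ⊕ Fin d) (Fin d ⊕ Fin d) F) *
      (x' : Matrix (Fin d ⊕ Fin d) (Fin d ⊕ Fin d) F) = -1) :
    ∃ P ∈ Cfsg.spGL d F, x * P = P * x' := by
  classical
  have h2 : (2 : F) ≠ 0 := pkH_two_ne_zero hodd
  have hnd : ∀ u, (∀ v, sympBilin d F u v = 0) → u = 0 := by
    intro u hu
    apply sympForm_nondeg u
    intro y
    rw [← sympBilin_apply]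
    exact hu y
  -- a rotation family for every element of square `-1`
  have key : ∀ y : GL (Fin d ⊕ Fin d) F, y ∈ Cfsg.spGL d F →
      (y : Matrix (Fin d ⊕ Fin d) (Fin d ⊕ Fin d) F) *
        (y : Matrix (Fin d ⊕ Fin d) (Fin d ⊕ Fin d) F) = -1 →
      ∃ e f : Fin d → (Fin d ⊕ Fin d → F), AltFam (sympBilin d F) e f ∧
        (∀ k, (y : Matrix (Fin d ⊕ Fin d) (Fin d ⊕ Fin d) F) *ᵥ e k =
          (0 : F) • e k + (1 : F) • f k) ∧
        (∀ k, (y : Matrix (Fin d ⊕ Fin d) (Fin d ⊕ Fin d) F) *ᵥ f k =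
          (-1 : F) • e k + (0 : F) • f k) := by
    intro y hy hy2
    set t := Matrix.toLin' (y : Matrix (Fin d ⊕ Fin d) (Fin d ⊕ Fin d) F) with htdef
    have ht : ∀ u v, sympBilin d F (t u) (t v) = sympBilin d F u v := by
      intro u v
      rw [sympBilin_apply, sympBilin_apply, htdef, Matrix.toLin'_apply, Matrix.toLin'_apply]
      exact hy u v
    have ht2 : ∀ v, t (t v) = -v := by
      intro v
      rw [htdef, Matrix.toLin'_apply, Matrix.toLin'_apply, Matrix.mulVec_mulVec, hy2,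
        Matrix.neg_mulVec, Matrix.one_mulVec]
    obtain ⟨e, f, hfam, hte⟩ := exists_rot_altFam (sympBilin_isAlt (m := d) (F := F)) hnd h2
      (exists_sq_add_sq' hodd) t ht ht2 (fun _ => 1) (fun _ => one_ne_zero) d
      (by rw [pkH_finrank])
    refine ⟨e, f, hfam, ?_, ?_⟩
    · intro k
      rw [← Matrix.toLin'_apply, ← htdef, hte, zero_smul, zero_add]
    · intro k
      have h1 := ht2 (e k)
      rw [hte, one_smul] at h1
      rw [← Matrix.toLin'_apply, ← htdef, h1, zero_smul, add_zero, neg_smul, one_smul]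
  obtain ⟨e, f, hfam, hxe, hxf⟩ := key x hx hx2
  obtain ⟨e', f', hfam', hxe', hxf'⟩ := key x' hx' hx'2
  obtain ⟨P, hP, hPx⟩ := pkH_glue d (x : Matrix (Fin d ⊕ Fin d) (Fin d ⊕ Fin d) F)
    (x' : Matrix (Fin d ⊕ Fin d) (Fin d ⊕ Fin d) F) hfam' hfam
    (fun _ => 0) (fun _ => 1) (fun _ => -1) (fun _ => 0) hxe' hxf' hxe hxf
  refine ⟨P, hP, ?_⟩
  apply Units.ext
  rw [Units.val_mul, Units.val_mul]
  exact hPx

end Cfsg.Agent.Lib.Helper3.GUSp
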