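import Mathlib
import Cfsg.Prelude
import Cfsg.Agent.Lib.Helper3.GUSp0
import Cfsg.Agent.Lib.Helper9.GUSp_H

set_option autoImplicit false

/-! S5976 PK-G: a skew generator `Jm` (`Jm² = ε` a nonsquare) of a quadratic field subalgebra is
`Sp`-conjugate to the standard `J₀ = [[0, ε], [1, 0]]`. -/

namespace Cfsg.Agent.Lib.Helper3.GUSp

open Module Matrix Polynomial
open Cfsg.Agent.Lib.Helper9.H9AltForm Cfsg.Agent.Lib.Helper9.H9TK Cfsg.Agent.Lib.Helper2.SpIsom

section abstract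
variable {F : Type*} [Field F] {V : Type*} [AddCommGroup V] [Module F V] [FiniteDimensional F V]
  {B : LinearMap.BilinForm F V}

theorem pkG_extend (hB : B.IsAlt) (hnd : ∀ x, (∀ y, B x y = 0) → x = 0) (h2 : (2 : F) ≠ 0)
    (S : V →ₗ[F] V) (ε : F) (hε : ε ≠ 0) (hS2 : ∀ v, S (S v) = ε • v)
    (hskew : ∀ u v, B (S u) v = -B u (S v))
    (hnorm : ∀ c : F, ∃ α β : F, α ^ 2 - ε * β ^ 2 = c)
    {k : ℕ} {e f : Fin k → V} (h : AltFam B e f) (he : ∀ j, S (f j) = e j)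
    (hk : 2 * k < finrank F V) :
    ∃ (u v : V), AltFam B (Fin.snoc (α := fun _ => V) e u) (Fin.snoc (α := fun _ => V) f v) ∧
      S v = u := by
  have hSe : ∀ j, S (e j) = ε • f j := fun j => by rw [← he, hS2]
  have hskew' : ∀ u v, B u (S v) = -B (S u) v := fun u v => by rw [hskew, neg_neg]
  have hinv : ∀ x ∈ famPerp B e f, S x ∈ famPerp B e f := by
    intro x hx j
    constructor
    · rw [hskew', hSe, map_smul, LinearMap.smul_apply, (hx j).2, smul_zero, neg_zero]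
    · rw [hskew', he, (hx j).1, neg_zero]
  have hsym : ∀ u v, B (S u) v = B (S v) u := by
    intro u v
    rw [hskew, alt_swap hB u (S v), neg_neg]
  obtain ⟨x₀, hx₀, hx₀0⟩ := famPerp_ne_bot (B := B) e f hk
  have hSx₀ : S x₀ ≠ 0 := by
    intro h0
    have h1 := hS2 x₀
    rw [h0, map_zero] at h1
    rcases smul_eq_zero.1 h1.symm with h3 | h3
    · exact hε h3
    · exact hx₀0 h3
  obtain ⟨y, hy⟩ : ∃ y, B (S x₀) y ≠ 0 := by
    by_contra hcon
    push Not at hcon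
    exact hSx₀ (hnd _ hcon)
  obtain ⟨y', hy'mem, hy'⟩ := exists_proj hB h y
  have hxy' : B (S x₀) y' ≠ 0 := by
    rw [hy' _ (hinv x₀ hx₀)]
    exact hy
  obtain ⟨u₁, hu₁, hσ⟩ : ∃ u₁ ∈ famPerp B e f, B (S u₁) u₁ ≠ 0 := by
    by_contra hall
    push Not at hall
    have h1 := hall x₀ hx₀
    have h3 := hall y' hy'mem
    have h4 := hall (x₀ + y') (Submodule.add_mem _ hx₀ hy'mem)
    simp only [map_add, LinearMap.add_apply] at h4
    rw [h1, h3, hsym y' x₀] at h4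
    apply hxy'
    have h5 : (2 : F) * B (S x₀) y' = 0 := by linear_combination h4
    exact (mul_eq_zero.mp h5).resolve_left h2
  obtain ⟨α, β, hαβ⟩ := hnorm (B (S u₁) u₁)⁻¹
  have humem : α • u₁ + β • S u₁ ∈ famPerp B e f :=
    Submodule.add_mem _ (Submodule.smul_mem _ _ hu₁) (Submodule.smul_mem _ _ (hinv u₁ hu₁))
  have hSu : S (α • u₁ + β • S u₁) = α • S u₁ + (β * ε) • u₁ := by
    rw [map_add, map_smul, map_smul, hS2, smul_smul]
  have hBu : B (S (α • u₁ + β • S u₁)) (α • u₁ + β • S u₁) = 1 := by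
    rw [hSu]
    simp only [map_add, map_smul, LinearMap.add_apply, LinearMap.smul_apply, smul_eq_mul]
    rw [hB u₁, hB (S u₁), hskew' u₁ u₁]
    have h3 : (α ^ 2 - ε * β ^ 2) * B (S u₁) u₁ = 1 := by rw [hαβ, inv_mul_cancel₀ hσ]
    linear_combination h3
  exact ⟨S (α • u₁ + β • S u₁), α • u₁ + β • S u₁,
    AltFam.snoc' hB h (hinv _ humem) humem hBu, rfl⟩

theorem pkG_exists_altFam (hB : B.IsAlt) (hnd : ∀ x, (∀ y, B x y = 0) → x = 0) (h2 : (2 : F) ≠ 0)
    (S : V →ₗ[F] V) (ε : F) (hε : ε ≠ 0) (hS2 : ∀ v, S (S v) = ε • v)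
    (hskew : ∀ u v, B (S u) v = -B u (S v))
    (hnorm : ∀ c : F, ∃ α β : F, α ^ 2 - ε * β ^ 2 = c) (k : ℕ) (hk : 2 * k ≤ finrank F V) :
    ∃ (e f : Fin k → V), AltFam B e f ∧ ∀ j, S (f j) = e j := by
  induction k with
  | zero =>
    exact ⟨Fin.elim0, Fin.elim0,
      ⟨fun i => i.elim0, fun i => i.elim0, fun i => i.elim0⟩, fun j => j.elim0⟩
  | succ k ih =>
    obtain ⟨e, f, h, he⟩ := ih (by omega)
    obtain ⟨u, v, huv, hSv⟩ := pkG_extend hB hnd h2 S ε hε hS2 hskew hnorm h he (by omega)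
    refine ⟨_, _, huv, ?_⟩
    intro j
    refine Fin.lastCases ?_ (fun j' => ?_) j
    · simp only [Fin.snoc_last]
      exact hSv
    · simp only [Fin.snoc_castSucc]
      exact he j'

end abstract

theorem pkG_norm_surj {F : Type*} [Field F] [Fintype F] (h2 : (2 : F) ≠ 0) (ε : F) (hε : ε ≠ 0)
    (c : F) : ∃ α β : F, α ^ 2 - ε * β ^ 2 = c := by
  classical
  have hodd : Fintype.card F % 2 = 1 := by
    apply FiniteField.odd_card_of_char_ne_two
    intro hc
    apply h2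
    have h3 := CharP.cast_eq_zero F (ringChar F)
    rw [hc] at h3
    exact_mod_cast h3
  have hf : (Polynomial.X ^ 2 : Polynomial F).degree = 2 := Polynomial.degree_X_pow 2
  have hg : (Polynomial.C (-ε) * Polynomial.X ^ 2 + Polynomial.C 0 * Polynomial.X +
      Polynomial.C (-c) : Polynomial F).degree = 2 :=
    Polynomial.degree_quadratic (neg_ne_zero.2 hε)
  obtain ⟨a, b, hab⟩ := FiniteField.exists_root_sum_quadratic hf hg hodd
  refine ⟨a, b, ?_⟩
  simp only [Polynomial.eval_pow, Polynomial.eval_X, Polynomial.eval_add, Polynomial.eval_mul,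
    Polynomial.eval_C] at hab
  linear_combination hab

/-! ### PK-G -/
theorem exists_std_form {F : Type*} [Field F] [Fintype F] (h2 : (2 : F) ≠ 0) (d : ℕ)
    (K : Subalgebra F (Matrix (Fin d ⊕ Fin d) (Fin d ⊕ Fin d) F))
    (hK : Cfsg.Geo.IsFieldSubalgebra 2 K)
    (hKf : Cfsg.Geo.IsAdjointClosedFor (Cfsg.sympForm d F) K)
    (hKns : ¬ Cfsg.Geo.IsSelfAdjointFor (Cfsg.sympForm d F) K) :
    ∃ (Jm : Matrix (Fin d ⊕ Fin d) (Fin d ⊕ Fin d) F) (ε : F), SkewGen K Jm ε ∧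
      ∃ g ∈ Cfsg.spGL d F, (g : Matrix (Fin d ⊕ Fin d) (Fin d ⊕ Fin d) F) * Jm =
        Matrix.fromBlocks 0 (ε • (1 : Matrix (Fin d) (Fin d) F)) 1 0 *
          (g : Matrix (Fin d ⊕ Fin d) (Fin d ⊕ Fin d) F) := by
  classical
  obtain ⟨Jm, ε, S⟩ := exists_skewGen h2 hK hKf hKns
  refine ⟨Jm, ε, S, ?_⟩
  have hε : ε ≠ 0 := fun h0 => S.nonsq 0 (by rw [h0, mul_zero])
  have hnd : ∀ u, (∀ v, sympBilin d F u v = 0) → u = 0 := by
    intro u hu
    apply sympForm_nondeg u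
    intro y
    rw [← sympBilin_apply]
    exact hu y
  have hS2 : ∀ v, Matrix.toLin' Jm (Matrix.toLin' Jm v) = ε • v := by
    intro v
    rw [Matrix.toLin'_apply, Matrix.toLin'_apply, Matrix.mulVec_mulVec, S.sq, Matrix.smul_mulVec,
      Matrix.one_mulVec]
  have hskew : ∀ u v, sympBilin d F (Matrix.toLin' Jm u) v =
      -sympBilin d F u (Matrix.toLin' Jm v) := by
    intro u v
    rw [sympBilin_apply, sympBilin_apply, Matrix.toLin'_apply, Matrix.toLin'_apply]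
    exact S.skew u v
  obtain ⟨e, f, hfam, hfe⟩ := pkG_exists_altFam (sympBilin_isAlt (m := d) (F := F)) hnd h2
    (Matrix.toLin' Jm) ε hε hS2 hskew (pkG_norm_surj h2 ε hε) d (by rw [pkH_finrank])
  have hDe : ∀ k, Jm *ᵥ e k = (0 : F) • e k + ε • f k := by
    intro k
    rw [zero_smul, zero_add, ← hfe, ← Matrix.toLin'_apply, hS2]
  have hDf : ∀ k, Jm *ᵥ f k = (1 : F) • e k + (0 : F) • f k := by
    intro k
    rw [zero_smul, add_zero, one_smul, ← hfe, Matrix.toLin'_apply]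
  have hXe : ∀ k : Fin d, Matrix.fromBlocks 0 (ε • (1 : Matrix (Fin d) (Fin d) F)) 1 0 *ᵥ
      (Pi.single (Sum.inr k) 1 : Fin d ⊕ Fin d → F) =
      (0 : F) • (Pi.single (Sum.inr k) 1 : Fin d ⊕ Fin d → F) +
        ε • (Pi.single (Sum.inl k) 1 : Fin d ⊕ Fin d → F) := by
    intro k
    rw [zero_smul, zero_add, Matrix.mulVec_single_one]
    funext i
    rcases i with i | i
    · simp only [Matrix.col_apply, Matrix.fromBlocks_apply₁₂, Matrix.smul_apply, smul_eq_mul,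
        Matrix.one_apply, Pi.smul_apply, Pi.single_apply, Sum.inl.injEq]
    · simp [Matrix.fromBlocks]
  have hXf : ∀ k : Fin d, Matrix.fromBlocks 0 (ε • (1 : Matrix (Fin d) (Fin d) F)) 1 0 *ᵥ
      (Pi.single (Sum.inl k) 1 : Fin d ⊕ Fin d → F) =
      (1 : F) • (Pi.single (Sum.inr k) 1 : Fin d ⊕ Fin d → F) +
        (0 : F) • (Pi.single (Sum.inl k) 1 : Fin d ⊕ Fin d → F) := by
    intro k
    rw [zero_smul, add_zero, one_smul, Matrix.mulVec_single_one]
    funext i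
    rcases i with i | i
    · simp [Matrix.fromBlocks]
    · simp only [Matrix.col_apply, Matrix.fromBlocks_apply₂₁, Matrix.one_apply, Pi.single_apply,
        Sum.inr.injEq]
  obtain ⟨P, hP, hPx⟩ := pkH_glue d
    (Matrix.fromBlocks 0 (ε • (1 : Matrix (Fin d) (Fin d) F)) 1 0) Jm hfam (pkH_std d)
    (fun _ => 0) (fun _ => ε) (fun _ => 1) (fun _ => 0) hDe hDf hXe hXf
  exact ⟨P, hP, hPx.symm⟩

end Cfsg.Agent.Lib.Helper3.GUSp
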