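import Mathlib
import Cfsg.Agent.Lib.Helper9.TensK1
import Cfsg.Agent.Lib.Helper9.Elus7

set_option autoImplicit false
open scoped MatrixGroups Kronecker

/-! Kronecker products with a large eigenspace. -/

namespace Cfsg.Agent.Lib.Helper9.H9TK

open Module Matrix
open Cfsg.Agent.H9SemiInv
open Cfsg.Agent.Lib.Helper9.H9Elus

section large
universe u
variable {F : Type u} [Field F] {V : Type u} [AddCommGroup V] [Module F V]

theorem gl_mulVec_eq_zero {k : ℕ} (g : GL (Fin k) F) (v : Fin k → F)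
    (h : (g : Matrix (Fin k) (Fin k) F) *ᵥ v = 0) : v = 0 := by
  have := congrArg (fun w => ((g⁻¹ : GL (Fin k) F) : Matrix (Fin k) (Fin k) F) *ᵥ w) h
  simpa only [Matrix.mulVec_mulVec, ← Units.val_mul, inv_mul_cancel, Units.val_one,
    Matrix.one_mulVec, Matrix.mulVec_zero] using this

/-- A Kronecker product with an eigenspace of codimension less than `b` is a repeated block. -/
theorem IsKron.isRep_of_large {a b : ℕ} {t : V →ₗ[F] V} (hk : IsKron a b t) (μ : F)
    (hfix : a * b < finrank F (LinearMap.ker (t - μ • 1)) + b) :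
    ∃ h : (Fin b → F) →ₗ[F] (Fin b → F), IsRep a h t := by
  obtain ⟨Ψ, g1, g2, hΨ⟩ := hk
  obtain ⟨α, hα⟩ := hΨ.left_scalar (gl_mulVec_eq_zero g2) μ hfix
  rw [hα] at hΨ
  exact ⟨_, hΨ.isRep_of_scalar α⟩

/-- A Kronecker product with an eigenspace of codimension less than both `a` and `b` is scalar. -/
theorem IsKron.scalar_of_large {a b : ℕ} {t : V →ₗ[F] V} (hk : IsKron a b t) (μ : F)
    (hfixb : a * b < finrank F (LinearMap.ker (t - μ • 1)) + b)
    (hfixa : a * b < finrank F (LinearMap.ker (t - μ • 1)) + a) :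
    ∃ c : F, t = c • 1 := by
  obtain ⟨Ψ, g1, g2, hΨ⟩ := hk
  obtain ⟨α, hα⟩ := hΨ.left_scalar (gl_mulVec_eq_zero g2) μ hfixb
  obtain ⟨β, hβ⟩ := hΨ.swap.left_scalar (gl_mulVec_eq_zero g1) μ (by rw [mul_comm]; exact hfixa)
  refine ⟨α * β, ?_⟩
  apply LinearMap.ext
  intro v
  apply Ψ.injective
  rw [hΨ v, hα, hβ, Matrix.smul_kronecker, Matrix.kronecker_smul, Matrix.one_kronecker_one,
    smul_smul, Matrix.smul_mulVec, Matrix.one_mulVec, LinearMap.smul_apply,
    Module.End.one_apply, map_smul]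

end large

section order
universe u

theorem kron_pow {F : Type u} [Field F] {a b : ℕ} (A : Matrix (Fin a) (Fin a) F)
    (B : Matrix (Fin b) (Fin b) F) (k : ℕ) : (A ⊗ₖ B) ^ k = (A ^ k) ⊗ₖ (B ^ k) := by
  induction k with
  | zero => simp
  | succ k ih => rw [pow_succ, ih, pow_succ, pow_succ, Matrix.mul_kronecker_mul]

theorem scalar_of_kron_eq_one {F : Type u} [Field F] {a b : ℕ} (hb : 0 < b)
    (A : Matrix (Fin a) (Fin a) F) (B : Matrix (Fin b) (Fin b) F) (h : A ⊗ₖ B = 1) :
    ∃ α : F, A = α • 1 := by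
  refine ⟨(B ⟨0, hb⟩ ⟨0, hb⟩)⁻¹, ?_⟩
  ext i i'
  have h1 := congrFun (congrFun h (i, ⟨0, hb⟩)) (i', ⟨0, hb⟩)
  have h2 := congrFun (congrFun h (i, ⟨0, hb⟩)) (i, ⟨0, hb⟩)
  simp only [Matrix.kroneckerMap_apply, Matrix.one_apply_eq] at h1 h2
  have hB : B ⟨0, hb⟩ ⟨0, hb⟩ ≠ 0 := by
    intro h0
    rw [h0, mul_zero] at h2
    exact zero_ne_one h2
  rw [Matrix.smul_apply, smul_eq_mul]
  by_cases hii : i = i'
  · subst hii
    rw [Matrix.one_apply_eq, mul_one]
    field_simp
    exact h2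
  · rw [Matrix.one_apply_ne hii, mul_zero]
    rw [Matrix.one_apply_ne (by intro hh; exact hii (congrArg Prod.fst hh))] at h1
    exact (mul_eq_zero.mp h1).resolve_right hB

variable {F : Type u} [Field F] [Fintype F] {p : ℕ} [Fact p.Prime] [CharP F p]
  {V : Type u} [AddCommGroup V] [Module F V]

/-- An element of order `r` of `GL_a(q)` with `a < ord_r(q)` is trivial. -/
theorem eq_one_of_lt_order (r : ℕ) [Fact r.Prime] (hrp : r ≠ p) {a : ℕ}
    (hai : a < orderOf ((Fintype.card F : ℕ) : ZMod r))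
    (y : (Fin a → F) →ₗ[F] (Fin a → F)) (hy : y ^ r = 1) : y = 1 := by
  have h1 := order_dvd_finrank_ker r hrp y hy
  have h2 : finrank F (LinearMap.ker (Polynomial.aeval y (Polynomial.cyclotomic r F))) ≤ a := by
    have := Submodule.finrank_le (LinearMap.ker (Polynomial.aeval y (Polynomial.cyclotomic r F)))
    rwa [Module.finrank_fin_fun] at this
  have h3 : finrank F (LinearMap.ker (Polynomial.aeval y (Polynomial.cyclotomic r F))) = 0 := by
    by_contra hne
    have := Nat.le_of_dvd (Nat.pos_of_ne_zero hne) h1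
    omega
  have h4 : LinearMap.ker (Polynomial.aeval y (Polynomial.cyclotomic r F)) = ⊥ :=
    Submodule.finrank_eq_zero.mp h3
  have hc := isCompl_ker r hrp y hy
  rw [h4] at hc
  have h5 : LinearMap.ker (Polynomial.aeval y (Polynomial.X - 1 : Polynomial F)) = ⊤ := by
    have := hc.sup_eq_top
    rwa [sup_bot_eq] at this
  rw [LinearMap.ker_eq_top] at h5
  simpa [sub_eq_zero] using h5

/-- Order argument: the left factor of a Kronecker product of order `r` is scalar when
`a < ord_r(q)`. -/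
theorem IsKron.isRep_of_lt_order (r : ℕ) [Fact r.Prime] (hrp : r ≠ p) {a b : ℕ} (ha : 0 < a)
    (hb : 0 < b) (hai : a < orderOf ((Fintype.card F : ℕ) : ZMod r))
    {t : V →ₗ[F] V} (hk : IsKron a b t) (ht : t ^ r = 1) :
    ∃ h : (Fin b → F) →ₗ[F] (Fin b → F), IsRep a h t := by
  have hr : r.Prime := Fact.out
  obtain ⟨Ψ, g1, g2, hΨ⟩ := hk
  -- the `r`-th power of the Kronecker product is one
  have hpow : ∀ k : ℕ, ∀ v, Ψ ((t ^ k) v) =
      (((g1 : Matrix (Fin a) (Fin a) F) ⊗ₖ (g2 : Matrix (Fin b) (Fin b) F)) ^ k) *ᵥ (Ψ v) := by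
    intro k
    induction k with
    | zero => intro v; simp
    | succ k ih =>
      intro v
      rw [pow_succ, Module.End.mul_apply, ih, hΨ v, Matrix.mulVec_mulVec, ← pow_succ]
  have hK : ((g1 : Matrix (Fin a) (Fin a) F) ⊗ₖ (g2 : Matrix (Fin b) (Fin b) F)) ^ r = 1 := by
    apply Matrix.toLin'.injective
    apply LinearMap.ext
    intro w
    have := hpow r (Ψ.symm w)
    rw [ht, Module.End.one_apply, LinearEquiv.apply_symm_apply] at this
    rw [Matrix.toLin'_apply, ← this, Matrix.toLin'_one, LinearMap.id_apply]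
  rw [kron_pow] at hK
  obtain ⟨z1, hz1⟩ := scalar_of_kron_eq_one hb _ _ hK
  have hi1 : orderOf ((Fintype.card F : ℕ) : ZMod r) ≠ 1 := by omega
  have hnd : ¬ r ∣ Fintype.card F - 1 := by
    intro hd
    exact hi1 ((orderOf_eq_one_iff_dvd r (Fintype.card F) Fintype.card_pos).mpr hd)
  obtain ⟨c, hc⟩ := exists_pow_eq_of_not_dvd r hr hnd z1
  have hz10 : z1 ≠ 0 := by
    rintro rfl
    have h1 := congrArg Matrix.det hz1
    haveI : Nonempty (Fin a) := ⟨⟨0, ha⟩⟩
    rw [zero_smul, Matrix.det_zero, Matrix.det_pow] at h1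
    exact (pow_ne_zero r (Matrix.GeneralLinearGroup.det_ne_zero g1)) h1
  have hc0 : c ≠ 0 := by
    rintro rfl
    rw [zero_pow hr.ne_zero] at hc
    exact hz10 hc.symm
  have hy : (Matrix.toLin' (c⁻¹ • (g1 : Matrix (Fin a) (Fin a) F))) ^ r = 1 := by
    rw [← Matrix.toLin'_pow, smul_pow, hz1, ← hc, smul_smul, ← mul_pow, inv_mul_cancel₀ hc0,
      one_pow, one_smul, Matrix.toLin'_one]
    rfl
  have h1 := eq_one_of_lt_order r hrp hai _ hy
  have hg1 : (g1 : Matrix (Fin a) (Fin a) F) = c • 1 := by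
    have h2 := congrArg LinearMap.toMatrix' h1
    rw [LinearMap.toMatrix'_toLin', LinearMap.toMatrix'_one] at h2
    rw [← h2, smul_smul, mul_inv_cancel₀ hc0, one_smul]
  rw [hg1] at hΨ
  exact ⟨_, hΨ.isRep_of_scalar c⟩

/-- A repeated block has no eigenspace of dimension one. -/
theorem IsRep.not_eigen_one {F : Type u} [Field F] {V : Type u} [AddCommGroup V] [Module F V]
    {a b : ℕ} (ha : 2 ≤ a) {h : (Fin b → F) →ₗ[F] (Fin b → F)} {t : V →ₗ[F] V}
    (hr : IsRep a h t) (ζ : F)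
    (h1 : finrank F (LinearMap.ker (t - ζ • (1 : V →ₗ[F] V))) = 1) : False := by
  have h2 := hr.finrank_ker (Polynomial.X - Polynomial.C ζ)
  rw [map_sub, Polynomial.aeval_X, Polynomial.aeval_C, Algebra.algebraMap_eq_smul_one, h1] at h2
  have : a ∣ 1 := ⟨_, h2⟩
  have := Nat.le_of_dvd one_pos this
  omega

/-- A repeated block of order `r` is not a single irreducible block. -/
theorem IsRep.not_single [FiniteDimensional F V] (r : ℕ) [Fact r.Prime] (hrp : r ≠ p) {a b : ℕ}
    (ha : 2 ≤ a) {h : (Fin b → F) →ₗ[F] (Fin b → F)} {t : V →ₗ[F] V} (hr : IsRep a h t)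
    (ht : t ^ r = 1) (ht1 : t ≠ 1)
    (hfix : finrank F V ≤ finrank F (LinearMap.ker (t - (1 : F) • (1 : V →ₗ[F] V))) +
      orderOf ((Fintype.card F : ℕ) : ZMod r)) : False := by
  have hipos := order_pos (F := F) r hrp
  have hh : h ^ r = 1 := by
    obtain ⟨Ψ, hΨ⟩ := hr
    apply LinearMap.ext
    intro u
    have := IsRep.pow_apply hΨ r (Ψ.symm fun _ => u) ⟨0, by omega⟩
    rw [ht, Module.End.one_apply, LinearEquiv.apply_symm_apply] at this
    exact this.symm
  obtain ⟨m', hm'⟩ := order_dvd_finrank_ker r hrp h hh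
  have h2 := hr.finrank_ker (Polynomial.cyclotomic r F)
  have hc := Submodule.finrank_add_eq_of_isCompl (isCompl_ker r hrp t ht)
  have e1 : Polynomial.aeval t (Polynomial.X - 1 : Polynomial F) =
      t - (1 : F) • (1 : V →ₗ[F] V) := by
    rw [map_sub, Polynomial.aeval_X, map_one, one_smul]
  rw [e1] at hc
  have hpos : 0 < finrank F (LinearMap.ker (Polynomial.aeval t (Polynomial.cyclotomic r F))) := by
    by_contra h0
    have h0' : finrank F (LinearMap.ker (Polynomial.aeval t (Polynomial.cyclotomic r F))) = 0 := by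
      omega
    have h3 : LinearMap.ker (Polynomial.aeval t (Polynomial.cyclotomic r F)) = ⊥ :=
      Submodule.finrank_eq_zero.mp h0'
    have hcc := isCompl_ker r hrp t ht
    rw [h3, e1] at hcc
    have h5 : LinearMap.ker (t - (1 : F) • (1 : V →ₗ[F] V)) = ⊤ := by
      have := hcc.sup_eq_top
      rwa [sup_bot_eq] at this
    rw [LinearMap.ker_eq_top, one_smul, sub_eq_zero] at h5
    exact ht1 h5
  rw [h2, hm'] at hpos
  have hle : a * finrank F (LinearMap.ker (Polynomial.aeval h (Polynomial.cyclotomic r F))) ≤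
      orderOf ((Fintype.card F : ℕ) : ZMod r) := by
    rw [← h2]; omega
  rw [hm'] at hle
  have hm0 : 0 < m' := by
    rcases Nat.eq_zero_or_pos m' with h0 | h0
    · rw [h0] at hpos; simp at hpos
    · exact h0
  have : 2 * orderOf ((Fintype.card F : ℕ) : ZMod r) ≤
      a * (orderOf ((Fintype.card F : ℕ) : ZMod r) * m') := by
    calc 2 * orderOf ((Fintype.card F : ℕ) : ZMod r)
        ≤ a * orderOf ((Fintype.card F : ℕ) : ZMod r) := Nat.mul_le_mul_right _ ha
      _ ≤ a * (orderOf ((Fintype.card F : ℕ) : ZMod r) * m') :=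
          Nat.mul_le_mul_left _ (Nat.le_mul_of_pos_right _ hm0)
  omega

end order

end Cfsg.Agent.Lib.Helper9.H9TK
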