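import Mathlib
import Cfsg.Agent.Lib.Helper9.TensK4
import Cfsg.Agent.Lib.Helper9.Elus10

set_option autoImplicit false
open scoped MatrixGroups Kronecker

/-! The fixed space of a Kronecker product of two elements of prime order. -/

namespace Cfsg.Agent.Lib.Helper9.H9TK

open Module Matrix Polynomial
open Cfsg.Agent.H9SemiInv
open Cfsg.Agent.Lib.Helper9.H9Elus

section cyc
variable {F V : Type*} [Field F] [AddCommGroup V] [Module F V]

/-- the cyclic subspace generated by a vector -/
noncomputable def cyc (y : V →ₗ[F] V) (w : V) : Submodule F V :=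
  LinearMap.range ((LinearMap.applyₗ w).comp (Polynomial.aeval y).toLinearMap :
    F[X] →ₗ[F] V)

theorem mem_cyc_iff (y : V →ₗ[F] V) (w x : V) : x ∈ cyc y w ↔ ∃ f : F[X], aeval y f w = x :=
  Iff.rfl

theorem mem_cyc_self (y : V →ₗ[F] V) (w : V) : w ∈ cyc y w :=
  ⟨1, by
    show aeval y (1 : F[X]) w = w
    rw [map_one, Module.End.one_apply]⟩

theorem cyc_inv (y : V →ₗ[F] V) (w : V) : Inv y (cyc y w) := by
  rintro _ ⟨f, rfl⟩
  refine ⟨X * f, ?_⟩
  show aeval y (X * f) w = y (aeval y f w)
  rw [map_mul, aeval_X, Module.End.mul_apply]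

theorem cyc_le (y : V →ₗ[F] V) (w : V) (Z : Submodule F V) (hZ : Inv y Z) (hw : w ∈ Z) :
    cyc y w ≤ Z := by
  rintro _ ⟨f, rfl⟩
  exact Inv.aeval hZ f w hw

end cyc

section gens
variable {F V : Type*} [Field F] [Fintype F] {p : ℕ} [Fact p.Prime] [CharP F p]
  [AddCommGroup V] [Module F V] [FiniteDimensional F V]

/-- Generators of an invariant subspace of the cyclotomic kernel. -/
theorem exists_gens (r : ℕ) [Fact r.Prime] (hrp : r ≠ p) (y : V →ₗ[F] V) (hy : y ^ r = 1) :
    ∀ n : ℕ, ∀ C : Submodule F V, C ≤ LinearMap.ker (aeval y (cyclotomic r F)) → Inv y C →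
      finrank F C = n →
      ∃ (ν : ℕ) (v : Fin ν → V), ν * orderOf ((Fintype.card F : ℕ) : ZMod r) ≤ n ∧
        (∀ k, v k ∈ C) ∧ ∀ Z : Submodule F V, Inv y Z → (∀ k, v k ∈ Z) → C ≤ Z := by
  have hipos := order_pos (F := F) r hrp
  intro n
  induction n using Nat.strong_induction_on with
  | _ n ih =>
    intro C hCN hC hn
    by_cases hbot : C = ⊥
    · refine ⟨0, Fin.elim0, by omega, fun k => k.elim0, ?_⟩
      intro Z _ _
      rw [hbot]
      exact bot_le
    · obtain ⟨w, hwC, hw0⟩ := Submodule.exists_mem_ne_zero_of_ne_bot hbot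
      have hss := isSemisimple_of_pow_eq_one r hrp y hy
      have hZ0C : cyc y w ≤ C := cyc_le y w C hC hwC
      have hZ0inv : Inv y (cyc y w) := cyc_inv y w
      have hZ0ne : cyc y w ≠ ⊥ := by
        intro h
        have := mem_cyc_self y w
        rw [h, Submodule.mem_bot] at this
        exact hw0 this
      obtain ⟨Z', hZ'le, -, hZ'd⟩ :=
        hmin_cyclotomic r hrp y (cyc y w) (hZ0C.trans hCN) hZ0inv hZ0ne
      have hge : orderOf ((Fintype.card F : ℕ) : ZMod r) ≤ finrank F (cyc y w) := by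
        rw [← hZ'd]
        exact Submodule.finrank_mono hZ'le
      obtain ⟨C', hC'le, hC'inv, hdisj, hsum⟩ :=
        exists_rel_compl y hss C hC (cyc y w) hZ0C hZ0inv
      obtain ⟨ν, v, hν, hvC, hv⟩ :=
        ih (finrank F C') (by omega) C' (hC'le.trans hCN) hC'inv rfl
      refine ⟨ν + 1, Fin.snoc (α := fun _ => V) v w, ?_, ?_, ?_⟩
      · rw [add_mul, one_mul]
        omega
      · intro k
        refine Fin.lastCases ?_ (fun k' => ?_) k
        · rw [Fin.snoc_last]
          exact hwC
        · rw [Fin.snoc_castSucc]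
          exact hC'le (hvC k')
      · intro Z hZ hvZ
        have h1 : cyc y w ≤ Z := by
          apply cyc_le y w Z hZ
          have := hvZ (Fin.last ν)
          rwa [Fin.snoc_last] at this
        have h2 : C' ≤ Z := by
          apply hv Z hZ
          intro k
          have := hvZ (Fin.castSucc k)
          rwa [Fin.snoc_castSucc] at this
        have hsup : cyc y w ⊔ C' = C := by
          apply Submodule.eq_of_le_of_finrank_eq (sup_le hZ0C hC'le)
          rw [finrank_sup_of_disjoint hdisj, hsum]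
        rw [← hsup]
        exact sup_le h1 h2

/-- The decomposition of the dimension for a non-trivial element of order `r`. -/
theorem exists_decomp (r : ℕ) [Fact r.Prime] (hrp : r ≠ p) (y : V →ₗ[F] V) (hy : y ^ r = 1)
    (hy1 : y ≠ 1) :
    ∃ s ν : ℕ, 1 ≤ ν ∧ finrank F V = s + orderOf ((Fintype.card F : ℕ) : ZMod r) * ν ∧
      finrank F (LinearMap.ker (aeval y (X - 1 : F[X]))) = s ∧
      finrank F (LinearMap.ker (aeval y (cyclotomic r F))) =
        orderOf ((Fintype.card F : ℕ) : ZMod r) * ν := by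
  obtain ⟨ν, hν⟩ := order_dvd_finrank_ker r hrp y hy
  have hc := isCompl_ker r hrp y hy
  have hsum := Submodule.finrank_add_eq_of_isCompl hc
  refine ⟨_, ν, ?_, ?_, rfl, hν⟩
  · by_contra h0
    have hν0 : ν = 0 := by omega
    rw [hν0, mul_zero] at hν
    have h4 : LinearMap.ker (aeval y (cyclotomic r F)) = ⊥ := Submodule.finrank_eq_zero.mp hν
    rw [h4] at hc
    have h5 : LinearMap.ker (aeval y (X - 1 : F[X])) = ⊤ := by
      have := hc.sup_eq_top
      rwa [sup_bot_eq] at this
    rw [LinearMap.ker_eq_top] at h5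
    apply hy1
    simpa [sub_eq_zero] using h5
  · rw [← hsum, hν]

end gens

section hom
variable {F : Type*} [Field F] {U1 U2 : Type*} [AddCommGroup U1] [Module F U1]
  [AddCommGroup U2] [Module F U2]

theorem intertw_aeval (y1 : U1 →ₗ[F] U1) (y2 : U2 →ₗ[F] U2) (L : U2 →ₗ[F] U1)
    (hL : ∀ u, y1 (L u) = L (y2 u)) (f : F[X]) (u : U2) :
    aeval y1 f (L u) = L (aeval y2 f u) := by
  have hpow : ∀ k : ℕ, ∀ u, (y1 ^ k) (L u) = L ((y2 ^ k) u) := by
    intro k
    induction k with
    | zero => intro u; simp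
    | succ k ih =>
      intro u
      rw [pow_succ, pow_succ, Module.End.mul_apply, Module.End.mul_apply, hL, ih]
  rw [aeval_eq_sum_range, aeval_eq_sum_range, LinearMap.sum_apply, LinearMap.sum_apply, map_sum]
  refine Finset.sum_congr rfl fun k _ => ?_
  rw [LinearMap.smul_apply, LinearMap.smul_apply, map_smul, hpow]

end hom

section homBound
variable {F : Type*} [Field F] [Fintype F] {p : ℕ} [Fact p.Prime] [CharP F p]
  {U1 U2 : Type*} [AddCommGroup U1] [Module F U1] [FiniteDimensional F U1]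
  [AddCommGroup U2] [Module F U2] [FiniteDimensional F U2]

/-- The dimension of a space of intertwiners between two elements of order `r`. -/
theorem hom_bound (r : ℕ) [Fact r.Prime] (hrp : r ≠ p) (y1 : U1 →ₗ[F] U1) (y2 : U2 →ₗ[F] U2)
    (h2 : y2 ^ r = 1) (H : Submodule F (U2 →ₗ[F] U1))
    (hH : ∀ L ∈ H, ∀ u, y1 (L u) = L (y2 u)) :
    finrank F H * orderOf ((Fintype.card F : ℕ) : ZMod r) ≤
      finrank F (LinearMap.ker (aeval y1 (X - 1 : F[X]))) *
        finrank F (LinearMap.ker (aeval y2 (X - 1 : F[X]))) *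
          orderOf ((Fintype.card F : ℕ) : ZMod r) +
      finrank F (LinearMap.ker (aeval y1 (cyclotomic r F))) *
        finrank F (LinearMap.ker (aeval y2 (cyclotomic r F))) := by
  classical
  obtain ⟨ν, v, hν, hvN, hv⟩ := exists_gens r hrp y2 h2
    (finrank F (LinearMap.ker (aeval y2 (cyclotomic r F))))
    (LinearMap.ker (aeval y2 (cyclotomic r F))) le_rfl (inv_ker_aeval y2 _) rfl
  let β := Module.finBasis F (LinearMap.ker (aeval y2 (X - 1 : F[X])))
  have hmem : ∀ (f : F[X]) (L : H) (u : U2), u ∈ LinearMap.ker (aeval y2 f) →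
      (L : U2 →ₗ[F] U1) u ∈ LinearMap.ker (aeval y1 f) := by
    intro f L u hu
    rw [LinearMap.mem_ker, intertw_aeval y1 y2 _ (hH L L.2), LinearMap.mem_ker.mp hu, map_zero]
  let Θ1 : H →ₗ[F] (Fin (finrank F (LinearMap.ker (aeval y2 (X - 1 : F[X])))) →
      LinearMap.ker (aeval y1 (X - 1 : F[X]))) :=
    LinearMap.pi fun k => LinearMap.codRestrict (LinearMap.ker (aeval y1 (X - 1 : F[X])))
      ((LinearMap.applyₗ ((β k : LinearMap.ker (aeval y2 (X - 1 : F[X]))) : U2)).comp H.subtype)
      (fun L => hmem _ L _ (β k).2)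
  let Θ2 : H →ₗ[F] (Fin ν → LinearMap.ker (aeval y1 (cyclotomic r F))) :=
    LinearMap.pi fun k => LinearMap.codRestrict (LinearMap.ker (aeval y1 (cyclotomic r F)))
      ((LinearMap.applyₗ (v k)).comp H.subtype) (fun L => hmem _ L _ (hvN k))
  have hΘ1 : ∀ (L : H) k, ((Θ1 L k : LinearMap.ker (aeval y1 (X - 1 : F[X]))) : U1) =
      (L : U2 →ₗ[F] U1) ((β k : LinearMap.ker (aeval y2 (X - 1 : F[X]))) : U2) := fun L k => rfl
  have hΘ2 : ∀ (L : H) k, ((Θ2 L k : LinearMap.ker (aeval y1 (cyclotomic r F))) : U1) =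
      (L : U2 →ₗ[F] U1) (v k) := fun L k => rfl
  have hinj : Function.Injective (Θ1.prod Θ2) := by
    rw [← LinearMap.ker_eq_bot, LinearMap.ker_eq_bot']
    intro L hL
    have hL1 : Θ1 L = 0 := congrArg Prod.fst hL
    have hL2 : Θ2 L = 0 := congrArg Prod.snd hL
    have hKinv : Inv y2 (LinearMap.ker (L : U2 →ₗ[F] U1)) := by
      intro u hu
      rw [LinearMap.mem_ker] at hu ⊢
      rw [← hH L L.2, hu, map_zero]
    have hN2le : LinearMap.ker (aeval y2 (cyclotomic r F)) ≤
        LinearMap.ker (L : U2 →ₗ[F] U1) := by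
      apply hv _ hKinv
      intro k
      rw [LinearMap.mem_ker, ← hΘ2, hL2]
      rfl
    have hFix2le : LinearMap.ker (aeval y2 (X - 1 : F[X])) ≤
        LinearMap.ker (L : U2 →ₗ[F] U1) := by
      intro u hu
      rw [LinearMap.mem_ker]
      have hrep := β.sum_repr ⟨u, hu⟩
      have hu' : u = ∑ k, (β.repr ⟨u, hu⟩ k) •
          ((β k : LinearMap.ker (aeval y2 (X - 1 : F[X]))) : U2) := by
        have := congrArg (fun x : LinearMap.ker (aeval y2 (X - 1 : F[X])) => (x : U2)) hrep
        simp only [Submodule.coe_sum, Submodule.coe_smul] at this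
        exact this.symm
      rw [hu', map_sum]
      apply Finset.sum_eq_zero
      intro k _
      rw [map_smul, ← hΘ1, hL1]
      simp
    have htop := (isCompl_ker r hrp y2 h2).sup_eq_top
    have hall : (⊤ : Submodule F U2) ≤ LinearMap.ker (L : U2 →ₗ[F] U1) := by
      rw [← htop]
      exact sup_le hFix2le hN2le
    apply Subtype.ext
    apply LinearMap.ext
    intro u
    exact LinearMap.mem_ker.mp (hall Submodule.mem_top)
  have hle := LinearMap.finrank_le_finrank_of_injective hinj
  rw [Module.finrank_prod, Module.finrank_pi_fintype, Module.finrank_pi_fintype] at hle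
  simp only [Finset.sum_const, Finset.card_univ, Fintype.card_fin, smul_eq_mul] at hle
  calc finrank F H * orderOf ((Fintype.card F : ℕ) : ZMod r)
      ≤ (finrank F (LinearMap.ker (aeval y2 (X - 1 : F[X]))) *
          finrank F (LinearMap.ker (aeval y1 (X - 1 : F[X]))) +
          ν * finrank F (LinearMap.ker (aeval y1 (cyclotomic r F)))) *
            orderOf ((Fintype.card F : ℕ) : ZMod r) := Nat.mul_le_mul_right _ hle
    _ = finrank F (LinearMap.ker (aeval y1 (X - 1 : F[X]))) *
          finrank F (LinearMap.ker (aeval y2 (X - 1 : F[X]))) *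
            orderOf ((Fintype.card F : ℕ) : ZMod r) +
          finrank F (LinearMap.ker (aeval y1 (cyclotomic r F))) *
            (ν * orderOf ((Fintype.card F : ℕ) : ZMod r)) := by ring
    _ ≤ _ := by
        apply Nat.add_le_add_left
        exact Nat.mul_le_mul_left _ hν

end homBound

section fix
variable {F : Type*} [Field F]

/-- the linear map with matrix given by a vector indexed by pairs -/
noncomputable def curryLin (a b : ℕ) :
    (Fin a × Fin b → F) →ₗ[F] ((Fin b → F) →ₗ[F] (Fin a → F)) where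
  toFun w := Matrix.toLin' (Matrix.of fun i j => w (i, j))
  map_add' w w' := by
    rw [← map_add]
    congr 1
  map_smul' c w := by
    rw [RingHom.id_apply, ← map_smul]
    congr 1

theorem curryLin_apply (a b : ℕ) (w : Fin a × Fin b → F) :
    curryLin a b w = Matrix.toLin' (Matrix.of fun i j => w (i, j)) := rfl

theorem curryLin_injective (a b : ℕ) : Function.Injective (curryLin (F := F) a b) := by
  intro w w' h
  rw [curryLin_apply, curryLin_apply] at h
  have h1 := Matrix.toLin'.injective h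
  funext ⟨i, j⟩
  exact congrFun (congrFun h1 i) j

theorem kron_mulVec_of {a b : ℕ} (A : Matrix (Fin a) (Fin a) F) (B : Matrix (Fin b) (Fin b) F)
    (w : Fin a × Fin b → F) :
    (Matrix.of fun i j => ((A ⊗ₖ B) *ᵥ w) (i, j)) =
      A * (Matrix.of fun i j => w (i, j)) * Bᵀ := by
  ext i j
  simp only [Matrix.of_apply, Matrix.mulVec, dotProduct, Matrix.kroneckerMap_apply,
    Matrix.mul_apply, Matrix.transpose_apply, Fintype.sum_prod_type, Finset.sum_mul]
  rw [Finset.sum_comm]
  refine Finset.sum_congr rfl fun l _ => Finset.sum_congr rfl fun k _ => ?_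
  ring

end fix

section fixBound
variable {F : Type*} [Field F] [Fintype F] {p : ℕ} [Fact p.Prime] [CharP F p]

/-- The bound on the fixed space of a Kronecker product of two non-trivial elements of order
`r`. -/
theorem fix_bound (r : ℕ) [Fact r.Prime] (hrp : r ≠ p) {a b : ℕ}
    (A : Matrix (Fin a) (Fin a) F) (B : Matrix (Fin b) (Fin b) F)
    (hA : A ^ r = 1) (hB : B ^ r = 1) (hA1 : A ≠ 1) (hB1 : B ≠ 1) :
    ∃ s1 ν1 s2 ν2 : ℕ, 1 ≤ ν1 ∧ 1 ≤ ν2 ∧
      a = s1 + orderOf ((Fintype.card F : ℕ) : ZMod r) * ν1 ∧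
      b = s2 + orderOf ((Fintype.card F : ℕ) : ZMod r) * ν2 ∧
      finrank F (LinearMap.ker (Matrix.toLin' (A ⊗ₖ B) - 1)) ≤
        s1 * s2 + orderOf ((Fintype.card F : ℕ) : ZMod r) * ν1 * ν2 := by
  classical
  have hr : r.Prime := Fact.out
  have hipos := order_pos (F := F) r hrp
  set B' : Matrix (Fin b) (Fin b) F := Bᵀ ^ (r - 1) with hB'
  have hBtr : Bᵀ ^ r = 1 := by rw [← Matrix.transpose_pow, hB, Matrix.transpose_one]
  have hBB' : Bᵀ * B' = 1 := by
    rw [hB', ← pow_succ']
    have : r - 1 + 1 = r := Nat.sub_add_cancel hr.one_le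
    rw [this, hBtr]
  have hB'r : B' ^ r = 1 := by
    rw [hB', ← pow_mul, mul_comm, pow_mul, hBtr, one_pow]
  have hB'1 : B' ≠ 1 := by
    intro h
    apply hB1
    rw [h, mul_one] at hBB'
    have := congrArg Matrix.transpose hBB'
    rwa [Matrix.transpose_transpose, Matrix.transpose_one] at this
  set y1 := Matrix.toLin' A with hy1
  set y2 := Matrix.toLin' B' with hy2
  have h1 : y1 ^ r = 1 := by
    rw [hy1, ← Matrix.toLin'_pow, hA, Matrix.toLin'_one]
    rfl
  have h2 : y2 ^ r = 1 := by
    rw [hy2, ← Matrix.toLin'_pow, hB'r, Matrix.toLin'_one]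
    rfl
  have hy11 : y1 ≠ 1 := by
    intro h
    apply hA1
    have := congrArg LinearMap.toMatrix' h
    rwa [hy1, LinearMap.toMatrix'_toLin', LinearMap.toMatrix'_one] at this
  have hy21 : y2 ≠ 1 := by
    intro h
    apply hB'1
    have := congrArg LinearMap.toMatrix' h
    rwa [hy2, LinearMap.toMatrix'_toLin', LinearMap.toMatrix'_one] at this
  obtain ⟨s1, ν1, hν1, hd1, hs1, hn1⟩ := exists_decomp r hrp y1 h1 hy11
  obtain ⟨s2, ν2, hν2, hd2, hs2, hn2⟩ := exists_decomp r hrp y2 h2 hy21
  rw [Module.finrank_fin_fun] at hd1 hd2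
  refine ⟨s1, ν1, s2, ν2, hν1, hν2, hd1, hd2, ?_⟩
  -- the space of intertwiners
  let H : Submodule F ((Fin b → F) →ₗ[F] (Fin a → F)) :=
    { carrier := {L | ∀ u, y1 (L u) = L (y2 u)}
      add_mem' := by
        intro L L' hL hL' u
        rw [LinearMap.add_apply, map_add, hL, hL', LinearMap.add_apply]
      zero_mem' := by
        intro u
        simp
      smul_mem' := by
        intro c L hL u
        rw [LinearMap.smul_apply, map_smul, hL, LinearMap.smul_apply] }
  have hHb := hom_bound r hrp y1 y2 h2 H (fun L hL => hL)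
  rw [hs1, hs2, hn1, hn2] at hHb
  have hHle : finrank F H ≤ s1 * s2 + orderOf ((Fintype.card F : ℕ) : ZMod r) * ν1 * ν2 := by
    apply Nat.le_of_mul_le_mul_right _ hipos
    calc finrank F H * orderOf ((Fintype.card F : ℕ) : ZMod r) ≤ _ := hHb
      _ = _ := by ring
  refine le_trans ?_ hHle
  -- the fixed space embeds
  have hfixmem : ∀ w ∈ LinearMap.ker (Matrix.toLin' (A ⊗ₖ B) - 1), curryLin a b w ∈ H := by
    intro w hw u
    rw [LinearMap.mem_ker, LinearMap.sub_apply, Module.End.one_apply, sub_eq_zero,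
      Matrix.toLin'_apply] at hw
    have hM : A * (Matrix.of fun i j => w (i, j)) * Bᵀ = (Matrix.of fun i j => w (i, j)) := by
      rw [← kron_mulVec_of, hw]
    have hM2 : A * (Matrix.of fun i j => w (i, j)) = (Matrix.of fun i j => w (i, j)) * B' := by
      calc A * (Matrix.of fun i j => w (i, j))
          = A * (Matrix.of fun i j => w (i, j)) * (Bᵀ * B') := by rw [hBB', Matrix.mul_one]
        _ = (A * (Matrix.of fun i j => w (i, j)) * Bᵀ) * B' := by
            rw [Matrix.mul_assoc, Matrix.mul_assoc, Matrix.mul_assoc]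
        _ = _ := by rw [hM]
    rw [curryLin_apply, hy1, hy2, ← Matrix.toLin'_mul_apply, ← Matrix.toLin'_mul_apply, hM2]
  let Φ : LinearMap.ker (Matrix.toLin' (A ⊗ₖ B) - 1) →ₗ[F] H :=
    LinearMap.codRestrict H ((curryLin a b).comp (Submodule.subtype _)) (fun w => hfixmem w w.2)
  have hΦ : Function.Injective Φ := by
    intro w w' h
    have h1 := congrArg (Submodule.subtype H) h
    exact Subtype.ext (curryLin_injective a b h1)
  exact LinearMap.finrank_le_finrank_of_injective hΦ

end fixBound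

end Cfsg.Agent.Lib.Helper9.H9TK
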