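import Mathlib
import Cfsg.Agent.Lib.Helper9.TensS2

set_option autoImplicit false
open scoped MatrixGroups Kronecker

/-! The trichotomy for Kronecker products of prime order, and arithmetic. -/

namespace Cfsg.Agent.Lib.Helper9.H9TK

open Module Matrix Polynomial
open Cfsg.Agent.H9SemiInv
open Cfsg.Agent.Lib.Helper9.H9Elus

section tri
universe u
variable {F : Type u} [Field F] [Fintype F] {p : ℕ} [Fact p.Prime] [CharP F p]
  {V : Type u} [AddCommGroup V] [Module F V]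

/-- A Kronecker product of order `r` (with `r ∤ q - 1`) is a repeated block in one of the two
ways, or both factors can be taken non-trivial of order `r` and the fixed space is small. -/
theorem IsKron.trichotomy (r : ℕ) [Fact r.Prime] (hrp : r ≠ p) {a b : ℕ} (ha : 0 < a)
    (hb : 0 < b) (hi : 2 ≤ orderOf ((Fintype.card F : ℕ) : ZMod r))
    {t : V →ₗ[F] V} (hk : IsKron a b t) (ht : t ^ r = 1) :
    (∃ h : (Fin b → F) →ₗ[F] (Fin b → F), IsRep a h t) ∨
    (∃ h : (Fin a → F) →ₗ[F] (Fin a → F), IsRep b h t) ∨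
    (∃ s1 ν1 s2 ν2 : ℕ, 1 ≤ ν1 ∧ 1 ≤ ν2 ∧
      a = s1 + orderOf ((Fintype.card F : ℕ) : ZMod r) * ν1 ∧
      b = s2 + orderOf ((Fintype.card F : ℕ) : ZMod r) * ν2 ∧
      finrank F (LinearMap.ker (t - (1 : F) • (1 : V →ₗ[F] V))) ≤
        s1 * s2 + orderOf ((Fintype.card F : ℕ) : ZMod r) * ν1 * ν2) := by
  have hr : r.Prime := Fact.out
  obtain ⟨Ψ, g1, g2, hΨ⟩ := hk
  have hpow : ∀ k : ℕ, ∀ v, Ψ ((t ^ k) v) =
      (((g1 : Matrix (Fin a) (Fin a) F) ⊗ₖ (g2 : Matrix (Fin b) (Fin b) F)) ^ k) *ᵥ (Ψ v) := by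
    intro k
    induction k with
    | zero => intro v; simp
    | succ k ih =>
      intro v
      rw [pow_succ, Module.End.mul_apply, ih, hΨ v, Matrix.mulVec_mulVec, ← pow_succ]
  have hK : ((g1 : Matrix (Fin a) (Fin a) F) ⊗ₖ (g2 : Matrix (Fin b) (Fin b) F)) ^ r = 1 := by
    apply Matrix.toLin'.injective
    apply LinearMap.ext
    intro w
    have := hpow r (Ψ.symm w)
    rw [ht, Module.End.one_apply, LinearEquiv.apply_symm_apply] at this
    rw [Matrix.toLin'_apply, ← this, Matrix.toLin'_one, LinearMap.id_apply]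
  rw [kron_pow] at hK
  obtain ⟨z1, hz1⟩ := scalar_of_kron_eq_one hb _ _ hK
  have hnd : ¬ r ∣ Fintype.card F - 1 := by
    intro hd
    have := (orderOf_eq_one_iff_dvd r (Fintype.card F) Fintype.card_pos).mpr hd
    omega
  obtain ⟨c, hc⟩ := exists_pow_eq_of_not_dvd r hr hnd z1
  have hz10 : z1 ≠ 0 := by
    rintro rfl
    have h1 := congrArg Matrix.det hz1
    have : Nonempty (Fin a) := ⟨⟨0, ha⟩⟩
    rw [zero_smul, Matrix.det_zero, Matrix.det_pow] at h1
    exact (pow_ne_zero r (Matrix.GeneralLinearGroup.det_ne_zero g1)) h1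
  have hc0 : c ≠ 0 := by
    rintro rfl
    rw [zero_pow hr.ne_zero] at hc
    exact hz10 hc.symm
  set A : Matrix (Fin a) (Fin a) F := c⁻¹ • (g1 : Matrix (Fin a) (Fin a) F) with hAdef
  set B : Matrix (Fin b) (Fin b) F := c • (g2 : Matrix (Fin b) (Fin b) F) with hBdef
  have hAB : A ⊗ₖ B = (g1 : Matrix (Fin a) (Fin a) F) ⊗ₖ (g2 : Matrix (Fin b) (Fin b) F) := by
    rw [hAdef, hBdef, Matrix.smul_kronecker, Matrix.kronecker_smul, smul_smul,
      inv_mul_cancel₀ hc0, one_smul]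
  have hAr : A ^ r = 1 := by
    rw [hAdef, _root_.smul_pow, hz1, ← hc, smul_smul, ← mul_pow, inv_mul_cancel₀ hc0, one_pow, one_smul]
  have hBr : B ^ r = 1 := by
    have h1 : (1 : Matrix (Fin a) (Fin a) F) ⊗ₖ (z1 • (g2 : Matrix (Fin b) (Fin b) F) ^ r) = 1 := by
      rw [Matrix.kronecker_smul, ← Matrix.smul_kronecker, ← hz1]
      exact hK
    have h2 : z1 • (g2 : Matrix (Fin b) (Fin b) F) ^ r = 1 := by
      ext j j'
      have h3 := congrFun (congrFun h1 (⟨0, ha⟩, j)) (⟨0, ha⟩, j')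
      simp only [Matrix.kroneckerMap_apply, Matrix.one_apply_eq, one_mul] at h3
      rw [h3]
      by_cases hjj : j = j'
      · subst hjj
        rw [Matrix.one_apply_eq, Matrix.one_apply_eq]
      · rw [Matrix.one_apply_ne hjj,
          Matrix.one_apply_ne (by intro h; exact hjj (congrArg Prod.snd h))]
    rw [hBdef, _root_.smul_pow, hc, h2]
  have hΨ' : KronRel Ψ A B t := by
    intro v
    rw [hAB]
    exact hΨ v
  by_cases hA1 : A = 1
  · left
    rw [hA1, ← one_smul F (1 : Matrix (Fin a) (Fin a) F)] at hΨ'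
    exact ⟨_, hΨ'.isRep_of_scalar 1⟩
  by_cases hB1 : B = 1
  · right; left
    have hsw := hΨ'.swap
    rw [hB1, ← one_smul F (1 : Matrix (Fin b) (Fin b) F)] at hsw
    exact ⟨_, hsw.isRep_of_scalar 1⟩
  · right; right
    obtain ⟨s1, ν1, s2, ν2, hν1, hν2, hd1, hd2, hle⟩ := fix_bound r hrp A B hAr hBr hA1 hB1
    refine ⟨s1, ν1, s2, ν2, hν1, hν2, hd1, hd2, le_trans ?_ hle⟩
    have hmap : (LinearMap.ker (t - (1 : F) • (1 : V →ₗ[F] V))).map
        (Ψ : V →ₗ[F] (Fin a × Fin b → F)) ≤ LinearMap.ker (Matrix.toLin' (A ⊗ₖ B) - 1) := by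
      rintro _ ⟨v, hv, rfl⟩
      rw [SetLike.mem_coe, LinearMap.mem_ker, LinearMap.sub_apply, one_smul,
        Module.End.one_apply, sub_eq_zero] at hv
      rw [LinearMap.mem_ker, LinearMap.sub_apply, Module.End.one_apply, sub_eq_zero,
        Matrix.toLin'_apply]
      show (A ⊗ₖ B) *ᵥ (Ψ v) = Ψ v
      rw [← hΨ' v, hv]
    have := Submodule.finrank_mono hmap
    rwa [LinearEquiv.finrank_map_eq] at this

/-- A repeated block of order `r` has no factor kernel of dimension `ord_r(q)`. -/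
theorem IsRep.not_of_factor [FiniteDimensional F V] (r : ℕ) [Fact r.Prime] (hrp : r ≠ p)
    {a b : ℕ} (ha : 2 ≤ a) {h : (Fin b → F) →ₗ[F] (Fin b → F)} {t : V →ₗ[F] V}
    (hr : IsRep a h t) (ht : t ^ r = 1) (g : F[X]) (hg : g ∣ cyclotomic r F)
    (hker : finrank F (LinearMap.ker (aeval t g)) = orderOf ((Fintype.card F : ℕ) : ZMod r)) :
    False := by
  have hipos := order_pos (F := F) r hrp
  have hh : h ^ r = 1 := by
    obtain ⟨Ψ, hΨ⟩ := hr
    apply LinearMap.ext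
    intro u
    have := IsRep.pow_apply hΨ r (Ψ.symm fun _ => u) ⟨0, by omega⟩
    rw [ht, Module.End.one_apply, LinearEquiv.apply_symm_apply] at this
    exact this.symm
  have h2 := hr.finrank_ker g
  have hle : LinearMap.ker (aeval h g) ≤ LinearMap.ker (aeval h (cyclotomic r F)) := by
    intro v hv
    obtain ⟨s, hs⟩ := hg
    rw [LinearMap.mem_ker] at hv ⊢
    rw [hs, mul_comm, map_mul, Module.End.mul_apply, hv, map_zero]
  have hdvd := order_dvd_finrank_inf r hrp h hh (LinearMap.ker (aeval h g)) (inv_ker_aeval h g)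
  rw [inf_eq_left.mpr hle] at hdvd
  obtain ⟨m, hm⟩ := hdvd
  rw [hker, hm] at h2
  have hm0 : 0 < m := by
    rcases Nat.eq_zero_or_pos m with h0 | h0
    · rw [h0, mul_zero, mul_zero] at h2
      omega
    · exact h0
  have : 2 * orderOf ((Fintype.card F : ℕ) : ZMod r) ≤
      a * (orderOf ((Fintype.card F : ℕ) : ZMod r) * m) := by
    calc 2 * orderOf ((Fintype.card F : ℕ) : ZMod r)
        ≤ a * orderOf ((Fintype.card F : ℕ) : ZMod r) := Nat.mul_le_mul_right _ ha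
      _ ≤ a * (orderOf ((Fintype.card F : ℕ) : ZMod r) * m) :=
          Nat.mul_le_mul_left _ (Nat.le_mul_of_pos_right _ hm0)
  omega

end tri

section arith

theorem arith_core (i s1 ν1 s2 ν2 a b fix c : ℕ)
    (ha : a = s1 + i * ν1) (hb : b = s2 + i * ν2) (hfix : fix ≤ s1 * s2 + i * ν1 * ν2)
    (hc : a * b ≤ fix + c) :
    i * (s1 * ν2 + ν1 * s2 + (i - 1) * (ν1 * ν2)) ≤ c := by
  subst ha hb
  rcases Nat.eq_zero_or_pos i with h0 | h0
  · subst h0; simp
  obtain ⟨j, rfl⟩ : ∃ j, i = j + 1 := ⟨i - 1, by omega⟩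
  have h1 : (s1 + (j + 1) * ν1) * (s2 + (j + 1) * ν2) ≤ s1 * s2 + (j + 1) * ν1 * ν2 + c := by
    omega
  have h2 : j + 1 - 1 = j := by omega
  rw [h2]
  nlinarith [h1]

theorem arith_even (i s1 ν1 s2 ν2 a b fix : ℕ) (hi : 2 ≤ i) (hν1 : 1 ≤ ν1) (hν2 : 1 ≤ ν2)
    (ha : a = s1 + i * ν1) (hb : b = s2 + i * ν2) (hfix : fix ≤ s1 * s2 + i * ν1 * ν2)
    (hc : a * b ≤ fix + i) : b ≤ 2 := by
  have h := arith_core i s1 ν1 s2 ν2 a b fix i ha hb hfix hc
  have hpos : 0 < i := by omega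
  have h1 : s1 * ν2 + ν1 * s2 + (i - 1) * (ν1 * ν2) ≤ 1 := by
    by_contra hcon
    have : 2 ≤ s1 * ν2 + ν1 * s2 + (i - 1) * (ν1 * ν2) := by omega
    have := Nat.mul_le_mul_left i this
    omega
  have hP : 1 ≤ ν1 * ν2 := Nat.mul_pos hν1 hν2
  have hi1 : 1 ≤ i - 1 := by omega
  have h2 : 1 ≤ (i - 1) * (ν1 * ν2) := Nat.mul_pos hi1 hP
  have h3 : (i - 1) * (ν1 * ν2) = 1 := by omega
  have h4 : i - 1 = 1 := Nat.eq_one_of_mul_eq_one_right h3
  have h5 : ν1 * ν2 = 1 := Nat.eq_one_of_mul_eq_one_left h3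
  have h6 : ν2 = 1 := Nat.eq_one_of_mul_eq_one_left h5
  have h7 : ν1 = 1 := Nat.eq_one_of_mul_eq_one_right h5
  subst h6 h7
  have h8 : s2 = 0 := by omega
  have h9 : i = 2 := by omega
  subst h8 h9 hb
  omega

theorem arith_odd (i s1 ν1 s2 ν2 a b fix : ℕ) (hi : 3 ≤ i) (hν1 : 1 ≤ ν1) (hν2 : 1 ≤ ν2)
    (ha : a = s1 + i * ν1) (hb : b = s2 + i * ν2) (hfix : fix ≤ s1 * s2 + i * ν1 * ν2)
    (hc : a * b ≤ fix + 2 * i) : a = 3 := by
  have h := arith_core i s1 ν1 s2 ν2 a b fix (2 * i) ha hb hfix hc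
  have hpos : 0 < i := by omega
  have h1 : s1 * ν2 + ν1 * s2 + (i - 1) * (ν1 * ν2) ≤ 2 := by
    by_contra hcon
    have : 3 ≤ s1 * ν2 + ν1 * s2 + (i - 1) * (ν1 * ν2) := by omega
    have := Nat.mul_le_mul_left i this
    omega
  have hP : 1 ≤ ν1 * ν2 := Nat.mul_pos hν1 hν2
  have hi1 : 2 ≤ i - 1 := by omega
  have h2 : 2 * (ν1 * ν2) ≤ (i - 1) * (ν1 * ν2) := Nat.mul_le_mul_right _ hi1
  have h5 : ν1 * ν2 = 1 := by omega
  have h6 : ν2 = 1 := Nat.eq_one_of_mul_eq_one_left h5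
  have h7 : ν1 = 1 := Nat.eq_one_of_mul_eq_one_right h5
  subst h6 h7
  have h3 : i - 1 = 2 := by
    rw [mul_one, mul_one] at h2 h1
    omega
  have h8 : s1 = 0 := by
    rw [mul_one, mul_one] at h1
    omega
  have h9 : i = 3 := by omega
  subst h8 h9 ha
  omega

end arith

end Cfsg.Agent.Lib.Helper9.H9TK
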