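import Mathlib
import Cfsg.Agent.Lib.Helper9.TensS1
import Cfsg.Agent.Lib.Helper9.TensS3
import Cfsg.Agent.Lib.Helper5.SylTor5

set_option autoImplicit false
open scoped MatrixGroups Kronecker

/-! Symplectic matrices from isometries of abstract symplectic spaces, and the hyperbolic
models. -/

namespace Cfsg.Agent.Lib.Helper9.H9TK

open Module Matrix Polynomial
open Cfsg.Agent.Lib.Helper5.SylTor

section intertwine
variable {F : Type*} [Field F] {ι : Type} [Fintype ι] [DecidableEq ι]
  {W : Type*} [AddCommGroup W] [Module F W]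

theorem pow_intertwine (M : Matrix ι ι F) (e : W ≃ₗ[F] (ι → F)) (T : W →ₗ[F] W)
    (h : ∀ v, Matrix.toLin' M (e v) = e (T v)) (k : ℕ) :
    ∀ v : W, Matrix.toLin' (M ^ k) (e v) = e ((T ^ k) v) := by
  induction k with
  | zero => intro v; simp
  | succ k ih =>
    intro v
    rw [pow_succ, Matrix.toLin'_mul, LinearMap.comp_apply, h, ih, pow_succ,
      Module.End.mul_apply]

theorem pow_eq_one_of_intertwine (M : Matrix ι ι F) (e : W ≃ₗ[F] (ι → F)) (T : W →ₗ[F] W)
    (h : ∀ v, Matrix.toLin' M (e v) = e (T v)) (k : ℕ) (hT : T ^ k = 1) : M ^ k = 1 := by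
  apply Matrix.toLin'.injective
  apply LinearMap.ext
  intro w
  have := pow_intertwine M e T h k (e.symm w)
  rw [hT, Module.End.one_apply, LinearEquiv.apply_symm_apply] at this
  rw [this, Matrix.toLin'_one]
  rfl

theorem toLin_pow_eq_one_of_intertwine (M : Matrix ι ι F) (e : W ≃ₗ[F] (ι → F))
    (T : W →ₗ[F] W) (h : ∀ v, Matrix.toLin' M (e v) = e (T v)) (k : ℕ) (hT : T ^ k = 1) :
    (Matrix.toLin' M) ^ k = 1 := by
  rw [← Matrix.toLin'_pow, pow_eq_one_of_intertwine M e T h k hT, Matrix.toLin'_one]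
  rfl

theorem finrank_ker_aeval_intertwine (M : Matrix ι ι F) (e : W ≃ₗ[F] (ι → F)) (T : W →ₗ[F] W)
    (h : ∀ v, Matrix.toLin' M (e v) = e (T v)) (f : F[X]) :
    finrank F (LinearMap.ker (aeval (Matrix.toLin' M) f)) =
      finrank F (LinearMap.ker (aeval T f)) := by
  have hae : ∀ v, aeval (Matrix.toLin' M) f (e v) = e (aeval T f v) :=
    fun v => intertw_aeval (Matrix.toLin' M) T (e : W →ₗ[F] (ι → F)) h f v
  have h1 : LinearMap.ker (aeval (Matrix.toLin' M) f) =
      (LinearMap.ker (aeval T f)).map (e : W →ₗ[F] (ι → F)) := by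
    ext w
    rw [LinearMap.mem_ker, Submodule.mem_map]
    constructor
    · intro hw
      refine ⟨e.symm w, ?_, by simp⟩
      rw [LinearMap.mem_ker]
      apply e.injective
      rw [← hae, LinearEquiv.apply_symm_apply, hw, map_zero]
    · rintro ⟨v, hv, rfl⟩
      rw [LinearMap.mem_ker] at hv
      show aeval (Matrix.toLin' M) f (e v) = 0
      rw [hae, hv, map_zero]
  rw [h1]
  exact LinearEquiv.finrank_map_eq e _

theorem aeval_X_sub_C_end {V : Type*} [AddCommGroup V] [Module F V] (t : V →ₗ[F] V) (μ : F) :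
    aeval t (X - C μ : F[X]) = t - μ • (1 : V →ₗ[F] V) := by
  rw [map_sub, aeval_X, aeval_C, Algebra.algebraMap_eq_smul_one]

/-- A map with a polynomial kernel of intermediate dimension is not scalar. -/
theorem ne_smul_of_finrank_ker {V : Type*} [AddCommGroup V] [Module F V] [FiniteDimensional F V]
    (t : V →ₗ[F] V) (f : F[X]) (h0 : 0 < finrank F (LinearMap.ker (aeval t f)))
    (h1 : finrank F (LinearMap.ker (aeval t f)) < finrank F V) (c : F) : t ≠ c • 1 := by
  intro ht
  have h2 : aeval t f = (f.eval c) • (1 : V →ₗ[F] V) := by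
    rw [ht, ← Algebra.algebraMap_eq_smul_one, aeval_algebraMap_apply, Algebra.algebraMap_eq_smul_one]
    simp
  by_cases hc : f.eval c = 0
  · rw [h2, hc, zero_smul, LinearMap.ker_zero, finrank_top] at h1
    exact lt_irrefl _ h1
  · have h3 : LinearMap.ker (aeval t f) = ⊥ := by
      rw [LinearMap.ker_eq_bot', h2]
      intro v hv
      rw [LinearMap.smul_apply, Module.End.one_apply] at hv
      exact (smul_eq_zero.mp hv).resolve_left hc
    rw [h3, finrank_bot] at h0
    exact lt_irrefl _ h0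

end intertwine

section transfer
variable {F : Type*} [Field F]

/-- An isometry of a nondegenerate alternating space of dimension `2n` is represented by an
element of `spGL n F` in suitable coordinates. -/
theorem exists_sp_intertwine {W : Type*} [AddCommGroup W] [Module F W] [FiniteDimensional F W]
    (B : LinearMap.BilinForm F W) (hB : B.IsAlt) (hnd : ∀ x, (∀ y, B x y = 0) → x = 0)
    {n : ℕ} (hdim : finrank F W = 2 * n) (T : W →ₗ[F] W)
    (hpres : ∀ x y, B (T x) (T y) = B x y) :
    ∃ (x : GL (Fin n ⊕ Fin n) F) (e : W ≃ₗ[F] (Fin n ⊕ Fin n → F)), x ∈ Cfsg.spGL n F ∧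
      ∀ v, Matrix.toLin' (x : Matrix (Fin n ⊕ Fin n) (Fin n ⊕ Fin n) F) (e v) = e (T v) := by
  classical
  obtain ⟨m, b, hm, hb⟩ := Cfsg.Agent.Lib.Helper5.AltForm.exists_symplectic_basis hB hnd
  obtain rfl : m = n := by omega
  have hgram : LinearMap.BilinForm.toMatrix b B = Matrix.J (Fin m) F := by
    ext x y
    rw [LinearMap.BilinForm.toMatrix_apply, hb]
  have hform : ∀ u v, Cfsg.sympForm m F (b.equivFun u) (b.equivFun v) = B u v := by
    intro u v
    rw [LinearMap.BilinForm.apply_eq_dotProduct_toMatrix_mulVec b B u v, hgram]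
    rfl
  have hinj : Function.Injective T := by
    rw [← LinearMap.ker_eq_bot, LinearMap.ker_eq_bot']
    intro v hv
    apply hnd
    intro w
    rw [← hpres, hv, map_zero, LinearMap.zero_apply]
  set Te : W ≃ₗ[F] W := LinearEquiv.ofInjectiveEndo T hinj with hTe
  have hTe_apply : ∀ v, Te v = T v := fun v => rfl
  set θ : (Fin m ⊕ Fin m → F) ≃ₗ[F] (Fin m ⊕ Fin m → F) :=
    b.equivFun.symm ≪≫ₗ Te ≪≫ₗ b.equivFun with hθ
  have hθ_apply : ∀ u, θ u = b.equivFun (T (b.equivFun.symm u)) := fun u => rfl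
  refine ⟨glOfEquiv θ, b.equivFun, ?_, ?_⟩
  · intro u v
    show Cfsg.sympForm m F (((glOfEquiv θ : GL (Fin m ⊕ Fin m) F) :
      Matrix (Fin m ⊕ Fin m) (Fin m ⊕ Fin m) F) *ᵥ u)
      (((glOfEquiv θ : GL (Fin m ⊕ Fin m) F) :
      Matrix (Fin m ⊕ Fin m) (Fin m ⊕ Fin m) F) *ᵥ v) = Cfsg.sympForm m F u v
    rw [glOfEquiv_mulVec, glOfEquiv_mulVec, hθ_apply, hθ_apply, hform, hpres, ← hform,
      LinearEquiv.apply_symm_apply, LinearEquiv.apply_symm_apply]
  · intro v
    rw [Matrix.toLin'_apply, glOfEquiv_mulVec, hθ_apply, LinearEquiv.symm_apply_apply]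

end transfer

section hyp
variable {F : Type*} [Field F] (K : Type*) [Field K] [Algebra F K]

/-- multiplication by `(u, u')` on `K × K` -/
noncomputable def hypMap (u u' : K) : (K × K) →ₗ[F] (K × K) :=
  LinearMap.prodMap (Algebra.lsmul F F K u) (Algebra.lsmul F F K u')

theorem hypMap_apply (u u' : K) (x : K × K) : hypMap (F := F) K u u' x = (u * x.1, u' * x.2) :=
  rfl

theorem hypMap_pres (u u' : K) (h : u * u' = 1) (x y : K × K) :
    hypForm F K (hypMap (F := F) K u u' x) (hypMap (F := F) K u u' y) = hypForm F K x y := by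
  simp only [hypForm_apply, hypMap_apply]
  have h1 : u * x.1 * (u' * y.2) = x.1 * y.2 := by
    rw [mul_mul_mul_comm, h, one_mul]
  have h2 : u' * x.2 * (u * y.1) = x.2 * y.1 := by
    rw [mul_mul_mul_comm, mul_comm u' u, h, one_mul]
  rw [h1, h2]

/-- the map on the model space -/
noncomputable def hypT (m : ℕ) (TK : (K × K) →ₗ[F] (K × K)) :
    ((K × K) × (Fin m → F × F)) →ₗ[F] ((K × K) × (Fin m → F × F)) :=
  LinearMap.prodMap TK LinearMap.id

theorem hypT_apply (m : ℕ) (TK : (K × K) →ₗ[F] (K × K)) (w : (K × K) × (Fin m → F × F)) :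
    hypT K m TK w = (TK w.1, w.2) := rfl

theorem exists_model_hyp [FiniteDimensional F K] [Algebra.IsSeparable F K] (d : ℕ)
    (hk : finrank F K ≤ d) (TK : (K × K) →ₗ[F] (K × K))
    (hTK : ∀ x y, hypForm F K (TK x) (TK y) = hypForm F K x y) :
    ∃ (x : GL (Fin d ⊕ Fin d) F)
      (e : ((K × K) × (Fin (d - finrank F K) → F × F)) ≃ₗ[F] (Fin d ⊕ Fin d → F)),
      x ∈ Cfsg.spGL d F ∧
      ∀ v, Matrix.toLin' (x : Matrix (Fin d ⊕ Fin d) (Fin d ⊕ Fin d) F) (e v) =
        e (hypT K (d - finrank F K) TK v) := by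
  apply exists_sp_intertwine (prodForm (hypForm F K) (piForm _ (hypForm F F)))
    (prodForm_isAlt (hypForm_isAlt F K) (piForm_isAlt _ (hypForm_isAlt F F)))
    (prodForm_nondeg (hypForm_nondeg F K) (piForm_nondeg _ (hypForm_nondeg F F)))
  · rw [Module.finrank_prod, Module.finrank_prod, Module.finrank_pi_fintype]
    simp only [Module.finrank_prod, Finset.sum_const, Finset.card_univ, Fintype.card_fin,
      smul_eq_mul, Module.finrank_self]
    omega
  · intro x y
    rw [prodForm_apply, prodForm_apply, hypT_apply, hypT_apply, hTK]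

/-- the fixed space of the model map is large -/
theorem le_finrank_ker_hypT [FiniteDimensional F K] (m : ℕ) (TK : (K × K) →ₗ[F] (K × K)) :
    2 * m ≤ finrank F (LinearMap.ker (hypT K m TK - (1 : F) • 1)) := by
  have hinj : Function.Injective (LinearMap.inr F (K × K) (Fin m → F × F)) :=
    LinearMap.inr_injective
  have hle : LinearMap.range (LinearMap.inr F (K × K) (Fin m → F × F)) ≤
      LinearMap.ker (hypT K m TK - (1 : F) • 1) := by
    rintro _ ⟨v, rfl⟩
    rw [LinearMap.mem_ker, LinearMap.sub_apply, one_smul, Module.End.one_apply, sub_eq_zero,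
      hypT_apply, LinearMap.inr_apply, map_zero]
  have h1 := Submodule.finrank_mono hle
  rw [LinearMap.finrank_range_of_inj hinj, Module.finrank_pi_fintype] at h1
  simp only [Module.finrank_prod, Finset.sum_const, Finset.card_univ, Fintype.card_fin,
    smul_eq_mul, Module.finrank_self] at h1
  omega

end hyp

end Cfsg.Agent.Lib.Helper9.H9TK
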