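import Mathlib
import Cfsg.Agent.Lib.Helper9.TensS4

set_option autoImplicit false
open scoped MatrixGroups Kronecker

/-! Elements of the symplectic group from the hyperbolic models. -/

namespace Cfsg.Agent.Lib.Helper9.H9TK

open Module Matrix Polynomial
open Cfsg.Agent.Lib.Helper5.SylTor

section hypker
variable {F : Type*} [Field F] (K : Type*) [Field K] [Algebra F K]

theorem aeval_hypT (u u' : K) (m : ℕ) (f : F[X]) :
    ∀ w : (K × K) × (Fin m → F × F), aeval (hypT K m (hypMap (F := F) K u u')) f w =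
      ((aeval u f * w.1.1, aeval u' f * w.1.2), f.eval 1 • w.2) := by
  induction f using Polynomial.induction_on with
  | C c =>
    intro w
    rw [aeval_C, aeval_C, aeval_C, eval_C, Module.algebraMap_end_apply, ← Algebra.smul_def,
      ← Algebra.smul_def]
    rfl
  | add p q hp hq =>
    intro w
    rw [map_add, LinearMap.add_apply, hp, hq, map_add, map_add, eval_add, add_mul, add_mul,
      add_smul]
    rfl
  | monomial n c ih =>
    intro w
    have e1 : (C c * X ^ (n + 1) : F[X]) = (C c * X ^ n) * X := by rw [pow_succ, mul_assoc]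
    have hu : aeval u (C c * X ^ n * X : F[X]) = aeval u (C c * X ^ n : F[X]) * u := by
      rw [map_mul, aeval_X]
    have hu' : aeval u' (C c * X ^ n * X : F[X]) = aeval u' (C c * X ^ n : F[X]) * u' := by
      rw [map_mul, aeval_X]
    have he : eval 1 (C c * X ^ n * X : F[X]) = eval 1 (C c * X ^ n : F[X]) := by
      rw [eval_mul, eval_X, mul_one]
    rw [e1, map_mul, aeval_X, Module.End.mul_apply, ih, hu, hu', he, hypT_apply, hypMap_apply,
      mul_assoc, mul_assoc]

variable [FiniteDimensional F K]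

theorem finrank_ker_hyp_left (u u' : K) (m : ℕ) (f : F[X]) (h0 : aeval u f = 0)
    (h1 : aeval u' f ≠ 0) (h2 : f.eval 1 ≠ 0) :
    finrank F (LinearMap.ker (aeval (hypT K m (hypMap (F := F) K u u')) f)) = finrank F K := by
  let ι₁ : K →ₗ[F] ((K × K) × (Fin m → F × F)) :=
    (LinearMap.inl F (K × K) (Fin m → F × F)).comp (LinearMap.inl F K K)
  have hinj : Function.Injective ι₁ :=
    LinearMap.inl_injective.comp LinearMap.inl_injective
  have hker : LinearMap.ker (aeval (hypT K m (hypMap (F := F) K u u')) f) = LinearMap.range ι₁ := by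
    ext w
    rw [LinearMap.mem_ker, aeval_hypT, LinearMap.mem_range]
    constructor
    · intro hw
      have hw1 := congrArg (fun z : (K × K) × (Fin m → F × F) => z.1.2) hw
      have hw2 := congrArg (fun z : (K × K) × (Fin m → F × F) => z.2) hw
      simp only [Prod.fst_zero, Prod.snd_zero] at hw1 hw2
      have hb : w.1.2 = 0 := (mul_eq_zero.mp hw1).resolve_left h1
      have hv : w.2 = 0 := (smul_eq_zero.mp hw2).resolve_left h2
      refine ⟨w.1.1, ?_⟩
      show ((w.1.1, (0 : K)), (0 : Fin m → F × F)) = w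
      exact Prod.ext (Prod.ext rfl hb.symm) hv.symm
    · rintro ⟨a, rfl⟩
      show ((aeval u f * a, aeval u' f * 0), eval 1 f • (0 : Fin m → F × F)) = 0
      rw [h0, zero_mul, mul_zero, smul_zero]
      rfl
  rw [hker, LinearMap.finrank_range_of_inj hinj]

theorem finrank_ker_hyp_right (u u' : K) (m : ℕ) (f : F[X]) (h0 : aeval u f ≠ 0)
    (h1 : aeval u' f ≠ 0) (h2 : f.eval 1 = 0) :
    finrank F (LinearMap.ker (aeval (hypT K m (hypMap (F := F) K u u')) f)) = 2 * m := by
  have hinj : Function.Injective (LinearMap.inr F (K × K) (Fin m → F × F)) :=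
    LinearMap.inr_injective
  have hker : LinearMap.ker (aeval (hypT K m (hypMap (F := F) K u u')) f) =
      LinearMap.range (LinearMap.inr F (K × K) (Fin m → F × F)) := by
    ext w
    rw [LinearMap.mem_ker, aeval_hypT, LinearMap.mem_range]
    constructor
    · intro hw
      have hw1 := congrArg (fun z : (K × K) × (Fin m → F × F) => z.1.1) hw
      have hw2 := congrArg (fun z : (K × K) × (Fin m → F × F) => z.1.2) hw
      simp only [Prod.fst_zero, Prod.snd_zero] at hw1 hw2
      have ha : w.1.1 = 0 := (mul_eq_zero.mp hw1).resolve_left h0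
      have hb : w.1.2 = 0 := (mul_eq_zero.mp hw2).resolve_left h1
      refine ⟨w.2, ?_⟩
      show (((0 : K), (0 : K)), w.2) = w
      exact Prod.ext (Prod.ext ha.symm hb.symm) rfl
    · rintro ⟨v, rfl⟩
      show ((aeval u f * 0, aeval u' f * 0), eval 1 f • v) = 0
      rw [h2, zero_smul, mul_zero, mul_zero]
      rfl
  rw [hker, LinearMap.finrank_range_of_inj hinj, Module.finrank_pi_fintype]
  simp only [Module.finrank_prod, Finset.sum_const, Finset.card_univ, Fintype.card_fin,
    smul_eq_mul, Module.finrank_self]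
  omega

variable [Algebra.IsSeparable F K]

/-- The element of `spGL d F` attached to a pair `(u, u')` with `u u' = 1`. -/
theorem model_hypMap (d : ℕ) (hk : finrank F K ≤ d) (u u' : K) (huu' : u * u' = 1) (r : ℕ)
    (hur : u ^ r = 1) :
    ∃ x : GL (Fin d ⊕ Fin d) F, x ∈ Cfsg.spGL d F ∧
      ((x ^ r : GL (Fin d ⊕ Fin d) F) : Matrix (Fin d ⊕ Fin d) (Fin d ⊕ Fin d) F) = 1 ∧
      (∀ f : F[X], finrank F (LinearMap.ker (aeval (Matrix.toLin'
        (x : Matrix (Fin d ⊕ Fin d) (Fin d ⊕ Fin d) F)) f)) =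
        finrank F (LinearMap.ker (aeval (hypT K (d - finrank F K) (hypMap (F := F) K u u')) f))) := by
  obtain ⟨x, e, hx, he⟩ := exists_model_hyp K d hk (hypMap (F := F) K u u') (hypMap_pres K u u' huu')
  have hu'r : u' ^ r = 1 := by
    have := congrArg (fun z => z ^ r) huu'
    simp only [mul_pow, hur, one_mul, one_pow] at this
    exact this
  have hT : (hypT K (d - finrank F K) (hypMap (F := F) K u u')) ^ r = 1 := by
    apply LinearMap.ext
    intro w
    have h1 := aeval_hypT K u u' (d - finrank F K) (X ^ r : F[X]) w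
    rw [map_pow, map_pow, map_pow, aeval_X, aeval_X, aeval_X, hur, hu'r, one_mul, one_mul,
      eval_pow, eval_X, one_pow, one_smul] at h1
    rw [h1, Module.End.one_apply]
  refine ⟨x, hx, ?_, fun f => finrank_ker_aeval_intertwine _ e _ he f⟩
  rw [Units.val_pow_eq_pow_val]
  exact pow_eq_one_of_intertwine _ e _ he r hT

end hypker

section models
variable {F : Type*} [Field F]

/-- the involution that is `-1` on a hyperbolic plane -/
theorem model_neg (h2 : (2 : F) ≠ 0) (d : ℕ) (hd : 2 ≤ d) :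
    ∃ x : GL (Fin d ⊕ Fin d) F, x ∈ Cfsg.spGL d F ∧
      ((x ^ 2 : GL (Fin d ⊕ Fin d) F) : Matrix (Fin d ⊕ Fin d) (Fin d ⊕ Fin d) F) = 1 ∧
      (∀ c : F, (x : Matrix (Fin d ⊕ Fin d) (Fin d ⊕ Fin d) F) ≠ c • 1) ∧
      2 * d ≤ finrank F (LinearMap.ker (Matrix.toLin'
        (x : Matrix (Fin d ⊕ Fin d) (Fin d ⊕ Fin d) F) - (1 : F) • 1)) + 2 := by
  have hk : finrank F F ≤ d := by rw [Module.finrank_self]; omega
  obtain ⟨x, hx, hx2, hxf⟩ := model_hypMap (F := F) F d hk (-1) (-1) (by ring) 2 (by ring)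
  have hne : (-1 : F) - 1 ≠ 0 := by
    intro h
    apply h2
    linear_combination -h
  have hff : finrank F F = 1 := Module.finrank_self F
  have hfix : finrank F (LinearMap.ker (Matrix.toLin'
      (x : Matrix (Fin d ⊕ Fin d) (Fin d ⊕ Fin d) F) - (1 : F) • 1)) = 2 * (d - 1) := by
    rw [← aeval_X_sub_C_end, hxf, ← hff]
    apply finrank_ker_hyp_right
    · rw [map_sub, aeval_X, aeval_C]; exact hne
    · rw [map_sub, aeval_X, aeval_C]; exact hne
    · simp
  refine ⟨x, hx, hx2, ?_, by rw [hfix]; omega⟩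
  intro c hc
  have h1 := congrArg Matrix.toLin' hc
  rw [map_smul, Matrix.toLin'_one] at h1
  refine ne_smul_of_finrank_ker (Matrix.toLin' (x : Matrix (Fin d ⊕ Fin d) (Fin d ⊕ Fin d) F))
    (X - C 1) ?_ ?_ c h1
  · rw [aeval_X_sub_C_end, hfix]; omega
  · rw [aeval_X_sub_C_end, hfix, Module.finrank_pi, Fintype.card_sum, Fintype.card_fin]; omega

/-- the diagonal element `(ζ, ζ⁻¹)` on a hyperbolic plane -/
theorem model_diag (ζ : F) (r : ℕ) (hζr : ζ ^ r = 1) (hζ1 : ζ ≠ 1) (hζi : ζ⁻¹ ≠ ζ) (d : ℕ)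
    (hd : 2 ≤ d) :
    ∃ x : GL (Fin d ⊕ Fin d) F, x ∈ Cfsg.spGL d F ∧
      ((x ^ r : GL (Fin d ⊕ Fin d) F) : Matrix (Fin d ⊕ Fin d) (Fin d ⊕ Fin d) F) = 1 ∧
      (∀ c : F, (x : Matrix (Fin d ⊕ Fin d) (Fin d ⊕ Fin d) F) ≠ c • 1) ∧
      2 * d ≤ finrank F (LinearMap.ker (Matrix.toLin'
        (x : Matrix (Fin d ⊕ Fin d) (Fin d ⊕ Fin d) F) - (1 : F) • 1)) + 2 ∧
      finrank F (LinearMap.ker (Matrix.toLin'
        (x : Matrix (Fin d ⊕ Fin d) (Fin d ⊕ Fin d) F) - ζ • 1)) = 1 := by
  have hk : finrank F F ≤ d := by rw [Module.finrank_self]; omega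
  have hζ0 : ζ ≠ 0 := by
    rintro rfl
    apply hζi
    simp
  obtain ⟨x, hx, hxr, hxf⟩ := model_hypMap (F := F) F d hk ζ ζ⁻¹ (mul_inv_cancel₀ hζ0) r hζr
  have hff : finrank F F = 1 := Module.finrank_self F
  have hfix : 2 * (d - 1) ≤ finrank F (LinearMap.ker (Matrix.toLin'
      (x : Matrix (Fin d ⊕ Fin d) (Fin d ⊕ Fin d) F) - (1 : F) • 1)) := by
    rw [← aeval_X_sub_C_end, hxf, aeval_X_sub_C_end, ← hff]
    exact le_finrank_ker_hypT F (d - finrank F F) _
  have heig : finrank F (LinearMap.ker (Matrix.toLin'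
      (x : Matrix (Fin d ⊕ Fin d) (Fin d ⊕ Fin d) F) - ζ • 1)) = 1 := by
    rw [← aeval_X_sub_C_end, hxf]
    rw [finrank_ker_hyp_left, Module.finrank_self]
    · rw [map_sub, aeval_X, aeval_C]; exact sub_self ζ
    · rw [map_sub, aeval_X, aeval_C]
      exact sub_ne_zero.mpr hζi
    · simp only [eval_sub, eval_X, eval_C]
      exact sub_ne_zero.mpr (Ne.symm hζ1)
  refine ⟨x, hx, hxr, ?_, by omega, heig⟩
  intro c hc
  have h1 := congrArg Matrix.toLin' hc
  rw [map_smul, Matrix.toLin'_one] at h1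
  refine ne_smul_of_finrank_ker (Matrix.toLin' (x : Matrix (Fin d ⊕ Fin d) (Fin d ⊕ Fin d) F))
    (X - C ζ) ?_ ?_ c h1
  · rw [aeval_X_sub_C_end, heig]; omega
  · rw [aeval_X_sub_C_end, heig, Module.finrank_pi, Fintype.card_sum, Fintype.card_fin]; omega

end models

section transv
variable {F : Type*} [Field F]

/-- the transvection on `F × F` -/
noncomputable def trvMap : (F × F) →ₗ[F] (F × F) :=
  (LinearMap.fst F F F + LinearMap.snd F F F).prod (LinearMap.snd F F F)

theorem trvMap_apply (x : F × F) : trvMap (F := F) x = (x.1 + x.2, x.2) := rfl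

theorem trvMap_pres (x y : F × F) :
    hypForm F F (trvMap x) (trvMap y) = hypForm F F x y := by
  simp only [hypForm_apply, trvMap_apply, Algebra.trace_self_apply]
  ring

theorem hypT_trv_pow (m : ℕ) (k : ℕ) :
    ∀ w : (F × F) × (Fin m → F × F),
      ((hypT F m (trvMap (F := F))) ^ k) w = ((w.1.1 + (k : F) * w.1.2, w.1.2), w.2) := by
  induction k with
  | zero => intro w; simp
  | succ k ih =>
    intro w
    rw [pow_succ, Module.End.mul_apply, ih, hypT_apply, trvMap_apply]
    push_cast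
    ext <;> simp <;> ring

/-- a symplectic transvection -/
theorem model_transvection (p : ℕ) [CharP F p] (d : ℕ) (hd : 1 ≤ d) :
    ∃ x : GL (Fin d ⊕ Fin d) F, x ∈ Cfsg.spGL d F ∧
      ((x ^ p : GL (Fin d ⊕ Fin d) F) : Matrix (Fin d ⊕ Fin d) (Fin d ⊕ Fin d) F) = 1 ∧
      (∀ c : F, (x : Matrix (Fin d ⊕ Fin d) (Fin d ⊕ Fin d) F) ≠ c • 1) ∧
      2 * d ≤ finrank F (LinearMap.ker (Matrix.toLin'
        (x : Matrix (Fin d ⊕ Fin d) (Fin d ⊕ Fin d) F) - (1 : F) • 1)) + 1 := by
  have hk : finrank F F ≤ d := by rw [Module.finrank_self]; omega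
  obtain ⟨x, e, hx, he⟩ := exists_model_hyp F d hk (trvMap (F := F)) trvMap_pres
  have hff : finrank F F = 1 := Module.finrank_self F
  generalize hm : d - finrank F F = m at e he
  have hT : (hypT F m (trvMap (F := F))) ^ p = 1 := by
    apply LinearMap.ext
    intro w
    rw [hypT_trv_pow, CharP.cast_eq_zero, zero_mul, add_zero, Module.End.one_apply]
  -- the fixed space
  let ι₁ : (F × (Fin m → F × F)) →ₗ[F] ((F × F) × (Fin m → F × F)) :=
    LinearMap.prodMap (LinearMap.inl F F F) LinearMap.id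
  have hι₁ : ∀ z, ι₁ z = ((z.1, 0), z.2) := fun z => rfl
  have hinj : Function.Injective ι₁ := by
    intro z z' h
    rw [hι₁, hι₁] at h
    have h1 := congrArg (fun w : (F × F) × (Fin m → F × F) => w.1.1) h
    have h2 := congrArg (fun w : (F × F) × (Fin m → F × F) => w.2) h
    exact Prod.ext h1 h2
  have hle : LinearMap.range ι₁ ≤
      LinearMap.ker (aeval (hypT F m (trvMap (F := F))) (X - C 1 : F[X])) := by
    rintro _ ⟨z, rfl⟩
    rw [LinearMap.mem_ker, aeval_X_sub_C_end, LinearMap.sub_apply, one_smul, Module.End.one_apply,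
      sub_eq_zero, hι₁, hypT_apply, trvMap_apply]
    simp
  have hfix : 2 * d ≤ finrank F (LinearMap.ker (Matrix.toLin'
      (x : Matrix (Fin d ⊕ Fin d) (Fin d ⊕ Fin d) F) - (1 : F) • 1)) + 1 := by
    rw [← aeval_X_sub_C_end, finrank_ker_aeval_intertwine _ e _ he]
    have h1 := Submodule.finrank_mono hle
    rw [LinearMap.finrank_range_of_inj hinj, Module.finrank_prod, Module.finrank_pi_fintype] at h1
    simp only [Module.finrank_prod, Finset.sum_const, Finset.card_univ, Fintype.card_fin,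
      smul_eq_mul, Module.finrank_self] at h1
    omega
  refine ⟨x, hx, ?_, ?_, hfix⟩
  · rw [Units.val_pow_eq_pow_val]
    exact pow_eq_one_of_intertwine _ e _ he p hT
  · intro c hc
    have h1 := he (((0 : F), (1 : F)), (0 : Fin m → F × F))
    rw [hc, map_smul, Matrix.toLin'_one, LinearMap.smul_apply, LinearMap.id_apply, hypT_apply,
      trvMap_apply, ← map_smul] at h1
    have h2 := e.injective h1
    have h3 := congrArg (fun w : (F × F) × (Fin m → F × F) => w.1.1) h2
    simp at h3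

end transv

end Cfsg.Agent.Lib.Helper9.H9TK
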