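import Mathlib
import Cfsg.Agent.Lib.Helper9.TensS5
import Cfsg.Agent.Lib.Helper7.CarveL5
import Cfsg.Agent.S0245
import Cfsg.Agent.Lib.Helper1.SpCard

set_option autoImplicit false
open scoped MatrixGroups Kronecker

/-! Elements of odd prime order of the symplectic group with a single block. -/

namespace Cfsg.Agent.Lib.Helper9.H9TK

open Module Matrix Polynomial
open Cfsg.Agent.Lib.Helper5.SylTor
open Cfsg.Agent.H9SemiInv
open Cfsg.Agent.Lib.Helper9.H9Elus

section galois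
variable {F : Type*} [Field F] [Finite F]

/-- For an irreducible polynomial of odd degree over a finite field, the inverse of a root is
not a root (unless it is the root itself). -/
theorem aeval_inv_root_ne_zero (g : F[X]) [Fact (Irreducible g)] (hodd : Odd g.natDegree)
    (ρ' : AdjoinRoot g) (h1 : AdjoinRoot.root g * ρ' = 1) (h2 : ρ' ≠ AdjoinRoot.root g) :
    aeval ρ' g ≠ 0 := by
  intro h0
  have hg0 : g ≠ 0 := (Fact.out : Irreducible g).ne_zero
  have : FiniteDimensional F (AdjoinRoot g) := (AdjoinRoot.powerBasis hg0).finite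
  have : Finite (AdjoinRoot g) := Module.finite_of_finite F
  have hK : finrank F (AdjoinRoot g) = g.natDegree := by
    rw [(AdjoinRoot.powerBasis hg0).finrank, AdjoinRoot.powerBasis_dim]
  have h0' : g.eval₂ (Algebra.ofId F (AdjoinRoot g)) ρ' = 0 := by
    rw [aeval_def] at h0
    exact h0
  let σ : AdjoinRoot g →ₐ[F] AdjoinRoot g :=
    AdjoinRoot.liftAlgHom g (Algebra.ofId F (AdjoinRoot g)) ρ' h0'
  have hσρ : σ (AdjoinRoot.root g) = ρ' := AdjoinRoot.liftAlgHom_root g _ ρ' h0'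
  have hρ'0 : ρ' ≠ 0 := by
    rintro rfl
    rw [mul_zero] at h1
    exact zero_ne_one h1
  have hσρ' : σ ρ' = AdjoinRoot.root g := by
    have h3 : σ (AdjoinRoot.root g) * σ ρ' = 1 := by rw [← map_mul, h1, map_one]
    rw [hσρ] at h3
    apply mul_left_cancel₀ hρ'0
    rw [h3, mul_comm, h1]
  have hσσ : σ.comp σ = AlgHom.id F (AdjoinRoot g) := by
    apply AdjoinRoot.algHom_ext
    rw [AlgHom.comp_apply, hσρ, hσρ']
    rfl
  let τ : AdjoinRoot g ≃ₐ[F] AdjoinRoot g := AlgEquiv.ofAlgHom σ σ hσσ hσσ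
  have hτ : ∀ z, τ z = σ z := fun z => rfl
  have hτ2 : τ ^ 2 = 1 := by
    apply AlgEquiv.ext
    intro z
    rw [pow_two, AlgEquiv.mul_apply, AlgEquiv.one_apply, hτ, hτ]
    exact congrArg (fun f : AdjoinRoot g →ₐ[F] AdjoinRoot g => f z) hσσ
  have hτ1 : τ ≠ 1 := by
    intro h
    have h3 := congrArg (fun f : AdjoinRoot g ≃ₐ[F] AdjoinRoot g => f (AdjoinRoot.root g)) h
    simp only [AlgEquiv.one_apply] at h3
    rw [hτ, hσρ] at h3
    exact h2 h3
  have : Fact (Nat.Prime 2) := ⟨Nat.prime_two⟩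
  have hord : orderOf τ = 2 := orderOf_eq_prime hτ2 hτ1
  have hdvd : 2 ∣ Nat.card (AdjoinRoot g ≃ₐ[F] AdjoinRoot g) := by
    rw [← hord]
    exact orderOf_dvd_natCard τ
  rw [IsGalois.card_aut_eq_finrank, hK] at hdvd
  exact (Nat.not_even_iff_odd.mpr hodd) (even_iff_two_dvd.mpr hdvd)

end galois

section blocks
universe u
variable {F : Type u} [Field F] [Fintype F] {p : ℕ} [Fact p.Prime] [CharP F p]

theorem ne_smul_of_pow_eq_one {V : Type*} [AddCommGroup V] [Module F V] (r : ℕ) [Fact r.Prime]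
    (hi : 2 ≤ orderOf ((Fintype.card F : ℕ) : ZMod r)) (t : V →ₗ[F] V) (ht : t ^ r = 1)
    (ht1 : t ≠ 1) (c : F) : t ≠ c • 1 := by
  intro h
  have hr : r.Prime := Fact.out
  obtain ⟨v, hv⟩ : ∃ v, t v ≠ v := by
    by_contra hcon
    push Not at hcon
    exact ht1 (LinearMap.ext hcon)
  have hv0 : v ≠ 0 := by
    rintro rfl
    exact hv (map_zero t)
  have hcr : c ^ r = 1 := by
    have h1 := congrArg (fun f : V →ₗ[F] V => f v) ht
    rw [h] at h1
    simp only [_root_.smul_pow, one_pow, LinearMap.smul_apply, Module.End.one_apply] at h1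
    have h2 : (c ^ r - 1) • v = 0 := by rw [sub_smul, one_smul, h1, sub_self]
    rcases smul_eq_zero.mp h2 with h3 | h3
    · exact sub_eq_zero.mp h3
    · exact absurd h3 hv0
  have hc0 : c ≠ 0 := by
    rintro rfl
    rw [zero_pow hr.ne_zero] at hcr
    exact zero_ne_one hcr
  have hnd : ¬ r ∣ Fintype.card F - 1 := by
    intro hd
    have := (orderOf_eq_one_iff_dvd r (Fintype.card F) Fintype.card_pos).mpr hd
    omega
  have h2 := FiniteField.pow_card_sub_one_eq_one c hc0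
  have hcop : Nat.Coprime r (Fintype.card F - 1) := (Nat.Prime.coprime_iff_not_dvd hr).mpr hnd
  have hc1 : c = 1 := (pow_eq_one_iff_of_coprime hcop).mp ⟨hcr, h2⟩
  apply ht1
  rw [h, hc1, one_smul]

/-- The single block of odd dimension together with its dual. -/
theorem model_odd (r : ℕ) [Fact r.Prime] (hrp : r ≠ p) (hr2 : r ≠ 2) (d : ℕ)
    (hi3 : 3 ≤ orderOf ((Fintype.card F : ℕ) : ZMod r))
    (hodd : Odd (orderOf ((Fintype.card F : ℕ) : ZMod r)))
    (hid : orderOf ((Fintype.card F : ℕ) : ZMod r) ≤ d) :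
    ∃ (x : GL (Fin d ⊕ Fin d) F) (g : F[X]), x ∈ Cfsg.spGL d F ∧
      ((x ^ r : GL (Fin d ⊕ Fin d) F) : Matrix (Fin d ⊕ Fin d) (Fin d ⊕ Fin d) F) = 1 ∧
      (∀ c : F, (x : Matrix (Fin d ⊕ Fin d) (Fin d ⊕ Fin d) F) ≠ c • 1) ∧
      g ∣ cyclotomic r F ∧
      finrank F (LinearMap.ker (aeval (Matrix.toLin'
        (x : Matrix (Fin d ⊕ Fin d) (Fin d ⊕ Fin d) F)) g)) =
          orderOf ((Fintype.card F : ℕ) : ZMod r) ∧
      2 * d ≤ finrank F (LinearMap.ker (Matrix.toLin'
        (x : Matrix (Fin d ⊕ Fin d) (Fin d ⊕ Fin d) F) - (1 : F) • 1)) +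
          2 * orderOf ((Fintype.card F : ℕ) : ZMod r) := by
  classical
  have hr : r.Prime := Fact.out
  set i := orderOf ((Fintype.card F : ℕ) : ZMod r) with hidef
  have hnu : ¬ IsUnit (cyclotomic r F) := by
    intro hu
    have := natDegree_eq_zero_of_isUnit hu
    rw [natDegree_cyclotomic, Nat.totient_prime hr] at this
    have := hr.two_le
    omega
  obtain ⟨g, hg, hgd⟩ := WfDvdMonoid.exists_irreducible_factor hnu (cyclotomic_ne_zero r F)
  have hgdeg : g.natDegree = i := natDegree_of_dvd_cyclotomic r hrp g hg hgd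
  have : Fact (Irreducible g) := ⟨hg⟩
  have hg0 : g ≠ 0 := hg.ne_zero
  have : FiniteDimensional F (AdjoinRoot g) := (AdjoinRoot.powerBasis hg0).finite
  have hK : finrank F (AdjoinRoot g) = i := by
    rw [(AdjoinRoot.powerBasis hg0).finrank, AdjoinRoot.powerBasis_dim, hgdeg]
  have hroot : (AdjoinRoot.root g) ^ r = 1 := by
    have hdvd : g ∣ X ^ r - 1 := by
      rw [← cyclotomic_prime_mul_X_sub_one F r]
      exact Dvd.dvd.mul_right hgd _
    obtain ⟨s, hs⟩ := hdvd
    have h := congrArg (eval₂ (AdjoinRoot.of g) (AdjoinRoot.root g)) hs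
    rw [eval₂_mul, AdjoinRoot.eval₂_root, zero_mul, eval₂_sub, eval₂_pow, eval₂_X, eval₂_one,
      sub_eq_zero] at h
    exact h
  have hroot1 : AdjoinRoot.root g ≠ 1 := by
    intro h
    have h1 : AdjoinRoot.mk g X = AdjoinRoot.mk g (C 1) := by
      rw [AdjoinRoot.mk_X, AdjoinRoot.mk_C, h, map_one]
    rw [AdjoinRoot.mk_eq_mk] at h1
    have h2 := natDegree_le_of_dvd h1 (X_sub_C_ne_zero 1)
    rw [natDegree_X_sub_C, hgdeg] at h2
    omega
  set ρ := AdjoinRoot.root g with hρ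
  set ρ' := ρ ^ (r - 1) with hρ'
  have huu' : ρ * ρ' = 1 := by
    rw [hρ', ← pow_succ']
    have : r - 1 + 1 = r := Nat.sub_add_cancel hr.one_le
    rw [this, hroot]
  have hρ'ne : ρ' ≠ ρ := by
    intro h
    rw [h] at huu'
    obtain ⟨k, hk⟩ := hr.odd_of_ne_two hr2
    have h3 : ρ ^ r = ρ := by
      rw [hk, pow_succ, pow_mul, pow_two, huu', one_pow, one_mul]
    rw [hroot] at h3
    exact hroot1 h3.symm
  have hG : aeval ρ' g ≠ 0 :=
    aeval_inv_root_ne_zero g (by rw [hgdeg]; exact hodd) ρ' huu' hρ'ne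
  have hg1 : g.eval 1 ≠ 0 := by
    intro h
    obtain ⟨s, hs⟩ := hgd
    have h1 := congrArg (eval 1) hs
    rw [eval_one_cyclotomic_prime, eval_mul, h, zero_mul] at h1
    exact cast_ne_zero_of_ne (F := F) r hrp h1
  have hgρ : aeval ρ g = 0 := by
    rw [aeval_def, AdjoinRoot.algebraMap_eq, AdjoinRoot.eval₂_root]
  obtain ⟨x, hx, hxr, hxf⟩ := model_hypMap (F := F) (AdjoinRoot g) d (by rw [hK]; exact hid)
    ρ ρ' huu' r hroot
  have hker : finrank F (LinearMap.ker (aeval (Matrix.toLin'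
      (x : Matrix (Fin d ⊕ Fin d) (Fin d ⊕ Fin d) F)) g)) = i := by
    rw [hxf, finrank_ker_hyp_left _ _ _ _ _ hgρ hG hg1, hK]
  have hfix : 2 * (d - i) ≤ finrank F (LinearMap.ker (Matrix.toLin'
      (x : Matrix (Fin d ⊕ Fin d) (Fin d ⊕ Fin d) F) - (1 : F) • 1)) := by
    rw [← aeval_X_sub_C_end, hxf, aeval_X_sub_C_end, ← hK]
    exact le_finrank_ker_hypT (AdjoinRoot g) (d - finrank F (AdjoinRoot g)) _
  refine ⟨x, g, hx, hxr, ?_, hgd, hker, by omega⟩
  intro c hc
  have h1 := congrArg Matrix.toLin' hc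
  rw [map_smul, Matrix.toLin'_one] at h1
  refine ne_smul_of_finrank_ker (Matrix.toLin' (x : Matrix (Fin d ⊕ Fin d) (Fin d ⊕ Fin d) F))
    g ?_ ?_ c h1
  · rw [hker]; omega
  · rw [hker, Module.finrank_pi, Fintype.card_sum, Fintype.card_fin]; omega

/-- The single block of even dimension. -/
theorem model_even (r : ℕ) [Fact r.Prime] (hrp : r ≠ p) (d h : ℕ) (hh : 1 ≤ h) (hhd : h ≤ d)
    (hi : orderOf ((Fintype.card F : ℕ) : ZMod r) = 2 * h)
    (hrq : r ∣ Fintype.card F ^ h + 1) :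
    ∃ x : GL (Fin d ⊕ Fin d) F, x ∈ Cfsg.spGL d F ∧
      ((x ^ r : GL (Fin d ⊕ Fin d) F) : Matrix (Fin d ⊕ Fin d) (Fin d ⊕ Fin d) F) = 1 ∧
      (∀ c : F, (x : Matrix (Fin d ⊕ Fin d) (Fin d ⊕ Fin d) F) ≠ c • 1) ∧
      finrank F (LinearMap.ker (aeval (Matrix.toLin'
        (x : Matrix (Fin d ⊕ Fin d) (Fin d ⊕ Fin d) F)) (cyclotomic r F))) =
          orderOf ((Fintype.card F : ℕ) : ZMod r) ∧
      2 * d ≤ finrank F (LinearMap.ker (Matrix.toLin'
        (x : Matrix (Fin d ⊕ Fin d) (Fin d ⊕ Fin d) F) - (1 : F) • 1)) +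
          orderOf ((Fintype.card F : ℕ) : ZMod r) := by
  classical
  have hr : r.Prime := Fact.out
  obtain ⟨W, i1, i2, i3, B, T, hB, hnd, hdim, hpres, hT, hrk⟩ :=
    Cfsg.Agent.Lib.Helper7.CarveL5Aux.exists_model (F := F) d h r hh hhd hr hrq
  obtain ⟨x, e, hx, he⟩ := exists_sp_intertwine B hB hnd hdim T hpres
  obtain ⟨t, ht⟩ : ∃ t, t = Matrix.toLin' (x : Matrix (Fin d ⊕ Fin d) (Fin d ⊕ Fin d) F) :=
    ⟨_, rfl⟩
  have htr : t ^ r = 1 := by
    rw [ht]
    exact toLin_pow_eq_one_of_intertwine _ e T he r hT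
  have hfix : finrank F (LinearMap.ker (t - (1 : F) • 1)) + 2 * h = 2 * d := by
    rw [← aeval_X_sub_C_end, ht, finrank_ker_aeval_intertwine _ e T he, aeval_X_sub_C_end,
      one_smul, ← hrk, ← hdim, add_comm]
    exact LinearMap.finrank_range_add_finrank_ker (T - 1)
  have hcyc : finrank F (LinearMap.ker (aeval t (cyclotomic r F))) = 2 * h := by
    have hc := Submodule.finrank_add_eq_of_isCompl (isCompl_ker r hrp t htr)
    have e1 : aeval t (X - 1 : F[X]) = t - (1 : F) • 1 := by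
      rw [map_sub, aeval_X, map_one, one_smul]
    rw [e1, Module.finrank_pi, Fintype.card_sum, Fintype.card_fin] at hc
    omega
  have ht1 : t ≠ 1 := by
    intro h1
    rw [h1, one_smul, sub_self, LinearMap.ker_zero, finrank_top, Module.finrank_pi,
      Fintype.card_sum, Fintype.card_fin] at hfix
    omega
  refine ⟨x, hx, ?_, ?_, by rw [← ht, hcyc, hi], by rw [← ht]; omega⟩
  · rw [Units.val_pow_eq_pow_val]
    exact pow_eq_one_of_intertwine _ e T he r hT
  · intro c hc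
    have h1 := congrArg Matrix.toLin' hc
    rw [map_smul, Matrix.toLin'_one, ← ht] at h1
    exact ne_smul_of_pow_eq_one r (by omega) t htr ht1 c h1

end blocks

section orderCases
variable {F : Type*} [Field F] [Fintype F] {p : ℕ} [Fact p.Prime] [CharP F p]

theorem card_spGL' (d : ℕ) :
    Nat.card ↥(Cfsg.spGL d F) = Nat.card (Matrix.symplecticGroup (Fin d) F) := by
  symm
  apply Nat.card_congr
  refine ⟨fun A => ⟨(Matrix.symplecticGroup (Fin d) F).subtype.toHomUnits A, ?_⟩,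
    fun g => ⟨(g.1 : Matrix _ _ F), ?_⟩, ?_, ?_⟩
  · intro u v
    exact Cfsg.Agent.Lib.Helper1.SpBasic.form_mulVec A u v
  · rw [Cfsg.Agent.Lib.Helper1.SpCard.mem_symplectic_iff_form]
    exact g.2
  · intro A
    rfl
  · intro g
    apply Subtype.ext
    apply Units.ext
    rfl

/-- The possibilities for `ord_r(q)` when `r` divides the order of the symplectic group. -/
theorem order_cases_of_dvd_card_sp (r : ℕ) [Fact r.Prime] (hrp : r ≠ p) (d : ℕ)
    (hd : r ∣ Nat.card ↥(Cfsg.spGL d F)) :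
    (∃ h, 1 ≤ h ∧ h ≤ d ∧ orderOf ((Fintype.card F : ℕ) : ZMod r) = 2 * h ∧
      r ∣ Fintype.card F ^ h + 1) ∨
    (Odd (orderOf ((Fintype.card F : ℕ) : ZMod r)) ∧
      orderOf ((Fintype.card F : ℕ) : ZMod r) ≤ d) := by
  have hr : r.Prime := Fact.out
  have hp : p.Prime := Fact.out
  have hipos := order_pos (F := F) r hrp
  have hq1 : 1 ≤ Fintype.card F := Fintype.card_pos
  rw [card_spGL', Cfsg.Agent.S0245.result rfl d] at hd
  have hrq : ¬ r ∣ Fintype.card F := by
    intro h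
    obtain ⟨f, -, hf⟩ := FiniteField.card F p
    rw [hf] at h
    exact hrp ((Nat.prime_dvd_prime_iff_eq hr hp).mp (hr.dvd_of_dvd_pow h))
  rcases (Nat.Prime.dvd_mul hr).mp hd with h | h
  · exact absurd (hr.dvd_of_dvd_pow h) hrq
  obtain ⟨j, hj, hjd⟩ := (Prime.dvd_finsetProd_iff (Nat.Prime.prime hr) _).mp h
  rw [Finset.mem_range] at hj
  have h1 := (orderOf_dvd_iff_dvd r (Fintype.card F) hq1 (2 * (j + 1))).mpr hjd
  set i := orderOf ((Fintype.card F : ℕ) : ZMod r) with hidef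
  rcases Nat.even_or_odd i with hev | hod
  · left
    obtain ⟨h', hh'⟩ := hev
    have hi2 : i = 2 * h' := by omega
    have hh'1 : 1 ≤ h' := by omega
    have hdvd : h' ∣ j + 1 := by
      rw [hi2] at h1
      exact (Nat.mul_dvd_mul_iff_left (by norm_num : 0 < 2)).mp h1
    have hle := Nat.le_of_dvd (by omega) hdvd
    refine ⟨h', hh'1, by omega, hi2, ?_⟩
    -- `q ^ h' = -1` in `ZMod r`
    have hne1 : ((Fintype.card F : ℕ) : ZMod r) ^ h' ≠ 1 := by
      intro h2
      have := orderOf_dvd_of_pow_eq_one h2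
      have := Nat.le_of_dvd (by omega) this
      omega
    have hsq : (((Fintype.card F : ℕ) : ZMod r) ^ h') ^ 2 = 1 := by
      rw [← pow_mul, mul_comm, ← hi2]
      exact pow_orderOf_eq_one _
    have hm1 : ((Fintype.card F : ℕ) : ZMod r) ^ h' = -1 := by
      have h3 : (((Fintype.card F : ℕ) : ZMod r) ^ h' - 1) *
          (((Fintype.card F : ℕ) : ZMod r) ^ h' + 1) = 0 := by
        linear_combination hsq
      rcases mul_eq_zero.mp h3 with h4 | h4
      · exact absurd (sub_eq_zero.mp h4) hne1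
      · exact eq_neg_of_add_eq_zero_left h4
    rw [← ZMod.natCast_eq_zero_iff]
    push_cast
    rw [hm1]
    ring
  · right
    refine ⟨hod, ?_⟩
    have hcop : Nat.Coprime i 2 := Nat.coprime_two_right.mpr hod
    have hdvd : i ∣ j + 1 := hcop.dvd_of_dvd_mul_left h1
    have hle := Nat.le_of_dvd (by omega) hdvd
    omega

end orderCases

end Cfsg.Agent.Lib.Helper9.H9TK
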