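import Mathlib

set_option autoImplicit false

/-! S4409, package PQ, part (CF): coprime action on an abelian section `X / N` with `⁅X, H⁆ = X`
has no fixed points.  Proved with the norm map into the abelianization of `X`. -/

namespace Cfsg.Agent.Lib.Helper8.SmTwo

universe u

variable {G : Type u} [Group G]

/-- conjugation by `h ∈ N(X)` as an endomorphism of `↥X` -/
def pq_conjHom (X : Subgroup G) (h : G) (hh : h ∈ Subgroup.normalizer (X : Set G)) : ↥X →* ↥X :=
  MonoidHom.mk' (fun x => ⟨h * x * h⁻¹, (Subgroup.mem_normalizer_iff.mp hh x).mp x.2⟩) (by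
    intro a b
    apply Subtype.ext
    simp only [Subgroup.coe_mul]
    group)

theorem pq_conjHom_coe (X : Subgroup G) (h : G) (hh : h ∈ Subgroup.normalizer (X : Set G))
    (x : X) : ((pq_conjHom X h hh x : X) : G) = h * x * h⁻¹ := rfl

/-- (CF) coprime action on the abelian section `X / N` with `⁅X, H⁆ = X`: no fixed points -/
theorem centralizer_le_of_commutator_eq [Finite G] (X H N : Subgroup G)
    (hHX : H ≤ Subgroup.normalizer (X : Set G)) (_hHN : H ≤ Subgroup.normalizer (N : Set G))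
    (_hNX : N ≤ X) (hab : ⁅X, X⁆ ≤ N) (hcop : (Nat.card H).Coprime (Nat.card X))
    (hcomm : ⁅X, H⁆ = X) : X ⊓ Subgroup.centralizer (H : Set G) ≤ N := by
  classical
  have := Fintype.ofFinite H
  -- the norm map
  obtain ⟨ν, hν⟩ : ∃ ν : ↥X →* Abelianization ↥X,
      ∀ x, ν x = ∏ h : H, Abelianization.of (pq_conjHom X h (hHX h.2) x) := by
    refine ⟨∏ h : H, Abelianization.of.comp (pq_conjHom X h (hHX h.2)), fun x => ?_⟩
    rw [MonoidHom.finsetProd_apply]
    rfl
  -- `ν` is invariant under conjugation by `k ∈ H`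
  have hinv : ∀ (k : H) (x : X), ν (pq_conjHom X k (hHX k.2) x) = ν x := by
    intro k x
    rw [hν, hν]
    apply Fintype.prod_equiv (Equiv.mulRight k)
    intro h
    congr 1
    apply Subtype.ext
    simp only [pq_conjHom_coe, Equiv.coe_mulRight, Subgroup.coe_mul]
    group
  -- `ν` kills `⁅X, H⁆ = X`
  have hker : X ≤ (ν.ker).map X.subtype := by
    have hle : ⁅X, H⁆ ≤ (ν.ker).map X.subtype := by
      rw [Subgroup.commutator_le]
      intro x hx k hk
      refine ⟨⟨x, hx⟩ * (pq_conjHom X k (hHX hk) ⟨x, hx⟩)⁻¹, ?_, ?_⟩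
      · rw [SetLike.mem_coe, MonoidHom.mem_ker, map_mul, map_inv, hinv ⟨k, hk⟩, mul_inv_cancel]
      · rw [commutatorElement_def]
        simp only [Subgroup.coe_subtype, Subgroup.coe_mul, Subgroup.coe_inv, pq_conjHom_coe]
        group
    intro x hx
    exact hle (hcomm.symm ▸ hx)
  have hall : ∀ x : X, ν x = 1 := by
    intro x
    obtain ⟨y, hy, hyx⟩ := hker x.2
    have : y = x := Subtype.ext hyx
    rw [← this]
    exact MonoidHom.mem_ker.mp hy
  -- fixed points
  intro c hc
  obtain ⟨hcX, hcH⟩ := Subgroup.mem_inf.mp hc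
  have hfix : ∀ h : H, pq_conjHom X h (hHX h.2) ⟨c, hcX⟩ = ⟨c, hcX⟩ := by
    intro h
    apply Subtype.ext
    rw [pq_conjHom_coe]
    have := (Subgroup.mem_centralizer_iff.mp hcH) h h.2
    calc (h : G) * c * (h : G)⁻¹ = c * h * (h : G)⁻¹ := by rw [this]
      _ = c := by group
  have h1 : ν ⟨c, hcX⟩ = Abelianization.of (⟨c, hcX⟩ : X) ^ Fintype.card H := by
    rw [hν]
    simp only [hfix]
    rw [Finset.prod_const, Finset.card_univ]
  have h2 : (⟨c, hcX⟩ : X) ^ Fintype.card H ∈ commutator ↥X := by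
    rw [← Abelianization.ker_of, MonoidHom.mem_ker, map_pow, ← h1]
    exact hall _
  have hcop' : Nat.Coprime (Fintype.card H) (orderOf (⟨c, hcX⟩ : X)) := by
    rw [← Nat.card_eq_fintype_card]
    exact Nat.Coprime.coprime_dvd_right (orderOf_dvd_natCard _) hcop
  obtain ⟨m, hm⟩ := exists_pow_eq_self_of_coprime hcop'
  have h3 : (⟨c, hcX⟩ : X) ∈ commutator ↥X := by
    rw [← hm]
    exact Subgroup.pow_mem _ h2 m
  apply hab
  rw [← Subgroup.map_subtype_commutator]
  exact ⟨⟨c, hcX⟩, h3, rfl⟩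

end Cfsg.Agent.Lib.Helper8.SmTwo
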