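import Mathlib
import Cfsg.Prelude
import Cfsg.Agent.Lib.Helper2.MaxTS8
import Cfsg.Agent.Lib.Helper9.OrthMax6

set_option autoImplicit false
set_option maxHeartbeats 800000

/-! The two families of maximal totally singular subspaces are preserved by `Ω`. -/

namespace Cfsg.Agent.H9Orth

open Matrix Module Cfsg.Agent.Lib.Helper2.MaxTS2 Cfsg.Agent.Lib.Helper2.ReflGen
  Cfsg.Agent.Lib.Helper2.CDG Cfsg.Agent.Lib.Helper2.LongRoot

section abstract

variable {F V : Type*} [Field F] [AddCommGroup V] [Module F V] [FiniteDimensional F V]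
variable {Q : QuadraticForm F V}

/-- a submaximal totally singular subspace lies in at most two maximal ones (any form) -/
theorem twoThrough_general (hQ : (QuadraticMap.polarBilin Q).Nondegenerate) {m : ℕ}
    (hV : finrank F V = 2 * m) : TwoThrough Q m := by
  intro U W hU hUm hW hWm hadj Y hY hYm hle
  by_cases hYU : Y ≤ U
  · left
    exact Submodule.eq_of_le_of_finrank_eq hYU (by rw [hYm, hUm])
  · right
    obtain ⟨H, hH⟩ : ∃ H, H = U ⊓ W := ⟨_, rfl⟩
    rw [← hH] at hadj hle
    have hHU : H ≤ U := hH ▸ inf_le_left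
    have hHW : H ≤ W := hH ▸ inf_le_right
    have hUperp : U ≤ perp Q H :=
      (le_orthogonal_of_isTS hU).trans (LinearMap.BilinForm.orthogonal_le hHU)
    have hWperp : W ≤ perp Q H :=
      (le_orthogonal_of_isTS hW).trans (LinearMap.BilinForm.orthogonal_le hHW)
    have hYperp : Y ≤ perp Q H :=
      (le_orthogonal_of_isTS hY).trans (LinearMap.BilinForm.orthogonal_le hle)
    have hperpdim : finrank F ↥(perp Q H) = m + 1 := by
      rw [LinearMap.BilinForm.finrank_orthogonal hQ, hV]
      omega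
    have hsupdim : finrank F ↥(U ⊔ W) = m + 1 := by
      have h2 := Submodule.finrank_sup_add_finrank_inf_eq U W
      rw [← hH] at h2
      omega
    have hsup : U ⊔ W = perp Q H :=
      Submodule.eq_of_le_of_finrank_eq (sup_le hUperp hWperp) (by rw [hsupdim, hperpdim])
    -- every element of `Y` outside `U` lies in `W`
    have key : ∀ y ∈ Y, y ∉ U → y ∈ W := by
      intro y hy hyU
      have hy' : y ∈ U ⊔ W := by rw [hsup]; exact hYperp hy
      obtain ⟨u, hu, w, hw, rfl⟩ := Submodule.mem_sup.1 hy'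
      have hwU : w ∉ U := fun h => hyU (U.add_mem hu h)
      have hQy := hY _ hy
      rw [QuadraticMap.map_add Q, hU u hu, hW w hw, zero_add, zero_add] at hQy
      -- `u` is orthogonal to `H + ⟨w⟩ = W`
      have hwH : w ∉ H := fun h => hwU (hHU h)
      have hHw : H ⊔ Submodule.span F {w} = W := by
        apply Submodule.eq_of_le_of_finrank_eq
        · apply sup_le hHW
          rw [Submodule.span_le]
          rintro _ rfl
          exact hw
        · have h2 := Submodule.finrank_sup_add_finrank_inf_eq H (Submodule.span F {w})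
          have hw0 : w ≠ 0 := by
            rintro rfl
            exact hwH H.zero_mem
          have h3 : H ⊓ Submodule.span F {w} = ⊥ := by
            rw [← disjoint_iff, Submodule.disjoint_span_singleton' hw0]
            exact hwH
          rw [h3, finrank_bot, finrank_span_singleton hw0] at h2
          omega
      have huW : u ∈ perp Q W := by
        rw [← hHw]
        intro x hx
        obtain ⟨h, hh, z, hz, rfl⟩ := Submodule.mem_sup.1 hx
        obtain ⟨c, rfl⟩ := Submodule.mem_span_singleton.1 hz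
        show QuadraticMap.polar (⇑Q) (h + c • w) u = 0
        rw [QuadraticMap.polar_add_left, QuadraticMap.polar_smul_left,
          polar_eq_zero_of_isTS hU (hHU hh) hu, polar_comm' w u, hQy, smul_zero, add_zero]
      rw [orthogonal_eq_self hQ hV hW hWm] at huW
      exact W.add_mem huW hw
    rw [SetLike.not_le_iff_exists] at hYU
    obtain ⟨y₀, hy₀, hy₀U⟩ := hYU
    have hy₀W := key y₀ hy₀ hy₀U
    have hYW : Y ≤ W := by
      intro y hy
      by_cases hyU : y ∈ U
      · have h1 : y + y₀ ∉ U := fun h => hy₀U (by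
          have := U.sub_mem h hyU
          rwa [add_sub_cancel_left] at this)
        have h2 := key (y + y₀) (Y.add_mem hy hy₀) h1
        have := W.sub_mem h2 hy₀W
        rwa [add_sub_cancel_right] at this
      · exact key y hy hyU
    exact Submodule.eq_of_le_of_finrank_eq hYW (by rw [hYm, hWm])

end abstract

variable {F : Type*} [Field F] {ι : Type} [Fintype ι] [DecidableEq ι]
variable {Q : QuadraticForm F (ι → F)}

/-- the image of a subspace under an isometry -/
def gmap (g : ↥(Cfsg.isometryGroup F ⇑Q)) (U : Submodule F (ι → F)) : Submodule F (ι → F) :=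
  U.map (Matrix.toLin' ((g : Matrix.GeneralLinearGroup ι F) : Matrix ι ι F))

theorem mem_gmap (g : ↥(Cfsg.isometryGroup F ⇑Q)) (U : Submodule F (ι → F)) (x : ι → F) :
    x ∈ gmap g U ↔ ∃ u ∈ U, ((g : Matrix.GeneralLinearGroup ι F) : Matrix ι ι F) *ᵥ u = x := by
  unfold gmap
  rw [Submodule.mem_map]
  simp only [Matrix.toLin'_apply]

theorem toLin_inj (g : ↥(Cfsg.isometryGroup F ⇑Q)) :
    Function.Injective (Matrix.toLin' ((g : Matrix.GeneralLinearGroup ι F) : Matrix ι ι F)) := by
  intro y y' hyy'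
  rw [Matrix.toLin'_apply, Matrix.toLin'_apply] at hyy'
  have := congrArg (fun z => (((g⁻¹ : ↥(Cfsg.isometryGroup F ⇑Q)) :
    Matrix.GeneralLinearGroup ι F) : Matrix ι ι F) *ᵥ z) hyy'
  have e := inv_mulVec_mulVec (g⁻¹)
  rw [inv_inv] at e
  simp only [e] at this
  exact this

theorem gmap_one (U : Submodule F (ι → F)) : gmap (1 : ↥(Cfsg.isometryGroup F ⇑Q)) U = U := by
  ext x
  rw [mem_gmap]
  constructor
  · rintro ⟨u, hu, rfl⟩
    simpa using hu
  · intro hx
    exact ⟨x, hx, by simp⟩

theorem gmap_mul (g h : ↥(Cfsg.isometryGroup F ⇑Q)) (U : Submodule F (ι → F)) :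
    gmap (g * h) U = gmap g (gmap h U) := by
  ext x
  simp only [mem_gmap]
  constructor
  · rintro ⟨u, hu, rfl⟩
    exact ⟨_, ⟨u, hu, rfl⟩, by rw [mul_mulVec]⟩
  · rintro ⟨_, ⟨u, hu, rfl⟩, rfl⟩
    exact ⟨u, hu, by rw [mul_mulVec]⟩

theorem gmap_inf (g : ↥(Cfsg.isometryGroup F ⇑Q)) (U W : Submodule F (ι → F)) :
    gmap g (U ⊓ W) = gmap g U ⊓ gmap g W :=
  Submodule.map_inf _ (toLin_inj g)

theorem finrank_gmap (g : ↥(Cfsg.isometryGroup F ⇑Q)) (U : Submodule F (ι → F)) :
    finrank F ↥(gmap g U) = finrank F U :=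
  (LinearEquiv.finrank_eq (Submodule.equivMapOfInjective _ (toLin_inj g) U)).symm

theorem isTS_gmap (g : ↥(Cfsg.isometryGroup F ⇑Q)) {U : Submodule F (ι → F)} (hU : IsTS Q U) :
    IsTS Q (gmap g U) := by
  intro x hx
  obtain ⟨u, hu, rfl⟩ := (mem_gmap g U x).1 hx
  rw [iso_Q]
  exact hU u hu

/-- the homomorphism to `ℤ/2` measuring the change of family -/
noncomputable def familyHom (hQ : (QuadraticMap.polarBilin Q).Nondegenerate) {m : ℕ}
    (hV : Fintype.card ι = 2 * m) (U₀ : Submodule F (ι → F)) (hU₀ : IsTS Q U₀)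
    (hU₀m : finrank F U₀ = m) : ↥(Cfsg.isometryGroup F ⇑Q) →* Multiplicative (ZMod 2) where
  toFun g := Multiplicative.ofAdd (((m - finrank F ↥(U₀ ⊓ gmap g U₀) : ℕ) : ZMod 2))
  map_one' := by
    rw [gmap_one, inf_idem, hU₀m, Nat.sub_self]
    rfl
  map_mul' g h := by
    have hV' : finrank F (ι → F) = 2 * m := by rw [Module.finrank_fintype_fun_eq_card, hV]
    have hp := parity hQ hV' (twoThrough_general hQ hV') _ U₀ (gmap g U₀) (gmap (g * h) U₀)
      hU₀ hU₀m (isTS_gmap g hU₀) (by rw [finrank_gmap, hU₀m]) (isTS_gmap _ hU₀)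
      (by rw [finrank_gmap, hU₀m]) rfl
    rw [gmap_mul, ← gmap_inf, finrank_gmap, ← gmap_mul] at hp
    have h1 := (ZMod.natCast_eq_zero_iff_even).2 hp
    rw [← ofAdd_add, ← Nat.cast_add]
    congr 1
    push_cast at h1 ⊢
    have h2 : ∀ a b c : ZMod 2, a + b + c = 0 → c = a + b := by decide
    exact h2 _ _ _ h1

/-- **`Ω` preserves the families of maximal totally singular subspaces.** -/
theorem omega_parity (hQ : (QuadraticMap.polarBilin Q).Nondegenerate) {m : ℕ}
    (hV : Fintype.card ι = 2 * m) (U₀ : Submodule F (ι → F)) (hU₀ : IsTS Q U₀)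
    (hU₀m : finrank F U₀ = m) (g : ↥(Cfsg.isometryGroup F ⇑Q)) (hg : g ∈ Cfsg.Omega F ⇑Q) :
    Even (m - finrank F ↥(U₀ ⊓ gmap g U₀)) := by
  have h1 := Abelianization.commutator_subset_ker (familyHom hQ hV U₀ hU₀ hU₀m) hg
  rw [MonoidHom.mem_ker] at h1
  have h2 : ((m - finrank F ↥(U₀ ⊓ gmap g U₀) : ℕ) : ZMod 2) = 0 := by
    have := congrArg Multiplicative.toAdd h1
    exact this
  exact (ZMod.natCast_eq_zero_iff_even).1 h2

end Cfsg.Agent.H9Orth
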