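import Mathlib
import Cfsg.Prelude
import Cfsg.Agent.Lib.Helper9.OrthPar1
import Cfsg.Agent.Lib.Helper9.OrthMax11

set_option autoImplicit false
set_option maxHeartbeats 800000

/-! Pairs of complementary totally singular subspaces: basic facts. -/

namespace Cfsg.Agent.H9Orth

open Matrix Module Cfsg.Agent.Lib.Helper2.MaxTS2 Cfsg.Agent.Lib.Helper2.ReflGen
  Cfsg.Agent.Lib.Helper2.CDG Cfsg.Agent.Lib.Helper2.LongRoot

variable {F : Type*} [Field F] {ι : Type} [Fintype ι] [DecidableEq ι]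
variable {Q : QuadraticForm F (ι → F)}

/-- a pair of complementary totally singular subspaces -/
structure TSPair (Q : QuadraticForm F (ι → F)) (A B : Submodule F (ι → F)) : Prop where
  tsA : ∀ a ∈ A, Q a = 0
  tsB : ∀ b ∈ B, Q b = 0
  sum : ∀ x : ι → F, ∃ a ∈ A, ∃ b ∈ B, x = a + b

namespace TSPair

variable {A B : Submodule F (ι → F)}

theorem symm (h : TSPair Q A B) : TSPair Q B A where
  tsA := h.tsB
  tsB := h.tsA
  sum := fun x => by
    obtain ⟨a, ha, b, hb, rfl⟩ := h.sum x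
    exact ⟨b, hb, a, ha, add_comm a b⟩

theorem polarA (h : TSPair Q A B) {a a' : ι → F} (ha : a ∈ A) (ha' : a' ∈ A) :
    QuadraticMap.polar (⇑Q) a a' = 0 := polar_eq_zero_of_ts A h.tsA ha ha'

theorem polarB (h : TSPair Q A B) {b b' : ι → F} (hb : b ∈ B) (hb' : b' ∈ B) :
    QuadraticMap.polar (⇑Q) b b' = 0 := polar_eq_zero_of_ts B h.tsB hb hb'

/-- the pairing between `A` and `B` is perfect -/
theorem pairing (h : TSPair Q A B) (hQ : (QuadraticMap.polarBilin Q).Nondegenerate)
    {a : ι → F} (ha : a ∈ A) (h0 : ∀ b ∈ B, QuadraticMap.polar (⇑Q) a b = 0) : a = 0 := by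
  apply hQ.1
  intro x
  obtain ⟨a', ha', b, hb, rfl⟩ := h.sum x
  show QuadraticMap.polar (⇑Q) a (a' + b) = 0
  rw [QuadraticMap.polar_add_right, h.polarA ha ha', h0 b hb, add_zero]

theorem disj (h : TSPair Q A B) (hQ : (QuadraticMap.polarBilin Q).Nondegenerate)
    {x : ι → F} (hA : x ∈ A) (hB : x ∈ B) : x = 0 :=
  h.pairing hQ hA (fun b hb => h.polarB hB hb)

theorem inf_eq_bot (h : TSPair Q A B) (hQ : (QuadraticMap.polarBilin Q).Nondegenerate) :
    A ⊓ B = ⊥ := by
  rw [eq_bot_iff]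
  intro x hx
  exact h.disj hQ hx.1 hx.2

theorem sup_eq_top (h : TSPair Q A B) : A ⊔ B = ⊤ := by
  rw [eq_top_iff]
  intro x _
  obtain ⟨a, ha, b, hb, rfl⟩ := h.sum x
  exact Submodule.add_mem_sup ha hb

theorem finrank_add (h : TSPair Q A B) (hQ : (QuadraticMap.polarBilin Q).Nondegenerate) :
    finrank F A + finrank F B = Fintype.card ι := by
  have h1 := Submodule.finrank_sup_add_finrank_inf_eq A B
  rw [h.sup_eq_top, h.inf_eq_bot hQ, finrank_bot, add_zero, finrank_top,
    Module.finrank_fintype_fun_eq_card] at h1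
  exact h1.symm

theorem finrank_left (h : TSPair Q A B) (hQ : (QuadraticMap.polarBilin Q).Nondegenerate) :
    2 * finrank F A = Fintype.card ι := by
  have h1 := h.finrank_add hQ
  have h2 := ts_finrank_le hQ A h.tsA
  have h3 := ts_finrank_le hQ B h.tsB
  omega

theorem finrank_right (h : TSPair Q A B) (hQ : (QuadraticMap.polarBilin Q).Nondegenerate) :
    2 * finrank F B = Fintype.card ι := h.symm.finrank_left hQ

/-- uniqueness of the decomposition -/
theorem decomp_unique (h : TSPair Q A B) (hQ : (QuadraticMap.polarBilin Q).Nondegenerate)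
    {a a' b b' : ι → F} (ha : a ∈ A) (ha' : a' ∈ A) (hb : b ∈ B) (hb' : b' ∈ B)
    (he : a + b = a' + b') : a = a' ∧ b = b' := by
  have h1 : a - a' = b' - b := by
    rw [sub_eq_sub_iff_add_eq_add, he, add_comm]
  have h2 : a - a' ∈ B := by rw [h1]; exact B.sub_mem hb' hb
  have h3 := h.disj hQ (A.sub_mem ha ha') h2
  have h4 : b' - b = 0 := by rw [← h1, h3]
  exact ⟨sub_eq_zero.1 h3, (sub_eq_zero.1 h4).symm⟩

/-- separation: a functional from `B` vanishing on `X ≤ A` but not on `v ∈ A ∖ X` -/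
theorem sep (h : TSPair Q A B) (hQ : (QuadraticMap.polarBilin Q).Nondegenerate)
    (X : Submodule F (ι → F)) (hX : X ≤ A) {v : ι → F} (hvA : v ∈ A) (hv : v ∉ X) :
    ∃ b ∈ B, (∀ x ∈ X, QuadraticMap.polar (⇑Q) x b = 0) ∧ QuadraticMap.polar (⇑Q) v b ≠ 0 := by
  by_contra hcon
  push Not at hcon
  obtain ⟨k, hk⟩ : ∃ k, k = finrank F B := ⟨_, rfl⟩
  have hV : finrank F (ι → F) = 2 * k := by
    rw [Module.finrank_fintype_fun_eq_card, hk, h.finrank_right hQ]
  have hBts : IsTS Q B := h.tsB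
  obtain ⟨X', hX'⟩ : ∃ X', X' = X ⊔ Submodule.span F {v} := ⟨_, rfl⟩
  have hX'A : X' ≤ A := by
    rw [hX']
    apply sup_le hX
    rw [Submodule.span_le]
    rintro _ rfl
    exact hvA
  have f1 := finrank_inf_orthogonal hQ hV hBts hk.symm X
  have f2 := finrank_inf_orthogonal hQ hV hBts hk.symm X'
  have hBX : B ⊓ X = ⊥ := by
    rw [eq_bot_iff, ← h.inf_eq_bot hQ, inf_comm A B]
    exact inf_le_inf_left B hX
  have hBX' : B ⊓ X' = ⊥ := by
    rw [eq_bot_iff, ← h.inf_eq_bot hQ, inf_comm A B]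
    exact inf_le_inf_left B hX'A
  rw [hBX, finrank_bot] at f1
  rw [hBX', finrank_bot] at f2
  have hv0 : v ≠ 0 := by
    rintro rfl
    exact hv X.zero_mem
  have hdim : finrank F X' = finrank F X + 1 := by
    have h2 := Submodule.finrank_sup_add_finrank_inf_eq X (Submodule.span F {v})
    have h3 : X ⊓ Submodule.span F {v} = ⊥ := by
      rw [← disjoint_iff, Submodule.disjoint_span_singleton' hv0]
      exact hv
    rw [h3, finrank_bot, finrank_span_singleton hv0, ← hX'] at h2
    omega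
  have hle : B ⊓ perp Q X ≤ B ⊓ perp Q X' := by
    intro b hb
    refine ⟨hb.1, ?_⟩
    have hbX : ∀ x ∈ X, QuadraticMap.polar (⇑Q) x b = 0 := fun x hx => hb.2 x hx
    have hvb := hcon b hb.1 hbX
    intro y hy
    rw [hX'] at hy
    obtain ⟨x, hx, z, hz, rfl⟩ := Submodule.mem_sup.1 hy
    obtain ⟨c, rfl⟩ := Submodule.mem_span_singleton.1 hz
    show QuadraticMap.polar (⇑Q) (x + c • v) b = 0
    rw [QuadraticMap.polar_add_left, QuadraticMap.polar_smul_left, hbX x hx, hvb, smul_zero,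
      add_zero]
  have := Submodule.finrank_mono hle
  omega

/-- a vector of `A` orthogonal to a small subspace of `B` and outside a smaller subspace -/
theorem exists_in_perp (h : TSPair Q A B) (hQ : (QuadraticMap.polarBilin Q).Nondegenerate)
    (S : Submodule F (ι → F)) (hS : S ≤ B) (L : Submodule F (ι → F))
    (hL : finrank F L + finrank F S < finrank F A) :
    ∃ a ∈ A, (∀ s ∈ S, QuadraticMap.polar (⇑Q) s a = 0) ∧ a ∉ L := by
  by_contra hcon
  push Not at hcon
  obtain ⟨k, hk⟩ : ∃ k, k = finrank F A := ⟨_, rfl⟩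
  have hV : finrank F (ι → F) = 2 * k := by
    rw [Module.finrank_fintype_fun_eq_card, hk, h.finrank_left hQ]
  have hAts : IsTS Q A := h.tsA
  have f1 := finrank_inf_orthogonal hQ hV hAts hk.symm S
  have hAS : A ⊓ S = ⊥ := by
    rw [eq_bot_iff, ← h.inf_eq_bot hQ]
    exact inf_le_inf_left A hS
  rw [hAS, finrank_bot] at f1
  have hle : A ⊓ perp Q S ≤ L := by
    intro a ha
    exact hcon a ha.1 (fun s hs => ha.2 s hs)
  have := Submodule.finrank_mono hle
  omega

end TSPair

/-- symmetry of Eichler transformations at two singular vectors -/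
theorem eich_swap (hQ : (QuadraticMap.polarBilin Q).Nondegenerate) (u v : ι → F)
    (hu : Q u = 0) (hv : Q v = 0) (huv : QuadraticMap.polar (⇑Q) u v = 0) :
    eich hQ u v hu huv = eich hQ v (-u) hv (by
      rw [QuadraticMap.polar_neg_right, QuadraticMap.polar_comm, huv, neg_zero]) := by
  apply iso_ext
  intro x
  rw [eich_mulVec, eich_mulVec, hv, QuadraticMap.map_neg, hu, QuadraticMap.polar_neg_left]
  module

/-- symmetry of root subspaces -/
theorem rootSub_symm (hQ : (QuadraticMap.polarBilin Q).Nondegenerate)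
    (M : Subgroup (Matrix.GeneralLinearGroup ι F)) {y z : ι → F} (hy : Q y = 0) (hz : Q z = 0)
    (h : y ∈ rootSub hQ M ⊤ z hz) : z ∈ rootSub hQ M ⊤ y hy := by
  obtain ⟨-, hzy, hall⟩ := h
  have hyz : QuadraticMap.polar (⇑Q) y z = 0 := by rw [QuadraticMap.polar_comm]; exact hzy
  refine ⟨Submodule.mem_top, hyz, fun c hd => ?_⟩
  have hcz : Q (c • z) = 0 := by rw [QuadraticMap.map_smul, hz, smul_zero]
  have e1 := eich_swap hQ y (c • z) hy hcz hd
  have h2 : QuadraticMap.polar (⇑Q) z (c • -y) = 0 := by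
    rw [QuadraticMap.polar_smul_right, QuadraticMap.polar_neg_right, hzy, neg_zero, smul_zero]
  have e2 := eich_smul hQ c z (-y) hz (by rw [QuadraticMap.polar_neg_right, hzy, neg_zero])
  have h3 : QuadraticMap.polar (⇑Q) z ((-c) • y) = 0 := by
    rw [QuadraticMap.polar_smul_right, hzy, smul_zero]
  have e3 : eich hQ z (c • -y) hz h2 = eich hQ z ((-c) • y) hz h3 :=
    eich_congr hQ rfl (by rw [smul_neg, neg_smul]) _ _ _ _
  rw [e1, e2, e3]
  exact hall (-c) h3

end Cfsg.Agent.H9Orth
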