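import Mathlib
import Cfsg.Agent.Lib.Lead.S3Defs
import Cfsg.Agent.Lib.Helper8.WardA

/-!
# S4305, case (b), set-up (b.i)–(b.iv): pure group theory from `MinNonab`
-/

set_option autoImplicit false
set_option linter.unusedSectionVars false
set_option linter.unusedVariables false

namespace Cfsg.Agent.Lib.Helper9.S3B0

open Cfsg.Agent.Lib.Lead.S3 Cfsg.Agent.Lib.Helper8.Ward
open scoped commutatorElement

universe u w

section general

variable {T : Type w} [Group T]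

/-- every element of `A ⊔ B` is a product, if `B` normalizes `A`. -/
theorem exists_mul_of_mem_sup_conj {A B : Subgroup T} (hBA : ∀ x ∈ B, ∀ y ∈ A, x * y * x⁻¹ ∈ A)
    {g : T} (hg : g ∈ A ⊔ B) : ∃ y ∈ A, ∃ x ∈ B, g = y * x := by
  let M : Subgroup T :=
    { carrier := {g | ∃ y ∈ A, ∃ x ∈ B, g = y * x}
      one_mem' := ⟨1, A.one_mem, 1, B.one_mem, by simp⟩
      mul_mem' := by
        rintro _ _ ⟨y₁, hy₁, x₁, hx₁, rfl⟩ ⟨y₂, hy₂, x₂, hx₂, rfl⟩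
        exact ⟨y₁ * (x₁ * y₂ * x₁⁻¹), A.mul_mem hy₁ (hBA x₁ hx₁ y₂ hy₂), x₁ * x₂,
          B.mul_mem hx₁ hx₂, by group⟩
      inv_mem' := by
        rintro _ ⟨y, hy, x, hx, rfl⟩
        refine ⟨x⁻¹ * y⁻¹ * x, ?_, x⁻¹, B.inv_mem hx, by group⟩
        have := hBA x⁻¹ (B.inv_mem hx) y⁻¹ (A.inv_mem hy)
        rwa [inv_inv] at this }
  have hle : A ⊔ B ≤ M := by
    apply sup_le
    · intro y hy
      exact ⟨y, hy, 1, B.one_mem, by simp⟩
    · intro x hx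
      exact ⟨1, A.one_mem, x, hx, by simp⟩
  exact hle hg

/-- conjugation-invariance passes to joins. -/
theorem conj_mem_sup {A B : Subgroup T} {g : T} (hA : ∀ y ∈ A, g * y * g⁻¹ ∈ A)
    (hB : ∀ y ∈ B, g * y * g⁻¹ ∈ B) : ∀ y ∈ A ⊔ B, g * y * g⁻¹ ∈ A ⊔ B := by
  have hle : A ⊔ B ≤ (A ⊔ B).comap (MulAut.conj g).toMonoidHom := by
    apply sup_le
    · intro y hy
      rw [Subgroup.mem_comap]
      exact (le_sup_left : A ≤ A ⊔ B) (by simpa using hA y hy)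
    · intro y hy
      rw [Subgroup.mem_comap]
      exact (le_sup_right : B ≤ A ⊔ B) (by simpa using hB y hy)
  intro y hy
  have := hle hy
  rw [Subgroup.mem_comap] at this
  simpa using this

/-- conjugation-invariance passes to commutator subgroups. -/
theorem conj_mem_commutator {A B : Subgroup T} {g : T} (hA : ∀ y ∈ A, g * y * g⁻¹ ∈ A)
    (hB : ∀ y ∈ B, g * y * g⁻¹ ∈ B) : ∀ y ∈ ⁅A, B⁆, g * y * g⁻¹ ∈ ⁅A, B⁆ := by
  have hle : ⁅A, B⁆ ≤ (⁅A, B⁆).comap (MulAut.conj g).toMonoidHom := by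
    rw [Subgroup.commutator_le]
    intro a ha b hb
    rw [Subgroup.mem_comap]
    have h1 : (MulAut.conj g).toMonoidHom ⁅a, b⁆ = ⁅g * a * g⁻¹, g * b * g⁻¹⁆ := by
      simp only [MulEquiv.coe_toMonoidHom, MulAut.conj_apply, commutatorElement_def]
      group
    rw [h1]
    exact Subgroup.commutator_mem_commutator (hA a ha) (hB b hb)
  intro y hy
  have := hle hy
  rw [Subgroup.mem_comap] at this
  simpa using this

end general

variable {V : Type u} [AddCommGroup V] [Finite V] {T : Type w} [Group T] [Finite T]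
  [DistribMulAction T V] {p : ℕ} {H : Subgroup T} {s t : T}

/-- **(b.i)–(b.iv)**: the set-up of case (b). -/
theorem caseB_setup (h : Crit V p H s t) (hmin : MinNonab H s t)
    (hnab : ¬ ∀ x ∈ H, ∀ y ∈ H, x * y = y * x)
    {q r : ℕ} (hq : q.Prime) (hr : r.Prime) (hqr : q ≠ r) {Q R : Subgroup T}
    (hQn : Q.Normal) (hQH : Q ≤ H) (hRH : R ≤ H) (hQq : IsPGroup q Q) (hRr : IsPGroup r R)
    (hQc : ∀ x ∈ Q, ∀ y ∈ Q, x * y = y * x)
    (hRs : ∀ x ∈ R, s * x * s⁻¹ ∈ R) (hRt : ∀ x ∈ R, t * x * t⁻¹ ∈ R) (hQR : Q ⊔ R = H) (hQ1 : Q ≠ ⊥) :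
    (∀ x ∈ R, ∀ y ∈ R, x * y = y * x) ∧ (∃ x ∈ R, ∃ y ∈ Q, x * y ≠ y * x) ∧ (∀ y ∈ Q, y ^ q = 1) ∧
    (∀ Q1 : Subgroup T, Q1 ≤ Q → (∀ x ∈ R, ∀ y ∈ Q1, x * y * x⁻¹ ∈ Q1) → (∀ y ∈ Q1, s * y * s⁻¹ ∈ Q1) → (∀ y ∈ Q1, t * y * t⁻¹ ∈ Q1) → Q1 = ⊥ ∨ Q1 = Q) ∧
    (∀ R1 : Subgroup T, R1 ≤ R → (∀ y ∈ R1, s * y * s⁻¹ ∈ R1) → (∀ y ∈ R1, t * y * t⁻¹ ∈ R1) → R1 = R ∨ ∀ x ∈ R1, ∀ y ∈ Q, x * y = y * x) := by
  classical
  have : Fact q.Prime := ⟨hq⟩
  have : Fact r.Prime := ⟨hr⟩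
  -- basic facts
  have hdisj : Q ⊓ R = ⊥ := (IsPGroup.disjoint_of_ne q r hqr Q R hQq hRr).eq_bot
  have hcop : (Nat.card Q).Coprime (Nat.card R) := IsPGroup.coprime_card_of_ne q r hqr Q R hQq hRr
  have hQg : ∀ g : T, ∀ y ∈ Q, g * y * g⁻¹ ∈ Q := fun g y hy => hQn.conj_mem y hy g
  have hRQ : ∀ x ∈ R, ∀ y ∈ Q, x * y * x⁻¹ ∈ Q := fun x _ y hy => hQg x y hy
  -- Dedekind, two forms
  have ded1 : ∀ Q1 : Subgroup T, Q1 ≤ Q → (∀ x ∈ R, ∀ y ∈ Q1, x * y * x⁻¹ ∈ Q1) → Q1 ⊔ R = H →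
      Q1 = Q := by
    intro Q1 hQ1Q hinv hsup
    refine le_antisymm hQ1Q ?_
    intro y hy
    have hyH : y ∈ Q1 ⊔ R := by rw [hsup]; exact hQH hy
    obtain ⟨y1, hy1, x, hx, rfl⟩ := exists_mul_of_mem_sup_conj hinv hyH
    have hxQ : x ∈ Q := by
      have : x = y1⁻¹ * (y1 * x) := by group
      rw [this]
      exact Q.mul_mem (Q.inv_mem (hQ1Q hy1)) hy
    have hx1 : x ∈ Q ⊓ R := Subgroup.mem_inf.2 ⟨hxQ, hx⟩
    rw [hdisj, Subgroup.mem_bot] at hx1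
    rw [hx1, mul_one]
    exact hy1
  have ded2 : ∀ R1 : Subgroup T, R1 ≤ R → Q ⊔ R1 = H → R1 = R := by
    intro R1 hR1R hsup
    refine le_antisymm hR1R ?_
    intro x hx
    have hxH : x ∈ Q ⊔ R1 := by rw [hsup]; exact hRH hx
    obtain ⟨y, hy, x1, hx1, rfl⟩ :=
      exists_mul_of_mem_sup_conj (fun x _ y hy => hQg x y hy) hxH
    have hyR : y ∈ R := by
      have : y = (y * x1) * x1⁻¹ := by group
      rw [this]
      exact R.mul_mem hx (R.inv_mem (hR1R hx1))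
    have hy1 : y ∈ Q ⊓ R := Subgroup.mem_inf.2 ⟨hy, hyR⟩
    rw [hdisj, Subgroup.mem_bot] at hy1
    rw [hy1, one_mul]
    exact hx1
  -- (1) `R` is abelian
  have hRne : R ≠ H := by
    intro hRH'
    apply hQ1
    have : Q ≤ Q ⊓ R := le_inf le_rfl (by rw [hRH']; exact hQH)
    rw [hdisj] at this
    exact le_bot_iff.1 this
  have hRc : ∀ x ∈ R, ∀ y ∈ R, x * y = y * x := hmin R hRH hRne hRs hRt
  -- (2) `R` does not centralize `Q`
  have hne : ∃ x ∈ R, ∃ y ∈ Q, x * y ≠ y * x := by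
    by_contra hcon
    push Not at hcon
    apply hnab
    intro a ha b hb
    rw [← hQR] at ha hb
    obtain ⟨y, hy, x, hx, rfl⟩ := exists_mul_of_mem_sup_conj hRQ ha
    obtain ⟨y', hy', x', hx', rfl⟩ := exists_mul_of_mem_sup_conj hRQ hb
    have c1 : Commute y y' := hQc y hy y' hy'
    have c2 : Commute x x' := hRc x hx x' hx'
    have c3 : Commute x y' := hcon x hx y' hy'
    have c4 : Commute y x' := (hcon x' hx' y hy).symm
    exact Commute.mul_left (c1.mul_right c4) (c3.mul_right c2)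
  -- (b.i) `C_Q(R) = 1`
  have hQ0Q : ⁅Q, R⁆ ≤ Q := Subgroup.commutator_le_left Q R
  have hQ0R : ∀ x ∈ R, ∀ y ∈ ⁅Q, R⁆, x * y * x⁻¹ ∈ ⁅Q, R⁆ := by
    intro x hx
    exact conj_mem_commutator (hQg x)
      (fun y hy => R.mul_mem (R.mul_mem hx hy) (R.inv_mem hx))
  have hK0 : ⁅Q, R⁆ ⊔ R = H := by
    by_contra hK
    have hKH : ⁅Q, R⁆ ⊔ R ≤ H := sup_le (hQ0Q.trans hQH) hRH
    have hKc := hmin (⁅Q, R⁆ ⊔ R) hKH hK
      (conj_mem_sup (conj_mem_commutator (hQg s) hRs) hRs)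
      (conj_mem_sup (conj_mem_commutator (hQg t) hRt) hRt)
    obtain ⟨x, hx, y, hy, hxy⟩ := hne
    apply hxy
    have hxp : x ^ Nat.card R = 1 := by
      have := pow_card_eq_one' (G := R) (x := ⟨x, hx⟩)
      have := congrArg Subtype.val this
      rwa [Subgroup.coe_pow, Subgroup.coe_one] at this
    have hcopz : ∀ z ∈ Q, z ^ Nat.card R = 1 → z = 1 := by
      intro z hz hzp
      have hzq : z ^ Nat.card Q = 1 := by
        have := pow_card_eq_one' (G := Q) (x := ⟨z, hz⟩)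
        have := congrArg Subtype.val this
        rwa [Subgroup.coe_pow, Subgroup.coe_one] at this
      have h3 : orderOf z ∣ Nat.gcd (Nat.card Q) (Nat.card R) :=
        Nat.dvd_gcd (orderOf_dvd_of_pow_eq_one hzq) (orderOf_dvd_of_pow_eq_one hzp)
      rw [hcop.gcd_eq_one, Nat.dvd_one] at h3
      exact orderOf_eq_one_iff.1 h3
    have hw : y⁻¹ * (x * y * x⁻¹) ∈ ⁅Q, R⁆ := by
      have h1 : y⁻¹ * (x * y * x⁻¹) = ⁅y⁻¹, x⁆ := by
        rw [commutatorElement_def]; group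
      rw [h1]
      exact Subgroup.commutator_mem_commutator (Q.inv_mem hy) hx
    have hcomm : x * (y⁻¹ * (x * y * x⁻¹)) = (y⁻¹ * (x * y * x⁻¹)) * x :=
      hKc x ((le_sup_right : R ≤ ⁅Q, R⁆ ⊔ R) hx) _ ((le_sup_left : ⁅Q, R⁆ ≤ ⁅Q, R⁆ ⊔ R) hw)
    have h1 := comm_fix_trivial (p := Nat.card R) (Z := Q) (b := x) (hQg x) hxp hcopz hy hcomm
    have h2 : x * y * x⁻¹ = y := by
      have : x * y * x⁻¹ = y * (y⁻¹ * (x * y * x⁻¹)) := by group
      rw [this, h1, mul_one]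
    calc x * y = (x * y * x⁻¹) * x := by group
      _ = y * x := by rw [h2]
  have hQcomm : Q ≤ ⁅Q, R⁆ := (ded1 ⁅Q, R⁆ hQ0Q hQ0R hK0).ge
  have hcent : ∀ d ∈ Q, (∀ x ∈ R, x * d = d * x) → d = 1 := fun d hd hdR =>
    cent_eq_one_of_abelian hQc hRQ hcop hQcomm hd hdR
  -- (b.iii)
  have hirr : ∀ Q1 : Subgroup T, Q1 ≤ Q → (∀ x ∈ R, ∀ y ∈ Q1, x * y * x⁻¹ ∈ Q1) →
      (∀ y ∈ Q1, s * y * s⁻¹ ∈ Q1) → (∀ y ∈ Q1, t * y * t⁻¹ ∈ Q1) → Q1 = ⊥ ∨ Q1 = Q := by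
    intro Q1 hQ1Q hinv hs1 ht1
    by_cases hK : Q1 ⊔ R = H
    · exact Or.inr (ded1 Q1 hQ1Q hinv hK)
    · left
      have hKc := hmin (Q1 ⊔ R) (sup_le (hQ1Q.trans hQH) hRH) hK (conj_mem_sup hs1 hRs)
        (conj_mem_sup ht1 hRt)
      rw [eq_bot_iff]
      intro d hd
      rw [Subgroup.mem_bot]
      exact hcent d (hQ1Q hd) (fun x hx =>
        hKc x ((le_sup_right : R ≤ Q1 ⊔ R) hx) d ((le_sup_left : Q1 ≤ Q1 ⊔ R) hd))
  -- (b.ii)
  have hexp : ∀ y ∈ Q, y ^ q = 1 := by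
    let Q1 : Subgroup T :=
      { carrier := {y | y ∈ Q ∧ y ^ q = 1}
        one_mem' := ⟨Q.one_mem, one_pow _⟩
        mul_mem' := by
          rintro a b ⟨ha, ha1⟩ ⟨hb, hb1⟩
          refine ⟨Q.mul_mem ha hb, ?_⟩
          have hc : Commute a b := hQc a ha b hb
          rw [hc.mul_pow, ha1, hb1, one_mul]
        inv_mem' := by
          rintro a ⟨ha, ha1⟩
          exact ⟨Q.inv_mem ha, by rw [inv_pow, ha1, inv_one]⟩ }
    have hQ1Q : Q1 ≤ Q := fun y hy => hy.1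
    have hconj : ∀ g : T, ∀ y ∈ Q1, g * y * g⁻¹ ∈ Q1 := by
      rintro g y ⟨hy, hy1⟩
      refine ⟨hQg g y hy, ?_⟩
      rw [conj_pow, hy1]; group
    rcases hirr Q1 hQ1Q (fun x _ => hconj x) (hconj s) (hconj t) with h0 | h0
    · exfalso
      -- Cauchy
      have hQnt : Nontrivial Q := (Subgroup.nontrivial_iff_ne_bot Q).2 hQ1
      obtain ⟨n, hn⟩ := hQq.exists_card_eq
      have hn0 : n ≠ 0 := by
        rintro rfl
        rw [pow_zero] at hn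
        have := (Nat.card_eq_one_iff_unique.1 hn).1
        exact not_subsingleton Q this
      have hdvd : q ∣ Nat.card Q := by
        rw [hn]; exact dvd_pow_self q hn0
      obtain ⟨z, hz⟩ := exists_prime_orderOf_dvd_card' q hdvd
      have hz1 : (z : T) ∈ Q1 := by
        refine ⟨z.2, ?_⟩
        have := pow_orderOf_eq_one z
        rw [hz] at this
        have := congrArg Subtype.val this
        rwa [Subgroup.coe_pow, Subgroup.coe_one] at this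
      rw [h0, Subgroup.mem_bot] at hz1
      have hz2 : z = 1 := Subtype.ext hz1
      rw [hz2, orderOf_one] at hz
      exact hq.one_lt.ne hz
    · intro y hy
      have : y ∈ Q1 := by rw [h0]; exact hy
      exact this.2
  -- (b.iv)
  have hminR : ∀ R1 : Subgroup T, R1 ≤ R → (∀ y ∈ R1, s * y * s⁻¹ ∈ R1) →
      (∀ y ∈ R1, t * y * t⁻¹ ∈ R1) → R1 = R ∨ ∀ x ∈ R1, ∀ y ∈ Q, x * y = y * x := by
    intro R1 hR1R hs1 ht1
    by_cases hK : Q ⊔ R1 = H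
    · exact Or.inl (ded2 R1 hR1R hK)
    · right
      have hKc := hmin (Q ⊔ R1) (sup_le hQH (hR1R.trans hRH)) hK (conj_mem_sup (hQg s) hs1)
        (conj_mem_sup (hQg t) ht1)
      intro x hx y hy
      exact hKc x ((le_sup_right : R1 ≤ Q ⊔ R1) hx) y ((le_sup_left : Q ≤ Q ⊔ R1) hy)
  exact ⟨hRc, hne, hexp, hirr, hminR⟩

end Cfsg.Agent.Lib.Helper9.S3B0
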