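import Mathlib
import Cfsg.Agent.Lib.Helper5.SUf.Defs2
import Cfsg.Agent.Lib.Helper9.SpU1

set_option autoImplicit false
set_option linter.unusedSectionVars false
set_option linter.unusedVariables false

/-!
# S5658 PK-GEO1: the two geometric inputs (a rational hyperbolic pair orthogonal to five rational vectors,
Witt transitivity of the rational special isometries on rational totally isotropic pairs), via the abstract
Hermitian engine over the field `↥F₀`.
-/

namespace Cfsg.Agent.Lib.Helper5.SUf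

open Matrix Cfsg.Agent.Lib.Helper7.Subf

namespace PkGeo1

open Module Cfsg.Agent.Lib.Helper2 Cfsg.Agent.Lib.Helper2.UT Cfsg.Agent.Lib.Helper2.HermDecomp
  Cfsg.Agent.Lib.Helper5.PSLCoset

universe u

variable {F : Type u} [Field F] {n : ℕ} {F₀ : Subfield F} {σ : F ≃+* F}
  {J : Matrix (Fin n) (Fin n) F}

/-- the restriction of `σ` to `F₀` -/
def sig0 (hU : USet F₀ σ J) : ↥F₀ ≃+* ↥F₀ where
  toFun c := ⟨σ c, hU.stable c c.2⟩
  invFun c := ⟨σ c, hU.stable c c.2⟩
  left_inv c := Subtype.ext (hU.invol c)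
  right_inv c := Subtype.ext (hU.invol c)
  map_mul' a b := Subtype.ext (by simp)
  map_add' a b := Subtype.ext (by simp)

theorem sig0_coe (hU : USet F₀ σ J) (c : ↥F₀) : ((sig0 hU c : ↥F₀) : F) = σ c := rfl

theorem orderOf_sig0 (hU : USet F₀ σ J) : orderOf (sig0 hU) = 2 := by
  haveI : Fact (Nat.Prime 2) := ⟨Nat.prime_two⟩
  apply orderOf_eq_prime
  · apply RingEquiv.ext
    intro c
    rw [pow_two]
    exact Subtype.ext (hU.invol c)
  · intro h1
    obtain ⟨c, hc, hne⟩ := hU.nontriv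
    apply hne
    have h2 : sig0 hU ⟨c, hc⟩ = ⟨c, hc⟩ := by rw [h1]; rfl
    exact congrArg Subtype.val h2

/-- a vector over `F₀` as a vector over `F` -/
def up (x : Fin n → ↥F₀) : Fin n → F := fun i => (x i : F)

/-- a rational vector as a vector over `F₀` -/
def down (y : Fin n → F) (hy : Rat F₀ y) : Fin n → ↥F₀ := fun i => ⟨y i, hy i⟩

theorem rat_up (x : Fin n → ↥F₀) : Rat F₀ (up x) := fun i => (x i).2

theorem up_down (y : Fin n → F) (hy : Rat F₀ y) : up (down y hy) = y := rfl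

theorem up_add (x y : Fin n → ↥F₀) : up (x + y) = up x + up y := rfl

theorem up_smul (c : ↥F₀) (x : Fin n → ↥F₀) : up (c • x) = (c : F) • up x := rfl

theorem up_zero : up (0 : Fin n → ↥F₀) = 0 := rfl

theorem up_injective : Function.Injective (up : (Fin n → ↥F₀) → Fin n → F) := by
  intro x y h
  ext i
  exact congrFun h i

/-- the form over `F₀` -/
def H0 (hU : USet F₀ σ J) (x y : Fin n → ↥F₀) : ↥F₀ :=
  ⟨bf σ J (up x) (up y), hU.bf_rat (rat_up x) (rat_up y)⟩

theorem H0_coe (hU : USet F₀ σ J) (x y : Fin n → ↥F₀) :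
    ((H0 hU x y : ↥F₀) : F) = bf σ J (up x) (up y) := rfl

theorem isHerm_H0 (hU : USet F₀ σ J) : IsHerm (sig0 hU) (H0 hU) where
  add_left u v w := Subtype.ext (by
    rw [H0_coe, up_add, bf_add_left]; rfl)
  smul_left a v w := Subtype.ext (by
    rw [H0_coe, up_smul, bf_smul_left]; rfl)
  symm v w := Subtype.ext (by
    rw [H0_coe, sig0_coe, H0_coe]; exact hU.bf_symm _ _)

/-- non-degeneracy, tested on the standard basis only -/
theorem eq_zero_of_bf_single (hU : USet F₀ σ J) {y : Fin n → F}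
    (h : ∀ i, bf σ J (Pi.single i 1) y = 0) : y = 0 := by
  have h1 : fl σ J y = 0 := by
    ext i
    have := h i
    rw [bf, dotProduct_single, mul_one] at this
    exact this
  have h2 : cj σ y = 0 := by
    have hinj := Matrix.mulVec_injective_iff_isUnit.2 ((Matrix.isUnit_iff_isUnit_det J).2 hU.nondeg)
    apply hinj
    rw [mulVec_zero]
    exact h1
  ext i
  have := congrFun h2 i
  simp only [cj, Pi.zero_apply] at this
  exact (map_eq_zero σ).1 this

theorem nd_H0 (hU : USet F₀ σ J) : ∀ v, (∀ w, H0 hU v w = 0) → v = 0 := by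
  intro v hv
  apply up_injective
  rw [up_zero]
  apply eq_zero_of_bf_single hU
  intro i
  have h2 := hv (down (Pi.single i 1) (Rat.single F₀ i F₀.one_mem))
  have h3 : bf σ J (up v) (Pi.single i 1) = 0 := congrArg Subtype.val h2
  exact hU.bf_eq_zero_symm h3

theorem finrank_V0 : finrank ↥F₀ (Fin n → ↥F₀) = n := by
  rw [Module.finrank_fintype_fun_eq_card, Fintype.card_fin]

end PkGeo1

open PkGeo1 Module Cfsg.Agent.Lib.Helper2 Cfsg.Agent.Lib.Helper2.UT Cfsg.Agent.Lib.Helper5.PSLCoset in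
/-- a rational hyperbolic pair orthogonal to five given rational vectors. -/
theorem exists_hyp_perp {F : Type*} [Field F] {n : ℕ} {F₀ : Subfield F} {σ : F ≃+* F}
    {J : Matrix (Fin n) (Fin n) F} [Finite F] (hn : 13 ≤ n) (hU : USet F₀ σ J) (y : Fin 5 → Fin n → F)
    (hy : ∀ i, Rat F₀ (y i)) :
    ∃ e f : Fin n → F, Rat F₀ e ∧ Rat F₀ f ∧ bf σ J e e = 0 ∧ bf σ J f f = 0 ∧ bf σ J e f = 1 ∧
      ∀ i, bf σ J e (y i) = 0 ∧ bf σ J f (y i) = 0 := by
  obtain ⟨X, hX⟩ : ∃ X : Submodule ↥F₀ (Fin n → ↥F₀),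
      X = Submodule.span ↥F₀ (Set.range fun i => down (y i) (hy i)) := ⟨_, rfl⟩
  have hXdim : finrank ↥F₀ X ≤ 5 := by
    rw [hX]
    have := finrank_range_le_card (R := ↥F₀) (fun i => down (y i) (hy i))
    rw [Fintype.card_fin] at this
    exact this
  have hdim : 2 * finrank ↥F₀ X + 2 ≤ finrank ↥F₀ (Fin n → ↥F₀) := by
    rw [finrank_V0]; omega
  obtain ⟨u, v, hp, hperp⟩ := Cfsg.Agent.H9SpU.exists_hypPair_perp (orderOf_sig0 hU) (isHerm_H0 hU)
    (nd_H0 hU) X hdim
  refine ⟨up u, up v, rat_up u, rat_up v, congrArg Subtype.val hp.uu, congrArg Subtype.val hp.vv,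
    congrArg Subtype.val hp.uv, ?_⟩
  intro i
  have hmem : down (y i) (hy i) ∈ X := by
    rw [hX]; exact Submodule.subset_span ⟨i, rfl⟩
  obtain ⟨h1, h2⟩ := hperp _ hmem
  exact ⟨hU.bf_eq_zero_symm (congrArg Subtype.val h1), hU.bf_eq_zero_symm (congrArg Subtype.val h2)⟩

namespace PkGeo1

open Module Cfsg.Agent.Lib.Helper2 Cfsg.Agent.Lib.Helper2.UT Cfsg.Agent.Lib.Helper2.HermDecomp
  Cfsg.Agent.Lib.Helper5.PSLCoset

universe u

variable {F : Type u} [Field F] {n : ℕ} {F₀ : Subfield F} {σ : F ≃+* F}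
  {J : Matrix (Fin n) (Fin n) F}

theorem up_single (i : Fin n) : up (Pi.single i (1 : ↥F₀) : Fin n → ↥F₀) = (Pi.single i 1 : Fin n → F) := by
  ext k
  by_cases hk : k = i
  · subst hk; simp [up]
  · simp [up, Pi.single_eq_of_ne hk]

/-- isometry criterion on the standard basis -/
theorem isoU_of_single (hU : USet F₀ σ J) {A : Matrix (Fin n) (Fin n) F}
    (h : ∀ i j, bf σ J (A *ᵥ Pi.single i 1) (A *ᵥ Pi.single j 1) =
      bf σ J (Pi.single i 1) (Pi.single j 1)) : IsoU σ J A := by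
  have h1 : ∀ j, fl σ J (A *ᵥ Pi.single j 1) ᵥ* A = fl σ J (Pi.single j 1) := by
    intro j
    ext i
    have := h i j
    rw [bf, bf, dotProduct_mulVec, dotProduct_single, dotProduct_single, mul_one, mul_one] at this
    exact this
  have h2 : ∀ y j, bf σ J (A *ᵥ y) (A *ᵥ Pi.single j 1) = bf σ J y (Pi.single j 1) := by
    intro y j
    rw [bf, dotProduct_mulVec, h1 j]
    rfl
  have h3 : ∀ y, fl σ J (A *ᵥ y) ᵥ* A = fl σ J y := by
    intro y
    ext i
    have h4 : bf σ J (A *ᵥ Pi.single i 1) (A *ᵥ y) = bf σ J (Pi.single i 1) y := by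
      rw [hU.bf_symm (A *ᵥ y), h2 y i, ← hU.bf_symm]
    rw [bf, bf, dotProduct_mulVec, dotProduct_single, dotProduct_single, mul_one, mul_one] at h4
    exact h4
  intro x y
  rw [bf, dotProduct_mulVec, h3 y]
  rfl

theorem cj_mulVec (A : Matrix (Fin n) (Fin n) F) (w : Fin n → F) :
    cj σ (A *ᵥ w) = A.map σ *ᵥ cj σ w := by
  ext i
  simp only [cj, mulVec, dotProduct, map_sum, map_mul, Matrix.map_apply]

theorem cj_cj (hinv : ∀ a, σ (σ a) = a) (v : Fin n → F) : cj σ (cj σ v) = v := by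
  ext i
  exact hinv (v i)

/-- the determinant of an isometry has norm one -/
theorem det_mul_sigma_det (hU : USet F₀ σ J) {A : Matrix (Fin n) (Fin n) F} (hA : IsoU σ J A) :
    A.det * σ A.det = 1 := by
  have key : Aᵀ * J * A.map σ = J := by
    apply Matrix.mulVec_injective
    funext v
    have h1 := hA.fl_vecMul (cj σ v)
    rw [fl, fl, cj_mulVec, cj_cj hU.invol] at h1
    rw [← mulVec_mulVec, ← mulVec_mulVec, mulVec_transpose]
    exact h1
  have h2 := congrArg Matrix.det key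
  rw [det_mul, det_mul, det_transpose] at h2
  have h3 : (A.map σ).det = σ A.det := by
    have := RingEquiv.map_det σ A
    rw [this]
    rfl
  rw [h3] at h2
  have hJ : J.det ≠ 0 := hU.nondeg.ne_zero
  apply mul_right_cancel₀ hJ
  linear_combination h2

/-- a quasi-reflection is an isometry -/
theorem isoU_qr (hU : USet F₀ σ J) {a : F} {z : Fin n → F}
    (ha : σ a + a + a * σ a * bf σ J z z = 0) : IsoU σ J (tvm a z (fl σ J z)) := by
  intro x y
  rw [tvm_mulVec, tvm_mulVec, fl_dot, fl_dot, bf_add_left, bf_add_right, bf_add_right, bf_smul_left,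
    bf_smul_left, bf_smul_right, bf_smul_right, map_mul, hU.bf_symm y z]
  linear_combination (bf σ J x z * σ (bf σ J y z)) * ha

theorem qr_fix {a : F} {z x : Fin n → F} (hx : bf σ J x z = 0) :
    tvm a z (fl σ J z) *ᵥ x = x := by
  rw [tvm_mulVec, fl_dot, hx, mul_zero, zero_smul, add_zero]

/-- the map `c ↦ c 0 • a + c 1 • b` -/
def pairMap (a b : Fin n → ↥F₀) : (Fin 2 → ↥F₀) →ₗ[↥F₀] (Fin n → ↥F₀) :=
  (LinearMap.proj 0 : (Fin 2 → ↥F₀) →ₗ[↥F₀] ↥F₀).smulRight a +
    (LinearMap.proj 1 : (Fin 2 → ↥F₀) →ₗ[↥F₀] ↥F₀).smulRight b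

theorem pairMap_apply (a b : Fin n → ↥F₀) (c : Fin 2 → ↥F₀) :
    pairMap a b c = c 0 • a + c 1 • b := rfl

theorem pairMap_injective {a b : Fin n → ↥F₀} (h : Indep (up a) (up b)) :
    Function.Injective (pairMap a b) := by
  rw [← LinearMap.ker_eq_bot, LinearMap.ker_eq_bot']
  intro c hc
  rw [pairMap_apply] at hc
  obtain ⟨i, j, hij⟩ := h
  have hi : (c 0 : F) * up a i + (c 1 : F) * up b i = 0 := by
    have := congrArg (fun x : Fin n → ↥F₀ => ((x i : ↥F₀) : F)) hc
    simpa [up] using this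
  have hj : (c 0 : F) * up a j + (c 1 : F) * up b j = 0 := by
    have := congrArg (fun x : Fin n → ↥F₀ => ((x j : ↥F₀) : F)) hc
    simpa [up] using this
  have h0 : (c 0 : F) * (up a i * up b j - up a j * up b i) = 0 := by
    linear_combination up b j * hi - up b i * hj
  have h1 : (c 1 : F) * (up a i * up b j - up a j * up b i) = 0 := by
    linear_combination up a i * hj - up a j * hi
  have h0' : (c 0 : F) = 0 := (mul_eq_zero.1 h0).resolve_right hij
  have h1' : (c 1 : F) = 0 := (mul_eq_zero.1 h1).resolve_right hij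
  funext k
  fin_cases k
  · exact Subtype.ext h0'
  · exact Subtype.ext h1'

theorem H0_pairMap (hU : USet F₀ σ J) {a b : Fin n → ↥F₀} (haa : H0 hU a a = 0) (hbb : H0 hU b b = 0)
    (hab : H0 hU a b = 0) (c d : Fin 2 → ↥F₀) : H0 hU (pairMap a b c) (pairMap a b d) = 0 := by
  have h := isHerm_H0 hU
  have hba : H0 hU b a = 0 := by rw [h.symm a b, hab, map_zero]
  rw [pairMap_apply, pairMap_apply]
  simp only [h.add_left, h.add_right, h.smul_left, h.smul_right, haa, hbb, hab, hba, mul_zero, add_zero]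

/-- Witt over `F₀`: a rational isometry between two rational totally isotropic pairs -/
theorem exists_rat_iso [Finite F] (hU : USet F₀ σ J) {u w u' w' : Fin n → F}
    (h : TIP F₀ σ J u w) (h' : TIP F₀ σ J u' w') :
    ∃ A : Matrix (Fin n) (Fin n) F, RatMat F₀ A ∧ IsoU σ J A ∧ A *ᵥ u = u' ∧ A *ᵥ w = w' := by
  obtain ⟨hu, hw, huu, hww, huw, hind⟩ := h
  obtain ⟨hu', hw', hu'u', hw'w', hu'w', hind'⟩ := h'
  have hH := isHerm_H0 hU
  have e1 : ∀ (x y : Fin n → F) (hx : Rat F₀ x) (hy : Rat F₀ y), bf σ J x y = 0 →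
      H0 hU (down x hx) (down y hy) = 0 := fun x y hx hy hxy => Subtype.ext hxy
  have hiso : ∀ c d, H0 hU (pairMap (down u hu) (down w hw) c) (pairMap (down u hu) (down w hw) d) =
      H0 hU (pairMap (down u' hu') (down w' hw') c) (pairMap (down u' hu') (down w' hw') d) := by
    intro c d
    rw [H0_pairMap hU (e1 _ _ _ _ huu) (e1 _ _ _ _ hww) (e1 _ _ _ _ huw),
      H0_pairMap hU (e1 _ _ _ _ hu'u') (e1 _ _ _ _ hw'w') (e1 _ _ _ _ hu'w')]
  obtain ⟨g₀, hg1, hg2⟩ := WittHerm.witt_aux (orderOf_sig0 hU) hH (nd_H0 hU) _ (Fin 2 → ↥F₀)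
    (pairMap (down u hu) (down w hw)) (pairMap (down u' hu') (down w' hw')) rfl
    (pairMap_injective hind) (pairMap_injective hind') hiso
  obtain ⟨A₀, hA₀⟩ : ∃ A₀ : Matrix (Fin n) (Fin n) ↥F₀,
      A₀ = LinearMap.toMatrix' (g₀ : (Fin n → ↥F₀) →ₗ[↥F₀] (Fin n → ↥F₀)) := ⟨_, rfl⟩
  have hA : ∀ x : Fin n → ↥F₀, A₀.map (F₀.subtype : ↥F₀ →+* F) *ᵥ up x = up (g₀ x) := by
    intro x
    ext i
    have := RingHom.map_mulVec (F₀.subtype : ↥F₀ →+* F) A₀ x i
    rw [hA₀, LinearMap.toMatrix'_mulVec] at this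
    rw [hA₀]
    exact this.symm
  have hgu : g₀ (down u hu) = down u' hu' := by
    have := hg2 (Pi.single 0 1)
    rw [pairMap_apply, pairMap_apply] at this
    simpa using this
  have hgw : g₀ (down w hw) = down w' hw' := by
    have := hg2 (Pi.single 1 1)
    rw [pairMap_apply, pairMap_apply] at this
    simpa using this
  refine ⟨A₀.map (F₀.subtype : ↥F₀ →+* F), ratMat_map F₀ A₀, ?_, ?_, ?_⟩
  · apply isoU_of_single hU
    intro i j
    rw [← up_single (F₀ := F₀) i, ← up_single (F₀ := F₀) j, hA, hA]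
    exact congrArg Subtype.val (hg1 (Pi.single i 1) (Pi.single j 1))
  · have := hA (down u hu)
    rw [hgu] at this
    exact this
  · have := hA (down w hw)
    rw [hgw] at this
    exact this

/-- an element of `F₀` with non-zero trace -/
theorem exists_trace_ne_zero (hU : USet F₀ σ J) : ∃ t ∈ F₀, t + σ t ≠ 0 := by
  by_cases h2 : (1 : F) + 1 = 0
  · obtain ⟨c, hc, hne⟩ := hU.nontriv
    refine ⟨c, hc, ?_⟩
    intro h0
    apply hne
    have h3 : c + c = 0 := by
      have : c + c = c * (1 + 1) := by ring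
      rw [this, h2, mul_zero]
    have h4 : c + σ c = c + c := by rw [h0, h3]
    exact add_left_cancel h4
  · exact ⟨1, F₀.one_mem, by rw [map_one]; exact h2⟩

end PkGeo1

open PkGeo1 in
/-- Witt: the rational special isometries are transitive on rational totally isotropic pairs. -/
theorem tip_trans {F : Type*} [Field F] {n : ℕ} {F₀ : Subfield F} {σ : F ≃+* F}
    {J : Matrix (Fin n) (Fin n) F} [Finite F] (hn : 13 ≤ n) (hU : USet F₀ σ J)
    {u w u' w' : Fin n → F} (h : TIP F₀ σ J u w) (h' : TIP F₀ σ J u' w') :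
    ∃ g : GL (Fin n) F, RatMat F₀ (g : Matrix (Fin n) (Fin n) F) ∧
      IsoU σ J (g : Matrix (Fin n) (Fin n) F) ∧ (g : Matrix (Fin n) (Fin n) F).det = 1 ∧
      (g : Matrix (Fin n) (Fin n) F) *ᵥ u = u' ∧ (g : Matrix (Fin n) (Fin n) F) *ᵥ w = w' := by
  obtain ⟨A, hAr, hAi, hAu, hAw⟩ := exists_rat_iso hU h h'
  obtain ⟨hu', hw', hu'u', hw'w', hu'w', hind'⟩ := h'
  have hδ := det_mul_sigma_det hU hAi
  have hδ0 : A.det ≠ 0 := by
    intro h0
    rw [h0, zero_mul] at hδ
    exact zero_ne_one hδ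
  have hδr : A.det ∈ F₀ := hAr.det
  obtain ⟨μ, hμdef⟩ : ∃ μ : F, μ = (A.det)⁻¹ := ⟨_, rfl⟩
  have hμr : μ ∈ F₀ := by rw [hμdef]; exact F₀.inv_mem hδr
  have hμ : μ * σ μ = 1 := by
    rw [hμdef, map_inv₀, ← mul_inv, hδ, inv_one]
  -- the hyperbolic pair
  obtain ⟨y, hydef⟩ : ∃ y : Fin 5 → Fin n → F,
      y = fun i => if i = 0 then u' else if i = 1 then w' else 0 := ⟨_, rfl⟩
  have hy : ∀ i, Rat F₀ (y i) := by
    intro i
    rw [hydef]
    dsimp only
    split_ifs
    · exact hu'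
    · exact hw'
    · exact Rat.zero F₀
  obtain ⟨e, f, he, hf, hee, hff, hef, hperp⟩ := exists_hyp_perp hn hU y hy
  have hy0 : y 0 = u' := by rw [hydef]; simp
  have hy1 : y 1 = w' := by rw [hydef]; simp
  have heu : bf σ J u' e = 0 := by
    have := (hperp 0).1; rw [hy0] at this; exact hU.bf_eq_zero_symm this
  have hfu : bf σ J u' f = 0 := by
    have := (hperp 0).2; rw [hy0] at this; exact hU.bf_eq_zero_symm this
  have hew : bf σ J w' e = 0 := by
    have := (hperp 1).1; rw [hy1] at this; exact hU.bf_eq_zero_symm this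
  have hfw : bf σ J w' f = 0 := by
    have := (hperp 1).2; rw [hy1] at this; exact hU.bf_eq_zero_symm this
  have hfe : bf σ J f e = 1 := by rw [hU.bf_symm e f, hef, map_one]
  obtain ⟨t, ht, htne⟩ := exists_trace_ne_zero hU
  obtain ⟨z, hzdef⟩ : ∃ z : Fin n → F, z = e + t • f := ⟨_, rfl⟩
  have hz : Rat F₀ z := by rw [hzdef]; exact he.add (hf.smul ht)
  have hzz : bf σ J z z = t + σ t := by
    rw [hzdef, bf_add_left, bf_add_right, bf_add_right, bf_smul_left, bf_smul_left, bf_smul_right,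
      bf_smul_right, hee, hff, hef, hfe]
    ring
  have huz : bf σ J u' z = 0 := by
    rw [hzdef, bf_add_right, bf_smul_right, heu, hfu, mul_zero, add_zero]
  have hwz : bf σ J w' z = 0 := by
    rw [hzdef, bf_add_right, bf_smul_right, hew, hfw, mul_zero, add_zero]
  obtain ⟨N, hNdef⟩ : ∃ N : F, N = t + σ t := ⟨_, rfl⟩
  have hN0 : N ≠ 0 := by rw [hNdef]; exact htne
  have hNr : N ∈ F₀ := by rw [hNdef]; exact F₀.add_mem ht (hU.stable t ht)
  have hσN : σ N = N := by rw [hNdef, map_add, hU.invol]; ring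
  obtain ⟨a, hadef⟩ : ∃ a : F, a = (μ - 1) / N := ⟨_, rfl⟩
  have har : a ∈ F₀ := by
    rw [hadef]; exact F₀.div_mem (F₀.sub_mem hμr F₀.one_mem) hNr
  have hσa : σ a = (σ μ - 1) / N := by
    rw [hadef, map_div₀, map_sub, map_one, hσN]
  have ha : σ a + a + a * σ a * bf σ J z z = 0 := by
    rw [hzz, ← hNdef, hσa, hadef]
    field_simp
    linear_combination hμ
  have hRi : IsoU σ J (tvm a z (fl σ J z)) := isoU_qr hU ha
  have hRr : RatMat F₀ (tvm a z (fl σ J z)) := ratMat_tvm har hz (hU.rat_fl hz)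
  have hRd : (tvm a z (fl σ J z)).det = μ := by
    rw [det_tvm, fl_dot, hzz, ← hNdef, hadef, div_mul_cancel₀ _ hN0]
    ring
  have hdet : (tvm a z (fl σ J z) * A).det = 1 := by
    rw [det_mul, hRd, hμdef, inv_mul_cancel₀ hδ0]
  obtain ⟨g, hg⟩ : ∃ g : GL (Fin n) F,
      (g : Matrix (Fin n) (Fin n) F) = tvm a z (fl σ J z) * A :=
    ⟨Matrix.GeneralLinearGroup.mkOfDetNeZero _ (by rw [hdet]; exact one_ne_zero), rfl⟩
  refine ⟨g, ?_, ?_, ?_, ?_, ?_⟩
  · rw [hg]; exact hRr.mul hAr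
  · rw [hg]; exact hRi.mul hAi
  · rw [hg]; exact hdet
  · rw [hg, ← mulVec_mulVec, hAu, qr_fix huz]
  · rw [hg, ← mulVec_mulVec, hAw, qr_fix hwz]

end Cfsg.Agent.Lib.Helper5.SUf
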