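import Mathlib
import Cfsg.Agent.Lib.Lead.GenCentralizers
import Cfsg.Agent.Lib.Lead.CoprimeSylow3
import Cfsg.Agent.Lib.Helper3.Gen2

/-!
# S4394, package PB: the minimal coprime configuration

`Γ` finite, `A ≤ Γ` abelian of exponent `p`, `K ≤ Γ` of order prime to `p`, normalized but not
centralized by `A`.  Then there are an `r`-subgroup `M ≤ K` (`r ≠ p`), normalized but not
centralized by `A`, all of whose proper `A`-invariant subgroups are centralized by `A`, and
`s ∈ A` with `A = C_A(M)⟨s⟩`.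
-/

set_option autoImplicit false

namespace Cfsg.Agent.Lib.Helper9.Schm

open Cfsg.Agent.Lib.Lead

universe u

variable {Γ : Type u} [Group Γ]

/-- `A ≤ C(M)` iff `M ≤ C(A)`. -/
theorem le_centralizer_comm (A M : Subgroup Γ) :
    A ≤ Subgroup.centralizer (M : Set Γ) ↔ M ≤ Subgroup.centralizer (A : Set Γ) := by
  constructor
  · intro h m hm
    rw [Subgroup.mem_centralizer_iff]
    intro a ha
    have := (Subgroup.mem_centralizer_iff.mp (h ha)) m hm
    exact this.symm
  · intro h a ha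
    rw [Subgroup.mem_centralizer_iff]
    intro m hm
    have := (Subgroup.mem_centralizer_iff.mp (h hm)) a ha
    exact this.symm

/-- The subgroup `{a^i s^j}` generated by two commuting elements of order dividing `p`. -/
def pairSubgroup (p : ℕ) (hp : 0 < p) (a s : Γ) (hcomm : Commute a s) (ha : a ^ p = 1)
    (hs : s ^ p = 1) : Subgroup Γ where
  carrier := {x | ∃ i j : ℕ, x = a ^ i * s ^ j}
  one_mem' := ⟨0, 0, by simp⟩
  mul_mem' := by
    rintro x y ⟨i, j, rfl⟩ ⟨k, l, rfl⟩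
    refine ⟨i + k, j + l, ?_⟩
    have h1 : Commute (s ^ j) (a ^ k) := (hcomm.pow_pow k j).symm
    calc a ^ i * s ^ j * (a ^ k * s ^ l) = a ^ i * (s ^ j * a ^ k) * s ^ l := by group
      _ = a ^ i * (a ^ k * s ^ j) * s ^ l := by rw [h1.eq]
      _ = a ^ (i + k) * s ^ (j + l) := by rw [pow_add, pow_add]; group
  inv_mem' := by
    rintro x ⟨i, j, rfl⟩
    refine ⟨i * (p - 1), j * (p - 1), ?_⟩
    have h1 : Commute (a ^ i) (s ^ j) := hcomm.pow_pow i j
    have ha' : a ^ i * a ^ (i * (p - 1)) = 1 := by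
      rw [← pow_add]
      have : i + i * (p - 1) = p * i := by
        obtain ⟨q, rfl⟩ : ∃ q, p = q + 1 := ⟨p - 1, by omega⟩
        simp only [Nat.add_sub_cancel]
        ring
      rw [this, pow_mul, ha, one_pow]
    have hs' : s ^ j * s ^ (j * (p - 1)) = 1 := by
      rw [← pow_add]
      have : j + j * (p - 1) = p * j := by
        obtain ⟨q, rfl⟩ : ∃ q, p = q + 1 := ⟨p - 1, by omega⟩
        simp only [Nat.add_sub_cancel]
        ring
      rw [this, pow_mul, hs, one_pow]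
    rw [mul_inv_rev, ← h1.inv_inv.eq, eq_inv_of_mul_eq_one_right ha', eq_inv_of_mul_eq_one_right hs']

theorem mem_pairSubgroup {p : ℕ} {hp : 0 < p} {a s : Γ} {hcomm : Commute a s} {ha : a ^ p = 1}
    {hs : s ^ p = 1} {x : Γ} :
    x ∈ pairSubgroup p hp a s hcomm ha hs ↔ ∃ i j : ℕ, x = a ^ i * s ^ j := Iff.rfl

/-- If `x ^ p = 1` and `p ∤ i` (`p` prime), then `x` is a power of `x ^ i`. -/
theorem exists_pow_pow_eq {p : ℕ} (hp : p.Prime) (x : Γ) (hx : x ^ p = 1) (i : ℕ)
    (hi : ¬ p ∣ i) : ∃ k : ℕ, (x ^ i) ^ k = x ∧ ∃ t : ℕ, i * k = 1 + p * t := by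
  have hcop : Nat.Coprime i p := ((Nat.Prime.coprime_iff_not_dvd hp).mpr hi).symm
  obtain ⟨k, -, hk⟩ := Nat.exists_mul_mod_eq_one_of_coprime hcop hp.one_lt
  have h1 : i * k = 1 + p * (i * k / p) := by
    have := Nat.div_add_mod (i * k) p
    rw [hk] at this
    omega
  refine ⟨k, ?_, ⟨_, h1⟩⟩
  rw [← pow_mul, h1, pow_add, pow_one, pow_mul, hx, one_pow, mul_one]

/-- A subgroup `A` normalizes `N` as soon as it maps `N` into itself. -/
theorem le_normalizer_of_conj_mem (A N : Subgroup Γ)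
    (h : ∀ b ∈ A, ∀ n ∈ N, b * n * b⁻¹ ∈ N) : A ≤ Subgroup.normalizer (N : Set Γ) := by
  intro b hb
  rw [Subgroup.mem_normalizer_iff]
  intro n
  constructor
  · exact h b hb n
  · intro hn
    have := h b⁻¹ (A.inv_mem hb) _ hn
    simpa [mul_assoc] using this

/-- (3a) For `x ∈ A` not centralizing `M`, `C_M(x)` is centralized by `A`. -/
theorem inf_centralizer_singleton_le (A M : Subgroup Γ)
    (hAab : ∀ a ∈ A, ∀ b ∈ A, a * b = b * a)
    (hAM : A ≤ Subgroup.normalizer (M : Set Γ))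
    (hmin : ∀ N : Subgroup Γ, N ≤ M → N ≠ M → A ≤ Subgroup.normalizer (N : Set Γ) →
        A ≤ Subgroup.centralizer (N : Set Γ))
    (x : Γ) (hx : x ∈ A) (hxM : x ∉ Subgroup.centralizer (M : Set Γ)) :
    M ⊓ Subgroup.centralizer ({x} : Set Γ) ≤ Subgroup.centralizer (A : Set Γ) := by
  obtain ⟨N, hN⟩ : ∃ N : Subgroup Γ, N = M ⊓ Subgroup.centralizer ({x} : Set Γ) := ⟨_, rfl⟩
  rw [← hN]
  have hNM : N ≤ M := hN ▸ inf_le_left
  have hNne : N ≠ M := by
    intro h
    apply hxM
    rw [Subgroup.mem_centralizer_iff]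
    intro m hm
    have h1 : m ∈ N := h ▸ hm
    rw [hN] at h1
    exact Subgroup.mem_centralizer_singleton_iff.mp h1.2
  have hAN : A ≤ Subgroup.normalizer (N : Set Γ) := by
    apply le_normalizer_of_conj_mem
    intro b hb n hn
    rw [hN] at hn ⊢
    refine ⟨?_, ?_⟩
    · exact (Subgroup.mem_normalizer_iff.mp (hAM hb) n).mp hn.1
    · have h1 : n * x = x * n := Subgroup.mem_centralizer_singleton_iff.mp hn.2
      have h2 : b * x = x * b := hAab b hb x hx
      apply Subgroup.mem_centralizer_singleton_iff.mpr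
      calc b * n * b⁻¹ * x = b * n * (b⁻¹ * (x * b)) * b⁻¹ := by group
        _ = b * n * (b⁻¹ * (b * x)) * b⁻¹ := by rw [h2]
        _ = b * (n * x) * b⁻¹ := by group
        _ = b * (x * n) * b⁻¹ := by rw [h1]
        _ = (b * x) * n * b⁻¹ := by group
        _ = (x * b) * n * b⁻¹ := by rw [h2]
        _ = x * (b * n * b⁻¹) := by group
  exact (le_centralizer_comm A N).mp (hmin N hNM hNne hAN)

/-- (3) `A = C_A(M)⟨s⟩`. -/
theorem exists_mul_pow_mem_centralizer [Finite Γ] {p : ℕ} [hp : Fact p.Prime] (A M : Subgroup Γ)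
    (hAab : ∀ a ∈ A, ∀ b ∈ A, a * b = b * a) (hAexp : ∀ a ∈ A, a ^ p = 1)
    (hcop : (Nat.card A).Coprime (Nat.card M))
    (hAM : A ≤ Subgroup.normalizer (M : Set Γ))
    (hmin : ∀ N : Subgroup Γ, N ≤ M → N ≠ M → A ≤ Subgroup.normalizer (N : Set Γ) →
        A ≤ Subgroup.centralizer (N : Set Γ))
    (s : Γ) (hs : s ∈ A) (hsM : s ∉ Subgroup.centralizer (M : Set Γ))
    (a : Γ) (ha : a ∈ A) : ∃ i : ℕ, a * s ^ i ∈ Subgroup.centralizer (M : Set Γ) := by
  by_contra hcon
  push Not at hcon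
  have hpp : p.Prime := hp.out
  have hcomm : Commute a s := hAab a ha s hs
  have hap : a ^ p = 1 := hAexp a ha
  have hsp : s ^ p = 1 := hAexp s hs
  obtain ⟨B, hB⟩ : ∃ B : Subgroup Γ, B = pairSubgroup p hpp.pos a s hcomm hap hsp := ⟨_, rfl⟩
  have hBA : B ≤ A := by
    intro x hx
    rw [hB] at hx
    obtain ⟨i, j, rfl⟩ := hx
    exact A.mul_mem (A.pow_mem ha i) (A.pow_mem hs j)
  have hsB : s ∈ B := by
    rw [hB]
    exact ⟨0, 1, by simp⟩
  have haB : a ∈ B := by
    rw [hB]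
    exact ⟨1, 0, by simp⟩
  have hs1 : s ≠ 1 := by
    intro h
    apply hsM
    rw [h]
    exact Subgroup.one_mem _
  -- nonidentity elements of `B` do not centralize `M`
  have hBx : ∀ x ∈ B, x ≠ 1 → x ∉ Subgroup.centralizer (M : Set Γ) := by
    intro x hx hx1 hxM
    rw [hB] at hx
    obtain ⟨i, j, rfl⟩ := hx
    by_cases hi : p ∣ i
    · obtain ⟨t, rfl⟩ := hi
      have h1 : a ^ (p * t) = 1 := by rw [pow_mul, hap, one_pow]
      rw [h1, one_mul] at hx1 hxM
      have hj : ¬ p ∣ j := by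
        rintro ⟨t', rfl⟩
        apply hx1
        rw [pow_mul, hsp, one_pow]
      obtain ⟨k, hk, -⟩ := exists_pow_pow_eq hpp s hsp j hj
      apply hsM
      rw [← hk]
      exact Subgroup.pow_mem _ hxM k
    · obtain ⟨k, hk, -⟩ := exists_pow_pow_eq hpp a hap i hi
      apply hcon (j * k)
      have h2 : (a ^ i * s ^ j) ^ k = a * s ^ (j * k) := by
        rw [(hcomm.pow_pow i j).mul_pow, hk, ← pow_mul]
      rw [← h2]
      exact Subgroup.pow_mem _ hxM k
  have hBcomm : IsMulCommutative B := by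
    constructor
    constructor
    rintro ⟨x, hx⟩ ⟨y, hy⟩
    apply Subtype.ext
    exact hAab x (hBA hx) y (hBA hy)
  have hncyc : ¬ IsCyclic B := by
    intro hcyc
    have hexp : Monoid.exponent B ∣ p := by
      apply Monoid.exponent_dvd_of_forall_pow_eq_one
      rintro ⟨x, hx⟩
      apply Subtype.ext
      simpa using hAexp x (hBA hx)
    rw [IsCyclic.exponent_eq_card] at hexp
    have hzs : Nat.card (Subgroup.zpowers s) = p := by
      rw [Nat.card_zpowers]
      have h1 : orderOf s ∣ p := orderOf_dvd_of_pow_eq_one hsp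
      rcases (Nat.dvd_prime hpp).mp h1 with h | h
      · exact absurd (orderOf_eq_one_iff.mp h) hs1
      · exact h
    have hzle : Subgroup.zpowers s ≤ B := by
      rw [Subgroup.zpowers_le]
      exact hsB
    have hBp : Nat.card B ≤ p := Nat.le_of_dvd hpp.pos hexp
    have hzB : Subgroup.zpowers s = B :=
      Subgroup.eq_of_le_of_card_ge hzle (by rw [hzs]; exact hBp)
    have haz : a ∈ Subgroup.zpowers s := hzB ▸ haB
    rw [← mem_powers_iff_mem_zpowers] at haz
    obtain ⟨m, hm⟩ := haz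
    apply hcon (m * (p - 1))
    have : a * s ^ (m * (p - 1)) = 1 := by
      rw [← hm]
      change s ^ m * s ^ (m * (p - 1)) = 1
      rw [← pow_add]
      have : m + m * (p - 1) = p * m := by
        obtain ⟨q, rfl⟩ : ∃ q, p = q + 1 := ⟨p - 1, by have := hpp.pos; omega⟩
        simp only [Nat.add_sub_cancel]
        ring
      rw [this, pow_mul, hsp, one_pow]
    rw [this]
    exact Subgroup.one_mem _
  have hcopB : (Nat.card B).Coprime (Nat.card M) :=
    Nat.Coprime.coprime_dvd_left (Subgroup.card_dvd_of_le hBA) hcop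
  have gen := generated_by_centralizers B M hncyc (hBA.trans hAM) hcopB
  have hMA : M ≤ Subgroup.centralizer (A : Set Γ) := by
    calc M = ⨆ x ∈ {x : Γ | x ∈ B ∧ x ≠ 1}, M ⊓ Subgroup.centralizer {x} := gen.symm
      _ ≤ Subgroup.centralizer (A : Set Γ) := by
        apply iSup₂_le
        rintro x ⟨hxB, hx1⟩
        exact inf_centralizer_singleton_le A M hAab hAM hmin x (hBA hxB) (hBx x hxB hx1)
  exact hsM ((le_centralizer_comm A M).mpr hMA hs)

/-- **PB**: the minimal coprime configuration. -/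
theorem exists_min_config {Γ : Type u} [Group Γ] [Finite Γ] {p : ℕ} [Fact p.Prime]
    (A K : Subgroup Γ) (hAab : ∀ a ∈ A, ∀ b ∈ A, a * b = b * a)
    (hAexp : ∀ a ∈ A, a ^ p = 1) (hK : (Nat.card K).Coprime p)
    (hAK : A ≤ Subgroup.normalizer (K : Set Γ)) (hnc : ¬ A ≤ Subgroup.centralizer (K : Set Γ)) :
    ∃ (M : Subgroup Γ) (r : ℕ) (s : Γ), r.Prime ∧ r ≠ p ∧ M ≤ K ∧ IsPGroup r M ∧
      A ≤ Subgroup.normalizer (M : Set Γ) ∧ s ∈ A ∧ s ∉ Subgroup.centralizer (M : Set Γ) ∧
      (∀ a ∈ A, ∃ i : ℕ, a * s ^ i ∈ Subgroup.centralizer (M : Set Γ)) ∧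
      (∀ N : Subgroup Γ, N ≤ M → N ≠ M → A ≤ Subgroup.normalizer (N : Set Γ) →
        A ≤ Subgroup.centralizer (N : Set Γ)) := by
  classical
  have hpp : p.Prime := Fact.out
  -- step 0: `A` is a solvable `p`-group, of order prime to `|K|`
  have hApg : IsPGroup p A := by
    intro g
    refine ⟨1, ?_⟩
    apply Subtype.ext
    simpa using hAexp g g.2
  obtain ⟨n, hn⟩ := IsPGroup.iff_card.mp hApg
  have hcopAK : (Nat.card A).Coprime (Nat.card K) := by
    rw [hn]
    exact Nat.Coprime.pow_left n hK.symm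
  have hAsolv : Group.IsSolvable A := by
    apply Group.isSolvable_of_comm
    rintro ⟨x, hx⟩ ⟨y, hy⟩
    apply Subtype.ext
    exact hAab x hx y hy
  -- step 1: a minimal `M`
  have hex : ∃ k : ℕ, ∃ M : Subgroup Γ, M ≤ K ∧ Nat.card M = k ∧
      A ≤ Subgroup.normalizer (M : Set Γ) ∧ ¬ A ≤ Subgroup.centralizer (M : Set Γ) :=
    ⟨Nat.card K, K, le_rfl, rfl, hAK, hnc⟩
  obtain ⟨M, hMK, hMcard, hAM, hncM⟩ := Nat.find_spec hex
  have hmin : ∀ N : Subgroup Γ, N ≤ M → N ≠ M → A ≤ Subgroup.normalizer (N : Set Γ) →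
      A ≤ Subgroup.centralizer (N : Set Γ) := by
    intro N hNM hNne hAN
    by_contra hN
    have h1 : Nat.find hex ≤ Nat.card N :=
      Nat.find_min' hex ⟨N, hNM.trans hMK, rfl, hAN, hN⟩
    rw [← hMcard] at h1
    exact hNne (Subgroup.eq_of_le_of_card_ge hNM h1)
  have hcopM : (Nat.card A).Coprime (Nat.card M) :=
    Nat.Coprime.coprime_dvd_right (Subgroup.card_dvd_of_le hMK) hcopAK
  -- step 2: `M` is an `r`-group
  have hrgrp : ∃ r : ℕ, r.Prime ∧ IsPGroup r M := by
    by_contra hno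
    push Not at hno
    apply hncM
    rw [le_centralizer_comm]
    apply Cfsg.Agent.Lib.Helper3.Gen.le_of_forall_sylow_le
    intro q hq
    obtain ⟨P, hP⟩ := coprime_invariant_sylow_exists A M hAM hcopM (Or.inl hAsolv) q
    refine ⟨P, ?_⟩
    by_cases hPM : (P : Subgroup M).map M.subtype = M
    · exfalso
      apply hno q hq.out
      have h1 : IsPGroup q ((P : Subgroup M).map M.subtype) := P.isPGroup'.map _
      rw [hPM] at h1
      exact h1
    · exact (le_centralizer_comm A _).mp (hmin _ (Subgroup.map_subtype_le _) hPM hP)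
  obtain ⟨r, hr, hMr⟩ := hrgrp
  have hMbot : M ≠ ⊥ := by
    intro h
    apply hncM
    rw [h]
    intro a _
    rw [Subgroup.mem_centralizer_iff]
    intro m hm
    have : m = 1 := by simpa using hm
    rw [this, one_mul, mul_one]
  have hrp : r ≠ p := by
    intro hrp
    have : Fact r.Prime := ⟨hr⟩
    obtain ⟨k, hk⟩ := IsPGroup.iff_card.mp hMr
    have hk0 : k ≠ 0 := by
      intro h0
      rw [h0, pow_zero] at hk
      exact hMbot (Subgroup.card_eq_one.mp hk)
    have h1 : p ∣ Nat.card M := by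
      rw [hk, hrp]
      exact dvd_pow_self p hk0
    have h2 : p ∣ Nat.card K := h1.trans (Subgroup.card_dvd_of_le hMK)
    have h3 : p ∣ 1 := by
      have := Nat.dvd_gcd h2 (dvd_refl p)
      rwa [hK.gcd_eq_one] at this
    exact hpp.one_lt.ne' (Nat.dvd_one.mp h3)
  -- step 3: `s`
  obtain ⟨s, hsA, hsM⟩ := SetLike.not_le_iff_exists.mp hncM
  exact ⟨M, r, s, hr, hrp, hMK, hMr, hAM, hsA, hsM,
    fun a ha => exists_mul_pow_mem_centralizer A M hAab hAexp hcopM hAM hmin s hsA hsM a ha, hmin⟩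

end Cfsg.Agent.Lib.Helper9.Schm
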