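import Mathlib
import Cfsg.Agent.Lib.Helper5.SLnUni2
import Cfsg.Agent.Lib.Helper5.SLnRoots

set_option autoImplicit false

/-!
# The unitriangular subgroup of `SL_n(F)` is generated by the positive root elements
-/

namespace Cfsg.Agent.H9PF

open Matrix Matrix.SpecialLinearGroup Cfsg.Agent.Lib.Helper5.SLnBN Cfsg.Agent.Lib.Helper5.SLnAut

variable {n : ℕ} {F : Type*} [Field F]

/-- the positive root elements -/
def posRoots (n : ℕ) (F : Type*) [Field F] : Set (SpecialLinearGroup (Fin n) F) :=
  {g | ∃ (a b : Fin n) (h : a < b) (t : F), g = transvection (ne_of_lt h) t}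

theorem coe_mul_transvection (u : SpecialLinearGroup (Fin n) F) {a b : Fin n} (hab : a ≠ b) (c : F) :
    ((u * transvection hab c : SpecialLinearGroup (Fin n) F) : Matrix (Fin n) (Fin n) F)
      = (u : Matrix (Fin n) (Fin n) F) * Matrix.transvection a b c := rfl

theorem coe_transvection_mul (u : SpecialLinearGroup (Fin n) F) {a b : Fin n} (hab : a ≠ b) (c : F) :
    ((transvection hab c * u : SpecialLinearGroup (Fin n) F) : Matrix (Fin n) (Fin n) F)
      = Matrix.transvection a b c * (u : Matrix (Fin n) (Fin n) F) := rfl

theorem unip_le_closure_aux (K : ℕ) : ∀ u ∈ unip n F,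
    (∀ a b : Fin n, a < b → (u : Matrix (Fin n) (Fin n) F) a b ≠ 0 → a.val * n + b.val < K) →
    u ∈ Subgroup.closure (posRoots n F) := by
  induction K with
  | zero =>
    intro u hu h
    have : u = 1 := by
      apply Subtype.ext
      ext a b
      show (u : Matrix (Fin n) (Fin n) F) a b = (1 : Matrix (Fin n) (Fin n) F) a b
      rcases lt_trichotomy a b with hab | hab | hab
      · rw [Matrix.one_apply_ne (ne_of_lt hab)]
        by_contra hne
        exact absurd (h a b hab hne) (Nat.not_lt_zero _)
      · subst hab
        rw [Matrix.one_apply_eq]
        exact hu.2 a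
      · rw [Matrix.one_apply_ne (ne_of_gt hab)]
        exact hu.1 a b hab
    rw [this]
    exact Subgroup.one_mem _
  | succ K ih =>
    intro u hu h
    by_cases hex : ∃ a b : Fin n, a < b ∧ (u : Matrix (Fin n) (Fin n) F) a b ≠ 0 ∧ a.val * n + b.val = K
    · obtain ⟨a, b, hab, hne, hK⟩ := hex
      obtain ⟨c, hc⟩ : ∃ c : F, c = (u : Matrix (Fin n) (Fin n) F) a b := ⟨_, rfl⟩
      have hu' : u * transvection (ne_of_lt hab) (-c) ∈ unip n F :=
        (unip n F).mul_mem hu (transvection_mem_unip hab _)
      have h1 : u * transvection (ne_of_lt hab) (-c) ∈ Subgroup.closure (posRoots n F) := by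
        apply ih _ hu'
        intro a' b' hab' hne'
        rw [coe_mul_transvection] at hne'
        by_cases hb : b' = b
        · subst hb
          rw [Matrix.mul_transvection_apply_same] at hne'
          rcases lt_trichotomy a' a with h3 | h3 | h3
          · have : a'.val * n < a.val * n := by
              apply Nat.mul_lt_mul_of_pos_right h3
              exact lt_of_le_of_lt (Nat.zero_le _) b'.2
            omega
          · subst h3
            exfalso
            apply hne'
            rw [hu.2 a', ← hc]
            ring
          · exfalso
            have h4 : (u : Matrix (Fin n) (Fin n) F) a' a = 0 := hu.1 a' a h3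
            rw [h4, mul_zero, add_zero] at hne'
            have h5 := h a' b' hab' hne'
            have : a.val * n < a'.val * n := by
              apply Nat.mul_lt_mul_of_pos_right h3
              exact lt_of_le_of_lt (Nat.zero_le _) b'.2
            omega
        · rw [Matrix.mul_transvection_apply_of_ne _ _ _ _ hb] at hne'
          have h5 := h a' b' hab' hne'
          have h6 : a'.val * n + b'.val ≠ K := by
            intro h7
            apply hb
            have h8 : (a'.val * n + b'.val) % n = (a.val * n + b.val) % n := by rw [h7, hK]
            rw [Nat.mul_add_mod_self_right, Nat.mul_add_mod_self_right, Nat.mod_eq_of_lt b'.2,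
              Nat.mod_eq_of_lt b.2] at h8
            exact Fin.ext h8
          omega
      have h2 : u = u * transvection (ne_of_lt hab) (-c) * transvection (ne_of_lt hab) c := by
        rw [mul_assoc, ← transvection_add, neg_add_cancel, transvection_coeff_zero, mul_one]
      rw [h2]
      exact Subgroup.mul_mem _ h1 (Subgroup.subset_closure ⟨a, b, hab, c, rfl⟩)
    · push Not at hex
      apply ih u hu
      intro a b hab hne
      have h5 := h a b hab hne
      have h6 := hex a b hab hne
      omega

theorem unip_le_closure : unip n F ≤ Subgroup.closure (posRoots n F) := by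
  intro u hu
  exact unip_le_closure_aux (n * n + n) u hu (fun a b _ _ => by
    have := a.2
    have := b.2
    have : a.val * n ≤ n * n := Nat.mul_le_mul_right n (le_of_lt a.2)
    omega)

end Cfsg.Agent.H9PF
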