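import Mathlib
import Cfsg.Prelude
import Cfsg.Agent.Lib.Helper9.SpFus1
import Cfsg.Agent.Lib.Helper5.SLnUni2

set_option autoImplicit false

/-!
# The unitriangular subgroup of the symplectic group
-/

namespace Cfsg.Agent.H9SpF

open Matrix

variable {F : Type*} [Field F] {m : ℕ}

/-- the order of the standard basis: `e₁ < … < e_m < f_m < … < f₁` -/
def ord (m : ℕ) : Fin m ⊕ Fin m → ℕ := Sum.elim (fun i => i.val) (fun i => 2 * m - 1 - i.val)

theorem ord_inl (i : Fin m) : ord m (Sum.inl i) = i.val := rfl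

theorem ord_inr (i : Fin m) : ord m (Sum.inr i) = 2 * m - 1 - i.val := rfl

theorem ord_injective : Function.Injective (ord m) := by
  rintro (i | i) (j | j) h
  · rw [ord_inl, ord_inl] at h
    rw [Fin.ext h]
  · rw [ord_inl, ord_inr] at h
    have := i.2; have := j.2; omega
  · rw [ord_inr, ord_inl] at h
    have := i.2; have := j.2; omega
  · rw [ord_inr, ord_inr] at h
    have := i.2; have := j.2
    have : i.val = j.val := by omega
    rw [Fin.ext this]

theorem ord_lt (a : Fin m ⊕ Fin m) : ord m a < 2 * m := by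
  rcases a with i | i
  · rw [ord_inl]; have := i.2; omega
  · rw [ord_inr]; have := i.2; omega

/-- diagonal entries of a product of triangular matrices -/
theorem blockTriangular_mul_diag {M N : Matrix (Fin m ⊕ Fin m) (Fin m ⊕ Fin m) F}
    (hM : BlockTriangular M (ord m)) (hN : BlockTriangular N (ord m)) (a : Fin m ⊕ Fin m) :
    (M * N) a a = M a a * N a a := by
  rw [Matrix.mul_apply]
  apply Finset.sum_eq_single a
  · intro k _ hk
    rcases lt_or_gt_of_ne (fun h => hk (ord_injective h)) with h | h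
    · rw [hM h, zero_mul]
    · rw [hN h, mul_zero]
  · intro h
    exact absurd (Finset.mem_univ a) h

theorem coe_mul' (g h : symplecticGroup (Fin m) F) :
    ((g * h : symplecticGroup (Fin m) F) : Matrix (Fin m ⊕ Fin m) (Fin m ⊕ Fin m) F) =
      (g : Matrix (Fin m ⊕ Fin m) (Fin m ⊕ Fin m) F) * (h : Matrix (Fin m ⊕ Fin m) (Fin m ⊕ Fin m) F) := rfl

theorem coe_one' :
    ((1 : symplecticGroup (Fin m) F) : Matrix (Fin m ⊕ Fin m) (Fin m ⊕ Fin m) F) = 1 := rfl

theorem blockTriangular_inv {g : symplecticGroup (Fin m) F}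
    (hg : BlockTriangular (g : Matrix (Fin m ⊕ Fin m) (Fin m ⊕ Fin m) F) (ord m)) :
    BlockTriangular ((g⁻¹ : symplecticGroup (Fin m) F) : Matrix (Fin m ⊕ Fin m) (Fin m ⊕ Fin m) F) (ord m) := by
  have h1 : (g : Matrix (Fin m ⊕ Fin m) (Fin m ⊕ Fin m) F) *
      ((g⁻¹ : symplecticGroup (Fin m) F) : Matrix (Fin m ⊕ Fin m) (Fin m ⊕ Fin m) F) = 1 := by
    rw [← coe_mul', mul_inv_cancel, coe_one']
  haveI : Invertible (g : Matrix (Fin m ⊕ Fin m) (Fin m ⊕ Fin m) F) :=
    _root_.invertibleOfRightInverse _ _ h1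
  rw [SymplecticGroup.coe_inv']
  exact blockTriangular_inv_of_blockTriangular hg

/-- the triangular subgroup (a Borel subgroup) -/
def Bsp (m : ℕ) (F : Type*) [Field F] : Subgroup (symplecticGroup (Fin m) F) where
  carrier := {g | BlockTriangular (g : Matrix (Fin m ⊕ Fin m) (Fin m ⊕ Fin m) F) (ord m)}
  mul_mem' := by
    intro g h hg hh
    exact hg.mul hh
  one_mem' := blockTriangular_one
  inv_mem' := by
    intro g hg
    exact blockTriangular_inv hg

/-- the unitriangular subgroup -/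
def Usp (m : ℕ) (F : Type*) [Field F] : Subgroup (symplecticGroup (Fin m) F) where
  carrier := {g | BlockTriangular (g : Matrix (Fin m ⊕ Fin m) (Fin m ⊕ Fin m) F) (ord m) ∧
    ∀ a, (g : Matrix (Fin m ⊕ Fin m) (Fin m ⊕ Fin m) F) a a = 1}
  mul_mem' := by
    rintro g h ⟨hg, hg1⟩ ⟨hh, hh1⟩
    refine ⟨hg.mul hh, fun a => ?_⟩
    rw [coe_mul', blockTriangular_mul_diag hg hh, hg1, hh1, mul_one]
  one_mem' := ⟨blockTriangular_one, fun a => Matrix.one_apply_eq a⟩
  inv_mem' := by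
    rintro g ⟨hg, hg1⟩
    refine ⟨blockTriangular_inv hg, fun a => ?_⟩
    have h1 := blockTriangular_mul_diag hg (blockTriangular_inv hg) a
    rw [← coe_mul', mul_inv_cancel, coe_one', Matrix.one_apply_eq, hg1, one_mul] at h1
    exact h1.symm

theorem mem_Usp {g : symplecticGroup (Fin m) F} :
    g ∈ Usp m F ↔ BlockTriangular (g : Matrix (Fin m ⊕ Fin m) (Fin m ⊕ Fin m) F) (ord m) ∧
      ∀ a, (g : Matrix (Fin m ⊕ Fin m) (Fin m ⊕ Fin m) F) a a = 1 := Iff.rfl

theorem mem_Bsp {g : symplecticGroup (Fin m) F} :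
    g ∈ Bsp m F ↔ BlockTriangular (g : Matrix (Fin m ⊕ Fin m) (Fin m ⊕ Fin m) F) (ord m) := Iff.rfl

theorem Usp_le_Bsp : Usp m F ≤ Bsp m F := fun _ h => h.1

/-- Siegel elements are unitriangular -/
theorem sieg_mem_Usp (S : Matrix (Fin m) (Fin m) F) (h : S.IsSymm) : sieg S h ∈ Usp m F := by
  constructor
  · rintro (i | i) (j | j) hij
    · rw [sieg_apply_ll, Matrix.one_apply_ne]
      rintro rfl
      exact lt_irrefl _ hij
    · rw [ord_inr, ord_inl] at hij
      have := i.2; have := j.2; omega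
    · rfl
    · rw [sieg_apply_rr, Matrix.one_apply_ne]
      rintro rfl
      exact lt_irrefl _ hij
  · rintro (i | i)
    · rw [sieg_apply_ll, Matrix.one_apply_eq]
    · rw [sieg_apply_rr, Matrix.one_apply_eq]

open Cfsg.Agent.Lib.Helper5.SLnBN in
/-- the Levi embedding restricted to the special linear group -/
def levS : SpecialLinearGroup (Fin m) F →* symplecticGroup (Fin m) F :=
  lev.comp SpecialLinearGroup.toGL

theorem levS_apply_ll (P : SpecialLinearGroup (Fin m) F) (i j : Fin m) :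
    ((levS P : symplecticGroup (Fin m) F) : Matrix (Fin m ⊕ Fin m) (Fin m ⊕ Fin m) F) (Sum.inl i) (Sum.inl j) =
      (P : Matrix (Fin m) (Fin m) F) i j := rfl

theorem levS_apply_lr (P : SpecialLinearGroup (Fin m) F) (i j : Fin m) :
    ((levS P : symplecticGroup (Fin m) F) : Matrix (Fin m ⊕ Fin m) (Fin m ⊕ Fin m) F) (Sum.inl i) (Sum.inr j) =
      0 := rfl

theorem levS_apply_rl (P : SpecialLinearGroup (Fin m) F) (i j : Fin m) :
    ((levS P : symplecticGroup (Fin m) F) : Matrix (Fin m ⊕ Fin m) (Fin m ⊕ Fin m) F) (Sum.inr i) (Sum.inl j) =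
      0 := rfl

theorem levS_apply_rr (P : SpecialLinearGroup (Fin m) F) (i j : Fin m) :
    ((levS P : symplecticGroup (Fin m) F) : Matrix (Fin m ⊕ Fin m) (Fin m ⊕ Fin m) F) (Sum.inr i) (Sum.inr j) =
      ((P⁻¹ : SpecialLinearGroup (Fin m) F) : Matrix (Fin m) (Fin m) F) j i := by
  show ((((SpecialLinearGroup.toGL P)⁻¹ : GL (Fin m) F)) : Matrix (Fin m) (Fin m) F) j i = _
  rw [← map_inv]
  rfl

open Cfsg.Agent.Lib.Helper5.SLnBN in
theorem levS_mem_Usp {P : SpecialLinearGroup (Fin m) F} (hP : P ∈ unip m F) : levS P ∈ Usp m F := by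
  have hPi : P⁻¹ ∈ unip m F := (unip m F).inv_mem hP
  constructor
  · rintro (i | i) (j | j) hij
    · rw [levS_apply_ll]
      exact hP.1 i j hij
    · rw [ord_inr, ord_inl] at hij
      have := i.2; have := j.2; omega
    · rfl
    · rw [levS_apply_rr]
      apply hPi.1 j i
      rw [ord_inr, ord_inr] at hij
      have := i.2; have := j.2
      exact Fin.lt_def.mpr (by omega)
  · rintro (i | i)
    · rw [levS_apply_ll]
      exact hP.2 i
    · rw [levS_apply_rr]
      exact hPi.2 i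

open Cfsg.Agent.Lib.Helper5.SLnBN in
/-- the structure of unitriangular symplectic matrices -/
theorem exists_levS_sieg {g : symplecticGroup (Fin m) F} (hg : g ∈ Usp m F) :
    ∃ P ∈ unip m F, ∃ (S : Matrix (Fin m) (Fin m) F) (hS : S.IsSymm), g = levS P * sieg S hS := by
  obtain ⟨A, hA⟩ : ∃ A, A = (g : Matrix (Fin m ⊕ Fin m) (Fin m ⊕ Fin m) F).toBlocks₁₁ := ⟨_, rfl⟩
  obtain ⟨B, hB⟩ : ∃ B, B = (g : Matrix (Fin m ⊕ Fin m) (Fin m ⊕ Fin m) F).toBlocks₁₂ := ⟨_, rfl⟩
  obtain ⟨D, hD⟩ : ∃ D, D = (g : Matrix (Fin m ⊕ Fin m) (Fin m ⊕ Fin m) F).toBlocks₂₂ := ⟨_, rfl⟩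
  have hC : (g : Matrix (Fin m ⊕ Fin m) (Fin m ⊕ Fin m) F).toBlocks₂₁ = 0 := by
    ext i j
    apply hg.1
    rw [ord_inr, ord_inl]
    have := i.2; have := j.2; omega
  have hgb : (g : Matrix (Fin m ⊕ Fin m) (Fin m ⊕ Fin m) F) = fromBlocks A B 0 D := by
    rw [hA, hB, hD, ← hC, Matrix.fromBlocks_toBlocks]
  have hmem := g.2
  rw [hgb, SymplecticGroup.fromBlocks_mem_iff] at hmem
  obtain ⟨-, h2, h3⟩ := hmem
  rw [Matrix.transpose_zero, Matrix.zero_mul, sub_zero] at h3
  have hDA : Dᵀ * A = 1 := by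
    have := congrArg Matrix.transpose h3
    rwa [Matrix.transpose_mul, Matrix.transpose_transpose, Matrix.transpose_one] at this
  have hAD : A * Dᵀ = 1 := _root_.mul_eq_one_comm.mp hDA
  have hAtri : ∀ i j : Fin m, j < i → A i j = 0 := by
    intro i j hij
    rw [hA]
    exact hg.1 (show ord m (Sum.inl j) < ord m (Sum.inl i) from hij)
  have hAdiag : ∀ i, A i i = 1 := fun i => by rw [hA]; exact hg.2 (Sum.inl i)
  have hdet : A.det = 1 := by
    rw [Matrix.det_of_upperTriangular (show Matrix.BlockTriangular A id from fun i j hij => hAtri i j hij)]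
    exact Finset.prod_eq_one (fun i _ => hAdiag i)
  obtain ⟨P, hP⟩ : ∃ P : SpecialLinearGroup (Fin m) F, P = ⟨A, hdet⟩ := ⟨_, rfl⟩
  have hPc : (P : Matrix (Fin m) (Fin m) F) = A := by rw [hP]
  have hPinv : ((P⁻¹ : SpecialLinearGroup (Fin m) F) : Matrix (Fin m) (Fin m) F) = Dᵀ := by
    have h4 : ((P⁻¹ : SpecialLinearGroup (Fin m) F) : Matrix (Fin m) (Fin m) F) * A = 1 := by
      rw [← hPc, ← Matrix.SpecialLinearGroup.coe_mul, inv_mul_cancel, Matrix.SpecialLinearGroup.coe_one]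
    calc ((P⁻¹ : SpecialLinearGroup (Fin m) F) : Matrix (Fin m) (Fin m) F)
        = ((P⁻¹ : SpecialLinearGroup (Fin m) F) : Matrix (Fin m) (Fin m) F) * (A * Dᵀ) := by
          rw [hAD, Matrix.mul_one]
      _ = Dᵀ := by rw [← Matrix.mul_assoc, h4, Matrix.one_mul]
  have hPu : P ∈ unip m F := by
    refine ⟨fun i j hij => ?_, fun i => ?_⟩
    · rw [hPc]; exact hAtri i j hij
    · rw [hPc]; exact hAdiag i
  have hS : (Dᵀ * B).IsSymm := by
    unfold Matrix.IsSymm
    rw [Matrix.transpose_mul, Matrix.transpose_transpose]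
    exact h2
  refine ⟨P, hPu, Dᵀ * B, hS, ?_⟩
  apply Subtype.ext
  rw [hgb, coe_mul', sieg_coe]
  show _ = levM _ _ * siegM _
  have e1 : ((SpecialLinearGroup.toGL P : GL (Fin m) F) : Matrix (Fin m) (Fin m) F) = A := hPc
  have e2 : (((SpecialLinearGroup.toGL P)⁻¹ : GL (Fin m) F) : Matrix (Fin m) (Fin m) F) = Dᵀ := by
    rw [← map_inv]
    exact hPinv
  rw [e1, e2]
  unfold levM siegM
  rw [fromBlocks_multiply]
  simp only [Matrix.mul_zero, Matrix.zero_mul, zero_add, add_zero, Matrix.mul_one, Matrix.transpose_transpose]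
  rw [← Matrix.mul_assoc, hAD, Matrix.one_mul]

end Cfsg.Agent.H9SpF
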