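import Mathlib
import Cfsg.Prelude
import Cfsg.Agent.Lib.Helper9.SpFus2
import Cfsg.Agent.Lib.Helper1.SpCard

set_option autoImplicit false

/-!
# The unitriangular subgroup of the symplectic group is a Sylow subgroup
-/

namespace Cfsg.Agent.H9SpF

open Matrix

variable {F : Type*} [Field F] {m : ℕ}

theorem pow_apply_ne_zero_ord (X : Matrix (Fin m ⊕ Fin m) (Fin m ⊕ Fin m) F)
    (h : ∀ a b, X a b ≠ 0 → ord m a < ord m b) (k : ℕ) :
    ∀ a b, (X ^ k) a b ≠ 0 → ord m a + k ≤ ord m b := by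
  induction k with
  | zero =>
    intro a b hab
    rw [pow_zero, Matrix.one_apply] at hab
    by_cases e : a = b
    · rw [e, add_zero]
    · rw [if_neg e] at hab
      exact absurd rfl hab
  | succ k ih =>
    intro a b hab
    rw [pow_succ, Matrix.mul_apply] at hab
    obtain ⟨d, -, hd⟩ := Finset.exists_ne_zero_of_sum_ne_zero hab
    have h1 := ih a d (left_ne_zero_of_mul hd)
    have h3 := h d b (right_ne_zero_of_mul hd)
    omega

theorem pow_eq_zero_of_ord (X : Matrix (Fin m ⊕ Fin m) (Fin m ⊕ Fin m) F)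
    (h : ∀ a b, X a b ≠ 0 → ord m a < ord m b) {N : ℕ} (hN : 2 * m ≤ N) : X ^ N = 0 := by
  ext a b
  by_contra hab
  have := pow_apply_ne_zero_ord X h N a b hab
  have := ord_lt b
  omega

theorem Usp_pow_eq_one (p : ℕ) [Fact p.Prime] [CharP F p] (hm : 1 ≤ m) {g : symplecticGroup (Fin m) F}
    (hg : g ∈ Usp m F) {k : ℕ} (hk : 2 * m ≤ p ^ k) : g ^ (p ^ k) = 1 := by
  haveI : Nonempty (Fin m ⊕ Fin m) := ⟨Sum.inl ⟨0, hm⟩⟩
  haveI : ExpChar (Matrix (Fin m ⊕ Fin m) (Fin m ⊕ Fin m) F) p := ExpChar.prime (Fact.out : p.Prime)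
  obtain ⟨N, hN⟩ : ∃ N, N = (g : Matrix (Fin m ⊕ Fin m) (Fin m ⊕ Fin m) F) - 1 := ⟨_, rfl⟩
  have hgN : (g : Matrix (Fin m ⊕ Fin m) (Fin m ⊕ Fin m) F) = 1 + N := by rw [hN]; abel
  have hNz : N ^ (p ^ k) = 0 := by
    apply pow_eq_zero_of_ord _ _ hk
    intro a b hab
    rw [hN, Matrix.sub_apply] at hab
    by_contra hlt
    rcases Nat.lt_or_ge (ord m b) (ord m a) with h1 | h1
    · rw [hg.1 h1, Matrix.one_apply_ne (fun e => by rw [e] at h1; exact lt_irrefl _ h1), sub_zero] at hab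
      exact hab rfl
    · have e : a = b := ord_injective (le_antisymm h1 (not_lt.mp hlt))
      rw [e, hg.2, Matrix.one_apply_eq, sub_self] at hab
      exact hab rfl
  apply Subtype.ext
  show ((g ^ (p ^ k) : symplecticGroup (Fin m) F) : Matrix (Fin m ⊕ Fin m) (Fin m ⊕ Fin m) F) = 1
  rw [SubmonoidClass.coe_pow, hgN, add_pow_expChar_pow_of_commute p k (Commute.one_left N), hNz, one_pow,
    add_zero]

theorem isPGroup_Usp (p : ℕ) [Fact p.Prime] [CharP F p] (hm : 1 ≤ m) : IsPGroup p (Usp m F) := by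
  intro g
  refine ⟨2 * m, ?_⟩
  have h1 : 2 * m ≤ p ^ (2 * m) := by
    calc 2 * m ≤ 2 ^ (2 * m) := Nat.lt_two_pow_self.le
      _ ≤ p ^ (2 * m) := Nat.pow_le_pow_left (Fact.out : p.Prime).two_le _
  have := Usp_pow_eq_one p hm g.2 h1
  apply Subtype.ext
  rw [Subgroup.coe_pow, this]
  rfl

section card

variable [Fintype F]

/-- the `p`-part of the order of the symplectic group -/
theorem card_sp_ppart (p : ℕ) [Fact p.Prime] [CharP F p] (m : ℕ) :
    ∃ c : ℕ, ¬ p ∣ c ∧ Nat.card (symplecticGroup (Fin m) F) = Fintype.card F ^ (m ^ 2) * c := by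
  obtain ⟨n, -, hq⟩ := FiniteField.card F p
  have hpq : p ∣ Fintype.card F := by
    rw [hq]
    exact dvd_pow_self p n.ne_zero
  have hq0 : 0 < Fintype.card F := Fintype.card_pos
  induction m with
  | zero =>
    refine ⟨1, ?_, ?_⟩
    · intro h
      exact (Fact.out : p.Prime).one_lt.ne' (Nat.dvd_one.mp h)
    · haveI : Subsingleton (symplecticGroup (Fin 0) F) :=
        ⟨fun a b => Subtype.ext (Subsingleton.elim _ _)⟩
      rw [Nat.card_of_subsingleton (1 : symplecticGroup (Fin 0) F)]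
      simp
  | succ k ih =>
    obtain ⟨c, hc, hcard⟩ := ih
    refine ⟨(Fintype.card F ^ (k + 1 + (k + 1)) - 1) * c, ?_, ?_⟩
    · intro h
      rcases (Nat.Prime.dvd_mul (Fact.out : p.Prime)).mp h with h1 | h1
      · have h2 : p ∣ Fintype.card F ^ (k + 1 + (k + 1)) := dvd_pow hpq (by omega)
        have h3 : 1 ≤ Fintype.card F ^ (k + 1 + (k + 1)) := Nat.one_le_pow _ _ hq0
        have h4 : p ∣ 1 := by
          have := (Nat.dvd_sub h2 h1)
          rwa [Nat.sub_sub_self h3] at this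
        exact (Fact.out : p.Prime).one_lt.ne' (Nat.dvd_one.mp h4)
      · exact hc h1
    · have h1 := Cfsg.Agent.Lib.Helper1.SpCard.card_succ (m := k) (F := F)
      rw [hcard] at h1
      apply Nat.eq_of_mul_eq_mul_right hq0
      rw [h1]
      have e : (k + 1) ^ 2 + 1 = (k + 1 + (k + 1)) + k ^ 2 := by ring
      calc (Fintype.card F ^ (k + 1 + (k + 1)) - 1) * Fintype.card F ^ (k + 1 + (k + 1)) *
            (Fintype.card F ^ k ^ 2 * c)
          = (Fintype.card F ^ ((k + 1 + (k + 1)) + k ^ 2)) *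
            ((Fintype.card F ^ (k + 1 + (k + 1)) - 1) * c) := by rw [pow_add]; ring
        _ = Fintype.card F ^ (k + 1) ^ 2 * ((Fintype.card F ^ (k + 1 + (k + 1)) - 1) * c) *
            Fintype.card F := by rw [← e, pow_succ]; ring

theorem card_pairs_le (n : ℕ) : Fintype.card {p : Fin n × Fin n // p.1 ≤ p.2} = n * (n + 1) / 2 := by
  rw [Fintype.card_subtype]
  have h1 : (Finset.univ.filter (fun p : Fin n × Fin n => p.1 ≤ p.2)).card
      = ∑ i : Fin n, (n - i.val) := by
    rw [Finset.card_filter, ← Finset.univ_product_univ, Finset.sum_product]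
    apply Finset.sum_congr rfl
    intro i _
    rw [← Finset.card_filter]
    have : Finset.univ.filter (fun j : Fin n => i ≤ j) = Finset.Ici i := by
      ext j
      simp
    rw [this, Fin.card_Ici]
  rw [h1, Fin.sum_univ_eq_sum_range (fun i => n - i) n]
  have h2 : ∑ i ∈ Finset.range n, (n - i) = ∑ i ∈ Finset.range n, (i + 1) := by
    rw [← Finset.sum_range_reflect (fun i => i + 1) n]
    apply Finset.sum_congr rfl
    intro i hi
    have := Finset.mem_range.mp hi
    omega
  rw [h2, Finset.sum_add_distrib, Finset.sum_range_id, Finset.sum_const, Finset.card_range, smul_eq_mul,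
    mul_one]
  have h3 : n * (n + 1) = n * (n - 1) + n * 2 := by
    rcases n with _ | k
    · rfl
    · simp only [Nat.add_sub_cancel]; ring
  rw [h3, Nat.add_mul_div_right _ _ (by norm_num : 0 < 2)]

/-- the symmetric matrix with prescribed entries on and above the diagonal -/
def symMat (f : {p : Fin m × Fin m // p.1 ≤ p.2} → F) : Matrix (Fin m) (Fin m) F :=
  Matrix.of fun i j => if h : i ≤ j then f ⟨(i, j), h⟩ else f ⟨(j, i), le_of_lt (not_le.mp h)⟩

theorem symMat_apply_le (f : {p : Fin m × Fin m // p.1 ≤ p.2} → F) {i j : Fin m} (h : i ≤ j) :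
    symMat f i j = f ⟨(i, j), h⟩ := by
  unfold symMat
  rw [Matrix.of_apply, dif_pos h]

theorem symMat_isSymm (f : {p : Fin m × Fin m // p.1 ≤ p.2} → F) : (symMat f).IsSymm := by
  ext i j
  rw [Matrix.transpose_apply]
  rcases lt_trichotomy i j with h | h | h
  · unfold symMat
    rw [Matrix.of_apply, Matrix.of_apply, dif_pos (le_of_lt h), dif_neg (not_le.mpr h)]
  · subst h; rfl
  · unfold symMat
    rw [Matrix.of_apply, Matrix.of_apply, dif_pos (le_of_lt h), dif_neg (not_le.mpr h)]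

theorem symMat_injective : Function.Injective (symMat : ({p : Fin m × Fin m // p.1 ≤ p.2} → F) → _) := by
  intro f g h
  funext ⟨⟨i, j⟩, hij⟩
  have := congrFun (congrFun h i) j
  rwa [symMat_apply_le f hij, symMat_apply_le g hij] at this

theorem levS_mul_sieg_apply_ll (P : SpecialLinearGroup (Fin m) F) (S : Matrix (Fin m) (Fin m) F)
    (h : S.IsSymm) (i j : Fin m) :
    ((levS P * sieg S h : symplecticGroup (Fin m) F) : Matrix (Fin m ⊕ Fin m) (Fin m ⊕ Fin m) F)
      (Sum.inl i) (Sum.inl j) = (P : Matrix (Fin m) (Fin m) F) i j := by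
  rw [coe_mul', sieg_coe]
  show (levM ((SpecialLinearGroup.toGL P : GL (Fin m) F) : Matrix (Fin m) (Fin m) F)
    (((SpecialLinearGroup.toGL P)⁻¹ : GL (Fin m) F) : Matrix (Fin m) (Fin m) F) * siegM S)
      (Sum.inl i) (Sum.inl j) = _
  unfold levM siegM
  rw [fromBlocks_multiply]
  simp only [Matrix.mul_zero, Matrix.mul_one, add_zero, fromBlocks_apply₁₁]
  rfl

theorem levS_mul_sieg_injective {P P' : SpecialLinearGroup (Fin m) F} {S S' : Matrix (Fin m) (Fin m) F}
    (h : S.IsSymm) (h' : S'.IsSymm) (e : levS P * sieg S h = levS P' * sieg S' h') : P = P' ∧ S = S' := by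
  have h1 : P = P' := by
    apply Subtype.ext
    ext i j
    have := congrArg (fun g : symplecticGroup (Fin m) F =>
      (g : Matrix (Fin m ⊕ Fin m) (Fin m ⊕ Fin m) F) (Sum.inl i) (Sum.inl j)) e
    simp only [levS_mul_sieg_apply_ll] at this
    exact this
  subst h1
  refine ⟨rfl, ?_⟩
  have h2 := mul_left_cancel e
  exact siegM_injective (congrArg Subtype.val h2)

open Cfsg.Agent.Lib.Helper5.SLnBN in
theorem card_Usp_ge : Fintype.card F ^ (m ^ 2) ≤ Nat.card (Usp m F) := by
  let Φ : (unip m F) × ({p : Fin m × Fin m // p.1 ≤ p.2} → F) → Usp m F := fun x =>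
    ⟨levS x.1.1 * sieg (symMat x.2) (symMat_isSymm x.2),
      (Usp m F).mul_mem (levS_mem_Usp x.1.2) (sieg_mem_Usp _ _)⟩
  have hΦ : Function.Injective Φ := by
    rintro ⟨⟨P, hP⟩, f⟩ ⟨⟨P', hP'⟩, f'⟩ h
    have h1 := congrArg Subtype.val h
    obtain ⟨e1, e2⟩ := levS_mul_sieg_injective _ _ h1
    have e3 := symMat_injective e2
    subst e1
    subst e3
    rfl
  have h2 := Nat.card_le_card_of_injective Φ hΦ
  rw [Nat.card_prod, card_unip, Nat.card_fun, Nat.card_eq_fintype_card, Nat.card_eq_fintype_card,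
    card_pairs_le, ← pow_add] at h2
  have h3 : m * (m - 1) / 2 + m * (m + 1) / 2 = m ^ 2 := by
    have h4 : m * (m + 1) = m * (m - 1) + m * 2 := by
      rcases m with _ | k
      · rfl
      · simp only [Nat.add_sub_cancel]; ring
    have h5 : 2 ∣ m * (m - 1) := by
      rcases m with _ | k
      · simp
      · simp only [Nat.add_sub_cancel]
        rw [mul_comm]
        exact (Nat.even_mul_succ_self k).two_dvd
    obtain ⟨t, ht⟩ := h5
    rw [h4, ht, Nat.mul_div_cancel_left _ (by norm_num : 0 < 2),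
      show 2 * t + m * 2 = 2 * (t + m) by ring, Nat.mul_div_cancel_left _ (by norm_num : 0 < 2)]
    have h6 : m * (m - 1) + m = m ^ 2 := by
      rcases m with _ | k
      · rfl
      · simp only [Nat.add_sub_cancel]; ring
    omega
  rwa [h3] at h2

/-- the unitriangular subgroup has index prime to `p` -/
theorem not_dvd_index_Usp (p : ℕ) [Fact p.Prime] [CharP F p] (hm : 1 ≤ m) :
    ¬ p ∣ (Usp m F).index := by
  obtain ⟨c, hc, hcard⟩ := card_sp_ppart (F := F) p m
  obtain ⟨n, -, hq⟩ := FiniteField.card F p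
  obtain ⟨k, hk⟩ := (isPGroup_Usp (F := F) p hm).exists_card_eq
  have h1 := (Usp m F).index_mul_card
  rw [hcard, hk, hq, ← pow_mul] at h1
  have h2 := card_Usp_ge (F := F) (m := m)
  rw [hk, hq, ← pow_mul] at h2
  have h3 : (n : ℕ) * m ^ 2 ≤ k := (Nat.pow_le_pow_iff_right (Fact.out : p.Prime).one_lt).mp h2
  have h4 : p ^ k ∣ p ^ ((n : ℕ) * m ^ 2) * c := Dvd.intro_left _ h1
  have h5 : p ^ k ∣ p ^ ((n : ℕ) * m ^ 2) :=
    (Nat.Coprime.pow_left k ((Nat.Prime.coprime_iff_not_dvd (Fact.out : p.Prime)).mpr hc)).dvd_of_dvd_mul_right h4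
  have h6 : k ≤ (n : ℕ) * m ^ 2 := (Nat.pow_dvd_pow_iff_le_right (Fact.out : p.Prime).one_lt).mp h5
  have h7 : k = (n : ℕ) * m ^ 2 := le_antisymm h6 h3
  rw [h7] at h1
  have h8 : (Usp m F).index = c := by
    have hpos : 0 < p ^ ((n : ℕ) * m ^ 2) := pow_pos (Fact.out : p.Prime).pos _
    rw [mul_comm] at h1
    exact Nat.eq_of_mul_eq_mul_left hpos h1
  rw [h8]
  exact hc

end card

end Cfsg.Agent.H9SpF
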