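import Cfsg.Agent.Lib.Helper3.TN1
import Cfsg.Agent.Lib.Helper3.BS4

/-!
# Folding: twisted Steinberg data inside Steinberg data of type `D` over the big field
-/

set_option linter.unusedSectionVars false
set_option linter.unusedVariables false
set_option linter.unusedSimpArgs false

namespace Cfsg.Agent.Lib.Carve.K1

open Cfsg.Agent.Lib.Helper3.DN Cfsg.Agent.Lib.Helper3.BS Cfsg.Agent.Lib.Helper3.TN
  Cfsg.Agent.Lib.Helper3.TW

section restrict

variable {J J' K K' G : Type*} [Field K] [Field K'] [Algebra K K'] [Group G] {ν : J → J}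
  {ν' : J' → J'} (D' : DData J' K' G ν') (emb : J → J')
  (hinj : Function.Injective emb) (he : ∀ k, emb (ν k) = ν' (emb k))

/-- restriction of Steinberg data of type `D` along an injection of index sets and a field
extension -/
def restrictAlg : DData J K G ν where
  nu_nu := fun k => hinj (by rw [he, he, D'.nu_nu])
  nu_ne := fun k h => D'.nu_ne (emb k) (by rw [← he, h])
  y := fun a b t => D'.y (emb a) (emb b) (algebraMap K K' t)
  y_self := fun k t => D'.y_self _ _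
  y_opp := fun k t => by rw [he]; exact D'.y_opp _ _
  y_flip := fun k l t => by rw [he, he, map_neg]; exact D'.y_flip _ _ _
  y_add := fun k l t u => by rw [map_add]; exact D'.y_add _ _ _ _
  y_comm := fun k l p m t u h1 h2 h3 h4 =>
    D'.y_comm _ _ _ _ _ _ (hinj.ne h1) (hinj.ne h2)
      (by rw [← he]; exact hinj.ne h3) (by rw [← he]; exact hinj.ne h4)
  y_comm' := fun k l t u => by rw [he]; exact D'.y_comm' _ _ _ _
  y_rel := fun k l m t u h1 h2 h3 h4 h5 h6 => by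
    rw [map_mul]
    exact D'.y_rel _ _ _ _ _ (hinj.ne h1) (hinj.ne h2) (hinj.ne h3)
      (by rw [← he]; exact hinj.ne h4) (by rw [← he]; exact hinj.ne h5)
      (by rw [← he]; exact hinj.ne h6)

theorem restrictAlg_y (k l : J) (t : K) :
    (restrictAlg D' emb hinj he).y k l t = D'.y (emb k) (emb l) (algebraMap K K' t) := rfl

end restrict

variable {J J' K K' G : Type*} [Field K] [Field K'] [Algebra K K'] [Group G] {ν : J → J}
  {ν' : J' → J'} (τ : Tw K K') (D' : DData J' K' G ν') (emb : J → J')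
  (hinj : Function.Injective emb) (he : ∀ k, emb (ν k) = ν' (emb k)) (o : J')
  (ho : ∀ k, emb k ≠ o) (ho' : ∀ k, emb k ≠ ν' o)

/-- the short root elements of the folded data -/
def foldYT (k : J) (w : K') : G := D'.y (emb k) o w * D'.y (emb k) (ν' o) (τ.σ w)

include hinj he ho ho' in
/-- folding Steinberg data of type `D` over `K'` (index set `J'`) to twisted data over `K ⊆ K'`
(index set `J`, two extra indices `o`, `ν' o`): long root elements `y (emb k) (emb l) (t : K)`,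
short root elements `Y k w = y (emb k) o w * y (emb k) (ν' o) (σ w)` -/
noncomputable def foldT : TData J K K' G ν τ where
  D := restrictAlg D' emb hinj he
  Y := foldYT τ D' emb o
  Y_add := fun k t u => by
    unfold foldYT
    rw [map_add, D'.y_add, D'.y_add]
    exact (D'.comm1 (emb k) o u (τ.σ t)).mul_mul_mul_comm _ _
  XY_comm := fun k l p t u h1 h2 => by
    have hνν := (restrictAlg (K := K) D' emb hinj he).nu_nu
    have h3 : k ≠ ν p := fun h => h2 (by rw [h, hνν])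
    show Commute (D'.y (emb k) (emb l) (algebraMap K K' t))
      (D'.y (emb p) o u * D'.y (emb p) (ν' o) (τ.σ u))
    apply Commute.mul_right
    · exact D'.y_comm _ _ _ _ _ _ (hinj.ne h1.symm) (ho k)
        (by rw [← he]; exact hinj.ne h3) (ho' l)
    · exact D'.y_comm _ _ _ _ _ _ (hinj.ne h1.symm) (ho' k)
        (by rw [← he]; exact hinj.ne h3) (by rw [D'.nu_nu]; exact ho l)
  XY_rel := fun k l s w h1 h2 => by
    have hνν := (restrictAlg (K := K) D' emb hinj he).nu_nu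
    have h3 : l ≠ ν k := fun h => h2 (by rw [h, hνν])
    show D'.y (emb k) (emb l) (algebraMap K K' s) *
        (D'.y (emb l) o w * D'.y (emb l) (ν' o) (τ.σ w)) *
      (D'.y (emb k) (emb l) (algebraMap K K' s))⁻¹ *
        (D'.y (emb l) o w * D'.y (emb l) (ν' o) (τ.σ w))⁻¹ =
      D'.y (emb k) o (s • w) * D'.y (emb k) (ν' o) (τ.σ (s • w)) *
        D'.y (emb k) (emb (ν l)) (algebraMap K K' (s * τ.N w))
    rw [τ.σ_smul, Algebra.smul_def, Algebra.smul_def, map_mul, τ.hN]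
    have e1 := D'.cj_rel (tri_end emb hinj he o ho ho' h1 h2) (algebraMap K K' s) w
    have e2 := D'.cj_rel (tri_end' D' emb hinj he o ho ho' h1 h2) (algebraMap K K' s) (τ.σ w)
    have e3 := D'.cj_rel (tri_mid emb hinj he o ho ho' (x := l) (z := ν k) h3
      (by rw [hνν]; exact Ne.symm h1)) w (-(algebraMap K K' s * τ.σ w))
    rw [← flip_o D' emb he o k (algebraMap K K' s * τ.σ w), D'.y_flip (emb l) (emb (ν k)),
      ← he, ← he, hνν,
      show -(w * -(algebraMap K K' s * τ.σ w)) = algebraMap K K' s * (w * τ.σ w) by ring] at e3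
    rw [MulAut.conj_apply] at e1 e2 e3
    have e4 : Commute (D'.y (emb k) (emb (ν l)) (algebraMap K K' s * (w * τ.σ w)))
        (D'.y (emb k) (ν' o) (algebraMap K K' s * τ.σ w)) :=
      D'.y_comm _ _ _ _ _ _ (hinj.ne (fun h => h2 h.symm)) (ho' k)
        (D'.ne_nu _) (by rw [D'.nu_nu]; exact ho _)
    set A := D'.y (emb k) (emb l) (algebraMap K K' s)
    set P := D'.y (emb l) o w
    set Q := D'.y (emb l) (ν' o) (τ.σ w)
    set R := D'.y (emb k) o (algebraMap K K' s * w)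
    set S := D'.y (emb k) (ν' o) (algebraMap K K' s * τ.σ w)
    set Z := D'.y (emb k) (emb (ν l)) (algebraMap K K' s * (w * τ.σ w))
    calc A * (P * Q) * A⁻¹ * (P * Q)⁻¹
        = (A * P * A⁻¹) * (A * Q * A⁻¹) * Q⁻¹ * P⁻¹ := by group
      _ = R * P * (S * Q) * Q⁻¹ * P⁻¹ := by rw [e1, e2]
      _ = R * (P * S * P⁻¹) := by group
      _ = R * (Z * S) := by rw [e3]
      _ = R * S * Z := by rw [e4.eq, mul_assoc]
  YY_rel := fun k l w w' h1 h2 => by
    have hνν := (restrictAlg (K := K) D' emb hinj he).nu_nu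
    have h3 : k ≠ ν l := fun h => h2 (by rw [h, hνν])
    have h4 : k ≠ ν (ν l) := by rw [hνν]; exact Ne.symm h1
    show D'.y (emb k) o w * D'.y (emb k) (ν' o) (τ.σ w) *
        (D'.y (emb l) o w' * D'.y (emb l) (ν' o) (τ.σ w')) *
      (D'.y (emb k) o w * D'.y (emb k) (ν' o) (τ.σ w))⁻¹ *
      (D'.y (emb l) o w' * D'.y (emb l) (ν' o) (τ.σ w'))⁻¹ =
        D'.y (emb k) (emb (ν l)) (algebraMap K K' (-(τ.P w w')))
    have hP : algebraMap K K' (-(τ.P w w')) = τ.σ w * -w' + w * -τ.σ w' := by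
      unfold Tw.P
      rw [map_neg, τ.hT, map_mul, τ.σσ]
      ring
    rw [hP]
    have e1 := D'.cj_rel (tri_mid' D' emb hinj he o ho ho' h3 h4) (τ.σ w) (-w')
    rw [← flip_o' D' emb he o l w'] at e1
    have e4 := D'.cj_rel (tri_mid emb hinj he o ho ho' h3 h4) w (-τ.σ w')
    rw [← flip_o D' emb he o l (τ.σ w')] at e4
    rw [MulAut.conj_apply] at e1 e4
    have e2 : Commute (D'.y (emb k) (ν' o) (τ.σ w)) (D'.y (emb l) (ν' o) (τ.σ w')) :=
      D'.y_comm _ _ _ _ _ _ (ho' l).symm (ho' k)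
        (by rw [← he]; exact hinj.ne h3) (D'.ne_nu _)
    have e3 : Commute (D'.y (emb k) o w) (D'.y (emb l) o w') :=
      D'.y_comm _ _ _ _ _ _ (ho l).symm (ho k)
        (by rw [← he]; exact hinj.ne h3) (D'.ne_nu _)
    have c1 : ∀ c : K', Commute (D'.y (emb k) o w) (D'.y (emb k) (emb (ν l)) c) := fun c =>
      D'.y_comm _ _ _ _ _ _ (ho k).symm (hinj.ne h3) (D'.ne_nu _)
        (by rw [← he, hνν]; exact (ho l).symm)
    have c2 : ∀ c : K', Commute (D'.y (emb l) o w') (D'.y (emb k) (emb (ν l)) c) := fun c =>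
      D'.y_comm _ _ _ _ _ _ (ho k).symm
        (hinj.ne ((restrictAlg (K := K) D' emb hinj he).ne_nu l))
        (by rw [← he]; exact hinj.ne h2) (by rw [← he, hνν]; exact (ho l).symm)
    set P₁ := D'.y (emb k) o w
    set P₂ := D'.y (emb k) (ν' o) (τ.σ w)
    set Q₁ := D'.y (emb l) o w'
    set Q₂ := D'.y (emb l) (ν' o) (τ.σ w')
    set W₁ := D'.y (emb k) (emb (ν l)) (τ.σ w * -w') with hW₁
    set W₂ := D'.y (emb k) (emb (ν l)) (w * -τ.σ w') with hW₂
    have e2' : P₂ * Q₂ * P₂⁻¹ = Q₂ := by rw [e2.eq]; group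
    have e3' : P₁ * Q₁ * P₁⁻¹ = Q₁ := by rw [e3.eq]; group
    have c1' : P₁ * W₁ * P₁⁻¹ = W₁ := by
      have h : Commute P₁ W₁ := c1 _
      rw [h.eq]; group
    have c2' : Q₁ * W₂ * Q₁⁻¹ = W₂ := by
      have h : Commute Q₁ W₂ := c2 _
      rw [h.eq]; group
    calc P₁ * P₂ * (Q₁ * Q₂) * (P₁ * P₂)⁻¹ * (Q₁ * Q₂)⁻¹
        = P₁ * ((P₂ * Q₁ * P₂⁻¹) * (P₂ * Q₂ * P₂⁻¹)) * P₁⁻¹ * Q₂⁻¹ * Q₁⁻¹ := by group
      _ = P₁ * (W₁ * Q₁ * Q₂) * P₁⁻¹ * Q₂⁻¹ * Q₁⁻¹ := by rw [e1, e2']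
      _ = (P₁ * W₁ * P₁⁻¹) * (P₁ * Q₁ * P₁⁻¹) * (P₁ * Q₂ * P₁⁻¹) * Q₂⁻¹ * Q₁⁻¹ := by group
      _ = W₁ * Q₁ * (W₂ * Q₂) * Q₂⁻¹ * Q₁⁻¹ := by rw [c1', e3', e4]
      _ = W₁ * (Q₁ * W₂ * Q₁⁻¹) := by group
      _ = W₁ * W₂ := by rw [c2']
      _ = D'.y (emb k) (emb (ν l)) (τ.σ w * -w' + w * -τ.σ w') := by
        rw [hW₁, hW₂, ← D'.y_add]

theorem foldT_y (k l : J) (t : K) :
    (foldT τ D' emb hinj he o ho ho').D.y k l t = D'.y (emb k) (emb l) (algebraMap K K' t) :=
  rfl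

theorem foldT_Y (k : J) (w : K') :
    (foldT τ D' emb hinj he o ho ho').Y k w =
      D'.y (emb k) o w * D'.y (emb k) (ν' o) (τ.σ w) := rfl

end Cfsg.Agent.Lib.Carve.K1
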