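import Cfsg.Agent.Lib.Helper3.DS19
import Cfsg.Agent.Lib.Helper3.DS22

/-!
# Carve-out D1: an element of the Steinberg group of type `D_n` (`n` odd) acting as `-1`
is not an involution
-/

set_option linter.unusedSectionVars false
set_option linter.unusedVariables false
set_option linter.unusedSimpArgs false

namespace Cfsg.Agent.Lib.Carve.D1

open Matrix Cfsg.Agent.Lib.Helper3.DN Cfsg.Agent.Lib.Helper3.DS

universe u

theorem sq_ne_one_of_phiD_neg {K : Type u} [Field K] [Fintype K] {n : ℕ} (hn : 4 ≤ n)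
    (hodd : Odd n) (h2 : (2 : K) ≠ 0) (g : StD (Fin n ⊕ Fin n) K Sum.swap)
    (hg : phiD n K g = -1) : g * g ≠ 1 := by
  intro hgg
  obtain ⟨o, p, hop⟩ : ∃ o p : Fin n, o ≠ p :=
    ⟨⟨0, by omega⟩, ⟨1, by omega⟩, by simp [Fin.ext_iff]⟩
  have hn3 : 3 ≤ n := by omega
  -- `-1 ≠ 1` as matrices
  have hne : (-1 : Matrix (Fin n ⊕ Fin n) (Fin n ⊕ Fin n) K) ≠ 1 := by
    intro h
    have h1 := congrFun (congrFun h (Sum.inl o)) (Sum.inl o)
    simp only [Matrix.neg_apply, Matrix.one_apply_eq] at h1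
    apply h2
    have : (2 : K) = 1 - (-1) := by ring
    rw [this, h1, sub_self]
  have hker : g ∈ (theta (F := K) hn).ker :=
    (mem_theta_ker hn g).mpr ⟨-1, by rw [hg]; simp⟩
  rw [← rho_range hn o p hop hodd] at hker
  obtain ⟨x, hx⟩ := hker
  have hxx : x * x = 1 := by
    apply rho_injective hn o p hop
    rw [map_mul, hx, hgg, map_one]
  have hxK : ((x : Kˣ) : K) * ((x : Kˣ) : K) = 1 := by
    have h := congrArg (fun y : ↥(mu4 K) => ((y : Kˣ) : K)) hxx
    simpa using h
  have h3 : (((x : Kˣ) : K) - 1) * (((x : Kˣ) : K) + 1) = 0 := by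
    have : (((x : Kˣ) : K) - 1) * (((x : Kˣ) : K) + 1)
        = ((x : Kˣ) : K) * ((x : Kˣ) : K) - 1 := by ring
    rw [this, hxK, sub_self]
  rcases mul_eq_zero.1 h3 with h | h
  · -- x = 1
    have hx1 : x = 1 := by
      apply Subtype.ext
      apply Units.ext
      simpa using sub_eq_zero.1 h
    rw [hx1, map_one] at hx
    rw [← hx, map_one] at hg
    exact hne hg.symm
  · -- x = -1
    have hx1 : (x : Kˣ) = -1 := Units.ext (by
      rw [Units.val_neg, Units.val_one]; exact eq_neg_of_add_eq_zero_left h)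
    have htau : tau o (x : Kˣ) = Pi.mulSingle o (-1 : Kˣ) := by
      funext i
      by_cases hi : i = o
      · subst hi
        rw [tau_o, Pi.mulSingle_eq_same, hx1]
      · rw [tau_ne o _ hi, Pi.mulSingle_eq_of_ne hi, hx1]
        simp
    have hgz : g = zD (F := K) hn3 o p hop := by
      rw [← hx, rho_apply, htau]
      show (sD n K).eta (hc_sum hn3) o p hop (Pi.mulSingle o (-1 : Kˣ)) = _
      rw [eta_single hn3 o p hop (-1)]
      rfl
    rw [hgz, phiD_zD hn3 o p hop] at hg
    exact hne hg.symm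

end Cfsg.Agent.Lib.Carve.D1
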