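import Mathlib
import Cfsg.Prelude.Def_FusionSystem
import Cfsg.Agent.Lib.Helper9.SylowAux
import Cfsg.Agent.Lib.Helper9.FusionNormal4
import Cfsg.Agent.Lib.Helper9.FusionMorph5

set_option autoImplicit false
open Cfsg

namespace Cfsg.Agent.Lib.Helper9

variable {G : Type*} [Group G]

/-- Elements normalizing `T` normalize its centralizer. -/
theorem conj_mem_centralizer_of_mem_normalizer {T : Subgroup G} {n c : G}
    (hn : n ∈ Subgroup.normalizer (T : Set G)) (hc : c ∈ Subgroup.centralizer (T : Set G)) :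
    n * c * n⁻¹ ∈ Subgroup.centralizer (T : Set G) := by
  rw [Subgroup.mem_centralizer_iff]
  intro x hx
  have hy : n⁻¹ * x * n⁻¹⁻¹ ∈ T := by
    have hn' : n⁻¹ ∈ Subgroup.normalizer (T : Set G) := Subgroup.inv_mem _ hn
    exact (Subgroup.mem_normalizer_iff.mp hn' x).mp hx
  rw [inv_inv] at hy
  have h1 := (Subgroup.mem_centralizer_iff.mp hc) _ hy
  have h2 : x = n * (n⁻¹ * x * n) * n⁻¹ := by group
  calc x * (n * c * n⁻¹) = n * ((n⁻¹ * x * n) * c) * n⁻¹ := by group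
    _ = n * (c * (n⁻¹ * x * n)) * n⁻¹ := by rw [h1]
    _ = n * c * n⁻¹ * x := by group

/-- Adjusting an element of `H ∩ N_G(S ∩ H)` by an element of `C_H(S ∩ H)` so that it also normalizes
`(S ∩ H) C_S(S ∩ H)`. -/
theorem exists_adjust_normalizer [Finite G] {p : ℕ} [Fact p.Prime] (S : Sylow p G) (H : Subgroup G) [hHn : H.Normal]
    {g : G} (hgH : g ∈ H) (hgN : g ∈ Subgroup.normalizer ((((S : Subgroup G) ⊓ H : Subgroup G)) : Set G)) :
    ∃ h ∈ H, h ∈ Subgroup.normalizer ((((S : Subgroup G) ⊓ H : Subgroup G)) : Set G) ∧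
      h ∈ Subgroup.normalizer (((((S : Subgroup G) ⊓ H) ⊔
        FusionSystem.centralizerIn (S : Subgroup G) ((S : Subgroup G) ⊓ H) : Subgroup G)) : Set G) ∧
      ∀ x ∈ (S : Subgroup G) ⊓ H, h * x * h⁻¹ = g * x * g⁻¹ := by
  obtain ⟨T, hTdef⟩ : ∃ T : Subgroup G, T = (S : Subgroup G) ⊓ H := ⟨_, rfl⟩
  rw [← hTdef] at hgN ⊢
  have hTS : T ≤ (S : Subgroup G) := hTdef ▸ inf_le_left
  have hTH : T ≤ H := hTdef ▸ inf_le_right
  have hST : (S : Subgroup G) ≤ Subgroup.normalizer (T : Set G) := by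
    intro s hs
    apply mem_normalizer_of_conj_mem
    intro x hx
    rw [hTdef]
    exact ⟨Subgroup.mul_mem _ (Subgroup.mul_mem _ hs (hTS hx)) (Subgroup.inv_mem _ hs),
      hHn.conj_mem _ (hTH hx) s⟩
  obtain ⟨CH, hCHdef⟩ : ∃ CH : Subgroup G, CH = Subgroup.centralizer (T : Set G) ⊓ H := ⟨_, rfl⟩
  have hSCH : (S : Subgroup G) ≤ Subgroup.normalizer (CH : Set G) := by
    intro s hs
    apply mem_normalizer_of_conj_mem
    intro w hw
    rw [hCHdef] at hw ⊢
    exact ⟨conj_mem_centralizer_of_mem_normalizer (hST hs) hw.1, hHn.conj_mem _ hw.2 s⟩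
  obtain ⟨D, hDdef⟩ : ∃ D : Subgroup G, D = T ⊔ FusionSystem.centralizerIn (S : Subgroup G) T := ⟨_, rfl⟩
  rw [← hDdef]
  have hDS : D ≤ (S : Subgroup G) := by
    rw [hDdef]
    exact sup_le hTS inf_le_left
  have hgT : ∀ x ∈ T, g * x * g⁻¹ ∈ T := fun x hx => (Subgroup.mem_normalizer_iff.mp hgN x).mp hx
  -- the conjugate of D by g lies in S ⊔ CH
  have hDg : D.map (MulAut.conj g).toMonoidHom ≤ (S : Subgroup G) ⊔ CH := by
    rw [Subgroup.map_le_iff_le_comap, hDdef]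
    apply sup_le
    · intro x hx
      show g * x * g⁻¹ ∈ (S : Subgroup G) ⊔ CH
      exact Subgroup.mem_sup_left (hTS (hgT x hx))
    · intro c hc
      show g * c * g⁻¹ ∈ (S : Subgroup G) ⊔ CH
      have h1 : g * c * g⁻¹ = c * (c⁻¹ * g * c * g⁻¹) := by group
      rw [h1]
      apply Subgroup.mul_mem _ (Subgroup.mem_sup_left hc.1) (Subgroup.mem_sup_right _)
      rw [hCHdef]
      constructor
      · have h2 : c⁻¹ * g * c * g⁻¹ = c⁻¹ * (g * c * g⁻¹) := by group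
        rw [h2]
        exact Subgroup.mul_mem _ (Subgroup.inv_mem _ hc.2) (conj_mem_centralizer_of_mem_normalizer hgN hc.2)
      · have h2 : c⁻¹ * g * c * g⁻¹ = (c⁻¹ * g * c⁻¹⁻¹) * g⁻¹ := by group
        rw [h2]
        exact Subgroup.mul_mem _ (hHn.conj_mem _ hgH _) (Subgroup.inv_mem _ hgH)
  have hDp : IsPGroup p (D.map (MulAut.conj g).toMonoidHom) := (S.isPGroup'.to_le hDS).map _
  obtain ⟨k, hk, hkS⟩ := exists_conj_mem_sylow_of_le S ((S : Subgroup G) ⊔ CH) le_sup_left _ hDp hDg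
  obtain ⟨s, hs, w, hw, rfl⟩ := mem_sup_of_le_normalizer' hSCH hk
  have hwC : w ∈ Subgroup.centralizer (T : Set G) := by rw [hCHdef] at hw; exact hw.1
  have hwH : w ∈ H := by rw [hCHdef] at hw; exact hw.2
  have hwN : w ∈ Subgroup.normalizer (T : Set G) := Subgroup.centralizer_le_normalizer _ hwC
  have hhN : w * g ∈ Subgroup.normalizer (T : Set G) := Subgroup.mul_mem _ hwN hgN
  have hval : ∀ x ∈ T, w * g * x * (w * g)⁻¹ = g * x * g⁻¹ := by
    intro x hx
    have h1 := (Subgroup.mem_centralizer_iff.mp hwC) _ (hgT x hx)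
    calc w * g * x * (w * g)⁻¹ = w * (g * x * g⁻¹) * w⁻¹ := by group
      _ = (g * x * g⁻¹ * w) * w⁻¹ := by rw [h1]
      _ = g * x * g⁻¹ := by group
  refine ⟨w * g, Subgroup.mul_mem _ hwH hgH, hhN, ?_, hval⟩
  apply mem_normalizer_of_conj_mem
  have hS' : ∀ x ∈ D, w * g * x * (w * g)⁻¹ ∈ (S : Subgroup G) := by
    intro x hx
    have h1 := hkS (g * x * g⁻¹) ⟨x, hx, rfl⟩
    have h2 : w * g * x * (w * g)⁻¹ = s⁻¹ * (s * w * (g * x * g⁻¹) * (s * w)⁻¹) * s := by group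
    rw [h2]
    exact Subgroup.mul_mem _ (Subgroup.mul_mem _ (Subgroup.inv_mem _ hs) h1) hs
  have hle : D ≤ D.comap (MulAut.conj (w * g)).toMonoidHom := by
    conv_lhs => rw [hDdef]
    apply sup_le
    · intro x hx
      show w * g * x * (w * g)⁻¹ ∈ D
      rw [hval x hx, hDdef]
      exact Subgroup.mem_sup_left (hgT x hx)
    · intro c hc
      show w * g * c * (w * g)⁻¹ ∈ D
      rw [hDdef]
      apply Subgroup.mem_sup_right
      refine ⟨hS' c ?_, conj_mem_centralizer_of_mem_normalizer hhN hc.2⟩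
      rw [hDdef]
      exact Subgroup.mem_sup_right hc
  intro x hx
  exact hle hx

end Cfsg.Agent.Lib.Helper9
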