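import Mathlib
import Cfsg.Agent.Lib.Helper9.NormalSubsys1

set_option autoImplicit false

/-! An automorphism of a finite group fixing a Sylow `p`-subgroup elementwise, when a normal `p`-subgroup is
self-centralizing, is conjugation by an element of the centre of that normal subgroup. -/

namespace Cfsg.Agent.Lib.Helper9

variable {G : Type*} [Group G]

theorem aut_eq_conj_of_fixes_sylow [Finite G] {p : ℕ} [Fact p.Prime] (T : Sylow p G) (Q : Subgroup G)
    [hQn : Q.Normal] (hQT : Q ≤ (T : Subgroup G))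
    (hcent : Subgroup.centralizer (Q : Set G) ≤ Q) (ψ : G ≃* G) (hψ : ∀ t ∈ (T : Subgroup G), ψ t = t) :
    ∃ z ∈ Subgroup.centralizer (Q : Set G), ∀ g : G, ψ g = z * g * z⁻¹ := by
  classical
  obtain ⟨C, hCdef⟩ : ∃ C : Subgroup G, C = Subgroup.centralizer (Q : Set G) := ⟨_, rfl⟩
  have hCQ : C ≤ Q := hCdef ▸ hcent
  have hnormQ : ∀ g : G, g ∈ Subgroup.normalizer (Q : Set G) := by
    intro g
    rw [Subgroup.normalizer_eq_top]
    exact Subgroup.mem_top g
  have hCn : C.Normal := by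
    refine ⟨fun c hc g => ?_⟩
    rw [hCdef] at hc ⊢
    exact conj_mem_centralizer_of_mem_normalizer (hnormQ g) hc
  -- step 1: g⁻¹ ψ(g) centralizes Q
  have hstep1 : ∀ g : G, g⁻¹ * ψ g ∈ C := by
    intro g
    rw [hCdef, Subgroup.mem_centralizer_iff]
    intro x hx
    have h1 : g * x * g⁻¹ ∈ Q := hQn.conj_mem x hx g
    have h2 : ψ (g * x * g⁻¹) = g * x * g⁻¹ := hψ _ (hQT h1)
    rw [map_mul, map_mul, map_inv, hψ x (hQT hx)] at h2
    calc x * (g⁻¹ * ψ g) = g⁻¹ * (g * x * g⁻¹) * ψ g := by group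
      _ = g⁻¹ * (ψ g * x * (ψ g)⁻¹) * ψ g := by rw [h2]
      _ = g⁻¹ * ψ g * x := by group
  letI : CommGroup C :=
    { (inferInstance : Group C) with
      mul_comm := by
        intro a b
        apply Subtype.ext
        have ha : (a : G) ∈ Subgroup.centralizer (Q : Set G) := hCdef ▸ a.2
        exact ((Subgroup.mem_centralizer_iff.mp ha) b (hCQ b.2)).symm }
  obtain ⟨c, hc⟩ : ∃ c : G → C, ∀ g, (c g : G) = g⁻¹ * ψ g := ⟨fun g => ⟨_, hstep1 g⟩, fun g => rfl⟩
  -- the action by conjugation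
  have hact : ∀ (h : G) (a : C), ((MulAut.conjNormal h⁻¹ a : C) : G) = h⁻¹ * a * h := by
    intro h a
    rw [MulAut.conjNormal_apply, inv_inv]
  have hcocycle : ∀ g h : G, c (g * h) = MulAut.conjNormal h⁻¹ (c g) * c h := by
    intro g h
    apply Subtype.ext
    rw [Subgroup.coe_mul, hact, hc, hc, hc, map_mul]
    group
  have hleft : ∀ t ∈ (T : Subgroup G), ∀ g : G, c (t * g) = c g := by
    intro t ht g
    apply Subtype.ext
    rw [hc, hc, map_mul, hψ t ht]
    group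
  haveI : Fintype (G ⧸ (T : Subgroup G)) := Fintype.ofFinite _
  obtain ⟨σ, hσ⟩ : ∃ σ : C, σ = ∏ q : G ⧸ (T : Subgroup G), c (q.out)⁻¹ := ⟨_, rfl⟩
  obtain ⟨m, hm⟩ : ∃ m : ℕ, m = Fintype.card (G ⧸ (T : Subgroup G)) := ⟨_, rfl⟩
  have hkey : ∀ h : G, σ = MulAut.conjNormal h⁻¹ σ * (c h) ^ m := by
    intro h
    have e1 : ∏ q : G ⧸ (T : Subgroup G), c ((q.out)⁻¹ * h) = MulAut.conjNormal h⁻¹ σ * (c h) ^ m := by
      rw [hσ, map_prod, hm, ← Finset.card_univ, ← Finset.prod_const, ← Finset.prod_mul_distrib]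
      apply Finset.prod_congr rfl
      intro q _
      exact hcocycle _ _
    have e2 : ∏ q : G ⧸ (T : Subgroup G), c ((q.out)⁻¹ * h) = σ := by
      rw [hσ]
      have e3 : ∀ q : G ⧸ (T : Subgroup G), c ((q.out)⁻¹ * h) = c (((MulAction.toPerm h⁻¹ : Equiv.Perm (G ⧸ (T : Subgroup G))) q).out)⁻¹ := by
        intro q
        have h1 : (MulAction.toPerm h⁻¹ : Equiv.Perm (G ⧸ (T : Subgroup G))) q = QuotientGroup.mk (h⁻¹ * q.out) := by
          show h⁻¹ • q = _
          conv_lhs => rw [← QuotientGroup.out_eq' q]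
          rfl
        rw [h1]
        obtain ⟨t, ht⟩ := QuotientGroup.mk_out_eq_mul (T : Subgroup G) (h⁻¹ * q.out)
        rw [ht]
        have h2 : (h⁻¹ * q.out * (t : G))⁻¹ = (t : G)⁻¹ * ((q.out)⁻¹ * h) := by group
        rw [h2, hleft _ (Subgroup.inv_mem _ t.2)]
      rw [Finset.prod_congr rfl (fun q _ => e3 q)]
      exact Equiv.prod_comp (MulAction.toPerm h⁻¹ : Equiv.Perm (G ⧸ (T : Subgroup G))) (fun q => c (q.out)⁻¹)
    exact e2.symm.trans e1
  -- m is prime to the order of C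
  have hCp : IsPGroup p C := (T.isPGroup'.to_le (hCQ.trans hQT))
  have hcop : (Nat.card C).Coprime m := by
    obtain ⟨k, hk⟩ := IsPGroup.iff_card.mp hCp
    rw [hk]
    apply Nat.Coprime.pow_left
    have hp : p.Prime := Fact.out
    rw [Nat.Prime.coprime_iff_not_dvd hp, hm, ← Nat.card_eq_fintype_card]
    exact T.not_dvd_index
  obtain ⟨u, hu⟩ := (Nat.Coprime.pow_left_bijective hcop).2 σ
  have hu' : u ^ m = σ := hu
  have hch : ∀ h : G, c h = u * (MulAut.conjNormal h⁻¹ u)⁻¹ := by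
    intro h
    apply (Nat.Coprime.pow_left_bijective hcop).1
    show (c h) ^ m = (u * (MulAut.conjNormal h⁻¹ u)⁻¹) ^ m
    rw [mul_pow, inv_pow, ← map_pow, hu']
    have := hkey h
    rw [eq_mul_inv_iff_mul_eq, mul_comm]
    exact this.symm
  refine ⟨(u : G)⁻¹, Subgroup.inv_mem _ (hCdef ▸ u.2), fun g => ?_⟩
  have h1 := congrArg (fun a : C => (a : G)) (hch g)
  have h2 : (c g : G) = (u : G) * (g⁻¹ * (u : G) * g)⁻¹ := by
    rw [← hact g u]
    exact h1
  -- commutativity of u and its conjugate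
  have h3 : (u : G) * (g⁻¹ * (u : G) * g)⁻¹ = (g⁻¹ * (u : G) * g)⁻¹ * (u : G) := by
    have := mul_comm u (MulAut.conjNormal g⁻¹ u)⁻¹
    have h4 := congrArg (fun a : C => (a : G)) this
    simp only [Subgroup.coe_mul, Subgroup.coe_inv, hact] at h4
    exact h4
  rw [hc, h3] at h2
  calc ψ g = g * (g⁻¹ * ψ g) := by group
    _ = g * ((g⁻¹ * (u : G) * g)⁻¹ * (u : G)) := by rw [h2]
    _ = (u : G)⁻¹ * g * ((u : G)⁻¹)⁻¹ := by group

end Cfsg.Agent.Lib.Helper9
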