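import Mathlib
import Cfsg.Prelude.Def_FusionSystem
import Cfsg.Agent.Lib.Helper9.FusionAut
import Cfsg.Agent.Lib.Helper9.FusionReceptive

set_option autoImplicit false

namespace Cfsg.Agent.Lib.Helper9

open Cfsg Cfsg.FusionSystem

variable {Ω : Type*} [Group Ω]

/-- `Aut_{F_Q(Q)}(P) ≤ Aut_Q(P)`. -/
theorem inner_autGroup_le (Q P : Subgroup Ω) (hPQ : P ≤ Q) :
    (innerFusionSystem Q).autGroup P ≤ autInducedBy Q P := by
  intro α hα
  rw [mem_autGroup_iff _ hPQ] at hα
  obtain ⟨-, g, hg, Hg⟩ := hα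
  rw [mem_autInducedBy_iff]
  exact ⟨g, hg, fun x => Hg x⟩

/-- The inner fusion system of a finite `p`-group is saturated. -/
theorem inner_isSaturated (p : ℕ) [Fact p.Prime] (Q : Subgroup Ω) (hQ : IsPGroup p Q) :
    (innerFusionSystem Q).IsSaturated p := by
  intro P hPQ
  refine ⟨P, fs_isConj_refl _ hPQ, ⟨hPQ, ?_⟩, ⟨hPQ, ?_⟩⟩
  · have hp : IsPGroup p ((innerFusionSystem Q).autGroup P) := by
      have h1 := isPGroup_autInducedBy p hQ P
      exact h1.to_le (inner_autGroup_le Q P hPQ)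
    have htop : (autInducedBy Q P).subgroupOf ((innerFusionSystem Q).autGroup P) = ⊤ := by
      rw [Subgroup.subgroupOf_eq_top]
      exact inner_autGroup_le Q P hPQ
    refine ⟨⟨⊤, ?_, ?_⟩, htop.symm⟩
    · intro x
      obtain ⟨k, hk⟩ := hp x.1
      exact ⟨k, Subtype.ext hk⟩
    · intro R _ hR
      exact le_antisymm le_top hR
  · intro P' φ hφ _
    obtain ⟨hP'Q, g, hg, Hg⟩ := hφ
    have hle : extender Q P' φ ≤ Q := by
      intro x hx
      rw [mem_extender_iff] at hx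
      exact hx.1
    refine ⟨conjHom (extender Q P' φ) g, ⟨hle, g, hg, fun x => rfl⟩, ?_⟩
    intro x hP hN
    rw [Hg]
    rfl

end Cfsg.Agent.Lib.Helper9
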