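import Mathlib
import Cfsg.Prelude
import Cfsg.Agent.Lib.Helper9.SLRoot1

set_option autoImplicit false

/-!
Sesquilinear forms on `ι → F` given as bare functions, their isometry groups in `GL ι F`, and the
maps `x ↦ x + h x v • v`.
-/

namespace Cfsg.Agent.H9Dec

open Matrix

variable {F : Type*} [Field F] {ι : Type} [Fintype ι] [DecidableEq ι]

/-- a `σ`-sesquilinear `σ`-hermitian form -/
structure SForm (σ : F →+* F) (h : (ι → F) → (ι → F) → F) : Prop where
  add_left : ∀ x y z, h (x + y) z = h x z + h y z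
  smul_left : ∀ (c : F) x y, h (c • x) y = c * h x y
  add_right : ∀ x y z, h x (y + z) = h x y + h x z
  smul_right : ∀ (c : F) x y, h x (c • y) = σ c * h x y
  symm : ∀ x y, h y x = σ (h x y)

/-- the isometry group of a form -/
def Iso (h : (ι → F) → (ι → F) → F) : Subgroup (GL ι F) where
  carrier := {g | ∀ x y, h ((g : Matrix ι ι F) *ᵥ x) ((g : Matrix ι ι F) *ᵥ y) = h x y}
  mul_mem' := by
    intro a b ha hb x y
    rw [Units.val_mul, ← Matrix.mulVec_mulVec, ← Matrix.mulVec_mulVec, ha, hb]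
  one_mem' := by
    intro x y
    rw [Units.val_one, Matrix.one_mulVec, Matrix.one_mulVec]
  inv_mem' := by
    intro a ha x y
    have := ha (((a⁻¹ : GL ι F) : Matrix ι ι F) *ᵥ x) (((a⁻¹ : GL ι F) : Matrix ι ι F) *ᵥ y)
    rw [Matrix.mulVec_mulVec, Matrix.mulVec_mulVec, Units.mul_inv, Matrix.one_mulVec,
      Matrix.one_mulVec] at this
    exact this.symm

theorem mem_Iso (h : (ι → F) → (ι → F) → F) (g : GL ι F) :
    g ∈ Iso h ↔ ∀ x y, h ((g : Matrix ι ι F) *ᵥ x) ((g : Matrix ι ι F) *ᵥ y) = h x y := Iff.rfl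

namespace SForm

variable {σ : F →+* F} {h : (ι → F) → (ι → F) → F}

theorem zero_left (hf : SForm σ h) (y : ι → F) : h 0 y = 0 := by
  have := hf.smul_left 0 0 y
  rw [zero_smul, zero_mul] at this
  exact this

theorem zero_right (hf : SForm σ h) (x : ι → F) : h x 0 = 0 := by
  have := hf.smul_right 0 x 0
  rw [zero_smul, map_zero, zero_mul] at this
  exact this

theorem sum_left (hf : SForm σ h) {α : Type*} (s : Finset α) (f : α → ι → F) (y : ι → F) :
    h (∑ a ∈ s, f a) y = ∑ a ∈ s, h (f a) y := by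
  classical
  induction s using Finset.induction_on with
  | empty => rw [Finset.sum_empty, Finset.sum_empty, hf.zero_left]
  | insert a s ha ih => rw [Finset.sum_insert ha, Finset.sum_insert ha, hf.add_left, ih]

theorem sum_right (hf : SForm σ h) {α : Type*} (s : Finset α) (f : α → ι → F) (x : ι → F) :
    h x (∑ a ∈ s, f a) = ∑ a ∈ s, h x (f a) := by
  classical
  induction s using Finset.induction_on with
  | empty => rw [Finset.sum_empty, Finset.sum_empty, hf.zero_right]
  | insert a s ha ih => rw [Finset.sum_insert ha, Finset.sum_insert ha, hf.add_right, ih]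

theorem eq_dot (hf : SForm σ h) (x v : ι → F) :
    h x v = (fun j => h (Pi.single j 1) v) ⬝ᵥ x := by
  conv_lhs => rw [pi_eq_sum_univ x]
  rw [hf.sum_left]
  unfold dotProduct
  apply Finset.sum_congr rfl
  intro j _
  rw [hf.smul_left, mul_comm]
  congr 2
  ext k
  rw [Pi.single_apply]
  simp only [eq_comm]

/-- a form is preserved as soon as it is preserved on a basis -/
theorem mem_Iso_of_basis (hf : SForm σ h) {I : Type*} [Fintype I] (B : Module.Basis I F (ι → F))
    (g : GL ι F)
    (hB : ∀ a b, h ((g : Matrix ι ι F) *ᵥ B a) ((g : Matrix ι ι F) *ᵥ B b) = h (B a) (B b)) :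
    g ∈ Iso h := by
  intro x y
  have ex : ∀ z : ι → F, (g : Matrix ι ι F) *ᵥ z = ∑ a, B.repr z a • ((g : Matrix ι ι F) *ᵥ B a) := by
    intro z
    conv_lhs => rw [← B.sum_repr z]
    rw [← Matrix.toLin'_apply, map_sum]
    apply Finset.sum_congr rfl
    intro a _
    rw [map_smul, Matrix.toLin'_apply]
  rw [ex x, ex y]
  conv_rhs => rw [← B.sum_repr x, ← B.sum_repr y]
  rw [hf.sum_left, hf.sum_left]
  apply Finset.sum_congr rfl
  intro a _
  rw [hf.sum_right, hf.sum_right]
  apply Finset.sum_congr rfl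
  intro b _
  rw [hf.smul_left, hf.smul_right, hf.smul_left, hf.smul_right, hB]

end SForm

/-- the matrix of `x ↦ x + h x v • v` -/
def tau (h : (ι → F) → (ι → F) → F) (v : ι → F) : Matrix ι ι F :=
  H9SLRoot.tmat v (fun j => h (Pi.single j 1) v) 1

variable {σ : F →+* F} {h : (ι → F) → (ι → F) → F}

theorem tau_mulVec (hf : SForm σ h) (v x : ι → F) : tau h v *ᵥ x = x + h x v • v := by
  unfold tau
  rw [H9SLRoot.tmat_mulVec, one_mul, ← hf.eq_dot]

theorem det_tau (hf : SForm σ h) (v : ι → F) : (tau h v).det = 1 + h v v := by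
  unfold tau H9SLRoot.tmat
  rw [one_smul, Matrix.vecMulVec_eq Unit, Matrix.det_one_add_replicateCol_mul_replicateRow,
    ← hf.eq_dot]

theorem tau_mul_self (hf : SForm σ h) (v : ι → F) (hv : 2 + h v v = 0) :
    tau h v * tau h v = 1 := by
  apply H9SLRoot.ext_mulVec
  intro x
  rw [← Matrix.mulVec_mulVec, tau_mulVec hf, tau_mulVec hf, Matrix.one_mulVec, hf.add_left,
    hf.smul_left, add_smul, ← add_assoc, mul_smul]
  have : h x v • v + h x v • v + h x v • h v v • v = (h x v * (2 + h v v)) • v := by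
    module
  rw [add_assoc, add_assoc, ← add_assoc (h x v • v), this, hv, mul_zero, zero_smul, add_zero]

/-- `x ↦ x + h x v • v` as an invertible matrix -/
def tauGL (hf : SForm σ h) (v : ι → F) (hv : 2 + h v v = 0) : GL ι F :=
  ⟨tau h v, tau h v, tau_mul_self hf v hv, tau_mul_self hf v hv⟩

theorem tauGL_val (hf : SForm σ h) (v : ι → F) (hv : 2 + h v v = 0) :
    ((tauGL hf v hv : GL ι F) : Matrix ι ι F) = tau h v := rfl

theorem tauGL_mem_Iso (hf : SForm σ h) (v : ι → F) (hv : 2 + h v v = 0) :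
    tauGL hf v hv ∈ Iso h := by
  intro x y
  rw [tauGL_val, tau_mulVec hf, tau_mulVec hf, hf.add_left, hf.add_right, hf.add_right,
    hf.smul_left, hf.smul_right, hf.smul_left, hf.smul_right, hf.symm y v]
  have : h x y + σ (h y v) * h x v + (h x v * σ (h y v) + h x v * (σ (h y v) * h v v)) =
      h x y + h x v * σ (h y v) * (2 + h v v) := by ring
  rw [this, hv, mul_zero, add_zero]

end Cfsg.Agent.H9Dec
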