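import Mathlib
import Cfsg.Prelude
import Cfsg.Agent.Lib.Helper9.DecompNM1

set_option autoImplicit false

/-!
Coordinate forms with respect to a basis, and decomposition stabilisers in terms of a basis
adapted to the decomposition.
-/

namespace Cfsg.Agent.H9Dec

open Matrix Module

variable {F : Type*} [Field F] {ι : Type} [Fintype ι] [DecidableEq ι]

theorem mem_specialLinear_iff (g : GL ι F) :
    g ∈ Cfsg.Geo.specialLinear ι F ↔ (g : Matrix ι ι F).det = 1 := by
  unfold Cfsg.Geo.specialLinear
  rw [MonoidHom.mem_ker]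
  constructor
  · intro h
    have := congrArg Units.val h
    rwa [Matrix.GeneralLinearGroup.val_det_apply] at this
  · intro h
    apply Units.ext
    rw [Matrix.GeneralLinearGroup.val_det_apply, h]
    rfl

theorem lin_eq_dot (f : (ι → F) →ₗ[F] F) (x : ι → F) :
    f x = (fun j => f (Pi.single j 1)) ⬝ᵥ x := by
  conv_lhs => rw [pi_eq_sum_univ x]
  rw [map_sum]
  unfold dotProduct
  apply Finset.sum_congr rfl
  intro j _
  rw [map_smul, smul_eq_mul, mul_comm]
  congr 2
  ext k
  rw [Pi.single_apply]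
  simp only [eq_comm]

section coord

variable {I : Type*} [Fintype I] [DecidableEq I] (B : Basis I F (ι → F))

/-- the elementary transvection `x ↦ x + (B.repr x a) • B b` -/
noncomputable def elt (a b : I) : Matrix ι ι F :=
  H9SLRoot.tmat (B b) (fun j => B.coord a (Pi.single j 1)) 1

theorem elt_mulVec (a b : I) (x : ι → F) : elt B a b *ᵥ x = x + B.repr x a • B b := by
  unfold elt
  rw [H9SLRoot.tmat_mulVec, one_mul, ← lin_eq_dot, Basis.coord_apply]

theorem det_elt (a b : I) (hab : b ≠ a) : (elt B a b).det = 1 := by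
  unfold elt
  apply H9SLRoot.det_tmat
  rw [← lin_eq_dot, Basis.coord_apply, Basis.repr_self, Finsupp.single_eq_of_ne hab.symm]

/-- the elementary transvection as an invertible matrix -/
noncomputable def eltGL (a b : I) (hab : b ≠ a) : GL ι F :=
  Matrix.GeneralLinearGroup.mkOfDetNeZero (elt B a b) (by rw [det_elt B a b hab]; exact one_ne_zero)

theorem eltGL_val (a b : I) (hab : b ≠ a) :
    ((eltGL B a b hab : GL ι F) : Matrix ι ι F) = elt B a b := rfl

theorem eltGL_mem (a b : I) (hab : b ≠ a) : eltGL B a b hab ∈ Cfsg.Geo.specialLinear ι F := by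
  rw [mem_specialLinear_iff, eltGL_val, det_elt B a b hab]

variable (σ : F →+* F) (ρ : I → I)

/-- the coordinate form `∑ a, x_a σ(y_{ρ a})` -/
noncomputable def hform (x y : ι → F) : F := ∑ a, B.repr x a * σ (B.repr y (ρ a))

theorem hform_sform (hσ : ∀ c, σ (σ c) = c) (hρ : ∀ a, ρ (ρ a) = a) : SForm σ (hform B σ ρ) where
  add_left x y z := by
    unfold hform
    rw [← Finset.sum_add_distrib]
    apply Finset.sum_congr rfl
    intro a _
    rw [map_add, Finsupp.add_apply, add_mul]
  smul_left c x y := by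
    unfold hform
    rw [Finset.mul_sum]
    apply Finset.sum_congr rfl
    intro a _
    rw [map_smul, Finsupp.smul_apply, smul_eq_mul, mul_assoc]
  add_right x y z := by
    unfold hform
    rw [← Finset.sum_add_distrib]
    apply Finset.sum_congr rfl
    intro a _
    rw [map_add, Finsupp.add_apply, map_add, mul_add]
  smul_right c x y := by
    unfold hform
    rw [Finset.mul_sum]
    apply Finset.sum_congr rfl
    intro a _
    rw [map_smul, Finsupp.smul_apply, smul_eq_mul, map_mul]
    ring
  symm x y := by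
    unfold hform
    rw [map_sum]
    have e : ∑ a, B.repr y a * σ (B.repr x (ρ a)) =
        ∑ a, B.repr y (ρ a) * σ (B.repr x (ρ (ρ a))) :=
      (Equiv.sum_comp (Function.Involutive.toPerm ρ hρ)
        (fun a => B.repr y a * σ (B.repr x (ρ a)))).symm
    rw [e]
    apply Finset.sum_congr rfl
    intro a _
    rw [hρ, map_mul, hσ, mul_comm]

theorem hform_basis (a b : I) :
    hform B σ ρ (B a) (B b) = if b = ρ a then 1 else 0 := by
  unfold hform
  rw [Finset.sum_eq_single a]
  · rw [Basis.repr_self, Basis.repr_self, Finsupp.single_eq_same, one_mul, Finsupp.single_apply]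
    split_ifs <;> simp
  · intro c _ hc
    rw [Basis.repr_self, Finsupp.single_eq_of_ne hc, zero_mul]
  · intro h
    exact absurd (Finset.mem_univ a) h

end coord

section decomp

variable {t m : ℕ} {D : Fin t → Submodule F (ι → F)}

theorem stab_apply_mem {g : GL ι F} {π : Equiv.Perm (Fin t)}
    (hπ : ∀ i, (D i).map (Matrix.toLin' (g : Matrix ι ι F)) = D (π i)) {i : Fin t} {y : ι → F}
    (hy : y ∈ D i) : (g : Matrix ι ι F) *ᵥ y ∈ D (π i) := by
  rw [← hπ i, ← Matrix.toLin'_apply]
  exact Submodule.mem_map_of_mem hy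

/-- an adapted basis of a decomposition -/
structure Adapted (D : Fin t → Submodule F (ι → F)) (B : Basis (Σ _ : Fin t, Fin m) F (ι → F)) :
    Prop where
  mem : ∀ i j, B ⟨i, j⟩ ∈ D i
  repr_ne : ∀ (i k : Fin t) (l : Fin m) (y : ι → F), y ∈ D i → k ≠ i → B.repr y ⟨k, l⟩ = 0

theorem exists_adapted (hD : Cfsg.Geo.IsMDecomposition m D) :
    ∃ B : Basis (Σ _ : Fin t, Fin m) F (ι → F), Adapted D B := by
  have hInt := DirectSum.isInternal_submodule_of_iSupIndep_of_iSup_eq_top hD.indep hD.iSup_eq_top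
  obtain ⟨v⟩ : Nonempty (∀ i, Basis (Fin m) F (D i)) :=
    ⟨fun i => Module.finBasisOfFinrankEq F (D i) (hD.finrank_eq i)⟩
  refine ⟨hInt.collectedBasis v, ⟨fun i j => ?_, fun i k l y hy hki => ?_⟩⟩
  · have := hInt.collectedBasis_mem v ⟨i, j⟩
    exact this
  · exact hInt.collectedBasis_repr_of_mem_ne v hki.symm hy

theorem not_mem_stab {B : Basis (Σ _ : Fin t, Fin m) F (ι → F)} (hB : Adapted D B) (g : GL ι F)
    {i : Fin t} {u : ι → F} (hu : u ∈ D i) {k k' : Fin t} {l l' : Fin m} (hkk : k ≠ k')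
    (h1 : B.repr ((g : Matrix ι ι F) *ᵥ u) ⟨k, l⟩ ≠ 0)
    (h2 : B.repr ((g : Matrix ι ι F) *ᵥ u) ⟨k', l'⟩ ≠ 0) :
    g ∉ Cfsg.Geo.decompositionStabilizer D := by
  rintro ⟨π, hπ⟩
  have hmem := stab_apply_mem hπ hu
  have e1 : k = π i := by
    by_contra hne
    exact h1 (hB.repr_ne _ _ _ _ hmem hne)
  have e2 : k' = π i := by
    by_contra hne
    exact h2 (hB.repr_ne _ _ _ _ hmem hne)
  exact hkk (e1.trans e2.symm)

end decomp

end Cfsg.Agent.H9Dec
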