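import Mathlib
import Cfsg.Agent.Lib.Lead.Hx3Defs

set_option autoImplicit false

/-!
# S2933 / S1237 swarm, package A0: Step 1 of Theorem A — the quotient by `V` satisfies (H) again
(paper: `notes/S2933_S1237_paper_lead.md`, S2933 Step 1).
-/

namespace Cfsg.Agent.Lib.Lead.Hx3

open Cfsg.Agent.Lib.Helper3.S64

/-- (F3): an automorphism of square one of a two-group fixes a nontrivial element of every
nontrivial invariant subgroup -/
theorem a0_fix_exists {X : Type*} [Group X] [Finite X] (hX : IsPGroup 2 X) (φ : MulAut X)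
    (hφ : ∀ y, φ (φ y) = y) (S : Subgroup X) (hS : Inv φ S) (hne : S ≠ ⊥) :
    ∃ x ∈ S, x ≠ 1 ∧ φ x = x := by
  classical
  have : Fintype S := Fintype.ofFinite S
  have : Fact (Nat.Prime 2) := ⟨Nat.prime_two⟩
  let f : Function.End S := fun y => ⟨φ y, hS _ y.2⟩
  have hf : f ^ 2 ^ 1 = 1 := by
    funext y
    apply Subtype.ext
    show φ (φ (y : X)) = y
    exact hφ _
  have h1 := Equiv.Perm.card_fixedPoints_modEq (p := 2) (n := 1) (f := f) hf
  have hev : 2 ∣ Fintype.card S := by
    have hSp : IsPGroup 2 S := hX.to_subgroup S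
    obtain ⟨k, hk⟩ := (IsPGroup.iff_card).mp hSp
    have hk0 : k ≠ 0 := by
      rintro rfl
      rw [pow_zero, Subgroup.card_eq_one] at hk
      exact hne hk
    rw [← Nat.card_eq_fintype_card, hk]
    exact dvd_pow_self 2 hk0
  have hfp : 2 ∣ Fintype.card (Function.fixedPoints f) :=
    (Nat.modEq_zero_iff_dvd).mp (h1.symm.trans ((Nat.modEq_zero_iff_dvd).mpr hev))
  by_contra hcon
  push Not at hcon
  have hone : Fintype.card (Function.fixedPoints f) = 1 := by
    rw [Fintype.card_eq_one_iff]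
    refine ⟨⟨1, ?_⟩, ?_⟩
    · show f 1 = 1
      apply Subtype.ext
      show φ ((1 : S) : X) = ((1 : S) : X)
      simp
    · rintro ⟨y, hy⟩
      apply Subtype.ext
      have hy' : φ (y : X) = y := congrArg Subtype.val hy
      by_contra hne1
      exact hcon y y.2 (fun h => hne1 (Subtype.ext h)) hy'
  rw [hone] at hfp
  norm_num at hfp

/-- automorphisms preserve the centre -/
theorem a0_inv_center {X : Type*} [Group X] (φ : MulAut X) : Inv φ (Subgroup.center X) := by
  intro z hz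
  rw [Subgroup.mem_center_iff] at hz ⊢
  intro g
  have hg : g = φ (φ.symm g) := (φ.apply_symm_apply g).symm
  rw [hg, ← map_mul, ← map_mul, hz]

variable {T : Type*} [Group T]

/-- A0: Step 1: the quotient by `V` satisfies (H) again, with the fixed points of `t`. -/
theorem a0_quot [Finite T] {ρ t : MulAut T} {V : Subgroup T} [V.Normal] (h : HH ρ t V)
    (hne : V ≠ ⊤) :
    HH (quotAut V ρ h.Vrho) (quotAut V t h.Vt) (fixSub (quotAut V t h.Vt)) := by
  classical
  have : Fact (Nat.Prime 2) := ⟨Nat.prime_two⟩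
  have hpg : IsPGroup 2 (T ⧸ V) := h.pg.to_quotient V
  have hfpf : Fpf3 (quotAut V ρ h.Vrho) := Fpf3.quot h.fpf V h.Vrho
  have htsq : ∀ y : T ⧸ V, quotAut V t h.Vt (quotAut V t h.Vt y) = y := by
    intro y
    induction y using QuotientGroup.induction_on with
    | H y => simp only [quotAut_mk, h.tsq]
  have hcomm : ∀ y : T ⧸ V,
      quotAut V ρ h.Vrho (quotAut V t h.Vt y) = quotAut V t h.Vt (quotAut V ρ h.Vrho y) := by
    intro y
    induction y using QuotientGroup.induction_on with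
    | H y => simp only [quotAut_mk, h.comm]
  have hDrho : Inv (quotAut V ρ h.Vrho) (fixSub (quotAut V t h.Vt)) := by
    intro y hy
    rw [mem_fixSub] at hy ⊢
    rw [← hcomm, hy]
  -- an element outside `V`
  obtain ⟨x₀, -, hx₀⟩ := SetLike.exists_of_lt (lt_top_iff_ne_top.mpr hne)
  have hx₀' : (QuotientGroup.mk x₀ : T ⧸ V) ≠ 1 := by
    rw [Ne, QuotientGroup.eq_one_iff]; exact hx₀
  have : Nontrivial (T ⧸ V) := ⟨⟨_, _, hx₀'⟩⟩
  -- representatives of fixed points
  have hrep : ∀ x : T, (QuotientGroup.mk x : T ⧸ V) ∈ fixSub (quotAut V t h.Vt) →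
      x⁻¹ * t x ∈ V := by
    intro x hx
    rw [mem_fixSub, quotAut_mk] at hx
    have h1 : (t x)⁻¹ * x ∈ V := QuotientGroup.eq.mp hx
    have h2 := V.inv_mem h1
    simpa [mul_inv_rev] using h2
  -- `D` is not trivial
  have hDne : fixSub (quotAut V t h.Vt) ≠ ⊥ := by
    have htop : (⊤ : Subgroup (T ⧸ V)) ≠ ⊥ := by
      intro he
      have hm : (QuotientGroup.mk x₀ : T ⧸ V) ∈ (⊤ : Subgroup (T ⧸ V)) := Subgroup.mem_top _
      rw [he, Subgroup.mem_bot] at hm
      exact hx₀' hm
    obtain ⟨y, -, hy1, hy⟩ := a0_fix_exists hpg (quotAut V t h.Vt) htsq ⊤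
      (fun _ _ => Subgroup.mem_top _) htop
    intro he
    have hm : y ∈ fixSub (quotAut V t h.Vt) := hy
    rw [he, Subgroup.mem_bot] at hm
    exact hy1 hm
  -- `|D| ≤ 4`
  have hDle : Nat.card (fixSub (quotAut V t h.Vt)) ≤ 4 := by
    rw [← h.Vcard]
    have hmem : ∀ y : fixSub (quotAut V t h.Vt),
        ((y : T ⧸ V).out)⁻¹ * t ((y : T ⧸ V).out) ∈ V := by
      intro y
      apply hrep
      rw [QuotientGroup.out_eq']
      exact y.2
    refine Nat.card_le_card_of_injective
      (fun y : fixSub (quotAut V t h.Vt) =>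
        (⟨((y : T ⧸ V).out)⁻¹ * t ((y : T ⧸ V).out), hmem y⟩ : V)) ?_
    intro y y' hyy
    have h1 : ((y : T ⧸ V).out)⁻¹ * t ((y : T ⧸ V).out) =
        ((y' : T ⧸ V).out)⁻¹ * t ((y' : T ⧸ V).out) :=
      congrArg (fun v : V => (v : T)) hyy
    obtain ⟨a, ha⟩ : ∃ a : T, a = (y : T ⧸ V).out := ⟨_, rfl⟩
    obtain ⟨b, hb⟩ : ∃ b : T, b = (y' : T ⧸ V).out := ⟨_, rfl⟩
    rw [← ha, ← hb] at h1
    have h2 : t (a * b⁻¹) = a * b⁻¹ := by
      rw [map_mul, map_inv]
      have e1 : t a = a * (b⁻¹ * t b) := by rw [← h1]; group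
      rw [e1]; group
    have h3 : a * b⁻¹ ∈ V := (h.fix _).mp h2
    apply Subtype.ext
    rw [← QuotientGroup.out_eq' (y : T ⧸ V), ← QuotientGroup.out_eq' (y' : T ⧸ V), ← ha, ← hb]
    rw [QuotientGroup.eq]
    have h4 := V.inv_mem h3
    have hn : V.Normal := inferInstance
    have h5 := hn.conj_mem _ h4 b⁻¹
    have e : b⁻¹ * (a * b⁻¹)⁻¹ * b⁻¹⁻¹ = a⁻¹ * b := by group
    rw [e] at h5
    exact h5
  have hDmod : Nat.card (fixSub (quotAut V t h.Vt)) % 3 = 1 := hfpf.card_mod _ hDrho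
  have hD1 : Nat.card (fixSub (quotAut V t h.Vt)) ≠ 1 := by
    rw [Ne, Subgroup.card_eq_one]; exact hDne
  have hD4 : Nat.card (fixSub (quotAut V t h.Vt)) = 4 := by
    have hpos : 0 < Nat.card (fixSub (quotAut V t h.Vt)) := Nat.card_pos
    omega
  refine
    { pg := hpg
      fpf := hfpf
      tsq := htsq
      comm := hcomm
      Vcen := ?_
      Vcard := hD4
      Vsq := ?_
      Vrho := hDrho
      fix := fun y => Iff.rfl }
  · -- `D ≤ Z(T / V)`
    have hZne : Subgroup.center (T ⧸ V) ≠ ⊥ := by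
      have := hpg.center_nontrivial
      exact (Subgroup.nontrivial_iff_ne_bot _).mp this
    obtain ⟨z, hzZ, hz1, hz⟩ := a0_fix_exists hpg (quotAut V t h.Vt) htsq
      (Subgroup.center (T ⧸ V)) (a0_inv_center _) hZne
    obtain ⟨W, hW⟩ : ∃ W : Subgroup (T ⧸ V),
        W = fixSub (quotAut V t h.Vt) ⊓ Subgroup.center (T ⧸ V) := ⟨_, rfl⟩
    have hWinv : Inv (quotAut V ρ h.Vrho) W := by
      intro y hy
      rw [hW] at hy ⊢
      exact ⟨hDrho y hy.1, a0_inv_center _ y hy.2⟩
    have hWmod : Nat.card W % 3 = 1 := hfpf.card_mod _ hWinv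
    have hWle : W ≤ fixSub (quotAut V t h.Vt) := by rw [hW]; exact inf_le_left
    have hWcard : Nat.card W ≤ 4 := by
      rw [← hD4]; exact Subgroup.card_le_of_le hWle
    have hW1 : Nat.card W ≠ 1 := by
      rw [Ne, Subgroup.card_eq_one]
      intro he
      have hm : z ∈ W := by rw [hW]; exact ⟨hz, hzZ⟩
      rw [he, Subgroup.mem_bot] at hm
      exact hz1 hm
    have hW4 : Nat.card W = 4 := by
      have hpos : 0 < Nat.card W := Nat.card_pos
      omega
    have hWD : W = fixSub (quotAut V t h.Vt) :=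
      Subgroup.eq_of_le_of_card_ge hWle (by rw [hW4, hD4])
    intro y hy
    rw [← hWD, hW] at hy
    exact hy.2
  · -- `D` has exponent two
    intro v hv
    induction v using QuotientGroup.induction_on with
    | H x =>
      have hc := hrep x hv
      obtain ⟨c, hcd⟩ : ∃ c : T, c = x⁻¹ * t x := ⟨_, rfl⟩
      rw [← hcd] at hc
      have hcz : ∀ g : T, g * c = c * g := fun g => Subgroup.mem_center_iff.mp (h.Vcen hc) g
      have hc2 : c ^ 2 = 1 := h.Vsq c hc
      have htx : t x = x * c := by rw [hcd]; group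
      have hfix : t (x ^ 2) = x ^ 2 := by
        rw [map_pow, htx, pow_two, pow_two]
        calc x * c * (x * c) = x * (c * x) * c := by group
          _ = x * (x * c) * c := by rw [hcz x]
          _ = x * x * (c * c) := by group
          _ = x * x := by rw [← pow_two c, hc2, mul_one]
      have hx2 : x ^ 2 ∈ V := (h.fix _).mp hfix
      rw [← QuotientGroup.mk_pow, QuotientGroup.eq_one_iff]
      exact hx2

end Cfsg.Agent.Lib.Lead.Hx3
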