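import Mathlib
import Cfsg.Agent.Lib.Helper9.Hx3L2
import Cfsg.Agent.Lib.Helper9.Hx3A0

set_option autoImplicit false

/-!
# S2933 / S1237 swarm, package A1: case (a') of the induction in Theorem A
(paper: `notes/S2933_S1237_paper_lead.md`, S2933 Step 2, Case (a')).
-/

namespace Cfsg.Agent.Lib.Lead.Hx3

open Cfsg.Agent.Lib.Helper3.S64

variable {T : Type*} [Group T]

/-- A1: case (a') of the induction. -/
theorem a1_case [Finite T] {ρ t : MulAut T} {V : Subgroup T} [V.Normal] (h : HH ρ t V)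
    (hne : V ≠ ⊤) (hab : ∀ a b : T ⧸ V, a * b = b * a)
    (x : T ⧸ V) (hx : Subgroup.closure {x, quotAut V ρ h.Vrho x} = ⊤) : Concl ρ := by
  classical
  obtain ⟨x, rfl⟩ := QuotientGroup.mk_surjective x
  obtain ⟨A, hA⟩ : ∃ A : Subgroup T, A = Subgroup.closure {x, ρ x} := ⟨_, rfl⟩
  have hxA : x ∈ A := by rw [hA]; exact Subgroup.subset_closure (by simp)
  have hρxA : ρ x ∈ A := by rw [hA]; exact Subgroup.subset_closure (by simp)
  -- `T = A V`
  have hmapA : A.map (QuotientGroup.mk' V) = ⊤ := by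
    rw [hA, MonoidHom.map_closure, Set.image_pair]
    exact hx
  have hAV : A ⊔ V = ⊤ := by
    rw [eq_top_iff]
    intro g _
    have hg : QuotientGroup.mk' V g ∈ A.map (QuotientGroup.mk' V) := by
      rw [hmapA]; exact Subgroup.mem_top _
    obtain ⟨a, ha, hag⟩ := hg
    have hv : a⁻¹ * g ∈ V := QuotientGroup.eq.mp hag
    have e : g = a * (a⁻¹ * g) := by group
    rw [e]
    exact Subgroup.mul_mem_sup ha hv
  -- `T` is abelian
  have hVcz : V ≤ Subgroup.center T := h.Vcen
  have hcen : ∀ y : T, x * y = y * x → ρ x * y = y * ρ x → y ∈ Subgroup.center T := by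
    intro y h1 h2
    rw [Subgroup.mem_center_iff]
    intro g
    have hle : A ⊔ V ≤ Subgroup.centralizer ({y} : Set T) := by
      refine sup_le ?_ ?_
      · rw [hA, Subgroup.closure_le]
        rintro w (rfl | rfl)
        · exact Subgroup.mem_centralizer_singleton_iff.mpr h1
        · exact Subgroup.mem_centralizer_singleton_iff.mpr h2
      · intro v hv
        rw [Subgroup.mem_centralizer_singleton_iff]
        exact (Subgroup.mem_center_iff.mp (hVcz hv) y).symm
    have hg : g ∈ Subgroup.centralizer ({y} : Set T) := hle (by rw [hAV]; exact Subgroup.mem_top _)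
    exact Subgroup.mem_centralizer_singleton_iff.mp hg
  have hxρ : x * ρ x = ρ x * x := h.fpf.comm x
  have hxc : x ∈ Subgroup.center T := hcen x rfl hxρ.symm
  have hρxc : ρ x ∈ Subgroup.center T := hcen (ρ x) hxρ rfl
  have hTc : (⊤ : Subgroup T) ≤ Subgroup.center T := by
    rw [← hAV]
    refine sup_le ?_ hVcz
    rw [hA, Subgroup.closure_le]
    rintro w (rfl | rfl)
    · exact hxc
    · exact hρxc
  have hab' : ∀ a b : T, a * b = b * a := fun a b =>
    (Subgroup.mem_center_iff.mp (hTc (Subgroup.mem_top b)) a)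
  -- `A` is invariant
  have hAinv : Inv ρ A := by
    have hle : A ≤ A.comap (ρ : T →* T) := by
      rw [hA, Subgroup.closure_le]
      rintro w (rfl | rfl)
      · show ρ w ∈ Subgroup.closure {w, ρ w}
        rw [← hA]; exact hρxA
      · show ρ (ρ x) ∈ Subgroup.closure {x, ρ x}
        rw [← hA, h.fpf.rho_sq_eq]
        exact A.inv_mem (A.mul_mem hxA hρxA)
    intro a ha
    exact hle ha
  obtain ⟨W, hW⟩ : ∃ W : Subgroup T, W = A ⊓ V := ⟨_, rfl⟩
  have hWinv : ∀ n ∈ W, ρ n ∈ W := by
    intro n hn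
    rw [hW] at hn ⊢
    exact ⟨hAinv n hn.1, h.Vrho n hn.2⟩
  have hWmod : Nat.card W % 3 = 1 := h.fpf.card_mod W hWinv
  have hWV : W ≤ V := by rw [hW]; exact inf_le_right
  have hWle : Nat.card W ≤ 4 := by
    rw [← h.Vcard]; exact Subgroup.card_le_of_le hWV
  have hWpos : 0 < Nat.card W := Nat.card_pos
  have hcases : Nat.card W = 4 ∨ Nat.card W = 1 := by omega
  rcases hcases with h4 | h1
  · -- `V ≤ A`
    left
    refine ⟨hab', x, ?_⟩
    have hWeq : W = V := Subgroup.eq_of_le_of_card_ge hWV (by rw [h4, h.Vcard])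
    have hVA : V ≤ A := by rw [← hWeq, hW]; exact inf_le_left
    rw [← hA, ← hAV]
    exact (sup_eq_left.mpr hVA).symm
  · -- `A ∩ V = 1`
    right; left
    have hWbot : W = ⊥ := Subgroup.card_eq_one.mp h1
    -- `g * t g ∈ V`
    have hNV : ∀ g : T, g * t g ∈ V := by
      intro g
      rw [← h.fix, map_mul, h.tsq, hab']
    -- fourth powers
    have hfour : ∀ w ∈ A, w ^ 4 = 1 → w ^ 2 = 1 := by
      intro w hw hw4
      obtain ⟨v, hv⟩ : ∃ v : T, v = w * t w := ⟨_, rfl⟩
      have hvV : v ∈ V := by rw [hv]; exact hNV w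
      have htw : t w = w⁻¹ * v := by rw [hv]; group
      have hv2 : v ^ 2 = 1 := h.Vsq v hvV
      have hfix : t (w ^ 2) = w ^ 2 := by
        rw [map_pow, htw, pow_two, pow_two]
        calc w⁻¹ * v * (w⁻¹ * v) = w⁻¹ * (v * w⁻¹) * v := by group
          _ = w⁻¹ * (w⁻¹ * v) * v := by rw [hab' v w⁻¹]
          _ = w⁻¹ * w⁻¹ * (v * v) := by group
          _ = w⁻¹ * w⁻¹ := by rw [← pow_two v, hv2, mul_one]
          _ = w * w := by
            have e : w ^ 4 = w * w * (w * w) := by
              rw [show (4 : ℕ) = 2 + 2 from rfl, pow_add, pow_two]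
            rw [e] at hw4
            calc w⁻¹ * w⁻¹ = w⁻¹ * w⁻¹ * (w * w * (w * w)) := by rw [hw4, mul_one]
              _ = w * w := by simp only [mul_assoc, inv_mul_cancel_left]
      have hm : w ^ 2 ∈ W := by
        rw [hW]
        exact ⟨A.pow_mem hw 2, (h.fix _).mp hfix⟩
      rw [hWbot, Subgroup.mem_bot] at hm
      exact hm
    -- `x² = 1`
    have hx2 : x ^ 2 = 1 := by
      obtain ⟨k, hk⟩ := h.pg x
      obtain ⟨m, -, hm⟩ := (Nat.dvd_prime_pow Nat.prime_two).mp (orderOf_dvd_of_pow_eq_one hk)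
      rcases Nat.lt_or_ge m 2 with hlt | hge
      · rw [← orderOf_dvd_iff_pow_eq_one, hm]
        have : m ≤ 1 := by omega
        calc 2 ^ m ∣ 2 ^ 1 := pow_dvd_pow 2 this
          _ = 2 := pow_one 2
      · exfalso
        obtain ⟨j, rfl⟩ : ∃ j, m = j + 2 := ⟨m - 2, by omega⟩
        have hw4 : (x ^ 2 ^ j) ^ 4 = 1 := by
          rw [← pow_mul, show 2 ^ j * 4 = 2 ^ (j + 2) by ring, ← hm]
          exact pow_orderOf_eq_one x
        have hw2 := hfour _ (A.pow_mem hxA _) hw4
        rw [← pow_mul, ← pow_succ] at hw2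
        have hd := orderOf_dvd_of_pow_eq_one hw2
        rw [hm] at hd
        have hle := Nat.le_of_dvd (by positivity) hd
        have : 2 ^ (j + 2) = 2 ^ (j + 1) * 2 := by ring
        have hpos : 0 < 2 ^ (j + 1) := by positivity
        omega
    have hρx2 : (ρ x) ^ 2 = 1 := by rw [← map_pow, hx2, map_one]
    -- all squares are trivial
    let sq : T →* T :=
      { toFun := fun g => g ^ 2
        map_one' := one_pow 2
        map_mul' := fun a b => Commute.mul_pow (hab' a b) 2 }
    have hsqall : ∀ g : T, g ^ 2 = 1 := by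
      have hle : A ⊔ V ≤ sq.ker := by
        refine sup_le ?_ ?_
        · rw [hA, Subgroup.closure_le]
          rintro w (rfl | rfl)
          · exact MonoidHom.mem_ker.mpr hx2
          · exact MonoidHom.mem_ker.mpr hρx2
        · intro v hv
          exact MonoidHom.mem_ker.mpr (h.Vsq v hv)
      intro g
      have hg : g ∈ sq.ker := hle (by rw [hAV]; exact Subgroup.mem_top _)
      exact MonoidHom.mem_ker.mp hg
    refine ⟨?_, hsqall⟩
    -- the order
    have hA0 := a0_quot h hne
    have hfpf' : Fpf3 (quotAut V ρ h.Vrho) := hA0.fpf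
    have hge : 4 ≤ Nat.card (T ⧸ V) := by
      rw [← hA0.Vcard]
      exact Subgroup.card_le_card_group _
    have hxq2 : (QuotientGroup.mk x : T ⧸ V) ^ 2 = 1 := by
      rw [← QuotientGroup.mk_pow, hx2]; rfl
    obtain ⟨k, hk⟩ := hA0.pg (QuotientGroup.mk x : T ⧸ V)
    obtain ⟨n, -, hn⟩ := (Nat.dvd_prime_pow Nat.prime_two).mp (orderOf_dvd_of_pow_eq_one hk)
    have hn1 : n ≤ 1 := by
      have hd : 2 ^ n ∣ 2 := by rw [← hn]; exact orderOf_dvd_of_pow_eq_one hxq2
      have hle := Nat.le_of_dvd (by norm_num) hd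
      by_contra hcon
      have h2 : 2 ≤ n := by omega
      have : 2 ^ 2 ≤ 2 ^ n := Nat.pow_le_pow_right (by norm_num) h2
      omega
    obtain ⟨f, hinj, -, hxr, hyr⟩ := l2_hom hfpf' hab hn
    have hsurj : Function.Surjective f := by
      rw [← MonoidHom.range_eq_top, eq_top_iff, ← hx, Subgroup.closure_le]
      rintro y (rfl | rfl)
      · exact hxr
      · exact hyr
    have hN : Nat.card (Multiplicative (ZMod (2 ^ n))) = 2 ^ n := by
      rw [Nat.card_congr Multiplicative.toAdd]
      exact Nat.card_zmod _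
    have hcq : Nat.card (T ⧸ V) = 2 ^ n * 2 ^ n := by
      rw [← Nat.card_congr (Equiv.ofBijective f ⟨hinj, hsurj⟩), Nat.card_prod, hN]
    have hq4 : Nat.card (T ⧸ V) = 4 := by
      have hle : 2 ^ n ≤ 2 ^ 1 := Nat.pow_le_pow_right (by norm_num) hn1
      have : Nat.card (T ⧸ V) ≤ 4 := by
        rw [hcq]
        calc 2 ^ n * 2 ^ n ≤ 2 ^ 1 * 2 ^ 1 := Nat.mul_le_mul hle hle
          _ = 4 := by norm_num
      omega
    rw [Subgroup.card_eq_card_quotient_mul_card_subgroup V, hq4, h.Vcard]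

end Cfsg.Agent.Lib.Lead.Hx3
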