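import Mathlib

set_option autoImplicit false

namespace Cfsg.Agent.Lib.Helper9

variable {G : Type*} [Group G]

theorem inv_eq_self_of_sq {a : G} (ha : a * a = 1) : a⁻¹ = a := inv_eq_of_mul_eq_one_right ha

theorem sq_eq_one_of_orderOf_two {a : G} (h : orderOf a = 2) : a * a = 1 := by
  rw [← pow_two, ← h, pow_orderOf_eq_one]

/-- An involution `a` inverts the powers of `a * b` (for `b` an involution). -/
theorem conj_pow_left {a b : G} (ha : a * a = 1) (hb : b * b = 1) (k : ℕ) :
    a * (a * b) ^ k * a⁻¹ = ((a * b) ^ k)⁻¹ := by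
  have h2 : a * (a * b) * a⁻¹ = (a * b)⁻¹ := by
    rw [mul_inv_rev, inv_eq_self_of_sq ha, inv_eq_self_of_sq hb]
    have : a * (a * b) * a = (a * a) * b * a := by group
    rw [this, ha, one_mul]
  rw [← conj_pow, h2, inv_pow]

theorem conj_pow_right {a b : G} (ha : a * a = 1) (hb : b * b = 1) (k : ℕ) :
    b * (a * b) ^ k * b⁻¹ = ((a * b) ^ k)⁻¹ := by
  have h2 : b * (a * b) * b⁻¹ = (a * b)⁻¹ := by
    rw [mul_inv_rev, inv_eq_self_of_sq ha, inv_eq_self_of_sq hb]
    have : b * (a * b) * b = b * a * (b * b) := by group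
    rw [this, hb, mul_one]
  rw [← conj_pow, h2, inv_pow]

/-- If `(a b)^(2k) = 1` then `(a b)^k` commutes with the involutions `a` and `b`. -/
theorem commute_pow_of_pow_two_mul {a b : G} (ha : a * a = 1) (hb : b * b = 1) {k : ℕ}
    (h : (a * b) ^ k * (a * b) ^ k = 1) : Commute a ((a * b) ^ k) ∧ Commute b ((a * b) ^ k) := by
  have hcinv : ((a * b) ^ k)⁻¹ = (a * b) ^ k := inv_eq_of_mul_eq_one_right h
  constructor
  · show a * (a * b) ^ k = (a * b) ^ k * a
    have h1 := conj_pow_left ha hb k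
    rw [hcinv] at h1
    calc a * (a * b) ^ k = a * (a * b) ^ k * a⁻¹ * a := by group
      _ = (a * b) ^ k * a := by rw [h1]
  · show b * (a * b) ^ k = (a * b) ^ k * b
    have h1 := conj_pow_right ha hb k
    rw [hcinv] at h1
    calc b * (a * b) ^ k = b * (a * b) ^ k * b⁻¹ * b := by group
      _ = (a * b) ^ k * b := by rw [h1]

/-- Two involutions whose product has odd order are conjugate. -/
theorem conj_of_pow_odd {a b : G} (ha : a * a = 1) (hb : b * b = 1) {m : ℕ}
    (h : (a * b) ^ (2 * m + 1) = 1) : (a * b) ^ m * a * ((a * b) ^ m)⁻¹ = b := by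
  have h1 := conj_pow_left ha hb m
  -- a (ab)^m a⁻¹ = ((ab)^m)⁻¹  ⇒  a ((ab)^m)⁻¹ = (ab)^m a
  have h2 : a * ((a * b) ^ m)⁻¹ = (a * b) ^ m * a := by
    have : ((a * b) ^ m)⁻¹ = a * (a * b) ^ m * a⁻¹ := h1.symm
    rw [this, inv_eq_self_of_sq ha]
    calc a * (a * (a * b) ^ m * a) = (a * a) * (a * b) ^ m * a := by group
      _ = (a * b) ^ m * a := by rw [ha, one_mul]
  have h3 : (a * b) ^ m * (a * b) ^ m = (a * b)⁻¹ := by
    rw [← pow_add, ← two_mul]
    apply eq_inv_of_mul_eq_one_left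
    rw [← pow_succ]; exact h
  calc (a * b) ^ m * a * ((a * b) ^ m)⁻¹ = (a * b) ^ m * (a * ((a * b) ^ m)⁻¹) := by group
    _ = (a * b) ^ m * ((a * b) ^ m * a) := by rw [h2]
    _ = ((a * b) ^ m * (a * b) ^ m) * a := by group
    _ = (a * b)⁻¹ * a := by rw [h3]
    _ = b := by
      rw [mul_inv_rev, inv_eq_self_of_sq ha, inv_eq_self_of_sq hb, mul_assoc, ha, mul_one]

/-- In a conjugation-invariant set of involutions containing `a` and `b`, the elements `a (a b)^k` all lie in the set. -/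
theorem mem_of_pow_of_conj_invariant {D : Set G} (hsq : ∀ d ∈ D, d * d = 1) (hconj : ∀ g : G, ∀ d ∈ D, g * d * g⁻¹ ∈ D)
    {a b : G} (ha : a ∈ D) (hb : b ∈ D) : ∀ k : ℕ, a * (a * b) ^ k ∈ D := by
  intro k
  induction k using Nat.twoStepInduction with
  | zero => simpa using ha
  | one =>
    have : a * (a * b) ^ 1 = b := by rw [pow_one, ← mul_assoc, hsq a ha, one_mul]
    rw [this]; exact hb
  | more k ih _ =>
    have : a * (a * b) ^ (k + 2) = (b * a) * (a * (a * b) ^ k) * (b * a)⁻¹ := by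
      have hainv : a⁻¹ = a := inv_eq_of_mul_eq_one_right (hsq a ha)
      have hbinv : b⁻¹ = b := inv_eq_of_mul_eq_one_right (hsq b hb)
      have hL : a * (a * b) ^ (k + 2) = b * (a * b) ^ (k + 1) := by
        rw [pow_succ' (a * b) (k + 1), ← mul_assoc, ← mul_assoc, hsq a ha, one_mul]
      have hR : (b * a) * (a * (a * b) ^ k) * (b * a)⁻¹ = b * (a * b) ^ (k + 1) := by
        rw [mul_inv_rev, hainv, hbinv, pow_succ]
        calc b * a * (a * (a * b) ^ k) * (a * b) = b * (a * a) * (a * b) ^ k * (a * b) := by group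
          _ = b * ((a * b) ^ k * (a * b)) := by rw [hsq a ha, mul_one, mul_assoc]
      rw [hL, hR]
    rw [this]
    exact hconj _ _ ih

theorem orderOf_conj_eq (g x : G) : orderOf (g * x * g⁻¹) = orderOf x := by
  have := (MulAut.conj g).orderOf_eq x
  rwa [MulAut.conj_apply] at this

/-- The fixed-coset criterion. -/
theorem smul_mk_eq_self_iff (H : Subgroup G) (x g : G) :
    x • (QuotientGroup.mk g : G ⧸ H) = QuotientGroup.mk g ↔ g⁻¹ * x * g ∈ H := by
  rw [MulAction.Quotient.smul_mk, QuotientGroup.eq, smul_eq_mul]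
  constructor
  · intro h
    have := H.inv_mem h
    have e : ((x * g)⁻¹ * g)⁻¹ = g⁻¹ * x * g := by group
    rwa [e] at this
  · intro h
    have := H.inv_mem h
    have e : (g⁻¹ * x * g)⁻¹ = (x * g)⁻¹ * g := by group
    rwa [e] at this

end Cfsg.Agent.Lib.Helper9
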