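import Mathlib
import Cfsg.Prelude
import Cfsg.Agent.Lib.Helper9.PSLFus7

set_option autoImplicit false

/-!
# Simplicity criterion, variant: centric subgroups recognised through `p`-elements only
-/

namespace Cfsg.Agent.H9L3

open Cfsg Cfsg.FusionSystem Cfsg.Agent.Lib.Helper9 Cfsg.Agent.H9PF

variable {G : Type*} [Group G]

/-- a subgroup of `S` containing every `p`-element of its centraliser in `G` is centric in the
fusion system on the `p`-group `S` -/
theorem centric_of_pcentralizing (p : ℕ) [Fact p.Prime] (S R : Subgroup G) (hS : IsPGroup p S)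
    (hRS : R ≤ S)
    (hC : ∀ x : G, (∃ j : ℕ, orderOf x = p ^ j) → (∀ r ∈ R, x * r = r * x) → x ∈ R) :
    (groupFusionSystem S).IsCentric R := by
  refine ⟨hRS, ?_⟩
  rintro Q ⟨φ, ⟨-, -, g, hg⟩, rfl⟩ x hx
  obtain ⟨hxS, hxC⟩ := Subgroup.mem_inf.mp hx
  rw [Subgroup.mem_centralizer_iff] at hxC
  have h1 : g⁻¹ * x * g ∈ R := by
    apply hC
    · obtain ⟨j, hj⟩ := (IsPGroup.iff_orderOf.mp hS) ⟨x, hxS⟩
      refine ⟨j, ?_⟩
      rw [Subgroup.orderOf_mk] at hj
      rw [← hj]
      have e : g⁻¹ * x * g = (MulAut.conj g⁻¹) x := by simp [MulAut.conj_apply]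
      rw [e]
      exact (MulAut.conj g⁻¹).orderOf_eq x
    intro r hr
    have h2 : φ ⟨r, hr⟩ ∈ ((φ.range : Subgroup G) : Set G) := ⟨⟨r, hr⟩, rfl⟩
    have h3 := hxC _ h2
    rw [hg] at h3
    simp only at h3
    have e1 : g⁻¹ * x * g * r = g⁻¹ * (x * (g * r * g⁻¹)) * g := by group
    have e2 : r * (g⁻¹ * x * g) = g⁻¹ * ((g * r * g⁻¹) * x) * g := by group
    rw [e1, e2, h3]
  refine ⟨⟨g⁻¹ * x * g, h1⟩, ?_⟩
  rw [hg]
  simp only
  group

variable [Finite G]

theorem simple_of_data2 (p : ℕ) [Fact p.Prime] (P₀ : Sylow p G)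
    (hP1 : (P₀ : Subgroup G) ≠ ⊥)
    (hsc : ∀ T : Subgroup G, T ≤ (P₀ : Subgroup G) → T ≠ ⊥ →
      (∀ t ∈ T, ∀ g : G, g * t * g⁻¹ ∈ (P₀ : Subgroup G) → g * t * g⁻¹ ∈ T) →
      (P₀ : Subgroup G) ≤ T)
    (Γ : Set G) (hΓ : Subgroup.normalizer ((P₀ : Subgroup G) : Set G) ≤ Subgroup.closure Γ)
    (hgood : ∀ γ ∈ Γ, γ ∈ Subgroup.normalizer ((P₀ : Subgroup G) : Set G) ∧
      ∃ R : Subgroup G, R ≤ (P₀ : Subgroup G) ∧
        (∀ x : G, (∃ j : ℕ, orderOf x = p ^ j) → (∀ r ∈ R, x * r = r * x) → x ∈ R) ∧
        γ ∈ Subgroup.closure {k : G | k ∈ Subgroup.normalizer (R : Set G) ∧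
          ∃ j : ℕ, orderOf k = p ^ j})
    (S : Sylow p G) :
    (groupFusionSystem (S : Subgroup G)).IsSimple p := by
  obtain ⟨h, rfl⟩ := MulAction.exists_smul_eq G P₀ S
  have hmem : ∀ x : G, x ∈ ((h • P₀ : Sylow p G) : Subgroup G) ↔ h⁻¹ * x * h ∈ (P₀ : Subgroup G) := by
    intro x
    rw [Sylow.coe_subgroup_smul, Subgroup.mem_pointwise_smul_iff_inv_smul_mem]
    simp [MulAut.smul_def, MulAut.conj_apply]
  apply simple_of_generators
  · intro hb
    apply hP1
    rw [Subgroup.eq_bot_iff_forall] at hb ⊢
    intro x hx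
    have h1 : h * x * h⁻¹ ∈ ((h • P₀ : Sylow p G) : Subgroup G) := by
      rw [hmem]
      have : h⁻¹ * (h * x * h⁻¹) * h = x := by group
      rw [this]; exact hx
    have h2 := hb _ h1
    have : x = h⁻¹ * (h * x * h⁻¹) * h := by group
    rw [this, h2]; group
  · intro T hT
    by_cases hTb : T = ⊥
    · left; exact hTb
    right
    have hTS := hT.1
    have hcl := closed_of_stronglyClosed hT
    apply le_antisymm hTS
    -- transport `T` back
    obtain ⟨T₀, hT₀⟩ : ∃ T₀ : Subgroup G, T₀ = T.map (MulAut.conj h⁻¹).toMonoidHom := ⟨_, rfl⟩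
    have hmemT : ∀ x : G, x ∈ T₀ ↔ h * x * h⁻¹ ∈ T := by
      intro x
      rw [hT₀, Subgroup.mem_map]
      constructor
      · rintro ⟨y, hy, rfl⟩
        have : h * ((MulAut.conj h⁻¹).toMonoidHom y) * h⁻¹ = y := by
          simp [MulAut.conj_apply]; group
        rw [this]; exact hy
      · intro hx
        refine ⟨h * x * h⁻¹, hx, ?_⟩
        simp [MulAut.conj_apply]; group
    have h1 : T₀ ≤ (P₀ : Subgroup G) := by
      intro x hx
      have := (hmem _).mp (hTS ((hmemT x).mp hx))
      have e : h⁻¹ * (h * x * h⁻¹) * h = x := by group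
      rwa [e] at this
    have h2 : T₀ ≠ ⊥ := by
      intro hb
      apply hTb
      rw [Subgroup.eq_bot_iff_forall] at hb ⊢
      intro x hx
      have hx' : h⁻¹ * x * h ∈ T₀ := by
        rw [hmemT]
        have : h * (h⁻¹ * x * h) * h⁻¹ = x := by group
        rw [this]; exact hx
      have := hb _ hx'
      have e : x = h * (h⁻¹ * x * h) * h⁻¹ := by group
      rw [e, this]; group
    have h3 : ∀ t ∈ T₀, ∀ g : G, g * t * g⁻¹ ∈ (P₀ : Subgroup G) → g * t * g⁻¹ ∈ T₀ := by
      intro t ht g hg
      rw [hmemT]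
      have e : h * (g * t * g⁻¹) * h⁻¹ = (h * g * h⁻¹) * (h * t * h⁻¹) * (h * g * h⁻¹)⁻¹ := by group
      rw [e]
      apply hcl _ ((hmemT t).mp ht)
      rw [← e, hmem]
      have e2 : h⁻¹ * (h * (g * t * g⁻¹) * h⁻¹) * h = g * t * g⁻¹ := by group
      rw [e2]; exact hg
    have h4 := hsc T₀ h1 h2 h3
    intro x hx
    have h5 := h4 ((hmem x).mp hx)
    have h6 := (hmemT _).mp h5
    have e : h * (h⁻¹ * x * h) * h⁻¹ = x := by group
    rwa [e] at h6
  · intro b hb
    have h1 : (h⁻¹ * b * h) • P₀ = P₀ := by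
      have := Sylow.smul_eq_iff_mem_normalizer.mpr hb
      rw [mul_smul, mul_smul, this, inv_smul_smul]
    have h2 : h⁻¹ * b * h ∈ Subgroup.normalizer ((P₀ : Subgroup G) : Set G) :=
      Sylow.smul_eq_iff_mem_normalizer.mp h1
    have h3 := hΓ h2
    have key : ∀ x ∈ Subgroup.closure Γ,
        h * x * h⁻¹ ∈ Subgroup.closure (goodSet p ((h • P₀ : Sylow p G) : Subgroup G)) := by
      intro x hx
      induction hx using Subgroup.closure_induction with
      | mem γ hγ =>
        apply Subgroup.subset_closure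
        obtain ⟨hγN, R, hRP, hRC, hγK⟩ := hgood γ hγ
        refine ⟨?_, R.map (MulAut.conj h).toMonoidHom, ?_, ?_⟩
        · apply Sylow.smul_eq_iff_mem_normalizer.mp
          rw [mul_smul, mul_smul, inv_smul_smul, Sylow.smul_eq_iff_mem_normalizer.mpr hγN]
        · apply centric_of_pcentralizing p _ _ (h • P₀ : Sylow p G).isPGroup'
          · rintro _ ⟨r, hr, rfl⟩
            rw [hmem]
            have e : h⁻¹ * ((MulAut.conj h).toMonoidHom r) * h = r := by
              show h⁻¹ * (h * r * h⁻¹) * h = r
              group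
            rw [e]
            exact hRP hr
          · intro x hxo hx
            have h5 : h⁻¹ * x * h ∈ R := by
              apply hRC
              · obtain ⟨j, hj⟩ := hxo
                refine ⟨j, ?_⟩
                rw [← hj]
                have e : h⁻¹ * x * h = (MulAut.conj h⁻¹) x := by simp [MulAut.conj_apply]
                rw [e]
                exact (MulAut.conj h⁻¹).orderOf_eq x
              intro r hr
              have h6 := hx (h * r * h⁻¹) ⟨r, hr, by simp [MulAut.conj_apply]⟩
              have e1 : h⁻¹ * x * h * r = h⁻¹ * (x * (h * r * h⁻¹)) * h := by group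
              have e2 : r * (h⁻¹ * x * h) = h⁻¹ * ((h * r * h⁻¹) * x) * h := by group
              rw [e1, e2, h6]
            refine ⟨h⁻¹ * x * h, h5, ?_⟩
            simp [MulAut.conj_apply]
            group
        · have key2 : ∀ y ∈ Subgroup.closure {k : G | k ∈ Subgroup.normalizer (R : Set G) ∧
              ∃ j : ℕ, orderOf k = p ^ j},
              h * y * h⁻¹ ∈ Subgroup.closure {k : G | k ∈ Subgroup.normalizer
                ((R.map (MulAut.conj h).toMonoidHom : Subgroup G) : Set G) ∧
                ∃ j : ℕ, orderOf k = p ^ j} := by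
            intro y hy
            induction hy using Subgroup.closure_induction with
            | mem k hk =>
              apply Subgroup.subset_closure
              obtain ⟨hkN, j, hj⟩ := hk
              refine ⟨?_, j, ?_⟩
              · rw [Subgroup.mem_normalizer_iff] at hkN ⊢
                intro x
                constructor
                · rintro ⟨r, hr, rfl⟩
                  refine ⟨k * r * k⁻¹, (hkN r).mp hr, ?_⟩
                  simp [MulAut.conj_apply]
                  group
                · rintro ⟨r, hr, hrx⟩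
                  have h7 : k⁻¹ * r * k ∈ R := by
                    rw [hkN]
                    have e : k * (k⁻¹ * r * k) * k⁻¹ = r := by group
                    rw [e]; exact hr
                  refine ⟨k⁻¹ * r * k, h7, ?_⟩
                  have h8 : x = (h * k * h⁻¹)⁻¹ * (h * r * h⁻¹) * (h * k * h⁻¹) := by
                    have : h * r * h⁻¹ = h * k * h⁻¹ * x * (h * k * h⁻¹)⁻¹ := by
                      rw [← hrx]; simp [MulAut.conj_apply]
                    rw [this]; group
                  rw [h8]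
                  simp [MulAut.conj_apply]
                  group
              · rw [← hj]
                exact (MulAut.conj h).orderOf_eq k
            | one =>
              have : h * 1 * h⁻¹ = 1 := by group
              rw [this]; exact Subgroup.one_mem _
            | mul a c _ _ iha ihc =>
              have : h * (a * c) * h⁻¹ = (h * a * h⁻¹) * (h * c * h⁻¹) := by group
              rw [this]; exact Subgroup.mul_mem _ iha ihc
            | inv a _ iha =>
              have : h * a⁻¹ * h⁻¹ = (h * a * h⁻¹)⁻¹ := by group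
              rw [this]; exact Subgroup.inv_mem _ iha
          exact key2 γ hγK
      | one =>
        have : h * 1 * h⁻¹ = 1 := by group
        rw [this]; exact Subgroup.one_mem _
      | mul a c _ _ iha ihc =>
        have : h * (a * c) * h⁻¹ = (h * a * h⁻¹) * (h * c * h⁻¹) := by group
        rw [this]; exact Subgroup.mul_mem _ iha ihc
      | inv a _ iha =>
        have : h * a⁻¹ * h⁻¹ = (h * a * h⁻¹)⁻¹ := by group
        rw [this]; exact Subgroup.inv_mem _ iha
    have h4 := key _ h3
    have e : h * (h⁻¹ * b * h) * h⁻¹ = b := by group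
    rwa [e] at h4

end Cfsg.Agent.H9L3
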