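import Mathlib
import Cfsg.Prelude
import Cfsg.Agent.Lib.Helper9.L3Fus0

set_option autoImplicit false

/-!
# Simplicity criterion: passing to a quotient by a central subgroup of order prime to `p`
-/

namespace Cfsg.Agent.H9L3

open Cfsg Cfsg.FusionSystem Cfsg.Agent.Lib.Helper9 Cfsg.Agent.H9PF

variable {Y G : Type*} [Group Y] [Group G]

/-- a `p`-element of a central subgroup of order prime to `p` is trivial -/
theorem eq_one_of_pow_of_coprime [Finite Y] (p : ℕ) [Fact p.Prime] (Z : Subgroup Y)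
    (hZ : (Nat.card Z).Coprime p) (ζ : Y) (hζ : ζ ∈ Z) (k : ℕ) (hk : ζ ^ (p ^ k) = 1) : ζ = 1 := by
  have h1 : orderOf ζ ∣ p ^ k := orderOf_dvd_of_pow_eq_one hk
  have h2 : orderOf ζ ∣ Nat.card Z := by
    have : orderOf (⟨ζ, hζ⟩ : Z) ∣ Nat.card Z := orderOf_dvd_natCard _
    rwa [Subgroup.orderOf_mk] at this
  have h3 : (Nat.card Z).Coprime (p ^ k) := Nat.Coprime.pow_right k hZ
  have h4 : orderOf ζ = 1 := Nat.eq_one_of_dvd_coprimes h3 h2 h1
  exact orderOf_eq_one_iff.mp h4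

theorem orderOf_eq_prime_pow_of_pow_eq_one (p : ℕ) [Fact p.Prime] (x : Y) (k : ℕ)
    (hk : x ^ (p ^ k) = 1) : ∃ j : ℕ, orderOf x = p ^ j := by
  obtain ⟨j, -, hj⟩ := (Nat.dvd_prime_pow (Fact.out : p.Prime)).mp (orderOf_dvd_of_pow_eq_one hk)
  exact ⟨j, hj⟩

/-- a `p`-element of the quotient lifts to a `p`-element -/
theorem exists_pElement_lift [Finite Y] (p : ℕ) [Fact p.Prime] (π : Y →* G)
    (hπ : Function.Surjective π) (hZ : (Nat.card π.ker).Coprime p) (x' : G) (j : ℕ)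
    (hx' : orderOf x' = p ^ j) : ∃ x : Y, π x = x' ∧ ∃ i : ℕ, orderOf x = p ^ i := by
  obtain ⟨x, rfl⟩ := hπ x'
  obtain ⟨n, hn⟩ : ∃ n, n = Nat.card π.ker := ⟨_, rfl⟩
  have hcop : Nat.Coprime n (p ^ j) := by rw [hn]; exact Nat.Coprime.pow_right j hZ
  have hxk : x ^ (p ^ j) ∈ π.ker := by
    rw [MonoidHom.mem_ker, map_pow, ← hx', pow_orderOf_eq_one]
  have hxn : (x ^ (p ^ j)) ^ n = 1 := by
    have h1 : (⟨x ^ (p ^ j), hxk⟩ : π.ker) ^ n = 1 := by rw [hn]; exact pow_card_eq_one'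
    have := congrArg Subtype.val h1
    simpa using this
  -- Bezout
  have hb : (n : ℤ) * Nat.gcdA n (p ^ j) + (p ^ j : ℕ) * Nat.gcdB n (p ^ j) = 1 := by
    have := Nat.gcd_eq_gcd_ab n (p ^ j)
    rw [hcop] at this
    simpa using this.symm
  obtain ⟨u, hu⟩ : ∃ u : ℤ, u = Nat.gcdA n (p ^ j) := ⟨_, rfl⟩
  obtain ⟨v, hv⟩ : ∃ v : ℤ, v = Nat.gcdB n (p ^ j) := ⟨_, rfl⟩
  rw [← hu, ← hv] at hb
  refine ⟨x ^ ((n : ℤ) * u), ?_, ?_⟩
  · have h1 : (n : ℤ) * u = 1 - (p ^ j : ℕ) * v := by linarith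
    rw [h1, map_zpow, zpow_sub, zpow_one, zpow_mul, zpow_natCast, ← hx', pow_orderOf_eq_one,
      one_zpow, inv_one, mul_one]
  · apply orderOf_eq_prime_pow_of_pow_eq_one p _ j
    rw [← zpow_natCast, ← zpow_mul, mul_comm, ← mul_assoc, zpow_mul, zpow_mul, zpow_natCast,
      zpow_natCast, hxn, one_zpow]

variable [Finite Y] [Finite G]

theorem simple_of_data_quot (p : ℕ) [Fact p.Prime] (π : Y →* G) (hπ : Function.Surjective π)
    (hker : π.ker ≤ Subgroup.center Y) (hZ : (Nat.card π.ker).Coprime p)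
    (P₀ : Sylow p Y)
    (hP1 : (P₀ : Subgroup Y) ≠ ⊥)
    (hsc : ∀ T : Subgroup Y, T ≤ (P₀ : Subgroup Y) → T ≠ ⊥ →
      (∀ t ∈ T, ∀ g : Y, g * t * g⁻¹ ∈ (P₀ : Subgroup Y) → g * t * g⁻¹ ∈ T) →
      (P₀ : Subgroup Y) ≤ T)
    (Γ : Set Y) (hΓ : Subgroup.normalizer ((P₀ : Subgroup Y) : Set Y) ≤ Subgroup.closure Γ)
    (hgood : ∀ γ ∈ Γ, γ ∈ Subgroup.normalizer ((P₀ : Subgroup Y) : Set Y) ∧
      ∃ R : Subgroup Y, R ≤ (P₀ : Subgroup Y) ∧
        (∀ x : Y, (∃ j : ℕ, orderOf x = p ^ j) → (∀ r ∈ R, x * r = r * x) → x ∈ R) ∧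
        γ ∈ Subgroup.closure {k : Y | k ∈ Subgroup.normalizer (R : Set Y) ∧
          ∃ j : ℕ, orderOf k = p ^ j})
    (S : Sylow p G) :
    (groupFusionSystem (S : Subgroup G)).IsSimple p := by
  have hcen : ∀ ζ ∈ π.ker, ∀ y : Y, ζ * y = y * ζ := by
    intro ζ hζ y
    exact ((Subgroup.mem_center_iff.mp (hker hζ)) y).symm
  have hPp : ∀ x ∈ (P₀ : Subgroup Y), ∃ k : ℕ, x ^ (p ^ k) = 1 := by
    intro x hx
    obtain ⟨k, hk⟩ := P₀.isPGroup' ⟨x, hx⟩
    refine ⟨k, ?_⟩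
    have := congrArg Subtype.val hk
    simpa using this
  -- `π` is injective on `P₀`
  have hinj : ∀ x ∈ (P₀ : Subgroup Y), π x = 1 → x = 1 := by
    intro x hx h1
    obtain ⟨k, hk⟩ := hPp x hx
    exact eq_one_of_pow_of_coprime p π.ker hZ x (MonoidHom.mem_ker.mpr h1) k hk
  -- membership in `P₀` can be tested in the quotient, for `p`-elements
  have hmemP : ∀ x : Y, (∃ k : ℕ, x ^ (p ^ k) = 1) → π x ∈ (P₀ : Subgroup Y).map π →
      x ∈ (P₀ : Subgroup Y) := by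
    rintro x ⟨k, hk⟩ ⟨y, hy, hyx⟩
    obtain ⟨k', hk'⟩ := hPp y hy
    obtain ⟨ζ, hζ⟩ : ∃ ζ, ζ = x * y⁻¹ := ⟨_, rfl⟩
    have hζk : ζ ∈ π.ker := by
      rw [MonoidHom.mem_ker, hζ, map_mul, map_inv, hyx, mul_inv_cancel]
    have hx : x = ζ * y := by rw [hζ]; group
    have hcomm : Commute ζ y := hcen ζ hζk y
    have h1 : ζ ^ (p ^ (k + k')) = 1 := by
      have h2 : x ^ (p ^ (k + k')) = 1 := by rw [pow_add, pow_mul, hk, one_pow]
      have h3 : y ^ (p ^ (k + k')) = 1 := by rw [pow_add, mul_comm, pow_mul, hk', one_pow]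
      rw [hx, hcomm.mul_pow, h3, mul_one] at h2
      exact h2
    have h2 := eq_one_of_pow_of_coprime p π.ker hZ ζ hζk _ h1
    rw [hx, h2, one_mul]; exact hy
  have hconjP : ∀ g : Y, π g ∈ Subgroup.normalizer (((P₀ : Subgroup Y).map π : Subgroup G) : Set G) →
      ∀ x ∈ (P₀ : Subgroup Y), g * x * g⁻¹ ∈ (P₀ : Subgroup Y) := by
    intro g hg x hx
    apply hmemP
    · obtain ⟨k, hk⟩ := hPp x hx
      exact ⟨k, by rw [conj_pow, hk, mul_one, mul_inv_cancel]⟩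
    · rw [map_mul, map_mul, map_inv]
      exact (Subgroup.mem_normalizer_iff.mp hg _).mp (Subgroup.mem_map_of_mem π hx)
  refine simple_of_data2 p (P₀.mapSurjective hπ) ?_ ?_ (π '' Γ) ?_ ?_ S
  · rw [Sylow.coe_mapSurjective]
    intro hb
    apply hP1
    rw [Subgroup.eq_bot_iff_forall] at hb ⊢
    intro x hx
    exact hinj x hx (hb _ (Subgroup.mem_map_of_mem π hx))
  · rw [Sylow.coe_mapSurjective]
    intro T' hT' hT'b hT'c
    have h1 : (P₀ : Subgroup Y) ≤ T'.comap π ⊓ (P₀ : Subgroup Y) := by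
      apply hsc
      · exact inf_le_right
      · intro hb
        apply hT'b
        rw [Subgroup.eq_bot_iff_forall] at hb ⊢
        intro t' ht'
        obtain ⟨t, ht, rfl⟩ := hT' ht'
        rw [hb t (Subgroup.mem_inf.mpr ⟨Subgroup.mem_comap.mpr ht', ht⟩), map_one]
      · intro t ht g hg
        obtain ⟨ht1, ht2⟩ := Subgroup.mem_inf.mp ht
        refine Subgroup.mem_inf.mpr ⟨?_, hg⟩
        rw [Subgroup.mem_comap, map_mul, map_mul, map_inv]
        apply hT'c _ (Subgroup.mem_comap.mp ht1)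
        rw [← map_inv, ← map_mul, ← map_mul]
        exact Subgroup.mem_map_of_mem π hg
    rintro _ ⟨x, hx, rfl⟩
    exact Subgroup.mem_comap.mp (Subgroup.mem_inf.mp (h1 hx)).1
  · rw [Sylow.coe_mapSurjective]
    intro g' hg'
    obtain ⟨g, rfl⟩ := hπ g'
    have hgN : g ∈ Subgroup.normalizer ((P₀ : Subgroup Y) : Set Y) := by
      rw [Subgroup.mem_normalizer_iff]
      intro x
      constructor
      · exact hconjP g hg' x
      · intro hx
        have h1 := hconjP g⁻¹ (by rw [map_inv]; exact Subgroup.inv_mem _ hg') _ hx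
        have e : g⁻¹ * (g * x * g⁻¹) * g⁻¹⁻¹ = x := by group
        rwa [e] at h1
    rw [← MonoidHom.map_closure]
    exact Subgroup.mem_map_of_mem π (hΓ hgN)
  · rintro _ ⟨γ, hγ, rfl⟩
    obtain ⟨hγN, R, hRP, hRC, hγK⟩ := hgood γ hγ
    rw [Sylow.coe_mapSurjective]
    refine ⟨Subgroup.le_normalizer_map π (Subgroup.mem_map_of_mem _ hγN), R.map π,
      Subgroup.map_mono hRP, ?_, ?_⟩
    · rintro x' ⟨j, hj⟩ hx'
      obtain ⟨x, rfl, i, hi⟩ := exists_pElement_lift p π hπ hZ x' j hj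
      refine Subgroup.mem_map_of_mem π (hRC x ⟨i, hi⟩ ?_)
      intro r hr
      obtain ⟨ζ, hζ⟩ : ∃ ζ, ζ = x * r * x⁻¹ * r⁻¹ := ⟨_, rfl⟩
      have hζk : ζ ∈ π.ker := by
        have h1 := hx' (π r) (Subgroup.mem_map_of_mem π hr)
        rw [MonoidHom.mem_ker, hζ, map_mul, map_mul, map_mul, map_inv, map_inv, h1]
        group
      obtain ⟨k, hk⟩ := hPp r (hRP hr)
      have hxr : x * r * x⁻¹ = ζ * r := by rw [hζ]; group
      have h2 : (x * r * x⁻¹) ^ (p ^ k) = 1 := by rw [conj_pow, hk, mul_one, mul_inv_cancel]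
      have hcomm : Commute ζ r := hcen ζ hζk r
      rw [hxr, hcomm.mul_pow, hk, mul_one] at h2
      have h3 := eq_one_of_pow_of_coprime p π.ker hZ ζ hζk _ h2
      rw [h3, one_mul] at hxr
      calc x * r = x * r * x⁻¹ * x := by group
        _ = r * x := by rw [hxr]
    · have h1 : π γ ∈ (Subgroup.closure {k : Y | k ∈ Subgroup.normalizer (R : Set Y) ∧
          ∃ j : ℕ, orderOf k = p ^ j}).map π := Subgroup.mem_map_of_mem π hγK
      rw [MonoidHom.map_closure] at h1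
      refine Subgroup.closure_mono ?_ h1
      rintro _ ⟨k, ⟨hkN, j, hj⟩, rfl⟩
      refine ⟨Subgroup.le_normalizer_map π (Subgroup.mem_map_of_mem _ hkN), ?_⟩
      apply orderOf_eq_prime_pow_of_pow_eq_one p _ j
      rw [← map_pow, ← hj, pow_orderOf_eq_one, map_one]

end Cfsg.Agent.H9L3
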