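import Mathlib
import Cfsg.Prelude
import Cfsg.Agent.Lib.Helper9.L3Fus1

set_option autoImplicit false

/-!
# Simplicity criterion: data given in an ambient group, for a central quotient
-/

namespace Cfsg.Agent.H9L3

open Cfsg Cfsg.FusionSystem Cfsg.Agent.Lib.Helper9 Cfsg.Agent.H9PF

/-- a `p`-subgroup containing every `p`-element of its normaliser is a Sylow `p`-subgroup -/
theorem exists_sylow_of_normalizer {Y : Type*} [Group Y] [Finite Y] (p : ℕ) [Fact p.Prime]
    (P : Subgroup Y) (hP : IsPGroup p P)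
    (hN : ∀ x : Y, x ∈ Subgroup.normalizer (P : Set Y) → (∃ j : ℕ, orderOf x = p ^ j) → x ∈ P) :
    ∃ P₀ : Sylow p Y, (P₀ : Subgroup Y) = P := by
  obtain ⟨Q, hPQ⟩ := hP.exists_le_sylow
  refine ⟨Q, ?_⟩
  by_contra hne
  have hlt : P.subgroupOf (Q : Subgroup Y) < ⊤ := by
    rw [lt_top_iff_ne_top]
    intro h
    apply hne
    apply le_antisymm _ hPQ
    exact Subgroup.subgroupOf_eq_top.mp h
  haveI : Group.IsNilpotent (Q : Subgroup Y) := Q.isPGroup'.isNilpotent
  have h1 := normalizerCondition_of_isNilpotent (G := (Q : Subgroup Y)) _ hlt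
  obtain ⟨x, hxN, hxP⟩ := SetLike.exists_of_lt h1
  apply hxP
  rw [Subgroup.mem_subgroupOf]
  apply hN
  · rw [Subgroup.mem_normalizer_iff] at hxN ⊢
    intro y
    constructor
    · intro hy
      have := (hxN ⟨y, hPQ hy⟩).mp (Subgroup.mem_subgroupOf.mpr hy)
      exact Subgroup.mem_subgroupOf.mp this
    · intro hy
      have hyQ : y ∈ (Q : Subgroup Y) := by
        have h2 := hPQ hy
        have e : y = (x : Y)⁻¹ * ((x : Y) * y * (x : Y)⁻¹) * (x : Y) := by group
        rw [e]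
        exact Subgroup.mul_mem _ (Subgroup.mul_mem _ (Subgroup.inv_mem _ x.2) h2) x.2
      have := (hxN ⟨y, hyQ⟩).mpr (Subgroup.mem_subgroupOf.mpr hy)
      exact Subgroup.mem_subgroupOf.mp this
  · obtain ⟨j, hj⟩ := (IsPGroup.iff_orderOf.mp Q.isPGroup') x
    exact ⟨j, by rw [← hj, Subgroup.orderOf_coe]⟩

variable {Y G X : Type*} [Group Y] [Finite Y] [Group G] [Finite G] [Group X]

theorem simple_of_data_amb (p : ℕ) [Fact p.Prime] (π : Y →* G) (hπ : Function.Surjective π)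
    (hker : π.ker ≤ Subgroup.center Y) (hZ : (Nat.card π.ker).Coprime p)
    (ι : Y →* X) (hι : Function.Injective ι) (A : Subgroup X) (hA : ι.range = A)
    (P : Subgroup X) (hPA : P ≤ A) (hPp : IsPGroup p P)
    (hPN : ∀ x ∈ A, x ∈ Subgroup.normalizer (P : Set X) → (∃ j : ℕ, orderOf x = p ^ j) → x ∈ P)
    (hP1 : P ≠ ⊥)
    (hsc : ∀ T : Subgroup X, T ≤ P → T ≠ ⊥ →
      (∀ t ∈ T, ∀ g ∈ A, g * t * g⁻¹ ∈ P → g * t * g⁻¹ ∈ T) → P ≤ T)
    (Γ : Set X)
    (hgen : ∀ g ∈ A, g ∈ Subgroup.normalizer (P : Set X) → g ∈ Subgroup.closure Γ)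
    (hgood : ∀ γ ∈ Γ, γ ∈ A ∧ γ ∈ Subgroup.normalizer (P : Set X) ∧
      ∃ R : Subgroup X, R ≤ P ∧
        (∀ x ∈ A, (∃ j : ℕ, orderOf x = p ^ j) → (∀ r ∈ R, x * r = r * x) → x ∈ R) ∧
        γ ∈ Subgroup.closure {k : X | k ∈ A ∧ k ∈ Subgroup.normalizer (R : Set X) ∧
          ∃ j : ℕ, orderOf k = p ^ j})
    (S : Sylow p G) :
    (groupFusionSystem (S : Subgroup G)).IsSimple p := by
  have hmemA : ∀ x : X, x ∈ A ↔ ∃ g : Y, ι g = x := by
    intro x; rw [← hA]; exact MonoidHom.mem_range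
  have hnorm : ∀ (R : Subgroup X) (g : Y), g ∈ Subgroup.normalizer ((R.comap ι : Subgroup Y) : Set Y) ↔
      (∀ x ∈ A, x ∈ R ↔ ι g * x * (ι g)⁻¹ ∈ R) := by
    intro R g
    rw [Subgroup.mem_normalizer_iff]
    constructor
    · intro h x hx
      obtain ⟨y, rfl⟩ := (hmemA x).mp hx
      have := h y
      rw [Subgroup.mem_comap, Subgroup.mem_comap] at this
      simpa using this
    · intro h y
      have := h (ι y) ((hmemA _).mpr ⟨y, rfl⟩)
      rw [Subgroup.mem_comap, Subgroup.mem_comap]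
      simpa using this
  have hnormR : ∀ (R : Subgroup X), R ≤ A → ∀ g : Y,
      g ∈ Subgroup.normalizer ((R.comap ι : Subgroup Y) : Set Y) ↔
      ι g ∈ Subgroup.normalizer (R : Set X) := by
    intro R hRA g
    rw [hnorm, Subgroup.mem_normalizer_iff]
    constructor
    · intro h x
      constructor
      · intro hx
        exact (h x (hRA hx)).mp hx
      · intro hx
        have hgA : ι g ∈ A := (hmemA _).mpr ⟨g, rfl⟩
        have hxA : x ∈ A := by
          have h1 := hRA hx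
          have : x = (ι g)⁻¹ * (ι g * x * (ι g)⁻¹) * ι g := by group
          rw [this]
          exact A.mul_mem (A.mul_mem (A.inv_mem hgA) h1) hgA
        exact (h x hxA).mpr hx
    · intro h x _
      exact h x
  have hPcomap : IsPGroup p (P.comap ι) := by
    intro x
    obtain ⟨k, hk⟩ := hPp ⟨ι x, x.2⟩
    refine ⟨k, ?_⟩
    apply Subtype.ext
    apply hι
    have := congrArg Subtype.val hk
    simpa using this
  obtain ⟨P₀, hP₀⟩ : ∃ P₀ : Sylow p Y, (P₀ : Subgroup Y) = P.comap ι := by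
    apply exists_sylow_of_normalizer p _ hPcomap
    intro x hxN hxo
    rw [Subgroup.mem_comap]
    apply hPN _ ((hmemA _).mpr ⟨x, rfl⟩) ((hnormR P hPA x).mp hxN)
    obtain ⟨j, hj⟩ := hxo
    exact ⟨j, by rw [← hj]; exact orderOf_injective ι hι x⟩
  have hmemP : ∀ g : Y, g ∈ (P₀ : Subgroup Y) ↔ ι g ∈ P := by
    intro g; rw [hP₀]; exact Subgroup.mem_comap
  -- closure transfer
  have hclos : ∀ (Δ : Set X), Δ ⊆ (A : Set X) → ∀ g : Y, ι g ∈ Subgroup.closure Δ →
      g ∈ Subgroup.closure (ι ⁻¹' Δ) := by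
    intro Δ hΔ g hg
    have h1 : (Subgroup.closure (ι ⁻¹' Δ)).map ι = Subgroup.closure Δ := by
      rw [MonoidHom.map_closure, Set.image_preimage_eq_of_subset]
      intro x hx
      obtain ⟨y, hy⟩ := (hmemA x).mp (hΔ hx)
      exact ⟨y, hy⟩
    rw [← h1] at hg
    obtain ⟨g', hg', hgg⟩ := hg
    rw [← hι hgg]; exact hg'
  refine simple_of_data_quot p π hπ hker hZ P₀ ?_ ?_ (ι ⁻¹' Γ) ?_ ?_ S
  · intro hb
    apply hP1
    rw [Subgroup.eq_bot_iff_forall] at hb ⊢
    intro x hx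
    obtain ⟨g, rfl⟩ := (hmemA x).mp (hPA hx)
    rw [hb g ((hmemP g).mpr hx), map_one]
  · intro T hT hTb hTc
    have h1 : P ≤ T.map ι := by
      apply hsc
      · rintro x ⟨t, ht, rfl⟩
        exact (hmemP t).mp (hT ht)
      · intro hb
        apply hTb
        rw [Subgroup.eq_bot_iff_forall] at hb ⊢
        intro t ht
        have := hb (ι t) ⟨t, ht, rfl⟩
        apply hι
        rw [this, map_one]
      · rintro x ⟨t, ht, rfl⟩ g hg hgP
        obtain ⟨g', rfl⟩ := (hmemA g).mp hg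
        refine ⟨g' * t * g'⁻¹, ?_, by simp⟩
        apply hTc t ht g'
        rw [hmemP]
        simpa using hgP
    intro g hg
    obtain ⟨t, ht, hgt⟩ := h1 ((hmemP g).mp hg)
    rw [← hι hgt]; exact ht
  · intro g hg
    apply hclos Γ (fun γ hγ => (hgood γ hγ).1)
    apply hgen _ ((hmemA _).mpr ⟨g, rfl⟩)
    rw [hP₀] at hg
    exact (hnormR P hPA g).mp hg
  · intro γ hγ
    obtain ⟨-, hγN, R, hRP, hRC, hγR⟩ := hgood (ι γ) hγ
    refine ⟨?_, R.comap ι, ?_, ?_, ?_⟩
    · rw [hP₀]; exact (hnormR P hPA γ).mpr hγN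
    · intro x hx
      rw [hmemP]; exact hRP hx
    · intro x hxo hx
      rw [Subgroup.mem_comap]
      apply hRC _ ((hmemA _).mpr ⟨x, rfl⟩)
      · obtain ⟨j, hj⟩ := hxo
        exact ⟨j, by rw [← hj]; exact orderOf_injective ι hι x⟩
      intro r hr
      obtain ⟨r', rfl⟩ := (hmemA r).mp (hPA (hRP hr))
      rw [← map_mul, ← map_mul, hx r' hr]
    · have h2 := hclos _ (fun k hk => hk.1) γ hγR
      refine Subgroup.closure_mono ?_ h2
      rintro k ⟨-, hkN, j, hj⟩
      refine ⟨(hnormR R (hRP.trans hPA) k).mpr hkN, j, ?_⟩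
      rw [← hj]; exact (orderOf_injective ι hι k).symm

end Cfsg.Agent.H9L3
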