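import Mathlib

set_option autoImplicit false

/-!
# The block embedding of `GL₂` into `SL₃` and centralisers of diagonal involutions
-/

namespace Cfsg.Agent.H9L3

open Matrix

variable {F : Type*} [Field F]

/-- the block matrix `diag(A, d)` -/
def blkMat (A : Matrix (Fin 2) (Fin 2) F) (d : F) : Matrix (Fin 3) (Fin 3) F :=
  !![A 0 0, A 0 1, 0; A 1 0, A 1 1, 0; 0, 0, d]

theorem blkMat_mul (A B : Matrix (Fin 2) (Fin 2) F) (d e : F) :
    blkMat A d * blkMat B e = blkMat (A * B) (d * e) := by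
  ext i j
  fin_cases i <;> fin_cases j <;>
    simp [blkMat, Matrix.mul_apply, Fin.sum_univ_three, Fin.sum_univ_two]

theorem det_blkMat (A : Matrix (Fin 2) (Fin 2) F) (d : F) :
    (blkMat A d).det = A.det * d := by
  simp [blkMat, Matrix.det_fin_three, Matrix.det_fin_two]
  ring

theorem blkMat_one : blkMat (1 : Matrix (Fin 2) (Fin 2) F) 1 = 1 := by
  ext i j
  fin_cases i <;> fin_cases j <;> simp [blkMat]

theorem blkMat_injective {A B : Matrix (Fin 2) (Fin 2) F} {d e : F}
    (h : blkMat A d = blkMat B e) : A = B ∧ d = e := by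
  have h00 := congrFun (congrFun h 0) 0
  have h01 := congrFun (congrFun h 0) 1
  have h10 := congrFun (congrFun h 1) 0
  have h11 := congrFun (congrFun h 1) 1
  have h22 := congrFun (congrFun h 2) 2
  simp [blkMat] at h00 h01 h10 h11 h22
  refine ⟨?_, h22⟩
  ext i j
  fin_cases i <;> fin_cases j <;> simp [h00, h01, h10, h11]

theorem gl_det_ne_zero (A : GL (Fin 2) F) : (A : Matrix (Fin 2) (Fin 2) F).det ≠ 0 := by
  rw [← Matrix.GeneralLinearGroup.val_det_apply]
  exact Units.ne_zero _

/-- the block embedding as a function -/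
noncomputable def blkFun (A : GL (Fin 2) F) : SpecialLinearGroup (Fin 3) F :=
  ⟨blkMat (A : Matrix (Fin 2) (Fin 2) F) ((A : Matrix (Fin 2) (Fin 2) F).det)⁻¹, by
    rw [det_blkMat, mul_inv_cancel₀ (gl_det_ne_zero A)]⟩

theorem blkFun_coe (A : GL (Fin 2) F) :
    (blkFun A : Matrix (Fin 3) (Fin 3) F) =
      blkMat (A : Matrix (Fin 2) (Fin 2) F) ((A : Matrix (Fin 2) (Fin 2) F).det)⁻¹ := rfl

/-- the block embedding `A ↦ diag(A, (det A)⁻¹)` of `GL₂` into `SL₃` -/
noncomputable def blk : GL (Fin 2) F →* SpecialLinearGroup (Fin 3) F where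
  toFun := blkFun
  map_one' := by
    apply Subtype.ext
    rw [blkFun_coe]
    simp [blkMat_one]
  map_mul' A B := by
    apply Subtype.ext
    rw [Matrix.SpecialLinearGroup.coe_mul, blkFun_coe, blkFun_coe, blkFun_coe,
      blkMat_mul, Matrix.GeneralLinearGroup.coe_mul, det_mul, mul_inv]

theorem blk_coe (A : GL (Fin 2) F) :
    (blk A : Matrix (Fin 3) (Fin 3) F) =
      blkMat (A : Matrix (Fin 2) (Fin 2) F) ((A : Matrix (Fin 2) (Fin 2) F).det)⁻¹ := rfl

theorem blk_injective : Function.Injective (blk : GL (Fin 2) F →* SpecialLinearGroup (Fin 3) F) := by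
  intro A B h
  have h1 := congrArg Subtype.val h
  rw [blk_coe, blk_coe] at h1
  have := (blkMat_injective h1).1
  exact Matrix.GeneralLinearGroup.ext (fun i j => by rw [this])

/-- a determinant-one matrix of block shape comes from `GL₂` -/
theorem exists_blk_of_coe (g : SpecialLinearGroup (Fin 3) F) (A : Matrix (Fin 2) (Fin 2) F) (d : F)
    (h : (g : Matrix (Fin 3) (Fin 3) F) = blkMat A d) :
    ∃ A' : GL (Fin 2) F, (A' : Matrix (Fin 2) (Fin 2) F) = A ∧ g = blk A' := by
  have hdet : A.det * d = 1 := by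
    rw [← det_blkMat, ← h]; exact g.2
  have hA : A.det ≠ 0 := left_ne_zero_of_mul_eq_one hdet
  refine ⟨Matrix.GeneralLinearGroup.mkOfDetNeZero A hA, rfl, ?_⟩
  apply Subtype.ext
  rw [blk_coe, h]
  have : d = A.det⁻¹ := eq_inv_of_mul_eq_one_right hdet
  rw [this]
  rfl

/-- the central involution `diag(-1,-1,1)` -/
noncomputable def zel : SpecialLinearGroup (Fin 3) F := blk (-1)

theorem zel_coe : ((zel : SpecialLinearGroup (Fin 3) F) : Matrix (Fin 3) (Fin 3) F) =
    !![-1, 0, 0; 0, -1, 0; 0, 0, 1] := by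
  unfold zel
  rw [blk_coe]
  ext i j
  fin_cases i <;> fin_cases j <;> simp [blkMat, Matrix.det_fin_two]

/-- the centraliser of `diag(-1,-1,1)` consists of block matrices -/
theorem exists_blk_of_commute (h2 : (2 : F) ≠ 0) (g : SpecialLinearGroup (Fin 3) F)
    (hg : g * zel = zel * g) : ∃ A : GL (Fin 2) F, g = blk A := by
  have h := congrArg Subtype.val hg
  simp only [Matrix.SpecialLinearGroup.coe_mul, zel_coe] at h
  obtain ⟨M, hM⟩ : ∃ M : Matrix (Fin 3) (Fin 3) F, M = (g : Matrix (Fin 3) (Fin 3) F) := ⟨_, rfl⟩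
  rw [← hM] at h
  have h02 := congrFun (congrFun h 0) 2
  have h12 := congrFun (congrFun h 1) 2
  have h20 := congrFun (congrFun h 2) 0
  have h21 := congrFun (congrFun h 2) 1
  simp [Matrix.mul_apply, Fin.sum_univ_three] at h02 h12 h20 h21
  have e02 : M 0 2 = 0 := by
    have : (2 : F) * M 0 2 = 0 := by linear_combination h02
    exact (mul_eq_zero.mp this).resolve_left h2
  have e12 : M 1 2 = 0 := by
    have : (2 : F) * M 1 2 = 0 := by linear_combination h12
    exact (mul_eq_zero.mp this).resolve_left h2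
  have e20 : M 2 0 = 0 := by
    have : (2 : F) * M 2 0 = 0 := by linear_combination -h20
    exact (mul_eq_zero.mp this).resolve_left h2
  have e21 : M 2 1 = 0 := by
    have : (2 : F) * M 2 1 = 0 := by linear_combination -h21
    exact (mul_eq_zero.mp this).resolve_left h2
  obtain ⟨A', -, hA'⟩ := exists_blk_of_coe g !![M 0 0, M 0 1; M 1 0, M 1 1] (M 2 2) (by
    rw [← hM]
    ext i j
    fin_cases i <;> fin_cases j <;> simp [blkMat, e02, e12, e20, e21])
  exact ⟨A', hA'⟩

end Cfsg.Agent.H9L3
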