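import Mathlib
import Cfsg.Agent.Lib.Helper9.L3Fus3

set_option autoImplicit false

/-!
# Extensions `C ∪ C t` and some elements of `GL₂`
-/

namespace Cfsg.Agent.H9L3

open Matrix

section ext

variable {G : Type*} [Group G]

/-- the subgroup `C ∪ C t` for `t` normalising `C` with `t² ∈ C` -/
def extTwo (C : Subgroup G) (t : G) (ht : t * t ∈ C)
    (hn : t ∈ Subgroup.normalizer (C : Set G)) : Subgroup G where
  carrier := {g | g ∈ C ∨ g * t⁻¹ ∈ C}
  one_mem' := Or.inl C.one_mem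
  mul_mem' := by
    rintro a b (ha | ha) (hb | hb)
    · exact Or.inl (C.mul_mem ha hb)
    · right
      have : a * b * t⁻¹ = a * (b * t⁻¹) := by group
      rw [this]; exact C.mul_mem ha hb
    · right
      have : a * b * t⁻¹ = (a * t⁻¹) * (t * b * t⁻¹) := by group
      rw [this]
      exact C.mul_mem ha ((Subgroup.mem_normalizer_iff.mp hn b).mp hb)
    · left
      have : a * b = (a * t⁻¹) * (t * (b * t⁻¹) * t⁻¹) * (t * t) := by group
      rw [this]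
      exact C.mul_mem (C.mul_mem ha ((Subgroup.mem_normalizer_iff.mp hn _).mp hb)) ht
  inv_mem' := by
    rintro a (ha | ha)
    · exact Or.inl (C.inv_mem ha)
    · right
      have h1 : t * (a * t⁻¹)⁻¹ * t⁻¹ ∈ C :=
        (Subgroup.mem_normalizer_iff.mp hn _).mp (C.inv_mem ha)
      have h2 : (t * t)⁻¹ * (t * (a * t⁻¹)⁻¹ * t⁻¹) ∈ C := C.mul_mem (C.inv_mem ht) h1
      have : a⁻¹ * t⁻¹ = (t * t)⁻¹ * (t * (a * t⁻¹)⁻¹ * t⁻¹) := by group
      rw [this]; exact h2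

theorem mem_extTwo {C : Subgroup G} {t : G} {ht : t * t ∈ C}
    {hn : t ∈ Subgroup.normalizer (C : Set G)} {g : G} :
    g ∈ extTwo C t ht hn ↔ g ∈ C ∨ ∃ a ∈ C, g = a * t := by
  constructor
  · rintro (h | h)
    · exact Or.inl h
    · exact Or.inr ⟨g * t⁻¹, h, by group⟩
  · rintro (h | ⟨a, ha, rfl⟩)
    · exact Or.inl h
    · right
      have : a * t * t⁻¹ = a := by group
      rw [this]; exact ha

theorem le_extTwo {C : Subgroup G} {t : G} {ht : t * t ∈ C}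
    {hn : t ∈ Subgroup.normalizer (C : Set G)} : C ≤ extTwo C t ht hn :=
  fun _ h => Or.inl h

theorem self_mem_extTwo {C : Subgroup G} {t : G} {ht : t * t ∈ C}
    {hn : t ∈ Subgroup.normalizer (C : Set G)} : t ∈ extTwo C t ht hn :=
  mem_extTwo.mpr (Or.inr ⟨1, C.one_mem, by group⟩)

end ext

variable {F : Type*} [Field F]

/-- diagonal elements of `GL₂` -/
noncomputable def dgl (x y : Fˣ) : GL (Fin 2) F :=
  Matrix.GeneralLinearGroup.mkOfDetNeZero !![(x : F), 0; 0, (y : F)] (by simp [Matrix.det_fin_two])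

theorem dgl_coe (x y : Fˣ) : (dgl x y : Matrix (Fin 2) (Fin 2) F) = !![(x : F), 0; 0, (y : F)] := rfl

theorem dgl_mul (x y x' y' : Fˣ) : dgl x y * dgl x' y' = dgl (x * x') (y * y') := by
  apply Matrix.GeneralLinearGroup.ext
  intro i j
  rw [Matrix.GeneralLinearGroup.coe_mul, dgl_coe, dgl_coe, dgl_coe]
  fin_cases i <;> fin_cases j <;> simp

theorem dgl_one : dgl (1 : Fˣ) 1 = 1 := by
  apply Matrix.GeneralLinearGroup.ext
  intro i j
  rw [dgl_coe]
  fin_cases i <;> fin_cases j <;> simp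

/-- the diagonal embedding as a homomorphism -/
noncomputable def dglHom : Fˣ × Fˣ →* GL (Fin 2) F where
  toFun v := dgl v.1 v.2
  map_one' := dgl_one
  map_mul' v w := (dgl_mul v.1 v.2 w.1 w.2).symm

theorem dglHom_apply (v : Fˣ × Fˣ) : dglHom v = dgl v.1 v.2 := rfl

theorem dgl_inv (x y : Fˣ) : (dgl x y)⁻¹ = dgl x⁻¹ y⁻¹ := by
  apply inv_eq_of_mul_eq_one_right
  rw [dgl_mul, mul_inv_cancel, mul_inv_cancel, dgl_one]

theorem dgl_injective {x y x' y' : Fˣ} (h : dgl x y = dgl x' y') : x = x' ∧ y = y' := by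
  have h1 := congrArg (fun g : GL (Fin 2) F => (g : Matrix (Fin 2) (Fin 2) F)) h
  simp only [dgl_coe] at h1
  have h00 := congrFun (congrFun h1 0) 0
  have h11 := congrFun (congrFun h1 1) 1
  simp at h00 h11
  exact ⟨Units.ext h00, Units.ext h11⟩

/-- the swap -/
noncomputable def sw : GL (Fin 2) F :=
  Matrix.GeneralLinearGroup.mkOfDetNeZero !![0, 1; 1, 0] (by simp [Matrix.det_fin_two])

theorem sw_coe : ((sw : GL (Fin 2) F) : Matrix (Fin 2) (Fin 2) F) = !![0, 1; 1, 0] := rfl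

theorem sw_mul_sw : (sw : GL (Fin 2) F) * sw = 1 := by
  apply Matrix.GeneralLinearGroup.ext
  intro i j
  rw [Matrix.GeneralLinearGroup.coe_mul, sw_coe]
  fin_cases i <;> fin_cases j <;> simp

theorem sw_inv : (sw : GL (Fin 2) F)⁻¹ = sw := inv_eq_of_mul_eq_one_right sw_mul_sw

theorem sw_mul_dgl (x y : Fˣ) : sw * dgl x y = dgl y x * sw := by
  apply Matrix.GeneralLinearGroup.ext
  intro i j
  rw [Matrix.GeneralLinearGroup.coe_mul, Matrix.GeneralLinearGroup.coe_mul, sw_coe, dgl_coe, dgl_coe]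
  fin_cases i <;> fin_cases j <;> simp

/-- the diagonal subgroup with entries in `μ` -/
noncomputable def Bgl (μ : Subgroup Fˣ) : Subgroup (GL (Fin 2) F) := (μ.prod μ).map dglHom

theorem mem_Bgl {μ : Subgroup Fˣ} {g : GL (Fin 2) F} :
    g ∈ Bgl μ ↔ ∃ x ∈ μ, ∃ y ∈ μ, g = dgl x y := by
  constructor
  · rintro ⟨⟨x, y⟩, hxy, rfl⟩
    obtain ⟨hx, hy⟩ := Subgroup.mem_prod.mp hxy
    exact ⟨x, hx, y, hy, rfl⟩
  · rintro ⟨x, hx, y, hy, rfl⟩
    exact ⟨⟨x, y⟩, Subgroup.mem_prod.mpr ⟨hx, hy⟩, rfl⟩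

theorem sw_mem_normalizer_Bgl (μ : Subgroup Fˣ) :
    (sw : GL (Fin 2) F) ∈ Subgroup.normalizer ((Bgl μ : Subgroup (GL (Fin 2) F)) : Set _) := by
  rw [Subgroup.mem_normalizer_iff]
  intro g
  constructor
  · intro hg
    obtain ⟨x, hx, y, hy, rfl⟩ := mem_Bgl.mp hg
    rw [sw_mul_dgl, mul_assoc, sw_inv, sw_mul_sw, mul_one]
    exact mem_Bgl.mpr ⟨y, hy, x, hx, rfl⟩
  · intro hg
    obtain ⟨x, hx, y, hy, h⟩ := mem_Bgl.mp hg
    have : g = sw * dgl x y * sw := by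
      rw [← h, sw_inv]
      have e : sw * (sw * g * sw) * sw = (sw * sw) * g * (sw * sw) := by group
      rw [e, sw_mul_sw, one_mul, mul_one]
    rw [this, sw_mul_dgl, mul_assoc, sw_mul_sw, mul_one]
    exact mem_Bgl.mpr ⟨y, hy, x, hx, rfl⟩

/-- the monomial group with entries in `μ` -/
noncomputable def Mwr (μ : Subgroup Fˣ) : Subgroup (GL (Fin 2) F) :=
  extTwo (Bgl μ) sw (by rw [sw_mul_sw]; exact Subgroup.one_mem _) (sw_mem_normalizer_Bgl μ)

theorem mem_Mwr {μ : Subgroup Fˣ} {g : GL (Fin 2) F} :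
    g ∈ Mwr μ ↔ ∃ x ∈ μ, ∃ y ∈ μ, g = dgl x y ∨ g = dgl x y * sw := by
  unfold Mwr
  rw [mem_extTwo]
  constructor
  · rintro (h | ⟨a, ha, rfl⟩)
    · obtain ⟨x, hx, y, hy, rfl⟩ := mem_Bgl.mp h
      exact ⟨x, hx, y, hy, Or.inl rfl⟩
    · obtain ⟨x, hx, y, hy, rfl⟩ := mem_Bgl.mp ha
      exact ⟨x, hx, y, hy, Or.inr rfl⟩
  · rintro ⟨x, hx, y, hy, rfl | rfl⟩
    · exact Or.inl (mem_Bgl.mpr ⟨x, hx, y, hy, rfl⟩)
    · exact Or.inr ⟨dgl x y, mem_Bgl.mpr ⟨x, hx, y, hy, rfl⟩, rfl⟩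

/-- scalar elements of `GL₂` -/
noncomputable def scl (x : Fˣ) : GL (Fin 2) F := dgl x x

end Cfsg.Agent.H9L3
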