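import Mathlib
import Cfsg.Agent.Lib.Helper9.L3Fus4

set_option autoImplicit false

/-!
# The normaliser in `GL₂` of the monomial `2`-group
-/

namespace Cfsg.Agent.H9L3

open Matrix

variable {F : Type*} [Field F]

theorem gl_entries (A : GL (Fin 2) F) : ∃ p q r s : F,
    (A : Matrix (Fin 2) (Fin 2) F) = !![p, q; r, s] ∧ p * s - q * r ≠ 0 := by
  refine ⟨(A : Matrix (Fin 2) (Fin 2) F) 0 0, (A : Matrix (Fin 2) (Fin 2) F) 0 1,
    (A : Matrix (Fin 2) (Fin 2) F) 1 0, (A : Matrix (Fin 2) (Fin 2) F) 1 1,
    Matrix.eta_fin_two _, ?_⟩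
  have := gl_det_ne_zero A
  rwa [Matrix.det_fin_two] at this

theorem normalizer_Mwr (h2 : (2 : F) ≠ 0) (μ : Subgroup Fˣ) (i : Fˣ) (hi : i ∈ μ)
    (hi2 : (i : F) ^ 2 = -1) (A : GL (Fin 2) F)
    (hA : ∀ m ∈ Mwr μ, ∃ m' ∈ Mwr μ, A * m = m' * A) :
    ∃ l : Fˣ, ∃ m ∈ Mwr μ, A = scl l * m := by
  obtain ⟨p, q, r, s, hAm, hdet⟩ := gl_entries A
  have hi1 : (i : F) ≠ 1 := by
    intro h
    rw [h, one_pow] at hi2
    apply h2
    linear_combination hi2
  have hi0 : (i : F) ≠ 0 := i.ne_zero
  -- first step: `A` is monomial
  have hmono : (q = 0 ∧ r = 0) ∨ (p = 0 ∧ s = 0) := by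
    obtain ⟨m', hm', h⟩ := hA (dgl 1 i) (mem_Mwr.mpr ⟨1, μ.one_mem, i, hi, Or.inl rfl⟩)
    obtain ⟨x, -, y, -, rfl | rfl⟩ := mem_Mwr.mp hm'
    · have h1 := congrArg (fun g : GL (Fin 2) F => (g : Matrix (Fin 2) (Fin 2) F)) h
      simp only [Matrix.GeneralLinearGroup.coe_mul, dgl_coe, hAm] at h1
      have h00 := congrFun (congrFun h1 0) 0
      have h01 := congrFun (congrFun h1 0) 1
      have h10 := congrFun (congrFun h1 1) 0
      have h11 := congrFun (congrFun h1 1) 1
      simp [Matrix.mul_apply, Fin.sum_univ_two] at h00 h01 h10 h11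
      by_cases hp : p = 0
      · right
        refine ⟨hp, ?_⟩
        rw [hp] at hdet
        have hq : q ≠ 0 := by
          intro hq; apply hdet; rw [hq]; ring
        have hr : r ≠ 0 := by
          intro hr; apply hdet; rw [hr]; ring
        have hx : (x : F) = i := by
          have : q * ((i : F) - x) = 0 := by linear_combination h01
          rcases mul_eq_zero.mp this with h | h
          · exact absurd h hq
          · exact (sub_eq_zero.mp h).symm
        have hy : (y : F) = 1 := by
          have : r * (1 - (y : F)) = 0 := by linear_combination h10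
          rcases mul_eq_zero.mp this with h | h
          · exact absurd h hr
          · exact (sub_eq_zero.mp h).symm
        rw [hy] at h11
        have : s * ((i : F) - 1) = 0 := by linear_combination h11
        rcases mul_eq_zero.mp this with h | h
        · exact h
        · exact absurd (sub_eq_zero.mp h) hi1
      · left
        have hx : (x : F) = 1 := by
          have : p * (1 - (x : F)) = 0 := by linear_combination h00
          rcases mul_eq_zero.mp this with h | h
          · exact absurd h hp
          · exact (sub_eq_zero.mp h).symm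
        rw [hx] at h01
        have hq : q = 0 := by
          have : q * ((i : F) - 1) = 0 := by linear_combination h01
          rcases mul_eq_zero.mp this with h | h
          · exact h
          · exact absurd (sub_eq_zero.mp h) hi1
        refine ⟨hq, ?_⟩
        rw [hq] at hdet
        have hs : s ≠ 0 := by
          intro hs; apply hdet; rw [hs]; ring
        have hy : (y : F) = i := by
          have : s * ((i : F) - y) = 0 := by linear_combination h11
          rcases mul_eq_zero.mp this with h | h
          · exact absurd h hs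
          · exact (sub_eq_zero.mp h).symm
        rw [hy] at h10
        have : r * (1 - (i : F)) = 0 := by linear_combination h10
        rcases mul_eq_zero.mp this with h | h
        · exact h
        · exact absurd (sub_eq_zero.mp h).symm hi1
    · exfalso
      have h1 := congrArg (fun g : GL (Fin 2) F => (g : Matrix (Fin 2) (Fin 2) F)) h
      simp only [Matrix.GeneralLinearGroup.coe_mul, dgl_coe, sw_coe, hAm] at h1
      have h00 := congrFun (congrFun h1 0) 0
      have h01 := congrFun (congrFun h1 0) 1
      have h10 := congrFun (congrFun h1 1) 0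
      have h11 := congrFun (congrFun h1 1) 1
      simp [Matrix.mul_apply, Fin.sum_univ_two] at h00 h01 h10 h11
      obtain ⟨c, hc⟩ : ∃ c : F, c = x * y := ⟨_, rfl⟩
      have e1 : p * (1 - c) = 0 := by rw [hc]; linear_combination h00 + (x : F) * h10
      have e2 : r * (1 - c) = 0 := by rw [hc]; linear_combination h10 + (y : F) * h00
      have e3 : q * (1 + c) = 0 := by
        rw [hc]; linear_combination (-(x : F)) * h11 - (i : F) * h01 + q * hi2
      have e4 : s * (1 + c) = 0 := by
        rw [hc]; linear_combination (-(y : F)) * h01 - (i : F) * h11 + s * hi2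
      by_cases hc1 : c = 1
      · rw [hc1] at e3 e4
        have hq : q = 0 := by
          have : (2 : F) * q = 0 := by linear_combination e3
          exact (mul_eq_zero.mp this).resolve_left h2
        have hs : s = 0 := by
          have : (2 : F) * s = 0 := by linear_combination e4
          exact (mul_eq_zero.mp this).resolve_left h2
        apply hdet; rw [hq, hs]; ring
      · have hc' : 1 - c ≠ 0 := fun h => hc1 (sub_eq_zero.mp h).symm
        have hp : p = 0 := (mul_eq_zero.mp e1).resolve_right hc'
        have hr : r = 0 := (mul_eq_zero.mp e2).resolve_right hc'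
        apply hdet; rw [hp, hr]; ring
  -- second step
  obtain ⟨m', hm', h⟩ := hA sw (mem_Mwr.mpr ⟨1, μ.one_mem, 1, μ.one_mem, Or.inr (by
    rw [dgl_one, one_mul])⟩)
  have h1 := congrArg (fun g : GL (Fin 2) F => (g : Matrix (Fin 2) (Fin 2) F)) h
  rcases hmono with ⟨hq, hr⟩ | ⟨hp, hs⟩
  · rw [hq, hr] at hdet hAm
    have hp : p ≠ 0 := by
      intro hp; apply hdet; rw [hp]; ring
    have hs : s ≠ 0 := by
      intro hs; apply hdet; rw [hs]; ring
    obtain ⟨x, hx, y, hy, rfl | rfl⟩ := mem_Mwr.mp hm'
    · exfalso
      simp only [Matrix.GeneralLinearGroup.coe_mul, dgl_coe, sw_coe, hAm] at h1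
      have h01 := congrFun (congrFun h1 0) 1
      simp [Matrix.mul_apply, Fin.sum_univ_two] at h01
      exact hp h01
    · simp only [Matrix.GeneralLinearGroup.coe_mul, dgl_coe, sw_coe, hAm] at h1
      have h01 := congrFun (congrFun h1 0) 1
      simp [Matrix.mul_apply, Fin.sum_univ_two] at h01
      refine ⟨Units.mk0 s hs, dgl x 1, mem_Mwr.mpr ⟨x, hx, 1, μ.one_mem, Or.inl rfl⟩, ?_⟩
      apply Matrix.GeneralLinearGroup.ext
      intro a b
      unfold scl
      rw [dgl_mul, dgl_coe, hAm]
      fin_cases a <;> fin_cases b <;> simp [h01, mul_comm]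
  · rw [hp, hs] at hdet hAm
    have hq : q ≠ 0 := by
      intro hq; apply hdet; rw [hq]; ring
    have hr : r ≠ 0 := by
      intro hr; apply hdet; rw [hr]; ring
    obtain ⟨x, hx, y, hy, rfl | rfl⟩ := mem_Mwr.mp hm'
    · exfalso
      simp only [Matrix.GeneralLinearGroup.coe_mul, dgl_coe, sw_coe, hAm] at h1
      have h00 := congrFun (congrFun h1 0) 0
      simp [Matrix.mul_apply, Fin.sum_univ_two] at h00
      exact hq h00
    · simp only [Matrix.GeneralLinearGroup.coe_mul, dgl_coe, sw_coe, hAm] at h1
      have h00 := congrFun (congrFun h1 0) 0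
      simp [Matrix.mul_apply, Fin.sum_univ_two] at h00
      refine ⟨Units.mk0 r hr, dgl x 1 * sw, mem_Mwr.mpr ⟨x, hx, 1, μ.one_mem, Or.inr rfl⟩, ?_⟩
      apply Matrix.GeneralLinearGroup.ext
      intro a b
      unfold scl
      rw [← mul_assoc, dgl_mul, Matrix.GeneralLinearGroup.coe_mul, dgl_coe, sw_coe, hAm]
      fin_cases a <;> fin_cases b <;> simp [h00, mul_comm]

end Cfsg.Agent.H9L3
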