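import Mathlib
import Cfsg.Agent.Lib.Helper9.L3Fus5

set_option autoImplicit false

/-!
# Normalisers in `SL₃` of block subgroups
-/

namespace Cfsg.Agent.H9L3

open Matrix

variable {F : Type*} [Field F]

theorem neg_one_ne_one_gl (h2 : (2 : F) ≠ 0) : (-1 : GL (Fin 2) F) ≠ 1 := by
  intro h
  have h1 := congrArg (fun g : GL (Fin 2) F => (g : Matrix (Fin 2) (Fin 2) F) 0 0) h
  simp at h1
  apply h2
  linear_combination -h1

/-- the normaliser in `SL₃` of the image of a subgroup of `GL₂` whose only central involution is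
`-1` -/
theorem normalizer_map_blk (h2 : (2 : F) ≠ 0) (M : Subgroup (GL (Fin 2) F)) (hneg : -1 ∈ M)
    (hcen : ∀ m ∈ M, (∀ m' ∈ M, m * m' = m' * m) → m * m = 1 → m = 1 ∨ m = -1)
    (g : SpecialLinearGroup (Fin 3) F)
    (hg : g ∈ Subgroup.normalizer ((M.map blk : Subgroup (SpecialLinearGroup (Fin 3) F)) : Set _)) :
    ∃ A : GL (Fin 2) F, g = blk A ∧ ∀ m ∈ M, ∃ m' ∈ M, A * m = m' * A := by
  rw [Subgroup.mem_normalizer_iff] at hg
  have hz : (zel : SpecialLinearGroup (Fin 3) F) ∈ M.map blk := Subgroup.mem_map_of_mem _ hneg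
  obtain ⟨m, hm, hmz⟩ := (hg zel).mp hz
  have hm2 : m * m = 1 := by
    apply blk_injective
    rw [map_mul, hmz, map_one]
    have : (zel : SpecialLinearGroup (Fin 3) F) * zel = 1 := by
      unfold zel
      rw [← map_mul, neg_mul_neg, one_mul, map_one]
    calc g * zel * g⁻¹ * (g * zel * g⁻¹) = g * (zel * zel) * g⁻¹ := by group
      _ = 1 := by rw [this]; group
  have hmc : ∀ m' ∈ M, m * m' = m' * m := by
    intro m' hm'
    apply blk_injective
    rw [map_mul, map_mul, hmz]
    have h1 : g⁻¹ * blk m' * g ∈ M.map blk := by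
      rw [hg]
      have e : g * (g⁻¹ * blk m' * g) * g⁻¹ = blk m' := by group
      rw [e]; exact Subgroup.mem_map_of_mem _ hm'
    obtain ⟨x, hx, hxe⟩ := h1
    have h3 : (zel : SpecialLinearGroup (Fin 3) F) * blk x = blk x * zel := by
      unfold zel
      rw [← map_mul, ← map_mul]
      congr 1
      rw [neg_mul, one_mul, mul_neg, mul_one]
    have e : blk m' = g * blk x * g⁻¹ := by rw [hxe]; group
    rw [e]
    calc g * zel * g⁻¹ * (g * blk x * g⁻¹) = g * (zel * blk x) * g⁻¹ := by group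
      _ = g * (blk x * zel) * g⁻¹ := by rw [h3]
      _ = g * blk x * g⁻¹ * (g * zel * g⁻¹) := by group
  have hmne : m ≠ 1 := by
    intro h
    rw [h, map_one] at hmz
    have h3 : (zel : SpecialLinearGroup (Fin 3) F) = 1 := by
      calc zel = g⁻¹ * (g * zel * g⁻¹) * g := by group
        _ = 1 := by rw [← hmz]; group
    unfold zel at h3
    rw [← map_one blk] at h3
    exact neg_one_ne_one_gl h2 (blk_injective h3)
  have hm1 : m = -1 := (hcen m hm hmc hm2).resolve_left hmne
  have hcomm : g * zel = zel * g := by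
    have h3 : (zel : SpecialLinearGroup (Fin 3) F) = g * zel * g⁻¹ := by
      rw [← hmz, hm1]; rfl
    calc g * zel = g * zel * g⁻¹ * g := by group
      _ = zel * g := by rw [← h3]
  obtain ⟨A, rfl⟩ := exists_blk_of_commute h2 g hcomm
  refine ⟨A, rfl, ?_⟩
  intro m₁ hm₁
  obtain ⟨m', hm', hme⟩ := (hg (blk m₁)).mp (Subgroup.mem_map_of_mem _ hm₁)
  refine ⟨m', hm', ?_⟩
  apply blk_injective
  rw [map_mul, map_mul, hme]
  group

end Cfsg.Agent.H9L3
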