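import Mathlib
import Cfsg.Agent.Lib.Helper9.L3Fus6

set_option autoImplicit false

/-!
# Diagonal and permutation elements of `SL₃`
-/

namespace Cfsg.Agent.H9L3

open Matrix

variable {F : Type*} [Field F]

/-- diagonal elements of `SL₃` -/
noncomputable def dg (x y : Fˣ) : SpecialLinearGroup (Fin 3) F := blk (dgl x y)

theorem dg_coe (x y : Fˣ) : (dg x y : Matrix (Fin 3) (Fin 3) F) =
    !![(x : F), 0, 0; 0, (y : F), 0; 0, 0, ((x : F) * y)⁻¹] := by
  unfold dg
  rw [blk_coe, dgl_coe]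
  ext i j
  fin_cases i <;> fin_cases j <;> simp [blkMat, Matrix.det_fin_two]

theorem dg_mul (x y x' y' : Fˣ) : dg x y * dg x' y' = dg (x * x') (y * y') := by
  unfold dg
  rw [← map_mul, dgl_mul]

theorem dg_one : dg (1 : Fˣ) 1 = 1 := by
  unfold dg
  rw [dgl_one, map_one]

theorem dg_inv (x y : Fˣ) : (dg x y)⁻¹ = dg x⁻¹ y⁻¹ := by
  unfold dg
  rw [← map_inv, dgl_inv]

theorem dg_injective {x y x' y' : Fˣ} (h : dg x y = dg x' y') : x = x' ∧ y = y' :=
  dgl_injective (blk_injective h)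

/-- the signed transposition `(1 2)` -/
noncomputable def w12 : SpecialLinearGroup (Fin 3) F := blk sw

theorem w12_mul_w12 : (w12 : SpecialLinearGroup (Fin 3) F) * w12 = 1 := by
  unfold w12
  rw [← map_mul, sw_mul_sw, map_one]

theorem w12_inv : (w12 : SpecialLinearGroup (Fin 3) F)⁻¹ = w12 :=
  inv_eq_of_mul_eq_one_right w12_mul_w12

theorem w12_mul_dg (x y : Fˣ) : w12 * dg x y = dg y x * w12 := by
  unfold w12 dg
  rw [← map_mul, ← map_mul, sw_mul_dgl]

/-- the signed transposition `(2 3)` -/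
def w23 : SpecialLinearGroup (Fin 3) F :=
  ⟨!![-1, 0, 0; 0, 0, 1; 0, 1, 0], by simp [Matrix.det_fin_three]⟩

theorem w23_coe : ((w23 : SpecialLinearGroup (Fin 3) F) : Matrix (Fin 3) (Fin 3) F) =
    !![-1, 0, 0; 0, 0, 1; 0, 1, 0] := rfl

theorem w23_mul_w23 : (w23 : SpecialLinearGroup (Fin 3) F) * w23 = 1 := by
  apply Subtype.ext
  rw [Matrix.SpecialLinearGroup.coe_mul, w23_coe]
  ext i j
  fin_cases i <;> fin_cases j <;> simp [Matrix.mul_apply, Fin.sum_univ_three]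

theorem w23_inv : (w23 : SpecialLinearGroup (Fin 3) F)⁻¹ = w23 :=
  inv_eq_of_mul_eq_one_right w23_mul_w23

theorem w23_mul_dg (x y : Fˣ) : w23 * dg x y = dg x (x * y)⁻¹ * w23 := by
  apply Subtype.ext
  rw [Matrix.SpecialLinearGroup.coe_mul, Matrix.SpecialLinearGroup.coe_mul, w23_coe, dg_coe, dg_coe]
  have hx : (x : F) ≠ 0 := x.ne_zero
  have hy : (y : F) ≠ 0 := y.ne_zero
  ext i j
  fin_cases i <;> fin_cases j <;> simp [Matrix.mul_apply, Fin.sum_univ_three]
  field_simp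

theorem orderOf_w12 : orderOf (w12 : SpecialLinearGroup (Fin 3) F) = 2 := by
  apply orderOf_eq_prime
  · rw [pow_two, w12_mul_w12]
  · intro h
    have h1 := congrArg (fun g : SpecialLinearGroup (Fin 3) F =>
      (g : Matrix (Fin 3) (Fin 3) F) 0 0) h
    unfold w12 at h1
    simp [blk_coe, blkMat, sw_coe] at h1

theorem orderOf_w23 : orderOf (w23 : SpecialLinearGroup (Fin 3) F) = 2 := by
  apply orderOf_eq_prime
  · rw [pow_two, w23_mul_w23]
  · intro h
    have h1 := congrArg (fun g : SpecialLinearGroup (Fin 3) F =>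
      (g : Matrix (Fin 3) (Fin 3) F) 1 1) h
    simp [w23_coe] at h1

/-- an element commuting with `diag(-1,-1,1)` and `diag(-1,1,-1)` is diagonal -/
theorem exists_dg_of_commute (h2 : (2 : F) ≠ 0) (g : SpecialLinearGroup (Fin 3) F)
    (h1 : g * zel = zel * g) (h3 : g * dg (-1) 1 = dg (-1) 1 * g) : ∃ x y : Fˣ, g = dg x y := by
  obtain ⟨A, rfl⟩ := exists_blk_of_commute h2 g h1
  unfold dg at h3
  rw [← map_mul, ← map_mul] at h3
  have h4 := blk_injective h3
  obtain ⟨p, q, r, s, hAm, hdet⟩ := gl_entries A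
  have h5 := congrArg (fun g : GL (Fin 2) F => (g : Matrix (Fin 2) (Fin 2) F)) h4
  simp only [Matrix.GeneralLinearGroup.coe_mul, dgl_coe, hAm] at h5
  have h01 := congrFun (congrFun h5 0) 1
  have h10 := congrFun (congrFun h5 1) 0
  simp [Matrix.mul_apply, Fin.sum_univ_two] at h01 h10
  have hq : q = 0 := by
    have : (2 : F) * q = 0 := by linear_combination h01
    exact (mul_eq_zero.mp this).resolve_left h2
  have hr : r = 0 := by
    have : (2 : F) * r = 0 := by linear_combination -h10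
    exact (mul_eq_zero.mp this).resolve_left h2
  rw [hq, hr] at hdet hAm
  have hp : p ≠ 0 := by
    intro hp; apply hdet; rw [hp]; ring
  have hs : s ≠ 0 := by
    intro hs; apply hdet; rw [hs]; ring
  refine ⟨Units.mk0 p hp, Units.mk0 s hs, ?_⟩
  unfold dg
  congr 1
  apply Matrix.GeneralLinearGroup.ext
  intro a b
  rw [hAm, dgl_coe]
  rfl

theorem zel_eq_dg : (zel : SpecialLinearGroup (Fin 3) F) = dg (-1) (-1) := by
  unfold zel dg
  congr 1
  apply Matrix.GeneralLinearGroup.ext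
  intro a b
  rw [dgl_coe]
  fin_cases a <;> fin_cases b <;> simp

/-- the diagonal subgroup of `SL₃` with entries in `μ` -/
noncomputable def Bsl (μ : Subgroup Fˣ) : Subgroup (SpecialLinearGroup (Fin 3) F) :=
  (Bgl μ).map blk

theorem mem_Bsl {μ : Subgroup Fˣ} {g : SpecialLinearGroup (Fin 3) F} :
    g ∈ Bsl μ ↔ ∃ x ∈ μ, ∃ y ∈ μ, g = dg x y := by
  constructor
  · rintro ⟨m, hm, rfl⟩
    obtain ⟨x, hx, y, hy, rfl⟩ := mem_Bgl.mp hm
    exact ⟨x, hx, y, hy, rfl⟩
  · rintro ⟨x, hx, y, hy, rfl⟩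
    exact ⟨dgl x y, mem_Bgl.mpr ⟨x, hx, y, hy, rfl⟩, rfl⟩

theorem w12_mem_normalizer_Bsl (μ : Subgroup Fˣ) :
    (w12 : SpecialLinearGroup (Fin 3) F) ∈ Subgroup.normalizer ((Bsl μ : Subgroup _) : Set _) :=
  Subgroup.le_normalizer_map blk (Subgroup.mem_map_of_mem _ (sw_mem_normalizer_Bgl μ))

theorem w23_mem_normalizer_Bsl (μ : Subgroup Fˣ) :
    (w23 : SpecialLinearGroup (Fin 3) F) ∈ Subgroup.normalizer ((Bsl μ : Subgroup _) : Set _) := by
  rw [Subgroup.mem_normalizer_iff]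
  intro g
  constructor
  · intro hg
    obtain ⟨x, hx, y, hy, rfl⟩ := mem_Bsl.mp hg
    rw [w23_mul_dg, mul_assoc, w23_inv, w23_mul_w23, mul_one]
    exact mem_Bsl.mpr ⟨x, hx, _, μ.inv_mem (μ.mul_mem hx hy), rfl⟩
  · intro hg
    obtain ⟨x, hx, y, hy, h⟩ := mem_Bsl.mp hg
    have : g = w23 * dg x y * w23 := by
      rw [← h, w23_inv]
      have e : w23 * (w23 * g * w23) * w23 = (w23 * w23) * g * (w23 * w23) := by group
      rw [e, w23_mul_w23, one_mul, mul_one]
    rw [this, w23_mul_dg, mul_assoc, w23_mul_w23, mul_one]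
    exact mem_Bsl.mpr ⟨x, hx, _, μ.inv_mem (μ.mul_mem hx hy), rfl⟩

end Cfsg.Agent.H9L3
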