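import Mathlib
import Cfsg.Prelude
import Cfsg.Agent.Lib.Helper9.L3Fus2
import Cfsg.Agent.Lib.Helper9.L3Fus7

set_option autoImplicit false

/-!
# Assembling the simplicity criterion for block subgroups of `SL₃`
-/

namespace Cfsg.Agent.H9L3

open Matrix Cfsg

variable {F : Type*} [Field F]

theorem dg_mem_normalizer_Bsl (μ : Subgroup Fˣ) (a b : Fˣ) :
    dg a b ∈ Subgroup.normalizer ((Bsl μ : Subgroup (SpecialLinearGroup (Fin 3) F)) : Set _) := by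
  rw [Subgroup.mem_normalizer_iff]
  intro g
  have key : ∀ x y : Fˣ, dg a b * dg x y * (dg a b)⁻¹ = dg x y := by
    intro x y
    rw [dg_inv, dg_mul, dg_mul]
    congr 1
    · rw [mul_comm a x, mul_assoc, mul_inv_cancel, mul_one]
    · rw [mul_comm b y, mul_assoc, mul_inv_cancel, mul_one]
  constructor
  · intro hg
    obtain ⟨x, hx, y, hy, rfl⟩ := mem_Bsl.mp hg
    rw [key]; exact hg
  · intro hg
    obtain ⟨x, hx, y, hy, h⟩ := mem_Bsl.mp hg
    have : g = (dg a b)⁻¹ * dg x y * dg a b := by rw [← h]; group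
    rw [this, dg_inv, dg_mul, dg_mul]
    have e1 : a⁻¹ * x * a = x := by rw [mul_comm a⁻¹ x, mul_assoc, inv_mul_cancel, mul_one]
    have e2 : b⁻¹ * y * b = y := by rw [mul_comm b⁻¹ y, mul_assoc, inv_mul_cancel, mul_one]
    rw [e1, e2]
    exact mem_Bsl.mpr ⟨x, hx, y, hy, rfl⟩

/-- the central torus elements are products of involutions normalising the diagonal subgroup -/
theorem dg_scalar_mem_closure (A : Subgroup (SpecialLinearGroup (Fin 3) F)) (μ : Subgroup Fˣ)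
    (l : Fˣ) (h1 : dg l 1 ∈ A) (h2 : dg 1 l ∈ A) (hw12 : w12 ∈ A) (hw23 : w23 ∈ A) :
    dg l l ∈ Subgroup.closure {k : SpecialLinearGroup (Fin 3) F | k ∈ A ∧
      k ∈ Subgroup.normalizer ((Bsl μ : Subgroup _) : Set _) ∧ ∃ j : ℕ, orderOf k = 2 ^ j} := by
  have e : dg l l = (dg l 1 * w12 * (dg l 1)⁻¹) * w12⁻¹ * ((dg 1 l * w23 * (dg 1 l)⁻¹) * w23⁻¹) := by
    have e1 : dg l 1 * w12 * (dg l 1)⁻¹ * w12⁻¹ = dg l l⁻¹ := by
      rw [dg_inv, mul_assoc (dg l 1), w12_mul_dg, ← mul_assoc, dg_mul, mul_assoc, w12_inv,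
        w12_mul_w12, mul_one, inv_one, mul_one, one_mul]
    have e2 : dg 1 l * w23 * (dg 1 l)⁻¹ * w23⁻¹ = dg 1 (l * l) := by
      rw [dg_inv, mul_assoc (dg 1 l), w23_mul_dg, ← mul_assoc, dg_mul, mul_assoc, w23_inv,
        w23_mul_w23, mul_one, inv_one, one_mul, one_mul, inv_inv]
    rw [e1, e2, dg_mul, mul_one, ← mul_assoc, inv_mul_cancel, one_mul]
  rw [e]
  have m12 : w12 ∈ Subgroup.closure {k : SpecialLinearGroup (Fin 3) F | k ∈ A ∧
      k ∈ Subgroup.normalizer ((Bsl μ : Subgroup _) : Set _) ∧ ∃ j : ℕ, orderOf k = 2 ^ j} :=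
    Subgroup.subset_closure ⟨hw12, w12_mem_normalizer_Bsl μ, 1, by rw [orderOf_w12, pow_one]⟩
  have m23 : w23 ∈ Subgroup.closure {k : SpecialLinearGroup (Fin 3) F | k ∈ A ∧
      k ∈ Subgroup.normalizer ((Bsl μ : Subgroup _) : Set _) ∧ ∃ j : ℕ, orderOf k = 2 ^ j} :=
    Subgroup.subset_closure ⟨hw23, w23_mem_normalizer_Bsl μ, 1, by rw [orderOf_w23, pow_one]⟩
  have c12 : dg l 1 * w12 * (dg l 1)⁻¹ ∈ Subgroup.closure {k : SpecialLinearGroup (Fin 3) F |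
      k ∈ A ∧ k ∈ Subgroup.normalizer ((Bsl μ : Subgroup _) : Set _) ∧
      ∃ j : ℕ, orderOf k = 2 ^ j} := by
    apply Subgroup.subset_closure
    refine ⟨A.mul_mem (A.mul_mem h1 hw12) (A.inv_mem h1), ?_, 1, ?_⟩
    · exact Subgroup.mul_mem _ (Subgroup.mul_mem _ (dg_mem_normalizer_Bsl μ l 1)
        (w12_mem_normalizer_Bsl μ)) (Subgroup.inv_mem _ (dg_mem_normalizer_Bsl μ l 1))
    · rw [pow_one, ← orderOf_w12 (F := F)]
      exact (MulAut.conj (dg l 1)).orderOf_eq w12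
  have c23 : dg 1 l * w23 * (dg 1 l)⁻¹ ∈ Subgroup.closure {k : SpecialLinearGroup (Fin 3) F |
      k ∈ A ∧ k ∈ Subgroup.normalizer ((Bsl μ : Subgroup _) : Set _) ∧
      ∃ j : ℕ, orderOf k = 2 ^ j} := by
    apply Subgroup.subset_closure
    refine ⟨A.mul_mem (A.mul_mem h2 hw23) (A.inv_mem h2), ?_, 1, ?_⟩
    · exact Subgroup.mul_mem _ (Subgroup.mul_mem _ (dg_mem_normalizer_Bsl μ 1 l)
        (w23_mem_normalizer_Bsl μ)) (Subgroup.inv_mem _ (dg_mem_normalizer_Bsl μ 1 l))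
    · rw [pow_one, ← orderOf_w23 (F := F)]
      exact (MulAut.conj (dg 1 l)).orderOf_eq w23
  exact Subgroup.mul_mem _ (Subgroup.mul_mem _ c12 (Subgroup.inv_mem _ m12))
    (Subgroup.mul_mem _ c23 (Subgroup.inv_mem _ m23))

/-- an element centralising the diagonal subgroup is diagonal -/
theorem exists_dg_of_commute_Bsl (h2 : (2 : F) ≠ 0) (μ : Subgroup Fˣ) (hneg : -1 ∈ μ)
    (g : SpecialLinearGroup (Fin 3) F) (hg : ∀ r ∈ Bsl μ, g * r = r * g) :
    ∃ x y : Fˣ, g = dg x y := by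
  apply exists_dg_of_commute h2 g
  · rw [zel_eq_dg]
    exact hg _ (mem_Bsl.mpr ⟨-1, hneg, -1, hneg, rfl⟩)
  · exact hg _ (mem_Bsl.mpr ⟨-1, hneg, 1, μ.one_mem, rfl⟩)

theorem dg_pow (x y : Fˣ) (n : ℕ) : dg x y ^ n = dg (x ^ n) (y ^ n) := by
  induction n with
  | zero => rw [pow_zero, pow_zero, pow_zero, dg_one]
  | succ n ih => rw [pow_succ, ih, dg_mul, pow_succ, pow_succ]

end Cfsg.Agent.H9L3
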