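import Mathlib
import Cfsg.Prelude
import Cfsg.Agent.Lib.Helper9.L3Fus8

set_option autoImplicit false

/-!
# Assembling the simplicity criterion for block subgroups of `SL₃`, II
-/

namespace Cfsg.Agent.H9L3

open Matrix Cfsg

variable {F : Type*} [Field F]

theorem neg_one_eq_dgl : (-1 : GL (Fin 2) F) = dgl (-1) (-1) := by
  apply Matrix.GeneralLinearGroup.ext
  intro a b
  rw [dgl_coe]
  fin_cases a <;> fin_cases b <;> simp

theorem scl_comm (l : Fˣ) (m : GL (Fin 2) F) : scl l * m = m * scl l := by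
  apply Matrix.GeneralLinearGroup.ext
  intro a b
  unfold scl
  rw [Matrix.GeneralLinearGroup.coe_mul, Matrix.GeneralLinearGroup.coe_mul, dgl_coe]
  fin_cases a <;> fin_cases b <;> simp [Matrix.mul_apply, Fin.sum_univ_two, mul_comm]

theorem blk_scl (l : Fˣ) : (blk (scl l) : SpecialLinearGroup (Fin 3) F) = dg l l := rfl

theorem main_of_M [Finite F] (h2 : (2 : F) ≠ 0)
    {Y G : Type*} [Group Y] [Finite Y] [Group G] [Finite G]
    (π : Y →* G) (hπ : Function.Surjective π) (hker : π.ker ≤ Subgroup.center Y)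
    (hZ : (Nat.card π.ker).Coprime 2)
    (ι : Y →* SpecialLinearGroup (Fin 3) F) (hι : Function.Injective ι)
    (A : Subgroup (SpecialLinearGroup (Fin 3) F)) (hA : ι.range = A)
    (Λ μ : Subgroup Fˣ) (M : Subgroup (GL (Fin 2) F))
    (hΛ : ∀ x y : Fˣ, dg x y ∈ A ↔ x ∈ Λ ∧ y ∈ Λ)
    (hw12 : w12 ∈ A) (hw23 : w23 ∈ A)
    (hμΛ : μ ≤ Λ) (hμ2 : ∀ x ∈ Λ, (∃ k : ℕ, x ^ (2 ^ k) = 1) → x ∈ μ) (hneg : -1 ∈ μ)
    (hMA : M.map blk ≤ A) (hM2 : IsPGroup 2 M) (hBM : Bgl μ ≤ M)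
    (hcen : ∀ m ∈ M, (∀ m' ∈ M, m * m' = m' * m) → m * m = 1 → m = 1 ∨ m = -1)
    (hnorm : ∀ A' : GL (Fin 2) F, (∀ m ∈ M, ∃ m' ∈ M, A' * m = m' * A') →
      ∃ l : Fˣ, ∃ m ∈ M, A' = scl l * m)
    (hsc : ∀ T : Subgroup (SpecialLinearGroup (Fin 3) F), T ≤ M.map blk → T ≠ ⊥ →
      (∀ t ∈ T, ∀ g ∈ A, g * t * g⁻¹ ∈ M.map blk → g * t * g⁻¹ ∈ T) → M.map blk ≤ T)
    (S : Sylow 2 G) : (groupFusionSystem (S : Subgroup G)).IsSimple 2 := by
  haveI : Fact (Nat.Prime 2) := ⟨Nat.prime_two⟩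
  have hnegM : (-1 : GL (Fin 2) F) ∈ M := by
    apply hBM
    rw [neg_one_eq_dgl]
    exact mem_Bgl.mpr ⟨-1, hneg, -1, hneg, rfl⟩
  have hBP : Bsl μ ≤ M.map blk := Subgroup.map_mono hBM
  have hPp : IsPGroup 2 (M.map blk : Subgroup (SpecialLinearGroup (Fin 3) F)) := hM2.map blk
  have hMpow : ∀ m ∈ M, ∃ k : ℕ, m ^ (2 ^ k) = 1 := by
    intro m hm
    obtain ⟨k, hk⟩ := hM2 ⟨m, hm⟩
    refine ⟨k, ?_⟩
    have := congrArg Subtype.val hk
    simpa using this
  -- normal form for the normaliser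
  have hNF : ∀ g ∈ A, g ∈ Subgroup.normalizer ((M.map blk : Subgroup _) : Set _) →
      ∃ l ∈ Λ, ∃ m ∈ M, g = dg l l * blk m := by
    intro g hgA hgN
    obtain ⟨A', rfl, hA'⟩ := normalizer_map_blk h2 M hnegM hcen g hgN
    obtain ⟨l, m, hm, rfl⟩ := hnorm A' hA'
    refine ⟨l, ?_, m, hm, by rw [map_mul, blk_scl]⟩
    have h1 : dg l l ∈ A := by
      have e : dg l l = blk (scl l * m) * (blk m)⁻¹ := by
        rw [map_mul, blk_scl]; group
      rw [e]
      exact A.mul_mem hgA (A.inv_mem (hMA (Subgroup.mem_map_of_mem _ hm)))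
    exact ((hΛ l l).mp h1).1
  have hdgc : ∀ (l : Fˣ) (m : GL (Fin 2) F), dg l l * blk m = blk m * dg l l := by
    intro l m
    rw [← blk_scl, ← map_mul, ← map_mul, scl_comm]
  have hPN : ∀ x ∈ A, x ∈ Subgroup.normalizer ((M.map blk : Subgroup _) : Set _) →
      (∃ j : ℕ, orderOf x = 2 ^ j) → x ∈ M.map blk := by
    rintro x hxA hxN ⟨j, hj⟩
    obtain ⟨l, hl, m, hm, rfl⟩ := hNF x hxA hxN
    obtain ⟨k, hk⟩ := hMpow m hm
    have h1 : (dg l l * blk m) ^ (2 ^ (j + k)) = 1 := by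
      rw [pow_add, pow_mul, ← hj, pow_orderOf_eq_one, one_pow]
    have hc : Commute (dg l l) (blk m) := hdgc l m
    rw [hc.mul_pow, ← map_pow, pow_add, mul_comm (2 ^ j), pow_mul m, hk, one_pow, map_one, mul_one,
      ← pow_add, dg_pow, ← dg_one] at h1
    have h3 := (dg_injective h1).1
    have hlμ : l ∈ μ := hμ2 l hl ⟨_, h3⟩
    exact Subgroup.mul_mem _ (hBP (mem_Bsl.mpr ⟨l, hlμ, l, hlμ, rfl⟩))
      (Subgroup.mem_map_of_mem _ hm)
  have hzP : (zel : SpecialLinearGroup (Fin 3) F) ∈ M.map blk := Subgroup.mem_map_of_mem _ hnegM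
  have hz1 : (zel : SpecialLinearGroup (Fin 3) F) ≠ 1 := by
    intro h
    unfold zel at h
    rw [← map_one blk] at h
    exact neg_one_ne_one_gl h2 (blk_injective h)
  refine simple_of_data_amb 2 π hπ hker hZ ι hι A hA (M.map blk) hMA hPp hPN ?_ hsc
    ((M.map blk : Set (SpecialLinearGroup (Fin 3) F)) ∪ {g | ∃ l ∈ Λ, g = dg l l}) ?_ ?_ S
  · intro hb
    rw [hb, Subgroup.mem_bot] at hzP
    exact hz1 hzP
  · intro g hgA hgN
    obtain ⟨l, hl, m, hm, rfl⟩ := hNF g hgA hgN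
    exact Subgroup.mul_mem _ (Subgroup.subset_closure (Or.inr ⟨l, hl, rfl⟩))
      (Subgroup.subset_closure (Or.inl (Subgroup.mem_map_of_mem _ hm)))
  · rintro γ (hγ | ⟨l, hl, rfl⟩)
    · refine ⟨hMA hγ, Subgroup.le_normalizer hγ, M.map blk, le_rfl, ?_, ?_⟩
      · intro x hxA hxo hxc
        apply hPN x hxA _ hxo
        rw [Subgroup.mem_normalizer_iff]
        intro y
        constructor
        · intro hy
          have e : x * y * x⁻¹ = y := by
            rw [hxc y hy]; group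
          rw [e]; exact hy
        · intro hy
          have h1 := hxc _ hy
          have e : y = x * y * x⁻¹ := by
            calc y = x⁻¹ * ((x * y * x⁻¹) * x) := by group
              _ = x⁻¹ * (x * (x * y * x⁻¹)) := by rw [h1]
              _ = x * y * x⁻¹ := by group
          rw [e]; exact hy
      · apply Subgroup.subset_closure
        refine ⟨hMA hγ, Subgroup.le_normalizer hγ, ?_⟩
        obtain ⟨k, hk⟩ := (IsPGroup.iff_orderOf.mp hPp) ⟨γ, hγ⟩
        exact ⟨k, by rw [← hk, Subgroup.orderOf_mk]⟩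
    · have hdA : dg l l ∈ A := (hΛ l l).mpr ⟨hl, hl⟩
      refine ⟨hdA, ?_, Bsl μ, hBP, ?_, ?_⟩
      · rw [Subgroup.mem_normalizer_iff]
        intro y
        constructor
        · rintro ⟨m, hm, rfl⟩
          rw [hdgc, mul_assoc, mul_inv_cancel, mul_one]
          exact Subgroup.mem_map_of_mem _ hm
        · rintro ⟨m, hm, hme⟩
          have e : y = blk m := by
            have h1 : y = (dg l l)⁻¹ * blk m * dg l l := by rw [hme]; group
            rw [h1, mul_assoc, ← hdgc, ← mul_assoc, inv_mul_cancel, one_mul]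
          rw [e]; exact Subgroup.mem_map_of_mem _ hm
      · rintro x hxA ⟨j, hj⟩ hxc
        obtain ⟨a, b, rfl⟩ := exists_dg_of_commute_Bsl h2 μ hneg x hxc
        obtain ⟨ha, hb⟩ := (hΛ a b).mp hxA
        have h1 : dg a b ^ (2 ^ j) = 1 := by rw [← hj, pow_orderOf_eq_one]
        rw [dg_pow, ← dg_one] at h1
        obtain ⟨h3, h4⟩ := dg_injective h1
        exact mem_Bsl.mpr ⟨a, hμ2 a ha ⟨_, h3⟩, b, hμ2 b hb ⟨_, h4⟩, rfl⟩
      · exact dg_scalar_mem_closure A μ l ((hΛ l 1).mpr ⟨hl, Λ.one_mem⟩)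
          ((hΛ 1 l).mpr ⟨Λ.one_mem, hl⟩) hw12 hw23

end Cfsg.Agent.H9L3
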