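import Mathlib
import Cfsg.Prelude
import Cfsg.Agent.Lib.Lead.Nilpotent
import Cfsg.Agent.Lib.Helper9.L3Fus9

set_option autoImplicit false

/-!
# The wreathed case
-/

namespace Cfsg.Agent.H9L3

open Matrix Cfsg

/-- a nontrivial normal subgroup of a finite `p`-group contains a nontrivial central element -/
theorem exists_central_of_normal' {p : ℕ} [Fact p.Prime] {G : Type*} [Group G] {P T : Subgroup G}
    [Finite P] (hP : IsPGroup p P) (hTP : T ≤ P) (hT : T ≠ ⊥)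
    (hnorm : ∀ g ∈ P, ∀ t ∈ T, g * t * g⁻¹ ∈ T) :
    ∃ z ∈ T, z ≠ 1 ∧ ∀ x ∈ P, x * z = z * x := by
  haveI : Group.IsNilpotent P := hP.isNilpotent
  haveI : (T.subgroupOf P).Normal := by
    constructor
    intro n hn g
    rw [Subgroup.mem_subgroupOf] at hn ⊢
    exact hnorm g g.2 n hn
  have hne : T.subgroupOf P ≠ ⊥ := by
    intro h
    apply hT
    rw [Subgroup.eq_bot_iff_forall] at h ⊢
    intro x hx
    have := h ⟨x, hTP hx⟩ (Subgroup.mem_subgroupOf.mpr hx)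
    exact congrArg Subtype.val this
  have h1 := Cfsg.Agent.Lib.Lead.inf_center_ne_bot (T.subgroupOf P) hne
  obtain ⟨⟨x, hx⟩, hx1⟩ := (Subgroup.ne_bot_iff_exists_ne_one).mp h1
  obtain ⟨hxT, hxC⟩ := Subgroup.mem_inf.mp hx
  refine ⟨(x : G), Subgroup.mem_subgroupOf.mp hxT, ?_, ?_⟩
  · intro h
    apply hx1
    apply Subtype.ext
    apply Subtype.ext
    exact h
  · intro y hy
    rw [Subgroup.mem_center_iff] at hxC
    have := hxC ⟨y, hy⟩
    exact congrArg Subtype.val this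

variable {F : Type*} [Field F]

/-- a nontrivial `2`-element of `Fˣ` has a power equal to `-1` -/
theorem exists_pow_eq_neg_one (x : Fˣ) (hx : x ≠ 1) (k : ℕ) (hk : x ^ (2 ^ k) = 1) :
    ∃ j : ℕ, x ^ (2 ^ j) = -1 := by
  induction k with
  | zero =>
    rw [pow_zero, pow_one] at hk
    exact absurd hk hx
  | succ k ih =>
    by_cases h : x ^ (2 ^ k) = 1
    · exact ih h
    · refine ⟨k, ?_⟩
      have h1 : (x ^ (2 ^ k)) * (x ^ (2 ^ k)) = 1 := by
        rw [← pow_add, ← two_mul, ← pow_succ']; exact hk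
      have h3 : ((x ^ (2 ^ k) : Fˣ) : F) * ((x ^ (2 ^ k) : Fˣ) : F) = 1 := by
        rw [← Units.val_mul, h1, Units.val_one]
      rcases mul_self_eq_one_iff.mp h3 with h4 | h4
      · exact absurd (Units.ext h4) h
      · exact Units.ext (by rw [h4]; simp)

theorem dgl_pow (x y : Fˣ) (n : ℕ) : dgl x y ^ n = dgl (x ^ n) (y ^ n) := by
  induction n with
  | zero => rw [pow_zero, pow_zero, pow_zero, dgl_one]
  | succ n ih => rw [pow_succ, ih, dgl_mul, pow_succ, pow_succ]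

theorem isPGroup_Mwr (μ : Subgroup Fˣ) (hμ : ∀ x ∈ μ, ∃ k : ℕ, x ^ (2 ^ k) = 1) :
    IsPGroup 2 (Mwr μ) := by
  have key : ∀ x ∈ μ, ∀ y ∈ μ, ∃ k : ℕ, dgl x y ^ (2 ^ k) = 1 := by
    intro x hx y hy
    obtain ⟨k, hk⟩ := hμ x hx
    obtain ⟨k', hk'⟩ := hμ y hy
    refine ⟨k + k', ?_⟩
    rw [dgl_pow, pow_add, pow_mul, hk, one_pow, mul_comm, pow_mul, hk', one_pow, dgl_one]
  rintro ⟨g, hg⟩
  obtain ⟨x, hx, y, hy, rfl | rfl⟩ := mem_Mwr.mp hg
  · obtain ⟨k, hk⟩ := key x hx y hy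
    exact ⟨k, Subtype.ext hk⟩
  · obtain ⟨k, hk⟩ := key (x * y) (μ.mul_mem hx hy) (y * x) (μ.mul_mem hy hx)
    refine ⟨k + 1, Subtype.ext ?_⟩
    have e : (dgl x y * sw) * (dgl x y * sw) = dgl (x * y) (y * x) := by
      rw [mul_assoc, ← mul_assoc sw, sw_mul_dgl, mul_assoc, sw_mul_sw, mul_one, dgl_mul]
    show (dgl x y * sw) ^ (2 ^ (k + 1)) = 1
    rw [pow_succ', pow_mul, pow_two, e, hk]

theorem hcen_Mwr (h2 : (2 : F) ≠ 0) (μ : Subgroup Fˣ) (i : Fˣ) (hi : i ∈ μ)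
    (hi2 : (i : F) ^ 2 = -1) :
    ∀ m ∈ Mwr μ, (∀ m' ∈ Mwr μ, m * m' = m' * m) → ∃ x ∈ μ, m = dgl x x := by
  have hi1 : i ≠ 1 := by
    intro h
    rw [h, Units.val_one, one_pow] at hi2
    apply h2
    linear_combination hi2
  intro m hm hc
  obtain ⟨x, hx, y, hy, rfl | rfl⟩ := mem_Mwr.mp hm
  · have h1 := hc sw (mem_Mwr.mpr ⟨1, μ.one_mem, 1, μ.one_mem, Or.inr (by rw [dgl_one, one_mul])⟩)
    rw [sw_mul_dgl] at h1
    have h3 := mul_right_cancel h1
    have := (dgl_injective h3).1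
    exact ⟨x, hx, by rw [← this]⟩
  · exfalso
    have h1 := hc (dgl 1 i) (mem_Mwr.mpr ⟨1, μ.one_mem, i, hi, Or.inl rfl⟩)
    rw [mul_assoc, sw_mul_dgl, ← mul_assoc, ← mul_assoc, dgl_mul, dgl_mul] at h1
    have h3 := mul_right_cancel h1
    have h4 := (dgl_injective h3).1
    rw [one_mul] at h4
    exact hi1 (mul_left_cancel (h4.trans (mul_one x).symm))

/-- the element of order three normalising the quaternion group, as a matrix -/
def h3Mat (i : F) : Matrix (Fin 2) (Fin 2) F :=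
  !![(-1 + i) / 2, (1 + i) / 2; (-1 + i) / 2, (-1 - i) / 2]

theorem det_h3Mat (h2 : (2 : F) ≠ 0) (i : F) (hi2 : i ^ 2 = -1) : (h3Mat i).det = 1 := by
  unfold h3Mat
  rw [Matrix.det_fin_two]
  simp only [Matrix.of_apply, Matrix.cons_val', Matrix.cons_val_zero, Matrix.cons_val_one,
    Matrix.cons_val_fin_one]
  field_simp
  linear_combination (-2 : F) * hi2

/-- the element of order three, in `GL₂` -/
noncomputable def h3gl (h2 : (2 : F) ≠ 0) (i : F) (hi2 : i ^ 2 = -1) : GL (Fin 2) F :=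
  Matrix.GeneralLinearGroup.mkOfDetNeZero (h3Mat i) (by rw [det_h3Mat h2 i hi2]; exact one_ne_zero)

theorem h3gl_mul (h2 : (2 : F) ≠ 0) (i : F) (hi2 : i ^ 2 = -1) :
    h3gl h2 i hi2 * dgl 1 (-1) = sw * h3gl h2 i hi2 := by
  apply Matrix.GeneralLinearGroup.ext
  intro a b
  rw [Matrix.GeneralLinearGroup.coe_mul, Matrix.GeneralLinearGroup.coe_mul, dgl_coe, sw_coe]
  show ((h3Mat i * !![((1 : Fˣ) : F), 0; 0, ((-1 : Fˣ) : F)] : Matrix (Fin 2) (Fin 2) F)) a b =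
    ((!![0, 1; 1, 0] * h3Mat i : Matrix (Fin 2) (Fin 2) F)) a b
  unfold h3Mat
  fin_cases a <;> fin_cases b <;> simp [Matrix.mul_apply, Fin.sum_univ_two] <;> ring

end Cfsg.Agent.H9L3
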