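import Mathlib
import Cfsg.Prelude
import Cfsg.Agent.Lib.Helper9.PSLFus7

set_option autoImplicit false

/-!
# An adapter: data for the simplicity criterion given in an ambient group
-/

namespace Cfsg.Agent.H9AF

open Cfsg Cfsg.FusionSystem Cfsg.Agent.Lib.Helper9 Cfsg.Agent.H9PF

variable {G X : Type*} [Group G] [Finite G] [Group X]

theorem simple_of_data_hom (ι : G →* X) (hι : Function.Injective ι) (A : Subgroup X)
    (hA : ι.range = A) (p : ℕ) [Fact p.Prime] (P : Subgroup X) (hPA : P ≤ A)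
    (hcard : Nat.card P = p ^ (Nat.card A).factorization p)
    (hP1 : P ≠ ⊥)
    (hsc : ∀ T : Subgroup X, T ≤ P → T ≠ ⊥ →
      (∀ t ∈ T, ∀ g ∈ A, g * t * g⁻¹ ∈ P → g * t * g⁻¹ ∈ T) → P ≤ T)
    (Γ : Set X)
    (hgen : ∀ g ∈ A, g ∈ Subgroup.normalizer (P : Set X) → g ∈ Subgroup.closure Γ)
    (hgood : ∀ γ ∈ Γ, γ ∈ A ∧ γ ∈ Subgroup.normalizer (P : Set X) ∧
      ∃ R : Subgroup X, R ≤ P ∧ (∀ x ∈ A, (∀ r ∈ R, x * r = r * x) → x ∈ R) ∧
        γ ∈ Subgroup.closure {k : X | k ∈ A ∧ k ∈ Subgroup.normalizer (R : Set X) ∧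
          ∃ j : ℕ, orderOf k = p ^ j})
    (S : Sylow p G) :
    (groupFusionSystem (S : Subgroup G)).IsSimple p := by
  have hmemA : ∀ x : X, x ∈ A ↔ ∃ g : G, ι g = x := by
    intro x; rw [← hA]; exact MonoidHom.mem_range
  -- cardinalities
  have hcardG : Nat.card G = Nat.card A := by
    rw [← hA]
    exact Nat.card_congr (Equiv.ofInjective ι hι)
  have hcardP : Nat.card (P.comap ι) = Nat.card P := by
    have h1 : (P.comap ι).map ι = P := by
      rw [Subgroup.map_comap_eq, hA]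
      exact inf_eq_right.mpr hPA
    conv_rhs => rw [← h1]
    exact (Subgroup.card_map_of_injective hι).symm
  have hc : Nat.card (P.comap ι) = p ^ (Nat.card G).factorization p := by
    rw [hcardP, hcardG, hcard]
  obtain ⟨P₀, hP₀⟩ : ∃ P₀ : Sylow p G, (P₀ : Subgroup G) = P.comap ι :=
    ⟨Sylow.ofCard (P.comap ι) hc, Sylow.coe_ofCard _ hc⟩
  have hmemP : ∀ g : G, g ∈ (P₀ : Subgroup G) ↔ ι g ∈ P := by
    intro g; rw [hP₀]; exact Subgroup.mem_comap
  have hnorm : ∀ (R : Subgroup X) (g : G), g ∈ Subgroup.normalizer ((R.comap ι : Subgroup G) : Set G) ↔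
      (∀ x ∈ A, x ∈ R ↔ ι g * x * (ι g)⁻¹ ∈ R) := by
    intro R g
    rw [Subgroup.mem_normalizer_iff]
    constructor
    · intro h x hx
      obtain ⟨y, rfl⟩ := (hmemA x).mp hx
      have := h y
      rw [Subgroup.mem_comap, Subgroup.mem_comap] at this
      simpa using this
    · intro h y
      have := h (ι y) ((hmemA _).mpr ⟨y, rfl⟩)
      rw [Subgroup.mem_comap, Subgroup.mem_comap]
      simpa using this
  have hnormR : ∀ (R : Subgroup X), R ≤ A → ∀ g : G,
      g ∈ Subgroup.normalizer ((R.comap ι : Subgroup G) : Set G) ↔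
      ι g ∈ Subgroup.normalizer (R : Set X) := by
    intro R hRA g
    rw [hnorm, Subgroup.mem_normalizer_iff]
    constructor
    · intro h x
      constructor
      · intro hx
        exact (h x (hRA hx)).mp hx
      · intro hx
        have hgA : ι g ∈ A := (hmemA _).mpr ⟨g, rfl⟩
        have hxA : x ∈ A := by
          have h1 := hRA hx
          have : x = (ι g)⁻¹ * (ι g * x * (ι g)⁻¹) * ι g := by group
          rw [this]
          exact A.mul_mem (A.mul_mem (A.inv_mem hgA) h1) hgA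
        exact (h x hxA).mpr hx
    · intro h x _
      exact h x
  -- closure transfer
  have hclos : ∀ (Δ : Set X), Δ ⊆ (A : Set X) → ∀ g : G, ι g ∈ Subgroup.closure Δ →
      g ∈ Subgroup.closure (ι ⁻¹' Δ) := by
    intro Δ hΔ g hg
    have h1 : (Subgroup.closure (ι ⁻¹' Δ)).map ι = Subgroup.closure Δ := by
      rw [MonoidHom.map_closure, Set.image_preimage_eq_of_subset]
      intro x hx
      obtain ⟨y, hy⟩ := (hmemA x).mp (hΔ hx)
      exact ⟨y, hy⟩
    rw [← h1] at hg
    obtain ⟨g', hg', hgg⟩ := hg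
    rw [← hι hgg]; exact hg'
  refine simple_of_data p P₀ ?_ ?_ (ι ⁻¹' Γ) ?_ ?_ S
  · intro hb
    apply hP1
    rw [Subgroup.eq_bot_iff_forall] at hb ⊢
    intro x hx
    obtain ⟨g, rfl⟩ := (hmemA x).mp (hPA hx)
    rw [hb g ((hmemP g).mpr hx), map_one]
  · intro T hT hTb hTc
    have h1 : P ≤ T.map ι := by
      apply hsc
      · rintro x ⟨t, ht, rfl⟩
        exact (hmemP t).mp (hT ht)
      · intro hb
        apply hTb
        rw [Subgroup.eq_bot_iff_forall] at hb ⊢
        intro t ht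
        have := hb (ι t) ⟨t, ht, rfl⟩
        apply hι
        rw [this, map_one]
      · rintro x ⟨t, ht, rfl⟩ g hg hgP
        obtain ⟨g', rfl⟩ := (hmemA g).mp hg
        refine ⟨g' * t * g'⁻¹, ?_, by simp⟩
        apply hTc t ht g'
        rw [hmemP]
        simpa using hgP
    intro g hg
    obtain ⟨t, ht, hgt⟩ := h1 ((hmemP g).mp hg)
    rw [← hι hgt]; exact ht
  · intro g hg
    apply hclos Γ (fun γ hγ => (hgood γ hγ).1)
    apply hgen _ ((hmemA _).mpr ⟨g, rfl⟩)
    rw [hP₀] at hg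
    exact (hnormR P hPA g).mp hg
  · intro γ hγ
    obtain ⟨-, hγN, R, hRP, hRC, hγR⟩ := hgood (ι γ) hγ
    refine ⟨?_, R.comap ι, ?_, ?_, ?_⟩
    · rw [hP₀]; exact (hnormR P hPA γ).mpr hγN
    · intro x hx
      rw [hmemP]; exact hRP hx
    · intro x hx
      rw [Subgroup.mem_comap]
      apply hRC _ ((hmemA _).mpr ⟨x, rfl⟩)
      intro r hr
      obtain ⟨r', rfl⟩ := (hmemA r).mp (hPA (hRP hr))
      rw [← map_mul, ← map_mul, hx r' hr]
    · have h2 := hclos _ (fun k hk => hk.1) γ hγR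
      refine Subgroup.closure_mono ?_ h2
      rintro k ⟨-, hkN, j, hj⟩
      refine ⟨(hnormR R (hRP.trans hPA) k).mpr hkN, j, ?_⟩
      rw [← hj]; exact (orderOf_injective ι hι k).symm

end Cfsg.Agent.H9AF
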