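import Mathlib
import Cfsg.Agent.Lib.Helper9.UPol7

/-!
# S5984: elements whose square is scalar
-/

set_option autoImplicit false
set_option maxHeartbeats 800000

namespace Cfsg.Agent.Lib.Helper9.UPol

open Module Cfsg.Agent.Lib.Helper2 Cfsg.Agent.Lib.Helper2.IsomDecomp
  Cfsg.Agent.Lib.Helper2.HermDecomp Cfsg.Agent.Lib.Helper2.HermFrames
  Cfsg.Agent.Lib.Helper5.PSLCoset

variable {F : Type*} [Field F] {σ : F ≃+* F} {V : Type*} [AddCommGroup V] [Module F V]
  {H : V → V → F}

/-- a nondegenerate subspace of even dimension is the sum of two totally singular subspaces -/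
theorem exists_half [Finite F] [FiniteDimensional F V] (hσ : orderOf σ = 2) (h : IsHerm σ H)
    (h2 : (2 : F) ≠ 0) {K : Submodule F V} (hK : ND H K) {k : ℕ} (hKk : finrank F K = 2 * k) :
    ∃ A B : Submodule F V, A ≤ K ∧ B ≤ K ∧ TS H A ∧ TS H B ∧ K ≤ A ⊔ B := by
  classical
  obtain ⟨b, hb⟩ := exists_onb (V := K) (H := fun x y : K => H (x : V) (y : V)) hσ
    (isHerm_restrict h K)
    (by
      intro u hu
      apply Subtype.ext
      apply hK u u.2
      intro v hv
      exact hu ⟨v, hv⟩) hKk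
  obtain ⟨τ, hτ0, hτ⟩ := UT.exists_norm_eq hσ (-1 : F) (neg_ne_zero.2 one_ne_zero)
    (by rw [map_neg, map_one])
  let i0 : Fin k → Fin (2 * k) := fun i => ⟨2 * (i : ℕ), by have := i.2; omega⟩
  let i1 : Fin k → Fin (2 * k) := fun i => ⟨2 * (i : ℕ) + 1, by have := i.2; omega⟩
  have h00 : ∀ i j, i0 i = i0 j ↔ i = j := by
    intro i j
    constructor
    · intro hh
      have := congrArg Fin.val hh
      simp only [i0] at this
      exact Fin.ext (by omega)
    · rintro rfl; rfl
  have h11 : ∀ i j, i1 i = i1 j ↔ i = j := by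
    intro i j
    constructor
    · intro hh
      have := congrArg Fin.val hh
      simp only [i1] at this
      exact Fin.ext (by omega)
    · rintro rfl; rfl
  have h01 : ∀ i j, i0 i ≠ i1 j := by
    intro i j hh
    have := congrArg Fin.val hh
    simp only [i0, i1] at this
    omega
  have hb' : ∀ x y : Fin (2 * k), H (b x : V) (b y : V) = if x = y then 1 else 0 := hb
  set p : Fin k → V := fun i => (b (i0 i) : V) + τ • (b (i1 i) : V) with hp
  set p' : Fin k → V := fun i => (b (i0 i) : V) - τ • (b (i1 i) : V) with hp'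
  have hpp : ∀ i j, H (p i) (p j) = 0 := by
    intro i j
    simp only [hp, h.add_left, h.add_right, h.smul_left, h.smul_right, hb']
    by_cases hij : i = j
    · subst hij
      rw [if_pos rfl, if_neg (h01 i i), if_neg (Ne.symm (h01 i i)), if_pos rfl]
      linear_combination hτ
    · rw [if_neg (fun hh => hij ((h00 i j).1 hh)), if_neg (h01 i j),
        if_neg (Ne.symm (h01 j i)), if_neg (fun hh => hij ((h11 i j).1 hh))]
      ring
  have hpp' : ∀ i j, H (p' i) (p' j) = 0 := by
    intro i j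
    simp only [hp', h.sub_left, h.sub_right, h.smul_left, h.smul_right, hb']
    by_cases hij : i = j
    · subst hij
      rw [if_pos rfl, if_neg (h01 i i), if_neg (Ne.symm (h01 i i)), if_pos rfl]
      linear_combination hτ
    · rw [if_neg (fun hh => hij ((h00 i j).1 hh)), if_neg (h01 i j),
        if_neg (Ne.symm (h01 j i)), if_neg (fun hh => hij ((h11 i j).1 hh))]
      ring
  refine ⟨Submodule.span F (Set.range p), Submodule.span F (Set.range p'), ?_, ?_,
    span_isotropic h p hpp, span_isotropic h p' hpp', ?_⟩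
  · rw [Submodule.span_le]
    rintro _ ⟨i, rfl⟩
    exact K.add_mem (b (i0 i)).2 (K.smul_mem _ (b (i1 i)).2)
  · rw [Submodule.span_le]
    rintro _ ⟨i, rfl⟩
    exact K.sub_mem (b (i0 i)).2 (K.smul_mem _ (b (i1 i)).2)
  · set S := Submodule.span F (Set.range p) ⊔ Submodule.span F (Set.range p') with hS
    have hpS : ∀ i, p i ∈ S := fun i =>
      Submodule.mem_sup_left (Submodule.subset_span ⟨i, rfl⟩)
    have hpS' : ∀ i, p' i ∈ S := fun i =>
      Submodule.mem_sup_right (Submodule.subset_span ⟨i, rfl⟩)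
    have hb0 : ∀ i, (b (i0 i) : V) ∈ S := by
      intro i
      have h1 : (b (i0 i) : V) = (2 : F)⁻¹ • (p i + p' i) := by
        simp only [hp, hp']
        rw [show (b (i0 i) : V) + τ • (b (i1 i) : V) + ((b (i0 i) : V) - τ • (b (i1 i) : V)) =
          (2 : F) • (b (i0 i) : V) by rw [two_smul]; abel, smul_smul, inv_mul_cancel₀ h2, one_smul]
      rw [h1]
      exact S.smul_mem _ (S.add_mem (hpS i) (hpS' i))
    have hb1 : ∀ i, (b (i1 i) : V) ∈ S := by
      intro i
      have h1 : (b (i1 i) : V) = (2 * τ)⁻¹ • (p i - p' i) := by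
        simp only [hp, hp']
        rw [show (b (i0 i) : V) + τ • (b (i1 i) : V) - ((b (i0 i) : V) - τ • (b (i1 i) : V)) =
          (2 * τ) • (b (i1 i) : V) by rw [mul_smul, two_smul]; abel, smul_smul,
          inv_mul_cancel₀ (mul_ne_zero h2 hτ0), one_smul]
      rw [h1]
      exact S.smul_mem _ (S.sub_mem (hpS i) (hpS' i))
    have hbS : ∀ x : Fin (2 * k), (b x : V) ∈ S := by
      intro x
      rcases Nat.even_or_odd (x : ℕ) with ⟨c, hc⟩ | ⟨c, hc⟩
      · have hck : c < k := by have := x.2; omega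
        have : x = i0 ⟨c, hck⟩ := Fin.ext (by simp only [i0]; omega)
        rw [this]
        exact hb0 _
      · have hck : c < k := by have := x.2; omega
        have : x = i1 ⟨c, hck⟩ := Fin.ext (by simp only [i1]; omega)
        rw [this]
        exact hb1 _
    intro v hv
    have h1 : (⟨v, hv⟩ : K) = ∑ x, (b.repr ⟨v, hv⟩ x) • b x := (b.sum_repr ⟨v, hv⟩).symm
    have h3 : v = ∑ x, (b.repr ⟨v, hv⟩ x) • (b x : V) := by
      have h4 : ((⟨v, hv⟩ : K) : V) = ((∑ x, (b.repr ⟨v, hv⟩ x) • b x : K) : V) :=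
        congrArg Subtype.val h1
      rw [Submodule.coe_sum] at h4
      exact h4
    rw [h3]
    exact S.sum_mem (fun x _ => S.smul_mem _ (hbS x))

/-- eigenspaces -/
def eig (X : V ≃ₗ[F] V) (c : F) : Submodule F V :=
  LinearMap.ker ((X : V →ₗ[F] V) - c • LinearMap.id)

theorem mem_eig (X : V ≃ₗ[F] V) (c : F) (v : V) : v ∈ eig X c ↔ X v = c • v := by
  unfold eig
  rw [LinearMap.mem_ker, LinearMap.sub_apply, LinearMap.smul_apply, LinearMap.id_apply,
    sub_eq_zero]
  rfl

theorem ts_sup (h : IsHerm σ H) {A₁ A₂ : Submodule F V} (h1 : TS H A₁) (h2 : TS H A₂)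
    (h12 : ∀ u ∈ A₁, ∀ v ∈ A₂, H u v = 0) : TS H (A₁ ⊔ A₂) := by
  intro u hu v hv
  obtain ⟨u₁, hu₁, u₂, hu₂, rfl⟩ := Submodule.mem_sup.1 hu
  obtain ⟨v₁, hv₁, v₂, hv₂, rfl⟩ := Submodule.mem_sup.1 hv
  rw [h.add_left, h.add_right, h.add_right, h1 u₁ hu₁ v₁ hv₁, h12 u₁ hu₁ v₂ hv₂,
    eq_zero_of_symm h (h12 v₁ hv₁ u₂ hu₂), h2 u₂ hu₂ v₂ hv₂]
  simp

/-- an isometry of determinant one whose square is scalar preserves a pair of totally singular
subspaces spanning the space, when no element `w` of norm one satisfies `w ^ n = -1` -/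
theorem exists_pair_of_sq [Finite F] [FiniteDimensional F V] (hσ : orderOf σ = 2)
    (h : IsHerm σ H) (hnd : ∀ v, (∀ w, H v w = 0) → v = 0) (h2 : (2 : F) ≠ 0) {m : ℕ}
    (hV : finrank F V = 2 * m) (hm : 1 ≤ m)
    (hsqrt : ∀ z : F, z * σ z = 1 → ∃ w, w ^ 2 = z)
    (hord : ∀ w : F, w * σ w = 1 → w ^ (2 * m) = -1 → False)
    (X : V ≃ₗ[F] V) (hX : X ∈ isom H) (hdet : LinearEquiv.det X = 1) {z : F}
    (hXz : ∀ v, (X ^ 2) v = z • v) :
    ∃ A B : Submodule F V, TS H A ∧ TS H B ∧ A ⊔ B = ⊤ ∧ (∀ u ∈ A, X u ∈ A) ∧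
      (∀ u ∈ B, X u ∈ B) := by
  classical
  have hσ2 := WittHerm.sigma_sigma hσ
  have hXX : ∀ v, X (X v) = z • v := by
    intro v
    rw [← hXz v, pow_two, LinearEquiv.mul_apply]
  obtain ⟨u₀, hu₀⟩ : ∃ u : V, u ≠ 0 := by
    have : 0 < finrank F V := by omega
    exact Module.finrank_pos_iff_exists_ne_zero.1 this
  obtain ⟨v₀, hv₀⟩ : ∃ v, H u₀ v ≠ 0 := by
    by_contra hcon
    push Not at hcon
    exact hu₀ (hnd u₀ hcon)
  have hzz : z * σ z = 1 := by
    have h1 := hX (X u₀) (X v₀)
    rw [hXX, hXX, hX u₀ v₀, h.smul_left, h.smul_right, ← mul_assoc] at h1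
    have h3 : (z * σ z - 1) * H u₀ v₀ = 0 := by linear_combination h1
    rcases mul_eq_zero.1 h3 with h4 | h4
    · exact sub_eq_zero.1 h4
    · exact absurd h4 hv₀
  obtain ⟨w, hw⟩ := hsqrt z hzz
  have hz0 : z ≠ 0 := by
    rintro rfl
    rw [zero_mul] at hzz
    exact zero_ne_one hzz
  have hw0 : w ≠ 0 := by
    rintro rfl
    rw [zero_pow two_ne_zero] at hw
    exact hz0 hw.symm
  have h2w : (2 * w) ≠ 0 := mul_ne_zero h2 hw0
  set c := w * σ w with hc
  have hcc : c * c = 1 := by
    calc c * c = w ^ 2 * σ (w ^ 2) := by rw [hc, map_pow]; ring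
      _ = 1 := by rw [hw, hzz]
  set Ep := eig X w with hEp
  set Em := eig X (-w) with hEm
  have hXw : ∀ v, X (X v) = (w ^ 2) • v := by
    intro v
    rw [hXX, hw]
  have hdec : ∀ v, ∃ vp ∈ Ep, ∃ vm ∈ Em, v = vp + vm := by
    intro v
    refine ⟨(2 * w)⁻¹ • (X v + w • v), ?_, (2 * w)⁻¹ • (w • v - X v), ?_, ?_⟩
    · rw [hEp, mem_eig, map_smul, map_add, map_smul, hXw]
      module
    · rw [hEm, mem_eig, map_smul, map_sub, map_smul, hXw]
      module
    · rw [← smul_add, show X v + w • v + (w • v - X v) = (2 * w) • v by module, smul_smul,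
        inv_mul_cancel₀ h2w, one_smul]
  have hsupE : Ep ⊔ Em = ⊤ := by
    rw [eq_top_iff]
    intro v _
    obtain ⟨vp, hvp, vm, hvm, rfl⟩ := hdec v
    exact Submodule.add_mem_sup hvp hvm
  have hts : ∀ a : F, a * σ a = -1 → TS H (eig X a) := by
    intro a ha u hu v hv
    rw [mem_eig] at hu hv
    have h1 := hX u v
    rw [hu, hv, h.smul_left, h.smul_right, ← mul_assoc, ha] at h1
    have h3 : (2 : F) * H u v = 0 := by linear_combination -h1
    rcases mul_eq_zero.1 h3 with h4 | h4
    · exact absurd h4 h2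
    · exact h4
  have hinv : ∀ a : F, ∀ u ∈ eig X a, X u ∈ eig X a := by
    intro a u hu
    rw [(mem_eig X a u).1 hu]
    exact (eig X a).smul_mem a hu
  have hc1 : (c - 1) * (c + 1) = 0 := by linear_combination hcc
  rcases mul_eq_zero.1 hc1 with hc1 | hc1
  swap
  · -- `c = -1`
    have hcm : c = -1 := eq_neg_of_add_eq_zero_left hc1
    refine ⟨Ep, Em, hts w hcm, hts (-w) ?_, hsupE, hinv w, hinv (-w)⟩
    rw [map_neg, neg_mul_neg]
    exact hcm
  · -- `c = 1`
    have hcp : w * σ w = 1 := sub_eq_zero.1 hc1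
    have horth : ∀ u ∈ Ep, ∀ v ∈ Em, H u v = 0 := by
      intro u hu v hv
      rw [hEp, mem_eig] at hu
      rw [hEm, mem_eig] at hv
      have h1 := hX u v
      rw [hu, hv, h.smul_left, h.smul_right, map_neg] at h1
      have h3 : (2 : F) * H u v = 0 := by linear_combination (-1 : F) * h1 - H u v * hcp
      rcases mul_eq_zero.1 h3 with h4 | h4
      · exact absurd h4 h2
      · exact h4
    have hNDp : ND H Ep := by
      intro u hu hu'
      apply hnd
      intro y
      obtain ⟨yp, hyp, ym, hym, rfl⟩ := hdec y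
      rw [h.add_right, hu' yp hyp, horth u hu ym hym, add_zero]
    have hNDm : ND H Em := by
      intro u hu hu'
      apply hnd
      intro y
      obtain ⟨yp, hyp, ym, hym, rfl⟩ := hdec y
      rw [h.add_right, hu' ym hym, eq_zero_of_symm h (horth yp hyp u hu), add_zero]
    have hdisj : Em ⊓ Ep = ⊥ := by
      rw [eq_bot_iff]
      rintro v ⟨hv1, hv2⟩
      rw [Submodule.mem_bot]
      have h1 := (mem_eig X (-w) v).1 hv1
      have h3 := (mem_eig X w v).1 hv2
      have h4 : (2 * w) • v = 0 := by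
        have : w • v = (-w) • v := by rw [← h3, h1]
        calc (2 * w) • v = w • v + w • v := by module
          _ = w • v + (-w) • v := by rw [← this]
          _ = 0 := by module
      rcases smul_eq_zero.1 h4 with h5 | h5
      · exact absurd h5 h2w
      · exact h5
    have hd : OrthoDecomp H Em Ep :=
      { compl := ⟨disjoint_iff.2 hdisj, codisjoint_iff.2 (by rw [sup_comm]; exact hsupE)⟩
        add_left := h.add_left
        add_right := h.add_right
        ortho := fun e he e' he' => eq_zero_of_symm h (horth e' he' e he)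
        ortho' := fun e he e' he' => horth e' he' e he
        mem' := by
          intro v hv
          obtain ⟨vp, hvp, vm, hvm, rfl⟩ := hdec v
          have h1 : vm = 0 := by
            apply hNDm vm hvm
            intro e he
            have h3 := hv e he
            rw [h.add_right, eq_zero_of_symm h (horth vp hvp e he), zero_add] at h3
            exact eq_zero_of_symm h h3
          rw [h1, add_zero]
          exact hvp }
    set Y := UT.ext hd (LinearEquiv.neg F : Em ≃ₗ[F] Em) with hY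
    have hXY : ∀ v, X v = w • Y v := by
      intro v
      obtain ⟨e, e', rfl⟩ := exists_decomp hd v
      rw [map_add, hY, UT.ext_apply, (mem_eig X (-w) _).1 e.2, (mem_eig X w _).1 e'.2,
        LinearEquiv.neg_apply, Submodule.coe_neg]
      module
    have hdetX : (1 : F) = w ^ (2 * m) * (-1) ^ finrank F Em := by
      have h1 : ((LinearEquiv.det X : Fˣ) : F) = 1 := by rw [hdet]; rfl
      rw [LinearEquiv.coe_det] at h1
      have h3 : (X : V →ₗ[F] V) = w • (Y : V →ₗ[F] V) := LinearMap.ext hXY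
      rw [h3, LinearMap.det_smul, hV] at h1
      have h4 : LinearMap.det (Y : V →ₗ[F] V) = (-1) ^ finrank F Em := by
        rw [← LinearEquiv.coe_det, hY, UT.det_ext, LinearEquiv.coe_det]
        have : ((LinearEquiv.neg F : Em ≃ₗ[F] Em) : Em →ₗ[F] Em) = (-1 : F) • LinearMap.id := by
          ext x
          simp
        rw [this, LinearMap.det_smul, LinearMap.det_id, mul_one]
      rw [h4] at h1
      exact h1.symm
    have hbeven : Even (finrank F Em) := by
      rw [← Nat.not_odd_iff_even]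
      intro hodd
      rw [Odd.neg_one_pow hodd] at hdetX
      apply hord w hcp
      linear_combination hdetX
    have hab : finrank F Ep + finrank F Em = 2 * m := by
      have h1 := Submodule.finrank_sup_add_finrank_inf_eq Ep Em
      rw [hsupE, inf_comm, hdisj, finrank_bot, add_zero, finrank_top, hV] at h1
      exact h1.symm
    have haeven : Even (finrank F Ep) := by
      have h1 : Even (finrank F Ep + finrank F Em) := by rw [hab]; exact even_two_mul m
      exact (Nat.even_add.1 h1).2 hbeven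
    obtain ⟨a', ha'⟩ := haeven
    obtain ⟨b', hb'⟩ := hbeven
    obtain ⟨Ap, Bp, hApE, hBpE, hAp, hBp, hEpAB⟩ := exists_half hσ h h2 hNDp (k := a')
      (by omega)
    obtain ⟨Am, Bm, hAmE, hBmE, hAm, hBm, hEmAB⟩ := exists_half hσ h h2 hNDm (k := b')
      (by omega)
    refine ⟨Ap ⊔ Am, Bp ⊔ Bm, ?_, ?_, ?_, ?_, ?_⟩
    · exact ts_sup h hAp hAm (fun u hu v hv => horth u (hApE hu) v (hAmE hv))
    · exact ts_sup h hBp hBm (fun u hu v hv => horth u (hBpE hu) v (hBmE hv))
    · rw [eq_top_iff, ← hsupE]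
      apply sup_le
      · exact hEpAB.trans (sup_le (le_sup_left.trans le_sup_left) (le_sup_left.trans le_sup_right))
      · exact hEmAB.trans (sup_le (le_sup_right.trans le_sup_left)
          (le_sup_right.trans le_sup_right))
    · intro u hu
      obtain ⟨u₁, hu₁, u₂, hu₂, rfl⟩ := Submodule.mem_sup.1 hu
      rw [map_add, (mem_eig X w _).1 (hApE hu₁), (mem_eig X (-w) _).1 (hAmE hu₂)]
      exact Submodule.add_mem_sup (Ap.smul_mem _ hu₁) (Am.smul_mem _ hu₂)
    · intro u hu
      obtain ⟨u₁, hu₁, u₂, hu₂, rfl⟩ := Submodule.mem_sup.1 hu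
      rw [map_add, (mem_eig X w _).1 (hBpE hu₁), (mem_eig X (-w) _).1 (hBmE hu₂)]
      exact Submodule.add_mem_sup (Bp.smul_mem _ hu₁) (Bm.smul_mem _ hu₂)

end Cfsg.Agent.Lib.Helper9.UPol
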