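import Mathlib
import Cfsg.Agent.Lib.Helper9.UPol8

/-!
# S5984: conjugating an invariant pair into the given pair
-/

set_option autoImplicit false
set_option maxHeartbeats 800000

namespace Cfsg.Agent.Lib.Helper9.UPol

open Module Cfsg.Agent.Lib.Helper2 Cfsg.Agent.Lib.Helper2.IsomDecomp
  Cfsg.Agent.Lib.Helper2.HermDecomp Cfsg.Agent.Lib.Helper2.HermFrames
  Cfsg.Agent.Lib.Helper5.PSLCoset Cfsg.Agent.Lib.Helper2.GUIsom
  Cfsg.Agent.Lib.Helper1.GUBasic Cfsg.Agent.Lib.Helper1.HermCount Matrix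

variable {F : Type*} [Field F] [Fintype F] {q : ℕ}

/-- square roots of elements of norm one -/
theorem exists_sqrt_of_norm_one (hF : Fintype.card F = q ^ 2) (hodd : Odd q) (z : F)
    (hz : z * z ^ q = 1) : ∃ w : F, w ^ 2 = z := by
  have h2 := two_ne_zero_of_odd hF hodd
  have hz0 : z ≠ 0 := by
    rintro rfl
    rw [zero_mul] at hz
    exact zero_ne_one hz
  have hchar : ringChar F ≠ 2 := by
    intro hc
    apply h2
    have := CharP.cast_eq_zero F (ringChar F)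
    rw [hc] at this
    exact_mod_cast this
  have hsq : IsSquare z := by
    rw [FiniteField.isSquare_iff hchar hz0, hF]
    obtain ⟨t, ht⟩ := hodd
    have h1 : q ^ 2 / 2 = (q + 1) * t := by
      rw [ht]
      have : (2 * t + 1) ^ 2 = 2 * ((2 * t + 1 + 1) * t) + 1 := by ring
      rw [this]
      omega
    rw [h1, pow_mul, pow_succ', hz, one_pow]
  obtain ⟨w, hw⟩ := hsq
  exact ⟨w, by rw [hw, pow_two]⟩

/-- no element of norm one has `n`-th power `-1` when the 2-part of `q + 1` is at most that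
of `n` -/
theorem no_w (hF : Fintype.card F = q ^ 2) (hodd : Odd q) {n : ℕ} (hn : 0 < n)
    (hv : padicValNat 2 (q + 1) ≤ padicValNat 2 n) (w : F) (hw : w * w ^ q = 1)
    (hwn : w ^ n = -1) : False := by
  have h2 := two_ne_zero_of_odd hF hodd
  have hw1 : w ^ (q + 1) = 1 := by rw [pow_succ']; exact hw
  have ho1 : orderOf w ∣ q + 1 := orderOf_dvd_of_pow_eq_one hw1
  have ho2 : orderOf w ∣ n * 2 := by
    apply orderOf_dvd_of_pow_eq_one
    rw [pow_mul, hwn]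
    norm_num
  have ho0 : orderOf w ≠ 0 := fun h0 => by
    rw [h0] at ho1
    have := zero_dvd_iff.1 ho1
    omega
  obtain ⟨s, o', ho', hoeq⟩ := Nat.exists_eq_two_pow_mul_odd ho0
  have hs1 : 2 ^ s ∣ q + 1 := (Dvd.intro _ hoeq.symm).trans ho1
  have hs2 : s ≤ padicValNat 2 n :=
    ((padicValNat_dvd_iff_le (by omega)).1 hs1).trans hv
  have hs3 : 2 ^ s ∣ n := (padicValNat_dvd_iff_le hn.ne').2 hs2
  have ho3 : o' ∣ n := by
    have h1 : o' ∣ n * 2 := (Dvd.intro_left _ hoeq.symm).trans ho2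
    have hcop : Nat.Coprime o' 2 := Nat.coprime_two_right.2 ho'
    exact hcop.dvd_of_dvd_mul_right h1
  have hcop2 : Nat.Coprime (2 ^ s) o' :=
    Nat.Coprime.pow_left s (Nat.coprime_two_left.2 ho')
  have ho4 : orderOf w ∣ n := by
    rw [hoeq]
    exact hcop2.mul_dvd_of_dvd_of_dvd hs3 ho3
  have h1 : w ^ n = 1 := orderOf_dvd_iff_pow_eq_one.1 ho4
  rw [h1] at hwn
  apply h2
  linear_combination hwn

/-- an isometry preserving `A` and `B` with prescribed determinant of norm one -/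
theorem exists_fix_det (hF : Fintype.card F = q ^ 2) {n m : ℕ} (hV : n = 2 * m) (hm : 1 ≤ m)
    {A B : Submodule F (Fin n → F)} (hsup : A ⊔ B = ⊤)
    (hA : TS (Cfsg.hermForm n F q) A) (hB : TS (Cfsg.hermForm n F q) B)
    (hAm : finrank F A = m) (hBm : finrank F B = m) (l : F) (hl : l * l ^ q = 1) :
    ∃ c : (Fin n → F) ≃ₗ[F] (Fin n → F), c ∈ isom (Cfsg.hermForm n F q) ∧
      ((LinearEquiv.det c : Fˣ) : F) = l ∧ (∀ a ∈ A, c a ∈ A) ∧ (∀ b ∈ B, c b ∈ B) := by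
  classical
  obtain ⟨σ, hσ, hσq, h, hnd⟩ := exists_data hF n
  have hσ2 := WittHerm.sigma_sigma hσ
  have hV' : finrank F (Fin n → F) = 2 * m := by rw [Module.finrank_fin_fun, hV]
  obtain ⟨bb, hbb, hbbA, hbbB⟩ := exists_hyp_basis hσ h hnd hsup hA hB hBm hV'
    (finBasisOfFinrankEq F A hAm)
  set u := bb (Sum.inl ⟨0, hm⟩) with hu
  set v := bb (Sum.inr ⟨0, hm⟩) with hv
  have huA : u ∈ A := by rw [hu, hbbA]; exact Subtype.coe_prop _
  have hvB : v ∈ B := hbbB _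
  have huu : Cfsg.hermForm n F q u u = 0 := hA u huA u huA
  have hvv : Cfsg.hermForm n F q v v = 0 := hB v hvB v hvB
  have huv : Cfsg.hermForm n F q u v = 1 := by
    rw [hu, hv, hbb]
    simp [hypGram]
  obtain ⟨a, ha0, ha⟩ := exists_hilbert90 hσ l (by rw [hσq]; exact hl)
  have hσa : σ a ≠ 0 := by
    intro h0
    apply ha0
    rw [ha, h0, mul_zero]
  have hab : a * σ (σ a)⁻¹ = 1 := by
    rw [map_inv₀, hσ2, mul_inv_cancel₀ ha0]
  have hvu : Cfsg.hermForm n F q v u = 1 := by rw [h.symm, huv, map_one]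
  obtain ⟨c, hc1, hc2, hc3⟩ := exists_of_matrix hF (hypRot q u v a (σ a)⁻¹)
    (hypRot_preserves hσ2 h u v huu hvv huv a (σ a)⁻¹ hab)
  refine ⟨c, hc1, ?_, ?_, ?_⟩
  · rw [hc2, det_hypRot u v huv hvu, mul_inv_eq_iff_eq_mul₀ hσa]
    exact ha
  · intro x hx
    rw [hc3, hypRot_mulVec h u v hvv, hA x hx u huA, mul_zero, zero_smul, add_zero]
    exact A.add_mem hx (A.smul_mem _ huA)
  · intro x hx
    rw [hc3, hypRot_mulVec h u v hvv, hB x hx v hvB, mul_zero, zero_smul, add_zero]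
    exact B.add_mem hx (B.smul_mem _ hvB)

/-- dimensions of a pair of totally singular subspaces spanning the space -/
theorem finrank_of_ts_pair (hF : Fintype.card F = q ^ 2) {n m : ℕ} (hV : n = 2 * m)
    {A B : Submodule F (Fin n → F)} (hsup : A ⊔ B = ⊤)
    (hA : TS (Cfsg.hermForm n F q) A) (hB : TS (Cfsg.hermForm n F q) B) :
    finrank F A = m ∧ finrank F B = m := by
  obtain ⟨σ, hσ, hσq, h, hnd⟩ := exists_data hF n
  have h1 := ts_finrank_le hσ h hnd (nd_top hnd) (le_top : A ≤ ⊤) hA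
  have h2 := ts_finrank_le hσ h hnd (nd_top hnd) (le_top : B ≤ ⊤) hB
  have h3 := Submodule.finrank_sup_add_finrank_inf_eq A B
  rw [hsup] at h3
  rw [finrank_top, Module.finrank_fin_fun] at h1 h2 h3
  omega

/-- an isometry of determinant one mapping `A`, `B` into `A'`, `B'` -/
theorem exists_isom_pair_det (hF : Fintype.card F = q ^ 2) {n m : ℕ} (hV : n = 2 * m)
    (hm : 1 ≤ m) {A B A' B' : Submodule F (Fin n → F)} (hsup : A ⊔ B = ⊤)
    (hA : TS (Cfsg.hermForm n F q) A) (hB : TS (Cfsg.hermForm n F q) B)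
    (hsup' : A' ⊔ B' = ⊤)
    (hA' : TS (Cfsg.hermForm n F q) A') (hB' : TS (Cfsg.hermForm n F q) B') :
    ∃ g : (Fin n → F) ≃ₗ[F] (Fin n → F), g ∈ isom (Cfsg.hermForm n F q) ∧
      LinearEquiv.det g = 1 ∧ (∀ a ∈ A, g a ∈ A') ∧ (∀ b ∈ B, g b ∈ B') := by
  obtain ⟨σ, hσ, hσq, h, hnd⟩ := exists_data hF n
  have hV' : finrank F (Fin n → F) = 2 * m := by rw [Module.finrank_fin_fun, hV]
  obtain ⟨hAm, hBm⟩ := finrank_of_ts_pair hF hV hsup hA hB
  obtain ⟨hAm', hBm'⟩ := finrank_of_ts_pair hF hV hsup' hA' hB'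
  obtain ⟨g₁, hg₁, hg₁A, hg₁B⟩ := exists_isom_pair hσ h hnd hV' hsup hA hB hAm hBm hsup' hA' hB'
    hAm' hBm'
  have hδ := det_isom_norm hF g₁ hg₁
  set δ : Fˣ := LinearEquiv.det g₁ with hδdef
  have hδinv : ((δ⁻¹ : Fˣ) : F) * ((δ⁻¹ : Fˣ) : F) ^ q = 1 := by
    rw [Units.val_inv_eq_inv_val, inv_pow, ← mul_inv, hδ, inv_one]
  obtain ⟨c, hc1, hc2, hcA, hcB⟩ := exists_fix_det hF hV hm hsup hA hB hAm hBm
    ((δ⁻¹ : Fˣ) : F) hδinv
  refine ⟨g₁ * c, (isom _).mul_mem hg₁ hc1, ?_, ?_, ?_⟩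
  · rw [map_mul]
    have : LinearEquiv.det c = δ⁻¹ := Units.ext hc2
    rw [this, ← hδdef, mul_inv_cancel]
  · intro a ha
    rw [LinearEquiv.mul_apply]
    exact hg₁A _ (hcA a ha)
  · intro b hb
    rw [LinearEquiv.mul_apply]
    exact hg₁B _ (hcB b hb)

end Cfsg.Agent.Lib.Helper9.UPol
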