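import Mathlib

/-!
# S4321, package Q1(b)

If every element of a finite group `H` normalizes some Sylow `p`-subgroup, then the Sylow
`p`-subgroups of `H` are normal (Burnside's orbit counting on `Sylow p H`).
-/

set_option autoImplicit false

namespace Cfsg.Agent.Lib.Helper9.PSing

universe u

/-- A transitive action of a finite group on a nonempty finite set in which every element has a
fixed point is an action on a one-point set (Jordan). -/
theorem subsingleton_of_forall_exists_fixed {K Ω : Type*} [Group K] [Finite K] [MulAction K Ω]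
    [Finite Ω] [MulAction.IsPretransitive K Ω] [Nonempty Ω]
    (h : ∀ g : K, ∃ ω : Ω, g • ω = ω) : Subsingleton Ω := by
  classical
  have := Fintype.ofFinite K
  have := Fintype.ofFinite Ω
  have hB := MulAction.sum_card_fixedBy_eq_card_orbits_mul_card_group K Ω
  have horb : Fintype.card (MulAction.orbitRel.Quotient K Ω) = 1 := by
    have h1 : Subsingleton (MulAction.orbitRel.Quotient K Ω) :=
      (MulAction.pretransitive_iff_subsingleton_quotient K Ω).mp inferInstance
    have h2 : Nonempty (MulAction.orbitRel.Quotient K Ω) := by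
      obtain ⟨ω⟩ := (inferInstance : Nonempty Ω)
      exact ⟨Quotient.mk'' ω⟩
    rw [← Nat.card_eq_fintype_card]
    exact Nat.card_unique
  rw [horb, one_mul] at hB
  by_contra hns
  rw [not_subsingleton_iff_nontrivial] at hns
  have hΩ : 1 < Fintype.card Ω := Fintype.one_lt_card
  have hge : ∀ g : K, 1 ≤ Fintype.card (MulAction.fixedBy Ω g) := by
    intro g
    obtain ⟨ω, hω⟩ := h g
    exact Fintype.card_pos_iff.mpr ⟨⟨ω, hω⟩⟩
  have h1 : Fintype.card (MulAction.fixedBy Ω (1 : K)) = Fintype.card Ω := by
    apply Fintype.card_of_subtype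
    intro x
    simp
  have hlt : ∑ _g : K, 1 < ∑ g : K, Fintype.card (MulAction.fixedBy Ω g) := by
    apply Finset.sum_lt_sum
    · intro g _
      exact hge g
    · exact ⟨1, Finset.mem_univ _, by rw [h1]; exact hΩ⟩
  rw [hB] at hlt
  simp at hlt

/-- **Q1(b)**: if every element of the finite group `H` normalizes some Sylow `p`-subgroup, then
every Sylow `p`-subgroup of `H` is normal. -/
theorem sylow_normal_of_forall_normalizes {H : Type u} [Group H] [Finite H] {p : ℕ}
    [Fact p.Prime]
    (h : ∀ g : H, ∃ Q : Sylow p H, g ∈ Subgroup.normalizer ((Q : Subgroup H) : Set H))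
    (P : Sylow p H) :
    (P : Subgroup H).Normal := by
  have : Nonempty (Sylow p H) := ⟨P⟩
  have : Subsingleton (Sylow p H) := by
    apply subsingleton_of_forall_exists_fixed (K := H)
    intro g
    obtain ⟨Q, hQ⟩ := h g
    exact ⟨Q, Sylow.smul_eq_iff_mem_normalizer.mpr hQ⟩
  exact Sylow.normal_of_subsingleton P

end Cfsg.Agent.Lib.Helper9.PSing
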