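import Mathlib
import Cfsg.Agent.Lib.Helper4.SUClass.Defs
import Cfsg.Agent.Lib.Helper5.SLClass.Norm
import Cfsg.Agent.Lib.Helper5.SUConj1
import Cfsg.Agent.Lib.Helper4.SUClass.TL

set_option autoImplicit false
set_option linter.unusedSectionVars false
set_option linter.unusedVariables false

/-! S2481 PK-UD3 : the nondegenerate cyclic subspace of a block of a unitary matrix. -/

namespace Cfsg.Agent.Lib.Helper4.SUClass

open Polynomial Cfsg.Agent.S0278 Cfsg.Agent.Lib.Helper5.GLClass Cfsg.Agent.Lib.Helper5.SLClass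
open Cfsg.Agent.Lib.Helper5.Wall

universe u

variable {K : Type u} [Field K] [Fintype K] {q : ℕ}

namespace PkUD3

section generic
variable {F : Type u} [Field F] {V : Type*} [AddCommGroup V] [Module F V]

/-- the orbit map `a ↦ a(φ) z` -/
noncomputable def orb (φ : V →ₗ[F] V) (z : V) : F[X] →ₗ[F] V where
  toFun a := aeval φ a z
  map_add' a b := by rw [map_add, LinearMap.add_apply]
  map_smul' c a := by rw [map_smul, LinearMap.smul_apply, RingHom.id_apply]

theorem orb_apply (φ : V →ₗ[F] V) (z : V) (a : F[X]) : orb φ z a = aeval φ a z := rfl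

/-- the cyclic submodule `F[φ] z` -/
noncomputable def cyc (φ : V →ₗ[F] V) (z : V) : Submodule F V := LinearMap.range (orb φ z)

theorem mem_cyc {φ : V →ₗ[F] V} {z x : V} : x ∈ cyc φ z ↔ ∃ a : F[X], aeval φ a z = x :=
  LinearMap.mem_range

theorem aeval_mul_apply (φ : V →ₗ[F] V) (a b : F[X]) (x : V) :
    aeval φ (a * b) x = aeval φ a (aeval φ b x) := by
  rw [map_mul, Module.End.mul_apply]

theorem aeval_mul_apply' (φ : V →ₗ[F] V) (a b : F[X]) (x : V) :
    aeval φ (a * b) x = aeval φ b (aeval φ a x) := by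
  rw [mul_comm, aeval_mul_apply]

theorem self_mem_cyc (φ : V →ₗ[F] V) (z : V) : z ∈ cyc φ z :=
  mem_cyc.2 ⟨1, by rw [map_one, Module.End.one_apply]⟩

theorem aeval_mem_cyc {φ : V →ₗ[F] V} {z x : V} (P : F[X]) (hx : x ∈ cyc φ z) :
    aeval φ P x ∈ cyc φ z := by
  obtain ⟨a, rfl⟩ := mem_cyc.1 hx
  exact mem_cyc.2 ⟨P * a, aeval_mul_apply φ P a z⟩

theorem map_mem_cyc {φ : V →ₗ[F] V} {z x : V} (hx : x ∈ cyc φ z) : φ x ∈ cyc φ z := by
  have := aeval_mem_cyc (φ := φ) X hx
  rwa [aeval_X] at this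

/-- an invariant submodule is invariant under polynomials -/
theorem aeval_mem_of_invariant (φ : V →ₗ[F] V) (S : Submodule F V) (hS : ∀ x ∈ S, φ x ∈ S)
    (P : F[X]) : ∀ x ∈ S, aeval φ P x ∈ S := by
  induction P using Polynomial.induction_on with
  | C c =>
    intro x hx
    rw [aeval_C, Module.algebraMap_end_apply]
    exact S.smul_mem c hx
  | add P Q hP hQ =>
    intro x hx
    rw [map_add, LinearMap.add_apply]
    exact S.add_mem (hP x hx) (hQ x hx)
  | monomial k c ih =>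
    intro x hx
    have e : (C c * X ^ (k + 1) : F[X]) = (C c * X ^ k) * X := by rw [pow_succ, mul_assoc]
    rw [e, aeval_mul_apply, aeval_X]
    exact ih (φ x) (hS x hx)

/-- the gcd of `a` and `p₀ ^ e` -/
theorem gcd_pow_form {p₀ : F[X]} (hp₀ : Irreducible p₀) (e : ℕ) (a : F[X]) :
    ∃ j ≤ e, ∃ s s' : F[X], p₀ ^ j = a * s + p₀ ^ e * s' ∧ p₀ ^ j ∣ a := by
  classical
  obtain ⟨j, hj, hass⟩ := (dvd_prime_pow hp₀.prime e).1 (EuclideanDomain.gcd_dvd_right a (p₀ ^ e))
  obtain ⟨u, hu⟩ := hass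
  refine ⟨j, hj, EuclideanDomain.gcdA a (p₀ ^ e) * u, EuclideanDomain.gcdB a (p₀ ^ e) * u, ?_, ?_⟩
  · rw [← hu, EuclideanDomain.gcd_eq_gcd_ab a (p₀ ^ e)]
    ring
  · rw [← hu]
    exact Units.mul_right_dvd.2 (EuclideanDomain.gcd_dvd_left a (p₀ ^ e))

/-- the annihilator of a vector killed by `p₀ ^ e` but not by `p₀ ^ (e - 1)` -/
theorem ann_iff (φ : V →ₗ[F] V) {p₀ : F[X]} (hp₀ : Irreducible p₀) {e : ℕ} (he : 1 ≤ e) {x : V}
    (h1 : aeval φ (p₀ ^ e) x = 0) (h2 : aeval φ (p₀ ^ (e - 1)) x ≠ 0) (a : F[X]) :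
    aeval φ a x = 0 ↔ p₀ ^ e ∣ a := by
  constructor
  · intro ha
    obtain ⟨j, hj, s, s', hjs, hdvd⟩ := gcd_pow_form hp₀ e a
    have h3 : aeval φ (p₀ ^ j) x = 0 := by
      rw [hjs, map_add, LinearMap.add_apply, aeval_mul_apply' φ a s, ha, map_zero,
        aeval_mul_apply' φ (p₀ ^ e) s', h1, map_zero, add_zero]
    by_cases hje : j = e
    · rw [← hje]; exact hdvd
    · exfalso
      apply h2
      have e2 : p₀ ^ (e - 1) = p₀ ^ (e - 1 - j) * p₀ ^ j := by
        rw [← pow_add]; congr 1; omega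
      rw [e2, aeval_mul_apply, h3, map_zero]
  · rintro ⟨c, rfl⟩
    rw [aeval_mul_apply', h1, map_zero]

/-- the socle of the cyclic module `F[X] / (p₀ ^ e)` lies in every nonzero submodule -/
theorem exists_mul_eq_socle (φ : V →ₗ[F] V) {p₀ : F[X]} (hp₀ : Irreducible p₀) {e : ℕ} {x : V}
    (h1 : aeval φ (p₀ ^ e) x = 0) (a : F[X]) (ha : aeval φ a x ≠ 0) :
    ∃ b : F[X], aeval φ b (aeval φ a x) = aeval φ (p₀ ^ (e - 1)) x := by
  obtain ⟨j, hj, s, s', hjs, hdvd⟩ := gcd_pow_form hp₀ e a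
  have hje : j ≠ e := by
    rintro rfl
    obtain ⟨c, rfl⟩ := hdvd
    apply ha
    rw [aeval_mul_apply', h1, map_zero]
  refine ⟨p₀ ^ (e - 1 - j) * s, ?_⟩
  have e2 : p₀ ^ (e - 1) = (p₀ ^ (e - 1 - j) * s) * a + (p₀ ^ (e - 1 - j) * s') * p₀ ^ e := by
    have : p₀ ^ (e - 1) = p₀ ^ (e - 1 - j) * p₀ ^ j := by
      rw [← pow_add]; congr 1; omega
    rw [this, hjs]; ring
  rw [e2, map_add, LinearMap.add_apply, aeval_mul_apply φ (p₀ ^ (e - 1 - j) * s') (p₀ ^ e), h1,
    map_zero, add_zero, aeval_mul_apply φ (p₀ ^ (e - 1 - j) * s) a]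

theorem ker_orb {φ : V →ₗ[F] V} {z : V} {m : F[X]}
    (hann : ∀ a : F[X], aeval φ a z = 0 ↔ m ∣ a) :
    LinearMap.ker (orb φ z) = (F[X] ∙ m).restrictScalars F := by
  ext a
  rw [LinearMap.mem_ker, orb_apply, hann, Submodule.restrictScalars_mem]
  exact Ideal.mem_span_singleton.symm

/-- the cyclic module `F[φ] z` is `F[X] / (m)`, `(m)` the annihilator of `z` -/
noncomputable def cycEquiv {φ : V →ₗ[F] V} {z : V} {m : F[X]}
    (hann : ∀ a : F[X], aeval φ a z = 0 ↔ m ∣ a) : (F[X] ⧸ F[X] ∙ m) ≃ₗ[F] ↥(cyc φ z) :=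
  ((Submodule.Quotient.restrictScalarsEquiv F (F[X] ∙ m)).symm.trans
    (Submodule.quotEquivOfEq _ _ (ker_orb hann).symm)).trans (orb φ z).quotKerEquivRange

theorem cycEquiv_mk {φ : V →ₗ[F] V} {z : V} {m : F[X]}
    (hann : ∀ a : F[X], aeval φ a z = 0 ↔ m ∣ a) (a : F[X]) :
    ((cycEquiv hann (Ideal.Quotient.mk (F[X] ∙ m) a) : ↥(cyc φ z)) : V) = aeval φ a z := rfl

theorem det_restrict_cyc {φ : V →ₗ[F] V} {z : V} {m : F[X]}
    (hann : ∀ a : F[X], aeval φ a z = 0 ↔ m ∣ a) (P : F[X])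
    (hPW : ∀ x ∈ cyc φ z, aeval φ P x ∈ cyc φ z) :
    LinearMap.det ((aeval φ P).restrict hPW) = LinearMap.det (mulQ m P) := by
  have e1 : (aeval φ P).restrict hPW = (cycEquiv hann).conj (mulQ m P) := by
    apply LinearMap.ext
    intro y
    obtain ⟨x, rfl⟩ := (cycEquiv hann).surjective y
    obtain ⟨a, rfl⟩ := Ideal.Quotient.mk_surjective x
    rw [LinearEquiv.conj_apply_apply, LinearEquiv.symm_apply_apply, mulQ_apply]
    apply Subtype.ext
    rw [LinearMap.coe_restrict_apply, cycEquiv_mk, cycEquiv_mk, aeval_mul_apply]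
  rw [e1, LinearEquiv.conj_apply, LinearMap.comp_assoc, LinearMap.det_conj]

theorem mulQ_congr (m P P' : F[X]) (h : m ∣ P - P') : mulQ m P = mulQ m P' := by
  unfold mulQ
  congr 1
  rw [Ideal.Quotient.eq]
  exact Ideal.mem_span_singleton.2 h

theorem det_mulQ_id (m : F[X]) : LinearMap.det (mulQ m 1) = 1 := by
  unfold mulQ
  rw [map_one, LinearMap.mulLeft_one, LinearMap.det_id]

end generic

section unitary
variable {n : ℕ}

open Cfsg.Agent.Lib.Helper2.Herm Cfsg.Agent.Lib.Helper1.GUBasic Cfsg.Agent.Lib.Helper5.SUConj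

theorem toLin_aeval_apply (A : Matrix (Fin n) (Fin n) K) (P : K[X]) (x : Fin n → K) :
    aeval (Matrix.toLin' A) P x = (aeval A P).mulVec x := by
  have h : aeval (Matrix.toLin' A) P = Matrix.toLin' (aeval A P) :=
    Polynomial.aeval_algHom_apply (Matrix.toLinAlgEquiv' (R := K) (n := Fin n)).toAlgHom A P
  rw [h, Matrix.toLin'_apply]

theorem ct_pow (hK : Fintype.card K = q ^ 2) (A : Matrix (Fin n) (Fin n) K) (k : ℕ) :
    ct hK (A ^ k) = ct hK A ^ k := by
  induction k with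
  | zero => rw [pow_zero, pow_zero, ct_one]
  | succ k ih => rw [pow_succ, ct_mul, ih, pow_succ']

/-- the orthogonal of an invariant subspace of a unitary matrix is invariant -/
theorem perp_invariant (hK : Fintype.card K = q ^ 2) (A : Matrix (Fin n) (Fin n) K)
    (hBA : ct hK A * A = 1) (W : Submodule K (Fin n → K))
    (hW : ∀ x ∈ W, Matrix.toLin' A x ∈ W) : ∀ x ∈ perpU q W, Matrix.toLin' A x ∈ perpU q W := by
  intro x hx y hy
  have hinj : Function.Injective (Matrix.toLin' A) := by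
    intro a b hab
    have := congrArg (fun v => (ct hK A).mulVec v) hab
    simp only [Matrix.toLin'_apply, Matrix.mulVec_mulVec, hBA, Matrix.one_mulVec] at this
    exact this
  have hsurj : Function.Surjective ((Matrix.toLin' A).restrict hW) :=
    LinearMap.injective_iff_surjective.1
      (fun a b hab => Subtype.ext (hinj (congrArg Subtype.val hab)))
  obtain ⟨⟨y', hy'⟩, hyy⟩ := hsurj ⟨y, hy⟩
  have e : Matrix.toLin' A y' = y := congrArg Subtype.val hyy
  rw [Matrix.toLin'_apply, herm_adj hK, ← e, Matrix.toLin'_apply, Matrix.mulVec_mulVec, hBA,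
    Matrix.one_mulVec]
  exact hx y' hy'

theorem coeff_zero_pow_ne {p : K[X]} (hp0 : p.coeff 0 ≠ 0) (k : ℕ) : (p ^ k).coeff 0 ≠ 0 := by
  rw [Polynomial.coeff_zero_eq_eval_zero, Polynomial.eval_pow, ← Polynomial.coeff_zero_eq_eval_zero]
  exact pow_ne_zero _ hp0

end unitary

end PkUD3

open PkUD3 Cfsg.Agent.Lib.Helper2.Herm Cfsg.Agent.Lib.Helper1.GUBasic Cfsg.Agent.Lib.Helper5.SUConj in
theorem exists_block_subspace (hK : Fintype.card K = q ^ 2) {n : ℕ}
    (g : Matrix.GeneralLinearGroup (Fin n) K) (hg : g ∈ Cfsg.GU n K q)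
    (p : K[X]) (hp : Irreducible p) (hpm : p.Monic) (hp0 : p.coeff 0 ≠ 0) (e : ℕ) (he : 1 ≤ e)
    (v w : Fin n → K) (hv : aeval (Matrix.toLin' g.val) (p ^ e) v = 0)
    (hw : aeval (Matrix.toLin' g.val) ((tl hK p) ^ e) w = 0)
    (hvw : Cfsg.hermForm n K q (aeval (Matrix.toLin' g.val) (p ^ (e - 1)) v) w ≠ 0)
    (hcase : tl hK p ≠ p ∨ w = v) (c : K) (hc : c ≠ 0) :
    ∃ (W : Submodule K (Fin n → K)) (P : K[X])
      (hPW : ∀ x ∈ W, aeval (Matrix.toLin' g.val) P x ∈ W),
      (∀ x ∈ W, Matrix.toLin' g.val x ∈ W) ∧ W ⊓ perpU q W = ⊥ ∧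
      LinearMap.det ((aeval (Matrix.toLin' g.val) P).restrict hPW) = c ^ e := by
  classical
  have hBA : ct hK g.val * g.val = 1 := (mem_GU_iff hK g).1 hg
  have hAB : g.val * ct hK g.val = 1 := mul_eq_one_comm.1 hBA
  obtain ⟨r, hr⟩ := exists_det_mulQ_eq p hp c hc
  have hπ : aeval (Matrix.toLin' g.val) (p ^ (e - 1)) v ≠ 0 := by
    intro h0
    apply hvw
    rw [h0, herm_zero_left]
  have hannv := ann_iff (Matrix.toLin' g.val) hp he hv hπ
  rcases hcase with hne | rfl
  · -- the case `tl p ≠ p`: `W = K[g] (v + w)`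
    have ht_irr : Irreducible (tl hK p) := tl_irreducible hK hp hpm hp0
    have ht_monic : (tl hK p).Monic := tl_monic hK hp0
    have hcop : IsCoprime p (tl hK p) := by
      rw [hp.coprime_iff_not_dvd]
      intro hdvd
      apply hne
      exact (eq_of_monic_of_associated hpm ht_monic (hp.associated_of_dvd ht_irr hdvd)).symm
    have hcope : IsCoprime (p ^ e) (tl hK p ^ e) := hcop.pow
    obtain ⟨α, β, hαβ⟩ := hcope
    have h0' : (p ^ (e - 1)).coeff 0 ≠ 0 := coeff_zero_pow_ne hp0 _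
    have key : Cfsg.hermForm n K q (aeval (Matrix.toLin' g.val) (p ^ (e - 1)) v) w =
        (((p ^ (e - 1)).coeff 0) ^ q) ^ q *
          Cfsg.hermForm n K q (aeval (Matrix.toLin' g.val) (X ^ (p ^ (e - 1)).natDegree : K[X]) v)
            (aeval (Matrix.toLin' g.val) (tl hK p ^ (e - 1)) w) := by
      simp only [toLin_aeval_apply]
      have hX : aeval g.val (X ^ (p ^ (e - 1)).natDegree : K[X]) = g.val ^ (p ^ (e - 1)).natDegree := by
        rw [map_pow, aeval_X]
      rw [hX, herm_adj hK (aeval g.val (p ^ (e - 1))) v w,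
        _root_.Cfsg.Agent.Lib.Helper4.SUClass.ct_aeval hK g.val (ct hK g.val) hAB rfl
          (p ^ (e - 1)) h0',
        tl_pow hK hp0, Matrix.smul_mulVec, herm_smul_right, ← Matrix.mulVec_mulVec, ← ct_pow hK,
        ← herm_adj hK]
    have hσ : Cfsg.hermForm n K q (aeval (Matrix.toLin' g.val) (X ^ (p ^ (e - 1)).natDegree : K[X]) v)
        (aeval (Matrix.toLin' g.val) (tl hK p ^ (e - 1)) w) ≠ 0 := by
      intro h0
      apply hvw
      rw [key, h0, mul_zero]
    have hσ' : Cfsg.hermForm n K q (aeval (Matrix.toLin' g.val) (tl hK p ^ (e - 1)) w)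
        (aeval (Matrix.toLin' g.val) (X ^ (p ^ (e - 1)).natDegree : K[X]) v) ≠ 0 := by
      rw [← herm_conj hK]
      exact pow_ne_zero _ hσ
    have hσ0 : aeval (Matrix.toLin' g.val) (tl hK p ^ (e - 1)) w ≠ 0 := by
      intro h0
      apply hσ
      rw [h0, herm_zero_right hK]
    have hannw := ann_iff (Matrix.toLin' g.val) ht_irr he hw hσ0
    -- the idempotents
    have hε1v : aeval (Matrix.toLin' g.val) (β * tl hK p ^ e) v = v := by
      have h1 : aeval (Matrix.toLin' g.val) (α * p ^ e + β * tl hK p ^ e) v = v := by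
        rw [hαβ, map_one, Module.End.one_apply]
      rw [map_add, LinearMap.add_apply, aeval_mul_apply, hv, map_zero, zero_add] at h1
      exact h1
    have hε1w : aeval (Matrix.toLin' g.val) (β * tl hK p ^ e) w = 0 := by
      rw [aeval_mul_apply, hw, map_zero]
    have hε2w : aeval (Matrix.toLin' g.val) (α * p ^ e) w = w := by
      have h1 : aeval (Matrix.toLin' g.val) (α * p ^ e + β * tl hK p ^ e) w = w := by
        rw [hαβ, map_one, Module.End.one_apply]
      rw [map_add, LinearMap.add_apply, aeval_mul_apply (Matrix.toLin' g.val) β, hw, map_zero, add_zero] at h1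
      exact h1
    have hε2v : aeval (Matrix.toLin' g.val) (α * p ^ e) v = 0 := by
      rw [aeval_mul_apply, hv, map_zero]
    have hcompv : ∀ a : K[X], aeval (Matrix.toLin' g.val) a v =
        aeval (Matrix.toLin' g.val) (β * tl hK p ^ e) (aeval (Matrix.toLin' g.val) a (v + w)) := by
      intro a
      rw [← aeval_mul_apply, mul_comm (β * tl hK p ^ e) a, aeval_mul_apply, map_add, hε1v, hε1w,
        add_zero]
    have hcompw : ∀ a : K[X], aeval (Matrix.toLin' g.val) a w =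
        aeval (Matrix.toLin' g.val) (α * p ^ e) (aeval (Matrix.toLin' g.val) a (v + w)) := by
      intro a
      rw [← aeval_mul_apply, mul_comm (α * p ^ e) a, aeval_mul_apply, map_add, hε2v, hε2w,
        zero_add]
    have hannz : ∀ a : K[X], aeval (Matrix.toLin' g.val) a (v + w) = 0 ↔ p ^ e * tl hK p ^ e ∣ a := by
      intro a
      constructor
      · intro ha
        have h1 : p ^ e ∣ a := (hannv a).1 (by rw [hcompv a, ha, map_zero])
        have h2 : tl hK p ^ e ∣ a := (hannw a).1 (by rw [hcompw a, ha, map_zero])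
        exact IsCoprime.mul_dvd ⟨α, β, hαβ⟩ h1 h2
      · intro h
        rw [map_add, (hannv a).2 (dvd_trans (dvd_mul_right _ _) h),
          (hannw a).2 (dvd_trans (dvd_mul_left _ _) h), add_zero]
    have hvW : v ∈ cyc (Matrix.toLin' g.val) (v + w) :=
      mem_cyc.2 ⟨β * tl hK p ^ e, by rw [map_add, hε1v, hε1w, add_zero]⟩
    have hwW : w ∈ cyc (Matrix.toLin' g.val) (v + w) :=
      mem_cyc.2 ⟨α * p ^ e, by rw [map_add, hε2v, hε2w, zero_add]⟩
    have hP1 : p ^ e ∣ (r * (β * tl hK p ^ e) + α * p ^ e) - r :=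
      ⟨α * (1 - r), by linear_combination r * hαβ⟩
    have hP2 : tl hK p ^ e ∣ (r * (β * tl hK p ^ e) + α * p ^ e) - 1 :=
      ⟨β * (r - 1), by linear_combination hαβ⟩
    refine ⟨cyc (Matrix.toLin' g.val) (v + w), r * (β * tl hK p ^ e) + α * p ^ e,
      fun x hx => aeval_mem_cyc _ hx, fun x hx => map_mem_cyc hx, ?_, ?_⟩
    · rw [eq_bot_iff]
      intro x hx
      rw [Submodule.mem_bot]
      by_contra hx0
      obtain ⟨hxW, hxP⟩ := Submodule.mem_inf.1 hx
      obtain ⟨a, rfl⟩ := mem_cyc.1 hxW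
      have hinv := perp_invariant hK g.val hBA (cyc (Matrix.toLin' g.val) (v + w))
        (fun x hx => map_mem_cyc hx)
      have hpoly := aeval_mem_of_invariant (Matrix.toLin' g.val) _ hinv
      by_cases hav : aeval (Matrix.toLin' g.val) a v = 0
      · have haw : aeval (Matrix.toLin' g.val) a w ≠ 0 := by
          intro haw
          apply hx0
          rw [map_add, hav, haw, add_zero]
        obtain ⟨b, hb⟩ := exists_mul_eq_socle (Matrix.toLin' g.val) ht_irr hw a haw
        have hmem := hpoly b _ (hpoly (α * p ^ e) _ hxP)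
        rw [← hcompw a, hb] at hmem
        exact hσ' (hmem _ (aeval_mem_cyc (X ^ (p ^ (e - 1)).natDegree : K[X]) hvW))
      · obtain ⟨b, hb⟩ := exists_mul_eq_socle (Matrix.toLin' g.val) hp hv a hav
        have hmem := hpoly b _ (hpoly (β * tl hK p ^ e) _ hxP)
        rw [← hcompv a, hb] at hmem
        exact hvw (hmem w hwW)
    · rw [det_restrict_cyc hannz, det_mulQ_mul (p ^ e) (tl hK p ^ e) _
          (pow_ne_zero _ hp.ne_zero) (pow_ne_zero _ ht_irr.ne_zero),
        mulQ_congr (p ^ e) _ r hP1, mulQ_congr (tl hK p ^ e) _ 1 hP2, det_mulQ_id, mul_one,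
        det_mulQ_pow p r hp.ne_zero e, hr]
  · -- the self-dual case: `W = K[g] w`
    refine ⟨cyc (Matrix.toLin' g.val) w, r, fun x hx => aeval_mem_cyc r hx,
      fun x hx => map_mem_cyc hx, ?_, ?_⟩
    · rw [eq_bot_iff]
      intro x hx
      rw [Submodule.mem_bot]
      by_contra hx0
      obtain ⟨hxW, hxP⟩ := Submodule.mem_inf.1 hx
      obtain ⟨a, rfl⟩ := mem_cyc.1 hxW
      obtain ⟨b, hb⟩ := exists_mul_eq_socle (Matrix.toLin' g.val) hp hv a hx0
      have hmem := aeval_mem_of_invariant (Matrix.toLin' g.val) _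
        (perp_invariant hK g.val hBA _ (fun x hx => map_mem_cyc hx)) b _ hxP
      rw [hb] at hmem
      exact hvw (hmem w (self_mem_cyc _ w))
    · rw [det_restrict_cyc hannv r, det_mulQ_pow p r hp.ne_zero e, hr]

end Cfsg.Agent.Lib.Helper4.SUClass
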