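import Mathlib
import Cfsg.Prelude.Def_AxialAlgebras

set_option autoImplicit false

/-! Majorana pairs: transport by automorphisms and the decomposition of a commuting axis. -/

namespace Cfsg.Agent.H9Maj

open Cfsg.Axial

variable {V : Type*} [AddCommGroup V] [Module ℝ V]
  {mul : V →ₗ[ℝ] V →ₗ[ℝ] V} {B : LinearMap.BilinForm ℝ V}

theorem mem_eigen (a v : V) (c : ℝ) : v ∈ eigen mul a c ↔ mul a v = c • v :=
  Module.End.mem_eigenspace_iff

theorem eigen_map (σ : V ≃ₗ[ℝ] V) (hσ : ∀ u v : V, σ (mul u v) = mul (σ u) (σ v)) (a : V) (c : ℝ) :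
    eigen mul (σ a) c = (eigen mul a c).map (σ : V →ₗ[ℝ] V) := by
  ext v
  rw [Submodule.mem_map, mem_eigen]
  constructor
  · intro h
    refine ⟨σ.symm v, ?_, by simp⟩
    rw [mem_eigen]
    apply σ.injective
    rw [hσ, LinearEquiv.apply_symm_apply, h, map_smul, LinearEquiv.apply_symm_apply]
  · rintro ⟨u, hu, rfl⟩
    rw [mem_eigen] at hu
    show mul (σ a) (σ u) = c • σ u
    rw [← hσ, hu, map_smul]

theorem eigenSum_map (σ : V ≃ₗ[ℝ] V) (hσ : ∀ u v : V, σ (mul u v) = mul (σ u) (σ v)) (a : V)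
    (S : Set ℝ) : eigenSum mul (σ a) S = (eigenSum mul a S).map (σ : V →ₗ[ℝ] V) := by
  unfold eigenSum
  rw [Submodule.map_iSup]
  congr 1
  funext c
  rw [Submodule.map_iSup]
  congr 1
  funext _
  exact eigen_map σ hσ a c

/-- transport of a Majorana pair by an automorphism -/
theorem transport (σ : V ≃ₗ[ℝ] V) (hσ : ∀ u v : V, σ (mul u v) = mul (σ u) (σ v))
    (hσB : ∀ u v : V, B (σ u) (σ v) = B u v) {μ : V ≃ₗ[ℝ] V} {a : V}
    (h : IsMajoranaPair mul B μ a) : IsMajoranaPair mul B (σ * μ * σ⁻¹) (σ a) := by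
  obtain ⟨hμ, hμB, ⟨⟨ha0, haa, hsum, hfus⟩, hprim⟩, hmiy1, hmiy2⟩ := h
  have hσinv : ∀ u : V, σ⁻¹ u = σ.symm u := fun u => rfl
  have hσ' : ∀ u v : V, σ.symm (mul u v) = mul (σ.symm u) (σ.symm v) := by
    intro u v
    apply σ.injective
    rw [hσ, LinearEquiv.apply_symm_apply, LinearEquiv.apply_symm_apply, LinearEquiv.apply_symm_apply]
  have hσB' : ∀ u v : V, B (σ.symm u) (σ.symm v) = B u v := by
    intro u v
    rw [← hσB, LinearEquiv.apply_symm_apply, LinearEquiv.apply_symm_apply]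
  refine ⟨?_, ?_, ⟨⟨?_, ?_, ?_, ?_⟩, ?_⟩, ?_, ?_⟩
  · intro u v
    show σ (μ (σ⁻¹ (mul u v))) = mul (σ (μ (σ⁻¹ u))) (σ (μ (σ⁻¹ v)))
    rw [hσinv, hσinv, hσinv, hσ', hμ, hσ]
  · intro u v
    show B (σ (μ (σ⁻¹ u))) (σ (μ (σ⁻¹ v))) = B u v
    rw [hσB, hμB, hσinv, hσinv, hσB']
  · intro h0
    apply ha0
    apply σ.injective
    rw [h0, map_zero]
  · rw [← hσ, haa]
  · rw [eigenSum_map σ hσ, hsum, Submodule.map_top]
    exact LinearMap.range_eq_top.2 σ.surjective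
  · intro c hc d hd u hu v hv
    rw [eigen_map σ hσ] at hu hv
    obtain ⟨u, hu, rfl⟩ := hu
    obtain ⟨v, hv, rfl⟩ := hv
    rw [eigenSum_map σ hσ]
    show mul (σ u) (σ v) ∈ _
    rw [← hσ]
    exact Submodule.mem_map_of_mem (hfus c hc d hd u hu v hv)
  · rw [eigen_map σ hσ, hprim, Submodule.map_span, Set.image_singleton]
    rfl
  · intro v hv
    rw [eigenSum_map σ hσ] at hv
    obtain ⟨u, hu, rfl⟩ := hv
    show σ (μ (σ⁻¹ (σ u))) = σ u
    rw [hσinv, LinearEquiv.symm_apply_apply]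
    have := hmiy1 u hu
    exact congrArg σ this
  · intro v hv
    rw [eigen_map σ hσ] at hv
    obtain ⟨u, hu, rfl⟩ := hv
    show σ (μ (σ⁻¹ (σ u))) = -σ u
    rw [hσinv, LinearEquiv.symm_apply_apply]
    have : μ u = -u := hmiy2 u hu
    rw [this, map_neg]

end Cfsg.Agent.H9Maj
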