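import Mathlib
import Cfsg.Agent.Lib.Helper9.Maj1

set_option autoImplicit false

/-! Majorana pairs: decomposition of a commuting axis and the resulting identities. -/

namespace Cfsg.Agent.H9Maj

open Cfsg.Axial

variable {V : Type*} [AddCommGroup V] [Module ℝ V]
  {mul : V →ₗ[ℝ] V →ₗ[ℝ] V} {B : LinearMap.BilinForm ℝ V}

theorem orth (hV : IsMajoranaAmbient mul B) {a u v : V} {c d : ℝ} (hu : mul a u = c • u)
    (hv : mul a v = d • v) (hcd : c ≠ d) : B u v = 0 := by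
  obtain ⟨hcomm, -, -, hassoc, -⟩ := hV
  have h1 := hassoc u a v
  rw [hv, hcomm u a, hu] at h1
  simp only [map_smul, LinearMap.smul_apply, smul_eq_mul] at h1
  have h2 : (c - d) * B u v = 0 := by linear_combination -h1
  rcases mul_eq_zero.1 h2 with h | h
  · exact absurd (sub_eq_zero.1 h) hcd
  · exact h

theorem decomp (hV : IsMajoranaAmbient mul B) {μ₀ μ₁ : V ≃ₗ[ℝ] V} {a₀ a₁ : V}
    (h₀ : IsMajoranaPair mul B μ₀ a₀) (h₁ : IsMajoranaPair mul B μ₁ a₁)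
    (hu₁ : ∀ a : V, IsMajoranaPair mul B μ₁ a → a = a₁) (hc : μ₀ * μ₁ = μ₁ * μ₀)
    (hn₀ : B a₀ a₀ = 1) :
    ∃ α₀ α₄ : V, a₁ = (B a₀ a₁) • a₀ + α₀ + α₄ ∧ mul a₀ α₀ = 0 ∧ mul a₀ α₄ = (1 / 4 : ℝ) • α₄ := by
  have hfix : μ₀ a₁ = a₁ := by
    apply hu₁
    have := transport μ₀ h₀.1 h₀.2.1 h₁
    rwa [hc, mul_inv_cancel_right] at this
  obtain ⟨-, -, ⟨⟨-, haa, hsum, -⟩, hprim⟩, hmiy1, hmiy2⟩ := h₀
  have hmem : a₁ ∈ eigenSum mul a₀ majoranaSpectrum := by rw [hsum]; trivial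
  unfold eigenSum majoranaSpectrum at hmem
  rw [iSup_insert, iSup_insert, iSup_insert, iSup_singleton] at hmem
  obtain ⟨v₁, hv₁, r₁, hr₁, e₁⟩ := Submodule.mem_sup.1 hmem
  obtain ⟨v₀, hv₀, r₂, hr₂, e₂⟩ := Submodule.mem_sup.1 hr₁
  obtain ⟨v₄, hv₄, v₃, hv₃, e₃⟩ := Submodule.mem_sup.1 hr₂
  have hS : ∀ (c : ℝ), c ∈ ({1, 0, 1 / 4} : Set ℝ) → ∀ v ∈ eigen mul a₀ c,
      v ∈ eigenSum mul a₀ {1, 0, 1 / 4} := by
    intro c hc v hv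
    exact (le_iSup₂_of_le (f := fun c (_ : c ∈ ({1, 0, 1 / 4} : Set ℝ)) => eigen mul a₀ c) c hc
      le_rfl) hv
  have f₁ : μ₀ v₁ = v₁ := hmiy1 v₁ (hS 1 (by simp) v₁ hv₁)
  have f₀ : μ₀ v₀ = v₀ := hmiy1 v₀ (hS 0 (by simp) v₀ hv₀)
  have f₄ : μ₀ v₄ = v₄ := hmiy1 v₄ (hS (1 / 4) (by simp) v₄ hv₄)
  have f₃ : μ₀ v₃ = -v₃ := hmiy2 v₃ hv₃
  have hv₃0 : v₃ = 0 := by
    have h1 : a₁ = v₁ + (v₀ + (v₄ + v₃)) := by rw [e₃, e₂, e₁]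
    have h2 : μ₀ a₁ = v₁ + (v₀ + (v₄ + -v₃)) := by
      rw [h1, map_add, map_add, map_add, f₁, f₀, f₄, f₃]
    rw [hfix, h1] at h2
    have h3 : (2 : ℝ) • v₃ = 0 := by
      have : v₁ + (v₀ + (v₄ + v₃)) - (v₁ + (v₀ + (v₄ + -v₃))) = 0 := sub_eq_zero.2 h2
      rw [← this]
      module
    exact (smul_eq_zero.1 h3).resolve_left (by norm_num)
  have hv₁' : v₁ ∈ Submodule.span ℝ {a₀} := by rw [← hprim]; exact hv₁
  obtain ⟨t, rfl⟩ := Submodule.mem_span_singleton.1 hv₁'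
  have hv₀' : mul a₀ v₀ = (0 : ℝ) • v₀ := (mem_eigen a₀ v₀ 0).1 hv₀
  have hv₄' : mul a₀ v₄ = (1 / 4 : ℝ) • v₄ := (mem_eigen a₀ v₄ (1 / 4)).1 hv₄
  have haa' : mul a₀ a₀ = (1 : ℝ) • a₀ := by rw [one_smul]; exact haa
  have hdec : a₁ = t • a₀ + v₀ + v₄ := by
    rw [← e₁, ← e₂, ← e₃, hv₃0, add_zero, add_assoc]
  have ht : t = B a₀ a₁ := by
    rw [hdec]
    simp only [map_add, map_smul, smul_eq_mul, hn₀, orth hV haa' hv₀' (by norm_num),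
      orth hV haa' hv₄' (by norm_num)]
    ring
  refine ⟨v₀, v₄, ?_, ?_, hv₄'⟩
  · rw [← ht]; exact hdec
  · rw [hv₀', zero_smul]

end Cfsg.Agent.H9Maj
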