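import Mathlib
import Cfsg.Agent.Lib.Helper9.Maj2

set_option autoImplicit false

/-! Majorana pairs: the identities satisfied by two commuting axes. -/

namespace Cfsg.Agent.H9Maj

open Cfsg.Axial

variable {V : Type*} [AddCommGroup V] [Module ℝ V]
  {mul : V →ₗ[ℝ] V →ₗ[ℝ] V} {B : LinearMap.BilinForm ℝ V}

theorem law00 : monsterLaw (1 / 4 : ℝ) (1 / 32) 0 0 = {0} := by
  unfold monsterLaw
  rw [if_neg (by norm_num), if_neg (by norm_num), if_neg (by norm_num), if_neg (by norm_num),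
    if_pos rfl]

theorem law04 : monsterLaw (1 / 4 : ℝ) (1 / 32) 0 (1 / 4) = {1 / 4} := by
  unfold monsterLaw
  rw [if_neg (by norm_num), if_neg (by norm_num), if_neg (by norm_num), if_pos (Or.inr rfl)]

theorem law44 : monsterLaw (1 / 4 : ℝ) (1 / 32) (1 / 4) (1 / 4) = {1, 0} := by
  unfold monsterLaw
  rw [if_neg (by norm_num), if_neg (by norm_num), if_pos ⟨rfl, rfl⟩]

theorem pairFacts (hV : IsMajoranaAmbient mul B) {a b : V} (haa : mul a a = a) (hbb : mul b b = b)
    (hna : B a a = 1) (α₀ α₄ : V) (hdec : b = (B a b) • a + α₀ + α₄) (h0 : mul a α₀ = 0)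
    (h4 : mul a α₄ = (1 / 4 : ℝ) • α₄)
    (hfus : ∀ c ∈ majoranaSpectrum, ∀ d ∈ majoranaSpectrum, ∀ u ∈ eigen mul a c, ∀ v ∈ eigen mul a d,
      mul u v ∈ eigenSum mul a (monsterLaw (1 / 4) (1 / 32) c d)) :
    (mul a (mul a b) = (3 * B a b / 4) • a + (1 / 4 : ℝ) • mul a b) ∧
    (mul b (mul a b) = (3 * B a b / 4) • b + (1 / 4 : ℝ) • mul a b →
      (16 : ℝ) • mul (mul a b) (mul a b) = (3 * B a b) • b + (4 * B a b - 1) • mul a b
        + (8 * B a b ^ 2 + 2 * B a b) • a) ∧
    (B a b = 0 → mul a b = 0) := by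
  obtain ⟨hcomm, hsymm, hpos, hassoc, -⟩ := id hV
  set t := B a b with ht
  have hm0 : (0 : ℝ) ∈ majoranaSpectrum := by simp [majoranaSpectrum]
  have hm4 : (1 / 4 : ℝ) ∈ majoranaSpectrum := by simp [majoranaSpectrum]
  have he0 : α₀ ∈ eigen mul a 0 := (mem_eigen a α₀ 0).2 (by rw [h0, zero_smul])
  have he4 : α₄ ∈ eigen mul a (1 / 4) := (mem_eigen a α₄ (1 / 4)).2 h4
  -- fusion
  have f00 : mul a (mul α₀ α₀) = 0 := by
    have := hfus 0 hm0 0 hm0 α₀ he0 α₀ he0
    rw [law00] at this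
    unfold eigenSum at this
    rw [iSup_singleton] at this
    have := (mem_eigen a _ 0).1 this
    rwa [zero_smul] at this
  have f04 : mul a (mul α₀ α₄) = (1 / 4 : ℝ) • mul α₀ α₄ := by
    have := hfus 0 hm0 (1 / 4) hm4 α₀ he0 α₄ he4
    rw [law04] at this
    unfold eigenSum at this
    rw [iSup_singleton] at this
    exact (mem_eigen a _ (1 / 4)).1 this
  obtain ⟨x₁, x₀, hx₁, hx₀, f44⟩ : ∃ x₁ x₀ : V, mul a x₁ = x₁ ∧ mul a x₀ = 0 ∧
      mul α₄ α₄ = x₁ + x₀ := by
    have := hfus (1 / 4) hm4 (1 / 4) hm4 α₄ he4 α₄ he4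
    rw [law44] at this
    unfold eigenSum at this
    rw [iSup_insert, iSup_singleton] at this
    obtain ⟨x₁, hx₁, x₀, hx₀, hsum⟩ := Submodule.mem_sup.1 this
    refine ⟨x₁, x₀, ?_, ?_, hsum.symm⟩
    · have := (mem_eigen a x₁ 1).1 hx₁
      rwa [one_smul] at this
    · have := (mem_eigen a x₀ 0).1 hx₀
      rwa [zero_smul] at this
  -- expansion of b * b
  have hexp : mul b b = (t ^ 2) • a + mul α₀ α₀ + (x₁ + x₀) + (t / 2) • α₄ + (2 : ℝ) • mul α₀ α₄ := by
    have h0' : mul α₀ a = 0 := by rw [hcomm, h0]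
    have h4' : mul α₄ a = (1 / 4 : ℝ) • α₄ := by rw [hcomm, h4]
    have h40 : mul α₄ α₀ = mul α₀ α₄ := hcomm _ _
    rw [← f44]
    conv_lhs => rw [hdec]
    simp only [map_add, map_smul, LinearMap.add_apply, LinearMap.smul_apply, haa, h0, h4, h0', h4',
      h40, smul_zero, add_zero, zero_add]
    module
  rw [hbb] at hexp
  -- the two components
  set X : V := (t ^ 2) • a + mul α₀ α₀ + (x₁ + x₀) - t • a - α₀ with hX
  set Y : V := (t / 2) • α₄ + (2 : ℝ) • mul α₀ α₄ - α₄ with hY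
  have hXY : X + Y = 0 := by
    have h1 : (t ^ 2) • a + mul α₀ α₀ + (x₁ + x₀) + (t / 2) • α₄ + (2 : ℝ) • mul α₀ α₄ - b = 0 := by
      rw [← hexp, sub_self]
    rw [← h1, hX, hY]
    conv_rhs => rw [hdec]
    module
  have haX : mul a X = (t ^ 2) • a + x₁ - t • a := by
    rw [hX]
    simp only [map_add, map_sub, map_smul, haa, f00, hx₁, hx₀, h0]
    module
  have haaX : mul a (mul a X) = mul a X := by
    rw [haX]
    simp only [map_add, map_sub, map_smul, haa, hx₁]
  have haY : mul a Y = (1 / 4 : ℝ) • Y := by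
    rw [hY]
    simp only [map_add, map_sub, map_smul, h4, f04]
    module
  have hY0 : Y = 0 := by
    have e1 : mul a X + (1 / 4 : ℝ) • Y = 0 := by
      have := congrArg (mul a) hXY
      rw [map_add, haY, map_zero] at this
      exact this
    have e2 : mul a X + (1 / 16 : ℝ) • Y = 0 := by
      have := congrArg (mul a) e1
      rw [map_add, haaX, map_smul, haY, map_zero, smul_smul] at this
      norm_num at this
      exact this
    have e3 : (3 / 16 : ℝ) • Y = 0 := by
      have : (mul a X + (1 / 4 : ℝ) • Y) - (mul a X + (1 / 16 : ℝ) • Y) = 0 := by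
        rw [e1, e2, sub_zero]
      rw [← this]
      module
    exact (smul_eq_zero.1 e3).resolve_left (by norm_num)
  -- R0
  have hR0 : (2 : ℝ) • mul α₀ α₄ = (1 - t / 2) • α₄ := by
    have : (t / 2) • α₄ + (2 : ℝ) • mul α₀ α₄ - α₄ = 0 := hY0
    have h2 : (2 : ℝ) • mul α₀ α₄ = ((t / 2) • α₄ + (2 : ℝ) • mul α₀ α₄ - α₄) + (1 - t / 2) • α₄ := by
      module
    rw [h2, this, zero_add]
  -- s
  have hP0 : mul a b = t • a + (1 / 4 : ℝ) • α₄ := by
    conv_lhs => rw [hdec]
    simp only [map_add, map_smul, haa, h0, h4, add_zero]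
  have hα₄ : α₄ = (4 : ℝ) • (mul a b - t • a) := by
    rw [hP0]
    module
  have hα₀ : α₀ = b + (3 * t) • a - (4 : ℝ) • mul a b := by
    rw [hP0]
    conv_rhs => rw [hdec]
    module
  have hP1 : mul a (mul a b) = (3 * t / 4) • a + (1 / 4 : ℝ) • mul a b := by
    rw [hP0]
    simp only [map_add, map_smul, haa, h4]
    module
  refine ⟨hP1, ?_, ?_⟩
  · intro hbs
    set s := mul a b with hs
    have hba : mul b a = s := hcomm b a
    have hsa : mul s a = mul a s := hcomm s a
    have hsb : mul s b = mul b s := hcomm s b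
    have h3 := hR0
    rw [hα₀, hα₄] at h3
    simp only [map_add, map_sub, map_smul, LinearMap.add_apply, LinearMap.sub_apply,
      LinearMap.smul_apply, hba, hsa, haa, hbs, hP1] at h3
    linear_combination (norm := module) (-1 / 2 : ℝ) • h3
  · intro ht0
    have hBs : B (mul a b) b = t := by
      have := hassoc a b b
      rw [hbb] at this
      rw [← this]
    have ha1 : mul a a = (1 : ℝ) • a := by rw [one_smul]; exact haa
    have h0s : mul a α₀ = (0 : ℝ) • α₀ := by rw [h0, zero_smul]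
    have o1 : B α₄ a = 0 := orth hV h4 ha1 (by norm_num)
    have o2 : B α₄ α₀ = 0 := orth hV h4 h0s (by norm_num)
    have o3 : B a α₀ = 0 := orth hV ha1 h0s (by norm_num)
    have o4 : B a α₄ = 0 := orth hV ha1 h4 (by norm_num)
    have h5 : B (mul a b) b = t * t + (1 / 4) * B α₄ α₄ := by
      rw [hP0]
      conv_lhs => rw [hdec]
      simp only [map_add, map_smul, LinearMap.add_apply, LinearMap.smul_apply, smul_eq_mul, hna, o1,
        o2, o3, o4]
      ring
    rw [hBs, ht0] at h5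
    have h6 : B α₄ α₄ = 0 := by linarith
    have h7 : α₄ = 0 := by
      by_contra hne
      have := hpos α₄ hne
      linarith
    rw [hP0, h7, ht0, zero_smul, smul_zero, add_zero]

end Cfsg.Agent.H9Maj
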