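import Mathlib
import Cfsg.Agent.Lib.Helper5.SchmDefs
import Cfsg.Agent.Lib.Lead.ClassTwo
import Cfsg.Agent.Lib.Helper4.OmegaOdd

/-!
# S4394, package PA2: the structure of a non-abelian `p`-group with a minimal `q`-action

`T` a finite non-abelian `p`-group, `φ` an automorphism with `φ^q = 1` (`q ≠ p` prime), `φ ≠ 1`,
such that every proper `φ`-invariant subgroup is fixed pointwise by `φ`.  Then `SE p T`.
-/

set_option autoImplicit false
set_option linter.unusedSectionVars false

namespace Cfsg.Agent.Lib.Helper9.Schm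

open Cfsg.Agent.Lib.Helper5.Schm
open scoped commutatorElement

universe u

/-- The hypotheses on `(T, φ)`. -/
structure MinAct (p q : ℕ) (T : Type u) [Group T] (φ : T ≃* T) : Prop where
  pgrp : IsPGroup p T
  hqp : q ≠ p
  powq : ∀ x : T, (⇑φ)^[q] x = x
  min : ∀ N : Subgroup T, N ≠ ⊤ → (∀ x ∈ N, φ x ∈ N) → ∀ x ∈ N, φ x = x
  nt : ∃ x : T, φ x ≠ x
  nonab : ∃ a b : T, a * b ≠ b * a

section TypeLevel

variable {T : Type u} [Group T] [Finite T] {p q : ℕ} [hp : Fact p.Prime] [hq : Fact q.Prime]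
  {φ : T ≃* T}

/-- The generators `φ x * x⁻¹` of `[T, φ]`. -/
def gens (φ : T ≃* T) : Set T := {y | ∃ x : T, y = φ x * x⁻¹}

theorem iterate_of_fixed (φ : T ≃* T) (x n : T) (hx : φ x = n * x) (hn : φ n = n) (k : ℕ) :
    (⇑φ)^[k] x = n ^ k * x := by
  induction k with
  | zero => simp
  | succ k ih =>
    rw [Function.iterate_succ_apply', ih, map_mul, map_pow, hn, hx, pow_succ, mul_assoc]

theorem eq_one_of_pow_q (h : MinAct p q T φ) (n : T) (hn : n ^ q = 1) : n = 1 := by
  obtain ⟨k, hk⟩ := (IsPGroup.iff_orderOf.mp h.pgrp) n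
  have h1 : orderOf n ∣ q := orderOf_dvd_of_pow_eq_one hn
  have hcop : Nat.Coprime (orderOf n) q := by
    rw [hk]
    apply Nat.Coprime.pow_left
    exact (Nat.coprime_primes hp.out hq.out).mpr (Ne.symm h.hqp)
  have h2 : orderOf n = 1 := Nat.Coprime.eq_one_of_dvd hcop h1
  exact orderOf_eq_one_iff.mp h2

/-- characteristic subgroups are invariant -/
theorem char_apply_mem (H : Subgroup T) [hH : H.Characteristic] (φ : T ≃* T) {d : T}
    (hd : d ∈ H) : φ d ∈ H := by
  have := hH.fixed φ.symm
  rw [← this, Subgroup.mem_comap]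
  simpa using hd

/-- (A3) `[T, φ] = T`. -/
theorem closure_gens_eq_top (h : MinAct p q T φ) : Subgroup.closure (gens φ) = ⊤ := by
  by_contra hne
  have hinv : ∀ y ∈ Subgroup.closure (gens φ), φ y ∈ Subgroup.closure (gens φ) := by
    have : Subgroup.closure (gens φ) ≤ (Subgroup.closure (gens φ)).comap φ.toMonoidHom := by
      rw [Subgroup.closure_le]
      rintro y ⟨x, rfl⟩
      rw [SetLike.mem_coe, Subgroup.mem_comap]
      apply Subgroup.subset_closure
      exact ⟨φ x, by simp⟩
    intro y hy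
    exact this hy
  have hfix := h.min _ hne hinv
  obtain ⟨x, hx⟩ := h.nt
  apply hx
  have hn : φ x * x⁻¹ ∈ Subgroup.closure (gens φ) := Subgroup.subset_closure ⟨x, rfl⟩
  have h1 := iterate_of_fixed φ x (φ x * x⁻¹) (by group) (hfix _ hn) q
  rw [h.powq] at h1
  have h2 : (φ x * x⁻¹) ^ q = 1 := by
    have : (φ x * x⁻¹) ^ q * x = 1 * x := by rw [one_mul]; exact h1.symm
    exact mul_right_cancel this
  have h3 := eq_one_of_pow_q h _ h2
  exact mul_inv_eq_one.mp h3

/-- (G1) an element `a` with `(φ y)⁻¹ a (φ y) = y⁻¹ a y` for all `y` is central, if `[T, φ] = T`. -/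
theorem mem_center_of_conj_eq (htop : Subgroup.closure (gens φ) = ⊤) (a : T)
    (ha : ∀ y : T, (φ y)⁻¹ * a * φ y = y⁻¹ * a * y) : a ∈ Subgroup.center T := by
  have hle : Subgroup.closure (gens φ) ≤ Subgroup.centralizer ({a} : Set T) := by
    rw [Subgroup.closure_le]
    rintro n ⟨y, rfl⟩
    rw [SetLike.mem_coe, Subgroup.mem_centralizer_singleton_iff]
    have := ha y
    calc φ y * y⁻¹ * a = φ y * (y⁻¹ * a * y) * y⁻¹ := by group
      _ = φ y * ((φ y)⁻¹ * a * φ y) * y⁻¹ := by rw [this]
      _ = a * (φ y * y⁻¹) := by group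
  rw [htop] at hle
  rw [Subgroup.mem_center_iff]
  intro g
  have := hle (Subgroup.mem_top g)
  rw [Subgroup.mem_centralizer_singleton_iff] at this
  exact this

/-- `T` is nontrivial and solvable, so `T' ≠ T`. -/
theorem commutator_ne_top (h : MinAct p q T φ) : commutator T ≠ ⊤ := by
  have hnt : Nontrivial T := by
    obtain ⟨a, b, hab⟩ := h.nonab
    refine ⟨a, b, ?_⟩
    rintro rfl
    exact hab rfl
  have hnil : Group.IsNilpotent T := h.pgrp.isNilpotent
  have hsolv : Group.IsSolvable T := IsNilpotent.to_isSolvable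
  exact (Group.IsSolvable.commutator_lt_top_of_nontrivial T).ne

/-- `φ` fixes `T'` pointwise. -/
theorem fixed_of_mem_commutator (h : MinAct p q T φ) : ∀ d ∈ commutator T, φ d = d := by
  apply h.min _ (commutator_ne_top h)
  intro d hd
  exact char_apply_mem (commutator T) φ hd

/-- (A4) `T' ≤ Z(T)`. -/
theorem commutator_le_center (h : MinAct p q T φ) : commutator T ≤ Subgroup.center T := by
  intro d hd
  apply mem_center_of_conj_eq (closure_gens_eq_top h)
  intro y
  have h1 : y⁻¹ * d * y ∈ commutator T := by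
    have := (inferInstance : (commutator T).Normal).conj_mem d hd y⁻¹
    simpa using this
  have h2 := fixed_of_mem_commutator h _ h1
  rw [map_mul, map_mul, map_inv, fixed_of_mem_commutator h d hd] at h2
  exact h2

/-- (A5, first half) fixed points of `φ` are central. -/
theorem mem_center_of_fixed (h : MinAct p q T φ) (x : T) (hx : φ x = x) :
    x ∈ Subgroup.center T := by
  apply mem_center_of_conj_eq (closure_gens_eq_top h)
  intro y
  have h1 : y⁻¹ * x * y * x⁻¹ ∈ commutator T := by
    have : y⁻¹ * x * y * x⁻¹ = ⁅y⁻¹, x⁆ := by rw [commutatorElement_def]; group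
    rw [this]
    exact Subgroup.commutator_mem_commutator (Subgroup.mem_top _) (Subgroup.mem_top _)
  have h2 := fixed_of_mem_commutator h _ h1
  rw [map_mul, map_mul, map_mul, map_inv, map_inv, hx] at h2
  calc (φ y)⁻¹ * x * φ y = ((φ y)⁻¹ * x * φ y * x⁻¹) * x := by group
    _ = (y⁻¹ * x * y * x⁻¹) * x := by rw [h2]
    _ = y⁻¹ * x * y := by group

/-- `Z(T) ≠ T`. -/
theorem center_ne_top (h : MinAct p q T φ) : Subgroup.center T ≠ ⊤ := by
  intro htop
  obtain ⟨a, b, hab⟩ := h.nonab
  apply hab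
  have : a ∈ Subgroup.center T := htop ▸ Subgroup.mem_top a
  exact (Subgroup.mem_center_iff.mp this b).symm

/-- `φ` fixes `Z(T)` pointwise. -/
theorem fixed_of_mem_center (h : MinAct p q T φ) : ∀ z ∈ Subgroup.center T, φ z = z := by
  apply h.min _ (center_ne_top h)
  intro d hd
  exact char_apply_mem (Subgroup.center T) φ hd

theorem fixed_iff (h : MinAct p q T φ) (x : T) : φ x = x ↔ x ∈ Subgroup.center T :=
  ⟨mem_center_of_fixed h x, fixed_of_mem_center h x⟩

/-- (INV) proper `φ`-invariant subgroups are central. -/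
theorem le_center_of_invariant (h : MinAct p q T φ) (N : Subgroup T) (hN : N ≠ ⊤)
    (hinv : ∀ x ∈ N, φ x ∈ N) : N ≤ Subgroup.center T := fun x hx =>
  mem_center_of_fixed h x (h.min N hN hinv x hx)

/-- (A5, second half) `Z(T) ≤ T'`: the norm argument in the abelianization. -/
theorem center_le_commutator (h : MinAct p q T φ) : Subgroup.center T ≤ commutator T := by
  intro x hx
  have hfx : φ x = x := fixed_of_mem_center h x hx
  obtain ⟨ψ, hψdef⟩ : ∃ ψ : Abelianization T →* Abelianization T,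
      ψ = Abelianization.map φ.toMonoidHom := ⟨_, rfl⟩
  have hψ : ∀ t : T, ψ (Abelianization.of t) = Abelianization.of (φ t) := by
    intro t
    rw [hψdef]
    rfl
  have hψit : ∀ (k : ℕ) (t : T),
      (⇑ψ)^[k] (Abelianization.of t) = Abelianization.of ((⇑φ)^[k] t) := by
    intro k
    induction k with
    | zero => intro t; rfl
    | succ k ih =>
      intro t
      rw [Function.iterate_succ_apply, Function.iterate_succ_apply, hψ, ih]
  obtain ⟨Nm, hNm⟩ : ∃ Nm : Abelianization T →* Abelianization T,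
      ∀ w, Nm w = ∏ i ∈ Finset.range q, (⇑ψ)^[i] w := by
    refine ⟨MonoidHom.mk' (fun w => ∏ i ∈ Finset.range q, (⇑ψ)^[i] w) ?_, fun w => rfl⟩
    intro a b
    simp only [iterate_map_mul, Finset.prod_mul_distrib]
  -- `Nm` kills the generators
  have h1 : ∀ t : T, Nm (Abelianization.of (φ t * t⁻¹)) = 1 := by
    intro t
    rw [hNm]
    have hterm : ∀ i : ℕ, (⇑ψ)^[i] (Abelianization.of (φ t * t⁻¹)) =
        Abelianization.of ((⇑φ)^[i + 1] t) / Abelianization.of ((⇑φ)^[i] t) := by
      intro i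
      rw [hψit, ← map_div]
      congr 1
      rw [div_eq_mul_inv, iterate_map_mul, iterate_map_inv, Function.iterate_succ_apply]
    simp only [hterm]
    rw [Finset.prod_range_div (fun i => Abelianization.of ((⇑φ)^[i] t))]
    simp [h.powq]
  have h2 : ∀ t : T, Nm (Abelianization.of t) = 1 := by
    have hker : Subgroup.closure (gens φ) ≤ (Nm.comp Abelianization.of).ker := by
      rw [Subgroup.closure_le]
      rintro y ⟨t, rfl⟩
      rw [SetLike.mem_coe, MonoidHom.mem_ker]
      exact h1 t
    rw [closure_gens_eq_top h] at hker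
    intro t
    exact MonoidHom.mem_ker.mp (hker (Subgroup.mem_top t))
  have h3 : Nm (Abelianization.of x) = Abelianization.of x ^ q := by
    rw [hNm]
    have : ∀ i ∈ Finset.range q, (⇑ψ)^[i] (Abelianization.of x) = Abelianization.of x := by
      intro i _
      rw [hψit, Function.iterate_fixed hfx]
    rw [Finset.prod_congr rfl this, Finset.prod_const, Finset.card_range]
  have h4 : x ^ q ∈ commutator T := by
    rw [← Abelianization.ker_of, MonoidHom.mem_ker, map_pow, ← h3]
    exact h2 x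
  obtain ⟨k, hk⟩ := (IsPGroup.iff_orderOf.mp h.pgrp) x
  have hcop : Nat.Coprime q (orderOf x) := by
    rw [hk]
    apply Nat.Coprime.pow_right
    exact (Nat.coprime_primes hq.out hp.out).mpr h.hqp
  obtain ⟨m, hm⟩ := exists_pow_eq_self_of_coprime hcop
  rw [← hm]
  exact Subgroup.pow_mem _ h4 m

/-- commutators are central -/
theorem comm_mem_center (h : MinAct p q T φ) (a b : T) : ⁅a, b⁆ ∈ Subgroup.center T :=
  commutator_le_center h
    (Subgroup.commutator_mem_commutator (Subgroup.mem_top a) (Subgroup.mem_top b))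

/-- a non-central element -/
theorem exists_not_mem_center (h : MinAct p q T φ) : ∃ a : T, a ∉ Subgroup.center T := by
  obtain ⟨a, b, hab⟩ := h.nonab
  refine ⟨a, fun ha => hab ?_⟩
  exact (Subgroup.mem_center_iff.mp ha b).symm

/-- (A6) `p`-th powers are central. -/
theorem pow_p_mem_center (h : MinAct p q T φ) (x : T) : x ^ p ∈ Subgroup.center T := by
  have hc := comm_mem_center h
  obtain ⟨N, hN⟩ : ∃ N : Subgroup T, ∀ x, x ∈ N ↔ x ^ p ∈ Subgroup.center T := by
    refine ⟨{ carrier := {x | x ^ p ∈ Subgroup.center T}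
              mul_mem' := ?_
              one_mem' := ?_
              inv_mem' := ?_ }, fun x => Iff.rfl⟩
    · intro a b ha hb
      rw [Set.mem_ofPred_eq] at ha hb ⊢
      rw [Cfsg.Agent.Lib.Lead.mul_pow_of_class_two hc a b p]
      exact mul_mem (mul_mem ha hb) (pow_mem (hc b a) _)
    · rw [Set.mem_ofPred_eq, one_pow]
      exact one_mem _
    · intro a ha
      rw [Set.mem_ofPred_eq] at ha ⊢
      rw [inv_pow]
      exact inv_mem ha
  by_cases htop : N = ⊤
  · rw [← hN, htop]
    exact Subgroup.mem_top x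
  · exfalso
    have hinv : ∀ x ∈ N, φ x ∈ N := by
      intro x hx
      rw [hN] at hx ⊢
      rw [← map_pow, fixed_of_mem_center h _ hx]
      exact hx
    have hle := le_center_of_invariant h N htop hinv
    obtain ⟨a, ha⟩ := exists_not_mem_center h
    classical
    have hex : ∃ k : ℕ, a ^ (p ^ k) ∈ Subgroup.center T := by
      obtain ⟨k, hk⟩ := h.pgrp a
      exact ⟨k, hk ▸ one_mem _⟩
    have hk0 : Nat.find hex ≠ 0 := by
      intro h0
      have := Nat.find_spec hex
      rw [h0, pow_zero, pow_one] at this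
      exact ha this
    obtain ⟨k, hk⟩ := Nat.exists_eq_succ_of_ne_zero hk0
    have h1 : a ^ (p ^ k) ∉ Subgroup.center T := Nat.find_min hex (by omega)
    apply h1
    apply hle
    rw [hN, ← pow_mul, ← pow_succ, ← Nat.succ_eq_add_one, ← hk]
    exact Nat.find_spec hex

/-- `x ↦ y x y⁻¹ x⁻¹` is a homomorphism (class two). -/
theorem exists_commHom (h : MinAct p q T φ) (y : T) :
    ∃ c : T →* T, ∀ x, c x = y * x * y⁻¹ * x⁻¹ := by
  refine ⟨MonoidHom.mk' (fun x => y * x * y⁻¹ * x⁻¹) ?_, fun x => rfl⟩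
  intro a b
  have hc : ⁅y, b⁆ ∈ Subgroup.center T := comm_mem_center h y b
  rw [commutatorElement_def] at hc
  have h1 := Subgroup.mem_center_iff.mp hc a⁻¹
  calc y * (a * b) * y⁻¹ * (a * b)⁻¹ = y * a * y⁻¹ * ((y * b * y⁻¹ * b⁻¹) * a⁻¹) := by group
    _ = y * a * y⁻¹ * (a⁻¹ * (y * b * y⁻¹ * b⁻¹)) := by rw [h1]
    _ = y * a * y⁻¹ * a⁻¹ * (y * b * y⁻¹ * b⁻¹) := by group

/-- (A7) for a non-central `y`, every central element is a commutator `y g y⁻¹ g⁻¹`. -/
theorem exists_comm_eq (h : MinAct p q T φ) (y : T) (hy : y ∉ Subgroup.center T) (z : T)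
    (hz : z ∈ Subgroup.center T) : ∃ g : T, y * g * y⁻¹ * g⁻¹ = z := by
  obtain ⟨c, hc⟩ := exists_commHom h y
  have hcen : ∀ a b : T, a * b * a⁻¹ * b⁻¹ ∈ Subgroup.center T := by
    intro a b
    have := comm_mem_center h a b
    rwa [commutatorElement_def] at this
  obtain ⟨N, hN⟩ : ∃ N : Subgroup T, ∀ y', y' ∈ N ↔ ∀ x, y' * x * y'⁻¹ * x⁻¹ ∈ c.range := by
    refine ⟨{ carrier := {y' | ∀ x, y' * x * y'⁻¹ * x⁻¹ ∈ c.range}
              mul_mem' := ?_
              one_mem' := ?_
              inv_mem' := ?_ }, fun x => Iff.rfl⟩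
    · intro a b ha hb x
      have h1 := Subgroup.mem_center_iff.mp (hcen b x) a
      have : a * b * x * (a * b)⁻¹ * x⁻¹ = (b * x * b⁻¹ * x⁻¹) * (a * x * a⁻¹ * x⁻¹) := by
        calc a * b * x * (a * b)⁻¹ * x⁻¹ = (a * (b * x * b⁻¹ * x⁻¹)) * x * a⁻¹ * x⁻¹ := by group
          _ = ((b * x * b⁻¹ * x⁻¹) * a) * x * a⁻¹ * x⁻¹ := by rw [h1]
          _ = (b * x * b⁻¹ * x⁻¹) * (a * x * a⁻¹ * x⁻¹) := by group
      rw [this]
      exact mul_mem (hb x) (ha x)
    · intro x
      simp
    · intro a ha x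
      have h1 := Subgroup.mem_center_iff.mp (hcen a x) a⁻¹
      have : a⁻¹ * x * a⁻¹⁻¹ * x⁻¹ = (a * x * a⁻¹ * x⁻¹)⁻¹ := by
        calc a⁻¹ * x * a⁻¹⁻¹ * x⁻¹ = (a⁻¹ * (a * x * a⁻¹ * x⁻¹) * a)⁻¹ := by group
          _ = ((a * x * a⁻¹ * x⁻¹) * a⁻¹ * a)⁻¹ := by rw [h1]
          _ = (a * x * a⁻¹ * x⁻¹)⁻¹ := by group
      rw [this]
      exact inv_mem (ha x)
  have hyN : y ∈ N := by
    rw [hN]
    intro x
    exact ⟨x, hc x⟩
  have hinv : ∀ x ∈ N, φ x ∈ N := by
    intro a ha
    rw [hN] at ha ⊢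
    intro x
    have h1 := ha (φ.symm x)
    have h2 : φ (a * φ.symm x * a⁻¹ * (φ.symm x)⁻¹) = a * φ.symm x * a⁻¹ * (φ.symm x)⁻¹ :=
      fixed_of_mem_center h _ (hcen a (φ.symm x))
    rw [← h2] at h1
    simpa using h1
  have htop : N = ⊤ := by
    by_contra hne
    exact hy (le_center_of_invariant h N hne hinv hyN)
  have hle : commutator T ≤ c.range := by
    rw [commutator_def, Subgroup.commutator_le]
    intro a _ b _
    have : a ∈ N := htop ▸ Subgroup.mem_top a
    rw [hN] at this
    rw [commutatorElement_def]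
    exact this b
  obtain ⟨g, hg⟩ := hle (center_le_commutator h hz)
  exact ⟨g, by rw [← hc, hg]⟩

/-- `|Z(T)|² < |T|`. -/
theorem card_center_sq_lt (h : MinAct p q T φ) :
    Nat.card (Subgroup.center T) * Nat.card (Subgroup.center T) < Nat.card T := by
  obtain ⟨y, hy⟩ := exists_not_mem_center h
  obtain ⟨c, hc⟩ := exists_commHom h y
  have hrange : c.range = Subgroup.center T := by
    ext z
    constructor
    · rintro ⟨x, rfl⟩
      rw [hc]
      have := comm_mem_center h y x
      rwa [commutatorElement_def] at this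
    · intro hz
      obtain ⟨g, hg⟩ := exists_comm_eq h y hy z hz
      exact ⟨g, by rw [hc, hg]⟩
  have hle : Subgroup.center T ≤ c.ker := by
    intro z hz
    rw [MonoidHom.mem_ker, hc]
    have := Subgroup.mem_center_iff.mp hz y
    rw [this]
    group
  have hyk : y ∈ c.ker := by
    rw [MonoidHom.mem_ker, hc]
    group
  have hlt : Nat.card (Subgroup.center T) < Nat.card c.ker := by
    by_contra hcon
    push Not at hcon
    have := Subgroup.eq_of_le_of_card_ge hle hcon
    exact hy (this ▸ hyk)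
  have h1 : Nat.card c.ker * Nat.card (Subgroup.center T) = Nat.card T := by
    rw [← hrange, ← Subgroup.index_ker]
    exact Subgroup.card_mul_index c.ker
  rw [← h1]
  exact Nat.mul_lt_mul_of_pos_right hlt Nat.card_pos

/-- (A8) exponent `p` for odd `p`. -/
theorem pow_p_eq_one (h : MinAct p q T φ) (hp2 : p ≠ 2) (x : T) : x ^ p = 1 := by
  have hc := comm_mem_center h
  have hpow := pow_p_mem_center h
  obtain ⟨P, hP⟩ : ∃ P : T →* T, ∀ x, P x = x ^ p :=
    ⟨MonoidHom.mk' (fun x => x ^ p)
      (Cfsg.Agent.Lib.Helper4.mul_pow_prime_of_central hp2 hc hpow), fun x => rfl⟩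
  by_cases htop : P.ker = ⊤
  · have : x ∈ P.ker := htop ▸ Subgroup.mem_top x
    rw [MonoidHom.mem_ker, hP] at this
    exact this
  · exfalso
    have hinv : ∀ x ∈ P.ker, φ x ∈ P.ker := by
      intro a ha
      rw [MonoidHom.mem_ker, hP] at ha ⊢
      rw [← map_pow, ha, map_one]
    have hle := le_center_of_invariant h _ htop hinv
    have hrange : P.range ≤ Subgroup.center T := by
      rintro _ ⟨a, rfl⟩
      rw [hP]
      exact hpow a
    have h1 : Nat.card P.ker * Nat.card P.range = Nat.card T := by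
      rw [← Subgroup.index_ker]
      exact Subgroup.card_mul_index P.ker
    have h2 := card_center_sq_lt h
    have h3 : Nat.card P.ker * Nat.card P.range ≤
        Nat.card (Subgroup.center T) * Nat.card (Subgroup.center T) :=
      Nat.mul_le_mul (Subgroup.card_le_of_le hle) (Subgroup.card_le_of_le hrange)
    omega

/-- A subgroup `C` which is `φ`-invariant and contains `u`, all of whose elements commute with
`u`: then `u` is central. -/
theorem mem_center_of_invariant_centralizer (h : MinAct p q T φ) (u : T)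
    (hinv : ∀ x : T, x * u = u * x → φ x * u = u * φ x) : u ∈ Subgroup.center T := by
  have hinv' : ∀ x ∈ Subgroup.centralizer ({u} : Set T), φ x ∈ Subgroup.centralizer ({u} : Set T) := by
    intro x hx
    rw [Subgroup.mem_centralizer_singleton_iff] at hx ⊢
    exact hinv x hx
  have hu : u ∈ Subgroup.centralizer ({u} : Set T) := by
    rw [Subgroup.mem_centralizer_singleton_iff]
  by_cases htop : Subgroup.centralizer ({u} : Set T) = ⊤
  · rw [Subgroup.mem_center_iff]
    intro g
    have : g ∈ Subgroup.centralizer ({u} : Set T) := htop ▸ Subgroup.mem_top g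
    exact Subgroup.mem_centralizer_singleton_iff.mp this
  · exact le_center_of_invariant h _ htop hinv' hu

/-- (N') if `φ u` is a conjugate `w⁻¹ u w` of `u` then `u` is central. -/
theorem mem_center_of_apply_eq_conj (h : MinAct p q T φ) (u w : T) (hu : φ u = w⁻¹ * u * w) :
    u ∈ Subgroup.center T := by
  apply mem_center_of_invariant_centralizer h
  intro x hx
  have hc : ⁅u⁻¹, w⁻¹⁆ ∈ Subgroup.center T := comm_mem_center h _ _
  have hu' : φ u = u * ⁅u⁻¹, w⁻¹⁆ := by rw [hu, commutatorElement_def]; group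
  have h1 : φ x * φ u = φ u * φ x := by rw [← map_mul, hx, map_mul]
  rw [hu'] at h1
  have h2 := Subgroup.mem_center_iff.mp hc (φ x)
  have h3 : φ x * u * ⁅u⁻¹, w⁻¹⁆ = u * φ x * ⁅u⁻¹, w⁻¹⁆ := by
    calc φ x * u * ⁅u⁻¹, w⁻¹⁆ = φ x * (u * ⁅u⁻¹, w⁻¹⁆) := by group
      _ = u * ⁅u⁻¹, w⁻¹⁆ * φ x := h1
      _ = u * (⁅u⁻¹, w⁻¹⁆ * φ x) := by group
      _ = u * (φ x * ⁅u⁻¹, w⁻¹⁆) := by rw [h2]
      _ = u * φ x * ⁅u⁻¹, w⁻¹⁆ := by group
  exact mul_right_cancel h3

/-- (N'') if `φ y = y⁻¹ z` with `z` central then `y` is central. -/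
theorem mem_center_of_apply_eq_inv_mul (h : MinAct p q T φ) (y z : T)
    (hz : z ∈ Subgroup.center T) (hy : φ y = y⁻¹ * z) : y ∈ Subgroup.center T := by
  apply mem_center_of_invariant_centralizer h
  intro x hx
  have h1 : φ x * φ y = φ y * φ x := by rw [← map_mul, hx, map_mul]
  rw [hy] at h1
  have h2 := Subgroup.mem_center_iff.mp hz (φ x)
  have h3 : φ x * y⁻¹ = y⁻¹ * φ x := by
    have : φ x * y⁻¹ * z = y⁻¹ * φ x * z := by
      calc φ x * y⁻¹ * z = φ x * (y⁻¹ * z) := by group
        _ = y⁻¹ * z * φ x := h1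
        _ = y⁻¹ * (z * φ x) := by group
        _ = y⁻¹ * (φ x * z) := by rw [h2]
        _ = y⁻¹ * φ x * z := by group
    exact mul_right_cancel this
  calc φ x * y = y * (y⁻¹ * φ x) * y := by group
    _ = y * (φ x * y⁻¹) * y := by rw [h3]
    _ = y * φ x := by group

/-- `q = 2` is impossible. -/
theorem q_ne_two (h : MinAct p q T φ) : q ≠ 2 := by
  intro hq2
  obtain ⟨a, ha⟩ := exists_not_mem_center h
  apply ha
  have hpow : φ (φ a) = a := by
    have := h.powq a
    rw [hq2] at this
    exact this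
  have hu : a * φ a ∈ Subgroup.center T := by
    apply mem_center_of_apply_eq_conj h (a * φ a) a
    rw [map_mul, hpow]
    group
  apply mem_center_of_apply_eq_inv_mul h a (a * φ a) hu
  group

theorem mulAut_pow_apply (ψ : MulAut T) (k : ℕ) (x : T) : (ψ ^ k) x = (⇑ψ)^[k] x := by
  induction k generalizing x with
  | zero => simp
  | succ k ih =>
    rw [pow_succ, MulAut.mul_apply, ih, Function.iterate_succ_apply]

/-- the fixed point congruence: `|T| ≡ |Z(T)| (mod q)`. -/
theorem card_modEq_card_center (h : MinAct p q T φ) :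
    Nat.card T ≡ Nat.card (Subgroup.center T) [MOD q] := by
  have hφq : (φ : MulAut T) ^ q = 1 := by
    ext x
    rw [mulAut_pow_apply, h.powq]
    rfl
  have hGq : IsPGroup q (Subgroup.zpowers (φ : MulAut T)) := by
    intro g
    obtain ⟨n, hn⟩ := Subgroup.mem_zpowers_iff.mp g.2
    refine ⟨1, ?_⟩
    apply Subtype.ext
    rw [pow_one, Subgroup.coe_pow, Subgroup.coe_one, ← hn, ← zpow_natCast, ← zpow_mul, mul_comm,
      zpow_mul, zpow_natCast, hφq, one_zpow]
  have h1 := hGq.card_modEq_card_fixedPoints T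
  have h2 : MulAction.fixedPoints (Subgroup.zpowers (φ : MulAut T)) T =
      ((Subgroup.center T : Subgroup T) : Set T) := by
    ext x
    rw [MulAction.mem_fixedPoints, SetLike.mem_coe, ← fixed_iff h]
    constructor
    · intro hx
      exact hx ⟨φ, Subgroup.mem_zpowers _⟩
    · intro hx g
      have hle : Subgroup.zpowers (φ : MulAut T) ≤ MulAction.stabilizer (MulAut T) x := by
        rw [Subgroup.zpowers_le, MulAction.mem_stabilizer_iff]
        exact hx
      exact MulAction.mem_stabilizer_iff.mp (hle g.2)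
  rw [h2] at h1
  exact h1

/-- `|Z(T)| = p` when `|T| = p³`. -/
theorem card_center_of_card_cube (h : MinAct p q T φ) (hcard : Nat.card T = p ^ 3) :
    Nat.card (Subgroup.center T) = p := by
  have hpp : p.Prime := hp.out
  have hnt : Nontrivial T := by
    obtain ⟨a, b, hab⟩ := h.nonab
    exact ⟨a, b, fun hh => hab (hh ▸ rfl)⟩
  have hZnt : Nontrivial (Subgroup.center T) := h.pgrp.center_nontrivial
  obtain ⟨a, ha⟩ := IsPGroup.iff_card.mp (h.pgrp.to_subgroup (Subgroup.center T))
  have h1 := card_center_sq_lt h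
  rw [ha, hcard, ← pow_add] at h1
  have h2 : a + a < 3 := (Nat.pow_lt_pow_iff_right hpp.one_lt).mp h1
  have h3 : a ≠ 0 := by
    intro h0
    rw [h0, pow_zero] at ha
    have := (Nat.card_eq_one_iff_unique.mp ha).1
    exact not_subsingleton _ this
  have : a = 1 := by omega
  rw [ha, this, pow_one]

/-- the case `p = 2`, `q = 3` of `small` -/
theorem not_small_two (h : MinAct 2 3 T φ) (hcard : Nat.card T = 2 ^ 3) (R : Subgroup T)
    (hR : Nat.card R = 2 ^ 2) (hRexp : ∀ x ∈ R, x ^ 2 = 1) : False := by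
  have hZ := card_center_of_card_cube h hcard
  have hpow3 : ∀ x : T, φ (φ (φ x)) = x := fun x => h.powq x
  -- an element of `R` outside the centre
  obtain ⟨r, hrR, hrZ⟩ : ∃ r ∈ R, r ∉ Subgroup.center T := by
    by_contra hcon
    push Not at hcon
    have : R ≤ Subgroup.center T := hcon
    have := Subgroup.card_le_of_le this
    rw [hR, hZ] at this
    omega
  have hr2 : r ^ 2 = 1 := hRexp r hrR
  have hr'2 : (φ r) ^ 2 = 1 := by rw [← map_pow, hr2, map_one]
  have hr''2 : (φ (φ r)) ^ 2 = 1 := by rw [← map_pow, hr'2, map_one]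
  have hu : r * φ r * φ (φ r) ∈ Subgroup.center T := by
    apply mem_center_of_apply_eq_conj h _ r
    rw [map_mul, map_mul, hpow3]
    group
  have hu2 : (r * φ r * φ (φ r)) ^ 2 = 1 := by
    have := pow_card_eq_one' (G := Subgroup.center T) (x := ⟨_, hu⟩)
    rw [hZ] at this
    exact congrArg Subtype.val this
  -- `r` and `φ r` commute
  have hsq : (r * φ r) ^ 2 = 1 := by
    have h1 : r * φ r = (r * φ r * φ (φ r)) * (φ (φ r))⁻¹ := by group
    have hcm : Commute (r * φ r * φ (φ r)) (φ (φ r))⁻¹ :=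
      (Subgroup.mem_center_iff.mp hu _).symm
    rw [h1, hcm.mul_pow, hu2, inv_pow, hr''2]
    simp
  have hcomm : r * φ r = φ r * r := by
    have h1 := Cfsg.Agent.Lib.Lead.mul_pow_of_class_two (comm_mem_center h) r (φ r) 2
    rw [hsq, hr2, hr'2] at h1
    have h2 : ⁅φ r, r⁆ = 1 := by
      have : Nat.choose 2 2 = 1 := by decide
      rw [this, pow_one, one_mul, one_mul] at h1
      exact h1.symm
    exact ((commutatorElement_eq_one_iff_commute.mp h2).eq).symm
  have hcomm' : φ r * φ (φ r) = φ (φ r) * φ r := by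
    rw [← map_mul, hcomm, map_mul]
  have hcomm'' : φ (φ r) * r = r * φ (φ r) := by
    have := congrArg φ hcomm'
    rw [map_mul, map_mul, hpow3] at this
    exact this
  -- the centralizer of `{r, φ r, φ² r}` is `φ`-invariant
  obtain ⟨C, hC⟩ : ∃ C : Subgroup T,
      C = Subgroup.centralizer ({r, φ r, φ (φ r)} : Set T) := ⟨_, rfl⟩
  have hmemC : ∀ x : T, x ∈ C ↔ (r * x = x * r ∧ φ r * x = x * φ r ∧ φ (φ r) * x = x * φ (φ r)) := by
    intro x
    rw [hC, Subgroup.mem_centralizer_iff]
    constructor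
    · intro hx
      exact ⟨hx r (by simp), hx (φ r) (by simp), hx (φ (φ r)) (by simp)⟩
    · rintro ⟨h1, h2, h3⟩ y hy
      simp only [Set.mem_insert_iff, Set.mem_singleton_iff] at hy
      rcases hy with rfl | rfl | rfl
      · exact h1
      · exact h2
      · exact h3
  have hrC : r ∈ C := by
    rw [hmemC]
    exact ⟨rfl, hcomm.symm, hcomm''⟩
  have hinvC : ∀ x ∈ C, φ x ∈ C := by
    intro x hx
    rw [hmemC] at hx ⊢
    obtain ⟨h1, h2, h3⟩ := hx
    refine ⟨?_, ?_, ?_⟩
    · have := congrArg φ h3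
      rw [map_mul, map_mul, hpow3] at this
      exact this
    · have := congrArg φ h1
      rw [map_mul, map_mul] at this
      exact this
    · have := congrArg φ h2
      rw [map_mul, map_mul] at this
      exact this
  apply hrZ
  by_cases htop : C = ⊤
  · rw [Subgroup.mem_center_iff]
    intro g
    have : g ∈ C := htop ▸ Subgroup.mem_top g
    rw [hmemC] at this
    exact this.1.symm
  · exact le_center_of_invariant h C htop hinvC hrC

/-- (A9) `small`. -/
theorem not_small (h : MinAct p q T φ) (hp3 : p ≤ 3) :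
    ¬ (Nat.card T = p ^ 3 ∧ ∃ R : Subgroup T, Nat.card R = p ^ 2 ∧ ∀ x ∈ R, x ^ p = 1) := by
  rintro ⟨hcard, R, hR, hRexp⟩
  have hpp : p.Prime := hp.out
  have hqq : q.Prime := hq.out
  have hZ := card_center_of_card_cube h hcard
  have hmod := card_modEq_card_center h
  rw [hcard, hZ] at hmod
  have hq2 := q_ne_two h
  have hqp := h.hqp
  have hp2 := hpp.two_le
  have hdvd : q ∣ p ^ 3 - p :=
    (Nat.modEq_iff_dvd' (Nat.le_self_pow (by norm_num) p)).mp hmod.symm
  have hcases : p = 2 ∨ p = 3 := by omega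
  rcases hcases with rfl | rfl
  · -- `q ∣ 6`
    have h6 : q ∣ 2 * 3 := by simpa using hdvd
    rcases (Nat.Prime.dvd_mul hqq).mp h6 with h2 | h3
    · exact hq2 ((Nat.prime_dvd_prime_iff_eq hqq Nat.prime_two).mp h2)
    · have : q = 3 := (Nat.prime_dvd_prime_iff_eq hqq Nat.prime_three).mp h3
      subst this
      exact not_small_two h hcard R hR hRexp
  · -- `q ∣ 24`
    have h24 : q ∣ 2 ^ 3 * 3 := by simpa using hdvd
    rcases (Nat.Prime.dvd_mul hqq).mp h24 with h2 | h3
    · exact hq2 ((Nat.prime_dvd_prime_iff_eq hqq Nat.prime_two).mp (hqq.dvd_of_dvd_pow h2))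
    · exact hqp ((Nat.prime_dvd_prime_iff_eq hqq Nat.prime_three).mp h3)

/-- **PA2, type level**: `SE p T`. -/
theorem se_of_minAct (h : MinAct p q T φ) : SE p T where
  cls := by
    intro x y z
    have := comm_mem_center h x y
    rw [commutatorElement_def] at this
    exact (Subgroup.mem_center_iff.mp this z).symm
  pw := by
    intro x z
    exact (Subgroup.mem_center_iff.mp (pow_p_mem_center h x) z).symm
  semi := by
    intro y hy z hz
    apply exists_comm_eq h y
    · intro hyc
      obtain ⟨x, hx⟩ := hy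
      exact hx (Subgroup.mem_center_iff.mp hyc x).symm
    · rw [Subgroup.mem_center_iff]
      intro g
      exact (hz g).symm
  exp := fun hp2 x => pow_p_eq_one h hp2 x
  small := not_small h

end TypeLevel

section Ambient

variable {X : Type u} [Group X] [Finite X]

/-- In a finite group, `g` normalizes `N` as soon as it conjugates `N` into itself. -/
theorem mem_normalizer_of_conj_mem (N : Subgroup X) (g : X)
    (h : ∀ n ∈ N, g * n * g⁻¹ ∈ N) : g ∈ Subgroup.normalizer (N : Set X) := by
  rw [Subgroup.mem_normalizer_iff_map_conj_eq]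
  have hle : N.map (MulAut.conj g).toMonoidHom ≤ N := by
    rintro _ ⟨n, hn, rfl⟩
    exact h n hn
  apply Subgroup.eq_of_le_of_card_ge hle
  rw [Subgroup.card_map_of_injective (MulAut.conj g).injective]

theorem iterate_conjNormal (P : Subgroup X) [P.Normal] (g : X) (k : ℕ) (x : P) :
    (((⇑(MulAut.conjNormal g : MulAut P))^[k] x : P) : X) = g ^ k * x * (g ^ k)⁻¹ := by
  induction k generalizing x with
  | zero => simp
  | succ k ih =>
    rw [Function.iterate_succ_apply, ih, MulAut.conjNormal_apply, pow_succ]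
    group

/-- **PA2**: the structure of a non-abelian normal `p`-subgroup `P` on which a `q`-element `g`
acts with the minimality property (M). -/
theorem se_of_min_action {p q : ℕ} [Fact p.Prime] [Fact q.Prime] (hqp : q ≠ p)
    (P : Subgroup X) (hPn : P.Normal) (hP : IsPGroup p P) (g : X)
    (_hg : IsPGroup q (Subgroup.zpowers g))
    (hgq : ∀ x ∈ P, g ^ q * x = x * g ^ q)
    (hM : ∀ N : Subgroup X, N ≤ P → N ≠ P → g ∈ Subgroup.normalizer (N : Set X) →
      ∀ x ∈ N, g * x = x * g)
    (hNT : ∃ x ∈ P, g * x ≠ x * g)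
    (hnonab : ∃ a ∈ P, ∃ b ∈ P, a * b ≠ b * a) : SE p ↥P := by
  have := hPn
  apply se_of_minAct (q := q) (φ := (MulAut.conjNormal g : MulAut P))
  refine ⟨hP, hqp, ?_, ?_, ?_, ?_⟩
  · intro x
    apply Subtype.ext
    rw [iterate_conjNormal, hgq x x.2]
    group
  · intro N hN hinv x hx
    have hN'P : N.map P.subtype ≤ P := Subgroup.map_subtype_le N
    have hN'ne : N.map P.subtype ≠ P := by
      intro heq
      apply hN
      apply Subgroup.map_injective P.subtype_injective
      rw [heq, ← MonoidHom.range_eq_map, Subgroup.range_subtype]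
    have hnorm : g ∈ Subgroup.normalizer ((N.map P.subtype : Subgroup X) : Set X) := by
      apply mem_normalizer_of_conj_mem
      rintro _ ⟨n, hn, rfl⟩
      refine ⟨MulAut.conjNormal g n, hinv n hn, ?_⟩
      simp [MulAut.conjNormal_apply]
    have := hM _ hN'P hN'ne hnorm (x : X) ⟨x, hx, rfl⟩
    apply Subtype.ext
    rw [MulAut.conjNormal_apply, this]
    group
  · obtain ⟨x, hx, hgx⟩ := hNT
    refine ⟨⟨x, hx⟩, fun heq => hgx ?_⟩
    have := congrArg Subtype.val heq
    rw [MulAut.conjNormal_apply] at this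
    calc g * x = g * x * g⁻¹ * g := by group
      _ = x * g := by rw [this]
  · obtain ⟨a, ha, b, hb, hab⟩ := hnonab
    exact ⟨⟨a, ha⟩, ⟨b, hb⟩, fun heq => hab (congrArg Subtype.val heq)⟩

end Ambient

end Cfsg.Agent.Lib.Helper9.Schm
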