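import Mathlib
import Cfsg.Agent.Lib.Helper5.SchmDefs
import Cfsg.Agent.Lib.Helper9.SchmPA2
import Cfsg.Agent.Lib.Helper2.Schmidt2
import Cfsg.Agent.Lib.Lead.CoprimeTools

/-!
# S4394, package PA: the normal Sylow subgroup of a Schmidt group is abelian or `SE`
-/

set_option autoImplicit false
set_option linter.unusedSectionVars false

namespace Cfsg.Agent.Lib.Helper9.Schm

open Cfsg.Agent.Lib.Helper5.Schm Cfsg.Agent.Lib.Helper2.Schmidt Cfsg.Agent.Lib.Lead

universe u

variable {X : Type u} [Group X] [Finite X]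

/-- `|A ⊔ B|` divides `|A| * |B|` when `A` normalizes `B`. -/
theorem card_sup_dvd_mul (A B : Subgroup X) (h : A ≤ Subgroup.normalizer (B : Set X)) :
    Nat.card (A ⊔ B : Subgroup X) ∣ Nat.card A * Nat.card B :=
  Dvd.intro _ (card_sup_mul_card_inf A B h)

/-- A normal subgroup `B`, a subgroup `A` with `A ⊔ B = ⊤` and coprime orders:
`|X| = |A| * |B|`. -/
theorem card_eq_mul_of_sup_eq_top (A B : Subgroup X) [B.Normal]
    (hcop : (Nat.card A).Coprime (Nat.card B)) (htop : A ⊔ B = ⊤) :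
    Nat.card X = Nat.card A * Nat.card B := by
  have hd : A ⊓ B = ⊥ := (Subgroup.disjoint_of_coprime_natCard hcop).eq_bot
  have hn : A ≤ Subgroup.normalizer (B : Set X) := by
    rw [Subgroup.normalizer_eq_top]
    exact le_top
  have := card_sup_of_disjoint A B hn hd
  rw [htop, Subgroup.card_top] at this
  exact this

/-- **PA**: the nontrivial normal Sylow `p`-subgroup of a minimal non-nilpotent group is abelian
or satisfies `SE`. -/
theorem se_of_schmidt (p : ℕ) [hp : Fact p.Prime]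
    (hX : Cfsg.IsMinimalNonNilpotent X) (P : Sylow p X) (hPn : (P : Subgroup X).Normal)
    (hP1 : (P : Subgroup X) ≠ ⊥) :
    (∀ a b : ↥(P : Subgroup X), a * b = b * a) ∨ SE p ↥(P : Subgroup X) := by
  by_cases hab : ∀ a b : ↥(P : Subgroup X), a * b = b * a
  · exact Or.inl hab
  right
  push Not at hab
  obtain ⟨a, b, hab⟩ := hab
  have hpp : p.Prime := hp.out
  obtain ⟨p₀, q₀, hp₀, hq₀, hpq, P₀, Q₀, hcyc, hQ₀n, hsup, hP₀n⟩ := schmidt_structure hX
  have instp₀ : Fact p₀.Prime := ⟨hp₀⟩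
  have instq₀ : Fact q₀.Prime := ⟨hq₀⟩
  have hcopPQ : (Nat.card (P₀ : Subgroup X)).Coprime (Nat.card (Q₀ : Subgroup X)) := by
    obtain ⟨a, ha⟩ := IsPGroup.iff_card.mp P₀.isPGroup'
    obtain ⟨b, hb⟩ := IsPGroup.iff_card.mp Q₀.isPGroup'
    rw [ha, hb]
    exact Nat.Coprime.pow _ _ ((Nat.coprime_primes hp₀ hq₀).mpr hpq)
  have hcardX := card_eq_mul_of_sup_eq_top (P₀ : Subgroup X) (Q₀ : Subgroup X) hcopPQ hsup
  -- `p ∣ |X|`
  have hpX : p ∣ Nat.card X := by
    obtain ⟨k, hk⟩ := IsPGroup.iff_card.mp P.isPGroup'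
    have hk0 : k ≠ 0 := by
      intro h0
      rw [h0, pow_zero] at hk
      exact hP1 (Subgroup.card_eq_one.mp hk)
    have : p ∣ Nat.card (P : Subgroup X) := by
      rw [hk]
      exact dvd_pow_self p hk0
    exact this.trans (Subgroup.card_subgroup_dvd_card _)
  have hpcases : p = p₀ ∨ p = q₀ := by
    rw [hcardX] at hpX
    obtain ⟨a, ha⟩ := IsPGroup.iff_card.mp P₀.isPGroup'
    obtain ⟨b, hb⟩ := IsPGroup.iff_card.mp Q₀.isPGroup'
    rw [ha, hb] at hpX
    rcases (Nat.Prime.dvd_mul hpp).mp hpX with h | h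
    · left
      exact (Nat.prime_dvd_prime_iff_eq hpp hp₀).mp (hpp.dvd_of_dvd_pow h)
    · right
      exact (Nat.prime_dvd_prime_iff_eq hpp hq₀).mp (hpp.dvd_of_dvd_pow h)
  have hpq₀ : p = q₀ := by
    rcases hpcases with h | h
    · exfalso
      subst h
      have hu : Unique (Sylow p X) := Sylow.unique_of_normal P hPn
      have : P₀ = P := Subsingleton.elim _ _
      exact hP₀n (this ▸ hPn)
    · exact h
  subst hpq₀
  have hPQ : Q₀ = P := by
    have hu : Unique (Sylow p X) := Sylow.unique_of_normal P hPn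
    exact Subsingleton.elim _ _
  subst hPQ
  -- the generator `g` of `P₀`
  obtain ⟨g, hg⟩ := hcyc.exists_generator
  have hzp : Subgroup.zpowers (g : X) = (P₀ : Subgroup X) := by
    apply le_antisymm
    · rw [Subgroup.zpowers_le]
      exact g.2
    · intro x hx
      obtain ⟨k, hk⟩ := Subgroup.mem_zpowers_iff.mp (hg ⟨x, hx⟩)
      refine Subgroup.mem_zpowers_iff.mpr ⟨k, ?_⟩
      have := congrArg Subtype.val hk
      simpa using this
  have hgp : IsPGroup p₀ (Subgroup.zpowers (g : X)) := by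
    rw [hzp]
    exact P₀.isPGroup'
  have hcardP₀ : Nat.card (Subgroup.zpowers (g : X)) = Nat.card (P₀ : Subgroup X) := by rw [hzp]
  have hposP₀ : 0 < Nat.card (P₀ : Subgroup X) := Nat.card_pos
  have hposP : 0 < Nat.card (Q₀ : Subgroup X) := Nat.card_pos
  apply se_of_min_action (q := p₀) hpq (Q₀ : Subgroup X) hPn Q₀.isPGroup' (g : X) hgp
  · -- `g ^ p₀` centralizes `P`
    obtain ⟨H, hH⟩ : ∃ H : Subgroup X,
        H = Subgroup.zpowers ((g : X) ^ p₀) ⊔ (Q₀ : Subgroup X) := ⟨_, rfl⟩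
    have hzn : Subgroup.zpowers ((g : X) ^ p₀) ≤ Subgroup.normalizer ((Q₀ : Subgroup X) : Set X) := by
      rw [Subgroup.normalizer_eq_top]
      exact le_top
    have hdvd : Nat.card H ∣ Nat.card (Subgroup.zpowers ((g : X) ^ p₀)) * Nat.card (Q₀ : Subgroup X) :=
      hH ▸ card_sup_dvd_mul _ _ hzn
    have hlt : Nat.card (Subgroup.zpowers ((g : X) ^ p₀)) < Nat.card (P₀ : Subgroup X) := by
      rw [Nat.card_zpowers, ← hcardP₀, Nat.card_zpowers]
      have hdv : p₀ ∣ orderOf (g : X) := by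
        rw [← Nat.card_zpowers, hcardP₀]
        obtain ⟨k, hk⟩ := IsPGroup.iff_card.mp P₀.isPGroup'
        have hk0 : k ≠ 0 := by
          intro h0
          rw [h0, pow_zero] at hk
          have hbot : (P₀ : Subgroup X) = ⊥ := Subgroup.card_eq_one.mp hk
          apply hP₀n
          rw [hbot]
          infer_instance
        rw [hk]
        exact dvd_pow_self p₀ hk0
      rw [orderOf_pow_of_dvd hp₀.ne_zero hdv]
      exact Nat.div_lt_self (orderOf_pos _) hp₀.one_lt
    have hHne : H ≠ ⊤ := by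
      intro htop
      rw [htop, Subgroup.card_top, hcardX] at hdvd
      have := Nat.le_of_dvd (Nat.mul_pos Nat.card_pos hposP) hdvd
      have h2 := Nat.le_of_mul_le_mul_right this hposP
      omega
    have hnil := hX.2 H hHne
    rw [hH] at hnil
    have hA : IsPGroup p₀ (Subgroup.zpowers ((g : X) ^ p₀)) :=
      hgp.to_le (Subgroup.zpowers_le.mpr (Subgroup.pow_mem _ (Subgroup.mem_zpowers _) _))
    have hcm := commute_of_nilpotent_sup hpq _ _ hA Q₀.isPGroup' hnil
    intro x hx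
    exact hcm _ (Subgroup.mem_zpowers _) x hx
  · -- (M)
    intro N hNP hNne hnorm x hx
    obtain ⟨H, hH⟩ : ∃ H : Subgroup X, H = Subgroup.zpowers (g : X) ⊔ N := ⟨_, rfl⟩
    have hzn : Subgroup.zpowers (g : X) ≤ Subgroup.normalizer (N : Set X) := by
      rw [Subgroup.zpowers_le]
      exact hnorm
    have hdvd : Nat.card H ∣ Nat.card (Subgroup.zpowers (g : X)) * Nat.card N :=
      hH ▸ card_sup_dvd_mul _ _ hzn
    have hHne : H ≠ ⊤ := by
      intro htop
      rw [htop, Subgroup.card_top, hcardX, hcardP₀] at hdvd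
      have h1 : Nat.card (Q₀ : Subgroup X) ∣ Nat.card N := Nat.dvd_of_mul_dvd_mul_left hposP₀ hdvd
      have h2 := Nat.le_of_dvd Nat.card_pos h1
      exact hNne (Subgroup.eq_of_le_of_card_ge hNP h2)
    have hnil := hX.2 H hHne
    rw [hH] at hnil
    have hB : IsPGroup p N := Q₀.isPGroup'.to_le hNP
    have hcm := commute_of_nilpotent_sup hpq _ _ hgp hB hnil
    exact hcm _ (Subgroup.mem_zpowers _) x hx
  · -- `g` does not centralize `P`
    by_contra hcon
    push Not at hcon
    apply hP₀n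
    rw [← Subgroup.normalizer_eq_top_iff, eq_top_iff, ← hsup]
    apply sup_le Subgroup.le_normalizer
    intro x hx
    apply Subgroup.centralizer_le_normalizer
    rw [Subgroup.mem_centralizer_iff]
    intro y hy
    rw [SetLike.mem_coe, ← hzp] at hy
    obtain ⟨k, rfl⟩ := Subgroup.mem_zpowers_iff.mp hy
    have hc : Commute (g : X) x := hcon x hx
    exact (hc.zpow_left k).eq
  · exact ⟨a, a.2, b, b.2, fun h => hab (Subtype.ext h)⟩

end Cfsg.Agent.Lib.Helper9.Schm
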