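import Mathlib
import Cfsg.Prelude.Def_GeometricClasses
import Cfsg.Agent.Lib.Helper9.GConj1

set_option autoImplicit false

/-! Field subalgebras of degree two of the matrix algebra. -/

namespace Cfsg.Agent.Lib.Helper9.H9ExtInv

open Module

section basics
variable {F : Type*} [Field F] {n : ℕ}

local notation "Mat" => Matrix (Fin n) (Fin n) F

/-- A non-scalar element of `K`. -/
theorem exists_nonscalar (K : Subalgebra F Mat) (hK : Cfsg.Geo.IsFieldSubalgebra 2 K) :
    ∃ θ ∈ K, ∀ c : F, θ ≠ c • (1 : Mat) := by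
  by_contra h
  push Not at h
  have hle : Subalgebra.toSubmodule K ≤ Submodule.span F {(1 : Mat)} := by
    intro k hk
    obtain ⟨c, hc⟩ := h k hk
    rw [hc]
    exact Submodule.smul_mem _ _ (Submodule.subset_span rfl)
  have h1 : finrank F (Subalgebra.toSubmodule K) ≤ finrank F (Submodule.span F {(1 : Mat)}) :=
    Submodule.finrank_mono hle
  have h2 : finrank F (Submodule.span F {(1 : Mat)}) ≤ 1 := by
    have := finrank_span_le_card (R := F) ({(1 : Mat)} : Set Mat)
    simpa using this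
  have h3 : finrank F (Subalgebra.toSubmodule K) = 2 := hK.finrank_eq
  omega

/-- Non-zero elements of `K` act injectively. -/
theorem eq_zero_of_mulVec_eq_zero (K : Subalgebra F Mat) (hK : Cfsg.Geo.IsFieldSubalgebra 2 K)
    (k : Mat) (hk : k ∈ K) (hk0 : k ≠ 0) (v : Fin n → F) (hv : Matrix.mulVec k v = 0) : v = 0 := by
  obtain ⟨y, hy, hky⟩ := hK.inv k hk hk0
  have hyk : y * k = 1 := by rw [← hK.comm k hk y hy, hky]
  have := congrArg (Matrix.mulVec y) hv
  rwa [Matrix.mulVec_mulVec, hyk, Matrix.one_mulVec, Matrix.mulVec_zero] at this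

/-- `K` is spanned by `1` and any non-scalar element. -/
theorem exists_eq_add (K : Subalgebra F Mat) (hK : Cfsg.Geo.IsFieldSubalgebra 2 K)
    (θ : Mat) (hθ : θ ∈ K) (hns : ∀ c : F, θ ≠ c • (1 : Mat)) (k : Mat) (hk : k ∈ K) :
    ∃ α β : F, k = α • (1 : Mat) + β • θ := by
  have hli : LinearIndependent F ![(1 : Mat), θ] := by
    rw [LinearIndependent.pair_iff]
    intro s t hst
    by_cases ht : t = 0
    · subst ht
      rw [zero_smul, add_zero] at hst
      rcases smul_eq_zero.mp hst with h | h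
      · exact ⟨h, rfl⟩
      · exfalso
        apply hns 0
        rw [zero_smul]
        have h0 : (0 : Mat) = 1 := h.symm
        calc θ = θ * 1 := (mul_one θ).symm
          _ = θ * 0 := by rw [h0]
          _ = 0 := mul_zero θ
    · exfalso
      apply hns (-(s / t))
      have h1 : t • θ = -(s • (1 : Mat)) := eq_neg_of_add_eq_zero_right hst
      have h2 : θ = t⁻¹ • (t • θ) := by rw [smul_smul, inv_mul_cancel₀ ht, one_smul]
      rw [h2, h1, smul_neg, smul_smul, neg_smul]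
      congr 2
      field_simp
  have hspan : Submodule.span F (Set.range ![(1 : Mat), θ]) = Subalgebra.toSubmodule K := by
    apply Submodule.eq_of_le_of_finrank_eq
    · rw [Submodule.span_le]
      rintro _ ⟨i, rfl⟩
      fin_cases i
      · exact K.one_mem
      · exact hθ
    · rw [finrank_span_eq_card hli]
      have h3 : finrank F (Subalgebra.toSubmodule K) = 2 := hK.finrank_eq
      rw [h3]
      rfl
  have hk' : k ∈ Submodule.span F (Set.range ![(1 : Mat), θ]) := by
    rw [hspan]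
    exact hk
  rw [Matrix.range_cons, Matrix.range_cons, Matrix.range_empty, Set.union_empty] at hk'
  have hk'' : k ∈ Submodule.span F ({(1 : Mat), θ} : Set Mat) := by
    convert hk' using 2
    exact Set.insert_eq _ _
  obtain ⟨α, β, h⟩ := Submodule.mem_span_pair.mp hk''
  exact ⟨α, β, h.symm⟩

/-- Criterion for membership in the normaliser of `K`. -/
theorem mem_normalizer_of_mul_eq (K : Subalgebra F Mat) (hK : Cfsg.Geo.IsFieldSubalgebra 2 K)
    (θ : Mat) (hθ : θ ∈ K) (hns : ∀ c : F, θ ≠ c • (1 : Mat)) (Y : GL (Fin n) F)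
    (θ' : Mat) (hθ' : θ' ∈ K) (h : (Y : Mat) * θ = θ' * (Y : Mat)) :
    Y ∈ Cfsg.Geo.subalgebraNormalizer K := by
  have hYY : (Y : Mat) * ((Y⁻¹ : GL (Fin n) F) : Mat) = 1 := by
    rw [← Units.val_mul, mul_inv_cancel, Units.val_one]
  have hYY' : ((Y⁻¹ : GL (Fin n) F) : Mat) * (Y : Mat) = 1 := by
    rw [← Units.val_mul, inv_mul_cancel, Units.val_one]
  have hns' : ∀ c : F, θ' ≠ c • (1 : Mat) := by
    intro c hc
    apply hns c
    rw [hc] at h
    have h1 : ((Y⁻¹ : GL (Fin n) F) : Mat) * ((Y : Mat) * θ) = c • (1 : Mat) := by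
      rw [h, Matrix.smul_mul, Matrix.one_mul, Matrix.mul_smul, hYY']
    rwa [← Matrix.mul_assoc, hYY', Matrix.one_mul] at h1
  have h' : ((Y⁻¹ : GL (Fin n) F) : Mat) * θ' = θ * ((Y⁻¹ : GL (Fin n) F) : Mat) := by
    have h1 : ((Y⁻¹ : GL (Fin n) F) : Mat) * ((Y : Mat) * θ) * ((Y⁻¹ : GL (Fin n) F) : Mat)
        = ((Y⁻¹ : GL (Fin n) F) : Mat) * (θ' * (Y : Mat)) * ((Y⁻¹ : GL (Fin n) F) : Mat) := by
      rw [h]
    rw [← Matrix.mul_assoc, hYY', Matrix.one_mul, Matrix.mul_assoc, Matrix.mul_assoc, hYY,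
      Matrix.mul_one] at h1
    exact h1.symm
  show ∀ k : Mat, k ∈ K ↔ (Y : Mat) * k * ((Y⁻¹ : GL (Fin n) F) : Mat) ∈ K
  intro k
  constructor
  · intro hk
    obtain ⟨α, β, rfl⟩ := exists_eq_add K hK θ hθ hns k hk
    have : (Y : Mat) * (α • (1 : Mat) + β • θ) * ((Y⁻¹ : GL (Fin n) F) : Mat)
        = α • (1 : Mat) + β • θ' := by
      rw [Matrix.mul_add, Matrix.add_mul, Matrix.mul_smul, Matrix.mul_smul, Matrix.mul_one,
        Matrix.smul_mul, Matrix.smul_mul, hYY, h, Matrix.mul_assoc, hYY, Matrix.mul_one]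
    rw [this]
    exact K.add_mem (K.smul_mem K.one_mem α) (K.smul_mem hθ' β)
  · intro hk
    obtain ⟨α, β, hαβ⟩ := exists_eq_add K hK θ' hθ' hns' _ hk
    have h1 : k = ((Y⁻¹ : GL (Fin n) F) : Mat) * ((Y : Mat) * k * ((Y⁻¹ : GL (Fin n) F) : Mat))
        * (Y : Mat) := by
      rw [Matrix.mul_assoc, Matrix.mul_assoc, hYY', Matrix.mul_one, ← Matrix.mul_assoc, hYY',
        Matrix.one_mul]
    rw [h1, hαβ]
    have : ((Y⁻¹ : GL (Fin n) F) : Mat) * (α • (1 : Mat) + β • θ') * (Y : Mat)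
        = α • (1 : Mat) + β • θ := by
      rw [Matrix.mul_add, Matrix.add_mul, Matrix.mul_smul, Matrix.mul_smul, Matrix.mul_one,
        Matrix.smul_mul, Matrix.smul_mul, hYY', h', Matrix.mul_assoc, hYY', Matrix.mul_one]
    rw [this]
    exact K.add_mem (K.smul_mem K.one_mem α) (K.smul_mem hθ β)

/-- A scalar multiple of a rank-one perturbation of the identity does not normalise `K`. -/
theorem not_mem_normalizer (hn : 3 ≤ n) (K : Subalgebra F Mat)
    (hK : Cfsg.Geo.IsFieldSubalgebra 2 K) (Y : GL (Fin n) F) (d : F) (hd : d ≠ 0)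
    (φ : (Fin n → F) →ₗ[F] F) (w : Fin n → F) (hφ : φ ≠ 0) (hw : w ≠ 0)
    (hY : ∀ v, Matrix.mulVec (Y : Mat) v = d • (v + φ v • w)) :
    Y ∉ Cfsg.Geo.subalgebraNormalizer K := by
  intro hmem
  have hmem' : ∀ k : Mat, k ∈ K ↔ (Y : Mat) * k * ((Y⁻¹ : GL (Fin n) F) : Mat) ∈ K := hmem
  obtain ⟨θ, hθ, hns⟩ := exists_nonscalar K hK
  have hYY' : ((Y⁻¹ : GL (Fin n) F) : Mat) * (Y : Mat) = 1 := by
    rw [← Units.val_mul, inv_mul_cancel, Units.val_one]
  set θ' : Mat := (Y : Mat) * θ * ((Y⁻¹ : GL (Fin n) F) : Mat) with hθ'def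
  have hθ' : θ' ∈ K := (hmem' θ).mp hθ
  have hrel : (Y : Mat) * θ = θ' * (Y : Mat) := by
    rw [hθ'def, Matrix.mul_assoc, hYY', Matrix.mul_one]
  have hstar : ∀ v : Fin n → F, Matrix.mulVec θ v + φ (Matrix.mulVec θ v) • w
      = Matrix.mulVec θ' v + φ v • Matrix.mulVec θ' w := by
    intro v
    have h1 := congrArg (fun M : Mat => Matrix.mulVec M v) hrel
    simp only [← Matrix.mulVec_mulVec] at h1
    rw [hY, hY, Matrix.mulVec_smul, Matrix.mulVec_add, Matrix.mulVec_smul] at h1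
    have h2 := congrArg (fun u : Fin n → F => d⁻¹ • u) h1
    simp only [smul_smul, inv_mul_cancel₀ hd, one_smul] at h2
    exact h2
  by_cases hθθ : θ' = θ
  · rw [hθθ] at hstar
    obtain ⟨v, hv⟩ : ∃ v, φ v ≠ 0 := by
      by_contra h
      push Not at h
      exact hφ (LinearMap.ext h)
    have h1 := hstar v
    have h2 : φ (Matrix.mulVec θ v) • w = φ v • Matrix.mulVec θ w := add_left_cancel h1
    set c := (φ v)⁻¹ * φ (Matrix.mulVec θ v) with hc
    have h3 : Matrix.mulVec θ w = c • w := by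
      have := congrArg (fun u : Fin n → F => (φ v)⁻¹ • u) h2
      simp only [smul_smul, inv_mul_cancel₀ hv, one_smul] at this
      exact this.symm
    have h4 : Matrix.mulVec (θ - c • (1 : Mat)) w = 0 := by
      rw [Matrix.sub_mulVec, Matrix.smul_mulVec, Matrix.one_mulVec, h3, sub_self]
    exact hw (eq_zero_of_mulVec_eq_zero K hK _ (K.sub_mem hθ (K.smul_mem K.one_mem c))
      (sub_ne_zero.mpr (hns c)) w h4)
  · let ψ : (Fin n → F) →ₗ[F] (F × F) := φ.prod (φ ∘ₗ Matrix.toLin' θ)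
    have hker : LinearMap.ker ψ ≠ ⊥ := by
      apply LinearMap.ker_ne_bot_of_finrank_lt
      rw [Module.finrank_prod, Module.finrank_self, Module.finrank_fin_fun]
      omega
    obtain ⟨v, hv, hv0⟩ := (Submodule.ne_bot_iff _).mp hker
    rw [LinearMap.mem_ker] at hv
    have hv1 : φ v = 0 := congrArg Prod.fst hv
    have hv2 : φ (Matrix.mulVec θ v) = 0 := congrArg Prod.snd hv
    have h1 := hstar v
    rw [hv1, hv2, zero_smul, zero_smul, add_zero, add_zero] at h1
    have h4 : Matrix.mulVec (θ - θ') v = 0 := by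
      rw [Matrix.sub_mulVec, h1, sub_self]
    exact hv0 (eq_zero_of_mulVec_eq_zero K hK _ (K.sub_mem hθ hθ')
      (sub_ne_zero.mpr (Ne.symm hθθ)) v h4)

end basics

end Cfsg.Agent.Lib.Helper9.H9ExtInv
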