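import Mathlib
import Cfsg.Agent.Lib.Helper9.ExtInv1

set_option autoImplicit false

/-! Elements of the normaliser of a field subalgebra of degree two. -/

namespace Cfsg.Agent.Lib.Helper9.H9ExtInv

open Module
open Cfsg.Agent.H9SemiInv
open Cfsg.Agent.Lib.Helper9.H9Elus
open Cfsg.Agent.Lib.Helper9.H9GSpInv
open Cfsg.Agent.Lib.Helper9.H9GConj

section gen
variable {F : Type*} [Field F] {n : ℕ}

local notation "Mat" => Matrix (Fin n) (Fin n) F

theorem sub_smul_mul_sub_smul (θ : Mat) (c e : F) :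
    (θ - c • (1 : Mat)) * (θ - e • (1 : Mat)) = θ * θ - (c + e) • θ + (c * e) • (1 : Mat) := by
  rw [Matrix.sub_mul, Matrix.mul_sub, Matrix.mul_sub, Matrix.mul_smul, Matrix.smul_mul,
    Matrix.smul_mul, Matrix.mul_one, Matrix.one_mul, Matrix.one_mul, smul_smul]
  module

/-- The quadratic relation satisfied by an element of `K`. -/
theorem exists_quadratic (K : Subalgebra F Mat) (hK : Cfsg.Geo.IsFieldSubalgebra 2 K)
    (θ : Mat) (hθ : θ ∈ K) (hns : ∀ c : F, θ ≠ c • (1 : Mat)) :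
    ∃ a b : F, θ * θ = a • θ + b • (1 : Mat) := by
  obtain ⟨α, β, h⟩ := exists_eq_add K hK θ hθ hns (θ * θ) (K.mul_mem hθ hθ)
  exact ⟨β, α, by rw [h, add_comm]⟩

/-- A product of two elements of `K` vanishes only if one of them does. -/
theorem eq_zero_of_mul_eq_zero (K : Subalgebra F Mat) (hK : Cfsg.Geo.IsFieldSubalgebra 2 K)
    (k₁ k₂ : Mat) (h₁ : k₁ ∈ K) (h : k₁ * k₂ = 0) (hk₁ : k₁ ≠ 0) : k₂ = 0 := by
  obtain ⟨y, hy, hky⟩ := hK.inv k₁ h₁ hk₁
  have hyk : y * k₁ = 1 := by rw [← hK.comm k₁ h₁ y hy, hky]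
  calc k₂ = (y * k₁) * k₂ := by rw [hyk, Matrix.one_mul]
    _ = y * (k₁ * k₂) := Matrix.mul_assoc _ _ _
    _ = 0 := by rw [h, Matrix.mul_zero]

/-- In odd characteristic `K` contains a non-scalar element whose square is a non-square scalar. -/
theorem exists_sq_eq_nonsquare (h2 : (2 : F) ≠ 0) (K : Subalgebra F Mat)
    (hK : Cfsg.Geo.IsFieldSubalgebra 2 K) :
    ∃ θ ∈ K, (∀ c : F, θ ≠ c • (1 : Mat)) ∧ ∃ ν : F, (∀ c : F, c ^ 2 ≠ ν) ∧
      θ * θ = ν • (1 : Mat) := by
  obtain ⟨θ, hθ, hns⟩ := exists_nonscalar K hK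
  obtain ⟨a, b, hab⟩ := exists_quadratic K hK θ hθ hns
  set θ' : Mat := θ - (a / 2) • (1 : Mat) with hθ'
  have hθ'K : θ' ∈ K := K.sub_mem hθ (K.smul_mem K.one_mem _)
  have hns' : ∀ c : F, θ' ≠ c • (1 : Mat) := by
    intro c hc
    apply hns (c + a / 2)
    have : θ = θ' + (a / 2) • (1 : Mat) := by rw [hθ']; abel
    rw [this, hc, add_smul]
  have hsq : θ' * θ' = (b + a ^ 2 / 4) • (1 : Mat) := by
    rw [hθ', sub_smul_mul_sub_smul, hab]
    have h4 : (4 : F) ≠ 0 := by
      have : (4 : F) = 2 * 2 := by norm_num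
      rw [this]
      exact mul_ne_zero h2 h2
    have e1 : a / 2 + a / 2 = a := by field_simp; ring
    have e2 : a / 2 * (a / 2) = a ^ 2 / 4 := by field_simp; ring
    rw [e1, e2]
    module
  refine ⟨θ', hθ'K, hns', b + a ^ 2 / 4, ?_, hsq⟩
  intro c hc
  have h1 : (θ' - c • (1 : Mat)) * (θ' - (-c) • (1 : Mat)) = 0 := by
    rw [sub_smul_mul_sub_smul, hsq, ← hc]
    have : c + -c = 0 := by ring
    rw [this, zero_smul]
    have : c * -c = -(c ^ 2) := by ring
    rw [this, neg_smul]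
    abel
  have h3 := eq_zero_of_mul_eq_zero K hK _ _ (K.sub_mem hθ'K (K.smul_mem K.one_mem c)) h1
    (sub_ne_zero.mpr (hns' c))
  exact hns' (-c) (sub_eq_zero.mp h3)

end gen

section fin
variable {F : Type*} [Field F] [Fintype F]

/-- The quotient of two non-squares is a square. -/
theorem exists_eq_mul_sq (h2 : (2 : F) ≠ 0) (ν z : F) (hν : ∀ c : F, c ^ 2 ≠ ν)
    (hz : ∀ c : F, c ^ 2 ≠ z) : ∃ c : F, z = ν * c ^ 2 := by
  have hF : ringChar F ≠ 2 := by
    intro hr
    apply h2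
    have := ringChar.Nat.cast_ringChar (R := F)
    rw [hr] at this
    exact_mod_cast this
  have hν0 : ν ≠ 0 := by
    rintro rfl
    exact hν 0 (by ring)
  have hz0 : z ≠ 0 := by
    rintro rfl
    exact hz 0 (by ring)
  have hν1 : ν ^ (Fintype.card F / 2) = -1 := by
    rcases FiniteField.pow_dichotomy hF hν0 with h | h
    · exfalso
      obtain ⟨c, hc⟩ := (FiniteField.isSquare_iff hF hν0).mpr h
      exact hν c (by rw [hc, pow_two])
    · exact h
  have hz1 : z ^ (Fintype.card F / 2) = -1 := by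
    rcases FiniteField.pow_dichotomy hF hz0 with h | h
    · exfalso
      obtain ⟨c, hc⟩ := (FiniteField.isSquare_iff hF hz0).mpr h
      exact hz c (by rw [hc, pow_two])
    · exact h
  have hq : (z / ν) ^ (Fintype.card F / 2) = 1 := by
    rw [div_pow, hν1, hz1]
    norm_num
  obtain ⟨c, hc⟩ := (FiniteField.isSquare_iff hF (div_ne_zero hz0 hν0)).mpr hq
  refine ⟨c, ?_⟩
  rw [pow_two, ← hc]
  field_simp

end fin

section commuting
variable {F : Type*} [Field F] {V : Type*} [AddCommGroup V] [Module F V] [FiniteDimensional F V]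

/-- A map commuting with `T` with square `d ^ 2` and a prescribed `-d`-eigenspace dimension. -/
theorem exists_commuting_of_even (T : V →ₗ[F] V) (ν : F) (hν : ∀ c : F, c ^ 2 ≠ ν)
    (hT : T ^ 2 = ν • 1) (d : F) (hd : d ≠ 0) (h2 : (2 : F) ≠ 0) (m : ℕ)
    (hm : 2 * m ≤ finrank F V) :
    ∃ y : V →ₗ[F] V, y ^ 2 = (d ^ 2) • 1 ∧ (∀ v, y (T v) = T (y v)) ∧
      finrank F (LinearMap.ker (y - (-d) • 1)) = 2 * m := by
  obtain ⟨W, hW, hWd⟩ := exists_inv_of_dvd 2 Nat.prime_two ν hν T hT m hm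
  have hss := isSemisimple_of_pow_eq_smul 2 Nat.prime_two ν hν T hT
  obtain ⟨C, hCmem, hWC⟩ := (Module.End.isSemisimple_iff.mp hss) W ((inv_iff_mem T W).mp hW)
  have hC : Inv T C := (inv_iff_mem T C).mpr hCmem
  set s : V →ₗ[F] V := blockMap W C hWC ((-1 : F) • 1) with hs
  have hsab : ∀ (a : W) (b : C), s ((a : V) + b) = -(a : V) + b := by
    intro a b
    rw [hs, blockMap_apply]
    simp
  refine ⟨d • s, ?_, ?_, ?_⟩
  · apply LinearMap.ext
    intro v
    obtain ⟨⟨a, b⟩, rfl⟩ := (Submodule.prodEquivOfIsCompl W C hWC).surjective v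
    show ((d • s) ^ 2) ((a : V) + b) = ((d ^ 2) • (1 : V →ₗ[F] V)) ((a : V) + b)
    rw [pow_two, Module.End.mul_apply, LinearMap.smul_apply, LinearMap.smul_apply, hsab, map_smul,
      LinearMap.smul_apply, Module.End.one_apply]
    have : -(a : V) + (b : V) = ((-a : W) : V) + b := by simp
    rw [this, hsab]
    simp only [Submodule.coe_neg, neg_neg, smul_smul]
    rw [pow_two]
  · intro v
    rw [LinearMap.smul_apply, LinearMap.smul_apply, map_smul]
    congr 1
    apply blockMap_comm W C hWC _ T hW hC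
    intro a
    simp
  · have hker : LinearMap.ker (d • s - (-d) • 1) = W := by
      ext v
      obtain ⟨⟨a, b⟩, rfl⟩ := (Submodule.prodEquivOfIsCompl W C hWC).surjective v
      show ((a : V) + b) ∈ LinearMap.ker (d • s - (-d) • 1) ↔ ((a : V) + b) ∈ W
      rw [LinearMap.mem_ker, LinearMap.sub_apply, LinearMap.smul_apply, LinearMap.smul_apply,
        Module.End.one_apply, hsab]
      have e1 : d • (-(a : V) + (b : V)) - (-d) • ((a : V) + b) = (2 * d) • (b : V) := by
        module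
      rw [e1]
      constructor
      · intro h
        have hb : (b : V) = 0 := (smul_eq_zero.mp h).resolve_left (mul_ne_zero h2 hd)
        rw [hb, add_zero]
        exact a.2
      · intro h
        have hb : (b : V) ∈ W := by
          have := W.sub_mem h a.2
          rwa [add_sub_cancel_left] at this
        have hb0 : (b : V) = 0 := by
          have := hWC.disjoint.le_bot (Submodule.mem_inf.mpr ⟨hb, b.2⟩)
          exact (Submodule.mem_bot F).mp this
        rw [hb0, smul_zero]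
    rw [hker, hWd]

end commuting

section two
variable {F : Type*} [Field F]

/-- The "Galois conjugation" in dimension two. -/
theorem exists_semilinear (hperf : (2 : F) = 0 → ∀ b : F, ∃ c : F, c ^ 2 = b)
    (K : Subalgebra F (Matrix (Fin 2) (Fin 2) F)) (hK : Cfsg.Geo.IsFieldSubalgebra 2 K) :
    ∃ σ : (Fin 2 → F) →ₗ[F] (Fin 2 → F), (∀ v, σ (σ v) = v) ∧ (∀ c : F, σ ≠ c • 1) ∧
      ∃ θ ∈ K, (∀ c : F, θ ≠ c • (1 : Matrix (Fin 2) (Fin 2) F)) ∧ ∃ θ' ∈ K,
        LinearMap.toMatrix' σ * θ = θ' * LinearMap.toMatrix' σ := by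
  obtain ⟨θ, hθ, hns⟩ := exists_nonscalar K hK
  obtain ⟨a, b, hab⟩ := exists_quadratic K hK θ hθ hns
  set T := Matrix.toLin' θ with hT
  have hTT : ∀ v, T (T v) = a • T v + b • v := by
    intro v
    rw [hT, ← LinearMap.comp_apply, ← Matrix.toLin'_mul, hab, map_add, map_smul, map_smul,
      Matrix.toLin'_one]
    rfl
  set v₀ : Fin 2 → F := Pi.single 0 1 with hv₀
  have hv₀0 : v₀ ≠ 0 := by
    intro h
    have := congrFun h 0
    simp [hv₀] at this
  have hinj : ∀ c : F, T v₀ ≠ c • v₀ := by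
    intro c hc
    apply hv₀0
    apply eq_zero_of_mulVec_eq_zero K hK (θ - c • 1) (K.sub_mem hθ (K.smul_mem K.one_mem c))
      (sub_ne_zero.mpr (hns c)) v₀
    rw [Matrix.sub_mulVec, Matrix.smul_mulVec, Matrix.one_mulVec, ← Matrix.toLin'_apply, ← hT, hc,
      sub_self]
  have hli : LinearIndependent F ![v₀, T v₀] := by
    rw [LinearIndependent.pair_iff]
    intro s t hst
    by_cases ht : t = 0
    · subst ht
      rw [zero_smul, add_zero] at hst
      exact ⟨(smul_eq_zero.mp hst).resolve_right hv₀0, rfl⟩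
    · exfalso
      apply hinj (-(s / t))
      have h1 : t • T v₀ = -(s • v₀) := eq_neg_of_add_eq_zero_right hst
      have h2' : T v₀ = t⁻¹ • (t • T v₀) := by rw [smul_smul, inv_mul_cancel₀ ht, one_smul]
      rw [h2', h1, smul_neg, smul_smul, neg_smul]
      congr 2
      field_simp
  let bas := basisOfLinearIndependentOfCardEqFinrank hli (by simp)
  have hb0 : bas 0 = v₀ := by simp [bas]
  have hb1 : bas 1 = T v₀ := by simp [bas]
  set σ : (Fin 2 → F) →ₗ[F] (Fin 2 → F) := bas.constr F ![v₀, a • v₀ - T v₀] with hσ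
  have hσ0 : σ v₀ = v₀ := by
    have h : σ (bas 0) = v₀ := by
      rw [hσ, Basis.constr_basis]
      simp
    rwa [hb0] at h
  have hσ1 : σ (T v₀) = a • v₀ - T v₀ := by
    have h : σ (bas 1) = a • v₀ - T v₀ := by
      rw [hσ, Basis.constr_basis]
      simp
    rwa [hb1] at h
  have hσσ : ∀ v, σ (σ v) = v := by
    have : σ ∘ₗ σ = LinearMap.id := by
      apply bas.ext
      intro i
      fin_cases i
      · show σ (σ (bas 0)) = bas 0
        rw [hb0, hσ0, hσ0]
      · show σ (σ (bas 1)) = bas 1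
        rw [hb1, hσ1, map_sub, map_smul, hσ0, hσ1]
        abel
    intro v
    exact congrArg (fun f : (Fin 2 → F) →ₗ[F] (Fin 2 → F) => f v) this
  have hint : σ ∘ₗ T = (a • (1 : (Fin 2 → F) →ₗ[F] (Fin 2 → F)) - T) ∘ₗ σ := by
    apply bas.ext
    intro i
    fin_cases i
    · show σ (T (bas 0)) = (a • (1 : (Fin 2 → F) →ₗ[F] (Fin 2 → F)) - T) (σ (bas 0))
      rw [hb0, hσ0, hσ1]
      simp
    · show σ (T (bas 1)) = (a • (1 : (Fin 2 → F) →ₗ[F] (Fin 2 → F)) - T) (σ (bas 1))
      rw [hb1, hσ1, hTT, map_add, map_smul, map_smul, hσ0, hσ1]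
      simp only [LinearMap.sub_apply, LinearMap.smul_apply, Module.End.one_apply, map_sub, map_smul,
        hTT]
      module
  refine ⟨σ, hσσ, ?_, θ, hθ, hns, a • 1 - θ, K.sub_mem (K.smul_mem K.one_mem a) hθ, ?_⟩
  · intro c hc
    have h1 : v₀ = c • v₀ := by
      have := hσ0
      rw [hc] at this
      simpa using this.symm
    have hc1 : c = 1 := by
      have : (c - 1) • v₀ = 0 := by rw [sub_smul, one_smul, ← h1, sub_self]
      exact sub_eq_zero.mp ((smul_eq_zero.mp this).resolve_right hv₀0)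
    have h3 : a • v₀ - T v₀ = T v₀ := by
      have := hσ1
      rw [hc, hc1] at this
      simpa using this.symm
    have h4 : Matrix.mulVec ((2 : F) • θ - a • (1 : Matrix (Fin 2) (Fin 2) F)) v₀ = 0 := by
      rw [Matrix.sub_mulVec, Matrix.smul_mulVec, Matrix.smul_mulVec, Matrix.one_mulVec,
        ← Matrix.toLin'_apply, ← hT]
      have : (2 : F) • T v₀ = T v₀ + T v₀ := two_smul F _
      rw [this]
      nth_rewrite 1 [← h3]
      abel
    have h5 : (2 : F) • θ - a • (1 : Matrix (Fin 2) (Fin 2) F) = 0 := by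
      by_contra hne
      exact hv₀0 (eq_zero_of_mulVec_eq_zero K hK _
        (K.sub_mem (K.smul_mem hθ 2) (K.smul_mem K.one_mem a)) hne v₀ h4)
    by_cases h2 : (2 : F) = 0
    · rw [h2, zero_smul, zero_sub, neg_eq_zero] at h5
      have ha : a = 0 := by
        have := congrFun (congrFun h5 0) 0
        simpa using this
      obtain ⟨c', hc'⟩ := hperf h2 b
      have h6 : (θ - c' • (1 : Matrix (Fin 2) (Fin 2) F)) * (θ - c' • 1) = 0 := by
        rw [sub_smul_mul_sub_smul, hab, ha, zero_smul, zero_add, ← two_mul, mul_comm 2 c',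
          mul_smul, h2, zero_smul, smul_zero, sub_zero, ← pow_two, hc', ← add_smul, ← two_mul, h2,
          zero_mul, zero_smul]
      have h7 := eq_zero_of_mul_eq_zero K hK _ _ (K.sub_mem hθ (K.smul_mem K.one_mem c')) h6
        (sub_ne_zero.mpr (hns c'))
      exact hns c' (sub_eq_zero.mp h7)
    · apply hns (a / 2)
      have h6 : (2 : F) • θ = a • (1 : Matrix (Fin 2) (Fin 2) F) := sub_eq_zero.mp h5
      have h7 : θ = (2 : F)⁻¹ • ((2 : F) • θ) := by rw [smul_smul, inv_mul_cancel₀ h2, one_smul]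
      rw [h7, h6, smul_smul]
      congr 1
      field_simp
  · apply Matrix.toLin'.injective
    rw [Matrix.toLin'_mul, Matrix.toLin'_mul, Matrix.toLin'_toMatrix', map_sub, map_smul,
      Matrix.toLin'_one, ← hT]
    exact hint

end two

end Cfsg.Agent.Lib.Helper9.H9ExtInv
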