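import Mathlib
import Cfsg.Agent.Lib.Helper9.GReal2

set_option autoImplicit false

/-! Maps with scalar square are realisable over subfields, up to a scalar. -/

namespace Cfsg.Agent.Lib.Helper9.H9GReal

open Module
open Cfsg.Agent.H9SemiInv
open Cfsg.Agent.Lib.Helper9.H9GSpInv

section sq
universe u v
variable {F : Type v} [Field F] {V : Type u} [AddCommGroup V] [Module F V] [FiniteDimensional F V]

theorem realOver_of_sq_eq (F₀ : Subfield F) (d : F) (hd : d ≠ 0) (h2 : (2 : F) ≠ 0)
    (t : V →ₗ[F] V) (ht : t ^ 2 = (d ^ 2) • 1) : RealOver F₀ (d⁻¹ • t) := by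
  have hc := isCompl_eigen d t hd h2 ht
  have hZ : ∀ v ∈ LinearMap.ker (t - d • 1), (d⁻¹ • t) v ∈ LinearMap.ker (t - d • 1) := by
    intro v hv
    rw [LinearMap.smul_apply]
    exact Submodule.smul_mem _ _ (inv_ker_sub t d v hv)
  have hC : ∀ v ∈ LinearMap.ker (t - (-d) • 1), (d⁻¹ • t) v ∈ LinearMap.ker (t - (-d) • 1) := by
    intro v hv
    rw [LinearMap.smul_apply]
    exact Submodule.smul_mem _ _ (inv_ker_sub t (-d) v hv)
  apply realOver_of_isCompl F₀ _ _ _ hc hZ hC
  · have : (d⁻¹ • t).restrict hZ = (1 : F) • (1 : LinearMap.ker (t - d • 1) →ₗ[F] _) := by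
      apply LinearMap.ext
      intro v
      apply Subtype.ext
      have hv := v.2
      rw [LinearMap.mem_ker, LinearMap.sub_apply, LinearMap.smul_apply, Module.End.one_apply,
        sub_eq_zero] at hv
      show (d⁻¹ • t) (v : V) = _
      rw [LinearMap.smul_apply, hv, smul_smul, inv_mul_cancel₀ hd]
      simp
    rw [this]
    exact realOver_smul_one F₀ 1 F₀.one_mem
  · have : (d⁻¹ • t).restrict hC = (-1 : F) • (1 : LinearMap.ker (t - (-d) • 1) →ₗ[F] _) := by
      apply LinearMap.ext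
      intro v
      apply Subtype.ext
      have hv := v.2
      rw [LinearMap.mem_ker, LinearMap.sub_apply, LinearMap.smul_apply, Module.End.one_apply,
        sub_eq_zero] at hv
      show (d⁻¹ • t) (v : V) = _
      rw [LinearMap.smul_apply, hv, smul_smul]
      have : d⁻¹ * -d = -1 := by field_simp
      rw [this]
      simp
    rw [this]
    exact realOver_smul_one F₀ (-1) (F₀.neg_mem F₀.one_mem)

theorem realOver_char_two (F₀ : Subfield F) (d : F) (hd : d ≠ 0) (h2 : (2 : F) = 0)
    (t : V →ₗ[F] V) (ht : t ^ 2 = (d ^ 2) • 1) : RealOver F₀ (d⁻¹ • t) := by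
  have hN2 := sub_smul_sq_eq_zero h2 d t ht
  have h1 : d⁻¹ • t = (1 : F) • (1 : V →ₗ[F] V) + d⁻¹ • (t - d • 1) := by
    rw [smul_sub, smul_smul, inv_mul_cancel₀ hd]
    abel
  rw [h1]
  apply RealOver.smul_one_add F₀ _ _ 1 F₀.one_mem
  apply realOver_of_nilpotent F₀ _ 2
  rw [smul_pow, hN2, smul_zero]

end sq

end Cfsg.Agent.Lib.Helper9.H9GReal
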