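import Mathlib
import Cfsg.Agent.Lib.Helper9.GReal3
import Cfsg.Agent.Lib.Helper1.SLCard

set_option autoImplicit false

/-! Subfield subgroups: squares, non-membership, and odd index. -/

namespace Cfsg.Agent.Lib.Helper9.H9GReal

open Module

section arith

/-- `(y + 1) ^ k = y * S + 1` with `S ≡ k (mod 2)` when `y` is even. -/
theorem exists_geom (y : ℕ) : ∀ k : ℕ, ∃ S : ℕ, (y + 1) ^ k = y * S + 1 ∧ (Even y → S % 2 = k % 2) := by
  intro k
  induction k with
  | zero => exact ⟨0, by simp, fun _ => rfl⟩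
  | succ k ih =>
    obtain ⟨S, hS, hpar⟩ := ih
    refine ⟨(y + 1) * S + 1, ?_, ?_⟩
    · rw [pow_succ, hS]
      ring
    · intro hy
      have h1 := hpar hy
      obtain ⟨j, hj⟩ := hy
      have : ((y + 1) * S + 1) % 2 = (S + 1) % 2 := by
        have : (y + 1) * S + 1 = 2 * (j * S) + (S + 1) := by rw [hj]; ring
        rw [this, Nat.mul_add_mod]
      rw [this]
      omega

theorem exists_odd_factor (x k : ℕ) (hx : Odd x) (hk : Odd k) :
    ∃ S : ℕ, Odd S ∧ x ^ k = (x - 1) * S + 1 := by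
  obtain ⟨j, hj⟩ := hx
  obtain ⟨S, hS, hpar⟩ := exists_geom (x - 1) k
  have hx1 : x - 1 + 1 = x := by omega
  rw [hx1] at hS
  refine ⟨S, ?_, hS⟩
  have h1 := hpar ⟨j, by omega⟩
  rw [Nat.odd_iff, h1]
  exact Nat.odd_iff.mp hk

/-- The product formula for `GL` over `Q ^ k` against that over `Q`. -/
theorem prod_sub_pow (Q k n : ℕ) (hQ : Odd Q) (hk : Odd k) :
    ∃ C : ℕ, Odd C ∧ ∏ i : Fin n, ((Q ^ k) ^ n - (Q ^ k) ^ (i : ℕ))
      = (∏ i : Fin n, (Q ^ n - Q ^ (i : ℕ))) * C := by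
  have hterm' : ∀ i : ℕ, i < n → ∃ c : ℕ, Odd c ∧
      (Q ^ k) ^ n - (Q ^ k) ^ i = (Q ^ n - Q ^ i) * c := by
    intro i hi
    obtain ⟨m, hm⟩ : ∃ m, n = i + m := ⟨n - i, by omega⟩
    obtain ⟨S, hSodd, hS⟩ := exists_odd_factor (Q ^ m) k (hQ.pow) hk
    have hk1 : 1 ≤ k := by obtain ⟨j, hj⟩ := hk; omega
    refine ⟨Q ^ ((k - 1) * i) * S, (hQ.pow).mul hSodd, ?_⟩
    have e1 : (Q ^ k) ^ n = (Q ^ k) ^ i * ((Q ^ m - 1) * S + 1) := by
      rw [← hS, hm, pow_add, ← pow_mul, ← pow_mul, ← pow_mul, mul_comm m k]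
    have e2 : Q ^ n = Q ^ i * Q ^ m := by rw [hm, pow_add]
    have e3 : (Q ^ k) ^ i = Q ^ i * Q ^ ((k - 1) * i) := by
      rw [← pow_mul, ← pow_add]
      congr 1
      have : k = 1 + (k - 1) := by omega
      nth_rewrite 1 [this]
      ring
    have hpos : 1 ≤ Q ^ m := Nat.one_le_pow _ _ (by obtain ⟨j, hj⟩ := hQ; omega)
    rw [e1, e2, Nat.mul_add, Nat.mul_one, Nat.add_sub_cancel, e3]
    have : Q ^ i * Q ^ m - Q ^ i = Q ^ i * (Q ^ m - 1) := by
      rw [Nat.mul_sub_one]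
    rw [this]
    ring
  have hterm : ∀ i : Fin n, ∃ c : ℕ, Odd c ∧
      (Q ^ k) ^ n - (Q ^ k) ^ (i : ℕ) = (Q ^ n - Q ^ (i : ℕ)) * c := fun i => hterm' i i.2
  choose c hc hceq using hterm
  refine ⟨∏ i : Fin n, c i, ?_, ?_⟩
  · apply Finset.prod_induction _ Odd (fun a b => Odd.mul) odd_one
    intro i _
    exact hc i
  · rw [← Finset.prod_mul_distrib]
    apply Finset.prod_congr rfl
    intro i _
    exact hceq i

end arith

section fld
variable {F : Type*} [Field F] [Fintype F]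

/-- Elements of the subfield of index two are squares. -/
theorem exists_sq_of_mem_subfield (F₀ : Subfield F) (Q : ℕ) (hF₀ : Nat.card F₀ = Q)
    (hq : Fintype.card F = Q ^ 2) (a : F) (ha : a ∈ F₀) : ∃ c : F, c ^ 2 = a := by
  by_cases h2 : (2 : F) = 0
  · have hr : ringChar F = 2 :=
      CharP.ringChar_of_prime_eq_zero Nat.prime_two (by exact_mod_cast h2)
    obtain ⟨c, hc⟩ := FiniteField.isSquare_of_char_two hr a
    exact ⟨c, by rw [hc, pow_two]⟩
  · have hF : ringChar F ≠ 2 := by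
      intro hr
      apply h2
      have := ringChar.Nat.cast_ringChar (R := F)
      rw [hr] at this
      exact_mod_cast this
    by_cases ha0 : a = 0
    · exact ⟨0, by rw [ha0]; ring⟩
    have hodd := FiniteField.odd_card_of_char_ne_two hF
    rw [hq] at hodd
    have hQodd : Q % 2 = 1 := by
      rcases Nat.even_or_odd Q with h | h
      · exfalso
        have : Even (Q ^ 2) := h.pow_of_ne_zero two_ne_zero
        have := Nat.even_iff.mp this
        omega
      · exact Nat.odd_iff.mp h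
    have h1 : a ^ Q = a := Cfsg.Agent.H9USub.pow_eq_of_mem F₀ hF₀ ha
    have h2' : a ^ (Q - 1) = 1 := by
      have hQ1 : 1 ≤ Q := by omega
      have : a ^ (Q - 1) * a = a := by rw [← pow_succ, Nat.sub_add_cancel hQ1, h1]
      have h3 : (a ^ (Q - 1) - 1) * a = 0 := by rw [sub_mul, this, one_mul, sub_self]
      exact sub_eq_zero.mp ((mul_eq_zero.mp h3).resolve_right ha0)
    have hdiv : Fintype.card F / 2 = (Q - 1) * ((Q + 1) / 2) := by
      rw [hq]
      obtain ⟨m, hm⟩ : ∃ m, Q = 2 * m + 1 := ⟨Q / 2, by omega⟩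
      subst hm
      have e1 : (2 * m + 1) ^ 2 = 2 * (2 * m * (m + 1)) + 1 := by ring
      have e2 : (2 * m + 1 + 1) / 2 = m + 1 := by omega
      rw [e1, e2]
      have : 2 * m + 1 - 1 = 2 * m := by omega
      rw [this]
      omega
    have hsq : IsSquare a := by
      rw [FiniteField.isSquare_iff hF ha0, hdiv, pow_mul, h2', one_pow]
    obtain ⟨c, hc⟩ := hsq
    exact ⟨c, by rw [hc, pow_two]⟩

end fld

section nonmem
variable {F : Type*} [Field F] {n : ℕ}

local notation "Mat" => Matrix (Fin n) (Fin n) F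

/-- An element whose square is a scalar outside `F₀ · (Fˣ)²` is not conjugate into the subfield
subgroup. -/
theorem not_conj_mem_subfield (hn : 1 ≤ n) (F₀ : Subfield F)
    (hsq : ∀ a ∈ F₀, ∃ c : F, c ^ 2 = a)
    (x : Matrix.SpecialLinearGroup (Fin n) F) (z : F) (hz : ∀ c : F, c ^ 2 ≠ z)
    (hx : ((x ^ 2 : Matrix.SpecialLinearGroup (Fin n) F) : Mat) = z • (1 : Mat))
    (P : Matrix.SpecialLinearGroup (Fin n) F) :
    P⁻¹ * x * P ∉ (Cfsg.Geo.subfieldSubgroup F₀ (1 : GL (Fin n) F)).comap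
        (Matrix.SpecialLinearGroup.toGL : Matrix.SpecialLinearGroup (Fin n) F →* GL (Fin n) F) := by
  intro hmem
  rw [Subgroup.mem_comap, mem_subfieldSubgroup_one_iff] at hmem
  obtain ⟨c, hc0, hent⟩ := hmem
  rw [Matrix.SpecialLinearGroup.coe_GL_coe_matrix] at hent
  choose a ha hMa using hent
  set M : Mat := ((P⁻¹ * x * P : Matrix.SpecialLinearGroup (Fin n) F) : Mat) with hM
  have hM2 : M * M = z • (1 : Mat) := by
    have h1 : (P⁻¹ * x * P) ^ 2 = P⁻¹ * x ^ 2 * P := by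
      rw [pow_two, pow_two]
      group
    have h2 : ((P⁻¹ * x ^ 2 * P : Matrix.SpecialLinearGroup (Fin n) F) : Mat) = z • (1 : Mat) := by
      rw [Matrix.SpecialLinearGroup.coe_mul, Matrix.SpecialLinearGroup.coe_mul, hx,
        Matrix.mul_smul, Matrix.mul_one, Matrix.smul_mul, ← Matrix.SpecialLinearGroup.coe_mul,
        inv_mul_cancel, Matrix.SpecialLinearGroup.coe_one]
    rw [hM, ← Matrix.SpecialLinearGroup.coe_mul, ← pow_two, h1, h2]
  let i₀ : Fin n := ⟨0, hn⟩
  have h00 := congrFun (congrFun hM2 i₀) i₀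
  rw [Matrix.mul_apply, Matrix.smul_apply, Matrix.one_apply_eq, smul_eq_mul, mul_one] at h00
  have hsum : ∑ j, M i₀ j * M j i₀ = c ^ 2 * ∑ j, a i₀ j * a j i₀ := by
    rw [Finset.mul_sum]
    apply Finset.sum_congr rfl
    intro j _
    rw [hMa, hMa]
    ring
  have hα : (∑ j, a i₀ j * a j i₀) ∈ F₀ :=
    F₀.sum_mem (fun j _ => F₀.mul_mem (ha _ _) (ha _ _))
  obtain ⟨e, he⟩ := hsq _ hα
  apply hz (c * e)
  rw [mul_pow, he, ← hsum, h00]

end nonmem

section index
variable {F : Type*} [Field F] [Fintype F] {n : ℕ}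

local notation "Mat" => Matrix (Fin n) (Fin n) F

/-- For `q = Q ^ k` with `Q` and `k` odd, the subfield subgroup has odd index in `SL`. -/
theorem odd_index_subfield (hn : 1 ≤ n) (F₀ : Subfield F) (Q k : ℕ) (hF₀ : Nat.card F₀ = Q)
    (hq : Fintype.card F = Q ^ k) (hQ : Odd Q) (hk : Odd k) :
    ¬ 2 ∣ ((Cfsg.Geo.subfieldSubgroup F₀ (1 : GL (Fin n) F)).comap
        (Matrix.SpecialLinearGroup.toGL :
          Matrix.SpecialLinearGroup (Fin n) F →* GL (Fin n) F)).index := by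
  classical
  haveI : Fintype F₀ := Fintype.ofFinite F₀
  have hcard₀ : Fintype.card F₀ = Q := by rw [← Nat.card_eq_fintype_card, hF₀]
  set φ : Matrix.SpecialLinearGroup (Fin n) F₀ →* Matrix.SpecialLinearGroup (Fin n) F :=
    Matrix.SpecialLinearGroup.map (F₀.subtype : F₀ →+* F) with hφ
  have hφinj : Function.Injective φ := by
    intro A B hAB
    apply Matrix.SpecialLinearGroup.ext
    intro i j
    have h1 := congrArg (fun g : Matrix.SpecialLinearGroup (Fin n) F => (g : Mat) i j) hAB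
    simp only [hφ, Matrix.SpecialLinearGroup.map_apply_coe, RingHom.mapMatrix_apply,
      Matrix.map_apply] at h1
    exact Subtype.ext h1
  have hle : φ.range ≤ (Cfsg.Geo.subfieldSubgroup F₀ (1 : GL (Fin n) F)).comap
      (Matrix.SpecialLinearGroup.toGL :
        Matrix.SpecialLinearGroup (Fin n) F →* GL (Fin n) F) := by
    rintro _ ⟨A, rfl⟩
    rw [Subgroup.mem_comap, mem_subfieldSubgroup_one_iff]
    refine ⟨1, one_ne_zero, ?_⟩
    intro i j
    refine ⟨(A i j : F), (A i j).2, ?_⟩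
    rw [Matrix.SpecialLinearGroup.coe_GL_coe_matrix, one_mul]
    simp [hφ, Matrix.SpecialLinearGroup.map_apply_coe]
  have hdvd := Subgroup.index_dvd_of_le hle
  intro h2
  have h2' : 2 ∣ φ.range.index := h2.trans hdvd
  have hcardS : Nat.card φ.range = Nat.card (Matrix.SpecialLinearGroup (Fin n) F₀) :=
    (Nat.card_congr (MonoidHom.ofInjective hφinj).toEquiv).symm
  have hlag := φ.range.card_mul_index
  rw [hcardS] at hlag
  have E1 := Cfsg.Agent.Lib.Helper1.card_SL_field (F := F) n hn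
  have E2 := Cfsg.Agent.Lib.Helper1.card_SL_field (F := F₀) n hn
  rw [hcard₀] at E2
  rw [hq] at E1
  obtain ⟨C, hCodd, hC⟩ := prod_sub_pow Q k n hQ hk
  obtain ⟨S₀, hS₀odd, hS₀⟩ := exists_odd_factor Q k hQ hk
  have hQ1 : 1 < Q := by
    have : 1 < Nat.card F₀ := Finite.one_lt_card
    omega
  have hposSL : 0 < Nat.card (Matrix.SpecialLinearGroup (Fin n) F₀) := Nat.card_pos
  have hkey : ((Q - 1) * Nat.card (Matrix.SpecialLinearGroup (Fin n) F₀)) * (S₀ * φ.range.index)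
      = ((Q - 1) * Nat.card (Matrix.SpecialLinearGroup (Fin n) F₀)) * C := by
    have e1 : Q ^ k - 1 = (Q - 1) * S₀ := by rw [hS₀]; omega
    calc ((Q - 1) * Nat.card (Matrix.SpecialLinearGroup (Fin n) F₀)) * (S₀ * φ.range.index)
        = ((Q - 1) * S₀) * (Nat.card (Matrix.SpecialLinearGroup (Fin n) F₀) * φ.range.index) := by
          ring
      _ = (Q ^ k - 1) * Nat.card (Matrix.SpecialLinearGroup (Fin n) F) := by rw [hlag, e1]
      _ = ∏ i : Fin n, ((Q ^ k) ^ n - (Q ^ k) ^ (i : ℕ)) := E1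
      _ = (∏ i : Fin n, (Q ^ n - Q ^ (i : ℕ))) * C := hC
      _ = ((Q - 1) * Nat.card (Matrix.SpecialLinearGroup (Fin n) F₀)) * C := by rw [E2]
  have hpos : 0 < (Q - 1) * Nat.card (Matrix.SpecialLinearGroup (Fin n) F₀) :=
    Nat.mul_pos (by omega) hposSL
  have hSI : S₀ * φ.range.index = C := Nat.eq_of_mul_eq_mul_left hpos hkey
  have : Even C := by
    rw [← hSI]
    exact (even_iff_two_dvd.mpr h2').mul_left S₀
  exact (Nat.not_even_iff_odd.mpr hCodd) this

end index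

end Cfsg.Agent.Lib.Helper9.H9GReal
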