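import Mathlib
import Cfsg.Agent.Lib.Helper9.GReal4
import Cfsg.Agent.Lib.Helper9.ExtInv2

set_option autoImplicit false

/-! Conjugation into subfield subgroups with an adjustment by a diagonal matrix over the
subfield; centralisers of nilpotent maps. -/

namespace Cfsg.Agent.Lib.Helper9.H9GReal

open Module
open Cfsg.Agent.H9SemiInv
open Cfsg.Agent.Lib.Helper9.H9GSpInv
open Cfsg.Agent.Lib.Helper9.H9GConj

section sl
variable {F : Type*} [Field F] {n : ℕ}

local notation "Mat" => Matrix (Fin n) (Fin n) F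

/-- Variant of `exists_SL_conj` with a given centralising element. -/
theorem exists_SL_conj' (x : Matrix.SpecialLinearGroup (Fin n) F)
    (t' : (Fin n → F) →ₗ[F] (Fin n → F))
    (g : (Fin n → F) →ₗ[F] (Fin n → F))
    (hg : ∀ v, g (Matrix.toLin' (x : Mat) v) = t' (g v))
    (c : (Fin n → F) →ₗ[F] (Fin n → F))
    (hcc : ∀ v, c (Matrix.toLin' (x : Mat) v) = Matrix.toLin' (x : Mat) (c v))
    (hdet : LinearMap.det g * LinearMap.det c = 1) :
    ∃ P : Matrix.SpecialLinearGroup (Fin n) F,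
      ((P⁻¹ * x * P : Matrix.SpecialLinearGroup (Fin n) F) : Mat) = LinearMap.toMatrix' t' := by
  set q : (Fin n → F) →ₗ[F] (Fin n → F) := g ∘ₗ c with hq
  have hqdet : LinearMap.det q = 1 := by
    rw [hq, LinearMap.det_comp, hdet]
  let Q : Matrix.SpecialLinearGroup (Fin n) F :=
    ⟨LinearMap.toMatrix' q, by rw [LinearMap.det_toMatrix', hqdet]⟩
  have hQ : (Q : Mat) = LinearMap.toMatrix' q := rfl
  refine ⟨Q⁻¹, ?_⟩
  rw [inv_inv]
  have h1 : (Q : Mat) * (x : Mat) = LinearMap.toMatrix' t' * (Q : Mat) := by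
    apply Matrix.toLin'.injective
    apply LinearMap.ext
    intro v
    rw [Matrix.toLin'_mul, Matrix.toLin'_mul, hQ, Matrix.toLin'_toMatrix', Matrix.toLin'_toMatrix',
      LinearMap.comp_apply, LinearMap.comp_apply, hq, LinearMap.comp_apply, LinearMap.comp_apply,
      hcc]
    exact hg _
  rw [Matrix.SpecialLinearGroup.coe_mul, Matrix.SpecialLinearGroup.coe_mul, h1, Matrix.mul_assoc,
    ← Matrix.SpecialLinearGroup.coe_mul, mul_inv_cancel, Matrix.SpecialLinearGroup.coe_one,
    Matrix.mul_one]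

/-- The conjugation lemma for subfield subgroups, with centraliser determinants only up to
elements of the subfield. -/
theorem conj_mem_subfield' (hn : 1 ≤ n) (F₀ : Subfield F)
    (x : Matrix.SpecialLinearGroup (Fin n) F)
    (d : F) (hd : d ≠ 0) (s : (Fin n → F) →ₗ[F] (Fin n → F))
    (hts : Matrix.toLin' (x : Mat) = d • s) (hs : RealOver F₀ s)
    (hcent : ∀ δ : F, δ ≠ 0 → ∃ c : (Fin n → F) →ₗ[F] (Fin n → F),
      (∀ v, c (Matrix.toLin' (x : Mat) v) = Matrix.toLin' (x : Mat) (c v)) ∧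
      ∃ a ∈ F₀, a ≠ 0 ∧ LinearMap.det c * a = δ) :
    ∃ P : Matrix.SpecialLinearGroup (Fin n) F,
      P⁻¹ * x * P ∈ (Cfsg.Geo.subfieldSubgroup F₀ (1 : GL (Fin n) F)).comap
        (Matrix.SpecialLinearGroup.toGL : Matrix.SpecialLinearGroup (Fin n) F →* GL (Fin n) F) := by
  classical
  obtain ⟨ι, _, b, hb⟩ := hs
  have hcard : Fintype.card ι = n := by
    rw [← Module.finrank_eq_card_basis b, Module.finrank_fin_fun]
  let eι : ι ≃ Fin n := Fintype.equivFinOfCardEq hcard
  let b' : Basis (Fin n) F (Fin n → F) := b.reindex eι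
  let g : (Fin n → F) ≃ₗ[F] (Fin n → F) := b'.equivFun
  let y : (Fin n → F) →ₗ[F] (Fin n → F) :=
    (g : (Fin n → F) →ₗ[F] (Fin n → F)) ∘ₗ Matrix.toLin' (x : Mat) ∘ₗ
      (g.symm : (Fin n → F) →ₗ[F] (Fin n → F))
  have hg : ∀ v, g (Matrix.toLin' (x : Mat) v) = y (g v) := by
    intro v
    simp [y]
  have hγ : LinearMap.det (g : (Fin n → F) →ₗ[F] (Fin n → F)) ≠ 0 :=
    (LinearEquiv.isUnit_det' g).ne_zero
  obtain ⟨c, hcc, a, haF, ha0, hdet⟩ := hcent _ (inv_ne_zero hγ)
  -- entries of `y`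
  have hy : ∀ i j, ∃ e ∈ F₀, LinearMap.toMatrix' y i j = d * e := by
    intro i j
    refine ⟨b.repr (s (b (eι.symm j))) (eι.symm i), hb _ _, ?_⟩
    rw [LinearMap.toMatrix'_apply]
    show g (Matrix.toLin' (x : Mat) (g.symm (Pi.single j 1))) i = _
    have h1 : g.symm (Pi.single j 1) = b (eι.symm j) := by
      rw [LinearEquiv.symm_apply_eq]
      show _ = b'.equivFun (b (eι.symm j))
      have : b (eι.symm j) = b' j := by
        simp [b']
      rw [this]
      funext k
      rw [Basis.equivFun_self, Pi.single_apply]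
      simp only [eq_comm]
    rw [h1, hts, LinearMap.smul_apply, map_smul, Pi.smul_apply, smul_eq_mul]
    congr 1
  -- the diagonal adjustment
  let i₀ : Fin n := ⟨0, hn⟩
  let D : Mat := Matrix.diagonal (Function.update (fun _ => (1 : F)) i₀ a)
  let D' : Mat := Matrix.diagonal (Function.update (fun _ => (1 : F)) i₀ a⁻¹)
  have hDD' : D * D' = 1 := by
    rw [Matrix.diagonal_mul_diagonal, ← Matrix.diagonal_one]
    congr 1
    funext j
    by_cases hj : j = i₀
    · subst hj
      simp [mul_inv_cancel₀ ha0]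
    · simp [Function.update_of_ne hj]
  have hD'D : D' * D = 1 := by
    rw [Matrix.diagonal_mul_diagonal, ← Matrix.diagonal_one]
    congr 1
    funext j
    by_cases hj : j = i₀
    · subst hj
      simp [inv_mul_cancel₀ ha0]
    · simp [Function.update_of_ne hj]
  have hdetD : D.det = a := by
    rw [Matrix.det_diagonal, Finset.prod_update_of_mem (Finset.mem_univ i₀)]
    simp
  set g' : (Fin n → F) →ₗ[F] (Fin n → F) :=
    Matrix.toLin' D ∘ₗ (g : (Fin n → F) →ₗ[F] (Fin n → F)) with hg'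
  set y' : (Fin n → F) →ₗ[F] (Fin n → F) :=
    Matrix.toLin' D ∘ₗ y ∘ₗ Matrix.toLin' D' with hy'
  have hg'y : ∀ v, g' (Matrix.toLin' (x : Mat) v) = y' (g' v) := by
    intro v
    rw [hg', hy']
    simp only [LinearMap.comp_apply, LinearEquiv.coe_coe]
    rw [hg]
    congr 2
    rw [← LinearMap.comp_apply, ← Matrix.toLin'_mul, hD'D, Matrix.toLin'_one, LinearMap.id_apply]
  have hdet' : LinearMap.det g' * LinearMap.det c = 1 := by
    rw [hg', LinearMap.det_comp, LinearMap.det_toLin', hdetD]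
    have : LinearMap.det c = (LinearMap.det (g : (Fin n → F) →ₗ[F] (Fin n → F)))⁻¹ * a⁻¹ := by
      rw [← hdet]
      field_simp
    rw [this]
    field_simp
  obtain ⟨P, hP⟩ := exists_SL_conj' x y' g' hg'y c hcc hdet'
  refine ⟨P, ?_⟩
  rw [Subgroup.mem_comap, mem_subfieldSubgroup_one_iff]
  refine ⟨d, hd, ?_⟩
  intro i j
  rw [Matrix.SpecialLinearGroup.coe_GL_coe_matrix, hP]
  obtain ⟨e, he, hye⟩ := hy i j
  have hym : LinearMap.toMatrix' y' = D * LinearMap.toMatrix' y * D' := by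
    rw [hy', LinearMap.toMatrix'_comp, LinearMap.toMatrix'_comp, LinearMap.toMatrix'_toLin',
      LinearMap.toMatrix'_toLin', Matrix.mul_assoc]
  have haF' : a⁻¹ ∈ F₀ := F₀.inv_mem haF
  have hupd : ∀ (w : F) (hw : w ∈ F₀) (l : Fin n), Function.update (fun _ => (1 : F)) i₀ w l ∈ F₀ := by
    intro w hw l
    by_cases hl : l = i₀
    · subst hl
      rw [Function.update_self]
      exact hw
    · rw [Function.update_of_ne hl]
      exact F₀.one_mem
  refine ⟨Function.update (fun _ => (1 : F)) i₀ a i * e *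
    Function.update (fun _ => (1 : F)) i₀ a⁻¹ j,
    F₀.mul_mem (F₀.mul_mem (hupd a haF i) he) (hupd a⁻¹ haF' j), ?_⟩
  rw [hym, Matrix.mul_diagonal, Matrix.diagonal_mul, hye]
  ring

end sl

end Cfsg.Agent.Lib.Helper9.H9GReal
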