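import Mathlib
import Cfsg.Agent.Lib.Helper9.GReal5

set_option autoImplicit false

/-! Centralisers of nilpotent maps; squares times subfield elements. -/

namespace Cfsg.Agent.Lib.Helper9.H9GReal

open Module
open Cfsg.Agent.H9SemiInv
open Cfsg.Agent.Lib.Helper9.H9GSpInv
open Cfsg.Agent.Lib.Helper9.H9GConj
open Cfsg.Agent.Lib.Helper9.H9ExtInv

section cent
variable {F : Type*} [Field F] {V : Type*} [AddCommGroup V] [Module F V] [FiniteDimensional F V]

/-- The centraliser of a nilpotent map of index `e` contains elements of determinant `α ^ e`. -/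
theorem cent_nil (N : V →ₗ[F] V) (e : ℕ) (he1 : 1 ≤ e) (hNe : N ^ e = 0) (hne : N ^ (e - 1) ≠ 0)
    (α : F) : ∃ c : V →ₗ[F] V, (∀ v, c (N v) = N (c v)) ∧ LinearMap.det c = α ^ e := by
  obtain ⟨Z, C, hZC, hZ, hC, hZe⟩ := Cfsg.Agent.H9Nil.exists_cyclic_compl_of_index N e he1 hNe hne
  refine ⟨blockMap Z C hZC (α • 1), ?_, by rw [det_blockMap, det_smul_one, hZe]⟩
  intro v
  apply blockMap_comm Z C hZC (α • 1) N hZ hC
  intro w
  rw [LinearMap.smul_apply, LinearMap.smul_apply, Module.End.one_apply, Module.End.one_apply,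
    map_smul]

/-- If the kernel of `N` is not contained in its range, the centraliser has all determinants. -/
theorem cent_nil_of_notMem (N : V →ₗ[F] V) (u : V) (hu : N u = 0)
    (hur : u ∉ LinearMap.range N) (δ : F) :
    ∃ c : V →ₗ[F] V, (∀ v, c (N v) = N (c v)) ∧ LinearMap.det c = δ := by
  obtain ⟨f, hfu, hle⟩ := Submodule.exists_le_ker_of_notMem hur
  have hu0 : u ≠ 0 := by
    rintro rfl
    exact hur (Submodule.zero_mem _)
  have hAB : IsCompl (Submodule.span F {u}) (LinearMap.ker f) := by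
    constructor
    · rw [Submodule.disjoint_def]
      intro v hv hv'
      obtain ⟨l, rfl⟩ := Submodule.mem_span_singleton.mp hv
      rw [LinearMap.mem_ker, map_smul, smul_eq_mul] at hv'
      rcases mul_eq_zero.mp hv' with h | h
      · rw [h, zero_smul]
      · exact absurd h hfu
    · rw [codisjoint_iff, eq_top_iff]
      intro v _
      have h1 : v = (f v / f u) • u + (v - (f v / f u) • u) := by abel
      rw [h1]
      apply Submodule.add_mem
      · exact Submodule.mem_sup_left (Submodule.smul_mem _ _ (Submodule.mem_span_singleton_self u))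
      · apply Submodule.mem_sup_right
        rw [LinearMap.mem_ker, map_sub, map_smul, smul_eq_mul]
        field_simp
        ring
  have hA : ∀ v ∈ Submodule.span F {u}, N v ∈ Submodule.span F {u} := by
    intro v hv
    obtain ⟨l, rfl⟩ := Submodule.mem_span_singleton.mp hv
    rw [map_smul, hu, smul_zero]
    exact Submodule.zero_mem _
  have hB : ∀ v ∈ LinearMap.ker f, N v ∈ LinearMap.ker f := by
    intro v _
    exact hle (LinearMap.mem_range_self N v)
  refine ⟨blockMap _ _ hAB (δ • 1), ?_, ?_⟩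
  · intro v
    apply blockMap_comm _ _ hAB (δ • 1) N hA hB
    intro w
    rw [LinearMap.smul_apply, LinearMap.smul_apply, Module.End.one_apply, Module.End.one_apply,
      map_smul]
  · rw [det_blockMap, det_smul_one, finrank_span_singleton hu0, pow_one]

end cent

section fin
variable {F : Type*} [Field F] [Fintype F]

/-- For `q = Q ^ k` with `k` odd, every non-zero element is a square times an element of the
subfield. -/
theorem exists_sq_mul_mem (h2 : (2 : F) ≠ 0) (F₀ : Subfield F) (Q k : ℕ)
    (hF₀ : Nat.card F₀ = Q) (hq : Fintype.card F = Q ^ k) (hk : Odd k) (δ : F) :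
    ∃ α : F, ∃ a ∈ F₀, a ≠ 0 ∧ α ^ 2 * a = δ := by
  classical
  by_cases hsq : ∃ c : F, c ^ 2 = δ
  · obtain ⟨c, hc⟩ := hsq
    exact ⟨c, 1, F₀.one_mem, one_ne_zero, by rw [mul_one, hc]⟩
  push Not at hsq
  haveI : Fintype F₀ := Fintype.ofFinite F₀
  have hcard₀ : Fintype.card F₀ = Q := by rw [← Nat.card_eq_fintype_card, hF₀]
  have hF : ringChar F ≠ 2 := by
    intro hr
    apply h2
    have := ringChar.Nat.cast_ringChar (R := F)
    rw [hr] at this
    exact_mod_cast this
  have h2₀ : (2 : F₀) ≠ 0 := by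
    intro h
    apply h2
    have h' := congrArg (fun a : F₀ => (a : F)) h
    have e1 : ((2 : F₀) : F) = 2 := by norm_cast
    have e0 : ((0 : F₀) : F) = 0 := rfl
    simp only [e1, e0] at h'
    exact h'
  have hF₀' : ringChar F₀ ≠ 2 := by
    intro hr
    apply h2₀
    have := ringChar.Nat.cast_ringChar (R := F₀)
    rw [hr] at this
    exact_mod_cast this
  obtain ⟨ν, hν⟩ := FiniteField.exists_nonsquare hF₀'
  have hν0 : ν ≠ 0 := by
    rintro rfl
    exact hν ⟨0, by simp⟩
  have hν1 : ν ^ (Fintype.card F₀ / 2) = -1 := by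
    rcases FiniteField.pow_dichotomy hF₀' hν0 with h | h
    · exact absurd ((FiniteField.isSquare_iff hF₀' hν0).mpr h) hν
    · exact h
  have hQodd : Odd Q := by
    have := FiniteField.odd_card_of_char_ne_two hF₀'
    rw [hcard₀] at this
    exact Nat.odd_iff.mpr this
  obtain ⟨S₀, hS₀odd, hS₀⟩ := exists_odd_factor Q k hQodd hk
  have hdiv : Fintype.card F / 2 = (Q / 2) * S₀ := by
    rw [hq, hS₀]
    obtain ⟨m, hm⟩ := hQodd
    have e1 : Q - 1 = 2 * m := by omega
    have e2 : Q / 2 = m := by omega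
    rw [e1, e2]
    have : 2 * m * S₀ + 1 = 2 * (m * S₀) + 1 := by ring
    rw [this]
    omega
  have hνF : ((ν : F₀) : F) ^ (Fintype.card F / 2) = -1 := by
    rw [hdiv, pow_mul]
    have h1 : ((ν : F₀) : F) ^ (Q / 2) = -1 := by
      have := congrArg (fun a : F₀ => (a : F)) hν1
      rw [hcard₀] at this
      simpa using this
    rw [h1, hS₀odd.neg_one_pow]
  have hνF0 : ((ν : F₀) : F) ≠ 0 := by
    intro h
    apply hν0
    exact Subtype.ext h
  have hνns : ∀ c : F, c ^ 2 ≠ ((ν : F₀) : F) := by
    intro c hc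
    have hsq' : IsSquare ((ν : F₀) : F) := ⟨c, by rw [← hc, pow_two]⟩
    have h1 := (FiniteField.isSquare_iff hF hνF0).mp hsq'
    rw [hνF] at h1
    have : (2 : F) = 0 := by linear_combination -h1
    exact h2 this
  obtain ⟨c, hc⟩ := exists_eq_mul_sq h2 _ δ hνns hsq
  exact ⟨c, ν, ν.2, hνF0, by rw [hc]; ring⟩

end fin

end Cfsg.Agent.Lib.Helper9.H9GReal
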