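import Mathlib

set_option autoImplicit false

namespace Cfsg.Agent.Lib.Helper9.AlpBnil

/-- a `p`-power-order endomorphism of a non-trivial finite abelian `p`-group has a non-zero
fixed point. -/
theorem exists_fixed_ne_zero {A : Type*} [AddCommGroup A] [Finite A] {p : ℕ} [Fact p.Prime]
    (k : ℕ) (hk : 0 < k) (hA : Nat.card A = p ^ k) (u : AddMonoid.End A) (j : ℕ)
    (hu : u ^ (p ^ j) = 1) : ∃ a : A, a ≠ 0 ∧ u a = a := by
  classical
  have hp : p.Prime := Fact.out
  let _ : Fintype A := Fintype.ofFinite A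
  let f : Function.End A := fun a => u a
  have hfpow : ∀ n : ℕ, ∀ a : A, (f ^ n) a = (u ^ n) a := by
    intro n
    induction n with
    | zero => intro a; rfl
    | succ n ih =>
      intro a
      rw [pow_succ, pow_succ]
      show (f ^ n) (f a) = (u ^ n) (u a)
      rw [ih]
  have hf : f ^ p ^ j = 1 := by
    funext a
    rw [hfpow, hu]; rfl
  have hmod := Equiv.Perm.card_fixedPoints_modEq (p := p) (n := j) hf
  rw [← Nat.card_eq_fintype_card, hA] at hmod
  have hdvd : p ∣ Fintype.card (Function.fixedPoints f) := by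
    have h1 : p ^ k ≡ 0 [MOD p] := (Nat.modEq_zero_iff_dvd).mpr (dvd_pow_self p hk.ne')
    exact (Nat.modEq_zero_iff_dvd).mp (hmod.symm.trans h1)
  have h0 : (0 : A) ∈ Function.fixedPoints f := by
    show u 0 = 0
    exact map_zero u
  have hcard : 1 < Fintype.card (Function.fixedPoints f) := by
    have hpos : 0 < Fintype.card (Function.fixedPoints f) := Fintype.card_pos_iff.mpr ⟨⟨0, h0⟩⟩
    have := Nat.le_of_dvd hpos hdvd
    have := hp.two_le
    omega
  obtain ⟨⟨a, ha⟩, hne⟩ := Fintype.exists_ne_of_one_lt_card hcard ⟨0, h0⟩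
  refine ⟨a, ?_, ha⟩
  intro h
  apply hne
  exact Subtype.ext h

/-- the general statement, by induction on `B` over all groups. -/
theorem sub_one_pow_eq_zero_aux {p : ℕ} [Fact p.Prime] (j : ℕ) :
    ∀ (B : ℕ) (A : Type*) [AddCommGroup A] [Finite A], (∃ k, Nat.card A = p ^ k) →
      ∀ u : AddMonoid.End A, u ^ (p ^ j) = 1 → Nat.card A ≤ p ^ B → (u - 1) ^ B = 0 := by
  have hp : p.Prime := Fact.out
  intro B
  induction B with
  | zero =>
    intro A _ _ _ u _ hB
    rw [pow_zero] at hB
    have hsub : Subsingleton A := (Finite.card_le_one_iff_subsingleton).mp hB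
    refine DFunLike.ext _ _ (fun a => ?_)
    exact Subsingleton.elim _ _
  | succ B ih =>
    intro A _ _ hA u hu hB
    obtain ⟨k, hk⟩ := hA
    rcases Nat.eq_zero_or_pos k with hk0 | hkpos
    · -- trivial group
      rw [hk0, pow_zero] at hk
      have hsub : Subsingleton A := (Finite.card_le_one_iff_subsingleton).mp hk.le
      refine DFunLike.ext _ _ (fun a => ?_)
      exact Subsingleton.elim _ _
    -- the image of `u - 1`
    set A' : AddSubgroup A := AddMonoidHom.range (u - 1 : AddMonoid.End A) with hA'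
    have hcomm : ∀ a : A, u ((u - 1 : AddMonoid.End A) a) = (u - 1 : AddMonoid.End A) (u a) := by
      intro a
      show (u * (u - 1)) a = ((u - 1) * u) a
      rw [mul_sub, sub_mul, mul_one, one_mul]
    have hinv : ∀ a ∈ A', u a ∈ A' := by
      rintro _ ⟨b, rfl⟩
      exact ⟨u b, (hcomm b).symm⟩
    let u' : AddMonoid.End A' :=
      ((u : A →+ A).comp A'.subtype).codRestrict A' (fun a => hinv a a.2)
    have hu'pow : ∀ n : ℕ, ∀ a : A', (((u' ^ n) a : A') : A) = (u ^ n) (a : A) := by
      intro n
      induction n with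
      | zero => intro a; rfl
      | succ n ih2 =>
        intro a
        rw [pow_succ, pow_succ]
        show (((u' ^ n) (u' a) : A') : A) = (u ^ n) (u (a : A))
        rw [ih2]
        rfl
    have hu' : u' ^ (p ^ j) = 1 := by
      refine DFunLike.ext _ _ (fun a => ?_)
      apply Subtype.ext
      have h1 := hu'pow (p ^ j) a
      rw [hu] at h1
      exact h1
    -- `A'` is a proper subgroup
    obtain ⟨a₀, ha₀, hfix⟩ := exists_fixed_ne_zero k hkpos hk u j hu
    have hker : (u - 1 : AddMonoid.End A) a₀ = 0 := by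
      show u a₀ - a₀ = 0
      rw [hfix, sub_self]
    have hninj : ¬ Function.Injective (u - 1 : AddMonoid.End A) := by
      intro hinj
      apply ha₀
      apply hinj
      rw [hker, map_zero]
    have hnsurj : ¬ Function.Surjective (u - 1 : AddMonoid.End A) := by
      intro hs
      exact hninj (Finite.injective_iff_surjective.mpr hs)
    have hne_top : A' ≠ ⊤ := by
      intro h
      apply hnsurj
      exact AddMonoidHom.range_eq_top.mp h
    have hdvd : Nat.card A' ∣ p ^ k := by
      rw [← hk]; exact AddSubgroup.card_addSubgroup_dvd_card A'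
    obtain ⟨i, hik, hi⟩ := (Nat.dvd_prime_pow hp).mp hdvd
    have hilt : i < k := by
      rcases Nat.lt_or_ge i k with h | h
      · exact h
      · exfalso
        have hik' : i = k := le_antisymm hik h
        apply hne_top
        apply AddSubgroup.eq_top_of_card_eq
        rw [hi, hik', hk]
    have hkB : k ≤ B + 1 := by
      rw [hk] at hB
      exact (Nat.pow_le_pow_iff_right hp.one_lt).mp hB
    have hcardA' : Nat.card A' ≤ p ^ B := by
      rw [hi]
      exact Nat.pow_le_pow_right hp.pos (by omega)
    have key := ih A' ⟨i, hi⟩ u' hu' hcardA'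
    -- transfer
    have hpow' : ∀ n : ℕ, ∀ a : A', ((((u' - 1) ^ n) a : A') : A) = ((u - 1) ^ n) (a : A) := by
      intro n
      induction n with
      | zero => intro a; rfl
      | succ n ih2 =>
        intro a
        rw [pow_succ, pow_succ]
        show ((((u' - 1) ^ n) ((u' - 1) a) : A') : A) = ((u - 1) ^ n) ((u - 1) (a : A))
        rw [ih2]
        rfl
    refine DFunLike.ext _ _ (fun a => ?_)
    rw [pow_succ]
    show ((u - 1) ^ B) ((u - 1 : AddMonoid.End A) a) = 0
    have h1 := hpow' B ⟨(u - 1 : AddMonoid.End A) a, ⟨a, rfl⟩⟩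
    rw [key] at h1
    exact h1.symm

/-- (B-nil) a `p`-element acts nilpotently on a section of order `≤ p^B`. -/
theorem sub_one_pow_eq_zero {A : Type*} [AddCommGroup A] [Finite A] {p : ℕ} [Fact p.Prime]
    (hA : ∃ k, Nat.card A = p ^ k) (u : AddMonoid.End A) (j : ℕ) (hu : u ^ (p ^ j) = 1) (B : ℕ)
    (hB : Nat.card A ≤ p ^ B) : (u - 1) ^ B = 0 :=
  sub_one_pow_eq_zero_aux j B A hA u hu hB

end Cfsg.Agent.Lib.Helper9.AlpBnil
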