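import Mathlib
import Cfsg.Agent.S0032
import Cfsg.Agent.Lib.Helper7.HkkDefs
import Cfsg.Agent.Lib.Helper7.HkkGr
import Cfsg.Agent.Lib.Helper7.HkkGC

set_option autoImplicit false

/-! # HKK package P8: the associated Lie ring of a finite group with an automorphism -/

namespace Cfsg.Agent.Lib.Helper7.Hkk

universe u

open DirectSum
open scoped commutatorElement

namespace AL

variable {G : Type u} [Group G]

theorem map_mem_Gam (β : G ≃* G) (n : ℕ) {g : G} (hg : g ∈ Gam G n) : β g ∈ Gam G n := by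
  have hc : (Gam G n).Characteristic := inferInstance
  have h := (Subgroup.characteristic_iff_map_eq.mp hc) β
  rw [← h]
  exact Subgroup.mem_map_of_mem _ hg

/-- the automorphism restricted to `Γ n` -/
def gamMap (β : G ≃* G) (n : ℕ) : Gam G n →* Gam G n where
  toFun g := ⟨β g, map_mem_Gam β n g.2⟩
  map_one' := by ext; simp
  map_mul' a b := by ext; simp

@[simp] theorem gamMap_coe (β : G ≃* G) (n : ℕ) (g : Gam G n) :
    ((gamMap β n g : Gam G n) : G) = β g := rfl

theorem gamMap_le (β : G ≃* G) (n : ℕ) :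
    (Gam G (n + 1)).subgroupOf (Gam G n) ≤
      ((Gam G (n + 1)).subgroupOf (Gam G n)).comap (gamMap β n) := by
  intro g hg
  rw [Subgroup.mem_comap, Subgroup.mem_subgroupOf]
  rw [Subgroup.mem_subgroupOf] at hg
  exact map_mem_Gam β (n + 1) hg

/-- the induced additive endomorphism of the layer -/
def layMap (β : G ≃* G) (n : ℕ) : Lay G n →+ Lay G n :=
  MonoidHom.toAdditive (QuotientGroup.map _ _ (gamMap β n) (gamMap_le β n))

theorem layMap_lay (β : G ≃* G) (n : ℕ) (g : Gam G n) :
    layMap β n (lay G n g) = lay G n (gamMap β n g) := rfl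

/-- the induced additive endomorphism of the direct sum of the layers -/
noncomputable def bigMap (β : G ≃* G) : (⨁ n, Lay G n) →+ (⨁ n, Lay G n) :=
  DirectSum.map (fun n => layMap β n)

theorem bigMap_of (β : G ≃* G) (n : ℕ) (a : Lay G n) :
    bigMap β (DirectSum.of (Lay G) n a) = DirectSum.of (Lay G) n (layMap β n a) := by
  simp [bigMap]

theorem bigMap_apply (β : G ≃* G) (x : ⨁ n, Lay G n) (n : ℕ) :
    (bigMap β x) n = layMap β n (x n) := by
  simp [bigMap]

theorem bigMap_mul (β γ : G ≃* G) (x : ⨁ n, Lay G n) :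
    bigMap β (bigMap γ x) = bigMap (β * γ) x := by
  induction x using DirectSum.induction_on with
  | zero => simp
  | add x y hx hy => rw [map_add, map_add, map_add, hx, hy]
  | of n a =>
    obtain ⟨g, rfl⟩ := lay_surjective G n a
    rw [bigMap_of, bigMap_of, bigMap_of, layMap_lay, layMap_lay, layMap_lay]
    rfl

theorem bigMap_one (x : ⨁ n, Lay G n) : bigMap (1 : G ≃* G) x = x := by
  induction x using DirectSum.induction_on with
  | zero => simp
  | add x y hx hy => rw [map_add, hx, hy]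
  | of n a =>
    obtain ⟨g, rfl⟩ := lay_surjective G n a
    rw [bigMap_of, layMap_lay]
    rfl

theorem bigMap_iterate (β : G ≃* G) (k : ℕ) (x : ⨁ n, Lay G n) :
    (bigMap β)^[k] x = bigMap (β ^ k) x := by
  induction k generalizing x with
  | zero => simp [bigMap_one]
  | succ k ih =>
    rw [Function.iterate_succ_apply, ih, bigMap_mul, pow_succ]

section Lie

variable [Finite G]

theorem gamMap_gcomm (β : G ≃* G) (i j n : ℕ) (h : i + j + 1 = n) (x : Gam G i) (y : Gam G j) :
    gamMap β n (gcomm G i j n h x y) = gcomm G i j n h (gamMap β i x) (gamMap β j y) := by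
  apply Subtype.ext
  simp only [gamMap_coe, gcomm]
  exact map_commutatorElement β _ _

theorem bigMap_brk (β : G ≃* G) (x y : ⨁ n, Lay G n) :
    bigMap β ((grLie G).brkHom x y) = (grLie G).brkHom (bigMap β x) (bigMap β y) := by
  induction x using DirectSum.induction_on with
  | zero => simp
  | add x x' hx hx' =>
    simp only [map_add, AddMonoidHom.add_apply, hx, hx']
  | of i a =>
    induction y using DirectSum.induction_on with
    | zero => simp
    | add y y' hy hy' =>
      simp only [map_add, hy, hy']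
    | of j b =>
      obtain ⟨x, rfl⟩ := lay_surjective G i a
      obtain ⟨y, rfl⟩ := lay_surjective G j b
      rw [bigMap_of, bigMap_of, layMap_lay, layMap_lay,
        (grLie G).brkHom_of_of i j _ rfl, (grLie G).brkHom_of_of i j _ rfl, bigMap_of,
        grLie_B, grLie_B, grB_lay, grB_lay, layMap_lay, gamMap_gcomm]

theorem layMap_fixed (α : G ≃* G) (hfpf : ∀ g : G, α g = g → g = 1) (n : ℕ) (a : Lay G n)
    (ha : layMap α n a = a) : a = 0 := by
  obtain ⟨g, rfl⟩ := lay_surjective G n a
  rw [layMap_lay, lay_eq_iff] at ha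
  rw [lay_eq_zero_iff]
  have hfpf' : MonoidHom.FixedPointFree (α : G →* G) := fun g hg => hfpf g (by simpa using hg)
  have : (Gam G (n + 1)).Normal := inferInstance
  exact Cfsg.Agent.S0032.result α hfpf' (Gam G (n + 1))
    (fun m hm => map_mem_Gam α (n + 1) hm) (g : G) ha

theorem bigMap_fixed (α : G ≃* G) (hfpf : ∀ g : G, α g = g → g = 1) (x : ⨁ n, Lay G n)
    (hx : bigMap α x = x) : x = 0 := by
  apply DFinsupp.ext
  intro n
  have h1 : (bigMap α x) n = x n := by rw [hx]
  rw [bigMap_apply] at h1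
  exact layMap_fixed α hfpf n (x n) h1

omit [Finite G] in
theorem lay_pow (n : ℕ) (g : Gam G n) (k : ℕ) : lay G n (g ^ k) = k • lay G n g := by
  induction k with
  | zero => simp [lay_one]
  | succ k ih => rw [pow_succ, lay_mul, ih, succ_nsmul]

omit [Finite G] in
theorem card_nsmul (x : ⨁ n, Lay G n) : Nat.card G • x = 0 := by
  induction x using DirectSum.induction_on with
  | zero => simp
  | add x y hx hy => rw [nsmul_add, hx, hy, add_zero]
  | of n a =>
    obtain ⟨g, rfl⟩ := lay_surjective G n a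
    have h1 : g ^ Nat.card G = 1 := by
      apply Subtype.ext
      simp
    rw [← map_nsmul, ← lay_pow, h1, lay_one, map_zero]

theorem of_mem_lcs (N : ℕ) :
    letI := (grLie G).lieRing
    ∀ a : Lay G N, DirectSum.of (Lay G) N a ∈ lcs (⊤ : AddSubgroup (⨁ n, Lay G n)) N := by
  let _ := (grLie G).lieRing
  induction N with
  | zero => intro a; exact AddSubgroup.mem_top _
  | succ N ih =>
    intro a
    obtain ⟨⟨g, hg⟩, rfl⟩ := lay_surjective G (N + 1) a
    have key : ∀ g : G, g ∈ Gam G (N + 1) → ∃ hg : g ∈ Gam G (N + 1),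
        DirectSum.of (Lay G) (N + 1) (lay G (N + 1) ⟨g, hg⟩) ∈
          lcs (⊤ : AddSubgroup (⨁ n, Lay G n)) (N + 1) := by
      intro g hg
      have hg' : g ∈ Subgroup.closure {z | ∃ x ∈ Gam G N, ∃ y ∈ (⊤ : Subgroup G), ⁅x, y⁆ = z} := hg
      induction hg' using Subgroup.closure_induction with
      | mem z hz =>
        obtain ⟨x, hx, y, hy, rfl⟩ := hz
        refine ⟨hg, ?_⟩
        have h1 : DirectSum.of (Lay G) (N + 1) (lay G (N + 1) ⟨⁅x, y⁆, hg⟩) =
            ⁅DirectSum.of (Lay G) N (lay G N ⟨x, hx⟩),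
              DirectSum.of (Lay G) 0 (lay G 0 ⟨y, hy⟩)⁆ := by
          rw [(grLie G).lie_of_of N 0 (N + 1) rfl, grLie_B, grB_lay]
          rfl
        rw [h1]
        exact AddSubgroup.subset_closure ⟨_, ih _, _, AddSubgroup.mem_top _, rfl⟩
      | one =>
        refine ⟨one_mem _, ?_⟩
        have : (⟨1, one_mem _⟩ : Gam G (N + 1)) = 1 := rfl
        rw [this, lay_one, map_zero]
        exact zero_mem _
      | mul x y hx hy ihx ihy =>
        obtain ⟨hx', hx''⟩ := ihx (Subgroup.closure_le _ |>.mpr (fun _ h => Subgroup.subset_closure h) hx)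
        obtain ⟨hy', hy''⟩ := ihy (Subgroup.closure_le _ |>.mpr (fun _ h => Subgroup.subset_closure h) hy)
        refine ⟨mul_mem hx' hy', ?_⟩
        have : (⟨x * y, mul_mem hx' hy'⟩ : Gam G (N + 1)) = ⟨x, hx'⟩ * ⟨y, hy'⟩ := rfl
        rw [this, lay_mul, map_add]
        exact add_mem hx'' hy''
      | inv x hx ihx =>
        obtain ⟨hx', hx''⟩ := ihx (Subgroup.closure_le _ |>.mpr (fun _ h => Subgroup.subset_closure h) hx)
        refine ⟨inv_mem hx', ?_⟩
        have : (⟨x⁻¹, inv_mem hx'⟩ : Gam G (N + 1)) = (⟨x, hx'⟩ : Gam G (N + 1))⁻¹ := rfl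
        rw [this, lay_inv, map_neg]
        exact neg_mem hx''
    obtain ⟨_, h⟩ := key g hg
    exact h

end Lie

end AL

open AL in
/-- P7 + P8 -/
theorem exists_assocLie {G : Type u} [Group G] [Finite G] (α : G ≃* G) (p : ℕ) (hαp : α ^ p = 1)
    (hfpf : ∀ g : G, α g = g → g = 1) :
    ∃ (L : Type u) (_ : LieRing L) (φ : L →+ L),
      (∀ x y, φ ⁅x, y⁆ = ⁅φ x, φ y⁆) ∧ (∀ x, φ^[p] x = x) ∧ (∀ x, φ x = x → x = 0) ∧
      (∀ x : L, Nat.card G • x = 0) ∧
      (∀ N, lcs (⊤ : AddSubgroup L) N = ⊥ →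
        (⊤ : Subgroup G).lowerCentralSeries N ≤ (⊤ : Subgroup G).lowerCentralSeries (N + 1)) := by
  refine ⟨⨁ n, Lay G n, (grLie G).lieRing, bigMap α, ?_, ?_, ?_, ?_, ?_⟩
  · intro x y
    exact bigMap_brk α x y
  · intro x
    rw [bigMap_iterate, hαp, bigMap_one]
  · intro x hx
    exact bigMap_fixed α hfpf x hx
  · intro x
    exact card_nsmul x
  · intro N hN g hg
    have h1 := of_mem_lcs (G := G) N (lay G N ⟨g, hg⟩)
    rw [hN, AddSubgroup.mem_bot] at h1
    have h2 : lay G N ⟨g, hg⟩ = 0 := by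
      apply DirectSum.of_injective (β := Lay G) N
      rw [h1, map_zero]
    exact (lay_eq_zero_iff G N ⟨g, hg⟩).mp h2

end Cfsg.Agent.Lib.Helper7.Hkk
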