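import Mathlib
import Cfsg.Agent.Lib.Helper7.AlpF1

set_option autoImplicit false

/-! S3782 swarm (Alperin), package GR: an abelian section of exponent `p^N` with an automorphism of
order `p` having at most `p^m` fixed points has order at most `p^(p m N)`. -/

namespace Cfsg.Agent.Lib.Helper9.AlpGR

open scoped commutatorElement

/-- counting: `|K| = |K ⊓ ker f| * |f K|`. -/
theorem card_eq_card_inf_ker_mul_card_map {A : Type*} [AddCommGroup A] [Finite A]
    (f : A →+ A) (K : AddSubgroup A) :
    Nat.card K = Nat.card (K ⊓ f.ker : AddSubgroup A) * Nat.card (K.map f) := by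
  classical
  let g : K →+ A := f.comp K.subtype
  have h1 : Nat.card K = Nat.card (K ⧸ g.ker) * Nat.card g.ker :=
    AddSubgroup.card_eq_card_quotient_mul_card_addSubgroup g.ker
  have h2 : Nat.card (K ⧸ g.ker) = Nat.card g.range :=
    Nat.card_congr (QuotientAddGroup.quotientKerEquivRange g).toEquiv
  have h3 : g.range = K.map f := by
    ext x
    constructor
    · rintro ⟨k, rfl⟩
      exact ⟨k, k.2, rfl⟩
    · rintro ⟨k, hk, rfl⟩
      exact ⟨⟨k, hk⟩, rfl⟩
  have h4 : Nat.card g.ker = Nat.card (K ⊓ f.ker : AddSubgroup A) := by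
    refine Nat.card_congr ?_
    refine ⟨fun x => ⟨(x : K), ⟨(x : K).2, x.2⟩⟩, fun y => ⟨⟨y, y.2.1⟩, y.2.2⟩, ?_, ?_⟩
    · intro x; rfl
    · intro y; rfl
  rw [h1, h2, h3, h4, mul_comm]

/-- (E1) exponent `p`: `|K| ≤ |Fix u|^p`. -/
theorem card_le_of_smul_eq_zero {A : Type*} [AddCommGroup A] [Finite A] {p : ℕ} [Fact p.Prime]
    (u : AddMonoid.End A) (hu : u ^ p = 1) (F : ℕ) (hF : Nat.card {a : A // u a = a} ≤ F)
    (K : AddSubgroup A) (hK : ∀ a ∈ K, p • a = 0) : Nat.card K ≤ F ^ p := by
  classical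
  have hp : p.Prime := Fact.out
  set δ : AddMonoid.End A := u - 1 with hδ
  obtain ⟨r, hr⟩ := Commute.exists_add_pow_prime_eq hp (Commute.one_right δ)
  have hu' : δ + 1 = u := by rw [hδ]; abel
  rw [hu', hu, one_pow] at hr
  have hδp : ∀ a ∈ K, (δ ^ p) a = 0 := by
    intro a ha
    have h0 : δ ^ p + (p : AddMonoid.End A) * δ * 1 * r = 0 := by
      apply add_left_cancel (a := (1 : AddMonoid.End A))
      calc (1 : AddMonoid.End A) + (δ ^ p + (p : AddMonoid.End A) * δ * 1 * r)
          = δ ^ p + 1 + (p : AddMonoid.End A) * δ * 1 * r := by abel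
        _ = 1 := hr.symm
        _ = 1 + 0 := (add_zero 1).symm
    have h1 : (δ ^ p + (p : AddMonoid.End A) * δ * 1 * r) a = 0 := by
      rw [h0]; rfl
    have h3 : ((p : AddMonoid.End A) * δ * 1 * r) a = 0 := by
      rw [mul_assoc, mul_assoc]
      show (p : AddMonoid.End A) ((δ * (1 * r)) a) = 0
      rw [AddMonoid.End.natCast_apply, ← map_nsmul, hK a ha, map_zero]
    have h4 : (δ ^ p + (p : AddMonoid.End A) * δ * 1 * r) a
        = (δ ^ p) a + ((p : AddMonoid.End A) * δ * 1 * r) a := rfl
    rw [h4, h3, add_zero] at h1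
    exact h1
  let d : A →+ A := δ
  let e : ℕ → (A →+ A) := fun i => (δ ^ i : AddMonoid.End A)
  have he0 : e 0 = AddMonoidHom.id A := by
    show (δ ^ 0 : AddMonoid.End A) = 1
    exact pow_zero δ
  have hesucc : ∀ i, e (i + 1) = d.comp (e i) := by
    intro i
    show (δ ^ (i + 1) : AddMonoid.End A) = δ * δ ^ i
    exact pow_succ' δ i
  have hker : Nat.card d.ker ≤ F := by
    refine le_trans (le_of_eq ?_) hF
    refine Nat.card_congr ?_
    have hiff : ∀ a : A, a ∈ d.ker ↔ u a = a := by
      intro a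
      rw [AddMonoidHom.mem_ker]
      show u a - a = 0 ↔ u a = a
      exact sub_eq_zero
    exact ⟨fun x => ⟨x, (hiff x).mp x.2⟩, fun y => ⟨y, (hiff y).mpr y.2⟩, fun _ => rfl, fun _ => rfl⟩
  have hind : ∀ i : ℕ, Nat.card K ≤ F ^ i * Nat.card (K.map (e i)) := by
    intro i
    induction i with
    | zero =>
      rw [pow_zero, one_mul, he0, AddSubgroup.map_id]
    | succ i ih =>
      refine le_trans ih ?_
      have h1 := card_eq_card_inf_ker_mul_card_map d (K.map (e i))
      rw [AddSubgroup.map_map, ← hesucc] at h1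
      rw [h1, pow_succ, mul_assoc]
      refine Nat.mul_le_mul_left _ ?_
      refine Nat.mul_le_mul_right _ ?_
      refine le_trans ?_ hker
      exact Nat.card_le_card_of_injective
        (AddSubgroup.inclusion (inf_le_right : _ ⊓ d.ker ≤ _))
        (AddSubgroup.inclusion_injective _)
  have hbot : K.map (e p) = ⊥ := by
    rw [eq_bot_iff]
    rintro _ ⟨a, ha, rfl⟩
    rw [AddSubgroup.mem_bot]
    exact hδp a ha
  have := hind p
  rw [hbot] at this
  simpa using this

/-- exponent `p^N`: `|K| ≤ |Fix u|^(p N)`. -/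
theorem card_le_of_pow_smul_eq_zero {A : Type*} [AddCommGroup A] [Finite A] {p : ℕ}
    [Fact p.Prime] (u : AddMonoid.End A) (hu : u ^ p = 1) (F : ℕ)
    (hF : Nat.card {a : A // u a = a} ≤ F) :
    ∀ (N : ℕ) (K : AddSubgroup A), (∀ a ∈ K, p ^ N • a = 0) → Nat.card K ≤ F ^ (p * N) := by
  intro N
  induction N with
  | zero =>
    intro K hK
    have : K = ⊥ := by
      rw [eq_bot_iff]
      intro a ha
      have := hK a ha
      rw [pow_zero, one_nsmul] at this
      rw [AddSubgroup.mem_bot]; exact this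
    rw [this]
    simp
  | succ N ih =>
    intro K hK
    let f : A →+ A := nsmulAddMonoidHom p
    have h1 := card_eq_card_inf_ker_mul_card_map f K
    have h2 : Nat.card (K.map f) ≤ F ^ (p * N) := by
      apply ih
      rintro _ ⟨a, ha, rfl⟩
      show p ^ N • (p • a) = 0
      rw [← mul_nsmul', ← pow_succ]
      exact hK a ha
    have h3 : Nat.card (K ⊓ f.ker : AddSubgroup A) ≤ F ^ p := by
      apply card_le_of_smul_eq_zero u hu F hF
      intro a ha
      exact ha.2
    rw [h1, Nat.mul_succ, pow_add, mul_comm]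
    exact Nat.mul_le_mul h2 h3

/-- (GR) abelian `p`-group of exponent `p^N`, `α^p = 1`, at most `p^m` fixed points. -/
theorem card_le_of_exponent {W : Type*} [CommGroup W] [Finite W] {p : ℕ} [Fact p.Prime]
    (α : W ≃* W) (hαp : α ^ p = 1) (m : ℕ) (hfix : Nat.card {w : W // α w = w} ≤ p ^ m)
    (N : ℕ) (hexp : ∀ w : W, w ^ (p ^ N) = 1) : Nat.card W ≤ p ^ (p * m * N) := by
  classical
  let u : AddMonoid.End (Additive W) := MonoidHom.toAdditive (α : W →* W)
  have hupow : ∀ (n : ℕ) (a : Additive W), (u ^ n) a = Additive.ofMul ((α ^ n) a.toMul) := by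
    intro n
    induction n with
    | zero => intro a; rfl
    | succ n ih =>
      intro a
      rw [pow_succ, pow_succ]
      show (u ^ n) (u a) = _
      rw [ih]
      rfl
  have hu : u ^ p = 1 := by
    refine DFunLike.ext _ _ (fun a => ?_)
    rw [hupow, hαp]
    rfl
  have hF : Nat.card {a : Additive W // u a = a} ≤ p ^ m := by
    refine le_trans (le_of_eq ?_) hfix
    refine Nat.card_congr ?_
    exact ⟨fun x => ⟨x.1.toMul, congrArg Additive.toMul x.2⟩,
      fun y => ⟨Additive.ofMul y.1, congrArg Additive.ofMul y.2⟩, fun _ => rfl, fun _ => rfl⟩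
  have h := card_le_of_pow_smul_eq_zero u hu (p ^ m) hF N ⊤ (by
    intro a _
    have := hexp a.toMul
    exact congrArg Additive.ofMul this)
  have hcard : Nat.card (⊤ : AddSubgroup (Additive W)) = Nat.card W := by
    rw [AddSubgroup.card_top]
    rfl
  rw [hcard, ← pow_mul] at h
  have he : m * (p * N) = p * m * N := by ring
  rw [he] at h
  exact h

/-- the same with commutativity as a hypothesis. -/
theorem card_le_of_exponent_of_comm {W : Type*} [Group W] [Finite W] {p : ℕ} [Fact p.Prime]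
    (hcomm : ∀ a b : W, a * b = b * a)
    (α : W ≃* W) (hαp : α ^ p = 1) (m : ℕ) (hfix : Nat.card {w : W // α w = w} ≤ p ^ m)
    (N : ℕ) (hexp : ∀ w : W, w ^ (p ^ N) = 1) : Nat.card W ≤ p ^ (p * m * N) := by
  let _ : CommGroup W := { ‹Group W› with mul_comm := hcomm }
  exact card_le_of_exponent α hαp m hfix N hexp

/-- (GR') the same for an abelian section `X/Y` of a group. -/
theorem relIndex_le_of_exponent {P : Type*} [Group P] [Finite P] {p : ℕ} [Fact p.Prime]
    (α : P ≃* P) (hαp : α ^ p = 1) (m : ℕ) (hfix : Nat.card {g : P // α g = g} ≤ p ^ m)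
    (X Y : Subgroup P) (hYX : Y ≤ X) (hX : X.map (α : P →* P) = X) (hY : Y.map (α : P →* P) = Y)
    (hcomm : ⁅X, X⁆ ≤ Y) (N : ℕ) (hexp : ∀ x ∈ X, x ^ (p ^ N) ∈ Y) :
    Y.relIndex X ≤ p ^ (p * m * N) := by
  classical
  -- restriction of `α` to `X`
  have hαX : ∀ x ∈ X, α x ∈ X := by
    intro x hx
    rw [← hX]
    exact ⟨x, hx, rfl⟩
  have hαX' : ∀ x ∈ X, α.symm x ∈ X := by
    intro x hx
    rw [← hX] at hx
    obtain ⟨y, hy, rfl⟩ := hx
    show α.symm (α y) ∈ X
    rw [MulEquiv.symm_apply_apply]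
    exact hy
  have hαY : ∀ x ∈ Y, α x ∈ Y := by
    intro x hx
    rw [← hY]
    exact ⟨x, hx, rfl⟩
  have hαY' : ∀ x ∈ Y, α.symm x ∈ Y := by
    intro x hx
    rw [← hY] at hx
    obtain ⟨y, hy, rfl⟩ := hx
    show α.symm (α y) ∈ Y
    rw [MulEquiv.symm_apply_apply]
    exact hy
  let αX : X ≃* X :=
    { toFun := fun x => ⟨α x, hαX x x.2⟩
      invFun := fun x => ⟨α.symm x, hαX' x x.2⟩
      left_inv := fun x => Subtype.ext (α.symm_apply_apply x)
      right_inv := fun x => Subtype.ext (α.apply_symm_apply x)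
      map_mul' := fun x y => Subtype.ext (map_mul α (x : P) (y : P)) }
  have hαXpow : ∀ (n : ℕ) (x : X), (((αX ^ n) x : X) : P) = (α ^ n) (x : P) := by
    intro n
    induction n with
    | zero => intro x; rfl
    | succ n ih =>
      intro x
      rw [pow_succ, pow_succ]
      show (((αX ^ n) (αX x) : X) : P) = (α ^ n) (α (x : P))
      rw [ih]
      rfl
  set Yx : Subgroup X := Y.subgroupOf X with hYx
  have hnorm : Yx.Normal := by
    refine ⟨fun n hn g => ?_⟩
    rw [hYx, Subgroup.mem_subgroupOf] at hn ⊢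
    have h1 : ⁅(g : P), (n : P)⁆ ∈ Y := hcomm (Subgroup.commutator_mem_commutator g.2 n.2)
    have h2 : ((g * n * g⁻¹ : X) : P) = ⁅(g : P), (n : P)⁆ * (n : P) := by
      rw [commutatorElement_def]
      push_cast
      group
    rw [h2]
    exact Y.mul_mem h1 hn
  have hmapYx : Yx.map (αX : X →* X) = Yx := by
    ext x
    constructor
    · rintro ⟨y, hy, rfl⟩
      have hy' : (y : P) ∈ Y := Subgroup.mem_subgroupOf.mp hy
      exact Subgroup.mem_subgroupOf.mpr (hαY _ hy')
    · intro hx
      have hx' : (x : P) ∈ Y := Subgroup.mem_subgroupOf.mp hx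
      refine ⟨αX.symm x, ?_, ?_⟩
      · exact Subgroup.mem_subgroupOf.mpr (hαY' _ hx')
      · show αX (αX.symm x) = x
        exact αX.apply_symm_apply x
  let β : X ⧸ Yx ≃* X ⧸ Yx := QuotientGroup.congr Yx Yx αX hmapYx
  have hβpow : ∀ (n : ℕ) (x : X), (β ^ n) (QuotientGroup.mk x) = QuotientGroup.mk ((αX ^ n) x) := by
    intro n
    induction n with
    | zero => intro x; rfl
    | succ n ih =>
      intro x
      rw [pow_succ, pow_succ]
      show (β ^ n) (β (QuotientGroup.mk x)) = QuotientGroup.mk ((αX ^ n) (αX x))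
      rw [← ih]
      rfl
  have hβp : β ^ p = 1 := by
    refine MulEquiv.ext (fun q => ?_)
    induction q using QuotientGroup.induction_on with
    | H x =>
      rw [hβpow]
      show _ = QuotientGroup.mk x
      congr 1
      apply Subtype.ext
      rw [hαXpow, hαp]
      rfl
  have hβfix : Nat.card {q : X ⧸ Yx // β q = q} ≤ p ^ m := by
    refine le_trans (Cfsg.Agent.Lib.Helper7.AlpF1.card_fixed_quotient_le αX Yx hmapYx) ?_
    refine le_trans ?_ hfix
    refine Nat.card_le_card_of_injective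
      (fun x : {a : X // αX a = a} => (⟨(x.1 : P), congrArg Subtype.val x.2⟩ : {g : P // α g = g})) ?_
    intro a b hab
    apply Subtype.ext
    apply Subtype.ext
    exact congrArg (fun z : {g : P // α g = g} => (z : P)) hab
  have hWcomm : ∀ a b : X ⧸ Yx, a * b = b * a := by
    intro a b
    induction a using QuotientGroup.induction_on with
    | H x =>
      induction b using QuotientGroup.induction_on with
      | H y =>
        rw [← QuotientGroup.mk_mul, ← QuotientGroup.mk_mul, QuotientGroup.eq]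
        rw [hYx, Subgroup.mem_subgroupOf]
        have h1 : ⁅((x⁻¹ : X) : P), ((y⁻¹ : X) : P)⁆ ∈ Y :=
          hcomm (Subgroup.commutator_mem_commutator (x⁻¹).2 (y⁻¹).2)
        have h2 : (((x * y)⁻¹ * (y * x) : X) : P) = ⁅((y⁻¹ : X) : P), ((x⁻¹ : X) : P)⁆ := by
          rw [commutatorElement_def]
          push_cast
          group
        rw [h2]
        exact hcomm (Subgroup.commutator_mem_commutator (y⁻¹).2 (x⁻¹).2)
  have hWexp : ∀ w : X ⧸ Yx, w ^ (p ^ N) = 1 := by
    intro w
    induction w using QuotientGroup.induction_on with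
    | H x =>
      rw [← QuotientGroup.mk_pow, QuotientGroup.eq_one_iff, hYx, Subgroup.mem_subgroupOf]
      push_cast
      exact hexp x x.2
  have h := card_le_of_exponent_of_comm hWcomm β hβp m hβfix N hWexp
  have hidx : Y.relIndex X = Nat.card (X ⧸ Yx) := by
    rw [Subgroup.relIndex, Subgroup.index_eq_card]
  rw [hidx]
  exact h

end Cfsg.Agent.Lib.Helper9.AlpGR
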