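import Mathlib
import Cfsg.Agent.Lib.Helper5.FlvDefs

/-!
# S3816 PKG-NC5 : steps (N8), (N9) of `notes/S3816_proof_helper5.md`

`n5_main` is the self-contained core in plain internal language; `NC5_of` is the adapter to the
skeleton statement, with the facts of the other packages as explicit hypotheses.
-/

set_option autoImplicit false

open scoped IsMulCommutative

namespace Cfsg.Agent.Lib.Helper9.FlvNC5

open Cfsg.Agent.Lib.Helper5.FlvDefs

universe u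

/-- Vandermonde elimination for three pairwise commuting endomorphisms with injective differences. -/
theorem vandermonde3 {M : Type*} [AddCommGroup M] (t0 t1 t2 : M →+ M)
    (c01 : ∀ m, t0 (t1 m) = t1 (t0 m)) (c02 : ∀ m, t0 (t2 m) = t2 (t0 m))
    (i01 : ∀ m, t0 m = t1 m → m = 0) (i02 : ∀ m, t0 m = t2 m → m = 0)
    (i12 : ∀ m, t1 m = t2 m → m = 0)
    (w0 w1 w2 : M)
    (e0 : w0 + t0 w1 + t0 (t0 w2) = 0) (e1 : w0 + t1 w1 + t1 (t1 w2) = 0)
    (e2 : w0 + t2 w1 + t2 (t2 w2) = 0) : w0 = 0 ∧ w1 = 0 ∧ w2 = 0 := by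
  have h01 : w1 + (t0 w2 + t1 w2) = 0 := by
    apply i01
    have : t0 (w1 + (t0 w2 + t1 w2)) - t1 (w1 + (t0 w2 + t1 w2)) = 0 := by
      simp only [map_add]
      rw [c01 w2]
      have := congrArg₂ (· - ·) e0 e1
      simp only [sub_self] at this
      rw [← this]; abel
    exact sub_eq_zero.mp this
  have h02 : w1 + (t0 w2 + t2 w2) = 0 := by
    apply i02
    have : t0 (w1 + (t0 w2 + t2 w2)) - t2 (w1 + (t0 w2 + t2 w2)) = 0 := by
      simp only [map_add]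
      rw [c02 w2]
      have := congrArg₂ (· - ·) e0 e2
      simp only [sub_self] at this
      rw [← this]; abel
    exact sub_eq_zero.mp this
  have h2 : w2 = 0 := by
    apply i12
    have := congrArg₂ (· - ·) h01 h02
    simp only [sub_self] at this
    have h : t1 w2 - t2 w2 = 0 := by rw [← this]; abel
    exact sub_eq_zero.mp h
  subst h2
  simp only [map_zero, add_zero] at h01 e0
  subst h01
  simp only [map_zero, add_zero] at e0
  exact ⟨e0, rfl, rfl⟩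

/-- Multiplicative version for a commutative group. -/
theorem vandermonde3_mul {M : Type*} [CommGroup M] (t0 t1 t2 : M →* M)
    (c01 : ∀ m, t0 (t1 m) = t1 (t0 m)) (c02 : ∀ m, t0 (t2 m) = t2 (t0 m))
    (i01 : ∀ m, t0 m = t1 m → m = 1) (i02 : ∀ m, t0 m = t2 m → m = 1)
    (i12 : ∀ m, t1 m = t2 m → m = 1)
    (w0 w1 w2 : M)
    (e0 : w0 * t0 w1 * t0 (t0 w2) = 1) (e1 : w0 * t1 w1 * t1 (t1 w2) = 1)
    (e2 : w0 * t2 w1 * t2 (t2 w2) = 1) : w0 = 1 ∧ w1 = 1 ∧ w2 = 1 := by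
  have := vandermonde3 (M := Additive M) (MonoidHom.toAdditive t0) (MonoidHom.toAdditive t1)
    (MonoidHom.toAdditive t2) (fun m => congrArg Additive.ofMul (c01 m.toMul))
    (fun m => congrArg Additive.ofMul (c02 m.toMul))
    (fun m h => congrArg Additive.ofMul (i01 m.toMul (congrArg Additive.toMul h)))
    (fun m h => congrArg Additive.ofMul (i02 m.toMul (congrArg Additive.toMul h)))
    (fun m h => congrArg Additive.ofMul (i12 m.toMul (congrArg Additive.toMul h)))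
    (Additive.ofMul w0) (Additive.ofMul w1) (Additive.ofMul w2)
    (congrArg Additive.ofMul e0) (congrArg Additive.ofMul e1) (congrArg Additive.ofMul e2)
  exact ⟨congrArg Additive.toMul this.1, congrArg Additive.toMul this.2.1,
    congrArg Additive.toMul this.2.2⟩

variable {G : Type u} [Group G]

/-- conjugation `v ↦ g⁻¹ v g` on a subgroup `V` normalised by `g`. -/
def cj (V : Subgroup G) (g : G) (hg : ∀ v ∈ V, g⁻¹ * v * g ∈ V) : ↥V →* ↥V where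
  toFun v := ⟨g⁻¹ * v * g, hg v v.2⟩
  map_one' := by ext; simp
  map_mul' a b := by ext; simp [mul_assoc]

@[simp] theorem cj_coe (V : Subgroup G) (g : G) (hg : ∀ v ∈ V, g⁻¹ * v * g ∈ V) (v : ↥V) :
    ((cj V g hg v : ↥V) : G) = g⁻¹ * v * g := rfl

/-- the commutator map `v ↦ (c v c⁻¹) v⁻¹` on a commutative subgroup. -/
def kap (V : Subgroup G) [IsMulCommutative V] (c : G) (hc : ∀ v ∈ V, c * v * c⁻¹ ∈ V) :
    ↥V →* ↥V where
  toFun v := ⟨c * v * c⁻¹ * (v : G)⁻¹, mul_mem (hc v v.2) (inv_mem v.2)⟩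
  map_one' := by ext; simp
  map_mul' a b := by
    ext
    have h1 : (a : G) * b = b * a := by
      have := mul_comm a b
      exact congrArg Subtype.val this
    have h2 : (c * b * c⁻¹) * (a : G)⁻¹ = (a : G)⁻¹ * (c * b * c⁻¹) := by
      have := mul_comm (⟨c * b * c⁻¹, hc b b.2⟩ : ↥V) a⁻¹
      exact congrArg Subtype.val this
    simp only [Subgroup.coe_mul, mul_inv_rev]
    calc c * (↑a * ↑b) * c⁻¹ * ((b : G)⁻¹ * (a : G)⁻¹)
        = c * a * c⁻¹ * ((c * b * c⁻¹) * (b : G)⁻¹) * (a : G)⁻¹ := by group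
      _ = c * a * c⁻¹ * ((b : G)⁻¹ * (c * b * c⁻¹)) * (a : G)⁻¹ := by
          have h3 : (c * b * c⁻¹) * (b : G)⁻¹ = (b : G)⁻¹ * (c * b * c⁻¹) := by
            have := mul_comm (⟨c * b * c⁻¹, hc b b.2⟩ : ↥V) b⁻¹
            exact congrArg Subtype.val this
          rw [h3]
      _ = c * a * c⁻¹ * (b : G)⁻¹ * ((c * b * c⁻¹) * (a : G)⁻¹) := by group
      _ = c * a * c⁻¹ * (b : G)⁻¹ * ((a : G)⁻¹ * (c * b * c⁻¹)) := by rw [h2]
      _ = c * a * c⁻¹ * ((b : G)⁻¹ * (a : G)⁻¹) * (c * b * c⁻¹) := by group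
      _ = c * a * c⁻¹ * ((a : G)⁻¹ * (b : G)⁻¹) * (c * b * c⁻¹) := by
          have h4 : (b : G)⁻¹ * (a : G)⁻¹ = (a : G)⁻¹ * (b : G)⁻¹ := by
            rw [← mul_inv_rev, ← mul_inv_rev, h1]
          rw [h4]
      _ = c * a * c⁻¹ * (a : G)⁻¹ * ((b : G)⁻¹ * (c * b * c⁻¹)) := by group
      _ = c * a * c⁻¹ * (a : G)⁻¹ * (c * b * c⁻¹ * (b : G)⁻¹) := by
          have h3 : (c * b * c⁻¹) * (b : G)⁻¹ = (b : G)⁻¹ * (c * b * c⁻¹) := by
            have := mul_comm (⟨c * b * c⁻¹, hc b b.2⟩ : ↥V) b⁻¹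
            exact congrArg Subtype.val this
          rw [h3]

@[simp] theorem kap_coe (V : Subgroup G) [IsMulCommutative V] (c : G)
    (hc : ∀ v ∈ V, c * v * c⁻¹ ∈ V) (v : ↥V) :
    ((kap V c hc v : ↥V) : G) = c * v * c⁻¹ * (v : G)⁻¹ := rfl

theorem pow_norm {S : Subgroup G} {y : G} (h : ∀ v ∈ S, y⁻¹ * v * y ∈ S) (n : ℕ) :
    ∀ v ∈ S, (y ^ n)⁻¹ * v * y ^ n ∈ S := by
  induction n with
  | zero => intro v hv; simpa using hv
  | succ n ih =>
    intro v hv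
    have := h _ (ih v hv)
    have e : (y ^ (n + 1))⁻¹ * v * y ^ (n + 1) = y⁻¹ * ((y ^ n)⁻¹ * v * y ^ n) * y := by
      rw [pow_succ]; group
    rw [e]; exact this

theorem inv_eq_pow {y : G} {p : ℕ} (hp : 0 < p) (hyp : y ^ p = 1) : y⁻¹ = y ^ (p - 1) := by
  have : y ^ (p - 1) * y = 1 := by rw [← pow_succ, Nat.sub_add_cancel hp, hyp]
  exact (eq_inv_of_mul_eq_one_left this).symm

theorem norm_inv {S : Subgroup G} {y : G} {p : ℕ} (hp : 0 < p) (hyp : y ^ p = 1)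
    (h : ∀ v ∈ S, y⁻¹ * v * y ∈ S) : ∀ v ∈ S, y * v * y⁻¹ ∈ S := by
  intro v hv
  have := pow_norm h (p - 1) v hv
  rw [← inv_eq_pow hp hyp] at this
  simpa using this

/-- N8, first half: `[V,y] ≤ [V,c]` for `c = y⁻¹ a⁻¹ y a`. -/
theorem comm_y_mem (V : Subgroup G) [IsMulCommutative V] (y a : G)
    (haV : ∀ v ∈ V, a⁻¹ * v * a ∈ V)
    (hcV : ∀ v ∈ V, (y⁻¹ * a⁻¹ * y * a) * v * (y⁻¹ * a⁻¹ * y * a)⁻¹ ∈ V)
    (v v0 v1 : G) (hv0 : v0 ∈ V) (hv1 : v1 ∈ V) (h0 : v0 * y = y * v0) (h1 : v1 * y = y * v1)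
    (hv : v = v0 * (a⁻¹ * v1 * a)) :
    y⁻¹ * v * y * v⁻¹ = ((kap V (y⁻¹ * a⁻¹ * y * a) hcV ⟨a⁻¹ * v1 * a, haV v1 hv1⟩ : ↥V) : G) := by
  rw [kap_coe]
  subst hv
  set s := a⁻¹ * v1 * a with hs
  have hsV : s ∈ V := haV v1 hv1
  have e1 : y⁻¹ * s * y = (y⁻¹ * a⁻¹ * y * a) * s * (y⁻¹ * a⁻¹ * y * a)⁻¹ := by
    have : v1 = y * v1 * y⁻¹ := by rw [← h1]; group
    rw [hs]
    conv_lhs => rw [this]
    group
  have e0 : y⁻¹ * v0 * y = v0 := by rw [mul_assoc, h0]; group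
  have hX : (y⁻¹ * s * y * s⁻¹) ∈ V := by
    rw [e1]; exact mul_mem (hcV s hsV) (inv_mem hsV)
  have hc : v0 * (y⁻¹ * s * y * s⁻¹) = (y⁻¹ * s * y * s⁻¹) * v0 := by
    have := mul_comm (⟨v0, hv0⟩ : ↥V) ⟨_, hX⟩
    exact congrArg Subtype.val this
  calc y⁻¹ * (v0 * s) * y * (v0 * s)⁻¹
      = (y⁻¹ * v0 * y) * (y⁻¹ * s * y * s⁻¹) * v0⁻¹ := by group
    _ = v0 * (y⁻¹ * s * y * s⁻¹) * v0⁻¹ := by rw [e0]
    _ = (y⁻¹ * s * y * s⁻¹) := by rw [hc]; group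
    _ = _ := by rw [e1]

/-- the map `a ↦ y⁻¹ a⁻¹ y a` on `A` hits every element when `C_A(y) = 1`. -/
theorem exists_comm_eq [Finite G] (A : Subgroup G) (y : G)
    (hyA : ∀ a ∈ A, y⁻¹ * a * y ∈ A) (hCA : ∀ a ∈ A, a * y = y * a → a = 1)
    (c : G) (hc : c ∈ A) (hc1 : c ≠ 1) : ∃ a ∈ A, a ≠ 1 ∧ c = y⁻¹ * a⁻¹ * y * a := by
  let ψ : ↥A → ↥A := fun a => ⟨y⁻¹ * (a : G)⁻¹ * y * a, by
    have := hyA _ (inv_mem a.2)
    exact mul_mem this a.2⟩
  have hinj : Function.Injective ψ := by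
    intro a b hab
    have h : y⁻¹ * (a : G)⁻¹ * y * a = y⁻¹ * (b : G)⁻¹ * y * b := congrArg Subtype.val hab
    have h2 : ((a : G) * (b : G)⁻¹) * y = y * ((a : G) * (b : G)⁻¹) := by
      have h3 : (a : G)⁻¹ * y * a = (b : G)⁻¹ * y * b := by
        have := congrArg (fun t => y * t) h
        simpa [mul_assoc] using this
      calc (a : G) * (b : G)⁻¹ * y = a * ((b : G)⁻¹ * y * b) * (b : G)⁻¹ := by group
        _ = a * ((a : G)⁻¹ * y * a) * (b : G)⁻¹ := by rw [h3]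
        _ = y * ((a : G) * (b : G)⁻¹) := by group
    have := hCA _ (mul_mem a.2 (inv_mem b.2)) h2
    exact Subtype.ext (mul_inv_eq_one.mp this)
  have hsurj : Function.Surjective ψ := Finite.injective_iff_surjective.mp hinj
  obtain ⟨a, ha⟩ := hsurj ⟨c, hc⟩
  refine ⟨a, a.2, ?_, ?_⟩
  · intro h1
    apply hc1
    have := congrArg Subtype.val ha
    simp only [ψ] at this
    rw [← this, h1]; group
  · exact (congrArg Subtype.val ha).symm

/-- N8: every nontrivial element of `A` acts fixed-point-freely on `V`. -/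
theorem fpf_of_min [Finite G] (V A : Subgroup G) (y : G) (p : ℕ) (hp : 0 < p) (hyp : y ^ p = 1)
    (hVab : ∀ v ∈ V, ∀ w ∈ V, v * w = w * v)
    (hAab : ∀ a ∈ A, ∀ b ∈ A, a * b = b * a)
    (hAV : ∀ a ∈ A, ∀ v ∈ V, a⁻¹ * v * a ∈ V)
    (hyV : ∀ v ∈ V, y⁻¹ * v * y ∈ V)
    (hyA : ∀ a ∈ A, y⁻¹ * a * y ∈ A)
    (hCA : ∀ a ∈ A, a * y = y * a → a = 1)
    (hN5 : ∀ a ∈ A, a ≠ 1 → ∀ v ∈ V, ∃ v0 ∈ V, ∃ v1 ∈ V, v0 * y = y * v0 ∧ v1 * y = y * v1 ∧
      v = v0 * (a⁻¹ * v1 * a))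
    (hmin : ∀ W : Subgroup G, W ≤ V → W ≠ ⊥ → (∀ a ∈ A, ∀ w ∈ W, a⁻¹ * w * a ∈ W) →
      (∀ w ∈ W, y⁻¹ * w * y ∈ W) → W = V)
    (hVy : ∃ v ∈ V, v * y ≠ y * v)
    (hA1 : A ≠ ⊥) :
    ∀ c ∈ A, c ≠ 1 → ∀ v ∈ V, c * v * c⁻¹ = v → v = 1 := by
  have : IsMulCommutative V := IsMulCommutative.of_setLike_mul_comm hVab
  have hAV' : ∀ a ∈ A, ∀ v ∈ V, a * v * a⁻¹ ∈ V := by
    intro a ha v hv
    have := hAV a⁻¹ (inv_mem ha) v hv
    simpa using this
  have hyA' : ∀ a ∈ A, y * a * y⁻¹ ∈ A := norm_inv hp hyp hyA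
  -- the subgroup W
  let I : {c : G // c ∈ A ∧ c ≠ 1} → Subgroup G :=
    fun c => ((kap V c.1 (hAV' c.1 c.2.1)).range).map V.subtype
  have hImem : ∀ (c : {c : G // c ∈ A ∧ c ≠ 1}) (x : G),
      x ∈ I c ↔ ∃ u : ↥V, (c.1 * u * c.1⁻¹ * (u : G)⁻¹) = x := by
    intro c x
    simp only [I, Subgroup.mem_map, MonoidHom.mem_range, Subgroup.coe_subtype]
    constructor
    · rintro ⟨w, ⟨u, rfl⟩, rfl⟩
      exact ⟨u, rfl⟩
    · rintro ⟨u, rfl⟩
      exact ⟨kap V c.1 (hAV' c.1 c.2.1) u, ⟨u, rfl⟩, rfl⟩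
  let W : Subgroup G := ⨅ c, I c
  obtain ⟨c0, hc0A, hc01⟩ : ∃ c0 ∈ A, c0 ≠ 1 := by
    by_contra hcon
    push Not at hcon
    exact hA1 ((Subgroup.eq_bot_iff_forall A).mpr hcon)
  have hIV : ∀ c, I c ≤ V := fun c => Subgroup.map_subtype_le _
  have hWV : W ≤ V := (iInf_le I ⟨c0, hc0A, hc01⟩).trans (hIV _)
  have hW1 : W ≠ ⊥ := by
    obtain ⟨v, hvV, hvy⟩ := hVy
    intro hbot
    have hx : y⁻¹ * v * y * v⁻¹ ∈ W := by
      rw [Subgroup.mem_iInf]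
      intro c
      obtain ⟨a, haA, ha1, hca⟩ := exists_comm_eq A y hyA hCA c.1 c.2.1 c.2.2
      obtain ⟨v0, hv0, v1, hv1, h0, h1, hv⟩ := hN5 a haA ha1 v hvV
      have hcV : ∀ v ∈ V, (y⁻¹ * a⁻¹ * y * a) * v * (y⁻¹ * a⁻¹ * y * a)⁻¹ ∈ V := by
        rw [← hca]; exact hAV' c.1 c.2.1
      have := comm_y_mem V y a (hAV a haA) hcV v v0 v1 hv0 hv1 h0 h1 hv
      rw [hImem]
      refine ⟨⟨a⁻¹ * v1 * a, hAV a haA v1 hv1⟩, ?_⟩
      rw [this, kap_coe, hca]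
    rw [hbot, Subgroup.mem_bot] at hx
    apply hvy
    have : y⁻¹ * v * y = v := by
      have := congrArg (fun t => t * v) hx
      simpa using this
    calc v * y = y * (y⁻¹ * v * y) := by group
      _ = y * v := by rw [this]
  have hWA : ∀ a ∈ A, ∀ w ∈ W, a⁻¹ * w * a ∈ W := by
    intro b hb w hw
    rw [Subgroup.mem_iInf] at hw ⊢
    intro c
    obtain ⟨u, hu⟩ := (hImem c w).mp (hw c)
    rw [hImem]
    refine ⟨⟨b⁻¹ * u * b, hAV b hb u u.2⟩, ?_⟩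
    have hbc : b * c.1 = c.1 * b := hAab b hb c.1 c.2.1
    have hbc' : b⁻¹ * c.1 = c.1 * b⁻¹ := by
      calc b⁻¹ * c.1 = b⁻¹ * (c.1 * b) * b⁻¹ := by group
        _ = b⁻¹ * (b * c.1) * b⁻¹ := by rw [hbc]
        _ = c.1 * b⁻¹ := by group
    have hbc'' : b * c.1⁻¹ = c.1⁻¹ * b := by
      calc b * c.1⁻¹ = c.1⁻¹ * (c.1 * b) * c.1⁻¹ := by group
        _ = c.1⁻¹ * (b * c.1) * c.1⁻¹ := by rw [hbc]
        _ = c.1⁻¹ * b := by group
    rw [← hu]
    show c.1 * (b⁻¹ * ↑u * b) * c.1⁻¹ * (b⁻¹ * ↑u * b)⁻¹ = b⁻¹ * (c.1 * ↑u * c.1⁻¹ * (↑u)⁻¹) * b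
    calc c.1 * (b⁻¹ * ↑u * b) * c.1⁻¹ * (b⁻¹ * ↑u * b)⁻¹
        = (c.1 * b⁻¹) * ↑u * (b * c.1⁻¹) * (b⁻¹ * (↑u)⁻¹ * b) := by group
      _ = (b⁻¹ * c.1) * ↑u * (c.1⁻¹ * b) * (b⁻¹ * (↑u)⁻¹ * b) := by rw [hbc', hbc'']
      _ = b⁻¹ * (c.1 * ↑u * c.1⁻¹ * (↑u)⁻¹) * b := by group
  have hWy : ∀ w ∈ W, y⁻¹ * w * y ∈ W := by
    intro w hw
    rw [Subgroup.mem_iInf] at hw ⊢
    intro c'
    have hcA : y * c'.1 * y⁻¹ ∈ A := hyA' c'.1 c'.2.1
    have hc1 : y * c'.1 * y⁻¹ ≠ 1 := by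
      intro h
      apply c'.2.2
      have := congrArg (fun t => y⁻¹ * t * y) h
      simpa [mul_assoc] using this
    obtain ⟨u, hu⟩ := (hImem ⟨y * c'.1 * y⁻¹, hcA, hc1⟩ w).mp (hw _)
    rw [hImem]
    refine ⟨⟨y⁻¹ * u * y, hyV u u.2⟩, ?_⟩
    rw [← hu]
    show c'.1 * (y⁻¹ * ↑u * y) * c'.1⁻¹ * (y⁻¹ * ↑u * y)⁻¹ =
      y⁻¹ * ((y * c'.1 * y⁻¹) * ↑u * (y * c'.1 * y⁻¹)⁻¹ * (↑u)⁻¹) * y
    group
  have hWeq : W = V := hmin W hWV hW1 hWA hWy
  intro c hcA hc1 v hvV hcv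
  -- kap c is surjective, hence injective
  have hsurj : Function.Surjective (kap V c (hAV' c hcA)) := by
    intro x
    have hx : (x : G) ∈ W := by rw [hWeq]; exact x.2
    have := (Subgroup.mem_iInf.mp hx) ⟨c, hcA, hc1⟩
    obtain ⟨u, hu⟩ := (hImem _ _).mp this
    exact ⟨u, Subtype.ext hu⟩
  have hinj : Function.Injective (kap V c (hAV' c hcA)) := Finite.injective_iff_surjective.mpr hsurj
  have : kap V c (hAV' c hcA) ⟨v, hvV⟩ = 1 := by
    apply Subtype.ext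
    rw [kap_coe]
    show c * v * c⁻¹ * v⁻¹ = 1
    rw [hcv]; group
  have := hinj (this.trans (map_one _).symm)
  exact congrArg Subtype.val this

theorem commute_of_sq {y c : G} {p : ℕ} (hp : p.Prime) (hp2 : p ≠ 2) (hyp : y ^ p = 1)
    (h : c * y ^ 2 = y ^ 2 * c) : c * y = y * c := by
  obtain ⟨k, hk⟩ : ∃ k, p + 1 = 2 * k := by
    rcases hp.eq_two_or_odd' with h2 | ⟨m, hm⟩
    · exact absurd h2 hp2
    · exact ⟨m + 1, by omega⟩
  have hy : (y ^ 2) ^ k = y := by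
    rw [← pow_mul, ← hk, pow_succ, hyp, one_mul]
  have hc : Commute c (y ^ 2) := h
  have := hc.pow_right k
  rw [hy] at this
  exact this

/-- N9 -/
theorem n9_core [Finite G] (V A : Subgroup G) (y : G) (p : ℕ) (hp : p.Prime) (hp2 : p ≠ 2)
    (hyp : y ^ p = 1)
    (hVab : ∀ v ∈ V, ∀ w ∈ V, v * w = w * v)
    (hAab : ∀ a ∈ A, ∀ b ∈ A, a * b = b * a)
    (hAV : ∀ a ∈ A, ∀ v ∈ V, a⁻¹ * v * a ∈ V)
    (hyV : ∀ v ∈ V, y⁻¹ * v * y ∈ V)
    (hyA : ∀ a ∈ A, y⁻¹ * a * y ∈ A)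
    (hCA : ∀ a ∈ A, a * y = y * a → a = 1)
    (hfpf : ∀ c ∈ A, c ≠ 1 → ∀ v ∈ V, c * v * c⁻¹ = v → v = 1)
    (hN5 : ∃ a ∈ A, ∀ v ∈ V, ∃ v0 ∈ V, ∃ v1 ∈ V, v0 * y = y * v0 ∧ v1 * y = y * v1 ∧
      v = v0 * (a⁻¹ * v1 * a))
    (hA1 : A ≠ ⊥) : ∀ v ∈ V, v * y = y * v → v = 1 := by
  have : IsMulCommutative V := IsMulCommutative.of_setLike_mul_comm hVab
  obtain ⟨c, hcA, hc1⟩ : ∃ c ∈ A, c ≠ 1 := by
    by_contra hcon
    push Not at hcon
    exact hA1 ((Subgroup.eq_bot_iff_forall A).mpr hcon)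
  let Y := cj V y hyV
  let V0 : Subgroup ↥V := Y.eqLocus (MonoidHom.id ↥V)
  have hV0 : ∀ v : ↥V, v ∈ V0 ↔ (v : G) * y = y * v := by
    intro v
    show Y v = v ↔ _
    rw [Subtype.ext_iff, cj_coe]
    constructor
    · intro h
      calc (v : G) * y = y * (y⁻¹ * v * y) := by group
        _ = y * v := by rw [h]
    · intro h
      rw [mul_assoc, h]; group
  -- the three conjugates
  have ht1A : y⁻¹ * c * y ∈ A := hyA c hcA
  have ht2A : y⁻¹ * (y⁻¹ * c * y) * y ∈ A := hyA _ ht1A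
  let T0 := cj V c (hAV c hcA)
  let T1 := cj V (y⁻¹ * c * y) (hAV _ ht1A)
  let T2 := cj V (y⁻¹ * (y⁻¹ * c * y) * y) (hAV _ ht2A)
  have hcomm : ∀ (s t : G) (hs : s ∈ A) (ht : t ∈ A) (m : ↥V),
      cj V s (hAV s hs) (cj V t (hAV t ht) m) = cj V t (hAV t ht) (cj V s (hAV s hs) m) := by
    intro s t hs ht m
    apply Subtype.ext
    simp only [cj_coe]
    have h := hAab s hs t ht
    calc s⁻¹ * (t⁻¹ * ↑m * t) * s = (t * s)⁻¹ * ↑m * (t * s) := by group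
      _ = (s * t)⁻¹ * ↑m * (s * t) := by rw [h]
      _ = t⁻¹ * (s⁻¹ * ↑m * s) * t := by group
  have hinj : ∀ (s t : G) (hs : s ∈ A) (ht : t ∈ A), s ≠ t → ∀ m : ↥V,
      cj V s (hAV s hs) m = cj V t (hAV t ht) m → m = 1 := by
    intro s t hs ht hst m hm
    have h : s⁻¹ * (m : G) * s = t⁻¹ * m * t := congrArg Subtype.val hm
    have h2 : (t * s⁻¹) * (m : G) * (t * s⁻¹)⁻¹ = m := by
      calc (t * s⁻¹) * (m : G) * (t * s⁻¹)⁻¹ = t * (s⁻¹ * m * s) * t⁻¹ := by group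
        _ = t * (t⁻¹ * m * t) * t⁻¹ := by rw [h]
        _ = m := by group
    have h3 : t * s⁻¹ ≠ 1 := by
      intro h4; exact hst (mul_inv_eq_one.mp h4).symm
    exact Subtype.ext (hfpf _ (mul_mem ht (inv_mem hs)) h3 m m.2 h2)
  -- distinctness
  have hcy : ¬ (c * y = y * c) := fun h => hc1 (hCA c hcA h)
  have h01 : c ≠ y⁻¹ * c * y := by
    intro h; apply hcy
    calc c * y = y * (y⁻¹ * c * y) := by group
      _ = y * c := by rw [← h]
  have h02 : c ≠ y⁻¹ * (y⁻¹ * c * y) * y := by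
    intro h; apply hcy
    apply commute_of_sq hp hp2 hyp
    rw [pow_two]
    calc c * (y * y) = (y * y) * (y⁻¹ * (y⁻¹ * c * y) * y) := by group
      _ = (y * y) * c := by rw [← h]
  have h12 : y⁻¹ * c * y ≠ y⁻¹ * (y⁻¹ * c * y) * y := by
    intro h; apply h01
    calc c = y * (y⁻¹ * c * y) * y⁻¹ := by group
      _ = y * (y⁻¹ * (y⁻¹ * c * y) * y) * y⁻¹ := by rw [← h]
      _ = y⁻¹ * c * y := by group
  -- Y intertwines
  have hY0 : ∀ m : ↥V, Y (T0 m) = T1 (Y m) := by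
    intro m; apply Subtype.ext
    show y⁻¹ * (c⁻¹ * (m : G) * c) * y = (y⁻¹ * c * y)⁻¹ * (y⁻¹ * (m : G) * y) * (y⁻¹ * c * y)
    group
  have hY1 : ∀ m : ↥V, Y (T1 m) = T2 (Y m) := by
    intro m; apply Subtype.ext
    show y⁻¹ * ((y⁻¹ * c * y)⁻¹ * (m : G) * (y⁻¹ * c * y)) * y =
      (y⁻¹ * (y⁻¹ * c * y) * y)⁻¹ * (y⁻¹ * (m : G) * y) * (y⁻¹ * (y⁻¹ * c * y) * y)
    group
  -- the injective hom
  let F : ↥V0 × ↥V0 × ↥V0 →* ↥V :=
    (V0.subtype.comp (MonoidHom.fst _ _)) *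
      (T0.comp (V0.subtype.comp ((MonoidHom.fst _ _).comp (MonoidHom.snd _ _)))) *
      ((T0.comp T0).comp (V0.subtype.comp ((MonoidHom.snd _ _).comp (MonoidHom.snd _ _))))
  have hF : ∀ w : ↥V0 × ↥V0 × ↥V0, F w = (w.1 : ↥V) * T0 w.2.1 * T0 (T0 w.2.2) := fun w => rfl
  have hFinj : Function.Injective F := by
    rw [injective_iff_map_eq_one]
    rintro ⟨w0, w1, w2⟩ hw
    rw [hF] at hw
    simp only at hw
    have f0 : Y w0 = w0 := w0.2
    have f1 : Y w1 = w1 := w1.2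
    have f2 : Y w2 = w2 := w2.2
    have e1 : (w0 : ↥V) * T1 w1 * T1 (T1 w2) = 1 := by
      have := congrArg Y hw
      rw [map_mul, map_mul, map_one, hY0, hY0, hY0, f0, f1, f2] at this
      exact this
    have e2 : (w0 : ↥V) * T2 w1 * T2 (T2 w2) = 1 := by
      have := congrArg Y e1
      rw [map_mul, map_mul, map_one, hY1, hY1, hY1, f0, f1, f2] at this
      exact this
    have := vandermonde3_mul T0 T1 T2 (hcomm _ _ hcA ht1A) (hcomm _ _ hcA ht2A)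
      (hinj _ _ hcA ht1A h01) (hinj _ _ hcA ht2A h02) (hinj _ _ ht1A ht2A h12)
      (w0 : ↥V) w1 w2 hw e1 e2
    ext
    · exact congrArg Subtype.val this.1
    · exact congrArg Subtype.val this.2.1
    · exact congrArg Subtype.val this.2.2
  have hcard1 : Nat.card ↥V0 * (Nat.card ↥V0 * Nat.card ↥V0) ≤ Nat.card ↥V := by
    have := Nat.card_le_card_of_injective F hFinj
    rwa [Nat.card_prod, Nat.card_prod] at this
  -- the surjection
  obtain ⟨a, haA, hdec⟩ := hN5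
  let Φ : ↥V0 × ↥V0 → ↥V := fun w => (w.1 : ↥V) * cj V a (hAV a haA) w.2
  have hΦ : Function.Surjective Φ := by
    intro v
    obtain ⟨v0, hv0, v1, hv1, h0, h1, hv⟩ := hdec v v.2
    refine ⟨(⟨⟨v0, hv0⟩, (hV0 _).mpr h0⟩, ⟨⟨v1, hv1⟩, (hV0 _).mpr h1⟩), ?_⟩
    apply Subtype.ext
    show v0 * (a⁻¹ * v1 * a) = v
    exact hv.symm
  have hcard2 : Nat.card ↥V ≤ Nat.card ↥V0 * Nat.card ↥V0 := by
    have := Nat.card_le_card_of_surjective Φ hΦ
    rwa [Nat.card_prod] at this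
  have hpos : 0 < Nat.card ↥V0 := Nat.card_pos
  have hone : Nat.card ↥V0 = 1 := by
    have h := hcard1.trans hcard2
    have h' : Nat.card ↥V0 * (Nat.card ↥V0 * Nat.card ↥V0) ≤ 1 * (Nat.card ↥V0 * Nat.card ↥V0) := by
      simpa using h
    have := Nat.le_of_mul_le_mul_right h' (Nat.mul_pos hpos hpos)
    omega
  have hbot : V0 = ⊥ := Subgroup.card_eq_one.mp hone
  intro v hv hvy
  have : (⟨v, hv⟩ : ↥V) ∈ V0 := (hV0 _).mpr hvy
  rw [hbot, Subgroup.mem_bot] at this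
  exact congrArg Subtype.val this

/-- N8 + N9 in plain internal language. -/
theorem n5_main [Finite G] (V A : Subgroup G) (y : G) (p : ℕ) (hp : p.Prime) (hp2 : p ≠ 2)
    (hyp : y ^ p = 1)
    (hVab : ∀ v ∈ V, ∀ w ∈ V, v * w = w * v)
    (hAab : ∀ a ∈ A, ∀ b ∈ A, a * b = b * a)
    (hAV : ∀ a ∈ A, ∀ v ∈ V, a⁻¹ * v * a ∈ V)
    (hyV : ∀ v ∈ V, y⁻¹ * v * y ∈ V)
    (hyA : ∀ a ∈ A, y⁻¹ * a * y ∈ A)
    (hCA : ∀ a ∈ A, a * y = y * a → a = 1)
    (hN5 : ∀ a ∈ A, a ≠ 1 → ∀ v ∈ V, ∃ v0 ∈ V, ∃ v1 ∈ V, v0 * y = y * v0 ∧ v1 * y = y * v1 ∧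
      v = v0 * (a⁻¹ * v1 * a))
    (hmin : ∀ W : Subgroup G, W ≤ V → W ≠ ⊥ → (∀ a ∈ A, ∀ w ∈ W, a⁻¹ * w * a ∈ W) →
      (∀ w ∈ W, y⁻¹ * w * y ∈ W) → W = V)
    (hVy : ∃ v ∈ V, v * y ≠ y * v)
    (hA1 : A ≠ ⊥) : ∀ v ∈ V, v * y = y * v → v = 1 := by
  have hfpf := fpf_of_min V A y p hp.pos hyp hVab hAab hAV hyV hyA hCA hN5 hmin hVy hA1
  obtain ⟨a, haA, ha1⟩ : ∃ a ∈ A, a ≠ 1 := by
    by_contra hcon
    push Not at hcon
    exact hA1 ((Subgroup.eq_bot_iff_forall A).mpr hcon)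
  exact n9_core V A y p hp hp2 hyp hVab hAab hAV hyV hyA hCA hfpf ⟨a, haA, hN5 a haA ha1⟩ hA1

theorem le_normalizer_of_conj_mem {S W : Subgroup G}
    (h : ∀ s ∈ S, ∀ w ∈ W, s⁻¹ * w * s ∈ W) : S ≤ Subgroup.normalizer (W : Set G) := by
  intro s hs
  rw [Subgroup.mem_normalizer_iff]
  intro n
  constructor
  · intro hn
    have := h s⁻¹ (inv_mem hs) n hn
    simpa using this
  · intro hn
    have := h s hs _ hn
    have e : s⁻¹ * (s * n * s⁻¹) * s = n := by group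
    rwa [e] at this

theorem conj_mem_of_le_normalizer {S W : Subgroup G} (h : S ≤ Subgroup.normalizer (W : Set G))
    {s w : G} (hs : s ∈ S) (hw : w ∈ W) : s⁻¹ * w * s ∈ W := by
  have := (Subgroup.mem_normalizer_iff.mp (h (inv_mem hs)) w).mp hw
  simpa using this

/-- PKG-NC5 with the facts from the other packages as explicit hypotheses. -/
theorem NC5_of [Finite G] {p : ℕ} {P H V A : Subgroup G} {r : ℕ}
    (hctx : Ctx p P H) (hV : MinNormal P H V)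
    (hnc : ¬ H ≤ Subgroup.centralizer (V : Set G)) (hA : NCSplit P H V A)
    (hB : NCMax P A ⊥ r)
    (hdec : ∀ a ∈ A, a ≠ 1 → ∀ u ∈ V, ∃ w₀ ∈ V ⊓ Subgroup.centralizer (P : Set G),
      ∃ w₁ ∈ V ⊓ Subgroup.centralizer (P : Set G), u = w₀ * (a⁻¹ * w₁ * a))
    (hVab : ∀ a ∈ V, ∀ b ∈ V, a * b = b * a)
    (h3 : V ≤ Subgroup.centralizer (P : Set G) → V ≤ Subgroup.centralizer (H : Set G))
    (hR3 : ¬ (V ⊓ Subgroup.centralizer (P : Set G) ≤ KK P H)) : False := by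
  have hp := hctx.hp
  have : Fact p.Prime := ⟨hp⟩
  have : Fact r.Prime := ⟨hB.r_prime⟩
  -- a generator of P
  have hPcard : Nat.card ↥P = p := hctx.cardP
  obtain ⟨y', hy'⟩ : ∃ y' : ↥P, y' ≠ 1 := by
    have : Nontrivial ↥P := by
      rw [← Finite.one_lt_card_iff_nontrivial, hPcard]; exact hp.one_lt
    exact exists_ne 1
  set y : G := (y' : G) with hy
  have hyP : y ∈ P := y'.2
  have hPpow : ∀ x ∈ P, ∃ n : ℕ, y ^ n = x := by
    intro x hx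
    have := mem_powers_of_prime_card (g' := (⟨x, hx⟩ : ↥P)) hPcard hy'
    obtain ⟨n, hn⟩ := this
    exact ⟨n, by have := congrArg Subtype.val hn; simpa using this⟩
  have hyp : y ^ p = 1 := by
    have : y' ^ Nat.card ↥P = 1 := pow_card_eq_one'
    rw [hPcard] at this
    have := congrArg Subtype.val this
    simpa using this
  -- centralizer of P
  have hcent : ∀ g : G, g ∈ Subgroup.centralizer (P : Set G) ↔ g * y = y * g := by
    intro g
    rw [Subgroup.mem_centralizer_iff]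
    constructor
    · intro h; exact (h y hyP).symm
    · intro h x hx
      obtain ⟨n, rfl⟩ := hPpow x hx
      have hc : Commute g y := h
      exact (hc.pow_right n).eq.symm
  have hHV : H ≤ Subgroup.normalizer (V : Set G) := hV.2.2.1.1
  have hPV : P ≤ Subgroup.normalizer (V : Set G) := hV.2.2.1.2
  have hAV : ∀ a ∈ A, ∀ v ∈ V, a⁻¹ * v * a ∈ V := fun a ha v hv =>
    conj_mem_of_le_normalizer hHV (hA.AH ha) hv
  have hyV : ∀ v ∈ V, y⁻¹ * v * y ∈ V := fun v hv => conj_mem_of_le_normalizer hPV hyP hv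
  have hyA : ∀ a ∈ A, y⁻¹ * a * y ∈ A := fun a ha => conj_mem_of_le_normalizer hA.PA hyP ha
  have hA1 : A ≠ ⊥ := hB.lt.ne'
  -- A is abelian
  have hAab : ∀ a ∈ A, ∀ b ∈ A, a * b = b * a := by
    let B : Subgroup G := A ⊓ Subgroup.centralizer (A : Set G)
    have hBA : B ≤ A := inf_le_left
    have hPB : P ≤ Subgroup.normalizer (B : Set G) := by
      apply le_normalizer_of_conj_mem
      intro s hs w hw
      refine Subgroup.mem_inf.mpr ⟨conj_mem_of_le_normalizer hA.PA hs hw.1, ?_⟩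
      rw [Subgroup.mem_centralizer_iff]
      intro a ha
      have ha' : s * a * s⁻¹ ∈ A := by
        have := conj_mem_of_le_normalizer hA.PA (inv_mem hs) ha
        simpa using this
      have hw2 := (Subgroup.mem_centralizer_iff.mp hw.2) _ ha'
      calc a * (s⁻¹ * w * s) = s⁻¹ * ((s * a * s⁻¹) * w) * s := by group
        _ = s⁻¹ * (w * (s * a * s⁻¹)) * s := by rw [hw2]
        _ = s⁻¹ * w * s * a := by group
    have hBne : B ≠ ⊥ := by
      have : Nontrivial ↥A := by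
        rw [Subgroup.nontrivial_iff_ne_bot]; exact hA1  -- placeholder
      have := hB.pA.center_nontrivial
      obtain ⟨z, hz⟩ := exists_ne (1 : ↥(Subgroup.center ↥A))
      intro hbot
      apply hz
      have hzB : ((z : ↥A) : G) ∈ B := by
        refine Subgroup.mem_inf.mpr ⟨(z : ↥A).2, ?_⟩
        rw [Subgroup.mem_centralizer_iff]
        intro a ha
        have := (Subgroup.mem_center_iff.mp z.2) ⟨a, ha⟩
        exact congrArg Subtype.val this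
      rw [hbot, Subgroup.mem_bot] at hzB
      exact Subtype.ext (Subtype.ext hzB)
    have hBeq : B = A := by
      by_contra hne
      exact hBne (le_bot_iff.mp (hB.max B hBA hne hPB))
    intro a ha b hb
    have : a ∈ B := hBeq ▸ ha
    exact ((Subgroup.mem_centralizer_iff.mp this.2) b hb).symm
  -- C_A(y) = 1
  have hCA : ∀ a ∈ A, a * y = y * a → a = 1 := by
    let B : Subgroup G := A ⊓ Subgroup.centralizer (P : Set G)
    have hPB : P ≤ Subgroup.normalizer (B : Set G) := by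
      apply le_normalizer_of_conj_mem
      intro s hs w hw
      have : s⁻¹ * w * s = w := by
        have := (Subgroup.mem_centralizer_iff.mp hw.2) s hs
        rw [mul_assoc, ← this]; group
      rw [this]; exact hw
    have hBne : B ≠ A := by
      intro hBA
      obtain ⟨a, haA, hgen⟩ := hA.gen
      have haC : a ∈ Subgroup.centralizer (P : Set G) := (hBA ▸ haA : a ∈ B).2
      apply hA1
      rw [← hgen, cmE, Subgroup.closure_eq_bot_iff]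
      rintro c ⟨x, hx, rfl⟩
      have := (Subgroup.mem_centralizer_iff.mp haC) x hx
      show a⁻¹ * (x⁻¹ * a * x) = 1
      rw [mul_assoc x⁻¹, ← this]; group
    have hBbot := le_bot_iff.mp (hB.max B inf_le_left hBne hPB)
    intro a ha hay
    have : a ∈ B := ⟨ha, (hcent a).mpr hay⟩
    rwa [hBbot, Subgroup.mem_bot] at this
  -- minimality
  have hmin : ∀ W : Subgroup G, W ≤ V → W ≠ ⊥ → (∀ a ∈ A, ∀ w ∈ W, a⁻¹ * w * a ∈ W) →
      (∀ w ∈ W, y⁻¹ * w * y ∈ W) → W = V := by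
    intro W hWV hW1 hWA hWy
    apply hV.2.2.2 W hWV hW1
    constructor
    · rw [← hA.sup]
      apply sup_le
      · apply le_normalizer_of_conj_mem
        intro s hs w hw
        have := hVab s hs w (hWV hw)
        have e : s⁻¹ * w * s = w := by rw [mul_assoc, ← this]; group
        rw [e]; exact hw
      · exact le_normalizer_of_conj_mem hWA
    · apply le_normalizer_of_conj_mem
      intro s hs w hw
      obtain ⟨n, rfl⟩ := hPpow s hs
      exact pow_norm hWy n w hw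
  -- [V,y] ≠ 1
  have hVy : ∃ v ∈ V, v * y ≠ y * v := by
    by_contra hcon
    push Not at hcon
    apply hnc
    rw [Subgroup.le_centralizer_iff]
    apply h3
    intro v hv
    exact (hcent v).mpr (hcon v hv)
  have hN5 : ∀ a ∈ A, a ≠ 1 → ∀ v ∈ V, ∃ v0 ∈ V, ∃ v1 ∈ V, v0 * y = y * v0 ∧ v1 * y = y * v1 ∧
      v = v0 * (a⁻¹ * v1 * a) := by
    intro a ha ha1 v hv
    obtain ⟨w0, hw0, w1, hw1, hu⟩ := hdec a ha ha1 v hv
    exact ⟨w0, hw0.1, w1, hw1.1, (hcent w0).mp hw0.2, (hcent w1).mp hw1.2, hu⟩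
  have hfin := n5_main V A y p hp hctx.hp2 hyp hVab hAab hAV hyV hyA hCA hN5 hmin hVy hA1
  apply hR3
  intro v hv
  have := hfin v hv.1 ((hcent v).mp hv.2)
  rw [this]; exact one_mem _

end Cfsg.Agent.Lib.Helper9.FlvNC5
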