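import Mathlib
import Cfsg.Agent.Lib.Helper9.SmallOrd19

set_option autoImplicit false

namespace Cfsg.Agent.Lib.Helper9.SmallOrd

open Subgroup MulAction

variable {G : Type*} [Group G] [Finite G] [IsSimpleGroup G]

set_option maxHeartbeats 1000000 in
theorem ne_720 (hG : ¬ IsMulCommutative G) : Nat.card G ≠ 720 := by
  intro hcard
  haveI : Fact (Nat.Prime 3) := ⟨by norm_num⟩
  haveI : Fact (Nat.Prime 5) := ⟨by norm_num⟩
  have hc : Nat.card G = 3 ^ 2 * 80 := by rw [hcard]; norm_num
  obtain ⟨P⟩ : Nonempty (Sylow 3 G) := inferInstance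
  obtain ⟨hPcard, hPbot, hPtop, hdvd, hmod, hne1, hNtop, hNcard, hfact⟩ :=
    sylow_data hG 2 80 (by norm_num) (by norm_num) hc (by norm_num) P
  have hmem : Nat.card (Sylow 3 G) ∈ (Nat.divisors 80).filter (fun n => n % 3 = 1) := by
    rw [Finset.mem_filter, Nat.mem_divisors]
    exact ⟨⟨hdvd, by norm_num⟩, hmod⟩
  have hset : (Nat.divisors 80).filter (fun n => n % 3 = 1) = {1, 4, 10, 16, 40} := by decide
  rw [hset] at hmem
  simp only [Finset.mem_insert, Finset.mem_singleton] at hmem
  rcases hmem with h | h | h | h | h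
  · exact hne1 h
  · rw [h, hcard] at hfact; revert hfact; decide
  · exact ne_720_caseA hG hcard h
  · -- n_3 = 16, |N(P)| = 45
    have hN : Nat.card (normalizer ((P : Subgroup G) : Set G)) = 45 := by
      rw [h, hcard] at hNcard; omega
    set N := normalizer ((P : Subgroup G) : Set G) with hNdef
    obtain ⟨K, hK⟩ := Sylow.exists_subgroup_card_pow_prime (G := N) 5 (n := 1)
      (by rw [hN]; norm_num)
    set K' : Subgroup G := K.map N.subtype with hK'def
    have hK'card : Nat.card K' = 5 := by
      rw [hK'def, Subgroup.card_map_of_injective (Subgroup.subtype_injective _), hK]; norm_num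
    have hK'N : K' ≤ N := Subgroup.map_subtype_le K
    have hK'5 : IsPGroup 5 K' := IsPGroup.of_card (n := 1) (by rw [hK'card]; norm_num)
    obtain ⟨F5, hF5⟩ := hK'5.exists_le_sylow
    have hc5 : Nat.card G = 5 ^ 1 * 144 := by rw [hcard]; norm_num
    obtain ⟨hFcard, hFbot, hFtop, hdvd5, hmod5, hne5, hNtop5, hNcard5, hfact5⟩ :=
      sylow_data hG 1 144 (by norm_num) (by norm_num) hc5 (by norm_num) F5
    rw [pow_one] at hFcard
    have hKF : K' = F5 := by
      apply Subgroup.eq_of_le_of_card_ge hF5
      rw [hFcard, hK'card]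
    have hFN : (F5 : Subgroup G) ≤ N := by rw [← hKF]; exact hK'N
    have hle := le_normalizer_of_forced F5 N hFN 9 (by rw [hN, hFcard]) (by decide)
    have h45 : 45 ∣ Nat.card (normalizer ((F5 : Subgroup G) : Set G)) := by
      have := Subgroup.card_dvd_of_le hle
      rwa [hN] at this
    have hmem5 : Nat.card (Sylow 5 G) ∈ (Nat.divisors 144).filter (fun n => n % 5 = 1) := by
      rw [Finset.mem_filter, Nat.mem_divisors]
      exact ⟨⟨hdvd5, by norm_num⟩, hmod5⟩
    have hset5 : (Nat.divisors 144).filter (fun n => n % 5 = 1) = {1, 6, 16, 36} := by decide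
    rw [hset5] at hmem5
    simp only [Finset.mem_insert, Finset.mem_singleton] at hmem5
    rcases hmem5 with h5 | h5 | h5 | h5
    · exact hne5 h5
    · rw [h5, hcard] at hfact5; revert hfact5; decide
    · have hN5 : Nat.card (normalizer ((F5 : Subgroup G) : Set G)) = 5 * 9 := by
        rw [h5, hcard] at hNcard5; omega
      exact transfer_kill F5 9 hFcard hFbot hFtop hN5 (by decide)
    · have hN5 : Nat.card (normalizer ((F5 : Subgroup G) : Set G)) = 20 := by
        rw [h5, hcard] at hNcard5; omega
      rw [hN5] at h45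
      omega
  · exact ne_720_caseB hG hcard h

end Cfsg.Agent.Lib.Helper9.SmallOrd
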