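import Mathlib
import Cfsg.Agent.Lib.Helper9.SmallOrd1
import Cfsg.Agent.Lib.Helper7.PTI12

set_option autoImplicit false

/-!
# Orders 612 and 1040 via Brauer's theorem on Sylow subgroups of prime order (`e = 2`)
-/

namespace Cfsg.Agent.Lib.Helper9.SmallOrd

variable {G : Type*} [Group G] [Finite G] [IsSimpleGroup G]

theorem ne_612 : Nat.card G ≠ 612 := by
  intro hcard
  haveI : Fintype G := Fintype.ofFinite G
  have hdiv : ∀ n, n ∣ 36 → n % 17 = 1 → n = 1 ∨ n = 18 := by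
    intro n hn hmod
    have hle : n ≤ 36 := Nat.le_of_dvd (by norm_num) hn
    interval_cases n <;> omega
  obtain ⟨a₂, f, d₀, ha₂, hf1, hf, hfa, hd, hd0, -⟩ :=
    Cfsg.Agent.Lib.Helper7.PTI.simple_e2 (G := G) (p := 17) (g := 36) (n₀ := 18) (by norm_num)
      (by rw [hcard]) (by norm_num) (by norm_num) hdiv (by norm_num)
  have hfg : f ∣ 36 := Cfsg.Agent.Lib.Helper7.PTI.dvd_cofactor (by norm_num) ha₂ hf hfa
  have hle : f ≤ 36 := Nat.le_of_dvd (by norm_num) hfg
  have hd' : (d₀ : ℤ) = 1 + a₂ * (f : ℤ) ∨ (d₀ : ℤ) = -(1 + a₂ * (f : ℤ)) := by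
    rw [hd0]; exact abs_choice _
  have hdle : d₀ ≤ 612 := Nat.le_of_dvd (by norm_num) hd
  obtain ⟨c, hc⟩ := hfa
  rcases ha₂ with rfl | rfl
  · have hf18 : f = 18 := by
      interval_cases f <;> omega
    subst hf18
    have : d₀ = 19 := by omega
    subst this
    norm_num at hd
  · exfalso
    interval_cases f <;> omega

theorem ne_1040 : Nat.card G ≠ 1040 := by
  intro hcard
  haveI : Fintype G := Fintype.ofFinite G
  have hdiv : ∀ n, n ∣ 80 → n % 13 = 1 → n = 1 ∨ n = 40 := by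
    intro n hn hmod
    have hle : n ≤ 80 := Nat.le_of_dvd (by norm_num) hn
    interval_cases n <;> omega
  obtain ⟨a₂, f, d₀, ha₂, hf1, hf, hfa, hd, hd0, -⟩ :=
    Cfsg.Agent.Lib.Helper7.PTI.simple_e2 (G := G) (p := 13) (g := 80) (n₀ := 40) (by norm_num)
      (by rw [hcard]) (by norm_num) (by norm_num) hdiv (by norm_num)
  have hfg : f ∣ 80 := Cfsg.Agent.Lib.Helper7.PTI.dvd_cofactor (by norm_num) ha₂ hf hfa
  have hle : f ≤ 80 := Nat.le_of_dvd (by norm_num) hfg
  have hd' : (d₀ : ℤ) = 1 + a₂ * (f : ℤ) ∨ (d₀ : ℤ) = -(1 + a₂ * (f : ℤ)) := by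
    rw [hd0]; exact abs_choice _
  have hdle : d₀ ≤ 1040 := Nat.le_of_dvd (by norm_num) hd
  obtain ⟨c, hc⟩ := hfa
  rcases ha₂ with rfl | rfl
  · have hf40 : f = 40 := by
      interval_cases f <;> omega
    subst hf40
    have : d₀ = 41 := by omega
    subst this
    norm_num at hd
  · exfalso
    interval_cases f <;> omega

end Cfsg.Agent.Lib.Helper9.SmallOrd
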