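import Mathlib
import Cfsg.Agent.Lib.Helper9.SmallOrd20
import Cfsg.Agent.Lib.Helper9.SmallOrd6

set_option autoImplicit false
set_option maxRecDepth 100000

namespace Cfsg.Agent.Lib.Helper9.SmallOrd

variable {G : Type*} [Group G] [Finite G] [IsSimpleGroup G]

theorem small_100_400 (hG : ¬ IsMulCommutative G) (n : ℕ) (hn : Nat.card G = n) (h1 : 100 < n) (h2 : n ≤ 400) :
    n = 60 ∨ n = 168 ∨ n = 360 ∨ n = 504 ∨ n = 660 ∨ n = 1092 := by
  interval_cases n
  · exact (paqb hG 101 2 1 0 (by norm_num) (by norm_num) (by rw [hn]; norm_num)).elim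
  · exact (two_odd hG 51 (by decide) (by rw [hn])).elim
  · exact (paqb hG 103 2 1 0 (by norm_num) (by norm_num) (by rw [hn]; norm_num)).elim
  · exact (paqb hG 2 13 3 1 (by norm_num) (by norm_num) (by rw [hn]; norm_num)).elim
  · exact (@sylow_kill G _ _ _ 7 ⟨by norm_num⟩ hG 1 15 (by norm_num) (by norm_num) (by rw [hn]; norm_num) (by norm_num) (by decide)).elim
  · exact (paqb hG 2 53 1 1 (by norm_num) (by norm_num) (by rw [hn]; norm_num)).elim
  · exact (paqb hG 107 2 1 0 (by norm_num) (by norm_num) (by rw [hn]; norm_num)).elim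
  · exact (paqb hG 2 3 2 3 (by norm_num) (by norm_num) (by rw [hn]; norm_num)).elim
  · exact (paqb hG 109 2 1 0 (by norm_num) (by norm_num) (by rw [hn]; norm_num)).elim
  · exact (two_odd hG 55 (by decide) (by rw [hn])).elim
  · exact (paqb hG 3 37 1 1 (by norm_num) (by norm_num) (by rw [hn]; norm_num)).elim
  · exact (paqb hG 2 7 4 1 (by norm_num) (by norm_num) (by rw [hn]; norm_num)).elim
  · exact (paqb hG 113 2 1 0 (by norm_num) (by norm_num) (by rw [hn]; norm_num)).elim
  · exact (two_odd hG 57 (by decide) (by rw [hn])).elim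
  · exact (paqb hG 5 23 1 1 (by norm_num) (by norm_num) (by rw [hn]; norm_num)).elim
  · exact (paqb hG 2 29 2 1 (by norm_num) (by norm_num) (by rw [hn]; norm_num)).elim
  · exact (paqb hG 3 13 2 1 (by norm_num) (by norm_num) (by rw [hn]; norm_num)).elim
  · exact (paqb hG 2 59 1 1 (by norm_num) (by norm_num) (by rw [hn]; norm_num)).elim
  · exact (paqb hG 7 17 1 1 (by norm_num) (by norm_num) (by rw [hn]; norm_num)).elim
  · exact (ne_120 hG hn).elim
  · exact (paqb hG 11 2 2 0 (by norm_num) (by norm_num) (by rw [hn]; norm_num)).elim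
  · exact (paqb hG 2 61 1 1 (by norm_num) (by norm_num) (by rw [hn]; norm_num)).elim
  · exact (paqb hG 3 41 1 1 (by norm_num) (by norm_num) (by rw [hn]; norm_num)).elim
  · exact (paqb hG 2 31 2 1 (by norm_num) (by norm_num) (by rw [hn]; norm_num)).elim
  · exact (paqb hG 5 2 3 0 (by norm_num) (by norm_num) (by rw [hn]; norm_num)).elim
  · exact (two_odd hG 63 (by decide) (by rw [hn])).elim
  · exact (paqb hG 127 2 1 0 (by norm_num) (by norm_num) (by rw [hn]; norm_num)).elim
  · exact (paqb hG 2 3 7 0 (by norm_num) (by norm_num) (by rw [hn]; norm_num)).elim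
  · exact (paqb hG 3 43 1 1 (by norm_num) (by norm_num) (by rw [hn]; norm_num)).elim
  · exact (two_odd hG 65 (by decide) (by rw [hn])).elim
  · exact (paqb hG 131 2 1 0 (by norm_num) (by norm_num) (by rw [hn]; norm_num)).elim
  · exact (@sylow_kill G _ _ _ 11 ⟨by norm_num⟩ hG 1 12 (by norm_num) (by norm_num) (by rw [hn]; norm_num) (by norm_num) (by decide)).elim
  · exact (paqb hG 7 19 1 1 (by norm_num) (by norm_num) (by rw [hn]; norm_num)).elim
  · exact (paqb hG 2 67 1 1 (by norm_num) (by norm_num) (by rw [hn]; norm_num)).elim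
  · exact (paqb hG 3 5 3 1 (by norm_num) (by norm_num) (by rw [hn]; norm_num)).elim
  · exact (paqb hG 2 17 3 1 (by norm_num) (by norm_num) (by rw [hn]; norm_num)).elim
  · exact (paqb hG 137 2 1 0 (by norm_num) (by norm_num) (by rw [hn]; norm_num)).elim
  · exact (two_odd hG 69 (by decide) (by rw [hn])).elim
  · exact (paqb hG 139 2 1 0 (by norm_num) (by norm_num) (by rw [hn]; norm_num)).elim
  · exact (@sylow_unique_kill G _ _ _ 7 ⟨by norm_num⟩ hG 1 20 (by norm_num) (by norm_num) (by rw [hn]; norm_num) (by norm_num) (by decide)).elim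
  · exact (paqb hG 3 47 1 1 (by norm_num) (by norm_num) (by rw [hn]; norm_num)).elim
  · exact (paqb hG 2 71 1 1 (by norm_num) (by norm_num) (by rw [hn]; norm_num)).elim
  · exact (paqb hG 11 13 1 1 (by norm_num) (by norm_num) (by rw [hn]; norm_num)).elim
  · exact (paqb hG 2 3 4 2 (by norm_num) (by norm_num) (by rw [hn]; norm_num)).elim
  · exact (paqb hG 5 29 1 1 (by norm_num) (by norm_num) (by rw [hn]; norm_num)).elim
  · exact (paqb hG 2 73 1 1 (by norm_num) (by norm_num) (by rw [hn]; norm_num)).elim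
  · exact (paqb hG 3 7 1 2 (by norm_num) (by norm_num) (by rw [hn]; norm_num)).elim
  · exact (paqb hG 2 37 2 1 (by norm_num) (by norm_num) (by rw [hn]; norm_num)).elim
  · exact (paqb hG 149 2 1 0 (by norm_num) (by norm_num) (by rw [hn]; norm_num)).elim
  · exact (two_odd hG 75 (by decide) (by rw [hn])).elim
  · exact (paqb hG 151 2 1 0 (by norm_num) (by norm_num) (by rw [hn]; norm_num)).elim
  · exact (paqb hG 2 19 3 1 (by norm_num) (by norm_num) (by rw [hn]; norm_num)).elim
  · exact (paqb hG 3 17 2 1 (by norm_num) (by norm_num) (by rw [hn]; norm_num)).elim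
  · exact (two_odd hG 77 (by decide) (by rw [hn])).elim
  · exact (paqb hG 5 31 1 1 (by norm_num) (by norm_num) (by rw [hn]; norm_num)).elim
  · exact (@sylow_unique_kill G _ _ _ 13 ⟨by norm_num⟩ hG 1 12 (by norm_num) (by norm_num) (by rw [hn]; norm_num) (by norm_num) (by decide)).elim
  · exact (paqb hG 157 2 1 0 (by norm_num) (by norm_num) (by rw [hn]; norm_num)).elim
  · exact (paqb hG 2 79 1 1 (by norm_num) (by norm_num) (by rw [hn]; norm_num)).elim
  · exact (paqb hG 3 53 1 1 (by norm_num) (by norm_num) (by rw [hn]; norm_num)).elim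
  · exact (paqb hG 2 5 5 1 (by norm_num) (by norm_num) (by rw [hn]; norm_num)).elim
  · exact (paqb hG 7 23 1 1 (by norm_num) (by norm_num) (by rw [hn]; norm_num)).elim
  · exact (paqb hG 2 3 1 4 (by norm_num) (by norm_num) (by rw [hn]; norm_num)).elim
  · exact (paqb hG 163 2 1 0 (by norm_num) (by norm_num) (by rw [hn]; norm_num)).elim
  · exact (paqb hG 2 41 2 1 (by norm_num) (by norm_num) (by rw [hn]; norm_num)).elim
  · exact (@sylow_unique_kill G _ _ _ 11 ⟨by norm_num⟩ hG 1 15 (by norm_num) (by norm_num) (by rw [hn]; norm_num) (by norm_num) (by decide)).elim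
  · exact (paqb hG 2 83 1 1 (by norm_num) (by norm_num) (by rw [hn]; norm_num)).elim
  · exact (paqb hG 167 2 1 0 (by norm_num) (by norm_num) (by rw [hn]; norm_num)).elim
  · simp
  · exact (paqb hG 13 2 2 0 (by norm_num) (by norm_num) (by rw [hn]; norm_num)).elim
  · exact (two_odd hG 85 (by decide) (by rw [hn])).elim
  · exact (paqb hG 3 19 2 1 (by norm_num) (by norm_num) (by rw [hn]; norm_num)).elim
  · exact (paqb hG 2 43 2 1 (by norm_num) (by norm_num) (by rw [hn]; norm_num)).elim
  · exact (paqb hG 173 2 1 0 (by norm_num) (by norm_num) (by rw [hn]; norm_num)).elim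
  · exact (two_odd hG 87 (by decide) (by rw [hn])).elim
  · exact (paqb hG 5 7 2 1 (by norm_num) (by norm_num) (by rw [hn]; norm_num)).elim
  · exact (paqb hG 2 11 4 1 (by norm_num) (by norm_num) (by rw [hn]; norm_num)).elim
  · exact (paqb hG 3 59 1 1 (by norm_num) (by norm_num) (by rw [hn]; norm_num)).elim
  · exact (paqb hG 2 89 1 1 (by norm_num) (by norm_num) (by rw [hn]; norm_num)).elim
  · exact (paqb hG 179 2 1 0 (by norm_num) (by norm_num) (by rw [hn]; norm_num)).elim
  · exact (ne_180 hG hn).elim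
  · exact (paqb hG 181 2 1 0 (by norm_num) (by norm_num) (by rw [hn]; norm_num)).elim
  · exact (two_odd hG 91 (by decide) (by rw [hn])).elim
  · exact (paqb hG 3 61 1 1 (by norm_num) (by norm_num) (by rw [hn]; norm_num)).elim
  · exact (paqb hG 2 23 3 1 (by norm_num) (by norm_num) (by rw [hn]; norm_num)).elim
  · exact (paqb hG 5 37 1 1 (by norm_num) (by norm_num) (by rw [hn]; norm_num)).elim
  · exact (two_odd hG 93 (by decide) (by rw [hn])).elim
  · exact (paqb hG 11 17 1 1 (by norm_num) (by norm_num) (by rw [hn]; norm_num)).elim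
  · exact (paqb hG 2 47 2 1 (by norm_num) (by norm_num) (by rw [hn]; norm_num)).elim
  · exact (paqb hG 3 7 3 1 (by norm_num) (by norm_num) (by rw [hn]; norm_num)).elim
  · exact (two_odd hG 95 (by decide) (by rw [hn])).elim
  · exact (paqb hG 191 2 1 0 (by norm_num) (by norm_num) (by rw [hn]; norm_num)).elim
  · exact (paqb hG 2 3 6 1 (by norm_num) (by norm_num) (by rw [hn]; norm_num)).elim
  · exact (paqb hG 193 2 1 0 (by norm_num) (by norm_num) (by rw [hn]; norm_num)).elim
  · exact (paqb hG 2 97 1 1 (by norm_num) (by norm_num) (by rw [hn]; norm_num)).elim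
  · exact (@sylow_unique_kill G _ _ _ 13 ⟨by norm_num⟩ hG 1 15 (by norm_num) (by norm_num) (by rw [hn]; norm_num) (by norm_num) (by decide)).elim
  · exact (paqb hG 2 7 2 2 (by norm_num) (by norm_num) (by rw [hn]; norm_num)).elim
  · exact (paqb hG 197 2 1 0 (by norm_num) (by norm_num) (by rw [hn]; norm_num)).elim
  · exact (two_odd hG 99 (by decide) (by rw [hn])).elim
  · exact (paqb hG 199 2 1 0 (by norm_num) (by norm_num) (by rw [hn]; norm_num)).elim
  · exact (paqb hG 2 5 3 2 (by norm_num) (by norm_num) (by rw [hn]; norm_num)).elim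
  · exact (paqb hG 3 67 1 1 (by norm_num) (by norm_num) (by rw [hn]; norm_num)).elim
  · exact (paqb hG 2 101 1 1 (by norm_num) (by norm_num) (by rw [hn]; norm_num)).elim
  · exact (paqb hG 7 29 1 1 (by norm_num) (by norm_num) (by rw [hn]; norm_num)).elim
  · exact (@sylow_unique_kill G _ _ _ 17 ⟨by norm_num⟩ hG 1 12 (by norm_num) (by norm_num) (by rw [hn]; norm_num) (by norm_num) (by decide)).elim
  · exact (paqb hG 5 41 1 1 (by norm_num) (by norm_num) (by rw [hn]; norm_num)).elim
  · exact (paqb hG 2 103 1 1 (by norm_num) (by norm_num) (by rw [hn]; norm_num)).elim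
  · exact (paqb hG 3 23 2 1 (by norm_num) (by norm_num) (by rw [hn]; norm_num)).elim
  · exact (paqb hG 2 13 4 1 (by norm_num) (by norm_num) (by rw [hn]; norm_num)).elim
  · exact (paqb hG 11 19 1 1 (by norm_num) (by norm_num) (by rw [hn]; norm_num)).elim
  · exact (two_odd hG 105 (by decide) (by rw [hn])).elim
  · exact (paqb hG 211 2 1 0 (by norm_num) (by norm_num) (by rw [hn]; norm_num)).elim
  · exact (paqb hG 2 53 2 1 (by norm_num) (by norm_num) (by rw [hn]; norm_num)).elim
  · exact (paqb hG 3 71 1 1 (by norm_num) (by norm_num) (by rw [hn]; norm_num)).elim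
  · exact (paqb hG 2 107 1 1 (by norm_num) (by norm_num) (by rw [hn]; norm_num)).elim
  · exact (paqb hG 5 43 1 1 (by norm_num) (by norm_num) (by rw [hn]; norm_num)).elim
  · exact (paqb hG 2 3 3 3 (by norm_num) (by norm_num) (by rw [hn]; norm_num)).elim
  · exact (paqb hG 7 31 1 1 (by norm_num) (by norm_num) (by rw [hn]; norm_num)).elim
  · exact (paqb hG 2 109 1 1 (by norm_num) (by norm_num) (by rw [hn]; norm_num)).elim
  · exact (paqb hG 3 73 1 1 (by norm_num) (by norm_num) (by rw [hn]; norm_num)).elim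
  · exact (@sylow_unique_kill G _ _ _ 11 ⟨by norm_num⟩ hG 1 20 (by norm_num) (by norm_num) (by rw [hn]; norm_num) (by norm_num) (by decide)).elim
  · exact (paqb hG 13 17 1 1 (by norm_num) (by norm_num) (by rw [hn]; norm_num)).elim
  · exact (two_odd hG 111 (by decide) (by rw [hn])).elim
  · exact (paqb hG 223 2 1 0 (by norm_num) (by norm_num) (by rw [hn]; norm_num)).elim
  · exact (paqb hG 2 7 5 1 (by norm_num) (by norm_num) (by rw [hn]; norm_num)).elim
  · exact (paqb hG 3 5 2 2 (by norm_num) (by norm_num) (by rw [hn]; norm_num)).elim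
  · exact (paqb hG 2 113 1 1 (by norm_num) (by norm_num) (by rw [hn]; norm_num)).elim
  · exact (paqb hG 227 2 1 0 (by norm_num) (by norm_num) (by rw [hn]; norm_num)).elim
  · exact (@sylow_unique_kill G _ _ _ 19 ⟨by norm_num⟩ hG 1 12 (by norm_num) (by norm_num) (by rw [hn]; norm_num) (by norm_num) (by decide)).elim
  · exact (paqb hG 229 2 1 0 (by norm_num) (by norm_num) (by rw [hn]; norm_num)).elim
  · exact (two_odd hG 115 (by decide) (by rw [hn])).elim
  · exact (@sylow_unique_kill G _ _ _ 11 ⟨by norm_num⟩ hG 1 21 (by norm_num) (by norm_num) (by rw [hn]; norm_num) (by norm_num) (by decide)).elim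
  · exact (paqb hG 2 29 3 1 (by norm_num) (by norm_num) (by rw [hn]; norm_num)).elim
  · exact (paqb hG 233 2 1 0 (by norm_num) (by norm_num) (by rw [hn]; norm_num)).elim
  · exact (two_odd hG 117 (by decide) (by rw [hn])).elim
  · exact (paqb hG 5 47 1 1 (by norm_num) (by norm_num) (by rw [hn]; norm_num)).elim
  · exact (paqb hG 2 59 2 1 (by norm_num) (by norm_num) (by rw [hn]; norm_num)).elim
  · exact (paqb hG 3 79 1 1 (by norm_num) (by norm_num) (by rw [hn]; norm_num)).elim
  · exact (two_odd hG 119 (by decide) (by rw [hn])).elim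
  · exact (paqb hG 239 2 1 0 (by norm_num) (by norm_num) (by rw [hn]; norm_num)).elim
  · exact (@sylow_kill G _ _ _ 5 ⟨by norm_num⟩ hG 1 48 (by norm_num) (by norm_num) (by rw [hn]; norm_num) (by norm_num) (by decide)).elim
  · exact (paqb hG 241 2 1 0 (by norm_num) (by norm_num) (by rw [hn]; norm_num)).elim
  · exact (paqb hG 2 11 1 2 (by norm_num) (by norm_num) (by rw [hn]; norm_num)).elim
  · exact (paqb hG 3 2 5 0 (by norm_num) (by norm_num) (by rw [hn]; norm_num)).elim
  · exact (paqb hG 2 61 2 1 (by norm_num) (by norm_num) (by rw [hn]; norm_num)).elim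
  · exact (paqb hG 5 7 1 2 (by norm_num) (by norm_num) (by rw [hn]; norm_num)).elim
  · exact (two_odd hG 123 (by decide) (by rw [hn])).elim
  · exact (paqb hG 13 19 1 1 (by norm_num) (by norm_num) (by rw [hn]; norm_num)).elim
  · exact (paqb hG 2 31 3 1 (by norm_num) (by norm_num) (by rw [hn]; norm_num)).elim
  · exact (paqb hG 3 83 1 1 (by norm_num) (by norm_num) (by rw [hn]; norm_num)).elim
  · exact (paqb hG 2 5 1 3 (by norm_num) (by norm_num) (by rw [hn]; norm_num)).elim
  · exact (paqb hG 251 2 1 0 (by norm_num) (by norm_num) (by rw [hn]; norm_num)).elim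
  · exact (@sylow_kill G _ _ _ 7 ⟨by norm_num⟩ hG 1 36 (by norm_num) (by norm_num) (by rw [hn]; norm_num) (by norm_num) (by decide)).elim
  · exact (paqb hG 11 23 1 1 (by norm_num) (by norm_num) (by rw [hn]; norm_num)).elim
  · exact (paqb hG 2 127 1 1 (by norm_num) (by norm_num) (by rw [hn]; norm_num)).elim
  · exact (@sylow_unique_kill G _ _ _ 17 ⟨by norm_num⟩ hG 1 15 (by norm_num) (by norm_num) (by rw [hn]; norm_num) (by norm_num) (by decide)).elim
  · exact (paqb hG 2 3 8 0 (by norm_num) (by norm_num) (by rw [hn]; norm_num)).elim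
  · exact (paqb hG 257 2 1 0 (by norm_num) (by norm_num) (by rw [hn]; norm_num)).elim
  · exact (two_odd hG 129 (by decide) (by rw [hn])).elim
  · exact (paqb hG 7 37 1 1 (by norm_num) (by norm_num) (by rw [hn]; norm_num)).elim
  · exact (@sylow_unique_kill G _ _ _ 13 ⟨by norm_num⟩ hG 1 20 (by norm_num) (by norm_num) (by rw [hn]; norm_num) (by norm_num) (by decide)).elim
  · exact (paqb hG 3 29 2 1 (by norm_num) (by norm_num) (by rw [hn]; norm_num)).elim
  · exact (paqb hG 2 131 1 1 (by norm_num) (by norm_num) (by rw [hn]; norm_num)).elim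
  · exact (paqb hG 263 2 1 0 (by norm_num) (by norm_num) (by rw [hn]; norm_num)).elim
  · exact (ne_264 hG hn).elim
  · exact (paqb hG 5 53 1 1 (by norm_num) (by norm_num) (by rw [hn]; norm_num)).elim
  · exact (two_odd hG 133 (by decide) (by rw [hn])).elim
  · exact (paqb hG 3 89 1 1 (by norm_num) (by norm_num) (by rw [hn]; norm_num)).elim
  · exact (paqb hG 2 67 2 1 (by norm_num) (by norm_num) (by rw [hn]; norm_num)).elim
  · exact (paqb hG 269 2 1 0 (by norm_num) (by norm_num) (by rw [hn]; norm_num)).elim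
  · exact (two_odd hG 135 (by decide) (by rw [hn])).elim
  · exact (paqb hG 271 2 1 0 (by norm_num) (by norm_num) (by rw [hn]; norm_num)).elim
  · exact (paqb hG 2 17 4 1 (by norm_num) (by norm_num) (by rw [hn]; norm_num)).elim
  · exact (@sylow_unique_kill G _ _ _ 13 ⟨by norm_num⟩ hG 1 21 (by norm_num) (by norm_num) (by rw [hn]; norm_num) (by norm_num) (by decide)).elim
  · exact (paqb hG 2 137 1 1 (by norm_num) (by norm_num) (by rw [hn]; norm_num)).elim
  · exact (paqb hG 5 11 2 1 (by norm_num) (by norm_num) (by rw [hn]; norm_num)).elim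
  · exact (@sylow_unique_kill G _ _ _ 23 ⟨by norm_num⟩ hG 1 12 (by norm_num) (by norm_num) (by rw [hn]; norm_num) (by norm_num) (by decide)).elim
  · exact (paqb hG 277 2 1 0 (by norm_num) (by norm_num) (by rw [hn]; norm_num)).elim
  · exact (paqb hG 2 139 1 1 (by norm_num) (by norm_num) (by rw [hn]; norm_num)).elim
  · exact (paqb hG 3 31 2 1 (by norm_num) (by norm_num) (by rw [hn]; norm_num)).elim
  · exact (@sylow_kill G _ _ _ 7 ⟨by norm_num⟩ hG 1 40 (by norm_num) (by norm_num) (by rw [hn]; norm_num) (by norm_num) (by decide)).elim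
  · exact (paqb hG 281 2 1 0 (by norm_num) (by norm_num) (by rw [hn]; norm_num)).elim
  · exact (two_odd hG 141 (by decide) (by rw [hn])).elim
  · exact (paqb hG 283 2 1 0 (by norm_num) (by norm_num) (by rw [hn]; norm_num)).elim
  · exact (paqb hG 2 71 2 1 (by norm_num) (by norm_num) (by rw [hn]; norm_num)).elim
  · exact (@sylow_unique_kill G _ _ _ 19 ⟨by norm_num⟩ hG 1 15 (by norm_num) (by norm_num) (by rw [hn]; norm_num) (by norm_num) (by decide)).elim
  · exact (two_odd hG 143 (by decide) (by rw [hn])).elim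
  · exact (paqb hG 7 41 1 1 (by norm_num) (by norm_num) (by rw [hn]; norm_num)).elim
  · exact (paqb hG 2 3 5 2 (by norm_num) (by norm_num) (by rw [hn]; norm_num)).elim
  · exact (paqb hG 17 2 2 0 (by norm_num) (by norm_num) (by rw [hn]; norm_num)).elim
  · exact (two_odd hG 145 (by decide) (by rw [hn])).elim
  · exact (paqb hG 3 97 1 1 (by norm_num) (by norm_num) (by rw [hn]; norm_num)).elim
  · exact (paqb hG 2 73 2 1 (by norm_num) (by norm_num) (by rw [hn]; norm_num)).elim
  · exact (paqb hG 293 2 1 0 (by norm_num) (by norm_num) (by rw [hn]; norm_num)).elim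
  · exact (two_odd hG 147 (by decide) (by rw [hn])).elim
  · exact (paqb hG 5 59 1 1 (by norm_num) (by norm_num) (by rw [hn]; norm_num)).elim
  · exact (paqb hG 2 37 3 1 (by norm_num) (by norm_num) (by rw [hn]; norm_num)).elim
  · exact (paqb hG 3 11 3 1 (by norm_num) (by norm_num) (by rw [hn]; norm_num)).elim
  · exact (paqb hG 2 149 1 1 (by norm_num) (by norm_num) (by rw [hn]; norm_num)).elim
  · exact (paqb hG 13 23 1 1 (by norm_num) (by norm_num) (by rw [hn]; norm_num)).elim
  · exact (@sylow_kill G _ _ _ 5 ⟨by norm_num⟩ hG 2 12 (by norm_num) (by norm_num) (by rw [hn]; norm_num) (by norm_num) (by decide)).elim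
  · exact (paqb hG 7 43 1 1 (by norm_num) (by norm_num) (by rw [hn]; norm_num)).elim
  · exact (paqb hG 2 151 1 1 (by norm_num) (by norm_num) (by rw [hn]; norm_num)).elim
  · exact (paqb hG 3 101 1 1 (by norm_num) (by norm_num) (by rw [hn]; norm_num)).elim
  · exact (paqb hG 2 19 4 1 (by norm_num) (by norm_num) (by rw [hn]; norm_num)).elim
  · exact (paqb hG 5 61 1 1 (by norm_num) (by norm_num) (by rw [hn]; norm_num)).elim
  · exact (two_odd hG 153 (by decide) (by rw [hn])).elim
  · exact (paqb hG 307 2 1 0 (by norm_num) (by norm_num) (by rw [hn]; norm_num)).elim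
  · exact (@sylow_unique_kill G _ _ _ 11 ⟨by norm_num⟩ hG 1 28 (by norm_num) (by norm_num) (by rw [hn]; norm_num) (by norm_num) (by decide)).elim
  · exact (paqb hG 3 103 1 1 (by norm_num) (by norm_num) (by rw [hn]; norm_num)).elim
  · exact (two_odd hG 155 (by decide) (by rw [hn])).elim
  · exact (paqb hG 311 2 1 0 (by norm_num) (by norm_num) (by rw [hn]; norm_num)).elim
  · exact (@sylow_unique_kill G _ _ _ 13 ⟨by norm_num⟩ hG 1 24 (by norm_num) (by norm_num) (by rw [hn]; norm_num) (by norm_num) (by decide)).elim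
  · exact (paqb hG 313 2 1 0 (by norm_num) (by norm_num) (by rw [hn]; norm_num)).elim
  · exact (paqb hG 2 157 1 1 (by norm_num) (by norm_num) (by rw [hn]; norm_num)).elim
  · exact (@sylow_kill G _ _ _ 5 ⟨by norm_num⟩ hG 1 63 (by norm_num) (by norm_num) (by rw [hn]; norm_num) (by norm_num) (by decide)).elim
  · exact (paqb hG 2 79 2 1 (by norm_num) (by norm_num) (by rw [hn]; norm_num)).elim
  · exact (paqb hG 317 2 1 0 (by norm_num) (by norm_num) (by rw [hn]; norm_num)).elim
  · exact (two_odd hG 159 (by decide) (by rw [hn])).elim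
  · exact (paqb hG 11 29 1 1 (by norm_num) (by norm_num) (by rw [hn]; norm_num)).elim
  · exact (paqb hG 2 5 6 1 (by norm_num) (by norm_num) (by rw [hn]; norm_num)).elim
  · exact (paqb hG 3 107 1 1 (by norm_num) (by norm_num) (by rw [hn]; norm_num)).elim
  · exact (two_odd hG 161 (by decide) (by rw [hn])).elim
  · exact (paqb hG 17 19 1 1 (by norm_num) (by norm_num) (by rw [hn]; norm_num)).elim
  · exact (paqb hG 2 3 2 4 (by norm_num) (by norm_num) (by rw [hn]; norm_num)).elim
  · exact (paqb hG 5 13 2 1 (by norm_num) (by norm_num) (by rw [hn]; norm_num)).elim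
  · exact (paqb hG 2 163 1 1 (by norm_num) (by norm_num) (by rw [hn]; norm_num)).elim
  · exact (paqb hG 3 109 1 1 (by norm_num) (by norm_num) (by rw [hn]; norm_num)).elim
  · exact (paqb hG 2 41 3 1 (by norm_num) (by norm_num) (by rw [hn]; norm_num)).elim
  · exact (paqb hG 7 47 1 1 (by norm_num) (by norm_num) (by rw [hn]; norm_num)).elim
  · exact (two_odd hG 165 (by decide) (by rw [hn])).elim
  · exact (paqb hG 331 2 1 0 (by norm_num) (by norm_num) (by rw [hn]; norm_num)).elim
  · exact (paqb hG 2 83 2 1 (by norm_num) (by norm_num) (by rw [hn]; norm_num)).elim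
  · exact (paqb hG 3 37 2 1 (by norm_num) (by norm_num) (by rw [hn]; norm_num)).elim
  · exact (paqb hG 2 167 1 1 (by norm_num) (by norm_num) (by rw [hn]; norm_num)).elim
  · exact (paqb hG 5 67 1 1 (by norm_num) (by norm_num) (by rw [hn]; norm_num)).elim
  · exact (ne_336 hG hn).elim
  · exact (paqb hG 337 2 1 0 (by norm_num) (by norm_num) (by rw [hn]; norm_num)).elim
  · exact (paqb hG 2 13 1 2 (by norm_num) (by norm_num) (by rw [hn]; norm_num)).elim
  · exact (paqb hG 3 113 1 1 (by norm_num) (by norm_num) (by rw [hn]; norm_num)).elim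
  · exact (@sylow_unique_kill G _ _ _ 17 ⟨by norm_num⟩ hG 1 20 (by norm_num) (by norm_num) (by rw [hn]; norm_num) (by norm_num) (by decide)).elim
  · exact (paqb hG 11 31 1 1 (by norm_num) (by norm_num) (by rw [hn]; norm_num)).elim
  · exact (two_odd hG 171 (by decide) (by rw [hn])).elim
  · exact (paqb hG 7 2 3 0 (by norm_num) (by norm_num) (by rw [hn]; norm_num)).elim
  · exact (paqb hG 2 43 3 1 (by norm_num) (by norm_num) (by rw [hn]; norm_num)).elim
  · exact (@sylow_unique_kill G _ _ _ 23 ⟨by norm_num⟩ hG 1 15 (by norm_num) (by norm_num) (by rw [hn]; norm_num) (by norm_num) (by decide)).elim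
  · exact (paqb hG 2 173 1 1 (by norm_num) (by norm_num) (by rw [hn]; norm_num)).elim
  · exact (paqb hG 347 2 1 0 (by norm_num) (by norm_num) (by rw [hn]; norm_num)).elim
  · exact (@sylow_unique_kill G _ _ _ 29 ⟨by norm_num⟩ hG 1 12 (by norm_num) (by norm_num) (by rw [hn]; norm_num) (by norm_num) (by decide)).elim
  · exact (paqb hG 349 2 1 0 (by norm_num) (by norm_num) (by rw [hn]; norm_num)).elim
  · exact (two_odd hG 175 (by decide) (by rw [hn])).elim
  · exact (paqb hG 3 13 3 1 (by norm_num) (by norm_num) (by rw [hn]; norm_num)).elim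
  · exact (paqb hG 2 11 5 1 (by norm_num) (by norm_num) (by rw [hn]; norm_num)).elim
  · exact (paqb hG 353 2 1 0 (by norm_num) (by norm_num) (by rw [hn]; norm_num)).elim
  · exact (two_odd hG 177 (by decide) (by rw [hn])).elim
  · exact (paqb hG 5 71 1 1 (by norm_num) (by norm_num) (by rw [hn]; norm_num)).elim
  · exact (paqb hG 2 89 2 1 (by norm_num) (by norm_num) (by rw [hn]; norm_num)).elim
  · exact (@sylow_unique_kill G _ _ _ 17 ⟨by norm_num⟩ hG 1 21 (by norm_num) (by norm_num) (by rw [hn]; norm_num) (by norm_num) (by decide)).elim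
  · exact (paqb hG 2 179 1 1 (by norm_num) (by norm_num) (by rw [hn]; norm_num)).elim
  · exact (paqb hG 359 2 1 0 (by norm_num) (by norm_num) (by rw [hn]; norm_num)).elim
  · simp
  · exact (paqb hG 19 2 2 0 (by norm_num) (by norm_num) (by rw [hn]; norm_num)).elim
  · exact (paqb hG 2 181 1 1 (by norm_num) (by norm_num) (by rw [hn]; norm_num)).elim
  · exact (paqb hG 3 11 1 2 (by norm_num) (by norm_num) (by rw [hn]; norm_num)).elim
  · exact (@sylow_unique_kill G _ _ _ 7 ⟨by norm_num⟩ hG 1 52 (by norm_num) (by norm_num) (by rw [hn]; norm_num) (by norm_num) (by decide)).elim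
  · exact (paqb hG 5 73 1 1 (by norm_num) (by norm_num) (by rw [hn]; norm_num)).elim
  · exact (two_odd hG 183 (by decide) (by rw [hn])).elim
  · exact (paqb hG 367 2 1 0 (by norm_num) (by norm_num) (by rw [hn]; norm_num)).elim
  · exact (paqb hG 2 23 4 1 (by norm_num) (by norm_num) (by rw [hn]; norm_num)).elim
  · exact (paqb hG 3 41 2 1 (by norm_num) (by norm_num) (by rw [hn]; norm_num)).elim
  · exact (two_odd hG 185 (by decide) (by rw [hn])).elim
  · exact (paqb hG 7 53 1 1 (by norm_num) (by norm_num) (by rw [hn]; norm_num)).elim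
  · exact (@sylow_unique_kill G _ _ _ 31 ⟨by norm_num⟩ hG 1 12 (by norm_num) (by norm_num) (by rw [hn]; norm_num) (by norm_num) (by decide)).elim
  · exact (paqb hG 373 2 1 0 (by norm_num) (by norm_num) (by rw [hn]; norm_num)).elim
  · exact (two_odd hG 187 (by decide) (by rw [hn])).elim
  · exact (paqb hG 3 5 1 3 (by norm_num) (by norm_num) (by rw [hn]; norm_num)).elim
  · exact (paqb hG 2 47 3 1 (by norm_num) (by norm_num) (by rw [hn]; norm_num)).elim
  · exact (paqb hG 13 29 1 1 (by norm_num) (by norm_num) (by rw [hn]; norm_num)).elim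
  · exact (two_odd hG 189 (by decide) (by rw [hn])).elim
  · exact (paqb hG 379 2 1 0 (by norm_num) (by norm_num) (by rw [hn]; norm_num)).elim
  · exact (@sylow_kill G _ _ _ 19 ⟨by norm_num⟩ hG 1 20 (by norm_num) (by norm_num) (by rw [hn]; norm_num) (by norm_num) (by decide)).elim
  · exact (paqb hG 3 127 1 1 (by norm_num) (by norm_num) (by rw [hn]; norm_num)).elim
  · exact (paqb hG 2 191 1 1 (by norm_num) (by norm_num) (by rw [hn]; norm_num)).elim
  · exact (paqb hG 383 2 1 0 (by norm_num) (by norm_num) (by rw [hn]; norm_num)).elim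
  · exact (paqb hG 2 3 7 1 (by norm_num) (by norm_num) (by rw [hn]; norm_num)).elim
  · exact (@sylow_unique_kill G _ _ _ 11 ⟨by norm_num⟩ hG 1 35 (by norm_num) (by norm_num) (by rw [hn]; norm_num) (by norm_num) (by decide)).elim
  · exact (paqb hG 2 193 1 1 (by norm_num) (by norm_num) (by rw [hn]; norm_num)).elim
  · exact (paqb hG 3 43 2 1 (by norm_num) (by norm_num) (by rw [hn]; norm_num)).elim
  · exact (paqb hG 2 97 2 1 (by norm_num) (by norm_num) (by rw [hn]; norm_num)).elim
  · exact (paqb hG 389 2 1 0 (by norm_num) (by norm_num) (by rw [hn]; norm_num)).elim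
  · exact (two_odd hG 195 (by decide) (by rw [hn])).elim
  · exact (paqb hG 17 23 1 1 (by norm_num) (by norm_num) (by rw [hn]; norm_num)).elim
  · exact (paqb hG 2 7 3 2 (by norm_num) (by norm_num) (by rw [hn]; norm_num)).elim
  · exact (paqb hG 3 131 1 1 (by norm_num) (by norm_num) (by rw [hn]; norm_num)).elim
  · exact (paqb hG 2 197 1 1 (by norm_num) (by norm_num) (by rw [hn]; norm_num)).elim
  · exact (paqb hG 5 79 1 1 (by norm_num) (by norm_num) (by rw [hn]; norm_num)).elim
  · exact (@sylow_kill G _ _ _ 11 ⟨by norm_num⟩ hG 1 36 (by norm_num) (by norm_num) (by rw [hn]; norm_num) (by norm_num) (by decide)).elim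
  · exact (paqb hG 397 2 1 0 (by norm_num) (by norm_num) (by rw [hn]; norm_num)).elim
  · exact (paqb hG 2 199 1 1 (by norm_num) (by norm_num) (by rw [hn]; norm_num)).elim
  · exact (@sylow_unique_kill G _ _ _ 19 ⟨by norm_num⟩ hG 1 21 (by norm_num) (by norm_num) (by rw [hn]; norm_num) (by norm_num) (by decide)).elim
  · exact (paqb hG 2 5 4 2 (by norm_num) (by norm_num) (by rw [hn]; norm_num)).elim

end Cfsg.Agent.Lib.Helper9.SmallOrd
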