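import Mathlib
import Cfsg.Agent.Lib.Helper9.SmallOrd20
import Cfsg.Agent.Lib.Helper9.SmallOrd6

set_option autoImplicit false
set_option maxRecDepth 100000

namespace Cfsg.Agent.Lib.Helper9.SmallOrd

variable {G : Type*} [Group G] [Finite G] [IsSimpleGroup G]

theorem small_400_750 (hG : ¬ IsMulCommutative G) (n : ℕ) (hn : Nat.card G = n) (h1 : 400 < n) (h2 : n ≤ 750) :
    n = 60 ∨ n = 168 ∨ n = 360 ∨ n = 504 ∨ n = 660 ∨ n = 1092 := by
  interval_cases n
  · exact (paqb hG 401 2 1 0 (by norm_num) (by norm_num) (by rw [hn]; norm_num)).elim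
  · exact (two_odd hG 201 (by decide) (by rw [hn])).elim
  · exact (paqb hG 13 31 1 1 (by norm_num) (by norm_num) (by rw [hn]; norm_num)).elim
  · exact (paqb hG 2 101 2 1 (by norm_num) (by norm_num) (by rw [hn]; norm_num)).elim
  · exact (paqb hG 3 5 4 1 (by norm_num) (by norm_num) (by rw [hn]; norm_num)).elim
  · exact (two_odd hG 203 (by decide) (by rw [hn])).elim
  · exact (paqb hG 11 37 1 1 (by norm_num) (by norm_num) (by rw [hn]; norm_num)).elim
  · exact (@sylow_unique_kill G _ _ _ 17 ⟨by norm_num⟩ hG 1 24 (by norm_num) (by norm_num) (by rw [hn]; norm_num) (by norm_num) (by decide)).elim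
  · exact (paqb hG 409 2 1 0 (by norm_num) (by norm_num) (by rw [hn]; norm_num)).elim
  · exact (two_odd hG 205 (by decide) (by rw [hn])).elim
  · exact (paqb hG 3 137 1 1 (by norm_num) (by norm_num) (by rw [hn]; norm_num)).elim
  · exact (paqb hG 2 103 2 1 (by norm_num) (by norm_num) (by rw [hn]; norm_num)).elim
  · exact (paqb hG 7 59 1 1 (by norm_num) (by norm_num) (by rw [hn]; norm_num)).elim
  · exact (two_odd hG 207 (by decide) (by rw [hn])).elim
  · exact (paqb hG 5 83 1 1 (by norm_num) (by norm_num) (by rw [hn]; norm_num)).elim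
  · exact (paqb hG 2 13 5 1 (by norm_num) (by norm_num) (by rw [hn]; norm_num)).elim
  · exact (paqb hG 3 139 1 1 (by norm_num) (by norm_num) (by rw [hn]; norm_num)).elim
  · exact (two_odd hG 209 (by decide) (by rw [hn])).elim
  · exact (paqb hG 419 2 1 0 (by norm_num) (by norm_num) (by rw [hn]; norm_num)).elim
  · exact (ne_420 hG hn).elim
  · exact (paqb hG 421 2 1 0 (by norm_num) (by norm_num) (by rw [hn]; norm_num)).elim
  · exact (paqb hG 2 211 1 1 (by norm_num) (by norm_num) (by rw [hn]; norm_num)).elim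
  · exact (paqb hG 3 47 2 1 (by norm_num) (by norm_num) (by rw [hn]; norm_num)).elim
  · exact (paqb hG 2 53 3 1 (by norm_num) (by norm_num) (by rw [hn]; norm_num)).elim
  · exact (paqb hG 5 17 2 1 (by norm_num) (by norm_num) (by rw [hn]; norm_num)).elim
  · exact (two_odd hG 213 (by decide) (by rw [hn])).elim
  · exact (paqb hG 7 61 1 1 (by norm_num) (by norm_num) (by rw [hn]; norm_num)).elim
  · exact (paqb hG 2 107 2 1 (by norm_num) (by norm_num) (by rw [hn]; norm_num)).elim
  · exact (@sylow_unique_kill G _ _ _ 13 ⟨by norm_num⟩ hG 1 33 (by norm_num) (by norm_num) (by rw [hn]; norm_num) (by norm_num) (by decide)).elim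
  · exact (two_odd hG 215 (by decide) (by rw [hn])).elim
  · exact (paqb hG 431 2 1 0 (by norm_num) (by norm_num) (by rw [hn]; norm_num)).elim
  · exact (paqb hG 2 3 4 3 (by norm_num) (by norm_num) (by rw [hn]; norm_num)).elim
  · exact (paqb hG 433 2 1 0 (by norm_num) (by norm_num) (by rw [hn]; norm_num)).elim
  · exact (two_odd hG 217 (by decide) (by rw [hn])).elim
  · exact (@sylow_unique_kill G _ _ _ 29 ⟨by norm_num⟩ hG 1 15 (by norm_num) (by norm_num) (by rw [hn]; norm_num) (by norm_num) (by decide)).elim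
  · exact (paqb hG 2 109 2 1 (by norm_num) (by norm_num) (by rw [hn]; norm_num)).elim
  · exact (paqb hG 19 23 1 1 (by norm_num) (by norm_num) (by rw [hn]; norm_num)).elim
  · exact (two_odd hG 219 (by decide) (by rw [hn])).elim
  · exact (paqb hG 439 2 1 0 (by norm_num) (by norm_num) (by rw [hn]; norm_num)).elim
  · exact (@sylow_unique_kill G _ _ _ 11 ⟨by norm_num⟩ hG 1 40 (by norm_num) (by norm_num) (by rw [hn]; norm_num) (by norm_num) (by decide)).elim
  · exact (paqb hG 3 7 2 2 (by norm_num) (by norm_num) (by rw [hn]; norm_num)).elim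
  · exact (two_odd hG 221 (by decide) (by rw [hn])).elim
  · exact (paqb hG 443 2 1 0 (by norm_num) (by norm_num) (by rw [hn]; norm_num)).elim
  · exact (@sylow_unique_kill G _ _ _ 37 ⟨by norm_num⟩ hG 1 12 (by norm_num) (by norm_num) (by rw [hn]; norm_num) (by norm_num) (by decide)).elim
  · exact (paqb hG 5 89 1 1 (by norm_num) (by norm_num) (by rw [hn]; norm_num)).elim
  · exact (paqb hG 2 223 1 1 (by norm_num) (by norm_num) (by rw [hn]; norm_num)).elim
  · exact (paqb hG 3 149 1 1 (by norm_num) (by norm_num) (by rw [hn]; norm_num)).elim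
  · exact (paqb hG 2 7 6 1 (by norm_num) (by norm_num) (by rw [hn]; norm_num)).elim
  · exact (paqb hG 449 2 1 0 (by norm_num) (by norm_num) (by rw [hn]; norm_num)).elim
  · exact (two_odd hG 225 (by decide) (by rw [hn])).elim
  · exact (paqb hG 11 41 1 1 (by norm_num) (by norm_num) (by rw [hn]; norm_num)).elim
  · exact (paqb hG 2 113 2 1 (by norm_num) (by norm_num) (by rw [hn]; norm_num)).elim
  · exact (paqb hG 3 151 1 1 (by norm_num) (by norm_num) (by rw [hn]; norm_num)).elim
  · exact (paqb hG 2 227 1 1 (by norm_num) (by norm_num) (by rw [hn]; norm_num)).elim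
  · exact (@sylow_unique_kill G _ _ _ 13 ⟨by norm_num⟩ hG 1 35 (by norm_num) (by norm_num) (by rw [hn]; norm_num) (by norm_num) (by decide)).elim
  · exact (@sylow_unique_kill G _ _ _ 19 ⟨by norm_num⟩ hG 1 24 (by norm_num) (by norm_num) (by rw [hn]; norm_num) (by norm_num) (by decide)).elim
  · exact (paqb hG 457 2 1 0 (by norm_num) (by norm_num) (by rw [hn]; norm_num)).elim
  · exact (paqb hG 2 229 1 1 (by norm_num) (by norm_num) (by rw [hn]; norm_num)).elim
  · exact (paqb hG 3 17 3 1 (by norm_num) (by norm_num) (by rw [hn]; norm_num)).elim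
  · exact (@sylow_unique_kill G _ _ _ 23 ⟨by norm_num⟩ hG 1 20 (by norm_num) (by norm_num) (by rw [hn]; norm_num) (by norm_num) (by decide)).elim
  · exact (paqb hG 461 2 1 0 (by norm_num) (by norm_num) (by rw [hn]; norm_num)).elim
  · exact (two_odd hG 231 (by decide) (by rw [hn])).elim
  · exact (paqb hG 463 2 1 0 (by norm_num) (by norm_num) (by rw [hn]; norm_num)).elim
  · exact (paqb hG 2 29 4 1 (by norm_num) (by norm_num) (by rw [hn]; norm_num)).elim
  · exact (@sylow_unique_kill G _ _ _ 31 ⟨by norm_num⟩ hG 1 15 (by norm_num) (by norm_num) (by rw [hn]; norm_num) (by norm_num) (by decide)).elim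
  · exact (paqb hG 2 233 1 1 (by norm_num) (by norm_num) (by rw [hn]; norm_num)).elim
  · exact (paqb hG 467 2 1 0 (by norm_num) (by norm_num) (by rw [hn]; norm_num)).elim
  · exact (@sylow_unique_kill G _ _ _ 13 ⟨by norm_num⟩ hG 1 36 (by norm_num) (by norm_num) (by rw [hn]; norm_num) (by norm_num) (by decide)).elim
  · exact (paqb hG 7 67 1 1 (by norm_num) (by norm_num) (by rw [hn]; norm_num)).elim
  · exact (two_odd hG 235 (by decide) (by rw [hn])).elim
  · exact (paqb hG 3 157 1 1 (by norm_num) (by norm_num) (by rw [hn]; norm_num)).elim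
  · exact (paqb hG 2 59 3 1 (by norm_num) (by norm_num) (by rw [hn]; norm_num)).elim
  · exact (paqb hG 11 43 1 1 (by norm_num) (by norm_num) (by rw [hn]; norm_num)).elim
  · exact (two_odd hG 237 (by decide) (by rw [hn])).elim
  · exact (paqb hG 5 19 2 1 (by norm_num) (by norm_num) (by rw [hn]; norm_num)).elim
  · exact (@sylow_unique_kill G _ _ _ 17 ⟨by norm_num⟩ hG 1 28 (by norm_num) (by norm_num) (by rw [hn]; norm_num) (by norm_num) (by decide)).elim
  · exact (paqb hG 3 53 2 1 (by norm_num) (by norm_num) (by rw [hn]; norm_num)).elim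
  · exact (paqb hG 2 239 1 1 (by norm_num) (by norm_num) (by rw [hn]; norm_num)).elim
  · exact (paqb hG 479 2 1 0 (by norm_num) (by norm_num) (by rw [hn]; norm_num)).elim
  · exact (ne_480 hG hn).elim
  · exact (paqb hG 13 37 1 1 (by norm_num) (by norm_num) (by rw [hn]; norm_num)).elim
  · exact (paqb hG 2 241 1 1 (by norm_num) (by norm_num) (by rw [hn]; norm_num)).elim
  · exact (@sylow_unique_kill G _ _ _ 23 ⟨by norm_num⟩ hG 1 21 (by norm_num) (by norm_num) (by rw [hn]; norm_num) (by norm_num) (by decide)).elim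
  · exact (paqb hG 2 11 2 2 (by norm_num) (by norm_num) (by rw [hn]; norm_num)).elim
  · exact (paqb hG 5 97 1 1 (by norm_num) (by norm_num) (by rw [hn]; norm_num)).elim
  · exact (paqb hG 2 3 1 5 (by norm_num) (by norm_num) (by rw [hn]; norm_num)).elim
  · exact (paqb hG 487 2 1 0 (by norm_num) (by norm_num) (by rw [hn]; norm_num)).elim
  · exact (paqb hG 2 61 3 1 (by norm_num) (by norm_num) (by rw [hn]; norm_num)).elim
  · exact (paqb hG 3 163 1 1 (by norm_num) (by norm_num) (by rw [hn]; norm_num)).elim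
  · exact (two_odd hG 245 (by decide) (by rw [hn])).elim
  · exact (paqb hG 491 2 1 0 (by norm_num) (by norm_num) (by rw [hn]; norm_num)).elim
  · exact (@sylow_unique_kill G _ _ _ 41 ⟨by norm_num⟩ hG 1 12 (by norm_num) (by norm_num) (by rw [hn]; norm_num) (by norm_num) (by decide)).elim
  · exact (paqb hG 17 29 1 1 (by norm_num) (by norm_num) (by rw [hn]; norm_num)).elim
  · exact (two_odd hG 247 (by decide) (by rw [hn])).elim
  · exact (@sylow_kill G _ _ _ 11 ⟨by norm_num⟩ hG 1 45 (by norm_num) (by norm_num) (by rw [hn]; norm_num) (by norm_num) (by decide)).elim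
  · exact (paqb hG 2 31 4 1 (by norm_num) (by norm_num) (by rw [hn]; norm_num)).elim
  · exact (paqb hG 7 71 1 1 (by norm_num) (by norm_num) (by rw [hn]; norm_num)).elim
  · exact (two_odd hG 249 (by decide) (by rw [hn])).elim
  · exact (paqb hG 499 2 1 0 (by norm_num) (by norm_num) (by rw [hn]; norm_num)).elim
  · exact (paqb hG 2 5 2 3 (by norm_num) (by norm_num) (by rw [hn]; norm_num)).elim
  · exact (paqb hG 3 167 1 1 (by norm_num) (by norm_num) (by rw [hn]; norm_num)).elim
  · exact (paqb hG 2 251 1 1 (by norm_num) (by norm_num) (by rw [hn]; norm_num)).elim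
  · exact (paqb hG 503 2 1 0 (by norm_num) (by norm_num) (by rw [hn]; norm_num)).elim
  · simp
  · exact (paqb hG 5 101 1 1 (by norm_num) (by norm_num) (by rw [hn]; norm_num)).elim
  · exact (two_odd hG 253 (by decide) (by rw [hn])).elim
  · exact (paqb hG 3 13 1 2 (by norm_num) (by norm_num) (by rw [hn]; norm_num)).elim
  · exact (paqb hG 2 127 2 1 (by norm_num) (by norm_num) (by rw [hn]; norm_num)).elim
  · exact (paqb hG 509 2 1 0 (by norm_num) (by norm_num) (by rw [hn]; norm_num)).elim
  · exact (two_odd hG 255 (by decide) (by rw [hn])).elim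
  · exact (paqb hG 7 73 1 1 (by norm_num) (by norm_num) (by rw [hn]; norm_num)).elim
  · exact (paqb hG 2 3 9 0 (by norm_num) (by norm_num) (by rw [hn]; norm_num)).elim
  · exact (paqb hG 3 19 3 1 (by norm_num) (by norm_num) (by rw [hn]; norm_num)).elim
  · exact (paqb hG 2 257 1 1 (by norm_num) (by norm_num) (by rw [hn]; norm_num)).elim
  · exact (paqb hG 5 103 1 1 (by norm_num) (by norm_num) (by rw [hn]; norm_num)).elim
  · exact (@sylow_unique_kill G _ _ _ 43 ⟨by norm_num⟩ hG 1 12 (by norm_num) (by norm_num) (by rw [hn]; norm_num) (by norm_num) (by decide)).elim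
  · exact (paqb hG 11 47 1 1 (by norm_num) (by norm_num) (by rw [hn]; norm_num)).elim
  · exact (two_odd hG 259 (by decide) (by rw [hn])).elim
  · exact (paqb hG 3 173 1 1 (by norm_num) (by norm_num) (by rw [hn]; norm_num)).elim
  · exact (@sylow_kill G _ _ _ 13 ⟨by norm_num⟩ hG 1 40 (by norm_num) (by norm_num) (by rw [hn]; norm_num) (by norm_num) (by decide)).elim
  · exact (paqb hG 521 2 1 0 (by norm_num) (by norm_num) (by rw [hn]; norm_num)).elim
  · exact (two_odd hG 261 (by decide) (by rw [hn])).elim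
  · exact (paqb hG 523 2 1 0 (by norm_num) (by norm_num) (by rw [hn]; norm_num)).elim
  · exact (paqb hG 2 131 2 1 (by norm_num) (by norm_num) (by rw [hn]; norm_num)).elim
  · exact (@sylow_kill G _ _ _ 7 ⟨by norm_num⟩ hG 1 75 (by norm_num) (by norm_num) (by rw [hn]; norm_num) (by norm_num) (by decide)).elim
  · exact (paqb hG 2 263 1 1 (by norm_num) (by norm_num) (by rw [hn]; norm_num)).elim
  · exact (paqb hG 17 31 1 1 (by norm_num) (by norm_num) (by rw [hn]; norm_num)).elim
  · exact (ne_528 hG hn).elim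
  · exact (paqb hG 23 2 2 0 (by norm_num) (by norm_num) (by rw [hn]; norm_num)).elim
  · exact (two_odd hG 265 (by decide) (by rw [hn])).elim
  · exact (paqb hG 3 59 2 1 (by norm_num) (by norm_num) (by rw [hn]; norm_num)).elim
  · exact (@sylow_unique_kill G _ _ _ 19 ⟨by norm_num⟩ hG 1 28 (by norm_num) (by norm_num) (by rw [hn]; norm_num) (by norm_num) (by decide)).elim
  · exact (paqb hG 13 41 1 1 (by norm_num) (by norm_num) (by rw [hn]; norm_num)).elim
  · exact (two_odd hG 267 (by decide) (by rw [hn])).elim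
  · exact (paqb hG 5 107 1 1 (by norm_num) (by norm_num) (by rw [hn]; norm_num)).elim
  · exact (paqb hG 2 67 3 1 (by norm_num) (by norm_num) (by rw [hn]; norm_num)).elim
  · exact (paqb hG 3 179 1 1 (by norm_num) (by norm_num) (by rw [hn]; norm_num)).elim
  · exact (paqb hG 2 269 1 1 (by norm_num) (by norm_num) (by rw [hn]; norm_num)).elim
  · exact (paqb hG 7 11 2 1 (by norm_num) (by norm_num) (by rw [hn]; norm_num)).elim
  · exact (@sylow_kill G _ _ _ 5 ⟨by norm_num⟩ hG 1 108 (by norm_num) (by norm_num) (by rw [hn]; norm_num) (by norm_num) (by decide)).elim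
  · exact (paqb hG 541 2 1 0 (by norm_num) (by norm_num) (by rw [hn]; norm_num)).elim
  · exact (paqb hG 2 271 1 1 (by norm_num) (by norm_num) (by rw [hn]; norm_num)).elim
  · exact (paqb hG 3 181 1 1 (by norm_num) (by norm_num) (by rw [hn]; norm_num)).elim
  · exact (paqb hG 2 17 5 1 (by norm_num) (by norm_num) (by rw [hn]; norm_num)).elim
  · exact (paqb hG 5 109 1 1 (by norm_num) (by norm_num) (by rw [hn]; norm_num)).elim
  · exact (two_odd hG 273 (by decide) (by rw [hn])).elim
  · exact (paqb hG 547 2 1 0 (by norm_num) (by norm_num) (by rw [hn]; norm_num)).elim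
  · exact (paqb hG 2 137 2 1 (by norm_num) (by norm_num) (by rw [hn]; norm_num)).elim
  · exact (paqb hG 3 61 2 1 (by norm_num) (by norm_num) (by rw [hn]; norm_num)).elim
  · exact (two_odd hG 275 (by decide) (by rw [hn])).elim
  · exact (paqb hG 19 29 1 1 (by norm_num) (by norm_num) (by rw [hn]; norm_num)).elim
  · exact (@sylow_kill G _ _ _ 23 ⟨by norm_num⟩ hG 1 24 (by norm_num) (by norm_num) (by rw [hn]; norm_num) (by norm_num) (by decide)).elim
  · exact (paqb hG 7 79 1 1 (by norm_num) (by norm_num) (by rw [hn]; norm_num)).elim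
  · exact (paqb hG 2 277 1 1 (by norm_num) (by norm_num) (by rw [hn]; norm_num)).elim
  · exact (@sylow_unique_kill G _ _ _ 37 ⟨by norm_num⟩ hG 1 15 (by norm_num) (by norm_num) (by rw [hn]; norm_num) (by norm_num) (by decide)).elim
  · exact (paqb hG 2 139 2 1 (by norm_num) (by norm_num) (by rw [hn]; norm_num)).elim
  · exact (paqb hG 557 2 1 0 (by norm_num) (by norm_num) (by rw [hn]; norm_num)).elim
  · exact (two_odd hG 279 (by decide) (by rw [hn])).elim
  · exact (paqb hG 13 43 1 1 (by norm_num) (by norm_num) (by rw [hn]; norm_num)).elim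
  · exact (ne_560 hG hn).elim
  · exact (@sylow_unique_kill G _ _ _ 17 ⟨by norm_num⟩ hG 1 33 (by norm_num) (by norm_num) (by rw [hn]; norm_num) (by norm_num) (by decide)).elim
  · exact (paqb hG 2 281 1 1 (by norm_num) (by norm_num) (by rw [hn]; norm_num)).elim
  · exact (paqb hG 563 2 1 0 (by norm_num) (by norm_num) (by rw [hn]; norm_num)).elim
  · exact (@sylow_unique_kill G _ _ _ 47 ⟨by norm_num⟩ hG 1 12 (by norm_num) (by norm_num) (by rw [hn]; norm_num) (by norm_num) (by decide)).elim
  · exact (paqb hG 5 113 1 1 (by norm_num) (by norm_num) (by rw [hn]; norm_num)).elim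
  · exact (paqb hG 2 283 1 1 (by norm_num) (by norm_num) (by rw [hn]; norm_num)).elim
  · exact (paqb hG 3 7 4 1 (by norm_num) (by norm_num) (by rw [hn]; norm_num)).elim
  · exact (paqb hG 2 71 3 1 (by norm_num) (by norm_num) (by rw [hn]; norm_num)).elim
  · exact (paqb hG 569 2 1 0 (by norm_num) (by norm_num) (by rw [hn]; norm_num)).elim
  · exact (two_odd hG 285 (by decide) (by rw [hn])).elim
  · exact (paqb hG 571 2 1 0 (by norm_num) (by norm_num) (by rw [hn]; norm_num)).elim
  · exact (@sylow_unique_kill G _ _ _ 13 ⟨by norm_num⟩ hG 1 44 (by norm_num) (by norm_num) (by rw [hn]; norm_num) (by norm_num) (by decide)).elim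
  · exact (paqb hG 3 191 1 1 (by norm_num) (by norm_num) (by rw [hn]; norm_num)).elim
  · exact (two_odd hG 287 (by decide) (by rw [hn])).elim
  · exact (paqb hG 5 23 2 1 (by norm_num) (by norm_num) (by rw [hn]; norm_num)).elim
  · exact (paqb hG 2 3 6 2 (by norm_num) (by norm_num) (by rw [hn]; norm_num)).elim
  · exact (paqb hG 577 2 1 0 (by norm_num) (by norm_num) (by rw [hn]; norm_num)).elim
  · exact (paqb hG 2 17 1 2 (by norm_num) (by norm_num) (by rw [hn]; norm_num)).elim
  · exact (paqb hG 3 193 1 1 (by norm_num) (by norm_num) (by rw [hn]; norm_num)).elim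
  · exact (@sylow_unique_kill G _ _ _ 29 ⟨by norm_num⟩ hG 1 20 (by norm_num) (by norm_num) (by rw [hn]; norm_num) (by norm_num) (by decide)).elim
  · exact (paqb hG 7 83 1 1 (by norm_num) (by norm_num) (by rw [hn]; norm_num)).elim
  · exact (two_odd hG 291 (by decide) (by rw [hn])).elim
  · exact (paqb hG 11 53 1 1 (by norm_num) (by norm_num) (by rw [hn]; norm_num)).elim
  · exact (paqb hG 2 73 3 1 (by norm_num) (by norm_num) (by rw [hn]; norm_num)).elim
  · exact (@sylow_unique_kill G _ _ _ 13 ⟨by norm_num⟩ hG 1 45 (by norm_num) (by norm_num) (by rw [hn]; norm_num) (by norm_num) (by decide)).elim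
  · exact (paqb hG 2 293 1 1 (by norm_num) (by norm_num) (by rw [hn]; norm_num)).elim
  · exact (paqb hG 587 2 1 0 (by norm_num) (by norm_num) (by rw [hn]; norm_num)).elim
  · exact (@sylow_unique_kill G _ _ _ 7 ⟨by norm_num⟩ hG 2 12 (by norm_num) (by norm_num) (by rw [hn]; norm_num) (by norm_num) (by decide)).elim
  · exact (paqb hG 19 31 1 1 (by norm_num) (by norm_num) (by rw [hn]; norm_num)).elim
  · exact (two_odd hG 295 (by decide) (by rw [hn])).elim
  · exact (paqb hG 3 197 1 1 (by norm_num) (by norm_num) (by rw [hn]; norm_num)).elim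
  · exact (paqb hG 2 37 4 1 (by norm_num) (by norm_num) (by rw [hn]; norm_num)).elim
  · exact (paqb hG 593 2 1 0 (by norm_num) (by norm_num) (by rw [hn]; norm_num)).elim
  · exact (two_odd hG 297 (by decide) (by rw [hn])).elim
  · exact (@sylow_unique_kill G _ _ _ 5 ⟨by norm_num⟩ hG 1 119 (by norm_num) (by norm_num) (by rw [hn]; norm_num) (by norm_num) (by decide)).elim
  · exact (paqb hG 2 149 2 1 (by norm_num) (by norm_num) (by rw [hn]; norm_num)).elim
  · exact (paqb hG 3 199 1 1 (by norm_num) (by norm_num) (by rw [hn]; norm_num)).elim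
  · exact (two_odd hG 299 (by decide) (by rw [hn])).elim
  · exact (paqb hG 599 2 1 0 (by norm_num) (by norm_num) (by rw [hn]; norm_num)).elim
  · exact (@sylow_kill G _ _ _ 5 ⟨by norm_num⟩ hG 2 24 (by norm_num) (by norm_num) (by rw [hn]; norm_num) (by norm_num) (by decide)).elim
  · exact (paqb hG 601 2 1 0 (by norm_num) (by norm_num) (by rw [hn]; norm_num)).elim
  · exact (two_odd hG 301 (by decide) (by rw [hn])).elim
  · exact (paqb hG 3 67 2 1 (by norm_num) (by norm_num) (by rw [hn]; norm_num)).elim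
  · exact (paqb hG 2 151 2 1 (by norm_num) (by norm_num) (by rw [hn]; norm_num)).elim
  · exact (paqb hG 5 11 1 2 (by norm_num) (by norm_num) (by rw [hn]; norm_num)).elim
  · exact (two_odd hG 303 (by decide) (by rw [hn])).elim
  · exact (paqb hG 607 2 1 0 (by norm_num) (by norm_num) (by rw [hn]; norm_num)).elim
  · exact (paqb hG 2 19 5 1 (by norm_num) (by norm_num) (by rw [hn]; norm_num)).elim
  · exact (@sylow_unique_kill G _ _ _ 29 ⟨by norm_num⟩ hG 1 21 (by norm_num) (by norm_num) (by rw [hn]; norm_num) (by norm_num) (by decide)).elim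
  · exact (two_odd hG 305 (by decide) (by rw [hn])).elim
  · exact (paqb hG 13 47 1 1 (by norm_num) (by norm_num) (by rw [hn]; norm_num)).elim
  · exact (ne_612 hn).elim
  · exact (paqb hG 613 2 1 0 (by norm_num) (by norm_num) (by rw [hn]; norm_num)).elim
  · exact (paqb hG 2 307 1 1 (by norm_num) (by norm_num) (by rw [hn]; norm_num)).elim
  · exact (@sylow_unique_kill G _ _ _ 41 ⟨by norm_num⟩ hG 1 15 (by norm_num) (by norm_num) (by rw [hn]; norm_num) (by norm_num) (by decide)).elim
  · exact (@sylow_kill G _ _ _ 11 ⟨by norm_num⟩ hG 1 56 (by norm_num) (by norm_num) (by rw [hn]; norm_num) (by norm_num) (by decide)).elim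
  · exact (paqb hG 617 2 1 0 (by norm_num) (by norm_num) (by rw [hn]; norm_num)).elim
  · exact (two_odd hG 309 (by decide) (by rw [hn])).elim
  · exact (paqb hG 619 2 1 0 (by norm_num) (by norm_num) (by rw [hn]; norm_num)).elim
  · exact (@sylow_unique_kill G _ _ _ 31 ⟨by norm_num⟩ hG 1 20 (by norm_num) (by norm_num) (by rw [hn]; norm_num) (by norm_num) (by decide)).elim
  · exact (paqb hG 3 23 3 1 (by norm_num) (by norm_num) (by rw [hn]; norm_num)).elim
  · exact (paqb hG 2 311 1 1 (by norm_num) (by norm_num) (by rw [hn]; norm_num)).elim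
  · exact (paqb hG 7 89 1 1 (by norm_num) (by norm_num) (by rw [hn]; norm_num)).elim
  · exact (@sylow_unique_kill G _ _ _ 13 ⟨by norm_num⟩ hG 1 48 (by norm_num) (by norm_num) (by rw [hn]; norm_num) (by norm_num) (by decide)).elim
  · exact (paqb hG 5 2 4 0 (by norm_num) (by norm_num) (by rw [hn]; norm_num)).elim
  · exact (paqb hG 2 313 1 1 (by norm_num) (by norm_num) (by rw [hn]; norm_num)).elim
  · exact (@sylow_unique_kill G _ _ _ 19 ⟨by norm_num⟩ hG 1 33 (by norm_num) (by norm_num) (by rw [hn]; norm_num) (by norm_num) (by decide)).elim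
  · exact (paqb hG 2 157 2 1 (by norm_num) (by norm_num) (by rw [hn]; norm_num)).elim
  · exact (paqb hG 17 37 1 1 (by norm_num) (by norm_num) (by rw [hn]; norm_num)).elim
  · exact (two_odd hG 315 (by decide) (by rw [hn])).elim
  · exact (paqb hG 631 2 1 0 (by norm_num) (by norm_num) (by rw [hn]; norm_num)).elim
  · exact (paqb hG 2 79 3 1 (by norm_num) (by norm_num) (by rw [hn]; norm_num)).elim
  · exact (paqb hG 3 211 1 1 (by norm_num) (by norm_num) (by rw [hn]; norm_num)).elim
  · exact (paqb hG 2 317 1 1 (by norm_num) (by norm_num) (by rw [hn]; norm_num)).elim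
  · exact (paqb hG 5 127 1 1 (by norm_num) (by norm_num) (by rw [hn]; norm_num)).elim
  · exact (@sylow_unique_kill G _ _ _ 53 ⟨by norm_num⟩ hG 1 12 (by norm_num) (by norm_num) (by rw [hn]; norm_num) (by norm_num) (by decide)).elim
  · exact (paqb hG 7 13 2 1 (by norm_num) (by norm_num) (by rw [hn]; norm_num)).elim
  · exact (two_odd hG 319 (by decide) (by rw [hn])).elim
  · exact (paqb hG 3 71 2 1 (by norm_num) (by norm_num) (by rw [hn]; norm_num)).elim
  · exact (paqb hG 2 5 7 1 (by norm_num) (by norm_num) (by rw [hn]; norm_num)).elim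
  · exact (paqb hG 641 2 1 0 (by norm_num) (by norm_num) (by rw [hn]; norm_num)).elim
  · exact (two_odd hG 321 (by decide) (by rw [hn])).elim
  · exact (paqb hG 643 2 1 0 (by norm_num) (by norm_num) (by rw [hn]; norm_num)).elim
  · exact (@sylow_unique_kill G _ _ _ 23 ⟨by norm_num⟩ hG 1 28 (by norm_num) (by norm_num) (by rw [hn]; norm_num) (by norm_num) (by decide)).elim
  · exact (@sylow_unique_kill G _ _ _ 43 ⟨by norm_num⟩ hG 1 15 (by norm_num) (by norm_num) (by rw [hn]; norm_num) (by norm_num) (by decide)).elim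
  · exact (two_odd hG 323 (by decide) (by rw [hn])).elim
  · exact (paqb hG 647 2 1 0 (by norm_num) (by norm_num) (by rw [hn]; norm_num)).elim
  · exact (paqb hG 2 3 3 4 (by norm_num) (by norm_num) (by rw [hn]; norm_num)).elim
  · exact (paqb hG 11 59 1 1 (by norm_num) (by norm_num) (by rw [hn]; norm_num)).elim
  · exact (two_odd hG 325 (by decide) (by rw [hn])).elim
  · exact (@sylow_unique_kill G _ _ _ 31 ⟨by norm_num⟩ hG 1 21 (by norm_num) (by norm_num) (by rw [hn]; norm_num) (by norm_num) (by decide)).elim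
  · exact (paqb hG 2 163 2 1 (by norm_num) (by norm_num) (by rw [hn]; norm_num)).elim
  · exact (paqb hG 653 2 1 0 (by norm_num) (by norm_num) (by rw [hn]; norm_num)).elim
  · exact (two_odd hG 327 (by decide) (by rw [hn])).elim
  · exact (paqb hG 5 131 1 1 (by norm_num) (by norm_num) (by rw [hn]; norm_num)).elim
  · exact (paqb hG 2 41 4 1 (by norm_num) (by norm_num) (by rw [hn]; norm_num)).elim
  · exact (paqb hG 3 73 2 1 (by norm_num) (by norm_num) (by rw [hn]; norm_num)).elim
  · exact (two_odd hG 329 (by decide) (by rw [hn])).elim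
  · exact (paqb hG 659 2 1 0 (by norm_num) (by norm_num) (by rw [hn]; norm_num)).elim
  · simp
  · exact (paqb hG 661 2 1 0 (by norm_num) (by norm_num) (by rw [hn]; norm_num)).elim
  · exact (paqb hG 2 331 1 1 (by norm_num) (by norm_num) (by rw [hn]; norm_num)).elim
  · exact (@sylow_unique_kill G _ _ _ 17 ⟨by norm_num⟩ hG 1 39 (by norm_num) (by norm_num) (by rw [hn]; norm_num) (by norm_num) (by decide)).elim
  · exact (paqb hG 2 83 3 1 (by norm_num) (by norm_num) (by rw [hn]; norm_num)).elim
  · exact (@sylow_unique_kill G _ _ _ 19 ⟨by norm_num⟩ hG 1 35 (by norm_num) (by norm_num) (by rw [hn]; norm_num) (by norm_num) (by decide)).elim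
  · exact (two_odd hG 333 (by decide) (by rw [hn])).elim
  · exact (paqb hG 23 29 1 1 (by norm_num) (by norm_num) (by rw [hn]; norm_num)).elim
  · exact (paqb hG 2 167 2 1 (by norm_num) (by norm_num) (by rw [hn]; norm_num)).elim
  · exact (paqb hG 3 223 1 1 (by norm_num) (by norm_num) (by rw [hn]; norm_num)).elim
  · exact (two_odd hG 335 (by decide) (by rw [hn])).elim
  · exact (paqb hG 11 61 1 1 (by norm_num) (by norm_num) (by rw [hn]; norm_num)).elim
  · exact (ne_672 hG hn).elim
  · exact (paqb hG 673 2 1 0 (by norm_num) (by norm_num) (by rw [hn]; norm_num)).elim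
  · exact (paqb hG 2 337 1 1 (by norm_num) (by norm_num) (by rw [hn]; norm_num)).elim
  · exact (paqb hG 3 5 3 2 (by norm_num) (by norm_num) (by rw [hn]; norm_num)).elim
  · exact (paqb hG 2 13 2 2 (by norm_num) (by norm_num) (by rw [hn]; norm_num)).elim
  · exact (paqb hG 677 2 1 0 (by norm_num) (by norm_num) (by rw [hn]; norm_num)).elim
  · exact (two_odd hG 339 (by decide) (by rw [hn])).elim
  · exact (paqb hG 7 97 1 1 (by norm_num) (by norm_num) (by rw [hn]; norm_num)).elim
  · exact (@sylow_unique_kill G _ _ _ 17 ⟨by norm_num⟩ hG 1 40 (by norm_num) (by norm_num) (by rw [hn]; norm_num) (by norm_num) (by decide)).elim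
  · exact (paqb hG 3 227 1 1 (by norm_num) (by norm_num) (by rw [hn]; norm_num)).elim
  · exact (two_odd hG 341 (by decide) (by rw [hn])).elim
  · exact (paqb hG 683 2 1 0 (by norm_num) (by norm_num) (by rw [hn]; norm_num)).elim
  · exact (@sylow_unique_kill G _ _ _ 19 ⟨by norm_num⟩ hG 1 36 (by norm_num) (by norm_num) (by rw [hn]; norm_num) (by norm_num) (by decide)).elim
  · exact (paqb hG 5 137 1 1 (by norm_num) (by norm_num) (by rw [hn]; norm_num)).elim
  · exact (paqb hG 2 7 1 3 (by norm_num) (by norm_num) (by rw [hn]; norm_num)).elim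
  · exact (paqb hG 3 229 1 1 (by norm_num) (by norm_num) (by rw [hn]; norm_num)).elim
  · exact (paqb hG 2 43 4 1 (by norm_num) (by norm_num) (by rw [hn]; norm_num)).elim
  · exact (paqb hG 13 53 1 1 (by norm_num) (by norm_num) (by rw [hn]; norm_num)).elim
  · exact (two_odd hG 345 (by decide) (by rw [hn])).elim
  · exact (paqb hG 691 2 1 0 (by norm_num) (by norm_num) (by rw [hn]; norm_num)).elim
  · exact (paqb hG 2 173 2 1 (by norm_num) (by norm_num) (by rw [hn]; norm_num)).elim
  · exact (@sylow_unique_kill G _ _ _ 11 ⟨by norm_num⟩ hG 1 63 (by norm_num) (by norm_num) (by rw [hn]; norm_num) (by norm_num) (by decide)).elim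
  · exact (paqb hG 2 347 1 1 (by norm_num) (by norm_num) (by rw [hn]; norm_num)).elim
  · exact (paqb hG 5 139 1 1 (by norm_num) (by norm_num) (by rw [hn]; norm_num)).elim
  · exact (@sylow_unique_kill G _ _ _ 29 ⟨by norm_num⟩ hG 1 24 (by norm_num) (by norm_num) (by rw [hn]; norm_num) (by norm_num) (by decide)).elim
  · exact (paqb hG 17 41 1 1 (by norm_num) (by norm_num) (by rw [hn]; norm_num)).elim
  · exact (paqb hG 2 349 1 1 (by norm_num) (by norm_num) (by rw [hn]; norm_num)).elim
  · exact (paqb hG 3 233 1 1 (by norm_num) (by norm_num) (by rw [hn]; norm_num)).elim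
  · exact (@sylow_unique_kill G _ _ _ 5 ⟨by norm_num⟩ hG 2 28 (by norm_num) (by norm_num) (by rw [hn]; norm_num) (by norm_num) (by decide)).elim
  · exact (paqb hG 701 2 1 0 (by norm_num) (by norm_num) (by rw [hn]; norm_num)).elim
  · exact (two_odd hG 351 (by decide) (by rw [hn])).elim
  · exact (paqb hG 19 37 1 1 (by norm_num) (by norm_num) (by rw [hn]; norm_num)).elim
  · exact (paqb hG 2 11 6 1 (by norm_num) (by norm_num) (by rw [hn]; norm_num)).elim
  · exact (@sylow_unique_kill G _ _ _ 47 ⟨by norm_num⟩ hG 1 15 (by norm_num) (by norm_num) (by rw [hn]; norm_num) (by norm_num) (by decide)).elim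
  · exact (paqb hG 2 353 1 1 (by norm_num) (by norm_num) (by rw [hn]; norm_num)).elim
  · exact (paqb hG 7 101 1 1 (by norm_num) (by norm_num) (by rw [hn]; norm_num)).elim
  · exact (@sylow_unique_kill G _ _ _ 59 ⟨by norm_num⟩ hG 1 12 (by norm_num) (by norm_num) (by rw [hn]; norm_num) (by norm_num) (by decide)).elim
  · exact (paqb hG 709 2 1 0 (by norm_num) (by norm_num) (by rw [hn]; norm_num)).elim
  · exact (two_odd hG 355 (by decide) (by rw [hn])).elim
  · exact (paqb hG 3 79 2 1 (by norm_num) (by norm_num) (by rw [hn]; norm_num)).elim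
  · exact (paqb hG 2 89 3 1 (by norm_num) (by norm_num) (by rw [hn]; norm_num)).elim
  · exact (paqb hG 23 31 1 1 (by norm_num) (by norm_num) (by rw [hn]; norm_num)).elim
  · exact (two_odd hG 357 (by decide) (by rw [hn])).elim
  · exact (@sylow_unique_kill G _ _ _ 13 ⟨by norm_num⟩ hG 1 55 (by norm_num) (by norm_num) (by rw [hn]; norm_num) (by norm_num) (by decide)).elim
  · exact (paqb hG 2 179 2 1 (by norm_num) (by norm_num) (by rw [hn]; norm_num)).elim
  · exact (paqb hG 3 239 1 1 (by norm_num) (by norm_num) (by rw [hn]; norm_num)).elim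
  · exact (paqb hG 2 359 1 1 (by norm_num) (by norm_num) (by rw [hn]; norm_num)).elim
  · exact (paqb hG 719 2 1 0 (by norm_num) (by norm_num) (by rw [hn]; norm_num)).elim
  · exact (ne_720 hG hn).elim
  · exact (paqb hG 7 103 1 1 (by norm_num) (by norm_num) (by rw [hn]; norm_num)).elim
  · exact (paqb hG 2 19 1 2 (by norm_num) (by norm_num) (by rw [hn]; norm_num)).elim
  · exact (paqb hG 3 241 1 1 (by norm_num) (by norm_num) (by rw [hn]; norm_num)).elim
  · exact (paqb hG 2 181 2 1 (by norm_num) (by norm_num) (by rw [hn]; norm_num)).elim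
  · exact (paqb hG 5 29 2 1 (by norm_num) (by norm_num) (by rw [hn]; norm_num)).elim
  · exact (two_odd hG 363 (by decide) (by rw [hn])).elim
  · exact (paqb hG 727 2 1 0 (by norm_num) (by norm_num) (by rw [hn]; norm_num)).elim
  · exact (@sylow_kill G _ _ _ 7 ⟨by norm_num⟩ hG 1 104 (by norm_num) (by norm_num) (by rw [hn]; norm_num) (by norm_num) (by decide)).elim
  · exact (paqb hG 3 2 6 0 (by norm_num) (by norm_num) (by rw [hn]; norm_num)).elim
  · exact (two_odd hG 365 (by decide) (by rw [hn])).elim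
  · exact (paqb hG 17 43 1 1 (by norm_num) (by norm_num) (by rw [hn]; norm_num)).elim
  · exact (@sylow_unique_kill G _ _ _ 61 ⟨by norm_num⟩ hG 1 12 (by norm_num) (by norm_num) (by rw [hn]; norm_num) (by norm_num) (by decide)).elim
  · exact (paqb hG 733 2 1 0 (by norm_num) (by norm_num) (by rw [hn]; norm_num)).elim
  · exact (paqb hG 2 367 1 1 (by norm_num) (by norm_num) (by rw [hn]; norm_num)).elim
  · exact (@sylow_kill G _ _ _ 7 ⟨by norm_num⟩ hG 2 15 (by norm_num) (by norm_num) (by rw [hn]; norm_num) (by norm_num) (by decide)).elim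
  · exact (paqb hG 2 23 5 1 (by norm_num) (by norm_num) (by rw [hn]; norm_num)).elim
  · exact (paqb hG 11 67 1 1 (by norm_num) (by norm_num) (by rw [hn]; norm_num)).elim
  · exact (two_odd hG 369 (by decide) (by rw [hn])).elim
  · exact (paqb hG 739 2 1 0 (by norm_num) (by norm_num) (by rw [hn]; norm_num)).elim
  · exact (@sylow_unique_kill G _ _ _ 37 ⟨by norm_num⟩ hG 1 20 (by norm_num) (by norm_num) (by rw [hn]; norm_num) (by norm_num) (by decide)).elim
  · exact (@sylow_unique_kill G _ _ _ 13 ⟨by norm_num⟩ hG 1 57 (by norm_num) (by norm_num) (by rw [hn]; norm_num) (by norm_num) (by decide)).elim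
  · exact (two_odd hG 371 (by decide) (by rw [hn])).elim
  · exact (paqb hG 743 2 1 0 (by norm_num) (by norm_num) (by rw [hn]; norm_num)).elim
  · exact (@sylow_unique_kill G _ _ _ 31 ⟨by norm_num⟩ hG 1 24 (by norm_num) (by norm_num) (by rw [hn]; norm_num) (by norm_num) (by decide)).elim
  · exact (paqb hG 5 149 1 1 (by norm_num) (by norm_num) (by rw [hn]; norm_num)).elim
  · exact (paqb hG 2 373 1 1 (by norm_num) (by norm_num) (by rw [hn]; norm_num)).elim
  · exact (paqb hG 3 83 2 1 (by norm_num) (by norm_num) (by rw [hn]; norm_num)).elim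
  · exact (@sylow_unique_kill G _ _ _ 17 ⟨by norm_num⟩ hG 1 44 (by norm_num) (by norm_num) (by rw [hn]; norm_num) (by norm_num) (by decide)).elim
  · exact (paqb hG 7 107 1 1 (by norm_num) (by norm_num) (by rw [hn]; norm_num)).elim
  · exact (two_odd hG 375 (by decide) (by rw [hn])).elim

end Cfsg.Agent.Lib.Helper9.SmallOrd
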