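import Mathlib
import Cfsg.Agent.Lib.Helper9.SmallOrd20
import Cfsg.Agent.Lib.Helper9.SmallOrd6

set_option autoImplicit false
set_option maxRecDepth 100000

namespace Cfsg.Agent.Lib.Helper9.SmallOrd

variable {G : Type*} [Group G] [Finite G] [IsSimpleGroup G]

theorem small_750_1092 (hG : ¬ IsMulCommutative G) (n : ℕ) (hn : Nat.card G = n) (h1 : 750 < n) (h2 : n ≤ 1092) :
    n = 60 ∨ n = 168 ∨ n = 360 ∨ n = 504 ∨ n = 660 ∨ n = 1092 := by
  interval_cases n
  · exact (paqb hG 751 2 1 0 (by norm_num) (by norm_num) (by rw [hn]; norm_num)).elim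
  · exact (paqb hG 2 47 4 1 (by norm_num) (by norm_num) (by rw [hn]; norm_num)).elim
  · exact (paqb hG 3 251 1 1 (by norm_num) (by norm_num) (by rw [hn]; norm_num)).elim
  · exact (two_odd hG 377 (by decide) (by rw [hn])).elim
  · exact (paqb hG 5 151 1 1 (by norm_num) (by norm_num) (by rw [hn]; norm_num)).elim
  · exact (ne_756 hG hn).elim
  · exact (paqb hG 757 2 1 0 (by norm_num) (by norm_num) (by rw [hn]; norm_num)).elim
  · exact (paqb hG 2 379 1 1 (by norm_num) (by norm_num) (by rw [hn]; norm_num)).elim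
  · exact (@sylow_unique_kill G _ _ _ 23 ⟨by norm_num⟩ hG 1 33 (by norm_num) (by norm_num) (by rw [hn]; norm_num) (by norm_num) (by decide)).elim
  · exact (ne_760 hG hn).elim
  · exact (paqb hG 761 2 1 0 (by norm_num) (by norm_num) (by rw [hn]; norm_num)).elim
  · exact (two_odd hG 381 (by decide) (by rw [hn])).elim
  · exact (paqb hG 7 109 1 1 (by norm_num) (by norm_num) (by rw [hn]; norm_num)).elim
  · exact (paqb hG 2 191 2 1 (by norm_num) (by norm_num) (by rw [hn]; norm_num)).elim
  · exact (@sylow_unique_kill G _ _ _ 17 ⟨by norm_num⟩ hG 1 45 (by norm_num) (by norm_num) (by rw [hn]; norm_num) (by norm_num) (by decide)).elim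
  · exact (paqb hG 2 383 1 1 (by norm_num) (by norm_num) (by rw [hn]; norm_num)).elim
  · exact (paqb hG 13 59 1 1 (by norm_num) (by norm_num) (by rw [hn]; norm_num)).elim
  · exact (paqb hG 2 3 8 1 (by norm_num) (by norm_num) (by rw [hn]; norm_num)).elim
  · exact (paqb hG 769 2 1 0 (by norm_num) (by norm_num) (by rw [hn]; norm_num)).elim
  · exact (two_odd hG 385 (by decide) (by rw [hn])).elim
  · exact (paqb hG 3 257 1 1 (by norm_num) (by norm_num) (by rw [hn]; norm_num)).elim
  · exact (paqb hG 2 193 2 1 (by norm_num) (by norm_num) (by rw [hn]; norm_num)).elim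
  · exact (paqb hG 773 2 1 0 (by norm_num) (by norm_num) (by rw [hn]; norm_num)).elim
  · exact (two_odd hG 387 (by decide) (by rw [hn])).elim
  · exact (paqb hG 5 31 2 1 (by norm_num) (by norm_num) (by rw [hn]; norm_num)).elim
  · exact (paqb hG 2 97 3 1 (by norm_num) (by norm_num) (by rw [hn]; norm_num)).elim
  · exact (@sylow_unique_kill G _ _ _ 37 ⟨by norm_num⟩ hG 1 21 (by norm_num) (by norm_num) (by rw [hn]; norm_num) (by norm_num) (by decide)).elim
  · exact (paqb hG 2 389 1 1 (by norm_num) (by norm_num) (by rw [hn]; norm_num)).elim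
  · exact (paqb hG 19 41 1 1 (by norm_num) (by norm_num) (by rw [hn]; norm_num)).elim
  · exact (@sylow_unique_kill G _ _ _ 13 ⟨by norm_num⟩ hG 1 60 (by norm_num) (by norm_num) (by rw [hn]; norm_num) (by norm_num) (by decide)).elim
  · exact (paqb hG 11 71 1 1 (by norm_num) (by norm_num) (by rw [hn]; norm_num)).elim
  · exact (two_odd hG 391 (by decide) (by rw [hn])).elim
  · exact (paqb hG 3 29 3 1 (by norm_num) (by norm_num) (by rw [hn]; norm_num)).elim
  · exact (paqb hG 2 7 4 2 (by norm_num) (by norm_num) (by rw [hn]; norm_num)).elim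
  · exact (paqb hG 5 157 1 1 (by norm_num) (by norm_num) (by rw [hn]; norm_num)).elim
  · exact (two_odd hG 393 (by decide) (by rw [hn])).elim
  · exact (paqb hG 787 2 1 0 (by norm_num) (by norm_num) (by rw [hn]; norm_num)).elim
  · exact (paqb hG 2 197 2 1 (by norm_num) (by norm_num) (by rw [hn]; norm_num)).elim
  · exact (paqb hG 3 263 1 1 (by norm_num) (by norm_num) (by rw [hn]; norm_num)).elim
  · exact (two_odd hG 395 (by decide) (by rw [hn])).elim
  · exact (paqb hG 7 113 1 1 (by norm_num) (by norm_num) (by rw [hn]; norm_num)).elim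
  · exact (ne_792 hG hn).elim
  · exact (paqb hG 13 61 1 1 (by norm_num) (by norm_num) (by rw [hn]; norm_num)).elim
  · exact (paqb hG 2 397 1 1 (by norm_num) (by norm_num) (by rw [hn]; norm_num)).elim
  · exact (@sylow_unique_kill G _ _ _ 53 ⟨by norm_num⟩ hG 1 15 (by norm_num) (by norm_num) (by rw [hn]; norm_num) (by norm_num) (by decide)).elim
  · exact (paqb hG 2 199 2 1 (by norm_num) (by norm_num) (by rw [hn]; norm_num)).elim
  · exact (paqb hG 797 2 1 0 (by norm_num) (by norm_num) (by rw [hn]; norm_num)).elim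
  · exact (two_odd hG 399 (by decide) (by rw [hn])).elim
  · exact (paqb hG 17 47 1 1 (by norm_num) (by norm_num) (by rw [hn]; norm_num)).elim
  · exact (paqb hG 2 5 5 2 (by norm_num) (by norm_num) (by rw [hn]; norm_num)).elim
  · exact (paqb hG 3 89 2 1 (by norm_num) (by norm_num) (by rw [hn]; norm_num)).elim
  · exact (paqb hG 2 401 1 1 (by norm_num) (by norm_num) (by rw [hn]; norm_num)).elim
  · exact (paqb hG 11 73 1 1 (by norm_num) (by norm_num) (by rw [hn]; norm_num)).elim
  · exact (@sylow_unique_kill G _ _ _ 67 ⟨by norm_num⟩ hG 1 12 (by norm_num) (by norm_num) (by rw [hn]; norm_num) (by norm_num) (by decide)).elim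
  · exact (@sylow_unique_kill G _ _ _ 23 ⟨by norm_num⟩ hG 1 35 (by norm_num) (by norm_num) (by rw [hn]; norm_num) (by norm_num) (by decide)).elim
  · exact (two_odd hG 403 (by decide) (by rw [hn])).elim
  · exact (paqb hG 3 269 1 1 (by norm_num) (by norm_num) (by rw [hn]; norm_num)).elim
  · exact (paqb hG 2 101 3 1 (by norm_num) (by norm_num) (by rw [hn]; norm_num)).elim
  · exact (paqb hG 809 2 1 0 (by norm_num) (by norm_num) (by rw [hn]; norm_num)).elim
  · exact (two_odd hG 405 (by decide) (by rw [hn])).elim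
  · exact (paqb hG 811 2 1 0 (by norm_num) (by norm_num) (by rw [hn]; norm_num)).elim
  · exact (@sylow_unique_kill G _ _ _ 29 ⟨by norm_num⟩ hG 1 28 (by norm_num) (by norm_num) (by rw [hn]; norm_num) (by norm_num) (by decide)).elim
  · exact (paqb hG 3 271 1 1 (by norm_num) (by norm_num) (by rw [hn]; norm_num)).elim
  · exact (two_odd hG 407 (by decide) (by rw [hn])).elim
  · exact (paqb hG 5 163 1 1 (by norm_num) (by norm_num) (by rw [hn]; norm_num)).elim
  · exact (@sylow_unique_kill G _ _ _ 17 ⟨by norm_num⟩ hG 1 48 (by norm_num) (by norm_num) (by rw [hn]; norm_num) (by norm_num) (by decide)).elim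
  · exact (paqb hG 19 43 1 1 (by norm_num) (by norm_num) (by rw [hn]; norm_num)).elim
  · exact (paqb hG 2 409 1 1 (by norm_num) (by norm_num) (by rw [hn]; norm_num)).elim
  · exact (@sylow_unique_kill G _ _ _ 13 ⟨by norm_num⟩ hG 1 63 (by norm_num) (by norm_num) (by rw [hn]; norm_num) (by norm_num) (by decide)).elim
  · exact (@sylow_unique_kill G _ _ _ 41 ⟨by norm_num⟩ hG 1 20 (by norm_num) (by norm_num) (by rw [hn]; norm_num) (by norm_num) (by decide)).elim
  · exact (paqb hG 821 2 1 0 (by norm_num) (by norm_num) (by rw [hn]; norm_num)).elim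
  · exact (two_odd hG 411 (by decide) (by rw [hn])).elim
  · exact (paqb hG 823 2 1 0 (by norm_num) (by norm_num) (by rw [hn]; norm_num)).elim
  · exact (paqb hG 2 103 3 1 (by norm_num) (by norm_num) (by rw [hn]; norm_num)).elim
  · exact (@sylow_unique_kill G _ _ _ 11 ⟨by norm_num⟩ hG 1 75 (by norm_num) (by norm_num) (by rw [hn]; norm_num) (by norm_num) (by decide)).elim
  · exact (two_odd hG 413 (by decide) (by rw [hn])).elim
  · exact (paqb hG 827 2 1 0 (by norm_num) (by norm_num) (by rw [hn]; norm_num)).elim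
  · exact (@sylow_unique_kill G _ _ _ 23 ⟨by norm_num⟩ hG 1 36 (by norm_num) (by norm_num) (by rw [hn]; norm_num) (by norm_num) (by decide)).elim
  · exact (paqb hG 829 2 1 0 (by norm_num) (by norm_num) (by rw [hn]; norm_num)).elim
  · exact (two_odd hG 415 (by decide) (by rw [hn])).elim
  · exact (paqb hG 3 277 1 1 (by norm_num) (by norm_num) (by rw [hn]; norm_num)).elim
  · exact (paqb hG 2 13 6 1 (by norm_num) (by norm_num) (by rw [hn]; norm_num)).elim
  · exact (paqb hG 7 17 2 1 (by norm_num) (by norm_num) (by rw [hn]; norm_num)).elim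
  · exact (two_odd hG 417 (by decide) (by rw [hn])).elim
  · exact (paqb hG 5 167 1 1 (by norm_num) (by norm_num) (by rw [hn]; norm_num)).elim
  · exact (@sylow_unique_kill G _ _ _ 19 ⟨by norm_num⟩ hG 1 44 (by norm_num) (by norm_num) (by rw [hn]; norm_num) (by norm_num) (by decide)).elim
  · exact (paqb hG 3 31 3 1 (by norm_num) (by norm_num) (by rw [hn]; norm_num)).elim
  · exact (paqb hG 2 419 1 1 (by norm_num) (by norm_num) (by rw [hn]; norm_num)).elim
  · exact (paqb hG 839 2 1 0 (by norm_num) (by norm_num) (by rw [hn]; norm_num)).elim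
  · exact (ne_840 hG hn).elim
  · exact (paqb hG 29 2 2 0 (by norm_num) (by norm_num) (by rw [hn]; norm_num)).elim
  · exact (paqb hG 2 421 1 1 (by norm_num) (by norm_num) (by rw [hn]; norm_num)).elim
  · exact (paqb hG 3 281 1 1 (by norm_num) (by norm_num) (by rw [hn]; norm_num)).elim
  · exact (paqb hG 2 211 2 1 (by norm_num) (by norm_num) (by rw [hn]; norm_num)).elim
  · exact (paqb hG 5 13 1 2 (by norm_num) (by norm_num) (by rw [hn]; norm_num)).elim
  · exact (two_odd hG 423 (by decide) (by rw [hn])).elim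
  · exact (paqb hG 7 11 1 2 (by norm_num) (by norm_num) (by rw [hn]; norm_num)).elim
  · exact (paqb hG 2 53 4 1 (by norm_num) (by norm_num) (by rw [hn]; norm_num)).elim
  · exact (paqb hG 3 283 1 1 (by norm_num) (by norm_num) (by rw [hn]; norm_num)).elim
  · exact (two_odd hG 425 (by decide) (by rw [hn])).elim
  · exact (paqb hG 23 37 1 1 (by norm_num) (by norm_num) (by rw [hn]; norm_num)).elim
  · exact (@sylow_unique_kill G _ _ _ 71 ⟨by norm_num⟩ hG 1 12 (by norm_num) (by norm_num) (by rw [hn]; norm_num) (by norm_num) (by decide)).elim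
  · exact (paqb hG 853 2 1 0 (by norm_num) (by norm_num) (by rw [hn]; norm_num)).elim
  · exact (two_odd hG 427 (by decide) (by rw [hn])).elim
  · exact (@sylow_unique_kill G _ _ _ 19 ⟨by norm_num⟩ hG 1 45 (by norm_num) (by norm_num) (by rw [hn]; norm_num) (by norm_num) (by decide)).elim
  · exact (paqb hG 2 107 3 1 (by norm_num) (by norm_num) (by rw [hn]; norm_num)).elim
  · exact (paqb hG 857 2 1 0 (by norm_num) (by norm_num) (by rw [hn]; norm_num)).elim
  · exact (two_odd hG 429 (by decide) (by rw [hn])).elim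
  · exact (paqb hG 859 2 1 0 (by norm_num) (by norm_num) (by rw [hn]; norm_num)).elim
  · exact (@sylow_unique_kill G _ _ _ 43 ⟨by norm_num⟩ hG 1 20 (by norm_num) (by norm_num) (by rw [hn]; norm_num) (by norm_num) (by decide)).elim
  · exact (@sylow_unique_kill G _ _ _ 41 ⟨by norm_num⟩ hG 1 21 (by norm_num) (by norm_num) (by rw [hn]; norm_num) (by norm_num) (by decide)).elim
  · exact (paqb hG 2 431 1 1 (by norm_num) (by norm_num) (by rw [hn]; norm_num)).elim
  · exact (paqb hG 863 2 1 0 (by norm_num) (by norm_num) (by rw [hn]; norm_num)).elim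
  · exact (paqb hG 2 3 5 3 (by norm_num) (by norm_num) (by rw [hn]; norm_num)).elim
  · exact (paqb hG 5 173 1 1 (by norm_num) (by norm_num) (by rw [hn]; norm_num)).elim
  · exact (paqb hG 2 433 1 1 (by norm_num) (by norm_num) (by rw [hn]; norm_num)).elim
  · exact (paqb hG 3 17 1 2 (by norm_num) (by norm_num) (by rw [hn]; norm_num)).elim
  · exact (@sylow_unique_kill G _ _ _ 31 ⟨by norm_num⟩ hG 1 28 (by norm_num) (by norm_num) (by rw [hn]; norm_num) (by norm_num) (by decide)).elim
  · exact (paqb hG 11 79 1 1 (by norm_num) (by norm_num) (by rw [hn]; norm_num)).elim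
  · exact (two_odd hG 435 (by decide) (by rw [hn])).elim
  · exact (paqb hG 13 67 1 1 (by norm_num) (by norm_num) (by rw [hn]; norm_num)).elim
  · exact (paqb hG 2 109 3 1 (by norm_num) (by norm_num) (by rw [hn]; norm_num)).elim
  · exact (paqb hG 3 97 2 1 (by norm_num) (by norm_num) (by rw [hn]; norm_num)).elim
  · exact (two_odd hG 437 (by decide) (by rw [hn])).elim
  · exact (paqb hG 5 7 3 1 (by norm_num) (by norm_num) (by rw [hn]; norm_num)).elim
  · exact (@sylow_unique_kill G _ _ _ 73 ⟨by norm_num⟩ hG 1 12 (by norm_num) (by norm_num) (by rw [hn]; norm_num) (by norm_num) (by decide)).elim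
  · exact (paqb hG 877 2 1 0 (by norm_num) (by norm_num) (by rw [hn]; norm_num)).elim
  · exact (paqb hG 2 439 1 1 (by norm_num) (by norm_num) (by rw [hn]; norm_num)).elim
  · exact (paqb hG 3 293 1 1 (by norm_num) (by norm_num) (by rw [hn]; norm_num)).elim
  · exact (@sylow_unique_kill G _ _ _ 11 ⟨by norm_num⟩ hG 1 80 (by norm_num) (by norm_num) (by rw [hn]; norm_num) (by norm_num) (by decide)).elim
  · exact (paqb hG 881 2 1 0 (by norm_num) (by norm_num) (by rw [hn]; norm_num)).elim
  · exact (two_odd hG 441 (by decide) (by rw [hn])).elim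
  · exact (paqb hG 883 2 1 0 (by norm_num) (by norm_num) (by rw [hn]; norm_num)).elim
  · exact (@sylow_unique_kill G _ _ _ 13 ⟨by norm_num⟩ hG 1 68 (by norm_num) (by norm_num) (by rw [hn]; norm_num) (by norm_num) (by decide)).elim
  · exact (@sylow_unique_kill G _ _ _ 59 ⟨by norm_num⟩ hG 1 15 (by norm_num) (by norm_num) (by rw [hn]; norm_num) (by norm_num) (by decide)).elim
  · exact (paqb hG 2 443 1 1 (by norm_num) (by norm_num) (by rw [hn]; norm_num)).elim
  · exact (paqb hG 887 2 1 0 (by norm_num) (by norm_num) (by rw [hn]; norm_num)).elim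
  · exact (@sylow_unique_kill G _ _ _ 37 ⟨by norm_num⟩ hG 1 24 (by norm_num) (by norm_num) (by rw [hn]; norm_num) (by norm_num) (by decide)).elim
  · exact (paqb hG 7 127 1 1 (by norm_num) (by norm_num) (by rw [hn]; norm_num)).elim
  · exact (two_odd hG 445 (by decide) (by rw [hn])).elim
  · exact (paqb hG 3 11 4 1 (by norm_num) (by norm_num) (by rw [hn]; norm_num)).elim
  · exact (paqb hG 2 223 2 1 (by norm_num) (by norm_num) (by rw [hn]; norm_num)).elim
  · exact (paqb hG 19 47 1 1 (by norm_num) (by norm_num) (by rw [hn]; norm_num)).elim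
  · exact (two_odd hG 447 (by decide) (by rw [hn])).elim
  · exact (paqb hG 5 179 1 1 (by norm_num) (by norm_num) (by rw [hn]; norm_num)).elim
  · exact (paqb hG 2 7 7 1 (by norm_num) (by norm_num) (by rw [hn]; norm_num)).elim
  · exact (@sylow_unique_kill G _ _ _ 23 ⟨by norm_num⟩ hG 1 39 (by norm_num) (by norm_num) (by rw [hn]; norm_num) (by norm_num) (by decide)).elim
  · exact (paqb hG 2 449 1 1 (by norm_num) (by norm_num) (by rw [hn]; norm_num)).elim
  · exact (paqb hG 29 31 1 1 (by norm_num) (by norm_num) (by rw [hn]; norm_num)).elim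
  · exact (@sylow_kill G _ _ _ 5 ⟨by norm_num⟩ hG 2 36 (by norm_num) (by norm_num) (by rw [hn]; norm_num) (by norm_num) (by decide)).elim
  · exact (paqb hG 17 53 1 1 (by norm_num) (by norm_num) (by rw [hn]; norm_num)).elim
  · exact (two_odd hG 451 (by decide) (by rw [hn])).elim
  · exact (@sylow_unique_kill G _ _ _ 43 ⟨by norm_num⟩ hG 1 21 (by norm_num) (by norm_num) (by rw [hn]; norm_num) (by norm_num) (by decide)).elim
  · exact (paqb hG 2 113 3 1 (by norm_num) (by norm_num) (by rw [hn]; norm_num)).elim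
  · exact (paqb hG 5 181 1 1 (by norm_num) (by norm_num) (by rw [hn]; norm_num)).elim
  · exact (two_odd hG 453 (by decide) (by rw [hn])).elim
  · exact (paqb hG 907 2 1 0 (by norm_num) (by norm_num) (by rw [hn]; norm_num)).elim
  · exact (paqb hG 2 227 2 1 (by norm_num) (by norm_num) (by rw [hn]; norm_num)).elim
  · exact (paqb hG 3 101 2 1 (by norm_num) (by norm_num) (by rw [hn]; norm_num)).elim
  · exact (two_odd hG 455 (by decide) (by rw [hn])).elim
  · exact (paqb hG 911 2 1 0 (by norm_num) (by norm_num) (by rw [hn]; norm_num)).elim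
  · exact (@sylow_unique_kill G _ _ _ 19 ⟨by norm_num⟩ hG 1 48 (by norm_num) (by norm_num) (by rw [hn]; norm_num) (by norm_num) (by decide)).elim
  · exact (paqb hG 11 83 1 1 (by norm_num) (by norm_num) (by rw [hn]; norm_num)).elim
  · exact (paqb hG 2 457 1 1 (by norm_num) (by norm_num) (by rw [hn]; norm_num)).elim
  · exact (@sylow_unique_kill G _ _ _ 61 ⟨by norm_num⟩ hG 1 15 (by norm_num) (by norm_num) (by rw [hn]; norm_num) (by norm_num) (by decide)).elim
  · exact (paqb hG 2 229 2 1 (by norm_num) (by norm_num) (by rw [hn]; norm_num)).elim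
  · exact (paqb hG 7 131 1 1 (by norm_num) (by norm_num) (by rw [hn]; norm_num)).elim
  · exact (two_odd hG 459 (by decide) (by rw [hn])).elim
  · exact (paqb hG 919 2 1 0 (by norm_num) (by norm_num) (by rw [hn]; norm_num)).elim
  · exact (@sylow_unique_kill G _ _ _ 23 ⟨by norm_num⟩ hG 1 40 (by norm_num) (by norm_num) (by rw [hn]; norm_num) (by norm_num) (by decide)).elim
  · exact (paqb hG 3 307 1 1 (by norm_num) (by norm_num) (by rw [hn]; norm_num)).elim
  · exact (paqb hG 2 461 1 1 (by norm_num) (by norm_num) (by rw [hn]; norm_num)).elim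
  · exact (paqb hG 13 71 1 1 (by norm_num) (by norm_num) (by rw [hn]; norm_num)).elim
  · exact (@sylow_kill G _ _ _ 11 ⟨by norm_num⟩ hG 1 84 (by norm_num) (by norm_num) (by rw [hn]; norm_num) (by norm_num) (by decide)).elim
  · exact (paqb hG 5 37 2 1 (by norm_num) (by norm_num) (by rw [hn]; norm_num)).elim
  · exact (paqb hG 2 463 1 1 (by norm_num) (by norm_num) (by rw [hn]; norm_num)).elim
  · exact (paqb hG 3 103 2 1 (by norm_num) (by norm_num) (by rw [hn]; norm_num)).elim
  · exact (paqb hG 2 29 5 1 (by norm_num) (by norm_num) (by rw [hn]; norm_num)).elim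
  · exact (paqb hG 929 2 1 0 (by norm_num) (by norm_num) (by rw [hn]; norm_num)).elim
  · exact (two_odd hG 465 (by decide) (by rw [hn])).elim
  · exact (paqb hG 7 19 2 1 (by norm_num) (by norm_num) (by rw [hn]; norm_num)).elim
  · exact (paqb hG 2 233 2 1 (by norm_num) (by norm_num) (by rw [hn]; norm_num)).elim
  · exact (paqb hG 3 311 1 1 (by norm_num) (by norm_num) (by rw [hn]; norm_num)).elim
  · exact (paqb hG 2 467 1 1 (by norm_num) (by norm_num) (by rw [hn]; norm_num)).elim
  · exact (@sylow_unique_kill G _ _ _ 17 ⟨by norm_num⟩ hG 1 55 (by norm_num) (by norm_num) (by rw [hn]; norm_num) (by norm_num) (by decide)).elim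
  · exact (@sylow_unique_kill G _ _ _ 13 ⟨by norm_num⟩ hG 1 72 (by norm_num) (by norm_num) (by rw [hn]; norm_num) (by norm_num) (by decide)).elim
  · exact (paqb hG 937 2 1 0 (by norm_num) (by norm_num) (by rw [hn]; norm_num)).elim
  · exact (two_odd hG 469 (by decide) (by rw [hn])).elim
  · exact (paqb hG 3 313 1 1 (by norm_num) (by norm_num) (by rw [hn]; norm_num)).elim
  · exact (@sylow_unique_kill G _ _ _ 47 ⟨by norm_num⟩ hG 1 20 (by norm_num) (by norm_num) (by rw [hn]; norm_num) (by norm_num) (by decide)).elim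
  · exact (paqb hG 941 2 1 0 (by norm_num) (by norm_num) (by rw [hn]; norm_num)).elim
  · exact (two_odd hG 471 (by decide) (by rw [hn])).elim
  · exact (paqb hG 23 41 1 1 (by norm_num) (by norm_num) (by rw [hn]; norm_num)).elim
  · exact (paqb hG 2 59 4 1 (by norm_num) (by norm_num) (by rw [hn]; norm_num)).elim
  · exact (@sylow_kill G _ _ _ 5 ⟨by norm_num⟩ hG 1 189 (by norm_num) (by norm_num) (by rw [hn]; norm_num) (by norm_num) (by decide)).elim
  · exact (two_odd hG 473 (by decide) (by rw [hn])).elim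
  · exact (paqb hG 947 2 1 0 (by norm_num) (by norm_num) (by rw [hn]; norm_num)).elim
  · exact (@sylow_unique_kill G _ _ _ 79 ⟨by norm_num⟩ hG 1 12 (by norm_num) (by norm_num) (by rw [hn]; norm_num) (by norm_num) (by decide)).elim
  · exact (paqb hG 13 73 1 1 (by norm_num) (by norm_num) (by rw [hn]; norm_num)).elim
  · exact (two_odd hG 475 (by decide) (by rw [hn])).elim
  · exact (paqb hG 3 317 1 1 (by norm_num) (by norm_num) (by rw [hn]; norm_num)).elim
  · exact (@sylow_unique_kill G _ _ _ 17 ⟨by norm_num⟩ hG 1 56 (by norm_num) (by norm_num) (by rw [hn]; norm_num) (by norm_num) (by decide)).elim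
  · exact (paqb hG 953 2 1 0 (by norm_num) (by norm_num) (by rw [hn]; norm_num)).elim
  · exact (two_odd hG 477 (by decide) (by rw [hn])).elim
  · exact (paqb hG 5 191 1 1 (by norm_num) (by norm_num) (by rw [hn]; norm_num)).elim
  · exact (paqb hG 2 239 2 1 (by norm_num) (by norm_num) (by rw [hn]; norm_num)).elim
  · exact (@sylow_unique_kill G _ _ _ 29 ⟨by norm_num⟩ hG 1 33 (by norm_num) (by norm_num) (by rw [hn]; norm_num) (by norm_num) (by decide)).elim
  · exact (paqb hG 2 479 1 1 (by norm_num) (by norm_num) (by rw [hn]; norm_num)).elim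
  · exact (paqb hG 7 137 1 1 (by norm_num) (by norm_num) (by rw [hn]; norm_num)).elim
  · exact (ne_960 hG hn).elim
  · exact (paqb hG 31 2 2 0 (by norm_num) (by norm_num) (by rw [hn]; norm_num)).elim
  · exact (two_odd hG 481 (by decide) (by rw [hn])).elim
  · exact (paqb hG 3 107 2 1 (by norm_num) (by norm_num) (by rw [hn]; norm_num)).elim
  · exact (paqb hG 2 241 2 1 (by norm_num) (by norm_num) (by rw [hn]; norm_num)).elim
  · exact (paqb hG 5 193 1 1 (by norm_num) (by norm_num) (by rw [hn]; norm_num)).elim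
  · exact (two_odd hG 483 (by decide) (by rw [hn])).elim
  · exact (paqb hG 967 2 1 0 (by norm_num) (by norm_num) (by rw [hn]; norm_num)).elim
  · exact (paqb hG 2 11 3 2 (by norm_num) (by norm_num) (by rw [hn]; norm_num)).elim
  · exact (@sylow_unique_kill G _ _ _ 19 ⟨by norm_num⟩ hG 1 51 (by norm_num) (by norm_num) (by rw [hn]; norm_num) (by norm_num) (by decide)).elim
  · exact (two_odd hG 485 (by decide) (by rw [hn])).elim
  · exact (paqb hG 971 2 1 0 (by norm_num) (by norm_num) (by rw [hn]; norm_num)).elim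
  · exact (paqb hG 2 3 2 5 (by norm_num) (by norm_num) (by rw [hn]; norm_num)).elim
  · exact (paqb hG 7 139 1 1 (by norm_num) (by norm_num) (by rw [hn]; norm_num)).elim
  · exact (paqb hG 2 487 1 1 (by norm_num) (by norm_num) (by rw [hn]; norm_num)).elim
  · exact (@sylow_unique_kill G _ _ _ 13 ⟨by norm_num⟩ hG 1 75 (by norm_num) (by norm_num) (by rw [hn]; norm_num) (by norm_num) (by decide)).elim
  · exact (paqb hG 2 61 4 1 (by norm_num) (by norm_num) (by rw [hn]; norm_num)).elim
  · exact (paqb hG 977 2 1 0 (by norm_num) (by norm_num) (by rw [hn]; norm_num)).elim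
  · exact (two_odd hG 489 (by decide) (by rw [hn])).elim
  · exact (paqb hG 11 89 1 1 (by norm_num) (by norm_num) (by rw [hn]; norm_num)).elim
  · exact (@sylow_unique_kill G _ _ _ 7 ⟨by norm_num⟩ hG 2 20 (by norm_num) (by norm_num) (by rw [hn]; norm_num) (by norm_num) (by decide)).elim
  · exact (paqb hG 3 109 2 1 (by norm_num) (by norm_num) (by rw [hn]; norm_num)).elim
  · exact (paqb hG 2 491 1 1 (by norm_num) (by norm_num) (by rw [hn]; norm_num)).elim
  · exact (paqb hG 983 2 1 0 (by norm_num) (by norm_num) (by rw [hn]; norm_num)).elim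
  · exact (@sylow_unique_kill G _ _ _ 41 ⟨by norm_num⟩ hG 1 24 (by norm_num) (by norm_num) (by rw [hn]; norm_num) (by norm_num) (by decide)).elim
  · exact (paqb hG 5 197 1 1 (by norm_num) (by norm_num) (by rw [hn]; norm_num)).elim
  · exact (two_odd hG 493 (by decide) (by rw [hn])).elim
  · exact (@sylow_unique_kill G _ _ _ 47 ⟨by norm_num⟩ hG 1 21 (by norm_num) (by norm_num) (by rw [hn]; norm_num) (by norm_num) (by decide)).elim
  · exact (@sylow_unique_kill G _ _ _ 19 ⟨by norm_num⟩ hG 1 52 (by norm_num) (by norm_num) (by rw [hn]; norm_num) (by norm_num) (by decide)).elim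
  · exact (paqb hG 23 43 1 1 (by norm_num) (by norm_num) (by rw [hn]; norm_num)).elim
  · exact (two_odd hG 495 (by decide) (by rw [hn])).elim
  · exact (paqb hG 991 2 1 0 (by norm_num) (by norm_num) (by rw [hn]; norm_num)).elim
  · exact (paqb hG 2 31 5 1 (by norm_num) (by norm_num) (by rw [hn]; norm_num)).elim
  · exact (paqb hG 3 331 1 1 (by norm_num) (by norm_num) (by rw [hn]; norm_num)).elim
  · exact (two_odd hG 497 (by decide) (by rw [hn])).elim
  · exact (paqb hG 5 199 1 1 (by norm_num) (by norm_num) (by rw [hn]; norm_num)).elim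
  · exact (@sylow_unique_kill G _ _ _ 83 ⟨by norm_num⟩ hG 1 12 (by norm_num) (by norm_num) (by rw [hn]; norm_num) (by norm_num) (by decide)).elim
  · exact (paqb hG 997 2 1 0 (by norm_num) (by norm_num) (by rw [hn]; norm_num)).elim
  · exact (paqb hG 2 499 1 1 (by norm_num) (by norm_num) (by rw [hn]; norm_num)).elim
  · exact (paqb hG 3 37 3 1 (by norm_num) (by norm_num) (by rw [hn]; norm_num)).elim
  · exact (paqb hG 2 5 3 3 (by norm_num) (by norm_num) (by rw [hn]; norm_num)).elim
  · exact (@sylow_unique_kill G _ _ _ 13 ⟨by norm_num⟩ hG 1 77 (by norm_num) (by norm_num) (by rw [hn]; norm_num) (by norm_num) (by decide)).elim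
  · exact (two_odd hG 501 (by decide) (by rw [hn])).elim
  · exact (paqb hG 17 59 1 1 (by norm_num) (by norm_num) (by rw [hn]; norm_num)).elim
  · exact (paqb hG 2 251 2 1 (by norm_num) (by norm_num) (by rw [hn]; norm_num)).elim
  · exact (@sylow_unique_kill G _ _ _ 67 ⟨by norm_num⟩ hG 1 15 (by norm_num) (by norm_num) (by rw [hn]; norm_num) (by norm_num) (by decide)).elim
  · exact (paqb hG 2 503 1 1 (by norm_num) (by norm_num) (by rw [hn]; norm_num)).elim
  · exact (paqb hG 19 53 1 1 (by norm_num) (by norm_num) (by rw [hn]; norm_num)).elim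
  · exact (ne_1008 hG hn).elim
  · exact (paqb hG 1009 2 1 0 (by norm_num) (by norm_num) (by rw [hn]; norm_num)).elim
  · exact (two_odd hG 505 (by decide) (by rw [hn])).elim
  · exact (paqb hG 3 337 1 1 (by norm_num) (by norm_num) (by rw [hn]; norm_num)).elim
  · exact (@sylow_unique_kill G _ _ _ 23 ⟨by norm_num⟩ hG 1 44 (by norm_num) (by norm_num) (by rw [hn]; norm_num) (by norm_num) (by decide)).elim
  · exact (paqb hG 1013 2 1 0 (by norm_num) (by norm_num) (by rw [hn]; norm_num)).elim
  · exact (two_odd hG 507 (by decide) (by rw [hn])).elim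
  · exact (@sylow_unique_kill G _ _ _ 29 ⟨by norm_num⟩ hG 1 35 (by norm_num) (by norm_num) (by rw [hn]; norm_num) (by norm_num) (by decide)).elim
  · exact (paqb hG 2 127 3 1 (by norm_num) (by norm_num) (by rw [hn]; norm_num)).elim
  · exact (paqb hG 3 113 2 1 (by norm_num) (by norm_num) (by rw [hn]; norm_num)).elim
  · exact (paqb hG 2 509 1 1 (by norm_num) (by norm_num) (by rw [hn]; norm_num)).elim
  · exact (paqb hG 1019 2 1 0 (by norm_num) (by norm_num) (by rw [hn]; norm_num)).elim
  · exact (@sylow_unique_kill G _ _ _ 17 ⟨by norm_num⟩ hG 1 60 (by norm_num) (by norm_num) (by rw [hn]; norm_num) (by norm_num) (by decide)).elim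
  · exact (paqb hG 1021 2 1 0 (by norm_num) (by norm_num) (by rw [hn]; norm_num)).elim
  · exact (two_odd hG 511 (by decide) (by rw [hn])).elim
  · exact (@sylow_unique_kill G _ _ _ 31 ⟨by norm_num⟩ hG 1 33 (by norm_num) (by norm_num) (by rw [hn]; norm_num) (by norm_num) (by decide)).elim
  · exact (paqb hG 2 3 10 0 (by norm_num) (by norm_num) (by rw [hn]; norm_num)).elim
  · exact (paqb hG 5 41 2 1 (by norm_num) (by norm_num) (by rw [hn]; norm_num)).elim
  · exact (two_odd hG 513 (by decide) (by rw [hn])).elim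
  · exact (paqb hG 13 79 1 1 (by norm_num) (by norm_num) (by rw [hn]; norm_num)).elim
  · exact (paqb hG 2 257 2 1 (by norm_num) (by norm_num) (by rw [hn]; norm_num)).elim
  · exact (paqb hG 3 7 1 3 (by norm_num) (by norm_num) (by rw [hn]; norm_num)).elim
  · exact (two_odd hG 515 (by decide) (by rw [hn])).elim
  · exact (paqb hG 1031 2 1 0 (by norm_num) (by norm_num) (by rw [hn]; norm_num)).elim
  · exact (@sylow_unique_kill G _ _ _ 43 ⟨by norm_num⟩ hG 1 24 (by norm_num) (by norm_num) (by rw [hn]; norm_num) (by norm_num) (by decide)).elim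
  · exact (paqb hG 1033 2 1 0 (by norm_num) (by norm_num) (by rw [hn]; norm_num)).elim
  · exact (two_odd hG 517 (by decide) (by rw [hn])).elim
  · exact (@sylow_unique_kill G _ _ _ 23 ⟨by norm_num⟩ hG 1 45 (by norm_num) (by norm_num) (by rw [hn]; norm_num) (by norm_num) (by decide)).elim
  · exact (@sylow_unique_kill G _ _ _ 37 ⟨by norm_num⟩ hG 1 28 (by norm_num) (by norm_num) (by rw [hn]; norm_num) (by norm_num) (by decide)).elim
  · exact (paqb hG 17 61 1 1 (by norm_num) (by norm_num) (by rw [hn]; norm_num)).elim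
  · exact (two_odd hG 519 (by decide) (by rw [hn])).elim
  · exact (paqb hG 1039 2 1 0 (by norm_num) (by norm_num) (by rw [hn]; norm_num)).elim
  · exact (ne_1040 hn).elim
  · exact (paqb hG 3 347 1 1 (by norm_num) (by norm_num) (by rw [hn]; norm_num)).elim
  · exact (paqb hG 2 521 1 1 (by norm_num) (by norm_num) (by rw [hn]; norm_num)).elim
  · exact (paqb hG 7 149 1 1 (by norm_num) (by norm_num) (by rw [hn]; norm_num)).elim
  · exact (@sylow_unique_kill G _ _ _ 29 ⟨by norm_num⟩ hG 1 36 (by norm_num) (by norm_num) (by rw [hn]; norm_num) (by norm_num) (by decide)).elim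
  · exact (@sylow_unique_kill G _ _ _ 19 ⟨by norm_num⟩ hG 1 55 (by norm_num) (by norm_num) (by rw [hn]; norm_num) (by norm_num) (by decide)).elim
  · exact (paqb hG 2 523 1 1 (by norm_num) (by norm_num) (by rw [hn]; norm_num)).elim
  · exact (paqb hG 3 349 1 1 (by norm_num) (by norm_num) (by rw [hn]; norm_num)).elim
  · exact (paqb hG 2 131 3 1 (by norm_num) (by norm_num) (by rw [hn]; norm_num)).elim
  · exact (paqb hG 1049 2 1 0 (by norm_num) (by norm_num) (by rw [hn]; norm_num)).elim
  · exact (two_odd hG 525 (by decide) (by rw [hn])).elim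
  · exact (paqb hG 1051 2 1 0 (by norm_num) (by norm_num) (by rw [hn]; norm_num)).elim
  · exact (paqb hG 2 263 2 1 (by norm_num) (by norm_num) (by rw [hn]; norm_num)).elim
  · exact (paqb hG 3 13 4 1 (by norm_num) (by norm_num) (by rw [hn]; norm_num)).elim
  · exact (two_odd hG 527 (by decide) (by rw [hn])).elim
  · exact (paqb hG 5 211 1 1 (by norm_num) (by norm_num) (by rw [hn]; norm_num)).elim
  · exact (ne_1056 hG hn).elim
  · exact (paqb hG 7 151 1 1 (by norm_num) (by norm_num) (by rw [hn]; norm_num)).elim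
  · exact (paqb hG 2 23 1 2 (by norm_num) (by norm_num) (by rw [hn]; norm_num)).elim
  · exact (paqb hG 3 353 1 1 (by norm_num) (by norm_num) (by rw [hn]; norm_num)).elim
  · exact (@sylow_unique_kill G _ _ _ 53 ⟨by norm_num⟩ hG 1 20 (by norm_num) (by norm_num) (by rw [hn]; norm_num) (by norm_num) (by decide)).elim
  · exact (paqb hG 1061 2 1 0 (by norm_num) (by norm_num) (by rw [hn]; norm_num)).elim
  · exact (two_odd hG 531 (by decide) (by rw [hn])).elim
  · exact (paqb hG 1063 2 1 0 (by norm_num) (by norm_num) (by rw [hn]; norm_num)).elim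
  · exact (@sylow_unique_kill G _ _ _ 19 ⟨by norm_num⟩ hG 1 56 (by norm_num) (by norm_num) (by rw [hn]; norm_num) (by norm_num) (by decide)).elim
  · exact (@sylow_unique_kill G _ _ _ 71 ⟨by norm_num⟩ hG 1 15 (by norm_num) (by norm_num) (by rw [hn]; norm_num) (by norm_num) (by decide)).elim
  · exact (two_odd hG 533 (by decide) (by rw [hn])).elim
  · exact (paqb hG 11 97 1 1 (by norm_num) (by norm_num) (by rw [hn]; norm_num)).elim
  · exact (@sylow_unique_kill G _ _ _ 89 ⟨by norm_num⟩ hG 1 12 (by norm_num) (by norm_num) (by rw [hn]; norm_num) (by norm_num) (by decide)).elim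
  · exact (paqb hG 1069 2 1 0 (by norm_num) (by norm_num) (by rw [hn]; norm_num)).elim
  · exact (two_odd hG 535 (by decide) (by rw [hn])).elim
  · exact (@sylow_unique_kill G _ _ _ 17 ⟨by norm_num⟩ hG 1 63 (by norm_num) (by norm_num) (by rw [hn]; norm_num) (by norm_num) (by decide)).elim
  · exact (paqb hG 2 67 4 1 (by norm_num) (by norm_num) (by rw [hn]; norm_num)).elim
  · exact (paqb hG 29 37 1 1 (by norm_num) (by norm_num) (by rw [hn]; norm_num)).elim
  · exact (two_odd hG 537 (by decide) (by rw [hn])).elim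
  · exact (paqb hG 5 43 2 1 (by norm_num) (by norm_num) (by rw [hn]; norm_num)).elim
  · exact (paqb hG 2 269 2 1 (by norm_num) (by norm_num) (by rw [hn]; norm_num)).elim
  · exact (paqb hG 3 359 1 1 (by norm_num) (by norm_num) (by rw [hn]; norm_num)).elim
  · exact (two_odd hG 539 (by decide) (by rw [hn])).elim
  · exact (paqb hG 13 83 1 1 (by norm_num) (by norm_num) (by rw [hn]; norm_num)).elim
  · exact (ne_1080 hG hn).elim
  · exact (paqb hG 23 47 1 1 (by norm_num) (by norm_num) (by rw [hn]; norm_num)).elim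
  · exact (paqb hG 2 541 1 1 (by norm_num) (by norm_num) (by rw [hn]; norm_num)).elim
  · exact (paqb hG 3 19 1 2 (by norm_num) (by norm_num) (by rw [hn]; norm_num)).elim
  · exact (paqb hG 2 271 2 1 (by norm_num) (by norm_num) (by rw [hn]; norm_num)).elim
  · exact (@sylow_unique_kill G _ _ _ 31 ⟨by norm_num⟩ hG 1 35 (by norm_num) (by norm_num) (by rw [hn]; norm_num) (by norm_num) (by decide)).elim
  · exact (two_odd hG 543 (by decide) (by rw [hn])).elim
  · exact (paqb hG 1087 2 1 0 (by norm_num) (by norm_num) (by rw [hn]; norm_num)).elim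
  · exact (paqb hG 2 17 6 1 (by norm_num) (by norm_num) (by rw [hn]; norm_num)).elim
  · exact (paqb hG 3 11 2 2 (by norm_num) (by norm_num) (by rw [hn]; norm_num)).elim
  · exact (two_odd hG 545 (by decide) (by rw [hn])).elim
  · exact (paqb hG 1091 2 1 0 (by norm_num) (by norm_num) (by rw [hn]; norm_num)).elim
  · simp

end Cfsg.Agent.Lib.Helper9.SmallOrd
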