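import Mathlib
import Cfsg.Agent.Lib.Helper9.SmallOrd20

set_option autoImplicit false

namespace Cfsg.Agent.Lib.Helper9.SmallOrd

open Subgroup MulAction

section general

variable {G : Type*} [Group G] [Finite G] {p : ℕ} [hp : Fact p.Prime]

/-- Fixed points of an element centralizing a `p`-subgroup `D`, modulo `p`. -/
theorem card_fixed_mod_gen {X : Type*} [MulAction G X] [Finite X] (D : Subgroup G)
    (hD : IsPGroup p D) (t : G) (ht : t ∈ centralizer (D : Set G)) :
    Nat.card {x : X // t • x = x} % p =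
      Nat.card {x : X // t • x = x ∧ ∀ d ∈ D, d • x = x} % p := by
  classical
  let act : MulAction D {x : X // t • x = x} :=
    { smul := fun d x => ⟨(d : G) • x.1, by
        have hc : t * (d : G) = (d : G) * t := ((Subgroup.mem_centralizer_iff.mp ht) d d.2).symm
        rw [← mul_smul, hc, mul_smul, x.2]⟩
      one_smul := fun x => Subtype.ext (one_smul G x.1)
      mul_smul := fun a b x => Subtype.ext (mul_smul (a : G) (b : G) x.1) }
  have h1 := hD.card_modEq_card_fixedPoints {x : X // t • x = x}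
  have h2 : Nat.card (fixedPoints D {x : X // t • x = x}) =
      Nat.card {x : X // t • x = x ∧ ∀ d ∈ D, d • x = x} := by
    apply Nat.card_congr
    refine ⟨fun c => ⟨c.1.1, c.1.2, fun d hd => ?_⟩, fun x => ⟨⟨x.1, x.2.1⟩, fun d => ?_⟩,
      fun c => rfl, fun x => rfl⟩
    · have := c.2 ⟨d, hd⟩
      exact congrArg Subtype.val this
    · exact Subtype.ext (x.2.2 d d.2)
  rw [h2] at h1
  exact h1

/-- A `q`-subgroup of `N(P)` normalizes another Sylow `p`-subgroup when `q ∣ n_p`. -/
theorem exists_other_normalized {q : ℕ} [hq : Fact q.Prime] (P : Sylow p G) (T : Subgroup G)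
    (hT : IsPGroup q T) (hTP : T ≤ normalizer ((P : Subgroup G) : Set G))
    (hdvd : q ∣ Nat.card (Sylow p G)) :
    ∃ Q : Sylow p G, Q ≠ P ∧ T ≤ normalizer ((Q : Subgroup G) : Set G) := by
  classical
  have hfix := hT.card_modEq_card_fixedPoints (Sylow p G)
  have hPfix : P ∈ fixedPoints T (Sylow p G) := fun x =>
    Sylow.smul_eq_iff_mem_normalizer.mpr (hTP x.2)
  by_contra hcon
  push Not at hcon
  have h1 : Nat.card (fixedPoints T (Sylow p G)) = 1 := by
    rw [Nat.card_eq_one_iff_unique]
    refine ⟨⟨fun a b => ?_⟩, ⟨⟨P, hPfix⟩⟩⟩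
    have key : ∀ c : fixedPoints T (Sylow p G), c.1 = P := by
      intro c
      by_contra hne
      obtain ⟨x, hxT, hx⟩ := Set.not_subset.mp (hcon c.1 hne)
      apply hx
      exact Sylow.smul_eq_iff_mem_normalizer.mp (c.2 ⟨x, hxT⟩)
    exact Subtype.ext (by rw [key a, key b])
  rw [h1] at hfix
  have h2 : Nat.card (Sylow p G) % q = 1 % q := hfix
  rw [Nat.mod_eq_of_lt hq.1.one_lt, (Nat.dvd_iff_mod_eq_zero).mp hdvd] at h2
  omega

/-- `|H ∩ K| * [K : H ∩ K] = |K|`. -/
theorem card_inf_mul_relIndex (H K : Subgroup G) :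
    Nat.card (H ⊓ K : Subgroup G) * H.relIndex K = Nat.card K := by
  have h1 := (H.subgroupOf K).card_mul_index
  have h2 : Nat.card (H.subgroupOf K) = Nat.card (H ⊓ K : Subgroup G) := by
    rw [← Subgroup.inf_subgroupOf_right]
    exact Nat.card_congr (Subgroup.subgroupOfEquivOfLe inf_le_right).toEquiv
  rw [h2] at h1
  exact h1

end general

end Cfsg.Agent.Lib.Helper9.SmallOrd
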