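import Mathlib
import Cfsg.Agent.Lib.Helper9.SmallOrd21

set_option autoImplicit false

namespace Cfsg.Agent.Lib.Helper9.SmallOrd

open Subgroup MulAction

variable {G : Type*} [Group G] [Finite G] [IsSimpleGroup G]

set_option maxHeartbeats 1600000 in
theorem ne_2016 (hG : ¬ IsMulCommutative G) : Nat.card G ≠ 2016 := by
  intro hcard
  haveI : Fact (Nat.Prime 7) := ⟨by norm_num⟩
  haveI : Fact (Nat.Prime 2) := ⟨Nat.prime_two⟩
  have hc : Nat.card G = 7 ^ 1 * 288 := by rw [hcard]; norm_num
  -- uniform data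
  have hA : ∀ P : Sylow 7 G, Nat.card P = 7 ∧ Nat.card (Sylow 7 G) = 36 ∧
      Nat.card (normalizer ((P : Subgroup G) : Set G)) = 56 ∧
      Nat.card (centralizer ((P : Subgroup G) : Set G)) = 28 ∧ (P : Subgroup G) ≠ ⊥ := by
    intro P
    obtain ⟨hPcard, hPbot, hPtop, hdvd, hmod, hne1, hNtop, hNcard, hfact⟩ :=
      sylow_data hG 1 288 Nat.one_pos (by norm_num) hc (by norm_num) P
    rw [pow_one] at hPcard
    have hmem : Nat.card (Sylow 7 G) ∈ (Nat.divisors 288).filter (fun n => n % 7 = 1) := by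
      rw [Finset.mem_filter, Nat.mem_divisors]
      exact ⟨⟨hdvd, by norm_num⟩, hmod⟩
    have hset : (Nat.divisors 288).filter (fun n => n % 7 = 1) = {1, 8, 36, 288} := by decide
    rw [hset] at hmem
    simp only [Finset.mem_insert, Finset.mem_singleton] at hmem
    rcases hmem with h | h | h | h
    · exact absurd h hne1
    · exfalso
      have hN : Nat.card (normalizer ((P : Subgroup G) : Set G)) = 7 * 36 := by
        rw [h, hcard] at hNcard; omega
      have := np_succ_dvd P hPcard h hNtop 36 hN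
      norm_num at this
    · have hN : Nat.card (normalizer ((P : Subgroup G) : Set G)) = 7 * 8 := by
        rw [h, hcard] at hNcard; omega
      obtain ⟨r, hr, hCr⟩ := card_centralizer_sylow_prime P hPcard 8 hN
      have hr12 : r = 1 ∨ r = 2 := by
        have hr2 : r ∣ 2 := by simpa using hr
        have := Nat.le_of_dvd (by norm_num) hr2
        interval_cases r <;> simp_all
      refine ⟨hPcard, h, by rw [hN], ?_, hPbot⟩
      rcases hr12 with rfl | rfl
      · exfalso
        have hCN : centralizer ((P : Subgroup G) : Set G) ≤ normalizer ((P : Subgroup G) : Set G) :=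
          Subgroup.centralizer_le_normalizer _
        have heq : centralizer ((P : Subgroup G) : Set G) = normalizer ((P : Subgroup G) : Set G) := by
          apply Subgroup.eq_of_le_of_card_ge hCN
          rw [hN]; omega
        rcases Cfsg.Agent.Lib.Helper3.sylow_eq_bot_or_top_of_normalizer_le_centralizer P
          (heq ▸ le_rfl) with h' | h'
        · exact hPbot h'
        · exact hPtop h'
      · omega
    · exfalso
      have hN : Nat.card (normalizer ((P : Subgroup G) : Set G)) = 7 * 1 := by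
        rw [h, hcard] at hNcard; omega
      exact transfer_kill P 1 hPcard hPbot hPtop hN (by decide)
  obtain ⟨P⟩ : Nonempty (Sylow 7 G) := inferInstance
  obtain ⟨hPcard, h36, hNP, hCP, hPbot⟩ := hA P
  set N := normalizer ((P : Subgroup G) : Set G) with hNdef
  obtain ⟨T', hT'⟩ := Sylow.exists_subgroup_card_pow_prime (G := N) 2 (n := 3)
    (by rw [hNP]; norm_num)
  set T : Subgroup G := T'.map N.subtype with hTdef
  have hTcard : Nat.card T = 8 := by
    rw [hTdef, Subgroup.card_map_of_injective (Subgroup.subtype_injective _), hT']; norm_num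
  have hTN : T ≤ N := Subgroup.map_subtype_le T'
  have hT2 : IsPGroup 2 T := IsPGroup.of_card (n := 3) (by rw [hTcard]; norm_num)
  obtain ⟨Q, hQP, hTQ⟩ := exists_other_normalized P T hT2 hTN (by rw [h36]; norm_num)
  obtain ⟨hQcard, -, hNQ, hCQ, hQbot⟩ := hA Q
  -- relative indices of the centralizers in T
  have hrel : ∀ R : Sylow 7 G, T ≤ normalizer ((R : Subgroup G) : Set G) →
      (centralizer ((R : Subgroup G) : Set G)).relIndex T ≤ 2 := by
    intro R hTR
    obtain ⟨hRcard, -, hNR, hCR, -⟩ := hA R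
    have h1 := card_inf_mul_relIndex (centralizer ((R : Subgroup G) : Set G))
      (normalizer ((R : Subgroup G) : Set G))
    rw [inf_eq_left.mpr (Subgroup.centralizer_le_normalizer _), hCR, hNR] at h1
    have h2 : (centralizer ((R : Subgroup G) : Set G)).relIndex
        (normalizer ((R : Subgroup G) : Set G)) = 2 := by omega
    have h3 := Subgroup.relIndex_le_of_le_right
      (H := centralizer ((R : Subgroup G) : Set G)) hTR (by rw [h2]; norm_num)
    rwa [h2] at h3
  have hrelP := hrel P hTN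
  have hrelQ := hrel Q hTQ
  set B : Subgroup G := centralizer ((P : Subgroup G) : Set G) ⊓
    centralizer ((Q : Subgroup G) : Set G) with hBdef
  have hBrel : B.relIndex T ≤ 4 :=
    (Subgroup.relIndex_inf_le).trans (Nat.mul_le_mul hrelP hrelQ)
  have hA1 := card_inf_mul_relIndex B T
  rw [hTcard] at hA1
  have hAcard2 : 2 ∣ Nat.card (B ⊓ T : Subgroup G) := by
    have hdvd : Nat.card (B ⊓ T : Subgroup G) ∣ 2 ^ 3 := ⟨_, by rw [hA1]; norm_num⟩
    obtain ⟨k, hk3, hk⟩ := (Nat.dvd_prime_pow Nat.prime_two).mp hdvd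
    have hk0 : k ≠ 0 := by
      rintro rfl
      rw [hk] at hA1
      omega
    rw [hk]
    exact dvd_pow_self 2 hk0
  obtain ⟨t', ht'⟩ := exists_prime_orderOf_dvd_card' 2 hAcard2
  have hto : orderOf (t' : G) = 2 := by rw [Subgroup.orderOf_coe, ht']
  have htB : (t' : G) ∈ B := (inf_le_left : B ⊓ T ≤ B) t'.2
  have htT : (t' : G) ∈ T := (inf_le_right : B ⊓ T ≤ T) t'.2
  have htCP : (t' : G) ∈ centralizer ((P : Subgroup G) : Set G) := htB.1
  have htCQ : (t' : G) ∈ centralizer ((Q : Subgroup G) : Set G) := htB.2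
  have htt : (t' : G) * (t' : G) = 1 := by
    rw [← pow_two, ← hto]; exact pow_orderOf_eq_one _
  -- the Sylow 2-subgroup of C(P) inside T
  set KP : Subgroup G := centralizer ((P : Subgroup G) : Set G) ⊓ T with hKPdef
  have hK1 := card_inf_mul_relIndex (centralizer ((P : Subgroup G) : Set G)) T
  rw [hTcard] at hK1
  have hKPcard : Nat.card KP = 2 ^ 2 := by
    have hd28 : Nat.card KP ∣ 28 := by
      have := Subgroup.card_dvd_of_le
        (inf_le_left : KP ≤ centralizer ((P : Subgroup G) : Set G))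
      rwa [hCP] at this
    have hd8 : Nat.card KP ∣ 8 := ⟨_, hK1.symm⟩
    have hd4 : Nat.card KP ∣ 4 := by
      have := Nat.dvd_gcd hd28 hd8
      simpa using this
    have hle := Nat.le_of_dvd (by norm_num) hd4
    have hge : 4 ≤ Nat.card KP := by nlinarith
    omega
  have hKPcomm := IsPGroup.isMulCommutative_of_card_eq_prime_sq (p := 2) (G := KP) hKPcard
  have htKP : (t' : G) ∈ KP := ⟨htCP, htT⟩
  set Ct := centralizer ({(t' : G)} : Set G) with hCtdef
  have hKPC : KP ≤ Ct := by
    intro x hx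
    rw [hCtdef, Subgroup.mem_centralizer_iff]
    intro y hy
    rw [Set.mem_singleton_iff] at hy
    rw [hy]
    exact congrArg Subtype.val (hKPcomm.is_comm.comm (⟨(t' : G), htKP⟩ : KP) ⟨x, hx⟩)
  have hPC : (P : Subgroup G) ≤ Ct := by
    intro x hx
    rw [hCtdef, Subgroup.mem_centralizer_iff]
    intro y hy
    rw [Set.mem_singleton_iff] at hy
    rw [hy]
    exact (Subgroup.mem_centralizer_iff.mp htCP x hx).symm
  have hQC : (Q : Subgroup G) ≤ Ct := by
    intro x hx
    rw [hCtdef, Subgroup.mem_centralizer_iff]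
    intro y hy
    rw [Set.mem_singleton_iff] at hy
    rw [hy]
    exact (Subgroup.mem_centralizer_iff.mp htCQ x hx).symm
  have htCt : (t' : G) ∈ Ct := by
    rw [hCtdef, Subgroup.mem_centralizer_iff]
    intro y hy
    rw [Set.mem_singleton_iff] at hy
    rw [hy]
  have hCttop : Ct ≠ ⊤ := by
    intro h
    have hzc : (t' : G) ∈ Subgroup.center G := by
      rw [Subgroup.mem_center_iff]
      intro g
      have hg : g ∈ Ct := by rw [h]; trivial
      rw [hCtdef, Subgroup.mem_centralizer_iff] at hg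
      exact (hg _ (Set.mem_singleton _)).symm
    rw [center_eq_bot hG] at hzc
    have := Subgroup.mem_bot.mp hzc
    rw [this, orderOf_one] at hto
    omega
  have hidx := two_mul_card_dvd_factorial hG Ct hCttop
  have hidx8 : 8 ≤ Ct.index := by
    by_contra hlt
    push Not at hlt
    have h7 : Ct.index ≤ 7 := by omega
    have h1 : (Ct.index).factorial ∣ (7 : ℕ).factorial := Nat.factorial_dvd_factorial h7
    have h2 : 2 * Nat.card G ∣ (7 : ℕ).factorial := dvd_trans hidx h1
    rw [hcard] at h2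
    revert h2
    decide
  have hmulC := Ct.card_mul_index
  rw [hcard] at hmulC
  have hs := card_eq_card_sylow_mul P Ct hPC
  obtain ⟨hn8, hnmod⟩ := card_sylow_sub_ge P Q hQP Ct hPC hQC
  have h28c : 28 ∣ Nat.card (Ct ⊓ N : Subgroup G) := by
    have h7 : 7 ∣ Nat.card (Ct ⊓ N : Subgroup G) := by
      have := Subgroup.card_dvd_of_le (le_inf hPC le_normalizer : (P : Subgroup G) ≤ Ct ⊓ N)
      rwa [hPcard] at this
    have h4 : 4 ∣ Nat.card (Ct ⊓ N : Subgroup G) := by
      have := Subgroup.card_dvd_of_le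
        (le_inf hKPC ((inf_le_right : KP ≤ T).trans hTN) : KP ≤ Ct ⊓ N)
      rw [hKPcard] at this
      simpa using this
    exact (Nat.Coprime.mul_dvd_of_dvd_of_dvd (by norm_num : Nat.Coprime 7 4) h7 h4)
  have hc56 : Nat.card (Ct ⊓ N : Subgroup G) ∣ 56 := by
    have := Subgroup.card_dvd_of_le (inf_le_right : Ct ⊓ N ≤ N)
    rwa [hNP] at this
  have hidx9 : Ct.index = 9 := by
    obtain ⟨e, he⟩ := h28c
    rw [he] at hs hc56
    have he12 : e = 1 ∨ e = 2 := by
      have h1 : e ∣ 2 := by
        have : 28 * e ∣ 28 * 2 := hc56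
        exact Nat.dvd_of_mul_dvd_mul_left (by norm_num) this
      have := Nat.le_of_dvd (by norm_num) h1
      have he0 : e ≠ 0 := by
        rintro rfl
        simp at h1
      omega
    rw [hs] at hmulC
    have hle : Nat.card (Sylow 7 Ct) * (28 * e) * 8 ≤ 2016 := by
      calc Nat.card (Sylow 7 Ct) * (28 * e) * 8
          ≤ Nat.card (Sylow 7 Ct) * (28 * e) * Ct.index := Nat.mul_le_mul_left _ hidx8
        _ = 2016 := hmulC
    rcases he12 with rfl | rfl
    · have hn9 : Nat.card (Sylow 7 Ct) ≤ 9 := by omega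
      have hn : Nat.card (Sylow 7 Ct) = 8 := by omega
      rw [hn] at hmulC
      omega
    · exfalso
      have : 8 * (28 * 2) * 8 ≤ Nat.card (Sylow 7 Ct) * (28 * 2) * 8 := by
        apply Nat.mul_le_mul_right
        apply Nat.mul_le_mul_right
        exact hn8
      omega
  have hX : Nat.card (G ⧸ Ct) = 9 := hidx9
  have hbase : ∀ g ∈ Ct, g • ((1 : G) : G ⧸ Ct) = ((1 : G) : G ⧸ Ct) := by
    intro g hg
    rw [smul_coset_eq_iff]
    simpa using hg
  have hstab : stabilizer G ((1 : G) : G ⧸ Ct) ≠ ⊤ := by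
    rw [MulAction.stabilizer_quotient]; exact hCttop
  set FP : Set (G ⧸ Ct) := {x | ∀ d ∈ (P : Subgroup G), d • x = x} with hFPdef
  have hFPmod : FP.ncard % 7 = 2 := by
    have h1 := card_fixed_mod_gen (X := G ⧸ Ct) (P : Subgroup G) P.2 1 (one_mem _)
    have h2 : Nat.card {x : G ⧸ Ct // (1 : G) • x = x} = 9 := by
      rw [← hX]
      exact Nat.card_congr (Equiv.subtypeUnivEquiv (fun x => one_smul G x))
    have h3 : Nat.card {x : G ⧸ Ct // (1 : G) • x = x ∧ ∀ d ∈ (P : Subgroup G), d • x = x}
        = FP.ncard := by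
      rw [← Nat.card_coe_set_eq]
      apply Nat.card_congr
      exact ⟨fun x => ⟨x.1, x.2.2⟩, fun x => ⟨x.1, one_smul G x.1, x.2⟩, fun x => rfl,
        fun x => rfl⟩
    rw [h2, h3] at h1
    omega
  have hFPle : FP.ncard ≤ 9 := by
    have := Set.ncard_le_ncard (Set.subset_univ FP) (Set.toFinite _)
    rwa [Set.ncard_univ, hX] at this
  have hFPne9 : FP.ncard ≠ 9 := by
    intro h9
    have huniv : FP = Set.univ := by
      apply Set.eq_of_subset_of_ncard_le (Set.subset_univ _) _ (Set.toFinite _)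
      rw [Set.ncard_univ, hX, h9]
    obtain ⟨a, ha⟩ := Subgroup.ne_bot_iff_exists_ne_one.mp hPbot
    apply ha
    apply Subtype.ext
    apply eq_one_of_fix_all' _ hstab (a : G)
    intro x
    have : x ∈ FP := by rw [huniv]; trivial
    exact this a a.2
  have hFP2 : FP.ncard = 2 := by omega
  have hα : ((1 : G) : G ⧸ Ct) ∈ FP := fun d hd => hbase d (hPC hd)
  have htFP : ∀ z ∈ FP, (t' : G) • z ∈ FP := by
    intro z hz d hd
    have hcomm : d * (t' : G) = (t' : G) * d := Subgroup.mem_centralizer_iff.mp htCP d hd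
    rw [← mul_smul, hcomm, mul_smul, hz d hd]
  have htfix : ∀ z ∈ FP, (t' : G) • z = z := by
    intro z hz
    by_cases hzα : z = ((1 : G) : G ⧸ Ct)
    · rw [hzα]; exact hbase _ htCt
    · by_contra hne
      have h1 := htFP z hz
      have h2 : (t' : G) • z ≠ ((1 : G) : G ⧸ Ct) := by
        intro h
        apply hzα
        have : (t' : G) • z = (t' : G) • ((1 : G) : G ⧸ Ct) := by rw [h, hbase _ htCt]
        exact smul_left_cancel _ this
      have hsub : ({((1 : G) : G ⧸ Ct), z, (t' : G) • z} : Set (G ⧸ Ct)) ⊆ FP := by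
        intro w hw
        simp only [Set.mem_insert_iff, Set.mem_singleton_iff] at hw
        rcases hw with rfl | rfl | rfl
        · exact hα
        · exact hz
        · exact h1
      have h3 : ({((1 : G) : G ⧸ Ct), z, (t' : G) • z} : Set (G ⧸ Ct)).ncard = 3 :=
        Set.ncard_eq_three.mpr ⟨_, _, _, Ne.symm hzα, Ne.symm h2, Ne.symm hne, rfl⟩
      have := Set.ncard_le_ncard hsub (Set.toFinite _)
      omega
  have hmodt := card_fixed_mod_gen (X := G ⧸ Ct) (P : Subgroup G) P.2 (t' : G) htCP
  have hR : Nat.card {x : G ⧸ Ct // (t' : G) • x = x ∧ ∀ d ∈ (P : Subgroup G), d • x = x}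
      = FP.ncard := by
    rw [← Nat.card_coe_set_eq]
    apply Nat.card_congr
    exact ⟨fun x => ⟨x.1, x.2.2⟩, fun x => ⟨x.1, htfix x.1 x.2, x.2⟩, fun x => rfl,
      fun x => rfl⟩
  rw [hR, hFP2] at hmodt
  obtain ⟨k, hk⟩ := card_eq_fixed_add_four_mul hG (Ω := G ⧸ Ct) (t' : G) htt
  rw [hX] at hk
  have hall : ∀ x : G ⧸ Ct, (t' : G) • x = x := by
    by_contra hcon
    push Not at hcon
    obtain ⟨x, hx⟩ := hcon
    have hlt := Finite.card_subtype_lt (p := fun y : G ⧸ Ct => (t' : G) • y = y) (x := x) hx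
    rw [hX] at hlt
    omega
  have hz1 := eq_one_of_fix_all' ((1 : G) : G ⧸ Ct) hstab (t' : G) hall
  rw [hz1, orderOf_one] at hto
  omega

end Cfsg.Agent.Lib.Helper9.SmallOrd
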