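import Mathlib
import Cfsg.Agent.Lib.Helper9.SmallOrd22

set_option autoImplicit false

namespace Cfsg.Agent.Lib.Helper9.SmallOrd

open Subgroup MulAction

section general

variable {G : Type*} [Group G] [Finite G] {p : ℕ} [hp : Fact p.Prime]

/-- Fixed points of a subgroup `E` centralizing a `p`-subgroup `D`, modulo `p`. -/
theorem card_fixed_mod_sub {X : Type*} [MulAction G X] [Finite X] (D E : Subgroup G)
    (hD : IsPGroup p D) (hE : E ≤ centralizer (D : Set G)) :
    Nat.card {x : X // ∀ e ∈ E, e • x = x} % p =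
      Nat.card {x : X // (∀ e ∈ E, e • x = x) ∧ ∀ d ∈ D, d • x = x} % p := by
  classical
  let act : MulAction D {x : X // ∀ e ∈ E, e • x = x} :=
    { smul := fun d x => ⟨(d : G) • x.1, by
        intro e he
        have hc : e * (d : G) = (d : G) * e :=
          ((Subgroup.mem_centralizer_iff.mp (hE he)) d d.2).symm
        rw [← mul_smul, hc, mul_smul, x.2 e he]⟩
      one_smul := fun x => Subtype.ext (one_smul G x.1)
      mul_smul := fun a b x => Subtype.ext (mul_smul (a : G) (b : G) x.1) }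
  have h1 := hD.card_modEq_card_fixedPoints {x : X // ∀ e ∈ E, e • x = x}
  have h2 : Nat.card (fixedPoints D {x : X // ∀ e ∈ E, e • x = x}) =
      Nat.card {x : X // (∀ e ∈ E, e • x = x) ∧ ∀ d ∈ D, d • x = x} := by
    apply Nat.card_congr
    refine ⟨fun c => ⟨c.1.1, c.1.2, fun d hd => ?_⟩, fun x => ⟨⟨x.1, x.2.1⟩, fun d => ?_⟩,
      fun c => rfl, fun x => rfl⟩
    · have := c.2 ⟨d, hd⟩
      exact congrArg Subtype.val this
    · exact Subtype.ext (x.2.2 d d.2)
  rw [h2] at h1
  exact h1

/-- Only the trivial coset of `N(P)` is fixed by the Sylow subgroup `P`. -/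
theorem coset_fixed_unique (P : Sylow p G)
    (x : G ⧸ normalizer ((P : Subgroup G) : Set G))
    (hx : ∀ d ∈ (P : Subgroup G), d • x = x) :
    x = ((1 : G) : G ⧸ normalizer ((P : Subgroup G) : Set G)) := by
  induction x using QuotientGroup.induction_on with
  | H g =>
    have h1 : ∀ d ∈ (P : Subgroup G), g⁻¹ * d * g ∈ normalizer ((P : Subgroup G) : Set G) :=
      fun d hd => (smul_coset_eq_iff _ d g).mp (hx d hd)
    set R : Sylow p G := g⁻¹ • P with hR
    have hRmem : ∀ y, y ∈ (R : Subgroup G) ↔ g * y * g⁻¹ ∈ (P : Subgroup G) := by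
      intro y
      rw [hR, Sylow.smul_def, Sylow.pointwise_smul_def,
        Subgroup.mem_pointwise_smul_iff_inv_smul_mem]
      simp [MulAut.smul_def]
    have hRN : (R : Subgroup G) ≤ normalizer ((P : Subgroup G) : Set G) := by
      intro y hy
      have := h1 _ ((hRmem y).mp hy)
      have e : g⁻¹ * (g * y * g⁻¹) * g = y := by group
      rwa [e] at this
    have hRP : (R : Subgroup G) ≤ (P : Subgroup G) := by
      intro y hy
      have hy2 : y ∈ (R : Subgroup G) ⊓ (P : Subgroup G) := by
        rw [← R.2.inf_normalizer_sylow P]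
        exact ⟨hy, hRN hy⟩
      exact hy2.2
    have hRe : R = P := Cfsg.Agent.Lib.Helper3.sylow_eq_of_le R P hRP
    have hg : g⁻¹ ∈ normalizer ((P : Subgroup G) : Set G) :=
      Sylow.smul_eq_iff_mem_normalizer.mp hRe
    rw [QuotientGroup.eq]
    simpa using hg

/-- An element of order two normalizing `⟨s⟩`, `s` of prime order, centralizes or inverts `s`. -/
theorem conj_eq_or_inv_of_sq (s u : G) (hs : orderOf s = p) (hu : u * u = 1)
    (hus : u * s * u⁻¹ ∈ zpowers s) : u * s * u⁻¹ = s ∨ u * s * u⁻¹ = s⁻¹ := by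
  have hfin : IsOfFinOrder s := isOfFinOrder_of_finite s
  obtain ⟨i, hi⟩ := (mem_powers_iff_mem_zpowers (x := s)).mpr hus
  have hi' : s ^ i = u * s * u⁻¹ := hi
  have huinv : u⁻¹ = u := inv_eq_of_mul_eq_one_left hu
  have h1 : s ^ (i * i) = s ^ 1 := by
    rw [pow_mul, hi', pow_one]
    have : (u * s * u⁻¹) ^ i = u * s ^ i * u⁻¹ := by
      rw [← MulAut.conj_apply, ← MulAut.conj_apply, map_pow]
    rw [this, hi', huinv]
    have : u * (u * s * u) * u = (u * u) * s * (u * u) := by group
    rw [this, hu, one_mul, mul_one]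
  have h2 : i * i ≡ 1 [MOD p] := by
    have := pow_eq_pow_iff_modEq.mp h1
    rwa [hs] at this
  have h3 : ((i : ZMod p)) * (i : ZMod p) = 1 := by
    have := (ZMod.natCast_eq_natCast_iff (i * i) 1 p).mpr h2
    push_cast at this
    exact this
  rcases mul_self_eq_one_iff.mp h3 with h4 | h4
  · left
    have h5 : i ≡ 1 [MOD p] := by
      have : ((i : ℕ) : ZMod p) = ((1 : ℕ) : ZMod p) := by rw [h4]; simp
      exact (ZMod.natCast_eq_natCast_iff i 1 p).mp this
    rw [← hi']
    have : s ^ i = s ^ 1 := pow_eq_pow_iff_modEq.mpr (by rw [hs]; exact h5)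
    rw [this, pow_one]
  · right
    have h5 : ((i + 1 : ℕ) : ZMod p) = 0 := by
      push_cast
      rw [h4]; ring
    have h6 : p ∣ i + 1 := (ZMod.natCast_eq_zero_iff (i + 1) p).mp h5
    have h7 : s ^ (i + 1) = 1 := by
      rw [← hs] at h6
      exact orderOf_dvd_iff_pow_eq_one.mp h6
    rw [← hi']
    rw [pow_succ] at h7
    exact eq_inv_of_mul_eq_one_left h7

/-- Two involutions inverting `s` differ by an element centralizing `⟨s⟩`. -/
theorem inv_mul_mem_centralizer_of_inv (s u g : G) (hu : u * u = 1)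
    (hus : u * s * u⁻¹ = s⁻¹) (hgs : g * s * g⁻¹ = s⁻¹) :
    u⁻¹ * g ∈ centralizer ((zpowers s : Subgroup G) : Set G) := by
  have huinv : u⁻¹ = u := inv_eq_of_mul_eq_one_left hu
  have h1 : (u⁻¹ * g) * s = s * (u⁻¹ * g) := by
    have e1 : g * s = s⁻¹ * g := by
      have := congrArg (· * g) hgs
      simpa [mul_assoc] using this
    have e2 : u * s⁻¹ = s * u := by
      calc u * s⁻¹ = (u * s * u⁻¹)⁻¹ * u := by group
        _ = (s⁻¹)⁻¹ * u := by rw [hus]
        _ = s * u := by rw [inv_inv]
    rw [huinv, mul_assoc, e1, ← mul_assoc, e2, mul_assoc]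
  rw [Subgroup.mem_centralizer_iff]
  intro h hh
  obtain ⟨k, rfl⟩ := Subgroup.mem_zpowers_iff.mp hh
  have hc : Commute (u⁻¹ * g) s := h1
  exact ((hc.zpow_right k).eq).symm

/-- A nontrivial element of a subgroup of prime order generates it. -/
theorem zpowers_eq_of_card_prime (P : Subgroup G) (hP : Nat.card P = p) (s : G) (hs : s ∈ P)
    (hs1 : s ≠ 1) : orderOf s = p ∧ zpowers s = P := by
  have h1 : orderOf s ∣ p := by
    have := orderOf_dvd_natCard (⟨s, hs⟩ : P)
    rwa [Subgroup.orderOf_mk, hP] at this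
  have h2 : orderOf s = p := by
    rcases (Nat.dvd_prime hp.1).mp h1 with h | h
    · exact absurd (orderOf_eq_one_iff.mp h) hs1
    · exact h
  refine ⟨h2, ?_⟩
  apply Subgroup.eq_of_le_of_card_ge (Subgroup.zpowers_le.mpr hs)
  rw [Nat.card_zpowers, h2, hP]

/-- Conjugates of an involution `t` inside `N(P)`, where `P` has odd prime order `p`:
there are at most `2 |C(P)| - p` of them. -/
theorem card_conj_invol_normalizer_le (P : Sylow p G) (hP : Nat.card P = p) (hp2 : p ≠ 2)
    (t : G) (ht : t * t = 1) (ht1 : t ≠ 1) :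
    Nat.card {g : G // IsConj t g ∧ g ∈ normalizer ((P : Subgroup G) : Set G)} + p ≤
      2 * Nat.card (centralizer ((P : Subgroup G) : Set G)) := by
  classical
  have hPbot : (P : Subgroup G) ≠ ⊥ := by
    intro h
    have : Nat.card (P : Subgroup G) = 1 := by rw [h]; exact Subgroup.card_bot
    have := hp.1.one_lt
    omega
  obtain ⟨s', hs'⟩ := Subgroup.ne_bot_iff_exists_ne_one.mp hPbot
  set s : G := (s' : G) with hsdef
  have hsP : s ∈ (P : Subgroup G) := s'.2
  have hs1 : s ≠ 1 := fun h => hs' (Subtype.ext h)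
  obtain ⟨hso, hsz⟩ := zpowers_eq_of_card_prime (P : Subgroup G) hP s hsP hs1
  set N := normalizer ((P : Subgroup G) : Set G) with hNdef
  set C := centralizer ((P : Subgroup G) : Set G) with hCdef
  set A : Set G := {g : G | IsConj t g ∧ g ∈ N} with hAdef
  have hPC : (P : Subgroup G) ≤ C := by
    have hcyc : IsCyclic (P : Subgroup G) := isCyclic_of_prime_card hP
    have hcomm : IsMulCommutative (P : Subgroup G) :=
      ⟨⟨fun a b => hcyc.commGroup.mul_comm a b⟩⟩
    exact Cfsg.Agent.Lib.Helper3.le_centralizer_of_isMulCommutative (P : Subgroup G)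
  have hA1 : ∀ g ∈ A, g * g = 1 ∧ g ≠ 1 := by
    intro g hg
    obtain ⟨c, hc⟩ := isConj_iff.mp hg.1
    refine ⟨?_, ?_⟩
    · rw [← hc]
      have : c * t * c⁻¹ * (c * t * c⁻¹) = c * (t * t) * c⁻¹ := by group
      rw [this, ht]; group
    · intro h
      apply ht1
      rw [h] at hc
      have : t = c⁻¹ * (c * t * c⁻¹) * c := by group
      rw [this, hc]; group
  have hA2 : ∀ g ∈ A, g ∉ (P : Subgroup G) := by
    intro g hg hgP
    obtain ⟨hgg, hg1⟩ := hA1 g hg
    have h1 : orderOf g ∣ p := by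
      have := orderOf_dvd_natCard (⟨g, hgP⟩ : (P : Subgroup G))
      rwa [Subgroup.orderOf_mk, hP] at this
    have h2 : orderOf g ∣ 2 := orderOf_dvd_of_pow_eq_one (by rw [pow_two]; exact hgg)
    have h3 : orderOf g ∣ Nat.gcd p 2 := Nat.dvd_gcd h1 h2
    have h4 : Nat.gcd p 2 = 1 := by
      rw [Nat.coprime_primes hp.1 Nat.prime_two |>.mpr hp2]
    rw [h4] at h3
    exact hg1 (orderOf_eq_one_iff.mp (Nat.dvd_one.mp h3))
  have hA3 : ∀ g ∈ A, g ∉ C → g * s * g⁻¹ = s⁻¹ := by
    intro g hg hgC
    obtain ⟨hgg, hg1⟩ := hA1 g hg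
    have hgN : g ∈ N := hg.2
    have h1 : g * s * g⁻¹ ∈ zpowers s := by
      rw [hsz]
      exact (Subgroup.mem_normalizer_iff.mp hgN s).mp hsP
    rcases conj_eq_or_inv_of_sq s g hso hgg h1 with h2 | h2
    · exfalso
      apply hgC
      rw [hCdef, ← hsz, Subgroup.mem_centralizer_iff]
      intro h hh
      obtain ⟨k, rfl⟩ := Subgroup.mem_zpowers_iff.mp hh
      have hc : Commute g s := by
        have h3 : g * s = s * g := by
          have := congrArg (· * g) h2
          simpa [mul_assoc] using this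
        exact h3
      exact ((hc.zpow_right k).eq).symm
    · exact h2
  set A2 : Set G := {g : G | g ∈ A ∧ g ∉ C} with hA2def
  have hsub : A ⊆ ((C : Set G) \ ((P : Subgroup G) : Set G)) ∪ A2 := by
    intro g hg
    by_cases hgC : g ∈ C
    · left
      exact ⟨hgC, hA2 g hg⟩
    · right
      exact ⟨hg, hgC⟩
  have hCfin : (C : Set G).Finite := Set.toFinite _
  have hA2le : A2.ncard ≤ (C : Set G).ncard := by
    by_cases hne : A2.Nonempty
    · obtain ⟨u, hu⟩ := hne
      have huu := (hA1 u hu.1).1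
      have hus := hA3 u hu.1 hu.2
      apply Set.ncard_le_ncard_of_injOn (fun g => u⁻¹ * g) _ _ hCfin
      · intro g hg
        have := inv_mul_mem_centralizer_of_inv s u g huu hus (hA3 g hg.1 hg.2)
        rw [hsz] at this
        exact this
      · intro a _ b _ hab
        exact mul_left_cancel hab
    · rw [Set.not_nonempty_iff_eq_empty.mp hne, Set.ncard_empty]
      exact Nat.zero_le _
  have hdiff : ((C : Set G) \ ((P : Subgroup G) : Set G)).ncard =
      (C : Set G).ncard - (((P : Subgroup G) : Set G)).ncard :=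
    Set.ncard_diff (fun x hx => hPC hx) (Set.toFinite _)
  have hCc : (C : Set G).ncard = Nat.card C := (Nat.card_coe_set_eq _).symm
  have hPc : (((P : Subgroup G) : Set G)).ncard = p := by
    rw [← Nat.card_coe_set_eq]; exact hP
  have hple : p ≤ Nat.card C := by
    rw [← hP]
    exact Subgroup.card_le_of_le hPC
  have hAle : A.ncard ≤ ((C : Set G) \ ((P : Subgroup G) : Set G)).ncard + A2.ncard :=
    (Set.ncard_le_ncard hsub (Set.toFinite _)).trans (Set.ncard_union_le _ _)
  have hAc : Nat.card {g : G // IsConj t g ∧ g ∈ N} = A.ncard := by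
    rw [← Nat.card_coe_set_eq]; rfl
  rw [hAc]
  rw [hdiff, hCc, hPc] at hAle
  rw [hCc] at hA2le
  omega

end general

end Cfsg.Agent.Lib.Helper9.SmallOrd
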