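import Mathlib
import Cfsg.Agent.Lib.Helper9.SmallOrd23
import Cfsg.Agent.S1019

set_option autoImplicit false

namespace Cfsg.Agent.Lib.Helper9.SmallOrd

open Subgroup MulAction

section general

variable {G : Type*} [Group G] [Finite G]

/-- Points fixed by `⟨t⟩` are the points fixed by `t`. -/
theorem card_fixed_zpowers {X : Type*} [MulAction G X] (t : G) :
    Nat.card {x : X // ∀ e ∈ zpowers t, e • x = x} = Nat.card {x : X // t • x = x} := by
  apply Nat.card_congr
  refine ⟨fun x => ⟨x.1, x.2 t (Subgroup.mem_zpowers t)⟩, fun x => ⟨x.1, fun e he => ?_⟩,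
    fun x => rfl, fun x => rfl⟩
  have hle : zpowers t ≤ stabilizer G x.1 := by
    rw [Subgroup.zpowers_le]
    exact x.2
  exact hle he

/-- `P ≤ C(⟨t⟩)` when `t` centralizes `P`. -/
theorem le_centralizer_zpowers (P : Subgroup G) (t : G) (ht : t ∈ centralizer (P : Set G)) :
    P ≤ centralizer ((zpowers t : Subgroup G) : Set G) := by
  intro x hx
  rw [Subgroup.mem_centralizer_iff]
  intro h hh
  obtain ⟨k, rfl⟩ := Subgroup.mem_zpowers_iff.mp hh
  have hc : Commute t x := (Subgroup.mem_centralizer_iff.mp ht) x hx |>.symm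
  exact (hc.zpow_left k).eq

end general

variable {G : Type*} [Group G] [Finite G] [IsSimpleGroup G]

set_option maxHeartbeats 1600000 in
/-- Order `1440`, sixteen Sylow `5`-subgroups. -/
theorem ne_1440_case16 (hG : ¬ IsMulCommutative G) (hcard : Nat.card G = 1440)
    (h16 : Nat.card (Sylow 5 G) = 16) : False := by
  haveI : Fact (Nat.Prime 5) := ⟨by norm_num⟩
  haveI : Fact (Nat.Prime 3) := ⟨Nat.prime_three⟩
  have hc : Nat.card G = 5 ^ 1 * 288 := by rw [hcard]; norm_num
  obtain ⟨P⟩ : Nonempty (Sylow 5 G) := inferInstance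
  obtain ⟨hPcard, hPbot, hPtop, -, -, -, hNtop, hNcard, -⟩ :=
    sylow_data hG 1 288 Nat.one_pos (by norm_num) hc (by norm_num) P
  rw [pow_one] at hPcard
  have hN : Nat.card (normalizer ((P : Subgroup G) : Set G)) = 5 * 18 := by
    rw [h16, hcard] at hNcard; omega
  obtain ⟨r, hr, hCr⟩ := card_centralizer_sylow_prime P hPcard 18 hN
  have hr12 : r = 1 ∨ r = 2 := by
    have hr2 : r ∣ 2 := by simpa using hr
    have := Nat.le_of_dvd (by norm_num) hr2
    interval_cases r <;> simp_all
  have hCN : centralizer ((P : Subgroup G) : Set G) ≤ normalizer ((P : Subgroup G) : Set G) :=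
    Subgroup.centralizer_le_normalizer _
  have hC45 : Nat.card (centralizer ((P : Subgroup G) : Set G)) = 45 := by
    rcases hr12 with rfl | rfl
    · exfalso
      have heq : centralizer ((P : Subgroup G) : Set G) = normalizer ((P : Subgroup G) : Set G) := by
        apply Subgroup.eq_of_le_of_card_ge hCN
        rw [hN]; omega
      rcases Cfsg.Agent.Lib.Helper3.sylow_eq_bot_or_top_of_normalizer_le_centralizer P
        (heq ▸ le_rfl) with h' | h'
      · exact hPbot h'
      · exact hPtop h'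
    · omega
  obtain ⟨Q, hQP⟩ : ∃ Q : Sylow 5 G, Q ≠ P := by
    by_contra h
    push Not at h
    have : Nat.card (Sylow 5 G) = 1 :=
      Nat.card_eq_one_iff_unique.mpr ⟨⟨fun a b => by rw [h a, h b]⟩, ⟨P⟩⟩
    omega
  obtain ⟨hQcard, -, -, -, -, -, -, -, -⟩ :=
    sylow_data hG 1 288 Nat.one_pos (by norm_num) hc (by norm_num) Q
  rw [pow_one] at hQcard
  have hle := card_normalizer_le P Q hQP
  rw [h16, hN] at hle
  set X : Subgroup G := normalizer ((P : Subgroup G) : Set G) ⊓
    normalizer ((Q : Subgroup G) : Set G) with hXdef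
  have hX6 : 6 ≤ Nat.card X := by omega
  have hXdvd : Nat.card X ∣ 90 := by
    have := Subgroup.card_dvd_of_le (inf_le_left : X ≤ normalizer ((P : Subgroup G) : Set G))
    rwa [hN] at this
  have h5X : ¬ 5 ∣ Nat.card X := by
    intro h5
    obtain ⟨x, hx⟩ := exists_prime_orderOf_dvd_card' 5 h5
    have hxo : orderOf (x : G) = 5 := by rw [Subgroup.orderOf_coe, hx]
    have hx1 : (x : G) ≠ 1 := by
      intro h
      rw [h, orderOf_one] at hxo
      omega
    have hK : IsPGroup 5 (zpowers (x : G)) :=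
      IsPGroup.of_card (n := 1) (by rw [Nat.card_zpowers, hxo]; norm_num)
    have hxP : (x : G) ∈ (P : Subgroup G) := by
      have h2 : (x : G) ∈ zpowers (x : G) ⊓ (P : Subgroup G) := by
        rw [← hK.inf_normalizer_sylow P]
        exact ⟨Subgroup.mem_zpowers _, x.2.1⟩
      exact h2.2
    have hxQ : (x : G) ∈ (Q : Subgroup G) := by
      have h2 : (x : G) ∈ zpowers (x : G) ⊓ (Q : Subgroup G) := by
        rw [← hK.inf_normalizer_sylow Q]
        exact ⟨Subgroup.mem_zpowers _, x.2.2⟩
      exact h2.2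
    have e1 := (zpowers_eq_of_card_prime (P : Subgroup G) hPcard (x : G) hxP hx1).2
    have e2 := (zpowers_eq_of_card_prime (Q : Subgroup G) hQcard (x : G) hxQ hx1).2
    apply hQP
    exact Sylow.ext (e2.symm.trans e1)
  have h3X : 3 ∣ Nat.card X := by
    have hmem : Nat.card X ∈ (Nat.divisors 90).filter (fun n => 6 ≤ n ∧ ¬ 5 ∣ n) := by
      rw [Finset.mem_filter, Nat.mem_divisors]
      exact ⟨⟨hXdvd, by norm_num⟩, hX6, h5X⟩
    have hset : (Nat.divisors 90).filter (fun n => 6 ≤ n ∧ ¬ 5 ∣ n) = {6, 9, 18} := by decide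
    rw [hset] at hmem
    simp only [Finset.mem_insert, Finset.mem_singleton] at hmem
    rcases hmem with h | h | h <;> rw [h] <;> norm_num
  have hrel : (centralizer ((P : Subgroup G) : Set G)).relIndex X ≤ 2 := by
    have h1 := card_inf_mul_relIndex (centralizer ((P : Subgroup G) : Set G))
      (normalizer ((P : Subgroup G) : Set G))
    rw [inf_eq_left.mpr hCN, hC45, hN] at h1
    have h2 : (centralizer ((P : Subgroup G) : Set G)).relIndex
        (normalizer ((P : Subgroup G) : Set G)) = 2 := by omega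
    have h3 := Subgroup.relIndex_le_of_le_right
      (H := centralizer ((P : Subgroup G) : Set G))
      (inf_le_left : X ≤ normalizer ((P : Subgroup G) : Set G)) (by rw [h2]; norm_num)
    rwa [h2] at h3
  have hY := card_inf_mul_relIndex (centralizer ((P : Subgroup G) : Set G)) X
  have h3Y : 3 ∣ Nat.card (centralizer ((P : Subgroup G) : Set G) ⊓ X : Subgroup G) := by
    have h1 : 3 ∣ Nat.card (centralizer ((P : Subgroup G) : Set G) ⊓ X : Subgroup G) *
        (centralizer ((P : Subgroup G) : Set G)).relIndex X := by rw [hY]; exact h3X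
    have hr0 : (centralizer ((P : Subgroup G) : Set G)).relIndex X ≠ 0 := by
      intro h0
      rw [h0, mul_zero] at hY
      omega
    have hcop : Nat.Coprime 3 ((centralizer ((P : Subgroup G) : Set G)).relIndex X) := by
      have : (centralizer ((P : Subgroup G) : Set G)).relIndex X = 1 ∨
          (centralizer ((P : Subgroup G) : Set G)).relIndex X = 2 := by omega
      rcases this with h | h <;> rw [h] <;> norm_num
    exact hcop.dvd_of_dvd_mul_right h1
  obtain ⟨b, hb⟩ := exists_prime_orderOf_dvd_card' 3 h3Y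
  have hbo : orderOf (b : G) = 3 := by rw [Subgroup.orderOf_coe, hb]
  have hbC : (b : G) ∈ centralizer ((P : Subgroup G) : Set G) := b.2.1
  have hbQ : (b : G) ∈ normalizer ((Q : Subgroup G) : Set G) := b.2.2.2
  have hmod5 := card_fixed_mod P (b : G) hbC
  have hK3 : IsPGroup 3 (zpowers (b : G)) :=
    IsPGroup.of_card (n := 1) (by rw [Nat.card_zpowers, hbo]; norm_num)
  have hmod3 := card_fixed_mod_gen (X := Sylow 5 G) (zpowers (b : G)) hK3 1 (one_mem _)
  have e1 : Nat.card {R : Sylow 5 G // (1 : G) • R = R} = 16 := by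
    rw [← h16]
    exact Nat.card_congr (Equiv.subtypeUnivEquiv (fun R => one_smul G R))
  have e2 : Nat.card {R : Sylow 5 G // (1 : G) • R = R ∧ ∀ d ∈ zpowers (b : G), d • R = R} =
      Nat.card {R : Sylow 5 G // (b : G) • R = R} := by
    apply Nat.card_congr
    refine ⟨fun x => ⟨x.1, x.2.2 _ (Subgroup.mem_zpowers _)⟩,
      fun x => ⟨x.1, one_smul G x.1, fun e he => ?_⟩, fun x => rfl, fun x => rfl⟩
    have hle : zpowers (b : G) ≤ stabilizer G x.1 := by
      rw [Subgroup.zpowers_le]
      exact x.2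
    exact hle he
  rw [e1, e2] at hmod3
  have hbP : (b : G) • P = P :=
    Sylow.smul_eq_iff_mem_normalizer.mpr (hCN hbC)
  have hbQ' : (b : G) • Q = Q := Sylow.smul_eq_iff_mem_normalizer.mpr hbQ
  have hf2 : 1 < Nat.card {R : Sylow 5 G // (b : G) • R = R} := by
    rw [Finite.one_lt_card_iff_nontrivial]
    refine ⟨⟨⟨Q, hbQ'⟩, ⟨P, hbP⟩, ?_⟩⟩
    intro h
    exact hQP (congrArg Subtype.val h)
  have hf16 : Nat.card {R : Sylow 5 G // (b : G) • R = R} ≤ 16 := by
    rw [← h16]
    exact Finite.card_subtype_le _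
  have hall : ∀ R : Sylow 5 G, (b : G) • R = R := by
    by_contra hcon
    push Not at hcon
    obtain ⟨R, hR⟩ := hcon
    have hlt := Finite.card_subtype_lt (p := fun y : Sylow 5 G => (b : G) • y = y) (x := R) hR
    rw [h16] at hlt
    omega
  have hb1 := eq_one_of_fix_all P hNtop (b : G) hall
  rw [hb1, orderOf_one] at hbo
  omega

set_option maxHeartbeats 1600000 in
/-- Order `1440`, thirty-six Sylow `5`-subgroups: the centralizer of an involution centralizing
`P` lies in `N(P)`. -/
theorem key_1440 (hG : ¬ IsMulCommutative G) (hcard : Nat.card G = 1440)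
    (h36 : Nat.card (Sylow 5 G) = 36) (P : Sylow 5 G) (t : G) (ht : t * t = 1) (ht1 : t ≠ 1)
    (htC : t ∈ centralizer ((P : Subgroup G) : Set G)) :
    centralizer ({t} : Set G) ≤ normalizer ((P : Subgroup G) : Set G) ∧
      Nat.card (centralizer ({t} : Set G)) *
        Nat.card {g : G // IsConj t g ∧ g ∈ normalizer ((P : Subgroup G) : Set G)} = 640 := by
  haveI : Fact (Nat.Prime 5) := ⟨by norm_num⟩
  haveI : Fact (Nat.Prime 2) := ⟨Nat.prime_two⟩
  have hc : Nat.card G = 5 ^ 1 * 288 := by rw [hcard]; norm_num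
  obtain ⟨hPcard, hPbot, hPtop, -, -, -, hNtop, hNcard, -⟩ :=
    sylow_data hG 1 288 Nat.one_pos (by norm_num) hc (by norm_num) P
  rw [pow_one] at hPcard
  set N := normalizer ((P : Subgroup G) : Set G) with hNdef
  have hN : Nat.card N = 40 := by
    rw [h36, hcard] at hNcard; omega
  have hCN : centralizer ((P : Subgroup G) : Set G) ≤ N := Subgroup.centralizer_le_normalizer _
  have htN : t ∈ N := hCN htC
  have hNidx : N.index = 36 := by
    have := N.card_mul_index
    rw [hN, hcard] at this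
    omega
  have hXN : Nat.card (G ⧸ N) = 36 := hNidx
  have hbaseN : ∀ g ∈ N, g • ((1 : G) : G ⧸ N) = ((1 : G) : G ⧸ N) := by
    intro g hg
    rw [smul_coset_eq_iff]
    simpa using hg
  have hstabN : stabilizer G ((1 : G) : G ⧸ N) ≠ ⊤ := by
    rw [MulAction.stabilizer_quotient]; exact hNtop
  -- fixed points of t on G/N
  have hmod5 := card_fixed_mod_unique (X := G ⧸ N) (P : Subgroup G) P.2 t htC
    ((1 : G) : G ⧸ N) (hbaseN t htN) (fun d hd => hbaseN d (le_normalizer hd))
    (fun x hx => coset_fixed_unique P x hx)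
  obtain ⟨k, hk⟩ := card_eq_fixed_add_four_mul hG (Ω := G ⧸ N) t ht
  rw [hXN] at hk
  have hf36 : Nat.card {x : G ⧸ N // t • x = x} ≠ 36 := by
    intro h
    have hall : ∀ x : G ⧸ N, t • x = x := by
      by_contra hcon
      push Not at hcon
      obtain ⟨x, hx⟩ := hcon
      have hlt := Finite.card_subtype_lt (p := fun y : G ⧸ N => t • y = y) (x := x) hx
      rw [hXN] at hlt
      omega
    exact ht1 (eq_one_of_fix_all' ((1 : G) : G ⧸ N) hstabN t hall)
  have hf16 : Nat.card {x : G ⧸ N // t • x = x} = 16 := by omega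
  have hS := Cfsg.Agent.S1019.result N t htN
  have hfb : Nat.card (MulAction.fixedBy (G ⧸ N) t) = 16 := hf16
  rw [hfb, hNidx] at hS
  have hcls := Cfsg.Agent.Lib.Helper3.card_conj_class_mul_card_centralizer t
  rw [hcard] at hcls
  set Ct := centralizer ({t} : Set G) with hCtdef
  set a := Nat.card {g : G // IsConj t g ∧ g ∈ N} with hadef
  have h640 : Nat.card Ct * a = 640 := by
    have h1 : 16 * (Nat.card {g : G // IsConj t g} * Nat.card Ct) = 36 * (a * Nat.card Ct) := by
      rw [← mul_assoc, hS, mul_assoc]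
    rw [hcls] at h1
    have : a * Nat.card Ct = 640 := by omega
    rw [mul_comm]; exact this
  refine ⟨?_, h640⟩
  -- the centralizer of t
  have hCtdvd : Nat.card Ct ∣ 160 := by
    have h1 : Nat.card Ct ∣ 640 := ⟨a, h640.symm⟩
    have h2 : Nat.card Ct ∣ 1440 := by
      rw [← hcard]; exact Subgroup.card_subgroup_dvd_card Ct
    have := Nat.dvd_gcd h1 h2
    simpa using this
  have hPC : (P : Subgroup G) ≤ Ct := by
    intro x hx
    rw [hCtdef, Subgroup.mem_centralizer_iff]
    intro y hy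
    rw [Set.mem_singleton_iff] at hy
    rw [hy]
    exact (Subgroup.mem_centralizer_iff.mp htC x hx).symm
  have htCt : t ∈ Ct := by
    rw [hCtdef, Subgroup.mem_centralizer_iff]
    intro y hy
    rw [Set.mem_singleton_iff] at hy
    rw [hy]
  have hto : orderOf t = 2 := orderOf_eq_prime (by rw [pow_two]; exact ht) ht1
  by_contra hnot
  obtain ⟨g, hgC, hgN⟩ := Set.not_subset.mp hnot
  set Q : Sylow 5 G := g • P with hQdef
  have hQP : Q ≠ P := by
    intro h
    exact hgN (Sylow.smul_eq_iff_mem_normalizer.mp h)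
  have hQmem : ∀ y, y ∈ (Q : Subgroup G) ↔ g⁻¹ * y * g ∈ (P : Subgroup G) := by
    intro y
    rw [hQdef, Sylow.smul_def, Sylow.pointwise_smul_def,
      Subgroup.mem_pointwise_smul_iff_inv_smul_mem]
    simp [MulAut.smul_def]
  have hQC : (Q : Subgroup G) ≤ Ct := by
    intro y hy
    have h1 := hPC ((hQmem y).mp hy)
    have h2 := Ct.mul_mem (Ct.mul_mem hgC h1) (Ct.inv_mem hgC)
    have e : g * (g⁻¹ * y * g) * g⁻¹ = y := by group
    rwa [e] at h2
  obtain ⟨hn6, hnmod⟩ := card_sylow_sub_ge P Q hQP Ct hPC hQC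
  have hs := card_eq_card_sylow_mul P Ct hPC
  have h10 : 10 ∣ Nat.card (Ct ⊓ N : Subgroup G) := by
    have h5 : 5 ∣ Nat.card (Ct ⊓ N : Subgroup G) := by
      have := Subgroup.card_dvd_of_le (le_inf hPC le_normalizer : (P : Subgroup G) ≤ Ct ⊓ N)
      rwa [hPcard] at this
    have h2 : 2 ∣ Nat.card (Ct ⊓ N : Subgroup G) := by
      have h1 := orderOf_dvd_natCard (⟨t, ⟨htCt, htN⟩⟩ : (Ct ⊓ N : Subgroup G))
      have h2 : orderOf (⟨t, ⟨htCt, htN⟩⟩ : (Ct ⊓ N : Subgroup G)) = 2 := by
        rw [← Subgroup.orderOf_coe]; exact hto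
      rwa [h2] at h1
    exact (Nat.Coprime.mul_dvd_of_dvd_of_dvd (by norm_num : Nat.Coprime 5 2) h5 h2)
  have hn16 : Nat.card (Sylow 5 Ct) = 16 := by
    have hnd : Nat.card (Sylow 5 Ct) ∣ 160 :=
      dvd_trans ⟨_, hs⟩ hCtdvd
    have hmem : Nat.card (Sylow 5 Ct) ∈ (Nat.divisors 160).filter (fun n => n % 5 = 1) := by
      rw [Finset.mem_filter, Nat.mem_divisors]
      exact ⟨⟨hnd, by norm_num⟩, hnmod⟩
    have hset : (Nat.divisors 160).filter (fun n => n % 5 = 1) = {1, 16} := by decide
    rw [hset] at hmem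
    simp only [Finset.mem_insert, Finset.mem_singleton] at hmem
    rcases hmem with h | h
    · omega
    · exact h
  have hCt160 : Nat.card Ct = 160 := by
    obtain ⟨e, he⟩ := h10
    rw [hn16, he] at hs
    have : Nat.card Ct = 160 * e := by rw [hs]; ring
    have he1 : e ∣ 1 := by
      have h1 : 160 * e ∣ 160 * 1 := by rw [← this]; simpa using hCtdvd
      exact Nat.dvd_of_mul_dvd_mul_left (by norm_num) h1
    rw [Nat.dvd_one.mp he1] at this
    omega
  have hidx9 : Ct.index = 9 := by
    have := Ct.card_mul_index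
    rw [hCt160, hcard] at this
    omega
  have hCttop : Ct ≠ ⊤ := by
    intro h
    rw [h, Subgroup.index_top] at hidx9
    omega
  have hX : Nat.card (G ⧸ Ct) = 9 := hidx9
  have hbase : ∀ g ∈ Ct, g • ((1 : G) : G ⧸ Ct) = ((1 : G) : G ⧸ Ct) := by
    intro g hg
    rw [smul_coset_eq_iff]
    simpa using hg
  have hstab : stabilizer G ((1 : G) : G ⧸ Ct) ≠ ⊤ := by
    rw [MulAction.stabilizer_quotient]; exact hCttop
  -- fixed points of P on G/Ct
  have hP1 := card_fixed_mod_gen (X := G ⧸ Ct) (P : Subgroup G) P.2 1 (one_mem _)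
  have e1 : Nat.card {x : G ⧸ Ct // (1 : G) • x = x} = 9 := by
    rw [← hX]
    exact Nat.card_congr (Equiv.subtypeUnivEquiv (fun x => one_smul G x))
  have e2 : Nat.card {x : G ⧸ Ct // (1 : G) • x = x ∧ ∀ d ∈ (P : Subgroup G), d • x = x} =
      Nat.card {x : G ⧸ Ct // ∀ d ∈ (P : Subgroup G), d • x = x} := by
    apply Nat.card_congr
    exact ⟨fun x => ⟨x.1, x.2.2⟩, fun x => ⟨x.1, one_smul G x.1, x.2⟩, fun x => rfl,
      fun x => rfl⟩
  rw [e1, e2] at hP1
  have hcPle : Nat.card {x : G ⧸ Ct // ∀ d ∈ (P : Subgroup G), d • x = x} ≤ 9 := by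
    rw [← hX]; exact Finite.card_subtype_le _
  have hcP9 : Nat.card {x : G ⧸ Ct // ∀ d ∈ (P : Subgroup G), d • x = x} ≠ 9 := by
    intro h9
    have hall : ∀ x : G ⧸ Ct, ∀ d ∈ (P : Subgroup G), d • x = x := by
      by_contra hcon
      push Not at hcon
      obtain ⟨x, hx⟩ := hcon
      have hlt := Finite.card_subtype_lt
        (p := fun y : G ⧸ Ct => ∀ d ∈ (P : Subgroup G), d • y = y) (x := x)
        (by push Not; exact hx)
      rw [hX] at hlt
      omega
    obtain ⟨a', ha'⟩ := Subgroup.ne_bot_iff_exists_ne_one.mp hPbot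
    apply ha'
    apply Subtype.ext
    apply eq_one_of_fix_all' _ hstab (a' : G)
    intro x
    exact hall x a' a'.2
  have hcP4 : Nat.card {x : G ⧸ Ct // ∀ d ∈ (P : Subgroup G), d • x = x} = 4 := by omega
  -- fixed points of t
  have hEP : zpowers t ≤ centralizer ((P : Subgroup G) : Set G) := by
    rw [Subgroup.zpowers_le]; exact htC
  have hm5 := card_fixed_mod_sub (X := G ⧸ Ct) (P : Subgroup G) (zpowers t) P.2 hEP
  rw [card_fixed_zpowers] at hm5
  have hE2 : IsPGroup 2 (zpowers t) :=
    IsPGroup.of_card (n := 1) (by rw [Nat.card_zpowers, hto]; norm_num)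
  have hm2 := card_fixed_mod_sub (X := G ⧸ Ct) (zpowers t) (P : Subgroup G) hE2
    (le_centralizer_zpowers (P : Subgroup G) t htC)
  have e3 : Nat.card {x : G ⧸ Ct // (∀ e ∈ (P : Subgroup G), e • x = x) ∧
      ∀ d ∈ zpowers t, d • x = x} =
      Nat.card {x : G ⧸ Ct // (∀ e ∈ zpowers t, e • x = x) ∧
        ∀ d ∈ (P : Subgroup G), d • x = x} := by
    apply Nat.card_congr
    exact ⟨fun x => ⟨x.1, x.2.2, x.2.1⟩, fun x => ⟨x.1, x.2.2, x.2.1⟩, fun x => rfl,
      fun x => rfl⟩
  rw [e3, hcP4] at hm2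
  set kk := Nat.card {x : G ⧸ Ct // (∀ e ∈ zpowers t, e • x = x) ∧
    ∀ d ∈ (P : Subgroup G), d • x = x} with hkk
  have hkle : kk ≤ 4 := by
    rw [← hcP4]
    apply Nat.card_le_card_of_injective
      (fun x : {x : G ⧸ Ct // (∀ e ∈ zpowers t, e • x = x) ∧
        ∀ d ∈ (P : Subgroup G), d • x = x} =>
        (⟨x.1, x.2.2⟩ : {x : G ⧸ Ct // ∀ d ∈ (P : Subgroup G), d • x = x}))
    intro x y hxy
    apply Subtype.ext
    have h := congrArg (fun z : {x : G ⧸ Ct // ∀ d ∈ (P : Subgroup G), d • x = x} =>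
      (z : G ⧸ Ct)) hxy
    exact h
  have hkpos : 0 < kk := by
    rw [hkk, Nat.card_pos_iff]
    refine ⟨⟨⟨((1 : G) : G ⧸ Ct), fun e he => hbase e ?_, fun d hd => hbase d (hPC hd)⟩⟩,
      inferInstance⟩
    have hle : zpowers t ≤ Ct := by rw [Subgroup.zpowers_le]; exact htCt
    exact hle he
  obtain ⟨j, hj⟩ := card_eq_fixed_add_four_mul hG (Ω := G ⧸ Ct) t ht
  rw [hX] at hj
  set f := Nat.card {x : G ⧸ Ct // t • x = x} with hf
  have hf9 : f = 9 := by
    have h1 : kk = 2 ∨ kk = 4 := by omega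
    have h2 : j = 0 ∨ j = 1 ∨ j = 2 := by omega
    rcases h1 with h1 | h1 <;> rcases h2 with h2 | h2 | h2 <;> rw [h1] at hm5 <;>
      rw [h2] at hj <;> omega
  have hall : ∀ x : G ⧸ Ct, t • x = x := by
    by_contra hcon
    push Not at hcon
    obtain ⟨x, hx⟩ := hcon
    have hlt := Finite.card_subtype_lt (p := fun y : G ⧸ Ct => t • y = y) (x := x) hx
    rw [hX] at hlt
    omega
  exact ht1 (eq_one_of_fix_all' ((1 : G) : G ⧸ Ct) hstab t hall)

set_option maxHeartbeats 1600000 in
/-- Order `1440`, thirty-six Sylow `5`-subgroups. -/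
theorem ne_1440_case36 (hG : ¬ IsMulCommutative G) (hcard : Nat.card G = 1440)
    (h36 : Nat.card (Sylow 5 G) = 36) : False := by
  haveI : Fact (Nat.Prime 5) := ⟨by norm_num⟩
  haveI : Fact (Nat.Prime 2) := ⟨Nat.prime_two⟩
  have hc : Nat.card G = 5 ^ 1 * 288 := by rw [hcard]; norm_num
  -- uniform data
  have hA : ∀ P : Sylow 5 G, Nat.card P = 5 ∧
      Nat.card (normalizer ((P : Subgroup G) : Set G)) = 40 ∧
      (Nat.card (centralizer ((P : Subgroup G) : Set G)) = 10 ∨
        Nat.card (centralizer ((P : Subgroup G) : Set G)) = 20) := by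
    intro P
    obtain ⟨hPcard, hPbot, hPtop, -, -, -, hNtop, hNcard, -⟩ :=
      sylow_data hG 1 288 Nat.one_pos (by norm_num) hc (by norm_num) P
    rw [pow_one] at hPcard
    have hN : Nat.card (normalizer ((P : Subgroup G) : Set G)) = 5 * 8 := by
      rw [h36, hcard] at hNcard; omega
    obtain ⟨r, hr, hCr⟩ := card_centralizer_sylow_prime P hPcard 8 hN
    have hr124 : r = 1 ∨ r = 2 ∨ r = 4 := by
      have hr4 : r ∣ 4 := by simpa using hr
      have := Nat.le_of_dvd (by norm_num) hr4
      interval_cases r <;> simp_all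
    refine ⟨hPcard, by rw [hN], ?_⟩
    rcases hr124 with rfl | rfl | rfl
    · exfalso
      have hCN : centralizer ((P : Subgroup G) : Set G) ≤
          normalizer ((P : Subgroup G) : Set G) := Subgroup.centralizer_le_normalizer _
      have heq : centralizer ((P : Subgroup G) : Set G) =
          normalizer ((P : Subgroup G) : Set G) := by
        apply Subgroup.eq_of_le_of_card_ge hCN
        rw [hN]; omega
      rcases Cfsg.Agent.Lib.Helper3.sylow_eq_bot_or_top_of_normalizer_le_centralizer P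
        (heq ▸ le_rfl) with h' | h'
      · exact hPbot h'
      · exact hPtop h'
    · right; omega
    · left; omega
  -- the centralizer has order 20
  have hB : ∀ P : Sylow 5 G, Nat.card (centralizer ((P : Subgroup G) : Set G)) = 20 := by
    intro P
    obtain ⟨hPcard, hNP, hCP⟩ := hA P
    rcases hCP with h10 | h20
    · exfalso
      have h2 : 2 ∣ Nat.card (centralizer ((P : Subgroup G) : Set G)) := by rw [h10]; norm_num
      obtain ⟨t', ht'⟩ := exists_prime_orderOf_dvd_card' 2 h2
      have hto : orderOf (t' : G) = 2 := by rw [Subgroup.orderOf_coe, ht']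
      have htt : (t' : G) * (t' : G) = 1 := by
        rw [← pow_two, ← hto]; exact pow_orderOf_eq_one _
      have ht1 : (t' : G) ≠ 1 := by
        intro h
        rw [h, orderOf_one] at hto
        omega
      obtain ⟨hle, h640⟩ := key_1440 hG hcard h36 P (t' : G) htt ht1 t'.2
      have hCt40 : Nat.card (centralizer ({(t' : G)} : Set G)) ≤ 40 := by
        rw [← hNP]; exact Subgroup.card_le_of_le hle
      have ha := card_conj_invol_normalizer_le P hPcard (by norm_num) (t' : G) htt ht1
      rw [h10] at ha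
      nlinarith
    · exact h20
  obtain ⟨P⟩ : Nonempty (Sylow 5 G) := inferInstance
  obtain ⟨hPcard, hNP, -⟩ := hA P
  have hCP := hB P
  set N := normalizer ((P : Subgroup G) : Set G) with hNdef
  obtain ⟨T', hT'⟩ := Sylow.exists_subgroup_card_pow_prime (G := N) 2 (n := 3)
    (by rw [hNP]; norm_num)
  set T : Subgroup G := T'.map N.subtype with hTdef
  have hTcard : Nat.card T = 8 := by
    rw [hTdef, Subgroup.card_map_of_injective (Subgroup.subtype_injective _), hT']; norm_num
  have hTN : T ≤ N := Subgroup.map_subtype_le T'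
  have hT2 : IsPGroup 2 T := IsPGroup.of_card (n := 3) (by rw [hTcard]; norm_num)
  obtain ⟨Q, hQP, hTQ⟩ := exists_other_normalized P T hT2 hTN (by rw [h36]; norm_num)
  -- relative indices of the centralizers in T
  have hrel : ∀ R : Sylow 5 G, T ≤ normalizer ((R : Subgroup G) : Set G) →
      (centralizer ((R : Subgroup G) : Set G)).relIndex T ≤ 2 := by
    intro R hTR
    obtain ⟨hRcard, hNR, -⟩ := hA R
    have hCR := hB R
    have h1 := card_inf_mul_relIndex (centralizer ((R : Subgroup G) : Set G))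
      (normalizer ((R : Subgroup G) : Set G))
    rw [inf_eq_left.mpr (Subgroup.centralizer_le_normalizer _), hCR, hNR] at h1
    have h2 : (centralizer ((R : Subgroup G) : Set G)).relIndex
        (normalizer ((R : Subgroup G) : Set G)) = 2 := by omega
    have h3 := Subgroup.relIndex_le_of_le_right
      (H := centralizer ((R : Subgroup G) : Set G)) hTR (by rw [h2]; norm_num)
    rwa [h2] at h3
  have hrelP := hrel P hTN
  have hrelQ := hrel Q hTQ
  set B : Subgroup G := centralizer ((P : Subgroup G) : Set G) ⊓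
    centralizer ((Q : Subgroup G) : Set G) with hBdef
  have hBrel : B.relIndex T ≤ 4 :=
    (Subgroup.relIndex_inf_le).trans (Nat.mul_le_mul hrelP hrelQ)
  have hA1 := card_inf_mul_relIndex B T
  rw [hTcard] at hA1
  have hAcard2 : 2 ∣ Nat.card (B ⊓ T : Subgroup G) := by
    have hdvd : Nat.card (B ⊓ T : Subgroup G) ∣ 2 ^ 3 := ⟨_, by rw [hA1]; norm_num⟩
    obtain ⟨k, hk3, hk⟩ := (Nat.dvd_prime_pow Nat.prime_two).mp hdvd
    have hk0 : k ≠ 0 := by
      rintro rfl
      rw [hk] at hA1
      omega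
    rw [hk]
    exact dvd_pow_self 2 hk0
  obtain ⟨t', ht'⟩ := exists_prime_orderOf_dvd_card' 2 hAcard2
  have hto : orderOf (t' : G) = 2 := by rw [Subgroup.orderOf_coe, ht']
  have htB : (t' : G) ∈ B := (inf_le_left : B ⊓ T ≤ B) t'.2
  have htCP : (t' : G) ∈ centralizer ((P : Subgroup G) : Set G) := htB.1
  have htCQ : (t' : G) ∈ centralizer ((Q : Subgroup G) : Set G) := htB.2
  have htt : (t' : G) * (t' : G) = 1 := by
    rw [← pow_two, ← hto]; exact pow_orderOf_eq_one _
  have ht1 : (t' : G) ≠ 1 := by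
    intro h
    rw [h, orderOf_one] at hto
    omega
  obtain ⟨hle, -⟩ := key_1440 hG hcard h36 P (t' : G) htt ht1 htCP
  have hQC : (Q : Subgroup G) ≤ centralizer ({(t' : G)} : Set G) := by
    intro x hx
    rw [Subgroup.mem_centralizer_iff]
    intro y hy
    rw [Set.mem_singleton_iff] at hy
    rw [hy]
    exact (Subgroup.mem_centralizer_iff.mp htCQ x hx).symm
  have hQN : (Q : Subgroup G) ≤ N := hQC.trans hle
  have hQleP : (Q : Subgroup G) ≤ (P : Subgroup G) := by
    intro y hy
    have hy2 : y ∈ (Q : Subgroup G) ⊓ (P : Subgroup G) := by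
      rw [← Q.2.inf_normalizer_sylow P]
      exact ⟨hy, hQN hy⟩
    exact hy2.2
  exact hQP (Cfsg.Agent.Lib.Helper3.sylow_eq_of_le Q P hQleP)

set_option maxHeartbeats 800000 in
theorem ne_1440 (hG : ¬ IsMulCommutative G) : Nat.card G ≠ 1440 := by
  intro hcard
  haveI : Fact (Nat.Prime 5) := ⟨by norm_num⟩
  have hc : Nat.card G = 5 ^ 1 * 288 := by rw [hcard]; norm_num
  obtain ⟨P⟩ : Nonempty (Sylow 5 G) := inferInstance
  obtain ⟨hPcard, hPbot, hPtop, hdvd, hmod, hne1, hNtop, hNcard, hfact⟩ :=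
    sylow_data hG 1 288 Nat.one_pos (by norm_num) hc (by norm_num) P
  rw [pow_one] at hPcard
  have hmem : Nat.card (Sylow 5 G) ∈ (Nat.divisors 288).filter (fun n => n % 5 = 1) := by
    rw [Finset.mem_filter, Nat.mem_divisors]
    exact ⟨⟨hdvd, by norm_num⟩, hmod⟩
  have hset : (Nat.divisors 288).filter (fun n => n % 5 = 1) = {1, 6, 16, 36, 96} := by decide
  rw [hset] at hmem
  simp only [Finset.mem_insert, Finset.mem_singleton] at hmem
  rcases hmem with h | h | h | h | h
  · exact hne1 h
  · rw [h, hcard] at hfact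
    revert hfact
    decide
  · exact ne_1440_case16 hG hcard h
  · exact ne_1440_case36 hG hcard h
  · have hN : Nat.card (normalizer ((P : Subgroup G) : Set G)) = 5 * 3 := by
      rw [h, hcard] at hNcard; omega
    exact transfer_kill P 3 hPcard hPbot hPtop hN (by decide)

end Cfsg.Agent.Lib.Helper9.SmallOrd
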