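import Mathlib
import Cfsg.Prelude

set_option autoImplicit false

/-!
# Outer automorphisms of extraspecial 2-groups: generalities
-/

namespace Cfsg.Agent.H9Out

open Cfsg

/-- isomorphic groups have isomorphic outer automorphism groups -/
noncomputable def outCongr {E E' : Type*} [Group E] [Group E'] (e : E ≃* E') :
    Cfsg.Out E ≃* Cfsg.Out E' :=
  QuotientGroup.congr (Cfsg.Inn E) (Cfsg.Inn E') (MulAut.congr e) (by
    ext β
    constructor
    · rintro ⟨α, ⟨g, rfl⟩, rfl⟩
      refine ⟨e g, ?_⟩
      ext x
      simp [MulAut.congr, MulAut.conj_apply]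
    · rintro ⟨g, rfl⟩
      refine ⟨MulAut.conj (e.symm g), ⟨e.symm g, rfl⟩, ?_⟩
      ext x
      simp [MulAut.congr, MulAut.conj_apply])

theorem z2_cases' : ∀ a : ZMod 2, a = 0 ∨ a = 1 := by decide

theorem z2_add_self' (a : ZMod 2) : a + a = 0 := CharTwo.add_self_eq_zero a

/-- an alternating biadditive form over the field with two elements is the polarisation of a
function -/
theorem exists_quadratic_of_alternating {ι : Type*} [Fintype ι] [DecidableEq ι]
    (γ : (ι → ZMod 2) → (ι → ZMod 2) → ZMod 2)
    (hl : ∀ x x' y, γ (x + x') y = γ x y + γ x' y)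
    (hr : ∀ x y y', γ x (y + y') = γ x y + γ x y')
    (halt : ∀ x, γ x x = 0) :
    ∃ f : (ι → ZMod 2) → ZMod 2, ∀ x y, f (x + y) = f x + f y + γ x y := by
  classical
  have hl0 : ∀ y, γ 0 y = 0 := by
    intro y
    have := hl 0 0 y
    rw [add_zero] at this
    exact left_eq_add.mp this
  have hr0 : ∀ x, γ x 0 = 0 := by
    intro x
    have := hr x 0 0
    rw [add_zero] at this
    exact left_eq_add.mp this
  obtain ⟨g, hg⟩ : ∃ g : ι → ι → ZMod 2, ∀ k l, g k l = γ (Pi.single k 1) (Pi.single l 1) :=
    ⟨_, fun _ _ => rfl⟩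
  -- expansion in the first variable
  have hexp1 : ∀ x y, γ x y = ∑ k, x k * γ (Pi.single k 1) y := by
    intro x y
    let φ : (ι → ZMod 2) →+ ZMod 2 := AddMonoidHom.mk' (fun x => γ x y) (fun a b => hl a b y)
    have h1 : x = ∑ k, Pi.single k (x k) := (Finset.univ_sum_single x).symm
    have h2 : γ x y = φ x := rfl
    rw [h2]
    conv_lhs => rw [h1]
    rw [map_sum]
    apply Finset.sum_congr rfl
    intro k _
    show γ (Pi.single k (x k)) y = _
    rcases z2_cases' (x k) with h | h
    · rw [h, Pi.single_zero, hl0, zero_mul]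
    · rw [h, one_mul]
  have hexp2 : ∀ x y, γ x y = ∑ l, y l * γ x (Pi.single l 1) := by
    intro x y
    let φ : (ι → ZMod 2) →+ ZMod 2 := AddMonoidHom.mk' (fun y => γ x y) (fun a b => hr x a b)
    have h1 : y = ∑ l, Pi.single l (y l) := (Finset.univ_sum_single y).symm
    have h2 : γ x y = φ y := rfl
    rw [h2]
    conv_lhs => rw [h1]
    rw [map_sum]
    apply Finset.sum_congr rfl
    intro l _
    show γ x (Pi.single l (y l)) = _
    rcases z2_cases' (y l) with h | h
    · rw [h, Pi.single_zero, hr0, zero_mul]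
    · rw [h, one_mul]
  have hexp : ∀ x y, γ x y = ∑ k, ∑ l, x k * y l * g k l := by
    intro x y
    rw [hexp1]
    apply Finset.sum_congr rfl
    intro k _
    rw [hexp2, Finset.mul_sum]
    apply Finset.sum_congr rfl
    intro l _
    rw [hg]; ring
  have hgkk : ∀ k, g k k = 0 := fun k => by rw [hg]; exact halt _
  have hgsymm : ∀ k l, g k l = g l k := by
    intro k l
    have h1 := halt (Pi.single k 1 + Pi.single l 1)
    rw [hl, hr, hr, halt, halt, zero_add, add_zero] at h1
    rw [hg, hg]
    have h2 : γ (Pi.single k 1) (Pi.single l 1) + γ (Pi.single l 1) (Pi.single k 1) +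
        γ (Pi.single l 1) (Pi.single k 1) = 0 + γ (Pi.single l 1) (Pi.single k 1) := by rw [h1]
    rw [add_assoc, z2_add_self', add_zero, zero_add] at h2
    exact h2
  let e : ι ≃ Fin (Fintype.card ι) := Fintype.equivFin ι
  refine ⟨fun x => ∑ k, ∑ l, if e k < e l then x k * x l * g k l else 0, ?_⟩
  intro x y
  show (∑ k, ∑ l, if e k < e l then (x + y) k * (x + y) l * g k l else 0) =
    (∑ k, ∑ l, if e k < e l then x k * x l * g k l else 0) +
    (∑ k, ∑ l, if e k < e l then y k * y l * g k l else 0) + γ x y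
  have hswap : (∑ k, ∑ l, if e k < e l then y k * x l * g k l else 0) =
      ∑ k, ∑ l, if e l < e k then x k * y l * g k l else 0 := by
    rw [Finset.sum_comm]
    apply Finset.sum_congr rfl
    intro k _
    apply Finset.sum_congr rfl
    intro l _
    by_cases h : e l < e k
    · rw [if_pos h, if_pos h, hgsymm l k]; ring
    · rw [if_neg h, if_neg h]
  have hsplit : γ x y = (∑ k, ∑ l, if e k < e l then x k * y l * g k l else 0) +
      ∑ k, ∑ l, if e k < e l then y k * x l * g k l else 0 := by
    rw [hswap, hexp, ← Finset.sum_add_distrib]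
    apply Finset.sum_congr rfl
    intro k _
    rw [← Finset.sum_add_distrib]
    apply Finset.sum_congr rfl
    intro l _
    rcases lt_trichotomy (e k) (e l) with h | h | h
    · rw [if_pos h, if_neg (not_lt.mpr h.le), add_zero]
    · have hkl : k = l := e.injective h
      subst hkl
      rw [if_neg (lt_irrefl _), hgkk, mul_zero, add_zero]
    · rw [if_neg (not_lt.mpr h.le), if_pos h, zero_add]
  rw [hsplit, ← Finset.sum_add_distrib, ← Finset.sum_add_distrib, ← Finset.sum_add_distrib]
  apply Finset.sum_congr rfl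
  intro k _
  rw [← Finset.sum_add_distrib, ← Finset.sum_add_distrib, ← Finset.sum_add_distrib]
  apply Finset.sum_congr rfl
  intro l _
  by_cases h : e k < e l
  · simp only [if_pos h, Pi.add_apply]
    ring
  · simp only [if_neg h, add_zero]

end Cfsg.Agent.H9Out
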