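import Mathlib
import Cfsg.Prelude
import Cfsg.Agent.Lib.Helper9.L3Fus10

set_option autoImplicit false

/-!
# The wreathed case: strongly closed subgroups and the final statement
-/

namespace Cfsg.Agent.H9L3

open Matrix Cfsg

variable {F : Type*} [Field F]

theorem hsc_wr [Finite F] (h2 : (2 : F) ≠ 0) (A : Subgroup (SpecialLinearGroup (Fin 3) F))
    (μ : Subgroup Fˣ) (i : Fˣ) (hi : i ∈ μ) (hi2 : (i : F) ^ 2 = -1)
    (hμ : ∀ x ∈ μ, ∃ k : ℕ, x ^ (2 ^ k) = 1)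
    (hPA : (Mwr μ).map blk ≤ A) (hw23 : w23 ∈ A) (hg3 : blk (h3gl h2 (i : F) hi2) ∈ A)
    (T : Subgroup (SpecialLinearGroup (Fin 3) F)) (hTP : T ≤ (Mwr μ).map blk) (hT : T ≠ ⊥)
    (hcl : ∀ t ∈ T, ∀ g ∈ A, g * t * g⁻¹ ∈ (Mwr μ).map blk → g * t * g⁻¹ ∈ T) :
    (Mwr μ).map blk ≤ T := by
  haveI : Fact (Nat.Prime 2) := ⟨Nat.prime_two⟩
  have hneg : (-1 : Fˣ) ∈ μ := by
    have : (-1 : Fˣ) = i * i := by
      apply Units.ext
      rw [Units.val_mul, ← pow_two, hi2]; simp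
    rw [this]; exact μ.mul_mem hi hi
  have hdgP : ∀ x ∈ μ, ∀ y ∈ μ, dg x y ∈ (Mwr μ).map blk := by
    intro x hx y hy
    exact Subgroup.mem_map_of_mem _ (mem_Mwr.mpr ⟨x, hx, y, hy, Or.inl rfl⟩)
  have hw12P : (w12 : SpecialLinearGroup (Fin 3) F) ∈ (Mwr μ).map blk :=
    Subgroup.mem_map_of_mem _ (mem_Mwr.mpr ⟨1, μ.one_mem, 1, μ.one_mem, Or.inr (by
      rw [dgl_one, one_mul])⟩)
  have hnormal : ∀ g ∈ (Mwr μ).map blk, ∀ t ∈ T, g * t * g⁻¹ ∈ T := by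
    intro g hg t ht
    exact hcl t ht g (hPA hg) (Subgroup.mul_mem _ (Subgroup.mul_mem _ hg (hTP ht))
      (Subgroup.inv_mem _ hg))
  -- step 1: the central involution
  have hzT : dg (-1) (-1) ∈ T := by
    obtain ⟨z', hz'T, hz'1, hz'c⟩ := exists_central_of_normal' (p := 2)
      ((isPGroup_Mwr μ hμ).map blk) hTP hT hnormal
    obtain ⟨m, hm, rfl⟩ := hTP hz'T
    have hmc : ∀ m' ∈ Mwr μ, m * m' = m' * m := by
      intro m' hm'
      apply blk_injective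
      rw [map_mul, map_mul]
      exact (hz'c _ (Subgroup.mem_map_of_mem _ hm')).symm
    obtain ⟨x, hx, rfl⟩ := hcen_Mwr h2 μ i hi hi2 m hm hmc
    have hx1 : x ≠ 1 := by
      intro h
      apply hz'1
      rw [h, dgl_one, map_one]
    obtain ⟨k, hk⟩ := hμ x hx
    obtain ⟨j, hj⟩ := exists_pow_eq_neg_one x hx1 k hk
    have h1 : dg x x ^ (2 ^ j) ∈ T := T.pow_mem hz'T _
    rwa [dg_pow, hj] at h1
  -- step 2
  have h2T : dg (-1) 1 ∈ T := by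
    have h1 := hcl _ hzT w23 hw23
    have e : w23 * dg (-1) (-1) * w23⁻¹ = dg (-1 : Fˣ) 1 := by
      rw [w23_mul_dg, mul_assoc, w23_inv, w23_mul_w23, mul_one]
      congr 1
      simp
    rw [e] at h1
    exact h1 (hdgP _ hneg _ μ.one_mem)
  have h3T : dg 1 (-1) ∈ T := by
    have h1 := hnormal w12 hw12P _ h2T
    rwa [w12_mul_dg, mul_assoc, w12_inv, w12_mul_w12, mul_one] at h1
  -- step 3
  have hwT : (w12 : SpecialLinearGroup (Fin 3) F) ∈ T := by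
    have h1 := hcl _ h3T _ hg3
    have e : blk (h3gl h2 (i : F) hi2) * dg 1 (-1) * (blk (h3gl h2 (i : F) hi2))⁻¹ = w12 := by
      unfold dg w12
      rw [← map_mul, h3gl_mul, map_mul, mul_assoc, mul_inv_cancel, mul_one]
    rw [e] at h1
    exact h1 hw12P
  -- step 4
  have h4T : ∀ s ∈ μ, dg s s⁻¹ ∈ T := by
    intro s hs
    have h1 := hnormal (dg s 1) (hdgP s hs 1 μ.one_mem) _ hwT
    have h3 : dg s 1 * w12 * (dg s 1)⁻¹ * w12⁻¹ ∈ T := T.mul_mem h1 (T.inv_mem hwT)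
    have e : dg s 1 * w12 * (dg s 1)⁻¹ * w12⁻¹ = dg s s⁻¹ := by
      rw [dg_inv, mul_assoc (dg s 1), w12_mul_dg, ← mul_assoc, dg_mul, mul_assoc, w12_inv,
        w12_mul_w12, mul_one, inv_one, mul_one, one_mul]
    rwa [e] at h3
  -- step 5
  have h5T : ∀ s ∈ μ, dg s 1 ∈ T := by
    intro s hs
    have h1 := hcl _ (h4T s hs) w23 hw23
    have e : w23 * dg s s⁻¹ * w23⁻¹ = dg s 1 := by
      rw [w23_mul_dg, mul_assoc, w23_inv, w23_mul_w23, mul_one, mul_inv_cancel, inv_one]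
    rw [e] at h1
    exact h1 (hdgP s hs 1 μ.one_mem)
  have h6T : ∀ s ∈ μ, dg 1 s ∈ T := by
    intro s hs
    have h1 := hnormal w12 hw12P _ (h5T s hs)
    rwa [w12_mul_dg, mul_assoc, w12_inv, w12_mul_w12, mul_one] at h1
  have h7T : ∀ x ∈ μ, ∀ y ∈ μ, dg x y ∈ T := by
    intro x hx y hy
    have := T.mul_mem (h5T x hx) (h6T y hy)
    rwa [dg_mul, mul_one, one_mul] at this
  rintro _ ⟨m, hm, rfl⟩
  obtain ⟨x, hx, y, hy, rfl | rfl⟩ := mem_Mwr.mp hm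
  · exact h7T x hx y hy
  · rw [map_mul]
    exact T.mul_mem (h7T x hx y hy) hwT

/-- the wreathed case -/
theorem wr_simple [Finite F] (h2 : (2 : F) ≠ 0)
    {Y G : Type*} [Group Y] [Finite Y] [Group G] [Finite G]
    (π : Y →* G) (hπ : Function.Surjective π) (hker : π.ker ≤ Subgroup.center Y)
    (hZ : (Nat.card π.ker).Coprime 2)
    (ι : Y →* SpecialLinearGroup (Fin 3) F) (hι : Function.Injective ι)
    (A : Subgroup (SpecialLinearGroup (Fin 3) F)) (hA : ι.range = A)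
    (Λ μ : Subgroup Fˣ) (i : Fˣ) (hi : i ∈ μ) (hi2 : (i : F) ^ 2 = -1)
    (hΛ : ∀ x y : Fˣ, dg x y ∈ A ↔ x ∈ Λ ∧ y ∈ Λ)
    (hw12 : w12 ∈ A) (hw23 : w23 ∈ A) (hg3 : blk (h3gl h2 (i : F) hi2) ∈ A)
    (hμΛ : μ ≤ Λ) (hμ2 : ∀ x ∈ Λ, (∃ k : ℕ, x ^ (2 ^ k) = 1) → x ∈ μ)
    (hμ : ∀ x ∈ μ, ∃ k : ℕ, x ^ (2 ^ k) = 1)
    (S : Sylow 2 G) : (groupFusionSystem (S : Subgroup G)).IsSimple 2 := by
  have hneg : (-1 : Fˣ) ∈ μ := by
    have : (-1 : Fˣ) = i * i := by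
      apply Units.ext
      rw [Units.val_mul, ← pow_two, hi2]; simp
    rw [this]; exact μ.mul_mem hi hi
  have hPA : (Mwr μ).map blk ≤ A := by
    rintro _ ⟨m, hm, rfl⟩
    obtain ⟨x, hx, y, hy, rfl | rfl⟩ := mem_Mwr.mp hm
    · exact (hΛ x y).mpr ⟨hμΛ hx, hμΛ hy⟩
    · rw [map_mul]
      exact A.mul_mem ((hΛ x y).mpr ⟨hμΛ hx, hμΛ hy⟩) hw12
  refine main_of_M h2 π hπ hker hZ ι hι A hA Λ μ (Mwr μ) hΛ hw12 hw23 hμΛ hμ2 hneg hPA
    (isPGroup_Mwr μ hμ) le_extTwo ?_ ?_ ?_ S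
  · intro m hm hc hmm
    obtain ⟨x, hx, rfl⟩ := hcen_Mwr h2 μ i hi hi2 m hm hc
    rw [dgl_mul, ← dgl_one] at hmm
    have h1 := (dgl_injective hmm).1
    have h3 : (x : F) * (x : F) = 1 := by rw [← Units.val_mul, h1, Units.val_one]
    rcases mul_self_eq_one_iff.mp h3 with h4 | h4
    · left
      have : x = 1 := Units.ext h4
      rw [this, dgl_one]
    · right
      have : x = -1 := Units.ext (by rw [h4]; simp)
      rw [this, neg_one_eq_dgl]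
  · intro A' hA'
    exact normalizer_Mwr h2 μ i hi hi2 A' hA'
  · intro T hTP hT hcl
    exact hsc_wr h2 A μ i hi hi2 hμ hPA hw23 hg3 T hTP hT hcl

end Cfsg.Agent.H9L3
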