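import Mathlib
import Cfsg.Agent.Lib.Helper9.L3Fus10

set_option autoImplicit false

/-!
# The commutative subgroup `{x + y J}` of `GL₂`
-/

namespace Cfsg.Agent.H9L3

open Matrix

variable {F : Type*} [Field F]

/-- the matrix `x + y J` with `J = [[0,-1],[1,0]]` -/
def kap (x y : F) : Matrix (Fin 2) (Fin 2) F := !![x, -y; y, x]

theorem kap_mul (x y x' y' : F) : kap x y * kap x' y' = kap (x * x' - y * y') (x * y' + y * x') := by
  unfold kap
  ext a b
  fin_cases a <;> fin_cases b <;> simp [Matrix.mul_apply, Fin.sum_univ_two] <;> ring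

theorem kap_one : kap (1 : F) 0 = 1 := by
  unfold kap
  ext a b
  fin_cases a <;> fin_cases b <;> simp

theorem det_kap (x y : F) : (kap x y).det = x ^ 2 + y ^ 2 := by
  unfold kap
  rw [Matrix.det_fin_two]
  simp
  ring

theorem kap_injective {x y x' y' : F} (h : kap x y = kap x' y') : x = x' ∧ y = y' := by
  unfold kap at h
  have h00 := congrFun (congrFun h 0) 0
  have h10 := congrFun (congrFun h 1) 0
  simp at h00 h10
  exact ⟨h00, h10⟩

/-- the subgroup of `GL₂` of matrices `x + y J` -/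
def Kgl : Subgroup (GL (Fin 2) F) where
  carrier := {a | ∃ x y : F, (a : Matrix (Fin 2) (Fin 2) F) = kap x y}
  one_mem' := ⟨1, 0, by rw [kap_one]; rfl⟩
  mul_mem' := by
    rintro a b ⟨x, y, ha⟩ ⟨x', y', hb⟩
    exact ⟨_, _, by rw [Matrix.GeneralLinearGroup.coe_mul, ha, hb, kap_mul]⟩
  inv_mem' := by
    rintro a ⟨x, y, ha⟩
    have hdet : x ^ 2 + y ^ 2 ≠ 0 := by
      rw [← det_kap, ← ha]; exact gl_det_ne_zero a
    refine ⟨x / (x ^ 2 + y ^ 2), -y / (x ^ 2 + y ^ 2), ?_⟩
    have h1 : (a : Matrix (Fin 2) (Fin 2) F) * kap (x / (x ^ 2 + y ^ 2)) (-y / (x ^ 2 + y ^ 2)) = 1 := by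
      rw [ha, kap_mul, ← kap_one]
      congr 1
      · field_simp
        ring
      · field_simp
        ring
    have h3 : ((a⁻¹ : GL (Fin 2) F) : Matrix (Fin 2) (Fin 2) F) =
        ((a⁻¹ : GL (Fin 2) F) : Matrix (Fin 2) (Fin 2) F) *
          ((a : Matrix (Fin 2) (Fin 2) F) * kap (x / (x ^ 2 + y ^ 2)) (-y / (x ^ 2 + y ^ 2))) := by
      rw [h1, mul_one]
    rw [h3, ← mul_assoc, ← Matrix.GeneralLinearGroup.coe_mul, inv_mul_cancel]
    simp

theorem mem_Kgl {a : GL (Fin 2) F} :
    a ∈ (Kgl : Subgroup (GL (Fin 2) F)) ↔ ∃ x y : F, (a : Matrix (Fin 2) (Fin 2) F) = kap x y :=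
  Iff.rfl

theorem Kgl_comm {a b : GL (Fin 2) F} (ha : a ∈ (Kgl : Subgroup (GL (Fin 2) F)))
    (hb : b ∈ (Kgl : Subgroup (GL (Fin 2) F))) : a * b = b * a := by
  obtain ⟨x, y, ha⟩ := ha
  obtain ⟨x', y', hb⟩ := hb
  apply Units.ext
  rw [Units.val_mul, Units.val_mul]
  show (a : Matrix (Fin 2) (Fin 2) F) * (b : Matrix (Fin 2) (Fin 2) F) = _ * _
  rw [ha, hb, kap_mul, kap_mul]
  congr 1 <;> ring

/-- the reflection `diag(1,-1)` -/
noncomputable def phi : GL (Fin 2) F := dgl 1 (-1)

theorem phi_coe : ((phi : GL (Fin 2) F) : Matrix (Fin 2) (Fin 2) F) = !![1, 0; 0, -1] := by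
  unfold phi
  rw [dgl_coe]
  simp

theorem phi_mul_phi : (phi : GL (Fin 2) F) * phi = 1 := by
  unfold phi
  rw [dgl_mul, one_mul, neg_mul_neg, one_mul, dgl_one]

theorem phi_inv : (phi : GL (Fin 2) F)⁻¹ = phi := inv_eq_of_mul_eq_one_right phi_mul_phi

theorem phi_conj_coe (a : GL (Fin 2) F) (x y : F) (ha : (a : Matrix (Fin 2) (Fin 2) F) = kap x y) :
    ((phi * a * phi : GL (Fin 2) F) : Matrix (Fin 2) (Fin 2) F) = kap x (-y) := by
  rw [Matrix.GeneralLinearGroup.coe_mul, Matrix.GeneralLinearGroup.coe_mul, phi_coe, ha]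
  unfold kap
  ext i j
  fin_cases i <;> fin_cases j <;> simp [Matrix.mul_apply, Fin.sum_univ_two]

theorem phi_conj_mem_Kgl {a : GL (Fin 2) F} (ha : a ∈ (Kgl : Subgroup (GL (Fin 2) F))) :
    phi * a * phi ∈ (Kgl : Subgroup (GL (Fin 2) F)) := by
  obtain ⟨x, y, ha⟩ := ha
  exact ⟨x, -y, phi_conj_coe a x y ha⟩

theorem mul_phi_coe (a : GL (Fin 2) F) (x y : F) (ha : (a : Matrix (Fin 2) (Fin 2) F) = kap x y) :
    ((a * phi : GL (Fin 2) F) : Matrix (Fin 2) (Fin 2) F) = !![x, y; y, -x] := by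
  rw [Matrix.GeneralLinearGroup.coe_mul, phi_coe, ha]
  unfold kap
  ext i j
  fin_cases i <;> fin_cases j <;> simp [Matrix.mul_apply, Fin.sum_univ_two]

/-- (K2) -/
theorem mul_phi_not_mem_Kgl (h2 : (2 : F) ≠ 0) {a : GL (Fin 2) F}
    (ha : a ∈ (Kgl : Subgroup (GL (Fin 2) F))) :
    a * phi ∉ (Kgl : Subgroup (GL (Fin 2) F)) := by
  obtain ⟨x, y, ha'⟩ := ha
  rintro ⟨x', y', h⟩
  rw [mul_phi_coe a x y ha'] at h
  unfold kap at h
  have h00 := congrFun (congrFun h 0) 0
  have h01 := congrFun (congrFun h 0) 1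
  have h10 := congrFun (congrFun h 1) 0
  have h11 := congrFun (congrFun h 1) 1
  simp at h00 h01 h10 h11
  have hx : x = 0 := by
    have : (2 : F) * x = 0 := by linear_combination h00 - h11
    exact (mul_eq_zero.mp this).resolve_left h2
  have hy : y = 0 := by
    have : (2 : F) * y = 0 := by linear_combination h01 + h10
    exact (mul_eq_zero.mp this).resolve_left h2
  have hdet := gl_det_ne_zero a
  rw [ha', det_kap, hx, hy] at hdet
  apply hdet; ring

/-- (K1) -/
theorem scalar_of_comm_phi (h2 : (2 : F) ≠ 0) {a : GL (Fin 2) F}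
    (ha : a ∈ (Kgl : Subgroup (GL (Fin 2) F))) (hc : phi * a = a * phi) :
    ∃ l : Fˣ, a = scl l := by
  obtain ⟨x, y, ha'⟩ := ha
  have h1 : phi * a * phi = a := by rw [hc, mul_assoc, phi_mul_phi, mul_one]
  have h3 := phi_conj_coe a x y ha'
  rw [h1, ha'] at h3
  have hy : y = 0 := by
    have := (kap_injective h3).2
    have h4 : (2 : F) * y = 0 := by linear_combination this
    exact (mul_eq_zero.mp h4).resolve_left h2
  have hdet := gl_det_ne_zero a
  rw [ha', det_kap, hy] at hdet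
  have hx : x ≠ 0 := by
    intro hx; apply hdet; rw [hx]; ring
  refine ⟨Units.mk0 x hx, ?_⟩
  apply Matrix.GeneralLinearGroup.ext
  intro i j
  unfold scl
  rw [ha', dgl_coe, hy]
  unfold kap
  fin_cases i <;> fin_cases j <;> simp

theorem scl_mem_Kgl (l : Fˣ) : scl l ∈ (Kgl : Subgroup (GL (Fin 2) F)) := by
  refine ⟨(l : F), 0, ?_⟩
  unfold scl
  rw [dgl_coe]
  unfold kap
  ext i j
  fin_cases i <;> fin_cases j <;> simp

/-- (K3) -/
theorem mem_Kgl_of_conj (h2 : (2 : F) ≠ 0) (α β : F) (hβ : β ≠ 0) (c a A : GL (Fin 2) F)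
    (hc : (c : Matrix (Fin 2) (Fin 2) F) = kap α β) (ha : a ∈ (Kgl : Subgroup (GL (Fin 2) F)))
    (h : A * c = a * A) :
    A ∈ (Kgl : Subgroup (GL (Fin 2) F)) ∨ A * phi ∈ (Kgl : Subgroup (GL (Fin 2) F)) := by
  obtain ⟨x, y, ha'⟩ := ha
  obtain ⟨p, q, r, s, hAm, hdet⟩ := gl_entries A
  have h1 := congrArg (fun g : GL (Fin 2) F => (g : Matrix (Fin 2) (Fin 2) F)) h
  simp only [Matrix.GeneralLinearGroup.coe_mul, hc, ha', hAm] at h1
  unfold kap at h1
  have e1 := congrFun (congrFun h1 0) 0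
  have e2 := congrFun (congrFun h1 0) 1
  have e3 := congrFun (congrFun h1 1) 0
  have e4 := congrFun (congrFun h1 1) 1
  simp [Matrix.mul_apply, Fin.sum_univ_two] at e1 e2 e3 e4
  have hx : x = α := by
    have : (2 : F) * (p * s - q * r) * (α - x) = 0 := by
      linear_combination s * e1 - r * e2 - q * e3 + p * e4
    rcases mul_eq_zero.mp this with h3 | h3
    · rcases mul_eq_zero.mp h3 with h4 | h4
      · exact absurd h4 h2
      · exact absurd h4 hdet
    · exact (sub_eq_zero.mp h3).symm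
  rw [hx] at e1 e2 e3 e4
  have hy : (β - y) * (β + y) = 0 := by
    have hp : (β ^ 2 - y ^ 2) * p = 0 := by linear_combination (-β) * e2 + y * e3
    have hq : (β ^ 2 - y ^ 2) * q = 0 := by linear_combination β * e1 + y * e4
    have hr : (β ^ 2 - y ^ 2) * r = 0 := by linear_combination (-β) * e4 - y * e1
    have hs : (β ^ 2 - y ^ 2) * s = 0 := by linear_combination β * e3 - y * e2
    by_contra hne
    have hne' : β ^ 2 - y ^ 2 ≠ 0 := by
      intro h0; apply hne; linear_combination h0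
    apply hdet
    rw [(mul_eq_zero.mp hp).resolve_left hne', (mul_eq_zero.mp hq).resolve_left hne']
    ring
  rcases mul_eq_zero.mp hy with h3 | h3
  · left
    have hyb : y = β := (sub_eq_zero.mp h3).symm
    rw [hyb] at e1 e2
    refine ⟨p, r, ?_⟩
    have hq : q = -r := by
      have : β * (q + r) = 0 := by linear_combination e1
      have := (mul_eq_zero.mp this).resolve_left hβ
      linear_combination this
    have hs : s = p := by
      have : β * (s - p) = 0 := by linear_combination e2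
      have := (mul_eq_zero.mp this).resolve_left hβ
      linear_combination this
    rw [hAm, hq, hs]
    rfl
  · right
    have hyb : y = -β := by linear_combination h3
    rw [hyb] at e1 e2
    have hq : q = r := by
      have : β * (q - r) = 0 := by linear_combination e1
      have := (mul_eq_zero.mp this).resolve_left hβ
      linear_combination this
    have hs : s = -p := by
      have : β * (s + p) = 0 := by linear_combination -e2
      have := (mul_eq_zero.mp this).resolve_left hβ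
      linear_combination this
    refine ⟨p, q, ?_⟩
    rw [Matrix.GeneralLinearGroup.coe_mul, phi_coe, hAm, hs, ← hq]
    unfold kap
    ext i j
    fin_cases i <;> fin_cases j <;> simp [Matrix.mul_apply, Fin.sum_univ_two]

end Cfsg.Agent.H9L3
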