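import Mathlib
import Cfsg.Agent.Lib.Helper9.L3Fus12

set_option autoImplicit false

/-!
# The semidihedral subgroup of `GL₂`
-/

namespace Cfsg.Agent.H9L3

open Matrix

variable {F : Type*} [Field F]

/-- data for a semidihedral subgroup: `c = α + β J` of norm `-1` with `c ^ 2 ^ (e+2) = -1` -/
structure SDdat (c : GL (Fin 2) F) (α β : F) (e : ℕ) : Prop where
  coe : (c : Matrix (Fin 2) (Fin 2) F) = kap α β
  norm : α ^ 2 + β ^ 2 = -1
  pow : c ^ (2 ^ (e + 2)) = -1

theorem neg_one_comm (g : GL (Fin 2) F) : (-1 : GL (Fin 2) F) * g = g * (-1) := by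
  rw [neg_mul, one_mul, mul_neg, mul_one]

theorem neg_one_mul_neg_one : (-1 : GL (Fin 2) F) * (-1) = 1 := by
  rw [neg_mul_neg, one_mul]

theorem neg_one_zpow (k : ℤ) : (-1 : GL (Fin 2) F) ^ k = 1 ∨ (-1 : GL (Fin 2) F) ^ k = -1 := by
  rcases Int.even_or_odd k with ⟨j, hj⟩ | ⟨j, hj⟩
  · left
    rw [hj, ← two_mul, _root_.zpow_mul, zpow_two, neg_one_mul_neg_one, _root_.one_zpow]
  · right
    rw [hj, _root_.zpow_add, zpow_one, _root_.zpow_mul, zpow_two, neg_one_mul_neg_one, _root_.one_zpow, one_mul]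

namespace SDdat

variable {c : GL (Fin 2) F} {α β : F} {e : ℕ}

theorem mem_Kgl (hd : SDdat c α β e) : c ∈ (Kgl : Subgroup (GL (Fin 2) F)) := ⟨α, β, hd.coe⟩

theorem zpowers_le (hd : SDdat c α β e) : Subgroup.zpowers c ≤ (Kgl : Subgroup (GL (Fin 2) F)) :=
  Subgroup.zpowers_le.mpr hd.mem_Kgl

theorem phi_conj (hd : SDdat c α β e) : phi * c * phi = (-1) * c⁻¹ := by
  have h1 : phi * c * phi * c = -1 := by
    apply Units.ext
    rw [Units.val_mul]
    show ((phi * c * phi : GL (Fin 2) F) : Matrix (Fin 2) (Fin 2) F) *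
      (c : Matrix (Fin 2) (Fin 2) F) = _
    rw [phi_conj_coe c α β hd.coe, hd.coe, kap_mul]
    have e1 : α * α - -β * β = -1 := by linear_combination hd.norm
    have e2 : α * β + -β * α = 0 := by ring
    rw [e1, e2]
    unfold kap
    ext i j
    fin_cases i <;> fin_cases j <;> simp
  calc phi * c * phi = phi * c * phi * c * c⁻¹ := by group
    _ = (-1) * c⁻¹ := by rw [h1]

theorem neg_one_mem (hd : SDdat c α β e) : (-1 : GL (Fin 2) F) ∈ Subgroup.zpowers c := by
  rw [← hd.pow]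
  exact Subgroup.pow_mem _ (Subgroup.mem_zpowers c) _

theorem phi_conj_zpow (hd : SDdat c α β e) (k : ℤ) :
    phi * c ^ k * phi = ((-1) * c⁻¹) ^ k := by
  have h1 : phi * c ^ k * phi⁻¹ = (phi * c * phi⁻¹) ^ k := (conj_zpow).symm
  rw [phi_inv] at h1
  rw [h1, hd.phi_conj]

theorem phi_conj_mem (hd : SDdat c α β e) {a : GL (Fin 2) F} (ha : a ∈ Subgroup.zpowers c) :
    phi * a * phi ∈ Subgroup.zpowers c := by
  obtain ⟨k, rfl⟩ := Subgroup.mem_zpowers_iff.mp ha
  rw [hd.phi_conj_zpow]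
  exact Subgroup.zpow_mem _ (Subgroup.mul_mem _ hd.neg_one_mem
    (Subgroup.inv_mem _ (Subgroup.mem_zpowers c))) _

theorem phi_mem_normalizer (hd : SDdat c α β e) :
    (phi : GL (Fin 2) F) ∈ Subgroup.normalizer ((Subgroup.zpowers c : Subgroup _) : Set _) := by
  rw [Subgroup.mem_normalizer_iff]
  intro g
  rw [phi_inv]
  constructor
  · exact hd.phi_conj_mem
  · intro h
    have h1 := hd.phi_conj_mem h
    have e1 : phi * (phi * g * phi) * phi = (phi * phi) * g * (phi * phi) := by group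
    rwa [e1, phi_mul_phi, one_mul, mul_one] at h1

/-- norm of an element of the cyclic part -/
theorem norm_zpowers (hd : SDdat c α β e) {a : GL (Fin 2) F} (ha : a ∈ Subgroup.zpowers c) :
    a * (phi * a * phi) = 1 ∨ a * (phi * a * phi) = -1 := by
  obtain ⟨k, rfl⟩ := Subgroup.mem_zpowers_iff.mp ha
  rw [hd.phi_conj_zpow]
  have hc : Commute c ((-1) * c⁻¹) := by
    show c * ((-1) * c⁻¹) = (-1) * c⁻¹ * c
    rw [← mul_assoc, ← neg_one_comm, mul_assoc, mul_inv_cancel, mul_assoc, inv_mul_cancel]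
  rw [← hc.mul_zpow]
  have : c * ((-1) * c⁻¹) = -1 := by
    rw [← mul_assoc, ← neg_one_comm, mul_assoc, mul_inv_cancel, mul_one]
  rw [this]
  exact neg_one_zpow k

theorem beta_ne_zero (h2 : (2 : F) ≠ 0) (hd : SDdat c α β e) : β ≠ 0 := by
  intro hβ
  have hα : α ^ 2 = -1 := by
    have := hd.norm
    rw [hβ] at this
    linear_combination this
  have h1 : c * c = -1 := by
    apply Units.ext
    rw [Units.val_mul]
    show (c : Matrix (Fin 2) (Fin 2) F) * (c : Matrix (Fin 2) (Fin 2) F) = _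
    rw [hd.coe, kap_mul, hβ]
    have e1 : α * α - 0 * 0 = -1 := by linear_combination hα
    have e2 : α * 0 + 0 * α = 0 := by ring
    rw [e1, e2]
    unfold kap
    ext i j
    fin_cases i <;> fin_cases j <;> simp
  have h3 : c ^ (2 ^ (e + 2)) = 1 := by
    have : (2 : ℕ) ^ (e + 2) = 2 * 2 * 2 ^ e := by rw [pow_add]; ring
    rw [this, pow_mul, pow_mul, pow_two c, h1, pow_two, neg_one_mul_neg_one, one_pow]
  rw [hd.pow] at h3
  exact neg_one_ne_one_gl h2 h3

theorem pow_four_ne_one (h2 : (2 : F) ≠ 0) (hd : SDdat c α β e) : c ^ 4 ≠ 1 := by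
  intro h
  have h3 : c ^ (2 ^ (e + 2)) = 1 := by
    have : (2 : ℕ) ^ (e + 2) = 4 * 2 ^ e := by rw [pow_add]; ring
    rw [this, pow_mul, h, one_pow]
  rw [hd.pow] at h3
  exact neg_one_ne_one_gl h2 h3

end SDdat

/-- the semidihedral subgroup `⟨c⟩ ∪ ⟨c⟩ φ` -/
noncomputable def Msd (c : GL (Fin 2) F) (α β : F) (e : ℕ) (hd : SDdat c α β e) :
    Subgroup (GL (Fin 2) F) :=
  extTwo (Subgroup.zpowers c) phi (by rw [phi_mul_phi]; exact Subgroup.one_mem _)
    hd.phi_mem_normalizer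

theorem mem_Msd {c : GL (Fin 2) F} {α β : F} {e : ℕ} {hd : SDdat c α β e} {g : GL (Fin 2) F} :
    g ∈ Msd c α β e hd ↔ g ∈ Subgroup.zpowers c ∨ ∃ a ∈ Subgroup.zpowers c, g = a * phi :=
  mem_extTwo

theorem phi_mem_Msd {c : GL (Fin 2) F} {α β : F} {e : ℕ} {hd : SDdat c α β e} :
    phi ∈ Msd c α β e hd := self_mem_extTwo

theorem zpowers_le_Msd {c : GL (Fin 2) F} {α β : F} {e : ℕ} {hd : SDdat c α β e} :
    Subgroup.zpowers c ≤ Msd c α β e hd := le_extTwo

/-- elements of the non-cyclic coset have order dividing four -/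
theorem mul_phi_pow_four {c : GL (Fin 2) F} {α β : F} {e : ℕ} (hd : SDdat c α β e)
    {a : GL (Fin 2) F} (ha : a ∈ Subgroup.zpowers c) : (a * phi) ^ 4 = 1 := by
  have h1 : (a * phi) * (a * phi) = a * (phi * a * phi) := by group
  have h4 : (a * phi) ^ 4 = ((a * phi) * (a * phi)) * ((a * phi) * (a * phi)) := by
    rw [show (4 : ℕ) = 2 + 2 from rfl, pow_add, pow_two]
  rw [h4, h1]
  rcases hd.norm_zpowers ha with h | h
  · rw [h, one_mul]
  · rw [h, neg_one_mul_neg_one]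

end Cfsg.Agent.H9L3
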