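import Mathlib
import Cfsg.Agent.Lib.Helper9.L3Fus13

set_option autoImplicit false

/-!
# The normaliser in `GL₂` of the semidihedral subgroup
-/

namespace Cfsg.Agent.H9L3

open Matrix

variable {F : Type*} [Field F]

namespace SDdat

variable {c : GL (Fin 2) F} {α β : F} {e : ℕ}

theorem norm_zpow (hd : SDdat c α β e) (k : ℤ) :
    c ^ k * (phi * c ^ k * phi) = (-1 : GL (Fin 2) F) ^ k := by
  rw [hd.phi_conj_zpow]
  have hc : Commute c ((-1) * c⁻¹) := by
    show c * ((-1) * c⁻¹) = (-1) * c⁻¹ * c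
    rw [← mul_assoc, ← neg_one_comm, mul_assoc, mul_inv_cancel, mul_assoc, inv_mul_cancel]
  rw [← hc.mul_zpow]
  have : c * ((-1) * c⁻¹) = -1 := by
    rw [← mul_assoc, ← neg_one_comm, mul_assoc, mul_inv_cancel, mul_one]
  rw [this]

/-- the element `n₀ = c ^ (1 + 2 ^ (e+1))` -/
theorem n0_spec (hd : SDdat c α β e) :
    c * c * (phi * c ^ (1 + 2 ^ (e + 1)) * phi) = c ^ (1 + 2 ^ (e + 1)) := by
  obtain ⟨N, hN⟩ : ∃ N : ℕ, N = 1 + 2 ^ (e + 1) := ⟨_, rfl⟩
  rw [← hN]
  have h1 : phi * c ^ N * phi = (-1) * (c ^ N)⁻¹ := by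
    have := hd.phi_conj_zpow (N : ℤ)
    rw [zpow_natCast, zpow_natCast] at this
    rw [this]
    have hc : Commute (-1 : GL (Fin 2) F) c⁻¹ := neg_one_comm _
    rw [hc.mul_pow, inv_pow]
    congr 1
    rw [hN, pow_add, pow_one, pow_succ', pow_mul, pow_two, neg_one_mul_neg_one, one_pow, mul_one]
  have h3 : c ^ N * c ^ N = (-1) * (c * c) := by
    rw [← pow_add, hN]
    have : 1 + 2 ^ (e + 1) + (1 + 2 ^ (e + 1)) = 2 ^ (e + 2) + 2 := by
      rw [pow_succ 2 (e + 1)]; ring
    rw [this, pow_add, hd.pow, pow_two]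
  rw [h1, ← mul_assoc, ← neg_one_comm (c * c), ← h3, mul_assoc, mul_inv_cancel, mul_one]

end SDdat

theorem normalizer_Msd (h2 : (2 : F) ≠ 0) {c : GL (Fin 2) F} {α β : F} {e : ℕ}
    (hd : SDdat c α β e) (A : GL (Fin 2) F)
    (hA : ∀ m ∈ Msd c α β e hd, ∃ m' ∈ Msd c α β e hd, A * m = m' * A) :
    ∃ l : Fˣ, ∃ m ∈ Msd c α β e hd, A = scl l * m := by
  -- the case `A ∈ Kgl`
  have key : ∀ A : GL (Fin 2) F,
      (∀ m ∈ Msd c α β e hd, ∃ m' ∈ Msd c α β e hd, A * m = m' * A) →
      A ∈ (Kgl : Subgroup (GL (Fin 2) F)) → ∃ l : Fˣ, ∃ m ∈ Msd c α β e hd, A = scl l * m := by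
    intro A hA hAK
    obtain ⟨m'', hm'', h⟩ := hA phi phi_mem_Msd
    rcases mem_Msd.mp hm'' with h1 | ⟨a, ha, rfl⟩
    · exfalso
      apply mul_phi_not_mem_Kgl h2 hAK
      rw [h]
      exact Subgroup.mul_mem _ (hd.zpowers_le h1) hAK
    · have hA1 : A = a * (phi * A * phi) := by
        calc A = A * phi * phi := by rw [mul_assoc, phi_mul_phi, mul_one]
          _ = a * phi * A * phi := by rw [h]
          _ = a * (phi * A * phi) := by group
      have haK : a ∈ (Kgl : Subgroup (GL (Fin 2) F)) := hd.zpowers_le ha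
      -- the norm of `a` is one
      have hnorm : a * (phi * a * phi) = 1 := by
        have h3 : phi * A * phi = (phi * a * phi) * A := by
          have e1 : phi * A * phi = phi * (a * (phi * A * phi)) * phi := by rw [← hA1]
          rw [e1]
          have e2 : phi * (a * (phi * A * phi)) * phi =
              (phi * a * phi) * A * (phi * phi) := by group
          rw [e2, phi_mul_phi, mul_one]
        have h4 : A = a * (phi * a * phi) * A := by
          calc A = a * (phi * A * phi) := hA1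
            _ = a * ((phi * a * phi) * A) := by rw [h3]
            _ = a * (phi * a * phi) * A := by group
        exact (mul_right_cancel ((one_mul A).trans h4)).symm
      obtain ⟨k, rfl⟩ := Subgroup.mem_zpowers_iff.mp ha
      rw [hd.norm_zpow] at hnorm
      obtain ⟨j, hj⟩ : ∃ j : ℤ, k = 2 * j := by
        rcases Int.even_or_odd' k with ⟨j, hj | hj⟩
        · exact ⟨j, hj⟩
        · exfalso
          rw [hj, _root_.zpow_add, zpow_one, _root_.zpow_mul, zpow_two, neg_one_mul_neg_one,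
            _root_.one_zpow, one_mul] at hnorm
          exact neg_one_ne_one_gl h2 hnorm
      obtain ⟨n₀, hn₀⟩ : ∃ n₀ : GL (Fin 2) F, n₀ = c ^ (1 + 2 ^ (e + 1)) := ⟨_, rfl⟩
      have hn₀C : n₀ ∈ Subgroup.zpowers c := by
        rw [hn₀]; exact Subgroup.pow_mem _ (Subgroup.mem_zpowers c) _
      have hn₀s : c * c * (phi * n₀ * phi) = n₀ := by rw [hn₀]; exact hd.n0_spec
      obtain ⟨n, hn⟩ : ∃ n : GL (Fin 2) F, n = n₀ ^ j := ⟨_, rfl⟩
      have hnC : n ∈ Subgroup.zpowers c := by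
        rw [hn]; exact Subgroup.zpow_mem _ hn₀C _
      have hnK : n ∈ (Kgl : Subgroup (GL (Fin 2) F)) := hd.zpowers_le hnC
      have hns : c ^ k * (phi * n * phi) = n := by
        have h5 : phi * n * phi = (phi * n₀ * phi) ^ j := by
          have h6 : phi * n₀ ^ j * phi⁻¹ = (phi * n₀ * phi⁻¹) ^ j := (conj_zpow).symm
          rw [phi_inv] at h6
          rw [hn, h6]
        have h7 : c ^ k = (c * c) ^ j := by
          rw [hj, _root_.zpow_mul, zpow_two]
        have hcomm : Commute (c * c) (phi * n₀ * phi) :=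
          Kgl_comm (Subgroup.mul_mem _ hd.mem_Kgl hd.mem_Kgl)
            (phi_conj_mem_Kgl (hd.zpowers_le hn₀C))
        rw [h5, h7, ← hcomm.mul_zpow, hn₀s, hn]
      -- `B = A n⁻¹` is fixed by `φ`
      have hBK : A * n⁻¹ ∈ (Kgl : Subgroup (GL (Fin 2) F)) :=
        Subgroup.mul_mem _ hAK (Subgroup.inv_mem _ hnK)
      have hBfix : phi * (A * n⁻¹) * phi = A * n⁻¹ := by
        have e1 : phi * (A * n⁻¹) * phi = (phi * A * phi) * (phi * n * phi)⁻¹ := by
          have : (phi * n * phi)⁻¹ = phi⁻¹ * n⁻¹ * phi⁻¹ := by group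
          rw [this, phi_inv]
          have e2 : phi * A * phi * (phi * n⁻¹ * phi) = phi * A * (phi * phi) * n⁻¹ * phi := by group
          rw [e2, phi_mul_phi, mul_one]
          group
        have e3 : phi * A * phi = (c ^ k)⁻¹ * A := by
          calc phi * A * phi = (c ^ k)⁻¹ * (c ^ k * (phi * A * phi)) := by group
            _ = (c ^ k)⁻¹ * A := by rw [← hA1]
        have e4 : phi * n * phi = (c ^ k)⁻¹ * n := by
          calc phi * n * phi = (c ^ k)⁻¹ * (c ^ k * (phi * n * phi)) := by group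
            _ = (c ^ k)⁻¹ * n := by rw [hns]
        rw [e1, e3, e4]
        have hc1 : Commute (c ^ k) (A * n⁻¹) := Kgl_comm haK hBK
        calc (c ^ k)⁻¹ * A * ((c ^ k)⁻¹ * n)⁻¹ = (c ^ k)⁻¹ * ((A * n⁻¹) * c ^ k) := by group
          _ = (c ^ k)⁻¹ * (c ^ k * (A * n⁻¹)) := by rw [hc1.eq]
          _ = A * n⁻¹ := by group
      have hBc : phi * (A * n⁻¹) = (A * n⁻¹) * phi := by
        calc phi * (A * n⁻¹) = phi * (A * n⁻¹) * phi * phi := by
              rw [mul_assoc (phi * (A * n⁻¹)), phi_mul_phi, mul_one]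
          _ = (A * n⁻¹) * phi := by rw [hBfix]
      obtain ⟨l, hl⟩ := scalar_of_comm_phi h2 hBK hBc
      refine ⟨l, n, zpowers_le_Msd hnC, ?_⟩
      rw [← hl]; group
  -- general case
  obtain ⟨m', hm', h⟩ := hA c (zpowers_le_Msd (Subgroup.mem_zpowers c))
  have hm'C : m' ∈ Subgroup.zpowers c := by
    rcases mem_Msd.mp hm' with h1 | ⟨a, ha, rfl⟩
    · exact h1
    · exfalso
      have h4 : A * c ^ 4 = (a * phi) ^ 4 * A :=
        (SemiconjBy.pow_right (show SemiconjBy A c (a * phi) from h) 4).eq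
      rw [mul_phi_pow_four hd ha, one_mul] at h4
      exact hd.pow_four_ne_one h2 (mul_left_cancel (h4.trans (mul_one A).symm))
  rcases mem_Kgl_of_conj h2 α β (hd.beta_ne_zero h2) c m' A hd.coe (hd.zpowers_le hm'C) h with hK | hK
  · exact key A hA hK
  · obtain ⟨l, m, hm, hAm⟩ := key (A * phi) (fun m hm => by
      obtain ⟨m₁, hm₁, h₁⟩ := hA (phi * m * phi)
        (Subgroup.mul_mem _ (Subgroup.mul_mem _ phi_mem_Msd hm) phi_mem_Msd)
      refine ⟨m₁, hm₁, ?_⟩
      calc A * phi * m = A * (phi * m * (phi * phi)) := by rw [phi_mul_phi]; group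
        _ = A * (phi * m * phi) * phi := by group
        _ = m₁ * A * phi := by rw [h₁]
        _ = m₁ * (A * phi) := by group) hK
    refine ⟨l, m * phi, Subgroup.mul_mem _ hm phi_mem_Msd, ?_⟩
    calc A = A * phi * phi := by rw [mul_assoc, phi_mul_phi, mul_one]
      _ = scl l * m * phi := by rw [hAm]
      _ = scl l * (m * phi) := by group

end Cfsg.Agent.H9L3
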