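import Mathlib
import Cfsg.Agent.Lib.Helper9.L3Fus14

set_option autoImplicit false

/-!
# The semidihedral subgroup of `GL₂`: further properties
-/

namespace Cfsg.Agent.H9L3

open Matrix

theorem exists_pow_involution {G : Type*} [Group G] (m : G) (hm : m ≠ 1) (k : ℕ)
    (hk : m ^ (2 ^ k) = 1) : ∃ j : ℕ, m ^ (2 ^ j) ≠ 1 ∧ m ^ (2 ^ j) * m ^ (2 ^ j) = 1 := by
  induction k with
  | zero =>
    rw [pow_zero, pow_one] at hk
    exact absurd hk hm
  | succ k ih =>
    by_cases h : m ^ (2 ^ k) = 1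
    · exact ih h
    · refine ⟨k, h, ?_⟩
      rw [← pow_add, ← two_mul, ← pow_succ']; exact hk

variable {F : Type*} [Field F]

theorem scl_mul_scl (l l' : Fˣ) : scl l * scl l' = scl (l * l') := by
  unfold scl
  rw [dgl_mul]

theorem scl_one : scl (1 : Fˣ) = 1 := dgl_one

theorem scl_neg_one : scl (-1 : Fˣ) = -1 := neg_one_eq_dgl.symm

theorem scl_injective {l l' : Fˣ} (h : scl l = scl l') : l = l' := (dgl_injective h).1

variable {c : GL (Fin 2) F} {α β : F} {e : ℕ}

theorem hcen_Msd (h2 : (2 : F) ≠ 0) (hd : SDdat c α β e) :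
    ∀ m ∈ Msd c α β e hd, (∀ m' ∈ Msd c α β e hd, m * m' = m' * m) → m * m = 1 →
      m = 1 ∨ m = -1 := by
  intro m hm hc hmm
  rcases mem_Msd.mp hm with h1 | ⟨a, ha, rfl⟩
  · obtain ⟨l, rfl⟩ := scalar_of_comm_phi h2 (hd.zpowers_le h1) (hc phi phi_mem_Msd).symm
    rw [scl_mul_scl, ← scl_one] at hmm
    have h3 := scl_injective hmm
    have h4 : (l : F) * (l : F) = 1 := by rw [← Units.val_mul, h3, Units.val_one]
    rcases mul_self_eq_one_iff.mp h4 with h5 | h5
    · left
      have : l = 1 := Units.ext h5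
      rw [this, scl_one]
    · right
      have : l = -1 := Units.ext (by rw [h5]; simp)
      rw [this, scl_neg_one]
  · exfalso
    have h1 := hc c (zpowers_le_Msd (Subgroup.mem_zpowers c))
    have hac : a * c = c * a := Kgl_comm (hd.zpowers_le ha) hd.mem_Kgl
    have h3 : phi * c = c * phi := by
      have : a * (phi * c) = a * (c * phi) := by
        calc a * (phi * c) = a * phi * c := by group
          _ = c * (a * phi) := h1
          _ = (c * a) * phi := by group
          _ = (a * c) * phi := by rw [hac]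
          _ = a * (c * phi) := by group
      exact mul_left_cancel this
    obtain ⟨l, hl⟩ := scalar_of_comm_phi h2 hd.mem_Kgl h3
    have h4 := hd.coe
    rw [hl] at h4
    unfold scl at h4
    rw [dgl_coe] at h4
    unfold kap at h4
    have h10 := congrFun (congrFun h4 1) 0
    simp at h10
    exact hd.beta_ne_zero h2 h10.symm

theorem isPGroup_Msd (hd : SDdat c α β e) : IsPGroup 2 (Msd c α β e hd) := by
  rintro ⟨g, hg⟩
  rcases mem_Msd.mp hg with h1 | ⟨a, ha, rfl⟩
  · obtain ⟨k, rfl⟩ := Subgroup.mem_zpowers_iff.mp h1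
    refine ⟨e + 3, Subtype.ext ?_⟩
    show (c ^ k) ^ (2 ^ (e + 3)) = 1
    rw [← zpow_natCast, ← _root_.zpow_mul, mul_comm, _root_.zpow_mul, zpow_natCast, pow_succ 2 (e + 2),
      pow_mul, hd.pow, pow_two, neg_one_mul_neg_one, _root_.one_zpow]
  · refine ⟨2, Subtype.ext ?_⟩
    exact mul_phi_pow_four hd ha

theorem Bgl_le_Msd (hd : SDdat c α β e) (μ : Subgroup Fˣ) (hμ : ∀ x ∈ μ, x = 1 ∨ x = -1) :
    Bgl μ ≤ Msd c α β e hd := by
  intro g hg
  obtain ⟨x, hx, y, hy, rfl⟩ := mem_Bgl.mp hg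
  have hneg : (-1 : GL (Fin 2) F) ∈ Msd c α β e hd := zpowers_le_Msd hd.neg_one_mem
  rcases hμ x hx with rfl | rfl <;> rcases hμ y hy with rfl | rfl
  · rw [dgl_one]; exact Subgroup.one_mem _
  · exact phi_mem_Msd
  · have : dgl (-1 : Fˣ) 1 = (-1) * phi := by
      rw [neg_one_eq_dgl]
      unfold phi
      rw [dgl_mul, mul_one, neg_mul_neg, one_mul]
    rw [this]
    exact Subgroup.mul_mem _ hneg phi_mem_Msd
  · rw [← neg_one_eq_dgl]; exact hneg

/-- the element of order three normalising the quaternion group `⟨J, cφ⟩`, as a matrix -/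
def k3Mat (α β : F) : Matrix (Fin 2) (Fin 2) F :=
  !![-(1 + α - β) / 2, -(-1 + α + β) / 2; -(1 + α + β) / 2, -(1 - α + β) / 2]

theorem det_k3Mat (h2 : (2 : F) ≠ 0) (α β : F) (h : α ^ 2 + β ^ 2 = -1) : (k3Mat α β).det = 1 := by
  unfold k3Mat
  rw [Matrix.det_fin_two]
  simp only [Matrix.of_apply, Matrix.cons_val', Matrix.cons_val_zero, Matrix.cons_val_one,
    Matrix.cons_val_fin_one]
  field_simp
  linear_combination (-2 : F) * h

noncomputable def k3gl (h2 : (2 : F) ≠ 0) (α β : F) (h : α ^ 2 + β ^ 2 = -1) : GL (Fin 2) F :=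
  Matrix.GeneralLinearGroup.mkOfDetNeZero (k3Mat α β) (by
    rw [det_k3Mat h2 α β h]; exact one_ne_zero)

/-- the element `J` of `GL₂` -/
noncomputable def J0gl : GL (Fin 2) F :=
  Matrix.GeneralLinearGroup.mkOfDetNeZero (kap 0 1) (by rw [det_kap]; simp)

theorem J0gl_coe : ((J0gl : GL (Fin 2) F) : Matrix (Fin 2) (Fin 2) F) = kap 0 1 := rfl

theorem k3gl_mul (h2 : (2 : F) ≠ 0) (hd : SDdat c α β e) :
    k3gl h2 α β hd.norm * J0gl = (c * phi) * k3gl h2 α β hd.norm := by
  apply Matrix.GeneralLinearGroup.ext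
  intro a b
  rw [Matrix.GeneralLinearGroup.coe_mul, Matrix.GeneralLinearGroup.coe_mul, J0gl_coe,
    mul_phi_coe c α β hd.coe]
  show ((k3Mat α β * kap 0 1 : Matrix (Fin 2) (Fin 2) F)) a b =
    ((!![α, β; β, -α] * k3Mat α β : Matrix (Fin 2) (Fin 2) F)) a b
  have hn := hd.norm
  unfold k3Mat kap
  fin_cases a <;> fin_cases b <;> simp [Matrix.mul_apply, Fin.sum_univ_two] <;> field_simp <;>
    first
      | linear_combination hn
      | linear_combination -hn
      | linear_combination (2 : F) * hn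
      | linear_combination (-2 : F) * hn

end Cfsg.Agent.H9L3
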