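import Mathlib
import Cfsg.Prelude
import Cfsg.Agent.Lib.Helper9.L3Fus11
import Cfsg.Agent.Lib.Helper9.L3Fus15

set_option autoImplicit false

/-!
# The semidihedral case: strongly closed subgroups and the final statement
-/

namespace Cfsg.Agent.H9L3

open Matrix Cfsg

variable {F : Type*} [Field F] {c : GL (Fin 2) F} {α β : F} {e : ℕ}

/-- the element `c ^ 2 ^ (e+1)` is `± J` -/
theorem c4_eq (h2 : (2 : F) ≠ 0) (hd : SDdat c α β e) :
    c ^ (2 ^ (e + 1)) = J0gl ∨ c ^ (2 ^ (e + 1)) = (-1) * J0gl := by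
  obtain ⟨c₄, hc₄⟩ : ∃ c₄ : GL (Fin 2) F, c₄ = c ^ (2 ^ (e + 1)) := ⟨_, rfl⟩
  rw [← hc₄]
  have hK : c₄ ∈ (Kgl : Subgroup (GL (Fin 2) F)) := by
    rw [hc₄]; exact Subgroup.pow_mem _ hd.mem_Kgl _
  obtain ⟨x, y, hxy⟩ := hK
  have h1 : c₄ * c₄ = -1 := by
    rw [hc₄, ← pow_add, ← two_mul, ← pow_succ', hd.pow]
  have h3 : c₄ * (phi * c₄ * phi) = 1 := by
    have := hd.norm_zpow ((2 ^ (e + 1) : ℕ) : ℤ)
    rw [zpow_natCast, zpow_natCast, ← hc₄] at this
    rw [this, pow_succ', pow_mul, pow_two, neg_one_mul_neg_one, one_pow]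
  have e1 := congrArg (fun g : GL (Fin 2) F => (g : Matrix (Fin 2) (Fin 2) F)) h1
  have e3 := congrArg (fun g : GL (Fin 2) F => (g : Matrix (Fin 2) (Fin 2) F)) h3
  simp only [Matrix.GeneralLinearGroup.coe_mul] at e1 e3
  rw [← Matrix.GeneralLinearGroup.coe_mul, ← Matrix.GeneralLinearGroup.coe_mul,
    phi_conj_coe c₄ x y hxy, hxy, kap_mul] at e3
  rw [hxy, kap_mul] at e1
  have e1' : kap (x * x - y * y) (x * y + y * x) = kap (-1) 0 := by
    rw [e1]
    unfold kap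
    ext i j
    fin_cases i <;> fin_cases j <;> simp
  have e3' : kap (x * x - y * -y) (x * -y + y * x) = kap 1 0 := by
    rw [e3, kap_one]; rfl
  have f1 := (kap_injective e1').1
  have f3 := (kap_injective e3').1
  have hx : x = 0 := by
    have : (2 : F) * (x * x) = 0 := by linear_combination f1 + f3
    have := (mul_eq_zero.mp this).resolve_left h2
    exact mul_self_eq_zero.mp this
  have hy : y * y = 1 := by
    rw [hx] at f3
    linear_combination f3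
  rcases mul_self_eq_one_iff.mp hy with hy1 | hy1
  · left
    apply Matrix.GeneralLinearGroup.ext
    intro i j
    rw [hxy, J0gl_coe, hx, hy1]
  · right
    apply Matrix.GeneralLinearGroup.ext
    intro i j
    rw [hxy, Matrix.GeneralLinearGroup.coe_mul, J0gl_coe, hx, hy1]
    unfold kap
    fin_cases i <;> fin_cases j <;> simp [Matrix.mul_apply, Fin.sum_univ_two]

theorem hsc_sd [Finite F] (h2 : (2 : F) ≠ 0) (hd : SDdat c α β e)
    (A : Subgroup (SpecialLinearGroup (Fin 3) F))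
    (μ : Subgroup Fˣ) (hμ : ∀ x ∈ μ, x = 1 ∨ x = -1) (hneg : -1 ∈ μ)
    (hPA : (Msd c α β e hd).map blk ≤ A) (hw12 : w12 ∈ A) (hw23 : w23 ∈ A)
    (hk3 : blk (k3gl h2 α β hd.norm) ∈ A)
    (T : Subgroup (SpecialLinearGroup (Fin 3) F)) (hTP : T ≤ (Msd c α β e hd).map blk)
    (hT : T ≠ ⊥)
    (hcl : ∀ t ∈ T, ∀ g ∈ A, g * t * g⁻¹ ∈ (Msd c α β e hd).map blk → g * t * g⁻¹ ∈ T) :
    (Msd c α β e hd).map blk ≤ T := by
  haveI : Fact (Nat.Prime 2) := ⟨Nat.prime_two⟩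
  have hBP : ∀ x ∈ μ, ∀ y ∈ μ, dg x y ∈ (Msd c α β e hd).map blk := by
    intro x hx y hy
    exact Subgroup.mem_map_of_mem _ (Bgl_le_Msd hd μ hμ (mem_Bgl.mpr ⟨x, hx, y, hy, rfl⟩))
  have hcP : blk c ∈ (Msd c α β e hd).map blk :=
    Subgroup.mem_map_of_mem _ (zpowers_le_Msd (Subgroup.mem_zpowers c))
  have hnormal : ∀ g ∈ (Msd c α β e hd).map blk, ∀ t ∈ T, g * t * g⁻¹ ∈ T := by
    intro g hg t ht
    exact hcl t ht g (hPA hg) (Subgroup.mul_mem _ (Subgroup.mul_mem _ hg (hTP ht))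
      (Subgroup.inv_mem _ hg))
  -- step 1
  have hzT : blk (-1 : GL (Fin 2) F) ∈ T := by
    obtain ⟨z', hz'T, hz'1, hz'c⟩ := exists_central_of_normal' (p := 2)
      ((isPGroup_Msd hd).map blk) hTP hT hnormal
    obtain ⟨m, hm, rfl⟩ := hTP hz'T
    have hmc : ∀ m' ∈ Msd c α β e hd, m * m' = m' * m := by
      intro m' hm'
      apply blk_injective
      rw [map_mul, map_mul]
      exact (hz'c _ (Subgroup.mem_map_of_mem _ hm')).symm
    have hm1 : m ≠ 1 := by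
      intro h; apply hz'1; rw [h, map_one]
    obtain ⟨k, hk⟩ := isPGroup_Msd hd ⟨m, hm⟩
    have hk' : m ^ (2 ^ k) = 1 := by
      have := congrArg Subtype.val hk
      simpa using this
    obtain ⟨j, hj1, hj2⟩ := exists_pow_involution m hm1 k hk'
    have hjc : ∀ m' ∈ Msd c α β e hd, m ^ (2 ^ j) * m' = m' * m ^ (2 ^ j) := by
      intro m' hm'
      exact ((show Commute m m' from hmc m' hm').pow_left _).eq
    have h4 := (hcen_Msd h2 hd (m ^ (2 ^ j)) (Subgroup.pow_mem _ hm _) hjc hj2).resolve_left hj1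
    rw [← h4, map_pow]
    exact T.pow_mem hz'T _
  have hzT' : dg (-1) (-1) ∈ T := by
    rw [← zel_eq_dg]; exact hzT
  -- step 2
  have h2T : dg (-1) 1 ∈ T := by
    have h1 := hcl _ hzT' w23 hw23
    have e : w23 * dg (-1) (-1) * w23⁻¹ = dg (-1 : Fˣ) 1 := by
      rw [w23_mul_dg, mul_assoc, w23_inv, w23_mul_w23, mul_one]
      congr 1
      simp
    rw [e] at h1
    exact h1 (hBP _ hneg _ μ.one_mem)
  have h3T : blk phi ∈ T := by
    have h1 := hcl _ h2T w12 hw12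
    rw [w12_mul_dg, mul_assoc, w12_inv, w12_mul_w12, mul_one] at h1
    exact h1 (hBP _ μ.one_mem _ hneg)
  -- step 3
  have hccT : blk (c * c) ∈ T := by
    have h1 := hnormal (blk c) hcP _ h3T
    have h3 : blk c * blk phi * (blk c)⁻¹ * (blk phi)⁻¹ ∈ T := T.mul_mem h1 (T.inv_mem h3T)
    have e1 : blk c * blk phi * (blk c)⁻¹ * (blk phi)⁻¹ = blk ((c * c) * (-1)) := by
      rw [← map_inv, ← map_inv, ← map_mul, ← map_mul, ← map_mul]
      congr 1
      have e2 : c * phi * c⁻¹ * phi⁻¹ = c * (phi * c * phi)⁻¹ := by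
        rw [phi_inv]
        have : (phi * c * phi)⁻¹ = phi⁻¹ * c⁻¹ * phi⁻¹ := by group
        rw [this, phi_inv]; group
      rw [e2, hd.phi_conj, _root_.mul_inv_rev, inv_inv]
      have : (-1 : GL (Fin 2) F)⁻¹ = -1 := inv_eq_of_mul_eq_one_right neg_one_mul_neg_one
      rw [this, mul_assoc]
    rw [e1, map_mul] at h3
    have := T.mul_mem h3 hzT
    rwa [mul_assoc, ← map_mul, neg_one_mul_neg_one, map_one, mul_one] at this
  -- step 4
  have hJT : blk J0gl ∈ T := by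
    have h1 : blk (c ^ (2 ^ (e + 1))) ∈ T := by
      have : c ^ (2 ^ (e + 1)) = (c * c) ^ (2 ^ e) := by
        rw [← pow_two, ← pow_mul, ← pow_succ']
      rw [this, map_pow]
      exact T.pow_mem hccT _
    rcases c4_eq h2 hd with h4 | h4
    · rwa [h4] at h1
    · rw [h4, map_mul] at h1
      have := T.mul_mem hzT h1
      rwa [← mul_assoc, ← map_mul, neg_one_mul_neg_one, map_one, one_mul] at this
  -- step 5
  have hcT : blk c ∈ T := by
    have h1 := hcl _ hJT _ hk3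
    have e1 : blk (k3gl h2 α β hd.norm) * blk J0gl * (blk (k3gl h2 α β hd.norm))⁻¹ =
        blk (c * phi) := by
      rw [← map_mul, k3gl_mul h2 hd, map_mul, mul_assoc, mul_inv_cancel, mul_one]
    rw [e1] at h1
    have h3 : blk (c * phi) ∈ T := h1 (Subgroup.mem_map_of_mem _
      (Subgroup.mul_mem _ (zpowers_le_Msd (Subgroup.mem_zpowers c)) phi_mem_Msd))
    have := T.mul_mem h3 h3T
    rwa [← map_mul, mul_assoc, phi_mul_phi, mul_one] at this
  -- step 6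
  have hzpT : ∀ a ∈ Subgroup.zpowers c, blk a ∈ T := by
    intro a ha
    obtain ⟨k, rfl⟩ := Subgroup.mem_zpowers_iff.mp ha
    rw [map_zpow]
    exact T.zpow_mem hcT _
  rintro _ ⟨m, hm, rfl⟩
  rcases mem_Msd.mp hm with h1 | ⟨a, ha, rfl⟩
  · exact hzpT m h1
  · rw [map_mul]
    exact T.mul_mem (hzpT a ha) h3T

/-- the semidihedral case -/
theorem sd_simple [Finite F] (h2 : (2 : F) ≠ 0)
    {Y G : Type*} [Group Y] [Finite Y] [Group G] [Finite G]
    (π : Y →* G) (hπ : Function.Surjective π) (hker : π.ker ≤ Subgroup.center Y)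
    (hZ : (Nat.card π.ker).Coprime 2)
    (ι : Y →* SpecialLinearGroup (Fin 3) F) (hι : Function.Injective ι)
    (A : Subgroup (SpecialLinearGroup (Fin 3) F)) (hA : ι.range = A)
    (Λ μ : Subgroup Fˣ) (hd : SDdat c α β e)
    (hΛ : ∀ x y : Fˣ, dg x y ∈ A ↔ x ∈ Λ ∧ y ∈ Λ)
    (hw12 : w12 ∈ A) (hw23 : w23 ∈ A) (hk3 : blk (k3gl h2 α β hd.norm) ∈ A) (hcA : blk c ∈ A)
    (hμΛ : μ ≤ Λ) (hμ2 : ∀ x ∈ Λ, (∃ k : ℕ, x ^ (2 ^ k) = 1) → x ∈ μ)
    (hμ : ∀ x ∈ μ, x = 1 ∨ x = -1) (hneg : -1 ∈ μ)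
    (S : Sylow 2 G) : (groupFusionSystem (S : Subgroup G)).IsSimple 2 := by
  have hphiA : blk phi ∈ A := (hΛ 1 (-1)).mpr ⟨Λ.one_mem, hμΛ hneg⟩
  have hPA : (Msd c α β e hd).map blk ≤ A := by
    have hzp : ∀ a ∈ Subgroup.zpowers c, blk a ∈ A := by
      intro a ha
      obtain ⟨k, rfl⟩ := Subgroup.mem_zpowers_iff.mp ha
      rw [map_zpow]
      exact A.zpow_mem hcA _
    rintro _ ⟨m, hm, rfl⟩
    rcases mem_Msd.mp hm with h1 | ⟨a, ha, rfl⟩
    · exact hzp m h1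
    · rw [map_mul]
      exact A.mul_mem (hzp a ha) hphiA
  refine main_of_M h2 π hπ hker hZ ι hι A hA Λ μ (Msd c α β e hd) hΛ hw12 hw23 hμΛ hμ2 hneg hPA
    (isPGroup_Msd hd) (Bgl_le_Msd hd μ hμ) (hcen_Msd h2 hd) ?_ ?_ S
  · intro A' hA'
    exact normalizer_Msd h2 hd A' hA'
  · intro T hTP hT hcl
    exact hsc_sd h2 hd A μ hμ hneg hPA hw12 hw23 hk3 T hTP hT hcl

end Cfsg.Agent.H9L3
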