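import Mathlib
import Cfsg.Prelude
import Cfsg.Agent.Lib.Helper9.L3Fus16

set_option autoImplicit false

/-!
# Membership in `SU₃` via matrices
-/

namespace Cfsg.Agent.H9L3

open Matrix Cfsg

variable {F : Type*} [Field F]

/-- the involutory automorphism of a field with `q^2` elements -/
theorem exists_sigma' [Fintype F] {q : ℕ} (hF : Fintype.card F = q ^ 2) :
    ∃ σ : F ≃+* F, ∀ a : F, σ a = a ^ q := by
  classical
  obtain ⟨p, hchar⟩ := CharP.exists F
  obtain ⟨n, hp, hn⟩ := FiniteField.card F p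
  haveI : Fact p.Prime := ⟨hp⟩
  have hq : q ∣ p ^ (n : ℕ) := by
    rw [← hn, hF, pow_two]
    exact Dvd.intro _ rfl
  obtain ⟨a, ha, rfl⟩ := (Nat.dvd_prime_pow hp).1 hq
  have hbij : Function.Bijective (iterateFrobenius F p a) :=
    Finite.injective_iff_bijective.1 (iterateFrobenius F p a).injective
  refine ⟨RingEquiv.ofBijective (iterateFrobenius F p a) hbij, ?_⟩
  intro x
  show iterateFrobenius F p a x = x ^ p ^ a
  rw [iterateFrobenius_def]

section sigma

variable {q : ℕ} (σ : F ≃+* F) (hσq : ∀ a : F, σ a = a ^ q)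

include hσq in
theorem hermForm_eq' {n : ℕ} (u v : Fin n → F) :
    Cfsg.hermForm n F q u v = u ⬝ᵥ (fun i => σ (v i)) := by
  unfold Cfsg.hermForm dotProduct
  apply Finset.sum_congr rfl
  intro i _
  show u i * v i ^ q = u i * σ (v i)
  rw [hσq]

include hσq in
theorem mem_SU_iff_mat {n : ℕ} (g : SpecialLinearGroup (Fin n) F) :
    g ∈ Cfsg.SU n F q ↔
      (g : Matrix (Fin n) (Fin n) F)ᵀ * (g : Matrix (Fin n) (Fin n) F).map σ = 1 := by
  have hmap : ∀ v : Fin n → F, (fun i => σ (((g : Matrix (Fin n) (Fin n) F) *ᵥ v) i))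
      = (g : Matrix (Fin n) (Fin n) F).map σ *ᵥ (fun i => σ (v i)) := by
    intro v
    ext i
    simp [Matrix.mulVec, dotProduct, map_sum, map_mul]
  have hform : ∀ u v : Fin n → F,
      Cfsg.hermForm n F q ((g : Matrix (Fin n) (Fin n) F) *ᵥ u)
        ((g : Matrix (Fin n) (Fin n) F) *ᵥ v)
      = u ⬝ᵥ (((g : Matrix (Fin n) (Fin n) F)ᵀ * (g : Matrix (Fin n) (Fin n) F).map σ)
        *ᵥ (fun i => σ (v i))) := by
    intro u v
    rw [hermForm_eq' σ hσq, hmap]
    conv_rhs => rw [← Matrix.mulVec_mulVec, Matrix.dotProduct_mulVec, Matrix.vecMul_transpose]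
  constructor
  · intro hg
    have hg' : ∀ u v : Fin n → F,
        Cfsg.hermForm n F q ((g : Matrix (Fin n) (Fin n) F) *ᵥ u)
          ((g : Matrix (Fin n) (Fin n) F) *ᵥ v) = Cfsg.hermForm n F q u v := hg
    ext i j
    have h1 := hg' (Pi.single i 1) (fun k => σ.symm ((Pi.single j (1 : F) : Fin n → F) k))
    rw [hform, hermForm_eq' σ hσq] at h1
    simp only [RingEquiv.apply_symm_apply] at h1
    rw [Matrix.mulVec_single_one, single_one_dotProduct, single_one_dotProduct,
      Matrix.col_apply, Pi.single_apply] at h1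
    rw [Matrix.one_apply, h1]
  · intro h u v
    show Cfsg.hermForm n F q ((g : Matrix (Fin n) (Fin n) F) *ᵥ u)
      ((g : Matrix (Fin n) (Fin n) F) *ᵥ v) = Cfsg.hermForm n F q u v
    rw [hform, h, Matrix.one_mulVec, hermForm_eq' σ hσq]

theorem blkMat_transpose (A : Matrix (Fin 2) (Fin 2) F) (d : F) :
    (blkMat A d)ᵀ = blkMat Aᵀ d := by
  ext i j
  fin_cases i <;> fin_cases j <;> simp [blkMat]

theorem blkMat_map (A : Matrix (Fin 2) (Fin 2) F) (d : F) :
    (blkMat A d).map σ = blkMat (A.map σ) (σ d) := by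
  ext i j
  fin_cases i <;> fin_cases j <;> simp [blkMat]

include hσq in
/-- a unitary `2 × 2` block gives an element of `SU₃` -/
theorem blk_mem_SU (A : GL (Fin 2) F)
    (hA : (A : Matrix (Fin 2) (Fin 2) F)ᵀ * (A : Matrix (Fin 2) (Fin 2) F).map σ = 1) :
    blk A ∈ Cfsg.SU 3 F q := by
  rw [mem_SU_iff_mat σ hσq, blk_coe, blkMat_transpose, blkMat_map, blkMat_mul, hA]
  have hdet : (A : Matrix (Fin 2) (Fin 2) F).det * σ ((A : Matrix (Fin 2) (Fin 2) F).det) = 1 := by
    have := congrArg Matrix.det hA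
    rw [Matrix.det_mul, Matrix.det_transpose, Matrix.det_one] at this
    rw [← this]
    congr 1
    exact (RingHom.map_det σ.toRingHom _)
  have : ((A : Matrix (Fin 2) (Fin 2) F).det)⁻¹ * σ (((A : Matrix (Fin 2) (Fin 2) F).det)⁻¹) = 1 := by
    rw [map_inv₀, ← mul_inv, hdet, inv_one]
  rw [this, blkMat_one]

include hσq in
theorem blk_mem_SU_iff (A : GL (Fin 2) F) :
    blk A ∈ Cfsg.SU 3 F q ↔
      (A : Matrix (Fin 2) (Fin 2) F)ᵀ * (A : Matrix (Fin 2) (Fin 2) F).map σ = 1 := by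
  constructor
  · intro h
    rw [mem_SU_iff_mat σ hσq, blk_coe, blkMat_transpose, blkMat_map, blkMat_mul, ← blkMat_one] at h
    exact (blkMat_injective h).1
  · exact blk_mem_SU σ hσq A

end sigma

end Cfsg.Agent.H9L3
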