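import Mathlib
import Cfsg.Prelude.Def_Local
import Cfsg.Prelude.Def_Balance
import Cfsg.Agent.Lib.Helper3.Components2
import Cfsg.Agent.Lib.Helper3.Components4
import Cfsg.Agent.Lib.Helper3.Components5

/-!
# S1305 swarm, packages PB0 + PB (helper9)

`le_of_le_sup_of_commute` (PB0) and `exists_component_of_le_layer` (PB) with the exact signatures of
`notes/S1305_stub.lean.txt`.  Auxiliary lemmas live in `Cfsg.Agent.Lib.MaxComp.PB`.
Conjugation is LEFT: `MulAut.conj a x = a * x * a⁻¹`.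
-/

set_option autoImplicit false

namespace Cfsg.Agent.Lib.MaxComp

open Cfsg Cfsg.Agent.Lib.Helper3
open scoped commutatorElement

namespace PB

variable {X : Type*} [Group X]

theorem comm_mul_right_of_commute {x y z : X} (h : z * y = y * z) : ⁅x * z, y⁆ = ⁅x, y⁆ := by
  simp only [commutatorElement_def, mul_inv_rev]
  have h1 : z * y * z⁻¹ = y := by rw [h]; group
  calc x * z * y * (z⁻¹ * x⁻¹) * y⁻¹ = x * (z * y * z⁻¹) * x⁻¹ * y⁻¹ := by group
    _ = _ := by rw [h1]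

theorem comm_mul_left_of_commute {x y z : X} (h : z * x = x * z) : ⁅x, y * z⁆ = ⁅x, y⁆ := by
  simp only [commutatorElement_def, mul_inv_rev]
  have h1 : z * x⁻¹ * z⁻¹ = x⁻¹ := by
    have : z * x⁻¹ = x⁻¹ * z := by
      calc z * x⁻¹ = x⁻¹ * (x * z) * x⁻¹ := by group
        _ = x⁻¹ * (z * x) * x⁻¹ := by rw [h]
        _ = _ := by group
    rw [this]; group
  calc x * (y * z) * x⁻¹ * (z⁻¹ * y⁻¹) = x * y * (z * x⁻¹ * z⁻¹) * y⁻¹ := by group
    _ = _ := by rw [h1]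

theorem comm_mul_mul {N M : Subgroup X} (hc : ∀ n ∈ N, ∀ m ∈ M, n * m = m * n) {n1 n2 m1 m2 : X}
    (hn1 : n1 ∈ N) (hn2 : n2 ∈ N) (hm1 : m1 ∈ M) (hm2 : m2 ∈ M) :
    ⁅n1 * m1, n2 * m2⁆ = ⁅n1, n2⁆ * ⁅m1, m2⁆ := by
  let φ : N × M →* X := N.subtype.noncommCoprod M.subtype (fun n m => hc n n.2 m m.2)
  have h := map_commutatorElement φ ((⟨n1,hn1⟩, ⟨m1,hm1⟩) : N × M) (⟨n2,hn2⟩, ⟨m2,hm2⟩)
  have e1 : φ (⟨n1,hn1⟩, ⟨m1,hm1⟩) = n1 * m1 := rfl
  have e2 : φ (⟨n2,hn2⟩, ⟨m2,hm2⟩) = n2 * m2 := rfl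
  have e3 : φ ⁅((⟨n1,hn1⟩, ⟨m1,hm1⟩) : N × M), (⟨n2,hn2⟩, ⟨m2,hm2⟩)⁆ = ⁅n1, n2⁆ * ⁅m1, m2⁆ := rfl
  rw [e1, e2, e3] at h
  exact h.symm

/-- elementwise commutation from `⁅N, M⁆ = ⊥`. -/
theorem comm_of_commutator_eq_bot {N M : Subgroup X} (h : ⁅N, M⁆ = ⊥) :
    ∀ n ∈ N, ∀ m ∈ M, n * m = m * n := by
  intro n hn m hm
  have h1 := Subgroup.commutator_eq_bot_iff_le_centralizer.mp h hn
  exact (Subgroup.mem_centralizer_iff.mp h1 m hm).symm

/-- the key computation: if `n₁m₁` and `n₂m₂` are fixed by `a`, then so is `⁅n₁, n₂⁆`. -/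
theorem conj_comm_eq (a : X) {N M : Subgroup X} (hc : ∀ n ∈ N, ∀ m ∈ M, n * m = m * n)
    (hNa : ∀ n ∈ N, a * n * a⁻¹ ∈ N) (hMa : ∀ m ∈ M, a * m * a⁻¹ ∈ M)
    {n1 n2 m1 m2 : X} (hn1 : n1 ∈ N) (hn2 : n2 ∈ N) (hm1 : m1 ∈ M) (hm2 : m2 ∈ M)
    (h1 : a * (n1 * m1) * a⁻¹ = n1 * m1) (h2 : a * (n2 * m2) * a⁻¹ = n2 * m2) :
    a * ⁅n1, n2⁆ * a⁻¹ = ⁅n1, n2⁆ := by
  -- z_i := n_i⁻¹ * (a n_i a⁻¹) ∈ N ⊓ M
  have key : ∀ n ∈ N, ∀ m ∈ M, a * (n * m) * a⁻¹ = n * m →
      ∃ z ∈ N, z ∈ M ∧ a * n * a⁻¹ = n * z := by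
    intro n hn m hm h
    refine ⟨n⁻¹ * (a * n * a⁻¹), N.mul_mem (N.inv_mem hn) (hNa n hn), ?_, by group⟩
    have e : n⁻¹ * (a * n * a⁻¹) = m * (a * m * a⁻¹)⁻¹ := by
      have e1 : (a * n * a⁻¹) * (a * m * a⁻¹) = n * m := by
        rw [← h]; group
      calc n⁻¹ * (a * n * a⁻¹) = n⁻¹ * ((a * n * a⁻¹) * (a * m * a⁻¹)) * (a * m * a⁻¹)⁻¹ := by
            group
        _ = n⁻¹ * (n * m) * (a * m * a⁻¹)⁻¹ := by rw [e1]
        _ = _ := by group
    rw [e]
    exact M.mul_mem hm (M.inv_mem (hMa m hm))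
  obtain ⟨z1, hz1N, hz1M, e1⟩ := key n1 hn1 m1 hm1 h1
  obtain ⟨z2, hz2N, hz2M, e2⟩ := key n2 hn2 m2 hm2 h2
  have e0 : a * ⁅n1, n2⁆ * a⁻¹ = ⁅a * n1 * a⁻¹, a * n2 * a⁻¹⁆ := by
    simp only [commutatorElement_def]; group
  rw [e0, e1, e2]
  have c1 : z1 * (n2 * z2) = (n2 * z2) * z1 := (hc (n2 * z2) (N.mul_mem hn2 hz2N) z1 hz1M).symm
  have c2 : z2 * n1 = n1 * z2 := (hc n1 hn1 z2 hz2M).symm
  rw [comm_mul_right_of_commute c1, comm_mul_left_of_commute c2]

theorem comm_mem {N : Subgroup X} {n1 n2 : X} (h1 : n1 ∈ N) (h2 : n2 ∈ N) : ⁅n1, n2⁆ ∈ N := by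
  rw [commutatorElement_def]
  exact N.mul_mem (N.mul_mem (N.mul_mem h1 h2) (N.inv_mem h1)) (N.inv_mem h2)

/-- the component dichotomy transported from `↥C` to `X`. -/
theorem sub_dichotomy {C K H : Subgroup X} (hKC : K ≤ C) (hK : IsComponent (K.subgroupOf C))
    (hHC : H ≤ C) (hn : K ≤ Subgroup.normalizer (H : Set X)) : K ≤ H ∨ ⁅K, H⁆ = ⊥ := by
  have hn' : K.subgroupOf C ≤ Subgroup.normalizer ((H.subgroupOf C : Subgroup C) : Set C) := by
    intro k hk
    have h1 := hn (Subgroup.mem_subgroupOf.mp hk)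
    rw [Subgroup.mem_normalizer_iff] at h1 ⊢
    intro x
    rw [Subgroup.mem_subgroupOf, Subgroup.mem_subgroupOf]
    exact h1 (x : X)
  rcases IsComponent.le_or_commutator_eq_bot_of_le_normalizer hK hn' with h1 | h1
  · left
    intro k hk
    have : (⟨k, hKC hk⟩ : C) ∈ H.subgroupOf C := h1 (Subgroup.mem_subgroupOf.mpr hk)
    exact Subgroup.mem_subgroupOf.mp this
  · right
    rw [Subgroup.commutator_eq_bot_iff_le_centralizer] at h1 ⊢
    intro k hk
    rw [Subgroup.mem_centralizer_iff]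
    intro h hh
    have h2 := h1 (show (⟨k, hKC hk⟩ : C) ∈ K.subgroupOf C from Subgroup.mem_subgroupOf.mpr hk)
    rw [Subgroup.mem_centralizer_iff] at h2
    have h3 := h2 ⟨h, hHC hh⟩ (show (⟨h, hHC hh⟩ : C) ∈ H.subgroupOf C from
      Subgroup.mem_subgroupOf.mpr hh)
    exact congrArg Subtype.val h3

/-- `K` is perfect. -/
theorem sub_perfect {C K : Subgroup X} (hKC : K ≤ C) (hK : IsComponent (K.subgroupOf C)) :
    ⁅K, K⁆ = K := by
  have h1 := IsQuasisimple.commutator_eq_self hK.2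
  have h2 := congrArg (Subgroup.map C.subtype) h1
  rw [Subgroup.map_commutator, Subgroup.subgroupOf_map_subtype, inf_eq_left.mpr hKC] at h2
  exact h2

theorem sub_ne_bot {C K : Subgroup X} (hK : IsComponent (K.subgroupOf C)) : K ≠ ⊥ := by
  intro h
  apply IsQuasisimple.ne_bot hK.2
  rw [h]
  exact Subgroup.bot_subgroupOf C

/-- **PB0** with `≤`-type invariance hypotheses. -/
theorem le_of_le_sup_of_commute' (a : X) (K N M : Subgroup X)
    (hKa : K ≤ Subgroup.centralizer ({a} : Set X))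
    (hK : IsComponent (K.subgroupOf (Subgroup.centralizer ({a} : Set X))))
    (hNM : ⁅N, M⁆ = ⊥) (hKNM : K ≤ N ⊔ M)
    (hNa : ∀ n ∈ N, a * n * a⁻¹ ∈ N) (hMa : ∀ m ∈ M, a * m * a⁻¹ ∈ M)
    (hKN : ⁅K, N⁆ ≠ ⊥) : K ≤ N := by
  set C := Subgroup.centralizer ({a} : Set X) with hC
  have hc := comm_of_commutator_eq_bot hNM
  have hc' : ∀ m ∈ M, ∀ n ∈ N, m * n = n * m := fun m hm n hn => (hc n hn m hm).symm
  have hMN : ⁅M, N⁆ = ⊥ := by rw [Subgroup.commutator_comm]; exact hNM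
  have hNcM : N ≤ Subgroup.centralizer (M : Set X) :=
    Subgroup.commutator_eq_bot_iff_le_centralizer.mp hNM
  have hMcN : M ≤ Subgroup.centralizer (N : Set X) :=
    Subgroup.commutator_eq_bot_iff_le_centralizer.mp hMN
  have hKnN : K ≤ Subgroup.normalizer (N : Set X) :=
    hKNM.trans (sup_le Subgroup.le_normalizer (hMcN.trans (Subgroup.centralizer_le_normalizer _)))
  have hKnM : K ≤ Subgroup.normalizer (M : Set X) :=
    hKNM.trans (sup_le (hNcM.trans (Subgroup.centralizer_le_normalizer _)) Subgroup.le_normalizer)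
  have hKnC : K ≤ Subgroup.normalizer (C : Set X) := hKa.trans Subgroup.le_normalizer
  have hKn1 : K ≤ Subgroup.normalizer ((N ⊓ C : Subgroup X) : Set X) :=
    (le_inf hKnN hKnC).trans Subgroup.inf_normalizer_le_normalizer_inf
  have hKn2 : K ≤ Subgroup.normalizer ((M ⊓ C : Subgroup X) : Set X) :=
    (le_inf hKnM hKnC).trans Subgroup.inf_normalizer_le_normalizer_inf
  rcases sub_dichotomy hKa hK (inf_le_right : N ⊓ C ≤ C) hKn1 with h1 | h1
  · exact h1.trans inf_le_left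
  rcases sub_dichotomy hKa hK (inf_le_right : M ⊓ C ≤ C) hKn2 with h2 | h2
  · exfalso
    apply hKN
    rw [eq_bot_iff, ← hMN]
    exact Subgroup.commutator_mono (h2.trans inf_le_left) le_rfl
  -- now `K` centralizes `N ⊓ C` and `M ⊓ C`; but `K = ⁅K, K⁆ ≤ (N ⊓ C) ⊔ (M ⊓ C)`
  exfalso
  have hperf := sub_perfect hKa hK
  have hfix : ∀ k ∈ K, a * k * a⁻¹ = k := by
    intro k hk
    have := Subgroup.mem_centralizer_iff.mp (hKa hk) a (Set.mem_singleton a)
    rw [this]; group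
  have hdec : ∀ k ∈ K, ∃ n ∈ N, ∃ m ∈ M, k = n * m := by
    intro k hk
    have h3 : k ∈ ((N ⊔ M : Subgroup X) : Set X) := hKNM hk
    rw [Subgroup.coe_mul_of_left_le_normalizer_right N M
      (hNcM.trans (Subgroup.centralizer_le_normalizer _))] at h3
    obtain ⟨n, hn, m, hm, e⟩ := h3
    exact ⟨n, hn, m, hm, e.symm⟩
  have hKK : ⁅K, K⁆ ≤ (N ⊓ C) ⊔ (M ⊓ C) := by
    rw [Subgroup.commutator_le]
    intro k1 hk1 k2 hk2
    obtain ⟨n1, hn1, m1, hm1, rfl⟩ := hdec k1 hk1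
    obtain ⟨n2, hn2, m2, hm2, rfl⟩ := hdec k2 hk2
    rw [comm_mul_mul hc hn1 hn2 hm1 hm2]
    have f1 := hfix _ hk1
    have f2 := hfix _ hk2
    have g1 : a * ⁅n1, n2⁆ * a⁻¹ = ⁅n1, n2⁆ := conj_comm_eq a hc hNa hMa hn1 hn2 hm1 hm2 f1 f2
    have f1' : a * (m1 * n1) * a⁻¹ = m1 * n1 := by rw [← hc n1 hn1 m1 hm1]; exact f1
    have f2' : a * (m2 * n2) * a⁻¹ = m2 * n2 := by rw [← hc n2 hn2 m2 hm2]; exact f2
    have g2 : a * ⁅m1, m2⁆ * a⁻¹ = ⁅m1, m2⁆ := conj_comm_eq a hc' hMa hNa hm1 hm2 hn1 hn2 f1' f2'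
    have memC : ∀ x : X, a * x * a⁻¹ = x → x ∈ C := by
      intro x hx
      rw [hC, Subgroup.mem_centralizer_iff]
      intro h hh
      rw [Set.mem_singleton_iff] at hh
      subst hh
      calc h * x = (h * x * h⁻¹) * h := by group
        _ = x * h := by rw [hx]
    apply Subgroup.mul_mem
    · apply Subgroup.mem_sup_left
      exact Subgroup.mem_inf.mpr ⟨comm_mem hn1 hn2, memC _ g1⟩
    · apply Subgroup.mem_sup_right
      exact Subgroup.mem_inf.mpr ⟨comm_mem hm1 hm2, memC _ g2⟩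
  have hcent : (N ⊓ C) ⊔ (M ⊓ C) ≤ Subgroup.centralizer (K : Set X) := by
    apply sup_le
    · rw [← Subgroup.commutator_eq_bot_iff_le_centralizer, Subgroup.commutator_comm]; exact h1
    · rw [← Subgroup.commutator_eq_bot_iff_le_centralizer, Subgroup.commutator_comm]; exact h2
  have hKab : ⁅K, K⁆ = ⊥ := by
    rw [Subgroup.commutator_eq_bot_iff_le_centralizer]
    calc K = ⁅K, K⁆ := hperf.symm
      _ ≤ _ := hKK.trans hcent
  exact sub_ne_bot hK (hperf.symm.trans hKab)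

/-- `a`-invariance of `E(X) ∩ C(N)` for an `a`-invariant `N`. -/
theorem conj_mem_layer_inf_centralizer (a : X) {N : Subgroup X}
    (hN : N.map (MulAut.conj a).toMonoidHom = N) :
    ∀ m ∈ layer X ⊓ Subgroup.centralizer (N : Set X),
      a * m * a⁻¹ ∈ layer X ⊓ Subgroup.centralizer (N : Set X) := by
  intro m hm
  obtain ⟨hmE, hmC⟩ := Subgroup.mem_inf.mp hm
  refine Subgroup.mem_inf.mpr ⟨(layer_normal (G := X)).conj_mem m hmE a, ?_⟩
  rw [Subgroup.mem_centralizer_iff] at hmC ⊢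
  intro d hd
  have hd' : d ∈ N.map (MulAut.conj a).toMonoidHom := by rw [hN]; exact hd
  obtain ⟨d0, hd0, rfl⟩ := hd'
  have h1 := hmC d0 hd0
  simp only [MulEquiv.coe_toMonoidHom, MulAut.conj_apply]
  calc a * d0 * a⁻¹ * (a * m * a⁻¹) = a * (d0 * m) * a⁻¹ := by group
    _ = a * (m * d0) * a⁻¹ := by rw [h1]
    _ = _ := by group

/-- if every component lies in `N` or centralizes `N`, then `E(X) ≤ N (E(X) ∩ C(N))`. -/
theorem layer_le_sup {N : Subgroup X}
    (h : ∀ L : Subgroup X, IsComponent L → L ≤ N ∨ ⁅L, N⁆ = ⊥) :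
    layer X ≤ N ⊔ (layer X ⊓ Subgroup.centralizer (N : Set X)) := by
  rw [layer_le_iff]
  intro L hL
  rcases h L hL with h1 | h1
  · exact h1.trans le_sup_left
  · refine le_trans ?_ le_sup_right
    exact le_inf (IsComponent.le_layer hL) (Subgroup.commutator_eq_bot_iff_le_centralizer.mp h1)

/-- unified form of the two cases of **PB**. -/
theorem le_of_invariant (a : X) (K N : Subgroup X)
    (hKa : K ≤ Subgroup.centralizer ({a} : Set X))
    (hK : IsComponent (K.subgroupOf (Subgroup.centralizer ({a} : Set X))))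
    (hKE : K ≤ layer X) (hN : N.map (MulAut.conj a).toMonoidHom = N)
    (h : ∀ L : Subgroup X, IsComponent L → L ≤ N ∨ ⁅L, N⁆ = ⊥)
    (hKN : ⁅K, N⁆ ≠ ⊥) : K ≤ N := by
  refine le_of_le_sup_of_commute' a K N (layer X ⊓ Subgroup.centralizer (N : Set X)) hKa hK ?_
    (hKE.trans (layer_le_sup h)) ?_ (conj_mem_layer_inf_centralizer a hN) hKN
  · rw [Subgroup.commutator_comm, Subgroup.commutator_eq_bot_iff_le_centralizer]
    exact inf_le_right
  · intro n hn
    have : a * n * a⁻¹ ∈ N.map (MulAut.conj a).toMonoidHom := ⟨n, hn, by simp⟩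
    rwa [hN] at this

theorem map_conj_map_conj_of_sq (a : X) (ha : a * a = 1) (D : Subgroup X) :
    (D.map (MulAut.conj a).toMonoidHom).map (MulAut.conj a).toMonoidHom = D := by
  rw [Subgroup.map_map]
  have h2 : a⁻¹ = a := by rw [inv_eq_iff_mul_eq_one]; exact ha
  have : (MulAut.conj a).toMonoidHom.comp (MulAut.conj a).toMonoidHom = MonoidHom.id X := by
    ext x
    simp only [MonoidHom.coe_comp, MulEquiv.coe_toMonoidHom, Function.comp_apply,
      MulAut.conj_apply, MonoidHom.id_apply]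
    calc a * (a * x * a⁻¹) * a⁻¹ = (a * a) * x * (a * a)⁻¹ := by group
      _ = x := by rw [ha]; group
  rw [this, Subgroup.map_id]

end PB

variable {X : Type*} [Group X] [Finite X]

/-- **PB0**: `K` a component of `C_X(a)`, `K ≤ N ⊔ M` with `N`, `M` commuting and `a`-invariant,
`K` not centralising `N`.  Then `K ≤ N`. -/
theorem le_of_le_sup_of_commute (a : X) (K N M : Subgroup X)
    (hKa : K ≤ Subgroup.centralizer ({a} : Set X))
    (hK : IsComponent (K.subgroupOf (Subgroup.centralizer ({a} : Set X))))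
    (hNM : ⁅N, M⁆ = ⊥) (hKNM : K ≤ N ⊔ M)
    (hNa : N.map (MulAut.conj a).toMonoidHom = N) (hMa : M.map (MulAut.conj a).toMonoidHom = M)
    (hKN : ⁅K, N⁆ ≠ ⊥) : K ≤ N := by
  refine PB.le_of_le_sup_of_commute' a K N M hKa hK hNM hKNM ?_ ?_ hKN
  · intro n hn
    have : a * n * a⁻¹ ∈ N.map (MulAut.conj a).toMonoidHom := ⟨n, hn, by simp⟩
    rwa [hNa] at this
  · intro m hm
    have : a * m * a⁻¹ ∈ M.map (MulAut.conj a).toMonoidHom := ⟨m, hm, by simp⟩
    rwa [hMa] at this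

/-- **PB**: the dichotomy. -/
theorem exists_component_of_le_layer (a : X) (ha : orderOf a = 2) (K : Subgroup X)
    (hKa : K ≤ Subgroup.centralizer ({a} : Set X))
    (hK : IsComponent (K.subgroupOf (Subgroup.centralizer ({a} : Set X)))) (hKE : K ≤ layer X) :
    ∃ D : Subgroup X, IsComponent D ∧
      ((D.map (MulAut.conj a).toMonoidHom = D ∧ K ≤ D) ∨
       (D.map (MulAut.conj a).toMonoidHom ≠ D ∧ K ≤ D ⊔ D.map (MulAut.conj a).toMonoidHom ∧
         ∀ L : Subgroup X, IsComponent L → ⁅K, L⁆ ≠ ⊥ →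
           L = D ∨ L = D.map (MulAut.conj a).toMonoidHom)) := by
  have haa : a * a = 1 := by rw [← pow_two, ← ha, pow_orderOf_eq_one]
  have hex : ∃ D : Subgroup X, IsComponent D ∧ ⁅K, D⁆ ≠ ⊥ := by
    by_contra hno
    push Not at hno
    have h1 : ⁅layer X, K⁆ = ⊥ :=
      commutator_layer_eq_bot_of_forall (fun D hD => by
        rw [Subgroup.commutator_comm]; exact hno D hD)
    have h2 : ⁅K, K⁆ = ⊥ := by
      rw [eq_bot_iff, ← h1]; exact Subgroup.commutator_mono hKE le_rfl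
    exact PB.sub_ne_bot hK ((PB.sub_perfect hKa hK).symm.trans h2)
  obtain ⟨D, hD, hKD⟩ := hex
  refine ⟨D, hD, ?_⟩
  have hD'c : IsComponent (D.map (MulAut.conj a).toMonoidHom) := IsComponent.map_conj hD a
  by_cases hDD : D.map (MulAut.conj a).toMonoidHom = D
  · left
    refine ⟨hDD, PB.le_of_invariant a K D hKa hK hKE hDD ?_ hKD⟩
    intro L hL
    by_cases hLD : L = D
    · left; rw [hLD]
    · right; exact IsComponent.commutator_eq_bot_of_ne hL hD hLD
  · right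
    -- centralizing `D` and `D'` means centralizing `D ⊔ D'`
    have hcent : ∀ L : Subgroup X, IsComponent L → L ≠ D →
        L ≠ D.map (MulAut.conj a).toMonoidHom →
        D ⊔ D.map (MulAut.conj a).toMonoidHom ≤ Subgroup.centralizer (L : Set X) := by
      intro L hL h1 h2
      apply sup_le
      · rw [← Subgroup.commutator_eq_bot_iff_le_centralizer]
        exact IsComponent.commutator_eq_bot_of_ne hD hL (Ne.symm h1)
      · rw [← Subgroup.commutator_eq_bot_iff_le_centralizer]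
        exact IsComponent.commutator_eq_bot_of_ne hD'c hL (Ne.symm h2)
    have hNinv : (D ⊔ D.map (MulAut.conj a).toMonoidHom).map (MulAut.conj a).toMonoidHom
        = D ⊔ D.map (MulAut.conj a).toMonoidHom := by
      rw [Subgroup.map_sup, PB.map_conj_map_conj_of_sq a haa D, sup_comm]
    have hKN : ⁅K, D ⊔ D.map (MulAut.conj a).toMonoidHom⁆ ≠ ⊥ := fun h =>
      hKD (by rw [eq_bot_iff, ← h]; exact Subgroup.commutator_mono le_rfl le_sup_left)
    have hKle : K ≤ D ⊔ D.map (MulAut.conj a).toMonoidHom := by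
      refine PB.le_of_invariant a K _ hKa hK hKE hNinv ?_ hKN
      intro L hL
      by_cases h1 : L = D
      · left; rw [h1]; exact le_sup_left
      by_cases h2 : L = D.map (MulAut.conj a).toMonoidHom
      · left; rw [h2]; exact le_sup_right
      · right
        rw [Subgroup.commutator_comm, Subgroup.commutator_eq_bot_iff_le_centralizer]
        exact hcent L hL h1 h2
    refine ⟨hDD, hKle, ?_⟩
    intro L hL hKL
    by_contra hne
    push Not at hne
    apply hKL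
    rw [Subgroup.commutator_eq_bot_iff_le_centralizer]
    exact hKle.trans (hcent L hL hne.1 hne.2)

end Cfsg.Agent.Lib.MaxComp
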