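import Mathlib
import Cfsg.Prelude.Def_Quasithin
import Cfsg.Prelude.Def_QuasithinSetup
import Cfsg.Agent.Lib.Helper9.PCore

/-!
# S1851 swarm, package PN: `O_2(H)` normalizes every subnormal subgroup of `H` generated by
elements of odd order.
-/

set_option autoImplicit false

namespace Cfsg.Agent.Lib.QtkeUp

open Cfsg

namespace PN

/-- If `r ^ n ∈ K` with `n` odd and `r` has 2-power order, then `r ∈ K`. -/
theorem mem_of_pow_mem_of_two_pow {X : Type*} [Group X] (K : Subgroup X) (r : X) (n a : ℕ)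
    (hn : Odd n) (hrn : r ^ n ∈ K) (hra : r ^ (2 ^ a) = 1) : r ∈ K := by
  have hcop : Nat.Coprime n (2 ^ a) := by
    apply Nat.Coprime.pow_right
    exact (Nat.coprime_comm.mp (Nat.coprime_two_left.mpr hn))
  -- Bezout in ℤ
  have hb := Nat.gcd_eq_gcd_ab n (2 ^ a)
  rw [hcop.gcd_eq_one] at hb
  have h1 : r = (r ^ n) ^ (Nat.gcdA n (2 ^ a)) * (r ^ (2 ^ a)) ^ (Nat.gcdB n (2 ^ a)) := by
    rw [← zpow_natCast r n, ← zpow_natCast r (2 ^ a), ← zpow_mul, ← zpow_mul, ← zpow_add]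
    have : (n : ℤ) * Nat.gcdA n (2 ^ a) + ((2 ^ a : ℕ) : ℤ) * Nat.gcdB n (2 ^ a) = 1 := by
      rw [← hb]; simp
    rw [this, zpow_one]
  rw [h1, hra, one_zpow, mul_one]
  exact K.zpow_mem hrn _

/-- In a group `X` with a normal 2-subgroup `R` and a subnormal subgroup `K`, every element of odd
order of `K ⊔ R` lies in `K`. -/
theorem mem_of_odd_of_mem_sup {X : Type*} [Group X] (K R : Subgroup X) (hK : K.IsSubnormal)
    [hRn : R.Normal] (hR : IsPGroup 2 R) :
    ∀ x : X, x ∈ K ⊔ R → Odd (orderOf x) → x ∈ K := by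
  induction hK with
  | top => intro x _ _; exact Subgroup.mem_top x
  | step K M hle hsub hN ih =>
    intro x hx hodd
    have hxM : x ∈ M := ih x (sup_le_sup_right hle R hx) hodd
    -- write `x = k * r`
    have hx' : x ∈ ((K ⊔ R : Subgroup X) : Set X) := hx
    rw [Subgroup.mul_normal K R] at hx'
    obtain ⟨k, hk, r, hr, rfl⟩ := Set.mem_mul.mp hx'
    have hkM : k ∈ M := hle hk
    have hrM : r ∈ M := by
      have : r = k⁻¹ * (k * r) := by group
      rw [this]; exact M.mul_mem (M.inv_mem hkM) hxM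
    -- `r` has 2-power order
    obtain ⟨a, ha⟩ := hR ⟨r, hr⟩
    have hra : r ^ (2 ^ a) = 1 := by
      have := congrArg Subtype.val ha
      simpa using this
    -- `K` is normal in `M`, so `(k r)^n ∈ K r^n`
    have hNM : K ≤ M := hle
    have hnorm : ∀ m ∈ M, ∀ y ∈ K, m * y * m⁻¹ ∈ K := by
      intro m hm y hy
      have := hN.conj_mem ⟨y, hNM hy⟩ (by simpa [Subgroup.mem_subgroupOf] using hy) ⟨m, hm⟩
      simpa [Subgroup.mem_subgroupOf] using this
    have hpow : ∀ n : ℕ, ∃ y ∈ K, (k * r) ^ n = y * r ^ n := by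
      intro n
      induction n with
      | zero => exact ⟨1, K.one_mem, by simp⟩
      | succ n ihn =>
        obtain ⟨y, hy, hyn⟩ := ihn
        refine ⟨y * (r ^ n * k * (r ^ n)⁻¹), K.mul_mem hy (hnorm _ (M.pow_mem hrM n) k hk), ?_⟩
        rw [pow_succ, hyn, pow_succ]; group
    obtain ⟨y, hy, hyn⟩ := hpow (orderOf (k * r))
    rw [pow_orderOf_eq_one] at hyn
    have hrn : r ^ orderOf (k * r) ∈ K := by
      have : r ^ orderOf (k * r) = y⁻¹ := by
        rw [eq_comm, inv_eq_iff_mul_eq_one]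
        exact hyn.symm
      rw [this]; exact K.inv_mem hy
    exact K.mul_mem hk (mem_of_pow_mem_of_two_pow K r _ a hodd hrn hra)

/-- Conjugation by an element of `O_2(H)` maps a subnormal, odd-generated `K ≤ H` into itself. -/
theorem conj_mem_of_mem_pCore {G : Type*} [Group G] [Finite G] (H K : Subgroup G) (hKH : K ≤ H)
    (hsn : (K.subgroupOf H).IsSubnormal) (hK : oddGenerated K = K)
    (r : ↥H) (hr : r ∈ pCore 2 ↥H) : ∀ k ∈ K, (r : G) * k * (r : G)⁻¹ ∈ K := by
  have : (pCore 2 ↥H).Normal := Cfsg.Agent.Lib.Helper9.pCore_normal' 2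
  have : Fact (Nat.Prime 2) := ⟨Nat.prime_two⟩
  have hR : IsPGroup 2 (pCore 2 ↥H) := Cfsg.Agent.Lib.Helper9.pCore_isPGroup' 2
  have key := mem_of_odd_of_mem_sup (K.subgroupOf H) (pCore 2 ↥H) hsn hR
  have hgen : ∀ x : G, x ∈ K ∧ Odd (orderOf x) → (r : G) * x * (r : G)⁻¹ ∈ K := by
    rintro x ⟨hxK, hodd⟩
    have hy : r * ⟨x, hKH hxK⟩ * r⁻¹ ∈ K.subgroupOf H ⊔ pCore 2 ↥H := by
      refine Subgroup.mul_mem _ (Subgroup.mul_mem _ ?_ ?_) ?_
      · exact (le_sup_right : pCore 2 ↥H ≤ _) hr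
      · exact (le_sup_left : K.subgroupOf H ≤ _) (by simpa [Subgroup.mem_subgroupOf] using hxK)
      · exact (le_sup_right : pCore 2 ↥H ≤ _) (Subgroup.inv_mem _ hr)
    have hord : orderOf (r * ⟨x, hKH hxK⟩ * r⁻¹) = orderOf x := by
      have h1 : orderOf (r * ⟨x, hKH hxK⟩ * r⁻¹) = orderOf (⟨x, hKH hxK⟩ : ↥H) :=
        (MulAut.conj r).orderOf_eq (⟨x, hKH hxK⟩ : ↥H)
      rw [h1, Subgroup.orderOf_mk]
    have := key _ hy (by rw [hord]; exact hodd)
    simpa [Subgroup.mem_subgroupOf] using this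
  intro k hk
  rw [← hK] at hk
  have hle : oddGenerated K ≤ K.comap (MulAut.conj (r : G)).toMonoidHom := by
    unfold oddGenerated
    rw [Subgroup.closure_le]
    intro x hx
    simpa [Subgroup.mem_comap] using hgen x hx
  simpa [Subgroup.mem_comap] using hle hk

end PN

/-- **PN**: `O_2(H)` normalizes every subnormal subgroup of `H` generated by elements of odd order. -/
theorem pCoreTwoOf_le_normalizer {G : Type*} [Group G] [Finite G] (H K : Subgroup G) (hKH : K ≤ H)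
    (hsn : (K.subgroupOf H).IsSubnormal) (hK : oddGenerated K = K) :
    pCoreTwoOf H ≤ Subgroup.normalizer (K : Set G) := by
  intro g hg
  obtain ⟨r, hr, rfl⟩ := hg
  have : (pCore 2 ↥H).Normal := Cfsg.Agent.Lib.Helper9.pCore_normal' 2
  rw [Subgroup.mem_normalizer_iff]
  intro h
  constructor
  · intro hh
    exact PN.conj_mem_of_mem_pCore H K hKH hsn hK r hr h hh
  · intro hh
    have := PN.conj_mem_of_mem_pCore H K hKH hsn hK r⁻¹ (Subgroup.inv_mem _ hr) _ hh
    have h2 : ((r⁻¹ : ↥H) : G) * (H.subtype r * h * (H.subtype r)⁻¹) * ((r⁻¹ : ↥H) : G)⁻¹ = h := by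
      simp [mul_assoc]
    rwa [h2] at this

end Cfsg.Agent.Lib.QtkeUp
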