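import Mathlib
import Cfsg.Prelude.Def_Quasithin
import Cfsg.Prelude.Def_QuasithinSetup
import Cfsg.Agent.Lib.Helper6.PCore
import Cfsg.Agent.Lib.Helper6.Subn

/-!
# S1851 swarm, packages PS and PZ.
-/

set_option autoImplicit false

namespace Cfsg.Agent.Lib.QtkeUp

open Cfsg

/-- **PS**: `O_2(K) ≤ O_2(H)` for `K` subnormal in `H`. -/
theorem pCoreTwoOf_le_of_subnormal {G : Type*} [Group G] [Finite G] (H K : Subgroup G) (hKH : K ≤ H)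
    (hsn : (K.subgroupOf H).IsSubnormal) : pCoreTwoOf K ≤ pCoreTwoOf H := by
  rintro _ ⟨y, hy, rfl⟩
  have h1 := Cfsg.Agent.Lib.Helper6.pCoreOf_le_pCore_of_isSubnormal 2 hsn
  have h2 := Cfsg.Agent.Lib.Helper6.pCore_map_equiv 2 (Subgroup.subgroupOfEquivOfLe hKH).symm
  have hy' : (Subgroup.subgroupOfEquivOfLe hKH).symm y ∈ pCore 2 ↥(K.subgroupOf H) := by
    rw [← h2]; exact ⟨y, hy, rfl⟩
  have h3 : ((K.subgroupOf H).subtype ((Subgroup.subgroupOfEquivOfLe hKH).symm y)) ∈ pCore 2 ↥H :=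
    h1 ⟨_, hy', rfl⟩
  exact ⟨_, h3, rfl⟩

namespace PZ

/-- A 2-subgroup `R ≤ H` normalized by `H` lies in `O_2(H)`. -/
theorem le_pCoreTwoOf {G : Type*} [Group G] (H R : Subgroup G) (hRH : R ≤ H)
    (hR : IsPGroup 2 R) (hn : H ≤ Subgroup.normalizer (R : Set G)) : R ≤ pCoreTwoOf H := by
  intro x hx
  have hN : (R.subgroupOf H).Normal := (Subgroup.normal_subgroupOf_iff_le_normalizer hRH).mpr hn
  have hp : IsPGroup 2 (R.subgroupOf H) :=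
    hR.of_equiv (Subgroup.subgroupOfEquivOfLe hRH).symm
  have : R.subgroupOf H ≤ pCore 2 ↥H := le_sSup ⟨hN, hp⟩
  exact ⟨⟨x, hRH hx⟩, this (by simpa [Subgroup.mem_subgroupOf] using hx), rfl⟩

/-- `O_2(H)` (in `G`) is a 2-group. -/
theorem isPGroup_pCoreTwoOf {G : Type*} [Group G] [Finite G] (H : Subgroup G) :
    IsPGroup 2 (pCoreTwoOf H) := by
  have : Fact (Nat.Prime 2) := ⟨Nat.prime_two⟩
  exact (Cfsg.Agent.Lib.Helper6.pCore_isPGroup 2 (G := ↥H)).map H.subtype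

/-- `O_2(H) ≤ H`. -/
theorem pCoreTwoOf_le {G : Type*} [Group G] (H : Subgroup G) : pCoreTwoOf H ≤ H := by
  rintro _ ⟨y, _, rfl⟩
  exact y.2

/-- `H` normalizes `O_2(H)`. -/
theorem le_normalizer_pCoreTwoOf {G : Type*} [Group G] (H : Subgroup G) :
    H ≤ Subgroup.normalizer (pCoreTwoOf H : Set G) := by
  have hN : (pCore 2 ↥H).Normal := Subgroup.sSup_normal _ (fun _ h => h.1)
  have hconj : ∀ h ∈ H, ∀ x ∈ pCoreTwoOf H, h * x * h⁻¹ ∈ pCoreTwoOf H := by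
    rintro h hh _ ⟨y, hy, rfl⟩
    exact ⟨⟨h, hh⟩ * y * ⟨h, hh⟩⁻¹, hN.conj_mem y hy ⟨h, hh⟩, by simp⟩
  intro h hh
  rw [Subgroup.mem_normalizer_iff]
  intro x
  constructor
  · exact hconj h hh x
  · intro hx
    have := hconj h⁻¹ (H.inv_mem hh) _ hx
    have h2 : h⁻¹ * (h * x * h⁻¹) * h⁻¹⁻¹ = x := by group
    rwa [h2] at this

end PZ

/-- **PZ**: `H₁ ≤ H₂`, `O_2(H₂) ≤ H₁`, `H₂` of characteristic 2: `Ω_1 Z(O_2(H₁)) ≤ Ω_1 Z(O_2(H₂))`. -/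
theorem omegaOne_center_mono {G : Type*} [Group G] [Finite G] (H₁ H₂ : Subgroup G) (h12 : H₁ ≤ H₂)
    (hR : pCoreTwoOf H₂ ≤ H₁) (hH₂ : IsOfCharacteristicTwo ↥H₂) :
    omegaOne 2 (pCoreTwoOf H₁ ⊓ Subgroup.centralizer (pCoreTwoOf H₁ : Set G)) ≤
      omegaOne 2 (pCoreTwoOf H₂ ⊓ Subgroup.centralizer (pCoreTwoOf H₂ : Set G)) := by
  -- `R₂ ≤ R₁`
  have hR21 : pCoreTwoOf H₂ ≤ pCoreTwoOf H₁ :=
    PZ.le_pCoreTwoOf H₁ (pCoreTwoOf H₂) hR (PZ.isPGroup_pCoreTwoOf H₂)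
      (h12.trans (PZ.le_normalizer_pCoreTwoOf H₂))
  have hZ : pCoreTwoOf H₁ ⊓ Subgroup.centralizer (pCoreTwoOf H₁ : Set G) ≤
      pCoreTwoOf H₂ ⊓ Subgroup.centralizer (pCoreTwoOf H₂ : Set G) := by
    rintro z ⟨hz1, hzc⟩
    have hzc2 : z ∈ Subgroup.centralizer (pCoreTwoOf H₂ : Set G) :=
      Subgroup.centralizer_le (show (pCoreTwoOf H₂ : Set G) ⊆ pCoreTwoOf H₁ from hR21) hzc
    refine ⟨?_, hzc2⟩
    have hzH2 : z ∈ H₂ := h12 (PZ.pCoreTwoOf_le H₁ hz1)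
    have hmem : (⟨z, hzH2⟩ : ↥H₂) ∈ Subgroup.centralizer (pCore 2 ↥H₂ : Set ↥H₂) := by
      rw [Subgroup.mem_centralizer_iff]
      intro y hy
      have hyR : (y : G) ∈ pCoreTwoOf H₂ := ⟨y, hy, rfl⟩
      have := (Subgroup.mem_centralizer_iff.mp hzc2) (y : G) hyR
      exact Subtype.ext (by simpa using this)
    exact ⟨⟨z, hzH2⟩, hH₂ hmem, rfl⟩
  unfold omegaOne
  apply Subgroup.closure_mono
  rintro x ⟨hx, hx2⟩
  exact ⟨hZ hx, hx2⟩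

end Cfsg.Agent.Lib.QtkeUp
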