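import Mathlib

/-!
# S3452 swarm, package SDP (helper9): element orders in a semidirect product `N ⋊ L`, `N` abelian

Statements exactly as in `notes/S3452_stub.lean.txt` (helper5).
-/

set_option autoImplicit false
set_option linter.unusedSectionVars false
set_option linter.unusedVariables false

namespace Cfsg.Agent.Lib.S3452

section sdp
variable {N L : Type*} [CommGroup N] [Group L] (φ : L →* MulAut N)

theorem sdp_pow (w : N) (g : L) (n : ℕ) :
    (⟨w, g⟩ : N ⋊[φ] L) ^ n = ⟨∏ i ∈ Finset.range n, φ (g ^ i) w, g ^ n⟩ := by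
  induction n with
  | zero =>
    apply SemidirectProduct.ext
    · rw [pow_zero, Finset.range_zero, Finset.prod_empty, SemidirectProduct.one_left]
    · rw [pow_zero, pow_zero, SemidirectProduct.one_right]
  | succ n ih =>
    rw [pow_succ, ih, Finset.prod_range_succ, pow_succ]
    apply SemidirectProduct.ext
    · rw [SemidirectProduct.mul_left]
    · rw [SemidirectProduct.mul_right]

theorem sdp_orderOf_right_dvd (x : N ⋊[φ] L) : orderOf x.right ∣ orderOf x := by
  have h := orderOf_map_dvd (SemidirectProduct.rightHom : N ⋊[φ] L →* L) x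
  rwa [SemidirectProduct.rightHom_eq_right] at h

/-- `x ^ orderOf x.right` lies in the normal factor. -/
theorem sdp_pow_orderOf_right (x : N ⋊[φ] L) :
    ∃ z : N, x ^ orderOf x.right = SemidirectProduct.inl z := by
  obtain ⟨w, g⟩ := x
  refine ⟨∏ i ∈ Finset.range (orderOf g), φ (g ^ i) w, ?_⟩
  rw [sdp_pow]
  ext
  · simp
  · simp [pow_orderOf_eq_one]

theorem sdp_orderOf_dvd (r : ℕ) (hr : ∀ z : N, z ^ r = 1) (x : N ⋊[φ] L) :
    orderOf x ∣ r * orderOf x.right := by
  obtain ⟨z, hz⟩ := sdp_pow_orderOf_right φ x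
  apply orderOf_dvd_of_pow_eq_one
  rw [mul_comm, pow_mul, hz, ← map_pow, hr, map_one]

/-- `x ^ orderOf x.right = ⟨z, 1⟩` commutes with `x`, so `z` is fixed by `x.right` -/
theorem sdp_orderOf_of_fpf (x : N ⋊[φ] L) (hfix : ∀ z : N, φ x.right z = z → z = 1) :
    orderOf x = orderOf x.right := by
  obtain ⟨z, hz⟩ := sdp_pow_orderOf_right φ x
  have hcomm : x * SemidirectProduct.inl z = SemidirectProduct.inl z * x := by
    rw [← hz, ← pow_succ', ← pow_succ]
  have hl := congrArg SemidirectProduct.left hcomm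
  simp only [SemidirectProduct.mul_left, SemidirectProduct.left_inl, SemidirectProduct.right_inl,
    map_one, MulAut.one_apply] at hl
  have hz1 : z = 1 := by
    apply hfix
    have : x.left * φ x.right z = x.left * z := by rw [hl, mul_comm]
    exact mul_left_cancel this
  rw [hz1, map_one] at hz
  exact Nat.dvd_antisymm (orderOf_dvd_of_pow_eq_one hz) (sdp_orderOf_right_dvd φ x)

theorem sdp_orderOf_of_norm_ne_one (r : ℕ) (hr : r.Prime) (hr' : ∀ z : N, z ^ r = 1) (w : N) (g : L)
    (hg : 0 < orderOf g) (hne : ∏ i ∈ Finset.range (orderOf g), φ (g ^ i) w ≠ 1) :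
    orderOf (⟨w, g⟩ : N ⋊[φ] L) = r * orderOf g := by
  set x : N ⋊[φ] L := ⟨w, g⟩ with hx
  have h1 : orderOf g ∣ orderOf x := sdp_orderOf_right_dvd φ x
  have h2 : orderOf x ∣ r * orderOf g := sdp_orderOf_dvd φ r hr' x
  obtain ⟨d, hd⟩ := h1
  have h3 : d ∣ r := by
    rw [hd, mul_comm r] at h2
    exact Nat.dvd_of_mul_dvd_mul_left hg h2
  rcases (Nat.dvd_prime hr).mp h3 with h | h
  · exfalso
    rw [h, mul_one] at hd
    have hpow : x ^ orderOf g = 1 := by rw [← hd]; exact pow_orderOf_eq_one x
    rw [hx, sdp_pow] at hpow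
    have := congrArg SemidirectProduct.left hpow
    exact hne this
  · rw [hd, h, mul_comm]

/-- FROBGEN : spectrum of a "Frobenius" semidirect product -/
theorem frob_spec [Finite L] (r : ℕ) (hr : r.Prime) (hN : ∀ z : N, z ^ r = 1) (hN1 : ∃ z : N, z ≠ 1)
    (hfpf : ∀ c : L, c ≠ 1 → ∀ z : N, φ c z = z → z = 1) :
    Set.range (orderOf : N ⋊[φ] L → ℕ) = Set.range (orderOf : L → ℕ) ∪ {r} := by
  apply Set.eq_of_subset_of_subset
  · rintro _ ⟨x, rfl⟩
    by_cases hg : x.right = 1
    · -- `x = inl x.left`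
      have hx : x = SemidirectProduct.inl x.left := by
        ext
        · simp
        · simp [hg]
      have ho : orderOf x = orderOf x.left := by
        rw [hx, orderOf_injective _ SemidirectProduct.inl_injective]
        simp
      have hdvd : orderOf x.left ∣ r := orderOf_dvd_of_pow_eq_one (hN _)
      rcases (Nat.dvd_prime hr).mp hdvd with h | h
      · left
        exact ⟨1, by rw [orderOf_one, ho, h]⟩
      · right
        rw [Set.mem_singleton_iff, ho, h]
    · left
      exact ⟨x.right, (sdp_orderOf_of_fpf φ x (hfpf x.right hg)).symm⟩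
  · rintro d (⟨c, rfl⟩ | hd)
    · exact ⟨SemidirectProduct.inr c, orderOf_injective _ SemidirectProduct.inr_injective c⟩
    · rw [Set.mem_singleton_iff] at hd
      obtain ⟨z, hz⟩ := hN1
      refine ⟨SemidirectProduct.inl z, ?_⟩
      rw [orderOf_injective _ SemidirectProduct.inl_injective, hd]
      have hdvd : orderOf z ∣ r := orderOf_dvd_of_pow_eq_one (hN _)
      rcases (Nat.dvd_prime hr).mp hdvd with h | h
      · exact absurd (orderOf_eq_one_iff.mp h) hz
      · exact h

end sdp

end Cfsg.Agent.Lib.S3452
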