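import Mathlib
import Cfsg.Agent.Lib.Helper9.S3452_SDP

/-!
# S3452 swarm, package FROB23 (helper9): the two small Frobenius families

* `frob_two`   : `(Fin k → ZMod 3) ⋊ ⟨inversion⟩`, spectrum `{1,2,3}`;
* `frob_three` : `(Fin k → ZMod 3 × ZMod 3) ⋊ ⟨(x,y) ↦ (-y,x)⟩`, spectrum `{1,2,3,4}`.

Both through `frob23_spec`: for an automorphism `σ` of a finite abelian group `N` of prime exponent `r` with
`σ ^ m = 1` and all `σ ^ i`, `0 < i < m`, fixed-point-free, `N ⋊ ⟨σ⟩` has spectrum `{d | d ∣ m} ∪ {r}`.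
Statements exactly as in `notes/S3452_stub.lean.txt` (helper5).
-/

set_option autoImplicit false
set_option linter.unusedSectionVars false
set_option linter.unusedVariables false

namespace Cfsg.Agent.Lib.S3452

theorem frob23_orderOf {N : Type} [CommGroup N] (σ : MulAut N) (m : ℕ) (hm : 0 < m)
    (hσ : σ ^ m = 1) (hN1 : ∃ z : N, z ≠ 1)
    (hfpf : ∀ i, 0 < i → i < m → ∀ z : N, (σ ^ i) z = z → z = 1) : orderOf σ = m := by
  have hdvd : orderOf σ ∣ m := orderOf_dvd_of_pow_eq_one hσ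
  have hpos : 0 < orderOf σ := Nat.pos_of_dvd_of_pos hdvd hm
  have hle : orderOf σ ≤ m := Nat.le_of_dvd hm hdvd
  rcases Nat.lt_or_ge (orderOf σ) m with h | h
  · exfalso
    obtain ⟨z, hz⟩ := hN1
    apply hz
    apply hfpf (orderOf σ) hpos h z
    rw [pow_orderOf_eq_one]
    rfl
  · omega

theorem frob23_spec {N : Type} [CommGroup N] [Finite N] (σ : MulAut N) (m r : ℕ) (hm : 0 < m)
    (hr : r.Prime) (hσ : σ ^ m = 1) (hN : ∀ z : N, z ^ r = 1) (hN1 : ∃ z : N, z ≠ 1)
    (hfpf : ∀ i, 0 < i → i < m → ∀ z : N, (σ ^ i) z = z → z = 1) :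
    Set.range (orderOf : N ⋊[(Subgroup.zpowers σ).subtype] (Subgroup.zpowers σ) → ℕ)
      = {d | d ∣ m} ∪ {r} := by
  have hord : orderOf σ = m := frob23_orderOf σ m hm hσ hN1 hfpf
  have hfpf' : ∀ c : Subgroup.zpowers σ, c ≠ 1 → ∀ z : N,
      ((Subgroup.zpowers σ).subtype c) z = z → z = 1 := by
    rintro ⟨c, hc⟩ hc1 z hz
    obtain ⟨k, rfl⟩ := Subgroup.mem_zpowers_iff.mp hc
    have hm0 : (m : ℤ) ≠ 0 := by exact_mod_cast hm.ne'
    have h0 : 0 ≤ k % (m : ℤ) := Int.emod_nonneg k hm0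
    have h1 : k % (m : ℤ) < m := Int.emod_lt_of_pos k (by exact_mod_cast hm)
    have hk : σ ^ k = σ ^ (k % (m : ℤ)).toNat := by
      rw [← zpow_natCast, Int.toNat_of_nonneg h0, ← hord, zpow_mod_orderOf]
    have hi : (k % (m : ℤ)).toNat < m := by omega
    have hi0 : 0 < (k % (m : ℤ)).toNat := by
      rcases Nat.eq_zero_or_pos (k % (m : ℤ)).toNat with h | h
      · exfalso
        apply hc1
        apply Subtype.ext
        rw [Subgroup.coe_one]
        show σ ^ k = 1
        rw [hk, h, pow_zero]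
      · exact h
    apply hfpf _ hi0 hi z
    rw [← hk]
    exact hz
  rw [frob_spec (Subgroup.zpowers σ).subtype r hr hN hN1 hfpf']
  congr 1
  apply Set.eq_of_subset_of_subset
  · rintro _ ⟨⟨c, hc⟩, rfl⟩
    obtain ⟨k, rfl⟩ := Subgroup.mem_zpowers_iff.mp hc
    show orderOf (⟨σ ^ k, hc⟩ : Subgroup.zpowers σ) ∣ m
    rw [← Subgroup.orderOf_coe]
    apply orderOf_dvd_of_pow_eq_one
    show (σ ^ k) ^ m = 1
    rw [← zpow_natCast, ← zpow_mul, mul_comm, zpow_mul, zpow_natCast, hσ, one_zpow]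
  · intro d hd
    obtain ⟨e, he⟩ : d ∣ m := hd
    have hd0 : 0 < d := Nat.pos_of_ne_zero (by rintro rfl; omega)
    have he0 : e ≠ 0 := by rintro rfl; omega
    refine ⟨⟨σ ^ e, Subgroup.npow_mem_zpowers σ e⟩, ?_⟩
    rw [← Subgroup.orderOf_coe]
    show orderOf (σ ^ e) = d
    rw [orderOf_pow_of_dvd he0 (by rw [hord, he]; exact Dvd.intro_left d rfl), hord, he]
    exact Nat.mul_div_cancel d (Nat.pos_of_ne_zero he0)

/-- packaging: a finite group of order `> N₀` with the spectrum of `frob23_spec`. -/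
theorem frob23_exists {N : Type} [CommGroup N] [Fintype N] (σ : MulAut N) (m r : ℕ) (hm : 0 < m)
    (hr : r.Prime) (hσ : σ ^ m = 1) (hN : ∀ z : N, z ^ r = 1) (hN1 : ∃ z : N, z ≠ 1)
    (hfpf : ∀ i, 0 < i → i < m → ∀ z : N, (σ ^ i) z = z → z = 1) (N₀ : ℕ)
    (hcard : N₀ < Fintype.card N) :
    ∃ (H : Type) (_ : Group H) (_ : Fintype H), N₀ < Fintype.card H ∧
      Set.range (orderOf : H → ℕ) = {d | d ∣ m} ∪ {r} := by
  classical
  let _ : Fintype (Subgroup.zpowers σ) := Fintype.ofFinite _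
  let e : N ⋊[(Subgroup.zpowers σ).subtype] (Subgroup.zpowers σ) ≃ N × (Subgroup.zpowers σ) :=
    SemidirectProduct.equivProd
  let inst : Fintype (N ⋊[(Subgroup.zpowers σ).subtype] (Subgroup.zpowers σ)) :=
    Fintype.ofEquiv _ e.symm
  refine ⟨N ⋊[(Subgroup.zpowers σ).subtype] (Subgroup.zpowers σ), inferInstance,
    inst, ?_, frob23_spec σ m r hm hr hσ hN hN1 hfpf⟩
  rw [Fintype.card_congr e, Fintype.card_prod]
  have : 0 < Fintype.card (Subgroup.zpowers σ) := Fintype.card_pos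
  calc N₀ < Fintype.card N := hcard
    _ = Fintype.card N * 1 := (mul_one _).symm
    _ ≤ Fintype.card N * Fintype.card (Subgroup.zpowers σ) := Nat.mul_le_mul_left _ this

theorem frob_two (N₀ : ℕ) : ∃ (H : Type) (_ : Group H) (_ : Fintype H), N₀ < Fintype.card H ∧
    Set.range (orderOf : H → ℕ) = {d | d ∣ 1 ∨ d ∣ 3 ∨ d = 2} := by
  classical
  let V := Fin (N₀ + 1) → ZMod 3
  let N := Multiplicative V
  have hcard : N₀ < Fintype.card N := by
    show N₀ < Fintype.card (Multiplicative (Fin (N₀ + 1) → ZMod 3))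
    rw [Fintype.card_multiplicative, Fintype.card_fun, ZMod.card, Fintype.card_fin]
    calc N₀ < N₀ + 1 := Nat.lt_succ_self _
      _ < 3 ^ (N₀ + 1) := Nat.lt_pow_self (by norm_num)
  have h3 : ∀ z : N, z ^ 3 = 1 := by
    intro z
    apply Multiplicative.toAdd.injective
    funext j
    show (3 : ℕ) • (Multiplicative.toAdd z) j = 0
    generalize (Multiplicative.toAdd z) j = x
    revert x; decide
  have hN1 : ∃ z : N, z ≠ 1 := by
    refine ⟨Multiplicative.ofAdd (fun _ => (1 : ZMod 3)), ?_⟩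
    intro h
    have := congrFun (congrArg Multiplicative.toAdd h) 0
    revert this
    show (1 : ZMod 3) = 0 → False
    decide
  obtain ⟨H, hG, hF, h1, h2⟩ := frob23_exists (MulEquiv.inv N) 2 3 (by norm_num) (by norm_num)
    (MulEquiv.ext (fun z => by rw [pow_two, MulAut.mul_apply]; exact inv_inv z)) h3 hN1
    (by
      intro i hi0 hi2 z hz
      obtain rfl : i = 1 := by omega
      rw [pow_one] at hz
      have hz' : z⁻¹ = z := hz
      have h2 : z ^ 2 = 1 := by rw [pow_two]; nth_rewrite 1 [← hz']; exact inv_mul_cancel z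
      have := h3 z
      rw [pow_succ, h2, one_mul] at this
      exact this) N₀ hcard
  refine ⟨H, hG, hF, h1, ?_⟩
  rw [h2]
  ext d
  show (d ∣ 2 ∨ d = 3) ↔ (d ∣ 1 ∨ d ∣ 3 ∨ d = 2)
  constructor
  · rintro (h | h)
    · have := (Nat.dvd_prime Nat.prime_two).mp h
      rcases this with rfl | rfl
      · left; exact dvd_refl 1
      · right; right; rfl
    · subst h; right; left; exact dvd_refl 3
  · rintro (h | h | h)
    · left; exact h.trans (by norm_num)
    · rcases (Nat.dvd_prime Nat.prime_three).mp h with rfl | rfl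
      · left; norm_num
      · right; rfl
    · subst h; left; exact dvd_refl 2

/-- the map `(x,y) ↦ (-y,x)` on `ZMod 3 × ZMod 3` (multiplication by `i` on `F_9`). -/
def frob23_Jfun (v : ZMod 3 × ZMod 3) : ZMod 3 × ZMod 3 := (-v.2, v.1)

/-- `frob23_Jfun` as an additive automorphism. -/
def frob23_J : (ZMod 3 × ZMod 3) ≃+ (ZMod 3 × ZMod 3) where
  toFun := frob23_Jfun
  invFun v := (v.2, -v.1)
  left_inv := by decide
  right_inv := by decide
  map_add' := by decide

theorem frob23_J_four : ∀ v : ZMod 3 × ZMod 3, frob23_Jfun^[4] v = v := by decide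

theorem frob23_J_fpf : ∀ i, i < 4 → 0 < i → ∀ v : ZMod 3 × ZMod 3, frob23_Jfun^[i] v = v → v = 0 := by
  decide

theorem frob23_three_nsmul : ∀ v : ZMod 3 × ZMod 3, (3 : ℕ) • v = 0 := by decide

/-- the automorphism of `(Fin k → ZMod 3 × ZMod 3)` (written multiplicatively) induced by `frob23_J`. -/
def frob23_sigma (k : ℕ) : MulAut (Multiplicative (Fin k → ZMod 3 × ZMod 3)) :=
  AddEquiv.toMultiplicative (AddEquiv.piCongrRight (fun _ : Fin k => frob23_J))

theorem frob23_sigma_pow_apply (k : ℕ) (i : ℕ) (z : Multiplicative (Fin k → ZMod 3 × ZMod 3))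
    (j : Fin k) :
    Multiplicative.toAdd ((frob23_sigma k ^ i) z) j = frob23_Jfun^[i] (Multiplicative.toAdd z j) := by
  induction i generalizing z with
  | zero => rfl
  | succ i ih =>
    rw [pow_succ, MulAut.mul_apply, ih, Function.iterate_succ_apply]
    rfl

theorem frob_three (N₀ : ℕ) : ∃ (H : Type) (_ : Group H) (_ : Fintype H), N₀ < Fintype.card H ∧
    Set.range (orderOf : H → ℕ) = {d | d ∣ 2 ∨ d ∣ 4 ∨ d = 3} := by
  classical
  have hcard : N₀ < Fintype.card (Multiplicative (Fin (N₀ + 1) → ZMod 3 × ZMod 3)) := by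
    rw [Fintype.card_multiplicative, Fintype.card_fun, Fintype.card_prod, ZMod.card, Fintype.card_fin]
    calc N₀ < N₀ + 1 := Nat.lt_succ_self _
      _ < (3 * 3) ^ (N₀ + 1) := Nat.lt_pow_self (by norm_num)
  have h3 : ∀ z : Multiplicative (Fin (N₀ + 1) → ZMod 3 × ZMod 3), z ^ 3 = 1 := by
    intro z
    apply Multiplicative.toAdd.injective
    funext j
    exact frob23_three_nsmul _
  have hN1 : ∃ z : Multiplicative (Fin (N₀ + 1) → ZMod 3 × ZMod 3), z ≠ 1 := by
    refine ⟨Multiplicative.ofAdd (fun _ => ((1 : ZMod 3), (0 : ZMod 3))), ?_⟩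
    intro h
    have := congrFun (congrArg Multiplicative.toAdd h) 0
    revert this
    show ((1 : ZMod 3), (0 : ZMod 3)) = 0 → False
    decide
  obtain ⟨H, hG, hF, h1, h2⟩ := frob23_exists (frob23_sigma (N₀ + 1)) 4 3 (by norm_num) (by norm_num)
    (MulEquiv.ext (fun z => by
      apply Multiplicative.toAdd.injective
      funext j
      rw [frob23_sigma_pow_apply]
      exact frob23_J_four _)) h3 hN1
    (by
      intro i hi0 hi4 z hz
      apply Multiplicative.toAdd.injective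
      funext j
      apply frob23_J_fpf i hi4 hi0
      rw [← frob23_sigma_pow_apply, hz]) N₀ hcard
  refine ⟨H, hG, hF, h1, ?_⟩
  rw [h2]
  ext d
  show (d ∣ 4 ∨ d = 3) ↔ (d ∣ 2 ∨ d ∣ 4 ∨ d = 3)
  constructor
  · rintro (h | h)
    · right; left; exact h
    · right; right; exact h
  · rintro (h | h | h)
    · left; exact h.trans (by norm_num)
    · left; exact h
    · right; exact h

end Cfsg.Agent.Lib.S3452
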