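import Mathlib
import Cfsg.Prelude

set_option autoImplicit false

/-!
# The tensor product stabilizer `GL₂(2) ⊗ GL_m(2)` is not maximal: basic facts over the field
with two elements and the matrix `W` of order three
-/

namespace Cfsg.Agent.H9TF2

open Matrix
open scoped Kronecker

variable {F : Type*} [Field F] [Fintype F]

theorem eq_zero_or_one (hq : Fintype.card F = 2) (x : F) : x = 0 ∨ x = 1 := by
  classical
  by_contra h
  push Not at h
  have h3 : ({0, 1, x} : Finset F).card = 3 := by
    rw [Finset.card_insert_of_notMem, Finset.card_insert_of_notMem, Finset.card_singleton]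
    · simp only [Finset.mem_singleton]; exact fun h' => h.2 h'.symm
    · simp only [Finset.mem_insert, Finset.mem_singleton, not_or]
      exact ⟨zero_ne_one, fun h' => h.1 h'.symm⟩
  have := Finset.card_le_univ ({0, 1, x} : Finset F)
  omega

theorem two_eq_zero (hq : Fintype.card F = 2) : (1 : F) + 1 = 0 := by
  rcases eq_zero_or_one hq ((1 : F) + 1) with h | h
  · exact h
  · exfalso
    have : (1 : F) = 0 := by linear_combination h
    exact one_ne_zero this

theorem unit_eq_one (hq : Fintype.card F = 2) (u : Fˣ) : u = 1 := by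
  apply Units.ext
  rcases eq_zero_or_one hq (u : F) with h | h
  · exact absurd h u.ne_zero
  · exact h

theorem specialLinear_eq_top (hq : Fintype.card F = 2) {ι : Type} [Fintype ι] [DecidableEq ι] :
    Cfsg.Geo.specialLinear ι F = ⊤ := by
  rw [eq_top_iff]
  intro g _
  unfold Cfsg.Geo.specialLinear
  rw [MonoidHom.mem_ker]
  exact unit_eq_one hq _

/-- the matrix of a primitive cube root of unity -/
def W : Matrix (Fin 2) (Fin 2) F := !![0, 1; 1, 1]

theorem W_sq (hq : Fintype.card F = 2) : (W : Matrix (Fin 2) (Fin 2) F) * W = !![1, 1; 1, 0] := by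
  have h2 := two_eq_zero hq
  unfold W
  rw [Matrix.mul_fin_two]
  simp [h2]

theorem W_cube (hq : Fintype.card F = 2) : (W : Matrix (Fin 2) (Fin 2) F) * W * W = 1 := by
  have h2 := two_eq_zero hq
  rw [W_sq hq]
  unfold W
  rw [Matrix.mul_fin_two]
  simp [h2, Matrix.one_fin_two]

theorem W_cube' (hq : Fintype.card F = 2) : (W : Matrix (Fin 2) (Fin 2) F) * (W * W) = 1 := by
  rw [← mul_assoc]; exact W_cube hq

/-- a `2 × 2` matrix over the field with two elements with trace and determinant one
is `W` or `W²` -/
theorem eq_W_or_sq (hq : Fintype.card F = 2) (M : Matrix (Fin 2) (Fin 2) F)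
    (htr : M.trace = 1) (hdet : M.det = 1) : M = W ∨ M = W * W := by
  have h2 := two_eq_zero hq
  rw [Matrix.trace_fin_two] at htr
  rw [Matrix.det_fin_two] at hdet
  have hM : M = !![M 0 0, M 0 1; M 1 0, M 1 1] := by
    ext i j; fin_cases i <;> fin_cases j <;> rfl
  rcases eq_zero_or_one hq (M 0 0) with ha | ha <;> rcases eq_zero_or_one hq (M 1 1) with hd | hd
  · rw [ha, hd, add_zero] at htr
    exact absurd htr zero_ne_one
  · left
    rw [ha, hd] at hdet
    have hbc : M 0 1 * M 1 0 = 1 := by
      have : M 0 1 * M 1 0 = -1 := by linear_combination -hdet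
      rw [this]
      linear_combination -h2
    have hb : M 0 1 = 1 := by
      rcases eq_zero_or_one hq (M 0 1) with h | h
      · rw [h, zero_mul] at hbc; exact absurd hbc zero_ne_one
      · exact h
    have hc : M 1 0 = 1 := by
      rcases eq_zero_or_one hq (M 1 0) with h | h
      · rw [h, mul_zero] at hbc; exact absurd hbc zero_ne_one
      · exact h
    rw [hM, ha, hd, hb, hc]; rfl
  · right
    rw [ha, hd] at hdet
    have hbc : M 0 1 * M 1 0 = 1 := by
      have : M 0 1 * M 1 0 = -1 := by linear_combination -hdet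
      rw [this]
      linear_combination -h2
    have hb : M 0 1 = 1 := by
      rcases eq_zero_or_one hq (M 0 1) with h | h
      · rw [h, zero_mul] at hbc; exact absurd hbc zero_ne_one
      · exact h
    have hc : M 1 0 = 1 := by
      rcases eq_zero_or_one hq (M 1 0) with h | h
      · rw [h, mul_zero] at hbc; exact absurd hbc zero_ne_one
      · exact h
    rw [hM, ha, hd, hb, hc, W_sq hq]
  · rw [ha, hd, h2] at htr
    exact absurd htr zero_ne_one

theorem trace_W (hq : Fintype.card F = 2) : (W : Matrix (Fin 2) (Fin 2) F).trace = 1 := by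
  rw [Matrix.trace_fin_two]; simp [W]

theorem det_W (hq : Fintype.card F = 2) : (W : Matrix (Fin 2) (Fin 2) F).det = 1 := by
  have h2 := two_eq_zero hq
  rw [Matrix.det_fin_two]
  simp only [W, Matrix.of_apply, Matrix.cons_val', Matrix.cons_val_zero, Matrix.cons_val_one,
    Matrix.empty_val', Matrix.cons_val_fin_one, Matrix.head_cons, Matrix.head_fin_const]
  linear_combination -h2

/-- conjugates of `W` are `W` or `W²` -/
theorem conj_W (hq : Fintype.card F = 2) (A : GL (Fin 2) F) :
    (A : Matrix (Fin 2) (Fin 2) F) * W * ((A⁻¹ : GL (Fin 2) F) : Matrix (Fin 2) (Fin 2) F) = W ∨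
    (A : Matrix (Fin 2) (Fin 2) F) * W * ((A⁻¹ : GL (Fin 2) F) : Matrix (Fin 2) (Fin 2) F) = W * W := by
  apply eq_W_or_sq hq
  · rw [Matrix.trace_mul_comm, ← mul_assoc, ← Units.val_mul, inv_mul_cancel, Units.val_one, one_mul,
      trace_W hq]
  · rw [Matrix.det_mul, Matrix.det_mul, mul_comm, ← mul_assoc, ← Matrix.det_mul, ← Units.val_mul,
      inv_mul_cancel, Units.val_one, Matrix.det_one, one_mul, det_W hq]

end Cfsg.Agent.H9TF2
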