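import Mathlib

/-!
# Sylvester-Schur, slice R1 (S3571 swarm; split of helper5, msg 5087)

`Cfsg.Agent.Lib.SylSchur.ss_large`: for `k ≥ 37`, `n ≥ 2k` and `k³ ≤ n²`, `C(n,k)` has a prime divisor `> k`.
If not, `C(n,k) ≤ n^π(k)` (each prime power dividing `C(n,k)` is `≤ n`), while `n^k ≤ C(n,k) k^k` and `k^{3k} ≤ n^{2k}`
give `n^k ≤ C(n,k)³`; hence `k ≤ 3π(k)`, false for `k ≥ 37` (evaluation below 100, then two residues mod 6).
-/

set_option autoImplicit false

namespace Cfsg.Agent.Lib.Helper9.SylSchurR1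


open Nat

/-- `3 π(k) < k` for `37 ≤ k < 100`, by evaluation. -/
theorem three_pi_lt_small : ∀ k, k < 100 → 37 ≤ k → 3 * Nat.primeCounting k < k := by
  set_option maxRecDepth 100000 in decide

theorem pi_99 : Nat.primeCounting 99 = 25 := by
  set_option maxRecDepth 100000 in decide

/-- `3 π(k) < k` for `k ≥ 37`. -/
theorem three_pi_lt {k : ℕ} (hk : 37 ≤ k) : 3 * Nat.primeCounting k < k := by
  rcases lt_or_ge k 100 with h | h
  · exact three_pi_lt_small k h hk
  · obtain ⟨n, rfl⟩ : ∃ n, k = 99 + n := ⟨k - 99, by omega⟩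
    have h1 := Nat.primeCounting_add_le (a := 6) (k := 99) (by norm_num) (by norm_num) n
    have h6 : Nat.totient 6 = 2 := by decide
    rw [pi_99, h6] at h1
    have h2 : 6 * (n / 6) ≤ n := Nat.mul_div_le n 6
    omega

/-- `n ^ k ≤ C(n,k) * k ^ k` for `k ≤ n`. -/
theorem pow_le_choose_mul_pow : ∀ (k n : ℕ), k ≤ n → n ^ k ≤ n.choose k * k ^ k := by
  intro k
  induction k with
  | zero => intro n _; simp
  | succ k ih =>
    intro n hn
    obtain ⟨n, rfl⟩ : ∃ n', n = n' + 1 := ⟨n - 1, by omega⟩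
    have hkn : k ≤ n := by omega
    have ih' := ih n hkn
    have hs : (n + 1) * n.choose k = (n + 1).choose (k + 1) * (k + 1) := Nat.add_one_mul_choose_eq n k
    -- (n+1)^k * k^k ≤ n^k * (k+1)^k
    have h1 : ((n + 1) * k) ^ k ≤ (n * (k + 1)) ^ k := by
      apply Nat.pow_le_pow_left
      nlinarith
    rw [mul_pow, mul_pow] at h1
    -- goal: (n+1)^(k+1) ≤ C(n+1,k+1) * (k+1)^(k+1)
    have h2 : (n + 1) ^ k * k ^ k ≤ n.choose k * (k + 1) ^ k * k ^ k := by
      calc (n + 1) ^ k * k ^ k ≤ n ^ k * (k + 1) ^ k := h1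
        _ ≤ (n.choose k * k ^ k) * (k + 1) ^ k := Nat.mul_le_mul_right _ ih'
        _ = n.choose k * (k + 1) ^ k * k ^ k := by ring
    have h3 : (n + 1) ^ k ≤ n.choose k * (k + 1) ^ k := by
      rcases Nat.eq_zero_or_pos k with h0 | h0
      · subst h0; simp
      · exact Nat.le_of_mul_le_mul_right h2 (pow_pos h0 k)
    calc (n + 1) ^ (k + 1) = (n + 1) ^ k * (n + 1) := pow_succ _ _
      _ ≤ (n.choose k * (k + 1) ^ k) * (n + 1) := Nat.mul_le_mul_right _ h3
      _ = ((n + 1) * n.choose k) * (k + 1) ^ k := by ring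
      _ = ((n + 1).choose (k + 1) * (k + 1)) * (k + 1) ^ k := by rw [hs]
      _ = (n + 1).choose (k + 1) * (k + 1) ^ (k + 1) := by ring

/-- if all prime divisors of `C(n,k)` are `≤ k` then `C(n,k) ≤ n ^ π(k)`. -/
theorem choose_le_pow_primeCounting {n k : ℕ} (hkn : k ≤ n) (hn : 0 < n)
    (hbad : ∀ p, p.Prime → p ∣ n.choose k → p ≤ k) : n.choose k ≤ n ^ Nat.primeCounting k := by
  have hc0 : n.choose k ≠ 0 := (Nat.choose_pos hkn).ne'
  have h1 : (n.choose k).factorization.prod (fun p e => p ^ e) = n.choose k :=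
    Nat.prod_factorization_pow_eq_self hc0
  rw [Finsupp.prod, Nat.support_factorization] at h1
  have h2 : ∏ p ∈ (n.choose k).primeFactors, p ^ (n.choose k).factorization p
      ≤ n ^ (n.choose k).primeFactors.card :=
    Finset.prod_le_pow_card _ _ _ (fun p _ => Nat.pow_factorization_choose_le hn)
  have h3 : (n.choose k).primeFactors.card ≤ Nat.primeCounting k := by
    rw [Nat.primeCounting, Nat.primeCounting', Nat.count_eq_card_filter_range]
    apply Finset.card_le_card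
    intro p hp
    rw [Nat.mem_primeFactors] at hp
    rw [Finset.mem_filter, Finset.mem_range]
    exact ⟨by have := hbad p hp.1 hp.2.1; omega, hp.1⟩
  calc n.choose k = ∏ p ∈ (n.choose k).primeFactors, p ^ (n.choose k).factorization p := h1.symm
    _ ≤ n ^ (n.choose k).primeFactors.card := h2
    _ ≤ n ^ Nat.primeCounting k := Nat.pow_le_pow_right hn h3

end Cfsg.Agent.Lib.Helper9.SylSchurR1

namespace Cfsg.Agent.Lib.SylSchur


open Nat Cfsg.Agent.Lib.Helper9.SylSchurR1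

theorem ss_large (n k : ℕ) (hk : 37 ≤ k) (hn : 2 * k ≤ n) (hge : k ^ 3 ≤ n ^ 2) :
    ∃ p, p.Prime ∧ k < p ∧ p ∣ n.choose k := by
  by_contra hcon
  push Not at hcon
  have hbad : ∀ p, p.Prime → p ∣ n.choose k → p ≤ k := by
    intro p hp hd
    by_contra h
    exact hcon p hp (by omega) hd
  have hkn : k ≤ n := by omega
  have hn0 : 0 < n := by omega
  have hn2 : 2 ≤ n := by omega
  set C := n.choose k with hC
  have h1 : C ≤ n ^ Nat.primeCounting k := choose_le_pow_primeCounting hkn hn0 hbad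
  have h2 : n ^ k ≤ C * k ^ k := pow_le_choose_mul_pow k n hkn
  -- k^(3k) ≤ n^(2k)
  have h3 : (k ^ k) ^ 3 ≤ (n ^ k) ^ 2 := by
    rw [← pow_mul, ← pow_mul, mul_comm k 3, mul_comm k 2, pow_mul, pow_mul]
    exact Nat.pow_le_pow_left hge k
  -- n^(3k) ≤ C^3 * k^(3k) ≤ C^3 * n^(2k)
  have h4 : (n ^ k) ^ 3 ≤ C ^ 3 * (n ^ k) ^ 2 := by
    calc (n ^ k) ^ 3 ≤ (C * k ^ k) ^ 3 := Nat.pow_le_pow_left h2 3
      _ = C ^ 3 * (k ^ k) ^ 3 := mul_pow _ _ _
      _ ≤ C ^ 3 * (n ^ k) ^ 2 := Nat.mul_le_mul_left _ h3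
  have h5 : n ^ k ≤ C ^ 3 := by
    have hpos : 0 < (n ^ k) ^ 2 := by positivity
    have : n ^ k * (n ^ k) ^ 2 ≤ C ^ 3 * (n ^ k) ^ 2 := by
      calc n ^ k * (n ^ k) ^ 2 = (n ^ k) ^ 3 := by ring
        _ ≤ C ^ 3 * (n ^ k) ^ 2 := h4
    exact Nat.le_of_mul_le_mul_right this hpos
  have h6 : n ^ k ≤ n ^ (3 * Nat.primeCounting k) := by
    calc n ^ k ≤ C ^ 3 := h5
      _ ≤ (n ^ Nat.primeCounting k) ^ 3 := Nat.pow_le_pow_left h1 3
      _ = n ^ (3 * Nat.primeCounting k) := by rw [← pow_mul, mul_comm]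
  have h7 : k ≤ 3 * Nat.primeCounting k := (Nat.pow_le_pow_iff_right (by omega)).mp h6
  have h8 := three_pi_lt hk
  omega

end Cfsg.Agent.Lib.SylSchur
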