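import Mathlib

set_option autoImplicit false

/-! Finite `2`-groups of exponent dividing four whose characteristic abelian subgroups are cyclic:
all squares lie in a central subgroup of order at most two. -/

namespace Cfsg.Agent.Lib.Helper9.C6D4

section Central

theorem exists_central_of_normal {Q : Type*} [Group Q] [Finite Q] {p : ℕ} [Fact p.Prime]
    (hQ : IsPGroup p Q) (N : Subgroup Q) [N.Normal] (hN : N ≠ ⊥) :
    ∃ b ∈ N, b ≠ 1 ∧ ∀ x : Q, x * b = b * x := by
  classical
  have hp : p.Prime := Fact.out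
  have hQ' : IsPGroup p (ConjAct Q) := hQ
  have hmod := hQ'.card_modEq_card_fixedPoints (α := N)
  haveI hNnt : Nontrivial N := (Subgroup.nontrivial_iff_ne_bot N).mpr hN
  have hdvd : p ∣ Nat.card N := by
    rcases (hQ.to_subgroup N).card_eq_or_dvd with h | h
    · exfalso
      have := Finite.one_lt_card (α := N)
      omega
    · exact h
  have hfp : p ∣ Nat.card (MulAction.fixedPoints (ConjAct Q) N) := by
    unfold Nat.ModEq at hmod
    apply Nat.dvd_of_mod_eq_zero
    rw [← hmod]
    exact Nat.mod_eq_zero_of_dvd hdvd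
  have hone : (1 : N) ∈ MulAction.fixedPoints (ConjAct Q) N := by
    intro g
    exact smul_one g
  haveI : Nonempty (MulAction.fixedPoints (ConjAct Q) N) := ⟨⟨1, hone⟩⟩
  have hpos : 0 < Nat.card (MulAction.fixedPoints (ConjAct Q) N) := Nat.card_pos
  have hle := Nat.le_of_dvd hpos hfp
  have h2 := hp.two_le
  have hnt : Nontrivial (MulAction.fixedPoints (ConjAct Q) N) := by
    rw [← Finite.one_lt_card_iff_nontrivial]
    omega
  obtain ⟨b, hb⟩ := exists_ne (⟨1, hone⟩ : MulAction.fixedPoints (ConjAct Q) N)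
  refine ⟨(b : N), (b : N).2, ?_, ?_⟩
  · intro h
    apply hb
    apply Subtype.ext
    apply Subtype.ext
    exact h
  · intro x
    have h1 := b.2 (ConjAct.toConjAct x)
    have h2 := congrArg (Subtype.val) h1
    rw [ConjAct.Subgroup.val_conj_smul, ConjAct.toConjAct_smul] at h2
    calc x * (b : N) = (x * ((b : N) : Q) * x⁻¹) * x := by group
      _ = (b : N) * x := by rw [h2]

theorem exists_central_mod {G : Type*} [Group G] [Finite G] {p : ℕ} [Fact p.Prime]
    (hG : IsPGroup p G) (U M : Subgroup G) [hU : U.Normal] [hM : M.Normal]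
    (s : G) (hsU : s ∈ U) (hsM : s ∉ M) :
    ∃ b ∈ U, b ∉ M ∧ ∀ x : G, x * b * x⁻¹ * b⁻¹ ∈ M := by
  have hQ : IsPGroup p (G ⧸ M) := hG.to_quotient M
  set N : Subgroup (G ⧸ M) := U.map (QuotientGroup.mk' M) with hNdef
  haveI : N.Normal := Subgroup.Normal.map hU _ (QuotientGroup.mk'_surjective M)
  have hN : N ≠ ⊥ := by
    intro h
    have h1 : QuotientGroup.mk' M s ∈ N := Subgroup.mem_map_of_mem _ hsU
    rw [h, Subgroup.mem_bot] at h1
    exact hsM ((QuotientGroup.eq_one_iff s).mp h1)
  obtain ⟨b', hb'N, hb'1, hb'c⟩ := exists_central_of_normal hQ N hN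
  obtain ⟨b, hbU, rfl⟩ := hb'N
  refine ⟨b, hbU, ?_, ?_⟩
  · intro hbM
    exact hb'1 ((QuotientGroup.eq_one_iff b).mpr hbM)
  · intro x
    rw [← QuotientGroup.eq_one_iff]
    have h1 := hb'c (QuotientGroup.mk' M x)
    have h2 : ((x * b * x⁻¹ * b⁻¹ : G) : G ⧸ M) =
        (QuotientGroup.mk' M x) * (QuotientGroup.mk' M b) * (QuotientGroup.mk' M x)⁻¹ *
          (QuotientGroup.mk' M b)⁻¹ := by
      simp
    rw [h2, h1]
    group

end Central

section Pair

variable {G : Type*} [Group G]

/-- the subgroup `{1, z}` for an involution (or identity) `z` -/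
def pairSubgroup (z : G) (hzz : z * z = 1) : Subgroup G where
  carrier := {g | g = 1 ∨ g = z}
  one_mem' := Or.inl rfl
  mul_mem' := by
    rintro a b (rfl | rfl) (rfl | rfl)
    · left; simp
    · right; simp
    · right; simp
    · left; exact hzz
  inv_mem' := by
    rintro a (rfl | rfl)
    · left; simp
    · right; exact inv_eq_of_mul_eq_one_left hzz

theorem mem_pairSubgroup (z : G) (hzz : z * z = 1) (g : G) :
    g ∈ pairSubgroup z hzz ↔ g = 1 ∨ g = z := Iff.rfl

theorem pairSubgroup_normal (z : G) (hzz : z * z = 1) (hc : ∀ x : G, x * z = z * x) :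
    (pairSubgroup z hzz).Normal := by
  refine ⟨fun n hn g => ?_⟩
  rcases hn with rfl | rfl
  · left; simp
  · right
    rw [hc g]
    group

theorem comm_sq_of_conj (m z₀ x : G) (hz : ∀ y : G, y * z₀ = z₀ * y) (hzz : z₀ * z₀ = 1)
    (h : x * m * x⁻¹ * m⁻¹ = 1 ∨ x * m * x⁻¹ * m⁻¹ = z₀) : (x * x) * m = m * (x * x) := by
  have key : ∀ e : G, (∀ y : G, y * e = e * y) → e * e = 1 → x * m * x⁻¹ * m⁻¹ = e →
      (x * x) * m = m * (x * x) := by
    intro e hec hee he
    have h1 : x * m = e * m * x := by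
      have : x * m = (x * m * x⁻¹ * m⁻¹) * m * x := by group
      rw [this, he]
    calc x * x * m = x * (x * m) := by group
      _ = x * (e * m * x) := by rw [h1]
      _ = (x * e) * m * x := by group
      _ = e * (x * m) * x := by rw [hec x]; group
      _ = e * (e * m * x) * x := by rw [h1]
      _ = (e * e) * m * (x * x) := by group
      _ = m * (x * x) := by rw [hee, one_mul]
  rcases h with h | h
  · exact key 1 (fun y => by simp) (by simp) h
  · exact key z₀ hz hzz h

end Pair

end Cfsg.Agent.Lib.Helper9.C6D4
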