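import Mathlib
import Cfsg.Agent.Lib.Helper9.AlpGR
import Cfsg.Agent.Lib.Helper9.C6D4a

set_option autoImplicit false

/-! S3782 swarm (Alperin), package GC: a finite `p`-group of exponent `p^s` with an automorphism of
order `p` having at most `p^m` fixed points has order at most `p^(p m s) * (p^(p m s))!`
(a maximal normal abelian invariant subgroup is self-centralizing). -/

namespace Cfsg.Agent.Lib.Helper9.AlpGC

open scoped commutatorElement

/-- an automorphism of `p`-power order of a `p`-group fixes a non-trivial coset of `Y` in `X`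
(`Y < X` both invariant). -/
theorem exists_fixed_coset {P : Type*} [Group P] [Finite P] {p : ℕ} [Fact p.Prime]
    (hP : IsPGroup p P) (α : P ≃* P) (j : ℕ) (hαp : α ^ (p ^ j) = 1) (X Y : Subgroup P)
    (hYX : Y < X) (hX : X.map (α : P →* P) = X) (hY : Y.map (α : P →* P) = Y) :
    ∃ x ∈ X, x ∉ Y ∧ x⁻¹ * α x ∈ Y := by
  classical
  have hp : p.Prime := Fact.out
  have hαX : ∀ x ∈ X, α x ∈ X := by
    intro x hx
    rw [← hX]
    exact ⟨x, hx, rfl⟩
  have hαY : ∀ x ∈ Y, α x ∈ Y := by
    intro x hx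
    rw [← hY]
    exact ⟨x, hx, rfl⟩
  let αX : X → X := fun x => ⟨α x, hαX x x.2⟩
  set Yx : Subgroup X := Y.subgroupOf X with hYx
  have hrel : ∀ a b : X, QuotientGroup.leftRel Yx a b → QuotientGroup.leftRel Yx (αX a) (αX b) := by
    intro a b hab
    rw [QuotientGroup.leftRel_apply] at hab ⊢
    have h1 : ((a⁻¹ * b : X) : P) ∈ Y := Subgroup.mem_subgroupOf.mp hab
    apply Subgroup.mem_subgroupOf.mpr
    have h2 : (((αX a)⁻¹ * αX b : X) : P) = α ((a⁻¹ * b : X) : P) := by
      show (α (a : P))⁻¹ * α (b : P) = α ((a : P)⁻¹ * (b : P))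
      rw [map_mul, map_inv]
    rw [h2]
    exact hαY _ h1
  let f : Function.End (X ⧸ Yx) := Quotient.map' αX hrel
  have hαXpow : ∀ (n : ℕ) (x : X), (((αX^[n]) x : X) : P) = (α ^ n) (x : P) := by
    intro n
    induction n with
    | zero => intro x; rfl
    | succ n ih =>
      intro x
      rw [Function.iterate_succ, Function.comp_apply, ih, pow_succ]
      rfl
  have hfpow : ∀ (n : ℕ) (x : X), (f ^ n) (QuotientGroup.mk x) = QuotientGroup.mk ((αX^[n]) x) := by
    intro n
    induction n with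
    | zero => intro x; rfl
    | succ n ih =>
      intro x
      rw [pow_succ, Function.iterate_succ, Function.comp_apply]
      show (f ^ n) (f (QuotientGroup.mk x)) = _
      rw [← ih]
      rfl
  have hf : f ^ p ^ j = 1 := by
    funext q
    induction q using QuotientGroup.induction_on with
    | H x =>
      rw [hfpow]
      show _ = QuotientGroup.mk x
      congr 1
      apply Subtype.ext
      rw [hαXpow, hαp]
      rfl
  let _ : Fintype (X ⧸ Yx) := Fintype.ofFinite _
  have hmod := Equiv.Perm.card_fixedPoints_modEq (p := p) (n := j) hf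
  obtain ⟨k, hk⟩ := (hP.to_subgroup X).index Yx
  have hk0 : k ≠ 0 := by
    intro h0
    rw [h0, pow_zero, Subgroup.index_eq_one] at hk
    have : X ≤ Y := by
      intro x hx
      have : (⟨x, hx⟩ : X) ∈ Yx := by rw [hk]; trivial
      exact Subgroup.mem_subgroupOf.mp this
    exact (not_le_of_gt hYX) this
  have hcard : Fintype.card (X ⧸ Yx) = p ^ k := by
    rw [← Nat.card_eq_fintype_card, ← Subgroup.index_eq_card, hk]
  rw [hcard] at hmod
  have hdvd : p ∣ Fintype.card (Function.fixedPoints f) := by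
    have h1 : p ^ k ≡ 0 [MOD p] := (Nat.modEq_zero_iff_dvd).mpr (dvd_pow_self p hk0)
    exact (Nat.modEq_zero_iff_dvd).mp (hmod.symm.trans h1)
  have h0 : (QuotientGroup.mk (1 : X) : X ⧸ Yx) ∈ Function.fixedPoints f := by
    show f (QuotientGroup.mk (1 : X)) = QuotientGroup.mk (1 : X)
    show (QuotientGroup.mk (αX 1) : X ⧸ Yx) = QuotientGroup.mk (1 : X)
    congr 1
    apply Subtype.ext
    show α (1 : P) = 1
    exact map_one α
  have hcard2 : 1 < Fintype.card (Function.fixedPoints f) := by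
    have hpos : 0 < Fintype.card (Function.fixedPoints f) := Fintype.card_pos_iff.mpr ⟨⟨_, h0⟩⟩
    have := Nat.le_of_dvd hpos hdvd
    have := hp.two_le
    omega
  obtain ⟨⟨w, hw⟩, hne⟩ := Fintype.exists_ne_of_one_lt_card hcard2 ⟨_, h0⟩
  induction w using QuotientGroup.induction_on with
  | H x =>
    refine ⟨x, x.2, ?_, ?_⟩
    · intro hxY
      apply hne
      apply Subtype.ext
      show (QuotientGroup.mk x : X ⧸ Yx) = QuotientGroup.mk (1 : X)
      rw [QuotientGroup.eq]
      apply Subgroup.mem_subgroupOf.mpr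
      show ((x : P)⁻¹ * 1) ∈ Y
      rw [mul_one]
      exact Y.inv_mem hxY
    · have h1 : (QuotientGroup.mk (αX x) : X ⧸ Yx) = QuotientGroup.mk x := hw
      rw [QuotientGroup.eq] at h1
      have h2 : (((αX x)⁻¹ * x : X) : P) ∈ Y := Subgroup.mem_subgroupOf.mp h1
      have h3 : (x : P)⁻¹ * α (x : P) = ((((αX x)⁻¹ * x : X) : P))⁻¹ := by
        show (x : P)⁻¹ * α (x : P) = ((α (x : P))⁻¹ * (x : P))⁻¹
        group
      rw [h3]
      exact Y.inv_mem h2

theorem map_sup_zpowers_le {P : Type*} [Group P] (β : P →* P) (A : Subgroup P) (x : P)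
    (hA : A.map β ≤ A) (hx : β x ∈ A ⊔ Subgroup.zpowers x) :
    (A ⊔ Subgroup.zpowers x).map β ≤ A ⊔ Subgroup.zpowers x := by
  rw [Subgroup.map_sup, MonoidHom.map_zpowers]
  exact sup_le (hA.trans le_sup_left) ((Subgroup.zpowers_le).mpr hx)

theorem map_eq_of_map_le {P : Type*} [Group P] [Finite P] (α : P ≃* P) (D : Subgroup P)
    (h : D.map (α : P →* P) ≤ D) : D.map (α : P →* P) = D := by
  apply Subgroup.eq_of_le_of_card_ge h
  rw [Subgroup.card_map_of_injective (f := (α : P →* P)) α.injective]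

/-- a maximal normal abelian `α`-invariant subgroup of a `p`-group (`α` of `p`-power order) is
self-centralizing. -/
theorem exists_self_centralizing {Q : Type*} [Group Q] [Finite Q] {p : ℕ} [Fact p.Prime]
    (hQ : IsPGroup p Q) (α : Q ≃* Q) (j : ℕ) (hαp : α ^ (p ^ j) = 1) :
    ∃ A : Subgroup Q, A.Normal ∧ (∀ a ∈ A, ∀ b ∈ A, a * b = b * a) ∧ A.map (α : Q →* Q) = A ∧
      Subgroup.centralizer (A : Set Q) ≤ A := by
  classical
  let Pred : Subgroup Q → Prop := fun A =>
    A.Normal ∧ (∀ a ∈ A, ∀ b ∈ A, a * b = b * a) ∧ A.map (α : Q →* Q) = A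
  have hbot : Pred ⊥ := by
    refine ⟨inferInstance, ?_, Subgroup.map_bot _⟩
    intro a ha b hb
    rw [Subgroup.mem_bot] at ha hb
    rw [ha, hb]
  obtain ⟨A, -, hmax⟩ := Finite.exists_le_maximal (p := Pred) hbot
  obtain ⟨hAn, hAc, hAα⟩ := hmax.prop
  refine ⟨A, hAn, hAc, hAα, ?_⟩
  by_contra hC
  obtain ⟨s, hsC, hsA⟩ := SetLike.not_le_iff_exists.mp hC
  have hαA : ∀ a ∈ A, α a ∈ A := by
    intro a ha
    rw [← hAα]
    exact ⟨a, ha, rfl⟩
  have hαA' : ∀ a ∈ A, ∃ a' ∈ A, α a' = a := by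
    intro a ha
    rw [← hAα] at ha
    obtain ⟨a', ha', rfl⟩ := ha
    exact ⟨a', ha', rfl⟩
  have hAC : A ≤ Subgroup.centralizer (A : Set Q) := by
    intro a ha
    rw [Subgroup.mem_centralizer_iff]
    intro h hh
    exact hAc h hh a ha
  obtain ⟨b, hbC, hbA, hbc⟩ :=
    Cfsg.Agent.Lib.Helper9.C6D4.exists_central_mod hQ (Subgroup.centralizer (A : Set Q)) A s hsC hsA
  -- the preimage of `Z(Q/A) ∩ C/A`
  let D : Subgroup Q :=
    { carrier := {x | x ∈ Subgroup.centralizer (A : Set Q) ∧ ∀ g : Q, g * x * g⁻¹ * x⁻¹ ∈ A}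
      one_mem' := by
        refine ⟨Subgroup.one_mem _, fun g => ?_⟩
        have : g * 1 * g⁻¹ * (1 : Q)⁻¹ = 1 := by group
        rw [this]
        exact A.one_mem
      mul_mem' := by
        rintro x y ⟨hx1, hx2⟩ ⟨hy1, hy2⟩
        refine ⟨Subgroup.mul_mem _ hx1 hy1, fun g => ?_⟩
        have : g * (x * y) * g⁻¹ * (x * y)⁻¹
            = (g * x * g⁻¹ * x⁻¹) * (x * (g * y * g⁻¹ * y⁻¹) * x⁻¹) := by group
        rw [this]
        exact A.mul_mem (hx2 g) (hAn.conj_mem _ (hy2 g) x)
      inv_mem' := by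
        rintro x ⟨hx1, hx2⟩
        refine ⟨Subgroup.inv_mem _ hx1, fun g => ?_⟩
        have : g * x⁻¹ * g⁻¹ * x⁻¹⁻¹ = x⁻¹ * (g * x * g⁻¹ * x⁻¹)⁻¹ * x⁻¹⁻¹ := by group
        rw [this]
        exact hAn.conj_mem _ (A.inv_mem (hx2 g)) x⁻¹ }
  have hmemD : ∀ x : Q, x ∈ D ↔
      (x ∈ Subgroup.centralizer (A : Set Q) ∧ ∀ g : Q, g * x * g⁻¹ * x⁻¹ ∈ A) := fun _ => Iff.rfl
  have hAD : A ≤ D := by
    intro a ha
    rw [hmemD]
    refine ⟨hAC ha, fun g => ?_⟩
    exact A.mul_mem (hAn.conj_mem a ha g) (A.inv_mem ha)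
  have hbD : b ∈ D := (hmemD b).mpr ⟨hbC, hbc⟩
  have hADlt : A < D := lt_of_le_of_ne hAD (fun h => hbA (by rw [h]; exact hbD))
  have hDα : D.map (α : Q →* Q) = D := by
    apply map_eq_of_map_le
    rintro _ ⟨x, hx, rfl⟩
    obtain ⟨hx1, hx2⟩ := (hmemD x).mp hx
    show α x ∈ D
    rw [hmemD]
    constructor
    · rw [Subgroup.mem_centralizer_iff]
      intro a ha
      obtain ⟨a', ha', rfl⟩ := hαA' a ha
      rw [Subgroup.mem_centralizer_iff] at hx1
      rw [← map_mul, ← map_mul, hx1 a' ha']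
    · intro g
      have : g * α x * g⁻¹ * (α x)⁻¹ = α (α.symm g * x * (α.symm g)⁻¹ * x⁻¹) := by
        simp
      rw [this]
      exact hαA _ (hx2 _)
  obtain ⟨x, hxD, hxA, hxα⟩ := exists_fixed_coset hQ α j hαp D A hADlt hDα hAα
  obtain ⟨hx1, hx2⟩ := (hmemD x).mp hxD
  set B : Subgroup Q := A ⊔ Subgroup.zpowers x with hB
  have hAB : A ≤ B := le_sup_left
  have hxB : x ∈ B := (le_sup_right : Subgroup.zpowers x ≤ B) (Subgroup.mem_zpowers x)
  have hBpred : Pred B := by
    refine ⟨?_, ?_, ?_⟩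
    · -- normal
      refine ⟨fun n hn g => ?_⟩
      have h1 : B.map ((MulAut.conj g : Q ≃* Q) : Q →* Q) ≤ B := by
        apply map_sup_zpowers_le
        · rintro _ ⟨a, ha, rfl⟩
          show MulAut.conj g a ∈ A
          rw [MulAut.conj_apply]
          exact hAn.conj_mem a ha g
        · show MulAut.conj g x ∈ B
          rw [MulAut.conj_apply]
          have : g * x * g⁻¹ = (g * x * g⁻¹ * x⁻¹) * x := by group
          rw [this]
          exact B.mul_mem (hAB (hx2 g)) hxB
      have h2 : MulAut.conj g n ∈ B := h1 ⟨n, hn, rfl⟩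
      rw [MulAut.conj_apply] at h2
      exact h2
    · -- abelian
      have hZC : Subgroup.zpowers x ≤ Subgroup.centralizer (A : Set Q) :=
        (Subgroup.zpowers_le).mpr hx1
      have h1 : B ≤ Subgroup.centralizer (A : Set Q) := sup_le hAC hZC
      have h2 : A ≤ Subgroup.centralizer (B : Set Q) := Subgroup.le_centralizer_iff.mp h1
      have h3 : A ≤ Subgroup.centralizer (Subgroup.zpowers x : Set Q) :=
        Subgroup.le_centralizer_iff.mp hZC
      have h4 : Subgroup.zpowers x ≤ Subgroup.centralizer (Subgroup.zpowers x : Set Q) := by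
        rw [Subgroup.zpowers_le, Subgroup.mem_centralizer_iff]
        intro h hh
        obtain ⟨k, rfl⟩ := Subgroup.mem_zpowers_iff.mp hh
        exact ((Commute.refl x).zpow_left k).eq
      have h5 : B ≤ Subgroup.centralizer (Subgroup.zpowers x : Set Q) := sup_le h3 h4
      have h6 : Subgroup.zpowers x ≤ Subgroup.centralizer (B : Set Q) :=
        Subgroup.le_centralizer_iff.mp h5
      have h7 : B ≤ Subgroup.centralizer (B : Set Q) := sup_le h2 h6
      intro a ha b hb
      have := h7 hb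
      rw [Subgroup.mem_centralizer_iff] at this
      exact this a ha
    · -- invariant
      apply map_eq_of_map_le
      apply map_sup_zpowers_le
      · rw [hAα]
      · show α x ∈ B
        have : α x = x * (x⁻¹ * α x) := by group
        rw [this]
        exact B.mul_mem hxB (hAB hxα)
  have := hmax.le_of_ge hBpred hAB
  exact hxA (this hxB)

/-- (GC) bounded exponent gives bounded order. -/
theorem card_le_of_exponent_group {Q : Type*} [Group Q] [Finite Q] {p : ℕ} [Fact p.Prime]
    (hQ : IsPGroup p Q) (α : Q ≃* Q) (hαp : α ^ p = 1) (m : ℕ)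
    (hfix : Nat.card {g : Q // α g = g} ≤ p ^ m) (s : ℕ) (hexp : ∀ g : Q, g ^ (p ^ s) = 1) :
    Nat.card Q ≤ p ^ (p * m * s) * (p ^ (p * m * s)).factorial := by
  classical
  obtain ⟨A, hAn, hAc, hAα, hCA⟩ := exists_self_centralizing hQ α 1 (by rwa [pow_one])
  have hcardA : Nat.card A ≤ p ^ (p * m * s) := by
    have hcomm : ⁅A, A⁆ ≤ (⊥ : Subgroup Q) := by
      rw [Subgroup.commutator_le]
      intro a ha b hb
      rw [Subgroup.mem_bot, commutatorElement_def, hAc a ha b hb]
      group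
    have := Cfsg.Agent.Lib.Helper9.AlpGR.relIndex_le_of_exponent α hαp m hfix A ⊥ bot_le hAα
      (Subgroup.map_bot _) hcomm s (by
        intro x _
        rw [hexp x]
        exact Subgroup.one_mem _)
    rwa [Subgroup.relIndex_bot_left] at this
  have : A.Normal := hAn
  let φ : Q →* Equiv.Perm A := (MulAut.toPerm A).comp (MulAut.conjNormal (H := A))
  have hker : φ.ker ≤ A := by
    intro g hg
    apply hCA
    rw [Subgroup.mem_centralizer_iff]
    intro a ha
    have h1 : φ g = 1 := MonoidHom.mem_ker.mp hg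
    have h2 : φ g ⟨a, ha⟩ = ⟨a, ha⟩ := by rw [h1]; rfl
    have h3 : g * a * g⁻¹ = a := congrArg Subtype.val h2
    calc a * g = (g * a * g⁻¹) * g := by rw [h3]
      _ = g * a := by group
  have h1 : Nat.card Q = Nat.card (Q ⧸ φ.ker) * Nat.card φ.ker :=
    Subgroup.card_eq_card_quotient_mul_card_subgroup _
  have h2 : Nat.card (Q ⧸ φ.ker) = Nat.card φ.range :=
    Nat.card_congr (QuotientGroup.quotientKerEquivRange φ).toEquiv
  have h3 : Nat.card φ.range ≤ (Nat.card A).factorial := by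
    rw [← Nat.card_perm]
    exact Nat.card_le_card_of_injective _ Subtype.val_injective
  have h4 : Nat.card φ.ker ≤ Nat.card A := Subgroup.card_le_of_le hker
  calc Nat.card Q = Nat.card φ.range * Nat.card φ.ker := by rw [h1, h2]
    _ ≤ (Nat.card A).factorial * Nat.card A := Nat.mul_le_mul h3 h4
    _ = Nat.card A * (Nat.card A).factorial := mul_comm _ _
    _ ≤ p ^ (p * m * s) * (p ^ (p * m * s)).factorial :=
      Nat.mul_le_mul hcardA (Nat.factorial_le hcardA)

end Cfsg.Agent.Lib.Helper9.AlpGC
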