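import Mathlib

set_option autoImplicit false

/-!
# The automorphism group of an elementary abelian `p`-group of order `p ^ n` is `GL_n(p)`
-/

namespace Cfsg.Agent.H9EA

open Matrix

/-- automorphisms of a `ZMod p`-module written multiplicatively are the linear automorphisms -/
noncomputable def mulAutEquivLin {H : Type*} [CommGroup H] (p : ℕ) [Module (ZMod p) (Additive H)] :
    MulAut H ≃* (Additive H ≃ₗ[ZMod p] Additive H) where
  toFun f :=
    { toFun := fun w => Additive.ofMul (f w.toMul)
      invFun := fun w => Additive.ofMul (f.symm w.toMul)
      map_add' := by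
        intro a b
        show Additive.ofMul (f (a.toMul * b.toMul)) = _
        rw [map_mul]
        rfl
      map_smul' := by
        intro c w
        have := ZMod.map_smul (MulEquiv.toAdditive f).toAddMonoidHom c w
        exact this
      left_inv := by
        intro w
        show Additive.ofMul (f.symm (f w.toMul)) = w
        rw [MulEquiv.symm_apply_apply]
        rfl
      right_inv := by
        intro w
        show Additive.ofMul (f (f.symm w.toMul)) = w
        rw [MulEquiv.apply_symm_apply]
        rfl }
  invFun L :=
    { toFun := fun h => (L (Additive.ofMul h)).toMul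
      invFun := fun h => (L.symm (Additive.ofMul h)).toMul
      map_mul' := by
        intro a b
        show (L (Additive.ofMul a + Additive.ofMul b)).toMul = _
        rw [map_add]
        rfl
      left_inv := by
        intro h
        show (L.symm (L (Additive.ofMul h))).toMul = h
        rw [LinearEquiv.symm_apply_apply]
        rfl
      right_inv := by
        intro h
        show (L (L.symm (Additive.ofMul h))).toMul = h
        rw [LinearEquiv.apply_symm_apply]
        rfl }
  left_inv f := by
    ext h
    rfl
  right_inv L := by
    ext w
    rfl
  map_mul' f g := by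
    ext w
    rfl

theorem nonempty_mulAut_equiv_GL_aux {H : Type*} [CommGroup H] (p : ℕ) [Fact p.Prime] (n : ℕ)
    [Module (ZMod p) (Additive H)] [Finite (Additive H)] (hcard : Nat.card (Additive H) = p ^ n) :
    Nonempty (MulAut H ≃* GL (Fin n) (ZMod p)) := by
  have hpp : p.Prime := Fact.out
  haveI : Module.Finite (ZMod p) (Additive H) := Module.Finite.of_finite
  have hfr : Module.finrank (ZMod p) (Additive H) = n := by
    have h1 := Module.natCard_eq_pow_finrank (K := ZMod p) (V := Additive H)
    rw [Nat.card_zmod, hcard] at h1
    exact (Nat.pow_right_injective hpp.two_le h1).symm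
  let b := Module.finBasisOfFinrankEq (ZMod p) (Additive H) hfr
  exact ⟨(mulAutEquivLin p).trans
    ((LinearMap.GeneralLinearGroup.generalLinearEquiv (ZMod p) (Additive H)).symm.trans
      (Matrix.GeneralLinearGroup.toLin' b).symm)⟩

theorem nonempty_mulAut_equiv_GL {H : Type*} [Group H] (p : ℕ) [Fact p.Prime] (n : ℕ)
    (hc : ∀ a b : H, a * b = b * a) (hp : ∀ a : H, a ^ p = 1) (hcard : Nat.card H = p ^ n) :
    Nonempty (MulAut H ≃* GL (Fin n) (ZMod p)) := by
  have hpp : p.Prime := Fact.out
  letI : CommGroup H := { ‹Group H› with mul_comm := hc }
  letI : Module (ZMod p) (Additive H) := AddCommGroup.zmodModule (n := p) (fun x => by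
    show Additive.ofMul (x.toMul ^ p) = 0
    rw [hp]
    rfl)
  haveI : Finite H := Nat.finite_of_card_ne_zero (by rw [hcard]; exact pow_ne_zero _ hpp.ne_zero)
  haveI : Finite (Additive H) := ‹Finite H›
  exact nonempty_mulAut_equiv_GL_aux p n hcard

end Cfsg.Agent.H9EA
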