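import Mathlib
set_option autoImplicit false

/-! S4632 swarm: the elements of 2-power order of `Fˣ` (definition exactly as in notes/S4632_packages.lean.txt). -/

namespace Cfsg.Agent.Lib.Helper6.G2O

/-- the elements of 2-power order of `Fˣ` -/
def mu2 (F : Type*) [Field F] : Subgroup Fˣ where
  carrier := {c | ∃ k : ℕ, c ^ (2 ^ k) = 1}
  mul_mem' := by
    rintro c d ⟨k, hk⟩ ⟨l, hl⟩
    refine ⟨k + l, ?_⟩
    rw [mul_pow, pow_add, pow_mul, hk, one_pow, mul_comm (2 ^ k), pow_mul, hl, one_pow, one_mul]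
  one_mem' := ⟨0, by simp⟩
  inv_mem' := by
    rintro c ⟨k, hk⟩
    exact ⟨k, by rw [inv_pow, hk, inv_one]⟩

theorem mem_mu2 {F : Type*} [Field F] {c : Fˣ} : c ∈ mu2 F ↔ ∃ k : ℕ, c ^ (2 ^ k) = 1 := Iff.rfl

end Cfsg.Agent.Lib.Helper6.G2O
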