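import Mathlib
import Cfsg.Agent.Lib.Helper6.G2O_Defs2
import Cfsg.Agent.Lib.Helper9.G2O_Mu2
import Cfsg.Agent.Lib.Helper2.G2O_PRIM
set_option autoImplicit false
open Cfsg Cfsg.Lie Matrix

/-! S4632 swarm, PK-S2CARD: the order of `S2 F` and 2-elements of `T2 F` with given determinant. -/

namespace Cfsg.Agent.Lib.Helper6.G2O

variable {F : Type*} [Field F]

/-- `diag(1, -1)` is not of the form `cplx x y` when `2 ≠ 0`. -/
theorem Dg_not_mem_Tplus (h2 : (2 : F) ≠ 0) : (Dg : GL (Fin 2) F) ∉ Tplus F := by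
  rintro ⟨x, y, h⟩
  rw [Dg_val] at h
  have h1 := congrFun (congrFun h 0) 0
  have h2' := congrFun (congrFun h 1) 1
  simp [cplx] at h1 h2'
  apply h2
  rw [← h1] at h2'
  linear_combination -h2'

theorem two_ne_zero_of_odd [Fintype F] (hF : Odd (Fintype.card F)) : (2 : F) ≠ 0 := by
  intro h2
  have hr : ringChar F = 2 :=
    CharP.ringChar_of_prime_eq_zero Nat.prime_two (by exact_mod_cast h2)
  have hev : Fintype.card F % 2 = 0 := FiniteField.even_card_of_char_two hr
  rw [Nat.odd_iff] at hF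
  omega

theorem card_T2 [Fintype F] : Nat.card (T2 F) = 2 ^ padicValNat 2 (Nat.card (Tplus F)) :=
  card_two_primary (Tplus F) (T2 F) (fun _ ha _ hb => Tplus_comm ha hb) (fun _ => mem_T2)

theorem card_S2 [Fintype F] (hF : Odd (Fintype.card F)) :
    Nat.card (S2 F) = 2 * 2 ^ padicValNat 2 (Nat.card (Tplus F)) := by
  have h2 := two_ne_zero_of_odd hF
  have hD : (Dg : GL (Fin 2) F) ∉ T2 F := fun h => Dg_not_mem_Tplus h2 h.1
  have hrel : (T2 F).relIndex (S2 F) = 2 := by
    rw [Subgroup.relIndex_eq_two_iff]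
    refine ⟨Dg, Dg_mem_S2, ?_⟩
    rintro b ⟨t, ht, hb | hb⟩
    · refine Or.inr ⟨by rw [hb]; exact ht, ?_⟩
      intro h
      apply hD
      have : Dg = t⁻¹ * (b * Dg) := by rw [hb]; group
      rw [this]
      exact (T2 F).mul_mem ((T2 F).inv_mem ht) h
    · refine Or.inl ⟨?_, ?_⟩
      · rw [hb, mul_assoc, Dg_mul_self, mul_one]
        exact ht
      · intro h
        apply hD
        have : Dg = t⁻¹ * b := by rw [hb]; group
        rw [this]
        exact (T2 F).mul_mem ((T2 F).inv_mem ht) h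
  have h3 := Subgroup.card_mul_index ((T2 F).subgroupOf (S2 F))
  rw [Nat.card_congr (Subgroup.subgroupOfEquivOfLe (T2_le_S2 (F := F))).toEquiv, card_T2] at h3
  change _ * (T2 F).relIndex (S2 F) = _ at h3
  rw [hrel] at h3
  rw [← h3, mul_comm]

/-- sums of two squares fill a finite field -/
theorem exists_sq_add_sq [Fintype F] (c : F) : ∃ x y : F, x ^ 2 + y ^ 2 = c := by
  classical
  by_cases hodd : Fintype.card F % 2 = 1
  · have hf : (Polynomial.X ^ 2 : Polynomial F).degree = 2 := Polynomial.degree_X_pow 2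
    have hg : (Polynomial.X ^ 2 - Polynomial.C c : Polynomial F).degree = 2 :=
      Polynomial.degree_X_pow_sub_C (by norm_num) c
    obtain ⟨a, b, hab⟩ := FiniteField.exists_root_sum_quadratic hf hg hodd
    refine ⟨a, b, ?_⟩
    simp only [Polynomial.eval_pow, Polynomial.eval_X, Polynomial.eval_sub, Polynomial.eval_C] at hab
    linear_combination hab
  · have hev : Fintype.card F % 2 = 0 := by omega
    have hr : ringChar F = 2 := FiniteField.even_card_iff_char_two.mpr hev
    obtain ⟨a, ha⟩ := FiniteField.isSquare_of_char_two hr c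
    exact ⟨a, 0, by rw [ha]; ring⟩

theorem exists_mem_T2_det_eq [Fintype F] (c : Fˣ) (hc : c ∈ mu2 F) :
    ∃ t ∈ T2 F, Matrix.GeneralLinearGroup.det t = c := by
  classical
  obtain ⟨x, y, hxy⟩ := exists_sq_add_sq (c : F)
  have hdet : (cplx x y).det ≠ 0 := by
    rw [det_cplx, hxy]
    exact c.ne_zero
  set g : GL (Fin 2) F := Matrix.GeneralLinearGroup.mkOfDetNeZero (cplx x y) hdet with hg
  have hgT : g ∈ Tplus F := ⟨x, y, rfl⟩
  have hgdet : Matrix.GeneralLinearGroup.det g = c := by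
    apply Units.ext
    rw [Matrix.GeneralLinearGroup.val_det_apply]
    change (cplx x y).det = _
    rw [det_cplx, hxy]
  let f : Tplus F →* Fˣ := Matrix.GeneralLinearGroup.det.comp (Tplus F).subtype
  obtain ⟨k, hk⟩ := hc
  obtain ⟨a', ⟨j, hj⟩, ha', -⟩ := exists_two_primary_preimage f ⟨g, hgT⟩ ⟨k, by
    change (Matrix.GeneralLinearGroup.det g) ^ (2 ^ k) = 1
    rw [hgdet, hk]⟩
  refine ⟨a'.1, ⟨a'.2, j, ?_⟩, ?_⟩
  · have := congrArg Subtype.val hj
    simpa using this
  · have : f a' = Matrix.GeneralLinearGroup.det g := ha'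
    rw [← hgdet, ← this]
    rfl

end Cfsg.Agent.Lib.Helper6.G2O
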