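import Mathlib
import Cfsg.Agent.Lib.Helper6.G2O_Defs2
import Cfsg.Agent.Lib.Helper9.G2O_Mu2
import Cfsg.Agent.Lib.Helper2.G2O_PRIM
import Cfsg.Agent.Lib.Helper9.G2O_S2CARD
set_option autoImplicit false
open Cfsg Cfsg.Lie Matrix

/-! S4632 swarm, PK-STIL: the orders of `mu2 F`, `Stil F` and `Stil F ⊓ Zc F`. -/

namespace Cfsg.Agent.Lib.Helper6.G2O

variable {F : Type*} [Field F]

theorem card_mu2 [Fintype F] : Nat.card (mu2 F) = 2 ^ padicValNat 2 (Fintype.card F - 1) := by
  classical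
  have h := card_two_primary (⊤ : Subgroup Fˣ) (mu2 F) (fun a _ b _ => mul_comm a b)
    (fun g => by rw [mem_mu2]; exact ⟨fun h => ⟨Subgroup.mem_top g, h⟩, fun h => h.2⟩)
  rw [h, Subgroup.card_top, Nat.card_eq_fintype_card, Fintype.card_units]

/-! ### determinants of elements of `S2 F` -/

theorem det_Dg : Matrix.GeneralLinearGroup.det (Dg : GL (Fin 2) F) = -1 := by
  apply Units.ext
  rw [Matrix.GeneralLinearGroup.val_det_apply, Dg_val, Matrix.det_fin_two_of]
  simp

theorem neg_one_mem_mu2 : (-1 : Fˣ) ∈ mu2 F := ⟨1, by simp⟩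

theorem det_mem_mu2_of_mem_T2 {t : GL (Fin 2) F} (ht : t ∈ T2 F) :
    Matrix.GeneralLinearGroup.det t ∈ mu2 F := by
  obtain ⟨k, hk⟩ := ht.2
  exact ⟨k, by rw [← map_pow, hk, map_one]⟩

theorem det_mem_mu2_of_mem_S2 {s : GL (Fin 2) F} (hs : s ∈ S2 F) :
    Matrix.GeneralLinearGroup.det s ∈ mu2 F := by
  obtain ⟨t, ht, h | h⟩ := hs
  · rw [h]; exact det_mem_mu2_of_mem_T2 ht
  · rw [h, map_mul, det_Dg]
    exact (mu2 F).mul_mem (det_mem_mu2_of_mem_T2 ht) neg_one_mem_mu2

/-- the quotient of the two determinants -/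
noncomputable def detDiv (F : Type*) [Field F] : GL (Fin 2) F × GL (Fin 2) F →* Fˣ :=
  (Matrix.GeneralLinearGroup.det.comp (MonoidHom.fst _ _)) /
    (Matrix.GeneralLinearGroup.det.comp (MonoidHom.snd _ _))

theorem detDiv_apply (p : GL (Fin 2) F × GL (Fin 2) F) :
    detDiv F p = Matrix.GeneralLinearGroup.det p.1 / Matrix.GeneralLinearGroup.det p.2 := rfl

theorem card_Stil_mul [Fintype F] (hF : Odd (Fintype.card F)) :
    Nat.card (Stil F) * Nat.card (mu2 F) = Nat.card (S2 F) ^ 2 := by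
  classical
  set Pr : Subgroup (GL (Fin 2) F × GL (Fin 2) F) := (S2 F).prod (S2 F) with hPr
  let δ : Pr →* Fˣ := (detDiv F).comp Pr.subtype
  have hker : δ.ker = (Stil F).subgroupOf Pr := by
    ext p
    rw [MonoidHom.mem_ker, Subgroup.mem_subgroupOf, mem_Stil]
    change detDiv F p.1 = 1 ↔ _
    rw [detDiv_apply, div_eq_one]
    have hp : (p : GL (Fin 2) F × GL (Fin 2) F) ∈ (S2 F).prod (S2 F) := p.2
    rw [Subgroup.mem_prod] at hp
    exact ⟨fun h => ⟨hp, h⟩, fun h => h.2⟩
  have hrange : Nat.card δ.range = Nat.card (mu2 F) := by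
    have : δ.range = mu2 F := by
      ext c
      constructor
      · rintro ⟨p, rfl⟩
        have hp : (p : GL (Fin 2) F × GL (Fin 2) F) ∈ (S2 F).prod (S2 F) := p.2
        rw [Subgroup.mem_prod] at hp
        change detDiv F p.1 ∈ mu2 F
        rw [detDiv_apply]
        exact (mu2 F).div_mem (det_mem_mu2_of_mem_S2 hp.1) (det_mem_mu2_of_mem_S2 hp.2)
      · intro hc
        obtain ⟨t, ht, htc⟩ := exists_mem_T2_det_eq c hc
        refine ⟨⟨(t, 1), ?_⟩, ?_⟩
        · change (t, (1 : GL (Fin 2) F)) ∈ (S2 F).prod (S2 F)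
          rw [Subgroup.mem_prod]
          exact ⟨T2_le_S2 ht, (S2 F).one_mem⟩
        · change detDiv F (t, 1) = c
          rw [detDiv_apply, map_one, div_one, htc]
    rw [this]
  have h1 := Subgroup.card_mul_index δ.ker
  rw [Subgroup.index_ker, hrange, hker,
    Nat.card_congr (Subgroup.subgroupOfEquivOfLe (show Stil F ≤ Pr from inf_le_left)).toEquiv,
    Nat.card_congr (Subgroup.prodEquiv (S2 F) (S2 F)).toEquiv, Nat.card_prod] at h1
  rw [h1, pow_two]

/-! ### the scalar pairs in `Stil F` -/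

theorem scal_mul (c c' : Fˣ) : scal (c * c') = scal c * scal c' := by
  apply Units.ext
  rw [Units.val_mul, scal_val, scal_val, scal_val, Units.val_mul, smul_mul_smul_comm, mul_one]

theorem scal_one : scal (1 : Fˣ) = 1 := by
  apply Units.ext
  rw [scal_val, Units.val_one, Units.val_one, one_smul]

/-- `c ↦ (scal c, scal c)` -/
noncomputable def scalPair (F : Type*) [Field F] : Fˣ →* GL (Fin 2) F × GL (Fin 2) F where
  toFun c := (scal c, scal c)
  map_one' := by rw [scal_one]; rfl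
  map_mul' c c' := by rw [scal_mul]; rfl

theorem scal_injective : Function.Injective (scal : Fˣ → GL (Fin 2) F) := by
  intro c c' h
  have h1 := congrArg (fun g : GL (Fin 2) F => (g : Matrix (Fin 2) (Fin 2) F) 0 0) h
  simp only [scal_val, Matrix.smul_apply, Matrix.one_apply_eq, smul_eq_mul, mul_one] at h1
  exact Units.ext h1

theorem scalPair_injective : Function.Injective (scalPair F) := by
  intro c c' h
  exact scal_injective (congrArg Prod.fst h)

theorem scal_mem_Tplus (c : Fˣ) : scal c ∈ Tplus F := by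
  refine ⟨c, 0, ?_⟩
  rw [scal_val]
  ext i j
  fin_cases i <;> fin_cases j <;> simp [cplx]

theorem scal_pow (c : Fˣ) (k : ℕ) : scal c ^ k = scal (c ^ k) := by
  induction k with
  | zero => rw [pow_zero, pow_zero, scal_one]
  | succ k ih => rw [pow_succ, pow_succ, ih, scal_mul]

theorem card_Stil_inf_Zc [Fintype F] (hF : Odd (Fintype.card F)) :
    Nat.card (Stil F ⊓ Zc F : Subgroup (GL (Fin 2) F × GL (Fin 2) F)) = Nat.card (mu2 F) := by
  have h2 := two_ne_zero_of_odd hF
  have hmap : (Stil F ⊓ Zc F : Subgroup (GL (Fin 2) F × GL (Fin 2) F)) = (mu2 F).map (scalPair F) := by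
    ext p
    rw [Subgroup.mem_inf, Subgroup.mem_map]
    constructor
    · rintro ⟨hS, c, rfl⟩
      refine ⟨c, ?_, rfl⟩
      rw [mem_Stil] at hS
      obtain ⟨t, ht, h | h⟩ := hS.1.1
      · obtain ⟨k, hk⟩ := ht.2
        refine ⟨k, ?_⟩
        apply scal_injective
        change scal c = t at h
        rw [← scal_pow, h, hk, scal_one]
      · exfalso
        apply Dg_not_mem_Tplus h2
        change scal c = t * Dg at h
        have : Dg = t⁻¹ * scal c := by rw [h]; group
        rw [this]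
        exact (Tplus F).mul_mem ((Tplus F).inv_mem ht.1) (scal_mem_Tplus c)
    · rintro ⟨c, ⟨k, hk⟩, rfl⟩
      have hT : scal c ∈ T2 F := ⟨scal_mem_Tplus c, k, by rw [scal_pow, hk, scal_one]⟩
      refine ⟨?_, c, rfl⟩
      rw [mem_Stil]
      exact ⟨⟨T2_le_S2 hT, T2_le_S2 hT⟩, rfl⟩
  rw [hmap, Subgroup.card_map_of_injective scalPair_injective]

end Cfsg.Agent.Lib.Helper6.G2O
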