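import Mathlib
import Cfsg.Prelude.Def_Transfer
import Cfsg.Agent.Lib.Helper9.GroupFusion

set_option autoImplicit false

namespace Cfsg.Agent.Lib.Helper9

open Cfsg

variable {G : Type*} [Group G]

theorem isElementaryAbelian_map {G' : Type*} [Group G'] {p : ℕ} {A : Subgroup G} (hA : IsElementaryAbelian p A)
    (f : G →* G') : IsElementaryAbelian p (A.map f) := by
  obtain ⟨h1, h2⟩ := hA
  refine ⟨inferInstance, ?_⟩
  rintro _ ⟨a, ha, rfl⟩
  rw [← map_pow, h2 a ha, map_one]

theorem isElementaryAbelian_subgroupOf {p : ℕ} {A : Subgroup G} (hA : IsElementaryAbelian p A)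
    (K : Subgroup G) : IsElementaryAbelian p (A.subgroupOf K) := by
  obtain ⟨h1, h2⟩ := hA
  refine ⟨inferInstance, ?_⟩
  intro a ha
  apply Subtype.ext
  have := h2 (a : G) ha
  simpa using this

/-- The elementary abelian subgroups of `P` of largest order, as subgroups of the ambient group. -/
def maxEA (p : ℕ) (P : Subgroup G) : Set (Subgroup G) :=
  {A | A ≤ P ∧ IsElementaryAbelian p A ∧
    ∀ B : Subgroup G, B ≤ P → IsElementaryAbelian p B → Nat.card B ≤ Nat.card A}

theorem card_map_subtype (P : Subgroup G) (A : Subgroup P) : Nat.card (A.map P.subtype) = Nat.card A :=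
  Nat.card_congr (A.equivMapOfInjective _ P.subtype_injective).symm.toEquiv

theorem card_subgroupOf_of_le {A P : Subgroup G} (h : A ≤ P) : Nat.card (A.subgroupOf P) = Nat.card A :=
  Nat.card_congr (Subgroup.subgroupOfEquivOfLe h).toEquiv

theorem thompsonSubgroupOf_eq (p : ℕ) (P : Subgroup G) :
    thompsonSubgroupOf p P = sSup (maxEA p P) := by
  apply le_antisymm
  · unfold thompsonSubgroupOf thompsonSubgroup
    rw [Subgroup.map_le_iff_le_comap]
    apply sSup_le
    rintro A' ⟨hA'ea, hA'max⟩
    rw [← Subgroup.map_le_iff_le_comap]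
    apply le_sSup
    refine ⟨Subgroup.map_subtype_le A', isElementaryAbelian_map hA'ea _, ?_⟩
    intro B hBP hBea
    rw [card_map_subtype, ← card_subgroupOf_of_le hBP]
    exact hA'max _ (isElementaryAbelian_subgroupOf hBea P)
  · apply sSup_le
    rintro A ⟨hAP, hAea, hAmax⟩
    unfold thompsonSubgroupOf thompsonSubgroup
    rw [← Subgroup.map_subgroupOf_eq_of_le hAP]
    apply Subgroup.map_mono
    apply le_sSup
    refine ⟨isElementaryAbelian_subgroupOf hAea P, ?_⟩
    intro B' hB'ea
    rw [card_subgroupOf_of_le hAP, ← card_map_subtype]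
    exact hAmax _ (Subgroup.map_subtype_le B') (isElementaryAbelian_map hB'ea _)

theorem thompsonSubgroupOf_le (p : ℕ) (P : Subgroup G) : thompsonSubgroupOf p P ≤ P := by
  rw [thompsonSubgroupOf_eq]
  exact sSup_le fun A hA => hA.1

/-- A conjugate `A^u` of a largest elementary abelian subgroup `A` of `P` that lies in a conjugate `P^k` of `P` is a
largest elementary abelian subgroup of `P^k`. -/
theorem maxEA_conj {p : ℕ} {P A : Subgroup G} (hA : A ∈ maxEA p P) (u k : G)
    (hle : A.map (MulAut.conj u).toMonoidHom ≤ P.map (MulAut.conj k).toMonoidHom) :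
    A.map (MulAut.conj u).toMonoidHom ∈ maxEA p (P.map (MulAut.conj k).toMonoidHom) := by
  obtain ⟨hAP, hAea, hAmax⟩ := hA
  refine ⟨hle, isElementaryAbelian_map hAea _, ?_⟩
  intro B hB hBea
  rw [card_map_conj, ← card_map_conj B k⁻¹]
  apply hAmax _ _ (isElementaryAbelian_map hBea _)
  rw [← map_conj_map_conj_inv P k]
  exact Subgroup.map_mono hB

/-- If `J(P)^u ≤ P^k` then `J(P)^u ≤ J(P^k)`. -/
theorem thompson_conj_le {p : ℕ} (P : Subgroup G) (u k : G)
    (hle : (thompsonSubgroupOf p P).map (MulAut.conj u).toMonoidHom ≤ P.map (MulAut.conj k).toMonoidHom) :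
    (thompsonSubgroupOf p P).map (MulAut.conj u).toMonoidHom ≤
      thompsonSubgroupOf p (P.map (MulAut.conj k).toMonoidHom) := by
  rw [Subgroup.map_le_iff_le_comap]
  conv_lhs => rw [thompsonSubgroupOf_eq]
  apply sSup_le
  intro A hA
  rw [← Subgroup.map_le_iff_le_comap]
  have hAJ : A ≤ thompsonSubgroupOf p P := by
    rw [thompsonSubgroupOf_eq]; exact le_sSup hA
  have h1 := maxEA_conj hA u k ((Subgroup.map_mono hAJ).trans hle)
  rw [thompsonSubgroupOf_eq]
  exact le_sSup h1

/-- `|J(P^k)| = |J(P)|` for finite `P`. -/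
theorem card_thompson_conj {p : ℕ} (P : Subgroup G) [Finite P] (k : G) :
    Nat.card (thompsonSubgroupOf p (P.map (MulAut.conj k).toMonoidHom)) = Nat.card (thompsonSubgroupOf p P) := by
  have hPk : Finite (P.map (MulAut.conj k).toMonoidHom) :=
    Nat.finite_of_card_ne_zero (by rw [card_map_conj]; exact Nat.card_pos.ne')
  have hJfin : Finite (thompsonSubgroupOf p P) :=
    Finite.of_injective (Subgroup.inclusion (thompsonSubgroupOf_le p P)) (Subgroup.inclusion_injective _)
  have hJkfin : Finite (thompsonSubgroupOf p (P.map (MulAut.conj k).toMonoidHom)) :=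
    Finite.of_injective (Subgroup.inclusion (thompsonSubgroupOf_le p _)) (Subgroup.inclusion_injective _)
  apply le_antisymm
  · have h1 := thompson_conj_le (p := p) (P.map (MulAut.conj k).toMonoidHom) k⁻¹ k⁻¹
      (Subgroup.map_mono (thompsonSubgroupOf_le p _))
    rw [map_conj_map_conj_inv] at h1
    rw [← card_map_conj _ k⁻¹]
    exact Subgroup.card_le_of_le h1
  · have h1 := thompson_conj_le (p := p) P k k (Subgroup.map_mono (thompsonSubgroupOf_le p P))
    rw [← card_map_conj (thompsonSubgroupOf p P) k]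
    exact Subgroup.card_le_of_le h1

end Cfsg.Agent.Lib.Helper9
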