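import Mathlib
import Cfsg.Agent.Lib.Helper6.JL.JL17
import Cfsg.Agent.Lib.Helper8.JT1

/-! S2950 packages PK-1, PK-3, PK-4 (helper6's cut): `J(R) = J(T)` for `J(T) ≤ R ≤ T`; every 2-local lies in a
maximal 2-local; conjugation invariance of `wOf` and `IsJComponent`. -/

set_option autoImplicit false

namespace Cfsg.Agent.Lib.Helper9.JU

open Cfsg Cfsg.Agent.Lib.Helper9 Cfsg.Agent.Lib.Helper6 Cfsg.Agent.Lib.Helper6.JC Cfsg.Agent.Lib.Helper6.JL

variable {G : Type*} [Group G]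

/-- PK-1: `J(T) ≤ R ≤ T ⇒ maxEA 2 R = maxEA 2 T`. -/
theorem maxEA_eq_of_le [Finite G] {R T : Subgroup G}
    (hJR : thompsonSubgroupOf 2 T ≤ R) (hRT : R ≤ T) : maxEA 2 R = maxEA 2 T := by
  have key : ∀ A, A ∈ maxEA 2 T → A ∈ maxEA 2 R := by
    intro A hA
    have hAJ : A ≤ thompsonSubgroupOf 2 T := by
      rw [thompsonSubgroupOf_eq]; exact le_sSup hA
    exact ⟨hAJ.trans hJR, hA.2.1, fun B hB hBe => hA.2.2 B (hB.trans hRT) hBe⟩
  ext A
  constructor
  · intro hA
    obtain ⟨A0, hA0⟩ := JL.exists_maxEA T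
    have hA0R := key A0 hA0
    refine ⟨hA.1.trans hRT, hA.2.1, fun B hB hBe => ?_⟩
    exact (hA0.2.2 B hB hBe).trans (hA.2.2 A0 hA0R.1 hA0.2.1)
  · exact key A

/-- PK-1: `J(T) ≤ R ≤ T ⇒ J(R) = J(T)`. -/
theorem thompsonSubgroupOf_eq_of_le [Finite G] {R T : Subgroup G}
    (hJR : thompsonSubgroupOf 2 T ≤ R) (hRT : R ≤ T) :
    thompsonSubgroupOf 2 R = thompsonSubgroupOf 2 T := by
  rw [thompsonSubgroupOf_eq, thompsonSubgroupOf_eq, maxEA_eq_of_le hJR hRT]

/-- PK-3: in a finite group every 2-local subgroup lies in a maximal 2-local subgroup. -/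
theorem exists_isMaximalTwoLocal_ge [Finite G] {N : Subgroup G} (hN : IsTwoLocal N) :
    ∃ L : Subgroup G, IsMaximalTwoLocal L ∧ N ≤ L := by
  have hne : ({L : Subgroup G | IsTwoLocal L ∧ N ≤ L} : Set (Subgroup G)).Nonempty :=
    ⟨N, hN, le_refl N⟩
  obtain ⟨L, hL, hmax⟩ := Set.exists_max_image _ (fun L : Subgroup G => Nat.card L)
    (Set.toFinite _) hne
  refine ⟨L, ⟨hL.1, fun N' hN' hLN' => ?_⟩, hL.2⟩
  have h1 : Nat.card N' ≤ Nat.card L := hmax N' ⟨hN', hL.2.trans hLN'⟩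
  exact (Subgroup.eq_of_le_of_card_ge hLN' h1).symm

/-- conjugation transports `omegaOne` -/
theorem omegaOne_map_conj (p : ℕ) (H : Subgroup G) (n : G) :
    omegaOne p (H.map (MulAut.conj n).toMonoidHom) = (omegaOne p H).map (MulAut.conj n).toMonoidHom := by
  unfold omegaOne
  rw [MonoidHom.map_closure]
  congr 1
  ext x
  constructor
  · rintro ⟨⟨y, hy, rfl⟩, hx⟩
    refine ⟨y, ⟨hy, ?_⟩, rfl⟩
    apply (MulAut.conj n).injective
    rw [map_one, map_pow]
    exact hx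
  · rintro ⟨y, ⟨hy, hyp⟩, rfl⟩
    refine ⟨⟨y, hy, rfl⟩, ?_⟩
    change ((MulAut.conj n) y) ^ p = 1
    rw [← map_pow, hyp, map_one]

/-- conjugation transports `omegaCenterOf` -/
theorem omegaCenterOf_map_conj (X : Subgroup G) (n : G) :
    omegaCenterOf (X.map (MulAut.conj n).toMonoidHom) =
      (omegaCenterOf X).map (MulAut.conj n).toMonoidHom := by
  unfold omegaCenterOf
  rw [centralizer_map_conj, ← omegaOne_map_conj]
  congr 1
  exact (Subgroup.map_inf _ _ _ (MulAut.conj n).injective).symm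

/-- PK-4c: conjugation transports `wOf`. -/
theorem wOf_map_conj (K : Subgroup G) (n : G) :
    wOf (K.map (MulAut.conj n).toMonoidHom) = (wOf K).map (MulAut.conj n).toMonoidHom := by
  unfold wOf
  rw [← pCoreOf_map_conj, omegaCenterOf_map_conj, Subgroup.map_commutator]


open Cfsg.Agent.Lib.Helper8.JT in
/-- conjugation transports `IsJC` -/
theorem isJC_map_conj [Finite G] {J K : Subgroup G} (h : IsJC J K) (n : G) :
    IsJC (J.map (MulAut.conj n).toMonoidHom) (K.map (MulAut.conj n).toMonoidHom) := by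
  obtain ⟨h1, h2, h3, h4, h5, h6⟩ := h
  refine ⟨?_, ?_, ?_, ?_, ?_, ?_⟩
  · conv_rhs => rw [← h1]
    rw [MonoidHom.map_closure]
    congr 1
    ext x
    constructor
    · rintro ⟨⟨y, hy, rfl⟩, hx⟩
      refine ⟨y, ⟨hy, ?_⟩, rfl⟩
      have : orderOf ((MulAut.conj n).toMonoidHom y) = orderOf y :=
        orderOf_injective _ (MulAut.conj n).injective y
      rwa [this] at hx
    · rintro ⟨y, ⟨hy, hyo⟩, rfl⟩
      refine ⟨⟨y, hy, rfl⟩, ?_⟩
      have : orderOf ((MulAut.conj n).toMonoidHom y) = orderOf y :=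
        orderOf_injective _ (MulAut.conj n).injective y
      rwa [this]
  · rw [← Subgroup.map_commutator, h2]
  · rw [← pCoreOf_map_conj, Subgroup.relIndex_map_map_of_injective _ _ (MulAut.conj n).injective]
    exact h3
  · intro S hS hJS
    have hS' : IsSylowTwoIn (S.map (MulAut.conj n⁻¹).toMonoidHom) (K ⊔ J) := by
      have := isSylowTwoIn_map_conj hS n⁻¹
      rwa [Subgroup.map_sup, Cfsg.Agent.Lib.Helper6.map_conj_inv_map_conj, Cfsg.Agent.Lib.Helper6.map_conj_inv_map_conj] at this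
    have hJS' : J ≤ S.map (MulAut.conj n⁻¹).toMonoidHom := by
      have := Subgroup.map_mono (f := (MulAut.conj n⁻¹).toMonoidHom) hJS
      rwa [Cfsg.Agent.Lib.Helper6.map_conj_inv_map_conj] at this
    have := h4 _ hS' hJS'
    rw [thompson_map_conj] at this
    rw [← this, map_conj_map_conj_inv']
  · rw [wOf_map_conj, card_map_conj]
    exact h5
  · intro w hw
    rw [wOf_map_conj] at hw
    obtain ⟨w', hw', rfl⟩ := hw
    change (MulAut.conj n) w' * (MulAut.conj n) w' = 1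
    rw [← map_mul, h6 w' hw', map_one]

/-- PK-4a: `IsJComponent` is invariant under conjugation. -/
theorem isJComponent_map_conj [Finite G] {T K : Subgroup G} (hK : IsJComponent T K) (n : G) :
    IsJComponent (T.map (MulAut.conj n).toMonoidHom) (K.map (MulAut.conj n).toMonoidHom) := by
  rw [Cfsg.Agent.Lib.Helper8.JT.isJComponent_iff, Cfsg.Agent.Lib.Helper8.JT.thompson_map_conj]
  exact isJC_map_conj ((Cfsg.Agent.Lib.Helper8.JT.isJComponent_iff T K).mp hK) n

/-- PK-4b: for `n ∈ N_G(J(T))`, `K^n` is again a `J(T)`-component. -/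
theorem isJComponent_map_conj_of_mem_normalizer [Finite G] {T K : Subgroup G}
    (hK : IsJComponent T K) {n : G}
    (hn : n ∈ Subgroup.normalizer ((thompsonSubgroupOf 2 T : Subgroup G) : Set G)) :
    IsJComponent T (K.map (MulAut.conj n).toMonoidHom) := by
  rw [Cfsg.Agent.Lib.Helper8.JT.isJComponent_iff]
  have h := isJC_map_conj ((Cfsg.Agent.Lib.Helper8.JT.isJComponent_iff T K).mp hK) n
  rwa [Cfsg.Agent.Lib.Helper8.JT.map_conj_of_mem_normalizer hn] at h

/-- PK-2: Frattini argument in `L ∈ 𝓛(T)`: `L = J(L) · N_L(J(T))`. -/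
theorem exists_jOf_mul_normalizer [Finite G] {T L : Subgroup G} (h : LCtx T L) {x : G}
    (hx : x ∈ L) :
    ∃ j ∈ jOf L, ∃ n ∈ L,
      n ∈ Subgroup.normalizer ((thompsonSubgroupOf 2 T : Subgroup G) : Set G) ∧ x = j * n := by
  have : Fact (Nat.Prime 2) := ⟨Nat.prime_two⟩
  obtain ⟨J, hJdef⟩ : ∃ J, J = thompsonSubgroupOf 2 T := ⟨_, rfl⟩
  rw [← hJdef]
  have hJT : J ≤ T := hJdef ▸ thompsonSubgroupOf_le 2 T
  have hJ2 : IsPGroup 2 J := h.hT2.to_le hJT
  obtain ⟨N, hNdef⟩ : ∃ N : Subgroup ↥L, N = thompsonSubgroup 2 ↥L := ⟨_, rfl⟩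
  have hNn : N.Normal := hNdef ▸ Cfsg.Agent.Lib.Lead.Holo.thompsonSubgroup_normal 2
  have hJN : J.subgroupOf L ≤ N := by
    intro y hy
    have h1 : (y : G) ∈ jOf L := h.thompson_le_jOf (hJdef ▸ Subgroup.mem_subgroupOf.mp hy)
    rw [hNdef]
    exact (mem_jOf_iff y.2).mp h1
  have hJ2' : IsPGroup 2 ((J.subgroupOf L).subgroupOf N) := (hJ2.comap_subtype).comap_subtype
  obtain ⟨P, hP⟩ := hJ2'.exists_le_sylow
  have hfr := Sylow.normalizer_sup_eq_top P
  have hx' : (⟨x, hx⟩ : ↥L) ∈ N ⊔ Subgroup.normalizer (((P : Subgroup N).map N.subtype : Subgroup ↥L) : Set ↥L) := by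
    rw [sup_comm, hfr]; trivial
  obtain ⟨j', hj', n', hn', hjn⟩ := Subgroup.mem_sup_of_normal_left.mp hx'
  -- the 2-subgroup R of G
  obtain ⟨R, hRdef⟩ : ∃ R : Subgroup G, R = ((P : Subgroup N).map N.subtype).map L.subtype := ⟨_, rfl⟩
  have hRL : R ≤ L := hRdef ▸ Subgroup.map_subtype_le _
  have hR2 : IsPGroup 2 R := by
    rw [hRdef]
    exact (P.isPGroup'.map _).map _
  have hJR : J ≤ R := by
    intro y hy
    have hyL : y ∈ L := h.hTL (hJT hy)
    have hyN : (⟨y, hyL⟩ : ↥L) ∈ N := hJN (Subgroup.mem_subgroupOf.mpr hy)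
    have hyP : (⟨⟨y, hyL⟩, hyN⟩ : ↥N) ∈ P := hP (by
      rw [Subgroup.mem_subgroupOf, Subgroup.mem_subgroupOf]; exact hy)
    rw [hRdef]
    exact ⟨⟨y, hyL⟩, ⟨⟨⟨y, hyL⟩, hyN⟩, hyP, rfl⟩, rfl⟩
  -- R ≤ T^l
  obtain ⟨l, hl, hconj⟩ := h.exists_conj_le hRL hR2
  have hRTl : R ≤ T.map (MulAut.conj l).toMonoidHom := by
    intro r hr
    rw [mem_map_conj_iff]
    exact hconj r hr
  -- J(T^l) = J
  have hJTl : thompsonSubgroupOf 2 (T.map (MulAut.conj l).toMonoidHom) = J := by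
    symm
    apply Subgroup.eq_of_le_of_card_ge
    · rw [hJdef]
      conv_lhs => rw [thompsonSubgroupOf_eq]
      apply sSup_le
      intro A hA
      have hAJ : A ≤ J := by
        rw [hJdef, thompsonSubgroupOf_eq]; exact le_sSup hA
      have hA' : A ∈ maxEA 2 (T.map (MulAut.conj l).toMonoidHom) := by
        refine ⟨(hAJ.trans hJR).trans hRTl, hA.2.1, ?_⟩
        intro B hB hBe
        have hB' : B.map (MulAut.conj l⁻¹).toMonoidHom ≤ T := by
          have := Subgroup.map_mono (f := (MulAut.conj l⁻¹).toMonoidHom) hB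
          rwa [map_conj_map_conj_inv] at this
        have := hA.2.2 _ hB' (isElementaryAbelian_map hBe _)
        rwa [card_map_conj] at this
      rw [thompsonSubgroupOf_eq]
      exact le_sSup hA'
    · rw [card_thompson_conj, hJdef]
  have hJRJ : thompsonSubgroupOf 2 R = J := by
    rw [← hJTl]
    exact thompsonSubgroupOf_eq_of_le (hJTl ▸ hJR) hRTl
  -- n' normalizes R, hence J
  have hnR : (n' : G) ∈ Subgroup.normalizer (R : Set G) := by
    apply Subgroup.mem_normalizer_fintype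
    intro r hr
    rw [hRdef] at hr ⊢
    obtain ⟨r', hr', rfl⟩ := hr
    have := (Subgroup.mem_normalizer_iff.mp hn' r').mp hr'
    exact ⟨n' * r' * n'⁻¹, this, by simp⟩
  have hnJ : (n' : G) ∈ Subgroup.normalizer (J : Set G) := by
    have := normalizer_le_normalizer_thompson R hnR
    rwa [hJRJ] at this
  refine ⟨(j' : G), ?_, (n' : G), n'.2, hnJ, ?_⟩
  · rw [hNdef] at hj'
    exact (mem_jOf_iff j'.2).mpr hj'
  · have := congrArg (Subtype.val) hjn
    simpa using this.symm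

end Cfsg.Agent.Lib.Helper9.JU
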