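import Mathlib
import Cfsg.Prelude.Def_Sporadic_a
import Cfsg.Prelude.Def_SporadicCombinatorics
import Cfsg.Agent.Lib.Helper9.SextetAct
import Cfsg.Agent.Lib.Helper9.M24C
import Cfsg.Agent.Lib.Helper9.M24M

set_option autoImplicit false
open Cfsg

/-! Transitivity of the group of the code on three-point sets, four-point sets and sextets, with explicit
reference objects. -/

namespace Cfsg.Agent.Lib.Helper9.M24

open scoped Pointwise

theorem mset_refTetrad : mset 8388615 = ({none, some 0, some 1, some 2} : Finset GolayPt) := by decide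

theorem mset_refTriple : mset 8388611 = ({none, some 0, some 1} : Finset GolayPt) := by decide

theorem injective_vec5' {a b c d e : GolayPt} (hab : a ≠ b) (hac : a ≠ c) (had : a ≠ d) (hae : a ≠ e)
    (hbc : b ≠ c) (hbd : b ≠ d) (hbe : b ≠ e) (hcd : c ≠ d) (hce : c ≠ e) (hde : d ≠ e) :
    Function.Injective ![a, b, c, d, e] := by
  intro i j h
  fin_cases i <;> fin_cases j <;> simp_all

/-- Every four-point set is an image of the reference four-point set. -/
theorem exists_smul_tetrad {T : Finset GolayPt} (hT : T.card = 4) : ∃ g ∈ M24, g • mset 8388615 = T := by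
  obtain ⟨a, t, hat, rfl, ht⟩ := Finset.card_eq_succ.mp hT
  obtain ⟨b, c, d, hbc, hbd, hcd, rfl⟩ := Finset.card_eq_three.mp ht
  obtain ⟨e, he⟩ := exists_not_mem_of_card_le (s := insert a {b, c, d}) (by rw [hT])
  simp only [Finset.mem_insert, Finset.mem_singleton, not_or] at hat he
  obtain ⟨hab, hac, had⟩ := hat
  obtain ⟨hea, heb, hec, hed⟩ := he
  obtain ⟨g, hg, hgx⟩ := exists_map_base5 ![a, b, c, d, e]
    (injective_vec5' hab hac had (Ne.symm hea) hbc hbd (Ne.symm heb) hcd (Ne.symm hec) (Ne.symm hed))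
  refine ⟨g, hg, ?_⟩
  have h0 : g none = a := hgx 0
  have h1 : g (some 0) = b := hgx 1
  have h2 : g (some 1) = c := hgx 2
  have h3 : g (some 2) = d := hgx 3
  rw [mset_refTetrad, smul_finset_eq_image', Finset.image_insert, Finset.image_insert, Finset.image_insert,
    Finset.image_singleton, h0, h1, h2, h3]

/-- Every three-point set is an image of the reference three-point set. -/
theorem exists_smul_triple {Y : Finset GolayPt} (hY : Y.card = 3) : ∃ g ∈ M24, g • mset 8388611 = Y := by
  obtain ⟨a, b, c, hab, hac, hbc, rfl⟩ := Finset.card_eq_three.mp hY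
  obtain ⟨d, hd⟩ := exists_not_mem_of_card_le (s := {a, b, c}) (by rw [hY]; norm_num)
  obtain ⟨e, he⟩ := exists_not_mem_of_card_le (s := insert d {a, b, c}) (by
    rw [Finset.card_insert_of_notMem hd, hY])
  simp only [Finset.mem_insert, Finset.mem_singleton, not_or] at hd he
  obtain ⟨hda, hdb, hdc⟩ := hd
  obtain ⟨hed, hea, heb, hec⟩ := he
  obtain ⟨g, hg, hgx⟩ := exists_map_base5 ![a, b, c, d, e]
    (injective_vec5' hab hac (Ne.symm hda) (Ne.symm hea) hbc (Ne.symm hdb) (Ne.symm heb) (Ne.symm hdc)
      (Ne.symm hec) (Ne.symm hed))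
  refine ⟨g, hg, ?_⟩
  have h0 : g none = a := hgx 0
  have h1 : g (some 0) = b := hgx 1
  have h2 : g (some 1) = c := hgx 2
  rw [mset_refTriple, smul_finset_eq_image', Finset.image_insert, Finset.image_insert,
    Finset.image_singleton, h0, h1, h2]

/-- Every sextet is an image of the reference sextet. -/
theorem exists_smul_refSext {S : Finset (Finset GolayPt)} (hS : S ∈ sextets) :
    ∃ g ∈ M24, g • sextOf (mset 8388615) = S := by
  obtain ⟨T, hT, rfl⟩ := (mem_sextets_iff S).mp hS
  obtain ⟨g, hg, rfl⟩ := exists_smul_tetrad hT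
  refine ⟨g, hg, ?_⟩
  rw [smul_sextOf hg]
  rw [card_mset]
  decide +kernel

end Cfsg.Agent.Lib.Helper9.M24
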