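import Mathlib
import Cfsg.Prelude.Def_Sporadic_a
import Cfsg.Agent.Lib.Helper9.M24Cand

set_option autoImplicit false
open Cfsg

/-! Data for the classification of the involutions of the group of the code. (Generated.) -/

namespace Cfsg.Agent.Lib.Helper9.M24

/-- Some conjugator in the list conjugates `tperm w` to `tperm r`. -/
def conjAny (ks : List (List ℕ)) (w r : List ℕ) : Bool :=
  ks.any fun k => tabOK k && tabM24 k && conjOK k w r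

theorem conjAny_spec {ks : List (List ℕ)} {w r : List ℕ} (hw : tabOK w = true) (hr : tabOK r = true)
    (h : conjAny ks w r = true) : ∃ k ∈ M24, k * tperm w * k⁻¹ = tperm r := by
  unfold conjAny at h
  rw [List.any_eq_true] at h
  obtain ⟨k, -, hk⟩ := h
  simp only [Bool.and_eq_true] at hk
  exact ⟨tperm k, tperm_mem hk.1.1 hk.1.2, conj_of_conjOK hk.1.1 hw hr hk.2⟩

/-- Pattern element: fixes `∞, 0, 3`, swaps `1, 2`. -/
def uInvA : List ℕ := [0, 2, 1, 3, 12, 14, 13, 4, 15, 21, 7, 20, 10, 11, 5, 19, 8, 17, 9, 16, 6, 22, 18, 23]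

/-- Pattern element: fixes `∞, 0`, swaps `1, 2` and maps `3` to `5`. -/
def uInvB : List ℕ := [0, 2, 1, 5, 10, 3, 13, 22, 19, 12, 8, 6, 21, 20, 14, 18, 9, 17, 7, 4, 11, 16, 15, 23]

/-- Pattern element: swaps `∞, 0` and `1, 2`, and maps `3` to `5`. -/
def uInvC : List ℕ := [23, 2, 1, 5, 19, 3, 4, 22, 10, 12, 11, 20, 15, 6, 17, 18, 7, 14, 9, 13, 8, 16, 21, 0]

/-- Representative involution whose fixed points form an octad. -/
def g2A : List ℕ := [0, 2, 1, 3, 4, 14, 18, 12, 19, 20, 10, 21, 7, 22, 5, 15, 16, 17, 6, 8, 9, 11, 13, 23]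

/-- Representative fixed-point-free involution. -/
def g2B : List ℕ := [23, 2, 1, 5, 22, 3, 21, 19, 18, 20, 15, 12, 11, 16, 17, 10, 13, 14, 8, 7, 9, 6, 4, 0]

def conj2A : List (List ℕ) :=
  [[0, 1, 2, 3, 4, 5, 6, 7, 8, 9, 10, 11, 12, 13, 14, 15, 16, 17, 18, 19, 20, 21, 22, 23],
   [3, 7, 12, 10, 19, 1, 15, 9, 6, 21, 5, 17, 18, 13, 2, 8, 14, 0, 16, 20, 22, 23, 11, 4],
   [3, 21, 11, 15, 14, 12, 8, 4, 0, 22, 5, 18, 23, 13, 7, 20, 9, 10, 6, 16, 1, 19, 2, 17],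
   [15, 19, 8, 4, 2, 20, 7, 6, 18, 10, 21, 12, 5, 3, 9, 11, 1, 17, 22, 14, 23, 13, 16, 0],
   [15, 11, 21, 17, 7, 0, 18, 10, 20, 5, 3, 19, 12, 13, 1, 14, 8, 2, 22, 6, 23, 16, 9, 4],
   [4, 8, 19, 23, 5, 16, 13, 12, 17, 22, 11, 15, 9, 14, 18, 2, 10, 6, 20, 1, 7, 21, 3, 0],
   [0, 6, 18, 16, 10, 3, 11, 2, 14, 9, 1, 5, 17, 23, 22, 21, 7, 13, 4, 20, 8, 19, 12, 15],
   [15, 12, 7, 17, 8, 16, 3, 9, 13, 10, 6, 21, 5, 14, 1, 0, 22, 2, 19, 4, 18, 20, 11, 23],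
   [17, 1, 2, 16, 10, 7, 3, 0, 22, 20, 6, 9, 18, 19, 15, 11, 8, 12, 21, 14, 13, 5, 4, 23],
   [0, 2, 1, 4, 7, 13, 21, 12, 19, 17, 10, 15, 3, 20, 23, 18, 5, 22, 8, 9, 6, 14, 11, 16],
   [17, 1, 2, 23, 13, 8, 22, 6, 15, 9, 20, 21, 11, 14, 10, 16, 12, 19, 0, 7, 3, 5, 18, 4],
   [17, 14, 5, 23, 13, 12, 6, 18, 2, 9, 21, 11, 20, 16, 10, 1, 3, 7, 19, 0, 8, 15, 22, 4],
   [16, 18, 6, 12, 1, 7, 11, 13, 20, 5, 21, 9, 23, 2, 3, 22, 10, 4, 15, 19, 8, 14, 0, 17],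
   [4, 22, 13, 9, 5, 20, 17, 6, 14, 11, 0, 1, 8, 2, 16, 21, 12, 15, 7, 23, 3, 18, 19, 10],
   [16, 8, 19, 2, 10, 1, 13, 5, 17, 14, 18, 4, 11, 23, 0, 7, 20, 15, 21, 6, 22, 12, 9, 3],
   [23, 6, 18, 19, 1, 8, 12, 10, 13, 17, 11, 2, 9, 22, 16, 3, 20, 4, 14, 7, 21, 15, 5, 0]]

def conj2B : List (List ℕ) :=
  [[0, 1, 2, 3, 4, 5, 6, 7, 8, 9, 10, 11, 12, 13, 14, 15, 16, 17, 18, 19, 20, 21, 22, 23],
   [17, 16, 13, 3, 18, 5, 20, 2, 7, 10, 23, 21, 8, 11, 22, 9, 19, 4, 12, 15, 1, 0, 6, 14],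
   [22, 8, 18, 12, 17, 11, 21, 10, 5, 20, 7, 14, 2, 3, 16, 15, 0, 13, 23, 19, 6, 9, 1, 4],
   [8, 21, 6, 11, 0, 12, 17, 16, 10, 14, 13, 20, 2, 1, 7, 3, 9, 19, 23, 5, 4, 22, 15, 18],
   [13, 3, 5, 14, 18, 17, 10, 2, 8, 1, 15, 12, 19, 11, 22, 23, 7, 4, 6, 9, 20, 0, 21, 16],
   [11, 8, 18, 14, 23, 17, 13, 16, 6, 20, 9, 7, 21, 1, 5, 10, 0, 3, 19, 22, 15, 4, 2, 12]]

theorem uInvA_ok : patOK uInvA = true := by decide +kernel
theorem uInvB_ok : patOK uInvB = true := by decide +kernel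
theorem uInvC_ok : patOK uInvC = true := by decide +kernel

theorem g2A_ok : (tabOK g2A && tabM24 g2A && isInvol g2A && fixOctOK g2A) = true := by decide +kernel
theorem g2B_ok : (tabOK g2B && tabM24 g2B && isInvol g2B && isFpf g2B) = true := by decide +kernel

theorem invFactA : (F48.all fun f => !(isInvol (tmul uInvA f)) || conjAny conj2A (tmul uInvA f) g2A) = true := by
  decide +kernel

theorem invFactB : (F48.all fun f => !(isInvol (tmul uInvB f)) || conjAny conj2A (tmul uInvB f) g2A) = true := by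
  decide +kernel

theorem invFactC : (F48.all fun f => !(isInvol (tmul uInvC f) && isFpf (tmul uInvC f)) ||
    conjAny conj2B (tmul uInvC f) g2B) = true := by
  decide +kernel

end Cfsg.Agent.Lib.Helper9.M24
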