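import Mathlib
import Cfsg.Prelude.Def_Sporadic_a
import Cfsg.Agent.Lib.Helper9.M24Norm
import Cfsg.Agent.Lib.Helper9.M24M

set_option autoImplicit false
open Cfsg

/-! Normal forms of involutions and elements of order 3 on the five base points. -/

namespace Cfsg.Agent.Lib.Helper9.M24

open scoped Pointwise

theorem injective_vec5 {a b c d e : GolayPt} (hab : a ≠ b) (hac : a ≠ c) (had : a ≠ d) (hae : a ≠ e)
    (hbc : b ≠ c) (hbd : b ≠ d) (hbe : b ≠ e) (hcd : c ≠ d) (hce : c ≠ e) (hde : d ≠ e) :
    Function.Injective ![a, b, c, d, e] := by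
  rw [← List.nodup_ofFn]
  simp only [List.ofFn_succ, List.ofFn_zero]
  simp [hab, hac, had, hae, hbc, hbd, hbe, hcd, hce, hde]

theorem card_four {a b c d : GolayPt} (hab : a ≠ b) (hac : a ≠ c) (had : a ≠ d) (hbc : b ≠ c) (hbd : b ≠ d)
    (hcd : c ≠ d) : ({a, b, c, d} : Finset GolayPt).card = 4 := by
  rw [Finset.card_insert_of_notMem, Finset.card_insert_of_notMem, Finset.card_insert_of_notMem,
    Finset.card_singleton]
  · simpa using hcd
  · simp [hbc, hbd]
  · simp [hab, hac, had]

theorem apply_mem_iff_of_image_eq {g : Equiv.Perm GolayPt} {E : Finset GolayPt} (h : E.image g = E)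
    (x : GolayPt) : g x ∈ E ↔ x ∈ E := by
  constructor
  · intro hx
    by_contra hxE
    exact not_mem_of_image_eq h hxE hx
  · exact fun hx => mem_of_image_eq h hx

/-- Normal form of an involution with a fixed point. -/
theorem invol_fixed_normal_form {g : Equiv.Perm GolayPt} (hg : g ∈ M24) (h2 : g * g = 1) (hne : g ≠ 1)
    {a : GolayPt} (ha : g a = a) :
    ∃ k ∈ M24, (k * g * k⁻¹) none = none ∧ (k * g * k⁻¹) (some 0) = some 0 ∧
      (k * g * k⁻¹) (some 1) = some 2 ∧ (k * g * k⁻¹) (some 2) = some 1 ∧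
      ((k * g * k⁻¹) (some 3) = some 3 ∨ (k * g * k⁻¹) (some 3) = some 5) := by
  have hgg : ∀ p, g (g p) = p := fun p => by
    have := congrArg (fun f : Equiv.Perm GolayPt => f p) h2
    simpa using this
  have hg2 : g ^ 2 ^ 1 = 1 := by rw [pow_one, pow_two]; exact h2
  haveI : Fact (Nat.Prime 2) := ⟨Nat.prime_two⟩
  obtain ⟨b, hb, hgb⟩ := exists_fixed_of_prime_pow g 2 1 hg2 (Finset.univ.erase a) (by
      intro x
      simp only [Finset.mem_erase, Finset.mem_univ, and_true]
      constructor
      · intro h hx; exact h (by rw [hx, ha])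
      · intro h hx; exact h (g.injective (hx.trans ha.symm))) (by
      rw [Finset.card_erase_of_mem (Finset.mem_univ _), Finset.card_univ]; decide)
  have hba : b ≠ a := (Finset.mem_erase.mp hb).1
  obtain ⟨x, hx⟩ : ∃ x, g x ≠ x := by
    by_contra hcon
    push Not at hcon
    exact hne (Equiv.ext hcon)
  have hxa : x ≠ a := fun h => hx (by rw [h, ha])
  have hxb : x ≠ b := fun h => hx (by rw [h, hgb])
  have hgxa : g x ≠ a := fun h => hxa (by rw [← hgg x, h, ha])
  have hgxb : g x ≠ b := fun h => hxb (by rw [← hgg x, h, hgb])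
  set T : Finset GolayPt := {a, b, x, g x} with hT
  have hTcard : T.card = 4 := card_four hba.symm hxa.symm hgxa.symm hxb.symm hgxb.symm hx.symm
  have hTg : T.image g = T := by
    rw [hT]
    simp only [Finset.image_insert, Finset.image_singleton, ha, hgb, hgg]
    apply Finset.ext
    intro p
    simp only [Finset.mem_insert, Finset.mem_singleton]
    tauto
  obtain ⟨O, hO, hTO, hOg⟩ := exists_invariant_octad hg 2 1 (by decide) hg2 hTcard hTg
  have haO : a ∈ O := hTO (by rw [hT]; simp)
  have hbO : b ∈ O := hTO (by rw [hT]; simp)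
  have hxO : x ∈ O := hTO (by rw [hT]; simp)
  have hgxO : g x ∈ O := hTO (by rw [hT]; simp)
  have hT1card : (O \ T).card = 4 := by
    rw [Finset.card_sdiff_of_subset hTO, octads_isOctadSystem.card_eq hO, hTcard]
  obtain ⟨z, hz⟩ : (O \ T).Nonempty := Finset.card_pos.mp (by omega)
  rw [Finset.mem_sdiff] at hz
  have hzT : z ≠ a ∧ z ≠ b ∧ z ≠ x ∧ z ≠ g x := by
    have := hz.2
    rw [hT] at this
    simp only [Finset.mem_insert, Finset.mem_singleton, not_or] at this
    exact this
  have hinj : Function.Injective ![a, b, x, g x, z] :=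
    injective_vec5 hba.symm hxa.symm hgxa.symm hzT.1.symm hxb.symm hgxb.symm hzT.2.1.symm hx.symm
      hzT.2.2.1.symm hzT.2.2.2.symm
  by_cases hgz : g z = z
  · obtain ⟨k, hk, hka⟩ := exists_map_tuple5 _ hinj
    have k0 : k a = none := hka 0
    have k1 : k b = some 0 := hka 1
    have k2 : k x = some 1 := hka 2
    have k3 : k (g x) = some 2 := hka 3
    have k4 : k z = some 3 := hka 4
    refine ⟨k, hk, ?_, ?_, ?_, ?_, Or.inl ?_⟩
    · rw [← k0, conj_apply, ha]
    · rw [← k1, conj_apply, hgb]
    · rw [← k2, conj_apply, k3]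
    · rw [← k3, conj_apply, hgg, k2]
    · rw [← k4, conj_apply, hgz]
  · have hgzO : g z ∈ O := mem_of_image_eq hOg hz.1
    have hgzT : g z ∉ T := by
      rw [apply_mem_iff_of_image_eq hTg]
      exact hz.2
    have hgzT' : g z ≠ a ∧ g z ≠ b ∧ g z ≠ x ∧ g z ≠ g x := by
      rw [hT] at hgzT
      simp only [Finset.mem_insert, Finset.mem_singleton, not_or] at hgzT
      exact hgzT
    obtain ⟨k, hk, hka, hkb, -⟩ := exists_map_tuple6 _ hinj hO (by
        intro i; fin_cases i
        · exact haO
        · exact hbO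
        · exact hxO
        · exact hgxO
        · exact hz.1) (g z) (by
        intro i; fin_cases i
        · exact hgzT'.1
        · exact hgzT'.2.1
        · exact hgzT'.2.2.1
        · exact hgzT'.2.2.2
        · exact hgz)
    have k0 : k a = none := hka 0
    have k1 : k b = some 0 := hka 1
    have k2 : k x = some 1 := hka 2
    have k3 : k (g x) = some 2 := hka 3
    have k4 : k z = some 3 := hka 4
    refine ⟨k, hk, ?_, ?_, ?_, ?_, Or.inr ?_⟩
    · rw [← k0, conj_apply, ha]
    · rw [← k1, conj_apply, hgb]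
    · rw [← k2, conj_apply, k3]
    · rw [← k3, conj_apply, hgg, k2]
    · rw [← k4, conj_apply, hkb hgzO]

/-- Normal form of a fixed-point-free involution. -/
theorem invol_fpf_normal_form {g : Equiv.Perm GolayPt} (hg : g ∈ M24) (h2 : g * g = 1)
    (hfpf : ∀ p, g p ≠ p) :
    ∃ k ∈ M24, (k * g * k⁻¹) none = some 0 ∧ (k * g * k⁻¹) (some 0) = none ∧
      (k * g * k⁻¹) (some 1) = some 2 ∧ (k * g * k⁻¹) (some 2) = some 1 ∧
      (k * g * k⁻¹) (some 3) = some 5 := by
  have hgg : ∀ p, g (g p) = p := fun p => by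
    have := congrArg (fun f : Equiv.Perm GolayPt => f p) h2
    simpa using this
  have hg2 : g ^ 2 ^ 1 = 1 := by rw [pow_one, pow_two]; exact h2
  haveI : Fact (Nat.Prime 2) := ⟨Nat.prime_two⟩
  obtain ⟨a, -⟩ : ∃ a : GolayPt, True := ⟨none, trivial⟩
  have hga : g a ≠ a := hfpf a
  obtain ⟨c, hc⟩ := exists_not_mem_of_card_le (s := {a, g a}) (by
    refine le_trans (Finset.card_insert_le _ _) ?_
    rw [Finset.card_singleton]
    norm_num)
  simp only [Finset.mem_insert, Finset.mem_singleton, not_or] at hc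
  have hgc : g c ≠ c := hfpf c
  have hgca : g c ≠ a := fun h => hc.2 (by rw [← hgg c, h])
  have hgcga : g c ≠ g a := fun h => hc.1 (g.injective h)
  set T : Finset GolayPt := {a, g a, c, g c} with hT
  have hTcard : T.card = 4 := card_four hga.symm (Ne.symm hc.1) hgca.symm (Ne.symm hc.2) hgcga.symm hgc.symm
  have hTg : T.image g = T := by
    rw [hT]
    simp only [Finset.image_insert, Finset.image_singleton, hgg]
    apply Finset.ext
    intro p
    simp only [Finset.mem_insert, Finset.mem_singleton]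
    tauto
  obtain ⟨O, hO, hTO, hOg⟩ := exists_invariant_octad hg 2 1 (by decide) hg2 hTcard hTg
  have haO : a ∈ O := hTO (by rw [hT]; simp)
  have hgaO : g a ∈ O := hTO (by rw [hT]; simp)
  have hcO : c ∈ O := hTO (by rw [hT]; simp)
  have hgcO : g c ∈ O := hTO (by rw [hT]; simp)
  have hT1card : (O \ T).card = 4 := by
    rw [Finset.card_sdiff_of_subset hTO, octads_isOctadSystem.card_eq hO, hTcard]
  obtain ⟨e, he⟩ : (O \ T).Nonempty := Finset.card_pos.mp (by omega)
  rw [Finset.mem_sdiff] at he
  have heT : e ≠ a ∧ e ≠ g a ∧ e ≠ c ∧ e ≠ g c := by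
    have := he.2
    rw [hT] at this
    simp only [Finset.mem_insert, Finset.mem_singleton, not_or] at this
    exact this
  have hinj : Function.Injective ![a, g a, c, g c, e] :=
    injective_vec5 hga.symm (Ne.symm hc.1) hgca.symm heT.1.symm (Ne.symm hc.2) hgcga.symm heT.2.1.symm
      hgc.symm heT.2.2.1.symm heT.2.2.2.symm
  have hgeO : g e ∈ O := mem_of_image_eq hOg he.1
  have hgeT : g e ∉ T := by
    rw [apply_mem_iff_of_image_eq hTg]
    exact he.2
  have hgeT' : g e ≠ a ∧ g e ≠ g a ∧ g e ≠ c ∧ g e ≠ g c := by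
    rw [hT] at hgeT
    simp only [Finset.mem_insert, Finset.mem_singleton, not_or] at hgeT
    exact hgeT
  obtain ⟨k, hk, hka, hkb, -⟩ := exists_map_tuple6 _ hinj hO (by
      intro i; fin_cases i
      · exact haO
      · exact hgaO
      · exact hcO
      · exact hgcO
      · exact he.1) (g e) (by
      intro i; fin_cases i
      · exact hgeT'.1
      · exact hgeT'.2.1
      · exact hgeT'.2.2.1
      · exact hgeT'.2.2.2
      · exact hfpf e)
  have k0 : k a = none := hka 0
  have k1 : k (g a) = some 0 := hka 1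
  have k2 : k c = some 1 := hka 2
  have k3 : k (g c) = some 2 := hka 3
  have k4 : k e = some 3 := hka 4
  refine ⟨k, hk, ?_, ?_, ?_, ?_, ?_⟩
  · rw [← k0, conj_apply, k1]
  · rw [← k1, conj_apply, hgg, k0]
  · rw [← k2, conj_apply, k3]
  · rw [← k3, conj_apply, hgg, k2]
  · rw [← k4, conj_apply, hkb hgeO]

end Cfsg.Agent.Lib.Helper9.M24
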