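import Mathlib
import Cfsg.Prelude.Def_Sporadic_a
import Cfsg.Agent.Lib.Helper9.M24InvData
import Cfsg.Agent.Lib.Helper9.M24Norm2

set_option autoImplicit false
open Cfsg

/-! The two classes of involutions of the group of the code. -/

namespace Cfsg.Agent.Lib.Helper9.M24

open scoped Pointwise

theorem g2A_tabOK : tabOK g2A = true := by
  have := g2A_ok
  simp only [Bool.and_eq_true] at this
  exact this.1.1.1

theorem g2A_mem : tperm g2A ∈ M24 := by
  have := g2A_ok
  simp only [Bool.and_eq_true] at this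
  exact tperm_mem this.1.1.1 this.1.1.2

theorem g2A_fix : fixSet (tperm g2A) ∈ octads := by
  have := g2A_ok
  simp only [Bool.and_eq_true] at this
  exact fixSet_mem_octads this.1.1.1 this.2

theorem sq_of_isInvol {w : List ℕ} (h : tabOK w = true) (hi : isInvol w = true) : tperm w * tperm w = 1 := by
  apply Equiv.ext
  intro p
  apply natOfPt_injective
  rw [Equiv.Perm.mul_apply, natOfPt_tperm h, natOfPt_tperm h]
  unfold isInvol at hi
  rw [List.all_eq_true] at hi
  have := hi (natOfPt p) (List.mem_range.mpr (natOfPt_lt p))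
  rw [beq_iff_eq] at this
  rw [this]
  rfl

theorem g2A_sq : tperm g2A * tperm g2A = 1 := by
  have := g2A_ok
  simp only [Bool.and_eq_true] at this
  exact sq_of_isInvol this.1.1.1 this.1.2

theorem g2A_ne_one : tperm g2A ≠ 1 := by
  intro h
  have h1 := g2A_fix
  have h2 : fixSet (tperm g2A) = Finset.univ := by
    rw [h]
    apply Finset.ext
    intro p
    rw [mem_fixSet]
    simp
  rw [h2] at h1
  have := octads_isOctadSystem.card_eq h1
  rw [Finset.card_univ] at this
  revert this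
  decide

theorem g2B_tabOK : tabOK g2B = true := by
  have := g2B_ok
  simp only [Bool.and_eq_true] at this
  exact this.1.1.1

theorem g2B_mem : tperm g2B ∈ M24 := by
  have := g2B_ok
  simp only [Bool.and_eq_true] at this
  exact tperm_mem this.1.1.1 this.1.1.2

theorem g2B_sq : tperm g2B * tperm g2B = 1 := by
  have := g2B_ok
  simp only [Bool.and_eq_true] at this
  exact sq_of_isInvol this.1.1.1 this.1.2

theorem g2B_fpf : ∀ p, tperm g2B p ≠ p := by
  have := g2B_ok
  simp only [Bool.and_eq_true] at this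
  exact fpf_of_isFpf this.1.1.1 this.2

theorem conj_sq {k g : Equiv.Perm GolayPt} (h : g * g = 1) : (k * g * k⁻¹) * (k * g * k⁻¹) = 1 := by
  calc (k * g * k⁻¹) * (k * g * k⁻¹) = k * (g * g) * k⁻¹ := by group
    _ = 1 := by rw [h]; group

theorem conj_conj (k₁ k₂ g : Equiv.Perm GolayPt) :
    k₂ * (k₁ * g * k₁⁻¹) * k₂⁻¹ = (k₂ * k₁) * g * (k₂ * k₁)⁻¹ := by group

theorem conj_mem {k g : Equiv.Perm GolayPt} (hk : k ∈ M24) (hg : g ∈ M24) : k * g * k⁻¹ ∈ M24 :=
  Subgroup.mul_mem _ (Subgroup.mul_mem _ hk hg) (Subgroup.inv_mem _ hk)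

/-- Every involution with a fixed point is conjugate to the representative `g2A`. -/
theorem invol_conj_2A {g : Equiv.Perm GolayPt} (hg : g ∈ M24) (h2 : g * g = 1) (hne : g ≠ 1)
    {a : GolayPt} (ha : g a = a) : ∃ k ∈ M24, k * g * k⁻¹ = tperm g2A := by
  obtain ⟨k₁, hk₁, e0, e1, e2, e3, e4⟩ := invol_fixed_normal_form hg h2 hne ha
  have hg' : k₁ * g * k₁⁻¹ ∈ M24 := conj_mem hk₁ hg
  have hsq := conj_sq (k := k₁) h2
  rcases e4 with e4 | e4
  · obtain ⟨f, hf, hok, hgf⟩ := pattern_cases uInvA_ok hg' (by rw [e0]; rfl) (by rw [e1]; rfl)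
      (by rw [e2]; rfl) (by rw [e3]; rfl) (by rw [e4]; rfl)
    have hinv : isInvol (tmul uInvA f) = true := isInvol_of_sq hok (by rw [← hgf]; exact hsq)
    have hfact := invFactA
    rw [List.all_eq_true] at hfact
    have h3 := hfact f hf
    rw [hinv] at h3
    simp only [Bool.not_true, Bool.false_or] at h3
    obtain ⟨k₂, hk₂, hconj⟩ := conjAny_spec hok g2A_tabOK h3
    refine ⟨k₂ * k₁, Subgroup.mul_mem _ hk₂ hk₁, ?_⟩
    rw [← conj_conj, hgf, hconj]
  · obtain ⟨f, hf, hok, hgf⟩ := pattern_cases uInvB_ok hg' (by rw [e0]; rfl) (by rw [e1]; rfl)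
      (by rw [e2]; rfl) (by rw [e3]; rfl) (by rw [e4]; rfl)
    have hinv : isInvol (tmul uInvB f) = true := isInvol_of_sq hok (by rw [← hgf]; exact hsq)
    have hfact := invFactB
    rw [List.all_eq_true] at hfact
    have h3 := hfact f hf
    rw [hinv] at h3
    simp only [Bool.not_true, Bool.false_or] at h3
    obtain ⟨k₂, hk₂, hconj⟩ := conjAny_spec hok g2A_tabOK h3
    refine ⟨k₂ * k₁, Subgroup.mul_mem _ hk₂ hk₁, ?_⟩
    rw [← conj_conj, hgf, hconj]

/-- Every fixed-point-free involution is conjugate to the representative `g2B`. -/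
theorem invol_conj_2B {g : Equiv.Perm GolayPt} (hg : g ∈ M24) (h2 : g * g = 1)
    (hfpf : ∀ p, g p ≠ p) : ∃ k ∈ M24, k * g * k⁻¹ = tperm g2B := by
  obtain ⟨k₁, hk₁, e0, e1, e2, e3, e4⟩ := invol_fpf_normal_form hg h2 hfpf
  have hg' : k₁ * g * k₁⁻¹ ∈ M24 := conj_mem hk₁ hg
  have hsq := conj_sq (k := k₁) h2
  have hfpf' : ∀ p, (k₁ * g * k₁⁻¹) p ≠ p := by
    intro p hp
    apply hfpf (k₁⁻¹ p)
    have : k₁⁻¹ ((k₁ * g * k₁⁻¹) p) = k₁⁻¹ p := by rw [hp]
    simpa using this
  obtain ⟨f, hf, hok, hgf⟩ := pattern_cases uInvC_ok hg' (by rw [e0]; rfl) (by rw [e1]; rfl)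
    (by rw [e2]; rfl) (by rw [e3]; rfl) (by rw [e4]; rfl)
  have hinv : isInvol (tmul uInvC f) = true := isInvol_of_sq hok (by rw [← hgf]; exact hsq)
  have hfp : isFpf (tmul uInvC f) = true := isFpf_of_fpf hok (by rw [← hgf]; exact hfpf')
  have hfact := invFactC
  rw [List.all_eq_true] at hfact
  have h3 := hfact f hf
  rw [hinv, hfp] at h3
  simp only [Bool.and_self, Bool.not_true, Bool.false_or] at h3
  obtain ⟨k₂, hk₂, hconj⟩ := conjAny_spec hok g2B_tabOK h3
  refine ⟨k₂ * k₁, Subgroup.mul_mem _ hk₂ hk₁, ?_⟩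
  rw [← conj_conj, hgf, hconj]

/-- The fixed points of an involution with a fixed point form an octad. -/
theorem invol_fixSet_mem_octads {g : Equiv.Perm GolayPt} (hg : g ∈ M24) (h2 : g * g = 1) (hne : g ≠ 1)
    {a : GolayPt} (ha : g a = a) : fixSet g ∈ octads := by
  obtain ⟨k, hk, hconj⟩ := invol_conj_2A hg h2 hne ha
  have h1 : fixSet (tperm g2A) = (fixSet g).image k := by rw [← hconj, fixSet_conj]
  have h2 := g2A_fix
  rw [h1] at h2
  exact (image_mem_octads_iff hk _).mp h2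

end Cfsg.Agent.Lib.Helper9.M24
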