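import Mathlib
import Cfsg.Prelude.Def_Sporadic_a
import Cfsg.Agent.Lib.Helper9.M24Norm2

set_option autoImplicit false
open Cfsg

/-! Normal forms of elements of order 3 on the five base points. -/

namespace Cfsg.Agent.Lib.Helper9.M24

open scoped Pointwise

theorem cube_apply {g : Equiv.Perm GolayPt} (h3 : g * g * g = 1) (p : GolayPt) : g (g (g p)) = p := by
  have := congrArg (fun f : Equiv.Perm GolayPt => f p) h3
  simpa using this

theorem cube_pow {g : Equiv.Perm GolayPt} (h3 : g * g * g = 1) : g ^ 3 ^ 1 = 1 := by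
  rw [pow_one, pow_succ, pow_two]; exact h3

/-- The orbit of a moved point under an element of order 3 consists of three distinct points. -/
theorem orbit3_distinct {g : Equiv.Perm GolayPt} (h3 : g * g * g = 1) {x : GolayPt} (hx : g x ≠ x) :
    g (g x) ≠ x ∧ g (g x) ≠ g x := by
  constructor
  · intro h
    apply hx
    have := cube_apply h3 x
    rw [h] at this
    exact this
  · intro h
    exact hx (g.injective h)

/-- Normal form of an element of order 3 with a fixed point. -/
theorem ord3_fixed_normal_form {g : Equiv.Perm GolayPt} (hg : g ∈ M24) (h3 : g * g * g = 1) (hne : g ≠ 1)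
    {a : GolayPt} (ha : g a = a) :
    ∃ k ∈ M24, (k * g * k⁻¹) none = none ∧ (k * g * k⁻¹) (some 0) = some 1 ∧
      (k * g * k⁻¹) (some 1) = some 2 ∧ (k * g * k⁻¹) (some 2) = some 0 ∧
      (k * g * k⁻¹) (some 3) = some 3 := by
  have hggg := cube_apply h3
  have hg3 := cube_pow h3
  haveI : Fact (Nat.Prime 3) := ⟨Nat.prime_three⟩
  obtain ⟨x, hx⟩ : ∃ x, g x ≠ x := by
    by_contra hcon
    push Not at hcon
    exact hne (Equiv.ext hcon)
  obtain ⟨hx2, hx3⟩ := orbit3_distinct h3 hx
  have hxa : x ≠ a := fun h => hx (by rw [h, ha])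
  have hgxa : g x ≠ a := fun h => hxa (g.injective (by rw [h, ha]))
  have hggxa : g (g x) ≠ a := fun h => hgxa (g.injective (by rw [h, ha]))
  set T : Finset GolayPt := {a, x, g x, g (g x)} with hT
  have hTcard : T.card = 4 := card_four hxa.symm hgxa.symm hggxa.symm hx.symm hx2.symm hx3.symm
  have hTg : T.image g = T := by
    rw [hT]
    simp only [Finset.image_insert, Finset.image_singleton, ha, hggg]
    apply Finset.ext
    intro p
    simp only [Finset.mem_insert, Finset.mem_singleton]
    tauto
  obtain ⟨O, hO, hTO, hOg⟩ := exists_invariant_octad hg 3 1 (by decide) hg3 hTcard hTg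
  have hT1card : (O \ T).card = 4 := by
    rw [Finset.card_sdiff_of_subset hTO, octads_isOctadSystem.card_eq hO, hTcard]
  obtain ⟨z, hz, hgz⟩ := exists_fixed_of_prime_pow g 3 1 hg3 (O \ T) (by
      intro y
      rw [Finset.mem_sdiff, Finset.mem_sdiff, apply_mem_iff_of_image_eq hOg, apply_mem_iff_of_image_eq hTg])
    (by rw [hT1card]; decide)
  rw [Finset.mem_sdiff] at hz
  have hzT : z ≠ a ∧ z ≠ x ∧ z ≠ g x ∧ z ≠ g (g x) := by
    have := hz.2
    rw [hT] at this
    simp only [Finset.mem_insert, Finset.mem_singleton, not_or] at this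
    exact this
  have hinj : Function.Injective ![a, x, g x, g (g x), z] :=
    injective_vec5 hxa.symm hgxa.symm hggxa.symm hzT.1.symm hx.symm hx2.symm hzT.2.1.symm hx3.symm
      hzT.2.2.1.symm hzT.2.2.2.symm
  obtain ⟨k, hk, hka⟩ := exists_map_tuple5 _ hinj
  have k0 : k a = none := hka 0
  have k1 : k x = some 0 := hka 1
  have k2 : k (g x) = some 1 := hka 2
  have k3 : k (g (g x)) = some 2 := hka 3
  have k4 : k z = some 3 := hka 4
  refine ⟨k, hk, ?_, ?_, ?_, ?_, ?_⟩
  · rw [← k0, conj_apply, ha]
  · rw [← k1, conj_apply, k2]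
  · rw [← k2, conj_apply, k3]
  · rw [← k3, conj_apply, hggg, k1]
  · rw [← k4, conj_apply, hgz]

/-- Normal form of a fixed-point-free element of order 3. -/
theorem ord3_fpf_normal_form {g : Equiv.Perm GolayPt} (hg : g ∈ M24) (h3 : g * g * g = 1)
    (hfpf : ∀ p, g p ≠ p) :
    ∃ k ∈ M24, (k * g * k⁻¹) none = some 0 ∧ (k * g * k⁻¹) (some 0) = some 1 ∧
      (k * g * k⁻¹) (some 1) = none ∧ (k * g * k⁻¹) (some 2) = some 3 ∧
      (k * g * k⁻¹) (some 3) = some 4 := by
  have hggg := cube_apply h3
  have hg3 := cube_pow h3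
  haveI : Fact (Nat.Prime 3) := ⟨Nat.prime_three⟩
  obtain ⟨a, -⟩ : ∃ a : GolayPt, True := ⟨none, trivial⟩
  have hga : g a ≠ a := hfpf a
  obtain ⟨ha2, ha3⟩ := orbit3_distinct h3 hga
  obtain ⟨b, hb⟩ := exists_not_mem_of_card_le (s := {a, g a, g (g a)}) (by
    refine le_trans (Finset.card_insert_le _ _) ?_
    refine le_trans (Nat.succ_le_succ (Finset.card_insert_le _ _)) ?_
    rw [Finset.card_singleton]
    norm_num)
  simp only [Finset.mem_insert, Finset.mem_singleton, not_or] at hb
  obtain ⟨hba, hbga, hbgga⟩ := hb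
  have hgb : g b ≠ b := hfpf b
  obtain ⟨hb2, hb3⟩ := orbit3_distinct h3 hgb
  -- the two orbits are disjoint
  have hgba : g b ≠ a := fun h => hbgga (by rw [← hggg b, h])
  have hgbga : g b ≠ g a := fun h => hba (g.injective h)
  have hgbgga : g b ≠ g (g a) := fun h => hbga (g.injective h)
  have hggba : g (g b) ≠ a := fun h => hbga (by rw [← hggg b, h])
  have hggbga : g (g b) ≠ g a := fun h => hgba (g.injective h)
  have hggbgga : g (g b) ≠ g (g a) := fun h => hgbga (g.injective h)
  have hinj : Function.Injective ![a, g a, g (g a), b, g b] :=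
    injective_vec5 hga.symm ha2.symm (Ne.symm hba) hgba.symm ha3.symm (Ne.symm hbga) hgbga.symm
      (Ne.symm hbgga) hgbgga.symm hgb.symm
  -- the octad through the five points
  obtain ⟨O, hO, hsO⟩ := octads_isOctadSystem.exists_block ({a, g a, g (g a), b, g b} : Finset GolayPt) (by
    rw [Finset.card_insert_of_notMem, card_four ha3.symm (Ne.symm hbga) hgbga.symm (Ne.symm hbgga)
      hgbgga.symm hgb.symm]
    simp only [Finset.mem_insert, Finset.mem_singleton, not_or]
    exact ⟨hga.symm, ha2.symm, Ne.symm hba, hgba.symm⟩)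
  have haO : a ∈ O := hsO (by simp)
  have hgaO : g a ∈ O := hsO (by simp)
  have hggaO : g (g a) ∈ O := hsO (by simp)
  have hbO : b ∈ O := hsO (by simp)
  have hgbO : g b ∈ O := hsO (by simp)
  have hggbO : g (g b) ∉ O := by
    intro hin
    have himg : O.image g = O := by
      refine octad_image_eq_of_maps hg hO hsO ?_ ?_
      · rw [Finset.card_insert_of_notMem, card_four ha3.symm (Ne.symm hbga) hgbga.symm (Ne.symm hbgga)
          hgbgga.symm hgb.symm]
        simp only [Finset.mem_insert, Finset.mem_singleton, not_or]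
        exact ⟨hga.symm, ha2.symm, Ne.symm hba, hgba.symm⟩
      · intro p hp
        simp only [Finset.mem_insert, Finset.mem_singleton] at hp
        rcases hp with rfl | rfl | rfl | rfl | rfl
        · exact hgaO
        · exact hggaO
        · rw [hggg]; exact haO
        · exact hgbO
        · exact hin
    obtain ⟨z, -, hgz⟩ := exists_fixed_of_prime_pow g 3 1 hg3 O (apply_mem_iff_of_image_eq himg)
      (by rw [octads_isOctadSystem.card_eq hO]; decide)
    exact hfpf z hgz
  obtain ⟨k, hk, hka, -, hkb⟩ := exists_map_tuple6 _ hinj hO (by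
      intro i; fin_cases i
      · exact haO
      · exact hgaO
      · exact hggaO
      · exact hbO
      · exact hgbO) (g (g b)) (by
      intro i; fin_cases i
      · exact hggba
      · exact hggbga
      · exact hggbgga
      · exact hb2
      · exact hb3)
  have k0 : k a = none := hka 0
  have k1 : k (g a) = some 0 := hka 1
  have k2 : k (g (g a)) = some 1 := hka 2
  have k3 : k b = some 2 := hka 3
  have k4 : k (g b) = some 3 := hka 4
  refine ⟨k, hk, ?_, ?_, ?_, ?_, ?_⟩
  · rw [← k0, conj_apply, k1]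
  · rw [← k1, conj_apply, k2]
  · rw [← k2, conj_apply, hggg, k0]
  · rw [← k3, conj_apply, k4]
  · rw [← k4, conj_apply, hkb hggbO]

end Cfsg.Agent.Lib.Helper9.M24
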