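import Mathlib
import Cfsg.Prelude.Def_Sporadic_a
import Cfsg.Agent.Lib.Helper9.M24InvData

set_option autoImplicit false
open Cfsg

/-! Data for the classification of the elements of order 3 of the group of the code. (Generated.) -/

namespace Cfsg.Agent.Lib.Helper9.M24

/-- Pattern element: fixes `∞, 3`, cycles `0, 1, 2`. -/
def uO3A : List ℕ := [1, 2, 0, 3, 21, 5, 9, 20, 12, 22, 13, 11, 18, 19, 14, 4, 7, 17, 8, 10, 16, 15, 6, 23]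

/-- Pattern element: cycles `∞, 0, 1` and maps `2, 3` to `3, 4`. -/
def uO3B : List ℕ := [1, 23, 3, 4, 22, 20, 14, 5, 18, 8, 10, 16, 9, 21, 11, 6, 15, 19, 7, 2, 13, 17, 12, 0]

/-- Pattern element: swaps `∞, 0` and `1, 2`, and maps `3` to `4`. -/
def uC68 : List ℕ := [23, 2, 1, 4, 20, 13, 14, 5, 19, 11, 12, 7, 21, 15, 16, 8, 10, 22, 6, 17, 18, 3, 9, 0]

/-- Representative element of order 3 with six fixed points. -/
def g3A : List ℕ := [1, 2, 0, 3, 21, 5, 9, 20, 12, 22, 13, 11, 18, 19, 14, 4, 7, 17, 8, 10, 16, 15, 6, 23]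

/-- Representative fixed-point-free element of order 3. -/
def g3B : List ℕ := [1, 23, 3, 4, 2, 20, 21, 15, 10, 7, 18, 13, 6, 14, 11, 9, 5, 19, 8, 22, 16, 12, 17, 0]

def conj3A : List (List ℕ) :=
  [[0, 1, 2, 3, 4, 5, 6, 7, 8, 9, 10, 11, 12, 13, 14, 15, 16, 17, 18, 19, 20, 21, 22, 23],
   [15, 4, 21, 23, 9, 3, 7, 16, 8, 22, 1, 2, 19, 0, 11, 18, 12, 14, 6, 17, 13, 20, 10, 5],
   [13, 19, 10, 11, 8, 5, 14, 4, 18, 1, 6, 2, 20, 16, 23, 7, 22, 3, 9, 15, 12, 21, 0, 17],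
   [21, 15, 4, 23, 18, 14, 22, 12, 13, 2, 17, 7, 8, 16, 5, 0, 6, 3, 9, 20, 1, 19, 10, 11],
   [19, 10, 13, 11, 21, 3, 18, 9, 0, 7, 12, 22, 16, 4, 5, 1, 14, 23, 8, 2, 6, 20, 15, 17],
   [16, 7, 20, 14, 0, 23, 10, 21, 12, 19, 18, 13, 6, 1, 17, 4, 2, 3, 15, 22, 9, 8, 5, 11],
   [1, 2, 0, 23, 7, 17, 15, 19, 18, 9, 6, 20, 21, 4, 14, 11, 12, 5, 13, 8, 22, 16, 10, 3],
   [16, 7, 20, 11, 18, 23, 2, 4, 15, 5, 19, 1, 9, 21, 3, 13, 6, 17, 8, 12, 10, 22, 0, 14],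
   [2, 0, 1, 14, 22, 3, 12, 15, 20, 9, 18, 16, 7, 10, 17, 4, 8, 23, 11, 6, 19, 13, 21, 5],
   [18, 8, 12, 11, 23, 5, 13, 1, 19, 16, 0, 4, 2, 9, 14, 21, 6, 17, 20, 7, 10, 15, 22, 3],
   [10, 13, 19, 11, 2, 17, 4, 0, 12, 20, 1, 8, 14, 15, 5, 21, 16, 3, 18, 9, 22, 7, 6, 23],
   [10, 13, 19, 5, 12, 11, 8, 2, 18, 9, 22, 1, 4, 20, 23, 6, 0, 17, 16, 21, 14, 7, 15, 3],
   [16, 7, 20, 11, 2, 3, 12, 5, 4, 15, 0, 6, 1, 21, 14, 19, 9, 17, 10, 18, 22, 8, 13, 23],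
   [19, 10, 13, 5, 15, 23, 18, 9, 22, 6, 1, 0, 8, 14, 11, 12, 4, 3, 16, 2, 7, 20, 21, 17],
   [10, 13, 19, 17, 16, 23, 9, 22, 12, 2, 8, 20, 0, 4, 11, 7, 1, 5, 15, 6, 21, 14, 18, 3],
   [8, 12, 18, 17, 6, 5, 9, 0, 23, 1, 20, 19, 13, 2, 3, 21, 15, 11, 10, 4, 22, 7, 16, 14],
   [15, 4, 21, 5, 8, 16, 9, 6, 13, 0, 2, 10, 19, 23, 7, 1, 18, 20, 14, 22, 11, 3, 12, 17],
   [4, 21, 15, 23, 2, 18, 19, 10, 5, 9, 22, 16, 7, 0, 8, 3, 11, 12, 20, 14, 6, 13, 1, 17],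
   [9, 22, 6, 14, 5, 13, 1, 11, 12, 4, 17, 18, 23, 7, 19, 15, 20, 10, 8, 0, 21, 2, 16, 3],
   [22, 6, 9, 23, 16, 18, 11, 0, 15, 14, 10, 17, 21, 20, 8, 13, 7, 12, 4, 1, 19, 2, 5, 3],
   [13, 19, 10, 14, 22, 21, 5, 3, 12, 20, 9, 7, 6, 0, 4, 18, 8, 15, 1, 23, 2, 11, 16, 17],
   [13, 19, 10, 14, 17, 9, 12, 15, 7, 18, 4, 8, 21, 11, 6, 16, 5, 22, 2, 20, 1, 0, 23, 3],
   [15, 4, 21, 17, 19, 2, 16, 10, 9, 5, 14, 7, 13, 12, 1, 3, 22, 0, 8, 6, 23, 18, 20, 11],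
   [0, 1, 2, 11, 20, 15, 13, 7, 3, 10, 16, 14, 5, 12, 21, 6, 22, 4, 23, 9, 18, 8, 19, 17]]

def conj3B : List (List ℕ) :=
  [[0, 1, 2, 3, 4, 5, 6, 7, 8, 9, 10, 11, 12, 13, 14, 15, 16, 17, 18, 19, 20, 21, 22, 23],
   [12, 6, 23, 0, 1, 14, 19, 4, 15, 22, 17, 11, 9, 16, 8, 7, 18, 5, 2, 10, 20, 3, 13, 21],
   [11, 13, 16, 5, 20, 12, 19, 17, 22, 15, 8, 0, 9, 21, 2, 10, 1, 23, 7, 6, 3, 18, 4, 14]]

theorem uO3A_ok : patOK uO3A = true := by decide +kernel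
theorem uO3B_ok : patOK uO3B = true := by decide +kernel
theorem uC68_ok : patOK uC68 = true := by decide +kernel

theorem g3A_ok : (tabOK g3A && tabM24 g3A && isOrd3 g3A && (Cfsg.Agent.Lib.Helper1.popcN 24 (fixMask g3A) == 6)) = true := by
  decide +kernel
theorem g3B_ok : (tabOK g3B && tabM24 g3B && isOrd3 g3B && isFpf g3B) = true := by decide +kernel

theorem o3FactA : (F48.all fun f => !(isOrd3 (tmul uO3A f)) || conjAny conj3A (tmul uO3A f) g3A) = true := by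
  decide +kernel

theorem o3FactB : (F48.all fun f => !(isOrd3 (tmul uO3B f) && isFpf (tmul uO3B f)) ||
    conjAny conj3B (tmul uO3B f) g3B) = true := by
  decide +kernel

/-- No involution with the pattern `uC68` commutes with a nontrivial element of the list fixing the point `4`. -/
theorem c68Fact : (F48.all fun f => !(tget f 4 == 4) || (f == (List.range 24)) ||
    F48.all fun f' => !(isInvol (tmul uC68 f')) || !(commOK (tmul uC68 f') f)) = true := by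
  decide +kernel

end Cfsg.Agent.Lib.Helper9.M24
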