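import Mathlib
import Cfsg.Prelude.Def_Sporadic_a
import Cfsg.Agent.Lib.Helper9.M24Ord3Data
import Cfsg.Agent.Lib.Helper9.M24Norm3
import Cfsg.Agent.Lib.Helper9.M24Inv

set_option autoImplicit false
open Cfsg

/-! The two classes of elements of order 3 of the group of the code. -/

namespace Cfsg.Agent.Lib.Helper9.M24

open scoped Pointwise

theorem cube_of_isOrd3 {w : List ℕ} (h : tabOK w = true) (hi : isOrd3 w = true) :
    tperm w * tperm w * tperm w = 1 := by
  apply Equiv.ext
  intro p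
  apply natOfPt_injective
  rw [Equiv.Perm.mul_apply, Equiv.Perm.mul_apply, natOfPt_tperm h, natOfPt_tperm h, natOfPt_tperm h]
  unfold isOrd3 at hi
  rw [List.all_eq_true] at hi
  have := hi (natOfPt p) (List.mem_range.mpr (natOfPt_lt p))
  rw [beq_iff_eq] at this
  rw [this]
  rfl

theorem g3A_tabOK : tabOK g3A = true := by
  have := g3A_ok
  simp only [Bool.and_eq_true] at this
  exact this.1.1.1

theorem g3A_mem : tperm g3A ∈ M24 := by
  have := g3A_ok
  simp only [Bool.and_eq_true] at this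
  exact tperm_mem this.1.1.1 this.1.1.2

theorem g3A_cube : tperm g3A * tperm g3A * tperm g3A = 1 := by
  have := g3A_ok
  simp only [Bool.and_eq_true] at this
  exact cube_of_isOrd3 this.1.1.1 this.1.2

theorem g3A_card_fix : (fixSet (tperm g3A)).card = 6 := by
  have := g3A_ok
  simp only [Bool.and_eq_true, beq_iff_eq] at this
  rw [card_fixSet_tperm this.1.1.1, this.2]

theorem g3A_ne_one : tperm g3A ≠ 1 := by
  intro h
  have h1 := g3A_card_fix
  have h2 : fixSet (tperm g3A) = Finset.univ := by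
    rw [h]
    apply Finset.ext
    intro p
    rw [mem_fixSet]
    simp
  rw [h2, Finset.card_univ] at h1
  revert h1
  decide

theorem g3B_tabOK : tabOK g3B = true := by
  have := g3B_ok
  simp only [Bool.and_eq_true] at this
  exact this.1.1.1

theorem g3B_mem : tperm g3B ∈ M24 := by
  have := g3B_ok
  simp only [Bool.and_eq_true] at this
  exact tperm_mem this.1.1.1 this.1.1.2

theorem g3B_cube : tperm g3B * tperm g3B * tperm g3B = 1 := by
  have := g3B_ok
  simp only [Bool.and_eq_true] at this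
  exact cube_of_isOrd3 this.1.1.1 this.1.2

theorem g3B_fpf : ∀ p, tperm g3B p ≠ p := by
  have := g3B_ok
  simp only [Bool.and_eq_true] at this
  exact fpf_of_isFpf this.1.1.1 this.2

theorem conj_cube {k g : Equiv.Perm GolayPt} (h : g * g * g = 1) :
    (k * g * k⁻¹) * (k * g * k⁻¹) * (k * g * k⁻¹) = 1 := by
  calc (k * g * k⁻¹) * (k * g * k⁻¹) * (k * g * k⁻¹) = k * (g * g * g) * k⁻¹ := by group
    _ = 1 := by rw [h]; group

theorem conj_fpf {k g : Equiv.Perm GolayPt} (hfpf : ∀ p, g p ≠ p) : ∀ p, (k * g * k⁻¹) p ≠ p := by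
  intro p hp
  apply hfpf (k⁻¹ p)
  have : k⁻¹ ((k * g * k⁻¹) p) = k⁻¹ p := by rw [hp]
  simpa using this

/-- Every element of order 3 with a fixed point is conjugate to the representative `g3A`. -/
theorem ord3_conj_3A {g : Equiv.Perm GolayPt} (hg : g ∈ M24) (h3 : g * g * g = 1) (hne : g ≠ 1)
    {a : GolayPt} (ha : g a = a) : ∃ k ∈ M24, k * g * k⁻¹ = tperm g3A := by
  obtain ⟨k₁, hk₁, e0, e1, e2, e3, e4⟩ := ord3_fixed_normal_form hg h3 hne ha
  have hg' : k₁ * g * k₁⁻¹ ∈ M24 := conj_mem hk₁ hg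
  have hcube := conj_cube (k := k₁) h3
  obtain ⟨f, hf, hok, hgf⟩ := pattern_cases uO3A_ok hg' (by rw [e0]; rfl) (by rw [e1]; rfl)
    (by rw [e2]; rfl) (by rw [e3]; rfl) (by rw [e4]; rfl)
  have hord : isOrd3 (tmul uO3A f) = true := isOrd3_of_cube hok (by rw [← hgf]; exact hcube)
  have hfact := o3FactA
  rw [List.all_eq_true] at hfact
  have h3' := hfact f hf
  rw [hord] at h3'
  simp only [Bool.not_true, Bool.false_or] at h3'
  obtain ⟨k₂, hk₂, hconj⟩ := conjAny_spec hok g3A_tabOK h3'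
  refine ⟨k₂ * k₁, Subgroup.mul_mem _ hk₂ hk₁, ?_⟩
  rw [← conj_conj, hgf, hconj]

/-- Every fixed-point-free element of order 3 is conjugate to the representative `g3B`. -/
theorem ord3_conj_3B {g : Equiv.Perm GolayPt} (hg : g ∈ M24) (h3 : g * g * g = 1)
    (hfpf : ∀ p, g p ≠ p) : ∃ k ∈ M24, k * g * k⁻¹ = tperm g3B := by
  obtain ⟨k₁, hk₁, e0, e1, e2, e3, e4⟩ := ord3_fpf_normal_form hg h3 hfpf
  have hg' : k₁ * g * k₁⁻¹ ∈ M24 := conj_mem hk₁ hg
  have hcube := conj_cube (k := k₁) h3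
  have hfpf' := conj_fpf (k := k₁) hfpf
  obtain ⟨f, hf, hok, hgf⟩ := pattern_cases uO3B_ok hg' (by rw [e0]; rfl) (by rw [e1]; rfl)
    (by rw [e2]; rfl) (by rw [e3]; rfl) (by rw [e4]; rfl)
  have hord : isOrd3 (tmul uO3B f) = true := isOrd3_of_cube hok (by rw [← hgf]; exact hcube)
  have hfp : isFpf (tmul uO3B f) = true := isFpf_of_fpf hok (by rw [← hgf]; exact hfpf')
  have hfact := o3FactB
  rw [List.all_eq_true] at hfact
  have h3' := hfact f hf
  rw [hord, hfp] at h3'
  simp only [Bool.and_self, Bool.not_true, Bool.false_or] at h3'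
  obtain ⟨k₂, hk₂, hconj⟩ := conjAny_spec hok g3B_tabOK h3'
  refine ⟨k₂ * k₁, Subgroup.mul_mem _ hk₂ hk₁, ?_⟩
  rw [← conj_conj, hgf, hconj]

/-- An element of order 3 with a fixed point has exactly six fixed points. -/
theorem ord3_card_fixSet {g : Equiv.Perm GolayPt} (hg : g ∈ M24) (h3 : g * g * g = 1) (hne : g ≠ 1)
    {a : GolayPt} (ha : g a = a) : (fixSet g).card = 6 := by
  obtain ⟨k, hk, hconj⟩ := ord3_conj_3A hg h3 hne ha
  have h1 : fixSet (tperm g3A) = (fixSet g).image k := by rw [← hconj, fixSet_conj]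
  have h2 := g3A_card_fix
  rw [h1, Finset.card_image_of_injective _ k.injective] at h2
  exact h2

end Cfsg.Agent.Lib.Helper9.M24
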