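import Mathlib
import Cfsg.Prelude
import Cfsg.Agent.Lib.Helper6.ODec0

set_option autoImplicit false

/-! # S5677 PK-KLC4: case (b), nonsingular component, `k ≥ 4`: `D_j ∩ a^⊥ ⊆ X_w`. -/

namespace Cfsg.Agent.Lib.Helper6.ODec

open Matrix Module Cfsg.Agent.H9Orth Cfsg.Agent.Lib.Helper2.ReflGen Cfsg.Agent.Lib.Helper2.CDG
  Cfsg.Agent.Lib.Helper2.LongRoot

variable {F : Type*} [Field F] [Fintype F] {ι : Type} [Fintype ι] [DecidableEq ι]
variable {Q : QuadraticForm F (ι → F)} {t k : ℕ} {D : Fin t → Submodule F (ι → F)}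
  {M : Subgroup (Matrix.GeneralLinearGroup ι F)}

/-- the subspace `D_j ∩ a^⊥` -/
abbrev klc4_W (Q : QuadraticForm F (ι → F)) (D : Fin t → Submodule F (ι → F)) (j : Fin t)
    (a : ι → F) : Submodule F (ι → F) :=
  D j ⊓ perpS Q (Submodule.span F {a})

omit [Fintype F] in
theorem klc4_mem_W {j : Fin t} {a x : ι → F} :
    x ∈ klc4_W Q D j a ↔ x ∈ D j ∧ QuadraticMap.polar (⇑Q) a x = 0 := by
  unfold klc4_W
  rw [Submodule.mem_inf, mem_perpS]
  constructor
  · rintro ⟨h1, h2⟩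
    exact ⟨h1, h2 a (Submodule.mem_span_singleton_self a)⟩
  · rintro ⟨h1, h2⟩
    refine ⟨h1, fun w hw => ?_⟩
    obtain ⟨r, rfl⟩ := Submodule.mem_span_singleton.1 hw
    rw [QuadraticMap.polar_smul_left, h2, smul_zero]

omit [Fintype F] in
/-- projection of a block vector to `D_j ∩ a^⊥` -/
theorem klc4_proj (c : Ctx Q k D M) {j : Fin t} {a y : ι → F} (ha : a ∈ D j) (hQa : Q a ≠ 0)
    (hy : y ∈ D j) :
    y - ((QuadraticMap.polar (⇑Q) a a)⁻¹ * QuadraticMap.polar (⇑Q) a y) • a ∈ klc4_W Q D j a := by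
  have haa : QuadraticMap.polar (⇑Q) a a ≠ 0 := by
    rw [polar_self]
    exact mul_ne_zero c.h2 hQa
  rw [klc4_mem_W]
  refine ⟨(D j).sub_mem hy ((D j).smul_mem _ ha), ?_⟩
  rw [QuadraticMap.polar_sub_right, QuadraticMap.polar_smul_right, smul_eq_mul]
  field_simp
  ring

omit [Fintype F] in
theorem klc4_nondeg (c : Ctx Q k D M) {j : Fin t} {a : ι → F} (ha : a ∈ D j) (hQa : Q a ≠ 0) :
    Cfsg.Geo.IsNondegenerateOn (QuadraticMap.polar (⇑Q)) (klc4_W Q D j a) := by
  intro w hw hw0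
  obtain ⟨hwD, haw⟩ := klc4_mem_W.1 hw
  obtain ⟨⟨y, hy, hyw⟩, -⟩ := c.hD.decomp.nondegenerate j w hwD hw0
  have hx := klc4_proj c ha hQa hy
  have key : QuadraticMap.polar (⇑Q)
      (y - ((QuadraticMap.polar (⇑Q) a a)⁻¹ * QuadraticMap.polar (⇑Q) a y) • a) w ≠ 0 := by
    rw [QuadraticMap.polar_sub_left, QuadraticMap.polar_smul_left, haw, smul_zero, sub_zero]
    exact hyw
  refine ⟨⟨_, hx, key⟩, ⟨_, hx, ?_⟩⟩
  rw [QuadraticMap.polar_comm]
  exact key

theorem klc4_finrank (c : Ctx Q k D M) (hQ : (QuadraticMap.polarBilin Q).Nondegenerate)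
    {j : Fin t} {a : ι → F} (hQa : Q a ≠ 0) :
    k ≤ finrank F (klc4_W Q D j a) + 1 := by
  -- `span {a}` is nondegenerate
  have hnd : Cfsg.Geo.IsNondegenerateOn (QuadraticMap.polar (⇑Q)) (Submodule.span F {a}) := by
    intro w hw hw0
    obtain ⟨r, rfl⟩ := Submodule.mem_span_singleton.1 hw
    have hr : r ≠ 0 := by
      rintro rfl
      exact hw0 (zero_smul F a)
    have haa : QuadraticMap.polar (⇑Q) a a ≠ 0 := by
      rw [polar_self]
      exact mul_ne_zero c.h2 hQa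
    have h1 : QuadraticMap.polar (⇑Q) a (r • a) ≠ 0 := by
      rw [QuadraticMap.polar_smul_right, smul_eq_mul]
      exact mul_ne_zero hr haa
    refine ⟨⟨a, Submodule.mem_span_singleton_self a, h1⟩,
      ⟨a, Submodule.mem_span_singleton_self a, ?_⟩⟩
    rw [QuadraticMap.polar_comm]
    exact h1
  have hs : finrank F (Submodule.span F {a}) + finrank F (perpS Q (Submodule.span F {a})) =
      Fintype.card ι := (orthSplit_of_nondeg (Submodule.span F {a}) hnd).finrank_add hQ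
  have h1 : finrank F (Submodule.span F {a}) ≤ 1 := by
    have := finrank_span_le_card (R := F) ({a} : Set (ι → F))
    simpa using this
  have h2 := Submodule.finrank_sup_add_finrank_inf_eq (D j) (perpS Q (Submodule.span F {a}))
  have h3 : finrank F ↥(D j ⊔ perpS Q (Submodule.span F {a})) ≤ Fintype.card ι := by
    have := Submodule.finrank_le (D j ⊔ perpS Q (Submodule.span F {a}))
    rwa [Module.finrank_fintype_fun_eq_card] at this
  have h4 := c.finrank_eq j
  show k ≤ finrank F ↥(D j ⊓ perpS Q (Submodule.span F {a})) + 1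
  omega

/-- **PK-KLC4** (case (b), nonsingular component, `k ≥ 4`): `W = D_j ∩ a^⊥ ⊆ X_w`. -/
theorem pk_klc4 (hQ : (QuadraticMap.polarBilin Q).Nondegenerate)
    (c : Ctx Q k D M) (hk4 : 4 ≤ k) {j : Fin t} {a b z : ι → F} (ha : a ∈ D j)
    (hb : b ∈ perpS Q (D j)) (hQa : Q a ≠ 0) (hQw : Q (a + b) = 0)
    (hz : z ∈ XS hQ M (a + b)) (hzj : ∀ μ : F, z - μ • (a + b) ∉ perpS Q (D j)) :
    ∀ x ∈ D j, QuadraticMap.polar (⇑Q) a x = 0 → x ∈ XS hQ M (a + b) := by
  have : Finite F := Finite.of_fintype F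
  have haa : QuadraticMap.polar (⇑Q) a a ≠ 0 := by
    rw [polar_self]
    exact mul_ne_zero c.h2 hQa
  have hsplit := orthSplit_of_nondeg (klc4_W Q D j a) (klc4_nondeg c ha hQa)
  have h3 : 3 ≤ finrank F (klc4_W Q D j a) := by
    have := klc4_finrank c hQ (j := j) hQa
    omega
  rw [mem_perpS] at hb
  -- invariance of `X_w` under the Eichler transformations of `W`
  have hE : ∀ p ∈ klc4_W Q D j a, ∀ hp : Q p = 0, ∀ d ∈ klc4_W Q D j a,
      ∀ hd : QuadraticMap.polar (⇑Q) p d = 0, ∀ x ∈ XS hQ M (a + b),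
      ((eich hQ p d hp hd : Matrix.GeneralLinearGroup ι F) : Matrix ι ι F) *ᵥ x ∈
        XS hQ M (a + b) := by
    intro p hpW hp d hdW hd x hx
    obtain ⟨hpD, hap⟩ := klc4_mem_W.1 hpW
    obtain ⟨hdD, had⟩ := klc4_mem_W.1 hdW
    apply XS_inv hQ hQw _ (c.eich_mem hQ hpD hdD hp hd) _ hx
    apply eich_fix hQ p d (a + b) hp hd
    · rw [QuadraticMap.polar_add_right, QuadraticMap.polar_comm, hap, hb p hpD, add_zero]
    · rw [QuadraticMap.polar_add_right, QuadraticMap.polar_comm, had, hb d hdD, add_zero]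
  -- `z` is not orthogonal to `W`
  have hzW : ∃ p ∈ klc4_W Q D j a, QuadraticMap.polar (⇑Q) p z ≠ 0 := by
    by_contra hcon
    push Not at hcon
    obtain ⟨zj, hzjD, z', hz', hzz⟩ := (c.split j).sum z
    rw [mem_perpS] at hz'
    obtain ⟨μ, hμ⟩ : ∃ μ : F, μ = (QuadraticMap.polar (⇑Q) a a)⁻¹ * QuadraticMap.polar (⇑Q) a zj :=
      ⟨_, rfl⟩
    have hr := klc4_proj c ha hQa hzjD
    rw [← hμ] at hr
    obtain ⟨hrD, har⟩ := klc4_mem_W.1 hr
    -- `r = zj - μ a` is orthogonal to the whole block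
    have hr0 : zj - μ • a = 0 := by
      apply c.eq_zero_of_mem_of_perp hQ hrD
      rw [mem_perpS]
      intro y hy
      have hy' := klc4_proj c ha hQa hy
      have h1 := hcon _ hy'
      obtain ⟨hyD', -⟩ := klc4_mem_W.1 hy'
      -- polar (y') z = polar (y') zj
      have h2 : QuadraticMap.polar (⇑Q)
          (y - ((QuadraticMap.polar (⇑Q) a a)⁻¹ * QuadraticMap.polar (⇑Q) a y) • a) zj = 0 := by
        have h3 := h1
        rw [hzz, QuadraticMap.polar_add_right, hz' _ hyD', add_zero] at h3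
        exact h3
      -- polar y' (μ a) = 0
      have h4 : QuadraticMap.polar (⇑Q)
          (y - ((QuadraticMap.polar (⇑Q) a a)⁻¹ * QuadraticMap.polar (⇑Q) a y) • a) (μ • a) = 0 := by
        obtain ⟨-, hay'⟩ := klc4_mem_W.1 hy'
        rw [QuadraticMap.polar_smul_right, QuadraticMap.polar_comm, hay', smul_zero]
      have h5 : QuadraticMap.polar (⇑Q)
          (y - ((QuadraticMap.polar (⇑Q) a a)⁻¹ * QuadraticMap.polar (⇑Q) a y) • a)
          (zj - μ • a) = 0 := by
        rw [QuadraticMap.polar_sub_right, h2, h4, sub_zero]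
      rw [QuadraticMap.polar_sub_left, QuadraticMap.polar_smul_left, har, smul_zero,
        sub_zero] at h5
      exact h5
    apply hzj μ
    have e : z - μ • (a + b) = z' - μ • b := by
      have : zj = μ • a := sub_eq_zero.1 hr0
      rw [hzz, this, smul_add]
      abel
    rw [e, mem_perpS]
    intro y hy
    rw [QuadraticMap.polar_sub_right, QuadraticMap.polar_smul_right, hz' y hy, hb y hy, smul_zero,
      sub_zero]
  obtain ⟨p, hpW, hpz⟩ := hzW
  have hle := hsplit.eich_invariant_ge hQ h3 (XS hQ M (a + b)) hE z hz ⟨p, hpW, hpz⟩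
  intro x hx hax
  exact hle (klc4_mem_W.2 ⟨hx, hax⟩)

end Cfsg.Agent.Lib.Helper6.ODec
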