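import Mathlib
import Cfsg.Prelude.Def_GeometricClasses
import Cfsg.Prelude.Def_Classical
import Cfsg.Agent.Lib.Helper6.OSim0
import Cfsg.Agent.Lib.Helper1.SubF_EIG
import Cfsg.Agent.Lib.Helper2.OrthElB
import Cfsg.Agent.Lib.Helper9.OrthNM1

set_option autoImplicit false

/-! S5981 PK-SPEC: an element of odd prime order `r ∣ q - 1` with symmetric spectrum preserves a
quadratic form similar to any given nondegenerate one, in odd dimension. -/

namespace Cfsg.Agent.Lib.Helper6.OSim

open Module Polynomial Cfsg.Geo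

section coords
variable {F : Type*} [Field F] {V : Type*} [AddCommGroup V] [Module F V]
  {ι : Type*} [Fintype ι] [DecidableEq ι]

/-- the bilinear form `Σ_i x_i y_{π i}` in the coordinates of a basis -/
noncomputable def specBil (b : Basis ι F V) (π : ι → ι) : LinearMap.BilinForm F V :=
  ∑ i, LinearMap.BilinForm.linMulLin (b.coord i) (b.coord (π i))

omit [DecidableEq ι] in
theorem specBil_apply (b : Basis ι F V) (π : ι → ι) (u v : V) :
    specBil b π u v = ∑ i, b.repr u i * b.repr v (π i) := by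
  unfold specBil
  rw [LinearMap.sum_apply, LinearMap.sum_apply]
  apply Finset.sum_congr rfl
  intro i _
  rw [LinearMap.BilinForm.linMulLin_apply, Basis.coord_apply, Basis.coord_apply]

theorem specBil_symm (b : Basis ι F V) (π : ι → ι) (hπ : ∀ i, π (π i) = i) (u v : V) :
    specBil b π u v = specBil b π v u := by
  rw [specBil_apply, specBil_apply]
  have hinv : Function.Involutive π := hπ
  rw [← Equiv.sum_comp (hinv.toPerm π)]
  apply Finset.sum_congr rfl
  intro i _
  rw [Function.Involutive.coe_toPerm, hπ, mul_comm]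

theorem specBil_basis (b : Basis ι F V) (π : ι → ι) (hπ : ∀ i, π (π i) = i) (x : V) (i : ι) :
    specBil b π x (b (π i)) = b.repr x i := by
  rw [specBil_apply, Finset.sum_eq_single i]
  · rw [Basis.repr_self, Finsupp.single_eq_same, mul_one]
  · intro j _ hji
    have hne : π i ≠ π j := by
      intro h
      apply hji
      rw [← hπ j, ← h, hπ]
    rw [Basis.repr_self, Finsupp.single_eq_of_ne hne.symm, mul_zero]
  · intro h
    exact absurd (Finset.mem_univ i) h

omit [Fintype ι] in
theorem spec_repr_eigen (b : Basis ι F V) (lam : ι → F) (t : V →ₗ[F] V)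
    (ht : ∀ i, t (b i) = lam i • b i) (v : V) (i : ι) :
    b.repr (t v) i = lam i * b.repr v i := by
  have h1 : (b.coord i) ∘ₗ t = lam i • b.coord i := by
    apply b.ext
    intro j
    rw [LinearMap.comp_apply, ht, map_smul, LinearMap.smul_apply, Basis.coord_apply,
      Basis.repr_self, smul_eq_mul, smul_eq_mul]
    by_cases hij : j = i
    · rw [hij]
    · rw [Finsupp.single_eq_of_ne (fun h => hij h.symm), mul_zero, mul_zero]
  have h3 := LinearMap.congr_fun h1 v
  rw [LinearMap.comp_apply, LinearMap.smul_apply, Basis.coord_apply, Basis.coord_apply,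
    smul_eq_mul] at h3
  exact h3

/-- the coordinate construction of an invariant nondegenerate quadratic form -/
theorem spec_exists_form (h2 : (2 : F) ≠ 0) (b : Basis ι F V) (lam : ι → F) (t : V →ₗ[F] V)
    (ht : ∀ i, t (b i) = lam i • b i) (π : ι → ι) (hπ : ∀ i, π (π i) = i)
    (hlam : ∀ i, lam i * lam (π i) = 1) :
    ∃ Q' : QuadraticForm F V, (QuadraticMap.polarBilin Q').Nondegenerate ∧
      ∀ v, Q' (t v) = Q' v := by
  refine ⟨(specBil b π).toQuadraticMap, ?_, ?_⟩
  · have hpol : ∀ x y, QuadraticMap.polarBilin (specBil b π).toQuadraticMap x y =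
        2 * specBil b π x y := by
      intro x y
      rw [QuadraticMap.polarBilin_apply_apply, LinearMap.BilinMap.polar_toQuadraticMap,
        specBil_symm b π hπ y x]
      ring
    constructor
    · intro x hx
      apply b.ext_elem
      intro i
      have h1 := hx (b (π i))
      rw [hpol, specBil_basis b π hπ] at h1
      rw [map_zero, Finsupp.zero_apply]
      exact (mul_eq_zero.1 h1).resolve_left h2
    · intro y hy
      apply b.ext_elem
      intro i
      have h1 := hy (b (π i))
      rw [hpol, specBil_symm b π hπ, specBil_basis b π hπ] at h1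
      rw [map_zero, Finsupp.zero_apply]
      exact (mul_eq_zero.1 h1).resolve_left h2
  · intro v
    rw [LinearMap.BilinMap.toQuadraticMap_apply, LinearMap.BilinMap.toQuadraticMap_apply,
      specBil_apply, specBil_apply]
    apply Finset.sum_congr rfl
    intro i _
    rw [spec_repr_eigen b lam t ht, spec_repr_eigen b lam t ht]
    have h1 := hlam i
    linear_combination (b.repr v i * b.repr v (π i)) * h1

end coords

section abstract
universe u
variable {F : Type u} [Field F] [Fintype F]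
  {V : Type*} [AddCommGroup V] [Module F V]

/-- the sigma-indexed version: eigenspaces with bases of symmetric sizes -/
theorem spec_sigma_form [DecidableEq F] (h2 : (2 : F) ≠ 0) (t : V →ₗ[F] V) (r : ℕ) (hr : 0 < r)
    (ht : t ^ r = 1) (E : F → Submodule F V) (hE : ∀ μ, ∀ v ∈ E μ, t v = μ • v)
    (hint : DirectSum.IsInternal E) (d : F → ℕ) (c : ∀ μ, Basis (Fin (d μ)) F (E μ))
    (hsym : ∀ μ, d μ = d μ⁻¹) :
    ∃ Q' : QuadraticForm F V, (QuadraticMap.polarBilin Q').Nondegenerate ∧
      ∀ v, Q' (t v) = Q' v := by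
  have hB : ∀ i : (Σ μ : F, Fin (d μ)), t (hint.collectedBasis c i) =
      i.1 • hint.collectedBasis c i := by
    intro i
    rw [hint.collectedBasis_coe]
    exact hE i.1 _ (c i.1 i.2).2
  have hne0 : ∀ i : (Σ μ : F, Fin (d μ)), i.1 ≠ 0 := by
    intro i h0
    have h1 := hB i
    rw [h0, zero_smul] at h1
    have hr' : r = (r - 1) + 1 := by omega
    have h3 : (t ^ r) (hint.collectedBasis c i) = 0 := by
      rw [hr', pow_succ, Module.End.mul_apply, h1, map_zero]
    rw [ht, Module.End.one_apply] at h3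
    exact (hint.collectedBasis c).ne_zero i h3
  have hπ : ∀ i : (Σ μ : F, Fin (d μ)),
      (⟨(⟨i.1⁻¹, Fin.cast (hsym i.1) i.2⟩ : Σ μ : F, Fin (d μ)).1⁻¹,
        Fin.cast (hsym (⟨i.1⁻¹, Fin.cast (hsym i.1) i.2⟩ : Σ μ : F, Fin (d μ)).1)
          (⟨i.1⁻¹, Fin.cast (hsym i.1) i.2⟩ : Σ μ : F, Fin (d μ)).2⟩ : Σ μ : F, Fin (d μ)) = i := by
    rintro ⟨μ, j⟩
    apply Sigma.ext
    · exact inv_inv μ
    · have h : d μ⁻¹⁻¹ = d μ := by rw [inv_inv]
      exact (Fin.heq_ext_iff h).2 rfl
  exact spec_exists_form h2 (hint.collectedBasis c) (fun i => i.1) t hB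
    (fun i => ⟨i.1⁻¹, Fin.cast (hsym i.1) i.2⟩) hπ (fun i => mul_inv_cancel₀ (hne0 i))

variable {p : ℕ} [Fact p.Prime] [CharP F p] [FiniteDimensional F V]

/-- an invariant nondegenerate quadratic form for a diagonalisable map of odd prime order with
symmetric spectrum -/
theorem spec_exists_form_of_symm (h2 : (2 : F) ≠ 0) (r : ℕ) [Fact r.Prime] (hrp : r ≠ p)
    (hd : r ∣ Fintype.card F - 1) (t : V →ₗ[F] V) (ht : t ^ r = 1)
    (hsym : ∀ μ : F, finrank F (Module.End.eigenspace t μ) =
      finrank F (Module.End.eigenspace t μ⁻¹)) :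
    ∃ Q' : QuadraticForm F V, (QuadraticMap.polarBilin Q').Nondegenerate ∧
      ∀ v, Q' (t v) = Q' v := by
  classical
  obtain ⟨b0, lam0, hb0⟩ := Cfsg.Agent.Lib.Helper6.SubF.exists_eigenbasis r hrp hd t ht
  have htop : ⨆ μ : F, Module.End.eigenspace t μ = ⊤ := by
    rw [eq_top_iff, ← b0.span_eq, Submodule.span_le]
    rintro _ ⟨j, rfl⟩
    exact le_iSup (Module.End.eigenspace t) (lam0 j) (Module.End.mem_eigenspace_iff.2 (hb0 j))
  have hint : DirectSum.IsInternal (fun μ : F => Module.End.eigenspace t μ) :=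
    DirectSum.isInternal_submodule_of_iSupIndep_of_iSup_eq_top
      (Module.End.eigenspaces_iSupIndep t) htop
  exact spec_sigma_form h2 t r (Fact.out : r.Prime).pos ht (fun μ => Module.End.eigenspace t μ)
    (fun μ v hv => Module.End.mem_eigenspace_iff.1 hv) hint
    (fun μ => finrank F (Module.End.eigenspace t μ))
    (fun μ => Module.finBasis F (Module.End.eigenspace t μ)) hsym

end abstract

variable {F : Type*} [Field F] [Fintype F] {p : ℕ} [Fact p.Prime] [CharP F p] {n : ℕ}

/-! ### PK-SPEC: symmetric spectrum, odd dimension -/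

theorem exists_similar_qsim_of_symm (hodd : Odd (Fintype.card F)) (hnodd : Odd n)
    (Q : (Fin n → F) → F) (hQ : IsNondegenerateQuadraticForm Q) (r : ℕ) [Fact r.Prime]
    (hr2 : r ≠ 2) (hrp : r ≠ p) (hd : r ∣ Fintype.card F - 1)
    (t : (Fin n → F) →ₗ[F] (Fin n → F)) (ht : t ^ r = 1)
    (hsym : ∀ μ : F, finrank F (Module.End.eigenspace t μ) =
      finrank F (Module.End.eigenspace t μ⁻¹)) :
    ∃ Q' : (Fin n → F) → F, Similar Q' Q ∧ QSim Q' t 1 := by
  classical
  have h2 : (2 : F) ≠ 0 := by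
    intro h
    have h1 : ringChar F = 2 := by
      have h3 : ringChar F ∣ 2 := by
        apply ringChar.dvd
        exact_mod_cast h
      rcases (Nat.dvd_prime Nat.prime_two).1 h3 with h1 | h1
      · exact absurd h1 (CharP.ringChar_ne_one (R := F))
      · exact h1
    have h3 := FiniteField.even_card_of_char_two h1
    rcases hodd with ⟨k, hk⟩
    omega
  obtain ⟨Q₁, hQ₁nd, hQ₁t⟩ := spec_exists_form_of_symm h2 r hrp hd t ht hsym
  obtain ⟨Q₀, hQ₀, hQ₀nd⟩ := Cfsg.Agent.H9Orth.exists_quadForm Q hQ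
  obtain ⟨d, hd'⟩ := hnodd
  have hdim : finrank F (Fin n → F) = 2 * d + 1 := by
    rw [Module.finrank_fintype_fun_eq_card, Fintype.card_fin, hd']
  obtain ⟨c₀, e₀, hc₀, he₀⟩ :=
    Cfsg.Agent.Lib.Helper2.OrthEl.exists_similarity_odd h2 hQ₀nd d hdim
  obtain ⟨c₁, e₁, hc₁, he₁⟩ :=
    Cfsg.Agent.Lib.Helper2.OrthEl.exists_similarity_odd h2 hQ₁nd d hdim
  refine ⟨⇑Q₁, ⟨c₀ / c₁, e₁.trans e₀.symm, div_ne_zero hc₀ hc₁, fun v => ?_⟩, fun v => ?_⟩
  · have h1 := he₀ (e₀.symm (e₁ v))
    rw [LinearEquiv.apply_symm_apply, he₁ v, hQ₀] at h1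
    rw [LinearEquiv.trans_apply, div_mul_eq_mul_div, ← h1, mul_div_cancel_left₀ _ hc₁]
  · rw [one_mul]
    exact hQ₁t v

end Cfsg.Agent.Lib.Helper6.OSim
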