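import Mathlib
import Cfsg.Prelude.Def_GeometricClasses
import Cfsg.Prelude.Def_Classical
import Cfsg.Agent.Lib.Helper6.OSim0

set_option autoImplicit false

/-! S5981 PK-TRANSV: a transvection is not a similitude of a nondegenerate quadratic form
(odd characteristic). -/

namespace Cfsg.Agent.Lib.Helper6.OSim

open Module Polynomial Cfsg.Geo
open scoped Matrix

variable {F : Type*} [Field F] [Fintype F] {p : ℕ} [Fact p.Prime] [CharP F p] {n : ℕ}

omit [Fintype F] [Fact p.Prime] [CharP F p] in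
/-- the core: `v ↦ v + v i₁ • e_{i₀}` preserves no nondegenerate quadratic form -/
theorem transv_core (h2 : (2 : F) ≠ 0) (i₀ i₁ : Fin n) (h01 : i₀ ≠ i₁)
    (Q' : (Fin n → F) → F) (hQ' : IsNondegenerateQuadraticForm Q')
    (hq : ∀ v : Fin n → F, Q' (v + v i₁ • (Pi.single i₀ 1 : Fin n → F)) = Q' v) : False := by
  classical
  set u₀ : Fin n → F := Pi.single i₀ 1 with hu₀
  set w₁ : Fin n → F := Pi.single i₁ 1 with hw₁
  have hu₀1 : u₀ i₁ = 0 := by rw [hu₀, Pi.single_apply, if_neg (Ne.symm h01)]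
  have hw₁1 : w₁ i₁ = 1 := by rw [hw₁, Pi.single_apply, if_pos rfl]
  have hu₀0 : u₀ ≠ 0 := by
    intro h
    have := congrFun h i₀
    rw [hu₀, Pi.single_apply, if_pos rfl] at this
    exact one_ne_zero this
  -- expansion
  have hexp : ∀ (v : Fin n → F) (c : F),
      Q' (v + c • u₀) = Q' v + c ^ 2 * Q' u₀ + c * QuadraticMap.polar Q' v u₀ := by
    intro v c
    have h1 : QuadraticMap.polar Q' v (c • u₀) = Q' (v + c • u₀) - Q' v - Q' (c • u₀) := rfl
    rw [hQ'.polar_bilinear.smul_right, hQ'.smul] at h1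
    linear_combination -h1
  have hkey : ∀ v : Fin n → F, (v i₁) ^ 2 * Q' u₀ + v i₁ * QuadraticMap.polar Q' v u₀ = 0 := by
    intro v
    have h1 := hq v
    rw [hexp] at h1
    linear_combination h1
  have hpolar_self : QuadraticMap.polar Q' u₀ u₀ = 2 * Q' u₀ := by
    have h1 : QuadraticMap.polar Q' u₀ u₀ = Q' (u₀ + u₀) - Q' u₀ - Q' u₀ := rfl
    have h3 : u₀ + u₀ = (2 : F) • u₀ := (two_smul F u₀).symm
    rw [h3, hQ'.smul] at h1
    linear_combination h1
  have ha := hkey w₁
  have hb := hkey (w₁ + u₀)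
  rw [Pi.add_apply, hw₁1, hu₀1, add_zero, hQ'.polar_bilinear.add_left, hpolar_self] at hb
  rw [hw₁1] at ha
  have hQu : Q' u₀ = 0 := by
    have h3 : (2 : F) * Q' u₀ = 0 := by linear_combination hb - ha
    exact (mul_eq_zero.1 h3).resolve_left h2
  have hw₁u : QuadraticMap.polar Q' w₁ u₀ = 0 := by
    rw [hQu] at ha
    linear_combination ha
  obtain ⟨⟨y, hy⟩, -⟩ := hQ'.nondegenerate u₀ hu₀0
  by_cases hy1 : y i₁ = 0
  · have hc := hkey (y + w₁)
    rw [Pi.add_apply, hy1, hw₁1, zero_add, hQu, hQ'.polar_bilinear.add_left, hw₁u] at hc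
    apply hy
    linear_combination hc
  · have hc := hkey y
    rw [hQu, mul_zero, zero_add] at hc
    exact hy ((mul_eq_zero.1 hc).resolve_left hy1)

/-! ### PK-TRANSV: `r = p` -/

theorem exists_transvection_not_qsim (hp2 : p ≠ 2) (hn : 2 ≤ n) :
    ∃ x : GL (Fin n) F, x ∈ specialLinear (Fin n) F ∧
      ((x ^ p : GL (Fin n) F) : Matrix (Fin n) (Fin n) F) = 1 ∧
      (∀ z : F, (x : Matrix (Fin n) (Fin n) F) ≠ z • (1 : Matrix (Fin n) (Fin n) F)) ∧
      ∀ (Q' : (Fin n → F) → F) (μ : F), IsNondegenerateQuadraticForm Q' →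
        ¬ QSim Q' (Matrix.toLin' (x : Matrix (Fin n) (Fin n) F)) μ := by
  classical
  have h2 : (2 : F) ≠ 0 := by
    intro h
    have h1 : ((2 : ℕ) : F) = 0 := by exact_mod_cast h
    rw [CharP.cast_eq_zero_iff F p 2] at h1
    exact hp2 ((Nat.prime_dvd_prime_iff_eq (Fact.out : p.Prime) Nat.prime_two).1 h1)
  set i₀ : Fin n := ⟨0, by omega⟩ with hi₀
  set i₁ : Fin n := ⟨1, by omega⟩ with hi₁
  have h01 : i₀ ≠ i₁ := by
    intro h
    have := congrArg Fin.val h
    simp [hi₀, hi₁] at this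
  set M : Matrix (Fin n) (Fin n) F := Matrix.transvection i₀ i₁ (1 : F) with hM
  have hdet : M.det = 1 := Matrix.det_transvection_of_ne _ _ h01 _
  have hMp : M ^ p = 1 := by
    rw [hM]
    have hpow : ∀ k : ℕ, (Matrix.transvection i₀ i₁ (1 : F)) ^ k =
        Matrix.transvection i₀ i₁ ((k : F)) := by
      intro k
      induction k with
      | zero => simp
      | succ k ih =>
        rw [pow_succ, ih, Matrix.transvection_mul_transvection_same i₀ i₁ h01, Nat.cast_succ]
    rw [hpow, CharP.cast_eq_zero, Matrix.transvection_zero]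
  have hMv : ∀ v : Fin n → F, M *ᵥ v = v + v i₁ • (Pi.single i₀ 1 : Fin n → F) := by
    intro v
    rw [hM, Matrix.transvection, Matrix.add_mulVec, Matrix.one_mulVec, Matrix.single_mulVec_eq,
      one_mul]
  set x : GL (Fin n) F := Matrix.GeneralLinearGroup.mkOfDetNeZero M
    (by rw [hdet]; exact one_ne_zero) with hx
  have hxM : (x : Matrix (Fin n) (Fin n) F) = M := rfl
  refine ⟨x, ?_, ?_, ?_, ?_⟩
  · unfold specialLinear
    rw [MonoidHom.mem_ker]
    apply Units.ext
    rw [Matrix.GeneralLinearGroup.val_det_apply, hxM, hdet, Units.val_one]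
  · rw [Units.val_pow_eq_pow_val, hxM, hMp]
  · intro z hz
    rw [hxM] at hz
    have := congrFun (congrFun hz i₀) i₁
    simp [hM, Matrix.transvection, Matrix.one_apply_ne h01] at this
  · intro Q' μ hQ' hq
    rw [hxM] at hq
    have hq' : ∀ v, Q' (M *ᵥ v) = μ * Q' v := by
      intro v
      have := hq v
      rwa [Matrix.toLin'_apply] at this
    -- `μ ^ p = 1`
    have hpow : ∀ (k : ℕ) (v : Fin n → F), Q' ((M ^ k) *ᵥ v) = μ ^ k * Q' v := by
      intro k
      induction k with
      | zero =>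
        intro v
        rw [pow_zero, pow_zero, Matrix.one_mulVec, one_mul]
      | succ k ih =>
        intro v
        rw [pow_succ, ← Matrix.mulVec_mulVec, ih, hq', pow_succ, mul_assoc]
    have hex : ∃ v, Q' v ≠ 0 := by
      by_contra hcon
      push Not at hcon
      have hu : (Pi.single i₀ 1 : Fin n → F) ≠ 0 := by
        intro h
        have := congrFun h i₀
        rw [Pi.single_apply, if_pos rfl] at this
        exact one_ne_zero this
      obtain ⟨⟨y, hy⟩, -⟩ := hQ'.nondegenerate _ hu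
      apply hy
      show Q' _ - Q' _ - Q' _ = 0
      rw [hcon, hcon, hcon, sub_zero, sub_zero]
    obtain ⟨v₀, hv₀⟩ := hex
    have hμp : μ ^ p = 1 := by
      have h1 := hpow p v₀
      rw [hMp, Matrix.one_mulVec] at h1
      have h3 : (μ ^ p - 1) * Q' v₀ = 0 := by linear_combination -h1
      exact sub_eq_zero.1 ((mul_eq_zero.1 h3).resolve_right hv₀)
    have hμ1 : μ = 1 := by
      have h1 : (μ - 1) ^ p = 0 := by rw [sub_pow_char, one_pow, hμp, sub_self]
      exact sub_eq_zero.1 (pow_eq_zero_iff (Fact.out : p.Prime).ne_zero |>.1 h1)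
    apply transv_core h2 i₀ i₁ h01 Q' hQ'
    intro v
    rw [← hMv, hq', hμ1, one_mul]

end Cfsg.Agent.Lib.Helper6.OSim
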