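import Mathlib
import Cfsg.Agent.S0713

/-!
# S3571 swarm (helper8), package PRIMCASE

`Cfsg.Agent.Lib.S3571.prim_case`: the point stabiliser is primitive on `Fin m`.  For `r = 2` the case is void
(a 3-cycle has a conjugate in `H'` because `3` does not divide the index, then Mathlib's Jordan theorem for 3-cycles);
for `r` odd an `r`-cycle works, by Jordan's theorem for prime cycles (landed S0713).
-/

set_option autoImplicit false

namespace Cfsg.Agent.Lib.Helper9.S3571PC


open Equiv

/-- an `r`-cycle in `Perm (Fin m)` for `2 ≤ r ≤ m`. -/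
theorem exists_cycle {m r : ℕ} (h2 : 2 ≤ r) (hrm : r ≤ m) :
    ∃ g : Perm (Fin m), g.IsCycle ∧ g.support.card = r := by
  classical
  set l : List (Fin m) := (List.finRange m).take r with hl
  have hnd : l.Nodup := (List.nodup_finRange m).sublist (List.take_sublist _ _)
  have hlen : l.length = r := by
    simp [hl, List.length_take, hrm]
  refine ⟨l.formPerm, ?_, ?_⟩
  · exact List.isCycle_formPerm hnd (by omega)
  · rw [List.support_formPerm_of_nodup l hnd, List.toFinset_card_of_nodup hnd, hlen]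
    intro x hx
    rw [hx] at hlen
    simp at hlen
    omega

theorem conj_isCycle {m : ℕ} {g : Perm (Fin m)} (hg : g.IsCycle) (x : Perm (Fin m)) :
    (x⁻¹ * g * x).IsCycle ∧ (x⁻¹ * g * x).support.card = g.support.card := by
  have h1 : x⁻¹ * g * x = x⁻¹ * g * (x⁻¹)⁻¹ := by simp
  rw [h1]
  refine ⟨hg.conj, ?_⟩
  rw [Equiv.Perm.support_conj, Finset.card_map]




/-- fixed point argument: if `3 ∤ [G':H']` and `z ∈ G'` has order 3, a conjugate of `z` under `G'` lies in `H'`. -/
theorem exists_conj_mem_of_not_dvd {α : Type*} [Fintype α] [DecidableEq α] (G' H' : Subgroup (Perm α))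
    (p : ℕ) [hp : Fact p.Prime]
    (hnd : ¬ p ∣ H'.relIndex G') (z : Perm α) (hz : z ∈ G') (hzo : orderOf z = p) :
    ∃ x ∈ G', x⁻¹ * z * x ∈ H' := by
  classical
  set K : Subgroup G' := H'.subgroupOf G' with hK
  set z' : G' := ⟨z, hz⟩ with hz'
  have hz'o : orderOf z' = p := by
    rw [← hzo]
    exact Subgroup.orderOf_mk z hz
  set P : Subgroup G' := Subgroup.zpowers z' with hP
  have hPp : IsPGroup p P := by
    apply IsPGroup.of_card (n := 1)
    rw [Nat.card_zpowers, hz'o, pow_one]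
  have hcard : ¬ p ∣ Nat.card (G' ⧸ K) := by
    have : Nat.card (G' ⧸ K) = H'.relIndex G' := by
      rw [hK]; rfl
    rw [this]; exact hnd
  obtain ⟨q, hq⟩ := hPp.nonempty_fixed_point_of_prime_not_dvd_card (G' ⧸ K) hcard
  induction q using QuotientGroup.induction_on with
  | H x =>
    have hfix := hq ⟨z', Subgroup.mem_zpowers z'⟩
    have h2 : ((z' * x : G') : G' ⧸ K) = (x : G' ⧸ K) := hfix
    rw [eq_comm, QuotientGroup.eq] at h2
    refine ⟨x, x.2, ?_⟩
    have h3 : x⁻¹ * (z' * x) ∈ K := h2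
    rw [hK, Subgroup.mem_subgroupOf] at h3
    simpa [mul_assoc] using h3

end Cfsg.Agent.Lib.Helper9.S3571PC

namespace Cfsg.Agent.Lib.S3571


open Equiv Cfsg.Agent.Lib.Helper9.S3571PC

theorem prim_case {m : ℕ} (hm : 5 ≤ m) (G' H' : Subgroup (Perm (Fin m)))
    (hA : alternatingGroup (Fin m) ≤ G') (hHG : H' ≤ G')
    (hnA : ¬ alternatingGroup (Fin m) ≤ H')
    (hprim : MulAction.IsPreprimitive H' (Fin m))
    (r : ℕ) (hr : r.Prime) (h2r : 2 * r ≤ m) (hrd : r ∣ H'.relIndex G')
    (hmax : ∀ s : ℕ, s.Prime → s ∣ H'.relIndex G' → s ≤ r) :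
    ∃ g ∈ G', orderOf g = r ∧ ∀ x ∈ G', x⁻¹ * g * x ∉ H' := by
  classical
  rcases hr.eq_two_or_odd' with h2 | hodd
  · -- r = 2 : void, a 3-cycle has a conjugate in H'
    exfalso
    subst h2
    have h3 : ¬ 3 ∣ H'.relIndex G' := by
      intro h
      have := hmax 3 Nat.prime_three h
      omega
    have : Fact (Nat.Prime 3) := ⟨Nat.prime_three⟩
    have : NeZero m := ⟨by omega⟩
    obtain ⟨z, hzc, hzs⟩ := exists_cycle (m := m) (r := 3) (by norm_num) (by omega)
    have hz3 : z.IsThreeCycle := by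
      exact card_support_eq_three_iff.mp hzs
    have hzA : z ∈ alternatingGroup (Fin m) := hz3.mem_alternatingGroup
    obtain ⟨x, hx, hxH⟩ := exists_conj_mem_of_not_dvd G' H' 3 h3 z (hA hzA) hz3.orderOf
    apply hnA
    have hconj : (x⁻¹ * z * x).IsThreeCycle := by
      have : x⁻¹ * z * x = x⁻¹ * z * (x⁻¹)⁻¹ := by simp
      rw [this]
      unfold Equiv.Perm.IsThreeCycle at hz3 ⊢
      rw [Equiv.Perm.cycleType_conj]; exact hz3
    exact Equiv.Perm.alternatingGroup_le_of_isPreprimitive_of_isThreeCycle_mem hprim hconj hxH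
  · -- r odd : an r-cycle, Jordan
    have hr3 : 3 ≤ r := by
      have := hr.two_le
      rcases hodd with ⟨k, hk⟩
      omega
    obtain ⟨g, hgc, hgs⟩ := exists_cycle (m := m) (r := r) (by omega) (by omega)
    have hgA : g ∈ alternatingGroup (Fin m) := by
      rw [Equiv.Perm.mem_alternatingGroup, hgc.sign, hgs, hodd.neg_one_pow]
      simp
    refine ⟨g, hA hgA, ?_, ?_⟩
    · rw [hgc.orderOf, hgs]
    · intro x _ hxH
      apply hnA
      obtain ⟨hc, hs⟩ := conj_isCycle hgc x
      exact Cfsg.Agent.S0713.result H' hprim hr (by simpa using hm) (by simp; omega) hc (hs.trans hgs) hxH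

end Cfsg.Agent.Lib.S3571
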