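import Mathlib
import Cfsg.Agent.Lib.Helper5.S3571_PRIM
import Cfsg.Agent.Lib.Helper9.S3571_PRIMCASE
import Cfsg.Agent.Lib.Helper2.S3571_INTRANS

/-!
# S3571 swarm (helper8), package THMP

`Cfsg.Agent.Lib.S3571.perm_case`: assembly for subgroups of `Perm (Fin m)`: Cauchy if `r` does not divide `|H'|`; otherwise
`r² ∣ m!` gives `2r ≤ m`, Bertrand gives a prime `p ≤ m < 2p`, `p > r`, so `H'` contains a `p`-cycle, and `H'` is either
intransitive (package INTRANS, helper2) or primitive (packages PRIM, helper5, and PRIMCASE).  Sylvester-Schur is an explicit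
hypothesis `SS` (first argument), as in helper2's INTRANS.
-/

set_option autoImplicit false

namespace Cfsg.Agent.Lib.Helper9.S3571TH


open Equiv

theorem relIndex_mul_card_eq {G : Type*} [Group G] {H K : Subgroup G} (h : H ≤ K) :
    H.relIndex K * Nat.card H = Nat.card K := by
  have h1 := Subgroup.index_mul_card (H.subgroupOf K)
  rw [Nat.card_congr (Subgroup.subgroupOfEquivOfLe h).toEquiv] at h1
  exact h1

/-- `r² ∣ m!` forces `2r ≤ m`. -/
theorem two_mul_le_of_sq_dvd_factorial {r m : ℕ} (hr : r.Prime) (h : r ^ 2 ∣ m.factorial) : 2 * r ≤ m := by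
  by_contra hlt
  push Not at hlt
  have hb : Nat.log r m < 2 := by
    by_cases hm0 : m = 0
    · subst hm0; simp
    · apply Nat.log_lt_of_lt_pow hm0
      have := hr.two_le
      nlinarith
  rw [hr.pow_dvd_factorial_iff hb] at h
  have : ∑ i ∈ Finset.Ico 1 2, m / r ^ i = m / r := by
    simp
  rw [this] at h
  have h2 : m / r < 2 := by
    rw [Nat.div_lt_iff_lt_mul hr.pos]; omega
  omega

/-- Bertrand: for `m ≥ 4` there is a prime `p ≤ m` with `m < 2p`. -/
theorem exists_prime_half {m : ℕ} (hm : 4 ≤ m) : ∃ p, p.Prime ∧ p ≤ m ∧ m < 2 * p := by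
  obtain ⟨p, hp, h1, h2⟩ := Nat.exists_prime_lt_and_le_two_mul (m / 2) (by omega)
  exact ⟨p, hp, by omega, by omega⟩




/-- Cauchy inside a subgroup. -/
theorem exists_mem_orderOf_eq {G : Type*} [Group G] [Finite G] (K : Subgroup G) (p : ℕ) (hp : p.Prime)
    (h : p ∣ Nat.card K) : ∃ g ∈ K, orderOf g = p := by
  have : Fact p.Prime := ⟨hp⟩
  obtain ⟨x, hx⟩ := exists_prime_orderOf_dvd_card' (G := K) p h
  exact ⟨x, x.2, by rw [← hx]; exact (Subgroup.orderOf_coe x)⟩

end Cfsg.Agent.Lib.Helper9.S3571TH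

namespace Cfsg.Agent.Lib.S3571


open Equiv Cfsg.Agent.Lib.Helper9.S3571TH

theorem perm_case (SS : ∀ n k : ℕ, 1 ≤ k → 2 * k ≤ n → ∃ p, p.Prime ∧ k < p ∧ p ∣ n.choose k)
    {m : ℕ} (hm : 5 ≤ m) (G' H' : Subgroup (Perm (Fin m)))
    (hA : alternatingGroup (Fin m) ≤ G') (hHG : H' ≤ G')
    (hmaxH : ∀ K : Subgroup (Perm (Fin m)), H' ≤ K → K ≤ G' → K = H' ∨ K = G') (hne : H' ≠ G')
    (hnA : ¬ alternatingGroup (Fin m) ≤ H')
    (r : ℕ) (hr : r.Prime) (hrd : r ∣ H'.relIndex G')
    (hmax : ∀ s : ℕ, s.Prime → s ∣ H'.relIndex G' → s ≤ r) :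
    ∃ g ∈ G', orderOf g = r ∧ ∀ x ∈ G', x⁻¹ * g * x ∉ H' := by
  classical
  have hcard : H'.relIndex G' * Nat.card H' = Nat.card G' := relIndex_mul_card_eq hHG
  have hrG : r ∣ Nat.card G' := by rw [← hcard]; exact Dvd.dvd.mul_right hrd _
  by_cases hrH : r ∣ Nat.card H'
  · -- (b)
    have hsq : r ^ 2 ∣ m.factorial := by
      have h1 : r ^ 2 ∣ Nat.card G' := by
        rw [← hcard, pow_two]; exact Nat.mul_dvd_mul hrd hrH
      have h2 : Nat.card G' ∣ Nat.card (Perm (Fin m)) := Subgroup.card_subgroup_dvd_card G'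
      have h3 : Nat.card (Perm (Fin m)) = m.factorial := by
        rw [Nat.card_eq_fintype_card, Fintype.card_perm, Fintype.card_fin]
      rw [← h3]; exact h1.trans h2
    have h2r : 2 * r ≤ m := two_mul_le_of_sq_dvd_factorial hr hsq
    obtain ⟨p, hp, hpm, hmp⟩ := exists_prime_half (m := m) (by omega)
    have hrp : r < p := by omega
    have hp3 : 3 ≤ p := by have := hr.two_le; omega
    have hpidx : ¬ p ∣ H'.relIndex G' := by
      intro h; have := hmax p hp h; omega
    have hpA : p ∣ Nat.card (alternatingGroup (Fin m)) := by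
      have : Nontrivial (Fin m) := Fin.nontrivial_iff_two_le.mpr (by omega)
      have h2 : 2 * Nat.card (alternatingGroup (Fin m)) = m.factorial := by
        rw [two_mul_nat_card_alternatingGroup, Nat.card_eq_fintype_card, Fintype.card_perm,
          Fintype.card_fin]
      have h3 : p ∣ 2 * Nat.card (alternatingGroup (Fin m)) := by
        rw [h2]; exact (hp.dvd_factorial).mpr hpm
      rcases (Nat.Prime.dvd_mul hp).mp h3 with h | h
      · have := Nat.le_of_dvd (by norm_num) h; omega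
      · exact h
    have hpG : p ∣ Nat.card G' := hpA.trans (Subgroup.card_dvd_of_le hA)
    have hpH : p ∣ Nat.card H' := by
      rw [← hcard] at hpG
      rcases (Nat.Prime.dvd_mul hp).mp hpG with h | h
      · exact absurd h hpidx
      · exact h
    obtain ⟨c, hcH, hco⟩ := exists_mem_orderOf_eq H' p hp hpH
    have hcyc : c.IsCycle := by
      apply Equiv.Perm.isCycle_of_prime_order' (by rw [hco]; exact hp)
      rw [hco, Fintype.card_fin]; exact hmp
    have hsupp : c.support.card = p := by rw [← hcyc.orderOf, hco]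
    by_cases htr : MulAction.IsPretransitive H' (Fin m)
    · have hprim : MulAction.IsPreprimitive H' (Fin m) :=
        isPreprimitive_of_prime_cycle_mem H' htr c hcH hcyc (by rw [hsupp]; exact hp)
          (by rw [hsupp]; exact hmp)
      exact prim_case hm G' H' hA hHG hnA hprim r hr h2r hrd hmax
    · exact intrans_case SS hm G' H' hA hHG hmaxH hne htr r hr hrd hmax
  · -- (a)
    obtain ⟨g, hgG, hgo⟩ := exists_mem_orderOf_eq G' r hr hrG
    refine ⟨g, hgG, hgo, ?_⟩
    intro x _ hxH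
    apply hrH
    have h1 : orderOf (x⁻¹ * g * x) = r := by
      have : x⁻¹ * g * x = MulAut.conj x⁻¹ g := by simp [MulAut.conj_apply]
      rw [this, MulEquiv.orderOf_eq, hgo]
    have h2 : orderOf (⟨x⁻¹ * g * x, hxH⟩ : H') = r := by
      rw [← h1]; exact Subgroup.orderOf_mk _ hxH
    rw [← h2]; exact orderOf_dvd_natCard _

end Cfsg.Agent.Lib.S3571
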