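import Mathlib
import Cfsg.Agent.Lib.Helper9.SmTwoPQ
import Cfsg.Agent.Lib.Helper2.SmTwoPT

set_option autoImplicit false

/-! S4409, package PQ (second part): `na8_aut_two`, the lemma (AUT2) for the section
`Y₀ / Z(Y₀)` of a non-abelian group of order `8`. -/

namespace Cfsg.Agent.Lib.Helper8.SmTwo

universe u

variable {G : Type u} [Group G]

/-- (AUT2 for the section `Y₀ / Z(Y₀)`) -/
theorem na8_aut_two [Finite G] (Y₀ T : Subgroup G) (h0 : IsNA8 Y₀) (hT : IsPGroup 2 T)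
    (hTn : T ≤ Subgroup.normalizer (Y₀ : Set G)) :
    ∀ t₁ ∈ T, ∀ t₂ ∈ T, ¬ ActsTrivMod Y₀ t₁ → ¬ ActsTrivMod Y₀ t₂ → ActsTrivMod Y₀ (t₁ * t₂) := by
  obtain ⟨K, hK⟩ : ∃ K : Subgroup G, K = Y₀ ⊓ Subgroup.centralizer (Y₀ : Set G) := ⟨_, rfl⟩
  obtain ⟨L, hL⟩ : ∃ L : Subgroup G, L = Subgroup.normalizer (K : Set G) := ⟨_, rfl⟩
  have hKn : (K.subgroupOf L).Normal := by rw [hL]; exact Subgroup.normal_in_normalizer
  have hNL : Subgroup.normalizer (Y₀ : Set G) ≤ L := by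
    rw [hL, hK]; exact pq_normalizer_le Y₀
  have hY₀L : Y₀ ≤ L := Subgroup.le_normalizer.trans hNL
  have hTL : T ≤ L := hTn.trans hNL
  have hV4 : IsV4 (pq_img L K Y₀) := pq_isV4 Y₀ h0 L K hK hY₀L
  have hcard := v4_aut_two (pq_img L K Y₀) (pq_img L K T) hV4 (pq_isPGroup_img L K hT)
    (pq_img_le_normalizer L K hTn)
  intro t₁ ht₁ t₂ ht₂ hn₁ hn₂
  have key : ∀ t (ht : t ∈ L), QuotientGroup.mk' (K.subgroupOf L) ⟨t, ht⟩ ∈
      Subgroup.centralizer ((pq_img L K Y₀ : Subgroup (↥L ⧸ K.subgroupOf L)) :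
        Set (↥L ⧸ K.subgroupOf L)) → ActsTrivMod Y₀ t := by
    intro t ht h x hx
    rw [← hK]
    exact pq_mem_of_mem_centralizer L K ht h hx (hY₀L hx)
  have hm₁ : QuotientGroup.mk' (K.subgroupOf L) ⟨t₁, hTL ht₁⟩ ∉ pq_img L K T ⊓
      Subgroup.centralizer ((pq_img L K Y₀ : Subgroup (↥L ⧸ K.subgroupOf L)) :
        Set (↥L ⧸ K.subgroupOf L)) := fun h => hn₁ (key t₁ (hTL ht₁) h.2)
  have hm₂ : QuotientGroup.mk' (K.subgroupOf L) ⟨t₂, hTL ht₂⟩ ∉ pq_img L K T ⊓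
      Subgroup.centralizer ((pq_img L K Y₀ : Subgroup (↥L ⧸ K.subgroupOf L)) :
        Set (↥L ⧸ K.subgroupOf L)) := fun h => hn₂ (key t₂ (hTL ht₂) h.2)
  have hmul := pq_mul_mem_of_card_le (pq_img L K T) _ inf_le_left hcard
    (pq_mem_img L K ht₁ (hTL ht₁)) (pq_mem_img L K ht₂ (hTL ht₂)) hm₁ hm₂
  refine key (t₁ * t₂) (L.mul_mem (hTL ht₁) (hTL ht₂)) ?_
  have e : QuotientGroup.mk' (K.subgroupOf L) ⟨t₁ * t₂, L.mul_mem (hTL ht₁) (hTL ht₂)⟩ =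
      QuotientGroup.mk' (K.subgroupOf L) ⟨t₁, hTL ht₁⟩ *
        QuotientGroup.mk' (K.subgroupOf L) ⟨t₂, hTL ht₂⟩ := by
    rw [← map_mul]; rfl
  rw [e]
  exact hmul.2

end Cfsg.Agent.Lib.Helper8.SmTwo
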