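import Mathlib
import Cfsg.Prelude

set_option autoImplicit false

/-! Tensor decompositions: basic bookkeeping for `tensorProductSubgroup` and
`IsTensorFormStructure`. -/

namespace Cfsg.Agent.H9Tens

open Matrix
open scoped Kronecker

variable {F : Type*} [Field F] {ι : Type} [Fintype ι] [DecidableEq ι]

/-- the pure tensor `x ⊗ y` as a coordinate vector -/
def pt {n₁ n₂ : ℕ} (x : Fin n₁ → F) (y : Fin n₂ → F) : Fin n₁ × Fin n₂ → F :=
  fun a => x a.1 * y a.2

/-- the identification of `F^(n₁ × n₂)` with `F^ι` through `e` and `P` -/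
def tau {n₁ n₂ : ℕ} (e : ι ≃ Fin n₁ × Fin n₂) (P : Matrix.GeneralLinearGroup ι F)
    (z : Fin n₁ × Fin n₂ → F) : ι → F :=
  (P : Matrix ι ι F) *ᵥ (z ∘ e)

variable {n₁ n₂ : ℕ} (e : ι ≃ Fin n₁ × Fin n₂) (P : Matrix.GeneralLinearGroup ι F)

theorem tau_add (z z' : Fin n₁ × Fin n₂ → F) : tau e P (z + z') = tau e P z + tau e P z' := by
  unfold tau
  rw [← Matrix.mulVec_add]
  rfl

theorem tau_smul (c : F) (z : Fin n₁ × Fin n₂ → F) : tau e P (c • z) = c • tau e P z := by
  unfold tau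
  rw [← Matrix.mulVec_smul]
  rfl

theorem tau_neg (z : Fin n₁ × Fin n₂ → F) : tau e P (-z) = -tau e P z := by
  unfold tau
  rw [← Matrix.mulVec_neg]
  rfl

theorem tau_injective : Function.Injective (tau (F := F) e P) := by
  intro z z' h
  unfold tau at h
  have h1 := congrArg (fun v => ((P⁻¹ : Matrix.GeneralLinearGroup ι F) : Matrix ι ι F) *ᵥ v) h
  simp only [Matrix.mulVec_mulVec, ← Matrix.GeneralLinearGroup.coe_mul, inv_mul_cancel] at h1
  have h2 : z ∘ e = z' ∘ e := by simpa using h1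
  funext a
  have := congrFun h2 (e.symm a)
  simpa using this

theorem pt_add_left (x x' : Fin n₁ → F) (y : Fin n₂ → F) :
    pt (x + x') y = pt x y + pt x' y := by
  funext a; simp [pt, add_mul]

theorem pt_add_right (x : Fin n₁ → F) (y y' : Fin n₂ → F) :
    pt x (y + y') = pt x y + pt x y' := by
  funext a; simp [pt, mul_add]

theorem pt_smul_left (c : F) (x : Fin n₁ → F) (y : Fin n₂ → F) :
    pt (c • x) y = c • pt x y := by
  funext a; simp [pt, mul_assoc]

theorem pt_smul_right (c : F) (x : Fin n₁ → F) (y : Fin n₂ → F) :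
    pt x (c • y) = c • pt x y := by
  funext a; simp [pt, mul_left_comm]

theorem pt_neg_left (x : Fin n₁ → F) (y : Fin n₂ → F) : pt (-x) y = -pt x y := by
  funext a; simp [pt]

theorem pt_neg_right (x : Fin n₁ → F) (y : Fin n₂ → F) : pt x (-y) = -pt x y := by
  funext a; simp [pt]

theorem pt_sub_right' {n₁ n₂ : ℕ} (x : Fin n₁ → F) (y y' : Fin n₂ → F) :
    pt x (y - y') = pt x y - pt x y' := by
  funext a; simp [pt, mul_sub]

theorem tau_sub' {n₁ n₂ : ℕ} (e : ι ≃ Fin n₁ × Fin n₂) (P : Matrix.GeneralLinearGroup ι F)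
    (z z' : Fin n₁ × Fin n₂ → F) : tau e P (z - z') = tau e P z - tau e P z' := by
  rw [sub_eq_add_neg, tau_add, tau_neg, ← sub_eq_add_neg]

/-- uniqueness of the factors of a non-zero pure tensor -/
theorem pt_eq {x x' : Fin n₁ → F} {y y' : Fin n₂ → F} (hx : x ≠ 0) (hy : y ≠ 0)
    (h : pt x' y' = pt x y) : ∃ μ : F, μ ≠ 0 ∧ x' = μ • x ∧ y' = μ⁻¹ • y := by
  obtain ⟨a₀, ha₀⟩ := Function.ne_iff.1 hx
  obtain ⟨b₀, hb₀⟩ := Function.ne_iff.1 hy
  have ha₀' : x a₀ ≠ 0 := ha₀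
  have hb₀' : y b₀ ≠ 0 := hb₀
  have hval : ∀ a b, x' a * y' b = x a * y b := fun a b => congrFun h (a, b)
  have h00 := hval a₀ b₀
  have hx'0 : x' a₀ ≠ 0 := by
    intro h0; rw [h0, zero_mul] at h00
    exact mul_ne_zero ha₀' hb₀' h00.symm
  have hy'0 : y' b₀ ≠ 0 := by
    intro h0; rw [h0, mul_zero] at h00
    exact mul_ne_zero ha₀' hb₀' h00.symm
  refine ⟨x' a₀ / x a₀, div_ne_zero hx'0 ha₀', ?_, ?_⟩
  · funext a
    have h1 := hval a b₀
    simp only [Pi.smul_apply, smul_eq_mul]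
    field_simp
    have : x' a * y' b₀ * x a₀ = x a * y b₀ * x a₀ := by rw [h1]
    have h2 : x' a₀ * y' b₀ * x a = x a₀ * y b₀ * x a := by rw [h00]
    have h3 : (x' a * x a₀ - x' a₀ * x a) * y' b₀ = 0 := by linear_combination this - h2
    rcases mul_eq_zero.1 h3 with h4 | h4
    · linear_combination h4
    · exact absurd h4 hy'0
  · funext b
    have h1 := hval a₀ b
    simp only [Pi.smul_apply, smul_eq_mul]
    rw [inv_div]
    field_simp
    linear_combination h1

/-- the Kronecker product acts factorwise on pure tensors -/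
theorem kronecker_mulVec_pt (A : Matrix (Fin n₁) (Fin n₁) F) (B : Matrix (Fin n₂) (Fin n₂) F)
    (x : Fin n₁ → F) (y : Fin n₂ → F) :
    (A ⊗ₖ B) *ᵥ pt x y = pt (A *ᵥ x) (B *ᵥ y) := by
  funext a
  simp only [Matrix.mulVec, dotProduct, pt, Matrix.kroneckerMap_apply]
  rw [Fintype.sum_prod_type, Finset.sum_mul_sum]
  apply Finset.sum_congr rfl
  intro i _
  apply Finset.sum_congr rfl
  intro j _
  ring

/-- elements of the tensor product subgroup act factorwise on the images of pure tensors -/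
theorem exists_factors {g : Matrix.GeneralLinearGroup ι F}
    (hg : g ∈ Cfsg.Geo.tensorProductSubgroup n₁ n₂ e P) :
    ∃ (A : Matrix.GeneralLinearGroup (Fin n₁) F) (B : Matrix.GeneralLinearGroup (Fin n₂) F),
      ∀ (x : Fin n₁ → F) (y : Fin n₂ → F),
        (g : Matrix ι ι F) *ᵥ tau e P (pt x y) =
          tau e P (pt ((A : Matrix (Fin n₁) (Fin n₁) F) *ᵥ x)
            ((B : Matrix (Fin n₂) (Fin n₂) F) *ᵥ y)) := by
  obtain ⟨r, ⟨k, ⟨A, B, hk⟩, rfl⟩, rfl⟩ := hg
  refine ⟨A, B, fun x y => ?_⟩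
  unfold tau
  show ((P * (Cfsg.Geo.glReindex e.symm k) * P⁻¹ : Matrix.GeneralLinearGroup ι F) :
    Matrix ι ι F) *ᵥ _ = _
  rw [Matrix.GeneralLinearGroup.coe_mul, Matrix.GeneralLinearGroup.coe_mul,
    ← Matrix.mulVec_mulVec, ← Matrix.mulVec_mulVec, Matrix.mulVec_mulVec _ _ (P : Matrix ι ι F),
    ← Matrix.GeneralLinearGroup.coe_mul, inv_mul_cancel]
  congr 1
  rw [← kronecker_mulVec_pt, ← hk]
  simp only [Matrix.GeneralLinearGroup.coe_one, Matrix.one_mulVec]
  funext i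
  show ((Matrix.reindexAlgEquiv F F e.symm) (k : Matrix _ _ F) *ᵥ (pt x y ∘ e)) i = _
  simp only [Matrix.reindexAlgEquiv_apply, Matrix.reindex_apply, Equiv.symm_symm, Matrix.mulVec,
    dotProduct, Matrix.submatrix_apply, Function.comp_apply]
  exact Fintype.sum_equiv e _ _ (fun _ => rfl)

end Cfsg.Agent.H9Tens
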