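import Mathlib
import Cfsg.Agent.Lib.Helper9.TensF2a

set_option autoImplicit false

/-!
# The tensor product stabilizer `GL₂(2) ⊗ GL_m(2)` is not maximal: the normalizer of the
`𝔽₄`-structure lies strictly in between
-/

namespace Cfsg.Agent.H9TF2

open Matrix
open scoped Kronecker

variable {F : Type*} [Field F] [Fintype F] {m : ℕ}

/-- the element `W ⊗ 1` of order three -/
def J0 (hq : Fintype.card F = 2) (m : ℕ) : GL (Fin 2 × Fin m) F :=
  ⟨(W : Matrix (Fin 2) (Fin 2) F) ⊗ₖ (1 : Matrix (Fin m) (Fin m) F),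
    ((W : Matrix (Fin 2) (Fin 2) F) * W) ⊗ₖ (1 : Matrix (Fin m) (Fin m) F),
    by rw [← Matrix.mul_kronecker_mul, W_cube' hq, mul_one, Matrix.one_kronecker_one],
    by rw [← Matrix.mul_kronecker_mul, W_cube hq, mul_one, Matrix.one_kronecker_one]⟩

theorem J0_coe (hq : Fintype.card F = 2) :
    ((J0 hq m : GL (Fin 2 × Fin m) F) : Matrix (Fin 2 × Fin m) (Fin 2 × Fin m) F) =
      (W : Matrix (Fin 2) (Fin 2) F) ⊗ₖ (1 : Matrix (Fin m) (Fin m) F) := rfl

theorem J0_sq_coe (hq : Fintype.card F = 2) :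
    ((J0 hq m * J0 hq m : GL (Fin 2 × Fin m) F) : Matrix (Fin 2 × Fin m) (Fin 2 × Fin m) F) =
      ((W : Matrix (Fin 2) (Fin 2) F) * W) ⊗ₖ (1 : Matrix (Fin m) (Fin m) F) := by
  rw [Units.val_mul, J0_coe, ← Matrix.mul_kronecker_mul, mul_one]

theorem J0_cube (hq : Fintype.card F = 2) : J0 hq m * J0 hq m * J0 hq m = 1 := by
  apply Units.ext
  rw [Units.val_mul, J0_sq_coe, J0_coe, ← Matrix.mul_kronecker_mul, W_cube hq, mul_one,
    Matrix.one_kronecker_one, Units.val_one]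

theorem mem_zpowers_J0 (hq : Fintype.card F = 2) (x : GL (Fin 2 × Fin m) F)
    (hx : x ∈ Subgroup.zpowers (J0 hq m)) : x = 1 ∨ x = J0 hq m ∨ x = J0 hq m * J0 hq m := by
  obtain ⟨k, rfl⟩ := Subgroup.mem_zpowers_iff.mp hx
  have h3 : J0 hq m ^ (3 : ℤ) = 1 := by
    rw [show (3 : ℤ) = ((3 : ℕ) : ℤ) from rfl, zpow_natCast, pow_succ, pow_two]
    exact J0_cube hq
  have hk : J0 hq m ^ k = J0 hq m ^ (k % 3) := by
    conv_lhs => rw [← Int.emod_add_mul_ediv k 3, _root_.zpow_add, _root_.zpow_mul, h3,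
      _root_.one_zpow, mul_one]
  rw [hk]
  have h0 : 0 ≤ k % 3 := Int.emod_nonneg k (by norm_num)
  have h1 : k % 3 < 3 := Int.emod_lt_of_pos k (by norm_num)
  have : k % 3 = 0 ∨ k % 3 = 1 ∨ k % 3 = 2 := by omega
  rcases this with h | h | h <;> rw [h]
  · left; exact _root_.zpow_zero _
  · right; left; exact _root_.zpow_one _
  · right; right
    rw [show (2 : ℤ) = ((2 : ℕ) : ℤ) from rfl, zpow_natCast, pow_two]

/-- the normalizer of the `𝔽₄`-structure -/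
def K0 (hq : Fintype.card F = 2) (m : ℕ) : Subgroup (GL (Fin 2 × Fin m) F) :=
  Subgroup.normalizer (Subgroup.zpowers (J0 hq m) : Set (GL (Fin 2 × Fin m) F))

/-- an element conjugating `J0` and its inverse conjugate into `⟨J0⟩` normalizes `⟨J0⟩` -/
theorem mem_K0_of_conj (hq : Fintype.card F = 2) (g : GL (Fin 2 × Fin m) F)
    (h1 : g * J0 hq m * g⁻¹ ∈ Subgroup.zpowers (J0 hq m))
    (h2 : g⁻¹ * J0 hq m * g ∈ Subgroup.zpowers (J0 hq m)) : g ∈ K0 hq m := by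
  unfold K0
  rw [Subgroup.mem_normalizer_iff]
  intro x
  constructor
  · intro hx
    obtain ⟨k, rfl⟩ := Subgroup.mem_zpowers_iff.mp hx
    have : g * J0 hq m ^ k * g⁻¹ = (g * J0 hq m * g⁻¹) ^ k := by
      rw [conj_zpow]
    rw [this]
    exact Subgroup.zpow_mem _ h1 k
  · intro hx
    obtain ⟨k, hk⟩ := Subgroup.mem_zpowers_iff.mp hx
    have e : x = g⁻¹ * (J0 hq m) ^ k * g := by rw [hk]; group
    have : g⁻¹ * J0 hq m ^ k * g = (g⁻¹ * J0 hq m * g) ^ k := by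
      have := conj_zpow (a := g⁻¹) (b := J0 hq m) (i := k)
      rw [inv_inv] at this
      exact this.symm
    rw [e, this]
    exact Subgroup.zpow_mem _ h2 k

/-- Kronecker products conjugate `J0` into `⟨J0⟩` -/
theorem kron_conj_J0 (hq : Fintype.card F = 2) (g : GL (Fin 2 × Fin m) F)
    (hg : g ∈ Cfsg.Geo.kroneckerSubgroup 2 m F) :
    g * J0 hq m * g⁻¹ ∈ Subgroup.zpowers (J0 hq m) := by
  obtain ⟨a, b, hab⟩ := hg
  have hinv : ((g⁻¹ : GL (Fin 2 × Fin m) F) : Matrix (Fin 2 × Fin m) (Fin 2 × Fin m) F) =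
      ((a⁻¹ : GL (Fin 2) F) : Matrix (Fin 2) (Fin 2) F) ⊗ₖ
        ((b⁻¹ : GL (Fin m) F) : Matrix (Fin m) (Fin m) F) := by
    have h1 : (g : Matrix (Fin 2 × Fin m) (Fin 2 × Fin m) F) *
        (((a⁻¹ : GL (Fin 2) F) : Matrix (Fin 2) (Fin 2) F) ⊗ₖ
          ((b⁻¹ : GL (Fin m) F) : Matrix (Fin m) (Fin m) F)) = 1 := by
      rw [hab, ← Matrix.mul_kronecker_mul, ← Units.val_mul, ← Units.val_mul, mul_inv_cancel,
        mul_inv_cancel, Units.val_one, Units.val_one, Matrix.one_kronecker_one]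
    calc ((g⁻¹ : GL (Fin 2 × Fin m) F) : Matrix (Fin 2 × Fin m) (Fin 2 × Fin m) F)
        = ((g⁻¹ : GL (Fin 2 × Fin m) F) : Matrix (Fin 2 × Fin m) (Fin 2 × Fin m) F) *
            ((g : Matrix (Fin 2 × Fin m) (Fin 2 × Fin m) F) *
              (((a⁻¹ : GL (Fin 2) F) : Matrix (Fin 2) (Fin 2) F) ⊗ₖ
                ((b⁻¹ : GL (Fin m) F) : Matrix (Fin m) (Fin m) F))) := by rw [h1, mul_one]
      _ = _ := by rw [← mul_assoc, ← Units.val_mul, inv_mul_cancel, Units.val_one, one_mul]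
  have hconj : ((g * J0 hq m * g⁻¹ : GL (Fin 2 × Fin m) F) :
      Matrix (Fin 2 × Fin m) (Fin 2 × Fin m) F) =
      ((a : Matrix (Fin 2) (Fin 2) F) * W * ((a⁻¹ : GL (Fin 2) F) : Matrix (Fin 2) (Fin 2) F)) ⊗ₖ
        (1 : Matrix (Fin m) (Fin m) F) := by
    rw [Units.val_mul, Units.val_mul, hab, hinv, J0_coe, ← Matrix.mul_kronecker_mul,
      ← Matrix.mul_kronecker_mul, mul_one, ← Units.val_mul, mul_inv_cancel, Units.val_one]
  rcases conj_W hq a with h | h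
  · have : g * J0 hq m * g⁻¹ = J0 hq m := by
      apply Units.ext
      rw [hconj, h, J0_coe]
    rw [this]
    exact Subgroup.mem_zpowers _
  · have : g * J0 hq m * g⁻¹ = J0 hq m * J0 hq m := by
      apply Units.ext
      rw [hconj, h, J0_sq_coe]
    rw [this]
    exact Subgroup.mul_mem _ (Subgroup.mem_zpowers _) (Subgroup.mem_zpowers _)

theorem kron_le_K0 (hq : Fintype.card F = 2) : Cfsg.Geo.kroneckerSubgroup 2 m F ≤ K0 hq m := by
  intro g hg
  apply mem_K0_of_conj hq g (kron_conj_J0 hq g hg)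
  have := kron_conj_J0 hq g⁻¹ (Subgroup.inv_mem _ hg)
  rwa [inv_inv] at this

end Cfsg.Agent.H9TF2
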