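import Mathlib
import Cfsg.Agent.Lib.Helper2.JordanCycle
import Cfsg.Agent.Lib.Helper2.PrimeDeg8
import Cfsg.Agent.Lib.Helper2.PrimeDeg5

set_option autoImplicit false

open Equiv Equiv.Perm MulAction

namespace Cfsg.Agent.Lib.Helper9.AltGenA

variable {α : Type*} [Fintype α] [DecidableEq α]

/-- an element of prime order `p` in `Perm α` with `card α < 2p` is a `p`-cycle. -/
theorem isCycle_of_orderOf {p : ℕ} (hp : p.Prime) {g : Perm α} (hg : orderOf g = p)
    (hcard : Fintype.card α < 2 * p) : g.IsCycle ∧ g.support.card = p := by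
  have h1 : g.IsCycle := isCycle_of_prime_order' (hg ▸ hp) (hg ▸ hcard)
  exact ⟨h1, by rw [← h1.orderOf, hg]⟩

/-- a transitive group containing a cycle of prime length `q` with `card α < 2q` is primitive. -/
theorem isPreprimitive_of_cycle (G : Subgroup (Perm α)) [IsPretransitive G α] {q : ℕ}
    (hq : q.Prime) {g : Perm α} (hgc : g.IsCycle) (hgs : g.support.card = q) (hg : g ∈ G)
    (hcard : Fintype.card α < 2 * q) : IsPreprimitive G α := by
  classical
  have hT := isPretransitive_of_isCycle_mem hgc hg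
  have hcardX : Nat.card (SubMulAction.ofFixingSubgroup G ((g.support : Set α)ᶜ)) = q := by
    rw [Nat.card_eq_fintype_card, Fintype.card_subtype, ← hgs]
    apply congr_arg
    ext x
    simp [SubMulAction.mem_ofFixingSubgroup_iff]
  have hP : IsPreprimitive (fixingSubgroup G ((g.support : Set α)ᶜ))
      (SubMulAction.ofFixingSubgroup G ((g.support : Set α)ᶜ)) := by
    apply IsPreprimitive.of_prime_card
    rw [hcardX]; exact hq
  let f : SubMulAction.ofFixingSubgroup G ((g.support : Set α)ᶜ)
      →ₑ[(fixingSubgroup G ((g.support : Set α)ᶜ)).subtype] α :=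
    ⟨fun x => x.1, fun m x => rfl⟩
  apply IsPreprimitive.of_card_lt (f := f)
  have hr : Set.range f = (g.support : Set α) := by
    ext x
    constructor
    · rintro ⟨⟨z, hz⟩, rfl⟩
      rw [SubMulAction.mem_ofFixingSubgroup_iff] at hz
      show z ∈ (g.support : Set α)
      simpa using hz
    · intro hx
      refine ⟨⟨x, ?_⟩, rfl⟩
      rw [SubMulAction.mem_ofFixingSubgroup_iff]
      simpa using hx
  rw [hr, Set.ncard_coe_finset, hgs, Nat.card_eq_fintype_card]
  exact hcard

/-- Lemma A: a transitive group of degree 7 containing a 5-cycle contains `A₇`. -/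
theorem alt_le_of_deg7 (hα : Fintype.card α = 7) (G : Subgroup (Perm α)) [IsPretransitive G α]
    {g : Perm α} (hgc : g.IsCycle) (hgs : g.support.card = 5) (hg : g ∈ G) :
    alternatingGroup α ≤ G := by
  classical
  by_contra hA
  have h7 : Nat.Prime 7 := by norm_num
  have : Fact (Nat.Prime 7) := ⟨h7⟩
  have ho : orderOf g = 5 := by rw [hgc.orderOf, hgs]
  have h5 : 5 ∣ Nat.card G := by
    have h1 : orderOf (⟨g, hg⟩ : G) = 5 := by rw [← ho]; exact Subgroup.orderOf_mk g hg
    rw [← h1]; exact orderOf_dvd_natCard _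
  by_cases hsolv : Group.IsSolvable G
  · obtain ⟨τ, hτG, hτo, hτn⟩ := Cfsg.Agent.Lib.Helper2.PrimeDeg.exists_normal_cycle hα G hsolv
    set t : G := ⟨τ, hτG⟩ with ht
    have hto : orderOf t = 7 := by rw [← hτo]; exact Subgroup.orderOf_mk τ hτG
    have hZn : (Subgroup.zpowers t).Normal := by
      constructor
      intro n hn k
      obtain ⟨j, rfl⟩ := Subgroup.mem_zpowers_iff.mp hn
      obtain ⟨i, hi⟩ := hτn k.1 k.2
      have h1 : k * t * k⁻¹ = t ^ i := by
        apply Subtype.ext
        simpa using hi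
      have h2 : k * t ^ j * k⁻¹ = (k * t * k⁻¹) ^ j := by
        rw [conj_zpow]
      rw [h2, h1]
      exact Subgroup.zpow_mem _ (Subgroup.pow_mem _ (Subgroup.mem_zpowers t) i) j
    have hZc : Nat.card (Subgroup.zpowers t) = 7 := by rw [Nat.card_zpowers, hto]
    have hZp : IsPGroup 7 (Subgroup.zpowers t) := IsPGroup.of_card (n := 1) (by rw [hZc, pow_one])
    obtain ⟨Q, hQ⟩ := hZp.exists_le_sylow
    have hQc := Cfsg.Agent.Lib.Helper2.PrimeDeg.card_sylow hα G Q
    have hZQ : Subgroup.zpowers t = (Q : Subgroup G) :=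
      Subgroup.eq_of_le_of_card_ge hQ (by rw [hZc]; exact hQc.le)
    have hQn : (Q : Subgroup G).Normal := hZQ ▸ hZn
    have hN : Subgroup.normalizer ((Q : Subgroup G) : Set G) = ⊤ := Subgroup.normalizer_eq_top _
    have hd := Cfsg.Agent.Lib.Helper2.PrimeDeg.card_normalizer_dvd hα G Q
    rw [hN, Subgroup.card_top] at hd
    have := h5.trans hd
    omega
  · obtain ⟨h168, -⟩ := Cfsg.Agent.Lib.Helper2.PrimeDeg.degree_seven hα G hsolv hA
    rw [h168] at h5
    omega

end Cfsg.Agent.Lib.Helper9.AltGenA
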