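import Mathlib
import Cfsg.Prelude.Def_FusionSystem
import Cfsg.Agent.Lib.Helper9.FusionLift1
import Cfsg.Agent.Lib.Helper9.FusionAut
import Cfsg.Agent.Lib.Helper9.FusionAut2
import Cfsg.Agent.Lib.Helper9.FusionSat3
import Cfsg.Agent.Lib.Helper9.FusionAG1
import Cfsg.Agent.Lib.Helper9.FusionAG2
import Cfsg.Agent.Lib.Helper9.FusionAG3
import Cfsg.Agent.Lib.Helper9.Hyperfocal1

set_option autoImplicit false
open Cfsg
open Cfsg.FusionSystem

/-! Every map of a saturated fusion system lifts modulo a strongly closed subgroup. -/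

namespace Cfsg.Agent.Lib.Helper9

variable {Ω : Type*} [Group Ω] {S : Subgroup Ω}

/-- The automorphisms in `Aut_F(R)` acting trivially modulo `T`. -/
def autTrivMod (F : FusionSystem S) (T R : Subgroup Ω) : Subgroup (F.autGroup R) where
  carrier := {β | ∀ x : R, (x : Ω)⁻¹ * (((β : MulAut R) x : R) : Ω) ∈ T}
  one_mem' := by
    intro x
    show (x : Ω)⁻¹ * (x : Ω) ∈ T
    rw [inv_mul_cancel]
    exact T.one_mem
  mul_mem' := by
    intro β₁ β₂ h₁ h₂ x
    have e : (x : Ω)⁻¹ * ((((β₁ * β₂ : F.autGroup R) : MulAut R) x : R) : Ω) =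
        ((x : Ω)⁻¹ * (((β₂ : MulAut R) x : R) : Ω)) *
          ((((β₂ : MulAut R) x : R) : Ω)⁻¹ * (((β₁ : MulAut R) ((β₂ : MulAut R) x) : R) : Ω)) := by
      rw [mul_assoc, mul_inv_cancel_left]
      rfl
    rw [e]
    exact T.mul_mem (h₂ x) (h₁ _)
  inv_mem' := by
    intro β h x
    have h1 := h ((β : MulAut R)⁻¹ x)
    rw [MulAut.apply_inv_self] at h1
    have h2 := T.inv_mem h1
    rw [mul_inv_rev, inv_inv] at h2
    exact h2

theorem mem_autTrivMod_iff (F : FusionSystem S) (T R : Subgroup Ω) (β : F.autGroup R) :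
    β ∈ autTrivMod F T R ↔ ∀ x : R, (x : Ω)⁻¹ * (((β : MulAut R) x : R) : Ω) ∈ T := Iff.rfl

theorem autTrivMod_normal (F : FusionSystem S) {T R : Subgroup Ω} (hT : F.StronglyClosed T)
    (hRS : R ≤ S) : (autTrivMod F T R).Normal := by
  constructor
  intro n hn g x
  have hg : R.subtype.comp (g : MulAut R).toMonoidHom ∈ F.Hom R := (mem_autGroup_iff F hRS _).mp g.2
  obtain ⟨y, hy⟩ : ∃ y : R, y = (g : MulAut R)⁻¹ x := ⟨_, rfl⟩
  have hx : x = (g : MulAut R) y := by rw [hy, MulAut.apply_inv_self]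
  have h1 := hn y
  have h2 : ((y⁻¹ * (n : MulAut R) y : R) : Ω) ∈ T := h1
  have h3 := fs_stronglyClosed_mem F hT hg (y⁻¹ * (n : MulAut R) y) h2
  have e : (x : Ω)⁻¹ * ((((g * n * g⁻¹ : F.autGroup R) : MulAut R) x : R) : Ω) =
      (R.subtype.comp (g : MulAut R).toMonoidHom) (y⁻¹ * (n : MulAut R) y) := by
    have e1 : ((g * n * g⁻¹ : F.autGroup R) : MulAut R) x = (g : MulAut R) ((n : MulAut R) y) := by
      rw [hy]
      rfl
    rw [e1, hx]
    show _ = (((g : MulAut R) (y⁻¹ * (n : MulAut R) y) : R) : Ω)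
    rw [map_mul, map_inv]
    rfl
  rw [e]
  exact h3

/-- If `α ∈ Aut_F(R)` normalizes a subgroup `Q'` of `Aut_S(R)` containing the automorphism induced by `g ∈ S`, then `g` lies in the
extender of `α`. -/
theorem fs_mem_extender_of_normalizes' (F : FusionSystem S) {R : Subgroup Ω}
    (Q' : Subgroup (F.autGroup R))
    (hle : Q' ≤ (autInducedBy S R).subgroupOf (F.autGroup R)) (α : F.autGroup R)
    (hα : α ∈ Subgroup.normalizer (Q' : Set (F.autGroup R)))
    (q : F.autGroup R) (hqQ : q ∈ Q') (g : Ω) (hgS : g ∈ S)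
    (Hg : ∀ x : R, (((q : MulAut R) x : R) : Ω) = g * x * g⁻¹) :
    g ∈ extender S R (R.subtype.comp (α : MulAut R).toMonoidHom) := by
  have hconj : α * q * α⁻¹ ∈ Q' := (Subgroup.mem_normalizer_iff.mp hα q).mp hqQ
  have hconjT := hle hconj
  rw [Subgroup.mem_subgroupOf, mem_autInducedBy_iff] at hconjT
  obtain ⟨h, hhS, Hh⟩ := hconjT
  have hgN : g ∈ Subgroup.normalizer (R : Set Ω) := mem_normalizer_of_induces (q : MulAut R) g Hg
  rw [mem_extender_iff]
  refine ⟨hgS, hgN, h, hhS, ?_⟩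
  intro x hx
  have h1 := Hh ((α : MulAut R) x)
  have h2 : ((α * q * α⁻¹ : F.autGroup R) : MulAut R) ((α : MulAut R) x)
      = (α : MulAut R) ((q : MulAut R) x) := by
    simp only [Subgroup.coe_mul, Subgroup.coe_inv, MulAut.mul_apply, MulAut.inv_apply_self]
  rw [h2] at h1
  have h3 : (q : MulAut R) x = ⟨g * x * g⁻¹, hx⟩ := Subtype.ext (Hg x)
  rw [h3] at h1
  exact h1

end Cfsg.Agent.Lib.Helper9
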