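import Mathlib
import Cfsg.Prelude.Def_FusionSystem
import Cfsg.Agent.Lib.Helper9.FusionLift2

set_option autoImplicit false
open Cfsg
open Cfsg.FusionSystem

/-! Every map of a saturated fusion system lifts modulo a strongly closed subgroup (main step). -/

namespace Cfsg.Agent.Lib.Helper9

variable {Ω : Type*} [Group Ω] {S : Subgroup Ω}

/-- If `T ≰ R` then some element of `N_T(R)` lies outside `R`. -/
theorem exists_mem_normalizer_not_mem [Finite S] (p : ℕ) [Fact p.Prime] (hS : IsPGroup p S)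
    (F : FusionSystem S) {T R : Subgroup Ω} (hT : F.StronglyClosed T) (hRS : R ≤ S) (hTR : ¬ T ≤ R) :
    ∃ t ∈ T, t ∈ Subgroup.normalizer (R : Set Ω) ∧ t ∉ R := by
  have hle : R ⊔ T ≤ S := sup_le hRS hT.1
  haveI : Finite ↥(R ⊔ T) := fs_finite_of_le hle
  have hp : IsPGroup p ↥(R ⊔ T) := hS.to_le hle
  have hlt : R < R ⊔ T := by
    refine lt_of_le_of_ne le_sup_left ?_
    intro h
    apply hTR
    rw [h]
    exact le_sup_right
  have h1 := fs_lt_normalizerIn p hp hlt
  obtain ⟨s, hsN, hsR⟩ := SetLike.exists_of_lt h1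
  have hRN : R ≤ Subgroup.normalizer (T : Set Ω) := hRS.trans (fs_stronglyClosed_le_normalizer F hT)
  obtain ⟨r, hr, t, ht, hrt⟩ := mem_sup_of_le_normalizer' hRN hsN.1
  have ht' : t = r⁻¹ * s := by rw [← hrt, inv_mul_cancel_left]
  refine ⟨t, ht, ?_, ?_⟩
  · rw [ht']
    exact Subgroup.mul_mem _ (Subgroup.inv_mem _ (Subgroup.le_normalizer hr)) hsN.2
  · intro htR
    apply hsR
    rw [← hrt]
    exact R.mul_mem hr htR

theorem fs_autGroup_le_liftSystem [Finite S] (p : ℕ) [Fact p.Prime] (hS : IsPGroup p S)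
    (F : FusionSystem S) (hF : F.IsSaturated p) (T : Subgroup Ω) (hT : F.StronglyClosed T)
    {R : Subgroup Ω} (hRn : F.IsFullyNormalized R)
    (IH : ∀ Q : Subgroup Ω, Q ≤ S → Nat.card R < Nat.card Q → F.Hom Q ⊆ (liftSystem F T hT).Hom Q) :
    F.autGroup R ≤ (liftSystem F T hT).autGroup R := by
  have hRS : R ≤ S := hRn.1
  haveI : Finite R := fs_finite_of_le hRS
  intro α hα
  by_cases hTR : T ≤ R
  · rw [mem_autGroup_iff _ hRS, mem_liftSystem_iff]
    have hα' := (mem_autGroup_iff F hRS α).mp hα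
    have hle : R ⊔ T ≤ R := sup_le le_rfl hTR
    refine ⟨hα', _, fs_restrict_mem F hα' hle, fun x => ?_⟩
    have e : Subgroup.inclusion hle (Subgroup.inclusion le_sup_left x) = x := Subtype.ext rfl
    show (((α x : R) : Ω))⁻¹ * ((α (Subgroup.inclusion hle (Subgroup.inclusion le_sup_left x)) : R) : Ω) ∈ T
    rw [e, inv_mul_cancel]
    exact T.one_mem
  · obtain ⟨hRc, hRa⟩ := fs_sylow_axiom p hS F hF hRn
    have hRr := fs_extension_axiom p hS F hF hRc
    obtain ⟨-, Sy, hSy⟩ := hRa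
    haveI hKn : (autTrivMod F T R).Normal := autTrivMod_normal F hT hRS
    haveI : Finite (F.autGroup R) := inferInstance
    obtain ⟨P₀, hP₀⟩ := exists_sylow_map_eq_inf Sy (autTrivMod F T R)
    have hfr := Sylow.normalizer_sup_eq_top P₀
    rw [hP₀] at hfr
    have hmem : (⟨α, hα⟩ : F.autGroup R) ∈
        Subgroup.normalizer (((Sy : Subgroup (F.autGroup R)) ⊓ autTrivMod F T R : Subgroup (F.autGroup R)) : Set (F.autGroup R))
          ⊔ autTrivMod F T R := by
      rw [hfr]; trivial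
    obtain ⟨ν, hν, κ, hκ, hνκ⟩ := Subgroup.mem_sup_of_normal_right.mp hmem
    -- `κ` lifts to the inclusion
    have hκE : (κ : MulAut R) ∈ (liftSystem F T hT).autGroup R := by
      rw [mem_autGroup_iff _ hRS, mem_liftSystem_iff]
      refine ⟨(mem_autGroup_iff F hRS _).mp κ.2, (R ⊔ T).subtype, fs_subtype_mem F (sup_le hRS hT.1),
        fun x => ?_⟩
      have h1 := T.inv_mem (hκ x)
      rw [mul_inv_rev, inv_inv] at h1
      exact h1
    -- `ν` extends to a bigger subgroup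
    obtain ⟨t, htT, htN, htR⟩ := exists_mem_normalizer_not_mem p hS F hT hRS hTR
    have htS : t ∈ S := hT.1 htT
    obtain ⟨c, hc'⟩ : ∃ c : MulAut R, c = R.normalizerMonoidHom ⟨t, htN⟩ := ⟨_, rfl⟩
    have hct : ∀ x : R, ((c x : R) : Ω) = t * x * t⁻¹ := by
      intro x; rw [hc']; rfl
    have hcS : c ∈ autInducedBy S R := by
      rw [mem_autInducedBy_iff]
      exact ⟨t, htS, hct⟩
    have hcF : c ∈ F.autGroup R := autInducedBy_le_autGroup F hRS hcS
    have hcK : (⟨c, hcF⟩ : F.autGroup R) ∈ autTrivMod F T R := by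
      intro x
      show (x : Ω)⁻¹ * ((c x : R) : Ω) ∈ T
      rw [hct]
      have hxN : (x : Ω)⁻¹ ∈ Subgroup.normalizer (T : Set Ω) :=
        fs_stronglyClosed_le_normalizer F hT (S.inv_mem (hRS x.2))
      have h1 : (x : Ω)⁻¹ * t * (x : Ω)⁻¹⁻¹ ∈ T := (Subgroup.mem_normalizer_iff.mp hxN t).mp htT
      have e : (x : Ω)⁻¹ * (t * x * t⁻¹) = ((x : Ω)⁻¹ * t * (x : Ω)⁻¹⁻¹) * t⁻¹ := by group
      rw [e]
      exact T.mul_mem h1 (T.inv_mem htT)
    have hcSy : (⟨c, hcF⟩ : F.autGroup R) ∈ (Sy : Subgroup (F.autGroup R)) := by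
      rw [hSy, Subgroup.mem_subgroupOf]
      exact hcS
    have hext := fs_mem_extender_of_normalizes' F
      ((Sy : Subgroup (F.autGroup R)) ⊓ autTrivMod F T R)
      (by rw [← hSy]; exact inf_le_left) ν hν ⟨c, hcF⟩ ⟨hcSy, hcK⟩ t htS hct
    have hνE : (ν : MulAut R) ∈ (liftSystem F T hT).autGroup R :=
      fs_aut_mem_of_extender_gt F _ hRr ν.2 IH hext htR
    have : α = (ν : MulAut R) * (κ : MulAut R) := by
      have := congrArg Subtype.val hνκ
      exact this.symm
    rw [this]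
    exact Subgroup.mul_mem _ hνE hκE

/-- **Lifting modulo a strongly closed subgroup**: every map `φ` of a saturated fusion system with source `P` has a lift
`ψ` defined on `P T` which agrees with `φ` modulo `T`. -/
theorem fs_exists_lift [Finite S] (p : ℕ) [Fact p.Prime] (hS : IsPGroup p S)
    (F : FusionSystem S) (hF : F.IsSaturated p) (T : Subgroup Ω) (hT : F.StronglyClosed T)
    {P : Subgroup Ω} {φ : P →* Ω} (hφ : φ ∈ F.Hom P) :
    ∃ ψ ∈ F.Hom (P ⊔ T), ∀ x : P, (φ x)⁻¹ * ψ (Subgroup.inclusion le_sup_left x) ∈ T := by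
  have h := fs_le_of_autGroup_le p hS F (liftSystem F T hT) hF
    (fun R hRn IH => fs_autGroup_le_liftSystem p hS F hF T hT hRn IH) _ P φ hφ rfl
  exact h.2

end Cfsg.Agent.Lib.Helper9
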