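import Mathlib
import Cfsg.Prelude
import Cfsg.Agent.Lib.Helper7.OSubDefs
import Cfsg.Agent.Lib.Helper3.OSub_BCA
import Cfsg.Agent.Lib.Helper3.OSub_COEF

set_option autoImplicit false
set_option linter.unusedSectionVars false
set_option linter.unusedVariables false

/-! S5683 / S5702 PK-NKO : (RLO) implies (NKO).  An element `g` of `M` mapping one rational totally
singular line into the perp of a non-zero rational singular vector maps every rational totally singular
line to a rational line (propagation through rational hyperbolic pairs), hence lies in `N` (PK-COEF). -/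

namespace Cfsg.Agent.Lib.Helper7.OSub

open Matrix Cfsg.Agent.Lib.Helper7.Subg Cfsg.Agent.Lib.Helper2.LongRoot Cfsg.Agent.Lib.Helper2.OmMin
  Cfsg.Agent.Lib.Helper2.CDG

variable {F : Type*} [Field F] [Fintype F] {ι : Type} [Fintype ι] [DecidableEq ι]
variable {Q : QuadraticForm F (ι → F)}

namespace PkNKO

/-- a totally singular pair spanning a rational line: the line contains a non-zero rational vector,
singular and orthogonal to everything orthogonal to the pair -/
theorem exists_rat_in_line {F₀ : Subfield F} {x y : ι → F} (h : TSP Q x y)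
    (hl : RatLine F₀ x y) :
    ∃ r : ι → F, Rat F₀ r ∧ r ≠ 0 ∧ Q r = 0 ∧
      ∀ z : ι → F, QuadraticMap.polar (⇑Q) x z = 0 → QuadraticMap.polar (⇑Q) y z = 0 →
        QuadraticMap.polar (⇑Q) r z = 0 := by
  obtain ⟨hQx, hQy, hxy, hind⟩ := h
  obtain ⟨r₁, r₂, a, b, c, d, hr₁, hr₂, hx, hy⟩ := hl
  have hΔ : a * d - b * c ≠ 0 := by
    intro hΔ
    have e1 : d • x + (-b) • y = 0 := by
      have e : d • (a • r₁ + b • r₂) + (-b) • (c • r₁ + d • r₂) = (a * d - b * c) • r₁ := by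
        module
      rw [hx, hy, e, hΔ, zero_smul]
    have e2 : (-c) • x + a • y = 0 := by
      have e : (-c) • (a • r₁ + b • r₂) + a • (c • r₁ + d • r₂) = (a * d - b * c) • r₂ := by
        module
      rw [hx, hy, e, hΔ, zero_smul]
    obtain ⟨hd, hb⟩ := hind _ _ e1
    obtain ⟨hc, ha⟩ := hind _ _ e2
    have hx0 : x = 0 := by
      rw [hx, ha, neg_eq_zero.mp hb, zero_smul, zero_smul, add_zero]
    have := hind 1 0 (by rw [hx0]; simp)
    exact one_ne_zero this.1
  set s : F := (a * d - b * c)⁻¹ * d with hs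
  set t : F := -((a * d - b * c)⁻¹ * b) with ht
  have hr : r₁ = s • x + t • y := by
    have e : s • (a • r₁ + b • r₂) + t • (c • r₁ + d • r₂)
        = ((a * d - b * c)⁻¹ * (a * d - b * c)) • r₁ := by
      rw [hs, ht]; module
    rw [hx, hy, e, inv_mul_cancel₀ hΔ, one_smul]
  refine ⟨r₁, hr₁, ?_, ?_, ?_⟩
  · intro h0
    rw [h0] at hr
    obtain ⟨hs0, ht0⟩ := hind s t hr.symm
    apply hΔ
    have hd : d = 0 := by
      rcases mul_eq_zero.mp hs0 with h | h
      · exact absurd (inv_eq_zero.mp h) hΔ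
      · exact h
    have hb : b = 0 := by
      rcases mul_eq_zero.mp (neg_eq_zero.mp ht0) with h | h
      · exact absurd (inv_eq_zero.mp h) hΔ
      · exact h
    rw [hd, hb]; ring
  · rw [hr, QuadraticMap.map_add Q, QuadraticMap.map_smul, QuadraticMap.map_smul, hQx, hQy,
      QuadraticMap.polar_smul_left, QuadraticMap.polar_smul_right, hxy]
    simp
  · intro z hxz hyz
    rw [hr, QuadraticMap.polar_add_left, QuadraticMap.polar_smul_left, QuadraticMap.polar_smul_left,
      hxz, hyz]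
    simp

/-- the image of a rational totally singular line under `g ∈ M` is rational as soon as it is
orthogonal to a non-zero rational singular vector -/
theorem ratLine_img (hQ : (QuadraticMap.polarBilin Q).Nondegenerate) {F₀ : Subfield F}
    {M : Subgroup ↥(Cfsg.isometryGroup F ⇑Q)} (hE : HasRatE hQ F₀ M) (hRLO : RLO hQ F₀ M)
    {g : ↥(Cfsg.isometryGroup F ⇑Q)} (hg : g ∈ M) {u w x₀ : ι → F} (huw : RTSP F₀ Q u w)
    (hx₀r : Rat F₀ x₀) (hx₀0 : x₀ ≠ 0) (hQx₀ : Q x₀ = 0)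
    (h1 : QuadraticMap.polar (⇑Q) x₀ (mat g *ᵥ u) = 0)
    (h2 : QuadraticMap.polar (⇑Q) x₀ (mat g *ᵥ w) = 0) :
    RatLine F₀ (mat g *ᵥ u) (mat g *ᵥ w) := by
  apply hRLO (mat g *ᵥ u) (mat g *ᵥ w) x₀ (huw.2.2.map g) hx₀r hx₀0 hQx₀ h1 h2
  rw [← eich_conj']
  exact M.mul_mem (M.mul_mem hg (hE u w huw.1 huw.2.1)) (M.inv_mem hg)

/-- propagation: from a rational image line to the image of an orthogonal rational totally singular
line -/
theorem ratLine_step (hQ : (QuadraticMap.polarBilin Q).Nondegenerate) {F₀ : Subfield F}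
    {M : Subgroup ↥(Cfsg.isometryGroup F ⇑Q)} (hE : HasRatE hQ F₀ M) (hRLO : RLO hQ F₀ M)
    {g : ↥(Cfsg.isometryGroup F ⇑Q)} (hg : g ∈ M) {u w p p' : ι → F} (huw : TSP Q u w)
    (hpp' : RTSP F₀ Q p p')
    (hup : QuadraticMap.polar (⇑Q) u p = 0) (hwp : QuadraticMap.polar (⇑Q) w p = 0)
    (hup' : QuadraticMap.polar (⇑Q) u p' = 0) (hwp' : QuadraticMap.polar (⇑Q) w p' = 0)
    (hl : RatLine F₀ (mat g *ᵥ u) (mat g *ᵥ w)) :
    RatLine F₀ (mat g *ᵥ p) (mat g *ᵥ p') := by
  obtain ⟨r, hrr, hr0, hQr, hperp⟩ := exists_rat_in_line (huw.map g) hl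
  apply ratLine_img hQ hE hRLO hg hpp' hrr hr0 hQr
  · apply hperp
    · rw [iso_polar]; exact hup
    · rw [iso_polar]; exact hwp
  · apply hperp
    · rw [iso_polar]; exact hup'
    · rw [iso_polar]; exact hwp'

end PkNKO

open PkNKO

theorem nko_of_rlo (hQ : (QuadraticMap.polarBilin Q).Nondegenerate) (F₀ : Subfield F)
    (M : Subgroup ↥(Cfsg.isometryGroup F ⇑Q)) (hR : RatQ F₀ Q) (hn : 13 ≤ Fintype.card ι)
    (hE : HasRatE hQ F₀ M) (hRLO : RLO hQ F₀ M) : NKO F₀ M := by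
  intro g hg u w x₀ huw hx₀r hx₀0 hQx₀ h1 h2
  apply inN_of_linesRat hQ F₀ hR (by omega) g
  intro u₁ w₁ h₁
  have hA : RatLine F₀ (mat g *ᵥ u) (mat g *ᵥ w) :=
    ratLine_img hQ hE hRLO hg huw hx₀r hx₀0 hQx₀ h1 h2
  obtain ⟨hur, hwr, huwT⟩ := huw
  obtain ⟨hur₁, hwr₁, huwT₁⟩ := h₁
  obtain ⟨p, q, hpr, hqr, hQp, hQq, hpq, hperp⟩ :=
    rat_hyp_perp hQ F₀ hR (k := 4) ![u, w, u₁, w₁] (by
      intro i; fin_cases i
      · exact hur
      · exact hwr
      · exact hur₁
      · exact hwr₁) (by omega)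
  obtain ⟨p', q', hpr', hqr', hQp', hQq', hpq', hperp'⟩ :=
    rat_hyp_perp hQ F₀ hR (k := 5) ![u, w, u₁, w₁, p] (by
      intro i; fin_cases i
      · exact hur
      · exact hwr
      · exact hur₁
      · exact hwr₁
      · exact hpr) (by omega)
  have hup : QuadraticMap.polar (⇑Q) u p = 0 := (hperp 0).1
  have hwp : QuadraticMap.polar (⇑Q) w p = 0 := (hperp 1).1
  have hu₁p : QuadraticMap.polar (⇑Q) u₁ p = 0 := (hperp 2).1
  have hw₁p : QuadraticMap.polar (⇑Q) w₁ p = 0 := (hperp 3).1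
  have hup' : QuadraticMap.polar (⇑Q) u p' = 0 := (hperp' 0).1
  have hwp' : QuadraticMap.polar (⇑Q) w p' = 0 := (hperp' 1).1
  have hu₁p' : QuadraticMap.polar (⇑Q) u₁ p' = 0 := (hperp' 2).1
  have hw₁p' : QuadraticMap.polar (⇑Q) w₁ p' = 0 := (hperp' 3).1
  have hpp' : QuadraticMap.polar (⇑Q) p p' = 0 := (hperp' 4).1
  have hpq2 : QuadraticMap.polar (⇑Q) p q' = 0 := (hperp' 4).2
  have hp0 : p ≠ 0 := by
    rintro rfl
    rw [QuadraticMap.polar_zero_left] at hpq
    exact zero_ne_one hpq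
  have hT : RTSP F₀ Q p p' := by
    refine ⟨hpr, hpr', hQp, hQp', hpp', fun s t hst => ?_⟩
    have e := congrArg (fun v => QuadraticMap.polar (⇑Q) v q') hst
    simp only [QuadraticMap.polar_add_left, QuadraticMap.polar_smul_left, hpq2, hpq',
      QuadraticMap.polar_zero_left, smul_eq_mul, mul_zero, mul_one, zero_add] at e
    have ht : t = 0 := e
    refine ⟨?_, ht⟩
    rw [ht, zero_smul, add_zero] at hst
    exact (smul_eq_zero.mp hst).resolve_right hp0
  have hB : RatLine F₀ (mat g *ᵥ p) (mat g *ᵥ p') :=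
    ratLine_step hQ hE hRLO hg huwT hT hup hwp hup' hwp' hA
  exact ratLine_step hQ hE hRLO hg hT.2.2 ⟨hur₁, hwr₁, huwT₁⟩
    (by rw [QuadraticMap.polar_comm]; exact hu₁p) (by rw [QuadraticMap.polar_comm]; exact hu₁p')
    (by rw [QuadraticMap.polar_comm]; exact hw₁p) (by rw [QuadraticMap.polar_comm]; exact hw₁p') hB

end Cfsg.Agent.Lib.Helper7.OSub
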