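import Mathlib
import Cfsg.Agent.Lib.Helper4.PQDefs
import Cfsg.Agent.Lib.Helper2.PQA
import Cfsg.Agent.Lib.Helper2.SecMod
import Cfsg.Agent.Lib.Helper8.WardA
import Cfsg.Agent.Lib.Lead.CoprimeAction

/-!
# S4306, package T-struct (T4)–(T6): structure of a tower
-/

set_option autoImplicit false
set_option linter.unusedSectionVars false
set_option linter.unusedVariables false

namespace Cfsg.Agent.Lib.Helper9.PQT

open Cfsg.Agent.Lib.Helper4.PQ Cfsg.Agent.Lib.Helper2.PQA Cfsg.Agent.Lib.Helper8.Ward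

universe u w

section frob

variable {T : Type w} [Group T] [Finite T] {A F H₀ : Subgroup T} {p q : ℕ}

/-- bridge to helper2's vocabulary -/
theorem FrobPQ.isPQ (h : FrobPQ A F H₀ p q) : IsPQ p q F H₀ := by
  refine ⟨h.hp, h.hq, h.hF, h.hH, fun x hx f hf => h.hFn x (h.hHA hx) f hf, ?_⟩
  obtain ⟨x, hx, hx1⟩ := exists_ne_one_of_card_prime h.hp h.hH
  obtain ⟨f, hf, hf1⟩ := exists_ne_one_of_card_prime h.hq h.hF
  exact ⟨x, hx, f, hf, fun hc => hf1 (h.hfpf x hx hx1 f hf hc)⟩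

theorem FrobPQ.sup_eq (h : FrobPQ A F H₀ p q) : F ⊔ H₀ = A := by
  apply Subgroup.eq_of_le_of_card_ge (sup_le h.hFA h.hHA)
  rw [(FrobPQ.isPQ h).card_sup, h.hA]

end frob

section basics

variable {T : Type w} [Group T] [Finite T]

theorem le_normalizer_of_conj {K N : Subgroup T} (h : ∀ k ∈ K, ∀ n ∈ N, k * n * k⁻¹ ∈ N) :
    K ≤ Subgroup.normalizer (N : Set T) := by
  intro k hk
  rw [Subgroup.mem_normalizer_iff]
  intro n
  refine ⟨h k hk n, fun hn => ?_⟩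
  have := h k⁻¹ (K.inv_mem hk) _ hn
  have e : k⁻¹ * (k * n * k⁻¹) * k⁻¹⁻¹ = n := by group
  rwa [e] at this

/-- fixed points on `S / D` lift (coprime action). -/
theorem fix_coset {A' S D : Subgroup T} (hA'S : ∀ a ∈ A', ∀ y ∈ S, a * y * a⁻¹ ∈ S)
    (hcop : (Nat.card A').Coprime (Nat.card S)) (hsolv : Group.IsSolvable S) (hDS : D ≤ S)
    (hDn : ∀ x ∈ S, ∀ d ∈ D, x * d * x⁻¹ ∈ D) (htriv : A' ≤ trivMod S D hDS) {k : T}
    (hk : k ∈ S) : ∃ c ∈ S, (∀ a ∈ A', a * c = c * a) ∧ k⁻¹ * c ∈ D := by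
  obtain ⟨c, hc, hkc⟩ := Cfsg.Agent.Lib.Lead.coprime_fixed_coset A' S (le_normalizer_of_conj hA'S)
    hcop (Or.inr hsolv) D hDS (le_normalizer_of_conj hDn)
    (le_normalizer_of_conj (fun a ha d hd => conj_mem_Y_of_mem_trivMod (htriv ha) hd)) k hk
    (fun a ha => htriv ha k hk)
  exact ⟨c, hc.1, fun a ha => Subgroup.mem_centralizer_iff.1 hc.2 a ha, hkc⟩

/-- a non-trivial central element of the `s`-group `S / C` -/
theorem exists_central_mod {s : ℕ} (hs : s.Prime) {S C : Subgroup T} (hS : IsPGroup s S)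
    (hCS : C ≤ S) (hCn : ∀ x ∈ S, ∀ c ∈ C, x * c * x⁻¹ ∈ C) (hne : ¬ S ≤ C) :
    ∃ z ∈ S, z ∉ C ∧ ∀ y ∈ S, z * y * z⁻¹ * y⁻¹ ∈ C := by
  have : Fact s.Prime := ⟨hs⟩
  let N : Subgroup S := C.subgroupOf S
  have hN : N.Normal := ⟨by
    intro n hn g
    rw [Subgroup.mem_subgroupOf] at hn ⊢
    simpa using hCn g g.2 n hn⟩
  have : Nontrivial (S ⧸ N) := by
    by_contra hcon
    rw [not_nontrivial_iff_subsingleton] at hcon
    apply hne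
    intro x hx
    have : (QuotientGroup.mk (⟨x, hx⟩ : S) : S ⧸ N) = 1 := Subsingleton.elim _ _
    rw [QuotientGroup.eq_one_iff, Subgroup.mem_subgroupOf] at this
    exact this
  have hP : IsPGroup s (S ⧸ N) := hS.to_quotient N
  have hcn : Nontrivial (Subgroup.center (S ⧸ N)) := hP.center_nontrivial
  obtain ⟨⟨zb, hzb⟩, hzb1⟩ := exists_ne (1 : Subgroup.center (S ⧸ N))
  obtain ⟨z, rfl⟩ := QuotientGroup.mk_surjective zb
  refine ⟨z, z.2, ?_, fun y hy => ?_⟩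
  · intro hz
    apply hzb1
    apply Subtype.ext
    change (QuotientGroup.mk z : S ⧸ N) = 1
    rw [QuotientGroup.eq_one_iff, Subgroup.mem_subgroupOf]
    exact hz
  · have h1 := Subgroup.mem_center_iff.1 hzb (QuotientGroup.mk (⟨y, hy⟩ : S))
    have h2 : (QuotientGroup.mk (z * ⟨y, hy⟩ * z⁻¹ * (⟨y, hy⟩ : S)⁻¹) : S ⧸ N) = 1 := by
      rw [QuotientGroup.mk_mul, QuotientGroup.mk_mul, QuotientGroup.mk_mul, QuotientGroup.mk_inv,
        QuotientGroup.mk_inv, ← h1]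
      group
    rw [QuotientGroup.eq_one_iff, Subgroup.mem_subgroupOf] at h2
    simpa using h2

/-- the preimage in `S` of the fixed points of `A'` on `S / C`. -/
def fixMod (A' C S : Subgroup T) (hCn : ∀ x ∈ S, ∀ c ∈ C, x * c * x⁻¹ ∈ C) : Subgroup T where
  carrier := {x | x ∈ S ∧ ∀ a ∈ A', a * x * a⁻¹ * x⁻¹ ∈ C}
  one_mem' := ⟨S.one_mem, fun a _ => by simp⟩
  mul_mem' := by
    rintro x y ⟨hx, hx'⟩ ⟨hy, hy'⟩
    refine ⟨S.mul_mem hx hy, fun a ha => ?_⟩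
    have e : a * (x * y) * a⁻¹ * (x * y)⁻¹ = (a * x * a⁻¹ * x⁻¹) * (x * (a * y * a⁻¹ * y⁻¹) * x⁻¹) := by
      group
    rw [e]
    exact C.mul_mem (hx' a ha) (hCn x hx _ (hy' a ha))
  inv_mem' := by
    rintro x ⟨hx, hx'⟩
    refine ⟨S.inv_mem hx, fun a ha => ?_⟩
    have e : a * x⁻¹ * a⁻¹ * x⁻¹⁻¹ = x⁻¹ * (a * x * a⁻¹ * x⁻¹)⁻¹ * x⁻¹⁻¹ := by group
    rw [e]
    exact hCn x⁻¹ (S.inv_mem hx) _ (C.inv_mem (hx' a ha))

theorem mem_fixMod {A' C S : Subgroup T} {hCn : ∀ x ∈ S, ∀ c ∈ C, x * c * x⁻¹ ∈ C} {x : T} :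
    x ∈ fixMod A' C S hCn ↔ x ∈ S ∧ ∀ a ∈ A', a * x * a⁻¹ * x⁻¹ ∈ C := Iff.rfl

open Cfsg.Agent.Lib.Helper2.SecMod in
theorem cls_pow {Q Z N : Subgroup T} (sec : Sec Q Z N) (x : ↥Q) (n : ℕ) :
    sec.cls (x ^ n) = n • sec.cls x := by
  induction n with
  | zero =>
    rw [pow_zero, zero_smul]
    exact sec.cls_eq_zero.2 Z.one_mem
  | succ n ih => rw [pow_succ, sec.cls_mul, ih, succ_nsmul]

open Cfsg.Agent.Lib.Helper2.SecMod in
/-- in an abelian section the `n`-th power map is a homomorphism -/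
theorem mul_pow_mem {S C : Subgroup T} (hCS : C ≤ S)
    (hab : ∀ x ∈ S, ∀ y ∈ S, x * y * x⁻¹ * y⁻¹ ∈ C) {x y : T} (hx : x ∈ S) (hy : y ∈ S) (n : ℕ)
    (hxn : x ^ n ∈ C) (hyn : y ^ n ∈ C) : (x * y) ^ n ∈ C := by
  have sec := sec_NN hCS hab
  have h1 : sec.cls ((⟨x, hx⟩ * ⟨y, hy⟩ : S) ^ n) = 0 := by
    rw [cls_pow, sec.cls_mul, smul_add, ← cls_pow, ← cls_pow]
    have e1 : sec.cls ((⟨x, hx⟩ : S) ^ n) = 0 := sec.cls_eq_zero.2 (by simpa using hxn)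
    have e2 : sec.cls ((⟨y, hy⟩ : S) ^ n) = 0 := sec.cls_eq_zero.2 (by simpa using hyn)
    rw [e1, e2, add_zero]
  have h2 := sec.cls_eq_zero.1 h1
  simpa using h2

/-- the stabilizer in `A` of the coset `c C` -/
def stabMod (A C : Subgroup T) (c : T) (hAC : ∀ a ∈ A, ∀ x ∈ C, a * x * a⁻¹ ∈ C) : Subgroup T where
  carrier := {a | a ∈ A ∧ a * c * a⁻¹ * c⁻¹ ∈ C}
  one_mem' := ⟨A.one_mem, by simp⟩
  mul_mem' := by
    rintro a b ⟨ha, ha'⟩ ⟨hb, hb'⟩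
    refine ⟨A.mul_mem ha hb, ?_⟩
    have e : a * b * c * (a * b)⁻¹ * c⁻¹ = a * (b * c * b⁻¹ * c⁻¹) * a⁻¹ * (a * c * a⁻¹ * c⁻¹) := by
      group
    rw [e]
    exact C.mul_mem (hAC a ha _ hb') ha'
  inv_mem' := by
    rintro a ⟨ha, ha'⟩
    refine ⟨A.inv_mem ha, ?_⟩
    have e : a⁻¹ * c * a⁻¹⁻¹ * c⁻¹ = a⁻¹ * (a * c * a⁻¹ * c⁻¹)⁻¹ * a⁻¹⁻¹ := by group
    rw [e]
    exact hAC a⁻¹ (A.inv_mem ha) _ (C.inv_mem ha')

open Cfsg.Agent.Lib.Helper2.SecMod in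
theorem cls_inv {Q Z N : Subgroup T} (sec : Sec Q Z N) (x : ↥Q) :
    sec.cls x⁻¹ = - sec.cls x := by
  have h1 : sec.cls (x * x⁻¹) = 0 := by
    rw [mul_inv_cancel]; exact sec.cls_eq_zero.2 Z.one_mem
  rw [sec.cls_mul] at h1
  exact (neg_eq_of_add_eq_zero_right h1).symm

open Cfsg.Agent.Lib.Helper2.SecMod in
/-- an element acting without fixed points on the abelian section `S / C` has `S = [S,a] C` -/
theorem comm_surj_of_fpf {S C : Subgroup T} (hCS : C ≤ S)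
    (hab : ∀ x ∈ S, ∀ y ∈ S, x * y * x⁻¹ * y⁻¹ ∈ C) {a : T} (haS : ∀ y ∈ S, a * y * a⁻¹ ∈ S)
    (haC : ∀ c ∈ C, a * c * a⁻¹ ∈ C) (hfpf : ∀ c ∈ S, a * c * a⁻¹ * c⁻¹ ∈ C → c ∈ C) :
    ∀ c ∈ S, ∃ d ∈ S, ∃ e ∈ C, c = (a * d * a⁻¹ * d⁻¹) * e := by
  have sec := sec_NN hCS hab
  have haN : a ∈ NN S C := mem_NN haS haC
  let φ : sec.M →+ sec.M :=
    DistribSMul.toAddMonoidHom sec.M (⟨a, haN⟩ : NN S C) - AddMonoidHom.id sec.M
  have hφ : ∀ m, φ m = (⟨a, haN⟩ : NN S C) • m - m := fun m => rfl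
  have hinj : Function.Injective φ := by
    rw [injective_iff_map_eq_zero]
    intro m hm
    rw [hφ, sub_eq_zero] at hm
    obtain ⟨y, rfl⟩ := sec.cls_surjective m
    rw [sec.smul_cls_eq_iff] at hm
    exact sec.cls_eq_zero.2 (hfpf y y.2 hm)
  have hsurj : Function.Surjective φ := Finite.surjective_of_injective hinj
  intro c hc
  obtain ⟨m, hm⟩ := hsurj (sec.cls ⟨c, hc⟩)
  obtain ⟨d, rfl⟩ := sec.cls_surjective m
  rw [hφ, sec.smul_cls, sub_eq_add_neg, ← cls_inv, ← sec.cls_mul, sec.cls_eq_cls] at hm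
  refine ⟨d, d.2, (a * d * a⁻¹ * (d : T)⁻¹)⁻¹ * c, ?_, by group⟩
  have := C.inv_mem hm
  simp only [Subgroup.coe_mul, Subgroup.coe_inv, Sec.conjQ_coe] at this
  have e : (a * d * a⁻¹ * (d : T)⁻¹)⁻¹ * c = ((a * ↑d * a⁻¹ * (↑d)⁻¹)⁻¹ * c)⁻¹⁻¹ := by group
  rw [e]
  exact C.inv_mem this

end basics

section tower

variable {V : Type u} [AddCommGroup V] [Finite V] {T : Type w} [Group T] [Finite T]
  [DistribMulAction T V] {r t s p q : ℕ} {Q S A F H₀ : Subgroup T}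

theorem Tower.conjQ (h : Tower V r t s p q Q S A F H₀) (g : T) {u : T} (hu : u ∈ Q) :
    g * u * g⁻¹ ∈ Q := h.hQn.conj_mem u hu g

theorem Tower.conjQ' (h : Tower V r t s p q Q S A F H₀) (g : T) {u : T} (hu : u ∈ Q) :
    g⁻¹ * u * g ∈ Q := by
  have := h.hQn.conj_mem u hu g⁻¹
  rwa [inv_inv] at this

theorem Tower.AS' (h : Tower V r t s p q Q S A F H₀) {a c : T} (ha : a ∈ A) (hc : c ∈ S) :
    a⁻¹ * c * a ∈ S := by
  have := h.hAS a⁻¹ (A.inv_mem ha) c hc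
  rwa [inv_inv] at this

theorem Tower.card_S (h : Tower V r t s p q Q S A F H₀) : ∃ n, Nat.card S = s ^ n := by
  have : Fact s.Prime := ⟨h.hs⟩
  exact IsPGroup.iff_card.1 h.hS

theorem Tower.card_Q (h : Tower V r t s p q Q S A F H₀) : ∃ n, Nat.card Q = t ^ n := by
  have : Fact t.Prime := ⟨h.ht⟩
  exact IsPGroup.iff_card.1 h.hQ

theorem Tower.cop_AS (h : Tower V r t s p q Q S A F H₀) : (Nat.card A).Coprime (Nat.card S) := by
  obtain ⟨n, hn⟩ := Tower.card_S h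
  rw [h.frob.hA, hn]
  exact (Nat.Coprime.pow_left n h.hsA).symm

theorem Tower.cop_AQ (h : Tower V r t s p q Q S A F H₀) : (Nat.card A).Coprime (Nat.card Q) := by
  obtain ⟨n, hn⟩ := Tower.card_Q h
  rw [h.frob.hA, hn]
  exact (Nat.Coprime.pow_left n h.htA).symm

theorem Tower.cop_SQ (h : Tower V r t s p q Q S A F H₀) : (Nat.card S).Coprime (Nat.card Q) := by
  obtain ⟨n, hn⟩ := Tower.card_Q h
  obtain ⟨m, hm⟩ := Tower.card_S h
  rw [hn, hm]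
  exact Nat.Coprime.pow _ _ ((Nat.coprime_primes h.hs h.ht).2 (Ne.symm h.hts))

theorem Tower.cop_sub_S (h : Tower V r t s p q Q S A F H₀) {A' : Subgroup T} (hA' : A' ≤ A) :
    (Nat.card A').Coprime (Nat.card S) :=
  Nat.Coprime.coprime_dvd_left (Subgroup.card_dvd_of_le hA') (Tower.cop_AS h)

theorem Tower.cop_sub_Q (h : Tower V r t s p q Q S A F H₀) {A' : Subgroup T} (hA' : A' ≤ A) :
    (Nat.card A').Coprime (Nat.card Q) :=
  Nat.Coprime.coprime_dvd_left (Subgroup.card_dvd_of_le hA') (Tower.cop_AQ h)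

theorem Tower.solvS (h : Tower V r t s p q Q S A F H₀) : Group.IsSolvable S := by
  have : Fact s.Prime := ⟨h.hs⟩
  have := h.hS.isNilpotent
  infer_instance

theorem Tower.solvQ (h : Tower V r t s p q Q S A F H₀) : Group.IsSolvable Q := by
  have : Fact t.Prime := ⟨h.ht⟩
  have := h.hQ.isNilpotent
  infer_instance

theorem Tower.not_S_le_CS (h : Tower V r t s p q Q S A F H₀) : ¬ S ≤ CS Q S := by
  intro hle
  obtain ⟨u, hu, c, hc, huc⟩ := h.hQS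
  exact huc ((mem_CS.1 (hle hc)).2 u hu)

/-- `C_S(Q)` is normalized by every element normalizing `S`. -/
theorem Tower.CS_conj (h : Tower V r t s p q Q S A F H₀) {g c : T}
    (hg : ∀ y ∈ S, g * y * g⁻¹ ∈ S) (hc : c ∈ CS Q S) : g * c * g⁻¹ ∈ CS Q S := by
  obtain ⟨hcS, hcQ⟩ := mem_CS.1 hc
  refine mem_CS.2 ⟨hg c hcS, fun u hu => ?_⟩
  have h1 := hcQ _ (Tower.conjQ' h g hu)
  have e1 : u * (g * c * g⁻¹) = g * ((g⁻¹ * u * g) * c) * g⁻¹ := by group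
  have e2 : g * c * g⁻¹ * u = g * (c * (g⁻¹ * u * g)) * g⁻¹ := by group
  rw [e1, e2, h1]

theorem Tower.CS_S (h : Tower V r t s p q Q S A F H₀) {x c : T} (hx : x ∈ S)
    (hc : c ∈ CS Q S) : x * c * x⁻¹ ∈ CS Q S :=
  Tower.CS_conj h (fun y hy => S.mul_mem (S.mul_mem hx hy) (S.inv_mem hx)) hc

theorem Tower.CS_A (h : Tower V r t s p q Q S A F H₀) {a c : T} (ha : a ∈ A)
    (hc : c ∈ CS Q S) : a * c * a⁻¹ ∈ CS Q S :=
  Tower.CS_conj h (h.hAS a ha) hc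

theorem CS_le (Q S : Subgroup T) : CS Q S ≤ S := inf_le_left

/-- (T4) -/
theorem Tower.S_comm_mem_CS (h : Tower V r t s p q Q S A F H₀) :
    ∀ c ∈ S, ∀ d ∈ S, c * d * c⁻¹ * d⁻¹ ∈ CS Q S := by
  let S₁ : Subgroup T := S ⊓ trivMod S (CS Q S) (CS_le Q S)
  have hS₁A : ∀ a ∈ A, ∀ c ∈ S₁, a * c * a⁻¹ ∈ S₁ := by
    intro a ha c hc
    refine ⟨h.hAS a ha c hc.1, fun y hy => ?_⟩
    have h1 := hc.2 _ (Tower.AS' h ha hy)
    have h2 := Tower.CS_A h ha h1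
    have e : a * c * a⁻¹ * y * (a * c * a⁻¹)⁻¹ * y⁻¹ =
        a * (c * (a⁻¹ * y * a) * c⁻¹ * (a⁻¹ * y * a)⁻¹) * a⁻¹ := by group
    rw [e]; exact h2
  by_cases hS₁ : S₁ = S
  · intro c hc d hd
    have hc' : c ∈ S₁ := by rw [hS₁]; exact hc
    exact hc'.2 d hd
  · exfalso
    have h1 := h.hmin1 S₁ inf_le_left hS₁ hS₁A
    obtain ⟨z, hzS, hzC, hz⟩ := exists_central_mod h.hs h.hS (CS_le Q S)
      (fun x hx c hc => Tower.CS_S h hx hc) (Tower.not_S_le_CS h)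
    exact hzC (mem_CS.2 ⟨hzS, fun u hu => h1 u hu z ⟨hzS, hz⟩⟩)

theorem Tower.S_pow_mem_CS (h : Tower V r t s p q Q S A F H₀) : ∀ c ∈ S, c ^ s ∈ CS Q S := by
  have hab := Tower.S_comm_mem_CS h
  let S₁ : Subgroup T :=
    { carrier := {x | x ∈ S ∧ x ^ s ∈ CS Q S}
      one_mem' := ⟨S.one_mem, by rw [one_pow]; exact (CS Q S).one_mem⟩
      mul_mem' := by
        rintro x y ⟨hx, hx'⟩ ⟨hy, hy'⟩
        exact ⟨S.mul_mem hx hy, mul_pow_mem (CS_le Q S) hab hx hy s hx' hy'⟩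
      inv_mem' := by
        rintro x ⟨hx, hx'⟩
        refine ⟨S.inv_mem hx, ?_⟩
        rw [inv_pow]
        exact (CS Q S).inv_mem hx' }
  have hS₁A : ∀ a ∈ A, ∀ c ∈ S₁, a * c * a⁻¹ ∈ S₁ := by
    intro a ha c hc
    refine ⟨h.hAS a ha c hc.1, ?_⟩
    rw [conj_pow]
    exact Tower.CS_A h ha hc.2
  by_cases hS₁ : S₁ = S
  · intro c hc
    have hc' : c ∈ S₁ := by rw [hS₁]; exact hc
    exact hc'.2
  · exfalso
    have h1 := h.hmin1 S₁ (fun x hx => hx.1) hS₁ hS₁A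
    obtain ⟨x, hxS, hxC⟩ := SetLike.not_le_iff_exists.1 (Tower.not_S_le_CS h)
    have hex : ∃ k, x ^ s ^ k ∈ CS Q S := by
      obtain ⟨k, hk⟩ := h.hS ⟨x, hxS⟩
      refine ⟨k, ?_⟩
      have : x ^ s ^ k = 1 := by
        have := congrArg Subtype.val hk
        simpa using this
      rw [this]; exact (CS Q S).one_mem
    classical
    have hk0 : Nat.find hex ≠ 0 := by
      intro h0
      have := Nat.find_spec hex
      rw [h0, pow_zero, pow_one] at this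
      exact hxC this
    obtain ⟨k, hk⟩ := Nat.exists_eq_succ_of_ne_zero hk0
    have hmin : ¬ x ^ s ^ k ∈ CS Q S := Nat.find_min hex (by omega)
    have hspec := Nat.find_spec hex
    rw [hk, Nat.succ_eq_add_one, pow_succ, pow_mul] at hspec
    have hy : x ^ s ^ k ∈ S₁ := ⟨S.pow_mem hxS _, hspec⟩
    exact hmin (mem_CS.2 ⟨hy.1, fun u hu => h1 u hu _ hy⟩)

/-- (T4) `C_{S/C_S}(A) = 1` -/
theorem Tower.mem_CS_of_comm_A (h : Tower V r t s p q Q S A F H₀) {c : T} (hc : c ∈ S)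
    (hA : ∀ a ∈ A, a * c * a⁻¹ * c⁻¹ ∈ CS Q S) : c ∈ CS Q S := by
  let S₁ := fixMod A (CS Q S) S (fun x hx c hc => Tower.CS_S h hx hc)
  have hS₁A : ∀ a ∈ A, ∀ c ∈ S₁, a * c * a⁻¹ ∈ S₁ := by
    intro a' ha' x hx
    refine ⟨h.hAS a' ha' x hx.1, fun a ha => ?_⟩
    have h1 := hx.2 (a'⁻¹ * a * a') (A.mul_mem (A.mul_mem (A.inv_mem ha') ha) ha')
    have h2 := Tower.CS_A h ha' h1
    have e : a * (a' * x * a'⁻¹) * a⁻¹ * (a' * x * a'⁻¹)⁻¹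
        = a' * (a'⁻¹ * a * a' * x * (a'⁻¹ * a * a')⁻¹ * x⁻¹) * a'⁻¹ := by group
    rw [e]; exact h2
  have hcS₁ : c ∈ S₁ := ⟨hc, hA⟩
  by_cases hS₁ : S₁ = S
  · exfalso
    apply Tower.not_S_le_CS h
    intro x hx
    have htriv : A ≤ trivMod S (CS Q S) (CS_le Q S) := by
      intro a ha k hk
      have hk' : k ∈ S₁ := by rw [hS₁]; exact hk
      exact hk'.2 a ha
    obtain ⟨c', hcS, hcA, hkc⟩ := fix_coset h.hAS (Tower.cop_AS h) (Tower.solvS h) (CS_le Q S)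
      (fun x hx c hc => Tower.CS_S h hx hc) htriv hx
    have hc1 : c' = 1 := h.hfpfS c' hcS hcA
    rw [hc1, mul_one] at hkc
    simpa using (CS Q S).inv_mem hkc
  · have h1 := h.hmin1 S₁ (fun x hx => hx.1) hS₁ hS₁A
    exact mem_CS.2 ⟨hc, fun u hu => h1 u hu c hcS₁⟩

/-- `A` normalizes the preimage of `C_{S/C_S}(B)` when `A` normalizes `B` -/
theorem Tower.fixMod_A (h : Tower V r t s p q Q S A F H₀) (B : Subgroup T)
    (hBn : ∀ a ∈ A, ∀ b ∈ B, a⁻¹ * b * a ∈ B) :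
    ∀ a ∈ A, ∀ c ∈ fixMod B (CS Q S) S (fun x hx c hc => Tower.CS_S h hx hc),
      a * c * a⁻¹ ∈ fixMod B (CS Q S) S (fun x hx c hc => Tower.CS_S h hx hc) := by
  intro a' ha' x hx
  refine ⟨h.hAS a' ha' x hx.1, fun a ha => ?_⟩
  have h1 := hx.2 (a'⁻¹ * a * a') (hBn a' ha' a ha)
  have h2 := Tower.CS_A h ha' h1
  have e : a * (a' * x * a'⁻¹) * a⁻¹ * (a' * x * a'⁻¹)⁻¹
      = a' * (a'⁻¹ * a * a' * x * (a'⁻¹ * a * a')⁻¹ * x⁻¹) * a'⁻¹ := by group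
  rw [e]; exact h2

theorem Tower.F_conj' (h : Tower V r t s p q Q S A F H₀) : ∀ a ∈ A, ∀ b ∈ F, a⁻¹ * b * a ∈ F := by
  intro a ha b hb
  have := h.frob.hFn a⁻¹ (A.inv_mem ha) b hb
  rwa [inv_inv] at this

/-- (T5) type (α) or type (β) -/
theorem Tower.alpha_or_beta (h : Tower V r t s p q Q S A F H₀) :
    (∀ f ∈ F, ∀ c ∈ S, f * c * f⁻¹ * c⁻¹ ∈ CS Q S) ∨
    (∀ c ∈ S, (∀ f ∈ F, f * c * f⁻¹ * c⁻¹ ∈ CS Q S) → c ∈ CS Q S) := by
  let S₁ := fixMod F (CS Q S) S (fun x hx c hc => Tower.CS_S h hx hc)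
  by_cases hS₁ : S₁ = S
  · left
    intro f hf c hc
    have hc' : c ∈ S₁ := by rw [hS₁]; exact hc
    exact hc'.2 f hf
  · right
    intro c hc hF
    have h1 := h.hmin1 S₁ (fun x hx => hx.1) hS₁ (Tower.fixMod_A h F (Tower.F_conj' h))
    exact mem_CS.2 ⟨hc, fun u hu => h1 u hu c ⟨hc, hF⟩⟩

theorem Tower.H_le_zpowers (h : Tower V r t s p q Q S A F H₀) {a : T} (ha : a ∈ H₀) (ha1 : a ≠ 1) :
    H₀ ≤ Subgroup.zpowers a :=
  fun x hx => mem_zpowers_of_card_prime h.frob.hp h.frob.hH ha ha1 hx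

theorem Tower.F_le_zpowers (h : Tower V r t s p q Q S A F H₀) {a : T} (ha : a ∈ F) (ha1 : a ≠ 1) :
    F ≤ Subgroup.zpowers a :=
  fun x hx => mem_zpowers_of_card_prime h.frob.hq h.frob.hF ha ha1 hx

/-- (T5α) -/
theorem Tower.alpha_fpf (h : Tower V r t s p q Q S A F H₀)
    (hα : ∀ f ∈ F, ∀ c ∈ S, f * c * f⁻¹ * c⁻¹ ∈ CS Q S) {a : T} (ha : a ∈ H₀) (ha1 : a ≠ 1)
    {c : T} (hc : c ∈ S) (hac : a * c * a⁻¹ * c⁻¹ ∈ CS Q S) : c ∈ CS Q S := by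
  apply Tower.mem_CS_of_comm_A h hc
  let B := stabMod A (CS Q S) c (fun a ha x hx => Tower.CS_A h ha hx)
  have hFB : F ≤ B := fun f hf => ⟨h.frob.hFA hf, hα f hf c hc⟩
  have haB : a ∈ B := ⟨h.frob.hHA ha, hac⟩
  have hHB : H₀ ≤ B := (Tower.H_le_zpowers h ha ha1).trans (by
    rw [Subgroup.zpowers_le]; exact haB)
  intro a' ha'
  rw [← FrobPQ.sup_eq h.frob] at ha'
  exact ((sup_le hFB hHB) ha').2

theorem Tower.alpha_comm_surj (h : Tower V r t s p q Q S A F H₀)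
    (hα : ∀ f ∈ F, ∀ c ∈ S, f * c * f⁻¹ * c⁻¹ ∈ CS Q S) {a : T} (ha : a ∈ H₀) (ha1 : a ≠ 1) :
    ∀ c ∈ S, ∃ d ∈ S, ∃ e ∈ CS Q S, c = (a * d * a⁻¹ * d⁻¹) * e :=
  comm_surj_of_fpf (CS_le Q S) (Tower.S_comm_mem_CS h) (h.hAS a (h.frob.hHA ha))
    (fun c hc => Tower.CS_A h (h.frob.hHA ha) hc)
    (fun c hc hac => Tower.alpha_fpf h hα ha ha1 hc hac)

/-- (T5β) -/
theorem Tower.beta_fpf (h : Tower V r t s p q Q S A F H₀)
    (hβ : ∀ c ∈ S, (∀ f ∈ F, f * c * f⁻¹ * c⁻¹ ∈ CS Q S) → c ∈ CS Q S) {f : T} (hf : f ∈ F)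
    (hf1 : f ≠ 1) {c : T} (hc : c ∈ S) (hfc : f * c * f⁻¹ * c⁻¹ ∈ CS Q S) : c ∈ CS Q S := by
  apply hβ c hc
  let B := stabMod A (CS Q S) c (fun a ha x hx => Tower.CS_A h ha hx)
  have hfB : f ∈ B := ⟨h.frob.hFA hf, hfc⟩
  have hFB : F ≤ B := (Tower.F_le_zpowers h hf hf1).trans (by
    rw [Subgroup.zpowers_le]; exact hfB)
  intro f' hf'
  exact (hFB hf').2

theorem Tower.beta_comm_surj (h : Tower V r t s p q Q S A F H₀)
    (hβ : ∀ c ∈ S, (∀ f ∈ F, f * c * f⁻¹ * c⁻¹ ∈ CS Q S) → c ∈ CS Q S) {f : T} (hf : f ∈ F)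
    (hf1 : f ≠ 1) : ∀ c ∈ S, ∃ d ∈ S, ∃ e ∈ CS Q S, c = (f * d * f⁻¹ * d⁻¹) * e :=
  comm_surj_of_fpf (CS_le Q S) (Tower.S_comm_mem_CS h) (h.hAS f (h.frob.hFA hf))
    (fun c hc => Tower.CS_A h (h.frob.hFA hf) hc)
    (fun c hc hfc => Tower.beta_fpf h hβ hf hf1 hc hfc)

end tower

end Cfsg.Agent.Lib.Helper9.PQT
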