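import Mathlib
import Cfsg.Agent.Lib.Helper9.PQT
import Cfsg.Agent.Lib.Helper2.SecMod2

/-!
# S4306, package T-struct (T6): `[Q,F] ≠ 1`, and `C_{Q/Z}(F) = 1` in type (α)

The statements of (T1)–(T3) that are used are taken as hypotheses (`_of` forms).
-/

set_option autoImplicit false
set_option linter.unusedSectionVars false
set_option linter.unusedVariables false

namespace Cfsg.Agent.Lib.Helper9.PQT

open Cfsg.Agent.Lib.Helper4.PQ Cfsg.Agent.Lib.Helper2.PQA Cfsg.Agent.Lib.Helper8.Ward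

universe u w

section tower

variable {V : Type u} [AddCommGroup V] [Finite V] {T : Type w} [Group T] [Finite T]
  [DistribMulAction T V] {r t s p q : ℕ} {Q S A F H₀ : Subgroup T}

theorem Zc_le (Q S : Subgroup T) : Zc Q S ≤ Q := inf_le_left

/-- `C_Q(S)` is normalized by every element normalizing `S`. -/
theorem Tower.Zc_conj (h : Tower V r t s p q Q S A F H₀) {g z : T}
    (hg : ∀ y ∈ S, g⁻¹ * y * g ∈ S) (hz : z ∈ Zc Q S) : g * z * g⁻¹ ∈ Zc Q S := by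
  obtain ⟨hzQ, hzS⟩ := mem_Zc.1 hz
  refine mem_Zc.2 ⟨Tower.conjQ h g hzQ, fun c hc => ?_⟩
  have h1 := hzS _ (hg c hc)
  have e1 : c * (g * z * g⁻¹) = g * ((g⁻¹ * c * g) * z) * g⁻¹ := by group
  have e2 : g * z * g⁻¹ * c = g * (z * (g⁻¹ * c * g)) * g⁻¹ := by group
  rw [e1, e2, h1]

theorem Tower.Zc_A (h : Tower V r t s p q Q S A F H₀) {a z : T} (ha : a ∈ A)
    (hz : z ∈ Zc Q S) : a * z * a⁻¹ ∈ Zc Q S :=
  Tower.Zc_conj h (fun y hy => Tower.AS' h ha hy) hz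

theorem Tower.Zc_S (h : Tower V r t s p q Q S A F H₀) {c z : T} (hc : c ∈ S)
    (hz : z ∈ Zc Q S) : c * z * c⁻¹ ∈ Zc Q S :=
  Tower.Zc_conj h (fun y hy => S.mul_mem (S.mul_mem (S.inv_mem hc) hy) hc) hz

/-- `Z = C_Q(S)` is normal in `Q` as soon as `Q' ≤ Z`. -/
theorem Zc_Q_of {Q S : Subgroup T} (hcomm : ∀ u ∈ Q, ∀ v ∈ Q, u * v * u⁻¹ * v⁻¹ ∈ Zc Q S)
    {x z : T} (hx : x ∈ Q) (hz : z ∈ Zc Q S) : x * z * x⁻¹ ∈ Zc Q S := by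
  have h1 := hcomm x hx z (Zc_le Q S hz)
  have e : x * z * x⁻¹ = (x * z * x⁻¹ * z⁻¹) * z := by group
  rw [e]
  exact (Zc Q S).mul_mem h1 hz

theorem Tower.not_Q_le_Zc (h : Tower V r t s p q Q S A F H₀) : ¬ Q ≤ Zc Q S := by
  intro hle
  obtain ⟨u, hu, c, hc, huc⟩ := h.hQS
  exact huc ((mem_Zc.1 (hle hu)).2 c hc).symm

theorem Tower.pow_p_H (h : Tower V r t s p q Q S A F H₀) {b : T} (hb : b ∈ H₀) : b ^ p = 1 := by
  by_cases hb1 : b = 1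
  · rw [hb1, one_pow]
  · rw [← orderOf_of_card_prime h.frob.hp h.frob.hH hb hb1]
    exact pow_orderOf_eq_one b

/-- if `F` centralizes `Q` then we are in type (α) -/
theorem Tower.alpha_of_comm_F (h : Tower V r t s p q Q S A F H₀)
    (hcon : ∀ u ∈ Q, ∀ f ∈ F, u * f = f * u) :
    ∀ f ∈ F, ∀ c ∈ S, f * c * f⁻¹ * c⁻¹ ∈ CS Q S := by
  intro f hf c hc
  refine mem_CS.2 ⟨S.mul_mem (h.hAS f (h.frob.hFA hf) c hc) (S.inv_mem hc), fun u hu => ?_⟩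
  have e1 : u * f = f * u := hcon u hu f hf
  have e2 : (c⁻¹ * u * c) * f⁻¹ = f⁻¹ * (c⁻¹ * u * c) := by
    have := hcon _ (Tower.conjQ' h c hu) f hf
    calc (c⁻¹ * u * c) * f⁻¹ = f⁻¹ * (f * (c⁻¹ * u * c)) * f⁻¹ := by group
      _ = f⁻¹ * ((c⁻¹ * u * c) * f) * f⁻¹ := by rw [this]
      _ = f⁻¹ * (c⁻¹ * u * c) := by group
  calc u * (f * c * f⁻¹ * c⁻¹) = (u * f) * c * f⁻¹ * c⁻¹ := by group
    _ = (f * u) * c * f⁻¹ * c⁻¹ := by rw [e1]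
    _ = f * c * ((c⁻¹ * u * c) * f⁻¹) * c⁻¹ := by group
    _ = f * c * (f⁻¹ * (c⁻¹ * u * c)) * c⁻¹ := by rw [e2]
    _ = f * c * f⁻¹ * c⁻¹ * u := by group

/-- (T6), with the statements of (T3) as hypotheses -/
theorem Tower.exists_not_comm_F_of (h : Tower V r t s p q Q S A F H₀)
    (hcomm : ∀ u ∈ Q, ∀ v ∈ Q, u * v * u⁻¹ * v⁻¹ ∈ Zc Q S)
    (hCQS : ∀ u ∈ Q, (∀ c ∈ S, u * c * u⁻¹ * c⁻¹ ∈ Zc Q S) → u ∈ Zc Q S)
    (hCQA : ∀ u ∈ Q, (∀ a ∈ A, a * u * a⁻¹ * u⁻¹ ∈ Zc Q S) → u ∈ Zc Q S) :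
    ∃ u ∈ Q, ∃ f ∈ F, u * f ≠ f * u := by
  by_contra hcon
  push Not at hcon
  have hα := Tower.alpha_of_comm_F h hcon
  obtain ⟨b, hb, hb1⟩ := exists_ne_one_of_card_prime h.frob.hp h.frob.hH
  have hbA : b ∈ A := h.frob.hHA hb
  obtain ⟨x, hxQ, hxZ, hbx⟩ := Cfsg.Agent.Lib.Helper2.SecMod.l_frob_section_rel (s := p)
    (Q := Q) (Z := Zc Q S) (K := S) (C := CS Q S) (b := b) h.frob.hp (Zc_le Q S) hcomm
    (fun k _ x hx => Tower.conjQ h k hx) (fun k hk z hz => Tower.Zc_S h hk hz)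
    (fun x hx => Tower.conjQ h b hx) (fun z hz => Tower.Zc_A h hbA hz)
    (CS_le Q S) (fun k hk c hc => Tower.CS_S h hk hc) (fun c hc => Tower.CS_A h hbA hc)
    (fun c hc x hx => by
      have := (mem_CS.1 hc).2 x hx
      have e : c * x * c⁻¹ * x⁻¹ = 1 := by
        calc c * x * c⁻¹ * x⁻¹ = (c * x) * c⁻¹ * x⁻¹ := by group
          _ = (x * c) * c⁻¹ * x⁻¹ := by rw [this]
          _ = 1 := by group
      rw [e]; exact (Zc Q S).one_mem)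
    (Tower.pow_p_H h hb) (h.hAS b hbA)
    (fun z hz hbz => Tower.alpha_fpf h hα hb hb1 hz hbz)
    (Tower.cop_SQ h).symm
    (fun x hx hk => by
      apply hCQS x hx
      intro c hc
      have h1 := hk c hc
      have e : x * c * x⁻¹ * c⁻¹ = (c * x * c⁻¹ * x⁻¹)⁻¹ := by group
      rw [e]
      exact (Zc Q S).inv_mem h1)
    (Tower.not_Q_le_Zc h)
  apply hxZ
  apply hCQA x hxQ
  let B := stabMod A (Zc Q S) x (fun a ha z hz => Tower.Zc_A h ha hz)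
  have hFB : F ≤ B := by
    intro f hf
    refine ⟨h.frob.hFA hf, ?_⟩
    have := hcon x hxQ f hf
    have e : f * x * f⁻¹ * x⁻¹ = 1 := by
      calc f * x * f⁻¹ * x⁻¹ = (f * x) * f⁻¹ * x⁻¹ := by group
        _ = (x * f) * f⁻¹ * x⁻¹ := by rw [this]
        _ = 1 := by group
    rw [e]; exact (Zc Q S).one_mem
  have hbB : b ∈ B := ⟨hbA, hbx⟩
  have hHB : H₀ ≤ B := (Tower.H_le_zpowers h hb hb1).trans (by
    rw [Subgroup.zpowers_le]; exact hbB)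
  intro a' ha'
  rw [← FrobPQ.sup_eq h.frob] at ha'
  exact ((sup_le hFB hHB) ha').2

/-- conjugation by `u` and by `c` agree on `Q` when `u⁻¹ c` is central in `Q` -/
theorem conj_eq_of_central {Q Z : Subgroup T} (hcen : ∀ z ∈ Z, ∀ u ∈ Q, z * u = u * z)
    {u c y : T} (huc : u⁻¹ * c ∈ Z) (hy : y ∈ Q) : u * y * u⁻¹ = c * y * c⁻¹ := by
  have h1 := hcen _ huc y hy
  calc u * y * u⁻¹ = u * (y * (u⁻¹ * c)) * c⁻¹ := by group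
    _ = u * ((u⁻¹ * c) * y) * c⁻¹ := by rw [h1]
    _ = c * y * c⁻¹ := by group

/-- (T6α), with the statements of (T3) and (T6) as hypotheses -/
theorem Tower.alpha_mem_Zc_of_comm_F_of (h : Tower V r t s p q Q S A F H₀)
    (hcomm : ∀ u ∈ Q, ∀ v ∈ Q, u * v * u⁻¹ * v⁻¹ ∈ Zc Q S)
    (hcen : ∀ z ∈ Zc Q S, ∀ u ∈ Q, z * u = u * z)
    (hclos : Zc Q S ≤ Subgroup.closure {x | ∃ u ∈ Q, ∃ v ∈ Q, x = u * v * u⁻¹ * v⁻¹})
    (hT6 : ∃ u ∈ Q, ∃ f ∈ F, u * f ≠ f * u)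
    (hα : ∀ f ∈ F, ∀ c ∈ S, f * c * f⁻¹ * c⁻¹ ∈ CS Q S) {u : T} (hu : u ∈ Q)
    (hF : ∀ f ∈ F, f * u * f⁻¹ * u⁻¹ ∈ Zc Q S) : u ∈ Zc Q S := by
  let Q₁ := fixMod F (Zc Q S) Q (fun x hx z hz => Zc_Q_of hcomm hx hz)
  have hQ₁A : ∀ a ∈ A, ∀ x ∈ Q₁, a * x * a⁻¹ ∈ Q₁ := by
    intro a' ha' x hx
    refine ⟨Tower.conjQ h a' hx.1, fun a ha => ?_⟩
    have h1 := hx.2 (a'⁻¹ * a * a') (Tower.F_conj' h a' ha' a ha)
    have h2 := Tower.Zc_A h ha' h1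
    have e : a * (a' * x * a'⁻¹) * a⁻¹ * (a' * x * a'⁻¹)⁻¹
        = a' * (a'⁻¹ * a * a' * x * (a'⁻¹ * a * a')⁻¹ * x⁻¹) * a'⁻¹ := by group
    rw [e]; exact h2
  have hQ₁S : ∀ c ∈ S, ∀ x ∈ Q₁, c * x * c⁻¹ ∈ Q₁ := by
    intro c hc x hx
    refine ⟨Tower.conjQ h c hx.1, fun f hf => ?_⟩
    have hg := hα f hf c hc
    have hy : c * (f * x * f⁻¹) * c⁻¹ ∈ Q := Tower.conjQ h c (Tower.conjQ h f hx.1)
    have h1 := (mem_CS.1 hg).2 _ hy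
    have e1 : f * (c * x * c⁻¹) * f⁻¹ = c * (f * x * f⁻¹) * c⁻¹ := by
      calc f * (c * x * c⁻¹) * f⁻¹
          = (f * c * f⁻¹ * c⁻¹) * (c * (f * x * f⁻¹) * c⁻¹) * (f * c * f⁻¹ * c⁻¹)⁻¹ := by group
        _ = (c * (f * x * f⁻¹) * c⁻¹) * (f * c * f⁻¹ * c⁻¹) * (f * c * f⁻¹ * c⁻¹)⁻¹ := by rw [h1]
        _ = c * (f * x * f⁻¹) * c⁻¹ := by group
    have e2 : f * (c * x * c⁻¹) * f⁻¹ * (c * x * c⁻¹)⁻¹ = c * (f * x * f⁻¹ * x⁻¹) * c⁻¹ := by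
      rw [e1]; group
    rw [e2]
    exact Tower.Zc_S h hc (hx.2 f hf)
  have huQ₁ : u ∈ Q₁ := ⟨hu, hF⟩
  by_cases hQ₁ : Q₁ = Q
  · exfalso
    obtain ⟨u₀, hu₀, f₀, hf₀, hne⟩ := hT6
    apply hne
    have htriv : F ≤ trivMod Q (Zc Q S) (Zc_le Q S) := by
      intro f hf k hk
      have hk' : k ∈ Q₁ := by rw [hQ₁]; exact hk
      exact hk'.2 f hf
    have hlift : ∀ k ∈ Q, ∃ c ∈ Q, (∀ f ∈ F, f * c = c * f) ∧ k⁻¹ * c ∈ Zc Q S := fun k hk =>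
      fix_coset (fun f _ y hy => Tower.conjQ h f hy) (Tower.cop_sub_Q h h.frob.hFA)
        (Tower.solvQ h) (Zc_le Q S) (fun x hx z hz => Zc_Q_of hcomm hx hz) htriv hk
    have hZF : Zc Q S ≤ Subgroup.centralizer (F : Set T) := by
      refine hclos.trans ((Subgroup.closure_le _).2 ?_)
      rintro x ⟨u, hu, v, hv, rfl⟩
      obtain ⟨c₁, hc₁Q, hc₁F, hc₁⟩ := hlift u hu
      obtain ⟨c₂, hc₂Q, hc₂F, hc₂⟩ := hlift v hv
      have e1 : u * v * u⁻¹ = c₁ * v * c₁⁻¹ := conj_eq_of_central hcen hc₁ hv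
      have e2 : v * c₁⁻¹ * v⁻¹ = c₂ * c₁⁻¹ * c₂⁻¹ :=
        conj_eq_of_central hcen hc₂ (Q.inv_mem hc₁Q)
      have e3 : u * v * u⁻¹ * v⁻¹ = c₁ * (c₂ * c₁⁻¹ * c₂⁻¹) := by
        rw [e1, ← e2]; group
      rw [e3]
      have hm1 : c₁ ∈ Subgroup.centralizer (F : Set T) :=
        Subgroup.mem_centralizer_iff.2 (fun f hf => hc₁F f hf)
      have hm2 : c₂ ∈ Subgroup.centralizer (F : Set T) :=
        Subgroup.mem_centralizer_iff.2 (fun f hf => hc₂F f hf)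
      exact Subgroup.mul_mem _ hm1 (Subgroup.mul_mem _ (Subgroup.mul_mem _ hm2
        (Subgroup.inv_mem _ hm1)) (Subgroup.inv_mem _ hm2))
    obtain ⟨c, hcQ, hcF, hc⟩ := hlift u₀ hu₀
    have hm1 : c ∈ Subgroup.centralizer (F : Set T) :=
      Subgroup.mem_centralizer_iff.2 (fun f hf => hcF f hf)
    have hm2 : u₀ ∈ Subgroup.centralizer (F : Set T) := by
      have e : u₀ = c * (u₀⁻¹ * c)⁻¹ := by group
      rw [e]
      exact Subgroup.mul_mem _ hm1 (Subgroup.inv_mem _ (hZF hc))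
    exact (Subgroup.mem_centralizer_iff.1 hm2 f₀ hf₀).symm
  · have h1 := h.hmin2 Q₁ (fun x hx => hx.1) hQ₁ hQ₁A hQ₁S u huQ₁
    exact mem_Zc.2 ⟨hu, fun c hc => (h1 c hc).symm⟩

end tower

end Cfsg.Agent.Lib.Helper9.PQT
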