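import Cfsg.Agent.Lib.Lead.PSingDefs

/-!
# S4321: common auxiliary lemmas (class sizes, centralizers, conjugating `p`-elements)
-/

set_option autoImplicit false

namespace Cfsg.Agent.Lib.Helper9.PSing

open Cfsg.Agent.Lib.Lead.PSing

universe u

variable {G : Type u} [Group G]

/-- A normal `p`-subgroup is contained in every subgroup of index prime to `p`. -/
theorem le_of_normal_pgroup_of_not_dvd_index [Finite G] {p : ℕ}
    [Fact p.Prime] (P : Subgroup G) [hPn : P.Normal] (hP : IsPGroup p P) (C : Subgroup G)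
    (hC : ¬ p ∣ C.index) : P ≤ C := by
  have hne : (MulAction.fixedPoints P (G ⧸ C)).Nonempty :=
    IsPGroup.nonempty_fixed_point_of_prime_not_dvd_card hP (G ⧸ C) hC
  obtain ⟨q, hq⟩ := hne
  induction q using QuotientGroup.induction_on with
  | H g =>
    intro y hy
    have hx : g * y⁻¹ * g⁻¹ ∈ P := hPn.conj_mem _ (P.inv_mem hy) g
    have := hq ⟨_, hx⟩
    have h2 : ((g * y⁻¹ * g⁻¹ * g : G) : G ⧸ C) = (g : G ⧸ C) := this
    rw [QuotientGroup.eq] at h2
    simpa [mul_assoc] using h2

/-- (A1) A `p`-subgroup is conjugate into every subgroup of index prime to `p`. -/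
theorem exists_conj_le_of_not_dvd_index {p : ℕ} [Fact p.Prime] (K : Subgroup G)
    (hK : ¬ p ∣ K.index) (Q : Subgroup G) (hQ : IsPGroup p Q) :
    ∃ g : G, ∀ w ∈ Q, g * w * g⁻¹ ∈ K := by
  have hne : (MulAction.fixedPoints Q (G ⧸ K)).Nonempty :=
    IsPGroup.nonempty_fixed_point_of_prime_not_dvd_card hQ (G ⧸ K) hK
  obtain ⟨q, hq⟩ := hne
  induction q using QuotientGroup.induction_on with
  | H g =>
    refine ⟨g⁻¹, fun w hw => ?_⟩
    have := hq ⟨w⁻¹, Q.inv_mem hw⟩
    have h2 : ((w⁻¹ * g : G) : G ⧸ K) = (g : G ⧸ K) := this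
    rw [QuotientGroup.eq] at h2
    simpa [mul_assoc] using h2

/-- (A1) A `p`-element is conjugate into every subgroup of index prime to `p`. -/
theorem exists_conj_mem_of_not_dvd_index {p : ℕ} [Fact p.Prime] (K : Subgroup G)
    (hK : ¬ p ∣ K.index) (w : G) (hw : IsPEl p w) : ∃ g : G, g * w * g⁻¹ ∈ K := by
  obtain ⟨k, hk⟩ := hw
  have hz : IsPGroup p (Subgroup.zpowers w) := by
    apply IsPGroup.of_card (n := k)
    rw [Nat.card_zpowers, hk]
  obtain ⟨g, hg⟩ := exists_conj_le_of_not_dvd_index K hK _ hz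
  exact ⟨g, hg w (Subgroup.mem_zpowers w)⟩

/-- The centralizer of a conjugate. -/
theorem centralizer_conj (g w : G) :
    Subgroup.centralizer ({g * w * g⁻¹} : Set G) =
      (Subgroup.centralizer ({w} : Set G)).map (MulAut.conj g).toMonoidHom := by
  ext x
  simp only [Subgroup.mem_centralizer_singleton_iff, Subgroup.mem_map, MulEquiv.coe_toMonoidHom,
    MulAut.conj_apply]
  constructor
  · intro hx
    refine ⟨g⁻¹ * x * g, ?_, by group⟩
    have : g⁻¹ * (x * (g * w * g⁻¹)) * g = g⁻¹ * ((g * w * g⁻¹) * x) * g := by rw [hx]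
    calc g⁻¹ * x * g * w = g⁻¹ * (x * (g * w * g⁻¹)) * g := by group
      _ = g⁻¹ * ((g * w * g⁻¹) * x) * g := this
      _ = w * (g⁻¹ * x * g) := by group
  · rintro ⟨y, hy, rfl⟩
    calc g * y * g⁻¹ * (g * w * g⁻¹) = g * (y * w) * g⁻¹ := by group
      _ = g * (w * y) * g⁻¹ := by rw [hy]
      _ = g * w * g⁻¹ * (g * y * g⁻¹) := by group

/-- (A2) Class sizes are invariant under conjugation. -/
theorem cs_conj (g w : G) : cs (g * w * g⁻¹) = cs w := by
  unfold cs
  rw [centralizer_conj]
  exact Subgroup.index_map_equiv _ (MulAut.conj g)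

/-- `IsPEl` is invariant under conjugation. -/
theorem isPEl_conj {p : ℕ} (g w : G) (hw : IsPEl p w) : IsPEl p (g * w * g⁻¹) := by
  obtain ⟨k, hk⟩ := hw
  refine ⟨k, ?_⟩
  have : g * w * g⁻¹ = MulAut.conj g w := by simp
  rw [this, MulEquiv.orderOf_eq, hk]

/-- (A3) For commuting elements of coprime orders, the centralizer of the product is the
intersection of the centralizers. -/
theorem centralizer_mul_of_coprime (v y : G) (h : Commute v y)
    (hc : (orderOf v).Coprime (orderOf y)) :
    Subgroup.centralizer ({v * y} : Set G) =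
      Subgroup.centralizer ({v} : Set G) ⊓ Subgroup.centralizer ({y} : Set G) := by
  apply le_antisymm
  · -- `v` and `y` are powers of `v * y`
    intro x hx
    rw [Subgroup.mem_centralizer_singleton_iff] at hx
    have hxc : Commute x (v * y) := hx
    have hpow : ∀ n : ℕ, Commute x ((v * y) ^ n) := fun n => hxc.pow_right n
    -- Bezout
    have hvpow : ∃ n : ℕ, (v * y) ^ n = v := by
      by_cases hv0 : orderOf v = 0
      · -- then `orderOf y = 1`
        rw [hv0, Nat.coprime_zero_left] at hc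
        have : y = 1 := orderOf_eq_one_iff.mp hc
        exact ⟨1, by rw [this, mul_one, pow_one]⟩
      · obtain ⟨n, hn1, hn2⟩ :=
          Nat.chineseRemainder hc 1 0 |>.2 |> fun hh => (⟨_, hh.1, hh.2⟩ :
            ∃ n : ℕ, n ≡ 1 [MOD orderOf v] ∧ n ≡ 0 [MOD orderOf y])
        refine ⟨n, ?_⟩
        rw [h.mul_pow]
        have h1 : v ^ n = v := by
          have := (pow_eq_pow_iff_modEq (x := v)).mpr hn1
          rw [this, pow_one]
        have h2 : y ^ n = 1 := by
          have := (pow_eq_pow_iff_modEq (x := y)).mpr hn2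
          rw [this, pow_zero]
        rw [h1, h2, mul_one]
    have hypow : ∃ n : ℕ, (v * y) ^ n = y := by
      by_cases hy0 : orderOf y = 0
      · rw [hy0, Nat.coprime_zero_right] at hc
        have : v = 1 := orderOf_eq_one_iff.mp hc
        exact ⟨1, by rw [this, one_mul, pow_one]⟩
      · obtain ⟨n, hn1, hn2⟩ :=
          Nat.chineseRemainder hc 0 1 |>.2 |> fun hh => (⟨_, hh.1, hh.2⟩ :
            ∃ n : ℕ, n ≡ 0 [MOD orderOf v] ∧ n ≡ 1 [MOD orderOf y])
        refine ⟨n, ?_⟩
        rw [h.mul_pow]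
        have h1 : v ^ n = 1 := by
          have := (pow_eq_pow_iff_modEq (x := v)).mpr hn1
          rw [this, pow_zero]
        have h2 : y ^ n = y := by
          have := (pow_eq_pow_iff_modEq (x := y)).mpr hn2
          rw [this, pow_one]
        rw [h1, h2, one_mul]
    obtain ⟨n, hn⟩ := hvpow
    obtain ⟨m, hm⟩ := hypow
    refine Subgroup.mem_inf.mpr ⟨?_, ?_⟩
    · rw [Subgroup.mem_centralizer_singleton_iff]
      have := hpow n
      rw [hn] at this
      exact this
    · rw [Subgroup.mem_centralizer_singleton_iff]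
      have := hpow m
      rw [hm] at this
      exact this
  · intro x hx
    obtain ⟨hx1, hx2⟩ := Subgroup.mem_inf.mp hx
    rw [Subgroup.mem_centralizer_singleton_iff] at hx1 hx2 ⊢
    calc x * (v * y) = (x * v) * y := by group
      _ = (v * x) * y := by rw [hx1]
      _ = v * (x * y) := by group
      _ = v * (y * x) := by rw [hx2]
      _ = v * y * x := by group

/-- The centralizer of an element of a subgroup `K`, computed inside `K`. -/
theorem centralizer_subtype (K : Subgroup G) (y : K) :
    Subgroup.centralizer ({y} : Set K) =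
      (Subgroup.centralizer ({(y : G)} : Set G)).subgroupOf K := by
  ext x
  rw [Subgroup.mem_subgroupOf, Subgroup.mem_centralizer_singleton_iff,
    Subgroup.mem_centralizer_singleton_iff, Subtype.ext_iff]
  simp

/-- (A4) The class size of `y` in the subgroup `K` is `|K : C_K(y)|`. -/
theorem cs_subtype (K : Subgroup G) (y : K) :
    cs (y : K) = (Subgroup.centralizer ({(y : G)} : Set G)).relIndex K := by
  unfold cs
  rw [centralizer_subtype]
  rfl

/-- (A4) `|G : C(v) ∩ C(y)| = |G : C(v)| * |C(v) : C_{C(v)}(y)|`. -/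
theorem index_inf_centralizer_eq (K : Subgroup G) (y : K) :
    (K ⊓ Subgroup.centralizer ({(y : G)} : Set G)).index = K.index * cs (y : K) := by
  rw [cs_subtype, ← Subgroup.relIndex_mul_index (inf_le_left :
    K ⊓ Subgroup.centralizer ({(y : G)} : Set G) ≤ K), Subgroup.inf_relIndex_left, mul_comm]

/-- (A4) for `K = C(v)`: `n(v y) = n(v) * |y^{C(v)}|` in the form of the intersection. -/
theorem cs_mul_of_mem_centralizer (v : G) (y : ↥(Subgroup.centralizer ({v} : Set G))) :
    (Subgroup.centralizer ({v} : Set G) ⊓ Subgroup.centralizer ({(y : G)} : Set G)).index =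
      cs v * cs y :=
  index_inf_centralizer_eq _ y

/-- (A6) Coprime indices multiply. -/
theorem index_inf_of_coprime [Finite G] (H K : Subgroup G) (h : H.index.Coprime K.index) :
    (H ⊓ K).index = H.index * K.index := by
  apply Nat.le_antisymm (Subgroup.index_inf_le)
  apply Nat.le_of_dvd (Nat.pos_of_ne_zero Subgroup.index_ne_zero_of_finite)
  exact h.mul_dvd_of_dvd_of_dvd (Subgroup.index_dvd_of_le inf_le_left)
    (Subgroup.index_dvd_of_le inf_le_right)

/-- (A6) If `|G:H|` and `|G:K|` are coprime then `|H : H ∩ K| = |G : K|`. -/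
theorem relIndex_eq_index_of_coprime [Finite G] (H K : Subgroup G)
    (h : H.index.Coprime K.index) : K.relIndex H = K.index := by
  have h1 := index_inf_of_coprime H K h
  rw [← Subgroup.relIndex_mul_index (inf_le_left : H ⊓ K ≤ H), Subgroup.inf_relIndex_left,
    mul_comm] at h1
  exact Nat.eq_of_mul_eq_mul_left (Nat.pos_of_ne_zero Subgroup.index_ne_zero_of_finite) h1

/-- (A6) for class sizes: if `n(w)` is coprime to `|G:K|` and `w ∈ K` then the class size of
`w` in `K` equals `n(w)`. -/
theorem cs_subtype_eq_of_coprime [Finite G] (K : Subgroup G) (w : K)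
    (h : K.index.Coprime (cs (w : G))) : cs (w : K) = cs (w : G) := by
  rw [cs_subtype]
  exact relIndex_eq_index_of_coprime K _ h

/-- (A7) Subgroups of coprime indices factorize the group: `G = H K`. -/
theorem exists_mul_of_coprime_index [Finite G] (H K : Subgroup G)
    (h : H.index.Coprime K.index) (g : G) : ∃ x ∈ H, ∃ c ∈ K, g = x * c := by
  obtain ⟨a, ha⟩ : ∃ a : G ⧸ K, a = ((1 : G) : G ⧸ K) := ⟨_, rfl⟩
  have hstab : MulAction.stabilizer H a = K.subgroupOf H := by
    ext x
    rw [MulAction.mem_stabilizer_iff, Subgroup.mem_subgroupOf, ha]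
    have : x • ((1 : G) : G ⧸ K) = (((x : G) * 1 : G) : G ⧸ K) := rfl
    rw [this, QuotientGroup.eq]
    simp
  have hcard : Nat.card (MulAction.orbit H a) = K.index := by
    rw [Nat.card_coe_set_eq, ← MulAction.index_stabilizer, hstab]
    exact relIndex_eq_index_of_coprime H K h
  have hinj : Function.Injective (Subtype.val : MulAction.orbit H a → G ⧸ K) :=
    Subtype.val_injective
  have hbij := hinj.bijective_of_nat_card_le (by rw [hcard]; exact le_refl _)
  obtain ⟨⟨b, hb⟩, hbg⟩ := hbij.2 ((g : G) : G ⧸ K)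
  obtain ⟨x, hx⟩ := hb
  have hbg' : b = ((g : G) : G ⧸ K) := hbg
  have h2 : (((x : G) * 1 : G) : G ⧸ K) = ((g : G) : G ⧸ K) := by
    rw [← hbg', ← hx, ha]
    rfl
  rw [QuotientGroup.eq] at h2
  refine ⟨x, x.2, _, h2, ?_⟩
  group

/-- (A7) If `|G:P|` is coprime to the class size of `w`, then every `G`-conjugate of `w` is a
`P`-conjugate of `w`. -/
theorem exists_mem_conj_eq_of_coprime_index [Finite G] (P : Subgroup G) (w : G)
    (h : P.index.Coprime (cs w)) (g : G) : ∃ x ∈ P, g * w * g⁻¹ = x * w * x⁻¹ := by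
  obtain ⟨x, hx, c, hc, rfl⟩ := exists_mul_of_coprime_index P _ h g
  refine ⟨x, hx, ?_⟩
  rw [Subgroup.mem_centralizer_singleton_iff] at hc
  calc x * c * w * (x * c)⁻¹ = x * (c * w) * c⁻¹ * x⁻¹ := by group
    _ = x * (w * c) * c⁻¹ * x⁻¹ := by rw [hc]
    _ = x * w * x⁻¹ := by group

end Cfsg.Agent.Lib.Helper9.PSing
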