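import Mathlib
import Cfsg.Prelude.Def_GeometricClasses
import Cfsg.Agent.Lib.Helper7.SpSubDefs
import Cfsg.Agent.Lib.Helper7.Subg_N
import Cfsg.Agent.Lib.Helper7.SpSub_TR
import Cfsg.Agent.Lib.Helper7.SpSubBridge
import Cfsg.Agent.Lib.Helper9.SpMax1

set_option autoImplicit false
set_option linter.unusedSectionVars false
set_option linter.unusedVariables false

/-!
# S5650 PK-II: if every field element is a long-root coefficient at rational vectors, the group is everything
-/

namespace Cfsg.Agent.Lib.Helper7.SpSub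

open Matrix Cfsg.Agent.Lib.Helper1.SpBasic Cfsg.Agent.Lib.Helper2.Symp Cfsg.Agent.Lib.Helper7.Subg

variable {F : Type*} [Field F] {m : ℕ}

namespace PkII

open Cfsg.Agent.H9SpMax PkTR

/-- rational vectors are directions of `M` -/
theorem rat_mem_dirSet (F₀ : Subfield F) (M : Subgroup (Matrix.symplecticGroup (Fin m) F))
    (h : AL F₀ M = Set.univ) {v : Fin m ⊕ Fin m → F} (hv : Rat F₀ v) : v ∈ dirSet M := by
  intro c
  have hc : c ∈ AL F₀ M := by rw [h]; exact Set.mem_univ c
  exact hc v hv

theorem single_mem_dirSet (F₀ : Subfield F) (M : Subgroup (Matrix.symplecticGroup (Fin m) F))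
    (h : AL F₀ M = Set.univ) (k : Fin m ⊕ Fin m) :
    (Pi.single k 1 : Fin m ⊕ Fin m → F) ∈ dirSet M :=
  rat_mem_dirSet F₀ M h (Rat.single F₀ k F₀.one_mem)

/-- an element of `M` killing one coordinate of `w` (in presence of another non-zero coordinate) -/
theorem exists_kill (F₀ : Subfield F) (M : Subgroup (Matrix.symplecticGroup (Fin m) F))
    (h : AL F₀ M = Set.univ) (w : Fin m ⊕ Fin m → F) (b b' : Fin m ⊕ Fin m) (hbb : b ≠ b')
    (hb : w b ≠ 0) :
    ∃ g ∈ M, ((g : Matrix.symplecticGroup (Fin m) F) : Matrix (Fin m ⊕ Fin m) (Fin m ⊕ Fin m) F) *ᵥ w =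
      w - w b' • (Pi.single b' 1 : Fin m ⊕ Fin m → F) := by
  by_cases h1 : Cfsg.sympForm m F w (Pi.single b' 1) = 0
  · have hp : Cfsg.sympForm m F w (Pi.single (pr b) 1) ≠ 0 := form_single_ne_zero w b hb
    have horth : Cfsg.sympForm m F (Pi.single (pr b) 1 : Fin m ⊕ Fin m → F) (Pi.single b' 1) = 0 := by
      have h0 : (Pi.single (pr b) 1 : Fin m ⊕ Fin m → F) (pr b') = 0 := by
        rw [Pi.single_apply, if_neg]
        intro e
        apply hbb
        have := congrArg pr e
        rw [pr_pr, pr_pr] at this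
        exact this.symm
      have := form_single_eq_zero (Pi.single (pr b) 1 : Fin m ⊕ Fin m → F) (pr b') h0
      rwa [pr_pr] at this
    refine ⟨sig (Pi.single (pr b) 1) (Pi.single b' 1)
      (- w b' / Cfsg.sympForm m F w (Pi.single (pr b) 1)), ?_, ?_⟩
    · apply sig_mem
      · exact rat_mem_dirSet F₀ M h
          ((Rat.single F₀ _ F₀.one_mem).add (Rat.single F₀ _ F₀.one_mem)) _
      · exact single_mem_dirSet F₀ M h _ _
      · exact single_mem_dirSet F₀ M h _ _
    · rw [sig_mulVec _ _ horth, h1, mul_zero, zero_smul, add_zero, div_mul_cancel₀ _ hp, neg_smul,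
        sub_eq_add_neg]
  · refine ⟨T (Pi.single b' 1) (- w b' / Cfsg.sympForm m F w (Pi.single b' 1)),
      single_mem_dirSet F₀ M h _ _, ?_⟩
    rw [T_mulVec, div_mul_cancel₀ _ h1, neg_smul, sub_eq_add_neg]

open scoped Classical in
theorem all_mem_dirSet (F₀ : Subfield F) (M : Subgroup (Matrix.symplecticGroup (Fin m) F))
    (h : AL F₀ M = Set.univ) :
    ∀ (n : ℕ) (w : Fin m ⊕ Fin m → F),
      (Finset.univ.filter fun k => w k ≠ 0).card ≤ n → w ∈ dirSet M := by
  intro n
  induction n with
  | zero =>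
    intro w hw
    have hw0 : w = 0 := by
      ext k
      by_contra hk
      have hk' : k ∈ Finset.univ.filter fun k => w k ≠ 0 := by
        rw [Finset.mem_filter]; exact ⟨Finset.mem_univ _, hk⟩
      have := Finset.card_pos.mpr ⟨k, hk'⟩
      omega
    rw [hw0]
    exact rat_mem_dirSet F₀ M h (Rat.zero F₀)
  | succ n ih =>
    intro w hw
    by_cases h2 : ∃ b b', b ≠ b' ∧ w b ≠ 0 ∧ w b' ≠ 0
    · obtain ⟨b, b', hbb, hb, hb'⟩ := h2
      obtain ⟨g, hg, hgw⟩ := exists_kill F₀ M h w b b' hbb hb
      have hcard : (Finset.univ.filter fun k =>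
          (w - w b' • (Pi.single b' 1 : Fin m ⊕ Fin m → F)) k ≠ 0).card ≤ n := by
        have e : (Finset.univ.filter fun k =>
            (w - w b' • (Pi.single b' 1 : Fin m ⊕ Fin m → F)) k ≠ 0) =
            (Finset.univ.filter fun k => w k ≠ 0).erase b' := by
          ext k
          simp only [Finset.mem_filter, Finset.mem_univ, true_and, Finset.mem_erase, Pi.sub_apply,
            Pi.smul_apply, smul_eq_mul]
          by_cases hk : k = b'
          · subst hk; simp
          · simp [hk]
        have hmem : b' ∈ Finset.univ.filter fun k => w k ≠ 0 := by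
          rw [Finset.mem_filter]; exact ⟨Finset.mem_univ _, hb'⟩
        rw [e, Finset.card_erase_of_mem hmem]
        omega
      have h3 := dirSet_mulVec M (M.inv_mem hg) (ih _ hcard)
      rw [← hgw, inv_mulVec_mulVec] at h3
      exact h3
    · by_cases hw0 : w = 0
      · rw [hw0]; exact rat_mem_dirSet F₀ M h (Rat.zero F₀)
      · obtain ⟨k, hk⟩ := exists_coord_ne_zero hw0
        have e : w = w k • (Pi.single k 1 : Fin m ⊕ Fin m → F) := by
          ext j
          by_cases hj : j = k
          · subst hj; simp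
          · have hj0 : w j = 0 := by
              by_contra hj0
              exact h2 ⟨j, k, hj, hj0, hk⟩
            simp [hj0, hj]
        rw [e]
        exact dirSet_smul M _ (single_mem_dirSet F₀ M h k)

end PkII

/-- **PK-II**: all coefficients -/
theorem top_of_al_univ (F₀ : Subfield F) (M : Subgroup (Matrix.symplecticGroup (Fin m) F))
    (h : AL F₀ M = Set.univ) : M = ⊤ :=
  Cfsg.Agent.H9SpMax.eq_top_of_dirSet M (fun u => by
    classical
    exact PkII.all_mem_dirSet F₀ M h _ u le_rfl)

end Cfsg.Agent.Lib.Helper7.SpSub
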