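import Mathlib
import Cfsg.Agent.Lib.Helper4.VLBasic
import Cfsg.Agent.Lib.Helper9.VLTools
import Cfsg.Agent.Lib.Helper9.VLChain

set_option autoImplicit false

/-! S3777 (Vaughan-Lee): the class-2 count.  If `Z ≤ Z(Q)` contains `Q'` and all `p`-th powers and
has index `p^r`, then `|Q'| ≤ p^(r(r-1)/2)`. -/

namespace Cfsg.Agent.Lib.Helper9.VL

open Subgroup
open scoped commutatorElement

universe u

theorem tri_succ_class2 (r : ℕ) : (r + 1) * (r + 1 - 1) / 2 = r * (r - 1) / 2 + r := by
  have h1 : (r + 1) * (r + 1 - 1) = r * (r - 1) + 2 * r := by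
    cases r with
    | zero => simp
    | succ n =>
      simp only [Nat.add_sub_cancel]
      ring
  rw [h1, Nat.add_mul_div_left _ _ (by norm_num : 0 < 2)]

/-- class-2 count (general). -/
theorem card_commutator_le_of_central_elementary {p : ℕ} [hp : Fact p.Prime] :
    ∀ (r : ℕ) (Q : Type u) [Group Q] [Finite Q], IsPGroup p Q → ∀ Z : Subgroup Q,
      Z ≤ center Q → commutator Q ≤ Z → (∀ x : Q, x ^ p ∈ Z) → Z.index = p ^ r →
      Nat.card (commutator Q) ≤ p ^ (r * (r - 1) / 2) := by
  intro r
  induction r with
  | zero =>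
    intro Q _ _ hQ Z hZc hcomm hpow hidx
    have hZtop : Z = ⊤ := by
      rw [pow_zero] at hidx
      exact Subgroup.index_eq_one.mp hidx
    have hcen : center Q = ⊤ := by
      rw [hZtop] at hZc
      exact top_le_iff.mp hZc
    have hbot : commutator Q = ⊥ := by
      rw [commutator_def, Subgroup.commutator_eq_bot_iff_le_centralizer]
      intro x _
      rw [Subgroup.mem_centralizer_iff]
      intro y _
      have hx : x ∈ center Q := by rw [hcen]; exact Subgroup.mem_top x
      exact (Subgroup.mem_center_iff.mp hx y)
    rw [hbot]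
    simp
  | succ r ih =>
    intro Q _ _ hQ Z hZc hcomm hpow hidx
    have hp1 : 1 < p := hp.out.one_lt
    have hZtop : Z ≠ ⊤ := by
      intro h
      rw [h, Subgroup.index_top] at hidx
      have : 1 < p ^ (r + 1) := Nat.one_lt_pow (by omega) hp1
      omega
    obtain ⟨H, hZH, hHn, hHi⟩ :=
      Cfsg.Agent.Lib.Helper4.VL.exists_normal_index_p_of_ne_top hQ hZtop
    have hHtop : H ≠ ⊤ := by
      intro h
      rw [h, Subgroup.index_top] at hHi
      omega
    obtain ⟨y, hy⟩ : ∃ y : Q, y ∉ H := by
      by_contra hcon
      push Not at hcon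
      exact hHtop (eq_top_iff.mpr fun x _ => hcon x)
    have h1 := card_commutator_le_mul_index H hHi y hy
    -- the induction hypothesis for `H`
    have hrel : Z.relIndex H = p ^ r := by
      have h2 := Subgroup.relIndex_mul_index hZH
      rw [hHi, hidx, pow_succ] at h2
      exact Nat.eq_of_mul_eq_mul_right (by omega) h2
    have hIH : Nat.card (commutator H) ≤ p ^ (r * (r - 1) / 2) := by
      apply ih H (hQ.to_subgroup H) (Z.subgroupOf H)
      · intro z hz
        rw [Subgroup.mem_center_iff]
        intro h
        apply Subtype.ext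
        have hz' : (z : Q) ∈ center Q := hZc (Subgroup.mem_subgroupOf.mp hz)
        simpa using Subgroup.mem_center_iff.mp hz' (h : Q)
      · intro x hx
        rw [Subgroup.mem_subgroupOf]
        apply hcomm
        have h3 : (x : Q) ∈ (commutator H).map H.subtype := ⟨x, hx, rfl⟩
        rw [Subgroup.map_subtype_commutator] at h3
        rw [commutator_def]
        exact Subgroup.commutator_mono le_top le_top h3
      · intro x
        rw [Subgroup.mem_subgroupOf]
        simpa using hpow (x : Q)
      · exact hrel
    -- the index of the centralizer of `y`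
    have hyZ : y ∉ Z := fun h => hy (hZH h)
    have h4 := relIndex_sup_zpowers_of_pow_mem Z hcomm y hyZ (hpow y)
    have h5 : (Z ⊔ zpowers y).index = p ^ r := by
      have h6 := Subgroup.relIndex_mul_index (le_sup_left : Z ≤ Z ⊔ zpowers y)
      rw [h4, hidx, pow_succ, mul_comm] at h6
      exact Nat.eq_of_mul_eq_mul_right (by omega) h6
    have h7 : Z ⊔ zpowers y ≤ centralizer {y} := by
      apply sup_le
      · intro z hz
        rw [Subgroup.mem_centralizer_iff]
        intro w hw
        rw [Set.mem_singleton_iff] at hw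
        rw [hw]
        exact Subgroup.mem_center_iff.mp (hZc hz) y
      · rw [Subgroup.zpowers_le]
        rw [Subgroup.mem_centralizer_iff]
        intro w hw
        rw [Set.mem_singleton_iff] at hw
        rw [hw]
    have h8 : (centralizer ({y} : Set Q)).index ≤ p ^ r := by
      rw [← h5]
      exact Nat.le_of_dvd (Nat.pos_of_ne_zero Subgroup.index_ne_zero_of_finite)
        (Subgroup.index_dvd_of_le h7)
    calc Nat.card (commutator Q)
        ≤ Nat.card (commutator H) * (centralizer ({y} : Set Q)).index := h1
      _ ≤ p ^ (r * (r - 1) / 2) * p ^ r := Nat.mul_le_mul hIH h8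
      _ = p ^ ((r + 1) * (r + 1 - 1) / 2) := by
        rw [← pow_add, tri_succ_class2]

end Cfsg.Agent.Lib.Helper9.VL
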