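import Mathlib

set_option autoImplicit false

namespace Cfsg.Agent.Lib.Helper9.DefZ3A

variable {G : Type*} [Group G]

/-- the involution `τ g = y⁻¹ g⁻¹ y⁻¹`. -/
def tau (y g : G) : G := y⁻¹ * g⁻¹ * y⁻¹

theorem tau_tau (y g : G) : tau y (tau y g) = g := by
  simp [tau, mul_assoc]

theorem inv_eq_sq_of_pow_three {y : G} (hy3 : y ^ 3 = 1) : y⁻¹ = y * y := by
  have : y * (y * y) = 1 := by
    rw [← hy3, pow_succ, pow_succ, pow_one, mul_assoc]
  exact inv_eq_of_mul_eq_one_right this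

theorem tau_mem (x y g : G) (hy3 : y ^ 3 = 1) (h : IsConj x g ∧ IsConj x (g⁻¹ * y)) :
    IsConj x (tau y g) ∧ IsConj x ((tau y g)⁻¹ * y) := by
  have hy2 : y⁻¹ = y * y := inv_eq_sq_of_pow_three hy3
  constructor
  · have e : tau y g = y⁻¹ * (g⁻¹ * y) * (y⁻¹)⁻¹ := by
      have e1 : y⁻¹ * (g⁻¹ * y) * (y⁻¹)⁻¹ = y⁻¹ * g⁻¹ * (y * y) := by group
      rw [e1, ← hy2]; rfl
    rw [e]
    exact h.2.trans (isConj_iff.mpr ⟨y⁻¹, rfl⟩)
  · have e : (tau y g)⁻¹ * y = y * g * y⁻¹ := by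
      have e1 : (tau y g)⁻¹ * y = y * g * (y * y) := by
        simp only [tau]; group
      rw [e1, ← hy2]
    rw [e]
    exact h.1.trans (isConj_iff.mpr ⟨y, rfl⟩)

/-- a fixed point of `τ` is `y⁻¹`: otherwise we get a nontrivial 2-subgroup normalized by `y`. -/
theorem fixed_eq (y g : G) (hy3 : y ^ 3 = 1) (hg3 : g ^ 3 = 1)
    (hyQ : ∀ Q : Subgroup G, IsPGroup 2 ↥Q → y ∈ Subgroup.normalizer (Q : Set G) → Q = ⊥)
    (hfix : tau y g = g) : g = y⁻¹ := by
  by_contra hne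
  set u : G := y * g with hu
  have hu1 : u ≠ 1 := by
    intro h
    apply hne
    exact eq_inv_of_mul_eq_one_right h
  have hfix' : y⁻¹ * g⁻¹ * y⁻¹ = g := hfix
  have h2 : g⁻¹ = y * g * y := by
    calc g⁻¹ = y * (y⁻¹ * g⁻¹ * y⁻¹) * y := by group
      _ = y * g * y := by rw [hfix']
  have hgyg : g * y * g = y⁻¹ := by
    calc g * y * g = (g⁻¹)⁻¹ * y * g := by rw [inv_inv]
      _ = (y * g * y)⁻¹ * y * g := by rw [h2]
      _ = y⁻¹ := by group
  have huu : u * u = 1 := by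
    calc u * u = y * (g * y * g) := by simp [hu, mul_assoc]
      _ = 1 := by rw [hgyg]; simp
  have hgu : g = y⁻¹ * u := by simp [hu]
  set u1 : G := y⁻¹ * u * y with hu1d
  set u2 : G := y⁻¹ * u1 * y with hu2d
  have hy3' : y * y * y = 1 := by rw [← hy3, pow_succ, pow_succ, pow_one]
  have hyy : y * y = y⁻¹ := (inv_eq_sq_of_pow_three hy3).symm
  have hyinv3 : y⁻¹ * y⁻¹ * y⁻¹ = 1 := by
    have e : y⁻¹ * y⁻¹ * y⁻¹ = (y * y * y)⁻¹ := by group
    rw [e, hy3', inv_one]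
  have hu3 : y⁻¹ * u2 * y = u := by
    have e : y⁻¹ * u2 * y = (y⁻¹ * y⁻¹ * y⁻¹) * u * (y * y * y) := by
      simp only [hu2d, hu1d]; group
    rw [e, hy3', hyinv3]; simp
  have hprod : u1 * u2 * u = 1 := by
    have h3 : g * g * g = 1 := by rw [← hg3, pow_succ, pow_succ, pow_one]
    rw [hgu] at h3
    have e : u1 * u2 * u = y⁻¹ * u * (y⁻¹ * u) * ((y * y) * u) := by
      simp only [hu2d, hu1d]; group
    rw [e, hyy]; exact h3
  have hu1u1 : u1 * u1 = 1 := by
    have e : u1 * u1 = y⁻¹ * (u * u) * y := by simp only [hu1d]; group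
    rw [e, huu]; simp
  have hu2u2 : u2 * u2 = 1 := by
    have e : u2 * u2 = y⁻¹ * (u1 * u1) * y := by simp only [hu2d]; group
    rw [e, hu1u1]; simp
  have hiu : u⁻¹ = u := inv_eq_of_mul_eq_one_right huu
  have hi1 : u1⁻¹ = u1 := inv_eq_of_mul_eq_one_right hu1u1
  have hi2 : u2⁻¹ = u2 := inv_eq_of_mul_eq_one_right hu2u2
  have h12 : u1 * u2 = u := by
    have : u1 * u2 = u⁻¹ := eq_inv_of_mul_eq_one_left hprod
    rw [this, hiu]
  have h21 : u2 * u1 = u := by
    have h : (u1 * u2) * (u1 * u2) = 1 := by rw [h12]; exact huu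
    calc u2 * u1 = u2⁻¹ * u1⁻¹ := by rw [hi1, hi2]
      _ = (u1 * u2)⁻¹ := (mul_inv_rev u1 u2).symm
      _ = u1 * u2 := inv_eq_of_mul_eq_one_right h
      _ = u := h12
  have e1u : u1 * u = u2 := by rw [← h12, ← mul_assoc, hu1u1, one_mul]
  have eu1 : u * u1 = u2 := by rw [← h21, mul_assoc, hu1u1, mul_one]
  have e2u : u2 * u = u1 := by rw [← h21, ← mul_assoc, hu2u2, one_mul]
  have eu2 : u * u2 = u1 := by rw [← h12, mul_assoc, hu2u2, mul_one]
  let Q : Subgroup G :=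
    { carrier := {a | a = 1 ∨ a = u1 ∨ a = u2 ∨ a = u}
      one_mem' := Or.inl rfl
      mul_mem' := by
        intro a b ha hb
        have ha' : a = 1 ∨ a = u1 ∨ a = u2 ∨ a = u := ha
        have hb' : b = 1 ∨ b = u1 ∨ b = u2 ∨ b = u := hb
        show a * b = 1 ∨ a * b = u1 ∨ a * b = u2 ∨ a * b = u
        rcases ha' with rfl | rfl | rfl | rfl <;> rcases hb' with rfl | rfl | rfl | rfl <;>
          simp [hu1u1, hu2u2, huu, h12, h21, e1u, eu1, e2u, eu2]
      inv_mem' := by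
        intro a ha
        have ha' : a = 1 ∨ a = u1 ∨ a = u2 ∨ a = u := ha
        show a⁻¹ = 1 ∨ a⁻¹ = u1 ∨ a⁻¹ = u2 ∨ a⁻¹ = u
        rcases ha' with rfl | rfl | rfl | rfl <;> simp [hi1, hi2, hiu] }
  have hQmem : ∀ a : G, a ∈ Q ↔ a = 1 ∨ a = u1 ∨ a = u2 ∨ a = u := fun a => Iff.rfl
  have hQ2 : IsPGroup 2 ↥Q := by
    intro a
    refine ⟨1, Subtype.ext ?_⟩
    have ha := (hQmem a.1).mp a.2
    simp only [pow_one, sq, Subgroup.coe_mul, Subgroup.coe_one]
    rcases ha with h | h | h | h <;> rw [h]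
    · simp
    · exact hu1u1
    · exact hu2u2
    · exact huu
  have hconj : ∀ a ∈ Q, y⁻¹ * a * y ∈ Q := by
    intro a ha
    rcases (hQmem a).mp ha with rfl | rfl | rfl | rfl
    · exact (hQmem _).mpr (Or.inl (by simp))
    · exact (hQmem _).mpr (Or.inr (Or.inr (Or.inl rfl)))
    · exact (hQmem _).mpr (Or.inr (Or.inr (Or.inr hu3)))
    · exact (hQmem _).mpr (Or.inr (Or.inl rfl))
  have hnorm : y ∈ Subgroup.normalizer (Q : Set G) := by
    rw [Subgroup.mem_normalizer_iff'']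
    intro a
    refine ⟨hconj a, fun hk => ?_⟩
    have h1 := hconj _ (hconj _ hk)
    have e : y⁻¹ * (y⁻¹ * (y⁻¹ * a * y) * y) * y = (y⁻¹ * y⁻¹ * y⁻¹) * a * (y * y * y) := by group
    rw [e, hy3', hyinv3] at h1
    simpa using h1
  have hQbot := hyQ Q hQ2 hnorm
  have hmem : u ∈ Q := (hQmem u).mpr (Or.inr (Or.inr (Or.inr rfl)))
  rw [hQbot, Subgroup.mem_bot] at hmem
  exact hu1 hmem

end Cfsg.Agent.Lib.Helper9.DefZ3A

namespace Cfsg.Agent.Lib.DefZ3

open Cfsg.Agent.Lib.Helper9.DefZ3A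

theorem parity {G : Type*} [Group G] [Finite G] (x y : G) (hx : orderOf x = 3) (hy : orderOf y = 3)
    (hyQ : ∀ Q : Subgroup G, IsPGroup 2 ↥Q → y ∈ Subgroup.normalizer (Q : Set G) → Q = ⊥) :
    Even (Nat.card {g : G // IsConj x g ∧ IsConj x (g⁻¹ * y)}) ↔ ¬ IsConj x y⁻¹ := by
  classical
  have : Fintype G := Fintype.ofFinite G
  have hy3 : y ^ 3 = 1 := by rw [← hy]; exact pow_orderOf_eq_one y
  have hx3 : x ^ 3 = 1 := by rw [← hx]; exact pow_orderOf_eq_one x
  set T := {g : G // IsConj x g ∧ IsConj x (g⁻¹ * y)} with hT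
  -- the involution on T
  let f : Function.End T := fun t => ⟨tau y t.1, tau_mem x y t.1 hy3 t.2⟩
  have hf : f ^ 2 ^ 1 = 1 := by
    funext t
    apply Subtype.ext
    show tau y (tau y t.1) = t.1
    exact tau_tau y t.1
  have : Fact (Nat.Prime 2) := ⟨Nat.prime_two⟩
  have hmod := Equiv.Perm.card_fixedPoints_modEq (f := f) (p := 2) (n := 1) hf
  -- fixed points
  have hg3 : ∀ t : T, t.1 ^ 3 = 1 := by
    intro t
    obtain ⟨c, hc⟩ := isConj_iff.mp t.2.1
    rw [← hc, conj_pow, hx3]; simp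
  have hfixed : ∀ t : T, t ∈ Function.fixedPoints f ↔ t.1 = y⁻¹ := by
    intro t
    constructor
    · intro h
      have : tau y t.1 = t.1 := congrArg Subtype.val h
      exact fixed_eq y t.1 hy3 (hg3 t) hyQ this
    · intro h
      apply Subtype.ext
      show tau y t.1 = t.1
      rw [h]; simp [tau]
  rw [Nat.card_eq_fintype_card]
  by_cases hc : IsConj x y⁻¹
  · -- exactly one fixed point
    have hmemT : IsConj x y⁻¹ ∧ IsConj x ((y⁻¹)⁻¹ * y) := by
      refine ⟨hc, ?_⟩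
      have : (y⁻¹)⁻¹ * y = y⁻¹ := by rw [inv_inv]; exact (inv_eq_sq_of_pow_three hy3).symm
      rw [this]; exact hc
    have hcard : Fintype.card (Function.fixedPoints f) = 1 := by
      rw [Fintype.card_eq_one_iff]
      refine ⟨⟨⟨y⁻¹, hmemT⟩, (hfixed _).mpr rfl⟩, ?_⟩
      intro s
      apply Subtype.ext
      apply Subtype.ext
      exact (hfixed s.1).mp s.2
    rw [hcard] at hmod
    constructor
    · intro hev
      exfalso
      have : Fintype.card T % 2 = 0 := Nat.even_iff.mp hev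
      have h1 : Fintype.card T % 2 = 1 % 2 := hmod
      omega
    · intro h; exact absurd hc h
  · have hcard : Fintype.card (Function.fixedPoints f) = 0 := by
      rw [Fintype.card_eq_zero_iff]
      refine ⟨fun s => ?_⟩
      have h1 := (hfixed s.1).mp s.2
      apply hc
      have := s.1.2.1
      rwa [h1] at this
    rw [hcard] at hmod
    constructor
    · intro _; exact hc
    · intro _
      have h1 : Fintype.card T % 2 = 0 % 2 := hmod
      exact Nat.even_iff.mpr (by omega)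

end Cfsg.Agent.Lib.DefZ3
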