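import Mathlib
import Cfsg.Prelude.Def_Blocks
import Cfsg.Prelude.Def_BlockRank
import Cfsg.Agent.Lib.Helper8.KC1
import Cfsg.Agent.Lib.Helper8.BlockDefect
import Cfsg.Agent.Lib.Helper8.HKS_Defs

set_option autoImplicit false

/-!
S4588 swarm, package PK-Dn: the principal block of a group with a normal `p`-complement has the
one-element basic set `u 0 = 1°` (`e = 1`, `t = |K|_p - 1`).
-/

namespace Cfsg.Agent.Lib.Helper8.HKS

open Cfsg
open scoped ComplexConjugate
open Cfsg.Agent.Lib.Helper1 Cfsg.Agent.Lib.Helper4 Cfsg.Agent.Lib.Helper8 Cfsg.Agent.Lib.Helper8.MJ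

universe u

namespace PkDn

section
variable {K : Type u} [Group K] [Fintype K] {p : ℕ} [Fact p.Prime]

/-- members of the principal block are trivial on every normal `p'`-subgroup
(copy of `PN2.principalBlock_ker`, whose file cannot be imported next to `QB4`) -/
theorem principalBlock_ker' {M : Ideal AlgInt} (hM : IsPModular p M) (Y : Subgroup K) [Y.Normal]
    (hY : ¬ p ∣ Nat.card Y) :
    ∀ χ ∈ principalBlock M K, ∀ y ∈ Y, (χ : K → ℂ) y = (χ : K → ℂ) 1 := by
  have hMp := isPModular_isPrime hM
  apply ker_of_exists_ker hM isPBlock_principalBlock Y hY (trivIrr_mem_principalBlock hMp.ne_top)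
  intro y _
  rw [trivIrr_apply, trivIrr_apply]

/-- the elements of a normal `p`-complement are exactly the `p`-regular elements -/
theorem mem_iff_not_dvd (N : Subgroup K) [N.Normal] (hN : ¬ p ∣ Nat.card N) {a : ℕ}
    (hidx : N.index = p ^ a) (g : K) : g ∈ N ↔ ¬ p ∣ orderOf g := by
  constructor
  · intro hg hp
    apply hN
    have h1 : orderOf (⟨g, hg⟩ : N) ∣ Nat.card N := orderOf_dvd_natCard _
    rw [Subgroup.orderOf_mk] at h1
    exact dvd_trans hp h1
  · intro hg
    have h1 : orderOf (QuotientGroup.mk' N g) ∣ orderOf g := orderOf_map_dvd _ g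
    have h2 : orderOf (QuotientGroup.mk' N g) ∣ p ^ a := by
      rw [← hidx, Subgroup.index_eq_card]
      exact orderOf_dvd_natCard _
    have hcop : Nat.Coprime (p ^ a) (orderOf g) :=
      Nat.Coprime.pow_left _ ((Nat.Prime.coprime_iff_not_dvd Fact.out).mpr hg)
    have h3 : orderOf (QuotientGroup.mk' N g) = 1 :=
      Nat.eq_one_of_dvd_coprimes hcop h2 h1
    rw [orderOf_eq_one_iff] at h3
    exact (QuotientGroup.eq_one_iff g).mp h3

end

end PkDn

section PkD
variable {K : Type u} [Group K] [Fintype K] {p : ℕ} [Fact p.Prime] {M : Ideal AlgInt}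

/-- PK-Dn -/
theorem hasSmallBasicSet_of_normal_complement (hM : IsPModular p M) (N : Subgroup K) [N.Normal]
    (hN : ¬ p ∣ Nat.card N) (hidx : N.index = p ^ (Nat.card K).factorization p) :
    HasSmallBasicSet p M K := by
  classical
  have hMp := isPModular_isPrime hM
  have hp : p.Prime := Fact.out
  have hpa : 1 ≤ p ^ (Nat.card K).factorization p := Nat.one_le_pow _ _ hp.pos
  have hmem := PkDn.mem_iff_not_dvd N hN hidx
  have htriv : trivIrr K ∈ principalBlock M K := trivIrr_mem_principalBlock hMp.ne_top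
  refine ⟨1, p ^ (Nat.card K).factorization p - 1,
    fun _ => pRegularPart p (trivIrr K : K → ℂ), le_refl 1, by omega, by omega, ?_, ?_, ?_⟩
  · intro _
    exact pReg_mem_lat htriv
  · intro ψ hψ
    obtain ⟨n, hn⟩ := isCharacter_apply_one (isCharacter_of_irr ψ.2)
    have hker := PkDn.principalBlock_ker' hM N hN ψ hψ
    have h1 : pRegularPart p (ψ : K → ℂ) = n • pRegularPart p (trivIrr K : K → ℂ) := by
      funext g
      rw [Pi.smul_apply, nsmul_eq_mul]
      by_cases hg : p ∣ orderOf g
      · rw [pRegularPart_of_dvd _ hg, pRegularPart_of_dvd _ hg, mul_zero]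
      · rw [pRegularPart_of_not_dvd _ hg, pRegularPart_of_not_dvd _ hg, trivIrr_apply, mul_one,
          hker g ((hmem g).mpr hg), hn]
    rw [h1]
    exact AddSubgroup.nsmul_mem _ (AddSubgroup.subset_closure (Set.mem_range_self (0 : Fin 1))) n
  · intro i j
    have hij : i = j := Subsingleton.elim i j
    rw [if_pos hij, classInner_def]
    have hsum : ∑ g : K, pRegularPart p (trivIrr K : K → ℂ) g *
        conj (pRegularPart p (trivIrr K : K → ℂ) g) = (Nat.card N : ℂ) := by
      have h2 : ∀ g : K, pRegularPart p (trivIrr K : K → ℂ) g *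
          conj (pRegularPart p (trivIrr K : K → ℂ) g) = if g ∈ N then 1 else 0 := by
        intro g
        by_cases hg : p ∣ orderOf g
        · rw [pRegularPart_of_dvd _ hg, zero_mul, if_neg]
          intro hgN
          exact (hmem g).mp hgN hg
        · rw [pRegularPart_of_not_dvd _ hg, trivIrr_apply, map_one, mul_one,
            if_pos ((hmem g).mpr hg)]
      rw [Finset.sum_congr rfl (fun g _ => h2 g), Finset.sum_boole, Nat.card_eq_fintype_card,
        Fintype.card_subtype]
    rw [hsum]
    have hcard : (Nat.card K : ℂ) = (Nat.card N : ℂ) * ((p ^ (Nat.card K).factorization p : ℕ) : ℂ) := by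
      rw [← hidx, ← Nat.cast_mul, Subgroup.card_mul_index]
    have hN0 : (Nat.card N : ℂ) ≠ 0 := Nat.cast_ne_zero.mpr Nat.card_pos.ne'
    have hp0 : ((p ^ (Nat.card K).factorization p : ℕ) : ℂ) ≠ 0 := Nat.cast_ne_zero.mpr (by omega)
    rw [hcard, Nat.cast_sub hpa, Nat.cast_one]
    field_simp
    ring

/-- PK-Dn -/
theorem hasSmallBasicSet_of_two (hM : IsPModular p M)
    (h : (Nat.card K).factorization p = 0 ∨ (p = 2 ∧ (Nat.card K).factorization p = 1)) :
    HasSmallBasicSet p M K := by
  have hp : p.Prime := Fact.out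
  rcases h with h0 | ⟨h2, h1⟩
  · refine hasSmallBasicSet_of_normal_complement hM ⊤ ?_ ?_
    · rw [Subgroup.card_top]
      rcases (Nat.factorization_eq_zero_iff _ _).mp h0 with h | h | h
      · exact absurd hp h
      · exact h
      · exact absurd h Nat.card_pos.ne'
    · rw [Subgroup.index_top, h0, pow_zero]
  · subst h2
    have hdvd : 2 ∣ Nat.card K := by
      by_contra hnd
      rw [Nat.factorization_eq_zero_of_not_dvd hnd] at h1
      exact zero_ne_one h1
    have hmin : (Nat.card K).minFac = 2 := (Nat.minFac_eq_two_iff _).mpr hdvd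
    obtain ⟨P⟩ : Nonempty (Sylow 2 K) := inferInstance
    have hcardP : Nat.card P = 2 := by
      rw [Sylow.card_eq_multiplicity, h1, pow_one]
    have hcyc : IsCyclic P := by
      haveI : Fact (Nat.card P).Prime := ⟨by rw [hcardP]; exact Nat.prime_two⟩
      exact isCyclic_of_prime_card rfl
    have hcompl := IsCyclic.isComplement' hmin hcyc
    refine hasSmallBasicSet_of_normal_complement hM
      (MonoidHom.transferSylow P (hcyc.normalizer_le_centralizer hmin)).ker
      (MonoidHom.not_dvd_card_ker_transferSylow P _) ?_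
    rw [hcompl.symm.index_eq_card, hcardP, h1, pow_one]

end PkD

end Cfsg.Agent.Lib.Helper8.HKS
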