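import Mathlib

/-!
# S4306: averaging operators on an abelian subgroup and the independence lemma behind Lemma U
-/

set_option autoImplicit false
set_option linter.unusedSectionVars false
set_option linter.unusedVariables false

namespace Cfsg.Agent.Lib.Helper9.PQInd

universe w

variable {T : Type w} [Group T] [Finite T]

section avg

variable {Q : Subgroup T} (hQc : ∀ x ∈ Q, ∀ y ∈ Q, x * y = y * x)

/-- the product of the conjugates of `v ∈ Q` under a subgroup `B` normalizing the abelian group `Q`,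
as a statement: there is `e ∈ Q`, fixed by `B`, fixed by every `c` normalizing `B` and `Q` and
fixing `v`, multiplicative in `v`, and equal to `v ^ |B|` if `B` fixes `v`.  We package the
operator as a function. -/
noncomputable def avg (B : Subgroup T) (hBQ : ∀ b ∈ B, ∀ y ∈ Q, b * y * b⁻¹ ∈ Q) (v : Q) : Q :=
  letI : CommGroup Q :=
    { (inferInstance : Group Q) with mul_comm := fun a b => Subtype.ext (hQc a a.2 b b.2) }
  letI : Fintype B := Fintype.ofFinite B
  ∏ b : B, (⟨(b : T) * v * (b : T)⁻¹, hBQ b b.2 v v.2⟩ : Q)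

variable {hQc}

theorem avg_one (B : Subgroup T) (hBQ : ∀ b ∈ B, ∀ y ∈ Q, b * y * b⁻¹ ∈ Q) :
    avg hQc B hBQ 1 = 1 := by
  classical
  let _ : CommGroup Q :=
    { (inferInstance : Group Q) with mul_comm := fun a b => Subtype.ext (hQc a a.2 b b.2) }
  let _ : Fintype B := Fintype.ofFinite B
  unfold avg
  apply Finset.prod_eq_one
  intro b _
  apply Subtype.ext
  simp

theorem avg_mul (B : Subgroup T) (hBQ : ∀ b ∈ B, ∀ y ∈ Q, b * y * b⁻¹ ∈ Q) (v w : Q) :
    avg hQc B hBQ (v * w) = avg hQc B hBQ v * avg hQc B hBQ w := by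
  classical
  let _ : CommGroup Q :=
    { (inferInstance : Group Q) with mul_comm := fun a b => Subtype.ext (hQc a a.2 b b.2) }
  let _ : Fintype B := Fintype.ofFinite B
  unfold avg
  rw [← Finset.prod_mul_distrib]
  apply Finset.prod_congr rfl
  intro b _
  apply Subtype.ext
  show (b : T) * ((v : T) * (w : T)) * (b : T)⁻¹ = ((b : T) * v * (b : T)⁻¹) * ((b : T) * w * (b : T)⁻¹)
  group

/-- conjugating the average by `c`, when `c` normalizes `B` and `Q`. -/
theorem conj_avg (B : Subgroup T) (hBQ : ∀ b ∈ B, ∀ y ∈ Q, b * y * b⁻¹ ∈ Q) {c : T}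
    (hcB : ∀ b ∈ B, c * b * c⁻¹ ∈ B) (hcB' : ∀ b ∈ B, c⁻¹ * b * c ∈ B)
    (hcQ : ∀ y ∈ Q, c * y * c⁻¹ ∈ Q) (v : Q) :
    c * (avg hQc B hBQ v : T) * c⁻¹ = (avg hQc B hBQ ⟨c * v * c⁻¹, hcQ v v.2⟩ : T) := by
  classical
  let _ : CommGroup Q :=
    { (inferInstance : Group Q) with mul_comm := fun a b => Subtype.ext (hQc a a.2 b b.2) }
  let _ : Fintype B := Fintype.ofFinite B
  -- conjugation by `c` as a hom `Q →* Q`
  let φ : Q →* Q :=
    { toFun := fun y => ⟨c * y * c⁻¹, hcQ y y.2⟩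
      map_one' := by apply Subtype.ext; simp
      map_mul' := by
        intro a b
        apply Subtype.ext
        show c * ((a : T) * (b : T)) * c⁻¹ = (c * a * c⁻¹) * (c * b * c⁻¹)
        group }
  have h1 : c * (avg hQc B hBQ v : T) * c⁻¹ = (φ (avg hQc B hBQ v) : T) := rfl
  rw [h1]
  congr 1
  unfold avg
  rw [map_prod]
  -- reindex by `b ↦ c b c⁻¹`
  let e : B ≃ B :=
    { toFun := fun b => ⟨c * b * c⁻¹, hcB b b.2⟩
      invFun := fun b => ⟨c⁻¹ * b * c, hcB' b b.2⟩
      left_inv := by intro b; apply Subtype.ext; show c⁻¹ * (c * (b : T) * c⁻¹) * c = b; group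
      right_inv := by intro b; apply Subtype.ext; show c * (c⁻¹ * (b : T) * c) * c⁻¹ = b; group }
  apply Fintype.prod_equiv e
  intro b
  apply Subtype.ext
  show c * ((b : T) * v * (b : T)⁻¹) * c⁻¹ = (c * (b : T) * c⁻¹) * (c * v * c⁻¹) * (c * (b : T) * c⁻¹)⁻¹
  group

/-- the average is fixed by `B`. -/
theorem avg_fixed (B : Subgroup T) (hBQ : ∀ b ∈ B, ∀ y ∈ Q, b * y * b⁻¹ ∈ Q) (v : Q) {c : T}
    (hc : c ∈ B) : c * (avg hQc B hBQ v : T) * c⁻¹ = (avg hQc B hBQ v : T) := by
  classical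
  let _ : CommGroup Q :=
    { (inferInstance : Group Q) with mul_comm := fun a b => Subtype.ext (hQc a a.2 b b.2) }
  let _ : Fintype B := Fintype.ofFinite B
  let φ : Q →* Q :=
    { toFun := fun y => ⟨c * y * c⁻¹, hBQ c hc y y.2⟩
      map_one' := by apply Subtype.ext; simp
      map_mul' := by
        intro a b
        apply Subtype.ext
        show c * ((a : T) * (b : T)) * c⁻¹ = (c * a * c⁻¹) * (c * b * c⁻¹)
        group }
  have h1 : c * (avg hQc B hBQ v : T) * c⁻¹ = (φ (avg hQc B hBQ v) : T) := rfl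
  rw [h1]
  congr 1
  unfold avg
  rw [map_prod]
  apply Fintype.prod_equiv (Equiv.mulLeft (⟨c, hc⟩ : B))
  intro b
  apply Subtype.ext
  show c * ((b : T) * v * (b : T)⁻¹) * c⁻¹ = ((⟨c, hc⟩ * b : B) : T) * v * ((⟨c, hc⟩ * b : B) : T)⁻¹
  rw [Subgroup.coe_mul]
  group

/-- on fixed points the average is the `|B|`-th power. -/
theorem avg_of_fixed (B : Subgroup T) (hBQ : ∀ b ∈ B, ∀ y ∈ Q, b * y * b⁻¹ ∈ Q) (v : Q)
    (hv : ∀ b ∈ B, b * (v : T) = v * b) : avg hQc B hBQ v = v ^ Nat.card B := by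
  classical
  let _ : CommGroup Q :=
    { (inferInstance : Group Q) with mul_comm := fun a b => Subtype.ext (hQc a a.2 b b.2) }
  let _ : Fintype B := Fintype.ofFinite B
  unfold avg
  have : ∀ b : B, (⟨(b : T) * v * (b : T)⁻¹, hBQ b b.2 v v.2⟩ : Q) = v := by
    intro b
    apply Subtype.ext
    show (b : T) * v * (b : T)⁻¹ = v
    rw [hv b b.2]; group
  rw [Finset.prod_congr rfl (fun b _ => this b), Finset.prod_const, Finset.card_univ,
    Nat.card_eq_fintype_card]

end avg

/-- **independence**: `Q` abelian, `S` acting coprimely with `C_Q(S) = 1`, `B i ≤ S` normal in `S`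
with `S ≤ B i ⊔ B j` for `i ≠ j`; if `u i ∈ C_Q(B i)` and `∏ u i = 1` then every `u i = 1`. -/
theorem independent {ι : Type*} [Fintype ι] [DecidableEq ι] {Q S : Subgroup T}
    (hQc : ∀ x ∈ Q, ∀ y ∈ Q, x * y = y * x)
    (hSQ : ∀ x ∈ S, ∀ y ∈ Q, x * y * x⁻¹ ∈ Q)
    (hcent : ∀ y ∈ Q, (∀ x ∈ S, x * y = y * x) → y = 1)
    (hcop : (Nat.card S).Coprime (Nat.card Q))
    (B : ι → Subgroup T) (hBS : ∀ i, B i ≤ S)
    (hBn : ∀ i, ∀ x ∈ S, ∀ b ∈ B i, x * b * x⁻¹ ∈ B i)
    (hgen : ∀ i j, i ≠ j → S ≤ B i ⊔ B j)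
    (u : ι → Q) (hu : ∀ i, ∀ b ∈ B i, b * (u i : T) = u i * b)
    (hprod : letI : CommGroup Q :=
      { (inferInstance : Group Q) with mul_comm := fun a b => Subtype.ext (hQc a a.2 b b.2) }
      ∏ i, u i = 1) : ∀ i, u i = 1 := by
  classical
  let _ : CommGroup Q :=
    { (inferInstance : Group Q) with mul_comm := fun a b => Subtype.ext (hQc a a.2 b b.2) }
  intro j
  have hBQ : ∀ i, ∀ b ∈ B i, ∀ y ∈ Q, b * y * b⁻¹ ∈ Q := fun i b hb y hy => hSQ b (hBS i hb) y hy
  -- apply the average over `B j`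
  have hmap : ∀ (s : Finset ι), avg hQc (B j) (hBQ j) (∏ i ∈ s, u i)
      = ∏ i ∈ s, avg hQc (B j) (hBQ j) (u i) := by
    intro s
    induction s using Finset.induction_on with
    | empty => simp [avg_one]
    | insert a s ha ih => rw [Finset.prod_insert ha, Finset.prod_insert ha, avg_mul, ih]
  have h1 := hmap Finset.univ
  rw [hprod, avg_one] at h1
  -- the terms `i ≠ j` vanish
  have hvan : ∀ i, i ≠ j → avg hQc (B j) (hBQ j) (u i) = 1 := by
    intro i hij
    apply Subtype.ext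
    apply hcent _ (avg hQc (B j) (hBQ j) (u i)).2
    -- fixed by `B i ⊔ B j ⊇ S`
    have hfixj : ∀ c ∈ B j, c * (avg hQc (B j) (hBQ j) (u i) : T) = avg hQc (B j) (hBQ j) (u i) * c := by
      intro c hc
      have := avg_fixed (hQc := hQc) (B j) (hBQ j) (u i) hc
      calc c * (avg hQc (B j) (hBQ j) (u i) : T) = (c * (avg hQc (B j) (hBQ j) (u i) : T) * c⁻¹) * c := by group
        _ = _ := by rw [this]
    have hfixi : ∀ c ∈ B i, c * (avg hQc (B j) (hBQ j) (u i) : T) = avg hQc (B j) (hBQ j) (u i) * c := by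
      intro c hc
      have hcS := hBS i hc
      have hcB' : ∀ b ∈ B j, c⁻¹ * b * c ∈ B j := by
        intro b hb
        have := hBn j c⁻¹ (S.inv_mem hcS) b hb
        rwa [inv_inv] at this
      have h2 := conj_avg (hQc := hQc) (B j) (hBQ j) (hBn j c hcS) hcB' (hSQ c hcS) (u i)
      have h3 : (⟨c * (u i : T) * c⁻¹, hSQ c hcS (u i) (u i).2⟩ : Q) = u i := by
        apply Subtype.ext
        show c * (u i : T) * c⁻¹ = u i
        rw [hu i c hc]; group
      rw [h3] at h2
      calc c * (avg hQc (B j) (hBQ j) (u i) : T) = (c * (avg hQc (B j) (hBQ j) (u i) : T) * c⁻¹) * c := by group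
        _ = _ := by rw [h2]
    have hle : B i ⊔ B j ≤ Subgroup.centralizer {(avg hQc (B j) (hBQ j) (u i) : T)} := by
      apply sup_le
      · intro c hc
        rw [Subgroup.mem_centralizer_singleton_iff]
        exact hfixi c hc
      · intro c hc
        rw [Subgroup.mem_centralizer_singleton_iff]
        exact hfixj c hc
    intro x hx
    have := hle (hgen i j hij hx)
    rw [Subgroup.mem_centralizer_singleton_iff] at this
    exact this
  rw [Finset.prod_eq_single j (fun i _ hij => hvan i hij) (fun h => absurd (Finset.mem_univ j) h),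
    avg_of_fixed (hQc := hQc) (B j) (hBQ j) (u j) (hu j)] at h1
  -- coprime orders
  have h2 : (u j) ^ Nat.card Q = 1 := pow_card_eq_one'
  have h3 : orderOf (u j) ∣ Nat.gcd (Nat.card (B j)) (Nat.card Q) :=
    Nat.dvd_gcd (orderOf_dvd_of_pow_eq_one h1.symm) (orderOf_dvd_of_pow_eq_one h2)
  have h4 : (Nat.card (B j)).Coprime (Nat.card Q) :=
    Nat.Coprime.coprime_dvd_left (Subgroup.card_dvd_of_le (hBS j)) hcop
  rw [h4.gcd_eq_one, Nat.dvd_one] at h3
  exact orderOf_eq_one_iff.1 h3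

end Cfsg.Agent.Lib.Helper9.PQInd
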