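import Mathlib
import Cfsg.Agent.Lib.Helper9.PQInd

/-!
# S4306: Lemma U, the case of a complement generator in type (β) (abstract form)
-/

set_option autoImplicit false
set_option linter.unusedSectionVars false
set_option linter.unusedVariables false

namespace Cfsg.Agent.Lib.Helper9.PQU

open Cfsg.Agent.Lib.Helper9.PQInd

universe w

variable {T : Type w} [Group T] [Finite T]

/-- in a finite group, a subgroup stable under conjugation by `g` is stable under conjugation
by `g⁻¹`. -/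
theorem conj_inv_mem' {K : Subgroup T} {g : T} (h : ∀ y ∈ K, g * y * g⁻¹ ∈ K) :
    ∀ y ∈ K, g⁻¹ * y * g ∈ K := by
  intro y hy
  let f : K → K := fun z => ⟨g * z * g⁻¹, h z z.2⟩
  have hf : Function.Injective f := by
    intro a b hab
    have : g * (a : T) * g⁻¹ = g * (b : T) * g⁻¹ := congrArg Subtype.val hab
    exact Subtype.ext (by simpa using this)
  obtain ⟨z, hz⟩ := (Finite.injective_iff_surjective.1 hf) ⟨y, hy⟩
  have h1 : g * (z : T) * g⁻¹ = y := congrArg Subtype.val hz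
  have h2 : g⁻¹ * y * g = z := by rw [← h1]; group
  rw [h2]; exact z.2

/-- **Lemma U, type (β), `a = h` a generator of a complement** (abstract form):
`Q` abelian, normalized by `S`, `F`, `h`; `C_Q(S) = 1`, `C_Q(F⟨h⟩) = 1`; `B₀ ⊴ S` with
`B₀ · xB₀x⁻¹ = S` for `1 ≠ x ∈ F`.  Then `C_Q(B₀⟨h⟩) = 1`. -/
theorem lemmaU_beta {Q S F : Subgroup T} {h : T}
    (hQc : ∀ x ∈ Q, ∀ y ∈ Q, x * y = y * x)
    (hSQ : ∀ x ∈ S, ∀ y ∈ Q, x * y * x⁻¹ ∈ Q)
    (hFQ : ∀ x ∈ F, ∀ y ∈ Q, x * y * x⁻¹ ∈ Q)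
    (hhQ : ∀ y ∈ Q, h * y * h⁻¹ ∈ Q)
    (hFS : ∀ x ∈ F, ∀ y ∈ S, x * y * x⁻¹ ∈ S)
    (hhF : ∀ x ∈ F, h * x * h⁻¹ ∈ F)
    (hcent : ∀ y ∈ Q, (∀ x ∈ S, x * y = y * x) → y = 1)
    (hcop : (Nat.card S).Coprime (Nat.card Q))
    (hfpf : ∀ y ∈ Q, (∀ x ∈ F, x * y = y * x) → h * y = y * h → y = 1)
    (B0 : Subgroup T) (hB0S : B0 ≤ S) (hB0n : ∀ x ∈ S, ∀ b ∈ B0, x * b * x⁻¹ ∈ B0)
    (hgen : ∀ x ∈ F, x ≠ 1 → ∀ s ∈ S, s ∈ B0 ⊔ B0.map (MulAut.conj x).toMonoidHom)
    {u : T} (hu : u ∈ Q) (huh : h * u = u * h) (huB : ∀ b ∈ B0, b * u = u * b) : u = 1 := by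
  classical
  let _ : CommGroup Q :=
    { (inferInstance : Group Q) with mul_comm := fun a b => Subtype.ext (hQc a a.2 b b.2) }
  let _ : Fintype F := Fintype.ofFinite F
  -- the family
  let B : F → Subgroup T := fun x => B0.map (MulAut.conj (x : T)).toMonoidHom
  let uu : F → Q := fun x => ⟨(x : T) * u * (x : T)⁻¹, hFQ x x.2 u hu⟩
  have memB : ∀ (x : F) (b : T), b ∈ B x ↔ (x : T)⁻¹ * b * x ∈ B0 := by
    intro x b
    show b ∈ B0.map (MulAut.conj (x : T)).toMonoidHom ↔ _
    rw [Subgroup.mem_map]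
    constructor
    · rintro ⟨c, hc, rfl⟩
      have : (x : T)⁻¹ * ((MulAut.conj (x : T)).toMonoidHom c) * x = c := by
        simp [MulAut.conj_apply, mul_assoc]
      rw [this]; exact hc
    · intro hb
      refine ⟨(x : T)⁻¹ * b * x, hb, ?_⟩
      simp [MulAut.conj_apply, mul_assoc]
  have hFS' : ∀ x ∈ F, ∀ y ∈ S, x⁻¹ * y * x ∈ S := fun x hx => conj_inv_mem' (hFS x hx)
  have hBS : ∀ x, B x ≤ S := by
    intro x b hb
    rw [memB] at hb
    have := hFS x x.2 _ (hB0S hb)
    have e : (x : T) * ((x : T)⁻¹ * b * x) * (x : T)⁻¹ = b := by group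
    rwa [e] at this
  have hBn : ∀ x, ∀ s ∈ S, ∀ b ∈ B x, s * b * s⁻¹ ∈ B x := by
    intro x s hs b hb
    rw [memB] at hb ⊢
    have h1 := hB0n _ (hFS' x x.2 s hs) _ hb
    have e : (x : T)⁻¹ * s * x * ((x : T)⁻¹ * b * x) * ((x : T)⁻¹ * s * x)⁻¹
        = (x : T)⁻¹ * (s * b * s⁻¹) * x := by group
    rwa [e] at h1
  have hgen' : ∀ x y : F, x ≠ y → S ≤ B x ⊔ B y := by
    intro x y hxy s hs
    -- conjugate by `x⁻¹`
    have hne : ((x⁻¹ * y : F) : T) ≠ 1 := by
      intro h1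
      apply hxy
      have : x⁻¹ * y = 1 := Subtype.ext h1
      exact (inv_mul_eq_one.1 this)
    have h1 := hgen _ (x⁻¹ * y).2 hne _ (hFS' x x.2 s hs)
    -- the conjugate of `B0 ⊔ B0^{x⁻¹y}` by `x` is `B x ⊔ B y`
    have hle : B0 ⊔ B0.map (MulAut.conj ((x⁻¹ * y : F) : T)).toMonoidHom
        ≤ (B x ⊔ B y).comap (MulAut.conj (x : T)).toMonoidHom := by
      apply sup_le
      · intro b hb
        rw [Subgroup.mem_comap]
        apply Subgroup.mem_sup_left
        exact Subgroup.mem_map_of_mem _ hb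
      · intro b hb
        rw [Subgroup.mem_comap]
        apply Subgroup.mem_sup_right
        obtain ⟨c, hc, rfl⟩ := Subgroup.mem_map.1 hb
        rw [memB]
        have e : (y : T)⁻¹ * ((MulAut.conj (x : T)).toMonoidHom
            ((MulAut.conj ((x⁻¹ * y : F) : T)).toMonoidHom c)) * y = c := by
          simp only [MulEquiv.coe_toMonoidHom, MulAut.conj_apply, Subgroup.coe_mul,
            Subgroup.coe_inv]
          group
        rw [e]; exact hc
    have h2 := hle h1
    rw [Subgroup.mem_comap] at h2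
    have e : (MulAut.conj (x : T)).toMonoidHom ((x : T)⁻¹ * s * x) = s := by
      simp only [MulEquiv.coe_toMonoidHom, MulAut.conj_apply]
      group
    rwa [e] at h2
  have huu : ∀ x, ∀ b ∈ B x, b * (uu x : T) = uu x * b := by
    intro x b hb
    rw [memB] at hb
    have h1 := huB _ hb
    show b * ((x : T) * u * (x : T)⁻¹) = (x : T) * u * (x : T)⁻¹ * b
    have e1 : b * ((x : T) * u * (x : T)⁻¹) = (x : T) * (((x : T)⁻¹ * b * x) * u) * (x : T)⁻¹ := by group
    have e2 : (x : T) * u * (x : T)⁻¹ * b = (x : T) * (u * ((x : T)⁻¹ * b * x)) * (x : T)⁻¹ := by group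
    rw [e1, e2, h1]
  -- the product is fixed by `F` and `h`
  have hprod : ∏ x, uu x = 1 := by
    apply Subtype.ext
    apply hfpf _ (∏ x, uu x).2
    · intro y hy
      -- conjugation by `y` as a hom
      let φ : Q →* Q :=
        { toFun := fun z => ⟨y * z * y⁻¹, hFQ y hy z z.2⟩
          map_one' := by apply Subtype.ext; simp
          map_mul' := by
            intro a b
            apply Subtype.ext
            show y * ((a : T) * (b : T)) * y⁻¹ = (y * a * y⁻¹) * (y * b * y⁻¹)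
            group }
      have h1 : φ (∏ x, uu x) = ∏ x, uu x := by
        rw [map_prod]
        apply Fintype.prod_equiv (Equiv.mulLeft (⟨y, hy⟩ : F))
        intro x
        apply Subtype.ext
        show y * ((x : T) * u * (x : T)⁻¹) * y⁻¹ = ((⟨y, hy⟩ * x : F) : T) * u * ((⟨y, hy⟩ * x : F) : T)⁻¹
        rw [Subgroup.coe_mul]
        group
      have h2 : y * ((∏ x, uu x : Q) : T) * y⁻¹ = ((∏ x, uu x : Q) : T) := congrArg Subtype.val h1
      calc y * ((∏ x, uu x : Q) : T) = (y * ((∏ x, uu x : Q) : T) * y⁻¹) * y := by group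
        _ = _ := by rw [h2]
    · let φ : Q →* Q :=
        { toFun := fun z => ⟨h * z * h⁻¹, hhQ z z.2⟩
          map_one' := by apply Subtype.ext; simp
          map_mul' := by
            intro a b
            apply Subtype.ext
            show h * ((a : T) * (b : T)) * h⁻¹ = (h * a * h⁻¹) * (h * b * h⁻¹)
            group }
      have hhF' := conj_inv_mem' hhF
      let e : F ≃ F :=
        { toFun := fun x => ⟨h * x * h⁻¹, hhF x x.2⟩
          invFun := fun x => ⟨h⁻¹ * x * h, hhF' x x.2⟩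
          left_inv := by intro x; apply Subtype.ext; show h⁻¹ * (h * (x : T) * h⁻¹) * h = x; group
          right_inv := by intro x; apply Subtype.ext; show h * (h⁻¹ * (x : T) * h) * h⁻¹ = x; group }
      have h1 : φ (∏ x, uu x) = ∏ x, uu x := by
        rw [map_prod]
        apply Fintype.prod_equiv e
        intro x
        apply Subtype.ext
        show h * ((x : T) * u * (x : T)⁻¹) * h⁻¹ = (h * (x : T) * h⁻¹) * u * (h * (x : T) * h⁻¹)⁻¹
        have e1 : h * ((x : T) * u * (x : T)⁻¹) * h⁻¹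
            = (h * (x : T) * h⁻¹) * (h * u * h⁻¹) * (h * (x : T) * h⁻¹)⁻¹ := by group
        have e2 : h * u * h⁻¹ = u := by rw [huh]; group
        rw [e1, e2]
      have h2 : h * ((∏ x, uu x : Q) : T) * h⁻¹ = ((∏ x, uu x : Q) : T) := congrArg Subtype.val h1
      calc h * ((∏ x, uu x : Q) : T) = (h * ((∏ x, uu x : Q) : T) * h⁻¹) * h := by group
        _ = _ := by rw [h2]
  have hall := independent hQc hSQ hcent hcop B hBS hBn hgen' uu huu hprod
  have h1 := hall 1
  have h2 : ((uu 1 : Q) : T) = u := by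
    show ((1 : F) : T) * u * ((1 : F) : T)⁻¹ = u
    simp
  rw [← h2, h1]
  rfl

end Cfsg.Agent.Lib.Helper9.PQU
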