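import Mathlib
import Cfsg.Agent.Lib.Helper9.PQT2
import Cfsg.Agent.Lib.Helper9.PQU
import Cfsg.Agent.Lib.Helper8.GFpf6

/-!
# S4306, package T-U: Lemma U (case `Z = C_Q(S) = 1`, `Q` abelian)

`Tower.lemmaU_of` is the skeleton statement `Tower.lemmaU` with `Tower.comm_mem_Zc` as hypothesis.
-/

set_option autoImplicit false
set_option linter.unusedSectionVars false
set_option linter.unusedVariables false

namespace Cfsg.Agent.Lib.Helper9.PQT

open Cfsg.Agent.Lib.Helper4.PQ Cfsg.Agent.Lib.Helper2.PQA Cfsg.Agent.Lib.Helper8.Ward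
  Cfsg.Agent.Lib.Helper8.SBS Cfsg.Agent.Lib.Helper9.PQU

universe u w

section tower

variable {V : Type u} [AddCommGroup V] [Finite V] {T : Type w} [Group T] [Finite T]
  [DistribMulAction T V] {r t s p q : ℕ} {Q S A F H₀ : Subgroup T}

theorem comm_of_comm_eq_one {g u : T} (hgu : g * u * g⁻¹ * u⁻¹ = 1) : g * u = u * g := by
  calc g * u = (g * u * g⁻¹ * u⁻¹) * u * g := by group
    _ = u * g := by rw [hgu, one_mul]

theorem comm_eq_one_of_comm {g u : T} (hgu : g * u = u * g) : g * u * g⁻¹ * u⁻¹ = 1 := by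
  calc g * u * g⁻¹ * u⁻¹ = (g * u) * g⁻¹ * u⁻¹ := by group
    _ = (u * g) * g⁻¹ * u⁻¹ := by rw [hgu]
    _ = 1 := by group

/-- `Q` is abelian when `Z = 1` -/
theorem Tower.Q_comm_of (h : Tower V r t s p q Q S A F H₀) (hZ : Zc Q S = ⊥)
    (hcomm : ∀ u ∈ Q, ∀ v ∈ Q, u * v * u⁻¹ * v⁻¹ ∈ Zc Q S) :
    ∀ x ∈ Q, ∀ y ∈ Q, x * y = y * x := by
  intro x hx y hy
  have h1 := hcomm x hx y hy
  rw [hZ, Subgroup.mem_bot] at h1
  exact comm_of_comm_eq_one h1

/-- if `S = [S,a] C_S(Q)` and `u ∈ Q` commutes with all `[a,c]`, then `u ∈ C_Q(S)` -/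
theorem mem_Zc_of_surj {Q S : Subgroup T} {a u : T} (hu : u ∈ Q)
    (hsurj : ∀ c ∈ S, ∃ d ∈ S, ∃ e ∈ CS Q S, c = (a * d * a⁻¹ * d⁻¹) * e)
    (hgu : ∀ c ∈ S, (a * c * a⁻¹ * c⁻¹) * u = u * (a * c * a⁻¹ * c⁻¹)) : u ∈ Zc Q S := by
  refine mem_Zc.2 ⟨hu, fun c hc => ?_⟩
  obtain ⟨d, hd, e, he, rfl⟩ := hsurj c hc
  have h1 := hgu d hd
  have h2 := (mem_CS.1 he).2 u hu
  calc a * d * a⁻¹ * d⁻¹ * e * u = a * d * a⁻¹ * d⁻¹ * (e * u) := by group
    _ = a * d * a⁻¹ * d⁻¹ * (u * e) := by rw [h2]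
    _ = (a * d * a⁻¹ * d⁻¹ * u) * e := by group
    _ = (u * (a * d * a⁻¹ * d⁻¹)) * e := by rw [h1]
    _ = u * (a * d * a⁻¹ * d⁻¹ * e) := by group

/-- Lemma U, type (β), `a` a generator of the complement `H₀` -/
theorem Tower.lemmaU_H_beta (h : Tower V r t s p q Q S A F H₀)
    (hQc : ∀ x ∈ Q, ∀ y ∈ Q, x * y = y * x) (hZ : Zc Q S = ⊥)
    {a : T} (ha : a ∈ H₀) (ha1 : a ≠ 1) {u : T} (hu : u ∈ Q) (hau : a * u = u * a)
    (hgu : ∀ c ∈ S, (a * c * a⁻¹ * c⁻¹) * u = u * (a * c * a⁻¹ * c⁻¹)) : u = 1 := by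
  have hpq := FrobPQ.isPQ h.frob
  have hsup := FrobPQ.sup_eq h.frob
  have haA : a ∈ A := h.frob.hHA ha
  let D : Subgroup T := S ⊓ Subgroup.centralizer {u}
  have memD : ∀ {g : T}, g ∈ S → g * u = u * g → g ∈ D := by
    intro g hgS hg
    refine ⟨hgS, Subgroup.mem_centralizer_iff.2 ?_⟩
    intro y hy
    rw [Set.mem_singleton_iff] at hy
    subst hy
    exact hg.symm
  have hCD : CS Q S ≤ D := fun c hc => memD (mem_CS.1 hc).1 ((mem_CS.1 hc).2 u hu).symm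
  have hnorm : ∀ E : Subgroup T, CS Q S ≤ E → E ≤ S → ∀ x ∈ S, ∀ e ∈ E, x * e * x⁻¹ ∈ E := by
    intro E hCE hES x hx e he
    have h1 := hCE (Tower.S_comm_mem_CS h x hx e (hES he))
    have e1 : x * e * x⁻¹ = (x * e * x⁻¹ * e⁻¹) * e := by group
    rw [e1]; exact E.mul_mem h1 he
  have hcent : ∀ y ∈ Q, (∀ x ∈ S, x * y = y * x) → y = 1 := by
    intro y hy hyS
    have : y ∈ Zc Q S := mem_Zc.2 ⟨hy, hyS⟩
    rw [hZ, Subgroup.mem_bot] at this
    exact this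
  have hfpf : ∀ y ∈ Q, (∀ x ∈ F, x * y = y * x) → a * y = y * a → y = 1 := by
    intro y hy hyF hya
    apply h.hfpfQ y hy
    have hF' : F ≤ Subgroup.centralizer {y} := by
      intro f hf
      rw [Subgroup.mem_centralizer_iff]
      intro z hz
      rw [Set.mem_singleton_iff] at hz
      subst hz
      exact (hyF f hf).symm
    have ha' : a ∈ Subgroup.centralizer {y} := by
      rw [Subgroup.mem_centralizer_iff]
      intro z hz
      rw [Set.mem_singleton_iff] at hz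
      subst hz
      exact hya.symm
    have hH' : H₀ ≤ Subgroup.centralizer {y} := (Tower.H_le_zpowers h ha ha1).trans (by
      rw [Subgroup.zpowers_le]; exact ha')
    intro a' ha'A
    rw [← hsup] at ha'A
    have := (sup_le hF' hH') ha'A
    rw [Subgroup.mem_centralizer_iff] at this
    exact (this y rfl).symm
  have hgen : ∀ x ∈ F, x ≠ 1 → ∀ k ∈ S, k ∈ D ⊔ D.map (MulAut.conj x).toMonoidHom := by
    intro x hx hx1 k hk
    have hxA : x ∈ A := h.frob.hFA hx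
    have hDx : D.map (MulAut.conj x).toMonoidHom ≤ S := by
      rintro _ ⟨d, hd, rfl⟩
      exact h.hAS x hxA d hd.1
    have hES : D ⊔ D.map (MulAut.conj x).toMonoidHom ≤ S := sup_le inf_le_left hDx
    have hCE : CS Q S ≤ D ⊔ D.map (MulAut.conj x).toMonoidHom := hCD.trans le_sup_left
    have hEn := hnorm _ hCE hES
    have ha_triv : a ∈ trivMod S _ hES := by
      intro k hk
      apply (le_sup_left : D ≤ D ⊔ D.map (MulAut.conj x).toMonoidHom)
      exact memD (S.mul_mem (h.hAS a haA k hk) (S.inv_mem hk)) (hgu k hk)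
    have ha'_triv : x * a * x⁻¹ ∈ trivMod S _ hES := by
      intro k hk
      apply (le_sup_right : D.map (MulAut.conj x).toMonoidHom ≤
        D ⊔ D.map (MulAut.conj x).toMonoidHom)
      have hk' : x⁻¹ * k * x ∈ S := Tower.AS' h hxA hk
      refine ⟨a * (x⁻¹ * k * x) * a⁻¹ * (x⁻¹ * k * x)⁻¹,
        memD (S.mul_mem (h.hAS a haA _ hk') (S.inv_mem hk')) (hgu _ hk'), ?_⟩
      show x * (a * (x⁻¹ * k * x) * a⁻¹ * (x⁻¹ * k * x)⁻¹) * x⁻¹ = _
      group
    have hne : x * a * x⁻¹ ≠ 1 := by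
      intro h1
      apply ha1
      calc a = x⁻¹ * (x * a * x⁻¹) * x := by group
        _ = 1 := by rw [h1]; group
    have hB : A ⊓ trivMod S _ hES = F ⊔ H₀ :=
      hpq.eq_sup_of_two (B := A ⊓ trivMod S _ hES) (by rw [hsup]; exact inf_le_left)
        (a := a) (b := x * a * x⁻¹) (x := 1) (y := x) ⟨haA, ha_triv⟩
        ⟨A.mul_mem (A.mul_mem hxA haA) (A.inv_mem hxA), ha'_triv⟩ ha1 hne F.one_mem hx
        (by simpa using ha)
        (by
          have : x⁻¹ * (x * a * x⁻¹) * x = a := by group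
          rw [this]; exact ha)
        (Ne.symm hx1)
    have htriv : A ≤ trivMod S _ hES := by
      rw [← hsup, ← hB]; exact inf_le_right
    obtain ⟨c, hcS, hcA, hkc⟩ := fix_coset h.hAS (Tower.cop_AS h) (Tower.solvS h) hES hEn htriv hk
    have hc1 := h.hfpfS c hcS hcA
    rw [hc1, mul_one] at hkc
    simpa using (D ⊔ D.map (MulAut.conj x).toMonoidHom).inv_mem hkc
  exact lemmaU_beta (Q := Q) (S := S) (F := F) (h := a) hQc
    (fun x _ y hy => Tower.conjQ h x hy) (fun x _ y hy => Tower.conjQ h x hy)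
    (fun y hy => Tower.conjQ h a hy) (fun x hx y hy => h.hAS x (h.frob.hFA hx) y hy)
    (fun x hx => h.frob.hFn a haA x hx) hcent (Tower.cop_SQ h) hfpf D inf_le_left
    (hnorm D hCD inf_le_left) hgen hu hau
    (fun b hb => ((Subgroup.mem_centralizer_iff.1 hb.2) u rfl).symm)

/-- Lemma U for `a ∈ H₀` -/
theorem Tower.lemmaU_H (h : Tower V r t s p q Q S A F H₀)
    (hQc : ∀ x ∈ Q, ∀ y ∈ Q, x * y = y * x) (hZ : Zc Q S = ⊥)
    {a : T} (ha : a ∈ H₀) (ha1 : a ≠ 1) {u : T} (hu : u ∈ Q) (hau : a * u = u * a)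
    (hgu : ∀ c ∈ S, (a * c * a⁻¹ * c⁻¹) * u = u * (a * c * a⁻¹ * c⁻¹)) : u ∈ Zc Q S := by
  rcases Tower.alpha_or_beta h with hα | hβ
  · exact mem_Zc_of_surj hu (Tower.alpha_comm_surj h hα ha ha1) hgu
  · rw [Tower.lemmaU_H_beta h hQc hZ ha ha1 hu hau hgu]
    exact (Zc Q S).one_mem

/-- **Lemma U** (`Z = 1`), with `Tower.comm_mem_Zc` as a hypothesis -/
theorem Tower.lemmaU_of (h : Tower V r t s p q Q S A F H₀) (hZ : Zc Q S = ⊥)
    (hcomm : ∀ u ∈ Q, ∀ v ∈ Q, u * v * u⁻¹ * v⁻¹ ∈ Zc Q S)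
    {a : T} (ha : a ∈ A) (ha1 : a ≠ 1)
    (hao : (orderOf a).Prime) {u : T} (hu : u ∈ Q) (h1 : a * u * a⁻¹ * u⁻¹ ∈ Zc Q S)
    (h2 : ∀ c ∈ S, (a * c * a⁻¹ * c⁻¹) * u * (a * c * a⁻¹ * c⁻¹)⁻¹ * u⁻¹ ∈ Zc Q S) :
    u ∈ Zc Q S := by
  have hQc := Tower.Q_comm_of h hZ hcomm
  have hau : a * u = u * a := by
    rw [hZ, Subgroup.mem_bot] at h1
    exact comm_of_comm_eq_one h1
  have hgu : ∀ c ∈ S, (a * c * a⁻¹ * c⁻¹) * u = u * (a * c * a⁻¹ * c⁻¹) := by
    intro c hc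
    have := h2 c hc
    rw [hZ, Subgroup.mem_bot] at this
    exact comm_of_comm_eq_one this
  by_cases haF : a ∈ F
  · rcases Tower.alpha_or_beta h with hα | hβ
    · -- type (α): `C_Q(F) = 1`
      have hCQS : ∀ u ∈ Q, (∀ c ∈ S, u * c * u⁻¹ * c⁻¹ ∈ Zc Q S) → u ∈ Zc Q S := by
        intro v hv hvS
        refine mem_Zc.2 ⟨hv, fun c hc => ?_⟩
        have := hvS c hc
        rw [hZ, Subgroup.mem_bot] at this
        exact (comm_of_comm_eq_one this).symm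
      have hCQA : ∀ u ∈ Q, (∀ a ∈ A, a * u * a⁻¹ * u⁻¹ ∈ Zc Q S) → u ∈ Zc Q S := by
        intro v hv hvA
        have hv1 : v = 1 := by
          apply h.hfpfQ v hv
          intro a' ha'
          have := hvA a' ha'
          rw [hZ, Subgroup.mem_bot] at this
          exact comm_of_comm_eq_one this
        rw [hv1]; exact (Zc Q S).one_mem
      have hT6 := Tower.exists_not_comm_F_of h hcomm hCQS hCQA
      apply Tower.alpha_mem_Zc_of_comm_F_of h hcomm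
        (by
          intro z hz v hv
          rw [hZ, Subgroup.mem_bot] at hz
          rw [hz, one_mul, mul_one])
        (by rw [hZ]; exact bot_le) hT6 hα hu
      intro f hf
      have hfa := Tower.F_le_zpowers h haF ha1 hf
      obtain ⟨k, rfl⟩ := Subgroup.mem_zpowers_iff.1 hfa
      have hc : Commute a u := hau
      have := (hc.zpow_left k).eq
      rw [comm_eq_one_of_comm this]
      exact (Zc Q S).one_mem
    · exact mem_Zc_of_surj hu (Tower.beta_comm_surj h hβ haF ha1) hgu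
  · -- `a` lies in a conjugate of `H₀`
    have ha' : a ∈ F ⊔ H₀ := by rw [FrobPQ.sup_eq h.frob]; exact ha
    obtain ⟨x, hx, hxa⟩ := (FrobPQ.isPQ h.frob).exists_conj_mem ha' haF
    have h' := Cfsg.Agent.Lib.Helper8.GFpf.Tower.conj h hx
    exact Tower.lemmaU_H h' hQc hZ (mem_conjSub.2 hxa) ha1 hu hau hgu

end tower

end Cfsg.Agent.Lib.Helper9.PQT
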