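import Mathlib
import Cfsg.Agent.Lib.Lead.PQT
import Cfsg.Agent.Lib.Helper9.PQU3

/-!
# S4306: (T6), (T6α) and Lemma U — the exact statements of `notes/S4306_skeleton.lean.txt`
(the `_of` forms of `PQT2`, `PQU3` fed with the lead's (T1)–(T3)).
-/

set_option autoImplicit false
set_option linter.unusedSectionVars false
set_option linter.unusedVariables false

namespace Cfsg.Agent.Lib.Helper9.PQT

open Cfsg.Agent.Lib.Helper4.PQ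

universe u w

section tower

variable {V : Type u} [AddCommGroup V] [Finite V] {T : Type w} [Group T] [Finite T]
  [DistribMulAction T V] {r t s p q : ℕ} {Q S A F H₀ : Subgroup T}

/-- (T6) -/
theorem Tower.exists_not_comm_F (h : Tower V r t s p q Q S A F H₀) :
    ∃ u ∈ Q, ∃ f ∈ F, u * f ≠ f * u :=
  Tower.exists_not_comm_F_of h (Cfsg.Agent.Lib.Lead.PQT.Tower.comm_mem_Zc h)
    (fun _ hu hc => Cfsg.Agent.Lib.Lead.PQT.Tower.mem_Zc_of_comm h hu hc)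
    (fun _ hu hc => Cfsg.Agent.Lib.Lead.PQT.Tower.mem_Zc_of_comm_A h hu hc)

/-- (T6α) in type (α), `C_{Q/Z}(F) = 1` -/
theorem Tower.alpha_mem_Zc_of_comm_F (h : Tower V r t s p q Q S A F H₀)
    (hα : ∀ f ∈ F, ∀ c ∈ S, f * c * f⁻¹ * c⁻¹ ∈ CS Q S) {u : T} (hu : u ∈ Q)
    (hF : ∀ f ∈ F, f * u * f⁻¹ * u⁻¹ ∈ Zc Q S) : u ∈ Zc Q S :=
  Tower.alpha_mem_Zc_of_comm_F_of h (Cfsg.Agent.Lib.Lead.PQT.Tower.comm_mem_Zc h)
    (Cfsg.Agent.Lib.Lead.PQT.Tower.Zc_central h)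
    (Cfsg.Agent.Lib.Lead.PQT.Tower.Zc_le_closure_comm h) (Tower.exists_not_comm_F h) hα hu hF

/-- **Lemma U** (for `Z = 1`, i.e. `Q` elementary abelian) -/
theorem Tower.lemmaU (h : Tower V r t s p q Q S A F H₀) (hZ : Zc Q S = ⊥) {a : T} (ha : a ∈ A)
    (ha1 : a ≠ 1) (hao : (orderOf a).Prime) {u : T} (hu : u ∈ Q)
    (h1 : a * u * a⁻¹ * u⁻¹ ∈ Zc Q S)
    (h2 : ∀ c ∈ S, (a * c * a⁻¹ * c⁻¹) * u * (a * c * a⁻¹ * c⁻¹)⁻¹ * u⁻¹ ∈ Zc Q S) :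
    u ∈ Zc Q S :=
  Tower.lemmaU_of h hZ (Cfsg.Agent.Lib.Lead.PQT.Tower.comm_mem_Zc h) ha ha1 hao hu h1 h2

end tower

end Cfsg.Agent.Lib.Helper9.PQT
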