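import Mathlib
import Cfsg.Prelude
import Cfsg.Agent.Lib.Helper8.RankOne

set_option autoImplicit false

/-!
# Special rank one groups with abelian unipotent subgroups: the map `χ` and its basic identities

`ra A g` is the right conjugate `g⁻¹ A g`. For a rank one pair `(A, B)` the relation `Chi A B a b`
says that `b` is the non-identity element of `B` attached to the non-identity `a ∈ A`:
`b⁻¹ A b = a⁻¹ B a`.
-/

namespace Cfsg.Agent.H9SR

open Cfsg.Agent.Lib.Helper8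

variable {G : Type*} [Group G]

/-- the right conjugate `g⁻¹ A g` -/
def ra (A : Subgroup G) (g : G) : Subgroup G := Cfsg.conjBy A g⁻¹

theorem ra_def (A : Subgroup G) (g : G) : ra A g = Cfsg.conjBy A g⁻¹ := rfl

theorem ra_ra (A : Subgroup G) (g h : G) : ra (ra A g) h = ra A (g * h) := by
  unfold ra
  rw [conjBy_conjBy, mul_inv_rev]

theorem ra_one (A : Subgroup G) : ra A 1 = A := by
  unfold ra
  rw [inv_one, conjBy_one]

theorem ra_of_mem {A : Subgroup G} {g : G} (hg : g ∈ A) : ra A g = A :=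
  conjBy_eq_self_of_mem (A.inv_mem hg)

theorem ra_injective (g : G) {A B : Subgroup G} (h : ra A g = ra B g) : A = B :=
  conjBy_injective g⁻¹ h

theorem mem_ra {A : Subgroup G} {g x : G} : x ∈ ra A g ↔ g * x * g⁻¹ ∈ A := by
  unfold ra
  rw [mem_conjBy, inv_inv]

theorem conj_mem_ra {A : Subgroup G} {g a : G} (ha : a ∈ A) : g⁻¹ * a * g ∈ ra A g := by
  rw [mem_ra]
  have : g * (g⁻¹ * a * g) * g⁻¹ = a := by group
  rwa [this]

/-- `b` is the element of `B` attached to `a ∈ A` -/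
def Chi (A B : Subgroup G) (a b : G) : Prop :=
  a ∈ A ∧ a ≠ 1 ∧ b ∈ B ∧ b ≠ 1 ∧ ra A b = ra B a

/-- the data of a special rank one pair with abelian unipotent subgroups -/
structure SpecAb (A B : Subgroup G) : Prop where
  pair : Cfsg.IsRankOnePair A B
  special : ∀ a ∈ A, a ≠ 1 → ∀ b ∈ B, b ≠ 1 → ra A b = ra B a → b⁻¹ * a * b = a⁻¹ * b⁻¹ * a
  commA : ∀ a ∈ A, ∀ a' ∈ A, a * a' = a' * a
  commB : ∀ b ∈ B, ∀ b' ∈ B, b * b' = b' * b

variable {A B : Subgroup G}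

theorem Chi.symm {a b : G} (h : Chi A B a b) : Chi B A b a :=
  ⟨h.2.2.1, h.2.2.2.1, h.1, h.2.1, h.2.2.2.2.symm⟩

theorem SpecAb.symm (S : SpecAb A B) : SpecAb B A where
  pair := Cfsg.RankOnePair_symm S.pair
  special := by
    intro b hb hb1 a ha ha1 hab
    have h1 := S.special a ha ha1 b hb hb1 hab.symm
    have h2 := congrArg (fun x => x⁻¹) h1
    simp only [mul_inv_rev, inv_inv] at h2
    rw [mul_assoc, mul_assoc]
    exact h2.symm
  commA := S.commB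
  commB := S.commA

namespace SpecAb

variable (S : SpecAb A B)
include S

theorem exists_chi {a : G} (ha : a ∈ A) (ha1 : a ≠ 1) : ∃ b, Chi A B a b := by
  obtain ⟨b, hb, hb1, h⟩ := S.pair.cond_left a ha ha1
  exact ⟨b, ha, ha1, hb, hb1, h⟩

theorem chi_unique {a b b' : G} (h : Chi A B a b) (h' : Chi A B a b') : b = b' := by
  have h1 : Cfsg.conjBy A b⁻¹ = Cfsg.conjBy A b'⁻¹ := h.2.2.2.2.trans h'.2.2.2.2.symm
  have := rankOnePair_conjBy_right_injective (Cfsg.RankOnePair_symm S.pair)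
    (B.inv_mem h.2.2.1) (B.inv_mem h'.2.2.1) h1
  exact inv_injective this

theorem chi_injective {a a' b : G} (h : Chi A B a b) (h' : Chi A B a' b) : a = a' :=
  S.symm.chi_unique h.symm h'.symm

theorem rel {a b : G} (h : Chi A B a b) : b⁻¹ * a * b = a⁻¹ * b⁻¹ * a :=
  S.special a h.1 h.2.1 b h.2.2.1 h.2.2.2.1 h.2.2.2.2

theorem rel' {a b : G} (h : Chi A B a b) : a⁻¹ * b * a = b⁻¹ * a⁻¹ * b :=
  S.symm.rel h.symm

/-- two unipotent subgroups sharing a non-identity element coincide -/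
theorem eq_of_mem_of_mem {E E' : Subgroup G} (hE : E ∈ Cfsg.unipotentSubgroups A B)
    (hE' : E' ∈ Cfsg.unipotentSubgroups A B) {z : G} (hz : z ∈ E) (hz' : z ∈ E') (hz1 : z ≠ 1) :
    E = E' := by
  by_contra hne
  obtain ⟨hp, -, -⟩ := rankOnePair_of_mem_unipotentSubgroups S.pair hE hE' hne
  have : z ∈ E ⊓ E' := ⟨hz, hz'⟩
  rw [rankOnePair_inf hp, Subgroup.mem_bot] at this
  exact hz1 this

theorem ra_mem_unip {g : G} (hg : g ∈ A ⊔ B) : ra A g ∈ Cfsg.unipotentSubgroups A B :=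
  ⟨g⁻¹, Subgroup.inv_mem _ hg, rfl⟩

theorem raB_mem_unip {g : G} (hg : g ∈ A ⊔ B) : ra B g ∈ Cfsg.unipotentSubgroups A B :=
  conjBy_mem_unipotentSubgroups (rankOnePair_right_mem_unipotentSubgroups S.pair)
    (Subgroup.inv_mem _ hg)

/-- `χ(a⁻¹) = χ(a)⁻¹` -/
theorem chi_inv {a b : G} (h : Chi A B a b) : Chi A B a⁻¹ b⁻¹ := by
  obtain ⟨ha, ha1, hb, hb1, hab⟩ := h
  refine ⟨A.inv_mem ha, fun h0 => ha1 (inv_eq_one.mp h0), B.inv_mem hb,
    fun h0 => hb1 (inv_eq_one.mp h0), ?_⟩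
  have hrel := S.rel ⟨ha, ha1, hb, hb1, hab⟩
  have e : b * a⁻¹ * b⁻¹ * (a * b⁻¹) = a := by
    calc b * a⁻¹ * b⁻¹ * (a * b⁻¹) = b * (a⁻¹ * b⁻¹ * a) * b⁻¹ := by group
      _ = b * (b⁻¹ * a * b) * b⁻¹ := by rw [hrel]
      _ = a := by group
  have hz : b * a⁻¹ * b⁻¹ = a * b * a⁻¹ := by
    calc b * a⁻¹ * b⁻¹ = (b * a⁻¹ * b⁻¹ * (a * b⁻¹)) * (a * b⁻¹)⁻¹ := by group
      _ = a * (a * b⁻¹)⁻¹ := by rw [e]
      _ = a * b * a⁻¹ := by group
  have hz1 : b * a⁻¹ * b⁻¹ ≠ 1 := by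
    intro h0
    apply ha1
    have : a⁻¹ = b⁻¹ * (b * a⁻¹ * b⁻¹) * b := by group
    rw [h0] at this
    have h2 : a⁻¹ = 1 := by rw [this]; group
    exact inv_eq_one.mp h2
  have m1 : b * a⁻¹ * b⁻¹ ∈ ra A b⁻¹ := by
    have := conj_mem_ra (A := A) (g := b⁻¹) (A.inv_mem ha)
    rwa [inv_inv] at this
  have m2 : b * a⁻¹ * b⁻¹ ∈ ra B a⁻¹ := by
    rw [hz]
    have := conj_mem_ra (A := B) (g := a⁻¹) hb
    rwa [inv_inv] at this
  exact S.eq_of_mem_of_mem (S.ra_mem_unip (Subgroup.mem_sup_right (B.inv_mem hb)))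
    (S.raB_mem_unip (Subgroup.mem_sup_left (A.inv_mem ha))) m1 m2 hz1

/-- the master formula -/
theorem ra_pow_mul {c b' : G} (h : Chi A B c b') (k : ℕ) :
    ra A (b' ^ k * c) = ra B ((c ^ (k + 1))⁻¹ * b') := by
  have hrel' := S.rel' h
  have e : b' ^ k * c = c * b'⁻¹ * ((c ^ k)⁻¹ * b') := by
    have h1 : (c⁻¹ * b' * c) ^ k = c⁻¹ * b' ^ k * c := by
      have := conj_pow (a := c⁻¹) (b := b') (i := k)
      rw [inv_inv] at this
      exact this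
    have h2 : (b'⁻¹ * c⁻¹ * b') ^ k = b'⁻¹ * (c⁻¹) ^ k * b' := by
      have := conj_pow (a := b'⁻¹) (b := c⁻¹) (i := k)
      rw [inv_inv] at this
      exact this
    have h3 : c⁻¹ * b' ^ k * c = b'⁻¹ * (c⁻¹) ^ k * b' := by rw [← h1, hrel', h2]
    calc b' ^ k * c = c * (c⁻¹ * b' ^ k * c) := by group
      _ = c * (b'⁻¹ * (c⁻¹) ^ k * b') := by rw [h3]
      _ = c * b'⁻¹ * ((c ^ k)⁻¹ * b') := by rw [inv_pow]; group
  have hinv := (S.chi_inv h).2.2.2.2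
  have e2 : (c ^ (k + 1))⁻¹ * b' = c⁻¹ * ((c ^ k)⁻¹ * b') := by
    rw [pow_succ', mul_inv_rev]
    group
  calc ra A (b' ^ k * c) = ra (ra (ra A c) b'⁻¹) ((c ^ k)⁻¹ * b') := by rw [e, ra_ra, ra_ra, mul_assoc]
    _ = ra (ra B c⁻¹) ((c ^ k)⁻¹ * b') := by rw [ra_of_mem h.1, hinv]
    _ = ra B ((c ^ (k + 1))⁻¹ * b') := by rw [ra_ra, e2]

end SpecAb

end Cfsg.Agent.H9SR
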