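import Mathlib
import Cfsg.Agent.Lib.Helper8.SBS3

/-!
# S4305, case (a): module micro-lemmas in the `T` acts on `V` vocabulary

`s` of order 3, `t` an involution, `t s = s⁻¹ t`, acting on an additive group `V` with
`C_V(⟨s,t⟩) = 0`.
-/

set_option autoImplicit false

namespace Cfsg.Agent.Lib.Helper9.S3A1

open Cfsg.Agent.Lib.Helper8.SBS

universe u w

variable {V : Type u} [AddCommGroup V] {T : Type w} [Group T] [DistribMulAction T V]

/-- **(a1), first half**: `t` acts as `-1` on `C_V(s)`. -/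
theorem tau_neg_on_fix_sigma {s t : T} (hts : t * s = s⁻¹ * t) (ht2 : t * t = 1)
    (hA : ∀ v : V, s • v = v → t • v = v → v = 0) {v : V} (hv : s • v = v) : t • v = -v := by
  have hsinv : s⁻¹ • v = v := by
    conv_lhs => rw [← hv]
    rw [inv_smul_smul]
  have hstv : s • t • v = t • v := by
    have h1 : s⁻¹ • t • v = t • v := by
      rw [← mul_smul, ← hts, mul_smul, hv]
    calc s • t • v = s • (s⁻¹ • t • v) := by rw [h1]
      _ = t • v := smul_inv_smul s _
  have h1 : s • (v + t • v) = v + t • v := by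
    rw [smul_add, hv, hstv]
  have h2 : t • (v + t • v) = v + t • v := by
    rw [smul_add, ← mul_smul, ht2, one_smul, add_comm]
  have := hA _ h1 h2
  exact (neg_eq_of_add_eq_zero_right this).symm

/-- **(a1), core**: an element `z` of odd order commuting with `s` and inverted by `t`
centralizes `C_V(s)`. -/
theorem fix_sigma_le_fix_of_inverted {s t z : T} (hts : t * s = s⁻¹ * t) (ht2 : t * t = 1)
    (hA : ∀ v : V, s • v = v → t • v = v → v = 0)
    (hzs : z * s = s * z) (htz : t * z = z⁻¹ * t) {n : ℕ} (hn : Odd n) (hzn : z ^ n = 1)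
    {v : V} (hv : s • v = v) : z • v = v := by
  have hzv : s • z • v = z • v := by
    rw [← mul_smul, ← hzs, mul_smul, hv]
  have h1 : t • z • v = -(z • v) := tau_neg_on_fix_sigma hts ht2 hA hzv
  have h2 : t • z • v = -(z⁻¹ • v) := by
    rw [← mul_smul, htz, mul_smul, tau_neg_on_fix_sigma hts ht2 hA hv, smul_neg]
  have h3 : z • v = z⁻¹ • v := by
    have := h1.symm.trans h2
    exact neg_injective this
  have h4 : (z * z) • v = v := by
    rw [mul_smul, h3, smul_inv_smul]
  have h5 : ∀ k : ℕ, (z * z) ^ k • v = v := by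
    intro k
    induction k with
    | zero => simp
    | succ k ih => rw [pow_succ, mul_smul, h4, ih]
  obtain ⟨k, hk⟩ := hn
  have h6 : z = (z * z) ^ (k + 1) := by
    rw [← pow_two, ← pow_mul]
    have : 2 * (k + 1) = n + 1 := by omega
    rw [this, pow_succ, hzn, one_mul]
  rw [h6]; exact h5 _

variable [Finite T] [Finite V]

/-- **(a2), relative (L-proj)**: `C_{C_V(D₀)}(t) = 0` when `D₀`, `s D₀ s⁻¹`, `s⁻¹ D₀ s` commute,
any two of them have no common fixed vector, `|D₀|` is prime to `|V|` and `C_V(⟨s,t⟩)=0`. -/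
theorem fix_tau_on_fixedPts_eq_zero (D0 : Subgroup T) {s t : T} (hts : t * s = s⁻¹ * t)
    (hs3 : s * s * s = 1)
    (hA : ∀ v : V, s • v = v → t • v = v → v = 0)
    (hcop : (Nat.card V).Coprime (Nat.card D0))
    (hc1 : ∀ x ∈ D0, ∀ y ∈ D0, (s * y * s⁻¹) * x = x * (s * y * s⁻¹))
    (hc2 : ∀ x ∈ D0, ∀ y ∈ D0, (s⁻¹ * y * s) * x = x * (s⁻¹ * y * s))
    (hf1 : ∀ v : V, (∀ x ∈ D0, x • v = v) → (∀ x ∈ D0, (s * x * s⁻¹) • v = v) → v = 0)
    (hf2 : ∀ v : V, (∀ x ∈ D0, x • v = v) → (∀ x ∈ D0, (s⁻¹ * x * s) • v = v) → v = 0)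
    {v : V} (hv : ∀ x ∈ D0, x • v = v) (htv : t • v = v) : v = 0 := by
  have hsinv : s⁻¹ = s * s := by
    have : s * s * s = 1 := hs3
    exact inv_eq_of_mul_eq_one_left this
  -- w = v + s v + s⁻¹ v is fixed by s and t
  set w : V := v + s • v + s⁻¹ • v with hw
  have hsw : s • w = w := by
    rw [hw, smul_add, smul_add, smul_inv_smul]
    have : s • s • v = s⁻¹ • v := by rw [← mul_smul, ← hsinv]
    rw [this]; abel
  have htw : t • w = w := by
    have h1 : t • s • v = s⁻¹ • v := by rw [← mul_smul, hts, mul_smul, htv]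
    have h2 : t • s⁻¹ • v = s • v := by
      have : t * s⁻¹ = s * t := by
        symm
        rw [eq_mul_inv_iff_mul_eq, mul_assoc, hts, mul_inv_cancel_left]
      rw [← mul_smul, this, mul_smul, htv]
    rw [hw, smul_add, smul_add, htv, h1, h2]; abel
  have hw0 : w = 0 := hA w hsw htw
  -- apply the trace of D0
  have hv' : v ∈ fixedPts (V := V) D0 := hv
  have h1 : nu D0 v = Nat.card D0 • v := nu_of_mem_fixedPts hv'
  have h2 : nu D0 (s • v) = 0 := by
    apply hf1
    · intro x hx; exact smul_nu_of_mem hx _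
    · intro x hx
      rw [smul_nu_of_commute (K := D0) (x := s * x * s⁻¹) (fun k hk => hc1 k hk x hx)]
      congr 1
      rw [← mul_smul, inv_mul_cancel_right, mul_smul, hv x hx]
  have h3 : nu D0 (s⁻¹ • v) = 0 := by
    apply hf2
    · intro x hx; exact smul_nu_of_mem hx _
    · intro x hx
      rw [smul_nu_of_commute (K := D0) (x := s⁻¹ * x * s) (fun k hk => hc2 k hk x hx)]
      congr 1
      rw [← mul_smul, mul_assoc, mul_inv_cancel, mul_one, mul_smul, hv x hx]
  have h4 : nu D0 w = Nat.card D0 • v := by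
    rw [hw, nu_add, nu_add, h1, h2, h3, add_zero, add_zero]
  rw [hw0, nu_zero] at h4
  exact eq_zero_of_nsmul_eq_zero hcop h4.symm

end Cfsg.Agent.Lib.Helper9.S3A1
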