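import Mathlib

/-!
# S4305, step (a5): a fixed-point-free automorphism of order 3 together with an inverting involution

`H` finite nilpotent of order prime to 6, `σ τ : MulAut H`, `σ³ = 1`, `τ² = 1`, `τ σ = σ² τ`,
`σ` fixed-point-free.  Then `commutator H ≤ normalClosure {h⁻¹ * τ h}` (i.e. `H' ≤ [H,τ]`).
-/

namespace Cfsg.Agent.Lib.Helper9.S3A5

open Subgroup
open scoped commutatorElement

section classtwo

variable {K : Type*} [Group K]

theorem comm_mul_left_of_central (hc : ∀ u v : K, ⁅u, v⁆ ∈ center K) (a b c : K) :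
    ⁅a * b, c⁆ = ⁅a, c⁆ * ⁅b, c⁆ := by
  have h := hc b c
  rw [Subgroup.mem_center_iff] at h
  calc ⁅a * b, c⁆ = a * ⁅b, c⁆ * (c * a⁻¹ * c⁻¹) := by
        simp [commutatorElement_def, mul_assoc]
    _ = ⁅b, c⁆ * (a * c * a⁻¹ * c⁻¹) := by rw [h a]; simp [mul_assoc]
    _ = (a * c * a⁻¹ * c⁻¹) * ⁅b, c⁆ := (h _).symm
    _ = ⁅a, c⁆ * ⁅b, c⁆ := by rw [commutatorElement_def a c]

/-- For central commutators, `a ↦ ⁅a, c⁆` is a homomorphism. -/
def commHom (hc : ∀ u v : K, ⁅u, v⁆ ∈ center K) (c : K) : K →* K :=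
  MonoidHom.mk' (fun a => ⁅a, c⁆) (fun a b => comm_mul_left_of_central hc a b c)

theorem commHom_apply (hc : ∀ u v : K, ⁅u, v⁆ ∈ center K) (c a : K) :
    commHom hc c a = ⁅a, c⁆ := rfl

theorem comm_inv_sq_inv_sq (hc : ∀ u v : K, ⁅u, v⁆ ∈ center K) (u v : K) :
    ⁅(u⁻¹) ^ 2, (v⁻¹) ^ 2⁆ = ⁅u, v⁆ ^ 4 := by
  have h1 : ∀ w : K, ⁅(u⁻¹) ^ 2, w⁆ = (⁅u, w⁆⁻¹) ^ 2 := by
    intro w
    rw [← commHom_apply hc, map_pow, map_inv, commHom_apply]
  have h2 : ⁅(v⁻¹) ^ 2, u⁆ = (⁅v, u⁆⁻¹) ^ 2 := by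
    rw [← commHom_apply hc, map_pow, map_inv, commHom_apply]
  rw [h1, ← commutatorElement_inv ((v⁻¹) ^ 2) u, inv_inv, h2, commutatorElement_inv, ← pow_mul]

/-- Key identity lemma: a finite nilpotent group of order prime to 6 satisfying
`⁅u⁻², v⁻²⁆ = ⁅u,v⁆⁻²` identically is abelian. -/
theorem commute_of_identity (K : Type*) [Group K] [Group.IsNilpotent K] :
    Finite K → (Nat.card K).Coprime 6 →
    (∀ u v : K, ⁅(u⁻¹) ^ 2, (v⁻¹) ^ 2⁆ = (⁅u, v⁆⁻¹) ^ 2) → ∀ u v : K, u * v = v * u := by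
  refine Group.nilpotent_center_quotient_ind
    (P := fun K _ _ => Finite K → (Nat.card K).Coprime 6 →
      (∀ u v : K, ⁅(u⁻¹) ^ 2, (v⁻¹) ^ 2⁆ = (⁅u, v⁆⁻¹) ^ 2) → ∀ u v : K, u * v = v * u) K ?_ ?_
  · intro K _ _ _ _ _ u v
    exact Subsingleton.elim _ _
  · intro K _ _ ih hfin h6 hid u v
    have hdvd : Nat.card (K ⧸ center K) ∣ Nat.card K := Subgroup.card_quotient_dvd_card _
    have h6' : (Nat.card (K ⧸ center K)).Coprime 6 := Nat.Coprime.coprime_dvd_left hdvd h6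
    have hid' : ∀ u v : K ⧸ center K, ⁅(u⁻¹) ^ 2, (v⁻¹) ^ 2⁆ = (⁅u, v⁆⁻¹) ^ 2 := by
      intro u v
      obtain ⟨u, rfl⟩ := QuotientGroup.mk_surjective u
      obtain ⟨v, rfl⟩ := QuotientGroup.mk_surjective v
      have := congrArg (QuotientGroup.mk (s := center K)) (hid u v)
      simpa [commutatorElement_def] using this
    have hq := ih inferInstance h6' hid'
    have hc : ∀ u v : K, ⁅u, v⁆ ∈ center K := by
      intro u v
      rw [← QuotientGroup.eq_one_iff, commutatorElement_def]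
      have := hq (u : K ⧸ center K) (v : K ⧸ center K)
      simp only [QuotientGroup.mk_mul, QuotientGroup.mk_inv]
      rw [this]; group
    have h4 := comm_inv_sq_inv_sq hc u v
    rw [hid u v] at h4
    have h6pow : ⁅u, v⁆ ^ 6 = 1 := by
      have : ⁅u, v⁆ ^ 6 = ⁅u, v⁆ ^ 4 * ⁅u, v⁆ ^ 2 := by rw [← pow_add]
      rw [this, ← h4, inv_pow, inv_mul_cancel]
    have ho6 : orderOf ⁅u, v⁆ ∣ 6 := orderOf_dvd_of_pow_eq_one h6pow
    have hoc : orderOf ⁅u, v⁆ ∣ Nat.card K := orderOf_dvd_natCard _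
    have ho1 : orderOf ⁅u, v⁆ = 1 := Nat.eq_one_of_dvd_coprimes h6 hoc ho6
    have h1 : ⁅u, v⁆ = 1 := orderOf_eq_one_iff.mp ho1
    exact (commutatorElement_eq_one_iff_mul_comm.mp h1)

end classtwo

section fpf3

variable {H : Type*} [Group H] [Finite H]

/-- `x · σx · σ²x = 1` for a fixed-point-free automorphism of order 3. -/
theorem fpf3_prod (σ : MulAut H) (hσ3 : ∀ x, σ (σ (σ x)) = x) (hfpf : ∀ x, σ x = x → x = 1)
    (x : H) : x * σ x * σ (σ x) = 1 := by
  have hinj : Function.Injective (fun y : H => y⁻¹ * σ y) := by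
    intro y z hyz
    have hyz' : y⁻¹ * σ y = z⁻¹ * σ z := hyz
    have h1 : σ (z * y⁻¹) = z * y⁻¹ := by
      rw [map_mul, map_inv]
      have : σ z = z * (y⁻¹ * σ y) := by rw [hyz']; group
      rw [this]; group
    have h2 := hfpf _ h1
    have : z = y := by
      have := congrArg (· * y) h2
      simpa using this
    exact this.symm
  have hsurj : Function.Surjective (fun y : H => y⁻¹ * σ y) := Finite.surjective_of_injective hinj
  obtain ⟨y, rfl⟩ := hsurj x
  simp only [map_mul, map_inv, hσ3]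
  group

theorem fpf3_prod' (σ : MulAut H) (hσ3 : ∀ x, σ (σ (σ x)) = x) (hfpf : ∀ x, σ x = x → x = 1)
    (x : H) : σ (σ x) * σ x * x = 1 := by
  have h := fpf3_prod σ hσ3 hfpf x⁻¹
  simp only [map_inv] at h
  have h2 := congrArg (·⁻¹) h
  simpa [mul_assoc] using h2

end fpf3

section main

variable {H : Type*} [Group H] [Finite H]

/-- **Step (a5)**: `H' ≤ [H, τ]` when `σ` (order 3, fixed-point-free) and the involution `τ`
generate an `S₃`-action on the finite nilpotent group `H` of order prime to 6. -/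
theorem commutator_le_normalClosure_comm_tau [Group.IsNilpotent H]
    (h6 : (Nat.card H).Coprime 6) (σ τ : MulAut H)
    (hσ3 : ∀ x, σ (σ (σ x)) = x) (hτ2 : ∀ x, τ (τ x) = x)
    (hτσ : ∀ x, τ (σ x) = σ (σ (τ x))) (hfpf : ∀ x, σ x = x → x = 1) :
    commutator H ≤ Subgroup.normalClosure {z : H | ∃ h : H, z = h⁻¹ * τ h} := by
  classical
  set N : Subgroup H := Subgroup.normalClosure {z : H | ∃ h : H, z = h⁻¹ * τ h} with hN
  have hmemN : ∀ h : H, h⁻¹ * τ h ∈ N := fun h => Subgroup.subset_normalClosure ⟨h, rfl⟩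
  have hodd : (Nat.card H).Coprime 2 := Nat.Coprime.coprime_dvd_right (by norm_num : 2 ∣ 6) h6
  -- fixed-point lifting: every `h` is `x * n⁻¹`‑like with `τ x = x`
  have hlift : ∀ h : H, ∃ x : H, τ x = x ∧ h⁻¹ * x ∈ N := by
    intro h
    set w := h⁻¹ * τ h with hw
    have hτw : τ w = w⁻¹ := by
      rw [hw, map_mul, map_inv, hτ2]; group
    obtain ⟨m, hm⟩ := (Nat.Coprime.pow_left_bijective hodd).2 w
    have hm2 : m ^ 2 = w := hm
    -- m is a power of w
    have hmw : m ∈ Subgroup.zpowers w := by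
      have hcop : (orderOf m).Coprime 2 :=
        Nat.Coprime.coprime_dvd_left (orderOf_dvd_natCard m) hodd
      obtain ⟨k, hk⟩ := Nat.Coprime.odd_of_right hcop
      have h1 : m = w ^ (k + 1) := by
        rw [← hm2, ← pow_mul]
        have : 2 * (k + 1) = orderOf m + 1 := by omega
        rw [this, pow_succ, pow_orderOf_eq_one, one_mul]
      rw [h1]; exact Subgroup.pow_mem _ (Subgroup.mem_zpowers w) _
    obtain ⟨j, hj⟩ := Subgroup.mem_zpowers_iff.mp hmw
    have hτm : τ m = m⁻¹ := by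
      rw [← hj, map_zpow, hτw, inv_zpow]
    have hmN : m ∈ N := by
      rw [← hj]; exact Subgroup.zpow_mem _ (hmemN h) j
    refine ⟨h * m, ?_, ?_⟩
    · rw [map_mul, hτm]
      have : τ h = h * w := by rw [hw]; group
      rw [this, ← hm2]; group
    · simpa using hmN
  -- the quotient
  have : N.Normal := Subgroup.normalClosure_normal
  let K := H ⧸ N
  have hmk : ∀ a b : H, a⁻¹ * b ∈ N → (QuotientGroup.mk a : K) = QuotientGroup.mk b := by
    intro a b hab
    exact QuotientGroup.eq.mpr hab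
  have hcardK : (Nat.card K).Coprime 6 :=
    Nat.Coprime.coprime_dvd_left (Subgroup.card_quotient_dvd_card N) h6
  have hoddK : (Nat.card K).Coprime 2 := Nat.Coprime.coprime_dvd_right (by norm_num : 2 ∣ 6) hcardK
  -- for τ-fixed x : mk x = (mk (σ x))⁻¹ ^ 2
  have hfix : ∀ x : H, τ x = x → (QuotientGroup.mk x : K) = ((QuotientGroup.mk (σ x) : K)⁻¹) ^ 2 := by
    intro x hx
    have h1 : τ (σ x) = σ (σ x) := by rw [hτσ, hx]
    have h2 : (QuotientGroup.mk (σ x) : K) = QuotientGroup.mk (σ (σ x)) := by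
      apply hmk
      rw [← h1]; exact hmemN _
    have h3 := fpf3_prod σ hσ3 hfpf x
    have h4 := congrArg (QuotientGroup.mk (s := N)) h3
    simp only [QuotientGroup.mk_mul, QuotientGroup.mk_one] at h4
    rw [← h2] at h4
    -- mk x * y * y = 1
    have : (QuotientGroup.mk x : K) = ((QuotientGroup.mk (σ x) : K) * QuotientGroup.mk (σ x))⁻¹ := by
      rw [eq_inv_iff_mul_eq_one, ← mul_assoc]; exact h4
    rw [this, inv_pow, pow_two]
  -- every element of K is mk (σ x) with x τ-fixed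
  have hrep : ∀ u : K, ∃ x : H, τ x = x ∧ (QuotientGroup.mk (σ x) : K) = u := by
    intro u
    obtain ⟨h, hh⟩ := QuotientGroup.mk_surjective ((u⁻¹) ^ 2)
    obtain ⟨x, hx, hxN⟩ := hlift h
    refine ⟨x, hx, ?_⟩
    have h1 : (QuotientGroup.mk x : K) = (u⁻¹) ^ 2 := by rw [← hh]; exact (hmk h x hxN).symm
    rw [hfix x hx] at h1
    have h2 := (Nat.Coprime.pow_left_bijective hoddK).1 h1
    exact inv_injective h2
  have hid : ∀ u v : K, ⁅(u⁻¹) ^ 2, (v⁻¹) ^ 2⁆ = (⁅u, v⁆⁻¹) ^ 2 := by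
    intro u v
    obtain ⟨x, hx, rfl⟩ := hrep u
    obtain ⟨y, hy, rfl⟩ := hrep v
    have hc : τ ⁅x, y⁆ = ⁅x, y⁆ := by
      simp only [commutatorElement_def, map_mul, map_inv, hx, hy]
    have h1 := hfix _ hc
    rw [← hfix x hx, ← hfix y hy]
    have h2 : (QuotientGroup.mk ⁅x, y⁆ : K) = ⁅(QuotientGroup.mk x : K), QuotientGroup.mk y⁆ := by
      simp [commutatorElement_def]
    have h3 : (QuotientGroup.mk (σ ⁅x, y⁆) : K) = ⁅(QuotientGroup.mk (σ x) : K), QuotientGroup.mk (σ y)⁆ := by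
      simp [commutatorElement_def]
    rw [← h2, h1, h3]
  have hcomm := commute_of_identity K inferInstance hcardK hid
  rw [_root_.commutator_def, Subgroup.commutator_le]
  intro a _ b _
  rw [← QuotientGroup.eq_one_iff, commutatorElement_def]
  have := hcomm (a : K) (b : K)
  simp only [QuotientGroup.mk_mul, QuotientGroup.mk_inv]
  rw [this]; group

end main

section ambient

variable {T : Type*} [Group T]

/-- conjugation by `s` preserves `H` also backwards, when `T` is finite. -/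
theorem conj_inv_mem_of_conj_mem [Finite T] (H : Subgroup T) (s : T)
    (hs : ∀ x ∈ H, s * x * s⁻¹ ∈ H) : ∀ x ∈ H, s⁻¹ * x * s ∈ H := by
  have hpow : ∀ n : ℕ, ∀ x ∈ H, s ^ n * x * (s ^ n)⁻¹ ∈ H := by
    intro n
    induction n with
    | zero => intro x hx; simpa using hx
    | succ n ih =>
      intro x hx
      have := hs _ (ih x hx)
      have h2 : s ^ (n + 1) * x * (s ^ (n + 1))⁻¹ = s * (s ^ n * x * (s ^ n)⁻¹) * s⁻¹ := by
        rw [pow_succ']; group
      rw [h2]; exact this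
  intro x hx
  have h1 : s⁻¹ = s ^ (orderOf s - 1) := by
    have hpos : 0 < orderOf s := orderOf_pos s
    have : s ^ (orderOf s - 1) * s = 1 := by
      rw [← pow_succ, Nat.sub_add_cancel hpos, pow_orderOf_eq_one]
    exact (eq_inv_of_mul_eq_one_left this).symm
  have := hpow (orderOf s - 1) x hx
  rw [← h1, inv_inv] at this
  exact this

/-- conjugation by a normalizing element, as an automorphism of the subgroup. -/
def conjAut (H : Subgroup T) (s : T) (hs : ∀ x ∈ H, s * x * s⁻¹ ∈ H)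
    (hs' : ∀ x ∈ H, s⁻¹ * x * s ∈ H) : MulAut H where
  toFun x := ⟨s * x * s⁻¹, hs x x.2⟩
  invFun x := ⟨s⁻¹ * x * s, hs' x x.2⟩
  left_inv x := by ext; simp [mul_assoc]
  right_inv x := by ext; simp [mul_assoc]
  map_mul' x y := by ext; simp [mul_assoc]

@[simp] theorem conjAut_apply_coe (H : Subgroup T) (s : T) (hs : ∀ x ∈ H, s * x * s⁻¹ ∈ H)
    (hs' : ∀ x ∈ H, s⁻¹ * x * s ∈ H) (x : H) :
    ((conjAut H s hs hs' x : H) : T) = s * x * s⁻¹ := rfl

/-- **Step (a5), ambient form** (helper8's Ward vocabulary: everything inside one finite group `T`).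
`H ≤ T` nilpotent of order prime to 6, normalized by `s` and `t`; `s³`, `t²` centralize `H`,
`t s t⁻¹ s` centralizes `H` (e.g. `t s t⁻¹ = s⁻¹`), `s` is fixed-point-free on `H`.  Then every
subgroup `N` normalized by `H` that contains all `h⁻¹ · t h t⁻¹` (`h ∈ H`) contains `H'`. -/
theorem comm_mem_of_fpf3 [Finite T] (H : Subgroup T) [Group.IsNilpotent H]
    (h6 : (Nat.card H).Coprime 6) (s t : T)
    (hs : ∀ x ∈ H, s * x * s⁻¹ ∈ H) (ht : ∀ x ∈ H, t * x * t⁻¹ ∈ H)
    (hs3 : ∀ x ∈ H, s ^ 3 * x * (s ^ 3)⁻¹ = x) (ht2 : ∀ x ∈ H, t ^ 2 * x * (t ^ 2)⁻¹ = x)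
    (hts : ∀ x ∈ H, (t * s) * x * (t * s)⁻¹ = (s * s * t) * x * (s * s * t)⁻¹)
    (hfpf : ∀ x ∈ H, s * x * s⁻¹ = x → x = 1)
    (N : Subgroup T) (hNH : ∀ h ∈ H, ∀ n ∈ N, h * n * h⁻¹ ∈ N)
    (hN : ∀ h ∈ H, h⁻¹ * (t * h * t⁻¹) ∈ N) :
    ∀ x ∈ H, ∀ y ∈ H, ⁅x, y⁆ ∈ N := by
  have hs' := conj_inv_mem_of_conj_mem H s hs
  have ht' := conj_inv_mem_of_conj_mem H t ht
  set σ := conjAut H s hs hs' with hσ
  set τ := conjAut H t ht ht' with hτ
  have h1 : ∀ x : H, σ (σ (σ x)) = x := by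
    intro x; ext
    have := hs3 x x.2
    simp only [conjAut_apply_coe, hσ]
    have e : s * (s * (s * (x : T) * s⁻¹) * s⁻¹) * s⁻¹ = s ^ 3 * x * (s ^ 3)⁻¹ := by
      simp only [pow_succ, pow_zero, one_mul, mul_inv_rev, mul_assoc]
    rw [e, this]
  have h2 : ∀ x : H, τ (τ x) = x := by
    intro x; ext
    have := ht2 x x.2
    simp only [conjAut_apply_coe, hτ]
    have e : t * (t * (x : T) * t⁻¹) * t⁻¹ = t ^ 2 * x * (t ^ 2)⁻¹ := by
      simp only [pow_succ, pow_zero, one_mul, mul_inv_rev, mul_assoc]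
    rw [e, this]
  have h3 : ∀ x : H, τ (σ x) = σ (σ (τ x)) := by
    intro x; ext
    have := hts x x.2
    simp only [conjAut_apply_coe, hτ, hσ]
    have e1 : t * (s * ↑x * s⁻¹) * t⁻¹ = (t * s) * x * (t * s)⁻¹ := by group
    have e2 : s * (s * (t * ↑x * t⁻¹) * s⁻¹) * s⁻¹ = (s * s * t) * x * (s * s * t)⁻¹ := by group
    rw [e1, e2, this]
  have h4 : ∀ x : H, σ x = x → x = 1 := by
    intro x hx
    have := hfpf x x.2 (by simpa [hσ] using congrArg Subtype.val hx)
    exact Subtype.ext this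
  have hmain := commutator_le_normalClosure_comm_tau (H := H) h6 σ τ h1 h2 h3 h4
  have hnorm : (N.subgroupOf H).Normal := by
    constructor
    intro n hn g
    rw [Subgroup.mem_subgroupOf] at hn ⊢
    simpa using hNH g g.2 n hn
  have hle : Subgroup.normalClosure {z : H | ∃ h : H, z = h⁻¹ * τ h} ≤ N.subgroupOf H := by
    apply Subgroup.normalClosure_le_normal
    rintro z ⟨h, rfl⟩
    rw [SetLike.mem_coe, Subgroup.mem_subgroupOf]
    simpa [hτ] using hN h h.2
  intro x hx y hy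
  have hxy : ⁅(⟨x, hx⟩ : H), ⟨y, hy⟩⁆ ∈ _root_.commutator H :=
    Subgroup.commutator_mem_commutator (Subgroup.mem_top _) (Subgroup.mem_top _)
  have := hle (hmain hxy)
  rw [Subgroup.mem_subgroupOf] at this
  simpa [commutatorElement_def] using this

end ambient

end Cfsg.Agent.Lib.Helper9.S3A5
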