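import Mathlib
import Cfsg.Agent.Lib.Helper8.WardD
import Cfsg.Agent.Lib.Helper4.S3HH
import Cfsg.Agent.Lib.Helper9.S3A5
import Cfsg.Agent.Lib.Helper9.S3A1
import Cfsg.Agent.Lib.Helper9.S3A2

/-!
# S4305, case (a): the critical configuration with `H` a `q`-group, part 1

Setting `CaseA`, and steps (C3), (a1).
-/

set_option autoImplicit false

namespace Cfsg.Agent.Lib.Helper9.S3Pa

open Cfsg.Agent.Lib.Helper8.SBS Cfsg.Agent.Lib.Helper8.Ward
open Cfsg.Agent.Lib.Helper9.S3A1 Cfsg.Agent.Lib.Helper9.S3A2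

universe u w

/-- the critical configuration of case (a) -/
structure CaseA (V : Type u) [AddCommGroup V] {T : Type w} [Group T] [DistribMulAction T V]
    (p q : ℕ) (H : Subgroup T) (s t : T) : Prop where
  hp : p.Prime
  hq : q.Prime
  hpq : p ≠ q
  hp5 : 5 ≤ p
  hq5 : 5 ≤ q
  hV : ∀ v : V, p • v = 0
  hH : IsPGroup q H
  hs3 : s ^ 3 = 1
  ht2 : t ^ 2 = 1
  hts : t * s = s⁻¹ * t
  hsH : ∀ x ∈ H, s * x * s⁻¹ ∈ H
  htH : ∀ x ∈ H, t * x * t⁻¹ ∈ H
  hCH : ∀ x ∈ H, s * x = x * s → t * x = x * t → x = 1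
  hCV : ∀ v : V, s • v = v → t • v = v → v = 0
  hfaith : ∀ x ∈ H, (∀ v : V, x • v = v) → x = 1
  hirr : ∀ W : AddSubgroup V, (∀ x ∈ H, ∀ w ∈ W, x • w ∈ W) → (∀ w ∈ W, s • w ∈ W) →
    (∀ w ∈ W, t • w ∈ W) → W = ⊥ ∨ W = ⊤

variable {V : Type u} [AddCommGroup V] {T : Type w} [Group T] [DistribMulAction T V]
  {p q : ℕ} {H : Subgroup T} {s t : T}

namespace CaseA

theorem htt (c : CaseA V p q H s t) : t * t = 1 := by rw [← pow_two]; exact c.ht2

theorem htinv (c : CaseA V p q H s t) : t⁻¹ = t := inv_eq_of_mul_eq_one_left c.htt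

theorem hsss (c : CaseA V p q H s t) : s * s * s = 1 := by
  have := c.hs3
  rwa [pow_succ, pow_two] at this

theorem hsinv (c : CaseA V p q H s t) : s⁻¹ = s * s := inv_eq_of_mul_eq_one_left c.hsss

theorem hst (c : CaseA V p q H s t) : s * t = t * s⁻¹ := by
  rw [eq_mul_inv_iff_mul_eq, mul_assoc, c.hts, mul_inv_cancel_left]

theorem hq2 (c : CaseA V p q H s t) : q ≠ 2 := by have := c.hq5; omega
theorem hq3 (c : CaseA V p q H s t) : q ≠ 3 := by have := c.hq5; omega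
theorem hp2 (c : CaseA V p q H s t) : p ≠ 2 := by have := c.hp5; omega
theorem hp3 (c : CaseA V p q H s t) : p ≠ 3 := by have := c.hp5; omega

theorem hsH' [Finite T] (c : CaseA V p q H s t) : ∀ x ∈ H, s⁻¹ * x * s ∈ H :=
  Cfsg.Agent.Lib.Helper9.S3A5.conj_inv_mem_of_conj_mem H s c.hsH

theorem htH' (c : CaseA V p q H s t) : ∀ x ∈ H, t⁻¹ * x * t ∈ H := by
  intro x hx
  have := c.htH x hx
  rw [c.htinv] at this ⊢
  exact this

/-- odd exponent for elements of `H` -/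
theorem exists_odd_pow (c : CaseA V p q H s t) {x : T} (hx : x ∈ H) :
    ∃ n : ℕ, Odd n ∧ x ^ n = 1 := by
  obtain ⟨k, hk⟩ := c.hH ⟨x, hx⟩
  refine ⟨q ^ k, Odd.pow (c.hq.odd_of_ne_two c.hq2), ?_⟩
  have := congrArg Subtype.val hk
  simpa using this

/-- **(C3)**: `t` inverts `C_H(s)`. -/
theorem t_inverts [Finite T] (c : CaseA V p q H s t) {x : T} (hx : x ∈ H) (hxs : s * x = x * s) :
    t * x * t⁻¹ = x⁻¹ := by
  let N : Subgroup T := H ⊓ Subgroup.centralizer {s}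
  have hmemN : ∀ y, y ∈ N ↔ y ∈ H ∧ s * y = y * s := by
    intro y
    simp only [N, Subgroup.mem_inf, Subgroup.mem_centralizer_iff, Set.mem_singleton_iff,
      forall_eq]
  have hN : ∀ y ∈ N, t * y * t⁻¹ ∈ N := by
    intro y hy
    rw [hmemN] at hy ⊢
    refine ⟨c.htH y hy.1, ?_⟩
    have h1 : s⁻¹ * y = y * s⁻¹ := by
      have := hy.2
      calc s⁻¹ * y = s⁻¹ * (y * s) * s⁻¹ := by group
        _ = s⁻¹ * (s * y) * s⁻¹ := by rw [this]
        _ = y * s⁻¹ := by group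
    calc s * (t * y * t⁻¹) = (s * t) * y * t⁻¹ := by group
      _ = (t * s⁻¹) * y * t⁻¹ := by rw [c.hst]
      _ = t * (s⁻¹ * y) * t⁻¹ := by group
      _ = t * (y * s⁻¹) * t⁻¹ := by rw [h1]
      _ = t * y * (t * s)⁻¹ := by group
      _ = t * y * (s⁻¹ * t)⁻¹ := by rw [c.hts]
      _ = t * y * t⁻¹ * s := by group
  have hC : ∀ y ∈ N, t * y * t⁻¹ = y → y = 1 := by
    intro y hy hty
    rw [hmemN] at hy
    apply c.hCH y hy.1 hy.2
    calc t * y = (t * y * t⁻¹) * t := by group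
      _ = y * t := by rw [hty]
  exact inverts_of_fpf_sub N c.htt hN hC x ((hmemN x).2 ⟨hx, hxs⟩)

/-- if `t` has no fixed points on `H` then `H` is abelian -/
theorem abelian_of_t_fpf [Finite T] (c : CaseA V p q H s t)
    (h : ∀ x ∈ H, t * x = x * t → x = 1) : ∀ x ∈ H, ∀ y ∈ H, x * y = y * x := by
  have hinv : ∀ z ∈ H, t * z * t⁻¹ = z⁻¹ := by
    apply inverts_of_fpf_sub H c.htt c.htH
    intro y hy hty
    apply h y hy
    calc t * y = (t * y * t⁻¹) * t := by group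
      _ = y * t := by rw [hty]
  intro x hx y hy
  have h1 := hinv (x * y) (H.mul_mem hx hy)
  have h2 : t * (x * y) * t⁻¹ = (t * x * t⁻¹) * (t * y * t⁻¹) := by group
  rw [h2, hinv x hx, hinv y hy, mul_inv_rev] at h1
  have h3 := congrArg (fun g => g⁻¹) h1
  simpa using h3.symm

/-- **(a1), degenerate branch**: if `C_V(s) = 0` then `H` is abelian (by (HH)). -/
theorem abelian_of_fix_s_zero [Finite T] [Finite V] (c : CaseA V p q H s t)
    (h0 : ∀ v : V, s • v = v → v = 0) : ∀ x ∈ H, ∀ y ∈ H, x * y = y * x := by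
  have hHH := Cfsg.Agent.Lib.Helper4.S3HH.comm_acts_trivially c.hp c.hq Nat.prime_three c.hV c.hq2
    c.hq3 c.hpq c.hp3 H c.hH s c.hs3 c.hsH h0
  have hsc : ∀ x ∈ H, s * x = x * s := by
    intro x hx
    have hmem : s * x * s⁻¹ * x⁻¹ ∈ H := H.mul_mem (c.hsH x hx) (H.inv_mem hx)
    have := c.hfaith _ hmem (hHH x hx)
    calc s * x = (s * x * s⁻¹ * x⁻¹) * x * s := by group
      _ = x * s := by rw [this, one_mul]
  apply c.abelian_of_t_fpf
  intro x hx htx
  exact c.hCH x hx (hsc x hx) htx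

/-- the fixed vectors of one element -/
def fixOf (V : Type u) [AddCommGroup V] {T : Type w} [Group T] [DistribMulAction T V] (g : T) :
    AddSubgroup V where
  carrier := {v | g • v = v}
  zero_mem' := smul_zero g
  add_mem' := by
    intro a b ha hb
    show g • (a + b) = a + b
    rw [smul_add, ha, hb]
  neg_mem' := by
    intro a ha
    show g • (-a) = -a
    rw [smul_neg, ha]

theorem mem_fixOf {g : T} {v : V} : v ∈ fixOf V g ↔ g • v = v := Iff.rfl

/-- **(a1)**: if `C_V(s) ≠ 0` then `C_{Z(H)}(s) = 1`. -/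
theorem center_cent_s_trivial [Finite T] (c : CaseA V p q H s t) {v₀ : V} (hv₀ : v₀ ≠ 0)
    (hsv₀ : s • v₀ = v₀) {z : T} (hz : z ∈ H) (hzc : ∀ y ∈ H, z * y = y * z)
    (hzs : s * z = z * s) : z = 1 := by
  have htz := c.t_inverts hz hzs
  have htz' : t * z = z⁻¹ * t := by
    calc t * z = (t * z * t⁻¹) * t := by group
      _ = z⁻¹ * t := by rw [htz]
  have hinvH : ∀ x ∈ H, ∀ w ∈ fixOf V z, x • w ∈ fixOf V z := by
    intro x hx w hw
    show z • x • w = x • w
    rw [← mul_smul, hzc x hx, mul_smul, mem_fixOf.1 hw]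
  have hinvs : ∀ w ∈ fixOf V z, s • w ∈ fixOf V z := by
    intro w hw
    show z • s • w = s • w
    rw [← mul_smul, ← hzs, mul_smul, mem_fixOf.1 hw]
  have hinvt : ∀ w ∈ fixOf V z, t • w ∈ fixOf V z := by
    intro w hw
    show z • t • w = t • w
    have h1 : z * t = t * z⁻¹ := by
      rw [eq_mul_inv_iff_mul_eq, mul_assoc, htz', mul_inv_cancel_left]
    have h2 : z⁻¹ • w = w := by
      conv_lhs => rw [← mem_fixOf.1 hw]
      rw [inv_smul_smul]
    rw [← mul_smul, h1, mul_smul, h2]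
  rcases c.hirr (fixOf V z) hinvH hinvs hinvt with h | h
  · -- C_V(z) = 0 : contradiction with C_V(s) ≤ C_V(z)
    exfalso
    obtain ⟨n, hn, hzn⟩ := c.exists_odd_pow hz
    have := fix_sigma_le_fix_of_inverted (V := V) c.hts c.htt c.hCV hzs.symm htz' hn hzn hsv₀
    have hmem : v₀ ∈ fixOf V z := this
    rw [h] at hmem
    exact hv₀ ((AddSubgroup.mem_bot).1 hmem)
  · apply c.hfaith z hz
    intro v
    have : v ∈ fixOf V z := by rw [h]; exact AddSubgroup.mem_top v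
    exact this

end CaseA

end Cfsg.Agent.Lib.Helper9.S3Pa
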