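import Mathlib
import Cfsg.Agent.Lib.Lead.S3Basic
import Cfsg.Agent.Lib.Lead.S3F2
import Cfsg.Agent.Lib.Helper9.S3A3

/-!
# S4305, case (a), part 2: the decomposition `V = V₀ + V₁ + V₂` (step (a2))
-/

set_option autoImplicit false
set_option linter.unusedSectionVars false
set_option linter.unusedVariables false

namespace Cfsg.Agent.Lib.Helper9.S3Pa

open Cfsg.Agent.Lib.Helper8.SBS Cfsg.Agent.Lib.Helper8.Ward Cfsg.Agent.Lib.Lead.S3
open Cfsg.Agent.Lib.Helper9.S3A1 Cfsg.Agent.Lib.Helper9.S3A2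

universe u w

variable {V : Type u} [AddCommGroup V] [Finite V] {T : Type w} [Group T] [Finite T]
  [DistribMulAction T V] {p q : ℕ} {H : Subgroup T} {s t : T}

/-- from the lead's `Crit` to `CaseA`. -/
theorem caseA_of_crit (h : Crit V p H s t) (hq : q.Prime) (hqp : q ≠ p) (hH : IsPGroup q H)
    (hH1 : H ≠ ⊥) : CaseA V p q H s t := by
  have : Fact q.Prime := ⟨hq⟩
  have hqdvd : q ∣ Nat.card H := by
    obtain ⟨n, hn⟩ := IsPGroup.iff_card.1 hH
    rcases Nat.eq_zero_or_pos n with rfl | hn0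
    · exfalso
      apply hH1
      rw [pow_zero] at hn
      exact Subgroup.card_eq_one.1 hn
    · rw [hn]; exact dvd_pow_self q hn0.ne'
  have hq6 : ¬ q ∣ 6 := by
    intro h6
    have := Nat.Coprime.eq_one_of_dvd (Nat.Coprime.coprime_dvd_left hqdvd h.hcop) h6
    exact hq.one_lt.ne' this
  have hq5 : 5 ≤ q := by
    have h2 := hq.two_le
    rcases Nat.lt_or_ge q 5 with hlt | hge
    · exfalso
      interval_cases q
      · exact hq6 (by norm_num)
      · exact hq6 (by norm_num)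
      · exact absurd hq (by norm_num)
    · exact hge
  exact
    { hp := h.hp
      hq := hq
      hpq := hqp.symm
      hp5 := h.five_le
      hq5 := hq5
      hV := h.hVp
      hH := hH
      hs3 := h.hs3
      ht2 := h.ht2
      hts := t_mul_s h.hts
      hsH := fun x hx => h.conj_s_mem hx
      htH := fun x hx => h.conj_t_mem hx
      hCH := h.hfpfH
      hCV := h.hfpfV
      hfaith := h.hfaith
      hirr := fun W hH' hs' ht' => h.irr_gens W hH' hs' ht' }

section D

variable (h : Crit V p H s t) (hq : q.Prime) (hqp : q ≠ p) (hH : IsPGroup q H)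

/-- `D = Ω₁(Z(H))` is normal in `T`. -/
theorem omegaZ_normal (h : Crit V p H s t) : (omegaZ q H).Normal := by
  constructor
  intro n hn g
  have hg : g ∈ Subgroup.normalizer (H : Set T) := by
    have := h.hHn
    rw [Subgroup.normalizer_eq_top] 
    exact Subgroup.mem_top g
  exact conj_mem_omegaZ hg hn

/-- `D ≠ 1` when `H ≠ 1`. -/
theorem omegaZ_ne_bot (hq : q.Prime) (hH : IsPGroup q H) (hH1 : H ≠ ⊥) : omegaZ q H ≠ ⊥ := by
  have : Fact q.Prime := ⟨hq⟩
  have hnt : Nontrivial H := by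
    rw [← Subgroup.nontrivial_iff_ne_bot] at hH1
    exact hH1
  have hcn : Nontrivial (Subgroup.center H) := hH.center_nontrivial
  have hcp : IsPGroup q (Subgroup.center H) := hH.to_subgroup _
  have hdvd : q ∣ Nat.card (Subgroup.center H) := by
    rcases hcp.card_eq_or_dvd with h1 | h1
    · exfalso
      have := (Nat.card_eq_one_iff_unique.1 h1).1
      exact not_subsingleton _ this
    · exact h1
  obtain ⟨z, hz⟩ := exists_prime_orderOf_dvd_card' q hdvd
  intro hbot
  have hzmem : ((z : H) : T) ∈ omegaZ q H := by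
    refine ⟨(z : H).2, ?_, ?_⟩
    · intro y hy
      have := Subgroup.mem_center_iff.1 z.2 ⟨y, hy⟩
      have h2 := congrArg Subtype.val this
      simpa using h2.symm
    · have h1 : z ^ q = 1 := by rw [← hz]; exact pow_orderOf_eq_one z
      have h2 := congrArg (fun x : Subgroup.center H => ((x : H) : T)) h1
      simpa using h2
  rw [hbot, Subgroup.mem_bot] at hzmem
  have hz1 : z = 1 := by
    apply Subtype.ext; apply Subtype.ext
    simpa using hzmem
  rw [hz1, orderOf_one] at hz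
  exact hq.one_lt.ne' hz.symm

end D

/-- the vectors fixed by all commutators `[a, x]`, `x ∈ D`. -/
def Vf (V : Type u) [AddCommGroup V] {T : Type w} [Group T] [DistribMulAction T V]
    (D : Subgroup T) (a : T) : AddSubgroup V where
  carrier := {v | ∀ x ∈ D, (a * x * a⁻¹ * x⁻¹) • v = v}
  zero_mem' := fun x _ => smul_zero _
  add_mem' := by
    intro u v hu hv x hx
    rw [smul_add, hu x hx, hv x hx]
  neg_mem' := by
    intro u hu x hx
    rw [smul_neg, hu x hx]

theorem mem_Vf {D : Subgroup T} {a : T} {v : V} :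
    v ∈ Vf V D a ↔ ∀ x ∈ D, (a * x * a⁻¹ * x⁻¹) • v = v := Iff.rfl

/-- the subgroup generated by the commutators `[a, x]`, `x ∈ D`. -/
def commSub (D : Subgroup T) (a : T) : Subgroup T :=
  Subgroup.closure {y | ∃ x ∈ D, y = a * x * a⁻¹ * x⁻¹}

theorem commSub_le {D : Subgroup T} {a : T} (ha : ∀ x ∈ D, a * x * a⁻¹ ∈ D) : commSub D a ≤ D := by
  unfold commSub
  rw [Subgroup.closure_le]
  rintro y ⟨x, hx, rfl⟩
  exact D.mul_mem (ha x hx) (D.inv_mem hx)

theorem fixedPts_commSub (D : Subgroup T) (a : T) : fixedPts (V := V) (commSub D a) = Vf V D a := by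
  apply le_antisymm
  · intro v hv x hx
    exact hv _ (Subgroup.subset_closure ⟨x, hx, rfl⟩)
  · intro v hv
    rw [mem_fixedPts_iff_le_stabilizer]
    unfold commSub
    rw [Subgroup.closure_le]
    rintro y ⟨x, hx, rfl⟩
    exact hv x hx

/-- `[ab, x] = [a, b x b⁻¹] [b, x]`. -/
theorem Vf_mul_mem {D : Subgroup T} {a b : T} (hb : ∀ x ∈ D, b * x * b⁻¹ ∈ D) {v : V}
    (hva : v ∈ Vf V D a) (hvb : v ∈ Vf V D b) : v ∈ Vf V D (a * b) := by
  intro x hx
  have e : a * b * x * (a * b)⁻¹ * x⁻¹ =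
      (a * (b * x * b⁻¹) * a⁻¹ * (b * x * b⁻¹)⁻¹) * (b * x * b⁻¹ * x⁻¹) := by group
  rw [e, mul_smul, hvb x hx, hva _ (hb x hx)]

/-- `g • Vf a ≤ Vf (g a g⁻¹)` for `g` normalizing `D`. -/
theorem smul_mem_Vf_conj {D : Subgroup T} {a g : T} (hg : ∀ x ∈ D, g⁻¹ * x * g ∈ D) {v : V}
    (hv : v ∈ Vf V D a) : g • v ∈ Vf V D (g * a * g⁻¹) := by
  intro x hx
  have e : g * a * g⁻¹ * x * (g * a * g⁻¹)⁻¹ * x⁻¹ =
      g * (a * (g⁻¹ * x * g) * a⁻¹ * (g⁻¹ * x * g)⁻¹) * g⁻¹ := by group
  rw [e, ← mul_smul, inv_mul_cancel_right, mul_smul, hv _ (hg x hx)]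

section span

variable (h : Crit V p H s t) (hq : q.Prime) (hqp : q ≠ p) (hH : IsPGroup q H) (hH1 : H ≠ ⊥)
  (hfs : ∀ z ∈ H, (∀ y ∈ H, z * y = y * z) → s * z = z * s → z = 1)

include h hfs in
theorem exists_comm_s {d : T} (hd : d ∈ omegaZ q H) :
    ∃ x ∈ omegaZ q H, d = s * x * s⁻¹ * x⁻¹ := by
  have hDn : (omegaZ q H).Normal := omegaZ_normal h
  obtain ⟨x, hx, hdx⟩ := exists_comm_eq (R := omegaZ q H) (b := s⁻¹)
    (fun x hx => by simpa using hDn.conj_mem x hx s)
    (fun x hx hxs => by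
      apply hfs x hx.1 hx.2.1
      have : s⁻¹ * x * s = x := by rw [hxs]; group
      calc s * x = s * (s⁻¹ * x * s) := by rw [this]
        _ = x * s := by group) hd
  refine ⟨x⁻¹, (omegaZ q H).inv_mem hx, ?_⟩
  rw [hdx]; group

include h hfs in
theorem Vf_s_eq_bot (hD0 : fixedPts (V := V) (omegaZ q H) = ⊥) : Vf V (omegaZ q H) s = ⊥ := by
  rw [eq_bot_iff]
  intro v hv
  rw [← hD0]
  intro d hd
  obtain ⟨x, hx, rfl⟩ := exists_comm_s h hfs hd
  exact hv x hx

include h in
theorem rel1 : t * (s * t * s⁻¹) = s := by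
  have h1 := t_mul_s h.hts
  have h2 := s_inv h.hs3
  have htt : t * t = 1 := by rw [← pow_two, h.ht2]
  calc t * (s * t * s⁻¹) = (t * s) * t * s⁻¹ := by group
    _ = s⁻¹ * (t * t) * s⁻¹ := by rw [h1]; group
    _ = s⁻¹ * s⁻¹ := by rw [htt, mul_one]
    _ = s := by
      rw [h2, ← pow_add]
      have : s ^ (2 + 2) = s ^ 3 * s := by rw [← pow_succ]
      rw [this, h.hs3, one_mul]

include h in
theorem rel2 : (s⁻¹ * t * s) * t = s := by
  have h1 := t_mul_s h.hts
  have h2 := s_inv h.hs3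
  have htt : t * t = 1 := by rw [← pow_two, h.ht2]
  calc (s⁻¹ * t * s) * t = s⁻¹ * (t * s) * t := by group
    _ = s⁻¹ * s⁻¹ * (t * t) := by rw [h1]; group
    _ = s⁻¹ * s⁻¹ := by rw [htt, mul_one]
    _ = s := by
      rw [h2, ← pow_add]
      have : s ^ (2 + 2) = s ^ 3 * s := by rw [← pow_succ]
      rw [this, h.hs3, one_mul]

include h hq hqp hH hH1 hfs in
/-- **(a2)**: `V = V₀ + V₁ + V₂`. -/
theorem span_V (v : V) :
    v ∈ Vf V (omegaZ q H) t ⊔ Vf V (omegaZ q H) (s * t * s⁻¹) ⊔ Vf V (omegaZ q H) (s⁻¹ * t * s) := by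
  have : Fact q.Prime := ⟨hq⟩
  have hDn : (omegaZ q H).Normal := omegaZ_normal h
  have hD1 := omegaZ_ne_bot hq hH hH1
  have hD0 : fixedPts (V := V) (omegaZ q H) = ⊥ :=
    h.fixedPts_eq_bot_of_normal hDn (omegaZ_le q H) hD1
  have hcopq : (Nat.card V).Coprime q := h.coprime_V ((Nat.coprime_primes h.hp hq).2 hqp.symm)
  have hcopD : (Nat.card V).Coprime (Nat.card (omegaZ q H)) :=
    h.coprime_V_of_isPGroup hq hqp omegaZ_isPGroup
  apply span_hyperplanes (p := q) hcopq (omegaZ q H) omegaZ_comm (fun x hx => hx.2.2) _ _ v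
  intro K hKD hK
  rcases hK with rfl | hcard
  · rw [hD0]; exact bot_le
  · by_cases hK0 : fixedPts (V := V) K = ⊥
    · rw [hK0]; exact bot_le
    · have hyp : IsHyp (V := V) q (omegaZ q H) K := ⟨hKD, hcard, hK0⟩
      obtain ⟨a, haA, ha1, -, haK⟩ := Cfsg.Agent.Lib.Lead.S3F2.exists_trivial_mod_hyp
        (A := Subgroup.closure ({s, t} : Set T)) omegaZ_comm hD0 hcopD h.coprime_V_closure
        h.fixedPts_closure hyp
      have hKlt : ¬ omegaZ q H ≤ K := by
        intro hle
        have hKeq : K = omegaZ q H := le_antisymm hKD hle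
        rw [hKeq] at hcard
        have hpos : 0 < Nat.card (omegaZ q H) := Nat.card_pos
        have : q = 1 := by
          have h3 : Nat.card (omegaZ q H) * q = Nat.card (omegaZ q H) * 1 := by rw [hcard, mul_one]
          exact Nat.eq_of_mul_eq_mul_left hpos h3
        exact hq.one_lt.ne' this
      have hVfle : ∀ b : T, (∀ z ∈ omegaZ q H, b * z * b⁻¹ * z⁻¹ ∈ K) →
          fixedPts (V := V) K ≤ Vf V (omegaZ q H) b := by
        intro b hb v hv x hx
        exact hv _ (hb x hx)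
      rcases mem_closure_s3 h.hs3 h.ht2 (t_mul_s h.hts) haA with rfl | rfl | rfl | rfl | rfl | rfl
      · exact absurd rfl ha1
      · exfalso
        apply hKlt
        intro d hd
        obtain ⟨x, hx, rfl⟩ := exists_comm_s h hfs hd
        exact haK x hx
      · exfalso
        apply hKlt
        intro d hd
        obtain ⟨x, hx, hdx⟩ := exists_comm_s h hfs ((omegaZ q H).inv_mem hd)
        have hy : s * x * s⁻¹ ∈ omegaZ q H := hDn.conj_mem x hx s
        have := haK _ hy
        have e : s⁻¹ * (s * x * s⁻¹) * s⁻¹⁻¹ * (s * x * s⁻¹)⁻¹ = (s * x * s⁻¹ * x⁻¹)⁻¹ := by group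
        rw [e, ← hdx, inv_inv] at this
        exact this
      · exact le_sup_of_le_left (le_sup_of_le_left (hVfle _ haK))
      · exact le_sup_of_le_left (le_sup_of_le_right (hVfle _ haK))
      · exact le_sup_of_le_right (hVfle _ haK)

end span

end Cfsg.Agent.Lib.Helper9.S3Pa
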