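import Mathlib
import Cfsg.Agent.Lib.Helper9.S3A4

/-!
# S4305, case (a) (package P-a): in the critical configuration a `q`-group `H` is abelian
-/

set_option autoImplicit false
set_option linter.unusedSectionVars false
set_option linter.unusedVariables false

namespace Cfsg.Agent.Lib.Helper9.S3Pa

open Cfsg.Agent.Lib.Helper8.SBS Cfsg.Agent.Lib.Helper8.Ward Cfsg.Agent.Lib.Lead.S3
open Cfsg.Agent.Lib.Helper9.S3A1 Cfsg.Agent.Lib.Helper9.S3A2
open scoped commutatorElement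

universe u w

variable {V : Type u} [AddCommGroup V] [Finite V] {T : Type w} [Group T] [Finite T]
  [DistribMulAction T V] {p q : ℕ} {H : Subgroup T} {s t : T}

section main

variable (h : Crit V p H s t) (hq : q.Prime) (hqp : q ≠ p) (hH : IsPGroup q H) (hH1 : H ≠ ⊥)
  (hfs : ∀ z ∈ H, (∀ y ∈ H, z * y = y * z) → s * z = z * s → z = 1)

include h hq hqp hH hH1 hfs in
/-- **(a2), end**: `C_{V₀}(t) = 0`. -/
theorem fix_t_Vf (v : V) (hv : v ∈ Vf V (omegaZ q H) t) (htv : t • v = v) : v = 0 := by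
  have c := caseA_of_crit h hq hqp hH hH1
  have hDn : (omegaZ q H).Normal := omegaZ_normal h
  have hD1 := omegaZ_ne_bot hq hH hH1
  have hD0 : fixedPts (V := V) (omegaZ q H) = ⊥ :=
    h.fixedPts_eq_bot_of_normal hDn (omegaZ_le q H) hD1
  have hVs := Vf_s_eq_bot h hfs hD0
  have hnorm : ∀ g : T, ∀ x ∈ omegaZ q H, g * x * g⁻¹ ∈ omegaZ q H := fun g x hx => hDn.conj_mem x hx g
  have hnorm' : ∀ g : T, ∀ x ∈ omegaZ q H, g⁻¹ * x * g ∈ omegaZ q H := by
    intro g x hx
    have := hDn.conj_mem x hx g⁻¹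
    simpa using this
  have hD0le : commSub (omegaZ q H) t ≤ omegaZ q H := commSub_le (hnorm t)
  have hD0H : commSub (omegaZ q H) t ≤ H := hD0le.trans (omegaZ_le q H)
  have hcop : (Nat.card V).Coprime (Nat.card (commSub (omegaZ q H) t)) :=
    h.coprime_V_of_isPGroup hq hqp (hH.to_le hD0H)
  have hfix0 : ∀ u : V, (∀ x ∈ commSub (omegaZ q H) t, x • u = u) ↔ u ∈ Vf V (omegaZ q H) t := by
    intro u
    rw [← fixedPts_commSub]
    rfl
  refine fix_tau_on_fixedPts_eq_zero (commSub (omegaZ q H) t) c.hts c.hsss h.hfpfV hcop ?_ ?_ ?_ ?_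
    ((hfix0 v).2 hv) htv
  · intro x hx y hy
    exact omegaZ_comm _ (hnorm s y (hD0le hy)) _ (hD0le hx)
  · intro x hx y hy
    exact omegaZ_comm _ (hnorm' s y (hD0le hy)) _ (hD0le hx)
  · intro u hu1 hu2
    have h1 : u ∈ Vf V (omegaZ q H) t := (hfix0 u).1 hu1
    have h2 : s⁻¹ • u ∈ Vf V (omegaZ q H) t := by
      apply (hfix0 _).1
      intro x hx
      have := hu2 x hx
      calc x • s⁻¹ • u = s⁻¹ • (s * x * s⁻¹) • u := by
            rw [← mul_smul, ← mul_smul]; congr 1; group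
        _ = s⁻¹ • u := by rw [this]
    have h3 : u ∈ Vf V (omegaZ q H) (s * t * s⁻¹) := by
      have := smul_mem_Vf_conj (V := V) (g := s) (hnorm' s) h2
      rwa [smul_inv_smul] at this
    have h4 := Vf_mul_mem (V := V) (hnorm (s * t * s⁻¹)) h1 h3
    rw [rel1 h, hVs] at h4
    exact (AddSubgroup.mem_bot).1 h4
  · intro u hu1 hu2
    have h1 : u ∈ Vf V (omegaZ q H) t := (hfix0 u).1 hu1
    have h2 : s • u ∈ Vf V (omegaZ q H) t := by
      apply (hfix0 _).1
      intro x hx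
      have := hu2 x hx
      calc x • s • u = s • (s⁻¹ * x * s) • u := by
            rw [← mul_smul, ← mul_smul]; congr 1; group
        _ = s • u := by rw [this]
    have h3 : u ∈ Vf V (omegaZ q H) (s⁻¹ * t * s) := by
      have := smul_mem_Vf_conj (V := V) (g := s⁻¹) (a := t) (D := omegaZ q H)
        (by intro x hx; simpa using hnorm s x hx) h2
      rwa [inv_smul_smul, inv_inv] at this
    have h4 := Vf_mul_mem (V := V) (hnorm t) h3 h1
    rw [rel2 h, hVs] at h4
    exact (AddSubgroup.mem_bot).1 h4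

include h in
/-- `V₀ = Vf t` is `H`-invariant. -/
theorem Vf_smul_mem_of_mem_H (a : T) {x : T} (hx : x ∈ H) {w : V} (hw : w ∈ Vf V (omegaZ q H) a) :
    x • w ∈ Vf V (omegaZ q H) a := by
  have hDn : (omegaZ q H).Normal := omegaZ_normal h
  intro d hd
  have hc : a * d * a⁻¹ * d⁻¹ ∈ omegaZ q H :=
    (omegaZ q H).mul_mem (hDn.conj_mem d hd a) ((omegaZ q H).inv_mem hd)
  rw [← mul_smul, hc.2.1 x hx, mul_smul, hw d hd]

include h in
/-- `V₀ = Vf t` is `t`-invariant. -/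
theorem Vf_t_smul_mem {w : V} (hw : w ∈ Vf V (omegaZ q H) t) : t • w ∈ Vf V (omegaZ q H) t := by
  have hDn : (omegaZ q H).Normal := omegaZ_normal h
  have htinv : t⁻¹ = t := t_inv h.ht2
  intro d hd
  have hy : t * d⁻¹ * t⁻¹ ∈ omegaZ q H := hDn.conj_mem _ ((omegaZ q H).inv_mem hd) t
  have e1 : (t * d * t⁻¹ * d⁻¹) * t = t * (d * (t * d⁻¹ * t⁻¹)) := by
    have : t⁻¹ * d⁻¹ * t = t * d⁻¹ * t⁻¹ := by rw [htinv]
    calc (t * d * t⁻¹ * d⁻¹) * t = t * (d * (t⁻¹ * d⁻¹ * t)) := by group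
      _ = t * (d * (t * d⁻¹ * t⁻¹)) := by rw [this]
  have e2 : d * (t * d⁻¹ * t⁻¹) = t * d⁻¹ * t⁻¹ * (d⁻¹)⁻¹ := by
    rw [inv_inv]; exact omegaZ_comm _ hd _ hy
  rw [← mul_smul, e1, e2, mul_smul, hw _ ((omegaZ q H).inv_mem hd)]

include h hq hqp hH hH1 hfs in
/-- **(a3)**: `[H, t]` acts trivially on `V₀`. -/
theorem comm_t_triv {x : T} (hx : x ∈ H) {w : V} (hw : w ∈ Vf V (omegaZ q H) t) :
    (t * x * t⁻¹ * x⁻¹) • w = w := by
  have c := caseA_of_crit h hq hqp hH hH1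
  exact hh_comm_sub h.hp hq Nat.prime_two h.hVp c.hpq c.hp2 c.hq2 c.hq2 H hH t h.ht2
    (fun y hy => h.conj_t_mem hy) (Vf V (omegaZ q H) t)
    (fun y hy w hw => Vf_smul_mem_of_mem_H h t hy hw)
    (fun w hw => Vf_t_smul_mem h hw)
    (fun w hw htw => fix_t_Vf h hq hqp hH hH1 hfs w hw htw) x hx w hw

include h hq hqp hH hH1 hfs in
/-- an element of `H` fixing `V₀` pointwise and commuting with `s` up to conjugation:
if `x` and its `s`-conjugates fix `V₀` pointwise then `x` acts trivially on `V`, so `x = 1`. -/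
theorem eq_one_of_fix_Vf {x : T} (hx : x ∈ H)
    (h0 : ∀ w ∈ Vf V (omegaZ q H) t, x • w = w)
    (h1 : ∀ w ∈ Vf V (omegaZ q H) t, (s⁻¹ * x * s) • w = w)
    (h2 : ∀ w ∈ Vf V (omegaZ q H) t, (s * x * s⁻¹) • w = w) : x = 1 := by
  have hDn : (omegaZ q H).Normal := omegaZ_normal h
  have hnorm : ∀ g : T, ∀ y ∈ omegaZ q H, g * y * g⁻¹ ∈ omegaZ q H := fun g y hy => hDn.conj_mem y hy g
  have hnorm' : ∀ g : T, ∀ y ∈ omegaZ q H, g⁻¹ * y * g ∈ omegaZ q H := by
    intro g y hy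
    have := hDn.conj_mem y hy g⁻¹
    simpa using this
  apply h.hfaith x hx
  intro v
  have hle : Vf V (omegaZ q H) t ⊔ Vf V (omegaZ q H) (s * t * s⁻¹) ⊔ Vf V (omegaZ q H) (s⁻¹ * t * s)
      ≤ CaseA.fixOf V x := by
    refine sup_le (sup_le ?_ ?_) ?_
    · intro w hw; exact h0 w hw
    · intro w hw
      -- s⁻¹ • w ∈ V₀
      have hw' : s⁻¹ • w ∈ Vf V (omegaZ q H) t := by
        have := smul_mem_Vf_conj (V := V) (g := s⁻¹) (a := s * t * s⁻¹) (D := omegaZ q H)
          (by intro y hy; simpa using hnorm s y hy) hw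
        have e : s⁻¹ * (s * t * s⁻¹) * s⁻¹⁻¹ = t := by group
        rwa [e] at this
      show x • w = w
      have := h1 _ hw'
      calc x • w = s • (s⁻¹ * x * s) • s⁻¹ • w := by
            rw [← mul_smul, ← mul_smul]; congr 1; group
        _ = s • s⁻¹ • w := by rw [this]
        _ = w := smul_inv_smul s w
    · intro w hw
      have hw' : s • w ∈ Vf V (omegaZ q H) t := by
        have := smul_mem_Vf_conj (V := V) (g := s) (a := s⁻¹ * t * s) (D := omegaZ q H)
          (hnorm' s) hw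
        have e : s * (s⁻¹ * t * s) * s⁻¹ = t := by group
        rwa [e] at this
      show x • w = w
      have := h2 _ hw'
      calc x • w = s⁻¹ • (s * x * s⁻¹) • s • w := by
            rw [← mul_smul, ← mul_smul]; congr 1; group
        _ = s⁻¹ • s • w := by rw [this]
        _ = w := inv_smul_smul s w
  exact hle (span_V h hq hqp hH hH1 hfs v)

include h hq hqp hH hH1 hfs in
/-- **(a4)**: `C_H(s) = 1`. -/
theorem cent_s_trivial {x : T} (hx : x ∈ H) (hxs : s * x = x * s) : x = 1 := by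
  have c := caseA_of_crit h hq hqp hH hH1
  have htx := c.t_inverts hx hxs
  have hxx : x * x ∈ H := H.mul_mem hx hx
  -- x² = [t, x⁻¹]
  have e : x * x = t * x⁻¹ * t⁻¹ * (x⁻¹)⁻¹ := by
    have : t * x⁻¹ * t⁻¹ = (t * x * t⁻¹)⁻¹ := by group
    rw [this, htx, inv_inv]
  have h0 : ∀ w ∈ Vf V (omegaZ q H) t, (x * x) • w = w := by
    intro w hw
    rw [e]
    exact comm_t_triv h hq hqp hH hH1 hfs (H.inv_mem hx) hw
  have hsx : s⁻¹ * (x * x) * s = x * x := by
    have : s⁻¹ * x * s = x := by rw [mul_assoc, ← hxs]; group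
    calc s⁻¹ * (x * x) * s = (s⁻¹ * x * s) * (s⁻¹ * x * s) := by group
      _ = x * x := by rw [this]
  have hsx' : s * (x * x) * s⁻¹ = x * x := by
    have : s * x * s⁻¹ = x := by rw [hxs]; group
    calc s * (x * x) * s⁻¹ = (s * x * s⁻¹) * (s * x * s⁻¹) := by group
      _ = x * x := by rw [this]
  have hx2 : x * x = 1 := eq_one_of_fix_Vf h hq hqp hH hH1 hfs hxx h0
    (by rw [hsx]; exact h0) (by rw [hsx']; exact h0)
  obtain ⟨n, hn, hxn⟩ := c.exists_odd_pow hx
  obtain ⟨k, hk⟩ := hn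
  have : x = (x * x) ^ (k + 1) := by
    rw [← pow_two, ← pow_mul]
    have : 2 * (k + 1) = n + 1 := by omega
    rw [this, pow_succ, hxn, one_mul]
  rw [this, hx2, one_pow]

include h hq hqp hH hH1 hfs in
/-- **(a5) + conclusion**. -/
theorem abelian_of_center_cent {x y : T} (hx : x ∈ H) (hy : y ∈ H) : x * y = y * x := by
  have c := caseA_of_crit h hq hqp hH hH1
  have : Fact q.Prime := ⟨hq⟩
  have : Group.IsNilpotent H := hH.isNilpotent
  -- K₀ = C_H(V₀)
  let N : Subgroup T :=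
    { carrier := {g | g ∈ H ∧ ∀ w ∈ Vf V (omegaZ q H) t, g • w = w}
      one_mem' := ⟨H.one_mem, fun w _ => one_smul _ w⟩
      mul_mem' := by
        intro a b ha hb
        refine ⟨H.mul_mem ha.1 hb.1, fun w hw => ?_⟩
        rw [mul_smul, hb.2 w hw, ha.2 w hw]
      inv_mem' := by
        intro a ha
        refine ⟨H.inv_mem ha.1, fun w hw => ?_⟩
        conv_lhs => rw [← ha.2 w hw]
        rw [inv_smul_smul] }
  have hNH : ∀ g ∈ H, ∀ n ∈ N, g * n * g⁻¹ ∈ N := by
    intro g hg n hn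
    refine ⟨H.mul_mem (H.mul_mem hg hn.1) (H.inv_mem hg), fun w hw => ?_⟩
    have hw' : g⁻¹ • w ∈ Vf V (omegaZ q H) t := Vf_smul_mem_of_mem_H h t (H.inv_mem hg) hw
    rw [mul_smul, mul_smul, hn.2 _ hw', smul_inv_smul]
  have hN : ∀ g ∈ H, g⁻¹ * (t * g * t⁻¹) ∈ N := by
    intro g hg
    refine ⟨H.mul_mem (H.inv_mem hg) (h.conj_t_mem hg), fun w hw => ?_⟩
    have hw' : g • w ∈ Vf V (omegaZ q H) t := Vf_smul_mem_of_mem_H h t hg hw
    have e : g⁻¹ * (t * g * t⁻¹) = g⁻¹ * (t * g * t⁻¹ * g⁻¹) * g := by group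
    rw [e, mul_smul, mul_smul, comm_t_triv h hq hqp hH hH1 hfs hg hw', inv_smul_smul]
  have hmain := Cfsg.Agent.Lib.Helper9.S3A5.comm_mem_of_fpf3 H h.hcop s t
    (fun g hg => h.conj_s_mem hg) (fun g hg => h.conj_t_mem hg)
    (by intro g _; rw [h.hs3]; simp) (by intro g _; rw [h.ht2]; simp)
    (by
      intro g _
      have : t * s = s * s * t := by rw [c.hts, c.hsinv]
      rw [this])
    (by
      intro g hg hsg
      apply cent_s_trivial h hq hqp hH hH1 hfs hg
      calc s * g = (s * g * s⁻¹) * s := by group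
        _ = g * s := by rw [hsg])
    N hNH hN
  -- the commutator acts trivially on V
  have hcomm : ⁅x, y⁆ = 1 := by
    have hxy : ⁅x, y⁆ ∈ H := by
      rw [commutatorElement_def]
      exact H.mul_mem (H.mul_mem (H.mul_mem hx hy) (H.inv_mem hx)) (H.inv_mem hy)
    apply eq_one_of_fix_Vf h hq hqp hH hH1 hfs hxy
    · exact (hmain x hx y hy).2
    · have := hmain (s⁻¹ * x * s) (by simpa using h.hHn.conj_mem x hx s⁻¹)
        (s⁻¹ * y * s) (by simpa using h.hHn.conj_mem y hy s⁻¹)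
      have e : s⁻¹ * ⁅x, y⁆ * s = ⁅s⁻¹ * x * s, s⁻¹ * y * s⁆ := by
        simp only [commutatorElement_def]; group
      rw [e]; exact this.2
    · have := hmain (s * x * s⁻¹) (h.conj_s_mem hx) (s * y * s⁻¹) (h.conj_s_mem hy)
      have e : s * ⁅x, y⁆ * s⁻¹ = ⁅s * x * s⁻¹, s * y * s⁻¹⁆ := by
        simp only [commutatorElement_def]; group
      rw [e]; exact this.2
  exact commutatorElement_eq_one_iff_mul_comm.mp hcomm

end main

/-- **Package P-a** (`crit_pgroup_abelian` of the S4305 skeleton): in the critical configuration,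
if `H` is a `q`-group then `H` is abelian. -/
theorem crit_pgroup_abelian (h : Crit V p H s t) {q : ℕ} (hq : q.Prime) (hqp : q ≠ p)
    (hH : IsPGroup q H) : ∀ x ∈ H, ∀ y ∈ H, x * y = y * x := by
  by_cases hH1 : H = ⊥
  · intro x hx y hy
    rw [hH1, Subgroup.mem_bot] at hx hy
    rw [hx, hy]
  have c := caseA_of_crit h hq hqp hH hH1
  by_cases hs0 : ∀ v : V, s • v = v → v = 0
  · exact c.abelian_of_fix_s_zero hs0
  · push Not at hs0
    obtain ⟨v₀, hsv₀, hv₀⟩ := hs0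
    have hfs : ∀ z ∈ H, (∀ y ∈ H, z * y = y * z) → s * z = z * s → z = 1 :=
      fun z hz hzc hzs => c.center_cent_s_trivial hv₀ hsv₀ hz hzc hzs
    intro x hx y hy
    exact abelian_of_center_cent h hq hqp hH hH1 hfs hx hy

end Cfsg.Agent.Lib.Helper9.S3Pa
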