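import Mathlib
import Cfsg.Prelude.Def_CaseTheorems
import Cfsg.Prelude.Def_OddOrderLocal

set_option autoImplicit false

/-! Sectional rank and metacyclic groups: generalities. -/

namespace Cfsg.Agent.H9SM

open Cfsg

/-- `PRankLE` is invariant under isomorphism. -/
theorem pRankLE_of_mulEquiv {p k : ℕ} {X Y : Type*} [Group X] [Group Y] (e : X ≃* Y)
    (h : Cfsg.PRankLE p k X) : Cfsg.PRankLE p k Y := by
  intro A hA hexp
  have hinj : Function.Injective e.symm.toMonoidHom := e.symm.injective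
  have hcard : Nat.card (A.map e.symm.toMonoidHom) = Nat.card A :=
    Subgroup.card_map_of_injective hinj
  rw [← hcard]
  apply h
  · refine ⟨⟨?_⟩⟩
    rintro ⟨x, hx⟩ ⟨y, hy⟩
    obtain ⟨x', hx', rfl⟩ := Subgroup.mem_map.mp hx
    obtain ⟨y', hy', rfl⟩ := Subgroup.mem_map.mp hy
    apply Subtype.ext
    have h1 : (⟨x', hx'⟩ : A) * ⟨y', hy'⟩ = ⟨y', hy'⟩ * ⟨x', hx'⟩ := hA.is_comm.comm _ _
    have h2 : x' * y' = y' * x' := congrArg Subtype.val h1
    change e.symm.toMonoidHom x' * e.symm.toMonoidHom y' = e.symm.toMonoidHom y' * e.symm.toMonoidHom x'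
    rw [← map_mul, ← map_mul, h2]
  · intro a ha
    obtain ⟨a', ha', rfl⟩ := Subgroup.mem_map.mp ha
    rw [← map_pow, hexp a' ha', map_one]

/-- Sectional rank passes to quotients. -/
theorem sectional_quotient {p k : ℕ} {S : Type*} [Group S] (hr : Cfsg.SectionalPRankLE p k S)
    (K : Subgroup S) [K.Normal] : Cfsg.SectionalPRankLE p k (S ⧸ K) := by
  intro Hbar Nbar hN
  have hsurj : Function.Surjective
      ((QuotientGroup.mk' Nbar).comp ((QuotientGroup.mk' K).subgroupComap Hbar)) := by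
    apply Function.Surjective.comp (QuotientGroup.mk'_surjective Nbar)
    exact MonoidHom.subgroupComap_surjective_of_surjective _ _ (QuotientGroup.mk'_surjective K)
  have h1 := hr (Hbar.comap (QuotientGroup.mk' K))
    ((QuotientGroup.mk' Nbar).comp ((QuotientGroup.mk' K).subgroupComap Hbar)).ker
  exact pRankLE_of_mulEquiv (QuotientGroup.quotientKerEquivOfSurjective _ hsurj) h1

/-- in a finite group integer powers are natural powers -/
theorem exists_pow_eq_zpow {S : Type*} [Group S] [Finite S] (g : S) (j : ℤ) :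
    ∃ n : ℕ, g ^ j = g ^ n := by
  have h : g ^ j ∈ Subgroup.zpowers g := Subgroup.zpow_mem_zpowers g j
  rw [← mem_powers_iff_mem_zpowers] at h
  obtain ⟨n, hn⟩ := h
  exact ⟨n, hn.symm⟩

/-- a normal cyclic subgroup modulo which a generating set consists of powers of one element
makes the group metacyclic -/
theorem meta_of_normal_cyclic {S : Type*} [Group S] (g h : S) (hN : (Subgroup.zpowers g).Normal)
    (X : Set S) (hX : Subgroup.closure X = ⊤)
    (hXgh : ∀ x ∈ X, ∃ (j i : ℤ), x = h ^ j * g ^ i) : Cfsg.IsMetacyclic S := by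
  refine ⟨Subgroup.zpowers g, hN, Subgroup.isCyclic_zpowers g, ?_⟩
  refine ⟨⟨QuotientGroup.mk h, ?_⟩⟩
  intro q
  obtain ⟨s, rfl⟩ := QuotientGroup.mk_surjective q
  have hs : s ∈ Subgroup.closure X := by rw [hX]; exact Subgroup.mem_top s
  have hle : Subgroup.closure X ≤
      (Subgroup.zpowers (QuotientGroup.mk h : S ⧸ Subgroup.zpowers g)).comap
        (QuotientGroup.mk' (Subgroup.zpowers g)) := by
    rw [Subgroup.closure_le]
    intro x hx
    obtain ⟨j, i, rfl⟩ := hXgh x hx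
    rw [SetLike.mem_coe, Subgroup.mem_comap, map_mul, map_zpow, map_zpow]
    have h1 : (QuotientGroup.mk' (Subgroup.zpowers g)) g = 1 := by
      rw [QuotientGroup.mk'_apply, QuotientGroup.eq_one_iff]
      exact Subgroup.mem_zpowers g
    rw [h1, one_zpow, mul_one]
    exact Subgroup.zpow_mem_zpowers _ j
  exact hle hs

/-- unique involution in a cyclic group of order `2 ^ e` -/
theorem eq_pow_of_mem_zpowers_of_sq {Q : Type*} [Group Q] {g x : Q} {e : ℕ}
    (hg : orderOf g = 2 ^ e) (he : 1 ≤ e) (hx : x ∈ Subgroup.zpowers g) (hx2 : x ^ 2 = 1)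
    (hx1 : x ≠ 1) : x = g ^ 2 ^ (e - 1) := by
  have hfin : IsOfFinOrder g := by
    rw [← orderOf_pos_iff, hg]; positivity
  rw [← hfin.mem_powers_iff_mem_zpowers] at hx
  obtain ⟨i, hi⟩ := hx
  change g ^ i = x at hi
  subst hi
  have h1 : g ^ (i * 2) = 1 := by rw [pow_mul]; exact hx2
  have h2 : 2 ^ e ∣ i * 2 := by rw [← hg]; exact orderOf_dvd_of_pow_eq_one h1
  obtain ⟨e', rfl⟩ : ∃ e', e = e' + 1 := ⟨e - 1, by omega⟩
  have h3 : 2 ^ e' ∣ i := by
    rw [pow_succ] at h2
    exact Nat.dvd_of_mul_dvd_mul_right (by norm_num) h2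
  obtain ⟨t, rfl⟩ := h3
  have hz2 : (g ^ 2 ^ e') ^ 2 = 1 := by
    rw [← pow_mul, ← pow_succ, ← hg]; exact pow_orderOf_eq_one g
  rw [Nat.add_sub_cancel]
  rw [pow_mul]
  rcases Nat.even_or_odd' t with ⟨s, hs | hs⟩
  · exfalso; apply hx1
    rw [pow_mul, hs, pow_mul, hz2, one_pow]
  · rw [hs, pow_add, pow_mul, hz2, one_pow, one_mul, pow_one]

end Cfsg.Agent.H9SM
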