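import Mathlib
import Cfsg.Prelude
import Cfsg.Agent.Lib.Helper9.SpecialRankOne1

set_option autoImplicit false

/-!
# Special rank one groups with abelian unipotent subgroups: `χ(a ^ m) ^ m = χ(a)`
-/

namespace Cfsg.Agent.H9SR

open Cfsg.Agent.Lib.Helper8

variable {G : Type*} [Group G] {A B : Subgroup G}

/-- no power of `a` with exponent built from primes `≤ m` is trivial -/
def Smooth (m : ℕ) (a : G) : Prop :=
  ∀ j : ℕ, 0 < j → (∀ q : ℕ, q.Prime → q ∣ j → q ≤ m) → a ^ j ≠ 1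

theorem Smooth.mono {m m' : ℕ} {a : G} (hq : Smooth m a) (h : m' ≤ m) : Smooth m' a :=
  fun j hj hpr => hq j hj (fun q hqp hqd => (hpr q hqp hqd).trans h)

theorem Smooth.pow {m : ℕ} {a : G} (hq : Smooth m a) (hm : 0 < m) : Smooth m (a ^ m) := by
  intro j hj hpr
  rw [← pow_mul]
  apply hq (m * j) (Nat.mul_pos hm hj)
  intro q hqp hqd
  rcases (Nat.Prime.dvd_mul hqp).mp hqd with h1 | h1
  · exact Nat.le_of_dvd hm h1
  · exact hpr q hqp h1

theorem Smooth.pow_ne_one {m j : ℕ} {a : G} (hq : Smooth m a) (hj : 0 < j) (hjm : j ≤ m) :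
    a ^ j ≠ 1 :=
  hq j hj (fun q _ hqd => (Nat.le_of_dvd hj hqd).trans hjm)

namespace SpecAb

variable (S : SpecAb A B)
include S

theorem raA_injective {b b' : G} (hb : b ∈ B) (hb' : b' ∈ B) (h : ra A b = ra A b') : b = b' := by
  have := rankOnePair_conjBy_right_injective (Cfsg.RankOnePair_symm S.pair)
    (B.inv_mem hb) (B.inv_mem hb') h
  exact inv_injective this

/-- the recursion step -/
theorem chi_step {a b b' bm bN : G} {m : ℕ} (hm : 1 ≤ m) (h : Chi A B a b)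
    (h' : Chi A B (a ^ m) b') (hpow : b' ^ m = b) (hm' : Chi A B (a ^ (m + 1)) bm)
    (hN : Chi A B (a ^ ((m + 1) * m)) bN) : bm = bN⁻¹ * b' := by
  apply S.raA_injective hm'.2.2.1 (B.mul_mem (B.inv_mem hN.2.2.1) h'.2.2.1)
  have e1 : a ^ (m + 1) = a * a ^ m := pow_succ' a m
  have e2 : ((a ^ m) ^ (m + 1))⁻¹ = (a ^ ((m + 1) * m))⁻¹ := by
    rw [← pow_mul, mul_comm]
  calc ra A bm = ra B (a ^ (m + 1)) := hm'.2.2.2.2
    _ = ra (ra B a) (a ^ m) := by rw [e1, ra_ra]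
    _ = ra A (b' ^ m * a ^ m) := by rw [← h.2.2.2.2, ra_ra, hpow]
    _ = ra B (((a ^ m) ^ (m + 1))⁻¹ * b') := S.ra_pow_mul h' m
    _ = ra (ra B (a ^ ((m + 1) * m))⁻¹) b' := by rw [e2, ra_ra]
    _ = ra A (bN⁻¹ * b') := by rw [← (S.chi_inv hN).2.2.2.2, ra_ra]

/-- `χ(a ^ m) ^ m = χ(a)` -/
theorem chi_pow : ∀ m : ℕ, 1 ≤ m → ∀ a b bm : G, Smooth m a → Chi A B a b →
    Chi A B (a ^ m) bm → bm ^ m = b := by
  intro m
  induction m with
  | zero => intro h; omega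
  | succ k ih =>
    intro _ a b bm hQ h hm
    by_cases hk : k = 0
    · subst hk
      rw [zero_add, pow_one] at hm ⊢
      exact S.chi_unique hm h
    have hk1 : 1 ≤ k := Nat.one_le_iff_ne_zero.mpr hk
    have hQk : Smooth k a := hQ.mono (Nat.le_succ k)
    have hak : a ^ k ≠ 1 := hQ.pow_ne_one hk1 (Nat.le_succ k)
    obtain ⟨b', hb'⟩ := S.exists_chi (A.pow_mem h.1 k) hak
    have hpow : b' ^ k = b := ih hk1 a b b' hQk h hb'
    have haN : a ^ ((k + 1) * k) ≠ 1 := by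
      apply hQ _ (Nat.mul_pos (Nat.succ_pos k) hk1)
      intro q hqp hqd
      rcases (Nat.Prime.dvd_mul hqp).mp hqd with h1 | h1
      · exact Nat.le_of_dvd (Nat.succ_pos k) h1
      · exact (Nat.le_of_dvd hk1 h1).trans (Nat.le_succ k)
    obtain ⟨bN, hbN⟩ := S.exists_chi (A.pow_mem h.1 _) haN
    have step := S.chi_step hk1 h hb' hpow hm hbN
    have hQ' : Smooth k (a ^ (k + 1)) := (hQ.pow (Nat.succ_pos k)).mono (Nat.le_succ k)
    have hbNk : bN ^ k = bm := by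
      apply ih hk1 (a ^ (k + 1)) bm bN hQ' hm
      rw [← pow_mul]
      exact hbN
    have hbN1 : bN ^ (k + 1) = b' := by
      rw [pow_succ', hbNk, step, mul_inv_cancel_left]
    calc bm ^ (k + 1) = (bN ^ (k + 1)) ^ k := by rw [← hbNk, ← pow_mul, ← pow_mul, mul_comm]
      _ = b := by rw [hbN1, hpow]

end SpecAb

end Cfsg.Agent.H9SR
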