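import Mathlib
import Cfsg.Prelude.Def_CaseTheorems
import Cfsg.Agent.Lib.Helper8.TetDefs
import Cfsg.Agent.Lib.Helper5.TetBasic

/-!
# S2928 swarm, package P4 = TetE8a: the 14 planes of the e8 configuration, closedness.
Paper proof: notes/S2928_paper_helper8.md, section P4+P5 (a), (b), (c).
-/

set_option autoImplicit false

namespace Cfsg.Agent.Lib.Helper8.Tet

open Equiv Equiv.Perm Subgroup

variable {Ω : Type*} [Fintype Ω] [DecidableEq Ω]

namespace E8a

/-- one application of (T4) inside the image of `Fin 8`. -/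
theorem tet_image_symmDiff (H : Subgroup (Perm Ω)) (x : Fin 8 → Ω) (hx : Function.Injective x)
    {A B : Finset (Fin 8)} (C : Finset (Fin 8)) (hA : IsTet H (A.image x))
    (hB : IsTet H (B.image x)) (hc : (A ∩ B).card = 2) (hC : symmDiff A B = C) :
    IsTet H (C.image x) := by
  have h1 : (A.image x ∩ B.image x).card = 2 := by
    rw [← Finset.image_inter _ _ hx, Finset.card_image_of_injective _ hx, hc]
  have h2 := IsTet.symmDiff hA hB h1
  rw [← Finset.image_symmDiff _ _ hx, hC] at h2
  exact h2

set_option maxRecDepth 100000 in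
theorem planes_card : ∀ T ∈ planes, T.card = 4 := by decide

set_option maxRecDepth 100000 in
theorem exists_plane_mem : ∀ i k : Fin 8, ∃ T ∈ planes, i ∈ T ∧ k ∈ T := by decide

end E8a

open E8a

/-- all 14 planes are tetrads. -/
theorem planes_isTet (H : Subgroup (Perm Ω)) (x : Fin 8 → Ω) (hx : Function.Injective x)
    (h0123 : IsTet H {x 0, x 1, x 2, x 3}) (h4567 : IsTet H {x 4, x 5, x 6, x 7})
    (h0145 : IsTet H {x 0, x 1, x 4, x 5}) (h0246 : IsTet H {x 0, x 2, x 4, x 6}) :
    ∀ T ∈ planes, IsTet H (T.image x) := by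
  have e0123 : IsTet H (({0, 1, 2, 3} : Finset (Fin 8)).image x) := by
    simpa [Finset.image_insert] using h0123
  have e4567 : IsTet H (({4, 5, 6, 7} : Finset (Fin 8)).image x) := by
    simpa [Finset.image_insert] using h4567
  have e0145 : IsTet H (({0, 1, 4, 5} : Finset (Fin 8)).image x) := by
    simpa [Finset.image_insert] using h0145
  have e0246 : IsTet H (({0, 2, 4, 6} : Finset (Fin 8)).image x) := by
    simpa [Finset.image_insert] using h0246
  have e2345 := tet_image_symmDiff H x hx ({2, 3, 4, 5} : Finset (Fin 8)) e0123 e0145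
    (by decide) (by decide)
  have e2367 := tet_image_symmDiff H x hx ({2, 3, 6, 7} : Finset (Fin 8)) e2345 e4567
    (by decide) (by decide)
  have e0167 := tet_image_symmDiff H x hx ({0, 1, 6, 7} : Finset (Fin 8)) e0145 e4567
    (by decide) (by decide)
  have e1346 := tet_image_symmDiff H x hx ({1, 3, 4, 6} : Finset (Fin 8)) e0123 e0246
    (by decide) (by decide)
  have e1357 := tet_image_symmDiff H x hx ({1, 3, 5, 7} : Finset (Fin 8)) e1346 e4567
    (by decide) (by decide)
  have e0257 := tet_image_symmDiff H x hx ({0, 2, 5, 7} : Finset (Fin 8)) e0246 e4567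
    (by decide) (by decide)
  have e1256 := tet_image_symmDiff H x hx ({1, 2, 5, 6} : Finset (Fin 8)) e0145 e0246
    (by decide) (by decide)
  have e0356 := tet_image_symmDiff H x hx ({0, 3, 5, 6} : Finset (Fin 8)) e1256 e0123
    (by decide) (by decide)
  have e1247 := tet_image_symmDiff H x hx ({1, 2, 4, 7} : Finset (Fin 8)) e1256 e4567
    (by decide) (by decide)
  have e0347 := tet_image_symmDiff H x hx ({0, 3, 4, 7} : Finset (Fin 8)) e0356 e4567
    (by decide) (by decide)
  intro T hT
  simp only [planes, Finset.mem_insert, Finset.mem_singleton] at hT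
  rcases hT with rfl | rfl | rfl | rfl | rfl | rfl | rfl | rfl | rfl | rfl | rfl | rfl | rfl | rfl
  · exact e0123
  · exact e4567
  · exact e0145
  · exact e2367
  · exact e0246
  · exact e1357
  · exact e0167
  · exact e2345
  · exact e0257
  · exact e1346
  · exact e0347
  · exact e1256
  · exact e0356
  · exact e1247

set_option maxRecDepth 100000 in
/-- the combinatorial heart of closedness (by `decide` or by hand). -/
theorem mem_planes_of_even : ∀ Y : Finset (Fin 8), Y.Nonempty → Y.card ≤ 4 →
    (∀ T ∈ planes, (Y ∩ T).card = 0 ∨ (Y ∩ T).card = 2 ∨ (Y ∩ T).card = 4) → Y ∈ planes := by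
  decide

/-- closedness: a tetrad meeting the 8-set is one of the 14 planes. -/
theorem closed_e8 (H : Subgroup (Perm Ω)) (h3 : NoThree H) (x : Fin 8 → Ω)
    (hx : Function.Injective x) (hpl : ∀ T ∈ planes, IsTet H (T.image x))
    {R : Finset Ω} (hR : IsTet H R) (hmeet : ∃ i, x i ∈ R) : ∃ T ∈ planes, R = T.image x := by
  classical
  obtain ⟨i, hi⟩ := hmeet
  set Y : Finset (Fin 8) := Finset.univ.filter (fun j => x j ∈ R) with hY
  have hYR : Y.image x ⊆ R := by
    intro y hy
    rw [Finset.mem_image] at hy
    obtain ⟨j, hj, rfl⟩ := hy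
    rw [hY, Finset.mem_filter] at hj
    exact hj.2
  have hYne : Y.Nonempty := ⟨i, by rw [hY, Finset.mem_filter]; exact ⟨Finset.mem_univ _, hi⟩⟩
  have hYcard : Y.card ≤ 4 := by
    rw [← Finset.card_image_of_injective _ hx, ← hR.1]
    exact Finset.card_le_card hYR
  have hinter : ∀ T : Finset (Fin 8), R ∩ T.image x = (Y ∩ T).image x := by
    intro T
    ext y
    simp only [Finset.mem_inter, Finset.mem_image]
    constructor
    · rintro ⟨hyR, j, hjT, rfl⟩
      refine ⟨j, ⟨?_, hjT⟩, rfl⟩
      rw [hY, Finset.mem_filter]; exact ⟨Finset.mem_univ _, hyR⟩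
    · rintro ⟨j, ⟨hjY, hjT⟩, rfl⟩
      rw [hY, Finset.mem_filter] at hjY
      exact ⟨hjY.2, j, hjT, rfl⟩
  have hYpl : Y ∈ planes := by
    apply mem_planes_of_even Y hYne hYcard
    intro T hT
    have h1 := inter_card_of_noThree h3 hR (hpl T hT)
    have h2 : (R ∩ T.image x).card = (Y ∩ T).card := by
      rw [hinter T, Finset.card_image_of_injective _ hx]
    rcases h1 with h1 | h1 | h1
    · left; rw [← h2, h1]
    · right; left; rw [← h2, h1]
    · right; right
      rw [← h2, ← h1, Finset.inter_self, hR.1]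
  refine ⟨Y, hYpl, ?_⟩
  symm
  apply Finset.eq_of_subset_of_card_le hYR
  rw [hR.1, (hpl Y hYpl).1]

/-- an element of `H` mapping one point of the 8-set into the 8-set induces an automorphism
of the plane system. -/
theorem exists_aut_e8 (H : Subgroup (Perm Ω)) (h3 : NoThree H) (x : Fin 8 → Ω)
    (hx : Function.Injective x) (hpl : ∀ T ∈ planes, IsTet H (T.image x))
    {h : Perm Ω} (hh : h ∈ H) (hmeet : ∃ i j, h (x i) = x j) :
    ∃ σ : Perm (Fin 8), (∀ i, h (x i) = x (σ i)) ∧ ∀ T ∈ planes, T.image σ ∈ planes := by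
  classical
  obtain ⟨i, j, hij⟩ := hmeet
  -- the image of a plane containing `i` is a plane
  have key : ∀ T ∈ planes, (∃ k ∈ T, ∃ l, h (x k) = x l) →
      ∃ T' ∈ planes, (T.image x).image h = T'.image x := by
    intro T hT ⟨k, hkT, l, hkl⟩
    have h1 : IsTet H ((T.image x).image h) := IsTet.image (hpl T hT) hh
    apply closed_e8 H h3 x hx hpl h1
    refine ⟨l, ?_⟩
    rw [← hkl]
    exact Finset.mem_image_of_mem _ (Finset.mem_image_of_mem _ hkT)
  have hall : ∀ k : Fin 8, ∃ l, h (x k) = x l := by
    intro k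
    obtain ⟨T, hT, hiT, hkT⟩ := exists_plane_mem i k
    obtain ⟨T', hT', hTT'⟩ := key T hT ⟨i, hiT, j, hij⟩
    have : h (x k) ∈ T'.image x := by
      rw [← hTT']
      exact Finset.mem_image_of_mem _ (Finset.mem_image_of_mem _ hkT)
    rw [Finset.mem_image] at this
    obtain ⟨l, _, hl⟩ := this
    exact ⟨l, hl.symm⟩
  choose s hs using hall
  have hsinj : Function.Injective s := by
    intro k k' hkk
    apply hx
    apply h.injective
    rw [hs k, hs k', hkk]
  refine ⟨Equiv.ofBijective s (Finite.injective_iff_bijective.mp hsinj), ?_, ?_⟩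
  · intro k
    simp only [Equiv.ofBijective_apply]
    exact hs k
  · intro T hT
    have hTne : ∃ k, k ∈ T := by
      have := planes_card T hT
      exact Finset.card_pos.mp (by omega)
    obtain ⟨k, hkT⟩ := hTne
    obtain ⟨T', hT', hTT'⟩ := key T hT ⟨k, hkT, s k, hs k⟩
    have h2 : (T.image x).image h = (T.image s).image x := by
      rw [Finset.image_image, Finset.image_image]
      apply Finset.image_congr
      intro k _
      simp only [Function.comp_apply]
      exact hs k
    have h3' : T.image s = T' := by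
      apply Finset.image_injective hx
      rw [← h2, hTT']
    have : T.image (Equiv.ofBijective s (Finite.injective_iff_bijective.mp hsinj)) = T.image s := by
      apply Finset.image_congr
      intro k _
      simp
    rw [this, h3']
    exact hT'

end Cfsg.Agent.Lib.Helper8.Tet
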