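import Mathlib

set_option autoImplicit false

/-!
# `p`-groups with an abelian subgroup of index `p`: elementary facts

`S` is a subgroup of `Ω`, a finite nonabelian `p`-group, and `A ≤ S` is abelian of index `p` in `S`.
-/

namespace Cfsg.Agent.Lib.Helper9.H9AbIdx

variable {Ω : Type*} [Group Ω]

/-- the centre of `S`, as a subgroup of `Ω` -/
def ZS (S : Subgroup Ω) : Subgroup Ω := S ⊓ Subgroup.centralizer (S : Set Ω)

theorem mem_ZS_iff {S : Subgroup Ω} {z : Ω} : z ∈ ZS S ↔ z ∈ S ∧ ∀ s ∈ S, s * z = z * s := by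
  unfold ZS
  rw [Subgroup.mem_inf, Subgroup.mem_centralizer_iff]
  exact Iff.rfl

theorem ZS_le (S : Subgroup Ω) : ZS S ≤ S := inf_le_left

/-- the second centre of `S`, as a subgroup of `Ω` -/
def Z2 (S : Subgroup Ω) : Subgroup Ω := (upperCentralSeries ↥S 2).map S.subtype

theorem mem_Z2_iff {S : Subgroup Ω} {g : Ω} :
    g ∈ Z2 S ↔ g ∈ S ∧ ∀ s ∈ S, g * s * g⁻¹ * s⁻¹ ∈ ZS S := by
  unfold Z2
  constructor
  · rintro ⟨g', hg', rfl⟩
    refine ⟨g'.2, fun s hs => ?_⟩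
    have h1 : g' ∈ Subgroup.upperCentralSeries ↥S (1 + 1) := hg'
    rw [mem_upperCentralSeries_succ_iff] at h1
    have h2 := h1 ⟨s, hs⟩
    rw [upperCentralSeries_one, Subgroup.mem_center_iff] at h2
    rw [mem_ZS_iff]
    refine ⟨?_, fun t ht => ?_⟩
    · exact S.mul_mem (S.mul_mem (S.mul_mem g'.2 hs) (S.inv_mem g'.2)) (S.inv_mem hs)
    · have h3 := h2 ⟨t, ht⟩
      have h4 := congrArg (fun z : ↥S => (z : Ω)) h3
      simpa [commutatorElement_def] using h4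
  · rintro ⟨hg, h⟩
    refine ⟨⟨g, hg⟩, ?_, rfl⟩
    show (⟨g, hg⟩ : ↥S) ∈ Subgroup.upperCentralSeries ↥S (1 + 1)
    rw [mem_upperCentralSeries_succ_iff]
    intro y
    rw [upperCentralSeries_one, Subgroup.mem_center_iff]
    intro t
    have h1 := ((mem_ZS_iff).mp (h y y.2)).2 t t.2
    apply Subtype.ext
    simpa [commutatorElement_def] using h1

theorem Z2_le (S : Subgroup Ω) : Z2 S ≤ S := fun _ hg => (mem_Z2_iff.mp hg).1

theorem ZS_le_Z2 (S : Subgroup Ω) : ZS S ≤ Z2 S := by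
  intro z hz
  rw [mem_Z2_iff]
  obtain ⟨hzS, hz2⟩ := mem_ZS_iff.mp hz
  refine ⟨hzS, fun s hs => ?_⟩
  have : z * s * z⁻¹ * s⁻¹ = 1 := by
    rw [← hz2 s hs]; group
  rw [this]
  exact Subgroup.one_mem _

/-- a subgroup of prime relative index is maximal -/
theorem sup_zpowers_of_prime_relIndex {p : ℕ} [hp : Fact p.Prime] {S A : Subgroup Ω} (hAS : A ≤ S)
    (hidx : A.relIndex S = p) {x : Ω} (hx : x ∈ S) (hxA : x ∉ A) : A ⊔ Subgroup.zpowers x = S := by
  have hle : A ⊔ Subgroup.zpowers x ≤ S := sup_le hAS (by rw [Subgroup.zpowers_le]; exact hx)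
  have h1 := Subgroup.relIndex_mul_relIndex A (A ⊔ Subgroup.zpowers x) S le_sup_left hle
  rw [hidx] at h1
  have h2 : A.relIndex (A ⊔ Subgroup.zpowers x) ∣ p := Dvd.intro _ h1
  rcases (Nat.dvd_prime hp.out).mp h2 with h3 | h3
  · exfalso
    apply hxA
    have := Subgroup.relIndex_eq_one.mp h3
    exact this (Subgroup.mem_sup_right (Subgroup.mem_zpowers x))
  · rw [h3] at h1
    have h4 : (A ⊔ Subgroup.zpowers x).relIndex S = 1 := by
      have hp0 : 0 < p := hp.out.pos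
      exact Nat.eq_of_mul_eq_mul_left hp0 (by rw [h1, mul_one])
    exact le_antisymm hle (Subgroup.relIndex_eq_one.mp h4)

/-- a divisor of a power of `p` that is neither `1` nor larger than `p` is `p` -/
theorem eq_of_dvd_pow_of_le {p : ℕ} [hp : Fact p.Prime] {n k : ℕ} (hdvd : n ∣ p ^ k) (h1 : n ≠ 1)
    (hle : n ≤ p) : n = p := by
  obtain ⟨j, -, rfl⟩ := (Nat.dvd_prime_pow hp.out).mp hdvd
  rcases j with _ | _ | j
  · exact absurd (pow_zero p) h1
  · exact pow_one p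
  · exfalso
    have h2 : p ^ 2 ≤ p ^ (j + 1 + 1) := Nat.pow_le_pow_right hp.out.pos (by omega)
    have h3 : p < p ^ 2 := by
      have := hp.out.one_lt
      nlinarith
    omega

/-- the standing assumptions -/
structure Ctx (p : ℕ) (S A : Subgroup Ω) : Prop where
  hS : IsPGroup p S
  hAS : A ≤ S
  hcomm : ∀ a ∈ A, ∀ b ∈ A, a * b = b * a
  hidx : A.relIndex S = p
  hna : ∃ s ∈ S, ∃ t ∈ S, s * t ≠ t * s

namespace Ctx

variable {p : ℕ} [hp : Fact p.Prime] {S A : Subgroup Ω}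

theorem sup_zpowers (C : Ctx p S A) {x : Ω} (hx : x ∈ S) (hxA : x ∉ A) :
    A ⊔ Subgroup.zpowers x = S :=
  sup_zpowers_of_prime_relIndex C.hAS C.hidx hx hxA

theorem normal_subgroupOf [Finite S] (C : Ctx p S A) : (A.subgroupOf S).Normal := by
  obtain ⟨n, hn⟩ := IsPGroup.iff_card.mp C.hS
  have hdvd : p ∣ Nat.card S := by
    have := Subgroup.relIndex_dvd_card A S
    rw [C.hidx] at this; exact this
  have hn0 : n ≠ 0 := by
    rintro rfl
    rw [pow_zero] at hn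
    rw [hn] at hdvd
    exact hp.out.one_lt.ne' (Nat.dvd_one.mp hdvd)
  apply Subgroup.normal_of_index_eq_minFac_card
  rw [hn, Nat.Prime.pow_minFac hp.out hn0]
  exact C.hidx

theorem normal [Finite S] (C : Ctx p S A) {s a : Ω} (hs : s ∈ S) (ha : a ∈ A) :
    s * a * s⁻¹ ∈ A := by
  have hN := C.normal_subgroupOf
  have := hN.conj_mem ⟨a, C.hAS ha⟩ (by rw [Subgroup.mem_subgroupOf]; exact ha) ⟨s, hs⟩
  rw [Subgroup.mem_subgroupOf] at this
  exact this

theorem normal' [Finite S] (C : Ctx p S A) {s a : Ω} (hs : s ∈ S) (ha : a ∈ A) :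
    s⁻¹ * a * s ∈ A := by
  have := C.normal (S.inv_mem hs) ha
  rwa [inv_inv] at this

theorem pow_mem [Finite S] (C : Ctx p S A) {s : Ω} (hs : s ∈ S) : s ^ p ∈ A := by
  haveI := C.normal_subgroupOf
  have h1 := Subgroup.pow_index_mem (A.subgroupOf S) ⟨s, hs⟩
  have h2 : (A.subgroupOf S).index = p := C.hidx
  rw [h2, Subgroup.mem_subgroupOf] at h1
  exact h1

theorem zpowers_le_normalizer [Finite S] (C : Ctx p S A) {x : Ω} (hx : x ∈ S) :
    Subgroup.zpowers x ≤ Subgroup.normalizer (A : Set Ω) := by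
  rw [Subgroup.zpowers_le, Subgroup.mem_normalizer_iff]
  intro h
  constructor
  · intro hh
    exact C.normal hx hh
  · intro hh
    have := C.normal' hx hh
    have h2 : x⁻¹ * (x * h * x⁻¹) * x = h := by group
    rwa [h2] at this

/-- every element of `S` is `x ^ k * a` with `a ∈ A`, for any fixed `x ∈ S ∖ A` -/
theorem exists_decomp [Finite S] (C : Ctx p S A) {x : Ω} (hx : x ∈ S) (hxA : x ∉ A) {s : Ω}
    (hs : s ∈ S) : ∃ k : ℤ, ∃ a ∈ A, s = x ^ k * a := by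
  have h1 := Subgroup.coe_mul_of_left_le_normalizer_right (Subgroup.zpowers x) A
    (C.zpowers_le_normalizer hx)
  have h2 : s ∈ ((Subgroup.zpowers x ⊔ A : Subgroup Ω) : Set Ω) := by
    rw [sup_comm, C.sup_zpowers hx hxA]
    exact hs
  rw [h1, Set.mem_mul] at h2
  obtain ⟨y, hy, a, ha, rfl⟩ := h2
  obtain ⟨k, rfl⟩ := Subgroup.mem_zpowers_iff.mp hy
  exact ⟨k, a, ha, rfl⟩

/-- four pairwise commuting elements -/
theorem comm_four {u v a b : Ω} (huv : Commute u v) (hab : Commute a b) (_hua : Commute u a)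
    (hub : Commute u b) (hva : Commute v a) (_hvb : Commute v b) :
    (u * a) * (v * b) = (v * b) * (u * a) := by
  have h : Commute (u * a) (v * b) :=
    Commute.mul_left (Commute.mul_right huv hub) (Commute.mul_right hva.symm hab)
  exact h

/-- `C_S(A) = A` -/
theorem mem_of_centralizes [Finite S] (C : Ctx p S A) {c : Ω} (hc : c ∈ S)
    (h : ∀ a ∈ A, c * a = a * c) : c ∈ A := by
  by_contra hcA
  obtain ⟨s, hs, t, ht, hst⟩ := C.hna
  apply hst
  obtain ⟨k, a, ha, rfl⟩ := C.exists_decomp hc hcA hs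
  obtain ⟨l, b, hb, rfl⟩ := C.exists_decomp hc hcA ht
  have hca : Commute c a := h a ha
  have hcb : Commute c b := h b hb
  exact comm_four ((Commute.refl c).zpow_zpow k l) (C.hcomm a ha b hb) (hca.zpow_left k)
    (hcb.zpow_left k) (hca.zpow_left l) (hcb.zpow_left l)

theorem ZS_le_A [Finite S] (C : Ctx p S A) : ZS S ≤ A := by
  intro z hz
  obtain ⟨hzS, hz2⟩ := mem_ZS_iff.mp hz
  exact C.mem_of_centralizes hzS (fun a ha => (hz2 a (C.hAS ha)).symm)

/-- `C_A(x) = Z(S)` for `x ∈ S ∖ A` -/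
theorem mem_ZS_of_comm [Finite S] (C : Ctx p S A) {x : Ω} (hx : x ∈ S) (hxA : x ∉ A) {a : Ω}
    (ha : a ∈ A) (hax : a * x = x * a) : a ∈ ZS S := by
  rw [mem_ZS_iff]
  refine ⟨C.hAS ha, fun s hs => ?_⟩
  obtain ⟨k, b, hb, rfl⟩ := C.exists_decomp hx hxA hs
  have h1 : Commute (x ^ k) a := (Commute.zpow_left (hax.symm : Commute x a) k)
  have h2 : Commute b a := C.hcomm b hb a ha
  exact (Commute.mul_left h1 h2)

/-- `C_S(x) = Z(S)⟨x⟩` for `x ∈ S ∖ A` -/
theorem mem_sup_of_comm [Finite S] (C : Ctx p S A) {x : Ω} (hx : x ∈ S) (hxA : x ∉ A) {s : Ω}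
    (hs : s ∈ S) (hsx : s * x = x * s) : s ∈ ZS S ⊔ Subgroup.zpowers x := by
  obtain ⟨k, a, ha, rfl⟩ := C.exists_decomp hx hxA hs
  have h1 : Commute (x ^ k * a) x := hsx
  have h2 : Commute (x ^ k) x := (Commute.refl x).zpow_left k
  have h3 : Commute a x := by
    have h4 : a = (x ^ k)⁻¹ * (x ^ k * a) := by group
    rw [h4]
    exact Commute.mul_left h2.inv_left h1
  have h5 := C.mem_ZS_of_comm hx hxA ha h3
  exact Subgroup.mul_mem _ (Subgroup.mem_sup_right (Subgroup.zpow_mem _ (Subgroup.mem_zpowers x) k))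
    (Subgroup.mem_sup_left h5)

/-- an element of `A` whose commutator with some `x ∈ S ∖ A` is central lies in `Z₂(S)` -/
theorem mem_Z2_of_comm [Finite S] (C : Ctx p S A) {x : Ω} (hx : x ∈ S) (hxA : x ∉ A) {a : Ω}
    (ha : a ∈ A) (hax : a * x * a⁻¹ * x⁻¹ ∈ ZS S) : a ∈ Z2 S := by
  rw [mem_Z2_iff]
  refine ⟨C.hAS ha, fun s hs => ?_⟩
  obtain ⟨k, b, hb, rfl⟩ := C.exists_decomp hx hxA hs
  obtain ⟨z, hzdef⟩ : ∃ z : Ω, z = a * x * a⁻¹ * x⁻¹ := ⟨_, rfl⟩
  rw [← hzdef] at hax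
  have hzx : Commute z x := ((mem_ZS_iff.mp hax).2 x hx).symm
  have hz : a * x * a⁻¹ = z * x := by rw [hzdef]; group
  have h1 : a * x ^ k * a⁻¹ = z ^ k * x ^ k := by
    rw [← conj_zpow, hz, hzx.mul_zpow]
  have h2 : b * a⁻¹ * b⁻¹ = a⁻¹ := by
    rw [C.hcomm b hb a⁻¹ (A.inv_mem ha)]; group
  have h3 : a * (x ^ k * b) * a⁻¹ * (x ^ k * b)⁻¹ = z ^ k := by
    generalize hu : x ^ k = u at h1
    calc a * (u * b) * a⁻¹ * (u * b)⁻¹ = a * u * (b * a⁻¹ * b⁻¹) * u⁻¹ := by group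
      _ = a * u * a⁻¹ * u⁻¹ := by rw [h2]
      _ = z ^ k := by rw [h1]; group
  rw [h3]
  exact Subgroup.zpow_mem _ hax k

/-- if `Z₂(S)` is not inside `A` then `A ≤ Z₂(S)` -/
theorem le_Z2_of_not_le [Finite S] (C : Ctx p S A) {w : Ω} (hw : w ∈ Z2 S) (hwA : w ∉ A) :
    A ≤ Z2 S := by
  intro a ha
  obtain ⟨hwS, hw2⟩ := mem_Z2_iff.mp hw
  apply C.mem_Z2_of_comm hwS hwA ha
  have h1 := (ZS S).inv_mem (hw2 a (C.hAS ha))
  have h2 : (w * a * w⁻¹ * a⁻¹)⁻¹ = a * w * a⁻¹ * w⁻¹ := by group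
  rwa [h2] at h1

/-- elements of `Z₂(S)` normalize every subgroup containing `Z(S)` -/
theorem conj_mem_of_mem_Z2 (S : Subgroup Ω) {P : Subgroup Ω} (hPS : P ≤ S) (hZP : ZS S ≤ P) {b : Ω}
    (hb : b ∈ Z2 S) {g : Ω} (hg : g ∈ P) : b * g * b⁻¹ ∈ P := by
  have h1 := hZP ((mem_Z2_iff.mp hb).2 g (hPS hg))
  have h2 : b * g * b⁻¹ = (b * g * b⁻¹ * g⁻¹) * g := by group
  rw [h2]
  exact P.mul_mem h1 hg

end Ctx

end Cfsg.Agent.Lib.Helper9.H9AbIdx
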