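import Mathlib
import Cfsg.Prelude
import Cfsg.Agent.Lib.Helper9.ChainStab2
import Cfsg.Agent.Lib.Helper8.AutFrattini

set_option autoImplicit false

/-!
# Characteristic chains above the Frattini subgroup
-/

namespace Cfsg.Agent.H9CS

open Cfsg Cfsg.Agent.Lib.Helper9

variable {H : Type*} [Group H]

/-- an endomorphism fixing `k` and sending `h` to `h * k` -/
theorem iterate_of_triv {G : Type*} [Group G] (f : G →* G) (h k : G) (hk : f h = h * k)
    (hfk : f k = k) (j : ℕ) : (f^[j]) h = h * k ^ j := by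
  induction j with
  | zero => rw [Function.iterate_zero, id_eq, pow_zero, mul_one]
  | succ j ih =>
    rw [Function.iterate_succ_apply', ih, map_mul, map_pow, hk, hfk, mul_assoc, ← pow_succ']

/-- powers of elements of the stability group are trivial modulo the bottom term -/
theorem stab_pow_trivMod [Finite H] (A : Subgroup (MulAut H)) (K : ℕ → Subgroup H)
    (hchar : ∀ (i : ℕ) (α : MulAut H), ∀ h ∈ K i, α h ∈ K i) (α : A) (hα : α ∈ stab A K hchar) :
    ∀ i : ℕ, ∀ h ∈ K i, h⁻¹ * ((α : MulAut H) ^ ((Nat.card H) ^ i)) h ∈ K 0 := by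
  haveI hn0 : (K 0).Normal := by
    constructor
    intro x hx g
    exact hchar 0 (MulAut.conj g) x hx
  intro i
  induction i with
  | zero =>
    intro h hh
    rw [pow_zero, pow_one]
    exact Subgroup.mul_mem _ (Subgroup.inv_mem _ hh) (hchar 0 _ h hh)
  | succ i ih =>
    intro h hh
    obtain ⟨β, hβ⟩ : ∃ β : A, β = α ^ ((Nat.card H) ^ i) := ⟨_, rfl⟩
    have hβs : β ∈ stab A K hchar := by rw [hβ]; exact Subgroup.pow_mem _ hα _
    have hβc : (β : MulAut H) = (α : MulAut H) ^ ((Nat.card H) ^ i) := by rw [hβ]; rfl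
    obtain ⟨k, hk⟩ : ∃ k : H, k = h⁻¹ * (β : MulAut H) h := ⟨_, rfl⟩
    have hkK : k ∈ K i := by rw [hk]; exact hβs i h hh
    have hkk : k⁻¹ * (β : MulAut H) k ∈ K 0 := by
      rw [hβc]
      exact ih k hkK
    have hN : ∀ x ∈ K 0, (β : MulAut H) x ∈ K 0 := hchar 0 _
    obtain ⟨f, hf⟩ : ∃ f : H ⧸ K 0 →* H ⧸ K 0,
      f = QuotientGroup.map (K 0) (K 0) (β : MulAut H).toMonoidHom hN := ⟨_, rfl⟩
    have hfmk : ∀ x : H, f (QuotientGroup.mk x) = QuotientGroup.mk ((β : MulAut H) x) := by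
      intro x
      rw [hf]
      rfl
    have hiter : ∀ (j : ℕ) (x : H),
        (f^[j]) (QuotientGroup.mk x) = QuotientGroup.mk (((β : MulAut H) ^ j) x) := by
      intro j
      induction j with
      | zero => intro x; rw [Function.iterate_zero, id_eq, pow_zero]; rfl
      | succ j ih2 =>
        intro x
        rw [Function.iterate_succ_apply, hfmk, ih2, pow_succ, MulAut.mul_apply]
    have h1 : f (QuotientGroup.mk h) = (QuotientGroup.mk h : H ⧸ K 0) * QuotientGroup.mk k := by
      rw [hfmk, ← QuotientGroup.mk_mul, hk, mul_inv_cancel_left]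
    have h2 : f (QuotientGroup.mk k) = (QuotientGroup.mk k : H ⧸ K 0) := by
      rw [hfmk]
      exact (QuotientGroup.eq.mpr hkk).symm
    have h3 := iterate_of_triv f _ _ h1 h2 (Nat.card H)
    rw [hiter, ← QuotientGroup.mk_pow, pow_card_eq_one', QuotientGroup.mk_one, mul_one] at h3
    have h4 := QuotientGroup.eq.mp h3.symm
    rw [hβc, ← pow_mul, ← pow_succ] at h4
    exact h4

/-- automorphisms trivial modulo the Frattini subgroup of a `p`-group are `p`-elements -/
theorem pow_eq_one_of_trivMod_frattini [Finite H] (p : ℕ) [Fact p.Prime] (hH : IsPGroup p H)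
    (α : MulAut H) (hα : ∀ x : H, x⁻¹ * α x ∈ frattini H) : ∃ k : ℕ, α ^ (p ^ k) = 1 := by
  obtain ⟨n, hn⟩ := IsPGroup.iff_card.1 hH
  have hidx : (frattini H).index ∣ p ^ n := by
    rw [← hn]; exact Subgroup.index_dvd_card _
  obtain ⟨r, _, hr⟩ := (Nat.dvd_prime_pow Fact.out).1 hidx
  have hcard := Cfsg.Agent.S4207.result hn hr (Cfsg.Agent.Lib.Helper8.autTrivMod (frattini H))
    (fun α hα => hα)
  have hmem : α ∈ Cfsg.Agent.Lib.Helper8.autTrivMod (frattini H) := by
    intro x
    have h1 := hα x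
    have h2 := (inferInstance : (frattini H).Normal).conj_mem _ h1 x
    have : x * (x⁻¹ * α x) * x⁻¹ = α x * x⁻¹ := by group
    rw [this] at h2
    exact h2
  refine ⟨r * (n - r), ?_⟩
  have h1 : orderOf α ∣ Nat.card (Cfsg.Agent.Lib.Helper8.autTrivMod (frattini H)) := by
    have := orderOf_dvd_natCard (⟨α, hmem⟩ : Cfsg.Agent.Lib.Helper8.autTrivMod (frattini H))
    rwa [Subgroup.orderOf_mk] at this
  exact orderOf_dvd_iff_pow_eq_one.mp (h1.trans hcard)

theorem stab_isPGroup_frattini [Finite H] (p : ℕ) [Fact p.Prime] (hH : IsPGroup p H)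
    (A : Subgroup (MulAut H)) (K : ℕ → Subgroup H)
    (hchar : ∀ (i : ℕ) (α : MulAut H), ∀ h ∈ K i, α h ∈ K i) (h0 : K 0 = frattini H) (n : ℕ)
    (hn : K n = ⊤) : IsPGroup p (stab A K hchar) := by
  obtain ⟨c, hc⟩ := IsPGroup.iff_card.mp hH
  intro ⟨α, hα⟩
  have h1 := stab_pow_trivMod A K hchar α hα n
  rw [hn, h0] at h1
  obtain ⟨k, hk⟩ := pow_eq_one_of_trivMod_frattini p hH _ (fun x => h1 x (Subgroup.mem_top x))
  refine ⟨c * n + k, ?_⟩
  apply Subtype.ext
  apply Subtype.ext
  show (α : MulAut H) ^ (p ^ (c * n + k)) = 1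
  rw [hc, ← pow_mul, ← pow_mul, ← pow_add] at hk
  exact hk

/-- no strongly `p`-embedded subgroup if there is a characteristic chain above the Frattini subgroup with
factors of order `p` -/
theorem chain_contra_frattini [Finite H] (p : ℕ) [Fact p.Prime] (hH : IsPGroup p H)
    (A : Subgroup (MulAut H)) (I : Subgroup A) [I.Normal] (hI : IsPGroup p I) (E : Subgroup (A ⧸ I))
    (hE : IsStronglyPEmbedded p E) (K : ℕ → Subgroup H)
    (hchar : ∀ (i : ℕ) (α : MulAut H), ∀ h ∈ K i, α h ∈ K i) (h0 : K 0 = frattini H) (n : ℕ)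
    (hn : K n = ⊤) (hidx : ∀ i, (K i).relIndex (K (i + 1)) ∣ p) : False := by
  haveI : Finite (MulAut H) :=
    Finite.of_injective (fun f : MulAut H => (f : H → H)) DFunLike.coe_injective
  exact contra_of_normal_pgroup p I hI E hE (stab A K hchar) (stab_normal A K hchar)
    (stab_isPGroup_frattini p hH A K hchar h0 n hn)
    (fun q k hk => mem_stab_of_pow p A K hchar hidx q k hk)

end Cfsg.Agent.H9CS

namespace Cfsg.Agent.H9CS

open Cfsg

variable {H : Type*} [Group H]

theorem map_mem_frattini (α : MulAut H) {h : H} (hh : h ∈ frattini H) : α h ∈ frattini H := by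
  have h1 : (frattini H).comap α.toMonoidHom = frattini H :=
    (inferInstance : (frattini H).Characteristic).fixed α
  have h2 : h ∈ (frattini H).comap α.toMonoidHom := by rw [h1]; exact hh
  exact h2

/-- the chain `Φ(H) ≤ K₁ ≤ H` -/
def chain2F (K₁ : Subgroup H) : ℕ → Subgroup H
  | 0 => frattini H
  | 1 => K₁
  | _ => ⊤

theorem chain2F_contra [Finite H] (p : ℕ) [Fact p.Prime] (hH : IsPGroup p H)
    (A : Subgroup (MulAut H)) (hN : ((Inn H).subgroupOf A).Normal)
    (E : Subgroup (A ⧸ (Inn H).subgroupOf A)) (hE : IsStronglyPEmbedded p E)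
    (K₁ : Subgroup H) (hchar₁ : ∀ α : MulAut H, ∀ h ∈ K₁, α h ∈ K₁)
    (hc1 : (frattini H).relIndex K₁ ∣ p) (hc2 : K₁.index ∣ p) : False := by
  refine chain_contra_frattini p hH A ((Inn H).subgroupOf A) (inn_isPGroup p hH A) E hE (chain2F K₁)
    ?_ rfl 2 rfl ?_
  · intro i α h hh
    rcases i with _ | _ | i
    · exact map_mem_frattini α hh
    · exact hchar₁ α h hh
    · exact Subgroup.mem_top _
  · intro i
    rcases i with _ | _ | i
    · exact hc1
    · show K₁.relIndex ⊤ ∣ p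
      rw [Subgroup.relIndex_top_right]
      exact hc2
    · show (⊤ : Subgroup H).relIndex ⊤ ∣ p
      rw [Subgroup.relIndex_top_right, Subgroup.index_top]
      exact one_dvd p

end Cfsg.Agent.H9CS

namespace Cfsg.Agent.H9CS

open Cfsg Cfsg.Agent.Lib.Helper9

/-- a normal `p`-subgroup lies in `I` when `A ⧸ I` has a strongly `p`-embedded subgroup -/
theorem normal_pgroup_le {A : Type*} [Group A] [Finite A] (p : ℕ) [Fact p.Prime]
    (I : Subgroup A) [I.Normal] (hI : IsPGroup p I) (E : Subgroup (A ⧸ I))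
    (hE : IsStronglyPEmbedded p E) (R : Subgroup A) (hRn : R.Normal) (hRp : IsPGroup p R) :
    R ≤ I := by
  obtain ⟨T₀, hRT⟩ := (hRp.to_sup_of_normal_right hI).exists_le_sylow
  have hRT₀ : R ≤ (T₀ : Subgroup A) := le_trans le_sup_left hRT
  have hIT₀ : I ≤ (T₀ : Subgroup A) := le_trans le_sup_right hRT
  obtain ⟨M, hM, hMem⟩ := exists_proper_of_stronglyPEmbedded p I T₀ hIT₀ hE
  intro q hqR
  by_contra hqI
  apply hM
  rw [eq_top_iff]
  intro α _
  exact hMem α q (hRT₀ hqR) hqI (hRT₀ (hRn.conj_mem q hqR α))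

end Cfsg.Agent.H9CS
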