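import Mathlib
import Cfsg.Prelude
import Cfsg.Agent.Lib.Helper9.ChainStab
import Cfsg.Agent.Lib.Helper9.ChainStab3
import Cfsg.Agent.Lib.Helper9.AbIdx1

set_option autoImplicit false

/-!
# Automorphism groups with a strongly `p`-embedded subgroup: two-step chains
-/

namespace Cfsg.Agent.Lib.Helper9.H9AbIdx

open Cfsg Cfsg.Agent.Lib.Helper9 Cfsg.Agent.H9CS
open scoped Pointwise

variable {H : Type*} [Group H]

/-- the chain `1 ≤ W ≤ H` -/
def chain2 (W : Subgroup H) : ℕ → Subgroup H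
  | 0 => ⊥
  | 1 => W
  | _ => ⊤

theorem chain2_mono (W : Subgroup H) : Monotone (chain2 W) := by
  apply monotone_nat_of_le_succ
  intro n
  rcases n with _ | _ | n
  · exact bot_le
  · exact le_top
  · exact le_refl _

theorem stabChain_chain2_iff (W : Subgroup H) (α : MulAut H) :
    StabChain (chain2 W) α ↔ (∀ w ∈ W, α w = w) ∧ ∀ h : H, h⁻¹ * α h ∈ W := by
  constructor
  · intro h
    refine ⟨fun w hw => ?_, fun x => ?_⟩
    · have h2 : w⁻¹ * α w = 1 := h 0 w hw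
      exact (inv_mul_eq_one.mp h2).symm
    · exact h 1 x (Subgroup.mem_top x)
  · rintro ⟨h1, h2⟩ i x hx
    rcases i with _ | _ | i
    · show x⁻¹ * α x ∈ (⊥ : Subgroup H)
      have hx' : x ∈ W := hx
      rw [Subgroup.mem_bot, h1 x hx', inv_mul_cancel]
    · exact h2 x
    · exact Subgroup.mem_top _

theorem finite_mulAut [Finite H] : Finite (MulAut H) :=
  Finite.of_injective (fun f : MulAut H => (f : H → H)) DFunLike.coe_injective

theorem chain2_zero (W : Subgroup H) : chain2 W 0 = ⊥ := rfl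

theorem chain2_two (W : Subgroup H) : chain2 W 2 = ⊤ := rfl

/-- the stabilizer of the chain `1 ≤ W ≤ H` -/
def stab2 [Finite H] (W : Subgroup H) : Subgroup (MulAut H) :=
  chainStabilizer (chain2 W) (chain2_mono W) (chain2_zero W)

theorem mem_stab2_iff [Finite H] (W : Subgroup H) (α : MulAut H) :
    α ∈ stab2 W ↔ StabChain (chain2 W) α := Iff.rfl

theorem isPGroup_stab2 [Finite H] (p : ℕ) [Fact p.Prime] (hH : IsPGroup p H) (W : Subgroup H) :
    IsPGroup p (stab2 W) :=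
  isPGroup_chainStabilizer p hH (chain2_mono W) (chain2_zero W) 2 (chain2_two W)

/-- an automorphism in `G` stabilizing a `G`-invariant two-step chain is inner (modulo `I`) -/
theorem mem_of_stab_two [Finite H] (p : ℕ) [Fact p.Prime] (hH : IsPGroup p H)
    (G : Subgroup (MulAut H)) (I : Subgroup G) [I.Normal] (hI : IsPGroup p I) (E : Subgroup (G ⧸ I))
    (hE : IsStronglyPEmbedded p E) (W : Subgroup H) (hW : ∀ α ∈ G, ∀ w ∈ W, α w ∈ W)
    (β : G) (hβ1 : ∀ w ∈ W, (β : MulAut H) w = w) (hβ2 : ∀ h : H, h⁻¹ * (β : MulAut H) h ∈ W) :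
    β ∈ I := by
  haveI : Finite (MulAut H) := finite_mulAut
  obtain ⟨R, hRdef⟩ : ∃ R : Subgroup G, R = (stab2 W).subgroupOf G := ⟨_, rfl⟩
  have hRp : IsPGroup p R := by
    rw [hRdef]
    exact (isPGroup_stab2 p hH W).comap_subtype
  have hinv : ∀ g : G, ∀ i : ℕ, ∀ y ∈ chain2 W i, (g : MulAut H) y ∈ chain2 W i := by
    intro g i y hy
    rcases i with _ | _ | i
    · have : y = 1 := hy
      rw [this, map_one]; exact Subgroup.one_mem _
    · exact hW g g.2 y hy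
    · exact Subgroup.mem_top _
  have hRn : R.Normal := by
    constructor
    intro r hr g
    rw [hRdef, Subgroup.mem_subgroupOf, mem_stab2_iff] at hr ⊢
    exact stabChain_conj hr (hinv g) (fun i y hy => hinv g⁻¹ i y hy)
  have hle := normal_pgroup_le p I hI E hE R hRn hRp
  apply hle
  rw [hRdef, Subgroup.mem_subgroupOf, mem_stab2_iff, stabChain_chain2_iff]
  exact ⟨hβ1, hβ2⟩

/-- a `p`-subgroup is conjugate into a given Sylow `p`-subgroup -/
theorem exists_conj_mem_sylow {G : Type*} [Group G] [Finite G] (p : ℕ) [Fact p.Prime] (T : Sylow p G)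
    (Q : Subgroup G) (hQ : IsPGroup p Q) : ∃ k : G, ∀ q ∈ Q, k * q * k⁻¹ ∈ (T : Subgroup G) := by
  obtain ⟨T', hT'⟩ := hQ.exists_le_sylow
  obtain ⟨k, hk⟩ := MulAction.exists_smul_eq G T' T
  refine ⟨k, fun q hq => ?_⟩
  have h1 : q ∈ (T' : Subgroup G) := hT' hq
  have h2 : MulAut.conj k • q ∈ MulAut.conj k • (T' : Subgroup G) :=
    Subgroup.smul_mem_pointwise_smul _ _ _ h1
  rw [← Sylow.coe_subgroup_smul, hk] at h2
  simpa [MulAut.smul_def] using h2

theorem exists_decomp_of_index {p : ℕ} [Fact p.Prime] (hcomm : ∀ a b : H, a * b = b * a)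
    (Z : Subgroup H) (hZ : Z.index = p) {x : H} (hx : x ∉ Z) (h : H) :
    ∃ k : ℤ, ∃ z ∈ Z, h = x ^ k * z := by
  have h1 : Z ⊔ Subgroup.zpowers x = ⊤ :=
    sup_zpowers_of_prime_relIndex (p := p) le_top (by rw [Subgroup.relIndex_top_right]; exact hZ)
      (Subgroup.mem_top x) hx
  haveI : Z.Normal := ⟨fun n hn g => by rw [hcomm g n, mul_inv_cancel_right]; exact hn⟩
  have h2 := Subgroup.mul_normal (Subgroup.zpowers x) Z
  have h3 : h ∈ ((Subgroup.zpowers x ⊔ Z : Subgroup H) : Set H) := by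
    rw [sup_comm, h1]; exact Subgroup.mem_top h
  rw [h2, Set.mem_mul] at h3
  obtain ⟨y, hy, z, hz, rfl⟩ := h3
  obtain ⟨k, rfl⟩ := Subgroup.mem_zpowers_iff.mp hy
  exact ⟨k, z, hz, rfl⟩

/-- a group of automorphisms stabilizing `1 ≤ Z ≤ H` with `|H : Z| = p`, meeting the stabilizer of
`1 ≤ W ≤ H` trivially, has order at most `|Z : W|` -/
theorem card_le_relIndex [Finite H] (p : ℕ) [Fact p.Prime]
    (hcomm : ∀ a b : H, a * b = b * a) (G : Subgroup (MulAut H)) (T : Subgroup G)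
    (Z : Subgroup H) (hZ : Z.index = p)
    (hT1 : ∀ q ∈ T, ∀ z ∈ Z, (q : MulAut H) z = z)
    (hT2 : ∀ q ∈ T, ∀ h : H, h⁻¹ * (q : MulAut H) h ∈ Z)
    (W : Subgroup H)
    (hTW : ∀ q ∈ T, (∀ h : H, h⁻¹ * (q : MulAut H) h ∈ W) → q = 1) :
    Nat.card T ≤ W.relIndex Z := by
  have hZne : ∃ x, x ∉ Z := by
    by_contra hall
    push Not at hall
    have : Z = ⊤ := eq_top_iff.mpr (fun x _ => hall x)
    rw [this, Subgroup.index_top] at hZ
    exact (Fact.out : p.Prime).one_lt.ne hZ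
  obtain ⟨x, hx⟩ := hZne
  let f : T →* H :=
    { toFun := fun t => x⁻¹ * ((t : G) : MulAut H) x
      map_one' := by simp
      map_mul' := by
        intro t s
        obtain ⟨c, hcdef⟩ : ∃ c : H, c = x⁻¹ * ((s : G) : MulAut H) x := ⟨_, rfl⟩
        have hc : c ∈ Z := by rw [hcdef]; exact hT2 s s.2 x
        have h1 := hT1 t t.2 c hc
        have h3 : ((s : G) : MulAut H) x = x * c := by rw [hcdef]; group
        show x⁻¹ * ((t : G) : MulAut H) (((s : G) : MulAut H) x) =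
          (x⁻¹ * ((t : G) : MulAut H) x) * (x⁻¹ * ((s : G) : MulAut H) x)
        rw [← hcdef, h3, map_mul, h1, mul_assoc] }
  have hf : ∀ t : T, f t = x⁻¹ * ((t : G) : MulAut H) x := fun _ => rfl
  have hfr : f.range ≤ Z := by
    rintro _ ⟨t, rfl⟩
    exact hT2 t t.2 x
  have hker : W.comap f = ⊥ := by
    rw [eq_bot_iff]
    intro t ht
    rw [Subgroup.mem_comap] at ht
    rw [Subgroup.mem_bot]
    have : (t : G) = 1 := by
      apply hTW t t.2
      intro h
      obtain ⟨k, z, hz, rfl⟩ := exists_decomp_of_index hcomm Z hZ hx h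
      have h1 : ((t : G) : MulAut H) z = z := hT1 t t.2 z hz
      have h2 : ((t : G) : MulAut H) x = x * f t := by rw [hf]; group
      have hcxf : Commute x (f t) := hcomm x (f t)
      have h3 : (x ^ k * z)⁻¹ * ((t : G) : MulAut H) (x ^ k * z) = (f t) ^ k := by
        rw [map_mul, map_zpow, h1, h2, hcxf.mul_zpow]
        generalize x ^ k = u
        generalize (f t) ^ k = w
        calc (u * z)⁻¹ * (u * w * z) = z⁻¹ * (w * z) := by group
          _ = z⁻¹ * (z * w) := by rw [hcomm w z]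
          _ = w := by group
      rw [h3]
      exact Subgroup.zpow_mem _ ht k
    exact Subtype.ext this
  have h1 : Nat.card T = (W.comap f).index := by rw [hker, Subgroup.index_bot]
  rw [h1, Subgroup.index_comap]
  have hne : W.relIndex Z ≠ 0 := Subgroup.index_ne_zero_of_finite
  exact Subgroup.relIndex_le_of_le_right hfr hne

/-- one of two conjugate Sylow subgroups meets the stabilizer of `1 ≤ W ≤ H` trivially -/
theorem stab_or_stab [Finite H] (p : ℕ) [Fact p.Prime] (hH : IsPGroup p H)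
    (G : Subgroup (MulAut H)) (T₀ : Sylow p G) (M : Subgroup G)
    (hMem : ∀ α q : G, q ∈ (T₀ : Subgroup G) → q ≠ 1 → α * q * α⁻¹ ∈ (T₀ : Subgroup G) → α ∈ M)
    (α : G) (hα : α ∉ M) (W : Subgroup H) :
    (∀ q ∈ (T₀ : Subgroup G), StabChain (chain2 W) (q : MulAut H) → q = 1) ∨
    (∀ q ∈ (T₀ : Subgroup G), StabChain (chain2 W) ((α * q * α⁻¹ : G) : MulAut H) → q = 1) := by
  by_contra hcon
  rw [not_or] at hcon
  obtain ⟨h1, h2⟩ := hcon
  push Not at h1 h2
  obtain ⟨q₁, hq₁T, hq₁W, hq₁⟩ := h1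
  obtain ⟨q₂, hq₂T, hq₂W, hq₂⟩ := h2
  haveI : Finite (MulAut H) := finite_mulAut
  obtain ⟨R, hRdef⟩ : ∃ R : Subgroup G, R = (stab2 W).subgroupOf G := ⟨_, rfl⟩
  have hRp : IsPGroup p R := by
    rw [hRdef]
    exact (isPGroup_stab2 p hH W).comap_subtype
  obtain ⟨k, hk⟩ := exists_conj_mem_sylow p T₀ R hRp
  have hq₁R : q₁ ∈ R := by
    rw [hRdef, Subgroup.mem_subgroupOf, mem_stab2_iff]; exact hq₁W
  have hq₂R : α * q₂ * α⁻¹ ∈ R := by
    rw [hRdef, Subgroup.mem_subgroupOf, mem_stab2_iff]; exact hq₂W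
  have hkM : k ∈ M := hMem k q₁ hq₁T hq₁ (hk q₁ hq₁R)
  have hkα : k * α ∈ M := by
    apply hMem (k * α) q₂ hq₂T hq₂
    have := hk _ hq₂R
    have e : k * α * q₂ * (k * α)⁻¹ = k * (α * q₂ * α⁻¹) * k⁻¹ := by group
    rw [e]; exact this
  apply hα
  have : α = k⁻¹ * (k * α) := by group
  rw [this]
  exact M.mul_mem (M.inv_mem hkM) hkα

/-- the Sylow `p`-subgroup has order at most `p` -/
theorem card_sylow_le [Finite H] (p : ℕ) [hp : Fact p.Prime] (hH : IsPGroup p H)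
    (hcomm : ∀ a b : H, a * b = b * a)
    (G : Subgroup (MulAut H)) (T₀ : Sylow p G) (M : Subgroup G) (hM : M ≠ ⊤)
    (hMem : ∀ α q : G, q ∈ (T₀ : Subgroup G) → q ≠ 1 → α * q * α⁻¹ ∈ (T₀ : Subgroup G) → α ∈ M)
    (Z : Subgroup H) (hZ : Z.index = p)
    (hT1 : ∀ q ∈ (T₀ : Subgroup G), ∀ z ∈ Z, (q : MulAut H) z = z)
    (hT2 : ∀ q ∈ (T₀ : Subgroup G), ∀ h : H, h⁻¹ * (q : MulAut H) h ∈ Z) :
    Nat.card (T₀ : Subgroup G) ≤ p := by
  obtain ⟨α, hα⟩ : ∃ α : G, α ∉ M := by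
    by_contra h
    push Not at h
    exact hM (eq_top_iff.mpr fun x _ => h x)
  obtain ⟨Z', hZ'def⟩ : ∃ Z' : Subgroup H,
      Z' = Z.map ((α : MulAut H) : H ≃* H).toMonoidHom := ⟨_, rfl⟩
  have hZ' : Z'.index = p := by
    rw [hZ'def]
    exact (Subgroup.index_map_equiv Z (α : MulAut H)).trans hZ
  have hnorm : ∀ K : Subgroup H, K.Normal := fun K =>
    ⟨fun n hn g => by rw [hcomm g n, mul_inv_cancel_right]; exact hn⟩
  have hp0 : 0 < p := hp.out.pos
  rcases stab_or_stab p hH G T₀ M hMem α hα (Z ⊓ Z') with h | h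
  · have h1 := card_le_relIndex p hcomm G (T₀ : Subgroup G) Z hZ hT1 hT2 (Z ⊓ Z') (by
      intro q hq hq2
      apply h q hq
      rw [stabChain_chain2_iff]
      exact ⟨fun w hw => hT1 q hq w hw.1, hq2⟩)
    rw [Subgroup.inf_relIndex_left] at h1
    haveI := hnorm Z'
    have h2 : Z'.relIndex Z ∣ p := by
      rw [← hZ']; exact Subgroup.relIndex_dvd_index_of_normal Z' Z
    exact le_trans h1 (Nat.le_of_dvd hp0 h2)
  · obtain ⟨T', hT'def⟩ : ∃ T' : Subgroup G,
        T' = (T₀ : Subgroup G).map (MulAut.conj α).toMonoidHom := ⟨_, rfl⟩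
    have hT'mem : ∀ q' ∈ T', ∃ q ∈ (T₀ : Subgroup G), q' = α * q * α⁻¹ := by
      intro q' hq'
      rw [hT'def] at hq'
      obtain ⟨q, hq, rfl⟩ := hq'
      exact ⟨q, hq, rfl⟩
    have hT1' : ∀ q' ∈ T', ∀ z' ∈ Z', (q' : MulAut H) z' = z' := by
      intro q' hq' z' hz'
      obtain ⟨q, hq, rfl⟩ := hT'mem q' hq'
      rw [hZ'def] at hz'
      obtain ⟨z, hz, rfl⟩ := hz'
      show (α : MulAut H) ((q : MulAut H) ((α : MulAut H)⁻¹ ((α : MulAut H) z))) = (α : MulAut H) z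
      rw [MulAut.inv_apply_self, hT1 q hq z hz]
    have hT2' : ∀ q' ∈ T', ∀ h : H, h⁻¹ * (q' : MulAut H) h ∈ Z' := by
      intro q' hq' h
      obtain ⟨q, hq, rfl⟩ := hT'mem q' hq'
      rw [hZ'def]
      refine ⟨((α : MulAut H)⁻¹ h)⁻¹ * (q : MulAut H) ((α : MulAut H)⁻¹ h), hT2 q hq _, ?_⟩
      show (α : MulAut H) (((α : MulAut H)⁻¹ h)⁻¹ * (q : MulAut H) ((α : MulAut H)⁻¹ h)) =
        h⁻¹ * (α : MulAut H) ((q : MulAut H) ((α : MulAut H)⁻¹ h))
      rw [map_mul, map_inv, MulAut.apply_inv_self]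
    have h1 := card_le_relIndex p hcomm G T' Z' hZ' hT1' hT2' (Z ⊓ Z') (by
      intro q' hq' hq2
      obtain ⟨q, hq, rfl⟩ := hT'mem q' hq'
      have hq1 : q = 1 := by
        apply h q hq
        rw [stabChain_chain2_iff]
        exact ⟨fun w hw => hT1' _ hq' w hw.2, hq2⟩
      rw [hq1]; group)
    rw [Subgroup.inf_relIndex_right] at h1
    haveI := hnorm Z
    have h2 : Z.relIndex Z' ∣ p := by
      rw [← hZ]; exact Subgroup.relIndex_dvd_index_of_normal Z Z'
    have h3 : Nat.card T' = Nat.card (T₀ : Subgroup G) := by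
      rw [hT'def]
      exact Subgroup.card_map_of_injective (MulAut.conj α).injective
    rw [← h3]
    exact le_trans h1 (Nat.le_of_dvd hp0 h2)

end Cfsg.Agent.Lib.Helper9.H9AbIdx
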