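import Mathlib
import Cfsg.Prelude
import Cfsg.Agent.Lib.Helper9.AbIdx2
import Cfsg.Agent.Lib.Helper9.EssGen1
import Cfsg.Agent.Lib.Helper9.FusionAG3
import Cfsg.Agent.Lib.Helper9.FusionAut2
import Cfsg.Agent.Lib.Helper9.FusionSat2

set_option autoImplicit false

/-!
# Essential subgroups: the properties used for groups with an abelian subgroup of index `p`
-/

namespace Cfsg.Agent.Lib.Helper9.H9AbIdx

open Cfsg Cfsg.FusionSystem Cfsg.Agent.Lib.Helper9 Cfsg.Agent.H9CS

variable {Ω : Type*} [Group Ω] {S : Subgroup Ω}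

theorem ess_le (F : FusionSystem S) {p : ℕ} {P : Subgroup Ω} (hP : F.IsEssential p P) : P ≤ S :=
  hP.2.1.1

theorem ess_centralizerIn_le (F : FusionSystem S) {p : ℕ} {P : Subgroup Ω}
    (hP : F.IsEssential p P) : centralizerIn S P ≤ P :=
  hP.1.2 P (fs_isConj_refl F (ess_le F hP))

theorem ess_centric (F : FusionSystem S) {p : ℕ} {P : Subgroup Ω} (hP : F.IsEssential p P) {c : Ω}
    (hc : c ∈ S) (h : ∀ g ∈ P, c * g = g * c) : c ∈ P := by
  apply ess_centralizerIn_le F hP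
  refine ⟨hc, ?_⟩
  show c ∈ Subgroup.centralizer (P : Set Ω)
  rw [Subgroup.mem_centralizer_iff]
  exact fun g hg => (h g hg).symm

/-- the radical property of essential subgroups, for two-step chains -/
theorem ess_rad [Finite S] (p : ℕ) [Fact p.Prime] (hS : IsPGroup p S) (F : FusionSystem S)
    {P : Subgroup Ω} (hP : F.IsEssential p P) (W : Subgroup Ω)
    (hWinv : ∀ α ∈ F.autGroup P, ∀ w : P, (w : Ω) ∈ W → ((α w : P) : Ω) ∈ W)
    {n : Ω} (hnS : n ∈ S) (hnN : n ∈ Subgroup.normalizer (P : Set Ω))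
    (h1 : ∀ w ∈ W, w ∈ P → n * w * n⁻¹ = w) (h2 : ∀ g ∈ P, g⁻¹ * (n * g * n⁻¹) ∈ W) :
    n ∈ P := by
  have hPS := ess_le F hP
  have hcen := ess_centralizerIn_le F hP
  obtain ⟨hPc, hPn, hN, E₀, hE₀⟩ := hP
  haveI : Finite P := fs_finite_of_le hPS
  have hPp : IsPGroup p P := hS.to_le hPS
  haveI := hN
  obtain ⟨q, hqdef⟩ : ∃ q : MulAut P, q = P.normalizerMonoidHom ⟨n, hnN⟩ := ⟨_, rfl⟩
  have hqn : ∀ x : P, ((q x : P) : Ω) = n * x * n⁻¹ := by intro x; rw [hqdef]; rfl
  have hqS : q ∈ autInducedBy S P := by rw [mem_autInducedBy_iff]; exact ⟨n, hnS, hqn⟩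
  have hqF : q ∈ F.autGroup P := autInducedBy_le_autGroup F hPS hqS
  have key := mem_of_stab_two p hPp (F.autGroup P) ((Inn P).subgroupOf (F.autGroup P))
    (inn_isPGroup p hPp _) E₀ hE₀ (W.subgroupOf P) ?_ ⟨q, hqF⟩ ?_ ?_
  · rw [Subgroup.mem_subgroupOf] at key
    exact mem_of_induces_inner hcen key hnS hPS hqn
  · intro α hα w hw
    rw [Subgroup.mem_subgroupOf] at hw ⊢
    exact hWinv α hα w hw
  · intro w hw
    rw [Subgroup.mem_subgroupOf] at hw
    apply Subtype.ext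
    show ((q w : P) : Ω) = w
    rw [hqn]
    exact h1 w hw w.2
  · intro g
    rw [Subgroup.mem_subgroupOf]
    show ((g : Ω))⁻¹ * ((q g : P) : Ω) ∈ W
    rw [hqn]
    exact h2 g g.2

/-- Sylow data of an essential subgroup -/
theorem ess_sylow_data [Finite S] (p : ℕ) [Fact p.Prime] (hS : IsPGroup p S) (F : FusionSystem S)
    (hF : F.IsSaturated p) {P : Subgroup Ω} (hP : F.IsEssential p P) :
    ∃ T₀ : Sylow p (F.autGroup P),
      (T₀ : Subgroup (F.autGroup P)) = (autInducedBy S P).subgroupOf (F.autGroup P) ∧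
      ∃ M : Subgroup (F.autGroup P), M ≠ ⊤ ∧ ∀ α q : F.autGroup P,
        q ∈ (T₀ : Subgroup (F.autGroup P)) → (q : MulAut P) ∉ Inn P →
        α * q * α⁻¹ ∈ (T₀ : Subgroup (F.autGroup P)) → α ∈ M := by
  have hPS := ess_le F hP
  obtain ⟨hPc, hPn, hN, E₀, hE₀⟩ := hP
  haveI : Finite P := fs_finite_of_le hPS
  haveI : Finite (F.autGroup P) := inferInstance
  obtain ⟨-, T₀, hT₀⟩ := (fs_sylow_axiom p hS F hF hPn).2
  have hInnS : Inn P ≤ autInducedBy S P := inn_le_autInducedBy hPS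
  have hIT : (Inn P).subgroupOf (F.autGroup P) ≤ T₀ := by
    rw [hT₀]; exact Subgroup.comap_mono hInnS
  haveI := hN
  obtain ⟨M, hMtop, hMprop⟩ := exists_proper_of_stronglyPEmbedded p _ T₀ hIT hE₀
  refine ⟨T₀, hT₀, M, hMtop, fun α q hq hqI hconj => hMprop α q hq ?_ hconj⟩
  rw [Subgroup.mem_subgroupOf]
  exact hqI

theorem ess_ne [Finite S] (p : ℕ) [Fact p.Prime] (hS : IsPGroup p S) (F : FusionSystem S)
    (hF : F.IsSaturated p) {P : Subgroup Ω} (hP : F.IsEssential p P) : P ≠ S := by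
  have hPS := ess_le F hP
  obtain ⟨hPc, hPn, hN, E₀, hE₀⟩ := hP
  haveI : Finite P := fs_finite_of_le hPS
  haveI : Finite (F.autGroup P) := inferInstance
  obtain ⟨-, T₀, hT₀⟩ := (fs_sylow_axiom p hS F hF hPn).2
  have hInnS : Inn P ≤ autInducedBy S P := inn_le_autInducedBy hPS
  have hIT : (Inn P).subgroupOf (F.autGroup P) ≤ T₀ := by
    rw [hT₀]; exact Subgroup.comap_mono hInnS
  intro hQS
  have hpd := hE₀.1
  have hTI : (T₀ : Subgroup (F.autGroup P)) = (Inn P).subgroupOf (F.autGroup P) := by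
    apply le_antisymm _ hIT
    rw [hT₀]
    intro a ha
    rw [Subgroup.mem_subgroupOf, mem_autInducedBy_iff] at ha
    obtain ⟨g, hg, Hg⟩ := ha
    rw [Subgroup.mem_subgroupOf]
    have hgQ : g ∈ P := by rw [hQS]; exact hg
    refine ⟨⟨g, hgQ⟩, ?_⟩
    ext x
    rw [Hg x]
    simp [MulAut.conj_apply]
  have h1 : ¬ p ∣ (T₀ : Subgroup (F.autGroup P)).index := T₀.not_dvd_index
  rw [hTI, Subgroup.index_eq_card] at h1
  exact h1 hpd

/-- the normalizer in `S` of an essential subgroup is strictly larger -/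
theorem ess_exists_normalizing [Finite S] (p : ℕ) [Fact p.Prime] (hS : IsPGroup p S)
    (F : FusionSystem S) (hF : F.IsSaturated p) {P : Subgroup Ω} (hP : F.IsEssential p P) :
    ∃ n ∈ S, n ∈ Subgroup.normalizer (P : Set Ω) ∧ n ∉ P := by
  have hPS := ess_le F hP
  have hlt : P < S := lt_of_le_of_ne hPS (ess_ne p hS F hF hP)
  have h1 := fs_lt_normalizerIn p hS hlt
  obtain ⟨n, hn, hnP⟩ := SetLike.exists_of_lt h1
  exact ⟨n, hn.1, hn.2, hnP⟩

/-- an abelian essential subgroup `P` with a subgroup `Z` of index `p` such that `N_S(P)` stabilizes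
`1 ≤ Z ≤ P` has index `p` in its normalizer -/
theorem ess_relIndex_of_abelian [Finite S] (p : ℕ) [hp : Fact p.Prime] (hS : IsPGroup p S)
    (F : FusionSystem S) (hF : F.IsSaturated p) {P : Subgroup Ω} (hP : F.IsEssential p P)
    (hcomm : ∀ a ∈ P, ∀ b ∈ P, a * b = b * a) (Z : Subgroup Ω) (hZidx : Z.relIndex P = p)
    (h1 : ∀ n ∈ S, n ∈ Subgroup.normalizer (P : Set Ω) → ∀ z ∈ Z, z ∈ P → n * z * n⁻¹ = z)
    (h2 : ∀ n ∈ S, n ∈ Subgroup.normalizer (P : Set Ω) → ∀ g ∈ P, g⁻¹ * (n * g * n⁻¹) ∈ Z) :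
    P.relIndex (normalizerIn S P) = p := by
  have hPS := ess_le F hP
  have hcen := ess_centralizerIn_le F hP
  have hne := ess_ne p hS F hF hP
  obtain ⟨T₀, hT₀, M, hMtop, hMem⟩ := ess_sylow_data p hS F hF hP
  haveI : Finite P := fs_finite_of_le hPS
  have hPp : IsPGroup p P := hS.to_le hPS
  have hcommP : ∀ a b : P, a * b = b * a := fun a b => Subtype.ext (hcomm a a.2 b b.2)
  -- the Sylow subgroup has order at most `p`
  have hcard : Nat.card (T₀ : Subgroup (F.autGroup P)) ≤ p := by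
    apply card_sylow_le p hPp hcommP (F.autGroup P) T₀ M hMtop ?_ (Z.subgroupOf P) hZidx
    · intro q hq z hz
      rw [hT₀, Subgroup.mem_subgroupOf, mem_autInducedBy_iff] at hq
      obtain ⟨n, hnS, hn⟩ := hq
      have hnN := mem_normalizer_of_induces _ n hn
      rw [Subgroup.mem_subgroupOf] at hz
      apply Subtype.ext
      rw [hn]
      exact h1 n hnS hnN z hz z.2
    · intro q hq g
      rw [hT₀, Subgroup.mem_subgroupOf, mem_autInducedBy_iff] at hq
      obtain ⟨n, hnS, hn⟩ := hq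
      have hnN := mem_normalizer_of_induces _ n hn
      rw [Subgroup.mem_subgroupOf]
      show ((g : Ω))⁻¹ * (((q : MulAut P) g : P) : Ω) ∈ Z
      rw [hn]
      exact h2 n hnS hnN g g.2
    · intro α q hq hq1 hconj
      apply hMem α q hq _ hconj
      rintro ⟨g, hg⟩
      apply hq1
      apply Subtype.ext
      rw [← hg]
      ext y
      show ((g * y * g⁻¹ : P) : Ω) = y
      rw [hcommP g y, mul_inv_cancel_right]
  -- the conjugation map from the normalizer
  obtain ⟨κ, hκdef⟩ : ∃ κ : ↥(normalizerIn S P) →* MulAut P,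
      κ = (P.normalizerMonoidHom).comp (Subgroup.inclusion (inf_le_right :
        S ⊓ Subgroup.normalizer (P : Set Ω) ≤ Subgroup.normalizer (P : Set Ω))) := ⟨_, rfl⟩
  have hκ : ∀ (n : ↥(normalizerIn S P)) (y : P), ((κ n y : P) : Ω) = n * y * (n : Ω)⁻¹ := by
    intro n y; rw [hκdef]; rfl
  have hker : κ.ker ≤ P.subgroupOf (normalizerIn S P) := by
    intro n hn
    rw [MonoidHom.mem_ker] at hn
    rw [Subgroup.mem_subgroupOf]
    apply hcen
    refine ⟨n.2.1, ?_⟩
    show (n : Ω) ∈ Subgroup.centralizer (P : Set Ω)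
    rw [Subgroup.mem_centralizer_iff]
    intro y hy
    have h3 := hκ n ⟨y, hy⟩
    rw [hn] at h3
    have h4 : y = (n : Ω) * y * (n : Ω)⁻¹ := h3
    calc y * (n : Ω) = ((n : Ω) * y * (n : Ω)⁻¹) * n := by rw [← h4]
      _ = n * y := by group
  have hrange : κ.range ≤ autInducedBy S P := by
    rintro _ ⟨n, rfl⟩
    rw [mem_autInducedBy_iff]
    exact ⟨n, n.2.1, hκ n⟩
  haveI : Finite (normalizerIn S P) := fs_finite_of_le (fs_normalizerIn_le S P)
  haveI : Finite (MulAut P) := finite_mulAut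
  have h3 : (P.subgroupOf (normalizerIn S P)).index ∣ Nat.card κ.range := by
    rw [← Subgroup.index_ker]
    exact Subgroup.index_dvd_of_le hker
  have h4 : Nat.card κ.range ≤ Nat.card (autInducedBy S P) :=
    Subgroup.card_le_of_le hrange
  have h5 : Nat.card (T₀ : Subgroup (F.autGroup P)) = Nat.card (autInducedBy S P) := by
    rw [hT₀]
    exact Nat.card_congr
      (Subgroup.subgroupOfEquivOfLe (autInducedBy_le_autGroup F hPS)).toEquiv
  have h6 : P.relIndex (normalizerIn S P) ≤ p := by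
    have h7 : P.relIndex (normalizerIn S P) ≤ Nat.card κ.range :=
      Nat.le_of_dvd Nat.card_pos h3
    omega
  -- the index is a nontrivial power of `p`
  have hlt : P < S := lt_of_le_of_ne hPS hne
  have h8 := fs_lt_normalizerIn p hS hlt
  have h9 : P.relIndex (normalizerIn S P) ≠ 1 := by
    intro h
    exact not_le_of_gt h8 (Subgroup.relIndex_eq_one.mp h)
  obtain ⟨k, hk⟩ := IsPGroup.iff_card.mp (hS.to_le (fs_normalizerIn_le S P))
  have h10 : P.relIndex (normalizerIn S P) ∣ p ^ k := by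
    rw [← hk]; exact Subgroup.relIndex_dvd_card _ _
  exact eq_of_dvd_pow_of_le h10 h9 h6

end Cfsg.Agent.Lib.Helper9.H9AbIdx
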