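import Mathlib
import Cfsg.Agent.Lib.Helper9.AbIdx1

set_option autoImplicit false

/-!
# The commutator endomorphism of `A` and index lemmas
-/

namespace Cfsg.Agent.Lib.Helper9.H9AbIdx

variable {Ω : Type*} [Group Ω]

/-- `|HK : K| = |H : H ∩ K|` when `H` normalizes `K` -/
theorem relIndex_sup_of_le_normalizer {H K : Subgroup Ω}
    (hHK : H ≤ Subgroup.normalizer (K : Set Ω)) : K.relIndex (H ⊔ K) = K.relIndex H := by
  obtain ⟨L, hLdef⟩ : ∃ L : Subgroup Ω, L = Subgroup.normalizer (K : Set Ω) := ⟨_, rfl⟩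
  have hKL : K ≤ L := by rw [hLdef]; exact Subgroup.le_normalizer
  have hHL : H ≤ L := by rw [hLdef]; exact hHK
  haveI : (K.subgroupOf L).Normal := by rw [hLdef]; exact Subgroup.normal_in_normalizer
  have h1 := Subgroup.relIndex_sup_right (H.subgroupOf L) (K.subgroupOf L)
  rw [← Subgroup.subgroupOf_sup hHL hKL, Subgroup.relIndex_subgroupOf (sup_le hHL hKL),
    Subgroup.relIndex_subgroupOf hHL] at h1
  exact h1

namespace Ctx

variable {p : ℕ} [hp : Fact p.Prime] {S A : Subgroup Ω}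

/-- `|P : P ∩ A| = p` for `P ≤ S` not inside `A` -/
theorem relIndex_of_not_le [Finite S] (C : Ctx p S A) {P : Subgroup Ω} (hPS : P ≤ S) {x : Ω}
    (hxP : x ∈ P) (hxA : x ∉ A) : A.relIndex P = p := by
  haveI : Finite P := Finite.of_injective (Subgroup.inclusion hPS) (Subgroup.inclusion_injective hPS)
  obtain ⟨k, hk⟩ := IsPGroup.iff_card.mp (C.hS.to_le hPS)
  have h1 : A.relIndex P ∣ p ^ k := by
    rw [← hk]; exact Subgroup.relIndex_dvd_card _ _
  have h2 : A.relIndex P ≠ 1 := by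
    intro h
    exact hxA (Subgroup.relIndex_eq_one.mp h hxP)
  have h3 : A.relIndex P ≤ p := by
    have hne : A.relIndex S ≠ 0 := by rw [C.hidx]; exact hp.out.ne_zero
    have := Subgroup.relIndex_le_of_le_right hPS hne
    rwa [C.hidx] at this
  exact eq_of_dvd_pow_of_le h1 h2 h3

/-- decomposition inside a subgroup `P` containing `x ∉ A` -/
theorem exists_decomp_in [Finite S] (C : Ctx p S A) {P : Subgroup Ω} (hPS : P ≤ S) {x : Ω}
    (hxP : x ∈ P) (hxA : x ∉ A) {g : Ω} (hg : g ∈ P) :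
    ∃ k : ℤ, ∃ a ∈ A, a ∈ P ∧ g = x ^ k * a := by
  obtain ⟨k, a, ha, rfl⟩ := C.exists_decomp (hPS hxP) hxA (hPS hg)
  refine ⟨k, a, ha, ?_, rfl⟩
  have h1 : a = (x ^ k)⁻¹ * (x ^ k * a) := by group
  rw [h1]
  exact P.mul_mem (P.inv_mem (P.zpow_mem hxP k)) hg

/-- `|N : P| = |N ∩ A : P ∩ A|` for `P ≤ N ≤ N_S(P)`, `P` not inside `A` -/
theorem relIndex_inf_eq [Finite S] (C : Ctx p S A) {P N : Subgroup Ω} (hNS : N ≤ S) (hPN : P ≤ N)
    (hN : N ≤ Subgroup.normalizer (P : Set Ω)) {x : Ω} (hxP : x ∈ P) (hxA : x ∉ A) :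
    P.relIndex N = (P ⊓ A).relIndex (N ⊓ A) := by
  have h1 : N = (N ⊓ A) ⊔ P := by
    apply le_antisymm
    · intro n hn
      obtain ⟨k, a, ha, haN, rfl⟩ := C.exists_decomp_in hNS (hPN hxP) hxA hn
      exact Subgroup.mul_mem _ (Subgroup.mem_sup_right (P.zpow_mem hxP k))
        (Subgroup.mem_sup_left ⟨haN, ha⟩)
    · exact sup_le inf_le_left hPN
  have h2 := relIndex_sup_of_le_normalizer (H := N ⊓ A) (K := P) (le_trans inf_le_left hN)
  rw [← h1] at h2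
  rw [h2, ← Subgroup.inf_relIndex_right]
  have h3 : P ⊓ (N ⊓ A) = P ⊓ A := by
    apply le_antisymm
    · exact le_inf inf_le_left (le_trans inf_le_right inf_le_right)
    · exact le_inf inf_le_left (le_inf (le_trans inf_le_left hPN) inf_le_right)
  rw [h3]

/-- the endomorphism `a ↦ [a, x]` of `A` -/
noncomputable def nu [Finite S] (C : Ctx p S A) {x : Ω} (hx : x ∈ S) : ↥A →* ↥A where
  toFun a := ⟨a * x * (a : Ω)⁻¹ * x⁻¹, by
    have h1 := C.normal hx (A.inv_mem a.2)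
    have h2 : (a : Ω) * x * (a : Ω)⁻¹ * x⁻¹ = a * (x * (a : Ω)⁻¹ * x⁻¹) := by group
    rw [h2]
    exact A.mul_mem a.2 h1⟩
  map_one' := by
    apply Subtype.ext
    simp
  map_mul' a b := by
    apply Subtype.ext
    show ((a * b : A) : Ω) * x * ((a * b : A) : Ω)⁻¹ * x⁻¹ =
      ((a : Ω) * x * (a : Ω)⁻¹ * x⁻¹) * ((b : Ω) * x * (b : Ω)⁻¹ * x⁻¹)
    obtain ⟨u, hu⟩ : ∃ u : Ω, u = (b : Ω) * x * (b : Ω)⁻¹ * x⁻¹ := ⟨_, rfl⟩
    obtain ⟨v, hv⟩ : ∃ v : Ω, v = x * (a : Ω)⁻¹ * x⁻¹ := ⟨_, rfl⟩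
    have huA : u ∈ A := by
      have h1 := C.normal hx (A.inv_mem b.2)
      have h2 : u = b * (x * (b : Ω)⁻¹ * x⁻¹) := by rw [hu]; group
      rw [h2]
      exact A.mul_mem b.2 h1
    have hvA : v ∈ A := by rw [hv]; exact C.normal hx (A.inv_mem a.2)
    have huv := C.hcomm u huA v hvA
    rw [Subgroup.coe_mul]
    calc (a : Ω) * b * x * ((a : Ω) * b)⁻¹ * x⁻¹ = a * (u * v) := by rw [hu, hv]; group
      _ = a * (v * u) := by rw [huv]
      _ = ((a : Ω) * x * (a : Ω)⁻¹ * x⁻¹) * ((b : Ω) * x * (b : Ω)⁻¹ * x⁻¹) := by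
        rw [hu, hv]; group

theorem nu_apply [Finite S] (C : Ctx p S A) {x : Ω} (hx : x ∈ S) (a : A) :
    ((C.nu hx a : A) : Ω) = a * x * (a : Ω)⁻¹ * x⁻¹ := rfl

theorem nu_ker [Finite S] (C : Ctx p S A) {x : Ω} (hx : x ∈ S) (hxA : x ∉ A) :
    (C.nu hx).ker = (ZS S).subgroupOf A := by
  ext a
  rw [MonoidHom.mem_ker, Subgroup.mem_subgroupOf]
  constructor
  · intro h
    have h1 := congrArg (fun z : A => (z : Ω)) h
    simp only [nu_apply, Subgroup.coe_one] at h1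
    apply C.mem_ZS_of_comm hx hxA a.2
    calc (a : Ω) * x = ((a : Ω) * x * (a : Ω)⁻¹ * x⁻¹) * x * a := by group
      _ = x * a := by rw [h1, one_mul]
  · intro h
    apply Subtype.ext
    rw [nu_apply]
    have h1 := (mem_ZS_iff.mp h).2 x hx
    show (a : Ω) * x * (a : Ω)⁻¹ * x⁻¹ = 1
    rw [← h1]
    group

/-- the preimage of `Z(S)` under `ν` is `A ∩ Z₂(S)` -/
theorem nu_comap_ZS [Finite S] (C : Ctx p S A) {x : Ω} (hx : x ∈ S) (hxA : x ∉ A) :
    ((ZS S).subgroupOf A).comap (C.nu hx) = (Z2 S).subgroupOf A := by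
  ext a
  rw [Subgroup.mem_comap, Subgroup.mem_subgroupOf, Subgroup.mem_subgroupOf, nu_apply]
  constructor
  · intro h
    exact C.mem_Z2_of_comm hx hxA a.2 h
  · intro h
    exact (mem_Z2_iff.mp h).2 x hx

end Ctx

end Cfsg.Agent.Lib.Helper9.H9AbIdx
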