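import Mathlib
import Cfsg.Prelude
import Cfsg.Agent.Lib.Helper9.AbIdx3
import Cfsg.Agent.Lib.Helper9.AbIdx4

set_option autoImplicit false

/-!
# Essential subgroups over a `p`-group with an abelian subgroup of index `p`: case analysis
-/

namespace Cfsg.Agent.Lib.Helper9.H9AbIdx

open Cfsg Cfsg.FusionSystem Cfsg.Agent.Lib.Helper9

variable {Ω : Type*} [Group Ω] {S : Subgroup Ω} [Finite S] {p : ℕ} [hp : Fact p.Prime]
  {A : Subgroup Ω}

theorem ess_eq_of_le (C : Ctx p S A) (F : FusionSystem S) {P : Subgroup Ω}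
    (hP : F.IsEssential p P) (hPA : P ≤ A) : P = A := by
  apply le_antisymm hPA
  intro a ha
  exact ess_centric F hP (C.hAS ha) (fun g hg => C.hcomm a ha g (hPA hg))

theorem ess_ZS_le (F : FusionSystem S) {P : Subgroup Ω} (hP : F.IsEssential p P) : ZS S ≤ P := by
  intro z hz
  obtain ⟨hzS, hz2⟩ := mem_ZS_iff.mp hz
  exact ess_centric F hP hzS (fun g hg => (hz2 g (ess_le F hP hg)).symm)

theorem relIndex_self_normalizerIn (C : Ctx p S A) : A.relIndex (normalizerIn S A) = p := by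
  have h1 : normalizerIn S A = S := by
    apply le_antisymm inf_le_left
    intro s hs
    exact ⟨hs, C.zpowers_le_normalizer hs (Subgroup.mem_zpowers s)⟩
  rw [h1]
  exact C.hidx

/-- an element of `S` commuting with `w ∉ A` is `w ^ k * z` with `z` central -/
theorem Ctx.exists_decomp_of_comm (C : Ctx p S A) {w : Ω} (hw : w ∈ S) (hwA : w ∉ A) {s : Ω}
    (hs : s ∈ S) (hsw : s * w = w * s) : ∃ k : ℤ, ∃ z ∈ ZS S, s = w ^ k * z := by
  obtain ⟨k, a, ha, rfl⟩ := C.exists_decomp hw hwA hs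
  refine ⟨k, a, ?_, rfl⟩
  have h1 : Commute (w ^ k * a) w := hsw
  have h2 : Commute (w ^ k) w := (Commute.refl w).zpow_left k
  have h3 : Commute a w := by
    have h4 : a = (w ^ k)⁻¹ * (w ^ k * a) := by group
    rw [h4]
    exact Commute.mul_left h2.inv_left h1
  exact C.mem_ZS_of_comm hw hwA ha h3

/-- two elements of `S` commuting with the same `w ∉ A` commute -/
theorem Ctx.comm_of_comm (C : Ctx p S A) {w : Ω} (hw : w ∈ S) (hwA : w ∉ A) {s t : Ω}
    (hs : s ∈ S) (ht : t ∈ S) (hsw : s * w = w * s) (htw : t * w = w * t) : s * t = t * s := by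
  obtain ⟨k, a, ha, rfl⟩ := C.exists_decomp_of_comm hw hwA hs hsw
  obtain ⟨l, b, hb, rfl⟩ := C.exists_decomp_of_comm hw hwA ht htw
  obtain ⟨haS, ha2⟩ := mem_ZS_iff.mp ha
  obtain ⟨hbS, hb2⟩ := mem_ZS_iff.mp hb
  have hwa : Commute w a := ha2 w hw
  have hwb : Commute w b := hb2 w hw
  exact Ctx.comm_four ((Commute.refl w).zpow_zpow k l) (hb2 a haS) (hwa.zpow_left k)
    (hwb.zpow_left k) (hwa.zpow_left l) (hwb.zpow_left l)

/-- **the abelian case** -/
theorem ess_abelian_case (C : Ctx p S A) (hS : IsPGroup p S) (F : FusionSystem S)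
    (hF : F.IsSaturated p) {P : Subgroup Ω} (hP : F.IsEssential p P) {x : Ω} (hxP : x ∈ P)
    (hxA : x ∉ A) (hab : ∀ g ∈ P, g * x = x * g) :
    P = ZS S ⊔ Subgroup.zpowers x ∧ P ⊓ A = ZS S ∧ P.relIndex (normalizerIn S P) = p ∧
      normalizerIn S P ⊓ A = Z2 S ⊓ A := by
  have hPS := ess_le F hP
  have hxS := hPS hxP
  have hZP := ess_ZS_le F hP
  have hPA : P ⊓ A = ZS S := by
    apply le_antisymm
    · rintro a ⟨haP, haA⟩
      exact C.mem_ZS_of_comm hxS hxA haA (hab a haP)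
    · exact le_inf hZP C.ZS_le_A
  have hPeq : P = ZS S ⊔ Subgroup.zpowers x := by
    apply le_antisymm
    · intro g hg
      exact C.mem_sup_of_comm hxS hxA (hPS hg) (hab g hg)
    · exact sup_le hZP (by rw [Subgroup.zpowers_le]; exact hxP)
  have hcommP : ∀ a ∈ P, ∀ b ∈ P, a * b = b * a := by
    intro a ha b hb
    exact C.comm_of_comm hxS hxA (hPS ha) (hPS hb) (hab a ha) (hab b hb)
  have hZidx : (ZS S).relIndex P = p := by
    have h1 : ZS S = A ⊓ P := by rw [inf_comm]; exact hPA.symm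
    rw [h1, Subgroup.inf_relIndex_right]
    exact C.relIndex_of_not_le hPS hxP hxA
  have hNA : normalizerIn S P ⊓ A = Z2 S ⊓ A := by
    apply le_antisymm
    · rintro b ⟨⟨hbS, hbN⟩, hbA⟩
      have hbA : b ∈ A := hbA
      have hbN : b ∈ Subgroup.normalizer (P : Set Ω) := hbN
      refine ⟨?_, hbA⟩
      apply C.mem_Z2_of_comm hxS hxA hbA
      have h1 : b * x * b⁻¹ ∈ P := (Subgroup.mem_normalizer_iff.mp hbN x).mp hxP
      have h2 : b * x * b⁻¹ * x⁻¹ ∈ P ⊓ A := by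
        refine ⟨P.mul_mem h1 (P.inv_mem hxP), ?_⟩
        have h3 : b * x * b⁻¹ * x⁻¹ = b * (x * b⁻¹ * x⁻¹) := by group
        rw [h3]
        exact A.mul_mem hbA (C.normal hxS (A.inv_mem hbA))
      rw [hPA] at h2
      exact h2
    · rintro b ⟨hbZ, hbA⟩
      have hbZ' : b ∈ Z2 S := hbZ
      have hbA' : b ∈ A := hbA
      refine ⟨⟨C.hAS hbA', ?_⟩, hbA'⟩
      show b ∈ Subgroup.normalizer (P : Set Ω)
      rw [Subgroup.mem_normalizer_iff]
      intro h
      constructor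
      · intro hh
        exact Ctx.conj_mem_of_mem_Z2 S hPS hZP hbZ' hh
      · intro hh
        have h1 := Ctx.conj_mem_of_mem_Z2 S hPS hZP ((Z2 S).inv_mem hbZ') hh
        have h2 : b⁻¹ * (b * h * b⁻¹) * b⁻¹⁻¹ = h := by group
        rwa [h2] at h1
  refine ⟨hPeq, hPA, ?_, hNA⟩
  apply ess_relIndex_of_abelian p hS F hF hP hcommP (ZS S) hZidx
  · intro n hnS _ z hz _
    have := (mem_ZS_iff.mp hz).2 n hnS
    rw [this, mul_inv_cancel_right]
  · intro n hnS hnN g hg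
    obtain ⟨j, b, hbA, rfl⟩ := C.exists_decomp hxS hxA hnS
    have hxjP : x ^ j ∈ P := P.zpow_mem hxP j
    have hbN : b ∈ Subgroup.normalizer (P : Set Ω) := by
      have h1 : b = (x ^ j)⁻¹ * (x ^ j * b) := by group
      rw [h1]
      exact Subgroup.mul_mem _ (Subgroup.inv_mem _ (Subgroup.le_normalizer hxjP)) hnN
    have hbg : b * g * b⁻¹ ∈ P := (Subgroup.mem_normalizer_iff.mp hbN g).mp hg
    have h1 : x ^ j * b * g * (x ^ j * b)⁻¹ = b * g * b⁻¹ := by
      have h2 := hcommP (x ^ j) hxjP (b * g * b⁻¹) hbg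
      calc x ^ j * b * g * (x ^ j * b)⁻¹ = (x ^ j * (b * g * b⁻¹)) * (x ^ j)⁻¹ := by group
        _ = (b * g * b⁻¹ * x ^ j) * (x ^ j)⁻¹ := by rw [h2]
        _ = b * g * b⁻¹ := by group
    rw [h1, ← hPA]
    refine ⟨P.mul_mem (P.inv_mem hg) hbg, ?_⟩
    have h3 : g⁻¹ * (b * g * b⁻¹) = (g⁻¹ * b * g) * b⁻¹ := by group
    rw [h3]
    exact A.mul_mem (C.normal' (hPS hg) hbA) (A.inv_mem hbA)

/-- in the nonabelian case some automorphism in `Aut_F(P)` moves `P ∩ A` -/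
theorem ess_exists_aut_not_inv (C : Ctx p S A) (hS : IsPGroup p S) (F : FusionSystem S)
    (hF : F.IsSaturated p) {P : Subgroup Ω} (hP : F.IsEssential p P) {x : Ω} (hxP : x ∈ P)
    (hxA : x ∉ A) : ∃ α ∈ F.autGroup P, ∃ w : P, (w : Ω) ∈ A ∧ ((α w : P) : Ω) ∉ A := by
  have hPS := ess_le F hP
  by_contra hcon
  push Not at hcon
  obtain ⟨n, hnS, hnN, hnP⟩ := ess_exists_normalizing p hS F hF hP
  obtain ⟨k, b, hbA, rfl⟩ := C.exists_decomp (hPS hxP) hxA hnS
  have hxkP : x ^ k ∈ P := P.zpow_mem hxP k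
  have hbN : b ∈ Subgroup.normalizer (P : Set Ω) := by
    have h1 : b = (x ^ k)⁻¹ * (x ^ k * b) := by group
    rw [h1]
    exact Subgroup.mul_mem _ (Subgroup.inv_mem _ (Subgroup.le_normalizer hxkP)) hnN
  apply hnP
  apply P.mul_mem hxkP
  apply ess_rad p hS F hP A hcon (C.hAS hbA) hbN
  · intro w hwA _
    rw [C.hcomm b hbA w hwA, mul_inv_cancel_right]
  · intro g hg
    have h3 : g⁻¹ * (b * g * b⁻¹) = (g⁻¹ * b * g) * b⁻¹ := by group
    rw [h3]
    exact A.mul_mem (C.normal' (hPS hg) hbA) (A.inv_mem hbA)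

end Cfsg.Agent.Lib.Helper9.H9AbIdx
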