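import Mathlib
import Cfsg.Prelude
import Cfsg.Agent.Lib.Helper9.AbIdx5

set_option autoImplicit false

/-!
# Essential subgroups over a `p`-group with an abelian subgroup of index `p`: the nonabelian case
-/

namespace Cfsg.Agent.Lib.Helper9.H9AbIdx

open Cfsg Cfsg.FusionSystem Cfsg.Agent.Lib.Helper9

variable {Ω : Type*} [Group Ω] {S : Subgroup Ω} [Finite S] {p : ℕ} [hp : Fact p.Prime]
  {A : Subgroup Ω}

theorem aut_comm (C : Ctx p S A) {P : Subgroup Ω} (α : MulAut P) {v v' : P} (hv : (v : Ω) ∈ A)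
    (hv' : (v' : Ω) ∈ A) :
    ((α v : P) : Ω) * ((α v' : P) : Ω) = ((α v' : P) : Ω) * ((α v : P) : Ω) := by
  have h1 : v * v' = v' * v := Subtype.ext (C.hcomm v hv v' hv')
  have h2 := congrArg (fun z : P => ((α z : P) : Ω)) h1
  simpa [map_mul] using h2

theorem aut_conj (C : Ctx p S A) {P : Subgroup Ω} (hPS : P ≤ S) (α : MulAut P) (g : P) {v : P}
    (hv : (v : Ω) ∈ A) :
    ∃ v' : P, (v' : Ω) ∈ A ∧ (g : Ω) * ((α v : P) : Ω) * (g : Ω)⁻¹ = ((α v' : P) : Ω) := by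
  refine ⟨(α⁻¹ g) * v * (α⁻¹ g)⁻¹, ?_, ?_⟩
  · show ((α⁻¹ g : P) : Ω) * v * ((α⁻¹ g : P) : Ω)⁻¹ ∈ A
    exact C.normal (hPS (α⁻¹ g).2) hv
  · rw [map_mul, map_mul, map_inv, MulAut.apply_inv_self]
    rfl

theorem mem_Z2_of_aut (C : Ctx p S A) {P : Subgroup Ω} (hPS : P ≤ S) (α : MulAut P) {w : P}
    (hwA : (w : Ω) ∈ A) (hyA : ((α w : P) : Ω) ∉ A) {g : Ω} (hgP : g ∈ P) (hgA : g ∈ A) :
    g ∈ Z2 S := by
  obtain ⟨v', hv'A, hv'⟩ := aut_conj C hPS α ⟨g, hgP⟩ hwA
  have hcomm := aut_comm C α hv'A hwA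
  obtain ⟨y, hydef⟩ : ∃ y : Ω, y = ((α w : P) : Ω) := ⟨_, rfl⟩
  obtain ⟨a, hadef⟩ : ∃ a : Ω, a = ((α v' : P) : Ω) := ⟨_, rfl⟩
  have hyS : y ∈ S := by rw [hydef]; exact hPS (α w).2
  rw [← hydef] at hyA hcomm hv'
  rw [← hadef] at hcomm hv'
  have hv'' : g * y * g⁻¹ = a := hv'
  have hzA : g * y * g⁻¹ * y⁻¹ ∈ A := by
    have h : g * y * g⁻¹ * y⁻¹ = g * (y * g⁻¹ * y⁻¹) := by group
    rw [h]
    exact A.mul_mem hgA (C.normal hyS (A.inv_mem hgA))
  have hzy : (g * y * g⁻¹ * y⁻¹) * y = y * (g * y * g⁻¹ * y⁻¹) := by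
    rw [hv'']
    calc (a * y⁻¹) * y = a := by group
      _ = (y * a) * y⁻¹ := by rw [← hcomm]; group
      _ = y * (a * y⁻¹) := by group
  have hzZ := C.mem_ZS_of_comm hyS hyA hzA hzy
  exact C.mem_Z2_of_comm hyS hyA hgA hzZ

/-- **the nonabelian case** -/
theorem ess_nonabelian_case (C : Ctx p S A) (hS : IsPGroup p S) (F : FusionSystem S)
    (hF : F.IsSaturated p) {P : Subgroup Ω} (hP : F.IsEssential p P) {x : Ω} (hxP : x ∈ P)
    (hxA : x ∉ A) {g₁ : Ω} (hg₁ : g₁ ∈ P) (hne : g₁ * x ≠ x * g₁) :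
    Z2 S ≤ A ∧ P = Z2 S ⊔ Subgroup.zpowers x ∧ P ⊓ A = Z2 S ∧ (ZS S).relIndex (Z2 S) = p ∧
      P.relIndex (normalizerIn S P) = p := by
  have hPS := ess_le F hP
  have hxS := hPS hxP
  have hZP := ess_ZS_le F hP
  obtain ⟨α, -, w, hwA, hyA⟩ := ess_exists_aut_not_inv C hS F hF hP hxP hxA
  have hN3 : ∀ g ∈ P, g ∈ A → g ∈ Z2 S := fun g hgP hgA => mem_Z2_of_aut C hPS α hwA hyA hgP hgA
  have hN4 : ∀ c ∈ P, (∀ g ∈ P, c * g = g * c) → c ∈ A := by
    intro c hcP hc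
    by_contra hcA
    apply hne
    exact C.comm_of_comm (hPS hcP) hcA (hPS hg₁) hxS (hc g₁ hg₁).symm (hc x hxP).symm
  have hN5 : ∀ b ∈ A, b ∈ Z2 S → b ∈ P := by
    intro b hbA hbZ
    have hbN : b ∈ Subgroup.normalizer (P : Set Ω) := by
      rw [Subgroup.mem_normalizer_iff]
      intro h
      constructor
      · intro hh
        exact Ctx.conj_mem_of_mem_Z2 S hPS hZP hbZ hh
      · intro hh
        have h1 := Ctx.conj_mem_of_mem_Z2 S hPS hZP ((Z2 S).inv_mem hbZ) hh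
        have h2 : b⁻¹ * (b * h * b⁻¹) * b⁻¹⁻¹ = h := by group
        rwa [h2] at h1
    apply ess_rad p hS F hP (P ⊓ Subgroup.centralizer (P : Set Ω)) ?_ (C.hAS hbA) hbN ?_ ?_
    · intro α' _ w' hw'
      refine ⟨(α' w').2, ?_⟩
      show ((α' w' : P) : Ω) ∈ Subgroup.centralizer (P : Set Ω)
      rw [Subgroup.mem_centralizer_iff]
      intro h hh
      have hw'c : (w' : Ω) ∈ Subgroup.centralizer (P : Set Ω) := hw'.2
      rw [Subgroup.mem_centralizer_iff] at hw'c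
      have h1 : (α'⁻¹ ⟨h, hh⟩) * w' = w' * (α'⁻¹ ⟨h, hh⟩) :=
        Subtype.ext (hw'c _ (α'⁻¹ ⟨h, hh⟩).2)
      have h2 := congrArg (fun z : P => ((α' z : P) : Ω)) h1
      simp only [map_mul, MulAut.apply_inv_self, Subgroup.coe_mul] at h2
      exact h2
    · intro w' hw' _
      have hw'c : w' ∈ Subgroup.centralizer (P : Set Ω) := hw'.2
      rw [Subgroup.mem_centralizer_iff] at hw'c
      have hw'A : w' ∈ A := hN4 w' hw'.1 (fun g hg => (hw'c g hg).symm)
      rw [C.hcomm b hbA w' hw'A, mul_inv_cancel_right]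
    · intro g hg
      have hc := (mem_Z2_iff.mp hbZ).2 g (hPS hg)
      obtain ⟨hcS, hc2⟩ := mem_ZS_iff.mp hc
      have h1 : g⁻¹ * (b * g * b⁻¹) = b * g * b⁻¹ * g⁻¹ := by
        have := hc2 g (hPS hg)
        calc g⁻¹ * (b * g * b⁻¹) = g⁻¹ * ((b * g * b⁻¹ * g⁻¹) * g) := by group
          _ = g⁻¹ * (g * (b * g * b⁻¹ * g⁻¹)) := by rw [this]
          _ = b * g * b⁻¹ * g⁻¹ := by group
      rw [h1]
      refine ⟨hZP hc, ?_⟩
      show _ ∈ Subgroup.centralizer (P : Set Ω)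
      rw [Subgroup.mem_centralizer_iff]
      intro h hh
      exact hc2 h (hPS hh)
  have hN6 : Z2 S ≤ A := by
    by_contra hcon
    obtain ⟨w', hw'Z, hw'A⟩ := SetLike.not_le_iff_exists.mp hcon
    have hle := C.le_Z2_of_not_le hw'Z hw'A
    have hAP : A ≤ P := fun a ha => hN5 a ha (hle ha)
    apply ess_ne p hS F hF hP
    apply le_antisymm hPS
    rw [← C.sup_zpowers hxS hxA]
    exact sup_le hAP (by rw [Subgroup.zpowers_le]; exact hxP)
  have hPA : P ⊓ A = Z2 S := by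
    apply le_antisymm
    · rintro g ⟨hgP, hgA⟩
      exact hN3 g hgP hgA
    · intro b hb
      exact ⟨hN5 b (hN6 hb) hb, hN6 hb⟩
  have hPeq : P = Z2 S ⊔ Subgroup.zpowers x := by
    apply le_antisymm
    · intro g hg
      obtain ⟨k, a, ha, haP, rfl⟩ := C.exists_decomp_in hPS hxP hxA hg
      refine Subgroup.mul_mem _ (Subgroup.mem_sup_right (Subgroup.zpow_mem _ (Subgroup.mem_zpowers x) k))
        (Subgroup.mem_sup_left ?_)
      rw [← hPA]
      exact ⟨haP, ha⟩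
    · refine sup_le ?_ (by rw [Subgroup.zpowers_le]; exact hxP)
      rw [← hPA]
      exact inf_le_left
  have hN8 : (ZS S).relIndex (P ⊓ A) = p := by
    haveI : Finite P := fs_finite_of_le hPS
    obtain ⟨P₀, hP₀def⟩ : ∃ P₀ : Subgroup P, P₀ = A.subgroupOf P := ⟨_, rfl⟩
    obtain ⟨B, hBdef⟩ : ∃ B : Subgroup P, B = P₀.map α.toMonoidHom := ⟨_, rfl⟩
    obtain ⟨Z', hZ'def⟩ : ∃ Z' : Subgroup P, Z' = (ZS S).subgroupOf P := ⟨_, rfl⟩
    have hP₀idx : P₀.index = p := by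
      rw [hP₀def]; exact C.relIndex_of_not_le hPS hxP hxA
    have hBidx : B.index = p := by
      rw [hBdef]; exact (Subgroup.index_map_equiv P₀ α).trans hP₀idx
    have hP₀n : P₀.Normal := by
      rw [hP₀def]
      constructor
      intro n hn g
      rw [Subgroup.mem_subgroupOf] at hn ⊢
      exact C.normal (hPS g.2) hn
    have hBn : B.Normal := by
      rw [hBdef]; exact hP₀n.map α.toMonoidHom α.surjective
    have hcen : ∀ v : P, (v : Ω) ∈ ZS S → ∀ β : MulAut P, ((β v : P) : Ω) ∈ A := by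
      intro v hv β
      apply hN4 _ (β v).2
      intro g hg
      have h1 : v * (β⁻¹ ⟨g, hg⟩) = (β⁻¹ ⟨g, hg⟩) * v :=
        Subtype.ext ((mem_ZS_iff.mp hv).2 _ (hPS (β⁻¹ ⟨g, hg⟩).2)).symm
      have h2 := congrArg (fun z : P => ((β z : P) : Ω)) h1
      simp only [map_mul, MulAut.apply_inv_self, Subgroup.coe_mul] at h2
      exact h2
    have hinf : P₀ ⊓ B = Z' := by
      ext v
      rw [Subgroup.mem_inf, hBdef, hP₀def, hZ'def, Subgroup.mem_subgroupOf, Subgroup.mem_subgroupOf]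
      constructor
      · rintro ⟨hvA, u, hu, rfl⟩
        have hu' : (u : Ω) ∈ A := by
          have : u ∈ A.subgroupOf P := hu
          rwa [Subgroup.mem_subgroupOf] at this
        have h1 := aut_comm C α hu' hwA
        exact C.mem_ZS_of_comm (hPS (α w).2) hyA hvA h1
      · intro hv
        refine ⟨C.ZS_le_A hv, α⁻¹ v, ?_, ?_⟩
        · show α⁻¹ v ∈ A.subgroupOf P
          rw [Subgroup.mem_subgroupOf]; exact hcen v hv α⁻¹
        · simp
    have hrel : Z'.relIndex P₀ ∣ p := by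
      rw [← hinf, Subgroup.inf_relIndex_left, ← hBidx]
      exact Subgroup.relIndex_dvd_index_of_normal B P₀
    have hne1 : Z'.relIndex P₀ ≠ 1 := by
      intro h
      have hle := Subgroup.relIndex_eq_one.mp h
      have hwP₀ : w ∈ P₀ := by rw [hP₀def, Subgroup.mem_subgroupOf]; exact hwA
      have hwZ := hle hwP₀
      rw [hZ'def, Subgroup.mem_subgroupOf] at hwZ
      exact hyA (hcen w hwZ α)
    have hp' : Z'.relIndex P₀ = p := by
      rcases (Nat.dvd_prime hp.out).mp hrel with h | h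
      · exact absurd h hne1
      · exact h
    rw [hZ'def, hP₀def, ← Subgroup.inf_subgroupOf_left A P,
      Subgroup.relIndex_subgroupOf inf_le_left] at hp'
    exact hp'
  have hN9 : P.relIndex (normalizerIn S P) = p := by
    obtain ⟨N, hNdef⟩ : ∃ N : Subgroup Ω, N = normalizerIn S P := ⟨_, rfl⟩
    rw [← hNdef]
    have hNS : N ≤ S := by rw [hNdef]; exact inf_le_left
    have hNn : N ≤ Subgroup.normalizer (P : Set Ω) := by rw [hNdef]; exact inf_le_right
    have hPN : P ≤ N := by rw [hNdef]; exact le_inf hPS Subgroup.le_normalizer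
    have h1 := C.relIndex_inf_eq hNS hPN hNn hxP hxA
    have hle : (P ⊓ A).relIndex (N ⊓ A) ≤ p := by
      obtain ⟨ν, hνdef⟩ : ∃ ν : ↥A →* ↥A, ν = C.nu hxS := ⟨_, rfl⟩
      have hmap : ((N ⊓ A).subgroupOf A).map ν ≤ (P ⊓ A).subgroupOf A := by
        rintro _ ⟨b, hb, rfl⟩
        have hb' : (b : Ω) ∈ N ⊓ A := by
          have : b ∈ (N ⊓ A).subgroupOf A := hb
          rwa [Subgroup.mem_subgroupOf] at this
        rw [Subgroup.mem_subgroupOf]
        refine ⟨?_, (ν b).2⟩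
        rw [hνdef, Ctx.nu_apply]
        have hbN := hNn hb'.1
        have := (Subgroup.mem_normalizer_iff.mp hbN x).mp hxP
        exact P.mul_mem this (P.inv_mem hxP)
      have hcomap : ((ZS S).subgroupOf A).comap ν = (P ⊓ A).subgroupOf A := by
        rw [hνdef, C.nu_comap_ZS hxS hxA, hPA]
      have h2 : ((P ⊓ A).subgroupOf A).relIndex ((N ⊓ A).subgroupOf A) =
          ((ZS S).subgroupOf A).relIndex (((N ⊓ A).subgroupOf A).map ν) := by
        rw [← hcomap, Subgroup.relIndex_comap]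
      have hne0 : ((ZS S).subgroupOf A).relIndex ((P ⊓ A).subgroupOf A) ≠ 0 := by
        rw [Subgroup.relIndex_subgroupOf inf_le_right, hN8]; exact hp.out.ne_zero
      have h3 := Subgroup.relIndex_le_of_le_right hmap hne0
      rw [← h2, Subgroup.relIndex_subgroupOf inf_le_right,
        Subgroup.relIndex_subgroupOf inf_le_right, hN8] at h3
      exact h3
    rw [← h1] at hle
    have hlt : P < S := lt_of_le_of_ne hPS (ess_ne p hS F hF hP)
    have h8 := fs_lt_normalizerIn p hS hlt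
    rw [← hNdef] at h8
    have h9 : P.relIndex N ≠ 1 := by
      intro h
      exact not_le_of_gt h8 (Subgroup.relIndex_eq_one.mp h)
    haveI : Finite N := fs_finite_of_le hNS
    obtain ⟨k, hk⟩ := IsPGroup.iff_card.mp (hS.to_le hNS)
    have h10 : P.relIndex N ∣ p ^ k := by
      rw [← hk]; exact Subgroup.relIndex_dvd_card _ _
    exact eq_of_dvd_pow_of_le h10 h9 hle
  refine ⟨hN6, hPeq, hPA, ?_, hN9⟩
  rw [← hPA]
  exact hN8

end Cfsg.Agent.Lib.Helper9.H9AbIdx
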