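import Mathlib
import Cfsg.Agent.Lib.Helper9.AbIdx4

set_option autoImplicit false

/-!
# The commutator subgroup and the lower central series of a `p`-group with an abelian subgroup of
index `p`
-/

namespace Cfsg.Agent.Lib.Helper9.H9AbIdx

open scoped commutatorElement

variable {Ω : Type*} [Group Ω]

theorem card_map_eq_relIndex {G H : Type*} [Group G] [Group H] (f : G →* H) (K : Subgroup G) :
    Nat.card (K.map f) = f.ker.relIndex K := by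
  rw [← Subgroup.relIndex_bot_left, ← Subgroup.relIndex_comap, MonoidHom.comap_bot]

theorem card_eq_inf_ker_mul_map {G H : Type*} [Group G] [Group H] (f : G →* H) (K : Subgroup G) :
    Nat.card K = Nat.card ↥(f.ker ⊓ K) * Nat.card (K.map f) := by
  have h1 := Subgroup.relIndex_mul_relIndex ⊥ (f.ker ⊓ K) K bot_le inf_le_right
  rw [Subgroup.relIndex_bot_left, Subgroup.relIndex_bot_left, Subgroup.inf_relIndex_right,
    ← card_map_eq_relIndex] at h1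
  exact h1.symm

/-- elements of `S` whose commutator with `t` lies in `D` -/
def commSub (S D : Subgroup Ω) (hnorm : ∀ s ∈ S, ∀ d ∈ D, s * d * s⁻¹ ∈ D) (t : Ω) :
    Subgroup Ω where
  carrier := {s | s ∈ S ∧ s * t * s⁻¹ * t⁻¹ ∈ D}
  one_mem' := ⟨S.one_mem, by simp⟩
  mul_mem' := by
    rintro a b ⟨haS, ha⟩ ⟨hbS, hb⟩
    refine ⟨S.mul_mem haS hbS, ?_⟩
    have h : a * b * t * (a * b)⁻¹ * t⁻¹ =
        (a * (b * t * b⁻¹ * t⁻¹) * a⁻¹) * (a * t * a⁻¹ * t⁻¹) := by group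
    rw [h]
    exact D.mul_mem (hnorm a haS _ hb) ha
  inv_mem' := by
    rintro a ⟨haS, ha⟩
    refine ⟨S.inv_mem haS, ?_⟩
    have h : a⁻¹ * t * a⁻¹⁻¹ * t⁻¹ = a⁻¹ * (a * t * a⁻¹ * t⁻¹)⁻¹ * a⁻¹⁻¹ := by group
    rw [h]
    exact hnorm a⁻¹ (S.inv_mem haS) _ (D.inv_mem ha)

theorem mem_commSub_iff (S D : Subgroup Ω) (hnorm : ∀ s ∈ S, ∀ d ∈ D, s * d * s⁻¹ ∈ D) (t s : Ω) :
    s ∈ commSub S D hnorm t ↔ s ∈ S ∧ s * t * s⁻¹ * t⁻¹ ∈ D := Iff.rfl

namespace Ctx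

variable {p : ℕ} [hp : Fact p.Prime] {S A : Subgroup Ω}

theorem le_of_gens (C : Ctx p S A) {x : Ω} (hxS : x ∈ S) (hxA : x ∉ A) (H : Subgroup Ω)
    (hA : A ≤ H) (hx : x ∈ H) : S ≤ H := by
  have h1 : A ⊔ Subgroup.zpowers x ≤ H := sup_le hA (by rw [Subgroup.zpowers_le]; exact hx)
  intro s hs
  apply h1
  rw [C.sup_zpowers hxS hxA]
  exact hs

/-- if `D` is normalized by `S` and contains `[a, x]` for all `a ∈ A`, it contains all commutators -/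
theorem comm_mem (C : Ctx p S A) {x : Ω} (hxS : x ∈ S) (hxA : x ∉ A) (D : Subgroup Ω)
    (hnorm : ∀ s ∈ S, ∀ d ∈ D, s * d * s⁻¹ ∈ D) (hD : ∀ a ∈ A, a * x * a⁻¹ * x⁻¹ ∈ D) :
    ∀ s ∈ S, ∀ t ∈ S, s * t * s⁻¹ * t⁻¹ ∈ D := by
  have hgen : ∀ t : Ω, (∀ a ∈ A, a * t * a⁻¹ * t⁻¹ ∈ D) → (x * t * x⁻¹ * t⁻¹ ∈ D) →
      ∀ s ∈ S, s * t * s⁻¹ * t⁻¹ ∈ D := by
    intro t h1 h2 s hs
    have hle : S ≤ commSub S D hnorm t :=
      C.le_of_gens hxS hxA _ (fun a ha => ⟨C.hAS ha, h1 a ha⟩) ⟨hxS, h2⟩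
    exact (hle hs).2
  have step1 : ∀ s ∈ S, s * x * s⁻¹ * x⁻¹ ∈ D := hgen x hD (by simp)
  have step2 : ∀ a ∈ A, ∀ s ∈ S, s * a * s⁻¹ * a⁻¹ ∈ D := by
    intro a ha
    apply hgen a
    · intro a' ha'
      rw [C.hcomm a' ha' a ha]
      simp
    · have := D.inv_mem (hD a ha)
      have h : (a * x * a⁻¹ * x⁻¹)⁻¹ = x * a * x⁻¹ * a⁻¹ := by group
      rwa [h] at this
  intro s hs t ht
  have hle : S ≤ commSub S D hnorm s := by
    refine C.le_of_gens hxS hxA _ (fun a ha => ⟨C.hAS ha, ?_⟩) ⟨hxS, ?_⟩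
    · have := D.inv_mem (step2 a ha s hs)
      have h : (s * a * s⁻¹ * a⁻¹)⁻¹ = a * s * a⁻¹ * s⁻¹ := by group
      rwa [h] at this
    · have := D.inv_mem (step1 s hs)
      have h : (s * x * s⁻¹ * x⁻¹)⁻¹ = x * s * x⁻¹ * s⁻¹ := by group
      rwa [h] at this
  have := D.inv_mem (hle ht).2
  have h : (t * s * t⁻¹ * s⁻¹)⁻¹ = s * t * s⁻¹ * t⁻¹ := by group
  rwa [h] at this

/-- the image of `ν` as a subgroup of `Ω` -/
noncomputable def DΩ [Finite S] (C : Ctx p S A) {x : Ω} (hxS : x ∈ S) : Subgroup Ω :=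
  (C.nu hxS).range.map A.subtype

theorem mem_DΩ_iff [Finite S] (C : Ctx p S A) {x : Ω} (hxS : x ∈ S) (d : Ω) :
    d ∈ C.DΩ hxS ↔ ∃ a ∈ A, d = a * x * a⁻¹ * x⁻¹ := by
  unfold DΩ
  constructor
  · rintro ⟨_, ⟨a, rfl⟩, rfl⟩
    exact ⟨a, a.2, rfl⟩
  · rintro ⟨a, ha, rfl⟩
    exact ⟨C.nu hxS ⟨a, ha⟩, ⟨⟨a, ha⟩, rfl⟩, rfl⟩

theorem DΩ_le [Finite S] (C : Ctx p S A) {x : Ω} (hxS : x ∈ S) : C.DΩ hxS ≤ A := by
  unfold DΩ
  rintro _ ⟨d, -, rfl⟩
  exact d.2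

theorem DΩ_normal [Finite S] (C : Ctx p S A) {x : Ω} (hxS : x ∈ S) (hxA : x ∉ A) :
    ∀ s ∈ S, ∀ d ∈ C.DΩ hxS, s * d * s⁻¹ ∈ C.DΩ hxS := by
  haveI : Finite A := Finite.of_injective (Subgroup.inclusion C.hAS)
    (Subgroup.inclusion_injective C.hAS)
  haveI : Finite ((C.DΩ hxS : Subgroup Ω) : Set Ω) :=
    Finite.of_injective (Subgroup.inclusion (C.DΩ_le hxS)) (Subgroup.inclusion_injective _)
  have hx : x ∈ Subgroup.normalizer ((C.DΩ hxS : Subgroup Ω) : Set Ω) := by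
    apply Subgroup.mem_normalizer_fintype
    intro d hd
    have hd' : d ∈ C.DΩ hxS := hd
    rw [mem_DΩ_iff] at hd'
    obtain ⟨a, ha, rfl⟩ := hd'
    show _ ∈ C.DΩ hxS
    rw [mem_DΩ_iff]
    refine ⟨x * a * x⁻¹, C.normal hxS ha, ?_⟩
    group
  have hA : A ≤ Subgroup.normalizer ((C.DΩ hxS : Subgroup Ω) : Set Ω) := by
    intro b hb
    apply Subgroup.mem_normalizer_fintype
    intro d hd
    have hd' : d ∈ C.DΩ hxS := hd
    have hdA := C.DΩ_le hxS hd'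
    rw [C.hcomm b hb d hdA, mul_inv_cancel_right]
    exact hd
  have hle : S ≤ Subgroup.normalizer ((C.DΩ hxS : Subgroup Ω) : Set Ω) :=
    C.le_of_gens hxS hxA _ hA hx
  intro s hs d hd
  exact (Subgroup.mem_normalizer_iff.mp (hle hs) d).mp hd

/-- the commutator subgroup of `S` is the image of `ν` -/
theorem commutator_eq [Finite S] (C : Ctx p S A) {x : Ω} (hxS : x ∈ S) (hxA : x ∉ A) :
    (commutator ↥S).map S.subtype = C.DΩ hxS := by
  apply le_antisymm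
  · rw [Subgroup.map_le_iff_le_comap, commutator_def, Subgroup.commutator_le]
    intro s _ t _
    rw [Subgroup.mem_comap]
    have := C.comm_mem hxS hxA (C.DΩ hxS) (C.DΩ_normal hxS hxA)
      (fun a ha => (C.mem_DΩ_iff hxS _).mpr ⟨a, ha, rfl⟩) s s.2 t t.2
    simpa [commutatorElement_def] using this
  · intro d hd
    rw [mem_DΩ_iff] at hd
    obtain ⟨a, ha, rfl⟩ := hd
    refine ⟨⁅(⟨a, C.hAS ha⟩ : S), (⟨x, hxS⟩ : S)⁆, ?_, ?_⟩
    · rw [SetLike.mem_coe, commutator_def]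
      exact Subgroup.commutator_mem_commutator (Subgroup.mem_top _) (Subgroup.mem_top _)
    · simp [commutatorElement_def]

/-- `|Z(S) ∩ [S,S]| = |Z₂(S) : Z(S)|` when `Z₂(S) ≤ A` -/
theorem card_ZS_inf_commutator [Finite S] (C : Ctx p S A) {x : Ω} (hxS : x ∈ S) (hxA : x ∉ A)
    (hZ2A : Z2 S ≤ A) :
    Nat.card ↥(ZS S ⊓ (commutator ↥S).map S.subtype) = (ZS S).relIndex (Z2 S) := by
  rw [C.commutator_eq hxS hxA]
  obtain ⟨ν, hνdef⟩ : ∃ ν : ↥A →* ↥A, ν = C.nu hxS := ⟨_, rfl⟩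
  have hker : ν.ker = (ZS S).subgroupOf A := by rw [hνdef]; exact C.nu_ker hxS hxA
  have hcomap : ((ZS S).subgroupOf A).comap ν = (Z2 S).subgroupOf A := by
    rw [hνdef]; exact C.nu_comap_ZS hxS hxA
  have h1 : ZS S ⊓ C.DΩ hxS = (((ZS S).subgroupOf A) ⊓ ν.range).map A.subtype := by
    rw [Subgroup.map_inf _ _ _ A.subtype_injective, Subgroup.subgroupOf_map_subtype,
      inf_eq_left.mpr C.ZS_le_A, hνdef]
    rfl
  have h2 : ((ZS S).subgroupOf A) ⊓ ν.range = ((Z2 S).subgroupOf A).map ν := by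
    ext d
    constructor
    · rintro ⟨hdZ, a, rfl⟩
      refine ⟨a, ?_, rfl⟩
      rw [← hcomap]
      exact hdZ
    · rintro ⟨a, ha, rfl⟩
      refine ⟨?_, a, rfl⟩
      have : a ∈ ((ZS S).subgroupOf A).comap ν := by rw [hcomap]; exact ha
      exact this
  rw [h1, Subgroup.card_map_of_injective A.subtype_injective, h2, card_map_eq_relIndex, hker,
    Subgroup.relIndex_subgroupOf hZ2A]

/-- `|A : Z(S)[S,S]| = |Z(S) ∩ [S,S]|` -/
theorem index_ZS_sup_commutator [Finite S] (C : Ctx p S A) {x : Ω} (hxS : x ∈ S) (hxA : x ∉ A) :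
    ((ZS S ⊔ (commutator ↥S).map S.subtype).subgroupOf A).index =
      Nat.card ↥(ZS S ⊓ (commutator ↥S).map S.subtype) := by
  rw [C.commutator_eq hxS hxA]
  haveI : Finite A := Finite.of_injective (Subgroup.inclusion C.hAS)
    (Subgroup.inclusion_injective C.hAS)
  obtain ⟨ν, hνdef⟩ : ∃ ν : ↥A →* ↥A, ν = C.nu hxS := ⟨_, rfl⟩
  have hker : ν.ker = (ZS S).subgroupOf A := by rw [hνdef]; exact C.nu_ker hxS hxA
  obtain ⟨Z', hZ'def⟩ : ∃ Z' : Subgroup A, Z' = (ZS S).subgroupOf A := ⟨_, rfl⟩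
  obtain ⟨R, hRdef⟩ : ∃ R : Subgroup A, R = ν.range := ⟨_, rfl⟩
  have hDR : (C.DΩ hxS).subgroupOf A = R := by
    rw [hRdef, hνdef]
    unfold DΩ
    exact Subgroup.comap_map_eq_self_of_injective A.subtype_injective _
  have h1 : (ZS S ⊔ C.DΩ hxS).subgroupOf A = Z' ⊔ R := by
    rw [Subgroup.subgroupOf_sup C.ZS_le_A (C.DΩ_le hxS), hDR, hZ'def]
  have h2 : ZS S ⊓ C.DΩ hxS = (Z' ⊓ R).map A.subtype := by
    rw [Subgroup.map_inf _ _ _ A.subtype_injective, hZ'def, Subgroup.subgroupOf_map_subtype,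
      inf_eq_left.mpr C.ZS_le_A, hRdef, hνdef]
    rfl
  rw [h1, h2, Subgroup.card_map_of_injective A.subtype_injective]
  -- now in `A`
  haveI : Z'.Normal := ⟨fun n hn g => by
    have : g * n * g⁻¹ = n := by
      apply Subtype.ext
      show (g : Ω) * n * (g : Ω)⁻¹ = n
      rw [C.hcomm g g.2 n n.2, mul_inv_cancel_right]
    rw [this]; exact hn⟩
  have h3 : Z'.relIndex (Z' ⊔ R) = (Z' ⊓ R).relIndex R := by
    rw [Subgroup.relIndex_sup_left, Subgroup.inf_relIndex_right]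
  have h4 : Z'.relIndex (Z' ⊔ R) * (Z' ⊔ R).index = Z'.index :=
    Subgroup.relIndex_mul_index le_sup_left
  have h5 : Z'.index = Nat.card R := by
    rw [hZ'def, ← hker, hRdef]; exact Subgroup.index_ker ν
  have h6 : Nat.card ↥(Z' ⊓ R) * (Z' ⊓ R).relIndex R = Nat.card R := by
    have := Subgroup.relIndex_mul_relIndex ⊥ (Z' ⊓ R) R bot_le inf_le_right
    rwa [Subgroup.relIndex_bot_left, Subgroup.relIndex_bot_left] at this
  have h7 : (Z' ⊓ R).relIndex R ≠ 0 := Subgroup.index_ne_zero_of_finite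
  rw [h3, h5, ← h6] at h4
  have h8 : (Z' ⊓ R).relIndex R * (Z' ⊔ R).index = (Z' ⊓ R).relIndex R * Nat.card ↥(Z' ⊓ R) := by
    rw [h4, mul_comm]
  exact Nat.eq_of_mul_eq_mul_left (Nat.pos_of_ne_zero h7) h8

end Ctx

end Cfsg.Agent.Lib.Helper9.H9AbIdx
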