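import Mathlib
import Cfsg.Agent.Lib.Helper9.AbIdx7

set_option autoImplicit false

/-!
# The lower central series of a `p`-group with an abelian subgroup of index `p`
-/

namespace Cfsg.Agent.Lib.Helper9.H9AbIdx

open scoped commutatorElement

variable {Ω : Type*} [Group Ω]

namespace Ctx

variable {p : ℕ} [hp : Fact p.Prime] {S A : Subgroup Ω}

/-- iterated images of `ν` -/
noncomputable def Aimg [Finite S] (C : Ctx p S A) {x : Ω} (hxS : x ∈ S) : ℕ → Subgroup ↥A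
  | 0 => ⊤
  | (k + 1) => (Aimg C hxS k).map (C.nu hxS)

theorem Aimg_succ [Finite S] (C : Ctx p S A) {x : Ω} (hxS : x ∈ S) (k : ℕ) :
    C.Aimg hxS (k + 1) = (C.Aimg hxS k).map (C.nu hxS) := rfl

theorem Aimg_zero [Finite S] (C : Ctx p S A) {x : Ω} (hxS : x ∈ S) : C.Aimg hxS 0 = ⊤ := rfl

theorem Aimg_one [Finite S] (C : Ctx p S A) {x : Ω} (hxS : x ∈ S) :
    C.Aimg hxS 1 = (C.nu hxS).range := by
  rw [Aimg_succ, Aimg_zero, MonoidHom.range_eq_map]

theorem Aimg_anti [Finite S] (C : Ctx p S A) {x : Ω} (hxS : x ∈ S) (k : ℕ) :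
    C.Aimg hxS (k + 1) ≤ C.Aimg hxS k := by
  induction k with
  | zero => rw [Aimg_zero]; exact le_top
  | succ k ih => rw [Aimg_succ, Aimg_succ C hxS k]; exact Subgroup.map_mono ih

theorem Aimg_le_one [Finite S] (C : Ctx p S A) {x : Ω} (hxS : x ∈ S) (j : ℕ) :
    C.Aimg hxS (j + 1) ≤ C.Aimg hxS 1 := by
  induction j with
  | zero => exact le_refl _
  | succ j ih => exact le_trans (C.Aimg_anti hxS (j + 1)) ih

theorem Aimg_le_lcs [Finite S] (C : Ctx p S A) {x : Ω} (hxS : x ∈ S) (k : ℕ) :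
    (C.Aimg hxS k).map A.subtype ≤ S.lowerCentralSeries k := by
  induction k with
  | zero =>
    rw [Subgroup.lowerCentralSeries_zero]
    rintro _ ⟨a, -, rfl⟩
    exact C.hAS a.2
  | succ k ih =>
    rw [Subgroup.lowerCentralSeries_succ, Aimg_succ]
    rintro _ ⟨_, ⟨d, hd, rfl⟩, rfl⟩
    have h1 : (d : Ω) ∈ S.lowerCentralSeries k := ih ⟨d, hd, rfl⟩
    have h2 := Subgroup.commutator_mem_commutator h1 hxS
    rw [commutatorElement_def] at h2
    exact h2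

theorem ZS_inf_DΩ [Finite S] (C : Ctx p S A) {x : Ω} (hxS : x ∈ S) :
    ZS S ⊓ C.DΩ hxS = (((ZS S).subgroupOf A) ⊓ (C.nu hxS).range).map A.subtype := by
  rw [Subgroup.map_inf _ _ _ A.subtype_injective, Subgroup.subgroupOf_map_subtype,
    inf_eq_left.mpr C.ZS_le_A]
  rfl

theorem card_Aimg_le [Finite S] (C : Ctx p S A) {x : Ω} (hxS : x ∈ S) (hxA : x ∉ A) (j : ℕ) :
    Nat.card (C.Aimg hxS 1) ≤
      Nat.card ↥(ZS S ⊓ (commutator ↥S).map S.subtype) ^ j * Nat.card (C.Aimg hxS (j + 1)) := by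
  haveI : Finite A := Finite.of_injective (Subgroup.inclusion C.hAS)
    (Subgroup.inclusion_injective C.hAS)
  rw [C.commutator_eq hxS hxA, C.ZS_inf_DΩ hxS, Subgroup.card_map_of_injective A.subtype_injective,
    ← C.nu_ker hxS hxA, ← C.Aimg_one hxS]
  induction j with
  | zero => simp
  | succ j ih =>
    have h1 := card_eq_inf_ker_mul_map (C.nu hxS) (C.Aimg hxS (j + 1))
    rw [← Aimg_succ] at h1
    have h2 : Nat.card ↥((C.nu hxS).ker ⊓ C.Aimg hxS (j + 1)) ≤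
        Nat.card ↥((C.nu hxS).ker ⊓ C.Aimg hxS 1) :=
      Subgroup.card_le_of_le (inf_le_inf_left _ (C.Aimg_le_one hxS j))
    calc Nat.card (C.Aimg hxS 1)
        ≤ Nat.card ↥((C.nu hxS).ker ⊓ C.Aimg hxS 1) ^ j * Nat.card (C.Aimg hxS (j + 1)) := ih
      _ = Nat.card ↥((C.nu hxS).ker ⊓ C.Aimg hxS 1) ^ j *
          (Nat.card ↥((C.nu hxS).ker ⊓ C.Aimg hxS (j + 1)) *
            Nat.card (C.Aimg hxS (j + 1 + 1))) := by rw [← h1]
      _ ≤ Nat.card ↥((C.nu hxS).ker ⊓ C.Aimg hxS 1) ^ j *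
          (Nat.card ↥((C.nu hxS).ker ⊓ C.Aimg hxS 1) *
            Nat.card (C.Aimg hxS (j + 1 + 1))) :=
        Nat.mul_le_mul_left _ (Nat.mul_le_mul_right _ h2)
      _ = Nat.card ↥((C.nu hxS).ker ⊓ C.Aimg hxS 1) ^ (j + 1) *
          Nat.card (C.Aimg hxS (j + 1 + 1)) := by rw [pow_succ, mul_assoc]

/-- `S / Z(S)` has maximal class -/
theorem not_lcs_le [Finite S] (C : Ctx p S A) {x : Ω} (hxS : x ∈ S) (hxA : x ∉ A)
    (hc : Nat.card ↥(ZS S ⊓ (commutator ↥S).map S.subtype) = p) {m : ℕ}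
    (hm : (ZS S).relIndex S = p ^ m) (h3 : 3 ≤ m) :
    ¬ S.lowerCentralSeries (m - 2) ≤ ZS S := by
  intro hle
  haveI : Finite A := Finite.of_injective (Subgroup.inclusion C.hAS)
    (Subgroup.inclusion_injective C.hAS)
  have hker := C.nu_ker hxS hxA
  have hA2 : C.Aimg hxS (m - 2) ≤ (C.nu hxS).ker := by
    intro d hd
    rw [hker, Subgroup.mem_subgroupOf]
    exact hle (C.Aimg_le_lcs hxS (m - 2) ⟨d, hd, rfl⟩)
  have hbot : C.Aimg hxS (m - 2 + 1) = ⊥ := by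
    rw [Aimg_succ, Subgroup.map_eq_bot_iff]
    exact hA2
  have hbound := C.card_Aimg_le hxS hxA (m - 2)
  rw [hc, hbot, Subgroup.card_bot, mul_one] at hbound
  have hR : Nat.card (C.Aimg hxS 1) * p = p ^ m := by
    rw [C.Aimg_one hxS, ← Subgroup.index_ker, hker]
    have h1 := Subgroup.relIndex_mul_relIndex (ZS S) A S C.ZS_le_A C.hAS
    rw [C.hidx, hm] at h1
    exact h1
  have hp2 : 2 ≤ p := hp.out.two_le
  have h4 : p ^ m = p ^ (m - 2) * p * p := by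
    rw [mul_assoc, ← pow_two, ← pow_add]
    congr 1
    omega
  have h5 : Nat.card (C.Aimg hxS 1) = p ^ (m - 2) * p := by
    have hp0 : 0 < p := hp.out.pos
    apply Nat.eq_of_mul_eq_mul_right hp0
    rw [hR, h4]
  rw [h5] at hbound
  have h6 : 0 < p ^ (m - 2) := pow_pos hp.out.pos _
  nlinarith

end Ctx

end Cfsg.Agent.Lib.Helper9.H9AbIdx
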