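import Mathlib
import Cfsg.Prelude
import Cfsg.Agent.Lib.Helper9.AbIdx6
import Cfsg.Agent.Lib.Helper9.AbIdx8

set_option autoImplicit false

/-!
# Consequences of an essential subgroup other than `A`
-/

namespace Cfsg.Agent.Lib.Helper9.H9AbIdx

open Cfsg Cfsg.FusionSystem Cfsg.Agent.Lib.Helper9

variable {Ω : Type*} [Group Ω] {S : Subgroup Ω} [Finite S] {p : ℕ} [hp : Fact p.Prime]
  {A : Subgroup Ω}

theorem ess_Z2_facts (C : Ctx p S A) (hS : IsPGroup p S) (F : FusionSystem S)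
    (hF : F.IsSaturated p)
    (huniq : ∀ B : Subgroup Ω, B ≤ S → (∀ a ∈ B, ∀ b ∈ B, a * b = b * a) → B.relIndex S = p →
      B = A)
    {P : Subgroup Ω} (hP : F.IsEssential p P) (hPA : P ≠ A) :
    ∃ x ∈ S, x ∉ A ∧ Z2 S ≤ A ∧ (ZS S).relIndex (Z2 S) = p := by
  have hPS := ess_le F hP
  have hnle : ¬ P ≤ A := fun h => hPA (ess_eq_of_le C F hP h)
  obtain ⟨x, hxP, hxA⟩ := SetLike.not_le_iff_exists.mp hnle
  have hxS := hPS hxP
  by_cases hab : ∀ g ∈ P, g * x = x * g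
  · obtain ⟨hPeq, hPinfA, hidx, hNA⟩ := ess_abelian_case C hS F hF hP hxP hxA hab
    have hPN : P ≤ normalizerIn S P := le_inf hPS Subgroup.le_normalizer
    have hZ2A : Z2 S ≤ A := by
      by_contra hcon
      obtain ⟨w', hw'Z, hw'A⟩ := SetLike.not_le_iff_exists.mp hcon
      have hle := C.le_Z2_of_not_le hw'Z hw'A
      have hAN : A ≤ normalizerIn S P := by
        intro a ha
        have h1 : a ∈ Z2 S ⊓ A := ⟨hle ha, ha⟩
        rw [← hNA] at h1
        exact h1.1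
      have hNS : normalizerIn S P = S :=
        le_antisymm inf_le_left (C.le_of_gens hxS hxA _ hAN (hPN hxP))
      rw [hNS] at hidx
      have hcommP : ∀ a ∈ P, ∀ b ∈ P, a * b = b * a := fun a ha b hb =>
        C.comm_of_comm hxS hxA (hPS ha) (hPS hb) (hab a ha) (hab b hb)
      have hPeqA := huniq P hPS hcommP hidx
      rw [hPeqA] at hxP
      exact hxA hxP
    refine ⟨x, hxS, hxA, hZ2A, ?_⟩
    have h1 := C.relIndex_inf_eq (N := normalizerIn S P) inf_le_left hPN inf_le_right hxP hxA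
    rw [hidx, hPinfA, hNA, inf_eq_left.mpr hZ2A] at h1
    exact h1.symm
  · push Not at hab
    obtain ⟨g₁, hg₁, hne⟩ := hab
    obtain ⟨hZ2A, -, -, hd, -⟩ := ess_nonabelian_case C hS F hF hP hxP hxA hg₁ hne
    exact ⟨x, hxS, hxA, hZ2A, hd⟩

end Cfsg.Agent.Lib.Helper9.H9AbIdx
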