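import Mathlib
import Cfsg.Prelude
import Cfsg.Agent.Lib.Helper9.AbIdx9
import Cfsg.Agent.Lib.Helper9.FusionNormal3

set_option autoImplicit false

/-!
# Centres of nonabelian subgroups, and existence of an abelian essential subgroup
-/

namespace Cfsg.Agent.Lib.Helper9.H9AbIdx

open Cfsg Cfsg.FusionSystem Cfsg.Agent.Lib.Helper9

variable {Ω : Type*} [Group Ω] {S : Subgroup Ω} [Finite S] {p : ℕ} [hp : Fact p.Prime]
  {A : Subgroup Ω}

/-- the centre of a nonabelian subgroup of `S` lies in `Z(S)` -/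
theorem Ctx.center_le (C : Ctx p S A) {R : Subgroup Ω} (hRS : R ≤ S)
    (hna : ∃ a ∈ R, ∃ b ∈ R, a * b ≠ b * a) {c : Ω} (hcR : c ∈ R)
    (hc : ∀ g ∈ R, c * g = g * c) : c ∈ ZS S := by
  obtain ⟨a, ha, b, hb, hab⟩ := hna
  have hcA : c ∈ A := by
    by_contra hcA
    exact hab (C.comm_of_comm (hRS hcR) hcA (hRS ha) (hRS hb) (hc a ha).symm (hc b hb).symm)
  obtain ⟨y, hyR, hyA⟩ : ∃ y ∈ R, y ∉ A := by
    by_contra hcon
    push Not at hcon
    exact hab (C.hcomm a (hcon a ha) b (hcon b hb))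
  exact C.mem_ZS_of_comm (hRS hyR) hyA hcA (hc y hyR)

/-- automorphisms of a nonabelian subgroup of `S` containing `Z(S)` preserve `Z(S)` -/
theorem Ctx.aut_ZS_mem (C : Ctx p S A) {R : Subgroup Ω} (hRS : R ≤ S)
    (hna : ∃ a ∈ R, ∃ b ∈ R, a * b ≠ b * a) (α : MulAut R) {v : R} (hv : (v : Ω) ∈ ZS S) :
    ((α v : R) : Ω) ∈ ZS S := by
  apply C.center_le hRS hna (α v).2
  intro g hg
  have h1 : v * (α⁻¹ ⟨g, hg⟩) = (α⁻¹ ⟨g, hg⟩) * v :=
    Subtype.ext ((mem_ZS_iff.mp hv).2 _ (hRS (α⁻¹ ⟨g, hg⟩).2)).symm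
  have h2 := congrArg (fun z : R => ((α z : R) : Ω)) h1
  simp only [map_mul, MulAut.apply_inv_self, Subgroup.coe_mul] at h2
  exact h2

theorem Ctx.aut_ZS_map (C : Ctx p S A) {R : Subgroup Ω} (hRS : R ≤ S)
    (hna : ∃ a ∈ R, ∃ b ∈ R, a * b ≠ b * a) (α : MulAut R) :
    ((ZS S).subgroupOf R).map α.toMonoidHom = (ZS S).subgroupOf R := by
  ext y
  constructor
  · rintro ⟨v, hv, rfl⟩
    have hv' : (v : Ω) ∈ ZS S := by
      have : v ∈ (ZS S).subgroupOf R := hv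
      rwa [Subgroup.mem_subgroupOf] at this
    rw [Subgroup.mem_subgroupOf]
    exact C.aut_ZS_mem hRS hna α hv'
  · intro hy
    rw [Subgroup.mem_subgroupOf] at hy
    refine ⟨α⁻¹ y, ?_, ?_⟩
    · show α⁻¹ y ∈ (ZS S).subgroupOf R
      rw [Subgroup.mem_subgroupOf]
      exact C.aut_ZS_mem hRS hna α⁻¹ hy
    · simp

/-- an essential subgroup other than `A` is abelian of the form `Z(S)⟨x⟩`, or nonabelian -/
theorem ess_exists_outside (C : Ctx p S A) (F : FusionSystem S) {P : Subgroup Ω}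
    (hP : F.IsEssential p P) (hPA : P ≠ A) : ∃ x ∈ P, x ∉ A := by
  have hnle : ¬ P ≤ A := fun h => hPA (ess_eq_of_le C F hP h)
  exact SetLike.not_le_iff_exists.mp hnle

/-- if `Z(S)` is not normal in `F` and `A` is not essential, some essential subgroup is abelian and not
inside `A` -/
theorem exists_abelian_essential (C : Ctx p S A) (hS : IsPGroup p S) (F : FusionSystem S)
    (hF : F.IsSaturated p) (hAe : ¬ F.IsEssential p A) (hnn : ¬ F.IsNormal (ZS S)) :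
    ∃ P : Subgroup Ω, F.IsEssential p P ∧ ∃ x ∈ P, x ∉ A ∧ ∀ g ∈ P, g * x = x * g := by
  by_contra hcon
  push Not at hcon
  apply hnn
  rw [fs_isNormal_iff_essential_invariant p hS F hF]
  intro P hP
  have key : P ≤ S ∧ ZS S ≤ P ∧ ∃ a ∈ P, ∃ b ∈ P, a * b ≠ b * a := by
    rcases hP with rfl | hP
    · exact ⟨le_refl _, ZS_le _, C.hna⟩
    · have hPA : P ≠ A := fun h => hAe (h ▸ hP)
      obtain ⟨x, hxP, hxA⟩ := ess_exists_outside C F hP hPA
      obtain ⟨g, hg, hgx⟩ := hcon P hP x hxP hxA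
      exact ⟨ess_le F hP, ess_ZS_le F hP, g, hg, x, hxP, hgx⟩
  obtain ⟨hPS, hZP, hna⟩ := key
  exact ⟨hZP, fun α _ => C.aut_ZS_map hPS hna α⟩

end Cfsg.Agent.Lib.Helper9.H9AbIdx
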