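import Mathlib
import Cfsg.Prelude
import Cfsg.Agent.Lib.Helper9.AbIdx10
import Cfsg.Agent.Lib.Helper9.FusionAG3

set_option autoImplicit false

/-!
# Maps of the system restricted to `Z(S)` are induced by `Aut_F(S)` (nonabelian sources)
-/

namespace Cfsg.Agent.Lib.Helper9.H9AbIdx

open Cfsg Cfsg.FusionSystem Cfsg.Agent.Lib.Helper9

variable {Ω : Type*} [Group Ω] {S : Subgroup Ω} [Finite S] {p : ℕ} [hp : Fact p.Prime]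
  {A : Subgroup Ω}

/-- the maps of `F` which (for a nonabelian source) agree on `Z(S)` with an element of `Aut_F(S)` -/
def zHom (F : FusionSystem S) (R : Subgroup Ω) : Set (R →* Ω) :=
  {φ | φ ∈ F.Hom R ∧ ((∃ a ∈ R, ∃ b ∈ R, a * b ≠ b * a) →
    ∃ β ∈ F.autGroup S, ∀ (z : Ω) (hzZ : z ∈ ZS S) (hzR : z ∈ R),
      φ ⟨z, hzR⟩ = ((β ⟨z, ZS_le S hzZ⟩ : S) : Ω))}

theorem Ctx.autS_ZS_mem (C : Ctx p S A) (β : MulAut S) {z : Ω} (hz : z ∈ ZS S) :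
    ((β ⟨z, ZS_le S hz⟩ : S) : Ω) ∈ ZS S :=
  C.aut_ZS_mem (le_refl S) C.hna β (v := ⟨z, ZS_le S hz⟩) hz

theorem zHom_conj (F : FusionSystem S) {P : Subgroup Ω} {g : Ω} (hP : P ≤ S) (hg : g ∈ S) :
    conjHom P g ∈ zHom F P := by
  refine ⟨F.conj_mem hP hg, fun _ => ⟨1, Subgroup.one_mem _, fun z hzZ hzR => ?_⟩⟩
  show g * z * g⁻¹ = z
  rw [(mem_ZS_iff.mp hzZ).2 g hg, mul_inv_cancel_right]

theorem zHom_comp (C : Ctx p S A) (F : FusionSystem S) {P Q : Subgroup Ω} {φ : P →* Ω}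
    {ψ : Q →* Ω} (hφ : φ ∈ zHom F P) (hψ : ψ ∈ zHom F Q) (h : ∀ x : P, φ x ∈ Q) :
    ψ.comp (φ.codRestrict Q h) ∈ zHom F P := by
  refine ⟨F.comp_mem hφ.1 hψ.1 h, ?_⟩
  rintro ⟨a, ha, b, hb, hab⟩
  obtain ⟨β, hβF, hβ⟩ := hφ.2 ⟨a, ha, b, hb, hab⟩
  have hinj := F.injective_of_mem hφ.1
  have hQna : ∃ a' ∈ Q, ∃ b' ∈ Q, a' * b' ≠ b' * a' := by
    refine ⟨φ ⟨a, ha⟩, h _, φ ⟨b, hb⟩, h _, ?_⟩
    intro heq
    apply hab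
    have h1 : φ (⟨a, ha⟩ * ⟨b, hb⟩) = φ (⟨b, hb⟩ * ⟨a, ha⟩) := by
      rw [map_mul, map_mul]; exact heq
    exact congrArg Subtype.val (hinj h1)
  obtain ⟨β', hβ'F, hβ'⟩ := hψ.2 hQna
  refine ⟨β' * β, Subgroup.mul_mem _ hβ'F hβF, fun z hzZ hzR => ?_⟩
  have h1 := hβ z hzZ hzR
  have h2 : ((β ⟨z, ZS_le S hzZ⟩ : S) : Ω) ∈ ZS S := C.autS_ZS_mem β hzZ
  have h3 : ((β ⟨z, ZS_le S hzZ⟩ : S) : Ω) ∈ Q := by rw [← h1]; exact h _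
  have h4 : (φ.codRestrict Q h) ⟨z, hzR⟩ = ⟨((β ⟨z, ZS_le S hzZ⟩ : S) : Ω), h3⟩ :=
    Subtype.ext h1
  show ψ ((φ.codRestrict Q h) ⟨z, hzR⟩) = _
  rw [h4, hβ' _ h2 h3]
  rfl

theorem zHom_inv (C : Ctx p S A) (F : FusionSystem S) {P : Subgroup Ω} {φ : P →* Ω}
    (hφ : φ ∈ zHom F P) : ∃ ψ ∈ zHom F φ.range, ∀ x : P, ψ ⟨φ x, ⟨x, rfl⟩⟩ = (x : Ω) := by
  obtain ⟨ψ, hψF, hψ⟩ := F.inv_mem hφ.1
  have hPS : P ≤ S := (F.le_of_mem hφ.1).1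
  refine ⟨ψ, ⟨hψF, ?_⟩, hψ⟩
  rintro ⟨a', ⟨a, rfl⟩, b', ⟨b, rfl⟩, hab⟩
  have hPna : ∃ a ∈ P, ∃ b ∈ P, a * b ≠ b * a := by
    refine ⟨a, a.2, b, b.2, ?_⟩
    intro heq
    apply hab
    have : a * b = b * a := Subtype.ext heq
    rw [← map_mul, ← map_mul, this]
  obtain ⟨β, hβF, hβ⟩ := hφ.2 hPna
  have hinj := F.injective_of_mem hφ.1
  refine ⟨β⁻¹, Subgroup.inv_mem _ hβF, fun z hzZ hzR => ?_⟩
  obtain ⟨x, rfl⟩ := hzR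
  have hxc : ∀ g ∈ P, (x : Ω) * g = g * x := by
    intro g hg
    have h1 : φ (x * ⟨g, hg⟩) = φ (⟨g, hg⟩ * x) := by
      rw [map_mul, map_mul]
      exact ((mem_ZS_iff.mp hzZ).2 (φ ⟨g, hg⟩) ((F.le_of_mem hφ.1).2 ⟨g, hg⟩)).symm
    exact congrArg Subtype.val (hinj h1)
  have hxZ : (x : Ω) ∈ ZS S := C.center_le hPS hPna x.2 hxc
  have h2 := hβ x hxZ x.2
  have h3 : (⟨φ x, ZS_le S hzZ⟩ : S) = β ⟨x, ZS_le S hxZ⟩ := Subtype.ext h2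
  rw [hψ x, h3, MulAut.inv_apply_self]

/-- the subsystem of maps acting on `Z(S)` through `Aut_F(S)` -/
def zSys (C : Ctx p S A) (F : FusionSystem S) : FusionSystem S where
  Hom R := zHom F R
  le_of_mem h := F.le_of_mem h.1
  injective_of_mem h := F.injective_of_mem h.1
  conj_mem := fun hP hg => zHom_conj F hP hg
  comp_mem := fun hφ hψ h => zHom_comp C F hφ hψ h
  inv_mem := fun hφ => zHom_inv C F hφ

/-- extension of automorphisms normalizing `Aut_S(R)` to `N_S(R)` -/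
theorem ext_normalizer (hS : IsPGroup p S) (F : FusionSystem S) (hF : F.IsSaturated p)
    {R : Subgroup Ω} (hRn : F.IsFullyNormalized R) {α : MulAut R} (hα : α ∈ F.autGroup R)
    (hnorm : ∀ n ∈ S, ∀ hn : n ∈ Subgroup.normalizer (R : Set Ω), ∃ h ∈ S, ∀ x : R,
      ((α (R.normalizerMonoidHom ⟨n, hn⟩ x) : R) : Ω) = h * (α x : R) * h⁻¹) :
    ∃ ψ ∈ F.Hom (normalizerIn S R), ∀ (x : Ω) (hxR : x ∈ R) (hxN : x ∈ normalizerIn S R),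
      ψ ⟨x, hxN⟩ = ((α ⟨x, hxR⟩ : R) : Ω) := by
  have hRS := hRn.1
  obtain ⟨hRc, -⟩ := fs_sylow_axiom p hS F hF hRn
  have hRr := fs_extension_axiom p hS F hF hRc
  obtain ⟨φ, hφdef⟩ : ∃ φ : R →* Ω, φ = R.subtype.comp α.toMonoidHom := ⟨_, rfl⟩
  have hφF : φ ∈ F.Hom R := by rw [hφdef]; exact (mem_autGroup_iff F hRS α).mp hα
  have hφr : φ.range = R := by
    rw [hφdef]
    ext y
    constructor
    · rintro ⟨x, rfl⟩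
      exact (α x).2
    · intro hy
      exact ⟨α⁻¹ ⟨y, hy⟩, by simp⟩
  obtain ⟨ψ₀, hψ₀F, hψ₀⟩ := hRr.2 R φ hφF hφr
  have hle : normalizerIn S R ≤ extender S R φ := by
    intro n hn
    rw [mem_extender_iff]
    refine ⟨hn.1, hn.2, ?_⟩
    obtain ⟨h, hhS, hh⟩ := hnorm n hn.1 hn.2
    refine ⟨h, hhS, fun x hx => ?_⟩
    rw [hφdef]
    exact hh x
  refine ⟨ψ₀.comp (Subgroup.inclusion hle), fs_restrict_mem F hψ₀F hle, fun x hxR hxN => ?_⟩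
  have h1 := hψ₀ x hxR (hle hxN)
  have h2 : φ ⟨x, hxR⟩ = ((α ⟨x, hxR⟩ : R) : Ω) := by rw [hφdef]; rfl
  exact h1.trans h2

end Cfsg.Agent.Lib.Helper9.H9AbIdx
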