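import Mathlib
import Cfsg.Prelude
import Cfsg.Agent.Lib.Helper9.AbIdx11

set_option autoImplicit false

/-!
# Every map of `F` from a nonabelian subgroup acts on `Z(S)` through `Aut_F(S)`
-/

namespace Cfsg.Agent.Lib.Helper9.H9AbIdx

open Cfsg Cfsg.FusionSystem Cfsg.Agent.Lib.Helper9

variable {Ω : Type*} [Group Ω] {S : Subgroup Ω} [Finite S] {p : ℕ} [hp : Fact p.Prime]
  {A : Subgroup Ω}

/-- the Frattini argument for a nonabelian essential subgroup -/
theorem autGroup_le_zSys_of_essential (C : Ctx p S A) (hS : IsPGroup p S) (F : FusionSystem S)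
    (hF : F.IsSaturated p) {R : Subgroup Ω} (hess : F.IsEssential p R)
    (hna : ∃ a ∈ R, ∃ b ∈ R, a * b ≠ b * a)
    (IH : ∀ Q : Subgroup Ω, Q ≤ S → Nat.card R < Nat.card Q → F.Hom Q ⊆ (zSys C F).Hom Q) :
    F.autGroup R ≤ (zSys C F).autGroup R := by
  have hRS := ess_le F hess
  have hRn : F.IsFullyNormalized R := hess.2.1
  haveI : Finite R := fs_finite_of_le hRS
  haveI : Finite (F.autGroup R) := inferInstance
  obtain ⟨T₀, hT₀, -⟩ := ess_sylow_data p hS F hF hess
  obtain ⟨GE, hGEdef⟩ : ∃ GE : Subgroup (F.autGroup R),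
      GE = ((zSys C F).autGroup R).subgroupOf (F.autGroup R) := ⟨_, rfl⟩
  -- the automorphisms fixing `Z(S)` pointwise
  let Y : Subgroup (F.autGroup R) :=
    { carrier := {a | ∀ v : R, (v : Ω) ∈ ZS S → (a : MulAut R) v = v}
      one_mem' := fun v _ => rfl
      mul_mem' := by
        intro a b ha hb v hv
        show (a : MulAut R) ((b : MulAut R) v) = v
        rw [hb v hv, ha v hv]
      inv_mem' := by
        intro a ha v hv
        show (a : MulAut R)⁻¹ v = v
        have h1 := ha v hv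
        calc (a : MulAut R)⁻¹ v = (a : MulAut R)⁻¹ ((a : MulAut R) v) := by rw [h1]
          _ = v := MulAut.inv_apply_self _ _ _ }
  have hYmem : ∀ a : F.autGroup R, a ∈ Y ↔ ∀ v : R, (v : Ω) ∈ ZS S → (a : MulAut R) v = v :=
    fun _ => Iff.rfl
  haveI hYn : Y.Normal := by
    constructor
    intro a ha g v hv
    show (g : MulAut R) ((a : MulAut R) ((g : MulAut R)⁻¹ v)) = v
    have h1 : (((g : MulAut R)⁻¹ v : R) : Ω) ∈ ZS S := C.aut_ZS_mem hRS hna _ hv
    rw [ha _ h1, MulAut.apply_inv_self]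
  have hTY : (T₀ : Subgroup (F.autGroup R)) ≤ Y := by
    intro q hq v hv
    rw [hT₀, Subgroup.mem_subgroupOf, mem_autInducedBy_iff] at hq
    obtain ⟨n, hnS, hn⟩ := hq
    apply Subtype.ext
    rw [hn]
    rw [(mem_ZS_iff.mp hv).2 n hnS, mul_inv_cancel_right]
  have hYGE : Y ≤ GE := by
    intro a ha
    rw [hGEdef, Subgroup.mem_subgroupOf, mem_autGroup_iff (zSys C F) hRS]
    refine ⟨(mem_autGroup_iff F hRS _).mp a.2, fun _ => ⟨1, Subgroup.one_mem _, ?_⟩⟩
    intro z hzZ hzR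
    show (((a : MulAut R) ⟨z, hzR⟩ : R) : Ω) = z
    rw [ha ⟨z, hzR⟩ hzZ]
  obtain ⟨N, hNdef⟩ : ∃ N : Subgroup (F.autGroup R),
      N = Subgroup.normalClosure ((T₀ : Subgroup (F.autGroup R)) : Set (F.autGroup R)) := ⟨_, rfl⟩
  haveI hNn : N.Normal := by rw [hNdef]; exact Subgroup.normalClosure_normal
  have hTN : (T₀ : Subgroup (F.autGroup R)) ≤ N := by rw [hNdef]; exact Subgroup.le_normalClosure
  have hNY : N ≤ Y := by rw [hNdef]; exact Subgroup.normalClosure_le_normal hTY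
  have hfrat := Sylow.normalizer_sup_eq_top (T₀.subtype hTN)
  have hmap : ((T₀.subtype hTN : Sylow p N) : Subgroup N).map N.subtype =
      (T₀ : Subgroup (F.autGroup R)) := by
    rw [Sylow.coe_subtype, Subgroup.subgroupOf_map_subtype, inf_eq_left.mpr hTN]
  rw [hmap] at hfrat
  -- the normalizer of `Aut_S(R)` lies in `GE`
  have hNGE : Subgroup.normalizer ((T₀ : Subgroup (F.autGroup R)) : Set (F.autGroup R)) ≤ GE := by
    intro a ha
    rw [Subgroup.mem_normalizer_iff] at ha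
    have hext := ext_normalizer hS F hF hRn (α := (a : MulAut R)) a.2 ?_
    · obtain ⟨ψ, hψF, hψ⟩ := hext
      have hlt : R < S := lt_of_le_of_ne hRS (ess_ne p hS F hF hess)
      have hcard := fs_card_lt_of_lt (fs_lt_normalizerIn p hS hlt) (fs_normalizerIn_le S R)
      have hψE := IH _ (fs_normalizerIn_le S R) hcard hψF
      have hRN : R ≤ normalizerIn S R := le_inf hRS Subgroup.le_normalizer
      obtain ⟨a', ha', b', hb', hab'⟩ := hna
      obtain ⟨β, hβF, hβ⟩ := hψE.2 ⟨a', hRN ha', b', hRN hb', hab'⟩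
      rw [hGEdef, Subgroup.mem_subgroupOf, mem_autGroup_iff (zSys C F) hRS]
      refine ⟨(mem_autGroup_iff F hRS _).mp a.2, fun _ => ⟨β, hβF, ?_⟩⟩
      intro z hzZ hzR
      rw [← hβ z hzZ (hRN hzR)]
      exact (hψ z hzR (hRN hzR)).symm
    · intro n hnS hnN
      obtain ⟨q, hqdef⟩ : ∃ q : MulAut R, q = R.normalizerMonoidHom ⟨n, hnN⟩ := ⟨_, rfl⟩
      have hqn : ∀ x : R, ((q x : R) : Ω) = n * x * n⁻¹ := by intro x; rw [hqdef]; rfl
      have hqS : q ∈ autInducedBy S R := by rw [mem_autInducedBy_iff]; exact ⟨n, hnS, hqn⟩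
      have hqF : q ∈ F.autGroup R := autInducedBy_le_autGroup F hRS hqS
      have hqT : (⟨q, hqF⟩ : F.autGroup R) ∈ (T₀ : Subgroup (F.autGroup R)) := by
        rw [hT₀, Subgroup.mem_subgroupOf]; exact hqS
      have h1 := (ha ⟨q, hqF⟩).mp hqT
      rw [hT₀, Subgroup.mem_subgroupOf, mem_autInducedBy_iff] at h1
      obtain ⟨h, hhS, hh⟩ := h1
      refine ⟨h, hhS, fun x => ?_⟩
      have h2 := hh ((a : MulAut R) x)
      rw [← hqdef]
      rw [← h2]
      show _ = (((a : MulAut R) (q ((a : MulAut R)⁻¹ ((a : MulAut R) x))) : R) : Ω)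
      rw [MulAut.inv_apply_self]
  have htop : (⊤ : Subgroup (F.autGroup R)) ≤ GE := by
    rw [← hfrat]
    exact sup_le hNGE (le_trans hNY hYGE)
  intro α hα
  have := htop (Subgroup.mem_top (⟨α, hα⟩ : F.autGroup R))
  rw [hGEdef, Subgroup.mem_subgroupOf] at this
  exact this

/-- **every map of `F` lies in `zSys`** -/
theorem le_zSys (C : Ctx p S A) (hS : IsPGroup p S) (F : FusionSystem S)
    (hF : F.IsSaturated p) : F ≤ zSys C F := by
  intro P φ hφ
  refine fs_le_of_autGroup_le p hS F (zSys C F) hF ?_ _ P φ hφ rfl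
  intro R hRn IH
  have hRS := hRn.1
  by_cases hRtop : R = S
  · intro α hα
    rw [mem_autGroup_iff (zSys C F) hRS]
    refine ⟨(mem_autGroup_iff F hRS α).mp hα, fun _ => ?_⟩
    subst hRtop
    exact ⟨α, hα, fun z hzZ hzR => rfl⟩
  have hRlt : R < S := lt_of_le_of_ne hRS hRtop
  by_cases hc : F.IsCentric R
  · by_cases hess : F.IsEssential p R
    · by_cases hna : ∃ a ∈ R, ∃ b ∈ R, a * b ≠ b * a
      · exact autGroup_le_zSys_of_essential C hS F hF hess hna IH
      · intro α hα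
        rw [mem_autGroup_iff (zSys C F) hRS]
        exact ⟨(mem_autGroup_iff F hRS α).mp hα, fun h => absurd h hna⟩
    · exact fs_autGroup_le_of_centric_not_essential p hS F _ hF hRn hRlt hc hess IH
  · exact fs_autGroup_le_of_not_centric p hS F _ hF hRn hc IH

/-- **(★)** a map of `F` from a nonabelian subgroup agrees on `Z(S)` with an element of `Aut_F(S)` -/
theorem hom_ZS_eq (C : Ctx p S A) (hS : IsPGroup p S) (F : FusionSystem S)
    (hF : F.IsSaturated p) {R : Subgroup Ω} {φ : R →* Ω} (hφ : φ ∈ F.Hom R)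
    (hna : ∃ a ∈ R, ∃ b ∈ R, a * b ≠ b * a) :
    ∃ β ∈ F.autGroup S, ∀ (z : Ω) (hzZ : z ∈ ZS S) (hzR : z ∈ R),
      φ ⟨z, hzR⟩ = ((β ⟨z, ZS_le S hzZ⟩ : S) : Ω) :=
  (le_zSys C hS F hF R hφ).2 hna

end Cfsg.Agent.Lib.Helper9.H9AbIdx
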