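import Mathlib
import Cfsg.Prelude
import Cfsg.Agent.Lib.Helper9.AbIdx2
import Cfsg.Agent.Lib.Helper9.ChainStab2

set_option autoImplicit false

/-!
# The central involution of the `SL₂(p)` generated by two transvection groups
-/

namespace Cfsg.Agent.Lib.Helper9.H9AbIdx

open Cfsg Cfsg.Agent.Lib.Helper9 Cfsg.Agent.H9CS

variable {H : Type*} [Group H]

/-- a subgroup of prime order is generated by any of its nontrivial elements -/
theorem eq_zpowers_of_card_prime {p : ℕ} [Fact p.Prime] (K : Subgroup H) (hK : Nat.card K = p)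
    {x : H} (hx : x ∈ K) (hx1 : x ≠ 1) : K = Subgroup.zpowers x := by
  have h1 : Subgroup.zpowers (⟨x, hx⟩ : K) = ⊤ :=
    zpowers_eq_top_of_prime_card hK (fun h => hx1 (congrArg Subtype.val h))
  apply le_antisymm
  · intro y hy
    have h2 : (⟨y, hy⟩ : K) ∈ Subgroup.zpowers (⟨x, hx⟩ : K) := by rw [h1]; exact Subgroup.mem_top _
    obtain ⟨k, hk⟩ := Subgroup.mem_zpowers_iff.mp h2
    rw [Subgroup.mem_zpowers_iff]
    refine ⟨k, ?_⟩
    have h3 := congrArg (fun z : K => (z : H)) hk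
    simpa using h3
  · rw [Subgroup.zpowers_le]; exact hx

theorem mem_sup_zpowers (hcomm : ∀ a b : H, a * b = b * a) (K : Subgroup H) (y : H) {x : H}
    (hx : x ∈ K ⊔ Subgroup.zpowers y) : ∃ k : ℤ, ∃ w ∈ K, x = y ^ k * w := by
  haveI : K.Normal := ⟨fun n hn g => by rw [hcomm g n, mul_inv_cancel_right]; exact hn⟩
  have h2 := Subgroup.mul_normal (Subgroup.zpowers y) K
  have h3 : x ∈ ((Subgroup.zpowers y ⊔ K : Subgroup H) : Set H) := by rw [sup_comm]; exact hx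
  rw [h2, Set.mem_mul] at h3
  obtain ⟨a, ha, w, hw, rfl⟩ := h3
  obtain ⟨k, rfl⟩ := Subgroup.mem_zpowers_iff.mp ha
  exact ⟨k, w, hw, rfl⟩

theorem tau_apply (hcomm : ∀ a b : H, a * b = b * a) (u v : MulAut H) {z₀ x₁ : H}
    (hu1 : u z₀ = z₀) (hu2 : u x₁ = x₁ * z₀) (hv1 : v x₁ = x₁) (hv2 : v z₀ = z₀ * x₁) :
    ((u⁻¹ * v * u⁻¹) ^ 2) z₀ = z₀⁻¹ ∧ ((u⁻¹ * v * u⁻¹) ^ 2) x₁ = x₁⁻¹ := by
  have hu1' : u⁻¹ z₀ = z₀ := by
    calc u⁻¹ z₀ = u⁻¹ (u z₀) := by rw [hu1]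
      _ = z₀ := MulAut.inv_apply_self _ _ _
  have hu2' : u⁻¹ x₁ = x₁ * z₀⁻¹ := by
    calc u⁻¹ x₁ = u⁻¹ (u (x₁ * z₀⁻¹)) := by rw [map_mul, map_inv, hu2, hu1, mul_inv_cancel_right]
      _ = x₁ * z₀⁻¹ := MulAut.inv_apply_self _ _ _
  have hσ : ∀ y : H, (u⁻¹ * v * u⁻¹) y = u⁻¹ (v (u⁻¹ y)) := fun y => rfl
  have hσz : (u⁻¹ * v * u⁻¹) z₀ = x₁ := by
    rw [hσ, hu1', hv2, map_mul, hu1', hu2', hcomm x₁ z₀⁻¹, ← mul_assoc, mul_inv_cancel, one_mul]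
  have hσx : (u⁻¹ * v * u⁻¹) x₁ = z₀⁻¹ := by
    rw [hσ, hu2', map_mul, map_inv, hv1, hv2, mul_inv_rev, mul_inv_cancel_left, map_inv, hu1']
  constructor
  · rw [pow_two, MulAut.mul_apply, hσz, hσx]
  · rw [pow_two, MulAut.mul_apply, hσx, map_inv, hσz]

theorem no_common_pgroup {G : Type*} [Group G] [Finite G] (p : ℕ) [Fact p.Prime] (T₀ : Sylow p G)
    (M : Subgroup G)
    (hMem : ∀ α q : G, q ∈ (T₀ : Subgroup G) → q ≠ 1 → α * q * α⁻¹ ∈ (T₀ : Subgroup G) → α ∈ M)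
    {g : G} (hg : g ∉ M) {t : G} (ht : t ∈ (T₀ : Subgroup G)) (ht1 : t ≠ 1) (Q : Subgroup G)
    (hQ : IsPGroup p Q) (h1 : t ∈ Q) (h2 : g * t * g⁻¹ ∈ Q) : False := by
  obtain ⟨k, hk⟩ := exists_conj_mem_sylow p T₀ Q hQ
  have hkM : k ∈ M := hMem k t ht ht1 (hk t h1)
  have hkg : k * g ∈ M := by
    apply hMem (k * g) t ht ht1
    have := hk _ h2
    have e : k * g * t * (k * g)⁻¹ = k * (g * t * g⁻¹) * k⁻¹ := by group
    rw [e]; exact this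
  apply hg
  have : g = k⁻¹ * (k * g) := by group
  rw [this]
  exact M.mul_mem (M.inv_mem hkM) hkg

theorem chain3_mono {K₁ K₂ : Subgroup H} (h : K₁ ≤ K₂) : Monotone (chain3 K₁ K₂) := by
  apply monotone_nat_of_le_succ
  intro n
  rcases n with _ | _ | _ | n
  · exact bot_le
  · exact h
  · exact le_top
  · exact le_refl _

theorem chain3_zero (K₁ K₂ : Subgroup H) : chain3 K₁ K₂ 0 = ⊥ := rfl

theorem chain3_three (K₁ K₂ : Subgroup H) : chain3 K₁ K₂ 3 = ⊤ := rfl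

theorem stabChain_chain3 {K₁ K₂ : Subgroup H} (a : MulAut H) (h1 : ∀ y ∈ K₁, a y = y)
    (h2 : ∀ y ∈ K₂, y⁻¹ * a y ∈ K₁) (h3 : ∀ y : H, y⁻¹ * a y ∈ K₂) :
    StabChain (chain3 K₁ K₂) a := by
  intro i x hx
  rcases i with _ | _ | _ | i
  · show x⁻¹ * a x ∈ (⊥ : Subgroup H)
    have hx' : x ∈ K₁ := hx
    rw [Subgroup.mem_bot, h1 x hx', inv_mul_cancel]
  · exact h2 x hx
  · exact h3 x
  · exact Subgroup.mem_top _

/-- two automorphisms in `G` stabilizing a common chain of length three: contradiction -/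
theorem chain3_contra' [Finite H] (p : ℕ) [Fact p.Prime] (hH : IsPGroup p H)
    (G : Subgroup (MulAut H)) (T₀ : Sylow p G) (M : Subgroup G)
    (hMem : ∀ α q : G, q ∈ (T₀ : Subgroup G) → q ≠ 1 → α * q * α⁻¹ ∈ (T₀ : Subgroup G) → α ∈ M)
    {g : G} (hg : g ∉ M) {t : G} (ht : t ∈ (T₀ : Subgroup G)) (ht1 : t ≠ 1)
    {K₁ K₂ : Subgroup H} (h12 : K₁ ≤ K₂)
    (ha : StabChain (chain3 K₁ K₂) (t : MulAut H))
    (hb : StabChain (chain3 K₁ K₂) ((g * t * g⁻¹ : G) : MulAut H)) : False := by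
  haveI : Finite (MulAut H) := finite_mulAut
  obtain ⟨Q, hQdef⟩ : ∃ Q : Subgroup G,
      Q = (chainStabilizer (chain3 K₁ K₂) (chain3_mono h12) (chain3_zero K₁ K₂)).subgroupOf G :=
    ⟨_, rfl⟩
  have hQp : IsPGroup p Q := by
    rw [hQdef]
    exact (isPGroup_chainStabilizer p hH (chain3_mono h12) (chain3_zero K₁ K₂) 3
      (chain3_three K₁ K₂)).comap_subtype
  refine no_common_pgroup p T₀ M hMem hg ht ht1 Q hQp ?_ ?_
  · rw [hQdef, Subgroup.mem_subgroupOf]; exact ha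
  · rw [hQdef, Subgroup.mem_subgroupOf]; exact hb

end Cfsg.Agent.Lib.Helper9.H9AbIdx
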