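import Mathlib
import Cfsg.Prelude
import Cfsg.Agent.Lib.Helper9.AbIdx13

set_option autoImplicit false

/-!
# Construction of the involution `τ`
-/

namespace Cfsg.Agent.Lib.Helper9.H9AbIdx

open Cfsg Cfsg.Agent.Lib.Helper9 Cfsg.Agent.H9CS

variable {H : Type*} [Group H]

theorem pow_fix (a : MulAut H) {y : H} (h : a y = y) (n : ℕ) : (a ^ n) y = y := by
  induction n with
  | zero => rfl
  | succ n ih => rw [pow_succ, MulAut.mul_apply, h, ih]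

theorem eq_one_of_sq_of_pow {p : ℕ} [hp : Fact p.Prime] (hp2 : p ≠ 2) {c : H} (h2 : c ^ 2 = 1)
    (hpc : c ^ p = 1) : c = 1 := by
  rcases hp.out.eq_two_or_odd' with h | h
  · exact absurd h hp2
  · obtain ⟨m, hm⟩ := h
    rw [hm, pow_succ, pow_mul, h2, one_pow, one_mul] at hpc
    exact hpc

set_option maxHeartbeats 800000 in
theorem exists_tau [Finite H] (p : ℕ) [hp : Fact p.Prime] (hp2 : p ≠ 2) (hH : IsPGroup p H)
    (hcomm : ∀ a b : H, a * b = b * a) (G : Subgroup (MulAut H)) (T₀ : Sylow p G)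
    (M : Subgroup G)
    (hMem : ∀ α q : G, q ∈ (T₀ : Subgroup G) → q ≠ 1 → α * q * α⁻¹ ∈ (T₀ : Subgroup G) → α ∈ M)
    {g : G} (hg : g ∉ M) {t : G} (ht : t ∈ (T₀ : Subgroup G))
    (Z Z₀ : Subgroup H) (hZidx : Z.index = p) (hZ₀Z : Z₀ ≤ Z) (hZ₀card : Nat.card Z₀ = p)
    (hfix : ∀ h : H, (t : MulAut H) h = h ↔ h ∈ Z)
    (hquad : ∀ h : H, h⁻¹ * (t : MulAut H) h ∈ Z₀) :
    ∃ τ : G, (∀ z ∈ Z₀, (τ : MulAut H) z = z⁻¹) ∧ (∀ z ∈ Z, z⁻¹ * (τ : MulAut H) z ∈ Z₀) ∧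
      (∀ z ∈ Z, (τ : MulAut H) z = z ↔ (g : MulAut H)⁻¹ z ∈ Z) ∧
      (∀ q : G, (∀ z ∈ Z, (q : MulAut H) z = z) → (∀ h : H, h⁻¹ * (q : MulAut H) h ∈ Z₀) →
        τ * q = q * τ) := by
  obtain ⟨tm, htm⟩ : ∃ tm : MulAut H, tm = (t : MulAut H) := ⟨_, rfl⟩
  obtain ⟨gm, hgm⟩ : ∃ gm : MulAut H, gm = (g : MulAut H) := ⟨_, rfl⟩
  obtain ⟨sm, hsm⟩ : ∃ sm : MulAut H, sm = gm * tm * gm⁻¹ := ⟨_, rfl⟩
  rw [← htm] at hfix hquad
  rw [← hgm]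
  have hsmG : sm = ((g * t * g⁻¹ : G) : MulAut H) := by rw [hsm, htm, hgm]; rfl
  have hsm_apply : ∀ h, sm h = gm (tm (gm⁻¹ h)) := by intro h; rw [hsm]; rfl
  obtain ⟨x₀, hx₀⟩ : ∃ x, x ∉ Z := by
    by_contra hall
    push Not at hall
    have : Z = ⊤ := eq_top_iff.mpr (fun x _ => hall x)
    rw [this, Subgroup.index_top] at hZidx
    exact hp.out.one_lt.ne hZidx
  have ht1 : t ≠ 1 := by
    intro h
    apply hx₀
    rw [← hfix, htm, h]; rfl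
  have hfix' : ∀ h, sm h = h ↔ gm⁻¹ h ∈ Z := by
    intro h
    rw [hsm_apply, ← hfix]
    constructor
    · intro h1
      calc tm (gm⁻¹ h) = gm⁻¹ (gm (tm (gm⁻¹ h))) := (MulAut.inv_apply_self _ _ _).symm
        _ = gm⁻¹ h := by rw [h1]
    · intro h1
      rw [h1, MulAut.apply_inv_self]
  have hquad' : ∀ h, gm⁻¹ (h⁻¹ * sm h) ∈ Z₀ := by
    intro h
    rw [hsm_apply, map_mul, map_inv, MulAut.inv_apply_self]
    exact hquad (gm⁻¹ h)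
  obtain ⟨Z₀', hZ₀'def⟩ : ∃ Z₀' : Subgroup H, Z₀' = Z₀.map gm.toMonoidHom := ⟨_, rfl⟩
  have hmem' : ∀ y, y ∈ Z₀' ↔ gm⁻¹ y ∈ Z₀ := by
    intro y
    rw [hZ₀'def]
    constructor
    · rintro ⟨a, ha, rfl⟩
      show gm⁻¹ (gm a) ∈ Z₀
      rw [MulAut.inv_apply_self]; exact ha
    · intro h
      exact ⟨gm⁻¹ y, h, MulAut.apply_inv_self _ _ _⟩
  have hZ₀'card : Nat.card Z₀' = p := by
    rw [hZ₀'def]
    exact (Subgroup.card_map_of_injective gm.injective).trans hZ₀card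
  have hsmfix : ∀ y ∈ Z₀', sm y = y := fun y hy => (hfix' y).mpr (hZ₀Z ((hmem' y).mp hy))
  have hsmquad : ∀ h, h⁻¹ * sm h ∈ Z₀' := fun h => (hmem' _).mpr (hquad' h)
  have htmfix : ∀ y ∈ Z₀, tm y = y := fun y hy => (hfix y).mpr (hZ₀Z hy)
  obtain ⟨x₁, hx₁Z, hx₁1⟩ : ∃ x₁ ∈ Z₀', x₁ ≠ 1 := by
    by_contra hcon
    push Not at hcon
    have : Z₀' = ⊥ := (Subgroup.eq_bot_iff_forall _).mpr hcon
    rw [this, Subgroup.card_bot] at hZ₀'card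
    exact hp.out.one_lt.ne hZ₀'card
  have hZ₀'eq := eq_zpowers_of_card_prime Z₀' hZ₀'card hx₁Z hx₁1
  have hle12 : Z₀ ≤ Z₀ ⊔ Z₀' := le_sup_left
  have hle12' : Z₀' ≤ Z₀ ⊔ Z₀' := le_sup_right
  have fix_sup : ∀ a : MulAut H, (∀ y ∈ Z₀, a y = y) → (∀ y ∈ Z₀', a y = y) →
      ∀ y ∈ Z₀ ⊔ Z₀', a y = y := by
    intro a h1 h2 y hy
    have hle : Z₀ ⊔ Z₀' ≤ MonoidHom.eqLocus a.toMonoidHom (MonoidHom.id H) :=
      sup_le (fun y hy => h1 y hy) (fun y hy => h2 y hy)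
    exact hle hy
  -- `x₁ ∉ Z`
  have hx₁Z' : x₁ ∉ Z := by
    intro hx
    have htmfix' : ∀ y ∈ Z₀', tm y = y := by
      intro y hy
      rw [hZ₀'eq] at hy
      obtain ⟨k, rfl⟩ := Subgroup.mem_zpowers_iff.mp hy
      rw [map_zpow, (hfix x₁).mpr hx]
    refine chain3_contra' p hH G T₀ M hMem hg ht ht1 hle12' ?_ ?_
    · rw [← htm]
      refine stabChain_chain3 tm htmfix' (fun y hy => ?_) (fun y => hle12 (hquad y))
      rw [fix_sup tm htmfix htmfix' y hy, inv_mul_cancel]; exact Subgroup.one_mem _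
    · rw [← hsmG]
      exact stabChain_chain3 sm hsmfix (fun y _ => hsmquad y) (fun y => hle12' (hsmquad y))
  -- `z₀`
  obtain ⟨z₀, hz₀def⟩ : ∃ z₀ : H, z₀ = x₁⁻¹ * tm x₁ := ⟨_, rfl⟩
  have hz₀Z₀ : z₀ ∈ Z₀ := by rw [hz₀def]; exact hquad x₁
  have hz₀1 : z₀ ≠ 1 := by
    intro h
    apply hx₁Z'
    rw [← hfix]
    rw [hz₀def] at h
    exact (inv_mul_eq_one.mp h).symm
  have hZ₀eq := eq_zpowers_of_card_prime Z₀ hZ₀card hz₀Z₀ hz₀1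
  have htmx₁ : tm x₁ = x₁ * z₀ := by rw [hz₀def]; group
  have htmz₀ : tm z₀ = z₀ := htmfix z₀ hz₀Z₀
  -- `z₀ ∉ Z'`
  have hz₀Z' : gm⁻¹ z₀ ∉ Z := by
    intro hz
    have hsmfix' : ∀ y ∈ Z₀, sm y = y := by
      intro y hy
      rw [hZ₀eq] at hy
      obtain ⟨k, rfl⟩ := Subgroup.mem_zpowers_iff.mp hy
      rw [map_zpow, (hfix' z₀).mpr hz]
    refine chain3_contra' p hH G T₀ M hMem hg ht ht1 hle12 ?_ ?_
    · rw [← htm]
      exact stabChain_chain3 tm htmfix (fun y _ => hquad y) (fun y => hle12 (hquad y))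
    · rw [← hsmG]
      refine stabChain_chain3 sm hsmfix' (fun y hy => ?_) (fun y => hle12' (hsmquad y))
      rw [fix_sup sm hsmfix' hsmfix y hy, inv_mul_cancel]; exact Subgroup.one_mem _
  -- `y = [z₀, t']`
  obtain ⟨y, hydef⟩ : ∃ y : H, y = z₀⁻¹ * sm z₀ := ⟨_, rfl⟩
  have hyZ₀' : y ∈ Z₀' := by rw [hydef]; exact hsmquad z₀
  have hy1 : y ≠ 1 := by
    intro h
    apply hz₀Z'
    rw [← hfix']
    rw [hydef] at h
    exact (inv_mul_eq_one.mp h).symm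
  have hZ₀'eqy := eq_zpowers_of_card_prime Z₀' hZ₀'card hyZ₀' hy1
  obtain ⟨b, hb⟩ : ∃ b : ℕ, y ^ b = x₁ := by
    have h1 : x₁ ∈ Subgroup.zpowers y := by rw [← hZ₀'eqy]; exact hx₁Z
    have h2 := (mem_powers_iff_mem_zpowers (x := y) (y := x₁)).mpr h1
    exact h2
  have hsmz₀ : sm z₀ = z₀ * y := by rw [hydef]; group
  have hsmy : sm y = y := hsmfix y hyZ₀'
  obtain ⟨vm, hvm⟩ : ∃ vm : MulAut H, vm = sm ^ b := ⟨_, rfl⟩
  have hvmz₀ : vm z₀ = z₀ * x₁ := by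
    rw [hvm, pow_apply_of_triv sm z₀ y hsmz₀ hsmy b, hb]
  have hvmx₁ : vm x₁ = x₁ := by
    rw [hvm]; exact pow_fix sm (hsmfix x₁ hx₁Z) b
  obtain ⟨hτz, hτx⟩ := tau_apply hcomm tm vm htmz₀ htmx₁ hvmx₁ hvmz₀
  obtain ⟨τm, hτm⟩ : ∃ τm : MulAut H, τm = (tm⁻¹ * vm * tm⁻¹) ^ 2 := ⟨_, rfl⟩
  rw [← hτm] at hτz hτx
  -- fixed points
  have hτfix : ∀ w : H, tm w = w → sm w = w → τm w = w := by
    intro w h1 h2
    have h3 : tm⁻¹ w = w := by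
      calc tm⁻¹ w = tm⁻¹ (tm w) := by rw [h1]
        _ = w := MulAut.inv_apply_self _ _ _
    have h4 : vm w = w := by rw [hvm]; exact pow_fix sm h2 b
    have h5 : (tm⁻¹ * vm * tm⁻¹) w = w := by
      show tm⁻¹ (vm (tm⁻¹ w)) = w
      rw [h3, h4, h3]
    rw [hτm]
    exact pow_fix _ h5 2
  -- generation
  obtain ⟨Z', hZ'def⟩ : ∃ Z' : Subgroup H, Z' = Z.map gm.toMonoidHom := ⟨_, rfl⟩
  have hmemZ' : ∀ y, y ∈ Z' ↔ gm⁻¹ y ∈ Z := by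
    intro y
    rw [hZ'def]
    constructor
    · rintro ⟨a, ha, rfl⟩
      show gm⁻¹ (gm a) ∈ Z
      rw [MulAut.inv_apply_self]; exact ha
    · intro h
      exact ⟨gm⁻¹ y, h, MulAut.apply_inv_self _ _ _⟩
  have hZ'idx : Z'.index = p := by
    rw [hZ'def]; exact (Subgroup.index_map_equiv Z gm).trans hZidx
  have hnorm : ∀ K : Subgroup H, K.Normal := fun K =>
    ⟨fun n hn g => by rw [hcomm g n, mul_inv_cancel_right]; exact hn⟩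
  have hWrel : (Z ⊓ Z').relIndex Z = p := by
    rw [Subgroup.inf_relIndex_left]
    haveI := hnorm Z'
    have h1 : Z'.relIndex Z ∣ p := by
      rw [← hZ'idx]; exact Subgroup.relIndex_dvd_index_of_normal Z' Z
    rcases (Nat.dvd_prime hp.out).mp h1 with h | h
    · exfalso
      have := Subgroup.relIndex_eq_one.mp h (hZ₀Z hz₀Z₀)
      exact hz₀Z' ((hmemZ' z₀).mp this)
    · exact h
  have hZgen : (Z ⊓ Z') ⊔ Subgroup.zpowers z₀ = Z :=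
    sup_zpowers_of_prime_relIndex (p := p) inf_le_left hWrel (hZ₀Z hz₀Z₀)
      (fun h => hz₀Z' ((hmemZ' z₀).mp h.2))
  have hHgen : Z ⊔ Subgroup.zpowers x₁ = ⊤ :=
    sup_zpowers_of_prime_relIndex (p := p) le_top
      (by rw [Subgroup.relIndex_top_right]; exact hZidx) (Subgroup.mem_top x₁) hx₁Z'
  -- `τ` inverts `Z₀`
  have hτZ₀ : ∀ z ∈ Z₀, τm z = z⁻¹ := by
    intro z hz
    rw [hZ₀eq] at hz
    obtain ⟨k, rfl⟩ := Subgroup.mem_zpowers_iff.mp hz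
    rw [map_zpow, hτz, inv_zpow]
  -- decomposition of `Z`
  have hdecomp : ∀ z ∈ Z, ∃ k : ℤ, ∃ w ∈ Z ⊓ Z', z = z₀ ^ k * w := by
    intro z hz
    apply mem_sup_zpowers hcomm
    rw [hZgen]; exact hz
  have hτw : ∀ w ∈ Z ⊓ Z', τm w = w := fun w hw =>
    hτfix w ((hfix w).mpr hw.1) ((hfix' w).mpr ((hmemZ' w).mp hw.2))
  have hτZ : ∀ z ∈ Z, ∀ k : ℤ, ∀ w ∈ Z ⊓ Z', z = z₀ ^ k * w → τm z = (z₀ ^ k)⁻¹ * w := by
    intro z _ k w hw hzk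
    rw [hzk, map_mul, map_zpow, hτz, inv_zpow, hτw w hw]
  -- the element of `G`
  obtain ⟨τ, hτdef⟩ : ∃ τ : G, τ = (t⁻¹ * (g * t * g⁻¹) ^ b * t⁻¹) ^ 2 := ⟨_, rfl⟩
  have hττ : (τ : MulAut H) = τm := by
    rw [hτdef, hτm, hvm, hsmG, htm]
    rfl
  refine ⟨τ, ?_, ?_, ?_, ?_⟩
  · rw [hττ]; exact hτZ₀
  · rw [hττ]
    intro z hz
    obtain ⟨k, w, hw, hzk⟩ := hdecomp z hz
    rw [hτZ z hz k w hw hzk, hzk]
    have h1 : (z₀ ^ k * w)⁻¹ * ((z₀ ^ k)⁻¹ * w) = (z₀ ^ k)⁻¹ * (z₀ ^ k)⁻¹ := by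
      generalize z₀ ^ k = a
      have e : w⁻¹ * (a⁻¹ * a⁻¹) = (a⁻¹ * a⁻¹) * w⁻¹ := hcomm _ _
      calc (a * w)⁻¹ * (a⁻¹ * w) = (w⁻¹ * (a⁻¹ * a⁻¹)) * w := by group
        _ = (a⁻¹ * a⁻¹ * w⁻¹) * w := by rw [e]
        _ = a⁻¹ * a⁻¹ := by group
    rw [h1]
    have h2 : (z₀ ^ k)⁻¹ ∈ Z₀ := Z₀.inv_mem (Z₀.zpow_mem hz₀Z₀ k)
    exact Z₀.mul_mem h2 h2
  · rw [hττ]
    intro z hz
    constructor
    · intro h
      obtain ⟨k, w, hw, hzk⟩ := hdecomp z hz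
      rw [hτZ z hz k w hw hzk, hzk] at h
      have h1 : (z₀ ^ k)⁻¹ = z₀ ^ k := mul_right_cancel h
      have h2 : (z₀ ^ k) ^ 2 = 1 := by
        rw [pow_two]
        nth_rewrite 1 [← h1]
        exact inv_mul_cancel _
      have h3 : (z₀ ^ k) ^ p = 1 := by
        have h4 : (⟨z₀ ^ k, Z₀.zpow_mem hz₀Z₀ k⟩ : Z₀) ^ p = 1 := by
          rw [← hZ₀card]; exact pow_card_eq_one'
        exact congrArg Subtype.val h4
      have h5 := eq_one_of_sq_of_pow hp2 h2 h3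
      rw [h5, one_mul] at hzk
      rw [hzk]
      exact (hmemZ' w).mp hw.2
    · intro h
      exact hτw z ⟨hz, (hmemZ' z).mpr h⟩
  · intro q hq1 hq2
    apply Subtype.ext
    show (τ : MulAut H) * (q : MulAut H) = (q : MulAut H) * (τ : MulAut H)
    rw [hττ]
    obtain ⟨qm, hqm⟩ : ∃ qm : MulAut H, qm = (q : MulAut H) := ⟨_, rfl⟩
    rw [← hqm] at hq1 hq2 ⊢
    have hτmemZ : ∀ z ∈ Z, τm z ∈ Z := by
      intro z hz
      obtain ⟨k, w, hw, hzk⟩ := hdecomp z hz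
      rw [hτZ z hz k w hw hzk]
      exact Z.mul_mem (Z.inv_mem (Z.zpow_mem (hZ₀Z hz₀Z₀) k)) hw.1
    have hle : (⊤ : Subgroup H) ≤
        MonoidHom.eqLocus (τm * qm).toMonoidHom (qm * τm).toMonoidHom := by
      rw [← hHgen]
      refine sup_le ?_ ?_
      · intro z hz
        show τm (qm z) = qm (τm z)
        rw [hq1 z hz, hq1 _ (hτmemZ z hz)]
      · rw [Subgroup.zpowers_le]
        show τm (qm x₁) = qm (τm x₁)
        obtain ⟨c, hcdef⟩ : ∃ c : H, c = x₁⁻¹ * qm x₁ := ⟨_, rfl⟩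
        have hc : c ∈ Z₀ := by rw [hcdef]; exact hq2 x₁
        have h1 : qm x₁ = x₁ * c := by rw [hcdef]; group
        rw [h1, map_mul, hτx, hτZ₀ c hc, map_inv, h1, mul_inv_rev, hcomm]
    ext h
    exact hle (Subgroup.mem_top h)

end Cfsg.Agent.Lib.Helper9.H9AbIdx
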