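import Mathlib
import Cfsg.Prelude
import Cfsg.Agent.Lib.Helper9.AbIdx12
import Cfsg.Agent.Lib.Helper9.AbIdx14

set_option autoImplicit false

/-!
# Abelian essential subgroups: the induced automorphism of `Z(S)` inverting `Z(S) ∩ [S,S]`
-/

namespace Cfsg.Agent.Lib.Helper9.H9AbIdx

open Cfsg Cfsg.FusionSystem Cfsg.Agent.Lib.Helper9
open scoped commutatorElement

variable {Ω : Type*} [Group Ω] {S : Subgroup Ω} [Finite S] {p : ℕ} [hp : Fact p.Prime]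
  {A : Subgroup Ω}

theorem commutator_mem_map {s t : Ω} (hs : s ∈ S) (ht : t ∈ S) :
    s * t * s⁻¹ * t⁻¹ ∈ (commutator ↥S).map S.subtype := by
  refine ⟨⁅(⟨s, hs⟩ : S), (⟨t, ht⟩ : S)⁆, ?_, ?_⟩
  · rw [SetLike.mem_coe, commutator_def]
    exact Subgroup.commutator_mem_commutator (Subgroup.mem_top _) (Subgroup.mem_top _)
  · simp [commutatorElement_def]

/-- in the abelian case, `N_S(P)` acts quadratically on `P` -/
theorem Ctx.abelian_quad (C : Ctx p S A) {P : Subgroup Ω} (hPS : P ≤ S) {x : Ω} (hxP : x ∈ P)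
    (hxA : x ∉ A) (hcommP : ∀ a ∈ P, ∀ b ∈ P, a * b = b * a) (hPA : P ⊓ A = ZS S) {n : Ω}
    (hnS : n ∈ S) (hnN : n ∈ Subgroup.normalizer (P : Set Ω)) {g : Ω} (hg : g ∈ P) :
    g⁻¹ * (n * g * n⁻¹) ∈ ZS S := by
  have hxS := hPS hxP
  obtain ⟨j, b, hbA, rfl⟩ := C.exists_decomp hxS hxA hnS
  have hxjP : x ^ j ∈ P := P.zpow_mem hxP j
  have hbN : b ∈ Subgroup.normalizer (P : Set Ω) := by
    have h1 : b = (x ^ j)⁻¹ * (x ^ j * b) := by group
    rw [h1]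
    exact Subgroup.mul_mem _ (Subgroup.inv_mem _ (Subgroup.le_normalizer hxjP)) hnN
  have hbg : b * g * b⁻¹ ∈ P := (Subgroup.mem_normalizer_iff.mp hbN g).mp hg
  have h1 : x ^ j * b * g * (x ^ j * b)⁻¹ = b * g * b⁻¹ := by
    have h2 := hcommP (x ^ j) hxjP (b * g * b⁻¹) hbg
    calc x ^ j * b * g * (x ^ j * b)⁻¹ = (x ^ j * (b * g * b⁻¹)) * (x ^ j)⁻¹ := by group
      _ = (b * g * b⁻¹ * x ^ j) * (x ^ j)⁻¹ := by rw [h2]
      _ = b * g * b⁻¹ := by group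
  rw [h1, ← hPA]
  refine ⟨P.mul_mem (P.inv_mem hg) hbg, ?_⟩
  have h3 : g⁻¹ * (b * g * b⁻¹) = (g⁻¹ * b * g) * b⁻¹ := by group
  rw [h3]
  exact A.mul_mem (C.normal' (hPS hg) hbA) (A.inv_mem hbA)

set_option maxHeartbeats 800000 in
/-- for an abelian essential subgroup `P` and `g ∈ Aut_F(P)` outside the strongly embedded part, some
element of `Aut_F(S)` inverts `Z₀`, acts trivially on `Z(S)/Z₀`, and fixes exactly `Z(S) ∩ g(Z(S))` -/
theorem ess_abelian_beta (C : Ctx p S A) (hS : IsPGroup p S) (F : FusionSystem S)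
    (hF : F.IsSaturated p) (hp2 : p ≠ 2) {P : Subgroup Ω} (hP : F.IsEssential p P) {x : Ω}
    (hxP : x ∈ P) (hxA : x ∉ A) (hab : ∀ g ∈ P, g * x = x * g) (Z₀ : Subgroup Ω)
    (hZ₀def : Z₀ = ZS S ⊓ (commutator ↥S).map S.subtype) (hZ₀card : Nat.card Z₀ = p) :
    ∃ M : Subgroup (F.autGroup P), M ≠ ⊤ ∧ ∀ g : F.autGroup P, g ∉ M →
      ∃ β ∈ F.autGroup S,
        (∀ (z : Ω) (hz : z ∈ ZS S), z ∈ Z₀ → ((β ⟨z, ZS_le S hz⟩ : S) : Ω) = z⁻¹) ∧
        (∀ (z : Ω) (hz : z ∈ ZS S), z⁻¹ * ((β ⟨z, ZS_le S hz⟩ : S) : Ω) ∈ Z₀) ∧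
        (∀ (z : Ω) (hz : z ∈ ZS S), ((β ⟨z, ZS_le S hz⟩ : S) : Ω) = z ↔
          (((g : MulAut P)⁻¹ ⟨z, ess_ZS_le F hP hz⟩ : P) : Ω) ∈ ZS S) := by
  have hPS := ess_le F hP
  have hxS := hPS hxP
  have hZP := ess_ZS_le F hP
  have hRn : F.IsFullyNormalized P := hP.2.1
  obtain ⟨hPeq, hPA, hidx, hNA⟩ := ess_abelian_case C hS F hF hP hxP hxA hab
  have hcommP : ∀ a ∈ P, ∀ b ∈ P, a * b = b * a := fun a ha b hb =>
    C.comm_of_comm hxS hxA (hPS ha) (hPS hb) (hab a ha) (hab b hb)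
  have hcommP' : ∀ a b : P, a * b = b * a := fun a b => Subtype.ext (hcommP a a.2 b b.2)
  haveI : Finite P := fs_finite_of_le hPS
  have hPp : IsPGroup p P := hS.to_le hPS
  have hZ₀Z : Z₀ ≤ ZS S := by rw [hZ₀def]; exact inf_le_left
  obtain ⟨T₀, hT₀, M, hMtop, hMem⟩ := ess_sylow_data p hS F hF hP
  refine ⟨M, hMtop, fun g hg => ?_⟩
  have hMem' : ∀ α q : F.autGroup P, q ∈ (T₀ : Subgroup (F.autGroup P)) → q ≠ 1 →
      α * q * α⁻¹ ∈ (T₀ : Subgroup (F.autGroup P)) → α ∈ M := by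
    intro α q hq hq1 hconj
    apply hMem α q hq _ hconj
    rintro ⟨g', hg'⟩
    apply hq1
    apply Subtype.ext
    rw [← hg']
    ext y
    show ((g' * y * g'⁻¹ : P) : Ω) = y
    rw [hcommP' g' y, mul_inv_cancel_right]
  -- an element `b ∈ A` normalizing `P`, outside `P`
  obtain ⟨n, hnS, hnN, hnP⟩ := ess_exists_normalizing p hS F hF hP
  obtain ⟨k, b, hbA, rfl⟩ := C.exists_decomp hxS hxA hnS
  have hxkP : x ^ k ∈ P := P.zpow_mem hxP k
  have hbN : b ∈ Subgroup.normalizer (P : Set Ω) := by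
    have h1 : b = (x ^ k)⁻¹ * (x ^ k * b) := by group
    rw [h1]
    exact Subgroup.mul_mem _ (Subgroup.inv_mem _ (Subgroup.le_normalizer hxkP)) hnN
  have hbP : b ∉ P := fun h => hnP (P.mul_mem hxkP h)
  have hbS : b ∈ S := C.hAS hbA
  -- automorphisms induced by `N_S(P)`
  have hind : ∀ n' ∈ S, ∀ hn' : n' ∈ Subgroup.normalizer (P : Set Ω),
      ∃ q : F.autGroup P, q ∈ (T₀ : Subgroup (F.autGroup P)) ∧
        (q : MulAut P) = P.normalizerMonoidHom ⟨n', hn'⟩ := by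
    intro n' hn'S hn'N
    have hqS : P.normalizerMonoidHom ⟨n', hn'N⟩ ∈ autInducedBy S P := by
      rw [mem_autInducedBy_iff]; exact ⟨n', hn'S, fun y => rfl⟩
    have hqF := autInducedBy_le_autGroup F hPS hqS
    refine ⟨⟨_, hqF⟩, ?_, rfl⟩
    rw [hT₀, Subgroup.mem_subgroupOf]; exact hqS
  have hqprops : ∀ n' ∈ S, ∀ hn' : n' ∈ Subgroup.normalizer (P : Set Ω),
      (∀ z ∈ (ZS S).subgroupOf P, P.normalizerMonoidHom ⟨n', hn'⟩ z = z) ∧
      (∀ h : P, h⁻¹ * P.normalizerMonoidHom ⟨n', hn'⟩ h ∈ Z₀.subgroupOf P) := by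
    intro n' hn'S hn'N
    constructor
    · intro z hz
      rw [Subgroup.mem_subgroupOf] at hz
      apply Subtype.ext
      show n' * (z : Ω) * n'⁻¹ = z
      rw [(mem_ZS_iff.mp hz).2 n' hn'S, mul_inv_cancel_right]
    · intro h
      rw [Subgroup.mem_subgroupOf, hZ₀def]
      show (h : Ω)⁻¹ * (n' * (h : Ω) * n'⁻¹) ∈ _
      refine ⟨C.abelian_quad hPS hxP hxA hcommP hPA hn'S hn'N h.2, ?_⟩
      have h1 : (h : Ω)⁻¹ * (n' * (h : Ω) * n'⁻¹) = (h : Ω)⁻¹ * n' * ((h : Ω)⁻¹)⁻¹ * n'⁻¹ := by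
        group
      rw [h1]
      exact commutator_mem_map (S.inv_mem (hPS h.2)) hn'S
  obtain ⟨t, htT, htb⟩ := hind b hbS hbN
  -- hypotheses of `exists_tau`
  have hZidx : ((ZS S).subgroupOf P).index = p := by
    have h1 : ZS S = A ⊓ P := by rw [inf_comm]; exact hPA.symm
    show (ZS S).relIndex P = p
    rw [h1, Subgroup.inf_relIndex_right]
    exact C.relIndex_of_not_le hPS hxP hxA
  have hZ₀card' : Nat.card (Z₀.subgroupOf P) = p := by
    rw [← hZ₀card]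
    exact Nat.card_congr (Subgroup.subgroupOfEquivOfLe (le_trans hZ₀Z hZP)).toEquiv
  have hfix : ∀ h : P, (t : MulAut P) h = h ↔ h ∈ (ZS S).subgroupOf P := by
    intro h
    rw [htb]
    constructor
    · intro h1
      rw [Subgroup.mem_subgroupOf, ← hPA]
      refine ⟨h.2, ?_⟩
      by_contra hhA
      have h2 : b * (h : Ω) * b⁻¹ = h := congrArg Subtype.val h1
      have h3 : b * (h : Ω) = h * b := by
        calc b * (h : Ω) = (b * (h : Ω) * b⁻¹) * b := by group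
          _ = h * b := by rw [h2]
      exact hbP (hZP (C.mem_ZS_of_comm (hPS h.2) hhA hbA h3))
    · intro h1
      exact (hqprops b hbS hbN).1 h h1
  have hquad : ∀ h : P, h⁻¹ * (t : MulAut P) h ∈ Z₀.subgroupOf P := by
    intro h
    rw [htb]
    exact (hqprops b hbS hbN).2 h
  obtain ⟨τ, hτ1, hτ2, hτ3, hτ4⟩ := exists_tau p hp2 hPp hcommP' (F.autGroup P) T₀ M hMem' hg htT
    ((ZS S).subgroupOf P) (Z₀.subgroupOf P) hZidx
    (fun z hz => by
      rw [Subgroup.mem_subgroupOf] at hz ⊢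
      exact hZ₀Z hz) hZ₀card' hfix hquad
  -- extension to `N_S(P)`
  obtain ⟨ψ, hψF, hψ⟩ := ext_normalizer hS F hF hRn (α := (τ : MulAut P)) τ.2 (by
    intro n' hn'S hn'N
    obtain ⟨q, -, hq⟩ := hind n' hn'S hn'N
    have h1 := hτ4 q (by rw [hq]; exact (hqprops n' hn'S hn'N).1)
      (by rw [hq]; exact (hqprops n' hn'S hn'N).2)
    refine ⟨n', hn'S, fun y => ?_⟩
    have h2 : ((τ * q : F.autGroup P) : MulAut P) y = ((q * τ : F.autGroup P) : MulAut P) y := by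
      rw [h1]
    have h3 : (τ : MulAut P) ((q : MulAut P) y) = (q : MulAut P) ((τ : MulAut P) y) := h2
    rw [hq] at h3
    rw [h3]
    rfl)
  -- the normalizer is nonabelian
  have hRN : P ≤ normalizerIn S P := le_inf hPS Subgroup.le_normalizer
  have hNna : ∃ a ∈ normalizerIn S P, ∃ c ∈ normalizerIn S P, a * c ≠ c * a := by
    refine ⟨b, ⟨hbS, hbN⟩, x, hRN hxP, ?_⟩
    intro h
    exact hbP (hZP (C.mem_ZS_of_comm hxS hxA hbA h))
  obtain ⟨β, hβF, hβ⟩ := hom_ZS_eq C hS F hF hψF hNna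
  have hβτ : ∀ (z : Ω) (hz : z ∈ ZS S),
      ((β ⟨z, ZS_le S hz⟩ : S) : Ω) = (((τ : MulAut P) ⟨z, hZP hz⟩ : P) : Ω) := by
    intro z hz
    rw [← hβ z hz (hRN (hZP hz))]
    exact hψ z (hZP hz) (hRN (hZP hz))
  refine ⟨β, hβF, ?_, ?_, ?_⟩
  · intro z hz hz₀
    rw [hβτ z hz]
    have := hτ1 ⟨z, hZP hz⟩ (by rw [Subgroup.mem_subgroupOf]; exact hz₀)
    rw [this]
    rfl
  · intro z hz
    rw [hβτ z hz]
    have := hτ2 ⟨z, hZP hz⟩ (by rw [Subgroup.mem_subgroupOf]; exact hz)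
    rw [Subgroup.mem_subgroupOf] at this
    exact this
  · intro z hz
    rw [hβτ z hz]
    have := hτ3 ⟨z, hZP hz⟩ (by rw [Subgroup.mem_subgroupOf]; exact hz)
    rw [Subgroup.mem_subgroupOf] at this
    rw [← this]
    constructor
    · intro h
      exact Subtype.ext h
    · intro h
      exact congrArg Subtype.val h

end Cfsg.Agent.Lib.Helper9.H9AbIdx
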