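import Mathlib
import Cfsg.Prelude.Def_FusionComponents
import Cfsg.Agent.Lib.Helper9.FusionBasic
import Cfsg.Agent.Lib.Helper9.FusionReceptive
import Cfsg.Agent.Lib.Helper9.FusionAut
import Cfsg.Agent.Lib.Helper9.FusionFactor
import Cfsg.Agent.Lib.Helper9.FusionMorph1
import Cfsg.Agent.Lib.Helper9.FusionSat2
import Cfsg.Agent.Lib.Helper9.FusionAG3
import Cfsg.Agent.Lib.Helper9.FusionNormal1
import Cfsg.Agent.Lib.Helper6.PRes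
import Cfsg.Agent.S5084
import Cfsg.Agent.S5097
import Cfsg.Agent.S5134
import Cfsg.Agent.S5144

set_option autoImplicit false
open Cfsg Cfsg.FusionSystem

namespace Cfsg.Agent.Lib.Helper9

variable {Ω : Type*} [Group Ω] {S : Subgroup Ω}

/-- A map of the system fixes every element of a central subgroup that lies in its source. -/
theorem isCentral_fixes (F : FusionSystem S) {Q : Subgroup Ω} (hQ : F.IsCentral Q) {R : Subgroup Ω}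
    {φ : R →* Ω} (hφ : φ ∈ F.Hom R) (x : R) (hx : (x : Ω) ∈ Q) : φ x = x := by
  obtain ⟨ψ, -, hψR, hψQ⟩ := hQ.2 R φ hφ
  have h1 := hψR x
  have h2 := hψQ ⟨x, hx⟩
  have h3 : (Subgroup.inclusion le_sup_left x : ↥(R ⊔ Q)) =
      Subgroup.inclusion le_sup_right (⟨x, hx⟩ : Q) := Subtype.ext rfl
  rw [← h1, h3, h2]

theorem stronglyClosed_of_isCentral (F : FusionSystem S) {Q : Subgroup Ω} (hQ : F.IsCentral Q) :
    F.StronglyClosed Q := by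
  refine ⟨hQ.1, fun R hR φ hφ x => ?_⟩
  rw [isCentral_fixes F hQ hφ x (hR x.2)]
  exact hR x.2

theorem isCentral_comm (F : FusionSystem S) {Q : Subgroup Ω} (hQ : F.IsCentral Q) {x : Ω} (hx : x ∈ Q)
    {s : Ω} (hs : s ∈ S) : Commute x s := by
  have h1 : conjHom S s ∈ F.Hom S := F.conj_mem le_rfl hs
  have h2 := isCentral_fixes F hQ h1 ⟨x, hQ.1 hx⟩ hx
  have h3 : s * x * s⁻¹ = x := h2
  show x * s = s * x
  calc x * s = (s * x * s⁻¹) * s := by rw [h3]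
    _ = s * x := by group

theorem comm_central_aux {G : Type*} [Group G] (a z c₁ c₂ : G) (h2a : Commute c₂ a)
    (h2z : Commute c₂ z) (h1a : Commute c₁ a) (h12 : Commute c₁ c₂) :
    (a * c₂)⁻¹ * (z * c₁) * (a * c₂) * (z * c₁)⁻¹ = a⁻¹ * z * a * z⁻¹ := by
  have hw : Commute c₂ (a⁻¹ * (z * c₁) * a) :=
    ((h2a.inv_right.mul_right (h2z.mul_right h12.symm)).mul_right h2a)
  calc (a * c₂)⁻¹ * (z * c₁) * (a * c₂) * (z * c₁)⁻¹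
      = c₂⁻¹ * (a⁻¹ * (z * c₁) * a) * c₂ * (z * c₁)⁻¹ := by group
    _ = (a⁻¹ * (z * c₁) * a) * (z * c₁)⁻¹ := by rw [hw.inv_mul_cancel]
    _ = a⁻¹ * z * (c₁ * a) * c₁⁻¹ * z⁻¹ := by group
    _ = a⁻¹ * z * (a * c₁) * c₁⁻¹ * z⁻¹ := by rw [h1a.eq]
    _ = a⁻¹ * z * a * z⁻¹ := by group

section Grun

variable {Ω' : Type*} [Group Ω'] {S' : Subgroup Ω'}

/-- Maps of `F` fix, modulo the kernel, every element whose image lies in a central subgroup of the target. -/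
theorem grun_mod (F : FusionSystem S) (E : FusionSystem S') (θ : S →* Ω') (hθ : F.IsMorphism E θ)
    {Q' : Subgroup Ω'} (hQ' : E.IsCentral Q') {R : Subgroup Ω} {φ : R →* Ω} (hφ : φ ∈ F.Hom R)
    (x : R) (hxS : (x : Ω) ∈ S) (hxQ : θ ⟨x, hxS⟩ ∈ Q') (hφS : φ x ∈ S) :
    θ ⟨φ x, hφS⟩ = θ ⟨x, hxS⟩ := by
  obtain ⟨φ', hφ', H⟩ := morph_push F E θ hθ hφ
  have hx' : θ ⟨x, hxS⟩ ∈ imageAlong θ R := apply_mem_imageAlong θ hxS x.2
  rw [← H x hxS hx' hφS]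
  exact isCentral_fixes E hQ' hφ' ⟨θ ⟨x, hxS⟩, hx'⟩ hxQ

theorem ker_diff (θ : S →* Ω') {Z : Subgroup Ω} (hker : ∀ s : S, θ s = 1 ↔ (s : Ω) ∈ Z)
    {a b : Ω} (ha : a ∈ S) (hb : b ∈ S) (h : θ ⟨a, ha⟩ = θ ⟨b, hb⟩) : a⁻¹ * b ∈ Z := by
  have h1 : θ (⟨a, ha⟩⁻¹ * ⟨b, hb⟩) = 1 := by
    rw [map_mul, map_inv, h, inv_mul_cancel]
  exact (hker _).mp h1

/-- The commutator of a "second centre" element with an element of `S` lies in the centre. -/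
theorem grun_comm_mem (F : FusionSystem S) (E : FusionSystem S') (θ : S →* Ω') (hθ : F.IsMorphism E θ)
    {Z : Subgroup Ω} (hker : ∀ s : S, θ s = 1 ↔ (s : Ω) ∈ Z)
    {Q' : Subgroup Ω'} (hQ' : E.IsCentral Q') {z : Ω} (hzS : z ∈ S) (hzQ : θ ⟨z, hzS⟩ ∈ Q')
    {s : Ω} (hs : s ∈ S) : s⁻¹ * z * s * z⁻¹ ∈ Z := by
  have h1 : conjHom S s⁻¹ ∈ F.Hom S := F.conj_mem le_rfl (S.inv_mem hs)
  have h2 := grun_mod F E θ hθ hQ' h1 ⟨z, hzS⟩ hzS hzQ ((F.le_of_mem h1).2 _)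
  have h3 : (conjHom S s⁻¹ ⟨z, hzS⟩ : Ω) = s⁻¹ * z * s := by
    show s⁻¹ * z * s⁻¹⁻¹ = _
    rw [inv_inv]
  have h4 : s⁻¹ * z * s ∈ S := S.mul_mem (S.mul_mem (S.inv_mem hs) hzS) hs
  have h5 : θ ⟨s⁻¹ * z * s, h4⟩ = θ ⟨z, hzS⟩ := by
    rw [← h2]
    congr 1
    exact Subtype.ext h3.symm
  have h6 := ker_diff θ hker hzS h4 h5.symm
  have h7 : s⁻¹ * z * s * z⁻¹ = z * (z⁻¹ * (s⁻¹ * z * s)) * z⁻¹ := by group
  have h8 : θ (⟨z, hzS⟩ * ⟨z⁻¹ * (s⁻¹ * z * s), S.mul_mem (S.inv_mem hzS) h4⟩ * ⟨z, hzS⟩⁻¹) = 1 := by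
    rw [map_mul, map_mul, map_inv, (hker ⟨z⁻¹ * (s⁻¹ * z * s), _⟩).mpr h6, mul_one, mul_inv_cancel]
  rw [h7]
  exact (hker _).mp h8

end Grun

end Cfsg.Agent.Lib.Helper9
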