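import Mathlib
import Cfsg.Agent.Lib.Helper9.Grun1

set_option autoImplicit false
open Cfsg Cfsg.FusionSystem

namespace Cfsg.Agent.Lib.Helper9

variable {Ω : Type*} [Group Ω] {S : Subgroup Ω}
variable {Ω' : Type*} [Group Ω'] {S' : Subgroup Ω'}

/-- The commutator with a "second centre" element is invariant under maps of the system. -/
theorem grun_comm_inv (F : FusionSystem S) (E : FusionSystem S') (θ : S →* Ω')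
    (hθ : F.IsSurjectiveMorphism E θ) {Z : Subgroup Ω} (hZ : F.IsCentral Z)
    (hker : ∀ s : S, θ s = 1 ↔ (s : Ω) ∈ Z)
    {Q' : Subgroup Ω'} (hQ' : E.IsCentral Q') {z : Ω} (hzS : z ∈ S) (hzQ : θ ⟨z, hzS⟩ ∈ Q')
    {P : Subgroup Ω} {φ : P →* Ω} (hφ : φ ∈ F.Hom P) (x : P) :
    (φ x)⁻¹ * z * φ x * z⁻¹ = (x : Ω)⁻¹ * z * x * z⁻¹ := by
  have hrange := hθ.2.1
  have hPS := (F.le_of_mem hφ).1
  have hφS := (F.le_of_mem hφ).2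
  obtain ⟨φ', hφ', H⟩ := morph_push F E θ hθ.1 hφ
  obtain ⟨ψ', hψ', hψ'P, hψ'Q⟩ := hQ'.2 _ φ' hφ'
  have hle : imageAlong θ P ⊔ Q' ≤ S' := sup_le (imageAlong_le_of_range θ hrange P) hQ'.1
  obtain ⟨ψ, hψ, hind⟩ := hθ.2.2 _ hle ψ' hψ'
  have hψS := (F.le_of_mem hψ).2
  have hxS : (x : Ω) ∈ S := hPS x.2
  have hxI : θ ⟨x, hxS⟩ ∈ imageAlong θ P := apply_mem_imageAlong θ hxS x.2
  have hxR : (x : Ω) ∈ preimageAlong θ (imageAlong θ P ⊔ Q') :=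
    (mem_preimageAlong_iff θ _ _).mpr ⟨hxS, Subgroup.mem_sup_left hxI⟩
  have hzR : z ∈ preimageAlong θ (imageAlong θ P ⊔ Q') :=
    (mem_preimageAlong_iff θ _ _).mpr ⟨hzS, Subgroup.mem_sup_right hzQ⟩
  have e1 : θ ⟨ψ ⟨x, hxR⟩, hψS _⟩ = θ ⟨φ x, hφS x⟩ := by
    rw [← inducedAlong_apply hind ⟨x, hxR⟩ hxS (Subgroup.mem_sup_left hxI) (hψS _)]
    rw [← H x hxS hxI (hφS x)]
    exact hψ'P ⟨θ ⟨x, hxS⟩, hxI⟩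
  have e2 : θ ⟨ψ ⟨z, hzR⟩, hψS _⟩ = θ ⟨z, hzS⟩ := by
    rw [← inducedAlong_apply hind ⟨z, hzR⟩ hzS (Subgroup.mem_sup_right hzQ) (hψS _)]
    exact hψ'Q ⟨θ ⟨z, hzS⟩, hzQ⟩
  have hc2 := ker_diff θ hker (hφS x) (hψS _) e1.symm
  have hc1 := ker_diff θ hker hzS (hψS _) e2.symm
  set c₂ := (φ x)⁻¹ * ψ ⟨x, hxR⟩ with hc₂
  set c₁ := z⁻¹ * ψ ⟨z, hzR⟩ with hc₁
  have hψx : ψ ⟨x, hxR⟩ = φ x * c₂ := by rw [hc₂]; group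
  have hψz : ψ ⟨z, hzR⟩ = z * c₁ := by rw [hc₁]; group
  have hd : (x : Ω)⁻¹ * z * x * z⁻¹ ∈ Z := grun_comm_mem F E θ hθ.1 hker hQ' hzS hzQ hxS
  have hdR : (x : Ω)⁻¹ * z * x * z⁻¹ ∈ preimageAlong θ (imageAlong θ P ⊔ Q') := by
    refine (mem_preimageAlong_iff θ _ _).mpr ⟨hZ.1 hd, ?_⟩
    rw [(hker _).mpr hd]
    exact Subgroup.one_mem _
  have hfix := isCentral_fixes F hZ hψ ⟨_, hdR⟩ hd
  have hprod : (⟨(x : Ω)⁻¹ * z * x * z⁻¹, hdR⟩ : preimageAlong θ (imageAlong θ P ⊔ Q')) =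
      ⟨x, hxR⟩⁻¹ * ⟨z, hzR⟩ * ⟨x, hxR⟩ * ⟨z, hzR⟩⁻¹ := Subtype.ext rfl
  have hfix' : ψ (⟨x, hxR⟩⁻¹ * ⟨z, hzR⟩ * ⟨x, hxR⟩ * ⟨z, hzR⟩⁻¹) = (x : Ω)⁻¹ * z * x * z⁻¹ := by
    rw [← hprod]; exact hfix
  rw [map_mul, map_mul, map_mul, map_inv, map_inv, hψx, hψz] at hfix'
  rw [← hfix']
  symm
  apply comm_central_aux
  · exact isCentral_comm F hZ hc2 (hφS x)
  · exact isCentral_comm F hZ hc2 hzS
  · exact isCentral_comm F hZ hc1 (hφS x)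
  · exact isCentral_comm F hZ hc1 (hZ.1 hc2)

end Cfsg.Agent.Lib.Helper9
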