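import Mathlib
import Cfsg.Agent.Lib.Helper9.Grun2

set_option autoImplicit false
open Cfsg Cfsg.FusionSystem

namespace Cfsg.Agent.Lib.Helper9

variable {Ω : Type*} [Group Ω] {S : Subgroup Ω}
variable {Ω' : Type*} [Group Ω'] {S' : Subgroup Ω'}

/-- If `hyp(F) = S`, a "second centre" element lies in the centre of `S`. -/
theorem grun_central (p : ℕ) (F : FusionSystem S) (E : FusionSystem S') (θ : S →* Ω')
    (hθ : F.IsSurjectiveMorphism E θ) {Z : Subgroup Ω} (hZ : F.IsCentral Z)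
    (hker : ∀ s : S, θ s = 1 ↔ (s : Ω) ∈ Z) (hperf : F.hyperfocalSubgroup p = S)
    {Q' : Subgroup Ω'} (hQ' : E.IsCentral Q') {z : Ω} (hzS : z ∈ S) (hzQ : θ ⟨z, hzS⟩ ∈ Q')
    {s : Ω} (hs : s ∈ S) : Commute z s := by
  have hle : F.hyperfocalSubgroup p ≤ Subgroup.centralizer {z} := by
    unfold FusionSystem.hyperfocalSubgroup
    rw [Subgroup.closure_le]
    rintro y ⟨P, α, x, hPS, -, rfl⟩
    rw [SetLike.mem_coe, Subgroup.mem_centralizer_iff]
    intro w hw
    rw [Set.mem_singleton_iff] at hw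
    subst hw
    have hαF : P.subtype.comp (α : MulAut P).toMonoidHom ∈ F.Hom P :=
      (mem_autGroup_iff F hPS _).mp α.2
    have key := grun_comm_inv F E θ hθ hZ hker hQ' hzS hzQ hαF x
    have hxS : (x : Ω) ∈ S := hPS x.2
    have haS : (((α : MulAut P) x : P) : Ω) ∈ S := hPS ((α : MulAut P) x).2
    have hd : (x : Ω)⁻¹ * w * x * w⁻¹ ∈ Z := grun_comm_mem F E θ hθ.1 hker hQ' hzS hzQ hxS
    have hcomm : Commute ((x : Ω)⁻¹ * w * x * w⁻¹) ((x : Ω)⁻¹ * (((α : MulAut P) x : P) : Ω)) :=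
      isCentral_comm F hZ hd (S.mul_mem (S.inv_mem hxS) haS)
    have key' : (((α : MulAut P) x : P) : Ω)⁻¹ * w * (((α : MulAut P) x : P) : Ω) * w⁻¹ =
        (x : Ω)⁻¹ * w * x * w⁻¹ := key
    generalize (((α : MulAut P) x : P) : Ω) = a at key' hcomm ⊢
    generalize (x : Ω) = b at key' hcomm ⊢
    set d := b⁻¹ * w * b * w⁻¹ with hd'
    have h1 : w * b * w⁻¹ = b * d := by rw [hd']; group
    have h2 : w * a * w⁻¹ = a * d := by rw [← key']; group
    calc w * (b⁻¹ * a) = (w * b * w⁻¹)⁻¹ * (w * a * w⁻¹) * w := by group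
      _ = (b * d)⁻¹ * (a * d) * w := by rw [h1, h2]
      _ = d⁻¹ * ((b⁻¹ * a) * d) * w := by group
      _ = d⁻¹ * (d * (b⁻¹ * a)) * w := by rw [hcomm.eq]
      _ = b⁻¹ * a * w := by group
  have : s ∈ Subgroup.centralizer {z} := hle (by rw [hperf]; exact hs)
  rw [Subgroup.mem_centralizer_iff] at this
  exact this z rfl

end Cfsg.Agent.Lib.Helper9
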