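import Mathlib
import Cfsg.Agent.Lib.Helper9.Grun3

set_option autoImplicit false
open Cfsg Cfsg.FusionSystem

namespace Cfsg.Agent.Lib.Helper9

variable {Ω : Type*} [Group Ω] {S : Subgroup Ω}
variable {Ω' : Type*} [Group Ω'] {S' : Subgroup Ω'}

theorem aut_pow_apply_aux {P : Type*} [Group P] (β : MulAut P) (z c : P) (h1 : β z = z * c)
    (h2 : β c = c) (n : ℕ) : (β ^ n) z = z * c ^ n := by
  induction n with
  | zero => simp
  | succ n ih =>
    rw [pow_succ', MulAut.mul_apply, ih, map_mul, map_pow, h1, h2, pow_succ', mul_assoc]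

/-- A `p'`-automorphism in the system fixes a "second centre" element. -/
theorem grun_pprime_fix [Finite S] (p : ℕ) [Fact p.Prime] (hS : IsPGroup p S)
    (F : FusionSystem S) (E : FusionSystem S') (θ : S →* Ω')
    (hθ : F.IsMorphism E θ) {Z : Subgroup Ω} (hZ : F.IsCentral Z)
    (hker : ∀ s : S, θ s = 1 ↔ (s : Ω) ∈ Z)
    {Q' : Subgroup Ω'} (hQ' : E.IsCentral Q') {z : Ω} (hzS : z ∈ S) (hzQ : θ ⟨z, hzS⟩ ∈ Q')
    {P : Subgroup Ω} (hPS : P ≤ S) (hzP : z ∈ P) (α : F.autGroup P)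
    (hα : Nat.Coprime (orderOf α) p) : (α : MulAut P) ⟨z, hzP⟩ = ⟨z, hzP⟩ := by
  have hαF : P.subtype.comp (α : MulAut P).toMonoidHom ∈ F.Hom P :=
    (mem_autGroup_iff F hPS _).mp α.2
  have hαS := (F.le_of_mem hαF).2
  have h1 := grun_mod F E θ hθ hQ' hαF ⟨z, hzP⟩ hzS hzQ (hαS _)
  have h2 := ker_diff θ hker hzS (hαS _) h1.symm
  set zP : P := ⟨z, hzP⟩ with hzP'
  set cP : P := zP⁻¹ * (α : MulAut P) zP with hcP
  have hcZ : (cP : Ω) ∈ Z := h2
  have h3 : (α : MulAut P) zP = zP * cP := by rw [hcP]; group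
  have h4 : (α : MulAut P) cP = cP := by
    have := isCentral_fixes F hZ hαF cP hcZ
    exact Subtype.ext this
  have h5 := aut_pow_apply_aux (α : MulAut P) zP cP h3 h4 (orderOf α)
  have h6 : ((α : MulAut P)) ^ (orderOf α) = 1 := by
    have := pow_orderOf_eq_one α
    have h := congrArg (fun a : F.autGroup P => (a : MulAut P)) this
    exact h
  rw [h6, MulAut.one_apply] at h5
  have h7 : cP ^ (orderOf α) = 1 := by
    have : zP * 1 = zP * cP ^ (orderOf α) := by rw [mul_one]; exact h5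
    exact (mul_left_cancel this).symm
  obtain ⟨k, hk⟩ := (hS.to_le hPS) cP
  have h8 : orderOf cP ∣ orderOf α := orderOf_dvd_of_pow_eq_one h7
  have h9 : orderOf cP ∣ p ^ k := orderOf_dvd_of_pow_eq_one hk
  have h10 : orderOf cP = 1 := Nat.eq_one_of_dvd_coprimes (Nat.Coprime.pow_right k hα) h8 h9
  rw [orderOf_eq_one_iff] at h10
  rw [h3, h10, mul_one]

end Cfsg.Agent.Lib.Helper9
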