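import Mathlib
import Cfsg.Agent.Lib.Helper9.Grun4

set_option autoImplicit false
open Cfsg Cfsg.FusionSystem

namespace Cfsg.Agent.Lib.Helper9

variable {Ω : Type*} [Group Ω] {S : Subgroup Ω}
variable {Ω' : Type*} [Group Ω'] {S' : Subgroup Ω'}

/-- All automorphisms in the system of a fully normalized subgroup fix a "second centre" element
that is central in `S`. -/
theorem grun_aut_fix [Finite S] (p : ℕ) [Fact p.Prime] (hS : IsPGroup p S)
    (F : FusionSystem S) (hF : F.IsSaturated p) (E : FusionSystem S') (θ : S →* Ω')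
    (hθ : F.IsMorphism E θ) {Z : Subgroup Ω} (hZ : F.IsCentral Z)
    (hker : ∀ s : S, θ s = 1 ↔ (s : Ω) ∈ Z)
    {Q' : Subgroup Ω'} (hQ' : E.IsCentral Q') {z : Ω} (hzS : z ∈ S) (hzQ : θ ⟨z, hzS⟩ ∈ Q')
    (hzc : ∀ s ∈ S, Commute z s)
    {P : Subgroup Ω} (hPn : F.IsFullyNormalized P) (hzP : z ∈ P) (α : MulAut P)
    (hα : α ∈ F.autGroup P) : α ⟨z, hzP⟩ = ⟨z, hzP⟩ := by
  have hPS := hPn.1
  haveI : Finite P := fs_finite_of_le hPS
  haveI : Finite (MulAut P) := inferInstanceAs (Finite (P ≃* P))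
  let H : Subgroup (F.autGroup P) :=
    (MulAction.stabilizer (MulAut P) (⟨z, hzP⟩ : P)).subgroupOf (F.autGroup P)
  have hH : ∀ β : F.autGroup P, β ∈ H ↔ (β : MulAut P) ⟨z, hzP⟩ = ⟨z, hzP⟩ := fun β => by
    show (β : MulAut P) ∈ MulAction.stabilizer (MulAut P) (⟨z, hzP⟩ : P) ↔ _
    rw [MulAction.mem_stabilizer_iff]
    rfl
  have h1 : pResidual p (F.autGroup P) ≤ H := by
    apply Cfsg.Agent.Lib.Helper6.pResidual_le_of_forall
    intro β hβ
    rw [hH]
    exact grun_pprime_fix p hS F E θ hθ hZ hker hQ' hzS hzQ hPS hzP β hβ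
  have h2 : (autInducedBy S P).subgroupOf (F.autGroup P) ≤ H := by
    intro β hβ
    rw [Subgroup.mem_subgroupOf, mem_autInducedBy_iff] at hβ
    obtain ⟨g, hg, Hg⟩ := hβ
    rw [hH]
    apply Subtype.ext
    rw [Hg]
    show g * z * g⁻¹ = z
    have := (hzc g hg).eq
    calc g * z * g⁻¹ = (z * g) * g⁻¹ := by rw [this]
      _ = z := by group
  obtain ⟨-, -, R, hR⟩ := fs_sylow_axiom p hS F hF hPn
  have h3 := Cfsg.Agent.Lib.Helper6.pResidual_sup_sylow R
  have h4 : H = ⊤ := by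
    apply top_unique
    rw [← h3]
    exact sup_le h1 (hR ▸ h2)
  exact (hH ⟨α, hα⟩).mp (h4 ▸ Subgroup.mem_top _)

end Cfsg.Agent.Lib.Helper9
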