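import Mathlib
import Cfsg.Agent.Lib.Helper9.Grun5

set_option autoImplicit false
open Cfsg Cfsg.FusionSystem

namespace Cfsg.Agent.Lib.Helper9

variable {Ω : Type*} [Group Ω] {S : Subgroup Ω}
variable {Ω' : Type*} [Group Ω'] {S' : Subgroup Ω'}

theorem isFullyNormalized_self [Finite S] (F : FusionSystem S) : F.IsFullyNormalized S := by
  refine ⟨le_rfl, fun Q _ => ?_⟩
  have h1 : normalizerIn S Q ≤ normalizerIn S S := by
    intro x hx
    exact ⟨hx.1, Subgroup.le_normalizer hx.1⟩
  haveI : Finite (normalizerIn S S) := fs_finite_of_le inf_le_left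
  exact Subgroup.card_le_of_le h1

/-- If all automorphism groups of `S` and of the essential subgroups fix a central element `z` of `S`,
then every map of the system defined at `z` fixes `z`. -/
theorem fix_of_aut_fix [Finite S] (p : ℕ) [Fact p.Prime] (hS : IsPGroup p S)
    (F : FusionSystem S) (hF : F.IsSaturated p) {z : Ω} (hzS : z ∈ S)
    (hzc : ∀ s ∈ S, Commute z s)
    (haut : ∀ P : Subgroup Ω, F.IsFullyNormalized P → ∀ hzP : z ∈ P, ∀ α : MulAut P,
      α ∈ F.autGroup P → α ⟨z, hzP⟩ = ⟨z, hzP⟩)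
    {R : Subgroup Ω} {φ : R →* Ω} (hφ : φ ∈ F.Hom R) (hzR : z ∈ R) : φ ⟨z, hzR⟩ = z := by
  have hQS : Subgroup.zpowers z ≤ S := by
    rw [Subgroup.zpowers_le]; exact hzS
  have hcent : centralizerIn S (Subgroup.zpowers z) = S := by
    apply le_antisymm inf_le_left
    refine le_inf le_rfl ?_
    intro s hs
    rw [Subgroup.mem_centralizer_iff]
    intro w hw
    obtain ⟨k, rfl⟩ := Subgroup.mem_zpowers_iff.mp hw
    exact ((hzc s hs).zpow_left k).eq
  obtain ⟨C, hC⟩ := Cfsg.Agent.S5097.result F (Subgroup.zpowers z) hQS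
  obtain ⟨E', hE'⟩ := fs_cast_system hcent C
  have hle : F ≤ E' := by
    apply fs_alperin_goldschmidt p hS F hF E'
    intro P hP α hα
    have hPn : F.IsFullyNormalized P := by
      rcases hP with rfl | hess
      · exact isFullyNormalized_self F
      · exact hess.2.1
    have hPS := hPn.1
    have hzP : z ∈ P := by
      rcases hP with rfl | hess
      · exact hzS
      · apply hess.1.2 P (fs_isConj_refl F hPS)
        refine ⟨hzS, ?_⟩
        apply Subgroup.mem_centralizer_iff.mpr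
        intro w hw
        exact (hzc w (hPS hw)).eq.symm
    have hαz := haut P hPn hzP α hα
    have hαF : P.subtype.comp α.toMonoidHom ∈ F.Hom P := (mem_autGroup_iff F hPS _).mp hα
    rw [mem_autGroup_iff E' hPS, hE', hC]
    have hQP : Subgroup.zpowers z ≤ P := by
      rw [Subgroup.zpowers_le]; exact hzP
    have hsup : P ⊔ Subgroup.zpowers z ≤ P := sup_le le_rfl hQP
    refine ⟨hαF, by rw [hcent]; exact hPS, fun x => by rw [hcent]; exact (F.le_of_mem hαF).2 x,
      (P.subtype.comp α.toMonoidHom).comp (Subgroup.inclusion hsup), fs_restrict_mem F hαF hsup, ?_, ?_⟩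
    · intro x
      rfl
    · intro w
      obtain ⟨k, hk⟩ := Subgroup.mem_zpowers_iff.mp w.2
      show ((α ⟨(w : Ω), _⟩ : P) : Ω) = w
      have h1 : (⟨(w : Ω), hQP w.2⟩ : P) = (⟨z, hzP⟩ : P) ^ k := by
        apply Subtype.ext
        rw [Subgroup.coe_zpow]
        exact hk.symm
      have h2 : (⟨(w : Ω), hsup (Subgroup.inclusion le_sup_right w).2⟩ : P) = ⟨(w : Ω), hQP w.2⟩ := rfl
      rw [h2, h1, map_zpow, hαz, ← h1]
  have h1 : φ ∈ E'.Hom R := hle R hφ
  rw [hE', hC] at h1
  obtain ⟨-, -, -, ψ, -, hψφ, hψQ⟩ := h1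
  have h2 := hψφ ⟨z, hzR⟩
  have h3 := hψQ ⟨z, Subgroup.mem_zpowers z⟩
  have h4 : (Subgroup.inclusion le_sup_left (⟨z, hzR⟩ : R) : ↥(R ⊔ Subgroup.zpowers z)) =
      Subgroup.inclusion le_sup_right (⟨z, Subgroup.mem_zpowers z⟩ : Subgroup.zpowers z) :=
    Subtype.ext rfl
  rw [← h2, h4, h3]

end Cfsg.Agent.Lib.Helper9
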