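import Mathlib
import Cfsg.Prelude
import Cfsg.Agent.Lib.Helper9.AbIdx15
import Cfsg.Agent.Lib.Helper9.Grun6
import Cfsg.Agent.Lib.Helper9.FusionNormal3

set_option autoImplicit false

/-!
# Uniqueness on `Z(S)` of the automorphisms inverting `Z₀` and trivial on `Z(S)/Z₀`
-/

namespace Cfsg.Agent.Lib.Helper9.H9AbIdx

open Cfsg Cfsg.FusionSystem Cfsg.Agent.Lib.Helper9

theorem mem_of_pow_mem_of_coprime {G : Type*} [Group G] (K : Subgroup G) {g : G} {m n : ℕ}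
    (hm : g ^ m ∈ K) (hn : g ^ n ∈ K) (hc : Nat.Coprime m n) : g ∈ K := by
  have h1 := Nat.gcd_eq_gcd_ab m n
  rw [hc] at h1
  have h2 : g = (g ^ m) ^ (Nat.gcdA m n) * (g ^ n) ^ (Nat.gcdB m n) := by
    rw [← zpow_natCast, ← zpow_natCast, ← zpow_mul, ← zpow_mul, ← zpow_add, ← h1]
    simp
  rw [h2]
  exact K.mul_mem (K.zpow_mem hm _) (K.zpow_mem hn _)

/-- automorphisms fixing a subgroup pointwise -/
def fixSub {H : Type*} [Group H] (Z : Subgroup H) : Subgroup (MulAut H) where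
  carrier := {γ | ∀ z ∈ Z, γ z = z}
  mul_mem' := by
    intro a b ha hb z hz
    rw [MulAut.mul_apply, hb z hz, ha z hz]
  one_mem' := fun z _ => rfl
  inv_mem' := by
    intro a ha z hz
    have h1 := ha z hz
    calc a⁻¹ z = a⁻¹ (a z) := by rw [h1]
      _ = z := MulAut.inv_apply_self _ _ _

theorem mem_fixSub_iff {H : Type*} [Group H] (Z : Subgroup H) (γ : MulAut H) :
    γ ∈ fixSub Z ↔ ∀ z ∈ Z, γ z = z := Iff.rfl

theorem aut_unique_of_sylow_inner {H : Type*} [Group H] [Finite H] (p : ℕ) [Fact p.Prime]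
    (G : Subgroup (MulAut H)) (hN : ((Inn H).subgroupOf G).Normal)
    (T : Sylow p G) (hT : (T : Subgroup G) = (Inn H).subgroupOf G)
    (Z Z₀ : Subgroup H) (hZc : Z ≤ Subgroup.center H) (hZ₀Z : Z₀ ≤ Z)
    (hZ₀p : ∀ z ∈ Z₀, z ^ p = 1)
    (hZinv : ∀ γ : MulAut H, ∀ z ∈ Z, γ z ∈ Z)
    (β β' : MulAut H) (hβ : β ∈ G) (hβ' : β' ∈ G)
    (h1 : ∀ z ∈ Z₀, β z = z⁻¹) (h1' : ∀ z ∈ Z₀, β' z = z⁻¹)
    (h2 : ∀ z ∈ Z, z⁻¹ * β z ∈ Z₀) (h2' : ∀ z ∈ Z, z⁻¹ * β' z ∈ Z₀) :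
    ∀ z ∈ Z, β z = β' z := by
  have hinv : ∀ z ∈ Z₀, β⁻¹ z = z⁻¹ := by
    intro z hz
    have h3 : β z⁻¹ = z := by rw [map_inv, h1 z hz, inv_inv]
    calc β⁻¹ z = β⁻¹ (β z⁻¹) := by rw [h3]
      _ = z⁻¹ := MulAut.inv_apply_self _ _ _
  obtain ⟨κ, hκdef⟩ : ∃ κ : MulAut H, κ = β⁻¹ * β' := ⟨_, rfl⟩
  have hκG : κ ∈ G := by rw [hκdef]; exact G.mul_mem (G.inv_mem hβ) hβ'
  have hκ0 : ∀ z ∈ Z₀, κ z = z := by
    intro z hz
    rw [hκdef, MulAut.mul_apply, h1' z hz, map_inv, hinv z hz, inv_inv]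
  have hκ1 : ∀ z ∈ Z, ∃ e ∈ Z₀, κ z = z * e := by
    intro z hz
    obtain ⟨w, hwdef⟩ : ∃ w : H, w = β⁻¹ z := ⟨_, rfl⟩
    have hwZ : w ∈ Z := by rw [hwdef]; exact hZinv _ z hz
    have hβw : β w = z := by rw [hwdef]; exact MulAut.apply_inv_self _ _ _
    have hd := h2 w hwZ
    rw [hβw] at hd
    have hd' := h2' z hz
    refine ⟨(w⁻¹ * z)⁻¹ * (z⁻¹ * β' z)⁻¹, Z₀.mul_mem (Z₀.inv_mem hd) (Z₀.inv_mem hd'), ?_⟩
    have h3 : β' z = z * (z⁻¹ * β' z) := by group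
    rw [hκdef, MulAut.mul_apply, h3, map_mul, hinv _ hd', ← hwdef]
    simp only [inv_mul_cancel_left]
    group
  have hκp : κ ^ p ∈ fixSub Z := by
    intro z hz
    obtain ⟨e, he, hze⟩ := hκ1 z hz
    rw [H9CS.pow_apply_of_triv κ z e hze (hκ0 e he) p, hZ₀p e he, mul_one]
  have hκm : κ ^ ((T : Subgroup G).index) ∈ fixSub Z := by
    haveI : (T : Subgroup G).Normal := by rw [hT]; exact hN
    have h3 := Subgroup.pow_index_mem (T : Subgroup G) (⟨κ, hκG⟩ : G)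
    generalize (T : Subgroup G).index = m at h3 ⊢
    rw [hT, Subgroup.mem_subgroupOf] at h3
    obtain ⟨g, hg⟩ := h3
    intro z hz
    have h4 : (κ ^ m) = MulAut.conj g := by
      rw [hg]; rfl
    rw [h4, MulAut.conj_apply, (Subgroup.mem_center_iff.mp (hZc hz)) g, mul_inv_cancel_right]
  have hcop : Nat.Coprime p ((T : Subgroup G).index) :=
    (Nat.Prime.coprime_iff_not_dvd Fact.out).mpr T.not_dvd_index
  have hκ := mem_of_pow_mem_of_coprime (fixSub Z) hκp hκm hcop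
  intro z hz
  have h3 := hκ z hz
  rw [hκdef, MulAut.mul_apply] at h3
  calc β z = β (β⁻¹ (β' z)) := by rw [h3]
    _ = β' z := MulAut.apply_inv_self _ _ _

end Cfsg.Agent.Lib.Helper9.H9AbIdx
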