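import Mathlib
import Cfsg.Prelude
import Cfsg.Agent.Lib.Helper9.AbIdx16

set_option autoImplicit false

/-!
# The fixed points on `Z(S)` of the distinguished automorphism are normal in `F`: the `Aut_F(S)` part
-/

namespace Cfsg.Agent.Lib.Helper9.H9AbIdx

open Cfsg Cfsg.FusionSystem Cfsg.Agent.Lib.Helper9

variable {Ω : Type*} [Group Ω] {S : Subgroup Ω} [Finite S] {p : ℕ} [hp : Fact p.Prime]
  {A : Subgroup Ω}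

/-- `Z(S) ∩ [S,S]` is invariant under all automorphisms of `S` -/
theorem Ctx.autS_Z₀_mem (C : Ctx p S A) (γ : MulAut S) {z : Ω} (hz : z ∈ ZS S)
    (hz0 : z ∈ ZS S ⊓ (commutator ↥S).map S.subtype) :
    ((γ ⟨z, ZS_le S hz⟩ : S) : Ω) ∈ ZS S ⊓ (commutator ↥S).map S.subtype := by
  refine ⟨C.autS_ZS_mem γ hz, ?_⟩
  obtain ⟨c, hc, hcz⟩ := hz0.2
  have hc' : c ∈ commutator ↥S := hc
  have h1 : c = ⟨z, ZS_le S hz⟩ := Subtype.ext hcz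
  refine ⟨γ c, ?_, by rw [h1]; rfl⟩
  have hchar : (commutator ↥S).Characteristic := by
    rw [commutator_def]; infer_instance
  have h2 := hchar.fixed γ
  rw [← h2] at hc'
  exact hc'

/-- **uniqueness**: two elements of `Aut_F(S)` inverting `Z₀` and trivial on `Z(S)/Z₀` agree on
`Z(S)` -/
theorem beta_unique (C : Ctx p S A) (hS : IsPGroup p S) (F : FusionSystem S)
    (hF : F.IsSaturated p) (Z₀ : Subgroup Ω) (hZ₀Z : Z₀ ≤ ZS S) (hZ₀p : ∀ z ∈ Z₀, z ^ p = 1)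
    {β β' : MulAut S} (hβ : β ∈ F.autGroup S) (hβ' : β' ∈ F.autGroup S)
    (h1 : ∀ (z : Ω) (hz : z ∈ ZS S), z ∈ Z₀ → ((β ⟨z, ZS_le S hz⟩ : S) : Ω) = z⁻¹)
    (h1' : ∀ (z : Ω) (hz : z ∈ ZS S), z ∈ Z₀ → ((β' ⟨z, ZS_le S hz⟩ : S) : Ω) = z⁻¹)
    (h2 : ∀ (z : Ω) (hz : z ∈ ZS S), z⁻¹ * ((β ⟨z, ZS_le S hz⟩ : S) : Ω) ∈ Z₀)
    (h2' : ∀ (z : Ω) (hz : z ∈ ZS S), z⁻¹ * ((β' ⟨z, ZS_le S hz⟩ : S) : Ω) ∈ Z₀) :
    ∀ (z : Ω) (hz : z ∈ ZS S), β ⟨z, ZS_le S hz⟩ = β' ⟨z, ZS_le S hz⟩ := by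
  have hfn : F.IsFullyNormalized S := isFullyNormalized_self F
  obtain ⟨-, -, T, hT⟩ := fs_sylow_axiom p hS F hF hfn
  rw [autInducedBy_self_eq_inn] at hT
  have hN : ((Inn S).subgroupOf (F.autGroup S)).Normal := inferInstance
  have key := aut_unique_of_sylow_inner p (F.autGroup S) hN T hT ((ZS S).subgroupOf S)
    (Z₀.subgroupOf S) ?_ ?_ ?_ ?_ β β' hβ hβ' ?_ ?_ ?_ ?_
  · intro z hz
    exact key ⟨z, ZS_le S hz⟩ (by rw [Subgroup.mem_subgroupOf]; exact hz)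
  · intro z hz
    rw [Subgroup.mem_subgroupOf] at hz
    rw [Subgroup.mem_center_iff]
    intro g
    exact Subtype.ext ((mem_ZS_iff.mp hz).2 g g.2)
  · intro z hz
    rw [Subgroup.mem_subgroupOf] at hz ⊢
    exact hZ₀Z hz
  · intro z hz
    rw [Subgroup.mem_subgroupOf] at hz
    apply Subtype.ext
    show (z : Ω) ^ p = 1
    exact hZ₀p _ hz
  · intro γ z hz
    rw [Subgroup.mem_subgroupOf] at hz ⊢
    exact C.autS_ZS_mem γ hz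
  · intro z hz
    rw [Subgroup.mem_subgroupOf] at hz
    exact Subtype.ext (h1 z (hZ₀Z hz) hz)
  · intro z hz
    rw [Subgroup.mem_subgroupOf] at hz
    exact Subtype.ext (h1' z (hZ₀Z hz) hz)
  · intro z hz
    rw [Subgroup.mem_subgroupOf] at hz ⊢
    exact h2 z hz
  · intro z hz
    rw [Subgroup.mem_subgroupOf] at hz ⊢
    exact h2' z hz

/-- the fixed points of `β` on `Z(S)` -/
def fixZ (β : MulAut S) : Subgroup Ω where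
  carrier := {z | ∃ hz : z ∈ ZS S, ((β ⟨z, ZS_le S hz⟩ : S) : Ω) = z}
  mul_mem' := by
    rintro a b ⟨ha, ha'⟩ ⟨hb, hb'⟩
    refine ⟨(ZS S).mul_mem ha hb, ?_⟩
    have h1 : (⟨a * b, ZS_le S ((ZS S).mul_mem ha hb)⟩ : S) =
        ⟨a, ZS_le S ha⟩ * ⟨b, ZS_le S hb⟩ := rfl
    rw [h1, map_mul, Subgroup.coe_mul, ha', hb']
  one_mem' := by
    refine ⟨(ZS S).one_mem, ?_⟩
    have h1 : (⟨1, ZS_le S (ZS S).one_mem⟩ : S) = 1 := rfl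
    rw [h1, map_one]
    rfl
  inv_mem' := by
    rintro a ⟨ha, ha'⟩
    refine ⟨(ZS S).inv_mem ha, ?_⟩
    have h1 : (⟨a⁻¹, ZS_le S ((ZS S).inv_mem ha)⟩ : S) = (⟨a, ZS_le S ha⟩ : S)⁻¹ := rfl
    rw [h1, map_inv, Subgroup.coe_inv, ha']

theorem mem_fixZ_iff (β : MulAut S) (z : Ω) :
    z ∈ fixZ β ↔ ∃ hz : z ∈ ZS S, ((β ⟨z, ZS_le S hz⟩ : S) : Ω) = z := Iff.rfl

theorem fixZ_le (β : MulAut S) : fixZ β ≤ ZS S := fun _ hz => hz.1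

/-- `Aut_F(S)` preserves the fixed points of `β` on `Z(S)` -/
theorem fixZ_invariant_S (C : Ctx p S A) (hS : IsPGroup p S) (F : FusionSystem S)
    (hF : F.IsSaturated p) (Z₀ : Subgroup Ω)
    (hZ₀def : Z₀ = ZS S ⊓ (commutator ↥S).map S.subtype) (hZ₀p : ∀ z ∈ Z₀, z ^ p = 1)
    {β : MulAut S} (hβ : β ∈ F.autGroup S)
    (h1 : ∀ (z : Ω) (hz : z ∈ ZS S), z ∈ Z₀ → ((β ⟨z, ZS_le S hz⟩ : S) : Ω) = z⁻¹)
    (h2 : ∀ (z : Ω) (hz : z ∈ ZS S), z⁻¹ * ((β ⟨z, ZS_le S hz⟩ : S) : Ω) ∈ Z₀)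
    {α : MulAut S} (hα : α ∈ F.autGroup S) {z : Ω} (hz : z ∈ fixZ β) :
    ((α ⟨z, ZS_le S hz.1⟩ : S) : Ω) ∈ fixZ β := by
  have hZ₀Z : Z₀ ≤ ZS S := by rw [hZ₀def]; exact inf_le_left
  have hβ'G : α⁻¹ * β * α ∈ F.autGroup S :=
    (F.autGroup S).mul_mem ((F.autGroup S).mul_mem ((F.autGroup S).inv_mem hα) hβ) hα
  have hαsub : ∀ (w : Ω) (hw : w ∈ ZS S),
      (⟨((α ⟨w, ZS_le S hw⟩ : S) : Ω), ZS_le S (C.autS_ZS_mem α hw)⟩ : S) = α ⟨w, ZS_le S hw⟩ :=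
    fun w hw => rfl
  have h1' : ∀ (w : Ω) (hw : w ∈ ZS S), w ∈ Z₀ →
      (((α⁻¹ * β * α) ⟨w, ZS_le S hw⟩ : S) : Ω) = w⁻¹ := by
    intro w hw hw0
    have hαw0 : ((α ⟨w, ZS_le S hw⟩ : S) : Ω) ∈ Z₀ := by
      rw [hZ₀def]; exact C.autS_Z₀_mem α hw (hZ₀def ▸ hw0)
    have h3 := h1 _ (C.autS_ZS_mem α hw) hαw0
    rw [hαsub w hw] at h3
    have h4 : β (α ⟨w, ZS_le S hw⟩) = (α ⟨w, ZS_le S hw⟩)⁻¹ := Subtype.ext h3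
    rw [MulAut.mul_apply, MulAut.mul_apply, h4, map_inv, MulAut.inv_apply_self]
    rfl
  have h2' : ∀ (w : Ω) (hw : w ∈ ZS S),
      w⁻¹ * (((α⁻¹ * β * α) ⟨w, ZS_le S hw⟩ : S) : Ω) ∈ Z₀ := by
    intro w hw
    have h3 := h2 _ (C.autS_ZS_mem α hw)
    rw [hαsub w hw] at h3
    obtain ⟨d, hddef⟩ : ∃ d : S, d = (α ⟨w, ZS_le S hw⟩)⁻¹ * β (α ⟨w, ZS_le S hw⟩) := ⟨_, rfl⟩
    have hd0 : (d : Ω) ∈ Z₀ := by rw [hddef]; exact h3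
    have hdZ : (d : Ω) ∈ ZS S := hZ₀Z hd0
    have h4 : β (α ⟨w, ZS_le S hw⟩) = α ⟨w, ZS_le S hw⟩ * d := by rw [hddef]; group
    have h5 : ((α⁻¹ * β * α) ⟨w, ZS_le S hw⟩ : S) = ⟨w, ZS_le S hw⟩ * α⁻¹ d := by
      rw [MulAut.mul_apply, MulAut.mul_apply, h4, map_mul, MulAut.inv_apply_self]
    rw [h5, Subgroup.coe_mul, inv_mul_cancel_left]
    have h6 := C.autS_Z₀_mem α⁻¹ hdZ (hZ₀def ▸ hd0)
    rw [hZ₀def]
    exact h6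
  have huq := beta_unique C hS F hF Z₀ hZ₀Z hZ₀p hβ hβ'G h1 h1' h2 h2'
  obtain ⟨hzZ, hzfix⟩ := hz
  refine ⟨C.autS_ZS_mem α hzZ, ?_⟩
  rw [hαsub z hzZ]
  have h3 := huq z hzZ
  have h4 : β ⟨z, ZS_le S hzZ⟩ = ⟨z, ZS_le S hzZ⟩ := Subtype.ext hzfix
  rw [h4, MulAut.mul_apply, MulAut.mul_apply] at h3
  have h5 : α ⟨z, ZS_le S hzZ⟩ = β (α ⟨z, ZS_le S hzZ⟩) := by
    calc α ⟨z, ZS_le S hzZ⟩ = α (α⁻¹ (β (α ⟨z, ZS_le S hzZ⟩))) := by rw [← h3]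
      _ = β (α ⟨z, ZS_le S hzZ⟩) := MulAut.apply_inv_self _ _ _
  exact congrArg Subtype.val h5.symm

end Cfsg.Agent.Lib.Helper9.H9AbIdx
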