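import Mathlib
import Cfsg.Prelude
import Cfsg.Agent.Lib.Helper9.SLRoot4

set_option autoImplicit false

/-!
# Two distinct nontrivial `p`-subgroups of `SL₂(p)` generate it
-/

namespace Cfsg.Agent.H9SL2G

open Matrix Cfsg.Agent.H9SLRoot

variable {k : Type*} [Field k]

/-- the linear form `v ↦ det [x, v]` -/
def perp (x : Fin 2 → k) : Fin 2 → k := ![-x 1, x 0]

theorem perp_zero (x : Fin 2 → k) : perp x 0 = -x 1 := rfl

theorem perp_one (x : Fin 2 → k) : perp x 1 = x 0 := rfl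

theorem perp_dot (x v : Fin 2 → k) : perp x ⬝ᵥ v = x 0 * v 1 - x 1 * v 0 := by
  rw [dotProduct, Fin.sum_univ_two, perp_zero, perp_one]
  ring

theorem perp_dot_self (x : Fin 2 → k) : perp x ⬝ᵥ x = 0 := by
  rw [perp_dot]
  ring

theorem perp_ne_zero {x : Fin 2 → k} (hx : x ≠ 0) : perp x ≠ 0 := by
  intro h
  apply hx
  funext i
  have h0 := congrFun h 0
  have h1 := congrFun h 1
  rw [perp_zero] at h0
  rw [perp_one] at h1
  fin_cases i
  · exact h1
  · exact neg_eq_zero.mp h0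

theorem lemmaP {x : Fin 2 → k} (hx : x ≠ 0) (r0 r1 : k) (h : r0 * x 0 + r1 * x 1 = 0) :
    ∃ μ : k, r0 = -μ * x 1 ∧ r1 = μ * x 0 := by
  by_cases h0 : x 0 = 0
  · have h1 : x 1 ≠ 0 := by
      intro h1
      apply hx
      funext i
      fin_cases i
      · exact h0
      · exact h1
    refine ⟨-r0 / x 1, ?_, ?_⟩
    · field_simp
    · rw [h0, mul_zero]
      rw [h0, mul_zero, zero_add] at h
      rcases mul_eq_zero.mp h with h | h
      · exact h
      · exact absurd h h1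
  · refine ⟨r1 / x 0, ?_, ?_⟩
    · field_simp
      linear_combination h
    · field_simp

theorem mem_T_of_fix {x : Fin 2 → k} (hx : x ≠ 0) (g : Matrix.SpecialLinearGroup (Fin 2) k)
    (hg : (g : Matrix (Fin 2) (Fin 2) k) *ᵥ x = x) : g ∈ T x (perp x) := by
  obtain ⟨G, hG⟩ : ∃ G : Matrix (Fin 2) (Fin 2) k, G = (g : Matrix (Fin 2) (Fin 2) k) := ⟨_, rfl⟩
  have hdet : G.det = 1 := by rw [hG]; exact g.det_coe
  rw [← hG] at hg
  have e0 := congrFun hg 0
  have e1 := congrFun hg 1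
  simp only [Matrix.mulVec, dotProduct, Fin.sum_univ_two] at e0 e1
  rw [Matrix.det_fin_two] at hdet
  obtain ⟨α, hα0, hα1⟩ := lemmaP hx (G 0 0 - 1) (G 0 1) (by linear_combination e0)
  obtain ⟨β, hβ0, hβ1⟩ := lemmaP hx (G 1 0) (G 1 1 - 1) (by linear_combination e1)
  have h00 : G 0 0 = 1 - α * x 1 := by linear_combination hα0
  have h11 : G 1 1 = 1 + β * x 0 := by linear_combination hβ1
  have hab : α * perp x 0 + β * perp x 1 = 0 := by
    rw [perp_zero, perp_one]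
    rw [h00, h11, hα1, hβ0] at hdet
    linear_combination hdet
  obtain ⟨μ, hμ0, hμ1⟩ := lemmaP (perp_ne_zero hx) α β hab
  rw [perp_one] at hμ0
  rw [perp_zero] at hμ1
  rw [mem_T]
  refine ⟨-μ, ?_⟩
  apply Subtype.ext
  rw [tv_coe (perp_dot_self x), ← hG]
  ext i j
  unfold tmat
  rw [Matrix.add_apply, Matrix.smul_apply, Matrix.vecMulVec_apply, smul_eq_mul]
  fin_cases i <;> fin_cases j
  · show G 0 0 = (1 : Matrix (Fin 2) (Fin 2) k) 0 0 + -μ * (x 0 * perp x 0)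
    rw [Matrix.one_apply_eq, perp_zero, h00, hμ0]
    ring
  · show G 0 1 = (1 : Matrix (Fin 2) (Fin 2) k) 0 1 + -μ * (x 0 * perp x 1)
    rw [Matrix.one_apply_ne (by decide), perp_one, hα1, hμ0]
    ring
  · show G 1 0 = (1 : Matrix (Fin 2) (Fin 2) k) 1 0 + -μ * (x 1 * perp x 0)
    rw [Matrix.one_apply_ne (by decide), perp_zero, hβ0, hμ1]
    ring
  · show G 1 1 = (1 : Matrix (Fin 2) (Fin 2) k) 1 1 + -μ * (x 1 * perp x 1)
    rw [Matrix.one_apply_eq, perp_one, h11, hμ1]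
    ring

theorem card_T {ι : Type*} [Fintype ι] [DecidableEq ι] {x φ : ι → k} (h : φ ⬝ᵥ x = 0) (hx : x ≠ 0)
    (hφ : φ ≠ 0) : Nat.card (T x φ) = Nat.card k := by
  symm
  apply Nat.card_congr
  refine Equiv.ofBijective (fun c => ⟨tv x φ c, tv_mem_T x φ c⟩) ⟨?_, ?_⟩
  · intro c d hcd
    have h1 : tv x φ c = tv x φ d := congrArg Subtype.val hcd
    have h2 : tv x φ (c - d) = 1 := by
      rw [sub_eq_add_neg, ← tv_mul, ← tv_inv, h1, mul_inv_cancel]
    rw [tv_eq_one_iff h hx hφ] at h2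
    exact sub_eq_zero.mp h2
  · rintro ⟨g, hg⟩
    obtain ⟨c, rfl⟩ := mem_T.mp hg
    exact ⟨c, rfl⟩

/-- if `x`, `y` are independent the two transvection groups generate `SL₂` (finite field) -/
theorem T_sup_eq_top [Finite k] {x y : Fin 2 → k} (hxy : perp y ⬝ᵥ x ≠ 0) :
    T x (perp x) ⊔ T y (perp y) = ⊤ := by
  have hyx : perp x ⬝ᵥ y ≠ 0 := by
    rw [perp_dot] at hxy ⊢
    intro h
    apply hxy
    linear_combination -h
  have hx' : ((perp x ⬝ᵥ y)⁻¹ • perp x) ⬝ᵥ x = 0 := by rw [smul_dotProduct, perp_dot_self, smul_zero]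
  have hy' : ((perp y ⬝ᵥ x)⁻¹ • perp y) ⬝ᵥ y = 0 := by rw [smul_dotProduct, perp_dot_self, smul_zero]
  have hα' : ((perp y ⬝ᵥ x)⁻¹ • perp y) ⬝ᵥ x = 1 := by
    rw [smul_dotProduct, smul_eq_mul, inv_mul_cancel₀ hxy]
  have hβ' : ((perp x ⬝ᵥ y)⁻¹ • perp x) ⬝ᵥ y = 1 := by
    rw [smul_dotProduct, smul_eq_mul, inv_mul_cancel₀ hyx]
  have e1 : T x ((perp x ⬝ᵥ y)⁻¹ • perp x) = T x (perp x) := by
    have := T_smul (one_ne_zero (α := k)) (inv_ne_zero hyx) x (perp x)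
    rwa [one_smul] at this
  have e2 : T y ((perp y ⬝ᵥ x)⁻¹ • perp y) = T y (perp y) := by
    have := T_smul (one_ne_zero (α := k)) (inv_ne_zero hxy) y (perp y)
    rwa [one_smul] at this
  rw [← e1, ← e2, ← range_phi hx' hy' hα' hβ', MonoidHom.range_eq_top]
  haveI : Finite (Matrix.SpecialLinearGroup (Fin 2) k) := by
    haveI : Fintype k := Fintype.ofFinite k
    infer_instance
  exact Finite.surjective_of_injective (phi_injective hx' hy' hα' hβ')

end Cfsg.Agent.H9SL2G
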