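import Mathlib
import Cfsg.Prelude
import Cfsg.Agent.Lib.Helper9.SL2Gen1

set_option autoImplicit false

/-!
# Two distinct nontrivial `p`-subgroups of `SL₂(p)` generate it (continued)
-/

namespace Cfsg.Agent.H9SL2G

open Matrix Cfsg.Agent.H9SLRoot

theorem exists_fixed {p : ℕ} [Fact p.Prime]
    (Q : Subgroup (Matrix.SpecialLinearGroup (Fin 2) (ZMod p))) (hQ : IsPGroup p Q) :
    ∃ x : Fin 2 → ZMod p, x ≠ 0 ∧
      ∀ g ∈ Q, ((g : Matrix.SpecialLinearGroup (Fin 2) (ZMod p)) : Matrix (Fin 2) (Fin 2) (ZMod p)) *ᵥ x = x := by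
  have hpp : p.Prime := Fact.out
  have hcard : p ∣ Nat.card (Fin 2 → ZMod p) := by
    rw [Nat.card_fun, Nat.card_zmod, Nat.card_fin]
    exact dvd_pow_self p (by norm_num)
  have h0 : (0 : Fin 2 → ZMod p) ∈ MulAction.fixedPoints Q (Fin 2 → ZMod p) := by
    intro g
    exact smul_zero g
  obtain ⟨b, hb, hne⟩ := hQ.exists_fixed_point_of_prime_dvd_card_of_fixed_point (Fin 2 → ZMod p) hcard h0
  refine ⟨b, hne.symm, fun g hg => ?_⟩
  exact hb ⟨g, hg⟩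

theorem perp_smul {k : Type*} [Field k] (μ : k) (x : Fin 2 → k) : perp (μ • x) = μ • perp x := by
  funext i
  fin_cases i
  · show -(μ • x) 1 = μ * -x 1
    rw [Pi.smul_apply, smul_eq_mul]
    ring
  · show (μ • x) 0 = μ * x 0
    rw [Pi.smul_apply, smul_eq_mul]

theorem T_eq_of_perp_dot {k : Type*} [Field k] {x y : Fin 2 → k} (hx : x ≠ 0) (hy : y ≠ 0)
    (h : perp y ⬝ᵥ x = 0) : T x (perp x) = T y (perp y) := by
  rw [perp_dot] at h
  obtain ⟨μ, h1, h2⟩ := lemmaP hy (-x 1) (x 0) (by linear_combination -h)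
  have hxy : x = μ • y := by
    funext i
    fin_cases i
    · show x 0 = (μ • y) 0
      rw [Pi.smul_apply, smul_eq_mul]
      exact h2
    · show x 1 = (μ • y) 1
      rw [Pi.smul_apply, smul_eq_mul]
      linear_combination -h1
  have hμ : μ ≠ 0 := by
    rintro rfl
    rw [zero_smul] at hxy
    exact hx hxy
  rw [hxy, perp_smul, T_smul hμ hμ]

theorem eq_T_of_pgroup {p : ℕ} [Fact p.Prime]
    (Q : Subgroup (Matrix.SpecialLinearGroup (Fin 2) (ZMod p))) (hQ : IsPGroup p Q) (hb : Q ≠ ⊥) :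
    ∃ x : Fin 2 → ZMod p, x ≠ 0 ∧ Q = T x (perp x) := by
  obtain ⟨x, hx, hfix⟩ := exists_fixed Q hQ
  refine ⟨x, hx, ?_⟩
  have hle : Q ≤ T x (perp x) := fun g hg => mem_T_of_fix hx g (hfix g hg)
  have hcard : Nat.card (T x (perp x)) = p := by
    rw [card_T (perp_dot_self x) hx (perp_ne_zero hx), Nat.card_zmod]
  haveI : Fact (Nat.card (T x (perp x))).Prime := ⟨by rw [hcard]; exact Fact.out⟩
  rcases Subgroup.eq_bot_or_eq_top_of_prime_card (Q.subgroupOf (T x (perp x))) with h | h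
  · rw [Subgroup.subgroupOf_eq_bot, disjoint_iff, inf_eq_left.mpr hle] at h
    exact absurd h hb
  · rw [Subgroup.subgroupOf_eq_top] at h
    exact le_antisymm hle h

/-- two distinct nontrivial `p`-subgroups of `SL₂(p)` generate it -/
theorem sup_eq_top {p : ℕ} [Fact p.Prime]
    (Q₁ Q₂ : Subgroup (Matrix.SpecialLinearGroup (Fin 2) (ZMod p))) (h₁ : IsPGroup p Q₁)
    (h₂ : IsPGroup p Q₂) (hb₁ : Q₁ ≠ ⊥) (hb₂ : Q₂ ≠ ⊥) (hne : Q₁ ≠ Q₂) : Q₁ ⊔ Q₂ = ⊤ := by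
  obtain ⟨x, hx, rfl⟩ := eq_T_of_pgroup Q₁ h₁ hb₁
  obtain ⟨y, hy, rfl⟩ := eq_T_of_pgroup Q₂ h₂ hb₂
  apply T_sup_eq_top
  intro h
  exact hne (T_eq_of_perp_dot hx hy h)

end Cfsg.Agent.H9SL2G
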