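import Mathlib
import Cfsg.Prelude
import Cfsg.Agent.Lib.Helper9.SL2Gen2

set_option autoImplicit false

/-!
# A subgroup of `GL₂(p)` with two distinct nontrivial `p`-subgroups contains `SL₂(p)`
-/

namespace Cfsg.Agent.H9SL2G

open Matrix

theorem det_eq_one_of_pow {p : ℕ} [Fact p.Prime] (g : GL (Fin 2) (ZMod p)) (k : ℕ)
    (hg : g ^ (p ^ k) = 1) : Matrix.GeneralLinearGroup.det g = 1 := by
  have hpp : p.Prime := Fact.out
  have h1 : (Matrix.GeneralLinearGroup.det g) ^ (p ^ k) = 1 := by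
    rw [← map_pow, hg, map_one]
  have h2 : (Matrix.GeneralLinearGroup.det g) ^ (p - 1) = 1 := ZMod.units_pow_card_sub_one_eq_one p _
  have d1 := orderOf_dvd_of_pow_eq_one h1
  have d2 := orderOf_dvd_of_pow_eq_one h2
  have hcop : Nat.Coprime (p ^ k) (p - 1) := by
    apply Nat.Coprime.pow_left
    rw [hpp.coprime_iff_not_dvd]
    apply Nat.not_dvd_of_pos_of_lt
    · have := hpp.two_le
      omega
    · have := hpp.two_le
      omega
  have h3 : orderOf (Matrix.GeneralLinearGroup.det g) = 1 :=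
    Nat.eq_one_of_dvd_coprimes hcop d1 d2
  exact orderOf_eq_one_iff.mp h3

theorem mem_range_toGL_of_det {n : Type*} [Fintype n] [DecidableEq n] {R : Type*} [CommRing R]
    (g : GL n R) (hg : Matrix.GeneralLinearGroup.det g = 1) :
    g ∈ (Matrix.SpecialLinearGroup.toGL : Matrix.SpecialLinearGroup n R →* GL n R).range := by
  have h1 : (g : Matrix n n R).det = 1 := by
    have := congrArg Units.val hg
    rwa [Matrix.GeneralLinearGroup.val_det_apply, Units.val_one] at this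
  refine ⟨⟨(g : Matrix n n R), h1⟩, ?_⟩
  apply Units.ext
  rfl

theorem range_toGL_le {p : ℕ} [Fact p.Prime] {A : Type*} [Group A] (ι : A →* GL (Fin 2) (ZMod p))
    (hι : Function.Injective ι) (P₁ P₂ : Subgroup A) (h₁ : IsPGroup p P₁) (h₂ : IsPGroup p P₂)
    (hb₁ : P₁ ≠ ⊥) (hb₂ : P₂ ≠ ⊥) (hne : P₁ ≠ P₂) :
    (Matrix.SpecialLinearGroup.toGL :
      Matrix.SpecialLinearGroup (Fin 2) (ZMod p) →* GL (Fin 2) (ZMod p)).range ≤ ι.range := by
  obtain ⟨τ, hτ⟩ : ∃ τ : Matrix.SpecialLinearGroup (Fin 2) (ZMod p) →* GL (Fin 2) (ZMod p),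
    τ = Matrix.SpecialLinearGroup.toGL := ⟨_, rfl⟩
  rw [← hτ]
  have hτi : Function.Injective τ := by
    rw [hτ]
    exact Matrix.SpecialLinearGroup.toGL_injective
  have hle : ∀ P : Subgroup A, IsPGroup p P → P.map ι ≤ τ.range := by
    intro P hP g hg
    obtain ⟨a, ha, rfl⟩ := hg
    obtain ⟨k, hk⟩ := hP ⟨a, ha⟩
    have hk' : a ^ (p ^ k) = 1 := by
      have := congrArg Subtype.val hk
      exact this
    rw [hτ]
    apply mem_range_toGL_of_det
    apply det_eq_one_of_pow _ k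
    rw [← map_pow, hk', map_one]
  have hmap : ∀ P : Subgroup A, IsPGroup p P → ((P.map ι).comap τ).map τ = P.map ι := by
    intro P hP
    exact Subgroup.map_comap_eq_self (hle P hP)
  have hpg : ∀ P : Subgroup A, IsPGroup p P → IsPGroup p ((P.map ι).comap τ) := by
    intro P hP
    exact (hP.map ι).comap_of_injective τ hτi
  have hbot : ∀ P : Subgroup A, IsPGroup p P → P ≠ ⊥ → (P.map ι).comap τ ≠ ⊥ := by
    intro P hP hb h
    have := hmap P hP
    rw [h, Subgroup.map_bot] at this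
    exact hb ((Subgroup.map_eq_bot_iff_of_injective P hι).mp this.symm)
  have hne' : (P₁.map ι).comap τ ≠ (P₂.map ι).comap τ := by
    intro h
    apply hne
    apply Subgroup.map_injective hι
    rw [← hmap P₁ h₁, ← hmap P₂ h₂, h]
  have htop := sup_eq_top _ _ (hpg P₁ h₁) (hpg P₂ h₂) (hbot P₁ h₁ hb₁) (hbot P₂ h₂ hb₂) hne'
  rw [MonoidHom.range_eq_map, ← htop, Subgroup.map_sup, hmap P₁ h₁, hmap P₂ h₂]
  exact sup_le (Subgroup.map_le_range ι P₁) (Subgroup.map_le_range ι P₂)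

theorem exists_SL2 {p : ℕ} [Fact p.Prime] {A : Type*} [Group A] (ι : A →* GL (Fin 2) (ZMod p))
    (hι : Function.Injective ι) (P₁ P₂ : Subgroup A) (h₁ : IsPGroup p P₁) (h₂ : IsPGroup p P₂)
    (hb₁ : P₁ ≠ ⊥) (hb₂ : P₂ ≠ ⊥) (hne : P₁ ≠ P₂) :
    ∃ K : Subgroup A, Nonempty (↥K ≃* Matrix.SpecialLinearGroup (Fin 2) (ZMod p)) := by
  have hle := range_toGL_le ι hι P₁ P₂ h₁ h₂ hb₁ hb₂ hne
  obtain ⟨τ, hτ⟩ : ∃ τ : Matrix.SpecialLinearGroup (Fin 2) (ZMod p) →* GL (Fin 2) (ZMod p),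
    τ = Matrix.SpecialLinearGroup.toGL := ⟨_, rfl⟩
  rw [← hτ] at hle
  have hτi : Function.Injective τ := by
    rw [hτ]
    exact Matrix.SpecialLinearGroup.toGL_injective
  refine ⟨τ.range.comap ι, ⟨?_⟩⟩
  have e1 : (τ.range.comap ι).map ι = τ.range := Subgroup.map_comap_eq_self hle
  exact ((τ.range.comap ι).equivMapOfInjective ι hι).trans
    ((MulEquiv.subgroupCongr e1).trans (MonoidHom.ofInjective hτi).symm)

end Cfsg.Agent.H9SL2G
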