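import Mathlib
import Cfsg.Prelude
import Cfsg.Agent.Lib.Helper9.SL2Gen3
import Cfsg.Agent.Lib.Helper9.ElemAbAut1
import Cfsg.Agent.Lib.Helper9.EssGen1

set_option autoImplicit false

/-!
# Automizers of groups of order `p ^ 2` whose outer part has a strongly `p`-embedded subgroup
-/

namespace Cfsg.Agent.H9EP2

open Cfsg Cfsg.Agent.Lib.Helper9

/-- two distinct nontrivial `p`-subgroups from a strongly `p`-embedded subgroup of `A ⧸ ⊥` -/
theorem exists_two_pgroups {A : Type*} [Group A] [Finite A] (p : ℕ) [Fact p.Prime]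
    (I : Subgroup A) [I.Normal] (hI : I = ⊥) {E' : Subgroup (A ⧸ I)}
    (hE' : IsStronglyPEmbedded p E') :
    ∃ P₁ P₂ : Subgroup A, IsPGroup p P₁ ∧ IsPGroup p P₂ ∧ P₁ ≠ ⊥ ∧ P₂ ≠ ⊥ ∧ P₁ ≠ P₂ := by
  obtain ⟨T₀⟩ : Nonempty (Sylow p A) := inferInstance
  have hIT : I ≤ (T₀ : Subgroup A) := by rw [hI]; exact bot_le
  obtain ⟨M, hM, hMem⟩ := exists_proper_of_stronglyPEmbedded p I T₀ hIT hE'
  have hdvd : p ∣ Nat.card A := dvd_trans hE'.1 (Subgroup.card_quotient_dvd_card I)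
  have hT₀ : (T₀ : Subgroup A) ≠ ⊥ := Sylow.ne_bot_of_dvd_card T₀ hdvd
  obtain ⟨q, hq1⟩ := (Subgroup.ne_bot_iff_exists_ne_one).mp hT₀
  have hq1' : (q : A) ≠ 1 := fun h => hq1 (Subtype.ext h)
  have hqI : (q : A) ∉ I := by
    rw [hI, Subgroup.mem_bot]
    exact hq1'
  obtain ⟨α, hα⟩ : ∃ α : A, α ∉ M := by
    by_contra h
    push Not at h
    exact hM (eq_top_iff.mpr fun x _ => h x)
  refine ⟨(T₀ : Subgroup A), (T₀ : Subgroup A).map (MulAut.conj α).toMonoidHom, T₀.isPGroup',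
    T₀.isPGroup'.map _, hT₀, ?_, ?_⟩
  · intro h
    rw [Subgroup.map_eq_bot_iff_of_injective _ (MulAut.conj α).injective] at h
    exact hT₀ h
  · intro h
    apply hα
    apply hMem α q q.2 hqI
    have h3 : α * (q : A) * α⁻¹ ∈ (T₀ : Subgroup A).map (MulAut.conj α).toMonoidHom :=
      ⟨q, q.2, rfl⟩
    rw [← h] at h3
    exact h3

theorem comm_of_cyclic {H : Type*} [Group H] [IsCyclic H] (f g : MulAut H) : f * g = g * f := by
  apply (IsCyclic.mulAutMulEquiv H).injective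
  rw [map_mul, map_mul, mul_comm]

theorem aut_p2 {H : Type*} [Group H] [Finite H] (p : ℕ) [Fact p.Prime] (hcard : Nat.card H = p ^ 2)
    (A : Subgroup (MulAut H)) (hN : ((Inn H).subgroupOf A).Normal)
    (E : Subgroup (A ⧸ (Inn H).subgroupOf A)) (hE : IsStronglyPEmbedded p E) :
    (∀ a b : H, a * b = b * a) ∧ (∀ a : H, a ^ p = 1) ∧
      ∃ K : Subgroup A, Nonempty (↥K ≃* Matrix.SpecialLinearGroup (Fin 2) (ZMod p)) := by
  have hpp : p.Prime := Fact.out
  have hcomm : ∀ a b : H, a * b = b * a :=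
    (IsPGroup.isMulCommutative_of_card_eq_prime_sq hcard).is_comm.comm
  have hInn : (Inn H).subgroupOf A = ⊥ := by
    have : Inn H = ⊥ := by
      rw [eq_bot_iff]
      rintro f ⟨h, rfl⟩
      rw [Subgroup.mem_bot]
      ext x
      rw [MulAut.conj_apply, hcomm h x, mul_inv_cancel_right]
      rfl
    rw [this, Subgroup.bot_subgroupOf]
  haveI : Finite (MulAut H) :=
    Finite.of_injective (fun f : MulAut H => (f : H → H)) DFunLike.coe_injective
  obtain ⟨P₁, P₂, h₁, h₂, hb₁, hb₂, hne⟩ := exists_two_pgroups p ((Inn H).subgroupOf A) hInn hE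
  have hexp : ∀ a : H, a ^ p = 1 := by
    intro a
    by_contra ha
    have hdvd : orderOf a ∣ p ^ 2 := hcard ▸ orderOf_dvd_natCard a
    obtain ⟨k, hk, hk'⟩ := (Nat.dvd_prime_pow hpp).mp hdvd
    have hk2 : k = 2 := by
      by_contra hne2
      have hk1 : k ≤ 1 := by omega
      apply ha
      apply orderOf_dvd_iff_pow_eq_one.mp
      rw [hk']
      calc p ^ k ∣ p ^ 1 := pow_dvd_pow p hk1
        _ = p := pow_one p
    haveI : IsCyclic H := isCyclic_of_orderOf_eq_card a (by rw [hk', hk2, hcard])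
    -- `A` is commutative, so all its Sylow subgroups coincide
    obtain ⟨T₀⟩ : Nonempty (Sylow p A) := inferInstance
    haveI := hN
    have hIT : (Inn H).subgroupOf A ≤ (T₀ : Subgroup A) := by rw [hInn]; exact bot_le
    obtain ⟨M, hM, hMem⟩ := exists_proper_of_stronglyPEmbedded p ((Inn H).subgroupOf A) T₀ hIT hE
    have hdvd : p ∣ Nat.card A := dvd_trans hE.1 (Subgroup.card_quotient_dvd_card _)
    have hT₀ : (T₀ : Subgroup A) ≠ ⊥ := Sylow.ne_bot_of_dvd_card T₀ hdvd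
    obtain ⟨q, hq1⟩ := (Subgroup.ne_bot_iff_exists_ne_one).mp hT₀
    have hq1' : (q : A) ≠ 1 := fun h => hq1 (Subtype.ext h)
    have hqI : (q : A) ∉ (Inn H).subgroupOf A := by
      rw [hInn, Subgroup.mem_bot]
      exact hq1'
    apply hM
    rw [eq_top_iff]
    intro α _
    apply hMem α q q.2 hqI
    have : α * (q : A) * α⁻¹ = q := by
      apply Subtype.ext
      show (α : MulAut H) * ((q : A) : MulAut H) * (α : MulAut H)⁻¹ = _
      rw [comm_of_cyclic (α : MulAut H), mul_inv_cancel_right]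
    rw [this]
    exact q.2
  refine ⟨hcomm, hexp, ?_⟩
  obtain ⟨Φ⟩ := H9EA.nonempty_mulAut_equiv_GL p 2 hcomm hexp hcard
  exact H9SL2G.exists_SL2 (Φ.toMonoidHom.comp A.subtype)
    (Φ.injective.comp A.subtype_injective) P₁ P₂ h₁ h₂ hb₁ hb₂ hne

end Cfsg.Agent.H9EP2
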