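import Mathlib
import Cfsg.Prelude
import Cfsg.Agent.Lib.Helper9.ChainStab3
import Cfsg.Agent.Lib.Helper9.EssP2
import Cfsg.Agent.Lib.Helper6.Frattini
import Cfsg.Agent.Lib.Lead.Frattini
import Cfsg.Agent.Lib.Lead.BurnsideBasis

set_option autoImplicit false

/-!
# Finite abelian `p`-groups of rank two whose automizer has a strongly `p`-embedded subgroup
-/

namespace Cfsg.Agent.H9AbP

open Cfsg
open scoped commutatorElement

variable {H : Type*} [CommGroup H] [Finite H]

theorem frattini_eq_range_pow (p : ℕ) [Fact p.Prime] (hH : IsPGroup p H) :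
    frattini H = (powMonoidHom p : H →* H).range := by
  apply le_antisymm
  · apply Cfsg.Agent.Lib.Helper6.frattini_le_of_elemAb (p := p)
    · intro x y
      rw [commutatorElement_eq_one_iff_mul_comm.mpr (mul_comm x y)]
      exact one_mem _
    · intro x
      exact ⟨x, rfl⟩
  · rintro _ ⟨x, rfl⟩
    exact Cfsg.Agent.Lib.Lead.pow_mem_frattini_of_isPGroup hH x

theorem mem_frattini_iff (p : ℕ) [Fact p.Prime] (hH : IsPGroup p H) (z : H) :
    z ∈ frattini H ↔ ∃ w : H, w ^ p = z := by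
  rw [frattini_eq_range_pow p hH]
  rfl

theorem index_frattini (p : ℕ) [Fact p.Prime] (hH : IsPGroup p H)
    (hrk : (frattini H).index ≤ p ^ 2) (hnc : ¬ IsCyclic H) : (frattini H).index = p ^ 2 := by
  classical
  have hpp : p.Prime := Fact.out
  obtain ⟨n, hn⟩ := IsPGroup.iff_card.1 hH
  have hidx : (frattini H).index ∣ p ^ n := by
    rw [← hn]; exact Subgroup.index_dvd_card _
  obtain ⟨r, _, hr⟩ := (Nat.dvd_prime_pow hpp).1 hidx
  have hr2 : r ≤ 2 := by
    rw [hr] at hrk
    exact (Nat.pow_le_pow_iff_right hpp.one_lt).mp hrk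
  haveI : Fintype H := Fintype.ofFinite H
  obtain ⟨T, _, hTcard, hTgen⟩ :=
    (Cfsg.Agent.Lib.Lead.burnside_basis p r hH hr).1 Finset.univ (by simp)
  interval_cases r
  · exfalso
    apply hnc
    rw [Finset.card_eq_zero] at hTcard
    rw [hTcard, Finset.coe_empty, Subgroup.closure_empty] at hTgen
    haveI : Subsingleton H := by
      constructor
      intro a b
      have ha : a ∈ (⊥ : Subgroup H) := by rw [hTgen]; exact Subgroup.mem_top a
      have hb : b ∈ (⊥ : Subgroup H) := by rw [hTgen]; exact Subgroup.mem_top b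
      rw [Subgroup.mem_bot] at ha hb
      rw [ha, hb]
    exact isCyclic_of_subsingleton
  · exfalso
    apply hnc
    rw [Finset.card_eq_one] at hTcard
    obtain ⟨x, rfl⟩ := hTcard
    rw [Finset.coe_singleton, ← Subgroup.zpowers_eq_closure] at hTgen
    refine ⟨⟨x, fun y => ?_⟩⟩
    have : y ∈ Subgroup.zpowers x := by rw [hTgen]; exact Subgroup.mem_top y
    exact this
  · exact hr

/-- the exponent: `p ^ (e + 1)` kills `H` but `p ^ e` does not -/
theorem exists_exponent (p : ℕ) [Fact p.Prime] (hH : IsPGroup p H) (hnc : ¬ IsCyclic H) :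
    ∃ e : ℕ, (∀ h : H, h ^ (p ^ (e + 1)) = 1) ∧ ∃ h : H, h ^ (p ^ e) ≠ 1 := by
  classical
  obtain ⟨n, hn⟩ := IsPGroup.iff_card.1 hH
  have hex : ∃ e : ℕ, ∀ h : H, h ^ (p ^ e) = 1 := ⟨n, fun h => by rw [← hn]; exact pow_card_eq_one'⟩
  have hspec := Nat.find_spec hex
  rcases hfe : Nat.find hex with _ | e
  · exfalso
    apply hnc
    rw [hfe] at hspec
    haveI : Subsingleton H := by
      constructor
      intro a b
      have ha := hspec a
      have hb := hspec b
      rw [pow_zero, pow_one] at ha hb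
      rw [ha, hb]
    exact isCyclic_of_subsingleton
  · refine ⟨e, ?_, ?_⟩
    · rw [hfe] at hspec
      exact hspec
    · by_contra hno
      push Not at hno
      have := Nat.find_min' hex hno
      omega

/-- either the kernel of the `p ^ e`-th power map is the Frattini subgroup, or there is no strongly
`p`-embedded subgroup -/
theorem ker_pow_eq_frattini (p : ℕ) [Fact p.Prime] (hH : IsPGroup p H)
    (hidx : (frattini H).index = p ^ 2) (e : ℕ) (hexp : ∀ h : H, h ^ (p ^ (e + 1)) = 1)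
    (hne : ∃ h : H, h ^ (p ^ e) ≠ 1)
    (A : Subgroup (MulAut H)) (hN : ((Inn H).subgroupOf A).Normal)
    (E : Subgroup (A ⧸ (Inn H).subgroupOf A)) (hE : IsStronglyPEmbedded p E) :
    ∀ z : H, z ^ (p ^ e) = 1 → z ∈ frattini H := by
  have hpp : p.Prime := Fact.out
  obtain ⟨Ω, hΩ⟩ : ∃ Ω : Subgroup H, Ω = (powMonoidHom (p ^ e) : H →* H).ker := ⟨_, rfl⟩
  have hmemΩ : ∀ z : H, z ∈ Ω ↔ z ^ (p ^ e) = 1 := by
    intro z
    rw [hΩ, MonoidHom.mem_ker, powMonoidHom_apply]
  have hle : frattini H ≤ Ω := by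
    intro z hz
    obtain ⟨w, rfl⟩ := (mem_frattini_iff p hH z).mp hz
    rw [hmemΩ, ← pow_mul, ← pow_succ']
    exact hexp w
  by_contra hcon
  push Not at hcon
  obtain ⟨z, hz1, hz2⟩ := hcon
  have hne1 : (frattini H).relIndex Ω ≠ 1 := by
    intro h1
    rw [Subgroup.relIndex_eq_one] at h1
    exact hz2 (h1 ((hmemΩ z).mpr hz1))
  have hne2 : Ω.index ≠ 1 := by
    intro h1
    rw [Subgroup.index_eq_one] at h1
    obtain ⟨h, hh⟩ := hne
    apply hh
    rw [← hmemΩ, h1]
    exact Subgroup.mem_top h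
  have hprod := Subgroup.relIndex_mul_index hle
  rw [hidx] at hprod
  have hd1 : (frattini H).relIndex Ω ∣ p ^ 2 := Dvd.intro _ hprod
  obtain ⟨a, ha, ha'⟩ := (Nat.dvd_prime_pow hpp).mp hd1
  have hd2 : Ω.index ∣ p ^ 2 := Dvd.intro_left _ hprod
  obtain ⟨b, hb, hb'⟩ := (Nat.dvd_prime_pow hpp).mp hd2
  have hab : a + b = 2 := by
    rw [ha', hb', ← pow_add] at hprod
    exact Nat.pow_right_injective hpp.two_le hprod
  have ha0 : a ≠ 0 := by
    rintro rfl
    exact hne1 (by rw [ha', pow_zero])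
  have hb0 : b ≠ 0 := by
    rintro rfl
    exact hne2 (by rw [hb', pow_zero])
  have ha1 : a = 1 := by omega
  have hb1 : b = 1 := by omega
  subst ha1
  subst hb1
  rw [pow_one] at ha' hb'
  refine H9CS.chain2F_contra p hH A hN E hE Ω ?_ ?_ ?_
  · intro α h hh
    rw [hmemΩ] at hh ⊢
    rw [← map_pow, hh, map_one]
  · rw [ha']
  · rw [hb']

end Cfsg.Agent.H9AbP
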