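import Mathlib
import Cfsg.Prelude
import Cfsg.Agent.Lib.Helper9.AbelP1
import Cfsg.Agent.Lib.Lead.QuatRecog

set_option autoImplicit false

/-!
# Homocyclic abelian `p`-groups of rank two
-/

namespace Cfsg.Agent.H9AbP

open Cfsg Cfsg.Agent.Lib.Lead

variable {H : Type*} [CommGroup H] [Finite H]

theorem exists_basis (p : ℕ) [Fact p.Prime] (hH : IsPGroup p H)
    (hidx : (frattini H).index = p ^ 2) (hnc : ¬ IsCyclic H) :
    ∃ x y : H, Subgroup.closure ({x, y} : Set H) = ⊤ ∧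
      ∀ a b : ℤ, x ^ a * y ^ b ∈ frattini H → (p : ℤ) ∣ a ∧ (p : ℤ) ∣ b := by
  classical
  have hpp : p.Prime := Fact.out
  haveI : Fintype H := Fintype.ofFinite H
  obtain ⟨T, _, hTcard, hTgen⟩ :=
    (Cfsg.Agent.Lib.Lead.burnside_basis p 2 hH hidx).1 Finset.univ (by simp)
  rw [Finset.card_eq_two] at hTcard
  obtain ⟨x, y, _, rfl⟩ := hTcard
  rw [Finset.coe_insert, Finset.coe_singleton] at hTgen
  refine ⟨x, y, hTgen, ?_⟩
  -- general principle: if `u ^ a ∈ ⟨v⟩ Φ` with `p ∤ a` then the group is cyclic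
  have key : ∀ u v : H, Subgroup.closure ({u, v} : Set H) = ⊤ → ∀ a : ℤ,
      u ^ a ∈ Subgroup.zpowers v ⊔ frattini H → (p : ℤ) ∣ a := by
    intro u v huv a hua
    by_contra hpa
    apply hnc
    have hcop : IsCoprime a (p : ℤ) := by
      rw [isCoprime_comm]
      exact (Prime.coprime_iff_not_dvd (Nat.prime_iff_prime_int.mp hpp)).mpr hpa
    obtain ⟨s, t, hst⟩ := hcop
    have hu : u ∈ Subgroup.zpowers v ⊔ frattini H := by
      have h1 : u = (u ^ a) ^ s * (u ^ p) ^ t := by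
        rw [← zpow_mul, ← zpow_natCast u p, ← zpow_mul, ← zpow_add, mul_comm a s, mul_comm (p : ℤ) t,
          hst, zpow_one]
      rw [h1]
      apply Subgroup.mul_mem
      · exact Subgroup.zpow_mem _ hua s
      · apply Subgroup.zpow_mem
        exact Subgroup.mem_sup_right (Cfsg.Agent.Lib.Lead.pow_mem_frattini_of_isPGroup hH u)
    have htop : Subgroup.zpowers v ⊔ frattini H = ⊤ := by
      rw [eq_top_iff, ← huv, Subgroup.closure_le]
      rintro z (rfl | rfl)
      · exact hu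
      · exact Subgroup.mem_sup_left (Subgroup.mem_zpowers _)
    have hv := frattini_nongenerating htop
    refine ⟨⟨v, fun z => ?_⟩⟩
    have : z ∈ Subgroup.zpowers v := by rw [hv]; exact Subgroup.mem_top z
    exact this
  intro a b hab
  constructor
  · apply key x y hTgen a
    have : x ^ a = y ^ (-b) * (x ^ a * y ^ b) := by
      rw [zpow_neg, mul_comm (x ^ a), inv_mul_cancel_left]
    rw [this]
    exact Subgroup.mul_mem _ (Subgroup.mem_sup_left (Subgroup.zpow_mem_zpowers y _))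
      (Subgroup.mem_sup_right hab)
  · have hyx : Subgroup.closure ({y, x} : Set H) = ⊤ := by rw [Set.pair_comm]; exact hTgen
    apply key y x hyx b
    have : y ^ b = x ^ (-a) * (x ^ a * y ^ b) := by
      rw [zpow_neg, inv_mul_cancel_left]
    rw [this]
    exact Subgroup.mul_mem _ (Subgroup.mem_sup_left (Subgroup.zpow_mem_zpowers x _))
      (Subgroup.mem_sup_right hab)

omit [Finite H] in
theorem rel_dvd (p : ℕ) (e : ℕ) (x y : H)
    (hB : ∀ a b : ℤ, x ^ a * y ^ b ∈ frattini H → (p : ℤ) ∣ a ∧ (p : ℤ) ∣ b)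
    (hK : ∀ z : H, z ^ (p ^ e) = 1 → z ∈ frattini H) :
    ∀ s : ℕ, s ≤ e + 1 → ∀ a b : ℤ, x ^ a * y ^ b = 1 →
      ((p ^ s : ℕ) : ℤ) ∣ a ∧ ((p ^ s : ℕ) : ℤ) ∣ b := by
  intro s
  induction s with
  | zero =>
    intro _ a b _
    rw [pow_zero, Nat.cast_one]
    exact ⟨one_dvd a, one_dvd b⟩
  | succ s ih =>
    intro hs a b hab
    obtain ⟨⟨a', rfl⟩, ⟨b', rfl⟩⟩ := ih (by omega) a b hab
    have hz : (x ^ a' * y ^ b') ^ (p ^ s) = 1 := by
      rw [mul_pow, ← zpow_natCast (x ^ a'), ← zpow_natCast (y ^ b'), ← zpow_mul, ← zpow_mul,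
        mul_comm a', mul_comm b']
      exact hab
    have hz' : (x ^ a' * y ^ b') ^ (p ^ e) = 1 := by
      have : p ^ e = p ^ s * p ^ (e - s) := by rw [← pow_add]; congr 1; omega
      rw [this, pow_mul, hz, one_pow]
    obtain ⟨⟨a'', rfl⟩, ⟨b'', rfl⟩⟩ := hB a' b' (hK _ hz')
    constructor
    · refine ⟨a'', ?_⟩
      push_cast
      ring
    · refine ⟨b'', ?_⟩
      push_cast
      ring

omit [Finite H] in
/-- the homomorphism `(i, j) ↦ x ^ i * y ^ j` -/
noncomputable def homF (n : ℕ) (x y : H) (hx : x ^ n = 1) (hy : y ^ n = 1) :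
    Multiplicative (ZMod n × ZMod n) →* H where
  toFun z := (zmodPow n x hx z.toAdd.1).toMul * (zmodPow n y hy z.toAdd.2).toMul
  map_one' := by
    show (zmodPow n x hx 0).toMul * (zmodPow n y hy 0).toMul = 1
    have h1 : zmodPow n x hx 0 = 0 := map_zero _
    have h2 : zmodPow n y hy 0 = 0 := map_zero _
    rw [h1, h2]
    exact mul_one 1
  map_mul' := by
    intro a b
    show (zmodPow n x hx (a.toAdd.1 + b.toAdd.1)).toMul * (zmodPow n y hy (a.toAdd.2 + b.toAdd.2)).toMul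
      = _
    rw [zmodPow_add, zmodPow_add]
    exact mul_mul_mul_comm _ _ _ _

omit [Finite H] in
theorem homF_intCast (n : ℕ) (x y : H) (hx : x ^ n = 1) (hy : y ^ n = 1) (a b : ℤ) :
    homF n x y hx hy (Multiplicative.ofAdd ((a : ZMod n), (b : ZMod n))) = x ^ a * y ^ b := by
  show (zmodPow n x hx (a : ZMod n)).toMul * (zmodPow n y hy (b : ZMod n)).toMul = _
  rw [zmodPow_intCast, zmodPow_intCast]

theorem homocyclic (p : ℕ) [Fact p.Prime] (hH : IsPGroup p H)
    (hidx : (frattini H).index = p ^ 2) (hnc : ¬ IsCyclic H) (e : ℕ)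
    (hexp : ∀ h : H, h ^ (p ^ (e + 1)) = 1)
    (hK : ∀ z : H, z ^ (p ^ e) = 1 → z ∈ frattini H) :
    Nonempty (H ≃* Multiplicative (ZMod (p ^ (e + 1)) × ZMod (p ^ (e + 1)))) := by
  have hpp : p.Prime := Fact.out
  obtain ⟨x, y, hgen, hB⟩ := exists_basis p hH hidx hnc
  have hrel := rel_dvd p e x y hB hK (e + 1) le_rfl
  obtain ⟨f, hf⟩ : ∃ f, f = homF (p ^ (e + 1)) x y (hexp x) (hexp y) := ⟨_, rfl⟩
  have hinj : Function.Injective f := by
    rw [injective_iff_map_eq_one]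
    intro z hz
    obtain ⟨a, ha⟩ := ZMod.intCast_surjective z.toAdd.1
    obtain ⟨b, hb⟩ := ZMod.intCast_surjective z.toAdd.2
    have hz' : z = Multiplicative.ofAdd ((a : ZMod (p ^ (e + 1))), (b : ZMod (p ^ (e + 1)))) := by
      rw [ha, hb]
      rfl
    rw [hz', hf, homF_intCast] at hz
    obtain ⟨h1, h2⟩ := hrel a b hz
    rw [hz']
    have e1 : (a : ZMod (p ^ (e + 1))) = 0 := (ZMod.intCast_zmod_eq_zero_iff_dvd a _).mpr h1
    have e2 : (b : ZMod (p ^ (e + 1))) = 0 := (ZMod.intCast_zmod_eq_zero_iff_dvd b _).mpr h2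
    rw [e1, e2]
    rfl
  have hsurj : Function.Surjective f := by
    intro h
    have hh : h ∈ Subgroup.closure ({x, y} : Set H) := by rw [hgen]; exact Subgroup.mem_top h
    obtain ⟨m, n, hmn⟩ := Subgroup.mem_closure_pair.mp hh
    refine ⟨Multiplicative.ofAdd ((m : ZMod (p ^ (e + 1))), (n : ZMod (p ^ (e + 1)))), ?_⟩
    rw [hf, homF_intCast]
    exact hmn
  exact ⟨(MulEquiv.ofBijective f ⟨hinj, hsurj⟩).symm⟩

end Cfsg.Agent.H9AbP
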