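import Mathlib

set_option autoImplicit false

/-!
# An endomorphism `1 + N` of order `p` of an abelian group: binomial expansion
-/

namespace Cfsg.Agent.H9AbP

variable {W : Type*} [AddCommGroup W]

/-- `p W` -/
def pW (p : ℕ) : AddSubgroup W := (nsmulAddMonoidHom p : W →+ W).range

theorem mem_pW {p : ℕ} {w : W} : w ∈ pW (W := W) p ↔ ∃ u : W, w = p • u := by
  unfold pW
  rw [AddMonoidHom.mem_range]
  constructor
  · rintro ⟨u, hu⟩
    exact ⟨u, hu.symm⟩
  · rintro ⟨u, hu⟩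
    exact ⟨u, hu.symm⟩

theorem e_mul_apply (f g : AddMonoid.End W) (w : W) : (f * g) w = f (g w) := rfl

theorem e_add_apply (f g : AddMonoid.End W) (w : W) : (f + g) w = f w + g w := rfl

theorem e_neg_apply (f : AddMonoid.End W) (w : W) : (-f) w = -(f w) := rfl

theorem e_one_apply (w : W) : (1 : AddMonoid.End W) w = w := rfl

theorem end_pow_smul (N : AddMonoid.End W) (j n : ℕ) (w : W) : (N ^ j) (n • w) = n • (N ^ j) w :=
  map_nsmul (N ^ j) n w

theorem end_mul_natCast_apply (N : AddMonoid.End W) (m c : ℕ) (w : W) :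
    (N ^ m * (c : AddMonoid.End W)) w = c • (N ^ m) w := by
  rw [e_mul_apply, AddMonoid.End.natCast_apply, end_pow_smul]

theorem expansion (p : ℕ) (N : AddMonoid.End W) :
    (1 + N) ^ p = ∑ m ∈ Finset.range (p + 1), N ^ m * ((p.choose m : ℕ) : AddMonoid.End W) := by
  rw [add_comm, (Commute.one_right N).add_pow]
  apply Finset.sum_congr rfl
  intro m _
  rw [one_pow, mul_one]

theorem sum_apply {ι : Type*} (s : Finset ι) (f : ι → AddMonoid.End W) (w : W) :
    (∑ i ∈ s, f i) w = ∑ i ∈ s, f i w := by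
  classical
  induction s using Finset.induction_on with
  | empty => simp
  | insert a s ha ih =>
    rw [Finset.sum_insert ha, Finset.sum_insert ha, e_add_apply, ih]

/-- `N ^ p` maps into `p W` -/
theorem pow_p_mem (p : ℕ) (hp : p.Prime) (N : AddMonoid.End W) (hQ : (1 + N) ^ p = 1) (w : W) :
    (N ^ p) w ∈ pW (W := W) p := by
  obtain ⟨k, rfl⟩ : ∃ k, p = k + 1 := ⟨p - 1, by have := hp.pos; omega⟩
  have h1 := expansion (k + 1) N
  rw [hQ, Finset.sum_range_succ, Finset.sum_range_succ', Nat.choose_self, Nat.cast_one, mul_one,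
    Nat.choose_zero_right, pow_zero, Nat.cast_one, mul_one] at h1
  have h2 : N ^ (k + 1) =
      -∑ m ∈ Finset.range k, N ^ (m + 1) * (((k + 1).choose (m + 1) : ℕ) : AddMonoid.End W) := by
    have h3 : ∑ m ∈ Finset.range k, N ^ (m + 1) * (((k + 1).choose (m + 1) : ℕ) : AddMonoid.End W) +
          N ^ (k + 1) = 0 := by
      have h4 : (∑ m ∈ Finset.range k,
          N ^ (m + 1) * (((k + 1).choose (m + 1) : ℕ) : AddMonoid.End W) + N ^ (k + 1)) + 1 = 0 + 1 := by
        rw [zero_add, add_right_comm]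
        exact h1.symm
      exact add_right_cancel h4
    rw [eq_neg_iff_add_eq_zero, add_comm]
    exact h3
  rw [h2, e_neg_apply, sum_apply]
  apply AddSubgroup.neg_mem
  apply AddSubgroup.sum_mem
  intro m hm
  rw [Finset.mem_range] at hm
  rw [end_mul_natCast_apply]
  obtain ⟨c, hc⟩ := hp.dvd_choose_self (Nat.succ_ne_zero m) (by omega : m + 1 < k + 1)
  rw [hc, mul_smul]
  exact mem_pW.mpr ⟨_, rfl⟩

theorem pow_add_two_mem (p : ℕ) (N : AddMonoid.End W) (h2 : ∀ w : W, N (N w) ∈ pW (W := W) p) (j : ℕ)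
    (w : W) : (N ^ (j + 2)) w ∈ pW (W := W) p := by
  obtain ⟨u, hu⟩ := mem_pW.mp (h2 w)
  rw [pow_add, e_mul_apply, pow_two, e_mul_apply, hu, end_pow_smul]
  exact mem_pW.mpr ⟨_, rfl⟩

theorem pow_add_four_mem (p : ℕ) (N : AddMonoid.End W) (h2 : ∀ w : W, N (N w) ∈ pW (W := W) p)
    (j : ℕ) (w : W) : ∃ u : W, (N ^ (j + 4)) w = p • p • u := by
  obtain ⟨u, hu⟩ := mem_pW.mp (h2 w)
  have : j + 4 = (j + 2) + 2 := by omega
  rw [this, pow_add, e_mul_apply, pow_two, e_mul_apply, hu, end_pow_smul]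
  obtain ⟨u', hu'⟩ := mem_pW.mp (pow_add_two_mem p N h2 j u)
  exact ⟨u', by rw [hu']⟩

/-- the key step: for `p ≥ 5`, if `N ^ 2` maps into `p W` and the `p`-torsion lies in `p W`, then `N` maps
into `p W` -/
theorem additive_key (p : ℕ) (hp : p.Prime) (hp5 : 5 ≤ p) (N : AddMonoid.End W)
    (hQ : (1 + N) ^ p = 1) (h2 : ∀ w : W, N (N w) ∈ pW (W := W) p)
    (htors : ∀ z : W, p • z = 0 → z ∈ pW (W := W) p) (w : W) : N w ∈ pW (W := W) p := by
  obtain ⟨k, rfl⟩ : ∃ k, p = k + 2 := ⟨p - 2, by omega⟩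
  have h1 := expansion (k + 2) N
  rw [hQ, Finset.sum_range_succ', Finset.sum_range_succ', Nat.choose_zero_right, pow_zero,
    Nat.cast_one, mul_one, zero_add, pow_one, Nat.choose_one_right] at h1
  have h3 := congrArg (fun f : AddMonoid.End W => f w) h1
  simp only [e_add_apply, e_one_apply, sum_apply] at h3
  rw [e_mul_apply, AddMonoid.End.natCast_apply, map_nsmul] at h3
  -- the higher terms lie in `p² W`
  have hS : ∀ m ∈ Finset.range (k + 1),
      (N ^ (m + 1 + 1) * (((k + 2).choose (m + 1 + 1) : ℕ) : AddMonoid.End W)) w ∈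
        pW (W := W) ((k + 2) * (k + 2)) := by
    intro m hm
    rw [Finset.mem_range] at hm
    rw [end_mul_natCast_apply]
    by_cases hmk : m = k
    · subst hmk
      rw [Nat.choose_self, one_smul]
      obtain ⟨j, rfl⟩ : ∃ j, m = j + 2 := ⟨m - 2, by omega⟩
      obtain ⟨u, hu⟩ := pow_add_four_mem (j + 2 + 2) N h2 j w
      have hu' : (N ^ (j + 2 + 1 + 1)) w = (j + 2 + 2) • (j + 2 + 2) • u := hu
      rw [hu', ← mul_smul]
      exact mem_pW.mpr ⟨_, rfl⟩
    · obtain ⟨c, hc⟩ := hp.dvd_choose_self (Nat.succ_ne_zero (m + 1)) (by omega : m + 1 + 1 < k + 2)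
      obtain ⟨u, hu⟩ := mem_pW.mp (pow_add_two_mem (k + 2) N h2 m w)
      rw [hc, hu, mul_smul, smul_comm c, ← mul_smul]
      exact mem_pW.mpr ⟨_, rfl⟩
  have hS' := AddSubgroup.sum_mem (pW (W := W) ((k + 2) * (k + 2))) hS
  obtain ⟨v, hv⟩ := mem_pW.mp hS'
  rw [hv] at h3
  -- `w = p² v + p N w + w`
  have h4 : (k + 2) • (N w + (k + 2) • v) = 0 := by
    have h5 : w + 0 = w + ((k + 2) • (N w + (k + 2) • v)) := by
      rw [add_zero, smul_add, ← mul_smul]
      calc w = ((k + 2) * (k + 2)) • v + (k + 2) • N w + w := h3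
        _ = w + ((k + 2) • N w + ((k + 2) * (k + 2)) • v) := by abel
    exact (add_left_cancel h5).symm
  obtain ⟨u, hu⟩ := mem_pW.mp (htors _ h4)
  refine mem_pW.mpr ⟨u - v, ?_⟩
  rw [smul_sub, ← hu]
  abel

/-- if `N w ∈ p W` forces `w ∈ p W`, then `W = p W` -/
theorem all_mem_of_inj (p : ℕ) (hp : p.Prime) (N : AddMonoid.End W) (hQ : (1 + N) ^ p = 1)
    (hinj : ∀ w : W, N w ∈ pW (W := W) p → w ∈ pW (W := W) p) (w : W) : w ∈ pW (W := W) p := by
  have key : ∀ j : ℕ, ∀ w : W, (N ^ j) w ∈ pW (W := W) p → w ∈ pW (W := W) p := by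
    intro j
    induction j with
    | zero => intro w hw; rwa [pow_zero] at hw
    | succ j ih =>
      intro w hw
      rw [pow_succ', e_mul_apply] at hw
      exact ih w (hinj _ hw)
  exact key p w (pow_p_mem p hp N hQ w)

end Cfsg.Agent.H9AbP
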