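import Mathlib
import Cfsg.Prelude
import Cfsg.Agent.Lib.Helper9.AbelP2
import Cfsg.Agent.Lib.Helper9.AbelP3

set_option autoImplicit false

/-!
# Homocyclic groups of rank two and exponent at least `p ^ 2`: `p ≤ 3`
-/

namespace Cfsg.Agent.H9AbP

open Cfsg Cfsg.Agent.Lib.Helper8

variable {H : Type*} [CommGroup H]

/-- automorphisms as endomorphisms of the additive group -/
def toEnd : MulAut H →* AddMonoid.End (Additive H) where
  toFun q :=
    { toFun := fun w => Additive.ofMul (q w.toMul)
      map_zero' := by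
        show Additive.ofMul (q 1) = 0
        rw [map_one]
        rfl
      map_add' := by
        intro a b
        show Additive.ofMul (q (a.toMul * b.toMul)) = _
        rw [map_mul]
        rfl }
  map_one' := rfl
  map_mul' _ _ := rfl

theorem toEnd_apply (q : MulAut H) (w : Additive H) : toEnd q w = Additive.ofMul (q w.toMul) := rfl

theorem mem_pW_iff [Finite H] (p : ℕ) [Fact p.Prime] (hH : IsPGroup p H) (w : Additive H) :
    w ∈ pW (W := Additive H) p ↔ w.toMul ∈ frattini H := by
  rw [mem_pW, mem_frattini_iff p hH]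
  constructor
  · rintro ⟨u, rfl⟩
    exact ⟨u.toMul, rfl⟩
  · rintro ⟨v, hv⟩
    exact ⟨Additive.ofMul v, by rw [← ofMul_pow, hv]; rfl⟩

theorem index_between {G : Type*} [Group G] (p : ℕ) (hp : p.Prime) {Φ K : Subgroup G} (hle : Φ ≤ K)
    (hidx : Φ.index = p ^ 2) (h1 : ¬ K ≤ Φ) (h2 : K ≠ ⊤) : K.index = p := by
  have hprod := Subgroup.relIndex_mul_index hle
  rw [hidx] at hprod
  have hd1 : Φ.relIndex K ∣ p ^ 2 := Dvd.intro _ hprod
  obtain ⟨a, ha, ha'⟩ := (Nat.dvd_prime_pow hp).mp hd1
  have hd2 : K.index ∣ p ^ 2 := Dvd.intro_left _ hprod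
  obtain ⟨b, hb, hb'⟩ := (Nat.dvd_prime_pow hp).mp hd2
  have hab : a + b = 2 := by
    rw [ha', hb', ← pow_add] at hprod
    exact Nat.pow_right_injective hp.two_le hprod
  have ha0 : a ≠ 0 := by
    rintro rfl
    rw [pow_zero, Subgroup.relIndex_eq_one] at ha'
    exact h1 ha'
  have hb0 : b ≠ 0 := by
    rintro rfl
    rw [pow_zero, Subgroup.index_eq_one] at hb'
    exact h2 hb'
  have hb1 : b = 1 := by omega
  rw [hb', hb1, pow_one]

theorem autTrivMod_frattini_normal [Finite H] : (autTrivMod (frattini H)).Normal := by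
  constructor
  intro α hα γ x
  have h1 := hα (γ⁻¹ x)
  have h2 := H9CS.map_mem_frattini γ h1
  rw [map_mul, map_inv, MulAut.apply_inv_self] at h2
  exact h2

theorem autTrivMod_frattini_isPGroup [Finite H] (p : ℕ) [Fact p.Prime] (hH : IsPGroup p H) :
    IsPGroup p (autTrivMod (frattini H)) := by
  intro ⟨α, hα⟩
  obtain ⟨k, hk⟩ := H9CS.pow_eq_one_of_trivMod_frattini p hH α (fun x => by
    have := hα x
    rwa [mul_comm] at this)
  exact ⟨k, Subtype.ext hk⟩

theorem p_le_three [Finite H] (p : ℕ) [Fact p.Prime] (hH : IsPGroup p H)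
    (hidx : (frattini H).index = p ^ 2) (e : ℕ) (he : 1 ≤ e)
    (hK : ∀ z : H, z ^ (p ^ e) = 1 → z ∈ frattini H)
    (A : Subgroup (MulAut H)) (hN : ((Inn H).subgroupOf A).Normal)
    (E : Subgroup (A ⧸ (Inn H).subgroupOf A)) (hE : IsStronglyPEmbedded p E) : p ≤ 3 := by
  by_contra hp3
  have hpp : p.Prime := Fact.out
  have hp5 : 5 ≤ p := by
    have : p ≠ 4 := fun h => by rw [h] at hpp; norm_num at hpp
    omega
  haveI := hN
  haveI : Finite (MulAut H) :=
    Finite.of_injective (fun f : MulAut H => (f : H → H)) DFunLike.coe_injective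
  have hInn : (Inn H).subgroupOf A = ⊥ := by
    have : Inn H = ⊥ := by
      rw [eq_bot_iff]
      rintro f ⟨h, rfl⟩
      rw [Subgroup.mem_bot]
      ext x
      rw [MulAut.conj_apply, mul_comm h x, mul_inv_cancel_right]
      rfl
    rw [this, Subgroup.bot_subgroupOf]
  -- the kernel of the action on the Frattini quotient is trivial
  have hR : (autTrivMod (frattini H)).subgroupOf A ≤ ⊥ := by
    rw [← hInn]
    refine H9CS.normal_pgroup_le p _ (H9CS.inn_isPGroup p hH A) E hE _ ?_ ?_
    · haveI := autTrivMod_frattini_normal (H := H)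
      infer_instance
    · exact (autTrivMod_frattini_isPGroup p hH).comap_subtype
  -- an element of order `p`
  have hdvd : p ∣ Nat.card A := dvd_trans hE.1 (Subgroup.card_quotient_dvd_card _)
  obtain ⟨q, hq⟩ := exists_prime_orderOf_dvd_card' p hdvd
  have hq1 : q ≠ 1 := by
    intro h
    rw [h, orderOf_one] at hq
    exact hpp.one_lt.ne hq
  have hqp : (q : MulAut H) ^ p = 1 := by
    have : q ^ p = 1 := by rw [← hq]; exact pow_orderOf_eq_one q
    exact congrArg Subtype.val this
  apply hq1
  have hgoal : (q : MulAut H) ∈ autTrivMod (frattini H) := by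
    -- additive set-up
    obtain ⟨N, hNdef⟩ : ∃ N : AddMonoid.End (Additive H), N = toEnd (q : MulAut H) - 1 := ⟨_, rfl⟩
    have hQ : (1 + N) ^ p = 1 := by
      rw [hNdef, add_sub_cancel, ← map_pow, hqp, map_one]
    have hNapp : ∀ w : Additive H,
        (N w).toMul = (q : MulAut H) w.toMul / w.toMul := by
      intro w
      rw [hNdef]
      rfl
    have htors : ∀ z : Additive H, p • z = 0 → z ∈ pW (W := Additive H) p := by
      intro z hz
      rw [mem_pW_iff p hH]
      apply hK
      have h1 : z.toMul ^ p = 1 := by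
        have := congrArg Additive.toMul hz
        exact this
      have : p ^ e = p * p ^ (e - 1) := by rw [← pow_succ']; congr 1; omega
      rw [this, pow_mul, h1, one_pow]
    have hfinal : (∀ w : Additive H, N w ∈ pW (W := Additive H) p) →
        (q : MulAut H) ∈ autTrivMod (frattini H) := by
      intro h x
      have := h (Additive.ofMul x)
      rw [mem_pW_iff p hH, hNapp, div_eq_mul_inv] at this
      exact this
    apply hfinal
    -- the subgroup `K` of elements moved into the Frattini subgroup
    obtain ⟨n, hn⟩ : ∃ n : H →* H, n = (q : MulAut H).toMonoidHom / MonoidHom.id H := ⟨_, rfl⟩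
    have hnapp : ∀ x : H, n x = (q : MulAut H) x / x := by
      intro x
      rw [hn]
      rfl
    have hNn : ∀ w : Additive H, (N w).toMul = n w.toMul := by
      intro w
      rw [hNapp, hnapp]
    obtain ⟨K, hKdef⟩ : ∃ K : Subgroup H, K = (frattini H).comap n := ⟨_, rfl⟩
    have hmemK : ∀ x : H, x ∈ K ↔ n x ∈ frattini H := by
      intro x
      rw [hKdef, Subgroup.mem_comap]
    have hΦK : frattini H ≤ K := by
      intro x hx
      rw [hmemK, hnapp]
      exact Subgroup.div_mem _ (H9CS.map_mem_frattini _ hx) hx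
    have hKne : ¬ K ≤ frattini H := by
      intro hle
      have hall := all_mem_of_inj p hpp N hQ (fun w hw => by
        rw [mem_pW_iff p hH] at hw ⊢
        apply hle
        rw [hmemK, ← hNn]
        exact hw)
      have htop : frattini H = ⊤ := by
        rw [eq_top_iff]
        intro x _
        have := hall (Additive.ofMul x)
        rw [mem_pW_iff p hH] at this
        exact this
      rw [htop, Subgroup.index_top] at hidx
      have : 1 < p ^ 2 := Nat.one_lt_pow (by norm_num) hpp.one_lt
      omega
    by_cases hKtop : K = ⊤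
    · intro w
      rw [mem_pW_iff p hH, hNn, ← hmemK, hKtop]
      exact Subgroup.mem_top _
    · have hKidx : K.index = p := index_between p hpp hΦK hidx hKne hKtop
      have hKinv : ∀ h ∈ K, (q : MulAut H) h ∈ K := by
        intro h hh
        rw [hmemK, hnapp] at hh ⊢
        rw [← map_div]
        exact H9CS.map_mem_frattini _ hh
      have hstep := H9CS.step p (q : MulAut H) 1 (by rw [pow_one]; exact hqp) K ⊤ hKinv
        (fun _ _ => Subgroup.mem_top _) (by rw [Subgroup.relIndex_top_right, hKidx])
      have h2 : ∀ w : Additive H, N (N w) ∈ pW (W := Additive H) p := by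
        intro w
        rw [mem_pW_iff p hH, hNn, ← hmemK, hNn, hnapp, div_eq_mul_inv, mul_comm]
        exact hstep _ (Subgroup.mem_top _)
      exact additive_key p hpp hp5 N hQ h2 htors
  have hmem : q ∈ (autTrivMod (frattini H)).subgroupOf A := by
    rw [Subgroup.mem_subgroupOf]
    exact hgoal
  exact (Subgroup.mem_bot.mp (hR hmem))

end Cfsg.Agent.H9AbP
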