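import Mathlib
import Cfsg.Prelude
import Cfsg.Agent.Lib.Helper9.AbelP4

set_option autoImplicit false

/-!
# Abelian groups of rank two whose automizer has a strongly `p`-embedded subgroup: final statement
-/

namespace Cfsg.Agent.H9AbP

open Cfsg

variable {H : Type*} [CommGroup H] [Finite H]

theorem aut_abelian_rank2 (p : ℕ) [Fact p.Prime] (hH : IsPGroup p H)
    (hrk : (frattini H).index ≤ p ^ 2)
    (A : Subgroup (MulAut H)) (hN : ((Inn H).subgroupOf A).Normal)
    (E : Subgroup (A ⧸ (Inn H).subgroupOf A)) (hE : IsStronglyPEmbedded p E) :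
    ((∀ a : H, a ^ p = 1) ∧ Nat.card H = p ^ 2) ∨
      (p ≤ 3 ∧ ∃ k : ℕ, Nonempty (H ≃* Multiplicative (ZMod (p ^ k) × ZMod (p ^ k)))) := by
  have hpp : p.Prime := Fact.out
  haveI : Finite (MulAut H) :=
    Finite.of_injective (fun f : MulAut H => (f : H → H)) DFunLike.coe_injective
  have hnc : ¬ IsCyclic H := by
    intro hc
    haveI := hN
    refine H9CS.contra_of_comm p ?_ ((Inn H).subgroupOf A) (H9CS.inn_isPGroup p hH A) E hE
    intro a b
    apply Subtype.ext
    exact H9EP2.comm_of_cyclic (a : MulAut H) (b : MulAut H)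
  have hidx := index_frattini p hH hrk hnc
  obtain ⟨e, hexp, hne⟩ := exists_exponent p hH hnc
  have hK := ker_pow_eq_frattini p hH hidx e hexp hne A hN E hE
  obtain ⟨iso⟩ := homocyclic p hH hidx hnc e hexp hK
  by_cases he : e = 0
  · left
    subst he
    refine ⟨fun a => by have := hexp a; rwa [zero_add, pow_one] at this, ?_⟩
    rw [Nat.card_congr iso.toEquiv]
    show Nat.card (ZMod (p ^ (0 + 1)) × ZMod (p ^ (0 + 1))) = p ^ 2
    rw [Nat.card_prod, Nat.card_zmod, zero_add, pow_one, sq]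
  · right
    exact ⟨p_le_three p hH hidx e (by omega) hK A hN E hE, e + 1, ⟨iso⟩⟩

end Cfsg.Agent.H9AbP
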