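import Mathlib

set_option autoImplicit false

/-! # `(S₂ ≀ S₄) ∩ A₈` lies in `AGL₃(2)`: the computation on `V = 𝔽₂³` -/

namespace Cfsg.Agent.H9AltEight

abbrev B := ZMod 2 × ZMod 2
abbrev V := B × ZMod 2

def mk (π : Equiv.Perm B) (ε : B → ZMod 2) : Equiv.Perm V where
  toFun x := (π x.1, x.2 + ε x.1)
  invFun y := (π.symm y.1, y.2 - ε (π.symm y.1))
  left_inv x := by simp
  right_inv y := by simp

def IsAffPair (h : Equiv.Perm V) : Prop := ∀ x y : V, h (x + y) + h 0 = h x + h y

instance (h : Equiv.Perm V) : Decidable (IsAffPair h) := by unfold IsAffPair; infer_instance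

def PA (π : Equiv.Perm B) (ε : B → ZMod 2) : Prop :=
  Equiv.Perm.sign (mk π ε) = 1 → IsAffPair (mk π ε)

instance (π : Equiv.Perm B) (ε : B → ZMod 2) : Decidable (PA π ε) := by unfold PA; infer_instance

set_option maxRecDepth 100000 in
theorem lemmaA : ∀ π : Equiv.Perm B, ∀ ε : B → ZMod 2, PA π ε := by
  decide +kernel

theorem add_self_V (x : V) : x + x = 0 := by
  revert x; decide

theorem add_self_Z (x : ZMod 2) : x + x = 0 := by
  revert x; decide

/-- the affine group of `V` -/
def Aff : Subgroup (Equiv.Perm V) where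
  carrier := {h | ∀ x y z : V, h (x + y + z) = h x + h y + h z}
  one_mem' := fun x y z => rfl
  mul_mem' := by
    intro g h hg hh x y z
    change g (h (x + y + z)) = g (h x) + g (h y) + g (h z)
    rw [hh x y z, hg]
  inv_mem' := by
    intro g hg x y z
    apply g.injective
    rw [hg]
    simp

theorem mem_Aff (h : Equiv.Perm V) : h ∈ Aff ↔ ∀ x y z : V, h (x + y + z) = h x + h y + h z :=
  Iff.rfl

theorem mem_Aff_of_pair (h : Equiv.Perm V) (hp : IsAffPair h) : h ∈ Aff := by
  intro x y z
  have h1 := hp (x + y) z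
  have h2 := hp x y
  have e1 : h (x + y + z) = h (x + y) + h z + h 0 := by
    calc h (x + y + z) = h (x + y + z) + (h 0 + h 0) := by rw [add_self_V, add_zero]
      _ = (h (x + y + z) + h 0) + h 0 := (add_assoc _ _ _).symm
      _ = h (x + y) + h z + h 0 := by rw [h1]
  have e2 : h (x + y) = h x + h y + h 0 := by
    calc h (x + y) = h (x + y) + (h 0 + h 0) := by rw [add_self_V, add_zero]
      _ = (h (x + y) + h 0) + h 0 := (add_assoc _ _ _).symm
      _ = h x + h y + h 0 := by rw [h2]
  rw [e1, e2]
  have : h x + h y + h 0 + h z + h 0 = h x + h y + h z + (h 0 + h 0) := by abel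
  rw [this, add_self_V, add_zero]

/-- the partition stabilizer on `V` -/
def H₀ : Set (Equiv.Perm V) := {h | ∀ x y : V, x.1 = y.1 ↔ (h x).1 = (h y).1}

theorem ne_iff_Z (a b : ZMod 2) : a ≠ b ↔ a = b + 1 := by
  revert a b; decide

theorem aff_of_mem_H₀ (h : Equiv.Perm V) (hh : h ∈ H₀) (hs : Equiv.Perm.sign h = 1) : h ∈ Aff := by
  classical
  let p : B → B := fun a => (h (a, 0)).1
  have hpinj : Function.Injective p := by
    intro a a' haa
    have := (hh (a, 0) (a', 0)).mpr haa
    exact this
  let π : Equiv.Perm B := Equiv.ofBijective p (Finite.injective_iff_bijective.mp hpinj)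
  let ε : B → ZMod 2 := fun a => (h (a, 0)).2
  have hmk : h = mk π ε := by
    apply Equiv.ext
    rintro ⟨a, c⟩
    have hc : c = 0 ∨ c = 1 := by revert c; decide
    rcases hc with rfl | rfl
    · change h (a, 0) = (p a, (0 : ZMod 2) + ε a)
      rw [zero_add]
    · change h (a, 1) = (p a, (1 : ZMod 2) + ε a)
      have h1 : (h (a, 1)).1 = p a := ((hh (a, 1) (a, 0)).mp rfl)
      have h2 : (h (a, 1)).2 ≠ (h (a, 0)).2 := by
        intro h2
        have : h (a, 1) = h (a, 0) := Prod.ext h1 h2
        have := h.injective this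
        have h3 : (1 : ZMod 2) = 0 := congrArg Prod.snd this
        revert h3; decide
      rw [ne_iff_Z] at h2
      apply Prod.ext
      · exact h1
      · change (h (a, 1)).2 = 1 + ε a
        rw [h2, add_comm]
  rw [hmk]
  apply mem_Aff_of_pair
  apply lemmaA π ε
  rw [← hmk]; exact hs

/-- an even affine map not preserving the partition -/
def rot : Equiv.Perm V where
  toFun x := ((x.1.2, x.2), x.1.1)
  invFun y := ((y.2, y.1.1), y.1.2)
  left_inv x := rfl
  right_inv y := rfl

theorem rot_mem_Aff : rot ∈ Aff := by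
  intro x y z; rfl

theorem rot_sign : Equiv.Perm.sign rot = 1 := by decide +kernel

theorem rot_not_mem : rot ∉ H₀ := by
  intro h
  have := (h ((0, 0), 0) ((0, 0), 1)).mp rfl
  revert this
  decide

/-- an even permutation that is not affine -/
def cyc : Equiv.Perm V :=
  Equiv.swap ((0, 0), 0) ((0, 0), 1) * Equiv.swap ((0, 0), 0) ((0, 1), 0)

theorem cyc_sign : Equiv.Perm.sign cyc = 1 := by
  unfold cyc
  rw [map_mul, Equiv.Perm.sign_swap (by decide), Equiv.Perm.sign_swap (by decide)]
  rfl

theorem cyc_not_mem : cyc ∉ Aff := by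
  intro h
  have := h ((1, 0), 0) ((1, 0), 1) ((0, 0), 1)
  revert this
  unfold cyc
  decide

end Cfsg.Agent.H9AltEight
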