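import Mathlib
import Cfsg.Agent.Lib.Helper9.AltFus2

set_option autoImplicit false

/-!
# Supports, orders and signs in the wreath product
-/

namespace Cfsg.Agent.H9AF

open Equiv

variable {p : ℕ} [Fact p.Prime] {B C : Type}

section
variable [Fintype B] [DecidableEq B] [Fintype C] [DecidableEq C]

theorem sign_hat (q : Perm B) : Perm.sign (hat p C q) = Perm.sign q ^ p := by
  have h : hat p C q = Equiv.sumCongr (Equiv.prodCongrLeft (fun _ : ZMod p => q)) (Equiv.refl C) := by
    ext x
    rcases x with ⟨b, x⟩ | c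
    · simp
    · simp
  rw [h, Perm.sign_sumCongr, Perm.sign_prodCongrLeft, Finset.prod_const, Finset.card_univ,
    ZMod.card]
  simp

theorem support_ef (f : B → ZMod p) :
    (ef C (Multiplicative.ofAdd f)).support =
      ((Finset.univ.filter (fun b => f b ≠ 0)) ×ˢ (Finset.univ : Finset (ZMod p))).map
        ⟨Sum.inl, Sum.inl_injective⟩ := by
  ext x
  rcases x with ⟨b, x⟩ | c
  · simp
  · simp

theorem card_support_ef (f : B → ZMod p) :
    (ef C (Multiplicative.ofAdd f)).support.card =
      p * (Finset.univ.filter (fun b => f b ≠ 0)).card := by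
  rw [support_ef, Finset.card_map, Finset.card_product, Finset.card_univ, ZMod.card, mul_comm]

theorem support_hat (q : Perm B) :
    (hat p C q).support =
      (q.support ×ˢ (Finset.univ : Finset (ZMod p))).map ⟨Sum.inl, Sum.inl_injective⟩ := by
  ext x
  rcases x with ⟨b, x⟩ | c
  · simp
  · simp

theorem card_support_hat (q : Perm B) : (hat p C q).support.card = p * q.support.card := by
  rw [support_hat, Finset.card_map, Finset.card_product, Finset.card_univ, ZMod.card, mul_comm]

theorem le_card_support_mk (f : B → ZMod p) (q : Perm B) :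
    p * q.support.card ≤ (mk f q : Perm (Om p B C)).support.card := by
  rw [← card_support_hat (C := C) q]
  apply Finset.card_le_card
  intro x
  rcases x with ⟨b, x⟩ | c
  · simp only [Perm.mem_support, hat_inl, mk_inl, ne_eq, Sum.inl.injEq, Prod.mk.injEq, not_and]
    intro h h1
    exact absurd trivial (h h1)
  · simp

theorem eq_ef_of_card_support {f : B → ZMod p} {q : Perm B}
    (h : (mk f q : Perm (Om p B C)).support.card = p) : q = 1 := by
  by_contra hq
  have h1 := Perm.two_le_card_support_of_ne_one hq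
  have h2 := le_card_support_mk (C := C) f q
  have hp : 0 < p := (Fact.out : p.Prime).pos
  have : p * 2 ≤ p * q.support.card := Nat.mul_le_mul_left p h1
  omega

end

theorem orderOf_ef {f : B → ZMod p} (hf : f ≠ 0) :
    orderOf (ef C (Multiplicative.ofAdd f)) = p := by
  apply orderOf_eq_prime
  · rw [← map_pow, ← ofAdd_nsmul]
    have : p • f = 0 := by
      funext b
      simp
    rw [this, ofAdd_zero, map_one]
  · intro h
    apply hf
    have := ef_injective (C := C) (h.trans (map_one _).symm)
    exact this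

theorem orderOf_hat (q : Perm B) : orderOf (hat p C q) = orderOf q :=
  orderOf_injective _ hat_injective q

/-- conjugacy of elements of prime order with supports of the same size -/
theorem exists_conj_of_prime_order {α : Type} [Fintype α] [DecidableEq α] {σ τ : Perm α}
    (hσ : orderOf σ = p) (hτ : orderOf τ = p) (h : σ.support.card = τ.support.card) :
    ∃ u : Perm α, u * σ * u⁻¹ = τ := by
  have hp : p.Prime := Fact.out
  have h1 : IsConj σ τ := by
    rw [Perm.isConj_iff_cycleType_eq]
    obtain ⟨n, hn⟩ := Perm.cycleType_prime_order (hσ ▸ hp : (orderOf σ).Prime)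
    obtain ⟨m, hm⟩ := Perm.cycleType_prime_order (hτ ▸ hp : (orderOf τ).Prime)
    have e1 := Perm.sum_cycleType σ
    have e2 := Perm.sum_cycleType τ
    rw [hn, Multiset.sum_replicate, hσ] at e1
    rw [hm, Multiset.sum_replicate, hτ] at e2
    have : (n + 1) * p = (m + 1) * p := by
      simp only [smul_eq_mul] at e1 e2
      rw [e1, e2, h]
    have hnm : n + 1 = m + 1 := Nat.eq_of_mul_eq_mul_right hp.pos this
    rw [hn, hm, hσ, hτ, hnm]
  obtain ⟨u, hu⟩ := isConj_iff.mp h1
  exact ⟨u, hu⟩

/-- an element of odd prime-power order is even -/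
theorem sign_eq_one_of_pow {α : Type} [Fintype α] [DecidableEq α] (hp2 : p ≠ 2) {σ : Perm α}
    (h : σ ^ p = 1) : Perm.sign σ = 1 := by
  have hp : p.Prime := Fact.out
  have hodd : Odd p := hp.odd_of_ne_two hp2
  have h1 : Perm.sign σ ^ p = 1 := by rw [← map_pow, h, map_one]
  rcases Int.units_eq_one_or (Perm.sign σ) with h2 | h2
  · exact h2
  · rw [h2, hodd.neg_one_pow] at h1
    exact absurd h1 (by decide)

theorem sign_eq_one_of_orderOf {α : Type} [Fintype α] [DecidableEq α] (hp2 : p ≠ 2) {σ : Perm α}
    {j : ℕ} (h : orderOf σ = p ^ j) : Perm.sign σ = 1 := by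
  have hp : p.Prime := Fact.out
  have hodd : Odd (p ^ j) := (hp.odd_of_ne_two hp2).pow
  have h1 : Perm.sign σ ^ (p ^ j) = 1 := by rw [← map_pow, ← h, pow_orderOf_eq_one, map_one]
  rcases Int.units_eq_one_or (Perm.sign σ) with h2 | h2
  · exact h2
  · rw [h2, hodd.neg_one_pow] at h1
    exact absurd h1 (by decide)

/-- improving a conjugator to an even one -/
theorem exists_even_conj {α : Type} [Fintype α] [DecidableEq α] {σ τ u ν : Perm α}
    (hu : u * σ * u⁻¹ = τ) (hν : ν * σ = σ * ν) (hodd : Perm.sign ν = -1) :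
    ∃ u' : Perm α, Perm.sign u' = 1 ∧ u' * σ * u'⁻¹ = τ := by
  rcases Int.units_eq_one_or (Perm.sign u) with h | h
  · exact ⟨u, h, hu⟩
  · refine ⟨u * ν, by rw [map_mul, h, hodd]; rfl, ?_⟩
    rw [← hu, mul_inv_rev]
    have : u * ν * σ * (ν⁻¹ * u⁻¹) = u * (ν * σ * ν⁻¹) * u⁻¹ := by group
    rw [this, hν]
    group

end Cfsg.Agent.H9AF
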