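import Mathlib
import Cfsg.Agent.Lib.Helper9.AltFus3

set_option autoImplicit false

/-!
# Strongly closed subgroups of Sylow subgroups of symmetric groups: the wreath step
-/

namespace Cfsg.Agent.H9AF

open Equiv

variable {p : ℕ} [Fact p.Prime] {B C : Type}

/-- closed under conjugation by even permutations, inside `P` -/
def ClosedAlt {α : Type} [Fintype α] [DecidableEq α] (T P : Subgroup (Perm α)) : Prop :=
  ∀ t ∈ T, ∀ g : Perm α, Perm.sign g = 1 → g * t * g⁻¹ ∈ P → g * t * g⁻¹ ∈ T

/-- a `p`-cycle: order `p` and exactly `p` moved points -/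
def IsPCyc (p : ℕ) {α : Type} [Fintype α] [DecidableEq α] (σ : Perm α) : Prop :=
  orderOf σ = p ∧ σ.support.card = p

/-- a Sylow subgroup of the symmetric group has no proper subgroup closed under even conjugation
and containing a `p`-cycle -/
def SCprop (p : ℕ) (α : Type) [Fintype α] [DecidableEq α] : Prop :=
  ∀ P T : Subgroup (Perm α), IsSyl p P → T ≤ P → ClosedAlt T P → (∃ c ∈ T, IsPCyc p c) → P ≤ T

variable [Fintype B] [DecidableEq B] [Fintype C] [DecidableEq C]

theorem isPCyc_ef_single (b : B) {s : ZMod p} (hs : s ≠ 0) :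
    IsPCyc p (ef C (Multiplicative.ofAdd (Pi.single b s))) := by
  refine ⟨orderOf_ef ?_, ?_⟩
  · intro h
    have := congrFun h b
    simp at this
    exact hs this
  · rw [card_support_ef]
    have : (Finset.univ.filter (fun b' => (Pi.single b s : B → ZMod p) b' ≠ 0)) = {b} := by
      ext b'
      simp only [Finset.mem_filter, Finset.mem_univ, true_and, Finset.mem_singleton]
      constructor
      · intro h
        by_contra hne
        apply h
        rw [Pi.single_apply, if_neg hne]
      · rintro rfl
        simpa using hs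
    rw [this, Finset.card_singleton, mul_one]

/-- a `p`-cycle in the wreath product lies in the base group and is supported on one block -/
theorem exists_single_of_isPCyc {Q : Subgroup (Perm B)} {c : Perm (Om p B C)} (hc : c ∈ wr p C Q)
    (hcyc : IsPCyc p c) : ∃ (b : B) (s : ZMod p), s ≠ 0 ∧ c = ef C (Multiplicative.ofAdd (Pi.single b s)) := by
  obtain ⟨f, q, -, rfl⟩ := hc
  have hq : q = 1 := eq_ef_of_card_support hcyc.2
  subst hq
  have h1 : (mk f 1 : Perm (Om p B C)) = ef C (Multiplicative.ofAdd f) := rfl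
  have h2 := hcyc.2
  rw [h1, card_support_ef] at h2
  have hp : 0 < p := (Fact.out : p.Prime).pos
  have h3 : (Finset.univ.filter (fun b => f b ≠ 0)).card = 1 := by
    have : p * (Finset.univ.filter (fun b => f b ≠ 0)).card = p * 1 := by rw [h2, mul_one]
    exact Nat.eq_of_mul_eq_mul_left hp this
  obtain ⟨b, hb⟩ := Finset.card_eq_one.mp h3
  refine ⟨b, f b, ?_, ?_⟩
  · have : b ∈ Finset.univ.filter (fun b => f b ≠ 0) := by rw [hb]; exact Finset.mem_singleton_self b
    exact (Finset.mem_filter.mp this).2
  · rw [h1]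
    congr 2
    funext b'
    by_cases hbb : b' = b
    · subst hbb; simp
    · rw [Pi.single_eq_of_ne hbb]
      by_contra hne
      have : b' ∈ Finset.univ.filter (fun b => f b ≠ 0) := by simp [hne]
      rw [hb] at this
      exact hbb (Finset.mem_singleton.mp this)

theorem ef_single_pow (b : B) (s : ZMod p) (k : ℕ) :
    (ef C (Multiplicative.ofAdd (Pi.single b s))) ^ k =
      ef C (Multiplicative.ofAdd (Pi.single b ((k : ZMod p) * s))) := by
  rw [← map_pow, ← ofAdd_nsmul]
  congr 2
  funext b'
  by_cases hbb : b' = b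
  · subst hbb; simp
  · simp [Pi.single_eq_of_ne hbb]

theorem hat_swap_conj_ef_single (b b₀ : B) (s : ZMod p) :
    hat p C (swap b b₀) * ef C (Multiplicative.ofAdd (Pi.single b₀ s)) * (hat p C (swap b b₀))⁻¹ =
      ef C (Multiplicative.ofAdd (Pi.single b s)) := by
  rw [hat_conj_ef]
  congr 2
  funext b'
  rw [swap_inv]
  by_cases h1 : b' = b
  · subst h1; simp
  · by_cases h2 : b' = b₀
    · subst h2
      rw [swap_apply_right, Pi.single_eq_of_ne h1, Pi.single_eq_of_ne]
      exact fun h => h1 h.symm
    · rw [swap_apply_of_ne_of_ne h1 h2, Pi.single_eq_of_ne h1, Pi.single_eq_of_ne h2]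

/-- the base group lies in a closed subgroup containing a `p`-cycle -/
theorem ef_mem_of_closed {Q : Subgroup (Perm B)} {T : Subgroup (Perm (Om p B C))}
    (hcl : ClosedAlt T (wr p C Q)) {c : Perm (Om p B C)} (hcT : c ∈ T) (hcW : c ∈ wr p C Q)
    (hc : IsPCyc p c) (f : B → ZMod p) : ef C (Multiplicative.ofAdd f) ∈ T := by
  have hp : p.Prime := Fact.out
  obtain ⟨b₀, s₀, hs₀, rfl⟩ := exists_single_of_isPCyc hcW hc
  -- all powers
  have h2 : ∀ s : ZMod p, ef C (Multiplicative.ofAdd (Pi.single b₀ s)) ∈ T := by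
    intro s
    have := T.pow_mem hcT (s * s₀⁻¹).val
    rw [ef_single_pow, ZMod.natCast_zmod_val, mul_assoc, inv_mul_cancel₀ hs₀, mul_one] at this
    exact this
  have h3 : ∀ (b : B) (s : ZMod p), ef C (Multiplicative.ofAdd (Pi.single b s)) ∈ T := by
    intro b s
    by_cases hb : b = b₀
    · subst hb; exact h2 s
    have hconj := hat_swap_conj_ef_single (C := C) b b₀ s
    have hev : ∃ u' : Perm (Om p B C), Perm.sign u' = 1 ∧
        u' * ef C (Multiplicative.ofAdd (Pi.single b₀ s)) * u'⁻¹ =
          ef C (Multiplicative.ofAdd (Pi.single b s)) := by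
      by_cases hp2 : p = 2
      · refine ⟨_, ?_, hconj⟩
        rw [sign_hat, hp2]
        rcases Int.units_eq_one_or (Perm.sign (swap b b₀)) with h | h <;> rw [h] <;> rfl
      · have h01 : (0 : ZMod p) ≠ 1 := zero_ne_one
        refine exists_even_conj (ν := swap (Sum.inl (b, 0)) (Sum.inl (b, 1))) hconj ?_ ?_
        · rw [Equiv.mul_swap_eq_swap_mul]
          have e1 : ef C (Multiplicative.ofAdd (Pi.single b₀ s)) (Sum.inl (b, 0)) = Sum.inl (b, 0) := by
            simp [Pi.single_eq_of_ne hb]
          have e2 : ef C (Multiplicative.ofAdd (Pi.single b₀ s)) (Sum.inl (b, 1)) = Sum.inl (b, 1) := by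
            simp [Pi.single_eq_of_ne hb]
          rw [e1, e2]
        · apply Perm.sign_swap
          intro h
          simp only [Sum.inl.injEq, Prod.mk.injEq, true_and] at h
          exact h01 h
    obtain ⟨u', hu', hu'c⟩ := hev
    rw [← hu'c]
    apply hcl _ (h2 s) u' hu'
    rw [hu'c]
    exact ef_mem_wr _ _
  have h4 : f = ∑ b, Pi.single b (f b) := (Finset.univ_sum_single f).symm
  have h5 : ∀ S : Finset B, ef C (Multiplicative.ofAdd (∑ b ∈ S, Pi.single b (f b))) ∈ T := by
    intro S
    induction S using Finset.induction_on with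
    | empty => simp
    | insert a S ha ih =>
      rw [Finset.sum_insert ha, ofAdd_add, map_mul]
      exact T.mul_mem (h3 a (f a)) ih
  rw [h4]
  exact h5 Finset.univ

end Cfsg.Agent.H9AF
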