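import Mathlib
import Cfsg.Agent.Lib.Helper9.AltFus4

set_option autoImplicit false

/-!
# Strongly closed subgroups of Sylow subgroups of symmetric groups: the wreath step, continued
-/

namespace Cfsg.Agent.H9AF

open Equiv

variable {p : ℕ} [Fact p.Prime] {B C : Type}

/-- there is a `p`-cycle on any set with at least `p` points -/
theorem exists_isPCyc {α : Type} [Fintype α] [DecidableEq α] (h : p ≤ Fintype.card α) :
    ∃ τ : Perm α, IsPCyc p τ := by
  have hp : p.Prime := Fact.out
  obtain ⟨s, -, hs⟩ := Finset.exists_subset_card_eq (s := (Finset.univ : Finset α)) (n := p)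
    (by rw [Finset.card_univ]; exact h)
  have hnd : s.toList.Nodup := s.nodup_toList
  have hlen : s.toList.length = p := by rw [Finset.length_toList, hs]
  have hcyc : (s.toList.formPerm).IsCycle :=
    List.isCycle_formPerm hnd (by rw [hlen]; exact hp.two_le)
  have hsupp : (s.toList.formPerm).support = s := by
    rw [List.support_formPerm_of_nodup _ hnd, Finset.toList_toFinset]
    intro x hx
    have := congrArg List.length hx
    rw [hlen] at this
    simp at this
    exact hp.one_lt.ne' this
  refine ⟨s.toList.formPerm, ?_, ?_⟩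
  · rw [hcyc.orderOf, hsupp, hs]
  · rw [hsupp, hs]

theorem IsPCyc.conj {α : Type} [Fintype α] [DecidableEq α] {σ : Perm α} (h : IsPCyc p σ)
    (g : Perm α) : IsPCyc p (g * σ * g⁻¹) := by
  refine ⟨?_, ?_⟩
  · have : g * σ * g⁻¹ = MulAut.conj g σ := rfl
    rw [this, MulEquiv.orderOf_eq]; exact h.1
  · rw [Perm.card_support_conj]; exact h.2

/-- a Sylow subgroup of a symmetric group of degree at least `p` contains a `p`-cycle -/
theorem IsSyl.exists_isPCyc {α : Type} [Fintype α] [DecidableEq α] {P : Subgroup (Perm α)}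
    (hP : IsSyl p P) (h : p ≤ Fintype.card α) : ∃ τ ∈ P, IsPCyc p τ := by
  obtain ⟨τ₀, hτ₀⟩ := H9AF.exists_isPCyc (p := p) h
  have hH : IsPGroup p (Subgroup.zpowers τ₀) := by
    apply IsPGroup.of_card (n := 1)
    rw [Nat.card_zpowers, hτ₀.1, pow_one]
  obtain ⟨g, hg⟩ := hP.exists_conj_le hH
  refine ⟨g⁻¹ * τ₀ * g, hg τ₀ (Subgroup.mem_zpowers τ₀), ?_⟩
  have := hτ₀.conj g⁻¹
  rwa [inv_inv] at this

/-- a Sylow subgroup of a symmetric group of degree less than `p` is trivial -/
theorem IsSyl.eq_one {α : Type} [Fintype α] [DecidableEq α] {P : Subgroup (Perm α)}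
    (hP : IsSyl p P) (h : Fintype.card α < p) {q : Perm α} (hq : q ∈ P) : q = 1 := by
  have hp : p.Prime := Fact.out
  unfold IsSyl at hP
  have h0 : (Nat.card (Perm α)).factorization p = 0 := by
    rw [Nat.card_perm, Nat.card_eq_fintype_card]
    apply Nat.factorization_eq_zero_of_not_dvd
    rw [hp.dvd_factorial]; omega
  rw [h0, pow_zero] at hP
  have := (Subgroup.card_eq_one.mp hP)
  rw [this] at hq
  exact Subgroup.mem_bot.mp hq

variable [Fintype B] [DecidableEq B] [Fintype C] [DecidableEq C]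

theorem sign_ef_single_two (hp2 : p = 2) (b : B) :
    Perm.sign (ef C (Multiplicative.ofAdd (Pi.single b (1 : ZMod p)))) = -1 := by
  have h := (isPCyc_ef_single (C := C) b (one_ne_zero : (1 : ZMod p) ≠ 0)).2
  have h2 : (ef C (Multiplicative.ofAdd (Pi.single b (1 : ZMod p)))).support.card = 2 :=
    h.trans hp2
  exact (Perm.card_support_eq_two.mp h2).sign_eq

/-- the wreath step -/
theorem closed_wr (hC : Fintype.card C < p) (P₂ : Subgroup (Perm B)) (hP₂ : IsSyl p P₂)
    (IH : SCprop p B) (T : Subgroup (Perm (Om p B C))) (hTP : T ≤ wr p C P₂)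
    (hcl : ClosedAlt T (wr p C P₂)) (c : Perm (Om p B C)) (hcT : c ∈ T) (hc : IsPCyc p c) :
    wr p C P₂ ≤ T := by
  have hp : p.Prime := Fact.out
  have hE : ∀ f : B → ZMod p, ef C (Multiplicative.ofAdd f) ∈ T :=
    ef_mem_of_closed hcl hcT (hTP hcT) hc
  -- it suffices to treat block permutations
  suffices h : ∀ q ∈ P₂, hat p C q ∈ T by
    rintro _ ⟨f, q, hq, rfl⟩
    rw [mk_eq]
    exact T.mul_mem (h q hq) (hE f)
  by_cases hB : Fintype.card B < p
  · intro q hq
    rw [hP₂.eq_one hB hq, map_one]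
    exact T.one_mem
  rw [not_lt] at hB
  obtain ⟨τ, hτP, hτ⟩ := hP₂.exists_isPCyc hB
  -- `hat τ` is in `T`
  have hτT : hat p C τ ∈ T := by
    have hS : τ.support.card = p := hτ.2
    obtain ⟨f₁, hf₁⟩ : ∃ f₁ : B → ZMod p, f₁ = fun b => if b ∈ τ.support then 1 else 0 := ⟨_, rfl⟩
    have hfilt : (Finset.univ.filter (fun b => f₁ b ≠ 0)) = τ.support := by
      ext b
      rw [hf₁]
      simp only [Finset.mem_filter, Finset.mem_univ, true_and]
      by_cases hb : b ∈ τ.support
      · simp only [if_pos hb]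
        exact ⟨fun _ => hb, fun _ => one_ne_zero⟩
      · simp only [if_neg hb]
        exact ⟨fun h => absurd rfl h, fun h => absurd h hb⟩
    have hne : τ.support.Nonempty := by
      rw [← Finset.card_pos, hS]; exact hp.pos
    have hf₁0 : f₁ ≠ 0 := by
      obtain ⟨b, hb⟩ := hne
      intro h
      have := congrFun h b
      rw [hf₁] at this
      simp only [if_pos hb, Pi.zero_apply] at this
      exact one_ne_zero this
    have ho1 : orderOf (ef C (Multiplicative.ofAdd f₁)) = p := orderOf_ef hf₁0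
    have ho2 : orderOf (hat p C τ) = p := by rw [orderOf_hat]; exact hτ.1
    have hcard : (ef C (Multiplicative.ofAdd f₁)).support.card = (hat p C τ).support.card := by
      rw [card_support_ef, card_support_hat, hfilt]
    obtain ⟨u, hu⟩ := exists_conj_of_prime_order ho1 ho2 hcard
    -- an odd permutation commuting with the element of the base group
    obtain ⟨ν, hν1, hν2⟩ : ∃ ν : Perm (Om p B C), ν * ef C (Multiplicative.ofAdd f₁) =
        ef C (Multiplicative.ofAdd f₁) * ν ∧ Perm.sign ν = -1 := by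
      by_cases hp2 : p = 2
      · obtain ⟨b, -⟩ := hne
        refine ⟨ef C (Multiplicative.ofAdd (Pi.single b (1 : ZMod p))), ?_, sign_ef_single_two hp2 b⟩
        rw [← (ef C).map_mul, ← (ef C).map_mul, mul_comm]
      · have h2 : 1 < τ.support.card := by rw [hS]; exact hp.one_lt
        obtain ⟨b, hb, b', hb', hbb⟩ := Finset.one_lt_card.mp h2
        refine ⟨hat p C (swap b b'), ?_, ?_⟩
        · have h3 := hat_conj_ef (C := C) (swap b b') f₁
          have h4 : (fun b'' => f₁ ((swap b b')⁻¹ b'')) = f₁ := by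
            funext b''
            rw [swap_inv, hf₁]
            beta_reduce
            by_cases h5 : b'' = b
            · subst h5; rw [swap_apply_left, if_pos hb, if_pos hb']
            · by_cases h6 : b'' = b'
              · subst h6; rw [swap_apply_right, if_pos hb, if_pos hb']
              · rw [swap_apply_of_ne_of_ne h5 h6]
          rw [h4] at h3
          rw [mul_inv_eq_iff_eq_mul] at h3
          exact h3
        · rw [sign_hat, Perm.sign_swap hbb]
          exact (hp.odd_of_ne_two hp2).neg_one_pow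
    obtain ⟨u', hu'1, hu'2⟩ := exists_even_conj hu hν1 hν2
    rw [← hu'2]
    apply hcl _ (hE f₁) u' hu'1
    rw [hu'2]
    exact hat_mem_wr.mpr hτP
  -- the subgroup of block permutations in `T`
  obtain ⟨T₂, hT₂⟩ : ∃ T₂ : Subgroup (Perm B), T₂ = (T.comap (hat p C)) ⊓ P₂ := ⟨_, rfl⟩
  have hmem : ∀ q : Perm B, q ∈ T₂ ↔ hat p C q ∈ T ∧ q ∈ P₂ := by
    intro q; rw [hT₂, Subgroup.mem_inf, Subgroup.mem_comap]
  have h1 : P₂ ≤ T₂ := by
    apply IH P₂ T₂ hP₂
    · intro q hq; exact ((hmem q).mp hq).2
    · intro t ht g hg hgP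
      rw [hmem]
      refine ⟨?_, hgP⟩
      rw [map_mul, map_mul, map_inv]
      apply hcl _ ((hmem t).mp ht).1
      · rw [sign_hat, hg, one_pow]
      · rw [← map_inv, ← map_mul, ← map_mul]
        exact hat_mem_wr.mpr hgP
    · exact ⟨τ, (hmem τ).mpr ⟨hτT, hτP⟩, hτ⟩
  intro q hq
  exact ((hmem q).mp (h1 hq)).1

end Cfsg.Agent.H9AF
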