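import Mathlib
import Cfsg.Agent.Lib.Helper9.AltFus5

set_option autoImplicit false

/-!
# The base group: centraliser, and control of the normaliser of a wreath product
-/

namespace Cfsg.Agent.H9AF

open Equiv

variable {p : ℕ} [Fact p.Prime] {B C : Type}

variable (p B C) in
/-- the base group `C_p^B` -/
def Ebase : Subgroup (Perm (Om p B C)) := (ef C : Multiplicative (B → ZMod p) →* _).range

theorem mem_Ebase {σ : Perm (Om p B C)} :
    σ ∈ Ebase p B C ↔ ∃ f : B → ZMod p, σ = ef C (Multiplicative.ofAdd f) := by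
  constructor
  · rintro ⟨f, rfl⟩; exact ⟨Multiplicative.toAdd f, rfl⟩
  · rintro ⟨f, rfl⟩; exact ⟨_, rfl⟩

theorem ef_mem_Ebase (f : Multiplicative (B → ZMod p)) : ef C f ∈ Ebase p B C := ⟨f, rfl⟩

theorem Ebase_le_wr (Q : Subgroup (Perm B)) : Ebase p B C ≤ wr p C Q := by
  rintro _ ⟨f, rfl⟩; exact ef_mem_wr Q f

/-- the difference of two basis vectors -/
def dip (C : Type) [DecidableEq B] (b b' : B) : Perm (Om p B C) :=
  ef C (Multiplicative.ofAdd (Pi.single b 1 - Pi.single b' 1))

theorem dip_inl [DecidableEq B] (b b' b'' : B) (x : ZMod p) :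
    (dip C b b' : Perm (Om p B C)) (Sum.inl (b'', x)) =
      Sum.inl (b'', x + ((Pi.single b 1 : B → ZMod p) b'' - (Pi.single b' 1 : B → ZMod p) b'')) := rfl

theorem dip_inr [DecidableEq B] (b b' : B) (c : C) :
    (dip C b b' : Perm (Om p B C)) (Sum.inr c) = Sum.inr c := rfl

section
variable [Fintype B] [DecidableEq B]

theorem exists_ne_ne (hB : 3 ≤ Fintype.card B) (b b₁ : B) : ∃ b₂ : B, b₂ ≠ b ∧ b₂ ≠ b₁ := by
  by_contra h
  push Not at h
  have h1 : (Finset.univ : Finset B) ⊆ {b, b₁} := by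
    intro x _
    by_cases hx : x = b
    · simp [hx]
    · simp [h x hx]
  have h2 := Finset.card_le_card h1
  have h3 : ({b, b₁} : Finset B).card ≤ 2 := Finset.card_le_two
  rw [Finset.card_univ] at h2
  omega

theorem dip_pow (b b' : B) (k : ℕ) :
    (dip C b b' : Perm (Om p B C)) ^ k =
      ef C (Multiplicative.ofAdd ((k : ZMod p) • (Pi.single b 1 - Pi.single b' 1))) := by
  unfold dip
  rw [← map_pow, ← ofAdd_nsmul]
  congr 2
  funext b''
  simp

/-- a permutation centralising all dipoles lies in the base group -/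
theorem mem_Ebase_of_commute [Subsingleton C] (hB : 3 ≤ Fintype.card B) (σ : Perm (Om p B C))
    (h : ∀ b b' : B, b ≠ b' → σ * dip C b b' = dip C b b' * σ) : σ ∈ Ebase p B C := by
  have hap : ∀ (b b' : B), b ≠ b' → ∀ x, σ (dip C b b' x) = dip C b b' (σ x) := by
    intro b b' hbb x
    have := congrArg (fun τ : Perm (Om p B C) => τ x) (h b b' hbb)
    simpa [Perm.mul_apply] using this
  have hap' : ∀ (b b' : B), b ≠ b' → ∀ (k : ℕ) x, σ ((dip C b b' ^ k) x) = (dip C b b' ^ k) (σ x) := by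
    intro b b' hbb k x
    have h1 : Commute σ (dip C b b' ^ k) := Commute.pow_right (h b b' hbb) k
    have := congrArg (fun τ : Perm (Om p B C) => τ x) h1.eq
    simpa [Perm.mul_apply] using this
  -- step 1
  have h1 : ∀ b : B, ∃ t : ZMod p, σ (Sum.inl (b, 0)) = Sum.inl (b, t) := by
    intro b
    rcases hQ : σ (Sum.inl (b, 0)) with ⟨b₁, x₁⟩ | c
    · by_cases hb : b₁ = b
      · subst hb; exact ⟨x₁, rfl⟩
      · exfalso
        obtain ⟨b₂, hb₂, hb₂'⟩ := exists_ne_ne hB b b₁
        have e1 := hap b₁ b₂ (Ne.symm hb₂') (Sum.inl (b, 0))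
        have e2 : (dip C b₁ b₂ : Perm (Om p B C)) (Sum.inl (b, 0)) = Sum.inl (b, 0) := by
          rw [dip_inl, Pi.single_apply, Pi.single_apply, if_neg (Ne.symm hb), if_neg (Ne.symm hb₂)]
          simp
        rw [e2, hQ, dip_inl, Pi.single_apply, Pi.single_apply, if_pos rfl, if_neg (Ne.symm hb₂')] at e1
        simp at e1
    · exfalso
      obtain ⟨b', hb', -⟩ := exists_ne_ne hB b b
      have e1 := hap b b' (Ne.symm hb') (Sum.inl (b, 0))
      rw [hQ] at e1
      have e2 : (dip C b b' : Perm (Om p B C)) (Sum.inl (b, 0)) = Sum.inl (b, 1) := by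
        rw [dip_inl, Pi.single_apply, Pi.single_apply, if_pos rfl, if_neg (Ne.symm hb')]
        simp
      have e3 : (dip C b b' : Perm (Om p B C)) (Sum.inr c) = Sum.inr c := rfl
      rw [e2, e3, ← hQ] at e1
      have := σ.injective e1
      simp at this
  choose t ht using h1
  have h2 : ∀ (b : B) (x : ZMod p), σ (Sum.inl (b, x)) = Sum.inl (b, x + t b) := by
    intro b x
    obtain ⟨b', hb', -⟩ := exists_ne_ne hB b b
    have e1 := hap' b b' (Ne.symm hb') x.val (Sum.inl (b, 0))
    rw [dip_pow, ht] at e1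
    simp only [ZMod.natCast_val, ZMod.cast_id', id_eq, smul_eq_mul, ef_inl, zero_add, Pi.smul_apply,
      Pi.sub_apply, Pi.single_eq_same, mul_one, Pi.single_eq_of_ne hb'.symm, sub_zero, mul_zero] at e1
    rw [e1, add_comm]
  refine mem_Ebase.mpr ⟨t, ?_⟩
  ext y
  rcases y with ⟨b, x⟩ | c
  · rw [h2]; simp
  · rcases hQ : σ (Sum.inr c) with ⟨b, x⟩ | c'
    · exfalso
      have := h2 b (x - t b)
      rw [sub_add_cancel, ← hQ] at this
      have := σ.injective this
      simp at this
    · simp [Subsingleton.elim c' c]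

end

/-- conjugation by the normaliser of a wreath product preserves the base group -/
theorem conj_mem_Ebase [Fintype B] [DecidableEq B] [Fintype C] [DecidableEq C]
    {Q : Subgroup (Perm B)} {g : Perm (Om p B C)}
    (hg : ∀ x ∈ wr p C Q, g * x * g⁻¹ ∈ wr p C Q) (f : B → ZMod p) :
    g * ef C (Multiplicative.ofAdd f) * g⁻¹ ∈ Ebase p B C := by
  have h3 : ∀ (b : B) (s : ZMod p), g * ef C (Multiplicative.ofAdd (Pi.single b s)) * g⁻¹ ∈ Ebase p B C := by
    intro b s
    by_cases hs : s = 0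
    · subst hs
      have : (Pi.single b (0 : ZMod p) : B → ZMod p) = 0 := Pi.single_zero b
      rw [this, ofAdd_zero, map_one, mul_one, mul_inv_cancel]
      exact Subgroup.one_mem _
    have h1 := (isPCyc_ef_single (C := C) b hs).conj g
    obtain ⟨b', s', -, h2⟩ := exists_single_of_isPCyc (hg _ (ef_mem_wr Q _)) h1
    rw [h2]; exact ef_mem_Ebase _
  have h4 : f = ∑ b, Pi.single b (f b) := (Finset.univ_sum_single f).symm
  have h5 : ∀ S : Finset B, g * ef C (Multiplicative.ofAdd (∑ b ∈ S, Pi.single b (f b))) * g⁻¹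
      ∈ Ebase p B C := by
    intro S
    induction S using Finset.induction_on with
    | empty => simp [Subgroup.one_mem]
    | insert a S ha ih =>
      rw [Finset.sum_insert ha, ofAdd_add, map_mul]
      have := Subgroup.mul_mem _ (h3 a (f a)) ih
      convert this using 1
      group
  rw [h4]
  exact h5 Finset.univ

theorem normalizer_wr_le [Fintype B] [DecidableEq B] [Fintype C] [DecidableEq C]
    {Q : Subgroup (Perm B)} {g : Perm (Om p B C)}
    (hg : g ∈ Subgroup.normalizer ((wr p C Q : Subgroup _) : Set (Perm (Om p B C)))) :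
    g ∈ Subgroup.normalizer ((Ebase p B C : Subgroup _) : Set (Perm (Om p B C))) := by
  rw [Subgroup.mem_normalizer_iff] at hg ⊢
  have h1 : ∀ x ∈ wr p C Q, g * x * g⁻¹ ∈ wr p C Q := fun x hx => (hg x).mp hx
  have h2 : ∀ x ∈ wr p C Q, g⁻¹ * x * g⁻¹⁻¹ ∈ wr p C Q := by
    intro x hx
    rw [hg]
    have : g * (g⁻¹ * x * g⁻¹⁻¹) * g⁻¹ = x := by group
    rw [this]; exact hx
  intro x
  constructor
  · rintro ⟨f, rfl⟩
    exact conj_mem_Ebase h1 _
  · intro hx
    obtain ⟨f, hf⟩ := mem_Ebase.mp hx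
    have := conj_mem_Ebase h2 f
    rw [← hf] at this
    have e : g⁻¹ * (g * x * g⁻¹) * g⁻¹⁻¹ = x := by group
    rwa [e] at this

end Cfsg.Agent.H9AF
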