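import Mathlib
import Cfsg.Agent.Lib.Helper9.AltFus7

set_option autoImplicit false

/-!
# The normaliser of the base group: monomial affine normal form
-/

namespace Cfsg.Agent.H9AF

open Equiv

variable {p : ℕ} [Fact p.Prime] {B C : Type}

variable (C) in
/-- diagonal multiplications `(b, x) ↦ (b, a b * x)` -/
def Dg : (B → (ZMod p)ˣ) →* Perm (Om p B C) where
  toFun a := Equiv.sumCongr (Equiv.prodCongrRight fun b => Units.mulLeft (a b)) (Equiv.refl C)
  map_one' := by
    ext x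
    rcases x with ⟨b, x⟩ | c <;> simp
  map_mul' a a' := by
    ext x
    rcases x with ⟨b, x⟩ | c <;> simp [mul_assoc]

@[simp] theorem Dg_inl (a : B → (ZMod p)ˣ) (b : B) (x : ZMod p) :
    Dg C a (Sum.inl (b, x)) = Sum.inl (b, (a b : ZMod p) * x) := rfl

@[simp] theorem Dg_inr (a : B → (ZMod p)ˣ) (c : C) : Dg C a (Sum.inr c) = Sum.inr c := rfl

theorem Dg_conj_ef (a : B → (ZMod p)ˣ) (f : B → ZMod p) :
    Dg C a * ef C (Multiplicative.ofAdd f) * (Dg C a)⁻¹ =
      ef C (Multiplicative.ofAdd (fun b => (a b : ZMod p) * f b)) := by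
  rw [mul_inv_eq_iff_eq_mul]
  ext x
  rcases x with ⟨b, x⟩ | c <;> simp [Perm.mul_apply, mul_add]

theorem hat_conj_Dg (π : Perm B) (a : B → (ZMod p)ˣ) :
    hat p C π * Dg C a * (hat p C π)⁻¹ = Dg C (fun b => a (π⁻¹ b)) := by
  rw [mul_inv_eq_iff_eq_mul]
  ext x
  rcases x with ⟨b, x⟩ | c <;> simp [Perm.mul_apply]

theorem ef_pow (f : B → ZMod p) (k : ℕ) :
    (ef C (Multiplicative.ofAdd f)) ^ k =
      ef C (Multiplicative.ofAdd (fun b => (k : ZMod p) * f b)) := by
  rw [← map_pow, ← ofAdd_nsmul]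
  congr 2
  funext b
  simp

/-- the general element of the normaliser of the base group -/
def gen (C : Type) (a : B → (ZMod p)ˣ) (t : B → ZMod p) (π : Perm B) : Perm (Om p B C) :=
  hat p C π * ef C (Multiplicative.ofAdd t) * Dg C a

@[simp] theorem gen_inl (a : B → (ZMod p)ˣ) (t : B → ZMod p) (π : Perm B) (b : B) (x : ZMod p) :
    gen C a t π (Sum.inl (b, x)) = Sum.inl (π b, (a b : ZMod p) * x + t b) := by
  simp [gen, Perm.mul_apply]

@[simp] theorem gen_inr (a : B → (ZMod p)ˣ) (t : B → ZMod p) (π : Perm B) (c : C) :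
    gen C a t π (Sum.inr c) = Sum.inr c := by
  simp [gen, Perm.mul_apply]

theorem gen_mul (a a' : B → (ZMod p)ˣ) (t t' : B → ZMod p) (π π' : Perm B) :
    gen C a t π * gen C a' t' π' =
      gen C (fun b => a (π' b) * a' b) (fun b => (a (π' b) : ZMod p) * t' b + t (π' b)) (π * π') := by
  ext x
  rcases x with ⟨b, x⟩ | c
  · simp [Perm.mul_apply, mul_add, mul_assoc, add_assoc]
  · simp [Perm.mul_apply]

theorem ef_mem_normalizer_Ebase (f : Multiplicative (B → ZMod p)) :
    ef C f ∈ Subgroup.normalizer ((Ebase p B C : Subgroup _) : Set (Perm (Om p B C))) :=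
  Subgroup.le_normalizer (ef_mem_Ebase f)

theorem hat_mem_normalizer_Ebase (π : Perm B) :
    hat p C π ∈ Subgroup.normalizer ((Ebase p B C : Subgroup _) : Set (Perm (Om p B C))) := by
  rw [Subgroup.mem_normalizer_iff]
  intro x
  constructor
  · rintro ⟨f, rfl⟩
    have := hat_conj_ef (C := C) π (Multiplicative.toAdd f)
    rw [ofAdd_toAdd] at this
    rw [this]; exact ef_mem_Ebase _
  · intro hx
    obtain ⟨f, hf⟩ := mem_Ebase.mp hx
    have h1 := hat_conj_ef (C := C) π⁻¹ f
    rw [← hf, map_inv] at h1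
    have e : (hat p C π)⁻¹ * (hat p C π * x * (hat p C π)⁻¹) * (hat p C π)⁻¹⁻¹ = x := by group
    rw [e] at h1
    rw [h1]; exact ef_mem_Ebase _

theorem Dg_mem_normalizer_Ebase (a : B → (ZMod p)ˣ) :
    Dg C a ∈ Subgroup.normalizer ((Ebase p B C : Subgroup _) : Set (Perm (Om p B C))) := by
  rw [Subgroup.mem_normalizer_iff]
  intro x
  constructor
  · rintro ⟨f, rfl⟩
    have := Dg_conj_ef (C := C) a (Multiplicative.toAdd f)
    rw [ofAdd_toAdd] at this
    rw [this]; exact ef_mem_Ebase _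
  · intro hx
    obtain ⟨f, hf⟩ := mem_Ebase.mp hx
    have h1 := Dg_conj_ef (C := C) a⁻¹ f
    rw [← hf, map_inv] at h1
    have e : (Dg C a)⁻¹ * (Dg C a * x * (Dg C a)⁻¹) * (Dg C a)⁻¹⁻¹ = x := by group
    rw [e] at h1
    rw [h1]; exact ef_mem_Ebase _

theorem gen_mem_normalizer_Ebase (a : B → (ZMod p)ˣ) (t : B → ZMod p) (π : Perm B) :
    gen C a t π ∈ Subgroup.normalizer ((Ebase p B C : Subgroup _) : Set (Perm (Om p B C))) :=
  Subgroup.mul_mem _ (Subgroup.mul_mem _ (hat_mem_normalizer_Ebase π) (ef_mem_normalizer_Ebase _))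
    (Dg_mem_normalizer_Ebase a)

/-- normal form of an element normalising the base group -/
theorem exists_gen_of_mem_normalizer [Finite B] [DecidableEq B] [Subsingleton C]
    {g : Perm (Om p B C)}
    (hg : g ∈ Subgroup.normalizer ((Ebase p B C : Subgroup _) : Set (Perm (Om p B C)))) :
    ∃ (a : B → (ZMod p)ˣ) (t : B → ZMod p) (π : Perm B), g = gen C a t π := by
  rw [Subgroup.mem_normalizer_iff] at hg
  have hg' : ∀ f : B → ZMod p, ∃ f' : B → ZMod p,
      g * ef C (Multiplicative.ofAdd f) * g⁻¹ = ef C (Multiplicative.ofAdd f') := by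
    intro f
    exact mem_Ebase.mp ((hg _).mp (ef_mem_Ebase _))
  -- step A
  have hA : ∀ b : B, ∃ (b' : B) (t : ZMod p), g (Sum.inl (b, 0)) = Sum.inl (b', t) := by
    intro b
    rcases hQ : g (Sum.inl (b, 0)) with ⟨b', t⟩ | c
    · exact ⟨b', t, rfl⟩
    · exfalso
      obtain ⟨f', hf'⟩ := hg' (Pi.single b 1)
      have h1 := congrArg (fun τ : Perm (Om p B C) => τ (Sum.inr c)) hf'
      simp only [Perm.mul_apply, ef_inr] at h1
      rw [← hQ, Perm.coe_inv, Equiv.symm_apply_apply, ef_inl, Pi.single_eq_same, zero_add] at h1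
      have := g.injective h1
      simp at this
  choose π₀ t₀ hπt using hA
  -- step B
  have hB : ∀ b : B, ∃ a : ZMod p, ∀ s : ZMod p,
      g (Sum.inl (b, s)) = Sum.inl (π₀ b, a * s + t₀ b) := by
    intro b
    obtain ⟨f', hf'⟩ := hg' (Pi.single b 1)
    refine ⟨f' (π₀ b), fun s => ?_⟩
    have h1 : g * (ef C (Multiplicative.ofAdd (Pi.single b (1 : ZMod p)))) ^ s.val * g⁻¹ =
        (ef C (Multiplicative.ofAdd f')) ^ s.val := by
      rw [← hf', conj_pow]
    rw [ef_pow, ef_pow] at h1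
    have h2 := congrArg (fun τ : Perm (Om p B C) => τ (g (Sum.inl (b, 0)))) h1
    simp only [Perm.mul_apply, Perm.coe_inv, Equiv.symm_apply_apply] at h2
    rw [hπt b] at h2
    simp only [ef_inl, Pi.single_eq_same, ZMod.natCast_val,
      ZMod.cast_id', id_eq, mul_one, zero_add] at h2
    rw [h2, mul_comm, add_comm]
  choose a₀ ha₀ using hB
  have hC : ∀ b, a₀ b ≠ 0 := by
    intro b h
    have h1 := ha₀ b 0
    have h2 := ha₀ b 1
    rw [h, zero_mul] at h1 h2
    have := g.injective (h1.trans h2.symm)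
    simp at this
  have hD : Function.Injective π₀ := by
    intro b b' hbb
    by_contra hne
    have h1 := ha₀ b' ((t₀ b - t₀ b') / a₀ b')
    rw [mul_div_cancel₀ _ (hC b'), sub_add_cancel, ← hbb] at h1
    have h2 := ha₀ b 0
    rw [mul_zero, zero_add] at h2
    have := g.injective (h1.trans h2.symm)
    simp only [Sum.inl.injEq, Prod.mk.injEq] at this
    exact hne this.1.symm
  obtain ⟨π, hπ⟩ : ∃ π : Perm B, ∀ b, π b = π₀ b :=
    ⟨Equiv.ofBijective π₀ (Finite.injective_iff_bijective.mp hD), fun b => rfl⟩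
  refine ⟨fun b => Units.mk0 (a₀ b) (hC b), t₀, π, ?_⟩
  ext y
  rcases y with ⟨b, x⟩ | c
  · rw [gen_inl, ha₀, hπ]; rfl
  · rw [gen_inr]
    rcases hQ : g (Sum.inr c) with ⟨b', x⟩ | c'
    · exfalso
      obtain ⟨b, hb⟩ := π.surjective b'
      have h1 := ha₀ b ((x - t₀ b) / a₀ b)
      rw [mul_div_cancel₀ _ (hC b), sub_add_cancel, ← hπ, hb, ← hQ] at h1
      have := g.injective h1
      simp at this
    · rw [Subsingleton.elim c' c]

end Cfsg.Agent.H9AF
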