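import Mathlib
import Cfsg.Agent.Lib.Helper9.AltFus8

set_option autoImplicit false

/-!
# The product character on the normaliser of the base group, and generation by `p`-elements
-/

namespace Cfsg.Agent.H9AF

open Equiv

variable {p : ℕ} [Fact p.Prime] {B C : Type}

/-- the `ZMod p` coordinate of a point -/
def sndOr (x : Om p B C) : ZMod p := Sum.elim (fun y => y.2) (fun _ => 0) x

/-- the multiplier on the block `b` -/
def coef (g : Perm (Om p B C)) (b : B) : ZMod p :=
  sndOr (g (Sum.inl (b, 1))) - sndOr (g (Sum.inl (b, 0)))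

/-- the product of the multipliers -/
def chi [Fintype B] (g : Perm (Om p B C)) : ZMod p := ∏ b, coef g b

theorem coef_gen (a : B → (ZMod p)ˣ) (t : B → ZMod p) (π : Perm B) (b : B) :
    coef (gen C a t π) b = (a b : ZMod p) := by
  simp [coef, sndOr]

theorem chi_gen [Fintype B] (a : B → (ZMod p)ˣ) (t : B → ZMod p) (π : Perm B) :
    chi (gen C a t π) = ∏ b, (a b : ZMod p) := by
  unfold chi
  exact Finset.prod_congr rfl fun b _ => coef_gen a t π b

theorem chi_mul [Fintype B] [DecidableEq B] [Subsingleton C] {g h : Perm (Om p B C)}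
    (hg : g ∈ Subgroup.normalizer ((Ebase p B C : Subgroup _) : Set (Perm (Om p B C))))
    (hh : h ∈ Subgroup.normalizer ((Ebase p B C : Subgroup _) : Set (Perm (Om p B C)))) :
    chi (g * h) = chi g * chi h := by
  obtain ⟨a, t, π, rfl⟩ := exists_gen_of_mem_normalizer hg
  obtain ⟨a', t', π', rfl⟩ := exists_gen_of_mem_normalizer hh
  rw [gen_mul, chi_gen, chi_gen, chi_gen]
  simp only [Units.val_mul, Finset.prod_mul_distrib]
  congr 1
  exact Equiv.prod_comp π' (fun b => (a b : ZMod p))

theorem chi_one [Fintype B] : chi (1 : Perm (Om p B C)) = 1 := by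
  unfold chi coef sndOr
  simp

/-- the `p`-elements of the alternating group normalising a subgroup -/
def pElts (p : ℕ) {α : Type} [Fintype α] [DecidableEq α] (R : Subgroup (Perm α)) : Set (Perm α) :=
  {k | k ∈ alternatingGroup α ∧ k ∈ Subgroup.normalizer (R : Set (Perm α)) ∧ ∃ j : ℕ, orderOf k = p ^ j}

theorem exists_orderOf_eq_pow {G : Type*} [Group G] {x : G} (h : x ^ p = 1) :
    ∃ j : ℕ, orderOf x = p ^ j := by
  have hp : p.Prime := Fact.out
  rcases (Nat.dvd_prime hp).mp (orderOf_dvd_of_pow_eq_one h) with h1 | h1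
  · exact ⟨0, by rw [h1, pow_zero]⟩
  · exact ⟨1, by rw [h1, pow_one]⟩

variable [Fintype B] [DecidableEq B] [Fintype C] [DecidableEq C]

theorem closure_pElts_le_alt {α : Type} [Fintype α] [DecidableEq α] (R : Subgroup (Perm α)) :
    Subgroup.closure (pElts p R) ≤ alternatingGroup α := by
  rw [Subgroup.closure_le]
  exact fun k hk => hk.1

theorem ef_mem_closure (hp2 : p ≠ 2) (f : Multiplicative (B → ZMod p)) :
    ef C f ∈ Subgroup.closure (pElts p (Ebase p B C)) := by
  apply Subgroup.subset_closure
  have h1 : (ef C f) ^ p = 1 := by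
    rw [← map_pow]
    have : f ^ p = 1 := by
      apply Multiplicative.toAdd.injective
      rw [toAdd_pow, toAdd_one]
      funext b
      simp
    rw [this, map_one]
  refine ⟨?_, ef_mem_normalizer_Ebase f, exists_orderOf_eq_pow h1⟩
  rw [Perm.mem_alternatingGroup]
  exact sign_eq_one_of_pow hp2 h1

/-- conjugation by the normaliser of the base group preserves the subgroup generated by
`p`-elements -/
theorem conj_mem_closure {d : Perm (Om p B C)}
    (hd : d ∈ Subgroup.normalizer ((Ebase p B C : Subgroup _) : Set (Perm (Om p B C))))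
    {x : Perm (Om p B C)} (hx : x ∈ Subgroup.closure (pElts p (Ebase p B C))) :
    d * x * d⁻¹ ∈ Subgroup.closure (pElts p (Ebase p B C)) := by
  induction hx using Subgroup.closure_induction with
  | mem k hk =>
    apply Subgroup.subset_closure
    obtain ⟨hk1, hk2, j, hj⟩ := hk
    refine ⟨?_, ?_, j, ?_⟩
    · rw [Perm.mem_alternatingGroup] at hk1 ⊢
      rw [map_mul, map_mul, map_inv, hk1, mul_one, mul_inv_cancel]
    · exact Subgroup.mul_mem _ (Subgroup.mul_mem _ hd hk2) (Subgroup.inv_mem _ hd)
    · have : d * k * d⁻¹ = MulAut.conj d k := rfl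
      rw [this, MulEquiv.orderOf_eq]; exact hj
  | one => simp [Subgroup.one_mem]
  | mul x y _ _ hx hy =>
    have : d * (x * y) * d⁻¹ = (d * x * d⁻¹) * (d * y * d⁻¹) := by group
    rw [this]; exact Subgroup.mul_mem _ hx hy
  | inv x _ hx =>
    have : d * x⁻¹ * d⁻¹ = (d * x * d⁻¹)⁻¹ := by group
    rw [this]; exact Subgroup.inv_mem _ hx

/-- the alternating group of degree at least `p` is generated by its `p`-elements (`p` odd) -/
theorem alt_le_closure (hp2 : p ≠ 2) (hB : p ≤ Fintype.card B) :
    alternatingGroup B ≤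
      Subgroup.closure {q : Perm B | q ∈ alternatingGroup B ∧ ∃ j : ℕ, orderOf q = p ^ j} := by
  have hp : p.Prime := Fact.out
  have hp3 : 3 ≤ p := by
    have := hp.two_le
    omega
  by_cases h3 : p = 3
  · intro τ hτ
    rw [← Perm.closure_three_cycles_eq_alternating] at hτ
    refine Subgroup.closure_mono ?_ hτ
    intro σ hσ
    refine ⟨hσ.mem_alternatingGroup, 1, ?_⟩
    rw [hσ.orderOf, h3, pow_one]
  · have h5 : 5 ≤ Fintype.card B := by
      have : p ≠ 4 := by
        rintro rfl
        exact absurd hp (by decide)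
      omega
    have hsimple : IsSimpleGroup (alternatingGroup B) :=
      alternatingGroup.isSimpleGroup (by rw [Nat.card_eq_fintype_card]; exact h5)
    have hnt : Nontrivial B := Fintype.one_lt_card_iff_nontrivial.mp (by omega)
    obtain ⟨S, hS⟩ : ∃ S : Set (alternatingGroup B), S = {x | ∃ j : ℕ, orderOf x = p ^ j} := ⟨_, rfl⟩
    have hconj : Group.conjugatesOfSet S ⊆ S := by
      intro x hx
      obtain ⟨y, hy, hyx⟩ := Group.mem_conjugatesOfSet_iff.mp hx
      rw [hS] at hy ⊢
      obtain ⟨j, hj⟩ := hy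
      obtain ⟨c, hc⟩ := isConj_iff.mp hyx
      refine ⟨j, ?_⟩
      rw [← hc]
      have : c * y * c⁻¹ = MulAut.conj c y := rfl
      rw [this, MulEquiv.orderOf_eq]; exact hj
    have hN : Subgroup.normalClosure S = ⊤ := by
      rcases (Subgroup.normalClosure_normal (s := S)).eq_bot_or_eq_top with h | h
      · exfalso
        have hdvd : p ∣ Nat.card (alternatingGroup B) := by
          have h1 := two_mul_nat_card_alternatingGroup (α := B)
          rw [Nat.card_perm, Nat.card_eq_fintype_card (α := B)] at h1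
          have h2 : p ∣ 2 * Nat.card (alternatingGroup B) := by
            rw [h1]; exact (hp.dvd_factorial).mpr hB
          exact (Nat.Coprime.dvd_of_dvd_mul_left ((Nat.coprime_primes hp Nat.prime_two).mpr hp2) h2)
        obtain ⟨x, hx⟩ := exists_prime_orderOf_dvd_card' p hdvd
        have hxS : x ∈ S := by rw [hS]; exact ⟨1, by rw [hx, pow_one]⟩
        have : x ∈ Subgroup.normalClosure S := Subgroup.subset_normalClosure hxS
        rw [h, Subgroup.mem_bot] at this
        rw [this, orderOf_one] at hx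
        exact hp.one_lt.ne hx
      · exact h
    have hcl : Subgroup.closure S = ⊤ := by
      rw [eq_top_iff, ← hN]
      unfold Subgroup.normalClosure
      exact Subgroup.closure_mono hconj
    intro σ hσ
    have h1 : (⟨σ, hσ⟩ : alternatingGroup B) ∈ Subgroup.closure S := by rw [hcl]; trivial
    have h2 : σ ∈ (Subgroup.closure S).map (alternatingGroup B).subtype := ⟨⟨σ, hσ⟩, h1, rfl⟩
    rw [MonoidHom.map_closure] at h2
    refine Subgroup.closure_mono ?_ h2
    rintro _ ⟨x, hx, rfl⟩
    rw [hS] at hx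
    obtain ⟨j, hj⟩ := hx
    refine ⟨x.2, j, ?_⟩
    rw [← hj]
    exact Subgroup.orderOf_coe x

theorem hat_mem_closure (hp2 : p ≠ 2) (hB : p ≤ Fintype.card B) {π : Perm B}
    (hπ : π ∈ alternatingGroup B) :
    hat p C π ∈ Subgroup.closure (pElts p (Ebase p B C)) := by
  have h1 := alt_le_closure hp2 hB hπ
  have h2 : hat p C π ∈ (Subgroup.closure {q : Perm B | q ∈ alternatingGroup B ∧
      ∃ j : ℕ, orderOf q = p ^ j}).map (hat p C) := ⟨π, h1, rfl⟩
  rw [MonoidHom.map_closure] at h2
  refine Subgroup.closure_mono ?_ h2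
  rintro _ ⟨q, ⟨hq1, j, hj⟩, rfl⟩
  refine ⟨?_, hat_mem_normalizer_Ebase q, j, ?_⟩
  · rw [Perm.mem_alternatingGroup] at hq1 ⊢
    rw [sign_hat, hq1, one_pow]
  · rw [orderOf_hat]; exact hj

end Cfsg.Agent.H9AF
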