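import Mathlib
import Cfsg.Agent.Lib.Helper9.AltFus9

set_option autoImplicit false

/-!
# Elements of the normaliser of the base group with trivial product character
-/

namespace Cfsg.Agent.H9AF

open Equiv

variable {p : ℕ} [Fact p.Prime] {B C : Type}
variable [Fintype B] [DecidableEq B] [Fintype C] [DecidableEq C]

/-- diagonal dipoles lie in the subgroup generated by `p`-elements -/
theorem Dg_dipole_mem_closure (hp2 : p ≠ 2) (hB : 3 ≤ Fintype.card B) (hpB : p ≤ Fintype.card B)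
    (b b₀ : B) (u : (ZMod p)ˣ) :
    Dg C (Pi.mulSingle b u * Pi.mulSingle b₀ u⁻¹) ∈ Subgroup.closure (pElts p (Ebase p B C)) := by
  by_cases hb : b = b₀
  · subst hb
    rw [← Pi.mulSingle_mul, mul_inv_cancel, Pi.mulSingle_one, map_one]
    exact Subgroup.one_mem _
  obtain ⟨b₂, hb₂, hb₂'⟩ := exists_ne_ne hB b b₀
  obtain ⟨s, hs⟩ : ∃ s : Perm B, s = swap b₂ b * swap b b₀ := ⟨_, rfl⟩
  have hsb : s b = b₀ := by
    rw [hs, Perm.mul_apply, swap_apply_left, swap_apply_of_ne_of_ne (Ne.symm hb₂') (Ne.symm hb)]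
  have hsA : s ∈ alternatingGroup B := by
    rw [Perm.mem_alternatingGroup, hs, map_mul, Perm.sign_swap hb₂, Perm.sign_swap hb]
    rfl
  have h1 := hat_mem_closure (C := C) hp2 hpB hsA
  have h2 := conj_mem_closure (Dg_mem_normalizer_Ebase (C := C) (Pi.mulSingle b u)) h1
  have h3 := Subgroup.mul_mem _ h2 (Subgroup.inv_mem _ h1)
  have e1 : Dg C (Pi.mulSingle b u) * hat p C s * (Dg C (Pi.mulSingle b u))⁻¹ * (hat p C s)⁻¹ =
      Dg C (Pi.mulSingle b u) * (hat p C s * Dg C (Pi.mulSingle b u)⁻¹ * (hat p C s)⁻¹) := by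
    rw [map_inv]; group
  rw [e1, hat_conj_Dg, ← map_mul] at h3
  convert h3 using 2
  funext b'
  simp only [Pi.mul_apply, Pi.inv_apply]
  congr 1
  by_cases hb' : b' = b₀
  · subst hb'
    rw [← hsb, Perm.coe_inv, Equiv.symm_apply_apply, Pi.mulSingle_eq_same, Pi.mulSingle_eq_same]
  · rw [Pi.mulSingle_eq_of_ne hb', Pi.mulSingle_eq_of_ne, inv_one]
    intro h
    apply hb'
    rw [← hsb, ← h, Perm.coe_inv, Equiv.apply_symm_apply]

theorem Dg_mem_closure (hp2 : p ≠ 2) (hB : 3 ≤ Fintype.card B) (hpB : p ≤ Fintype.card B)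
    (a : B → (ZMod p)ˣ) (ha : ∏ b, a b = 1) :
    Dg C a ∈ Subgroup.closure (pElts p (Ebase p B C)) := by
  have hne : Nonempty B := Fintype.card_pos_iff.mp (by omega)
  obtain ⟨b₀⟩ := hne
  have h1 : a = ∏ b, (Pi.mulSingle b (a b) * Pi.mulSingle b₀ (a b)⁻¹) := by
    rw [Finset.prod_mul_distrib, Finset.univ_prod_mulSingle]
    have : ∏ b, (Pi.mulSingle b₀ (a b)⁻¹ : B → (ZMod p)ˣ) = Pi.mulSingle b₀ (∏ b, (a b)⁻¹) := by
      rw [← MonoidHom.mulSingle_apply, map_prod]
      rfl
    rw [this, Finset.prod_inv_distrib, ha, inv_one, Pi.mulSingle_one, mul_one]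
  have h2 : a ∈ (Subgroup.closure (pElts p (Ebase p B C))).comap (Dg C) := by
    rw [h1]
    apply Subgroup.prod_mem
    intro b _
    exact Dg_dipole_mem_closure hp2 hB hpB b b₀ (a b)
  exact h2

/-- an even element of the normaliser of the base group with trivial product character is a
product of `p`-elements of the normaliser -/
theorem gen_mem_closure (hp2 : p ≠ 2) (hB : 3 ≤ Fintype.card B) (hpB : p ≤ Fintype.card B)
    (a : B → (ZMod p)ˣ) (t : B → ZMod p) (π : Perm B) (ha : ∏ b, a b = 1)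
    (hsign : Perm.sign (gen C a t π) = 1) :
    gen C a t π ∈ Subgroup.closure (pElts p (Ebase p B C)) := by
  have hp : p.Prime := Fact.out
  have h1 := Dg_mem_closure (C := C) hp2 hB hpB a ha
  have h2 := ef_mem_closure (C := C) hp2 (Multiplicative.ofAdd t)
  have h1s := Perm.mem_alternatingGroup.mp (closure_pElts_le_alt _ h1)
  have h2s := Perm.mem_alternatingGroup.mp (closure_pElts_le_alt _ h2)
  unfold gen at hsign ⊢
  rw [map_mul, map_mul, h1s, h2s, mul_one, mul_one, sign_hat] at hsign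
  have h3 : Perm.sign π = 1 := by
    rcases Int.units_eq_one_or (Perm.sign π) with h | h
    · exact h
    · rw [h, (hp.odd_of_ne_two hp2).neg_one_pow] at hsign
      exact absurd hsign (by decide)
  have h4 := hat_mem_closure (C := C) hp2 hpB (Perm.mem_alternatingGroup.mpr h3)
  exact Subgroup.mul_mem _ (Subgroup.mul_mem _ h4 h2) h1

end Cfsg.Agent.H9AF
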