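import Mathlib
import Cfsg.Agent.Lib.Helper9.AltFus10

set_option autoImplicit false

/-!
# Normalising a wreath product
-/

namespace Cfsg.Agent.H9AF

open Equiv

variable {p : ℕ} [Fact p.Prime] {B C : Type}

theorem mem_normalizer_of_conj_mem {G : Type*} [Group G] {H : Subgroup G} {g : G}
    (h1 : ∀ x ∈ H, g * x * g⁻¹ ∈ H) (h2 : ∀ x ∈ H, g⁻¹ * x * g ∈ H) :
    g ∈ Subgroup.normalizer (H : Set G) := by
  rw [Subgroup.mem_normalizer_iff]
  intro x
  constructor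
  · exact h1 x
  · intro hx
    have := h2 _ hx
    have e : g⁻¹ * (g * x * g⁻¹) * g = x := by group
    rwa [e] at this

theorem hat_conj_mk (π : Perm B) (f : B → ZMod p) (q : Perm B) :
    hat p C π * mk f q * (hat p C π)⁻¹ = mk (fun b => f (π⁻¹ b)) (π * q * π⁻¹) := by
  rw [mul_inv_eq_iff_eq_mul]
  ext x
  rcases x with ⟨b, x⟩ | c <;> simp [Perm.mul_apply]

theorem hat_mem_normalizer_wr {Q : Subgroup (Perm B)} {π : Perm B}
    (hπ : π ∈ Subgroup.normalizer (Q : Set (Perm B))) :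
    hat p C π ∈ Subgroup.normalizer ((wr p C Q : Subgroup _) : Set (Perm (Om p B C))) := by
  rw [Subgroup.mem_normalizer_iff] at hπ
  apply mem_normalizer_of_conj_mem
  · rintro _ ⟨f, q, hq, rfl⟩
    rw [hat_conj_mk]
    exact mk_mem_wr.mpr ((hπ q).mp hq)
  · rintro _ ⟨f, q, hq, rfl⟩
    have := hat_conj_mk (C := C) π⁻¹ f q
    rw [map_inv, inv_inv] at this
    rw [this]
    apply mk_mem_wr.mpr
    rw [hπ, inv_inv]
    have e : π * (π⁻¹ * q * π) * π⁻¹ = q := by group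
    rw [e]; exact hq

theorem Dg_conj_mk (a : B → (ZMod p)ˣ) (f : B → ZMod p) (q : Perm B)
    (ha : ∀ b, a (q b) = a b) :
    Dg C a * mk f q * (Dg C a)⁻¹ = mk (fun b => (a b : ZMod p) * f b) q := by
  rw [mul_inv_eq_iff_eq_mul]
  ext x
  rcases x with ⟨b, x⟩ | c
  · simp [Perm.mul_apply, mul_add, ha]
  · simp [Perm.mul_apply]

theorem Dg_mem_normalizer_wr {Q : Subgroup (Perm B)} {a : B → (ZMod p)ˣ}
    (ha : ∀ q ∈ Q, ∀ b, a (q b) = a b) :
    Dg C a ∈ Subgroup.normalizer ((wr p C Q : Subgroup _) : Set (Perm (Om p B C))) := by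
  apply mem_normalizer_of_conj_mem
  · rintro _ ⟨f, q, hq, rfl⟩
    rw [Dg_conj_mk a f q (ha q hq)]
    exact mk_mem_wr.mpr hq
  · rintro _ ⟨f, q, hq, rfl⟩
    have := Dg_conj_mk (C := C) a⁻¹ f q (fun b => by
      simp only [Pi.inv_apply]; rw [ha q hq b])
    rw [map_inv, inv_inv] at this
    rw [this]
    exact mk_mem_wr.mpr hq

end Cfsg.Agent.H9AF
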