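import Mathlib
import Cfsg.Agent.Lib.Helper9.AltFus11

set_option autoImplicit false

/-!
# Two levels: linear maps on the super-blocks
-/

namespace Cfsg.Agent.H9AF

open Equiv

variable {p : ℕ} [Fact p.Prime] {W J Z : Type}

/-- the two-level point set -/
abbrev Om2 (p : ℕ) (W J Z : Type) := Om p (Om p W J) Z

/-- shear `(y, x) ↦ (y, x + s y)` -/
def sh1 (s : ZMod p) : Perm (ZMod p × ZMod p) where
  toFun v := (v.1, v.2 + s * v.1)
  invFun v := (v.1, v.2 - s * v.1)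
  left_inv v := by simp
  right_inv v := by simp

/-- shear `(y, x) ↦ (y + s x, x)` -/
def sh2 (s : ZMod p) : Perm (ZMod p × ZMod p) where
  toFun v := (v.1 + s * v.2, v.2)
  invFun v := (v.1 - s * v.2, v.2)
  left_inv v := by simp
  right_inv v := by simp

/-- diagonal `(y, x) ↦ (a⁻¹ y, a x)` -/
def dg2 (a : (ZMod p)ˣ) : Perm (ZMod p × ZMod p) where
  toFun v := (((a⁻¹ : (ZMod p)ˣ) : ZMod p) * v.1, (a : ZMod p) * v.2)
  invFun v := ((a : ZMod p) * v.1, ((a⁻¹ : (ZMod p)ˣ) : ZMod p) * v.2)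
  left_inv v := by
    show ((a : ZMod p) * (((a⁻¹ : (ZMod p)ˣ) : ZMod p) * v.1),
      ((a⁻¹ : (ZMod p)ˣ) : ZMod p) * ((a : ZMod p) * v.2)) = v
    rw [Units.mul_inv_cancel_left, Units.inv_mul_cancel_left]
  right_inv v := by
    show (((a⁻¹ : (ZMod p)ˣ) : ZMod p) * ((a : ZMod p) * v.1),
      (a : ZMod p) * (((a⁻¹ : (ZMod p)ˣ) : ZMod p) * v.2)) = v
    rw [Units.mul_inv_cancel_left, Units.inv_mul_cancel_left]

@[simp] theorem sh1_apply (s y x : ZMod p) : sh1 s (y, x) = (y, x + s * y) := rfl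
@[simp] theorem sh2_apply (s y x : ZMod p) : sh2 s (y, x) = (y + s * x, x) := rfl
@[simp] theorem dg2_apply (a : (ZMod p)ˣ) (y x : ZMod p) :
    dg2 a (y, x) = (((a⁻¹ : (ZMod p)ˣ) : ZMod p) * y, (a : ZMod p) * x) := rfl

theorem sh1_add (s s' : ZMod p) : sh1 (s + s') = sh1 s * sh1 s' := by
  ext ⟨y, x⟩ <;> simp [Perm.mul_apply]; ring

theorem sh2_add (s s' : ZMod p) : sh2 (s + s') = sh2 s * sh2 s' := by
  ext ⟨y, x⟩ <;> simp [Perm.mul_apply]; ring

theorem sh1_zero : sh1 (0 : ZMod p) = 1 := by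
  ext ⟨y, x⟩ <;> simp

theorem sh2_zero : sh2 (0 : ZMod p) = 1 := by
  ext ⟨y, x⟩ <;> simp

theorem sh1_pow (s : ZMod p) (k : ℕ) : sh1 s ^ k = sh1 ((k : ZMod p) * s) := by
  induction k with
  | zero => simp [sh1_zero]
  | succ k ih =>
    rw [pow_succ, ih, ← sh1_add]
    congr 1
    push_cast; ring

theorem sh2_pow (s : ZMod p) (k : ℕ) : sh2 s ^ k = sh2 ((k : ZMod p) * s) := by
  induction k with
  | zero => simp [sh2_zero]
  | succ k ih =>
    rw [pow_succ, ih, ← sh2_add]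
    congr 1
    push_cast; ring

theorem sh1_pow_p (s : ZMod p) : sh1 s ^ p = 1 := by
  rw [sh1_pow]; simp [sh1_zero]

theorem sh2_pow_p (s : ZMod p) : sh2 s ^ p = 1 := by
  rw [sh2_pow]; simp [sh2_zero]

/-- the torus element as a product of shears -/
theorem dg2_eq (a : (ZMod p)ˣ) :
    dg2 a = sh1 (a : ZMod p) * sh2 (-((a⁻¹ : (ZMod p)ˣ) : ZMod p)) * sh1 (a : ZMod p) *
      sh1 (-1) * sh2 1 * sh1 (-1) := by
  have h1 : (a : ZMod p) * ((a⁻¹ : (ZMod p)ˣ) : ZMod p) = 1 := by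
    rw [← Units.val_mul, mul_inv_cancel, Units.val_one]
  ext ⟨y, x⟩
  · simp only [dg2_apply, Perm.mul_apply, sh1_apply, sh2_apply]
    linear_combination x * h1
  · simp only [dg2_apply, Perm.mul_apply, sh1_apply, sh2_apply]
    linear_combination ((a : ZMod p) * x - y) * h1

/-- the action of a family of permutations of the super-blocks -/
def LsbFun (φ : W → ZMod p × ZMod p → ZMod p × ZMod p) : Om2 p W J Z → Om2 p W J Z
  | Sum.inl (Sum.inl (w, y), x) => Sum.inl (Sum.inl (w, (φ w (y, x)).1), (φ w (y, x)).2)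
  | Sum.inl (Sum.inr j, x) => Sum.inl (Sum.inr j, x)
  | Sum.inr z => Sum.inr z

variable (J Z) in
/-- the action of a family of permutations of the super-blocks, as a homomorphism -/
def Lsb : (W → Perm (ZMod p × ZMod p)) →* Perm (Om2 p W J Z) where
  toFun φ :=
    { toFun := LsbFun (fun w => φ w)
      invFun := LsbFun (fun w => (φ w).symm)
      left_inv := by
        rintro ((⟨⟨w, y⟩ | j, x⟩) | z) <;> simp [LsbFun]
      right_inv := by
        rintro ((⟨⟨w, y⟩ | j, x⟩) | z) <;> simp [LsbFun] }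
  map_one' := by
    ext v
    rcases v with (⟨⟨w, y⟩ | j, x⟩) | z <;> simp [LsbFun]
  map_mul' φ ψ := by
    ext v
    rcases v with (⟨⟨w, y⟩ | j, x⟩) | z <;> simp [LsbFun, Perm.mul_apply]

@[simp] theorem Lsb_inl_inl (φ : W → Perm (ZMod p × ZMod p)) (w : W) (y x : ZMod p) :
    Lsb J Z φ (Sum.inl (Sum.inl (w, y), x)) =
      Sum.inl (Sum.inl (w, (φ w (y, x)).1), (φ w (y, x)).2) := rfl

@[simp] theorem Lsb_inl_inr (φ : W → Perm (ZMod p × ZMod p)) (j : J) (x : ZMod p) :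
    Lsb J Z φ (Sum.inl (Sum.inr j, x)) = Sum.inl (Sum.inr j, x) := rfl

@[simp] theorem Lsb_inr (φ : W → Perm (ZMod p × ZMod p)) (z : Z) :
    Lsb J Z φ (Sum.inr z) = Sum.inr z := rfl

/-- the same permutation on the super-blocks in `O`, the identity elsewhere -/
def indO [DecidableEq W] (O : Finset W) : Perm (ZMod p × ZMod p) →* (W → Perm (ZMod p × ZMod p)) where
  toFun M := fun w => if w ∈ O then M else 1
  map_one' := by
    funext w; simp
  map_mul' M N := by
    funext w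
    by_cases hw : w ∈ O <;> simp [hw]

variable (J Z) in
/-- a permutation of `ZMod p × ZMod p` acting on all super-blocks in `O` -/
def LO [DecidableEq W] (O : Finset W) : Perm (ZMod p × ZMod p) →* Perm (Om2 p W J Z) :=
  (Lsb J Z).comp (indO O)

theorem LO_inl_inl_mem [DecidableEq W] {O : Finset W} (M : Perm (ZMod p × ZMod p)) {w : W}
    (hw : w ∈ O) (y x : ZMod p) :
    LO J Z O M (Sum.inl (Sum.inl (w, y), x)) = Sum.inl (Sum.inl (w, (M (y, x)).1), (M (y, x)).2) := by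
  show Lsb J Z (indO O M) _ = _
  rw [Lsb_inl_inl]
  simp [indO, hw]

theorem LO_inl_inl_notMem [DecidableEq W] {O : Finset W} (M : Perm (ZMod p × ZMod p)) {w : W}
    (hw : w ∉ O) (y x : ZMod p) :
    LO J Z O M (Sum.inl (Sum.inl (w, y), x)) = Sum.inl (Sum.inl (w, y), x) := by
  show Lsb J Z (indO O M) _ = _
  rw [Lsb_inl_inl]
  simp [indO, hw]

@[simp] theorem LO_inl_inr [DecidableEq W] (O : Finset W) (M : Perm (ZMod p × ZMod p)) (j : J)
    (x : ZMod p) : LO J Z O M (Sum.inl (Sum.inr j, x)) = Sum.inl (Sum.inr j, x) := rfl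

@[simp] theorem LO_inr [DecidableEq W] (O : Finset W) (M : Perm (ZMod p × ZMod p)) (z : Z) :
    LO J Z O M (Sum.inr z) = Sum.inr z := rfl

end Cfsg.Agent.H9AF
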