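import Mathlib
import Cfsg.Agent.Lib.Helper9.AltFus12

set_option autoImplicit false

/-!
# Two levels: the self-centralising subgroup of translations of the super-blocks
-/

namespace Cfsg.Agent.H9AF

open Equiv

variable {p : ℕ} [Fact p.Prime] {W J Z : Type}

variable (Z) in
/-- translations on every super-block, and on each remaining block -/
def rho (u v : W → ZMod p) (f : J → ZMod p) : Perm (Om2 p W J Z) :=
  mk (Sum.elim (fun wy : W × ZMod p => u wy.1) f) (ef J (Multiplicative.ofAdd v))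

@[simp] theorem rho_inl_inl (u v : W → ZMod p) (f : J → ZMod p) (w : W) (y x : ZMod p) :
    rho Z u v f (Sum.inl (Sum.inl (w, y), x)) = Sum.inl (Sum.inl (w, y + v w), x + u w) := rfl

@[simp] theorem rho_inl_inr (u v : W → ZMod p) (f : J → ZMod p) (j : J) (x : ZMod p) :
    rho Z u v f (Sum.inl (Sum.inr j, x)) = Sum.inl (Sum.inr j, x + f j) := rfl

@[simp] theorem rho_inr (u v : W → ZMod p) (f : J → ZMod p) (z : Z) :
    rho Z u v f (Sum.inr z) = Sum.inr z := rfl

theorem rho_mul (u v u' v' : W → ZMod p) (f f' : J → ZMod p) :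
    rho Z u v f * rho Z u' v' f' = rho Z (u + u') (v + v') (f + f') := by
  ext x
  rcases x with (⟨⟨w, y⟩ | j, x⟩) | z
  · simp [Perm.mul_apply]; constructor <;> ring
  · simp [Perm.mul_apply]; ring
  · simp [Perm.mul_apply]

theorem rho_zero : rho Z (0 : W → ZMod p) 0 (0 : J → ZMod p) = 1 := by
  ext x
  rcases x with (⟨⟨w, y⟩ | j, x⟩) | z <;> simp

theorem rho_inv (u v : W → ZMod p) (f : J → ZMod p) :
    (rho Z u v f)⁻¹ = rho Z (-u) (-v) (-f) := by
  rw [inv_eq_iff_mul_eq_one, rho_mul]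
  simp [rho_zero]

variable (p W J Z) in
/-- the subgroup of all such translations -/
def Rsb : Subgroup (Perm (Om2 p W J Z)) where
  carrier := {σ | ∃ (u v : W → ZMod p) (f : J → ZMod p), σ = rho Z u v f}
  mul_mem' := by
    rintro _ _ ⟨u, v, f, rfl⟩ ⟨u', v', f', rfl⟩
    exact ⟨_, _, _, rho_mul _ _ _ _ _ _⟩
  one_mem' := ⟨0, 0, 0, rho_zero.symm⟩
  inv_mem' := by
    rintro _ ⟨u, v, f, rfl⟩
    exact ⟨_, _, _, rho_inv _ _ _⟩

theorem rho_mem_Rsb (u v : W → ZMod p) (f : J → ZMod p) : rho Z u v f ∈ Rsb p W J Z :=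
  ⟨u, v, f, rfl⟩

theorem Rsb_le_wr (Q : Subgroup (Perm W)) : Rsb p W J Z ≤ wr p Z (wr p J Q) := by
  rintro _ ⟨u, v, f, rfl⟩
  exact mk_mem_wr.mpr (ef_mem_wr Q _)

/-- the subgroup of translations is self-centralising -/
theorem mem_Rsb_of_commute [DecidableEq W] [DecidableEq J] [Subsingleton Z]
    (σ : Perm (Om2 p W J Z))
    (h : ∀ (u v : W → ZMod p) (f : J → ZMod p), σ * rho Z u v f = rho Z u v f * σ) :
    σ ∈ Rsb p W J Z := by
  have hap : ∀ (u v : W → ZMod p) (f : J → ZMod p) (x : Om2 p W J Z),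
      σ (rho Z u v f x) = rho Z u v f (σ x) := by
    intro u v f x
    have := congrArg (fun τ : Perm (Om2 p W J Z) => τ x) (h u v f)
    simpa [Perm.mul_apply] using this
  -- super-blocks
  have h1 : ∀ w : W, ∃ y₀ x₀ : ZMod p,
      σ (Sum.inl (Sum.inl (w, 0), 0)) = Sum.inl (Sum.inl (w, y₀), x₀) := by
    intro w
    rcases hQ : σ (Sum.inl (Sum.inl (w, 0), 0)) with (⟨⟨w', y'⟩ | j, x'⟩) | z
    · by_cases hw : w' = w
      · subst hw; exact ⟨y', x', rfl⟩
      · exfalso
        have e1 := hap (Pi.single w' 1) 0 0 (Sum.inl (Sum.inl (w, 0), 0))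
        rw [rho_inl_inl, Pi.single_eq_of_ne (Ne.symm hw), hQ, rho_inl_inl, Pi.single_eq_same] at e1
        simp only [Pi.zero_apply, add_zero] at e1
        rw [hQ] at e1
        simp at e1
    · exfalso
      have e1 := hap 0 0 (Pi.single j 1) (Sum.inl (Sum.inl (w, 0), 0))
      rw [rho_inl_inl] at e1
      simp only [Pi.zero_apply, add_zero] at e1
      rw [hQ, rho_inl_inr, Pi.single_eq_same] at e1
      simp at e1
    · exfalso
      have e1 := hap (Pi.single w 1) 0 0 (Sum.inl (Sum.inl (w, 0), 0))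
      rw [hQ, rho_inr, ← hQ] at e1
      have := σ.injective e1
      simp at this
  choose y₀ x₀ h0 using h1
  have h2 : ∀ (w : W) (y x : ZMod p),
      σ (Sum.inl (Sum.inl (w, y), x)) = Sum.inl (Sum.inl (w, y + y₀ w), x + x₀ w) := by
    intro w y x
    have e1 := hap (Pi.single w x) (Pi.single w y) 0 (Sum.inl (Sum.inl (w, 0), 0))
    rw [rho_inl_inl, h0, rho_inl_inl] at e1
    simp only [Pi.single_eq_same, zero_add] at e1
    rw [e1, add_comm (y₀ w), add_comm (x₀ w)]
  -- remaining blocks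
  have h3 : ∀ j : J, ∃ t : ZMod p, σ (Sum.inl (Sum.inr j, 0)) = Sum.inl (Sum.inr j, t) := by
    intro j
    rcases hQ : σ (Sum.inl (Sum.inr j, 0)) with (⟨⟨w', y'⟩ | j', x'⟩) | z
    · exfalso
      have e1 := hap (Pi.single w' 1) 0 0 (Sum.inl (Sum.inr j, 0))
      rw [rho_inl_inr] at e1
      simp only [Pi.zero_apply, add_zero] at e1
      rw [hQ, rho_inl_inl, Pi.single_eq_same] at e1
      simp at e1
    · by_cases hj : j' = j
      · subst hj; exact ⟨x', rfl⟩
      · exfalso
        have e1 := hap 0 0 (Pi.single j' 1) (Sum.inl (Sum.inr j, 0))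
        rw [rho_inl_inr, Pi.single_eq_of_ne (Ne.symm hj), add_zero, hQ, rho_inl_inr,
          Pi.single_eq_same] at e1
        simp at e1
    · exfalso
      have e1 := hap 0 0 (Pi.single j 1) (Sum.inl (Sum.inr j, 0))
      rw [hQ, rho_inr, ← hQ] at e1
      have := σ.injective e1
      simp at this
  choose t₀ ht₀ using h3
  have h4 : ∀ (j : J) (x : ZMod p), σ (Sum.inl (Sum.inr j, x)) = Sum.inl (Sum.inr j, x + t₀ j) := by
    intro j x
    have e1 := hap 0 0 (Pi.single j x) (Sum.inl (Sum.inr j, 0))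
    rw [rho_inl_inr, ht₀, rho_inl_inr] at e1
    simp only [Pi.single_eq_same, zero_add] at e1
    rw [e1, add_comm]
  refine ⟨x₀, y₀, t₀, ?_⟩
  ext v
  rcases v with (⟨⟨w, y⟩ | j, x⟩) | z
  · rw [h2]; rfl
  · rw [h4]; rfl
  · rcases hQ : σ (Sum.inr z) with (⟨⟨w', y'⟩ | j', x'⟩) | z'
    · exfalso
      have := h2 w' (y' - y₀ w') (x' - x₀ w')
      rw [sub_add_cancel, sub_add_cancel, ← hQ] at this
      have := σ.injective this
      simp at this
    · exfalso
      have := h4 j' (x' - t₀ j')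
      rw [sub_add_cancel, ← hQ] at this
      have := σ.injective this
      simp at this
    · simp [Subsingleton.elim z' z]

end Cfsg.Agent.H9AF
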