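import Mathlib
import Cfsg.Agent.Lib.Helper9.AltFus13

set_option autoImplicit false

/-!
# Two levels: the torus element
-/

namespace Cfsg.Agent.H9AF

open Equiv

variable {p : ℕ} [Fact p.Prime] {W J Z : Type} [DecidableEq W]

theorem LO_sh1_conj_rho (O : Finset W) (s : ZMod p) (u v : W → ZMod p) (f : J → ZMod p) :
    LO J Z O (sh1 s) * rho Z u v f * (LO J Z O (sh1 s))⁻¹ =
      rho Z (fun w => u w + (if w ∈ O then s else 0) * v w) v f := by
  rw [mul_inv_eq_iff_eq_mul]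
  ext x
  rcases x with (⟨⟨w, y⟩ | j, x⟩) | z
  · by_cases hw : w ∈ O
    · simp only [Perm.mul_apply, rho_inl_inl, LO_inl_inl_mem _ hw, sh1_apply, if_pos hw]
      congr 2; ring
    · simp only [Perm.mul_apply, rho_inl_inl, LO_inl_inl_notMem _ hw, if_neg hw]
      simp
  · simp [Perm.mul_apply]
  · simp [Perm.mul_apply]

theorem LO_sh2_conj_rho (O : Finset W) (s : ZMod p) (u v : W → ZMod p) (f : J → ZMod p) :
    LO J Z O (sh2 s) * rho Z u v f * (LO J Z O (sh2 s))⁻¹ =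
      rho Z u (fun w => v w + (if w ∈ O then s else 0) * u w) f := by
  rw [mul_inv_eq_iff_eq_mul]
  ext x
  rcases x with (⟨⟨w, y⟩ | j, x⟩) | z
  · by_cases hw : w ∈ O
    · simp only [Perm.mul_apply, rho_inl_inl, LO_inl_inl_mem _ hw, sh2_apply, if_pos hw]
      congr 3; ring
    · simp only [Perm.mul_apply, rho_inl_inl, LO_inl_inl_notMem _ hw, if_neg hw]
      simp
  · simp [Perm.mul_apply]
  · simp [Perm.mul_apply]

theorem LO_sh1_mem_normalizer (O : Finset W) (s : ZMod p) :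
    LO J Z O (sh1 s) ∈ Subgroup.normalizer ((Rsb p W J Z : Subgroup _) : Set (Perm (Om2 p W J Z))) := by
  have hinv : (LO J Z O (sh1 s))⁻¹ = LO J Z O (sh1 (-s)) := by
    rw [inv_eq_iff_mul_eq_one, ← map_mul, ← sh1_add, add_neg_cancel, sh1_zero, map_one]
  apply mem_normalizer_of_conj_mem
  · rintro _ ⟨u, v, f, rfl⟩
    rw [LO_sh1_conj_rho]; exact rho_mem_Rsb _ _ _
  · rintro _ ⟨u, v, f, rfl⟩
    have := LO_sh1_conj_rho (J := J) (Z := Z) O (-s) u v f
    rw [← hinv, inv_inv] at this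
    rw [this]; exact rho_mem_Rsb _ _ _

theorem LO_sh2_mem_normalizer (O : Finset W) (s : ZMod p) :
    LO J Z O (sh2 s) ∈ Subgroup.normalizer ((Rsb p W J Z : Subgroup _) : Set (Perm (Om2 p W J Z))) := by
  have hinv : (LO J Z O (sh2 s))⁻¹ = LO J Z O (sh2 (-s)) := by
    rw [inv_eq_iff_mul_eq_one, ← map_mul, ← sh2_add, add_neg_cancel, sh2_zero, map_one]
  apply mem_normalizer_of_conj_mem
  · rintro _ ⟨u, v, f, rfl⟩
    rw [LO_sh2_conj_rho]; exact rho_mem_Rsb _ _ _
  · rintro _ ⟨u, v, f, rfl⟩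
    have := LO_sh2_conj_rho (J := J) (Z := Z) O (-s) u v f
    rw [← hinv, inv_inv] at this
    rw [this]; exact rho_mem_Rsb _ _ _

variable [Fintype W] [Fintype J] [DecidableEq J] [Fintype Z] [DecidableEq Z]

theorem LO_sh1_mem_pElts (hp2 : p ≠ 2) (O : Finset W) (s : ZMod p) :
    LO J Z O (sh1 s) ∈ pElts p (Rsb p W J Z) := by
  have h1 : (LO J Z O (sh1 s)) ^ p = 1 := by rw [← map_pow, sh1_pow_p, map_one]
  exact ⟨Perm.mem_alternatingGroup.mpr (sign_eq_one_of_pow hp2 h1), LO_sh1_mem_normalizer O s,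
    exists_orderOf_eq_pow h1⟩

theorem LO_sh2_mem_pElts (hp2 : p ≠ 2) (O : Finset W) (s : ZMod p) :
    LO J Z O (sh2 s) ∈ pElts p (Rsb p W J Z) := by
  have h1 : (LO J Z O (sh2 s)) ^ p = 1 := by rw [← map_pow, sh2_pow_p, map_one]
  exact ⟨Perm.mem_alternatingGroup.mpr (sign_eq_one_of_pow hp2 h1), LO_sh2_mem_normalizer O s,
    exists_orderOf_eq_pow h1⟩

/-- the torus element is a product of `p`-elements normalising the translation subgroup -/
theorem LO_dg2_mem_closure (hp2 : p ≠ 2) (O : Finset W) (a : (ZMod p)ˣ) :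
    LO J Z O (dg2 a) ∈ Subgroup.closure (pElts p (Rsb p W J Z)) := by
  rw [dg2_eq, map_mul, map_mul, map_mul, map_mul, map_mul]
  have h1 := fun s : ZMod p => Subgroup.subset_closure (LO_sh1_mem_pElts (J := J) (Z := Z) hp2 O s)
  have h2 := fun s : ZMod p => Subgroup.subset_closure (LO_sh2_mem_pElts (J := J) (Z := Z) hp2 O s)
  exact Subgroup.mul_mem _ (Subgroup.mul_mem _ (Subgroup.mul_mem _ (Subgroup.mul_mem _
    (Subgroup.mul_mem _ (h1 _) (h2 _)) (h1 _)) (h1 _)) (h2 _)) (h1 _)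

/-- the multipliers of the torus element on the blocks -/
def torA (O : Finset W) (a : (ZMod p)ˣ) : Om p W J → (ZMod p)ˣ :=
  Sum.elim (fun wy : W × ZMod p => if wy.1 ∈ O then a else 1) (fun _ => 1)

/-- the multipliers of the torus element on the super-blocks -/
def torA' (O : Finset W) (a : (ZMod p)ˣ) : W → (ZMod p)ˣ := fun w => if w ∈ O then a⁻¹ else 1

theorem LO_dg2_eq_gen (O : Finset W) (a : (ZMod p)ˣ) :
    LO J Z O (dg2 a) = gen Z (torA O a) 0 (Dg J (torA' O a)) := by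
  ext x
  rcases x with (⟨⟨w, y⟩ | j, x⟩) | z
  · by_cases hw : w ∈ O
    · rw [LO_inl_inl_mem _ hw, gen_inl]
      simp only [dg2_apply, Dg_inl, torA, torA', Sum.elim_inl, if_pos hw, Pi.zero_apply, add_zero]
    · rw [LO_inl_inl_notMem _ hw, gen_inl]
      simp only [Dg_inl, torA, torA', Sum.elim_inl, if_neg hw, Pi.zero_apply, add_zero,
        Units.val_one, one_mul]
  · rw [gen_inl]
    simp only [LO_inl_inr, Dg_inr, torA, Sum.elim_inr, Units.val_one, one_mul, Pi.zero_apply,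
      add_zero]
  · simp

theorem prod_torA (O : Finset W) (a : (ZMod p)ˣ) :
    ∏ b, (torA (J := J) O a b) = a ^ (p * O.card) := by
  rw [Fintype.prod_sum_type, Fintype.prod_prod_type]
  simp only [torA, Sum.elim_inl, Sum.elim_inr, Finset.prod_const_one, mul_one, Finset.prod_const,
    Finset.card_univ, ZMod.card]
  have : ∀ w : W, (∏ _y : ZMod p, (if w ∈ O then a else 1)) = if w ∈ O then a ^ p else 1 := by
    intro w
    rw [Finset.prod_const, Finset.card_univ, ZMod.card]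
    by_cases hw : w ∈ O <;> simp [hw]
  simp only [this]
  rw [Finset.prod_ite_mem, Finset.univ_inter, Finset.prod_const, ← pow_mul]

theorem chi_LO_dg2 (O : Finset W) (a : (ZMod p)ˣ) {j : ℕ} (hO : O.card = p ^ j) :
    chi (LO J Z O (dg2 a)) = (a : ZMod p) := by
  rw [LO_dg2_eq_gen, chi_gen, ← Units.coe_prod, prod_torA, hO, ← pow_succ', Units.val_pow_eq_pow_val,
    ZMod.pow_card_pow]

theorem LO_dg2_mem_normalizer {Q : Subgroup (Perm W)} (O : Finset W) (a : (ZMod p)ˣ)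
    (hO : ∀ q ∈ Q, ∀ w, q w ∈ O ↔ w ∈ O) :
    LO J Z O (dg2 a) ∈ Subgroup.normalizer
      ((wr p Z (wr p J Q) : Subgroup _) : Set (Perm (Om2 p W J Z))) := by
  rw [LO_dg2_eq_gen]
  unfold gen
  rw [ofAdd_zero, map_one, mul_one]
  apply Subgroup.mul_mem
  · apply hat_mem_normalizer_wr
    apply Dg_mem_normalizer_wr
    intro q hq w
    unfold torA'
    by_cases hw : w ∈ O
    · rw [if_pos hw, if_pos ((hO q hq w).mpr hw)]
    · rw [if_neg hw, if_neg (fun h => hw ((hO q hq w).mp h))]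
  · apply Dg_mem_normalizer_wr
    rintro _ ⟨h, q, hq, rfl⟩ b
    rcases b with ⟨w, y⟩ | j
    · simp only [mk_inl, torA, Sum.elim_inl]
      by_cases hw : w ∈ O
      · rw [if_pos hw, if_pos ((hO q hq w).mpr hw)]
      · rw [if_neg hw, if_neg (fun h => hw ((hO q hq w).mp h))]
    · simp [torA]

end Cfsg.Agent.H9AF
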