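import Mathlib
import Cfsg.Agent.Lib.Helper9.AltFus5

set_option autoImplicit false

/-!
# Strongly closed subgroups of Sylow subgroups of symmetric groups: the induction
-/

namespace Cfsg.Agent.H9AF

open Equiv

variable {p : ℕ} [Fact p.Prime]

theorem support_permCongr {α β : Type} [DecidableEq α] [Fintype α] [DecidableEq β] [Fintype β]
    (ε : α ≃ β) (σ : Perm α) : (ε.permCongr σ).support = σ.support.map ε.toEmbedding := by
  ext x
  simp only [Perm.mem_support, Equiv.permCongr_apply, ne_eq, Finset.mem_map, Equiv.coe_toEmbedding]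
  constructor
  · intro h
    refine ⟨ε.symm x, ?_, by simp⟩
    intro h2
    apply h
    rw [h2]; simp
  · rintro ⟨y, hy, rfl⟩ h
    apply hy
    simpa using h

theorem SCprop.congr {α β : Type} [DecidableEq α] [Fintype α] [DecidableEq β] [Fintype β]
    (ε : α ≃ β) (h : SCprop p β) : SCprop p α := by
  intro P T hP hTP hcl hc
  obtain ⟨c, hcT, hc⟩ := hc
  obtain ⟨φ, hφ⟩ : ∃ φ : Perm α ≃* Perm β, φ = ε.permCongrHom := ⟨_, rfl⟩
  have hφa : ∀ σ : Perm α, φ σ = ε.permCongr σ := by intro σ; rw [hφ]; rfl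
  have hinj : Function.Injective φ.toMonoidHom := φ.injective
  have hP' : IsSyl p (P.map φ.toMonoidHom) := by
    unfold IsSyl at hP ⊢
    rw [Subgroup.card_map_of_injective hinj, hP, Nat.card_congr φ.toEquiv]
  have hsign : ∀ σ : Perm α, Perm.sign (φ σ) = Perm.sign σ := by
    intro σ; rw [hφa, Perm.sign_permCongr]
  have hmain : P.map φ.toMonoidHom ≤ T.map φ.toMonoidHom := by
    apply h _ _ hP' (Subgroup.map_mono hTP)
    · rintro _ ⟨t, ht, rfl⟩ g' hg' hgP
      obtain ⟨g, rfl⟩ := φ.surjective g'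
      have e1 : φ g * φ.toMonoidHom t * (φ g)⁻¹ = φ.toMonoidHom (g * t * g⁻¹) := by
        simp
      rw [e1] at hgP ⊢
      obtain ⟨y, hy, hyy⟩ := hgP
      have := hinj hyy
      subst this
      refine ⟨_, hcl t ht g ?_ hy, rfl⟩
      rw [← hsign]; exact hg'
    · refine ⟨φ c, ⟨c, hcT, rfl⟩, ?_, ?_⟩
      · rw [MulEquiv.orderOf_eq]; exact hc.1
      · rw [hφa, support_permCongr, Finset.card_map]; exact hc.2
  intro x hx
  obtain ⟨t, ht, htx⟩ := hmain ⟨x, hx, rfl⟩
  rw [← hinj htx]; exact ht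

theorem scprop_aux : ∀ (N : ℕ) (α : Type) [Fintype α] [DecidableEq α], Fintype.card α = N →
    SCprop p α := by
  have hp : p.Prime := Fact.out
  intro N
  induction N using Nat.strong_induction_on with
  | _ N IH =>
  intro α _ _ hN
  intro P T hP hTP hcl hc
  have hc' := hc
  obtain ⟨c, hcT, hcc⟩ := hc'
  have hpN : p ≤ N := by
    rw [← hN, ← hcc.2]
    exact Finset.card_le_univ _
  have hk : N / p < N := Nat.div_lt_self (lt_of_lt_of_le hp.pos hpN) hp.one_lt
  have hc₂ : N % p < p := Nat.mod_lt _ hp.pos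
  have hcardOm : Fintype.card α = Fintype.card (Om p (Fin (N / p)) (Fin (N % p))) := by
    rw [Fintype.card_sum, Fintype.card_prod, ZMod.card, Fintype.card_fin, Fintype.card_fin, hN]
    exact (Nat.div_add_mod' N p).symm
  obtain ⟨ε⟩ : Nonempty (α ≃ Om p (Fin (N / p)) (Fin (N % p))) := Fintype.card_eq.mp hcardOm
  refine SCprop.congr ε ?_ P T hP hTP hcl hc
  clear hc hcc hcT c hcl hTP hP P T
  intro P T hP hTP hcl hc
  obtain ⟨c, hcT, hcc⟩ := hc
  have S₂ : Sylow p (Perm (Fin (N / p))) := default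
  have hP₂ : IsSyl p (S₂ : Subgroup (Perm (Fin (N / p)))) := isSyl_sylow S₂
  have hP'' : IsSyl p (wr p (Fin (N % p)) (S₂ : Subgroup (Perm (Fin (N / p))))) := by
    apply isSyl_wr _ _ hP₂
    rw [Nat.card_eq_fintype_card, Fintype.card_fin]; exact hc₂
  obtain ⟨g, hg⟩ := hP.conj hP''
  obtain ⟨T'', hT''⟩ : ∃ T'' : Subgroup (Perm (Om p (Fin (N / p)) (Fin (N % p)))),
    T'' = T.comap (MulAut.conj g).toMonoidHom := ⟨_, rfl⟩
  have hmem : ∀ y, y ∈ T'' ↔ g * y * g⁻¹ ∈ T := by
    intro y; rw [hT'', Subgroup.mem_comap]; rfl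
  have hmain : wr p (Fin (N % p)) (S₂ : Subgroup (Perm (Fin (N / p)))) ≤ T'' := by
    apply closed_wr (by rw [Fintype.card_fin]; exact hc₂) _ hP₂
      (IH (N / p) hk (Fin (N / p)) (Fintype.card_fin _)) T'' ?_ ?_ (g⁻¹ * c * g) ?_ ?_
    · intro y hy
      have h1 := (hg _).mp (hTP ((hmem y).mp hy))
      have : g⁻¹ * (g * y * g⁻¹) * g = y := by group
      rwa [this] at h1
    · intro t ht h hh hhP
      rw [hmem]
      have e1 : g * (h * t * h⁻¹) * g⁻¹ = (g * h * g⁻¹) * (g * t * g⁻¹) * (g * h * g⁻¹)⁻¹ := by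
        group
      rw [e1]
      apply hcl _ ((hmem t).mp ht)
      · rw [map_mul, map_mul, map_inv, hh, mul_one, mul_inv_cancel]
      · rw [← e1, hg]
        have : g⁻¹ * (g * (h * t * h⁻¹) * g⁻¹) * g = h * t * h⁻¹ := by group
        rw [this]; exact hhP
    · rw [hmem]
      have : g * (g⁻¹ * c * g) * g⁻¹ = c := by group
      rw [this]; exact hcT
    · have := hcc.conj g⁻¹
      rwa [inv_inv] at this
  intro x hx
  have h1 := hmain ((hg x).mp hx)
  rw [hmem] at h1
  have : g * (g⁻¹ * x * g) * g⁻¹ = x := by group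
  rwa [this] at h1

theorem scprop_all (α : Type) [Fintype α] [DecidableEq α] : SCprop p α :=
  scprop_aux _ α rfl

end Cfsg.Agent.H9AF
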