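import Mathlib
import Cfsg.Agent.Lib.Lead.Nilpotent
import Cfsg.Agent.Lib.Helper9.AltFus6
import Cfsg.Agent.Lib.Helper9.AltFus14

set_option autoImplicit false

/-!
# Strongly closed subgroups at the top level, odd primes
-/

namespace Cfsg.Agent.H9AF

open Equiv

variable {p : ℕ} [Fact p.Prime] {B Z : Type}

/-- a nontrivial normal subgroup of a finite `p`-group contains a nontrivial central element -/
theorem exists_central_of_normal {G : Type*} [Group G] {P T : Subgroup G} [Finite P]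
    (hP : IsPGroup p P) (hTP : T ≤ P) (hT : T ≠ ⊥) (hnorm : ∀ g ∈ P, ∀ t ∈ T, g * t * g⁻¹ ∈ T) :
    ∃ z ∈ T, z ≠ 1 ∧ ∀ x ∈ P, x * z = z * x := by
  haveI : Group.IsNilpotent P := hP.isNilpotent
  haveI : (T.subgroupOf P).Normal := by
    constructor
    intro n hn g
    rw [Subgroup.mem_subgroupOf] at hn ⊢
    exact hnorm g g.2 n hn
  have hne : T.subgroupOf P ≠ ⊥ := by
    intro h
    apply hT
    rw [Subgroup.eq_bot_iff_forall] at h ⊢
    intro x hx
    have := h ⟨x, hTP hx⟩ (Subgroup.mem_subgroupOf.mpr hx)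
    exact congrArg Subtype.val this
  have h1 := Cfsg.Agent.Lib.Lead.inf_center_ne_bot (T.subgroupOf P) hne
  obtain ⟨⟨x, hx⟩, hx1⟩ := (Subgroup.ne_bot_iff_exists_ne_one).mp h1
  obtain ⟨hxT, hxC⟩ := Subgroup.mem_inf.mp hx
  refine ⟨(x : G), Subgroup.mem_subgroupOf.mp hxT, ?_, ?_⟩
  · intro h
    apply hx1
    apply Subtype.ext
    apply Subtype.ext
    exact h
  · intro y hy
    rw [Subgroup.mem_center_iff] at hxC
    have := hxC ⟨y, hy⟩
    exact congrArg Subtype.val this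

/-- for odd `p`, a `p`-subgroup consists of even permutations -/
theorem sign_eq_one_of_isPGroup {α : Type} [Fintype α] [DecidableEq α] (hp2 : p ≠ 2)
    {P : Subgroup (Perm α)} (hP : IsPGroup p P) {σ : Perm α} (hσ : σ ∈ P) : Perm.sign σ = 1 := by
  obtain ⟨k, hk⟩ := hP ⟨σ, hσ⟩
  have h1 : σ ^ p ^ k = 1 := congrArg Subtype.val hk
  obtain ⟨j, -, hj⟩ := (Nat.dvd_prime_pow (Fact.out : p.Prime)).mp (orderOf_dvd_of_pow_eq_one h1)
  exact sign_eq_one_of_orderOf hp2 hj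

variable [Fintype B] [DecidableEq B] [Fintype Z] [DecidableEq Z]

/-- if `ef f` lies in a closed subgroup then so does `ef ((a - 1) f)` for an even diagonal `a` -/
theorem ef_diag_diff_mem {Q : Subgroup (Perm B)} {T : Subgroup (Perm (Om p B Z))}
    (hcl : ClosedAlt T (wr p Z Q)) {f : B → ZMod p} (hf : ef Z (Multiplicative.ofAdd f) ∈ T)
    (a : B → (ZMod p)ˣ) (ha : Perm.sign (Dg Z a) = 1) :
    ef Z (Multiplicative.ofAdd (fun b => ((a b : ZMod p) - 1) * f b)) ∈ T := by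
  have h1 : Dg Z a * ef Z (Multiplicative.ofAdd f) * (Dg Z a)⁻¹ ∈ T := by
    apply hcl _ hf _ ha
    rw [Dg_conj_ef]; exact ef_mem_wr _ _
  have h2 := T.mul_mem h1 (T.inv_mem hf)
  rw [Dg_conj_ef, ← map_inv, ← map_mul, ← ofAdd_neg, ← ofAdd_add] at h2
  convert h2 using 3
  funext b
  simp only [Pi.add_apply, Pi.neg_apply]
  ring

theorem closed_top_odd (hp2 : p ≠ 2) [Subsingleton Z] (hB : 3 ≤ Fintype.card B)
    (hpB : p ≤ Fintype.card B) (hZ : Fintype.card Z < p)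
    (P₂ : Subgroup (Perm B)) (hP₂ : IsSyl p P₂) (T : Subgroup (Perm (Om p B Z)))
    (hTP : T ≤ wr p Z P₂) (hT : T ≠ ⊥) (hcl : ClosedAlt T (wr p Z P₂)) : wr p Z P₂ ≤ T := by
  have hp : p.Prime := Fact.out
  have hP : IsSyl p (wr p Z P₂) :=
    isSyl_wr (by rw [Nat.card_eq_fintype_card]; exact hZ) P₂ hP₂
  have hPp : IsPGroup p (wr p Z P₂) := hP.isPGroup
  -- a central element
  obtain ⟨z, hzT, hz1, hzC⟩ := exists_central_of_normal hPp hTP hT (by
    intro g hg t ht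
    apply hcl t ht g (sign_eq_one_of_isPGroup hp2 hPp hg)
    exact Subgroup.mul_mem _ (Subgroup.mul_mem _ hg (hTP ht)) (Subgroup.inv_mem _ hg))
  have hzE : z ∈ Ebase p B Z := by
    apply mem_Ebase_of_commute hB
    intro b b' _
    exact (hzC _ (ef_mem_wr _ _)).symm
  obtain ⟨f, rfl⟩ := mem_Ebase.mp hzE
  have hf0 : f ≠ 0 := by
    rintro rfl
    apply hz1
    rw [ofAdd_zero, map_one]
  obtain ⟨b, hb⟩ : ∃ b, f b ≠ 0 := by
    by_contra h
    push Not at h
    exact hf0 (funext h)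
  obtain ⟨b', hb', -⟩ := exists_ne_ne hB b b
  obtain ⟨b'', hb''1, hb''2⟩ := exists_ne_ne hB b b'
  -- the two dipoles
  have hd : ∀ c c' : B, Perm.sign (Dg Z (Pi.mulSingle c (-1 : (ZMod p)ˣ) * Pi.mulSingle c' (-1 : (ZMod p)ˣ)⁻¹)) = 1 := by
    intro c c'
    exact Perm.mem_alternatingGroup.mp (closure_pElts_le_alt _
      (Dg_dipole_mem_closure hp2 hB hpB c c' (-1)))
  have h1 := ef_diag_diff_mem hcl hzT _ (hd b b')
  have h2 := ef_diag_diff_mem hcl h1 _ (hd b b'')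
  have h4 : (4 : ZMod p) ≠ 0 := by
    have h2' : (2 : ZMod p) ≠ 0 := by
      intro h
      have : ((2 : ℕ) : ZMod p) = 0 := by exact_mod_cast h
      rw [ZMod.natCast_eq_zero_iff] at this
      have := (Nat.prime_dvd_prime_iff_eq hp Nat.prime_two).mp this
      exact hp2 this
    have : (4 : ZMod p) = 2 * 2 := by norm_num
    rw [this]
    exact mul_ne_zero h2' h2'
  have h3 : (fun b₀ => ((((Pi.mulSingle b (-1 : (ZMod p)ˣ) * Pi.mulSingle b'' (-1 : (ZMod p)ˣ)⁻¹ : B → (ZMod p)ˣ) b₀ : (ZMod p)ˣ) : ZMod p) - 1) *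
      (((((Pi.mulSingle b (-1 : (ZMod p)ˣ) * Pi.mulSingle b' (-1 : (ZMod p)ˣ)⁻¹ : B → (ZMod p)ˣ) b₀ : (ZMod p)ˣ) : ZMod p) - 1) * f b₀)) =
      Pi.single b (4 * f b) := by
    funext b₀
    simp only [Pi.mul_apply, Pi.mulSingle_apply, Pi.single_apply]
    by_cases e1 : b₀ = b
    · subst e1
      rw [if_pos rfl, if_neg (Ne.symm hb''1), if_neg (Ne.symm hb'), if_pos rfl]
      simp only [mul_one, Units.val_neg, Units.val_one]
      ring
    · rw [if_neg e1, if_neg e1]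
      by_cases e2 : b₀ = b'
      · subst e2
        rw [if_neg (Ne.symm hb''2)]
        simp
      · rw [if_neg e2]
        simp
  rw [h3] at h2
  exact scprop_all (Om p B Z) _ T hP hTP hcl
    ⟨_, h2, isPCyc_ef_single b (mul_ne_zero h4 hb)⟩

end Cfsg.Agent.H9AF
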