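import Mathlib
import Cfsg.Agent.Lib.Helper9.AltFus15

set_option autoImplicit false

/-!
# Generation of the normaliser of the Sylow subgroup by good elements, odd primes
-/

namespace Cfsg.Agent.H9AF

open Equiv

variable {p : ℕ} [Fact p.Prime] {W J Z : Type}
variable [Fintype W] [DecidableEq W] [Fintype J] [DecidableEq J] [Fintype Z] [DecidableEq Z]

theorem chi_pow [Subsingleton Z] {B : Type} [Fintype B] [DecidableEq B] {g : Perm (Om p B Z)}
    (hg : g ∈ Subgroup.normalizer ((Ebase p B Z : Subgroup _) : Set (Perm (Om p B Z)))) (k : ℕ) :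
    chi (g ^ k) = chi g ^ k := by
  induction k with
  | zero => simp [chi_one]
  | succ k ih =>
    rw [pow_succ, chi_mul (Subgroup.pow_mem _ hg k) hg, ih, pow_succ]

/-- the set of good generators -/
def goodGens (p : ℕ) [Fact p.Prime] (W J Z : Type) [Fintype W] [DecidableEq W] [Fintype J]
    [DecidableEq J] [Fintype Z] [DecidableEq Z] (Q : Subgroup (Perm W)) (O : Finset W)
    (a₀ : (ZMod p)ˣ) : Set (Perm (Om2 p W J Z)) :=
  {γ | γ ∈ Subgroup.closure (pElts p (Ebase p (Om p W J) Z)) ∧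
    γ ∈ Subgroup.normalizer ((wr p Z (wr p J Q) : Subgroup _) : Set (Perm (Om2 p W J Z)))} ∪
    {LO J Z O (dg2 a₀)}

theorem normalizer_le_closure_goodGens (hp2 : p ≠ 2) [Subsingleton Z] [Nonempty W]
    (Q : Subgroup (Perm W)) (O : Finset W) (hO : ∀ q ∈ Q, ∀ w, q w ∈ O ↔ w ∈ O) {j : ℕ}
    (hOc : O.card = p ^ j) (a₀ : (ZMod p)ˣ) (ha₀ : ∀ c : (ZMod p)ˣ, ∃ k : ℕ, a₀ ^ k = c)
    (g : Perm (Om2 p W J Z)) (hgA : g ∈ alternatingGroup (Om2 p W J Z))
    (hgN : g ∈ Subgroup.normalizer ((wr p Z (wr p J Q) : Subgroup _) : Set (Perm (Om2 p W J Z)))) :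
    g ∈ Subgroup.closure (goodGens p W J Z Q O a₀) := by
  have hp : p.Prime := Fact.out
  have hp3 : 3 ≤ p := by
    have := hp.two_le
    omega
  have hcardB : p ≤ Fintype.card (Om p W J) := by
    rw [Fintype.card_sum, Fintype.card_prod, ZMod.card]
    have : 0 < Fintype.card W := Fintype.card_pos
    nlinarith
  have hB3 : 3 ≤ Fintype.card (Om p W J) := le_trans hp3 hcardB
  have hg₁N := LO_dg2_mem_normalizer (J := J) (Z := Z) O a₀ hO
  have hg₁E := normalizer_wr_le hg₁N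
  have hgE := normalizer_wr_le hgN
  have hg₁cl := LO_dg2_mem_closure (J := J) (Z := Z) hp2 O a₀
  have hg₁A : LO J Z O (dg2 a₀) ∈ alternatingGroup (Om2 p W J Z) :=
    closure_pElts_le_alt _ hg₁cl
  have hg₁Γ : LO J Z O (dg2 a₀) ∈ Subgroup.closure (goodGens p W J Z Q O a₀) :=
    Subgroup.subset_closure (Or.inr rfl)
  obtain ⟨a, t, π, hgen⟩ := exists_gen_of_mem_normalizer hgE
  obtain ⟨k, hk⟩ := ha₀ (∏ b, a b)
  -- the corrected element
  obtain ⟨g', hg'⟩ : ∃ g' : Perm (Om2 p W J Z), g' = g * (LO J Z O (dg2 a₀) ^ k)⁻¹ := ⟨_, rfl⟩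
  have hg'N : g' ∈ Subgroup.normalizer
      ((wr p Z (wr p J Q) : Subgroup _) : Set (Perm (Om2 p W J Z))) := by
    rw [hg']
    exact Subgroup.mul_mem _ hgN (Subgroup.inv_mem _ (Subgroup.pow_mem _ hg₁N k))
  have hg'A : g' ∈ alternatingGroup (Om2 p W J Z) := by
    rw [hg']
    exact Subgroup.mul_mem _ hgA (Subgroup.inv_mem _ (Subgroup.pow_mem _ hg₁A k))
  have hg'E := normalizer_wr_le hg'N
  have hchi : chi g' * chi (LO J Z O (dg2 a₀) ^ k) = chi g := by
    rw [← chi_mul hg'E (Subgroup.pow_mem _ hg₁E k), hg', inv_mul_cancel_right]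
  rw [chi_pow hg₁E, chi_LO_dg2 O a₀ hOc, hgen, chi_gen, ← Units.val_pow_eq_pow_val, hk,
    Units.coe_prod] at hchi
  obtain ⟨a', t', π', hgen'⟩ := exists_gen_of_mem_normalizer hg'E
  have hprod : ∏ b, a' b = 1 := by
    rw [hgen', chi_gen, ← Units.coe_prod, ← Units.coe_prod] at hchi
    have h1 : (∏ b, a' b) * (∏ b, a b) = ∏ b, a b := by
      apply Units.ext
      rw [Units.val_mul]; exact hchi
    exact mul_eq_right.mp h1
  have hg'cl : g' ∈ Subgroup.closure (pElts p (Ebase p (Om p W J) Z)) := by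
    rw [hgen']
    apply gen_mem_closure hp2 hB3 hcardB a' t' π' hprod
    rw [← hgen']
    exact Perm.mem_alternatingGroup.mp hg'A
  have hg'Γ : g' ∈ Subgroup.closure (goodGens p W J Z Q O a₀) :=
    Subgroup.subset_closure (Or.inl ⟨hg'cl, hg'N⟩)
  have : g = g' * LO J Z O (dg2 a₀) ^ k := by rw [hg', inv_mul_cancel_right]
  rw [this]
  exact Subgroup.mul_mem _ hg'Γ (Subgroup.pow_mem _ hg₁Γ k)

end Cfsg.Agent.H9AF
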