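import Mathlib
import Cfsg.Prelude
import Cfsg.Agent.Lib.Helper9.AltFus0
import Cfsg.Agent.Lib.Helper9.AltFus16

set_option autoImplicit false

/-!
# Simplicity of the fusion system of the alternating group, odd primes
-/

namespace Cfsg.Agent.H9AF

open Equiv Cfsg

variable {p : ℕ} [Fact p.Prime]

/-- an orbit of a `p`-subgroup of a symmetric group, as an invariant finite set of `p`-power size -/
theorem exists_orbit_finset {W : Type} [Fintype W] [DecidableEq W] (Q : Subgroup (Perm W))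
    (hQ : IsPGroup p Q) (w₀ : W) :
    ∃ O : Finset W, (∀ q ∈ Q, ∀ w, q w ∈ O ↔ w ∈ O) ∧ ∃ j : ℕ, O.card = p ^ j := by
  classical
  refine ⟨Finset.univ.filter (fun w => ∃ q ∈ Q, q w₀ = w), ?_, ?_⟩
  · intro q₁ hq₁ w
    simp only [Finset.mem_filter, Finset.mem_univ, true_and]
    constructor
    · rintro ⟨q, hq, h⟩
      refine ⟨q₁⁻¹ * q, Q.mul_mem (Q.inv_mem hq₁) hq, ?_⟩
      rw [Perm.mul_apply, h, Perm.coe_inv, Equiv.symm_apply_apply]
    · rintro ⟨q, hq, rfl⟩
      exact ⟨q₁ * q, Q.mul_mem hq₁ hq, rfl⟩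
  · obtain ⟨j, hj⟩ := hQ.card_orbit (α := W) w₀
    refine ⟨j, ?_⟩
    rw [← hj, Nat.card_eq_fintype_card, ← Set.toFinset_card]
    congr 1
    ext w
    simp only [Finset.mem_filter, Finset.mem_univ, true_and, Set.mem_toFinset, MulAction.mem_orbit_iff]
    constructor
    · rintro ⟨q, hq, rfl⟩
      exact ⟨⟨q, hq⟩, rfl⟩
    · rintro ⟨⟨q, hq⟩, rfl⟩
      exact ⟨q, hq, rfl⟩

/-- the embedding of the alternating group along a relabelling of the points -/
def altEmb {n : ℕ} {Ω : Type} (e : Fin n ≃ Ω) : alternatingGroup (Fin n) →* Perm Ω :=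
  (e.permCongrHom.toMonoidHom).comp (alternatingGroup (Fin n)).subtype

theorem altEmb_injective {n : ℕ} {Ω : Type} (e : Fin n ≃ Ω) : Function.Injective (altEmb e) := by
  intro x y h
  apply Subtype.ext
  exact e.permCongrHom.injective h

theorem altEmb_range {n : ℕ} {Ω : Type} [Fintype Ω] [DecidableEq Ω] (e : Fin n ≃ Ω) :
    (altEmb e).range = alternatingGroup Ω := by
  ext x
  constructor
  · rintro ⟨⟨g, hg⟩, rfl⟩
    rw [Perm.mem_alternatingGroup] at hg ⊢
    show Perm.sign (e.permCongr g) = 1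
    rw [Perm.sign_permCongr]; exact hg
  · intro hx
    rw [Perm.mem_alternatingGroup] at hx
    refine ⟨⟨e.symm.permCongr x, ?_⟩, ?_⟩
    · rw [Perm.mem_alternatingGroup, Perm.sign_permCongr]; exact hx
    · show e.permCongr (e.symm.permCongr x) = x
      ext y
      simp [Equiv.permCongr_apply]

theorem card_alt_factorization (hp2 : p ≠ 2) {Ω : Type} [Fintype Ω] [DecidableEq Ω] [Nontrivial Ω] :
    (Nat.card (alternatingGroup Ω)).factorization p = (Nat.card (Perm Ω)).factorization p := by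
  have hp : p.Prime := Fact.out
  rw [← two_mul_nat_card_alternatingGroup, Nat.factorization_mul (by norm_num)
    (Nat.card_pos.ne'), Finsupp.add_apply, Nat.Prime.factorization Nat.prime_two,
    Finsupp.single_apply, if_neg (fun h => hp2 h.symm), zero_add]

theorem alt_simple_odd (hp2 : p ≠ 2) (n k' r' r : ℕ) (hk' : 1 ≤ k') (hr' : r' < p) (hr : r ≤ 1)
    (hn : n = (k' * p + r') * p + r) (S : Sylow p (alternatingGroup (Fin n))) :
    (groupFusionSystem (S : Subgroup (alternatingGroup (Fin n)))).IsSimple p := by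
  have hp : p.Prime := Fact.out
  have hp3 : 3 ≤ p := by
    have := hp.two_le
    omega
  haveI : Subsingleton (Fin r) := Fin.subsingleton_iff_le_one.mpr hr
  haveI : Nonempty (Fin k') := ⟨⟨0, hk'⟩⟩
  have hcardΩ : Fintype.card (Fin n) = Fintype.card (Om2 p (Fin k') (Fin r') (Fin r)) := by
    simp only [Fintype.card_sum, Fintype.card_prod, ZMod.card, Fintype.card_fin]
    exact hn
  obtain ⟨e⟩ : Nonempty (Fin n ≃ Om2 p (Fin k') (Fin r') (Fin r)) := Fintype.card_eq.mp hcardΩ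
  have hcardB : p ≤ Fintype.card (Om p (Fin k') (Fin r')) := by
    simp only [Fintype.card_sum, Fintype.card_prod, ZMod.card, Fintype.card_fin]
    nlinarith
  have hB3 : 3 ≤ Fintype.card (Om p (Fin k') (Fin r')) := le_trans hp3 hcardB
  haveI : Nontrivial (Om2 p (Fin k') (Fin r') (Fin r)) := by
    apply Fintype.one_lt_card_iff_nontrivial.mp
    rw [← hcardΩ, Fintype.card_fin, hn]
    have h1 : 1 * p ≤ k' * p := Nat.mul_le_mul_right p hk'
    have h2 : (k' * p) * 1 ≤ (k' * p + r') * p := Nat.mul_le_mul (Nat.le_add_right _ _) hp.one_le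
    omega
  -- the Sylow subgroup
  have S' : Sylow p (Perm (Fin k')) := default
  obtain ⟨Q, hQdef⟩ : ∃ Q : Subgroup (Perm (Fin k')), Q = (S' : Subgroup (Perm (Fin k'))) := ⟨_, rfl⟩
  have hQ : IsSyl p Q := by rw [hQdef]; exact isSyl_sylow S'
  have hP₂ : IsSyl p (wr p (Fin r') Q) :=
    isSyl_wr (by rw [Nat.card_eq_fintype_card, Fintype.card_fin]; exact hr') Q hQ
  have hZ : Fintype.card (Fin r) < p := by rw [Fintype.card_fin]; omega
  have hP : IsSyl p (wr p (Fin r) (wr p (Fin r') Q)) :=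
    isSyl_wr (by rw [Nat.card_eq_fintype_card]; exact hZ) _ hP₂
  obtain ⟨O, hO, j, hOc⟩ := exists_orbit_finset Q hQ.isPGroup (⟨0, hk'⟩ : Fin k')
  obtain ⟨a₀, ha₀⟩ := IsCyclic.exists_monoid_generator (α := (ZMod p)ˣ)
  have ha₀' : ∀ c : (ZMod p)ˣ, ∃ k : ℕ, a₀ ^ k = c := fun c => (Submonoid.mem_powers_iff c a₀).mp (ha₀ c)
  have hPA : wr p (Fin r) (wr p (Fin r') Q) ≤ alternatingGroup (Om2 p (Fin k') (Fin r') (Fin r)) := by
    intro σ hσ
    exact Perm.mem_alternatingGroup.mpr (sign_eq_one_of_isPGroup hp2 hP.isPGroup hσ)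
  refine simple_of_data_hom (altEmb e) (altEmb_injective e) _ (altEmb_range e) p
    (wr p (Fin r) (wr p (Fin r') Q)) hPA ?_ ?_ ?_
    (goodGens p (Fin k') (Fin r') (Fin r) Q O a₀) ?_ ?_ S
  · rw [card_alt_factorization hp2]; exact hP
  · intro h
    have h1 : ef (Fin r) (Multiplicative.ofAdd (Pi.single (Sum.inl ((⟨0, hk'⟩ : Fin k'), 0)) (1 : ZMod p))) ∈
        wr p (Fin r) (wr p (Fin r') Q) := ef_mem_wr _ _
    rw [h, Subgroup.mem_bot] at h1
    have h2 := (isPCyc_ef_single (C := Fin r) (Sum.inl ((⟨0, hk'⟩ : Fin k'), (0 : ZMod p)) : Om p (Fin k') (Fin r'))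
      (one_ne_zero : (1 : ZMod p) ≠ 0)).1
    rw [h1, orderOf_one] at h2
    exact hp.one_lt.ne h2
  · intro T hTP hT hcl
    apply closed_top_odd hp2 hB3 hcardB hZ _ hP₂ T hTP hT
    intro t ht g hg hgP
    exact hcl t ht g (Perm.mem_alternatingGroup.mpr hg) hgP
  · intro g hgA hgN
    exact normalizer_le_closure_goodGens hp2 Q O hO hOc a₀ ha₀' g hgA hgN
  · rintro γ (⟨hγ1, hγ2⟩ | hγ)
    · refine ⟨closure_pElts_le_alt _ hγ1, hγ2, Ebase p _ _, Ebase_le_wr _, ?_, hγ1⟩
      intro x _ hx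
      apply mem_Ebase_of_commute hB3
      intro b b' _
      exact hx _ (ef_mem_Ebase _)
    · rw [Set.mem_singleton_iff] at hγ
      subst hγ
      have hcl := LO_dg2_mem_closure (J := Fin r') (Z := Fin r) hp2 O a₀
      refine ⟨closure_pElts_le_alt _ hcl, LO_dg2_mem_normalizer O a₀ hO, Rsb p _ _ _,
        Rsb_le_wr Q, ?_, hcl⟩
      intro x _ hx
      apply mem_Rsb_of_commute
      intro u v f
      exact hx _ (rho_mem_Rsb u v f)

end Cfsg.Agent.H9AF
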