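import Mathlib
import Cfsg.Agent.Lib.Helper9.AltFus15

set_option autoImplicit false

/-!
# The prime two: weak closure of the even part of the base group
-/

namespace Cfsg.Agent.H9AF

open Equiv

variable {B Z : Type} [Fintype B] [DecidableEq B]

theorem zmod_two_cases (x : ZMod 2) : x = 0 ∨ x = 1 := by
  fin_cases x
  · left; rfl
  · right; rfl

theorem zmod_two_ne {x y : ZMod 2} (h : x ≠ y) : y = x + 1 := by
  rcases zmod_two_cases x with rfl | rfl <;> rcases zmod_two_cases y with rfl | rfl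
  · exact absurd rfl h
  · rfl
  · rfl
  · exact absurd rfl h

/-- the points moved by a dipole -/
theorem dip_apply_ne {b b' : B} {y : Om 2 B Z} (h : (dip Z b b' : Perm (Om 2 B Z)) y ≠ y) :
    ∃ x : ZMod 2, y = Sum.inl (b, x) ∨ y = Sum.inl (b', x) := by
  rcases y with ⟨b'', x⟩ | c
  · refine ⟨x, ?_⟩
    by_cases h1 : b'' = b
    · left; rw [h1]
    · by_cases h2 : b'' = b'
      · right; rw [h2]
      · exfalso
        apply h
        rw [dip_inl, Pi.single_apply, Pi.single_apply, if_neg h1, if_neg h2]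
        simp
  · exact absurd (dip_inr b b' c) h

theorem dip_inl_left {b b' : B} (hbb : b ≠ b') (x : ZMod 2) :
    (dip Z b b' : Perm (Om 2 B Z)) (Sum.inl (b, x)) = Sum.inl (b, x + 1) := by
  rw [dip_inl, Pi.single_apply, Pi.single_apply, if_pos rfl, if_neg hbb]
  simp

/-- a permutation conjugating all dipoles into the full wreath product lies in it -/
theorem mem_wr_top_of_conj_dip [Subsingleton Z] (hB : 3 ≤ Fintype.card B) (g : Perm (Om 2 B Z))
    (h : ∀ b b' : B, b ≠ b' → g * dip Z b b' * g⁻¹ ∈ wr 2 Z (⊤ : Subgroup (Perm B))) :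
    g ∈ wr 2 Z (⊤ : Subgroup (Perm B)) := by
  -- blocks go to blocks
  have h1 : ∀ b : B, ∃ (b' : B) (t : ZMod 2), g (Sum.inl (b, 0)) = Sum.inl (b', t) ∧
      g (Sum.inl (b, 1)) = Sum.inl (b', t + 1) := by
    intro b
    obtain ⟨b₂, hb₂, -⟩ := exists_ne_ne hB b b
    obtain ⟨b₃, hb₃, hb₃₂⟩ := exists_ne_ne hB b b₂
    have hne : g (Sum.inl (b, 1)) ≠ g (Sum.inl (b, 0)) := by
      intro h'
      have := g.injective h'
      simp at this
    -- the conjugate of a dipole
    have key : ∀ b' : B, b' ≠ b → ∃ (f : B → ZMod 2) (q : Perm B),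
        (mk f q : Perm (Om 2 B Z)) (g (Sum.inl (b, 0))) = g (Sum.inl (b, 1)) ∧
        ∀ y, (mk f q : Perm (Om 2 B Z)) y ≠ y → ∃ x : ZMod 2, g⁻¹ y = Sum.inl (b, x) ∨ g⁻¹ y = Sum.inl (b', x) := by
      intro b' hb'
      obtain ⟨f, q, -, hfq⟩ := h b b' (Ne.symm hb')
      refine ⟨f, q, ?_, ?_⟩
      · rw [← hfq, Perm.mul_apply, Perm.mul_apply, Perm.coe_inv, Equiv.symm_apply_apply,
          dip_inl_left (Ne.symm hb'), zero_add]
      · intro y hy
        rw [← hfq, Perm.mul_apply, Perm.mul_apply] at hy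
        apply dip_apply_ne (b := b) (b' := b')
        intro h'
        apply hy
        rw [h', Perm.coe_inv, Equiv.apply_symm_apply]
    obtain ⟨f₂, q₂, hfq₂, hmv₂⟩ := key b₂ hb₂
    obtain ⟨f₃, q₃, hfq₃, hmv₃⟩ := key b₃ hb₃
    rcases hu : g (Sum.inl (b, 0)) with ⟨bu, xu⟩ | c
    · rw [hu, mk_inl] at hfq₂
      by_cases hbu : q₂ bu = bu
      · refine ⟨bu, xu, rfl, ?_⟩
        rw [← hfq₂, hbu]
        congr 2
        apply zmod_two_ne
        intro h'
        apply hne
        rw [← hfq₂, hu, hbu, ← h']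
      · exfalso
        -- the other point of the block of `u`
        have hmove : ∀ (f : B → ZMod 2) (q : Perm B), q bu ≠ bu →
            (mk f q : Perm (Om 2 B Z)) (Sum.inl (bu, xu + 1)) ≠ Sum.inl (bu, xu + 1) := by
          intro f q hq h'
          rw [mk_inl] at h'
          simp only [Sum.inl.injEq, Prod.mk.injEq] at h'
          exact hq h'.1
        have hq₃ : q₃ bu ≠ bu := by
          intro h'
          rw [hu, mk_inl, h'] at hfq₃
          rw [← hfq₃] at hfq₂
          simp only [Sum.inl.injEq, Prod.mk.injEq] at hfq₂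
          exact hbu hfq₂.1
        obtain ⟨x₂, hx₂⟩ := hmv₂ _ (hmove f₂ q₂ hbu)
        obtain ⟨x₃, hx₃⟩ := hmv₃ _ (hmove f₃ q₃ hq₃)
        -- `g⁻¹ u'` is not in the block `b`
        have hnb : ∀ x : ZMod 2, g⁻¹ (Sum.inl (bu, xu + 1)) ≠ Sum.inl (b, x) := by
          intro x h'
          rw [Perm.inv_eq_iff_eq] at h'
          rcases zmod_two_cases x with rfl | rfl
          · rw [hu] at h'
            simp at h'
          · rw [← hfq₂] at h'
            simp only [Sum.inl.injEq, Prod.mk.injEq] at h'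
            exact hbu h'.1.symm
        rcases hx₂ with hx₂ | hx₂
        · exact hnb _ hx₂
        rcases hx₃ with hx₃ | hx₃
        · exact hnb _ hx₃
        rw [hx₂] at hx₃
        simp only [Sum.inl.injEq, Prod.mk.injEq] at hx₃
        exact hb₃₂ hx₃.1.symm
    · exfalso
      rw [hu, mk_inr] at hfq₂
      exact hne (hfq₂.symm.trans hu.symm)
  choose π₀ t₀ h0 h1' using h1
  have h2 : ∀ (b : B) (x : ZMod 2), g (Sum.inl (b, x)) = Sum.inl (π₀ b, x + t₀ b) := by
    intro b x
    rcases zmod_two_cases x with rfl | rfl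
    · rw [h0, zero_add]
    · rw [h1', add_comm]
  have hinj : Function.Injective π₀ := by
    intro b b' hbb
    have e1 := h2 b (t₀ b' - t₀ b)
    rw [sub_add_cancel, hbb] at e1
    have e2 := h2 b' 0
    rw [zero_add] at e2
    have := g.injective (e1.trans e2.symm)
    simp only [Sum.inl.injEq, Prod.mk.injEq] at this
    exact this.1
  obtain ⟨π, hπ⟩ : ∃ π : Perm B, ∀ b, π b = π₀ b :=
    ⟨Equiv.ofBijective π₀ (Finite.injective_iff_bijective.mp hinj), fun b => rfl⟩
  refine ⟨t₀, π, Subgroup.mem_top _, ?_⟩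
  ext y
  rcases y with ⟨b, x⟩ | c
  · rw [h2, mk_inl, hπ]
  · rw [mk_inr]
    rcases hQ : g (Sum.inr c) with ⟨b', x⟩ | c'
    · exfalso
      obtain ⟨b, hb⟩ := π.surjective b'
      have e1 := h2 b (x - t₀ b)
      rw [sub_add_cancel, ← hπ, hb, ← hQ] at e1
      have := g.injective e1
      simp at this
    · rw [Subsingleton.elim c' c]

end Cfsg.Agent.H9AF
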