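import Mathlib
import Cfsg.Agent.Lib.Helper9.AltFus18

set_option autoImplicit false

/-!
# The prime two: the even part of the base group and its normaliser
-/

namespace Cfsg.Agent.H9AF

open Equiv

variable {B Z : Type} [Fintype B] [DecidableEq B] [Fintype Z] [DecidableEq Z]

variable (B Z) in
/-- the even part of the base group -/
def E0 : Subgroup (Perm (Om 2 B Z)) := Ebase 2 B Z ⊓ alternatingGroup (Om 2 B Z)

theorem sign_hat_two (q : Perm B) : Perm.sign (hat 2 Z q) = 1 := by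
  rw [sign_hat]
  exact Int.units_sq _

theorem hat_mem_alt (q : Perm B) : hat 2 Z q ∈ alternatingGroup (Om 2 B Z) :=
  Perm.mem_alternatingGroup.mpr (sign_hat_two q)

theorem dip_eq_mul (b b' : B) :
    (dip Z b b' : Perm (Om 2 B Z)) =
      ef Z (Multiplicative.ofAdd (Pi.single b 1)) * (ef Z (Multiplicative.ofAdd (Pi.single b' 1)))⁻¹ := by
  unfold dip
  rw [← map_inv, ← map_mul, ← ofAdd_neg, ← ofAdd_add, sub_eq_add_neg]

theorem dip_mem_E0 (b b' : B) : dip Z b b' ∈ E0 B Z := by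
  refine ⟨ef_mem_Ebase _, ?_⟩
  show dip Z b b' ∈ alternatingGroup (Om 2 B Z)
  rw [Perm.mem_alternatingGroup, dip_eq_mul, map_mul, map_inv, sign_ef_single_two rfl,
    sign_ef_single_two rfl]
  rfl

theorem mem_E0_of_commute [Subsingleton Z] (hB : 3 ≤ Fintype.card B) (x : Perm (Om 2 B Z))
    (hx : x ∈ alternatingGroup (Om 2 B Z)) (h : ∀ r ∈ E0 B Z, x * r = r * x) : x ∈ E0 B Z := by
  refine ⟨?_, hx⟩
  apply mem_Ebase_of_commute hB
  intro b b' _
  exact h _ (dip_mem_E0 b b')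

theorem mem_normalizer_inf {G : Type*} [Group G] {H K : Subgroup G} {g : G}
    (hH : g ∈ Subgroup.normalizer (H : Set G)) (hK : g ∈ Subgroup.normalizer (K : Set G)) :
    g ∈ Subgroup.normalizer ((H ⊓ K : Subgroup G) : Set G) := by
  rw [Subgroup.mem_normalizer_iff] at hH hK ⊢
  intro x
  rw [Subgroup.mem_inf, Subgroup.mem_inf, hH x, hK x]

theorem mem_normalizer_E0 {g : Perm (Om 2 B Z)}
    (hg : g ∈ Subgroup.normalizer ((Ebase 2 B Z : Subgroup _) : Set (Perm (Om 2 B Z)))) :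
    g ∈ Subgroup.normalizer ((E0 B Z : Subgroup _) : Set (Perm (Om 2 B Z))) := by
  apply mem_normalizer_inf hg
  rw [Subgroup.normalizer_eq_top]
  exact Subgroup.mem_top g

/-- even elements of the full wreath product are products of `2`-elements normalising `E0` -/
theorem mem_closure_pElts_two {g : Perm (Om 2 B Z)} (hgW : g ∈ wr 2 Z (⊤ : Subgroup (Perm B)))
    (hgA : g ∈ alternatingGroup (Om 2 B Z)) :
    g ∈ Subgroup.closure (pElts 2 (E0 B Z)) := by
  obtain ⟨f, q, -, rfl⟩ := hgW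
  rw [mk_eq] at hgA ⊢
  have h1 : hat 2 Z q ∈ Subgroup.closure (pElts 2 (E0 B Z)) := by
    have hq : q ∈ Subgroup.closure {σ : Perm B | σ.IsSwap} := by
      rw [Perm.closure_isSwap]; exact Subgroup.mem_top q
    have h2 : hat 2 Z q ∈ (Subgroup.closure {σ : Perm B | σ.IsSwap}).map (hat 2 Z) := ⟨q, hq, rfl⟩
    rw [MonoidHom.map_closure] at h2
    refine Subgroup.closure_mono ?_ h2
    rintro _ ⟨s, hs, rfl⟩
    refine ⟨hat_mem_alt s, mem_normalizer_E0 (hat_mem_normalizer_Ebase s), ?_⟩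
    apply exists_orderOf_eq_pow
    obtain ⟨x, y, hxy, rfl⟩ := hs
    rw [← map_pow, sq, swap_mul_self, map_one]
  have h2 : ef Z (Multiplicative.ofAdd f) ∈ alternatingGroup (Om 2 B Z) := by
    have := Subgroup.mul_mem _ (Subgroup.inv_mem _ (hat_mem_alt (Z := Z) q)) hgA
    rwa [inv_mul_cancel_left] at this
  refine Subgroup.mul_mem _ h1 (Subgroup.subset_closure ⟨h2, ?_, ?_⟩)
  · exact mem_normalizer_E0 (ef_mem_normalizer_Ebase _)
  · apply exists_orderOf_eq_pow
    rw [← map_pow, ← ofAdd_nsmul]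
    have : (2 : ℕ) • f = 0 := by
      funext b
      simp only [Pi.smul_apply, nsmul_eq_mul, Nat.cast_ofNat, Pi.zero_apply]
      have : (2 : ZMod 2) = 0 := rfl
      rw [this, zero_mul]
    rw [this, ofAdd_zero, map_one]

end Cfsg.Agent.H9AF
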