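import Mathlib
import Cfsg.Agent.Lib.Helper9.AltFus19

set_option autoImplicit false

/-!
# The prime two: strongly closed subgroups at the top level, first steps
-/

namespace Cfsg.Agent.H9AF

open Equiv

variable {B Z : Type} [Fintype B] [DecidableEq B] [Fintype Z] [DecidableEq Z]

theorem exists_perm_two {b b' c c' : B} (hb : b ≠ b') (hc : c ≠ c') :
    ∃ π : Perm B, π b = c ∧ π b' = c' := by
  refine ⟨swap (swap b c b') c' * swap b c, ?_, ?_⟩
  · rw [Perm.mul_apply, swap_apply_left, swap_apply_of_ne_of_ne _ hc]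
    intro h
    have := (swap b c).injective (h.symm.trans (swap_apply_left b c).symm)
    exact hb this.symm
  · rw [Perm.mul_apply, swap_apply_left]

theorem single_comp_perm_inv (π : Perm B) (b : B) (s : ZMod 2) :
    (fun x => (Pi.single b s : B → ZMod 2) (π⁻¹ x)) = Pi.single (π b) s := by
  funext x
  rw [Pi.single_apply, Pi.single_apply]
  by_cases h : x = π b
  · rw [if_pos h, if_pos]
    rw [h, Perm.coe_inv, Equiv.symm_apply_apply]
  · rw [if_neg h, if_neg]
    intro h'
    apply h
    rw [← h', Perm.coe_inv, Equiv.apply_symm_apply]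

theorem hat_conj_dip (π : Perm B) (b b' : B) :
    hat 2 Z π * dip Z b b' * (hat 2 Z π)⁻¹ = dip Z (π b) (π b') := by
  unfold dip
  rw [hat_conj_ef]
  congr 2
  have h1 := single_comp_perm_inv π b 1
  have h2 := single_comp_perm_inv π b' 1
  funext x
  have e1 := congrFun h1 x
  have e2 := congrFun h2 x
  simp only [Pi.sub_apply] at e1 e2 ⊢
  rw [e1, e2]

theorem filter_dip {b b' : B} (hbb : b ≠ b') :
    (Finset.univ.filter (fun c => (Pi.single b 1 - Pi.single b' 1 : B → ZMod 2) c ≠ 0)) = {b, b'} := by
  ext c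
  simp only [Finset.mem_filter, Finset.mem_univ, true_and, Pi.sub_apply, Pi.single_apply,
    Finset.mem_insert, Finset.mem_singleton]
  by_cases h1 : c = b
  · subst h1
    rw [if_pos rfl, if_neg hbb]
    simp
  · by_cases h2 : c = b'
    · subst h2
      rw [if_neg h1, if_pos rfl]
      simp
    · rw [if_neg h1, if_neg h2]
      simp [h1, h2]

theorem card_support_dip {b b' : B} (hbb : b ≠ b') :
    (dip Z b b' : Perm (Om 2 B Z)).support.card = 4 := by
  unfold dip
  rw [card_support_ef, filter_dip hbb, Finset.card_pair hbb]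

theorem orderOf_dip {b b' : B} (hbb : b ≠ b') : orderOf (dip Z b b' : Perm (Om 2 B Z)) = 2 := by
  unfold dip
  apply orderOf_ef
  intro h
  have := congrFun h b
  simp only [Pi.sub_apply, Pi.single_eq_same, Pi.single_apply, if_neg hbb, sub_zero,
    Pi.zero_apply] at this
  exact one_ne_zero this

/-- the hat of a transposition is conjugate to a dipole under an even permutation -/
theorem exists_even_conj_dip_hat_swap {b b' : B} (hbb : b ≠ b') :
    ∃ u : Perm (Om 2 B Z), Perm.sign u = 1 ∧ u * dip Z b b' * u⁻¹ = hat 2 Z (swap b b') := by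
  have ho : orderOf (hat 2 Z (swap b b') : Perm (Om 2 B Z)) = 2 := by
    rw [orderOf_hat]
    exact Perm.IsSwap.orderOf ⟨b, b', hbb, rfl⟩
  have hc : (dip Z b b' : Perm (Om 2 B Z)).support.card = (hat 2 Z (swap b b')).support.card := by
    rw [card_support_dip hbb, card_support_hat, Perm.card_support_swap hbb]
  obtain ⟨u, hu⟩ := exists_conj_of_prime_order (p := 2) (orderOf_dip hbb) ho hc
  refine exists_even_conj (ν := ef Z (Multiplicative.ofAdd (Pi.single b (1 : ZMod 2)))) hu ?_
    (sign_ef_single_two rfl b)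
  unfold dip
  rw [← (ef Z).map_mul, ← (ef Z).map_mul, mul_comm]

end Cfsg.Agent.H9AF
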