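import Mathlib
import Cfsg.Agent.Lib.Helper9.AltFus20

set_option autoImplicit false

/-!
# The prime two: strongly closed subgroups at the top level
-/

namespace Cfsg.Agent.H9AF

open Equiv

variable {B Z : Type} [Fintype B] [DecidableEq B] [Fintype Z] [DecidableEq Z]

/-- closed under conjugation by the alternating group inside `P` -/
def ClosedIn {α : Type} [Fintype α] [DecidableEq α] (T P : Subgroup (Perm α)) : Prop :=
  ∀ t ∈ T, ∀ g ∈ alternatingGroup α, g * t * g⁻¹ ∈ P → g * t * g⁻¹ ∈ T

theorem zmod_two_add_ne {x y : ZMod 2} (h : x ≠ y) : x + y = 1 := by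
  rcases zmod_two_cases x with rfl | rfl <;> rcases zmod_two_cases y with rfl | rfl
  · exact absurd rfl h
  · rfl
  · rfl
  · exact absurd rfl h

theorem zmod_two_add_self (x : ZMod 2) : x + x = 0 := by
  rcases zmod_two_cases x with rfl | rfl <;> rfl

/-- all even elements of the base group are in `T` once all dipoles are -/
theorem E0_le_of_dip_mem {T : Subgroup (Perm (Om 2 B Z))}
    (hTA : T ≤ alternatingGroup (Om 2 B Z))
    (hdip : ∀ c c' : B, c ≠ c' → dip Z c c' ∈ T) : E0 B Z ≤ T := by
  rintro σ ⟨hσE, hσA⟩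
  obtain ⟨f, rfl⟩ := mem_Ebase.mp hσE
  by_cases hne : Nonempty B
  swap
  · have : f = 0 := by
      funext b; exact absurd ⟨b⟩ hne
    rw [this, ofAdd_zero, map_one]; exact T.one_mem
  obtain ⟨b₀⟩ := hne
  have hterm : ∀ b : B, ef Z (Multiplicative.ofAdd (Pi.single b (f b) - Pi.single b₀ (f b))) ∈ T := by
    intro b
    by_cases hb : b = b₀
    · subst hb
      rw [sub_self, ofAdd_zero, map_one]; exact T.one_mem
    rcases zmod_two_cases (f b) with h | h
    · rw [h, Pi.single_zero, Pi.single_zero, sub_self, ofAdd_zero, map_one]; exact T.one_mem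
    · rw [h]; exact hdip b b₀ hb
  have h5 : ∀ S : Finset B,
      ef Z (Multiplicative.ofAdd (∑ b ∈ S, (Pi.single b (f b) - Pi.single b₀ (f b)))) ∈ T := by
    intro S
    induction S using Finset.induction_on with
    | empty => simp
    | insert a S ha ih =>
      rw [Finset.sum_insert ha, ofAdd_add, map_mul]
      exact T.mul_mem (hterm a) ih
  have hsum : f = (∑ b, (Pi.single b (f b) - Pi.single b₀ (f b))) + Pi.single b₀ (∑ b, f b) := by
    rw [Finset.sum_sub_distrib, Finset.univ_sum_single]
    have : ∑ b, (Pi.single b₀ (f b) : B → ZMod 2) = Pi.single b₀ (∑ b, f b) := by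
      funext c
      rw [Finset.sum_apply]
      by_cases hc : c = b₀
      · subst hc; simp
      · simp [Pi.single_apply, hc]
    rw [this, sub_add_cancel]
  have h5u := h5 Finset.univ
  obtain ⟨F, hF⟩ : ∃ F : B → ZMod 2, F = ∑ b, (Pi.single b (f b) - Pi.single b₀ (f b)) := ⟨_, rfl⟩
  obtain ⟨s, hs⟩ : ∃ s : ZMod 2, s = ∑ b, f b := ⟨_, rfl⟩
  rw [← hF] at h5u hsum
  rw [← hs] at hsum
  rw [hsum, ofAdd_add, map_mul] at hσA ⊢
  have h6 : ef Z (Multiplicative.ofAdd (Pi.single b₀ s)) ∈ alternatingGroup (Om 2 B Z) := by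
    have h7 := hTA h5u
    have h8 := Subgroup.mul_mem _ (Subgroup.inv_mem _ h7) hσA
    rwa [inv_mul_cancel_left] at h8
  have h9 : s = 0 := by
    rcases zmod_two_cases s with h | h
    · exact h
    · exfalso
      rw [h, Perm.mem_alternatingGroup, sign_ef_single_two rfl] at h6
      exact absurd h6 (by decide)
  rw [h9, Pi.single_zero, ofAdd_zero, map_one, mul_one]
  exact h5u

end Cfsg.Agent.H9AF
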