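import Mathlib
import Cfsg.Agent.Lib.Helper9.AltFus21

set_option autoImplicit false

/-!
# The prime two: strongly closed subgroups at the top level, conclusion
-/

namespace Cfsg.Agent.H9AF

open Equiv

variable {B Z : Type} [Fintype B] [DecidableEq B] [Fintype Z] [DecidableEq Z]

theorem E0_le_inf (Q : Subgroup (Perm B)) :
    E0 B Z ≤ wr 2 Z Q ⊓ alternatingGroup (Om 2 B Z) :=
  inf_le_inf_right _ (Ebase_le_wr Q)

/-- a dipole in `T` -/
theorem exists_dip_mem [Subsingleton Z] (hB : 3 ≤ Fintype.card B) (hZ : Fintype.card Z < 2)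
    (P₂ : Subgroup (Perm B)) (hP₂ : IsSyl 2 P₂) (T : Subgroup (Perm (Om 2 B Z)))
    (hTP : T ≤ wr 2 Z P₂ ⊓ alternatingGroup (Om 2 B Z)) (hT : T ≠ ⊥)
    (hcl : ClosedIn T (wr 2 Z P₂ ⊓ alternatingGroup (Om 2 B Z))) :
    ∃ b b' : B, b ≠ b' ∧ dip Z b b' ∈ T := by
  have hP₁ : IsSyl 2 (wr 2 Z P₂) :=
    isSyl_wr (by rw [Nat.card_eq_fintype_card]; exact hZ) P₂ hP₂
  have hPp : IsPGroup 2 (wr 2 Z P₂ ⊓ alternatingGroup (Om 2 B Z) : Subgroup _) :=
    hP₁.isPGroup.to_le inf_le_left
  have hnorm : ∀ g ∈ (wr 2 Z P₂ ⊓ alternatingGroup (Om 2 B Z) : Subgroup _), ∀ t ∈ T,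
      g * t * g⁻¹ ∈ T := by
    intro g hg t ht
    apply hcl t ht g hg.2
    exact Subgroup.mul_mem _ (Subgroup.mul_mem _ hg (hTP ht)) (Subgroup.inv_mem _ hg)
  obtain ⟨z, hzT, hz1, hzC⟩ := exists_central_of_normal hPp hTP hT hnorm
  have hzE : z ∈ Ebase 2 B Z := by
    apply mem_Ebase_of_commute hB
    intro b b' _
    exact (hzC _ (E0_le_inf P₂ (dip_mem_E0 b b'))).symm
  obtain ⟨f, rfl⟩ := mem_Ebase.mp hzE
  have hzA : ef Z (Multiplicative.ofAdd f) ∈ alternatingGroup (Om 2 B Z) := (hTP hzT).2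
  have hf0 : f ≠ 0 := by
    rintro rfl
    apply hz1
    rw [ofAdd_zero, map_one]
  by_cases hconst : ∃ b b' : B, f b ≠ f b'
  · obtain ⟨b, b', hbb⟩ := hconst
    have hne : b ≠ b' := fun h => hbb (by rw [h])
    refine ⟨b, b', hne, ?_⟩
    have h1 : hat 2 Z (swap b b') * ef Z (Multiplicative.ofAdd f) * (hat 2 Z (swap b b'))⁻¹ ∈ T := by
      apply hcl _ hzT _ (hat_mem_alt _)
      refine ⟨?_, ?_⟩
      · rw [hat_conj_ef]; exact ef_mem_wr _ _
      · exact Subgroup.mul_mem _ (Subgroup.mul_mem _ (hat_mem_alt _) hzA)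
          (Subgroup.inv_mem _ (hat_mem_alt _))
    have h2 := T.mul_mem hzT h1
    rw [hat_conj_ef, ← map_mul, ← ofAdd_add] at h2
    have e : dip Z b b' = ef Z (Multiplicative.ofAdd (f + fun b_1 => f ((swap b b')⁻¹ b_1))) := by
      unfold dip
      congr 2
      funext c
      simp only [Pi.sub_apply, Pi.add_apply, Pi.single_apply, swap_inv]
      by_cases h3 : c = b
      · subst h3
        rw [if_pos rfl, if_neg hne, swap_apply_left, zmod_two_add_ne hbb]
        rfl
      · by_cases h4 : c = b'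
        · subst h4
          rw [if_neg h3, if_pos rfl, swap_apply_right, zmod_two_add_ne (Ne.symm hbb)]
          rfl
        · rw [if_neg h3, if_neg h4, swap_apply_of_ne_of_ne h3 h4, zmod_two_add_self]
          rfl
    rw [e]; exact h2
  · push Not at hconst
    have hall : ∀ b, f b = 1 := by
      intro b
      rcases zmod_two_cases (f b) with h | h
      · exfalso
        apply hf0
        funext c
        rw [hconst c b, h]; rfl
      · exact h
    have hB2 : 2 ≤ Fintype.card B := by omega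
    obtain ⟨τ, hτP, hτ⟩ := hP₂.exists_isPCyc hB2
    obtain ⟨b, b', hbb, rfl⟩ := Perm.card_support_eq_two.mp hτ.2
    obtain ⟨b'', hb''1, hb''2⟩ := exists_ne_ne hB b b'
    refine ⟨b, b', hbb, ?_⟩
    obtain ⟨f', hf'⟩ : ∃ f' : B → ZMod 2, f' = fun c => if c = b ∨ c = b' then 0 else 1 := ⟨_, rfl⟩
    obtain ⟨y, hy⟩ : ∃ y : Perm (Om 2 B Z), y = mk f' (swap b b') := ⟨_, rfl⟩
    have hf'swap : ∀ c, f' (swap b b' c) = f' c := by
      intro c
      rw [hf']
      by_cases h3 : c = b
      · subst h3; simp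
      · by_cases h4 : c = b'
        · subst h4; simp
        · rw [swap_apply_of_ne_of_ne h3 h4]
    have hyP₁ : y ∈ wr 2 Z P₂ := by rw [hy]; exact mk_mem_wr.mpr hτP
    have hy2 : y ^ 2 = 1 := by
      rw [hy, sq, mk_mul, swap_mul_self]
      have : (fun c => f' c + f' (swap b b' c)) = 0 := by
        funext c
        rw [hf'swap, zmod_two_add_self]; rfl
      rw [this, mk_one]
    have hy1 : y ≠ 1 := by
      intro h
      rw [hy, ← mk_one (p := 2) (B := B) (C := Z)] at h
      have := (mk_inj h).2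
      exact hbb (swap_eq_one_iff.mp this)
    have hyo : orderOf y = 2 := orderOf_eq_prime hy2 hy1
    have hzo : orderOf (ef Z (Multiplicative.ofAdd f)) = 2 := orderOf_ef hf0
    have hysupp : y.support = Finset.univ.map ⟨Sum.inl, Sum.inl_injective⟩ := by
      ext v
      rcases v with ⟨c, x⟩ | c
      · simp only [Perm.mem_support, hy, mk_inl, ne_eq, Sum.inl.injEq, Prod.mk.injEq, not_and,
          Finset.mem_map, Finset.mem_univ, Function.Embedding.coeFn_mk, true_and, exists_eq]
        simp only [iff_true]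
        intro h3
        have h4 : ¬ (c = b ∨ c = b') := by
          rintro (h4 | h4)
          · rw [h4, swap_apply_left] at h3; exact hbb h3.symm
          · rw [h4, swap_apply_right] at h3; exact hbb h3
        have hf'c : f' c = 1 := by rw [hf']; exact if_neg h4
        rw [hf'c]
        intro h5
        have : (1 : ZMod 2) = 0 := by
          have := congrArg (fun t => t - x) h5
          simpa using this
        exact one_ne_zero this
      · simp [hy]
    have hzsupp : (ef Z (Multiplicative.ofAdd f)).support = Finset.univ.map ⟨Sum.inl, Sum.inl_injective⟩ := by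
      rw [support_ef]
      ext v
      rcases v with ⟨c, x⟩ | c
      · simp [hall c]
      · simp
    obtain ⟨u, hu⟩ := exists_conj_of_prime_order (p := 2) hzo hyo (by rw [hysupp, hzsupp])
    obtain ⟨u', hu'1, hu'2⟩ := exists_even_conj
      (ν := ef Z (Multiplicative.ofAdd (Pi.single b (1 : ZMod 2)))) hu
      (by rw [← (ef Z).map_mul, ← (ef Z).map_mul, mul_comm]) (sign_ef_single_two rfl b)
    have hu'A : u' ∈ alternatingGroup (Om 2 B Z) := Perm.mem_alternatingGroup.mpr hu'1
    have hyA : y ∈ alternatingGroup (Om 2 B Z) := by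
      rw [← hu'2]
      exact Subgroup.mul_mem _ (Subgroup.mul_mem _ hu'A hzA) (Subgroup.inv_mem _ hu'A)
    have hyT : y ∈ T := by
      rw [← hu'2]
      apply hcl _ hzT _ hu'A
      rw [hu'2]
      exact ⟨hyP₁, hyA⟩
    -- commutator with a dipole
    have hd := E0_le_inf P₂ (dip_mem_E0 (Z := Z) b b'')
    have h1 := hnorm _ hd _ hyT
    have h2 := T.mul_mem h1 (T.inv_mem hyT)
    have e1 : dip Z b b'' * y * (dip Z b b'')⁻¹ * y⁻¹ = dip Z b b'' * (y * dip Z b b'' * y⁻¹)⁻¹ := by
      group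
    have e2 : y * dip Z b b'' * y⁻¹ = dip Z b' b'' := by
      rw [hy, mk_eq]
      have e3 : hat 2 Z (swap b b') * ef Z (Multiplicative.ofAdd f') * dip Z b b'' *
          (hat 2 Z (swap b b') * ef Z (Multiplicative.ofAdd f'))⁻¹ =
          hat 2 Z (swap b b') * (ef Z (Multiplicative.ofAdd f') * dip Z b b'' *
            (ef Z (Multiplicative.ofAdd f'))⁻¹) * (hat 2 Z (swap b b'))⁻¹ := by group
      rw [e3]
      have e4 : ef Z (Multiplicative.ofAdd f') * dip Z b b'' * (ef Z (Multiplicative.ofAdd f'))⁻¹ =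
          dip Z b b'' := by
        unfold dip
        rw [← (ef Z).map_mul, mul_comm, (ef Z).map_mul, mul_inv_cancel_right]
      rw [e4, hat_conj_dip, swap_apply_left, swap_apply_of_ne_of_ne hb''1 hb''2]
    rw [e1, e2] at h2
    convert h2 using 1
    unfold dip
    rw [← map_inv, ← (ef Z).map_mul, ← ofAdd_neg, ← ofAdd_add]
    congr 2
    funext c
    simp only [Pi.sub_apply, Pi.add_apply, Pi.neg_apply]
    ring

end Cfsg.Agent.H9AF
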