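import Mathlib
import Cfsg.Prelude
import Cfsg.Agent.Lib.Helper9.AltFus17
import Cfsg.Agent.Lib.Helper9.AltFus22

set_option autoImplicit false

/-!
# The prime two: conclusion
-/

namespace Cfsg.Agent.H9AF

open Equiv Cfsg

variable {B Z : Type} [Fintype B] [DecidableEq B] [Fintype Z] [DecidableEq Z]

theorem closed_top_two [Subsingleton Z] (hB : 3 ≤ Fintype.card B) (hZ : Fintype.card Z < 2)
    (P₂ : Subgroup (Perm B)) (hP₂ : IsSyl 2 P₂) (T : Subgroup (Perm (Om 2 B Z)))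
    (hTP : T ≤ wr 2 Z P₂ ⊓ alternatingGroup (Om 2 B Z)) (hT : T ≠ ⊥)
    (hcl : ClosedIn T (wr 2 Z P₂ ⊓ alternatingGroup (Om 2 B Z))) :
    wr 2 Z P₂ ⊓ alternatingGroup (Om 2 B Z) ≤ T := by
  obtain ⟨b, b', hbb, hdip⟩ := exists_dip_mem hB hZ P₂ hP₂ T hTP hT hcl
  -- all dipoles
  have hall : ∀ c c' : B, c ≠ c' → dip Z c c' ∈ T := by
    intro c c' hcc
    obtain ⟨π, hπ1, hπ2⟩ := exists_perm_two hbb hcc
    have h1 := hat_conj_dip (Z := Z) π b b'
    rw [hπ1, hπ2] at h1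
    rw [← h1]
    apply hcl _ hdip _ (hat_mem_alt π)
    rw [h1]
    exact E0_le_inf P₂ (dip_mem_E0 c c')
  have hE0 : E0 B Z ≤ T := E0_le_of_dip_mem (hTP.trans inf_le_right) hall
  -- block permutations
  obtain ⟨T₂, hT₂⟩ : ∃ T₂ : Subgroup (Perm B), T₂ = (T.comap (hat 2 Z)) ⊓ P₂ := ⟨_, rfl⟩
  have hmem : ∀ q : Perm B, q ∈ T₂ ↔ hat 2 Z q ∈ T ∧ q ∈ P₂ := by
    intro q; rw [hT₂, Subgroup.mem_inf, Subgroup.mem_comap]
  have hB2 : 2 ≤ Fintype.card B := by omega
  obtain ⟨τ, hτP, hτ⟩ := hP₂.exists_isPCyc hB2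
  have hτT : hat 2 Z τ ∈ T := by
    obtain ⟨c, c', hcc, rfl⟩ := Perm.card_support_eq_two.mp hτ.2
    obtain ⟨u, hu1, hu2⟩ := exists_even_conj_dip_hat_swap (Z := Z) hcc
    rw [← hu2]
    apply hcl _ (hall c c' hcc) _ (Perm.mem_alternatingGroup.mpr hu1)
    rw [hu2]
    exact ⟨hat_mem_wr.mpr hτP, hat_mem_alt _⟩
  have h1 : P₂ ≤ T₂ := by
    apply scprop_all (p := 2) B P₂ T₂ hP₂
    · intro q hq; exact ((hmem q).mp hq).2
    · intro t ht g _ hgP
      rw [hmem]
      refine ⟨?_, hgP⟩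
      rw [map_mul, map_mul, map_inv]
      apply hcl _ ((hmem t).mp ht).1 _ (hat_mem_alt g)
      rw [← map_inv, ← map_mul, ← map_mul]
      exact ⟨hat_mem_wr.mpr hgP, hat_mem_alt _⟩
    · exact ⟨τ, (hmem τ).mpr ⟨hτT, hτP⟩, hτ⟩
  rintro σ ⟨⟨f, q, hq, rfl⟩, hσA⟩
  have hqT : hat 2 Z q ∈ T := ((hmem q).mp (h1 hq)).1
  have hσA' : (mk f q : Perm (Om 2 B Z)) ∈ alternatingGroup (Om 2 B Z) := hσA
  rw [mk_eq] at hσA' ⊢
  refine T.mul_mem hqT (hE0 ⟨ef_mem_Ebase _, ?_⟩)
  have := Subgroup.mul_mem _ (Subgroup.inv_mem _ (hat_mem_alt (Z := Z) q)) hσA'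
  rwa [inv_mul_cancel_left] at this

/-- the order of the even part of a Sylow `2`-subgroup of the symmetric group -/
theorem card_inf_alt {α : Type} [Fintype α] [DecidableEq α] [Nontrivial α]
    (P : Subgroup (Perm α)) (hP : IsSyl 2 P) (hodd : ∃ σ ∈ P, Perm.sign σ = -1) :
    Nat.card (P ⊓ alternatingGroup α : Subgroup (Perm α)) =
      2 ^ (Nat.card (alternatingGroup α)).factorization 2 := by
  have h1 : (alternatingGroup α).relIndex P = 2 := by
    have hd : (alternatingGroup α).relIndex P ∣ 2 := by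
      rw [← alternatingGroup.index_eq_two (α := α)]
      exact Subgroup.relIndex_dvd_index_of_normal _ _
    rcases (Nat.dvd_prime Nat.prime_two).mp hd with h | h
    · exfalso
      rw [Subgroup.relIndex_eq_one] at h
      obtain ⟨σ, hσ, hs⟩ := hodd
      have := Perm.mem_alternatingGroup.mp (h hσ)
      rw [this] at hs
      exact absurd hs (by decide)
    · exact h
  have h2 : Nat.card (P ⊓ alternatingGroup α : Subgroup (Perm α)) * 2 = Nat.card P := by
    have h3 := Subgroup.relIndex_mul_relIndex (H := (⊥ : Subgroup (Perm α)))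
      (K := P ⊓ alternatingGroup α) (L := P) bot_le inf_le_left
    rw [Subgroup.relIndex_bot_left, Subgroup.relIndex_bot_left, Subgroup.inf_relIndex_left, h1] at h3
    exact h3
  have h3 : (Nat.card (Perm α)).factorization 2 =
      (Nat.card (alternatingGroup α)).factorization 2 + 1 := by
    rw [← two_mul_nat_card_alternatingGroup, Nat.factorization_mul (by norm_num)
      (Nat.card_pos.ne'), Finsupp.add_apply, Nat.Prime.factorization Nat.prime_two,
      Finsupp.single_apply, if_pos rfl, add_comm]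
  unfold IsSyl at hP
  rw [hP, h3, pow_succ] at h2
  exact Nat.eq_of_mul_eq_mul_right (by norm_num) h2

end Cfsg.Agent.H9AF
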