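import Mathlib
import Cfsg.Prelude
import Cfsg.Agent.Lib.Helper9.AltFus23

set_option autoImplicit false

/-!
# Simplicity of the fusion system of the alternating group at the prime two
-/

namespace Cfsg.Agent.H9AF

open Equiv Cfsg

theorem alt_simple_two (n k r : ℕ) (hk : 3 ≤ k) (hr : r ≤ 1) (hn : n = k * 2 + r)
    (S : Sylow 2 (alternatingGroup (Fin n))) :
    (groupFusionSystem (S : Subgroup (alternatingGroup (Fin n)))).IsSimple 2 := by
  haveI : Subsingleton (Fin r) := Fin.subsingleton_iff_le_one.mpr hr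
  have hcardΩ : Fintype.card (Fin n) = Fintype.card (Om 2 (Fin k) (Fin r)) := by
    simp only [Fintype.card_sum, Fintype.card_prod, ZMod.card, Fintype.card_fin]
    exact hn
  obtain ⟨e⟩ : Nonempty (Fin n ≃ Om 2 (Fin k) (Fin r)) := Fintype.card_eq.mp hcardΩ
  have hB3 : 3 ≤ Fintype.card (Fin k) := by rw [Fintype.card_fin]; exact hk
  haveI : Nontrivial (Om 2 (Fin k) (Fin r)) := by
    apply Fintype.one_lt_card_iff_nontrivial.mp
    rw [← hcardΩ, Fintype.card_fin, hn]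
    omega
  have hZ : Fintype.card (Fin r) < 2 := by rw [Fintype.card_fin]; omega
  have S' : Sylow 2 (Perm (Fin k)) := default
  obtain ⟨P₂, hP₂def⟩ : ∃ P₂ : Subgroup (Perm (Fin k)), P₂ = (S' : Subgroup (Perm (Fin k))) := ⟨_, rfl⟩
  have hP₂ : IsSyl 2 P₂ := by rw [hP₂def]; exact isSyl_sylow S'
  have hP₁ : IsSyl 2 (wr 2 (Fin r) P₂) :=
    isSyl_wr (by rw [Nat.card_eq_fintype_card]; exact hZ) P₂ hP₂
  have b0 : Fin k := ⟨0, by omega⟩
  have b1 : Fin k := ⟨1, by omega⟩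
  obtain ⟨b, b', hbb⟩ : ∃ b b' : Fin k, b ≠ b' :=
    ⟨⟨0, by omega⟩, ⟨1, by omega⟩, by simp [Fin.ext_iff]⟩
  have hE0P : E0 (Fin k) (Fin r) ≤ wr 2 (Fin r) P₂ ⊓ alternatingGroup (Om 2 (Fin k) (Fin r)) :=
    E0_le_inf P₂
  refine simple_of_data_hom (altEmb e) (altEmb_injective e) _ (altEmb_range e) 2
    (wr 2 (Fin r) P₂ ⊓ alternatingGroup (Om 2 (Fin k) (Fin r))) inf_le_right ?_ ?_ ?_
    {γ | γ ∈ alternatingGroup (Om 2 (Fin k) (Fin r)) ∧
      γ ∈ Subgroup.normalizer ((wr 2 (Fin r) P₂ ⊓ alternatingGroup (Om 2 (Fin k) (Fin r)) :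
        Subgroup _) : Set (Perm (Om 2 (Fin k) (Fin r))))} ?_ ?_ S
  · apply card_inf_alt _ hP₁
    exact ⟨_, ef_mem_wr P₂ _, sign_ef_single_two rfl b⟩
  · intro h
    have h1 := hE0P (dip_mem_E0 (Z := Fin r) b b')
    rw [h, Subgroup.mem_bot] at h1
    have h2 := orderOf_dip (Z := Fin r) hbb
    rw [h1, orderOf_one] at h2
    exact absurd h2 (by norm_num)
  · intro T hTP hT hcl
    exact closed_top_two hB3 hZ P₂ hP₂ T hTP hT hcl
  · intro g hgA hgN
    exact Subgroup.subset_closure ⟨hgA, hgN⟩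
  · rintro γ ⟨hγA, hγN⟩
    refine ⟨hγA, hγN, E0 (Fin k) (Fin r), hE0P, ?_, ?_⟩
    · intro x hxA hx
      exact mem_E0_of_commute hB3 x hxA hx
    · apply mem_closure_pElts_two _ hγA
      apply mem_wr_top_of_conj_dip hB3
      intro c c' _
      rw [Subgroup.mem_normalizer_iff] at hγN
      have h1 := (hγN _).mp (hE0P (dip_mem_E0 (Z := Fin r) c c'))
      exact wr_mono le_top h1.1

end Cfsg.Agent.H9AF
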