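import Mathlib
import Cfsg.Agent.Lib.Helper9.AltGenA

set_option autoImplicit false

open Equiv Equiv.Perm MulAction

namespace Cfsg.Agent.Lib.Helper9.AltGenA

/-- special case `m = 10`, `x` a product of two 5-cycles, `y` a 7-cycle. -/
theorem special10 (x y : alternatingGroup (Fin 10))
    (hx : orderOf x = 5) (hxs : (x : Perm (Fin 10)).support.card = 10) (hy : orderOf y = 7) :
    ∃ d : ℕ, 5 ≤ d ∧ Nonempty (Subgroup.closure ({x, y} : Set (alternatingGroup (Fin 10))) ≃*
      alternatingGroup (Fin d)) := by
  classical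
  set X : Perm (Fin 10) := (x : Perm (Fin 10)) with hX
  set Y : Perm (Fin 10) := (y : Perm (Fin 10)) with hY
  have hXo : orderOf X = 5 := by rw [hX, Subgroup.orderOf_coe, hx]
  have hYo : orderOf Y = 7 := by rw [hY, Subgroup.orderOf_coe, hy]
  have h7 : Nat.Prime 7 := by norm_num
  have h5 : Nat.Prime 5 := by norm_num
  obtain ⟨hYc, hYs⟩ := isCycle_of_orderOf h7 hYo (by simp)
  set G : Subgroup (Perm (Fin 10)) := Subgroup.closure {X, Y} with hG
  have hXG : X ∈ G := Subgroup.subset_closure (by simp)
  have hYG : Y ∈ G := Subgroup.subset_closure (by simp)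
  -- X has no fixed points
  have hXsupp : ∀ a, X a ≠ a := by
    have h1 : X.support = Finset.univ := by
      apply (Finset.card_eq_iff_eq_univ _).mp
      rw [hxs]; simp
    intro a
    have : a ∈ X.support := by rw [h1]; exact Finset.mem_univ a
    exact Equiv.Perm.mem_support.mp this
  -- every point is moved into the support of Y by a power of X
  have hmove : ∀ a, ∃ i : ℕ, (X ^ i) a ∈ Y.support := by
    intro a
    by_contra hcon
    push Not at hcon
    let f : Fin 5 → {z : Fin 10 // z ∉ Y.support} := fun i => ⟨(X ^ (i : ℕ)) a, hcon i⟩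
    have hinj : Function.Injective f := by
      -- key: X^k a = a with 0 < k < 5 is impossible
      have key : ∀ k : ℕ, 0 < k → k < 5 → (X ^ k) a ≠ a := by
        intro k hk0 hk5 hfix
        have hcop : Nat.Coprime k (orderOf X) := by
          rw [hXo]
          exact ((Nat.Prime.coprime_iff_not_dvd h5).mpr
            (fun hd => by have := Nat.le_of_dvd hk0 hd; omega)).symm
        have h2 : ∀ m : ℕ, ((X ^ k) ^ m) a = a := by
          intro m
          induction m with
          | zero => simp
          | succ n ih => rw [pow_succ, Equiv.Perm.mul_apply, hfix, ih]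
        obtain ⟨m, hm⟩ := exists_pow_eq_self_of_coprime hcop
        have h3 := h2 m
        rw [hm] at h3
        exact hXsupp a h3
      intro i j hij
      have hij' : (X ^ (i : ℕ)) a = (X ^ (j : ℕ)) a := congrArg Subtype.val hij
      by_contra hne
      rcases lt_or_gt_of_ne (fun h => hne (Fin.ext h) : (i : ℕ) ≠ (j : ℕ)) with hlt | hlt
      · apply key ((j : ℕ) - i) (by omega) (by omega)
        have : X ^ (j : ℕ) = X ^ (i : ℕ) * X ^ ((j : ℕ) - i) := by
          rw [← pow_add]; congr 1; omega
        rw [this, Equiv.Perm.mul_apply] at hij'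
        exact ((X ^ (i : ℕ)).injective hij').symm
      · apply key ((i : ℕ) - j) (by omega) (by omega)
        have : X ^ (i : ℕ) = X ^ (j : ℕ) * X ^ ((i : ℕ) - j) := by
          rw [← pow_add]; congr 1; omega
        rw [this, Equiv.Perm.mul_apply] at hij'
        exact (X ^ (j : ℕ)).injective hij'
    have hcard := Fintype.card_le_of_injective f hinj
    have h3 : Fintype.card {z : Fin 10 // z ∉ Y.support} = 3 := by
      rw [Fintype.card_subtype_compl, Fintype.card_fin, Fintype.card_coe, hYs]
    rw [h3, Fintype.card_fin] at hcard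
    omega
  have htrans : IsPretransitive G (Fin 10) := by
    have hS : ∀ a b, a ∈ Y.support → b ∈ Y.support → ∃ g : G, g • a = b := by
      intro a b ha hb
      obtain ⟨i, hi⟩ := hYc.exists_zpow_eq (Equiv.Perm.mem_support.mp ha)
        (Equiv.Perm.mem_support.mp hb)
      exact ⟨⟨Y ^ i, Subgroup.zpow_mem _ hYG i⟩, hi⟩
    constructor
    intro a b
    obtain ⟨i, hi⟩ := hmove a
    obtain ⟨j, hj⟩ := hmove b
    obtain ⟨g, hg⟩ := hS _ _ hi hj
    refine ⟨(⟨X ^ j, Subgroup.pow_mem _ hXG j⟩ : G)⁻¹ * g * ⟨X ^ i, Subgroup.pow_mem _ hXG i⟩, ?_⟩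
    rw [mul_smul, mul_smul]
    have h1 : (⟨X ^ i, Subgroup.pow_mem _ hXG i⟩ : G) • a = (X ^ i) a := rfl
    rw [h1, hg, inv_smul_eq_iff]
    rfl
  have hprim : IsPreprimitive G (Fin 10) :=
    isPreprimitive_of_cycle G h7 hYc hYs hYG (by simp)
  have hA : alternatingGroup (Fin 10) ≤ G :=
    Cfsg.Agent.Lib.Helper2.JordanCycle.alternatingGroup_le_of_cycle G hprim h7 (by simp) hYc hYs hYG
  -- the closure inside the alternating group is everything
  have hmap : (Subgroup.closure ({x, y} : Set (alternatingGroup (Fin 10)))).map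
      (alternatingGroup (Fin 10)).subtype = G := by
    rw [MonoidHom.map_closure, hG]
    congr 1
    ext z
    simp [Set.image_pair, hX, hY]
  have htop : Subgroup.closure ({x, y} : Set (alternatingGroup (Fin 10))) = ⊤ := by
    rw [eq_top_iff]
    intro z _
    have hz : (z : Perm (Fin 10)) ∈ G := hA z.2
    rw [← hmap] at hz
    obtain ⟨w, hw, hwz⟩ := hz
    have : w = z := Subtype.ext hwz
    exact this ▸ hw
  refine ⟨10, by norm_num, ⟨?_⟩⟩
  rw [htop]
  exact Subgroup.topEquiv

end Cfsg.Agent.Lib.Helper9.AltGenA
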