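import Mathlib
import Cfsg.Agent.Lib.Helper9.AltGenA
import Cfsg.Agent.Lib.Helper2.AltGenS
import Cfsg.Agent.S0675

set_option autoImplicit false

open Equiv Equiv.Perm MulAction

namespace Cfsg.Agent.Lib.Helper9.AltGenB1

variable {α : Type*} [Fintype α] [DecidableEq α]

/-- a solvable transitive group of prime degree `p` has order dividing `p (p - 1)`. -/
theorem card_dvd_of_solvable {p : ℕ} [Fact p.Prime] (hα : Fintype.card α = p)
    (G : Subgroup (Perm α)) [IsPretransitive G α] (hsolv : Group.IsSolvable G) :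
    Nat.card G ∣ p * (p - 1) := by
  classical
  obtain ⟨τ, hτG, hτo, hτn⟩ := Cfsg.Agent.Lib.Helper2.PrimeDeg.exists_normal_cycle hα G hsolv
  set t : G := ⟨τ, hτG⟩ with ht
  have hto : orderOf t = p := by rw [← hτo]; exact Subgroup.orderOf_mk τ hτG
  have hZn : (Subgroup.zpowers t).Normal := by
    constructor
    intro n hn k
    obtain ⟨j, rfl⟩ := Subgroup.mem_zpowers_iff.mp hn
    obtain ⟨i, hi⟩ := hτn k.1 k.2
    have h1 : k * t * k⁻¹ = t ^ i := by
      apply Subtype.ext
      simpa using hi
    have h2 : k * t ^ j * k⁻¹ = (k * t * k⁻¹) ^ j := by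
      rw [conj_zpow]
    rw [h2, h1]
    exact Subgroup.zpow_mem _ (Subgroup.pow_mem _ (Subgroup.mem_zpowers t) i) j
  have hZc : Nat.card (Subgroup.zpowers t) = p := by rw [Nat.card_zpowers, hto]
  have hZp : IsPGroup p (Subgroup.zpowers t) := IsPGroup.of_card (n := 1) (by rw [hZc, pow_one])
  obtain ⟨Q, hQ⟩ := hZp.exists_le_sylow
  have hQc := Cfsg.Agent.Lib.Helper2.PrimeDeg.card_sylow hα G Q
  have hZQ : Subgroup.zpowers t = (Q : Subgroup G) :=
    Subgroup.eq_of_le_of_card_ge hQ (by rw [hZc]; exact hQc.le)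
  have hQn : (Q : Subgroup G).Normal := hZQ ▸ hZn
  have hN : Subgroup.normalizer ((Q : Subgroup G) : Set G) = ⊤ := Subgroup.normalizer_eq_top _
  have hd := Cfsg.Agent.Lib.Helper2.PrimeDeg.card_normalizer_dvd hα G Q
  rw [hN, Subgroup.card_top] at hd
  exact hd

/-- Sylow counting in a transitive group of prime degree. -/
theorem sylow_count {p : ℕ} [Fact p.Prime] (hα : Fintype.card α = p)
    (G : Subgroup (Perm α)) [IsPretransitive G α] :
    ∃ r n : ℕ, r ∣ p - 1 ∧ Nat.card G = p * r * n ∧ n ≡ 1 [MOD p] := by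
  classical
  have hp : p.Prime := Fact.out
  obtain ⟨P⟩ : Nonempty (Sylow p G) := inferInstance
  have hPc := Cfsg.Agent.Lib.Helper2.PrimeDeg.card_sylow hα G P
  have hd := Cfsg.Agent.Lib.Helper2.PrimeDeg.card_normalizer_dvd hα G P
  have hPN : p ∣ Nat.card (Subgroup.normalizer ((P : Subgroup G) : Set G)) := by
    have h1 := Subgroup.card_dvd_of_le (Subgroup.le_normalizer (H := (P : Subgroup G)))
    rwa [hPc] at h1
  obtain ⟨r, hr⟩ := hPN
  refine ⟨r, Nat.card (Sylow p G), ?_, ?_, card_sylow_modEq_one p G⟩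
  · rw [hr] at hd
    exact Nat.dvd_of_mul_dvd_mul_left hp.pos hd
  · rw [← hr, Sylow.card_eq_index_normalizer P]
    exact (Subgroup.card_mul_index _).symm

omit [Fintype α] [DecidableEq α] in
/-- gluing: `G` 2-transitive and the pointwise stabilizer of `{a, b}` 2-transitive on the rest
imply `G` 4-transitive. -/
theorem four_trans_of (G : Subgroup (Perm α)) (h2 : IsMultiplyPretransitive G α 2) {a b : α}
    (hab : a ≠ b)
    (hK : ∀ u v w z : α, u ≠ a → u ≠ b → v ≠ a → v ≠ b → w ≠ a → w ≠ b → z ≠ a → z ≠ b →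
      u ≠ v → w ≠ z → ∃ k ∈ G, k a = a ∧ k b = b ∧ k u = w ∧ k v = z) :
    IsMultiplyPretransitive G α 4 := by
  rw [is_two_pretransitive_iff] at h2
  rw [isMultiplyPretransitive_iff]
  intro x y
  have hx : ∀ i j : Fin 4, i ≠ j → x i ≠ x j := fun i j h => x.injective.ne h
  have hy : ∀ i j : Fin 4, i ≠ j → y i ≠ y j := fun i j h => y.injective.ne h
  obtain ⟨g₁, h10, h11⟩ := h2 (hx 0 1 (by decide)) hab
  obtain ⟨g₂, h20, h21⟩ := h2 (hy 0 1 (by decide)) hab
  have hne : ∀ (g : G) (p q : α), p ≠ q → g • p ≠ g • q := fun g p q h => (MulAction.injective g).ne h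
  obtain ⟨k, hk, hka, hkb, hku, hkv⟩ := hK (g₁ • x 2) (g₁ • x 3) (g₂ • y 2) (g₂ • y 3)
    (by rw [← h10]; exact hne _ _ _ (hx 2 0 (by decide)))
    (by rw [← h11]; exact hne _ _ _ (hx 2 1 (by decide)))
    (by rw [← h10]; exact hne _ _ _ (hx 3 0 (by decide)))
    (by rw [← h11]; exact hne _ _ _ (hx 3 1 (by decide)))
    (by rw [← h20]; exact hne _ _ _ (hy 2 0 (by decide)))
    (by rw [← h21]; exact hne _ _ _ (hy 2 1 (by decide)))
    (by rw [← h20]; exact hne _ _ _ (hy 3 0 (by decide)))
    (by rw [← h21]; exact hne _ _ _ (hy 3 1 (by decide)))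
    (hne _ _ _ (hx 2 3 (by decide))) (hne _ _ _ (hy 2 3 (by decide)))
  refine ⟨g₂⁻¹ * ⟨k, hk⟩ * g₁, ?_⟩
  ext i
  rw [Function.Embedding.smul_apply, mul_smul, mul_smul, inv_smul_eq_iff]
  fin_cases i
  · show (⟨k, hk⟩ : G) • g₁ • x 0 = g₂ • y 0
    rw [h10, h20]; exact hka
  · show (⟨k, hk⟩ : G) • g₁ • x 1 = g₂ • y 1
    rw [h11, h21]; exact hkb
  · exact hku
  · exact hkv

/-- an even involution fixing the two fixed points of an 11-cycle `g` of degree 13 cannot
normalize `⟨g⟩`. -/
theorem invol_false {g t : Perm α} (hgc : g.IsCycle) (hgs : g.support.card = 11)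
    (ht1 : t ≠ 1) (ht2 : t * t = 1) (hts : Perm.sign t = 1)
    (htfix : ∀ x, x ∉ g.support → t x = x)
    (hnorm : t * g * t⁻¹ ∈ Subgroup.zpowers g) : False := by
  classical
  have h11 : Nat.Prime 11 := by norm_num
  have hgo : orderOf g = 11 := by rw [hgc.orderOf, hgs]
  have : Fact (Nat.Prime 2) := ⟨Nat.prime_two⟩
  -- cycle type of t
  have hct := cycleType_of_pow_prime_eq_one (σ := t) (p := 2) (by rw [sq]; exact ht2)
  set k := Multiset.card t.cycleType with hk
  have hsum : t.support.card = 2 * k := by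
    rw [← sum_cycleType, hct, Multiset.sum_replicate, smul_eq_mul, mul_comm]
  have hkeven : Even k := by
    have h1 := sign_of_cycleType t
    rw [hts, hct, Multiset.sum_replicate, Multiset.card_replicate, smul_eq_mul] at h1
    have h2 : Even (k * 2 + k) := by
      by_contra hodd
      rw [Nat.not_even_iff_odd] at hodd
      rw [hodd.neg_one_pow] at h1
      exact absurd h1 (by decide)
    rcases Nat.even_or_odd k with h | h
    · exact h
    · exfalso
      rw [Nat.even_add] at h2
      have : Even (k * 2) := ⟨k, by ring⟩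
      exact (Nat.not_even_iff_odd.mpr h) (h2.mp this)
  have hkpos : 0 < k := by
    rw [hk, card_cycleType_pos]
    exact ht1
  have hsub : t.support ⊆ g.support := by
    intro x hx
    by_contra hxg
    exact (Equiv.Perm.mem_support.mp hx) (htfix x hxg)
  have hle : 2 * k ≤ 11 := by
    rw [← hsum, ← hgs]; exact Finset.card_le_card hsub
  have hk24 : 2 * k ≤ 8 := by
    obtain ⟨m, hm⟩ := hkeven
    omega
  -- two fixed points in the support of g
  have hcard : 1 < (g.support \ t.support).card := by
    rw [Finset.card_sdiff_of_subset hsub, hgs, hsum]; omega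
  obtain ⟨u, hu, v, hv, huv⟩ := Finset.one_lt_card.mp hcard
  rw [Finset.mem_sdiff] at hu hv
  have hug : g u ≠ u := Equiv.Perm.mem_support.mp hu.1
  have hvg : g v ≠ v := Equiv.Perm.mem_support.mp hv.1
  have htu : t u = u := by
    by_contra h; exact hu.2 (Equiv.Perm.mem_support.mpr h)
  have htv : t v = v := by
    by_contra h; exact hv.2 (Equiv.Perm.mem_support.mpr h)
  have htinv : t⁻¹ = t := by
    rw [inv_eq_iff_mul_eq_one]; exact ht2
  obtain ⟨j, hj⟩ := hgc.exists_pow_eq hug hvg
  -- t commutes with g ^ j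
  have hconj : t * g ^ j * t⁻¹ = g ^ j := by
    have h1 : t * g ^ j * t⁻¹ = (t * g * t⁻¹) ^ j := by rw [conj_pow]
    have h2 : (g ^ j)⁻¹ * (t * g ^ j * t⁻¹) ∈ Subgroup.zpowers g := by
      rw [h1]
      exact Subgroup.mul_mem _ (Subgroup.inv_mem _ (Subgroup.pow_mem _ (Subgroup.mem_zpowers g) j))
        (Subgroup.pow_mem _ hnorm j)
    rw [← mem_powers_iff_mem_zpowers] at h2
    obtain ⟨n, hn⟩ := h2
    replace hn : g ^ n = (g ^ j)⁻¹ * (t * g ^ j * t⁻¹) := hn
    have h3 : (g ^ n) u = u := by
      rw [hn, Equiv.Perm.mul_apply, Equiv.Perm.mul_apply, Equiv.Perm.mul_apply, htinv, htu, hj,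
        htv, ← hj, ← Equiv.Perm.mul_apply, inv_mul_cancel, Equiv.Perm.one_apply]
    have h4 : g ^ n = 1 := (hgc.pow_eq_one_iff' hug).mpr h3
    rw [h4] at hn
    have := hn.symm
    rwa [inv_mul_eq_one, eq_comm] at this
  have hcop : Nat.Coprime j (orderOf g) := by
    rw [hgo]
    refine ((Nat.Prime.coprime_iff_not_dvd h11).mpr ?_).symm
    rintro ⟨c, rfl⟩
    apply huv
    rw [← hj, pow_mul, ← hgo, pow_orderOf_eq_one, one_pow, Equiv.Perm.one_apply]
  obtain ⟨m, hm⟩ := exists_pow_eq_self_of_coprime hcop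
  have hcomm : t * g = g * t := by
    have h1 : t * (g ^ j) ^ m * t⁻¹ = (g ^ j) ^ m := by
      rw [← conj_pow, hconj]
    rw [hm] at h1
    calc t * g = t * g * t⁻¹ * t := by group
      _ = g * t := by rw [h1]
  have hcommpow : ∀ n : ℕ, t * g ^ n = g ^ n * t := by
    intro n
    exact (Commute.pow_right (show Commute t g from hcomm) n)
  apply ht1
  ext y
  rw [Equiv.Perm.one_apply]
  by_cases hy : y ∈ g.support
  · obtain ⟨n, hn⟩ := hgc.exists_pow_eq hug (Equiv.Perm.mem_support.mp hy)
    rw [← hn, ← Equiv.Perm.mul_apply, hcommpow n, Equiv.Perm.mul_apply, htu]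
  · exact htfix y hy

/-- (B-I): a transitive group of even permutations of degree 13 containing an 11-cycle is
4-transitive. -/
theorem deg13_four_trans (hα : Fintype.card α = 13) (G : Subgroup (Perm α)) [IsPretransitive G α]
    (hGalt : G ≤ alternatingGroup α) {g : Perm α} (hgc : g.IsCycle) (hgs : g.support.card = 11)
    (hg : g ∈ G) : IsMultiplyPretransitive G α 4 := by
  classical
  have h13 : Nat.Prime 13 := by norm_num
  have h11 : Nat.Prime 11 := by norm_num
  have hαn : Nat.card α = 13 := by rw [Nat.card_eq_fintype_card, hα]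
  set s : Set α := (g.support : Set α)ᶜ with hs
  have hsn : s.ncard = 2 := by
    have := Set.ncard_add_ncard_compl (g.support : Set α)
    rw [Set.ncard_coe_finset, hgs, hαn, ← hs] at this
    omega
  have hGprim : IsPreprimitive G α := IsPreprimitive.of_prime_card (by rw [hαn]; exact h13)
  have hKtrans : IsPretransitive (fixingSubgroup G s) (SubMulAction.ofFixingSubgroup G s) :=
    isPretransitive_of_isCycle_mem hgc hg
  have hΩcard : Nat.card (SubMulAction.ofFixingSubgroup G s) = 11 := by
    rw [Nat.card_eq_fintype_card, Fintype.card_subtype, ← hgs]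
    apply congr_arg
    ext x
    simp [SubMulAction.mem_ofFixingSubgroup_iff, hs]
  have hKprim : IsPreprimitive (fixingSubgroup G s) (SubMulAction.ofFixingSubgroup G s) :=
    IsPreprimitive.of_prime_card (by rw [hΩcard]; exact h11)
  have h3 : IsMultiplyPreprimitive G α 3 :=
    hGprim.isMultiplyPreprimitive (n := 1) hsn (by rw [hαn]; norm_num) hKprim
  have h3t : IsMultiplyPretransitive G α 3 := inferInstance
  have h2t : IsMultiplyPretransitive G α 2 :=
    isMultiplyPretransitive_of_le (n := 3) (by norm_num) (by rw [hαn]; norm_num)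
  obtain ⟨a, b, hab, hsab⟩ := Set.ncard_eq_two.mp hsn
  have hmemΩ : ∀ x : α, x ∈ SubMulAction.ofFixingSubgroup G s ↔ x ≠ a ∧ x ≠ b := by
    intro x
    rw [SubMulAction.mem_ofFixingSubgroup_iff, hsab]
    simp
  have hmemK : ∀ k : G, k ∈ fixingSubgroup G s ↔ (k : Perm α) a = a ∧ (k : Perm α) b = b := by
    intro k
    rw [mem_fixingSubgroup_iff, hsab]
    constructor
    · intro h
      exact ⟨h a (by simp), h b (by simp)⟩
    · rintro ⟨h1, h2⟩ y hy
      rcases hy with rfl | rfl
      · exact h1
      · exact h2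
  -- the permutation group induced on Ω
  have hfinΩ : Fintype (SubMulAction.ofFixingSubgroup G s) := Fintype.ofFinite _
  set K' : Subgroup (Perm (SubMulAction.ofFixingSubgroup G s)) :=
    (MulAction.toPermHom (fixingSubgroup G s) (SubMulAction.ofFixingSubgroup G s)).range with hK'
  have hK't : IsPretransitive K' (SubMulAction.ofFixingSubgroup G s) := by
    constructor
    intro x y
    obtain ⟨k, hk⟩ := hKtrans.exists_smul_eq x y
    exact ⟨⟨MulAction.toPermHom (fixingSubgroup G s) (SubMulAction.ofFixingSubgroup G s) k,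
      ⟨k, rfl⟩⟩, hk⟩
  have hΩc : Fintype.card (SubMulAction.ofFixingSubgroup G s) = 11 := by
    rw [← Nat.card_eq_fintype_card]; exact hΩcard
  rcases Cfsg.Agent.S0675.result (hΩc.symm ▸ h11) K' with hsolv | h2K'
  · exfalso
    have hF11 : Fact (Nat.Prime 11) := ⟨h11⟩
    have hF13 : Fact (Nat.Prime 13) := ⟨h13⟩
    have hK'd : Nat.card K' ∣ 11 * (11 - 1) := card_dvd_of_solvable hΩc K' hsolv
    -- `K ≃ K'`
    have hinj : Function.Injective
        (MulAction.toPermHom (fixingSubgroup G s) (SubMulAction.ofFixingSubgroup G s)) := by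
      rw [injective_iff_map_eq_one]
      intro k hk
      apply Subtype.ext
      apply Subtype.ext
      ext x
      by_cases hx : x ∈ s
      · exact ((mem_fixingSubgroup_iff G).mp k.2) x hx
      · have h1 := congrArg (fun f => ((f ⟨x, (SubMulAction.mem_ofFixingSubgroup_iff G).mpr hx⟩ :
            SubMulAction.ofFixingSubgroup G s) : α)) hk
        exact h1
    have hKcard : Nat.card (fixingSubgroup G s) = Nat.card K' :=
      Nat.card_congr (MonoidHom.ofInjective hinj).toEquiv
    have hgK : (⟨g, hg⟩ : G) ∈ fixingSubgroup G s := by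
      rw [mem_fixingSubgroup_iff]
      intro y hy
      have : y ∉ g.support := hy
      exact Equiv.Perm.notMem_support.mp this
    have hgo : orderOf g = 11 := by rw [hgc.orderOf, hgs]
    have hgKo : orderOf (⟨⟨g, hg⟩, hgK⟩ : fixingSubgroup G s) = 11 := by
      rw [← hgo, Subgroup.orderOf_mk, Subgroup.orderOf_mk]
    have h11K : 11 ∣ Nat.card (fixingSubgroup G s) := by
      rw [← hgKo]; exact orderOf_dvd_natCard _
    have hidx : (fixingSubgroup G s).index = 156 := by
      have h1 := h2t.index_of_fixingSubgroup_mul hsn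
      rw [hαn] at h1
      have h2 : (13 : ℕ).factorial = 156 * (13 - 2).factorial := by
        norm_num [Nat.factorial]
      rw [h2] at h1
      exact Nat.eq_of_mul_eq_mul_right (Nat.factorial_pos _) h1
    have hGcard : Nat.card G = 156 * Nat.card (fixingSubgroup G s) := by
      rw [← hidx, mul_comm, Subgroup.card_mul_index]
    obtain ⟨r, n, hr, hGrn, hn⟩ := sylow_count hα G
    have hc : ∀ c : ℕ, c ∣ 110 → 11 ∣ c → 156 * c = 13 * r * n → c = 11 ∨ c = 22 := by
      intro c hc1 hc2 hc3
      obtain ⟨s', rfl⟩ := hc2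
      have hs' : s' ∣ 10 :=
        Nat.dvd_of_mul_dvd_mul_left (by norm_num : 0 < 11) (by simpa using hc1)
      have hs'le := Nat.le_of_dvd (by norm_num) hs'
      have hrle := Nat.le_of_dvd (by norm_num) hr
      unfold Nat.ModEq at hn
      interval_cases s' <;> simp at hs' <;> interval_cases r <;> simp at hr <;> omega
    have hc' := hc _ (by rw [hKcard]; exact hK'd) h11K (by rw [← hGcard, hGrn])
    rcases hc' with hc11 | hc22
    · -- `|K| = 11`: sharply 2-transitive group of degree 12
      have hle : fixingSubgroup G s ≤ stabilizer G a := by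
        intro k hk
        rw [mem_stabilizer_iff]
        exact ((hmemK k).mp hk).1
      have hHcard : Nat.card (stabilizer G a) = (11 + 1) * 11 := by
        have h1 := MulAction.index_stabilizer_of_transitive G a
        have h2 := Subgroup.card_mul_index (stabilizer G a)
        rw [h1, hαn, hGcard, hc11] at h2
        omega
      have hQcard : Nat.card ((fixingSubgroup G s).subgroupOf (stabilizer G a)) = 11 := by
        rw [Nat.card_congr (Subgroup.subgroupOfEquivOfLe hle).toEquiv, hc11]
      have hN : Subgroup.normalizer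
          (((fixingSubgroup G s).subgroupOf (stabilizer G a) : Subgroup (stabilizer G a)) :
            Set (stabilizer G a)) = (fixingSubgroup G s).subgroupOf (stabilizer G a) := by
        apply le_antisymm
        · intro n hn
          rw [Subgroup.mem_normalizer_iff] at hn
          have hgH : (⟨g, hg⟩ : G) ∈ stabilizer G a := hle hgK
          have h1 := (hn ⟨⟨g, hg⟩, hgH⟩).mp (by rw [Subgroup.mem_subgroupOf]; exact hgK)
          rw [Subgroup.mem_subgroupOf] at h1 ⊢
          rw [hmemK] at h1 ⊢
          have hna : ((n : G) : Perm α) a = a := mem_stabilizer_iff.mp n.2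
          refine ⟨hna, ?_⟩
          have h2 : ((n : G) : Perm α) (g ((((n : G) : Perm α))⁻¹ b)) = b := h1.2
          obtain ⟨N, hNdef⟩ : ∃ N : Perm α, N = ((n : G) : Perm α) := ⟨_, rfl⟩
          rw [← hNdef] at hna h2 ⊢
          have h3 : g (N⁻¹ b) = N⁻¹ b := by
            apply N.injective
            rw [h2]; simp
          have h4 : N⁻¹ b ∈ s := by
            show N⁻¹ b ∉ (g.support : Set α)
            intro hmem
            exact (Equiv.Perm.mem_support.mp hmem) h3
          rw [hsab] at h4
          have h7 : N (N⁻¹ b) = b := by simp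
          rcases h4 with h5 | h5
          · exfalso
            apply hab
            rw [h5, hna] at h7
            exact h7
          · have h5' : N⁻¹ b = b := h5
            rw [h5'] at h7
            exact h7
        · exact Subgroup.le_normalizer
      exact Cfsg.Agent.Lib.Helper2.AltGen.sh2t h11 _ hQcard hN hHcard (by norm_num) (by norm_num)
    · -- `|K| = 22`: an involution
      have hF2 : Fact (Nat.Prime 2) := ⟨Nat.prime_two⟩
      obtain ⟨t, ht⟩ := exists_prime_orderOf_dvd_card' (G := fixingSubgroup G s) 2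
        (by rw [hc22]; norm_num)
      set gK : fixingSubgroup G s := ⟨⟨g, hg⟩, hgK⟩ with hgKdef
      have hZc : Nat.card (Subgroup.zpowers gK) = 11 := by rw [Nat.card_zpowers, hgKo]
      have hZi : (Subgroup.zpowers gK).index = 2 := by
        have := Subgroup.card_mul_index (Subgroup.zpowers gK)
        rw [hZc, hc22] at this
        omega
      have hZn : (Subgroup.zpowers gK).Normal := Subgroup.normal_of_index_eq_two hZi
      have hconj : t * gK * t⁻¹ ∈ Subgroup.zpowers gK :=
        hZn.conj_mem _ (Subgroup.mem_zpowers gK) t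
      obtain ⟨i, hi⟩ := Subgroup.mem_zpowers_iff.mp hconj
      have ht2 : t * t = 1 := by
        rw [← sq, ← ht]; exact pow_orderOf_eq_one t
      have ht1 : t ≠ 1 := by
        intro h
        rw [h, orderOf_one] at ht
        omega
      apply invol_false hgc hgs (t := ((t : G) : Perm α))
      · intro h
        apply ht1
        apply Subtype.ext
        apply Subtype.ext
        exact h
      · have := congrArg (fun z : fixingSubgroup G s => ((z : G) : Perm α)) ht2
        exact this
      · exact Equiv.Perm.mem_alternatingGroup.mp (hGalt t.1.2)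
      · intro x hx
        exact ((mem_fixingSubgroup_iff G).mp t.2) x hx
      · rw [Subgroup.mem_zpowers_iff]
        refine ⟨i, ?_⟩
        have := congrArg (fun z : fixingSubgroup G s => ((z : G) : Perm α)) hi
        simpa using this
  · -- 2-transitive case
    apply four_trans_of G h2t hab
    intro u v w z hua hub hva hvb hwa hwb hza hzb huv hwz
    rw [is_two_pretransitive_iff] at h2K'
    obtain ⟨k', hk1, hk2⟩ := h2K'
      (a := (⟨u, (hmemΩ u).mpr ⟨hua, hub⟩⟩ : SubMulAction.ofFixingSubgroup G s))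
      (b := ⟨v, (hmemΩ v).mpr ⟨hva, hvb⟩⟩) (c := ⟨w, (hmemΩ w).mpr ⟨hwa, hwb⟩⟩)
      (d := ⟨z, (hmemΩ z).mpr ⟨hza, hzb⟩⟩)
      (by intro h; exact huv (congrArg Subtype.val h))
      (by intro h; exact hwz (congrArg Subtype.val h))
    obtain ⟨k', k, rfl⟩ := k'
    obtain ⟨hka, hkb⟩ := (hmemK k.1).mp k.2
    refine ⟨(k.1 : Perm α), k.1.2, hka, hkb, ?_, ?_⟩
    · exact congrArg Subtype.val hk1
    · exact congrArg Subtype.val hk2

end Cfsg.Agent.Lib.Helper9.AltGenB1
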