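import Mathlib

set_option autoImplicit false

/-! # The stabilizer of a uniform partition is maximal in the symmetric group -/

namespace Cfsg.Agent.H9PartStab

open MulAction Equiv
open scoped Pointwise

variable {Ω : Type*} [Fintype Ω] [DecidableEq Ω] {b : ℕ}

omit [Fintype Ω] [DecidableEq Ω] in
theorem p_apply_inv (g : Equiv.Perm Ω) (x : Ω) : g (g⁻¹ x) = x := g.apply_symm_apply x

omit [Fintype Ω] [DecidableEq Ω] in
theorem p_inv_apply (g : Equiv.Perm Ω) (x : Ω) : g⁻¹ (g x) = x := g.symm_apply_apply x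

/-- The partition stabilizer. -/
def partStab (f : Ω → Fin b) : Subgroup (Equiv.Perm Ω) where
  carrier := {g | ∀ x y : Ω, f x = f y ↔ f (g x) = f (g y)}
  one_mem' := fun x y => Iff.rfl
  mul_mem' := by
    intro g h hg hh x y
    rw [hh x y, hg (h x) (h y)]
    rfl
  inv_mem' := by
    intro g hg x y
    have := hg (g⁻¹ x) (g⁻¹ y)
    rw [p_apply_inv, p_apply_inv] at this
    exact this.symm

theorem mem_partStab (f : Ω → Fin b) (g : Equiv.Perm Ω) :
    g ∈ partStab f ↔ ∀ x y : Ω, f x = f y ↔ f (g x) = f (g y) := Iff.rfl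

theorem closure_eq_partStab (f : Ω → Fin b) :
    Subgroup.closure {g : Equiv.Perm Ω | ∀ x y : Ω, f x = f y ↔ f (g x) = f (g y)} = partStab f :=
  Subgroup.closure_eq (partStab f)

theorem swap_mem_partStab (f : Ω → Fin b) {x y : Ω} (h : f x = f y) : swap x y ∈ partStab f := by
  have key : ∀ u, f (swap x y u) = f u := by
    intro u
    by_cases hx : u = x
    · rw [hx, swap_apply_left, h]
    · by_cases hy : u = y
      · rw [hy, swap_apply_right, h]
      · rw [swap_apply_of_ne_of_ne hx hy]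
  intro u v
  rw [key u, key v]

/-- A coordinate system adapted to `f`. -/
theorem exists_coord (f : Ω → Fin b) (a : ℕ) (hf : ∀ i : Fin b, Nat.card {x : Ω // f x = i} = a) :
    ∃ E : Ω ≃ Fin b × Fin a, ∀ x, (E x).1 = f x := by
  have e : ∀ i : Fin b, {x : Ω // f x = i} ≃ Fin a := fun i => Finite.equivFinOfCardEq (hf i)
  refine ⟨(Equiv.sigmaFiberEquiv f).symm.trans
    ((Equiv.sigmaCongrRight e).trans (Equiv.sigmaEquivProd _ _)), fun x => rfl⟩

/-- Permuting the fibres. -/
def fibrePerm {a : ℕ} (E : Ω ≃ Fin b × Fin a) (σ : Equiv.Perm (Fin b)) : Equiv.Perm Ω :=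
  E.trans ((Equiv.prodCongr σ (Equiv.refl _)).trans E.symm)

theorem fibrePerm_apply {a : ℕ} (E : Ω ≃ Fin b × Fin a) (σ : Equiv.Perm (Fin b)) (x : Ω) :
    E (fibrePerm E σ x) = (σ (E x).1, (E x).2) := by
  simp [fibrePerm, Prod.map]

theorem f_fibrePerm {a : ℕ} (f : Ω → Fin b) (E : Ω ≃ Fin b × Fin a) (hE : ∀ x, (E x).1 = f x)
    (σ : Equiv.Perm (Fin b)) (x : Ω) : f (fibrePerm E σ x) = σ (f x) := by
  rw [← hE, fibrePerm_apply, hE]

theorem fibrePerm_mem {a : ℕ} (f : Ω → Fin b) (E : Ω ≃ Fin b × Fin a) (hE : ∀ x, (E x).1 = f x)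
    (σ : Equiv.Perm (Fin b)) : fibrePerm E σ ∈ partStab f := by
  intro x y
  rw [f_fibrePerm f E hE, f_fibrePerm f E hE, σ.injective.eq_iff]

theorem fibrePerm_fix {a : ℕ} (f : Ω → Fin b) (E : Ω ≃ Fin b × Fin a) (hE : ∀ x, (E x).1 = f x)
    (σ : Equiv.Perm (Fin b)) (x : Ω) (hx : σ (f x) = f x) : fibrePerm E σ x = x := by
  apply E.injective
  rw [fibrePerm_apply, hE, hx, ← hE]

/-- The partition stabilizer is transitive. -/
theorem partStab_trans {a : ℕ} (f : Ω → Fin b) (E : Ω ≃ Fin b × Fin a) (hE : ∀ x, (E x).1 = f x)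
    (x y : Ω) : ∃ g ∈ partStab f, g x = y := by
  refine ⟨swap (fibrePerm E (swap (f x) (f y)) x) y * fibrePerm E (swap (f x) (f y)),
    (partStab f).mul_mem (swap_mem_partStab f ?_) (fibrePerm_mem f E hE _), ?_⟩
  · rw [f_fibrePerm f E hE, swap_apply_left]
  · rw [Perm.mul_apply, swap_apply_left]

theorem smul_mk_apply (G : Subgroup (Equiv.Perm Ω)) (g : Equiv.Perm Ω) (hg : g ∈ G) (x : Ω) :
    (⟨g, hg⟩ : G) • x = g x := rfl

theorem block_smul_eq (G : Subgroup (Equiv.Perm Ω)) {B : Set Ω} (hB : IsBlock G B)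
    (g : Equiv.Perm Ω) (hg : g ∈ G) {x : Ω} (hx : x ∈ B) (hgx : g x ∈ B) {y : Ω} (hy : y ∈ B) :
    g y ∈ B := by
  have h1 : (⟨g, hg⟩ : G) • B = B := hB.smul_eq_of_mem (g := ⟨g, hg⟩) hx hgx
  rw [← h1]
  exact ⟨y, hy, rfl⟩

/-- A nontrivial block of an overgroup of the partition stabilizer is a fibre. -/
theorem block_eq_fibre {a : ℕ} (f : Ω → Fin b) (E : Ω ≃ Fin b × Fin a) (hE : ∀ x, (E x).1 = f x)
    (G : Subgroup (Equiv.Perm Ω)) (hG : partStab f ≤ G) {B : Set Ω} (hB : IsBlock G B)
    (hns : B.Nontrivial) (hnu : B ≠ Set.univ) {x₀ : Ω} (hx₀ : x₀ ∈ B) :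
    B = {x | f x = f x₀} := by
  -- Claim 1
  have c1 : ∀ x ∈ B, ∀ z, f z = f x → z ∈ B := by
    intro x hx z hz
    by_cases hzx : z = x
    · rw [hzx]; exact hx
    obtain ⟨x', hx', hne⟩ := hns.exists_ne x
    by_cases hzx' : z = x'
    · rw [hzx']; exact hx'
    by_cases hf : f x' = f x
    · -- swap x' z fixes x
      have hs : swap x' z ∈ G := hG (swap_mem_partStab f (by rw [hf, hz]))
      have h1 : swap x' z x = x := swap_apply_of_ne_of_ne (Ne.symm hne) (Ne.symm hzx)
      have := block_smul_eq G hB _ hs hx (by rw [h1]; exact hx) hx'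
      rwa [swap_apply_left] at this
    · -- swap x z fixes x'
      have hs : swap x z ∈ G := hG (swap_mem_partStab f hz.symm)
      have h1 : swap x z x' = x' := swap_apply_of_ne_of_ne hne (Ne.symm hzx')
      have := block_smul_eq G hB _ hs hx' (by rw [h1]; exact hx') hx
      rwa [swap_apply_left] at this
  -- Claim 2
  have c2 : ∀ x ∈ B, ∀ y ∈ B, f x = f y := by
    intro x hx y hy
    by_contra hxy
    apply hnu
    rw [Set.eq_univ_iff_forall]
    intro w
    by_cases hwx : f w = f x
    · exact c1 x hx w hwx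
    by_cases hwy : f w = f y
    · exact c1 y hy w hwy
    have hh : fibrePerm E (swap (f y) (f w)) ∈ G := hG (fibrePerm_mem f E hE _)
    have hfix : fibrePerm E (swap (f y) (f w)) x = x := by
      apply fibrePerm_fix f E hE
      exact swap_apply_of_ne_of_ne hxy (Ne.symm hwx)
    have h2 := block_smul_eq G hB _ hh hx (by rw [hfix]; exact hx) hy
    apply c1 _ h2 w
    rw [f_fibrePerm f E hE, swap_apply_left]
  ext x
  constructor
  · intro hx; exact c2 x hx x₀ hx₀
  · intro hx; exact c1 x₀ hx₀ x hx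

/-- The stabilizer of a uniform partition is a maximal subgroup of the symmetric group. -/
theorem isCoatom_partStab (a : ℕ) (ha : 2 ≤ a) (hb : 2 ≤ b) (f : Ω → Fin b)
    (hf : ∀ i : Fin b, Nat.card {x : Ω // f x = i} = a) : IsCoatom (partStab f) := by
  obtain ⟨E, hE⟩ := exists_coord f a hf
  -- three special points
  set x : Ω := E.symm (⟨0, by omega⟩, ⟨0, by omega⟩) with hx
  set y : Ω := E.symm (⟨0, by omega⟩, ⟨1, by omega⟩) with hy
  set z : Ω := E.symm (⟨1, by omega⟩, ⟨0, by omega⟩) with hz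
  have fx : f x = ⟨0, by omega⟩ := by rw [← hE, hx, Equiv.apply_symm_apply]
  have fy : f y = ⟨0, by omega⟩ := by rw [← hE, hy, Equiv.apply_symm_apply]
  have fz : f z = ⟨1, by omega⟩ := by rw [← hE, hz, Equiv.apply_symm_apply]
  have hxy : x ≠ y := by
    intro h
    have := E.symm.injective h
    simp at this
  have hxz : f x ≠ f z := by
    rw [fx, fz]; intro h; simp at h
  have hyz : f y ≠ f z := by
    rw [fy, fz]; intro h; simp at h
  constructor
  · intro htop
    have h1 : swap y z ∈ partStab f := by rw [htop]; trivial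
    have h2 := (h1 x y).mp (by rw [fx, fy])
    rw [swap_apply_left, swap_apply_of_ne_of_ne hxy (fun h => hxz (by rw [h]))] at h2
    exact hxz h2
  · intro G hG
    have hsw : swap x y ∈ G := hG.le (swap_mem_partStab f (by rw [fx, fy]))
    apply Equiv.Perm.subgroup_eq_top_of_isPreprimitive_of_isSwap_mem (G := G) _ (swap x y) ⟨x, y, hxy, rfl⟩ hsw
    have htr : IsPretransitive G Ω := by
      refine ⟨fun u v => ?_⟩
      obtain ⟨g, hg, hguv⟩ := partStab_trans f E hE u v
      exact ⟨⟨g, hG.le hg⟩, hguv⟩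
    apply IsPreprimitive.mk
    intro B hB
    by_contra hnt
    unfold IsTrivialBlock at hnt
    push Not at hnt
    obtain ⟨hns, hnu⟩ := hnt
    -- every nontrivial block is a fibre
    obtain ⟨x₀, hx₀⟩ := hns.nonempty
    have hBf := block_eq_fibre f E hE G hG.le hB hns hnu hx₀
    -- every fibre is a block
    have hfib : ∀ i : Fin b, IsBlock G {u | f u = i} := by
      intro i
      have hh : fibrePerm E (swap (f x₀) i) ∈ G := hG.le (fibrePerm_mem f E hE _)
      have : {u | f u = i} = (⟨_, hh⟩ : G) • B := by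
        ext u
        rw [Set.mem_smul_set_iff_inv_smul_mem, hBf]
        change f u = i ↔ f ((fibrePerm E (swap (f x₀) i))⁻¹ u) = f x₀
        constructor
        · intro hu
          have h1 := f_fibrePerm f E hE (swap (f x₀) i) ((fibrePerm E (swap (f x₀) i))⁻¹ u)
          rw [p_apply_inv, hu] at h1
          have h2 := congrArg (swap (f x₀) i) h1
          rw [swap_apply_right, swap_apply_self] at h2
          exact h2.symm
        · intro hu
          have h1 := f_fibrePerm f E hE (swap (f x₀) i) ((fibrePerm E (swap (f x₀) i))⁻¹ u)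
          rw [p_apply_inv, hu, swap_apply_left] at h1
          exact h1
      rw [this]
      exact hB.translate _
    -- G ≤ partStab f
    apply hG.not_ge
    have key : ∀ g ∈ G, ∀ u v, f u = f v → f (g u) = f (g v) := by
      intro g hg u v huv
      have hblk : IsBlock G ((⟨g, hg⟩ : G) • {w | f w = f u}) := (hfib (f u)).translate _
      have hmem : g u ∈ (⟨g, hg⟩ : G) • {w | f w = f u} := ⟨u, rfl, rfl⟩
      have hmemv : g v ∈ (⟨g, hg⟩ : G) • {w | f w = f u} := ⟨v, huv.symm, rfl⟩
      have hns' : ((⟨g, hg⟩ : G) • {w | f w = f u}).Nontrivial := by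
        refine ⟨g (E.symm (f u, ⟨0, by omega⟩)), ⟨_, ?_, rfl⟩, g (E.symm (f u, ⟨1, by omega⟩)),
          ⟨_, ?_, rfl⟩, ?_⟩
        · change f _ = f u
          rw [← hE, Equiv.apply_symm_apply]
        · change f _ = f u
          rw [← hE, Equiv.apply_symm_apply]
        · intro h
          have := E.symm.injective (g.injective h)
          simp at this
      have hnu' : ((⟨g, hg⟩ : G) • {w | f w = f u}) ≠ Set.univ := by
        intro h
        obtain ⟨j, hj⟩ : ∃ j : Fin b, j ≠ f u := by
          by_cases h0 : f u = ⟨0, by omega⟩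
          · exact ⟨⟨1, by omega⟩, by rw [h0]; intro h; simp at h⟩
          · exact ⟨⟨0, by omega⟩, fun h => h0 h.symm⟩
        have h1 : g (E.symm (j, ⟨0, by omega⟩)) ∈ (⟨g, hg⟩ : G) • {w | f w = f u} := by
          rw [h]; trivial
        obtain ⟨w, hw, hgw⟩ := h1
        have h2 : w = E.symm (j, ⟨0, by omega⟩) := g.injective hgw
        rw [h2] at hw
        change f _ = f u at hw
        rw [← hE, Equiv.apply_symm_apply] at hw
        exact hj hw
      have := block_eq_fibre f E hE G hG.le hblk hns' hnu' hmem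
      rw [this] at hmemv
      exact hmemv.symm
    intro g hg u v
    constructor
    · exact key g hg u v
    · intro h
      have := key g⁻¹ (G.inv_mem hg) (g u) (g v) h
      rwa [p_inv_apply, p_inv_apply] at this

end Cfsg.Agent.H9PartStab
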