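import Mathlib
import Cfsg.Agent.Lib.Helper9.PartStab

set_option autoImplicit false

/-! # Even elements of the partition stabilizer -/

namespace Cfsg.Agent.H9AltPart

open MulAction Equiv Cfsg.Agent.H9PartStab
open scoped Pointwise

variable {Ω : Type*} [Fintype Ω] [DecidableEq Ω] {b : ℕ}

/-- a fibre pair avoiding two given points -/
theorem exists_pair_avoid {a : ℕ} (f : Ω → Fin b) (E : Ω ≃ Fin b × Fin a) (h : 2 + b < a * b)
    (x y : Ω) : ∃ p q : Ω, p ≠ q ∧ f p = f q ∧ p ≠ x ∧ p ≠ y ∧ q ≠ x ∧ q ≠ y := by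
  have hcard : Fintype.card Ω = a * b := by
    rw [Fintype.card_congr E, Fintype.card_prod, Fintype.card_fin, Fintype.card_fin, mul_comm]
  let s : Finset Ω := Finset.univ \ {x, y}
  have hs : b < s.card := by
    have h1 : s.card = Fintype.card Ω - ({x, y} : Finset Ω).card := by
      rw [Finset.card_sdiff_of_subset (Finset.subset_univ _), Finset.card_univ]
    have h2 : ({x, y} : Finset Ω).card ≤ 2 := Finset.card_le_two
    omega
  have hc : (Finset.univ : Finset (Fin b)).card < s.card := by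
    rw [Finset.card_univ, Fintype.card_fin]; exact hs
  obtain ⟨p, hp, q, hq, hpq, hfpq⟩ :=
    Finset.exists_ne_map_eq_of_card_lt_of_maps_to hc (f := f) (fun u _ => Finset.mem_coe.mpr (Finset.mem_univ _))
  simp only [s, Finset.mem_sdiff, Finset.mem_univ, true_and, Finset.mem_insert,
    Finset.mem_singleton, not_or] at hp hq
  exact ⟨p, q, hpq, hfpq, hp.1, hp.2, hq.1, hq.2⟩

/-- even adjustment keeping two values -/
theorem exists_even_adjust {a : ℕ} (f : Ω → Fin b) (E : Ω ≃ Fin b × Fin a) (h : 2 + b < a * b)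
    (g : Perm Ω) (hg : g ∈ partStab f) (x y : Ω) :
    ∃ g' ∈ partStab f ⊓ alternatingGroup Ω, g' x = g x ∧ g' y = g y := by
  by_cases hs : Perm.sign g = 1
  · exact ⟨g, ⟨hg, Perm.mem_alternatingGroup.mpr hs⟩, rfl, rfl⟩
  · have hs' : Perm.sign g = -1 := by
      rcases Int.units_eq_one_or (Perm.sign g) with h1 | h1
      · exact absurd h1 hs
      · exact h1
    obtain ⟨p, q, hpq, hfpq, hpx, hpy, hqx, hqy⟩ := exists_pair_avoid f E h x y
    refine ⟨g * swap p q, ⟨(partStab f).mul_mem hg (swap_mem_partStab f hfpq), ?_⟩, ?_, ?_⟩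
    · change g * swap p q ∈ alternatingGroup Ω
      rw [Perm.mem_alternatingGroup, map_mul, hs', Perm.sign_swap hpq]; rfl
    · rw [Perm.mul_apply, swap_apply_of_ne_of_ne (Ne.symm hpx) (Ne.symm hqx)]
    · rw [Perm.mul_apply, swap_apply_of_ne_of_ne (Ne.symm hpy) (Ne.symm hqy)]

/-- even adjustment keeping the fibre map -/
theorem exists_even_adjust_fibre {a : ℕ} (ha : 2 ≤ a) (hb : 2 ≤ b) (f : Ω → Fin b)
    (E : Ω ≃ Fin b × Fin a) (hE : ∀ x, (E x).1 = f x)
    (g : Perm Ω) (hg : g ∈ partStab f) :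
    ∃ g' ∈ partStab f ⊓ alternatingGroup Ω, ∀ u, f (g' u) = f (g u) := by
  by_cases hs : Perm.sign g = 1
  · exact ⟨g, ⟨hg, Perm.mem_alternatingGroup.mpr hs⟩, fun _ => rfl⟩
  · have hs' : Perm.sign g = -1 := by
      rcases Int.units_eq_one_or (Perm.sign g) with h1 | h1
      · exact absurd h1 hs
      · exact h1
    set p : Ω := E.symm (⟨0, by omega⟩, ⟨0, by omega⟩) with hp
    set q : Ω := E.symm (⟨0, by omega⟩, ⟨1, by omega⟩) with hq
    have fp : f p = ⟨0, by omega⟩ := by rw [← hE, hp, Equiv.apply_symm_apply]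
    have fq : f q = ⟨0, by omega⟩ := by rw [← hE, hq, Equiv.apply_symm_apply]
    have hpq : p ≠ q := by
      intro h
      have := E.symm.injective h
      simp at this
    have hsw : swap p q ∈ partStab f := swap_mem_partStab f (by rw [fp, fq])
    refine ⟨g * swap p q, ⟨(partStab f).mul_mem hg hsw, ?_⟩, ?_⟩
    · change g * swap p q ∈ alternatingGroup Ω
      rw [Perm.mem_alternatingGroup, map_mul, hs', Perm.sign_swap hpq]; rfl
    · intro u
      rw [Perm.mul_apply]
      have key : f (swap p q u) = f u := by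
        by_cases hx : u = p
        · rw [hx, swap_apply_left, fp, fq]
        · by_cases hy : u = q
          · rw [hy, swap_apply_right, fp, fq]
          · rw [swap_apply_of_ne_of_ne hx hy]
      exact (hg _ _).mp key

/-- The even partition stabilizer is transitive. -/
theorem evenPartStab_trans {a : ℕ} (f : Ω → Fin b) (E : Ω ≃ Fin b × Fin a)
    (hE : ∀ x, (E x).1 = f x) (h : 2 + b < a * b)
    (x y : Ω) : ∃ g ∈ partStab f ⊓ alternatingGroup Ω, g x = y := by
  obtain ⟨g, hg, hgxy⟩ := partStab_trans f E hE x y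
  obtain ⟨g', hg', h1, _⟩ := exists_even_adjust f E h g hg x x
  exact ⟨g', hg', by rw [h1, hgxy]⟩

end Cfsg.Agent.H9AltPart
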