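import Mathlib
import Cfsg.Agent.Lib.Helper9.PartStab
import Cfsg.Agent.Lib.Helper9.AltPart1

set_option autoImplicit false

/-! # Blocks of overgroups of the even partition stabilizer -/

namespace Cfsg.Agent.H9AltPart

open MulAction Equiv Cfsg.Agent.H9PartStab
open scoped Pointwise

variable {Ω : Type*} [Fintype Ω] [DecidableEq Ω] {b : ℕ}

/-- A nontrivial block of an overgroup of the even partition stabilizer is a fibre. -/
theorem block_eq_fibre' {a : ℕ} (f : Ω → Fin b) (E : Ω ≃ Fin b × Fin a) (hE : ∀ x, (E x).1 = f x)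
    (h : 2 + b < a * b)
    (G : Subgroup (Equiv.Perm Ω)) (hG : partStab f ⊓ alternatingGroup Ω ≤ G) {B : Set Ω}
    (hB : IsBlock G B)
    (hns : B.Nontrivial) (hnu : B ≠ Set.univ) {x₀ : Ω} (hx₀ : x₀ ∈ B) :
    B = {x | f x = f x₀} := by
  -- Claim 1
  have c1 : ∀ x ∈ B, ∀ z, f z = f x → z ∈ B := by
    intro x hx z hz
    by_cases hzx : z = x
    · rw [hzx]; exact hx
    obtain ⟨x', hx', hne⟩ := hns.exists_ne x
    by_cases hzx' : z = x'
    · rw [hzx']; exact hx'
    by_cases hf : f x' = f x
    · -- swap x' z fixes x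
      obtain ⟨g', hg', h1, h2⟩ := exists_even_adjust f E h (swap x' z)
        (swap_mem_partStab f (by rw [hf, hz])) x x'
      rw [swap_apply_of_ne_of_ne (Ne.symm hne) (Ne.symm hzx)] at h1
      rw [swap_apply_left] at h2
      have := block_smul_eq G hB _ (hG hg') hx (by rw [h1]; exact hx) hx'
      rwa [h2] at this
    · -- swap x z fixes x'
      obtain ⟨g', hg', h1, h2⟩ := exists_even_adjust f E h (swap x z)
        (swap_mem_partStab f hz.symm) x' x
      rw [swap_apply_of_ne_of_ne hne (Ne.symm hzx')] at h1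
      rw [swap_apply_left] at h2
      have := block_smul_eq G hB _ (hG hg') hx' (by rw [h1]; exact hx') hx
      rwa [h2] at this
  -- Claim 2
  have c2 : ∀ x ∈ B, ∀ y ∈ B, f x = f y := by
    intro x hx y hy
    by_contra hxy
    apply hnu
    rw [Set.eq_univ_iff_forall]
    intro w
    by_cases hwx : f w = f x
    · exact c1 x hx w hwx
    by_cases hwy : f w = f y
    · exact c1 y hy w hwy
    obtain ⟨g', hg', h1, h2⟩ := exists_even_adjust f E h (fibrePerm E (swap (f y) (f w)))
      (fibrePerm_mem f E hE _) x y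
    have hfix : fibrePerm E (swap (f y) (f w)) x = x := by
      apply fibrePerm_fix f E hE
      exact swap_apply_of_ne_of_ne hxy (Ne.symm hwx)
    rw [hfix] at h1
    have h3 := block_smul_eq G hB _ (hG hg') hx (by rw [h1]; exact hx) hy
    apply c1 _ h3 w
    rw [h2, f_fibrePerm f E hE, swap_apply_left]
  ext x
  constructor
  · intro hx; exact c2 x hx x₀ hx₀
  · intro hx; exact c1 x₀ hx₀ x hx

/-- A proper overgroup of the even partition stabilizer inside the alternating group is
primitive. -/
theorem preprimitive_of_lt (a : ℕ) (ha : 2 ≤ a) (hb : 2 ≤ b) (f : Ω → Fin b)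
    (hf : ∀ i : Fin b, Nat.card {x : Ω // f x = i} = a) (h : 2 + b < a * b)
    (G : Subgroup (Equiv.Perm Ω)) (hlt : partStab f ⊓ alternatingGroup Ω < G)
    (hGA : G ≤ alternatingGroup Ω) : IsPreprimitive G Ω := by
  obtain ⟨E, hE⟩ := exists_coord f a hf
  have htr : IsPretransitive G Ω := by
    refine ⟨fun u v => ?_⟩
    obtain ⟨g, hg, hguv⟩ := evenPartStab_trans f E hE h u v
    exact ⟨⟨g, hlt.le hg⟩, hguv⟩
  apply IsPreprimitive.mk
  intro B hB
  by_contra hnt
  unfold IsTrivialBlock at hnt
  push Not at hnt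
  obtain ⟨hns, hnu⟩ := hnt
  -- every nontrivial block is a fibre
  obtain ⟨x₀, hx₀⟩ := hns.nonempty
  have hBf := block_eq_fibre' f E hE h G hlt.le hB hns hnu hx₀
  -- every fibre is a block
  have hfib : ∀ i : Fin b, IsBlock G {u | f u = i} := by
    intro i
    obtain ⟨g', hg', hg'f⟩ := exists_even_adjust_fibre ha hb f E hE
      (fibrePerm E (swap (f x₀) i)) (fibrePerm_mem f E hE _)
    have hh : g' ∈ G := hlt.le hg'
    have hg'f' : ∀ u, f (g' u) = swap (f x₀) i (f u) := by
      intro u; rw [hg'f, f_fibrePerm f E hE]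
    have : {u | f u = i} = (⟨_, hh⟩ : G) • B := by
      ext u
      rw [Set.mem_smul_set_iff_inv_smul_mem, hBf]
      change f u = i ↔ f (g'⁻¹ u) = f x₀
      constructor
      · intro hu
        have h1 := hg'f' (g'⁻¹ u)
        rw [p_apply_inv, hu] at h1
        have h2 := congrArg (swap (f x₀) i) h1
        rw [swap_apply_right, swap_apply_self] at h2
        exact h2.symm
      · intro hu
        have h1 := hg'f' (g'⁻¹ u)
        rw [p_apply_inv, hu, swap_apply_left] at h1
        exact h1
    rw [this]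
    exact hB.translate _
  -- G ≤ partStab f
  apply hlt.not_ge
  have key : ∀ g ∈ G, ∀ u v, f u = f v → f (g u) = f (g v) := by
    intro g hg u v huv
    have hblk : IsBlock G ((⟨g, hg⟩ : G) • {w | f w = f u}) := (hfib (f u)).translate _
    have hmem : g u ∈ (⟨g, hg⟩ : G) • {w | f w = f u} := ⟨u, rfl, rfl⟩
    have hmemv : g v ∈ (⟨g, hg⟩ : G) • {w | f w = f u} := ⟨v, huv.symm, rfl⟩
    have hns' : ((⟨g, hg⟩ : G) • {w | f w = f u}).Nontrivial := by
      refine ⟨g (E.symm (f u, ⟨0, by omega⟩)), ⟨_, ?_, rfl⟩, g (E.symm (f u, ⟨1, by omega⟩)),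
        ⟨_, ?_, rfl⟩, ?_⟩
      · change f _ = f u
        rw [← hE, Equiv.apply_symm_apply]
      · change f _ = f u
        rw [← hE, Equiv.apply_symm_apply]
      · intro h
        have := E.symm.injective (g.injective h)
        simp at this
    have hnu' : ((⟨g, hg⟩ : G) • {w | f w = f u}) ≠ Set.univ := by
      intro h
      obtain ⟨j, hj⟩ : ∃ j : Fin b, j ≠ f u := by
        by_cases h0 : f u = ⟨0, by omega⟩
        · exact ⟨⟨1, by omega⟩, by rw [h0]; intro h; simp at h⟩
        · exact ⟨⟨0, by omega⟩, fun h => h0 h.symm⟩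
      have h1 : g (E.symm (j, ⟨0, by omega⟩)) ∈ (⟨g, hg⟩ : G) • {w | f w = f u} := by
        rw [h]; trivial
      obtain ⟨w, hw, hgw⟩ := h1
      have h2 : w = E.symm (j, ⟨0, by omega⟩) := g.injective hgw
      rw [h2] at hw
      change f _ = f u at hw
      rw [← hE, Equiv.apply_symm_apply] at hw
      exact hj hw
    have := block_eq_fibre' f E hE h G hlt.le hblk hns' hnu' hmem
    rw [this] at hmemv
    exact hmemv.symm
  intro g hg
  refine ⟨?_, hGA hg⟩
  intro u v
  constructor
  · exact key g hg u v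
  · intro h
    have := key g⁻¹ (G.inv_mem hg) (g u) (g v) h
    rwa [p_inv_apply, p_inv_apply] at this

end Cfsg.Agent.H9AltPart
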