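import Mathlib
import Cfsg.Agent.Lib.Helper9.PartStab
import Cfsg.Agent.Lib.Helper9.AltPart1

set_option autoImplicit false

/-! # Three-cycles in overgroups of the even partition stabilizer -/

namespace Cfsg.Agent.H9AltPart

open MulAction Equiv Cfsg.Agent.H9PartStab
open scoped Pointwise

variable {Ω : Type*} [Fintype Ω] [DecidableEq Ω] {b : ℕ}

/-- a three-cycle in the even partition stabilizer when the fibres have at least 3 points -/
theorem exists_threeCycle_of_three_le {a : ℕ} (ha : 3 ≤ a) (hb : 2 ≤ b) (f : Ω → Fin b)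
    (E : Ω ≃ Fin b × Fin a) (hE : ∀ x, (E x).1 = f x) :
    ∃ c ∈ partStab f ⊓ alternatingGroup Ω, c.IsThreeCycle := by
  set x : Ω := E.symm (⟨0, by omega⟩, ⟨0, by omega⟩) with hx
  set y : Ω := E.symm (⟨0, by omega⟩, ⟨1, by omega⟩) with hy
  set z : Ω := E.symm (⟨0, by omega⟩, ⟨2, by omega⟩) with hz
  have fx : f x = ⟨0, by omega⟩ := by rw [← hE, hx, Equiv.apply_symm_apply]
  have fy : f y = ⟨0, by omega⟩ := by rw [← hE, hy, Equiv.apply_symm_apply]
  have fz : f z = ⟨0, by omega⟩ := by rw [← hE, hz, Equiv.apply_symm_apply]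
  have hxy : x ≠ y := by
    intro h
    have := E.symm.injective h
    simp at this
  have hxz : x ≠ z := by
    intro h
    have := E.symm.injective h
    simp at this
  have hyz : y ≠ z := by
    intro h
    have := E.symm.injective h
    simp at this
  refine ⟨swap x y * swap x z, ⟨(partStab f).mul_mem (swap_mem_partStab f (by rw [fx, fy]))
    (swap_mem_partStab f (by rw [fx, fz])), ?_⟩, Perm.isThreeCycle_swap_mul_swap_same hxy hxz hyz⟩
  change swap x y * swap x z ∈ alternatingGroup Ω
  rw [Perm.mem_alternatingGroup, map_mul, Perm.sign_swap hxy, Perm.sign_swap hxz]; rfl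

section pairs

/-- the partner of a point when the fibres are pairs -/
def bar (E : Ω ≃ Fin b × Fin 2) (x : Ω) : Ω := E.symm ((E x).1, (E x).2 + 1)

omit [Fintype Ω] [DecidableEq Ω] in
theorem bar_ne (E : Ω ≃ Fin b × Fin 2) (x : Ω) : bar E x ≠ x := by
  intro h
  have := congrArg E h
  rw [bar, Equiv.apply_symm_apply] at this
  have h2 := congrArg Prod.snd this
  simp only at h2
  generalize (E x).2 = j at h2
  revert h2; revert j; decide

omit [Fintype Ω] [DecidableEq Ω] in
theorem f_bar (f : Ω → Fin b) (E : Ω ≃ Fin b × Fin 2) (hE : ∀ x, (E x).1 = f x) (x : Ω) :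
    f (bar E x) = f x := by
  rw [← hE, bar, Equiv.apply_symm_apply, hE]

omit [Fintype Ω] [DecidableEq Ω] in
theorem bar_bar (E : Ω ≃ Fin b × Fin 2) (x : Ω) : bar E (bar E x) = x := by
  apply E.injective
  rw [bar, Equiv.apply_symm_apply, bar, Equiv.apply_symm_apply]
  apply Prod.ext
  · rfl
  · simp only
    generalize (E x).2 = j
    revert j; decide

omit [Fintype Ω] [DecidableEq Ω] in
theorem eq_or_eq_bar (f : Ω → Fin b) (E : Ω ≃ Fin b × Fin 2) (hE : ∀ x, (E x).1 = f x) (x y : Ω)
    (h : f y = f x) : y = x ∨ y = bar E x := by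
  have h1 : (E y).1 = (E x).1 := by rw [hE, hE, h]
  have h2 : (E y).2 = (E x).2 ∨ (E y).2 = (E x).2 + 1 := by
    generalize (E x).2 = j
    generalize (E y).2 = k
    revert j k; decide
  rcases h2 with h2 | h2
  · left; exact E.injective (Prod.ext h1 h2)
  · right
    apply E.injective
    rw [bar, Equiv.apply_symm_apply]
    exact Prod.ext h1 h2

omit [Fintype Ω] [DecidableEq Ω] in
theorem bar_injective (E : Ω ≃ Fin b × Fin 2) : Function.Injective (bar E) := by
  intro x y h
  have := congrArg (bar E) h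
  rwa [bar_bar, bar_bar] at this

theorem pairSwap_mem (f : Ω → Fin b) (E : Ω ≃ Fin b × Fin 2) (hE : ∀ x, (E x).1 = f x) (x w : Ω) :
    swap x (bar E x) * swap w (bar E w) ∈ partStab f ⊓ alternatingGroup Ω := by
  refine ⟨(partStab f).mul_mem (swap_mem_partStab f (f_bar f E hE x).symm)
    (swap_mem_partStab f (f_bar f E hE w).symm), ?_⟩
  change _ ∈ alternatingGroup Ω
  rw [Perm.mem_alternatingGroup, map_mul, Perm.sign_swap (bar_ne E x).symm,
    Perm.sign_swap (bar_ne E w).symm]; rfl

theorem blockSwap_f (f : Ω → Fin b) (E : Ω ≃ Fin b × Fin 2) (hE : ∀ x, (E x).1 = f x) (v y : Ω)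
    (hvy : f v ≠ f y) (x : Ω) :
    f ((swap v y * swap (bar E v) (bar E y)) x) = swap (f v) (f y) (f x) := by
  have hvbv : bar E v ≠ v := bar_ne E v
  have hyby : bar E y ≠ y := bar_ne E y
  have fbv := f_bar f E hE v
  have fby := f_bar f E hE y
  have h1 : bar E v ≠ y := fun h => hvy (by rw [← h, fbv])
  have h2 : bar E y ≠ v := fun h => hvy (by rw [← h, fby])
  rw [Perm.mul_apply]
  by_cases hx1 : x = bar E v
  · rw [hx1, swap_apply_left, swap_apply_of_ne_of_ne h2 hyby, fby, fbv, swap_apply_left]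
  by_cases hx2 : x = bar E y
  · rw [hx2, swap_apply_right, swap_apply_of_ne_of_ne hvbv h1, fby, fbv, swap_apply_right]
  rw [swap_apply_of_ne_of_ne hx1 hx2]
  by_cases hx3 : x = v
  · rw [hx3, swap_apply_left, swap_apply_left]
  by_cases hx4 : x = y
  · rw [hx4, swap_apply_right, swap_apply_right]
  rw [swap_apply_of_ne_of_ne hx3 hx4]
  have h5 : f x ≠ f v := by
    intro h
    rcases eq_or_eq_bar f E hE v x h with h | h
    · exact hx3 h
    · exact hx1 h
  have h6 : f x ≠ f y := by
    intro h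
    rcases eq_or_eq_bar f E hE y x h with h | h
    · exact hx4 h
    · exact hx2 h
  rw [swap_apply_of_ne_of_ne h5 h6]

theorem blockSwap_mem (f : Ω → Fin b) (E : Ω ≃ Fin b × Fin 2) (hE : ∀ x, (E x).1 = f x) (v y : Ω)
    (hvy : f v ≠ f y) :
    swap v y * swap (bar E v) (bar E y) ∈ partStab f ⊓ alternatingGroup Ω := by
  refine ⟨?_, ?_⟩
  · intro x x'
    rw [blockSwap_f f E hE v y hvy, blockSwap_f f E hE v y hvy, (swap (f v) (f y)).injective.eq_iff]
  · change _ ∈ alternatingGroup Ω
    have h1 : v ≠ y := fun h => hvy (by rw [h])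
    have h2 : bar E v ≠ bar E y := fun h => h1 (bar_injective E h)
    rw [Perm.mem_alternatingGroup, map_mul, Perm.sign_swap h1, Perm.sign_swap h2]; rfl

omit [Fintype Ω] in
theorem conj_two_swaps (g : Perm Ω) (a c d e : Ω) :
    g * (swap a c * swap d e) * g⁻¹ = swap (g a) (g c) * swap (g d) (g e) := by
  rw [swap_apply_apply, swap_apply_apply]; group

omit [Fintype Ω] in
theorem swap_comm_of_nodup {a c d e : Ω} (h : [a, c, d, e].Nodup) :
    swap a c * swap d e = swap d e * swap a c :=
  (Perm.disjoint_swap_swap h).commute.eq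

end pairs

end Cfsg.Agent.H9AltPart
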