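import Mathlib
import Cfsg.Agent.Lib.Helper9.PartStab
import Cfsg.Agent.Lib.Helper9.AltPart1
import Cfsg.Agent.Lib.Helper9.AltPart3

set_option autoImplicit false

/-! # Three-cycles in overgroups of the even partition stabilizer: fibres of size two -/

namespace Cfsg.Agent.H9AltPart

open MulAction Equiv Cfsg.Agent.H9PartStab
open scoped Pointwise

variable {Ω : Type*} [Fintype Ω] [DecidableEq Ω] {b : ℕ}

theorem exists_bad_point (f : Ω → Fin b) (E : Ω ≃ Fin b × Fin 2) (hE : ∀ x, (E x).1 = f x)
    (G : Subgroup (Perm Ω)) (g : Perm Ω) (hg : g ∈ G) (hgP : g ∉ partStab f) :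
    ∃ g' ∈ G, ∃ u, f (g' u) ≠ f (g' (bar E u)) := by
  rw [mem_partStab] at hgP
  push Not at hgP
  obtain ⟨x, y, hxy⟩ := hgP
  by_cases h1 : f x = f y
  · have h2 : f (g x) ≠ f (g y) := by
      intro h2
      rcases hxy with ⟨_, h3⟩ | ⟨h3, _⟩
      · exact h3 h2
      · exact h3 h1
    have hne : y ≠ x := by
      intro h; apply h2; rw [h]
    rcases eq_or_eq_bar f E hE x y h1.symm with h3 | h3
    · exact absurd h3 hne
    · exact ⟨g, hg, x, by rw [← h3]; exact h2⟩
  · have h2 : f (g x) = f (g y) := by
      by_contra h2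
      rcases hxy with ⟨h3, _⟩ | ⟨_, h3⟩
      · exact h1 h3
      · exact h2 h3
    have hne : g y ≠ g x := by
      intro h; apply h1; rw [g.injective h]
    rcases eq_or_eq_bar f E hE (g x) (g y) h2.symm with h3 | h3
    · exact absurd h3 hne
    · refine ⟨g⁻¹, G.inv_mem hg, g x, ?_⟩
      rw [← h3, p_inv_apply, p_inv_apply]
      exact h1

theorem exists_threeCycle_two (hb3 : 3 ≤ b) (hb4 : b ≠ 4) (f : Ω → Fin b)
    (E : Ω ≃ Fin b × Fin 2) (hE : ∀ x, (E x).1 = f x)
    (G : Subgroup (Perm Ω)) (hG : partStab f ⊓ alternatingGroup Ω ≤ G)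
    (g : Perm Ω) (hg : g ∈ G) (u : Ω) (hu : f (g u) ≠ f (g (bar E u))) :
    ∃ c ∈ G, c.IsThreeCycle := by
  set v := g u with hv
  set y := g (bar E u) with hy
  set vb := bar E v with hvb
  set yb := bar E y with hyb
  have fvb : f vb = f v := f_bar f E hE v
  have fyb : f yb = f y := f_bar f E hE y
  have hvy : v ≠ y := fun h => hu (by rw [h])
  have hvbv : vb ≠ v := bar_ne E v
  have hyby : yb ≠ y := bar_ne E y
  have hvby : vb ≠ y := fun h => hu (by rw [← h, fvb])
  have hybv : yb ≠ v := fun h => hu (by rw [← h, fyb])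
  have hvbyb : vb ≠ yb := fun h => hu (by rw [← fvb, h, fyb])
  set m1 := g⁻¹ vb with hm1
  have gm1 : g m1 = vb := p_apply_inv g vb
  have hm1u : m1 ≠ u := fun h => hvbv (by rw [← gm1, h])
  have hm1bu : m1 ≠ bar E u := fun h => hvby (by rw [← gm1, h])
  have hbm1 : bar E m1 ≠ m1 := bar_ne E m1
  have hbm1u : bar E m1 ≠ u := fun h => hm1bu (by rw [← h, bar_bar])
  have hbm1bu : bar E m1 ≠ bar E u := fun h => hm1u (bar_injective E h)
  -- the block swap
  have ht : swap v y * swap vb yb ∈ G := hG (blockSwap_mem f E hE v y hu)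
  by_cases hcase : g (bar E m1) = yb
  · -- Case II
    obtain ⟨k, hk1, hk2⟩ : ∃ k : Fin b, k ≠ f u ∧ k ≠ f m1 := by
      have hc : ({f u, f m1} : Finset (Fin b)).card < (Finset.univ : Finset (Fin b)).card := by
        rw [Finset.card_univ, Fintype.card_fin]
        exact lt_of_le_of_lt Finset.card_le_two (by omega)
      obtain ⟨k, _, hk⟩ := Finset.exists_mem_notMem_of_card_lt_card hc
      simp only [Finset.mem_insert, Finset.mem_singleton, not_or] at hk
      exact ⟨k, hk.1, hk.2⟩
    set w : Ω := E.symm (k, 0) with hw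
    have fw : f w = k := by rw [← hE, hw, Equiv.apply_symm_apply]
    have fbw : f (bar E w) = k := by rw [f_bar f E hE, fw]
    have hbww : bar E w ≠ w := bar_ne E w
    have hwu : w ≠ u := fun h => hk1 (by rw [← fw, h])
    have hwbu : w ≠ bar E u := fun h => hk1 (by rw [← fw, h, f_bar f E hE])
    have hwm1 : w ≠ m1 := fun h => hk2 (by rw [← fw, h])
    have hwbm1 : w ≠ bar E m1 := fun h => hk2 (by rw [← fw, h, f_bar f E hE])
    have hbwu : bar E w ≠ u := fun h => hk1 (by rw [← fbw, h])
    have hbwbu : bar E w ≠ bar E u := fun h => hk1 (by rw [← fbw, h, f_bar f E hE])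
    have hbwm1 : bar E w ≠ m1 := fun h => hk2 (by rw [← fbw, h])
    have hbwbm1 : bar E w ≠ bar E m1 := fun h => hk2 (by rw [← fbw, h, f_bar f E hE])
    set p := g w with hp
    set q := g (bar E w) with hq
    have hpq : p ≠ q := fun h => hbww (g.injective h).symm
    have hpv : p ≠ v := fun h => hwu (g.injective h)
    have hpy : p ≠ y := fun h => hwbu (g.injective h)
    have hpvb : p ≠ vb := fun h => hwm1 (g.injective (by rw [gm1]; exact h))
    have hpyb : p ≠ yb := fun h => hwbm1 (g.injective (by rw [hcase]; exact h))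
    have hqv : q ≠ v := fun h => hbwu (g.injective h)
    have hqy : q ≠ y := fun h => hbwbu (g.injective h)
    have hqvb : q ≠ vb := fun h => hbwm1 (g.injective (by rw [gm1]; exact h))
    have hqyb : q ≠ yb := fun h => hbwbm1 (g.injective (by rw [hcase]; exact h))
    have hs : swap u (bar E u) * swap w (bar E w) ∈ G := hG (pairSwap_mem f E hE u w)
    have hr : swap v y * swap p q ∈ G := by
      have := G.mul_mem (G.mul_mem hg hs) (G.inv_mem hg)
      rwa [conj_two_swaps] at this
    by_cases hqp : q = bar E p
    · -- IIa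
      have hs2 : swap p (bar E p) * swap v vb ∈ G := hG (pairSwap_mem f E hE p v)
      refine ⟨swap v y * swap v vb, ?_, Perm.isThreeCycle_swap_mul_swap_same hvy hvbv.symm hvby.symm⟩
      have := G.mul_mem hr hs2
      rw [← hqp] at this
      have e : swap v y * swap p q * (swap p q * swap v vb) = swap v y * swap v vb := by
        rw [mul_assoc, ← mul_assoc (swap p q), swap_mul_self, one_mul]
      rwa [e] at this
    · -- IIb
      have hfpq : f p ≠ f q := by
        intro h
        rcases eq_or_eq_bar f E hE p q h.symm with h | h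
        · exact hpq h.symm
        · exact hqp h
      have hfpv : f p ≠ f v := by
        intro h
        rcases eq_or_eq_bar f E hE v p h with h | h
        · exact hpv h
        · exact hpvb h
      have hfpy : f p ≠ f y := by
        intro h
        rcases eq_or_eq_bar f E hE y p h with h | h
        · exact hpy h
        · exact hpyb h
      have hfqv : f q ≠ f v := by
        intro h
        rcases eq_or_eq_bar f E hE v q h with h | h
        · exact hqv h
        · exact hqvb h
      have hfqy : f q ≠ f y := by
        intro h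
        rcases eq_or_eq_bar f E hE y q h with h | h
        · exact hqy h
        · exact hqyb h
      -- r' = swap p q * swap vb yb
      have hr' : swap p q * swap vb yb ∈ G := by
        have := G.mul_mem hr ht
        have e : swap v y * swap p q * (swap v y * swap vb yb) = swap p q * swap vb yb := by
          rw [swap_comm_of_nodup (a := v) (c := y) (d := p) (e := q) (by
            simp only [List.nodup_cons, List.mem_cons, List.not_mem_nil, or_false, not_or,
              List.nodup_nil, and_true]
            exact ⟨⟨hvy, hpv.symm, hqv.symm⟩, ⟨hpy.symm, hqy.symm⟩, hpq, not_false⟩)]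
          rw [mul_assoc, ← mul_assoc (swap v y), swap_mul_self, one_mul]
        rwa [e] at this
      -- a fifth pair
      have h4 : ({f v, f y, f p, f q} : Finset (Fin b)).card = 4 := by
        rw [Finset.card_insert_of_notMem, Finset.card_insert_of_notMem,
          Finset.card_insert_of_notMem, Finset.card_singleton]
        · simp only [Finset.mem_singleton]; exact hfpq
        · simp only [Finset.mem_insert, Finset.mem_singleton, not_or]
          exact ⟨hfpy.symm, hfqy.symm⟩
        · simp only [Finset.mem_insert, Finset.mem_singleton, not_or]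
          exact ⟨hu, hfpv.symm, hfqv.symm⟩
      have hb5 : 5 ≤ b := by
        have := Finset.card_le_univ ({f v, f y, f p, f q} : Finset (Fin b))
        rw [h4, Fintype.card_fin] at this
        omega
      obtain ⟨k5, hk5⟩ : ∃ k5 : Fin b, k5 ≠ f v ∧ k5 ≠ f y ∧ k5 ≠ f p ∧ k5 ≠ f q := by
        have hc : ({f v, f y, f p, f q} : Finset (Fin b)).card
            < (Finset.univ : Finset (Fin b)).card := by
          rw [Finset.card_univ, Fintype.card_fin, h4]; omega
        obtain ⟨k, _, hk⟩ := Finset.exists_mem_notMem_of_card_lt_card hc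
        simp only [Finset.mem_insert, Finset.mem_singleton, not_or] at hk
        exact ⟨k, hk⟩
      obtain ⟨hk5v, hk5y, hk5p, hk5q⟩ := hk5
      set z : Ω := E.symm (k5, 0) with hz
      set zb := bar E z with hzb
      have fz : f z = k5 := by rw [← hE, hz, Equiv.apply_symm_apply]
      have fzb : f zb = k5 := by rw [hzb, f_bar f E hE, fz]
      have hzv : z ≠ v := fun h => hk5v (by rw [← fz, h])
      have hzvb : z ≠ vb := fun h => hk5v (by rw [← fz, h, fvb])
      have hzyb : z ≠ yb := fun h => hk5y (by rw [← fz, h, fyb])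
      have hzp : z ≠ p := fun h => hk5p (by rw [← fz, h])
      have hzq : z ≠ q := fun h => hk5q (by rw [← fz, h])
      have hzbv : zb ≠ v := fun h => hk5v (by rw [← fzb, h])
      have hzbvb : zb ≠ vb := fun h => hk5v (by rw [← fzb, h, fvb])
      have hzbyb : zb ≠ yb := fun h => hk5y (by rw [← fzb, h, fyb])
      have hzbp : zb ≠ p := fun h => hk5p (by rw [← fzb, h])
      have hzbq : zb ≠ q := fun h => hk5q (by rw [← fzb, h])
      have hs' : swap v vb * swap z zb ∈ G := hG (pairSwap_mem f E hE v z)
      refine ⟨swap v yb * swap v vb, ?_, Perm.isThreeCycle_swap_mul_swap_same hybv.symm hvbv.symm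
        hvbyb.symm⟩
      have hc := G.mul_mem (G.mul_mem (G.mul_mem hr' hs') (G.inv_mem hr')) (G.inv_mem hs')
      rw [conj_two_swaps] at hc
      have e1 : (swap p q * swap vb yb) v = v := by
        rw [Perm.mul_apply, swap_apply_of_ne_of_ne hvbv.symm hybv.symm,
          swap_apply_of_ne_of_ne hpv.symm hqv.symm]
      have e2 : (swap p q * swap vb yb) vb = yb := by
        rw [Perm.mul_apply, swap_apply_left, swap_apply_of_ne_of_ne hpyb.symm hqyb.symm]
      have e3 : (swap p q * swap vb yb) z = z := by
        rw [Perm.mul_apply, swap_apply_of_ne_of_ne hzvb hzyb, swap_apply_of_ne_of_ne hzp hzq]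
      have e4 : (swap p q * swap vb yb) zb = zb := by
        rw [Perm.mul_apply, swap_apply_of_ne_of_ne hzbvb hzbyb, swap_apply_of_ne_of_ne hzbp hzbq]
      rw [e1, e2, e3, e4, mul_inv_rev, swap_inv, swap_inv] at hc
      have e : swap v yb * swap z zb * (swap z zb * swap v vb) = swap v yb * swap v vb := by
        rw [mul_assoc, ← mul_assoc (swap z zb), swap_mul_self, one_mul]
      rwa [e] at hc
  · -- Case I
    set q := g (bar E m1) with hq
    have hqyb : q ≠ yb := hcase
    have hqvb : q ≠ vb := fun h => hbm1 (g.injective (by rw [gm1]; exact h))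
    have hqv : q ≠ v := fun h => hbm1u (g.injective h)
    have hqy : q ≠ y := fun h => hbm1bu (g.injective h)
    have hs : swap u (bar E u) * swap m1 (bar E m1) ∈ G := hG (pairSwap_mem f E hE u m1)
    have hr : swap v y * swap vb q ∈ G := by
      have := G.mul_mem (G.mul_mem hg hs) (G.inv_mem hg)
      rwa [conj_two_swaps, gm1] at this
    refine ⟨swap vb q * swap vb yb, ?_, Perm.isThreeCycle_swap_mul_swap_same hqvb.symm hvbyb hqyb⟩
    have := G.mul_mem hr ht
    have e : swap v y * swap vb q * (swap v y * swap vb yb) = swap vb q * swap vb yb := by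
      rw [swap_comm_of_nodup (a := v) (c := y) (d := vb) (e := q) (by
        simp only [List.nodup_cons, List.mem_cons, List.not_mem_nil, or_false, not_or,
          List.nodup_nil, and_true]
        exact ⟨⟨hvy, hvbv.symm, hqv.symm⟩, ⟨hvby.symm, hqy.symm⟩, hqvb.symm, not_false⟩)]
      rw [mul_assoc, ← mul_assoc (swap v y), swap_mul_self, one_mul]
    rwa [e] at this

end Cfsg.Agent.H9AltPart
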