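import Mathlib
import Cfsg.Agent.Lib.Helper9.PartStab
import Cfsg.Agent.Lib.Helper9.AltPart1

set_option autoImplicit false

/-! # The even partition stabilizer for `n = 4` -/

namespace Cfsg.Agent.H9AltPart

open MulAction Equiv Cfsg.Agent.H9PartStab
open scoped Pointwise

/-- the concrete model -/
def C₀ : Set (Perm (Fin 2 × Fin 2)) :=
  {h | (∀ x y : Fin 2 × Fin 2, x.1 = y.1 ↔ (h x).1 = (h y).1) ∧ Perm.sign h = 1}

instance (h : Perm (Fin 2 × Fin 2)) : Decidable (h ∈ C₀) := by
  unfold C₀; simp only [Set.mem_setOf_eq]; infer_instance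

theorem card_C₀ : Fintype.card {h : Perm (Fin 2 × Fin 2) // h ∈ C₀} = 4 := by
  decide +kernel

variable {Ω : Type*} [Fintype Ω] [DecidableEq Ω]

theorem isCoatom_four (f : Ω → Fin 2) (hf : ∀ i : Fin 2, Nat.card {x : Ω // f x = i} = 2) :
    IsCoatom ((partStab f ⊓ alternatingGroup Ω).subgroupOf (alternatingGroup Ω)) := by
  obtain ⟨E, hE⟩ := exists_coord f 2 hf
  have hcard : Fintype.card Ω = 4 := by
    rw [Fintype.card_congr E, Fintype.card_prod, Fintype.card_fin]
  haveI : Nontrivial Ω := Fintype.one_lt_card_iff_nontrivial.mp (by omega)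
  have hA : Nat.card (alternatingGroup Ω) = 12 := by
    have := two_mul_card_alternatingGroup (α := Ω)
    rw [Fintype.card_perm, hcard] at this
    rw [Nat.card_eq_fintype_card]
    have h4 : Nat.factorial 4 = 24 := by decide
    omega
  let c : Perm Ω ≃* Perm (Fin 2 × Fin 2) := E.permCongrHom
  have hc : ∀ (g : Perm Ω) (x : Ω), c g (E x) = E (g x) := by
    intro g x
    simp [c, Equiv.permCongrHom]
  have hsign : ∀ g : Perm Ω, Perm.sign (c g) = Perm.sign g :=
    fun g => Perm.sign_permCongr E g
  have hmem : ∀ g : Perm Ω, g ∈ partStab f ⊓ alternatingGroup Ω ↔ c g ∈ C₀ := by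
    intro g
    constructor
    · rintro ⟨hg, hgA⟩
      refine ⟨?_, by rw [hsign]; exact Perm.mem_alternatingGroup.mp hgA⟩
      intro v w
      obtain ⟨x, rfl⟩ := E.surjective v
      obtain ⟨y, rfl⟩ := E.surjective w
      rw [hc, hc, hE, hE, hE, hE]
      exact hg x y
    · rintro ⟨hg, hgs⟩
      refine ⟨?_, Perm.mem_alternatingGroup.mpr (by rw [← hsign]; exact hgs)⟩
      intro x y
      have := hg (E x) (E y)
      rw [hc, hc, hE, hE, hE, hE] at this
      exact this
  have hP : Nat.card ↥(partStab f ⊓ alternatingGroup Ω) = 4 := by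
    have e : ↥(partStab f ⊓ alternatingGroup Ω) ≃ {h : Perm (Fin 2 × Fin 2) // h ∈ C₀} :=
      Equiv.subtypeEquiv c.toEquiv (fun g => hmem g)
    rw [Nat.card_congr e, Nat.card_eq_fintype_card, card_C₀]
  have hP' : Nat.card ↥((partStab f ⊓ alternatingGroup Ω).subgroupOf (alternatingGroup Ω)) = 4 := by
    rw [Nat.card_congr (Subgroup.subgroupOfEquivOfLe (inf_le_right :
      partStab f ⊓ alternatingGroup Ω ≤ alternatingGroup Ω)).toEquiv, hP]
  constructor
  · intro h
    rw [h, Subgroup.card_top, hA] at hP'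
    omega
  · intro K' hK'
    have h1 := Subgroup.card_dvd_of_le hK'.le
    have h2 : Nat.card K' ∣ 12 := hA ▸ Subgroup.card_subgroup_dvd_card K'
    have h3 : Nat.card ↥((partStab f ⊓ alternatingGroup Ω).subgroupOf (alternatingGroup Ω))
        < Nat.card K' := by
      by_contra hge
      push Not at hge
      exact hK'.ne (Subgroup.eq_of_le_of_card_ge hK'.le hge)
    rw [hP'] at h1 h3
    have h5 : Nat.card K' = 12 := by
      have h6 := Nat.le_of_dvd (by norm_num) h2
      obtain ⟨m, hm⟩ := h1
      obtain ⟨k, hk⟩ := h2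
      have : m ≤ 3 := by omega
      interval_cases m
      · omega
      · omega
      · exfalso
        rw [hm] at hk
        omega
      · omega
    apply (Subgroup.card_eq_iff_eq_top K').mp
    rw [h5, hA]

end Cfsg.Agent.H9AltPart
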