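import Mathlib

set_option autoImplicit false

/-! Regular vectors for coprime abelian actions (no Maschke needed). -/

namespace Cfsg.Agent.H9Amb

universe u v

theorem card_lt_of_lt {G : Type*} [Group G] [Finite G] {H K : Subgroup G} (h : H < K) :
    Nat.card H < Nat.card K := by
  by_contra hlt
  push Not at hlt
  exact h.ne (Subgroup.eq_of_le_of_card_ge h.le hlt)

section core
variable {B : Type u} {N : Type v} [CommGroup B] [Finite B] [CommGroup N] [Finite N]

/-- the norm map of `φ b` -/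
noncomputable def nrm (φ : B →* MulAut N) (b : B) (v : N) : N :=
  ∏ i ∈ Finset.range (Nat.card B), φ (b ^ i) v

theorem nrm_mul (φ : B →* MulAut N) (b : B) (v w : N) : nrm φ b (v * w) = nrm φ b v * nrm φ b w := by
  unfold nrm
  rw [← Finset.prod_mul_distrib]
  apply Finset.prod_congr rfl
  intro i _
  exact map_mul _ _ _

theorem nrm_one (φ : B →* MulAut N) (b : B) : nrm φ b 1 = 1 := by
  unfold nrm
  apply Finset.prod_eq_one
  intro i _
  exact map_one _

theorem nrm_inv (φ : B →* MulAut N) (b : B) (v : N) : nrm φ b v⁻¹ = (nrm φ b v)⁻¹ := by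
  apply eq_inv_of_mul_eq_one_left
  rw [← nrm_mul, inv_mul_cancel, nrm_one]

theorem nrm_pow (φ : B →* MulAut N) (b : B) (v : N) (k : ℕ) : nrm φ b (v ^ k) = (nrm φ b v) ^ k := by
  induction k with
  | zero => simp [nrm_one]
  | succ k ih => rw [pow_succ, nrm_mul, ih, pow_succ]

theorem nrm_comm (φ : B →* MulAut N) (b c : B) (v : N) : nrm φ b (φ c v) = φ c (nrm φ b v) := by
  unfold nrm
  rw [map_prod]
  apply Finset.prod_congr rfl
  intro i _
  have h : φ (b ^ i) * φ c = φ c * φ (b ^ i) := by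
    rw [← map_mul, ← map_mul, mul_comm]
  have := congrArg (fun f : MulAut N => f v) h
  simpa [MulAut.mul_apply] using this

theorem nrm_of_fixed (φ : B →* MulAut N) (b : B) (v : N) (hv : φ b v = v) :
    nrm φ b v = v ^ Nat.card B := by
  unfold nrm
  have h : ∀ i : ℕ, φ (b ^ i) v = v := by
    intro i
    induction i with
    | zero => simp
    | succ i ih =>
      rw [pow_succ, map_mul, MulAut.mul_apply, hv, ih]
  rw [Finset.prod_congr rfl (fun i _ => h i)]
  simp

theorem nrm_fixed (φ : B →* MulAut N) (b : B) (v : N) : φ b (nrm φ b v) = nrm φ b v := by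
  unfold nrm
  rw [map_prod]
  have hc : b ^ Nat.card B = 1 := pow_card_eq_one'
  have h1 : ∀ i : ℕ, φ b (φ (b ^ i) v) = φ (b ^ (i + 1)) v := by
    intro i
    rw [pow_succ', map_mul, MulAut.mul_apply]
  rw [Finset.prod_congr rfl (fun i _ => h1 i)]
  have h2 := Finset.prod_range_succ (fun i => φ (b ^ i) v) (Nat.card B)
  have h3 := Finset.prod_range_succ' (fun i => φ (b ^ i) v) (Nat.card B)
  rw [h2] at h3
  simp only [hc, pow_zero] at h3
  exact (mul_right_cancel h3).symm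

theorem nrm_mem (φ : B →* MulAut N) (b : B) (N' : Subgroup N)
    (hinv : ∀ c : B, ∀ v ∈ N', φ c v ∈ N') (v : N) (hv : v ∈ N') : nrm φ b v ∈ N' := by
  unfold nrm
  exact Subgroup.prod_mem _ (fun i _ => hinv _ v hv)

/-- the fixed points of `b` in `N'` -/
def fixSub (φ : B →* MulAut N) (b : B) (N' : Subgroup N) : Subgroup N where
  carrier := {v | v ∈ N' ∧ φ b v = v}
  mul_mem' := by
    rintro x y ⟨hx, hx'⟩ ⟨hy, hy'⟩
    exact ⟨N'.mul_mem hx hy, by rw [map_mul, hx', hy']⟩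
  one_mem' := ⟨N'.one_mem, map_one _⟩
  inv_mem' := by
    rintro x ⟨hx, hx'⟩
    exact ⟨N'.inv_mem hx, by rw [map_inv, hx']⟩

/-- the kernel of the norm of `b` in `N'` -/
def kerSub (φ : B →* MulAut N) (b : B) (N' : Subgroup N) : Subgroup N where
  carrier := {v | v ∈ N' ∧ nrm φ b v = 1}
  mul_mem' := by
    rintro x y ⟨hx, hx'⟩ ⟨hy, hy'⟩
    exact ⟨N'.mul_mem hx hy, by rw [nrm_mul, hx', hy', mul_one]⟩
  one_mem' := ⟨N'.one_mem, nrm_one _ _⟩
  inv_mem' := by
    rintro x ⟨hx, hx'⟩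
    exact ⟨N'.inv_mem hx, by rw [nrm_inv, hx', inv_one]⟩

theorem fixSub_inf_kerSub (φ : B →* MulAut N) (hcop : (Nat.card N).Coprime (Nat.card B)) (b : B)
    (N' : Subgroup N) : fixSub φ b N' ⊓ kerSub φ b N' = ⊥ := by
  rw [eq_bot_iff]
  rintro u ⟨⟨-, hu1⟩, ⟨-, hu2⟩⟩
  rw [nrm_of_fixed φ b u hu1] at hu2
  have h1 : orderOf u ∣ Nat.card B := orderOf_dvd_of_pow_eq_one hu2
  have h2 : orderOf u ∣ Nat.card N := orderOf_dvd_natCard u
  have h3 : orderOf u ∣ 1 := by
    have := Nat.dvd_gcd h2 h1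
    rwa [hcop.gcd_eq_one] at this
  rw [Subgroup.mem_bot]
  exact orderOf_eq_one_iff.mp (Nat.dvd_one.mp h3)

theorem exists_decomp (φ : B →* MulAut N) (hcop : (Nat.card N).Coprime (Nat.card B)) (b : B)
    (N' : Subgroup N) (hinv : ∀ c : B, ∀ v ∈ N', φ c v ∈ N') (w : N) (hw : w ∈ N') :
    ∃ w1 ∈ fixSub φ b N', ∃ w2 ∈ kerSub φ b N', w = w1 * w2 := by
  have hcop' : (Nat.card N').Coprime (Nat.card B) :=
    Nat.Coprime.coprime_dvd_left (Subgroup.card_subgroup_dvd_card N') hcop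
  obtain ⟨y, hy⟩ := (powCoprime hcop').surjective ⟨w, hw⟩
  have hy' : (y : N) ^ Nat.card B = w := by
    have := congrArg Subtype.val hy
    simpa using this
  refine ⟨nrm φ b y, ⟨nrm_mem φ b N' hinv y y.2, nrm_fixed φ b y⟩, w * (nrm φ b y)⁻¹,
    ⟨N'.mul_mem hw (N'.inv_mem (nrm_mem φ b N' hinv y y.2)), ?_⟩, ?_⟩
  · rw [nrm_mul, nrm_inv, nrm_of_fixed φ b _ (nrm_fixed φ b y), ← hy', nrm_pow, mul_inv_cancel]
  · rw [mul_comm w, mul_inv_cancel_left]

theorem exists_regular_aux (φ : B →* MulAut N) (hcop : (Nat.card N).Coprime (Nat.card B)) :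
    ∀ (n : ℕ) (N' : Subgroup N), Nat.card N' = n → (∀ c : B, ∀ v ∈ N', φ c v ∈ N') →
      ∃ v ∈ N', ∀ c : B, φ c v = v → ∀ w ∈ N', φ c w = w := by
  intro n
  induction n using Nat.strong_induction_on with
  | _ n ih =>
  intro N' hn hinv
  by_cases hcase : ∃ b : B, (∃ w ∈ N', φ b w ≠ w) ∧ (∃ v ∈ N', v ≠ 1 ∧ φ b v = v)
  · obtain ⟨b, ⟨w0, hw0, hw0'⟩, ⟨v0, hv0, hv01, hv0f⟩⟩ := hcase
    have h1le : fixSub φ b N' ≤ N' := fun x hx => hx.1
    have h2le : kerSub φ b N' ≤ N' := fun x hx => hx.1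
    have hbot := fixSub_inf_kerSub φ hcop b N'
    have h1ne : fixSub φ b N' ≠ N' := by
      intro h
      have : w0 ∈ fixSub φ b N' := by rw [h]; exact hw0
      exact hw0' this.2
    have h2ne : kerSub φ b N' ≠ N' := by
      intro h
      have h3 : v0 ∈ fixSub φ b N' ⊓ kerSub φ b N' :=
        ⟨⟨hv0, hv0f⟩, by rw [h]; exact hv0⟩
      rw [hbot, Subgroup.mem_bot] at h3
      exact hv01 h3
    have hc1 : Nat.card (fixSub φ b N') < n := by
      rw [← hn]
      exact card_lt_of_lt (lt_of_le_of_ne h1le h1ne)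
    have hc2 : Nat.card (kerSub φ b N') < n := by
      rw [← hn]
      exact card_lt_of_lt (lt_of_le_of_ne h2le h2ne)
    have hi1 : ∀ c : B, ∀ v ∈ fixSub φ b N', φ c v ∈ fixSub φ b N' := by
      rintro c v ⟨hv, hv'⟩
      refine ⟨hinv c v hv, ?_⟩
      have h : φ b * φ c = φ c * φ b := by rw [← map_mul, ← map_mul, mul_comm]
      have := congrArg (fun f : MulAut N => f v) h
      simp only [MulAut.mul_apply] at this
      rw [this, hv']
    have hi2 : ∀ c : B, ∀ v ∈ kerSub φ b N', φ c v ∈ kerSub φ b N' := by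
      rintro c v ⟨hv, hv'⟩
      refine ⟨hinv c v hv, ?_⟩
      rw [nrm_comm, hv', map_one]
    obtain ⟨v1, hv1, hv1'⟩ := ih _ hc1 (fixSub φ b N') rfl hi1
    obtain ⟨v2, hv2, hv2'⟩ := ih _ hc2 (kerSub φ b N') rfl hi2
    refine ⟨v1 * v2, N'.mul_mem (h1le hv1) (h2le hv2), ?_⟩
    intro c hc w hw
    rw [map_mul] at hc
    have hd : v1⁻¹ * φ c v1 = v2 * (φ c v2)⁻¹ := by
      rw [inv_mul_eq_iff_eq_mul, ← mul_assoc, eq_mul_inv_iff_mul_eq]
      exact hc
    have hd1 : v1⁻¹ * φ c v1 ∈ fixSub φ b N' :=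
      (fixSub φ b N').mul_mem ((fixSub φ b N').inv_mem hv1) (hi1 c v1 hv1)
    have hd2 : v1⁻¹ * φ c v1 ∈ kerSub φ b N' := by
      rw [hd]
      exact (kerSub φ b N').mul_mem hv2 ((kerSub φ b N').inv_mem (hi2 c v2 hv2))
    have hd3 : v1⁻¹ * φ c v1 ∈ fixSub φ b N' ⊓ kerSub φ b N' := ⟨hd1, hd2⟩
    rw [hbot, Subgroup.mem_bot] at hd3
    have e1 : φ c v1 = v1 := by
      rw [inv_mul_eq_one] at hd3
      exact hd3.symm
    have e2 : φ c v2 = v2 := by
      rw [hd3] at hd
      have := hd.symm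
      rw [mul_inv_eq_one] at this
      exact this.symm
    obtain ⟨w1, hw1, w2, hw2, rfl⟩ := exists_decomp φ hcop b N' hinv w hw
    rw [map_mul, hv1' c e1 w1 hw1, hv2' c e2 w2 hw2]
  · push Not at hcase
    by_cases hbot : N' = ⊥
    · refine ⟨1, N'.one_mem, ?_⟩
      intro c _ w hw
      rw [hbot, Subgroup.mem_bot] at hw
      rw [hw, map_one]
    · obtain ⟨v, hv1⟩ := (Subgroup.ne_bot_iff_exists_ne_one).mp hbot
      have hv1' : (v : N) ≠ 1 := fun h => hv1 (Subtype.ext h)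
      refine ⟨v, v.2, ?_⟩
      intro c hc w hw
      by_contra hne
      exact hcase c ⟨w, hw, hne⟩ v v.2 hv1' hc

/-- **regular vector**: an abelian group acting coprimely on a finite abelian group has a vector whose
stabilizer acts trivially. -/
theorem exists_regular (φ : B →* MulAut N) (hcop : (Nat.card N).Coprime (Nat.card B)) :
    ∃ v : N, ∀ c : B, φ c v = v → φ c = 1 := by
  obtain ⟨v, -, hv⟩ := exists_regular_aux φ hcop _ ⊤ rfl (fun _ _ _ => Subgroup.mem_top _)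
  refine ⟨v, fun c hc => ?_⟩
  ext w
  exact hv c hc w (Subgroup.mem_top _)

end core

/-- version with explicit commutativity hypotheses -/
theorem exists_regular' {B : Type u} {N : Type v} [Group B] [Finite B] [Group N] [Finite N]
    (hB : ∀ a b : B, a * b = b * a) (hN : ∀ a b : N, a * b = b * a)
    (φ : B →* MulAut N) (hcop : (Nat.card N).Coprime (Nat.card B)) :
    ∃ v : N, ∀ c : B, φ c v = v → φ c = 1 := by
  let iB : CommGroup B := { (inferInstance : Group B) with mul_comm := hB }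
  let iN : CommGroup N := { (inferInstance : Group N) with mul_comm := hN }
  exact exists_regular (B := B) (N := N) φ hcop

end Cfsg.Agent.H9Amb
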