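import Mathlib
import Cfsg.Agent.Lib.Helper9.Amb1

set_option autoImplicit false

/-! Ambivalent groups: real elements are inverted by 2-elements. -/

namespace Cfsg.Agent.H9Amb

universe u

section
variable {G : Type u} [Group G]

theorem conj_pow_of_inv {g x : G} (h : g * x * g⁻¹ = x⁻¹) (k : ℕ) :
    g ^ k * x * (g ^ k)⁻¹ = if Even k then x else x⁻¹ := by
  induction k with
  | zero => simp
  | succ k ih =>
    have e : g ^ (k + 1) * x * (g ^ (k + 1))⁻¹ = g * (g ^ k * x * (g ^ k)⁻¹) * g⁻¹ := by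
      rw [pow_succ']; group
    rw [e, ih]
    by_cases hk : Even k
    · have : ¬ Even (k + 1) := by
        rw [Nat.even_add_one]; exact not_not.mpr hk
      rw [if_pos hk, if_neg this, h]
    · have : Even (k + 1) := by
        rw [Nat.even_add_one]; exact hk
      rw [if_neg hk, if_pos this]
      have : g * x⁻¹ * g⁻¹ = (g * x * g⁻¹)⁻¹ := by group
      rw [this, h, inv_inv]

theorem eq_one_of_odd_of_pow_two_pow {x : G} (hx : Odd (orderOf x)) (k : ℕ) (h : x ^ (2 ^ k) = 1) :
    x = 1 := by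
  have h1 : orderOf x ∣ 2 ^ k := orderOf_dvd_of_pow_eq_one h
  have h2 : (orderOf x).Coprime (2 ^ k) :=
    Nat.Coprime.pow_right k hx.coprime_two_right
  have h3 : orderOf x = 1 := Nat.Coprime.eq_one_of_dvd h2 h1
  exact orderOf_eq_one_iff.mp h3

variable [Finite G]

/-- a real element is inverted by a 2-element -/
theorem exists_two_element_inverting {x : G} (hx : IsConj x x⁻¹) :
    ∃ (h : G) (a : ℕ), orderOf h = 2 ^ a ∧ h * x * h⁻¹ = x⁻¹ := by
  rw [isConj_iff] at hx
  obtain ⟨g, hg⟩ := hx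
  have hn : orderOf g ≠ 0 := (orderOf_pos g).ne'
  obtain ⟨a, m, hm, hnm⟩ := Nat.exists_eq_two_pow_mul_odd hn
  refine ⟨g ^ m, a, ?_, ?_⟩
  · rw [orderOf_pow' g (by rintro rfl; simp at hm), hnm, Nat.gcd_mul_left_left,
      Nat.mul_div_cancel _ hm.pos]
  · rw [conj_pow_of_inv hg m, if_neg (Nat.not_even_iff_odd.mpr hm)]

/-- **key**: in an ambivalent group whose involutions all lie in a normal elementary abelian
2-subgroup `N`, every nontrivial element of odd order centralizes an involution of `N`. -/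
theorem exists_central_involution (hamb : ∀ x : G, IsConj x x⁻¹) (N : Subgroup G) [hN : N.Normal]
    (hNexp : ∀ v ∈ N, v ^ 2 = 1) (hinv : ∀ t : G, orderOf t = 2 → t ∈ N)
    (x : G) (hx : Odd (orderOf x)) (hx1 : x ≠ 1) : ∃ u ∈ N, u ≠ 1 ∧ u * x = x * u := by
  obtain ⟨h, a, ha, hh⟩ := exists_two_element_inverting (hamb x)
  rcases Nat.eq_zero_or_pos a with rfl | hapos
  · exfalso
    rw [pow_zero, orderOf_eq_one_iff] at ha
    subst ha
    simp only [one_mul, inv_one, mul_one] at hh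
    apply hx1
    apply eq_one_of_odd_of_pow_two_pow hx 1
    rw [pow_one, pow_two]
    nth_rewrite 1 [hh]
    exact inv_mul_cancel x
  · have hu : orderOf (h ^ 2 ^ (a - 1)) = 2 := by
      rw [orderOf_pow' h (by positivity), ha]
      have e : 2 ^ a = 2 ^ (a - 1) * 2 := by
        rw [← pow_succ]; congr 1; omega
      rw [e, Nat.gcd_mul_right_left, Nat.mul_div_cancel_left _ (by positivity)]
    have huN : h ^ 2 ^ (a - 1) ∈ N := hinv _ hu
    have hu1 : h ^ 2 ^ (a - 1) ≠ 1 := by
      intro h1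
      rw [h1, orderOf_one] at hu
      exact absurd hu (by norm_num)
    have hc := conj_pow_of_inv hh (2 ^ (a - 1))
    by_cases hev : Even (2 ^ (a - 1))
    · rw [if_pos hev] at hc
      exact ⟨_, huN, hu1, mul_inv_eq_iff_eq_mul.mp hc⟩
    · exfalso
      rw [if_neg hev] at hc
      -- x² ∈ N
      have h2 : x * x ∈ N := by
        have e : x * x = (x * (h ^ 2 ^ (a - 1)) * x⁻¹) * (h ^ 2 ^ (a - 1))⁻¹ := by
          have e1 : h ^ 2 ^ (a - 1) * x⁻¹ * (h ^ 2 ^ (a - 1))⁻¹ = x := by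
            have : h ^ 2 ^ (a - 1) * x⁻¹ * (h ^ 2 ^ (a - 1))⁻¹
                = (h ^ 2 ^ (a - 1) * x * (h ^ 2 ^ (a - 1))⁻¹)⁻¹ := by group
            rw [this, hc, inv_inv]
          calc x * x = x * (h ^ 2 ^ (a - 1) * x⁻¹ * (h ^ 2 ^ (a - 1))⁻¹) := by rw [e1]
            _ = _ := by group
        rw [e]
        exact N.mul_mem (hN.conj_mem _ huN x) (N.inv_mem huN)
      have h3 := hNexp _ h2
      apply hx1
      apply eq_one_of_odd_of_pow_two_pow hx 2
      rw [show (2:ℕ) ^ 2 = 4 by norm_num]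
      rw [← h3, ← pow_two, ← pow_mul]

end

end Cfsg.Agent.H9Amb
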