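import Mathlib
import Cfsg.Agent.Lib.Helper9.Amb2
import Cfsg.Agent.Lib.Helper2.MinNormal
import Cfsg.Agent.Lib.Helper4.TD4

set_option autoImplicit false

/-! Ambivalent solvable groups with one class of involutions: the 2-case. -/

namespace Cfsg.Agent.H9Amb

universe u

section
variable {G : Type u} [Group G] [Finite G]

/-- a minimal normal subgroup of a finite nontrivial solvable group, with all its data -/
theorem exists_minNormal_data [Group.IsSolvable G] [Nontrivial G] :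
    ∃ M : Subgroup G, M.Normal ∧ M ≠ ⊥ ∧
      (∀ K : Subgroup G, K.Normal → K ≤ M → K = ⊥ ∨ K = M) ∧
      (∀ a ∈ M, ∀ b ∈ M, a * b = b * a) ∧
      ∃ q d : ℕ, q.Prime ∧ (∀ x ∈ M, x ^ q = 1) ∧ Nat.card M = q ^ d := by
  obtain ⟨V, hVn, hV1, hVmin⟩ := Cfsg.Agent.Lib.Helper4.TD.exists_minimal_normal (X := G)
  have hmin : ∀ K : Subgroup G, K.Normal → K ≤ V → K = ⊥ ∨ K = V := by
    intro K hK hKV
    by_cases h : K = ⊥
    · exact Or.inl h
    · exact Or.inr (hVmin K hK hKV h)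
  haveI := hVn
  have hc := Cfsg.Agent.Lib.Helper2.isMulCommutative_of_minNormal_of_solvable V hV1 hmin
  obtain ⟨q, hq, hexp, d, -, hd⟩ :=
    Cfsg.Agent.Lib.Helper2.exists_prime_pow_of_minNormal_abelian V hV1 hmin hc
  refine ⟨V, hVn, hV1, hmin, ?_, q, d, hq, hexp, hd⟩
  intro a ha b hb
  have := hc.is_comm.comm ⟨a, ha⟩ ⟨b, hb⟩
  exact congrArg Subtype.val this

variable (N : Subgroup G) [hNn : N.Normal]

/-- the conjugation action of `G` on the normal subgroup `N` -/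
noncomputable def kap : G →* MulAut N := MulAut.conjNormal

theorem kap_apply (g : G) (n : N) : ((kap N g n : N) : G) = g * n * g⁻¹ :=
  MulAut.conjNormal_apply g n

/-- conjugation inside a normal subgroup `B₀` of the range -/
theorem exists_cj (B₀ : Subgroup (kap N).range) [hB : B₀.Normal] (g : G) (b : B₀) :
    ∃ b' : B₀, ((b' : (kap N).range) : MulAut N) = kap N g * ((b : (kap N).range) : MulAut N) * (kap N g)⁻¹ := by
  let c : (kap N).range := ⟨kap N g, g, rfl⟩
  exact ⟨⟨c * b * c⁻¹, hB.conj_mem b b.2 c⟩, rfl⟩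

/-- the action of `B₀` on `N` -/
noncomputable def psi (B₀ : Subgroup (kap N).range) : B₀ →* MulAut N :=
  ((kap N).range.subtype).comp B₀.subtype

theorem psi_injective (B₀ : Subgroup (kap N).range) : Function.Injective (psi N B₀) := by
  intro a b h
  exact Subtype.ext (Subtype.ext h)

theorem psi_apply (B₀ : Subgroup (kap N).range) (b : B₀) :
    psi N B₀ b = ((b : (kap N).range) : MulAut N) := rfl

include hNn in
theorem odd_case (hamb : ∀ x : G, IsConj x x⁻¹)
    (hone : ∀ s t : G, orderOf s = 2 → orderOf t = 2 → IsConj s t)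
    (hexp : ∀ v ∈ N, v ^ 2 = 1) (hcomm : ∀ a ∈ N, ∀ b ∈ N, a * b = b * a) (d : ℕ)
    (hcard : Nat.card N = 2 ^ d) (hinv : ∀ t : G, orderOf t = 2 → t ∈ N)
    (B₀ : Subgroup (kap N).range) [hBn : B₀.Normal] (hB1 : B₀ ≠ ⊥)
    (hBc : ∀ a ∈ B₀, ∀ b ∈ B₀, a * b = b * a) (r e : ℕ) (hr : r.Prime) (hr2 : r ≠ 2)
    (hBexp : ∀ x ∈ B₀, x ^ r = 1) (hBcard : Nat.card B₀ = r ^ e) : False := by
  have hcop : (Nat.card N).Coprime (Nat.card B₀) := by
    rw [hcard, hBcard]
    exact Nat.Coprime.pow _ _ ((Nat.coprime_primes Nat.prime_two hr).mpr (Ne.symm hr2))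
  obtain ⟨v, hv⟩ := exists_regular' (B := B₀) (N := N)
    (fun a b => Subtype.ext (hBc a a.2 b b.2)) (fun a b => Subtype.ext (hcomm a a.2 b b.2))
    (psi N B₀) hcop
  obtain ⟨b₁, hb₁⟩ := (Subgroup.ne_bot_iff_exists_ne_one).mp hB1
  have hv1 : v ≠ 1 := by
    rintro rfl
    exact hb₁ (psi_injective N B₀ ((hv b₁ (map_one _)).trans (map_one _).symm))
  have hv1' : (v : G) ≠ 1 := fun h => hv1 (Subtype.ext h)
  have hv2 : orderOf (v : G) = 2 := orderOf_eq_prime (hexp v v.2) hv1'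
  obtain ⟨x₀, hx₀⟩ : ∃ x₀ : G, kap N x₀ = ((b₁ : (kap N).range) : MulAut N) := (b₁ : (kap N).range).2
  have hn : orderOf x₀ ≠ 0 := (orderOf_pos x₀).ne'
  obtain ⟨a, m, hm, hnm⟩ := Nat.exists_eq_two_pow_mul_odd hn
  have hxord : orderOf (x₀ ^ 2 ^ a) = m := by
    rw [orderOf_pow' x₀ (by positivity), hnm, Nat.gcd_mul_right_left,
      Nat.mul_div_cancel_left _ (by positivity)]
  haveI : Fact r.Prime := ⟨hr⟩
  have hb₁r : orderOf b₁ = r := by
    apply orderOf_eq_prime
    · exact Subtype.ext (hBexp b₁ b₁.2)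
    · exact hb₁
  have hb₁a : b₁ ^ 2 ^ a ≠ 1 := by
    intro h
    have h1 : r ∣ 2 ^ a := hb₁r ▸ orderOf_dvd_of_pow_eq_one h
    have h2 : r ∣ 2 := hr.dvd_of_dvd_pow h1
    exact hr2 ((Nat.prime_dvd_prime_iff_eq hr Nat.prime_two).mp h2)
  have hkx : kap N (x₀ ^ 2 ^ a) = psi N B₀ (b₁ ^ 2 ^ a) := by
    rw [map_pow, map_pow, hx₀, psi_apply]
  have hx1 : x₀ ^ 2 ^ a ≠ 1 := by
    intro h
    rw [h, map_one] at hkx
    exact hb₁a (psi_injective N B₀ (hkx.symm.trans (map_one _).symm))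
  obtain ⟨u, huN, hu1, hux⟩ := exists_central_involution hamb N hexp hinv (x₀ ^ 2 ^ a)
    (hxord ▸ hm) hx1
  have hu2 : orderOf u = 2 := orderOf_eq_prime (hexp u huN) hu1
  have hconj := hone u v hu2 hv2
  rw [isConj_iff] at hconj
  obtain ⟨g, hg⟩ := hconj
  obtain ⟨c, hc⟩ := exists_cj N B₀ g (b₁ ^ 2 ^ a)
  have hcv : psi N B₀ c v = v := by
    rw [psi_apply, hc, ← psi_apply, ← hkx]
    apply Subtype.ext
    simp only [MulAut.mul_apply, kap_apply, ← map_inv]
    have e1 : g⁻¹ * (v : G) * g⁻¹⁻¹ = u := by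
      rw [← hg]; group
    rw [e1]
    have e2 : x₀ ^ 2 ^ a * u * (x₀ ^ 2 ^ a)⁻¹ = u := by
      rw [← hux]; group
    rw [e2, hg]
  have hc1 : c = 1 := psi_injective N B₀ ((hv c hcv).trans (map_one _).symm)
  rw [hc1] at hc
  have h3 : psi N B₀ (b₁ ^ 2 ^ a) = 1 := by
    rw [psi_apply]
    have h4 := hc.symm
    rw [OneMemClass.coe_one, OneMemClass.coe_one, mul_inv_eq_one] at h4
    have h5 := mul_left_cancel (h4.trans (mul_one _).symm)
    exact h5
  exact hb₁a (psi_injective N B₀ (h3.trans (map_one _).symm))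

/-- the subgroup of `N` fixed by `B₀` -/
def fixB (B₀ : Subgroup (kap N).range) : Subgroup N where
  carrier := {n | ∀ b : B₀, psi N B₀ b n = n}
  mul_mem' := by
    intro x y hx hy b
    rw [map_mul, hx b, hy b]
  one_mem' := fun b => map_one _
  inv_mem' := by
    intro x hx b
    rw [map_inv, hx b]

include hNn in
theorem even_case (hmin : ∀ K : Subgroup G, K.Normal → K ≤ N → K = ⊥ ∨ K = N) (d : ℕ)
    (hcard : Nat.card N = 2 ^ d) (hN1 : N ≠ ⊥)
    (B₀ : Subgroup (kap N).range) [hBn : B₀.Normal] (hB1 : B₀ ≠ ⊥) (e : ℕ)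
    (hBcard : Nat.card B₀ = 2 ^ e) : False := by
  haveI : Fact (Nat.Prime 2) := ⟨Nat.prime_two⟩
  have hp : IsPGroup 2 B₀ := IsPGroup.of_card hBcard
  letI : MulAction B₀ N := MulAction.compHom N (psi N B₀)
  have hdvd : 2 ∣ Nat.card N := by
    rw [hcard]
    have hd : d ≠ 0 := by
      rintro rfl
      rw [pow_zero, Subgroup.card_eq_one] at hcard
      exact hN1 hcard
    exact dvd_pow_self 2 hd
  have h1 : (1 : N) ∈ MulAction.fixedPoints B₀ N := by
    intro b
    exact map_one (psi N B₀ b)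
  obtain ⟨w, hwfix, hw1⟩ := hp.exists_fixed_point_of_prime_dvd_card_of_fixed_point N hdvd h1
  have hwF : w ∈ fixB N B₀ := fun b => hwfix b
  -- the image of fixB in G is normal
  have hFn : ((fixB N B₀).map N.subtype).Normal := by
    constructor
    rintro y ⟨n, hn, rfl⟩ g
    refine ⟨kap N g n, ?_, ?_⟩
    · intro b
      obtain ⟨b', hb'⟩ := exists_cj N B₀ g⁻¹ b
      have h2 := hn b'
      rw [psi_apply, hb'] at h2
      simp only [MulAut.mul_apply, map_inv, inv_inv] at h2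
      rw [psi_apply]
      have h3 := congrArg (kap N g) h2
      simpa using h3
    · exact kap_apply N g n
  have hFle : (fixB N B₀).map N.subtype ≤ N := by
    rintro y ⟨n, -, rfl⟩
    exact n.2
  have hFne : (fixB N B₀).map N.subtype ≠ ⊥ := by
    intro h
    have : (w : G) ∈ (fixB N B₀).map N.subtype := ⟨w, hwF, rfl⟩
    rw [h, Subgroup.mem_bot] at this
    exact hw1 (Subtype.ext this).symm
  have hFN := (hmin _ hFn hFle).resolve_left hFne
  obtain ⟨b₁, hb₁⟩ := (Subgroup.ne_bot_iff_exists_ne_one).mp hB1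
  apply hb₁
  apply psi_injective N B₀
  rw [map_one]
  ext n
  have : (n : G) ∈ (fixB N B₀).map N.subtype := by rw [hFN]; exact n.2
  obtain ⟨n', hn', hnn'⟩ := this
  have : n' = n := Subtype.ext hnn'
  subst this
  rw [hn' b₁]
  rfl

/-- **the 2-case**: if a minimal normal subgroup is a 2-group, there is only one involution. -/
theorem two_case [Group.IsSolvable G] (hamb : ∀ x : G, IsConj x x⁻¹)
    (hone : ∀ s t : G, orderOf s = 2 → orderOf t = 2 → IsConj s t)
    (hN1 : N ≠ ⊥) (hmin : ∀ K : Subgroup G, K.Normal → K ≤ N → K = ⊥ ∨ K = N)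
    (hcomm : ∀ a ∈ N, ∀ b ∈ N, a * b = b * a) (hexp : ∀ v ∈ N, v ^ 2 = 1) (d : ℕ)
    (hcard : Nat.card N = 2 ^ d) :
    ∀ s t : G, orderOf s = 2 → orderOf t = 2 → s = t := by
  obtain ⟨z, hz1⟩ := (Subgroup.ne_bot_iff_exists_ne_one).mp hN1
  have hz1' : (z : G) ≠ 1 := fun h => hz1 (Subtype.ext h)
  haveI : Fact (Nat.Prime 2) := ⟨Nat.prime_two⟩
  have hz2 : orderOf (z : G) = 2 := orderOf_eq_prime (hexp z z.2) hz1'
  have hinv : ∀ t : G, orderOf t = 2 → t ∈ N := by
    intro t ht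
    have := hone z t hz2 ht
    rw [isConj_iff] at this
    obtain ⟨g, hg⟩ := this
    rw [← hg]
    exact hNn.conj_mem z z.2 g
  intro s t hs ht
  by_contra hst
  have hsN := hinv s hs
  have htN := hinv t ht
  have hRsolv : Group.IsSolvable (kap N).range :=
    solvable_of_surjective (kap N).rangeRestrict_surjective
  haveI : Nontrivial (kap N).range := by
    have := hone t s ht hs
    rw [isConj_iff] at this
    obtain ⟨g, hg⟩ := this
    refine ⟨⟨⟨kap N g, g, rfl⟩, 1, ?_⟩⟩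
    intro h
    have h1 : kap N g = 1 := congrArg Subtype.val h
    have h2 := kap_apply N g ⟨t, htN⟩
    rw [h1] at h2
    simp only [MulAut.one_apply] at h2
    exact hst (hg.symm.trans h2.symm)
  obtain ⟨B₀, hBn, hB1, -, hBc, r, e, hr, hBexp, hBcard⟩ := exists_minNormal_data (G := (kap N).range)
  by_cases hr2 : r = 2
  · subst hr2
    exact even_case N hmin d hcard hN1 B₀ hB1 e hBcard
  · exact odd_case N hamb hone hexp hcomm d hcard hinv B₀ hB1 hBc r e hr hr2 hBexp hBcard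

end

end Cfsg.Agent.H9Amb
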