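import Mathlib
import Cfsg.Agent.Lib.Helper9.Amb3

set_option autoImplicit false

/-! Ambivalent solvable groups with one class of involutions: commuting involutions are equal. -/

namespace Cfsg.Agent.H9Amb

universe u

theorem lift_involution {G : Type u} [Group G] [Finite G] (N : Subgroup G) [N.Normal] (q d : ℕ)
    (hq : q.Prime) (hq2 : q ≠ 2) (hcard : Nat.card N = q ^ d) (y : G ⧸ N) (hy : orderOf y = 2) :
    ∃ t : G, orderOf t = 2 ∧ (QuotientGroup.mk' N t) = y := by
  obtain ⟨x, rfl⟩ := QuotientGroup.mk'_surjective N y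
  haveI : Fact (Nat.Prime 2) := ⟨Nat.prime_two⟩
  have hodd : Odd (q ^ d) := (hq.odd_of_ne_two hq2).pow
  obtain ⟨k, hk⟩ := hodd
  have hy2 : (QuotientGroup.mk' N x) ^ 2 = 1 := by rw [← hy]; exact pow_orderOf_eq_one _
  have hy1 : (QuotientGroup.mk' N x) ≠ 1 := by
    intro h
    rw [h, orderOf_one] at hy
    exact absurd hy (by norm_num)
  have hmk : QuotientGroup.mk' N (x ^ (q ^ d)) = QuotientGroup.mk' N x := by
    rw [map_pow, hk, pow_succ, pow_mul, hy2, one_pow, one_mul]
  refine ⟨x ^ (q ^ d), ?_, hmk⟩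
  apply orderOf_eq_prime
  · have hx2 : x ^ 2 ∈ N := by
      rw [← QuotientGroup.eq_one_iff, ← hy2]
      rfl
    have h1 : (⟨x ^ 2, hx2⟩ : N) ^ Nat.card N = 1 := pow_card_eq_one'
    have h2 := congrArg Subtype.val h1
    rw [hcard] at h2
    simp only [SubmonoidClass.mk_pow, OneMemClass.coe_one] at h2
    rw [← pow_mul, mul_comm, pow_mul]
    exact h2
  · intro h
    rw [h, map_one] at hmk
    exact hy1 hmk.symm

theorem comm_involutions_eq : ∀ (n : ℕ) (G : Type u) [Group G] [Finite G] [Group.IsSolvable G],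
    Nat.card G = n → (∀ x : G, IsConj x x⁻¹) →
    (∀ s t : G, orderOf s = 2 → orderOf t = 2 → IsConj s t) →
    ∀ s t : G, orderOf s = 2 → orderOf t = 2 → s * t = t * s → s = t := by
  intro n
  induction n using Nat.strong_induction_on with
  | _ n ih =>
  intro G _ _ _ hn hamb hone s t hs ht hst
  by_cases hnt : Nontrivial G
  swap
  · rw [not_nontrivial_iff_subsingleton] at hnt
    exact Subsingleton.elim s t
  obtain ⟨N, hNn, hN1, hmin, hcomm, q, d, hq, hexp, hcard⟩ := exists_minNormal_data (G := G)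
  haveI := hNn
  by_cases hq2 : q = 2
  · subst hq2
    exact two_case N hamb hone hN1 hmin hcomm hexp d hcard s t hs ht
  · haveI : Fact (Nat.Prime 2) := ⟨Nat.prime_two⟩
    have hlt : Nat.card (G ⧸ N) < n := by
      have h1 := Subgroup.card_eq_card_quotient_mul_card_subgroup N
      have h2 : 1 < Nat.card N := by
        rw [Finite.one_lt_card_iff_nontrivial]
        exact (Subgroup.nontrivial_iff_ne_bot N).mpr hN1
      have h3 : 0 < Nat.card (G ⧸ N) := Nat.card_pos
      rw [← hn, h1]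
      nlinarith
    have hambQ : ∀ y : G ⧸ N, IsConj y y⁻¹ := by
      intro y
      obtain ⟨x, rfl⟩ := QuotientGroup.mk'_surjective N y
      have := (QuotientGroup.mk' N).map_isConj (hamb x)
      rwa [map_inv] at this
    have honeQ : ∀ y₁ y₂ : G ⧸ N, orderOf y₁ = 2 → orderOf y₂ = 2 → IsConj y₁ y₂ := by
      intro y₁ y₂ h1 h2
      obtain ⟨t₁, ht₁, rfl⟩ := lift_involution N q d hq hq2 hcard y₁ h1
      obtain ⟨t₂, ht₂, rfl⟩ := lift_involution N q d hq hq2 hcard y₂ h2
      exact (QuotientGroup.mk' N).map_isConj (hone t₁ t₂ ht₁ ht₂)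
    have key := ih _ hlt (G ⧸ N) rfl hambQ honeQ
    have hord : ∀ s : G, orderOf s = 2 → orderOf (QuotientGroup.mk' N s) = 2 := by
      intro s hs
      apply orderOf_eq_prime
      · rw [← map_pow, ← hs, pow_orderOf_eq_one, map_one]
      · intro h
        have hsN : s ∈ N := (QuotientGroup.eq_one_iff s).mp h
        have h1 : orderOf s ∣ q := orderOf_dvd_of_pow_eq_one (hexp s hsN)
        rw [hs] at h1
        exact hq2 ((Nat.prime_dvd_prime_iff_eq Nat.prime_two hq).mp h1).symm
    have h1 := key _ _ (hord s hs) (hord t ht) (by rw [← map_mul, hst, map_mul])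
    have h2 : s⁻¹ * t ∈ N := QuotientGroup.eq.mp h1
    have h3 : (s⁻¹ * t) ^ q = 1 := hexp _ h2
    have hs2 : s ^ 2 = 1 := by rw [← hs]; exact pow_orderOf_eq_one s
    have ht2 : t ^ 2 = 1 := by rw [← ht]; exact pow_orderOf_eq_one t
    have h4 : (s⁻¹ * t) ^ 2 = 1 := by
      have hc : Commute s⁻¹ t := (Commute.inv_left (show Commute s t from hst))
      rw [hc.mul_pow, inv_pow, hs2, ht2, inv_one, one_mul]
    have h5 : orderOf (s⁻¹ * t) ∣ Nat.gcd 2 q :=
      Nat.dvd_gcd (orderOf_dvd_of_pow_eq_one h4) (orderOf_dvd_of_pow_eq_one h3)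
    have h6 : Nat.gcd 2 q = 1 := (Nat.coprime_primes Nat.prime_two hq).mpr (Ne.symm hq2)
    rw [h6, Nat.dvd_one, orderOf_eq_one_iff] at h5
    exact (inv_mul_eq_one.mp h5)

end Cfsg.Agent.H9Amb
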