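import Mathlib
import Cfsg.Agent.Lib.Helper9.Amb4
import Cfsg.Agent.S0016

set_option autoImplicit false

/-! Ambivalent solvable groups with one class of involutions: the Sylow 2-subgroup. -/

namespace Cfsg.Agent.H9Amb

universe u

section
variable {G : Type u} [Group G] [Finite G]

/-- a nontrivial finite 2-group has a central involution -/
theorem exists_central_involution_two {P : Type u} [Group P] [Finite P] (hP : IsPGroup 2 P)
    [Nontrivial P] : ∃ z : P, orderOf z = 2 ∧ ∀ y : P, z * y = y * z := by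
  haveI : Fact (Nat.Prime 2) := ⟨Nat.prime_two⟩
  haveI := hP.center_nontrivial
  obtain ⟨c, hc⟩ := exists_ne (1 : Subgroup.center P)
  have hc1 : (c : P) ≠ 1 := fun h => hc (Subtype.ext h)
  obtain ⟨k, hk⟩ := (IsPGroup.iff_orderOf.mp hP) (c : P)
  have hk0 : k ≠ 0 := by
    rintro rfl
    rw [pow_zero, orderOf_eq_one_iff] at hk
    exact hc1 hk
  refine ⟨(c : P) ^ 2 ^ (k - 1), ?_, ?_⟩
  · rw [orderOf_pow' _ (by positivity), hk]
    have e : 2 ^ k = 2 ^ (k - 1) * 2 := by
      rw [← pow_succ]; congr 1; omega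
    rw [e, Nat.gcd_mul_right_left, Nat.mul_div_cancel_left _ (by positivity)]
  · intro y
    have := Subgroup.mem_center_iff.mp (Subgroup.pow_mem _ c.2 (2 ^ (k - 1))) y
    exact this.symm

/-- uniqueness of the subgroup of order 2 in a Sylow 2-subgroup -/
theorem sylow_unique_order_two [Group.IsSolvable G] (hamb : ∀ x : G, IsConj x x⁻¹)
    (hone : ∀ s t : G, orderOf s = 2 → orderOf t = 2 → IsConj s t) (S : Sylow 2 G)
    (H K : Subgroup S) (hH : Nat.card H = 2) (hK : Nat.card K = 2) : H = K := by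
  haveI : Fact (Nat.Prime 2) := ⟨Nat.prime_two⟩
  have key := comm_involutions_eq _ G rfl hamb hone
  have hgen : ∀ L : Subgroup S, Nat.card L = 2 → ∃ h : S, orderOf h = 2 ∧ L = Subgroup.zpowers h := by
    intro L hL
    haveI : Nontrivial L := by
      rw [← Finite.one_lt_card_iff_nontrivial, hL]; norm_num
    obtain ⟨h, hh⟩ := exists_ne (1 : L)
    have h1 : orderOf h ∣ 2 := by
      have := orderOf_dvd_natCard h
      rwa [hL] at this
    have h2 : orderOf h = 2 := by
      rcases (Nat.dvd_prime Nat.prime_two).mp h1 with h3 | h3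
      · exact absurd (orderOf_eq_one_iff.mp h3) hh
      · exact h3
    have h3 : orderOf (h : S) = 2 := by rw [Subgroup.orderOf_coe]; exact h2
    refine ⟨h, h3, ?_⟩
    symm
    apply Subgroup.eq_of_le_of_card_ge
    · rw [Subgroup.zpowers_le]; exact h.2
    · rw [Nat.card_zpowers, h3]; exact hL.le
  obtain ⟨h, hh, rfl⟩ := hgen H hH
  obtain ⟨k, hk, rfl⟩ := hgen K hK
  haveI : Nontrivial S := by
    refine ⟨⟨h, 1, ?_⟩⟩
    intro h1
    rw [h1, orderOf_one] at hh
    exact absurd hh (by norm_num)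
  obtain ⟨z, hz, hzc⟩ := exists_central_involution_two S.2
  have e1 : (h : G) = z := by
    apply key _ _ (by rw [Subgroup.orderOf_coe]; exact hh) (by rw [Subgroup.orderOf_coe]; exact hz)
    exact congrArg Subtype.val (hzc h).symm
  have e2 : (k : G) = z := by
    apply key _ _ (by rw [Subgroup.orderOf_coe]; exact hk) (by rw [Subgroup.orderOf_coe]; exact hz)
    exact congrArg Subtype.val (hzc k).symm
  have : h = k := Subtype.ext (e1.trans e2.symm)
  rw [this]

/-- a cyclic Sylow 2-subgroup of an ambivalent group of even order has order 2 -/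
theorem card_eq_two_of_cyclic (hamb : ∀ x : G, IsConj x x⁻¹) (heven : 2 ∣ Nat.card G)
    (S : Sylow 2 G) (hcyc : IsCyclic S) : Nat.card S = 2 := by
  haveI : Fact (Nat.Prime 2) := ⟨Nat.prime_two⟩
  obtain ⟨s, hs⟩ := hcyc.exists_generator
  obtain ⟨h, a, ha, hh⟩ := exists_two_element_inverting (hamb (s : G))
  -- conjugation by an element inverting `s` preserves `S`
  have hpres : ∀ g : G, g * s * g⁻¹ = (s : G)⁻¹ → ∀ y ∈ (S : Subgroup G), g * y * g⁻¹ ∈ (S : Subgroup G) := by
    intro g hg y hy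
    obtain ⟨k, hk⟩ := hs ⟨y, hy⟩
    have hy' : y = (s : G) ^ k := by
      have := congrArg Subtype.val hk
      simpa using this.symm
    rw [hy']
    have : g * (s : G) ^ k * g⁻¹ = (g * s * g⁻¹) ^ k := by
      rw [conj_zpow]
    rw [this, hg]
    exact Subgroup.zpow_mem _ (Subgroup.inv_mem _ s.2) k
  have hh' : h⁻¹ * s * h⁻¹⁻¹ = (s : G)⁻¹ := by
    have : (s : G) = h⁻¹ * (s : G)⁻¹ * h := by rw [← hh]; group
    have h2 : h⁻¹ * s * h⁻¹⁻¹ = (h⁻¹ * (s : G)⁻¹ * h)⁻¹ := by group
    rw [h2, ← this]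
  have hnorm : h ∈ Subgroup.normalizer ((S : Subgroup G) : Set G) := by
    rw [Subgroup.mem_normalizer_iff]
    intro y
    constructor
    · exact hpres h hh y
    · intro hy
      have := hpres h⁻¹ hh' _ hy
      have e : h⁻¹ * (h * y * h⁻¹) * h⁻¹⁻¹ = y := by group
      rwa [e] at this
  have hpz : IsPGroup 2 (Subgroup.zpowers h) := by
    apply IsPGroup.of_card (n := a)
    rw [Nat.card_zpowers, ha]
  have hinf := hpz.inf_normalizer_sylow S
  have hmem : h ∈ Subgroup.zpowers h ⊓ (S : Subgroup G) :=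
    hinf.le ⟨Subgroup.mem_zpowers h, hnorm⟩
  have hS : h ∈ (S : Subgroup G) := hmem.2
  obtain ⟨k, hk⟩ := hs ⟨h, hS⟩
  have hk' : h = (s : G) ^ k := by
    have := congrArg Subtype.val hk
    simpa using this.symm
  have hcomm : h * s * h⁻¹ = (s : G) := by
    rw [hk']
    have : Commute ((s : G) ^ k) (s : G) := (Commute.refl (s : G)).zpow_left k
    rw [this.eq, mul_inv_cancel_right]
  have hs2 : (s : G) ^ 2 = 1 := by
    rw [hcomm] at hh
    rw [pow_two]
    nth_rewrite 1 [hh]
    exact inv_mul_cancel _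
  have hs2' : s ^ 2 = 1 := Subtype.ext (by simpa using hs2)
  have hcard : Nat.card S = orderOf s := (orderOf_eq_card_of_forall_mem_zpowers hs).symm
  have h1 : orderOf s ∣ 2 := orderOf_dvd_of_pow_eq_one hs2'
  have h2 : 2 ∣ Nat.card S := S.dvd_card_of_dvd_card heven
  rw [hcard] at h2 ⊢
  exact Nat.dvd_antisymm h1 h2

/-- **Part 1** -/
theorem sylow_structure [Group.IsSolvable G] (hamb : ∀ x : G, IsConj x x⁻¹) (heven : 2 ∣ Nat.card G)
    (hone : ∀ s t : G, orderOf s = 2 → orderOf t = 2 → IsConj s t) (S : Sylow 2 G) :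
    Nat.card S = 2 ∨ ∃ n : ℕ, Nonempty ((S : Subgroup G) ≃* QuaternionGroup (2 ^ (n + 1))) := by
  haveI : Fact (Nat.Prime 2) := ⟨Nat.prime_two⟩
  rcases Cfsg.Agent.S0016.result (G := S) 2 S.2 (sylow_unique_order_two hamb hone S) with hc | ⟨-, n, ⟨e⟩⟩
  · exact Or.inl (card_eq_two_of_cyclic hamb heven S hc)
  · rcases Nat.eq_zero_or_pos n with rfl | hn
    · left
      apply card_eq_two_of_cyclic hamb heven S
      rw [pow_zero] at e
      haveI := QuaternionGroup.quaternionGroup_one_isCyclic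
      exact isCyclic_of_surjective e.symm e.symm.surjective
    · right
      obtain ⟨m, rfl⟩ : ∃ m, n = m + 1 := ⟨n - 1, by omega⟩
      exact ⟨m, ⟨e⟩⟩

end

end Cfsg.Agent.H9Amb
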