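import Mathlib
import Cfsg.Agent.Lib.Helper9.Amb5
import Cfsg.Agent.Lib.Helper6.PPrimeCore

set_option autoImplicit false

/-! Ambivalent groups with a Sylow 2-subgroup of order 2. -/

namespace Cfsg.Agent.H9Amb

universe u

open scoped commutatorElement

section
variable {G : Type u} [Group G] [Finite G]

/-- an element of odd order inverting `x` forces `x * x = 1` -/
theorem sq_eq_one_of_odd_inverting {w x : G} (hw : Odd (orderOf w)) (h : w * x * w⁻¹ = x⁻¹) :
    x * x = 1 := by
  obtain ⟨j, hj⟩ := hw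
  -- w = (w^2)^(j+1)
  have h1 : w = w ^ (2 * (j + 1)) := by
    have : 2 * (j + 1) = orderOf w + 1 := by omega
    rw [this, pow_succ, pow_orderOf_eq_one, one_mul]
  have h2 := conj_pow_of_inv h (2 * (j + 1))
  rw [if_pos (even_two_mul _), ← h1, h] at h2
  have h3 : x * x = x⁻¹ * x := by rw [h2]
  rw [h3, inv_mul_cancel]

variable (S : Sylow 2 G) (hS : Nat.card (S : Subgroup G) = 2)

include hS in
theorem mem_sylow_two (t : G) (ht : t ∈ (S : Subgroup G)) (ht1 : t ≠ 1) (y : G)
    (hy : y ∈ (S : Subgroup G)) : y = 1 ∨ y = t := by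
  obtain ⟨z, -, hz⟩ := (Nat.card_eq_two_iff' (1 : (S : Subgroup G))).mp hS
  have h1 : (⟨t, ht⟩ : (S : Subgroup G)) = z := hz _ (fun h => ht1 (congrArg Subtype.val h))
  by_cases hy1 : y = 1
  · exact Or.inl hy1
  · right
    have h2 : (⟨y, hy⟩ : (S : Subgroup G)) = z := hz _ (fun h => hy1 (congrArg Subtype.val h))
    exact congrArg Subtype.val (h2.trans h1.symm)

include hS in
theorem orderOf_of_mem_sylow_two (t : G) (ht : t ∈ (S : Subgroup G)) (ht1 : t ≠ 1) :
    orderOf t = 2 := by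
  have h1 : orderOf (⟨t, ht⟩ : (S : Subgroup G)) ∣ 2 := by
    have := orderOf_dvd_natCard (⟨t, ht⟩ : (S : Subgroup G))
    rwa [hS] at this
  rw [Subgroup.orderOf_mk] at h1
  rcases (Nat.dvd_prime Nat.prime_two).mp h1 with h3 | h3
  · exact absurd (orderOf_eq_one_iff.mp h3) ht1
  · exact h3

include hS in
theorem normalizer_le_centralizer :
    Subgroup.normalizer ((S : Subgroup G) : Set G) ≤ Subgroup.centralizer ((S : Subgroup G) : Set G) := by
  intro g hg
  rw [Subgroup.mem_centralizer_iff]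
  intro y hy
  by_cases hy1 : y = 1
  · rw [hy1, one_mul, mul_one]
  · have h1 : g * y * g⁻¹ ∈ (S : Subgroup G) := (Subgroup.mem_normalizer_iff.mp hg y).mp hy
    have h2 : g * y * g⁻¹ ≠ 1 := by
      intro h
      apply hy1
      have : y = g⁻¹ * (g * y * g⁻¹) * g := by group
      rw [this, h]; group
    rcases mem_sylow_two S hS y hy hy1 _ h1 with h3 | h3
    · exact absurd h3 h2
    · exact (mul_inv_eq_iff_eq_mul.mp h3).symm

include hS in
theorem card_sylow_two (Q : Sylow 2 G) : Nat.card (Q : Subgroup G) = 2 := by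
  haveI : Fact (Nat.Prime 2) := ⟨Nat.prime_two⟩
  have h1 := Q.card_eq_multiplicity
  have h2 := S.card_eq_multiplicity
  exact h1.trans (h2.symm.trans hS)

include hS in
/-- fixed points of `t` in a normal complement `K` of odd order are trivial -/
theorem fixed_eq_one (hamb : ∀ x : G, IsConj x x⁻¹)
    (hone : ∀ s t : G, orderOf s = 2 → orderOf t = 2 → IsConj s t)
    (K : Subgroup G) [hKn : K.Normal] (hKS : Subgroup.IsComplement' K (S : Subgroup G))
    (hKodd : ¬ 2 ∣ Nat.card K) (t : G) (ht : t ∈ (S : Subgroup G)) (ht1 : t ≠ 1)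
    (x : G) (hx : x ∈ K) (hcomm : t * x = x * t) : x = 1 := by
  haveI : Fact (Nat.Prime 2) := ⟨Nat.prime_two⟩
  have hoddK : ∀ y ∈ K, Odd (orderOf y) := by
    intro y hy
    rw [← Nat.not_even_iff_odd, even_iff_two_dvd]
    intro h
    apply hKodd
    have := orderOf_dvd_natCard (⟨y, hy⟩ : K)
    rw [Subgroup.orderOf_mk] at this
    exact h.trans this
  by_contra hx1
  have hxodd := hoddK x hx
  obtain ⟨h, a, ha, hh⟩ := exists_two_element_inverting (hamb x)
  have ha0 : a ≠ 0 := by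
    rintro rfl
    rw [pow_zero, orderOf_eq_one_iff] at ha
    subst ha
    simp only [one_mul, inv_one, mul_one] at hh
    apply hx1
    apply eq_one_of_odd_of_pow_two_pow hxodd 1
    rw [pow_one, pow_two]
    nth_rewrite 1 [hh]
    exact inv_mul_cancel x
  have hh2 : orderOf h = 2 := by
    have hpz : IsPGroup 2 (Subgroup.zpowers h) := by
      apply IsPGroup.of_card (n := a)
      rw [Nat.card_zpowers, ha]
    obtain ⟨Q, hQ⟩ := hpz.exists_le_sylow
    have hcQ := card_sylow_two S hS Q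
    have h1 : orderOf h ∣ 2 := by
      rw [← hcQ, ← Nat.card_zpowers]
      exact Subgroup.card_dvd_of_le hQ
    rcases (Nat.dvd_prime Nat.prime_two).mp h1 with h3 | h3
    · rw [ha] at h3
      exact absurd (Nat.pow_eq_one.mp h3) (by simp [ha0])
    · exact h3
  have ht2 := orderOf_of_mem_sylow_two S hS t ht ht1
  obtain ⟨y, hy⟩ := isConj_iff.mp (hone t h ht2 hh2)
  obtain ⟨⟨⟨k, hk⟩, ⟨s', hs'⟩⟩, hks⟩ := hKS.2 y
  simp only at hks
  have htt : t * t = 1 := by
    rw [← pow_two, ← ht2]; exact pow_orderOf_eq_one t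
  have hst : s' * t * s'⁻¹ = t := by
    rcases mem_sylow_two S hS t ht ht1 s' hs' with rfl | rfl
    · group
    · group
  have hh' : h = k * t * k⁻¹ := by
    rw [← hy, ← hks]
    calc k * s' * t * (k * s')⁻¹ = k * (s' * t * s'⁻¹) * k⁻¹ := by group
      _ = k * t * k⁻¹ := by rw [hst]
  have hwK : h * t ∈ K := by
    have e : h * t = k * (t * k⁻¹ * t⁻¹) * (t * t) := by rw [hh']; group
    rw [e, htt, mul_one]
    exact K.mul_mem hk (hKn.conj_mem _ (K.inv_mem hk) t)
  have hw : (h * t) * x * (h * t)⁻¹ = x⁻¹ := by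
    have e : (h * t) * x * (h * t)⁻¹ = h * ((t * x) * t⁻¹) * h⁻¹ := by group
    rw [e, hcomm, mul_inv_cancel_right, hh]
  have hsq := sq_eq_one_of_odd_inverting (hoddK _ hwK) hw
  exact hx1 (eq_one_of_odd_of_pow_two_pow hxodd 1 (by rw [pow_one, pow_two]; exact hsq))

include hS in
/-- every element of `K` is a commutator `k⁻¹ * (t * k * t⁻¹)` -/
theorem exists_comm_rep (hamb : ∀ x : G, IsConj x x⁻¹)
    (hone : ∀ s t : G, orderOf s = 2 → orderOf t = 2 → IsConj s t)
    (K : Subgroup G) [hKn : K.Normal] (hKS : Subgroup.IsComplement' K (S : Subgroup G))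
    (hKodd : ¬ 2 ∣ Nat.card K) (t : G) (ht : t ∈ (S : Subgroup G)) (ht1 : t ≠ 1)
    (x : G) (hx : x ∈ K) : ∃ k ∈ K, x = k⁻¹ * (t * k * t⁻¹) := by
  let f : K → K := fun k => ⟨(k : G)⁻¹ * (t * k * t⁻¹), K.mul_mem (K.inv_mem k.2) (hKn.conj_mem k k.2 t)⟩
  have hinj : Function.Injective f := by
    intro k k' hkk
    have h1 : (k : G)⁻¹ * (t * k * t⁻¹) = (k' : G)⁻¹ * (t * k' * t⁻¹) := congrArg Subtype.val hkk
    have h2 : t * ((k' : G) * (k : G)⁻¹) = ((k' : G) * (k : G)⁻¹) * t := by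
      have e1 : t * (k : G) * t⁻¹ = (k : G) * ((k' : G)⁻¹ * (t * k' * t⁻¹)) := by
        rw [← h1]; group
      have e2 : t * ((k' : G) * (k : G)⁻¹) = (t * k' * t⁻¹) * (t * k * t⁻¹)⁻¹ * t := by group
      rw [e2, e1]; group
    have h3 := fixed_eq_one S hS hamb hone K hKS hKodd t ht ht1 _
      (K.mul_mem k'.2 (K.inv_mem k.2)) h2
    apply Subtype.ext
    exact (mul_inv_eq_one.mp h3).symm
  obtain ⟨k, hk⟩ := (Finite.injective_iff_surjective.mp hinj) ⟨x, hx⟩
  exact ⟨k, k.2, (congrArg Subtype.val hk).symm⟩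

include hS in
/-- **Part 2** -/
theorem part_two (hamb : ∀ x : G, IsConj x x⁻¹)
    (hone : ∀ s t : G, orderOf s = 2 → orderOf t = 2 → IsConj s t) :
    (S : Subgroup G).IsComplement' (Cfsg.oddCore G) ∧ Cfsg.oddCore G = commutator G ∧
      ∀ t : G, t ∈ (S : Subgroup G) → t ≠ 1 → ∀ x : G, x ∈ Cfsg.oddCore G → t * x * t⁻¹ = x⁻¹ := by
  haveI : Fact (Nat.Prime 2) := ⟨Nat.prime_two⟩
  have hP := normalizer_le_centralizer S hS
  have hKS : Subgroup.IsComplement' (MonoidHom.transferSylow S hP).ker (S : Subgroup G) :=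
    MonoidHom.ker_transferSylow_isComplement' S hP
  have hKodd : ¬ 2 ∣ Nat.card (MonoidHom.transferSylow S hP).ker :=
    MonoidHom.not_dvd_card_ker_transferSylow S hP
  have hcop : (Nat.card (MonoidHom.transferSylow S hP).ker).Coprime 2 :=
    ((Nat.Prime.coprime_iff_not_dvd Nat.prime_two).mpr hKodd).symm
  have hScomm : ∀ a b : S, a * b = b * a :=
    fun a b => Subtype.ext (hP (Subgroup.le_normalizer b.2) a a.2)
  have hKO : Cfsg.oddCore G = (MonoidHom.transferSylow S hP).ker := by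
    apply le_antisymm
    · intro x hx
      rw [MonoidHom.mem_ker]
      have h1 : orderOf (MonoidHom.transferSylow S hP x) ∣ orderOf x := orderOf_map_dvd _ x
      have h2 : orderOf x ∣ Nat.card (Cfsg.pPrimeCore 2 G) := by
        have := orderOf_dvd_natCard (⟨x, hx⟩ : Cfsg.pPrimeCore 2 G)
        rwa [Subgroup.orderOf_mk] at this
      have h3 : orderOf (MonoidHom.transferSylow S hP x) ∣ 2 := by
        have := orderOf_dvd_natCard (MonoidHom.transferSylow S hP x)
        exact this.trans (dvd_of_eq hS)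
      have h4 := Nat.dvd_gcd (h1.trans h2) h3
      rw [(Cfsg.Agent.Lib.Helper6.pPrimeCore_coprime (G := G) 2).gcd_eq_one, Nat.dvd_one,
        orderOf_eq_one_iff] at h4
      exact h4
    · exact Cfsg.Agent.Lib.Helper6.le_pPrimeCore inferInstance hcop
  refine ⟨?_, ?_, ?_⟩
  · rw [hKO]
    exact hKS.symm
  · rw [hKO]
    apply le_antisymm
    · intro x hx
      obtain ⟨t, htS, ht1⟩ : ∃ t ∈ (S : Subgroup G), t ≠ 1 := by
        haveI : Nontrivial (S : Subgroup G) := by
          rw [← Finite.one_lt_card_iff_nontrivial, hS]; norm_num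
        obtain ⟨t, ht⟩ := exists_ne (1 : (S : Subgroup G))
        exact ⟨t, t.2, fun h => ht (Subtype.ext h)⟩
      obtain ⟨k, -, rfl⟩ := exists_comm_rep S hS hamb hone _ hKS hKodd t htS ht1 x hx
      rw [commutator_def]
      have : (k : G)⁻¹ * (t * k * t⁻¹) = ⁅k⁻¹, t⁆ := by
        rw [commutatorElement_def]; group
      rw [this]
      exact Subgroup.commutator_mem_commutator (Subgroup.mem_top _) (Subgroup.mem_top _)
    · rw [commutator_def, Subgroup.commutator_le]
      intro a _ b _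
      rw [MonoidHom.mem_ker, commutatorElement_def, map_mul, map_mul, map_mul, map_inv, map_inv,
        hScomm (MonoidHom.transferSylow S hP a) (MonoidHom.transferSylow S hP b)]
      group
  · intro t htS ht1 x hx
    rw [hKO] at hx
    obtain ⟨k, -, rfl⟩ := exists_comm_rep S hS hamb hone _ hKS hKodd t htS ht1 x hx
    have ht2 := orderOf_of_mem_sylow_two S hS t htS ht1
    have htt : t * t = 1 := by
      rw [← pow_two, ← ht2]; exact pow_orderOf_eq_one t
    have htinv : t⁻¹ = t := inv_eq_of_mul_eq_one_left htt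
    have e1 : t * (k⁻¹ * (t * k * t⁻¹)) * t⁻¹ = t * k⁻¹ * t * k * (t * t)⁻¹ := by group
    have e2 : (k⁻¹ * (t * k * t⁻¹))⁻¹ = t * k⁻¹ * t⁻¹ * k := by group
    rw [e1, e2, htt, inv_one, mul_one, htinv]

end

end Cfsg.Agent.H9Amb
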