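import Mathlib

set_option autoImplicit false

/-! # Witt extension for anisotropic quadratic forms, by reflections -/

namespace Cfsg.Agent.H9Aniso

open QuadraticMap

variable {F V : Type*} [Field F] [AddCommGroup V] [Module F V]

/-- reflection in an anisotropic vector -/
noncomputable def reflFun (Q : QuadraticForm F V) (w : V) (v : V) : V :=
  v - (polar Q v w * (Q w)⁻¹) • w

theorem reflFun_add (Q : QuadraticForm F V) (w x y : V) :
    reflFun Q w (x + y) = reflFun Q w x + reflFun Q w y := by
  unfold reflFun
  rw [polar_add_left, add_mul, add_smul]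
  abel

theorem reflFun_smul (Q : QuadraticForm F V) (w : V) (c : F) (x : V) :
    reflFun Q w (c • x) = c • reflFun Q w x := by
  unfold reflFun
  rw [polar_smul_left, smul_sub, smul_smul, smul_eq_mul, mul_assoc]

theorem reflFun_reflFun (Q : QuadraticForm F V) (w : V) (hw : Q w ≠ 0) (v : V) :
    reflFun Q w (reflFun Q w v) = v := by
  unfold reflFun
  rw [polar_sub_left, polar_smul_left, polar_self, smul_eq_mul, nsmul_eq_mul]
  have : (polar (⇑Q) v w - polar (⇑Q) v w * (Q w)⁻¹ * ((2 : ℕ) * Q w)) * (Q w)⁻¹
      = - (polar (⇑Q) v w * (Q w)⁻¹) := by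
    field_simp
    push_cast
    ring
  rw [this, neg_smul]
  abel

theorem map_reflFun (Q : QuadraticForm F V) (w : V) (hw : Q w ≠ 0) (v : V) :
    Q (reflFun Q w v) = Q v := by
  unfold reflFun
  rw [sub_eq_add_neg, ← neg_smul, QuadraticMap.map_add (⇑Q), QuadraticMap.map_smul,
    polar_smul_right, smul_eq_mul, smul_eq_mul]
  field_simp
  ring

/-- the reflection as an isometry -/
noncomputable def refl (Q : QuadraticForm F V) (w : V) (hw : Q w ≠ 0) : Q.IsometryEquiv Q where
  toFun := reflFun Q w
  invFun := reflFun Q w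
  map_add' := reflFun_add Q w
  map_smul' := reflFun_smul Q w
  left_inv := reflFun_reflFun Q w hw
  right_inv := reflFun_reflFun Q w hw
  map_app' := map_reflFun Q w hw

theorem refl_apply (Q : QuadraticForm F V) (w : V) (hw : Q w ≠ 0) (v : V) :
    refl Q w hw v = v - (polar Q v w * (Q w)⁻¹) • w := rfl

theorem polar_isometry (Q : QuadraticForm F V) (φ : Q.IsometryEquiv Q) (x y : V) :
    polar Q (φ x) (φ y) = polar Q x y := by
  unfold polar
  rw [← map_add, φ.map_app, φ.map_app, φ.map_app]

/-- Witt extension for tuples with the same Gram data, anisotropic case -/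
theorem exists_isometry (Q : QuadraticForm F V) (hQ : Q.Anisotropic) (n : ℕ) (x x' : Fin n → V)
    (hq : ∀ i, Q (x i) = Q (x' i)) (hp : ∀ i j, polar Q (x i) (x j) = polar Q (x' i) (x' j)) :
    ∀ k ≤ n, ∃ ψ : Q.IsometryEquiv Q, ∀ i : Fin n, i.val < k → ψ (x i) = x' i := by
  intro k
  induction k with
  | zero => intro _; exact ⟨QuadraticMap.IsometryEquiv.refl Q, fun i hi => absurd hi (Nat.not_lt_zero _)⟩
  | succ k ih =>
    intro hk
    obtain ⟨ψ, hψ⟩ := ih (by omega)
    set y := ψ (x ⟨k, by omega⟩) with hy
    set t := x' ⟨k, by omega⟩ with ht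
    have hQy : Q y = Q t := by rw [hy, ψ.map_app, hq]
    have hpy : ∀ i : Fin n, i.val < k → polar Q (x' i) y = polar Q (x' i) t := by
      intro i hi
      rw [hy, ← hψ i hi, polar_isometry, hp, hψ i hi]
    by_cases hyt : y = t
    · refine ⟨ψ, fun i hi => ?_⟩
      rcases Nat.lt_succ_iff_lt_or_eq.mp hi with h | h
      · exact hψ i h
      · have : i = ⟨k, by omega⟩ := Fin.ext h
        rw [this]; exact hyt
    · have hw : Q (y - t) ≠ 0 := fun h => hyt (sub_eq_zero.mp (hQ _ h))
      have hQw : Q (y - t) = polar Q y (y - t) := by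
        have h1 : Q (y - t) = Q y + Q t - polar Q y t := by
          rw [sub_eq_add_neg, QuadraticMap.map_add (⇑Q), QuadraticMap.map_neg, polar_comm,
            polar_neg_left, polar_comm]
          ring
        have h2 : polar Q y (y - t) = 2 * Q y - polar Q y t := by
          rw [polar_comm, polar_sub_left, polar_self, polar_comm, nsmul_eq_mul]
          push_cast; ring
        rw [h1, h2, hQy]; ring
      refine ⟨ψ.trans (refl Q (y - t) hw), fun i hi => ?_⟩
      change refl Q (y - t) hw (ψ (x i)) = x' i
      rcases Nat.lt_succ_iff_lt_or_eq.mp hi with h | h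
      · rw [hψ i h, refl_apply]
        have : polar Q (x' i) (y - t) = 0 := by
          rw [polar_comm, polar_sub_left, polar_comm, hpy i h, polar_comm, sub_self]
        rw [this, zero_mul, zero_smul, sub_zero]
      · have : i = ⟨k, by omega⟩ := Fin.ext h
        rw [this, ← hy, refl_apply, ← hQw, mul_inv_cancel₀ hw, one_smul]
        abel

end Cfsg.Agent.H9Aniso
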