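import Mathlib
import Cfsg.Prelude
import Cfsg.Agent.Lib.Helper9.FusionBasic
import Cfsg.Agent.Lib.Helper9.FusionAut
import Cfsg.Agent.Lib.Helper9.FusionAut2
import Cfsg.Agent.Lib.Helper9.FusionReceptive

set_option autoImplicit false

/-!
# Control of fusion by abelian subgroups of small exponent (part 1): general lemmas
-/

namespace Cfsg.Agent.H9BGH

open Cfsg Cfsg.FusionSystem Cfsg.Agent.Lib.Helper9

variable {Ω : Type*} [Group Ω] {S : Subgroup Ω}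

/-- A map agreeing pointwise with a composite of two maps of the system is a map of the system. -/
theorem comp_mem' (E : FusionSystem S) {P Q : Subgroup Ω} {φ : P →* Ω} {ψ : Q →* Ω} (hφ : φ ∈ E.Hom P)
    (hψ : ψ ∈ E.Hom Q) (h : ∀ x : P, φ x ∈ Q) {χ : P →* Ω} (hχ : ∀ x : P, χ x = ψ ⟨φ x, h x⟩) :
    χ ∈ E.Hom P := by
  have h1 := E.comp_mem hφ hψ h
  have h2 : χ = ψ.comp (φ.codRestrict Q h) := by
    ext x
    exact hχ x
  rw [h2]
  exact h1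

/-- Left cancellation: if `ψ ∘ φ` and `ψ` are maps of the system then so is `φ`. -/
theorem cancel_left (E : FusionSystem S) {P Q : Subgroup Ω} {φ : P →* Ω} {ψ : Q →* Ω} (hψ : ψ ∈ E.Hom Q)
    (h : ∀ x : P, φ x ∈ Q) {κ : P →* Ω} (hκ : κ ∈ E.Hom P) (hκφ : ∀ x : P, κ x = ψ ⟨φ x, h x⟩) :
    φ ∈ E.Hom P := by
  obtain ⟨ψ', hψ', hψ'ψ⟩ := E.inv_mem hψ
  have hval : ∀ x : P, κ x ∈ ψ.range := fun x => ⟨⟨φ x, h x⟩, (hκφ x).symm⟩
  refine comp_mem' E hκ hψ' hval ?_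
  intro x
  have h1 : (⟨κ x, hval x⟩ : ψ.range) = ⟨ψ ⟨φ x, h x⟩, ⟨_, rfl⟩⟩ := Subtype.ext (hκφ x)
  rw [h1, hψ'ψ]

/-- Restriction, in pointwise form. -/
theorem restrict_mem' (E : FusionSystem S) {P R : Subgroup Ω} {φ : P →* Ω} (hφ : φ ∈ E.Hom P) (h : R ≤ P)
    {χ : R →* Ω} (hχ : ∀ x : R, χ x = φ ⟨x, h x.2⟩) : χ ∈ E.Hom R := by
  have h1 := fs_restrict_mem E hφ h
  have h2 : χ = φ.comp (Subgroup.inclusion h) := by
    ext x
    exact hχ x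
  rw [h2]
  exact h1

/-- Every element of the join of `Q` and `C` is a product, if `Q` normalizes `C`. -/
theorem exists_mul_of_mem_sup {Q C : Subgroup Ω} (hQC : ∀ q ∈ Q, ∀ c ∈ C, q * c * q⁻¹ ∈ C) {x : Ω}
    (hx : x ∈ Q ⊔ C) : ∃ q ∈ Q, ∃ c ∈ C, x = q * c := by
  let M : Subgroup Ω :=
    { carrier := {x | ∃ q ∈ Q, ∃ c ∈ C, x = q * c}
      one_mem' := ⟨1, Q.one_mem, 1, C.one_mem, by simp⟩
      mul_mem' := by
        rintro _ _ ⟨q₁, hq₁, c₁, hc₁, rfl⟩ ⟨q₂, hq₂, c₂, hc₂, rfl⟩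
        refine ⟨q₁ * q₂, Q.mul_mem hq₁ hq₂, q₂⁻¹ * c₁ * q₂ * c₂, C.mul_mem ?_ hc₂, by group⟩
        have := hQC q₂⁻¹ (Q.inv_mem hq₂) c₁ hc₁
        rwa [inv_inv] at this
      inv_mem' := by
        rintro _ ⟨q, hq, c, hc, rfl⟩
        refine ⟨q⁻¹, Q.inv_mem hq, q * c⁻¹ * q⁻¹, hQC q hq c⁻¹ (C.inv_mem hc), by group⟩ }
  have hle : Q ⊔ C ≤ M := by
    apply sup_le
    · intro q hq
      exact ⟨q, hq, 1, C.one_mem, by simp⟩
    · intro c hc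
      exact ⟨1, Q.one_mem, c, hc, by simp⟩
  exact hle hx

/-- In a finite `p`-group: if `Q` normalizes `C` and contains every element of `C` normalizing `Q`, then `Q`
contains `C`. -/
theorem le_of_normalizer_inf_le [Finite S] (p : ℕ) [Fact p.Prime] (hS : IsPGroup p S) {Q C : Subgroup Ω}
    (hQS : Q ≤ S) (hCS : C ≤ S) (hQC : ∀ q ∈ Q, ∀ c ∈ C, q * c * q⁻¹ ∈ C)
    (h : ∀ c ∈ C, c ∈ Subgroup.normalizer ((Q : Subgroup Ω) : Set Ω) → c ∈ Q) : C ≤ Q := by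
  by_contra hCQ
  have hle : Q ⊔ C ≤ S := sup_le hQS hCS
  haveI : Finite ↥(Q ⊔ C) := fs_finite_of_le hle
  have hlt : Q < Q ⊔ C := by
    refine lt_of_le_of_ne le_sup_left ?_
    intro heq
    apply hCQ
    rw [heq]
    exact le_sup_right
  have h1 := fs_lt_normalizerIn (S := Q ⊔ C) p (hS.to_le hle) hlt
  obtain ⟨x, hxN, hxQ⟩ := SetLike.exists_of_lt h1
  obtain ⟨q, hq, c, hc, rfl⟩ := exists_mul_of_mem_sup hQC hxN.1
  apply hxQ
  apply Q.mul_mem hq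
  apply h c hc
  have h2 : c = q⁻¹ * (q * c) := by group
  rw [h2]
  exact Subgroup.mul_mem _ (Subgroup.inv_mem _ (Subgroup.le_normalizer hq)) hxN.2

end Cfsg.Agent.H9BGH
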