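import Mathlib

set_option autoImplicit false

namespace Cfsg.Agent.Lib.Helper9

open scoped Pointwise

/-- `A` is a Sylow `p`-subgroup of `B` (both subgroups of `G`): `A ≤ B`, `A` is a `p`-group and its index in `B` is
prime to `p`. -/
def IsSylIn {G : Type*} [Group G] (p : ℕ) (A B : Subgroup G) : Prop :=
  A ≤ B ∧ IsPGroup p A ∧ ¬ p ∣ A.relIndex B

variable {G : Type*} [Group G] {p : ℕ}

theorem IsSylIn.of_le {A B C : Subgroup G} (h : IsSylIn p A B) (hAC : A ≤ C) (hCB : C ≤ B) : IsSylIn p A C := by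
  refine ⟨hAC, h.2.1, fun hdvd => h.2.2 ?_⟩
  rw [← Subgroup.relIndex_mul_relIndex A C B hAC hCB]
  exact hdvd.mul_right _

theorem IsSylIn.of_ge {A A' B : Subgroup G} (h : IsSylIn p A B) (hAA' : A ≤ A') (hA'B : A' ≤ B)
    (hA' : IsPGroup p A') : IsSylIn p A' B :=
  ⟨hA'B, hA', fun hdvd => h.2.2 (hdvd.trans (Subgroup.relIndex_dvd_of_le_left B hAA'))⟩

theorem IsSylIn.map {G' : Type*} [Group G'] {A B : Subgroup G} (h : IsSylIn p A B) (f : G →* G') :
    IsSylIn p (A.map f) (B.map f) := by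
  refine ⟨Subgroup.map_mono h.1, h.2.1.map f, fun hdvd => h.2.2 ?_⟩
  rw [← Subgroup.relIndex_comap] at hdvd
  exact hdvd.trans (Subgroup.relIndex_dvd_of_le_left B (Subgroup.le_comap_map f A))

theorem IsSylIn.subgroupOf {A B : Subgroup G} (h : IsSylIn p A B) :
    IsSylIn p (A.subgroupOf B) (⊤ : Subgroup B) := by
  refine ⟨le_top, h.2.1.comap_subtype, ?_⟩
  rw [Subgroup.relIndex_top_right]
  exact h.2.2

/-- Sylow's theorem for `IsSylIn`: a `p`-subgroup of `B` is conjugate, by an element of `B`, into `A`. -/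
theorem IsSylIn.exists_conj_le [Fact p.Prime] {A B : Subgroup G} [Finite B] (h : IsSylIn p A B)
    {P : Subgroup G} (hP : IsPGroup p P) (hPB : P ≤ B) :
    ∃ g ∈ B, ∀ x ∈ P, g * x * g⁻¹ ∈ A := by
  have hA' : IsPGroup p (A.subgroupOf B) := h.2.1.comap_subtype
  let T : Sylow p B := hA'.toSylow h.2.2
  have hP' : IsPGroup p (P.subgroupOf B) := hP.comap_subtype
  obtain ⟨R, hR⟩ := hP'.exists_le_sylow
  obtain ⟨k, hk⟩ := MulAction.exists_smul_eq B R T
  refine ⟨k, k.2, ?_⟩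
  intro x hx
  have h1 : (⟨x, hPB hx⟩ : B) ∈ (R : Subgroup B) := hR (by simpa [Subgroup.mem_subgroupOf] using hx)
  have h2 : MulAut.conj k • (⟨x, hPB hx⟩ : B) ∈ MulAut.conj k • (R : Subgroup B) :=
    Subgroup.smul_mem_pointwise_smul _ _ _ h1
  have h3 : MulAut.conj k • (R : Subgroup B) = ((k • R : Sylow p B) : Subgroup B) := rfl
  rw [h3, hk] at h2
  have h4 : (MulAut.conj k • (⟨x, hPB hx⟩ : B) : B) ∈ A.subgroupOf B := by
    have : ((T : Sylow p B) : Subgroup B) = A.subgroupOf B := IsPGroup.toSylow_coe hA' h.2.2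
    rw [← this]; exact h2
  rw [Subgroup.mem_subgroupOf] at h4
  simpa using h4

/-- Existence of Sylow subgroups in the `IsSylIn` form. -/
theorem exists_isSylIn [Fact p.Prime] (B : Subgroup G) [Finite B] : ∃ A : Subgroup G, IsSylIn p A B := by
  obtain ⟨T⟩ : Nonempty (Sylow p B) := inferInstance
  refine ⟨(T : Subgroup B).map B.subtype, Subgroup.map_subtype_le _, T.2.map _, ?_⟩
  have h1 : ((T : Subgroup B).map B.subtype).subgroupOf B = (T : Subgroup B) := by
    ext x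
    rw [Subgroup.mem_subgroupOf]
    constructor
    · rintro ⟨y, hy, hyx⟩
      have : y = x := Subtype.ext hyx
      rwa [← this]
    · intro hx
      exact ⟨x, hx, rfl⟩
  show ¬ p ∣ (((T : Subgroup B).map B.subtype).subgroupOf B).index
  rw [h1]
  exact T.not_dvd_index

/-- From the `Sylow`-form to `IsSylIn`. -/
theorem isSylIn_of_sylow [Fact p.Prime] {A B : Subgroup G} [Finite B] (hAB : A ≤ B)
    (h : ∃ R : Sylow p B, (R : Subgroup B) = A.subgroupOf B) : IsSylIn p A B := by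
  obtain ⟨R, hR⟩ := h
  refine ⟨hAB, ?_, ?_⟩
  · have h1 : IsPGroup p (A.subgroupOf B) := hR ▸ R.2
    have h2 : IsPGroup p ((A.subgroupOf B).map B.subtype) := h1.map _
    rwa [Subgroup.map_subgroupOf_eq_of_le hAB] at h2
  · show ¬ p ∣ (A.subgroupOf B).index
    rw [← hR]
    exact R.not_dvd_index

/-- From `IsSylIn` to the `Sylow`-form. -/
theorem IsSylIn.exists_sylow [Fact p.Prime] {A B : Subgroup G} (h : IsSylIn p A B) :
    ∃ R : Sylow p B, (R : Subgroup B) = A.subgroupOf B :=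
  ⟨h.2.1.comap_subtype.toSylow h.2.2, IsPGroup.toSylow_coe _ _⟩

/-- If `T` is a Sylow `p`-subgroup of `B` and `H ≤ B`, then for some `g ∈ B` the intersection of `T` with the conjugate
`gHg⁻¹` is a Sylow `p`-subgroup of that conjugate. -/
theorem IsSylIn.exists_conj_inf [Fact p.Prime] {T B : Subgroup G} [Finite B] (h : IsSylIn p T B)
    {H : Subgroup G} (hHB : H ≤ B) :
    ∃ g ∈ B, IsSylIn p (T ⊓ H.map (MulAut.conj g).toMonoidHom) (H.map (MulAut.conj g).toMonoidHom) := by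
  have : Finite H := Finite.of_injective (Subgroup.inclusion hHB) (Subgroup.inclusion_injective hHB)
  obtain ⟨A₀, hA₀⟩ := exists_isSylIn (p := p) H
  obtain ⟨g, hgB, hg⟩ := h.exists_conj_le hA₀.2.1 (hA₀.1.trans hHB)
  refine ⟨g, hgB, ?_⟩
  have h1 := hA₀.map (MulAut.conj g).toMonoidHom
  refine h1.of_ge ?_ inf_le_right (h.2.1.to_le inf_le_left)
  rintro _ ⟨x, hx, rfl⟩
  exact ⟨by simpa using hg x hx, ⟨x, hA₀.1 hx, rfl⟩⟩

end Cfsg.Agent.Lib.Helper9
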