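import Mathlib
import Cfsg.Prelude
import Cfsg.Agent.Lib.Helper9.BGH1
import Cfsg.Agent.Lib.Helper9.KNorm1
import Cfsg.Agent.Lib.Helper9.FusionSat2
import Cfsg.Agent.Lib.Helper9.FusionSat3
import Cfsg.Agent.Lib.Helper9.FusionAG1

set_option autoImplicit false

/-!
# Control of fusion by abelian subgroups of small exponent (part 2): two isomorphisms agreeing on a subgroup
with a `p`-group as pointwise stabilizer
-/

namespace Cfsg.Agent.H9BGH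

open Cfsg Cfsg.FusionSystem Cfsg.Agent.Lib.Helper9

variable {Ω : Type*} [Group Ω] {S : Subgroup Ω}

/-- The automorphisms in `Aut_F(R)` fixing `V` pointwise. -/
def fixer (F : FusionSystem S) (R V : Subgroup Ω) : Subgroup (MulAut R) where
  carrier := {u | u ∈ F.autGroup R ∧ ∀ v : R, (v : Ω) ∈ V → u v = v}
  one_mem' := ⟨Subgroup.one_mem _, fun _ _ => rfl⟩
  mul_mem' := by
    rintro a b ⟨ha, ha'⟩ ⟨hb, hb'⟩
    refine ⟨Subgroup.mul_mem _ ha hb, fun v hv => ?_⟩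
    rw [MulAut.mul_apply, hb' v hv, ha' v hv]
  inv_mem' := by
    rintro a ⟨ha, ha'⟩
    refine ⟨Subgroup.inv_mem _ ha, fun v hv => ?_⟩
    have h1 : a⁻¹ (a v) = v := MulAut.inv_apply_self _ a v
    rw [ha' v hv] at h1
    exact h1

theorem mem_fixer {F : FusionSystem S} {R V : Subgroup Ω} {u : MulAut R} :
    u ∈ fixer F R V ↔ u ∈ F.autGroup R ∧ ∀ v : R, (v : Ω) ∈ V → u v = v := Iff.rfl

/-- Sylow: the fixer, if a `p`-group, is conjugate in `Aut_F(R)` into `Aut_S(R)`. -/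
theorem exists_conj_fixer [Finite S] (p : ℕ) [Fact p.Prime] (hS : IsPGroup p S) (F : FusionSystem S)
    (hF : F.IsSaturated p) {R : Subgroup Ω} (hRn : F.IsFullyNormalized R) {V : Subgroup Ω}
    (hVp : ∀ u ∈ F.autGroup R, (∀ v : R, (v : Ω) ∈ V → u v = v) → ∃ k : ℕ, u ^ p ^ k = 1) :
    ∃ a ∈ F.autGroup R, ∀ u ∈ fixer F R V, ∃ t ∈ S, ∀ y : R, (((a * u * a⁻¹) y : R) : Ω) = t * y * t⁻¹ := by
  have hRS : R ≤ S := hRn.1
  haveI : Finite R := fs_finite_of_le hRS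
  haveI : Finite (F.autGroup R) := inferInstance
  have hfa := (fs_sylow_axiom p hS F hF hRn).2
  have hT : IsSylIn p (autInducedBy S R) (F.autGroup R) :=
    isSylIn_of_sylow (autInducedBy_le_autGroup F hRS) hfa.2
  have hP : IsPGroup p (fixer F R V) := by
    rintro ⟨u, hu⟩
    obtain ⟨k, hk⟩ := hVp u hu.1 hu.2
    exact ⟨k, Subtype.ext (by simpa using hk)⟩
  obtain ⟨a, ha, hconj⟩ := hT.exists_conj_le hP (fun u hu => hu.1)
  refine ⟨a, ha, fun u hu => ?_⟩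
  have h1 := hconj u hu
  rw [mem_autInducedBy_iff] at h1
  exact h1

/-- If `Q = θ(R)` contains every element of `C_S(W)` normalizing it, a second isomorphism agreeing with `θ` on
`V` differs from `θ` by an inner automorphism of `R`. -/
theorem eq_comp_inner [Finite S] (p : ℕ) [Fact p.Prime] (hS : IsPGroup p S) (E F : FusionSystem S)
    (hF : F.IsSaturated p) {R : Subgroup Ω} (hRn : F.IsFullyNormalized R) {V : Subgroup Ω}
    (hVn : ∀ r ∈ R, ∀ v ∈ V, r * v * r⁻¹ ∈ V)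
    (hVp : ∀ u ∈ F.autGroup R, (∀ v : R, (v : Ω) ∈ V → u v = v) → ∃ k : ℕ, u ^ p ^ k = 1)
    {W : Subgroup Ω} (hWc : E.IsFullyCentralized W) (hconjE : ∀ W', F.IsConj W W' → E.IsConj W W')
    {θ θ' : R →* Ω} (hθ : θ ∈ F.Hom R) (hθ' : θ' ∈ F.Hom R)
    (hagree : ∀ v : R, (v : Ω) ∈ V → θ v = θ' v)
    (hW : ∀ w, w ∈ W ↔ ∃ v : R, (v : Ω) ∈ V ∧ θ v = w)
    (hnc : ∀ c ∈ centralizerIn S W, c ∈ Subgroup.normalizer ((θ.range : Subgroup Ω) : Set Ω) → c ∈ θ.range) :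
    ∃ r : R, ∀ x : R, θ' x = θ (r * x * r⁻¹) := by
  have hRS : R ≤ S := hRn.1
  haveI : Finite R := fs_finite_of_le hRS
  have hQS : θ.range ≤ S := fs_range_le F hθ
  have hWS : W ≤ S := hWc.1
  -- conjugation inside `R` preserves `V`
  have hVn' : ∀ (r v : R), (v : Ω) ∈ V → ((r * v * r⁻¹ : R) : Ω) ∈ V := by
    intro r v hv
    exact hVn r r.2 v hv
  have hVn'' : ∀ (r v : R), (v : Ω) ∈ V → ((r⁻¹ * v * r : R) : Ω) ∈ V := by
    intro r v hv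
    have := hVn' r⁻¹ v hv
    rwa [inv_inv] at this
  -- (1) `C_S(W) ≤ Q`
  have hCQ : centralizerIn S W ≤ θ.range := by
    apply le_of_normalizer_inf_le p hS hQS (fs_centralizerIn_le S W) ?_ hnc
    rintro _ ⟨r, rfl⟩ c hc
    refine ⟨S.mul_mem (S.mul_mem (hQS ⟨r, rfl⟩) hc.1) (S.inv_mem (hQS ⟨r, rfl⟩)),
      Subgroup.mem_centralizer_iff.mpr ?_⟩
    intro w hw
    obtain ⟨v, hv, rfl⟩ := (hW w).mp hw
    have hw' : θ (r⁻¹ * v * r) ∈ W := (hW _).mpr ⟨r⁻¹ * v * r, hVn'' r v hv, rfl⟩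
    have h1 := (Subgroup.mem_centralizer_iff.mp hc.2) _ hw'
    rw [map_mul, map_mul, map_inv] at h1
    calc θ v * (θ r * c * (θ r)⁻¹) = θ r * ((θ r)⁻¹ * θ v * θ r * c) * (θ r)⁻¹ := by group
      _ = θ r * (c * ((θ r)⁻¹ * θ v * θ r)) * (θ r)⁻¹ := by rw [h1]
      _ = _ := by group
  -- (2) `θ'` has values in `Q`
  have hθ'Q : ∀ x : R, θ' x ∈ θ.range := by
    intro x
    have hd : (θ x)⁻¹ * θ' x ∈ centralizerIn S W := by
      refine ⟨S.mul_mem (S.inv_mem ((F.le_of_mem hθ).2 x)) ((F.le_of_mem hθ').2 x),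
        Subgroup.mem_centralizer_iff.mpr ?_⟩
      intro w hw
      obtain ⟨v, hv, rfl⟩ := (hW w).mp hw
      have h1 : θ' x * θ' v * (θ' x)⁻¹ = θ x * θ v * (θ x)⁻¹ := by
        rw [← map_inv, ← map_mul, ← map_mul, ← map_inv, ← map_mul, ← map_mul]
        exact (hagree _ (hVn' x v hv)).symm
      rw [← hagree v hv] at h1
      calc θ v * ((θ x)⁻¹ * θ' x) = (θ x)⁻¹ * (θ x * θ v * (θ x)⁻¹) * θ' x := by group
        _ = (θ x)⁻¹ * (θ' x * θ v * (θ' x)⁻¹) * θ' x := by rw [h1]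
        _ = _ := by group
    have h2 : θ' x = θ x * ((θ x)⁻¹ * θ' x) := by group
    rw [h2]
    exact Subgroup.mul_mem _ ⟨x, rfl⟩ (hCQ hd)
  -- (3) the automorphism `u = θ⁻¹ θ'`
  obtain ⟨ψ, hψ, hψθ⟩ := F.inv_mem hθ
  have hψR : ∀ y : θ.range, ψ y ∈ R := by
    rintro ⟨_, x, rfl⟩
    rw [hψθ]; exact x.2
  have hρ : ψ.comp (θ'.codRestrict θ.range hθ'Q) ∈ F.Hom R := F.comp_mem hθ' hψ hθ'Q
  have hρval : ∀ y : R, (ψ.comp (θ'.codRestrict θ.range hθ'Q)) y ∈ R := fun y => hψR _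
  obtain ⟨u, hu, hux⟩ := fs_hom_to_aut F hρ hρval
  have hufix : u ∈ fixer F R V := by
    refine ⟨hu, fun v hv => ?_⟩
    apply Subtype.ext
    rw [hux]
    show ψ ⟨θ' v, hθ'Q v⟩ = v
    have h1 : (⟨θ' v, hθ'Q v⟩ : θ.range) = ⟨θ v, ⟨v, rfl⟩⟩ := Subtype.ext (hagree v hv).symm
    rw [h1, hψθ]
  -- (4) Sylow
  obtain ⟨a, ha, hconj⟩ := exists_conj_fixer p hS F hF hRn hVp
  obtain ⟨t, htS, Ht⟩ := hconj u hufix
  -- (5) the conjugate `W_a`
  have haF : R.subtype.comp a.toMonoidHom ∈ F.Hom R := (mem_autGroup_iff F hRS a).mp ha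
  have hχ : (R.subtype.comp a.toMonoidHom).comp (ψ.codRestrict R hψR) ∈ F.Hom θ.range :=
    F.comp_mem hψ haF hψR
  obtain ⟨χ, hχdef⟩ : ∃ χ : θ.range →* Ω, χ = (R.subtype.comp a.toMonoidHom).comp (ψ.codRestrict R hψR) :=
    ⟨_, rfl⟩
  rw [← hχdef] at hχ
  have hχθ : ∀ x : R, χ ⟨θ x, ⟨x, rfl⟩⟩ = ((a x : R) : Ω) := by
    intro x
    rw [hχdef]
    show ((a ⟨ψ ⟨θ x, ⟨x, rfl⟩⟩, _⟩ : R) : Ω) = a x
    congr 2
    exact Subtype.ext (hψθ x)
  have hWQ : W ≤ θ.range := by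
    intro w hw
    obtain ⟨v, _, rfl⟩ := (hW w).mp hw
    exact ⟨v, rfl⟩
  have hχW : χ.comp (Subgroup.inclusion hWQ) ∈ F.Hom W := fs_restrict_mem F hχ hWQ
  have hcardle := hWc.2 _ (hconjE _ ⟨_, hχW, rfl⟩)
  -- elements of `W_a`
  have hWa : ∀ y, y ∈ (χ.comp (Subgroup.inclusion hWQ)).range ↔ ∃ v : R, (v : Ω) ∈ V ∧ ((a v : R) : Ω) = y := by
    intro y
    constructor
    · rintro ⟨⟨w, hw⟩, rfl⟩
      obtain ⟨v, hv, hvw⟩ := (hW w).mp hw
      refine ⟨v, hv, ?_⟩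
      rw [← hχθ]
      show χ ⟨θ v, _⟩ = χ ⟨w, hWQ hw⟩
      congr 1
      exact Subtype.ext hvw
    · rintro ⟨v, hv, rfl⟩
      refine ⟨⟨θ v, (hW _).mpr ⟨v, hv, rfl⟩⟩, ?_⟩
      rw [← hχθ]
      rfl
  -- (6) `C_S(W_a) ≤ R`
  have hCaR : centralizerIn S (χ.comp (Subgroup.inclusion hWQ)).range ≤ R := by
    haveI : Finite (centralizerIn S (χ.comp (Subgroup.inclusion hWQ)).range) :=
      fs_finite_of_le (fs_centralizerIn_le S _)
    have hmem : ∀ c : centralizerIn S W, χ ⟨c, hCQ c.2⟩ ∈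
        centralizerIn S (χ.comp (Subgroup.inclusion hWQ)).range ⊓ R := by
      intro c
      refine ⟨⟨(F.le_of_mem hχ).2 _, Subgroup.mem_centralizer_iff.mpr ?_⟩, ?_⟩
      · rintro _ ⟨⟨w, hw⟩, rfl⟩
        show χ ⟨w, hWQ hw⟩ * χ ⟨c, hCQ c.2⟩ = χ ⟨c, hCQ c.2⟩ * χ ⟨w, hWQ hw⟩
        rw [← map_mul, ← map_mul]
        congr 1
        apply Subtype.ext
        exact (Subgroup.mem_centralizer_iff.mp c.2.2) w hw
      · rw [hχdef]
        exact (a _).2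
    haveI : Finite ↥(centralizerIn S (χ.comp (Subgroup.inclusion hWQ)).range ⊓ R) :=
      fs_finite_of_le (inf_le_right.trans hRS)
    have h1 : Nat.card (centralizerIn S W) ≤
        Nat.card ↥(centralizerIn S (χ.comp (Subgroup.inclusion hWQ)).range ⊓ R) := by
      apply Nat.card_le_card_of_injective (fun c : centralizerIn S W =>
        (⟨χ ⟨c, hCQ c.2⟩, hmem c⟩ : ↥(centralizerIn S (χ.comp (Subgroup.inclusion hWQ)).range ⊓ R)))
      intro c c' hcc'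
      have h2 : χ ⟨c, hCQ c.2⟩ = χ ⟨c', hCQ c'.2⟩ := congrArg Subtype.val hcc'
      have h3 := F.injective_of_mem hχ h2
      exact Subtype.ext (congrArg (fun z : θ.range => (z : Ω)) h3)
    have h2 : centralizerIn S (χ.comp (Subgroup.inclusion hWQ)).range ⊓ R =
        centralizerIn S (χ.comp (Subgroup.inclusion hWQ)).range :=
      Subgroup.eq_of_le_of_card_ge inf_le_left (hcardle.trans h1)
    rw [← h2]
    exact inf_le_right
  -- (7) `t` centralizes `W_a`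
  have haua : ∀ y : R, (a * u * a⁻¹) (a y) = a (u y) := by
    intro y
    rw [MulAut.mul_apply, MulAut.mul_apply, MulAut.inv_apply_self]
  have htC : t ∈ centralizerIn S (χ.comp (Subgroup.inclusion hWQ)).range := by
    refine ⟨htS, Subgroup.mem_centralizer_iff.mpr ?_⟩
    intro y hy
    obtain ⟨v, hv, rfl⟩ := (hWa y).mp hy
    have h1 := Ht (a v)
    rw [haua, hufix.2 v hv] at h1
    have h2 : t * ((a v : R) : Ω) * t⁻¹ = a v := h1.symm
    calc ((a v : R) : Ω) * t = (t * ((a v : R) : Ω) * t⁻¹) * t := by rw [h2]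
      _ = t * a v := by group
  have htR : t ∈ R := hCaR htC
  -- (8) conclusion
  refine ⟨a⁻¹ ⟨t, htR⟩, fun x => ?_⟩
  have h1 : (a * u * a⁻¹) (a x) = ⟨t, htR⟩ * a x * ⟨t, htR⟩⁻¹ := by
    apply Subtype.ext
    rw [Ht]
    rfl
  rw [haua] at h1
  have h2 : u x = a⁻¹ ⟨t, htR⟩ * x * (a⁻¹ ⟨t, htR⟩)⁻¹ := by
    have h6 : u x = (a⁻¹ : MulAut R) (⟨t, htR⟩ * a x * ⟨t, htR⟩⁻¹) := by
      rw [← h1, MulAut.inv_apply_self]
    rw [map_mul, map_mul, map_inv, MulAut.inv_apply_self] at h6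
    exact h6
  obtain ⟨y, hy⟩ := hθ'Q x
  have h3 : ((u x : R) : Ω) = y := by
    rw [hux]
    show ψ ⟨θ' x, hθ'Q x⟩ = y
    have h4 : (⟨θ' x, hθ'Q x⟩ : θ.range) = ⟨θ y, ⟨y, rfl⟩⟩ := Subtype.ext hy.symm
    rw [h4, hψθ]
  have h5 : u x = y := Subtype.ext h3
  rw [← hy, ← h5, h2]

end Cfsg.Agent.H9BGH
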