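import Mathlib
import Cfsg.Prelude.Def_FusionSystem
import Cfsg.Agent.Lib.Helper9.FusionAut
import Cfsg.Agent.Lib.Helper9.FusionBasic
import Cfsg.Agent.Lib.Helper9.FusionReceptive

set_option autoImplicit false

/-! The full subsystem of a saturated system on a strongly closed direct factor is saturated. -/

namespace Cfsg.Agent.Lib.Helper9.H9DirProd

open Cfsg Cfsg.FusionSystem Cfsg.Agent.Lib.Helper9

variable {Ω : Type*} [Group Ω]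

/-- The product set of two elementwise commuting subgroups. -/
def commProd (S₁ S₂ : Subgroup Ω) (hcomm : ∀ a ∈ S₁, ∀ b ∈ S₂, a * b = b * a) : Subgroup Ω where
  carrier := {x | ∃ a ∈ S₁, ∃ b ∈ S₂, x = a * b}
  one_mem' := ⟨1, S₁.one_mem, 1, S₂.one_mem, by rw [mul_one]⟩
  mul_mem' := by
    rintro _ _ ⟨a, ha, b, hb, rfl⟩ ⟨a', ha', b', hb', rfl⟩
    refine ⟨a * a', S₁.mul_mem ha ha', b * b', S₂.mul_mem hb hb', ?_⟩
    calc a * b * (a' * b') = a * (b * a') * b' := by group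
      _ = a * (a' * b) * b' := by rw [hcomm a' ha' b hb]
      _ = a * a' * (b * b') := by group
  inv_mem' := by
    rintro _ ⟨a, ha, b, hb, rfl⟩
    refine ⟨a⁻¹, S₁.inv_mem ha, b⁻¹, S₂.inv_mem hb, ?_⟩
    rw [mul_inv_rev, hcomm a⁻¹ (S₁.inv_mem ha) b⁻¹ (S₂.inv_mem hb)]

theorem exists_mul_of_mem_sup {S₁ S₂ : Subgroup Ω} (hcomm : ∀ a ∈ S₁, ∀ b ∈ S₂, a * b = b * a) {x : Ω}
    (hx : x ∈ S₁ ⊔ S₂) : ∃ a ∈ S₁, ∃ b ∈ S₂, x = a * b := by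
  have hle : S₁ ⊔ S₂ ≤ commProd S₁ S₂ hcomm := by
    apply sup_le
    · intro a ha
      exact ⟨a, ha, 1, S₂.one_mem, by rw [mul_one]⟩
    · intro b hb
      exact ⟨1, S₁.one_mem, b, hb, by rw [one_mul]⟩
  exact hle hx

variable {S : Subgroup Ω}

theorem autInducedBy_factor {S₁ S₂ : Subgroup Ω} (hcomm : ∀ a ∈ S₁, ∀ b ∈ S₂, a * b = b * a)
    (hsup : S₁ ⊔ S₂ = S) {Q : Subgroup Ω} (hQ : Q ≤ S₁) : autInducedBy S₁ Q = autInducedBy S Q := by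
  have h₁S : S₁ ≤ S := hsup ▸ le_sup_left
  ext α
  rw [mem_autInducedBy_iff, mem_autInducedBy_iff]
  constructor
  · rintro ⟨g, hg, Hg⟩
    exact ⟨g, h₁S hg, Hg⟩
  · rintro ⟨g, hg, Hg⟩
    rw [← hsup] at hg
    obtain ⟨a, ha, b, hb, rfl⟩ := exists_mul_of_mem_sup hcomm hg
    refine ⟨a, ha, fun x => ?_⟩
    rw [Hg x]
    have h1 : b * (x : Ω) = (x : Ω) * b := (hcomm (x : Ω) (hQ x.2) b hb).symm
    calc a * b * (x : Ω) * (a * b)⁻¹ = a * (b * (x : Ω)) * b⁻¹ * a⁻¹ := by group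
      _ = a * ((x : Ω) * b) * b⁻¹ * a⁻¹ := by rw [h1]
      _ = a * (x : Ω) * a⁻¹ := by group

theorem extender_mono {S₁ : Subgroup Ω} (h₁S : S₁ ≤ S) (P : Subgroup Ω) (φ : P →* Ω) :
    extender S₁ P φ ≤ extender S P φ := by
  apply Subgroup.closure_mono
  rintro g ⟨hg, hgN, h, hh, Hh⟩
  exact ⟨h₁S hg, hgN, h, h₁S hh, Hh⟩

theorem extender_le (S₁ P : Subgroup Ω) (φ : P →* Ω) : extender S₁ P φ ≤ S₁ := by
  apply (Subgroup.closure_le _).mpr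
  rintro g ⟨hg, -⟩
  exact hg

theorem autGroup_eq_of_hom_eq {S₁ : Subgroup Ω} (F : FusionSystem S) (R : FusionSystem S₁) {Q : Subgroup Ω}
    (h : R.Hom Q = F.Hom Q) : R.autGroup Q = F.autGroup Q := by
  unfold FusionSystem.autGroup
  rw [h]

theorem full_factor_saturated [Finite S] (p : ℕ) [Fact p.Prime] (F : FusionSystem S)
    (hF : F.IsSaturated p) (S₁ S₂ : Subgroup Ω) (hcomm : ∀ a ∈ S₁, ∀ b ∈ S₂, a * b = b * a)
    (hsup : S₁ ⊔ S₂ = S) (h₁ : F.StronglyClosed S₁) (R : FusionSystem S₁)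
    (hR : ∀ P : Subgroup Ω, P ≤ S₁ → R.Hom P = F.Hom P) : R.IsSaturated p := by
  have h₁S : S₁ ≤ S := h₁.1
  intro P hP
  obtain ⟨Q, hPQ, hQa, hQr⟩ := hF P (hP.trans h₁S)
  have hQ₁ : Q ≤ S₁ := by
    obtain ⟨φ, hφ, rfl⟩ := hPQ
    rintro _ ⟨x, rfl⟩
    exact h₁.2 P hP φ hφ x
  refine ⟨Q, ?_, ⟨hQ₁, ?_⟩, ⟨hQ₁, ?_⟩⟩
  · obtain ⟨φ, hφ, hφr⟩ := hPQ
    exact ⟨φ, by rw [hR P hP]; exact hφ, hφr⟩
  · rw [autGroup_eq_of_hom_eq F R (hR Q hQ₁), autInducedBy_factor hcomm hsup hQ₁]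
    exact hQa.2
  · intro P' φ hφ hφr
    have hP' : P' ≤ S₁ := (R.le_of_mem hφ).1
    rw [hR P' hP'] at hφ
    obtain ⟨ψ, hψ, Hψ⟩ := hQr.2 P' φ hφ hφr
    have hle := extender_mono (S := S) h₁S P' φ
    refine ⟨ψ.comp (Subgroup.inclusion hle), ?_, fun x hxP hxN => Hψ x hxP (hle hxN)⟩
    rw [hR _ (extender_le S₁ P' φ)]
    exact fs_restrict_mem F hψ hle

end Cfsg.Agent.Lib.Helper9.H9DirProd
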