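import Mathlib
import Cfsg.Prelude.Def_FusionComponents
import Cfsg.Agent.Lib.Helper9.FusionBasic
import Cfsg.Agent.Lib.Helper9.FusionAut
import Cfsg.Agent.Lib.Helper9.FusionAut2
import Cfsg.Agent.Lib.Helper9.FusionReceptive
import Cfsg.Agent.Lib.Helper9.FusionMorph5

set_option autoImplicit false
open Cfsg
open Cfsg.FusionSystem

/-! Normalizer maps onto a fixed subgroup `Q`, and intertwining automorphisms. -/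

namespace Cfsg.Agent.Lib.Helper9

variable {Ω : Type*} [Group Ω] {S : Subgroup Ω}

/-- `ν` is a map of the system defined on `N_S(Q₁)` carrying `Q₁` onto `Q`. -/
def IsNu (F : FusionSystem S) (Q Q₁ : Subgroup Ω) (ν : normalizerIn S Q₁ →* Ω) : Prop :=
  Q₁ ≤ S ∧ ν ∈ F.Hom (normalizerIn S Q₁) ∧ (Q₁.subgroupOf (normalizerIn S Q₁)).map ν = Q

theorem le_normalizerIn_of_le {Q₁ : Subgroup Ω} (h : Q₁ ≤ S) : Q₁ ≤ normalizerIn S Q₁ :=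
  le_inf h Subgroup.le_normalizer

theorem IsNu.apply_mem {F : FusionSystem S} {Q Q₁ : Subgroup Ω} {ν : normalizerIn S Q₁ →* Ω}
    (h : IsNu F Q Q₁ ν) {x : Ω} (hx : x ∈ Q₁) (hxN : x ∈ normalizerIn S Q₁) : ν ⟨x, hxN⟩ ∈ Q := by
  rw [← h.2.2]
  refine ⟨⟨x, hxN⟩, ?_, rfl⟩
  rw [SetLike.mem_coe, Subgroup.mem_subgroupOf]
  exact hx

theorem IsNu.exists_preimage {F : FusionSystem S} {Q Q₁ : Subgroup Ω} {ν : normalizerIn S Q₁ →* Ω}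
    (h : IsNu F Q Q₁ ν) {y : Ω} (hy : y ∈ Q) :
    ∃ (x : Ω) (_ : x ∈ Q₁) (hxN : x ∈ normalizerIn S Q₁), ν ⟨x, hxN⟩ = y := by
  rw [← h.2.2] at hy
  obtain ⟨x, hx, rfl⟩ := hy
  rw [SetLike.mem_coe, Subgroup.mem_subgroupOf] at hx
  exact ⟨x, hx, x.2, rfl⟩

theorem IsNu.mem_of_apply_mem {F : FusionSystem S} {Q Q₁ : Subgroup Ω} {ν : normalizerIn S Q₁ →* Ω}
    (h : IsNu F Q Q₁ ν) {d : Ω} (hdN : d ∈ normalizerIn S Q₁) (hd : ν ⟨d, hdN⟩ ∈ Q) : d ∈ Q₁ := by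
  obtain ⟨x, hx, hxN, hxy⟩ := h.exists_preimage hd
  have h1 := F.injective_of_mem h.2.1 hxy
  have h2 : x = d := congrArg (fun z : normalizerIn S Q₁ => (z : Ω)) h1
  rw [← h2]
  exact hx

theorem IsNu.le {F : FusionSystem S} {Q Q₁ : Subgroup Ω} {ν : normalizerIn S Q₁ →* Ω}
    (h : IsNu F Q Q₁ ν) : Q ≤ S := by
  intro y hy
  obtain ⟨x, _, hxN, rfl⟩ := h.exists_preimage hy
  exact (F.le_of_mem h.2.1).2 _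

/-- A normalizer map exhibits `Q₁` as conjugate to `Q`. -/
theorem IsNu.isConj {F : FusionSystem S} {Q Q₁ : Subgroup Ω} {ν : normalizerIn S Q₁ →* Ω}
    (h : IsNu F Q Q₁ ν) : F.IsConj Q₁ Q := by
  have hle := le_normalizerIn_of_le h.1
  refine ⟨ν.comp (Subgroup.inclusion hle), fs_restrict_mem F h.2.1 hle, ?_⟩
  ext y
  constructor
  · rintro ⟨x, rfl⟩
    exact h.apply_mem x.2 (hle x.2)
  · intro hy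
    obtain ⟨x, hx, hxN, rfl⟩ := h.exists_preimage hy
    exact ⟨⟨x, hx⟩, rfl⟩

/-- The identity inclusion of `N_S(Q)` is a normalizer map for `Q` itself. -/
theorem isNu_subtype (F : FusionSystem S) {Q : Subgroup Ω} (hQ : Q ≤ S) :
    IsNu F Q Q (normalizerIn S Q).subtype := by
  refine ⟨hQ, fs_subtype_mem F (fs_normalizerIn_le S Q), ?_⟩
  ext y
  constructor
  · rintro ⟨x, hx, rfl⟩
    rw [SetLike.mem_coe, Subgroup.mem_subgroupOf] at hx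
    exact hx
  · intro hy
    refine ⟨⟨y, le_normalizerIn_of_le hQ hy⟩, ?_, rfl⟩
    rw [SetLike.mem_coe, Subgroup.mem_subgroupOf]
    exact hy

/-- `α ∈ Aut(Q)` intertwines `φ` (restricted to `Q₁`) with the normalizer maps `ν₁`, `ν₂`. -/
def Intertwines (Q : Subgroup Ω) {P Q₁ Q₂ : Subgroup Ω} (φ : P →* Ω) (ν₁ : normalizerIn S Q₁ →* Ω)
    (ν₂ : normalizerIn S Q₂ →* Ω) (α : MulAut Q) : Prop :=
  ∀ (x : Ω) (hxP : x ∈ P) (hxN : x ∈ normalizerIn S Q₁) (hνQ : ν₁ ⟨x, hxN⟩ ∈ Q)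
    (hφN : φ ⟨x, hxP⟩ ∈ normalizerIn S Q₂), x ∈ Q₁ →
      ((α ⟨ν₁ ⟨x, hxN⟩, hνQ⟩ : Q) : Ω) = ν₂ ⟨φ ⟨x, hxP⟩, hφN⟩

/-- The image of `Q₁` under a map of the system lies in `S`, and its elements are images. -/
theorem image_le_of_mem {F : FusionSystem S} {P Q₁ Q₂ : Subgroup Ω} {φ : P →* Ω} (hφ : φ ∈ F.Hom P)
    (h : (Q₁.subgroupOf P).map φ = Q₂) : Q₂ ≤ S := by
  rw [← h]
  rintro _ ⟨x, -, rfl⟩
  exact (F.le_of_mem hφ).2 x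

theorem apply_mem_image {P Q₁ Q₂ : Subgroup Ω} {φ : P →* Ω}
    (h : (Q₁.subgroupOf P).map φ = Q₂) {x : Ω} (hxP : x ∈ P) (hx : x ∈ Q₁) : φ ⟨x, hxP⟩ ∈ Q₂ := by
  rw [← h]
  refine ⟨⟨x, hxP⟩, ?_, rfl⟩
  rw [SetLike.mem_coe, Subgroup.mem_subgroupOf]
  exact hx

theorem exists_of_mem_image {P Q₁ Q₂ : Subgroup Ω} {φ : P →* Ω}
    (h : (Q₁.subgroupOf P).map φ = Q₂) {y : Ω} (hy : y ∈ Q₂) :
    ∃ (x : Ω) (hxP : x ∈ P) (_ : x ∈ Q₁), φ ⟨x, hxP⟩ = y := by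
  rw [← h] at hy
  obtain ⟨x, hx, rfl⟩ := hy
  rw [SetLike.mem_coe, Subgroup.mem_subgroupOf] at hx
  exact ⟨x, x.2, hx, rfl⟩

/-- **Key lemma**: if `α` intertwines a map `θ` defined on a subgroup strictly containing `Q₁` with two normalizer
maps, then the extender of `α` is strictly bigger than `Q`. -/
theorem exists_extender_of_intertwines [Finite S] (p : ℕ) [Fact p.Prime] (hS : IsPGroup p S) (F : FusionSystem S)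
    (Q : Subgroup Ω) {R₀ Q₁ Q₂ : Subgroup Ω} {θ : R₀ →* Ω} (hθ : θ ∈ F.Hom R₀) (hQ₁R : Q₁ ≤ R₀) (hne : Q₁ ≠ R₀)
    (hQ₂ : (Q₁.subgroupOf R₀).map θ = Q₂) {ν₁ : normalizerIn S Q₁ →* Ω} {ν₂ : normalizerIn S Q₂ →* Ω}
    (h₁ : IsNu F Q Q₁ ν₁) (h₂ : IsNu F Q Q₂ ν₂) {α : MulAut Q} (hint : Intertwines Q θ ν₁ ν₂ α) :
    ∃ r ∈ extender S Q (Q.subtype.comp α.toMonoidHom), r ∉ Q := by
  have hR₀S : R₀ ≤ S := (F.le_of_mem hθ).1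
  have hθS : ∀ x, θ x ∈ S := (F.le_of_mem hθ).2
  haveI : Finite R₀ := fs_finite_of_le hR₀S
  have hQS : Q ≤ S := h₁.le
  haveI : Finite Q := fs_finite_of_le hQS
  have hQ₂S : Q₂ ≤ S := image_le_of_mem hθ hQ₂
  haveI : Finite Q₂ := fs_finite_of_le hQ₂S
  have hlt : Q₁ < R₀ := lt_of_le_of_ne hQ₁R hne
  obtain ⟨d, hdN, hdQ⟩ := SetLike.exists_of_lt (fs_lt_normalizerIn p (hS.to_le hR₀S) hlt)
  have hdR : d ∈ R₀ := hdN.1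
  have hdS : d ∈ S := hR₀S hdR
  have hdn : d ∈ Subgroup.normalizer (Q₁ : Set Ω) := hdN.2
  have hdNS : d ∈ normalizerIn S Q₁ := ⟨hdS, hdn⟩
  have hconjQ₁ : ∀ x ∈ Q₁, d * x * d⁻¹ ∈ Q₁ := fun x hx => (Subgroup.mem_normalizer_iff.mp hdn x).mp hx
  -- θ d normalizes Q₂
  have hθdn : θ ⟨d, hdR⟩ ∈ Subgroup.normalizer (Q₂ : Set Ω) := by
    apply mem_normalizer_of_conj_mem
    intro z hz
    obtain ⟨x, hxR, hx, rfl⟩ := exists_of_mem_image hQ₂ hz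
    have h1 : θ ⟨d, hdR⟩ * θ ⟨x, hxR⟩ * (θ ⟨d, hdR⟩)⁻¹ =
        θ ⟨d * x * d⁻¹, R₀.mul_mem (R₀.mul_mem hdR hxR) (R₀.inv_mem hdR)⟩ := by
      rw [← map_inv, ← map_mul, ← map_mul]
      rfl
    rw [h1]
    exact apply_mem_image hQ₂ _ (hconjQ₁ x hx)
  have hθdNS : θ ⟨d, hdR⟩ ∈ normalizerIn S Q₂ := ⟨hθS _, hθdn⟩
  have hle₁ := le_normalizerIn_of_le h₁.1
  have hle₂ := le_normalizerIn_of_le h₂.1
  have hν₁S : ∀ x, ν₁ x ∈ S := (F.le_of_mem h₁.2.1).2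
  have hν₂S : ∀ x, ν₂ x ∈ S := (F.le_of_mem h₂.2.1).2
  -- r and its conjugation action
  have hrconj : ∀ (x : Ω) (hx : x ∈ Q₁), ν₁ ⟨d, hdNS⟩ * ν₁ ⟨x, hle₁ hx⟩ * (ν₁ ⟨d, hdNS⟩)⁻¹ =
      ν₁ ⟨d * x * d⁻¹, hle₁ (hconjQ₁ x hx)⟩ := by
    intro x hx
    rw [← map_inv, ← map_mul, ← map_mul]
    rfl
  have hrn : ν₁ ⟨d, hdNS⟩ ∈ Subgroup.normalizer (Q : Set Ω) := by
    apply mem_normalizer_of_conj_mem
    intro y hy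
    obtain ⟨x, hx, hxN, rfl⟩ := h₁.exists_preimage hy
    rw [hrconj x hx]
    exact h₁.apply_mem (hconjQ₁ x hx) _
  refine ⟨ν₁ ⟨d, hdNS⟩, ?_, fun hr => hdQ (h₁.mem_of_apply_mem hdNS hr)⟩
  rw [mem_extender_iff]
  refine ⟨hν₁S _, hrn, ν₂ ⟨θ ⟨d, hdR⟩, hθdNS⟩, hν₂S _, ?_⟩
  rintro ⟨y, hy⟩ hy'
  obtain ⟨x, hx, hxN, rfl⟩ := h₁.exists_preimage hy
  show ((α ⟨ν₁ ⟨d, hdNS⟩ * ν₁ ⟨x, hxN⟩ * (ν₁ ⟨d, hdNS⟩)⁻¹, hy'⟩ : Q) : Ω) =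
    ν₂ ⟨θ ⟨d, hdR⟩, hθdNS⟩ * ((α ⟨ν₁ ⟨x, hxN⟩, hy⟩ : Q) : Ω) * (ν₂ ⟨θ ⟨d, hdR⟩, hθdNS⟩)⁻¹
  have e1 : (⟨ν₁ ⟨d, hdNS⟩ * ν₁ ⟨x, hxN⟩ * (ν₁ ⟨d, hdNS⟩)⁻¹, hy'⟩ : Q) =
      ⟨ν₁ ⟨d * x * d⁻¹, hle₁ (hconjQ₁ x hx)⟩, h₁.apply_mem (hconjQ₁ x hx) _⟩ := by
    apply Subtype.ext
    exact hrconj x hx
  rw [e1]
  have hxR : x ∈ R₀ := hQ₁R hx
  have hdxR : d * x * d⁻¹ ∈ R₀ := R₀.mul_mem (R₀.mul_mem hdR hxR) (R₀.inv_mem hdR)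
  have hθx : θ ⟨x, hxR⟩ ∈ normalizerIn S Q₂ := hle₂ (apply_mem_image hQ₂ hxR hx)
  have hθdx : θ ⟨d * x * d⁻¹, hdxR⟩ ∈ normalizerIn S Q₂ := hle₂ (apply_mem_image hQ₂ hdxR (hconjQ₁ x hx))
  rw [hint (d * x * d⁻¹) hdxR _ _ hθdx (hconjQ₁ x hx), hint x hxR hxN hy hθx hx]
  rw [← map_inv, ← map_mul, ← map_mul]
  congr 1
  apply Subtype.ext
  show θ ⟨d * x * d⁻¹, hdxR⟩ = θ ⟨d, hdR⟩ * θ ⟨x, hxR⟩ * (θ ⟨d, hdR⟩)⁻¹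
  rw [← map_inv, ← map_mul, ← map_mul]
  rfl

end Cfsg.Agent.Lib.Helper9
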