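import Mathlib
import Cfsg.Prelude.Def_FusionComponents
import Cfsg.Agent.Lib.Helper9.EssGen2
import Cfsg.Agent.Lib.Helper9.FusionNormMap
import Cfsg.Agent.Lib.Helper9.FusionSat2
import Cfsg.Agent.Lib.Helper9.FusionSat3

set_option autoImplicit false
open Cfsg
open Cfsg.FusionSystem

/-! Existence of normalizer maps and intertwining automorphisms. -/

namespace Cfsg.Agent.Lib.Helper9

variable {Ω : Type*} [Group Ω] {S : Subgroup Ω}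

theorem fs_inv_of_range_eq (F : FusionSystem S) {P Q : Subgroup Ω} {φ : P →* Ω} (hφ : φ ∈ F.Hom P)
    (h : φ.range = Q) : ∃ ψ ∈ F.Hom Q, ∀ (x : P) (hx : φ x ∈ Q), ψ ⟨φ x, hx⟩ = x := by
  subst h
  obtain ⟨ψ, hψ, Hψ⟩ := F.inv_mem hφ
  exact ⟨ψ, hψ, fun x _ => Hψ x⟩

/-- Every conjugate of a fully normalized subgroup of a saturated system has a normalizer map onto it. -/
theorem exists_nu [Finite S] (p : ℕ) [Fact p.Prime] (hS : IsPGroup p S) (F : FusionSystem S)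
    (hF : F.IsSaturated p) {Q : Subgroup Ω} (hQn : F.IsFullyNormalized Q) {Q₁ : Subgroup Ω}
    (h : F.IsConj Q₁ Q) : ∃ ν : normalizerIn S Q₁ →* Ω, IsNu F Q Q₁ ν := by
  obtain ⟨hQc, hQa⟩ := fs_sylow_axiom p hS F hF hQn
  have hQr := fs_extension_axiom p hS F hF hQc
  obtain ⟨ν, hν, -, hνQ⟩ := fs_exists_normalizer_map p hS F Q Q₁ hQa hQr h
  exact ⟨ν, fs_isConj_le_left F h, hν, hνQ⟩

/-- Given normalizer maps for `Q₁` and its image `Q₂` under a map `φ` of the system, there is an automorphism of `Q`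
in the system intertwining them. -/
theorem exists_intertwiner [Finite S] (F : FusionSystem S) {Q P Q₁ Q₂ : Subgroup Ω} {φ : P →* Ω}
    (hφ : φ ∈ F.Hom P) (hQ₁P : Q₁ ≤ P) (hQ₂ : (Q₁.subgroupOf P).map φ = Q₂)
    {ν₁ : normalizerIn S Q₁ →* Ω} {ν₂ : normalizerIn S Q₂ →* Ω}
    (h₁ : IsNu F Q Q₁ ν₁) (h₂ : IsNu F Q Q₂ ν₂) :
    ∃ α ∈ F.autGroup Q, Intertwines Q φ ν₁ ν₂ α := by
  have hle₁ := le_normalizerIn_of_le h₁.1
  have hle₂ := le_normalizerIn_of_le h₂.1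
  -- restriction of ν₁ to Q₁ and its inverse
  have hν₁' : ν₁.comp (Subgroup.inclusion hle₁) ∈ F.Hom Q₁ := fs_restrict_mem F h₁.2.1 hle₁
  have hrange : (ν₁.comp (Subgroup.inclusion hle₁)).range = Q := by
    ext y
    constructor
    · rintro ⟨x, rfl⟩
      exact h₁.apply_mem x.2 (hle₁ x.2)
    · intro hy
      obtain ⟨x, hx, hxN, rfl⟩ := h₁.exists_preimage hy
      exact ⟨⟨x, hx⟩, rfl⟩
  obtain ⟨χ, hχ, Hχ⟩ := fs_inv_of_range_eq F hν₁' hrange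
  have hχx : ∀ (x : Ω) (hx : x ∈ Q₁) (hxN : x ∈ normalizerIn S Q₁) (hνQ : ν₁ ⟨x, hxN⟩ ∈ Q),
      χ ⟨ν₁ ⟨x, hxN⟩, hνQ⟩ = x := by
    intro x hx hxN hνQ
    exact Hχ ⟨x, hx⟩ hνQ
  have hχQ₁ : ∀ y : Q, χ y ∈ Q₁ := by
    rintro ⟨y, hy⟩
    obtain ⟨x, hx, hxN, rfl⟩ := h₁.exists_preimage hy
    rw [hχx x hx hxN hy]
    exact hx
  -- restriction of φ to Q₁
  have hφ' : φ.comp (Subgroup.inclusion hQ₁P) ∈ F.Hom Q₁ := fs_restrict_mem F hφ hQ₁P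
  have hφ'Q₂ : ∀ x : Q₁, (φ.comp (Subgroup.inclusion hQ₁P)) x ∈ Q₂ := fun x => apply_mem_image hQ₂ _ x.2
  -- restriction of ν₂ to Q₂
  have hν₂' : ν₂.comp (Subgroup.inclusion hle₂) ∈ F.Hom Q₂ := fs_restrict_mem F h₂.2.1 hle₂
  have hc1 := F.comp_mem hχ hφ' hχQ₁
  have hc2 := F.comp_mem hc1 hν₂' (fun y => hφ'Q₂ _)
  have hval : ∀ y : Q, ((ν₂.comp (Subgroup.inclusion hle₂)).comp
      ((((φ.comp (Subgroup.inclusion hQ₁P)).comp (χ.codRestrict Q₁ hχQ₁))).codRestrict Q₂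
        (fun y => hφ'Q₂ _))) y ∈ Q := by
    intro y
    exact h₂.apply_mem (hφ'Q₂ _) _
  obtain ⟨α, hα, Hα⟩ := fs_hom_to_aut F hc2 hval
  refine ⟨α, hα, ?_⟩
  intro x hxP hxN hνQ hφN hx
  rw [Hα]
  show ν₂ ⟨φ ⟨χ ⟨ν₁ ⟨x, hxN⟩, hνQ⟩, _⟩, _⟩ = ν₂ ⟨φ ⟨x, hxP⟩, hφN⟩
  congr 1
  apply Subtype.ext
  show φ ⟨χ ⟨ν₁ ⟨x, hxN⟩, hνQ⟩, _⟩ = φ ⟨x, hxP⟩
  congr 1
  apply Subtype.ext
  exact hχx x hx hxN hνQ

end Cfsg.Agent.Lib.Helper9
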