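import Mathlib
import Cfsg.Prelude.Def_FusionComponents
import Cfsg.Agent.Lib.Helper9.EssGen3
import Cfsg.Agent.Lib.Helper9.FusionTransport

set_option autoImplicit false
open Cfsg
open Cfsg.FusionSystem

/-! The fusion system omitting (part of) the automizer of a conjugacy class. -/

namespace Cfsg.Agent.Lib.Helper9

variable {Ω : Type*} [Group Ω] {S : Subgroup Ω}

theorem fs_isConj_card_eq [Finite S] (F : FusionSystem S) {P Q : Subgroup Ω} (h : F.IsConj P Q) :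
    Nat.card P = Nat.card Q := by
  obtain ⟨φ, hφ, rfl⟩ := h
  exact Nat.card_congr (fsEquiv F hφ).toEquiv

/-- The maps of `F` all of whose "restrictions to conjugates of `Q`", read through normalizer maps, lie in `M'`. -/
def omitHom (F : FusionSystem S) (Q : Subgroup Ω) (M' : Subgroup (MulAut Q)) (P : Subgroup Ω) : Set (P →* Ω) :=
  {φ | φ ∈ F.Hom P ∧ ∀ (Q₁ Q₂ : Subgroup Ω) (ν₁ : normalizerIn S Q₁ →* Ω) (ν₂ : normalizerIn S Q₂ →* Ω)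
      (α : MulAut Q), Q₁ ≤ P → (Q₁.subgroupOf P).map φ = Q₂ → IsNu F Q Q₁ ν₁ → IsNu F Q Q₂ ν₂ →
      α ∈ F.autGroup Q → Intertwines Q φ ν₁ ν₂ α → α ∈ M'}

section

variable [Finite S] (p : ℕ) [Fact p.Prime] (hS : IsPGroup p S) (F : FusionSystem S) (hF : F.IsSaturated p)
  (Q : Subgroup Ω) (hQn : F.IsFullyNormalized Q) (M' : Subgroup (MulAut Q))
  (hM : ∀ α ∈ F.autGroup Q, (∃ r ∈ extender S Q (Q.subtype.comp α.toMonoidHom), r ∉ Q) → α ∈ M')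

include hS hM in
/-- A restriction of a map defined on a subgroup that is not a conjugate of `Q` lying inside the source. -/
theorem omit_of_lt {R₀ P : Subgroup Ω} {θ : R₀ →* Ω} (hθ : θ ∈ F.Hom R₀) (hPR : P ≤ R₀)
    (hne : ∀ Q₁ : Subgroup Ω, Q₁ ≤ P → F.IsConj Q₁ Q → Q₁ ≠ R₀) :
    θ.comp (Subgroup.inclusion hPR) ∈ omitHom F Q M' P := by
  refine ⟨fs_restrict_mem F hθ hPR, ?_⟩
  intro Q₁ Q₂ ν₁ ν₂ α hQ₁P hQ₂ h₁ h₂ hα hint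
  apply hM α hα
  have hQ₂' : (Q₁.subgroupOf R₀).map θ = Q₂ := by
    rw [← hQ₂]
    ext y
    constructor
    · rintro ⟨x, hx, rfl⟩
      rw [SetLike.mem_coe, Subgroup.mem_subgroupOf] at hx
      refine ⟨⟨x, hQ₁P hx⟩, ?_, rfl⟩
      rw [SetLike.mem_coe, Subgroup.mem_subgroupOf]
      exact hx
    · rintro ⟨x, hx, rfl⟩
      rw [SetLike.mem_coe, Subgroup.mem_subgroupOf] at hx
      refine ⟨⟨x, hPR x.2⟩, ?_, rfl⟩
      rw [SetLike.mem_coe, Subgroup.mem_subgroupOf]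
      exact hx
  refine exists_extender_of_intertwines p hS F Q hθ (hQ₁P.trans hPR) (hne Q₁ hQ₁P h₁.isConj) hQ₂' h₁ h₂ ?_
  intro x hxR hxN hνQ hφN hx
  exact hint x (hQ₁P hx) hxN hνQ hφN hx

include hS hM hQn in
theorem omit_conj_mem (hQS : Q ≠ S) {P : Subgroup Ω} {g : Ω} (hP : P ≤ S) (hg : g ∈ S) :
    conjHom P g ∈ omitHom F Q M' P := by
  have h1 := omit_of_lt p hS F Q M' hM (F.conj_mem le_rfl hg) hP ?_
  · have : (conjHom S g).comp (Subgroup.inclusion hP) = conjHom P g := by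
      ext x; rfl
    rwa [this] at h1
  · intro Q₁ _ hconj heq
    apply hQS
    have hc := fs_isConj_card_eq F hconj
    rw [heq] at hc
    exact Subgroup.eq_of_le_of_card_ge hQn.1 (le_of_eq hc)

include hS hF hQn in
theorem omit_comp_mem {P P' : Subgroup Ω} {φ : P →* Ω} {ψ : P' →* Ω} (hφ : φ ∈ omitHom F Q M' P)
    (hψ : ψ ∈ omitHom F Q M' P') (h : ∀ x : P, φ x ∈ P') :
    ψ.comp (φ.codRestrict P' h) ∈ omitHom F Q M' P := by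
  refine ⟨F.comp_mem hφ.1 hψ.1 h, ?_⟩
  intro Q₁ Q₃ ν₁ ν₃ α hQ₁P hQ₃ h₁ h₃ hα hint
  obtain ⟨Q₂, hQ₂def⟩ : ∃ Q₂ : Subgroup Ω, (Q₁.subgroupOf P).map φ = Q₂ := ⟨_, rfl⟩
  have hQ₂P' : Q₂ ≤ P' := by
    rw [← hQ₂def]
    rintro _ ⟨x, -, rfl⟩
    exact h x
  -- Q₂ is conjugate to Q
  have hconj12 : F.IsConj Q₁ Q₂ := by
    refine ⟨φ.comp (Subgroup.inclusion hQ₁P), fs_restrict_mem F hφ.1 hQ₁P, ?_⟩
    rw [← hQ₂def]
    ext y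
    constructor
    · rintro ⟨x, rfl⟩
      refine ⟨⟨x, hQ₁P x.2⟩, ?_, rfl⟩
      rw [SetLike.mem_coe, Subgroup.mem_subgroupOf]
      exact x.2
    · rintro ⟨x, hx, rfl⟩
      rw [SetLike.mem_coe, Subgroup.mem_subgroupOf] at hx
      exact ⟨⟨x, hx⟩, rfl⟩
  have hconj2 : F.IsConj Q₂ Q := fs_isConj_trans F (fs_isConj_symm F hconj12) h₁.isConj
  obtain ⟨ν₂, h₂⟩ := exists_nu p hS F hF hQn hconj2
  obtain ⟨α₁, hα₁, hint₁⟩ := exists_intertwiner F hφ.1 hQ₁P hQ₂def h₁ h₂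
  have hα₁M : α₁ ∈ M' := hφ.2 Q₁ Q₂ ν₁ ν₂ α₁ hQ₁P hQ₂def h₁ h₂ hα₁ hint₁
  have hQ₃' : (Q₂.subgroupOf P').map ψ = Q₃ := by
    rw [← hQ₃, ← hQ₂def]
    ext y
    constructor
    · rintro ⟨z, hz, rfl⟩
      rw [SetLike.mem_coe, Subgroup.mem_subgroupOf] at hz
      obtain ⟨x, hx, hxz⟩ := hz
      refine ⟨x, hx, ?_⟩
      show ψ ⟨φ x, h x⟩ = ψ z
      congr 1
      exact Subtype.ext hxz
    · rintro ⟨x, hx, rfl⟩
      refine ⟨⟨φ x, h x⟩, ?_, rfl⟩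
      rw [SetLike.mem_coe, Subgroup.mem_subgroupOf]
      exact ⟨x, hx, rfl⟩
  have hle₁ := le_normalizerIn_of_le h₁.1
  have hle₂ := le_normalizerIn_of_le h₂.1
  have hle₃ := le_normalizerIn_of_le h₃.1
  have hint₂ : Intertwines Q ψ ν₂ ν₃ (α * α₁⁻¹) := by
    intro y hyP' hyN hνQ hψN hy
    obtain ⟨x, hxP, hx, hxy⟩ := exists_of_mem_image hQ₂def hy
    have hxN : x ∈ normalizerIn S Q₁ := hle₁ hx
    have hν₁Q : ν₁ ⟨x, hxN⟩ ∈ Q := h₁.apply_mem hx hxN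
    have hφN : φ ⟨x, hxP⟩ ∈ normalizerIn S Q₂ := by rw [hxy]; exact hyN
    have e1 := hint₁ x hxP hxN hν₁Q hφN hx
    have e2 : (α₁ ⟨ν₁ ⟨x, hxN⟩, hν₁Q⟩ : Q) = ⟨ν₂ ⟨y, hyN⟩, hνQ⟩ := by
      apply Subtype.ext
      rw [e1]
      congr 1
      exact Subtype.ext hxy
    have e3 : (α₁⁻¹ ⟨ν₂ ⟨y, hyN⟩, hνQ⟩ : Q) = ⟨ν₁ ⟨x, hxN⟩, hν₁Q⟩ := by
      rw [← e2, MulAut.inv_apply_self]
    rw [MulAut.mul_apply, e3]
    have hcompN : (ψ.comp (φ.codRestrict P' h)) ⟨x, hxP⟩ ∈ normalizerIn S Q₃ := by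
      have : (ψ.comp (φ.codRestrict P' h)) ⟨x, hxP⟩ = ψ ⟨y, hyP'⟩ := by
        show ψ ⟨φ ⟨x, hxP⟩, _⟩ = ψ ⟨y, hyP'⟩
        congr 1
        exact Subtype.ext hxy
      rw [this]
      exact hψN
    rw [hint x hxP hxN hν₁Q hcompN hx]
    congr 1
    apply Subtype.ext
    show ψ ⟨φ ⟨x, hxP⟩, _⟩ = ψ ⟨y, hyP'⟩
    congr 1
    exact Subtype.ext hxy
  have hα₂ : α * α₁⁻¹ ∈ F.autGroup Q := Subgroup.mul_mem _ hα (Subgroup.inv_mem _ hα₁)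
  have hα₂M := hψ.2 Q₂ Q₃ ν₂ ν₃ (α * α₁⁻¹) hQ₂P' hQ₃' h₂ h₃ hα₂ hint₂
  have : α = (α * α₁⁻¹) * α₁ := by group
  rw [this]
  exact Subgroup.mul_mem _ hα₂M hα₁M

theorem omit_inv_mem {P : Subgroup Ω} {φ : P →* Ω} (hφ : φ ∈ omitHom F Q M' P) :
    ∃ ψ ∈ omitHom F Q M' φ.range, ∀ x : P, ψ ⟨φ x, ⟨x, rfl⟩⟩ = (x : Ω) := by
  obtain ⟨χ, hχ, Hχ⟩ := F.inv_mem hφ.1
  refine ⟨χ, ⟨hχ, ?_⟩, Hχ⟩
  intro Q₂ Q₁ ν₂ ν₁ α hQ₂R hQ₁ h₂ h₁ hα hint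
  have hQ₁P : Q₁ ≤ P := by
    rw [← hQ₁]
    rintro _ ⟨⟨_, x, rfl⟩, -, rfl⟩
    rw [Hχ x]
    exact x.2
  have hQ₂' : (Q₁.subgroupOf P).map φ = Q₂ := by
    ext y
    constructor
    · rintro ⟨x, hx, rfl⟩
      rw [SetLike.mem_coe, Subgroup.mem_subgroupOf] at hx
      obtain ⟨z, hzR, hz, hzx⟩ := exists_of_mem_image hQ₁ hx
      obtain ⟨x', rfl⟩ := hzR
      have h1 : χ ⟨φ x', ⟨x', rfl⟩⟩ = x' := Hχ x'
      have h2 : (x' : Ω) = x := by rw [← h1]; exact hzx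
      have h3 : x' = x := Subtype.ext h2
      rw [← h3]
      exact hz
    · intro hy
      obtain ⟨x, rfl⟩ := hQ₂R hy
      refine ⟨x, ?_, rfl⟩
      rw [SetLike.mem_coe, Subgroup.mem_subgroupOf]
      have := apply_mem_image hQ₁ (⟨x, rfl⟩ : φ x ∈ φ.range) hy
      rw [Hχ x] at this
      exact this
  have hle₁ := le_normalizerIn_of_le h₁.1
  have hle₂ := le_normalizerIn_of_le h₂.1
  have hint' : Intertwines Q φ ν₁ ν₂ α⁻¹ := by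
    intro x hxP hxN hνQ hφN hx
    have hy : φ ⟨x, hxP⟩ ∈ Q₂ := apply_mem_image hQ₂' hxP hx
    have hyR : φ ⟨x, hxP⟩ ∈ φ.range := ⟨_, rfl⟩
    have hν₂Q : ν₂ ⟨φ ⟨x, hxP⟩, hφN⟩ ∈ Q := h₂.apply_mem hy hφN
    have hχN : χ ⟨φ ⟨x, hxP⟩, hyR⟩ ∈ normalizerIn S Q₁ := by
      rw [Hχ ⟨x, hxP⟩]; exact hxN
    have e1 := hint (φ ⟨x, hxP⟩) hyR hφN hν₂Q hχN hy
    have e2 : (α ⟨ν₂ ⟨φ ⟨x, hxP⟩, hφN⟩, hν₂Q⟩ : Q) = ⟨ν₁ ⟨x, hxN⟩, hνQ⟩ := by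
      apply Subtype.ext
      rw [e1]
      congr 1
      apply Subtype.ext
      exact Hχ ⟨x, hxP⟩
    rw [← e2, MulAut.inv_apply_self]
  have := hφ.2 Q₁ Q₂ ν₁ ν₂ α⁻¹ hQ₁P hQ₂' h₁ h₂ (Subgroup.inv_mem _ hα) hint'
  have h2 := Subgroup.inv_mem _ this
  rwa [inv_inv] at h2

/-- The fusion system omitting the part of the automizer of `Q` outside `M'`. -/
def omitSys (hQS : Q ≠ S) : FusionSystem S where
  Hom P := omitHom F Q M' P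
  le_of_mem h := F.le_of_mem h.1
  injective_of_mem h := F.injective_of_mem h.1
  conj_mem := fun hP hg => omit_conj_mem p hS F Q hQn M' hM hQS hP hg
  comp_mem := fun hφ hψ h => omit_comp_mem p hS F hF Q hQn M' hφ hψ h
  inv_mem := fun hφ => omit_inv_mem F Q M' hφ

include hS hM in
theorem autGroup_le_omitSys (hQS : Q ≠ S) {R : Subgroup Ω} (hR : R ≤ S) (hRQ : ¬ F.IsConj Q R) :
    F.autGroup R ≤ (omitSys p hS F hF Q hQn M' hM hQS).autGroup R := by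
  intro β hβ
  rw [mem_autGroup_iff F hR] at hβ
  rw [mem_autGroup_iff _ hR]
  have h1 := omit_of_lt p hS F Q M' hM hβ le_rfl ?_
  · exact h1
  · intro Q₁ _ hconj heq
    apply hRQ
    rw [← heq]
    exact fs_isConj_symm F hconj

theorem not_le_omitSys (hQS : Q ≠ S) {α₀ : MulAut Q} (hα₀ : α₀ ∈ F.autGroup Q) (hα₀M : α₀ ∉ M') :
    ¬ F ≤ omitSys p hS F hF Q hQn M' hM hQS := by
  intro hle
  have hQle : Q ≤ S := hQn.1
  rw [mem_autGroup_iff F hQle] at hα₀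
  have h1 := hle Q hα₀
  apply hα₀M
  have hnu := isNu_subtype F hQle
  refine h1.2 Q Q _ _ α₀ le_rfl ?_ hnu hnu ((mem_autGroup_iff F hQle α₀).mpr hα₀) ?_
  · ext y
    constructor
    · rintro ⟨x, -, rfl⟩
      exact (α₀ x).2
    · intro hy
      refine ⟨α₀⁻¹ ⟨y, hy⟩, ?_, ?_⟩
      · rw [SetLike.mem_coe, Subgroup.mem_subgroupOf]
        exact (α₀⁻¹ ⟨y, hy⟩).2
      · show ((α₀ (α₀⁻¹ ⟨y, hy⟩) : Q) : Ω) = y
        rw [MulAut.apply_inv_self]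
  · intro x hxP hxN hνQ hφN hx
    rfl

end

end Cfsg.Agent.Lib.Helper9
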