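import Mathlib
import Cfsg.Prelude
import Cfsg.Agent.Lib.Helper9.BGH2
import Cfsg.Agent.Lib.Helper9.DirProd1
import Cfsg.Agent.Lib.Helper9.EssGen4

set_option autoImplicit false

/-!
# Control of fusion by abelian subgroups of small exponent (part 3): the two-isomorphisms lemma
-/

namespace Cfsg.Agent.H9BGH

open Cfsg Cfsg.FusionSystem Cfsg.Agent.Lib.Helper9

variable {Ω : Type*} [Group Ω] {S : Subgroup Ω}

/-- If some element of `C_S(W)` outside `Q = θ(R)` normalizes `Q`, then `a ∘ θ⁻¹` extends to a larger subgroup, so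
it is a map of `E`. -/
theorem ext_mem [Finite S] (p : ℕ) [Fact p.Prime] (hS : IsPGroup p S) (E F : FusionSystem S)
    (hF : F.IsSaturated p) {R : Subgroup Ω} (hRn : F.IsFullyNormalized R)
    (IH : ∀ Q : Subgroup Ω, Q ≤ S → Nat.card R < Nat.card Q → F.Hom Q ⊆ E.Hom Q)
    {V W : Subgroup Ω} {θ : R →* Ω} (hθ : θ ∈ F.Hom R)
    (hW : ∀ w, w ∈ W ↔ ∃ v : R, (v : Ω) ∈ V ∧ θ v = w)
    {a : MulAut R} (ha : a ∈ F.autGroup R)
    (hconj : ∀ u ∈ fixer F R V, ∃ t ∈ S, ∀ y : R, (((a * u * a⁻¹) y : R) : Ω) = t * y * t⁻¹)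
    {s : Ω} (hsC : s ∈ centralizerIn S W)
    (hsN : s ∈ Subgroup.normalizer ((θ.range : Subgroup Ω) : Set Ω)) (hsQ : s ∉ θ.range)
    {χ : θ.range →* Ω} (hχ : ∀ x : R, χ ⟨θ x, ⟨x, rfl⟩⟩ = ((a x : R) : Ω)) : χ ∈ E.Hom θ.range := by
  have hRS : R ≤ S := hRn.1
  haveI : Finite R := fs_finite_of_le hRS
  have hQS : θ.range ≤ S := fs_range_le F hθ
  have haF : R.subtype.comp a.toMonoidHom ∈ F.Hom R := (mem_autGroup_iff F hRS a).mp ha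
  obtain ⟨ψ, hψ, hψθ⟩ := F.inv_mem hθ
  have hψR : ∀ y : θ.range, ψ y ∈ R := by
    rintro ⟨_, x, rfl⟩
    rw [hψθ]; exact x.2
  -- `χ` is a map of `F` onto `R`
  have hχF : χ ∈ F.Hom θ.range := by
    refine comp_mem' F hψ haF hψR ?_
    rintro ⟨_, x, rfl⟩
    rw [hχ]
    show ((a x : R) : Ω) = ((a ⟨ψ ⟨θ x, ⟨x, rfl⟩⟩, _⟩ : R) : Ω)
    congr 2
    exact Subtype.ext (hψθ x).symm
  have hχrange : χ.range = R := by
    ext y
    constructor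
    · rintro ⟨⟨_, x, rfl⟩, rfl⟩
      rw [hχ]; exact (a x).2
    · intro hy
      refine ⟨⟨θ (a⁻¹ ⟨y, hy⟩), ⟨_, rfl⟩⟩, ?_⟩
      rw [hχ, MulAut.apply_inv_self]
  -- receptivity of `R`
  obtain ⟨hRc, -⟩ := fs_sylow_axiom p hS F hF hRn
  have hRr := fs_extension_axiom p hS F hF hRc
  obtain ⟨χ', hχ', hχ'χ⟩ := hRr.2 θ.range χ hχF hχrange
  -- the automorphism `u = θ⁻¹ c_s θ`
  have hsS : s ∈ S := hsC.1
  have hκval : ∀ x : R, s * θ x * s⁻¹ ∈ θ.range := fun x =>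
    (Subgroup.mem_normalizer_iff.mp hsN (θ x)).mp ⟨x, rfl⟩
  have hκ : (conjHom θ.range s).comp (θ.codRestrict θ.range (fun x => ⟨x, rfl⟩)) ∈ F.Hom R :=
    F.comp_mem hθ (F.conj_mem hQS hsS) _
  have hκval' : ∀ x : R, ((conjHom θ.range s).comp (θ.codRestrict θ.range (fun x => ⟨x, rfl⟩))) x ∈ θ.range :=
    fun x => hκval x
  have hρ := F.comp_mem hκ hψ hκval'
  have hρval : ∀ y : R, (ψ.comp (((conjHom θ.range s).comp
      (θ.codRestrict θ.range (fun x => ⟨x, rfl⟩))).codRestrict θ.range hκval')) y ∈ R := fun y => hψR _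
  obtain ⟨u, hu, hux⟩ := fs_hom_to_aut F hρ hρval
  have hux' : ∀ x : R, ((u x : R) : Ω) = ψ ⟨s * θ x * s⁻¹, hκval x⟩ := fun x => hux x
  have hθu : ∀ x : R, θ (u x) = s * θ x * s⁻¹ := by
    intro x
    obtain ⟨y, hy⟩ := hκval x
    have h1 : ((u x : R) : Ω) = y := by
      rw [hux']
      have h2 : (⟨s * θ x * s⁻¹, hκval x⟩ : θ.range) = ⟨θ y, ⟨y, rfl⟩⟩ := Subtype.ext hy.symm
      rw [h2, hψθ]
    have h3 : u x = y := Subtype.ext h1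
    rw [h3, hy]
  have hufix : u ∈ fixer F R V := by
    refine ⟨hu, fun v hv => ?_⟩
    apply F.injective_of_mem hθ
    rw [hθu]
    have hw : θ v ∈ W := (hW _).mpr ⟨v, hv, rfl⟩
    have h1 := (Subgroup.mem_centralizer_iff.mp hsC.2) _ hw
    rw [← h1]
    group
  obtain ⟨t, htS, Ht⟩ := hconj u hufix
  have haua : ∀ y : R, (a * u * a⁻¹) (a y) = a (u y) := by
    intro y
    rw [MulAut.mul_apply, MulAut.mul_apply, MulAut.inv_apply_self]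
  -- `s` lies in the extender
  have hsext : s ∈ extender S θ.range χ := by
    rw [mem_extender_iff]
    refine ⟨hsS, hsN, t, htS, ?_⟩
    rintro ⟨_, x, rfl⟩ hx
    have h1 : (⟨s * θ x * s⁻¹, hx⟩ : θ.range) = ⟨θ (u x), ⟨_, rfl⟩⟩ := Subtype.ext (hθu x).symm
    rw [h1, hχ, hχ, ← haua, Ht]
  have hQext : θ.range ≤ extender S θ.range χ := fs_le_extender θ.range χ hQS (F.le_of_mem hχF).2
  have hlt : θ.range < extender S θ.range χ := by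
    refine lt_of_le_of_ne hQext ?_
    intro heq
    apply hsQ
    rw [heq]
    exact hsext
  have hextS : extender S θ.range χ ≤ S := H9DirProd.extender_le S θ.range χ
  have hcard : Nat.card R < Nat.card (extender S θ.range χ) := by
    rw [fs_isConj_card_eq F ⟨θ, hθ, rfl⟩]
    exact fs_card_lt_of_lt hlt hextS
  have hχ'E := IH _ hextS hcard hχ'
  exact restrict_mem' E hχ'E hQext (fun x => (hχ'χ x x.2 (hQext x.2)).symm)

/-- **The two-isomorphisms lemma.** -/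
theorem core_two_isos [Finite S] (p : ℕ) [Fact p.Prime] (hS : IsPGroup p S) (E F : FusionSystem S)
    (hF : F.IsSaturated p) (hEF : ∀ P : Subgroup Ω, E.Hom P ⊆ F.Hom P)
    {R : Subgroup Ω} (hRn : F.IsFullyNormalized R)
    (IH : ∀ Q : Subgroup Ω, Q ≤ S → Nat.card R < Nat.card Q → F.Hom Q ⊆ E.Hom Q)
    {V : Subgroup Ω} (hVn : ∀ r ∈ R, ∀ v ∈ V, r * v * r⁻¹ ∈ V)
    (hVp : ∀ u ∈ F.autGroup R, (∀ v : R, (v : Ω) ∈ V → u v = v) → ∃ k : ℕ, u ^ p ^ k = 1)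
    {W : Subgroup Ω} (hWc : E.IsFullyCentralized W) (hconjE : ∀ W', F.IsConj W W' → E.IsConj W W')
    {θ₁ θ₂ : R →* Ω} (hθ₁ : θ₁ ∈ E.Hom R) (hθ₂ : θ₂ ∈ F.Hom R)
    (hagree : ∀ v : R, (v : Ω) ∈ V → θ₁ v = θ₂ v)
    (hW : ∀ w, w ∈ W ↔ ∃ v : R, (v : Ω) ∈ V ∧ θ₁ v = w) : θ₂ ∈ E.Hom R := by
  have hRS : R ≤ S := hRn.1
  have hθ₁F : θ₁ ∈ F.Hom R := hEF R hθ₁
  have hW₂ : ∀ w, w ∈ W ↔ ∃ v : R, (v : Ω) ∈ V ∧ θ₂ v = w := by
    intro w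
    rw [hW]
    constructor
    · rintro ⟨v, hv, rfl⟩
      exact ⟨v, hv, (hagree v hv).symm⟩
    · rintro ⟨v, hv, rfl⟩
      exact ⟨v, hv, hagree v hv⟩
  -- composite of `θ₁` with an inner automorphism
  have hinner : ∀ r : R, ∀ χ : R →* Ω, (∀ x : R, χ x = θ₁ (r * x * r⁻¹)) → χ ∈ E.Hom R := by
    intro r χ hχ
    have hval : ∀ x : R, conjHom R (r : Ω) x ∈ R := fun x => (r * x * r⁻¹).2
    refine comp_mem' E (E.conj_mem hRS (hRS r.2)) hθ₁ hval ?_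
    intro x
    rw [hχ]
    rfl
  by_cases h1 : ∀ c ∈ centralizerIn S W,
      c ∈ Subgroup.normalizer ((θ₁.range : Subgroup Ω) : Set Ω) → c ∈ θ₁.range
  · obtain ⟨r, hr⟩ := eq_comp_inner p hS E F hF hRn hVn hVp hWc hconjE hθ₁F hθ₂ hagree hW h1
    exact hinner r θ₂ hr
  by_cases h2 : ∀ c ∈ centralizerIn S W,
      c ∈ Subgroup.normalizer ((θ₂.range : Subgroup Ω) : Set Ω) → c ∈ θ₂.range
  · obtain ⟨r, hr⟩ := eq_comp_inner p hS E F hF hRn hVn hVp hWc hconjE hθ₂ hθ₁F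
      (fun v hv => (hagree v hv).symm) hW₂ h2
    refine hinner r⁻¹ θ₂ (fun x => ?_)
    rw [hr]
    congr 1
    group
  push Not at h1 h2
  obtain ⟨s₁, hs₁C, hs₁N, hs₁Q⟩ := h1
  obtain ⟨s₂, hs₂C, hs₂N, hs₂Q⟩ := h2
  obtain ⟨a, ha, hconj⟩ := exists_conj_fixer p hS F hF hRn hVp
  have haF : R.subtype.comp a.toMonoidHom ∈ F.Hom R := (mem_autGroup_iff F hRS a).mp ha
  -- the maps `χ_i = a ∘ θ_i⁻¹`
  have hex : ∀ θ : R →* Ω, θ ∈ F.Hom R → ∃ χ : θ.range →* Ω,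
      ∀ x : R, χ ⟨θ x, ⟨x, rfl⟩⟩ = ((a x : R) : Ω) := by
    intro θ hθ
    obtain ⟨ψ, hψ, hψθ⟩ := F.inv_mem hθ
    have hψR : ∀ y : θ.range, ψ y ∈ R := by
      rintro ⟨_, x, rfl⟩
      rw [hψθ]; exact x.2
    refine ⟨(R.subtype.comp a.toMonoidHom).comp (ψ.codRestrict R hψR), fun x => ?_⟩
    show ((a ⟨ψ ⟨θ x, ⟨x, rfl⟩⟩, _⟩ : R) : Ω) = a x
    congr 2
    exact Subtype.ext (hψθ x)
  obtain ⟨χ₁, hχ₁⟩ := hex θ₁ hθ₁F
  obtain ⟨χ₂, hχ₂⟩ := hex θ₂ hθ₂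
  have hχ₁E := ext_mem p hS E F hF hRn IH hθ₁F hW ha hconj hs₁C hs₁N hs₁Q hχ₁
  have hχ₂E := ext_mem p hS E F hF hRn IH hθ₂ hW₂ ha hconj hs₂C hs₂N hs₂Q hχ₂
  have haE : R.subtype.comp a.toMonoidHom ∈ E.Hom R :=
    comp_mem' E hθ₁ hχ₁E (fun x => ⟨x, rfl⟩) (fun x => (hχ₁ x).symm)
  exact cancel_left E hχ₂E (fun x => ⟨x, rfl⟩) haE (fun x => (hχ₂ x).symm)

end Cfsg.Agent.H9BGH
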