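import Mathlib
import Cfsg.Prelude.Def_FusionSystem
import Cfsg.Agent.Lib.Helper6.PRes
import Cfsg.Agent.Lib.Helper9.FusionAG1
import Cfsg.Agent.Lib.Helper9.FusionTransport

set_option autoImplicit false

namespace Cfsg.Agent.Lib.Helper9

open Cfsg Cfsg.FusionSystem
open scoped commutatorElement

variable {Ω : Type*} [Group Ω] {S : Subgroup Ω}

/-- In a saturated system, every automorphism of a fully normalized subgroup `R` is the product of an element of
`O^p(Aut_F(R))` and an automorphism induced by an element of `S`. -/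
theorem fs_aut_decomp [Finite S] (p : ℕ) [Fact p.Prime] (hS : IsPGroup p S) (F : FusionSystem S)
    (hF : F.IsSaturated p) {R : Subgroup Ω} (hRn : F.IsFullyNormalized R) (α : F.autGroup R) :
    ∃ β : F.autGroup R, β ∈ pResidual p (F.autGroup R) ∧ ∃ s ∈ S, ∃ γ : F.autGroup R,
      (∀ x : R, (((γ : MulAut R) x : R) : Ω) = s * x * s⁻¹) ∧ α = β * γ := by
  have hRS : R ≤ S := hRn.1
  haveI : Finite R := fs_finite_of_le hRS
  obtain ⟨-, -, T₀, hT₀⟩ := fs_sylow_axiom p hS F hF hRn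
  have h1 := Cfsg.Agent.Lib.Helper6.pResidual_sup_sylow T₀
  have h2 : α ∈ pResidual p (F.autGroup R) ⊔ (T₀ : Subgroup (F.autGroup R)) := by rw [h1]; trivial
  obtain ⟨β, hβ, γ, hγ, hβγ⟩ := Subgroup.mem_sup_of_normal_left.mp h2
  rw [hT₀, Subgroup.mem_subgroupOf, mem_autInducedBy_iff] at hγ
  obtain ⟨s, hs, Hs⟩ := hγ
  exact ⟨β, hβ, s, hs, γ, Hs, hβγ.symm⟩

/-- The subsystem of the maps `φ` with `x⁻¹ φ(x) ∈ K` for all `x`, for a subgroup `K ≥ [S, S]`. -/
def focalSystem (F : FusionSystem S) (K : Subgroup Ω) (hK : ⁅S, S⁆ ≤ K) : FusionSystem S where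
  Hom P := {φ | φ ∈ F.Hom P ∧ ∀ x : P, (x : Ω)⁻¹ * φ x ∈ K}
  le_of_mem h := F.le_of_mem h.1
  injective_of_mem h := F.injective_of_mem h.1
  conj_mem := by
    intro P g hP hg
    refine ⟨F.conj_mem hP hg, fun x => ?_⟩
    apply hK
    have h1 : (x : Ω)⁻¹ * conjHom P g x = ⁅(x : Ω)⁻¹, g⁆ := by
      rw [commutatorElement_def, inv_inv]
      show (x : Ω)⁻¹ * (g * x * g⁻¹) = _
      group
    rw [h1]
    exact Subgroup.commutator_mem_commutator (S.inv_mem (hP x.2)) hg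
  comp_mem := by
    rintro P Q φ ψ ⟨hφ, Hφ⟩ ⟨hψ, Hψ⟩ h
    refine ⟨F.comp_mem hφ hψ h, fun x => ?_⟩
    have h1 : (x : Ω)⁻¹ * (ψ.comp (φ.codRestrict Q h)) x
        = ((x : Ω)⁻¹ * φ x) * ((φ x)⁻¹ * ψ ⟨φ x, h x⟩) := by
      show (x : Ω)⁻¹ * ψ ⟨φ x, h x⟩ = _
      group
    rw [h1]
    exact K.mul_mem (Hφ x) (Hψ ⟨φ x, h x⟩)
  inv_mem := by
    rintro P φ ⟨hφ, Hφ⟩
    obtain ⟨ψ, hψ, Hψ⟩ := F.inv_mem hφ
    refine ⟨ψ, ⟨hψ, ?_⟩, Hψ⟩
    rintro ⟨_, x, rfl⟩
    rw [Hψ x]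
    have h1 : (φ x)⁻¹ * (x : Ω) = ((x : Ω)⁻¹ * φ x)⁻¹ := by group
    show (φ x)⁻¹ * (x : Ω) ∈ K
    rw [h1]
    exact K.inv_mem (Hφ x)

/-- The subsystem of the maps `φ` with `x ∈ H ↔ φ(x) ∈ H`, for a subgroup `H` normalized by `S`. -/
def closedSystem (F : FusionSystem S) (H : Subgroup Ω) (hH : S ≤ Subgroup.normalizer (H : Set Ω)) :
    FusionSystem S where
  Hom P := {φ | φ ∈ F.Hom P ∧ ∀ x : P, (x : Ω) ∈ H ↔ φ x ∈ H}
  le_of_mem h := F.le_of_mem h.1
  injective_of_mem h := F.injective_of_mem h.1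
  conj_mem := by
    intro P g hP hg
    refine ⟨F.conj_mem hP hg, fun x => ?_⟩
    exact Subgroup.mem_normalizer_iff.mp (hH hg) x
  comp_mem := by
    rintro P Q φ ψ ⟨hφ, Hφ⟩ ⟨hψ, Hψ⟩ h
    refine ⟨F.comp_mem hφ hψ h, fun x => ?_⟩
    exact (Hφ x).trans (Hψ ⟨φ x, h x⟩)
  inv_mem := by
    rintro P φ ⟨hφ, Hφ⟩
    obtain ⟨ψ, hψ, Hψ⟩ := F.inv_mem hφ
    refine ⟨ψ, ⟨hψ, ?_⟩, Hψ⟩
    rintro ⟨_, x, rfl⟩
    rw [Hψ x]
    exact (Hφ x).symm

/-- The hyperfocal subgroup lies in `S`. -/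
theorem hyperfocalSubgroup_le (F : FusionSystem S) (p : ℕ) : F.hyperfocalSubgroup p ≤ S := by
  unfold FusionSystem.hyperfocalSubgroup
  rw [Subgroup.closure_le]
  rintro _ ⟨P, α, x, hPS, -, rfl⟩
  exact S.mul_mem (S.inv_mem (hPS x.2)) (hPS ((α : MulAut P) x).2)

/-- The hyperfocal subgroup is normalized by `S`. -/
theorem hyperfocalSubgroup_normalized (F : FusionSystem S) (p : ℕ) :
    S ≤ Subgroup.normalizer (F.hyperfocalSubgroup p : Set Ω) := by
  have key : ∀ s ∈ S, ∀ y ∈ F.hyperfocalSubgroup p, s * y * s⁻¹ ∈ F.hyperfocalSubgroup p := by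
    intro s hs y hy
    unfold FusionSystem.hyperfocalSubgroup at hy ⊢
    induction hy using Subgroup.closure_induction with
    | mem y hy =>
      obtain ⟨P, α, x, hPS, hα, rfl⟩ := hy
      apply Subgroup.subset_closure
      have hφ : conjHom P s ∈ F.Hom P := F.conj_mem hPS hs
      have hα' := congr_mem_autGroup F hφ (α : MulAut P) α.2
      -- the transported automorphism lies in the residual
      let f : F.autGroup P →* F.autGroup (conjHom P s).range :=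
        ((MulAut.congr (fsEquiv F hφ)).toMonoidHom.comp (F.autGroup P).subtype).codRestrict
          (F.autGroup (conjHom P s).range) (fun a => congr_mem_autGroup F hφ (a : MulAut P) a.2)
      have hfα : f α ∈ pResidual p (F.autGroup (conjHom P s).range) :=
        Cfsg.Agent.Lib.Helper6.pResidual_map_le p f ⟨α, hα, rfl⟩
      refine ⟨(conjHom P s).range, f α, fsEquiv F hφ x, fs_range_le F hφ, hfα, ?_⟩
      have h1 : (((f α : F.autGroup (conjHom P s).range) : MulAut (conjHom P s).range)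
          (fsEquiv F hφ x)) = fsEquiv F hφ ((α : MulAut P) x) := by
        show (fsEquiv F hφ) ((α : MulAut P) ((fsEquiv F hφ).symm (fsEquiv F hφ x))) = _
        rw [MulEquiv.symm_apply_apply]
      rw [h1, fsEquiv_apply, fsEquiv_apply]
      show s * ((x : Ω)⁻¹ * (((α : MulAut P) x : P) : Ω)) * s⁻¹
        = (s * (x : Ω) * s⁻¹)⁻¹ * (s * (((α : MulAut P) x : P) : Ω) * s⁻¹)
      group
    | one => simp
    | mul a b _ _ ha hb =>
      have : s * (a * b) * s⁻¹ = (s * a * s⁻¹) * (s * b * s⁻¹) := by group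
      rw [this]; exact Subgroup.mul_mem _ ha hb
    | inv a _ ha =>
      have : s * a⁻¹ * s⁻¹ = (s * a * s⁻¹)⁻¹ := by group
      rw [this]; exact Subgroup.inv_mem _ ha
  intro s hs
  rw [Subgroup.mem_normalizer_iff]
  intro y
  refine ⟨key s hs y, fun hy => ?_⟩
  have h1 := key s⁻¹ (S.inv_mem hs) _ hy
  have h2 : s⁻¹ * (s * y * s⁻¹) * s⁻¹⁻¹ = y := by group
  rwa [h2] at h1

end Cfsg.Agent.Lib.Helper9
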