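import Mathlib
import Cfsg.Prelude.Def_FusionSystem
import Cfsg.Agent.Lib.Helper9.FusionFocal
import Cfsg.Agent.Lib.Helper9.FusionAG1
import Cfsg.Agent.Lib.Helper9.FusionAut

set_option autoImplicit false

/-! A subgroup normal in `S` containing the hyperfocal subgroup is strongly closed. -/

namespace Cfsg.Agent.Lib.Helper9.H9PPI

open Cfsg Cfsg.FusionSystem Cfsg.Agent.Lib.Helper9

variable {Ω : Type*} [Group Ω] {S : Subgroup Ω}

theorem residual_quot_mem_hyperfocal (F : FusionSystem S) (p : ℕ) {R : Subgroup Ω} (hRS : R ≤ S)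
    (β : F.autGroup R) (hβ : β ∈ pResidual p (F.autGroup R)) (x : R) :
    (x : Ω)⁻¹ * (((β : MulAut R) x : R) : Ω) ∈ F.hyperfocalSubgroup p :=
  Subgroup.subset_closure ⟨R, β, x, hRS, hβ, rfl⟩

theorem stronglyClosed_of_hyperfocal_le [Finite S] (p : ℕ) [Fact p.Prime] (hS : IsPGroup p S)
    (F : FusionSystem S) (hF : F.IsSaturated p) (T : Subgroup Ω) (hTS : T ≤ S)
    (hTn : S ≤ Subgroup.normalizer (T : Set Ω)) (hT : F.hyperfocalSubgroup p ≤ T) :
    F.StronglyClosed T := by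
  have key : ∀ (k : ℕ) (P : Subgroup Ω) (φ : P →* Ω), φ ∈ F.Hom P → Nat.card S - Nat.card P = k →
      φ ∈ (closedSystem F T hTn).Hom P := by
    refine fs_le_of_autGroup_le p hS F (closedSystem F T hTn) hF ?_
    intro R hRn _
    have hRS := hRn.1
    intro α hα
    obtain ⟨β, hβ, s, hs, γ, Hγ, hαβγ⟩ := fs_aut_decomp p hS F hF hRn ⟨α, hα⟩
    rw [mem_autGroup_iff _ hRS]
    refine ⟨(mem_autGroup_iff F hRS α).mp hα, fun x => ?_⟩
    have h1 : α x = (β : MulAut R) ((γ : MulAut R) x) := by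
      have := congrArg (fun a : F.autGroup R => (a : MulAut R) x) hαβγ
      simpa using this
    show (x : Ω) ∈ T ↔ ((α x : R) : Ω) ∈ T
    rw [h1]
    have h2 : (x : Ω) ∈ T ↔ (((γ : MulAut R) x : R) : Ω) ∈ T := by
      rw [Hγ x]; exact Subgroup.mem_normalizer_iff.mp (hTn hs) x
    rw [h2]
    obtain ⟨y, hy⟩ : ∃ y : R, y = (γ : MulAut R) x := ⟨_, rfl⟩
    rw [← hy]
    have h3 := hT (residual_quot_mem_hyperfocal F p hRS β hβ y)
    constructor
    · intro hy
      have : (((β : MulAut R) y : R) : Ω) = (y : Ω) * ((y : Ω)⁻¹ * (((β : MulAut R) y : R) : Ω)) := by group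
      rw [this]; exact T.mul_mem hy h3
    · intro hy
      have : (y : Ω) = (((β : MulAut R) y : R) : Ω) * ((y : Ω)⁻¹ * (((β : MulAut R) y : R) : Ω))⁻¹ := by group
      rw [this]; exact T.mul_mem hy (T.inv_mem h3)
  refine ⟨hTS, fun R hRT φ hφ x => ?_⟩
  have := (key _ R φ hφ rfl).2 x
  exact this.mp (hRT x.2)

end Cfsg.Agent.Lib.Helper9.H9PPI
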