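import Mathlib
import Cfsg.Prelude.Def_FusionSystem
import Cfsg.Agent.Lib.Helper9.KNorm1
import Cfsg.Agent.Lib.Helper9.KNorm2
import Cfsg.Agent.Lib.Helper9.FusionAG3

set_option autoImplicit false

namespace Cfsg.Agent.Lib.Helper9

open Cfsg Cfsg.FusionSystem

variable {Ω : Type*} [Group Ω] {S : Subgroup Ω}

/-- `N_S^K(Q)`: the elements of `S` whose conjugation induces on `Q` an automorphism lying in `K`. -/
def normK (S Q : Subgroup Ω) (K : Subgroup (MulAut Q)) : Subgroup Ω where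
  carrier := {g | g ∈ S ∧ ∃ α ∈ K, ∀ x : Q, ((α x : Q) : Ω) = g * x * g⁻¹}
  one_mem' := ⟨S.one_mem, 1, K.one_mem, fun x => by simp⟩
  mul_mem' := by
    rintro g h ⟨hg, α, hα, Hα⟩ ⟨hh, β, hβ, Hβ⟩
    refine ⟨S.mul_mem hg hh, α * β, K.mul_mem hα hβ, fun x => ?_⟩
    rw [MulAut.mul_apply, Hα, Hβ]
    group
  inv_mem' := by
    rintro g ⟨hg, α, hα, Hα⟩
    refine ⟨S.inv_mem hg, α⁻¹, K.inv_mem hα, fun x => ?_⟩
    have h1 := Hα (α⁻¹ x)
    rw [MulAut.apply_inv_self] at h1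
    rw [h1]
    group

theorem mem_normK_iff (S Q : Subgroup Ω) (K : Subgroup (MulAut Q)) (g : Ω) :
    g ∈ normK S Q K ↔ g ∈ S ∧ ∃ α ∈ K, ∀ x : Q, ((α x : Q) : Ω) = g * x * g⁻¹ := Iff.rfl

theorem normK_le (S Q : Subgroup Ω) (K : Subgroup (MulAut Q)) : normK S Q K ≤ S := fun _ h => h.1

theorem normK_le_normalizer (S Q : Subgroup Ω) (K : Subgroup (MulAut Q)) :
    normK S Q K ≤ Subgroup.normalizer (Q : Set Ω) := by
  rintro g ⟨-, α, -, Hα⟩
  exact mem_normalizer_of_induces α g Hα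

theorem normK_le_normalizerIn (S Q : Subgroup Ω) (K : Subgroup (MulAut Q)) :
    normK S Q K ≤ normalizerIn S Q := fun _ h => ⟨normK_le S Q K h, normK_le_normalizer S Q K h⟩

theorem normK_mono (S Q : Subgroup Ω) {K K' : Subgroup (MulAut Q)} (h : K ≤ K') :
    normK S Q K ≤ normK S Q K' := by
  rintro g ⟨hg, α, hα, Hα⟩
  exact ⟨hg, α, h hα, Hα⟩

/-- The automorphism of `Q` induced by an element of its normalizer. -/
noncomputable def conjAut (Q : Subgroup Ω) (g : Ω) (hg : g ∈ Subgroup.normalizer (Q : Set Ω)) : MulAut Q :=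
  Q.normalizerMonoidHom ⟨g, hg⟩

theorem conjAut_apply (Q : Subgroup Ω) (g : Ω) (hg : g ∈ Subgroup.normalizer (Q : Set Ω)) (x : Q) :
    ((conjAut Q g hg x : Q) : Ω) = g * x * g⁻¹ := rfl

theorem normK_top (S Q : Subgroup Ω) : normK S Q ⊤ = normalizerIn S Q := by
  apply le_antisymm (normK_le_normalizerIn S Q ⊤)
  rintro g ⟨hgS, hgN⟩
  exact ⟨hgS, conjAut Q g hgN, Subgroup.mem_top _, fun x => rfl⟩

theorem normK_bot (S Q : Subgroup Ω) : normK S Q ⊥ = centralizerIn S Q := by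
  ext g
  constructor
  · rintro ⟨hgS, α, hα, Hα⟩
    rw [Subgroup.mem_bot] at hα
    subst hα
    refine ⟨hgS, ?_⟩
    show g ∈ Subgroup.centralizer (Q : Set Ω)
    rw [Subgroup.mem_centralizer_iff]
    intro x hx
    have := Hα ⟨x, hx⟩
    simp only [MulAut.one_apply] at this
    symm
    calc g * x = g * x * g⁻¹ * g := by group
      _ = x * g := by rw [← this]
  · rintro ⟨hgS, hgC⟩
    refine ⟨hgS, 1, Subgroup.one_mem _, fun x => ?_⟩
    have hgC' : g ∈ Subgroup.centralizer (Q : Set Ω) := hgC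
    rw [Subgroup.mem_centralizer_iff] at hgC'
    have := hgC' x x.2
    simp only [MulAut.one_apply]
    rw [← this]; group

theorem centralizerIn_le_normK (S Q : Subgroup Ω) (K : Subgroup (MulAut Q)) :
    centralizerIn S Q ≤ normK S Q K := by
  rw [← normK_bot]
  exact normK_mono S Q bot_le

/-- `Aut_S^K(Q) = Aut_S(Q) ∩ K` consists of the automorphisms induced by `N_S^K(Q)`. -/
theorem mem_autInducedBy_inf_iff (S Q : Subgroup Ω) (K : Subgroup (MulAut Q)) (α : MulAut Q) :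
    α ∈ autInducedBy S Q ⊓ K ↔ ∃ g ∈ normK S Q K, ∀ x : Q, ((α x : Q) : Ω) = g * x * g⁻¹ := by
  rw [Subgroup.mem_inf, mem_autInducedBy_iff]
  constructor
  · rintro ⟨⟨g, hg, Hg⟩, hα⟩
    exact ⟨g, ⟨hg, α, hα, Hg⟩, Hg⟩
  · rintro ⟨g, ⟨hg, β, hβ, Hβ⟩, Hg⟩
    refine ⟨⟨g, hg, Hg⟩, ?_⟩
    have : α = β := by
      ext x
      rw [Hg, Hβ]
    rwa [this]

/-- The maps of the `K`-normalizer system `N_F^K(Q)` with source `P`. -/
def normKHom (F : FusionSystem S) (Q : Subgroup Ω) (K : Subgroup (MulAut Q)) (P : Subgroup Ω) : Set (P →* Ω) :=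
  {φ | φ ∈ F.Hom P ∧ P ≤ normK S Q K ∧ (∀ x : P, φ x ∈ normK S Q K) ∧
    ∃ ψ ∈ F.Hom (P ⊔ Q), (∀ x : P, ψ (Subgroup.inclusion le_sup_left x) = φ x) ∧
      ∃ κ ∈ K, ∀ x : Q, ψ (Subgroup.inclusion le_sup_right x) = ((κ x : Q) : Ω)}

/-- `(Q, K)` is a good pair: `Q` is receptive and `Aut_S^K(Q)` is a Sylow `p`-subgroup of `Aut_F^K(Q)`. -/
def IsGoodK (F : FusionSystem S) (p : ℕ) (Q : Subgroup Ω) (K : Subgroup (MulAut Q)) : Prop :=
  F.IsReceptive Q ∧ IsSylIn p (autInducedBy S Q ⊓ K) (F.autGroup Q ⊓ K)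

end Cfsg.Agent.Lib.Helper9
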