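import Mathlib
import Cfsg.Prelude.Def_FusionSystem
import Cfsg.Agent.Lib.Helper9.KNorm3
import Cfsg.Agent.Lib.Helper9.FusionReceptive

set_option autoImplicit false

namespace Cfsg.Agent.Lib.Helper9

open Cfsg Cfsg.FusionSystem

variable {Ω : Type*} [Group Ω] {S : Subgroup Ω}

theorem IsFIso.range_eq {F : FusionSystem S} {P Q : Subgroup Ω} {e : P ≃* Q} (_he : IsFIso F e) :
    (Q.subtype.comp e.toMonoidHom).range = Q := by
  ext y
  constructor
  · rintro ⟨x, rfl⟩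
    exact (e x).2
  · intro hy
    exact ⟨e.symm ⟨y, hy⟩, by simp⟩

/-- Lemma B: if the target `(Q', ᵉK)` of an isomorphism `e : Q → Q'` of the system is a good pair, then after
composing with some `χ ∈ Aut_F^K(Q)` the map `e` extends to a subgroup containing `N_S^K(Q)`. -/
theorem exists_adjust_extend [Finite S] (p : ℕ) [Fact p.Prime] (hS : IsPGroup p S) (F : FusionSystem S)
    {Q Q' : Subgroup Ω} (K : Subgroup (MulAut Q)) (e : Q ≃* Q') (he : IsFIso F e)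
    (hgood : IsGoodK F p Q' (trAut e K)) :
    ∃ χ ∈ F.autGroup Q ⊓ K, ∃ (N : Subgroup Ω) (ψ : N →* Ω) (hQN : Q ≤ N), ψ ∈ F.Hom N ∧
      normK S Q K ≤ N ∧ ∀ x : Q, ψ ⟨x, hQN x.2⟩ = ((e (χ x) : Q') : Ω) := by
  have hQS : Q ≤ S := he.le_left
  have hQ'S : Q' ≤ S := he.le_right
  haveI : Finite Q' := fs_finite_of_le hQ'S
  haveI : Finite (MulAut Q') := inferInstance
  obtain ⟨hrec, hsyl⟩ := hgood
  have hAp : IsPGroup p (trAut e (autInducedBy S Q ⊓ K)) :=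
    ((isPGroup_autInducedBy p hS Q).to_le inf_le_left).map _
  have hAle : trAut e (autInducedBy S Q ⊓ K) ≤ F.autGroup Q' ⊓ trAut e K := by
    rw [trAut_inf, ← he.trAut_autGroup]
    exact inf_le_inf_right _ (trAut_mono e (autInducedBy_le_autGroup F hQS))
  obtain ⟨χ', hχ'mem, hχ'⟩ := hsyl.exists_conj_le hAp hAle
  have hχF : MulAut.congr e.symm χ' ∈ F.autGroup Q := he.symm.congr_mem_autGroup hχ'mem.1
  have hχK : MulAut.congr e.symm χ' ∈ K := (mem_trAut_iff e K χ').mp hχ'mem.2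
  refine ⟨MulAut.congr e.symm χ', ⟨hχF, hχK⟩, ?_⟩
  set χ : MulAut Q := MulAut.congr e.symm χ' with hχdef
  have hχe : ∀ z : Q, e (χ z) = χ' (e z) := by
    intro z
    simp [hχdef, MulAut.congr]
  have hρiso : IsFIso F ((χ : Q ≃* Q).trans e) := (isFIso_of_mem_autGroup F hQS hχF).trans he
  have hρ : Q'.subtype.comp ((χ : Q ≃* Q).trans e).toMonoidHom ∈ F.Hom Q := hρiso
  have hρr := hρiso.range_eq
  set ρ : Q →* Ω := Q'.subtype.comp ((χ : Q ≃* Q).trans e).toMonoidHom with hρdef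
  have hρapp : ∀ x : Q, ρ x = ((e (χ x) : Q') : Ω) := fun x => rfl
  obtain ⟨ψ, hψ, hψρ⟩ := hrec.2 Q ρ hρ hρr
  have hQN : Q ≤ extender S Q ρ := fs_le_extender Q ρ hQS (fun x => (F.le_of_mem hρ).2 x)
  refine ⟨extender S Q ρ, ψ, hQN, hψ, ?_, fun x => ?_⟩
  · rintro g ⟨hgS, α, hαK, Hα⟩
    rw [mem_extender_iff]
    refine ⟨hgS, mem_normalizer_of_induces α g Hα, ?_⟩
    have hαS : α ∈ autInducedBy S Q ⊓ K :=
      ⟨(mem_autInducedBy_iff S Q α).mpr ⟨g, hgS, Hα⟩, hαK⟩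
    have h1 := hχ' _ (congr_mem_trAut e hαS)
    obtain ⟨h, hhS, Hh⟩ := (mem_autInducedBy_iff S Q' _).mp h1.1
    refine ⟨h, hhS, fun x hx => ?_⟩
    have hx' : (⟨g * x * g⁻¹, hx⟩ : Q) = α x := Subtype.ext (Hα x).symm
    rw [hx', hρapp, hρapp, hχe, hχe, ← Hh]
    congr 1
    simp [MulAut.congr]
  · rw [hψρ x x.2 (hQN x.2)]
    rfl

end Cfsg.Agent.Lib.Helper9
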