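import Mathlib
import Cfsg.Prelude.Def_FusionSystem
import Cfsg.Agent.Lib.Helper9.KNorm3

set_option autoImplicit false

namespace Cfsg.Agent.Lib.Helper9

open Cfsg Cfsg.FusionSystem

variable {Ω : Type*} [Group Ω]

/-- `K_P`: the automorphisms of `N ⊇ Q` which preserve `P` and restrict on `Q` to a member of `K`. -/
def stabK (Q : Subgroup Ω) (K : Subgroup (MulAut Q)) (P N : Subgroup Ω) (hQN : Q ≤ N) :
    Subgroup (MulAut N) where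
  carrier := {α | (∀ x : N, ((α x : N) : Ω) ∈ P ↔ (x : Ω) ∈ P) ∧
    ∃ κ ∈ K, ∀ x : Q, ((α ⟨x, hQN x.2⟩ : N) : Ω) = ((κ x : Q) : Ω)}
  one_mem' := ⟨fun x => Iff.rfl, 1, K.one_mem, fun x => rfl⟩
  mul_mem' := by
    rintro α β ⟨hα, κα, hκα, Hα⟩ ⟨hβ, κβ, hκβ, Hβ⟩
    refine ⟨fun x => ?_, κα * κβ, K.mul_mem hκα hκβ, fun x => ?_⟩
    · rw [MulAut.mul_apply]
      exact (hα (β x)).trans (hβ x)
    · rw [MulAut.mul_apply, MulAut.mul_apply]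
      have : β ⟨x, hQN x.2⟩ = ⟨κβ x, hQN (κβ x).2⟩ := Subtype.ext (Hβ x)
      rw [this, Hα]
  inv_mem' := by
    rintro α ⟨hα, κ, hκ, Hα⟩
    refine ⟨fun x => ?_, κ⁻¹, K.inv_mem hκ, fun x => ?_⟩
    · have := hα (α⁻¹ x)
      rw [MulAut.apply_inv_self] at this
      exact this.symm
    · have h1 : α ⟨κ⁻¹ x, hQN (κ⁻¹ x).2⟩ = ⟨x, hQN x.2⟩ := by
        apply Subtype.ext
        rw [Hα, MulAut.apply_inv_self]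
      have h2 : α⁻¹ ⟨x, hQN x.2⟩ = ⟨κ⁻¹ x, hQN (κ⁻¹ x).2⟩ := by
        rw [← h1, MulAut.inv_apply_self]
      rw [h2]

theorem mem_stabK_iff (Q : Subgroup Ω) (K : Subgroup (MulAut Q)) (P N : Subgroup Ω) (hQN : Q ≤ N)
    (α : MulAut N) : α ∈ stabK Q K P N hQN ↔ (∀ x : N, ((α x : N) : Ω) ∈ P ↔ (x : Ω) ∈ P) ∧
    ∃ κ ∈ K, ∀ x : Q, ((α ⟨x, hQN x.2⟩ : N) : Ω) = ((κ x : Q) : Ω) := Iff.rfl

/-- `L`: the members of `K_P` whose restriction to `P` is induced by an element of `T`. -/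
def stabL (Q : Subgroup Ω) (K : Subgroup (MulAut Q)) (P N : Subgroup Ω) (hQN : Q ≤ N) (T : Subgroup Ω)
    (hPN : P ≤ N) : Subgroup (MulAut N) where
  carrier := {α | α ∈ stabK Q K P N hQN ∧
    ∃ s ∈ T, ∀ x : P, ((α ⟨x, hPN x.2⟩ : N) : Ω) = s * x * s⁻¹}
  one_mem' := ⟨Subgroup.one_mem _, 1, T.one_mem, fun x => by simp⟩
  mul_mem' := by
    rintro α β ⟨hα, s, hs, Hα⟩ ⟨hβ, t, ht, Hβ⟩
    refine ⟨Subgroup.mul_mem _ hα hβ, s * t, T.mul_mem hs ht, fun x => ?_⟩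
    rw [MulAut.mul_apply]
    have hP : t * x * t⁻¹ ∈ P := by
      rw [← Hβ x]
      exact (hβ.1 _).mpr x.2
    have : β ⟨x, hPN x.2⟩ = ⟨(⟨t * x * t⁻¹, hP⟩ : P), hPN hP⟩ := Subtype.ext (Hβ x)
    rw [this, Hα]
    simp only [mul_inv_rev]
    group
  inv_mem' := by
    rintro α ⟨hα, s, hs, Hα⟩
    refine ⟨Subgroup.inv_mem _ hα, s⁻¹, T.inv_mem hs, fun x => ?_⟩
    have hα' := Subgroup.inv_mem _ hα
    have hP : ((α⁻¹ ⟨x, hPN x.2⟩ : N) : Ω) ∈ P := (hα'.1 _).mpr x.2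
    have h1 := Hα ⟨_, hP⟩
    have h2 : (⟨((⟨_, hP⟩ : P) : Ω), hPN hP⟩ : N) = α⁻¹ ⟨x, hPN x.2⟩ := rfl
    rw [h2, MulAut.apply_inv_self] at h1
    simp only at h1
    rw [inv_inv]
    have h3 : ((α⁻¹ ⟨x, hPN x.2⟩ : N) : Ω) = s⁻¹ * (s * ((α⁻¹ ⟨x, hPN x.2⟩ : N) : Ω) * s⁻¹) * s := by group
    rw [h3, ← h1]

theorem mem_stabL_iff (Q : Subgroup Ω) (K : Subgroup (MulAut Q)) (P N : Subgroup Ω) (hQN : Q ≤ N)
    (T : Subgroup Ω) (hPN : P ≤ N) (α : MulAut N) :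
    α ∈ stabL Q K P N hQN T hPN ↔ α ∈ stabK Q K P N hQN ∧
      ∃ s ∈ T, ∀ x : P, ((α ⟨x, hPN x.2⟩ : N) : Ω) = s * x * s⁻¹ := Iff.rfl

theorem stabL_le (Q : Subgroup Ω) (K : Subgroup (MulAut Q)) (P N : Subgroup Ω) (hQN : Q ≤ N)
    (T : Subgroup Ω) (hPN : P ≤ N) : stabL Q K P N hQN T hPN ≤ stabK Q K P N hQN := fun _ h => h.1

/-- Restriction of an automorphism of `N` preserving `P` to `P`. -/
def restrictAut {N P : Subgroup Ω} (hPN : P ≤ N) (α : MulAut N)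
    (h : ∀ x : N, ((α x : N) : Ω) ∈ P ↔ (x : Ω) ∈ P) : MulAut P where
  toFun x := ⟨α ⟨x, hPN x.2⟩, (h _).mpr x.2⟩
  invFun x := ⟨α⁻¹ ⟨x, hPN x.2⟩, by
    have := h (α⁻¹ ⟨x, hPN x.2⟩)
    rw [MulAut.apply_inv_self] at this
    exact this.mp x.2⟩
  left_inv x := by
    apply Subtype.ext
    show ((α⁻¹ ⟨((α ⟨x, hPN x.2⟩ : N) : Ω), _⟩ : N) : Ω) = x
    have : (⟨((α ⟨x, hPN x.2⟩ : N) : Ω), (α ⟨x, hPN x.2⟩).2⟩ : N) = α ⟨x, hPN x.2⟩ := rfl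
    rw [this, MulAut.inv_apply_self]
  right_inv x := by
    apply Subtype.ext
    show ((α ⟨((α⁻¹ ⟨x, hPN x.2⟩ : N) : Ω), _⟩ : N) : Ω) = x
    have : (⟨((α⁻¹ ⟨x, hPN x.2⟩ : N) : Ω), (α⁻¹ ⟨x, hPN x.2⟩).2⟩ : N) = α⁻¹ ⟨x, hPN x.2⟩ := rfl
    rw [this, MulAut.apply_inv_self]
  map_mul' x y := by
    apply Subtype.ext
    show ((α ⟨((x * y : P) : Ω), _⟩ : N) : Ω) = (α ⟨x, hPN x.2⟩ : N) * (α ⟨y, hPN y.2⟩ : N)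
    rw [← Subgroup.coe_mul, ← map_mul]
    rfl

theorem restrictAut_apply {N P : Subgroup Ω} (hPN : P ≤ N) (α : MulAut N)
    (h : ∀ x : N, ((α x : N) : Ω) ∈ P ↔ (x : Ω) ∈ P) (x : P) :
    ((restrictAut hPN α h x : P) : Ω) = ((α ⟨x, hPN x.2⟩ : N) : Ω) := rfl

/-- Transport of `K_P` along an isomorphism carrying `P` to `P'` and acting on `Q` as a member of `K`. -/
theorem trAut_stabK_le {Q : Subgroup Ω} {K : Subgroup (MulAut Q)} {P P' N N' : Subgroup Ω} (hQN : Q ≤ N)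
    (hQN' : Q ≤ N') (θ : N ≃* N') (hθP : ∀ x : N, ((θ x : N') : Ω) ∈ P' ↔ (x : Ω) ∈ P)
    (κ₀ : MulAut Q) (hκ₀ : κ₀ ∈ K) (hθQ : ∀ x : Q, ((θ ⟨x, hQN x.2⟩ : N') : Ω) = ((κ₀ x : Q) : Ω)) :
    trAut θ (stabK Q K P N hQN) ≤ stabK Q K P' N' hQN' := by
  rintro _ ⟨α, ⟨hα, κ, hκ, Hα⟩, rfl⟩
  refine ⟨fun y => ?_, κ₀ * κ * κ₀⁻¹, K.mul_mem (K.mul_mem hκ₀ hκ) (K.inv_mem hκ₀), fun x => ?_⟩
  · show ((θ (α (θ.symm y)) : N') : Ω) ∈ P' ↔ (y : Ω) ∈ P'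
    rw [hθP, hα, ← hθP, MulEquiv.apply_symm_apply]
  · show ((θ (α (θ.symm ⟨x, hQN' x.2⟩)) : N') : Ω) = _
    have h1 : θ.symm ⟨x, hQN' x.2⟩ = ⟨κ₀⁻¹ x, hQN (κ₀⁻¹ x).2⟩ := by
      rw [MulEquiv.symm_apply_eq]
      apply Subtype.ext
      rw [hθQ, MulAut.apply_inv_self]
    have h2 : α ⟨κ₀⁻¹ x, hQN (κ₀⁻¹ x).2⟩ = ⟨κ (κ₀⁻¹ x), hQN (κ (κ₀⁻¹ x)).2⟩ := Subtype.ext (Hα _)
    rw [h1, h2, hθQ]
    rfl

theorem trAut_stabK_eq {Q : Subgroup Ω} {K : Subgroup (MulAut Q)} {P P' N N' : Subgroup Ω} (hQN : Q ≤ N)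
    (hQN' : Q ≤ N') (θ : N ≃* N') (hθP : ∀ x : N, ((θ x : N') : Ω) ∈ P' ↔ (x : Ω) ∈ P)
    (κ₀ : MulAut Q) (hκ₀ : κ₀ ∈ K) (hθQ : ∀ x : Q, ((θ ⟨x, hQN x.2⟩ : N') : Ω) = ((κ₀ x : Q) : Ω)) :
    trAut θ (stabK Q K P N hQN) = stabK Q K P' N' hQN' := by
  apply le_antisymm (trAut_stabK_le hQN hQN' θ hθP κ₀ hκ₀ hθQ)
  have hsymm : trAut θ.symm (stabK Q K P' N' hQN') ≤ stabK Q K P N hQN := by
    apply trAut_stabK_le hQN' hQN θ.symm _ κ₀⁻¹ (K.inv_mem hκ₀)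
    · intro x
      have h1 : θ.symm ⟨x, hQN' x.2⟩ = ⟨κ₀⁻¹ x, hQN (κ₀⁻¹ x).2⟩ := by
        rw [MulEquiv.symm_apply_eq]
        apply Subtype.ext
        rw [hθQ, MulAut.apply_inv_self]
      rw [h1]
    · intro y
      rw [← hθP, MulEquiv.apply_symm_apply]
  have := trAut_mono θ hsymm
  rwa [trAut_self_symm] at this

end Cfsg.Agent.Lib.Helper9
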