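import Mathlib
import Cfsg.Prelude.Def_FusionSystem
import Cfsg.Agent.Lib.Helper9.KNorm6
import Cfsg.Agent.Lib.Helper9.FusionSup
import Cfsg.Agent.Lib.Helper9.FusionAut2
import Cfsg.Agent.Lib.Helper9.FusionReceptive

set_option autoImplicit false

namespace Cfsg.Agent.Lib.Helper9

open Cfsg Cfsg.FusionSystem

variable {Ω : Type*} [Group Ω] {S : Subgroup Ω}

/-- The restriction homomorphism from `Aut_F^{K_P}(N)` to `Aut(P)`. -/
def restrictHom (F : FusionSystem S) {Q : Subgroup Ω} (K : Subgroup (MulAut Q)) (P N : Subgroup Ω)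
    (hQN : Q ≤ N) (hPN : P ≤ N) : ↥(F.autGroup N ⊓ stabK Q K P N hQN) →* MulAut P where
  toFun α := restrictAut hPN α.1 α.2.2.1
  map_one' := by
    ext x
    rfl
  map_mul' α β := by
    ext x
    rfl

theorem restrictHom_apply (F : FusionSystem S) {Q : Subgroup Ω} (K : Subgroup (MulAut Q)) (P N : Subgroup Ω)
    (hQN : Q ≤ N) (hPN : P ≤ N) (α : ↥(F.autGroup N ⊓ stabK Q K P N hQN)) (x : P) :
    ((restrictHom F K P N hQN hPN α x : P) : Ω) = (((α : MulAut N) ⟨x, hPN x.2⟩ : N) : Ω) := rfl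

/-- Step 2: if `(PQ, K_P)` is a good pair then `P` is fully automized in `N_F^K(Q)`. -/
theorem normK_fullyAutomized [Finite S] (p : ℕ) [Fact p.Prime] (hS : IsPGroup p S) (F : FusionSystem S)
    {Q : Subgroup Ω} (K : Subgroup (MulAut Q)) (E : FusionSystem (normK S Q K))
    (hE : ∀ P : Subgroup Ω, E.Hom P = normKHom F Q K P) {P : Subgroup Ω} (hP : P ≤ normK S Q K)
    (hgood : IsGoodK F p (P ⊔ Q) (stabK Q K P (P ⊔ Q) le_sup_right)) : E.IsFullyAutomized p P := by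
  obtain ⟨hrec, hsyl⟩ := hgood
  have hNS : P ⊔ Q ≤ S := hrec.1
  haveI : Finite (P ⊔ Q : Subgroup Ω) := fs_finite_of_le hNS
  have hp : IsPGroup p (autInducedBy (normK S Q K) P) :=
    isPGroup_autInducedBy p (hS.to_le (normK_le S Q K)) P
  have hle : autInducedBy (normK S Q K) P ≤ E.autGroup P := autInducedBy_le_autGroup E hP
  set r := restrictHom F K P (P ⊔ Q) le_sup_right le_sup_left with hr
  have h1 := hsyl.subgroupOf.map r
  have hA₁ : ((autInducedBy S (P ⊔ Q) ⊓ stabK Q K P (P ⊔ Q) le_sup_right).subgroupOf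
      (F.autGroup (P ⊔ Q) ⊓ stabK Q K P (P ⊔ Q) le_sup_right)).map r ≤ autInducedBy (normK S Q K) P := by
    rintro _ ⟨α, hα, rfl⟩
    rw [SetLike.mem_coe, Subgroup.mem_subgroupOf] at hα
    obtain ⟨g, hgS, Hg⟩ := (mem_autInducedBy_iff S (P ⊔ Q) _).mp hα.1
    obtain ⟨-, κ, hκ, Hκ⟩ := hα.2
    rw [mem_autInducedBy_iff]
    refine ⟨g, ⟨hgS, κ, hκ, fun q => ?_⟩, fun x => ?_⟩
    · rw [← Hκ q, Hg]
    · rw [restrictHom_apply, Hg]
  have hsurj : E.autGroup P ≤ (⊤ : Subgroup ↥(F.autGroup (P ⊔ Q) ⊓ stabK Q K P (P ⊔ Q) le_sup_right)).map r := by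
    intro β hβ
    have h2 := (mem_autGroup_iff E hP β).mp hβ
    rw [hE] at h2
    obtain ⟨-, -, -, ψ, hψ, hψP, κ, hκ, hψQ⟩ := h2
    have hval : ∀ y : (P ⊔ Q : Subgroup Ω), ψ y ∈ P ⊔ Q := by
      apply sup_forall_mem
      · intro x
        rw [hψP]
        exact le_sup_left (a := P) (b := Q) (β x).2
      · intro x
        rw [hψQ]
        exact le_sup_right (a := P) (b := Q) (κ x).2
    obtain ⟨α, hαF, Hα⟩ := fs_hom_to_aut F hψ hval
    have hαP : ∀ x : P, ((α ⟨x, le_sup_left (a := P) (b := Q) x.2⟩ : (P ⊔ Q : Subgroup Ω)) : Ω) = β x := by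
      intro x
      rw [Hα]
      exact hψP x
    have hαK : α ∈ stabK Q K P (P ⊔ Q) le_sup_right := by
      refine ⟨fun x => ⟨fun hx => ?_, fun hx => ?_⟩, κ, hκ, fun q => ?_⟩
      · have h3 := hαP (β⁻¹ ⟨_, hx⟩)
        rw [MulAut.apply_inv_self] at h3
        have h4 : α ⟨(β⁻¹ ⟨_, hx⟩ : P), le_sup_left (a := P) (b := Q) (β⁻¹ ⟨_, hx⟩ : P).2⟩ = α x :=
          Subtype.ext h3
        have h5 := α.injective h4
        rw [← h5]
        exact (β⁻¹ ⟨_, hx⟩ : P).2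
      · have := hαP ⟨x, hx⟩
        have h3 : (⟨((⟨x, hx⟩ : P) : Ω), le_sup_left (a := P) (b := Q) hx⟩ : (P ⊔ Q : Subgroup Ω)) = x := rfl
        rw [h3] at this
        rw [this]
        exact (β ⟨x, hx⟩).2
      · rw [Hα]
        exact hψQ q
    refine ⟨⟨α, hαF, hαK⟩, Subgroup.mem_top _, ?_⟩
    ext x
    rw [hr, restrictHom_apply]
    exact hαP x
  have h3 := (h1.of_ge hA₁ (hle.trans hsurj) hp).of_le hle hsurj
  exact ⟨hP, h3.exists_sylow⟩

end Cfsg.Agent.Lib.Helper9
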