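import Mathlib
import Cfsg.Prelude.Def_FusionSystem
import Cfsg.Agent.Lib.Helper9.KNorm7
import Cfsg.Agent.Lib.Helper9.KNorm4

set_option autoImplicit false

namespace Cfsg.Agent.Lib.Helper9

open Cfsg Cfsg.FusionSystem

variable {Ω : Type*} [Group Ω] {S : Subgroup Ω}

/-- The image of an extension `φ̂ : RQ → S` of `φ : R → P` (onto) acting on `Q` as `κ` is `PQ`. -/
theorem range_sup_eq {R Q P : Subgroup Ω} (φ : R →* Ω) (hφr : φ.range = P) (ψ : ↥(R ⊔ Q) →* Ω)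
    (hψR : ∀ x : R, ψ (Subgroup.inclusion le_sup_left x) = φ x) (κ : MulAut Q)
    (hψQ : ∀ x : Q, ψ (Subgroup.inclusion le_sup_right x) = ((κ x : Q) : Ω)) : ψ.range = P ⊔ Q := by
  rw [sup_range_eq ψ, sup_map_left_eq_range ψ φ hψR, hφr]
  congr 1
  ext y
  constructor
  · rintro ⟨x, hx, rfl⟩
    have hxQ : (x : Ω) ∈ Q := hx
    have : x = Subgroup.inclusion le_sup_right (⟨x, hxQ⟩ : Q) := rfl
    rw [this, hψQ]
    exact (κ _).2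
  · intro hy
    refine ⟨Subgroup.inclusion le_sup_right (κ⁻¹ ⟨y, hy⟩), ?_, ?_⟩
    · show ((Subgroup.inclusion le_sup_right (κ⁻¹ ⟨y, hy⟩) : ↥(R ⊔ Q)) : Ω) ∈ Q
      exact (κ⁻¹ ⟨y, hy⟩ : Q).2
    · rw [hψQ, MulAut.apply_inv_self]

/-- If `(PQ, K_P)` is a good pair then so is `(PQ, L)`. -/
theorem isGoodK_stabL [Finite S] (p : ℕ) (F : FusionSystem S) {Q : Subgroup Ω} (K : Subgroup (MulAut Q))
    {P : Subgroup Ω} (hgood : IsGoodK F p (P ⊔ Q) (stabK Q K P (P ⊔ Q) le_sup_right)) :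
    IsGoodK F p (P ⊔ Q) (stabL Q K P (P ⊔ Q) le_sup_right (normK S Q K) le_sup_left) := by
  obtain ⟨hrec, hsyl⟩ := hgood
  refine ⟨hrec, ?_⟩
  have hAL : autInducedBy S (P ⊔ Q) ⊓ stabL Q K P (P ⊔ Q) le_sup_right (normK S Q K) le_sup_left =
      autInducedBy S (P ⊔ Q) ⊓ stabK Q K P (P ⊔ Q) le_sup_right := by
    apply le_antisymm (inf_le_inf_left _ (stabL_le _ _ _ _ _ _ _))
    rintro α ⟨hα1, hα2⟩
    refine ⟨hα1, hα2, ?_⟩
    obtain ⟨g, hgS, Hg⟩ := (mem_autInducedBy_iff S (P ⊔ Q) α).mp hα1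
    obtain ⟨-, κ', hκ', Hκ'⟩ := hα2
    refine ⟨g, ⟨hgS, κ', hκ', fun q => ?_⟩, fun x => Hg _⟩
    rw [← Hκ' q, Hg]
  rw [hAL]
  refine hsyl.of_le ?_ (inf_le_inf_left _ (stabL_le _ _ _ _ _ _ _))
  rw [← hAL]
  exact inf_le_inf_right _ (autInducedBy_le_autGroup F hrec.1)

end Cfsg.Agent.Lib.Helper9
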