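import Mathlib
import Cfsg.Prelude.Def_FusionSystem
import Cfsg.Agent.Lib.Helper9.KNorm8

set_option autoImplicit false
set_option maxHeartbeats 1000000

namespace Cfsg.Agent.Lib.Helper9

open Cfsg Cfsg.FusionSystem

variable {Ω : Type*} [Group Ω] {S : Subgroup Ω}

/-- The extender of `φ` in `N_F^K(Q)` lies in `N_S^{K_R}(RQ)` where `K_R` is the transport of `L`. -/
theorem extender_le_normK {Q : Subgroup Ω} (K : Subgroup (MulAut Q)) {R P : Subgroup Ω}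
    (φ : R →* Ω) (hφr : φ.range = P) (e : ↥(R ⊔ Q) ≃* ↥(P ⊔ Q))
    (heR : ∀ x : R, ((e (Subgroup.inclusion le_sup_left x) : ↥(P ⊔ Q)) : Ω) = φ x) (κ : MulAut Q) (hκ : κ ∈ K)
    (heQ : ∀ x : Q, ((e (Subgroup.inclusion le_sup_right x) : ↥(P ⊔ Q)) : Ω) = ((κ x : Q) : Ω)) :
    extender (normK S Q K) R φ ≤ normK S (R ⊔ Q)
      (trAut e.symm (stabL Q K P (P ⊔ Q) le_sup_right (normK S Q K) le_sup_left)) := by
  intro g hg
  obtain ⟨hgp, hgNR, h, hhp, Hh⟩ := (mem_extender_iff (normK S Q K) R φ g).mp hg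
  obtain ⟨hgS, κg, hκg, Hκg⟩ := hgp
  have hgNQ : g ∈ Subgroup.normalizer (Q : Set Ω) := mem_normalizer_of_induces κg g Hκg
  have hgN : g ∈ Subgroup.normalizer ((R ⊔ Q : Subgroup Ω) : Set Ω) :=
    Subgroup.normalizer_inf_normalizer_le_normalizer_sup R Q ⟨hgNR, hgNQ⟩
  refine ⟨hgS, conjAut (R ⊔ Q) g hgN, ?_, fun x => rfl⟩
  rw [mem_trAut_iff, MulEquiv.symm_symm]
  -- facts about `e`
  have f1 : ∀ x : ↥(R ⊔ Q), ((e x : ↥(P ⊔ Q)) : Ω) ∈ P ↔ (x : Ω) ∈ R := by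
    intro x
    constructor
    · intro hx
      have hx' : ((e x : ↥(P ⊔ Q)) : Ω) ∈ φ.range := by rw [hφr]; exact hx
      obtain ⟨r, hr⟩ := hx'
      have : e (Subgroup.inclusion le_sup_left r) = e x := Subtype.ext ((heR r).trans hr)
      rw [← e.injective this]
      exact r.2
    · intro hx
      have : x = Subgroup.inclusion le_sup_left (⟨x, hx⟩ : R) := rfl
      rw [this, heR, ← hφr]
      exact ⟨_, rfl⟩
  have f2 : ∀ q : Q, e ⟨q, le_sup_right (a := R) (b := Q) q.2⟩ =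
      ⟨κ q, le_sup_right (a := P) (b := Q) (κ q).2⟩ := fun q => Subtype.ext (heQ q)
  have f3 : ∀ x : ↥(R ⊔ Q), ((conjAut (R ⊔ Q) g hgN x : ↥(R ⊔ Q)) : Ω) ∈ R ↔ (x : Ω) ∈ R := by
    intro x
    rw [conjAut_apply]
    exact ((Subgroup.mem_normalizer_iff.mp hgNR) x).symm
  refine ⟨⟨fun y => ?_, κ * κg * κ⁻¹, K.mul_mem (K.mul_mem hκ hκg) (K.inv_mem hκ), fun q => ?_⟩,
    h, hhp, fun y => ?_⟩
  · show ((e (conjAut (R ⊔ Q) g hgN (e.symm y)) : ↥(P ⊔ Q)) : Ω) ∈ P ↔ (y : Ω) ∈ P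
    rw [f1, f3, ← f1, MulEquiv.apply_symm_apply]
  · show ((e (conjAut (R ⊔ Q) g hgN (e.symm ⟨q, _⟩)) : ↥(P ⊔ Q)) : Ω) = _
    have h1 : e.symm ⟨q, le_sup_right (a := P) (b := Q) q.2⟩ =
        ⟨κ⁻¹ q, le_sup_right (a := R) (b := Q) (κ⁻¹ q).2⟩ := by
      rw [MulEquiv.symm_apply_eq, f2]
      apply Subtype.ext
      simp
    have h2 : conjAut (R ⊔ Q) g hgN ⟨κ⁻¹ q, le_sup_right (a := R) (b := Q) (κ⁻¹ q).2⟩ =
        ⟨κg (κ⁻¹ q), le_sup_right (a := R) (b := Q) (κg (κ⁻¹ q)).2⟩ := by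
      apply Subtype.ext
      rw [conjAut_apply, Hκg]
    rw [h1, h2, f2]
    rfl
  · show ((e (conjAut (R ⊔ Q) g hgN (e.symm ⟨y, _⟩)) : ↥(P ⊔ Q)) : Ω) = _
    have hy : (y : Ω) ∈ φ.range := by rw [hφr]; exact y.2
    obtain ⟨r, hr⟩ := hy
    have h1 : e.symm ⟨y, le_sup_left (a := P) (b := Q) y.2⟩ = Subgroup.inclusion le_sup_left r := by
      rw [MulEquiv.symm_apply_eq]
      apply Subtype.ext
      rw [heR, hr]
    have hx : g * (r : Ω) * g⁻¹ ∈ R := (Subgroup.mem_normalizer_iff.mp hgNR r).mp r.2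
    have h2 : conjAut (R ⊔ Q) g hgN (Subgroup.inclusion le_sup_left r) =
        Subgroup.inclusion le_sup_left (⟨g * r * g⁻¹, hx⟩ : R) := by
      apply Subtype.ext
      rw [conjAut_apply]
      rfl
    rw [h1, h2, heR, Hh r hx, hr]

end Cfsg.Agent.Lib.Helper9
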