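import Mathlib
import Cfsg.Prelude.Def_FusionSystem
import Cfsg.Agent.Lib.Helper9.KNorm9

set_option autoImplicit false
set_option maxHeartbeats 1000000

namespace Cfsg.Agent.Lib.Helper9

open Cfsg Cfsg.FusionSystem

variable {Ω : Type*} [Group Ω] {S : Subgroup Ω}

theorem inv_aut_apply_of_conj {Q : Subgroup Ω} (κs : MulAut Q) (s : Ω)
    (H : ∀ x : Q, ((κs x : Q) : Ω) = s * x * s⁻¹) (y : Q) : ((κs⁻¹ y : Q) : Ω) = s⁻¹ * y * s := by
  have h1 := H (κs⁻¹ y)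
  rw [MulAut.apply_inv_self] at h1
  rw [h1]; group

/-- Step 3: if `(PQ, K_P)` is a good pair then `P` is receptive in `N_F^K(Q)`. -/
theorem normK_receptive [Finite S] (p : ℕ) [Fact p.Prime] (hS : IsPGroup p S) (F : FusionSystem S)
    {Q : Subgroup Ω} (K : Subgroup (MulAut Q)) (E : FusionSystem (normK S Q K))
    (hE : ∀ P : Subgroup Ω, E.Hom P = normKHom F Q K P) {P : Subgroup Ω} (hP : P ≤ normK S Q K)
    (hgood : IsGoodK F p (P ⊔ Q) (stabK Q K P (P ⊔ Q) le_sup_right)) : E.IsReceptive P := by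
  refine ⟨hP, fun R φ hφ hφr => ?_⟩
  rw [hE] at hφ
  obtain ⟨hφF, hRSp, hφSp, φh, hφh, hφhR, κ, hκ, hφhQ⟩ := hφ
  have hrange : φh.range = P ⊔ Q := range_sup_eq φ hφr φh hφhR κ hφhQ
  obtain ⟨e, he, He⟩ := exists_isFIso_of_mem F hφh hrange
  have heR : ∀ x : R, ((e (Subgroup.inclusion le_sup_left x) : ↥(P ⊔ Q)) : Ω) = φ x := fun x => by
    rw [He, hφhR]
  have heQ : ∀ x : Q, ((e (Subgroup.inclusion le_sup_right x) : ↥(P ⊔ Q)) : Ω) = ((κ x : Q) : Ω) := fun x => by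
    rw [He, hφhQ]
  have hgoodL := isGoodK_stabL p F K hgood
  rw [← trAut_self_symm e (stabL Q K P (P ⊔ Q) le_sup_right (normK S Q K) le_sup_left)] at hgoodL
  obtain ⟨χ, hχ, Nψ, ψ, hRQN, hψ, hnormle, Hψ⟩ := exists_adjust_extend p hS F _ e he hgoodL
  have hχ'L : MulAut.congr e χ ∈ stabL Q K P (P ⊔ Q) le_sup_right (normK S Q K) le_sup_left := by
    have := (mem_trAut_iff e.symm _ χ).mp hχ.2
    rwa [MulEquiv.symm_symm] at this
  have hχe : ∀ z : ↥(R ⊔ Q), e (χ z) = MulAut.congr e χ (e z) := by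
    intro z
    simp [MulAut.congr]
  obtain ⟨⟨-, κ', hκ', Hκ'⟩, s, hs, Hs⟩ := hχ'L
  obtain ⟨hsS, κs, hκs, Hκs⟩ := hs
  have hMSp : extender (normK S Q K) R φ ≤ normK S Q K := fun g hg =>
    ((mem_extender_iff (normK S Q K) R φ g).mp hg).1
  have hMN : extender (normK S Q K) R φ ≤ Nψ :=
    (extender_le_normK K φ hφr e heR κ hκ heQ).trans hnormle
  have hMQ : extender (normK S Q K) R φ ⊔ Q ≤ Nψ := sup_le hMN (le_sup_right.trans hRQN)
  have hψres : ψ.comp (Subgroup.inclusion hMQ) ∈ F.Hom (extender (normK S Q K) R φ ⊔ Q) :=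
    fs_restrict_mem F hψ hMQ
  have hvalS := (F.le_of_mem hψres).2
  have hψ'' := F.comp_mem hψres (F.conj_mem (le_refl S) (S.inv_mem hsS)) hvalS
  set ψ'' := (conjHom S s⁻¹).comp ((ψ.comp (Subgroup.inclusion hMQ)).codRestrict S hvalS) with hψ''def
  have hψ''app : ∀ x : ↥(extender (normK S Q K) R φ ⊔ Q), ψ'' x = s⁻¹ * ψ ⟨x, hMQ x.2⟩ * s := by
    intro x
    simp [hψ''def, conjHom]
    rfl
  have hψ'F : ψ''.comp (Subgroup.inclusion le_sup_left) ∈ F.Hom (extender (normK S Q K) R φ) :=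
    fs_restrict_mem F hψ'' le_sup_left
  -- the action of `ψ''` on `Q`
  have hκ'' : κs⁻¹ * κ' * κ ∈ K := K.mul_mem (K.mul_mem (K.inv_mem hκs) hκ') hκ
  have Hκ'' : ∀ q : Q, ψ'' (Subgroup.inclusion le_sup_right q) = (((κs⁻¹ * κ' * κ) q : Q) : Ω) := by
    intro q
    rw [hψ''app]
    have h1 : (⟨((Subgroup.inclusion le_sup_right q : ↥(extender (normK S Q K) R φ ⊔ Q)) : Ω),
        hMQ (Subgroup.inclusion le_sup_right q : ↥(extender (normK S Q K) R φ ⊔ Q)).2⟩ : Nψ) =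
        ⟨((⟨q, le_sup_right (a := R) (b := Q) q.2⟩ : ↥(R ⊔ Q)) : Ω), hRQN (le_sup_right (a := R) (b := Q) q.2)⟩ := rfl
    rw [h1, Hψ, hχe]
    have h2 : e ⟨q, le_sup_right (a := R) (b := Q) q.2⟩ = ⟨κ q, le_sup_right (a := P) (b := Q) (κ q).2⟩ :=
      Subtype.ext (heQ q)
    rw [h2, Hκ', MulAut.mul_apply, MulAut.mul_apply, inv_aut_apply_of_conj κs s Hκs]
  refine ⟨ψ''.comp (Subgroup.inclusion le_sup_left), ?_, ?_⟩
  · rw [hE]
    refine ⟨hψ'F, hMSp, fun x => ?_, ψ'', hψ'', fun x => rfl, _, hκ'', Hκ''⟩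
    obtain ⟨-, κx, hκx, Hκx⟩ := hMSp x.2
    refine ⟨(F.le_of_mem hψ'F).2 x, (κs⁻¹ * κ' * κ) * κx * (κs⁻¹ * κ' * κ)⁻¹,
      K.mul_mem (K.mul_mem hκ'' hκx) (K.inv_mem hκ''), fun q => ?_⟩
    set κ2 := κs⁻¹ * κ' * κ with hκ2
    rw [MulAut.mul_apply, MulAut.mul_apply]
    set q₀ := κ2⁻¹ q with hq₀
    have hq : q = κ2 q₀ := by rw [hq₀, MulAut.apply_inv_self]
    rw [← Hκ'' (κx q₀)]
    have h3 : (Subgroup.inclusion le_sup_right (κx q₀) : ↥(extender (normK S Q K) R φ ⊔ Q)) =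
        Subgroup.inclusion le_sup_left x * Subgroup.inclusion le_sup_right q₀ *
          (Subgroup.inclusion le_sup_left x)⁻¹ := by
      apply Subtype.ext
      simp only [Subgroup.coe_mul, Subgroup.coe_inv, Subgroup.coe_inclusion]
      exact Hκx q₀
    rw [h3, map_mul, map_mul, map_inv, Hκ'' q₀, ← hq]
    rfl
  · intro x hR hM
    show ψ'' (Subgroup.inclusion le_sup_left ⟨x, hM⟩) = φ ⟨x, hR⟩
    rw [hψ''app]
    have h1 : (⟨((Subgroup.inclusion le_sup_left (⟨x, hM⟩ : extender (normK S Q K) R φ) :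
        ↥(extender (normK S Q K) R φ ⊔ Q)) : Ω), hMQ (Subgroup.inclusion le_sup_left
          (⟨x, hM⟩ : extender (normK S Q K) R φ) : ↥(extender (normK S Q K) R φ ⊔ Q)).2⟩ : Nψ) =
        ⟨((⟨x, le_sup_left (a := R) (b := Q) hR⟩ : ↥(R ⊔ Q)) : Ω), hRQN (le_sup_left (a := R) (b := Q) hR)⟩ := rfl
    rw [h1, Hψ, hχe]
    have hφP : φ ⟨x, hR⟩ ∈ P := by rw [← hφr]; exact ⟨_, rfl⟩
    have h2 : e ⟨x, le_sup_left (a := R) (b := Q) hR⟩ =
        ⟨(⟨φ ⟨x, hR⟩, hφP⟩ : P), le_sup_left (a := P) (b := Q) hφP⟩ :=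
      Subtype.ext (heR ⟨x, hR⟩)
    rw [h2, Hs]
    group

end Cfsg.Agent.Lib.Helper9
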