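import Mathlib
import Cfsg.Prelude.Def_FusionSystem
import Cfsg.Agent.Lib.Helper9.KNorm4
import Cfsg.Agent.Lib.Helper9.FusionSat1
import Cfsg.Agent.Lib.Helper9.FusionSat2
import Cfsg.Agent.Lib.Helper9.FusionSat3

set_option autoImplicit false

namespace Cfsg.Agent.Lib.Helper9

open Cfsg Cfsg.FusionSystem

variable {Ω : Type*} [Group Ω] {S : Subgroup Ω}

/-- Lemma A: every pair `(Q, K)` is conjugate in the system to a good pair, with fully normalized target. -/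
theorem exists_good_conj [Finite S] (p : ℕ) [Fact p.Prime] (hS : IsPGroup p S) (F : FusionSystem S)
    (hF : F.IsSaturated p) {Q : Subgroup Ω} (hQS : Q ≤ S) (K : Subgroup (MulAut Q)) :
    ∃ (Q' : Subgroup Ω) (e : Q ≃* Q'), IsFIso F e ∧ F.IsFullyNormalized Q' ∧ IsGoodK F p Q' (trAut e K) := by
  obtain ⟨Q₁, hconj, hQ₁n⟩ := fs_exists_fullyNormalized F hQS
  obtain ⟨e₁, he₁⟩ := exists_isFIso_of_isConj F hconj
  obtain ⟨hQ₁c, hQ₁a⟩ := fs_sylow_axiom p hS F hF hQ₁n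
  have hQ₁r := fs_extension_axiom p hS F hF hQ₁c
  have hQ₁S : Q₁ ≤ S := hQ₁n.1
  haveI : Finite Q₁ := fs_finite_of_le hQ₁S
  haveI : Finite (MulAut Q₁) := inferInstance
  have hT : IsSylIn p (autInducedBy S Q₁) (F.autGroup Q₁) :=
    isSylIn_of_sylow (autInducedBy_le_autGroup F hQ₁S) hQ₁a.2
  obtain ⟨g, hgB, hg⟩ := hT.exists_conj_inf (H := F.autGroup Q₁ ⊓ trAut e₁ K) inf_le_left
  have hgiso : IsFIso F (g : Q₁ ≃* Q₁) := isFIso_of_mem_autGroup F hQ₁S hgB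
  refine ⟨Q₁, e₁.trans (g : Q₁ ≃* Q₁), he₁.trans hgiso, hQ₁n, hQ₁r, ?_⟩
  have hH : (F.autGroup Q₁ ⊓ trAut e₁ K).map (MulAut.conj g).toMonoidHom =
      F.autGroup Q₁ ⊓ trAut (e₁.trans (g : Q₁ ≃* Q₁)) K := by
    ext β
    rw [Subgroup.mem_map_equiv, Subgroup.mem_inf, Subgroup.mem_inf, mem_trAut_iff, mem_trAut_iff]
    have h1 : (MulAut.conj g).symm β = g⁻¹ * β * g := by
      simp [MulAut.conj_symm_apply]
    rw [h1]
    have h2 : g⁻¹ * β * g ∈ F.autGroup Q₁ ↔ β ∈ F.autGroup Q₁ := by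
      rw [Subgroup.mul_mem_cancel_right _ hgB, Subgroup.mul_mem_cancel_left _ (Subgroup.inv_mem _ hgB)]
    have h3 : MulAut.congr e₁.symm (g⁻¹ * β * g) = MulAut.congr (e₁.trans (g : Q₁ ≃* Q₁)).symm β := by
      ext x
      simp [MulAut.congr, MulAut.mul_apply]
    rw [h2, h3]
  rw [hH] at hg
  have hT2 : autInducedBy S Q₁ ⊓ (F.autGroup Q₁ ⊓ trAut (e₁.trans (g : Q₁ ≃* Q₁)) K) =
      autInducedBy S Q₁ ⊓ trAut (e₁.trans (g : Q₁ ≃* Q₁)) K := by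
    rw [← inf_assoc, inf_eq_left.mpr (autInducedBy_le_autGroup F hQ₁S)]
  rw [hT2] at hg
  exact hg

end Cfsg.Agent.Lib.Helper9
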