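import Mathlib
import Cfsg.Prelude.Def_FusionSystem
import Cfsg.Agent.Lib.Helper9.KNorm10
import Cfsg.Agent.Lib.Helper9.KNorm5

set_option autoImplicit false
set_option maxHeartbeats 1000000

namespace Cfsg.Agent.Lib.Helper9

open Cfsg Cfsg.FusionSystem

variable {Ω : Type*} [Group Ω] {S : Subgroup Ω}

/-- Lemma V: if `ψ` on `MQ` acts on `Q` as `κ2` and `x ∈ M` acts on `Q` as `κx`, then `ψ(x)` acts on `Q` as
`κ2 κx κ2⁻¹`. -/
theorem conj_action_of_extension {M Q : Subgroup Ω} (ψ : ↥(M ⊔ Q) →* Ω) (κ2 : MulAut Q)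
    (Hκ2 : ∀ q : Q, ψ (Subgroup.inclusion le_sup_right q) = ((κ2 q : Q) : Ω)) (x : M) (κx : MulAut Q)
    (Hκx : ∀ q : Q, ((κx q : Q) : Ω) = x * q * (x : Ω)⁻¹) (q : Q) :
    (((κ2 * κx * κ2⁻¹) q : Q) : Ω) =
      ψ (Subgroup.inclusion le_sup_left x) * q * (ψ (Subgroup.inclusion le_sup_left x))⁻¹ := by
  rw [MulAut.mul_apply, MulAut.mul_apply]
  set q₀ := κ2⁻¹ q with hq₀
  have hq : q = κ2 q₀ := by rw [hq₀, MulAut.apply_inv_self]
  rw [← Hκ2 (κx q₀)]
  have h3 : (Subgroup.inclusion le_sup_right (κx q₀) : ↥(M ⊔ Q)) =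
      Subgroup.inclusion le_sup_left x * Subgroup.inclusion le_sup_right q₀ *
        (Subgroup.inclusion le_sup_left x)⁻¹ := by
    apply Subtype.ext
    simp only [Subgroup.coe_mul, Subgroup.coe_inv, Subgroup.coe_inclusion]
    exact Hκx q₀
  rw [h3, map_mul, map_mul, map_inv, Hκ2 q₀, ← hq]

/-- Lemma C: a map of the system defined on a subgroup containing `X C_S(X)` shows
`|C_S(X)| ≤ |C_S(ψ(X))|`. -/
theorem card_centralizerIn_le_of_map [Finite S] (F : FusionSystem S) {N X Y : Subgroup Ω} {ψ : N →* Ω}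
    (hψ : ψ ∈ F.Hom N) (hXN : X ≤ N) (hCN : centralizerIn S X ≤ N)
    (hY : ∀ y ∈ Y, ∃ x : N, (x : Ω) ∈ X ∧ ψ x = y) :
    Nat.card (centralizerIn S X) ≤ Nat.card (centralizerIn S Y) := by
  haveI : Finite (centralizerIn S Y) := fs_finite_of_le (fs_centralizerIn_le S Y)
  have hmem : ∀ c : centralizerIn S X, ψ ⟨c, hCN c.2⟩ ∈ centralizerIn S Y := by
    intro c
    refine ⟨(F.le_of_mem hψ).2 _, ?_⟩
    show ψ ⟨c, hCN c.2⟩ ∈ Subgroup.centralizer (Y : Set Ω)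
    rw [Subgroup.mem_centralizer_iff]
    intro y hy
    obtain ⟨x, hxX, rfl⟩ := hY y hy
    rw [← map_mul, ← map_mul]
    congr 1
    apply Subtype.ext
    have hc : (c : Ω) ∈ Subgroup.centralizer (X : Set Ω) := c.2.2
    rw [Subgroup.mem_centralizer_iff] at hc
    exact hc x hxX
  apply Nat.card_le_card_of_injective (fun c : centralizerIn S X => (⟨ψ ⟨c, hCN c.2⟩, hmem c⟩ : centralizerIn S Y))
  intro c c' hcc
  have h1 : ψ ⟨c, hCN c.2⟩ = ψ ⟨c', hCN c'.2⟩ := congrArg Subtype.val hcc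
  have h2 := F.injective_of_mem hψ h1
  exact Subtype.ext (congrArg (fun z : N => (z : Ω)) h2)

end Cfsg.Agent.Lib.Helper9
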