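import Mathlib
import Cfsg.Prelude.Def_FusionSystem
import Cfsg.Agent.Lib.Helper9.KNorm11

set_option autoImplicit false
set_option maxHeartbeats 2000000

namespace Cfsg.Agent.Lib.Helper9

open Cfsg Cfsg.FusionSystem

variable {Ω : Type*} [Group Ω] {S : Subgroup Ω}

/-- Restriction of an isomorphism of the system to a subgroup. -/
theorem exists_restrict_iso (F : FusionSystem S) {N X Q : Subgroup Ω} (hQN : Q ≤ N) (e : N ≃* X)
    (he : IsFIso F e) :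
    ∃ (Q₁ : Subgroup Ω) (eQ : Q ≃* Q₁), IsFIso F eQ ∧ Q₁ ≤ X ∧
      ∀ q : Q, ((eQ q : Q₁) : Ω) = ((e ⟨q, hQN q.2⟩ : X) : Ω) := by
  have hfQ : (X.subtype.comp e.toMonoidHom).comp (Subgroup.inclusion hQN) ∈ F.Hom Q :=
    fs_restrict_mem F he hQN
  obtain ⟨eQ, heQ, HeQ⟩ := exists_isFIso_of_mem F hfQ rfl
  refine ⟨_, eQ, heQ, ?_, fun q => HeQ q⟩
  rintro _ ⟨q, rfl⟩
  exact (e _).2

/-- Step 1: every `P ≤ N_S^K(Q)` is conjugate in `N_F^K(Q)` to some `P'` with `(P'Q, K_{P'})` a good pair. -/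
theorem normK_exists_good [Finite S] (p : ℕ) [Fact p.Prime] (hS : IsPGroup p S) (F : FusionSystem S)
    (hF : F.IsSaturated p) {Q : Subgroup Ω} (K : Subgroup (MulAut Q)) (hQgood : IsGoodK F p Q K)
    (E : FusionSystem (normK S Q K)) (hE : ∀ P : Subgroup Ω, E.Hom P = normKHom F Q K P)
    {P : Subgroup Ω} (hP : P ≤ normK S Q K) :
    ∃ P' : Subgroup Ω, E.IsConj P P' ∧ IsGoodK F p (P' ⊔ Q) (stabK Q K P' (P' ⊔ Q) le_sup_right) := by
  have hQS : Q ≤ S := hQgood.1.1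
  have hPS : P ≤ S := hP.trans (normK_le S Q K)
  have hNS : P ⊔ Q ≤ S := sup_le hPS hQS
  obtain ⟨X, e, he, hXn, hXgood⟩ := exists_good_conj p hS F hF hNS (stabK Q K P (P ⊔ Q) le_sup_right)
  have hXS : X ≤ S := hXn.1
  -- the restriction of `e` to `Q`
  obtain ⟨Q₁, eQ, heQ, hQ₁X, HeQ'⟩ := exists_restrict_iso F (le_sup_right : Q ≤ P ⊔ Q) e he
  have hgoodQ : IsGoodK F p Q (trAut eQ.symm (trAut eQ K)) := by
    rw [trAut_symm_self]; exact hQgood
  obtain ⟨χ₁, hχ₁, Nψ, ψ, hQ₁N, hψ, hnormle, Hψ⟩ :=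
    exists_adjust_extend p hS F (trAut eQ K) eQ.symm heQ.symm hgoodQ
  have hχK : MulAut.congr eQ.symm χ₁ ∈ K := (mem_trAut_iff eQ K χ₁).mp hχ₁.2
  set χ := MulAut.congr eQ.symm χ₁ with hχdef
  -- `e(P)` lies in `N_S^{K₁}(Q₁)`
  have c1 : ∀ x : ↥(P ⊔ Q), (x : Ω) ∈ P → ((e x : X) : Ω) ∈ normK S Q₁ (trAut eQ K) := by
    intro x hx
    obtain ⟨-, κx, hκx, Hκx⟩ := hP hx
    refine ⟨hXS (e x).2, MulAut.congr eQ κx, congr_mem_trAut eQ hκx, fun y => ?_⟩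
    show ((eQ (κx (eQ.symm y)) : Q₁) : Ω) = _
    rw [HeQ']
    have h1 : (⟨κx (eQ.symm y), le_sup_right (a := P) (b := Q) (κx (eQ.symm y)).2⟩ : ↥(P ⊔ Q)) =
        x * ⟨eQ.symm y, le_sup_right (a := P) (b := Q) (eQ.symm y).2⟩ * x⁻¹ := by
      apply Subtype.ext
      simp only [Subgroup.coe_mul, Subgroup.coe_inv]
      exact Hκx _
    rw [h1, map_mul, map_mul, map_inv]
    simp only [Subgroup.coe_mul, Subgroup.coe_inv]
    rw [← HeQ', MulEquiv.apply_symm_apply]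
  have hval : ∀ x : ↥(P ⊔ Q), (X.subtype.comp e.toMonoidHom) x ∈ Nψ := by
    apply sup_forall_mem
    · intro x
      exact hnormle (c1 _ x.2)
    · intro q
      apply hQ₁N
      have : (X.subtype.comp e.toMonoidHom) (Subgroup.inclusion le_sup_right q) = ((eQ q : Q₁) : Ω) :=
        (HeQ' q).symm
      rw [this]
      exact (eQ q).2
  have hXN : X ≤ Nψ := by
    intro y hy
    have := hval (e.symm ⟨y, hy⟩)
    simpa using this
  have hθ₀ := F.comp_mem he hψ hval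
  set θ₀ := ψ.comp ((X.subtype.comp e.toMonoidHom).codRestrict Nψ hval) with hθ₀def
  have hθ₀app : ∀ x : ↥(P ⊔ Q), θ₀ x = ψ ⟨e x, hXN (e x).2⟩ := fun x => rfl
  have Hχ : ∀ q : Q, θ₀ (Subgroup.inclusion le_sup_right q) = ((χ q : Q) : Ω) := by
    intro q
    rw [hθ₀app]
    have h1 : (⟨((e (Subgroup.inclusion le_sup_right q) : X) : Ω),
        hXN (e (Subgroup.inclusion le_sup_right q)).2⟩ : Nψ) = ⟨((eQ q : Q₁) : Ω), hQ₁N (eQ q).2⟩ := by
      apply Subtype.ext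
      exact (HeQ' q).symm
    rw [h1, Hψ]
    rfl
  -- the image `P'` of `P`
  have hφP : θ₀.comp (Subgroup.inclusion (le_sup_left : P ≤ P ⊔ Q)) ∈ F.Hom P :=
    fs_restrict_mem F hθ₀ le_sup_left
  set φP := θ₀.comp (Subgroup.inclusion (le_sup_left : P ≤ P ⊔ Q)) with hφPdef
  have hrange : θ₀.range = φP.range ⊔ Q := range_sup_eq φP rfl θ₀ (fun x => rfl) χ Hχ
  obtain ⟨θ, hθ, Hθ⟩ := exists_isFIso_of_mem F hθ₀ hrange
  refine ⟨φP.range, ⟨φP, ?_, rfl⟩, ?_⟩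
  · rw [hE]
    refine ⟨hφP, hP, fun x => ?_, θ₀, hθ₀, fun x => rfl, χ, hχK, Hχ⟩
    obtain ⟨-, κx, hκx, Hκx⟩ := hP x.2
    exact ⟨(F.le_of_mem hφP).2 x, χ * κx * χ⁻¹, K.mul_mem (K.mul_mem hχK hκx) (K.inv_mem hχK),
      conj_action_of_extension θ₀ χ Hχ x κx Hκx⟩
  -- goodness of `(P'Q, K_{P'})`
  have he₂ : IsFIso F (e.symm.trans θ) := he.symm.trans hθ
  have He₂ : ∀ y : X, (((e.symm.trans θ) y : ↥(φP.range ⊔ Q)) : Ω) = ψ ⟨y, hXN y.2⟩ := by
    intro y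
    show ((θ (e.symm y) : ↥(φP.range ⊔ Q)) : Ω) = _
    rw [Hθ, hθ₀app]
    congr 1
    apply Subtype.ext
    simp
  have hθP : ∀ x : ↥(P ⊔ Q), ((θ x : ↥(φP.range ⊔ Q)) : Ω) ∈ φP.range ↔ (x : Ω) ∈ P := by
    intro x
    rw [Hθ]
    constructor
    · rintro ⟨r, hr⟩
      have h1 : Subgroup.inclusion le_sup_left r = x := F.injective_of_mem hθ₀ hr
      rw [← h1]
      exact r.2
    · intro hx
      exact ⟨⟨x, hx⟩, rfl⟩
  have hθQ : ∀ q : Q, ((θ ⟨q, le_sup_right (a := P) (b := Q) q.2⟩ : ↥(φP.range ⊔ Q)) : Ω) = ((χ q : Q) : Ω) := by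
    intro q
    rw [Hθ]
    exact Hχ q
  have hstab : trAut (e.symm.trans θ) (trAut e (stabK Q K P (P ⊔ Q) le_sup_right)) =
      stabK Q K φP.range (φP.range ⊔ Q) le_sup_right := by
    rw [trAut_trans]
    have h1 : e.trans (e.symm.trans θ) = θ := by
      ext x
      simp
    rw [h1]
    exact trAut_stabK_eq le_sup_right le_sup_right θ hθP χ hχK hθQ
  have hNS' : φP.range ⊔ Q ≤ S := he₂.le_right
  refine ⟨?_, ?_⟩
  · -- receptive, via fully centralized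
    have hXc : F.IsFullyCentralized X := (fs_sylow_axiom p hS F hF hXn).1
    apply fs_extension_axiom p hS F hF
    refine ⟨hNS', fun Y hY => ?_⟩
    refine (hXc.2 Y (fs_isConj_trans F he₂.isConj hY)).trans ?_
    apply card_centralizerIn_le_of_map F hψ hXN
    · refine le_trans ?_ ((centralizerIn_le_normK S Q₁ (trAut eQ K)).trans hnormle)
      intro c hc
      exact ⟨hc.1, Subgroup.centralizer_le (SetLike.coe_subset_coe.mpr hQ₁X) hc.2⟩
    · intro y hy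
      refine ⟨⟨(e.symm.trans θ).symm ⟨y, hy⟩, hXN ((e.symm.trans θ).symm ⟨y, hy⟩).2⟩,
        ((e.symm.trans θ).symm ⟨y, hy⟩).2, ?_⟩
      rw [← He₂, MulEquiv.apply_symm_apply]
  · -- the Sylow condition
    have h1 := hXgood.2.map (MulAut.congr (e.symm.trans θ)).toMonoidHom
    have hB : (F.autGroup X ⊓ trAut e (stabK Q K P (P ⊔ Q) le_sup_right)).map
        (MulAut.congr (e.symm.trans θ)).toMonoidHom =
        F.autGroup (φP.range ⊔ Q) ⊓ stabK Q K φP.range (φP.range ⊔ Q) le_sup_right := by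
      have := trAut_inf (e.symm.trans θ) (F.autGroup X) (trAut e (stabK Q K P (P ⊔ Q) le_sup_right))
      rw [he₂.trAut_autGroup, hstab] at this
      exact this
    rw [hB] at h1
    refine h1.of_ge ?_ (inf_le_inf_right _ (autInducedBy_le_autGroup F hNS'))
      ((isPGroup_autInducedBy p hS _).to_le inf_le_left)
    rintro _ ⟨α, hα, rfl⟩
    obtain ⟨g, ⟨hgS, -, -, -⟩, Hg⟩ := (mem_autInducedBy_inf_iff S X _ α).mp hα
    obtain ⟨-, κα, hκα, Hκα⟩ := (mem_trAut_iff e _ α).mp hα.2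
    -- `g ∈ N_S^{K₁}(Q₁)`
    have hgn : g ∈ normK S Q₁ (trAut eQ K) := by
      refine ⟨hgS, MulAut.congr eQ κα, congr_mem_trAut eQ hκα, fun y => ?_⟩
      show ((eQ (κα (eQ.symm y)) : Q₁) : Ω) = _
      rw [HeQ']
      have h2 := Hκα (eQ.symm y)
      have h3 : (MulAut.congr e.symm α) ⟨(eQ.symm y : Q), le_sup_right (a := P) (b := Q) (eQ.symm y).2⟩ =
          ⟨κα (eQ.symm y), le_sup_right (a := P) (b := Q) (κα (eQ.symm y)).2⟩ := Subtype.ext h2
      rw [← h3]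
      show ((e (e.symm (α (e.symm.symm _))) : X) : Ω) = _
      rw [MulEquiv.apply_symm_apply, Hg]
      have h4 : ((e.symm.symm ⟨(eQ.symm y : Q), le_sup_right (a := P) (b := Q) (eQ.symm y).2⟩ : X) : Ω) = y := by
        rw [MulEquiv.symm_symm, ← HeQ', MulEquiv.apply_symm_apply]
      rw [h4]
    have hgN : g ∈ Nψ := hnormle hgn
    refine ⟨?_, ?_⟩
    · apply (mem_autInducedBy_iff _ _ _).mpr
      refine ⟨ψ ⟨g, hgN⟩, (F.le_of_mem hψ).2 _, fun y => ?_⟩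
      show (((e.symm.trans θ) (α ((e.symm.trans θ).symm y)) : ↥(φP.range ⊔ Q)) : Ω) = _
      rw [He₂]
      have h5 : (⟨((α ((e.symm.trans θ).symm y) : X) : Ω), hXN (α ((e.symm.trans θ).symm y)).2⟩ : Nψ) =
          ⟨g, hgN⟩ * ⟨(((e.symm.trans θ).symm y : X) : Ω), hXN ((e.symm.trans θ).symm y).2⟩ * ⟨g, hgN⟩⁻¹ := by
        apply Subtype.ext
        simp only [Subgroup.coe_mul, Subgroup.coe_inv]
        exact Hg _
      rw [h5, map_mul, map_mul, map_inv, ← He₂, MulEquiv.apply_symm_apply]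
    · have h6 := congr_mem_trAut (e.symm.trans θ) hα.2
      rw [hstab] at h6
      exact h6

end Cfsg.Agent.Lib.Helper9
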