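import Mathlib
import Cfsg.Prelude.Def_FusionSystem
import Cfsg.Agent.Lib.Helper9.KNorm12

set_option autoImplicit false

namespace Cfsg.Agent.Lib.Helper9.H9Sat

open Cfsg Cfsg.FusionSystem Cfsg.Agent.Lib.Helper9

variable {Ω : Type*} [Group Ω] {S : Subgroup Ω}

/-- A pointed isomorphism of the system: `e : R → R'` carries `P ≤ R` onto `P' ≤ R'`. -/
def PIso (F : FusionSystem S) (P P' : Subgroup Ω) {R R' : Subgroup Ω} (e : R ≃* R') : Prop :=
  IsFIso F e ∧ P ≤ R ∧ P' ≤ R' ∧ ∀ x : R, (x : Ω) ∈ P ↔ ((e x : R') : Ω) ∈ P'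

theorem PIso.symm {F : FusionSystem S} {P P' R R' : Subgroup Ω} {e : R ≃* R'} (h : PIso F P P' e) :
    PIso F P' P e.symm := by
  refine ⟨h.1.symm, h.2.2.1, h.2.1, fun y => ?_⟩
  have := h.2.2.2 (e.symm y)
  rw [MulEquiv.apply_symm_apply] at this
  exact this.symm

theorem PIso.trans {F : FusionSystem S} {P P' P'' R R' R'' : Subgroup Ω} {e : R ≃* R'} {e' : R' ≃* R''}
    (h : PIso F P P' e) (h' : PIso F P' P'' e') : PIso F P P'' (e.trans e') :=
  ⟨h.1.trans h'.1, h.2.1, h'.2.2.1, fun x => (h.2.2.2 x).trans (h'.2.2.2 (e x))⟩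

theorem pIso_refl (F : FusionSystem S) {P R : Subgroup Ω} (hR : R ≤ S) (hP : P ≤ R) :
    PIso F P P (MulEquiv.refl R) :=
  ⟨isFIso_refl F hR, hP, hP, fun _ => Iff.rfl⟩

/-- Restriction of an isomorphism carrying `P` onto `P'` to these subgroups. -/
def pres {P P' R R' : Subgroup Ω} (e : R ≃* R') (hP : P ≤ R) (hP' : P' ≤ R')
    (h : ∀ x : R, (x : Ω) ∈ P ↔ ((e x : R') : Ω) ∈ P') : P ≃* P' where
  toFun x := ⟨e ⟨x, hP x.2⟩, (h _).mp x.2⟩
  invFun y := ⟨e.symm ⟨y, hP' y.2⟩, (h _).mpr (by rw [MulEquiv.apply_symm_apply]; exact y.2)⟩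
  left_inv x := by
    apply Subtype.ext
    show ((e.symm ⟨((e ⟨x, hP x.2⟩ : R') : Ω), _⟩ : R) : Ω) = x
    have : (⟨((e ⟨x, hP x.2⟩ : R') : Ω), (e ⟨x, hP x.2⟩).2⟩ : R') = e ⟨x, hP x.2⟩ := rfl
    rw [this, MulEquiv.symm_apply_apply]
  right_inv y := by
    apply Subtype.ext
    show ((e ⟨((e.symm ⟨y, hP' y.2⟩ : R) : Ω), _⟩ : R') : Ω) = y
    have : (⟨((e.symm ⟨y, hP' y.2⟩ : R) : Ω), (e.symm ⟨y, hP' y.2⟩).2⟩ : R) = e.symm ⟨y, hP' y.2⟩ := rfl
    rw [this, MulEquiv.apply_symm_apply]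
  map_mul' x y := by
    apply Subtype.ext
    show ((e ⟨((x * y : P) : Ω), _⟩ : R') : Ω) = (e ⟨x, hP x.2⟩ : R') * (e ⟨y, hP y.2⟩ : R')
    rw [← Subgroup.coe_mul, ← map_mul]
    rfl

theorem pres_apply {P P' R R' : Subgroup Ω} (e : R ≃* R') (hP : P ≤ R) (hP' : P' ≤ R')
    (h : ∀ x : R, (x : Ω) ∈ P ↔ ((e x : R') : Ω) ∈ P') (x : P) :
    ((pres e hP hP' h x : P') : Ω) = ((e ⟨x, hP x.2⟩ : R') : Ω) := rfl

theorem pres_symm_apply {P P' R R' : Subgroup Ω} (e : R ≃* R') (hP : P ≤ R) (hP' : P' ≤ R')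
    (h : ∀ x : R, (x : Ω) ∈ P ↔ ((e x : R') : Ω) ∈ P') (y : P') :
    (((pres e hP hP' h).symm y : P) : Ω) = ((e.symm ⟨y, hP' y.2⟩ : R) : Ω) := rfl

theorem pres_isFIso {F : FusionSystem S} {P P' R R' : Subgroup Ω} {e : R ≃* R'} (he : IsFIso F e)
    (hP : P ≤ R) (hP' : P' ≤ R') (h : ∀ x : R, (x : Ω) ∈ P ↔ ((e x : R') : Ω) ∈ P') :
    IsFIso F (pres e hP hP' h) := by
  have h1 : (R'.subtype.comp e.toMonoidHom).comp (Subgroup.inclusion hP) ∈ F.Hom P :=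
    fs_restrict_mem F he hP
  have h2 : P'.subtype.comp (pres e hP hP' h).toMonoidHom =
      (R'.subtype.comp e.toMonoidHom).comp (Subgroup.inclusion hP) := by
    ext x
    rfl
  show P'.subtype.comp (pres e hP hP' h).toMonoidHom ∈ F.Hom P
  rw [h2]
  exact h1

/-- The restriction of a pointed isomorphism to the pointed subgroups. -/
def PIso.res {F : FusionSystem S} {P P' R R' : Subgroup Ω} {e : R ≃* R'} (h : PIso F P P' e) : P ≃* P' :=
  pres e h.2.1 h.2.2.1 h.2.2.2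

theorem PIso.res_apply {F : FusionSystem S} {P P' R R' : Subgroup Ω} {e : R ≃* R'} (h : PIso F P P' e)
    (x : P) : ((h.res x : P') : Ω) = ((e ⟨x, h.2.1 x.2⟩ : R') : Ω) := rfl

theorem PIso.res_symm_apply {F : FusionSystem S} {P P' R R' : Subgroup Ω} {e : R ≃* R'}
    (h : PIso F P P' e) (y : P') : ((h.res.symm y : P) : Ω) = ((e.symm ⟨y, h.2.2.1 y.2⟩ : R) : Ω) := rfl

theorem PIso.res_isFIso {F : FusionSystem S} {P P' R R' : Subgroup Ω} {e : R ≃* R'} (h : PIso F P P' e) :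
    IsFIso F h.res := pres_isFIso h.1 h.2.1 h.2.2.1 h.2.2.2

theorem PIso.isConj {F : FusionSystem S} {P P' R R' : Subgroup Ω} {e : R ≃* R'} (h : PIso F P P' e) :
    F.IsConj P P' := h.res_isFIso.isConj

theorem PIso.card_eq {F : FusionSystem S} {P P' R R' : Subgroup Ω} {e : R ≃* R'} (h : PIso F P P' e) :
    Nat.card P = Nat.card P' := Nat.card_congr h.res.toEquiv

theorem PIso.card_eq' {F : FusionSystem S} {P P' R R' : Subgroup Ω} {e : R ≃* R'} (_h : PIso F P P' e) :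
    Nat.card R = Nat.card R' := Nat.card_congr e.toEquiv

/-- Restriction of a pointed isomorphism to an intermediate subgroup. -/
theorem PIso.restrict {F : FusionSystem S} {P P' R R' D : Subgroup Ω} {e : R ≃* R'} (h : PIso F P P' e)
    (hPD : P ≤ D) (hDR : D ≤ R) :
    ∃ (D' : Subgroup Ω) (eD : D ≃* D'), PIso F P P' eD ∧ D' ≤ R' ∧
      ∀ d : D, ((eD d : D') : Ω) = ((e ⟨d, hDR d.2⟩ : R') : Ω) := by
  obtain ⟨D', eD, heD, hD'R', HeD⟩ := exists_restrict_iso F hDR e h.1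
  refine ⟨D', eD, ⟨heD, hPD, ?_, fun d => ?_⟩, hD'R', HeD⟩
  · intro y hy
    have h1 := (h.2.2.2 (e.symm ⟨y, h.2.2.1 hy⟩)).mpr (by rw [MulEquiv.apply_symm_apply]; exact hy)
    have h2 := HeD ⟨_, hPD h1⟩
    have h3 : (⟨((⟨_, hPD h1⟩ : D) : Ω), hDR (hPD h1)⟩ : R) = e.symm ⟨y, h.2.2.1 hy⟩ := rfl
    rw [h3, MulEquiv.apply_symm_apply] at h2
    simp only at h2
    rw [← h2]
    exact (eD _).2
  · rw [HeD]
    exact h.2.2.2 ⟨d, hDR d.2⟩

/-- `P ≼ P°`: there is a pointed map of the system from `N_S(P)` into `N_S(P°)`. -/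
def Below (F : FusionSystem S) (P P₀ : Subgroup Ω) : Prop :=
  ∃ (X : Subgroup Ω) (e : normalizerIn S P ≃* X), X ≤ normalizerIn S P₀ ∧ PIso F P P₀ e

theorem le_normalizerIn_self {P : Subgroup Ω} (hP : P ≤ S) : P ≤ normalizerIn S P :=
  fun _ hx => ⟨hP hx, Subgroup.le_normalizer hx⟩

theorem below_refl (F : FusionSystem S) {P : Subgroup Ω} (hP : P ≤ S) : Below F P P :=
  ⟨normalizerIn S P, MulEquiv.refl _, le_rfl, pIso_refl F (fs_normalizerIn_le S P) (le_normalizerIn_self hP)⟩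

theorem Below.trans {F : FusionSystem S} {P P' P'' : Subgroup Ω} (h : Below F P P') (h' : Below F P' P'') :
    Below F P P'' := by
  obtain ⟨X, e, hX, he⟩ := h
  obtain ⟨X', e', hX', he'⟩ := h'
  obtain ⟨X'', eX, heX, hX''X', -⟩ := he'.restrict he.2.2.1 hX
  exact ⟨X'', e.trans eX, hX''X'.trans hX', he.trans heX⟩

theorem Below.isConj {F : FusionSystem S} {P P' : Subgroup Ω} (h : Below F P P') : F.IsConj P P' := by
  obtain ⟨X, e, -, he⟩ := h
  exact he.isConj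

/-- A link between `P'` and `P''`: a pointed isomorphism between subgroups of their normalizers, of order at
least `m`. -/
def Link (F : FusionSystem S) (m : ℕ) (P' P'' : Subgroup Ω) : Prop :=
  ∃ (R' R'' : Subgroup Ω) (e : R' ≃* R''), PIso F P' P'' e ∧ R' ≤ normalizerIn S P' ∧
    R'' ≤ normalizerIn S P'' ∧ m ≤ Nat.card R'

theorem Link.symm {F : FusionSystem S} {m : ℕ} {P' P'' : Subgroup Ω} (h : Link F m P' P'') :
    Link F m P'' P' := by
  obtain ⟨R', R'', e, he, h1, h2, h3⟩ := h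
  exact ⟨R'', R', e.symm, he.symm, h2, h1, he.card_eq' ▸ h3⟩

theorem Link.mono {F : FusionSystem S} {m m' : ℕ} {P' P'' : Subgroup Ω} (h : Link F m' P' P'')
    (hm : m ≤ m') : Link F m P' P'' := by
  obtain ⟨R', R'', e, he, h1, h2, h3⟩ := h
  exact ⟨R', R'', e, he, h1, h2, hm.trans h3⟩

theorem link_of_below_below {F : FusionSystem S} {P P' P'' : Subgroup Ω} (h' : Below F P P')
    (h'' : Below F P P'') : Link F (Nat.card (normalizerIn S P)) P' P'' := by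
  obtain ⟨X', e', hX', he'⟩ := h'
  obtain ⟨X'', e'', hX'', he''⟩ := h''
  exact ⟨X', X'', e'.symm.trans e'', he'.symm.trans he'', hX', hX'', (he'.card_eq').le⟩

/-- Common upper bound. -/
def Cub (F : FusionSystem S) (P' P'' : Subgroup Ω) : Prop :=
  ∃ P₀ : Subgroup Ω, Below F P' P₀ ∧ Below F P'' P₀

/-- If `N_S(P₁)` is as large as `N_S(P₀)` and `P₁ ≼ P₀`, then `P₀ ≼ P₁`. -/
theorem Below.antisymm_of_card [Finite S] {F : FusionSystem S} {P₁ P₀ : Subgroup Ω} (h : Below F P₁ P₀)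
    (hc : Nat.card (normalizerIn S P₀) ≤ Nat.card (normalizerIn S P₁)) : Below F P₀ P₁ := by
  obtain ⟨X, e, hX, he⟩ := h
  haveI : Finite (normalizerIn S P₀) := fs_finite_of_le (fs_normalizerIn_le S P₀)
  have hXeq : X = normalizerIn S P₀ := by
    apply Subgroup.eq_of_le_of_card_ge hX
    rw [← he.card_eq']
    exact hc
  subst hXeq
  exact ⟨normalizerIn S P₁, e.symm, le_rfl, he.symm⟩

end Cfsg.Agent.Lib.Helper9.H9Sat
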