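import Mathlib
import Cfsg.Prelude.Def_FusionSystem
import Cfsg.Agent.Lib.Helper9.SatCrit1

set_option autoImplicit false

namespace Cfsg.Agent.Lib.Helper9.H9Sat

open Cfsg Cfsg.FusionSystem Cfsg.Agent.Lib.Helper9

variable {Ω : Type*} [Group Ω] {S : Subgroup Ω}

/-- The class of `R` contains a fully automized receptive member. -/
def HasGood (F : FusionSystem S) (p : ℕ) (R : Subgroup Ω) : Prop :=
  ∃ R₀, F.IsConj R R₀ ∧ F.IsFullyAutomized p R₀ ∧ F.IsReceptive R₀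

/-- Local form of Lemma A: given a fully automized receptive target. -/
theorem exists_good_conj_local [Finite S] (p : ℕ) [Fact p.Prime] (F : FusionSystem S)
    {Q Q₁ : Subgroup Ω} (e₁ : Q ≃* Q₁) (hQ₁a : F.IsFullyAutomized p Q₁)
    (hQ₁r : F.IsReceptive Q₁) (K : Subgroup (MulAut Q)) :
    ∃ g ∈ F.autGroup Q₁, IsGoodK F p Q₁ (trAut (e₁.trans (g : Q₁ ≃* Q₁)) K) := by
  have hQ₁S : Q₁ ≤ S := hQ₁a.1
  haveI : Finite Q₁ := fs_finite_of_le hQ₁S
  haveI : Finite (MulAut Q₁) := inferInstance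
  have hT : IsSylIn p (autInducedBy S Q₁) (F.autGroup Q₁) :=
    isSylIn_of_sylow (autInducedBy_le_autGroup F hQ₁S) hQ₁a.2
  obtain ⟨g, hgB, hg⟩ := hT.exists_conj_inf (H := F.autGroup Q₁ ⊓ trAut e₁ K) inf_le_left
  refine ⟨g, hgB, hQ₁r, ?_⟩
  have hH : (F.autGroup Q₁ ⊓ trAut e₁ K).map (MulAut.conj g).toMonoidHom =
      F.autGroup Q₁ ⊓ trAut (e₁.trans (g : Q₁ ≃* Q₁)) K := by
    ext β
    rw [Subgroup.mem_map_equiv, Subgroup.mem_inf, Subgroup.mem_inf, mem_trAut_iff, mem_trAut_iff]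
    have h1 : (MulAut.conj g).symm β = g⁻¹ * β * g := by
      simp [MulAut.conj_symm_apply]
    rw [h1]
    have h2 : g⁻¹ * β * g ∈ F.autGroup Q₁ ↔ β ∈ F.autGroup Q₁ := by
      rw [Subgroup.mul_mem_cancel_right _ hgB, Subgroup.mul_mem_cancel_left _ (Subgroup.inv_mem _ hgB)]
    have h3 : MulAut.congr e₁.symm (g⁻¹ * β * g) = MulAut.congr (e₁.trans (g : Q₁ ≃* Q₁)).symm β := by
      ext x
      simp [MulAut.congr, MulAut.mul_apply]
    rw [h2, h3]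
  rw [hH] at hg
  have hT2 : autInducedBy S Q₁ ⊓ (F.autGroup Q₁ ⊓ trAut (e₁.trans (g : Q₁ ≃* Q₁)) K) =
      autInducedBy S Q₁ ⊓ trAut (e₁.trans (g : Q₁ ≃* Q₁)) K := by
    rw [← inf_assoc, inf_eq_left.mpr (autInducedBy_le_autGroup F hQ₁S)]
  rw [hT2] at hg
  exact hg

theorem exists_good_pair [Finite S] (p : ℕ) [Fact p.Prime] (F : FusionSystem S) {R : Subgroup Ω}
    (h : HasGood F p R) (K : Subgroup (MulAut R)) :
    ∃ (R₀ : Subgroup Ω) (e : R ≃* R₀), IsFIso F e ∧ IsGoodK F p R₀ (trAut e K) := by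
  obtain ⟨R₀, hconj, ha, hr⟩ := h
  obtain ⟨e₁, he₁⟩ := exists_isFIso_of_isConj F hconj
  obtain ⟨g, hg, hgood⟩ := exists_good_conj_local p F e₁ ha hr K
  exact ⟨R₀, e₁.trans (g : R₀ ≃* R₀), he₁.trans (isFIso_of_mem_autGroup F ha.1 hg), hgood⟩

/-- A Sylow subgroup of a `p`-group is the whole group. -/
theorem IsSylIn.ge_of_isPGroup {G : Type*} [Group G] {p : ℕ} [Fact p.Prime] {A B : Subgroup G} [Finite B]
    (h : IsSylIn p A B) (hB : IsPGroup p B) : B ≤ A := by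
  rw [← Subgroup.relIndex_eq_one]
  obtain ⟨k, hk⟩ := IsPGroup.iff_card.mp hB
  have h1 : A.relIndex B ∣ p ^ k := hk ▸ Subgroup.relIndex_dvd_card A B
  obtain ⟨j, -, hj⟩ := (Nat.dvd_prime_pow Fact.out).mp h1
  rcases Nat.eq_zero_or_pos j with rfl | hjpos
  · simpa using hj
  · exfalso
    apply h.2.2
    rw [hj]
    exact dvd_pow_self p hjpos.ne'

/-- Variant of Lemma B recording that no adjustment is needed when `Aut_F^K(Q)` is a `p`-group. -/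
theorem exists_adjust_extend' [Finite S] (p : ℕ) [Fact p.Prime] (hS : IsPGroup p S) (F : FusionSystem S)
    {Q Q' : Subgroup Ω} (K : Subgroup (MulAut Q)) (e : Q ≃* Q') (he : IsFIso F e)
    (hgood : IsGoodK F p Q' (trAut e K)) :
    ∃ χ ∈ F.autGroup Q ⊓ K, (IsPGroup p ↥(F.autGroup Q ⊓ K) → χ = 1) ∧
      ∃ (N : Subgroup Ω) (ψ : N →* Ω) (hQN : Q ≤ N), ψ ∈ F.Hom N ∧
      normK S Q K ≤ N ∧ ∀ x : Q, ψ ⟨x, hQN x.2⟩ = ((e (χ x) : Q') : Ω) := by
  obtain ⟨χ, hχ, N, ψ, hQN, hψ, hKN, Hψ⟩ := exists_adjust_extend p hS F K e he hgood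
  by_cases hpg : IsPGroup p ↥(F.autGroup Q ⊓ K)
  · have hQ'S : Q' ≤ S := he.le_right
    haveI : Finite Q' := fs_finite_of_le hQ'S
    haveI : Finite (MulAut Q') := inferInstance
    have hpg' : IsPGroup p ↥(F.autGroup Q' ⊓ trAut e K) := by
      rw [← he.trAut_autGroup, ← trAut_inf]
      exact hpg.map _
    have hle := IsSylIn.ge_of_isPGroup hgood.2 hpg'
    have hχ₀ : MulAut.congr e χ ∈ F.autGroup Q' ⊓ trAut e K :=
      ⟨he.congr_mem_autGroup hχ.1, congr_mem_trAut e hχ.2⟩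
    obtain ⟨s, hsS, Hs⟩ := (mem_autInducedBy_iff S Q' _).mp (hle hχ₀).1
    have hval : ∀ x : N, ψ x ∈ S := fun x => (F.le_of_mem hψ).2 x
    have hψ₂ : (conjHom S s⁻¹).comp (ψ.codRestrict S hval) ∈ F.Hom N :=
      F.comp_mem hψ (F.conj_mem le_rfl (S.inv_mem hsS)) hval
    refine ⟨1, Subgroup.one_mem _, fun _ => rfl, N, _, hQN, hψ₂, hKN, fun x => ?_⟩
    have h1 := Hs (e x)
    have h2 : MulAut.congr e χ (e x) = e (χ x) := by
      simp [MulAut.congr]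
    rw [h2] at h1
    show s⁻¹ * ψ ⟨x, hQN x.2⟩ * s⁻¹⁻¹ = ((e ((1 : MulAut Q) x) : Q') : Ω)
    rw [Hψ, h1, MulAut.one_apply]
    group
  · exact ⟨χ, hχ, fun h => absurd h hpg, N, ψ, hQN, hψ, hKN, Hψ⟩

/-- Membership in the stabilizer `K_P` with `Q = P`. -/
theorem mem_stabK_self_iff {P R : Subgroup Ω} (U : Subgroup (MulAut P)) (hPR : P ≤ R) (α : MulAut R) :
    α ∈ stabK P U P R hPR ↔
      ∃ h : (∀ x : R, ((α x : R) : Ω) ∈ P ↔ (x : Ω) ∈ P), restrictAut hPR α h ∈ U := by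
  constructor
  · rintro ⟨h, κ, hκ, H⟩
    refine ⟨h, ?_⟩
    have : restrictAut hPR α h = κ := by
      ext x
      exact H x
    rw [this]
    exact hκ
  · rintro ⟨h, hU⟩
    exact ⟨h, restrictAut hPR α h, hU, fun x => rfl⟩

theorem mem_stabK_top_iff {P R : Subgroup Ω} (hPR : P ≤ R) (α : MulAut R) :
    α ∈ stabK P ⊤ P R hPR ↔ ∀ x : R, ((α x : R) : Ω) ∈ P ↔ (x : Ω) ∈ P := by
  rw [mem_stabK_self_iff]
  exact ⟨fun ⟨h, _⟩ => h, fun h => ⟨h, Subgroup.mem_top _⟩⟩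

theorem stabK_self_le_top {P R : Subgroup Ω} (U : Subgroup (MulAut P)) (hPR : P ≤ R) :
    stabK P U P R hPR ≤ stabK P ⊤ P R hPR := by
  intro α hα
  rw [mem_stabK_top_iff]
  exact hα.1

/-- Transport of the stabilizer along a pointed isomorphism. -/
theorem trAut_stabK_self_le {P P' R R' : Subgroup Ω} (U : Subgroup (MulAut P)) (hPR : P ≤ R)
    (hP'R' : P' ≤ R') (e : R ≃* R') (h : ∀ x : R, (x : Ω) ∈ P ↔ ((e x : R') : Ω) ∈ P') :
    trAut e (stabK P U P R hPR) ≤ stabK P' (trAut (pres e hPR hP'R' h) U) P' R' hP'R' := by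
  rintro _ ⟨α, ⟨hα, κ, hκ, Hα⟩, rfl⟩
  refine ⟨fun y => ?_, MulAut.congr (pres e hPR hP'R' h) κ, congr_mem_trAut _ hκ, fun y => ?_⟩
  · show ((e (α (e.symm y)) : R') : Ω) ∈ P' ↔ (y : Ω) ∈ P'
    have h1 := h (α (e.symm y))
    have h2 := hα (e.symm y)
    have h3 := h (e.symm y)
    rw [MulEquiv.apply_symm_apply] at h3
    exact h1.symm.trans (h2.trans h3)
  · show ((e (α (e.symm ⟨y, hP'R' y.2⟩)) : R') : Ω) = _
    have h1 : e.symm ⟨y, hP'R' y.2⟩ = ⟨((pres e hPR hP'R' h).symm y : P), hPR ((pres e hPR hP'R' h).symm y).2⟩ :=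
      Subtype.ext (pres_symm_apply e hPR hP'R' h y).symm
    have h2 : α ⟨((pres e hPR hP'R' h).symm y : P), hPR ((pres e hPR hP'R' h).symm y).2⟩ =
        ⟨(κ ((pres e hPR hP'R' h).symm y) : P), hPR (κ ((pres e hPR hP'R' h).symm y)).2⟩ :=
      Subtype.ext (Hα _)
    rw [h1, h2]
    rfl

theorem trAut_stabK_self_eq {P P' R R' : Subgroup Ω} (U : Subgroup (MulAut P)) (hPR : P ≤ R)
    (hP'R' : P' ≤ R') (e : R ≃* R') (h : ∀ x : R, (x : Ω) ∈ P ↔ ((e x : R') : Ω) ∈ P') :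
    trAut e (stabK P U P R hPR) = stabK P' (trAut (pres e hPR hP'R' h) U) P' R' hP'R' := by
  apply le_antisymm (trAut_stabK_self_le U hPR hP'R' e h)
  intro β hβ
  rw [mem_trAut_iff]
  have h' : ∀ y : R', (y : Ω) ∈ P' ↔ ((e.symm y : R) : Ω) ∈ P := by
    intro y
    have := h (e.symm y)
    rw [MulEquiv.apply_symm_apply] at this
    exact this.symm
  have h1 := trAut_stabK_self_le (trAut (pres e hPR hP'R' h) U) hP'R' hPR e.symm h'
    (congr_mem_trAut e.symm hβ)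
  have hε : pres e.symm hP'R' hPR h' = (pres e hPR hP'R' h).symm := by
    ext y
    rfl
  rw [hε, trAut_symm_self] at h1
  exact h1

/-- The image of `P ≤ R` under an isomorphism `e : R → R'`. -/
def imgSub {R R' : Subgroup Ω} (e : R ≃* R') (P : Subgroup Ω) : Subgroup Ω :=
  (P.subgroupOf R).map (R'.subtype.comp e.toMonoidHom)

theorem mem_imgSub_iff {R R' : Subgroup Ω} (e : R ≃* R') (P : Subgroup Ω) (y : Ω) :
    y ∈ imgSub e P ↔ ∃ x : R, (x : Ω) ∈ P ∧ ((e x : R') : Ω) = y := by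
  constructor
  · rintro ⟨x, hx, rfl⟩
    exact ⟨x, hx, rfl⟩
  · rintro ⟨x, hx, rfl⟩
    exact ⟨x, hx, rfl⟩

theorem pIso_imgSub {F : FusionSystem S} {R R' P : Subgroup Ω} {e : R ≃* R'} (he : IsFIso F e)
    (hPR : P ≤ R) : PIso F P (imgSub e P) e := by
  refine ⟨he, hPR, ?_, fun x => ?_⟩
  · rintro y hy
    obtain ⟨x, -, rfl⟩ := (mem_imgSub_iff e P y).mp hy
    exact (e x).2
  · constructor
    · intro hx
      exact (mem_imgSub_iff e P _).mpr ⟨x, hx, rfl⟩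
    · intro hx
      obtain ⟨x', hx', hxx'⟩ := (mem_imgSub_iff e P _).mp hx
      have : x' = x := e.injective (Subtype.ext hxx')
      rwa [← this]

end Cfsg.Agent.Lib.Helper9.H9Sat
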