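import Mathlib
import Cfsg.Prelude.Def_FusionSystem
import Cfsg.Agent.Lib.Helper9.SatCrit2
import Cfsg.Agent.Lib.Helper9.FusionSat1

set_option autoImplicit false

namespace Cfsg.Agent.Lib.Helper9.H9Sat

open Cfsg Cfsg.FusionSystem Cfsg.Agent.Lib.Helper9

variable {Ω : Type*} [Group Ω] {S : Subgroup Ω}

theorem trAut_top {Q Q' : Subgroup Ω} (e : Q ≃* Q') : trAut e (⊤ : Subgroup (MulAut Q)) = ⊤ := by
  ext β
  rw [mem_trAut_iff]
  simp

/-- Pointed extension: an isomorphism onto a good pair extends, after adjustment, to the `K`-normalizer, as a pointed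
map between subgroups of the normalizers of the pointed subgroups. -/
theorem pointed_extend [Finite S] (p : ℕ) [Fact p.Prime] (hS : IsPGroup p S) (F : FusionSystem S)
    {R R₀ P P₀ : Subgroup Ω} (e : R ≃* R₀) (hpt : PIso F P P₀ e) (hRN : R ≤ normalizerIn S P)
    (K : Subgroup (MulAut R)) (hK : K ≤ stabK P ⊤ P R hpt.2.1)
    (hgood : IsGoodK F p R₀ (trAut e K)) :
    ∃ χ ∈ F.autGroup R ⊓ K, (IsPGroup p ↥(F.autGroup R ⊓ K) → χ = 1) ∧
    ∃ (D X : Subgroup Ω) (β : D ≃* X) (hRD : R ≤ D), PIso F P P₀ β ∧ normK S R K ≤ D ∧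
      D ≤ normalizerIn S P ∧ X ≤ normalizerIn S P₀ ∧
      ∀ x : R, ((β ⟨x, hRD x.2⟩ : X) : Ω) = ((e (χ x) : R₀) : Ω) := by
  obtain ⟨χ, hχ, hχ1, N, ψ, hRN', hψ, hKN, Hψ⟩ := exists_adjust_extend' p hS F K e hpt.1 hgood
  refine ⟨χ, hχ, hχ1, ?_⟩
  have hPR := hpt.2.1
  have hRS : R ≤ S := hpt.1.le_left
  have hPS : P ≤ S := hPR.trans hRS
  haveI : Finite P := fs_finite_of_le hPS
  have hP₀R₀ := hpt.2.2.1
  have hP₀S : P₀ ≤ S := hP₀R₀.trans hpt.1.le_right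
  haveI : Finite P₀ := fs_finite_of_le hP₀S
  have hχP : ∀ x : R, ((χ x : R) : Ω) ∈ P ↔ (x : Ω) ∈ P := (mem_stabK_top_iff hPR χ).mp (hK hχ.2)
  have key : ∀ y ∈ P₀, ∃ x' : R, (x' : Ω) ∈ P ∧ ψ ⟨x', hRN' x'.2⟩ = y := by
    intro y hy
    have h1 : ((e.symm ⟨y, hP₀R₀ hy⟩ : R) : Ω) ∈ P := (hpt.symm.2.2.2 ⟨y, hP₀R₀ hy⟩).mp hy
    refine ⟨χ⁻¹ (e.symm ⟨y, hP₀R₀ hy⟩), ?_, ?_⟩
    · have := hχP (χ⁻¹ (e.symm ⟨y, hP₀R₀ hy⟩))
      rw [MulAut.apply_inv_self] at this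
      exact this.mp h1
    · rw [Hψ, MulAut.apply_inv_self, MulEquiv.apply_symm_apply]
  have hDN : N ⊓ normalizerIn S P ≤ N := inf_le_left
  have hψD : ψ.comp (Subgroup.inclusion hDN) ∈ F.Hom (N ⊓ normalizerIn S P) := fs_restrict_mem F hψ hDN
  obtain ⟨β, hβ, Hβ⟩ := exists_isFIso_of_mem F hψD rfl
  have hRD : R ≤ N ⊓ normalizerIn S P := fun x hx => ⟨hRN' hx, hRN hx⟩
  have Hβ' : ∀ d : (N ⊓ normalizerIn S P : Subgroup Ω), ((β d : _) : Ω) = ψ ⟨d, hDN d.2⟩ := fun d => Hβ d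
  have hfwd : ∀ d : (N ⊓ normalizerIn S P : Subgroup Ω), (d : Ω) ∈ P → ψ ⟨d, hDN d.2⟩ ∈ P₀ := by
    intro d hd
    have h1 := Hψ ⟨d, hPR hd⟩
    have h2 : (⟨((⟨d, hPR hd⟩ : R) : Ω), hRN' (hPR hd)⟩ : N) = ⟨d, hDN d.2⟩ := rfl
    rw [h2] at h1
    rw [h1]
    exact (hpt.2.2.2 _).mp ((hχP ⟨d, hPR hd⟩).mpr hd)
  refine ⟨N ⊓ normalizerIn S P, _, β, hRD, ⟨hβ, hPR.trans hRD, ?_, fun d => ?_⟩, ?_, inf_le_right, ?_,
    fun x => ?_⟩
  · intro y hy
    obtain ⟨x', hx'P, hx'y⟩ := key y hy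
    exact ⟨⟨x', hRD x'.2⟩, hx'y⟩
  · rw [Hβ']
    constructor
    · exact hfwd d
    · intro hd
      obtain ⟨x', hx'P, hx'y⟩ := key _ hd
      have h1 : (⟨x', hRN' x'.2⟩ : N) = ⟨d, hDN d.2⟩ := F.injective_of_mem hψ hx'y
      have h2 : (x' : Ω) = d := congrArg Subtype.val h1
      rw [← h2]
      exact hx'P
  · intro g hg
    refine ⟨hKN hg, normK_le S R K hg, ?_⟩
    obtain ⟨hgS, α, hαK, Hα⟩ := hg
    have hαP := (mem_stabK_top_iff hPR α).mp (hK hαK)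
    haveI : Finite (P : Set Ω) := ‹Finite P›
    apply Subgroup.mem_normalizer_fintype
    intro n hn
    have := (hαP ⟨n, hPR hn⟩).mpr hn
    rw [Hα] at this
    exact this
  · rintro _ ⟨d, rfl⟩
    refine ⟨(F.le_of_mem hψ).2 _, ?_⟩
    haveI : Finite (P₀ : Set Ω) := ‹Finite P₀›
    apply Subgroup.mem_normalizer_fintype
    intro z hz
    obtain ⟨x', hx'P, hx'z⟩ := key z hz
    have hdD : (d : Ω) ∈ N ⊓ normalizerIn S P := d.2
    have hdn : (d : Ω) ∈ Subgroup.normalizer (P : Set Ω) := hdD.2.2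
    have h1 : (d : Ω) * x' * (d : Ω)⁻¹ ∈ P := (Subgroup.mem_normalizer_iff.mp hdn _).mp hx'P
    have hmem : (d : Ω) * x' * (d : Ω)⁻¹ ∈ N ⊓ normalizerIn S P :=
      Subgroup.mul_mem _ (Subgroup.mul_mem _ d.2 (hRD x'.2)) (Subgroup.inv_mem _ d.2)
    have h2 := hfwd ⟨(d : Ω) * x' * (d : Ω)⁻¹, hmem⟩ h1
    have h3 : (⟨(d : Ω) * x' * (d : Ω)⁻¹, hDN hmem⟩ : N) =
        ⟨d, hDN d.2⟩ * ⟨x', hRN' x'.2⟩ * ⟨d, hDN d.2⟩⁻¹ := rfl
    rw [h3, map_mul, map_mul, map_inv, hx'z] at h2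
    exact h2
  · rw [Hβ']
    exact Hψ x

/-- If `R` is a proper subgroup of `N_S(P)` containing `P`, some element outside `R` lies in `N_S(R) ∩ N_S(P)`. -/
theorem exists_normK_not_mem [Finite S] (p : ℕ) [Fact p.Prime] (hS : IsPGroup p S) {P R : Subgroup Ω}
    (hPR : P ≤ R) (hRN : R ≤ normalizerIn S P) (hne : R ≠ normalizerIn S P) :
    ∃ g ∈ normK S R (stabK P ⊤ P R hPR), g ∉ R := by
  have hlt : R < normalizerIn S P := lt_of_le_of_ne hRN hne
  have hNp : IsPGroup p (normalizerIn S P) := hS.to_le (fs_normalizerIn_le S P)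
  haveI : Finite (normalizerIn S P) := fs_finite_of_le (fs_normalizerIn_le S P)
  have h1 := fs_lt_normalizerIn p hNp hlt
  obtain ⟨g, hgN, hgR⟩ := SetLike.exists_of_lt h1
  refine ⟨g, ⟨hgN.1.1, conjAut R g hgN.2, ?_, fun x => rfl⟩, hgR⟩
  rw [mem_stabK_top_iff]
  intro x
  rw [conjAut_apply]
  exact (Subgroup.mem_normalizer_iff.mp hgN.1.2 x).symm

/-- The improvement step. -/
theorem improve [Finite S] (p : ℕ) [Fact p.Prime] (hS : IsPGroup p S) (F : FusionSystem S)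
    {P' P'' R' R'' : Subgroup Ω} (e : R' ≃* R'') (he : PIso F P' P'' e)
    (hR' : R' ≤ normalizerIn S P') (hR'' : R'' ≤ normalizerIn S P'') (hgood : HasGood F p R') :
    ∃ (P₀ D' X' D'' X'' : Subgroup Ω) (β' : D' ≃* X') (β'' : D'' ≃* X''),
      PIso F P' P₀ β' ∧ PIso F P'' P₀ β'' ∧ R' ≤ D' ∧ R'' ≤ D'' ∧
      normK S R' (stabK P' ⊤ P' R' he.2.1) ≤ D' ∧ normK S R'' (stabK P'' ⊤ P'' R'' he.2.2.1) ≤ D'' ∧
      D' ≤ normalizerIn S P' ∧ D'' ≤ normalizerIn S P'' ∧ X' ≤ normalizerIn S P₀ ∧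
      X'' ≤ normalizerIn S P₀ := by
  obtain ⟨R₀, ε, hε, hgoodε⟩ := exists_good_pair p F hgood (stabK P' ⊤ P' R' he.2.1)
  have hpt' : PIso F P' (imgSub ε P') ε := pIso_imgSub hε he.2.1
  obtain ⟨χ', -, -, D', X', β', hRD', hβ', hKD', hD', hX', -⟩ :=
    pointed_extend p hS F ε hpt' hR' (stabK P' ⊤ P' R' he.2.1) le_rfl hgoodε
  have hpt'' : PIso F P'' (imgSub ε P') (e.symm.trans ε) := he.symm.trans hpt'
  have hKeq : trAut e.symm (stabK P'' ⊤ P'' R'' he.2.2.1) = stabK P' ⊤ P' R' he.2.1 := by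
    rw [trAut_stabK_self_eq ⊤ he.2.2.1 he.2.1 e.symm he.symm.2.2.2, trAut_top]
  have hgood'' : IsGoodK F p R₀ (trAut (e.symm.trans ε) (stabK P'' ⊤ P'' R'' he.2.2.1)) := by
    rw [← trAut_trans, hKeq]
    exact hgoodε
  obtain ⟨χ'', -, -, D'', X'', β'', hRD'', hβ'', hKD'', hD'', hX'', -⟩ :=
    pointed_extend p hS F (e.symm.trans ε) hpt'' hR'' (stabK P'' ⊤ P'' R'' he.2.2.1) le_rfl hgood''
  exact ⟨imgSub ε P', D', X', D'', X'', β', β'', hβ', hβ'', hRD', hRD'', hKD', hKD'', hD', hD'', hX', hX''⟩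

/-- Linked subgroups have a common upper bound. -/
theorem cub_of_link [Finite S] (p : ℕ) [Fact p.Prime] (hS : IsPGroup p S) (F : FusionSystem S) (c : ℕ)
    (hbig : ∀ R : Subgroup Ω, R ≤ S → c < Nat.card R → HasGood F p R) :
    ∀ n m : ℕ, c < m → Nat.card S < m + n → ∀ P' P'' : Subgroup Ω, Link F m P' P'' → Cub F P' P'' := by
  intro n
  induction n with
  | zero =>
    intro m _ hm P' P'' hl
    obtain ⟨R', R'', e, he, h1, h2, h3⟩ := hl
    have := fs_card_le_of_le (h1.trans (fs_normalizerIn_le S P'))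
    omega
  | succ n ih =>
    intro m hcm hm P' P'' hl
    obtain ⟨R', R'', e, he, h1, h2, h3⟩ := hl
    by_cases hm1 : m + 1 ≤ Nat.card R'
    · exact ih (m + 1) (by omega) (by omega) P' P'' ⟨R', R'', e, he, h1, h2, hm1⟩
    · have hcard : Nat.card R' = m := by omega
      have hP'S : P' ≤ S := he.2.1.trans he.1.le_left
      have hP''S : P'' ≤ S := he.2.2.1.trans he.1.le_right
      by_cases hR' : R' = normalizerIn S P'
      · subst hR'
        exact ⟨P'', ⟨R'', e, h2, he⟩, below_refl F hP''S⟩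
      by_cases hR'' : R'' = normalizerIn S P''
      · subst hR''
        exact ⟨P', below_refl F hP'S, ⟨R', e.symm, h1, he.symm⟩⟩
      have hR'S : R' ≤ S := he.1.le_left
      have hgood : HasGood F p R' := hbig R' hR'S (by omega)
      obtain ⟨P₀, D', X', D'', X'', β', β'', hβ', hβ'', hRD', hRD'', hKD', hKD'', hD', hD'', hX', hX''⟩ :=
        improve p hS F e he h1 h2 hgood
      have hcD' : m + 1 ≤ Nat.card D' := by
        obtain ⟨g, hg, hgR⟩ := exists_normK_not_mem p hS he.2.1 h1 hR'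
        have hlt : R' < D' := lt_of_le_of_ne hRD' (fun h => hgR (h ▸ hKD' hg))
        have := fs_card_lt_of_lt hlt (hD'.trans (fs_normalizerIn_le S P'))
        omega
      have hcD'' : m + 1 ≤ Nat.card D'' := by
        obtain ⟨g, hg, hgR⟩ := exists_normK_not_mem p hS he.2.2.1 h2 hR''
        have hlt : R'' < D'' := lt_of_le_of_ne hRD'' (fun h => hgR (h ▸ hKD'' hg))
        have := fs_card_lt_of_lt hlt (hD''.trans (fs_normalizerIn_le S P''))
        have := he.card_eq'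
        omega
      obtain ⟨Q', b1, b2⟩ := ih (m + 1) (by omega) (by omega) P' P₀ ⟨D', X', β', hβ', hD', hX', hcD'⟩
      obtain ⟨Q'', b3, b4⟩ := ih (m + 1) (by omega) (by omega) P'' P₀ ⟨D'', X'', β'', hβ'', hD'', hX'', hcD''⟩
      have hl2 : Link F (m + 1) Q' Q'' := by
        apply (link_of_below_below b2 b4).mono
        have h5 : Nat.card X' ≤ Nat.card (normalizerIn S P₀) := by
          haveI : Finite (normalizerIn S P₀) := fs_finite_of_le (fs_normalizerIn_le S P₀)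
          exact Nat.card_le_card_of_injective _ (Subgroup.inclusion_injective hX')
        have := hβ'.card_eq'
        omega
      obtain ⟨Q, b5, b6⟩ := ih (m + 1) (by omega) (by omega) Q' Q'' hl2
      exact ⟨Q, b1.trans b5, b3.trans b6⟩

end Cfsg.Agent.Lib.Helper9.H9Sat
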