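import Mathlib
import Cfsg.Prelude.Def_FusionSystem
import Cfsg.Agent.Lib.Helper9.SatCrit3

set_option autoImplicit false

namespace Cfsg.Agent.Lib.Helper9.H9Sat

open Cfsg Cfsg.FusionSystem Cfsg.Agent.Lib.Helper9

variable {Ω : Type*} [Group Ω] {S : Subgroup Ω}

theorem isFIso_of_agrees {F : FusionSystem S} {P' P'' : Subgroup Ω} {φ : P' →* Ω} (hφ : φ ∈ F.Hom P')
    (ε : P' ≃* P'') (h : ∀ x : P', ((ε x : P'') : Ω) = φ x) : IsFIso F ε := by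
  have : P''.subtype.comp ε.toMonoidHom = φ := by
    ext x
    exact h x
  show P''.subtype.comp ε.toMonoidHom ∈ F.Hom P'
  rw [this]
  exact hφ

/-- A map of the system defined on a subgroup `D` of `N_S(P')` containing `P'` gives a pointed isomorphism of `D` onto
its image. -/
theorem link_of_hom [Finite S] {F : FusionSystem S} {D P' P'' : Subgroup Ω} {φ : D →* Ω} (hφ : φ ∈ F.Hom D)
    (hP'D : P' ≤ D) (hDN : D ≤ normalizerIn S P') (ε : P' ≃* P'')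
    (hε : ∀ x : P', ((ε x : P'') : Ω) = φ ⟨x, hP'D x.2⟩) :
    ∃ (R'' : Subgroup Ω) (e : D ≃* R'') (he : PIso F P' P'' e), R'' ≤ normalizerIn S P'' ∧ he.res = ε := by
  obtain ⟨e, he, He⟩ := exists_isFIso_of_mem F hφ rfl
  have hP''S : P'' ≤ S := by
    intro y hy
    have := hε (ε.symm ⟨y, hy⟩)
    rw [MulEquiv.apply_symm_apply] at this
    simp only at this
    rw [this]
    exact (F.le_of_mem hφ).2 _
  haveI : Finite P'' := fs_finite_of_le hP''S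
  have key : ∀ y ∈ P'', ∃ x' : P', φ ⟨x', hP'D x'.2⟩ = y := by
    intro y hy
    refine ⟨ε.symm ⟨y, hy⟩, ?_⟩
    rw [← hε, MulEquiv.apply_symm_apply]
  have hpt : PIso F P' P'' e := by
    refine ⟨he, hP'D, ?_, fun x => ?_⟩
    · intro y hy
      obtain ⟨x', hx'⟩ := key y hy
      exact ⟨_, hx'⟩
    · rw [He]
      constructor
      · intro hx
        have := hε ⟨x, hx⟩
        have h2 : (⟨((⟨x, hx⟩ : P') : Ω), hP'D hx⟩ : D) = x := rfl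
        rw [h2] at this
        rw [← this]
        exact (ε _).2
      · intro hx
        obtain ⟨x', hx'⟩ := key _ hx
        have h1 : (⟨x', hP'D x'.2⟩ : D) = x := F.injective_of_mem hφ hx'
        rw [← h1]
        exact x'.2
  refine ⟨_, e, hpt, ?_, ?_⟩
  · rintro _ ⟨d, rfl⟩
    refine ⟨(F.le_of_mem hφ).2 _, ?_⟩
    haveI : Finite (P'' : Set Ω) := ‹Finite P''›
    apply Subgroup.mem_normalizer_fintype
    intro z hz
    obtain ⟨x', hx'⟩ := key z hz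
    have hdn : (d : Ω) ∈ Subgroup.normalizer (P' : Set Ω) := (hDN d.2).2
    have h1 : (d : Ω) * x' * (d : Ω)⁻¹ ∈ P' := (Subgroup.mem_normalizer_iff.mp hdn _).mp x'.2
    have h2 := hε ⟨_, h1⟩
    have h3 : (⟨((⟨(d : Ω) * x' * (d : Ω)⁻¹, h1⟩ : P') : Ω), hP'D h1⟩ : D) =
        d * ⟨x', hP'D x'.2⟩ * d⁻¹ := rfl
    rw [h3, map_mul, map_mul, map_inv, hx'] at h2
    rw [← h2]
    exact (ε _).2
  · ext x
    rw [PIso.res_apply, He, hε]

/-- The maps of the system all of whose restrictions to members of `Cl` satisfy `Φ`. -/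
def genHom (F : FusionSystem S) (Cl : Set (Subgroup Ω)) (Φ : ∀ (P' P'' : Subgroup Ω), (P' ≃* P'') → Prop)
    (P : Subgroup Ω) : Set (P →* Ω) :=
  {φ | φ ∈ F.Hom P ∧ ∀ (P' : Subgroup Ω) (hP' : P' ≤ P), P' ∈ Cl → ∀ (P'' : Subgroup Ω) (ε : P' ≃* P''),
    (∀ x : P', ((ε x : P'') : Ω) = φ ⟨x, hP' x.2⟩) → Φ P' P'' ε}

/-- The generation principle. -/
theorem gen_principle [Finite S] (p : ℕ) [Fact p.Prime] (hS : IsPGroup p S) (F : FusionSystem S)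
    (ℋ : Set (Subgroup Ω))
    (hgen : ∀ E : FusionSystem S, (∀ P ∈ ℋ, F.Hom P ⊆ E.Hom P) → F ≤ E)
    (Cl : Set (Subgroup Ω)) (hClconj : ∀ P ∈ Cl, ∀ Q, F.IsConj P Q → Q ∈ Cl) (hClℋ : ∀ P ∈ Cl, P ∉ ℋ)
    (hClS : ∀ P ∈ Cl, P ≠ S)
    (Φ : ∀ (P' P'' : Subgroup Ω), (P' ≃* P'') → Prop)
    (hlink : ∀ P' ∈ Cl, ∀ (P'' R' R'' : Subgroup Ω) (e : R' ≃* R'') (he : PIso F P' P'' e), P' ≠ R' →
      R' ≤ normalizerIn S P' → R'' ≤ normalizerIn S P'' → Φ P' P'' he.res)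
    (htrans : ∀ P' ∈ Cl, ∀ P'' ∈ Cl, ∀ P''' ∈ Cl, ∀ (ε₁ : P' ≃* P'') (ε₂ : P'' ≃* P'''), IsFIso F ε₁ →
      IsFIso F ε₂ → Φ P' P'' ε₁ → Φ P'' P''' ε₂ → Φ P' P''' (ε₁.trans ε₂))
    (hsymm : ∀ P' ∈ Cl, ∀ P'' ∈ Cl, ∀ (ε : P' ≃* P''), IsFIso F ε → Φ P' P'' ε → Φ P'' P' ε.symm) :
    ∀ P' ∈ Cl, ∀ (P'' : Subgroup Ω) (ε : P' ≃* P''), IsFIso F ε → Φ P' P'' ε := by
  -- the auxiliary system
  have hconj : ∀ {P : Subgroup Ω} {g : Ω}, P ≤ S → g ∈ S → conjHom P g ∈ genHom F Cl Φ P := by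
    intro P g hP hg
    refine ⟨F.conj_mem hP hg, ?_⟩
    intro P' hP' hP'Cl P'' ε hε
    have hP'S : P' ≤ S := hP'.trans hP
    have hφ : conjHom (normalizerIn S P') g ∈ F.Hom (normalizerIn S P') :=
      F.conj_mem (fs_normalizerIn_le S P') hg
    have hε' : ∀ x : P', ((ε x : P'') : Ω) =
        conjHom (normalizerIn S P') g ⟨x, le_normalizerIn_self hP'S x.2⟩ := by
      intro x
      rw [hε]
      rfl
    obtain ⟨R'', e, he, hR'', hres⟩ := link_of_hom hφ (le_normalizerIn_self hP'S) le_rfl ε hε'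
    have hne : P' ≠ normalizerIn S P' := by
      have hlt : P' < S := lt_of_le_of_ne hP'S (hClS P' hP'Cl)
      exact (fs_lt_normalizerIn p hS hlt).ne
    have := hlink P' hP'Cl P'' _ R'' e he hne le_rfl hR''
    rwa [hres] at this
  have hcomp : ∀ {P Q : Subgroup Ω} {φ : P →* Ω} {ψ : Q →* Ω}, φ ∈ genHom F Cl Φ P → ψ ∈ genHom F Cl Φ Q →
      ∀ h : ∀ x : P, φ x ∈ Q, ψ.comp (φ.codRestrict Q h) ∈ genHom F Cl Φ P := by
    intro P Q φ ψ hφ hψ h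
    refine ⟨F.comp_mem hφ.1 hψ.1 h, ?_⟩
    intro P' hP' hP'Cl P''' ε hε
    have hφ' : φ.comp (Subgroup.inclusion hP') ∈ F.Hom P' := fs_restrict_mem F hφ.1 hP'
    obtain ⟨ε₁, hε₁, Hε₁⟩ := exists_isFIso_of_mem F hφ' rfl
    have hP''Q : (φ.comp (Subgroup.inclusion hP')).range ≤ Q := by
      rintro _ ⟨x, rfl⟩
      exact h _
    have hP''Cl : (φ.comp (Subgroup.inclusion hP')).range ∈ Cl := hClconj P' hP'Cl _ hε₁.isConj
    have hΦ₁ : Φ P' _ ε₁ := hφ.2 P' hP' hP'Cl _ ε₁ (fun x => Hε₁ x)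
    have hεF : IsFIso F ε := by
      apply isFIso_of_agrees (fs_restrict_mem F (F.comp_mem hφ.1 hψ.1 h) hP') ε
      intro x
      rw [hε]
      rfl
    have hP'''Cl : P''' ∈ Cl := hClconj P' hP'Cl _ hεF.isConj
    have hε₂ : ∀ y : (φ.comp (Subgroup.inclusion hP')).range,
        (((ε₁.symm.trans ε) y : P''') : Ω) = ψ ⟨y, hP''Q y.2⟩ := by
      intro y
      show ((ε (ε₁.symm y) : P''') : Ω) = _
      rw [hε]
      have h1 := Hε₁ (ε₁.symm y)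
      rw [MulEquiv.apply_symm_apply] at h1
      show ψ ⟨φ ⟨(ε₁.symm y : P'), _⟩, _⟩ = ψ ⟨y, _⟩
      congr 1
      apply Subtype.ext
      exact h1.symm
    have hΦ₂ : Φ _ P''' (ε₁.symm.trans ε) := hψ.2 _ hP''Q hP''Cl P''' _ hε₂
    have h3 := htrans P' hP'Cl _ hP''Cl P''' hP'''Cl ε₁ (ε₁.symm.trans ε) hε₁ (hε₁.symm.trans hεF) hΦ₁ hΦ₂
    have h4 : ε₁.trans (ε₁.symm.trans ε) = ε := by
      ext x
      simp
    rwa [h4] at h3
  have hinv : ∀ {P : Subgroup Ω} {φ : P →* Ω}, φ ∈ genHom F Cl Φ P →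
      ∃ ψ ∈ genHom F Cl Φ φ.range, ∀ x : P, ψ ⟨φ x, ⟨x, rfl⟩⟩ = (x : Ω) := by
    intro P φ hφ
    obtain ⟨ψ, hψ, H⟩ := F.inv_mem hφ.1
    refine ⟨ψ, ⟨hψ, ?_⟩, H⟩
    intro Q' hQ' hQ'Cl Q'' ε' hε'
    have hε'F : IsFIso F ε' := isFIso_of_agrees (fs_restrict_mem F hψ hQ') ε' (fun x => hε' x)
    have hQ''Cl : Q'' ∈ Cl := hClconj Q' hQ'Cl _ hε'F.isConj
    have hQ''P : Q'' ≤ P := by
      intro x hx
      have h1 := hε' (ε'.symm ⟨x, hx⟩)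
      rw [MulEquiv.apply_symm_apply] at h1
      obtain ⟨x₀, hx₀⟩ := hQ' (ε'.symm ⟨x, hx⟩).2
      have h2 : (⟨((ε'.symm ⟨x, hx⟩ : Q') : Ω), hQ' (ε'.symm ⟨x, hx⟩).2⟩ : φ.range) = ⟨φ x₀, ⟨x₀, rfl⟩⟩ :=
        Subtype.ext hx₀.symm
      rw [h2, H] at h1
      simp only at h1
      rw [h1]
      exact x₀.2
    have hsym : ∀ x : Q'', ((ε'.symm x : Q') : Ω) = φ ⟨x, hQ''P x.2⟩ := by
      intro x
      have h1 := hε' (ε'.symm x)
      rw [MulEquiv.apply_symm_apply] at h1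
      obtain ⟨x₀, hx₀⟩ := hQ' (ε'.symm x).2
      have h2 : (⟨((ε'.symm x : Q') : Ω), hQ' (ε'.symm x).2⟩ : φ.range) = ⟨φ x₀, ⟨x₀, rfl⟩⟩ :=
        Subtype.ext hx₀.symm
      rw [h2, H] at h1
      rw [← hx₀]
      congr 1
      exact Subtype.ext h1.symm
    have h3 := hφ.2 Q'' hQ''P hQ''Cl Q' ε'.symm hsym
    have h4 := hsymm Q'' hQ''Cl Q' hQ'Cl ε'.symm hε'F.symm h3
    rwa [MulEquiv.symm_symm] at h4
  let E : FusionSystem S :=
    { Hom := genHom F Cl Φ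
      le_of_mem := fun h => F.le_of_mem h.1
      injective_of_mem := fun h => F.injective_of_mem h.1
      conj_mem := hconj
      comp_mem := hcomp
      inv_mem := hinv }
  have hℋE : ∀ P ∈ ℋ, F.Hom P ⊆ E.Hom P := by
    intro P hPℋ φ hφ
    refine ⟨hφ, ?_⟩
    intro P' hP' hP'Cl P'' ε hε
    have hPS : P ≤ S := (F.le_of_mem hφ).1
    haveI : Finite P := fs_finite_of_le hPS
    have hlt : P' < P := lt_of_le_of_ne hP' (fun h => hClℋ P' hP'Cl (h ▸ hPℋ))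
    have hlt2 := fs_lt_normalizerIn p (hS.to_le hPS) hlt
    have hDP : normalizerIn P P' ≤ P := inf_le_left
    have hφD : φ.comp (Subgroup.inclusion hDP) ∈ F.Hom (normalizerIn P P') := fs_restrict_mem F hφ hDP
    have hDN : normalizerIn P P' ≤ normalizerIn S P' := fun x hx => ⟨hPS hx.1, hx.2⟩
    obtain ⟨R'', e, he, hR'', hres⟩ := link_of_hom hφD hlt2.le hDN ε (fun x => hε x)
    have := hlink P' hP'Cl P'' _ R'' e he hlt2.ne hDN hR''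
    rwa [hres] at this
  have hFE := hgen E hℋE
  intro P' hP'Cl P'' ε hε
  have h1 : P''.subtype.comp ε.toMonoidHom ∈ E.Hom P' := hFE P' hε
  exact h1.2 P' le_rfl hP'Cl P'' ε (fun x => rfl)

end Cfsg.Agent.Lib.Helper9.H9Sat
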