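import Mathlib
import Cfsg.Prelude.Def_FusionSystem
import Cfsg.Agent.Lib.Helper9.SatCrit4

set_option autoImplicit false

namespace Cfsg.Agent.Lib.Helper9.H9Sat

open Cfsg Cfsg.FusionSystem Cfsg.Agent.Lib.Helper9

variable {Ω : Type*} [Group Ω] {S : Subgroup Ω}

/-- Claim 1: every member of the class maps, with its normalizer, into the normalizer of a fully normalized member. -/
theorem claim1 [Finite S] (p : ℕ) [Fact p.Prime] (hS : IsPGroup p S) (F : FusionSystem S)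
    (ℋ : Set (Subgroup Ω))
    (hgen : ∀ E : FusionSystem S, (∀ P ∈ ℋ, F.Hom P ⊆ E.Hom P) → F ≤ E)
    (Cl : Set (Subgroup Ω)) (hClconj : ∀ P ∈ Cl, ∀ Q, F.IsConj P Q → Q ∈ Cl) (hClℋ : ∀ P ∈ Cl, P ∉ ℋ)
    (hClS : ∀ P ∈ Cl, P ≠ S) (hClle : ∀ P ∈ Cl, P ≤ S)
    (c : ℕ) (hClc : ∀ P ∈ Cl, Nat.card P = c)
    (hbig : ∀ R : Subgroup Ω, R ≤ S → c < Nat.card R → HasGood F p R)
    (P₁ : Subgroup Ω) (hP₁ : P₁ ∈ Cl)
    (hfn : ∀ Q ∈ Cl, Nat.card (normalizerIn S Q) ≤ Nat.card (normalizerIn S P₁))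
    (hall : ∀ P ∈ Cl, F.IsConj P₁ P) :
    ∀ P ∈ Cl, Below F P P₁ := by
  have hcub : ∀ m, c < m → ∀ P' P'' : Subgroup Ω, Link F m P' P'' → Cub F P' P'' :=
    fun m hm => cub_of_link p hS F c hbig (Nat.card S + 1) m hm (by omega)
  have hNlt : ∀ P ∈ Cl, c < Nat.card (normalizerIn S P) := by
    intro P hP
    have hlt : P < S := lt_of_le_of_ne (hClle P hP) (hClS P hP)
    have := fs_card_lt_of_lt (fs_lt_normalizerIn p hS hlt) (fs_normalizerIn_le S P)
    rw [hClc P hP] at this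
    exact this
  have hA : ∀ P' ∈ Cl, ∀ P₀ : Subgroup Ω, Below F P' P₁ → Below F P' P₀ → Below F P₀ P₁ := by
    intro P' hP' P₀ h1 h0
    have hl := link_of_below_below h1 h0
    obtain ⟨Q, b1, b2⟩ := hcub _ (hNlt P' hP') _ _ hl
    have hQ : Q ∈ Cl := hClconj P₁ hP₁ Q b1.isConj
    exact b2.trans (b1.antisymm_of_card (hfn Q hQ))
  have hmain := gen_principle p hS F ℋ hgen Cl hClconj hClℋ hClS
    (fun P' P'' _ => (Below F P' P₁ ↔ Below F P'' P₁))
    (by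
      intro P' hP' P'' R' R'' e he hne h1 h2
      have hP'' : P'' ∈ Cl := hClconj P' hP' P'' he.isConj
      have hlt : P' < R' := lt_of_le_of_ne he.2.1 hne
      have hc : c < Nat.card R' := by
        have := fs_card_lt_of_lt hlt he.1.le_left
        rw [hClc P' hP'] at this
        exact this
      obtain ⟨Q, b1, b2⟩ := hcub (c + 1) (by omega) P' P'' ⟨R', R'', e, he, h1, h2, hc⟩
      exact ⟨fun hb => b2.trans (hA P' hP' Q hb b1), fun hb => b1.trans (hA P'' hP'' Q hb b2)⟩)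
    (by
      intro P' _ P'' _ P''' _ ε₁ ε₂ _ _ h1 h2
      exact h1.trans h2)
    (by
      intro P' _ P'' _ ε _ h
      exact h.symm)
  intro P hP
  obtain ⟨ε, hε⟩ := exists_isFIso_of_isConj F (hall P hP)
  exact (hmain P₁ hP₁ P ε hε).mp (below_refl F (hClle P₁ hP₁))

end Cfsg.Agent.Lib.Helper9.H9Sat
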