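import Mathlib
import Cfsg.Prelude.Def_FusionSystem
import Cfsg.Agent.Lib.Helper9.SatCrit5

set_option autoImplicit false

namespace Cfsg.Agent.Lib.Helper9.H9Sat

open Cfsg Cfsg.FusionSystem Cfsg.Agent.Lib.Helper9

variable {Ω : Type*} [Group Ω] {S : Subgroup Ω}

/-- A family of normal subgroups `U(P) ≤ Aut_F(P)`, for `P` in the class, compatible with the isomorphisms of the
system. -/
structure UFam (F : FusionSystem S) (p : ℕ) (Cl : Set (Subgroup Ω))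
    (U : ∀ P : Subgroup Ω, Subgroup (MulAut P)) : Prop where
  transport : ∀ P ∈ Cl, ∀ (P' : Subgroup Ω) (ε : P ≃* P'), IsFIso F ε → trAut ε (U P) = U P'
  inn_le : ∀ P ∈ Cl, Inn P ≤ U P
  cases : (∀ P ∈ Cl, U P = Inn P) ∨ (∀ P ∈ Cl, IsPGroup p (U P) ∧ centralizerIn S P ≤ P)

theorem congr_self_eq_conj {P : Subgroup Ω} (γ κ : MulAut P) :
    MulAut.congr (γ : P ≃* P) κ = γ * κ * γ⁻¹ := by
  ext x
  rfl

/-- `U(P)` is normalized by `Aut_F(P)`. -/
theorem UFam.conj_mem {F : FusionSystem S} {p : ℕ} {Cl : Set (Subgroup Ω)}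
    {U : ∀ P : Subgroup Ω, Subgroup (MulAut P)} (hU : UFam F p Cl U) {P : Subgroup Ω} (hP : P ∈ Cl)
    (hPS : P ≤ S) {γ κ : MulAut P} (hγ : γ ∈ F.autGroup P) (hκ : κ ∈ U P) : γ * κ * γ⁻¹ ∈ U P := by
  have h1 := hU.transport P hP P (γ : P ≃* P) (isFIso_of_mem_autGroup F hPS hγ)
  have h2 : MulAut.congr (γ : P ≃* P) κ ∈ trAut (γ : P ≃* P) (U P) := congr_mem_trAut _ hκ
  rw [h1, congr_self_eq_conj] at h2
  exact h2

/-- Transport of the `U`-normalizer along a pointed isomorphism. -/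
theorem hat_transport {F : FusionSystem S} {p : ℕ} {Cl : Set (Subgroup Ω)}
    {U : ∀ P : Subgroup Ω, Subgroup (MulAut P)} (hU : UFam F p Cl U) {P P' R R' : Subgroup Ω} (hP : P ∈ Cl)
    (e : R ≃* R') (he : PIso F P P' e) (hR'S : R' ≤ S) (g : R) (hg : (g : Ω) ∈ normK S P (U P)) :
    ((e g : R') : Ω) ∈ normK S P' (U P') := by
  obtain ⟨-, κ, hκ, Hκ⟩ := hg
  refine ⟨hR'S (e g).2, MulAut.congr he.res κ, ?_, fun y => ?_⟩
  · rw [← hU.transport P hP P' he.res he.res_isFIso]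
    exact congr_mem_trAut _ hκ
  · show ((he.res (κ (he.res.symm y)) : P') : Ω) = _
    rw [he.res_apply]
    have h1 : (⟨((κ (he.res.symm y) : P) : Ω), he.2.1 (κ (he.res.symm y)).2⟩ : R) =
        g * ⟨(he.res.symm y : P), he.2.1 (he.res.symm y).2⟩ * g⁻¹ := by
      apply Subtype.ext
      rw [Hκ]
      rfl
    rw [h1, map_mul, map_mul, map_inv]
    have h2 : e ⟨(he.res.symm y : P), he.2.1 (he.res.symm y).2⟩ = ⟨y, he.2.2.1 y.2⟩ := by
      apply Subtype.ext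
      rw [← he.res_apply, MulEquiv.apply_symm_apply]
    rw [h2]
    rfl

/-- `N_S(P)` normalizes the `U`-normalizer of `P`. -/
theorem hat_normal [Finite S] {F : FusionSystem S} {p : ℕ} {Cl : Set (Subgroup Ω)}
    {U : ∀ P : Subgroup Ω, Subgroup (MulAut P)} (hU : UFam F p Cl U) {P : Subgroup Ω} (hP : P ∈ Cl)
    (hPS : P ≤ S) {g : Ω} (hg : g ∈ normalizerIn S P) :
    g ∈ Subgroup.normalizer (normK S P (U P) : Set Ω) := by
  haveI : Finite (normK S P (U P)) := fs_finite_of_le (normK_le S P (U P))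
  haveI : Finite (normK S P (U P) : Set Ω) := ‹Finite (normK S P (U P))›
  apply Subgroup.mem_normalizer_fintype
  rintro h ⟨hhS, κ, hκ, Hκ⟩
  have hγ : conjAut P g hg.2 ∈ F.autGroup P :=
    autInducedBy_le_autGroup F hPS ((mem_autInducedBy_iff S P _).mpr ⟨g, hg.1, fun x => rfl⟩)
  refine ⟨S.mul_mem (S.mul_mem hg.1 hhS) (S.inv_mem hg.1), conjAut P g hg.2 * κ * (conjAut P g hg.2)⁻¹,
    hU.conj_mem hP hPS hγ hκ, fun x => ?_⟩
  rw [MulAut.mul_apply, MulAut.mul_apply, conjAut_apply, Hκ]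
  have h1 : (((conjAut P g hg.2)⁻¹ x : P) : Ω) = g⁻¹ * x * g := by
    have h2 := conjAut_apply P g hg.2 ((conjAut P g hg.2)⁻¹ x)
    rw [MulAut.apply_inv_self] at h2
    rw [h2]
    group
  rw [h1]
  group

/-- `P` lies in its `U`-normalizer. -/
theorem le_hat {F : FusionSystem S} {p : ℕ} {Cl : Set (Subgroup Ω)}
    {U : ∀ P : Subgroup Ω, Subgroup (MulAut P)} (hU : UFam F p Cl U) {P : Subgroup Ω} (hP : P ∈ Cl)
    (hPS : P ≤ S) : P ≤ normK S P (U P) := by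
  intro x hx
  refine ⟨hPS hx, MulAut.conj (⟨x, hx⟩ : P), hU.inn_le P hP ⟨⟨x, hx⟩, rfl⟩, fun y => ?_⟩
  simp [MulAut.conj_apply]

/-- The stabilizer of `P` in `Aut(R)` acting on `P` through a `p`-group is a `p`-group when `P` is self-centralizing. -/
theorem isPGroup_stabK [Finite S] (p : ℕ) [Fact p.Prime] (hS : IsPGroup p S) {P R : Subgroup Ω} (hPR : P ≤ R)
    (hRN : R ≤ normalizerIn S P) (U : Subgroup (MulAut P)) (hU : IsPGroup p U)
    (hcent : centralizerIn S P ≤ P) : IsPGroup p ↥(stabK P U P R hPR) := by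
  have hRS : R ≤ S := hRN.trans (fs_normalizerIn_le S P)
  have hPS : P ≤ S := hPR.trans hRS
  haveI : Finite P := fs_finite_of_le hPS
  rintro ⟨β, hβK⟩
  obtain ⟨hpres, hres⟩ := (mem_stabK_self_iff U hPR β).mp hβK
  obtain ⟨k, hk⟩ := hU ⟨restrictAut hPR β hpres, hres⟩
  have hk' : (restrictAut hPR β hpres) ^ (p ^ k) = 1 := by
    have := congrArg Subtype.val hk
    simpa using this
  -- powers of β act on P through powers of the restriction
  have hpow : ∀ n : ℕ, ∀ x : P, (((β ^ n) ⟨x, hPR x.2⟩ : R) : Ω) = (((restrictAut hPR β hpres) ^ n) x : P) := by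
    intro n
    induction n with
    | zero => intro x; simp
    | succ n ih =>
      intro x
      rw [pow_succ, pow_succ, MulAut.mul_apply, MulAut.mul_apply]
      have h1 : β ⟨x, hPR x.2⟩ = ⟨(restrictAut hPR β hpres x : P), hPR (restrictAut hPR β hpres x).2⟩ := rfl
      rw [h1, ih]
  have hγP : ∀ x : P, ((β ^ (p ^ k)) ⟨x, hPR x.2⟩ : R) = ⟨x, hPR x.2⟩ := by
    intro x
    apply Subtype.ext
    rw [hpow, hk']
    rfl
  obtain ⟨j, hj⟩ := IsPGroup.iff_card.mp (hS.to_le hPS)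
  set γ : MulAut R := β ^ (p ^ k) with hγ
  -- γ(g) = g z with z ∈ P
  have hz : ∀ g : R, (g : Ω)⁻¹ * ((γ g : R) : Ω) ∈ P := by
    intro g
    apply hcent
    refine ⟨S.mul_mem (S.inv_mem (hRS g.2)) (hRS (γ g).2), ?_⟩
    show _ ∈ Subgroup.centralizer (P : Set Ω)
    rw [Subgroup.mem_centralizer_iff]
    intro x hx
    have hgn : (g : Ω) ∈ Subgroup.normalizer (P : Set Ω) := (hRN g.2).2
    have hx' : (g : Ω) * x * (g : Ω)⁻¹ ∈ P := (Subgroup.mem_normalizer_iff.mp hgn x).mp hx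
    have h1 := hγP ⟨_, hx'⟩
    have h2 : (⟨((⟨(g : Ω) * x * (g : Ω)⁻¹, hx'⟩ : P) : Ω), hPR hx'⟩ : R) = g * ⟨x, hPR hx⟩ * g⁻¹ := rfl
    rw [h2, map_mul, map_mul, map_inv, hγP ⟨x, hx⟩] at h1
    have h3 := congrArg Subtype.val h1
    simp only [Subgroup.coe_mul, Subgroup.coe_inv] at h3
    -- h3 : γ g * x * (γ g)⁻¹ = g * x * g⁻¹
    calc x * ((g : Ω)⁻¹ * ((γ g : R) : Ω)) = (g : Ω)⁻¹ * ((g : Ω) * x * (g : Ω)⁻¹) * ((γ g : R) : Ω) := by group
      _ = (g : Ω)⁻¹ * (((γ g : R) : Ω) * x * ((γ g : R) : Ω)⁻¹) * ((γ g : R) : Ω) := by rw [h3]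
      _ = (g : Ω)⁻¹ * ((γ g : R) : Ω) * x := by group
  have hgen : ∀ (a b : Ω) (n : ℕ), b * (a⁻¹ * b) ^ n = a * (a⁻¹ * b) ^ (n + 1) := by
    intro a b n
    rw [pow_succ', ← mul_assoc, ← mul_assoc, mul_inv_cancel, one_mul]
  have hγn : ∀ n : ℕ, ∀ g : R, (((γ ^ n) g : R) : Ω) = (g : Ω) * ((g : Ω)⁻¹ * ((γ g : R) : Ω)) ^ n := by
    intro n
    induction n with
    | zero => intro g; simp
    | succ n ih =>
      intro g
      rw [pow_succ', MulAut.mul_apply]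
      have h1 : (γ ^ n) g = g * ⟨((g : Ω)⁻¹ * ((γ g : R) : Ω)) ^ n, hPR (P.pow_mem (hz g) n)⟩ := by
        apply Subtype.ext
        rw [ih]
        rfl
      rw [h1, map_mul]
      have h2 : γ ⟨((g : Ω)⁻¹ * ((γ g : R) : Ω)) ^ n, hPR (P.pow_mem (hz g) n)⟩ =
          ⟨((g : Ω)⁻¹ * ((γ g : R) : Ω)) ^ n, hPR (P.pow_mem (hz g) n)⟩ := hγP ⟨_, P.pow_mem (hz g) n⟩
      rw [h2]
      simp only [Subgroup.coe_mul]
      exact hgen _ _ n
  refine ⟨k + j, ?_⟩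
  apply Subtype.ext
  show β ^ (p ^ (k + j)) = 1
  rw [pow_add, pow_mul, ← hγ]
  ext g
  rw [hγn, MulAut.one_apply]
  have h1 : (⟨(g : Ω)⁻¹ * ((γ g : R) : Ω), hz g⟩ : P) ^ (p ^ j) = 1 := by
    rw [← hj]
    exact pow_card_eq_one'
  have h2 := congrArg Subtype.val h1
  simp only [Subgroup.coe_pow, Subgroup.coe_one] at h2
  rw [h2, mul_one]

end Cfsg.Agent.Lib.Helper9.H9Sat
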