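import Mathlib
import Cfsg.Prelude.Def_FusionSystem
import Cfsg.Agent.Lib.Helper9.SatCrit6

set_option autoImplicit false

namespace Cfsg.Agent.Lib.Helper9.H9Sat

open Cfsg Cfsg.FusionSystem Cfsg.Agent.Lib.Helper9

variable {Ω : Type*} [Group Ω] {S : Subgroup Ω}

/-- Passing to a target whose `U`-normalizer forms a good pair with it. -/
theorem exists_good_target [Finite S] (p : ℕ) [Fact p.Prime] (hS : IsPGroup p S) (F : FusionSystem S)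
    (Cl : Set (Subgroup Ω)) (hClconj : ∀ P ∈ Cl, ∀ Q, F.IsConj P Q → Q ∈ Cl) (hClle : ∀ P ∈ Cl, P ≤ S)
    (c : ℕ) (hClc : ∀ P ∈ Cl, Nat.card P = c)
    (hbig : ∀ R : Subgroup Ω, R ≤ S → c < Nat.card R → HasGood F p R)
    (U : ∀ P : Subgroup Ω, Subgroup (MulAut P)) (hU : UFam F p Cl U) (P₀ : Subgroup Ω) (hP₀ : P₀ ∈ Cl)
    (hfn : ∀ Q ∈ Cl, Nat.card (normalizerIn S Q) ≤ Nat.card (normalizerIn S P₀))
    (hTgt : ∀ P ∈ Cl, Below F P P₀) (hnt : ∃ h ∈ normK S P₀ (U P₀), h ∉ P₀) :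
    ∃ (P₁ Phat : Subgroup Ω) (hPP : P₁ ≤ Phat), P₁ ∈ Cl ∧ (∀ P ∈ Cl, Below F P P₁) ∧
      Phat = normK S P₁ (U P₁) ∧ IsGoodK F p Phat (stabK P₁ ⊤ P₁ Phat hPP) := by
  have hP₀S := hClle P₀ hP₀
  have hPP₀ : P₀ ≤ normK S P₀ (U P₀) := le_hat hU hP₀ hP₀S
  have hhatS : normK S P₀ (U P₀) ≤ S := normK_le S P₀ (U P₀)
  have hcard : c < Nat.card (normK S P₀ (U P₀)) := by
    obtain ⟨h, hh, hhP⟩ := hnt
    have hlt : P₀ < normK S P₀ (U P₀) := lt_of_le_of_ne hPP₀ (fun heq => hhP (heq ▸ hh))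
    have := fs_card_lt_of_lt hlt hhatS
    rwa [hClc P₀ hP₀] at this
  obtain ⟨R₀, e, he, hgood⟩ := exists_good_pair p F (hbig _ hhatS hcard) (stabK P₀ ⊤ P₀ _ hPP₀)
  have hpt : PIso F P₀ (imgSub e P₀) e := pIso_imgSub he hPP₀
  have hRN : normK S P₀ (U P₀) ≤ normalizerIn S P₀ := normK_le_normalizerIn S P₀ (U P₀)
  obtain ⟨χ, hχ, -, D, X, β, hRD, hβ, hKD, hD, hX, Hβ⟩ :=
    pointed_extend p hS F e hpt hRN (stabK P₀ ⊤ P₀ _ hPP₀) le_rfl hgood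
  have hDeq : D = normalizerIn S P₀ := by
    apply le_antisymm hD
    intro g hg
    apply hKD
    have hgn : g ∈ Subgroup.normalizer (normK S P₀ (U P₀) : Set Ω) := hat_normal hU hP₀ hP₀S hg
    refine ⟨hg.1, conjAut _ g hgn, ?_, fun x => rfl⟩
    rw [mem_stabK_top_iff]
    intro x
    rw [conjAut_apply]
    exact (Subgroup.mem_normalizer_iff.mp hg.2 x).symm
  subst hDeq
  have hP₁Cl : imgSub e P₀ ∈ Cl := hClconj P₀ hP₀ _ hpt.isConj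
  have hB01 : Below F P₀ (imgSub e P₀) := ⟨X, β, hX, hβ⟩
  have hTgt1 : ∀ P ∈ Cl, Below F P (imgSub e P₀) := fun P hP => (hTgt P hP).trans hB01
  have hXeq : X = normalizerIn S (imgSub e P₀) := by
    haveI : Finite (normalizerIn S (imgSub e P₀)) := fs_finite_of_le (fs_normalizerIn_le S _)
    apply Subgroup.eq_of_le_of_card_ge hX
    rw [← hβ.card_eq']
    exact hfn _ hP₁Cl
  subst hXeq
  have hR₀eq : R₀ = normK S (imgSub e P₀) (U (imgSub e P₀)) := by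
    apply le_antisymm
    · intro y hy
      have h1 := Hβ (χ⁻¹ (e.symm ⟨y, hy⟩))
      rw [MulAut.apply_inv_self, MulEquiv.apply_symm_apply] at h1
      have h2 := hat_transport hU hP₀ β hβ (fs_normalizerIn_le S _)
        ⟨_, hRD (χ⁻¹ (e.symm ⟨y, hy⟩)).2⟩ (χ⁻¹ (e.symm ⟨y, hy⟩)).2
      rw [h1] at h2
      exact h2
    · intro g hg
      have hgN : g ∈ normalizerIn S (imgSub e P₀) := normK_le_normalizerIn S _ _ hg
      have h2 := hat_transport hU hP₁Cl β.symm hβ.symm (fs_normalizerIn_le S _) ⟨g, hgN⟩ hg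
      have h3 := Hβ ⟨_, h2⟩
      have h4 : (⟨((⟨((β.symm ⟨g, hgN⟩ : normalizerIn S P₀) : Ω), h2⟩ : normK S P₀ (U P₀)) : Ω), hRD h2⟩ :
          normalizerIn S P₀) = β.symm ⟨g, hgN⟩ := rfl
      rw [h4, MulEquiv.apply_symm_apply] at h3
      simp only at h3
      rw [h3]
      exact (e _).2
  have hKtr : trAut e (stabK P₀ ⊤ P₀ _ hPP₀) = stabK (imgSub e P₀) ⊤ (imgSub e P₀) R₀ hpt.2.2.1 := by
    rw [trAut_stabK_self_eq ⊤ hPP₀ hpt.2.2.1 e hpt.2.2.2, trAut_top]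
  rw [hKtr] at hgood
  exact ⟨imgSub e P₀, R₀, hpt.2.2.1, hP₁Cl, hTgt1, hR₀eq, hgood⟩

end Cfsg.Agent.Lib.Helper9.H9Sat
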