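import Mathlib
import Cfsg.Prelude.Def_FusionSystem
import Cfsg.Agent.Lib.Helper9.SatCrit7

set_option autoImplicit false

namespace Cfsg.Agent.Lib.Helper9.H9Sat

open Cfsg Cfsg.FusionSystem Cfsg.Agent.Lib.Helper9

variable {Ω : Type*} [Group Ω] {S : Subgroup Ω}

/-- The context of the endgame. -/
structure EndCtx (F : FusionSystem S) (p : ℕ) (Cl : Set (Subgroup Ω)) (c : ℕ)
    (U : ∀ P : Subgroup Ω, Subgroup (MulAut P)) (P₁ Phat : Subgroup Ω) (hPP : P₁ ≤ Phat) : Prop where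
  hS : IsPGroup p S
  conj : ∀ P ∈ Cl, ∀ Q, F.IsConj P Q → Q ∈ Cl
  le : ∀ P ∈ Cl, P ≤ S
  card : ∀ P ∈ Cl, Nat.card P = c
  big : ∀ R : Subgroup Ω, R ≤ S → c < Nat.card R → HasGood F p R
  ufam : UFam F p Cl U
  mem : P₁ ∈ Cl
  tgt : ∀ P ∈ Cl, Below F P P₁
  hat : Phat = normK S P₁ (U P₁)
  good : IsGoodK F p Phat (stabK P₁ ⊤ P₁ Phat hPP)

/-- The automorphisms of `P₁` which are restrictions of automorphisms of `Phat` in the system. -/
def Bsub (F : FusionSystem S) (P₁ Phat : Subgroup Ω) (hPP : P₁ ≤ Phat) : Subgroup (MulAut P₁) :=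
  (⊤ : Subgroup ↥(F.autGroup Phat ⊓ stabK P₁ ⊤ P₁ Phat hPP)).map (restrictHom F ⊤ P₁ Phat hPP hPP)

theorem mem_Bsub_iff (F : FusionSystem S) (P₁ Phat : Subgroup Ω) (hPP : P₁ ≤ Phat) (b : MulAut P₁) :
    b ∈ Bsub F P₁ Phat hPP ↔ ∃ β ∈ F.autGroup Phat,
      ∃ h : (∀ x : Phat, ((β x : Phat) : Ω) ∈ P₁ ↔ (x : Ω) ∈ P₁), restrictAut hPP β h = b := by
  constructor
  · rintro ⟨⟨β, hβF, hβK⟩, -, rfl⟩
    exact ⟨β, hβF, hβK.1, rfl⟩
  · rintro ⟨β, hβF, h, rfl⟩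
    exact ⟨⟨β, hβF, (mem_stabK_top_iff hPP β).mpr h⟩, Subgroup.mem_top _, rfl⟩

section
variable [Finite S] {F : FusionSystem S} {p : ℕ} [Fact p.Prime] {Cl : Set (Subgroup Ω)} {c : ℕ}
  {U : ∀ P : Subgroup Ω, Subgroup (MulAut P)} {P₁ Phat : Subgroup Ω} {hPP : P₁ ≤ Phat}

theorem EndCtx.P₁_le (ctx : EndCtx F p Cl c U P₁ Phat hPP) : P₁ ≤ S := ctx.le P₁ ctx.mem

theorem EndCtx.hat_le (ctx : EndCtx F p Cl c U P₁ Phat hPP) : Phat ≤ S := by
  rw [ctx.hat]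
  exact normK_le S P₁ (U P₁)

theorem EndCtx.hat_le_norm (ctx : EndCtx F p Cl c U P₁ Phat hPP) : Phat ≤ normalizerIn S P₁ := by
  rw [ctx.hat]
  exact normK_le_normalizerIn S P₁ (U P₁)

theorem EndCtx.norm_le (ctx : EndCtx F p Cl c U P₁ Phat hPP) {g : Ω} (hg : g ∈ normalizerIn S P₁) :
    g ∈ Subgroup.normalizer (Phat : Set Ω) := by
  have := hat_normal ctx.ufam ctx.mem ctx.P₁_le hg
  rw [← ctx.hat] at this
  exact this

theorem autInducedBy_le_Bsub (ctx : EndCtx F p Cl c U P₁ Phat hPP) :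
    autInducedBy S P₁ ≤ Bsub F P₁ Phat hPP := by
  intro α hα
  obtain ⟨g, hgS, Hg⟩ := (mem_autInducedBy_iff S P₁ α).mp hα
  have hgN : g ∈ normalizerIn S P₁ := ⟨hgS, mem_normalizer_of_induces α g Hg⟩
  have hgn := ctx.norm_le hgN
  rw [mem_Bsub_iff]
  refine ⟨conjAut Phat g hgn, ?_, ?_, ?_⟩
  · exact autInducedBy_le_autGroup F ctx.hat_le ((mem_autInducedBy_iff S Phat _).mpr ⟨g, hgS, fun x => rfl⟩)
  · intro x
    rw [conjAut_apply]
    exact (Subgroup.mem_normalizer_iff.mp hgN.2 x).symm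
  · ext x
    rw [restrictAut_apply, conjAut_apply, Hg]

/-- Pointed isomorphisms between subgroups of `N_S(P₁)` preserve the `U`-normalizer. -/
theorem hat_preserved (ctx : EndCtx F p Cl c U P₁ Phat hPP) {R R' : Subgroup Ω} (θ : R ≃* R')
    (hθ : PIso F P₁ P₁ θ) (g : R) (hg : (g : Ω) ∈ Phat) : ((θ g : R') : Ω) ∈ Phat := by
  rw [ctx.hat] at hg ⊢
  exact hat_transport ctx.ufam ctx.mem θ hθ hθ.1.le_right g hg

/-- Base case: if `Phat ≤ R` the restriction lies in `B`. -/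
theorem lemmaH_base (ctx : EndCtx F p Cl c U P₁ Phat hPP) {R R' : Subgroup Ω} (θ : R ≃* R')
    (hθ : PIso F P₁ P₁ θ) (hPhatR : Phat ≤ R) : hθ.res ∈ Bsub F P₁ Phat hPP := by
  haveI : Finite Phat := fs_finite_of_le ctx.hat_le
  have hiff : ∀ x : R, (x : Ω) ∈ Phat ↔ ((θ x : R') : Ω) ∈ Phat := by
    intro x
    constructor
    · exact hat_preserved ctx θ hθ x
    · intro hx
      have := hat_preserved ctx θ.symm hθ.symm (θ x) hx
      rwa [MulEquiv.symm_apply_apply] at this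
  have hPhatR' : Phat ≤ R' := by
    let f : Phat → Phat := fun x => ⟨θ ⟨x, hPhatR x.2⟩, (hiff _).mp x.2⟩
    have hf : Function.Injective f := by
      intro a b hab
      have h1 : ((θ ⟨a, hPhatR a.2⟩ : R') : Ω) = θ ⟨b, hPhatR b.2⟩ :=
        congrArg (fun z : Phat => (z : Ω)) hab
      have h2 := θ.injective (Subtype.ext h1)
      exact Subtype.ext (congrArg (fun z : R => (z : Ω)) h2)
    have hsurj := Finite.surjective_of_injective hf
    intro y hy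
    obtain ⟨x, hx⟩ := hsurj ⟨y, hy⟩
    have h1 : ((θ ⟨x, hPhatR x.2⟩ : R') : Ω) = y := congrArg (fun z : Phat => (z : Ω)) hx
    rw [← h1]
    exact (θ _).2
  have hθ' : PIso F Phat Phat θ := ⟨hθ.1, hPhatR, hPhatR', hiff⟩
  rw [mem_Bsub_iff]
  refine ⟨hθ'.res, hθ'.res_isFIso.mem_autGroup, ?_, ?_⟩
  · intro x
    rw [hθ'.res_apply]
    exact (hθ.2.2.2 ⟨x, hPhatR x.2⟩).symm
  · ext x
    rfl

/-- If `Phat` is not contained in `R ≤ N_S(P₁)`, some element of `Phat` outside `R` normalizes `R`. -/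
theorem exists_hat_normalizing (ctx : EndCtx F p Cl c U P₁ Phat hPP) {R : Subgroup Ω}
    (hR : R ≤ normalizerIn S P₁) (hnR : ¬ Phat ≤ R) :
    ∃ h ∈ Phat, h ∉ R ∧ h ∈ Subgroup.normalizer (R : Set Ω) := by
  have hRS : R ≤ S := hR.trans (fs_normalizerIn_le S P₁)
  have hMS : R ⊔ Phat ≤ S := sup_le hRS ctx.hat_le
  haveI : Finite (R ⊔ Phat : Subgroup Ω) := fs_finite_of_le hMS
  have hlt : R < R ⊔ Phat := lt_of_le_of_ne le_sup_left (fun h => hnR (h ▸ le_sup_right))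
  have h1 := fs_lt_normalizerIn p (ctx.hS.to_le hMS) hlt
  obtain ⟨g, hgN, hgR⟩ := SetLike.exists_of_lt h1
  have hLE : R ≤ Subgroup.normalizer (Phat : Set Ω) := fun r hr => ctx.norm_le (hR hr)
  have h2 : g ∈ ((R ⊔ Phat : Subgroup Ω) : Set Ω) := hgN.1
  rw [Subgroup.coe_mul_of_left_le_normalizer_right R Phat hLE] at h2
  obtain ⟨r, hr, h, hh, rfl⟩ := h2
  refine ⟨h, hh, fun hhR => hgR (R.mul_mem hr hhR), ?_⟩
  have h3 : h = r⁻¹ * (r * h) := by group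
  rw [h3]
  exact Subgroup.mul_mem _ (Subgroup.inv_mem _ (Subgroup.le_normalizer hr)) hgN.2

/-- An element of `Phat` normalizing `R ⊇ P₁` lies in the `K`-normalizer of `R` for `K` the `U`-stabilizer. -/
theorem hat_mem_normK (ctx : EndCtx F p Cl c U P₁ Phat hPP) {R : Subgroup Ω} (hPR : P₁ ≤ R) {h : Ω}
    (hh : h ∈ Phat) (hn : h ∈ Subgroup.normalizer (R : Set Ω)) :
    h ∈ normK S R (stabK P₁ (U P₁) P₁ R hPR) := by
  rw [ctx.hat] at hh
  obtain ⟨hhS, κ, hκ, Hκ⟩ := hh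
  have hnP : h ∈ Subgroup.normalizer (P₁ : Set Ω) := mem_normalizer_of_induces κ h Hκ
  refine ⟨hhS, conjAut R h hn, ⟨fun x => ?_, κ, hκ, fun x => ?_⟩, fun x => rfl⟩
  · rw [conjAut_apply]
    exact (Subgroup.mem_normalizer_iff.mp hnP x).symm
  · rw [conjAut_apply, Hκ]

end

end Cfsg.Agent.Lib.Helper9.H9Sat
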