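import Mathlib
import Cfsg.Prelude.Def_FusionSystem
import Cfsg.Agent.Lib.Helper9.SatCrit8

set_option autoImplicit false
set_option maxHeartbeats 1000000

namespace Cfsg.Agent.Lib.Helper9.H9Sat

open Cfsg Cfsg.FusionSystem Cfsg.Agent.Lib.Helper9

variable {Ω : Type*} [Group Ω] {S : Subgroup Ω}

variable [Finite S] {F : FusionSystem S} {p : ℕ} [Fact p.Prime] {Cl : Set (Subgroup Ω)} {c : ℕ}
  {U : ∀ P : Subgroup Ω, Subgroup (MulAut P)} {P₁ Phat : Subgroup Ω} {hPP : P₁ ≤ Phat}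

/-- The inductive step of Lemma H. -/
theorem lemmaH_step (ctx : EndCtx F p Cl c U P₁ Phat hPP) {R R' : Subgroup Ω} (θ : R ≃* R')
    (hθ : PIso F P₁ P₁ θ) (hR : R ≤ normalizerIn S P₁) (hR' : R' ≤ normalizerIn S P₁)
    (hc : c < Nat.card R) (hnR : ¬ Phat ≤ R) (hnR' : ¬ Phat ≤ R')
    (IH : ∀ (D Y : Subgroup Ω) (ξ : D ≃* Y) (hξ : PIso F P₁ P₁ ξ), D ≤ normalizerIn S P₁ →
      Y ≤ normalizerIn S P₁ → Nat.card R < Nat.card D → hξ.res ∈ Bsub F P₁ Phat hPP) :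
    hθ.res ∈ Bsub F P₁ Phat hPP := by
  have hS := ctx.hS
  have hP₁S := ctx.P₁_le
  have hRS : R ≤ S := hθ.1.le_left
  have hPR := hθ.2.1
  have hPR' := hθ.2.2.1
  obtain ⟨R₀, e, he, hgood_e⟩ := exists_good_pair p F (ctx.big R hRS hc) (stabK P₁ (U P₁) P₁ R hPR)
  have hpt : PIso F P₁ (imgSub e P₁) e := pIso_imgSub he hPR
  obtain ⟨χ, hχ, hχ1, D, X, β, hRD, hβ, hKD, hD, hX, Hβ⟩ :=
    pointed_extend p hS F e hpt hR (stabK P₁ (U P₁) P₁ R hPR) (stabK_self_le_top _ _) hgood_e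
  have hpt' : PIso F P₁ (imgSub e P₁) (θ.symm.trans e) := hθ.symm.trans hpt
  have hUtr : trAut (pres θ.symm hPR' hPR hθ.symm.2.2.2) (U P₁) = U P₁ :=
    ctx.ufam.transport P₁ ctx.mem P₁ _ (pres_isFIso hθ.symm.1 hPR' hPR hθ.symm.2.2.2)
  have hKeq : trAut θ.symm (stabK P₁ (U P₁) P₁ R' hPR') = stabK P₁ (U P₁) P₁ R hPR := by
    rw [trAut_stabK_self_eq (U P₁) hPR' hPR θ.symm hθ.symm.2.2.2, hUtr]
  have hgood_e' : IsGoodK F p R₀ (trAut (θ.symm.trans e) (stabK P₁ (U P₁) P₁ R' hPR')) := by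
    rw [← trAut_trans, hKeq]
    exact hgood_e
  obtain ⟨χ', hχ', hχ'1, D', X', β', hRD', hβ', hKD', hD', hX', Hβ'⟩ :=
    pointed_extend p hS F (θ.symm.trans e) hpt' hR' (stabK P₁ (U P₁) P₁ R' hPR')
      (stabK_self_le_top _ _) hgood_e'
  have hcD : Nat.card R < Nat.card D := by
    obtain ⟨h, hh, hhR, hhn⟩ := exists_hat_normalizing ctx hR hnR
    have hlt : R < D := lt_of_le_of_ne hRD (fun heq => hhR (heq ▸ hKD (hat_mem_normK ctx hPR hh hhn)))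
    exact fs_card_lt_of_lt hlt (hD.trans (fs_normalizerIn_le S P₁))
  have hcD' : Nat.card R < Nat.card D' := by
    obtain ⟨h, hh, hhR, hhn⟩ := exists_hat_normalizing ctx hR' hnR'
    have hlt : R' < D' := lt_of_le_of_ne hRD' (fun heq => hhR (heq ▸ hKD' (hat_mem_normK ctx hPR' hh hhn)))
    have := fs_card_lt_of_lt hlt (hD'.trans (fs_normalizerIn_le S P₁))
    rw [hθ.card_eq']
    exact this
  have hPstar : imgSub e P₁ ∈ Cl := ctx.conj P₁ ctx.mem _ hpt.isConj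
  obtain ⟨Xs, ψs, hXs, hψs⟩ := ctx.tgt _ hPstar
  obtain ⟨Y, ψX, hψX, hY, HψX⟩ := hψs.restrict hβ.2.2.1 hX
  obtain ⟨Y', ψX', hψX', hY', HψX'⟩ := hψs.restrict hβ'.2.2.1 hX'
  have hξ : PIso F P₁ P₁ (β.trans ψX) := hβ.trans hψX
  have hξ' : PIso F P₁ P₁ (β'.trans ψX') := hβ'.trans hψX'
  have hξB := IH D Y _ hξ hD (hY.trans hXs) hcD
  have hξ'B := IH D' Y' _ hξ' hD' (hY'.trans hXs) hcD'
  obtain ⟨hχpres, hχU⟩ := (mem_stabK_self_iff (U P₁) hPR χ).mp hχ.2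
  obtain ⟨hχ'pres, hχ'U⟩ := (mem_stabK_self_iff (U P₁) hPR' χ').mp hχ'.2
  have hInnB : ∀ b : MulAut P₁, b ∈ Inn P₁ → b ∈ Bsub F P₁ Phat hPP := by
    rintro _ ⟨a, rfl⟩
    apply autInducedBy_le_Bsub ctx
    rw [mem_autInducedBy_iff]
    refine ⟨a, hP₁S a.2, fun x => ?_⟩
    simp [MulAut.conj_apply]
  have hχB : restrictAut hPR χ hχpres ∈ Bsub F P₁ Phat hPP := by
    rcases ctx.ufam.cases with hc1 | hc2
    · rw [hc1 P₁ ctx.mem] at hχU
      exact hInnB _ hχU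
    · have hpg : IsPGroup p ↥(F.autGroup R ⊓ stabK P₁ (U P₁) P₁ R hPR) :=
        (isPGroup_stabK p hS hPR hR (U P₁) (hc2 P₁ ctx.mem).1 (hc2 P₁ ctx.mem).2).to_le inf_le_right
      have h1 := hχ1 hpg
      subst h1
      have : restrictAut hPR (1 : MulAut R) hχpres = 1 := by
        ext x
        rfl
      rw [this]
      exact Subgroup.one_mem _
  have hχ'B : restrictAut hPR' χ' hχ'pres ∈ Bsub F P₁ Phat hPP := by
    rcases ctx.ufam.cases with hc1 | hc2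
    · rw [hc1 P₁ ctx.mem] at hχ'U
      exact hInnB _ hχ'U
    · have hpg : IsPGroup p ↥(F.autGroup R' ⊓ stabK P₁ (U P₁) P₁ R' hPR') :=
        (isPGroup_stabK p hS hPR' hR' (U P₁) (hc2 P₁ ctx.mem).1 (hc2 P₁ ctx.mem).2).to_le inf_le_right
      have h1 := hχ'1 hpg
      subst h1
      have : restrictAut hPR' (1 : MulAut R') hχ'pres = 1 := by
        ext x
        rfl
      rw [this]
      exact Subgroup.one_mem _
  -- the comparison function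
  classical
  let Ψ : Ω → Ω := fun y => if h : y ∈ normalizerIn S (imgSub e P₁) then ((ψs ⟨y, h⟩ : Xs) : Ω) else 1
  have hΨ : ∀ w : P₁, ((hξ.res w : P₁) : Ω) = Ψ ((e (χ ⟨w, hPR w.2⟩) : R₀) : Ω) := by
    intro w
    rw [hξ.res_apply]
    show ((ψX (β ⟨w, _⟩) : Y) : Ω) = _
    rw [HψX, ← Hβ ⟨w, hPR w.2⟩]
    show _ = dite _ _ _
    rw [dif_pos]
  have hΨ' : ∀ w : P₁, ((hξ'.res w : P₁) : Ω) = Ψ (((θ.symm.trans e) (χ' ⟨w, hPR' w.2⟩) : R₀) : Ω) := by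
    intro w
    rw [hξ'.res_apply]
    show ((ψX' (β' ⟨w, _⟩) : Y') : Ω) = _
    rw [HψX', ← Hβ' ⟨w, hPR' w.2⟩]
    show _ = dite _ _ _
    rw [dif_pos]
  have key : (hξ'.res : MulAut P₁) * (restrictAut hPR' χ' hχ'pres)⁻¹ * (hθ.res : MulAut P₁) =
      (hξ.res : MulAut P₁) * (restrictAut hPR χ hχpres)⁻¹ := by
    ext x
    rw [MulAut.mul_apply, MulAut.mul_apply, MulAut.mul_apply, hΨ, hΨ']
    have h1 : χ ⟨((restrictAut hPR χ hχpres)⁻¹ x : P₁), hPR ((restrictAut hPR χ hχpres)⁻¹ x).2⟩ =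
        ⟨x, hPR x.2⟩ := by
      apply Subtype.ext
      rw [← restrictAut_apply hPR χ hχpres, MulAut.apply_inv_self]
    have h2 : χ' ⟨((restrictAut hPR' χ' hχ'pres)⁻¹ (hθ.res x) : P₁),
        hPR' ((restrictAut hPR' χ' hχ'pres)⁻¹ (hθ.res x)).2⟩ = θ ⟨x, hPR x.2⟩ := by
      apply Subtype.ext
      rw [← restrictAut_apply hPR' χ' hχ'pres, MulAut.apply_inv_self, hθ.res_apply]
    rw [h1, h2]
    show Ψ ((e (θ.symm (θ ⟨x, hPR x.2⟩)) : R₀) : Ω) = _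
    rw [MulEquiv.symm_apply_apply]
  have hfin : (hθ.res : MulAut P₁) = restrictAut hPR' χ' hχ'pres * (hξ'.res : MulAut P₁)⁻¹ *
      ((hξ.res : MulAut P₁) * (restrictAut hPR χ hχpres)⁻¹) := by
    rw [← key]
    group
  rw [hfin]
  exact Subgroup.mul_mem _ (Subgroup.mul_mem _ hχ'B (Subgroup.inv_mem _ hξ'B))
    (Subgroup.mul_mem _ hξB (Subgroup.inv_mem _ hχB))

/-- Lemma H: pointed isomorphisms between subgroups of `N_S(P₁)` properly containing `P₁` restrict on `P₁` to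
members of `B`. -/
theorem lemmaH (ctx : EndCtx F p Cl c U P₁ Phat hPP) : ∀ n : ℕ, ∀ (R R' : Subgroup Ω) (θ : R ≃* R')
    (hθ : PIso F P₁ P₁ θ), R ≤ normalizerIn S P₁ → R' ≤ normalizerIn S P₁ → c < Nat.card R →
    Nat.card S < Nat.card R + n → hθ.res ∈ Bsub F P₁ Phat hPP := by
  intro n
  induction n with
  | zero =>
    intro R R' θ hθ _ _ _ hn
    have := fs_card_le_of_le hθ.1.le_left
    omega
  | succ n ih =>
    intro R R' θ hθ hR hR' hc hn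
    by_cases h1 : Phat ≤ R
    · exact lemmaH_base ctx θ hθ h1
    by_cases h2 : Phat ≤ R'
    · have h3 := lemmaH_base ctx θ.symm hθ.symm h2
      have h4 : (hθ.res : MulAut P₁) = (hθ.symm.res : MulAut P₁)⁻¹ := by
        ext x
        rfl
      rw [h4]
      exact Subgroup.inv_mem _ h3
    · apply lemmaH_step ctx θ hθ hR hR' hc h1 h2
      intro D Y ξ hξ hD hY hlt
      exact ih D Y ξ hξ hD hY (by omega) (by omega)

end Cfsg.Agent.Lib.Helper9.H9Sat
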