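import Mathlib
import Cfsg.Prelude.Def_FusionSystem
import Cfsg.Agent.Lib.Helper9.SatCrit9

set_option autoImplicit false
set_option maxHeartbeats 1000000

namespace Cfsg.Agent.Lib.Helper9.H9Sat

open Cfsg Cfsg.FusionSystem Cfsg.Agent.Lib.Helper9

variable {Ω : Type*} [Group Ω] {S : Subgroup Ω}

variable [Finite S] {F : FusionSystem S} {p : ℕ} [Fact p.Prime] {Cl : Set (Subgroup Ω)} {c : ℕ}
  {U : ∀ P : Subgroup Ω, Subgroup (MulAut P)} {P₁ Phat : Subgroup Ω} {hPP : P₁ ≤ Phat}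

/-- Lemma G: every automorphism of `P₁` in the system is the restriction of an automorphism of `Phat`. -/
theorem lemmaG (ctx : EndCtx F p Cl c U P₁ Phat hPP) (ℋ : Set (Subgroup Ω))
    (hgen : ∀ E : FusionSystem S, (∀ P ∈ ℋ, F.Hom P ⊆ E.Hom P) → F ≤ E)
    (hClℋ : ∀ P ∈ Cl, P ∉ ℋ) (hClS : ∀ P ∈ Cl, P ≠ S) :
    F.autGroup P₁ ≤ Bsub F P₁ Phat hPP := by
  have hH : ∀ (R R' : Subgroup Ω) (θ : R ≃* R') (hθ : PIso F P₁ P₁ θ), R ≤ normalizerIn S P₁ →
      R' ≤ normalizerIn S P₁ → c < Nat.card R → hθ.res ∈ Bsub F P₁ Phat hPP :=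
    fun R R' θ hθ hR hR' hc => lemmaH ctx (Nat.card S + 1) R R' θ hθ hR hR' hc (by omega)
  have hmain := gen_principle p ctx.hS F ℋ hgen Cl ctx.conj hClℋ hClS
    (fun P' P'' ε => ∀ (X' X'' : Subgroup Ω) (ψ' : normalizerIn S P' ≃* X')
      (ψ'' : normalizerIn S P'' ≃* X'') (h' : PIso F P' P₁ ψ') (h'' : PIso F P'' P₁ ψ''),
      X' ≤ normalizerIn S P₁ → X'' ≤ normalizerIn S P₁ →
      (h'.res.symm.trans (ε.trans h''.res) : MulAut P₁) ∈ Bsub F P₁ Phat hPP)
    (by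
      intro P' hP' P'' R' R'' e he hne h1 h2 X' X'' ψ' ψ'' h' h'' hX' hX''
      obtain ⟨Y', ψR', hψR', hY', HψR'⟩ := h'.restrict he.2.1 h1
      obtain ⟨Y'', ψR'', hψR'', hY'', HψR''⟩ := h''.restrict he.2.2.1 h2
      have hθ : PIso F P₁ P₁ (ψR'.symm.trans (e.trans ψR'')) := hψR'.symm.trans (he.trans hψR'')
      have hc : c < Nat.card Y' := by
        have hlt : P' < R' := lt_of_le_of_ne he.2.1 hne
        have := fs_card_lt_of_lt hlt he.1.le_left
        rw [ctx.card P' hP', hψR'.card_eq'] at this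
        exact this
      have hB := hH Y' Y'' _ hθ (hY'.trans hX') (hY''.trans hX'') hc
      have heq : (h'.res.symm.trans (he.res.trans h''.res) : MulAut P₁) = hθ.res := by
        ext x
        obtain ⟨x', rfl⟩ := h'.res.surjective x
        rw [hθ.res_apply]
        show ((h''.res (he.res (h'.res.symm (h'.res x'))) : P₁) : Ω) =
          ((ψR'' (e (ψR'.symm ⟨(h'.res x' : P₁), _⟩)) : Y'') : Ω)
        rw [MulEquiv.symm_apply_apply]
        have h3 : ψR' ⟨x', he.2.1 x'.2⟩ = ⟨(h'.res x' : P₁), hψR'.2.2.1 (h'.res x').2⟩ := by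
          apply Subtype.ext
          rw [HψR']
          rfl
        rw [← h3, MulEquiv.symm_apply_apply, HψR'']
        rfl
      rw [heq]
      exact hB)
    (by
      intro P' hP' P'' hP'' P''' hP''' ε₁ ε₂ _ _ hΦ₁ hΦ₂ X' X''' ψ' ψ''' h' h''' hX' hX'''
      obtain ⟨X'', ψ'', hX'', h''⟩ := ctx.tgt P'' hP''
      have a := hΦ₁ X' X'' ψ' ψ'' h' h'' hX' hX''
      have b := hΦ₂ X'' X''' ψ'' ψ''' h'' h''' hX'' hX'''
      have heq : (h'.res.symm.trans ((ε₁.trans ε₂).trans h'''.res) : MulAut P₁) =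
          (h''.res.symm.trans (ε₂.trans h'''.res) : MulAut P₁) *
            (h'.res.symm.trans (ε₁.trans h''.res) : MulAut P₁) := by
        ext x
        rw [MulAut.mul_apply]
        simp
      rw [heq]
      exact Subgroup.mul_mem _ b a)
    (by
      intro P' hP' P'' hP'' ε _ hΦ X'' X' ψ'' ψ' h'' h' hX'' hX'
      have a := hΦ X' X'' ψ' ψ'' h' h'' hX' hX''
      have heq : (h''.res.symm.trans (ε.symm.trans h'.res) : MulAut P₁) =
          (h'.res.symm.trans (ε.trans h''.res) : MulAut P₁)⁻¹ := by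
        ext x
        rfl
      rw [heq]
      exact Subgroup.inv_mem _ a)
  intro α hα
  have hN : normalizerIn S P₁ ≤ S := fs_normalizerIn_le S P₁
  have hrefl : PIso F P₁ P₁ (MulEquiv.refl (normalizerIn S P₁)) :=
    pIso_refl F hN (le_normalizerIn_self ctx.P₁_le)
  have h1 := hmain P₁ ctx.mem P₁ (α : P₁ ≃* P₁) (isFIso_of_mem_autGroup F ctx.P₁_le hα)
    _ _ (MulEquiv.refl _) (MulEquiv.refl _) hrefl hrefl le_rfl le_rfl
  have heq : (hrefl.res.symm.trans ((α : P₁ ≃* P₁).trans hrefl.res) : MulAut P₁) = α := by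
    ext x
    rfl
  rw [heq] at h1
  exact h1

end Cfsg.Agent.Lib.Helper9.H9Sat
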