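import Mathlib
import Cfsg.Prelude.Def_FusionSystem
import Cfsg.Agent.Lib.Helper9.SatCrit10

set_option autoImplicit false
set_option maxHeartbeats 1000000

namespace Cfsg.Agent.Lib.Helper9.H9Sat

open Cfsg Cfsg.FusionSystem Cfsg.Agent.Lib.Helper9

/-- A `p`-subgroup whose image lies in the image of a Sylow subgroup `T` can be conjugated into `T` by an element of
the kernel. -/
theorem exists_ker_conj {G H : Type*} [Group G] [Group H] [Finite G] {p : ℕ} [Fact p.Prime] (f : G →* H)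
    {T Q : Subgroup G} (hT : IsSylIn p T ⊤) (hQ : IsPGroup p Q) (hfQ : ∀ x ∈ Q, ∃ t ∈ T, f t = f x) :
    ∃ γ ∈ f.ker, ∀ x ∈ Q, γ * x * γ⁻¹ ∈ T := by
  have hQle : Q ≤ T ⊔ f.ker := by
    intro x hx
    obtain ⟨t, ht, htx⟩ := hfQ x hx
    have : x = t * (t⁻¹ * x) := by group
    rw [this]
    exact Subgroup.mul_mem_sup ht (by rw [MonoidHom.mem_ker, map_mul, map_inv, htx, inv_mul_cancel])
  have hT' : IsSylIn p T (T ⊔ f.ker) := hT.of_le le_sup_left le_top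
  obtain ⟨g, hg, Hg⟩ := hT'.exists_conj_le hQ hQle
  have hg' : g ∈ ((T ⊔ f.ker : Subgroup G) : Set G) := hg
  rw [Subgroup.mul_normal] at hg'
  obtain ⟨t, ht, γ, hγ, rfl⟩ := hg'
  refine ⟨γ, hγ, fun x hx => ?_⟩
  have h1 := Hg x hx
  have : γ * x * γ⁻¹ = t⁻¹ * (t * γ * x * (t * γ)⁻¹) * t := by group
  rw [this]
  exact T.mul_mem (T.mul_mem (T.inv_mem ht) h1) ht

variable {Ω : Type*} [Group Ω] {S : Subgroup Ω}

variable [Finite S] {F : FusionSystem S} {p : ℕ} [Fact p.Prime] {Cl : Set (Subgroup Ω)} {c : ℕ}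
  {U : ∀ P : Subgroup Ω, Subgroup (MulAut P)} {P₁ Phat : Subgroup Ω} {hPP : P₁ ≤ Phat}

/-- (I): `P₁` is fully automized. -/
theorem endgame_fullyAutomized (ctx : EndCtx F p Cl c U P₁ Phat hPP)
    (hAB : F.autGroup P₁ ≤ Bsub F P₁ Phat hPP) : F.IsFullyAutomized p P₁ := by
  have hP₁S := ctx.P₁_le
  have hp : IsPGroup p (autInducedBy S P₁) := isPGroup_autInducedBy p ctx.hS P₁
  have hle : autInducedBy S P₁ ≤ F.autGroup P₁ := autInducedBy_le_autGroup F hP₁S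
  have h1 := ctx.good.2.subgroupOf.map (restrictHom F ⊤ P₁ Phat hPP hPP)
  have hA₁ : ((autInducedBy S Phat ⊓ stabK P₁ ⊤ P₁ Phat hPP).subgroupOf
      (F.autGroup Phat ⊓ stabK P₁ ⊤ P₁ Phat hPP)).map (restrictHom F ⊤ P₁ Phat hPP hPP) ≤
      autInducedBy S P₁ := by
    rintro _ ⟨α, hα, rfl⟩
    rw [SetLike.mem_coe, Subgroup.mem_subgroupOf] at hα
    obtain ⟨g, hgS, Hg⟩ := (mem_autInducedBy_iff S Phat _).mp hα.1
    rw [mem_autInducedBy_iff]
    refine ⟨g, hgS, fun x => ?_⟩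
    rw [restrictHom_apply, Hg]
  have hAB' : F.autGroup P₁ ≤ (⊤ : Subgroup ↥(F.autGroup Phat ⊓ stabK P₁ ⊤ P₁ Phat hPP)).map
      (restrictHom F ⊤ P₁ Phat hPP hPP) := hAB
  have h3 := (h1.of_ge hA₁ (hle.trans hAB') hp).of_le hle hAB'
  exact ⟨hP₁S, h3.exists_sylow⟩

end Cfsg.Agent.Lib.Helper9.H9Sat
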