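import Mathlib
import Cfsg.Prelude.Def_FusionSystem
import Cfsg.Agent.Lib.Helper9.SatCrit11

set_option autoImplicit false
set_option maxHeartbeats 2000000

namespace Cfsg.Agent.Lib.Helper9.H9Sat

open Cfsg Cfsg.FusionSystem Cfsg.Agent.Lib.Helper9

variable {Ω : Type*} [Group Ω] {S : Subgroup Ω}

variable [Finite S] {F : FusionSystem S} {p : ℕ} [Fact p.Prime] {Cl : Set (Subgroup Ω)} {c : ℕ}
  {U : ∀ P : Subgroup Ω, Subgroup (MulAut P)} {P₁ Phat : Subgroup Ω} {hPP : P₁ ≤ Phat}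

/-- (II): `P₁` is receptive. -/
theorem endgame_receptive (ctx : EndCtx F p Cl c U P₁ Phat hPP)
    (hAB : F.autGroup P₁ ≤ Bsub F P₁ Phat hPP) : F.IsReceptive P₁ := by
  have hP₁S := ctx.P₁_le
  have hPhatS := ctx.hat_le
  haveI : Finite Phat := fs_finite_of_le hPhatS
  haveI : Finite (MulAut Phat) := inferInstance
  refine ⟨hP₁S, ?_⟩
  intro P φ hφ hφr
  obtain ⟨ε, hε, Hε⟩ := exists_isFIso_of_mem F hφ hφr
  have hPCl : P ∈ Cl := ctx.conj P₁ ctx.mem P (fs_isConj_symm F hε.isConj)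
  have hPS : P ≤ S := (F.le_of_mem hφ).1
  obtain ⟨X, ψP, hX, hψP⟩ := ctx.tgt P hPCl
  have hα : (hψP.res.symm.trans ε : MulAut P₁) ∈ F.autGroup P₁ :=
    IsFIso.mem_autGroup (hψP.res_isFIso.symm.trans hε)
  obtain ⟨β, hβF, hβpres, hβα⟩ := (mem_Bsub_iff F P₁ Phat hPP _).mp (hAB hα)
  have hαapp : ∀ y : P₁, (hψP.res.symm.trans ε : MulAut P₁) y = ε (hψP.res.symm y) := fun y => rfl
  have hNφ : extender S P φ ≤ normalizerIn S P := by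
    intro g hg
    rw [mem_extender_iff] at hg
    exact ⟨hg.1, hg.2.1⟩
  have hPNφ : P ≤ extender S P φ := fs_le_extender P φ hPS (fun x => (F.le_of_mem hφ).2 x)
  obtain ⟨D, eN, heN, hDX, HeN⟩ := hψP.restrict hPNφ hNφ
  have hDN : D ≤ normalizerIn S P₁ := hDX.trans hX
  have hDS : D ≤ S := hDN.trans (fs_normalizerIn_le S P₁)
  -- the key relation
  have hR1 : ∀ d ∈ D, ∃ h ∈ S, ∀ (y : P₁) (hy : d * (y : Ω) * d⁻¹ ∈ P₁),
      (((hψP.res.symm.trans ε : MulAut P₁) ⟨d * y * d⁻¹, hy⟩ : P₁) : Ω) =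
        h * ((hψP.res.symm.trans ε : MulAut P₁) y : P₁) * h⁻¹ := by
    intro d hd
    have hg := (eN.symm ⟨d, hd⟩).2
    rw [mem_extender_iff] at hg
    obtain ⟨hgS, hgn, h, hhS, Hh⟩ := hg
    have hgd : ((ψP ⟨(eN.symm ⟨d, hd⟩ : extender S P φ), hNφ (eN.symm ⟨d, hd⟩).2⟩ : X) : Ω) = d := by
      rw [← HeN, MulEquiv.apply_symm_apply]
    refine ⟨h, hhS, fun y hy => ?_⟩
    rw [hαapp, hαapp, Hε, Hε]
    have hx₀ : ((eN.symm ⟨d, hd⟩ : extender S P φ) : Ω) * (hψP.res.symm y : P) *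
        ((eN.symm ⟨d, hd⟩ : extender S P φ) : Ω)⁻¹ ∈ P :=
      (Subgroup.mem_normalizer_iff.mp hgn _).mp (hψP.res.symm y).2
    have h1 : hψP.res.symm ⟨d * y * d⁻¹, hy⟩ = ⟨_, hx₀⟩ := by
      rw [MulEquiv.symm_apply_eq]
      apply Subtype.ext
      rw [hψP.res_apply]
      have h2 : (⟨((⟨_, hx₀⟩ : P) : Ω), hψP.2.1 hx₀⟩ : normalizerIn S P) =
          ⟨(eN.symm ⟨d, hd⟩ : extender S P φ), hNφ (eN.symm ⟨d, hd⟩).2⟩ *
            ⟨(hψP.res.symm y : P), hψP.2.1 (hψP.res.symm y).2⟩ *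
            ⟨(eN.symm ⟨d, hd⟩ : extender S P φ), hNφ (eN.symm ⟨d, hd⟩).2⟩⁻¹ := rfl
      rw [h2, map_mul, map_mul, map_inv]
      simp only [Subgroup.coe_mul, Subgroup.coe_inv]
      rw [hgd, ← hψP.res_apply, MulEquiv.apply_symm_apply]
    rw [h1]
    exact Hh _ hx₀
  -- lifting elements of `N_S(P₁)` to automorphisms of `Phat`
  have hlift : ∀ g ∈ normalizerIn S P₁, ∃ t : ↥(F.autGroup Phat ⊓ stabK P₁ ⊤ P₁ Phat hPP),
      (t : MulAut Phat) ∈ autInducedBy S Phat ∧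
        ∀ x : Phat, (((t : MulAut Phat) x : Phat) : Ω) = g * x * g⁻¹ := by
    intro g hg
    have hgn := ctx.norm_le hg
    have hmem : conjAut Phat g hgn ∈ autInducedBy S Phat :=
      (mem_autInducedBy_iff S Phat _).mpr ⟨g, hg.1, fun x => rfl⟩
    refine ⟨⟨conjAut Phat g hgn, autInducedBy_le_autGroup F hPhatS hmem,
      (mem_stabK_top_iff hPP _).mpr (fun x => ?_)⟩, hmem, fun x => rfl⟩
    rw [conjAut_apply]
    exact (Subgroup.mem_normalizer_iff.mp hg.2 x).symm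
  have hT : IsSylIn p ((autInducedBy S Phat ⊓ stabK P₁ ⊤ P₁ Phat hPP).subgroupOf
      (F.autGroup Phat ⊓ stabK P₁ ⊤ P₁ Phat hPP)) ⊤ := ctx.good.2.subgroupOf
  have hrβ : restrictHom F ⊤ P₁ Phat hPP hPP ⟨β, hβF, (mem_stabK_top_iff hPP β).mpr hβpres⟩ =
      (hψP.res.symm.trans ε : MulAut P₁) := hβα
  have hDhatp : IsPGroup p ((autInducedBy D Phat).subgroupOf (F.autGroup Phat ⊓ stabK P₁ ⊤ P₁ Phat hPP)) :=
    (isPGroup_autInducedBy p (ctx.hS.to_le hDS) Phat).comap_subtype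
  have hfQ : ∀ x ∈ ((autInducedBy D Phat).subgroupOf (F.autGroup Phat ⊓ stabK P₁ ⊤ P₁ Phat hPP)).map
      (MulAut.conj (⟨β, hβF, (mem_stabK_top_iff hPP β).mpr hβpres⟩ :
        ↥(F.autGroup Phat ⊓ stabK P₁ ⊤ P₁ Phat hPP))).toMonoidHom,
      ∃ t ∈ (autInducedBy S Phat ⊓ stabK P₁ ⊤ P₁ Phat hPP).subgroupOf
        (F.autGroup Phat ⊓ stabK P₁ ⊤ P₁ Phat hPP),
        restrictHom F ⊤ P₁ Phat hPP hPP t = restrictHom F ⊤ P₁ Phat hPP hPP x := by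
    rintro _ ⟨y, hy, rfl⟩
    rw [SetLike.mem_coe, Subgroup.mem_subgroupOf] at hy
    obtain ⟨d, hdD, Hd⟩ := (mem_autInducedBy_iff D Phat _).mp hy
    obtain ⟨h, hhS, Hh⟩ := hR1 d hdD
    have hry : ∀ x : P₁, ((restrictHom F ⊤ P₁ Phat hPP hPP y x : P₁) : Ω) = d * x * d⁻¹ := by
      intro x
      rw [restrictHom_apply, Hd]
    have hconj : ∀ z : P₁, ((((hψP.res.symm.trans ε : MulAut P₁) * restrictHom F ⊤ P₁ Phat hPP hPP y *
        (hψP.res.symm.trans ε : MulAut P₁)⁻¹) z : P₁) : Ω) = h * z * h⁻¹ := by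
      intro z
      rw [MulAut.mul_apply, MulAut.mul_apply]
      have hmem : d * (((hψP.res.symm.trans ε : MulAut P₁)⁻¹ z : P₁) : Ω) * d⁻¹ ∈ P₁ := by
        rw [← hry]
        exact (restrictHom F ⊤ P₁ Phat hPP hPP y _).2
      have h1 := Hh ((hψP.res.symm.trans ε : MulAut P₁)⁻¹ z) hmem
      rw [MulAut.apply_inv_self] at h1
      rw [← h1]
      have h2 : restrictHom F ⊤ P₁ Phat hPP hPP y ((hψP.res.symm.trans ε : MulAut P₁)⁻¹ z) =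
          ⟨d * (((hψP.res.symm.trans ε : MulAut P₁)⁻¹ z : P₁) : Ω) * d⁻¹, hmem⟩ := Subtype.ext (hry _)
      rw [h2]
    have hhN : h ∈ normalizerIn S P₁ := ⟨hhS, mem_normalizer_of_induces _ h hconj⟩
    obtain ⟨t, htS, Ht⟩ := hlift h hhN
    refine ⟨t, ?_, ?_⟩
    · rw [Subgroup.mem_subgroupOf]
      exact ⟨htS, t.2.2⟩
    · have h3 : restrictHom F ⊤ P₁ Phat hPP hPP ((MulAut.conj (⟨β, hβF, (mem_stabK_top_iff hPP β).mpr hβpres⟩ :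
          ↥(F.autGroup Phat ⊓ stabK P₁ ⊤ P₁ Phat hPP))).toMonoidHom y) =
          (hψP.res.symm.trans ε : MulAut P₁) * restrictHom F ⊤ P₁ Phat hPP hPP y *
            (hψP.res.symm.trans ε : MulAut P₁)⁻¹ := by
        show restrictHom F ⊤ P₁ Phat hPP hPP (_ * y * _⁻¹) = _
        rw [map_mul, map_mul, map_inv, hrβ]
      rw [h3]
      ext z
      rw [hconj, restrictHom_apply, Ht]
  obtain ⟨γ, hγ, Hγ⟩ := exists_ker_conj (restrictHom F ⊤ P₁ Phat hPP hPP) hT (hDhatp.map _) hfQ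
  have hrβ' : restrictHom F ⊤ P₁ Phat hPP hPP
      (γ * ⟨β, hβF, (mem_stabK_top_iff hPP β).mpr hβpres⟩) = (hψP.res.symm.trans ε : MulAut P₁) := by
    rw [map_mul, MonoidHom.mem_ker.mp hγ, one_mul, hrβ]
  generalize hβ'def : γ * (⟨β, hβF, (mem_stabK_top_iff hPP β).mpr hβpres⟩ :
    ↥(F.autGroup Phat ⊓ stabK P₁ ⊤ P₁ Phat hPP)) = β' at hrβ'
  have hφ' : Phat.subtype.comp (β' : MulAut Phat).toMonoidHom ∈ F.Hom Phat :=
    (mem_autGroup_iff F hPhatS _).mp β'.2.1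
  have hφ'r : (Phat.subtype.comp (β' : MulAut Phat).toMonoidHom).range = Phat := by
    ext y
    constructor
    · rintro ⟨x, rfl⟩
      exact ((β' : MulAut Phat) x).2
    · intro hy
      exact ⟨(β' : MulAut Phat)⁻¹ ⟨y, hy⟩, by simp⟩
  have hDext : D ≤ extender S Phat (Phat.subtype.comp (β' : MulAut Phat).toMonoidHom) := by
    intro d hd
    rw [mem_extender_iff]
    refine ⟨hDS hd, ctx.norm_le (hDN hd), ?_⟩
    obtain ⟨cd, -, Hcd⟩ := hlift d (hDN hd)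
    have hcdD : cd ∈ (autInducedBy D Phat).subgroupOf (F.autGroup Phat ⊓ stabK P₁ ⊤ P₁ Phat hPP) := by
      rw [Subgroup.mem_subgroupOf, mem_autInducedBy_iff]
      exact ⟨d, hd, Hcd⟩
    have h1 := Hγ _ ⟨cd, hcdD, rfl⟩
    rw [Subgroup.mem_subgroupOf] at h1
    obtain ⟨s, hsS, Hs⟩ := (mem_autInducedBy_iff S Phat _).mp h1.1
    refine ⟨s, hsS, fun x hx => ?_⟩
    have h2 := Hs ((β' : MulAut Phat) x)
    have h3 : γ * (MulAut.conj (⟨β, hβF, (mem_stabK_top_iff hPP β).mpr hβpres⟩ :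
        ↥(F.autGroup Phat ⊓ stabK P₁ ⊤ P₁ Phat hPP))).toMonoidHom cd * γ⁻¹ = β' * cd * β'⁻¹ := by
      rw [← hβ'def]
      show γ * (_ * cd * _⁻¹) * γ⁻¹ = _
      group
    rw [h3] at h2
    simp only [Subgroup.coe_mul, Subgroup.coe_inv, MulAut.mul_apply, MulAut.inv_apply_self] at h2
    have h4 : (cd : MulAut Phat) x = ⟨d * x * d⁻¹, hx⟩ := Subtype.ext (Hcd x)
    rw [h4] at h2
    exact h2
  obtain ⟨ψt, hψt, Hψt⟩ := ctx.good.1.2 Phat _ hφ' hφ'r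
  have hval : ∀ x : extender S P φ, (D.subtype.comp eN.toMonoidHom) x ∈ D := fun x => (eN x).2
  refine ⟨(ψt.comp (Subgroup.inclusion hDext)).comp ((D.subtype.comp eN.toMonoidHom).codRestrict D hval),
    F.comp_mem heN.1 (fs_restrict_mem F hψt hDext) hval, ?_⟩
  intro x hxP hxN
  have h1 : ((eN ⟨x, hxN⟩ : D) : Ω) = ((hψP.res ⟨x, hxP⟩ : P₁) : Ω) := by
    rw [HeN, hψP.res_apply]
  have h2 : ((eN ⟨x, hxN⟩ : D) : Ω) ∈ Phat := by
    rw [h1]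
    exact hPP (hψP.res ⟨x, hxP⟩).2
  show ψt ⟨((eN ⟨x, hxN⟩ : D) : Ω), hDext (eN ⟨x, hxN⟩).2⟩ = φ ⟨x, hxP⟩
  rw [Hψt _ h2 _]
  show (((β' : MulAut Phat) ⟨((eN ⟨x, hxN⟩ : D) : Ω), h2⟩ : Phat) : Ω) = φ ⟨x, hxP⟩
  have h3 : (⟨((eN ⟨x, hxN⟩ : D) : Ω), h2⟩ : Phat) =
      ⟨(hψP.res ⟨x, hxP⟩ : P₁), hPP (hψP.res ⟨x, hxP⟩).2⟩ := Subtype.ext h1
  rw [h3, ← restrictHom_apply F ⊤ P₁ Phat hPP hPP β', hrβ', hαapp, MulEquiv.symm_apply_apply, Hε]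

end Cfsg.Agent.Lib.Helper9.H9Sat
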