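import Mathlib
import Cfsg.Prelude.Def_FusionSystem
import Cfsg.Agent.Lib.Helper9.SatCrit12
import Cfsg.Agent.Lib.Helper9.LargeExtra13
import Cfsg.Agent.Lib.Helper9.FusionNormal3
import Cfsg.Agent.Lib.Helper9.EssGen4

set_option autoImplicit false
set_option maxHeartbeats 1000000

namespace Cfsg.Agent.Lib.Helper9.H9Sat

open Cfsg Cfsg.FusionSystem Cfsg.Agent.Lib.Helper9

variable {Ω : Type*} [Group Ω] {S : Subgroup Ω}

theorem trAut_inn_le {P P' : Subgroup Ω} (ε : P ≃* P') : trAut ε (Inn P) ≤ Inn P' := by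
  rintro _ ⟨_, ⟨a, rfl⟩, rfl⟩
  refine ⟨ε a, ?_⟩
  ext x
  simp [MulAut.congr, MulAut.conj_apply]

theorem trAut_inn_eq {P P' : Subgroup Ω} (ε : P ≃* P') : trAut ε (Inn P) = Inn P' := by
  apply le_antisymm (trAut_inn_le ε)
  have h1 := trAut_mono ε (trAut_inn_le ε.symm)
  rwa [trAut_self_symm] at h1

theorem inn_le_autGroup (F : FusionSystem S) {P : Subgroup Ω} (hP : P ≤ S) : Inn P ≤ F.autGroup P := by
  rintro _ ⟨a, rfl⟩
  apply autInducedBy_le_autGroup F hP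
  rw [mem_autInducedBy_iff]
  refine ⟨a, hP a.2, fun x => ?_⟩
  simp [MulAut.conj_apply]

theorem isPGroup_inn (p : ℕ) (hS : IsPGroup p S) {P : Subgroup Ω} (hP : P ≤ S) : IsPGroup p (Inn P) := by
  have h1 : IsPGroup p P := hS.to_le hP
  exact h1.of_surjective (MulAut.conj : P →* MulAut P).rangeRestrict
    (MonoidHom.rangeRestrict_surjective _)

theorem trAut_pCoreMap_le [Finite S] (p : ℕ) [Fact p.Prime] (F : FusionSystem S) {P P' : Subgroup Ω}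
    (ε : P ≃* P') (hε : IsFIso F ε) :
    trAut ε ((pCore p ↥(F.autGroup P)).map (F.autGroup P).subtype) ≤
      (pCore p ↥(F.autGroup P')).map (F.autGroup P').subtype := by
  haveI : Finite P := fs_finite_of_le hε.le_left
  haveI : Finite (MulAut P) := inferInstance
  apply LargeExtra.le_pCoreMap
  · rw [← hε.trAut_autGroup]
    exact trAut_mono ε (LargeExtra.pCoreMap_le p _)
  · exact (LargeExtra.pCoreMap_isPGroup p (F.autGroup P)).map _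
  · rintro h hh _ ⟨κ, hκ, rfl⟩
    have hh₀ : MulAut.congr ε.symm h ∈ F.autGroup P := hε.symm.congr_mem_autGroup hh
    have h1 := LargeExtra.pCoreMap_conj_mem p (F.autGroup P) hh₀ hκ
    refine ⟨_, h1, ?_⟩
    ext x
    simp [MulAut.congr, MulAut.mul_apply]

theorem trAut_pCoreMap_eq [Finite S] (p : ℕ) [Fact p.Prime] (F : FusionSystem S) {P P' : Subgroup Ω}
    (ε : P ≃* P') (hε : IsFIso F ε) :
    trAut ε ((pCore p ↥(F.autGroup P)).map (F.autGroup P).subtype) =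
      (pCore p ↥(F.autGroup P')).map (F.autGroup P').subtype := by
  apply le_antisymm (trAut_pCoreMap_le p F ε hε)
  have h1 := trAut_mono ε (trAut_pCoreMap_le p F ε.symm hε.symm)
  rwa [trAut_self_symm] at h1

/-- The key lemma, given a family `U`. -/
theorem key_of_ufam [Finite S] (p : ℕ) [Fact p.Prime] (hS : IsPGroup p S) (F : FusionSystem S)
    (ℋ : Set (Subgroup Ω))
    (hgen : ∀ E : FusionSystem S, (∀ P ∈ ℋ, F.Hom P ⊆ E.Hom P) → F ≤ E)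
    (Cl : Set (Subgroup Ω)) (hClconj : ∀ P ∈ Cl, ∀ Q, F.IsConj P Q → Q ∈ Cl) (hClℋ : ∀ P ∈ Cl, P ∉ ℋ)
    (hClS : ∀ P ∈ Cl, P ≠ S) (hClle : ∀ P ∈ Cl, P ≤ S)
    (c : ℕ) (hClc : ∀ P ∈ Cl, Nat.card P = c)
    (hbig : ∀ R : Subgroup Ω, R ≤ S → c < Nat.card R → HasGood F p R)
    (P₀ : Subgroup Ω) (hP₀ : P₀ ∈ Cl)
    (hfn : ∀ Q ∈ Cl, Nat.card (normalizerIn S Q) ≤ Nat.card (normalizerIn S P₀))
    (hall : ∀ P ∈ Cl, F.IsConj P₀ P)
    (U : ∀ P : Subgroup Ω, Subgroup (MulAut P)) (hU : UFam F p Cl U)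
    (hntQ : ∃ Q ∈ Cl, ∃ h ∈ normK S Q (U Q), h ∉ Q) :
    ∃ Q ∈ Cl, F.IsFullyAutomized p Q ∧ F.IsReceptive Q := by
  have hTgt₀ := claim1 p hS F ℋ hgen Cl hClconj hClℋ hClS hClle c hClc hbig P₀ hP₀ hfn hall
  have hnt : ∃ h ∈ normK S P₀ (U P₀), h ∉ P₀ := by
    obtain ⟨Q, hQ, h, hh, hhQ⟩ := hntQ
    obtain ⟨X, ψ, hX, hψ⟩ := hTgt₀ Q hQ
    have hhN : h ∈ normalizerIn S Q := normK_le_normalizerIn S Q (U Q) hh
    refine ⟨ψ ⟨h, hhN⟩, hat_transport hU hQ ψ hψ (hX.trans (fs_normalizerIn_le S P₀)) ⟨h, hhN⟩ hh, ?_⟩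
    intro hmem
    exact hhQ ((hψ.2.2.2 ⟨h, hhN⟩).mpr hmem)
  obtain ⟨P₁, Phat, hPP, hP₁Cl, hTgt1, hhat, hgood⟩ :=
    exists_good_target p hS F Cl hClconj hClle c hClc hbig U hU P₀ hP₀ hfn hTgt₀ hnt
  have ctx : EndCtx F p Cl c U P₁ Phat hPP :=
    ⟨hS, hClconj, hClle, hClc, hbig, hU, hP₁Cl, hTgt1, hhat, hgood⟩
  have hAB := lemmaG ctx ℋ hgen hClℋ hClS
  exact ⟨P₁, hP₁Cl, endgame_fullyAutomized ctx hAB, endgame_receptive ctx hAB⟩

/-- The key lemma: a subgroup of maximal order outside `ℋ` is conjugate to a fully automized receptive subgroup. -/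
theorem key_lemma [Finite S] (p : ℕ) [Fact p.Prime] (hS : IsPGroup p S) (F : FusionSystem S)
    (ℋ : Set (Subgroup Ω)) (hℋconj : ∀ P ∈ ℋ, ∀ Q, F.IsConj P Q → Q ∈ ℋ)
    (hgen : ∀ E : FusionSystem S, (∀ P ∈ ℋ, F.Hom P ⊆ E.Hom P) → F ≤ E) (hSℋ : S ∈ ℋ)
    (P0 : Subgroup Ω) (hP0 : P0 ≤ S) (hP0ℋ : P0 ∉ ℋ)
    (hbig : ∀ R : Subgroup Ω, R ≤ S → Nat.card P0 < Nat.card R → HasGood F p R)
    (hstarP : F.IsCentric P0 → ∃ Q, F.IsConj P0 Q ∧
      ¬ (autInducedBy S Q ⊓ (pCore p ↥(F.autGroup Q)).map (F.autGroup Q).subtype ≤ Inn Q)) :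
    ∃ Q, F.IsConj P0 Q ∧ F.IsFullyAutomized p Q ∧ F.IsReceptive Q := by
  have hClconj : ∀ P ∈ {P | F.IsConj P0 P}, ∀ Q, F.IsConj P Q → Q ∈ {P | F.IsConj P0 P} :=
    fun P hP Q hPQ => fs_isConj_trans F hP hPQ
  have hClℋ : ∀ P ∈ {P | F.IsConj P0 P}, P ∉ ℋ :=
    fun P hP hPℋ => hP0ℋ (hℋconj P hPℋ P0 (fs_isConj_symm F hP))
  have hClS : ∀ P ∈ {P | F.IsConj P0 P}, P ≠ S := by
    intro P hP heq
    apply hClℋ P hP
    rw [heq]
    exact hSℋ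
  have hClle : ∀ P ∈ {P | F.IsConj P0 P}, P ≤ S := fun P hP => fs_isConj_le_right F hP
  have hClc : ∀ P ∈ {P | F.IsConj P0 P}, Nat.card P = Nat.card P0 :=
    fun P hP => (fs_isConj_card_eq F hP).symm
  obtain ⟨P₀, hconj, hfn⟩ := fs_exists_fullyNormalized F hP0
  have hall : ∀ P ∈ {P | F.IsConj P0 P}, F.IsConj P₀ P :=
    fun P hP => fs_isConj_trans F (fs_isConj_symm F hconj) hP
  have hfn' : ∀ Q ∈ {P | F.IsConj P0 P}, Nat.card (normalizerIn S Q) ≤ Nat.card (normalizerIn S P₀) :=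
    fun Q hQ => hfn.2 Q (hall Q hQ)
  by_cases hcen : F.IsCentric P0
  · -- centric case
    have hU : UFam F p {P | F.IsConj P0 P}
        (fun P => (pCore p ↥(F.autGroup P)).map (F.autGroup P).subtype) := by
      refine ⟨fun P _ P' ε hε => trAut_pCoreMap_eq p F ε hε, fun P hP => ?_, Or.inr (fun P hP => ⟨?_, hcen.2 P hP⟩)⟩
      · have hPS := hClle P hP
        apply LargeExtra.le_pCoreMap p _ _ (inn_le_autGroup F hPS) (isPGroup_inn p hS hPS)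
        intro h _ x hx
        exact (inferInstance : (Inn P).Normal).conj_mem x hx h
      · haveI : Finite P := fs_finite_of_le (hClle P hP)
        haveI : Finite (MulAut P) := inferInstance
        exact LargeExtra.pCoreMap_isPGroup p (F.autGroup P)
    obtain ⟨Q, hQ, hnot⟩ := hstarP hcen
    obtain ⟨α, hα, hαI⟩ := SetLike.not_le_iff_exists.mp hnot
    obtain ⟨h, hhS, Hh⟩ := (mem_autInducedBy_iff S Q α).mp hα.1
    have hntQ : ∃ Q ∈ {P | F.IsConj P0 P}, ∃ h ∈ normK S Q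
        ((pCore p ↥(F.autGroup Q)).map (F.autGroup Q).subtype), h ∉ Q := by
      refine ⟨Q, hQ, h, ⟨hhS, α, hα.2, Hh⟩, fun hhQ => hαI ⟨⟨h, hhQ⟩, ?_⟩⟩
      ext x
      rw [Hh]
      simp [MulAut.conj_apply]
    obtain ⟨Q₁, hQ₁, ha, hr⟩ := key_of_ufam p hS F ℋ hgen _ hClconj hClℋ hClS hClle _ hClc hbig P₀ hconj
      hfn' hall _ hU hntQ
    exact ⟨Q₁, hQ₁, ha, hr⟩
  · -- non-centric case
    have hU : UFam F p {P | F.IsConj P0 P} (fun P => Inn P) :=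
      ⟨fun P _ P' ε _ => trAut_inn_eq ε, fun P _ => le_rfl, Or.inl (fun P _ => rfl)⟩
    have hex : ∃ Q, F.IsConj P0 Q ∧ ¬ centralizerIn S Q ≤ Q := by
      by_contra hcon
      push Not at hcon
      exact hcen ⟨hP0, hcon⟩
    obtain ⟨Q, hQ, hnot⟩ := hex
    obtain ⟨h, hhC, hhQ⟩ := SetLike.not_le_iff_exists.mp hnot
    have hntQ : ∃ Q ∈ {P | F.IsConj P0 P}, ∃ h ∈ normK S Q (Inn Q), h ∉ Q := by
      refine ⟨Q, hQ, h, ⟨hhC.1, 1, Subgroup.one_mem _, fun x => ?_⟩, hhQ⟩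
      have h1 := Subgroup.mem_centralizer_iff.mp hhC.2 x x.2
      rw [MulAut.one_apply, ← h1]
      group
    obtain ⟨Q₁, hQ₁, ha, hr⟩ := key_of_ufam p hS F ℋ hgen _ hClconj hClℋ hClS hClle _ hClc hbig P₀ hconj
      hfn' hall _ hU hntQ
    exact ⟨Q₁, hQ₁, ha, hr⟩

end Cfsg.Agent.Lib.Helper9.H9Sat
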