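import Mathlib
import Cfsg.Prelude
import Cfsg.Agent.Lib.Helper9.BGH3
import Cfsg.Agent.Lib.Helper9.PPINormal1
import Cfsg.Agent.Lib.Helper9.SatCrit13
import Cfsg.Agent.Lib.Helper4.AutCrit4

set_option autoImplicit false

/-!
# Control of fusion by abelian subgroups of small exponent (part 4): the abelian subgroup `V`
-/

namespace Cfsg.Agent.H9BGH

open Cfsg Cfsg.FusionSystem Cfsg.Agent.Lib.Helper9 Cfsg.Agent.Lib.Helper9.H9PPI
  Cfsg.Agent.Lib.Helper4.AutCrit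

variable {Ω : Type*} [Group Ω] {S : Subgroup Ω}

/-- Abelian subgroups of small exponent of the hyperfocal subgroup. -/
def Sm (F : FusionSystem S) (p : ℕ) (A' : Subgroup Ω) : Prop :=
  A' ≤ F.hyperfocalSubgroup p ∧ (∀ a ∈ A', ∀ b ∈ A', a * b = b * a) ∧
    ∀ a ∈ A', a ^ p = 1 ∨ (p = 2 ∧ a ^ 4 = 1)

theorem Sm.range [Finite S] {p : ℕ} [Fact p.Prime] (hS : IsPGroup p S) {F : FusionSystem S}
    (hF : F.IsSaturated p) {A' : Subgroup Ω} (h : Sm F p A') {φ : A' →* Ω} (hφ : φ ∈ F.Hom A') :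
    Sm F p φ.range := by
  have hsc := stronglyClosed_of_hyperfocal_le p hS F hF (F.hyperfocalSubgroup p)
    (hyperfocalSubgroup_le F p) (hyperfocalSubgroup_normalized F p) le_rfl
  refine ⟨?_, ?_, ?_⟩
  · rintro _ ⟨x, rfl⟩
    exact hsc.2 A' h.1 φ hφ x
  · rintro _ ⟨x, rfl⟩ _ ⟨y, rfl⟩
    rw [← map_mul, ← map_mul]
    congr 1
    exact Subtype.ext (h.2.1 x x.2 y y.2)
  · rintro _ ⟨x, rfl⟩
    rcases h.2.2 x x.2 with h1 | ⟨h1, h2⟩
    · left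
      rw [← map_pow]
      have : x ^ p = 1 := Subtype.ext h1
      rw [this, map_one]
    · right
      refine ⟨h1, ?_⟩
      rw [← map_pow]
      have : x ^ 4 = 1 := Subtype.ext h2
      rw [this, map_one]

theorem Sm.of_isConj [Finite S] {p : ℕ} [Fact p.Prime] (hS : IsPGroup p S) {F : FusionSystem S}
    (hF : F.IsSaturated p) {A' B' : Subgroup Ω} (h : Sm F p A') (hc : F.IsConj A' B') : Sm F p B' := by
  obtain ⟨φ, hφ, rfl⟩ := hc
  exact h.range hS hF hφ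

/-- The abelian subgroup `V` of `R`: normal in `R`, of small exponent, inside the hyperfocal subgroup, with a
`p`-group as pointwise stabilizer in `Aut_F(R)`. -/
theorem exists_good_V [Finite S] (p : ℕ) [hp : Fact p.Prime] (hS : IsPGroup p S) (F : FusionSystem S)
    {R : Subgroup Ω} (hRS : R ≤ S) :
    ∃ V : Subgroup Ω, V ≤ R ∧ Sm F p V ∧ (∀ r ∈ R, ∀ v ∈ V, r * v * r⁻¹ ∈ V) ∧
      ∀ u ∈ F.autGroup R, (∀ v : R, (v : Ω) ∈ V → u v = v) → ∃ k : ℕ, u ^ p ^ k = 1 := by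
  haveI : Finite R := fs_finite_of_le hRS
  have hRp : IsPGroup p R := hS.to_le hRS
  obtain ⟨D, -, hDP0, hDexp, -, -, hDmax⟩ :=
    exists_critical_in_residual hRp (F.autGroup R) (H9Sat.inn_le_autGroup F hRS)
  obtain ⟨V₀, hV₀D, -, hV₀c, hV₀max⟩ := exists_max_inv_abelian (⊥ : Subgroup (MulAut R)) D
  have hbot : ∀ B : Subgroup R, Inv (⊥ : Subgroup (MulAut R)) B := by
    intro B α hα x hx
    rw [Subgroup.mem_bot] at hα
    rw [hα]
    exact hx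
  obtain ⟨hV₀n, hV₀p⟩ := hDmax V₀ hV₀D hV₀c (fun B h1 h2 h3 => hV₀max B h2 (hbot B) h3 h1)
  have hP0 : P0 p (F.autGroup R) ≤ (F.hyperfocalSubgroup p).comap R.subtype := by
    unfold P0
    rw [Subgroup.closure_le]
    rintro _ ⟨α, hα, x, rfl⟩
    exact residual_quot_mem_hyperfocal F p hRS α hα x
  have hmem : ∀ v : R, (v : Ω) ∈ V₀.map R.subtype ↔ v ∈ V₀ := by
    intro v
    constructor
    · rintro ⟨w, hw, hwv⟩
      have : w = v := Subtype.ext hwv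
      rwa [← this]
    · intro hv
      exact ⟨v, hv, rfl⟩
  refine ⟨V₀.map R.subtype, ?_, ⟨?_, ?_, ?_⟩, ?_, ?_⟩
  · rintro _ ⟨v, -, rfl⟩
    exact v.2
  · rintro _ ⟨v, hv, rfl⟩
    exact hP0 (hDP0 (hV₀D hv))
  · rintro _ ⟨a, ha, rfl⟩ _ ⟨b, hb, rfl⟩
    have := hV₀c.is_comm.comm ⟨a, ha⟩ ⟨b, hb⟩
    exact congrArg (fun z : V₀ => ((z : R) : Ω)) this
  · rintro _ ⟨a, ha, rfl⟩
    rcases hDexp a (hV₀D ha) with h1 | ⟨h1, h2⟩
    · left
      exact congrArg Subtype.val h1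
    · right
      exact ⟨h1, congrArg Subtype.val h2⟩
  · rintro r hr _ ⟨v, hv, rfl⟩
    exact ⟨⟨r, hr⟩ * v * ⟨r, hr⟩⁻¹, hV₀n.conj_mem v hv ⟨r, hr⟩, rfl⟩
  · intro u hu hfix
    obtain ⟨k, hk⟩ := hV₀p u hu (fun a ha => hfix a ((hmem a).mpr ha))
    exact ⟨k, by rw [← hk, pow_orderOf_eq_one]⟩

end Cfsg.Agent.H9BGH
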