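import Mathlib
import Cfsg.Prelude
import Cfsg.Agent.Lib.Helper9.BGH4
import Cfsg.Agent.Lib.Helper9.FusionNormMap
import Cfsg.Agent.Lib.Helper9.FusionSat1

set_option autoImplicit false

/-!
# Control of fusion by abelian subgroups of small exponent (part 5): the main theorem
-/

namespace Cfsg.Agent.H9BGH

open Cfsg Cfsg.FusionSystem Cfsg.Agent.Lib.Helper9 Cfsg.Agent.Lib.Helper9.H9PPI

variable {Ω : Type*} [Group Ω] {S : Subgroup Ω}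

/-- The inverse of a map of the system, with its source described elementwise. -/
theorem inv_on (E : FusionSystem S) {P W : Subgroup Ω} {φ : P →* Ω} (hφ : φ ∈ E.Hom P)
    (hW : ∀ w, w ∈ W ↔ ∃ x : P, φ x = w) :
    ∃ ι ∈ E.Hom W, ∀ (x : P) (h : φ x ∈ W), ι ⟨φ x, h⟩ = (x : Ω) := by
  have : W = φ.range := by
    ext w
    rw [hW]
    rfl
  subst this
  obtain ⟨ψ, hψ, hψφ⟩ := E.inv_mem hφ
  exact ⟨ψ, hψ, fun x _ => hψφ x⟩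

theorem le_normalizer_of_conj {R V : Subgroup Ω} (h : ∀ r ∈ R, ∀ v ∈ V, r * v * r⁻¹ ∈ V) :
    R ≤ Subgroup.normalizer ((V : Subgroup Ω) : Set Ω) := by
  intro r hr
  rw [Subgroup.mem_normalizer_iff]
  intro x
  refine ⟨h r hr x, fun hx => ?_⟩
  have := h r⁻¹ (R.inv_mem hr) _ hx
  have h2 : r⁻¹ * (r * x * r⁻¹) * r⁻¹⁻¹ = x := by group
  rwa [h2] at this

set_option maxHeartbeats 1000000 in
/-- The inductive step: `Aut_F(R) ≤ Aut_E(R)`. -/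
theorem aut_le [Finite S] (p : ℕ) [Fact p.Prime] (hS : IsPGroup p S) (E F : FusionSystem S)
    (hE : E.IsSaturated p) (hF : F.IsSaturated p) (hEF : ∀ P : Subgroup Ω, E.Hom P ⊆ F.Hom P)
    (hsm : ∀ (A' : Subgroup Ω) (φ : A' →* Ω), Sm F p A' → φ ∈ F.Hom A' → φ ∈ E.Hom A')
    {R : Subgroup Ω} (hRn : F.IsFullyNormalized R)
    (IH : ∀ Q : Subgroup Ω, Q ≤ S → Nat.card R < Nat.card Q → F.Hom Q ⊆ E.Hom Q) :
    F.autGroup R ≤ E.autGroup R := by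
  intro α hα
  have hRS : R ≤ S := hRn.1
  haveI : Finite R := fs_finite_of_le hRS
  rw [mem_autGroup_iff E hRS]
  have ha₀ : R.subtype.comp α.toMonoidHom ∈ F.Hom R := (mem_autGroup_iff F hRS α).mp hα
  obtain ⟨a₀, ha₀def⟩ : ∃ a₀ : R →* Ω, a₀ = R.subtype.comp α.toMonoidHom := ⟨_, rfl⟩
  rw [← ha₀def] at ha₀ ⊢
  have ha₀x : ∀ x : R, a₀ x = ((α x : R) : Ω) := by
    intro x
    rw [ha₀def]
    rfl
  obtain ⟨V, hVR, hVsm, hVn, hVp⟩ := exists_good_V p hS F hRS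
  have hVS : V ≤ S := hVR.trans hRS
  -- the fully normalized conjugate `W`
  obtain ⟨W, hVW, hWn⟩ := fs_exists_fullyNormalized E hVS
  obtain ⟨hWc, hWa⟩ := fs_sylow_axiom p hS E hE hWn
  have hWr := fs_extension_axiom p hS E hE hWc
  have hVWF : F.IsConj V W := by
    obtain ⟨φ, hφ, h⟩ := hVW
    exact ⟨φ, hEF _ hφ, h⟩
  have hWsm : Sm F p W := hVsm.of_isConj hS hF hVWF
  have hconjE : ∀ W', F.IsConj W W' → E.IsConj W W' := by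
    rintro W' ⟨φ, hφ, h⟩
    exact ⟨φ, hsm W φ hWsm hφ, h⟩
  -- the image `V'` of `V`
  have hε : a₀.comp (Subgroup.inclusion hVR) ∈ F.Hom V := fs_restrict_mem F ha₀ hVR
  have hεE := hsm V _ hVsm hε
  obtain ⟨V', hV'def⟩ : ∃ V' : Subgroup Ω, V' = (a₀.comp (Subgroup.inclusion hVR)).range := ⟨_, rfl⟩
  have hV'mem : ∀ y, y ∈ V' ↔ ∃ v : R, (v : Ω) ∈ V ∧ a₀ v = y := by
    intro y
    rw [hV'def]
    constructor
    · rintro ⟨v, rfl⟩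
      exact ⟨⟨v, hVR v.2⟩, v.2, rfl⟩
    · rintro ⟨v, hv, rfl⟩
      exact ⟨⟨v, hv⟩, rfl⟩
  have hVV' : E.IsConj V V' := ⟨_, hεE, hV'def.symm⟩
  have hV'W : E.IsConj V' W := fs_isConj_trans E (fs_isConj_symm E hVV') hVW
  have hV'n : ∀ r ∈ R, ∀ y ∈ V', r * y * r⁻¹ ∈ V' := by
    intro r hr y hy
    obtain ⟨v, hv, rfl⟩ := (hV'mem y).mp hy
    refine (hV'mem _).mpr ⟨α⁻¹ ⟨r, hr⟩ * v * (α⁻¹ ⟨r, hr⟩)⁻¹, hVn _ (α⁻¹ ⟨r, hr⟩).2 _ hv, ?_⟩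
    rw [ha₀x, ha₀x, map_mul, map_mul, map_inv, MulAut.apply_inv_self]
    rfl
  -- the normalizer maps
  obtain ⟨γ, hγ, hγN, hγV⟩ := fs_exists_normalizer_map p hS E W V hWa hWr hVW
  obtain ⟨γ', hγ', hγ'N, hγ'V⟩ := fs_exists_normalizer_map p hS E W V' hWa hWr hV'W
  have hRNV : R ≤ normalizerIn S V := fun r hr => ⟨hRS hr, le_normalizer_of_conj hVn hr⟩
  have hRNV' : R ≤ normalizerIn S V' := fun r hr => ⟨hRS hr, le_normalizer_of_conj hV'n hr⟩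
  have hγR := fs_restrict_mem E hγ hRNV
  have hγR' := fs_restrict_mem E hγ' hRNV'
  obtain ⟨γR, hγRdef⟩ : ∃ γR : R →* Ω, γR = γ.comp (Subgroup.inclusion hRNV) := ⟨_, rfl⟩
  obtain ⟨γR', hγR'def⟩ : ∃ γR' : R →* Ω, γR' = γ'.comp (Subgroup.inclusion hRNV') := ⟨_, rfl⟩
  rw [← hγRdef] at hγR
  rw [← hγR'def] at hγR'
  have hγRW : ∀ w, w ∈ W ↔ ∃ v : R, (v : Ω) ∈ V ∧ γR v = w := by
    intro w
    rw [← hγV]
    constructor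
    · rintro ⟨n, hn, rfl⟩
      refine ⟨⟨n, hVR hn⟩, hn, ?_⟩
      rw [hγRdef]
      rfl
    · rintro ⟨v, hv, rfl⟩
      refine ⟨⟨v, hRNV v.2⟩, hv, ?_⟩
      rw [hγRdef]
      rfl
  have hγR'W : ∀ w, w ∈ W ↔ ∃ y : R, (y : Ω) ∈ V' ∧ γR' y = w := by
    intro w
    rw [← hγ'V]
    constructor
    · rintro ⟨n, hn, rfl⟩
      have hn' : (n : Ω) ∈ V' := hn
      obtain ⟨v, -, hvn⟩ := (hV'mem _).mp hn'
      have hnR : (n : Ω) ∈ R := by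
        rw [← hvn, ha₀x]
        exact (α v).2
      refine ⟨⟨n, hnR⟩, hn, ?_⟩
      rw [hγR'def]
      rfl
    · rintro ⟨y, hy, rfl⟩
      refine ⟨⟨y, hRNV' y.2⟩, hy, ?_⟩
      rw [hγR'def]
      rfl
  -- the second isomorphism
  have hαR : ∀ x : R, a₀ x ∈ R := fun x => by
    rw [ha₀x]
    exact (α x).2
  have hθ₂ : γR'.comp (a₀.codRestrict R hαR) ∈ F.Hom R := F.comp_mem ha₀ (hEF _ hγR') hαR
  obtain ⟨θ₂, hθ₂def⟩ : ∃ θ₂ : R →* Ω, θ₂ = γR'.comp (a₀.codRestrict R hαR) := ⟨_, rfl⟩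
  rw [← hθ₂def] at hθ₂
  have hθ₂x : ∀ x : R, θ₂ x = γR' ⟨a₀ x, hαR x⟩ := by
    intro x
    rw [hθ₂def]
    rfl
  have hθ₂W : ∀ w, w ∈ W ↔ ∃ v : R, (v : Ω) ∈ V ∧ θ₂ v = w := by
    intro w
    rw [hγR'W]
    constructor
    · rintro ⟨y, hy, rfl⟩
      obtain ⟨v, hv, hvy⟩ := (hV'mem _).mp hy
      refine ⟨v, hv, ?_⟩
      rw [hθ₂x]
      congr 1
      exact Subtype.ext hvy
    · rintro ⟨v, hv, rfl⟩
      exact ⟨⟨a₀ v, hαR v⟩, (hV'mem _).mpr ⟨v, hv, rfl⟩, (hθ₂x v).symm⟩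
  -- the automorphism `μ` of `W`
  have hγV_E : γR.comp (Subgroup.inclusion hVR) ∈ E.Hom V := fs_restrict_mem E hγR hVR
  have hγVW : ∀ w, w ∈ W ↔ ∃ v : V, (γR.comp (Subgroup.inclusion hVR)) v = w := by
    intro w
    rw [hγRW]
    constructor
    · rintro ⟨v, hv, rfl⟩
      exact ⟨⟨v, hv⟩, rfl⟩
    · rintro ⟨v, rfl⟩
      exact ⟨⟨v, hVR v.2⟩, v.2, rfl⟩
  obtain ⟨ι, hι, hιγ⟩ := inv_on E hγV_E hγVW
  have hθ₂V : θ₂.comp (Subgroup.inclusion hVR) ∈ E.Hom V :=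
    hsm V _ hVsm (fs_restrict_mem F hθ₂ hVR)
  have hιV : ∀ w : W, ι w ∈ V := by
    rintro ⟨w, hw⟩
    obtain ⟨v, rfl⟩ := (hγVW w).mp hw
    rw [hιγ]
    exact v.2
  have hμ : (θ₂.comp (Subgroup.inclusion hVR)).comp (ι.codRestrict V hιV) ∈ E.Hom W :=
    E.comp_mem hι hθ₂V hιV
  obtain ⟨μ, hμdef⟩ : ∃ μ : W →* Ω, μ = (θ₂.comp (Subgroup.inclusion hVR)).comp (ι.codRestrict V hιV) :=
    ⟨_, rfl⟩
  rw [← hμdef] at hμ
  have hμγ : ∀ (v : R) (_ : (v : Ω) ∈ V) (h : γR v ∈ W), μ ⟨γR v, h⟩ = θ₂ v := by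
    intro v hv h
    rw [hμdef]
    show θ₂ (Subgroup.inclusion hVR ⟨ι ⟨γR v, h⟩, _⟩) = θ₂ v
    congr 1
    apply Subtype.ext
    exact hιγ ⟨v, hv⟩ h
  have hμrange : μ.range = W := by
    ext w
    constructor
    · rintro ⟨⟨w', hw'⟩, rfl⟩
      obtain ⟨v, hv, rfl⟩ := (hγRW w').mp hw'
      rw [hμγ v hv]
      exact (hθ₂W _).mpr ⟨v, hv, rfl⟩
    · intro hw
      obtain ⟨v, hv, rfl⟩ := (hθ₂W w).mp hw
      exact ⟨⟨γR v, (hγRW _).mpr ⟨v, hv, rfl⟩⟩, hμγ v hv _⟩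
  obtain ⟨μ', hμ', hμ'μ⟩ := hWr.2 W μ hμ hμrange
  have hext : ∀ r : R, γR r ∈ extender S W μ := by
    intro r
    rw [mem_extender_iff]
    refine ⟨(E.le_of_mem hγR).2 r, ?_, θ₂ r, (F.le_of_mem hθ₂).2 r, ?_⟩
    · have := hγN ⟨r, hRNV r.2⟩
      rw [hγRdef]
      exact this.2
    · rintro ⟨w, hw⟩ hx
      obtain ⟨v, hv, rfl⟩ := (hγRW w).mp hw
      have h0 : γR r * γR v * (γR r)⁻¹ = γR (r * v * r⁻¹) := by
        rw [map_mul, map_mul, map_inv]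
      have h1 : (⟨γR r * γR v * (γR r)⁻¹, hx⟩ : W) = ⟨γR (r * v * r⁻¹), h0 ▸ hx⟩ := Subtype.ext h0
      rw [h1, hμγ _ (hVn r r.2 v hv), hμγ v hv, map_mul, map_mul, map_inv]
  -- the first isomorphism
  have hθ₁ : μ'.comp (γR.codRestrict (extender S W μ) hext) ∈ E.Hom R := E.comp_mem hγR hμ' hext
  obtain ⟨θ₁, hθ₁def⟩ : ∃ θ₁ : R →* Ω, θ₁ = μ'.comp (γR.codRestrict (extender S W μ) hext) := ⟨_, rfl⟩
  rw [← hθ₁def] at hθ₁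
  have hagree : ∀ v : R, (v : Ω) ∈ V → θ₁ v = θ₂ v := by
    intro v hv
    rw [hθ₁def]
    show μ' ⟨γR v, hext v⟩ = θ₂ v
    have hw : γR v ∈ W := (hγRW _).mpr ⟨v, hv, rfl⟩
    rw [hμ'μ (γR v) hw (hext v), hμγ v hv]
  have hθ₁W : ∀ w, w ∈ W ↔ ∃ v : R, (v : Ω) ∈ V ∧ θ₁ v = w := by
    intro w
    rw [hθ₂W]
    constructor
    · rintro ⟨v, hv, rfl⟩
      exact ⟨v, hv, hagree v hv⟩
    · rintro ⟨v, hv, rfl⟩
      exact ⟨v, hv, (hagree v hv).symm⟩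
  have hθ₂E := core_two_isos p hS E F hF hEF hRn IH hVn hVp hWc hconjE hθ₁ hθ₂ hagree hθ₁W
  exact cancel_left E hγR' hαR hθ₂E hθ₂x

/-- **Abelian subgroups of small exponent of the hyperfocal subgroup control fusion.** -/
theorem small_control [Finite S] (p : ℕ) [Fact p.Prime] (hS : IsPGroup p S) (E F : FusionSystem S)
    (hE : E.IsSaturated p) (hF : F.IsSaturated p) (hEF : ∀ P : Subgroup Ω, E.Hom P ⊆ F.Hom P)
    (hsm : ∀ (A' : Subgroup Ω) (φ : A' →* Ω), Sm F p A' → φ ∈ F.Hom A' → φ ∈ E.Hom A')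
    (P : Subgroup Ω) : F.Hom P ⊆ E.Hom P := by
  intro φ hφ
  refine fs_le_of_autGroup_le p hS F E hF ?_ _ P φ hφ rfl
  intro R hRn IH
  exact aut_le p hS E F hE hF hEF hsm hRn IH

end Cfsg.Agent.H9BGH
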