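import Mathlib
import Cfsg.Agent.Lib.Helper7.Wielandt1

set_option autoImplicit false

/-!
# Groups whose abelian subgroups of equal order are conjugate (basic facts)
-/

namespace Cfsg.Agent.Lib.Helper9.BGrp

open Cfsg.Agent.Lib.Helper7

universe u

/-- abelian subgroups of the same order are conjugate -/
def IsB (G : Type*) [Group G] : Prop :=
  ∀ A B : Subgroup G, IsMulCommutative ↥A → IsMulCommutative ↥B → Nat.card ↥A = Nat.card ↥B →
    ∃ g : G, B = A.map (MulAut.conj g).toMonoidHom

section
variable {G : Type*} [Group G]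

theorem isMulCommutative_of_forall {A : Subgroup G} (h : ∀ a ∈ A, ∀ b ∈ A, a * b = b * a) :
    IsMulCommutative ↥A :=
  ⟨⟨fun a b => Subtype.ext (h a a.2 b b.2)⟩⟩

theorem comm_of_isMulCommutative {A : Subgroup G} (h : IsMulCommutative ↥A) {a b : G}
    (ha : a ∈ A) (hb : b ∈ A) : a * b = b * a :=
  congrArg Subtype.val (h.is_comm.comm ⟨a, ha⟩ ⟨b, hb⟩)

theorem isMulCommutative_map {G' : Type*} [Group G'] (f : G →* G') {A : Subgroup G}
    (h : IsMulCommutative ↥A) : IsMulCommutative ↥(A.map f) := by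
  apply isMulCommutative_of_forall
  rintro _ ⟨a, ha, rfl⟩ _ ⟨b, hb, rfl⟩
  rw [← map_mul, ← map_mul, comm_of_isMulCommutative h ha hb]

theorem IsB.of_equiv {G' : Type*} [Group G'] (e : G ≃* G') (h : IsB G) : IsB G' := by
  intro A B hA hB hc
  have hA' := isMulCommutative_map e.symm.toMonoidHom hA
  have hB' := isMulCommutative_map e.symm.toMonoidHom hB
  have hc' : Nat.card ↥(A.map e.symm.toMonoidHom) = Nat.card ↥(B.map e.symm.toMonoidHom) := by
    rw [Subgroup.card_map_of_injective e.symm.injective,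
      Subgroup.card_map_of_injective e.symm.injective, hc]
  obtain ⟨g, hg⟩ := h _ _ hA' hB' hc'
  refine ⟨e g, ?_⟩
  have h1 : B = (B.map e.symm.toMonoidHom).map e.toMonoidHom := by
    rw [Subgroup.map_map]
    have : e.toMonoidHom.comp e.symm.toMonoidHom = MonoidHom.id G' := by
      ext x; simp
    rw [this, Subgroup.map_id]
  rw [h1, hg, Subgroup.map_map, Subgroup.map_map]
  congr 1
  ext x
  simp

theorem isMulCommutative_zpowers (x : G) : IsMulCommutative ↥(Subgroup.zpowers x) := by
  apply isMulCommutative_of_forall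
  intro a ha b hb
  obtain ⟨i, rfl⟩ := Subgroup.mem_zpowers_iff.mp ha
  obtain ⟨j, rfl⟩ := Subgroup.mem_zpowers_iff.mp hb
  rw [← zpow_add, ← zpow_add, add_comm]

/-- in a `B`-group, two elements of the same order generate conjugate cyclic subgroups -/
theorem IsB.zpowers_conj (h : IsB G) {x y : G} (hxy : orderOf x = orderOf y) :
    ∃ g : G, Subgroup.zpowers y = cj g (Subgroup.zpowers x) := by
  apply h _ _ (isMulCommutative_zpowers x) (isMulCommutative_zpowers y)
  rw [Nat.card_zpowers, Nat.card_zpowers, hxy]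

/-- a normal subgroup containing an element of order `n` contains all of them -/
theorem IsB.mem_normal_of_orderOf_eq (h : IsB G) (M : Subgroup G) [hM : M.Normal] {x y : G}
    (hx : x ∈ M) (hxy : orderOf x = orderOf y) : y ∈ M := by
  obtain ⟨g, hg⟩ := h.zpowers_conj hxy
  have hy : y ∈ cj g (Subgroup.zpowers x) := by
    rw [← hg]; exact Subgroup.mem_zpowers y
  rw [mem_cj] at hy
  have h1 : g⁻¹ * y * g ∈ M := (Subgroup.zpowers_le.mpr hx) hy
  have h2 := hM.conj_mem _ h1 g
  have h3 : g * (g⁻¹ * y * g) * g⁻¹ = y := by group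
  rwa [h3] at h2

end

end Cfsg.Agent.Lib.Helper9.BGrp
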