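import Mathlib
import Cfsg.Agent.Lib.Helper9.BGrp1
import Cfsg.Agent.S3294
import Cfsg.Agent.S0218

set_option autoImplicit false

/-!
# Solvable `B`-groups have no generalized quaternion Sylow 2-subgroups of order at least 16
-/

namespace Cfsg.Agent.Lib.Helper9.BGrp

open Cfsg Cfsg.Agent.Lib.Helper7 Cfsg.Agent.Lib.Helper6

section Quat

open QuaternionGroup

variable {m : ℕ}

theorem quat_sq_mem_a (q : QuaternionGroup m) : ∃ i, q ^ 2 = a i := by
  cases q with
  | a i => exact ⟨i + i, by rw [pow_two, a_mul_a]⟩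
  | xa i => exact ⟨(m : ZMod (2 * m)), xa_sq i⟩

theorem quat_a_pow (i : ZMod (2 * m)) (k : ℕ) : ∃ j, (a i : QuaternionGroup m) ^ k = a j := by
  induction k with
  | zero => exact ⟨0, by rw [pow_zero, a_zero]⟩
  | succ k ih =>
    obtain ⟨j, hj⟩ := ih
    exact ⟨j + i, by rw [pow_succ, hj, a_mul_a]⟩

theorem quat_even_pow (q : QuaternionGroup m) (k : ℕ) : ∃ j, q ^ (2 * k) = a j := by
  obtain ⟨i, hi⟩ := quat_sq_mem_a q
  rw [pow_mul, hi]
  exact quat_a_pow i k

theorem quat_a_eq_xa_mul_xa (i : ZMod (2 * m)) :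
    (a i : QuaternionGroup m) = xa 0 * xa (i - (m : ZMod (2 * m))) := by
  rw [xa_mul_xa]
  congr 1
  ring

end Quat

theorem no_big_quaternion {G : Type*} [Group G] [Finite G] (hsol : Group.IsSolvable G) (hB : IsB G)
    (T : Sylow 2 G) (n : ℕ) (hn : 2 ≤ n) (e : (T : Subgroup G) ≃* QuaternionGroup (2 ^ n)) :
    False := by
  classical
  haveI : Fact (Nat.Prime 2) := ⟨Nat.prime_two⟩
  haveI := hsol
  haveI : NeZero (2 ^ n) := ⟨by positivity⟩
  set N := Cfsg.pPrimeCore 2 G with hN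
  have hNcop : (Nat.card N).Coprime 2 := pPrimeCore_coprime 2
  set π := QuotientGroup.mk' N with hπ
  have hπs : Function.Surjective π := QuotientGroup.mk'_surjective N
  have hXsol : Group.IsSolvable (G ⧸ N) := inferInstance
  have hXO : Cfsg.pPrimeCore 2 (G ⧸ N) = ⊥ := Cfsg.Agent.Lib.Helper4.pPrimeCore_quotient_self 2
  have hcent := Cfsg.Agent.S3294.centralizer_pCore_le_of_solvable hXsol hXO
  set Tb : Sylow 2 (G ⧸ N) := T.mapSurjective hπs with hTb
  have hTbcoe : (Tb : Subgroup (G ⧸ N)) = (T : Subgroup G).map π := Sylow.coe_mapSurjective _ _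
  have hTN : (T : Subgroup G) ⊓ N = ⊥ := isPGroup_inf_coprime_eq_bot hNcop T.isPGroup'
  -- π is injective on T
  have hinj : ∀ t₁ ∈ (T : Subgroup G), ∀ t₂ ∈ (T : Subgroup G), π t₁ = π t₂ → t₁ = t₂ := by
    intro t₁ h₁ t₂ h₂ h
    have h3 : t₁⁻¹ * t₂ ∈ N := by
      rw [← QuotientGroup.eq_one_iff]
      show π (t₁⁻¹ * t₂) = 1
      rw [map_mul, map_inv, h, inv_mul_cancel]
    have h4 : t₁⁻¹ * t₂ ∈ (T : Subgroup G) ⊓ N :=
      ⟨(T : Subgroup G).mul_mem ((T : Subgroup G).inv_mem h₁) h₂, h3⟩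
    rw [hTN, Subgroup.mem_bot] at h4
    exact (inv_mul_eq_one.mp h4)
  have hord : ∀ t ∈ (T : Subgroup G), orderOf (π t) = orderOf t := by
    intro t ht
    apply Nat.dvd_antisymm (orderOf_map_dvd π t)
    apply orderOf_dvd_of_pow_eq_one
    apply hinj _ ((T : Subgroup G).pow_mem ht _) _ (T : Subgroup G).one_mem
    rw [map_pow, pow_orderOf_eq_one, map_one]
  have horde : ∀ t : (T : Subgroup G), orderOf (t : G) = orderOf (e t) := by
    intro t
    rw [Subgroup.orderOf_coe, ← orderOf_injective e.toMonoidHom e.injective t]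
    rfl
  set R := Cfsg.pCore 2 (G ⧸ N) with hR
  haveI hRn : R.Normal := Cfsg.pCore_normal 2 (G ⧸ N)
  have hRT : R ≤ (T : Subgroup G).map π := by rw [← hTbcoe]; exact pCore_le_sylow Tb
  -- the element of order 4 outside the cyclic maximal subgroup
  set v : (T : Subgroup G) := e.symm (QuaternionGroup.xa 0) with hv
  have hv4 : orderOf (v : G) = 4 := by
    rw [horde, hv, MulEquiv.apply_symm_apply, QuaternionGroup.orderOf_xa]
  -- Step 3: R contains an element of order 4
  have hR4 : ∃ r ∈ R, orderOf r = 4 := by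
    by_contra hno
    have hexp : ∀ r ∈ R, r ^ 2 = 1 := by
      intro r hr
      by_contra hr2
      obtain ⟨j, hj⟩ := IsPGroup.iff_orderOf.mp (pCore_isPGroup (G := G ⧸ N) 2) ⟨r, hr⟩
      rw [Subgroup.orderOf_mk] at hj
      have hj2 : 2 ≤ j := by
        by_contra hlt
        have : j = 0 ∨ j = 1 := by omega
        rcases this with h | h
        · rw [h, pow_zero, orderOf_eq_one_iff] at hj
          apply hr2; rw [hj, one_pow]
        · rw [h, pow_one] at hj
          apply hr2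
          have := pow_orderOf_eq_one r
          rwa [hj] at this
      apply hno
      refine ⟨r ^ (2 ^ (j - 2)), R.pow_mem hr _, ?_⟩
      rw [orderOf_pow_of_dvd (by positivity) (by rw [hj]; exact pow_dvd_pow 2 (by omega)), hj,
        Nat.pow_div (by omega) (by norm_num)]
      have : j - (j - 2) = 2 := by omega
      rw [this]
    -- all nontrivial elements of R coincide
    have huniq : ∀ r₁ ∈ R, ∀ r₂ ∈ R, r₁ ≠ 1 → r₂ ≠ 1 → r₁ = r₂ := by
      intro r₁ h₁ r₂ h₂ hne₁ hne₂
      obtain ⟨t₁, ht₁, rfl⟩ := hRT h₁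
      obtain ⟨t₂, ht₂, rfl⟩ := hRT h₂
      have key : ∀ t (ht : t ∈ (T : Subgroup G)), π t ∈ R → π t ≠ 1 →
          e ⟨t, ht⟩ = QuaternionGroup.a ((2 ^ n : ℕ) : ZMod (2 * 2 ^ n)) := by
        intro t ht hr hne
        rw [← Cfsg.Agent.S0218.aux, ← horde ⟨t, ht⟩]
        show orderOf t = 2
        rw [← hord t ht]
        rw [orderOf_eq_prime_iff]
        exact ⟨hexp _ hr, hne⟩
      have h3 := (key t₁ ht₁ h₁ hne₁).trans (key t₂ ht₂ h₂ hne₂).symm
      have h4 := e.injective h3
      have h5 : t₁ = t₂ := congrArg Subtype.val h4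
      rw [h5]
    have hcen : (⊤ : Subgroup (G ⧸ N)) ≤ Subgroup.centralizer (R : Set (G ⧸ N)) := by
      intro y _
      rw [Subgroup.mem_centralizer_iff]
      intro r hr
      by_cases hr1 : r = 1
      · rw [hr1, one_mul, mul_one]
      have h1 : y * r * y⁻¹ ∈ R := hRn.conj_mem r hr y
      have h2 : y * r * y⁻¹ ≠ 1 := by
        intro h
        apply hr1
        have : r = y⁻¹ * (y * r * y⁻¹) * y := by group
        rw [this, h]; group
      have h3 := huniq _ h1 _ hr h2 hr1
      calc r * y = (y * r * y⁻¹) * y := by rw [h3]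
        _ = y * r := by group
    have hvR : π (v : G) ∈ R := hcent (hcen (Subgroup.mem_top _))
    have h1 := hexp _ hvR
    have h2 : orderOf (π (v : G)) = 4 := by rw [hord _ v.2, hv4]
    have h3 := orderOf_dvd_of_pow_eq_one h1
    rw [h2] at h3
    omega
  obtain ⟨r, hrR, hr4⟩ := hR4
  obtain ⟨t, htT, rfl⟩ := hRT hrR
  have ht4 : orderOf t = 4 := by rw [← hord t htT, hr4]
  -- Step 5: the normal subgroup L contains all elements of order 4
  set L : Subgroup G := R.comap π with hL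
  haveI hLn : L.Normal := hRn.comap π
  have htL : t ∈ L := hrR
  have hL4 : ∀ w : G, orderOf w = 4 → w ∈ L := by
    intro w hw
    exact hB.mem_normal_of_orderOf_eq L htL (ht4.trans hw.symm)
  -- Step 6: T ≤ L
  have hTL : ∀ q : (T : Subgroup G), (q : G) ∈ L := by
    intro q
    have hxa : ∀ i, ((e.symm (QuaternionGroup.xa i) : (T : Subgroup G)) : G) ∈ L := by
      intro i
      apply hL4
      rw [horde, MulEquiv.apply_symm_apply, QuaternionGroup.orderOf_xa]
    have hq : q = e.symm (e q) := (e.symm_apply_apply q).symm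
    rcases hqe : e q with i | i
    · rw [hq, hqe, quat_a_eq_xa_mul_xa, map_mul]
      exact L.mul_mem (hxa _) (hxa _)
    · rw [hq, hqe]
      exact hxa _
  -- Step 8
  set ta : (T : Subgroup G) := e.symm (QuaternionGroup.a 1) with hat
  set u : (T : Subgroup G) := ta ^ (2 ^ (n - 1)) with hu
  have hu4 : orderOf (u : G) = 4 := by
    rw [horde, hu, map_pow, hat, MulEquiv.apply_symm_apply,
      orderOf_pow_of_dvd (by positivity) (by
        rw [QuaternionGroup.orderOf_a_one]
        exact Dvd.dvd.mul_left (pow_dvd_pow 2 (by omega)) 2),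
      QuaternionGroup.orderOf_a_one]
    have : 2 * 2 ^ n = 2 ^ (n - 1) * 4 := by
      have : n = (n - 1) + 1 := by omega
      conv_lhs => rw [this, pow_succ]
      ring
    rw [this, Nat.mul_div_cancel_left _ (by positivity)]
  obtain ⟨g, hg⟩ := hB.zpowers_conj (hu4.trans hv4.symm)
  have hvmem : (v : G) ∈ cj g (Subgroup.zpowers (u : G)) := by
    rw [← hg]; exact Subgroup.mem_zpowers _
  rw [mem_cj] at hvmem
  have hfin : IsOfFinOrder (u : G) := isOfFinOrder_of_finite _
  rw [← hfin.mem_powers_iff_mem_zpowers] at hvmem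
  obtain ⟨k, hk⟩ := (Submonoid.mem_powers_iff _ _).mp hvmem
  -- v = w ^ (2^(n-1) * k) with w = g ta g⁻¹
  set w : G := g * (ta : G) * g⁻¹ with hw
  have hvw : (v : G) = w ^ (2 ^ (n - 1) * k) := by
    have h1 : (v : G) = g * (g⁻¹ * (v : G) * g) * g⁻¹ := by group
    rw [h1, ← hk, hw, conj_pow, hu]
    congr 2
    rw [Subgroup.coe_pow, ← pow_mul]
  have hwR : π w ∈ R := by
    have h1 : π (ta : G) ∈ R := hTL ta
    have h2 := hRn.conj_mem _ h1 (π g)
    rw [hw, map_mul, map_mul, map_inv]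
    exact h2
  obtain ⟨q, hqT, hqw⟩ := hRT hwR
  have hvq : (v : G) = q ^ (2 ^ (n - 1) * k) := by
    apply hinj _ v.2 _ ((T : Subgroup G).pow_mem hqT _)
    rw [hvw, map_pow, map_pow, hqw]
  have h2n : 2 ^ (n - 1) * k = 2 * (2 ^ (n - 2) * k) := by
    have : n - 1 = (n - 2) + 1 := by omega
    rw [this, pow_succ]; ring
  have hfinal : e v = (e ⟨q, hqT⟩) ^ (2 * (2 ^ (n - 2) * k)) := by
    rw [← map_pow]
    congr 1
    apply Subtype.ext
    rw [Subgroup.coe_pow, ← h2n]
    exact hvq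
  obtain ⟨j, hj⟩ := quat_even_pow (e ⟨q, hqT⟩) (2 ^ (n - 2) * k)
  rw [hj, hv, MulEquiv.apply_symm_apply] at hfinal
  cases hfinal

end Cfsg.Agent.Lib.Helper9.BGrp
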