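import Mathlib
import Cfsg.Agent.Lib.Helper9.BGrp2
import Cfsg.Agent.Lib.Helper4.GC9
import Cfsg.Agent.S0016

set_option autoImplicit false

/-!
# Solvable `B`-groups: lifting lemmas for a minimal normal subgroup
-/

namespace Cfsg.Agent.Lib.Helper9.BGrp

open Cfsg Cfsg.Agent.Lib.Helper7

section
variable {G : Type*} [Group G]

/-- the join of two commuting abelian subgroups is abelian -/
theorem isMulCommutative_sup {X Y : Subgroup G} (hX : IsMulCommutative ↥X)
    (hY : IsMulCommutative ↥Y) (hXY : ∀ x ∈ X, ∀ y ∈ Y, x * y = y * x) :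
    IsMulCommutative ↥(X ⊔ Y) := by
  have h1 : X ⊔ Y = Subgroup.closure ((X : Set G) ∪ (Y : Set G)) := by
    rw [Subgroup.closure_union, Subgroup.closure_eq, Subgroup.closure_eq]
  rw [h1]
  apply Subgroup.isMulCommutative_closure
  rintro a (ha | ha) b (hb | hb)
  · exact comm_of_isMulCommutative hX ha hb
  · exact hXY a ha b hb
  · exact (hXY b hb a ha).symm
  · exact comm_of_isMulCommutative hY ha hb

theorem cj_eq_of_mem_centralizer {c : G} {H : Subgroup G}
    (hc : c ∈ Subgroup.centralizer (H : Set G)) : cj c H = H := by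
  apply mem_normalizer_iff_cj.mp
  exact Subgroup.centralizer_le_normalizer _ hc

theorem cj_eq_of_normal (g : G) (M : Subgroup G) [hM : M.Normal] : cj g M = M := by
  apply mem_normalizer_iff_cj.mp
  rw [Subgroup.normalizer_eq_top]
  exact Subgroup.mem_top g

end

section
variable {G : Type*} [Group G] [Finite G] {p : ℕ} [hp : Fact p.Prime]

/-- a coprime element acting trivially on `Ap / M`, `|M| = p`, centralizes `Ap` -/
theorem centralizes_of_comm_mem {M Ap : Subgroup G} [hMn : M.Normal] (hMAp : M ≤ Ap)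
    (hAp : IsPGroup p Ap) (hMcard : Nat.card M = p) (hMp : ∀ x : G, x ^ p = 1 → x ∈ M)
    {y : G} (hyAp : y ∈ Ap) (hy : orderOf y = p ^ 2) {h : G} {n : ℕ} (hn : h ^ n = 1)
    (hnp : n.Coprime p) (hcomm : ∀ x ∈ Ap, h * x * h⁻¹ * x⁻¹ ∈ M) :
    ∀ x ∈ Ap, h * x * h⁻¹ = x := by
  have hpp := hp.out
  -- M is central in Ap
  have hMc : ∀ m ∈ M, ∀ x ∈ Ap, m * x = x * m := by
    intro m hm x hx
    haveI : (M.subgroupOf Ap).Normal := Subgroup.Normal.subgroupOf hMn Ap
    have hcard : Nat.card (M.subgroupOf Ap) = p := by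
      rw [← hMcard]
      exact Nat.card_congr (Subgroup.subgroupOfEquivOfLe hMAp).toEquiv
    have h1 := Cfsg.Agent.Lib.Helper4.GC.le_center_of_card_prime p hAp (M.subgroupOf Ap) hcard
    have h2 : (⟨m, hMAp hm⟩ : Ap) ∈ M.subgroupOf Ap := Subgroup.mem_subgroupOf.mpr hm
    have h3 := Subgroup.mem_center_iff.mp (h1 h2) ⟨x, hx⟩
    have h4 := congrArg Subtype.val h3
    exact h4.symm
  have hMpow : ∀ m ∈ M, m ^ p = 1 := by
    intro m hm
    have := pow_card_eq_one' (G := M) (x := ⟨m, hm⟩)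
    rw [hMcard] at this
    exact congrArg Subtype.val this
  -- z = y ^ p generates M
  set z := y ^ p with hz
  have hzM : z ∈ M := by
    apply hMp
    rw [hz, ← pow_mul, ← pow_two, ← hy, pow_orderOf_eq_one]
  have hzord : orderOf z = p := by
    rw [hz, orderOf_pow_of_dvd hpp.ne_zero (by rw [hy]; exact dvd_pow_self p (by norm_num)), hy,
      pow_two, Nat.mul_div_cancel _ hpp.pos]
  have hMz : M = Subgroup.zpowers z := by
    symm
    apply Subgroup.eq_of_le_of_card_ge (Subgroup.zpowers_le.mpr hzM)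
    rw [Nat.card_zpowers, hzord, hMcard]
  -- h centralizes z
  have hhz : h * z * h⁻¹ = z := by
    set m₀ := h * y * h⁻¹ * y⁻¹ with hm₀
    have hm₀M : m₀ ∈ M := hcomm y hyAp
    have h1 : h * y * h⁻¹ = m₀ * y := by rw [hm₀]; group
    have h2 : Commute m₀ y := hMc m₀ hm₀M y hyAp
    rw [hz, ← conj_pow, h1, h2.mul_pow, hMpow m₀ hm₀M, one_mul]
  have hhM : ∀ m ∈ M, h * m * h⁻¹ = m := by
    intro m hm
    rw [hMz] at hm
    obtain ⟨i, rfl⟩ := Subgroup.mem_zpowers_iff.mp hm
    rw [← conj_zpow, hhz]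
  intro x hx
  set m := h * x * h⁻¹ * x⁻¹ with hm
  have hmM : m ∈ M := hcomm x hx
  have h1 : h * x * h⁻¹ = m * x := by rw [hm]; group
  have hiter : ∀ i : ℕ, h ^ i * x * (h ^ i)⁻¹ = m ^ i * x := by
    intro i
    induction i with
    | zero => simp
    | succ i ih =>
      have h2 : h ^ (i + 1) * x * (h ^ (i + 1))⁻¹ = h * (h ^ i * x * (h ^ i)⁻¹) * h⁻¹ := by
        rw [pow_succ']; group
      rw [h2, ih]
      have h3 : h * (m ^ i * x) * h⁻¹ = (h * m ^ i * h⁻¹) * (h * x * h⁻¹) := by group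
      rw [h3, hhM _ (M.pow_mem hmM i), h1, pow_succ]
      group
  have h4 := hiter n
  rw [hn, one_mul, inv_one, mul_one] at h4
  have h5 : m ^ n = 1 := by
    have : m ^ n * x = 1 * x := by rw [one_mul]; exact h4.symm
    exact mul_right_cancel this
  have h6 : orderOf m ∣ n := orderOf_dvd_of_pow_eq_one h5
  have h7 : orderOf m ∣ p := orderOf_dvd_of_pow_eq_one (hMpow m hmM)
  have h8 : orderOf m ∣ 1 := by
    have := Nat.dvd_gcd h6 h7
    rwa [hnp] at this
  have h9 : m = 1 := orderOf_eq_one_iff.mp (Nat.dvd_one.mp h8)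
  rw [h1, h9, one_mul]

/-- a `p`-subgroup properly containing the subgroup `M` of all elements of order dividing `p`
contains an element of order `p ^ 2` -/
theorem exists_orderOf_sq {M Xp : Subgroup G} (hMX : M ≤ Xp) (hne : Xp ≠ M)
    (hXp : IsPGroup p Xp) (hMp : ∀ x : G, x ^ p = 1 → x ∈ M) :
    ∃ y ∈ Xp, orderOf y = p ^ 2 := by
  have hpp := hp.out
  have hlt : M < Xp := lt_of_le_of_ne hMX (Ne.symm hne)
  obtain ⟨x, hxX, hxM⟩ := SetLike.exists_of_lt hlt
  obtain ⟨k, hk⟩ := IsPGroup.iff_orderOf.mp hXp ⟨x, hxX⟩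
  rw [Subgroup.orderOf_mk] at hk
  have hk2 : 2 ≤ k := by
    by_contra hlt
    apply hxM
    apply hMp
    have : k = 0 ∨ k = 1 := by omega
    rcases this with h | h
    · rw [h, pow_zero, orderOf_eq_one_iff] at hk
      rw [hk, one_pow]
    · rw [h, pow_one] at hk
      have := pow_orderOf_eq_one x
      rwa [hk] at this
  refine ⟨x ^ (p ^ (k - 2)), Xp.pow_mem hxX _, ?_⟩
  rw [orderOf_pow_of_dvd (pow_ne_zero _ hpp.ne_zero) (by rw [hk]; exact pow_dvd_pow p (by omega)),
    hk, Nat.pow_div (by omega) hpp.pos]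
  have : k - (k - 2) = 2 := by omega
  rw [this]

/-- two Sylow `p`-subgroups of `G` inside `C` are conjugate in `C` -/
theorem sylow_conj_in {C Ap Bp : Subgroup G} (P : Sylow p G) (hAC : Ap ≤ C) (hBC : Bp ≤ C)
    (hA : Nat.card Ap = Nat.card P) (hBc : Nat.card Bp = Nat.card P) :
    ∃ c ∈ C, Bp = cj c Ap := by
  have hpp := hp.out
  have hPcard := P.card_eq_multiplicity
  have hfac : (Nat.card C).factorization p = (Nat.card G).factorization p := by
    apply le_antisymm
    · exact (Nat.factorization_le_iff_dvd Nat.card_pos.ne' Nat.card_pos.ne').mpr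
        (Subgroup.card_subgroup_dvd_card C) p
    · have h1 : p ^ (Nat.card G).factorization p ∣ Nat.card C := by
        rw [← hPcard, ← hA]
        exact Subgroup.card_dvd_of_le hAC
      exact (hpp.pow_dvd_iff_le_factorization Nat.card_pos.ne').mp h1
  have hcardA : Nat.card (Ap.subgroupOf C) = p ^ (Nat.card C).factorization p := by
    rw [hfac, ← hPcard, ← hA]
    exact Nat.card_congr (Subgroup.subgroupOfEquivOfLe hAC).toEquiv
  have hcardB : Nat.card (Bp.subgroupOf C) = p ^ (Nat.card C).factorization p := by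
    rw [hfac, ← hPcard, ← hBc]
    exact Nat.card_congr (Subgroup.subgroupOfEquivOfLe hBC).toEquiv
  set QA : Sylow p C := Sylow.ofCard (Ap.subgroupOf C) hcardA with hQA
  set QB : Sylow p C := Sylow.ofCard (Bp.subgroupOf C) hcardB with hQB
  obtain ⟨c, hc⟩ := MulAction.exists_smul_eq C QA QB
  refine ⟨(c : G), c.2, ?_⟩
  have h1 : ((c • QA : Sylow p C) : Subgroup C) = (QB : Subgroup C) := by rw [hc]
  rw [Sylow.coe_subgroup_smul, Subgroup.pointwise_smul_def] at h1
  have h2 : (QA : Subgroup C) = Ap.subgroupOf C := Sylow.coe_ofCard _ _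
  have h3 : (QB : Subgroup C) = Bp.subgroupOf C := Sylow.coe_ofCard _ _
  rw [h2, h3] at h1
  have h4 := map_subtype_cj C c (Ap.subgroupOf C)
  rw [Subgroup.map_subgroupOf_eq_of_le hAC] at h4
  rw [← h4]
  have h5 : cj c (Ap.subgroupOf C) = Bp.subgroupOf C := h1
  rw [h5, Subgroup.map_subgroupOf_eq_of_le hBC]

end

end Cfsg.Agent.Lib.Helper9.BGrp
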