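import Mathlib
import Cfsg.Agent.Lib.Helper9.BGrp3

set_option autoImplicit false

/-!
# Solvable `B`-groups: the quotient by a minimal normal subgroup is a `B`-group
-/

namespace Cfsg.Agent.Lib.Helper9.BGrp

open Cfsg Cfsg.Agent.Lib.Helper7

section
variable {G : Type*} [Group G] [Finite G] {p : ℕ} [hp : Fact p.Prime]

/-- if every subgroup of order `p` equals `M`, then a subgroup properly inside a
Sylow `p`-subgroup is abelian (solvable `B`-group) -/
theorem abelian_of_lt_sylow (hsol : Group.IsSolvable G) (hB : IsB G) {M : Subgroup G}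
    (hU : ∀ X : Subgroup G, Nat.card X = p → X = M) (Q : Sylow p G) {Xp : Subgroup G}
    (hXQ : Xp ≤ Q) (hlt : Nat.card Xp < Nat.card Q) : IsMulCommutative ↥Xp := by
  have hpp := hp.out
  have huniq : ∀ H K : Subgroup (Q : Subgroup G), Nat.card H = p → Nat.card K = p → H = K := by
    intro H K hH hK
    have h1 : H.map (Q : Subgroup G).subtype = M := by
      apply hU
      rw [Subgroup.card_map_of_injective (Q : Subgroup G).subtype_injective, hH]
    have h2 : K.map (Q : Subgroup G).subtype = M := by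
      apply hU
      rw [Subgroup.card_map_of_injective (Q : Subgroup G).subtype_injective, hK]
    exact Subgroup.map_injective (Q : Subgroup G).subtype_injective (h1.trans h2.symm)
  have hQab_suff : IsMulCommutative ↥(Q : Subgroup G) → IsMulCommutative ↥Xp := by
    intro h
    apply isMulCommutative_of_forall
    intro a ha b hb
    exact comm_of_isMulCommutative h (hXQ ha) (hXQ hb)
  rcases Cfsg.Agent.S0016.result p Q.isPGroup' huniq with hcyc | ⟨hp2, n, ⟨e⟩⟩
  · exact hQab_suff inferInstance
  · subst hp2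
    rcases Nat.lt_or_ge n 2 with hn | hn
    · have hn01 : n = 0 ∨ n = 1 := by omega
      rcases hn01 with h0 | h1
      · subst h0
        haveI : IsCyclic (QuaternionGroup (2 ^ 0)) := by
          rw [pow_zero]; exact QuaternionGroup.quaternionGroup_one_isCyclic
        haveI : IsCyclic ↥(Q : Subgroup G) := isCyclic_of_surjective e.symm e.symm.surjective
        exact hQab_suff inferInstance
      · subst h1
        have hQ8 : Nat.card (Q : Subgroup G) = 8 := by
          haveI : NeZero (2 ^ 1) := ⟨by norm_num⟩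
          rw [Nat.card_congr e.toEquiv, Nat.card_eq_fintype_card, QuaternionGroup.card]
          norm_num
        have hXp2 : IsPGroup 2 Xp := Q.isPGroup'.to_le hXQ
        obtain ⟨j, hj⟩ := IsPGroup.iff_card.mp hXp2
        rw [hQ8, hj] at hlt
        have hj3 : j < 3 := by
          by_contra h
          have : 2 ^ 3 ≤ 2 ^ j := Nat.pow_le_pow_right (by norm_num) (by omega)
          omega
        have hj012 : j = 0 ∨ j = 1 ∨ j = 2 := by omega
        rcases hj012 with h | h | h
        · rw [h, pow_zero] at hj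
          haveI : Subsingleton ↥Xp := (Nat.card_eq_one_iff_unique.mp hj).1
          exact ⟨⟨fun a b => Subsingleton.elim _ _⟩⟩
        · rw [h, pow_one] at hj
          haveI : IsCyclic ↥Xp := isCyclic_of_prime_card hj
          infer_instance
        · rw [h] at hj
          exact IsPGroup.isMulCommutative_of_card_eq_prime_sq hj
    · exact (no_big_quaternion hsol hB Q n hn e).elim

/-- the decomposition data of a subgroup `A ≥ M` with `A / M` abelian -/
structure Dat (p : ℕ) (M A Ap H : Subgroup G) : Prop where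
  hM : M ≤ Ap
  hApA : Ap ≤ A
  hAp : IsPGroup p Ap
  hH : (Nat.card H).Coprime p
  hcard : Nat.card A = Nat.card Ap * Nat.card H
  hsup : Ap ⊔ H = A
  hcomm : ∀ a ∈ A, ∀ b ∈ A, a * b * a⁻¹ * b⁻¹ ∈ M
  hHab : IsMulCommutative ↥H

omit [Finite G] hp in
theorem Dat.hHA {M A Ap H : Subgroup G} (d : Dat p M A Ap H) : H ≤ A := by
  rw [← d.hsup]; exact le_sup_right

omit hp in
theorem Dat.conj {M A Ap H : Subgroup G} [hMn : M.Normal] (d : Dat p M A Ap H) (g : G) :
    Dat p M (cj g A) (cj g Ap) (cj g H) where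
  hM := by
    have := cj_mono g d.hM
    rwa [cj_eq_of_normal g M] at this
  hApA := cj_mono g d.hApA
  hAp := d.hAp.map _
  hH := by rw [card_cj]; exact d.hH
  hcard := by rw [card_cj, card_cj, card_cj]; exact d.hcard
  hsup := by rw [← cj_sup, d.hsup]
  hcomm := by
    rintro _ ⟨a, ha, rfl⟩ _ ⟨b, hb, rfl⟩
    have h1 := d.hcomm a ha b hb
    have h2 := hMn.conj_mem _ h1 g
    have h3 : (MulAut.conj g).toMonoidHom a * (MulAut.conj g).toMonoidHom b *
        ((MulAut.conj g).toMonoidHom a)⁻¹ * ((MulAut.conj g).toMonoidHom b)⁻¹ =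
        g * (a * b * a⁻¹ * b⁻¹) * g⁻¹ := by
      simp only [MulEquiv.coe_toMonoidHom, MulAut.conj_apply]
      group
    rw [h3]
    exact h2
  hHab := isMulCommutative_map _ d.hHab

/-- existence of the decomposition -/
theorem exists_dat {M A : Subgroup G} [hMn : M.Normal] (hMA : M ≤ A) (hMp : IsPGroup p M)
    (hcomm : ∀ a ∈ A, ∀ b ∈ A, a * b * a⁻¹ * b⁻¹ ∈ M) :
    ∃ Ap H : Subgroup G, Dat p M A Ap H := by
  have hpp := hp.out
  have hM'p : IsPGroup p (M.subgroupOf A) := hMp.comap_subtype
  obtain ⟨Q, hQ⟩ := hM'p.exists_le_sylow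
  have hQn : (Q : Subgroup A).Normal := by
    constructor
    intro n hn a
    have h1 : a * n * a⁻¹ = (a * n * a⁻¹ * n⁻¹) * n := by group
    rw [h1]
    apply (Q : Subgroup A).mul_mem _ hn
    apply hQ
    rw [Subgroup.mem_subgroupOf]
    exact hcomm _ a.2 _ n.2
  obtain ⟨H', hH'⟩ := Subgroup.exists_right_complement'_of_coprime Q.card_coprime_index
  refine ⟨(Q : Subgroup A).map A.subtype, H'.map A.subtype, ?_⟩
  have hinj := A.subtype_injective
  refine ⟨?_, Subgroup.map_subtype_le _, Q.isPGroup'.map _, ?_, ?_, ?_, hcomm, ?_⟩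
  · intro m hm
    exact ⟨⟨m, hMA hm⟩, hQ (Subgroup.mem_subgroupOf.mpr hm), rfl⟩
  · rw [Subgroup.card_map_of_injective hinj, ← hH'.symm.index_eq_card]
    exact ((Nat.Prime.coprime_iff_not_dvd hpp).mpr Q.not_dvd_index).symm
  · rw [Subgroup.card_map_of_injective hinj, Subgroup.card_map_of_injective hinj]
    exact hH'.card_mul.symm
  · rw [← Subgroup.map_sup, hH'.sup_eq_top, ← MonoidHom.range_eq_map, Subgroup.range_subtype]
  · apply isMulCommutative_of_forall
    rintro _ ⟨h, hh, rfl⟩ _ ⟨h', hh', rfl⟩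
    have h1 : h * h' * h⁻¹ * h'⁻¹ ∈ (Q : Subgroup A) ⊓ H' := by
      refine ⟨hQ ?_, ?_⟩
      · rw [Subgroup.mem_subgroupOf]
        exact hcomm _ h.2 _ h'.2
      · exact H'.mul_mem (H'.mul_mem (H'.mul_mem hh hh') (H'.inv_mem hh)) (H'.inv_mem hh')
    rw [hH'.disjoint.eq_bot, Subgroup.mem_bot] at h1
    have h2 : h * h' = h' * h := by
      have : h * h' = (h * h' * h⁻¹ * h'⁻¹) * (h' * h) := by group
      rw [this, h1, one_mul]
    show A.subtype h * A.subtype h' = A.subtype h' * A.subtype h
    rw [← map_mul, ← map_mul, h2]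

end

end Cfsg.Agent.Lib.Helper9.BGrp
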