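import Mathlib
import Cfsg.Agent.Lib.Helper9.BGrp4

set_option autoImplicit false

/-!
# Solvable `B`-groups: the quotient by a minimal normal subgroup is a `B`-group (main part)
-/

namespace Cfsg.Agent.Lib.Helper9.BGrp

open Cfsg Cfsg.Agent.Lib.Helper7

section
variable {G : Type*} [Group G] [Finite G] {p : ℕ} [hp : Fact p.Prime]

/-- all elements of order dividing `p` lie in the normal subgroup `M` -/
theorem mem_of_pow_eq_one (hB : IsB G) {M : Subgroup G} [hMn : M.Normal] (hM1 : M ≠ ⊥)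
    (hMexp : ∀ m ∈ M, m ^ p = 1) : ∀ x : G, x ^ p = 1 → x ∈ M := by
  have hpp := hp.out
  intro x hx
  by_cases hx1 : x = 1
  · rw [hx1]; exact M.one_mem
  obtain ⟨m, hm1⟩ := (Subgroup.ne_bot_iff_exists_ne_one).mp hM1
  have hm1' : (m : G) ≠ 1 := fun h => hm1 (Subtype.ext h)
  have h1 : orderOf (m : G) = p := orderOf_eq_prime (hMexp _ m.2) hm1'
  have h2 : orderOf x = p := orderOf_eq_prime hx hx1
  exact hB.mem_normal_of_orderOf_eq M m.2 (h1.trans h2.symm)

theorem same_complement (hsol : Group.IsSolvable G) (hB : IsB G) {M A B Ap Bp H : Subgroup G}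
    [hMn : M.Normal] (hM1 : M ≠ ⊥) (hMexp : ∀ m ∈ M, m ^ p = 1)
    (dA : Dat p M A Ap H) (dB : Dat p M B Bp H) (hc : Nat.card A = Nat.card B) :
    ∃ g : G, B = cj g A := by
  have hpp := hp.out
  have hMp := mem_of_pow_eq_one hB hM1 hMexp
  have hHpos : 0 < Nat.card H := Nat.card_pos
  have hcardp : Nat.card Ap = Nat.card Bp := by
    have h1 := dA.hcard
    have h2 := dB.hcard
    rw [hc, h2] at h1
    exact (Nat.eq_of_mul_eq_mul_right hHpos h1).symm
  by_cases hAM : Ap = M
  · have hBM : Bp = M := by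
      symm
      apply Subgroup.eq_of_le_of_card_ge dB.hM
      rw [← hcardp, hAM]
    refine ⟨1, ?_⟩
    rw [cj_one, ← dA.hsup, ← dB.hsup, hAM, hBM]
  have hBM : Bp ≠ M := by
    intro h
    apply hAM
    symm
    apply Subgroup.eq_of_le_of_card_ge dA.hM
    rw [hcardp, h]
  obtain ⟨y, hyA, hy⟩ := exists_orderOf_sq dA.hM hAM dA.hAp hMp
  obtain ⟨y', hyB, hy'⟩ := exists_orderOf_sq dB.hM hBM dB.hAp hMp
  -- no abelian subgroup of order p^2 and exponent p
  have hnoEl : ∀ W : Subgroup G, IsMulCommutative ↥W → Nat.card W = p ^ 2 →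
      (∀ w ∈ W, w ^ p = 1) → False := by
    intro W hW hWc hWe
    obtain ⟨g, hg⟩ := hB _ _ hW (isMulCommutative_zpowers y)
      (by rw [hWc, Nat.card_zpowers, hy])
    have h1 : y ∈ cj g W := by
      change y ∈ W.map (MulAut.conj g).toMonoidHom
      rw [← hg]; exact Subgroup.mem_zpowers y
    rw [mem_cj] at h1
    have h2 := hWe _ h1
    have h3 : (g⁻¹ * y * g) ^ p = g⁻¹ * y ^ p * g := by
      have := conj_pow (a := g⁻¹) (b := y) (i := p)
      rw [inv_inv] at this
      exact this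
    rw [h3] at h2
    have h4 : y ^ p = 1 := by
      have : y ^ p = g * (g⁻¹ * y ^ p * g) * g⁻¹ := by group
      rw [this, h2]; group
    have h5 := orderOf_dvd_of_pow_eq_one h4
    rw [hy] at h5
    have h6 := Nat.le_of_dvd hpp.pos h5
    have : p < p ^ 2 := by
      rw [pow_two]; exact lt_mul_self hpp.one_lt
    omega
  -- |M| = p
  have hMpg : IsPGroup p M := by
    intro m
    refine ⟨1, ?_⟩
    rw [pow_one]
    exact Subtype.ext (hMexp _ m.2)
  have hMcard : Nat.card M = p := by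
    obtain ⟨d, hd⟩ := IsPGroup.iff_card.mp hMpg
    have hd0 : d ≠ 0 := by
      intro h
      rw [h, pow_zero, Subgroup.card_eq_one] at hd
      exact hM1 hd
    by_cases hd1 : d = 1
    · rw [hd, hd1, pow_one]
    exfalso
    have hdvd : p ^ 2 ∣ Nat.card M := by rw [hd]; exact pow_dvd_pow p (by omega)
    obtain ⟨W', hW'⟩ := Sylow.exists_subgroup_card_pow_prime p hdvd
    have hWab : IsMulCommutative ↥W' := IsPGroup.isMulCommutative_of_card_eq_prime_sq hW'
    apply hnoEl (W'.map M.subtype) (isMulCommutative_map _ hWab)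
    · rw [Subgroup.card_map_of_injective M.subtype_injective, hW']
    · rintro _ ⟨w, -, rfl⟩
      exact hMexp _ w.2
  have hU : ∀ X : Subgroup G, Nat.card X = p → X = M := by
    intro X hX
    apply Subgroup.eq_of_le_of_card_ge
    · intro x hx
      apply hMp
      have := pow_card_eq_one' (G := X) (x := ⟨x, hx⟩)
      rw [hX] at this
      exact congrArg Subtype.val this
    · rw [hX, hMcard]
  -- H centralizes Ap and Bp
  have hcen : ∀ {X Xp : Subgroup G}, Dat p M X Xp H → ∀ y ∈ Xp, orderOf y = p ^ 2 →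
      Xp ≤ Subgroup.centralizer (H : Set G) := by
    intro X Xp d y hyX hy x hx
    rw [Subgroup.mem_centralizer_iff]
    intro h hh
    have hn : h ^ Nat.card H = 1 := by
      have := pow_card_eq_one' (G := H) (x := ⟨h, hh⟩)
      exact congrArg Subtype.val this
    have h1 := centralizes_of_comm_mem d.hM d.hAp hMcard hMp hyX hy hn d.hH
      (fun x hx => d.hcomm h (d.hHA hh) x (d.hApA hx)) x hx
    calc h * x = (h * x * h⁻¹) * h := by group
      _ = x * h := by rw [h1]
  have hAcen := hcen dA y hyA hy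
  have hBcen := hcen dB y' hyB hy'
  obtain ⟨P, hAP⟩ := dA.hAp.exists_le_sylow
  obtain ⟨P', hBP'⟩ := dB.hAp.exists_le_sylow
  have hPP' : Nat.card P = Nat.card P' := by
    rw [P.card_eq_multiplicity, P'.card_eq_multiplicity]
  by_cases hfull : Nat.card Ap = Nat.card P
  · obtain ⟨c, hcC, hc'⟩ := sylow_conj_in P hAcen hBcen hfull (hcardp.symm.trans hfull)
    refine ⟨c, ?_⟩
    rw [← dA.hsup, ← dB.hsup, cj_sup, ← hc', cj_eq_of_mem_centralizer hcC]
  · have hltA : Nat.card Ap < Nat.card P :=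
      lt_of_le_of_ne (Subgroup.card_le_of_le hAP) hfull
    have hltB : Nat.card Bp < Nat.card P' := by rw [← hcardp, ← hPP']; exact hltA
    have hAab := abelian_of_lt_sylow hsol hB hU P hAP hltA
    have hBab := abelian_of_lt_sylow hsol hB hU P' hBP' hltB
    have hcomm' : ∀ {Xp : Subgroup G}, Xp ≤ Subgroup.centralizer (H : Set G) →
        ∀ x ∈ Xp, ∀ h ∈ H, x * h = h * x := by
      intro Xp hX x hx h hh
      exact ((Subgroup.mem_centralizer_iff.mp (hX hx)) h hh).symm
    have hA' : IsMulCommutative ↥A := by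
      rw [← dA.hsup]
      exact isMulCommutative_sup hAab dA.hHab (hcomm' hAcen)
    have hB' : IsMulCommutative ↥B := by
      rw [← dB.hsup]
      exact isMulCommutative_sup hBab dB.hHab (hcomm' hBcen)
    exact hB A B hA' hB' hc

/-- main lifting lemma -/
theorem conj_of_quotient_abelian (hsol : Group.IsSolvable G) (hB : IsB G) {M A B : Subgroup G}
    [hMn : M.Normal] (hM1 : M ≠ ⊥) (hMexp : ∀ m ∈ M, m ^ p = 1) (hMA : M ≤ A) (hMB : M ≤ B)
    (hA : ∀ a ∈ A, ∀ b ∈ A, a * b * a⁻¹ * b⁻¹ ∈ M)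
    (hBc : ∀ a ∈ B, ∀ b ∈ B, a * b * a⁻¹ * b⁻¹ ∈ M) (hc : Nat.card A = Nat.card B) :
    ∃ g : G, B = cj g A := by
  have hpp := hp.out
  have hMpg : IsPGroup p M := by
    intro m
    refine ⟨1, ?_⟩
    rw [pow_one]
    exact Subtype.ext (hMexp _ m.2)
  obtain ⟨Ap, HA, dA⟩ := exists_dat hMA hMpg hA
  obtain ⟨Bp, HB, dB⟩ := exists_dat hMB hMpg hBc
  -- orders of the complements agree
  have hcardH : Nat.card HA = Nat.card HB := by
    obtain ⟨i, hi⟩ := IsPGroup.iff_card.mp dA.hAp
    obtain ⟨j, hj⟩ := IsPGroup.iff_card.mp dB.hAp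
    have h1 := dA.hcard
    have h2 := dB.hcard
    rw [hc, h2, hi, hj] at h1
    have hHA : (p ^ i).Coprime (Nat.card HB) := (Nat.Coprime.pow_left i
      ((Nat.Prime.coprime_iff_not_dvd hpp).mpr
        (fun h => by
          have := Nat.Coprime.eq_one_of_dvd dB.hH.symm h
          exact hpp.one_lt.ne' this)))
    have hHB : (p ^ j).Coprime (Nat.card HA) := (Nat.Coprime.pow_left j
      ((Nat.Prime.coprime_iff_not_dvd hpp).mpr
        (fun h => by
          have := Nat.Coprime.eq_one_of_dvd dA.hH.symm h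
          exact hpp.one_lt.ne' this)))
    have h3 : Nat.card HA ∣ Nat.card HB := by
      have : Nat.card HA ∣ p ^ j * Nat.card HB := ⟨p ^ i, by rw [h1]; ring⟩
      exact (Nat.Coprime.dvd_mul_left hHB.symm).mp this
    have h4 : Nat.card HB ∣ Nat.card HA := by
      have : Nat.card HB ∣ p ^ i * Nat.card HA := ⟨p ^ j, by rw [← h1]; ring⟩
      exact (Nat.Coprime.dvd_mul_left hHA.symm).mp this
    exact Nat.dvd_antisymm h3 h4
  obtain ⟨g, hg⟩ := hB _ _ dA.hHab dB.hHab hcardH
  have dA' := dA.conj g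
  have hg' : cj g HA = HB := hg.symm
  rw [hg'] at dA'
  obtain ⟨g', hg''⟩ := same_complement hsol hB hM1 hMexp dA' dB (by rw [card_cj]; exact hc)
  refine ⟨g' * g, ?_⟩
  rw [cj_mul]
  exact hg''

end

end Cfsg.Agent.Lib.Helper9.BGrp
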