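import Mathlib
import Cfsg.Agent.Lib.Helper9.BGrp5
import Cfsg.Agent.Lib.Helper2.MinNormal
import Cfsg.Agent.Lib.Helper2.CoreFree

set_option autoImplicit false

/-!
# Solvable `B`-groups are quotient closed
-/

namespace Cfsg.Agent.Lib.Helper9.BGrp

open Cfsg Cfsg.Agent.Lib.Helper7

universe u

section
variable {G : Type*} [Group G] [Finite G] {p : ℕ} [hp : Fact p.Prime]

theorem isB_quotient_of_elementary (hsol : Group.IsSolvable G) (hB : IsB G) (M : Subgroup G)
    [hMn : M.Normal] (hM1 : M ≠ ⊥) (hMexp : ∀ m ∈ M, m ^ p = 1) : IsB (G ⧸ M) := by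
  intro Ab Bb hAb hBb hc
  set π := QuotientGroup.mk' M with hπ
  have hπs : Function.Surjective π := QuotientGroup.mk'_surjective M
  set A := Ab.comap π with hA
  set B := Bb.comap π with hBdef
  have hker : ∀ X : Subgroup (G ⧸ M), M ≤ X.comap π := by
    intro X m hm
    rw [Subgroup.mem_comap]
    have : π m = 1 := (QuotientGroup.eq_one_iff m).mpr hm
    rw [this]; exact X.one_mem
  have hcomm : ∀ X : Subgroup (G ⧸ M), IsMulCommutative ↥X →
      ∀ a ∈ X.comap π, ∀ b ∈ X.comap π, a * b * a⁻¹ * b⁻¹ ∈ M := by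
    intro X hX a ha b hb
    rw [← QuotientGroup.eq_one_iff]
    show π (a * b * a⁻¹ * b⁻¹) = 1
    rw [map_mul, map_mul, map_mul, map_inv, map_inv,
      comm_of_isMulCommutative hX (Subgroup.mem_comap.mp ha) (Subgroup.mem_comap.mp hb)]
    group
  have hidx : ∀ X : Subgroup (G ⧸ M), (X.comap π).index = X.index :=
    fun X => Subgroup.index_comap_of_surjective X hπs
  have hcard : Nat.card A = Nat.card B := by
    have h1 : Ab.index = Bb.index := by
      have ha := Ab.card_mul_index
      have hb := Bb.card_mul_index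
      rw [← hb, hc] at ha
      exact Nat.eq_of_mul_eq_mul_left Nat.card_pos ha
    have h2 : A.index = B.index := by rw [hA, hBdef, hidx, hidx, h1]
    have ha := A.card_mul_index
    have hb := B.card_mul_index
    rw [← hb, h2] at ha
    exact Nat.eq_of_mul_eq_mul_right (Nat.pos_of_ne_zero B.index_ne_zero_of_finite) ha
  obtain ⟨g, hg⟩ := conj_of_quotient_abelian hsol hB hM1 hMexp (hker Ab) (hker Bb)
    (hcomm Ab hAb) (hcomm Bb hBb) hcard
  refine ⟨π g, ?_⟩
  have h1 : A.map π = Ab := Subgroup.map_comap_eq_self_of_surjective hπs Ab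
  have h2 : B.map π = Bb := Subgroup.map_comap_eq_self_of_surjective hπs Bb
  have hg' : B = cj g A := hg
  rw [← h1, ← h2, hg', Subgroup.map_map, Subgroup.map_map]
  congr 1

end

theorem isB_quotient_aux : ∀ n : ℕ, ∀ (G : Type u) [Group G] [Finite G], Group.IsSolvable G →
    IsB G → ∀ (M : Subgroup G) [M.Normal], Nat.card M = n → IsB (G ⧸ M) := by
  intro n
  induction n using Nat.strong_induction_on with
  | _ n ih =>
    intro G _ _ hsol hB M hMn hcard
    rcases eq_or_ne M ⊥ with rfl | hM
    · exact hB.of_equiv QuotientGroup.quotientBot.symm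
    obtain ⟨M₁, hM₁M, hM₁n, hM₁1, hmin⟩ := Cfsg.Agent.Lib.Helper2.exists_minNormal_le M hM
    haveI := hM₁n
    haveI := hsol
    have hc := Cfsg.Agent.Lib.Helper2.isMulCommutative_of_minNormal_of_solvable M₁ hM₁1 hmin
    obtain ⟨p, hp, hexp, d, -, hd⟩ :=
      Cfsg.Agent.Lib.Helper2.exists_prime_pow_of_minNormal_abelian M₁ hM₁1 hmin hc
    haveI : Fact p.Prime := ⟨hp⟩
    have hB₁ : IsB (G ⧸ M₁) := isB_quotient_of_elementary hsol hB M₁ hM₁1 hexp
    have hsol₁ : Group.IsSolvable (G ⧸ M₁) := inferInstance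
    set M' : Subgroup (G ⧸ M₁) := M.map (QuotientGroup.mk' M₁) with hM'
    haveI : M'.Normal := Subgroup.Normal.map hMn _ (QuotientGroup.mk'_surjective M₁)
    have hcard' : Nat.card M' < n := by
      have hπs : Function.Surjective (QuotientGroup.mk' M₁) := QuotientGroup.mk'_surjective M₁
      have hcm : M'.comap (QuotientGroup.mk' M₁) = M := by
        rw [hM']
        apply Subgroup.comap_map_eq_self
        rw [QuotientGroup.ker_mk']
        exact hM₁M
      have hidx : M'.index = M.index := by
        rw [← hcm]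
        exact (Subgroup.index_comap_of_surjective M' hπs).symm
      have h1 : Nat.card G = Nat.card (G ⧸ M₁) * Nat.card M₁ :=
        Subgroup.card_eq_card_quotient_mul_card_subgroup M₁
      have h2 := M'.card_mul_index
      have h3 := M.card_mul_index
      rw [hidx] at h2
      have h4 : Nat.card M * M.index = Nat.card M' * Nat.card M₁ * M.index := by
        rw [h3, h1, ← h2]; ring
      have h5 : Nat.card M = Nat.card M' * Nat.card M₁ :=
        Nat.eq_of_mul_eq_mul_right (Nat.pos_of_ne_zero M.index_ne_zero_of_finite) h4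
      have h6 : 1 < Nat.card M₁ := by
        rw [Subgroup.one_lt_card_iff_ne_bot]; exact hM₁1
      have h7 : 0 < Nat.card M' := Nat.card_pos
      rw [← hcard, h5]
      nlinarith
    have hB₂ := ih (Nat.card M') hcard' (G ⧸ M₁) hsol₁ hB₁ M' rfl
    exact hB₂.of_equiv (QuotientGroup.quotientQuotientEquivQuotient M₁ M hM₁M)

end Cfsg.Agent.Lib.Helper9.BGrp
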