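import Cfsg.Agent.Lib.Helper9.C2Max_G4
import Cfsg.Agent.Lib.Lead.C2Max_G4a
import Cfsg.Agent.Lib.Helper5.C2Max_T1

set_option autoImplicit false

/-!
S5634, package PK-G: Theorem G (overgroups of the full monomial group in `GL_κ(F)`, `|κ| ≥ 3`,
`q ≥ 5`, either are monomial or contain an elementary transvection).
-/

namespace Cfsg.Agent.Lib.Helper6.C2Max

open Matrix

variable {F : Type*} [Field F] [Fintype F] {ι : Type*} [Fintype ι] [DecidableEq ι]

theorem thmG {κ : Type*} [Fintype κ] [DecidableEq κ] (h3 : 3 ≤ Fintype.card κ)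
    (hq : 5 ≤ Fintype.card F) (L : Subgroup (GL κ F))
    (hL : ∀ g : GL κ F, IsMono (g : Matrix κ κ F) → g ∈ L) :
    (∀ g ∈ L, IsMono (g : Matrix κ κ F)) ∨ HasTvGL L := by
  refine PkG.thmG_of h3 hq ?_ L hL (fun o h => PkG.exists_isWt_of_not_mono hL o h)
  intro L' hL' I J hIJ g hg hne hdiag hoff
  exact hasTvGL_of_rect (by omega) hL' I J hIJ g hg hne hdiag hoff

end Cfsg.Agent.Lib.Helper6.C2Max
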