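import Cfsg.Agent.Lib.Helper6.C2Max.Defs

set_option autoImplicit false

/-!
S5634, package PK-G (Theorem G), part 1: monomial units of `GL κ F`, the homologies `dGL o ε`,
and the consequences of the absence of elementary transvections for the stabiliser of `e_o`.
-/

namespace Cfsg.Agent.Lib.Helper6.C2Max

open Matrix

namespace PkG

variable {F : Type*} [Field F] {κ : Type*} [Fintype κ] [DecidableEq κ]

/-- the monomial matrix `e_c ↦ d c • e_(σ c)` -/
def monoM (σ : Equiv.Perm κ) (d : κ → F) : Matrix κ κ F :=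
  Matrix.of fun r c => if r = σ c then d c else 0

theorem monoM_apply (σ : Equiv.Perm κ) (d : κ → F) (r c : κ) :
    monoM σ d r c = if r = σ c then d c else 0 := rfl

theorem monoM_mulVec (σ : Equiv.Perm κ) (d v : κ → F) :
    monoM σ d *ᵥ v = fun r => d (σ.symm r) * v (σ.symm r) := by
  funext r
  simp only [Matrix.mulVec, dotProduct, monoM_apply]
  rw [Finset.sum_eq_single (σ.symm r)]
  · simp
  · intro c _ hc
    rw [if_neg, zero_mul]
    intro h
    apply hc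
    rw [h, Equiv.symm_apply_apply]
  · intro h
    exact absurd (Finset.mem_univ _) h

theorem vecMul_monoM (σ : Equiv.Perm κ) (d φ : κ → F) :
    φ ᵥ* monoM σ d = fun c => φ (σ c) * d c := by
  funext c
  simp only [Matrix.vecMul, dotProduct, monoM_apply]
  rw [Finset.sum_eq_single (σ c)]
  · simp
  · intro r _ hr
    rw [if_neg hr, mul_zero]
  · intro h
    exact absurd (Finset.mem_univ _) h

theorem monoM_mul_inv (σ : Equiv.Perm κ) (d : κ → Fˣ) :
    monoM σ (fun c => (d c : F)) * monoM σ⁻¹ (fun c => (((d (σ⁻¹ c))⁻¹ : Fˣ) : F)) = 1 := by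
  rw [Matrix.ext_iff_mulVec]
  intro v
  rw [← Matrix.mulVec_mulVec, monoM_mulVec, monoM_mulVec, Matrix.one_mulVec]
  funext r
  have h : (σ⁻¹ : Equiv.Perm κ).symm (σ.symm r) = r := by
    rw [Equiv.Perm.inv_def, Equiv.symm_symm, Equiv.apply_symm_apply]
  show ((d (σ.symm r) : Fˣ) : F) * ((((d (σ⁻¹ ((σ⁻¹ : Equiv.Perm κ).symm (σ.symm r))))⁻¹ : Fˣ) : F) *
    v ((σ⁻¹ : Equiv.Perm κ).symm (σ.symm r))) = v r
  rw [h, Equiv.Perm.inv_def, ← mul_assoc, ← Units.val_mul, mul_inv_cancel, Units.val_one, one_mul]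

/-- the monomial element `e_c ↦ d c • e_(σ c)` of `GL κ F` -/
def monoGL (σ : Equiv.Perm κ) (d : κ → Fˣ) : GL κ F :=
  ⟨monoM σ (fun c => (d c : F)), monoM σ⁻¹ (fun c => (((d (σ⁻¹ c))⁻¹ : Fˣ) : F)),
    monoM_mul_inv σ d, mul_eq_one_comm.mp (monoM_mul_inv σ d)⟩

theorem monoGL_coe (σ : Equiv.Perm κ) (d : κ → Fˣ) :
    ((monoGL σ d : GL κ F) : Matrix κ κ F) = monoM σ (fun c => (d c : F)) := rfl

theorem monoGL_isMono (σ : Equiv.Perm κ) (d : κ → Fˣ) :
    IsMono ((monoGL σ d : GL κ F) : Matrix κ κ F) := by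
  refine ⟨σ, fun r c h => ?_⟩
  by_contra hne
  exact h (if_neg hne)

theorem monoGL_mulVec (σ : Equiv.Perm κ) (d : κ → Fˣ) (v : κ → F) :
    ((monoGL σ d : GL κ F) : Matrix κ κ F) *ᵥ v = fun r => (d (σ.symm r) : F) * v (σ.symm r) :=
  monoM_mulVec σ _ v

theorem vecMul_monoGL (σ : Equiv.Perm κ) (d : κ → Fˣ) (φ : κ → F) :
    φ ᵥ* ((monoGL σ d : GL κ F) : Matrix κ κ F) = fun c => φ (σ c) * (d c : F) :=
  vecMul_monoM σ _ φ

/-- the homology `diag(1, …, ε, …, 1)` with `ε` at `o` -/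
def dGL (o : κ) (ε : Fˣ) : GL κ F := monoGL 1 (Function.update 1 o ε)

theorem dGL_isMono (o : κ) (ε : Fˣ) : IsMono ((dGL o ε : GL κ F) : Matrix κ κ F) :=
  monoGL_isMono _ _

theorem monoGL_one_mulVec (d : κ → Fˣ) (v : κ → F) :
    ((monoGL 1 d : GL κ F) : Matrix κ κ F) *ᵥ v = fun r => (d r : F) * v r := by
  rw [monoGL_mulVec]
  rfl

theorem vecMul_monoGL_one (d : κ → Fˣ) (φ : κ → F) :
    φ ᵥ* ((monoGL 1 d : GL κ F) : Matrix κ κ F) = fun c => φ c * (d c : F) := by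
  rw [vecMul_monoGL]
  rfl

theorem dGL_mulVec (o : κ) (ε : Fˣ) (y : κ → F) :
    ((dGL o ε : GL κ F) : Matrix κ κ F) *ᵥ y = y + (((ε : F) - 1) * y o) • Pi.single o 1 := by
  unfold dGL
  rw [monoGL_one_mulVec]
  funext r
  by_cases hr : r = o
  · subst hr
    simp
    ring
  · simp [Function.update_of_ne hr, Pi.single_eq_of_ne hr]

theorem vecMul_dGL (o : κ) (ε : Fˣ) (y : κ → F) :
    y ᵥ* ((dGL o ε : GL κ F) : Matrix κ κ F) = y + (((ε : F) - 1) * y o) • Pi.single o 1 := by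
  unfold dGL
  rw [vecMul_monoGL_one]
  funext r
  by_cases hr : r = o
  · subst hr
    simp
    ring
  · simp [Function.update_of_ne hr, Pi.single_eq_of_ne hr]

theorem dGL_inv (o : κ) (ε : Fˣ) : (dGL o ε : GL κ F)⁻¹ = dGL o ε⁻¹ := by
  apply Units.ext
  show monoM (1 : Equiv.Perm κ)⁻¹ _ = monoM 1 _
  rw [inv_one]
  congr 1
  funext c
  by_cases hc : c = o
  · subst hc
    simp
  · simp [Function.update_of_ne hc]

/-! ### units acting on vectors -/

theorem inv_mulVec_mulVec (g : GL κ F) (x : κ → F) :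
    ((g⁻¹ : GL κ F) : Matrix κ κ F) *ᵥ ((g : Matrix κ κ F) *ᵥ x) = x := by
  rw [Matrix.mulVec_mulVec, Units.inv_mul, Matrix.one_mulVec]

theorem mulVec_inv_mulVec (g : GL κ F) (x : κ → F) :
    (g : Matrix κ κ F) *ᵥ (((g⁻¹ : GL κ F) : Matrix κ κ F) *ᵥ x) = x := by
  rw [Matrix.mulVec_mulVec, Units.mul_inv, Matrix.one_mulVec]

theorem vecMul_vecMul_inv (g : GL κ F) (x : κ → F) :
    (x ᵥ* (g : Matrix κ κ F)) ᵥ* ((g⁻¹ : GL κ F) : Matrix κ κ F) = x := by
  rw [Matrix.vecMul_vecMul, Units.mul_inv, Matrix.vecMul_one]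

theorem vecMul_inv_vecMul (g : GL κ F) (x : κ → F) :
    (x ᵥ* ((g⁻¹ : GL κ F) : Matrix κ κ F)) ᵥ* (g : Matrix κ κ F) = x := by
  rw [Matrix.vecMul_vecMul, Units.inv_mul, Matrix.vecMul_one]

/-- the column `o` of `g`, i.e. the vector `g e_o` -/
def colv (g : GL κ F) (o : κ) : κ → F := (g : Matrix κ κ F) *ᵥ Pi.single o 1

/-- the row `o` of `g⁻¹`, i.e. the functional `e_oᵀ g⁻¹` -/
def rowv (g : GL κ F) (o : κ) : κ → F := Pi.single o 1 ᵥ* ((g⁻¹ : GL κ F) : Matrix κ κ F)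

theorem colv_apply (g : GL κ F) (o r : κ) : colv g o r = (g : Matrix κ κ F) r o := by
  unfold colv
  rw [Matrix.mulVec_single_one]
  rfl

theorem rowv_apply (g : GL κ F) (o c : κ) : rowv g o c = ((g⁻¹ : GL κ F) : Matrix κ κ F) o c := by
  unfold rowv
  rw [Matrix.single_one_vecMul]
  rfl

theorem rowv_dot_colv (g : GL κ F) (o : κ) : rowv g o ⬝ᵥ colv g o = 1 := by
  unfold rowv colv
  rw [← Matrix.dotProduct_mulVec, inv_mulVec_mulVec, single_one_dotProduct, Pi.single_eq_same]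

theorem rowv_dot (g : GL κ F) (o : κ) (x : κ → F) :
    rowv g o ⬝ᵥ x = (((g⁻¹ : GL κ F) : Matrix κ κ F) *ᵥ x) o := by
  unfold rowv
  rw [← Matrix.dotProduct_mulVec, single_one_dotProduct]

theorem dot_colv (g : GL κ F) (o : κ) (x : κ → F) :
    x ⬝ᵥ colv g o = (x ᵥ* (g : Matrix κ κ F)) o := by
  unfold colv
  rw [Matrix.dotProduct_mulVec, dotProduct_single_one]

theorem colv_mul (n g : GL κ F) (o : κ) :
    colv (n * g) o = (n : Matrix κ κ F) *ᵥ colv g o := by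
  unfold colv
  rw [Units.val_mul, Matrix.mulVec_mulVec]

theorem colv_ne_zero (g : GL κ F) (o : κ) : colv g o ≠ 0 := by
  intro h
  have h1 := inv_mulVec_mulVec g (Pi.single o (1 : F))
  have h2 : (g : Matrix κ κ F) *ᵥ Pi.single o 1 = 0 := h
  rw [h2, Matrix.mulVec_zero] at h1
  have h3 := congrFun h1 o
  rw [Pi.zero_apply, Pi.single_eq_same] at h3
  exact zero_ne_one h3

/-- the homology with centre `g e_o` and axis `ker (e_oᵀ g⁻¹)` -/
def zGL (g : GL κ F) (o : κ) (ε : Fˣ) : GL κ F := g * dGL o ε * g⁻¹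

theorem zGL_inv (g : GL κ F) (o : κ) (ε : Fˣ) : (zGL g o ε)⁻¹ = zGL g o ε⁻¹ := by
  unfold zGL
  rw [_root_.mul_inv_rev, _root_.mul_inv_rev, inv_inv, dGL_inv, mul_assoc]

theorem zGL_mulVec (g : GL κ F) (o : κ) (ε : Fˣ) (x : κ → F) :
    ((zGL g o ε : GL κ F) : Matrix κ κ F) *ᵥ x =
      x + (((ε : F) - 1) * (rowv g o ⬝ᵥ x)) • colv g o := by
  unfold zGL
  rw [Units.val_mul, Units.val_mul, ← Matrix.mulVec_mulVec, ← Matrix.mulVec_mulVec, dGL_mulVec,
    Matrix.mulVec_add, Matrix.mulVec_smul, mulVec_inv_mulVec, rowv_dot]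
  rfl

theorem vecMul_zGL (g : GL κ F) (o : κ) (ε : Fˣ) (x : κ → F) :
    x ᵥ* ((zGL g o ε : GL κ F) : Matrix κ κ F) =
      x + (((ε : F) - 1) * (x ⬝ᵥ colv g o)) • rowv g o := by
  unfold zGL
  rw [Units.val_mul, Units.val_mul, ← Matrix.vecMul_vecMul, ← Matrix.vecMul_vecMul, vecMul_dGL,
    Matrix.add_vecMul, Matrix.smul_vecMul, vecMul_vecMul_inv, dot_colv]
  rfl

end PkG

end Cfsg.Agent.Lib.Helper6.C2Max
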