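import Cfsg.Agent.Lib.Helper9.C2Max_G1

set_option autoImplicit false

/-!
S5634, package PK-G (Theorem G), part 2: without elementary transvections, the stabiliser of `e_o`
fixes `e_oᵀ`; the canonical functional of a vector `g e_o`.
-/

namespace Cfsg.Agent.Lib.Helper6.C2Max

open Matrix

namespace PkG

variable {F : Type*} [Field F] {κ : Type*} [Fintype κ] [DecidableEq κ]

/-- the statement of PK-T1 (form in `GL κ F`) as a hypothesis -/
def RectT1 (F : Type*) [Field F] (κ : Type*) [Fintype κ] [DecidableEq κ] : Prop :=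
  ∀ (L : Subgroup (GL κ F)), (∀ g : GL κ F, IsMono (g : Matrix κ κ F) → g ∈ L) →
    ∀ (I J : Finset κ), Disjoint I J → ∀ g : GL κ F, g ∈ L → g ≠ 1 →
    (∀ r, (g : Matrix κ κ F) r r = 1) →
    (∀ r c, r ≠ c → (g : Matrix κ κ F) r c ≠ 0 → r ∈ I ∧ c ∈ J) → HasTvGL L

theorem exists_unit_ne_one [Fintype F] (hq : 3 ≤ Fintype.card F) : ∃ ε : Fˣ, (ε : F) ≠ 1 := by
  classical
  have h : ({0, 1} : Finset F).card < (Finset.univ : Finset F).card := by
    rw [Finset.card_univ]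
    exact lt_of_le_of_lt (Finset.card_le_two) (by omega)
  obtain ⟨x, _, hx⟩ := Finset.exists_mem_notMem_of_card_lt_card h
  rw [Finset.mem_insert, Finset.mem_singleton, not_or] at hx
  exact ⟨Units.mk0 x hx.1, hx.2⟩

/-- `(**)`: an element of `L` fixing `e_o` fixes `e_oᵀ` -/
theorem fix_row [Fintype F] (hq : 3 ≤ Fintype.card F) (T1 : RectT1 F κ) {L : Subgroup (GL κ F)}
    (hL : ∀ g : GL κ F, IsMono (g : Matrix κ κ F) → g ∈ L) (hT : ¬ HasTvGL L) (o : κ)
    (h : GL κ F) (hh : h ∈ L)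
    (hcol : (h : Matrix κ κ F) *ᵥ Pi.single o 1 = Pi.single o 1) :
    Pi.single o 1 ᵥ* (h : Matrix κ κ F) = Pi.single o 1 := by
  classical
  by_contra hne
  obtain ⟨ε, hε1⟩ := exists_unit_ne_one (F := F) hq
  have hεi : (ε : F) * ((ε⁻¹ : Fˣ) : F) = 1 := by
    rw [← Units.val_mul, mul_inv_cancel, Units.val_one]
  have hdL : dGL o ε ∈ L := hL _ (dGL_isMono o ε)
  have hxL : h⁻¹ * (dGL o ε * h * (dGL o ε)⁻¹) ∈ L :=
    L.mul_mem (L.inv_mem hh) (L.mul_mem (L.mul_mem hdL hh) (L.inv_mem hdL))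
  have hinv : ((h⁻¹ : GL κ F) : Matrix κ κ F) *ᵥ Pi.single o 1 = Pi.single o 1 := by
    conv_lhs => rw [← hcol]
    exact inv_mulVec_mulVec h _
  -- the action of `x = h⁻¹ d h d⁻¹`
  have hxv : ∀ y : κ → F,
      ((h⁻¹ * (dGL o ε * h * (dGL o ε)⁻¹) : GL κ F) : Matrix κ κ F) *ᵥ y =
        y + (((ε : F) - 1) * (((h : Matrix κ κ F) *ᵥ y) o - y o)) • Pi.single o 1 := by
    intro y
    have e1 : ((dGL o ε⁻¹ : GL κ F) : Matrix κ κ F) *ᵥ y =
        y + ((((ε⁻¹ : Fˣ) : F) - 1) * y o) • Pi.single o 1 := dGL_mulVec o ε⁻¹ y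
    have e2 : (h : Matrix κ κ F) *ᵥ (((dGL o ε⁻¹ : GL κ F) : Matrix κ κ F) *ᵥ y) =
        (h : Matrix κ κ F) *ᵥ y + ((((ε⁻¹ : Fˣ) : F) - 1) * y o) • Pi.single o 1 := by
      rw [e1, Matrix.mulVec_add, Matrix.mulVec_smul, hcol]
    have e3 : ((dGL o ε : GL κ F) : Matrix κ κ F) *ᵥ
        ((h : Matrix κ κ F) *ᵥ (((dGL o ε⁻¹ : GL κ F) : Matrix κ κ F) *ᵥ y)) =
        (h : Matrix κ κ F) *ᵥ y +
          (((ε : F) - 1) * (((h : Matrix κ κ F) *ᵥ y) o - y o)) • Pi.single o 1 := by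
      rw [dGL_mulVec, e2, add_assoc, ← add_smul]
      congr 2
      rw [Pi.add_apply, Pi.smul_apply, Pi.single_eq_same, smul_eq_mul, mul_one]
      linear_combination (y o) * hεi
    rw [Units.val_mul, Units.val_mul, Units.val_mul, dGL_inv, ← Matrix.mulVec_mulVec,
      ← Matrix.mulVec_mulVec, ← Matrix.mulVec_mulVec, e3, Matrix.mulVec_add, Matrix.mulVec_smul,
      hinv, inv_mulVec_mulVec]
  have hent : ∀ r c,
      ((h⁻¹ * (dGL o ε * h * (dGL o ε)⁻¹) : GL κ F) : Matrix κ κ F) r c =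
        (Pi.single c 1 : κ → F) r +
          (((ε : F) - 1) * ((h : Matrix κ κ F) o c - (Pi.single c 1 : κ → F) o)) *
            (Pi.single o 1 : κ → F) r := by
    intro r c
    have h1 := congrFun (hxv (Pi.single c 1)) r
    rw [Matrix.mulVec_single_one, Matrix.mulVec_single_one] at h1
    simpa using h1
  have hoo : (h : Matrix κ κ F) o o = 1 := by
    have h1 := congrFun hcol o
    rw [Matrix.mulVec_single_one, Pi.single_eq_same] at h1
    exact h1
  -- a nonzero entry of the row `o`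
  have hc : ∃ c, c ≠ o ∧ (h : Matrix κ κ F) o c ≠ 0 := by
    by_contra hcon
    push Not at hcon
    apply hne
    rw [Matrix.single_one_vecMul]
    funext c
    by_cases hco : c = o
    · rw [hco, Pi.single_eq_same]
      exact hoo
    · rw [Pi.single_eq_of_ne hco]
      exact hcon c hco
  obtain ⟨c₀, hc₀, hc₀'⟩ := hc
  apply hT
  refine T1 L hL {o} (Finset.univ.erase o) ?_ _ hxL ?_ ?_ ?_
  · rw [Finset.disjoint_singleton_left]
    exact Finset.notMem_erase o _
  · intro h1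
    have h2 := hent o c₀
    rw [h1, Units.val_one, Matrix.one_apply_ne (Ne.symm hc₀), Pi.single_eq_of_ne (Ne.symm hc₀),
      Pi.single_eq_same, zero_add, sub_zero, mul_one] at h2
    exact mul_ne_zero (sub_ne_zero.mpr hε1) hc₀' h2.symm
  · intro r
    rw [hent, Pi.single_eq_same]
    by_cases hr : r = o
    · rw [hr, hoo, Pi.single_eq_same, sub_self, mul_zero, zero_mul, add_zero]
    · rw [Pi.single_eq_of_ne hr, mul_zero, add_zero]
  · intro r c hrc hx
    rw [hent, Pi.single_eq_of_ne hrc, zero_add] at hx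
    have hr : r = o := by
      by_contra hr
      rw [Pi.single_eq_of_ne hr, mul_zero] at hx
      exact hx rfl
    refine ⟨Finset.mem_singleton.mpr hr, Finset.mem_erase.mpr ⟨?_, Finset.mem_univ _⟩⟩
    rw [← hr]
    exact Ne.symm hrc

/-- Lemma P: an element of `L` fixing `g e_o` fixes the functional `e_oᵀ g⁻¹` -/
theorem row_fix [Fintype F] (hq : 3 ≤ Fintype.card F) (T1 : RectT1 F κ) {L : Subgroup (GL κ F)}
    (hL : ∀ g : GL κ F, IsMono (g : Matrix κ κ F) → g ∈ L) (hT : ¬ HasTvGL L) (o : κ)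
    (g n : GL κ F) (hg : g ∈ L) (hn : n ∈ L)
    (hfix : (n : Matrix κ κ F) *ᵥ colv g o = colv g o) :
    rowv g o ᵥ* (n : Matrix κ κ F) = rowv g o := by
  have h1 := fix_row hq T1 hL hT o (g⁻¹ * n * g) (L.mul_mem (L.mul_mem (L.inv_mem hg) hn) hg) (by
    rw [Units.val_mul, Units.val_mul, ← Matrix.mulVec_mulVec, ← Matrix.mulVec_mulVec]
    have : (n : Matrix κ κ F) *ᵥ ((g : Matrix κ κ F) *ᵥ Pi.single o 1) =
        (g : Matrix κ κ F) *ᵥ Pi.single o 1 := hfix
    rw [this, inv_mulVec_mulVec])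
  rw [Units.val_mul, Units.val_mul, ← Matrix.vecMul_vecMul, ← Matrix.vecMul_vecMul] at h1
  have h2 := congrArg (fun x => x ᵥ* ((g⁻¹ : GL κ F) : Matrix κ κ F)) h1
  simp only at h2
  rw [vecMul_vecMul_inv] at h2
  exact h2

/-- Lemma S1: the canonical functional is supported on the support of the vector -/
theorem rowv_eq_zero [Fintype F] (hq : 3 ≤ Fintype.card F) (T1 : RectT1 F κ)
    {L : Subgroup (GL κ F)}
    (hL : ∀ g : GL κ F, IsMono (g : Matrix κ κ F) → g ∈ L) (hT : ¬ HasTvGL L) (o : κ)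
    (g : GL κ F) (hg : g ∈ L) (j : κ) (hj : colv g o j = 0) : rowv g o j = 0 := by
  obtain ⟨η, hη⟩ := exists_unit_ne_one (F := F) hq
  have h1 := row_fix hq T1 hL hT o g (dGL j η) hg (hL _ (dGL_isMono j η)) (by
    rw [dGL_mulVec, hj, mul_zero, zero_smul, add_zero])
  rw [vecMul_dGL] at h1
  have h2 := congrFun h1 j
  rw [Pi.add_apply, Pi.smul_apply, Pi.single_eq_same, smul_eq_mul, mul_one, add_eq_left] at h2
  rcases mul_eq_zero.mp h2 with h3 | h3
  · exact absurd (sub_eq_zero.mp h3) hη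
  · exact h3

/-- Lemma S2: `v_i φ_i` is constant on the support -/
theorem colv_mul_rowv_eq [Fintype F] (hq : 3 ≤ Fintype.card F) (T1 : RectT1 F κ)
    {L : Subgroup (GL κ F)}
    (hL : ∀ g : GL κ F, IsMono (g : Matrix κ κ F) → g ∈ L) (hT : ¬ HasTvGL L) (o : κ)
    (g : GL κ F) (hg : g ∈ L) (i i' : κ) (hi : colv g o i ≠ 0) (hi' : colv g o i' ≠ 0) :
    colv g o i * rowv g o i = colv g o i' * rowv g o i' := by
  classical
  by_cases hii : i = i'
  · rw [hii]
  set v := colv g o with hv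
  set d : κ → Fˣ := fun c => if c = i then Units.mk0 (v i' / v i) (div_ne_zero hi' hi)
    else if c = i' then Units.mk0 (v i / v i') (div_ne_zero hi hi') else 1 with hd
  have hdi : ((d i : Fˣ) : F) = v i' / v i := by
    rw [hd]
    simp
  have hdi' : ((d i' : Fˣ) : F) = v i / v i' := by
    rw [hd]
    simp [Ne.symm hii]
  have hdr : ∀ r, r ≠ i → r ≠ i' → ((d r : Fˣ) : F) = 1 := by
    intro r h1 h2
    rw [hd]
    simp [h1, h2]
  have h1 := row_fix hq T1 hL hT o g (monoGL (Equiv.swap i i') d) hg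
    (hL _ (monoGL_isMono _ _)) (by
    rw [monoGL_mulVec]
    funext r
    rw [Equiv.symm_swap]
    by_cases hr : r = i
    · rw [hr, Equiv.swap_apply_left, hdi', ← hv]
      field_simp
    · by_cases hr' : r = i'
      · rw [hr', Equiv.swap_apply_right, hdi, ← hv]
        field_simp
      · rw [Equiv.swap_apply_of_ne_of_ne hr hr', hdr r hr hr', one_mul])
  rw [vecMul_monoGL] at h1
  have h2 := congrFun h1 i
  rw [Equiv.swap_apply_left, hdi] at h2
  rw [← h2]
  field_simp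

end PkG

end Cfsg.Agent.Lib.Helper6.C2Max
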