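import Cfsg.Agent.Lib.Helper9.C2Max_G2

set_option autoImplicit false

/-!
S5634, package PK-G (Theorem G), part 3: weights of the vectors `g e_o`, the quadratic constraint.
-/

namespace Cfsg.Agent.Lib.Helper6.C2Max

open Matrix

namespace PkG

variable {F : Type*} [Field F] {κ : Type*} [Fintype κ] [DecidableEq κ]

open Classical in
/-- the weight of a vector -/
noncomputable def wt (v : κ → F) : ℕ := (Finset.univ.filter (fun r => v r ≠ 0)).card

theorem wt_eq_card (v : κ → F) [DecidablePred (fun r => v r ≠ 0)] :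
    wt v = (Finset.univ.filter (fun r => v r ≠ 0)).card := by
  unfold wt
  congr

theorem wt_congr {v v' : κ → F} (h : ∀ r, v r ≠ 0 ↔ v' r ≠ 0) : wt v = wt v' := by
  classical
  rw [wt_eq_card, wt_eq_card]
  congr 1
  exact Finset.filter_congr (fun r _ => h r)

theorem wt_comp (σ : Equiv.Perm κ) (v : κ → F) : wt (fun r => v (σ r)) = wt v := by
  classical
  rw [wt_eq_card, wt_eq_card]
  apply Finset.card_bijective σ σ.bijective
  intro i
  simp

/-- the permutation matrix `e_c ↦ e_(σ c)` -/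
def pGL (σ : Equiv.Perm κ) : GL κ F := monoGL σ 1

theorem pGL_isMono (σ : Equiv.Perm κ) : IsMono ((pGL σ : GL κ F) : Matrix κ κ F) :=
  monoGL_isMono _ _

theorem pGL_mulVec (σ : Equiv.Perm κ) (v : κ → F) :
    ((pGL σ : GL κ F) : Matrix κ κ F) *ᵥ v = fun r => v (σ.symm r) := by
  unfold pGL
  rw [monoGL_mulVec]
  funext r
  simp

theorem pGL_mulVec_single (σ : Equiv.Perm κ) (o : κ) :
    ((pGL σ : GL κ F) : Matrix κ κ F) *ᵥ Pi.single o 1 = Pi.single (σ o) 1 := by
  rw [pGL_mulVec]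
  funext r
  by_cases hr : r = σ o
  · rw [hr, Equiv.symm_apply_apply, Pi.single_eq_same, Pi.single_eq_same]
  · rw [Pi.single_eq_of_ne hr, Pi.single_eq_of_ne]
    intro h
    apply hr
    rw [← h, Equiv.apply_symm_apply]

theorem colv_zGL (g : GL κ F) (o : κ) (ε : Fˣ) (r : κ) :
    colv (zGL g o ε) o r = (Pi.single o 1 : κ → F) r + (((ε : F) - 1) * rowv g o o) * colv g o r := by
  have h : colv (zGL g o ε) o = ((zGL g o ε : GL κ F) : Matrix κ κ F) *ᵥ Pi.single o 1 := rfl
  rw [h, zGL_mulVec, dotProduct_single_one]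
  rfl

theorem rowv_zGL (g : GL κ F) (o : κ) (ε : Fˣ) (r : κ) :
    rowv (zGL g o ε) o r =
      (Pi.single o 1 : κ → F) r + ((((ε⁻¹ : Fˣ) : F) - 1) * colv g o o) * rowv g o r := by
  have h : rowv (zGL g o ε) o =
      Pi.single o 1 ᵥ* (((zGL g o ε)⁻¹ : GL κ F) : Matrix κ κ F) := rfl
  rw [h, zGL_inv, vecMul_zGL, single_one_dotProduct]
  rfl

theorem zGL_mem {L : Subgroup (GL κ F)}
    (hL : ∀ g : GL κ F, IsMono (g : Matrix κ κ F) → g ∈ L) (g : GL κ F) (hg : g ∈ L) (o : κ)
    (ε : Fˣ) : zGL g o ε ∈ L :=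
  L.mul_mem (L.mul_mem hg (hL _ (dGL_isMono o ε))) (L.inv_mem hg)

section core

variable [Fintype F] (hq : 3 ≤ Fintype.card F) (T1 : RectT1 F κ) {L : Subgroup (GL κ F)}
  (hL : ∀ g : GL κ F, IsMono (g : Matrix κ κ F) → g ∈ L) (hT : ¬ HasTvGL L) (o : κ)

include hq T1 hL hT

/-- Lemma S4 -/
theorem wt_mul (g : GL κ F) (hg : g ∈ L) (i : κ) (hi : colv g o i ≠ 0) :
    (wt (colv g o) : F) * (colv g o i * rowv g o i) = 1 := by
  classical
  have h1 := rowv_dot_colv g o
  unfold dotProduct at h1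
  have h2 : ∑ j, rowv g o j * colv g o j =
      ∑ _j ∈ Finset.univ.filter (fun r => colv g o r ≠ 0), colv g o i * rowv g o i := by
    rw [Finset.sum_filter]
    apply Finset.sum_congr rfl
    intro j _
    by_cases hj : colv g o j ≠ 0
    · rw [if_pos hj, mul_comm]
      exact colv_mul_rowv_eq hq T1 hL hT o g hg j i hj hi
    · rw [if_neg hj]
      rw [not_not] at hj
      rw [hj, mul_zero]
  rw [Finset.sum_const, nsmul_eq_mul] at h2
  rw [← h1, h2, wt_eq_card]

/-- `s` is the weight of some vector `g e_o`, `g ∈ L` -/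
def IsWt (L : Subgroup (GL κ F)) (o : κ) (s : ℕ) : Prop := ∃ g ∈ L, wt (colv g o) = s

omit hq T1 hT in
theorem exists_move (g : GL κ F) (hg : g ∈ L) :
    ∃ g₁ ∈ L, colv g₁ o o ≠ 0 ∧ wt (colv g₁ o) = wt (colv g o) := by
  have h1 : ∃ r, colv g o r ≠ 0 := by
    by_contra h
    push Not at h
    exact colv_ne_zero g o (funext h)
  obtain ⟨r, hr⟩ := h1
  refine ⟨pGL (Equiv.swap r o) * g, L.mul_mem (hL _ (pGL_isMono _)) hg, ?_, ?_⟩
  · rw [colv_mul, pGL_mulVec, Equiv.symm_swap]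
    show colv g o (Equiv.swap r o o) ≠ 0
    rw [Equiv.swap_apply_right]
    exact hr
  · rw [colv_mul, pGL_mulVec]
    exact wt_comp _ _

/-- Lemma Q (with `o` in the support) -/
theorem quad_of_mem (g : GL κ F) (hg : g ∈ L) (ho : colv g o o ≠ 0) (h2 : 2 ≤ wt (colv g o))
    (ε : F) (h0 : ε ≠ 0) (h1 : ε ≠ 1) (hs : ε ≠ 1 - (wt (colv g o) : F)) :
    ε * ε + ((wt (colv g o) : F) - 2) * ε + 1 = 0 := by
  classical
  have hA : (wt (colv g o) : F) * (colv g o o * rowv g o o) = 1 := wt_mul hq T1 hL hT o g hg o ho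
  obtain ⟨i, hi, hio⟩ : ∃ i, colv g o i ≠ 0 ∧ i ≠ o := by
    rw [wt_eq_card] at h2
    obtain ⟨i, hi, hio⟩ := Finset.exists_mem_ne (lt_of_lt_of_le one_lt_two h2) o
    exact ⟨i, (Finset.mem_filter.mp hi).2, hio⟩
  have hB : (wt (colv g o) : F) * (colv g o i * rowv g o i) = 1 := wt_mul hq T1 hL hT o g hg i hi
  have hφo : rowv g o o ≠ 0 := by
    intro h
    rw [h, mul_zero, mul_zero] at hA
    exact zero_ne_one hA
  have hEi : ε * (((Units.mk0 ε h0)⁻¹ : Fˣ) : F) = 1 := by
    have h : (((Units.mk0 ε h0) * (Units.mk0 ε h0)⁻¹ : Fˣ) : F) = 1 := by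
      rw [mul_inv_cancel, Units.val_one]
    rwa [Units.val_mul] at h
  have hzL : zGL g o (Units.mk0 ε h0) ∈ L := zGL_mem hL g hg o _
  have hsupp : ∀ r, colv (zGL g o (Units.mk0 ε h0)) o r ≠ 0 ↔ colv g o r ≠ 0 := by
    intro r
    rw [colv_zGL, Units.val_mk0]
    by_cases hr : r = o
    · rw [hr, Pi.single_eq_same]
      constructor
      · intro _
        exact ho
      · intro _ h
        apply hs
        have h' : (wt (colv g o) : F) * (1 + (ε - 1) * rowv g o o * colv g o o) = 0 := by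
          rw [h, mul_zero]
        linear_combination h' - (ε - 1) * hA
    · rw [Pi.single_eq_of_ne hr, zero_add]
      constructor
      · intro h h'
        apply h
        rw [h', mul_zero]
      · intro h
        exact mul_ne_zero (mul_ne_zero (sub_ne_zero.mpr h1) hφo) h
  have hwt : wt (colv (zGL g o (Units.mk0 ε h0)) o) = wt (colv g o) := wt_congr hsupp
  have hC := wt_mul hq T1 hL hT o (zGL g o (Units.mk0 ε h0)) hzL i ((hsupp i).mpr hi)
  rw [hwt, colv_zGL, rowv_zGL, Pi.single_eq_of_ne hio, zero_add, zero_add, Units.val_mk0] at hC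
  have hC' : (ε - 1) * ((((Units.mk0 ε h0)⁻¹ : Fˣ) : F) - 1) = (wt (colv g o) : F) := by
    calc (ε - 1) * ((((Units.mk0 ε h0)⁻¹ : Fˣ) : F) - 1)
        = (ε - 1) * ((((Units.mk0 ε h0)⁻¹ : Fˣ) : F) - 1) *
          (((wt (colv g o) : F) * (colv g o o * rowv g o o)) *
            ((wt (colv g o) : F) * (colv g o i * rowv g o i))) := by
          rw [hA, hB]
          ring
      _ = (wt (colv g o) : F) * ((wt (colv g o) : F) * ((ε - 1) * rowv g o o * colv g o i *
            (((((Units.mk0 ε h0)⁻¹ : Fˣ) : F) - 1) * colv g o o * rowv g o i))) := by ring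
      _ = (wt (colv g o) : F) := by
          rw [hC]
          ring
  linear_combination (-ε) * hC' + (ε - 1) * hEi

/-- Lemma R (with `o` in the support) -/
theorem wt_pred_of_mem (g : GL κ F) (hg : g ∈ L) (ho : colv g o o ≠ 0)
    (hσ1 : (wt (colv g o) : F) ≠ 1) :
    ∃ g' ∈ L, wt (colv g' o) + 1 = wt (colv g o) := by
  classical
  have hA : (wt (colv g o) : F) * (colv g o o * rowv g o o) = 1 := wt_mul hq T1 hL hT o g hg o ho
  have hσ0 : (wt (colv g o) : F) ≠ 0 := left_ne_zero_of_mul_eq_one hA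
  have hφo : rowv g o o ≠ 0 := by
    intro h
    rw [h, mul_zero, mul_zero] at hA
    exact zero_ne_one hA
  have h0 : (1 : F) - (wt (colv g o) : F) ≠ 0 := sub_ne_zero.mpr (Ne.symm hσ1)
  obtain ⟨ε', hε'⟩ : ∃ ε' : Fˣ, (ε' : F) = 1 - (wt (colv g o) : F) := ⟨Units.mk0 _ h0, rfl⟩
  refine ⟨zGL g o ε', zGL_mem hL g hg o _, ?_⟩
  have hvo : colv (zGL g o ε') o o = 0 := by
    rw [colv_zGL, hε', Pi.single_eq_same]
    have h' : (wt (colv g o) : F) *
        (1 + (1 - (wt (colv g o) : F) - 1) * rowv g o o * colv g o o) = 0 := by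
      linear_combination (-(wt (colv g o) : F)) * hA
    rcases mul_eq_zero.mp h' with h'' | h''
    · exact absurd h'' hσ0
    · exact h''
  have hvr : ∀ r, r ≠ o → (colv (zGL g o ε') o r ≠ 0 ↔ colv g o r ≠ 0) := by
    intro r hr
    rw [colv_zGL, hε', Pi.single_eq_of_ne hr, zero_add]
    constructor
    · intro h h'
      apply h
      rw [h', mul_zero]
    · intro h
      refine mul_ne_zero (mul_ne_zero ?_ hφo) h
      rw [sub_sub_cancel_left]
      exact neg_ne_zero.mpr hσ0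
  rw [wt_eq_card, wt_eq_card]
  have hfilt : Finset.univ.filter (fun r => colv (zGL g o ε') o r ≠ 0) =
      (Finset.univ.filter (fun r => colv g o r ≠ 0)).erase o := by
    ext r
    rw [Finset.mem_filter, Finset.mem_erase, Finset.mem_filter]
    by_cases hr : r = o
    · rw [hr]
      simp [hvo]
    · simp [hr, hvr r hr]
  have hmem : o ∈ Finset.univ.filter (fun r => colv g o r ≠ 0) :=
    Finset.mem_filter.mpr ⟨Finset.mem_univ _, ho⟩
  rw [hfilt, Finset.card_erase_of_mem hmem]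
  have hpos : 0 < (Finset.univ.filter (fun r => colv g o r ≠ 0)).card :=
    Finset.card_pos.mpr ⟨o, hmem⟩
  omega

end core

end PkG

end Cfsg.Agent.Lib.Helper6.C2Max
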