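import Cfsg.Agent.Lib.Helper9.C2Max_G3

set_option autoImplicit false

/-!
S5634, package PK-G (Theorem G), part 4: the endgame (three roots of a quadratic for `q ≥ 6`,
the weights `1, 2, 3` for `q = 5`).
-/

namespace Cfsg.Agent.Lib.Helper6.C2Max

open Matrix

namespace PkG

variable {F : Type*} [Field F] {κ : Type*} [Fintype κ] [DecidableEq κ]

section core

variable [Fintype F] (hq : 3 ≤ Fintype.card F) (T1 : RectT1 F κ) {L : Subgroup (GL κ F)}
  (hL : ∀ g : GL κ F, IsMono (g : Matrix κ κ F) → g ∈ L) (hT : ¬ HasTvGL L) (o : κ)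

include hq T1 hL hT

/-- Lemma Q -/
theorem quad_of_isWt (s : ℕ) (h2 : 2 ≤ s) (hs : IsWt L o s) (ε : F) (h0 : ε ≠ 0) (h1 : ε ≠ 1)
    (hne : ε ≠ 1 - (s : F)) : ε * ε + ((s : F) - 2) * ε + 1 = 0 := by
  obtain ⟨g, hg, hw⟩ := hs
  obtain ⟨g₁, hg₁, ho, hw₁⟩ := exists_move hL o g hg
  have hws : wt (colv g₁ o) = s := hw₁.trans hw
  subst hws
  exact quad_of_mem hq T1 hL hT o g₁ hg₁ ho h2 ε h0 h1 hne

/-- Lemma R -/
theorem pred_of_isWt (s : ℕ) (hs : IsWt L o s) (hσ1 : (s : F) ≠ 1) : IsWt L o (s - 1) := by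
  obtain ⟨g, hg, hw⟩ := hs
  obtain ⟨g₁, hg₁, ho, hw₁⟩ := exists_move hL o g hg
  have hws : wt (colv g₁ o) = s := hw₁.trans hw
  subst hws
  obtain ⟨g', hg', hw'⟩ := wt_pred_of_mem hq T1 hL hT o g₁ hg₁ ho hσ1
  exact ⟨g', hg', by omega⟩

/-- `q ≥ 6`: a quadratic has at most two roots -/
theorem no_wt_of_six (h6 : 6 ≤ Fintype.card F) (s : ℕ) (h2 : 2 ≤ s) (hs : IsWt L o s) : False := by
  classical
  have hcard : 2 < (Finset.univ \ ({0, 1, 1 - (s : F)} : Finset F)).card := by
    have h1 := Finset.le_card_sdiff ({0, 1, 1 - (s : F)} : Finset F) Finset.univ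
    have h2 : ({0, 1, 1 - (s : F)} : Finset F).card ≤ 3 := Finset.card_le_three
    rw [Finset.card_univ] at h1
    omega
  obtain ⟨a, b, c, ha, hb, hc, hab, hac, hbc⟩ := Finset.two_lt_card_iff.mp hcard
  have key : ∀ x ∈ Finset.univ \ ({0, 1, 1 - (s : F)} : Finset F),
      x * x + ((s : F) - 2) * x + 1 = 0 := by
    intro x hx
    rw [Finset.mem_sdiff, Finset.mem_insert, Finset.mem_insert, Finset.mem_singleton, not_or,
      not_or] at hx
    exact quad_of_isWt hq T1 hL hT o s h2 hs x hx.2.1 hx.2.2.1 hx.2.2.2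
  have hPa := key a ha
  have hPb := key b hb
  have hPc := key c hc
  have h1 : (a - b) * (a + b + ((s : F) - 2)) = 0 := by linear_combination hPa - hPb
  have h2 : a + b + ((s : F) - 2) = 0 := (mul_eq_zero.mp h1).resolve_left (sub_ne_zero.mpr hab)
  have h3 : (a - c) * (a + c + ((s : F) - 2)) = 0 := by linear_combination hPa - hPc
  have h4 : a + c + ((s : F) - 2) = 0 := (mul_eq_zero.mp h3).resolve_left (sub_ne_zero.mpr hac)
  exact hbc (by linear_combination h2 - h4)

/-- `q = 5`: every weight `≥ 2` is `≡ 2` -/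
theorem cast_eq_two_of_isWt (h5 : (5 : F) = 0) (s : ℕ) (h2 : 2 ≤ s) (hs : IsWt L o s) :
    (s : F) = 2 := by
  by_contra hne
  have h2ne : (2 : F) ≠ 0 := by
    intro h
    have : (1 : F) = 0 := by linear_combination h5 - 2 * h
    exact one_ne_zero this
  have hm1 := quad_of_isWt hq T1 hL hT o s h2 hs (-1) (neg_ne_zero.mpr one_ne_zero)
    (by
      intro h
      apply h2ne
      linear_combination -h)
    (by
      intro h
      apply hne
      linear_combination h)
  have hσ4 : (s : F) = 4 := by linear_combination -hm1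
  have h3 := quad_of_isWt hq T1 hL hT o s h2 hs 3
    (by
      intro h
      have : (1 : F) = 0 := by linear_combination 2 * h - h5
      exact one_ne_zero this)
    (by
      intro h
      apply h2ne
      linear_combination h)
    (by
      intro h
      have : (1 : F) = 0 := by linear_combination h - hσ4 - h5
      exact one_ne_zero this)
  have : (1 : F) = 0 := by linear_combination h3 - 3 * hσ4 - 3 * h5
  exact one_ne_zero this

/-- `q = 5`: the weights are `≤ 2` -/
theorem isWt_le_two (h5 : (5 : F) = 0) (s : ℕ) (hs : IsWt L o s) : s ≤ 2 := by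
  by_contra hcon
  push Not at hcon
  have hσ : (s : F) = 2 := cast_eq_two_of_isWt hq T1 hL hT o h5 s (by omega) hs
  have h1ne : (s : F) ≠ 1 := by
    rw [hσ]
    intro h
    have : (1 : F) = 0 := by linear_combination h
    exact one_ne_zero this
  have hs' := pred_of_isWt hq T1 hL hT o s hs h1ne
  have hσ' : ((s - 1 : ℕ) : F) = 2 := cast_eq_two_of_isWt hq T1 hL hT o h5 (s - 1) (by omega) hs'
  rw [Nat.cast_sub (by omega), hσ, Nat.cast_one] at hσ'
  have : (1 : F) = 0 := by linear_combination -hσ'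
  exact one_ne_zero this

/-- `q = 5`, `k ≥ 3`: a vector of weight `2` gives one of weight `3` -/
theorem isWt_three_of_two (h5 : (5 : F) = 0) (h3 : 3 ≤ Fintype.card κ) (hs : IsWt L o 2) :
    IsWt L o 3 := by
  classical
  have h2ne : (2 : F) ≠ 0 := by
    intro h
    have : (1 : F) = 0 := by linear_combination h5 - 2 * h
    exact one_ne_zero this
  have h3ne : (3 : F) ≠ 0 := by
    intro h
    have : (1 : F) = 0 := by linear_combination 2 * h - h5
    exact one_ne_zero this
  obtain ⟨g₀, hg₀, hw₀⟩ := hs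
  obtain ⟨g, hg, ho, hw₁⟩ := exists_move hL o g₀ hg₀
  have hw : wt (colv g o) = 2 := hw₁.trans hw₀
  obtain ⟨i, hi, hio⟩ : ∃ i, colv g o i ≠ 0 ∧ i ≠ o := by
    have h2 : 1 < (Finset.univ.filter (fun r => colv g o r ≠ 0)).card := by
      rw [← wt_eq_card, hw]
      exact one_lt_two
    obtain ⟨i, hi, hio⟩ := Finset.exists_mem_ne h2 o
    exact ⟨i, (Finset.mem_filter.mp hi).2, hio⟩
  -- the support of `w` is `{o, i}`
  have hsupp : ∀ r, colv g o r ≠ 0 → r = o ∨ r = i := by
    intro r hr
    by_contra hcon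
    push Not at hcon
    have hsub : ({o, i, r} : Finset κ) ⊆ Finset.univ.filter (fun r => colv g o r ≠ 0) := by
      intro x hx
      rw [Finset.mem_insert, Finset.mem_insert, Finset.mem_singleton] at hx
      rw [Finset.mem_filter]
      refine ⟨Finset.mem_univ _, ?_⟩
      rcases hx with hx | hx | hx
      · rw [hx]; exact ho
      · rw [hx]; exact hi
      · rw [hx]; exact hr
    have h3c : ({o, i, r} : Finset κ).card = 3 := by
      rw [Finset.card_insert_of_notMem, Finset.card_pair (Ne.symm hcon.2)]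
      rw [Finset.mem_insert, Finset.mem_singleton, not_or]
      exact ⟨Ne.symm hio, Ne.symm hcon.1⟩
    have hle := Finset.card_le_card hsub
    rw [← wt_eq_card, hw, h3c] at hle
    omega
  -- a third index
  obtain ⟨j, hjo, hji⟩ : ∃ j, j ≠ o ∧ j ≠ i := by
    have h : ({o, i} : Finset κ).card < (Finset.univ : Finset κ).card := by
      rw [Finset.card_univ]
      exact lt_of_le_of_lt Finset.card_le_two (by omega)
    obtain ⟨j, _, hj⟩ := Finset.exists_mem_notMem_of_card_lt_card h
    rw [Finset.mem_insert, Finset.mem_singleton, not_or] at hj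
    exact ⟨j, hj.1, hj.2⟩
  have hwj : colv g o j = 0 := by
    by_contra h
    rcases hsupp j h with h' | h'
    · exact hjo h'
    · exact hji h'
  -- the vector `w₂ = w_o e_o + w_i e_j`
  have hg₂ : pGL (Equiv.swap i j) * g ∈ L := L.mul_mem (hL _ (pGL_isMono _)) hg
  have hw₂ : ∀ r, colv (pGL (Equiv.swap i j) * g) o r = colv g o (Equiv.swap i j r) := by
    intro r
    rw [colv_mul, pGL_mulVec, Equiv.symm_swap]
  have hwt₂ : wt (colv (pGL (Equiv.swap i j) * g) o) = 2 := by
    rw [← hw, show colv (pGL (Equiv.swap i j) * g) o = fun r => colv g o (Equiv.swap i j r) from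
      funext hw₂]
    exact wt_comp _ _
  have hw₂o : colv (pGL (Equiv.swap i j) * g) o o = colv g o o := by
    rw [hw₂, Equiv.swap_apply_of_ne_of_ne (Ne.symm hio) (Ne.symm hjo)]
  have hw₂i : colv (pGL (Equiv.swap i j) * g) o i = 0 := by
    rw [hw₂, Equiv.swap_apply_left, hwj]
  have hw₂j : colv (pGL (Equiv.swap i j) * g) o j = colv g o i := by
    rw [hw₂, Equiv.swap_apply_right]
  have hφi : rowv (pGL (Equiv.swap i j) * g) o i = 0 :=
    rowv_eq_zero hq T1 hL hT o _ hg₂ i hw₂i
  have hA : (2 : F) * (colv g o o * rowv (pGL (Equiv.swap i j) * g) o o) = 1 := by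
    have h := wt_mul hq T1 hL hT o _ hg₂ o (by rw [hw₂o]; exact ho)
    rw [hwt₂, hw₂o] at h
    exact_mod_cast h
  have ht : rowv (pGL (Equiv.swap i j) * g) o o ≠ 0 := by
    intro h
    rw [h, mul_zero, mul_zero] at hA
    exact zero_ne_one hA
  have hdot : rowv (pGL (Equiv.swap i j) * g) o ⬝ᵥ colv g o =
      rowv (pGL (Equiv.swap i j) * g) o o * colv g o o := by
    unfold dotProduct
    rw [Finset.sum_eq_single o]
    · intro r _ hr
      by_cases hri : r = i
      · rw [hri, hφi, zero_mul]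
      · have h0 : colv g o r = 0 := by
          by_contra h
          rcases hsupp r h with h' | h'
          · exact hr h'
          · exact hri h'
        rw [h0, mul_zero]
    · intro h
      exact absurd (Finset.mem_univ _) h
  have hv : ∀ r, colv (zGL (pGL (Equiv.swap i j) * g) o (Units.mk0 2 h2ne) * g) o r =
      colv g o r + (rowv (pGL (Equiv.swap i j) * g) o o * colv g o o) *
        colv (pGL (Equiv.swap i j) * g) o r := by
    intro r
    rw [colv_mul, zGL_mulVec, hdot, Units.val_mk0, Pi.add_apply, Pi.smul_apply, smul_eq_mul]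
    ring
  refine ⟨zGL (pGL (Equiv.swap i j) * g) o (Units.mk0 2 h2ne) * g,
    L.mul_mem (zGL_mem hL _ hg₂ o _) hg, ?_⟩
  rw [wt_eq_card]
  have hfilt : Finset.univ.filter
      (fun r => colv (zGL (pGL (Equiv.swap i j) * g) o (Units.mk0 2 h2ne) * g) o r ≠ 0) =
      {o, i, j} := by
    ext r
    rw [Finset.mem_filter, hv, Finset.mem_insert, Finset.mem_insert, Finset.mem_singleton]
    constructor
    · rintro ⟨_, h⟩
      by_contra hcon
      push Not at hcon
      apply h
      have h1 : colv g o r = 0 := by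
        by_contra h'
        rcases hsupp r h' with h'' | h''
        · exact hcon.1 h''
        · exact hcon.2.1 h''
      rw [hw₂, Equiv.swap_apply_of_ne_of_ne hcon.2.1 hcon.2.2, h1, mul_zero, add_zero]
    · intro hr
      refine ⟨Finset.mem_univ _, ?_⟩
      rcases hr with hr | hr | hr
      · rw [hr, hw₂o]
        intro h
        have h' : (3 : F) * colv g o o = 0 := by linear_combination 2 * h - (colv g o o) * hA
        rcases mul_eq_zero.mp h' with h'' | h''
        · exact h3ne h''
        · exact ho h''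
      · rw [hr, hw₂i, mul_zero, add_zero]
        exact hi
      · rw [hr, hwj, zero_add, hw₂j]
        exact mul_ne_zero (mul_ne_zero ht ho) hi
  rw [hfilt, Finset.card_insert_of_notMem, Finset.card_pair (Ne.symm hji)]
  rw [Finset.mem_insert, Finset.mem_singleton, not_or]
  exact ⟨Ne.symm hio, Ne.symm hjo⟩

end core

/-- Theorem G, from PK-T1 and the existence of a vector of weight `≥ 2` as hypotheses -/
theorem thmG_of [Fintype F] (h3 : 3 ≤ Fintype.card κ) (hq : 5 ≤ Fintype.card F)
    (T1 : RectT1 F κ) (L : Subgroup (GL κ F))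
    (hL : ∀ g : GL κ F, IsMono (g : Matrix κ κ F) → g ∈ L)
    (P8 : ∀ o : κ, (¬ ∀ g ∈ L, IsMono (g : Matrix κ κ F)) → ∃ s, 2 ≤ s ∧ IsWt L o s) :
    (∀ g ∈ L, IsMono (g : Matrix κ κ F)) ∨ HasTvGL L := by
  by_contra hcon
  rw [not_or] at hcon
  obtain ⟨hnm, hT⟩ := hcon
  obtain ⟨o⟩ : Nonempty κ := Fintype.card_pos_iff.mp (by omega)
  obtain ⟨s, h2, hs⟩ := P8 o hnm
  have hq3 : 3 ≤ Fintype.card F := by omega
  by_cases h6 : 6 ≤ Fintype.card F
  · exact no_wt_of_six hq3 T1 hL hT o h6 s h2 hs
  · have hc5 : Fintype.card F = 5 := by omega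
    have h5 : (5 : F) = 0 := by
      have h := FiniteField.cast_card_eq_zero F
      rw [hc5] at h
      exact_mod_cast h
    have hs2 : s = 2 := le_antisymm (isWt_le_two hq3 T1 hL hT o h5 s hs) h2
    rw [hs2] at hs
    have h3' := isWt_le_two hq3 T1 hL hT o h5 3 (isWt_three_of_two hq3 T1 hL hT o h5 h3 hs)
    omega

end PkG

end Cfsg.Agent.Lib.Helper6.C2Max
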