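import Mathlib
import Cfsg.Prelude
import Cfsg.Agent.Lib.Helper9.AbIdx18
import Cfsg.Agent.Lib.Lead.Frattini

set_option autoImplicit false

/-!
# `p`-groups whose centre has index `p²`: basic structure, essential subgroups
-/

namespace Cfsg.Agent.Lib.Helper9.H9C2

open Cfsg Cfsg.FusionSystem Cfsg.Agent.Lib.Helper9 Cfsg.Agent.Lib.Helper9.H9AbIdx

variable {Ω : Type*} [Group Ω] {S : Subgroup Ω}

/-- the standing assumptions: `S` is a nonabelian `p`-group whose centre has index `p²` -/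
structure C2 (p : ℕ) (S : Subgroup Ω) : Prop where
  hS : IsPGroup p S
  hna : ∃ s ∈ S, ∃ t ∈ S, s * t ≠ t * s
  hidx : (ZS S).relIndex S = p ^ 2

theorem ZS_subgroupOf (S : Subgroup Ω) : (ZS S).subgroupOf S = Subgroup.center ↥S := by
  ext x
  rw [Subgroup.mem_subgroupOf, mem_ZS_iff, Subgroup.mem_center_iff]
  constructor
  · rintro ⟨-, h⟩ g
    exact Subtype.ext (h g g.2)
  · intro h
    exact ⟨x.2, fun g hg => congrArg Subtype.val (h ⟨g, hg⟩)⟩

/-- `Z(S)⟨y⟩` is abelian -/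
theorem abelian_sup {y : Ω} (hy : y ∈ S) :
    ∀ a ∈ ZS S ⊔ Subgroup.zpowers y, ∀ b ∈ ZS S ⊔ Subgroup.zpowers y, a * b = b * a := by
  have hAS : ZS S ⊔ Subgroup.zpowers y ≤ S := sup_le (ZS_le S) (by rw [Subgroup.zpowers_le]; exact hy)
  have h1 : ZS S ⊔ Subgroup.zpowers y ≤ Subgroup.centralizer {y} := by
    apply sup_le
    · intro z hz
      rw [Subgroup.mem_centralizer_singleton_iff]
      exact ((mem_ZS_iff.mp hz).2 y hy).symm
    · rw [Subgroup.zpowers_le, Subgroup.mem_centralizer_singleton_iff]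
  have h2 : ZS S ⊔ Subgroup.zpowers y ≤
      Subgroup.centralizer ((ZS S ⊔ Subgroup.zpowers y : Subgroup Ω) : Set Ω) := by
    apply sup_le
    · intro z hz
      rw [Subgroup.mem_centralizer_iff]
      intro a ha
      exact ((mem_ZS_iff.mp hz).2 a (hAS ha))
    · rw [Subgroup.zpowers_le, Subgroup.mem_centralizer_iff]
      intro a ha
      have := h1 ha
      rw [Subgroup.mem_centralizer_singleton_iff] at this
      exact this
  intro a ha b hb
  have := h2 hb
  rw [Subgroup.mem_centralizer_iff] at this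
  exact this a ha

namespace C2

variable {p : ℕ} [hp : Fact p.Prime]

theorem split_sq {a b : ℕ} (hab : a * b = p ^ 2) (ha : a ≠ 1) (hb : b ≠ 1) : a = p ∧ b = p := by
  have hpp := hp.out
  have hdvd : a ∣ p ^ 2 := Dvd.intro _ hab
  obtain ⟨j, hj, rfl⟩ := (Nat.dvd_prime_pow hpp).mp hdvd
  have hj1 : j = 1 := by
    rcases j with _ | _ | j
    · exact absurd (pow_zero p) ha
    · rfl
    · exfalso
      have hj2 : j = 0 := by omega
      subst hj2
      apply hb
      have h0 : 0 < p ^ 2 := pow_pos hpp.pos 2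
      exact Nat.eq_of_mul_eq_mul_left h0 (by rw [mul_one]; exact hab)
  subst hj1
  refine ⟨pow_one p, ?_⟩
  rw [pow_one, pow_two] at hab
  exact Nat.eq_of_mul_eq_mul_left hpp.pos hab

theorem relIndex_sup (D : C2 p S) {y : Ω} (hy : y ∈ S) (hyZ : y ∉ ZS S) :
    (ZS S).relIndex (ZS S ⊔ Subgroup.zpowers y) = p ∧
      (ZS S ⊔ Subgroup.zpowers y).relIndex S = p := by
  have hAS : ZS S ⊔ Subgroup.zpowers y ≤ S := sup_le (ZS_le S) (by rw [Subgroup.zpowers_le]; exact hy)
  have h1 := Subgroup.relIndex_mul_relIndex (ZS S) (ZS S ⊔ Subgroup.zpowers y) S le_sup_left hAS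
  rw [D.hidx] at h1
  apply split_sq h1
  · intro h
    exact hyZ (Subgroup.relIndex_eq_one.mp h (Subgroup.mem_sup_right (Subgroup.mem_zpowers y)))
  · intro h
    obtain ⟨s, hs, t, ht, hst⟩ := D.hna
    have hle := Subgroup.relIndex_eq_one.mp h
    exact hst (abelian_sup hy s (hle hs) t (hle ht))

/-- every noncentral element gives an abelian subgroup of index `p` -/
theorem ctx (D : C2 p S) {y : Ω} (hy : y ∈ S) (hyZ : y ∉ ZS S) :
    Ctx p S (ZS S ⊔ Subgroup.zpowers y) where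
  hS := D.hS
  hAS := sup_le (ZS_le S) (by rw [Subgroup.zpowers_le]; exact hy)
  hcomm := abelian_sup hy
  hidx := (D.relIndex_sup hy hyZ).2
  hna := D.hna

variable [Finite S]

/-- an element outside `Z(S)⟨y⟩` does not commute with `y` -/
theorem not_comm (D : C2 p S) {y x : Ω} (hy : y ∈ S) (hyZ : y ∉ ZS S) (hx : x ∈ S)
    (hxA : x ∉ ZS S ⊔ Subgroup.zpowers y) : x * y ≠ y * x := by
  intro h
  apply hyZ
  have C := D.ctx hy hyZ
  exact C.mem_ZS_of_comm hx hxA (Subgroup.mem_sup_right (Subgroup.mem_zpowers y)) h.symm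

/-- commuting noncentral elements generate the same subgroup over `Z(S)` -/
theorem mem_sup_of_comm (D : C2 p S) {y x : Ω} (hy : y ∈ S) (hyZ : y ∉ ZS S) (hx : x ∈ S)
    (h : x * y = y * x) : x ∈ ZS S ⊔ Subgroup.zpowers y := by
  by_contra hxA
  exact D.not_comm hy hyZ hx hxA h

theorem sup_eq_of_mem (D : C2 p S) {y x : Ω} (hy : y ∈ S) (hyZ : y ∉ ZS S) (hx : x ∈ S)
    (hxZ : x ∉ ZS S) (h : x ∈ ZS S ⊔ Subgroup.zpowers y) :
    ZS S ⊔ Subgroup.zpowers x = ZS S ⊔ Subgroup.zpowers y := by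
  have hle : ZS S ⊔ Subgroup.zpowers x ≤ ZS S ⊔ Subgroup.zpowers y :=
    sup_le le_sup_left (by rw [Subgroup.zpowers_le]; exact h)
  have h1 := Subgroup.relIndex_mul_relIndex (ZS S) (ZS S ⊔ Subgroup.zpowers x)
    (ZS S ⊔ Subgroup.zpowers y) le_sup_left hle
  rw [(D.relIndex_sup hx hxZ).1, (D.relIndex_sup hy hyZ).1] at h1
  have h2 : (ZS S ⊔ Subgroup.zpowers x).relIndex (ZS S ⊔ Subgroup.zpowers y) = 1 := by
    have hp0 : 0 < p := hp.out.pos
    exact Nat.eq_of_mul_eq_mul_left hp0 (by rw [h1, mul_one])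
  exact le_antisymm hle (Subgroup.relIndex_eq_one.mp h2)

/-- the structure of an essential subgroup -/
theorem ess_facts (D : C2 p S) (F : FusionSystem S) (hF : F.IsSaturated p) {P : Subgroup Ω}
    (hP : F.IsEssential p P) :
    ∃ x ∈ P, x ∉ ZS S ∧ P = ZS S ⊔ Subgroup.zpowers x := by
  have hPS := ess_le F hP
  have hZP := ess_ZS_le F hP
  have hne := ess_ne p D.hS F hF hP
  obtain ⟨x, hxP, hxZ⟩ : ∃ x ∈ P, x ∉ ZS S := by
    by_contra hcon
    push Not at hcon
    apply hne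
    apply le_antisymm hPS
    intro s hs
    apply ess_centric F hP hs
    intro g hg
    exact (mem_ZS_iff.mp (hcon g hg)).2 s hs
  refine ⟨x, hxP, hxZ, ?_⟩
  have hxS := hPS hxP
  have hle : ZS S ⊔ Subgroup.zpowers x ≤ P := sup_le hZP (by rw [Subgroup.zpowers_le]; exact hxP)
  have h1 := Subgroup.relIndex_mul_relIndex (ZS S ⊔ Subgroup.zpowers x) P S hle hPS
  rw [(D.relIndex_sup hxS hxZ).2] at h1
  have h2 : (ZS S ⊔ Subgroup.zpowers x).relIndex P ∣ p := Dvd.intro _ h1
  rcases (Nat.dvd_prime hp.out).mp h2 with h3 | h3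
  · exact le_antisymm (Subgroup.relIndex_eq_one.mp h3) hle
  · exfalso
    rw [h3] at h1
    have h4 : P.relIndex S = 1 := by
      have hp0 : 0 < p := hp.out.pos
      exact Nat.eq_of_mul_eq_mul_left hp0 (by rw [h1, mul_one])
    exact hne (le_antisymm hPS (Subgroup.relIndex_eq_one.mp h4))

/-- the commutator subgroup is central -/
theorem commutator_le (D : C2 p S) : (commutator ↥S).map S.subtype ≤ ZS S := by
  have h1 : (Subgroup.center ↥S).index = p ^ 2 := by
    rw [← ZS_subgroupOf]; exact D.hidx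
  have h2 : Nat.card (↥S ⧸ Subgroup.center ↥S) = p ^ 2 := by
    rw [← Subgroup.index_eq_card]; exact h1
  have h3 : ∀ a b : ↥S ⧸ Subgroup.center ↥S, a * b = b * a :=
    IsPGroup.commutative_of_card_eq_prime_sq h2
  have h4 := Cfsg.Agent.Lib.Lead.commutator_le_of_quotient_comm (Subgroup.center ↥S) h3
  rintro _ ⟨c, hc, rfl⟩
  have h5 := h4 hc
  rw [← ZS_subgroupOf, Subgroup.mem_subgroupOf] at h5
  exact h5

/-- the commutator subgroup has order `p` -/
theorem card_commutator (D : C2 p S) : Nat.card ↥((commutator ↥S).map S.subtype) = p := by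
  obtain ⟨s, hs, t, ht, hst⟩ := D.hna
  have hsZ : s ∉ ZS S := fun h => hst ((mem_ZS_iff.mp h).2 t ht).symm
  have htA : t ∉ ZS S ⊔ Subgroup.zpowers s := by
    intro h
    exact hst (abelian_sup hs s (Subgroup.mem_sup_right (Subgroup.mem_zpowers s)) t h)
  have C := D.ctx hs hsZ
  haveI : Finite ↥(ZS S ⊔ Subgroup.zpowers s) := fs_finite_of_le C.hAS
  rw [C.commutator_eq ht htA]
  unfold Ctx.DΩ
  rw [Subgroup.card_map_of_injective (Subgroup.subtype_injective _), ← Subgroup.index_ker,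
    C.nu_ker ht htA]
  exact (D.relIndex_sup hs hsZ).1

end C2

end Cfsg.Agent.Lib.Helper9.H9C2
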