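import Mathlib
import Cfsg.Prelude
import Cfsg.Agent.Lib.Helper9.C2a

set_option autoImplicit false

/-!
# `p`-groups whose centre has index `p²`, `p` odd: a core-free saturated fusion system forces
`|Z(S)| = p`
-/

namespace Cfsg.Agent.Lib.Helper9.H9C2

open Cfsg Cfsg.FusionSystem Cfsg.Agent.Lib.Helper9 Cfsg.Agent.Lib.Helper9.H9AbIdx

variable {Ω : Type*} [Group Ω] {S : Subgroup Ω} [Finite S] {p : ℕ} [hp : Fact p.Prime]
  {A : Subgroup Ω}

set_option maxHeartbeats 800000 in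
/-- `Aut_F(Q)`, `Q ≠ A` essential, preserves the fixed points of `β` on `Z(S)` -/
theorem fixZ_invariant_ess' (C : Ctx p S A) (hS : IsPGroup p S) (F : FusionSystem S)
    (hF : F.IsSaturated p) (hp2 : p ≠ 2) (Z₀ : Subgroup Ω)
    (hZ₀def : Z₀ = ZS S ⊓ (commutator ↥S).map S.subtype) (hZ₀card : Nat.card Z₀ = p)
    {β : MulAut S} (hβ : β ∈ F.autGroup S)
    (h1 : ∀ (z : Ω) (hz : z ∈ ZS S), z ∈ Z₀ → ((β ⟨z, ZS_le S hz⟩ : S) : Ω) = z⁻¹)
    (h2 : ∀ (z : Ω) (hz : z ∈ ZS S), z⁻¹ * ((β ⟨z, ZS_le S hz⟩ : S) : Ω) ∈ Z₀)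
    {Q : Subgroup Ω} (hQ : F.IsEssential p Q) (hQA : Q ≠ A) {α : MulAut Q}
    (hα : α ∈ F.autGroup Q) {v : Q}
    (hv : (v : Ω) ∈ fixZ β) : ((α v : Q) : Ω) ∈ fixZ β := by
  have hQS := ess_le F hQ
  have hZQ := ess_ZS_le F hQ
  have hZ₀Z : Z₀ ≤ ZS S := by rw [hZ₀def]; exact inf_le_left
  haveI : Finite Z₀ := fs_finite_of_le (le_trans hZ₀Z (ZS_le S))
  have hZ₀p : ∀ z ∈ Z₀, z ^ p = 1 := by
    intro z hz
    have h3 : (⟨z, hz⟩ : Z₀) ^ Nat.card Z₀ = 1 := pow_card_eq_one'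
    rw [hZ₀card] at h3
    exact congrArg Subtype.val h3
  by_cases hna : ∃ a ∈ Q, ∃ b ∈ Q, a * b ≠ b * a
  · have hφ := (mem_autGroup_iff F hQS α).mp hα
    obtain ⟨γ, hγ, hγeq⟩ := hom_ZS_eq C hS F hF hφ hna
    have h3 := hγeq (v : Ω) hv.1 v.2
    have h4 := fixZ_invariant_S C hS F hF Z₀ hZ₀def hZ₀p hβ h1 h2 hγ hv
    rw [← h3] at h4
    exact h4
  · push Not at hna
    obtain ⟨x, hxQ, hxA⟩ := ess_exists_outside C F hQ hQA
    have hab : ∀ g ∈ Q, g * x = x * g := fun g hg => hna g hg x hxQ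
    obtain ⟨M, hMtop, hM⟩ := ess_abelian_beta C hS F hF hp2 hQ hxQ hxA hab Z₀ hZ₀def hZ₀card
    have key : ∀ g : F.autGroup Q, g ∉ M → ∀ (z : Ω) (hz : z ∈ ZS S),
        (((β ⟨z, ZS_le S hz⟩ : S) : Ω) = z ↔
          (((g : MulAut Q)⁻¹ ⟨z, hZQ hz⟩ : Q) : Ω) ∈ ZS S) := by
      intro g hg z hz
      obtain ⟨β', hβ', h1', h2', h3'⟩ := hM g hg
      have huq := beta_unique C hS F hF Z₀ hZ₀Z hZ₀p hβ hβ' h1 h1' h2 h2' z hz
      rw [huq]
      exact h3' z hz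
    have step : ∀ g : F.autGroup Q, g ∉ M → ∀ w : Q, (w : Ω) ∈ fixZ β →
        (((g : MulAut Q) w : Q) : Ω) ∈ fixZ β := by
      intro g hg w hw
      have hginv : g⁻¹ ∉ M := fun h => hg (by simpa using M.inv_mem h)
      obtain ⟨hwZ, hwfix⟩ := hw
      have h3 := (key g⁻¹ hginv (w : Ω) hwZ).mp hwfix
      have h4 : (((g⁻¹ : F.autGroup Q) : MulAut Q)⁻¹) = (g : MulAut Q) := by
        rw [Subgroup.coe_inv, inv_inv]
      rw [h4] at h3
      have h5 : (⟨(w : Ω), hZQ hwZ⟩ : Q) = w := rfl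
      rw [h5] at h3
      refine ⟨h3, ?_⟩
      rw [key g hg _ h3]
      have h6 : (⟨(((g : MulAut Q) w : Q) : Ω), hZQ h3⟩ : Q) = (g : MulAut Q) w := rfl
      rw [h6, MulAut.inv_apply_self]
      exact hwZ
    obtain ⟨h, hh⟩ : ∃ h : F.autGroup Q, h ∉ M := by
      by_contra hcon
      push Not at hcon
      exact hMtop (eq_top_iff.mpr (fun g _ => hcon g))
    obtain ⟨g, hgdef⟩ : ∃ g : F.autGroup Q, g = ⟨α, hα⟩ := ⟨_, rfl⟩
    have hgα : (g : MulAut Q) = α := by rw [hgdef]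
    rw [← hgα]
    by_cases hgM : g ∈ M
    · have hghM : g * h ∉ M := by
        intro hcon
        apply hh
        have h3 : h = g⁻¹ * (g * h) := by group
        rw [h3]
        exact M.mul_mem (M.inv_mem hgM) hcon
      have hhinv : h⁻¹ ∉ M := fun h' => hh (by simpa using M.inv_mem h')
      have h3 := step h⁻¹ hhinv v hv
      have h4 := step (g * h) hghM _ h3
      have h5 : ((g * h : F.autGroup Q) : MulAut Q) (((h⁻¹ : F.autGroup Q) : MulAut Q) v) =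
          (g : MulAut Q) v := by
        rw [Subgroup.coe_mul, Subgroup.coe_inv, MulAut.mul_apply, MulAut.apply_inv_self]
      rw [h5] at h4
      exact h4
    · exact step g hgM v hv

/-- the fixed points on `Z(S)` of the distinguished automorphism are normal in `F` -/
theorem fixZ_isNormal' (C : Ctx p S A) (hS : IsPGroup p S) (F : FusionSystem S)
    (hF : F.IsSaturated p) (hp2 : p ≠ 2)
    (hchoice : ∀ Q : Subgroup Ω, F.IsEssential p Q → ∃ A' : Subgroup Ω, Ctx p S A' ∧ Q ≠ A')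
    (Z₀ : Subgroup Ω)
    (hZ₀def : Z₀ = ZS S ⊓ (commutator ↥S).map S.subtype) (hZ₀card : Nat.card Z₀ = p)
    {β : MulAut S} (hβ : β ∈ F.autGroup S)
    (h1 : ∀ (z : Ω) (hz : z ∈ ZS S), z ∈ Z₀ → ((β ⟨z, ZS_le S hz⟩ : S) : Ω) = z⁻¹)
    (h2 : ∀ (z : Ω) (hz : z ∈ ZS S), z⁻¹ * ((β ⟨z, ZS_le S hz⟩ : S) : Ω) ∈ Z₀) :
    F.IsNormal (fixZ β) := by
  have hZ₀Z : Z₀ ≤ ZS S := by rw [hZ₀def]; exact inf_le_left
  haveI : Finite Z₀ := fs_finite_of_le (le_trans hZ₀Z (ZS_le S))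
  have hZ₀p : ∀ z ∈ Z₀, z ^ p = 1 := by
    intro z hz
    have h3 : (⟨z, hz⟩ : Z₀) ^ Nat.card Z₀ = 1 := pow_card_eq_one'
    rw [hZ₀card] at h3
    exact congrArg Subtype.val h3
  rw [fs_isNormal_iff_essential_invariant p hS F hF]
  intro P hP
  rcases hP with hPS | hP
  · subst hPS
    refine ⟨(fixZ_le β).trans (ZS_le P), ?_⟩
    apply map_eq_of_invariant
    intro α hα v hv
    rw [Subgroup.mem_subgroupOf] at hv ⊢
    exact fixZ_invariant_S C hS F hF Z₀ hZ₀def hZ₀p hβ h1 h2 hα hv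
  · refine ⟨(fixZ_le β).trans (ess_ZS_le F hP), ?_⟩
    obtain ⟨A', C', hPA'⟩ := hchoice P hP
    apply map_eq_of_invariant
    intro α hα v hv
    rw [Subgroup.mem_subgroupOf] at hv ⊢
    exact fixZ_invariant_ess' C' hS F hF hp2 Z₀ hZ₀def hZ₀card hβ h1 h2 hP hPA' hα hv

set_option maxHeartbeats 800000 in
/-- for odd `p`, a core-free saturated fusion system over `S` with `|S : Z(S)| = p²` forces
`|Z(S)| = p` -/
theorem C2.card_ZS_odd (D : C2 p S) (F : FusionSystem S) (hF : F.IsSaturated p) (hp2 : p ≠ 2)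
    (hcore : F.core = ⊥) : Nat.card (ZS S) = p := by
  have hS := D.hS
  obtain ⟨s₀, hs₀, t₀, ht₀, hst₀⟩ := D.hna
  have hs₀Z : s₀ ∉ ZS S := fun h => hst₀ ((mem_ZS_iff.mp h).2 t₀ ht₀).symm
  have C₀ := D.ctx hs₀ hs₀Z
  -- every essential subgroup has a complementary abelian subgroup of index `p`
  have hchoice : ∀ Q : Subgroup Ω, F.IsEssential p Q →
      ∃ A' : Subgroup Ω, Ctx p S A' ∧ Q ≠ A' := by
    intro Q hQ
    have hQS := ess_le F hQ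
    have hne := ess_ne p hS F hF hQ
    obtain ⟨y, hyS, hyQ⟩ : ∃ y ∈ S, y ∉ Q := by
      by_contra hcon
      push Not at hcon
      exact hne (le_antisymm hQS hcon)
    have hyZ : y ∉ ZS S := fun h => hyQ (ess_ZS_le F hQ h)
    refine ⟨_, D.ctx hyS hyZ, ?_⟩
    intro h
    apply hyQ
    rw [h]
    exact Subgroup.mem_sup_right (Subgroup.mem_zpowers y)
  have hnn : ¬ F.IsNormal (ZS S) := by
    intro h
    have h3 : ZS S ≤ F.core := le_sSup h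
    rw [hcore] at h3
    haveI : Nontrivial S := ⟨⟨⟨s₀, hs₀⟩, ⟨t₀, ht₀⟩, fun h => hst₀ (by
      have h4 : s₀ = t₀ := congrArg Subtype.val h
      rw [h4])⟩⟩
    haveI := IsPGroup.center_nontrivial hS
    obtain ⟨c, hc⟩ := exists_ne (1 : Subgroup.center S)
    apply hc
    have h4 : ((c : S) : Ω) ∈ ZS S := by
      rw [mem_ZS_iff]
      refine ⟨(c : S).2, fun g hg => ?_⟩
      have h5 := Subgroup.mem_center_iff.mp c.2 ⟨g, hg⟩
      exact congrArg Subtype.val h5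
    have h5 := h3 h4
    rw [Subgroup.mem_bot] at h5
    exact Subtype.ext (Subtype.ext h5)
  -- an essential subgroup
  obtain ⟨P, hP⟩ : ∃ P : Subgroup Ω, F.IsEssential p P := by
    by_contra hcon
    push Not at hcon
    apply hnn
    rw [fs_isNormal_iff_essential_invariant p hS F hF]
    intro P hP
    rcases hP with rfl | hP
    · exact ⟨ZS_le _, fun α _ => C₀.aut_ZS_map (le_refl _) D.hna α⟩
    · exact absurd hP (hcon P)
  obtain ⟨A', C', hPA'⟩ := hchoice P hP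
  obtain ⟨x, hxP, hxA⟩ := ess_exists_outside C' F hP hPA'
  obtain ⟨x₀, hx₀P, hx₀Z, hPeq⟩ := D.ess_facts F hF hP
  have hPS := ess_le F hP
  have hab : ∀ g ∈ P, g * x = x * g := by
    intro g hg
    rw [hPeq] at hg hxP
    exact abelian_sup (hPS hx₀P) g hg x hxP
  obtain ⟨Z₀, hZ₀def⟩ : ∃ Z₀ : Subgroup Ω, Z₀ = ZS S ⊓ (commutator ↥S).map S.subtype := ⟨_, rfl⟩
  have hZ₀eq : Z₀ = (commutator ↥S).map S.subtype := by
    rw [hZ₀def]; exact inf_eq_right.mpr D.commutator_le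
  have hZ₀card : Nat.card Z₀ = p := by
    rw [hZ₀eq]; exact D.card_commutator
  have hZ₀Z : Z₀ ≤ ZS S := by rw [hZ₀def]; exact inf_le_left
  haveI : Finite Z₀ := fs_finite_of_le (le_trans hZ₀Z (ZS_le S))
  haveI : Finite (ZS S) := fs_finite_of_le (ZS_le S)
  obtain ⟨M, hMtop, hM⟩ := ess_abelian_beta C' hS F hF hp2 hP hxP hxA hab Z₀ hZ₀def hZ₀card
  obtain ⟨g, hg⟩ : ∃ g : F.autGroup P, g ∉ M := by
    by_contra hcon
    push Not at hcon
    exact hMtop (eq_top_iff.mpr (fun g _ => hcon g))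
  obtain ⟨β, hβ, h1, h2, -⟩ := hM g hg
  have hnorm := fixZ_isNormal' C₀ hS F hF hp2 hchoice Z₀ hZ₀def hZ₀card hβ h1 h2
  have hbot : fixZ β = ⊥ := by
    have h3 : fixZ β ≤ F.core := le_sSup hnorm
    rw [hcore] at h3
    exact le_bot_iff.mp h3
  have hinj : Function.Injective (fun z : ZS S =>
      (⟨(z : Ω)⁻¹ * ((β ⟨(z : Ω), ZS_le S z.2⟩ : S) : Ω), h2 z z.2⟩ : Z₀)) := by
    intro z w hzw
    have h3 : (z : Ω)⁻¹ * ((β ⟨(z : Ω), ZS_le S z.2⟩ : S) : Ω) =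
        (w : Ω)⁻¹ * ((β ⟨(w : Ω), ZS_le S w.2⟩ : S) : Ω) := congrArg Subtype.val hzw
    have hmem : (z : Ω) * (w : Ω)⁻¹ ∈ fixZ β := by
      have hzwZ : (z : Ω) * (w : Ω)⁻¹ ∈ ZS S := (ZS S).mul_mem z.2 ((ZS S).inv_mem w.2)
      refine ⟨hzwZ, ?_⟩
      have h4 : (⟨(z : Ω) * (w : Ω)⁻¹, ZS_le S hzwZ⟩ : S) =
          ⟨(z : Ω), ZS_le S z.2⟩ * (⟨(w : Ω), ZS_le S w.2⟩ : S)⁻¹ := rfl
      rw [h4, map_mul, map_inv, Subgroup.coe_mul, Subgroup.coe_inv]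
      have h5 : ((β ⟨(z : Ω), ZS_le S z.2⟩ : S) : Ω) =
          (z : Ω) * ((w : Ω)⁻¹ * ((β ⟨(w : Ω), ZS_le S w.2⟩ : S) : Ω)) := by
        rw [← h3]; group
      rw [h5]
      group
    rw [hbot, Subgroup.mem_bot] at hmem
    apply Subtype.ext
    calc (z : Ω) = (z : Ω) * (w : Ω)⁻¹ * w := by group
      _ = w := by rw [hmem, one_mul]
  have hcard : Nat.card (ZS S) ≤ Nat.card Z₀ := Nat.card_le_card_of_injective _ hinj
  have heq : Z₀ = ZS S := Subgroup.eq_of_le_of_card_ge hZ₀Z hcard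
  exact heq ▸ hZ₀card

end Cfsg.Agent.Lib.Helper9.H9C2
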