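import Mathlib
import Cfsg.Prelude
import Cfsg.Agent.Lib.Helper9.C2b
import Cfsg.Agent.Lib.Helper9.EssP2
import Cfsg.Agent.Lib.Helper9.P3Class2
import Cfsg.Agent.Lib.Lead.AlperinOmega

set_option autoImplicit false

/-!
# `p`-groups whose centre has index `p²` and order `p`: order `p³`, exponent `p` for odd `p`
-/

namespace Cfsg.Agent.Lib.Helper9.H9C2

open Cfsg Cfsg.FusionSystem Cfsg.Agent.Lib.Helper9 Cfsg.Agent.Lib.Helper9.H9AbIdx
open Cfsg.Agent.H9EP2 Cfsg.Agent.H9P3
open scoped commutatorElement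

variable {Ω : Type*} [Group Ω] {S : Subgroup Ω} [Finite S] {p : ℕ} [hp : Fact p.Prime]

namespace C2

theorem card_S (D : C2 p S) (hZ : Nat.card (ZS S) = p) : Nat.card S = p ^ 3 := by
  have h4 := Subgroup.relIndex_mul_relIndex ⊥ (ZS S) S bot_le (ZS_le S)
  rw [Subgroup.relIndex_bot_left, Subgroup.relIndex_bot_left, hZ, D.hidx] at h4
  rw [← h4]
  ring

theorem not_comm_type (D : C2 p S) : ¬ ∀ a b : ↥S, a * b = b * a := by
  intro h
  obtain ⟨s, hs, t, ht, hst⟩ := D.hna
  exact hst (congrArg Subtype.val (h ⟨s, hs⟩ ⟨t, ht⟩))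

theorem isExtraspecial (D : C2 p S) (hZ : Nat.card (ZS S) = p) : IsExtraspecial p ↥S :=
  isExtraspecial_of_nonab p (D.card_S hZ) D.not_comm_type

/-- a core-free saturated fusion system has an essential subgroup -/
theorem exists_essential (D : C2 p S) (F : FusionSystem S) (hF : F.IsSaturated p)
    (hcore : F.core = ⊥) : ∃ P : Subgroup Ω, F.IsEssential p P := by
  have hS := D.hS
  obtain ⟨s₀, hs₀, t₀, ht₀, hst₀⟩ := D.hna
  have hs₀Z : s₀ ∉ ZS S := fun h => hst₀ ((mem_ZS_iff.mp h).2 t₀ ht₀).symm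
  have C₀ := D.ctx hs₀ hs₀Z
  have hnn : ¬ F.IsNormal (ZS S) := by
    intro h
    have h3 : ZS S ≤ F.core := le_sSup h
    rw [hcore] at h3
    haveI : Nontrivial S := ⟨⟨⟨s₀, hs₀⟩, ⟨t₀, ht₀⟩, fun h => hst₀ (by
      have h4 : s₀ = t₀ := congrArg Subtype.val h
      rw [h4])⟩⟩
    haveI := IsPGroup.center_nontrivial hS
    obtain ⟨c, hc⟩ := exists_ne (1 : Subgroup.center S)
    apply hc
    have h4 : ((c : S) : Ω) ∈ ZS S := by
      rw [mem_ZS_iff]
      refine ⟨(c : S).2, fun g hg => ?_⟩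
      have h5 := Subgroup.mem_center_iff.mp c.2 ⟨g, hg⟩
      exact congrArg Subtype.val h5
    have h5 := h3 h4
    rw [Subgroup.mem_bot] at h5
    exact Subtype.ext (Subtype.ext h5)
  by_contra hcon
  push Not at hcon
  apply hnn
  rw [fs_isNormal_iff_essential_invariant p hS F hF]
  intro P hP
  rcases hP with rfl | hP
  · exact ⟨ZS_le _, fun α _ => C₀.aut_ZS_map (le_refl _) D.hna α⟩
  · exact absurd hP (hcon P)

/-- essential subgroups have exponent `p` when `|Z(S)| = p` -/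
theorem ess_pow (D : C2 p S) (hZ : Nat.card (ZS S) = p) (F : FusionSystem S)
    (hF : F.IsSaturated p) {P : Subgroup Ω} (hP : F.IsEssential p P) : ∀ x ∈ P, x ^ p = 1 := by
  have hPS := ess_le F hP
  haveI : Finite P := fs_finite_of_le hPS
  obtain ⟨x₀, hx₀P, hx₀Z, hPeq⟩ := D.ess_facts F hF hP
  have hcard : Nat.card P = p ^ 2 := by
    have h4 := Subgroup.relIndex_mul_relIndex ⊥ (ZS S) P bot_le (ess_ZS_le F hP)
    rw [Subgroup.relIndex_bot_left, Subgroup.relIndex_bot_left, hZ] at h4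
    rw [← h4]
    have h5 : (ZS S).relIndex P = p := by
      rw [hPeq]; exact (D.relIndex_sup (hPS hx₀P) hx₀Z).1
    rw [h5, pow_two]
  obtain ⟨hN, E, hE⟩ := hP.2.2
  obtain ⟨-, hpow, -⟩ := aut_p2 p hcard (F.autGroup P) hN E hE
  intro x hx
  exact congrArg Subtype.val (hpow ⟨x, hx⟩)

set_option maxHeartbeats 800000 in
/-- for odd `p`, `S` has exponent `p` -/
theorem pow_eq_one_odd (D : C2 p S) (hZ : Nat.card (ZS S) = p) (hp2 : p ≠ 2) (F : FusionSystem S)
    (hF : F.IsSaturated p) (hcore : F.core = ⊥) : ∀ s ∈ S, s ^ p = 1 := by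
  have hS := D.hS
  have hpp : p.Prime := hp.out
  -- the commutator subgroup is central of exponent `p`
  have hcomm_le := D.commutator_le
  have hcomm_card := D.card_commutator
  haveI : Finite ↥((commutator ↥S).map S.subtype) :=
    fs_finite_of_le (le_trans hcomm_le (ZS_le S))
  have hcz : ∀ x y : ↥S, ((⁅y, x⁆ : ↥S) : Ω) ∈ (commutator ↥S).map S.subtype := by
    intro x y
    refine ⟨⁅y, x⁆, ?_, rfl⟩
    rw [SetLike.mem_coe, commutator_def]
    exact Subgroup.commutator_mem_commutator (Subgroup.mem_top _) (Subgroup.mem_top _)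
  have hcpow : ∀ x y : ↥S, (⁅y, x⁆ : ↥S) ^ p = 1 := by
    intro x y
    have h3 : (⟨_, hcz x y⟩ : ↥((commutator ↥S).map S.subtype)) ^
        Nat.card ↥((commutator ↥S).map S.subtype) = 1 := pow_card_eq_one'
    rw [hcomm_card] at h3
    apply Subtype.ext
    have h4 := congrArg Subtype.val h3
    exact h4
  have hccen : ∀ x y g : ↥S, Commute (⁅y, x⁆ : ↥S) g := by
    intro x y g
    have h3 := hcomm_le (hcz x y)
    exact Subtype.ext ((mem_ZS_iff.mp h3).2 g g.2).symm
  have hmul : ∀ x y : ↥S, (x * y) ^ p = x ^ p * y ^ p := by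
    intro x y
    rw [Cfsg.Agent.Lib.Lead.mul_pow_of_commute x y (hccen x y x) (hccen x y y) p]
    have h3 : p ∣ p.choose 2 := by
      apply Nat.Prime.dvd_choose_self hpp (by norm_num)
      have := hpp.two_le
      omega
    obtain ⟨k, hk⟩ := h3
    rw [hk, pow_mul, hcpow x y, one_pow, mul_one]
  by_contra hcon
  push Not at hcon
  obtain ⟨s₁, hs₁, hs₁p⟩ := hcon
  obtain ⟨W, hWdef⟩ : ∃ W : Subgroup ↥S, W = (powHom p hmul).ker := ⟨_, rfl⟩
  have hWmem : ∀ x : ↥S, x ∈ W ↔ x ^ p = 1 := by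
    intro x
    rw [hWdef, MonoidHom.mem_ker, powHom_apply]
  have hWtop : W ≠ ⊤ := by
    intro h
    have h3 : (⟨s₁, hs₁⟩ : ↥S) ∈ W := by rw [h]; trivial
    rw [hWmem] at h3
    exact hs₁p (congrArg Subtype.val h3)
  -- every essential subgroup is `W`
  have hess : ∀ Q : Subgroup Ω, F.IsEssential p Q → Q.subgroupOf S = W := by
    intro Q hQ
    have hQS := ess_le F hQ
    obtain ⟨x₀, hx₀Q, hx₀Z, hQeq⟩ := D.ess_facts F hF hQ
    have hidx : (Q.subgroupOf S).index = p := by
      show Q.relIndex S = p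
      rw [hQeq]; exact (D.relIndex_sup (hQS hx₀Q) hx₀Z).2
    have hco : IsCoatom (Q.subgroupOf S) :=
      Cfsg.Agent.Lib.Lead.isCoatom_of_index_prime (hidx ▸ hpp)
    have hle : Q.subgroupOf S ≤ W := by
      intro x hx
      rw [Subgroup.mem_subgroupOf] at hx
      rw [hWmem]
      exact Subtype.ext (D.ess_pow hZ F hF hQ _ hx)
    rcases eq_or_lt_of_le hle with h3 | h3
    · exact h3
    · exact absurd (hco.2 W h3) hWtop
  obtain ⟨P, hP⟩ := D.exists_essential F hF hcore
  have hPS := ess_le F hP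
  have hWP : W.map S.subtype = P := by
    rw [← hess P hP, Subgroup.subgroupOf_map_subtype, inf_eq_left.mpr hPS]
  have hnorm : F.IsNormal P := by
    rw [fs_isNormal_iff_essential_invariant p hS F hF]
    intro Q hQ
    rcases hQ with hQS | hQ
    · subst hQS
      refine ⟨hPS, ?_⟩
      apply map_eq_of_invariant
      intro α _ v hv
      rw [hess P hP, hWmem] at hv ⊢
      rw [← map_pow, hv, map_one]
    · have hQP : Q = P := by
        have h3 := hess Q hQ
        rw [← hess P hP] at h3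
        have h4 := congrArg (fun K : Subgroup ↥S => K.map S.subtype) h3
        simp only [Subgroup.subgroupOf_map_subtype] at h4
        rw [inf_eq_left.mpr (ess_le F hQ), inf_eq_left.mpr hPS] at h4
        exact h4
      subst hQP
      refine ⟨le_refl _, fun α _ => ?_⟩
      have h3 : Q.subgroupOf Q = ⊤ := Subgroup.subgroupOf_self Q
      rw [h3]
      exact Subgroup.map_top_of_surjective _ α.surjective
  have h3 : P ≤ F.core := le_sSup hnorm
  rw [hcore] at h3
  obtain ⟨x₀, hx₀P, hx₀Z, -⟩ := D.ess_facts F hF hP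
  apply hx₀Z
  have h4 := h3 hx₀P
  rw [Subgroup.mem_bot] at h4
  rw [h4]
  exact (ZS S).one_mem

end C2

end Cfsg.Agent.Lib.Helper9.H9C2
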