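import Mathlib

set_option autoImplicit false

/-!
# Transvections on an abelian `2`-group and groups with a Sylow `2`-subgroup of order `2`
-/

namespace Cfsg.Agent.Lib.Helper9.H9C2

variable {H : Type*} [Group H]

/-- `t` acts on `H` as a transvection with centre `z` (an involution) and axis `Z` -/
structure Transv (t : MulAut H) (z : H) (Z : Subgroup H) : Prop where
  hz2 : z * z = 1
  hz1 : z ≠ 1
  hzZ : z ∈ Z
  hne : ∃ h : H, h ∉ Z
  hfix : ∀ h, h ∈ Z → t h = h
  hmove : ∀ h, h ∉ Z → t h = h * z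

namespace Transv

variable {t : MulAut H} {z : H} {Z : Subgroup H}

theorem fix_iff (T : Transv t z Z) (h : H) : t h = h ↔ h ∈ Z := by
  constructor
  · intro h1
    by_contra h2
    rw [T.hmove h h2] at h1
    exact T.hz1 (mul_eq_left.mp h1)
  · exact T.hfix h

theorem apply_center (T : Transv t z Z) : t z = z := T.hfix z T.hzZ

theorem sq (T : Transv t z Z) : t * t = 1 := by
  ext h
  rw [MulAut.mul_apply, MulAut.one_apply]
  by_cases hh : h ∈ Z
  · rw [T.hfix h hh, T.hfix h hh]
  · rw [T.hmove h hh, map_mul, T.hmove h hh, T.apply_center, mul_assoc, T.hz2, mul_one]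

theorem inv_eq (T : Transv t z Z) : t⁻¹ = t := inv_eq_of_mul_eq_one_left T.sq

theorem ne_one (T : Transv t z Z) : t ≠ 1 := by
  intro h
  obtain ⟨x, hx⟩ := T.hne
  apply hx
  rw [← T.fix_iff, h]
  rfl

theorem mul_mem (T : Transv t z Z) (hcomm : ∀ a b : H, a * b = b * a) {a b : H} (ha : a ∉ Z)
    (hb : b ∉ Z) : a * b ∈ Z := by
  rw [← T.fix_iff, map_mul, T.hmove a ha, T.hmove b hb]
  calc a * z * (b * z) = a * (z * b) * z := by group
    _ = a * (b * z) * z := by rw [hcomm z b]
    _ = a * b * (z * z) := by group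
    _ = a * b := by rw [T.hz2, mul_one]

/-- conjugates of transvections are transvections -/
theorem conj (T : Transv t z Z) (g : MulAut H) :
    Transv (g * t * g⁻¹) (g z) (Z.map g.toMonoidHom) := by
  have hmem : ∀ h : H, h ∈ Z.map g.toMonoidHom ↔ g⁻¹ h ∈ Z := by
    intro h
    constructor
    · rintro ⟨x, hx, rfl⟩
      have : g⁻¹ (g x) = x := MulAut.inv_apply_self _ _ _
      show g⁻¹ (g x) ∈ Z
      rw [this]
      exact hx
    · intro hx
      exact ⟨g⁻¹ h, hx, MulAut.apply_inv_self _ _ _⟩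
  refine ⟨?_, ?_, ?_, ?_, ?_, ?_⟩
  · rw [← map_mul, T.hz2, map_one]
  · intro h
    apply T.hz1
    have : g z = g 1 := by rw [h, map_one]
    exact g.injective this
  · exact ⟨z, T.hzZ, rfl⟩
  · obtain ⟨x, hx⟩ := T.hne
    refine ⟨g x, ?_⟩
    rw [hmem, MulAut.inv_apply_self]
    exact hx
  · intro h hh
    rw [hmem] at hh
    rw [MulAut.mul_apply, MulAut.mul_apply, T.hfix _ hh, MulAut.apply_inv_self]
  · intro h hh
    rw [hmem] at hh
    rw [MulAut.mul_apply, MulAut.mul_apply, T.hmove _ hh, map_mul, MulAut.apply_inv_self]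

/-- a transvection determines its axis and centre -/
theorem axis_eq {z₂ : H} {Z₂ : Subgroup H} (T : Transv t z Z) (T₂ : Transv t z₂ Z₂) : Z = Z₂ := by
  ext h
  rw [← T.fix_iff, ← T₂.fix_iff]

theorem center_eq {z₂ : H} {Z₂ : Subgroup H} (T : Transv t z Z) (T₂ : Transv t z₂ Z₂) :
    z = z₂ := by
  obtain ⟨x, hx⟩ := T.hne
  have hx₂ : x ∉ Z₂ := by rw [← T.axis_eq T₂]; exact hx
  have h1 := T.hmove x hx
  rw [T₂.hmove x hx₂] at h1
  exact (mul_left_cancel h1).symm

/-- a transvection is determined by its axis and centre -/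
theorem ext_aut {t₂ : MulAut H} (T : Transv t z Z) (T₂ : Transv t₂ z Z) : t = t₂ := by
  ext h
  by_cases hh : h ∈ Z
  · rw [T.hfix h hh, T₂.hfix h hh]
  · rw [T.hmove h hh, T₂.hmove h hh]

/-- two transvections with each centre on the other's axis commute -/
theorem comm_of_mem {t' : MulAut H} {z' : H} {Z' : Subgroup H} (T : Transv t z Z)
    (T' : Transv t' z' Z') (hcomm : ∀ a b : H, a * b = b * a) (h1 : z ∈ Z') (h2 : z' ∈ Z) :
    t * t' = t' * t := by
  ext h
  rw [MulAut.mul_apply, MulAut.mul_apply]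
  by_cases hh : h ∈ Z <;> by_cases hh' : h ∈ Z'
  · rw [T'.hfix h hh', T.hfix h hh, T'.hfix h hh']
  · rw [T'.hmove h hh', T.hfix h hh, map_mul, T.hfix h hh, T.hfix z' h2, T'.hmove h hh']
  · rw [T'.hfix h hh', T.hmove h hh, map_mul, T'.hfix h hh', T'.hfix z h1]
  · rw [T'.hmove h hh', T.hmove h hh, map_mul, map_mul, T.hmove h hh, T'.hmove h hh',
      T.hfix z' h2, T'.hfix z h1, mul_assoc, mul_assoc, hcomm z z']

end Transv

/-- no Klein four-subgroup -/
def NoV4 (G : Subgroup (MulAut H)) : Prop :=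
  ∀ a b : MulAut H, a ∈ G → b ∈ G → a * a = 1 → b * b = 1 → a * b = b * a →
    a = 1 ∨ b = 1 ∨ a = b

section main

variable {G : Subgroup (MulAut H)} {t t' : MulAut H} {z z' : H} {Z Z' : Subgroup H}

/-- if the centre of `t` lies on the axis of `t'` but not conversely, there is a Klein four-group -/
theorem Transv.aux_case (T : Transv t z Z) (T' : Transv t' z' Z')
    (hcomm : ∀ a b : H, a * b = b * a) (hV : NoV4 G) (ht : t ∈ G) (ht' : t' ∈ G)
    (h1 : z ∈ Z') (h2 : z' ∉ Z) : False := by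
  -- `s = (t t')²` is the transvection with centre `z` and axis `Z'`
  have hs : Transv (t * t' * t * t') z Z' := by
    refine ⟨T.hz2, T.hz1, h1, T'.hne, ?_, ?_⟩
    · intro h hh
      have htZ' : t h ∈ Z' := by
        by_cases hhZ : h ∈ Z
        · rw [T.hfix h hhZ]; exact hh
        · rw [T.hmove h hhZ]; exact Z'.mul_mem hh h1
      rw [MulAut.mul_apply, MulAut.mul_apply, MulAut.mul_apply, T'.hfix h hh, T'.hfix _ htZ']
      have := T.sq
      have h3 : t (t h) = (t * t) h := rfl
      rw [h3, this]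
      rfl
    · intro h hh
      have hu : t h ∉ Z' := by
        by_cases hhZ : h ∈ Z
        · rw [T.hfix h hhZ]; exact hh
        · rw [T.hmove h hhZ]
          intro h3
          apply hh
          have h4 : h = h * z * z := by rw [mul_assoc, T.hz2, mul_one]
          rw [h4]
          exact Z'.mul_mem h3 h1
      have htt : t (t h) = h := by
        have h3 : t (t h) = (t * t) h := rfl
        rw [h3, T.sq]; rfl
      have e1 : t' h = h * z' := T'.hmove h hh
      have e2 : t (h * z') = t h * (z' * z) := by rw [map_mul, T.hmove z' h2]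
      have e3 : t' (t h * (z' * z)) = t h * z' * (z' * z) := by
        rw [map_mul, map_mul, T'.hmove _ hu, T'.hfix z' T'.hzZ, T'.hfix z h1]
      have e4 : t (t h * z' * (z' * z)) = h * (z' * z) * (z' * z * z) := by
        rw [map_mul, map_mul, map_mul, htt, T.hmove z' h2, T.hfix z T.hzZ]
      show t (t' (t (t' h))) = h * z
      rw [e1, e2, e3, e4]
      have e5 : z' * z * (z' * z) = 1 := by
        calc z' * z * (z' * z) = z' * (z * z') * z := by group
          _ = z' * (z' * z) * z := by rw [hcomm z z']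
          _ = z' * z' * (z * z) := by group
          _ = 1 := by rw [T'.hz2, T.hz2, mul_one]
      calc h * (z' * z) * (z' * z * z) = h * (z' * z * (z' * z)) * z := by group
        _ = h * z := by rw [e5, mul_one]
  have hsG : t * t' * t * t' ∈ G := G.mul_mem (G.mul_mem (G.mul_mem ht ht') ht) ht'
  have hc := T.comm_of_mem hs hcomm h1 T.hzZ
  rcases hV t _ ht hsG T.sq hs.sq hc with h3 | h3 | h3
  · exact T.ne_one h3
  · exact hs.ne_one h3
  · have h4 : Transv t z Z' := h3 ▸ hs
    have h5 := T.axis_eq h4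
    exact h2 (h5 ▸ T'.hzZ)

/-- distinct transvections in `G`: each centre lies off the other's axis -/
theorem Transv.not_mem_of_ne (T : Transv t z Z) (T' : Transv t' z' Z')
    (hcomm : ∀ a b : H, a * b = b * a) (hV : NoV4 G) (ht : t ∈ G) (ht' : t' ∈ G) (hne : t ≠ t') :
    z ∉ Z' ∧ z' ∉ Z := by
  by_cases h1 : z ∈ Z' <;> by_cases h2 : z' ∈ Z
  · exfalso
    have hc := T.comm_of_mem T' hcomm h1 h2
    rcases hV t t' ht ht' T.sq T'.sq hc with h3 | h3 | h3
    · exact T.ne_one h3
    · exact T'.ne_one h3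
    · exact hne h3
  · exact (T.aux_case T' hcomm hV ht ht' h1 h2).elim
  · exact (T'.aux_case T hcomm hV ht' ht h2 h1).elim
  · exact ⟨h1, h2⟩

/-- the third transvection -/
theorem Transv.third (T : Transv t z Z) (T' : Transv t' z' Z')
    (hcomm : ∀ a b : H, a * b = b * a) (hV : NoV4 G) (ht : t ∈ G) (ht' : t' ∈ G) (hne : t ≠ t')
    {d : MulAut H} {zd : H} {Zd : Subgroup H} (Td : Transv d zd Zd) (hd : d ∈ G) (hdt : d ≠ t)
    (hdt' : d ≠ t') : d = t * t' * t⁻¹ := by
  by_contra hcon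
  have T'' := T'.conj t
  have ht'' : t * t' * t⁻¹ ∈ G := G.mul_mem (G.mul_mem ht ht') (G.inv_mem ht)
  obtain ⟨h1, -⟩ := Td.not_mem_of_ne T hcomm hV hd ht hdt
  obtain ⟨h2, -⟩ := Td.not_mem_of_ne T' hcomm hV hd ht' hdt'
  obtain ⟨h3, -⟩ := Td.not_mem_of_ne T'' hcomm hV hd ht'' hcon
  obtain ⟨h4, -⟩ := T.not_mem_of_ne T' hcomm hV ht ht' hne
  apply h3
  refine ⟨zd * z, T'.mul_mem hcomm h2 h4, ?_⟩
  show t (zd * z) = zd
  rw [map_mul, T.hmove zd h1, T.hfix z T.hzZ, mul_assoc, T.hz2, mul_one]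

end main

end Cfsg.Agent.Lib.Helper9.H9C2
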