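import Mathlib
import Cfsg.Agent.Lib.Helper9.C2d

set_option autoImplicit false

/-!
# Transvections in a group with Sylow `2`-subgroup of order `2`: the `S₃`-structure
-/

namespace Cfsg.Agent.Lib.Helper9.H9C2

variable {H : Type*} [Group H]

/-- a transvection `t ∈ G` and a conjugating element `g ∈ G` not centralizing it -/
structure S3Data (G : Subgroup (MulAut H)) (t : MulAut H) (z : H) (Z : Subgroup H)
    (g : MulAut H) : Prop where
  hcomm : ∀ a b : H, a * b = b * a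
  hV : NoV4 G
  ht : t ∈ G
  T : Transv t z Z
  hg : g ∈ G
  hne : g * t * g⁻¹ ≠ t

namespace S3Data

variable {G : Subgroup (MulAut H)} {t : MulAut H} {z : H} {Z : Subgroup H} {g : MulAut H}

theorem T' (X : S3Data G t z Z g) : Transv (g * t * g⁻¹) (g z) (Z.map g.toMonoidHom) :=
  X.T.conj g

theorem ht' (X : S3Data G t z Z g) : g * t * g⁻¹ ∈ G :=
  G.mul_mem (G.mul_mem X.hg X.ht) (G.inv_mem X.hg)

theorem mem_map_iff (g : MulAut H) (Z : Subgroup H) (h : H) :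
    h ∈ Z.map g.toMonoidHom ↔ g⁻¹ h ∈ Z := by
  constructor
  · rintro ⟨x, hx, rfl⟩
    have : g⁻¹ (g x) = x := MulAut.inv_apply_self _ _ _
    show g⁻¹ (g x) ∈ Z
    rw [this]
    exact hx
  · intro hx
    exact ⟨g⁻¹ h, hx, MulAut.apply_inv_self _ _ _⟩

theorem not_mem (X : S3Data G t z Z g) : z ∉ Z.map g.toMonoidHom ∧ g z ∉ Z :=
  X.T.not_mem_of_ne X.T' X.hcomm X.hV X.ht X.ht' (Ne.symm X.hne)

theorem T'' (X : S3Data G t z Z g) :
    Transv (t * (g * t * g⁻¹) * t⁻¹) (g z * z) ((Z.map g.toMonoidHom).map t.toMonoidHom) := by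
  have h := X.T'.conj t
  rw [X.T.hmove _ X.not_mem.2] at h
  exact h

theorem ht'' (X : S3Data G t z Z g) : t * (g * t * g⁻¹) * t⁻¹ ∈ G :=
  G.mul_mem (G.mul_mem X.ht X.ht') (G.inv_mem X.ht)

/-- there are exactly three conjugates of `t` -/
theorem conj_cases (X : S3Data G t z Z g) {k : MulAut H} (hk : k ∈ G) :
    k * t * k⁻¹ = t ∨ k * t * k⁻¹ = g * t * g⁻¹ ∨ k * t * k⁻¹ = t * (g * t * g⁻¹) * t⁻¹ := by
  by_cases h1 : k * t * k⁻¹ = t
  · exact Or.inl h1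
  by_cases h2 : k * t * k⁻¹ = g * t * g⁻¹
  · exact Or.inr (Or.inl h2)
  right; right
  exact X.T.third X.T' X.hcomm X.hV X.ht X.ht' (Ne.symm X.hne) (X.T.conj k)
    (G.mul_mem (G.mul_mem hk X.ht) (G.inv_mem hk)) h1 h2

/-- the orbit of the centre -/
theorem orbit_center (X : S3Data G t z Z g) {k : MulAut H} (hk : k ∈ G) :
    k z = z ∨ k z = g z ∨ k z = g z * z := by
  have Tk := X.T.conj k
  rcases X.conj_cases hk with h | h | h
  · left
    rw [h] at Tk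
    exact Tk.center_eq X.T
  · right; left
    rw [h] at Tk
    exact Tk.center_eq X.T'
  · right; right
    rw [h] at Tk
    exact Tk.center_eq X.T''

/-- the third transvection fixes `Z ∩ Z'` pointwise -/
theorem third_fix (X : S3Data G t z Z g) {h : H} (hZ : h ∈ Z) (hZ' : h ∈ Z.map g.toMonoidHom) :
    (t * (g * t * g⁻¹) * t⁻¹) h = h := by
  rw [X.T.inv_eq, MulAut.mul_apply, MulAut.mul_apply, X.T.hfix h hZ, X.T'.hfix h hZ', X.T.hfix h hZ]

/-- the orbit of an element of `Z ∩ Z'` stays in `Z` -/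
theorem orbit_mem (X : S3Data G t z Z g) {h : H} (hZ : h ∈ Z) (hZ' : h ∈ Z.map g.toMonoidHom)
    {k : MulAut H} (hk : k ∈ G) : k h ∈ Z := by
  have h1 : (k⁻¹ * t * k⁻¹⁻¹) h = h := by
    rcases X.conj_cases (G.inv_mem hk) with h2 | h2 | h2
    · rw [h2]; exact X.T.hfix h hZ
    · rw [h2]; exact X.T'.hfix h hZ'
    · rw [h2]; exact X.third_fix hZ hZ'
  rw [inv_inv, MulAut.mul_apply, MulAut.mul_apply] at h1
  rw [← X.T.fix_iff]
  calc t (k h) = k (k⁻¹ (t (k h))) := (MulAut.apply_inv_self _ _ _).symm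
    _ = k h := by rw [h1]

theorem orbit_mem' (X : S3Data G t z Z g) {h : H} (hZ : h ∈ Z) (hZ' : h ∈ Z.map g.toMonoidHom)
    {k : MulAut H} (hk : k ∈ G) : k h ∈ Z.map g.toMonoidHom := by
  rw [mem_map_iff]
  have := X.orbit_mem hZ hZ' (G.mul_mem (G.inv_mem X.hg) hk)
  exact this

/-- conversely, an element whose orbit stays in `Z` lies in `Z ∩ Z'` -/
theorem mem_of_orbit (X : S3Data G t z Z g) {h : H} (hh : ∀ k ∈ G, k h ∈ Z) :
    h ∈ Z ∧ h ∈ Z.map g.toMonoidHom := by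
  refine ⟨hh 1 G.one_mem, ?_⟩
  rw [mem_map_iff]
  exact hh g⁻¹ (G.inv_mem X.hg)

/-- Frattini-type decomposition -/
theorem exists_decomp (X : S3Data G t z Z g) {k : MulAut H} (hk : k ∈ G) :
    ∃ n ∈ G, (∀ h ∈ Z, h ∈ Z.map g.toMonoidHom → n h = h) ∧
      (n⁻¹ * k) * t = t * (n⁻¹ * k) := by
  have hcomm_of : ∀ n : MulAut H, n * t * n⁻¹ = k * t * k⁻¹ → (n⁻¹ * k) * t = t * (n⁻¹ * k) := by
    intro n hn
    calc n⁻¹ * k * t = n⁻¹ * (k * t * k⁻¹) * k := by group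
      _ = n⁻¹ * (n * t * n⁻¹) * k := by rw [hn]
      _ = t * (n⁻¹ * k) := by group
  have hne' : t ≠ g * t * g⁻¹ := Ne.symm X.hne
  rcases X.conj_cases hk with h | h | h
  · refine ⟨1, G.one_mem, fun _ _ _ => rfl, hcomm_of 1 ?_⟩
    rw [h]; group
  · -- `n = t''`
    refine ⟨_, X.ht'', fun h hZ hZ' => X.third_fix hZ hZ', hcomm_of _ ?_⟩
    rw [h]
    -- `t'' t t''⁻¹ = t'`
    have hne2 : t ≠ t * (g * t * g⁻¹) * t⁻¹ := by
      intro h3
      apply hne'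
      calc t = t⁻¹ * (t * (g * t * g⁻¹) * t⁻¹) * t := by rw [← h3]; group
        _ = g * t * g⁻¹ := by group
    obtain ⟨e, hedef⟩ : ∃ e : MulAut H,
        e = (t * (g * t * g⁻¹) * t⁻¹) * t * (t * (g * t * g⁻¹) * t⁻¹)⁻¹ := ⟨_, rfl⟩
    have Te := X.T.conj (t * (g * t * g⁻¹) * t⁻¹)
    rw [← hedef] at Te
    have heG : e ∈ G := by
      rw [hedef]; exact G.mul_mem (G.mul_mem X.ht'' X.ht) (G.inv_mem X.ht'')
    have he1 : e ≠ t := by
      intro h3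
      have hc : t * (t * (g * t * g⁻¹) * t⁻¹) = (t * (g * t * g⁻¹) * t⁻¹) * t := by
        calc t * (t * (g * t * g⁻¹) * t⁻¹) = e * (t * (g * t * g⁻¹) * t⁻¹) := by rw [h3]
          _ = (t * (g * t * g⁻¹) * t⁻¹) * t := by rw [hedef]; group
      rcases X.hV _ _ X.ht X.ht'' X.T.sq X.T''.sq hc with h4 | h4 | h4
      · exact X.T.ne_one h4
      · exact X.T''.ne_one h4
      · exact hne2 h4
    have he2 : e ≠ t * (g * t * g⁻¹) * t⁻¹ := by
      intro h3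
      apply hne2
      have : (t * (g * t * g⁻¹) * t⁻¹) * t * (t * (g * t * g⁻¹) * t⁻¹)⁻¹ =
          t * (g * t * g⁻¹) * t⁻¹ := by rw [← hedef]; exact h3
      calc t = (t * (g * t * g⁻¹) * t⁻¹)⁻¹ *
            ((t * (g * t * g⁻¹) * t⁻¹) * t * (t * (g * t * g⁻¹) * t⁻¹)⁻¹) *
            (t * (g * t * g⁻¹) * t⁻¹) := by group
        _ = t * (g * t * g⁻¹) * t⁻¹ := by rw [this]; group
    have h3 := X.T.third X.T'' X.hcomm X.hV X.ht X.ht'' hne2 Te heG he1 he2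
    rw [← hedef, h3]
    have htt := X.T.sq
    calc t * (t * (g * t * g⁻¹) * t⁻¹) * t⁻¹ = (t * t) * (g * t * g⁻¹) * (t * t)⁻¹ := by group
      _ = g * t * g⁻¹ := by rw [htt]; group
  · -- `n = t'`
    refine ⟨_, X.ht', fun h _ hZ' => X.T'.hfix h hZ', hcomm_of _ ?_⟩
    rw [h]
    obtain ⟨e, hedef⟩ : ∃ e : MulAut H,
        e = (g * t * g⁻¹) * t * (g * t * g⁻¹)⁻¹ := ⟨_, rfl⟩
    have Te := X.T.conj (g * t * g⁻¹)
    rw [← hedef] at Te
    have heG : e ∈ G := by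
      rw [hedef]; exact G.mul_mem (G.mul_mem X.ht' X.ht) (G.inv_mem X.ht')
    have he1 : e ≠ t := by
      intro h3
      have hc : t * (g * t * g⁻¹) = (g * t * g⁻¹) * t := by
        calc t * (g * t * g⁻¹) = e * (g * t * g⁻¹) := by rw [h3]
          _ = (g * t * g⁻¹) * t := by rw [hedef]; group
      rcases X.hV _ _ X.ht X.ht' X.T.sq X.T'.sq hc with h4 | h4 | h4
      · exact X.T.ne_one h4
      · exact X.T'.ne_one h4
      · exact hne' h4
    have he2 : e ≠ g * t * g⁻¹ := by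
      intro h3
      apply hne'
      have : (g * t * g⁻¹) * t * (g * t * g⁻¹)⁻¹ = g * t * g⁻¹ := by rw [← hedef]; exact h3
      calc t = (g * t * g⁻¹)⁻¹ * ((g * t * g⁻¹) * t * (g * t * g⁻¹)⁻¹) * (g * t * g⁻¹) := by group
        _ = g * t * g⁻¹ := by rw [this]; group
    have h3 := X.T.third X.T' X.hcomm X.hV X.ht X.ht' hne' Te heG he1 he2
    rw [← hedef, h3]

/-- **key**: on `Z ∩ Z'`, every element of `G` acts like an element centralizing `t` -/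
theorem exists_centralizing (X : S3Data G t z Z g) {k : MulAut H} (hk : k ∈ G) {v : H}
    (hZ : v ∈ Z) (hZ' : v ∈ Z.map g.toMonoidHom) :
    ∃ c ∈ G, c * t = t * c ∧ k v = c v := by
  obtain ⟨n, hn, hfix, hc⟩ := X.exists_decomp hk
  refine ⟨n⁻¹ * k, G.mul_mem (G.inv_mem hn) hk, hc, ?_⟩
  have hcG : n⁻¹ * k ∈ G := G.mul_mem (G.inv_mem hn) hk
  have h1 := hfix _ (X.orbit_mem hZ hZ' hcG) (X.orbit_mem' hZ hZ' hcG)
  calc k v = n ((n⁻¹ * k) v) := by
        rw [MulAut.mul_apply, MulAut.apply_inv_self]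
    _ = (n⁻¹ * k) v := h1

theorem index_two (X : S3Data G t z Z g) {h : H} (hZ : h ∈ Z) :
    h ∈ Z.map g.toMonoidHom ∨ h * z ∈ Z.map g.toMonoidHom := by
  by_cases hh : h ∈ Z.map g.toMonoidHom
  · exact Or.inl hh
  · exact Or.inr (X.T'.mul_mem X.hcomm hh X.not_mem.1)

/-- decomposition of `H` as `(Z ∩ Z') × ⟨z, z'⟩` -/
theorem exists_rep (X : S3Data G t z Z g) (h : H) :
    ∃ w : H, (w = 1 ∨ w = z ∨ w = g z ∨ w = g z * z) ∧ h * w ∈ Z ∧
      h * w ∈ Z.map g.toMonoidHom := by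
  obtain ⟨hz', hgz⟩ := X.not_mem
  by_cases hZ : h ∈ Z <;> by_cases hZ' : h ∈ Z.map g.toMonoidHom
  · exact ⟨1, Or.inl rfl, by rw [mul_one]; exact hZ, by rw [mul_one]; exact hZ'⟩
  · exact ⟨z, Or.inr (Or.inl rfl), Z.mul_mem hZ X.T.hzZ, X.T'.mul_mem X.hcomm hZ' hz'⟩
  · exact ⟨g z, Or.inr (Or.inr (Or.inl rfl)), X.T.mul_mem X.hcomm hZ hgz,
      (Z.map g.toMonoidHom).mul_mem hZ' X.T'.hzZ⟩
  · refine ⟨g z * z, Or.inr (Or.inr (Or.inr rfl)), ?_, ?_⟩
    · rw [← mul_assoc]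
      exact Z.mul_mem (X.T.mul_mem X.hcomm hZ hgz) X.T.hzZ
    · rw [X.hcomm (g z) z, ← mul_assoc]
      exact (Z.map g.toMonoidHom).mul_mem (X.T'.mul_mem X.hcomm hZ' hz') X.T'.hzZ

end S3Data

end Cfsg.Agent.Lib.Helper9.H9C2
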