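import Mathlib
import Cfsg.Prelude
import Cfsg.Agent.Lib.Helper9.C2c
import Cfsg.Agent.Lib.Helper9.C2e

set_option autoImplicit false

/-!
# `2`-groups whose centre has index `4`: the automizer of an essential subgroup
-/

namespace Cfsg.Agent.Lib.Helper9.H9C2

open Cfsg Cfsg.FusionSystem Cfsg.Agent.Lib.Helper9 Cfsg.Agent.Lib.Helper9.H9AbIdx

/-- a group of automorphisms whose Sylow `2`-subgroup has at most two elements has no Klein
four-subgroup -/
theorem noV4_of_sylow {H : Type*} [Group H] (G : Subgroup (MulAut H)) [Finite G]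
    [Fact (Nat.Prime 2)] (T : Sylow 2 G) (t : G)
    (hT : ∀ q ∈ (T : Subgroup G), q = 1 ∨ q = t) : NoV4 G := by
  intro a b ha hb ha2 hb2 hab
  by_contra hcon
  push Not at hcon
  obtain ⟨ha1, hb1, hne⟩ := hcon
  obtain ⟨a', ha'⟩ : ∃ a' : G, a' = ⟨a, ha⟩ := ⟨_, rfl⟩
  obtain ⟨b', hb'⟩ : ∃ b' : G, b' = ⟨b, hb⟩ := ⟨_, rfl⟩
  have ha'1 : a' ≠ 1 := by
    intro h; apply ha1
    have := congrArg Subtype.val h
    rw [ha'] at this; exact this
  have hb'1 : b' ≠ 1 := by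
    intro h; apply hb1
    have := congrArg Subtype.val h
    rw [hb'] at this; exact this
  have ha'2 : a' ^ 2 = 1 := by
    rw [ha', pow_two]; exact Subtype.ext ha2
  have hb'2 : b' ^ 2 = 1 := by
    rw [hb', pow_two]; exact Subtype.ext hb2
  have hab' : Commute a' b' := by
    rw [ha', hb']; exact Subtype.ext hab
  have hoa : orderOf a' = 2 := orderOf_eq_prime ha'2 ha'1
  have hob : orderOf b' = 2 := orderOf_eq_prime hb'2 hb'1
  have hPa : IsPGroup 2 (Subgroup.zpowers a') :=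
    IsPGroup.of_card (n := 1) (by rw [Nat.card_zpowers, hoa, pow_one])
  have hPb : IsPGroup 2 (Subgroup.zpowers b') :=
    IsPGroup.of_card (n := 1) (by rw [Nat.card_zpowers, hob, pow_one])
  have hle : Subgroup.zpowers b' ≤ Subgroup.normalizer ((Subgroup.zpowers a' : Subgroup ↥G) : Set ↥G) := by
    rw [Subgroup.zpowers_le]
    apply Subgroup.centralizer_le_normalizer
    rw [Subgroup.mem_centralizer_iff]
    intro h hh
    obtain ⟨k, rfl⟩ := Subgroup.mem_zpowers_iff.mp hh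
    exact (hab'.zpow_left k).eq
  have hK := IsPGroup.to_sup_of_normal_right' hPb hPa hle
  obtain ⟨k, hk⟩ := exists_conj_mem_sylow 2 T _ hK
  have h1 := hk a' (Subgroup.mem_sup_right (Subgroup.mem_zpowers a'))
  have h2 := hk b' (Subgroup.mem_sup_left (Subgroup.mem_zpowers b'))
  have h3 : k * a' * k⁻¹ = t := by
    rcases hT _ h1 with h | h
    · exfalso; apply ha'1
      calc a' = k⁻¹ * (k * a' * k⁻¹) * k := by group
        _ = 1 := by rw [h]; group
    · exact h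
  have h4 : k * b' * k⁻¹ = t := by
    rcases hT _ h2 with h | h
    · exfalso; apply hb'1
      calc b' = k⁻¹ * (k * b' * k⁻¹) * k := by group
        _ = 1 := by rw [h]; group
    · exact h
  apply hne
  have h5 : a' = b' := by
    calc a' = k⁻¹ * (k * a' * k⁻¹) * k := by group
      _ = k⁻¹ * (k * b' * k⁻¹) * k := by rw [h3, h4]
      _ = b' := by group
  rw [ha', hb'] at h5
  exact congrArg Subtype.val h5

variable {Ω : Type*} [Group Ω] {S : Subgroup Ω} [Finite S] [hp : Fact (Nat.Prime 2)]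

theorem Ctx_le_normalizer {A : Subgroup Ω} (C : Ctx 2 S A) :
    S ≤ Subgroup.normalizer (A : Set Ω) := by
  intro s hs
  rw [Subgroup.mem_normalizer_iff]
  intro h
  constructor
  · exact C.normal hs
  · intro hh
    have := C.normal' hs hh
    have h2 : s⁻¹ * (s * h * s⁻¹) * s = h := by group
    rwa [h2] at this

namespace C2

/-- commutators are `1` or `z` -/
theorem comm_cases (D : C2 2 S) {z : Ω} (hz : z ∈ (commutator ↥S).map S.subtype) (hz1 : z ≠ 1)
    {a b : Ω} (ha : a ∈ S) (hb : b ∈ S) : a * b * a⁻¹ * b⁻¹ = 1 ∨ a * b * a⁻¹ * b⁻¹ = z := by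
  have hcard := D.card_commutator
  have h1 := commutator_mem_map ha hb
  have h2 := (Nat.card_eq_two_iff' (⟨1, Subgroup.one_mem _⟩ :
    ↥((commutator ↥S).map S.subtype))).mp hcard
  obtain ⟨w, -, hw⟩ := h2
  by_cases h3 : a * b * a⁻¹ * b⁻¹ = 1
  · exact Or.inl h3
  · right
    have h4 := hw ⟨_, h1⟩ (fun h => h3 (congrArg Subtype.val h))
    have h5 := hw ⟨z, hz⟩ (fun h => hz1 (congrArg Subtype.val h))
    have h6 : (⟨_, h1⟩ : ↥((commutator ↥S).map S.subtype)) = ⟨z, hz⟩ := by rw [h4, h5]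
    exact congrArg Subtype.val h6

theorem z_sq (D : C2 2 S) {z : Ω} (hz : z ∈ (commutator ↥S).map S.subtype) : z * z = 1 := by
  haveI : Finite ↥((commutator ↥S).map S.subtype) :=
    fs_finite_of_le (le_trans D.commutator_le (ZS_le S))
  have h3 : (⟨z, hz⟩ : ↥((commutator ↥S).map S.subtype)) ^
      Nat.card ↥((commutator ↥S).map S.subtype) = 1 := pow_card_eq_one'
  rw [D.card_commutator, pow_two] at h3
  exact congrArg Subtype.val h3

/-- an element of `S` outside the abelian maximal subgroup `P` acts on `P` as a transvection -/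
theorem transv_of_not_mem (D : C2 2 S) {P : Subgroup Ω} {x₀ : Ω} (hx₀S : x₀ ∈ S)
    (hx₀Z : x₀ ∉ ZS S) (hPeq : P = ZS S ⊔ Subgroup.zpowers x₀) {z : Ω}
    (hz : z ∈ (commutator ↥S).map S.subtype) (hz1 : z ≠ 1) {n : Ω} (hn : n ∈ S) (hnP : n ∉ P)
    (hnN : n ∈ Subgroup.normalizer (P : Set Ω)) (hzP : z ∈ P) :
    Transv (P.normalizerMonoidHom ⟨n, hnN⟩) (⟨z, hzP⟩ : P) ((ZS S).subgroupOf P) := by
  have hzZ : z ∈ ZS S := D.commutator_le hz
  have hPS : P ≤ S := by
    rw [hPeq]; exact sup_le (ZS_le S) (by rw [Subgroup.zpowers_le]; exact hx₀S)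
  refine ⟨Subtype.ext (D.z_sq hz), fun h => hz1 (congrArg Subtype.val h), ?_, ?_, ?_, ?_⟩
  · rw [Subgroup.mem_subgroupOf]; exact hzZ
  · refine ⟨⟨x₀, ?_⟩, ?_⟩
    · rw [hPeq]; exact Subgroup.mem_sup_right (Subgroup.mem_zpowers x₀)
    · rw [Subgroup.mem_subgroupOf]; exact hx₀Z
  · intro h hh
    rw [Subgroup.mem_subgroupOf] at hh
    apply Subtype.ext
    show n * (h : Ω) * n⁻¹ = h
    rw [(mem_ZS_iff.mp hh).2 n hn, mul_inv_cancel_right]
  · intro h hh
    rw [Subgroup.mem_subgroupOf] at hh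
    apply Subtype.ext
    show n * (h : Ω) * n⁻¹ = h * z
    have hhS : (h : Ω) ∈ S := hPS h.2
    have hh2 : (h : Ω) ∈ ZS S ⊔ Subgroup.zpowers x₀ := by
      rw [← hPeq]; exact h.2
    have hPh : ZS S ⊔ Subgroup.zpowers (h : Ω) = P :=
      (D.sup_eq_of_mem hx₀S hx₀Z hhS hh hh2).trans hPeq.symm
    rcases D.comm_cases hz hz1 hn hhS with h1 | h1
    · exfalso
      have hnA : n ∉ ZS S ⊔ Subgroup.zpowers (h : Ω) := by rw [hPh]; exact hnP
      apply D.not_comm hhS hh hn hnA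
      calc n * (h : Ω) = (n * (h : Ω) * n⁻¹ * (h : Ω)⁻¹) * ((h : Ω) * n) := by group
        _ = (h : Ω) * n := by rw [h1, one_mul]
    · calc n * (h : Ω) * n⁻¹ = (n * (h : Ω) * n⁻¹ * (h : Ω)⁻¹) * (h : Ω) := by group
        _ = z * (h : Ω) := by rw [h1]
        _ = (h : Ω) * z := (mem_ZS_iff.mp hzZ).2 _ hhS |>.symm

set_option maxHeartbeats 1600000 in
/-- the automizer of an essential subgroup: transvection, conjugating element, extension -/
theorem exists_essData (D : C2 2 S) (F : FusionSystem S) (hF : F.IsSaturated 2)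
    {P : Subgroup Ω} (hP : F.IsEssential 2 P) {z : Ω}
    (hz : z ∈ (commutator ↥S).map S.subtype) (hz1 : z ≠ 1) :
    ∃ (hzP : z ∈ P) (t g : MulAut P),
      S3Data (F.autGroup P) t (⟨z, hzP⟩ : P) ((ZS S).subgroupOf P) g ∧
      (∀ c ∈ F.autGroup P, c * t = t * c → ∃ β ∈ F.autGroup S, ∀ (v : Ω) (hv : v ∈ ZS S),
        ((c ⟨v, ess_ZS_le F hP hv⟩ : P) : Ω) = ((β ⟨v, ZS_le S hv⟩ : S) : Ω)) := by
  have hS := D.hS
  have hPS := ess_le F hP
  have hZP := ess_ZS_le F hP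
  have hzZ : z ∈ ZS S := D.commutator_le hz
  have hzP : z ∈ P := hZP hzZ
  have hRn : F.IsFullyNormalized P := hP.2.1
  haveI : Finite P := fs_finite_of_le hPS
  obtain ⟨x₀, hx₀P, hx₀Z, hPeq⟩ := D.ess_facts F hF hP
  have hx₀S := hPS hx₀P
  have hne := ess_ne 2 hS F hF hP
  obtain ⟨y, hyS, hyP⟩ : ∃ y ∈ S, y ∉ P := by
    by_contra hcon
    push Not at hcon
    exact hne (le_antisymm hPS hcon)
  have C : Ctx 2 S P := hPeq ▸ D.ctx hx₀S hx₀Z
  have hSN : S ≤ Subgroup.normalizer (P : Set Ω) := Ctx_le_normalizer C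
  have hcommP : ∀ a b : P, a * b = b * a := fun a b => Subtype.ext (C.hcomm a a.2 b b.2)
  obtain ⟨t, htdef⟩ : ∃ t : MulAut P, t = P.normalizerMonoidHom ⟨y, hSN hyS⟩ := ⟨_, rfl⟩
  have hT : Transv t (⟨z, hzP⟩ : P) ((ZS S).subgroupOf P) := by
    rw [htdef]
    exact D.transv_of_not_mem hx₀S hx₀Z hPeq hz hz1 hyS hyP (hSN hyS) hzP
  have hall : ∀ n ∈ S, n ∉ P → ∀ hn : n ∈ Subgroup.normalizer (P : Set Ω),
      P.normalizerMonoidHom ⟨n, hn⟩ = t := by
    intro n hn hnP hnN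
    exact (D.transv_of_not_mem hx₀S hx₀Z hPeq hz hz1 hn hnP hnN hzP).ext_aut hT
  have hin : ∀ n ∈ P, ∀ hn : n ∈ Subgroup.normalizer (P : Set Ω),
      P.normalizerMonoidHom ⟨n, hn⟩ = 1 := by
    intro n hn hnN
    ext x
    show n * (x : Ω) * n⁻¹ = x
    rw [C.hcomm n hn x x.2, mul_inv_cancel_right]
  have htS : t ∈ autInducedBy S P := by
    rw [mem_autInducedBy_iff]
    exact ⟨y, hyS, fun x => by rw [htdef]; rfl⟩
  have htG : t ∈ F.autGroup P := autInducedBy_le_autGroup F hPS htS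
  obtain ⟨T₀, hT₀, M, hMtop, hMem⟩ := ess_sylow_data 2 hS F hF hP
  have htT : (⟨t, htG⟩ : F.autGroup P) ∈ (T₀ : Subgroup (F.autGroup P)) := by
    rw [hT₀, Subgroup.mem_subgroupOf]; exact htS
  have hT₀el : ∀ q ∈ (T₀ : Subgroup (F.autGroup P)), q = 1 ∨ q = ⟨t, htG⟩ := by
    intro q hq
    rw [hT₀, Subgroup.mem_subgroupOf, mem_autInducedBy_iff] at hq
    obtain ⟨n, hn, Hn⟩ := hq
    have hq' : (q : MulAut P) = P.normalizerMonoidHom ⟨n, hSN hn⟩ := by
      ext x
      rw [Hn x]; rfl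
    by_cases hnP : n ∈ P
    · left
      apply Subtype.ext
      rw [hq', hin n hnP]; rfl
    · right
      apply Subtype.ext
      rw [hq', hall n hn hnP]
  have hV : NoV4 (F.autGroup P) := noV4_of_sylow (F.autGroup P) T₀ ⟨t, htG⟩ hT₀el
  obtain ⟨g, hg⟩ : ∃ g : F.autGroup P, g ∉ M := by
    by_contra hcon
    push Not at hcon
    exact hMtop (eq_top_iff.mpr (fun g _ => hcon g))
  have hgne : (g : MulAut P) * t * (g : MulAut P)⁻¹ ≠ t := by
    intro h
    apply hg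
    apply hMem g ⟨t, htG⟩ htT
    · rintro ⟨u, hu⟩
      apply hT.ne_one
      have hu' : MulAut.conj u = t := hu
      rw [← hu']
      ext x
      show ((u * x * u⁻¹ : P) : Ω) = x
      rw [hcommP u x, mul_inv_cancel_right]
    · have h2 : g * ⟨t, htG⟩ * g⁻¹ = (⟨t, htG⟩ : F.autGroup P) := Subtype.ext h
      rw [h2]; exact htT
  refine ⟨hzP, t, (g : MulAut P), ⟨hcommP, hV, htG, hT, g.2, hgne⟩, ?_⟩
  -- extension of the centralizer of `t`
  intro c hc hct
  obtain ⟨ψ, hψF, hψ⟩ := ext_normalizer hS F hF hRn (α := c) hc (by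
    intro n hnS hnN
    refine ⟨n, hnS, fun x => ?_⟩
    by_cases hnP : n ∈ P
    · rw [hin n hnP hnN]
      show ((c x : P) : Ω) = n * (c x : P) * n⁻¹
      rw [C.hcomm n hnP _ (c x).2, mul_inv_cancel_right]
    · rw [hall n hnS hnP hnN]
      have h1 : c (t x) = t (c x) := by
        have := congrArg (fun f : MulAut P => f x) hct
        exact this
      rw [h1, ← hall n hnS hnP hnN]
      rfl)
  have hRN : P ≤ normalizerIn S P := le_inf hPS Subgroup.le_normalizer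
  have hNna : ∃ a ∈ normalizerIn S P, ∃ b ∈ normalizerIn S P, a * b ≠ b * a := by
    refine ⟨y, ⟨hyS, hSN hyS⟩, x₀, hRN hx₀P, ?_⟩
    have hyA : y ∉ ZS S ⊔ Subgroup.zpowers x₀ := by rw [← hPeq]; exact hyP
    exact D.not_comm hx₀S hx₀Z hyS hyA
  obtain ⟨β, hβF, hβ⟩ := hom_ZS_eq C hS F hF hψF hNna
  refine ⟨β, hβF, fun v hv => ?_⟩
  rw [← hβ v hv (hRN (hZP hv))]
  exact (hψ v (hZP hv) (hRN (hZP hv))).symm

end C2

end Cfsg.Agent.Lib.Helper9.H9C2
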