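import Mathlib
import Cfsg.Prelude
import Cfsg.Agent.Lib.Helper9.C2f

set_option autoImplicit false

/-!
# `2`-groups whose centre has index `4`: properties of an essential subgroup
-/

namespace Cfsg.Agent.Lib.Helper9.H9C2

open Cfsg Cfsg.FusionSystem Cfsg.Agent.Lib.Helper9 Cfsg.Agent.Lib.Helper9.H9AbIdx

variable {Ω : Type*} [Group Ω] {S : Subgroup Ω} [Finite S] [hp : Fact (Nat.Prime 2)]

/-- the elements of `Z(S)` whose orbit under `Aut_F(P)` stays in `Z(S)` -/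
def orbZ (F : FusionSystem S) (P : Subgroup Ω) (hZP : ZS S ≤ P) : Subgroup Ω where
  carrier := {h | ∃ hh : h ∈ ZS S, ∀ k ∈ F.autGroup P, ((k ⟨h, hZP hh⟩ : P) : Ω) ∈ ZS S}
  mul_mem' := by
    rintro a b ⟨ha, ha'⟩ ⟨hb, hb'⟩
    refine ⟨(ZS S).mul_mem ha hb, fun k hk => ?_⟩
    have h1 : (⟨a * b, hZP ((ZS S).mul_mem ha hb)⟩ : P) = ⟨a, hZP ha⟩ * ⟨b, hZP hb⟩ := rfl
    rw [h1, map_mul, Subgroup.coe_mul]
    exact (ZS S).mul_mem (ha' k hk) (hb' k hk)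
  one_mem' := by
    refine ⟨(ZS S).one_mem, fun k _ => ?_⟩
    have h1 : (⟨1, hZP (ZS S).one_mem⟩ : P) = 1 := rfl
    rw [h1, map_one]
    exact (ZS S).one_mem
  inv_mem' := by
    rintro a ⟨ha, ha'⟩
    refine ⟨(ZS S).inv_mem ha, fun k hk => ?_⟩
    have h1 : (⟨a⁻¹, hZP ((ZS S).inv_mem ha)⟩ : P) = (⟨a, hZP ha⟩ : P)⁻¹ := rfl
    rw [h1, map_inv, Subgroup.coe_inv]
    exact (ZS S).inv_mem (ha' k hk)

theorem mem_orbZ_iff (F : FusionSystem S) (P : Subgroup Ω) (hZP : ZS S ≤ P) (h : Ω) :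
    h ∈ orbZ F P hZP ↔
      ∃ hh : h ∈ ZS S, ∀ k ∈ F.autGroup P, ((k ⟨h, hZP hh⟩ : P) : Ω) ∈ ZS S := Iff.rfl

theorem orbZ_le (F : FusionSystem S) (P : Subgroup Ω) (hZP : ZS S ≤ P) : orbZ F P hZP ≤ ZS S :=
  fun _ h => h.1

/-- `Aut_F(P)` preserves `orbZ` -/
theorem orbZ_invariant (F : FusionSystem S) (P : Subgroup Ω) (hZP : ZS S ≤ P) {v : Ω}
    (hv : v ∈ orbZ F P hZP) {k : MulAut P} (hk : k ∈ F.autGroup P) :
    ((k ⟨v, hZP hv.1⟩ : P) : Ω) ∈ orbZ F P hZP := by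
  obtain ⟨hvZ, hv'⟩ := hv
  refine ⟨hv' k hk, fun k' hk' => ?_⟩
  have h1 := hv' (k' * k) ((F.autGroup P).mul_mem hk' hk)
  exact h1

namespace C2

set_option maxHeartbeats 1600000 in
/-- the properties of an essential subgroup -/
theorem ess_props (D : C2 2 S) (F : FusionSystem S) (hF : F.IsSaturated 2)
    {P : Subgroup Ω} (hP : F.IsEssential 2 P) {z : Ω}
    (hz : z ∈ (commutator ↥S).map S.subtype) (hz1 : z ≠ 1) :
    ∃ w : Ω, w ∈ P ∧ w ∉ ZS S ∧ w * w = 1 ∧ (∀ c ∈ ZS S, c * c ≠ z) ∧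
      (∀ k ∈ F.autGroup P, ∀ u : P, ((u : Ω) = z ∨ (u : Ω) = w) →
        (((k u : P) : Ω) = z ∨ ((k u : P) : Ω) = w ∨ ((k u : P) : Ω) = w * z)) ∧
      (∀ (v : Ω) (hv : v ∈ orbZ F P (ess_ZS_le F hP)), ∀ k ∈ F.autGroup P,
        ∃ β ∈ F.autGroup S, ((k ⟨v, ess_ZS_le F hP hv.1⟩ : P) : Ω) =
          ((β ⟨v, ZS_le S hv.1⟩ : S) : Ω)) ∧
      (∀ h ∈ ZS S, h ∈ orbZ F P (ess_ZS_le F hP) ∨ h * z ∈ orbZ F P (ess_ZS_le F hP)) ∧
      (∀ x ∈ P, ∃ u : Ω, (u = 1 ∨ u = z ∨ u = w ∨ u = w * z) ∧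
        x * u ∈ orbZ F P (ess_ZS_le F hP)) := by
  have hZP := ess_ZS_le F hP
  obtain ⟨hzP, t, g, X, hext⟩ := D.exists_essData F hF hP hz hz1
  obtain ⟨hnm1, hnm2⟩ := X.not_mem
  obtain ⟨w', hw'def⟩ : ∃ w' : P, w' = g ⟨z, hzP⟩ := ⟨_, rfl⟩
  -- membership in `orbZ` in terms of the two axes
  have horb : ∀ (v : Ω) (hvZ : v ∈ ZS S),
      (⟨v, hZP hvZ⟩ : P) ∈ ((ZS S).subgroupOf P).map g.toMonoidHom → v ∈ orbZ F P hZP := by
    intro v hvZ hv'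
    refine ⟨hvZ, fun k hk => ?_⟩
    have h1 := X.orbit_mem (h := ⟨v, hZP hvZ⟩) (by rw [Subgroup.mem_subgroupOf]; exact hvZ) hv' hk
    rw [Subgroup.mem_subgroupOf] at h1
    exact h1
  have horb' : ∀ (v : Ω) (hv : v ∈ orbZ F P hZP),
      (⟨v, hZP hv.1⟩ : P) ∈ ((ZS S).subgroupOf P).map g.toMonoidHom := by
    intro v hv
    have h1 := X.mem_of_orbit (h := ⟨v, hZP hv.1⟩) (fun k hk => by
      rw [Subgroup.mem_subgroupOf]; exact hv.2 k hk)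
    exact h1.2
  refine ⟨(w' : Ω), w'.2, ?_, ?_, ?_, ?_, ?_, ?_, ?_⟩
  · intro h
    apply hnm2
    rw [Subgroup.mem_subgroupOf, ← hw'def]
    exact h
  · have h1 := X.T'.hz2
    rw [← hw'def] at h1
    exact congrArg Subtype.val h1
  · intro c hc hcc
    have hc' : (⟨c, hZP hc⟩ : P) ∈ (ZS S).subgroupOf P := by
      rw [Subgroup.mem_subgroupOf]; exact hc
    have hsq : (⟨c, hZP hc⟩ : P) * ⟨c, hZP hc⟩ = ⟨z, hzP⟩ := Subtype.ext hcc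
    rcases X.index_two hc' with h1 | h1
    · apply hnm1
      rw [← hsq]
      exact Subgroup.mul_mem _ h1 h1
    · apply hnm1
      have h2 : (⟨c, hZP hc⟩ * ⟨z, hzP⟩ : P) * (⟨c, hZP hc⟩ * ⟨z, hzP⟩) = ⟨z, hzP⟩ := by
        calc (⟨c, hZP hc⟩ * ⟨z, hzP⟩ : P) * (⟨c, hZP hc⟩ * ⟨z, hzP⟩)
            = ⟨c, hZP hc⟩ * (⟨z, hzP⟩ * ⟨c, hZP hc⟩) * ⟨z, hzP⟩ := by group
          _ = ⟨c, hZP hc⟩ * (⟨c, hZP hc⟩ * ⟨z, hzP⟩) * ⟨z, hzP⟩ := by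
            rw [X.hcomm ⟨z, hzP⟩ ⟨c, hZP hc⟩]
          _ = (⟨c, hZP hc⟩ * ⟨c, hZP hc⟩) * (⟨z, hzP⟩ * ⟨z, hzP⟩) := by group
          _ = ⟨z, hzP⟩ := by rw [hsq, X.T.hz2, mul_one]
      rw [← h2]
      exact Subgroup.mul_mem _ h1 h1
  · intro k hk u hu
    have key : ∀ k' ∈ F.autGroup P, ((k' ⟨z, hzP⟩ : P) : Ω) = z ∨
        ((k' ⟨z, hzP⟩ : P) : Ω) = w' ∨ ((k' ⟨z, hzP⟩ : P) : Ω) = w' * z := by
      intro k' hk'
      rcases X.orbit_center hk' with h1 | h1 | h1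
      · left; rw [h1]
      · right; left; rw [h1, ← hw'def]
      · right; right; rw [h1, ← hw'def]; rfl
    rcases hu with hu | hu
    · have h1 : u = ⟨z, hzP⟩ := Subtype.ext hu
      rw [h1]
      exact key k hk
    · have h1 : u = g ⟨z, hzP⟩ := by
        apply Subtype.ext
        rw [hu, hw'def]
      rw [h1]
      exact key (k * g) ((F.autGroup P).mul_mem hk X.hg)
  · intro v hv k hk
    have hvZ' : (⟨v, hZP hv.1⟩ : P) ∈ (ZS S).subgroupOf P := by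
      rw [Subgroup.mem_subgroupOf]; exact hv.1
    obtain ⟨c, hc, hct, hkv⟩ := X.exists_centralizing hk hvZ' (horb' v hv)
    obtain ⟨β, hβ, hβv⟩ := hext c hc hct
    refine ⟨β, hβ, ?_⟩
    rw [hkv]
    exact hβv v hv.1
  · intro h hh
    have hh' : (⟨h, hZP hh⟩ : P) ∈ (ZS S).subgroupOf P := by
      rw [Subgroup.mem_subgroupOf]; exact hh
    have hzZ : z ∈ ZS S := D.commutator_le hz
    rcases X.index_two hh' with h1 | h1
    · exact Or.inl (horb h hh h1)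
    · exact Or.inr (horb (h * z) ((ZS S).mul_mem hh hzZ) h1)
  · intro x hx
    obtain ⟨w₀, hw₀, h1, h2⟩ := X.exists_rep ⟨x, hx⟩
    rw [Subgroup.mem_subgroupOf] at h1
    refine ⟨(w₀ : Ω), ?_, horb _ h1 h2⟩
    rcases hw₀ with h | h | h | h
    · left; rw [h]; rfl
    · right; left; rw [h]
    · right; right; left; rw [h, hw'def]
    · right; right; right; rw [h, hw'def]; rfl

end C2

end Cfsg.Agent.Lib.Helper9.H9C2
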