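import Mathlib
import Cfsg.Prelude
import Cfsg.Agent.Lib.Helper9.C2g

set_option autoImplicit false

/-!
# `2`-groups whose centre has index `4`: involutions and the action of `Aut_F(S)`
-/

namespace Cfsg.Agent.Lib.Helper9.H9C2

open Cfsg Cfsg.FusionSystem Cfsg.Agent.Lib.Helper9 Cfsg.Agent.Lib.Helper9.H9AbIdx

variable {Ω : Type*} [Group Ω] {S : Subgroup Ω} [Finite S] [hp : Fact (Nat.Prime 2)]

/-- restriction of an automorphism of `S` stabilizing `P` -/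
theorem exists_restrict (F : FusionSystem S) {P : Subgroup Ω} (hPS : P ≤ S) {β : MulAut S}
    (hβ : β ∈ F.autGroup S) (hstab : ∀ x : S, (x : Ω) ∈ P ↔ ((β x : S) : Ω) ∈ P) :
    ∃ b ∈ F.autGroup P, ∀ x : P, ((b x : P) : Ω) = ((β ⟨x, hPS x.2⟩ : S) : Ω) := by
  let b : P ≃* P :=
    { toFun := fun x => ⟨β ⟨x, hPS x.2⟩, (hstab _).mp x.2⟩
      invFun := fun y => ⟨β⁻¹ ⟨y, hPS y.2⟩, (hstab _).mpr (by
        rw [MulAut.apply_inv_self]; exact y.2)⟩
      left_inv := by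
        intro x
        apply Subtype.ext
        show ((β⁻¹ (β ⟨x, hPS x.2⟩) : S) : Ω) = x
        rw [MulAut.inv_apply_self]
      right_inv := by
        intro y
        apply Subtype.ext
        show ((β (β⁻¹ ⟨y, hPS y.2⟩) : S) : Ω) = y
        rw [MulAut.apply_inv_self]
      map_mul' := by
        intro x y
        apply Subtype.ext
        show ((β (⟨x, hPS x.2⟩ * ⟨y, hPS y.2⟩) : S) : Ω) = _
        rw [map_mul]
        rfl }
  refine ⟨b, ?_, fun x => rfl⟩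
  rw [mem_autGroup_iff F hPS]
  have hβ' := (mem_autGroup_iff F le_rfl β).mp hβ
  have h1 := fs_restrict_mem F hβ' hPS
  have h2 : (S.subtype.comp β.toMonoidHom).comp (Subgroup.inclusion hPS) =
      P.subtype.comp b.toMonoidHom := by
    ext x
    rfl
  rw [← h2]
  exact h1

namespace C2

theorem mem_sup_iff (D : C2 2 S) {w x : Ω} (hwS : w ∈ S) (hwZ : w ∉ ZS S) (hxS : x ∈ S) :
    x ∈ ZS S ⊔ Subgroup.zpowers w ↔ x * w = w * x := by
  constructor
  · intro h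
    exact abelian_sup hwS x h w (Subgroup.mem_sup_right (Subgroup.mem_zpowers w))
  · exact D.mem_sup_of_comm hwS hwZ hxS

/-- there are no three pairwise non-commuting involutions when `z` is not a square in `Z(S)` -/
theorem no_three (D : C2 2 S) {z : Ω} (hz : z ∈ (commutator ↥S).map S.subtype) (hz1 : z ≠ 1)
    (hsq : ∀ c ∈ ZS S, c * c ≠ z) {w₁ w₂ w₃ : Ω} (h₁ : w₁ ∈ S) (h₂ : w₂ ∈ S) (h₃ : w₃ ∈ S)
    (s₁ : w₁ * w₁ = 1) (s₂ : w₂ * w₂ = 1) (s₃ : w₃ * w₃ = 1) (n₁₂ : w₁ * w₂ ≠ w₂ * w₁)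
    (n₁₃ : w₁ * w₃ ≠ w₃ * w₁) (n₂₃ : w₂ * w₃ ≠ w₃ * w₂) : False := by
  have hzZ : z ∈ ZS S := D.commutator_le hz
  have hzc : ∀ s ∈ S, s * z = z * s := (mem_ZS_iff.mp hzZ).2
  have hzz : z * z = 1 := D.z_sq hz
  have swap : ∀ a ∈ S, ∀ b ∈ S, a * a = 1 → b * b = 1 → a * b ≠ b * a → b * a = a * b * z := by
    intro a ha b hb sa sb hab
    have hai : a⁻¹ = a := inv_eq_of_mul_eq_one_left sa
    have hbi : b⁻¹ = b := inv_eq_of_mul_eq_one_left sb
    rcases D.comm_cases hz hz1 ha hb with h | h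
    · exfalso
      apply hab
      calc a * b = (a * b * a⁻¹ * b⁻¹) * (b * a) := by group
        _ = b * a := by rw [h, one_mul]
    · rw [hai, hbi] at h
      calc b * a = (a * a) * (b * a) * (b * b) := by rw [sa, sb, one_mul, mul_one]
        _ = a * (a * b * a * b) * b := by group
        _ = a * z * b := by rw [h]
        _ = a * (z * b) := by group
        _ = a * (b * z) := by rw [hzc b hb]
        _ = a * b * z := by group
  have e21 := swap w₁ h₁ w₂ h₂ s₁ s₂ n₁₂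
  have e31 := swap w₁ h₁ w₃ h₃ s₁ s₃ n₁₃
  have e32 := swap w₂ h₂ w₃ h₃ s₂ s₃ n₂₃
  obtain ⟨c, hcdef⟩ : ∃ c : Ω, c = w₁ * w₂ * w₃ := ⟨_, rfl⟩
  have hcS : c ∈ S := by rw [hcdef]; exact S.mul_mem (S.mul_mem h₁ h₂) h₃
  have hc1 : c * w₁ = w₁ * c := by
    rw [hcdef]
    calc w₁ * w₂ * w₃ * w₁ = w₁ * w₂ * (w₃ * w₁) := by group
      _ = w₁ * w₂ * (w₁ * w₃ * z) := by rw [e31]
      _ = w₁ * (w₂ * w₁) * w₃ * z := by group
      _ = w₁ * (w₁ * w₂ * z) * w₃ * z := by rw [e21]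
      _ = (w₁ * w₁) * w₂ * (z * w₃) * z := by group
      _ = (w₁ * w₁) * w₂ * (w₃ * z) * z := by rw [hzc w₃ h₃]
      _ = (w₁ * w₁) * w₂ * w₃ * (z * z) := by group
      _ = w₁ * (w₁ * w₂ * w₃) := by rw [hzz, mul_one]; group
  have hc2 : c * w₂ = w₂ * c := by
    rw [hcdef]
    calc w₁ * w₂ * w₃ * w₂ = w₁ * w₂ * (w₃ * w₂) := by group
      _ = w₁ * w₂ * (w₂ * w₃ * z) := by rw [e32]
      _ = w₁ * (w₂ * w₂) * w₃ * z := by group
      _ = w₁ * w₃ * z := by rw [s₂, mul_one]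
      _ = w₁ * (w₃ * z) := by group
      _ = w₁ * (z * w₃) := by rw [hzc w₃ h₃]
      _ = (w₁ * z) * (w₂ * w₂) * w₃ := by rw [s₂, mul_one]; group
      _ = (w₁ * (z * w₂)) * w₂ * w₃ := by group
      _ = (w₁ * (w₂ * z)) * w₂ * w₃ := by rw [hzc w₂ h₂]
      _ = (w₁ * w₂ * z) * w₂ * w₃ := by group
      _ = (w₂ * w₁) * w₂ * w₃ := by rw [← e21]
      _ = w₂ * (w₁ * w₂ * w₃) := by group
  have hw₁Z : w₁ ∉ ZS S := fun h => n₁₂ ((mem_ZS_iff.mp h).2 w₂ h₂).symm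
  have hw₂A : w₂ ∉ ZS S ⊔ Subgroup.zpowers w₁ := by
    intro h
    exact n₁₂ ((D.mem_sup_iff h₁ hw₁Z h₂).mp h).symm
  have C := D.ctx h₁ hw₁Z
  have hle : S ≤ Subgroup.centralizer {c} := by
    apply C.le_of_gens h₂ hw₂A
    · apply sup_le
      · intro a ha
        rw [Subgroup.mem_centralizer_singleton_iff]
        exact ((mem_ZS_iff.mp ha).2 c hcS).symm
      · rw [Subgroup.zpowers_le, Subgroup.mem_centralizer_singleton_iff]
        exact hc1.symm
    · rw [Subgroup.mem_centralizer_singleton_iff]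
      exact hc2.symm
  have hcZ : c ∈ ZS S := by
    rw [mem_ZS_iff]
    refine ⟨hcS, fun s hs => ?_⟩
    have := hle hs
    rw [Subgroup.mem_centralizer_singleton_iff] at this
    exact this
  apply hsq c hcZ
  have hc3 : c * w₃ = w₃ * c := ((mem_ZS_iff.mp hcZ).2 w₃ h₃).symm
  have hw₁i : w₁⁻¹ = w₁ := inv_eq_of_mul_eq_one_left s₁
  have hw₂i : w₂⁻¹ = w₂ := inv_eq_of_mul_eq_one_left s₂
  have h12 : w₁ * w₂ * w₁ * w₂ = z := by
    rcases D.comm_cases hz hz1 h₁ h₂ with h | h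
    · exfalso
      apply n₁₂
      calc w₁ * w₂ = (w₁ * w₂ * w₁⁻¹ * w₂⁻¹) * (w₂ * w₁) := by group
        _ = w₂ * w₁ := by rw [h, one_mul]
    · rw [hw₁i, hw₂i] at h
      exact h
  calc c * c = (w₁ * w₂ * w₃) * c := by rw [← hcdef]
    _ = w₁ * w₂ * (w₃ * c) := by group
    _ = w₁ * w₂ * (c * w₃) := by rw [hc3]
    _ = w₁ * w₂ * (w₁ * w₂ * w₃ * w₃) := by rw [hcdef]
    _ = (w₁ * w₂ * w₁ * w₂) * (w₃ * w₃) := by group
    _ = z := by rw [h12, s₃, mul_one]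

/-- automorphisms of `S` stabilizing the centralizer of `w` -/
def stabW (S : Subgroup Ω) (w : Ω) : Subgroup (MulAut S) where
  carrier := {γ | ∀ x : S, (x : Ω) * w = w * x ↔ ((γ x : S) : Ω) * w = w * (γ x : S)}
  mul_mem' := by
    intro a b ha hb x
    rw [MulAut.mul_apply]
    exact (hb x).trans (ha (b x))
  one_mem' := fun x => Iff.rfl
  inv_mem' := by
    intro a ha x
    have h1 := ha (a⁻¹ x)
    rw [MulAut.apply_inv_self] at h1
    exact h1.symm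

theorem mem_stabW_iff (S : Subgroup Ω) (w : Ω) (γ : MulAut S) : γ ∈ stabW S w ↔
    ∀ x : S, (x : Ω) * w = w * x ↔ ((γ x : S) : Ω) * w = w * (γ x : S) := Iff.rfl

/-- an automorphism whose value at `w` commutes with `w` stabilizes the centralizer of `w` -/
theorem mem_stabW_of_comm (D : C2 2 S) {w : Ω} (hwS : w ∈ S) (hwZ : w ∉ ZS S) (γ : MulAut S)
    (h : ((γ ⟨w, hwS⟩ : S) : Ω) * w = w * (γ ⟨w, hwS⟩ : S)) : γ ∈ stabW S w := by
  obtain ⟨s₀, hs₀, t₀, ht₀, hst₀⟩ := D.hna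
  have hs₀Z : s₀ ∉ ZS S := fun h => hst₀ ((mem_ZS_iff.mp h).2 t₀ ht₀).symm
  have C₀ := D.ctx hs₀ hs₀Z
  obtain ⟨w', hw'def⟩ : ∃ w' : S, w' = γ ⟨w, hwS⟩ := ⟨_, rfl⟩
  rw [← hw'def] at h
  have hw'Z : (w' : Ω) ∉ ZS S := by
    intro hcon
    apply hwZ
    have h1 := C₀.autS_ZS_mem γ⁻¹ hcon
    have h2 : (⟨(w' : Ω), ZS_le S hcon⟩ : S) = w' := rfl
    rw [h2, hw'def, MulAut.inv_apply_self] at h1
    exact h1
  have hw'A : (w' : Ω) ∈ ZS S ⊔ Subgroup.zpowers w := (D.mem_sup_iff hwS hwZ w'.2).mpr h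
  have hAeq := D.sup_eq_of_mem hwS hwZ w'.2 hw'Z hw'A
  intro x
  have hcomm_iff : (x : Ω) * w = w * x ↔ ((γ x : S) : Ω) * w' = w' * (γ x : S) := by
    constructor
    · intro h1
      have h2 : x * (⟨w, hwS⟩ : S) = ⟨w, hwS⟩ * x := Subtype.ext h1
      have h3 := congrArg (fun y : S => ((γ y : S) : Ω)) h2
      simp only [map_mul, Subgroup.coe_mul] at h3
      rw [hw'def]
      exact h3
    · intro h1
      rw [hw'def] at h1
      have h2 : γ x * γ ⟨w, hwS⟩ = γ ⟨w, hwS⟩ * γ x := Subtype.ext h1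
      rw [← map_mul, ← map_mul] at h2
      have h3 := γ.injective h2
      exact congrArg Subtype.val h3
  rw [hcomm_iff, ← D.mem_sup_iff w'.2 hw'Z (γ x).2, hAeq, D.mem_sup_iff hwS hwZ (γ x).2]

set_option maxHeartbeats 800000 in
/-- `Aut_F(S)` stabilizes the centralizer of every noncentral involution -/
theorem aut_mem_stabW (D : C2 2 S) (F : FusionSystem S) (hF : F.IsSaturated 2) {z : Ω}
    (hz : z ∈ (commutator ↥S).map S.subtype) (hz1 : z ≠ 1) (hsq : ∀ c ∈ ZS S, c * c ≠ z)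
    {β : MulAut S} (hβ : β ∈ F.autGroup S) {w : Ω} (hwS : w ∈ S) (hwZ : w ∉ ZS S)
    (hw2 : w * w = 1) : β ∈ stabW S w := by
  have hS := D.hS
  have hzZ : z ∈ ZS S := D.commutator_le hz
  -- inner automorphisms
  have hinn : ∀ s : S, MulAut.conj s ∈ stabW S w := by
    intro s
    apply D.mem_stabW_of_comm hwS hwZ
    show (s : Ω) * w * (s : Ω)⁻¹ * w = w * ((s : Ω) * w * (s : Ω)⁻¹)
    rcases D.comm_cases hz hz1 s.2 hwS with h | h
    · have h1 : (s : Ω) * w * (s : Ω)⁻¹ = w := by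
        calc (s : Ω) * w * (s : Ω)⁻¹ = ((s : Ω) * w * (s : Ω)⁻¹ * w⁻¹) * w := by group
          _ = w := by rw [h, one_mul]
      rw [h1]
    · have h1 : (s : Ω) * w * (s : Ω)⁻¹ = z * w := by
        calc (s : Ω) * w * (s : Ω)⁻¹ = ((s : Ω) * w * (s : Ω)⁻¹ * w⁻¹) * w := by group
          _ = z * w := by rw [h]
      rw [h1, ← mul_assoc w z w, (mem_ZS_iff.mp hzZ).2 w hwS]
  -- the index of `Inn(S)` in `Aut_F(S)` is odd
  have hfn : F.IsFullyNormalized S := isFullyNormalized_self F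
  obtain ⟨-, -, T, hT⟩ := fs_sylow_axiom 2 hS F hF hfn
  rw [autInducedBy_self_eq_inn] at hT
  have hN : ((Inn S).subgroupOf (F.autGroup S)).Normal := inferInstance
  have hβm : β ^ ((T : Subgroup (F.autGroup S)).index) ∈ stabW S w := by
    haveI : (T : Subgroup (F.autGroup S)).Normal := by rw [hT]; exact hN
    have h3 := Subgroup.pow_index_mem (T : Subgroup (F.autGroup S)) (⟨β, hβ⟩ : F.autGroup S)
    generalize (T : Subgroup (F.autGroup S)).index = m at h3 ⊢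
    rw [hT, Subgroup.mem_subgroupOf] at h3
    obtain ⟨s, hs⟩ := h3
    have h4 : β ^ m = MulAut.conj s := by rw [hs]; rfl
    rw [h4]
    exact hinn s
  have hcop : Nat.Coprime 2 ((T : Subgroup (F.autGroup S)).index) :=
    (Nat.Prime.coprime_iff_not_dvd hp.out).mpr T.not_dvd_index
  by_cases hc : ((β ⟨w, hwS⟩ : S) : Ω) * w = w * (β ⟨w, hwS⟩ : S)
  · exact D.mem_stabW_of_comm hwS hwZ β hc
  · -- `β²` stabilizes
    have hβ2 : β ^ 2 ∈ stabW S w := by
      apply D.mem_stabW_of_comm hwS hwZ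
      by_contra hc2
      obtain ⟨w₂, hw₂def⟩ : ∃ w₂ : S, w₂ = β ⟨w, hwS⟩ := ⟨_, rfl⟩
      obtain ⟨w₃, hw₃def⟩ : ∃ w₃ : S, w₃ = β w₂ := ⟨_, rfl⟩
      have h3 : (β ^ 2) ⟨w, hwS⟩ = w₃ := by
        rw [pow_two, MulAut.mul_apply, hw₃def, hw₂def]
      rw [h3] at hc2
      rw [← hw₂def] at hc
      have s₂ : (w₂ : Ω) * w₂ = 1 := by
        have h4 : (⟨w, hwS⟩ : S) * ⟨w, hwS⟩ = 1 := Subtype.ext hw2
        have h5 := congrArg (fun y : S => ((β y : S) : Ω)) h4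
        simp only [map_mul, map_one, Subgroup.coe_mul] at h5
        rw [hw₂def]
        exact h5
      have s₃ : (w₃ : Ω) * w₃ = 1 := by
        have h4 : w₂ * w₂ = 1 := Subtype.ext s₂
        have h5 := congrArg (fun y : S => ((β y : S) : Ω)) h4
        simp only [map_mul, map_one, Subgroup.coe_mul] at h5
        rw [hw₃def]
        exact h5
      have n₂₃ : (w₂ : Ω) * w₃ ≠ w₃ * w₂ := by
        intro h4
        apply hc
        have h5 : β ⟨w, hwS⟩ * β w₂ = β w₂ * β ⟨w, hwS⟩ := by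
          rw [← hw₂def, ← hw₃def]; exact Subtype.ext h4
        rw [← map_mul, ← map_mul] at h5
        have h6 := β.injective h5
        have h7 := congrArg Subtype.val h6
        exact h7.symm
      exact D.no_three hz hz1 hsq hwS w₂.2 w₃.2 hw2 s₂ s₃ (fun h => hc h.symm)
        (fun h => hc2 h.symm) n₂₃
    exact mem_of_pow_mem_of_coprime (stabW S w) hβ2 hβm hcop

end C2

end Cfsg.Agent.Lib.Helper9.H9C2
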