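import Mathlib
import Cfsg.Prelude
import Cfsg.Agent.Lib.Helper9.C2h
import Cfsg.Agent.Lib.Helper9.FusionFocal
import Cfsg.Agent.Lib.Helper9.FusionAG3

set_option autoImplicit false

/-!
# `2`-groups whose centre has index `4`: hyperfocal bound and essential data
-/

namespace Cfsg.Agent.Lib.Helper9.H9C2

open Cfsg Cfsg.FusionSystem Cfsg.Agent.Lib.Helper9 Cfsg.Agent.Lib.Helper9.H9AbIdx

variable {Ω : Type*} [Group Ω] {S : Subgroup Ω} [Finite S]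

/-- a bound for the hyperfocal subgroup from the automizers of `S` and the essential subgroups -/
theorem hyperfocal_le (p : ℕ) [Fact p.Prime] (hS : IsPGroup p S) (F : FusionSystem S)
    (hF : F.IsSaturated p) (K : Subgroup Ω) (hK : ⁅S, S⁆ ≤ K)
    (h : ∀ P : Subgroup Ω, (P = S ∨ F.IsEssential p P) → ∀ α ∈ F.autGroup P, ∀ x : P,
      (x : Ω)⁻¹ * ((α x : P) : Ω) ∈ K) : F.hyperfocalSubgroup p ≤ K := by
  have hle : F ≤ focalSystem F K hK := by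
    apply fs_alperin_goldschmidt p hS F hF
    intro P hP α hα
    have hPS : P ≤ S := by
      rcases hP with rfl | hP
      · exact le_refl _
      · exact ess_le F hP
    have h1 := (mem_autGroup_iff F hPS α).mp hα
    apply Subgroup.subset_closure
    exact ⟨h1, fun x => h P hP α hα x⟩
  unfold FusionSystem.hyperfocalSubgroup
  rw [Subgroup.closure_le]
  rintro _ ⟨P, α, x, hPS, -, rfl⟩
  have h1 := (mem_autGroup_iff F hPS (α : MulAut P)).mp α.2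
  exact (hle P h1).2 x

variable [hp : Fact (Nat.Prime 2)]

namespace C2

theorem exists_z (D : C2 2 S) : ∃ z ∈ (commutator ↥S).map S.subtype, z ≠ 1 := by
  by_contra hcon
  push Not at hcon
  have h1 : (commutator ↥S).map S.subtype = ⊥ := by
    rw [eq_bot_iff]
    intro x hx
    rw [Subgroup.mem_bot]
    exact hcon x hx
  have h2 := D.card_commutator
  rw [h1, Subgroup.card_bot] at h2
  omega

theorem mem_commutator_cases (D : C2 2 S) {z : Ω} (hz : z ∈ (commutator ↥S).map S.subtype)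
    (hz1 : z ≠ 1) {u : Ω} (hu : u ∈ (commutator ↥S).map S.subtype) : u = 1 ∨ u = z := by
  have hcard := D.card_commutator
  have h2 := (Nat.card_eq_two_iff' (⟨1, Subgroup.one_mem _⟩ :
    ↥((commutator ↥S).map S.subtype))).mp hcard
  obtain ⟨w, -, hw⟩ := h2
  by_cases h3 : u = 1
  · exact Or.inl h3
  · right
    have h4 := hw ⟨u, hu⟩ (fun h => h3 (congrArg Subtype.val h))
    have h5 := hw ⟨z, hz⟩ (fun h => hz1 (congrArg Subtype.val h))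
    have h6 : (⟨u, hu⟩ : ↥((commutator ↥S).map S.subtype)) = ⟨z, hz⟩ := by rw [h4, h5]
    exact congrArg Subtype.val h6

/-- automorphisms of `S` fix `z` -/
theorem aut_z (D : C2 2 S) {z : Ω} (hz : z ∈ (commutator ↥S).map S.subtype) (hz1 : z ≠ 1)
    (β : MulAut S) : ((β ⟨z, ZS_le S (D.commutator_le hz)⟩ : S) : Ω) = z := by
  obtain ⟨s₀, hs₀, t₀, ht₀, hst₀⟩ := D.hna
  have hs₀Z : s₀ ∉ ZS S := fun h => hst₀ ((mem_ZS_iff.mp h).2 t₀ ht₀).symm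
  have C₀ := D.ctx hs₀ hs₀Z
  have hzZ := D.commutator_le hz
  have h1 := C₀.autS_Z₀_mem β hzZ ⟨hzZ, hz⟩
  rcases D.mem_commutator_cases hz hz1 h1.2 with h | h
  · exfalso
    apply hz1
    have h2 : β ⟨z, ZS_le S hzZ⟩ = 1 := Subtype.ext h
    have h3 : β ⟨z, ZS_le S hzZ⟩ = β 1 := by rw [h2, map_one]
    exact congrArg Subtype.val (β.injective h3)
  · exact h

end C2

/-- the data attached to an essential subgroup -/
structure EP (F : FusionSystem S) (z : Ω) (P : Subgroup Ω) (w : Ω) : Prop where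
  hP : F.IsEssential 2 P
  hwP : w ∈ P
  hwZ : w ∉ ZS S
  hw2 : w * w = 1
  horb : ∀ k ∈ F.autGroup P, ∀ u : P, ((u : Ω) = z ∨ (u : Ω) = w) →
    (((k u : P) : Ω) = z ∨ ((k u : P) : Ω) = w ∨ ((k u : P) : Ω) = w * z)
  hkey : ∀ (v : Ω) (hv : v ∈ orbZ F P (ess_ZS_le F hP)), ∀ k ∈ F.autGroup P,
    ∃ β ∈ F.autGroup S, ((k ⟨v, ess_ZS_le F hP hv.1⟩ : P) : Ω) = ((β ⟨v, ZS_le S hv.1⟩ : S) : Ω)
  hidx : ∀ h ∈ ZS S, h ∈ orbZ F P (ess_ZS_le F hP) ∨ h * z ∈ orbZ F P (ess_ZS_le F hP)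
  hrep : ∀ x ∈ P, ∃ u : Ω, (u = 1 ∨ u = z ∨ u = w ∨ u = w * z) ∧
    x * u ∈ orbZ F P (ess_ZS_le F hP)

theorem C2.exists_EP (D : C2 2 S) (F : FusionSystem S) (hF : F.IsSaturated 2)
    {z : Ω} (hz : z ∈ (commutator ↥S).map S.subtype) (hz1 : z ≠ 1) {P : Subgroup Ω}
    (hP : F.IsEssential 2 P) :
    (∀ c ∈ ZS S, c * c ≠ z) ∧ ∃ w : Ω, EP F z P w := by
  obtain ⟨w, h1, h2, h3, h4, h5, h6, h7, h8⟩ := D.ess_props F hF hP hz hz1
  exact ⟨h4, w, ⟨hP, h1, h2, h3, h5, h6, h7, h8⟩⟩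

namespace EP

variable {F : FusionSystem S} {z : Ω} {P : Subgroup Ω} {w : Ω}

theorem hPS (X : EP F z P w) : P ≤ S := ess_le F X.hP

theorem hwS (X : EP F z P w) : w ∈ S := X.hPS X.hwP

theorem eq_sup (X : EP F z P w) (D : C2 2 S) (hF : F.IsSaturated 2) :
    P = ZS S ⊔ Subgroup.zpowers w := by
  obtain ⟨x₀, hx₀P, hx₀Z, hPeq⟩ := D.ess_facts F hF X.hP
  have h1 : w ∈ ZS S ⊔ Subgroup.zpowers x₀ := by rw [← hPeq]; exact X.hwP
  rw [hPeq]
  exact (D.sup_eq_of_mem (X.hPS hx₀P) hx₀Z X.hwS X.hwZ h1).symm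

theorem mem_iff (X : EP F z P w) (D : C2 2 S) (hF : F.IsSaturated 2) {x : Ω} (hx : x ∈ S) :
    x ∈ P ↔ x * w = w * x := by
  have h1 := D.mem_sup_iff X.hwS X.hwZ hx
  rw [← X.eq_sup D hF] at h1
  exact h1

/-- `Aut_F(S)` stabilizes `P` -/
theorem aut_stab (X : EP F z P w) (D : C2 2 S) (hF : F.IsSaturated 2)
    (hz : z ∈ (commutator ↥S).map S.subtype) (hz1 : z ≠ 1) (hsq : ∀ c ∈ ZS S, c * c ≠ z)
    {β : MulAut S} (hβ : β ∈ F.autGroup S) (x : S) :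
    (x : Ω) ∈ P ↔ ((β x : S) : Ω) ∈ P := by
  have h1 := D.aut_mem_stabW F hF hz hz1 hsq hβ X.hwS X.hwZ X.hw2
  rw [X.mem_iff D hF x.2, X.mem_iff D hF (β x).2]
  exact h1 x

/-- the restriction of an element of `Aut_F(S)` to `P` -/
theorem exists_restrict (X : EP F z P w) (D : C2 2 S) (hF : F.IsSaturated 2)
    (hz : z ∈ (commutator ↥S).map S.subtype) (hz1 : z ≠ 1) (hsq : ∀ c ∈ ZS S, c * c ≠ z)
    {β : MulAut S} (hβ : β ∈ F.autGroup S) :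
    ∃ b ∈ F.autGroup P, ∀ x : P, ((b x : P) : Ω) = ((β ⟨x, X.hPS x.2⟩ : S) : Ω) :=
  H9C2.exists_restrict F X.hPS hβ (X.aut_stab D hF hz hz1 hsq hβ)

/-- `Aut_F(S)` preserves `orbZ` -/
theorem orbZ_aut (X : EP F z P w) (D : C2 2 S) (hF : F.IsSaturated 2)
    (hz : z ∈ (commutator ↥S).map S.subtype) (hz1 : z ≠ 1) (hsq : ∀ c ∈ ZS S, c * c ≠ z)
    {β : MulAut S} (hβ : β ∈ F.autGroup S) {v : Ω} (hv : v ∈ orbZ F P (ess_ZS_le F X.hP)) :
    ((β ⟨v, ZS_le S hv.1⟩ : S) : Ω) ∈ orbZ F P (ess_ZS_le F X.hP) := by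
  obtain ⟨b, hb, hbβ⟩ := X.exists_restrict D hF hz hz1 hsq hβ
  have h1 := orbZ_invariant F P (ess_ZS_le F X.hP) hv hb
  rw [hbβ] at h1
  exact h1

/-- the image of `w` under `Aut_F(S)` -/
theorem aut_orbit (X : EP F z P w) (D : C2 2 S) (hF : F.IsSaturated 2)
    (hz : z ∈ (commutator ↥S).map S.subtype) (hz1 : z ≠ 1) (hsq : ∀ c ∈ ZS S, c * c ≠ z)
    {β : MulAut S} (hβ : β ∈ F.autGroup S) :
    ((β ⟨w, X.hwS⟩ : S) : Ω) = z ∨ ((β ⟨w, X.hwS⟩ : S) : Ω) = w ∨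
      ((β ⟨w, X.hwS⟩ : S) : Ω) = w * z := by
  obtain ⟨b, hb, hbβ⟩ := X.exists_restrict D hF hz hz1 hsq hβ
  have h1 := X.horb b hb ⟨w, X.hwP⟩ (Or.inr rfl)
  rw [hbβ] at h1
  exact h1

end EP

end Cfsg.Agent.Lib.Helper9.H9C2
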