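import Mathlib
import Cfsg.Prelude
import Cfsg.Agent.Lib.Helper9.C2i
import Cfsg.Agent.Lib.Helper1.DihedralIso

set_option autoImplicit false

/-!
# `2`-groups whose centre has index `4`: a core-free fusion system with full hyperfocal subgroup
forces `S ≅ D₈`
-/

namespace Cfsg.Agent.Lib.Helper9.H9C2

open Cfsg Cfsg.FusionSystem Cfsg.Agent.Lib.Helper9 Cfsg.Agent.Lib.Helper9.H9AbIdx

variable {Ω : Type*} [Group Ω] {S : Subgroup Ω} [Finite S]

/-- the elements `x` of `S` with `x⁻¹ α(x) ∈ K` -/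
def autSub (α : MulAut S) (K : Subgroup Ω) (hKnorm : ∀ s ∈ S, ∀ d ∈ K, s * d * s⁻¹ ∈ K) :
    Subgroup Ω where
  carrier := {x | ∃ hx : x ∈ S, x⁻¹ * ((α ⟨x, hx⟩ : S) : Ω) ∈ K}
  mul_mem' := by
    rintro x y ⟨hx, hx'⟩ ⟨hy, hy'⟩
    refine ⟨S.mul_mem hx hy, ?_⟩
    have h1 : (⟨x * y, S.mul_mem hx hy⟩ : S) = ⟨x, hx⟩ * ⟨y, hy⟩ := rfl
    rw [h1, map_mul, Subgroup.coe_mul]
    have h2 : (x * y)⁻¹ * (((α ⟨x, hx⟩ : S) : Ω) * ((α ⟨y, hy⟩ : S) : Ω)) =
        (y⁻¹ * (x⁻¹ * ((α ⟨x, hx⟩ : S) : Ω)) * y⁻¹⁻¹) * (y⁻¹ * ((α ⟨y, hy⟩ : S) : Ω)) := by group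
    rw [h2]
    exact K.mul_mem (hKnorm y⁻¹ (S.inv_mem hy) _ hx') hy'
  one_mem' := by
    refine ⟨S.one_mem, ?_⟩
    have h1 : (⟨1, S.one_mem⟩ : S) = 1 := rfl
    rw [h1, map_one]
    simp
  inv_mem' := by
    rintro x ⟨hx, hx'⟩
    refine ⟨S.inv_mem hx, ?_⟩
    have h1 : (⟨x⁻¹, S.inv_mem hx⟩ : S) = (⟨x, hx⟩ : S)⁻¹ := rfl
    rw [h1, map_inv, Subgroup.coe_inv]
    have h2 : x⁻¹⁻¹ * (((α ⟨x, hx⟩ : S) : Ω))⁻¹ =
        x * (x⁻¹ * ((α ⟨x, hx⟩ : S) : Ω))⁻¹ * x⁻¹ := by group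
    rw [h2]
    exact hKnorm x hx _ (K.inv_mem hx')

variable [hp : Fact (Nat.Prime 2)]

set_option maxHeartbeats 3200000 in
theorem C2.dihedral (D : C2 2 S) (F : FusionSystem S) (hF : F.IsSaturated 2)
    (hcore : F.core = ⊥) (hhyp : F.hyperfocalSubgroup 2 = S) :
    Nonempty (↥S ≃* DihedralGroup 4) := by
  have hS := D.hS
  obtain ⟨z, hz, hz1⟩ := D.exists_z
  have hzZ := D.commutator_le hz
  have hzS := ZS_le S hzZ
  have hzc : ∀ s ∈ S, s * z = z * s := (mem_ZS_iff.mp hzZ).2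
  have hzz : z * z = 1 := D.z_sq hz
  obtain ⟨P, hP⟩ := D.exists_essential F hF hcore
  obtain ⟨hsq, wP, XP⟩ := D.exists_EP F hF hz hz1 hP
  have hPne := ess_ne 2 hS F hF hP
  have hcommeq : ⁅S, S⁆ = (commutator ↥S).map S.subtype := (Subgroup.map_subtype_commutator S).symm
  have hcommle : ⁅S, S⁆ ≤ ZS S := by rw [hcommeq]; exact D.commutator_le
  by_cases hall : ∀ Q : Subgroup Ω, F.IsEssential 2 Q → Q = P
  · -- a single essential subgroup: the hyperfocal subgroup lies in it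
    exfalso
    apply hPne
    apply le_antisymm XP.hPS
    have hle : F.hyperfocalSubgroup 2 ≤ P := by
      apply hyperfocal_le 2 hS F hF P (hcommle.trans (ess_ZS_le F hP))
      intro Q hQ α hα x
      rcases hQ with hQS | hQ
      · subst hQS
        have hst := XP.aut_stab D hF hz hz1 hsq hα x
        have hidx : (P.subgroupOf Q).index = 2 := by
          show P.relIndex Q = 2
          rw [XP.eq_sup D hF]
          exact (D.relIndex_sup XP.hwS XP.hwZ).2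
        have h1 := Subgroup.mul_mem_iff_of_index_two hidx (a := x⁻¹) (b := α x)
        rw [Subgroup.inv_mem_iff, Subgroup.mem_subgroupOf, Subgroup.mem_subgroupOf,
          Subgroup.mem_subgroupOf] at h1
        exact h1.mpr hst
      · have h1 := hall Q hQ
        subst h1
        exact Q.mul_mem (Q.inv_mem x.2) (α x).2
    rw [hhyp] at hle
    exact hle
  · -- two essential subgroups
    push Not at hall
    obtain ⟨Q, hQ, hQP⟩ := hall
    obtain ⟨-, wQ, XQ⟩ := D.exists_EP F hF hz hz1 hQ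
    have hPeq := XP.eq_sup D hF
    have hQeq := XQ.eq_sup D hF
    -- an essential subgroup whose involution commutes with `wP` is `P`
    have heq_of_comm : ∀ (R R' : Subgroup Ω) (w w' : Ω), EP F z R w → EP F z R' w' →
        w' * w = w * w' → R' = R := by
      intro R R' w w' XR XR' h
      have h1 : w' ∈ R := (XR.mem_iff D hF XR'.hwS).mpr h
      rw [XR.eq_sup D hF] at h1
      rw [XR.eq_sup D hF, XR'.eq_sup D hF]
      exact D.sup_eq_of_mem XR.hwS XR.hwZ XR'.hwS XR'.hwZ h1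
    have hnc : wP * wQ ≠ wQ * wP := by
      intro h
      exact hQP (heq_of_comm P Q wP wQ XP XQ h.symm)
    have hess : ∀ R : Subgroup Ω, F.IsEssential 2 R → R = P ∨ R = Q := by
      intro R hR
      obtain ⟨-, wR, XR⟩ := D.exists_EP F hF hz hz1 hR
      by_cases c1 : wR * wP = wP * wR
      · exact Or.inl (heq_of_comm P R wP wR XP XR c1)
      by_cases c2 : wR * wQ = wQ * wR
      · exact Or.inr (heq_of_comm Q R wQ wR XQ XR c2)
      exfalso
      exact D.no_three hz hz1 hsq XP.hwS XQ.hwS XR.hwS XP.hw2 XQ.hw2 XR.hw2 hnc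
        (fun h => c1 h.symm) (fun h => c2 h.symm)
    -- the normal subgroup `Z₁`
    obtain ⟨Z₁, hZ₁def⟩ : ∃ Z₁ : Subgroup Ω,
        Z₁ = orbZ F P (ess_ZS_le F hP) ⊓ orbZ F Q (ess_ZS_le F hQ) := ⟨_, rfl⟩
    have hZ₁Z : Z₁ ≤ ZS S := by
      rw [hZ₁def]; exact inf_le_left.trans (orbZ_le F P _)
    have hΓ : ∀ β ∈ F.autGroup S, ∀ (v : Ω) (hv : v ∈ Z₁),
        ((β ⟨v, ZS_le S (hZ₁Z hv)⟩ : S) : Ω) ∈ Z₁ := by
      intro β hβ v hv
      rw [hZ₁def] at hv ⊢
      exact ⟨XP.orbZ_aut D hF hz hz1 hsq hβ hv.1, XQ.orbZ_aut D hF hz hz1 hsq hβ hv.2⟩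
    have hnorm : F.IsNormal Z₁ := by
      rw [fs_isNormal_iff_essential_invariant 2 hS F hF]
      intro R hR
      rcases hR with hRS | hR
      · subst hRS
        refine ⟨hZ₁Z.trans (ZS_le R), ?_⟩
        apply map_eq_of_invariant
        intro α hα v hv
        rw [Subgroup.mem_subgroupOf] at hv ⊢
        exact hΓ α hα v hv
      · refine ⟨hZ₁Z.trans (ess_ZS_le F hR), ?_⟩
        obtain ⟨-, wR, XR⟩ := D.exists_EP F hF hz hz1 hR
        apply map_eq_of_invariant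
        intro α hα v hv
        rw [Subgroup.mem_subgroupOf] at hv ⊢
        have hvR : (v : Ω) ∈ orbZ F R (ess_ZS_le F hR) := by
          rw [hZ₁def] at hv
          rcases hess R hR with h | h
          · subst h; exact hv.1
          · subst h; exact hv.2
        obtain ⟨β, hβ, hkv⟩ := XR.hkey (v : Ω) hvR α hα
        have h1 : (⟨(v : Ω), ess_ZS_le F hR hvR.1⟩ : R) = v := rfl
        rw [h1] at hkv
        rw [hkv]
        exact hΓ β hβ v hv
    have hbot : Z₁ = ⊥ := by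
      have h3 : Z₁ ≤ F.core := le_sSup hnorm
      rw [hcore] at h3
      exact le_bot_iff.mp h3
    -- `Aut_F(S)` acts trivially on `Z(S)`
    have htriv : ∀ β ∈ F.autGroup S, ∀ (ζ : Ω) (hζ : ζ ∈ ZS S),
        ((β ⟨ζ, ZS_le S hζ⟩ : S) : Ω) = ζ := by
      intro β hβ ζ hζ
      have key : ∀ (R : Subgroup Ω) (wR : Ω) (XR : EP F z R wR),
          ζ⁻¹ * ((β ⟨ζ, ZS_le S hζ⟩ : S) : Ω) ∈ orbZ F R (ess_ZS_le F XR.hP) := by
        intro R wR XR
        rcases XR.hidx ζ hζ with h | h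
        · exact Subgroup.mul_mem _ (Subgroup.inv_mem _ h) (XR.orbZ_aut D hF hz hz1 hsq hβ h)
        · have h1 := XR.orbZ_aut D hF hz hz1 hsq hβ h
          have h2 : (⟨ζ * z, ZS_le S h.1⟩ : S) = ⟨ζ, ZS_le S hζ⟩ * ⟨z, hzS⟩ := rfl
          rw [h2, map_mul, Subgroup.coe_mul, D.aut_z hz hz1 β] at h1
          have h3 := Subgroup.mul_mem _ (Subgroup.inv_mem _ h) h1
          have h4 : (ζ * z)⁻¹ * (((β ⟨ζ, ZS_le S hζ⟩ : S) : Ω) * z) =
              ζ⁻¹ * ((β ⟨ζ, ZS_le S hζ⟩ : S) : Ω) := by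
            have h5 := hzc _ (β ⟨ζ, ZS_le S hζ⟩ : S).2
            calc (ζ * z)⁻¹ * (((β ⟨ζ, ZS_le S hζ⟩ : S) : Ω) * z)
                = z⁻¹ * ζ⁻¹ * (((β ⟨ζ, ZS_le S hζ⟩ : S) : Ω) * z) := by group
              _ = z⁻¹ * ζ⁻¹ * (z * ((β ⟨ζ, ZS_le S hζ⟩ : S) : Ω)) := by rw [h5]
              _ = z⁻¹ * (ζ⁻¹ * z) * ((β ⟨ζ, ZS_le S hζ⟩ : S) : Ω) := by group
              _ = z⁻¹ * (z * ζ⁻¹) * ((β ⟨ζ, ZS_le S hζ⟩ : S) : Ω) := by
                rw [hzc ζ⁻¹ (S.inv_mem (ZS_le S hζ))]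
              _ = ζ⁻¹ * ((β ⟨ζ, ZS_le S hζ⟩ : S) : Ω) := by group
          rw [h4] at h3
          exact h3
      have h1 : ζ⁻¹ * ((β ⟨ζ, ZS_le S hζ⟩ : S) : Ω) ∈ Z₁ := by
        rw [hZ₁def]
        exact ⟨key P wP XP, key Q wQ XQ⟩
      rw [hbot, Subgroup.mem_bot] at h1
      calc ((β ⟨ζ, ZS_le S hζ⟩ : S) : Ω) = ζ * (ζ⁻¹ * ((β ⟨ζ, ZS_le S hζ⟩ : S) : Ω)) := by group
        _ = ζ := by rw [h1, mul_one]
    -- the subgroup `K = ⟨wP, wQ⟩`
    obtain ⟨K, hKdef⟩ : ∃ K : Subgroup Ω, K = Subgroup.closure {wP, wQ} := ⟨_, rfl⟩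
    have hwPK : wP ∈ K := by rw [hKdef]; exact Subgroup.subset_closure (by simp)
    have hwQK : wQ ∈ K := by rw [hKdef]; exact Subgroup.subset_closure (by simp)
    have hKS : K ≤ S := by
      rw [hKdef, Subgroup.closure_le]
      intro x hx
      rcases hx with rfl | hx
      · exact XP.hwS
      · rw [Set.mem_singleton_iff] at hx; rw [hx]; exact XQ.hwS
    have hcomm_z : wP * wQ * wP⁻¹ * wQ⁻¹ = z := by
      rcases D.comm_cases hz hz1 XP.hwS XQ.hwS with h | h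
      · exfalso
        apply hnc
        calc wP * wQ = (wP * wQ * wP⁻¹ * wQ⁻¹) * (wQ * wP) := by group
          _ = wQ * wP := by rw [h, one_mul]
      · exact h
    have hzK : z ∈ K := by
      rw [← hcomm_z]
      exact K.mul_mem (K.mul_mem (K.mul_mem hwPK hwQK) (K.inv_mem hwPK)) (K.inv_mem hwQK)
    have hcommK : (commutator ↥S).map S.subtype ≤ K := by
      intro u hu
      rcases D.mem_commutator_cases hz hz1 hu with h | h
      · rw [h]; exact K.one_mem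
      · rw [h]; exact hzK
    have hKnorm : ∀ s ∈ S, ∀ d ∈ K, s * d * s⁻¹ ∈ K := by
      intro s hs d hd
      have h1 : s * d * s⁻¹ = (s * d * s⁻¹ * d⁻¹) * d := by group
      rw [h1]
      exact K.mul_mem (hcommK (commutator_mem_map hs (hKS hd))) hd
    have horbK : ∀ u : Ω, ∀ wR : Ω, wR ∈ K → (u = z ∨ u = wR ∨ u = wR * z) → u ∈ K := by
      intro u wR hwR hu
      rcases hu with h | h | h
      · rw [h]; exact hzK
      · rw [h]; exact hwR
      · rw [h]; exact K.mul_mem hwR hzK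
    -- automizers of essential subgroups move elements within `K`
    have hessK : ∀ (R : Subgroup Ω) (wR : Ω) (XR : EP F z R wR), wR ∈ K →
        ∀ α ∈ F.autGroup R, ∀ x : R, (x : Ω)⁻¹ * ((α x : R) : Ω) ∈ K := by
      intro R wR XR hwRK α hα x
      have hZR := ess_ZS_le F XR.hP
      obtain ⟨u, hu, hxu⟩ := XR.hrep x x.2
      have hzR : z ∈ R := hZR hzZ
      have huR : u ∈ R := by
        rcases hu with h | h | h | h
        · rw [h]; exact R.one_mem
        · rw [h]; exact hzR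
        · rw [h]; exact XR.hwP
        · rw [h]; exact R.mul_mem XR.hwP hzR
      have hαz : ((α ⟨z, hzR⟩ : R) : Ω) ∈ K :=
        horbK _ wR hwRK (XR.horb α hα ⟨z, hzR⟩ (Or.inl rfl))
      have hαw : ((α ⟨wR, XR.hwP⟩ : R) : Ω) ∈ K :=
        horbK _ wR hwRK (XR.horb α hα ⟨wR, XR.hwP⟩ (Or.inr rfl))
      have huK : u ∈ K := by
        rcases hu with h | h | h | h
        · rw [h]; exact K.one_mem
        · rw [h]; exact hzK
        · rw [h]; exact hwRK
        · rw [h]; exact K.mul_mem hwRK hzK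
      have hαuK : ((α ⟨u, huR⟩ : R) : Ω) ∈ K := by
        rcases hu with h | h | h | h
        · have h1 : (⟨u, huR⟩ : R) = 1 := Subtype.ext h
          rw [h1, map_one]; exact K.one_mem
        · have h1 : (⟨u, huR⟩ : R) = ⟨z, hzR⟩ := Subtype.ext h
          rw [h1]; exact hαz
        · have h1 : (⟨u, huR⟩ : R) = ⟨wR, XR.hwP⟩ := Subtype.ext h
          rw [h1]; exact hαw
        · have h1 : (⟨u, huR⟩ : R) = ⟨wR, XR.hwP⟩ * ⟨z, hzR⟩ := Subtype.ext h
          rw [h1, map_mul, Subgroup.coe_mul]; exact K.mul_mem hαw hαz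
      obtain ⟨β, hβ, hkc⟩ := XR.hkey ((x : Ω) * u) hxu α hα
      rw [htriv β hβ _ hxu.1] at hkc
      have h1 : (⟨(x : Ω) * u, hZR hxu.1⟩ : R) = x * ⟨u, huR⟩ := rfl
      rw [h1, map_mul, Subgroup.coe_mul] at hkc
      have h2 : (x : Ω)⁻¹ * ((α x : R) : Ω) = u * (((α ⟨u, huR⟩ : R) : Ω))⁻¹ := by
        calc (x : Ω)⁻¹ * ((α x : R) : Ω)
            = (x : Ω)⁻¹ * (((α x : R) : Ω) * ((α ⟨u, huR⟩ : R) : Ω)) *
                (((α ⟨u, huR⟩ : R) : Ω))⁻¹ := by group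
          _ = (x : Ω)⁻¹ * ((x : Ω) * u) * (((α ⟨u, huR⟩ : R) : Ω))⁻¹ := by rw [hkc]
          _ = u * (((α ⟨u, huR⟩ : R) : Ω))⁻¹ := by group
      rw [h2]
      exact K.mul_mem huK (K.inv_mem hαuK)
    -- the hyperfocal subgroup lies in `K`
    have hle : F.hyperfocalSubgroup 2 ≤ K := by
      apply hyperfocal_le 2 hS F hF K (by rw [hcommeq]; exact hcommK)
      intro R hR α hα x
      rcases hR with hRS | hR
      · subst hRS
        have hwQA : wQ ∉ ZS R ⊔ Subgroup.zpowers wP := by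
          intro h
          exact hnc ((D.mem_sup_iff XP.hwS XP.hwZ XQ.hwS).mp h).symm
        have C := D.ctx XP.hwS XP.hwZ
        have hsub : R ≤ autSub α K hKnorm := by
          apply C.le_of_gens XQ.hwS hwQA
          · apply sup_le
            · intro ζ hζ
              refine ⟨ZS_le R hζ, ?_⟩
              rw [htriv α hα ζ hζ, inv_mul_cancel]
              exact K.one_mem
            · rw [Subgroup.zpowers_le]
              refine ⟨XP.hwS, K.mul_mem (K.inv_mem hwPK) ?_⟩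
              exact horbK _ wP hwPK (XP.aut_orbit D hF hz hz1 hsq hα)
          · refine ⟨XQ.hwS, K.mul_mem (K.inv_mem hwQK) ?_⟩
            exact horbK _ wQ hwQK (XQ.aut_orbit D hF hz hz1 hsq hα)
        obtain ⟨hx, hx'⟩ := hsub x.2
        exact hx'
      · rcases hess R hR with h | h
        · subst h
          exact hessK _ wP XP hwPK α hα x
        · subst h
          exact hessK _ wQ XQ hwQK α hα x
    rw [hhyp] at hle
    have hSK : S = Subgroup.closure {wP, wQ} := by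
      rw [← hKdef]; exact le_antisymm hle hKS
    have hwP1 : wP ≠ 1 := fun h => XP.hwZ (h ▸ (ZS S).one_mem)
    have hwQ1 : wQ ≠ 1 := fun h => XQ.hwZ (h ▸ (ZS S).one_mem)
    have hoP : orderOf wP = 2 := orderOf_eq_prime (by rw [pow_two]; exact XP.hw2) hwP1
    have hoQ : orderOf wQ = 2 := orderOf_eq_prime (by rw [pow_two]; exact XQ.hw2) hwQ1
    have hwPi : wP⁻¹ = wP := inv_eq_of_mul_eq_one_left XP.hw2
    have hwQi : wQ⁻¹ = wQ := inv_eq_of_mul_eq_one_left XQ.hw2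
    have hsqz : (wP * wQ) ^ 2 = z := by
      rw [pow_two, ← hcomm_z, hwPi, hwQi]
      group
    have h4 : orderOf (wP * wQ) = 4 := by
      have h5 : ¬ (wP * wQ) ^ 2 ^ 1 = 1 := by rw [pow_one, hsqz]; exact hz1
      have h6 : (wP * wQ) ^ 2 ^ (1 + 1) = 1 := by
        show (wP * wQ) ^ (2 ^ 2) = 1
        rw [show (2 : ℕ) ^ 2 = 2 * 2 from rfl, pow_mul, hsqz, pow_two]
        exact hzz
      have := orderOf_eq_prime_pow (p := 2) (n := 1) h5 h6
      simpa using this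
    have hdi := Cfsg.Agent.Lib.Helper1.DihedralIso.closure_equiv_dihedral wP wQ hoP hoQ
      (by rw [h4]; norm_num)
    rw [h4] at hdi
    obtain ⟨e⟩ := hdi
    exact ⟨(MulEquiv.subgroupCongr hSK).trans e⟩

end Cfsg.Agent.Lib.Helper9.H9C2
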