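import Mathlib
import Cfsg.Agent.Lib.Helper9.C6D4a

set_option autoImplicit false

/-! The squares of a `2`-group of exponent four and of symplectic type. -/

namespace Cfsg.Agent.Lib.Helper9.C6D4

theorem pow_four_eq {G : Type*} [Group G] (x : G) : x ^ 4 = x * x * (x * x) := by
  rw [show (4 : ℕ) = 2 + 2 from rfl, pow_add, pow_two]

theorem pow_cases {G : Type*} [Group G] (c : G) (hc4 : c ^ 4 = 1) (m : G)
    (hm : m ∈ Subgroup.zpowers c) : m = 1 ∨ m = c ∨ m = c * c ∨ m = c * c * c := by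
  obtain ⟨k, rfl⟩ := Subgroup.mem_zpowers_iff.mp hm
  have h1 : c ^ k = c ^ (k % 4) := by
    conv_lhs => rw [← Int.emod_add_mul_ediv k 4]
    rw [zpow_add, zpow_mul]
    have : c ^ (4 : ℤ) = 1 := by
      have : c ^ (4 : ℤ) = c ^ (4 : ℕ) := by norm_cast
      rw [this, hc4]
    rw [this, one_zpow, mul_one]
  have h2 : 0 ≤ k % 4 := Int.emod_nonneg k (by norm_num)
  have h3 : k % 4 < 4 := Int.emod_lt_of_pos k (by norm_num)
  obtain ⟨n, hn⟩ := Int.eq_ofNat_of_zero_le h2
  rw [h1, hn]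
  have hn4 : n < 4 := by omega
  rw [zpow_natCast]
  interval_cases n
  · left; simp
  · right; left; simp
  · right; right; left; rw [pow_two]
  · right; right; right; rw [pow_succ, pow_two]

theorem sq_dichotomy {G : Type*} [Group G] [Finite G] (hG : IsPGroup 2 G)
    (hexp : ∀ x : G, x ^ 4 = 1)
    (hchar : ∀ A : Subgroup G, A.Characteristic → IsMulCommutative A → IsCyclic A) :
    ∃ z : G, (∀ x : G, x * z = z * x) ∧ z * z = 1 ∧ ∀ x : G, x * x = 1 ∨ x * x = z := by
  classical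
  set S : Set G := {y | ∃ x : G, y = x * x} with hS
  set U : Subgroup G := Subgroup.closure S with hU
  have hUchar : U.Characteristic := by
    rw [Subgroup.characteristic_iff_map_le]
    intro φ
    rw [hU, MonoidHom.map_closure, Subgroup.closure_le]
    rintro _ ⟨y, ⟨x, rfl⟩, rfl⟩
    apply Subgroup.subset_closure
    exact ⟨φ x, by simp⟩
  haveI := hUchar
  set A : Subgroup G := U ⊓ Subgroup.centralizer (U : Set G) with hA
  have hAchar : A.Characteristic := by
    rw [hA]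
    infer_instance
  haveI := hAchar
  have hAU : ∀ m ∈ A, ∀ u ∈ U, u * m = m * u := by
    intro m hm u hu
    exact (Subgroup.mem_centralizer_iff.mp hm.2) u hu
  have hAcomm : IsMulCommutative A := by
    refine ⟨⟨fun a b => ?_⟩⟩
    apply Subtype.ext
    exact hAU b.1 b.2 a.1 a.2.1
  have hAcyc : IsCyclic A := hchar A hAchar hAcomm
  obtain ⟨c, hc⟩ := IsCyclic.exists_generator (α := A)
  have hc4 : (c : G) ^ 4 = 1 := hexp _
  have hAcases : ∀ m ∈ A, m = 1 ∨ m = (c : G) ∨ m = (c : G) * c ∨ m = (c : G) * c * c := by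
    intro m hm
    apply pow_cases (c : G) hc4
    have h1 := hc ⟨m, hm⟩
    obtain ⟨k, hk⟩ := Subgroup.mem_zpowers_iff.mp h1
    rw [Subgroup.mem_zpowers_iff]
    refine ⟨k, ?_⟩
    have := congrArg Subtype.val hk
    simpa using this
  have hcentU : ∀ (m z₀ : G), (∀ x : G, x * z₀ = z₀ * x) → z₀ * z₀ = 1 →
      (∀ x : G, x * m * x⁻¹ * m⁻¹ = 1 ∨ x * m * x⁻¹ * m⁻¹ = z₀) →
      m ∈ Subgroup.centralizer (U : Set G) := by
    intro m z₀ hz hzz hx
    have hle : U ≤ Subgroup.centralizer ({m} : Set G) := by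
      rw [hU, Subgroup.closure_le]
      rintro _ ⟨x, rfl⟩
      rw [SetLike.mem_coe, Subgroup.mem_centralizer_iff]
      intro h hh
      rw [Set.mem_singleton_iff] at hh
      subst hh
      exact (comm_sq_of_conj h z₀ x hz hzz (hx x)).symm
    rw [Subgroup.mem_centralizer_iff]
    intro u hu
    have := Subgroup.mem_centralizer_iff.mp (hle hu) m rfl
    exact this.symm
  by_cases hUbot : U = ⊥
  · refine ⟨1, fun x => by simp, by simp, fun x => Or.inl ?_⟩
    have : x * x ∈ U := Subgroup.subset_closure ⟨x, rfl⟩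
    rw [hUbot, Subgroup.mem_bot] at this
    exact this
  obtain ⟨s₀, hs₀U, hs₀1⟩ : ∃ s ∈ U, s ≠ 1 := by
    by_contra hcon
    push Not at hcon
    exact hUbot ((Subgroup.eq_bot_iff_forall U).mpr hcon)
  obtain ⟨z₁, hz₁U, hz₁bot, hz₁c⟩ :=
    exists_central_mod hG U ⊥ s₀ hs₀U (by rwa [Subgroup.mem_bot])
  have hz₁1 : z₁ ≠ 1 := by rwa [Subgroup.mem_bot] at hz₁bot
  have hz₁cen : ∀ x : G, x * z₁ = z₁ * x := by
    intro x
    have := hz₁c x
    rw [Subgroup.mem_bot] at this
    calc x * z₁ = (x * z₁ * x⁻¹ * z₁⁻¹) * z₁ * x := by group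
      _ = z₁ * x := by rw [this, one_mul]
  obtain ⟨z₀, hz₀U, hz₀1, hz₀c, hz₀z⟩ : ∃ z₀ ∈ U, z₀ ≠ 1 ∧ (∀ x : G, x * z₀ = z₀ * x) ∧
      z₀ * z₀ = 1 := by
    by_cases h : z₁ * z₁ = 1
    · exact ⟨z₁, hz₁U, hz₁1, hz₁cen, h⟩
    · refine ⟨z₁ * z₁, U.mul_mem hz₁U hz₁U, h, ?_, ?_⟩
      · intro x
        rw [← mul_assoc, hz₁cen x, mul_assoc, hz₁cen x, mul_assoc]
      · have := hexp z₁
        rw [← pow_four_eq]
        exact this
  refine ⟨z₀, hz₀c, hz₀z, ?_⟩
  by_contra hcon
  push Not at hcon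
  obtain ⟨x₀, hx₀1, hx₀z⟩ := hcon
  set s := x₀ * x₀ with hs
  have hsU : s ∈ U := Subgroup.subset_closure ⟨x₀, rfl⟩
  have hss : s * s = 1 := by
    rw [hs, ← pow_four_eq]
    exact hexp x₀
  set Z₁ : Subgroup G := pairSubgroup z₀ hz₀z with hZ₁
  haveI hZ₁n : Z₁.Normal := pairSubgroup_normal z₀ hz₀z hz₀c
  have hsZ₁ : s ∉ Z₁ := by
    rintro (h | h)
    · exact hx₀1 h
    · exact hx₀z h
  obtain ⟨a, haU, haZ₁, hac⟩ := exists_central_mod hG U Z₁ s hsU hsZ₁
  have haA : a ∈ A := ⟨haU, hcentU a z₀ hz₀c hz₀z hac⟩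
  have hz₀A : z₀ ∈ A := by
    refine ⟨hz₀U, ?_⟩
    show z₀ ∈ Subgroup.centralizer (U : Set G)
    rw [Subgroup.mem_centralizer_iff]
    intro u _
    exact hz₀c u
  have ha1 : a ≠ 1 := fun h => haZ₁ (Or.inl h)
  have haz : a ≠ z₀ := fun h => haZ₁ (Or.inr h)
  have hc6 : (c : G) * c * c * ((c : G) * c * c) = (c : G) * c := by
    calc (c : G) * c * c * ((c : G) * c * c) = ((c : G) * c * ((c : G) * c)) * ((c : G) * c) := by
          simp only [mul_assoc]
      _ = (c : G) * c := by rw [← pow_four_eq, hc4, one_mul]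
  have hc4' : (c : G) * c * ((c : G) * c) = 1 := by
    rw [← pow_four_eq]
    exact hc4
  by_cases hcc : (c : G) * c = 1
  · have hc3 : (c : G) * c * c = c := by rw [hcc, one_mul]
    rcases hAcases z₀ hz₀A with h | h | h | h
    · exact hz₀1 h
    · rcases hAcases a haA with h' | h' | h' | h'
      · exact ha1 h'
      · exact haz (h'.trans h.symm)
      · exact ha1 (h'.trans hcc)
      · exact haz ((h'.trans hc3).trans h.symm)
    · exact hz₀1 (h.trans hcc)
    · rcases hAcases a haA with h' | h' | h' | h'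
      · exact ha1 h'
      · exact haz ((h'.trans hc3.symm).trans h.symm)
      · exact ha1 (h'.trans hcc)
      · exact haz (h'.trans h.symm)
  have hz₀w : z₀ = (c : G) * c := by
    rcases hAcases z₀ hz₀A with h | h | h | h
    · exact absurd h hz₀1
    · exfalso
      apply hcc
      rw [← h]
      exact hz₀z
    · exact h
    · exfalso
      apply hcc
      rw [← hc6, ← h]
      exact hz₀z
  have hAinv : ∀ m ∈ A, m * m = 1 → m = 1 ∨ m = z₀ := by
    intro m hm hmm
    rcases hAcases m hm with h | h | h | h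
    · left; exact h
    · exfalso
      apply hcc
      rw [← h]
      exact hmm
    · right; rw [hz₀w]; exact h
    · exfalso
      apply hcc
      rw [← hc6, ← h]
      exact hmm
  have haa : a * a = z₀ := by
    rcases hAcases a haA with h | h | h | h
    · exact absurd h ha1
    · rw [h, hz₀w]
    · exact absurd (h.trans hz₀w.symm) haz
    · rw [h, hc6, hz₀w]
  have hsA : s ∉ A := by
    intro h
    rcases hAinv s h hss with h' | h'
    · exact hx₀1 h'
    · exact hx₀z h'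
  obtain ⟨b, hbU, hbA, hbc⟩ := exists_central_mod hG U A s hsU hsA
  have hb4 : b * b * (b * b) = 1 := by
    rw [← pow_four_eq]
    exact hexp b
  obtain ⟨t, htU, htA, htt, htc⟩ : ∃ t ∈ U, t ∉ A ∧ t * t = 1 ∧ ∀ x : G, x * t * x⁻¹ * t⁻¹ ∈ A := by
    by_cases hbb : b * b = 1
    · exact ⟨b, hbU, hbA, hbb, hbc⟩
    by_cases hbbA : b * b ∈ A
    · have hbbz : b * b = z₀ := by
        rcases hAinv _ hbbA hb4 with h | h
        · exact absurd h hbb
        · exact h
      have hab : b⁻¹ * a = a * b⁻¹ := hAU a haA b⁻¹ (U.inv_mem hbU)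
      refine ⟨a * b⁻¹, U.mul_mem haU (U.inv_mem hbU), ?_, ?_, ?_⟩
      · intro h
        apply hbA
        have : b = (a * b⁻¹)⁻¹ * a := by group
        rw [this]
        exact A.mul_mem (A.inv_mem h) haA
      · calc a * b⁻¹ * (a * b⁻¹) = a * (b⁻¹ * a) * b⁻¹ := by group
          _ = a * (a * b⁻¹) * b⁻¹ := by rw [hab]
          _ = (a * a) * (b * b)⁻¹ := by group
          _ = 1 := by rw [haa, hbbz, mul_inv_cancel]
      · intro x
        set m := x * b * x⁻¹ * b⁻¹ with hm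
        have hmA : m ∈ A := hbc x
        have hmb : b * m⁻¹ = m⁻¹ * b := hAU m⁻¹ (A.inv_mem hmA) b hbU
        have hxa : x * a * x⁻¹ ∈ A := (inferInstance : A.Normal).conj_mem a haA x
        have : x * (a * b⁻¹) * x⁻¹ * (a * b⁻¹)⁻¹ = (x * a * x⁻¹) * m⁻¹ * a⁻¹ := by
          have e1 : x * (a * b⁻¹) * x⁻¹ * (a * b⁻¹)⁻¹ =
              (x * a * x⁻¹) * (b⁻¹ * (m⁻¹ * b)) * a⁻¹ := by
            rw [hm]; group
          rw [e1, ← hmb]
          group
        rw [this]
        exact A.mul_mem (A.mul_mem hxa (A.inv_mem hmA)) (A.inv_mem haA)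
    · refine ⟨b * b, U.mul_mem hbU hbU, hbbA, hb4, ?_⟩
      intro x
      set m := x * b * x⁻¹ * b⁻¹ with hm
      have hmA : m ∈ A := hbc x
      have hmb : b * m = m * b := hAU m hmA b hbU
      have : x * (b * b) * x⁻¹ * (b * b)⁻¹ = m * m := by
        have e1 : x * (b * b) * x⁻¹ * (b * b)⁻¹ = m * (b * m) * b⁻¹ := by
          rw [hm]; group
        rw [e1, hmb]
        group
      rw [this]
      exact A.mul_mem hmA hmA
  have htc' : ∀ x : G, x * t * x⁻¹ * t⁻¹ = 1 ∨ x * t * x⁻¹ * t⁻¹ = z₀ := by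
    intro x
    set m := x * t * x⁻¹ * t⁻¹ with hm
    have hmA : m ∈ A := htc x
    have hmt : t * m = m * t := hAU m hmA t htU
    apply hAinv m hmA
    have e1 : (m * t) * (m * t) = 1 := by
      have : m * t = x * t * x⁻¹ := by rw [hm]; group
      rw [this]
      calc x * t * x⁻¹ * (x * t * x⁻¹) = x * (t * t) * x⁻¹ := by group
        _ = 1 := by rw [htt]; group
    calc m * m = m * m * (t * t) := by rw [htt, mul_one]
      _ = m * (m * t) * t := by group
      _ = m * (t * m) * t := by rw [hmt]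
      _ = (m * t) * (m * t) := by group
      _ = 1 := e1
  exact htA ⟨htU, hcentU t z₀ hz₀c hz₀z htc'⟩

end Cfsg.Agent.Lib.Helper9.C6D4
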