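import Mathlib
import Cfsg.Agent.Lib.Helper9.C6D4a

set_option autoImplicit false

/-! Groups all of whose squares lie in a central pair `{1, z}`: anticommuting pairs. -/

namespace Cfsg.Agent.Lib.Helper9.C6D4

structure ExtraData (G : Type*) [Group G] (z : G) : Prop where
  z_ne : z ≠ 1
  zz : z * z = 1
  zc : ∀ x : G, x * z = z * x
  sq : ∀ x : G, x * x = 1 ∨ x * x = z
  cen : ∀ x : G, (∀ y : G, x * y = y * x) → x = 1 ∨ x = z

variable {G : Type*} [Group G] {z : G}

/-- `x` and `y` anticommute (with respect to the central involution `z`) -/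
def AC (z x y : G) : Prop := x * y = z * (y * x)

theorem ExtraData.comm_or (h : ExtraData G z) (x y : G) : x * y = y * x ∨ AC z x y := by
  have key : (x * x) * (y * x) * (y * y) = x * ((x * y) * (x * y)) * y := by group
  have hE : ∀ e₁ e₂ e₃ : G, (e₁ = 1 ∨ e₁ = z) → (e₂ = 1 ∨ e₂ = z) → (e₃ = 1 ∨ e₃ = z) →
      e₂ * (y * x) * e₃ = x * e₁ * y → x * y = y * x ∨ x * y = z * (y * x) := by
    intro e₁ e₂ e₃ h1 h2 h3 hk
    have c1 : ∀ g : G, g * e₁ = e₁ * g := by
      rcases h1 with rfl | rfl
      · intro g; simp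
      · exact h.zc
    have c3 : ∀ g : G, g * e₃ = e₃ * g := by
      rcases h3 with rfl | rfl
      · intro g; simp
      · exact h.zc
    have ee1 : e₁ * e₁ = 1 := by
      rcases h1 with rfl | rfl
      · simp
      · exact h.zz
    have hxy : x * y = (e₁ * e₂ * e₃) * (y * x) := by
      calc x * y = (e₁ * e₁) * (x * y) := by rw [ee1, one_mul]
        _ = e₁ * (e₁ * x * y) := by group
        _ = e₁ * (x * e₁ * y) := by rw [c1 x]
        _ = e₁ * (e₂ * (y * x) * e₃) := by rw [hk]
        _ = e₁ * (e₂ * (e₃ * (y * x))) := by rw [mul_assoc e₂, c3 (y * x)]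
        _ = (e₁ * e₂ * e₃) * (y * x) := by group
    have hmem : e₁ * e₂ * e₃ = 1 ∨ e₁ * e₂ * e₃ = z :=
      (pairSubgroup z h.zz).mul_mem ((pairSubgroup z h.zz).mul_mem h1 h2) h3
    rcases hmem with h' | h'
    · left
      rw [hxy, h', one_mul]
    · right
      rw [hxy, h']
  exact hE _ _ _ (h.sq (x * y)) (h.sq x) (h.sq y) key

theorem AC.symm (h : ExtraData G z) {x y : G} (hxy : AC z x y) : AC z y x := by
  unfold AC at *
  rw [hxy, ← mul_assoc, h.zz, one_mul]

theorem AC.ne (h : ExtraData G z) {x y : G} (hxy : AC z x y) : x * y ≠ y * x := by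
  intro hc
  unfold AC at hxy
  rw [hc] at hxy
  apply h.z_ne
  have h1 : z * (y * x) = 1 * (y * x) := by rw [one_mul, ← hxy]
  exact mul_right_cancel h1

theorem AC.ne_one (h : ExtraData G z) {x y : G} (hxy : AC z x y) : x ≠ 1 := by
  rintro rfl
  exact hxy.ne h (by simp)

theorem AC.ne_z (h : ExtraData G z) {x y : G} (hxy : AC z x y) : x ≠ z := by
  rintro rfl
  exact hxy.ne h (h.zc y).symm

/-- `(x*y)*(x*y) = z * (x*x) * (y*y)` for an anticommuting pair -/
theorem AC.mul_sq (h : ExtraData G z) {x y : G} (hxy : AC z x y) :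
    (x * y) * (x * y) = z * ((x * x) * (y * y)) := by
  have hyx : y * x = z * (x * y) := hxy.symm h
  calc (x * y) * (x * y) = x * (y * x) * y := by group
    _ = x * (z * (x * y)) * y := by rw [hyx]
    _ = (x * z) * (x * y * y) := by group
    _ = (z * x) * (x * y * y) := by rw [h.zc x]
    _ = z * ((x * x) * (y * y)) := by group

theorem AC.mul_left (h : ExtraData G z) {x y : G} (hxy : AC z x y) : AC z (x * y) x := by
  unfold AC at *
  have hyx : y * x = z * (x * y) := AC.symm h hxy
  calc x * y * x = x * (y * x) := by group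
    _ = x * (z * (x * y)) := by rw [hyx]
    _ = (x * z) * (x * y) := by group
    _ = (z * x) * (x * y) := by rw [h.zc x]
    _ = z * (x * (x * y)) := by group

/-- an element commuting with `x` and `y` commutes with the powers used in `adjust` -/
theorem comm_word {x y c : G} (hcx : c * x = x * c) (hcy : c * y = y * c) (i j : ℕ) :
    c * (y ^ j * x ^ i) = (y ^ j * x ^ i) * c := by
  have h1 : Commute c x := hcx
  have h2 : Commute c y := hcy
  exact ((h2.pow_right j).mul_right (h1.pow_right i)).eq

theorem adjust (h : ExtraData G z) {x y : G} (hxy : AC z x y) (g : G) :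
    ∃ i j : Fin 2, (g * (y ^ (j : ℕ) * x ^ (i : ℕ))) * x = x * (g * (y ^ (j : ℕ) * x ^ (i : ℕ))) ∧
      (g * (y ^ (j : ℕ) * x ^ (i : ℕ))) * y = y * (g * (y ^ (j : ℕ) * x ^ (i : ℕ))) := by
  have hyx : y * x = z * (x * y) := hxy.symm h
  obtain ⟨j, hj⟩ : ∃ j : Fin 2, (g * y ^ (j : ℕ)) * x = x * (g * y ^ (j : ℕ)) := by
    rcases h.comm_or g x with h' | h'
    · exact ⟨0, by simpa using h'⟩
    · refine ⟨1, ?_⟩
      unfold AC at h'
      simp only [Fin.val_one, pow_one]
      calc g * y * x = g * (y * x) := by group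
        _ = g * (z * (x * y)) := by rw [hyx]
        _ = (g * z) * (x * y) := by group
        _ = (z * g) * (x * y) := by rw [h.zc g]
        _ = z * (g * x) * y := by group
        _ = z * (z * (x * g)) * y := by rw [h']
        _ = (z * z) * (x * (g * y)) := by group
        _ = x * (g * y) := by rw [h.zz, one_mul]
  set g' := g * y ^ (j : ℕ) with hg'
  obtain ⟨i, hi1, hi2⟩ : ∃ i : Fin 2, (g' * x ^ (i : ℕ)) * x = x * (g' * x ^ (i : ℕ)) ∧
      (g' * x ^ (i : ℕ)) * y = y * (g' * x ^ (i : ℕ)) := by
    rcases h.comm_or g' y with h' | h'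
    · exact ⟨0, by simpa using hj, by simpa using h'⟩
    · refine ⟨1, ?_, ?_⟩
      · simp only [Fin.val_one, pow_one]
        calc g' * x * x = x * g' * x := by rw [hj]
          _ = x * (g' * x) := by group
      · unfold AC at h' hxy
        simp only [Fin.val_one, pow_one]
        calc g' * x * y = g' * (x * y) := by group
          _ = g' * (z * (y * x)) := by rw [hxy]
          _ = (g' * z) * (y * x) := by group
          _ = (z * g') * (y * x) := by rw [h.zc g']
          _ = z * (g' * y) * x := by group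
          _ = z * (z * (y * g')) * x := by rw [h']
          _ = (z * z) * (y * (g' * x)) := by group
          _ = y * (g' * x) := by rw [h.zz, one_mul]
  refine ⟨i, j, ?_, ?_⟩
  · rw [← mul_assoc g]
    exact hi1
  · rw [← mul_assoc g]
    exact hi2

theorem exists_second_pair [Finite G] (h : ExtraData G z) (hcard : 8 < Nat.card G) {x y : G}
    (hxy : AC z x y) :
    ∃ u v : G, u * x = x * u ∧ u * y = y * u ∧ v * x = x * v ∧ v * y = y * v ∧ AC z u v := by
  by_contra hcon
  push Not at hcon
  have hC : ∀ c : G, c * x = x * c → c * y = y * c → c = 1 ∨ c = z := by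
    intro c hcx hcy
    apply h.cen
    intro g
    obtain ⟨i, j, h1, h2⟩ := adjust h hxy g
    set w := y ^ (j : ℕ) * x ^ (i : ℕ) with hw
    have hcw : c * w = w * c := comm_word hcx hcy _ _
    have hcw' : c * w⁻¹ = w⁻¹ * c := by
      have : Commute c w := hcw
      exact this.inv_right.eq
    have hcg : c * (g * w) = (g * w) * c := by
      rcases h.comm_or c (g * w) with h' | h'
      · exact h'
      · exact absurd h' (hcon c (g * w) hcx hcy h1 h2)
    calc c * g = c * (g * w) * w⁻¹ := by group
      _ = (g * w) * c * w⁻¹ := by rw [hcg]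
      _ = (g * w) * (c * w⁻¹) := by group
      _ = (g * w) * (w⁻¹ * c) := by rw [hcw']
      _ = g * c := by group
  have hsurj : Function.Surjective (fun t : Fin 2 × Fin 2 × Fin 2 =>
      z ^ (t.1 : ℕ) * (y ^ (t.2.2 : ℕ) * x ^ (t.2.1 : ℕ))⁻¹) := by
    intro g
    obtain ⟨i, j, h1, h2⟩ := adjust h hxy g
    rcases hC _ h1 h2 with h' | h'
    · refine ⟨(0, i, j), ?_⟩
      simp only [Fin.val_zero, pow_zero, one_mul]
      exact (eq_inv_of_mul_eq_one_left h').symm
    · refine ⟨(1, i, j), ?_⟩
      simp only [Fin.val_one, pow_one]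
      rw [← h']
      group
  have h8 := Nat.card_le_card_of_surjective _ hsurj
  have : Nat.card (Fin 2 × Fin 2 × Fin 2) = 8 := by
    simp [Nat.card_eq_fintype_card]
  omega

end Cfsg.Agent.Lib.Helper9.C6D4
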