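import Mathlib
import Cfsg.Agent.Lib.Helper9.C6D4c

set_option autoImplicit false

/-! Minus type: no two pairs of the same kind. -/

namespace Cfsg.Agent.Lib.Helper9.C6D4

theorem closure_comm {G : Type*} [Group G] (S : Set G) (hS : ∀ x ∈ S, ∀ y ∈ S, x * y = y * x) :
    ∀ x ∈ Subgroup.closure S, ∀ y ∈ Subgroup.closure S, x * y = y * x := by
  have h1 : Subgroup.closure S ≤ Subgroup.centralizer S := by
    rw [Subgroup.closure_le]
    intro x hx
    rw [SetLike.mem_coe, Subgroup.mem_centralizer_iff]
    intro s hs
    exact hS s hs x hx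
  intro x hx y hy
  have h2 : Subgroup.closure S ≤ Subgroup.centralizer {x} := by
    rw [Subgroup.closure_le]
    intro s hs
    rw [SetLike.mem_coe, Subgroup.mem_centralizer_iff]
    intro t ht
    rw [Set.mem_singleton_iff] at ht
    subst ht
    exact ((Subgroup.mem_centralizer_iff.mp (h1 hx)) s hs).symm
  exact Subgroup.mem_centralizer_iff.mp (h2 hy) x rfl

theorem closure_sq_one {G : Type*} [Group G] (S : Set G)
    (hS : ∀ x ∈ S, ∀ y ∈ S, x * y = y * x) (hsq : ∀ x ∈ S, x * x = 1) :
    ∀ x ∈ Subgroup.closure S, x * x = 1 := by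
  intro x hx
  induction hx using Subgroup.closure_induction with
  | mem x hx => exact hsq x hx
  | one => simp
  | mul x y hx hy ihx ihy =>
    have hc := closure_comm S hS x hx y hy
    calc x * y * (x * y) = x * (y * x) * y := by group
      _ = x * (x * y) * y := by rw [hc]
      _ = (x * x) * (y * y) := by group
      _ = 1 := by rw [ihx, ihy, one_mul]
  | inv x hx ih =>
    calc x⁻¹ * x⁻¹ = (x * x)⁻¹ := by group
      _ = 1 := by rw [ih, inv_one]

variable {G : Type*} [Group G] [Finite G] {z : G}

/-- the minus-type hypothesis excludes commuting involutions `e₁`, `e₂` independent modulo `z` -/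
theorem no_rank3 (h : ExtraData G z) (hcard : Nat.card G = 32)
    (hminus : ∀ A : Subgroup G, IsMulCommutative A → (∀ x ∈ A, x * x = 1) → Nat.card A < 8)
    (e₁ e₂ a a' : G) (h1 : e₁ * e₁ = 1) (h2 : e₂ * e₂ = 1) (h12 : e₁ * e₂ = e₂ * e₁)
    (ha : AC z e₁ a) (hca : e₂ * a = a * e₂) (ha' : AC z e₂ a') : False := by
  classical
  have hne1 : e₁ ≠ 1 := ha.ne_one h
  have hnez : e₁ ≠ z := ha.ne_z h
  have hne1' : e₂ ≠ 1 := ha'.ne_one h
  have hnez' : e₂ ≠ z := ha'.ne_z h
  have hne12 : e₂ ≠ e₁ := by
    rintro rfl
    exact ha.ne h hca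
  have hne12' : e₂ ≠ z * e₁ := by
    intro he
    rw [he] at hca
    unfold AC at ha
    have : a * e₁ = z * (a * e₁) := by
      calc a * e₁ = (z * z) * (a * e₁) := by rw [h.zz, one_mul]
        _ = z * (z * (a * e₁)) := by group
        _ = z * (e₁ * a) := by rw [← ha]
        _ = (z * e₁) * a := by group
        _ = a * (z * e₁) := hca
        _ = (a * z) * e₁ := by group
        _ = (z * a) * e₁ := by rw [h.zc a]
        _ = z * (a * e₁) := by group
    apply h.z_ne
    have h1 : z * (a * e₁) = 1 * (a * e₁) := by rw [one_mul, ← this]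
    exact mul_right_cancel h1
  have hze1 : z * e₁ ≠ 1 := by
    intro he
    apply hnez
    have : e₁ = z⁻¹ := eq_inv_of_mul_eq_one_right he
    rw [this]
    exact inv_eq_of_mul_eq_one_left h.zz
  have hze1' : z * e₁ ≠ z := by
    intro he
    apply hne1
    have : z * e₁ = z * 1 := by rw [mul_one]; exact he
    exact mul_left_cancel this
  have hze1'' : z * e₁ ≠ e₁ := by
    intro he
    apply h.z_ne
    have : z * e₁ = 1 * e₁ := by rw [one_mul]; exact he
    exact mul_right_cancel this
  set S : Set G := {z, e₁, e₂} with hS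
  have hScomm : ∀ x ∈ S, ∀ y ∈ S, x * y = y * x := by
    intro x hx y hy
    simp only [hS, Set.mem_insert_iff, Set.mem_singleton_iff] at hx hy
    rcases hx with rfl | rfl | rfl <;> rcases hy with rfl | rfl | rfl
    · rfl
    · exact (h.zc _).symm
    · exact (h.zc _).symm
    · exact h.zc _
    · rfl
    · exact h12
    · exact h.zc _
    · exact h12.symm
    · rfl
  have hSsq : ∀ x ∈ S, x * x = 1 := by
    intro x hx
    simp only [hS, Set.mem_insert_iff, Set.mem_singleton_iff] at hx
    rcases hx with rfl | rfl | rfl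
    · exact h.zz
    · exact h1
    · exact h2
  set A : Subgroup G := Subgroup.closure S with hA
  have hAcomm : IsMulCommutative A :=
    ⟨⟨fun a b => Subtype.ext (closure_comm S hScomm a.1 a.2 b.1 b.2)⟩⟩
  have hAsq : ∀ x ∈ A, x * x = 1 := closure_sq_one S hScomm hSsq
  have hlt := hminus A hAcomm hAsq
  have hdvd : Nat.card A ∣ 32 := by
    rw [← hcard]
    exact Subgroup.card_subgroup_dvd_card A
  have hzA : z ∈ A := Subgroup.subset_closure (by simp [hS])
  have he1A : e₁ ∈ A := Subgroup.subset_closure (by simp [hS])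
  have he2A : e₂ ∈ A := Subgroup.subset_closure (by simp [hS])
  set T : Finset G := {1, z, e₁, z * e₁, e₂} with hT
  have hTcard : T.card = 5 := by
    rw [hT, Finset.card_insert_of_notMem, Finset.card_insert_of_notMem,
      Finset.card_insert_of_notMem, Finset.card_insert_of_notMem, Finset.card_singleton]
    · simp only [Finset.mem_singleton]
      exact fun he => hne12' he.symm
    · simp only [Finset.mem_insert, Finset.mem_singleton, not_or]
      exact ⟨fun he => hze1'' he.symm, fun he => hne12 he.symm⟩
    · simp only [Finset.mem_insert, Finset.mem_singleton, not_or]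
      exact ⟨fun he => hnez he.symm, fun he => hze1' he.symm, fun he => hnez' he.symm⟩
    · simp only [Finset.mem_insert, Finset.mem_singleton, not_or]
      exact ⟨fun he => h.z_ne he.symm, fun he => hne1 he.symm, fun he => hze1 he.symm,
        fun he => hne1' he.symm⟩
  have hTA : ∀ t ∈ T, t ∈ A := by
    intro t ht
    simp only [hT, Finset.mem_insert, Finset.mem_singleton] at ht
    rcases ht with rfl | rfl | rfl | rfl | rfl
    · exact A.one_mem
    · exact hzA
    · exact he1A
    · exact A.mul_mem hzA he1A
    · exact he2A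
  have h5 : 5 ≤ Nat.card A := by
    haveI : Fintype A := Fintype.ofFinite A
    rw [Nat.card_eq_fintype_card, ← hTcard, ← Fintype.card_coe]
    exact Fintype.card_le_of_injective (fun t : T => (⟨t.1, hTA t.1 t.2⟩ : A))
      (fun t t' htt => Subtype.ext (by
        have := congrArg (fun a : A => (a : G)) htt
        exact this))
  generalize Nat.card A = n at *
  interval_cases n <;> omega

/-- the pair contains an involution -/
def HasInv (s t : G) : Prop := s * s = 1 ∨ t * t = 1 ∨ (s * t) * (s * t) = 1

omit [Finite G] in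
theorem inv_of_hasInv (h : ExtraData G z) {s t : G} (hst : AC z s t) (hi : HasInv s t) :
    ∃ e a : G, e * e = 1 ∧ AC z e a ∧
      (∀ c : G, c * s = s * c → c * t = t * c → c * e = e * c ∧ c * a = a * c) := by
  rcases hi with hi | hi | hi
  · exact ⟨s, t, hi, hst, fun c h1 h2 => ⟨h1, h2⟩⟩
  · exact ⟨t, s, hi, hst.symm h, fun c h1 h2 => ⟨h2, h1⟩⟩
  · refine ⟨s * t, s, hi, hst.mul_left h, fun c h1 h2 => ⟨?_, h1⟩⟩
    calc c * (s * t) = (c * s) * t := by group
      _ = (s * c) * t := by rw [h1]
      _ = s * (c * t) := by group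
      _ = s * (t * c) := by rw [h2]
      _ = (s * t) * c := by group

theorem no_two_inv (h : ExtraData G z) (hcard : Nat.card G = 32)
    (hminus : ∀ A : Subgroup G, IsMulCommutative A → (∀ x ∈ A, x * x = 1) → Nat.card A < 8)
    {s t s' t' : G} (hst : AC z s t) (hst' : AC z s' t')
    (c1 : s * s' = s' * s) (c2 : s * t' = t' * s) (c3 : t * s' = s' * t) (c4 : t * t' = t' * t)
    (hi : HasInv s t) (hi' : HasInv s' t') : False := by
  obtain ⟨e, a, hee, hea, hec⟩ := inv_of_hasInv h hst hi
  obtain ⟨e', a', hee', hea', hec'⟩ := inv_of_hasInv h hst' hi'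
  have hs := (hec' s c1 c2).1
  have ht := (hec' t c3 c4).1
  have h3 := hec e' hs.symm ht.symm
  exact no_rank3 h hcard hminus e e' a a' hee hee' h3.1.symm hea h3.2 hea'

theorem no_two_quat (h : ExtraData G z) (hcard : Nat.card G = 32)
    (hminus : ∀ A : Subgroup G, IsMulCommutative A → (∀ x ∈ A, x * x = 1) → Nat.card A < 8)
    {s t s' t' : G} (hst : AC z s t) (hst' : AC z s' t')
    (c1 : s * s' = s' * s) (c2 : s * t' = t' * s) (c3 : t * s' = s' * t) (c4 : t * t' = t' * t)
    (hn : ¬ HasInv s t) (hn' : ¬ HasInv s' t') : False := by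
  unfold HasInv at hn hn'
  push Not at hn hn'
  have hss : s * s = z := (h.sq s).resolve_left hn.1
  have htt : t * t = z := (h.sq t).resolve_left hn.2.1
  have hss' : s' * s' = z := (h.sq s').resolve_left hn'.1
  have htt' : t' * t' = z := (h.sq t').resolve_left hn'.2.1
  have hts : t * s = z * (s * t) := hst.symm h
  have hts' : t' * s' = z * (s' * t') := hst'.symm h
  unfold AC at hst hst'
  have e11 : (s * s') * (s * s') = 1 := by
    calc (s * s') * (s * s') = s * (s' * s) * s' := by group
      _ = s * (s * s') * s' := by rw [← c1]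
      _ = (s * s) * (s' * s') := by group
      _ = 1 := by rw [hss, hss', h.zz]
  have e22 : (t * t') * (t * t') = 1 := by
    calc (t * t') * (t * t') = t * (t' * t) * t' := by group
      _ = t * (t * t') * t' := by rw [← c4]
      _ = (t * t) * (t' * t') := by group
      _ = 1 := by rw [htt, htt', h.zz]
  have e12 : (s * s') * (t * t') = (t * t') * (s * s') := by
    have l : (s * s') * (t * t') = z * ((t * s) * (s' * t')) := by
      calc (s * s') * (t * t') = s * (s' * t) * t' := by group
        _ = s * (t * s') * t' := by rw [← c3]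
        _ = (s * t) * (s' * t') := by group
        _ = (z * (t * s)) * (s' * t') := by rw [hst]
        _ = z * ((t * s) * (s' * t')) := by group
    have r : (t * t') * (s * s') = z * ((t * s) * (s' * t')) := by
      calc (t * t') * (s * s') = t * (t' * s) * s' := by group
        _ = t * (s * t') * s' := by rw [← c2]
        _ = (t * s) * (t' * s') := by group
        _ = (t * s) * (z * (s' * t')) := by rw [hts']
        _ = ((t * s) * z) * (s' * t') := by group
        _ = (z * (t * s)) * (s' * t') := by rw [h.zc (t * s)]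
        _ = z * ((t * s) * (s' * t')) := by group
    rw [l, r]
  have ha : AC z (s * s') t := by
    unfold AC
    calc s * s' * t = s * (s' * t) := by group
      _ = s * (t * s') := by rw [← c3]
      _ = (s * t) * s' := by group
      _ = (z * (t * s)) * s' := by rw [hst]
      _ = z * (t * (s * s')) := by group
  have hca : (t * t') * t = t * (t * t') := by
    calc (t * t') * t = t * (t' * t) := by group
      _ = t * (t * t') := by rw [← c4]
  have ha' : AC z (t * t') s := by
    unfold AC
    calc t * t' * s = t * (t' * s) := by group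
      _ = t * (s * t') := by rw [← c2]
      _ = (t * s) * t' := by group
      _ = (z * (s * t)) * t' := by rw [hts]
      _ = z * (s * (t * t')) := by group
  exact no_rank3 h hcard hminus (s * s') (t * t') t s e11 e22 e12 ha hca ha'

theorem no_three_pairs (h : ExtraData G z) (hcard : Nat.card G = 32)
    (hminus : ∀ A : Subgroup G, IsMulCommutative A → (∀ x ∈ A, x * x = 1) → Nat.card A < 8)
    {x y u v c d : G} (hxy : AC z x y) (huv : AC z u v) (hcd : AC z c d)
    (a1 : x * u = u * x) (a2 : x * v = v * x) (a3 : y * u = u * y) (a4 : y * v = v * y)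
    (b1 : x * c = c * x) (b2 : x * d = d * x) (b3 : y * c = c * y) (b4 : y * d = d * y)
    (e1 : u * c = c * u) (e2 : u * d = d * u) (e3 : v * c = c * v) (e4 : v * d = d * v) :
    False := by
  by_cases h1 : HasInv x y <;> by_cases h2 : HasInv u v <;> by_cases h3 : HasInv c d
  · exact no_two_inv h hcard hminus hxy huv a1 a2 a3 a4 h1 h2
  · exact no_two_inv h hcard hminus hxy huv a1 a2 a3 a4 h1 h2
  · exact no_two_inv h hcard hminus hxy hcd b1 b2 b3 b4 h1 h3
  · exact no_two_quat h hcard hminus huv hcd e1 e2 e3 e4 h2 h3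
  · exact no_two_inv h hcard hminus huv hcd e1 e2 e3 e4 h2 h3
  · exact no_two_quat h hcard hminus hxy hcd b1 b2 b3 b4 h1 h3
  · exact no_two_quat h hcard hminus hxy huv a1 a2 a3 a4 h1 h2
  · exact no_two_quat h hcard hminus hxy huv a1 a2 a3 a4 h1 h2

end Cfsg.Agent.Lib.Helper9.C6D4
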