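import Mathlib
import Cfsg.Agent.Lib.Helper9.C6D4d

set_option autoImplicit false

/-! The structure of an extraspecial group of order `2^5` of minus type. -/

namespace Cfsg.Agent.Lib.Helper9.C6D4

variable {G : Type*} [Group G] {z : G}

theorem AC.right_mul (h : ExtraData G z) {x y : G} (hxy : AC z x y) : AC z x (x * y) := by
  have hyx : y * x = z * (x * y) := hxy.symm h
  unfold AC
  symm
  calc z * ((x * y) * x) = z * (x * (y * x)) := by group
    _ = z * (x * (z * (x * y))) := by rw [hyx]
    _ = z * ((x * z) * (x * y)) := by group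
    _ = z * ((z * x) * (x * y)) := by rw [h.zc x]
    _ = (z * z) * (x * (x * y)) := by group
    _ = x * (x * y) := by rw [h.zz, one_mul]

theorem word_mem_closure (K : Subgroup G) {x y : G} (hx : x ∈ K) (hy : y ∈ K) (i j : ℕ) :
    y ^ j * x ^ i ∈ K := K.mul_mem (K.pow_mem hy j) (K.pow_mem hx i)

theorem prod_comm {s t c : G} (h1 : c * s = s * c) (h2 : c * t = t * c) :
    c * (s * t) = (s * t) * c := by
  calc c * (s * t) = (c * s) * t := by group
    _ = (s * c) * t := by rw [h1]
    _ = s * (c * t) := by group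
    _ = s * (t * c) := by rw [h2]
    _ = (s * t) * c := by group

/-- normalising a pair containing an involution to a pair of involutions -/
theorem normalize_pair (h : ExtraData G z) {x y : G} (hxy : AC z x y) (hi : HasInv x y) :
    ∃ g1 g2 : G, g1 * g1 = 1 ∧ g2 * g2 = 1 ∧ AC z g1 g2 ∧
      x ∈ Subgroup.closure ({g1, g2} : Set G) ∧ y ∈ Subgroup.closure ({g1, g2} : Set G) ∧
      (∀ c : G, c * x = x * c → c * y = y * c → c * g1 = g1 * c ∧ c * g2 = g2 * c) := by
  have hyx : AC z y x := hxy.symm h
  by_cases hxx : x * x = 1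
  · by_cases hyy : y * y = 1
    · refine ⟨x, y, hxx, hyy, hxy, ?_, ?_, fun c h1 h2 => ⟨h1, h2⟩⟩
      · exact Subgroup.subset_closure (by simp)
      · exact Subgroup.subset_closure (by simp)
    · have hyy' : y * y = z := (h.sq y).resolve_left hyy
      refine ⟨x, x * y, hxx, ?_, hxy.right_mul h, ?_, ?_, fun c h1 h2 => ⟨h1, prod_comm h1 h2⟩⟩
      · rw [hxy.mul_sq h, hxx, hyy', one_mul, h.zz]
      · exact Subgroup.subset_closure (by simp)
      · have : y = x⁻¹ * (x * y) := by group
        rw [this]
        exact Subgroup.mul_mem _ (Subgroup.inv_mem _ (Subgroup.subset_closure (by simp)))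
          (Subgroup.subset_closure (by simp))
  · have hxx' : x * x = z := (h.sq x).resolve_left hxx
    by_cases hyy : y * y = 1
    · refine ⟨y, y * x, hyy, ?_, hyx.right_mul h, ?_, ?_, fun c h1 h2 => ⟨h2, prod_comm h2 h1⟩⟩
      · rw [hyx.mul_sq h, hxx', hyy, one_mul, h.zz]
      · have : x = y⁻¹ * (y * x) := by group
        rw [this]
        exact Subgroup.mul_mem _ (Subgroup.inv_mem _ (Subgroup.subset_closure (by simp)))
          (Subgroup.subset_closure (by simp))
      · exact Subgroup.subset_closure (by simp)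
    · have hyy' : y * y = z := (h.sq y).resolve_left hyy
      exfalso
      rcases hi with hi | hi | hi
      · exact hxx hi
      · exact hyy hi
      · rw [hxy.mul_sq h, hxx', hyy', h.zz, mul_one] at hi
        exact h.z_ne hi

variable [Finite G]

theorem exists_first_pair (h : ExtraData G z) (hcard : 2 < Nat.card G) : ∃ x y : G, AC z x y := by
  obtain ⟨x, hx1, hxz⟩ : ∃ x : G, x ≠ 1 ∧ x ≠ z := by
    by_contra hcon
    push Not at hcon
    have hsurj : Function.Surjective (fun t : Fin 2 => z ^ (t : ℕ)) := by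
      intro g
      by_cases hg : g = 1
      · exact ⟨0, by simp [hg]⟩
      · exact ⟨1, by simp [hcon g hg]⟩
    have := Nat.card_le_card_of_surjective _ hsurj
    simp at this
    omega
  have : ¬ ∀ y : G, x * y = y * x := by
    intro hc
    rcases h.cen x hc with h' | h'
    · exact hx1 h'
    · exact hxz h'
  push Not at this
  obtain ⟨y, hy⟩ := this
  exact ⟨x, y, (h.comm_or x y).resolve_left hy⟩

theorem structure_minus (h : ExtraData G z) (hcard : Nat.card G = 32)
    (hminus : ∀ A : Subgroup G, IsMulCommutative A → (∀ x ∈ A, x * x = 1) → Nat.card A < 8) :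
    ∃ g1 g2 a b : G, g1 * g1 = 1 ∧ g2 * g2 = 1 ∧ AC z g1 g2 ∧ a * a = z ∧ b * b = z ∧ AC z a b ∧
      g1 * a = a * g1 ∧ g1 * b = b * g1 ∧ g2 * a = a * g2 ∧ g2 * b = b * g2 ∧
      Subgroup.closure ({g1, g2, a, b} : Set G) = ⊤ := by
  obtain ⟨x, y, hxy⟩ := exists_first_pair h (by omega)
  obtain ⟨u, v, hux, huy, hvx, hvy, huv⟩ := exists_second_pair h (by omega) hxy
  -- centraliser of the four elements
  have hC2 : ∀ c : G, c * x = x * c → c * y = y * c → c * u = u * c → c * v = v * c →
      c = 1 ∨ c = z := by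
    intro c hcx hcy hcu hcv
    by_contra hcon
    have hnc : ¬ ∀ d : G, c * d = d * c := fun hc => hcon (h.cen c hc)
    push Not at hnc
    obtain ⟨d, hd⟩ := hnc
    have hcd : AC z c d := (h.comm_or c d).resolve_left hd
    obtain ⟨i, j, h1, h2⟩ := adjust h hxy d
    set w₁ := y ^ (j : ℕ) * x ^ (i : ℕ) with hw₁
    obtain ⟨i', j', h3, h4⟩ := adjust h huv (d * w₁)
    set w₂ := v ^ (j' : ℕ) * u ^ (i' : ℕ) with hw₂
    have hxw₂ : x * w₂ = w₂ * x := comm_word hux.symm hvx.symm _ _
    have hyw₂ : y * w₂ = w₂ * y := comm_word huy.symm hvy.symm _ _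
    have hcw₁ : c * w₁ = w₁ * c := comm_word hcx hcy _ _
    have hcw₂ : c * w₂ = w₂ * c := comm_word hcu hcv _ _
    set d' := d * w₁ * w₂ with hd'
    have hd'x : d' * x = x * d' := by
      calc d' * x = d * w₁ * (w₂ * x) := by rw [hd']; group
        _ = d * w₁ * (x * w₂) := by rw [hxw₂]
        _ = (d * w₁ * x) * w₂ := by group
        _ = (x * (d * w₁)) * w₂ := by rw [h1]
        _ = x * d' := by rw [hd']; group
    have hd'y : d' * y = y * d' := by
      calc d' * y = d * w₁ * (w₂ * y) := by rw [hd']; group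
        _ = d * w₁ * (y * w₂) := by rw [hyw₂]
        _ = (d * w₁ * y) * w₂ := by group
        _ = (y * (d * w₁)) * w₂ := by rw [h2]
        _ = y * d' := by rw [hd']; group
    have hcd' : AC z c d' := by
      unfold AC at hcd ⊢
      calc c * d' = (c * d) * w₁ * w₂ := by rw [hd']; group
        _ = (z * (d * c)) * w₁ * w₂ := by rw [hcd]
        _ = z * (d * (c * w₁) * w₂) := by group
        _ = z * (d * (w₁ * c) * w₂) := by rw [hcw₁]
        _ = z * (d * w₁ * (c * w₂)) := by group
        _ = z * (d * w₁ * (w₂ * c)) := by rw [hcw₂]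
        _ = z * (d' * c) := by rw [hd']; group
    exact no_three_pairs h hcard hminus hxy huv hcd' hux.symm hvx.symm huy.symm hvy.symm
      hcx.symm hd'x.symm hcy.symm hd'y.symm hcu.symm h3.symm hcv.symm h4.symm
  -- generation
  have hgen : Subgroup.closure ({x, y, u, v} : Set G) = ⊤ := by
    rw [eq_top_iff]
    intro g _
    set K := Subgroup.closure ({x, y, u, v} : Set G) with hK
    have hxK : x ∈ K := Subgroup.subset_closure (by simp)
    have hyK : y ∈ K := Subgroup.subset_closure (by simp)
    have huK : u ∈ K := Subgroup.subset_closure (by simp)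
    have hvK : v ∈ K := Subgroup.subset_closure (by simp)
    have hzK : z ∈ K := by
      have : z = x * y * (y * x)⁻¹ := by
        unfold AC at hxy
        rw [hxy]
        group
      rw [this]
      exact K.mul_mem (K.mul_mem hxK hyK) (K.inv_mem (K.mul_mem hyK hxK))
    obtain ⟨i, j, h1, h2⟩ := adjust h hxy g
    set w₁ := y ^ (j : ℕ) * x ^ (i : ℕ) with hw₁
    obtain ⟨i', j', h3, h4⟩ := adjust h huv (g * w₁)
    set w₂ := v ^ (j' : ℕ) * u ^ (i' : ℕ) with hw₂
    have hxw₂ : x * w₂ = w₂ * x := comm_word hux.symm hvx.symm _ _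
    have hyw₂ : y * w₂ = w₂ * y := comm_word huy.symm hvy.symm _ _
    have hw₁K : w₁ ∈ K := word_mem_closure K hxK hyK _ _
    have hw₂K : w₂ ∈ K := word_mem_closure K huK hvK _ _
    set c := g * w₁ * w₂ with hc
    have hcx : c * x = x * c := by
      calc c * x = g * w₁ * (w₂ * x) := by rw [hc]; group
        _ = g * w₁ * (x * w₂) := by rw [hxw₂]
        _ = (g * w₁ * x) * w₂ := by group
        _ = (x * (g * w₁)) * w₂ := by rw [h1]
        _ = x * c := by rw [hc]; group
    have hcy : c * y = y * c := by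
      calc c * y = g * w₁ * (w₂ * y) := by rw [hc]; group
        _ = g * w₁ * (y * w₂) := by rw [hyw₂]
        _ = (g * w₁ * y) * w₂ := by group
        _ = (y * (g * w₁)) * w₂ := by rw [h2]
        _ = y * c := by rw [hc]; group
    have hcK : c ∈ K := by
      rcases hC2 c hcx hcy h3 h4 with h' | h'
      · rw [h']; exact K.one_mem
      · rw [h']; exact hzK
    have : g = c * w₂⁻¹ * w₁⁻¹ := by rw [hc]; group
    rw [this]
    exact K.mul_mem (K.mul_mem hcK (K.inv_mem hw₂K)) (K.inv_mem hw₁K)
  by_cases hi : HasInv x y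
  · have hn : ¬ HasInv u v := fun hi' =>
      no_two_inv h hcard hminus hxy huv hux.symm hvx.symm huy.symm hvy.symm hi hi'
    unfold HasInv at hn
    push Not at hn
    obtain ⟨g1, g2, h11, h22, h12, hxg, hyg, hcg⟩ := normalize_pair h hxy hi
    refine ⟨g1, g2, u, v, h11, h22, h12, (h.sq u).resolve_left hn.1, (h.sq v).resolve_left hn.2.1,
      huv, ((hcg u hux huy).1).symm, ((hcg v hvx hvy).1).symm, ((hcg u hux huy).2).symm,
      ((hcg v hvx hvy).2).symm, ?_⟩
    rw [eq_top_iff, ← hgen, Subgroup.closure_le]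
    have hle : Subgroup.closure ({g1, g2} : Set G) ≤ Subgroup.closure ({g1, g2, u, v} : Set G) := by
      apply Subgroup.closure_mono
      intro t ht
      simp only [Set.mem_insert_iff, Set.mem_singleton_iff] at ht ⊢
      tauto
    intro t ht
    simp only [Set.mem_insert_iff, Set.mem_singleton_iff] at ht
    rcases ht with rfl | rfl | rfl | rfl
    · exact hle hxg
    · exact hle hyg
    · exact Subgroup.subset_closure (by simp)
    · exact Subgroup.subset_closure (by simp)
  · have hi' : HasInv u v := by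
      by_contra hn
      exact no_two_quat h hcard hminus hxy huv hux.symm hvx.symm huy.symm hvy.symm hi hn
    unfold HasInv at hi
    push Not at hi
    obtain ⟨g1, g2, h11, h22, h12, hug, hvg, hcg⟩ := normalize_pair h huv hi'
    refine ⟨g1, g2, x, y, h11, h22, h12, (h.sq x).resolve_left hi.1, (h.sq y).resolve_left hi.2.1,
      hxy, ((hcg x hux.symm hvx.symm).1).symm, ((hcg y huy.symm hvy.symm).1).symm,
      ((hcg x hux.symm hvx.symm).2).symm, ((hcg y huy.symm hvy.symm).2).symm, ?_⟩
    rw [eq_top_iff, ← hgen, Subgroup.closure_le]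
    have hle : Subgroup.closure ({g1, g2} : Set G) ≤ Subgroup.closure ({g1, g2, x, y} : Set G) := by
      apply Subgroup.closure_mono
      intro t ht
      simp only [Set.mem_insert_iff, Set.mem_singleton_iff] at ht ⊢
      tauto
    intro t ht
    simp only [Set.mem_insert_iff, Set.mem_singleton_iff] at ht
    rcases ht with rfl | rfl | rfl | rfl
    · exact Subgroup.subset_closure (by simp)
    · exact Subgroup.subset_closure (by simp)
    · exact hle hug
    · exact hle hvg

end Cfsg.Agent.Lib.Helper9.C6D4
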