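import Mathlib

set_option autoImplicit false

/-! Ring-level identities for a dihedral pair and a quaternion pair commuting with each other. -/

namespace Cfsg.Agent.Lib.Helper9.C6D4

/-- `G1, G2` anticommuting involutions, `A, B` anticommuting with squares `-1`, commuting
with `G1, G2`. -/
structure QD {M : Type*} [Ring M] (G1 G2 A B : M) : Prop where
  g11 : G1 * G1 = 1
  g22 : G2 * G2 = 1
  g21 : G2 * G1 = -(G1 * G2)
  aa : A * A = -1
  bb : B * B = -1
  ba : B * A = -(A * B)
  ag1 : A * G1 = G1 * A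
  ag2 : A * G2 = G2 * A
  bg1 : B * G1 = G1 * B
  bg2 : B * G2 = G2 * B

namespace QD

variable {M : Type*} [Ring M] {G1 G2 A B : M}

theorem g11' (h : QD G1 G2 A B) (r : M) : G1 * (G1 * r) = r := by
  rw [← mul_assoc, h.g11, one_mul]
theorem g22' (h : QD G1 G2 A B) (r : M) : G2 * (G2 * r) = r := by
  rw [← mul_assoc, h.g22, one_mul]
theorem g21' (h : QD G1 G2 A B) (r : M) : G2 * (G1 * r) = -(G1 * (G2 * r)) := by
  rw [← mul_assoc, h.g21, neg_mul, mul_assoc]
theorem aa' (h : QD G1 G2 A B) (r : M) : A * (A * r) = -r := by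
  rw [← mul_assoc, h.aa, neg_mul, one_mul]
theorem bb' (h : QD G1 G2 A B) (r : M) : B * (B * r) = -r := by
  rw [← mul_assoc, h.bb, neg_mul, one_mul]
theorem ba' (h : QD G1 G2 A B) (r : M) : B * (A * r) = -(A * (B * r)) := by
  rw [← mul_assoc, h.ba, neg_mul, mul_assoc]
theorem ag1' (h : QD G1 G2 A B) (r : M) : A * (G1 * r) = G1 * (A * r) := by
  rw [← mul_assoc, h.ag1, mul_assoc]
theorem ag2' (h : QD G1 G2 A B) (r : M) : A * (G2 * r) = G2 * (A * r) := by
  rw [← mul_assoc, h.ag2, mul_assoc]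
theorem bg1' (h : QD G1 G2 A B) (r : M) : B * (G1 * r) = G1 * (B * r) := by
  rw [← mul_assoc, h.bg1, mul_assoc]
theorem bg2' (h : QD G1 G2 A B) (r : M) : B * (G2 * r) = G2 * (B * r) := by
  rw [← mul_assoc, h.bg2, mul_assoc]

end QD

/-- five pairwise anticommuting involutions -/
structure Cliff {M : Type*} [Ring M] (γ : Fin 5 → M) : Prop where
  sq : ∀ k, γ k * γ k = 1
  anti : ∀ k l, k ≠ l → γ k * γ l = -(γ l * γ k)

/-- the five involutions attached to a `QD` configuration -/
def gam {M : Type*} [Ring M] (G1 G2 A B : M) : Fin 5 → M :=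
  ![G1, G2, G1 * G2 * A, G1 * G2 * B, G1 * G2 * (A * B)]

theorem QD.cliff {M : Type*} [Ring M] {G1 G2 A B : M} (h : QD G1 G2 A B) :
    Cliff (gam G1 G2 A B) := by
  constructor
  · intro k
    fin_cases k <;>
    simp only [gam, Fin.zero_eta, Fin.mk_one, Fin.reduceFinMk, Matrix.cons_val_zero,
      Matrix.cons_val_one, Matrix.cons_val_two, Matrix.cons_val_three, Matrix.cons_val_four,
      Matrix.cons_val, Matrix.head_cons, Matrix.tail_cons,
      mul_assoc, neg_mul, mul_neg, neg_neg, mul_one, one_mul,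
      h.g11, h.g22, h.g21, h.aa, h.bb, h.ba, h.ag1, h.ag2, h.bg1, h.bg2,
      h.g11', h.g22', h.g21', h.aa', h.bb', h.ba', h.ag1', h.ag2', h.bg1', h.bg2']
  · intro k l hkl
    fin_cases k <;> fin_cases l <;>
    first
    | exact absurd rfl hkl
    | simp only [gam, Fin.zero_eta, Fin.mk_one, Fin.reduceFinMk, Matrix.cons_val_zero,
        Matrix.cons_val_one, Matrix.cons_val_two, Matrix.cons_val_three, Matrix.cons_val_four,
        Matrix.cons_val, Matrix.head_cons, Matrix.tail_cons,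
        mul_assoc, neg_mul, mul_neg, neg_neg, mul_one, one_mul,
        h.g11, h.g22, h.g21, h.aa, h.bb, h.ba, h.ag1, h.ag2, h.bg1, h.bg2,
        h.g11', h.g22', h.g21', h.aa', h.bb', h.ba', h.ag1', h.ag2', h.bg1', h.bg2']

end Cfsg.Agent.Lib.Helper9.C6D4
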