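import Mathlib
import Cfsg.Agent.Lib.Helper9.C6D4f

set_option autoImplicit false

/-! The thirty-two elements generated by a `QD` configuration. -/

namespace Cfsg.Agent.Lib.Helper9.C6D4

variable {M : Type*} [Ring M]

def InD (G1 G2 d : M) : Prop := d = 1 ∨ d = G1 ∨ d = G2 ∨ d = G1 * G2
def InQ (A B q : M) : Prop := q = 1 ∨ q = A ∨ q = B ∨ q = A * B

/-- `m` is, up to sign, a product `d * q` -/
def InList (G1 G2 A B m : M) : Prop :=
  ∃ d q : M, InD G1 G2 d ∧ InQ A B q ∧ (m = d * q ∨ m = -(d * q))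

variable {G1 G2 A B : M}

theorem InList.one : InList G1 G2 A B 1 :=
  ⟨1, 1, Or.inl rfl, Or.inl rfl, Or.inl (by rw [one_mul])⟩

theorem InList.neg {m : M} (h : InList G1 G2 A B m) : InList G1 G2 A B (-m) := by
  obtain ⟨d, q, hd, hq, h' | h'⟩ := h
  · exact ⟨d, q, hd, hq, Or.inr (by rw [h'])⟩
  · exact ⟨d, q, hd, hq, Or.inl (by rw [h', neg_neg])⟩

theorem QD.mulG1 (h : QD G1 G2 A B) {d : M} (hd : InD G1 G2 d) :
    ∃ d', InD G1 G2 d' ∧ (G1 * d = d' ∨ G1 * d = -d') := by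
  rcases hd with h' | h' | h' | h' <;> rw [h']
  · exact ⟨G1, Or.inr (Or.inl rfl), Or.inl (mul_one _)⟩
  · exact ⟨1, Or.inl rfl, Or.inl h.g11⟩
  · exact ⟨G1 * G2, Or.inr (Or.inr (Or.inr rfl)), Or.inl rfl⟩
  · exact ⟨G2, Or.inr (Or.inr (Or.inl rfl)), Or.inl (h.g11' _)⟩

theorem QD.mulG2 (h : QD G1 G2 A B) {d : M} (hd : InD G1 G2 d) :
    ∃ d', InD G1 G2 d' ∧ (G2 * d = d' ∨ G2 * d = -d') := by
  rcases hd with h' | h' | h' | h' <;> rw [h']
  · exact ⟨G2, Or.inr (Or.inr (Or.inl rfl)), Or.inl (mul_one _)⟩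
  · exact ⟨G1 * G2, Or.inr (Or.inr (Or.inr rfl)), Or.inr h.g21⟩
  · exact ⟨1, Or.inl rfl, Or.inl h.g22⟩
  · refine ⟨G1, Or.inr (Or.inl rfl), Or.inr ?_⟩
    rw [h.g21', h.g22]
    simp

theorem QD.mulA (h : QD G1 G2 A B) {q : M} (hq : InQ A B q) :
    ∃ q', InQ A B q' ∧ (A * q = q' ∨ A * q = -q') := by
  rcases hq with h' | h' | h' | h' <;> rw [h']
  · exact ⟨A, Or.inr (Or.inl rfl), Or.inl (mul_one _)⟩
  · exact ⟨1, Or.inl rfl, Or.inr h.aa⟩
  · exact ⟨A * B, Or.inr (Or.inr (Or.inr rfl)), Or.inl rfl⟩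
  · exact ⟨B, Or.inr (Or.inr (Or.inl rfl)), Or.inr (h.aa' _)⟩

theorem QD.mulB (h : QD G1 G2 A B) {q : M} (hq : InQ A B q) :
    ∃ q', InQ A B q' ∧ (B * q = q' ∨ B * q = -q') := by
  rcases hq with h' | h' | h' | h' <;> rw [h']
  · exact ⟨B, Or.inr (Or.inr (Or.inl rfl)), Or.inl (mul_one _)⟩
  · exact ⟨A * B, Or.inr (Or.inr (Or.inr rfl)), Or.inr h.ba⟩
  · exact ⟨1, Or.inl rfl, Or.inr h.bb⟩
  · refine ⟨A, Or.inr (Or.inl rfl), Or.inl ?_⟩
    rw [h.ba', h.bb]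
    simp

theorem QD.commA (h : QD G1 G2 A B) {d : M} (hd : InD G1 G2 d) : A * d = d * A := by
  rcases hd with h' | h' | h' | h' <;> rw [h']
  · simp
  · exact h.ag1
  · exact h.ag2
  · rw [← mul_assoc, h.ag1, mul_assoc, h.ag2, mul_assoc]

theorem QD.commB (h : QD G1 G2 A B) {d : M} (hd : InD G1 G2 d) : B * d = d * B := by
  rcases hd with h' | h' | h' | h' <;> rw [h']
  · simp
  · exact h.bg1
  · exact h.bg2
  · rw [← mul_assoc, h.bg1, mul_assoc, h.bg2, mul_assoc]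

theorem InList.of_left {x m : M} (hm : InList G1 G2 A B m)
    (hx : ∀ d, InD G1 G2 d → ∃ d', InD G1 G2 d' ∧ (x * d = d' ∨ x * d = -d')) :
    InList G1 G2 A B (x * m) := by
  obtain ⟨d, q, hd, hq, hm'⟩ := hm
  obtain ⟨d', hd', h1⟩ := hx d hd
  have key : x * (d * q) = d' * q ∨ x * (d * q) = -(d' * q) := by
    rcases h1 with h1 | h1
    · left; rw [← mul_assoc, h1]
    · right; rw [← mul_assoc, h1, neg_mul]
  rcases hm' with rfl | rfl
  · exact ⟨d', q, hd', hq, key⟩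
  · rw [mul_neg]
    exact InList.neg ⟨d', q, hd', hq, key⟩

theorem InList.of_right {x m : M} (hm : InList G1 G2 A B m)
    (hc : ∀ d, InD G1 G2 d → x * d = d * x)
    (hx : ∀ q, InQ A B q → ∃ q', InQ A B q' ∧ (x * q = q' ∨ x * q = -q')) :
    InList G1 G2 A B (x * m) := by
  obtain ⟨d, q, hd, hq, hm'⟩ := hm
  obtain ⟨q', hq', h1⟩ := hx q hq
  have key : x * (d * q) = d * q' ∨ x * (d * q) = -(d * q') := by
    rcases h1 with h1 | h1
    · left; rw [← mul_assoc, hc d hd, mul_assoc, h1]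
    · right; rw [← mul_assoc, hc d hd, mul_assoc, h1, mul_neg]
  rcases hm' with rfl | rfl
  · exact ⟨d, q', hd, hq', key⟩
  · rw [mul_neg]
    exact InList.neg ⟨d, q', hd, hq', key⟩

theorem QD.inList_G1 (h : QD G1 G2 A B) {m : M} (hm : InList G1 G2 A B m) :
    InList G1 G2 A B (G1 * m) := hm.of_left (fun _ hd => h.mulG1 hd)
theorem QD.inList_G2 (h : QD G1 G2 A B) {m : M} (hm : InList G1 G2 A B m) :
    InList G1 G2 A B (G2 * m) := hm.of_left (fun _ hd => h.mulG2 hd)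
theorem QD.inList_A (h : QD G1 G2 A B) {m : M} (hm : InList G1 G2 A B m) :
    InList G1 G2 A B (A * m) := hm.of_right (fun _ hd => h.commA hd) (fun _ hq => h.mulA hq)
theorem QD.inList_B (h : QD G1 G2 A B) {m : M} (hm : InList G1 G2 A B m) :
    InList G1 G2 A B (B * m) := hm.of_right (fun _ hd => h.commB hd) (fun _ hq => h.mulB hq)

end Cfsg.Agent.Lib.Helper9.C6D4
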