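import Mathlib
import Cfsg.Agent.Lib.Helper9.C6D4g

set_option autoImplicit false

/-! The non-central involutions among the thirty-two elements. -/

namespace Cfsg.Agent.Lib.Helper9.C6D4

variable {M : Type*} [Ring M] {G1 G2 A B : M}

theorem gam_zero : gam G1 G2 A B 0 = G1 := rfl
theorem gam_one : gam G1 G2 A B 1 = G2 := rfl
theorem gam_two : gam G1 G2 A B 2 = G1 * G2 * A := rfl
theorem gam_three : gam G1 G2 A B 3 = G1 * G2 * B := rfl
theorem gam_four : gam G1 G2 A B 4 = G1 * G2 * (A * B) := rfl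

theorem QD.invol_of_inList (h : QD G1 G2 A B) (hne : (1 : M) ≠ -1) {m : M}
    (hm : InList G1 G2 A B m) (hmm : m * m = 1) :
    m = 1 ∨ m = -1 ∨ ∃ k : Fin 5, m = gam G1 G2 A B k ∨ m = -(gam G1 G2 A B k) := by
  obtain ⟨d, q, hd, hq, hm'⟩ := hm
  have hdq : (d * q) * (d * q) = 1 := by
    rcases hm' with h' | h'
    · rw [← h']; exact hmm
    · rw [← hmm, h']; simp
  rcases hd with h' | h' | h' | h' <;> rcases hq with h'' | h'' | h'' | h'' <;>
    rw [h', h''] at hdq hm'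
  · rw [one_mul] at hm'
    rcases hm' with h3 | h3
    · left; exact h3
    · right; left; exact h3
  · exfalso
    simp only [mul_assoc, neg_mul, mul_neg, neg_neg, mul_one, one_mul,
      h.g11, h.g22, h.g21, h.aa, h.bb, h.ba, h.ag1, h.ag2, h.bg1, h.bg2,
      h.g11', h.g22', h.g21', h.aa', h.bb', h.ba', h.ag1', h.ag2', h.bg1', h.bg2'] at hdq
    exact hne hdq.symm
  · exfalso
    simp only [mul_assoc, neg_mul, mul_neg, neg_neg, mul_one, one_mul,
      h.g11, h.g22, h.g21, h.aa, h.bb, h.ba, h.ag1, h.ag2, h.bg1, h.bg2,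
      h.g11', h.g22', h.g21', h.aa', h.bb', h.ba', h.ag1', h.ag2', h.bg1', h.bg2'] at hdq
    exact hne hdq.symm
  · exfalso
    simp only [mul_assoc, neg_mul, mul_neg, neg_neg, mul_one, one_mul,
      h.g11, h.g22, h.g21, h.aa, h.bb, h.ba, h.ag1, h.ag2, h.bg1, h.bg2,
      h.g11', h.g22', h.g21', h.aa', h.bb', h.ba', h.ag1', h.ag2', h.bg1', h.bg2'] at hdq
    exact hne hdq.symm
  · right; right
    refine ⟨0, ?_⟩
    rw [gam_zero]
    rw [mul_one] at hm'
    exact hm'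
  · exfalso
    simp only [mul_assoc, neg_mul, mul_neg, neg_neg, mul_one, one_mul,
      h.g11, h.g22, h.g21, h.aa, h.bb, h.ba, h.ag1, h.ag2, h.bg1, h.bg2,
      h.g11', h.g22', h.g21', h.aa', h.bb', h.ba', h.ag1', h.ag2', h.bg1', h.bg2'] at hdq
    exact hne hdq.symm
  · exfalso
    simp only [mul_assoc, neg_mul, mul_neg, neg_neg, mul_one, one_mul,
      h.g11, h.g22, h.g21, h.aa, h.bb, h.ba, h.ag1, h.ag2, h.bg1, h.bg2,
      h.g11', h.g22', h.g21', h.aa', h.bb', h.ba', h.ag1', h.ag2', h.bg1', h.bg2'] at hdq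
    exact hne hdq.symm
  · exfalso
    simp only [mul_assoc, neg_mul, mul_neg, neg_neg, mul_one, one_mul,
      h.g11, h.g22, h.g21, h.aa, h.bb, h.ba, h.ag1, h.ag2, h.bg1, h.bg2,
      h.g11', h.g22', h.g21', h.aa', h.bb', h.ba', h.ag1', h.ag2', h.bg1', h.bg2'] at hdq
    exact hne hdq.symm
  · right; right
    refine ⟨1, ?_⟩
    rw [gam_one]
    rw [mul_one] at hm'
    exact hm'
  · exfalso
    simp only [mul_assoc, neg_mul, mul_neg, neg_neg, mul_one, one_mul,
      h.g11, h.g22, h.g21, h.aa, h.bb, h.ba, h.ag1, h.ag2, h.bg1, h.bg2,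
      h.g11', h.g22', h.g21', h.aa', h.bb', h.ba', h.ag1', h.ag2', h.bg1', h.bg2'] at hdq
    exact hne hdq.symm
  · exfalso
    simp only [mul_assoc, neg_mul, mul_neg, neg_neg, mul_one, one_mul,
      h.g11, h.g22, h.g21, h.aa, h.bb, h.ba, h.ag1, h.ag2, h.bg1, h.bg2,
      h.g11', h.g22', h.g21', h.aa', h.bb', h.ba', h.ag1', h.ag2', h.bg1', h.bg2'] at hdq
    exact hne hdq.symm
  · exfalso
    simp only [mul_assoc, neg_mul, mul_neg, neg_neg, mul_one, one_mul,
      h.g11, h.g22, h.g21, h.aa, h.bb, h.ba, h.ag1, h.ag2, h.bg1, h.bg2,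
      h.g11', h.g22', h.g21', h.aa', h.bb', h.ba', h.ag1', h.ag2', h.bg1', h.bg2'] at hdq
    exact hne hdq.symm
  · exfalso
    simp only [mul_assoc, neg_mul, mul_neg, neg_neg, mul_one, one_mul,
      h.g11, h.g22, h.g21, h.aa, h.bb, h.ba, h.ag1, h.ag2, h.bg1, h.bg2,
      h.g11', h.g22', h.g21', h.aa', h.bb', h.ba', h.ag1', h.ag2', h.bg1', h.bg2'] at hdq
    exact hne hdq.symm
  · right; right
    exact ⟨2, by rw [gam_two]; exact hm'⟩
  · right; right
    exact ⟨3, by rw [gam_three]; exact hm'⟩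
  · right; right
    exact ⟨4, by rw [gam_four]; exact hm'⟩

/-- `G1 * G2` squares to `-1` -/
theorem QD.I_sq (h : QD G1 G2 A B) : (G1 * G2) * (G1 * G2) = -1 := by
  simp only [mul_assoc, neg_mul, mul_neg, neg_neg, mul_one, one_mul,
      h.g11, h.g22, h.g21, h.g11', h.g22', h.g21']

end Cfsg.Agent.Lib.Helper9.C6D4
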