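import Mathlib
import Cfsg.Prelude.Def_GeometricClasses
import Cfsg.Agent.Lib.Helper9.C6D4b
import Cfsg.Agent.Lib.Helper9.C6D4e
import Cfsg.Agent.Lib.Helper9.C6D4h

set_option autoImplicit false

/-! From the hypotheses on `R` to the abstract data. -/

open scoped MatrixGroups

namespace Cfsg.Agent.Lib.Helper9.C6D4

variable {F : Type*} [Field F] {ι : Type} [Fintype ι] [DecidableEq ι]

theorem one_ne_neg_one_mat [Nonempty ι] (h2 : (2 : F) ≠ 0) :
    (1 : Matrix ι ι F) ≠ -1 := by
  intro h
  obtain ⟨i⟩ := (inferInstance : Nonempty ι)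
  have := congrFun (congrFun h i) i
  simp only [Matrix.one_apply_eq, Matrix.neg_apply] at this
  apply h2
  linear_combination this

theorem smul_one_eq_smul_one [Nonempty ι] {c d : F}
    (h : c • (1 : Matrix ι ι F) = d • (1 : Matrix ι ι F)) : c = d := by
  obtain ⟨i⟩ := (inferInstance : Nonempty ι)
  have := congrFun (congrFun h i) i
  simpa using this

/-- the matrix of an element of `R` -/
def toM (R : Subgroup (GL ι F)) (x : R) : Matrix ι ι F := ((x : GL ι F) : Matrix ι ι F)

theorem toM_mul (R : Subgroup (GL ι F)) (x y : R) : toM R (x * y) = toM R x * toM R y := by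
  unfold toM
  rw [Subgroup.coe_mul, Units.val_mul]

theorem toM_one (R : Subgroup (GL ι F)) : toM R 1 = 1 := by
  unfold toM
  rw [Subgroup.coe_one, Units.val_one]

theorem toM_injective (R : Subgroup (GL ι F)) : Function.Injective (toM R) := by
  intro x y h
  apply Subtype.ext
  apply Units.ext
  exact h

theorem extra_of_hyps [Fintype F] [Nonempty ι] (h2 : (2 : F) ≠ 0) (R : Subgroup (GL ι F))
    (hRs : Cfsg.Geo.IsSymplecticTypeGroup 2 R)
    (hRi : Cfsg.Geo.ActsAbsolutelyIrreducibly (Cfsg.Geo.matrixSet R))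
    (hRZ : Nat.card (Subgroup.center R) = 2) :
    ∃ z : R, toM R z = -1 ∧ ExtraData R z := by
  classical
  obtain ⟨z₀, hz₀, huniq⟩ := (Nat.card_eq_two_iff' (1 : Subgroup.center R)).mp hRZ
  have hall : ∀ c : Subgroup.center R, c = 1 ∨ c = z₀ := by
    intro c
    by_cases hc : c = 1
    · left; exact hc
    · right; exact huniq c hc
  set z : R := (z₀ : R) with hz
  have hzc : ∀ x : R, x * z = z * x := fun x => (Subgroup.mem_center_iff.mp z₀.2) x
  have hz1 : z ≠ 1 := by
    intro h
    apply hz₀
    apply Subtype.ext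
    exact h
  have hcen : ∀ x : R, (∀ y : R, x * y = y * x) → x = 1 ∨ x = z := by
    intro x hx
    have hxc : x ∈ Subgroup.center R := Subgroup.mem_center_iff.mpr (fun g => (hx g).symm)
    rcases hall ⟨x, hxc⟩ with h | h
    · left
      exact congrArg Subtype.val h
    · right
      exact congrArg Subtype.val h
  have hzz : z * z = 1 := by
    have hzzc : ∀ y : R, (z * z) * y = y * (z * z) := by
      intro y
      rw [mul_assoc, ← hzc y, ← mul_assoc, ← hzc y, mul_assoc]
    rcases hcen (z * z) hzzc with h | h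
    · exact h
    · exfalso
      apply hz1
      have : z * z = z * 1 := by rw [mul_one]; exact h
      exact mul_left_cancel this
  -- the matrix of `z`
  have hcomm : ∀ s ∈ Cfsg.Geo.matrixSet R, toM R z * s = s * toM R z := by
    rintro s ⟨g, hg, rfl⟩
    have := hzc ⟨g, hg⟩
    have h' := congrArg (toM R) this
    rw [toM_mul, toM_mul] at h'
    exact h'.symm
  obtain ⟨c, hc⟩ := hRi.2 (toM R z) hcomm
  have hcc : c * c = 1 := by
    have h' := congrArg (toM R) hzz
    rw [toM_mul, toM_one, hc, Matrix.smul_mul, Matrix.mul_smul, Matrix.one_mul, smul_smul] at h'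
    have : (c * c) • (1 : Matrix ι ι F) = (1 : F) • (1 : Matrix ι ι F) := by rw [h', one_smul]
    exact smul_one_eq_smul_one this
  have hcm : c = -1 := by
    have h' : (c - 1) * (c + 1) = 0 := by linear_combination hcc
    rcases mul_eq_zero.mp h' with h'' | h''
    · exfalso
      apply hz1
      apply toM_injective R
      rw [hc, toM_one, sub_eq_zero.mp h'', one_smul]
    · linear_combination h''
  have hzM : toM R z = -1 := by rw [hc, hcm, neg_one_smul]
  -- squares
  have hexp : ∀ x : R, x ^ 4 = 1 := by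
    intro x
    have h4 : Monoid.exponent R = 4 := by
      rw [hRs.exponent_eq]
      norm_num
    rw [← h4]
    exact Monoid.pow_exponent_eq_one x
  obtain ⟨z', hz'c, hz'z, hz'sq⟩ := sq_dichotomy hRs.pGroup hexp hRs.cyclic_of_characteristic
  have hsq : ∀ x : R, x * x = 1 ∨ x * x = z := by
    intro x
    rcases hcen z' (fun y => (hz'c y).symm) with h | h
    · left
      rcases hz'sq x with h' | h'
      · exact h'
      · rw [h', h]
    · rw [h] at hz'sq
      exact hz'sq x
  exact ⟨z, hzM, ⟨hz1, hzz, hzc, hsq, hcen⟩⟩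

end Cfsg.Agent.Lib.Helper9.C6D4
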