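import Mathlib
import Cfsg.Agent.Lib.Helper9.C6D4i

set_option autoImplicit false

/-! The configuration `(G1, G2, A, B)` inside `R` and its first consequences. -/

open scoped MatrixGroups

namespace Cfsg.Agent.Lib.Helper9.C6D4

variable {F : Type*} [Field F] {ι : Type} [Fintype ι] [DecidableEq ι]

structure Config (R : Subgroup (GL ι F)) (G1 G2 A B : GL ι F) : Prop where
  m1 : G1 ∈ R
  m2 : G2 ∈ R
  mA : A ∈ R
  mB : B ∈ R
  qd : QD (G1 : Matrix ι ι F) (G2 : Matrix ι ι F) (A : Matrix ι ι F) (B : Matrix ι ι F)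
  gen : Subgroup.closure ({G1, G2, A, B} : Set (GL ι F)) = R
  negone : ∃ h ∈ R, ((h : GL ι F) : Matrix ι ι F) = -1
  sqs : ∀ h ∈ R, ((h : GL ι F) : Matrix ι ι F) * (h : Matrix ι ι F) = 1 ∨
    ((h : GL ι F) : Matrix ι ι F) * (h : Matrix ι ι F) = -1
  comms : ∀ h ∈ R, ∀ k ∈ R, ((h : GL ι F) : Matrix ι ι F) * (k : Matrix ι ι F) = k * h ∨
    ((h : GL ι F) : Matrix ι ι F) * (k : Matrix ι ι F) = -((k : Matrix ι ι F) * h)
  cen : ∀ h ∈ R, (∀ k ∈ R, ((h : GL ι F) : Matrix ι ι F) * (k : Matrix ι ι F) = k * h) →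
    ((h : GL ι F) : Matrix ι ι F) = 1 ∨ ((h : GL ι F) : Matrix ι ι F) = -1

theorem exists_config [Fintype F] [Nonempty ι] (h2 : (2 : F) ≠ 0) (R : Subgroup (GL ι F))
    (hRs : Cfsg.Geo.IsSymplecticTypeGroup 2 R)
    (hRi : Cfsg.Geo.ActsAbsolutelyIrreducibly (Cfsg.Geo.matrixSet R))
    (hR5 : Nat.card R = 2 ^ 5) (hRZ : Nat.card (Subgroup.center R) = 2)
    (hRm : Cfsg.Geo.IsOfMinusType 2 R) :
    ∃ G1 G2 A B : GL ι F, Config R G1 G2 A B := by
  obtain ⟨z, hzM, hE⟩ := extra_of_hyps h2 R hRs hRi hRZ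
  have hcard : Nat.card R = 32 := by rw [hR5]; norm_num
  have hminus : ∀ A : Subgroup R, IsMulCommutative A → (∀ x ∈ A, x * x = 1) → Nat.card A < 8 := by
    intro A hA hx
    have := hRm A hA hx
    norm_num at this
    exact this
  obtain ⟨g1, g2, a, b, h11, h22, h12, haa, hbb, hab, h1a, h1b, h2a, h2b, hgen⟩ :=
    structure_minus hE hcard hminus
  have tr : ∀ {x y : R}, AC z x y → toM R y * toM R x = -(toM R x * toM R y) := by
    intro x y hxy
    unfold AC at hxy
    have := congrArg (toM R) hxy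
    rw [toM_mul, toM_mul, toM_mul, hzM] at this
    rw [this]
    simp
  have tc : ∀ {x y : R}, x * y = y * x → toM R y * toM R x = toM R x * toM R y := by
    intro x y hxy
    have := congrArg (toM R) hxy
    rw [toM_mul, toM_mul] at this
    exact this.symm
  refine ⟨g1, g2, a, b, g1.2, g2.2, a.2, b.2, ?_, ?_, ⟨z, z.2, hzM⟩, ?_, ?_, ?_⟩
  · refine ⟨?_, ?_, tr h12, ?_, ?_, tr hab, tc h1a, tc h2a, tc h1b, tc h2b⟩
    · have := congrArg (toM R) h11
      rw [toM_mul, toM_one] at this
      exact this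
    · have := congrArg (toM R) h22
      rw [toM_mul, toM_one] at this
      exact this
    · have := congrArg (toM R) haa
      rw [toM_mul, hzM] at this
      exact this
    · have := congrArg (toM R) hbb
      rw [toM_mul, hzM] at this
      exact this
  · have := congrArg (Subgroup.map R.subtype) hgen
    rw [MonoidHom.map_closure, ← MonoidHom.range_eq_map, Subgroup.range_subtype] at this
    simp only [Set.image_insert_eq, Set.image_singleton, Subgroup.coe_subtype] at this
    exact this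
  · intro h hh
    rcases hE.sq ⟨h, hh⟩ with h' | h'
    · left
      have := congrArg (toM R) h'
      rw [toM_mul, toM_one] at this
      exact this
    · right
      have := congrArg (toM R) h'
      rw [toM_mul, hzM] at this
      exact this
  · intro h hh k hk
    rcases hE.comm_or ⟨h, hh⟩ ⟨k, hk⟩ with h' | h'
    · left
      exact tc h'.symm
    · right
      have := tr (h'.symm hE)
      exact this
  · intro h hh hc
    have : ∀ y : R, (⟨h, hh⟩ : R) * y = y * ⟨h, hh⟩ := by
      intro y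
      apply toM_injective R
      rw [toM_mul, toM_mul]
      exact hc y y.2
    rcases hE.cen ⟨h, hh⟩ this with h' | h'
    · left
      have := congrArg (toM R) h'
      rw [toM_one] at this
      exact this
    · right
      have := congrArg (toM R) h'
      rw [hzM] at this
      exact this

theorem inv_of_sq_one (x : GL ι F) (h : (x : Matrix ι ι F) * (x : Matrix ι ι F) = 1) :
    ((x⁻¹ : GL ι F) : Matrix ι ι F) = x := by
  have h1 : x * x = 1 := by
    apply Units.ext
    rw [Units.val_mul, Units.val_one]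
    exact h
  have h2 : x⁻¹ = x := inv_eq_of_mul_eq_one_left h1
  rw [h2]

theorem inv_of_sq_neg (x : GL ι F) (h : (x : Matrix ι ι F) * (x : Matrix ι ι F) = -1) :
    ((x⁻¹ : GL ι F) : Matrix ι ι F) = -(x : Matrix ι ι F) := by
  have h1 : (x : Matrix ι ι F) * (-(x : Matrix ι ι F)) = 1 := by
    rw [mul_neg, h, neg_neg]
  calc ((x⁻¹ : GL ι F) : Matrix ι ι F) = ((x⁻¹ : GL ι F) : Matrix ι ι F) *
        ((x : Matrix ι ι F) * (-(x : Matrix ι ι F))) := by rw [h1, mul_one]
    _ = (((x⁻¹ : GL ι F) : Matrix ι ι F) * (x : Matrix ι ι F)) * (-(x : Matrix ι ι F)) := by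
        rw [mul_assoc]
    _ = -(x : Matrix ι ι F) := by rw [Units.inv_mul, one_mul]

variable {R : Subgroup (GL ι F)} {G1 G2 A B : GL ι F}

theorem Config.inList (hC : Config R G1 G2 A B) (h : GL ι F) (hh : h ∈ R) :
    InList (G1 : Matrix ι ι F) (G2 : Matrix ι ι F) (A : Matrix ι ι F) (B : Matrix ι ι F)
      (h : Matrix ι ι F) := by
  rw [← hC.gen] at hh
  induction hh using Subgroup.closure_induction_left with
  | one => rw [Units.val_one]; exact InList.one
  | mul_left x hx y hy ih =>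
    rw [Units.val_mul]
    simp only [Set.mem_insert_iff, Set.mem_singleton_iff] at hx
    rcases hx with rfl | rfl | rfl | rfl
    · exact hC.qd.inList_G1 ih
    · exact hC.qd.inList_G2 ih
    · exact hC.qd.inList_A ih
    · exact hC.qd.inList_B ih
  | inv_mul_cancel x hx y hy ih =>
    rw [Units.val_mul]
    simp only [Set.mem_insert_iff, Set.mem_singleton_iff] at hx
    rcases hx with rfl | rfl | rfl | rfl
    · rw [inv_of_sq_one _ hC.qd.g11]
      exact hC.qd.inList_G1 ih
    · rw [inv_of_sq_one _ hC.qd.g22]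
      exact hC.qd.inList_G2 ih
    · rw [inv_of_sq_neg _ hC.qd.aa, neg_mul]
      exact (hC.qd.inList_A ih).neg
    · rw [inv_of_sq_neg _ hC.qd.bb, neg_mul]
      exact (hC.qd.inList_B ih).neg

/-- the five involutions as elements of `GL` -/
def gamG (G1 G2 A B : GL ι F) : Fin 5 → GL ι F :=
  ![G1, G2, G1 * G2 * A, G1 * G2 * B, G1 * G2 * (A * B)]

theorem gamG_coe (G1 G2 A B : GL ι F) (k : Fin 5) :
    ((gamG G1 G2 A B k : GL ι F) : Matrix ι ι F) =
      gam (G1 : Matrix ι ι F) (G2 : Matrix ι ι F) (A : Matrix ι ι F) (B : Matrix ι ι F) k := by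
  fin_cases k <;> simp [gamG, gam, Units.val_mul]

theorem Config.gamG_mem (hC : Config R G1 G2 A B) (k : Fin 5) : gamG G1 G2 A B k ∈ R := by
  have h12 := R.mul_mem hC.m1 hC.m2
  fin_cases k
  · exact hC.m1
  · exact hC.m2
  · exact R.mul_mem h12 hC.mA
  · exact R.mul_mem h12 hC.mB
  · exact R.mul_mem h12 (R.mul_mem hC.mA hC.mB)

theorem Config.cliff (hC : Config R G1 G2 A B) :
    Cliff (fun k => ((gamG G1 G2 A B k : GL ι F) : Matrix ι ι F)) := by
  have := hC.qd.cliff
  constructor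
  · intro k
    rw [gamG_coe]
    exact this.sq k
  · intro k l hkl
    rw [gamG_coe, gamG_coe]
    exact this.anti k l hkl

theorem Config.invol [Nonempty ι] (h2 : (2 : F) ≠ 0) (hC : Config R G1 G2 A B) (h : GL ι F)
    (hh : h ∈ R) (hsq : (h : Matrix ι ι F) * (h : Matrix ι ι F) = 1)
    (h1 : (h : Matrix ι ι F) ≠ 1) (hm1 : (h : Matrix ι ι F) ≠ -1) :
    ∃ k : Fin 5, (h : Matrix ι ι F) = (gamG G1 G2 A B k : Matrix ι ι F) ∨
      (h : Matrix ι ι F) = -(gamG G1 G2 A B k : Matrix ι ι F) := by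
  rcases hC.qd.invol_of_inList (one_ne_neg_one_mat h2) (hC.inList h hh) hsq with h' | h' | ⟨k, hk⟩
  · exact absurd h' h1
  · exact absurd h' hm1
  · refine ⟨k, ?_⟩
    rw [gamG_coe]
    exact hk

theorem Config.comm_all (hC : Config R G1 G2 A B) (M : Matrix ι ι F)
    (h1 : M * (G1 : Matrix ι ι F) = (G1 : Matrix ι ι F) * M)
    (h2 : M * (G2 : Matrix ι ι F) = (G2 : Matrix ι ι F) * M)
    (hA : M * (A : Matrix ι ι F) = (A : Matrix ι ι F) * M)
    (hB : M * (B : Matrix ι ι F) = (B : Matrix ι ι F) * M) :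
    ∀ s ∈ Cfsg.Geo.matrixSet R, M * s = s * M := by
  rintro s ⟨h, hh, rfl⟩
  obtain ⟨d, q, hd, hq, hm⟩ := hC.inList h hh
  have hMd : M * d = d * M := by
    rcases hd with h' | h' | h' | h' <;> rw [h']
    · simp
    · exact h1
    · exact h2
    · rw [← mul_assoc, h1, mul_assoc, h2, mul_assoc]
  have hMq : M * q = q * M := by
    rcases hq with h' | h' | h' | h' <;> rw [h']
    · simp
    · exact hA
    · exact hB
    · rw [← mul_assoc, hA, mul_assoc, hB, mul_assoc]
  have hMdq : M * (d * q) = (d * q) * M := by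
    rw [← mul_assoc, hMd, mul_assoc, hMq, mul_assoc]
  show M * (h : Matrix ι ι F) = (h : Matrix ι ι F) * M
  rcases hm with h' | h' <;> rw [h']
  · exact hMdq
  · rw [mul_neg, neg_mul, hMdq]

end Cfsg.Agent.Lib.Helper9.C6D4
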