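import Mathlib
import Cfsg.Agent.Lib.Helper9.C6D4j

set_option autoImplicit false

/-! Conjugation by units and the action of the normaliser on the five involutions. -/

open scoped MatrixGroups

namespace Cfsg.Agent.Lib.Helper9.C6D4

section Cliff

variable {M : Type*} [Ring M] {γ : Fin 5 → M}

theorem fin5_succ_ne : ∀ k : Fin 5, k + 1 ≠ k := by decide

theorem Cliff.ne_one (h : Cliff γ) (hne : (1 : M) ≠ -1) (k : Fin 5) : γ k ≠ 1 := by
  intro hk
  have hl : k + 1 ≠ k := fin5_succ_ne k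
  have h1 := h.anti k (k + 1) hl.symm
  rw [hk, one_mul, mul_one] at h1
  have h2 := h.sq (k + 1)
  apply hne
  calc (1 : M) = γ (k + 1) * γ (k + 1) := h2.symm
    _ = -γ (k + 1) * γ (k + 1) := by rw [← h1]
    _ = -1 := by rw [neg_mul, h2]

theorem Cliff.ne_neg_one (h : Cliff γ) (hne : (1 : M) ≠ -1) (k : Fin 5) : γ k ≠ -1 := by
  intro hk
  have hl : k + 1 ≠ k := fin5_succ_ne k
  have h1 := h.anti k (k + 1) hl.symm
  rw [hk] at h1
  simp only [neg_mul, one_mul, mul_neg, mul_one, neg_neg] at h1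
  have h2 := h.sq (k + 1)
  apply hne
  calc (1 : M) = γ (k + 1) * γ (k + 1) := h2.symm
    _ = -γ (k + 1) * γ (k + 1) := by rw [h1]
    _ = -1 := by rw [neg_mul, h2]

theorem Cliff.inj (h : Cliff γ) (hne : (1 : M) ≠ -1) {k l : Fin 5}
    (hkl : γ k = γ l ∨ γ k = -γ l) : k = l := by
  by_contra hne'
  have h1 := h.anti k l hne'
  rcases hkl with h' | h'
  · rw [h', h.sq l] at h1
    exact hne h1
  · rw [h'] at h1
    simp only [neg_mul, mul_neg, neg_neg, h.sq l] at h1
    exact hne h1.symm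

end Cliff

variable {F : Type*} [Field F] {ι : Type} [Fintype ι] [DecidableEq ι]

/-- conjugation of a matrix by a unit -/
def cj (y : GL ι F) (M : Matrix ι ι F) : Matrix ι ι F :=
  (y : Matrix ι ι F) * M * ((y⁻¹ : GL ι F) : Matrix ι ι F)

theorem cj_mul (y : GL ι F) (M N : Matrix ι ι F) : cj y (M * N) = cj y M * cj y N := by
  unfold cj
  calc (y : Matrix ι ι F) * (M * N) * ((y⁻¹ : GL ι F) : Matrix ι ι F)
      = (y : Matrix ι ι F) * M * (1 : Matrix ι ι F) * N * ((y⁻¹ : GL ι F) : Matrix ι ι F) := by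
        simp only [mul_one, mul_assoc]
    _ = _ := by
        rw [← Units.inv_mul y]
        simp only [mul_assoc]

theorem cj_neg (y : GL ι F) (M : Matrix ι ι F) : cj y (-M) = -cj y M := by
  unfold cj
  rw [mul_neg, neg_mul]

theorem cj_one (y : GL ι F) : cj y (1 : Matrix ι ι F) = 1 := by
  unfold cj
  rw [mul_one, Units.mul_inv]

theorem cj_smul (y : GL ι F) (c : F) (M : Matrix ι ι F) : cj y (c • M) = c • cj y M := by
  unfold cj
  rw [Matrix.mul_smul, Matrix.smul_mul]

theorem cj_comp (y y' : GL ι F) (M : Matrix ι ι F) : cj (y * y') M = cj y (cj y' M) := by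
  unfold cj
  rw [mul_inv_rev, Units.val_mul, Units.val_mul]
  simp only [mul_assoc]

theorem cj_one_left (M : Matrix ι ι F) : cj (1 : GL ι F) M = M := by
  unfold cj
  simp

theorem cj_coe (y h : GL ι F) : cj y (h : Matrix ι ι F) = ((y * h * y⁻¹ : GL ι F) : Matrix ι ι F) := by
  unfold cj
  rw [Units.val_mul, Units.val_mul]

theorem cj_inv_cancel (y : GL ι F) (M : Matrix ι ι F) : cj y⁻¹ (cj y M) = M := by
  rw [← cj_comp, inv_mul_cancel, cj_one_left]

theorem cj_cancel_inv (y : GL ι F) (M : Matrix ι ι F) : cj y (cj y⁻¹ M) = M := by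
  rw [← cj_comp, mul_inv_cancel, cj_one_left]

theorem cj_injective (y : GL ι F) : Function.Injective (cj y) := by
  intro M N h
  rw [← cj_inv_cancel y M, h, cj_inv_cancel]

theorem cj_eq_iff (y : GL ι F) (M N : Matrix ι ι F) :
    cj y M = N ↔ (y : Matrix ι ι F) * M = N * (y : Matrix ι ι F) := by
  unfold cj
  constructor
  · intro h
    rw [← h, mul_assoc, mul_assoc, Units.inv_mul, mul_one]
  · intro h
    rw [h, mul_assoc, Units.mul_inv, mul_one]

theorem cj_scalar (y : GL ι F) (c : F) (hy : (y : Matrix ι ι F) = c • 1) (M : Matrix ι ι F) :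
    cj y M = M := by
  rw [cj_eq_iff, hy, Matrix.smul_mul, Matrix.one_mul, Matrix.mul_smul, Matrix.mul_one]

theorem cj_pow_neg (y : GL ι F) (M : Matrix ι ι F) (h : cj y M = -M) (n : ℕ) :
    cj (y ^ n) M = (-1) ^ n • M := by
  induction n with
  | zero => simp [cj_one_left]
  | succ n ih =>
    rw [pow_succ, cj_comp, h, cj_neg, ih, pow_succ]
    simp

theorem cj_pow_fix (y : GL ι F) (M : Matrix ι ι F) (h : cj y M = M) (n : ℕ) :
    cj (y ^ n) M = M := by
  induction n with
  | zero => simp [cj_one_left]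
  | succ n ih => rw [pow_succ, cj_comp, h, ih]

end Cfsg.Agent.Lib.Helper9.C6D4
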