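import Mathlib
import Cfsg.Agent.Lib.Helper9.C6D4k

set_option autoImplicit false

/-! The permutation action of the normaliser of `R` on the five involutions. -/

open scoped MatrixGroups

namespace Cfsg.Agent.Lib.Helper9.C6D4

variable {F : Type*} [Field F] {ι : Type} [Fintype ι] [DecidableEq ι] [Nonempty ι]
  {R : Subgroup (GL ι F)} {G1 G2 A B : GL ι F}

/-- the five involutions as matrices -/
def Gm (G1 G2 A B : GL ι F) (k : Fin 5) : Matrix ι ι F :=
  ((gamG G1 G2 A B k : GL ι F) : Matrix ι ι F)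

omit [Nonempty ι] in
theorem Config.cliffG (hC : Config R G1 G2 A B) : Cliff (Gm G1 G2 A B) := hC.cliff

omit [Nonempty ι] in
theorem conj_mem_of_normalizer (y : GL ι F) (hy : y ∈ Cfsg.Geo.subgroupNormalizer R)
    (h : GL ι F) (hh : h ∈ R) : y * h * y⁻¹ ∈ R :=
  (Subgroup.mem_normalizer_iff.mp hy h).mp hh

theorem Config.exists_perm (h2 : (2 : F) ≠ 0) (hC : Config R G1 G2 A B) (y : GL ι F)
    (hy : y ∈ Cfsg.Geo.subgroupNormalizer R) (k : Fin 5) :
    ∃ l : Fin 5, cj y (Gm G1 G2 A B k) = Gm G1 G2 A B l ∨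
      cj y (Gm G1 G2 A B k) = -Gm G1 G2 A B l := by
  have hne := one_ne_neg_one_mat (ι := ι) h2
  have hmem := conj_mem_of_normalizer y hy _ (hC.gamG_mem k)
  have hcoe : ((y * gamG G1 G2 A B k * y⁻¹ : GL ι F) : Matrix ι ι F) = cj y (Gm G1 G2 A B k) :=
    (cj_coe y _).symm
  have hsq : cj y (Gm G1 G2 A B k) * cj y (Gm G1 G2 A B k) = 1 := by
    rw [← cj_mul, hC.cliffG.sq k, cj_one]
  have h1 : cj y (Gm G1 G2 A B k) ≠ 1 := by
    intro h
    rw [← cj_one y] at h
    exact hC.cliffG.ne_one hne k (cj_injective y h)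
  have hm1 : cj y (Gm G1 G2 A B k) ≠ -1 := by
    intro h
    rw [← cj_one y, ← cj_neg] at h
    exact hC.cliffG.ne_neg_one hne k (cj_injective y h)
  have := hC.invol h2 _ hmem (by rw [hcoe]; exact hsq) (by rw [hcoe]; exact h1)
    (by rw [hcoe]; exact hm1)
  rw [hcoe] at this
  exact this

/-- the image of `k` under the action of `y` -/
noncomputable def permFun (h2 : (2 : F) ≠ 0) (hC : Config R G1 G2 A B)
    (y : Cfsg.Geo.subgroupNormalizer R) (k : Fin 5) : Fin 5 :=
  Classical.choose (hC.exists_perm h2 y.1 y.2 k)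

theorem permFun_spec (h2 : (2 : F) ≠ 0) (hC : Config R G1 G2 A B)
    (y : Cfsg.Geo.subgroupNormalizer R) (k : Fin 5) :
    cj (y : GL ι F) (Gm G1 G2 A B k) = Gm G1 G2 A B (permFun h2 hC y k) ∨
      cj (y : GL ι F) (Gm G1 G2 A B k) = -Gm G1 G2 A B (permFun h2 hC y k) :=
  Classical.choose_spec (hC.exists_perm h2 y.1 y.2 k)

theorem permFun_unique (h2 : (2 : F) ≠ 0) (hC : Config R G1 G2 A B)
    (y : Cfsg.Geo.subgroupNormalizer R) (k l : Fin 5)
    (h : cj (y : GL ι F) (Gm G1 G2 A B k) = Gm G1 G2 A B l ∨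
      cj (y : GL ι F) (Gm G1 G2 A B k) = -Gm G1 G2 A B l) : permFun h2 hC y k = l := by
  have hne := one_ne_neg_one_mat (ι := ι) h2
  apply hC.cliffG.inj hne
  rcases permFun_spec h2 hC y k with h' | h' <;> rcases h with h'' | h''
  · left; rw [← h', h'']
  · right; rw [← h', h'']
  · right
    have : Gm G1 G2 A B (permFun h2 hC y k) = -cj (y : GL ι F) (Gm G1 G2 A B k) := by
      rw [h', neg_neg]
    rw [this, h'']
  · left
    have : Gm G1 G2 A B (permFun h2 hC y k) = -cj (y : GL ι F) (Gm G1 G2 A B k) := by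
      rw [h', neg_neg]
    rw [this, h'', neg_neg]

theorem permFun_mul (h2 : (2 : F) ≠ 0) (hC : Config R G1 G2 A B)
    (y y' : Cfsg.Geo.subgroupNormalizer R) (k : Fin 5) :
    permFun h2 hC (y * y') k = permFun h2 hC y (permFun h2 hC y' k) := by
  apply permFun_unique
  rw [Subgroup.coe_mul, cj_comp]
  rcases permFun_spec h2 hC y' k with h' | h' <;>
    rcases permFun_spec h2 hC y (permFun h2 hC y' k) with h'' | h''
  · left; rw [h', h'']
  · right; rw [h', h'']
  · right; rw [h', cj_neg, h'']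
  · left; rw [h', cj_neg, h'', neg_neg]

theorem permFun_one (h2 : (2 : F) ≠ 0) (hC : Config R G1 G2 A B) (k : Fin 5) :
    permFun h2 hC 1 k = k := by
  apply permFun_unique
  left
  rw [Subgroup.coe_one, cj_one_left]

/-- the permutation representation of the normaliser -/
noncomputable def permHom (h2 : (2 : F) ≠ 0) (hC : Config R G1 G2 A B) :
    Cfsg.Geo.subgroupNormalizer R →* Equiv.Perm (Fin 5) where
  toFun y :=
    { toFun := permFun h2 hC y
      invFun := permFun h2 hC y⁻¹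
      left_inv := fun k => by rw [← permFun_mul, inv_mul_cancel, permFun_one]
      right_inv := fun k => by rw [← permFun_mul, mul_inv_cancel, permFun_one] }
  map_one' := by
    ext k
    simp [permFun_one]
  map_mul' y y' := by
    ext k
    simp [permFun_mul]

theorem permHom_apply (h2 : (2 : F) ≠ 0) (hC : Config R G1 G2 A B)
    (y : Cfsg.Geo.subgroupNormalizer R) (k : Fin 5) :
    permHom h2 hC y k = permFun h2 hC y k := rfl

theorem permHom_scalar (h2 : (2 : F) ≠ 0) (hC : Config R G1 G2 A B)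
    (y : Cfsg.Geo.subgroupNormalizer R) (c : F)
    (hy : ((y : GL ι F) : Matrix ι ι F) = c • 1) : permHom h2 hC y = 1 := by
  ext k
  rw [permHom_apply, Equiv.Perm.coe_one, id]
  congr 1
  apply permFun_unique
  left
  exact cj_scalar _ c hy _

/-- an element acting trivially on the five pairs, some odd power of which is scalar, is scalar -/
theorem Config.scalar_of_fix (h2 : (2 : F) ≠ 0) (hC : Config R G1 G2 A B)
    (hRi : Cfsg.Geo.ActsAbsolutelyIrreducibly (Cfsg.Geo.matrixSet R))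
    (y : GL ι F) (n : ℕ) (hn : Odd n) (c : F) (hyn : ((y ^ n : GL ι F) : Matrix ι ι F) = c • 1)
    (hfix : ∀ k, cj y (Gm G1 G2 A B k) = Gm G1 G2 A B k ∨ cj y (Gm G1 G2 A B k) = -Gm G1 G2 A B k) :
    ∃ d : F, (y : Matrix ι ι F) = d • 1 := by
  have hne := one_ne_neg_one_mat (ι := ι) h2
  have hfix' : ∀ k, (y : Matrix ι ι F) * Gm G1 G2 A B k = Gm G1 G2 A B k * (y : Matrix ι ι F) := by
    intro k
    rw [← cj_eq_iff]
    rcases hfix k with h | h
    · exact h
    · exfalso
      have h1 := cj_pow_neg y _ h n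
      rw [cj_scalar _ c hyn, hn.neg_one_pow, neg_one_smul] at h1
      have h3 := hC.cliffG.sq k
      apply hne
      calc (1 : Matrix ι ι F) = Gm G1 G2 A B k * Gm G1 G2 A B k := h3.symm
        _ = -Gm G1 G2 A B k * Gm G1 G2 A B k := by rw [← h1]
        _ = -1 := by rw [neg_mul, h3]
  have e0 : Gm G1 G2 A B 0 = (G1 : Matrix ι ι F) := rfl
  have e1 : Gm G1 G2 A B 1 = (G2 : Matrix ι ι F) := rfl
  have e2 : Gm G1 G2 A B 2 = (G1 : Matrix ι ι F) * G2 * A := by
    show ((G1 * G2 * A : GL ι F) : Matrix ι ι F) = _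
    rw [Units.val_mul, Units.val_mul]
  have e3 : Gm G1 G2 A B 3 = (G1 : Matrix ι ι F) * G2 * B := by
    show ((G1 * G2 * B : GL ι F) : Matrix ι ι F) = _
    rw [Units.val_mul, Units.val_mul]
  have c1 := hfix' 0
  have c2 := hfix' 1
  have c3 := hfix' 2
  have c4 := hfix' 3
  rw [e0] at c1
  rw [e1] at c2
  rw [e2] at c3
  rw [e3] at c4
  have c12 : (y : Matrix ι ι F) * ((G1 : Matrix ι ι F) * G2) = ((G1 : Matrix ι ι F) * G2) * y := by
    rw [← mul_assoc, c1, mul_assoc, c2, mul_assoc]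
  have hinv : ((G2 : Matrix ι ι F) * G1) * ((G1 : Matrix ι ι F) * G2) = 1 := by
    rw [mul_assoc, ← mul_assoc (G1 : Matrix ι ι F), hC.qd.g11, one_mul, hC.qd.g22]
  have cancel : ∀ X : Matrix ι ι F,
      (y : Matrix ι ι F) * ((G1 : Matrix ι ι F) * G2 * X) = ((G1 : Matrix ι ι F) * G2 * X) * y →
      (y : Matrix ι ι F) * X = X * y := by
    intro X hX
    have h1 : ((G1 : Matrix ι ι F) * G2) * ((y : Matrix ι ι F) * X) =
        ((G1 : Matrix ι ι F) * G2) * (X * y) := by
      rw [← mul_assoc, ← c12, mul_assoc, mul_assoc] 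
      rw [mul_assoc] at hX
      rw [hX]
      simp only [mul_assoc]
    have h2' : ((G2 : Matrix ι ι F) * G1) * (((G1 : Matrix ι ι F) * G2) * ((y : Matrix ι ι F) * X)) =
        ((G2 : Matrix ι ι F) * G1) * (((G1 : Matrix ι ι F) * G2) * (X * y)) := by rw [h1]
    rw [← mul_assoc, hinv, one_mul, ← mul_assoc, hinv, one_mul] at h2'
    exact h2'
  have cA := cancel _ c3
  have cB := cancel _ c4
  exact hRi.2 _ (hC.comm_all _ c1 c2 cA cB)

end Cfsg.Agent.Lib.Helper9.C6D4
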