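import Mathlib
import Cfsg.Agent.Lib.Helper9.C6D4l

set_option autoImplicit false

/-! Elements of prime order in the normaliser: large primes and the prime three. -/

open scoped MatrixGroups

namespace Cfsg.Agent.Lib.Helper9.C6D4

variable {F : Type*} [Field F] {ι : Type} [Fintype ι] [DecidableEq ι] [Nonempty ι]
  {R : Subgroup (GL ι F)} {G1 G2 A B : GL ι F}

/-- a sign `-1` cannot occur for elements with an odd scalar power -/
theorem no_neg_sign (h2 : (2 : F) ≠ 0) (y : GL ι F) (n : ℕ) (hn : Odd n) (c : F)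
    (hyn : ((y ^ n : GL ι F) : Matrix ι ι F) = c • 1) (M : Matrix ι ι F) (hM : M * M = 1)
    (h : cj y M = -M) : False := by
  have hne := one_ne_neg_one_mat (ι := ι) h2
  have h1 := cj_pow_neg y _ h n
  rw [cj_scalar _ c hyn, hn.neg_one_pow, neg_one_smul] at h1
  apply hne
  calc (1 : Matrix ι ι F) = M * M := hM.symm
    _ = -M * M := by rw [← h1]
    _ = -1 := by rw [neg_mul, hM]

theorem Config.scalar_of_large_prime (h2 : (2 : F) ≠ 0) (hC : Config R G1 G2 A B)
    (hRi : Cfsg.Geo.ActsAbsolutelyIrreducibly (Cfsg.Geo.matrixSet R))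
    (y : GL ι F) (hy : y ∈ Cfsg.Geo.subgroupNormalizer R) (r : ℕ) (hr : r.Prime) (hr7 : 7 ≤ r)
    (c : F) (hyr : ((y ^ r : GL ι F) : Matrix ι ι F) = c • 1) :
    ∃ d : F, (y : Matrix ι ι F) = d • 1 := by
  set Y : Cfsg.Geo.subgroupNormalizer R := ⟨y, hy⟩ with hY
  have hodd : Odd r := hr.odd_of_ne_two (by omega)
  have h1 : (permHom h2 hC Y) ^ r = 1 := by
    rw [← map_pow]
    exact permHom_scalar h2 hC (Y ^ r) c (by rw [Subgroup.coe_pow]; exact hyr)
  have h2' : orderOf (permHom h2 hC Y) ∣ r := orderOf_dvd_of_pow_eq_one h1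
  have h3 : orderOf (permHom h2 hC Y) ∣ 120 := by
    have := orderOf_dvd_card (x := permHom h2 hC Y)
    rw [Fintype.card_perm, Fintype.card_fin] at this
    exact this
  have h4 : permHom h2 hC Y = 1 := by
    rcases (Nat.dvd_prime hr).mp h2' with h | h
    · exact orderOf_eq_one_iff.mp h
    · exfalso
      rw [h] at h3
      have h5 : r ∣ 2 ^ 3 * 3 * 5 := by norm_num; exact h3
      rcases (Nat.Prime.dvd_mul hr).mp h5 with h6 | h6
      · rcases (Nat.Prime.dvd_mul hr).mp h6 with h7 | h7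
        · have := Nat.le_of_dvd (by norm_num) (hr.dvd_of_dvd_pow h7)
          omega
        · have := Nat.le_of_dvd (by norm_num) h7
          omega
      · have := Nat.le_of_dvd (by norm_num) h6
        omega
  apply hC.scalar_of_fix h2 hRi y r hodd c hyr
  intro k
  have h5 := permFun_spec h2 hC Y k
  have h6 : permFun h2 hC Y k = k := by
    rw [← permHom_apply, h4]
    rfl
  rw [h6] at h5
  exact h5

theorem Config.exists_two_fixed (h2 : (2 : F) ≠ 0) (hC : Config R G1 G2 A B)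
    (y : GL ι F) (hy : y ∈ Cfsg.Geo.subgroupNormalizer R)
    (c : F) (hy3 : ((y ^ 3 : GL ι F) : Matrix ι ι F) = c • 1) :
    ∃ k l : Fin 5, k ≠ l ∧ cj y (Gm G1 G2 A B k) = Gm G1 G2 A B k ∧
      cj y (Gm G1 G2 A B l) = Gm G1 G2 A B l := by
  set Y : Cfsg.Geo.subgroupNormalizer R := ⟨y, hy⟩ with hY
  have h1 : (permHom h2 hC Y) ^ 3 ^ 1 = 1 := by
    rw [pow_one, ← map_pow]
    exact permHom_scalar h2 hC (Y ^ 3) c (by rw [Subgroup.coe_pow]; exact hy3)
  haveI : Fact (Nat.Prime 3) := ⟨by norm_num⟩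
  have hmod := Equiv.Perm.card_compl_support_modEq h1
  rw [Fintype.card_fin] at hmod
  have hle : (permHom h2 hC Y).supportᶜ.card ≤ 5 := by
    have := Finset.card_le_univ (permHom h2 hC Y).supportᶜ
    rwa [Fintype.card_fin] at this
  have hge : 1 < (permHom h2 hC Y).supportᶜ.card := by
    unfold Nat.ModEq at hmod
    omega
  obtain ⟨k, hk, l, hl, hkl⟩ := Finset.one_lt_card.mp hge
  have fix : ∀ k ∈ (permHom h2 hC Y).supportᶜ, cj y (Gm G1 G2 A B k) = Gm G1 G2 A B k := by
    intro k hk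
    rw [Finset.mem_compl, Equiv.Perm.mem_support, not_not] at hk
    have h5 := permFun_spec h2 hC Y k
    rw [← permHom_apply, hk] at h5
    rcases h5 with h5 | h5
    · exact h5
    · exfalso
      exact no_neg_sign h2 y 3 (by decide) c hy3 _ (hC.cliffG.sq k) h5
  exact ⟨k, l, hkl, fix k hk, fix l hl⟩

end Cfsg.Agent.Lib.Helper9.C6D4
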