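import Mathlib
import Cfsg.Agent.Lib.Helper9.C6D4m

set_option autoImplicit false

/-! The centraliser in `R` of a normalising element: congruence and the trace identity. -/

open scoped MatrixGroups

namespace Cfsg.Agent.Lib.Helper9.C6D4

variable {F : Type*} [Field F] {ι : Type} [Fintype ι] [DecidableEq ι]

/-- the centraliser of `y` in `R` -/
def centIn (R : Subgroup (GL ι F)) (y : GL ι F) : Subgroup (GL ι F) :=
  R ⊓ Subgroup.centralizer {y}

theorem mem_centIn (R : Subgroup (GL ι F)) (y h : GL ι F) :
    h ∈ centIn R y ↔ h ∈ R ∧ y * h = h * y := by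
  unfold centIn
  rw [Subgroup.mem_inf, Subgroup.mem_centralizer_iff]
  simp

/-- conjugation by elements of the normaliser as permutations of `R` -/
def conjPerm (R : Subgroup (GL ι F)) : Cfsg.Geo.subgroupNormalizer R →* Equiv.Perm R where
  toFun Y :=
    { toFun := fun h => ⟨(Y : GL ι F) * h * (Y : GL ι F)⁻¹, conj_mem_of_normalizer Y.1 Y.2 h.1 h.2⟩
      invFun := fun h => ⟨(Y : GL ι F)⁻¹ * h * (Y : GL ι F), by
        have := conj_mem_of_normalizer (Y⁻¹ : Cfsg.Geo.subgroupNormalizer R).1
          (Y⁻¹ : Cfsg.Geo.subgroupNormalizer R).2 h.1 h.2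
        rw [Subgroup.coe_inv, inv_inv] at this
        exact this⟩
      left_inv := fun h => by
        apply Subtype.ext
        simp only
        group
      right_inv := fun h => by
        apply Subtype.ext
        simp only
        group }
  map_one' := by
    ext h
    simp
  map_mul' Y Y' := by
    ext h
    simp only [Subgroup.coe_mul, Equiv.coe_fn_mk, Equiv.Perm.coe_mul, Function.comp_apply]
    group

theorem conjPerm_apply (R : Subgroup (GL ι F)) (Y : Cfsg.Geo.subgroupNormalizer R) (h : R) :
    ((conjPerm R Y h : R) : GL ι F) = (Y : GL ι F) * h * (Y : GL ι F)⁻¹ := rfl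

theorem scalar_central (y : GL ι F) (c : F) (hy : (y : Matrix ι ι F) = c • 1) (h : GL ι F) :
    y * h * y⁻¹ = h := by
  have : y * h = h * y := by
    apply Units.ext
    rw [Units.val_mul, Units.val_mul, hy, Matrix.smul_mul, Matrix.one_mul, Matrix.mul_smul,
      Matrix.mul_one]
  rw [this, mul_assoc, mul_inv_cancel, mul_one]

theorem card_centIn_modEq [Fintype F] (R : Subgroup (GL ι F)) (y : GL ι F)
    (hy : y ∈ Cfsg.Geo.subgroupNormalizer R) (r : ℕ) [hr : Fact r.Prime] (c : F)
    (hyr : ((y ^ r : GL ι F) : Matrix ι ι F) = c • 1) :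
    Nat.card (centIn R y) ≡ Nat.card R [MOD r] := by
  classical
  haveI : Fintype R := Fintype.ofFinite R
  set Y : Cfsg.Geo.subgroupNormalizer R := ⟨y, hy⟩ with hY
  set σ := conjPerm R Y with hσ
  have h1 : σ ^ r ^ 1 = 1 := by
    rw [pow_one, hσ, ← map_pow]
    apply Equiv.ext
    intro h
    apply Subtype.ext
    rw [conjPerm_apply, Subgroup.coe_pow]
    exact scalar_central _ c hyr _
  have hmod := Equiv.Perm.card_compl_support_modEq h1
  rw [Nat.card_eq_fintype_card (α := R)]
  have hcard : σ.supportᶜ.card = Nat.card (centIn R y) := by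
    rw [← Nat.card_eq_finsetCard]
    apply Nat.card_congr
    refine ⟨fun h => ⟨h.1.1, ?_⟩, fun h => ⟨⟨h.1, ((mem_centIn R y h.1).mp h.2).1⟩, ?_⟩, ?_, ?_⟩
    · have h2 := h.2
      rw [Finset.mem_compl, Equiv.Perm.mem_support, not_not] at h2
      rw [mem_centIn]
      refine ⟨h.1.2, ?_⟩
      have h3 := congrArg Subtype.val h2
      rw [conjPerm_apply] at h3
      have h4 : y * (h.1 : GL ι F) * y⁻¹ = h.1 := h3
      calc y * (h.1 : GL ι F) = (y * (h.1 : GL ι F) * y⁻¹) * y := by group
        _ = (h.1 : GL ι F) * y := by rw [h4]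
    · rw [Finset.mem_compl, Equiv.Perm.mem_support, not_not]
      apply Subtype.ext
      rw [conjPerm_apply]
      have h4 := ((mem_centIn R y h.1).mp h.2).2
      show y * (h.1 : GL ι F) * y⁻¹ = h.1
      rw [h4]
      group
    · intro h
      rfl
    · intro h
      rfl
  rw [← hcard]
  exact hmod

end Cfsg.Agent.Lib.Helper9.C6D4
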