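import Mathlib
import Cfsg.Agent.Lib.Helper9.C6D4n

set_option autoImplicit false

/-! The trace identity `|C_R(y)| = 2 tr(y) tr(y⁻¹)` for normalising elements with an odd scalar
power. -/

open scoped MatrixGroups

namespace Cfsg.Agent.Lib.Helper9.C6D4

variable {F : Type*} [Field F] {ι : Type} [Fintype ι] [DecidableEq ι]
  {R : Subgroup (GL ι F)} {G1 G2 A B : GL ι F}

theorem trace_cj (y : GL ι F) (M : Matrix ι ι F) : (cj y M).trace = M.trace := by
  unfold cj
  rw [Matrix.trace_mul_comm, ← mul_assoc, Units.inv_mul, one_mul]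

theorem cj_sum {α : Type*} (y : GL ι F) (s : Finset α) (f : α → Matrix ι ι F) :
    cj y (∑ i ∈ s, f i) = ∑ i ∈ s, cj y (f i) := by
  unfold cj
  rw [Finset.mul_sum, Finset.sum_mul]

theorem Config.trace_noncentral (h2 : (2 : F) ≠ 0) (hC : Config R G1 G2 A B) (h : GL ι F)
    (hh : h ∈ R) (h1 : (h : Matrix ι ι F) ≠ 1) (hm1 : (h : Matrix ι ι F) ≠ -1) :
    (h : Matrix ι ι F).trace = 0 := by
  have hnc : ¬ ∀ k ∈ R, (h : Matrix ι ι F) * (k : Matrix ι ι F) = k * h := by
    intro hc
    rcases hC.cen h hh hc with h' | h'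
    · exact h1 h'
    · exact hm1 h'
  push Not at hnc
  obtain ⟨k, hk, hne⟩ := hnc
  have hanti := (hC.comms h hh k hk).resolve_left hne
  have h3 : cj k (h : Matrix ι ι F) = -(h : Matrix ι ι F) := by
    rw [cj_eq_iff, neg_mul, hanti, neg_neg]
  have h4 := trace_cj k (h : Matrix ι ι F)
  rw [h3, Matrix.trace_neg] at h4
  have h5 : (2 : F) * (h : Matrix ι ι F).trace = 0 := by linear_combination -h4
  rcases mul_eq_zero.mp h5 with h6 | h6
  · exact absurd h6 h2
  · exact h6

/-- no unit is negated by an element with an odd scalar power -/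
theorem no_neg_sign_unit [Nonempty ι] (h2 : (2 : F) ≠ 0) (y : GL ι F) (n : ℕ) (hn : Odd n) (c : F)
    (hyn : ((y ^ n : GL ι F) : Matrix ι ι F) = c • 1) (h : GL ι F)
    (hneg : cj y (h : Matrix ι ι F) = -(h : Matrix ι ι F)) : False := by
  have hne := one_ne_neg_one_mat (ι := ι) h2
  have h1 := cj_pow_neg y _ hneg n
  rw [cj_scalar _ c hyn, hn.neg_one_pow, neg_one_smul] at h1
  apply hne
  calc (1 : Matrix ι ι F) = (h : Matrix ι ι F) * ((h⁻¹ : GL ι F) : Matrix ι ι F) :=
        (Units.mul_inv h).symm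
    _ = -(h : Matrix ι ι F) * ((h⁻¹ : GL ι F) : Matrix ι ι F) := by rw [← h1]
    _ = -1 := by rw [neg_mul, Units.mul_inv]

theorem Config.trace_identity [Fintype F] [Nonempty ι] (h2 : (2 : F) ≠ 0)
    (hC : Config R G1 G2 A B)
    (hRi : Cfsg.Geo.ActsAbsolutelyIrreducibly (Cfsg.Geo.matrixSet R))
    (hι : Fintype.card ι = 4) (hR5 : Nat.card R = 32)
    (y : GL ι F) (hy : y ∈ Cfsg.Geo.subgroupNormalizer R) (n : ℕ) (hn : Odd n) (c : F)
    (hyn : ((y ^ n : GL ι F) : Matrix ι ι F) = c • 1) :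
    (Nat.card (centIn R y) : F) =
      2 * (y : Matrix ι ι F).trace * ((y⁻¹ : GL ι F) : Matrix ι ι F).trace := by
  classical
  haveI : Fintype R := Fintype.ofFinite R
  set Ym : Matrix ι ι F := (y : Matrix ι ι F) with hYm
  set Yi : Matrix ι ι F := ((y⁻¹ : GL ι F) : Matrix ι ι F) with hYi
  set S : Matrix ι ι F := ∑ h : R, cj (h : GL ι F) Ym with hS
  have hcardR : Fintype.card R = 32 := by rw [← Nat.card_eq_fintype_card]; exact hR5
  have hι' : ((Fintype.card ι : ℕ) : F) = 4 := by rw [hι]; norm_num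
  -- (1) `S` is fixed by conjugation with elements of `R`
  have hSfix : ∀ k : R, cj (k : GL ι F) S = S := by
    intro k
    rw [hS, cj_sum]
    have : ∀ h : R, cj (k : GL ι F) (cj (h : GL ι F) Ym) = cj ((k * h : R) : GL ι F) Ym := by
      intro h
      rw [Subgroup.coe_mul, cj_comp]
    simp_rw [this]
    exact Equiv.sum_comp (Equiv.mulLeft k) (fun h : R => cj (h : GL ι F) Ym)
  have hScomm : ∀ s ∈ Cfsg.Geo.matrixSet R, S * s = s * S := by
    rintro s ⟨k, hk, rfl⟩
    have := (cj_eq_iff k S S).mp (hSfix ⟨k, hk⟩)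
    exact this.symm
  obtain ⟨s, hs⟩ := hRi.2 S hScomm
  -- (3) traces
  have htrS : s * 4 = 32 * Ym.trace := by
    have h1 : S.trace = 32 * Ym.trace := by
      rw [hS, Matrix.trace_sum]
      simp_rw [trace_cj]
      rw [Finset.sum_const, Finset.card_univ, hcardR]
      simp
    have h3 : S.trace = s * 4 := by
      rw [hs, Matrix.trace_smul, Matrix.trace_one, smul_eq_mul, hι']
    rw [← h3, h1]
  -- (4) the elements φ h
  have hφmem : ∀ h : R, (h : GL ι F) * y * (h : GL ι F)⁻¹ * y⁻¹ ∈ R := by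
    intro h
    have h1 := conj_mem_of_normalizer y hy _ (R.inv_mem h.2)
    have : (h : GL ι F) * y * (h : GL ι F)⁻¹ * y⁻¹ = (h : GL ι F) * (y * (h : GL ι F)⁻¹ * y⁻¹) := by
      group
    rw [this]
    exact R.mul_mem h.2 h1
  have hφcoe : ∀ h : R, (((h : GL ι F) * y * (h : GL ι F)⁻¹ * y⁻¹ : GL ι F) : Matrix ι ι F) =
      cj (h : GL ι F) Ym * Yi := by
    intro h
    rw [Units.val_mul, ← cj_coe]
  have hsum : ∑ h : R, cj (h : GL ι F) Ym * Yi = s • Yi := by
    rw [← Finset.sum_mul, ← hS, hs, Matrix.smul_mul, Matrix.one_mul]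
  have htr2 : ∑ h : R, (cj (h : GL ι F) Ym * Yi).trace = s * Yi.trace := by
    rw [← Matrix.trace_sum, hsum, Matrix.trace_smul, smul_eq_mul]
  -- (5) the individual traces
  have hYiYm : Yi * Ym = 1 := Units.inv_mul y
  have hYmYi : Ym * Yi = 1 := Units.mul_inv y
  have hterm : ∀ h : R, (cj (h : GL ι F) Ym * Yi).trace =
      if (h : GL ι F) ∈ centIn R y then (4 : F) else 0 := by
    intro h
    by_cases hc : (h : GL ι F) ∈ centIn R y
    · rw [if_pos hc]
      have hcomm := ((mem_centIn R y h).mp hc).2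
      have h1 : cj (h : GL ι F) Ym = Ym := by
        rw [cj_eq_iff, hYm, ← Units.val_mul, ← Units.val_mul, hcomm]
      rw [h1, hYmYi, Matrix.trace_one, hι']
    · rw [if_neg hc]
      rw [← hφcoe]
      apply hC.trace_noncentral h2 _ (hφmem h)
      · rw [hφcoe]
        intro h1
        apply hc
        rw [mem_centIn]
        refine ⟨h.2, ?_⟩
        have h3 : cj (h : GL ι F) Ym = Ym := by
          calc cj (h : GL ι F) Ym = cj (h : GL ι F) Ym * (Yi * Ym) := by rw [hYiYm, mul_one]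
            _ = (cj (h : GL ι F) Ym * Yi) * Ym := by rw [mul_assoc]
            _ = Ym := by rw [h1, one_mul]
        rw [cj_eq_iff] at h3
        apply Units.ext
        rw [Units.val_mul, Units.val_mul]
        exact h3.symm
      · rw [hφcoe]
        intro h1
        have h3 : cj (h : GL ι F) Ym = -Ym := by
          calc cj (h : GL ι F) Ym = cj (h : GL ι F) Ym * (Yi * Ym) := by rw [hYiYm, mul_one]
            _ = (cj (h : GL ι F) Ym * Yi) * Ym := by rw [mul_assoc]
            _ = -Ym := by rw [h1, neg_mul, one_mul]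
        rw [cj_eq_iff] at h3
        have h4 : cj y ((h : GL ι F) : Matrix ι ι F) = -((h : GL ι F) : Matrix ι ι F) := by
          rw [cj_eq_iff, neg_mul, h3, neg_mul, neg_neg]
        exact no_neg_sign_unit h2 y n hn c hyn _ h4
  -- (6) counting
  have hcount : ∑ h : R, (if (h : GL ι F) ∈ centIn R y then (4 : F) else 0) =
      4 * (Nat.card (centIn R y) : F) := by
    rw [Finset.sum_ite, Finset.sum_const, Finset.sum_const_zero, add_zero, nsmul_eq_mul, mul_comm]
    congr 2
    rw [← Nat.card_eq_finsetCard]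
    apply Nat.card_congr
    refine ⟨fun h => ⟨h.1.1, by have := h.2; rw [Finset.mem_filter] at this; exact this.2⟩,
      fun h => ⟨⟨h.1, ((mem_centIn R y h.1).mp h.2).1⟩, by
        rw [Finset.mem_filter]; exact ⟨Finset.mem_univ _, h.2⟩⟩, ?_, ?_⟩
    · intro h; rfl
    · intro h; rfl
  have h7 : 4 * (Nat.card (centIn R y) : F) = s * Yi.trace := by
    rw [← hcount, ← htr2]
    exact (Finset.sum_congr rfl (fun h _ => hterm h)).symm
  have h16 : (16 : F) ≠ 0 := by
    have : (16 : F) = 2 * 2 * 2 * 2 := by norm_num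
    rw [this]
    exact mul_ne_zero (mul_ne_zero (mul_ne_zero h2 h2) h2) h2
  have h8 : (16 : F) * (Nat.card (centIn R y) : F) = 16 * (2 * Ym.trace * Yi.trace) := by
    linear_combination 4 * h7 + Yi.trace * htrS
  exact mul_left_cancel₀ h16 h8

end Cfsg.Agent.Lib.Helper9.C6D4
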