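import Mathlib
import Cfsg.Agent.Lib.Helper9.C6D4o

set_option autoImplicit false

/-! Transvection-like elements are not in the normaliser (two special cases). -/

open scoped MatrixGroups Matrix

namespace Cfsg.Agent.Lib.Helper9.C6D4

variable {F : Type*} [Field F] {ι : Type} [Fintype ι] [DecidableEq ι]
  {R : Subgroup (GL ι F)} {G1 G2 A B : GL ι F}

theorem vecMulVec_mulVec' (u ψ v : ι → F) :
    (Matrix.vecMulVec u ψ) *ᵥ v = (ψ ⬝ᵥ v) • u := by
  ext i
  simp only [Matrix.mulVec, Matrix.vecMulVec_apply, dotProduct, Pi.smul_apply, smul_eq_mul]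
  rw [Finset.sum_mul]
  apply Finset.sum_congr rfl
  intro j _
  ring

/-- a rank one matrix commutes with no pair of anticommuting involutions -/
theorem no_rank_one_comm (h2 : (2 : F) ≠ 0) (u ψ : ι → F) (hu : u ≠ 0) (hψ : ψ ≠ 0)
    (P Q : Matrix ι ι F) (hPP : P * P = 1) (hQQ : Q * Q = 1) (hPQ : P * Q = -(Q * P))
    (hP : P * Matrix.vecMulVec u ψ = Matrix.vecMulVec u ψ * P)
    (hQ : Q * Matrix.vecMulVec u ψ = Matrix.vecMulVec u ψ * Q) : False := by
  obtain ⟨i, hi⟩ : ∃ i, ψ i ≠ 0 := by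
    by_contra hcon
    push Not at hcon
    exact hψ (funext hcon)
  have hdot : ψ ⬝ᵥ (Pi.single i 1) = ψ i := by simp
  have eig : ∀ X : Matrix ι ι F, X * Matrix.vecMulVec u ψ = Matrix.vecMulVec u ψ * X →
      ∃ α : F, X *ᵥ u = α • u := by
    intro X hX
    have h1 := congrArg (fun M => M *ᵥ (Pi.single i (1 : F))) hX
    simp only [← Matrix.mulVec_mulVec, vecMulVec_mulVec', hdot, Matrix.mulVec_smul] at h1
    refine ⟨(ψ i)⁻¹ * (ψ ⬝ᵥ X *ᵥ Pi.single i 1), ?_⟩
    rw [mul_smul, ← h1, smul_smul, inv_mul_cancel₀ hi, one_smul]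
  obtain ⟨α, hα⟩ := eig P hP
  obtain ⟨β, hβ⟩ := eig Q hQ
  have sq : ∀ (X : Matrix ι ι F) (a : F), X * X = 1 → X *ᵥ u = a • u → a * a = 1 := by
    intro X a hXX hXu
    have h1 : (X * X) *ᵥ u = (a * a) • u := by
      rw [← Matrix.mulVec_mulVec, hXu, Matrix.mulVec_smul, hXu, smul_smul]
    rw [hXX, Matrix.one_mulVec] at h1
    by_contra hne
    apply hu
    have h3 : (a * a - 1) • u = 0 := by
      rw [sub_smul, one_smul, ← h1, sub_self]
    rcases smul_eq_zero.mp h3 with h4 | h4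
    · exact absurd (sub_eq_zero.mp h4) hne
    · exact h4
  have hαα := sq P α hPP hα
  have hββ := sq Q β hQQ hβ
  have h1 : (P * Q) *ᵥ u = (β * α) • u := by
    rw [← Matrix.mulVec_mulVec, hβ, Matrix.mulVec_smul, hα, smul_smul]
  have h3 : (Q * P) *ᵥ u = (α * β) • u := by
    rw [← Matrix.mulVec_mulVec, hα, Matrix.mulVec_smul, hβ, smul_smul]
  rw [hPQ, Matrix.neg_mulVec, h3] at h1
  have h4 : (2 * (α * β)) • u = 0 := by
    have : (2 * (α * β)) • u = (α * β) • u + (β * α) • u := by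
      rw [← add_smul]; congr 1; ring
    rw [this, ← h1, add_neg_cancel]
  rcases smul_eq_zero.mp h4 with h5 | h5
  · have h6 : α * β = 0 := by
      rcases mul_eq_zero.mp h5 with h7 | h7
      · exact absurd h7 h2
      · exact h7
    have : (α * α) * (β * β) = 0 := by
      have : (α * α) * (β * β) = (α * β) * (α * β) := by ring
      rw [this, h6, zero_mul]
    rw [hαα, hββ, mul_one] at this
    exact (one_ne_zero (α := F)) this
  · exact hu h5

theorem phi_mem (y : GL ι F) (hy : y ∈ Cfsg.Geo.subgroupNormalizer R) (h : GL ι F) (hh : h ∈ R) :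
    h * y * h⁻¹ * y⁻¹ ∈ R := by
  have h1 := conj_mem_of_normalizer y hy _ (R.inv_mem hh)
  have : h * y * h⁻¹ * y⁻¹ = h * (y * h⁻¹ * y⁻¹) := by group
  rw [this]
  exact R.mul_mem hh h1

theorem Config.claimT [Fintype F] [Nonempty ι] (h2 : (2 : F) ≠ 0) (hC : Config R G1 G2 A B)
    (hR5 : Nat.card R = 32) (y : GL ι F) (hy : y ∈ Cfsg.Geo.subgroupNormalizer R)
    (n : ℕ) (hn : Odd n) (c : F) (hyn : ((y ^ n : GL ι F) : Matrix ι ι F) = c • 1)
    (hfpf : ∀ h ∈ R, y * h = h * y → (h : Matrix ι ι F) = 1 ∨ (h : Matrix ι ι F) = -1)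
    (k : GL ι F) (hk : k ∈ R) :
    ∃ h ∈ R, ((h * y * h⁻¹ * y⁻¹ : GL ι F) : Matrix ι ι F) = k ∨
      ((h * y * h⁻¹ * y⁻¹ : GL ι F) : Matrix ι ι F) = -(k : Matrix ι ι F) := by
  classical
  haveI : Fintype R := Fintype.ofFinite R
  have hcardR : Fintype.card R = 32 := by rw [← Nat.card_eq_fintype_card]; exact hR5
  obtain ⟨ζ₀, hζR, hζ⟩ := hC.negone
  set ζ : R := ⟨ζ₀, hζR⟩ with hζdef
  have hζM : ∀ h : R, toM R (ζ * h) = -toM R h := by
    intro h
    rw [toM_mul]
    show (ζ₀ : Matrix ι ι F) * _ = _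
    rw [hζ, neg_mul, one_mul]
  set ψ : R → R := fun h => ⟨(h : GL ι F) * y * (h : GL ι F)⁻¹ * y⁻¹, phi_mem y hy h h.2⟩ with hψ
  -- the key relation between two elements
  have key : ∀ h h' : R, ∀ ε : Matrix ι ι F, (ε = 1 ∨ ε = -1) →
      toM R (ψ h) = ε * toM R (ψ h') →
      cj ((h' : GL ι F)⁻¹ * (h : GL ι F)) (y : Matrix ι ι F) = ε * (y : Matrix ι ι F) := by
    intro h h' ε hε heq
    have e1 : ∀ g : R, toM R (ψ g) = cj (g : GL ι F) (y : Matrix ι ι F) *
        ((y⁻¹ : GL ι F) : Matrix ι ι F) := by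
      intro g
      show (((g : GL ι F) * y * (g : GL ι F)⁻¹ * y⁻¹ : GL ι F) : Matrix ι ι F) = _
      rw [Units.val_mul, ← cj_coe]
    rw [e1, e1] at heq
    have e2 : cj (h : GL ι F) (y : Matrix ι ι F) = ε * cj (h' : GL ι F) (y : Matrix ι ι F) := by
      have := congrArg (fun M => M * (y : Matrix ι ι F)) heq
      simp only [mul_assoc, Units.inv_mul, mul_one] at this
      exact this
    rw [cj_comp, e2]
    rcases hε with rfl | rfl
    · rw [one_mul, one_mul, cj_inv_cancel]
    · rw [neg_mul, one_mul, neg_mul, one_mul, cj_neg, cj_inv_cancel]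
  -- fibres
  have fiber : ∀ h h' : R, ψ h = ψ h' → h = h' ∨ h = ζ * h' := by
    intro h h' heq
    have h1 := key h h' 1 (Or.inl rfl) (by rw [heq, one_mul])
    rw [one_mul, cj_eq_iff, ← Units.val_mul, ← Units.val_mul] at h1
    have h3 : y * ((h' : GL ι F)⁻¹ * (h : GL ι F)) = ((h' : GL ι F)⁻¹ * (h : GL ι F)) * y :=
      (Units.ext h1).symm
    rcases hfpf _ (R.mul_mem (R.inv_mem h'.2) h.2) h3 with h4 | h4
    · left
      apply toM_injective R
      have : toM R h = toM R h' * (((h' : GL ι F)⁻¹ * (h : GL ι F) : GL ι F) : Matrix ι ι F) := by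
        unfold toM
        rw [← Units.val_mul]
        congr 1
        group
      rw [this, h4, mul_one]
    · right
      apply toM_injective R
      have : toM R h = toM R h' * (((h' : GL ι F)⁻¹ * (h : GL ι F) : GL ι F) : Matrix ι ι F) := by
        unfold toM
        rw [← Units.val_mul]
        congr 1
        group
      rw [this, h4, hζM, mul_neg, mul_one]
  have nosign : ∀ h h' : R, toM R (ψ h) ≠ -toM R (ψ h') := by
    intro h h' heq
    have h1 := key h h' (-1) (Or.inr rfl) (by rw [heq, neg_mul, one_mul])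
    rw [neg_mul, one_mul, cj_eq_iff] at h1
    have h3 : cj y ((((h' : GL ι F)⁻¹ * (h : GL ι F) : GL ι F)) : Matrix ι ι F) =
        -((((h' : GL ι F)⁻¹ * (h : GL ι F) : GL ι F)) : Matrix ι ι F) := by
      rw [cj_eq_iff, neg_mul, h1, neg_mul, neg_neg]
    exact no_neg_sign_unit h2 y n hn c hyn _ h3
  -- counting
  set S : Finset R := Finset.univ.image ψ with hS
  have hS16 : 32 ≤ 2 * S.card := by
    have := Finset.card_le_mul_card_image (f := ψ) (Finset.univ : Finset R) 2 (by
      intro b hb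
      obtain ⟨h₀, -, rfl⟩ := Finset.mem_image.mp hb
      have hsub : (Finset.univ.filter (fun a => ψ a = ψ h₀)) ⊆ {h₀, ζ * h₀} := by
        intro a ha
        rw [Finset.mem_filter] at ha
        rw [Finset.mem_insert, Finset.mem_singleton]
        exact fiber a h₀ ha.2
      exact (Finset.card_le_card hsub).trans Finset.card_le_two)
    rw [Finset.card_univ, hcardR] at this
    exact this
  set S' : Finset R := S.image (fun a => ζ * a) with hS'
  have hS'card : S'.card = S.card :=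
    Finset.card_image_of_injective _ (mul_right_injective ζ)
  have hdisj : Disjoint S S' := by
    rw [Finset.disjoint_left]
    intro b hb hb'
    obtain ⟨h, -, rfl⟩ := Finset.mem_image.mp hb
    obtain ⟨b', hb'S, hb'eq⟩ := Finset.mem_image.mp hb'
    obtain ⟨h', -, rfl⟩ := Finset.mem_image.mp hb'S
    apply nosign h h'
    rw [← hζM]
    exact congrArg (toM R) hb'eq.symm
  have hunion : S ∪ S' = Finset.univ := by
    apply Finset.eq_univ_of_card
    rw [Finset.card_union_of_disjoint hdisj, hS'card, hcardR]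
    have := Finset.card_le_univ (S ∪ S')
    rw [Finset.card_union_of_disjoint hdisj, hS'card, hcardR] at this
    omega
  have hkmem : (⟨k, hk⟩ : R) ∈ S ∪ S' := by rw [hunion]; exact Finset.mem_univ _
  rcases Finset.mem_union.mp hkmem with hk' | hk'
  · obtain ⟨h, -, hh⟩ := Finset.mem_image.mp hk'
    refine ⟨h, h.2, Or.inl ?_⟩
    exact congrArg (toM R) hh
  · obtain ⟨b', hb'S, hb'eq⟩ := Finset.mem_image.mp hk'
    obtain ⟨h, -, rfl⟩ := Finset.mem_image.mp hb'S
    refine ⟨h, h.2, Or.inr ?_⟩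
    have := congrArg (toM R) hb'eq
    rw [hζM] at this
    show toM R (ψ h) = -toM R ⟨k, hk⟩
    rw [← this, neg_neg]

end Cfsg.Agent.Lib.Helper9.C6D4
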