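import Mathlib
import Cfsg.Agent.Lib.Helper9.C6D4p

set_option autoImplicit false

/-! Elements of order five in the normaliser act without fixed points; no transvections. -/

open scoped MatrixGroups Matrix

namespace Cfsg.Agent.Lib.Helper9.C6D4

variable {F : Type*} [Field F] {ι : Type} [Fintype ι] [DecidableEq ι]
  {R : Subgroup (GL ι F)} {G1 G2 A B : GL ι F}

theorem centIn_le (R : Subgroup (GL ι F)) (y : GL ι F) : centIn R y ≤ R := inf_le_left

theorem Config.scalar_of_centIn_eq (hC : Config R G1 G2 A B)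
    (hRi : Cfsg.Geo.ActsAbsolutelyIrreducibly (Cfsg.Geo.matrixSet R)) (y : GL ι F)
    (hall : ∀ h ∈ R, h ∈ centIn R y) : ∃ d : F, (y : Matrix ι ι F) = d • 1 := by
  have comm : ∀ h ∈ R, (y : Matrix ι ι F) * (h : Matrix ι ι F) = (h : Matrix ι ι F) * y := by
    intro h hh
    have := ((mem_centIn R y h).mp (hall h hh)).2
    rw [← Units.val_mul, ← Units.val_mul, this]
  exact hRi.2 _ (hC.comm_all _ (comm _ hC.m1) (comm _ hC.m2) (comm _ hC.mA) (comm _ hC.mB))

theorem dvd32_cases (m : ℕ) (h : m ∣ 32) : m = 1 ∨ m = 2 ∨ m = 4 ∨ m = 8 ∨ m = 16 ∨ m = 32 := by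
  have h32 : (32 : ℕ) = 2 ^ 5 := by norm_num
  rw [h32] at h
  obtain ⟨j, hj, rfl⟩ := (Nat.dvd_prime_pow Nat.prime_two).mp h
  interval_cases j <;> simp

/-- elements of order five: the centraliser in `R` is `{1, -1}` -/
theorem Config.fpf_five [Fintype F] [Nonempty ι] (h2 : (2 : F) ≠ 0) (hC : Config R G1 G2 A B)
    (hRi : Cfsg.Geo.ActsAbsolutelyIrreducibly (Cfsg.Geo.matrixSet R)) (hR5 : Nat.card R = 32)
    (y : GL ι F) (hy : y ∈ Cfsg.Geo.subgroupNormalizer R) (c : F)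
    (hy5 : ((y ^ 5 : GL ι F) : Matrix ι ι F) = c • 1)
    (hns : ∀ d : F, (y : Matrix ι ι F) ≠ d • 1) :
    Nat.card (centIn R y) = 2 ∧
      ∀ h ∈ R, y * h = h * y → (h : Matrix ι ι F) = 1 ∨ (h : Matrix ι ι F) = -1 := by
  haveI : Fact (Nat.Prime 5) := ⟨by norm_num⟩
  have hmod := card_centIn_modEq R y hy 5 c hy5
  rw [hR5] at hmod
  have hdvd : Nat.card (centIn R y) ∣ 32 := by
    rw [← hR5]
    exact Subgroup.card_dvd_of_le (centIn_le R y)
  have hcard : Nat.card (centIn R y) = 2 := by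
    unfold Nat.ModEq at hmod
    rcases dvd32_cases _ hdvd with h | h | h | h | h | h <;> rw [h] at hmod
    · omega
    · exact h
    · omega
    · omega
    · omega
    · exfalso
      have heq : centIn R y = R := by
        apply Subgroup.eq_of_le_of_card_ge (centIn_le R y)
        rw [h, hR5]
      obtain ⟨d, hd⟩ := hC.scalar_of_centIn_eq hRi y (fun h hh => by rw [heq]; exact hh)
      exact hns d hd
  refine ⟨hcard, ?_⟩
  intro h hh hcomm
  obtain ⟨ζ₀, hζR, hζ⟩ := hC.negone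
  have hζC : ζ₀ ∈ centIn R y := by
    rw [mem_centIn]
    refine ⟨hζR, ?_⟩
    apply Units.ext
    rw [Units.val_mul, Units.val_mul, hζ]
    simp
  have hhC : h ∈ centIn R y := (mem_centIn R y h).mpr ⟨hh, hcomm⟩
  obtain ⟨b, hb, huniq⟩ := (Nat.card_eq_two_iff' (1 : centIn R y)).mp hcard
  by_cases h1 : h = 1
  · left; rw [h1, Units.val_one]
  · right
    have e1 : (⟨h, hhC⟩ : centIn R y) = b := huniq _ (fun hc => h1 (congrArg Subtype.val hc))
    have hζ1 : ζ₀ ≠ 1 := by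
      intro hc
      rw [hc, Units.val_one] at hζ
      exact one_ne_neg_one_mat (ι := ι) h2 hζ
    have e2 : (⟨ζ₀, hζC⟩ : centIn R y) = b := huniq _ (fun hc => hζ1 (congrArg Subtype.val hc))
    have : h = ζ₀ := congrArg Subtype.val (e1.trans e2.symm)
    rw [this, hζ]

/-- a fixed-point-free element of the normaliser is not of the form `1 + rank one` -/
theorem Config.no_transvection_fpf [Fintype F] [Nonempty ι] (h2 : (2 : F) ≠ 0)
    (hC : Config R G1 G2 A B) (hι : Fintype.card ι = 4) (hR5 : Nat.card R = 32)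
    (y : GL ι F) (hy : y ∈ Cfsg.Geo.subgroupNormalizer R)
    (n : ℕ) (hn : Odd n) (c : F) (hyn : ((y ^ n : GL ι F) : Matrix ι ι F) = c • 1)
    (hfpf : ∀ h ∈ R, y * h = h * y → (h : Matrix ι ι F) = 1 ∨ (h : Matrix ι ι F) = -1)
    (u ψ : ι → F) (hN : (y : Matrix ι ι F) = 1 + Matrix.vecMulVec u ψ) : False := by
  have hI : G1 * G2 ∈ R := R.mul_mem hC.m1 hC.m2
  have hII : ((G1 * G2 : GL ι F) : Matrix ι ι F) * ((G1 * G2 : GL ι F) : Matrix ι ι F) = -1 := by
    rw [Units.val_mul]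
    exact hC.qd.I_sq
  obtain ⟨h, hh, hK⟩ := hC.claimT h2 hR5 y hy n hn c hyn hfpf (G1 * G2) hI
  set K : Matrix ι ι F := ((h * y * h⁻¹ * y⁻¹ : GL ι F) : Matrix ι ι F) with hKdef
  have hKK : K * K = -1 := by
    rcases hK with hK | hK <;> rw [hK]
    · exact hII
    · rw [neg_mul, mul_neg, neg_neg]; exact hII
  set Hi : Matrix ι ι F := ((h⁻¹ : GL ι F) : Matrix ι ι F) with hHi
  -- a common kernel vector of two functionals
  let f : (ι → F) →ₗ[F] F × F :=
    { toFun := fun v => (ψ ⬝ᵥ v, ψ ⬝ᵥ (Hi *ᵥ v))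
      map_add' := by
        intro v w
        simp [dotProduct_add, Matrix.mulVec_add]
      map_smul' := by
        intro a v
        simp [dotProduct_smul, Matrix.mulVec_smul] }
  have hker : LinearMap.ker f ≠ ⊥ := by
    apply LinearMap.ker_ne_bot_of_finrank_lt
    rw [Module.finrank_prod, Module.finrank_self, Module.finrank_fintype_fun_eq_card, hι]
    norm_num
  obtain ⟨v, hvker, hv0⟩ := (Submodule.ne_bot_iff _).mp hker
  have hfv : f v = 0 := LinearMap.mem_ker.mp hvker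
  have hv1 : ψ ⬝ᵥ v = 0 := congrArg Prod.fst hfv
  have hv2 : ψ ⬝ᵥ (Hi *ᵥ v) = 0 := congrArg Prod.snd hfv
  have hYv : (y : Matrix ι ι F) *ᵥ v = v := by
    rw [hN, Matrix.add_mulVec, Matrix.one_mulVec, vecMulVec_mulVec', hv1, zero_smul, add_zero]
  have hYiv : ((y⁻¹ : GL ι F) : Matrix ι ι F) *ᵥ v = v := by
    conv_lhs => rw [← hYv]
    rw [Matrix.mulVec_mulVec, Units.inv_mul, Matrix.one_mulVec]
  have hKv : K *ᵥ v = v := by
    rw [hKdef, Units.val_mul, Units.val_mul, Units.val_mul, ← Matrix.mulVec_mulVec, hYiv,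
      ← Matrix.mulVec_mulVec, ← Matrix.mulVec_mulVec, hN, Matrix.add_mulVec, Matrix.one_mulVec,
      vecMulVec_mulVec', hv2, zero_smul, add_zero, Matrix.mulVec_mulVec, Units.mul_inv,
      Matrix.one_mulVec]
  have hKKv : (K * K) *ᵥ v = v := by
    rw [← Matrix.mulVec_mulVec, hKv, hKv]
  rw [hKK, Matrix.neg_mulVec, Matrix.one_mulVec] at hKKv
  apply hv0
  have h3 : (2 : F) • v = 0 := by
    rw [two_smul]
    nth_rewrite 1 [← hKKv]
    rw [neg_add_cancel]
  rcases smul_eq_zero.mp h3 with h4 | h4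
  · exact absurd h4 h2
  · exact h4

end Cfsg.Agent.Lib.Helper9.C6D4
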