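import Mathlib
import Cfsg.Prelude.Def_GeometricClasses
import Cfsg.Agent.Lib.Helper9.SpMax1

set_option autoImplicit false

/-! Test elements of `Sp_4(F)`: a `2 × 2` block on the first hyperbolic plane. -/

open scoped MatrixGroups Matrix

namespace Cfsg.Agent.Lib.Helper9.C6D4

variable {F : Type*} [Field F]

/-- the matrix acting as `[[a, b], [c, d]]` on `⟨e_{inl 0}, e_{inr 0}⟩` and trivially on
`⟨e_{inl 1}, e_{inr 1}⟩` -/
def blk (a b c d : F) : Matrix (Fin 2 ⊕ Fin 2) (Fin 2 ⊕ Fin 2) F :=
  Matrix.fromBlocks (Matrix.diagonal ![a, 1]) (Matrix.diagonal ![b, 0])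
    (Matrix.diagonal ![c, 0]) (Matrix.diagonal ![d, 1])

theorem blk_mul (a b c d a' b' c' d' : F) :
    blk a b c d * blk a' b' c' d' =
      blk (a * a' + b * c') (a * b' + b * d') (c * a' + d * c') (c * b' + d * d') := by
  unfold blk
  rw [Matrix.fromBlocks_multiply]
  simp only [Matrix.diagonal_mul_diagonal, Matrix.diagonal_add]
  congr 1 <;> (congr 1; ext i; fin_cases i <;> simp)

theorem blk_one : blk (1 : F) 0 0 1 = 1 := by
  unfold blk
  rw [← Matrix.fromBlocks_one]
  congr 1 <;> (ext i j; fin_cases i <;> fin_cases j <;> simp)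

theorem blk_ext {a b c d a' b' c' d' : F} (ha : a = a') (hb : b = b') (hc : c = c') (hd : d = d') :
    blk a b c d = blk a' b' c' d' := by
  rw [ha, hb, hc, hd]

theorem blk_trace (a b c d : F) : (blk a b c d).trace = a + d + 2 := by
  unfold blk
  rw [Matrix.trace, Fintype.sum_sum_type]
  simp only [Matrix.diag_apply, Matrix.fromBlocks_apply₁₁, Matrix.fromBlocks_apply₂₂,
    Fin.sum_univ_two, Matrix.diagonal_apply_eq, Matrix.cons_val_zero, Matrix.cons_val_one]
  ring

theorem blk_apply_01 (a b c d : F) : blk a b c d (Sum.inl 0) (Sum.inr 0) = b := by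
  simp [blk]

theorem blk_ne_smul (a c d z : F) : blk a (-1) c d ≠ z • (1 : Matrix (Fin 2 ⊕ Fin 2) (Fin 2 ⊕ Fin 2) F) := by
  intro h
  have := congrFun (congrFun h (Sum.inl 0)) (Sum.inr 0)
  rw [blk_apply_01] at this
  simp at this

theorem blk_mem (a b c d : F) (hdet : a * d - b * c = 1) :
    blk a b c d ∈ Matrix.symplecticGroup (Fin 2) F := by
  rw [SymplecticGroup.mem_iff]
  unfold blk Matrix.J
  rw [Matrix.fromBlocks_transpose, Matrix.fromBlocks_multiply, Matrix.fromBlocks_multiply]
  simp only [Matrix.diagonal_transpose, Matrix.mul_zero, Matrix.mul_one, Matrix.mul_neg, zero_add,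
    add_zero, Matrix.neg_mul, Matrix.diagonal_mul_diagonal]
  have h1 : d * a - c * b = 1 := by linear_combination hdet
  congr 1 <;>
  · ext i j
    fin_cases i <;> fin_cases j <;>
    simp [Matrix.diagonal] <;>
    first
    | ring1
    | linear_combination hdet
    | linear_combination -hdet
    | linear_combination 2 * hdet
    | linear_combination (-2 : F) * hdet

end Cfsg.Agent.Lib.Helper9.C6D4
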