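import Mathlib
import Cfsg.Agent.Lib.Helper9.C6D4r

set_option autoImplicit false

/-! The test elements `blk 0 (-1) 1 t` of `Sp_4(F)`. -/

open scoped MatrixGroups Matrix

namespace Cfsg.Agent.Lib.Helper9.C6D4

variable {F : Type*} [Field F]

theorem xt_exists (t : F) : ∃ g : GL (Fin 2 ⊕ Fin 2) F, g ∈ Cfsg.spGL 2 F ∧
    (g : Matrix (Fin 2 ⊕ Fin 2) (Fin 2 ⊕ Fin 2) F) = blk 0 (-1) 1 t ∧
    ((g⁻¹ : GL (Fin 2 ⊕ Fin 2) F) : Matrix (Fin 2 ⊕ Fin 2) (Fin 2 ⊕ Fin 2) F) = blk t 1 (-1) 0 := by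
  have hmem : blk 0 (-1) 1 t ∈ Matrix.symplecticGroup (Fin 2) F := blk_mem _ _ _ _ (by ring)
  set g := Cfsg.Agent.H9SpMax.toGL 2 F ⟨_, hmem⟩ with hg
  have hcoe : (g : Matrix (Fin 2 ⊕ Fin 2) (Fin 2 ⊕ Fin 2) F) = blk 0 (-1) 1 t := rfl
  refine ⟨g, ?_, hcoe, ?_⟩
  · rw [← Cfsg.Agent.H9SpMax.toGL_range]
    exact ⟨_, rfl⟩
  · apply Units.inv_eq_of_mul_eq_one_right
    rw [hcoe, blk_mul, ← blk_one]
    apply blk_ext <;> ring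

theorem xt_pow_three : blk 0 (-1) 1 (-1 : F) ^ 3 = 1 := by
  rw [show (3 : ℕ) = 1 + 1 + 1 from rfl, pow_succ, pow_succ, pow_one, blk_mul, blk_mul, ← blk_one]
  apply blk_ext <;> ring

theorem xt_pow_five (τ : F) (hτ : τ ^ 2 + τ - 1 = 0) : blk 0 (-1) 1 τ ^ 5 = 1 := by
  rw [show (5 : ℕ) = 1 + 1 + 1 + 1 + 1 from rfl, pow_succ, pow_succ, pow_succ, pow_succ, pow_one,
    blk_mul, blk_mul, blk_mul, blk_mul, ← blk_one]
  apply blk_ext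
  · linear_combination (-(τ - 1)) * hτ
  · linear_combination (-(τ ^ 2 - τ - 1)) * hτ
  · linear_combination (τ ^ 2 - τ - 1) * hτ
  · linear_combination (τ ^ 3 - τ ^ 2 - 2 * τ + 1) * hτ

/-- the column and the row of the transvection `blk 0 (-1) 1 2` -/
def u₀ : Fin 2 ⊕ Fin 2 → F := Sum.elim ![-1, 0] ![1, 0]
def ψ₀ : Fin 2 ⊕ Fin 2 → F := Sum.elim ![1, 0] ![1, 0]

theorem u₀_ne : (u₀ : Fin 2 ⊕ Fin 2 → F) ≠ 0 := by
  intro h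
  have := congrFun h (Sum.inr 0)
  simp [u₀] at this

theorem ψ₀_ne : (ψ₀ : Fin 2 ⊕ Fin 2 → F) ≠ 0 := by
  intro h
  have := congrFun h (Sum.inr 0)
  simp [ψ₀] at this

theorem xt_two : blk 0 (-1) 1 (2 : F) = 1 + Matrix.vecMulVec u₀ ψ₀ := by
  ext i j
  rcases i with i | i <;> rcases j with j | j <;> fin_cases i <;> fin_cases j <;>
    simp [blk, u₀, ψ₀, Matrix.vecMulVec_apply, Matrix.one_apply] <;> ring

end Cfsg.Agent.Lib.Helper9.C6D4
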