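import Mathlib
import Cfsg.Agent.Lib.Helper9.C6D4q

set_option autoImplicit false

/-! The elements `1 + Γ_i Γ_j`: ring-level identities. -/

open scoped MatrixGroups Matrix

namespace Cfsg.Agent.Lib.Helper9.C6D4

section Ring

variable {M : Type*} [Ring M] {γ : Fin 5 → M}

theorem Cliff.up_mul_i (h : Cliff γ) {i j : Fin 5} (hij : i ≠ j) :
    (1 + γ i * γ j) * γ i = -(γ j) * (1 + γ i * γ j) := by
  have h1 : γ j * γ i = -(γ i * γ j) := h.anti j i hij.symm
  have hl : (1 + γ i * γ j) * γ i = γ i - γ j := by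
    calc (1 + γ i * γ j) * γ i = γ i + γ i * (γ j * γ i) := by noncomm_ring
      _ = γ i + γ i * (-(γ i * γ j)) := by rw [h1]
      _ = γ i - (γ i * γ i) * γ j := by noncomm_ring
      _ = γ i - γ j := by rw [h.sq, one_mul]
  have hr : -(γ j) * (1 + γ i * γ j) = γ i - γ j := by
    have h3 : γ j * (γ i * γ j) = -(γ i) := by
      rw [← mul_assoc, h1, neg_mul, mul_assoc, h.sq, mul_one]
    calc -(γ j) * (1 + γ i * γ j) = -(γ j) - γ j * (γ i * γ j) := by noncomm_ring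
      _ = -(γ j) - (-(γ i)) := by rw [h3]
      _ = γ i - γ j := by noncomm_ring
  rw [hl, hr]

theorem Cliff.up_mul_j (h : Cliff γ) {i j : Fin 5} (hij : i ≠ j) :
    (1 + γ i * γ j) * γ j = γ i * (1 + γ i * γ j) := by
  have hl : (1 + γ i * γ j) * γ j = γ j + γ i := by
    calc (1 + γ i * γ j) * γ j = γ j + γ i * (γ j * γ j) := by noncomm_ring
      _ = γ j + γ i := by rw [h.sq, mul_one]
  have hr : γ i * (1 + γ i * γ j) = γ j + γ i := by
    calc γ i * (1 + γ i * γ j) = γ i + (γ i * γ i) * γ j := by noncomm_ring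
      _ = γ j + γ i := by rw [h.sq, one_mul, add_comm]
  rw [hl, hr]

theorem Cliff.up_comm (h : Cliff γ) {i j m : Fin 5} (hmi : m ≠ i) (hmj : m ≠ j) :
    (1 + γ i * γ j) * γ m = γ m * (1 + γ i * γ j) := by
  have h1 : γ j * γ m = -(γ m * γ j) := h.anti j m hmj.symm
  have h3 : γ i * γ m = -(γ m * γ i) := h.anti i m hmi.symm
  calc (1 + γ i * γ j) * γ m = γ m + γ i * (γ j * γ m) := by noncomm_ring
    _ = γ m + γ i * (-(γ m * γ j)) := by rw [h1]
    _ = γ m - (γ i * γ m) * γ j := by noncomm_ring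
    _ = γ m - (-(γ m * γ i)) * γ j := by rw [h3]
    _ = γ m * (1 + γ i * γ j) := by noncomm_ring

theorem Cliff.prod_sq (h : Cliff γ) {i j : Fin 5} (hij : i ≠ j) :
    (γ i * γ j) * (γ i * γ j) = -1 := by
  have h1 : γ j * γ i = -(γ i * γ j) := h.anti j i hij.symm
  calc (γ i * γ j) * (γ i * γ j) = γ i * (γ j * γ i) * γ j := by noncomm_ring
    _ = γ i * (-(γ i * γ j)) * γ j := by rw [h1]
    _ = -((γ i * γ i) * (γ j * γ j)) := by noncomm_ring
    _ = -1 := by rw [h.sq, h.sq, one_mul]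

theorem Cliff.up_um (h : Cliff γ) {i j : Fin 5} (hij : i ≠ j) :
    (1 + γ i * γ j) * (1 - γ i * γ j) = 2 := by
  calc (1 + γ i * γ j) * (1 - γ i * γ j) = 1 - (γ i * γ j) * (γ i * γ j) := by noncomm_ring
    _ = 2 := by rw [h.prod_sq hij, sub_neg_eq_add, one_add_one_eq_two]

theorem Cliff.um_up (h : Cliff γ) {i j : Fin 5} (hij : i ≠ j) :
    (1 - γ i * γ j) * (1 + γ i * γ j) = 2 := by
  calc (1 - γ i * γ j) * (1 + γ i * γ j) = 1 - (γ i * γ j) * (γ i * γ j) := by noncomm_ring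
    _ = 2 := by rw [h.prod_sq hij, sub_neg_eq_add, one_add_one_eq_two]

end Ring

end Cfsg.Agent.Lib.Helper9.C6D4
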