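import Mathlib
import Cfsg.Agent.Lib.Helper9.C6D4t
import Cfsg.Agent.Lib.Helper9.C6D4s

set_option autoImplicit false

/-! An element of order five of `Sp_4(F)` normalising `R`. -/

open scoped MatrixGroups Matrix

namespace Cfsg.Agent.Lib.Helper9.C6D4

section General

variable {F : Type*} [Field F] {ι : Type} [Fintype ι] [DecidableEq ι]

theorem two_mat (h2 : (2 : F) ≠ 0) : (2⁻¹ : F) • (2 : Matrix ι ι F) = 1 := by
  have : (2 : Matrix ι ι F) = (2 : F) • (1 : Matrix ι ι F) := by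
    rw [two_smul, one_add_one_eq_two]
  rw [this, smul_smul, inv_mul_cancel₀ h2, one_smul]

/-- the unit `1 + γ_i γ_j` -/
def Wu {γ : Fin 5 → Matrix ι ι F} (hγ : Cliff γ) (h2 : (2 : F) ≠ 0) {i j : Fin 5} (hij : i ≠ j) :
    GL ι F :=
  ⟨1 + γ i * γ j, (2⁻¹ : F) • (1 - γ i * γ j),
    by rw [Matrix.mul_smul, hγ.up_um hij, two_mat h2],
    by rw [Matrix.smul_mul, hγ.um_up hij, two_mat h2]⟩

theorem Wu_coe {γ : Fin 5 → Matrix ι ι F} (hγ : Cliff γ) (h2 : (2 : F) ≠ 0) {i j : Fin 5}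
    (hij : i ≠ j) : ((Wu hγ h2 hij : GL ι F) : Matrix ι ι F) = 1 + γ i * γ j := rfl

theorem cj_Wu_i {γ : Fin 5 → Matrix ι ι F} (hγ : Cliff γ) (h2 : (2 : F) ≠ 0) {i j : Fin 5}
    (hij : i ≠ j) : cj (Wu hγ h2 hij) (γ i) = -γ j := by
  rw [cj_eq_iff, Wu_coe]
  exact hγ.up_mul_i hij

theorem cj_Wu_j {γ : Fin 5 → Matrix ι ι F} (hγ : Cliff γ) (h2 : (2 : F) ≠ 0) {i j : Fin 5}
    (hij : i ≠ j) : cj (Wu hγ h2 hij) (γ j) = γ i := by
  rw [cj_eq_iff, Wu_coe]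
  exact hγ.up_mul_j hij

theorem cj_Wu_other {γ : Fin 5 → Matrix ι ι F} (hγ : Cliff γ) (h2 : (2 : F) ≠ 0) {i j m : Fin 5}
    (hij : i ≠ j) (hmi : m ≠ i) (hmj : m ≠ j) : cj (Wu hγ h2 hij) (γ m) = γ m := by
  rw [cj_eq_iff, Wu_coe]
  exact hγ.up_comm hmi hmj

theorem ne01 : (0 : Fin 5) ≠ 1 := by decide
theorem ne12 : (1 : Fin 5) ≠ 2 := by decide
theorem ne23 : (2 : Fin 5) ≠ 3 := by decide
theorem ne34 : (3 : Fin 5) ≠ 4 := by decide

/-- the product `(1+γ0γ1)(1+γ1γ2)(1+γ2γ3)(1+γ3γ4)` -/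
def g4 {γ : Fin 5 → Matrix ι ι F} (hγ : Cliff γ) (h2 : (2 : F) ≠ 0) : GL ι F :=
  Wu hγ h2 ne01 * Wu hγ h2 ne12 * Wu hγ h2 ne23 * Wu hγ h2 ne34

variable {γ : Fin 5 → Matrix ι ι F} (hγ : Cliff γ) (h2 : (2 : F) ≠ 0)

theorem cj_g4_0 : cj (g4 hγ h2) (γ 0) = -γ 1 := by
  unfold g4
  rw [cj_comp, cj_comp, cj_comp,
    cj_Wu_other hγ h2 ne34 (m := 0) (by decide) (by decide),
    cj_Wu_other hγ h2 ne23 (m := 0) (by decide) (by decide),
    cj_Wu_other hγ h2 ne12 (m := 0) (by decide) (by decide),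
    cj_Wu_i hγ h2 ne01]

theorem cj_g4_1 : cj (g4 hγ h2) (γ 1) = -γ 2 := by
  unfold g4
  rw [cj_comp, cj_comp, cj_comp,
    cj_Wu_other hγ h2 ne34 (m := 1) (by decide) (by decide),
    cj_Wu_other hγ h2 ne23 (m := 1) (by decide) (by decide),
    cj_Wu_i hγ h2 ne12, cj_neg,
    cj_Wu_other hγ h2 ne01 (m := 2) (by decide) (by decide)]

theorem cj_g4_2 : cj (g4 hγ h2) (γ 2) = -γ 3 := by
  unfold g4
  rw [cj_comp, cj_comp, cj_comp,
    cj_Wu_other hγ h2 ne34 (m := 2) (by decide) (by decide),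
    cj_Wu_i hγ h2 ne23, cj_neg,
    cj_Wu_other hγ h2 ne12 (m := 3) (by decide) (by decide), cj_neg,
    cj_Wu_other hγ h2 ne01 (m := 3) (by decide) (by decide)]

theorem cj_g4_3 : cj (g4 hγ h2) (γ 3) = -γ 4 := by
  unfold g4
  rw [cj_comp, cj_comp, cj_comp,
    cj_Wu_i hγ h2 ne34, cj_neg,
    cj_Wu_other hγ h2 ne23 (m := 4) (by decide) (by decide), cj_neg,
    cj_Wu_other hγ h2 ne12 (m := 4) (by decide) (by decide), cj_neg,
    cj_Wu_other hγ h2 ne01 (m := 4) (by decide) (by decide)]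

theorem cj_g4_4 : cj (g4 hγ h2) (γ 4) = γ 0 := by
  unfold g4
  rw [cj_comp, cj_comp, cj_comp,
    cj_Wu_j hγ h2 ne34, cj_Wu_j hγ h2 ne23, cj_Wu_j hγ h2 ne12, cj_Wu_j hγ h2 ne01]

/-- the scalar unit -/
def scU (c : F) (hc : c ≠ 0) : GL ι F :=
  ⟨c • 1, c⁻¹ • 1,
    by rw [Matrix.smul_mul, Matrix.one_mul, smul_smul, mul_inv_cancel₀ hc, one_smul],
    by rw [Matrix.smul_mul, Matrix.one_mul, smul_smul, inv_mul_cancel₀ hc, one_smul]⟩

theorem scU_coe (c : F) (hc : c ≠ 0) : ((scU c hc : GL ι F) : Matrix ι ι F) = c • 1 := rfl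

theorem all5 : ∀ k : Fin 5, k = 0 ∨ k = 1 ∨ k = 2 ∨ k = 3 ∨ k = 4 := by decide

end General

section Symp

variable {F : Type*} [Field F] {m : ℕ}

/-- `M` scales the standard alternating form by `c` -/
def Sim (c : F) (M : Matrix (Fin m ⊕ Fin m) (Fin m ⊕ Fin m) F) : Prop :=
  M * Matrix.J (Fin m) F * Mᵀ = c • Matrix.J (Fin m) F

theorem Sim.mul {c d : F} {M N : Matrix (Fin m ⊕ Fin m) (Fin m ⊕ Fin m) F}
    (hM : Sim c M) (hN : Sim d N) : Sim (c * d) (M * N) := by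
  unfold Sim at *
  rw [Matrix.transpose_mul]
  calc M * N * Matrix.J (Fin m) F * (Nᵀ * Mᵀ) = M * (N * Matrix.J (Fin m) F * Nᵀ) * Mᵀ := by
        simp only [mul_assoc]
    _ = M * (d • Matrix.J (Fin m) F) * Mᵀ := by rw [hN]
    _ = d • (M * Matrix.J (Fin m) F * Mᵀ) := by rw [Matrix.mul_smul, Matrix.smul_mul]
    _ = (c * d) • Matrix.J (Fin m) F := by rw [hM, smul_smul, mul_comm]

theorem Sim.smul {c : F} {M : Matrix (Fin m ⊕ Fin m) (Fin m ⊕ Fin m) F} (a : F) (hM : Sim c M) :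
    Sim (a * a * c) (a • M) := by
  unfold Sim at *
  rw [Matrix.transpose_smul, Matrix.smul_mul, Matrix.smul_mul, Matrix.mul_smul, hM, smul_smul,
    smul_smul]

theorem sim_one_iff (M : Matrix (Fin m ⊕ Fin m) (Fin m ⊕ Fin m) F) :
    Sim 1 M ↔ M ∈ Matrix.symplecticGroup (Fin m) F := by
  unfold Sim
  rw [one_smul, SymplecticGroup.mem_iff]

theorem sim_up {X : Matrix (Fin m ⊕ Fin m) (Fin m ⊕ Fin m) F}
    (hX : X ∈ Matrix.symplecticGroup (Fin m) F) (hXX : X * X = -1) : Sim 2 (1 + X) := by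
  rw [SymplecticGroup.mem_iff] at hX
  have h1 : Matrix.J (Fin m) F * Xᵀ = -(X * Matrix.J (Fin m) F) := by
    have h : X * (X * Matrix.J (Fin m) F * Xᵀ) = X * Matrix.J (Fin m) F := by rw [hX]
    rw [← mul_assoc, ← mul_assoc, hXX] at h
    rw [← h]
    simp
  unfold Sim
  rw [Matrix.transpose_add, Matrix.transpose_one]
  calc (1 + X) * Matrix.J (Fin m) F * (1 + Xᵀ)
      = Matrix.J (Fin m) F + Matrix.J (Fin m) F * Xᵀ + (X * Matrix.J (Fin m) F +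
          X * Matrix.J (Fin m) F * Xᵀ) := by
        simp only [add_mul, mul_add, one_mul, mul_one]
        abel
    _ = (2 : F) • Matrix.J (Fin m) F := by
        rw [h1, hX, two_smul]
        abel

theorem mem_spGL_iff (g : GL (Fin m ⊕ Fin m) F) :
    g ∈ Cfsg.spGL m F ↔
      (g : Matrix (Fin m ⊕ Fin m) (Fin m ⊕ Fin m) F) ∈ Matrix.symplecticGroup (Fin m) F := by
  rw [← Cfsg.Agent.H9SpMax.toGL_range]
  constructor
  · rintro ⟨A, rfl⟩
    exact A.2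
  · intro hg
    exact ⟨⟨_, hg⟩, Units.ext rfl⟩

theorem sp_scalar_sq (d : F)
    (h : d • (1 : Matrix (Fin 2 ⊕ Fin 2) (Fin 2 ⊕ Fin 2) F) ∈ Matrix.symplecticGroup (Fin 2) F) :
    d * d = 1 := by
  rw [SymplecticGroup.mem_iff] at h
  rw [Matrix.transpose_smul, Matrix.transpose_one, Matrix.smul_mul, Matrix.one_mul,
    Matrix.mul_smul, Matrix.mul_one, smul_smul] at h
  have := congrFun (congrFun h (Sum.inl 0)) (Sum.inr 0)
  simp [Matrix.J] at this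
  exact this

end Symp

end Cfsg.Agent.Lib.Helper9.C6D4
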