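import Mathlib
import Cfsg.Agent.Lib.Helper9.C6D4u

set_option autoImplicit false

/-! An element of order five of `Sp_4(F)` normalising `R` (continued). -/

open scoped MatrixGroups Matrix

namespace Cfsg.Agent.Lib.Helper9.C6D4

section General

variable {F : Type*} [Field F] {ι : Type} [Fintype ι] [DecidableEq ι]
  {R : Subgroup (GL ι F)} {G1 G2 A B : GL ι F}

/-- a matrix commuting with the five involutions is scalar -/
theorem Config.scalar_of_comm (hC : Config R G1 G2 A B)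
    (hRi : Cfsg.Geo.ActsAbsolutelyIrreducibly (Cfsg.Geo.matrixSet R))
    (y : Matrix ι ι F)
    (hfix' : ∀ k, y * Gm G1 G2 A B k = Gm G1 G2 A B k * y) :
    ∃ d : F, y = d • 1 := by
  have e0 : Gm G1 G2 A B 0 = (G1 : Matrix ι ι F) := rfl
  have e1 : Gm G1 G2 A B 1 = (G2 : Matrix ι ι F) := rfl
  have e2 : Gm G1 G2 A B 2 = (G1 : Matrix ι ι F) * G2 * A := by
    show ((G1 * G2 * A : GL ι F) : Matrix ι ι F) = _
    rw [Units.val_mul, Units.val_mul]
  have e3 : Gm G1 G2 A B 3 = (G1 : Matrix ι ι F) * G2 * B := by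
    show ((G1 * G2 * B : GL ι F) : Matrix ι ι F) = _
    rw [Units.val_mul, Units.val_mul]
  have c1 := hfix' 0
  have c2 := hfix' 1
  have c3 := hfix' 2
  have c4 := hfix' 3
  rw [e0] at c1
  rw [e1] at c2
  rw [e2] at c3
  rw [e3] at c4
  have c12 : y * ((G1 : Matrix ι ι F) * G2) = ((G1 : Matrix ι ι F) * G2) * y := by
    rw [← mul_assoc, c1, mul_assoc, c2, mul_assoc]
  have hinv : ((G2 : Matrix ι ι F) * G1) * ((G1 : Matrix ι ι F) * G2) = 1 := by
    rw [mul_assoc, ← mul_assoc (G1 : Matrix ι ι F), hC.qd.g11, one_mul, hC.qd.g22]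
  have cancel : ∀ X : Matrix ι ι F,
      y * ((G1 : Matrix ι ι F) * G2 * X) = ((G1 : Matrix ι ι F) * G2 * X) * y →
      y * X = X * y := by
    intro X hX
    have h1 : ((G1 : Matrix ι ι F) * G2) * (y * X) =
        ((G1 : Matrix ι ι F) * G2) * (X * y) := by
      rw [← mul_assoc, ← c12, mul_assoc, mul_assoc]
      rw [mul_assoc] at hX
      rw [hX]
      simp only [mul_assoc]
    have h2' : ((G2 : Matrix ι ι F) * G1) * (((G1 : Matrix ι ι F) * G2) * (y * X)) =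
        ((G2 : Matrix ι ι F) * G1) * (((G1 : Matrix ι ι F) * G2) * (X * y)) := by rw [h1]
    rw [← mul_assoc, hinv, one_mul, ← mul_assoc, hinv, one_mul] at h2'
    exact h2'
  have cA := cancel _ c3
  have cB := cancel _ c4
  exact hRi.2 _ (hC.comm_all _ c1 c2 cA cB)

end General

section Sp4

variable {F : Type*} [Field F]

/-- an element of `Sp_4` an odd power of which is scalar: that power is `1`, possibly after
multiplying by `-1` -/
theorem sp_pow_normalize (x z : GL (Fin 2 ⊕ Fin 2) F) (hx : x ∈ Cfsg.spGL 2 F)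
    (hz : (z : Matrix (Fin 2 ⊕ Fin 2) (Fin 2 ⊕ Fin 2) F) = -1)
    (n : ℕ) (hn : Odd n) (c : F)
    (hxn : ((x ^ n : GL (Fin 2 ⊕ Fin 2) F) : Matrix (Fin 2 ⊕ Fin 2) (Fin 2 ⊕ Fin 2) F) = c • 1) :
    x ^ n = 1 ∨ (z * x) ^ n = 1 := by
  have hSp : ((x ^ n : GL (Fin 2 ⊕ Fin 2) F) : Matrix (Fin 2 ⊕ Fin 2) (Fin 2 ⊕ Fin 2) F) ∈
      Matrix.symplecticGroup (Fin 2) F := (mem_spGL_iff _).1 ((Cfsg.spGL 2 F).pow_mem hx n)
  rw [hxn] at hSp
  have hcc := sp_scalar_sq c hSp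
  have hc : c = 1 ∨ c = -1 := by
    have h : (c - 1) * (c + 1) = 0 := by linear_combination hcc
    rcases mul_eq_zero.1 h with h | h
    · left
      linear_combination h
    · right
      linear_combination h
  rcases hc with rfl | rfl
  · left
    apply Units.ext
    rw [hxn, one_smul]
    rfl
  · right
    apply Units.ext
    rw [Units.val_pow_eq_pow_val, Units.val_mul, hz, neg_one_mul, hn.neg_pow,
      ← Units.val_pow_eq_pow_val, hxn]
    simp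

variable [Fintype F] {R : Subgroup (GL (Fin 2 ⊕ Fin 2) F)} {G1 G2 A B : GL (Fin 2 ⊕ Fin 2) F}

theorem Config.exists_five (h2 : (2 : F) ≠ 0) (hC : Config R G1 G2 A B)
    (hRi : Cfsg.Geo.ActsAbsolutelyIrreducibly (Cfsg.Geo.matrixSet R))
    (hRf : R ≤ Cfsg.spGL 2 F) :
    ∃ y₀ : GL (Fin 2 ⊕ Fin 2) F, y₀ ∈ Cfsg.spGL 2 F ∧ y₀ ∈ Cfsg.Geo.subgroupNormalizer R ∧
      y₀ ^ 5 = 1 ∧ y₀ ≠ 1 := by
  classical
  have hne := one_ne_neg_one_mat (ι := Fin 2 ⊕ Fin 2) h2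
  have hγ : Cliff (Gm G1 G2 A B) := hC.cliffG
  have h4 : (4 : F) ≠ 0 := by
    have : (4 : F) = 2 * 2 := by norm_num
    rw [this]
    exact mul_ne_zero h2 h2
  obtain ⟨z, hzR, hz⟩ := hC.negone
  -- the element
  obtain ⟨y, hyval, c0, c1, c2, c3, c4⟩ : ∃ y : GL (Fin 2 ⊕ Fin 2) F,
      (y : Matrix (Fin 2 ⊕ Fin 2) (Fin 2 ⊕ Fin 2) F) =
        (4⁻¹ : F) • ((g4 hγ h2 : GL (Fin 2 ⊕ Fin 2) F) : Matrix (Fin 2 ⊕ Fin 2) (Fin 2 ⊕ Fin 2) F) ∧
      cj y (Gm G1 G2 A B 0) = -Gm G1 G2 A B 1 ∧ cj y (Gm G1 G2 A B 1) = -Gm G1 G2 A B 2 ∧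
      cj y (Gm G1 G2 A B 2) = -Gm G1 G2 A B 3 ∧ cj y (Gm G1 G2 A B 3) = -Gm G1 G2 A B 4 ∧
      cj y (Gm G1 G2 A B 4) = Gm G1 G2 A B 0 := by
    have cjy : ∀ M, cj (scU (4⁻¹ : F) (inv_ne_zero h4) * g4 hγ h2) M = cj (g4 hγ h2) M := by
      intro M
      rw [cj_comp, cj_scalar _ _ (scU_coe _ _)]
    refine ⟨scU (4⁻¹ : F) (inv_ne_zero h4) * g4 hγ h2, ?_, ?_, ?_, ?_, ?_, ?_⟩
    · rw [Units.val_mul, scU_coe, Matrix.smul_mul, Matrix.one_mul]
    · rw [cjy]; exact cj_g4_0 hγ h2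
    · rw [cjy]; exact cj_g4_1 hγ h2
    · rw [cjy]; exact cj_g4_2 hγ h2
    · rw [cjy]; exact cj_g4_3 hγ h2
    · rw [cjy]; exact cj_g4_4 hγ h2
  -- normaliser
  have conj_mem : ∀ k, y * gamG G1 G2 A B k * y⁻¹ ∈ R := by
    intro k
    have hpm : ∃ l, cj y (Gm G1 G2 A B k) = Gm G1 G2 A B l ∨
        cj y (Gm G1 G2 A B k) = -Gm G1 G2 A B l := by
      rcases all5 k with rfl | rfl | rfl | rfl | rfl
      · exact ⟨1, Or.inr c0⟩
      · exact ⟨2, Or.inr c1⟩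
      · exact ⟨3, Or.inr c2⟩
      · exact ⟨4, Or.inr c3⟩
      · exact ⟨0, Or.inl c4⟩
    obtain ⟨l, hl | hl⟩ := hpm
    · have : y * gamG G1 G2 A B k * y⁻¹ = gamG G1 G2 A B l := by
        apply Units.ext
        rw [← cj_coe]
        exact hl
      rw [this]
      exact hC.gamG_mem l
    · have : y * gamG G1 G2 A B k * y⁻¹ = z * gamG G1 G2 A B l := by
        apply Units.ext
        rw [← cj_coe, Units.val_mul, hz, neg_one_mul]
        exact hl
      rw [this]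
      exact R.mul_mem hzR (hC.gamG_mem l)
  have hT : ∀ h ∈ R, y * h * y⁻¹ ∈ R := by
    let T : Subgroup (GL (Fin 2 ⊕ Fin 2) F) := R.comap (MulAut.conj y).toMonoidHom
    have hmemT : ∀ h, h ∈ T ↔ y * h * y⁻¹ ∈ R := fun h => Iff.rfl
    have tG1 : G1 ∈ T := (hmemT _).2 (conj_mem 0)
    have tG2 : G2 ∈ T := (hmemT _).2 (conj_mem 1)
    have t2 : G1 * G2 * A ∈ T := (hmemT _).2 (conj_mem 2)
    have t3 : G1 * G2 * B ∈ T := (hmemT _).2 (conj_mem 3)
    have t12 : G1 * G2 ∈ T := T.mul_mem tG1 tG2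
    have tA : A ∈ T := by
      have : A = (G1 * G2)⁻¹ * (G1 * G2 * A) := by group
      rw [this]
      exact T.mul_mem (T.inv_mem t12) t2
    have tB : B ∈ T := by
      have : B = (G1 * G2)⁻¹ * (G1 * G2 * B) := by group
      rw [this]
      exact T.mul_mem (T.inv_mem t12) t3
    have hle : R ≤ T := by
      rw [← hC.gen, Subgroup.closure_le]
      intro h hh
      simp only [Set.mem_insert_iff, Set.mem_singleton_iff] at hh
      rcases hh with rfl | rfl | rfl | rfl <;> assumption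
    intro h hh
    exact (hmemT h).1 (hle hh)
  have hyN : y ∈ Cfsg.Geo.subgroupNormalizer R := by
    unfold Cfsg.Geo.subgroupNormalizer
    exact Subgroup.mem_normalizer_fintype hT
  -- symplectic
  have hmemSp : ∀ k, Gm G1 G2 A B k ∈ Matrix.symplecticGroup (Fin 2) F :=
    fun k => (mem_spGL_iff _).1 (hRf (hC.gamG_mem k))
  have simW : ∀ (i j : Fin 5) (hij : i ≠ j),
      Sim 2 ((Wu hγ h2 hij : GL (Fin 2 ⊕ Fin 2) F) : Matrix (Fin 2 ⊕ Fin 2) (Fin 2 ⊕ Fin 2) F) := by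
    intro i j hij
    exact sim_up (Submonoid.mul_mem _ (hmemSp i) (hmemSp j)) (hγ.prod_sq hij)
  have simg : Sim (2 * 2 * 2 * 2 : F)
      ((g4 hγ h2 : GL (Fin 2 ⊕ Fin 2) F) : Matrix (Fin 2 ⊕ Fin 2) (Fin 2 ⊕ Fin 2) F) := by
    unfold g4
    rw [Units.val_mul, Units.val_mul, Units.val_mul]
    exact (((simW _ _ _).mul (simW _ _ _)).mul (simW _ _ _)).mul (simW _ _ _)
  have hySp : y ∈ Cfsg.spGL 2 F := by
    rw [mem_spGL_iff, ← sim_one_iff, hyval]
    have h := simg.smul (4⁻¹ : F)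
    have e : (4⁻¹ : F) * 4⁻¹ * (2 * 2 * 2 * 2) = 1 := by
      field_simp
      norm_num
    rw [e] at h
    exact h
  -- the fifth power
  have c5 : ∀ k, cj (y ^ 5) (Gm G1 G2 A B k) = Gm G1 G2 A B k := by
    intro k
    have e5 : y ^ 5 = y * y * y * y * y := by
      rw [show (5 : ℕ) = 1 + 1 + 1 + 1 + 1 from rfl, pow_succ, pow_succ, pow_succ, pow_succ, pow_one]
    rw [e5]
    simp only [cj_comp]
    rcases all5 k with rfl | rfl | rfl | rfl | rfl <;>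
    simp only [c0, c1, c2, c3, c4, cj_neg, neg_neg]
  obtain ⟨d, hd⟩ := hC.scalar_of_comm hRi
    ((y ^ 5 : GL (Fin 2 ⊕ Fin 2) F) : Matrix (Fin 2 ⊕ Fin 2) (Fin 2 ⊕ Fin 2) F)
    (fun k => by rw [← cj_eq_iff]; exact c5 k)
  rcases sp_pow_normalize y z hySp hz 5 (by decide) d hd with h5 | h5
  · refine ⟨y, hySp, hyN, h5, ?_⟩
    intro h1
    rw [h1, cj_one_left] at c0
    exact absurd (hγ.inj hne (Or.inr c0)) (by decide)
  · refine ⟨z * y, (Cfsg.spGL 2 F).mul_mem (hRf hzR) hySp,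
      (Cfsg.Geo.subgroupNormalizer R).mul_mem (Subgroup.le_normalizer hzR) hyN, h5, ?_⟩
    intro h1
    have hzy : cj (z * y) (Gm G1 G2 A B 0) = -Gm G1 G2 A B 1 := by
      rw [cj_comp, c0, cj_neg, cj_scalar z (-1) (by rw [hz]; simp)]
    rw [h1, cj_one_left] at hzy
    exact absurd (hγ.inj hne (Or.inr hzy)) (by decide)

end Sp4

end Cfsg.Agent.Lib.Helper9.C6D4
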