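import Mathlib
import Cfsg.Agent.Lib.Helper9.C6D4v
import Cfsg.Agent.Lib.Helper4.C6Pk1
import Cfsg.Agent.Lib.Helper4.C6Pk2
import Cfsg.Agent.Lib.Helper8.C6Pk3

set_option autoImplicit false

/-! The backward direction: elements of order two and five are conjugate into the normaliser. -/

open scoped MatrixGroups Matrix

namespace Cfsg.Agent.Lib.Helper9.C6D4

variable {F : Type*} [Field F] [Fintype F]
  {R : Subgroup (GL (Fin 2 ⊕ Fin 2) F)} {G1 G2 A B : GL (Fin 2 ⊕ Fin 2) F}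

theorem two_ne_zero_of_odd {p : ℕ} [Fact p.Prime] [CharP F p] (hodd : Odd p) : (2 : F) ≠ 0 := by
  intro h
  have h' : ((2 : ℕ) : F) = 0 := by exact_mod_cast h
  rw [CharP.cast_eq_zero_iff F p 2] at h'
  have hp : p = 2 := (Nat.prime_dvd_prime_iff_eq (Fact.out : p.Prime) Nat.prime_two).1 h'
  rw [hp] at hodd
  exact absurd hodd (by decide)

theorem Config.back_two (h2 : (2 : F) ≠ 0) (hC : Config R G1 G2 A B) (hRf : R ≤ Cfsg.spGL 2 F)
    (x : GL (Fin 2 ⊕ Fin 2) F) (hx : x ∈ Cfsg.spGL 2 F) (z : F)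
    (hx2 : ((x ^ 2 : GL (Fin 2 ⊕ Fin 2) F) : Matrix (Fin 2 ⊕ Fin 2) (Fin 2 ⊕ Fin 2) F) = z • 1)
    (hns : ∀ d : F, (x : Matrix (Fin 2 ⊕ Fin 2) (Fin 2 ⊕ Fin 2) F) ≠ d • 1) :
    ∃ g ∈ Cfsg.spGL 2 F, g⁻¹ * x * g ∈ Cfsg.Geo.subgroupNormalizer R := by
  have hne := one_ne_neg_one_mat (ι := Fin 2 ⊕ Fin 2) h2
  have hγ : Cliff (Gm G1 G2 A B) := hC.cliffG
  have hSp : ((x ^ 2 : GL (Fin 2 ⊕ Fin 2) F) : Matrix (Fin 2 ⊕ Fin 2) (Fin 2 ⊕ Fin 2) F) ∈
      Matrix.symplecticGroup (Fin 2) F := (mem_spGL_iff _).1 ((Cfsg.spGL 2 F).pow_mem hx 2)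
  rw [hx2] at hSp
  have hzz := sp_scalar_sq z hSp
  have hz : z = 1 ∨ z = -1 := by
    have h : (z - 1) * (z + 1) = 0 := by linear_combination hzz
    rcases mul_eq_zero.1 h with h | h
    · left
      linear_combination h
    · right
      linear_combination h
  have hxx : (x : Matrix (Fin 2 ⊕ Fin 2) (Fin 2 ⊕ Fin 2) F) * x = z • 1 := by
    rw [← hx2, pow_two, Units.val_mul]
  rcases hz with rfl | rfl
  · rw [one_smul] at hxx
    have hx1 : (x : Matrix (Fin 2 ⊕ Fin 2) (Fin 2 ⊕ Fin 2) F) ≠ 1 := by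
      intro h
      exact hns 1 (by rw [h, one_smul])
    have hxm : (x : Matrix (Fin 2 ⊕ Fin 2) (Fin 2 ⊕ Fin 2) F) ≠ -1 := by
      intro h
      exact hns (-1) (by rw [h, neg_one_smul])
    obtain ⟨g, hg, hgx⟩ := Cfsg.Agent.Lib.C6Pk.sp_invol_conj h2 x (gamG G1 G2 A B 0) hx
      (hRf (hC.gamG_mem 0)) hxx (hγ.sq 0) hx1 hxm (hγ.ne_one hne 0) (hγ.ne_neg_one hne 0)
    refine ⟨g, hg, ?_⟩
    rw [hgx]
    exact Subgroup.le_normalizer (hC.gamG_mem 0)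
  · rw [neg_one_smul] at hxx
    have hy : gamG G1 G2 A B 0 * gamG G1 G2 A B 1 ∈ R := R.mul_mem (hC.gamG_mem 0) (hC.gamG_mem 1)
    have hyy : ((gamG G1 G2 A B 0 * gamG G1 G2 A B 1 : GL (Fin 2 ⊕ Fin 2) F) :
        Matrix (Fin 2 ⊕ Fin 2) (Fin 2 ⊕ Fin 2) F) *
        ((gamG G1 G2 A B 0 * gamG G1 G2 A B 1 : GL (Fin 2 ⊕ Fin 2) F) :
        Matrix (Fin 2 ⊕ Fin 2) (Fin 2 ⊕ Fin 2) F) = -1 := by
      rw [Units.val_mul]
      exact hγ.prod_sq ne01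
    obtain ⟨g, hg, hgx⟩ := Cfsg.Agent.Lib.C6Pk.sp_sqneg_conj h2 x
      (gamG G1 G2 A B 0 * gamG G1 G2 A B 1) hx (hRf hy) hxx hyy
    refine ⟨g, hg, ?_⟩
    rw [hgx]
    exact Subgroup.le_normalizer hy

theorem Config.back_five {p : ℕ} [Fact p.Prime] [CharP F p] (hF : Fintype.card F = p)
    (h5 : orderOf (p : ZMod 5) = 4) (h2 : (2 : F) ≠ 0) (hC : Config R G1 G2 A B)
    (hRi : Cfsg.Geo.ActsAbsolutelyIrreducibly (Cfsg.Geo.matrixSet R))
    (hRf : R ≤ Cfsg.spGL 2 F)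
    (x : GL (Fin 2 ⊕ Fin 2) F) (hx : x ∈ Cfsg.spGL 2 F) (c : F)
    (hx5 : ((x ^ 5 : GL (Fin 2 ⊕ Fin 2) F) : Matrix (Fin 2 ⊕ Fin 2) (Fin 2 ⊕ Fin 2) F) = c • 1)
    (hns : ∀ d : F, (x : Matrix (Fin 2 ⊕ Fin 2) (Fin 2 ⊕ Fin 2) F) ≠ d • 1) :
    ∃ g ∈ Cfsg.spGL 2 F, g⁻¹ * x * g ∈ Cfsg.Geo.subgroupNormalizer R := by
  obtain ⟨y₀, hy₀Sp, hy₀N, hy₀5, hy₀1⟩ := hC.exists_five h2 hRi hRf
  obtain ⟨z, hzR, hz⟩ := hC.negone
  have hι : Fintype.card (Fin 2 ⊕ Fin 2) = 4 := by simp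
  have hzc : ∀ h : GL (Fin 2 ⊕ Fin 2) F, z * h = h * z := by
    intro h
    have := scalar_central z (-1) (by rw [hz, neg_one_smul]) h
    calc z * h = z * h * z⁻¹ * z := by group
      _ = h * z := by rw [this]
  rcases sp_pow_normalize x z hx hz 5 (by decide) c hx5 with h | h
  · have hx1 : x ≠ 1 := by
      intro h1
      exact hns 1 (by rw [h1, one_smul]; rfl)
    obtain ⟨g, hg, k, hgk⟩ := Cfsg.Agent.Lib.C6Pk.order5_conj hF h5 hι (Cfsg.spGL 2 F) x y₀ hx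
      hy₀Sp h hx1 hy₀5 hy₀1
    refine ⟨g, hg, ?_⟩
    rw [hgk]
    exact (Cfsg.Geo.subgroupNormalizer R).pow_mem hy₀N k
  · have hx1 : z * x ≠ 1 := by
      intro h1
      have h1' := congrArg (fun u : GL (Fin 2 ⊕ Fin 2) F =>
        (u : Matrix (Fin 2 ⊕ Fin 2) (Fin 2 ⊕ Fin 2) F)) h1
      simp only [Units.val_mul, hz, Units.val_one, neg_one_mul] at h1'
      apply hns (-1)
      rw [neg_one_smul, ← h1', neg_neg]
    obtain ⟨g, hg, k, hgk⟩ := Cfsg.Agent.Lib.C6Pk.order5_conj hF h5 hι (Cfsg.spGL 2 F) (z * x) y₀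
      ((Cfsg.spGL 2 F).mul_mem (hRf hzR) hx) hy₀Sp h hx1 hy₀5 hy₀1
    refine ⟨g, hg, ?_⟩
    have : g⁻¹ * x * g = z⁻¹ * y₀ ^ k := by
      rw [← hgk]
      have h1 : g⁻¹ * (z * x) * g = z * (g⁻¹ * x * g) := by
        rw [← mul_assoc, ← hzc g⁻¹]
        group
      rw [h1]
      group
    rw [this]
    exact (Cfsg.Geo.subgroupNormalizer R).mul_mem
      ((Cfsg.Geo.subgroupNormalizer R).inv_mem (Subgroup.le_normalizer hzR))
      ((Cfsg.Geo.subgroupNormalizer R).pow_mem hy₀N k)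

theorem zmod5_all : ∀ a : ZMod 5, a = 0 ∨ a = 1 ∨ a = 2 ∨ a = 3 ∨ a = 4 := by decide

theorem zmod5_cases : ∀ a : ZMod 5, a = 0 ∨ IsSquare a ∨ orderOf a = 4 := by
  intro a
  rcases zmod5_all a with rfl | rfl | rfl | rfl | rfl
  · left; rfl
  · right; left; exact ⟨1, by decide⟩
  · right; right
    rw [orderOf_eq_iff (by norm_num)]
    refine ⟨by decide, ?_⟩
    intro m hm hm0
    interval_cases m <;> decide
  · right; right
    rw [orderOf_eq_iff (by norm_num)]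
    refine ⟨by decide, ?_⟩
    intro m hm hm0
    interval_cases m <;> decide
  · right; left; exact ⟨2, by decide⟩

/-- a root of `τ² + τ - 1` when `p` is not of order four modulo five -/
theorem exists_tau {p : ℕ} [Fact p.Prime] [CharP F p] (h2 : (2 : F) ≠ 0)
    (h5 : orderOf (p : ZMod 5) ≠ 4) : ∃ τ : F, τ ^ 2 + τ - 1 = 0 := by
  have hp2 : p ≠ 2 := by
    intro hp
    apply h2
    have : ((2 : ℕ) : F) = 0 := by
      rw [CharP.cast_eq_zero_iff F p 2, hp]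
    exact_mod_cast this
  by_cases hp5 : p = 5
  · refine ⟨2, ?_⟩
    have : ((5 : ℕ) : F) = 0 := by
      rw [CharP.cast_eq_zero_iff F p 5, hp5]
    have h' : (5 : F) = 0 := by exact_mod_cast this
    linear_combination h'
  · have hfact5 : Fact (Nat.Prime 5) := ⟨by norm_num⟩
    have key := zmod5_cases
    rcases key (p : ZMod 5) with h0 | hsq | h4
    · exfalso
      rw [ZMod.natCast_eq_zero_iff] at h0
      exact hp5 ((Nat.prime_dvd_prime_iff_eq (by norm_num) (Fact.out : p.Prime)).1 h0).symm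
    · have hrec := ZMod.exists_sq_eq_prime_iff_of_mod_four_eq_one (p := 5) (q := p) (by norm_num) hp2
      obtain ⟨s, hs⟩ := hrec.1 hsq
      let φ := ZMod.castHom (dvd_refl p) F
      have hs' : φ s * φ s = 5 := by
        rw [← map_mul, ← hs, map_natCast]
        norm_num
      refine ⟨(φ s - 1) / 2, ?_⟩
      field_simp
      linear_combination hs'
    · exact absurd h4 h5

end Cfsg.Agent.Lib.Helper9.C6D4
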