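import Mathlib
import Cfsg.Agent.Lib.Helper9.C6D4w

set_option autoImplicit false

/-! The forward direction: elements of order three, five (in the wrong case) and `≥ 7`. -/

open scoped MatrixGroups Matrix

namespace Cfsg.Agent.Lib.Helper9.C6D4

section General

variable {F : Type*} [Field F] {ι : Type} [Fintype ι] [DecidableEq ι]

theorem conjv_pow (g x : GL ι F) (n : ℕ) : (g⁻¹ * x * g) ^ n = g⁻¹ * x ^ n * g := by
  have := conj_pow (i := n) (a := g⁻¹) (b := x)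
  rw [inv_inv] at this
  exact this

theorem conjv_coe (g x : GL ι F) :
    ((g⁻¹ * x * g : GL ι F) : Matrix ι ι F) = cj g⁻¹ (x : Matrix ι ι F) := by
  rw [cj_coe, inv_inv]

theorem conjv_inv_coe (g x : GL ι F) :
    (((g⁻¹ * x * g)⁻¹ : GL ι F) : Matrix ι ι F) = cj g⁻¹ ((x⁻¹ : GL ι F) : Matrix ι ι F) := by
  rw [cj_coe, inv_inv]
  congr 1
  group

theorem nonscalar_conj (g x : GL ι F) (hns : ∀ d : F, (x : Matrix ι ι F) ≠ d • 1) :
    ∀ d : F, ((g⁻¹ * x * g : GL ι F) : Matrix ι ι F) ≠ d • 1 := by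
  intro d h
  apply hns d
  have hx : x = g * (g⁻¹ * x * g) * g⁻¹ := by group
  rw [hx, ← cj_coe, h, cj_smul, cj_one]

theorem conjv_pow_one (g x : GL ι F) (n : ℕ)
    (hx : ((x ^ n : GL ι F) : Matrix ι ι F) = 1) :
    (((g⁻¹ * x * g) ^ n : GL ι F) : Matrix ι ι F) = (1 : F) • 1 := by
  have h1 : x ^ n = 1 := Units.ext hx
  rw [conjv_pow, h1, one_smul]
  simp

end General

section Sp4

variable {F : Type*} [Field F] [Fintype F]
  {R : Subgroup (GL (Fin 2 ⊕ Fin 2) F)} {G1 G2 A B : GL (Fin 2 ⊕ Fin 2) F}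

theorem Config.fwd_large (h2 : (2 : F) ≠ 0) (hC : Config R G1 G2 A B)
    (hRi : Cfsg.Geo.ActsAbsolutelyIrreducibly (Cfsg.Geo.matrixSet R))
    (r : ℕ) (hr : r.Prime) (hr7 : 7 ≤ r) (hdvd : r ∣ Nat.card (Cfsg.spGL 2 F))
    (H : ∀ x ∈ Cfsg.spGL 2 F,
      (∃ z : F, ((x ^ r : GL (Fin 2 ⊕ Fin 2) F) : Matrix (Fin 2 ⊕ Fin 2) (Fin 2 ⊕ Fin 2) F) =
        z • (1 : Matrix (Fin 2 ⊕ Fin 2) (Fin 2 ⊕ Fin 2) F)) →
      (∀ z : F, (x : Matrix (Fin 2 ⊕ Fin 2) (Fin 2 ⊕ Fin 2) F) ≠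
        z • (1 : Matrix (Fin 2 ⊕ Fin 2) (Fin 2 ⊕ Fin 2) F)) →
      ∃ g ∈ Cfsg.spGL 2 F, g⁻¹ * x * g ∈ Cfsg.Geo.subgroupNormalizer R) : False := by
  haveI : Fact r.Prime := ⟨hr⟩
  obtain ⟨x, hx⟩ := exists_prime_orderOf_dvd_card' r hdvd
  have hxr : ((((x : GL (Fin 2 ⊕ Fin 2) F)) ^ r : GL (Fin 2 ⊕ Fin 2) F) :
      Matrix (Fin 2 ⊕ Fin 2) (Fin 2 ⊕ Fin 2) F) = 1 := by
    have h1 : x ^ r = 1 := by rw [← hx]; exact pow_orderOf_eq_one x
    have h2' : ((x : GL (Fin 2 ⊕ Fin 2) F)) ^ r = 1 := by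
      rw [← Subgroup.coe_pow, h1, Subgroup.coe_one]
    rw [h2', Units.val_one]
  have hns : ∀ d : F, ((x : GL (Fin 2 ⊕ Fin 2) F) : Matrix (Fin 2 ⊕ Fin 2) (Fin 2 ⊕ Fin 2) F) ≠
      d • 1 := by
    intro d hd
    have hSp := (mem_spGL_iff _).1 x.2
    rw [hd] at hSp
    have hdd := sp_scalar_sq d hSp
    have hx2 : x ^ 2 = 1 := by
      apply Subtype.ext
      apply Units.ext
      rw [Subgroup.coe_pow, Subgroup.coe_one, Units.val_pow_eq_pow_val, hd, pow_two,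
        Matrix.smul_mul, Matrix.one_mul, smul_smul, hdd, one_smul, Units.val_one]
    have := orderOf_dvd_of_pow_eq_one hx2
    rw [hx] at this
    have := Nat.le_of_dvd (by norm_num) this
    omega
  obtain ⟨g, hg, hyN⟩ := H x x.2 ⟨1, by rw [hxr, one_smul]⟩ hns
  obtain ⟨d, hd⟩ := hC.scalar_of_large_prime h2 hRi _ hyN r hr hr7 1 (conjv_pow_one g _ r hxr)
  exact nonscalar_conj g _ hns d hd

theorem Config.fwd_three (h2 : (2 : F) ≠ 0) (hC : Config R G1 G2 A B)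
    (hRi : Cfsg.Geo.ActsAbsolutelyIrreducibly (Cfsg.Geo.matrixSet R)) (hR5 : Nat.card R = 32)
    (H : ∀ x ∈ Cfsg.spGL 2 F,
      (∃ z : F, ((x ^ 3 : GL (Fin 2 ⊕ Fin 2) F) : Matrix (Fin 2 ⊕ Fin 2) (Fin 2 ⊕ Fin 2) F) =
        z • (1 : Matrix (Fin 2 ⊕ Fin 2) (Fin 2 ⊕ Fin 2) F)) →
      (∀ z : F, (x : Matrix (Fin 2 ⊕ Fin 2) (Fin 2 ⊕ Fin 2) F) ≠
        z • (1 : Matrix (Fin 2 ⊕ Fin 2) (Fin 2 ⊕ Fin 2) F)) →
      ∃ g ∈ Cfsg.spGL 2 F, g⁻¹ * x * g ∈ Cfsg.Geo.subgroupNormalizer R) : False := by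
  have hne := one_ne_neg_one_mat (ι := Fin 2 ⊕ Fin 2) h2
  have hι : Fintype.card (Fin 2 ⊕ Fin 2) = 4 := by simp
  have hγ : Cliff (Gm G1 G2 A B) := hC.cliffG
  obtain ⟨x, hxSp, hxv, hxi⟩ := xt_exists (-1 : F)
  have hx3 : ((x ^ 3 : GL (Fin 2 ⊕ Fin 2) F) : Matrix (Fin 2 ⊕ Fin 2) (Fin 2 ⊕ Fin 2) F) = 1 := by
    rw [Units.val_pow_eq_pow_val, hxv]
    exact xt_pow_three
  have hns : ∀ d : F, (x : Matrix (Fin 2 ⊕ Fin 2) (Fin 2 ⊕ Fin 2) F) ≠ d • 1 := by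
    intro d
    rw [hxv]
    exact blk_ne_smul _ _ _ _
  obtain ⟨g, hg, hyN⟩ := H x hxSp ⟨1, by rw [hx3, one_smul]⟩ hns
  have hy3 := conjv_pow_one g x 3 hx3
  have hyns := nonscalar_conj g x hns
  obtain ⟨y, hydef⟩ : ∃ y : GL (Fin 2 ⊕ Fin 2) F, y = g⁻¹ * x * g := ⟨_, rfl⟩
  rw [← hydef] at hyN hy3 hyns
  obtain ⟨k, l, hkl, hk, hl⟩ := hC.exists_two_fixed h2 y hyN 1 hy3
  by_cases h3 : (3 : F) = 0
  · -- the unipotent case
    have hm1 : (-1 : F) = 2 := by linear_combination -h3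
    have hxN : (x : Matrix (Fin 2 ⊕ Fin 2) (Fin 2 ⊕ Fin 2) F) = 1 + Matrix.vecMulVec u₀ ψ₀ := by
      rw [hxv, ← xt_two]
      exact blk_ext rfl rfl rfl hm1
    have comm_of : ∀ M : Matrix (Fin 2 ⊕ Fin 2) (Fin 2 ⊕ Fin 2) F, cj y M = M →
        cj g M * Matrix.vecMulVec u₀ ψ₀ = Matrix.vecMulVec u₀ ψ₀ * cj g M := by
      intro M hM
      have h1 : cj x (cj g M) = cj g M := by
        rw [← cj_comp]
        have : x * g = g * y := by rw [hydef]; group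
        rw [this, cj_comp, hM]
      rw [cj_eq_iff, hxN] at h1
      rw [add_mul, mul_add, one_mul, mul_one] at h1
      exact (add_left_cancel h1).symm
    refine no_rank_one_comm h2 u₀ ψ₀ u₀_ne ψ₀_ne (cj g (Gm G1 G2 A B k)) (cj g (Gm G1 G2 A B l))
      ?_ ?_ ?_ (comm_of _ hk) (comm_of _ hl)
    · rw [← cj_mul, hγ.sq, cj_one]
    · rw [← cj_mul, hγ.sq, cj_one]
    · rw [← cj_mul, hγ.anti k l hkl, cj_neg, cj_mul]
  · -- the semisimple case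
    haveI : Fact (Nat.Prime 3) := ⟨by norm_num⟩
    have htr := hC.trace_identity h2 hRi hι hR5 y hyN 3 (by decide) 1 hy3
    have hty : ((y : GL (Fin 2 ⊕ Fin 2) F) :
        Matrix (Fin 2 ⊕ Fin 2) (Fin 2 ⊕ Fin 2) F).trace = 1 := by
      rw [hydef, conjv_coe, trace_cj, hxv, blk_trace]
      ring
    have htyi : ((y⁻¹ : GL (Fin 2 ⊕ Fin 2) F) :
        Matrix (Fin 2 ⊕ Fin 2) (Fin 2 ⊕ Fin 2) F).trace = 1 := by
      rw [hydef, conjv_inv_coe, trace_cj, hxi, blk_trace]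
      ring
    rw [hty, htyi] at htr
    have hmod := card_centIn_modEq R y hyN 3 1 hy3
    rw [hR5] at hmod
    have hdvd : Nat.card (centIn R y) ∣ 32 := by
      rw [← hR5]
      exact Subgroup.card_dvd_of_le (centIn_le R _)
    unfold Nat.ModEq at hmod
    rcases dvd32_cases _ hdvd with h | h | h | h | h | h <;> rw [h] at hmod
    · omega
    · -- three distinct elements
      obtain ⟨ζ₀, hζR, hζ⟩ := hC.negone
      have hζC : ζ₀ ∈ centIn R y := by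
        rw [mem_centIn]
        refine ⟨hζR, ?_⟩
        apply Units.ext
        rw [Units.val_mul, Units.val_mul, hζ]
        simp
      have hkC : gamG G1 G2 A B k ∈ centIn R y := by
        rw [mem_centIn]
        refine ⟨hC.gamG_mem k, ?_⟩
        apply Units.ext
        rw [Units.val_mul, Units.val_mul]
        exact (cj_eq_iff _ _ _).1 hk
      obtain ⟨b, hb, huniq⟩ := (Nat.card_eq_two_iff' (1 : centIn R y)).mp h
      have hζ1 : ζ₀ ≠ 1 := by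
        intro hc
        rw [hc, Units.val_one] at hζ
        exact hne hζ
      have hk1 : gamG G1 G2 A B k ≠ 1 := by
        intro hc
        apply hγ.ne_one hne k
        show ((gamG G1 G2 A B k : GL (Fin 2 ⊕ Fin 2) F) :
          Matrix (Fin 2 ⊕ Fin 2) (Fin 2 ⊕ Fin 2) F) = 1
        rw [hc, Units.val_one]
      have e1 : (⟨_, hkC⟩ : centIn R y) = b :=
        huniq _ (fun hc => hk1 (congrArg Subtype.val hc))
      have e2 : (⟨ζ₀, hζC⟩ : centIn R y) = b :=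
        huniq _ (fun hc => hζ1 (congrArg Subtype.val hc))
      have : gamG G1 G2 A B k = ζ₀ := congrArg Subtype.val (e1.trans e2.symm)
      apply hγ.ne_neg_one hne k
      show ((gamG G1 G2 A B k : GL (Fin 2 ⊕ Fin 2) F) :
          Matrix (Fin 2 ⊕ Fin 2) (Fin 2 ⊕ Fin 2) F) = -1
      rw [this, hζ]
    · omega
    · rw [h] at htr
      have h6 : (2 : F) * 3 = 0 := by
        push_cast at htr
        linear_combination htr
      rcases mul_eq_zero.1 h6 with h' | h'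
      · exact h2 h'
      · exact h3 h'
    · omega
    · have heq : centIn R y = R := by
        apply Subgroup.eq_of_le_of_card_ge (centIn_le R _)
        rw [h, hR5]
      obtain ⟨d, hd⟩ := hC.scalar_of_centIn_eq hRi _ (fun h hh => by rw [heq]; exact hh)
      exact hyns d hd

theorem Config.fwd_five (h2 : (2 : F) ≠ 0) (hC : Config R G1 G2 A B)
    (hRi : Cfsg.Geo.ActsAbsolutelyIrreducibly (Cfsg.Geo.matrixSet R)) (hR5 : Nat.card R = 32)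
    (τ : F) (hτ : τ ^ 2 + τ - 1 = 0)
    (H : ∀ x ∈ Cfsg.spGL 2 F,
      (∃ z : F, ((x ^ 5 : GL (Fin 2 ⊕ Fin 2) F) : Matrix (Fin 2 ⊕ Fin 2) (Fin 2 ⊕ Fin 2) F) =
        z • (1 : Matrix (Fin 2 ⊕ Fin 2) (Fin 2 ⊕ Fin 2) F)) →
      (∀ z : F, (x : Matrix (Fin 2 ⊕ Fin 2) (Fin 2 ⊕ Fin 2) F) ≠
        z • (1 : Matrix (Fin 2 ⊕ Fin 2) (Fin 2 ⊕ Fin 2) F)) →
      ∃ g ∈ Cfsg.spGL 2 F, g⁻¹ * x * g ∈ Cfsg.Geo.subgroupNormalizer R) : False := by
  have hι : Fintype.card (Fin 2 ⊕ Fin 2) = 4 := by simp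
  obtain ⟨x, hxSp, hxv, hxi⟩ := xt_exists τ
  have hx5 : ((x ^ 5 : GL (Fin 2 ⊕ Fin 2) F) : Matrix (Fin 2 ⊕ Fin 2) (Fin 2 ⊕ Fin 2) F) = 1 := by
    rw [Units.val_pow_eq_pow_val, hxv]
    exact xt_pow_five τ hτ
  have hns : ∀ d : F, (x : Matrix (Fin 2 ⊕ Fin 2) (Fin 2 ⊕ Fin 2) F) ≠ d • 1 := by
    intro d
    rw [hxv]
    exact blk_ne_smul _ _ _ _
  obtain ⟨g, hg, hyN⟩ := H x hxSp ⟨1, by rw [hx5, one_smul]⟩ hns
  have hy5 := conjv_pow_one g x 5 hx5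
  have hyns := nonscalar_conj g x hns
  obtain ⟨y, hydef⟩ : ∃ y : GL (Fin 2 ⊕ Fin 2) F, y = g⁻¹ * x * g := ⟨_, rfl⟩
  rw [← hydef] at hyN hy5 hyns
  obtain ⟨hcard, hfpf⟩ := hC.fpf_five h2 hRi hR5 y hyN 1 hy5 hyns
  by_cases h5 : (5 : F) = 0
  · -- the unipotent case
    have hτ2 : τ = 2 := by
      have h' : (τ - 2) * (τ - 2) = 0 := by linear_combination hτ - (τ - 1) * h5
      rcases mul_eq_zero.1 h' with h'' | h'' <;> linear_combination h''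
    have hxN : (x : Matrix (Fin 2 ⊕ Fin 2) (Fin 2 ⊕ Fin 2) F) = 1 + Matrix.vecMulVec u₀ ψ₀ := by
      rw [hxv, ← xt_two, hτ2]
    have hyN' : ((y : GL (Fin 2 ⊕ Fin 2) F) :
        Matrix (Fin 2 ⊕ Fin 2) (Fin 2 ⊕ Fin 2) F) =
        1 + Matrix.vecMulVec (((g⁻¹ : GL (Fin 2 ⊕ Fin 2) F) :
          Matrix (Fin 2 ⊕ Fin 2) (Fin 2 ⊕ Fin 2) F) *ᵥ u₀)
          (ψ₀ ᵥ* (g : Matrix (Fin 2 ⊕ Fin 2) (Fin 2 ⊕ Fin 2) F)) := by
      rw [hydef, Units.val_mul, Units.val_mul, hxN, mul_add, add_mul, mul_one, Units.inv_mul,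
        Matrix.mul_vecMulVec, Matrix.vecMulVec_mul]
    exact hC.no_transvection_fpf h2 hι hR5 y hyN 5 (by decide) 1 hy5 hfpf _ _ hyN'
  · -- the semisimple case
    have htr := hC.trace_identity h2 hRi hι hR5 y hyN 5 (by decide) 1 hy5
    have hty : ((y : GL (Fin 2 ⊕ Fin 2) F) :
        Matrix (Fin 2 ⊕ Fin 2) (Fin 2 ⊕ Fin 2) F).trace = τ + 2 := by
      rw [hydef, conjv_coe, trace_cj, hxv, blk_trace]
      ring
    have htyi : ((y⁻¹ : GL (Fin 2 ⊕ Fin 2) F) :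
        Matrix (Fin 2 ⊕ Fin 2) (Fin 2 ⊕ Fin 2) F).trace = τ + 2 := by
      rw [hydef, conjv_inv_coe, trace_cj, hxi, blk_trace]
      ring
    rw [hty, htyi, hcard] at htr
    push_cast at htr
    have e2 : (τ + 2) ^ 2 = 1 := by
      have h' : (2 : F) * ((τ + 2) ^ 2 - 1) = 0 := by linear_combination -htr
      rcases mul_eq_zero.1 h' with h'' | h''
      · exact absurd h'' h2
      · linear_combination h''
    apply h5
    linear_combination (3 * τ - 1) * (e2 - hτ) - 9 * hτ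

end Sp4

end Cfsg.Agent.Lib.Helper9.C6D4
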