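import Mathlib
import Cfsg.Agent.Lib.Helper9.C6D4e

set_option autoImplicit false

/-! Groups all of whose squares lie in a central pair `{1, z}` (no hypothesis on the centre):
anticommuting pairs, halving of centralisers. -/

namespace Cfsg.Agent.Lib.Helper9.C6L4

open Cfsg.Agent.Lib.Helper9.C6D4 (AC comm_word word_mem_closure prod_comm pairSubgroup)

structure SqData (G : Type*) [Group G] (z : G) : Prop where
  z_ne : z ≠ 1
  zz : z * z = 1
  zc : ∀ x : G, x * z = z * x
  sq : ∀ x : G, x * x = 1 ∨ x * x = z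

variable {G : Type*} [Group G] {z : G}

theorem SqData.comm_or (h : SqData G z) (x y : G) : x * y = y * x ∨ AC z x y := by
  have key : (x * x) * (y * x) * (y * y) = x * ((x * y) * (x * y)) * y := by group
  have hE : ∀ e₁ e₂ e₃ : G, (e₁ = 1 ∨ e₁ = z) → (e₂ = 1 ∨ e₂ = z) → (e₃ = 1 ∨ e₃ = z) →
      e₂ * (y * x) * e₃ = x * e₁ * y → x * y = y * x ∨ x * y = z * (y * x) := by
    intro e₁ e₂ e₃ h1 h2 h3 hk
    have c1 : ∀ g : G, g * e₁ = e₁ * g := by
      rcases h1 with rfl | rfl
      · intro g; simp
      · exact h.zc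
    have c3 : ∀ g : G, g * e₃ = e₃ * g := by
      rcases h3 with rfl | rfl
      · intro g; simp
      · exact h.zc
    have ee1 : e₁ * e₁ = 1 := by
      rcases h1 with rfl | rfl
      · simp
      · exact h.zz
    have hxy : x * y = (e₁ * e₂ * e₃) * (y * x) := by
      calc x * y = (e₁ * e₁) * (x * y) := by rw [ee1, one_mul]
        _ = e₁ * (e₁ * x * y) := by group
        _ = e₁ * (x * e₁ * y) := by rw [c1 x]
        _ = e₁ * (e₂ * (y * x) * e₃) := by rw [hk]
        _ = e₁ * (e₂ * (e₃ * (y * x))) := by rw [mul_assoc e₂, c3 (y * x)]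
        _ = (e₁ * e₂ * e₃) * (y * x) := by group
    have hmem : e₁ * e₂ * e₃ = 1 ∨ e₁ * e₂ * e₃ = z :=
      (pairSubgroup z h.zz).mul_mem ((pairSubgroup z h.zz).mul_mem h1 h2) h3
    rcases hmem with h' | h'
    · left
      rw [hxy, h', one_mul]
    · right
      rw [hxy, h']
  exact hE _ _ _ (h.sq (x * y)) (h.sq x) (h.sq y) key

theorem ac_symm (h : SqData G z) {x y : G} (hxy : AC z x y) : AC z y x := by
  unfold AC at *
  rw [hxy, ← mul_assoc, h.zz, one_mul]

theorem ac_ne (h : SqData G z) {x y : G} (hxy : AC z x y) : x * y ≠ y * x := by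
  intro hc
  unfold AC at hxy
  rw [hc] at hxy
  apply h.z_ne
  have h1 : z * (y * x) = 1 * (y * x) := by rw [one_mul, ← hxy]
  exact mul_right_cancel h1

theorem ac_of_ne (h : SqData G z) {x y : G} (hxy : x * y ≠ y * x) : AC z x y :=
  (h.comm_or x y).resolve_left hxy

theorem adjust4 (h : SqData G z) {x y : G} (hxy : AC z x y) (g : G) :
    ∃ i j : Fin 2, (g * (y ^ (j : ℕ) * x ^ (i : ℕ))) * x = x * (g * (y ^ (j : ℕ) * x ^ (i : ℕ))) ∧
      (g * (y ^ (j : ℕ) * x ^ (i : ℕ))) * y = y * (g * (y ^ (j : ℕ) * x ^ (i : ℕ))) := by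
  have hyx : y * x = z * (x * y) := ac_symm h hxy
  obtain ⟨j, hj⟩ : ∃ j : Fin 2, (g * y ^ (j : ℕ)) * x = x * (g * y ^ (j : ℕ)) := by
    rcases h.comm_or g x with h' | h'
    · exact ⟨0, by simpa using h'⟩
    · refine ⟨1, ?_⟩
      unfold AC at h'
      simp only [Fin.val_one, pow_one]
      calc g * y * x = g * (y * x) := by group
        _ = g * (z * (x * y)) := by rw [hyx]
        _ = (g * z) * (x * y) := by group
        _ = (z * g) * (x * y) := by rw [h.zc g]
        _ = z * (g * x) * y := by group
        _ = z * (z * (x * g)) * y := by rw [h']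
        _ = (z * z) * (x * (g * y)) := by group
        _ = x * (g * y) := by rw [h.zz, one_mul]
  set g' := g * y ^ (j : ℕ) with hg'
  obtain ⟨i, hi1, hi2⟩ : ∃ i : Fin 2, (g' * x ^ (i : ℕ)) * x = x * (g' * x ^ (i : ℕ)) ∧
      (g' * x ^ (i : ℕ)) * y = y * (g' * x ^ (i : ℕ)) := by
    rcases h.comm_or g' y with h' | h'
    · exact ⟨0, by simpa using hj, by simpa using h'⟩
    · refine ⟨1, ?_, ?_⟩
      · simp only [Fin.val_one, pow_one]
        calc g' * x * x = x * g' * x := by rw [hj]
          _ = x * (g' * x) := by group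
      · unfold AC at h' hxy
        simp only [Fin.val_one, pow_one]
        calc g' * x * y = g' * (x * y) := by group
          _ = g' * (z * (y * x)) := by rw [hxy]
          _ = (g' * z) * (y * x) := by group
          _ = (z * g') * (y * x) := by rw [h.zc g']
          _ = z * (g' * y) * x := by group
          _ = z * (z * (y * g')) * x := by rw [h']
          _ = (z * z) * (y * (g' * x)) := by group
          _ = y * (g' * x) := by rw [h.zz, one_mul]
  refine ⟨i, j, ?_, ?_⟩
  · rw [← mul_assoc g]
    exact hi1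
  · rw [← mul_assoc g]
    exact hi2

/-- the centraliser of `t` inside `H` -/
def cIn (H : Subgroup G) (t : G) : Subgroup G := H ⊓ Subgroup.centralizer {t}

theorem mem_cIn (H : Subgroup G) (t g : G) : g ∈ cIn H t ↔ g ∈ H ∧ t * g = g * t := by
  unfold cIn
  rw [Subgroup.mem_inf, Subgroup.mem_centralizer_iff]
  simp

theorem cIn_le (H : Subgroup G) (t : G) : cIn H t ≤ H := inf_le_left

/-- halving: if some element of `H` does not commute with `t`, the centraliser of `t` in `H`
has index two -/
theorem card_cIn_half [Finite G] (h : SqData G z) (H : Subgroup G) (t a : G) (ha : a ∈ H)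
    (hat : a * t ≠ t * a) : Nat.card H = 2 * Nat.card (cIn H t) := by
  have hAC : AC z a t := ac_of_ne h hat
  have hidx : ((cIn H t).subgroupOf H).index = 2 := by
    rw [Subgroup.index_eq_two_iff]
    refine ⟨⟨a, ha⟩, ?_⟩
    intro b
    rw [Subgroup.mem_subgroupOf, Subgroup.mem_subgroupOf, mem_cIn, mem_cIn]
    have hbH : (b : G) ∈ H := b.2
    have hbaH : ((b * ⟨a, ha⟩ : H) : G) ∈ H := (b * ⟨a, ha⟩).2
    have hcoe : ((b * ⟨a, ha⟩ : H) : G) = (b : G) * a := rfl
    rcases h.comm_or (b : G) t with hb | hb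
    · -- b commutes with t: b * a does not
      right
      refine ⟨⟨hbH, hb.symm⟩, ?_⟩
      rintro ⟨_, hc⟩
      rw [hcoe] at hc
      apply hat
      have : (b : G) * (t * a) = (b : G) * (a * t) := by
        calc (b : G) * (t * a) = ((b : G) * t) * a := by group
          _ = (t * (b : G)) * a := by rw [hb]
          _ = t * ((b : G) * a) := by group
          _ = (b : G) * a * t := hc
          _ = (b : G) * (a * t) := by group
      exact (mul_left_cancel this).symm
    · -- b anticommutes with t: b * a commutes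
      left
      refine ⟨⟨hbaH, ?_⟩, ?_⟩
      · rw [hcoe]
        unfold AC at hb hAC
        symm
        calc (b : G) * a * t = (b : G) * (a * t) := by group
          _ = (b : G) * (z * (t * a)) := by rw [hAC]
          _ = ((b : G) * z) * (t * a) := by group
          _ = (z * (b : G)) * (t * a) := by rw [h.zc]
          _ = z * ((b : G) * t) * a := by group
          _ = z * (z * (t * (b : G))) * a := by rw [hb]
          _ = (z * z) * (t * ((b : G) * a)) := by group
          _ = t * ((b : G) * a) := by rw [h.zz, one_mul]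
      · rintro ⟨_, hc⟩
        exact ac_ne h hb hc.symm
  have h1 := Subgroup.card_mul_index ((cIn H t).subgroupOf H)
  rw [hidx] at h1
  have h2 : Nat.card ((cIn H t).subgroupOf H) = Nat.card (cIn H t) :=
    Nat.card_congr (Subgroup.subgroupOfEquivOfLe (cIn_le H t)).toEquiv
  rw [h2] at h1
  omega

end Cfsg.Agent.Lib.Helper9.C6L4
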