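import Mathlib
import Cfsg.Agent.Lib.Helper9.C6L4a

set_option autoImplicit false

/-! The structure of a group of order `2^6` with centre of order `4` all of whose squares lie
in a central pair `{1, z}`. -/

namespace Cfsg.Agent.Lib.Helper9.C6L4

open Cfsg.Agent.Lib.Helper9.C6D4 (AC comm_word word_mem_closure prod_comm pairSubgroup)

variable {G : Type*} [Group G] {z : G}

/-- the joint centraliser of four elements -/
def cent4 (x y u v : G) : Subgroup G := cIn (cIn (cIn (cIn ⊤ x) y) u) v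

theorem mem_cent4 (x y u v c : G) :
    c ∈ cent4 x y u v ↔ x * c = c * x ∧ y * c = c * y ∧ u * c = c * u ∧ v * c = c * v := by
  unfold cent4
  rw [mem_cIn, mem_cIn, mem_cIn, mem_cIn]
  simp only [Subgroup.mem_top, true_and]
  tauto

theorem card_cent4 [Finite G] (h : SqData G z) {x y u v : G} (hxy : AC z x y) (huv : AC z u v)
    (hux : u * x = x * u) (huy : u * y = y * u) (hvx : v * x = x * v) (hvy : v * y = y * v) :
    Nat.card G = 16 * Nat.card (cent4 x y u v) := by
  have h0 : Nat.card (⊤ : Subgroup G) = Nat.card G := Subgroup.card_top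
  have h1 := card_cIn_half h ⊤ x y (Subgroup.mem_top y) (ac_ne h (ac_symm h hxy))
  have h2 := card_cIn_half h (cIn ⊤ x) y x
    ((mem_cIn _ _ _).2 ⟨Subgroup.mem_top x, rfl⟩) (ac_ne h hxy)
  have hv2 : v ∈ cIn (cIn ⊤ x) y := by
    rw [mem_cIn, mem_cIn]
    exact ⟨⟨Subgroup.mem_top v, hvx.symm⟩, hvy.symm⟩
  have h3 := card_cIn_half h (cIn (cIn ⊤ x) y) u v hv2 (ac_ne h (ac_symm h huv))
  have hu3 : u ∈ cIn (cIn (cIn ⊤ x) y) u := by
    rw [mem_cIn, mem_cIn, mem_cIn]
    exact ⟨⟨⟨Subgroup.mem_top u, hux.symm⟩, huy.symm⟩, rfl⟩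
  have h4 := card_cIn_half h (cIn (cIn (cIn ⊤ x) y) u) v u hu3 (ac_ne h huv)
  unfold cent4
  omega

variable [Finite G]

theorem exists_first_pair4 (h : SqData G z) (hcard : Nat.card G = 64)
    (hcen : Nat.card (Subgroup.center G) = 4) : ∃ x y : G, AC z x y := by
  have : ¬ ∀ x : G, x ∈ Subgroup.center G := by
    intro hall
    have : Subgroup.center G = ⊤ := by
      rw [eq_top_iff]
      intro x _
      exact hall x
    rw [this, Subgroup.card_top] at hcen
    omega
  push Not at this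
  obtain ⟨x, hx⟩ := this
  rw [Subgroup.mem_center_iff] at hx
  push Not at hx
  obtain ⟨y, hy⟩ := hx
  exact ⟨y, x, ac_of_ne h hy⟩

theorem exists_second_pair4 (h : SqData G z) (hcard : Nat.card G = 64)
    (hcen : Nat.card (Subgroup.center G) = 4) {x y : G} (hxy : AC z x y) :
    ∃ u v : G, u * x = x * u ∧ u * y = y * u ∧ v * x = x * v ∧ v * y = y * v ∧ AC z u v := by
  have h1 := card_cIn_half h ⊤ x y (Subgroup.mem_top y) (ac_ne h (ac_symm h hxy))
  have h2 := card_cIn_half h (cIn ⊤ x) y x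
    ((mem_cIn _ _ _).2 ⟨Subgroup.mem_top x, rfl⟩) (ac_ne h hxy)
  have h0 : Nat.card (⊤ : Subgroup G) = Nat.card G := Subgroup.card_top
  have h16 : Nat.card (cIn (cIn ⊤ x) y) = 16 := by omega
  -- a non-central element of the centraliser
  have : ¬ ∀ u ∈ cIn (cIn ⊤ x) y, u ∈ Subgroup.center G := by
    intro hall
    have hle : cIn (cIn ⊤ x) y ≤ Subgroup.center G := hall
    have := Subgroup.card_le_of_le hle
    omega
  push Not at this
  obtain ⟨u, hu, hunc⟩ := this
  rw [mem_cIn, mem_cIn] at hu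
  obtain ⟨⟨_, hxu⟩, hyu⟩ := hu
  rw [Subgroup.mem_center_iff] at hunc
  push Not at hunc
  obtain ⟨v', hv'⟩ := hunc
  have huv' : AC z u v' := ac_of_ne h (fun hc => hv' hc.symm)
  obtain ⟨i, j, hvx, hvy⟩ := adjust4 h hxy v'
  set w := y ^ (j : ℕ) * x ^ (i : ℕ) with hw
  have huw : u * w = w * u := comm_word hxu.symm hyu.symm _ _
  refine ⟨u, v' * w, hxu.symm, hyu.symm, hvx, hvy, ?_⟩
  unfold AC at huv' ⊢
  calc u * (v' * w) = (u * v') * w := by group
    _ = (z * (v' * u)) * w := by rw [huv']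
    _ = z * (v' * (u * w)) := by group
    _ = z * (v' * (w * u)) := by rw [huw]
    _ = z * (v' * w * u) := by group

theorem central_of_comm4 (h : SqData G z) (hcard : Nat.card G = 64)
    (hcen : Nat.card (Subgroup.center G) = 4) {x y u v : G} (hxy : AC z x y) (huv : AC z u v)
    (hux : u * x = x * u) (huy : u * y = y * u) (hvx : v * x = x * v) (hvy : v * y = y * v)
    (c : G) (hcx : c * x = x * c) (hcy : c * y = y * c) (hcu : c * u = u * c)
    (hcv : c * v = v * c) : c ∈ Subgroup.center G := by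
  have hc4 := card_cent4 h hxy huv hux huy hvx hvy
  have hle : Subgroup.center G ≤ cent4 x y u v := by
    intro g hg
    rw [Subgroup.mem_center_iff] at hg
    rw [mem_cent4]
    exact ⟨hg x, hg y, hg u, hg v⟩
  have heq : Subgroup.center G = cent4 x y u v := by
    apply Subgroup.eq_of_le_of_card_ge hle
    omega
  rw [heq, mem_cent4]
  exact ⟨hcx.symm, hcy.symm, hcu.symm, hcv.symm⟩

/-- every element is a central element times a word in `x, y, u, v` -/
theorem exists_central_word (h : SqData G z) (hcard : Nat.card G = 64)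
    (hcen : Nat.card (Subgroup.center G) = 4) {x y u v : G} (hxy : AC z x y) (huv : AC z u v)
    (hux : u * x = x * u) (huy : u * y = y * u) (hvx : v * x = x * v) (hvy : v * y = y * v)
    (g : G) : ∃ c w : G, c ∈ Subgroup.center G ∧
      w ∈ Subgroup.closure ({x, y, u, v} : Set G) ∧ g = c * w := by
  set K := Subgroup.closure ({x, y, u, v} : Set G) with hK
  have hxK : x ∈ K := Subgroup.subset_closure (by simp)
  have hyK : y ∈ K := Subgroup.subset_closure (by simp)
  have huK : u ∈ K := Subgroup.subset_closure (by simp)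
  have hvK : v ∈ K := Subgroup.subset_closure (by simp)
  obtain ⟨i, j, h1, h2⟩ := adjust4 h hxy g
  set w₁ := y ^ (j : ℕ) * x ^ (i : ℕ) with hw₁
  obtain ⟨i', j', h3, h4⟩ := adjust4 h huv (g * w₁)
  set w₂ := v ^ (j' : ℕ) * u ^ (i' : ℕ) with hw₂
  have hxw₂ : x * w₂ = w₂ * x := comm_word hux.symm hvx.symm _ _
  have hyw₂ : y * w₂ = w₂ * y := comm_word huy.symm hvy.symm _ _
  have hw₁K : w₁ ∈ K := word_mem_closure K hxK hyK _ _
  have hw₂K : w₂ ∈ K := word_mem_closure K huK hvK _ _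
  set c := g * w₁ * w₂ with hc
  have hcx : c * x = x * c := by
    calc c * x = g * w₁ * (w₂ * x) := by rw [hc]; group
      _ = g * w₁ * (x * w₂) := by rw [hxw₂]
      _ = (g * w₁ * x) * w₂ := by group
      _ = (x * (g * w₁)) * w₂ := by rw [h1]
      _ = x * c := by rw [hc]; group
  have hcy : c * y = y * c := by
    calc c * y = g * w₁ * (w₂ * y) := by rw [hc]; group
      _ = g * w₁ * (y * w₂) := by rw [hyw₂]
      _ = (g * w₁ * y) * w₂ := by group
      _ = (y * (g * w₁)) * w₂ := by rw [h2]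
      _ = y * c := by rw [hc]; group
  refine ⟨c, w₂⁻¹ * w₁⁻¹, central_of_comm4 h hcard hcen hxy huv hux huy hvx hvy c hcx hcy h3 h4,
    K.mul_mem (K.inv_mem hw₂K) (K.inv_mem hw₁K), ?_⟩
  rw [hc]
  group

/-- adjusting the square of an element by a central element `ζ` with `ζ * ζ = z` -/
theorem fix_sq (h : SqData G z) (ζ : G) (hζc : ∀ g : G, g * ζ = ζ * g) (hζ : ζ * ζ = z)
    (x e : G) (he : e = 1 ∨ e = z) : ∃ x' : G, x' * x' = e ∧ (x' = x ∨ x' = ζ * x) := by
  have hsq : (ζ * x) * (ζ * x) = z * (x * x) := by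
    calc (ζ * x) * (ζ * x) = ζ * (x * ζ) * x := by group
      _ = ζ * (ζ * x) * x := by rw [hζc x]
      _ = (ζ * ζ) * (x * x) := by group
      _ = z * (x * x) := by rw [hζ]
  rcases h.sq x with hx | hx <;> rcases he with rfl | rfl
  · exact ⟨x, hx, Or.inl rfl⟩
  · exact ⟨ζ * x, by rw [hsq, hx, mul_one], Or.inr rfl⟩
  · exact ⟨ζ * x, by rw [hsq, hx, h.zz], Or.inr rfl⟩
  · exact ⟨x, hx, Or.inl rfl⟩

theorem ac_scal_left (ζ : G) (hζc : ∀ g : G, g * ζ = ζ * g) {x x' y : G}
    (hx : x' = x ∨ x' = ζ * x) (hxy : AC z x y) : AC z x' y := by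
  rcases hx with rfl | rfl
  · exact hxy
  · unfold AC at *
    calc ζ * x * y = ζ * (x * y) := by group
      _ = ζ * (z * (y * x)) := by rw [hxy]
      _ = (ζ * z) * (y * x) := by group
      _ = (z * ζ) * (y * x) := by rw [hζc z]
      _ = z * ((ζ * y) * x) := by group
      _ = z * ((y * ζ) * x) := by rw [hζc y]
      _ = z * (y * (ζ * x)) := by group

theorem ac_scal_right (ζ : G) (hζc : ∀ g : G, g * ζ = ζ * g) {x y y' : G}
    (hy : y' = y ∨ y' = ζ * y) (hxy : AC z x y) : AC z x y' := by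
  rcases hy with rfl | rfl
  · exact hxy
  · unfold AC at *
    calc x * (ζ * y) = (x * ζ) * y := by group
      _ = (ζ * x) * y := by rw [hζc x]
      _ = ζ * (x * y) := by group
      _ = ζ * (z * (y * x)) := by rw [hxy]
      _ = (ζ * z) * (y * x) := by group
      _ = (z * ζ) * (y * x) := by rw [hζc z]
      _ = z * (ζ * y * x) := by group

theorem comm_scal_left (ζ : G) (hζc : ∀ g : G, g * ζ = ζ * g) {x x' y : G}
    (hx : x' = x ∨ x' = ζ * x) (hxy : x * y = y * x) : x' * y = y * x' := by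
  rcases hx with rfl | rfl
  · exact hxy
  · calc ζ * x * y = ζ * (x * y) := by group
      _ = ζ * (y * x) := by rw [hxy]
      _ = (ζ * y) * x := by group
      _ = (y * ζ) * x := by rw [hζc y]
      _ = y * (ζ * x) := by group

theorem comm_scal_right (ζ : G) (hζc : ∀ g : G, g * ζ = ζ * g) {x y y' : G}
    (hy : y' = y ∨ y' = ζ * y) (hxy : x * y = y * x) : x * y' = y' * x :=
  (comm_scal_left ζ hζc hy hxy.symm).symm

/-- the structure theorem -/
theorem structure64 (h : SqData G z) (hcard : Nat.card G = 64)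
    (hcen : Nat.card (Subgroup.center G) = 4) (ζ : G) (hζc : ∀ g : G, g * ζ = ζ * g)
    (hζ : ζ * ζ = z) :
    ∃ g1 g2 a b : G, g1 * g1 = 1 ∧ g2 * g2 = 1 ∧ AC z g1 g2 ∧ a * a = z ∧ b * b = z ∧ AC z a b ∧
      g1 * a = a * g1 ∧ g1 * b = b * g1 ∧ g2 * a = a * g2 ∧ g2 * b = b * g2 ∧
      (∀ g : G, ∃ c w : G, c ∈ Subgroup.center G ∧
        w ∈ Subgroup.closure ({g1, g2, a, b} : Set G) ∧ g = c * w) := by
  obtain ⟨x, y, hxy⟩ := exists_first_pair4 h hcard hcen
  obtain ⟨u, v, hux, huy, hvx, hvy, huv⟩ := exists_second_pair4 h hcard hcen hxy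
  obtain ⟨g1, h11, hg1⟩ := fix_sq h ζ hζc hζ x 1 (Or.inl rfl)
  obtain ⟨g2, h22, hg2⟩ := fix_sq h ζ hζc hζ y 1 (Or.inl rfl)
  obtain ⟨a, haa, ha⟩ := fix_sq h ζ hζc hζ u z (Or.inr rfl)
  obtain ⟨b, hbb, hb⟩ := fix_sq h ζ hζc hζ v z (Or.inr rfl)
  have h12 : AC z g1 g2 := ac_scal_left ζ hζc hg1 (ac_scal_right ζ hζc hg2 hxy)
  have hab : AC z a b := ac_scal_left ζ hζc ha (ac_scal_right ζ hζc hb huv)
  have h1a : g1 * a = a * g1 := comm_scal_left ζ hζc hg1 (comm_scal_right ζ hζc ha hux.symm)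
  have h1b : g1 * b = b * g1 := comm_scal_left ζ hζc hg1 (comm_scal_right ζ hζc hb hvx.symm)
  have h2a : g2 * a = a * g2 := comm_scal_left ζ hζc hg2 (comm_scal_right ζ hζc ha huy.symm)
  have h2b : g2 * b = b * g2 := comm_scal_left ζ hζc hg2 (comm_scal_right ζ hζc hb hvy.symm)
  refine ⟨g1, g2, a, b, h11, h22, h12, haa, hbb, hab, h1a, h1b, h2a, h2b, ?_⟩
  exact exists_central_word h hcard hcen h12 hab h1a.symm h2a.symm h1b.symm h2b.symm

end Cfsg.Agent.Lib.Helper9.C6L4
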