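import Mathlib
import Cfsg.Agent.Lib.Helper9.C6L4b
import Cfsg.Agent.Lib.Helper9.C6D4x

set_option autoImplicit false

/-! The configuration `(G1, G2, A, B)` inside a group `R` of order `2^6` with centre of order `4`. -/

open scoped MatrixGroups

namespace Cfsg.Agent.Lib.Helper9.C6L4

open Cfsg.Agent.Lib.Helper9.C6D4 (AC QD toM toM_mul toM_one toM_injective one_ne_neg_one_mat
  smul_one_eq_smul_one sq_dichotomy cj cj_eq_iff trace_cj)

variable {F : Type*} [Field F] {ι : Type} [Fintype ι] [DecidableEq ι]

structure Config4 (R : Subgroup (GL ι F)) (G1 G2 A B : GL ι F) (i : F) : Prop where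
  m1 : G1 ∈ R
  m2 : G2 ∈ R
  mA : A ∈ R
  mB : B ∈ R
  qd : QD (G1 : Matrix ι ι F) (G2 : Matrix ι ι F) (A : Matrix ι ι F) (B : Matrix ι ι F)
  ii : i * i = -1
  mI : ∃ h ∈ R, ((h : GL ι F) : Matrix ι ι F) = i • 1
  gen : ∀ h ∈ R, ∃ c w : GL ι F, (∃ d : F, (c : Matrix ι ι F) = d • 1) ∧
    w ∈ Subgroup.closure ({G1, G2, A, B} : Set (GL ι F)) ∧ h = c * w
  negone : ∃ h ∈ R, ((h : GL ι F) : Matrix ι ι F) = -1
  sqs : ∀ h ∈ R, ((h : GL ι F) : Matrix ι ι F) * (h : Matrix ι ι F) = 1 ∨
    ((h : GL ι F) : Matrix ι ι F) * (h : Matrix ι ι F) = -1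
  comms : ∀ h ∈ R, ∀ k ∈ R, ((h : GL ι F) : Matrix ι ι F) * (k : Matrix ι ι F) = k * h ∨
    ((h : GL ι F) : Matrix ι ι F) * (k : Matrix ι ι F) = -((k : Matrix ι ι F) * h)

theorem exists_config4 [Fintype F] [Nonempty ι] (h2 : (2 : F) ≠ 0) (R : Subgroup (GL ι F))
    (hRs : Cfsg.Geo.IsSymplecticTypeGroup 2 R)
    (hRi : Cfsg.Geo.ActsAbsolutelyIrreducibly (Cfsg.Geo.matrixSet R))
    (hR6 : Nat.card R = 64) (hRZ : Nat.card (Subgroup.center R) = 4) :
    ∃ (G1 G2 A B : GL ι F) (i : F), Config4 R G1 G2 A B i := by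
  classical
  have hne := one_ne_neg_one_mat (ι := ι) h2
  -- scalar matrices of central elements
  have hscal : ∀ x : R, (∀ y : R, x * y = y * x) → ∃ c : F, toM R x = c • 1 := by
    intro x hx
    apply hRi.2
    rintro s ⟨g, hg, rfl⟩
    have h' := congrArg (toM R) (hx ⟨g, hg⟩)
    rw [toM_mul, toM_mul] at h'
    exact h'
  -- squares
  have hexp : ∀ x : R, x ^ 4 = 1 := by
    intro x
    have h4 : Monoid.exponent R = 4 := by
      rw [hRs.exponent_eq]
      norm_num
    rw [← h4]
    exact Monoid.pow_exponent_eq_one x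
  obtain ⟨z, hzc, hzz, hzsq⟩ := sq_dichotomy hRs.pGroup hexp hRs.cyclic_of_characteristic
  have hz1 : z ≠ 1 := by
    intro hz
    rw [hz] at hzsq
    -- all squares trivial: abelian
    have hab : ∀ x y : R, x * y = y * x := by
      intro x y
      have hx : x * x = 1 := by rcases hzsq x with h | h <;> exact h
      have hy : y * y = 1 := by rcases hzsq y with h | h <;> exact h
      have hxy : (x * y) * (x * y) = 1 := by rcases hzsq (x * y) with h | h <;> exact h
      calc x * y = x * ((x * y) * (x * y)) * y := by rw [hxy, mul_one]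
        _ = (x * x) * (y * x) * (y * y) := by group
        _ = y * x := by rw [hx, hy, one_mul, mul_one]
    have : Subgroup.center R = ⊤ := by
      rw [eq_top_iff]
      intro x _
      rw [Subgroup.mem_center_iff]
      intro g
      exact hab g x
    rw [this, Subgroup.card_top] at hRZ
    omega
  have hE : SqData R z := ⟨hz1, hzz, hzc, hzsq⟩
  -- the matrix of `z`
  obtain ⟨c, hc⟩ := hscal z (fun y => (hzc y).symm)
  have hcc : c * c = 1 := by
    have h' := congrArg (toM R) hzz
    rw [toM_mul, toM_one, hc, Matrix.smul_mul, Matrix.mul_smul, Matrix.one_mul, smul_smul] at h'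
    have : (c * c) • (1 : Matrix ι ι F) = (1 : F) • (1 : Matrix ι ι F) := by rw [h', one_smul]
    exact smul_one_eq_smul_one this
  have hcm : c = -1 := by
    have h' : (c - 1) * (c + 1) = 0 := by linear_combination hcc
    rcases mul_eq_zero.mp h' with h'' | h''
    · exfalso
      apply hz1
      apply toM_injective R
      rw [hc, toM_one, sub_eq_zero.mp h'', one_smul]
    · linear_combination h''
  have hzM : toM R z = -1 := by rw [hc, hcm, neg_one_smul]
  -- a central element of order four
  obtain ⟨ζ, hζc, hζ1, hζz⟩ : ∃ ζ : R, ζ ∈ Subgroup.center R ∧ ζ ≠ 1 ∧ ζ ≠ z := by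
    by_contra hcon
    push Not at hcon
    have hsurj : Function.Surjective (fun t : Fin 2 => (⟨z ^ (t : ℕ), by
        apply Subgroup.pow_mem
        rw [Subgroup.mem_center_iff]
        intro g
        exact hzc g⟩ : Subgroup.center R)) := by
      intro g
      by_cases hg : (g : R) = 1
      · refine ⟨0, ?_⟩
        apply Subtype.ext
        simp [hg]
      · refine ⟨1, ?_⟩
        apply Subtype.ext
        simp [hcon g g.2 hg]
    have h8 := Nat.card_le_card_of_surjective _ hsurj
    have h9 : Nat.card (Fin 2) = 2 := by simp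
    omega
  have hζc' : ∀ g : R, g * ζ = ζ * g := fun g => Subgroup.mem_center_iff.mp hζc g
  obtain ⟨i, hi⟩ := hscal ζ (fun y => (hζc' y).symm)
  have hζζ : ζ * ζ = z := by
    rcases hzsq ζ with h | h
    · exfalso
      have h' := congrArg (toM R) h
      rw [toM_mul, toM_one, hi, Matrix.smul_mul, Matrix.mul_smul, Matrix.one_mul, smul_smul] at h'
      have h'' : (i * i) • (1 : Matrix ι ι F) = (1 : F) • (1 : Matrix ι ι F) := by rw [h', one_smul]
      have hii := smul_one_eq_smul_one h''
      have h3 : (i - 1) * (i + 1) = 0 := by linear_combination hii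
      rcases mul_eq_zero.mp h3 with h4 | h4
      · apply hζ1
        apply toM_injective R
        rw [hi, toM_one, sub_eq_zero.mp h4, one_smul]
      · apply hζz
        apply toM_injective R
        rw [hi, hzM, eq_neg_of_add_eq_zero_left h4, neg_one_smul]
    · exact h
  have hii : i * i = -1 := by
    have h' := congrArg (toM R) hζζ
    rw [toM_mul, hzM, hi, Matrix.smul_mul, Matrix.mul_smul, Matrix.one_mul, smul_smul] at h'
    have h'' : (i * i) • (1 : Matrix ι ι F) = (-1 : F) • (1 : Matrix ι ι F) := by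
      rw [h', neg_one_smul]
    exact smul_one_eq_smul_one h''
  obtain ⟨g1, g2, a, b, h11, h22, h12, haa, hbb, hab, h1a, h1b, h2a, h2b, hgen⟩ :=
    structure64 hE hR6 hRZ ζ hζc' hζζ
  have tr : ∀ {x y : R}, AC z x y → toM R y * toM R x = -(toM R x * toM R y) := by
    intro x y hxy
    unfold AC at hxy
    have := congrArg (toM R) hxy
    rw [toM_mul, toM_mul, toM_mul, hzM] at this
    rw [this]
    simp
  have tc : ∀ {x y : R}, x * y = y * x → toM R y * toM R x = toM R x * toM R y := by
    intro x y hxy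
    have := congrArg (toM R) hxy
    rw [toM_mul, toM_mul] at this
    exact this.symm
  refine ⟨g1, g2, a, b, i, g1.2, g2.2, a.2, b.2, ?_, hii, ⟨ζ, ζ.2, hi⟩, ?_, ⟨z, z.2, hzM⟩, ?_, ?_⟩
  · refine ⟨?_, ?_, tr h12, ?_, ?_, tr hab, tc h1a, tc h2a, tc h1b, tc h2b⟩
    · have := congrArg (toM R) h11
      rw [toM_mul, toM_one] at this
      exact this
    · have := congrArg (toM R) h22
      rw [toM_mul, toM_one] at this
      exact this
    · have := congrArg (toM R) haa
      rw [toM_mul, hzM] at this
      exact this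
    · have := congrArg (toM R) hbb
      rw [toM_mul, hzM] at this
      exact this
  · intro h hh
    obtain ⟨c', w, hc', hw, hcw⟩ := hgen ⟨h, hh⟩
    refine ⟨(c' : GL ι F), (w : GL ι F), ?_, ?_, ?_⟩
    · exact hscal c' (fun y => ((Subgroup.mem_center_iff.mp hc') y).symm)
    · have := Subgroup.mem_map_of_mem R.subtype hw
      rw [MonoidHom.map_closure] at this
      simp only [Set.image_insert_eq, Set.image_singleton, Subgroup.coe_subtype] at this
      exact this
    · have := congrArg (Subtype.val) hcw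
      rw [Subgroup.coe_mul] at this
      exact this
  · intro h hh
    rcases hE.sq ⟨h, hh⟩ with h' | h'
    · left
      have := congrArg (toM R) h'
      rw [toM_mul, toM_one] at this
      exact this
    · right
      have := congrArg (toM R) h'
      rw [toM_mul, hzM] at this
      exact this
  · intro h hh k hk
    rcases hE.comm_or ⟨h, hh⟩ ⟨k, hk⟩ with h' | h'
    · left
      exact tc h'.symm
    · right
      exact tr (ac_symm hE h')

end Cfsg.Agent.Lib.Helper9.C6L4
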