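import Mathlib
import Cfsg.Agent.Lib.Helper9.C6L4c

set_option autoImplicit false

/-! Tools for the group of order `2^6`: normaliser membership, commutant, traces, the trace
identity `|C_R(y)| = 4 tr(y) tr(y⁻¹)`. -/

open scoped MatrixGroups

namespace Cfsg.Agent.Lib.Helper9.C6L4

open Cfsg.Agent.Lib.Helper9.C6D4 (AC QD toM toM_mul toM_one toM_injective one_ne_neg_one_mat
  smul_one_eq_smul_one cj cj_eq_iff trace_cj cj_sum cj_comp cj_coe cj_scalar cj_smul cj_one_left
  centIn mem_centIn conj_mem_of_normalizer scalar_central)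

variable {F : Type*} [Field F] {ι : Type} [Fintype ι] [DecidableEq ι]
  {R : Subgroup (GL ι F)} {G1 G2 A B : GL ι F} {i : F}

theorem closure_le_R (hC : Config4 R G1 G2 A B i) :
    Subgroup.closure ({G1, G2, A, B} : Set (GL ι F)) ≤ R := by
  rw [Subgroup.closure_le]
  intro h hh
  simp only [Set.mem_insert_iff, Set.mem_singleton_iff] at hh
  rcases hh with rfl | rfl | rfl | rfl
  · exact hC.m1
  · exact hC.m2
  · exact hC.mA
  · exact hC.mB

/-- an element conjugating the four generators into `R` normalises `R` -/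
theorem Config4.mem_normalizer [Fintype F] (hC : Config4 R G1 G2 A B i) (y : GL ι F)
    (h1 : y * G1 * y⁻¹ ∈ R) (h2 : y * G2 * y⁻¹ ∈ R) (hA : y * A * y⁻¹ ∈ R)
    (hB : y * B * y⁻¹ ∈ R) : y ∈ Cfsg.Geo.subgroupNormalizer R := by
  have hT : ∀ h ∈ R, y * h * y⁻¹ ∈ R := by
    let T : Subgroup (GL ι F) := R.comap (MulAut.conj y).toMonoidHom
    have hmemT : ∀ h, h ∈ T ↔ y * h * y⁻¹ ∈ R := fun h => Iff.rfl
    have hle : Subgroup.closure ({G1, G2, A, B} : Set (GL ι F)) ≤ T := by
      rw [Subgroup.closure_le]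
      intro h hh
      simp only [Set.mem_insert_iff, Set.mem_singleton_iff] at hh
      rcases hh with rfl | rfl | rfl | rfl
      · exact (hmemT _).2 h1
      · exact (hmemT _).2 h2
      · exact (hmemT _).2 hA
      · exact (hmemT _).2 hB
    intro h hh
    obtain ⟨c, w, ⟨d, hd⟩, hw, rfl⟩ := hC.gen h hh
    have hcR : c ∈ R := by
      have : c = (c * w) * w⁻¹ := by group
      rw [this]
      exact R.mul_mem hh (R.inv_mem (closure_le_R hC hw))
    have hcc : y * c * y⁻¹ = c := by
      have := scalar_central c d hd y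
      calc y * c * y⁻¹ = (c * y * c⁻¹) * c * y⁻¹ := by rw [this]
        _ = c := by group
    have : y * (c * w) * y⁻¹ = (y * c * y⁻¹) * (y * w * y⁻¹) := by group
    rw [this, hcc]
    exact R.mul_mem hcR ((hmemT w).1 (hle hw))
  unfold Cfsg.Geo.subgroupNormalizer
  exact Subgroup.mem_normalizer_fintype hT

/-- a matrix commuting with the four generators commutes with `R` -/
theorem Config4.comm_all (hC : Config4 R G1 G2 A B i) (M : Matrix ι ι F)
    (h1 : M * (G1 : Matrix ι ι F) = (G1 : Matrix ι ι F) * M)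
    (h2 : M * (G2 : Matrix ι ι F) = (G2 : Matrix ι ι F) * M)
    (hA : M * (A : Matrix ι ι F) = (A : Matrix ι ι F) * M)
    (hB : M * (B : Matrix ι ι F) = (B : Matrix ι ι F) * M) :
    ∀ s ∈ Cfsg.Geo.matrixSet R, M * s = s * M := by
  have key : ∀ w ∈ Subgroup.closure ({G1, G2, A, B} : Set (GL ι F)),
      M * (w : Matrix ι ι F) = (w : Matrix ι ι F) * M := by
    intro w hw
    induction hw using Subgroup.closure_induction with
    | mem x hx =>
      simp only [Set.mem_insert_iff, Set.mem_singleton_iff] at hx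
      rcases hx with rfl | rfl | rfl | rfl
      · exact h1
      · exact h2
      · exact hA
      · exact hB
    | one => simp
    | mul x y _ _ hx hy =>
      rw [Units.val_mul, ← mul_assoc, hx, mul_assoc, hy, mul_assoc]
    | inv x _ hx =>
      calc M * ((x⁻¹ : GL ι F) : Matrix ι ι F)
          = ((x⁻¹ : GL ι F) : Matrix ι ι F) * ((x : Matrix ι ι F) * M) *
            ((x⁻¹ : GL ι F) : Matrix ι ι F) := by
            rw [← mul_assoc, Units.inv_mul, one_mul]
        _ = ((x⁻¹ : GL ι F) : Matrix ι ι F) * (M * (x : Matrix ι ι F)) *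
            ((x⁻¹ : GL ι F) : Matrix ι ι F) := by rw [hx]
        _ = ((x⁻¹ : GL ι F) : Matrix ι ι F) * M := by
            rw [mul_assoc, mul_assoc, Units.mul_inv, mul_one]
  rintro s ⟨h, hh, rfl⟩
  obtain ⟨c, w, ⟨d, hd⟩, hw, rfl⟩ := hC.gen h hh
  have hMw := key w hw
  show M * ((c * w : GL ι F) : Matrix ι ι F) = ((c * w : GL ι F) : Matrix ι ι F) * M
  rw [Units.val_mul, hd, Matrix.smul_mul, Matrix.one_mul, Matrix.mul_smul, Matrix.smul_mul, hMw]

theorem Config4.scalar_of_comm (hC : Config4 R G1 G2 A B i)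
    (hRi : Cfsg.Geo.ActsAbsolutelyIrreducibly (Cfsg.Geo.matrixSet R)) (M : Matrix ι ι F)
    (h1 : M * (G1 : Matrix ι ι F) = (G1 : Matrix ι ι F) * M)
    (h2 : M * (G2 : Matrix ι ι F) = (G2 : Matrix ι ι F) * M)
    (hA : M * (A : Matrix ι ι F) = (A : Matrix ι ι F) * M)
    (hB : M * (B : Matrix ι ι F) = (B : Matrix ι ι F) * M) : ∃ d : F, M = d • 1 :=
  hRi.2 M (hC.comm_all M h1 h2 hA hB)

/-- a matrix anticommuting with an invertible matrix has trace zero -/
theorem trace_zero_of_anti (h2 : (2 : F) ≠ 0) (M : Matrix ι ι F) (k : GL ι F)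
    (hanti : M * (k : Matrix ι ι F) = -((k : Matrix ι ι F) * M)) : M.trace = 0 := by
  have h3 : cj k M = -M := by
    rw [cj_eq_iff, neg_mul, hanti, neg_neg]
  have h4 := trace_cj k M
  rw [h3, Matrix.trace_neg] at h4
  have h5 : (2 : F) * M.trace = 0 := by linear_combination -h4
  rcases mul_eq_zero.mp h5 with h6 | h6
  · exact absurd h6 h2
  · exact h6

theorem Config4.trace_nonscalar (h2 : (2 : F) ≠ 0) (hC : Config4 R G1 G2 A B i)
    (hRi : Cfsg.Geo.ActsAbsolutelyIrreducibly (Cfsg.Geo.matrixSet R)) (h : GL ι F)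
    (hh : h ∈ R) (hns : ∀ d : F, (h : Matrix ι ι F) ≠ d • 1) :
    (h : Matrix ι ι F).trace = 0 := by
  have hnc : ¬ ∀ k ∈ R, (h : Matrix ι ι F) * (k : Matrix ι ι F) = k * h := by
    intro hc
    obtain ⟨d, hd⟩ := hRi.2 (h : Matrix ι ι F) (by
      rintro s ⟨k, hk, rfl⟩
      exact hc k hk)
    exact hns d hd
  push Not at hnc
  obtain ⟨k, hk, hne⟩ := hnc
  exact trace_zero_of_anti h2 _ k ((hC.comms h hh k hk).resolve_left hne)

theorem cj_pow_smul (y : GL ι F) (M : Matrix ι ι F) (d : F) (h : cj y M = d • M) (n : ℕ) :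
    cj (y ^ n) M = d ^ n • M := by
  induction n with
  | zero => simp [cj_one_left]
  | succ n ih =>
    rw [pow_succ, cj_comp, h, cj_smul, ih, pow_succ, smul_smul, mul_comm]

/-- an element with an odd scalar power multiplies no unit by a fourth root of unity `≠ 1` -/
theorem scalar_sign_one [Nonempty ι] (y : GL ι F) (n : ℕ) (hn : Odd n) (c : F)
    (hyn : ((y ^ n : GL ι F) : Matrix ι ι F) = c • 1) (h : GL ι F) (d : F) (hd4 : d ^ 4 = 1)
    (hconj : cj y (h : Matrix ι ι F) = d • (h : Matrix ι ι F)) : d = 1 := by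
  have h1 := cj_pow_smul y _ d hconj n
  rw [cj_scalar _ c hyn] at h1
  have h2 : (d ^ n) • (1 : Matrix ι ι F) = (1 : F) • (1 : Matrix ι ι F) := by
    calc (d ^ n) • (1 : Matrix ι ι F)
        = (d ^ n) • ((h : Matrix ι ι F) * ((h⁻¹ : GL ι F) : Matrix ι ι F)) := by
          rw [Units.mul_inv]
      _ = ((d ^ n) • (h : Matrix ι ι F)) * ((h⁻¹ : GL ι F) : Matrix ι ι F) := by
          rw [Matrix.smul_mul]
      _ = (h : Matrix ι ι F) * ((h⁻¹ : GL ι F) : Matrix ι ι F) := by rw [← h1]
      _ = (1 : F) • (1 : Matrix ι ι F) := by rw [Units.mul_inv, one_smul]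
  have h3 : d ^ n = 1 := smul_one_eq_smul_one h2
  rw [pow_eq_pow_mod n hd4] at h3
  obtain ⟨m, rfl⟩ := hn
  have hmod : (2 * m + 1) % 4 = 1 ∨ (2 * m + 1) % 4 = 3 := by omega
  rcases hmod with h' | h'
  · rw [h', pow_one] at h3
    exact h3
  · rw [h'] at h3
    have : d ^ 4 = d ^ 3 * d := by ring
    rw [hd4, h3, one_mul] at this
    exact this.symm

theorem Config4.trace_identity [Fintype F] [Nonempty ι] (h2 : (2 : F) ≠ 0)
    (hC : Config4 R G1 G2 A B i)
    (hRi : Cfsg.Geo.ActsAbsolutelyIrreducibly (Cfsg.Geo.matrixSet R))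
    (hι : Fintype.card ι = 4) (hR6 : Nat.card R = 64)
    (y : GL ι F) (hy : y ∈ Cfsg.Geo.subgroupNormalizer R) (n : ℕ) (hn : Odd n) (c : F)
    (hyn : ((y ^ n : GL ι F) : Matrix ι ι F) = c • 1) :
    (Nat.card (centIn R y) : F) =
      4 * (y : Matrix ι ι F).trace * ((y⁻¹ : GL ι F) : Matrix ι ι F).trace := by
  classical
  haveI : Fintype R := Fintype.ofFinite R
  set Ym : Matrix ι ι F := (y : Matrix ι ι F) with hYm
  set Yi : Matrix ι ι F := ((y⁻¹ : GL ι F) : Matrix ι ι F) with hYi
  set S : Matrix ι ι F := ∑ h : R, cj (h : GL ι F) Ym with hS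
  have hcardR : Fintype.card R = 64 := by rw [← Nat.card_eq_fintype_card]; exact hR6
  have hι' : ((Fintype.card ι : ℕ) : F) = 4 := by rw [hι]; norm_num
  have hSfix : ∀ k : R, cj (k : GL ι F) S = S := by
    intro k
    rw [hS, cj_sum]
    have : ∀ h : R, cj (k : GL ι F) (cj (h : GL ι F) Ym) = cj ((k * h : R) : GL ι F) Ym := by
      intro h
      rw [Subgroup.coe_mul, cj_comp]
    simp_rw [this]
    exact Equiv.sum_comp (Equiv.mulLeft k) (fun h : R => cj (h : GL ι F) Ym)
  have hScomm : ∀ s ∈ Cfsg.Geo.matrixSet R, S * s = s * S := by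
    rintro s ⟨k, hk, rfl⟩
    have := (cj_eq_iff k S S).mp (hSfix ⟨k, hk⟩)
    exact this.symm
  obtain ⟨s, hs⟩ := hRi.2 S hScomm
  have htrS : s * 4 = 64 * Ym.trace := by
    have h1 : S.trace = 64 * Ym.trace := by
      rw [hS, Matrix.trace_sum]
      simp_rw [trace_cj]
      rw [Finset.sum_const, Finset.card_univ, hcardR]
      simp
    have h3 : S.trace = s * 4 := by
      rw [hs, Matrix.trace_smul, Matrix.trace_one, smul_eq_mul, hι']
    rw [← h3, h1]
  have hφmem : ∀ h : R, (h : GL ι F) * y * (h : GL ι F)⁻¹ * y⁻¹ ∈ R := by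
    intro h
    have h1 := conj_mem_of_normalizer y hy _ (R.inv_mem h.2)
    have : (h : GL ι F) * y * (h : GL ι F)⁻¹ * y⁻¹ = (h : GL ι F) * (y * (h : GL ι F)⁻¹ * y⁻¹) := by
      group
    rw [this]
    exact R.mul_mem h.2 h1
  have hφcoe : ∀ h : R, (((h : GL ι F) * y * (h : GL ι F)⁻¹ * y⁻¹ : GL ι F) : Matrix ι ι F) =
      cj (h : GL ι F) Ym * Yi := by
    intro h
    rw [Units.val_mul, ← cj_coe]
  have hsum : ∑ h : R, cj (h : GL ι F) Ym * Yi = s • Yi := by
    rw [← Finset.sum_mul, ← hS, hs, Matrix.smul_mul, Matrix.one_mul]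
  have htr2 : ∑ h : R, (cj (h : GL ι F) Ym * Yi).trace = s * Yi.trace := by
    rw [← Matrix.trace_sum, hsum, Matrix.trace_smul, smul_eq_mul]
  have hYiYm : Yi * Ym = 1 := Units.inv_mul y
  have hYmYi : Ym * Yi = 1 := Units.mul_inv y
  have hterm : ∀ h : R, (cj (h : GL ι F) Ym * Yi).trace =
      if (h : GL ι F) ∈ centIn R y then (4 : F) else 0 := by
    intro h
    by_cases hc : (h : GL ι F) ∈ centIn R y
    · rw [if_pos hc]
      have hcomm := ((mem_centIn R y h).mp hc).2
      have h1 : cj (h : GL ι F) Ym = Ym := by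
        rw [cj_eq_iff, hYm, ← Units.val_mul, ← Units.val_mul, hcomm]
      rw [h1, hYmYi, Matrix.trace_one, hι']
    · rw [if_neg hc]
      rw [← hφcoe]
      apply hC.trace_nonscalar h2 hRi _ (hφmem h)
      intro d hd
      rw [hφcoe] at hd
      -- cj h Ym = d • Ym
      have h3 : cj (h : GL ι F) Ym = d • Ym := by
        calc cj (h : GL ι F) Ym = cj (h : GL ι F) Ym * (Yi * Ym) := by rw [hYiYm, mul_one]
          _ = (cj (h : GL ι F) Ym * Yi) * Ym := by rw [mul_assoc]
          _ = d • Ym := by rw [hd, Matrix.smul_mul, Matrix.one_mul]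
      -- d ^ 4 = 1
      have hd4 : d ^ 4 = 1 := by
        have hsq := hC.sqs _ (hφmem h)
        rw [hφcoe, hd, Matrix.smul_mul, Matrix.mul_smul, Matrix.one_mul, smul_smul] at hsq
        rcases hsq with hsq | hsq
        · have : (d * d) • (1 : Matrix ι ι F) = (1 : F) • (1 : Matrix ι ι F) := by
            rw [hsq, one_smul]
          have := smul_one_eq_smul_one this
          calc d ^ 4 = (d * d) * (d * d) := by ring
            _ = 1 := by rw [this, one_mul]
        · have : (d * d) • (1 : Matrix ι ι F) = (-1 : F) • (1 : Matrix ι ι F) := by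
            rw [hsq, neg_one_smul]
          have := smul_one_eq_smul_one this
          calc d ^ 4 = (d * d) * (d * d) := by ring
            _ = 1 := by rw [this]; ring
      -- conjugation of h by y
      have hd0 : d ≠ 0 := by
        intro h0
        rw [h0] at hd4
        simp at hd4
      have h4 : cj y ((h : GL ι F) : Matrix ι ι F) = d⁻¹ • ((h : GL ι F) : Matrix ι ι F) := by
        rw [cj_eq_iff]
        rw [cj_eq_iff] at h3
        -- h3 : h * Ym = (d • Ym) * h
        rw [Matrix.smul_mul] at h3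
        rw [Matrix.smul_mul, h3, smul_smul, inv_mul_cancel₀ hd0, one_smul]
      have hdi4 : d⁻¹ ^ 4 = 1 := by rw [inv_pow, hd4, inv_one]
      have hdi := scalar_sign_one y n hn c hyn h d⁻¹ hdi4 h4
      have hd1 : d = 1 := by
        have := congrArg (fun t => t⁻¹) hdi
        simpa using this
      apply hc
      rw [mem_centIn]
      refine ⟨h.2, ?_⟩
      rw [hd1, one_smul, cj_eq_iff] at h3
      apply Units.ext
      rw [Units.val_mul, Units.val_mul]
      exact h3.symm
  have hcount : ∑ h : R, (if (h : GL ι F) ∈ centIn R y then (4 : F) else 0) =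
      4 * (Nat.card (centIn R y) : F) := by
    rw [Finset.sum_ite, Finset.sum_const, Finset.sum_const_zero, add_zero, nsmul_eq_mul, mul_comm]
    congr 2
    rw [← Nat.card_eq_finsetCard]
    apply Nat.card_congr
    refine ⟨fun h => ⟨h.1.1, by have := h.2; rw [Finset.mem_filter] at this; exact this.2⟩,
      fun h => ⟨⟨h.1, ((mem_centIn R y h.1).mp h.2).1⟩, by
        rw [Finset.mem_filter]; exact ⟨Finset.mem_univ _, h.2⟩⟩, ?_, ?_⟩
    · intro h; rfl
    · intro h; rfl
  have h7 : 4 * (Nat.card (centIn R y) : F) = s * Yi.trace := by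
    rw [← hcount, ← htr2]
    exact (Finset.sum_congr rfl (fun h _ => hterm h)).symm
  have h16 : (16 : F) ≠ 0 := by
    have : (16 : F) = 2 * 2 * 2 * 2 := by norm_num
    rw [this]
    exact mul_ne_zero (mul_ne_zero (mul_ne_zero h2 h2) h2) h2
  have h8 : (16 : F) * (Nat.card (centIn R y) : F) = 16 * (4 * Ym.trace * Yi.trace) := by
    linear_combination 4 * h7 + Yi.trace * htrS
  exact mul_left_cancel₀ h16 h8

end Cfsg.Agent.Lib.Helper9.C6L4
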