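import Mathlib

set_option autoImplicit false

/-! Ring-level identities for the reflection `(1 + a + b - ab)/2` and the element
`(-1 + P + Q + PQ)/2` of order three. -/

namespace Cfsg.Agent.Lib.Helper9.C6L4

section Refl

variable {M : Type*} [Ring M] {a b k : M}

theorem refl_sq (haa : a * a = 1) (hbb : b * b = 1) (hba : b * a = a * b) :
    (1 + a + b - a * b) * (1 + a + b - a * b) = 1 + 1 + 1 + 1 := by
  have haa' : ∀ r : M, a * (a * r) = r := fun r => by rw [← mul_assoc, haa, one_mul]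
  have hbb' : ∀ r : M, b * (b * r) = r := fun r => by rw [← mul_assoc, hbb, one_mul]
  have hba' : ∀ r : M, b * (a * r) = a * (b * r) := fun r => by
    rw [← mul_assoc, hba, mul_assoc]
  simp only [mul_add, add_mul, mul_sub, sub_mul, mul_one, one_mul, mul_assoc, haa, hbb, hba,
    haa', hbb', hba']
  abel

theorem refl_comm (hka : k * a = a * k) (hkb : k * b = b * k) :
    (1 + a + b - a * b) * k = k * (1 + a + b - a * b) := by
  have hka' : ∀ r : M, k * (a * r) = a * (k * r) := fun r => by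
    rw [← mul_assoc, hka, mul_assoc]
  have hkb' : ∀ r : M, k * (b * r) = b * (k * r) := fun r => by
    rw [← mul_assoc, hkb, mul_assoc]
  simp only [mul_add, add_mul, mul_sub, sub_mul, mul_one, one_mul, mul_assoc, hka, hkb, hka', hkb']

theorem refl_anti_a (hbb : b * b = 1) (hba : b * a = a * b)
    (hka : k * a = -(a * k)) (hkb : k * b = b * k) :
    (1 + a + b - a * b) * k = k * b * (1 + a + b - a * b) := by
  have hbb' : ∀ r : M, b * (b * r) = r := fun r => by rw [← mul_assoc, hbb, one_mul]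
  have hba' : ∀ r : M, b * (a * r) = a * (b * r) := fun r => by
    rw [← mul_assoc, hba, mul_assoc]
  have hka' : ∀ r : M, k * (a * r) = -(a * (k * r)) := fun r => by
    rw [← mul_assoc, hka, neg_mul, mul_assoc]
  have hkb' : ∀ r : M, k * (b * r) = b * (k * r) := fun r => by
    rw [← mul_assoc, hkb, mul_assoc]
  simp only [mul_add, add_mul, mul_sub, sub_mul, mul_one, one_mul, mul_assoc, hbb, hba, hka, hkb,
    hbb', hba', hka', hkb', mul_neg, neg_mul, neg_neg, sub_neg_eq_add]
  abel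

theorem refl_anti_b (haa : a * a = 1) (hba : b * a = a * b)
    (hka : k * a = a * k) (hkb : k * b = -(b * k)) :
    (1 + a + b - a * b) * k = k * a * (1 + a + b - a * b) := by
  have haa' : ∀ r : M, a * (a * r) = r := fun r => by rw [← mul_assoc, haa, one_mul]
  have hba' : ∀ r : M, b * (a * r) = a * (b * r) := fun r => by
    rw [← mul_assoc, hba, mul_assoc]
  have hka' : ∀ r : M, k * (a * r) = a * (k * r) := fun r => by
    rw [← mul_assoc, hka, mul_assoc]
  have hkb' : ∀ r : M, k * (b * r) = -(b * (k * r)) := fun r => by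
    rw [← mul_assoc, hkb, neg_mul, mul_assoc]
  simp only [mul_add, add_mul, mul_sub, sub_mul, mul_one, one_mul, mul_assoc, haa, hba, hka, hkb,
    haa', hba', hka', hkb', mul_neg, neg_mul, neg_neg, sub_neg_eq_add]
  abel

end Refl

section Omega

variable {M : Type*} [Ring M] {P Q k : M}

/-- `U = -1 + P + Q + PQ`, `U' = -1 - P - Q - PQ` -/
theorem omega_mul_inv (hPP : P * P = -1) (hQQ : Q * Q = -1) (hQP : Q * P = -(P * Q)) :
    (-1 + P + Q + P * Q) * (-1 - P - Q - P * Q) = 1 + 1 + 1 + 1 := by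
  have hPP' : ∀ r : M, P * (P * r) = -r := fun r => by rw [← mul_assoc, hPP, neg_mul, one_mul]
  have hQQ' : ∀ r : M, Q * (Q * r) = -r := fun r => by rw [← mul_assoc, hQQ, neg_mul, one_mul]
  have hQP' : ∀ r : M, Q * (P * r) = -(P * (Q * r)) := fun r => by
    rw [← mul_assoc, hQP, neg_mul, mul_assoc]
  simp only [mul_add, add_mul, mul_sub, sub_mul, mul_one, one_mul, mul_assoc, hPP, hQQ, hQP,
    hPP', hQQ', hQP', mul_neg, neg_mul, neg_neg, sub_neg_eq_add]
  abel

theorem omega_inv_mul (hPP : P * P = -1) (hQQ : Q * Q = -1) (hQP : Q * P = -(P * Q)) :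
    (-1 - P - Q - P * Q) * (-1 + P + Q + P * Q) = 1 + 1 + 1 + 1 := by
  have hPP' : ∀ r : M, P * (P * r) = -r := fun r => by rw [← mul_assoc, hPP, neg_mul, one_mul]
  have hQQ' : ∀ r : M, Q * (Q * r) = -r := fun r => by rw [← mul_assoc, hQQ, neg_mul, one_mul]
  have hQP' : ∀ r : M, Q * (P * r) = -(P * (Q * r)) := fun r => by
    rw [← mul_assoc, hQP, neg_mul, mul_assoc]
  simp only [mul_add, add_mul, mul_sub, sub_mul, mul_one, one_mul, mul_assoc, hPP, hQQ, hQP,
    hPP', hQQ', hQP', mul_neg, neg_mul, neg_neg, sub_neg_eq_add]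
  abel

theorem omega_sq (hPP : P * P = -1) (hQQ : Q * Q = -1) (hQP : Q * P = -(P * Q)) :
    (-1 + P + Q + P * Q) * (-1 + P + Q + P * Q) =
      (-1 - P - Q - P * Q) + (-1 - P - Q - P * Q) := by
  have hPP' : ∀ r : M, P * (P * r) = -r := fun r => by rw [← mul_assoc, hPP, neg_mul, one_mul]
  have hQQ' : ∀ r : M, Q * (Q * r) = -r := fun r => by rw [← mul_assoc, hQQ, neg_mul, one_mul]
  have hQP' : ∀ r : M, Q * (P * r) = -(P * (Q * r)) := fun r => by
    rw [← mul_assoc, hQP, neg_mul, mul_assoc]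
  simp only [mul_add, add_mul, mul_sub, sub_mul, mul_one, one_mul, mul_assoc, hPP, hQQ, hQP,
    hPP', hQQ', hQP', mul_neg, neg_mul, neg_neg, sub_neg_eq_add]
  abel

theorem omega_conj_P (hPP : P * P = -1) (hQQ : Q * Q = -1) (hQP : Q * P = -(P * Q)) :
    (-1 + P + Q + P * Q) * P = (P * Q) * (-1 + P + Q + P * Q) := by
  have hPP' : ∀ r : M, P * (P * r) = -r := fun r => by rw [← mul_assoc, hPP, neg_mul, one_mul]
  have hQQ' : ∀ r : M, Q * (Q * r) = -r := fun r => by rw [← mul_assoc, hQQ, neg_mul, one_mul]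
  have hQP' : ∀ r : M, Q * (P * r) = -(P * (Q * r)) := fun r => by
    rw [← mul_assoc, hQP, neg_mul, mul_assoc]
  simp only [mul_add, add_mul, mul_sub, sub_mul, mul_one, one_mul, mul_assoc, hPP, hQQ, hQP,
    hPP', hQQ', hQP', mul_neg, neg_mul, neg_neg, sub_neg_eq_add]
  abel

theorem omega_conj_Q (hPP : P * P = -1) (hQQ : Q * Q = -1) (hQP : Q * P = -(P * Q)) :
    (-1 + P + Q + P * Q) * Q = P * (-1 + P + Q + P * Q) := by
  have hPP' : ∀ r : M, P * (P * r) = -r := fun r => by rw [← mul_assoc, hPP, neg_mul, one_mul]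
  have hQQ' : ∀ r : M, Q * (Q * r) = -r := fun r => by rw [← mul_assoc, hQQ, neg_mul, one_mul]
  have hQP' : ∀ r : M, Q * (P * r) = -(P * (Q * r)) := fun r => by
    rw [← mul_assoc, hQP, neg_mul, mul_assoc]
  simp only [mul_add, add_mul, mul_sub, sub_mul, mul_one, one_mul, mul_assoc, hPP, hQQ, hQP,
    hPP', hQQ', hQP', mul_neg, neg_mul, neg_neg, sub_neg_eq_add]
  abel

theorem omega_comm (hkP : k * P = P * k) (hkQ : k * Q = Q * k) :
    (-1 + P + Q + P * Q) * k = k * (-1 + P + Q + P * Q) := by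
  have hkP' : ∀ r : M, k * (P * r) = P * (k * r) := fun r => by
    rw [← mul_assoc, hkP, mul_assoc]
  have hkQ' : ∀ r : M, k * (Q * r) = Q * (k * r) := fun r => by
    rw [← mul_assoc, hkQ, mul_assoc]
  simp only [mul_add, add_mul, mul_one, one_mul, mul_assoc, hkP, hkQ, hkP', hkQ', mul_neg, neg_mul]

end Omega

end Cfsg.Agent.Lib.Helper9.C6L4
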