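import Mathlib
import Cfsg.Agent.Lib.Helper9.C6L4d
import Cfsg.Agent.Lib.Helper9.C6L4e

set_option autoImplicit false

/-! The reflection and the elements of order three as units. -/

open scoped MatrixGroups

namespace Cfsg.Agent.Lib.Helper9.C6L4

open Cfsg.Agent.Lib.Helper9.C6D4 (cj cj_eq_iff trace_cj cj_coe two_mat)

variable {F : Type*} [Field F] {ι : Type} [Fintype ι] [DecidableEq ι]

theorem four_mat (h2 : (2 : F) ≠ 0) :
    ((2⁻¹ : F) * 2⁻¹) • ((1 : Matrix ι ι F) + 1 + 1 + 1) = 1 := by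
  have : ((1 : Matrix ι ι F) + 1 + 1 + 1) = ((2 : F) * 2) • (1 : Matrix ι ι F) := by
    have h4 : ((2 : F) * 2) = 1 + 1 + 1 + 1 := by norm_num
    rw [h4, add_smul, add_smul, add_smul, one_smul]
  rw [this, smul_smul]
  have : (2⁻¹ : F) * 2⁻¹ * (2 * 2) = 1 := by field_simp
  rw [this, one_smul]

/-- the reflection `(1 + a + b - ab)/2` -/
def reflU (h2 : (2 : F) ≠ 0) (a b : Matrix ι ι F) (haa : a * a = 1) (hbb : b * b = 1)
    (hba : b * a = a * b) : GL ι F :=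
  ⟨(2⁻¹ : F) • (1 + a + b - a * b), (2⁻¹ : F) • (1 + a + b - a * b),
    by rw [Matrix.smul_mul, Matrix.mul_smul, smul_smul, refl_sq haa hbb hba, four_mat h2],
    by rw [Matrix.smul_mul, Matrix.mul_smul, smul_smul, refl_sq haa hbb hba, four_mat h2]⟩

theorem reflU_coe (h2 : (2 : F) ≠ 0) (a b : Matrix ι ι F) (haa : a * a = 1) (hbb : b * b = 1)
    (hba : b * a = a * b) :
    ((reflU h2 a b haa hbb hba : GL ι F) : Matrix ι ι F) = (2⁻¹ : F) • (1 + a + b - a * b) := rfl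

theorem reflU_sq (h2 : (2 : F) ≠ 0) (a b : Matrix ι ι F) (haa : a * a = 1) (hbb : b * b = 1)
    (hba : b * a = a * b) :
    ((reflU h2 a b haa hbb hba : GL ι F) : Matrix ι ι F) *
      ((reflU h2 a b haa hbb hba : GL ι F) : Matrix ι ι F) = 1 := by
  rw [reflU_coe, Matrix.smul_mul, Matrix.mul_smul, smul_smul, refl_sq haa hbb hba, four_mat h2]

theorem cj_of_lin (c : F) (T k X : Matrix ι ι F) (y : GL ι F)
    (hy : (y : Matrix ι ι F) = c • T) (h : T * k = X * T) : cj y k = X := by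
  rw [cj_eq_iff, hy, Matrix.smul_mul, h, Matrix.mul_smul]

theorem cj_reflU_comm (h2 : (2 : F) ≠ 0) (a b : Matrix ι ι F) (haa : a * a = 1) (hbb : b * b = 1)
    (hba : b * a = a * b) (k : Matrix ι ι F) (hka : k * a = a * k) (hkb : k * b = b * k) :
    cj (reflU h2 a b haa hbb hba) k = k :=
  cj_of_lin _ _ _ _ _ (reflU_coe h2 a b haa hbb hba) (refl_comm hka hkb)

theorem cj_reflU_anti_a (h2 : (2 : F) ≠ 0) (a b : Matrix ι ι F) (haa : a * a = 1)
    (hbb : b * b = 1) (hba : b * a = a * b) (k : Matrix ι ι F) (hka : k * a = -(a * k))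
    (hkb : k * b = b * k) : cj (reflU h2 a b haa hbb hba) k = k * b :=
  cj_of_lin _ _ _ _ _ (reflU_coe h2 a b haa hbb hba) (refl_anti_a hbb hba hka hkb)

theorem cj_reflU_anti_b (h2 : (2 : F) ≠ 0) (a b : Matrix ι ι F) (haa : a * a = 1)
    (hbb : b * b = 1) (hba : b * a = a * b) (k : Matrix ι ι F) (hka : k * a = a * k)
    (hkb : k * b = -(b * k)) : cj (reflU h2 a b haa hbb hba) k = k * a :=
  cj_of_lin _ _ _ _ _ (reflU_coe h2 a b haa hbb hba) (refl_anti_b haa hba hka hkb)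

/-- the element `(-1 + P + Q + PQ)/2` of order three -/
def omU (h2 : (2 : F) ≠ 0) (P Q : Matrix ι ι F) (hPP : P * P = -1) (hQQ : Q * Q = -1)
    (hQP : Q * P = -(P * Q)) : GL ι F :=
  ⟨(2⁻¹ : F) • (-1 + P + Q + P * Q), (2⁻¹ : F) • (-1 - P - Q - P * Q),
    by rw [Matrix.smul_mul, Matrix.mul_smul, smul_smul, omega_mul_inv hPP hQQ hQP, four_mat h2],
    by rw [Matrix.smul_mul, Matrix.mul_smul, smul_smul, omega_inv_mul hPP hQQ hQP, four_mat h2]⟩

theorem omU_coe (h2 : (2 : F) ≠ 0) (P Q : Matrix ι ι F) (hPP : P * P = -1) (hQQ : Q * Q = -1)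
    (hQP : Q * P = -(P * Q)) :
    ((omU h2 P Q hPP hQQ hQP : GL ι F) : Matrix ι ι F) = (2⁻¹ : F) • (-1 + P + Q + P * Q) := rfl

theorem omU_pow_three (h2 : (2 : F) ≠ 0) (P Q : Matrix ι ι F) (hPP : P * P = -1)
    (hQQ : Q * Q = -1) (hQP : Q * P = -(P * Q)) : (omU h2 P Q hPP hQQ hQP) ^ 3 = 1 := by
  apply Units.ext
  rw [Units.val_pow_eq_pow_val, omU_coe, Units.val_one]
  rw [show (3 : ℕ) = 1 + 1 + 1 from rfl, pow_succ, pow_succ, pow_one]
  have hU3 : (-1 + P + Q + P * Q) * (-1 + P + Q + P * Q) * (-1 + P + Q + P * Q) =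
      ((2 : F) * 2 * 2) • (1 : Matrix ι ι F) := by
    rw [omega_sq hPP hQQ hQP, add_mul, omega_inv_mul hPP hQQ hQP]
    have h8 : ((2 : F) * 2 * 2) = 1 + 1 + 1 + 1 + (1 + 1 + 1 + 1) := by norm_num
    rw [h8]
    simp only [add_smul, one_smul]
  have hc : (2⁻¹ : F) * 2⁻¹ * 2⁻¹ * (2 * 2 * 2) = 1 := by field_simp
  calc (2⁻¹ : F) • (-1 + P + Q + P * Q) * (2⁻¹ : F) • (-1 + P + Q + P * Q) *
        (2⁻¹ : F) • (-1 + P + Q + P * Q)
      = ((2⁻¹ : F) * 2⁻¹ * 2⁻¹) • ((-1 + P + Q + P * Q) * (-1 + P + Q + P * Q) *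
          (-1 + P + Q + P * Q)) := by
        simp only [Matrix.smul_mul, Matrix.mul_smul, smul_smul, mul_assoc]
    _ = 1 := by rw [hU3, smul_smul, hc, one_smul]

theorem cj_omU_P (h2 : (2 : F) ≠ 0) (P Q : Matrix ι ι F) (hPP : P * P = -1) (hQQ : Q * Q = -1)
    (hQP : Q * P = -(P * Q)) : cj (omU h2 P Q hPP hQQ hQP) P = P * Q :=
  cj_of_lin _ _ _ _ _ (omU_coe h2 P Q hPP hQQ hQP) (omega_conj_P hPP hQQ hQP)

theorem cj_omU_Q (h2 : (2 : F) ≠ 0) (P Q : Matrix ι ι F) (hPP : P * P = -1) (hQQ : Q * Q = -1)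
    (hQP : Q * P = -(P * Q)) : cj (omU h2 P Q hPP hQQ hQP) Q = P :=
  cj_of_lin _ _ _ _ _ (omU_coe h2 P Q hPP hQQ hQP) (omega_conj_Q hPP hQQ hQP)

theorem cj_omU_comm (h2 : (2 : F) ≠ 0) (P Q : Matrix ι ι F) (hPP : P * P = -1) (hQQ : Q * Q = -1)
    (hQP : Q * P = -(P * Q)) (k : Matrix ι ι F) (hkP : k * P = P * k) (hkQ : k * Q = Q * k) :
    cj (omU h2 P Q hPP hQQ hQP) k = k :=
  cj_of_lin _ _ _ _ _ (omU_coe h2 P Q hPP hQQ hQP) (omega_comm hkP hkQ)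

/-- membership of a conjugate from its matrix -/
theorem conj_mem_of_cj (R : Subgroup (GL ι F)) (y k X : GL ι F) (hX : X ∈ R)
    (h : cj y (k : Matrix ι ι F) = (X : Matrix ι ι F)) : y * k * y⁻¹ ∈ R := by
  have : y * k * y⁻¹ = X := by
    apply Units.ext
    rw [← cj_coe]
    exact h
  rw [this]
  exact hX

theorem trace_mul_zero_of (h2 : (2 : F) ≠ 0) (X Y : Matrix ι ι F) (k : GL ι F)
    (hX : X * (k : Matrix ι ι F) = (k : Matrix ι ι F) * X)
    (hY : Y * (k : Matrix ι ι F) = -((k : Matrix ι ι F) * Y)) : (X * Y).trace = 0 := by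
  apply trace_zero_of_anti h2 _ k
  rw [mul_assoc, hY, mul_neg, ← mul_assoc, hX, mul_assoc]

end Cfsg.Agent.Lib.Helper9.C6L4
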