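import Mathlib
import Cfsg.Agent.Lib.Helper9.C6L4f

set_option autoImplicit false

/-! Elements of the normaliser of `R` (order `2^6`): a reflection and elements of order three. -/

open scoped MatrixGroups

namespace Cfsg.Agent.Lib.Helper9.C6L4

open Cfsg.Agent.Lib.Helper9.C6D4 (QD cj cj_eq_iff trace_cj cj_coe cj_mul cj_smul cj_neg)

variable {F : Type*} [Field F] {ι : Type} [Fintype ι] [DecidableEq ι]
  {R : Subgroup (GL ι F)} {G1 G2 A B : GL ι F} {i : F}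

/-- traces of a quaternion pair -/
theorem quat_traces (h2 : (2 : F) ≠ 0) (Pg Qg : GL ι F)
    (hQP : (Qg : Matrix ι ι F) * (Pg : Matrix ι ι F) = -((Pg : Matrix ι ι F) * (Qg : Matrix ι ι F))) :
    (Pg : Matrix ι ι F).trace = 0 ∧ (Qg : Matrix ι ι F).trace = 0 ∧
      ((Pg : Matrix ι ι F) * (Qg : Matrix ι ι F)).trace = 0 := by
  refine ⟨?_, ?_, ?_⟩
  · apply trace_zero_of_anti h2 _ Qg
    rw [hQP, neg_neg]
  · exact trace_zero_of_anti h2 _ Pg hQP
  · apply trace_zero_of_anti h2 _ Pg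
    rw [mul_assoc, hQP, mul_neg]

theorem trace_omU (h2 : (2 : F) ≠ 0) (hι : Fintype.card ι = 4) (Pg Qg : GL ι F)
    (hPP : (Pg : Matrix ι ι F) * (Pg : Matrix ι ι F) = -1)
    (hQQ : (Qg : Matrix ι ι F) * (Qg : Matrix ι ι F) = -1)
    (hQP : (Qg : Matrix ι ι F) * (Pg : Matrix ι ι F) = -((Pg : Matrix ι ι F) * (Qg : Matrix ι ι F))) :
    ((omU h2 (Pg : Matrix ι ι F) (Qg : Matrix ι ι F) hPP hQQ hQP : GL ι F) :
      Matrix ι ι F).trace = -2 := by
  obtain ⟨t1, t2, t3⟩ := quat_traces h2 Pg Qg hQP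
  rw [omU_coe, Matrix.trace_smul, Matrix.trace_add, Matrix.trace_add, Matrix.trace_add,
    Matrix.trace_neg, Matrix.trace_one, t1, t2, t3, hι, smul_eq_mul]
  push_cast
  field_simp
  ring

section Main

variable [Fintype F] [Nonempty ι]

theorem Config4.exists_reflection (h2 : (2 : F) ≠ 0) (hC : Config4 R G1 G2 A B i)
    (hι : Fintype.card ι = 4) :
    ∃ t : GL ι F, t ∈ Cfsg.Geo.subgroupNormalizer R ∧
      (t : Matrix ι ι F) * (t : Matrix ι ι F) = 1 ∧ (t : Matrix ι ι F).trace = 2 := by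
  obtain ⟨I, hIR, hI⟩ := hC.mI
  have hb : ((I * A : GL ι F) : Matrix ι ι F) = i • (A : Matrix ι ι F) := by
    rw [Units.val_mul, hI, Matrix.smul_mul, Matrix.one_mul]
  have hbR : I * A ∈ R := R.mul_mem hIR hC.mA
  have haa : (G1 : Matrix ι ι F) * (G1 : Matrix ι ι F) = 1 := hC.qd.g11
  have hbb : ((I * A : GL ι F) : Matrix ι ι F) * ((I * A : GL ι F) : Matrix ι ι F) = 1 := by
    rw [hb, Matrix.smul_mul, Matrix.mul_smul, smul_smul, hC.ii, hC.qd.aa]
    simp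
  have hba : ((I * A : GL ι F) : Matrix ι ι F) * (G1 : Matrix ι ι F) =
      (G1 : Matrix ι ι F) * ((I * A : GL ι F) : Matrix ι ι F) := by
    rw [hb, Matrix.smul_mul, Matrix.mul_smul, hC.qd.ag1]
  refine ⟨reflU h2 _ _ haa hbb hba, ?_, reflU_sq h2 _ _ haa hbb hba, ?_⟩
  · apply hC.mem_normalizer
    · apply conj_mem_of_cj R _ _ G1 hC.m1
      exact cj_reflU_comm h2 _ _ haa hbb hba _ rfl hba.symm
    · apply conj_mem_of_cj R _ _ (G2 * (I * A)) (R.mul_mem hC.m2 hbR)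
      rw [Units.val_mul G2]
      apply cj_reflU_anti_a h2 _ _ haa hbb hba _ hC.qd.g21
      rw [hb, Matrix.smul_mul, Matrix.mul_smul, hC.qd.ag2]
    · apply conj_mem_of_cj R _ _ A hC.mA
      apply cj_reflU_comm h2 _ _ haa hbb hba _ hC.qd.ag1
      rw [hb, Matrix.smul_mul, Matrix.mul_smul]
    · apply conj_mem_of_cj R _ _ (B * G1) (R.mul_mem hC.mB hC.m1)
      rw [Units.val_mul B]
      apply cj_reflU_anti_b h2 _ _ haa hbb hba _ hC.qd.bg1
      rw [hb, Matrix.smul_mul, Matrix.mul_smul, hC.qd.ba, smul_neg]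
  · have t1 : (G1 : Matrix ι ι F).trace = 0 := by
      apply trace_zero_of_anti h2 _ G2
      rw [hC.qd.g21, neg_neg]
    have tA : (A : Matrix ι ι F).trace = 0 := by
      apply trace_zero_of_anti h2 _ B
      rw [hC.qd.ba, neg_neg]
    have t2 : ((I * A : GL ι F) : Matrix ι ι F).trace = 0 := by
      rw [hb, Matrix.trace_smul, tA, smul_zero]
    have t3 : ((G1 : Matrix ι ι F) * ((I * A : GL ι F) : Matrix ι ι F)).trace = 0 := by
      rw [← hba]
      rw [hb, Matrix.smul_mul, Matrix.trace_smul]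
      have : ((A : Matrix ι ι F) * (G1 : Matrix ι ι F)).trace = 0 := by
        apply trace_mul_zero_of h2 _ _ G2 hC.qd.ag2
        rw [hC.qd.g21, neg_neg]
      rw [this, smul_zero]
    rw [reflU_coe, Matrix.trace_smul, Matrix.trace_sub, Matrix.trace_add, Matrix.trace_add,
      Matrix.trace_one, t1, t2, t3, hι, smul_eq_mul]
    push_cast
    field_simp
    ring

theorem Config4.exists_omega (h2 : (2 : F) ≠ 0) (hC : Config4 R G1 G2 A B i)
    (hι : Fintype.card ι = 4) :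
    ∃ yA yB : GL ι F, yA ∈ Cfsg.Geo.subgroupNormalizer R ∧ yB ∈ Cfsg.Geo.subgroupNormalizer R ∧
      yA ^ 3 = 1 ∧ yB ^ 3 = 1 ∧ (yA : Matrix ι ι F).trace = 1 ∧ (yB : Matrix ι ι F).trace = -2 := by
  obtain ⟨I, hIR, hI⟩ := hC.mI
  obtain ⟨z, hzR, hz⟩ := hC.negone
  -- the second element
  have hPP2 := hC.qd.aa
  have hQQ2 := hC.qd.bb
  have hQP2 := hC.qd.ba
  set w2 := omU h2 (A : Matrix ι ι F) (B : Matrix ι ι F) hPP2 hQQ2 hQP2 with hw2
  have hw2N : w2 ∈ Cfsg.Geo.subgroupNormalizer R := by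
    apply hC.mem_normalizer
    · apply conj_mem_of_cj R _ _ G1 hC.m1
      exact cj_omU_comm h2 _ _ hPP2 hQQ2 hQP2 _ hC.qd.ag1.symm hC.qd.bg1.symm
    · apply conj_mem_of_cj R _ _ G2 hC.m2
      exact cj_omU_comm h2 _ _ hPP2 hQQ2 hQP2 _ hC.qd.ag2.symm hC.qd.bg2.symm
    · apply conj_mem_of_cj R _ _ (A * B) (R.mul_mem hC.mA hC.mB)
      rw [Units.val_mul A]
      exact cj_omU_P h2 _ _ hPP2 hQQ2 hQP2
    · apply conj_mem_of_cj R _ _ A hC.mA
      exact cj_omU_Q h2 _ _ hPP2 hQQ2 hQP2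
  -- the first element
  have hP : ((G1 * G2 : GL ι F) : Matrix ι ι F) = (G1 : Matrix ι ι F) * (G2 : Matrix ι ι F) :=
    Units.val_mul _ _
  have hQ : ((I * G1 : GL ι F) : Matrix ι ι F) = i • (G1 : Matrix ι ι F) := by
    rw [Units.val_mul, hI, Matrix.smul_mul, Matrix.one_mul]
  have hPP1 : ((G1 * G2 : GL ι F) : Matrix ι ι F) * ((G1 * G2 : GL ι F) : Matrix ι ι F) = -1 := by
    rw [hP]
    exact hC.qd.I_sq
  have hQQ1 : ((I * G1 : GL ι F) : Matrix ι ι F) * ((I * G1 : GL ι F) : Matrix ι ι F) = -1 := by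
    rw [hQ, Matrix.smul_mul, Matrix.mul_smul, smul_smul, hC.ii, hC.qd.g11]
    simp
  have hQP1 : ((I * G1 : GL ι F) : Matrix ι ι F) * ((G1 * G2 : GL ι F) : Matrix ι ι F) =
      -(((G1 * G2 : GL ι F) : Matrix ι ι F) * ((I * G1 : GL ι F) : Matrix ι ι F)) := by
    rw [hP, hQ, Matrix.smul_mul, Matrix.mul_smul, ← mul_assoc, hC.qd.g11, one_mul,
      mul_assoc, hC.qd.g21, mul_neg, ← mul_assoc, hC.qd.g11, one_mul, smul_neg, neg_neg]
  set w1 := omU h2 ((G1 * G2 : GL ι F) : Matrix ι ι F) ((I * G1 : GL ι F) : Matrix ι ι F)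
    hPP1 hQQ1 hQP1 with hw1
  have hAP : (A : Matrix ι ι F) * ((G1 * G2 : GL ι F) : Matrix ι ι F) =
      ((G1 * G2 : GL ι F) : Matrix ι ι F) * (A : Matrix ι ι F) := by
    rw [hP, ← mul_assoc, hC.qd.ag1, mul_assoc, hC.qd.ag2, mul_assoc]
  have hAQ : (A : Matrix ι ι F) * ((I * G1 : GL ι F) : Matrix ι ι F) =
      ((I * G1 : GL ι F) : Matrix ι ι F) * (A : Matrix ι ι F) := by
    rw [hQ, Matrix.smul_mul, Matrix.mul_smul, hC.qd.ag1]
  have hBP : (B : Matrix ι ι F) * ((G1 * G2 : GL ι F) : Matrix ι ι F) =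
      ((G1 * G2 : GL ι F) : Matrix ι ι F) * (B : Matrix ι ι F) := by
    rw [hP, ← mul_assoc, hC.qd.bg1, mul_assoc, hC.qd.bg2, mul_assoc]
  have hBQ : (B : Matrix ι ι F) * ((I * G1 : GL ι F) : Matrix ι ι F) =
      ((I * G1 : GL ι F) : Matrix ι ι F) * (B : Matrix ι ι F) := by
    rw [hQ, Matrix.smul_mul, Matrix.mul_smul, hC.qd.bg1]
  have hzI : ((z * I : GL ι F) : Matrix ι ι F) = (-i) • (1 : Matrix ι ι F) := by
    rw [Units.val_mul, hz, hI]
    simp
  -- images of the generators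
  have c1 : cj w1 (G1 : Matrix ι ι F) = ((z * I * (G1 * G2) : GL ι F) : Matrix ι ι F) := by
    have hG1 : (G1 : Matrix ι ι F) = (-i) • ((I * G1 : GL ι F) : Matrix ι ι F) := by
      rw [hQ, smul_smul]
      have : -i * i = 1 := by linear_combination -hC.ii
      rw [this, one_smul]
    rw [hG1, cj_smul, cj_omU_Q h2 _ _ hPP1 hQQ1 hQP1, Units.val_mul (z * I), hzI,
      Matrix.smul_mul, Matrix.one_mul]
  have c2 : cj w1 (G2 : Matrix ι ι F) = ((z * G1 : GL ι F) : Matrix ι ι F) := by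
    have hG2 : (G2 : Matrix ι ι F) = (G1 : Matrix ι ι F) * ((G1 * G2 : GL ι F) : Matrix ι ι F) := by
      rw [hP, ← mul_assoc, hC.qd.g11, one_mul]
    rw [hG2, cj_mul, c1, cj_omU_P h2 _ _ hPP1 hQQ1 hQP1, Units.val_mul (z * I), hzI,
      Matrix.smul_mul, Matrix.one_mul, Matrix.smul_mul, ← mul_assoc, hPP1, neg_mul, one_mul,
      hQ, smul_neg, smul_smul, Units.val_mul, hz]
    have : -i * i = 1 := by linear_combination -hC.ii
    rw [this, one_smul, neg_one_mul]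
  have hw1N : w1 ∈ Cfsg.Geo.subgroupNormalizer R := by
    apply hC.mem_normalizer
    · exact conj_mem_of_cj R _ _ _ (R.mul_mem (R.mul_mem hzR hIR) (R.mul_mem hC.m1 hC.m2)) c1
    · exact conj_mem_of_cj R _ _ _ (R.mul_mem hzR hC.m1) c2
    · apply conj_mem_of_cj R _ _ A hC.mA
      exact cj_omU_comm h2 _ _ hPP1 hQQ1 hQP1 _ hAP hAQ
    · apply conj_mem_of_cj R _ _ B hC.mB
      exact cj_omU_comm h2 _ _ hPP1 hQQ1 hQP1 _ hBP hBQ
  -- commutation of the two elements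
  set U1 : Matrix ι ι F := -1 + ((G1 * G2 : GL ι F) : Matrix ι ι F) +
    ((I * G1 : GL ι F) : Matrix ι ι F) +
    ((G1 * G2 : GL ι F) : Matrix ι ι F) * ((I * G1 : GL ι F) : Matrix ι ι F) with hU1
  set U2 : Matrix ι ι F := -1 + (A : Matrix ι ι F) + (B : Matrix ι ι F) +
    (A : Matrix ι ι F) * (B : Matrix ι ι F) with hU2
  have hU1A : U1 * (A : Matrix ι ι F) = (A : Matrix ι ι F) * U1 := omega_comm hAP hAQ
  have hU1B : U1 * (B : Matrix ι ι F) = (B : Matrix ι ι F) * U1 := omega_comm hBP hBQ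
  have hU21 : U2 * U1 = U1 * U2 := omega_comm hU1A hU1B
  have hw1v : (w1 : Matrix ι ι F) = (2⁻¹ : F) • U1 := rfl
  have hw2v : (w2 : Matrix ι ι F) = (2⁻¹ : F) • U2 := rfl
  have hcomm : Commute w1 w2 := by
    apply Units.ext
    rw [Units.val_mul, Units.val_mul, hw1v, hw2v, Matrix.smul_mul, Matrix.mul_smul,
      Matrix.smul_mul, Matrix.mul_smul, hU21]
  refine ⟨w1 * w2, w2, (Cfsg.Geo.subgroupNormalizer R).mul_mem hw1N hw2N, hw2N, ?_,
    omU_pow_three h2 _ _ hPP2 hQQ2 hQP2, ?_, trace_omU h2 hι A B hPP2 hQQ2 hQP2⟩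
  · rw [hcomm.mul_pow, omU_pow_three h2 _ _ hPP1 hQQ1 hQP1, omU_pow_three h2 _ _ hPP2 hQQ2 hQP2,
      one_mul]
  · -- trace of the product
    obtain ⟨p1, p2, p3⟩ := quat_traces h2 (G1 * G2) (I * G1) hQP1
    have tU1 : U1.trace = -4 := by
      rw [hU1, Matrix.trace_add, Matrix.trace_add, Matrix.trace_add, Matrix.trace_neg,
        Matrix.trace_one, p1, p2, p3, hι]
      push_cast
      ring
    have e1 : (U1 * (A : Matrix ι ι F)).trace = 0 := by
      apply trace_mul_zero_of h2 _ _ B hU1B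
      rw [hC.qd.ba, neg_neg]
    have e2 : (U1 * (B : Matrix ι ι F)).trace = 0 :=
      trace_mul_zero_of h2 _ _ A hU1A hC.qd.ba
    have e3 : (U1 * ((A : Matrix ι ι F) * (B : Matrix ι ι F))).trace = 0 := by
      apply trace_mul_zero_of h2 _ _ A hU1A
      rw [mul_assoc, hC.qd.ba, mul_neg]
    have tU12 : (U1 * U2).trace = 4 := by
      rw [hU2, mul_add, mul_add, mul_add, Matrix.trace_add, Matrix.trace_add, Matrix.trace_add,
        e1, e2, e3, mul_neg, mul_one, Matrix.trace_neg, tU1]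
      ring
    rw [Units.val_mul, hw1v, hw2v, Matrix.smul_mul, Matrix.mul_smul, smul_smul, Matrix.trace_smul,
      tU12, smul_eq_mul]
    field_simp
    ring

end Main

end Cfsg.Agent.Lib.Helper9.C6L4
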