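import Mathlib
import Cfsg.Agent.Lib.Helper9.C6L4g

set_option autoImplicit false

/-! Elements of large prime order normalising `R` (order `2^6`) are scalar. -/

open scoped MatrixGroups

namespace Cfsg.Agent.Lib.Helper9.C6L4

open Cfsg.Agent.Lib.Helper9.C6D4 (QD cj cj_eq_iff one_ne_neg_one_mat smul_one_eq_smul_one
  centIn mem_centIn centIn_le card_centIn_modEq scalar_central conj_mem_of_normalizer)

/-- halving, relative version -/
theorem card_half_rel {G : Type*} [Group G] (H : Subgroup G) [Finite H] (z t a : G)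
    (hz1 : z ≠ 1) (hzz : z * z = 1) (hzc : ∀ g : G, g * z = z * g)
    (hcomm : ∀ b ∈ H, b * t = t * b ∨ b * t = z * (t * b)) (ha : a ∈ H) (hat : a * t ≠ t * a) :
    Nat.card H = 2 * Nat.card (H ⊓ Subgroup.centralizer {t} : Subgroup G) := by
  have hAC : a * t = z * (t * a) := (hcomm a ha).resolve_left hat
  have hmem : ∀ g : G, g ∈ (H ⊓ Subgroup.centralizer {t} : Subgroup G) ↔ g ∈ H ∧ t * g = g * t := by
    intro g
    rw [Subgroup.mem_inf, Subgroup.mem_centralizer_iff]
    simp
  have hidx : ((H ⊓ Subgroup.centralizer {t} : Subgroup G).subgroupOf H).index = 2 := by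
    rw [Subgroup.index_eq_two_iff]
    refine ⟨⟨a, ha⟩, ?_⟩
    intro b
    rw [Subgroup.mem_subgroupOf, Subgroup.mem_subgroupOf, hmem, hmem]
    have hbH : (b : G) ∈ H := b.2
    have hbaH : ((b * ⟨a, ha⟩ : H) : G) ∈ H := (b * ⟨a, ha⟩).2
    have hcoe : ((b * ⟨a, ha⟩ : H) : G) = (b : G) * a := rfl
    rcases hcomm (b : G) hbH with hb | hb
    · right
      refine ⟨⟨hbH, hb.symm⟩, ?_⟩
      rintro ⟨_, hc⟩
      rw [hcoe] at hc
      apply hat
      have : (b : G) * (t * a) = (b : G) * (a * t) := by
        calc (b : G) * (t * a) = ((b : G) * t) * a := by group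
          _ = (t * (b : G)) * a := by rw [hb]
          _ = t * ((b : G) * a) := by group
          _ = (b : G) * a * t := hc
          _ = (b : G) * (a * t) := by group
      exact (mul_left_cancel this).symm
    · left
      refine ⟨⟨hbaH, ?_⟩, ?_⟩
      · rw [hcoe]
        symm
        calc (b : G) * a * t = (b : G) * (a * t) := by group
          _ = (b : G) * (z * (t * a)) := by rw [hAC]
          _ = ((b : G) * z) * (t * a) := by group
          _ = (z * (b : G)) * (t * a) := by rw [hzc]
          _ = z * ((b : G) * t) * a := by group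
          _ = z * (z * (t * (b : G))) * a := by rw [hb]
          _ = (z * z) * (t * ((b : G) * a)) := by group
          _ = t * ((b : G) * a) := by rw [hzz, one_mul]
      · rintro ⟨_, hc⟩
        rw [← hc] at hb
        apply hz1
        have : z * (t * (b : G)) = 1 * (t * (b : G)) := by rw [one_mul]; exact hb.symm
        exact mul_right_cancel this
  have h1 := Subgroup.card_mul_index ((H ⊓ Subgroup.centralizer {t} : Subgroup G).subgroupOf H)
  rw [hidx] at h1
  have h2 : Nat.card ((H ⊓ Subgroup.centralizer {t} : Subgroup G).subgroupOf H) =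
      Nat.card (H ⊓ Subgroup.centralizer {t} : Subgroup G) :=
    Nat.card_congr (Subgroup.subgroupOfEquivOfLe (inf_le_left)).toEquiv
  rw [h2] at h1
  omega

variable {F : Type*} [Field F] {ι : Type} [Fintype ι] [DecidableEq ι]
  {R : Subgroup (GL ι F)} {G1 G2 A B : GL ι F} {i : F}

theorem scal_pow (c : F) (n : ℕ) :
    (c • (1 : Matrix ι ι F)) ^ n = c ^ n • (1 : Matrix ι ι F) := by
  rw [smul_pow, one_pow]

theorem comm_of_scalar (I : GL ι F) (c : F) (hI : (I : Matrix ι ι F) = c • 1) (g : GL ι F) :
    g * I = I * g := by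
  have := scalar_central I c hI g
  calc g * I = (I * g * I⁻¹) * I := by rw [this]
    _ = I * g := by group

theorem orderOf_I [Nonempty ι] (h2 : (2 : F) ≠ 0) (I : GL ι F) (hI : (I : Matrix ι ι F) = i • 1)
    (hii : i * i = -1) : orderOf I = 4 := by
  have hne := one_ne_neg_one_mat (ι := ι) h2
  have := orderOf_eq_prime_pow (p := 2) (n := 1) (x := I) ?_ ?_
  · rw [this]
    norm_num
  · intro h
    have h' := congrArg (fun u : GL ι F => (u : Matrix ι ι F)) h
    simp only [Units.val_pow_eq_pow_val, hI, Units.val_one] at h'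
    rw [scal_pow] at h'
    have : i ^ 2 ^ 1 = -1 := by rw [pow_one, pow_two, hii]
    rw [this, neg_one_smul] at h'
    exact hne h'.symm
  · apply Units.ext
    rw [Units.val_pow_eq_pow_val, hI, Units.val_one, scal_pow]
    have : i ^ 2 ^ (1 + 1) = 1 := by
      calc i ^ 2 ^ (1 + 1) = (i * i) * (i * i) := by ring
        _ = 1 := by rw [hii]; ring
    rw [this, one_smul]

section Main

variable [Fintype F] [Nonempty ι]

theorem Config4.seven_case (h2 : (2 : F) ≠ 0) (hC : Config4 R G1 G2 A B i)
    (hR6 : Nat.card R = 64) (hRZ : Nat.card (Subgroup.center R) = 4)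
    (y : GL ι F) (hy : y ∈ Cfsg.Geo.subgroupNormalizer R) (c : F)
    (hy7 : ((y ^ 7 : GL ι F) : Matrix ι ι F) = c • 1)
    (h8 : Nat.card (centIn R y) = 8) : False := by
  classical
  haveI : Fact (Nat.Prime 7) := ⟨by norm_num⟩
  have hne := one_ne_neg_one_mat (ι := ι) h2
  obtain ⟨I, hIR, hI⟩ := hC.mI
  obtain ⟨z, hzR, hz⟩ := hC.negone
  have hIc := comm_of_scalar I i hI
  have hzc : ∀ g : GL ι F, g * z = z * g := comm_of_scalar z (-1) (by rw [hz, neg_one_smul])
  have hz1 : z ≠ 1 := by
    intro h
    rw [h, Units.val_one] at hz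
    exact hne hz
  have hzz : z * z = 1 := by
    apply Units.ext
    rw [Units.val_mul, hz, Units.val_one]
    simp
  -- a non-central element of the centraliser
  obtain ⟨v, hvC, k, hkR, hvk⟩ : ∃ v ∈ centIn R y, ∃ k ∈ R, v * k ≠ k * v := by
    by_contra hcon
    push Not at hcon
    have hvR : ∀ v : centIn R y, (v : GL ι F) ∈ R := fun v => ((mem_centIn R y v).1 v.2).1
    let f : centIn R y → Subgroup.center R := fun v =>
      ⟨⟨(v : GL ι F), hvR v⟩, by
        rw [Subgroup.mem_center_iff]
        intro g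
        apply Subtype.ext
        rw [Subgroup.coe_mul, Subgroup.coe_mul]
        exact (hcon v v.2 g g.2).symm⟩
    have hf : Function.Injective f := by
      intro v w hvw
      apply Subtype.ext
      have := congrArg (fun t : Subgroup.center R => ((t : R) : GL ι F)) hvw
      exact this
    have := Nat.card_le_card_of_injective f hf
    omega
  have hvR : v ∈ R := ((mem_centIn R y v).1 hvC).1
  have hyv : y * v = v * y := ((mem_centIn R y v).1 hvC).2
  -- the centraliser of `v`
  have hcomm : ∀ b ∈ R, b * v = v * b ∨ b * v = z * (v * b) := by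
    intro b hb
    rcases hC.comms b hb v hvR with h | h
    · left
      apply Units.ext
      rw [Units.val_mul, Units.val_mul]
      exact h
    · right
      apply Units.ext
      rw [Units.val_mul, Units.val_mul, Units.val_mul, hz, neg_one_mul]
      exact h
  have hhalf := card_half_rel R z v k hz1 hzz hzc hcomm hkR (fun h => hvk h.symm)
  have hD32 : Nat.card (centIn R v) = 32 := by
    unfold centIn
    omega
  -- `y` normalises the centraliser of `v`
  have hyD : y ∈ Cfsg.Geo.subgroupNormalizer (centIn R v) := by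
    unfold Cfsg.Geo.subgroupNormalizer
    apply Subgroup.mem_normalizer_fintype
    intro h hh
    have hh' := (mem_centIn R v h).1 hh
    have : y * h * y⁻¹ ∈ centIn R v := by
      rw [mem_centIn]
      refine ⟨conj_mem_of_normalizer y hy h hh'.1, ?_⟩
      have hyv' : v * y⁻¹ = y⁻¹ * v := by
        calc v * y⁻¹ = y⁻¹ * (y * v) * y⁻¹ := by group
          _ = y⁻¹ * (v * y) * y⁻¹ := by rw [hyv]
          _ = y⁻¹ * v := by group
      calc v * (y * h * y⁻¹) = (v * y) * h * y⁻¹ := by group
        _ = (y * v) * h * y⁻¹ := by rw [hyv]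
        _ = y * (v * h) * y⁻¹ := by group
        _ = y * (h * v) * y⁻¹ := by rw [hh'.2]
        _ = y * h * (v * y⁻¹) := by group
        _ = y * h * (y⁻¹ * v) := by rw [hyv']
        _ = y * h * y⁻¹ * v := by group
    exact this
  have hmod := card_centIn_modEq (centIn R v) y hyD 7 c hy7
  rw [hD32] at hmod
  -- the centraliser of `y` in it
  have hle : centIn (centIn R v) y ≤ centIn R y := by
    intro h hh
    have h1 := (mem_centIn _ y h).1 hh
    rw [mem_centIn]
    exact ⟨((mem_centIn R v h).1 h1.1).1, h1.2⟩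
  have hdvd : Nat.card (centIn (centIn R v) y) ∣ 8 := by
    rw [← h8]
    exact Subgroup.card_dvd_of_le hle
  have hIC' : I ∈ centIn (centIn R v) y := by
    rw [mem_centIn, mem_centIn]
    exact ⟨⟨hIR, hIc v⟩, hIc y⟩
  have hord := orderOf_I h2 I hI hC.ii
  have hzp : Subgroup.zpowers I ≤ centIn (centIn R v) y := by
    rw [Subgroup.zpowers_le]
    exact hIC'
  have hzpc : Nat.card (Subgroup.zpowers I) = 4 := by rw [Nat.card_zpowers, hord]
  have hc4 : Nat.card (centIn (centIn R v) y) = 4 := by
    have h4 : 4 ∣ Nat.card (centIn (centIn R v) y) := by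
      rw [← hzpc]
      exact Subgroup.card_dvd_of_le hzp
    obtain ⟨j, hj, hcard⟩ := (Nat.dvd_prime_pow Nat.prime_two).mp
      (show Nat.card (centIn (centIn R v) y) ∣ 2 ^ 3 by
        rw [show (2 : ℕ) ^ 3 = 8 from rfl]; exact hdvd)
    unfold Nat.ModEq at hmod
    rw [hcard] at hmod h4 ⊢
    interval_cases j <;> omega
  have heq : Subgroup.zpowers I = centIn (centIn R v) y :=
    Subgroup.eq_of_le_of_card_ge hzp (by rw [hc4, hzpc])
  have hvmem : v ∈ centIn (centIn R v) y := by
    rw [mem_centIn, mem_centIn]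
    exact ⟨⟨hvR, rfl⟩, hyv⟩
  rw [← heq, Subgroup.mem_zpowers_iff] at hvmem
  obtain ⟨n, hn⟩ := hvmem
  apply hvk
  rw [← hn]
  have : Commute I k := (hIc k).symm
  exact (this.zpow_left n).eq

theorem Config4.scalar_of_large_prime (h2 : (2 : F) ≠ 0) (hC : Config4 R G1 G2 A B i)
    (hRi : Cfsg.Geo.ActsAbsolutelyIrreducibly (Cfsg.Geo.matrixSet R))
    (hR6 : Nat.card R = 64) (hRZ : Nat.card (Subgroup.center R) = 4)
    (y : GL ι F) (hy : y ∈ Cfsg.Geo.subgroupNormalizer R) (r : ℕ) (hr : r.Prime) (hr7 : 7 ≤ r)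
    (c : F) (hyr : ((y ^ r : GL ι F) : Matrix ι ι F) = c • 1) :
    ∃ d : F, (y : Matrix ι ι F) = d • 1 := by
  classical
  haveI : Fact r.Prime := ⟨hr⟩
  obtain ⟨I, hIR, hI⟩ := hC.mI
  have hIc := comm_of_scalar I i hI
  have hmod := card_centIn_modEq R y hy r c hyr
  rw [hR6] at hmod
  have hdvd : Nat.card (centIn R y) ∣ 64 := by
    rw [← hR6]
    exact Subgroup.card_dvd_of_le (centIn_le R y)
  have hord := orderOf_I h2 I hI hC.ii
  have h4 : 4 ∣ Nat.card (centIn R y) := by
    have hIC : I ∈ centIn R y := (mem_centIn R y I).2 ⟨hIR, hIc y⟩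
    have := orderOf_dvd_natCard (⟨I, hIC⟩ : centIn R y)
    rwa [Subgroup.orderOf_mk, hord] at this
  have hfull : Nat.card (centIn R y) = 64 → ∃ d : F, (y : Matrix ι ι F) = d • 1 := by
    intro h
    have heq : centIn R y = R := Subgroup.eq_of_le_of_card_ge (centIn_le R y) (by rw [h, hR6])
    apply hRi.2
    rintro s ⟨g, hg, rfl⟩
    have hg' : g ∈ centIn R y := by rw [heq]; exact hg
    have := ((mem_centIn R y g).1 hg').2
    rw [← Units.val_mul, ← Units.val_mul, this]
  have small : ∀ m : ℕ, 0 < m → m < 7 → ¬ r ∣ m := fun m h0 h7 hd => by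
    have := Nat.le_of_dvd h0 hd
    omega
  have mulc : ∀ a b : ℕ, ¬ r ∣ a → ¬ r ∣ b → ¬ r ∣ a * b := fun a b ha hb hd =>
    ((Nat.Prime.dvd_mul hr).1 hd).elim ha hb
  have hrdvd : ∀ m : ℕ, m ≤ 64 → Nat.card (centIn R y) = m → r ∣ 64 - m := by
    intro m hm hcm
    rw [hcm] at hmod
    exact (Nat.modEq_iff_dvd' hm).1 hmod
  obtain ⟨j, hj, hcard⟩ := (Nat.dvd_prime_pow Nat.prime_two).mp
    (show Nat.card (centIn R y) ∣ 2 ^ 6 by rw [show (2 : ℕ) ^ 6 = 64 from rfl]; exact hdvd)
  interval_cases j
  · rw [hcard] at h4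
    omega
  · rw [hcard] at h4
    omega
  · exfalso
    have := hrdvd 4 (by norm_num) (by rw [hcard]; norm_num)
    have e : 64 - 4 = (4 * 3) * 5 := by norm_num
    rw [e] at this
    exact mulc _ _ (mulc _ _ (small 4 (by norm_num) (by norm_num)) (small 3 (by norm_num)
      (by norm_num))) (small 5 (by norm_num) (by norm_num)) this
  · exfalso
    have := hrdvd 8 (by norm_num) (by rw [hcard]; norm_num)
    have e : 64 - 8 = (4 * 2) * 7 := by norm_num
    rw [e] at this
    rcases (Nat.Prime.dvd_mul hr).1 this with h | h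
    · exact mulc _ _ (small 4 (by norm_num) (by norm_num)) (small 2 (by norm_num)
        (by norm_num)) h
    · have hr7' : r = 7 := (Nat.prime_dvd_prime_iff_eq hr (by norm_num)).1 h
      subst hr7'
      exact hC.seven_case h2 hR6 hRZ y hy c hyr (by rw [hcard]; norm_num)
  · exfalso
    have := hrdvd 16 (by norm_num) (by rw [hcard]; norm_num)
    have e : 64 - 16 = (4 * 4) * 3 := by norm_num
    rw [e] at this
    exact mulc _ _ (mulc _ _ (small 4 (by norm_num) (by norm_num)) (small 4 (by norm_num)
      (by norm_num))) (small 3 (by norm_num) (by norm_num)) this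
  · exfalso
    have := hrdvd 32 (by norm_num) (by rw [hcard]; norm_num)
    have e : 64 - 32 = (4 * 4) * 2 := by norm_num
    rw [e] at this
    exact mulc _ _ (mulc _ _ (small 4 (by norm_num) (by norm_num)) (small 4 (by norm_num)
      (by norm_num))) (small 2 (by norm_num) (by norm_num)) this
  · exact hfull (by rw [hcard]; norm_num)

end Main

end Cfsg.Agent.Lib.Helper9.C6L4
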