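import Mathlib
import Cfsg.Agent.Lib.Helper9.C6L4h

set_option autoImplicit false

/-! The group `R` of order `2^6`: an element of order five in the normaliser, and the absence of
transvection-like elements acting without fixed points. -/

open scoped MatrixGroups Matrix

namespace Cfsg.Agent.Lib.Helper9.C6L4

open Cfsg.Agent.Lib.Helper9.C6D4 (QD Cliff gam gamG gamG_coe Gm cj cj_eq_iff cj_coe cj_comp
  cj_neg cj_scalar cj_one_left cj_smul one_ne_neg_one_mat smul_one_eq_smul_one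
  conj_mem_of_normalizer phi_mem g4 cj_g4_0 cj_g4_1 cj_g4_2 cj_g4_3 cj_g4_4 all5
  vecMulVec_mulVec')

variable {F : Type*} [Field F] {ι : Type} [Fintype ι] [DecidableEq ι]
  {R : Subgroup (GL ι F)} {G1 G2 A B : GL ι F} {i : F}

theorem Config4.cliffG (hC : Config4 R G1 G2 A B i) : Cliff (Gm G1 G2 A B) := by
  have := hC.qd.cliff
  constructor
  · intro k
    unfold Gm
    rw [gamG_coe]
    exact this.sq k
  · intro k l hkl
    unfold Gm
    rw [gamG_coe, gamG_coe]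
    exact this.anti k l hkl

theorem Config4.gamG_mem (hC : Config4 R G1 G2 A B i) (k : Fin 5) : gamG G1 G2 A B k ∈ R := by
  have h12 := R.mul_mem hC.m1 hC.m2
  fin_cases k
  · exact hC.m1
  · exact hC.m2
  · exact R.mul_mem h12 hC.mA
  · exact R.mul_mem h12 hC.mB
  · exact R.mul_mem h12 (R.mul_mem hC.mA hC.mB)

/-- a matrix commuting with the five involutions is scalar -/
theorem Config4.scalar_of_comm_gam (hC : Config4 R G1 G2 A B i)
    (hRi : Cfsg.Geo.ActsAbsolutelyIrreducibly (Cfsg.Geo.matrixSet R))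
    (y : Matrix ι ι F)
    (hfix' : ∀ k, y * Gm G1 G2 A B k = Gm G1 G2 A B k * y) :
    ∃ d : F, y = d • 1 := by
  have e0 : Gm G1 G2 A B 0 = (G1 : Matrix ι ι F) := rfl
  have e1 : Gm G1 G2 A B 1 = (G2 : Matrix ι ι F) := rfl
  have e2 : Gm G1 G2 A B 2 = (G1 : Matrix ι ι F) * G2 * A := by
    show ((G1 * G2 * A : GL ι F) : Matrix ι ι F) = _
    rw [Units.val_mul, Units.val_mul]
  have e3 : Gm G1 G2 A B 3 = (G1 : Matrix ι ι F) * G2 * B := by
    show ((G1 * G2 * B : GL ι F) : Matrix ι ι F) = _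
    rw [Units.val_mul, Units.val_mul]
  have c1 := hfix' 0
  have c2 := hfix' 1
  have c3 := hfix' 2
  have c4 := hfix' 3
  rw [e0] at c1
  rw [e1] at c2
  rw [e2] at c3
  rw [e3] at c4
  have c12 : y * ((G1 : Matrix ι ι F) * G2) = ((G1 : Matrix ι ι F) * G2) * y := by
    rw [← mul_assoc, c1, mul_assoc, c2, mul_assoc]
  have hinv : ((G2 : Matrix ι ι F) * G1) * ((G1 : Matrix ι ι F) * G2) = 1 := by
    rw [mul_assoc, ← mul_assoc (G1 : Matrix ι ι F), hC.qd.g11, one_mul, hC.qd.g22]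
  have cancel : ∀ X : Matrix ι ι F,
      y * ((G1 : Matrix ι ι F) * G2 * X) = ((G1 : Matrix ι ι F) * G2 * X) * y →
      y * X = X * y := by
    intro X hX
    have h1 : ((G1 : Matrix ι ι F) * G2) * (y * X) =
        ((G1 : Matrix ι ι F) * G2) * (X * y) := by
      rw [← mul_assoc, ← c12, mul_assoc, mul_assoc]
      rw [mul_assoc] at hX
      rw [hX]
      simp only [mul_assoc]
    have h2' : ((G2 : Matrix ι ι F) * G1) * (((G1 : Matrix ι ι F) * G2) * (y * X)) =
        ((G2 : Matrix ι ι F) * G1) * (((G1 : Matrix ι ι F) * G2) * (X * y)) := by rw [h1]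
    rw [← mul_assoc, hinv, one_mul, ← mul_assoc, hinv, one_mul] at h2'
    exact h2'
  have cA := cancel _ c3
  have cB := cancel _ c4
  exact hC.scalar_of_comm hRi _ c1 c2 cA cB

/-- an element of `R` whose commutator with `y` is scalar commutes with `y` -/
theorem Config4.comm_of_phi_scalar [Nonempty ι] (hC : Config4 R G1 G2 A B i)
    (y : GL ι F) (hy : y ∈ Cfsg.Geo.subgroupNormalizer R) (n : ℕ) (hn : Odd n) (c : F)
    (hyn : ((y ^ n : GL ι F) : Matrix ι ι F) = c • 1) (h : GL ι F) (hh : h ∈ R) (d : F)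
    (hd : ((h * y * h⁻¹ * y⁻¹ : GL ι F) : Matrix ι ι F) = d • 1) : y * h = h * y := by
  set Ym : Matrix ι ι F := (y : Matrix ι ι F) with hYm
  set Yi : Matrix ι ι F := ((y⁻¹ : GL ι F) : Matrix ι ι F) with hYi
  have hYiYm : Yi * Ym = 1 := Units.inv_mul y
  have hφmem := phi_mem y hy h hh
  have hφcoe : ((h * y * h⁻¹ * y⁻¹ : GL ι F) : Matrix ι ι F) = cj h Ym * Yi := by
    rw [Units.val_mul, ← cj_coe]
  have hd' := hd
  rw [hφcoe] at hd'
  have h3 : cj h Ym = d • Ym := by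
    calc cj h Ym = cj h Ym * (Yi * Ym) := by rw [hYiYm, mul_one]
      _ = (cj h Ym * Yi) * Ym := by rw [mul_assoc]
      _ = d • Ym := by rw [hd', Matrix.smul_mul, Matrix.one_mul]
  have hd4 : d ^ 4 = 1 := by
    have hsq := hC.sqs _ hφmem
    rw [hd, Matrix.smul_mul, Matrix.mul_smul, Matrix.one_mul, smul_smul] at hsq
    rcases hsq with hsq | hsq
    · have : (d * d) • (1 : Matrix ι ι F) = (1 : F) • (1 : Matrix ι ι F) := by
        rw [hsq, one_smul]
      have := smul_one_eq_smul_one this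
      calc d ^ 4 = (d * d) * (d * d) := by ring
        _ = 1 := by rw [this, one_mul]
    · have : (d * d) • (1 : Matrix ι ι F) = (-1 : F) • (1 : Matrix ι ι F) := by
        rw [hsq, neg_one_smul]
      have := smul_one_eq_smul_one this
      calc d ^ 4 = (d * d) * (d * d) := by ring
        _ = 1 := by rw [this]; ring
  have hd0 : d ≠ 0 := by
    intro h0
    rw [h0] at hd4
    simp at hd4
  have h4 : cj y (h : Matrix ι ι F) = d⁻¹ • (h : Matrix ι ι F) := by
    rw [cj_eq_iff]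
    rw [cj_eq_iff] at h3
    rw [Matrix.smul_mul] at h3
    rw [Matrix.smul_mul, h3, smul_smul, inv_mul_cancel₀ hd0, one_smul]
  have hdi4 : d⁻¹ ^ 4 = 1 := by rw [inv_pow, hd4, inv_one]
  have hdi := scalar_sign_one y n hn c hyn h d⁻¹ hdi4 h4
  have hd1 : d = 1 := by
    have := congrArg (fun t => t⁻¹) hdi
    simpa using this
  rw [hd1, one_smul, cj_eq_iff] at h3
  apply Units.ext
  rw [Units.val_mul, Units.val_mul]
  exact h3.symm

/-- an element of the normaliser, non-scalar, with scalar fifth power -/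
theorem Config4.exists_five [Fintype F] [Nonempty ι] (h2 : (2 : F) ≠ 0)
    (hC : Config4 R G1 G2 A B i)
    (hRi : Cfsg.Geo.ActsAbsolutelyIrreducibly (Cfsg.Geo.matrixSet R)) :
    ∃ y : GL ι F, y ∈ Cfsg.Geo.subgroupNormalizer R ∧
      (∃ d : F, ((y ^ 5 : GL ι F) : Matrix ι ι F) = d • 1) ∧
      ∀ d : F, (y : Matrix ι ι F) ≠ d • 1 := by
  classical
  have hne := one_ne_neg_one_mat (ι := ι) h2
  have hγ : Cliff (Gm G1 G2 A B) := hC.cliffG
  obtain ⟨z, hzR, hz⟩ := hC.negone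
  obtain ⟨y, hydef⟩ : ∃ y : GL ι F, y = g4 hγ h2 := ⟨_, rfl⟩
  have c0 : cj y (Gm G1 G2 A B 0) = -Gm G1 G2 A B 1 := by rw [hydef]; exact cj_g4_0 hγ h2
  have c1 : cj y (Gm G1 G2 A B 1) = -Gm G1 G2 A B 2 := by rw [hydef]; exact cj_g4_1 hγ h2
  have c2 : cj y (Gm G1 G2 A B 2) = -Gm G1 G2 A B 3 := by rw [hydef]; exact cj_g4_2 hγ h2
  have c3 : cj y (Gm G1 G2 A B 3) = -Gm G1 G2 A B 4 := by rw [hydef]; exact cj_g4_3 hγ h2
  have c4 : cj y (Gm G1 G2 A B 4) = Gm G1 G2 A B 0 := by rw [hydef]; exact cj_g4_4 hγ h2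
  have conj_mem : ∀ k, y * gamG G1 G2 A B k * y⁻¹ ∈ R := by
    intro k
    have hpm : ∃ l, cj y (Gm G1 G2 A B k) = Gm G1 G2 A B l ∨
        cj y (Gm G1 G2 A B k) = -Gm G1 G2 A B l := by
      rcases all5 k with rfl | rfl | rfl | rfl | rfl
      · exact ⟨1, Or.inr c0⟩
      · exact ⟨2, Or.inr c1⟩
      · exact ⟨3, Or.inr c2⟩
      · exact ⟨4, Or.inr c3⟩
      · exact ⟨0, Or.inl c4⟩
    obtain ⟨l, hl | hl⟩ := hpm
    · have : y * gamG G1 G2 A B k * y⁻¹ = gamG G1 G2 A B l := by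
        apply Units.ext
        rw [← cj_coe]
        exact hl
      rw [this]
      exact hC.gamG_mem l
    · have : y * gamG G1 G2 A B k * y⁻¹ = z * gamG G1 G2 A B l := by
        apply Units.ext
        rw [← cj_coe, Units.val_mul, hz, neg_one_mul]
        exact hl
      rw [this]
      exact R.mul_mem hzR (hC.gamG_mem l)
  have hyN : y ∈ Cfsg.Geo.subgroupNormalizer R := by
    let T : Subgroup (GL ι F) := R.comap (MulAut.conj y).toMonoidHom
    have hmemT : ∀ h, h ∈ T ↔ y * h * y⁻¹ ∈ R := fun h => Iff.rfl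
    have tG1 : G1 ∈ T := (hmemT _).2 (conj_mem 0)
    have tG2 : G2 ∈ T := (hmemT _).2 (conj_mem 1)
    have t2 : G1 * G2 * A ∈ T := (hmemT _).2 (conj_mem 2)
    have t3 : G1 * G2 * B ∈ T := (hmemT _).2 (conj_mem 3)
    have t12 : G1 * G2 ∈ T := T.mul_mem tG1 tG2
    have tA : A ∈ T := by
      have : A = (G1 * G2)⁻¹ * (G1 * G2 * A) := by group
      rw [this]
      exact T.mul_mem (T.inv_mem t12) t2
    have tB : B ∈ T := by
      have : B = (G1 * G2)⁻¹ * (G1 * G2 * B) := by group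
      rw [this]
      exact T.mul_mem (T.inv_mem t12) t3
    exact hC.mem_normalizer y ((hmemT _).1 tG1) ((hmemT _).1 tG2) ((hmemT _).1 tA)
      ((hmemT _).1 tB)
  have c5 : ∀ k, cj (y ^ 5) (Gm G1 G2 A B k) = Gm G1 G2 A B k := by
    intro k
    have e5 : y ^ 5 = y * y * y * y * y := by
      rw [show (5 : ℕ) = 1 + 1 + 1 + 1 + 1 from rfl, pow_succ, pow_succ, pow_succ, pow_succ, pow_one]
    rw [e5]
    simp only [cj_comp]
    rcases all5 k with rfl | rfl | rfl | rfl | rfl <;>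
    simp only [c0, c1, c2, c3, c4, cj_neg, neg_neg]
  obtain ⟨d, hd⟩ := hC.scalar_of_comm_gam hRi
    ((y ^ 5 : GL ι F) : Matrix ι ι F)
    (fun k => by rw [← cj_eq_iff]; exact c5 k)
  refine ⟨y, hyN, ⟨d, hd⟩, ?_⟩
  intro e he
  rw [cj_scalar y e he] at c0
  exact absurd (hγ.inj hne (Or.inr c0)) (by decide)

/-- commutators with a transvection-like element fix many vectors -/
theorem comm_fix (y h : GL ι F) (u ψ w : ι → F)
    (hN : (y : Matrix ι ι F) = 1 + Matrix.vecMulVec u ψ)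
    (h1 : ψ ⬝ᵥ w = 0) (h2 : ψ ⬝ᵥ (((h⁻¹ : GL ι F) : Matrix ι ι F) *ᵥ w) = 0) :
    ((h * y * h⁻¹ * y⁻¹ : GL ι F) : Matrix ι ι F) *ᵥ w = w := by
  have hYv : (y : Matrix ι ι F) *ᵥ w = w := by
    rw [hN, Matrix.add_mulVec, Matrix.one_mulVec, vecMulVec_mulVec', h1, zero_smul, add_zero]
  have hYiv : ((y⁻¹ : GL ι F) : Matrix ι ι F) *ᵥ w = w := by
    conv_lhs => rw [← hYv]
    rw [Matrix.mulVec_mulVec, Units.inv_mul, Matrix.one_mulVec]
  rw [Units.val_mul, Units.val_mul, Units.val_mul, ← Matrix.mulVec_mulVec, hYiv,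
    ← Matrix.mulVec_mulVec, ← Matrix.mulVec_mulVec, hN, Matrix.add_mulVec, Matrix.one_mulVec,
    vecMulVec_mulVec', h2, zero_smul, add_zero, Matrix.mulVec_mulVec, Units.mul_inv,
    Matrix.one_mulVec]

/-- the sign rule for commutators -/
theorem anti_of_signs (Y Yi H Hi M1 : Matrix ι ι F) (hYYi : Y * Yi = 1)
    (hHHi : H * Hi = 1) (hHiH : Hi * H = 1)
    (s1 s2 : F) (hs : s1 * s2 = -1) (hs2 : s2 * s2 = 1)
    (h1 : M1 * H = s1 • (H * M1))
    (h2 : (Yi * M1 * Y) * H = s2 • (H * (Yi * M1 * Y))) :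
    M1 * (H * Y * Hi * Yi) = -((H * Y * Hi * Yi) * M1) := by
  obtain ⟨K, hK⟩ : ∃ K, K = Yi * M1 * Y := ⟨_, rfl⟩
  rw [← hK] at h2
  have e1 : Y * K = M1 * Y := by rw [hK, ← mul_assoc, ← mul_assoc, hYYi, one_mul]
  have e2 : K * Yi = Yi * M1 := by rw [hK, mul_assoc, hYYi, mul_one]
  have e3 : Hi * K = s2 • (K * Hi) := by
    calc Hi * K = Hi * (K * (H * Hi)) := by rw [hHHi, mul_one]
      _ = Hi * (K * H) * Hi := by simp only [mul_assoc]
      _ = Hi * (s2 • (H * K)) * Hi := by rw [h2]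
      _ = s2 • ((Hi * H) * K * Hi) := by
          simp only [Matrix.mul_smul, Matrix.smul_mul, mul_assoc]
      _ = s2 • (K * Hi) := by rw [hHiH, one_mul]
  have e4 : K * Hi = s2 • (Hi * K) := by rw [e3, smul_smul, hs2, one_smul]
  calc M1 * (H * Y * Hi * Yi) = (M1 * H) * Y * Hi * Yi := by simp only [mul_assoc]
    _ = s1 • (H * (M1 * Y) * Hi * Yi) := by
        rw [h1]; simp only [Matrix.smul_mul, mul_assoc]
    _ = s1 • (H * Y * (K * Hi) * Yi) := by rw [← e1]; simp only [mul_assoc]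
    _ = (s1 * s2) • (H * Y * Hi * (K * Yi)) := by
        rw [e4]; simp only [Matrix.mul_smul, Matrix.smul_mul, smul_smul, mul_assoc]
    _ = -((H * Y * Hi * Yi) * M1) := by
        rw [e2, hs, neg_one_smul]; simp only [mul_assoc]

theorem inv_comm_smul (k : GL ι F) (M : Matrix ι ι F) (s : F)
    (h : (k : Matrix ι ι F) * M = s • (M * (k : Matrix ι ι F))) :
    M * ((k⁻¹ : GL ι F) : Matrix ι ι F) = s • (((k⁻¹ : GL ι F) : Matrix ι ι F) * M) := by
  calc M * ((k⁻¹ : GL ι F) : Matrix ι ι F)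
      = (((k⁻¹ : GL ι F) : Matrix ι ι F) * (k : Matrix ι ι F)) * M *
          ((k⁻¹ : GL ι F) : Matrix ι ι F) := by rw [Units.inv_mul, one_mul]
    _ = ((k⁻¹ : GL ι F) : Matrix ι ι F) * ((k : Matrix ι ι F) * M) *
          ((k⁻¹ : GL ι F) : Matrix ι ι F) := by simp only [mul_assoc]
    _ = ((k⁻¹ : GL ι F) : Matrix ι ι F) * (s • (M * (k : Matrix ι ι F))) *
          ((k⁻¹ : GL ι F) : Matrix ι ι F) := by rw [h]
    _ = s • (((k⁻¹ : GL ι F) : Matrix ι ι F) * M *
          ((k : Matrix ι ι F) * ((k⁻¹ : GL ι F) : Matrix ι ι F))) := by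
        simp only [Matrix.mul_smul, Matrix.smul_mul, mul_assoc]
    _ = s • (((k⁻¹ : GL ι F) : Matrix ι ι F) * M) := by rw [Units.mul_inv, mul_one]

/-- two elements of `R` whose quotient is not scalar are separated by an element of `R` -/
theorem Config4.exists_separating (hC : Config4 R G1 G2 A B i)
    (hRi : Cfsg.Geo.ActsAbsolutelyIrreducibly (Cfsg.Geo.matrixSet R))
    (k K : GL ι F) (hk : k ∈ R) (hK : K ∈ R)
    (hne : ∀ d : F, ((k⁻¹ * K : GL ι F) : Matrix ι ι F) ≠ d • 1) :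
    ∃ h ∈ R, ∃ s1 s2 : F, s1 * s2 = -1 ∧ s2 * s2 = 1 ∧
      (k : Matrix ι ι F) * (h : Matrix ι ι F) = s1 • ((h : Matrix ι ι F) * (k : Matrix ι ι F)) ∧
      (K : Matrix ι ι F) * (h : Matrix ι ι F) = s2 • ((h : Matrix ι ι F) * (K : Matrix ι ι F)) := by
  by_contra hcon
  push Not at hcon
  obtain ⟨d, hd⟩ := hRi.2 ((k⁻¹ * K : GL ι F) : Matrix ι ι F) (by
    rintro s ⟨h, hh, rfl⟩
    show ((k⁻¹ * K : GL ι F) : Matrix ι ι F) * (h : Matrix ι ι F) =
      (h : Matrix ι ι F) * ((k⁻¹ * K : GL ι F) : Matrix ι ι F)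
    rw [Units.val_mul]
    rcases hC.comms k hk h hh with c1 | a1 <;> rcases hC.comms K hK h hh with c2 | a2
    · have e := inv_comm_smul k (h : Matrix ι ι F) 1 (by rw [one_smul]; exact c1)
      rw [one_smul] at e
      rw [mul_assoc, c2, ← mul_assoc, ← e, mul_assoc]
    · exfalso
      exact hcon h hh 1 (-1) (by ring) (by ring) (by rw [one_smul]; exact c1)
        (by rw [neg_one_smul]; exact a2)
    · exfalso
      exact hcon h hh (-1) 1 (by ring) (by ring) (by rw [neg_one_smul]; exact a1)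
        (by rw [one_smul]; exact c2)
    · have e := inv_comm_smul k (h : Matrix ι ι F) (-1) (by rw [neg_one_smul]; exact a1)
      rw [neg_one_smul] at e
      rw [mul_assoc, a2, mul_neg, ← mul_assoc, ← mul_assoc (h : Matrix ι ι F), e, neg_mul])
  exact hne d hd

end Cfsg.Agent.Lib.Helper9.C6L4
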