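import Mathlib
import Cfsg.Agent.Lib.Helper9.C6L4i

set_option autoImplicit false

/-! The group `R` of order `2^6`: no transvection-like elements acting without fixed points;
elements of order five have centraliser of order four; normalisation of elements of order five. -/

open scoped MatrixGroups Matrix

namespace Cfsg.Agent.Lib.Helper9.C6L4

open Cfsg.Agent.Lib.Helper9.C6D4 (QD cj cj_eq_iff cj_coe one_ne_neg_one_mat smul_one_eq_smul_one
  conj_mem_of_normalizer phi_mem centIn mem_centIn centIn_le card_centIn_modEq scU scU_coe)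

variable {F : Type*} [Field F] {ι : Type} [Fintype ι] [DecidableEq ι]
  {R : Subgroup (GL ι F)} {G1 G2 A B : GL ι F} {i : F}

/-- a fixed-point-free element of the normaliser is not of the form `1 + rank one` -/
theorem Config4.no_transvection [Fintype F] [Nonempty ι] (h2 : (2 : F) ≠ 0)
    (hC : Config4 R G1 G2 A B i)
    (hRi : Cfsg.Geo.ActsAbsolutelyIrreducibly (Cfsg.Geo.matrixSet R))
    (hι : Fintype.card ι = 4)
    (y : GL ι F) (hy : y ∈ Cfsg.Geo.subgroupNormalizer R)
    (n : ℕ) (hn : Odd n) (c : F) (hyn : ((y ^ n : GL ι F) : Matrix ι ι F) = c • 1)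
    (hfpf : ∀ h ∈ R, y * h = h * y → ∃ d : F, (h : Matrix ι ι F) = d • 1)
    (u ψ : ι → F) (hN : (y : Matrix ι ι F) = 1 + Matrix.vecMulVec u ψ) : False := by
  -- `G1` is not scalar
  have hG1ns : ∀ d : F, (G1 : Matrix ι ι F) ≠ d • 1 := by
    intro d hd
    have h21 := hC.qd.g21
    rw [hd, Matrix.mul_smul, Matrix.mul_one, Matrix.smul_mul, Matrix.one_mul] at h21
    have h3 : ((2 : F) * d) • (G2 : Matrix ι ι F) = 0 := by
      rw [mul_smul, two_smul]
      nth_rewrite 1 [h21]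
      rw [neg_add_cancel]
    have h4 : ((2 : F) * d) • (1 : Matrix ι ι F) = (0 : F) • (1 : Matrix ι ι F) := by
      rw [← hC.qd.g22, ← Matrix.smul_mul, h3, zero_mul, zero_smul]
    have h5 := smul_one_eq_smul_one h4
    have hd0 : d = 0 := by
      rcases mul_eq_zero.mp h5 with h6 | h6
      · exact absurd h6 h2
      · exact h6
    have h11 := hC.qd.g11
    rw [hd, hd0, zero_smul, zero_mul] at h11
    have h12 : (0 : F) • (1 : Matrix ι ι F) = (1 : F) • (1 : Matrix ι ι F) := by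
      rw [zero_smul, one_smul]; exact h11
    exact zero_ne_one (smul_one_eq_smul_one h12)
  obtain ⟨k1, hk1def⟩ : ∃ k1 : GL ι F, k1 = G1 * y * G1⁻¹ * y⁻¹ := ⟨_, rfl⟩
  have hk1R : k1 ∈ R := by rw [hk1def]; exact phi_mem y hy G1 hC.m1
  have hk1ns : ∀ d : F, (k1 : Matrix ι ι F) ≠ d • 1 := by
    intro d hd
    rw [hk1def] at hd
    have hcomm := hC.comm_of_phi_scalar y hy n hn c hyn G1 hC.m1 d hd
    obtain ⟨e, he⟩ := hfpf G1 hC.m1 hcomm
    exact hG1ns e he
  obtain ⟨K, hKdef⟩ : ∃ K : GL ι F, K = y⁻¹ * k1 * y := ⟨_, rfl⟩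
  have hKR : K ∈ R := by
    have := conj_mem_of_normalizer y⁻¹ ((Cfsg.Geo.subgroupNormalizer R).inv_mem hy) k1 hk1R
    rw [inv_inv] at this
    rw [hKdef]; exact this
  have hyK : (y : Matrix ι ι F) * (K : Matrix ι ι F) =
      (k1 : Matrix ι ι F) * (y : Matrix ι ι F) := by
    rw [← Units.val_mul, ← Units.val_mul, hKdef]
    congr 1
    group
  have hDns : ∀ d : F, ((k1⁻¹ * K : GL ι F) : Matrix ι ι F) ≠ d • 1 := by
    intro d hd
    have hDR : k1⁻¹ * K ∈ R := R.mul_mem (R.inv_mem hk1R) hKR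
    have hd4 : d ^ 4 = 1 := by
      have hsq := hC.sqs _ hDR
      rw [hd, Matrix.smul_mul, Matrix.mul_smul, Matrix.one_mul, smul_smul] at hsq
      rcases hsq with hsq | hsq
      · have : (d * d) • (1 : Matrix ι ι F) = (1 : F) • (1 : Matrix ι ι F) := by
          rw [hsq, one_smul]
        have := smul_one_eq_smul_one this
        calc d ^ 4 = (d * d) * (d * d) := by ring
          _ = 1 := by rw [this, one_mul]
      · have : (d * d) • (1 : Matrix ι ι F) = (-1 : F) • (1 : Matrix ι ι F) := by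
          rw [hsq, neg_one_smul]
        have := smul_one_eq_smul_one this
        calc d ^ 4 = (d * d) * (d * d) := by ring
          _ = 1 := by rw [this]; ring
    have hd0 : d ≠ 0 := by
      intro h0
      rw [h0] at hd4
      simp at hd4
    have hKd : (K : Matrix ι ι F) = d • (k1 : Matrix ι ι F) := by
      have : K = k1 * (k1⁻¹ * K) := by group
      rw [this, Units.val_mul, hd, Matrix.mul_smul, Matrix.mul_one]
    rw [hKd, Matrix.mul_smul] at hyK
    have hconj : cj y (k1 : Matrix ι ι F) = d⁻¹ • (k1 : Matrix ι ι F) := by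
      rw [cj_eq_iff, Matrix.smul_mul, ← hyK, smul_smul, inv_mul_cancel₀ hd0, one_smul]
    have hdi4 : d⁻¹ ^ 4 = 1 := by rw [inv_pow, hd4, inv_one]
    have hdi := scalar_sign_one y n hn c hyn k1 d⁻¹ hdi4 hconj
    have hd1 : d = 1 := by
      have := congrArg (fun t => t⁻¹) hdi
      simpa using this
    rw [hd1, one_smul] at hyK
    have hcomm : y * k1 = k1 * y := by
      apply Units.ext
      rw [Units.val_mul, Units.val_mul]
      exact hyK
    obtain ⟨e, he⟩ := hfpf k1 hk1R hcomm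
    exact hk1ns e he
  obtain ⟨h', hh'R, s1, s2, hs, hs2, hc1, hc2⟩ :=
    hC.exists_separating hRi k1 K hk1R hKR hDns
  obtain ⟨k2, hk2def⟩ : ∃ k2 : GL ι F, k2 = h' * y * h'⁻¹ * y⁻¹ := ⟨_, rfl⟩
  have hKval : (K : Matrix ι ι F) = ((y⁻¹ : GL ι F) : Matrix ι ι F) * (k1 : Matrix ι ι F) *
      (y : Matrix ι ι F) := by
    rw [hKdef, Units.val_mul, Units.val_mul]
  have hanti : (k1 : Matrix ι ι F) * (k2 : Matrix ι ι F) =
      -((k2 : Matrix ι ι F) * (k1 : Matrix ι ι F)) := by
    rw [hk2def, Units.val_mul, Units.val_mul, Units.val_mul]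
    rw [hKval] at hc2
    exact anti_of_signs (y : Matrix ι ι F) ((y⁻¹ : GL ι F) : Matrix ι ι F) (h' : Matrix ι ι F)
      ((h'⁻¹ : GL ι F) : Matrix ι ι F) (k1 : Matrix ι ι F) (Units.mul_inv y) (Units.mul_inv h')
      (Units.inv_mul h') s1 s2 hs hs2 hc1 hc2
  -- a common kernel vector of three functionals
  let f : (ι → F) →ₗ[F] F × F × F :=
    { toFun := fun v => (ψ ⬝ᵥ v, ψ ⬝ᵥ (((G1⁻¹ : GL ι F) : Matrix ι ι F) *ᵥ v),
        ψ ⬝ᵥ (((h'⁻¹ : GL ι F) : Matrix ι ι F) *ᵥ v))
      map_add' := by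
        intro v w
        simp [dotProduct_add, Matrix.mulVec_add]
      map_smul' := by
        intro a v
        simp [dotProduct_smul, Matrix.mulVec_smul] }
  have hker : LinearMap.ker f ≠ ⊥ := by
    apply LinearMap.ker_ne_bot_of_finrank_lt
    rw [Module.finrank_prod, Module.finrank_prod, Module.finrank_self,
      Module.finrank_fintype_fun_eq_card, hι]
    norm_num
  obtain ⟨w, hwker, hw0⟩ := (Submodule.ne_bot_iff _).mp hker
  have hfw : f w = 0 := LinearMap.mem_ker.mp hwker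
  have hw1 : ψ ⬝ᵥ w = 0 := congrArg Prod.fst hfw
  have hw2 : ψ ⬝ᵥ (((G1⁻¹ : GL ι F) : Matrix ι ι F) *ᵥ w) = 0 :=
    congrArg (fun t : F × F × F => t.2.1) hfw
  have hw3 : ψ ⬝ᵥ (((h'⁻¹ : GL ι F) : Matrix ι ι F) *ᵥ w) = 0 :=
    congrArg (fun t : F × F × F => t.2.2) hfw
  have hk1w : (k1 : Matrix ι ι F) *ᵥ w = w := by
    rw [hk1def]; exact comm_fix y G1 u ψ w hN hw1 hw2
  have hk2w : (k2 : Matrix ι ι F) *ᵥ w = w := by
    rw [hk2def]; exact comm_fix y h' u ψ w hN hw1 hw3
  have e1 : ((k1 : Matrix ι ι F) * (k2 : Matrix ι ι F)) *ᵥ w = w := by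
    rw [← Matrix.mulVec_mulVec, hk2w, hk1w]
  have e2 : ((k2 : Matrix ι ι F) * (k1 : Matrix ι ι F)) *ᵥ w = w := by
    rw [← Matrix.mulVec_mulVec, hk1w, hk2w]
  rw [hanti, Matrix.neg_mulVec, e2] at e1
  apply hw0
  have h3 : (2 : F) • w = 0 := by
    rw [two_smul]
    nth_rewrite 1 [← e1]
    rw [neg_add_cancel]
  rcases smul_eq_zero.mp h3 with h4 | h4
  · exact absurd h4 h2
  · exact h4

theorem dvd64_cases (m : ℕ) (h : m ∣ 64) :
    m = 1 ∨ m = 2 ∨ m = 4 ∨ m = 8 ∨ m = 16 ∨ m = 32 ∨ m = 64 := by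
  have h64 : (64 : ℕ) = 2 ^ 6 := by norm_num
  rw [h64] at h
  obtain ⟨j, hj, rfl⟩ := (Nat.dvd_prime_pow Nat.prime_two).mp h
  interval_cases j <;> simp

theorem scalar_of_centIn_eq' (hRi : Cfsg.Geo.ActsAbsolutelyIrreducibly (Cfsg.Geo.matrixSet R))
    (y : GL ι F) (hall : ∀ h ∈ R, h ∈ centIn R y) : ∃ d : F, (y : Matrix ι ι F) = d • 1 := by
  apply hRi.2
  rintro s ⟨g, hg, rfl⟩
  have := ((mem_centIn R y g).1 (hall g hg)).2
  rw [← Units.val_mul, ← Units.val_mul, this]

/-- elements of order five: the centraliser in `R` consists of the four scalars -/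
theorem Config4.fpf_five [Fintype F] [Nonempty ι] (h2 : (2 : F) ≠ 0)
    (hC : Config4 R G1 G2 A B i)
    (hRi : Cfsg.Geo.ActsAbsolutelyIrreducibly (Cfsg.Geo.matrixSet R)) (hR6 : Nat.card R = 64)
    (y : GL ι F) (hy : y ∈ Cfsg.Geo.subgroupNormalizer R) (c : F)
    (hy5 : ((y ^ 5 : GL ι F) : Matrix ι ι F) = c • 1)
    (hns : ∀ d : F, (y : Matrix ι ι F) ≠ d • 1) :
    Nat.card (centIn R y) = 4 ∧
      ∀ h ∈ R, y * h = h * y → ∃ d : F, (h : Matrix ι ι F) = d • 1 := by
  haveI : Fact (Nat.Prime 5) := ⟨by norm_num⟩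
  have hmod := card_centIn_modEq R y hy 5 c hy5
  rw [hR6] at hmod
  have hdvd : Nat.card (centIn R y) ∣ 64 := by
    rw [← hR6]
    exact Subgroup.card_dvd_of_le (centIn_le R y)
  have hcard : Nat.card (centIn R y) = 4 := by
    unfold Nat.ModEq at hmod
    rcases dvd64_cases _ hdvd with h | h | h | h | h | h | h <;> rw [h] at hmod
    · omega
    · omega
    · exact h
    · omega
    · omega
    · omega
    · exfalso
      have heq : centIn R y = R :=
        Subgroup.eq_of_le_of_card_ge (centIn_le R y) (by rw [h, hR6])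
      obtain ⟨d, hd⟩ := scalar_of_centIn_eq' hRi y (fun h hh => by rw [heq]; exact hh)
      exact hns d hd
  refine ⟨hcard, ?_⟩
  intro h hh hcomm
  obtain ⟨I, hIR, hI⟩ := hC.mI
  have hIc := comm_of_scalar I i hI
  have hord := orderOf_I h2 I hI hC.ii
  have hIC : I ∈ centIn R y := (mem_centIn R y I).2 ⟨hIR, hIc y⟩
  have hzp : Subgroup.zpowers I ≤ centIn R y := by
    rw [Subgroup.zpowers_le]
    exact hIC
  have hzpc : Nat.card (Subgroup.zpowers I) = 4 := by rw [Nat.card_zpowers, hord]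
  have heq : Subgroup.zpowers I = centIn R y :=
    Subgroup.eq_of_le_of_card_ge hzp (by rw [hcard, hzpc])
  have hhC : h ∈ centIn R y := (mem_centIn R y h).2 ⟨hh, hcomm⟩
  rw [← heq, Subgroup.mem_zpowers_iff] at hhC
  obtain ⟨m, hm⟩ := hhC
  apply hRi.2
  rintro s ⟨g, hg, rfl⟩
  have hcg : Commute I g := (hIc g).symm
  have := (hcg.zpow_left m).eq
  rw [hm] at this
  show (h : Matrix ι ι F) * (g : Matrix ι ι F) = (g : Matrix ι ι F) * (h : Matrix ι ι F)
  rw [← Units.val_mul, ← Units.val_mul, this]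

theorem mem_sl_iff (g : GL ι F) :
    g ∈ Cfsg.Geo.specialLinear ι F ↔ (g : Matrix ι ι F).det = 1 := by
  unfold Cfsg.Geo.specialLinear
  rw [MonoidHom.mem_ker]
  constructor
  · intro h
    have := congrArg Units.val h
    rwa [Matrix.GeneralLinearGroup.val_det_apply] at this
  · intro h
    apply Units.ext
    rw [Matrix.GeneralLinearGroup.val_det_apply, h]
    rfl

theorem det_ne_zero_GL (w : GL ι F) : (w : Matrix ι ι F).det ≠ 0 := by
  rw [← Matrix.GeneralLinearGroup.val_det_apply]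
  exact Units.ne_zero _

/-- an element with scalar fifth power has a scalar multiple of determinant one and order
dividing five -/
theorem normalize_five (hι : Fintype.card ι = 4) (w : GL ι F) (d : F)
    (hw : ((w ^ 5 : GL ι F) : Matrix ι ι F) = d • 1) :
    ∃ (a : F) (ha : a ≠ 0), scU a ha * w ∈ Cfsg.Geo.specialLinear ι F ∧
      (scU a ha * w) ^ 5 = 1 := by
  have hδ0 := det_ne_zero_GL w
  have hδ : (w : Matrix ι ι F).det ^ 5 = d ^ 4 := by
    have := congrArg Matrix.det hw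
    rw [Units.val_pow_eq_pow_val, Matrix.det_pow, Matrix.det_smul, Matrix.det_one, hι,
      mul_one] at this
    exact this
  have hd0 : d ≠ 0 := by
    intro h0
    rw [h0] at hδ
    have : (w : Matrix ι ι F).det ^ 5 = 0 := by rw [hδ]; ring
    exact hδ0 (pow_eq_zero_iff (by norm_num) |>.mp this)
  have ha : (w : Matrix ι ι F).det / d ≠ 0 := div_ne_zero hδ0 hd0
  refine ⟨(w : Matrix ι ι F).det / d, ha, ?_, ?_⟩
  · rw [mem_sl_iff, Units.val_mul, scU_coe, Matrix.smul_mul, Matrix.one_mul, Matrix.det_smul, hι]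
    have : ((w : Matrix ι ι F).det / d) ^ 4 * (w : Matrix ι ι F).det =
        (w : Matrix ι ι F).det ^ 5 / d ^ 4 := by
      field_simp
    rw [this, hδ, div_self (pow_ne_zero 4 hd0)]
  · apply Units.ext
    rw [Units.val_pow_eq_pow_val, Units.val_mul, scU_coe, Matrix.smul_mul, Matrix.one_mul,
      smul_pow, ← Units.val_pow_eq_pow_val, hw, smul_smul, Units.val_one]
    have : ((w : Matrix ι ι F).det / d) ^ 5 * d = (w : Matrix ι ι F).det ^ 5 / d ^ 4 := by
      field_simp
    rw [this, hδ, div_self (pow_ne_zero 4 hd0), one_smul]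

end Cfsg.Agent.Lib.Helper9.C6L4
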