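import Mathlib
import Cfsg.Agent.Lib.Helper9.C6L4j
import Cfsg.Agent.Lib.Helper4.C6Pk4
import Cfsg.Agent.Lib.Helper4.C6Pk5
import Cfsg.Agent.Lib.Helper8.C6Pk6
import Cfsg.Agent.Lib.Helper8.C6Pk7
import Cfsg.Agent.Lib.Helper8.C6Pk8

set_option autoImplicit false

/-! `SL_4(p)` and the group `R` of order `2^6`: the two directions of the fixed point criterion. -/

open scoped MatrixGroups Matrix

namespace Cfsg.Agent.Lib.Helper9.C6L4

open Cfsg.Agent.Lib.Helper9.C6D4 (QD cj cj_eq_iff cj_coe trace_cj one_ne_neg_one_mat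
  smul_one_eq_smul_one conj_mem_of_normalizer centIn mem_centIn centIn_le card_centIn_modEq
  scU scU_coe scalar_central conjv_pow conjv_coe conjv_inv_coe nonscalar_conj conjv_pow_one)

section General

variable {F : Type*} [Field F] {ι : Type} [Fintype ι] [DecidableEq ι]

theorem scalar_mem_normalizer (R : Subgroup (GL ι F)) (S : GL ι F) (c : F)
    (hS : (S : Matrix ι ι F) = c • 1) : S ∈ Cfsg.Geo.subgroupNormalizer R := by
  unfold Cfsg.Geo.subgroupNormalizer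
  rw [Subgroup.mem_normalizer_iff]
  intro h
  rw [scalar_central S c hS h]

theorem conj_scalar_mul (S g s : GL ι F) (c : F) (hS : (S : Matrix ι ι F) = c • 1) :
    g⁻¹ * (S⁻¹ * s) * g = S⁻¹ * (g⁻¹ * s * g) := by
  have h : g⁻¹ * S = S * g⁻¹ := comm_of_scalar S c hS g⁻¹
  have h' : g⁻¹ * S⁻¹ = S⁻¹ * g⁻¹ := by
    calc g⁻¹ * S⁻¹ = S⁻¹ * (S * g⁻¹) * S⁻¹ := by group
      _ = S⁻¹ * (g⁻¹ * S) * S⁻¹ := by rw [h]
      _ = S⁻¹ * g⁻¹ := by group
  calc g⁻¹ * (S⁻¹ * s) * g = (g⁻¹ * S⁻¹) * s * g := by group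
    _ = (S⁻¹ * g⁻¹) * s * g := by rw [h']
    _ = S⁻¹ * (g⁻¹ * s * g) := by group

end General

variable {F : Type*} [Field F] [Fintype F]
  {R : Subgroup (GL (Fin 4) F)} {G1 G2 A B : GL (Fin 4) F} {i : F}

theorem Config4.fwd_large (h2 : (2 : F) ≠ 0) (hC : Config4 R G1 G2 A B i)
    (hRi : Cfsg.Geo.ActsAbsolutelyIrreducibly (Cfsg.Geo.matrixSet R))
    (hR6 : Nat.card R = 64) (hRZ : Nat.card (Subgroup.center R) = 4)
    (r : ℕ) (hr : r.Prime) (hr7 : 7 ≤ r)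
    (hdvd : r ∣ Nat.card (Cfsg.Geo.specialLinear (Fin 4) F))
    (H : ∀ x ∈ Cfsg.Geo.specialLinear (Fin 4) F,
      (∃ z : F, ((x ^ r : GL (Fin 4) F) : Matrix (Fin 4) (Fin 4) F) =
        z • (1 : Matrix (Fin 4) (Fin 4) F)) →
      (∀ z : F, (x : Matrix (Fin 4) (Fin 4) F) ≠ z • (1 : Matrix (Fin 4) (Fin 4) F)) →
      ∃ g ∈ Cfsg.Geo.specialLinear (Fin 4) F, g⁻¹ * x * g ∈ Cfsg.Geo.subgroupNormalizer R) :
    False := by
  haveI : Fact r.Prime := ⟨hr⟩
  obtain ⟨x, hx⟩ := exists_prime_orderOf_dvd_card' r hdvd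
  have hxr : ((((x : GL (Fin 4) F)) ^ r : GL (Fin 4) F) : Matrix (Fin 4) (Fin 4) F) = 1 := by
    have h1 : x ^ r = 1 := by rw [← hx]; exact pow_orderOf_eq_one x
    have h2' : ((x : GL (Fin 4) F)) ^ r = 1 := by
      rw [← Subgroup.coe_pow, h1, Subgroup.coe_one]
    rw [h2', Units.val_one]
  have hns : ∀ d : F, ((x : GL (Fin 4) F) : Matrix (Fin 4) (Fin 4) F) ≠ d • 1 := by
    intro d hd
    have hdet := (mem_sl_iff _).1 x.2
    rw [hd, Matrix.det_smul, Matrix.det_one, mul_one, Fintype.card_fin] at hdet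
    have hx4 : x ^ 4 = 1 := by
      apply Subtype.ext
      apply Units.ext
      rw [Subgroup.coe_pow, Subgroup.coe_one, Units.val_pow_eq_pow_val, hd, smul_pow, one_pow,
        hdet, one_smul, Units.val_one]
    have := orderOf_dvd_of_pow_eq_one hx4
    rw [hx] at this
    have := Nat.le_of_dvd (by norm_num) this
    omega
  obtain ⟨g, hg, hyN⟩ := H x x.2 ⟨1, by rw [hxr, one_smul]⟩ hns
  obtain ⟨d, hd⟩ := hC.scalar_of_large_prime h2 hRi hR6 hRZ _ hyN r hr hr7 1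
    (conjv_pow_one g _ r hxr)
  exact nonscalar_conj g _ hns d hd

theorem Config4.fwd_three (h2 : (2 : F) ≠ 0) (h3 : (3 : F) ≠ 0) (hC : Config4 R G1 G2 A B i)
    (hRi : Cfsg.Geo.ActsAbsolutelyIrreducibly (Cfsg.Geo.matrixSet R))
    (hR6 : Nat.card R = 64) (ω : F) (hω : ω ^ 2 + ω + 1 = 0)
    (H : ∀ x ∈ Cfsg.Geo.specialLinear (Fin 4) F,
      (∃ z : F, ((x ^ 3 : GL (Fin 4) F) : Matrix (Fin 4) (Fin 4) F) =
        z • (1 : Matrix (Fin 4) (Fin 4) F)) →
      (∀ z : F, (x : Matrix (Fin 4) (Fin 4) F) ≠ z • (1 : Matrix (Fin 4) (Fin 4) F)) →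
      ∃ g ∈ Cfsg.Geo.specialLinear (Fin 4) F, g⁻¹ * x * g ∈ Cfsg.Geo.subgroupNormalizer R) :
    False := by
  have hι : Fintype.card (Fin 4) = 4 := by simp
  obtain ⟨x, hxSL, hx3, hns, htx, htxi⟩ := Cfsg.Agent.Lib.C6Pk.sl4_test_three h3 ω hω
  have hx3' : ((x ^ 3 : GL (Fin 4) F) : Matrix (Fin 4) (Fin 4) F) = 1 := by
    rw [hx3, Units.val_one]
  obtain ⟨g, hg, hyN⟩ := H x hxSL ⟨1, by rw [hx3', one_smul]⟩ hns
  have hy3 := conjv_pow_one g x 3 hx3'
  have hyns := nonscalar_conj g x hns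
  obtain ⟨y, hydef⟩ : ∃ y : GL (Fin 4) F, y = g⁻¹ * x * g := ⟨_, rfl⟩
  rw [← hydef] at hyN hy3 hyns
  haveI : Fact (Nat.Prime 3) := ⟨by norm_num⟩
  have htr := hC.trace_identity h2 hRi hι hR6 y hyN 3 (by decide) 1 hy3
  have hty : ((y : GL (Fin 4) F) : Matrix (Fin 4) (Fin 4) F).trace = 3 * ω + 1 := by
    rw [hydef, conjv_coe, trace_cj, htx]
  have htyi : ((y⁻¹ : GL (Fin 4) F) : Matrix (Fin 4) (Fin 4) F).trace = 3 * ω ^ 2 + 1 := by
    rw [hydef, conjv_inv_coe, trace_cj, htxi]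
  rw [hty, htyi] at htr
  have h28 : (4 : F) * (3 * ω + 1) * (3 * ω ^ 2 + 1) = 28 := by
    have hω3 : ω ^ 3 = 1 := by linear_combination (ω - 1) * hω
    linear_combination 36 * hω3 + 12 * hω
  rw [h28] at htr
  have hmod := card_centIn_modEq R y hyN 3 1 hy3
  rw [hR6] at hmod
  have hdvd : Nat.card (centIn R y) ∣ 64 := by
    rw [← hR6]
    exact Subgroup.card_dvd_of_le (centIn_le R y)
  unfold Nat.ModEq at hmod
  rcases dvd64_cases _ hdvd with h | h | h | h | h | h | h <;> rw [h] at hmod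
  · rw [h] at htr
    push_cast at htr
    have h27 : (3 : F) * 3 * 3 = 0 := by linear_combination -htr
    rcases mul_eq_zero.1 h27 with h' | h'
    · rcases mul_eq_zero.1 h' with h'' | h''
      · exact h3 h''
      · exact h3 h''
    · exact h3 h'
  · omega
  · rw [h] at htr
    push_cast at htr
    have h24 : (2 : F) * 2 * 2 * 3 = 0 := by linear_combination -htr
    rcases mul_eq_zero.1 h24 with h' | h'
    · rcases mul_eq_zero.1 h' with h'' | h''
      · rcases mul_eq_zero.1 h'' with h''' | h'''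
        · exact h2 h'''
        · exact h2 h'''
      · exact h2 h''
    · exact h3 h'
  · omega
  · rw [h] at htr
    push_cast at htr
    have h12 : (2 : F) * 2 * 3 = 0 := by linear_combination -htr
    rcases mul_eq_zero.1 h12 with h' | h'
    · rcases mul_eq_zero.1 h' with h'' | h''
      · exact h2 h''
      · exact h2 h''
    · exact h3 h'
  · omega
  · have heq : centIn R y = R :=
      Subgroup.eq_of_le_of_card_ge (centIn_le R y) (by rw [h, hR6])
    obtain ⟨d, hd⟩ := scalar_of_centIn_eq' hRi y (fun h hh => by rw [heq]; exact hh)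
    exact hyns d hd

theorem Config4.fwd_five (h2 : (2 : F) ≠ 0) (hC : Config4 R G1 G2 A B i)
    (hRi : Cfsg.Geo.ActsAbsolutelyIrreducibly (Cfsg.Geo.matrixSet R))
    (hR6 : Nat.card R = 64) (τ : F) (hτ : τ ^ 2 + τ - 1 = 0)
    (H : ∀ x ∈ Cfsg.Geo.specialLinear (Fin 4) F,
      (∃ z : F, ((x ^ 5 : GL (Fin 4) F) : Matrix (Fin 4) (Fin 4) F) =
        z • (1 : Matrix (Fin 4) (Fin 4) F)) →
      (∀ z : F, (x : Matrix (Fin 4) (Fin 4) F) ≠ z • (1 : Matrix (Fin 4) (Fin 4) F)) →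
      ∃ g ∈ Cfsg.Geo.specialLinear (Fin 4) F, g⁻¹ * x * g ∈ Cfsg.Geo.subgroupNormalizer R) :
    False := by
  have hι : Fintype.card (Fin 4) = 4 := by simp
  obtain ⟨x, hxSL, hx5, hns, htx, htxi, htrans⟩ := Cfsg.Agent.Lib.C6Pk.sl4_test_five τ hτ
  have hx5' : ((x ^ 5 : GL (Fin 4) F) : Matrix (Fin 4) (Fin 4) F) = 1 := by
    rw [hx5, Units.val_one]
  obtain ⟨g, hg, hyN⟩ := H x hxSL ⟨1, by rw [hx5', one_smul]⟩ hns
  have hy5 := conjv_pow_one g x 5 hx5'
  have hyns := nonscalar_conj g x hns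
  obtain ⟨y, hydef⟩ : ∃ y : GL (Fin 4) F, y = g⁻¹ * x * g := ⟨_, rfl⟩
  rw [← hydef] at hyN hy5 hyns
  obtain ⟨hcard, hfpf⟩ := hC.fpf_five h2 hRi hR6 y hyN 1 hy5 hyns
  by_cases h5 : (5 : F) = 0
  · have hτ2 : τ = 2 := by
      have h' : (τ - 2) * (τ - 2) = 0 := by linear_combination hτ - (τ - 1) * h5
      rcases mul_eq_zero.1 h' with h'' | h'' <;> linear_combination h''
    obtain ⟨u, ψ, hxN⟩ := htrans hτ2
    have hyN' : ((y : GL (Fin 4) F) : Matrix (Fin 4) (Fin 4) F) =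
        1 + Matrix.vecMulVec (((g⁻¹ : GL (Fin 4) F) : Matrix (Fin 4) (Fin 4) F) *ᵥ u)
          (ψ ᵥ* (g : Matrix (Fin 4) (Fin 4) F)) := by
      rw [hydef, Units.val_mul, Units.val_mul, hxN, mul_add, add_mul, mul_one, Units.inv_mul,
        Matrix.mul_vecMulVec, Matrix.vecMulVec_mul]
    exact hC.no_transvection h2 hRi hι y hyN 5 (by decide) 1 hy5 hfpf _ _ hyN'
  · have htr := hC.trace_identity h2 hRi hι hR6 y hyN 5 (by decide) 1 hy5
    have hty : ((y : GL (Fin 4) F) : Matrix (Fin 4) (Fin 4) F).trace = τ + 2 := by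
      rw [hydef, conjv_coe, trace_cj, htx]
    have htyi : ((y⁻¹ : GL (Fin 4) F) : Matrix (Fin 4) (Fin 4) F).trace = τ + 2 := by
      rw [hydef, conjv_inv_coe, trace_cj, htxi]
    rw [hty, htyi, hcard] at htr
    push_cast at htr
    have e2 : (τ + 2) ^ 2 = 1 := by
      have h' : (2 : F) * 2 * ((τ + 2) ^ 2 - 1) = 0 := by linear_combination -htr
      rcases mul_eq_zero.1 h' with h'' | h''
      · rcases mul_eq_zero.1 h'' with h''' | h'''
        · exact absurd h''' h2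
        · exact absurd h''' h2
      · linear_combination h''
    apply h5
    linear_combination (3 * τ - 1) * (e2 - hτ) - 9 * hτ

theorem tr_one4 : (1 : Matrix (Fin 4) (Fin 4) F).trace = 4 := by
  rw [Matrix.trace_one]
  simp

theorem Config4.back_two (h2 : (2 : F) ≠ 0) (h3 : (3 : F) ≠ 0) (hC : Config4 R G1 G2 A B i)
    (x : GL (Fin 4) F) (hx : x ∈ Cfsg.Geo.specialLinear (Fin 4) F) (z : F)
    (hx2 : ((x ^ 2 : GL (Fin 4) F) : Matrix (Fin 4) (Fin 4) F) = z • 1)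
    (hns : ∀ d : F, (x : Matrix (Fin 4) (Fin 4) F) ≠ d • 1) :
    ∃ g ∈ Cfsg.Geo.specialLinear (Fin 4) F, g⁻¹ * x * g ∈ Cfsg.Geo.subgroupNormalizer R := by
  have hι : Fintype.card (Fin 4) = 4 := by simp
  have hxx : (x : Matrix (Fin 4) (Fin 4) F) * (x : Matrix (Fin 4) (Fin 4) F) = z • 1 := by
    rw [← pow_two, ← Units.val_pow_eq_pow_val]
    exact hx2
  have hdet : (x : Matrix (Fin 4) (Fin 4) F).det = 1 := (mem_sl_iff x).1 hx
  have hsq : IsSquare z := by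
    by_contra hz
    have h1 := Cfsg.Agent.Lib.C6Pk.sq_scalar_det (x : Matrix (Fin 4) (Fin 4) F) z hxx hz
    rw [hdet] at h1
    apply hz
    have h' : (z - 1) * (z + 1) = 0 := by linear_combination -h1
    rcases mul_eq_zero.mp h' with h'' | h''
    · exact ⟨1, by linear_combination h''⟩
    · exact ⟨i, by rw [hC.ii]; linear_combination h''⟩
  obtain ⟨c, hc⟩ := hsq
  have hz0 : z ≠ 0 := by
    intro h0
    rw [h0, zero_smul] at hxx
    have := congrArg Matrix.det hxx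
    rw [Matrix.det_mul, hdet, Matrix.det_zero, one_mul] at this
    exact one_ne_zero this
  have hc0 : c ≠ 0 := by
    rintro rfl
    apply hz0
    rw [hc, zero_mul]
  obtain ⟨S, hSdef⟩ : ∃ S : GL (Fin 4) F, S = scU c⁻¹ (inv_ne_zero hc0) := ⟨_, rfl⟩
  have hS : (S : Matrix (Fin 4) (Fin 4) F) = c⁻¹ • 1 := by rw [hSdef]; rfl
  obtain ⟨s, hsdef⟩ : ∃ s : GL (Fin 4) F, s = S * x := ⟨_, rfl⟩
  have hsval : (s : Matrix (Fin 4) (Fin 4) F) = c⁻¹ • (x : Matrix (Fin 4) (Fin 4) F) := by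
    rw [hsdef, Units.val_mul, hS, Matrix.smul_mul, Matrix.one_mul]
  have hxs : (x : Matrix (Fin 4) (Fin 4) F) = c • (s : Matrix (Fin 4) (Fin 4) F) := by
    rw [hsval, smul_smul, mul_inv_cancel₀ hc0, one_smul]
  have hss : (s : Matrix (Fin 4) (Fin 4) F) * (s : Matrix (Fin 4) (Fin 4) F) = 1 := by
    rw [hsval, Matrix.smul_mul, Matrix.mul_smul, smul_smul, hxx, smul_smul, hc]
    have : c⁻¹ * c⁻¹ * (c * c) = 1 := by field_simp
    rw [this, one_smul]
  have hs1 : (s : Matrix (Fin 4) (Fin 4) F) ≠ 1 := by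
    intro h
    apply hns c
    rw [hxs, h]
  have hsm : (s : Matrix (Fin 4) (Fin 4) F) ≠ -1 := by
    intro h
    apply hns (-c)
    rw [hxs, h, smul_neg, neg_smul]
  have hxS : x = S⁻¹ * s := by rw [hsdef]; group
  have hSN : S⁻¹ ∈ Cfsg.Geo.subgroupNormalizer R :=
    (Cfsg.Geo.subgroupNormalizer R).inv_mem (scalar_mem_normalizer R S c⁻¹ hS)
  have finish : ∀ t : GL (Fin 4) F, t ∈ Cfsg.Geo.subgroupNormalizer R →
      (t : Matrix (Fin 4) (Fin 4) F) * (t : Matrix (Fin 4) (Fin 4) F) = 1 →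
      (t : Matrix (Fin 4) (Fin 4) F) ≠ 1 → (t : Matrix (Fin 4) (Fin 4) F) ≠ -1 →
      (s : Matrix (Fin 4) (Fin 4) F).trace = (t : Matrix (Fin 4) (Fin 4) F).trace →
      ∃ g ∈ Cfsg.Geo.specialLinear (Fin 4) F,
        g⁻¹ * x * g ∈ Cfsg.Geo.subgroupNormalizer R := by
    intro t htN htt ht1 htm htr
    obtain ⟨g, hg, hgs⟩ := Cfsg.Agent.Lib.C6Pk.sl4_invol_conj h2 s t hss htt hs1 hsm ht1 htm htr
    refine ⟨g, hg, ?_⟩
    rw [hxS, conj_scalar_mul S g s c⁻¹ hS, hgs]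
    exact (Cfsg.Geo.subgroupNormalizer R).mul_mem hSN htN
  have h4 : (4 : F) ≠ 0 := by
    have : (4 : F) = 2 * 2 := by norm_num
    rw [this]
    exact mul_ne_zero h2 h2
  have h6 : (6 : F) ≠ 0 := by
    have : (6 : F) = 2 * 3 := by norm_num
    rw [this]
    exact mul_ne_zero h2 h3
  obtain ⟨t, htN, htt, httr⟩ := hC.exists_reflection h2 hι
  obtain ⟨zn, hznR, hzn⟩ := hC.negone
  rcases Cfsg.Agent.Lib.C6Pk.gl4_invol_trace h2 (s : Matrix (Fin 4) (Fin 4) F) hss hs1 hsm with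
    htr | htr | htr
  · apply finish t htN htt
    · intro h
      rw [h, tr_one4] at httr
      apply h2
      linear_combination httr
    · intro h
      rw [h, Matrix.trace_neg, tr_one4] at httr
      apply h6
      linear_combination -httr
    · rw [htr, httr]
  · have htG : (G1 : Matrix (Fin 4) (Fin 4) F).trace = 0 :=
      trace_zero_of_anti h2 (G1 : Matrix (Fin 4) (Fin 4) F) G2 (by rw [hC.qd.g21, neg_neg])
    apply finish G1 (Subgroup.le_normalizer hC.m1) hC.qd.g11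
    · intro h
      rw [h, tr_one4] at htG
      exact h4 htG
    · intro h
      rw [h, Matrix.trace_neg, tr_one4] at htG
      apply h4
      linear_combination -htG
    · rw [htr, htG]
  · have hval : ((zn * t : GL (Fin 4) F) : Matrix (Fin 4) (Fin 4) F) =
        -(t : Matrix (Fin 4) (Fin 4) F) := by
      rw [Units.val_mul, hzn, neg_one_mul]
    apply finish (zn * t)
      ((Cfsg.Geo.subgroupNormalizer R).mul_mem (Subgroup.le_normalizer hznR) htN)
    · rw [hval, neg_mul_neg, htt]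
    · rw [hval]
      intro h
      have h' : (t : Matrix (Fin 4) (Fin 4) F) = -1 := by rw [← h, neg_neg]
      rw [h', Matrix.trace_neg, tr_one4] at httr
      apply h6
      linear_combination -httr
    · rw [hval]
      intro h
      have h' : (t : Matrix (Fin 4) (Fin 4) F) = 1 := neg_injective h
      rw [h', tr_one4] at httr
      apply h2
      linear_combination httr
    · rw [htr, hval, Matrix.trace_neg, httr]

theorem Config4.back_three (h2 : (2 : F) ≠ 0) (h3 : (3 : F) ≠ 0) (hC : Config4 R G1 G2 A B i)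
    (hd3 : ¬ 3 ∣ Fintype.card F - 1)
    (x : GL (Fin 4) F) (hx : x ∈ Cfsg.Geo.specialLinear (Fin 4) F) (z : F)
    (hx3 : ((x ^ 3 : GL (Fin 4) F) : Matrix (Fin 4) (Fin 4) F) = z • 1)
    (hns : ∀ d : F, (x : Matrix (Fin 4) (Fin 4) F) ≠ d • 1) :
    ∃ g ∈ Cfsg.Geo.specialLinear (Fin 4) F, g⁻¹ * x * g ∈ Cfsg.Geo.subgroupNormalizer R := by
  have hι : Fintype.card (Fin 4) = 4 := by simp
  have hdet : (x : Matrix (Fin 4) (Fin 4) F).det = 1 := (mem_sl_iff x).1 hx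
  have hz0 : z ≠ 0 := by
    intro h0
    rw [h0, zero_smul] at hx3
    have := congrArg Matrix.det hx3
    rw [Units.val_pow_eq_pow_val, Matrix.det_pow, hdet, one_pow, Matrix.det_zero] at this
    exact one_ne_zero this
  obtain ⟨c, hc0, hc⟩ := Cfsg.Agent.Lib.C6Pk.exists_pow_eq_of_not_dvd 3 Nat.prime_three hd3 z hz0
  obtain ⟨S, hSdef⟩ : ∃ S : GL (Fin 4) F, S = scU c⁻¹ (inv_ne_zero hc0) := ⟨_, rfl⟩
  have hS : (S : Matrix (Fin 4) (Fin 4) F) = c⁻¹ • 1 := by rw [hSdef]; rfl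
  obtain ⟨s, hsdef⟩ : ∃ s : GL (Fin 4) F, s = S * x := ⟨_, rfl⟩
  have hsval : (s : Matrix (Fin 4) (Fin 4) F) = c⁻¹ • (x : Matrix (Fin 4) (Fin 4) F) := by
    rw [hsdef, Units.val_mul, hS, Matrix.smul_mul, Matrix.one_mul]
  have hxs : (x : Matrix (Fin 4) (Fin 4) F) = c • (s : Matrix (Fin 4) (Fin 4) F) := by
    rw [hsval, smul_smul, mul_inv_cancel₀ hc0, one_smul]
  have hs3 : s ^ 3 = 1 := by
    apply Units.ext
    rw [Units.val_pow_eq_pow_val, hsval, smul_pow, ← Units.val_pow_eq_pow_val, hx3, smul_smul,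
      inv_pow, hc, inv_mul_cancel₀ hz0, one_smul, Units.val_one]
  have hs1 : s ≠ 1 := by
    intro h
    apply hns c
    rw [hxs, h, Units.val_one]
  have hω := Cfsg.Agent.Lib.C6Pk.no_cube_root_unity h3 hd3
  have hs3' : (s : Matrix (Fin 4) (Fin 4) F) ^ 3 = 1 := by
    rw [← Units.val_pow_eq_pow_val, hs3, Units.val_one]
  have hs1' : (s : Matrix (Fin 4) (Fin 4) F) ≠ 1 := fun h => hs1 (Units.ext h)
  have hxS : x = S⁻¹ * s := by rw [hsdef]; group
  have hSN : S⁻¹ ∈ Cfsg.Geo.subgroupNormalizer R :=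
    (Cfsg.Geo.subgroupNormalizer R).inv_mem (scalar_mem_normalizer R S c⁻¹ hS)
  have finish : ∀ t : GL (Fin 4) F, t ∈ Cfsg.Geo.subgroupNormalizer R → t ^ 3 = 1 → t ≠ 1 →
      (s : Matrix (Fin 4) (Fin 4) F).trace = (t : Matrix (Fin 4) (Fin 4) F).trace →
      ∃ g ∈ Cfsg.Geo.specialLinear (Fin 4) F,
        g⁻¹ * x * g ∈ Cfsg.Geo.subgroupNormalizer R := by
    intro t htN ht3 ht1 htr
    obtain ⟨g, hg, hgs⟩ := Cfsg.Agent.Lib.C6Pk.sl4_order3_conj h2 h3 hω s t hs3 ht3 hs1 ht1 htr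
    refine ⟨g, hg, ?_⟩
    rw [hxS, conj_scalar_mul S g s c⁻¹ hS, hgs]
    exact (Cfsg.Geo.subgroupNormalizer R).mul_mem hSN htN
  have h6 : (6 : F) ≠ 0 := by
    have : (6 : F) = 2 * 3 := by norm_num
    rw [this]
    exact mul_ne_zero h2 h3
  obtain ⟨yA, yB, hAN, hBN, hA3, hB3, htA, htB⟩ := hC.exists_omega h2 hι
  rcases Cfsg.Agent.Lib.C6Pk.gl4_order3_trace h3 hω (s : Matrix (Fin 4) (Fin 4) F) hs3' hs1' with
    htr | htr
  · apply finish yA hAN hA3
    · intro h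
      rw [h, Units.val_one, tr_one4] at htA
      apply h3
      linear_combination htA
    · rw [htr, htA]
  · apply finish yB hBN hB3
    · intro h
      rw [h, Units.val_one, tr_one4] at htB
      apply h6
      linear_combination htB
    · rw [htr, htB]

theorem Config4.back_five {p : ℕ} [Fact p.Prime] [CharP F p] (hF : Fintype.card F = p)
    (h5 : orderOf (p : ZMod 5) = 4) (h2 : (2 : F) ≠ 0) (hC : Config4 R G1 G2 A B i)
    (hRi : Cfsg.Geo.ActsAbsolutelyIrreducibly (Cfsg.Geo.matrixSet R))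
    (x : GL (Fin 4) F) (hx : x ∈ Cfsg.Geo.specialLinear (Fin 4) F) (z : F)
    (hx5 : ((x ^ 5 : GL (Fin 4) F) : Matrix (Fin 4) (Fin 4) F) = z • 1)
    (hns : ∀ d : F, (x : Matrix (Fin 4) (Fin 4) F) ≠ d • 1) :
    ∃ g ∈ Cfsg.Geo.specialLinear (Fin 4) F, g⁻¹ * x * g ∈ Cfsg.Geo.subgroupNormalizer R := by
  have hι : Fintype.card (Fin 4) = 4 := by simp
  obtain ⟨y, hyN, ⟨d, hd⟩, hyns⟩ := hC.exists_five h2 hRi
  obtain ⟨a, ha, hy0SL, hy05⟩ := normalize_five hι y d hd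
  obtain ⟨b, hb, hx0SL, hx05⟩ := normalize_five hι x z hx5
  have hy0N : scU a ha * y ∈ Cfsg.Geo.subgroupNormalizer R :=
    (Cfsg.Geo.subgroupNormalizer R).mul_mem (scalar_mem_normalizer R _ a (scU_coe a ha)) hyN
  have hy01 : scU a ha * y ≠ 1 := by
    intro h
    apply hyns a⁻¹
    have h' := congrArg (fun u : GL (Fin 4) F => (u : Matrix (Fin 4) (Fin 4) F)) h
    simp only [Units.val_mul, scU_coe, Matrix.smul_mul, Matrix.one_mul, Units.val_one] at h'
    rw [← h', smul_smul, inv_mul_cancel₀ ha, one_smul]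
  have hx01 : scU b hb * x ≠ 1 := by
    intro h
    apply hns b⁻¹
    have h' := congrArg (fun u : GL (Fin 4) F => (u : Matrix (Fin 4) (Fin 4) F)) h
    simp only [Units.val_mul, scU_coe, Matrix.smul_mul, Matrix.one_mul, Units.val_one] at h'
    rw [← h', smul_smul, inv_mul_cancel₀ hb, one_smul]
  obtain ⟨g, hg, k, hgk⟩ := Cfsg.Agent.Lib.C6Pk.order5_conj hF h5 hι
    (Cfsg.Geo.specialLinear (Fin 4) F) (scU b hb * x) (scU a ha * y) hx0SL hy0SL hx05 hx01
    hy05 hy01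
  refine ⟨g, hg, ?_⟩
  have hxS : x = (scU b hb)⁻¹ * (scU b hb * x) := by group
  rw [hxS, conj_scalar_mul (scU b hb) g _ b (scU_coe b hb), hgk]
  exact (Cfsg.Geo.subgroupNormalizer R).mul_mem
    ((Cfsg.Geo.subgroupNormalizer R).inv_mem (scalar_mem_normalizer R _ b (scU_coe b hb)))
    ((Cfsg.Geo.subgroupNormalizer R).pow_mem hy0N k)

end Cfsg.Agent.Lib.Helper9.C6L4
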