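import Mathlib
import Cfsg.Agent.Lib.Helper9.C6L4k
import Cfsg.Agent.Lib.Helper5.PSLCoset12

set_option autoImplicit false

/-! The adjoint with respect to the standard hermitian form, and unitarity of the elements of the
normaliser of `R` constructed in `C6L4`. -/

open scoped MatrixGroups Matrix

namespace Cfsg.Agent.Lib.Helper9.C6U4

open Cfsg.Agent.Lib.Helper9.C6D4 (QD Cliff two_mat)
open Cfsg.Agent.Lib.Helper9.C6L4 (four_mat refl_sq omega_mul_inv)

section Star

variable {F : Type*} [Field F] {ι : Type} [Fintype ι] [DecidableEq ι] (σ : F ≃+* F)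

/-- the adjoint `M ↦ (σ M)ᵀ` -/
def st (M : Matrix ι ι F) : Matrix ι ι F := (M.map σ)ᵀ

theorem st_apply (M : Matrix ι ι F) (i j : ι) : st σ M i j = σ (M j i) := rfl

theorem st_mul (M N : Matrix ι ι F) : st σ (M * N) = st σ N * st σ M := by
  ext i j
  simp only [st_apply, Matrix.mul_apply, map_sum, map_mul]
  apply Finset.sum_congr rfl
  intro k _
  rw [mul_comm]

theorem st_add (M N : Matrix ι ι F) : st σ (M + N) = st σ M + st σ N := by
  ext i j
  simp [st_apply]

theorem st_sub (M N : Matrix ι ι F) : st σ (M - N) = st σ M - st σ N := by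
  ext i j
  simp [st_apply]

theorem st_neg (M : Matrix ι ι F) : st σ (-M) = -st σ M := by
  ext i j
  simp [st_apply]

theorem st_smul (c : F) (M : Matrix ι ι F) : st σ (c • M) = σ c • st σ M := by
  ext i j
  simp [st_apply]

theorem st_one : st σ (1 : Matrix ι ι F) = 1 := by
  ext i j
  rw [st_apply, Matrix.one_apply, Matrix.one_apply]
  by_cases h : i = j
  · subst h
    simp
  · rw [if_neg h, if_neg (Ne.symm h), map_zero]

theorem st_st (hσ2 : ∀ a : F, σ (σ a) = a) (M : Matrix ι ι F) : st σ (st σ M) = M := by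
  ext i j
  simp [st_apply, hσ2]

theorem trace_st (M : Matrix ι ι F) : (st σ M).trace = σ M.trace := by
  simp only [Matrix.trace, Matrix.diag_apply, st_apply, map_sum]

theorem st_pow (M : Matrix ι ι F) (n : ℕ) : st σ (M ^ n) = (st σ M) ^ n := by
  induction n with
  | zero => rw [pow_zero, pow_zero, st_one]
  | succ n ih => rw [pow_succ, st_mul, ih, pow_succ']

/-- `M` is unitary -/
def IsUn (M : Matrix ι ι F) : Prop := M * st σ M = 1

theorem IsUn.mul {M N : Matrix ι ι F} (hM : IsUn σ M) (hN : IsUn σ N) : IsUn σ (M * N) := by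
  unfold IsUn at *
  rw [st_mul]
  calc M * N * (st σ N * st σ M) = M * (N * st σ N) * st σ M := by simp only [mul_assoc]
    _ = 1 := by rw [hN, mul_one, hM]

theorem IsUn.st_mul_self {M : Matrix ι ι F} (hM : IsUn σ M) : st σ M * M = 1 :=
  mul_eq_one_comm.mp hM

theorem isUn_one : IsUn σ (1 : Matrix ι ι F) := by
  unfold IsUn
  rw [st_one, mul_one]

theorem IsUn.pow {M : Matrix ι ι F} (hM : IsUn σ M) (n : ℕ) : IsUn σ (M ^ n) := by
  induction n with
  | zero => rw [pow_zero]; exact isUn_one σ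
  | succ n ih => rw [pow_succ]; exact ih.mul σ hM

theorem isUn_smul_one (c : F) (hc : c * σ c = 1) : IsUn σ (c • (1 : Matrix ι ι F)) := by
  unfold IsUn
  rw [st_smul, st_one, Matrix.smul_mul, Matrix.one_mul, smul_smul, hc, one_smul]

theorem IsUn.smul {M : Matrix ι ι F} (hM : IsUn σ M) (c : F) (hc : c * σ c = 1) :
    IsUn σ (c • M) := by
  unfold IsUn at *
  rw [st_smul, Matrix.smul_mul, Matrix.mul_smul, smul_smul, hM, hc, one_smul]

/-- a unitary involution is self-adjoint -/
theorem st_of_invol {M : Matrix ι ι F} (hU : IsUn σ M) (hMM : M * M = 1) : st σ M = M := by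
  calc st σ M = (M * M) * st σ M := by rw [hMM, one_mul]
    _ = M * (M * st σ M) := by rw [mul_assoc]
    _ = M := by rw [hU, mul_one]

/-- a unitary matrix of square `-1` is skew-adjoint -/
theorem st_of_sqneg {M : Matrix ι ι F} (hU : IsUn σ M) (hMM : M * M = -1) : st σ M = -M := by
  calc st σ M = -(M * M) * st σ M := by rw [hMM, neg_neg, one_mul]
    _ = -(M * (M * st σ M)) := by rw [neg_mul, mul_assoc]
    _ = -M := by rw [hU, mul_one]

theorem sigma_two_inv : σ (2⁻¹ : F) = 2⁻¹ := by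
  rw [map_inv₀, map_ofNat]

theorem isUn_refl (h2 : (2 : F) ≠ 0) (a b : Matrix ι ι F) (sa : st σ a = a) (sb : st σ b = b)
    (haa : a * a = 1) (hbb : b * b = 1) (hba : b * a = a * b) :
    IsUn σ ((2⁻¹ : F) • (1 + a + b - a * b)) := by
  have hst : st σ ((2⁻¹ : F) • (1 + a + b - a * b)) = (2⁻¹ : F) • (1 + a + b - a * b) := by
    rw [st_smul, st_sub, st_add, st_add, st_one, st_mul, sa, sb, sigma_two_inv, hba]
  unfold IsUn
  rw [hst, Matrix.smul_mul, Matrix.mul_smul, smul_smul, refl_sq haa hbb hba, four_mat h2]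

theorem isUn_om (h2 : (2 : F) ≠ 0) (P Q : Matrix ι ι F) (sP : st σ P = -P) (sQ : st σ Q = -Q)
    (hPP : P * P = -1) (hQQ : Q * Q = -1) (hQP : Q * P = -(P * Q)) :
    IsUn σ ((2⁻¹ : F) • (-1 + P + Q + P * Q)) := by
  have hst : st σ ((2⁻¹ : F) • (-1 + P + Q + P * Q)) = (2⁻¹ : F) • (-1 - P - Q - P * Q) := by
    rw [st_smul, st_add, st_add, st_add, st_neg, st_one, st_mul, sP, sQ, sigma_two_inv,
      neg_mul_neg, hQP]
    congr 1
    abel
  unfold IsUn
  rw [hst, Matrix.smul_mul, Matrix.mul_smul, smul_smul, omega_mul_inv hPP hQQ hQP, four_mat h2]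

/-- unitary up to a scalar -/
def SimU (c : F) (M : Matrix ι ι F) : Prop := M * st σ M = c • 1

theorem SimU.mul {c d : F} {M N : Matrix ι ι F} (hM : SimU σ c M) (hN : SimU σ d N) :
    SimU σ (c * d) (M * N) := by
  unfold SimU at *
  rw [st_mul]
  calc M * N * (st σ N * st σ M) = M * (N * st σ N) * st σ M := by simp only [mul_assoc]
    _ = (c * d) • 1 := by
        rw [hN, Matrix.mul_smul, Matrix.mul_one, Matrix.smul_mul, hM, smul_smul, mul_comm]

theorem simU_up {γ : Fin 5 → Matrix ι ι F} (hγ : Cliff γ) (hs : ∀ k, st σ (γ k) = γ k)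
    {i j : Fin 5} (hij : i ≠ j) : SimU σ 2 (1 + γ i * γ j) := by
  unfold SimU
  rw [st_add, st_one, st_mul, hs, hs, hγ.anti j i hij.symm, ← sub_eq_add_neg, hγ.up_um hij]
  rw [two_smul, one_add_one_eq_two]

end Star

section GU

variable {F : Type*} [Field F] {n : ℕ}

theorem mem_GU_iff_isUn (σ : F ≃+* F) (q : ℕ) (hσq : ∀ a : F, σ a = a ^ q) (g : GL (Fin n) F) :
    g ∈ Cfsg.GU n F q ↔ IsUn σ (g : Matrix (Fin n) (Fin n) F) :=
  Cfsg.Agent.Lib.Helper5.PSLCoset.mem_GU_iff' σ q hσq g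

end GU

end Cfsg.Agent.Lib.Helper9.C6U4
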