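import Mathlib
import Cfsg.Agent.Lib.Helper9.C6U4a

set_option autoImplicit false

/-! Unitary elements of the normaliser of `R` (order `2^6`): a reflection, elements of order three,
an element of order five. -/

open scoped MatrixGroups Matrix

namespace Cfsg.Agent.Lib.Helper9.C6U4

open Cfsg.Agent.Lib.Helper9.C6D4 (QD Cliff gam gamG gamG_coe Gm cj cj_eq_iff cj_coe cj_comp
  cj_neg cj_scalar cj_one_left cj_smul cj_mul trace_cj one_ne_neg_one_mat smul_one_eq_smul_one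
  conj_mem_of_normalizer g4 Wu Wu_coe cj_g4_0 cj_g4_1 cj_g4_2 cj_g4_3 cj_g4_4 all5 scU scU_coe
  ne01 ne12 ne23 ne34)
open Cfsg.Agent.Lib.Helper9.C6L4

variable {F : Type*} [Field F] {ι : Type} [Fintype ι] [DecidableEq ι]
  {R : Subgroup (GL ι F)} {G1 G2 A B : GL ι F} {i : F}

section Main

variable [Fintype F] [Nonempty ι]

theorem refl_ne_neg_one (h2 : (2 : F) ≠ 0) (a b : Matrix ι ι F) (haa : a * a = 1)
    (ha : a ≠ -1) : (2⁻¹ : F) • (1 + a + b - a * b) ≠ -1 := by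
  intro h
  have h' : 1 + a + b - a * b = -((2 : F) • (1 : Matrix ι ι F)) := by
    have := congrArg (fun M : Matrix ι ι F => (2 : F) • M) h
    simp only [smul_smul, mul_inv_cancel₀ h2, one_smul, smul_neg] at this
    exact this
  have hab : a * (a * b) = b := by rw [← mul_assoc, haa, one_mul]
  have key : (1 + a) * (1 + a + b - a * b) = (2 : F) • (1 + a) := by
    rw [two_smul]
    simp only [mul_add, add_mul, mul_sub, one_mul, mul_one, haa, hab]
    abel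
  rw [h', mul_neg, Matrix.mul_smul, mul_one] at key
  have h4 : ((2 : F) + 2) • (1 + a) = 0 := by
    rw [add_smul]
    nth_rewrite 1 [← key]
    rw [neg_add_cancel]
  rcases smul_eq_zero.1 h4 with h0 | h0
  · apply h2
    have : (2 : F) * 2 = 0 := by linear_combination h0
    rcases mul_eq_zero.1 this with h'' | h'' <;> exact h''
  · exact ha (eq_neg_of_add_eq_zero_right h0)

theorem Config4.exists_reflection_U (h2 : (2 : F) ≠ 0) (hC : Config4 R G1 G2 A B i)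
    (hι : Fintype.card ι = 4) (σ : F ≃+* F)
    (hRU : ∀ h ∈ R, IsUn σ ((h : GL ι F) : Matrix ι ι F)) :
    ∃ t : GL ι F, t ∈ Cfsg.Geo.subgroupNormalizer R ∧
      (t : Matrix ι ι F) * (t : Matrix ι ι F) = 1 ∧ (t : Matrix ι ι F).trace = 2 ∧
      IsUn σ (t : Matrix ι ι F) ∧ (t : Matrix ι ι F) ≠ -1 := by
  obtain ⟨I, hIR, hI⟩ := hC.mI
  have hb : ((I * A : GL ι F) : Matrix ι ι F) = i • (A : Matrix ι ι F) := by
    rw [Units.val_mul, hI, Matrix.smul_mul, Matrix.one_mul]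
  have hbR : I * A ∈ R := R.mul_mem hIR hC.mA
  have haa : (G1 : Matrix ι ι F) * (G1 : Matrix ι ι F) = 1 := hC.qd.g11
  have hbb : ((I * A : GL ι F) : Matrix ι ι F) * ((I * A : GL ι F) : Matrix ι ι F) = 1 := by
    rw [hb, Matrix.smul_mul, Matrix.mul_smul, smul_smul, hC.ii, hC.qd.aa]
    simp
  have hba : ((I * A : GL ι F) : Matrix ι ι F) * (G1 : Matrix ι ι F) =
      (G1 : Matrix ι ι F) * ((I * A : GL ι F) : Matrix ι ι F) := by
    rw [hb, Matrix.smul_mul, Matrix.mul_smul, hC.qd.ag1]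
  have hG1 : (G1 : Matrix ι ι F) ≠ -1 := by
    intro h
    have h21 := hC.qd.g21
    rw [h, mul_neg, mul_one, neg_mul, one_mul, neg_neg] at h21
    have hz : ((2 : F)) • (G2 : Matrix ι ι F) = 0 := by
      rw [two_smul]
      nth_rewrite 1 [← h21]
      rw [neg_add_cancel]
    rcases smul_eq_zero.1 hz with h0 | h0
    · exact h2 h0
    · have h22 := hC.qd.g22
      rw [h0, mul_zero] at h22
      exact zero_ne_one h22
  refine ⟨reflU h2 _ _ haa hbb hba, ?_, reflU_sq h2 _ _ haa hbb hba, ?_, ?_, ?_⟩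
  · apply hC.mem_normalizer
    · apply conj_mem_of_cj R _ _ G1 hC.m1
      exact cj_reflU_comm h2 _ _ haa hbb hba _ rfl hba.symm
    · apply conj_mem_of_cj R _ _ (G2 * (I * A)) (R.mul_mem hC.m2 hbR)
      rw [Units.val_mul G2]
      apply cj_reflU_anti_a h2 _ _ haa hbb hba _ hC.qd.g21
      rw [hb, Matrix.smul_mul, Matrix.mul_smul, hC.qd.ag2]
    · apply conj_mem_of_cj R _ _ A hC.mA
      apply cj_reflU_comm h2 _ _ haa hbb hba _ hC.qd.ag1
      rw [hb, Matrix.smul_mul, Matrix.mul_smul]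
    · apply conj_mem_of_cj R _ _ (B * G1) (R.mul_mem hC.mB hC.m1)
      rw [Units.val_mul B]
      apply cj_reflU_anti_b h2 _ _ haa hbb hba _ hC.qd.bg1
      rw [hb, Matrix.smul_mul, Matrix.mul_smul, hC.qd.ba, smul_neg]
  · have t1 : (G1 : Matrix ι ι F).trace = 0 := by
      apply trace_zero_of_anti h2 _ G2
      rw [hC.qd.g21, neg_neg]
    have tA : (A : Matrix ι ι F).trace = 0 := by
      apply trace_zero_of_anti h2 _ B
      rw [hC.qd.ba, neg_neg]
    have t2 : ((I * A : GL ι F) : Matrix ι ι F).trace = 0 := by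
      rw [hb, Matrix.trace_smul, tA, smul_zero]
    have t3 : ((G1 : Matrix ι ι F) * ((I * A : GL ι F) : Matrix ι ι F)).trace = 0 := by
      rw [← hba]
      rw [hb, Matrix.smul_mul, Matrix.trace_smul]
      have : ((A : Matrix ι ι F) * (G1 : Matrix ι ι F)).trace = 0 := by
        apply trace_mul_zero_of h2 _ _ G2 hC.qd.ag2
        rw [hC.qd.g21, neg_neg]
      rw [this, smul_zero]
    rw [reflU_coe, Matrix.trace_smul, Matrix.trace_sub, Matrix.trace_add, Matrix.trace_add,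
      Matrix.trace_one, t1, t2, t3, hι, smul_eq_mul]
    push_cast
    field_simp
    ring
  · rw [reflU_coe]
    exact isUn_refl σ h2 _ _ (st_of_invol σ (hRU G1 hC.m1) haa) (st_of_invol σ (hRU _ hbR) hbb)
      haa hbb hba
  · rw [reflU_coe]
    exact refl_ne_neg_one h2 _ _ haa hG1

theorem Config4.exists_omega_U (h2 : (2 : F) ≠ 0) (hC : Config4 R G1 G2 A B i)
    (hι : Fintype.card ι = 4) (σ : F ≃+* F)
    (hRU : ∀ h ∈ R, IsUn σ ((h : GL ι F) : Matrix ι ι F)) :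
    ∃ yA yB : GL ι F, yA ∈ Cfsg.Geo.subgroupNormalizer R ∧ yB ∈ Cfsg.Geo.subgroupNormalizer R ∧
      yA ^ 3 = 1 ∧ yB ^ 3 = 1 ∧ (yA : Matrix ι ι F).trace = 1 ∧ (yB : Matrix ι ι F).trace = -2 ∧
      IsUn σ (yA : Matrix ι ι F) ∧ IsUn σ (yB : Matrix ι ι F) := by
  obtain ⟨I, hIR, hI⟩ := hC.mI
  obtain ⟨z, hzR, hz⟩ := hC.negone
  -- the second element
  have hPP2 := hC.qd.aa
  have hQQ2 := hC.qd.bb
  have hQP2 := hC.qd.ba
  set w2 := omU h2 (A : Matrix ι ι F) (B : Matrix ι ι F) hPP2 hQQ2 hQP2 with hw2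
  have hw2N : w2 ∈ Cfsg.Geo.subgroupNormalizer R := by
    apply hC.mem_normalizer
    · apply conj_mem_of_cj R _ _ G1 hC.m1
      exact cj_omU_comm h2 _ _ hPP2 hQQ2 hQP2 _ hC.qd.ag1.symm hC.qd.bg1.symm
    · apply conj_mem_of_cj R _ _ G2 hC.m2
      exact cj_omU_comm h2 _ _ hPP2 hQQ2 hQP2 _ hC.qd.ag2.symm hC.qd.bg2.symm
    · apply conj_mem_of_cj R _ _ (A * B) (R.mul_mem hC.mA hC.mB)
      rw [Units.val_mul A]
      exact cj_omU_P h2 _ _ hPP2 hQQ2 hQP2
    · apply conj_mem_of_cj R _ _ A hC.mA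
      exact cj_omU_Q h2 _ _ hPP2 hQQ2 hQP2
  -- the first element
  have hP : ((G1 * G2 : GL ι F) : Matrix ι ι F) = (G1 : Matrix ι ι F) * (G2 : Matrix ι ι F) :=
    Units.val_mul _ _
  have hQ : ((I * G1 : GL ι F) : Matrix ι ι F) = i • (G1 : Matrix ι ι F) := by
    rw [Units.val_mul, hI, Matrix.smul_mul, Matrix.one_mul]
  have hPP1 : ((G1 * G2 : GL ι F) : Matrix ι ι F) * ((G1 * G2 : GL ι F) : Matrix ι ι F) = -1 := by
    rw [hP]
    exact hC.qd.I_sq
  have hQQ1 : ((I * G1 : GL ι F) : Matrix ι ι F) * ((I * G1 : GL ι F) : Matrix ι ι F) = -1 := by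
    rw [hQ, Matrix.smul_mul, Matrix.mul_smul, smul_smul, hC.ii, hC.qd.g11]
    simp
  have hQP1 : ((I * G1 : GL ι F) : Matrix ι ι F) * ((G1 * G2 : GL ι F) : Matrix ι ι F) =
      -(((G1 * G2 : GL ι F) : Matrix ι ι F) * ((I * G1 : GL ι F) : Matrix ι ι F)) := by
    rw [hP, hQ, Matrix.smul_mul, Matrix.mul_smul, ← mul_assoc, hC.qd.g11, one_mul,
      mul_assoc, hC.qd.g21, mul_neg, ← mul_assoc, hC.qd.g11, one_mul, smul_neg, neg_neg]
  set w1 := omU h2 ((G1 * G2 : GL ι F) : Matrix ι ι F) ((I * G1 : GL ι F) : Matrix ι ι F)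
    hPP1 hQQ1 hQP1 with hw1
  have hAP : (A : Matrix ι ι F) * ((G1 * G2 : GL ι F) : Matrix ι ι F) =
      ((G1 * G2 : GL ι F) : Matrix ι ι F) * (A : Matrix ι ι F) := by
    rw [hP, ← mul_assoc, hC.qd.ag1, mul_assoc, hC.qd.ag2, mul_assoc]
  have hAQ : (A : Matrix ι ι F) * ((I * G1 : GL ι F) : Matrix ι ι F) =
      ((I * G1 : GL ι F) : Matrix ι ι F) * (A : Matrix ι ι F) := by
    rw [hQ, Matrix.smul_mul, Matrix.mul_smul, hC.qd.ag1]
  have hBP : (B : Matrix ι ι F) * ((G1 * G2 : GL ι F) : Matrix ι ι F) =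
      ((G1 * G2 : GL ι F) : Matrix ι ι F) * (B : Matrix ι ι F) := by
    rw [hP, ← mul_assoc, hC.qd.bg1, mul_assoc, hC.qd.bg2, mul_assoc]
  have hBQ : (B : Matrix ι ι F) * ((I * G1 : GL ι F) : Matrix ι ι F) =
      ((I * G1 : GL ι F) : Matrix ι ι F) * (B : Matrix ι ι F) := by
    rw [hQ, Matrix.smul_mul, Matrix.mul_smul, hC.qd.bg1]
  have hzI : ((z * I : GL ι F) : Matrix ι ι F) = (-i) • (1 : Matrix ι ι F) := by
    rw [Units.val_mul, hz, hI]
    simp
  -- images of the generators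
  have c1 : cj w1 (G1 : Matrix ι ι F) = ((z * I * (G1 * G2) : GL ι F) : Matrix ι ι F) := by
    have hG1 : (G1 : Matrix ι ι F) = (-i) • ((I * G1 : GL ι F) : Matrix ι ι F) := by
      rw [hQ, smul_smul]
      have : -i * i = 1 := by linear_combination -hC.ii
      rw [this, one_smul]
    rw [hG1, cj_smul, cj_omU_Q h2 _ _ hPP1 hQQ1 hQP1, Units.val_mul (z * I), hzI,
      Matrix.smul_mul, Matrix.one_mul]
  have c2 : cj w1 (G2 : Matrix ι ι F) = ((z * G1 : GL ι F) : Matrix ι ι F) := by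
    have hG2 : (G2 : Matrix ι ι F) = (G1 : Matrix ι ι F) * ((G1 * G2 : GL ι F) : Matrix ι ι F) := by
      rw [hP, ← mul_assoc, hC.qd.g11, one_mul]
    rw [hG2, cj_mul, c1, cj_omU_P h2 _ _ hPP1 hQQ1 hQP1, Units.val_mul (z * I), hzI,
      Matrix.smul_mul, Matrix.one_mul, Matrix.smul_mul, ← mul_assoc, hPP1, neg_mul, one_mul,
      hQ, smul_neg, smul_smul, Units.val_mul, hz]
    have : -i * i = 1 := by linear_combination -hC.ii
    rw [this, one_smul, neg_one_mul]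
  have hw1N : w1 ∈ Cfsg.Geo.subgroupNormalizer R := by
    apply hC.mem_normalizer
    · exact conj_mem_of_cj R _ _ _ (R.mul_mem (R.mul_mem hzR hIR) (R.mul_mem hC.m1 hC.m2)) c1
    · exact conj_mem_of_cj R _ _ _ (R.mul_mem hzR hC.m1) c2
    · apply conj_mem_of_cj R _ _ A hC.mA
      exact cj_omU_comm h2 _ _ hPP1 hQQ1 hQP1 _ hAP hAQ
    · apply conj_mem_of_cj R _ _ B hC.mB
      exact cj_omU_comm h2 _ _ hPP1 hQQ1 hQP1 _ hBP hBQ
  -- commutation of the two elements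
  set U1 : Matrix ι ι F := -1 + ((G1 * G2 : GL ι F) : Matrix ι ι F) +
    ((I * G1 : GL ι F) : Matrix ι ι F) +
    ((G1 * G2 : GL ι F) : Matrix ι ι F) * ((I * G1 : GL ι F) : Matrix ι ι F) with hU1
  set U2 : Matrix ι ι F := -1 + (A : Matrix ι ι F) + (B : Matrix ι ι F) +
    (A : Matrix ι ι F) * (B : Matrix ι ι F) with hU2
  have hU1A : U1 * (A : Matrix ι ι F) = (A : Matrix ι ι F) * U1 := omega_comm hAP hAQ
  have hU1B : U1 * (B : Matrix ι ι F) = (B : Matrix ι ι F) * U1 := omega_comm hBP hBQ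
  have hU21 : U2 * U1 = U1 * U2 := omega_comm hU1A hU1B
  have hw1v : (w1 : Matrix ι ι F) = (2⁻¹ : F) • U1 := rfl
  have hw2v : (w2 : Matrix ι ι F) = (2⁻¹ : F) • U2 := rfl
  have hcomm : Commute w1 w2 := by
    apply Units.ext
    rw [Units.val_mul, Units.val_mul, hw1v, hw2v, Matrix.smul_mul, Matrix.mul_smul,
      Matrix.smul_mul, Matrix.mul_smul, hU21]
  -- unitarity
  have hw1U : IsUn σ (w1 : Matrix ι ι F) := by
    rw [hw1v, hU1]
    exact isUn_om σ h2 _ _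
      (st_of_sqneg σ (hRU _ (R.mul_mem hC.m1 hC.m2)) hPP1)
      (st_of_sqneg σ (hRU _ (R.mul_mem hIR hC.m1)) hQQ1) hPP1 hQQ1 hQP1
  have hw2U : IsUn σ (w2 : Matrix ι ι F) := by
    rw [hw2v, hU2]
    exact isUn_om σ h2 _ _ (st_of_sqneg σ (hRU _ hC.mA) hPP2) (st_of_sqneg σ (hRU _ hC.mB) hQQ2)
      hPP2 hQQ2 hQP2
  refine ⟨w1 * w2, w2, (Cfsg.Geo.subgroupNormalizer R).mul_mem hw1N hw2N, hw2N, ?_,
    omU_pow_three h2 _ _ hPP2 hQQ2 hQP2, ?_, trace_omU h2 hι A B hPP2 hQQ2 hQP2, ?_, hw2U⟩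
  · rw [hcomm.mul_pow, omU_pow_three h2 _ _ hPP1 hQQ1 hQP1, omU_pow_three h2 _ _ hPP2 hQQ2 hQP2,
      one_mul]
  · -- trace of the product
    obtain ⟨p1, p2, p3⟩ := quat_traces h2 (G1 * G2) (I * G1) hQP1
    have tU1 : U1.trace = -4 := by
      rw [hU1, Matrix.trace_add, Matrix.trace_add, Matrix.trace_add, Matrix.trace_neg,
        Matrix.trace_one, p1, p2, p3, hι]
      push_cast
      ring
    have e1 : (U1 * (A : Matrix ι ι F)).trace = 0 := by
      apply trace_mul_zero_of h2 _ _ B hU1B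
      rw [hC.qd.ba, neg_neg]
    have e2 : (U1 * (B : Matrix ι ι F)).trace = 0 :=
      trace_mul_zero_of h2 _ _ A hU1A hC.qd.ba
    have e3 : (U1 * ((A : Matrix ι ι F) * (B : Matrix ι ι F))).trace = 0 := by
      apply trace_mul_zero_of h2 _ _ A hU1A
      rw [mul_assoc, hC.qd.ba, mul_neg]
    have tU12 : (U1 * U2).trace = 4 := by
      rw [hU2, mul_add, mul_add, mul_add, Matrix.trace_add, Matrix.trace_add, Matrix.trace_add,
        e1, e2, e3, mul_neg, mul_one, Matrix.trace_neg, tU1]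
      ring
    rw [Units.val_mul, hw1v, hw2v, Matrix.smul_mul, Matrix.mul_smul, smul_smul, Matrix.trace_smul,
      tU12, smul_eq_mul]
    field_simp
    ring
  · rw [Units.val_mul]
    exact hw1U.mul σ hw2U

/-- an element of the normaliser, non-scalar, unitary, with scalar fifth power -/
theorem Config4.exists_five_U (h2 : (2 : F) ≠ 0) (hC : Config4 R G1 G2 A B i)
    (hRi : Cfsg.Geo.ActsAbsolutelyIrreducibly (Cfsg.Geo.matrixSet R)) (σ : F ≃+* F)
    (hRU : ∀ h ∈ R, IsUn σ ((h : GL ι F) : Matrix ι ι F)) :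
    ∃ y : GL ι F, y ∈ Cfsg.Geo.subgroupNormalizer R ∧
      (∃ d : F, ((y ^ 5 : GL ι F) : Matrix ι ι F) = d • 1) ∧
      (∀ d : F, (y : Matrix ι ι F) ≠ d • 1) ∧ IsUn σ (y : Matrix ι ι F) := by
  classical
  have hne := one_ne_neg_one_mat (ι := ι) h2
  have hγ : Cliff (Gm G1 G2 A B) := hC.cliffG
  have h4 : (4 : F) ≠ 0 := by
    have : (4 : F) = 2 * 2 := by norm_num
    rw [this]
    exact mul_ne_zero h2 h2
  obtain ⟨z, hzR, hz⟩ := hC.negone
  obtain ⟨y, hydef⟩ : ∃ y : GL ι F, y = scU (4⁻¹ : F) (inv_ne_zero h4) * g4 hγ h2 := ⟨_, rfl⟩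
  have cjy : ∀ M, cj y M = cj (g4 hγ h2) M := by
    intro M
    rw [hydef, cj_comp, cj_scalar _ _ (scU_coe _ _)]
  have c0 : cj y (Gm G1 G2 A B 0) = -Gm G1 G2 A B 1 := by rw [cjy]; exact cj_g4_0 hγ h2
  have c1 : cj y (Gm G1 G2 A B 1) = -Gm G1 G2 A B 2 := by rw [cjy]; exact cj_g4_1 hγ h2
  have c2 : cj y (Gm G1 G2 A B 2) = -Gm G1 G2 A B 3 := by rw [cjy]; exact cj_g4_2 hγ h2
  have c3 : cj y (Gm G1 G2 A B 3) = -Gm G1 G2 A B 4 := by rw [cjy]; exact cj_g4_3 hγ h2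
  have c4 : cj y (Gm G1 G2 A B 4) = Gm G1 G2 A B 0 := by rw [cjy]; exact cj_g4_4 hγ h2
  have conj_mem : ∀ k, y * gamG G1 G2 A B k * y⁻¹ ∈ R := by
    intro k
    have hpm : ∃ l, cj y (Gm G1 G2 A B k) = Gm G1 G2 A B l ∨
        cj y (Gm G1 G2 A B k) = -Gm G1 G2 A B l := by
      rcases all5 k with rfl | rfl | rfl | rfl | rfl
      · exact ⟨1, Or.inr c0⟩
      · exact ⟨2, Or.inr c1⟩
      · exact ⟨3, Or.inr c2⟩
      · exact ⟨4, Or.inr c3⟩
      · exact ⟨0, Or.inl c4⟩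
    obtain ⟨l, hl | hl⟩ := hpm
    · have : y * gamG G1 G2 A B k * y⁻¹ = gamG G1 G2 A B l := by
        apply Units.ext
        rw [← cj_coe]
        exact hl
      rw [this]
      exact hC.gamG_mem l
    · have : y * gamG G1 G2 A B k * y⁻¹ = z * gamG G1 G2 A B l := by
        apply Units.ext
        rw [← cj_coe, Units.val_mul, hz, neg_one_mul]
        exact hl
      rw [this]
      exact R.mul_mem hzR (hC.gamG_mem l)
  have hyN : y ∈ Cfsg.Geo.subgroupNormalizer R := by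
    let T : Subgroup (GL ι F) := R.comap (MulAut.conj y).toMonoidHom
    have hmemT : ∀ h, h ∈ T ↔ y * h * y⁻¹ ∈ R := fun h => Iff.rfl
    have tG1 : G1 ∈ T := (hmemT _).2 (conj_mem 0)
    have tG2 : G2 ∈ T := (hmemT _).2 (conj_mem 1)
    have t2 : G1 * G2 * A ∈ T := (hmemT _).2 (conj_mem 2)
    have t3 : G1 * G2 * B ∈ T := (hmemT _).2 (conj_mem 3)
    have t12 : G1 * G2 ∈ T := T.mul_mem tG1 tG2
    have tA : A ∈ T := by
      have : A = (G1 * G2)⁻¹ * (G1 * G2 * A) := by group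
      rw [this]
      exact T.mul_mem (T.inv_mem t12) t2
    have tB : B ∈ T := by
      have : B = (G1 * G2)⁻¹ * (G1 * G2 * B) := by group
      rw [this]
      exact T.mul_mem (T.inv_mem t12) t3
    exact hC.mem_normalizer y ((hmemT _).1 tG1) ((hmemT _).1 tG2) ((hmemT _).1 tA)
      ((hmemT _).1 tB)
  have c5 : ∀ k, cj (y ^ 5) (Gm G1 G2 A B k) = Gm G1 G2 A B k := by
    intro k
    have e5 : y ^ 5 = y * y * y * y * y := by
      rw [show (5 : ℕ) = 1 + 1 + 1 + 1 + 1 from rfl, pow_succ, pow_succ, pow_succ, pow_succ, pow_one]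
    rw [e5]
    simp only [cj_comp]
    rcases all5 k with rfl | rfl | rfl | rfl | rfl <;>
    simp only [c0, c1, c2, c3, c4, cj_neg, neg_neg]
  obtain ⟨d, hd⟩ := hC.scalar_of_comm_gam hRi
    ((y ^ 5 : GL ι F) : Matrix ι ι F)
    (fun k => by rw [← cj_eq_iff]; exact c5 k)
  refine ⟨y, hyN, ⟨d, hd⟩, ?_, ?_⟩
  · intro e he
    rw [cj_scalar y e he] at c0
    exact absurd (hγ.inj hne (Or.inr c0)) (by decide)
  · -- unitarity
    have hs : ∀ k, st σ (Gm G1 G2 A B k) = Gm G1 G2 A B k := by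
      intro k
      exact st_of_invol σ (hRU _ (hC.gamG_mem k)) (hγ.sq k)
    have simg : SimU σ (2 * 2 * 2 * 2 : F) ((g4 hγ h2 : GL ι F) : Matrix ι ι F) := by
      unfold g4
      rw [Units.val_mul, Units.val_mul, Units.val_mul, Wu_coe, Wu_coe, Wu_coe, Wu_coe]
      exact (((simU_up σ hγ hs ne01).mul σ (simU_up σ hγ hs ne12)).mul σ
        (simU_up σ hγ hs ne23)).mul σ (simU_up σ hγ hs ne34)
    unfold SimU at simg
    unfold IsUn
    rw [hydef, Units.val_mul, scU_coe, Matrix.smul_mul, Matrix.one_mul, st_smul,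
      Matrix.smul_mul, Matrix.mul_smul, smul_smul, simg, smul_smul]
    have h4σ : σ (4⁻¹ : F) = 4⁻¹ := by rw [map_inv₀, map_ofNat]
    rw [h4σ]
    have : (4⁻¹ : F) * 4⁻¹ * (2 * 2 * 2 * 2) = 1 := by
      field_simp
      norm_num
    rw [this, one_smul]

end Main

end Cfsg.Agent.Lib.Helper9.C6U4
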