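import Mathlib
import Cfsg.Agent.Lib.Helper9.C6U4b
import Cfsg.Agent.Lib.Helper1.HermCount
import Cfsg.Agent.Lib.Helper2.HermDecomp

set_option autoImplicit false

/-! `SU_4(p)`: transvection-like elements do not normalise `R`; test elements; arithmetic. -/

open scoped MatrixGroups Matrix

namespace Cfsg.Agent.Lib.Helper9.C6U4

open Cfsg.Agent.Lib.Helper9.C6D4 (QD cj cj_eq_iff cj_coe one_ne_neg_one_mat smul_one_eq_smul_one
  conj_mem_of_normalizer phi_mem centIn mem_centIn centIn_le card_centIn_modEq scU scU_coe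
  zmod5_cases)
open Cfsg.Agent.Lib.Helper9.C6L4

section NoTransvection

variable {F : Type*} [Field F] {ι : Type} [Fintype ι] [DecidableEq ι]
  {R : Subgroup (GL ι F)} {G1 G2 A B : GL ι F} {i : F}

/-- a non-scalar element of the normaliser with an odd scalar power is not of the form
`1 + rank one` -/
theorem Config4.no_transvection' [Fintype F] [Nonempty ι] (h2 : (2 : F) ≠ 0)
    (hC : Config4 R G1 G2 A B i)
    (hRi : Cfsg.Geo.ActsAbsolutelyIrreducibly (Cfsg.Geo.matrixSet R))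
    (hι : Fintype.card ι = 4)
    (y : GL ι F) (hy : y ∈ Cfsg.Geo.subgroupNormalizer R)
    (n : ℕ) (hn : Odd n) (c : F) (hyn : ((y ^ n : GL ι F) : Matrix ι ι F) = c • 1)
    (hns : ∀ d : F, (y : Matrix ι ι F) ≠ d • 1)
    (u ψ : ι → F) (hN : (y : Matrix ι ι F) = 1 + Matrix.vecMulVec u ψ) : False := by
  -- an element of `R` not commuting with `y`
  obtain ⟨h1, hh1R, hh1⟩ : ∃ h1 ∈ R, y * h1 ≠ h1 * y := by
    by_contra hcon
    push Not at hcon
    obtain ⟨d, hd⟩ := hRi.2 (y : Matrix ι ι F) (by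
      rintro s ⟨g, hg, rfl⟩
      show (y : Matrix ι ι F) * (g : Matrix ι ι F) = (g : Matrix ι ι F) * (y : Matrix ι ι F)
      rw [← Units.val_mul, ← Units.val_mul, hcon g hg])
    exact hns d hd
  obtain ⟨k1, hk1def⟩ : ∃ k1 : GL ι F, k1 = h1 * y * h1⁻¹ * y⁻¹ := ⟨_, rfl⟩
  have hk1R : k1 ∈ R := by rw [hk1def]; exact phi_mem y hy h1 hh1R
  have hk1ns : ∀ d : F, (k1 : Matrix ι ι F) ≠ d • 1 := by
    intro d hd
    rw [hk1def] at hd
    exact hh1 (hC.comm_of_phi_scalar y hy n hn c hyn h1 hh1R d hd)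
  have hk11 : k1 ≠ 1 := by
    intro h
    apply hk1ns 1
    rw [h, Units.val_one, one_smul]
  obtain ⟨K, hKdef⟩ : ∃ K : GL ι F, K = y⁻¹ * k1 * y := ⟨_, rfl⟩
  have hKR : K ∈ R := by
    have := conj_mem_of_normalizer y⁻¹ ((Cfsg.Geo.subgroupNormalizer R).inv_mem hy) k1 hk1R
    rw [inv_inv] at this
    rw [hKdef]; exact this
  have hyK : (y : Matrix ι ι F) * (K : Matrix ι ι F) =
      (k1 : Matrix ι ι F) * (y : Matrix ι ι F) := by
    rw [← Units.val_mul, ← Units.val_mul, hKdef]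
    congr 1
    group
  have hDns : ∀ d : F, ((k1⁻¹ * K : GL ι F) : Matrix ι ι F) ≠ d • 1 := by
    intro d hd
    have hDR : k1⁻¹ * K ∈ R := R.mul_mem (R.inv_mem hk1R) hKR
    have hd4 : d ^ 4 = 1 := by
      have hsq := hC.sqs _ hDR
      rw [hd, Matrix.smul_mul, Matrix.mul_smul, Matrix.one_mul, smul_smul] at hsq
      rcases hsq with hsq | hsq
      · have : (d * d) • (1 : Matrix ι ι F) = (1 : F) • (1 : Matrix ι ι F) := by
          rw [hsq, one_smul]
        have := smul_one_eq_smul_one this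
        calc d ^ 4 = (d * d) * (d * d) := by ring
          _ = 1 := by rw [this, one_mul]
      · have : (d * d) • (1 : Matrix ι ι F) = (-1 : F) • (1 : Matrix ι ι F) := by
          rw [hsq, neg_one_smul]
        have := smul_one_eq_smul_one this
        calc d ^ 4 = (d * d) * (d * d) := by ring
          _ = 1 := by rw [this]; ring
    have hd0 : d ≠ 0 := by
      intro h0
      rw [h0] at hd4
      simp at hd4
    have hKd : (K : Matrix ι ι F) = d • (k1 : Matrix ι ι F) := by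
      have : K = k1 * (k1⁻¹ * K) := by group
      rw [this, Units.val_mul, hd, Matrix.mul_smul, Matrix.mul_one]
    rw [hKd, Matrix.mul_smul] at hyK
    have hconj : cj y (k1 : Matrix ι ι F) = d⁻¹ • (k1 : Matrix ι ι F) := by
      rw [cj_eq_iff, Matrix.smul_mul, ← hyK, smul_smul, inv_mul_cancel₀ hd0, one_smul]
    have hdi4 : d⁻¹ ^ 4 = 1 := by rw [inv_pow, hd4, inv_one]
    have hdi := scalar_sign_one y n hn c hyn k1 d⁻¹ hdi4 hconj
    have hd1 : d = 1 := by
      have := congrArg (fun t => t⁻¹) hdi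
      simpa using this
    rw [hd1, one_smul] at hyK
    have hcomm : y * k1 = k1 * y := by
      apply Units.ext
      rw [Units.val_mul, Units.val_mul]
      exact hyK
    -- then `k1 ^ n = 1`
    have hconj' : h1 * y * h1⁻¹ = k1 * y := by rw [hk1def]; group
    have hpow : (h1 * y * h1⁻¹) ^ n = k1 ^ n * y ^ n := by
      rw [hconj']
      exact Commute.mul_pow (show Commute k1 y from hcomm.symm) n
    have h3 : k1 ^ n * y ^ n = 1 * y ^ n := by
      rw [← hpow, conj_pow, comm_of_scalar (y ^ n) c hyn h1]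
      group
    have hk1n : k1 ^ n = 1 := mul_right_cancel h3
    have hk14 : k1 ^ 4 = 1 := by
      apply Units.ext
      rw [Units.val_pow_eq_pow_val, Units.val_one]
      have e4 : (k1 : Matrix ι ι F) ^ 4 =
          ((k1 : Matrix ι ι F) * (k1 : Matrix ι ι F)) *
            ((k1 : Matrix ι ι F) * (k1 : Matrix ι ι F)) := by
        rw [show (4 : ℕ) = 1 + 1 + 1 + 1 from rfl, pow_succ, pow_succ, pow_succ, pow_one]
        simp only [mul_assoc]
      rcases hC.sqs k1 hk1R with h | h <;> rw [e4, h] <;> simp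
    have hd1' := orderOf_dvd_of_pow_eq_one hk1n
    have hd4' := orderOf_dvd_of_pow_eq_one hk14
    have hcop : Nat.Coprime n 4 := by
      have h2' : Nat.Coprime n 2 := Nat.coprime_two_right.mpr hn
      have : (4 : ℕ) = 2 ^ 2 := by norm_num
      rw [this]
      exact Nat.Coprime.pow_right 2 h2'
    have hone : orderOf k1 = 1 :=
      Nat.Coprime.eq_one_of_dvd (Nat.Coprime.coprime_dvd_left hd1' hcop) hd4'
    exact hk11 (orderOf_eq_one_iff.mp hone)
  obtain ⟨h', hh'R, s1, s2, hs, hs2, hc1, hc2⟩ :=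
    hC.exists_separating hRi k1 K hk1R hKR hDns
  obtain ⟨k2, hk2def⟩ : ∃ k2 : GL ι F, k2 = h' * y * h'⁻¹ * y⁻¹ := ⟨_, rfl⟩
  have hKval : (K : Matrix ι ι F) = ((y⁻¹ : GL ι F) : Matrix ι ι F) * (k1 : Matrix ι ι F) *
      (y : Matrix ι ι F) := by
    rw [hKdef, Units.val_mul, Units.val_mul]
  have hanti : (k1 : Matrix ι ι F) * (k2 : Matrix ι ι F) =
      -((k2 : Matrix ι ι F) * (k1 : Matrix ι ι F)) := by
    rw [hk2def, Units.val_mul, Units.val_mul, Units.val_mul]
    rw [hKval] at hc2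
    exact anti_of_signs (y : Matrix ι ι F) ((y⁻¹ : GL ι F) : Matrix ι ι F) (h' : Matrix ι ι F)
      ((h'⁻¹ : GL ι F) : Matrix ι ι F) (k1 : Matrix ι ι F) (Units.mul_inv y) (Units.mul_inv h')
      (Units.inv_mul h') s1 s2 hs hs2 hc1 hc2
  -- a common kernel vector of three functionals
  let f : (ι → F) →ₗ[F] F × F × F :=
    { toFun := fun v => (ψ ⬝ᵥ v, ψ ⬝ᵥ (((h1⁻¹ : GL ι F) : Matrix ι ι F) *ᵥ v),
        ψ ⬝ᵥ (((h'⁻¹ : GL ι F) : Matrix ι ι F) *ᵥ v))
      map_add' := by
        intro v w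
        simp [dotProduct_add, Matrix.mulVec_add]
      map_smul' := by
        intro a v
        simp [dotProduct_smul, Matrix.mulVec_smul] }
  have hker : LinearMap.ker f ≠ ⊥ := by
    apply LinearMap.ker_ne_bot_of_finrank_lt
    rw [Module.finrank_prod, Module.finrank_prod, Module.finrank_self,
      Module.finrank_fintype_fun_eq_card, hι]
    norm_num
  obtain ⟨w, hwker, hw0⟩ := (Submodule.ne_bot_iff _).mp hker
  have hfw : f w = 0 := LinearMap.mem_ker.mp hwker
  have hw1 : ψ ⬝ᵥ w = 0 := congrArg Prod.fst hfw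
  have hw2 : ψ ⬝ᵥ (((h1⁻¹ : GL ι F) : Matrix ι ι F) *ᵥ w) = 0 :=
    congrArg (fun t : F × F × F => t.2.1) hfw
  have hw3 : ψ ⬝ᵥ (((h'⁻¹ : GL ι F) : Matrix ι ι F) *ᵥ w) = 0 :=
    congrArg (fun t : F × F × F => t.2.2) hfw
  have hk1w : (k1 : Matrix ι ι F) *ᵥ w = w := by
    rw [hk1def]; exact comm_fix y h1 u ψ w hN hw1 hw2
  have hk2w : (k2 : Matrix ι ι F) *ᵥ w = w := by
    rw [hk2def]; exact comm_fix y h' u ψ w hN hw1 hw3
  have e1 : ((k1 : Matrix ι ι F) * (k2 : Matrix ι ι F)) *ᵥ w = w := by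
    rw [← Matrix.mulVec_mulVec, hk2w, hk1w]
  have e2 : ((k2 : Matrix ι ι F) * (k1 : Matrix ι ι F)) *ᵥ w = w := by
    rw [← Matrix.mulVec_mulVec, hk1w, hk2w]
  rw [hanti, Matrix.neg_mulVec, e2] at e1
  apply hw0
  have h3 : (2 : F) • w = 0 := by
    rw [two_smul]
    nth_rewrite 1 [← e1]
    rw [neg_add_cancel]
  rcases smul_eq_zero.mp h3 with h4 | h4
  · exact absurd h4 h2
  · exact h4

end NoTransvection

section Arith

variable {F : Type*} [Field F]

/-- cube roots in the group of elements of norm one -/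
theorem norm_one_cube_root {m : ℕ} (hm : 1 < m) (hd : ¬ 3 ∣ m) (z : F) (hz : z ^ m = 1) :
    ∃ c : F, c ^ 3 = z ∧ c ^ m = 1 := by
  have hcop : Nat.Coprime 3 m := (Nat.Prime.coprime_iff_not_dvd Nat.prime_three).2 hd
  obtain ⟨k, -, hk⟩ := Nat.exists_mul_mod_eq_one_of_coprime hcop hm
  refine ⟨z ^ k, ?_, ?_⟩
  · rw [← pow_mul]
    have : k * 3 = m * (3 * k / m) + 1 := by
      have := Nat.div_add_mod (3 * k) m
      omega
    rw [this, pow_add, pow_mul, hz, one_pow, one_mul, pow_one]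
  · rw [← pow_mul, mul_comm, pow_mul, hz, one_pow]

/-- a root of `t² + t - 1` in the prime field -/
theorem exists_tau_zmod {p : ℕ} [Fact p.Prime] (hp2 : p ≠ 2)
    (h5 : orderOf (p : ZMod 5) ≠ 4) : ∃ t : ZMod p, t ^ 2 + t - 1 = 0 := by
  by_cases hp5 : p = 5
  · have h5' : ((5 : ℕ) : ZMod p) = 0 := by
      rw [ZMod.natCast_eq_zero_iff, hp5]
    have h5'' : (5 : ZMod p) = 0 := by exact_mod_cast h5'
    exact ⟨2, by linear_combination h5''⟩
  · have hfact5 : Fact (Nat.Prime 5) := ⟨by norm_num⟩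
    rcases zmod5_cases (p : ZMod 5) with h0 | hsq | h4
    · exfalso
      rw [ZMod.natCast_eq_zero_iff] at h0
      exact hp5 ((Nat.prime_dvd_prime_iff_eq (by norm_num) (Fact.out : p.Prime)).1 h0).symm
    · have hrec := ZMod.exists_sq_eq_prime_iff_of_mod_four_eq_one (p := 5) (q := p)
        (by norm_num) hp2
      obtain ⟨s, hs⟩ := hrec.1 hsq
      have h2' : (2 : ZMod p) ≠ 0 := by
        intro h
        have h' : ((2 : ℕ) : ZMod p) = 0 := by exact_mod_cast h
        rw [ZMod.natCast_eq_zero_iff] at h'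
        exact hp2 ((Nat.prime_dvd_prime_iff_eq (Fact.out : p.Prime) Nat.prime_two).1 h')
      have hs' : s * s = 5 := by
        rw [← hs]
        norm_num
      refine ⟨(s - 1) / 2, ?_⟩
      field_simp
      linear_combination hs'
    · exact absurd h4 h5

theorem exists_tau_fixed {p : ℕ} [Fact p.Prime] [CharP F p] (hp2 : p ≠ 2)
    (h5 : orderOf (p : ZMod 5) ≠ 4) (σ : F ≃+* F) :
    ∃ τ : F, τ ^ 2 + τ - 1 = 0 ∧ σ τ = τ := by
  obtain ⟨t, ht⟩ := exists_tau_zmod hp2 h5
  let φ := ZMod.castHom (dvd_refl p) F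
  refine ⟨φ t, ?_, ?_⟩
  · have := congrArg φ ht
    simpa using this
  · have h : (σ : F →+* F).comp φ = φ := Subsingleton.elim _ _
    have := congrArg (fun ψ : ZMod p →+* F => ψ t) h
    simpa using this

end Arith

end Cfsg.Agent.Lib.Helper9.C6U4
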