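import Mathlib
import Cfsg.Agent.Lib.Helper9.C6U4c

set_option autoImplicit false

/-! `SU_4(p)`: test elements of order three and five. -/

open scoped MatrixGroups Matrix

namespace Cfsg.Agent.Lib.Helper9.C6U4

open Cfsg.Agent.Lib.C6Pk (pk7_det_fin_four pk7_D pk7_D2 pk7_x3 pk7_D_mul_D pk7_D2_mul_D)

variable {F : Type*} [Field F]

/-- the test element of order three, `p ≡ 2 (mod 3)` -/
theorem test_three_U (h3 : (3 : F) ≠ 0) (ω : F) (hω : ω ^ 2 + ω + 1 = 0) (σ : F ≃+* F)
    (hσω : ω * σ ω = 1) :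
    ∃ x : GL (Fin 4) F, x ∈ Cfsg.Geo.specialLinear (Fin 4) F ∧ x ^ 3 = 1 ∧
      (∀ z : F, (x : Matrix (Fin 4) (Fin 4) F) ≠ z • 1) ∧
      (x : Matrix (Fin 4) (Fin 4) F).trace = 3 * ω + 1 ∧
      ((x⁻¹ : GL (Fin 4) F) : Matrix (Fin 4) (Fin 4) F).trace = 3 * ω ^ 2 + 1 ∧
      IsUn σ (x : Matrix (Fin 4) (Fin 4) F) := by
  have hv : ((pk7_x3 ω hω : GL (Fin 4) F) : Matrix (Fin 4) (Fin 4) F) = pk7_D ω := rfl
  have hvi : (((pk7_x3 ω hω)⁻¹ : GL (Fin 4) F) : Matrix (Fin 4) (Fin 4) F) = pk7_D2 ω := rfl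
  have hω3 : ω ^ 3 = 1 := by linear_combination (ω - 1) * hω
  refine ⟨pk7_x3 ω hω, ?_, ?_, ?_, ?_, ?_, ?_⟩
  · unfold Cfsg.Geo.specialLinear
    rw [MonoidHom.mem_ker]
    apply Units.ext
    rw [Matrix.GeneralLinearGroup.val_det_apply, hv, Units.val_one, pk7_det_fin_four]
    simp [pk7_D]
    linear_combination hω3
  · apply Units.ext
    rw [Units.val_pow_eq_pow_val, hv, Units.val_one]
    have : pk7_D ω ^ 3 = pk7_D ω * pk7_D ω * pk7_D ω := by
      simp only [pow_succ, pow_zero, one_mul]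
    rw [this, pk7_D_mul_D, pk7_D2_mul_D ω hω]
  · intro z hz
    rw [hv] at hz
    have h0 := congrFun (congrFun hz 0) 0
    have h1 := congrFun (congrFun hz 3) 3
    simp [pk7_D] at h0 h1
    apply h3
    rw [h0, ← h1] at hω
    linear_combination hω
  · rw [hv]
    simp [pk7_D, Matrix.trace, Fin.sum_univ_four]
    ring
  · rw [hvi]
    simp [pk7_D2, Matrix.trace, Fin.sum_univ_four]
    ring
  · rw [hv]
    unfold IsUn
    ext k l
    fin_cases k <;> fin_cases l <;>
      simp [pk7_D, st_apply, Matrix.mul_apply, Fin.sum_univ_four, hσω]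

/-- the all-ones block -/
def Jm (F : Type*) [Field F] : Matrix (Fin 4) (Fin 4) F :=
  !![1, 1, 1, 0; 1, 1, 1, 0; 1, 1, 1, 0; 0, 0, 0, 0]

theorem Jm_sq (h3z : (3 : F) = 0) : Jm F * Jm F = 0 := by
  have h3' : (1 : F) + 1 + 1 = 0 := by linear_combination h3z
  ext k l
  fin_cases k <;> fin_cases l <;>
    simp [Jm, Matrix.mul_apply, Fin.sum_univ_four, h3']

theorem st_Jm (σ : F ≃+* F) : st σ (Jm F) = Jm F := by
  ext k l
  fin_cases k <;> fin_cases l <;> simp [Jm, st_apply]

/-- the test element of order three in characteristic three: a unitary transvection -/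
theorem test_three_char3 (h3z : (3 : F) = 0) (i : F) (hii : i * i = -1) (σ : F ≃+* F)
    (hσi : σ i = -i) :
    ∃ x : GL (Fin 4) F, x ∈ Cfsg.Geo.specialLinear (Fin 4) F ∧ x ^ 3 = 1 ∧
      (∀ z : F, (x : Matrix (Fin 4) (Fin 4) F) ≠ z • 1) ∧
      IsUn σ (x : Matrix (Fin 4) (Fin 4) F) ∧
      ∃ u ψ : Fin 4 → F, (x : Matrix (Fin 4) (Fin 4) F) = 1 + Matrix.vecMulVec u ψ := by
  obtain ⟨N, hNdef⟩ : ∃ N : Matrix (Fin 4) (Fin 4) F, N = i • Jm F := ⟨_, rfl⟩
  have hNN : N * N = 0 := by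
    rw [hNdef, Matrix.smul_mul, Matrix.mul_smul, Jm_sq h3z, smul_zero, smul_zero]
  have h3N : N + N + N = 0 := by
    have : N + N + N = (3 : F) • N := by
      rw [show (3 : F) = 1 + 1 + 1 by norm_num, add_smul, add_smul, one_smul]
    rw [this, h3z, zero_smul]
  have h12 : (1 + N) * (1 - N) = 1 := by
    rw [mul_sub, add_mul, add_mul, one_mul, mul_one, one_mul, hNN]
    abel
  have h21 : (1 - N) * (1 + N) = 1 := by
    rw [mul_add, sub_mul, sub_mul, one_mul, mul_one, one_mul, hNN]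
    abel
  refine ⟨⟨1 + N, 1 - N, h12, h21⟩, ?_, ?_, ?_, ?_, ?_⟩
  · unfold Cfsg.Geo.specialLinear
    rw [MonoidHom.mem_ker]
    apply Units.ext
    rw [Matrix.GeneralLinearGroup.val_det_apply, Units.val_one]
    show (1 + N).det = 1
    rw [hNdef, pk7_det_fin_four]
    simp [Jm]
    linear_combination i * h3z
  · apply Units.ext
    rw [Units.val_pow_eq_pow_val, Units.val_one]
    show (1 + N) ^ 3 = 1
    rw [show (3 : ℕ) = 1 + 1 + 1 from rfl, pow_succ, pow_succ, pow_one]
    have e2 : (1 + N) * (1 + N) = 1 + (N + N) := by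
      rw [add_mul, one_mul, mul_add, mul_one, hNN]
      abel
    calc (1 + N) * (1 + N) * (1 + N) = (1 + (N + N)) * (1 + N) := by rw [e2]
      _ = 1 + (N + N + N) + (N * N + N * N) := by
          rw [add_mul, one_mul, add_mul, mul_add, mul_one]
          abel
      _ = 1 := by rw [hNN, h3N]; simp
  · intro z hz
    have h01 := congrFun (congrFun hz 0) 1
    have h01' : i = 0 := by
      have : (1 + N) 0 1 = (z • (1 : Matrix (Fin 4) (Fin 4) F)) 0 1 := h01
      rw [hNdef] at this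
      simpa [Jm] using this
    rw [h01'] at hii
    simp at hii
  · show IsUn σ (1 + N)
    unfold IsUn
    have hst : st σ (1 + N) = 1 - N := by
      rw [st_add, st_one, hNdef, st_smul, st_Jm, hσi, neg_smul, sub_eq_add_neg]
    rw [hst, h12]
  · refine ⟨![i, i, i, 0], ![1, 1, 1, 0], ?_⟩
    show 1 + N = _
    rw [hNdef]
    congr 1
    ext k l
    fin_cases k <;> fin_cases l <;> simp [Jm, Matrix.vecMulVec_apply]

/-- the matrix `s N - t` on the first two coordinates, where `N = [[a, b], [-c, a]]` -/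
def rotM (a b c s t : F) : Matrix (Fin 4) (Fin 4) F :=
  !![s * a - t, s * b, 0, 0; -(s * c), s * a - t, 0, 0; 0, 0, 1, 0; 0, 0, 0, 1]

theorem rotM_mul (a b c : F) (hn : a * a + b * c = 1) (s t : F) :
    rotM a b c s t * rotM a b c 1 0 = rotM a b c (2 * a * s - t) s := by
  ext k l
  fin_cases k <;> fin_cases l <;>
    simp [rotM, Matrix.mul_apply, Fin.sum_univ_four] <;>
    first
      | ring1
      | linear_combination (-s) * hn

theorem rotM_one (a b c : F) : rotM a b c 0 (-1) = 1 := by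
  ext k l
  fin_cases k <;> fin_cases l <;> simp [rotM]

/-- the test element of order five -/
theorem test_five_U (τ : F) (hτ : τ ^ 2 + τ - 1 = 0) (h5 : (5 : F) ≠ 0) (a b c : F)
    (ha : 2 * a = τ) (hn : a * a + b * c = 1) (σ : F ≃+* F) (hσa : σ a = a) (hσb : σ b = c)
    (hσc : σ c = b) :
    ∃ x : GL (Fin 4) F, x ∈ Cfsg.Geo.specialLinear (Fin 4) F ∧ x ^ 5 = 1 ∧
      (∀ z : F, (x : Matrix (Fin 4) (Fin 4) F) ≠ z • 1) ∧
      (x : Matrix (Fin 4) (Fin 4) F).trace = τ + 2 ∧
      ((x⁻¹ : GL (Fin 4) F) : Matrix (Fin 4) (Fin 4) F).trace = τ + 2 ∧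
      IsUn σ (x : Matrix (Fin 4) (Fin 4) F) := by
  have hinv : rotM a b c (-1) (-τ) * rotM a b c 1 0 = 1 := by
    rw [rotM_mul a b c hn, ← rotM_one a b c]
    congr 1
    linear_combination -ha
  have hinv' : rotM a b c 1 0 * rotM a b c (-1) (-τ) = 1 := mul_eq_one_comm.mp hinv
  refine ⟨⟨rotM a b c 1 0, rotM a b c (-1) (-τ), hinv', hinv⟩, ?_, ?_, ?_, ?_, ?_, ?_⟩
  · unfold Cfsg.Geo.specialLinear
    rw [MonoidHom.mem_ker]
    apply Units.ext
    rw [Matrix.GeneralLinearGroup.val_det_apply, Units.val_one]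
    show (rotM a b c 1 0).det = 1
    rw [pk7_det_fin_four]
    simp [rotM]
    linear_combination hn
  · apply Units.ext
    rw [Units.val_pow_eq_pow_val, Units.val_one]
    show rotM a b c 1 0 ^ 5 = 1
    rw [show (5 : ℕ) = 1 + 1 + 1 + 1 + 1 from rfl, pow_succ, pow_succ, pow_succ, pow_succ, pow_one,
      rotM_mul a b c hn, rotM_mul a b c hn, rotM_mul a b c hn, rotM_mul a b c hn,
      ← rotM_one a b c]
    have e1 : 2 * a * (2 * a * (2 * a * (2 * a * 1 - 0) - 1) - (2 * a * 1 - 0)) -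
        (2 * a * (2 * a * 1 - 0) - 1) = 0 := by
      rw [ha]
      linear_combination (τ ^ 2 - τ - 1) * hτ
    have e2 : 2 * a * (2 * a * (2 * a * 1 - 0) - 1) - (2 * a * 1 - 0) = -1 := by
      rw [ha]
      linear_combination (τ - 1) * hτ
    rw [e1, e2]
  · intro z hz
    have h22 := congrFun (congrFun hz 2) 2
    have h00 := congrFun (congrFun hz 0) 0
    have h22' : (1 : F) = z := by
      have : (rotM a b c 1 0) 2 2 = (z • (1 : Matrix (Fin 4) (Fin 4) F)) 2 2 := h22
      simpa [rotM] using this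
    have h00' : a = z := by
      have : (rotM a b c 1 0) 0 0 = (z • (1 : Matrix (Fin 4) (Fin 4) F)) 0 0 := h00
      simpa [rotM] using this
    apply h5
    have ha1 : a = 1 := by rw [h00', ← h22']
    rw [ha1] at ha
    rw [← ha] at hτ
    linear_combination hτ
  · show (rotM a b c 1 0).trace = τ + 2
    simp [rotM, Matrix.trace, Fin.sum_univ_four]
    linear_combination ha
  · show (rotM a b c (-1) (-τ)).trace = τ + 2
    simp [rotM, Matrix.trace, Fin.sum_univ_four]
    linear_combination -ha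
  · show IsUn σ (rotM a b c 1 0)
    unfold IsUn
    have hst : st σ (rotM a b c 1 0) = rotM a b c (-1) (-τ) := by
      ext k l
      fin_cases k <;> fin_cases l <;>
        simp [rotM, st_apply, hσa, hσb, hσc] <;>
        first
          | linear_combination ha
          | linear_combination -ha
    rw [hst, hinv']

end Cfsg.Agent.Lib.Helper9.C6U4
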