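import Mathlib
import Cfsg.Agent.Lib.Helper9.C6U4b
import Cfsg.Agent.Lib.Helper9.C6U4c
import Cfsg.Agent.Lib.Helper9.C6U4d
import Cfsg.Agent.Lib.Helper1.HermCount

set_option autoImplicit false

/-! `SU_4(p)` and the group `R` of order `2^6`: elements of prime order with no conjugate in the
normaliser of `R`. -/

open scoped MatrixGroups Matrix

namespace Cfsg.Agent.Lib.Helper9.C6U4

open Cfsg.Agent.Lib.Helper9.C6D4 (QD cj cj_eq_iff cj_coe trace_cj one_ne_neg_one_mat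
  smul_one_eq_smul_one conj_mem_of_normalizer centIn mem_centIn centIn_le card_centIn_modEq
  scU scU_coe scalar_central conjv_pow conjv_coe conjv_inv_coe nonscalar_conj conjv_pow_one)
open Cfsg.Agent.Lib.Helper9.C6L4

section General

variable {F : Type*} [Field F] {ι : Type} [Fintype ι] [DecidableEq ι] (σ : F ≃+* F)

theorem norm_of_isUn_smul [Nonempty ι] (z : F) (h : IsUn σ (z • (1 : Matrix ι ι F))) :
    z * σ z = 1 := by
  unfold IsUn at h
  rw [st_smul, st_one, Matrix.smul_mul, Matrix.one_mul, smul_smul] at h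
  obtain ⟨k⟩ := ‹Nonempty ι›
  have := congrFun (congrFun h k) k
  rw [Matrix.smul_apply, Matrix.one_apply_eq, smul_eq_mul, mul_one] at this
  exact this

theorem det_st (M : Matrix ι ι F) : (st σ M).det = σ M.det := by
  unfold st
  rw [Matrix.det_transpose]
  exact ((σ : F →+* F).map_det M).symm

theorem IsUn.det {M : Matrix ι ι F} (h : IsUn σ M) : M.det * σ M.det = 1 := by
  unfold IsUn at h
  have := congrArg Matrix.det h
  rw [Matrix.det_mul, Matrix.det_one, det_st] at this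
  exact this

theorem norm_inv {c : F} (hc : c * σ c = 1) : c⁻¹ * σ c⁻¹ = 1 := by
  rw [map_inv₀, ← mul_inv, hc, inv_one]

theorem norm_div {c d : F} (hc : c * σ c = 1) (hd : d * σ d = 1) : (c / d) * σ (c / d) = 1 := by
  rw [map_div₀, div_mul_div_comm, hc, hd, div_one]

end General

section Core

variable {F : Type*} [Field F] [Fintype F]
  {R : Subgroup (GL (Fin 4) F)} {G1 G2 A B : GL (Fin 4) F} {i : F}

theorem Config4.three_contra (h2 : (2 : F) ≠ 0) (h3 : (3 : F) ≠ 0) (hC : Config4 R G1 G2 A B i)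
    (hRi : Cfsg.Geo.ActsAbsolutelyIrreducibly (Cfsg.Geo.matrixSet R))
    (hR6 : Nat.card R = 64) (ω : F) (hω : ω ^ 2 + ω + 1 = 0)
    (y : GL (Fin 4) F) (hyN : y ∈ Cfsg.Geo.subgroupNormalizer R)
    (hy3 : ((y ^ 3 : GL (Fin 4) F) : Matrix (Fin 4) (Fin 4) F) = (1 : F) • 1)
    (hyns : ∀ d : F, (y : Matrix (Fin 4) (Fin 4) F) ≠ d • 1)
    (hty : ((y : GL (Fin 4) F) : Matrix (Fin 4) (Fin 4) F).trace = 3 * ω + 1)
    (htyi : ((y⁻¹ : GL (Fin 4) F) : Matrix (Fin 4) (Fin 4) F).trace = 3 * ω ^ 2 + 1) :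
    False := by
  have hι : Fintype.card (Fin 4) = 4 := by simp
  haveI : Fact (Nat.Prime 3) := ⟨by norm_num⟩
  have htr := hC.trace_identity h2 hRi hι hR6 y hyN 3 (by decide) 1 hy3
  rw [hty, htyi] at htr
  have h28 : (4 : F) * (3 * ω + 1) * (3 * ω ^ 2 + 1) = 28 := by
    have hω3 : ω ^ 3 = 1 := by linear_combination (ω - 1) * hω
    linear_combination 36 * hω3 + 12 * hω
  rw [h28] at htr
  have hmod := card_centIn_modEq R y hyN 3 1 hy3
  rw [hR6] at hmod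
  have hdvd : Nat.card (centIn R y) ∣ 64 := by
    rw [← hR6]
    exact Subgroup.card_dvd_of_le (centIn_le R y)
  unfold Nat.ModEq at hmod
  rcases dvd64_cases _ hdvd with h | h | h | h | h | h | h <;> rw [h] at hmod
  · rw [h] at htr
    push_cast at htr
    have h27 : (3 : F) * 3 * 3 = 0 := by linear_combination -htr
    rcases mul_eq_zero.1 h27 with h' | h'
    · rcases mul_eq_zero.1 h' with h'' | h''
      · exact h3 h''
      · exact h3 h''
    · exact h3 h'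
  · omega
  · rw [h] at htr
    push_cast at htr
    have h24 : (2 : F) * 2 * 2 * 3 = 0 := by linear_combination -htr
    rcases mul_eq_zero.1 h24 with h' | h'
    · rcases mul_eq_zero.1 h' with h'' | h''
      · rcases mul_eq_zero.1 h'' with h''' | h'''
        · exact h2 h'''
        · exact h2 h'''
      · exact h2 h''
    · exact h3 h'
  · omega
  · rw [h] at htr
    push_cast at htr
    have h12 : (2 : F) * 2 * 3 = 0 := by linear_combination -htr
    rcases mul_eq_zero.1 h12 with h' | h'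
    · rcases mul_eq_zero.1 h' with h'' | h''
      · exact h2 h''
      · exact h2 h''
    · exact h3 h'
  · omega
  · have heq : centIn R y = R :=
      Subgroup.eq_of_le_of_card_ge (centIn_le R y) (by rw [h, hR6])
    obtain ⟨d, hd⟩ := scalar_of_centIn_eq' hRi y (fun h hh => by rw [heq]; exact hh)
    exact hyns d hd

end Core

section Forward

variable {F : Type*} [Field F] [Fintype F] {p : ℕ} [Fact p.Prime] [CharP F p]
  {R : Subgroup (GL (Fin 4) F)} {G1 G2 A B : GL (Fin 4) F} {i : F}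

theorem Config4.fwd_large_U (h2 : (2 : F) ≠ 0) (hC : Config4 R G1 G2 A B i)
    (hRi : Cfsg.Geo.ActsAbsolutelyIrreducibly (Cfsg.Geo.matrixSet R))
    (hR6 : Nat.card R = 64) (hRZ : Nat.card (Subgroup.center R) = 4)
    (r : ℕ) (hr : r.Prime) (hr7 : 7 ≤ r)
    (hdvd : r ∣ Nat.card (Cfsg.GU 4 F p ⊓ Cfsg.Geo.specialLinear (Fin 4) F :
      Subgroup (GL (Fin 4) F)))
    (H : ∀ x ∈ Cfsg.GU 4 F p ⊓ Cfsg.Geo.specialLinear (Fin 4) F,
      (∃ z : F, ((x ^ r : GL (Fin 4) F) : Matrix (Fin 4) (Fin 4) F) =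
        z • (1 : Matrix (Fin 4) (Fin 4) F)) →
      (∀ z : F, (x : Matrix (Fin 4) (Fin 4) F) ≠ z • (1 : Matrix (Fin 4) (Fin 4) F)) →
      ∃ g ∈ Cfsg.GU 4 F p ⊓ Cfsg.Geo.specialLinear (Fin 4) F,
        g⁻¹ * x * g ∈ Cfsg.Geo.subgroupNormalizer R) :
    False := by
  haveI : Fact r.Prime := ⟨hr⟩
  obtain ⟨x, hx⟩ := exists_prime_orderOf_dvd_card' r hdvd
  have hxr : ((((x : GL (Fin 4) F)) ^ r : GL (Fin 4) F) : Matrix (Fin 4) (Fin 4) F) = 1 := by
    have h1 : x ^ r = 1 := by rw [← hx]; exact pow_orderOf_eq_one x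
    have h2' : ((x : GL (Fin 4) F)) ^ r = 1 := by
      rw [← Subgroup.coe_pow, h1, Subgroup.coe_one]
    rw [h2', Units.val_one]
  have hns : ∀ d : F, ((x : GL (Fin 4) F) : Matrix (Fin 4) (Fin 4) F) ≠ d • 1 := by
    intro d hd
    have hdet := (mem_sl_iff _).1 (Subgroup.mem_inf.1 x.2).2
    rw [hd, Matrix.det_smul, Matrix.det_one, mul_one, Fintype.card_fin] at hdet
    have hx4 : x ^ 4 = 1 := by
      apply Subtype.ext
      apply Units.ext
      rw [Subgroup.coe_pow, Subgroup.coe_one, Units.val_pow_eq_pow_val, hd, smul_pow, one_pow,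
        hdet, one_smul, Units.val_one]
    have := orderOf_dvd_of_pow_eq_one hx4
    rw [hx] at this
    have := Nat.le_of_dvd (by norm_num) this
    omega
  obtain ⟨g, hg, hyN⟩ := H x x.2 ⟨1, by rw [hxr, one_smul]⟩ hns
  obtain ⟨d, hd⟩ := hC.scalar_of_large_prime h2 hRi hR6 hRZ _ hyN r hr hr7 1
    (conjv_pow_one g _ r hxr)
  exact nonscalar_conj g _ hns d hd

theorem sigma_i_of_mod4 (hp4 : p % 4 = 3) (σ : F ≃+* F) (hσq : ∀ a : F, σ a = a ^ p)
    (i : F) (hii : i * i = -1) : σ i = -i := by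
  rw [hσq]
  have hp : p = 4 * (p / 4) + 3 := by omega
  have h4 : i ^ 4 = 1 := by
    calc i ^ 4 = (i * i) * (i * i) := by ring
      _ = 1 := by rw [hii]; ring
  have h3 : i ^ 3 = -i := by
    calc i ^ 3 = (i * i) * i := by ring
      _ = -i := by rw [hii]; ring
  rw [hp, pow_add, pow_mul, h4, one_pow, one_mul, h3]

theorem Config4.fwd_three_U (hF : Fintype.card F = p ^ 2) (hp4 : p % 4 = 3) (hp3 : p % 3 ≠ 1)
    (h2 : (2 : F) ≠ 0) (hC : Config4 R G1 G2 A B i)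
    (hRi : Cfsg.Geo.ActsAbsolutelyIrreducibly (Cfsg.Geo.matrixSet R))
    (hR6 : Nat.card R = 64) (σ : F ≃+* F) (hσq : ∀ a : F, σ a = a ^ p)
    (H : ∀ x ∈ Cfsg.GU 4 F p ⊓ Cfsg.Geo.specialLinear (Fin 4) F,
      (∃ z : F, ((x ^ 3 : GL (Fin 4) F) : Matrix (Fin 4) (Fin 4) F) =
        z • (1 : Matrix (Fin 4) (Fin 4) F)) →
      (∀ z : F, (x : Matrix (Fin 4) (Fin 4) F) ≠ z • (1 : Matrix (Fin 4) (Fin 4) F)) →
      ∃ g ∈ Cfsg.GU 4 F p ⊓ Cfsg.Geo.specialLinear (Fin 4) F,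
        g⁻¹ * x * g ∈ Cfsg.Geo.subgroupNormalizer R) :
    False := by
  have hι : Fintype.card (Fin 4) = 4 := by simp
  have hp : p.Prime := Fact.out
  by_cases h3 : (3 : F) = 0
  · -- characteristic three: a transvection
    have hσi := sigma_i_of_mod4 hp4 σ hσq i hC.ii
    obtain ⟨x, hxSL, hx3, hns, hxU, u, ψ, hxN⟩ := test_three_char3 h3 i hC.ii σ hσi
    have hxGU : x ∈ Cfsg.GU 4 F p := (mem_GU_iff_isUn σ p hσq x).2 hxU
    have hx3' : ((x ^ 3 : GL (Fin 4) F) : Matrix (Fin 4) (Fin 4) F) = 1 := by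
      rw [hx3, Units.val_one]
    obtain ⟨g, hg, hyN⟩ := H x (Subgroup.mem_inf.2 ⟨hxGU, hxSL⟩) ⟨1, by rw [hx3', one_smul]⟩ hns
    have hy3 := conjv_pow_one g x 3 hx3'
    have hyns := nonscalar_conj g x hns
    obtain ⟨y, hydef⟩ : ∃ y : GL (Fin 4) F, y = g⁻¹ * x * g := ⟨_, rfl⟩
    rw [← hydef] at hyN hy3 hyns
    have hyN' : ((y : GL (Fin 4) F) : Matrix (Fin 4) (Fin 4) F) =
        1 + Matrix.vecMulVec (((g⁻¹ : GL (Fin 4) F) : Matrix (Fin 4) (Fin 4) F) *ᵥ u)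
          (ψ ᵥ* (g : Matrix (Fin 4) (Fin 4) F)) := by
      rw [hydef, Units.val_mul, Units.val_mul, hxN, mul_add, add_mul, mul_one, Units.inv_mul,
        Matrix.mul_vecMulVec, Matrix.vecMulVec_mul]
    exact Config4.no_transvection' h2 hC hRi hι y hyN 3 (by decide) 1 hy3 hyns _ _ hyN'
  · -- `p ≡ 2 (mod 3)`
    have hp3' : p % 3 = 2 := by
      have hne0 : p % 3 ≠ 0 := by
        intro h0
        have h3p := (Nat.prime_dvd_prime_iff_eq Nat.prime_three hp).1 (Nat.dvd_of_mod_eq_zero h0)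
        apply h3
        have : ((3 : ℕ) : F) = 0 := by rw [h3p]; exact CharP.cast_eq_zero F p
        exact_mod_cast this
      omega
    obtain ⟨k, hk⟩ : ∃ k, p = 3 * k + 2 := ⟨p / 3, by omega⟩
    have hd3 : 3 ∣ Fintype.card F - 1 := by
      rw [hF, hk]
      refine ⟨3 * k ^ 2 + 4 * k + 1, ?_⟩
      apply Nat.sub_eq_of_eq_add
      ring
    obtain ⟨ω, hω⟩ := Cfsg.Agent.Lib.C6Pk.exists_cube_root_unity hd3
    have hω3 : ω ^ 3 = 1 := by linear_combination (ω - 1) * hω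
    have hσω : ω * σ ω = 1 := by
      rw [hσq, ← pow_succ', hk, show 3 * k + 2 + 1 = 3 * (k + 1) by ring, pow_mul, hω3, one_pow]
    obtain ⟨x, hxSL, hx3, hns, htx, htxi, hxU⟩ := test_three_U h3 ω hω σ hσω
    have hxGU : x ∈ Cfsg.GU 4 F p := (mem_GU_iff_isUn σ p hσq x).2 hxU
    have hx3' : ((x ^ 3 : GL (Fin 4) F) : Matrix (Fin 4) (Fin 4) F) = 1 := by
      rw [hx3, Units.val_one]
    obtain ⟨g, hg, hyN⟩ := H x (Subgroup.mem_inf.2 ⟨hxGU, hxSL⟩) ⟨1, by rw [hx3', one_smul]⟩ hns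
    have hy3 := conjv_pow_one g x 3 hx3'
    have hyns := nonscalar_conj g x hns
    obtain ⟨y, hydef⟩ : ∃ y : GL (Fin 4) F, y = g⁻¹ * x * g := ⟨_, rfl⟩
    rw [← hydef] at hyN hy3 hyns
    have hty : ((y : GL (Fin 4) F) : Matrix (Fin 4) (Fin 4) F).trace = 3 * ω + 1 := by
      rw [hydef, conjv_coe, trace_cj, htx]
    have htyi : ((y⁻¹ : GL (Fin 4) F) : Matrix (Fin 4) (Fin 4) F).trace = 3 * ω ^ 2 + 1 := by
      rw [hydef, conjv_inv_coe, trace_cj, htxi]
    exact Config4.three_contra h2 h3 hC hRi hR6 ω hω y hyN hy3 hyns hty htyi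

theorem Config4.fwd_five_U (hF : Fintype.card F = p ^ 2) (hp4 : p % 4 = 3)
    (h5 : orderOf (p : ZMod 5) ≠ 4)
    (h2 : (2 : F) ≠ 0) (hC : Config4 R G1 G2 A B i)
    (hRi : Cfsg.Geo.ActsAbsolutelyIrreducibly (Cfsg.Geo.matrixSet R))
    (hR6 : Nat.card R = 64) (σ : F ≃+* F) (hσq : ∀ a : F, σ a = a ^ p)
    (hσ2 : ∀ a : F, σ (σ a) = a)
    (H : ∀ x ∈ Cfsg.GU 4 F p ⊓ Cfsg.Geo.specialLinear (Fin 4) F,
      (∃ z : F, ((x ^ 5 : GL (Fin 4) F) : Matrix (Fin 4) (Fin 4) F) =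
        z • (1 : Matrix (Fin 4) (Fin 4) F)) →
      (∀ z : F, (x : Matrix (Fin 4) (Fin 4) F) ≠ z • (1 : Matrix (Fin 4) (Fin 4) F)) →
      ∃ g ∈ Cfsg.GU 4 F p ⊓ Cfsg.Geo.specialLinear (Fin 4) F,
        g⁻¹ * x * g ∈ Cfsg.Geo.subgroupNormalizer R) :
    False := by
  have hι : Fintype.card (Fin 4) = 4 := by simp
  have hp : p.Prime := Fact.out
  have hp2 : p ≠ 2 := by omega
  have h5F : (5 : F) ≠ 0 := by
    intro h
    have h' : ((5 : ℕ) : F) = 0 := by exact_mod_cast h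
    rw [CharP.cast_eq_zero_iff F p 5] at h'
    have := (Nat.prime_dvd_prime_iff_eq hp (by norm_num)).1 h'
    omega
  obtain ⟨τ, hτ, hστ⟩ := exists_tau_fixed (F := F) (p := p) hp2 h5 σ
  obtain ⟨a, hadef⟩ : ∃ a : F, a = τ * 2⁻¹ := ⟨_, rfl⟩
  have ha : 2 * a = τ := by
    rw [hadef]
    field_simp
  have hσa : σ a = a := by rw [hadef, map_mul, hστ, sigma_two_inv]
  have hn0 : σ (1 - a * a) = 1 - a * a := by rw [map_sub, map_one, map_mul, hσa]
  obtain ⟨b, hb⟩ : ∃ b : F, b * σ b = 1 - a * a := by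
    by_cases h0 : 1 - a * a = 0
    · exact ⟨0, by rw [h0, zero_mul]⟩
    · have hmem : 1 - a * a ∈ Cfsg.Agent.Lib.Helper1.HermCount.fixedUnits F p := by
        simp only [Cfsg.Agent.Lib.Helper1.HermCount.fixedUnits, Finset.mem_filter,
          Finset.mem_univ, true_and]
        exact ⟨h0, by rw [← hσq, hn0]⟩
      obtain ⟨b, -, hb⟩ := Cfsg.Agent.Lib.Helper1.HermCount.exists_nrm_eq hF hmem
      refine ⟨b, ?_⟩
      rw [hσq]
      exact hb
  have hn : a * a + b * σ b = 1 := by rw [hb]; ring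
  obtain ⟨x, hxSL, hx5, hns, htx, htxi, hxU⟩ :=
    test_five_U τ hτ h5F a b (σ b) ha hn σ hσa rfl (hσ2 b)
  have hxGU : x ∈ Cfsg.GU 4 F p := (mem_GU_iff_isUn σ p hσq x).2 hxU
  have hx5' : ((x ^ 5 : GL (Fin 4) F) : Matrix (Fin 4) (Fin 4) F) = 1 := by
    rw [hx5, Units.val_one]
  obtain ⟨g, hg, hyN⟩ := H x (Subgroup.mem_inf.2 ⟨hxGU, hxSL⟩) ⟨1, by rw [hx5', one_smul]⟩ hns
  have hy5 := conjv_pow_one g x 5 hx5'
  have hyns := nonscalar_conj g x hns
  obtain ⟨y, hydef⟩ : ∃ y : GL (Fin 4) F, y = g⁻¹ * x * g := ⟨_, rfl⟩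
  rw [← hydef] at hyN hy5 hyns
  obtain ⟨hcard, hfpf⟩ := hC.fpf_five h2 hRi hR6 y hyN 1 hy5 hyns
  have htr := hC.trace_identity h2 hRi hι hR6 y hyN 5 (by decide) 1 hy5
  have hty : ((y : GL (Fin 4) F) : Matrix (Fin 4) (Fin 4) F).trace = τ + 2 := by
    rw [hydef, conjv_coe, trace_cj, htx]
  have htyi : ((y⁻¹ : GL (Fin 4) F) : Matrix (Fin 4) (Fin 4) F).trace = τ + 2 := by
    rw [hydef, conjv_inv_coe, trace_cj, htxi]
  rw [hty, htyi, hcard] at htr
  push_cast at htr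
  have e2 : (τ + 2) ^ 2 = 1 := by
    have h' : (2 : F) * 2 * ((τ + 2) ^ 2 - 1) = 0 := by linear_combination -htr
    rcases mul_eq_zero.1 h' with h'' | h''
    · rcases mul_eq_zero.1 h'' with h''' | h'''
      · exact absurd h''' h2
      · exact absurd h''' h2
    · linear_combination h''
  apply h5F
  linear_combination (3 * τ - 1) * (e2 - hτ) - 9 * hτ

end Forward

end Cfsg.Agent.Lib.Helper9.C6U4
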