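import Mathlib
import Cfsg.Agent.Lib.Helper9.C6U4e
import Cfsg.Agent.Lib.Helper4.C6PkU1
import Cfsg.Agent.Lib.Helper4.C6PkU2
import Cfsg.Agent.Lib.Helper2.C6PkU3a
import Cfsg.Agent.Lib.Helper2.C6PkU3b
import Cfsg.Agent.Lib.Helper6.C6PkU5c

set_option autoImplicit false

/-! `SU_4(p)` and the group `R` of order `2^6`: elements of order two, three and five with a
conjugate in the normaliser of `R`. -/

open scoped MatrixGroups Matrix

namespace Cfsg.Agent.Lib.Helper9.C6U4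

open Cfsg.Agent.Lib.Helper9.C6D4 (QD cj cj_eq_iff cj_coe trace_cj one_ne_neg_one_mat
  smul_one_eq_smul_one conj_mem_of_normalizer centIn mem_centIn centIn_le card_centIn_modEq
  scU scU_coe scalar_central conjv_pow conjv_coe conjv_inv_coe nonscalar_conj conjv_pow_one)
open Cfsg.Agent.Lib.Helper9.C6L4

section Normalize

variable {F : Type*} [Field F]

/-- an element of `GU_4` with scalar fifth power has a multiple by a scalar of norm one that has
determinant one and order dividing five -/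
theorem normalize_five_U (σ : F ≃+* F) (w : GL (Fin 4) F) (d : F)
    (hw : ((w ^ 5 : GL (Fin 4) F) : Matrix (Fin 4) (Fin 4) F) = d • 1)
    (hU : IsUn σ (w : Matrix (Fin 4) (Fin 4) F)) :
    ∃ (a : F) (ha : a ≠ 0), a * σ a = 1 ∧
      scU a ha * w ∈ Cfsg.Geo.specialLinear (Fin 4) F ∧ (scU a ha * w) ^ 5 = 1 := by
  have hι : Fintype.card (Fin 4) = 4 := by simp
  have hδ0 := det_ne_zero_GL w
  have hδ : (w : Matrix (Fin 4) (Fin 4) F).det ^ 5 = d ^ 4 := by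
    have := congrArg Matrix.det hw
    rw [Units.val_pow_eq_pow_val, Matrix.det_pow, Matrix.det_smul, Matrix.det_one, hι,
      mul_one] at this
    exact this
  have hd0 : d ≠ 0 := by
    intro h0
    rw [h0] at hδ
    have : (w : Matrix (Fin 4) (Fin 4) F).det ^ 5 = 0 := by rw [hδ]; ring
    exact hδ0 (pow_eq_zero_iff (by norm_num) |>.mp this)
  have hdσ : d * σ d = 1 := by
    apply norm_of_isUn_smul (ι := Fin 4) σ d
    rw [← hw, Units.val_pow_eq_pow_val]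
    exact hU.pow σ 5
  have ha : (w : Matrix (Fin 4) (Fin 4) F).det / d ≠ 0 := div_ne_zero hδ0 hd0
  refine ⟨(w : Matrix (Fin 4) (Fin 4) F).det / d, ha, norm_div σ (hU.det σ) hdσ, ?_, ?_⟩
  · rw [mem_sl_iff, Units.val_mul, scU_coe, Matrix.smul_mul, Matrix.one_mul, Matrix.det_smul, hι]
    have : ((w : Matrix (Fin 4) (Fin 4) F).det / d) ^ 4 * (w : Matrix (Fin 4) (Fin 4) F).det =
        (w : Matrix (Fin 4) (Fin 4) F).det ^ 5 / d ^ 4 := by
      field_simp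
    rw [this, hδ, div_self (pow_ne_zero 4 hd0)]
  · apply Units.ext
    rw [Units.val_pow_eq_pow_val, Units.val_mul, scU_coe, Matrix.smul_mul, Matrix.one_mul,
      smul_pow, ← Units.val_pow_eq_pow_val, hw, smul_smul, Units.val_one]
    have : ((w : Matrix (Fin 4) (Fin 4) F).det / d) ^ 5 * d =
        (w : Matrix (Fin 4) (Fin 4) F).det ^ 5 / d ^ 4 := by
      field_simp
    rw [this, hδ, div_self (pow_ne_zero 4 hd0), one_smul]

end Normalize

section Backward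

variable {F : Type*} [Field F] [Fintype F] {p : ℕ} [Fact p.Prime] [CharP F p]
  {R : Subgroup (GL (Fin 4) F)} {G1 G2 A B : GL (Fin 4) F} {i : F}

theorem Config4.back_two_U (hF : Fintype.card F = p ^ 2) (hp4 : p % 4 = 3) (h2 : (2 : F) ≠ 0)
    (hC : Config4 R G1 G2 A B i) (σ : F ≃+* F) (hσq : ∀ a : F, σ a = a ^ p)
    (hRU : ∀ h ∈ R, IsUn σ ((h : GL (Fin 4) F) : Matrix (Fin 4) (Fin 4) F))
    (x : GL (Fin 4) F) (hxU : x ∈ Cfsg.GU 4 F p)
    (hxS : x ∈ Cfsg.Geo.specialLinear (Fin 4) F) (z : F)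
    (hx2 : ((x ^ 2 : GL (Fin 4) F) : Matrix (Fin 4) (Fin 4) F) = z • 1)
    (hns : ∀ d : F, (x : Matrix (Fin 4) (Fin 4) F) ≠ d • 1) :
    ∃ g ∈ Cfsg.GU 4 F p ⊓ Cfsg.Geo.specialLinear (Fin 4) F,
      g⁻¹ * x * g ∈ Cfsg.Geo.subgroupNormalizer R := by
  have hι : Fintype.card (Fin 4) = 4 := by simp
  have hxx : (x : Matrix (Fin 4) (Fin 4) F) * (x : Matrix (Fin 4) (Fin 4) F) = z • 1 := by
    rw [← pow_two, ← Units.val_pow_eq_pow_val]
    exact hx2
  obtain ⟨c, hc, hcn⟩ := Cfsg.Agent.Lib.C6PkU.su4_sq_scalar hF hp4 x hxU hxS z hxx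
  have hc0 : c ≠ 0 := by
    rintro rfl
    rw [zero_pow (by omega)] at hcn
    exact zero_ne_one hcn
  have hcσ : c * σ c = 1 := by rw [hσq, ← pow_succ', hcn]
  have hcinv := norm_inv σ hcσ
  have hxUn : IsUn σ (x : Matrix (Fin 4) (Fin 4) F) := (mem_GU_iff_isUn σ p hσq x).1 hxU
  obtain ⟨S, hSdef⟩ : ∃ S : GL (Fin 4) F, S = scU c⁻¹ (inv_ne_zero hc0) := ⟨_, rfl⟩
  have hS : (S : Matrix (Fin 4) (Fin 4) F) = c⁻¹ • 1 := by rw [hSdef]; rfl
  obtain ⟨s, hsdef⟩ : ∃ s : GL (Fin 4) F, s = S * x := ⟨_, rfl⟩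
  have hsval : (s : Matrix (Fin 4) (Fin 4) F) = c⁻¹ • (x : Matrix (Fin 4) (Fin 4) F) := by
    rw [hsdef, Units.val_mul, hS, Matrix.smul_mul, Matrix.one_mul]
  have hxs : (x : Matrix (Fin 4) (Fin 4) F) = c • (s : Matrix (Fin 4) (Fin 4) F) := by
    rw [hsval, smul_smul, mul_inv_cancel₀ hc0, one_smul]
  have hsUn : IsUn σ (s : Matrix (Fin 4) (Fin 4) F) := by
    rw [hsval]
    exact hxUn.smul σ c⁻¹ hcinv
  have hsU : s ∈ Cfsg.GU 4 F p := (mem_GU_iff_isUn σ p hσq s).2 hsUn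
  have hss : (s : Matrix (Fin 4) (Fin 4) F) * (s : Matrix (Fin 4) (Fin 4) F) = 1 := by
    rw [hsval, Matrix.smul_mul, Matrix.mul_smul, smul_smul, hxx, smul_smul, ← hc]
    have : c⁻¹ * c⁻¹ * (c * c) = 1 := by field_simp
    rw [this, one_smul]
  have hs1 : (s : Matrix (Fin 4) (Fin 4) F) ≠ 1 := by
    intro h
    apply hns c
    rw [hxs, h]
  have hsm : (s : Matrix (Fin 4) (Fin 4) F) ≠ -1 := by
    intro h
    apply hns (-c)
    rw [hxs, h, smul_neg, neg_smul]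
  have hxS' : x = S⁻¹ * s := by rw [hsdef]; group
  have hSN : S⁻¹ ∈ Cfsg.Geo.subgroupNormalizer R :=
    (Cfsg.Geo.subgroupNormalizer R).inv_mem (scalar_mem_normalizer R S c⁻¹ hS)
  have finish : ∀ t : GL (Fin 4) F, t ∈ Cfsg.Geo.subgroupNormalizer R →
      IsUn σ (t : Matrix (Fin 4) (Fin 4) F) →
      (t : Matrix (Fin 4) (Fin 4) F) * (t : Matrix (Fin 4) (Fin 4) F) = 1 →
      (t : Matrix (Fin 4) (Fin 4) F) ≠ 1 → (t : Matrix (Fin 4) (Fin 4) F) ≠ -1 →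
      (s : Matrix (Fin 4) (Fin 4) F).trace = (t : Matrix (Fin 4) (Fin 4) F).trace →
      ∃ g ∈ Cfsg.GU 4 F p ⊓ Cfsg.Geo.specialLinear (Fin 4) F,
        g⁻¹ * x * g ∈ Cfsg.Geo.subgroupNormalizer R := by
    intro t htN htUn htt ht1 htm htr
    have htU : t ∈ Cfsg.GU 4 F p := (mem_GU_iff_isUn σ p hσq t).2 htUn
    obtain ⟨g, hg, hgs⟩ := Cfsg.Agent.Lib.C6PkU.su4_invol_conj hF h2 s t hsU htU hss htt hs1 hsm
      ht1 htm htr
    refine ⟨g, hg, ?_⟩
    rw [hxS', conj_scalar_mul S g s c⁻¹ hS, hgs]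
    exact (Cfsg.Geo.subgroupNormalizer R).mul_mem hSN htN
  have h4 : (4 : F) ≠ 0 := by
    have : (4 : F) = 2 * 2 := by norm_num
    rw [this]
    exact mul_ne_zero h2 h2
  obtain ⟨t, htN, htt, httr, htUn, htm1⟩ := Config4.exists_reflection_U h2 hC hι σ hRU
  have ht1 : (t : Matrix (Fin 4) (Fin 4) F) ≠ 1 := by
    intro h
    rw [h, tr_one4] at httr
    apply h2
    linear_combination httr
  obtain ⟨zn, hznR, hzn⟩ := hC.negone
  rcases Cfsg.Agent.Lib.C6Pk.gl4_invol_trace h2 (s : Matrix (Fin 4) (Fin 4) F) hss hs1 hsm with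
    htr | htr | htr
  · apply finish t htN htUn htt ht1 htm1
    rw [htr, httr]
  · have htG : (G1 : Matrix (Fin 4) (Fin 4) F).trace = 0 :=
      trace_zero_of_anti h2 (G1 : Matrix (Fin 4) (Fin 4) F) G2 (by rw [hC.qd.g21, neg_neg])
    apply finish G1 (Subgroup.le_normalizer hC.m1) (hRU G1 hC.m1) hC.qd.g11
    · intro h
      rw [h, tr_one4] at htG
      exact h4 htG
    · intro h
      rw [h, Matrix.trace_neg, tr_one4] at htG
      apply h4
      linear_combination -htG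
    · rw [htr, htG]
  · have hval : ((zn * t : GL (Fin 4) F) : Matrix (Fin 4) (Fin 4) F) =
        -(t : Matrix (Fin 4) (Fin 4) F) := by
      rw [Units.val_mul, hzn, neg_one_mul]
    apply finish (zn * t)
      ((Cfsg.Geo.subgroupNormalizer R).mul_mem (Subgroup.le_normalizer hznR) htN)
    · rw [Units.val_mul]
      exact (hRU zn hznR).mul σ htUn
    · rw [hval, neg_mul_neg, htt]
    · rw [hval]
      intro h
      apply htm1
      rw [← h, neg_neg]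
    · rw [hval]
      intro h
      exact ht1 (neg_injective h)
    · rw [htr, hval, Matrix.trace_neg, httr]

theorem Config4.back_three_U (hF : Fintype.card F = p ^ 2) (hp3 : p % 3 = 1) (h2 : (2 : F) ≠ 0)
    (hC : Config4 R G1 G2 A B i) (σ : F ≃+* F) (hσq : ∀ a : F, σ a = a ^ p)
    (hRU : ∀ h ∈ R, IsUn σ ((h : GL (Fin 4) F) : Matrix (Fin 4) (Fin 4) F))
    (x : GL (Fin 4) F) (hxU : x ∈ Cfsg.GU 4 F p)
    (hxS : x ∈ Cfsg.Geo.specialLinear (Fin 4) F) (z : F)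
    (hx3 : ((x ^ 3 : GL (Fin 4) F) : Matrix (Fin 4) (Fin 4) F) = z • 1)
    (hns : ∀ d : F, (x : Matrix (Fin 4) (Fin 4) F) ≠ d • 1) :
    ∃ g ∈ Cfsg.GU 4 F p ⊓ Cfsg.Geo.specialLinear (Fin 4) F,
      g⁻¹ * x * g ∈ Cfsg.Geo.subgroupNormalizer R := by
  have hι : Fintype.card (Fin 4) = 4 := by simp
  have hp : p.Prime := Fact.out
  have h3 : (3 : F) ≠ 0 := by
    intro h
    have h' : ((3 : ℕ) : F) = 0 := by exact_mod_cast h
    rw [CharP.cast_eq_zero_iff F p 3] at h'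
    have := (Nat.prime_dvd_prime_iff_eq hp Nat.prime_three).1 h'
    omega
  have hxUn : IsUn σ (x : Matrix (Fin 4) (Fin 4) F) := (mem_GU_iff_isUn σ p hσq x).1 hxU
  have hzσ : z * σ z = 1 := by
    apply norm_of_isUn_smul (ι := Fin 4) σ z
    rw [← hx3, Units.val_pow_eq_pow_val]
    exact hxUn.pow σ 3
  have hz0 : z ≠ 0 := by
    rintro rfl
    rw [zero_mul] at hzσ
    exact zero_ne_one hzσ
  have hz : z ^ (p + 1) = 1 := by rw [pow_succ', ← hσq, hzσ]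
  obtain ⟨c, hc, hcn⟩ := norm_one_cube_root (m := p + 1) (by have := hp.two_le; omega)
    (by omega) z hz
  have hc0 : c ≠ 0 := by
    rintro rfl
    rw [zero_pow (by omega)] at hcn
    exact zero_ne_one hcn
  have hcσ : c * σ c = 1 := by rw [hσq, ← pow_succ', hcn]
  have hcinv := norm_inv σ hcσ
  obtain ⟨S, hSdef⟩ : ∃ S : GL (Fin 4) F, S = scU c⁻¹ (inv_ne_zero hc0) := ⟨_, rfl⟩
  have hS : (S : Matrix (Fin 4) (Fin 4) F) = c⁻¹ • 1 := by rw [hSdef]; rfl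
  obtain ⟨s, hsdef⟩ : ∃ s : GL (Fin 4) F, s = S * x := ⟨_, rfl⟩
  have hsval : (s : Matrix (Fin 4) (Fin 4) F) = c⁻¹ • (x : Matrix (Fin 4) (Fin 4) F) := by
    rw [hsdef, Units.val_mul, hS, Matrix.smul_mul, Matrix.one_mul]
  have hxs : (x : Matrix (Fin 4) (Fin 4) F) = c • (s : Matrix (Fin 4) (Fin 4) F) := by
    rw [hsval, smul_smul, mul_inv_cancel₀ hc0, one_smul]
  have hsUn : IsUn σ (s : Matrix (Fin 4) (Fin 4) F) := by
    rw [hsval]
    exact hxUn.smul σ c⁻¹ hcinv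
  have hsU : s ∈ Cfsg.GU 4 F p := (mem_GU_iff_isUn σ p hσq s).2 hsUn
  have hs3 : s ^ 3 = 1 := by
    apply Units.ext
    rw [Units.val_pow_eq_pow_val, hsval, smul_pow, ← Units.val_pow_eq_pow_val, hx3, smul_smul,
      inv_pow, hc, inv_mul_cancel₀ hz0, one_smul, Units.val_one]
  have hs1 : s ≠ 1 := by
    intro h
    apply hns c
    rw [hxs, h, Units.val_one]
  -- a cube root of unity in the prime field
  have hd3 : 3 ∣ Fintype.card (ZMod p) - 1 := by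
    rw [ZMod.card]
    omega
  obtain ⟨ω0, hω0⟩ := Cfsg.Agent.Lib.C6Pk.exists_cube_root_unity (F := ZMod p) hd3
  obtain ⟨ω, hωdef⟩ : ∃ ω : F, ω = ZMod.castHom (dvd_refl p) F ω0 := ⟨_, rfl⟩
  have hω : ω ^ 2 + ω + 1 = 0 := by
    have := congrArg (ZMod.castHom (dvd_refl p) F) hω0
    rw [map_add, map_add, map_pow, map_one, map_zero, ← hωdef] at this
    exact this
  have hωp : ω ^ p = ω := by
    rw [hωdef, ← map_pow, ZMod.pow_card]
  have hxS' : x = S⁻¹ * s := by rw [hsdef]; group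
  have hSN : S⁻¹ ∈ Cfsg.Geo.subgroupNormalizer R :=
    (Cfsg.Geo.subgroupNormalizer R).inv_mem (scalar_mem_normalizer R S c⁻¹ hS)
  have finish : ∀ t : GL (Fin 4) F, t ∈ Cfsg.Geo.subgroupNormalizer R →
      IsUn σ (t : Matrix (Fin 4) (Fin 4) F) → t ^ 3 = 1 → t ≠ 1 →
      (s : Matrix (Fin 4) (Fin 4) F).trace = (t : Matrix (Fin 4) (Fin 4) F).trace →
      ∃ g ∈ Cfsg.GU 4 F p ⊓ Cfsg.Geo.specialLinear (Fin 4) F,
        g⁻¹ * x * g ∈ Cfsg.Geo.subgroupNormalizer R := by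
    intro t htN htUn ht3 ht1 htr
    have htU : t ∈ Cfsg.GU 4 F p := (mem_GU_iff_isUn σ p hσq t).2 htUn
    obtain ⟨g, hg, hgs⟩ := Cfsg.Agent.Lib.C6PkU.su4_order3_conj hF h2 h3 ω hω hωp s t hsU htU
      hs3 ht3 hs1 ht1 htr
    refine ⟨g, hg, ?_⟩
    rw [hxS', conj_scalar_mul S g s c⁻¹ hS, hgs]
    exact (Cfsg.Geo.subgroupNormalizer R).mul_mem hSN htN
  have h6 : (6 : F) ≠ 0 := by
    have : (6 : F) = 2 * 3 := by norm_num
    rw [this]
    exact mul_ne_zero h2 h3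
  obtain ⟨yA, yB, hAN, hBN, hA3, hB3, htA, htB, hAUn, hBUn⟩ :=
    Config4.exists_omega_U h2 hC hι σ hRU
  rcases Cfsg.Agent.Lib.C6PkU.gu4_order3_trace hF h3 ω hω hωp s hsU hs3 hs1 with htr | htr
  · apply finish yA hAN hAUn hA3
    · intro h
      rw [h, Units.val_one, tr_one4] at htA
      apply h3
      linear_combination htA
    · rw [htr, htA]
  · apply finish yB hBN hBUn hB3
    · intro h
      rw [h, Units.val_one, tr_one4] at htB
      apply h6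
      linear_combination htB
    · rw [htr, htB]

theorem Config4.back_five_U (hF : Fintype.card F = p ^ 2) (h5 : orderOf (p : ZMod 5) = 4)
    (h2 : (2 : F) ≠ 0) (hC : Config4 R G1 G2 A B i)
    (hRi : Cfsg.Geo.ActsAbsolutelyIrreducibly (Cfsg.Geo.matrixSet R))
    (σ : F ≃+* F) (hσq : ∀ a : F, σ a = a ^ p)
    (hRU : ∀ h ∈ R, IsUn σ ((h : GL (Fin 4) F) : Matrix (Fin 4) (Fin 4) F))
    (x : GL (Fin 4) F) (hxU : x ∈ Cfsg.GU 4 F p)
    (hxS : x ∈ Cfsg.Geo.specialLinear (Fin 4) F) (z : F)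
    (hx5 : ((x ^ 5 : GL (Fin 4) F) : Matrix (Fin 4) (Fin 4) F) = z • 1)
    (hns : ∀ d : F, (x : Matrix (Fin 4) (Fin 4) F) ≠ d • 1) :
    ∃ g ∈ Cfsg.GU 4 F p ⊓ Cfsg.Geo.specialLinear (Fin 4) F,
      g⁻¹ * x * g ∈ Cfsg.Geo.subgroupNormalizer R := by
  have hxUn : IsUn σ (x : Matrix (Fin 4) (Fin 4) F) := (mem_GU_iff_isUn σ p hσq x).1 hxU
  obtain ⟨y, hyN, ⟨d, hd⟩, hyns, hyUn⟩ := Config4.exists_five_U h2 hC hRi σ hRU
  obtain ⟨a, ha, haσ, hy0SL, hy05⟩ := normalize_five_U σ y d hd hyUn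
  obtain ⟨b, hb, hbσ, hx0SL, hx05⟩ := normalize_five_U σ x z hx5 hxUn
  have hy0U : scU a ha * y ∈ Cfsg.GU 4 F p := by
    rw [mem_GU_iff_isUn σ p hσq, Units.val_mul, scU_coe, Matrix.smul_mul, Matrix.one_mul]
    exact hyUn.smul σ a haσ
  have hx0U : scU b hb * x ∈ Cfsg.GU 4 F p := by
    rw [mem_GU_iff_isUn σ p hσq, Units.val_mul, scU_coe, Matrix.smul_mul, Matrix.one_mul]
    exact hxUn.smul σ b hbσ
  have hy0N : scU a ha * y ∈ Cfsg.Geo.subgroupNormalizer R :=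
    (Cfsg.Geo.subgroupNormalizer R).mul_mem (scalar_mem_normalizer R _ a (scU_coe a ha)) hyN
  have hy01 : scU a ha * y ≠ 1 := by
    intro h
    apply hyns a⁻¹
    have h' := congrArg (fun u : GL (Fin 4) F => (u : Matrix (Fin 4) (Fin 4) F)) h
    simp only [Units.val_mul, scU_coe, Matrix.smul_mul, Matrix.one_mul, Units.val_one] at h'
    rw [← h', smul_smul, inv_mul_cancel₀ ha, one_smul]
  have hx01 : scU b hb * x ≠ 1 := by
    intro h
    apply hns b⁻¹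
    have h' := congrArg (fun u : GL (Fin 4) F => (u : Matrix (Fin 4) (Fin 4) F)) h
    simp only [Units.val_mul, scU_coe, Matrix.smul_mul, Matrix.one_mul, Units.val_one] at h'
    rw [← h', smul_smul, inv_mul_cancel₀ hb, one_smul]
  obtain ⟨g, hg, k, hgk⟩ := Cfsg.Agent.Lib.C6PkU.gu4_order5_conj hF h5
    (Cfsg.GU 4 F p ⊓ Cfsg.Geo.specialLinear (Fin 4) F) inf_le_left
    (scU b hb * x) (scU a ha * y) (Subgroup.mem_inf.2 ⟨hx0U, hx0SL⟩)
    (Subgroup.mem_inf.2 ⟨hy0U, hy0SL⟩) hx05 hx01 hy05 hy01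
  refine ⟨g, hg, ?_⟩
  have hxS' : x = (scU b hb)⁻¹ * (scU b hb * x) := by group
  rw [hxS', conj_scalar_mul (scU b hb) g _ b (scU_coe b hb), hgk]
  exact (Cfsg.Geo.subgroupNormalizer R).mul_mem
    ((Cfsg.Geo.subgroupNormalizer R).inv_mem (scalar_mem_normalizer R _ b (scU_coe b hb)))
    ((Cfsg.Geo.subgroupNormalizer R).pow_mem hy0N k)

end Backward

end Cfsg.Agent.Lib.Helper9.C6U4
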