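import Mathlib
import Cfsg.Prelude.Def_FusionComponents
import Cfsg.Agent.Lib.Helper9.FusionFactor
import Cfsg.Agent.Lib.Helper9.FusionMorph1
import Cfsg.Agent.S5076
import Cfsg.Agent.S5133

set_option autoImplicit false
open Cfsg
open Cfsg.FusionSystem

/-! Realizations of fusion systems: basic API, and saturation of realized systems. -/

namespace Cfsg.Agent.Lib.Helper9

variable {Ω : Type*} [Group Ω] {S : Subgroup Ω} {G : Type*} [Group G]

/-- The inverse of an injective homomorphism `ι : S →* G` on its range, as a homomorphism into the ambient group. -/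
noncomputable def realInv (ι : S →* G) (hinj : Function.Injective ι) : ι.range →* Ω :=
  S.subtype.comp (MonoidHom.ofInjective hinj).symm.toMonoidHom

theorem realInv_mem (ι : S →* G) (hinj : Function.Injective ι) (t : ι.range) : realInv ι hinj t ∈ S :=
  ((MonoidHom.ofInjective hinj).symm t).2

theorem ι_realInv (ι : S →* G) (hinj : Function.Injective ι) (t : ι.range) :
    ι ⟨realInv ι hinj t, realInv_mem ι hinj t⟩ = (t : G) :=
  MonoidHom.apply_ofInjective_symm hinj t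

theorem realInv_ι (ι : S →* G) (hinj : Function.Injective ι) (s : S) :
    realInv ι hinj ⟨ι s, ⟨s, rfl⟩⟩ = (s : Ω) := by
  have h := ι_realInv ι hinj ⟨ι s, ⟨s, rfl⟩⟩
  have := hinj h
  exact congrArg (fun z : S => (z : Ω)) this

theorem realInv_injective (ι : S →* G) (hinj : Function.Injective ι) : Function.Injective (realInv ι hinj) := by
  intro a b hab
  have h1 := ι_realInv ι hinj a
  have h2 := ι_realInv ι hinj b
  apply Subtype.ext
  rw [← h1, ← h2]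
  congr 1
  exact Subtype.ext hab

/-- Conjugation by `g : G` on `Q ≤ S`, read through `ι`, when it lands in the range of `ι`. -/
noncomputable def liftConj (ι : S →* G) (hinj : Function.Injective ι) {Q : Subgroup Ω} (hQ : Q ≤ S) (g : G)
    (h : ∀ x : Q, g * ι ⟨x, hQ x.2⟩ * g⁻¹ ∈ ι.range) : Q →* Ω :=
  (realInv ι hinj).comp
    (((MulAut.conj g).toMonoidHom.comp (ι.comp (Subgroup.inclusion hQ))).codRestrict ι.range h)

theorem liftConj_mem (ι : S →* G) (hinj : Function.Injective ι) {Q : Subgroup Ω} (hQ : Q ≤ S) (g : G)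
    (h : ∀ x : Q, g * ι ⟨x, hQ x.2⟩ * g⁻¹ ∈ ι.range) (x : Q) : liftConj ι hinj hQ g h x ∈ S :=
  realInv_mem ι hinj _

theorem ι_liftConj (ι : S →* G) (hinj : Function.Injective ι) {Q : Subgroup Ω} (hQ : Q ≤ S) (g : G)
    (h : ∀ x : Q, g * ι ⟨x, hQ x.2⟩ * g⁻¹ ∈ ι.range) (x : Q) (hx : liftConj ι hinj hQ g h x ∈ S) :
    ι ⟨liftConj ι hinj hQ g h x, hx⟩ = g * ι ⟨x, hQ x.2⟩ * g⁻¹ :=
  ι_realInv ι hinj _

theorem liftConj_mem_hom {F : FusionSystem S} {ι : S →* G} (hι : F.IsRealizedBy ι) {Q : Subgroup Ω} (hQ : Q ≤ S)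
    (g : G) (h : ∀ x : Q, g * ι ⟨x, hQ x.2⟩ * g⁻¹ ∈ ι.range) : liftConj ι hι.1 hQ g h ∈ F.Hom Q := by
  rw [hι.2 Q hQ _ (liftConj_mem ι hι.1 hQ g h)]
  exact ⟨g, fun x => ι_liftConj ι hι.1 hQ g h x _⟩

/-- A system realized by a finite group on a Sylow subgroup is saturated. -/
theorem isSaturated_of_realized [Finite G] {p : ℕ} [Fact p.Prime] (F : FusionSystem S) (ι : S →* G)
    (hι : F.IsRealizedBy ι) (T : Sylow p G) (hT : (T : Subgroup G) = ι.range) : F.IsSaturated p := by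
  have hsat : (groupFusionSystem (T : Subgroup G)).IsSaturated p := Cfsg.Agent.S5076.result p T
  have hinj := hι.1
  have hTr : ∀ t : (T : Subgroup G), (t : G) ∈ ι.range := fun t => hT ▸ t.2
  obtain ⟨α, hαdef⟩ : ∃ α : (T : Subgroup G) →* Ω,
      α = (realInv ι hinj).comp (Subgroup.inclusion (le_of_eq hT)) := ⟨_, rfl⟩
  have hαS : ∀ t : (T : Subgroup G), α t ∈ S := by
    intro t; rw [hαdef]; exact realInv_mem ι hinj _
  have hια : ∀ t : (T : Subgroup G), ι ⟨α t, hαS t⟩ = (t : G) := by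
    intro t
    subst hαdef
    exact ι_realInv ι hinj _
  have hαι : ∀ (s : S) (hs : ι s ∈ (T : Subgroup G)), α ⟨ι s, hs⟩ = (s : Ω) := by
    intro s hs
    have h1 := hια ⟨ι s, hs⟩
    exact congrArg (fun z : S => (z : Ω)) (hinj h1)
  have hfin : Finite (T : Subgroup G) := inferInstance
  refine Cfsg.Agent.S5133.result p T.isPGroup' (groupFusionSystem (T : Subgroup G)) hsat F α
    ⟨⟨hαS, ?_⟩, ?_, ?_⟩
  · -- morphism
    rintro P φ ⟨hP, hφT, g, Hg⟩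
    have hP'S : imageAlong α P ≤ S := by
      rintro _ ⟨t, -, rfl⟩
      exact hαS t
    have hval : ∀ y : imageAlong α P, g * ι ⟨y, hP'S y.2⟩ * g⁻¹ ∈ ι.range := by
      rintro ⟨_, t, ht, rfl⟩
      have htP : (t : G) ∈ P := ht
      have h1 := Hg ⟨t, htP⟩
      have h2 : ι ⟨α t, hαS t⟩ = (t : G) := hια t
      have h3 : g * ι ⟨α t, hαS t⟩ * g⁻¹ = φ ⟨t, htP⟩ := by rw [h2, h1]
      show g * ι ⟨α t, _⟩ * g⁻¹ ∈ ι.range
      rw [h3, ← hT]
      exact hφT _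
    refine ⟨liftConj ι hinj hP'S g hval, liftConj_mem_hom hι hP'S g hval, hP, hφT, ?_, ?_⟩
    · intro x
      exact ⟨⟨x, hP x.2⟩, x.2, rfl⟩
    · intro x
      have hS1 : liftConj ι hinj hP'S g hval ⟨α ⟨x, hP x.2⟩, ⟨⟨x, hP x.2⟩, x.2, rfl⟩⟩ ∈ S :=
        liftConj_mem ι hinj hP'S g hval _
      have e1 := ι_liftConj ι hinj hP'S g hval ⟨α ⟨x, hP x.2⟩, ⟨⟨x, hP x.2⟩, x.2, rfl⟩⟩ hS1
      have e2 : ι ⟨α ⟨x, hP x.2⟩, hαS _⟩ = (x : G) := hια _
      have e3 : ι ⟨α ⟨φ x, hφT x⟩, hαS _⟩ = φ x := hια _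
      have e4 : ι ⟨liftConj ι hinj hP'S g hval ⟨α ⟨x, hP x.2⟩, ⟨⟨x, hP x.2⟩, x.2, rfl⟩⟩, hS1⟩ =
          ι ⟨α ⟨φ x, hφT x⟩, hαS _⟩ := by
        rw [e1, e3]
        show g * ι ⟨α ⟨x, hP x.2⟩, _⟩ * g⁻¹ = φ x
        rw [e2, Hg]
      exact congrArg (fun z : S => (z : Ω)) (hinj e4)
  · -- range
    ext y
    constructor
    · rintro ⟨t, rfl⟩
      exact hαS t
    · intro hy
      have hyT : ι ⟨y, hy⟩ ∈ (T : Subgroup G) := by rw [hT]; exact ⟨_, rfl⟩
      exact ⟨⟨ι ⟨y, hy⟩, hyT⟩, hαι ⟨y, hy⟩ hyT⟩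
  · -- surjectivity
    intro P' hP'S φ' hφ'
    have hφ'S : ∀ x : P', φ' x ∈ S := (F.le_of_mem hφ').2
    obtain ⟨g, Hg⟩ := (hι.2 P' hP'S φ' hφ'S).mp hφ'
    have hpre : preimageAlong α P' ≤ (T : Subgroup G) := preimageAlong_le α P'
    have hval' : ∀ x : preimageAlong α P', g * (x : G) * g⁻¹ =
        ι ⟨φ' ⟨α ⟨x, hpre x.2⟩, apply_mem_of_mem_preimageAlong α P' x⟩, hφ'S _⟩ := by
      intro x
      rw [Hg]
      have h2 : ι ⟨α ⟨x, hpre x.2⟩, hαS _⟩ = (x : G) := hια _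
      show g * (x : G) * g⁻¹ = g * ι ⟨α ⟨x, hpre x.2⟩, _⟩ * g⁻¹
      rw [h2]
    have hval : ∀ x : preimageAlong α P', g * (x : G) * g⁻¹ ∈ (T : Subgroup G) := by
      intro x
      rw [hval' x]
      exact (le_of_eq hT.symm) ⟨_, rfl⟩
    refine ⟨conjHom (preimageAlong α P') g, ⟨hpre, hval, g, fun x => rfl⟩,
      hpre, hval, fun x => apply_mem_of_mem_preimageAlong α P' x, ?_⟩
    intro x
    have e1 : ι ⟨α ⟨g * (x : G) * g⁻¹, hval x⟩, hαS _⟩ = g * (x : G) * g⁻¹ := hια _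
    have e2 : ι ⟨φ' ⟨α ⟨x, hpre x.2⟩, apply_mem_of_mem_preimageAlong α P' x⟩, hφ'S _⟩ =
        ι ⟨α ⟨g * (x : G) * g⁻¹, hval x⟩, hαS _⟩ := by
      rw [e1, hval' x]
    exact congrArg (fun z : S => (z : Ω)) (hinj e2)

end Cfsg.Agent.Lib.Helper9
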