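import Mathlib
import Cfsg.Prelude.Def_FusionSystem
import Cfsg.Prelude.Def_FusionComponents
import Cfsg.Agent.Lib.Helper9.Realize1
import Cfsg.Agent.Lib.Helper9.FusionSup
import Cfsg.Agent.Lib.Helper9.FusionFactor
import Cfsg.Agent.Lib.Helper9.PCore

set_option autoImplicit false

namespace Cfsg.Agent.Lib.Helper9

open Cfsg Cfsg.FusionSystem

variable {Ω : Type*} [Group Ω] {S : Subgroup Ω} {G : Type*} [Group G]

/-- In a system realized by `G`, the preimage of a normal subgroup of `G` inside the image of `S` is normal in the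
system. -/
theorem realized_isNormal_preimage (F : FusionSystem S) (ι : S →* G) (hι : F.IsRealizedBy ι) (U : Subgroup G)
    [hUn : U.Normal] (hU : U ≤ ι.range) : F.IsNormal (preimageAlong ι U) := by
  refine ⟨preimageAlong_le ι U, fun P φ hφ => ?_⟩
  obtain ⟨hPS, hφS⟩ := F.le_of_mem hφ
  obtain ⟨g, Hg⟩ := (hι.2 P hPS φ hφS).mp hφ
  have hNS : P ⊔ preimageAlong ι U ≤ S := sup_le hPS (preimageAlong_le ι U)
  have h : ∀ x : ↥(P ⊔ preimageAlong ι U), g * ι ⟨x, hNS x.2⟩ * g⁻¹ ∈ ι.range := by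
    have := sup_forall_mem (P := P) (Q := preimageAlong ι U)
      ((MulAut.conj g).toMonoidHom.comp (ι.comp (Subgroup.inclusion hNS))) ι.range ?_ ?_
    · exact this
    · intro x
      show g * ι ⟨x, _⟩ * g⁻¹ ∈ ι.range
      rw [← Hg x]
      exact ⟨_, rfl⟩
    · intro x
      show g * ι ⟨x, _⟩ * g⁻¹ ∈ ι.range
      exact hU (hUn.conj_mem _ (apply_mem_of_mem_preimageAlong ι U x) g)
  refine ⟨liftConj ι hι.1 hNS g h, liftConj_mem_hom hι hNS g h, fun x => ?_, ?_⟩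
  · have h1 := ι_liftConj ι hι.1 hNS g h (Subgroup.inclusion le_sup_left x) (liftConj_mem ι hι.1 hNS g h _)
    have h2 : ι ⟨liftConj ι hι.1 hNS g h (Subgroup.inclusion le_sup_left x), liftConj_mem ι hι.1 hNS g h _⟩ =
        ι ⟨φ x, hφS x⟩ := by
      rw [h1, Hg x]
      rfl
    exact congrArg (fun z : S => (z : Ω)) (hι.1 h2)
  · ext y
    constructor
    · rintro ⟨x, hx, rfl⟩
      have hxU : (x : Ω) ∈ preimageAlong ι U := hx
      rw [mem_preimageAlong_iff]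
      refine ⟨liftConj_mem ι hι.1 hNS g h x, ?_⟩
      rw [ι_liftConj]
      exact hUn.conj_mem _ (apply_mem_of_mem_preimageAlong ι U ⟨x, hxU⟩) g
    · intro hy
      obtain ⟨hyS, hyU⟩ := (mem_preimageAlong_iff ι U y).mp hy
      have h1 : g⁻¹ * ι ⟨y, hyS⟩ * g⁻¹⁻¹ ∈ U := hUn.conj_mem _ hyU g⁻¹
      obtain ⟨x₀, hx₀⟩ := hU h1
      have hx₀U : (x₀ : Ω) ∈ preimageAlong ι U := by
        rw [mem_preimageAlong_iff]
        exact ⟨x₀.2, by rw [Subtype.coe_eta, hx₀]; exact h1⟩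
      refine ⟨⟨x₀, le_sup_right (a := P) hx₀U⟩, hx₀U, ?_⟩
      have h2 := ι_liftConj ι hι.1 hNS g h ⟨x₀, le_sup_right (a := P) hx₀U⟩ (liftConj_mem ι hι.1 hNS g h _)
      have h3 : ι ⟨liftConj ι hι.1 hNS g h ⟨x₀, le_sup_right (a := P) hx₀U⟩, liftConj_mem ι hι.1 hNS g h _⟩ =
          ι ⟨y, hyS⟩ := by
        rw [h2]
        have : (⟨((⟨x₀, le_sup_right (a := P) hx₀U⟩ : ↥(P ⊔ preimageAlong ι U)) : Ω), hNS (le_sup_right (a := P) hx₀U)⟩ : S) = x₀ := rfl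
        rw [this, hx₀]
        group
      exact congrArg (fun z : S => (z : Ω)) (hι.1 h3)

/-- In a system realized by `G`, if `U ⊴ G` is self-centralizing, lies in the image of `S`, and its preimage lies in a
subgroup `R` normal in the system, then the image of `R` is normal in `G`. -/
theorem realized_normal_image (F : FusionSystem S) (ι : S →* G) (hι : F.IsRealizedBy ι) (U : Subgroup G)
    [hUn : U.Normal] (hU : U ≤ ι.range) (hCU : Subgroup.centralizer (U : Set G) ≤ U) {R : Subgroup Ω}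
    (hR : F.IsNormal R) (hUR : preimageAlong ι U ≤ R) : (imageAlong ι R).Normal := by
  have hRS : R ≤ S := hR.1
  have hU₀S : preimageAlong ι U ≤ S := preimageAlong_le ι U
  have hUim : U ≤ imageAlong ι R := by
    intro u hu
    obtain ⟨s, rfl⟩ := hU hu
    refine ⟨s, ?_, rfl⟩
    show (s : Ω) ∈ R
    apply hUR
    rw [mem_preimageAlong_iff]
    exact ⟨s.2, hu⟩
  constructor
  intro y hy g
  -- the conjugation by `g` on `U`
  have h : ∀ x : preimageAlong ι U, g * ι ⟨x, hU₀S x.2⟩ * g⁻¹ ∈ ι.range := fun x =>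
    hU (hUn.conj_mem _ (apply_mem_of_mem_preimageAlong ι U x) g)
  have hφg := liftConj_mem_hom hι hU₀S g h
  obtain ⟨ψ, hψ, hψU, hψR⟩ := hR.2 _ _ hφg
  obtain ⟨hNS, hψS⟩ := F.le_of_mem hψ
  obtain ⟨k, Hk⟩ := (hι.2 _ hNS ψ hψS).mp hψ
  -- `k⁻¹ g` centralizes `U`
  have hc : k⁻¹ * g ∈ Subgroup.centralizer (U : Set G) := by
    rw [Subgroup.mem_centralizer_iff]
    intro u hu
    obtain ⟨s, rfl⟩ := hU hu
    have hsU : (s : Ω) ∈ preimageAlong ι U := by
      rw [mem_preimageAlong_iff]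
      exact ⟨s.2, hu⟩
    have h1 := Hk (Subgroup.inclusion le_sup_left ⟨s, hsU⟩)
    have h2 := ι_liftConj ι hι.1 hU₀S g h ⟨s, hsU⟩ (liftConj_mem ι hι.1 hU₀S g h _)
    have h3 : ι ⟨ψ (Subgroup.inclusion le_sup_left ⟨s, hsU⟩), hψS _⟩ =
        ι ⟨liftConj ι hι.1 hU₀S g h ⟨s, hsU⟩, liftConj_mem ι hι.1 hU₀S g h _⟩ := by
      congr 1
      exact Subtype.ext (hψU ⟨s, hsU⟩)
    rw [h1, h2] at h3
    have h4 : k * ι s * k⁻¹ = g * ι s * g⁻¹ := h3
    calc ι s * (k⁻¹ * g) = k⁻¹ * (k * ι s * k⁻¹) * g := by group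
      _ = k⁻¹ * (g * ι s * g⁻¹) * g := by rw [h4]
      _ = k⁻¹ * g * ι s := by group
  have hcR : k⁻¹ * g ∈ imageAlong ι R := hUim (hCU hc)
  -- `k` normalizes the image of `R`
  have hk : ∀ z ∈ imageAlong ι R, k * z * k⁻¹ ∈ imageAlong ι R := by
    rintro _ ⟨r, hr, rfl⟩
    have hrR : (r : Ω) ∈ R := hr
    have h1 := Hk (Subgroup.inclusion le_sup_right ⟨r, hrR⟩)
    have h5 : ψ (Subgroup.inclusion le_sup_right ⟨r, hrR⟩) ∈ R := by
      have : ψ (Subgroup.inclusion le_sup_right ⟨r, hrR⟩) ∈ (R.subgroupOf (preimageAlong ι U ⊔ R)).map ψ :=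
        ⟨_, hrR, rfl⟩
      exact (le_of_eq hψR) this
    refine ⟨⟨ψ (Subgroup.inclusion le_sup_right ⟨r, hrR⟩), hψS _⟩, h5, ?_⟩
    rw [h1]
    rfl
  have h6 : g * y * g⁻¹ = k * ((k⁻¹ * g) * y * (k⁻¹ * g)⁻¹) * k⁻¹ := by group
  rw [h6]
  exact hk _ (Subgroup.mul_mem _ (Subgroup.mul_mem _ hcR hy) (Subgroup.inv_mem _ hcR))

end Cfsg.Agent.Lib.Helper9
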