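import Mathlib
import Cfsg.Agent.Lib.Lead.Gaschutz3

set_option autoImplicit false

/-!
# Gaschütz's theorem with a prescribed (stable) complement

If the complement `A` of `K` in `U` is stable under the fusion of `G` modulo `K`, then `K` has a
complement in `G` containing `A`.
-/

namespace Cfsg.Agent.H9GS

open Cfsg.Agent.Lib.Lead Cfsg.Agent.Lib.Lead.Gaschutz

universe u

variable {G : Type u} [Group G] {K A : Subgroup G} [hKn : K.Normal]

/-- existence of a section which is equivariant for `A` on both sides -/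
theorem exists_biSec (U : Subgroup G) (hAU : A ≤ U) (hKU : K ≤ U) (hAK : A ⊓ K = ⊥)
    (hU : ∀ u ∈ U, ∃ k ∈ K, ∃ a ∈ A, u = k * a)
    (hstab : ∀ g : G, ∃ k ∈ K, ∀ a ∈ A, g⁻¹ * a * g ∈ U → (g * k)⁻¹ * a * (g * k) ∈ A) :
    ∃ σ : Sec K A, ∀ g, ∀ a ∈ A, σ.f (a * g) = a * σ.f g := by
  classical
  -- the double coset relation
  let s : Setoid G :=
    { r := fun x y => ∃ a ∈ A, ∃ u ∈ U, y = a * x * u
      iseqv := by
        refine ⟨fun x => ⟨1, A.one_mem, 1, U.one_mem, by simp⟩, ?_, ?_⟩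
        · rintro x y ⟨a, ha, u, hu, rfl⟩
          exact ⟨a⁻¹, A.inv_mem ha, u⁻¹, U.inv_mem hu, by group⟩
        · rintro x y z ⟨a, ha, u, hu, rfl⟩ ⟨b, hb, v, hv, rfl⟩
          exact ⟨b * a, A.mul_mem hb ha, u * v, U.mul_mem hu hv, by group⟩ }
  let rep : G → G := fun x => Quotient.out (Quotient.mk s x)
  have hrep : ∀ x, ∃ a ∈ A, ∃ u ∈ U, x = a * rep x * u := by
    intro x
    have h : s.r (rep x) x := Quotient.exact (Quotient.out_eq (Quotient.mk s x))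
    exact h
  have hrep_eq : ∀ x y, (∃ a ∈ A, ∃ u ∈ U, y = a * x * u) → rep y = rep x := by
    intro x y h
    have h1 : Quotient.mk s x = Quotient.mk s y := Quotient.sound h
    show Quotient.out (Quotient.mk s y) = Quotient.out (Quotient.mk s x)
    rw [h1]
  -- the correcting elements
  let kk : G → G := fun g => Classical.choose (hstab g)
  have hkk : ∀ g, kk g ∈ K ∧ ∀ a ∈ A, g⁻¹ * a * g ∈ U → (g * kk g)⁻¹ * a * (g * kk g) ∈ A :=
    fun g => Classical.choose_spec (hstab g)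
  -- decompositions
  have hdec : ∀ x, ∃ a ∈ A, ∃ k ∈ K, ∃ a' ∈ A, x = a * rep x * k * a' := by
    intro x
    obtain ⟨a, ha, u, hu, hx⟩ := hrep x
    obtain ⟨k, hk, a', ha', rfl⟩ := hU u hu
    exact ⟨a, ha, k, hk, a', ha', hx.trans (mul_assoc _ _ _).symm⟩
  -- the key uniqueness statement
  have key : ∀ (g a b k k' a' b' : G), a ∈ A → b ∈ A → k ∈ K → k' ∈ K → a' ∈ A → b' ∈ A →
      a * g * k * a' = b * g * k' * b' → a * (g * kk g) * a' = b * (g * kk g) * b' := by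
    intro g a b k k' a' b' ha hb hk hk' ha' hb' h
    have hα : b⁻¹ * a ∈ A := A.mul_mem (A.inv_mem hb) ha
    have e1 : g⁻¹ * (b⁻¹ * a) * g = k' * (b' * a'⁻¹) * k⁻¹ := by
      have : b⁻¹ * a * g = g * k' * b' * a'⁻¹ * k⁻¹ := by
        calc b⁻¹ * a * g = b⁻¹ * (a * g * k * a') * a'⁻¹ * k⁻¹ := by group
          _ = b⁻¹ * (b * g * k' * b') * a'⁻¹ * k⁻¹ := by rw [h]
          _ = g * k' * b' * a'⁻¹ * k⁻¹ := by group
      calc g⁻¹ * (b⁻¹ * a) * g = g⁻¹ * (b⁻¹ * a * g) := by group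
        _ = g⁻¹ * (g * k' * b' * a'⁻¹ * k⁻¹) := by rw [this]
        _ = k' * (b' * a'⁻¹) * k⁻¹ := by group
    have hγ : b' * a'⁻¹ ∈ A := A.mul_mem hb' (A.inv_mem ha')
    have hU1 : g⁻¹ * (b⁻¹ * a) * g ∈ U := by
      rw [e1]
      exact U.mul_mem (U.mul_mem (hKU hk') (hAU hγ)) (U.inv_mem (hKU hk))
    have hβ := (hkk g).2 _ hα hU1
    have hkg := (hkk g).1
    -- β γ⁻¹ ∈ A ⊓ K
    have e2 : (g * kk g)⁻¹ * (b⁻¹ * a) * (g * kk g) * (b' * a'⁻¹)⁻¹ =
        (kk g)⁻¹ * k' * ((b' * a'⁻¹) * (k⁻¹ * kk g) * (b' * a'⁻¹)⁻¹) := by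
      calc (g * kk g)⁻¹ * (b⁻¹ * a) * (g * kk g) * (b' * a'⁻¹)⁻¹
          = (kk g)⁻¹ * (g⁻¹ * (b⁻¹ * a) * g) * kk g * (b' * a'⁻¹)⁻¹ := by group
        _ = (kk g)⁻¹ * (k' * (b' * a'⁻¹) * k⁻¹) * kk g * (b' * a'⁻¹)⁻¹ := by rw [e1]
        _ = (kk g)⁻¹ * k' * ((b' * a'⁻¹) * (k⁻¹ * kk g) * (b' * a'⁻¹)⁻¹) := by group
    have h3 : (g * kk g)⁻¹ * (b⁻¹ * a) * (g * kk g) * (b' * a'⁻¹)⁻¹ ∈ A ⊓ K := by
      refine ⟨A.mul_mem hβ (A.inv_mem hγ), ?_⟩
      rw [e2]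
      exact K.mul_mem (K.mul_mem (K.inv_mem hkg) hk')
        (hKn.conj_mem _ (K.mul_mem (K.inv_mem hk) hkg) _)
    rw [hAK, Subgroup.mem_bot] at h3
    have h4 : (g * kk g)⁻¹ * (b⁻¹ * a) * (g * kk g) = b' * a'⁻¹ := mul_inv_eq_one.mp h3
    calc a * (g * kk g) * a' = b * (g * kk g) * ((g * kk g)⁻¹ * (b⁻¹ * a) * (g * kk g)) * a' := by
          group
      _ = b * (g * kk g) * (b' * a'⁻¹) * a' := by rw [h4]
      _ = b * (g * kk g) * b' := by group
  -- the section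
  have hdec' : ∀ x, ∃ t : G × G × G, t.1 ∈ A ∧ t.2.1 ∈ K ∧ t.2.2 ∈ A ∧
      x = t.1 * rep x * t.2.1 * t.2.2 := by
    intro x
    obtain ⟨a, ha, k, hk, a', ha', hx⟩ := hdec x
    exact ⟨(a, k, a'), ha, hk, ha', hx⟩
  let dec : G → G × G × G := fun x => Classical.choose (hdec' x)
  have hdecs : ∀ x, (dec x).1 ∈ A ∧ (dec x).2.1 ∈ K ∧ (dec x).2.2 ∈ A ∧
      x = (dec x).1 * rep x * (dec x).2.1 * (dec x).2.2 := fun x => Classical.choose_spec (hdec' x)
  let f : G → G := fun x => (dec x).1 * (rep x * kk (rep x)) * (dec x).2.2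
  have hf : ∀ x a k a', a ∈ A → k ∈ K → a' ∈ A → x = a * rep x * k * a' →
      f x = a * (rep x * kk (rep x)) * a' := by
    intro x a k a' ha hk ha' hx
    obtain ⟨h1, h2, h3, h4⟩ := hdecs x
    show (dec x).1 * (rep x * kk (rep x)) * (dec x).2.2 = _
    apply key (rep x) _ _ (dec x).2.1 k _ _ h1 ha h2 hk h3 ha'
    rw [← h4, ← hx]
  -- a decomposition of `x` relative to the representative of `y` in the same class
  have hf' : ∀ x y a k a', rep y = rep x → a ∈ A → k ∈ K → a' ∈ A → y = a * rep x * k * a' →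
      f y = a * (rep x * kk (rep x)) * a' := by
    intro x y a k a' hxy ha hk ha' hy
    rw [← hxy] at hy ⊢
    exact hf y a k a' ha hk ha' hy
  refine ⟨⟨f, ?_, ?_, ?_⟩, ?_⟩
  · intro x
    obtain ⟨a, ha, k, hk, a', ha', hx⟩ := hdec x
    rw [hf x a k a' ha hk ha' hx]
    have e : ∀ r c : G, x = a * r * k * a' →
        (a * (r * c) * a')⁻¹ * x = a'⁻¹ * (c⁻¹ * k) * a'⁻¹⁻¹ := by
      intro r c h
      rw [h]
      group
    rw [e _ _ hx]
    exact hKn.conj_mem _ (K.mul_mem (K.inv_mem (hkk _).1) hk) _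
  · intro x k₀ hk₀
    obtain ⟨a, ha, k, hk, a', ha', hx⟩ := hdec x
    have hrep' : rep (x * k₀) = rep x :=
      hrep_eq x (x * k₀) ⟨1, A.one_mem, k₀, hKU hk₀, by group⟩
    have e : ∀ r : G, x = a * r * k * a' → x * k₀ = a * r * (k * (a' * k₀ * a'⁻¹)) * a' := by
      intro r h
      rw [h]
      group
    rw [hf x a k a' ha hk ha' hx]
    exact hf' x (x * k₀) a (k * (a' * k₀ * a'⁻¹)) a' hrep' ha
      (K.mul_mem hk (hKn.conj_mem _ hk₀ _)) ha' (e _ hx)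
  · intro x a₀ ha₀
    obtain ⟨a, ha, k, hk, a', ha', hx⟩ := hdec x
    have hrep' : rep (x * a₀) = rep x :=
      hrep_eq x (x * a₀) ⟨1, A.one_mem, a₀, hAU ha₀, by group⟩
    have e : ∀ r : G, x = a * r * k * a' → x * a₀ = a * r * k * (a' * a₀) := by
      intro r h
      rw [h]
      group
    rw [hf x a k a' ha hk ha' hx, hf' x (x * a₀) a k (a' * a₀) hrep' ha hk (A.mul_mem ha' ha₀)
      (e _ hx)]
    group
  · intro x a₀ ha₀
    obtain ⟨a, ha, k, hk, a', ha', hx⟩ := hdec x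
    have hrep' : rep (a₀ * x) = rep x :=
      hrep_eq x (a₀ * x) ⟨a₀, ha₀, 1, U.one_mem, by group⟩
    have e : ∀ r : G, x = a * r * k * a' → a₀ * x = (a₀ * a) * r * k * a' := by
      intro r h
      rw [h]
      group
    show f (a₀ * x) = a₀ * f x
    rw [hf x a k a' ha hk ha' hx, hf' x (a₀ * x) (a₀ * a) k a' hrep' (A.mul_mem ha₀ ha) hk ha'
      (e _ hx)]
    group

/-- Gaschütz's theorem with a prescribed stable complement -/
theorem exists_complement_containing [Finite G] [IsMulCommutative K] (U : Subgroup G) (hKU : K ≤ U)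
    (hcop : (Nat.card K).Coprime U.index)
    (hAU : A ≤ U) (hAK : A ⊓ K = ⊥) (hU : ∀ u ∈ U, ∃ k ∈ K, ∃ a ∈ A, u = k * a)
    (hstab : ∀ g : G, ∃ k ∈ K, ∀ a ∈ A, g⁻¹ * a * g ∈ U → (g * k)⁻¹ * a * (g * k) ∈ A) :
    ∃ H : Subgroup G, Subgroup.IsComplement' K H ∧ A ≤ H := by
  classical
  obtain ⟨σ₀, hσ₀⟩ := exists_biSec U hAU hKU hAK hU hstab
  letI : Fintype (G ⧸ U) := Fintype.ofFinite _
  refine ⟨_, gaschutz_complement U hU σ₀ hcop, ?_⟩
  intro a ha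
  rw [mem_ker]
  unfold c
  have : Sec.translate a σ₀ = σ₀ := by
    cases' σ₀ with f h1 h2 h3
    simp only [Sec.translate, Sec.mk.injEq]
    funext x
    have := hσ₀ (a⁻¹ * x) a ha
    simp only at this
    rw [mul_inv_cancel_left] at this
    exact this.symm
  rw [this, d_self]

end Cfsg.Agent.H9GS
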