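import Mathlib
import Cfsg.Agent.Lib.Helper9.GaschutzStab

set_option autoImplicit false

/-!
# Uniqueness of models: the group-theoretic core

Two finite groups `G₁`, `G₂` containing the `p`-group `S` as a Sylow subgroup, with a common normal
self-centralizing subgroup `Q ≤ S` and the same fusion on `S`, are isomorphic over `S`.
-/

namespace Cfsg.Agent.H9MU

universe u v w

variable {S : Type w} {G₁ : Type u} {G₂ : Type v} [Group S] [Group G₁] [Group G₂]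

/-- the fibre product of `G₁` and `G₂` over their common action on `Q` -/
def fib (ι₁ : S →* G₁) (ι₂ : S →* G₂) (h₁ : Function.Injective ι₁) (Q : Subgroup S)
    (hn₁ : (Q.map ι₁).Normal) : Subgroup (G₁ × G₂) where
  carrier := {x | ∀ q ∈ Q, ∃ q' ∈ Q, x.1 * ι₁ q * x.1⁻¹ = ι₁ q' ∧ x.2 * ι₂ q * x.2⁻¹ = ι₂ q'}
  one_mem' := by
    intro q hq
    exact ⟨q, hq, by simp, by simp⟩
  mul_mem' := by
    intro x y hx hy q hq
    obtain ⟨q', hq', e1, e2⟩ := hy q hq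
    obtain ⟨q'', hq'', e3, e4⟩ := hx q' hq'
    refine ⟨q'', hq'', ?_, ?_⟩
    · rw [← e3, ← e1]
      simp only [Prod.fst_mul]
      group
    · rw [← e4, ← e2]
      simp only [Prod.snd_mul]
      group
  inv_mem' := by
    intro x hx q hq
    have h1 : x.1⁻¹ * ι₁ q * x.1⁻¹⁻¹ ∈ Q.map ι₁ := hn₁.conj_mem _ ⟨q, hq, rfl⟩ _
    obtain ⟨q₁, hq₁, e1⟩ := h1
    obtain ⟨q₂, hq₂, e2, e3⟩ := hx q₁ hq₁
    have h2 : q₂ = q := by
      apply h₁
      rw [← e2, e1]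
      group
    subst h2
    refine ⟨q₁, hq₁, ?_, ?_⟩
    · simp only [Prod.fst_inv]
      exact e1.symm
    · simp only [Prod.snd_inv]
      rw [← e3]
      group

theorem mem_fib (ι₁ : S →* G₁) (ι₂ : S →* G₂) (h₁ : Function.Injective ι₁) (Q : Subgroup S)
    (hn₁ : (Q.map ι₁).Normal) (x : G₁ × G₂) :
    x ∈ fib ι₁ ι₂ h₁ Q hn₁ ↔
      ∀ q ∈ Q, ∃ q' ∈ Q, x.1 * ι₁ q * x.1⁻¹ = ι₁ q' ∧ x.2 * ι₂ q * x.2⁻¹ = ι₂ q' := Iff.rfl

end Cfsg.Agent.H9MU
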