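import Mathlib
import Cfsg.Agent.Lib.Helper9.ModelUniq1

set_option autoImplicit false

/-!
# Uniqueness of models: the group-theoretic core, II
-/

namespace Cfsg.Agent.H9MU

universe u v w

variable {S : Type w} {G₁ : Type u} {G₂ : Type v} [Group S] [Group G₁] [Group G₂]

theorem model_unique [Finite G₁] [Finite G₂] (p : ℕ) [Fact p.Prime] (ι₁ : S →* G₁) (ι₂ : S →* G₂)
    (h₁ : Function.Injective ι₁) (h₂ : Function.Injective ι₂)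
    (T₁ : Sylow p G₁) (hT₁ : (T₁ : Subgroup G₁) = ι₁.range)
    (T₂ : Sylow p G₂) (hT₂ : (T₂ : Subgroup G₂) = ι₂.range)
    (Q : Subgroup S) (hn₁ : (Q.map ι₁).Normal) (hn₂ : (Q.map ι₂).Normal)
    (hc₁ : Subgroup.centralizer ((Q.map ι₁ : Subgroup G₁) : Set G₁) ≤ Q.map ι₁)
    (hc₂ : Subgroup.centralizer ((Q.map ι₂ : Subgroup G₂) : Set G₂) ≤ Q.map ι₂)
    (hf₁₂ : ∀ g₁ : G₁, ∃ g₂ : G₂, ∀ s s' : S, g₁ * ι₁ s * g₁⁻¹ = ι₁ s' → g₂ * ι₂ s * g₂⁻¹ = ι₂ s')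
    (hf₂₁ : ∀ g₂ : G₂, ∃ g₁ : G₁, ∀ s s' : S, g₂ * ι₂ s * g₂⁻¹ = ι₂ s' → g₁ * ι₁ s * g₁⁻¹ = ι₁ s') :
    ∃ θ : G₁ ≃* G₂, ∀ s, θ (ι₁ s) = ι₂ s := by
  classical
  obtain ⟨X, hX⟩ : ∃ X : Subgroup (G₁ × G₂), X = fib ι₁ ι₂ h₁ Q hn₁ := ⟨_, rfl⟩
  have hXmem : ∀ x : G₁ × G₂, x ∈ X ↔
      ∀ q ∈ Q, ∃ q' ∈ Q, x.1 * ι₁ q * x.1⁻¹ = ι₁ q' ∧ x.2 * ι₂ q * x.2⁻¹ = ι₂ q' := by
    intro x
    rw [hX]
    exact mem_fib ι₁ ι₂ h₁ Q hn₁ x
  -- basic facts about `X`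
  have X1 : ∀ g₁ : G₁, ∃ g₂ : G₂, (g₁, g₂) ∈ X := by
    intro g₁
    obtain ⟨g₂, hg₂⟩ := hf₁₂ g₁
    refine ⟨g₂, (hXmem _).mpr ?_⟩
    intro q hq
    obtain ⟨q', hq', e⟩ := hn₁.conj_mem _ ⟨q, hq, rfl⟩ g₁
    exact ⟨q', hq', e.symm, hg₂ q q' e.symm⟩
  have X2 : ∀ g₂ : G₂, ∃ g₁ : G₁, (g₁, g₂) ∈ X := by
    intro g₂
    obtain ⟨g₁, hg₁⟩ := hf₂₁ g₂
    refine ⟨g₁, (hXmem _).mpr ?_⟩
    intro q hq
    obtain ⟨q', hq', e⟩ := hn₂.conj_mem _ ⟨q, hq, rfl⟩ g₂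
    exact ⟨q', hq', hg₁ q q' e.symm, e.symm⟩
  have X3 : ∀ g₂ : G₂, ((1 : G₁), g₂) ∈ X → ∃ z ∈ Q, g₂ = ι₂ z := by
    intro g₂ hg
    have hcen : g₂ ∈ Subgroup.centralizer ((Q.map ι₂ : Subgroup G₂) : Set G₂) := by
      rw [Subgroup.mem_centralizer_iff]
      rintro _ ⟨q, hq, rfl⟩
      obtain ⟨q', hq', e1, e2⟩ := (hXmem _).mp hg q hq
      have : q' = q := by
        apply h₁
        rw [← e1]
        simp
      subst this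
      have e3 : g₂ * ι₂ q' * g₂⁻¹ = ι₂ q' := e2
      calc ι₂ q' * g₂ = (g₂ * ι₂ q' * g₂⁻¹) * g₂ := by rw [e3]
        _ = g₂ * ι₂ q' := by group
    obtain ⟨z, hz, e⟩ := hc₂ hcen
    exact ⟨z, hz, e.symm⟩
  have X3' : ∀ g₁ : G₁, (g₁, (1 : G₂)) ∈ X → ∃ z ∈ Q, g₁ = ι₁ z := by
    intro g₁ hg
    have hcen : g₁ ∈ Subgroup.centralizer ((Q.map ι₁ : Subgroup G₁) : Set G₁) := by
      rw [Subgroup.mem_centralizer_iff]
      rintro _ ⟨q, hq, rfl⟩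
      obtain ⟨q', hq', e1, e2⟩ := (hXmem _).mp hg q hq
      have : q' = q := by
        apply h₂
        rw [← e2]
        simp
      subst this
      have e3 : g₁ * ι₁ q' * g₁⁻¹ = ι₁ q' := e1
      calc ι₁ q' * g₁ = (g₁ * ι₁ q' * g₁⁻¹) * g₁ := by rw [e3]
        _ = g₁ * ι₁ q' := by group
    obtain ⟨z, hz, e⟩ := hc₁ hcen
    exact ⟨z, hz, e.symm⟩
  have hQn : ∀ s : S, ∀ q ∈ Q, s * q * s⁻¹ ∈ Q := by
    intro s q hq
    obtain ⟨q', hq', e⟩ := hn₁.conj_mem _ ⟨q, hq, rfl⟩ (ι₁ s)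
    have : q' = s * q * s⁻¹ := by
      apply h₁
      rw [e]
      simp
    rw [← this]
    exact hq'
  have X4 : ∀ s : S, (ι₁ s, ι₂ s) ∈ X := by
    intro s
    refine (hXmem _).mpr ?_
    intro q hq
    exact ⟨s * q * s⁻¹, hQn s q hq, by simp, by simp⟩
  -- the maps
  let φ₁ : X →* G₁ := (MonoidHom.fst G₁ G₂).comp X.subtype
  let φ₂ : X →* G₂ := (MonoidHom.snd G₁ G₂).comp X.subtype
  have hφ₁ : ∀ x : X, φ₁ x = (x : G₁ × G₂).1 := fun _ => rfl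
  have hφ₂ : ∀ x : X, φ₂ x = (x : G₁ × G₂).2 := fun _ => rfl
  have hφ₁surj : Function.Surjective φ₁ := by
    intro g₁
    obtain ⟨g₂, hg⟩ := X1 g₁
    exact ⟨⟨(g₁, g₂), hg⟩, rfl⟩
  let δ : S →* X :=
    { toFun := fun s => ⟨(ι₁ s, ι₂ s), X4 s⟩
      map_one' := by
        apply Subtype.ext
        simp
      map_mul' := by
        intro a b
        apply Subtype.ext
        simp }
  have hδ₁ : ∀ s, φ₁ (δ s) = ι₁ s := fun _ => rfl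
  have hδ₂ : ∀ s, φ₂ (δ s) = ι₂ s := fun _ => rfl
  -- the subgroups of `X`
  obtain ⟨K, hK⟩ : ∃ K : Subgroup X, K = φ₁.ker := ⟨_, rfl⟩
  haveI hKn : K.Normal := by rw [hK]; infer_instance
  have hKmem : ∀ x : X, x ∈ K ↔ (x : G₁ × G₂).1 = 1 := by
    intro x
    rw [hK, MonoidHom.mem_ker]
    exact Iff.rfl
  have hKz : ∀ x : X, x ∈ K → ∃ z ∈ Q, (x : G₁ × G₂).2 = ι₂ z := by
    intro x hx
    have h1 := (hKmem x).mp hx
    have h2 : ((1 : G₁), (x : G₁ × G₂).2) ∈ X := by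
      have := x.2
      rw [← h1]
      exact this
    exact X3 _ h2
  have hext : ∀ x y : X, (x : G₁ × G₂).1 = (y : G₁ × G₂).1 → (x : G₁ × G₂).2 = (y : G₁ × G₂).2 →
      x = y := by
    intro x y e1 e2
    apply Subtype.ext
    exact Prod.ext e1 e2
  haveI hKc : IsMulCommutative K := by
    refine ⟨⟨fun a b => ?_⟩⟩
    apply Subtype.ext
    have ha := (hKmem a.1).mp a.2
    have hb := (hKmem b.1).mp b.2
    apply hext
    · show (a.1 : G₁ × G₂).1 * (b.1 : G₁ × G₂).1 = (b.1 : G₁ × G₂).1 * (a.1 : G₁ × G₂).1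
      rw [ha, hb]
    · show (a.1 : G₁ × G₂).2 * (b.1 : G₁ × G₂).2 = (b.1 : G₁ × G₂).2 * (a.1 : G₁ × G₂).2
      obtain ⟨z, hz, ez⟩ := hKz a.1 a.2
      -- `b.2` centralizes the image of `Q`
      have hb2 : ((1 : G₁), (b.1 : G₁ × G₂).2) ∈ X := by
        have := b.1.2
        rw [← hb]
        exact this
      obtain ⟨q', hq', e1, e2⟩ := (hXmem _).mp hb2 z hz
      have : q' = z := by
        apply h₁
        rw [← e1]
        simp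
      subst this
      have e3 : (b.1 : G₁ × G₂).2 * ι₂ q' * ((b.1 : G₁ × G₂).2)⁻¹ = ι₂ q' := e2
      rw [ez]
      calc ι₂ q' * (b.1 : G₁ × G₂).2
          = ((b.1 : G₁ × G₂).2 * ι₂ q' * ((b.1 : G₁ × G₂).2)⁻¹) * (b.1 : G₁ × G₂).2 := by rw [e3]
        _ = (b.1 : G₁ × G₂).2 * ι₂ q' := by group
  obtain ⟨U, hUdef⟩ : ∃ U : Subgroup X, U = (ι₁.range).comap φ₁ := ⟨_, rfl⟩
  have hUmem : ∀ x : X, x ∈ U ↔ ∃ s, ι₁ s = (x : G₁ × G₂).1 := by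
    intro x
    rw [hUdef, Subgroup.mem_comap, MonoidHom.mem_range]
    exact Iff.rfl
  obtain ⟨A, hAdef⟩ : ∃ A : Subgroup X, A = δ.range := ⟨_, rfl⟩
  have hAmem : ∀ x : X, x ∈ A ↔ ∃ s, δ s = x := by
    intro x
    rw [hAdef, MonoidHom.mem_range]
  have hKU : K ≤ U := by
    intro x hx
    rw [hUmem]
    exact ⟨1, by rw [map_one, (hKmem x).mp hx]⟩
  have hAU : A ≤ U := by
    intro x hx
    obtain ⟨s, rfl⟩ := (hAmem x).mp hx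
    rw [hUmem]
    exact ⟨s, rfl⟩
  have hAK : A ⊓ K = ⊥ := by
    rw [eq_bot_iff]
    rintro x ⟨hxA, hxK⟩
    obtain ⟨s, rfl⟩ := (hAmem x).mp hxA
    have h3 : ι₁ s = 1 := (hKmem _).mp hxK
    have h4 : s = 1 := h₁ (by rw [h3, map_one])
    rw [h4, map_one]
    exact Subgroup.mem_bot.mpr rfl
  have hU : ∀ u ∈ U, ∃ k ∈ K, ∃ a ∈ A, u = k * a := by
    intro u hu
    obtain ⟨s, hs⟩ := (hUmem u).mp hu
    refine ⟨u * (δ s)⁻¹, ?_, δ s, (hAmem _).mpr ⟨s, rfl⟩, by group⟩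
    rw [hKmem]
    show (u : G₁ × G₂).1 * (ι₁ s)⁻¹ = 1
    rw [hs, mul_inv_cancel]
  -- coprimality
  have hcop : (Nat.card K).Coprime U.index := by
    have hidx : U.index = (ι₁.range).index := by
      rw [hUdef]
      exact Subgroup.index_comap_of_surjective _ hφ₁surj
    have hnd : ¬ p ∣ U.index := by
      rw [hidx, ← hT₁]
      exact T₁.not_dvd_index
    have hKp : IsPGroup p K := by
      have hT₂p : IsPGroup p (T₂ : Subgroup G₂) := T₂.isPGroup'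
      let ψ : K →* (T₂ : Subgroup G₂) :=
        { toFun := fun k => ⟨(k.1 : G₁ × G₂).2, by
            obtain ⟨z, -, ez⟩ := hKz k.1 k.2
            rw [hT₂, ez]
            exact ⟨z, rfl⟩⟩
          map_one' := rfl
          map_mul' := fun a b => rfl }
      apply hT₂p.of_injective ψ
      intro a b hab
      have h2 : (a.1 : G₁ × G₂).2 = (b.1 : G₁ × G₂).2 := congrArg Subtype.val hab
      apply Subtype.ext
      apply hext _ _ _ h2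
      rw [(hKmem a.1).mp a.2, (hKmem b.1).mp b.2]
    obtain ⟨n, hn⟩ := hKp.exists_card_eq
    rw [hn]
    exact Nat.Coprime.pow_left n ((Nat.Prime.coprime_iff_not_dvd Fact.out).mpr hnd)
  -- stability
  have hstab : ∀ x : X, ∃ k ∈ K, ∀ a ∈ A, x⁻¹ * a * x ∈ U → (x * k)⁻¹ * a * (x * k) ∈ A := by
    intro x
    obtain ⟨h₂', hh₂⟩ := hf₁₂ ((x : G₁ × G₂).1)⁻¹
    have hk₂X : ((1 : G₁), ((x : G₁ × G₂).2)⁻¹ * h₂'⁻¹) ∈ X := by
      rw [hXmem]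
      intro q' hq'
      obtain ⟨q, hq, e1, e2⟩ := (hXmem _).mp x.2 q' hq'
      refine ⟨q', hq', by simp, ?_⟩
      have e3 : ((x : G₁ × G₂).1)⁻¹ * ι₁ q * ((x : G₁ × G₂).1)⁻¹⁻¹ = ι₁ q' := by
        rw [← e1]; group
      have e4 := hh₂ q q' e3
      show ((x : G₁ × G₂).2)⁻¹ * h₂'⁻¹ * ι₂ q' * (((x : G₁ × G₂).2)⁻¹ * h₂'⁻¹)⁻¹ = ι₂ q'
      have e7 : h₂'⁻¹ * ι₂ q' * h₂' = ι₂ q := by rw [← e4]; group
      have e8 : ((x : G₁ × G₂).2)⁻¹ * ι₂ q * (x : G₁ × G₂).2 = ι₂ q' := by rw [← e2]; group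
      calc ((x : G₁ × G₂).2)⁻¹ * h₂'⁻¹ * ι₂ q' * (((x : G₁ × G₂).2)⁻¹ * h₂'⁻¹)⁻¹
          = ((x : G₁ × G₂).2)⁻¹ * (h₂'⁻¹ * ι₂ q' * h₂') * (x : G₁ × G₂).2 := by group
        _ = ι₂ q' := by rw [e7, e8]
    refine ⟨⟨_, hk₂X⟩, (hKmem _).mpr rfl, ?_⟩
    intro a ha hau
    obtain ⟨s, rfl⟩ := (hAmem a).mp ha
    obtain ⟨s', hs'⟩ := (hUmem _).mp hau
    have e5 : ((x : G₁ × G₂).1)⁻¹ * ι₁ s * ((x : G₁ × G₂).1)⁻¹⁻¹ = ι₁ s' := by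
      rw [hs']
      show _ = ((x : G₁ × G₂).1)⁻¹ * ι₁ s * (x : G₁ × G₂).1
      group
    have e6 := hh₂ s s' e5
    rw [hAmem]
    refine ⟨s', ?_⟩
    apply hext
    · show ι₁ s' = ((x : G₁ × G₂).1 * 1)⁻¹ * ι₁ s * ((x : G₁ × G₂).1 * 1)
      rw [← e5]
      group
    · show ι₂ s' = ((x : G₁ × G₂).2 * (((x : G₁ × G₂).2)⁻¹ * h₂'⁻¹))⁻¹ * ι₂ s *
        ((x : G₁ × G₂).2 * (((x : G₁ × G₂).2)⁻¹ * h₂'⁻¹))
      rw [← e6]
      group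
  -- the complement
  haveI : Finite X := inferInstance
  obtain ⟨H, hH, hAH⟩ := Cfsg.Agent.H9GS.exists_complement_containing U hKU hcop hAU hAK hU hstab
  have hHdisj : ∀ x : X, x ∈ K → x ∈ H → x = 1 := by
    intro x hxK hxH
    have := hH.disjoint
    rw [Subgroup.disjoint_def] at this
    exact this hxK hxH
  have hHprod : ∀ x : X, ∃ k ∈ K, ∃ h ∈ H, x = k * h := by
    intro x
    obtain ⟨⟨k, h⟩, hkh, -⟩ := (Subgroup.isComplement'_def.mp hH).existsUnique x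
    exact ⟨k.1, k.2, h.1, h.2, hkh.symm⟩
  -- the two projections restricted to `H`
  let ψ₁ : H →* G₁ := φ₁.comp H.subtype
  let ψ₂ : H →* G₂ := φ₂.comp H.subtype
  have hψ₁bij : Function.Bijective ψ₁ := by
    constructor
    · rw [injective_iff_map_eq_one]
      intro h hh
      have h1 : h.1 ∈ K := (hKmem _).mpr hh
      exact Subtype.ext (hHdisj h.1 h1 h.2)
    · intro g₁
      obtain ⟨x, hx⟩ := hφ₁surj g₁
      obtain ⟨k, hk, h, hh, rfl⟩ := hHprod x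
      refine ⟨⟨h, hh⟩, ?_⟩
      show φ₁ h = g₁
      rw [← hx, map_mul]
      have : φ₁ k = 1 := (hKmem k).mp hk
      rw [this, one_mul]
  have hψ₂bij : Function.Bijective ψ₂ := by
    constructor
    · rw [injective_iff_map_eq_one]
      intro h hh
      have hh2 : (h.1 : G₁ × G₂).2 = 1 := hh
      have h1 : ((h.1 : G₁ × G₂).1, (1 : G₂)) ∈ X := by
        have := h.1.2
        rw [← hh2]
        exact this
      obtain ⟨z, hz, ez⟩ := X3' _ h1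
      have h2 : δ z ∈ H := hAH ((hAmem _).mpr ⟨z, rfl⟩)
      have h3 : (h.1)⁻¹ * δ z ∈ H := H.mul_mem (H.inv_mem h.2) h2
      have h4 : (h.1)⁻¹ * δ z ∈ K := by
        rw [hKmem]
        show ((h.1 : G₁ × G₂).1)⁻¹ * ι₁ z = 1
        rw [ez, inv_mul_cancel]
      have h5 := hHdisj _ h4 h3
      have h6 : h.1 = δ z := by
        have := inv_mul_eq_one.mp h5
        exact this
      have h7 : ι₂ z = 1 := by
        have : (h.1 : G₁ × G₂).2 = ι₂ z := by rw [h6]; rfl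
        rw [← this, hh2]
      have h8 : z = 1 := h₂ (by rw [h7, map_one])
      apply Subtype.ext
      rw [h6, h8, map_one]
      rfl
    · intro g₂
      obtain ⟨g₁, hg⟩ := X2 g₂
      obtain ⟨k, hk, h, hh, e⟩ := hHprod ⟨(g₁, g₂), hg⟩
      obtain ⟨z, hz, ez⟩ := hKz k hk
      have h2 : δ z ∈ H := hAH ((hAmem _).mpr ⟨z, rfl⟩)
      refine ⟨⟨δ z * h, H.mul_mem h2 hh⟩, ?_⟩
      show φ₂ (δ z * h) = g₂
      rw [map_mul, hδ₂]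
      have e2 : φ₂ (⟨(g₁, g₂), hg⟩ : X) = φ₂ k * φ₂ h := by rw [e, map_mul]
      have e3 : φ₂ (⟨(g₁, g₂), hg⟩ : X) = g₂ := rfl
      rw [e3, hφ₂ k, ez] at e2
      exact e2.symm
  let e₁ : H ≃* G₁ := MulEquiv.ofBijective ψ₁ hψ₁bij
  let e₂ : H ≃* G₂ := MulEquiv.ofBijective ψ₂ hψ₂bij
  refine ⟨e₁.symm.trans e₂, ?_⟩
  intro s
  have h2 : δ s ∈ H := hAH ((hAmem _).mpr ⟨s, rfl⟩)
  have h3 : e₁ ⟨δ s, h2⟩ = ι₁ s := rfl
  have h4 : e₁.symm (ι₁ s) = ⟨δ s, h2⟩ := by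
    rw [← h3, MulEquiv.symm_apply_apply]
  show e₂ (e₁.symm (ι₁ s)) = ι₂ s
  rw [h4]
  rfl

end Cfsg.Agent.H9MU
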