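import Mathlib
import Cfsg.Prelude
import Cfsg.Agent.Lib.Helper9.ModelUniq2
import Cfsg.Agent.Lib.Helper9.Model1
import Cfsg.Agent.S5145

set_option autoImplicit false

/-!
# Uniqueness of models: from realizations to the group-theoretic hypotheses
-/

namespace Cfsg.Agent.H9MU

open Cfsg Cfsg.FusionSystem Cfsg.Agent.Lib.Helper9

variable {Ω : Type*} [Group Ω] {S : Subgroup Ω}

/-- two realizations of the same system have the same fusion -/
theorem same_fusion (F : FusionSystem S) {G₁ G₂ : Type*} [Group G₁] [Group G₂]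
    (ι₁ : S →* G₁) (ι₂ : S →* G₂) (hι₁ : F.IsRealizedBy ι₁) (hι₂ : F.IsRealizedBy ι₂) (g₁ : G₁) :
    ∃ g₂ : G₂, ∀ s s' : S, g₁ * ι₁ s * g₁⁻¹ = ι₁ s' → g₂ * ι₂ s * g₂⁻¹ = ι₂ s' := by
  obtain ⟨P, hP⟩ : ∃ P : Subgroup Ω,
      P = preimageAlong ι₁ ((ι₁.range).comap (MulAut.conj g₁).toMonoidHom) := ⟨_, rfl⟩
  have hPS : P ≤ S := by rw [hP]; exact preimageAlong_le ι₁ _
  have hPmem : ∀ x : Ω, x ∈ P ↔ ∃ hx : x ∈ S, g₁ * ι₁ ⟨x, hx⟩ * g₁⁻¹ ∈ ι₁.range := by
    intro x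
    rw [hP, mem_preimageAlong_iff]
    exact Iff.rfl
  have hval : ∀ x : P, g₁ * ι₁ ⟨x, hPS x.2⟩ * g₁⁻¹ ∈ ι₁.range := by
    intro x
    obtain ⟨hx, h⟩ := (hPmem x).mp x.2
    exact h
  have hφ := liftConj_mem_hom hι₁ hPS g₁ hval
  have hφS : ∀ x : P, liftConj ι₁ hι₁.1 hPS g₁ hval x ∈ S := liftConj_mem ι₁ hι₁.1 hPS g₁ hval
  obtain ⟨g₂, hg₂⟩ := (hι₂.2 P hPS _ hφS).mp hφ
  refine ⟨g₂, ?_⟩
  intro s s' hss'
  have hsP : (s : Ω) ∈ P := by
    rw [hPmem]
    refine ⟨s.2, ?_⟩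
    rw [Subtype.coe_eta, hss']
    exact ⟨s', rfl⟩
  have h1 := ι_liftConj ι₁ hι₁.1 hPS g₁ hval ⟨s, hsP⟩ (hφS ⟨s, hsP⟩)
  have h2 : (⟨liftConj ι₁ hι₁.1 hPS g₁ hval ⟨s, hsP⟩, hφS ⟨s, hsP⟩⟩ : S) = s' := by
    apply hι₁.1
    rw [h1]
    exact hss'
  have h3 := hg₂ ⟨s, hsP⟩
  rw [h2] at h3
  exact h3.symm

/-- the image of the core of the system in a model is normal and self-centralizing -/
theorem core_image_facts [Finite S] {G : Type*} [Group G] [Finite G] (p : ℕ) [Fact p.Prime]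
    (F : FusionSystem S) (ι : S →* G) (hι : F.IsRealizedBy ι) (T : Sylow p G)
    (hT : (T : Subgroup G) = ι.range)
    (hcent : Subgroup.centralizer ((pCore p G : Subgroup G) : Set G) ≤ pCore p G) :
    ((F.core.subgroupOf S).map ι).Normal ∧
      Subgroup.centralizer (((F.core.subgroupOf S).map ι : Subgroup G) : Set G) ≤
        (F.core.subgroupOf S).map ι := by
  haveI hOn : (pCore p G).Normal := pCore_normal' p
  have hOT : pCore p G ≤ ι.range := hT ▸ pCore_le_sylow T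
  have hcoreN : F.IsNormal F.core := Cfsg.Agent.S5145.result F
  have hpre : preimageAlong ι (pCore p G) ≤ F.core := by
    have h1 : F.IsNormal (preimageAlong ι (pCore p G)) :=
      realized_isNormal_preimage F ι hι (pCore p G) hOT
    exact le_sSup h1
  have hnorm : (imageAlong ι F.core).Normal :=
    realized_normal_image F ι hι (pCore p G) hOT hcent hcoreN hpre
  have hle : pCore p G ≤ (F.core.subgroupOf S).map ι := by
    intro w hw
    obtain ⟨s, rfl⟩ := hOT hw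
    refine ⟨s, ?_, rfl⟩
    rw [SetLike.mem_coe, Subgroup.mem_subgroupOf]
    apply hpre
    rw [mem_preimageAlong_iff]
    exact ⟨s.2, hw⟩
  refine ⟨hnorm, ?_⟩
  intro x hx
  apply hle
  apply hcent
  rw [Subgroup.mem_centralizer_iff] at hx ⊢
  intro y hy
  exact hx y (hle hy)

end Cfsg.Agent.H9MU
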