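import Mathlib
import Cfsg.Prelude
import Cfsg.Agent.Lib.Helper9.ModelUniq3
import Cfsg.Agent.Lib.Helper9.Sections
import Cfsg.Agent.Lib.Helper3.CharP2
import Cfsg.Agent.Lib.Helper3.Components7

set_option autoImplicit false

/-!
# Kessar–Linckelmann cascade (part 1): general facts on models
-/

namespace Cfsg.Agent.H9KL

open Cfsg Cfsg.FusionSystem Cfsg.Agent.Lib.Helper9

universe u

/-- Two models of the same system are isomorphic (no further hypotheses). -/
theorem model_iso {Ω : Type*} [Group Ω] {S : Subgroup Ω} [Finite S] (p : ℕ) [Fact p.Prime]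
    (F : FusionSystem S) {G₁ G₂ : Type*} [Group G₁] [Group G₂] (ι₁ : S →* G₁) (ι₂ : S →* G₂)
    (h₁ : F.IsModel p G₁ ι₁) (h₂ : F.IsModel p G₂ ι₂) : ∃ φ : G₁ ≃* G₂, ∀ x : S, φ (ι₁ x) = ι₂ x := by
  obtain ⟨hfin₁, hι₁, ⟨T₁, hT₁⟩, hcent₁⟩ := h₁
  obtain ⟨hfin₂, hι₂, ⟨T₂, hT₂⟩, hcent₂⟩ := h₂
  haveI := hfin₁
  haveI := hfin₂
  obtain ⟨hn₁, hc₁⟩ := Cfsg.Agent.H9MU.core_image_facts p F ι₁ hι₁ T₁ hT₁ hcent₁
  obtain ⟨hn₂, hc₂⟩ := Cfsg.Agent.H9MU.core_image_facts p F ι₂ hι₂ T₂ hT₂ hcent₂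
  exact Cfsg.Agent.H9MU.model_unique p ι₁ ι₂ hι₁.1 hι₂.1 T₁ hT₁ T₂ hT₂ (F.core.subgroupOf S)
    hn₁ hn₂ hc₁ hc₂
    (fun g₁ => Cfsg.Agent.H9MU.same_fusion F ι₁ ι₂ hι₁ hι₂ g₁)
    (fun g₂ => Cfsg.Agent.H9MU.same_fusion F ι₂ ι₁ hι₂ hι₁ g₂)

/-- If a model of `D` sits inside a group not involving `H`, no model of `D` involves `H`. -/
theorem not_involves_of_model_subgroup {Ω : Type*} [Group Ω] {S : Subgroup Ω} [Finite S] (p : ℕ) [Fact p.Prime]
    (D : FusionSystem S) {H : Type*} [Group H] {G : Type*} [Group G] (K : Subgroup G) (j : S →* K)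
    (hK : D.IsModel p K j) (hG : ¬ Involves H G) {L : Type*} [Group L] (ι : S →* L)
    (hL : D.IsModel p L ι) : ¬ Involves H L := by
  intro hH
  obtain ⟨φ, -⟩ := model_iso p D ι j hL hK
  apply hG
  apply involves_of_isSectionOf
  have h1 : IsSectionOf H L := isSectionOf_of_involves hH
  have h2 : IsSectionOf H K := h1.of_injective φ.toMonoidHom φ.injective
  exact h2.of_subgroup

/-- If a model of `D` is a quotient of a group not involving `H`, no model of `D` involves `H`. -/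
theorem not_involves_of_model_quotient {Ω : Type*} [Group Ω] {S : Subgroup Ω} [Finite S] (p : ℕ) [Fact p.Prime]
    (D : FusionSystem S) {H : Type*} [Group H] {G : Type*} [Group G] {K : Type*} [Group K] (j : S →* K)
    (f : G →* K) (hf : Function.Surjective f)
    (hK : D.IsModel p K j) (hG : ¬ Involves H G) {L : Type*} [Group L] (ι : S →* L)
    (hL : D.IsModel p L ι) : ¬ Involves H L := by
  intro hH
  obtain ⟨φ, -⟩ := model_iso p D ι j hL hK
  apply hG
  apply involves_of_isSectionOf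
  have h1 : IsSectionOf H L := isSectionOf_of_involves hH
  have h2 : IsSectionOf H K := h1.of_injective φ.toMonoidHom φ.injective
  refine h2.trans ⟨⊤, f.comp (⊤ : Subgroup G).subtype, ?_⟩
  intro k
  obtain ⟨g, rfl⟩ := hf k
  exact ⟨⟨g, Subgroup.mem_top g⟩, rfl⟩

/-- Local subgroups of groups of characteristic `p` have characteristic `p`. -/
theorem normalizer_charp {G : Type*} [Group G] [Finite G] (p : ℕ) [Fact p.Prime]
    (hG : Subgroup.centralizer ((pCore p G : Subgroup G) : Set G) ≤ pCore p G) (X : Subgroup G)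
    (hX : IsPGroup p X) :
    Subgroup.centralizer ((pCore p ↥(Subgroup.normalizer (X : Set G)) :
      Subgroup ↥(Subgroup.normalizer (X : Set G))) : Set ↥(Subgroup.normalizer (X : Set G))) ≤
      pCore p ↥(Subgroup.normalizer (X : Set G)) := by
  haveI : (pCore p G).Normal := pCore_normal' p
  have h1 := Cfsg.Agent.Lib.Helper3.generalizedFittingSubgroup_normalizer_eq_pCore (p := p)
    (Q := pCore p G) (pCore_isPGroup' p) hG hX
  have h2 := Cfsg.Agent.Lib.Helper3.centralizer_generalizedFittingSubgroup_le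
    (G := ↥(Subgroup.normalizer (X : Set G)))
  rw [h1] at h2
  exact h2

end Cfsg.Agent.H9KL
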