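import Mathlib
import Cfsg.Prelude.Def_FusionComponents
import Cfsg.Agent.Lib.Helper9.Realize1
import Cfsg.Agent.Lib.Helper9.Hyperfocal1

set_option autoImplicit false
open Cfsg
open Cfsg.FusionSystem

/-! The subsystem of a realized system induced by a subgroup of the realizing group. -/

namespace Cfsg.Agent.Lib.Helper9

variable {Ω : Type*} [Group Ω] {S : Subgroup Ω} {G : Type*} [Group G]

/-- The fusion system on `ι⁻¹(H)` of conjugations by elements of `H`, read through `ι`. -/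
noncomputable def realSub (ι : S →* G) (hinj : Function.Injective ι) (H : Subgroup G) :
    FusionSystem (preimageAlong ι H) where
  Hom P := {φ | ∃ (hP : P ≤ preimageAlong ι H) (hφ : ∀ x : P, φ x ∈ preimageAlong ι H), ∃ n ∈ H, ∀ x : P,
    ι ⟨φ x, preimageAlong_le ι H (hφ x)⟩ = n * ι ⟨x, preimageAlong_le ι H (hP x.2)⟩ * n⁻¹}
  le_of_mem := by
    rintro P φ ⟨hP, hφ, -⟩
    exact ⟨hP, hφ⟩
  injective_of_mem := by
    rintro P φ ⟨hP, hφ, n, -, hn⟩ a b hab
    have h1 : ι ⟨φ a, preimageAlong_le ι H (hφ a)⟩ = ι ⟨φ b, preimageAlong_le ι H (hφ b)⟩ := by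
      congr 1
      exact Subtype.ext hab
    rw [hn, hn] at h1
    have h2 := hinj (mul_left_cancel (mul_right_cancel h1))
    exact Subtype.ext (congrArg (fun z : S => (z : Ω)) h2)
  conj_mem := by
    intro P g hP hg
    have hgS : g ∈ S := preimageAlong_le ι H hg
    refine ⟨hP, fun x => ?_, ι ⟨g, hgS⟩, apply_mem_of_mem_preimageAlong ι H ⟨g, hg⟩, fun x => ?_⟩
    · show g * (x : Ω) * g⁻¹ ∈ preimageAlong ι H
      exact Subgroup.mul_mem _ (Subgroup.mul_mem _ hg (hP x.2)) (Subgroup.inv_mem _ hg)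
    · rw [← map_inv, ← map_mul, ← map_mul]
      rfl
  comp_mem := by
    rintro P Q φ ψ ⟨hP, hφ, n, hn, Hn⟩ ⟨hQ, hψ, m, hm, Hm⟩ h
    refine ⟨hP, fun x => hψ _, m * n, Subgroup.mul_mem _ hm hn, fun x => ?_⟩
    have e1 := Hm ⟨φ x, h x⟩
    have e2 := Hn x
    show ι ⟨ψ ⟨φ x, h x⟩, _⟩ = _
    rw [e1]
    show m * ι ⟨φ x, _⟩ * m⁻¹ = _
    rw [e2]
    group
  inv_mem := by
    rintro P φ ⟨hP, hφ, n, hn, Hn⟩
    have hRS : φ.range ≤ S := by
      rintro _ ⟨x, rfl⟩
      exact preimageAlong_le ι H (hφ x)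
    have hval' : ∀ x : P, n⁻¹ * ι ⟨φ x, preimageAlong_le ι H (hφ x)⟩ * n⁻¹⁻¹ =
        ι ⟨x, preimageAlong_le ι H (hP x.2)⟩ := by
      intro x
      rw [Hn x]
      group
    have hval : ∀ y : φ.range, n⁻¹ * ι ⟨y, hRS y.2⟩ * n⁻¹⁻¹ ∈ ι.range := by
      rintro ⟨_, x, rfl⟩
      exact ⟨_, (hval' x).symm⟩
    have hψx : ∀ x : P, liftConj ι hinj hRS n⁻¹ hval ⟨φ x, ⟨x, rfl⟩⟩ = (x : Ω) := by
      intro x
      have e1 := ι_liftConj ι hinj hRS n⁻¹ hval ⟨φ x, ⟨x, rfl⟩⟩ (liftConj_mem ι hinj hRS n⁻¹ hval _)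
      have e2 : ι ⟨liftConj ι hinj hRS n⁻¹ hval ⟨φ x, ⟨x, rfl⟩⟩, liftConj_mem ι hinj hRS n⁻¹ hval _⟩ =
          ι ⟨x, preimageAlong_le ι H (hP x.2)⟩ := by
        rw [e1]
        exact hval' x
      exact congrArg (fun z : S => (z : Ω)) (hinj e2)
    refine ⟨liftConj ι hinj hRS n⁻¹ hval, ⟨?_, ?_, n⁻¹, Subgroup.inv_mem _ hn, ?_⟩, hψx⟩
    · rintro _ ⟨x, rfl⟩
      exact hφ x
    · rintro ⟨_, x, rfl⟩
      rw [hψx x]
      exact hP x.2
    · intro y
      exact ι_liftConj ι hinj hRS n⁻¹ hval y _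

theorem mem_realSub_iff (ι : S →* G) (hinj : Function.Injective ι) (H : Subgroup G) {P : Subgroup Ω}
    (φ : P →* Ω) : φ ∈ (realSub ι hinj H).Hom P ↔
      ∃ (hP : P ≤ preimageAlong ι H) (hφ : ∀ x : P, φ x ∈ preimageAlong ι H), ∃ n ∈ H, ∀ x : P,
        ι ⟨φ x, preimageAlong_le ι H (hφ x)⟩ = n * ι ⟨x, preimageAlong_le ι H (hP x.2)⟩ * n⁻¹ :=
  Iff.rfl

/-- The restriction of `ι` to `ι⁻¹(H)`, as a homomorphism into `H`. -/
def realRes (ι : S →* G) (H : Subgroup G) : preimageAlong ι H →* H :=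
  (ι.comp (Subgroup.inclusion (preimageAlong_le ι H))).codRestrict H
    (fun x => apply_mem_of_mem_preimageAlong ι H x)

theorem realRes_coe (ι : S →* G) (H : Subgroup G) (x : preimageAlong ι H) :
    ((realRes ι H x : H) : G) = ι ⟨x, preimageAlong_le ι H x.2⟩ := rfl

theorem realRes_injective (ι : S →* G) (hinj : Function.Injective ι) (H : Subgroup G) :
    Function.Injective (realRes ι H) := by
  intro a b hab
  have h1 : ι ⟨a, preimageAlong_le ι H a.2⟩ = ι ⟨b, preimageAlong_le ι H b.2⟩ :=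
    congrArg (fun z : H => (z : G)) hab
  exact Subtype.ext (congrArg (fun z : S => (z : Ω)) (hinj h1))

theorem realSub_isRealizedBy (ι : S →* G) (hinj : Function.Injective ι) (H : Subgroup G) :
    (realSub ι hinj H).IsRealizedBy (realRes ι H) := by
  refine ⟨realRes_injective ι hinj H, ?_⟩
  intro P hP φ hφ
  constructor
  · rintro ⟨_, _, n, hn, Hn⟩
    refine ⟨⟨n, hn⟩, fun x => ?_⟩
    apply Subtype.ext
    exact Hn x
  · rintro ⟨n, Hn⟩
    refine ⟨hP, hφ, n, n.2, fun x => ?_⟩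
    exact congrArg (fun z : H => (z : G)) (Hn x)

theorem realRes_range (ι : S →* G) (H : Subgroup G) :
    (realRes ι H).range = (ι.range ⊓ H).subgroupOf H := by
  ext y
  rw [Subgroup.mem_subgroupOf]
  constructor
  · rintro ⟨x, rfl⟩
    exact ⟨⟨_, rfl⟩, (realRes ι H x).2⟩
  · rintro ⟨⟨s, hs⟩, -⟩
    have hsH : (s : Ω) ∈ preimageAlong ι H := by
      rw [mem_preimageAlong_iff]
      exact ⟨s.2, by rw [Subtype.coe_eta, hs]; exact y.2⟩
    refine ⟨⟨s, hsH⟩, ?_⟩
    apply Subtype.ext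
    rw [realRes_coe]
    exact hs

/-- For a normal subgroup `N` of the realizing group, the induced subsystem is saturated. -/
theorem realSub_isSaturated_of_normal [Finite G] {p : ℕ} [Fact p.Prime] (ι : S →* G)
    (hinj : Function.Injective ι) (T : Sylow p G) (hT : (T : Subgroup G) = ι.range) (N : Subgroup G)
    [N.Normal] : (realSub ι hinj N).IsSaturated p := by
  obtain ⟨T', hT'⟩ := exists_sylow_map_eq_inf T N
  refine isSaturated_of_realized (realSub ι hinj N) (realRes ι N) (realSub_isRealizedBy ι hinj N) T' ?_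
  rw [realRes_range, ← hT, ← hT']
  ext y
  rw [Subgroup.mem_subgroupOf]
  constructor
  · intro hy
    exact ⟨y, hy, rfl⟩
  · rintro ⟨z, hz, hzy⟩
    have : z = y := Subtype.ext hzy
    rw [← this]
    exact hz

/-- For a subgroup `H` containing the Sylow subgroup, the induced subsystem is saturated. -/
theorem realSub_isSaturated_of_le [Finite G] {p : ℕ} [Fact p.Prime] (ι : S →* G)
    (hinj : Function.Injective ι) (T : Sylow p G) (hT : (T : Subgroup G) = ι.range) (H : Subgroup G)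
    (hTH : (T : Subgroup G) ≤ H) : (realSub ι hinj H).IsSaturated p := by
  refine isSaturated_of_realized (realSub ι hinj H) (realRes ι H) (realSub_isRealizedBy ι hinj H)
    (T.subtype hTH) ?_
  rw [realRes_range, ← hT, inf_of_le_left hTH]
  rfl

end Cfsg.Agent.Lib.Helper9
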