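import Mathlib
import Cfsg.Prelude.Def_FusionComponents
import Cfsg.Agent.Lib.Helper9.Realize2
import Cfsg.Agent.Lib.Helper9.NormalSubsys1
import Cfsg.Agent.Lib.Helper9.FusionAut
import Cfsg.Agent.Lib.Helper9.FusionAut2

set_option autoImplicit false
open Cfsg
open Cfsg.FusionSystem

/-! A normal subgroup of the realizing group induces a normal subsystem of the realized system. -/

namespace Cfsg.Agent.Lib.Helper9

variable {Ω : Type*} [Group Ω] {S : Subgroup Ω} {G : Type*} [Group G]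

/-- An element of `Aut_F(R)` is, read through `ι`, conjugation by an element of the realizing group. -/
theorem exists_conj_of_aut {F : FusionSystem S} {ι : S →* G} (hι : F.IsRealizedBy ι) {R : Subgroup Ω}
    (hR : R ≤ S) {α : MulAut R} (hα : α ∈ F.autGroup R) :
    ∃ g : G, ∀ y : R, ι ⟨(α y : R), hR (α y).2⟩ = g * ι ⟨y, hR y.2⟩ * g⁻¹ := by
  rw [mem_autGroup_iff F hR] at hα
  exact (hι.2 R hR _ (fun y => hR (α y).2)).mp hα

/-- Conjugation by an element of the realizing group that maps `ι(R)` into itself gives an element of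
`Aut_F(R)`. -/
theorem exists_aut_of_conj [Finite S] {F : FusionSystem S} {ι : S →* G} (hι : F.IsRealizedBy ι) {R : Subgroup Ω}
    (hR : R ≤ S) (a : G) (h : ∀ y : R, ∃ z : R, ι ⟨z, hR z.2⟩ = a * ι ⟨y, hR y.2⟩ * a⁻¹) :
    ∃ α ∈ F.autGroup R, ∀ y : R, ι ⟨(α y : R), hR (α y).2⟩ = a * ι ⟨y, hR y.2⟩ * a⁻¹ := by
  have hval : ∀ y : R, a * ι ⟨y, hR y.2⟩ * a⁻¹ ∈ ι.range := by
    intro y
    obtain ⟨z, hz⟩ := h y
    exact ⟨_, hz⟩
  have hmem : liftConj ι hι.1 hR a hval ∈ F.Hom R := liftConj_mem_hom hι hR a hval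
  have hvalR : ∀ y : R, liftConj ι hι.1 hR a hval y ∈ R := by
    intro y
    obtain ⟨z, hz⟩ := h y
    have e1 := ι_liftConj ι hι.1 hR a hval y (liftConj_mem ι hι.1 hR a hval y)
    rw [← hz] at e1
    have e2 := congrArg (fun z : S => (z : Ω)) (hι.1 e1)
    have e3 : liftConj ι hι.1 hR a hval y = (z : Ω) := e2
    rw [e3]
    exact z.2
  obtain ⟨α, hα, Hα⟩ := fs_hom_to_aut F hmem hvalR
  refine ⟨α, hα, fun y => ?_⟩
  have e1 := ι_liftConj ι hι.1 hR a hval y (liftConj_mem ι hι.1 hR a hval y)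
  rw [← e1]
  congr 1
  exact Subtype.ext (Hα y)

theorem realSub_isNormalIn [Finite S] [Finite G] {p : ℕ} [Fact p.Prime] (F : FusionSystem S) (ι : S →* G)
    (hι : F.IsRealizedBy ι) (T : Sylow p G) (hT : (T : Subgroup G) = ι.range) (N : Subgroup G)
    [hNn : N.Normal] : (realSub ι hι.1 N).IsNormalIn F p := by
  have hinj := hι.1
  have hEsat := realSub_isSaturated_of_normal ι hinj T hT N
  have hFsat := isSaturated_of_realized F ι hι T hT
  have hT₀S : preimageAlong ι N ≤ S := preimageAlong_le ι N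
  have hιT : ∀ s : S, ι s ∈ (T : Subgroup G) := fun s => hT ▸ ⟨s, rfl⟩
  have hTι : ∀ w ∈ (T : Subgroup G), ∃ s : S, ι s = w := by
    intro w hw
    rw [hT] at hw
    exact hw
  -- elements of T₀ correspond to elements of T ⊓ N
  have hT₀mem : ∀ y : preimageAlong ι N, ι ⟨y, hT₀S y.2⟩ ∈ (T : Subgroup G) ⊓ N :=
    fun y => ⟨hιT _, apply_mem_of_mem_preimageAlong ι N y⟩
  have hT₀surj : ∀ w ∈ (T : Subgroup G) ⊓ N, ∃ y : preimageAlong ι N, ι ⟨y, hT₀S y.2⟩ = w := by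
    rintro w ⟨hwT, hwN⟩
    obtain ⟨s, rfl⟩ := hTι w hwT
    exact ⟨⟨s, (mem_preimageAlong_iff ι N s).mpr ⟨s.2, hwN⟩⟩, rfl⟩
  have hT₀of : ∀ (y : Ω) (hy : y ∈ S), ι ⟨y, hy⟩ ∈ N → y ∈ preimageAlong ι N :=
    fun y hy h => (mem_preimageAlong_iff ι N y).mpr ⟨hy, h⟩
  obtain ⟨T', hT'⟩ := exists_sylow_map_eq_inf T N
  have hfrat : Subgroup.normalizer ((((T : Subgroup G) ⊓ N : Subgroup G)) : Set G) ⊔ N = ⊤ := by
    rw [← hT']
    exact Sylow.normalizer_sup_eq_top T'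
  have hsc : F.StronglyClosed (preimageAlong ι N) := by
    refine ⟨hT₀S, ?_⟩
    intro R hR φ hφ x
    have hφS : ∀ x : R, φ x ∈ S := (F.le_of_mem hφ).2
    obtain ⟨g, Hg⟩ := (hι.2 R (hR.trans hT₀S) φ hφS).mp hφ
    apply hT₀of _ (hφS x)
    rw [Hg]
    exact hNn.conj_mem _ (apply_mem_of_mem_preimageAlong ι N ⟨x, hR x.2⟩) g
  refine ⟨⟨hEsat, hFsat, ?_, hsc, ?_, ?_⟩, ?_⟩
  · -- subsystem
    rintro P φ ⟨hP, hφ, n, -, Hn⟩
    exact (hι.2 P (hP.trans hT₀S) φ (fun x => hT₀S (hφ x))).mpr ⟨n, Hn⟩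
  · -- invariance
    rintro P hPT φ ⟨_, hφ, n, hnN, Hn⟩ α hα
    obtain ⟨g, Hg⟩ := exists_conj_of_aut hι hT₀S hα
    have hP'T : (P.subgroupOf (preimageAlong ι N)).map ((preimageAlong ι N).subtype.comp α.toMonoidHom) ≤
        preimageAlong ι N := by
      rintro _ ⟨y, -, rfl⟩
      exact (α y).2
    have hkey : ∀ x : P, g * n * g⁻¹ * ι ⟨(α ⟨x, hPT x.2⟩ : preimageAlong ι N), hT₀S (α _).2⟩ *
        (g * n * g⁻¹)⁻¹ = ι ⟨(α ⟨φ x, hφ x⟩ : preimageAlong ι N), hT₀S (α _).2⟩ := by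
      intro x
      rw [Hg, Hg]
      show _ = g * ι ⟨φ x, _⟩ * g⁻¹
      rw [Hn]
      group
    have hval : ∀ y : ((P.subgroupOf (preimageAlong ι N)).map
        ((preimageAlong ι N).subtype.comp α.toMonoidHom) : Subgroup Ω),
        g * n * g⁻¹ * ι ⟨y, hT₀S (hP'T y.2)⟩ * (g * n * g⁻¹)⁻¹ ∈ ι.range := by
      rintro ⟨_, y, hy, rfl⟩
      rw [SetLike.mem_coe, Subgroup.mem_subgroupOf] at hy
      exact ⟨_, (hkey ⟨y, hy⟩).symm⟩
    refine ⟨liftConj ι hinj (hP'T.trans hT₀S) (g * n * g⁻¹) hval, ⟨hP'T, ?_, g * n * g⁻¹,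
      hNn.conj_mem _ hnN g, fun y => ι_liftConj ι hinj _ _ hval y _⟩, ?_⟩
    · intro y
      apply hT₀of _ (liftConj_mem ι hinj _ _ hval y)
      rw [ι_liftConj ι hinj _ _ hval y _]
      exact hNn.conj_mem _ (apply_mem_of_mem_preimageAlong ι N ⟨y, hP'T y.2⟩) _
    · intro x hφx hαx
      have e1 := ι_liftConj ι hinj (hP'T.trans hT₀S) (g * n * g⁻¹) hval
        ⟨(α ⟨x, hPT x.2⟩ : preimageAlong ι N), hαx⟩ (liftConj_mem ι hinj _ _ hval _)
      have e2 := hkey x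
      have e3 : ι ⟨liftConj ι hinj (hP'T.trans hT₀S) (g * n * g⁻¹) hval
          ⟨(α ⟨x, hPT x.2⟩ : preimageAlong ι N), hαx⟩, liftConj_mem ι hinj _ _ hval _⟩ =
          ι ⟨(α ⟨φ x, hφx⟩ : preimageAlong ι N), hT₀S (α _).2⟩ := by
        rw [e1]
        exact e2
      exact congrArg (fun z : S => (z : Ω)) (hinj e3)
  · -- Frattini
    intro P hPT φ hφ
    have hφS : ∀ x : P, φ x ∈ S := (F.le_of_mem hφ).2
    obtain ⟨g, Hg⟩ := (hι.2 P (hPT.trans hT₀S) φ hφS).mp hφ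
    have hgtop : g ∈ Subgroup.normalizer ((((T : Subgroup G) ⊓ N : Subgroup G)) : Set G) ⊔ N := by
      rw [hfrat]; exact Subgroup.mem_top g
    rw [Subgroup.mem_sup_of_normal_right] at hgtop
    obtain ⟨a, ha, n, hnN, rfl⟩ := hgtop
    have ha' : a⁻¹ ∈ Subgroup.normalizer ((((T : Subgroup G) ⊓ N : Subgroup G)) : Set G) :=
      Subgroup.inv_mem _ ha
    have hφT₀ : ∀ x : P, φ x ∈ preimageAlong ι N := fun x => hsc.2 P hPT φ hφ x
    have hnx : ∀ x : P, n * ι ⟨x, hT₀S (hPT x.2)⟩ * n⁻¹ ∈ (T : Subgroup G) ⊓ N := by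
      intro x
      have h1 : n * ι ⟨x, hT₀S (hPT x.2)⟩ * n⁻¹ = a⁻¹ * ι ⟨φ x, hφS x⟩ * a⁻¹⁻¹ := by
        rw [Hg]; group
      rw [h1]
      exact (Subgroup.mem_normalizer_iff.mp ha' _).mp (hT₀mem ⟨φ x, hφT₀ x⟩)
    have hval : ∀ x : P, n * ι ⟨x, hT₀S (hPT x.2)⟩ * n⁻¹ ∈ ι.range := by
      intro x
      obtain ⟨s, hs⟩ := hTι _ (hnx x).1
      exact ⟨s, hs⟩
    have haT₀ : ∀ y : preimageAlong ι N, ∃ z : preimageAlong ι N,
        ι ⟨z, hT₀S z.2⟩ = a * ι ⟨y, hT₀S y.2⟩ * a⁻¹ :=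
      fun y => hT₀surj _ ((Subgroup.mem_normalizer_iff.mp ha _).mp (hT₀mem y))
    obtain ⟨α, hα, Hα⟩ := exists_aut_of_conj hι hT₀S a haT₀
    refine ⟨α, hα, liftConj ι hinj (hPT.trans hT₀S) n hval, ⟨hPT, ?_, n, hnN,
      fun x => ι_liftConj ι hinj _ _ hval x _⟩, ?_⟩
    · intro x
      apply hT₀of _ (liftConj_mem ι hinj _ _ hval x)
      rw [ι_liftConj ι hinj _ _ hval x _]
      exact (hnx x).2
    · intro x hx
      have e1 := Hα ⟨liftConj ι hinj (hPT.trans hT₀S) n hval x, hx⟩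
      have e2 : ι ⟨liftConj ι hinj (hPT.trans hT₀S) n hval x, hT₀S hx⟩ =
          n * ι ⟨x, hT₀S (hPT x.2)⟩ * n⁻¹ := ι_liftConj ι hinj _ _ hval x _
      have e3 : ι ⟨φ x, hφS x⟩ = ι ⟨(α ⟨liftConj ι hinj (hPT.trans hT₀S) n hval x, hx⟩ : preimageAlong ι N),
          hT₀S (α _).2⟩ := by
        rw [e1, Hg]
        show _ = a * ι ⟨liftConj ι hinj (hPT.trans hT₀S) n hval x, _⟩ * a⁻¹
        rw [e2]
        group
      exact congrArg (fun z : S => (z : Ω)) (hinj e3)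
  · -- extension condition
    intro α hα
    rw [mem_autGroup_iff _ le_rfl] at hα
    obtain ⟨_, _, g, hgN, Hg⟩ := hα
    have Hg' : ∀ y : preimageAlong ι N, ι ⟨(α y : preimageAlong ι N), hT₀S (α y).2⟩ =
        g * ι ⟨y, hT₀S y.2⟩ * g⁻¹ := Hg
    have hgnorm : g ∈ Subgroup.normalizer ((((T : Subgroup G) ⊓ N : Subgroup G)) : Set G) := by
      apply mem_normalizer_of_conj_mem
      intro w hw
      obtain ⟨y, rfl⟩ := hT₀surj w hw
      rw [← Hg' y]
      exact hT₀mem _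
    obtain ⟨h, hhN, hhnorm, hhD, hval⟩ := exists_adjust_normalizer T N hgN hgnorm
    have hDS : preimageAlong ι N ⊔ centralizerIn S (preimageAlong ι N) ≤ S := sup_le hT₀S inf_le_left
    -- centralizer correspondences
    have hcent1 : ∀ c : Ω, ∀ hc : c ∈ centralizerIn S (preimageAlong ι N),
        ι ⟨c, hc.1⟩ ∈ Subgroup.centralizer ((((T : Subgroup G) ⊓ N : Subgroup G)) : Set G) := by
      intro c hc
      rw [Subgroup.mem_centralizer_iff]
      intro w hw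
      obtain ⟨y, rfl⟩ := hT₀surj w hw
      have h1 := (Subgroup.mem_centralizer_iff.mp hc.2) y y.2
      rw [← map_mul, ← map_mul]
      congr 1
      exact Subtype.ext h1
    have hcent2 : ∀ s : S, ι s ∈ Subgroup.centralizer ((((T : Subgroup G) ⊓ N : Subgroup G)) : Set G) →
        (s : Ω) ∈ Subgroup.centralizer ((preimageAlong ι N : Subgroup Ω) : Set Ω) := by
      intro s hs
      rw [Subgroup.mem_centralizer_iff]
      intro y hy
      have h1 := (Subgroup.mem_centralizer_iff.mp hs) _ (hT₀mem ⟨y, hy⟩)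
      rw [← map_mul, ← map_mul] at h1
      exact congrArg (fun z : S => (z : Ω)) (hinj h1)
    have hD1 : ∀ d : (preimageAlong ι N ⊔ centralizerIn S (preimageAlong ι N) : Subgroup Ω),
        ι ⟨d, hDS d.2⟩ ∈ ((T : Subgroup G) ⊓ N) ⊔ centralizerIn (T : Subgroup G) ((T : Subgroup G) ⊓ N) := by
      have hle : preimageAlong ι N ⊔ centralizerIn S (preimageAlong ι N) ≤
          preimageAlong ι (((T : Subgroup G) ⊓ N) ⊔ centralizerIn (T : Subgroup G) ((T : Subgroup G) ⊓ N)) := by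
        apply sup_le
        · intro y hy
          rw [mem_preimageAlong_iff]
          exact ⟨hT₀S hy, Subgroup.mem_sup_left (hT₀mem ⟨y, hy⟩)⟩
        · intro c hc
          rw [mem_preimageAlong_iff]
          exact ⟨hc.1, Subgroup.mem_sup_right ⟨hιT _, hcent1 c hc⟩⟩
      intro d
      exact ((mem_preimageAlong_iff ι _ _).mp (hle d.2)).2
    have hD2 : ∀ w ∈ ((T : Subgroup G) ⊓ N) ⊔ centralizerIn (T : Subgroup G) ((T : Subgroup G) ⊓ N),
        ∃ d : (preimageAlong ι N ⊔ centralizerIn S (preimageAlong ι N) : Subgroup Ω), ι ⟨d, hDS d.2⟩ = w := by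
      have hle : ((T : Subgroup G) ⊓ N) ⊔ centralizerIn (T : Subgroup G) ((T : Subgroup G) ⊓ N) ≤
          imageAlong ι (preimageAlong ι N ⊔ centralizerIn S (preimageAlong ι N)) := by
        apply sup_le
        · intro w hw
          obtain ⟨y, rfl⟩ := hT₀surj w hw
          exact apply_mem_imageAlong ι (hT₀S y.2) (Subgroup.mem_sup_left y.2)
        · rintro w ⟨hwT, hwC⟩
          obtain ⟨s, rfl⟩ := hTι w hwT
          exact apply_mem_imageAlong ι s.2 (Subgroup.mem_sup_right ⟨s.2, hcent2 s hwC⟩)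
      intro w hw
      obtain ⟨s, hs, rfl⟩ := hle hw
      rw [SetLike.mem_coe, Subgroup.mem_subgroupOf] at hs
      exact ⟨⟨s, hs⟩, rfl⟩
    have hhDconj : ∀ d : (preimageAlong ι N ⊔ centralizerIn S (preimageAlong ι N) : Subgroup Ω),
        ∃ z : (preimageAlong ι N ⊔ centralizerIn S (preimageAlong ι N) : Subgroup Ω),
          ι ⟨z, hDS z.2⟩ = h * ι ⟨d, hDS d.2⟩ * h⁻¹ :=
      fun d => hD2 _ ((Subgroup.mem_normalizer_iff.mp hhD _).mp (hD1 d))
    obtain ⟨β, hβ, Hβ⟩ := exists_aut_of_conj hι hDS h hhDconj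
    refine ⟨β, hβ, ?_, ?_⟩
    · intro x
      have e1 := Hβ (Subgroup.inclusion le_sup_left x)
      have e2 : ι ⟨(β (Subgroup.inclusion le_sup_left x) :
          (preimageAlong ι N ⊔ centralizerIn S (preimageAlong ι N) : Subgroup Ω)), hDS (β _).2⟩ =
          ι ⟨(α x : preimageAlong ι N), hT₀S (α x).2⟩ := by
        rw [e1, Hg' x]
        exact hval _ (hT₀mem x)
      exact congrArg (fun z : S => (z : Ω)) (hinj e2)
    · intro c hc
      have e1 := Hβ c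
      have hβcS : ((β c : (preimageAlong ι N ⊔ centralizerIn S (preimageAlong ι N) : Subgroup Ω)) : Ω) ∈ S :=
        hDS (β c).2
      have hιβc : ι ⟨(β c : (preimageAlong ι N ⊔ centralizerIn S (preimageAlong ι N) : Subgroup Ω)), hβcS⟩ ∈
          Subgroup.centralizer ((((T : Subgroup G) ⊓ N : Subgroup G)) : Set G) := by
        rw [e1]
        exact conj_mem_centralizer_of_mem_normalizer hhnorm (hcent1 c hc)
      constructor
      · apply hT₀of _ (Subgroup.mul_mem _ (Subgroup.inv_mem _ hc.1) hβcS)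
        have e2 : (⟨(c : Ω)⁻¹ * ((β c : (preimageAlong ι N ⊔ centralizerIn S (preimageAlong ι N) : Subgroup Ω)) : Ω),
            Subgroup.mul_mem _ (Subgroup.inv_mem _ hc.1) hβcS⟩ : S) = ⟨c, hc.1⟩⁻¹ * ⟨_, hβcS⟩ := rfl
        rw [e2, map_mul, map_inv, e1]
        have e3 : (ι ⟨c, hc.1⟩)⁻¹ * (h * ι ⟨c, hDS c.2⟩ * h⁻¹) =
            ((ι ⟨c, hc.1⟩)⁻¹ * h * (ι ⟨c, hc.1⟩)⁻¹⁻¹) * h⁻¹ := by group
        rw [e3]
        exact Subgroup.mul_mem _ (hNn.conj_mem _ hhN _) (Subgroup.inv_mem _ hhN)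
      · exact Subgroup.mul_mem _ (Subgroup.inv_mem _ hc.2) (hcent2 ⟨_, hβcS⟩ hιβc)

end Cfsg.Agent.Lib.Helper9
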