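import Mathlib
import Cfsg.Prelude
import Cfsg.Agent.Lib.Helper9.KL1
import Cfsg.Agent.Lib.Helper9.Realize3

set_option autoImplicit false

/-!
# Kessar–Linckelmann cascade (part 2): images of normal subgroups in realizing groups
-/

namespace Cfsg.Agent.H9KL

open Cfsg Cfsg.FusionSystem Cfsg.Agent.Lib.Helper9

variable {Ω : Type*} [Group Ω] {S : Subgroup Ω}

/-- If `ι(V)` is normal in the realizing group and `Q ≤ V` is invariant under `Aut_N(V)`, then `ι(Q)` is normal. -/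
theorem image_normal_of_aut_invariant [Finite S] {G : Type*} [Group G] (N : FusionSystem S) (ι : S →* G)
    (hι : N.IsRealizedBy ι) {V Q : Subgroup Ω} (hVS : V ≤ S) (hQV : Q ≤ V)
    (hVn : ((V.subgroupOf S).map ι).Normal)
    (hinv : ∀ α ∈ N.autGroup V, ∀ x : V, (x : Ω) ∈ Q → ((α x : V) : Ω) ∈ Q) :
    ((Q.subgroupOf S).map ι).Normal := by
  constructor
  rintro _ ⟨s, hs, rfl⟩ g
  have hsQ : (s : Ω) ∈ Q := hs
  have hex : ∀ y : V, ∃ z : V, ι ⟨z, hVS z.2⟩ = g * ι ⟨y, hVS y.2⟩ * g⁻¹ := by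
    intro y
    have h1 : ι ⟨y, hVS y.2⟩ ∈ (V.subgroupOf S).map ι := ⟨⟨y, hVS y.2⟩, y.2, rfl⟩
    obtain ⟨z, hz, hzy⟩ := hVn.conj_mem _ h1 g
    have hzV : (z : Ω) ∈ V := hz
    exact ⟨⟨z, hzV⟩, hzy⟩
  obtain ⟨α, hα, Hα⟩ := exists_aut_of_conj hι hVS g hex
  have h2 := Hα ⟨s, hQV hsQ⟩
  have h3 := hinv α hα ⟨s, hQV hsQ⟩ hsQ
  have h4 : (⟨((⟨s, hQV hsQ⟩ : V) : Ω), hVS (hQV hsQ)⟩ : S) = s := rfl
  rw [h4] at h2
  rw [← h2]
  exact ⟨⟨_, hVS (α ⟨s, hQV hsQ⟩).2⟩, h3, rfl⟩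

theorem core_le' (N : FusionSystem S) : N.core ≤ S := by
  apply sSup_le
  intro Q hQ
  exact hQ.1

/-- An automorphism in the system of a subgroup containing a normal subgroup preserves the normal subgroup. -/
theorem aut_preserves_of_isNormal (N : FusionSystem S) {V W : Subgroup Ω} (hV : N.IsNormal V) (hVW : V ≤ W)
    (hWS : W ≤ S) (α : MulAut W) (hα : α ∈ N.autGroup W) (x : W) (hx : (x : Ω) ∈ V) :
    ((α x : W) : Ω) ∈ V := by
  rw [mem_autGroup_iff N hWS] at hα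
  obtain ⟨ψ, hψ, hψφ, hψV⟩ := hV.2 _ _ hα
  have h1 := hψφ x
  have h2 : ψ (Subgroup.inclusion le_sup_left x) ∈ (V.subgroupOf (W ⊔ V)).map ψ :=
    ⟨_, hx, rfl⟩
  rw [hψV, h1] at h2
  exact h2

/-- In a model, the image of a subgroup normal in the system is a normal subgroup. -/
theorem model_image_normal [Finite S] {G : Type*} [Group G] (p : ℕ) [Fact p.Prime] (N : FusionSystem S)
    (ι : S →* G) (hG : N.IsModel p G ι) {V : Subgroup Ω} (hV : N.IsNormal V) :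
    ((V.subgroupOf S).map ι).Normal := by
  obtain ⟨hfin, hι, ⟨T, hT⟩, hcent⟩ := hG
  haveI := hfin
  obtain ⟨hn, -⟩ := Cfsg.Agent.H9MU.core_image_facts p N ι hι T hT hcent
  have hVc : V ≤ N.core := le_sSup hV
  exact image_normal_of_aut_invariant N ι hι (core_le' N) hVc hn
    (fun α hα x hx => aut_preserves_of_isNormal N hV hVc (core_le' N) α hα x hx)

end Cfsg.Agent.H9KL
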