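import Mathlib
import Cfsg.Prelude.Def_FusionSystem
import Cfsg.Agent.Lib.Lead.Model.Iface
import Cfsg.Agent.Lib.Helper9.FusionBasic

set_option autoImplicit false

/-!
# Translation between a fusion system over `S ≤ Ω` and the abstract model interface (part 1)

Admissible maps `H0 F A` for `A : Subgroup S`, and their closure properties.
-/

namespace Cfsg.Agent.H9MT

open Cfsg Cfsg.FusionSystem Cfsg.Agent.Lib.Helper9

universe u
variable {Ω : Type u} [Group Ω] {S : Subgroup Ω}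

theorem mem_up (A : Subgroup S) (a : A) : ((a : S) : Ω) ∈ A.map S.subtype := ⟨a.1, a.2, rfl⟩

theorem up_le (A : Subgroup S) : A.map S.subtype ≤ S := by
  rintro _ ⟨a, _, rfl⟩; exact a.2

theorem mem_of_mem_up (A : Subgroup S) {x : Ω} (hx : x ∈ A.map S.subtype) :
    ∃ hS : x ∈ S, (⟨x, hS⟩ : S) ∈ A := by
  obtain ⟨a, ha, rfl⟩ := hx; exact ⟨a.2, ha⟩

theorem up_mono {A B : Subgroup S} (h : B ≤ A) : B.map S.subtype ≤ A.map S.subtype :=
  Subgroup.map_mono h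

theorem up_subgroupOf {P : Subgroup Ω} (hP : P ≤ S) : (P.subgroupOf S).map S.subtype = P := by
  rw [Subgroup.subgroupOf_map_subtype]; exact inf_eq_left.mpr hP

theorem hom_congr (F : FusionSystem S) {P P' : Subgroup Ω} (h : P = P') {φ : P →* Ω} {φ' : P' →* Ω}
    (hφ : φ ∈ F.Hom P) (heq : ∀ (x : Ω) (hx : x ∈ P) (hx' : x ∈ P'), φ' ⟨x, hx'⟩ = φ ⟨x, hx⟩) :
    φ' ∈ F.Hom P' := by
  subst h
  have : φ' = φ := by ext ⟨x, hx⟩; exact heq x hx hx
  rw [this]; exact hφ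

/-- The admissible maps: those which, read in `Ω`, are maps of the system. -/
def H0 (F : FusionSystem S) (A : Subgroup S) : Set (A →* S) :=
  {ψ | ∃ φ ∈ F.Hom (A.map S.subtype), ∀ a : A, φ ⟨a, mem_up A a⟩ = ((ψ a : S) : Ω)}

theorem H0_conj (F : FusionSystem S) (A : Subgroup S) (s : S) :
    (MulAut.conj s).toMonoidHom.comp A.subtype ∈ H0 F A := by
  refine ⟨conjHom (A.map S.subtype) s, F.conj_mem (up_le A) s.2, fun a => ?_⟩
  simp [conjHom]

theorem H0_restrict (F : FusionSystem S) {A B : Subgroup S} (h : B ≤ A) (ψ : A →* S) (hψ : ψ ∈ H0 F A) :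
    ψ.comp (Subgroup.inclusion h) ∈ H0 F B := by
  obtain ⟨φ, hφ, hφψ⟩ := hψ
  refine ⟨_, fs_restrict_mem F hφ (up_mono h), fun b => ?_⟩
  exact hφψ ⟨b.1, h b.2⟩

theorem H0_comp (F : FusionSystem S) {A B : Subgroup S} (ψ : A →* S) (χ : B →* S) (hψ : ψ ∈ H0 F A)
    (hχ : χ ∈ H0 F B) (h : ∀ a : A, ψ a ∈ B) : χ.comp (ψ.codRestrict B h) ∈ H0 F A := by
  obtain ⟨φ, hφ, hφψ⟩ := hψ
  obtain ⟨φ', hφ', hφχ⟩ := hχ
  have hval : ∀ x : A.map S.subtype, φ x ∈ B.map S.subtype := by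
    rintro ⟨x, hx⟩
    obtain ⟨hxS, hxA⟩ := mem_of_mem_up A hx
    have := hφψ ⟨⟨x, hxS⟩, hxA⟩
    rw [show (⟨x, hx⟩ : A.map S.subtype) = ⟨((⟨⟨x, hxS⟩, hxA⟩ : A) : S), mem_up A _⟩ from rfl, this]
    exact mem_up B ⟨_, h _⟩
  refine ⟨_, F.comp_mem hφ hφ' hval, fun a => ?_⟩
  have h1 := hφχ ⟨ψ a, h a⟩
  simp only [MonoidHom.coe_comp, Function.comp_apply]
  refine Eq.trans ?_ h1
  congr 1
  apply Subtype.ext
  exact hφψ a

end Cfsg.Agent.H9MT
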