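import Mathlib
import Cfsg.Prelude
import Cfsg.Agent.Lib.Helper9.KL2
import Cfsg.Agent.Lib.Helper9.ModelTr1
import Cfsg.Agent.Lib.Helper9.FusionBasic

set_option autoImplicit false

/-!
# Kessar–Linckelmann cascade (part 3): transporting maps of the system along a map of the system
-/

namespace Cfsg.Agent.H9KL

open Cfsg Cfsg.FusionSystem Cfsg.Agent.Lib.Helper9

variable {Ω : Type*} [Group Ω] {S : Subgroup Ω}

/-- Transport: `φ` is a map of the system iff `ψ φ ψ⁻¹` is. -/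
theorem transport_mem (F : FusionSystem S) {A : Subgroup Ω} {ψ : A →* Ω} (hψ : ψ ∈ F.Hom A)
    {P : Subgroup Ω} (hPA : P ≤ A) (φ : P →* Ω) (hφA : ∀ x, φ x ∈ A)
    (P' : Subgroup Ω) (hP' : P' = (P.subgroupOf A).map ψ) (φ' : P' →* Ω)
    (hφ' : ∀ (x : P) (h : ψ ⟨x, hPA x.2⟩ ∈ P'), φ' ⟨ψ ⟨x, hPA x.2⟩, h⟩ = ψ ⟨φ x, hφA x⟩) :
    φ ∈ F.Hom P ↔ φ' ∈ F.Hom P' := by
  subst hP'
  have hψinj : Function.Injective ψ := F.injective_of_mem hψ
  have hmemP' : ∀ x : P, ψ ⟨x, hPA x.2⟩ ∈ (P.subgroupOf A).map ψ := fun x => ⟨⟨x, hPA x.2⟩, x.2, rfl⟩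
  have hψP : ψ.comp (Subgroup.inclusion hPA) ∈ F.Hom P := fs_restrict_mem F hψ hPA
  obtain ⟨ψinv, hψinv, Hinv⟩ := F.inv_mem hψ
  constructor
  · intro hφ
    -- φ' = ψ ∘ φ ∘ ψ⁻¹
    have hP'r : (P.subgroupOf A).map ψ ≤ ψ.range := by
      rintro _ ⟨a, -, rfl⟩
      exact ⟨a, rfl⟩
    have h1 : ψinv.comp (Subgroup.inclusion hP'r) ∈ F.Hom ((P.subgroupOf A).map ψ) :=
      fs_restrict_mem F hψinv hP'r
    have hval1 : ∀ y : ((P.subgroupOf A).map ψ : Subgroup Ω),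
        (ψinv.comp (Subgroup.inclusion hP'r)) y ∈ P := by
      rintro ⟨_, a, ha, rfl⟩
      have : (ψinv.comp (Subgroup.inclusion hP'r)) ⟨ψ a, ⟨a, ha, rfl⟩⟩ = (a : Ω) := Hinv a
      rw [this]
      exact ha
    have h2 := F.comp_mem h1 hφ hval1
    have hval2 : ∀ y : ((P.subgroupOf A).map ψ : Subgroup Ω),
        (φ.comp ((ψinv.comp (Subgroup.inclusion hP'r)).codRestrict P hval1)) y ∈ A := fun y => hφA _
    have h3 := F.comp_mem h2 hψ hval2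
    have : φ' = ψ.comp ((φ.comp ((ψinv.comp (Subgroup.inclusion hP'r)).codRestrict P hval1)).codRestrict A hval2) := by
      ext ⟨_, a, ha, rfl⟩
      have haP : (a : Ω) ∈ P := ha
      have e1 : φ' ⟨ψ a, ⟨a, ha, rfl⟩⟩ = ψ ⟨φ ⟨a, haP⟩, hφA _⟩ := hφ' ⟨a, haP⟩ ⟨a, ha, rfl⟩
      refine e1.trans ?_
      show ψ ⟨φ ⟨a, haP⟩, _⟩ = ψ ⟨φ ⟨ψinv ⟨ψ a, _⟩, _⟩, _⟩
      congr 2
      congr 1
      apply Subtype.ext
      exact (Hinv a).symm
    rw [this]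
    exact h3
  · intro hφ'mem
    have hval1 : ∀ x : P, (ψ.comp (Subgroup.inclusion hPA)) x ∈ (P.subgroupOf A).map ψ := fun x => hmemP' x
    have h2 := F.comp_mem hψP hφ'mem hval1
    have hval2 : ∀ x : P, (φ'.comp ((ψ.comp (Subgroup.inclusion hPA)).codRestrict _ hval1)) x ∈ ψ.range := by
      intro x
      have e1 := hφ' x (hmemP' x)
      show φ' ⟨ψ ⟨x, hPA x.2⟩, _⟩ ∈ ψ.range
      rw [e1]
      exact ⟨_, rfl⟩
    have h3 := F.comp_mem h2 hψinv hval2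
    have : φ = ψinv.comp ((φ'.comp ((ψ.comp (Subgroup.inclusion hPA)).codRestrict _ hval1)).codRestrict ψ.range hval2) := by
      ext x
      have e1 := hφ' x (hmemP' x)
      have e2 : ψinv ⟨ψ ⟨φ x, hφA x⟩, ⟨_, rfl⟩⟩ = φ x := Hinv ⟨φ x, hφA x⟩
      show φ x = ψinv ⟨φ' ⟨ψ ⟨x, hPA x.2⟩, _⟩, _⟩
      refine e2.symm.trans ?_
      congr 1
      apply Subtype.ext
      exact e1.symm
    rw [this]
    exact h3

end Cfsg.Agent.H9KL
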