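import Mathlib
import Cfsg.Prelude
import Cfsg.Agent.Lib.Helper9.KL3
import Cfsg.Agent.Lib.Helper9.Realize1

set_option autoImplicit false

/-!
# Kessar–Linckelmann cascade (part 4): local realization through a fully normalized conjugate
-/

namespace Cfsg.Agent.H9KL

open Cfsg Cfsg.FusionSystem Cfsg.Agent.Lib.Helper9

variable {Ω : Type*} [Group Ω] {S : Subgroup Ω}

/-- The composite `ι ∘ ψ`. -/
def kap {A B : Subgroup Ω} {G : Type*} [Group G] (ψ : A →* Ω) (hψN : ∀ x, ψ x ∈ B) (ι : B →* G) : A →* G :=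
  ι.comp (ψ.codRestrict B hψN)

theorem kap_apply {A B : Subgroup Ω} {G : Type*} [Group G] (ψ : A →* Ω) (hψN : ∀ x, ψ x ∈ B) (ι : B →* G)
    (a : A) : kap ψ hψN ι a = ι ⟨ψ a, hψN a⟩ := rfl

theorem kap_injective (F : FusionSystem S) {A B : Subgroup Ω} {G : Type*} [Group G] {ψ : A →* Ω}
    (hψ : ψ ∈ F.Hom A) (hψN : ∀ x, ψ x ∈ B) (ι : B →* G) (hinj : Function.Injective ι) :
    Function.Injective (kap ψ hψN ι) := by
  intro a b hab
  have h1 : (⟨ψ a, hψN a⟩ : B) = ⟨ψ b, hψN b⟩ := hinj hab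
  exact F.injective_of_mem hψ (congrArg Subtype.val h1)

/-- **Local realization.** Let `ψ : N_S(T) → N_S(U)` be a map of the system carrying `T` onto `U`, and let `ι` realize
the normalizer system of `U`. For `T ≤ P ≤ N_S(T)` and `φ : P → N_S(T)` with `φ(T) = T`, the map `φ` belongs to the
system iff, read through `κ = ι ∘ ψ`, it is a conjugation of the realizing group. -/
theorem local_real (F : FusionSystem S) {T U : Subgroup Ω}
    {ψ : normalizerIn S T →* Ω} (hψ : ψ ∈ F.Hom (normalizerIn S T)) (hψN : ∀ x, ψ x ∈ normalizerIn S U)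
    (hψT : (T.subgroupOf (normalizerIn S T)).map ψ = U)
    (NU : FusionSystem (normalizerIn S U)) (hNU : F.IsNormalizerSystem U NU)
    {G : Type*} [Group G] (ι : normalizerIn S U →* G) (hι : NU.IsRealizedBy ι)
    {P : Subgroup Ω} (hTP : T ≤ P) (hPA : P ≤ normalizerIn S T) (φ : P →* Ω)
    (hφA : ∀ x, φ x ∈ normalizerIn S T) (hφT : (T.subgroupOf P).map φ = T) :
    φ ∈ F.Hom P ↔ ∃ g : G, ∀ x : P, kap ψ hψN ι ⟨φ x, hφA x⟩ = g * kap ψ hψN ι ⟨x, hPA x.2⟩ * g⁻¹ := by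
  have hψinj : Function.Injective ψ := F.injective_of_mem hψ
  obtain ⟨P', hP'⟩ : ∃ P' : Subgroup Ω, P' = (P.subgroupOf (normalizerIn S T)).map ψ := ⟨_, rfl⟩
  have hmemP' : ∀ x : P, ψ ⟨x, hPA x.2⟩ ∈ P' := fun x => by
    rw [hP']; exact ⟨⟨x, hPA x.2⟩, x.2, rfl⟩
  have hP'B : P' ≤ normalizerIn S U := by
    rw [hP']
    rintro _ ⟨a, -, rfl⟩
    exact hψN a
  have hUP' : U ≤ P' := by
    intro y hy
    obtain ⟨a, ha, rfl⟩ := hψT.ge hy
    have haT : (a : Ω) ∈ T := ha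
    rw [hP']
    exact ⟨a, hTP haT, rfl⟩
  have hP'ex : ∀ y : P', ∃ x : P, ψ ⟨x, hPA x.2⟩ = (y : Ω) := by
    rintro ⟨y, hy⟩
    rw [hP'] at hy
    obtain ⟨a, ha, rfl⟩ := hy
    exact ⟨⟨a, ha⟩, rfl⟩
  -- a map `φ'` on `P'` with `φ' ∘ ψ = ψ ∘ φ`, in the system, maps `U` onto `U`
  have hUU : ∀ (φ' : P' →* Ω), (∀ (x : P) (h : ψ ⟨x, hPA x.2⟩ ∈ P'), φ' ⟨ψ ⟨x, hPA x.2⟩, h⟩ = ψ ⟨φ x, hφA x⟩) →
      (U.subgroupOf P').map φ' = U := by
    intro φ' hφ'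
    ext y
    constructor
    · rintro ⟨z, hz, rfl⟩
      have hzU : (z : Ω) ∈ U := hz
      obtain ⟨a, ha, haz⟩ := hψT.ge hzU
      have haT : (a : Ω) ∈ T := ha
      have e1 := hφ' ⟨a, hTP haT⟩ (hmemP' _)
      have e2 : z = ⟨ψ ⟨((⟨a, hTP haT⟩ : P) : Ω), hPA (hTP haT)⟩, hmemP' _⟩ := Subtype.ext haz.symm
      rw [e2, e1]
      apply hψT.le
      refine ⟨⟨φ ⟨a, hTP haT⟩, hφA _⟩, ?_, rfl⟩
      show φ ⟨a, hTP haT⟩ ∈ T
      apply hφT.le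
      exact ⟨⟨a, hTP haT⟩, haT, rfl⟩
    · intro hy
      obtain ⟨a, ha, rfl⟩ := hψT.ge hy
      have haT : (a : Ω) ∈ T := ha
      obtain ⟨x, hx, hxa⟩ := hφT.ge haT
      have hxT : (x : Ω) ∈ T := hx
      have e1 := hφ' x (hmemP' x)
      refine ⟨⟨ψ ⟨x, hPA x.2⟩, hmemP' x⟩, ?_, ?_⟩
      · show ψ ⟨x, hPA x.2⟩ ∈ U
        apply hψT.le
        exact ⟨⟨x, hPA x.2⟩, hxT, rfl⟩
      · rw [e1]
        congr 1
        exact Subtype.ext hxa
  constructor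
  · intro hφ
    -- build φ' by transport
    have hφinj : Function.Injective φ := F.injective_of_mem hφ
    obtain ⟨φ', hφ'⟩ : ∃ φ' : P' →* Ω, ∀ (x : P) (h : ψ ⟨x, hPA x.2⟩ ∈ P'),
        φ' ⟨ψ ⟨x, hPA x.2⟩, h⟩ = ψ ⟨φ x, hφA x⟩ := by
      obtain ⟨ψinv, hψinv, Hinv⟩ := F.inv_mem hψ
      have hP'r : P' ≤ ψ.range := by
        rw [hP']
        rintro _ ⟨a, -, rfl⟩
        exact ⟨a, rfl⟩
      have hval1 : ∀ y : P', (ψinv.comp (Subgroup.inclusion hP'r)) y ∈ P := by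
        intro y
        obtain ⟨x, hx⟩ := hP'ex y
        have e1 : (ψinv.comp (Subgroup.inclusion hP'r)) y = ψinv ⟨ψ ⟨x, hPA x.2⟩, ⟨_, rfl⟩⟩ := by
          show ψinv ⟨(y : Ω), _⟩ = _
          congr 1
          exact Subtype.ext hx.symm
        rw [e1, Hinv]
        exact x.2
      have hval2 : ∀ y : P', (φ.comp ((ψinv.comp (Subgroup.inclusion hP'r)).codRestrict P hval1)) y ∈
          normalizerIn S T := fun y => hφA _
      refine ⟨ψ.comp ((φ.comp ((ψinv.comp (Subgroup.inclusion hP'r)).codRestrict P hval1)).codRestrict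
        (normalizerIn S T) hval2), ?_⟩
      intro x h
      show ψ ⟨φ ⟨ψinv ⟨ψ ⟨x, hPA x.2⟩, _⟩, _⟩, _⟩ = ψ ⟨φ x, hφA x⟩
      congr 2
      congr 1
      apply Subtype.ext
      exact Hinv ⟨x, hPA x.2⟩
    have hφ'mem : φ' ∈ F.Hom P' := (transport_mem F hψ hPA φ hφA P' hP' φ' hφ').mp hφ
    have hφ'B : ∀ y : P', φ' y ∈ normalizerIn S U := by
      intro y
      obtain ⟨x, hx⟩ := hP'ex y
      have e1 : y = ⟨ψ ⟨x, hPA x.2⟩, hmemP' x⟩ := Subtype.ext hx.symm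
      rw [e1, hφ' x (hmemP' x)]
      exact hψN _
    have hφ'NU : φ' ∈ NU.Hom P' := by
      rw [hNU P']
      refine ⟨hφ'mem, hP'B, hφ'B, φ'.comp (Subgroup.inclusion (sup_le le_rfl hUP')), ?_, ?_, ?_⟩
      · exact fs_restrict_mem F hφ'mem _
      · intro x
        rfl
      · have h1 := hUU φ' hφ'
        ext y
        constructor
        · rintro ⟨z, hz, rfl⟩
          have hzU : (z : Ω) ∈ U := hz
          apply h1.le
          exact ⟨⟨z, hUP' hzU⟩, hzU, rfl⟩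
        · intro hy
          obtain ⟨z, hz, rfl⟩ := h1.ge hy
          have hzU : (z : Ω) ∈ U := hz
          exact ⟨⟨z, Subgroup.mem_sup_right hzU⟩, hzU, rfl⟩
    obtain ⟨g, Hg⟩ := (hι.2 P' hP'B φ' hφ'B).mp hφ'NU
    refine ⟨g, fun x => ?_⟩
    rw [kap_apply, kap_apply]
    have e1 := Hg ⟨ψ ⟨x, hPA x.2⟩, hmemP' x⟩
    rw [← e1]
    congr 1
    apply Subtype.ext
    exact (hφ' x (hmemP' x)).symm
  · rintro ⟨g, Hg⟩
    have hval : ∀ y : P', g * ι ⟨y, hP'B y.2⟩ * g⁻¹ ∈ ι.range := by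
      intro y
      obtain ⟨x, hx⟩ := hP'ex y
      have e1 := Hg x
      rw [kap_apply, kap_apply] at e1
      have e2 : (⟨(y : Ω), hP'B y.2⟩ : normalizerIn S U) = ⟨ψ ⟨x, hPA x.2⟩, hψN _⟩ := Subtype.ext hx.symm
      rw [e2, ← e1]
      exact ⟨_, rfl⟩
    have hφ'NU : liftConj ι hι.1 hP'B g hval ∈ NU.Hom P' := liftConj_mem_hom hι hP'B g hval
    rw [hNU P'] at hφ'NU
    have hφ'mem := hφ'NU.1
    have hφ' : ∀ (x : P) (h : ψ ⟨x, hPA x.2⟩ ∈ P'),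
        liftConj ι hι.1 hP'B g hval ⟨ψ ⟨x, hPA x.2⟩, h⟩ = ψ ⟨φ x, hφA x⟩ := by
      intro x h
      have e1 := ι_liftConj ι hι.1 hP'B g hval ⟨ψ ⟨x, hPA x.2⟩, h⟩ (liftConj_mem ι hι.1 hP'B g hval _)
      have e2 := Hg x
      rw [kap_apply, kap_apply] at e2
      have e3 : ι ⟨liftConj ι hι.1 hP'B g hval ⟨ψ ⟨x, hPA x.2⟩, h⟩, liftConj_mem ι hι.1 hP'B g hval _⟩ =
          ι ⟨ψ ⟨φ x, hφA x⟩, hψN _⟩ := by
        rw [e1, e2]
      exact congrArg Subtype.val (hι.1 e3)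
    exact (transport_mem F hψ hPA φ hφA P' hP' _ hφ').mpr hφ'mem

end Cfsg.Agent.H9KL
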