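import Mathlib
import Cfsg.Prelude
import Cfsg.Agent.Lib.Helper9.KL4
import Cfsg.Agent.Lib.Helper9.FusionSup

set_option autoImplicit false

/-!
# Kessar–Linckelmann cascade (part 5): conjugation maps and normalizers, abstractly
-/

namespace Cfsg.Agent.H9KL

open Cfsg Cfsg.FusionSystem Cfsg.Agent.Lib.Helper9

variable {Ω : Type*} [Group Ω] {G : Type*} [Group G]

/-- If `ψ₁` is, read through the injective `κ`, conjugation by `g`, and `g` normalizes `κ(V)`, then `ψ₁(V) = V`. -/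
theorem map_eq_of_mem_normalizer {A : Subgroup Ω} (κ : A →* G) (hκ : Function.Injective κ) {P₁ V : Subgroup Ω}
    (hP₁A : P₁ ≤ A) (hVP : V ≤ P₁) (ψ₁ : P₁ →* Ω) (hψ₁A : ∀ y, ψ₁ y ∈ A) (g : G)
    (Hg : ∀ y : P₁, κ ⟨ψ₁ y, hψ₁A y⟩ = g * κ ⟨y, hP₁A y.2⟩ * g⁻¹)
    (hg : g ∈ Subgroup.normalizer (((V.subgroupOf A).map κ : Subgroup G) : Set G)) :
    (V.subgroupOf P₁).map ψ₁ = V := by
  rw [Subgroup.mem_normalizer_iff] at hg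
  ext y
  constructor
  · rintro ⟨x, hx, rfl⟩
    have hxV : (x : Ω) ∈ V := hx
    have h1 : κ ⟨x, hP₁A x.2⟩ ∈ (V.subgroupOf A).map κ := ⟨⟨x, hP₁A x.2⟩, hxV, rfl⟩
    have h2 := (hg _).mp h1
    rw [← Hg x] at h2
    obtain ⟨a, ha, hax⟩ := h2
    have haV : (a : Ω) ∈ V := ha
    have h3 := hκ hax
    rw [h3] at haV
    exact haV
  · intro hy
    have h1 : κ ⟨y, hP₁A (hVP hy)⟩ ∈ (V.subgroupOf A).map κ := ⟨⟨y, hP₁A (hVP hy)⟩, hy, rfl⟩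
    have h2 : g * (g⁻¹ * κ ⟨y, hP₁A (hVP hy)⟩ * g) * g⁻¹ ∈ (V.subgroupOf A).map κ := by
      have : g * (g⁻¹ * κ ⟨y, hP₁A (hVP hy)⟩ * g) * g⁻¹ = κ ⟨y, hP₁A (hVP hy)⟩ := by group
      rw [this]; exact h1
    obtain ⟨a, ha, hax⟩ := (hg _).mpr h2
    have haV : (a : Ω) ∈ V := ha
    refine ⟨⟨a, hVP haV⟩, haV, ?_⟩
    have h3 := Hg ⟨a, hVP haV⟩
    have h4 : (⟨((⟨a, hVP haV⟩ : P₁) : Ω), hP₁A (hVP haV)⟩ : A) = a := rfl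
    rw [h4, hax] at h3
    have h5 : g * (g⁻¹ * κ ⟨y, hP₁A (hVP hy)⟩ * g) * g⁻¹ = κ ⟨y, hP₁A (hVP hy)⟩ := by group
    rw [h5] at h3
    exact congrArg Subtype.val (hκ h3)

/-- Conversely, if `ψ₁(V) = V` then `g` normalizes `κ(V)`. -/
theorem mem_normalizer_of_map_eq {A : Subgroup Ω} (κ : A →* G) {P₁ V : Subgroup Ω}
    (hP₁A : P₁ ≤ A) (hVP : V ≤ P₁) (ψ₁ : P₁ →* Ω) (hψ₁A : ∀ y, ψ₁ y ∈ A) (g : G)
    (Hg : ∀ y : P₁, κ ⟨ψ₁ y, hψ₁A y⟩ = g * κ ⟨y, hP₁A y.2⟩ * g⁻¹)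
    (hmap : (V.subgroupOf P₁).map ψ₁ = V) :
    g ∈ Subgroup.normalizer (((V.subgroupOf A).map κ : Subgroup G) : Set G) := by
  rw [Subgroup.mem_normalizer_iff]
  intro h
  constructor
  · rintro ⟨a, ha, rfl⟩
    have haV : (a : Ω) ∈ V := ha
    have h1 := Hg ⟨a, hVP haV⟩
    have h4 : (⟨((⟨a, hVP haV⟩ : P₁) : Ω), hP₁A (hVP haV)⟩ : A) = a := rfl
    rw [h4] at h1
    rw [← h1]
    refine ⟨⟨ψ₁ ⟨a, hVP haV⟩, hψ₁A _⟩, ?_, rfl⟩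
    show ψ₁ ⟨a, hVP haV⟩ ∈ V
    apply hmap.le
    exact ⟨⟨a, hVP haV⟩, haV, rfl⟩
  · rintro ⟨b, hb, hbh⟩
    have hbV : (b : Ω) ∈ V := hb
    obtain ⟨x, hx, hxb⟩ := hmap.ge hbV
    have hxV : (x : Ω) ∈ V := hx
    have h1 := Hg x
    have h2 : (⟨ψ₁ x, hψ₁A x⟩ : A) = b := Subtype.ext hxb
    rw [h2, hbh] at h1
    have h3 : h = κ ⟨x, hP₁A x.2⟩ := by
      have : g⁻¹ * (g * h * g⁻¹) * g = g⁻¹ * (g * κ ⟨x, hP₁A x.2⟩ * g⁻¹) * g := by rw [h1]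
      have e1 : g⁻¹ * (g * h * g⁻¹) * g = h := by group
      have e2 : g⁻¹ * (g * κ ⟨x, hP₁A x.2⟩ * g⁻¹) * g = κ ⟨x, hP₁A x.2⟩ := by group
      rw [e1, e2] at this
      exact this
    rw [h3]
    exact ⟨⟨x, hP₁A x.2⟩, hxV, rfl⟩

/-- `κ(T) = ι(U)` when `ψ(T) = U`. -/
theorem kap_map_eq {A B T U : Subgroup Ω} (ψ : A →* Ω) (hψN : ∀ x, ψ x ∈ B) (ι : B →* G)
    (hψT : (T.subgroupOf A).map ψ = U) :
    (T.subgroupOf A).map (kap ψ hψN ι) = (U.subgroupOf B).map ι := by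
  ext y
  constructor
  · rintro ⟨a, ha, rfl⟩
    refine ⟨⟨ψ a, hψN a⟩, ?_, rfl⟩
    show ψ a ∈ U
    apply hψT.le
    exact ⟨a, ha, rfl⟩
  · rintro ⟨b, hb, rfl⟩
    have hbU : (b : Ω) ∈ U := hb
    obtain ⟨a, ha, hab⟩ := hψT.ge hbU
    refine ⟨a, ha, ?_⟩
    rw [kap_apply]
    congr 1
    exact Subtype.ext hab

end Cfsg.Agent.H9KL
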