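import Mathlib
import Cfsg.Prelude
import Cfsg.Agent.Lib.Helper9.KL5

set_option autoImplicit false

/-!
# Kessar–Linckelmann cascade (part 6): the pair normalizer system is realized inside the model at `U`
-/

namespace Cfsg.Agent.H9KL

open Cfsg Cfsg.FusionSystem Cfsg.Agent.Lib.Helper9

variable {Ω : Type*} [Group Ω] {S : Subgroup Ω}

/-- `D` is the system over `A₀` of the maps of `F` extending to `P T` and preserving both `T` and `Q`. -/
def IsPairSystem (F : FusionSystem S) (Q T A₀ : Subgroup Ω) (D : FusionSystem A₀) : Prop :=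
  ∀ (P : Subgroup Ω) (φ : P →* Ω), φ ∈ D.Hom P ↔ P ≤ A₀ ∧ (∀ x, φ x ∈ A₀) ∧
    ∃ ψ₁ ∈ F.Hom (P ⊔ T), (∀ x : P, ψ₁ (Subgroup.inclusion le_sup_left x) = φ x) ∧
      (T.subgroupOf (P ⊔ T)).map ψ₁ = T ∧ (Q.subgroupOf (P ⊔ T)).map ψ₁ = Q

theorem pair_realized (F : FusionSystem S) {Q T U A₀ : Subgroup Ω}
    {ψ : normalizerIn S T →* Ω} (hψ : ψ ∈ F.Hom (normalizerIn S T)) (hψN : ∀ x, ψ x ∈ normalizerIn S U)
    (hψT : (T.subgroupOf (normalizerIn S T)).map ψ = U)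
    (NU : FusionSystem (normalizerIn S U)) (hNU : F.IsNormalizerSystem U NU)
    {G : Type*} [Group G] (ι : normalizerIn S U →* G) (hι : NU.IsRealizedBy ι)
    (hUn : ((U.subgroupOf (normalizerIn S U)).map ι).Normal)
    (hQT : Q ≤ T) (hTS : T ≤ S) (hA₀A : A₀ ≤ normalizerIn S T)
    (D : FusionSystem A₀) (hD : IsPairSystem F Q T A₀ D)
    (j : A₀ →* ↥(Subgroup.normalizer
      (((Q.subgroupOf (normalizerIn S T)).map (kap ψ hψN ι) : Subgroup G) : Set G)))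
    (hj : ∀ x : A₀, ((j x : _) : G) = kap ψ hψN ι ⟨x, hA₀A x.2⟩) : D.IsRealizedBy j := by
  have hκinj : Function.Injective (kap ψ hψN ι) := kap_injective F hψ hψN ι hι.1
  have hTA : T ≤ normalizerIn S T := fun x hx => ⟨hTS hx, Subgroup.le_normalizer hx⟩
  have hTn : ((T.subgroupOf (normalizerIn S T)).map (kap ψ hψN ι)).Normal := by
    rw [kap_map_eq ψ hψN ι hψT]; exact hUn
  refine ⟨?_, ?_⟩
  · intro a b hab
    have h1 : kap ψ hψN ι ⟨a, hA₀A a.2⟩ = kap ψ hψN ι ⟨b, hA₀A b.2⟩ := by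
      rw [← hj a, ← hj b, hab]
    have h2 : ((a : A₀) : Ω) = b := congrArg (fun z : normalizerIn S T => (z : Ω)) (hκinj h1)
    exact Subtype.ext h2
  · intro P hP φ hφ
    have hP₁A : P ⊔ T ≤ normalizerIn S T := sup_le (hP.trans hA₀A) hTA
    rw [hD P φ]
    constructor
    · rintro ⟨-, -, ψ₁, hψ₁, hext, hψ₁T, hψ₁Q⟩
      have hψ₁A : ∀ y, ψ₁ y ∈ normalizerIn S T := by
        apply sup_forall_mem ψ₁ (normalizerIn S T)
        · intro x
          rw [hext x]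
          exact hA₀A (hφ x)
        · intro x
          apply hTA
          apply hψ₁T.le
          exact ⟨Subgroup.inclusion le_sup_right x, x.2, rfl⟩
      obtain ⟨g, Hg⟩ := (local_real F hψ hψN hψT NU hNU ι hι le_sup_right hP₁A ψ₁ hψ₁A hψ₁T).mp hψ₁
      have hgQ := mem_normalizer_of_map_eq (kap ψ hψN ι) hP₁A (hQT.trans le_sup_right) ψ₁ hψ₁A g Hg hψ₁Q
      refine ⟨⟨g, hgQ⟩, fun x => Subtype.ext ?_⟩
      rw [Subgroup.coe_mul, Subgroup.coe_mul, Subgroup.coe_inv, hj, hj]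
      have e1 := Hg (Subgroup.inclusion le_sup_left x)
      refine Eq.trans ?_ e1
      congr 1
      apply Subtype.ext
      exact (hext x).symm
    · rintro ⟨g, Hg⟩
      have Hg' : ∀ x : P, kap ψ hψN ι ⟨φ x, hA₀A (hφ x)⟩ =
          (g : G) * kap ψ hψN ι ⟨x, hA₀A (hP x.2)⟩ * (g : G)⁻¹ := by
        intro x
        have e1 := congrArg Subtype.val (Hg x)
        rw [Subgroup.coe_mul, Subgroup.coe_mul, Subgroup.coe_inv, hj, hj] at e1
        exact e1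
      have hval : ∀ y : ↥(P ⊔ T), (g : G) * kap ψ hψN ι ⟨y, hP₁A y.2⟩ * (g : G)⁻¹ ∈ (kap ψ hψN ι).range := by
        have := sup_forall_mem (P := P) (Q := T)
          ((MulAut.conj (g : G)).toMonoidHom.comp ((kap ψ hψN ι).comp (Subgroup.inclusion hP₁A)))
          (kap ψ hψN ι).range ?_ ?_
        · exact this
        · intro x
          show (g : G) * kap ψ hψN ι ⟨x, _⟩ * (g : G)⁻¹ ∈ _
          rw [← Hg' x]
          exact ⟨_, rfl⟩
        · intro x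
          show (g : G) * kap ψ hψN ι ⟨x, _⟩ * (g : G)⁻¹ ∈ _
          have h1 : kap ψ hψN ι ⟨x, hTA x.2⟩ ∈ (T.subgroupOf (normalizerIn S T)).map (kap ψ hψN ι) :=
            ⟨⟨x, hTA x.2⟩, x.2, rfl⟩
          obtain ⟨a, -, ha⟩ := hTn.conj_mem _ h1 (g : G)
          exact ⟨a, ha⟩
      obtain ⟨ψ₁, hψ₁def⟩ : ∃ ψ₁ : ↥(P ⊔ T) →* Ω, ψ₁ = liftConj (kap ψ hψN ι) hκinj hP₁A (g : G) hval :=
        ⟨_, rfl⟩
      have hψ₁A : ∀ y, ψ₁ y ∈ normalizerIn S T := by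
        intro y; rw [hψ₁def]; exact liftConj_mem _ hκinj hP₁A _ hval y
      have Hψ₁ : ∀ y : ↥(P ⊔ T), kap ψ hψN ι ⟨ψ₁ y, hψ₁A y⟩ =
          (g : G) * kap ψ hψN ι ⟨y, hP₁A y.2⟩ * (g : G)⁻¹ := by
        intro y
        subst hψ₁def
        exact ι_liftConj (kap ψ hψN ι) hκinj hP₁A (g : G) hval y (liftConj_mem _ hκinj hP₁A _ hval y)
      have hψ₁T : (T.subgroupOf (P ⊔ T)).map ψ₁ = T :=
        map_eq_of_mem_normalizer (kap ψ hψN ι) hκinj hP₁A le_sup_right ψ₁ hψ₁A (g : G) Hψ₁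
          (by rw [Subgroup.normalizer_eq_top]; exact Subgroup.mem_top _)
      have hψ₁Q : (Q.subgroupOf (P ⊔ T)).map ψ₁ = Q :=
        map_eq_of_mem_normalizer (kap ψ hψN ι) hκinj hP₁A (hQT.trans le_sup_right) ψ₁ hψ₁A (g : G) Hψ₁ g.2
      have hψ₁mem : ψ₁ ∈ F.Hom (P ⊔ T) :=
        (local_real F hψ hψN hψT NU hNU ι hι le_sup_right hP₁A ψ₁ hψ₁A hψ₁T).mpr ⟨(g : G), Hψ₁⟩
      refine ⟨hP, hφ, ψ₁, hψ₁mem, fun x => ?_, hψ₁T, hψ₁Q⟩
      have e1 := Hψ₁ (Subgroup.inclusion le_sup_left x)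
      have e2 := Hg' x
      have e3 : kap ψ hψN ι ⟨ψ₁ (Subgroup.inclusion le_sup_left x), hψ₁A _⟩ =
          kap ψ hψN ι ⟨φ x, hA₀A (hφ x)⟩ := by
        rw [e1, e2]
        rfl
      exact congrArg Subtype.val (hκinj e3)

end Cfsg.Agent.H9KL
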