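import Mathlib
import Cfsg.Prelude
import Cfsg.Agent.Lib.Helper9.KL6
import Cfsg.Agent.Lib.Helper9.SylowAux
import Cfsg.Agent.Lib.Helper9.FusionReceptive

set_option autoImplicit false

/-!
# Kessar–Linckelmann cascade (part 7): the Sylow bound for the normalizer inside the model at `U`
-/

namespace Cfsg.Agent.H9KL

open Cfsg Cfsg.FusionSystem Cfsg.Agent.Lib.Helper9

variable {Ω : Type*} [Group Ω] {S : Subgroup Ω}

theorem le_normalizer_of_forall_conj_mem {G : Type*} [Group G] (M H : Subgroup G)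
    (h : ∀ m ∈ M, ∀ y ∈ H, m * y * m⁻¹ ∈ H) : M ≤ Subgroup.normalizer (H : Set G) := by
  intro m hm
  rw [Subgroup.mem_normalizer_iff]
  intro y
  constructor
  · exact h m hm y
  · intro hy
    have := h m⁻¹ (M.inv_mem hm) _ hy
    have e : m⁻¹ * (m * y * m⁻¹) * m⁻¹⁻¹ = y := by group
    rwa [e] at this

theorem pair_sylow_bound [Finite S] (p : ℕ) [Fact p.Prime] (F : FusionSystem S) {Q T U A₀ : Subgroup Ω}
    {ψ : normalizerIn S T →* Ω} (hψ : ψ ∈ F.Hom (normalizerIn S T)) (hψN : ∀ x, ψ x ∈ normalizerIn S U)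
    (hψT : (T.subgroupOf (normalizerIn S T)).map ψ = U)
    (NU : FusionSystem (normalizerIn S U)) (hNU : F.IsNormalizerSystem U NU)
    {G : Type*} [Group G] [Finite G] (ι : normalizerIn S U →* G) (hι : NU.IsRealizedBy ι)
    (hUn : ((U.subgroupOf (normalizerIn S U)).map ι).Normal)
    (TU : Sylow p G) (hTU : (TU : Subgroup G) = ι.range)
    (hQT : Q ≤ T) (hTS : T ≤ S)
    (hmax : ∀ θ ∈ F.Hom T, Nat.card ↥(S ⊓ Subgroup.normalizer (((Q.subgroupOf T).map θ : Subgroup Ω) : Set Ω) ⊓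
      Subgroup.normalizer ((θ.range : Subgroup Ω) : Set Ω)) ≤ Nat.card A₀)
    (P₂ : Subgroup G) (hP₂ : IsPGroup p P₂)
    (hP₂N : P₂ ≤ Subgroup.normalizer
      (((Q.subgroupOf (normalizerIn S T)).map (kap ψ hψN ι) : Subgroup G) : Set G)) :
    Nat.card P₂ ≤ Nat.card A₀ := by
  have hTA : T ≤ normalizerIn S T := fun x hx => ⟨hTS hx, Subgroup.le_normalizer hx⟩
  have hUS : U ≤ S := by
    intro u hu
    obtain ⟨a, -, rfl⟩ := hψT.ge hu
    exact (hψN a).1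
  have hUB : U ≤ normalizerIn S U := fun x hx => ⟨hUS hx, Subgroup.le_normalizer hx⟩
  -- conjugate `P₂` into the Sylow subgroup
  obtain ⟨g, -, hg⟩ := exists_conj_mem_sylow_of_le TU ⊤ le_top P₂ hP₂ le_top
  have hvalU : ∀ u : U, g * ι ⟨u, hUB u.2⟩ * g⁻¹ ∈ ι.range := by
    intro u
    have h1 : ι ⟨u, hUB u.2⟩ ∈ (U.subgroupOf (normalizerIn S U)).map ι := ⟨⟨u, hUB u.2⟩, u.2, rfl⟩
    obtain ⟨b, -, hb⟩ := hUn.conj_mem _ h1 g
    exact ⟨b, hb⟩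
  obtain ⟨lam, hlamdef⟩ : ∃ lam : U →* Ω, lam = liftConj ι hι.1 hUB g hvalU := ⟨_, rfl⟩
  have hlamB : ∀ u : U, lam u ∈ normalizerIn S U := by
    intro u; rw [hlamdef]; exact liftConj_mem ι hι.1 hUB g hvalU u
  have Hlam : ∀ u : U, ι ⟨lam u, hlamB u⟩ = g * ι ⟨u, hUB u.2⟩ * g⁻¹ := by
    intro u
    subst hlamdef
    exact ι_liftConj ι hι.1 hUB g hvalU u _
  have hlamF : lam ∈ F.Hom U := by
    have h1 : lam ∈ NU.Hom U := by rw [hlamdef]; exact liftConj_mem_hom hι hUB g hvalU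
    rw [hNU U] at h1
    exact h1.1
  have hlamU : ∀ u : U, lam u ∈ U := by
    intro u
    have h1 : ι ⟨u, hUB u.2⟩ ∈ (U.subgroupOf (normalizerIn S U)).map ι := ⟨⟨u, hUB u.2⟩, u.2, rfl⟩
    obtain ⟨b, hb, hbu⟩ := hUn.conj_mem _ h1 g
    have hbU : (b : Ω) ∈ U := hb
    rw [← Hlam u] at hbu
    have := hι.1 hbu
    rw [this] at hbU
    exact hbU
  have hψTmem : ψ.comp (Subgroup.inclusion hTA) ∈ F.Hom T := fs_restrict_mem F hψ hTA
  have hψTU : ∀ t : T, (ψ.comp (Subgroup.inclusion hTA)) t ∈ U := by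
    intro t
    apply hψT.le
    exact ⟨⟨t, hTA t.2⟩, t.2, rfl⟩
  obtain ⟨θ, hθdef⟩ : ∃ θ : T →* Ω, θ = lam.comp ((ψ.comp (Subgroup.inclusion hTA)).codRestrict U hψTU) :=
    ⟨_, rfl⟩
  have hθ : θ ∈ F.Hom T := by rw [hθdef]; exact F.comp_mem hψTmem hlamF hψTU
  have hθapp : ∀ t : T, θ t = lam ⟨ψ ⟨t, hTA t.2⟩, hψTU t⟩ := by
    intro t; rw [hθdef]; rfl
  have hθU : ∀ t : T, θ t ∈ U := fun t => by rw [hθapp]; exact hlamU _
  have hθB : ∀ t : T, θ t ∈ normalizerIn S U := fun t => hUB (hθU t)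
  have Hθ : ∀ t : T, ι ⟨θ t, hθB t⟩ = g * kap ψ hψN ι ⟨t, hTA t.2⟩ * g⁻¹ := by
    intro t
    have e1 := Hlam ⟨ψ ⟨t, hTA t.2⟩, hψTU t⟩
    rw [kap_apply, ← e1]
    congr 1
    apply Subtype.ext
    exact hθapp t
  have hθrange : θ.range = U := by
    apply le_antisymm
    · rintro _ ⟨t, rfl⟩
      exact hθU t
    · intro u hu
      have h1 : ι ⟨u, hUB hu⟩ ∈ (U.subgroupOf (normalizerIn S U)).map ι := ⟨⟨u, hUB hu⟩, hu, rfl⟩
      obtain ⟨b, hb, hbu⟩ := hUn.conj_mem _ h1 g⁻¹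
      have hbU : (b : Ω) ∈ U := hb
      obtain ⟨a, ha, hab⟩ := hψT.ge hbU
      have haT : (a : Ω) ∈ T := ha
      refine ⟨⟨a, haT⟩, ?_⟩
      have e1 := Hθ ⟨a, haT⟩
      rw [kap_apply] at e1
      have e2 : (⟨ψ ⟨((⟨a, haT⟩ : T) : Ω), hTA haT⟩, hψN _⟩ : normalizerIn S U) = b := Subtype.ext hab
      rw [e2, hbu] at e1
      have e3 : g * (g⁻¹ * ι ⟨u, hUB hu⟩ * g⁻¹⁻¹) * g⁻¹ = ι ⟨u, hUB hu⟩ := by group
      rw [e3] at e1
      exact congrArg Subtype.val (hι.1 e1)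
  -- the preimage of `g P₂ g⁻¹`
  obtain ⟨M, hMdef⟩ : ∃ M : Subgroup Ω, M = ((P₂.map (MulAut.conj g).toMonoidHom).comap ι).map
      (normalizerIn S U).subtype := ⟨_, rfl⟩
  have hMmem : ∀ m : Ω, m ∈ M ↔ ∃ hb : m ∈ normalizerIn S U, ∃ y ∈ P₂, ι ⟨m, hb⟩ = g * y * g⁻¹ := by
    intro m
    rw [hMdef]
    constructor
    · rintro ⟨b, hb, rfl⟩
      obtain ⟨y, hy, hyb⟩ := hb
      exact ⟨b.2, y, hy, hyb.symm⟩
    · rintro ⟨hb, y, hy, hyb⟩
      exact ⟨⟨m, hb⟩, ⟨y, hy, hyb.symm⟩, rfl⟩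
  have hMB : M ≤ normalizerIn S U := fun m hm => ((hMmem m).mp hm).1
  have hMle : M ≤ S ⊓ Subgroup.normalizer (((Q.subgroupOf T).map θ : Subgroup Ω) : Set Ω) ⊓
      Subgroup.normalizer ((θ.range : Subgroup Ω) : Set Ω) := by
    refine le_inf (le_inf (hMB.trans inf_le_left) ?_) ?_
    · apply le_normalizer_of_forall_conj_mem
      intro m hm z hz
      obtain ⟨hb, y, hy, hym⟩ := (hMmem m).mp hm
      obtain ⟨q, hq, rfl⟩ := hz
      have hqQ : (q : Ω) ∈ Q := hq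
      -- `y` normalizes `κ(Q)`
      have h1 : kap ψ hψN ι ⟨q, hTA q.2⟩ ∈ (Q.subgroupOf (normalizerIn S T)).map (kap ψ hψN ι) :=
        ⟨⟨q, hTA q.2⟩, hqQ, rfl⟩
      have h2 := (Subgroup.mem_normalizer_iff.mp (hP₂N hy) _).mp h1
      obtain ⟨a, ha, hay⟩ := h2
      have haQ : (a : Ω) ∈ Q := ha
      refine ⟨⟨a, hQT haQ⟩, haQ, ?_⟩
      have hmz : m * θ q * m⁻¹ ∈ normalizerIn S U :=
        Subgroup.mul_mem _ (Subgroup.mul_mem _ hb (hθB q)) (Subgroup.inv_mem _ hb)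
      have e1 : ι ⟨m * θ q * m⁻¹, hmz⟩ = ι ⟨m, hb⟩ * ι ⟨θ q, hθB q⟩ * (ι ⟨m, hb⟩)⁻¹ := by
        rw [← map_inv, ← map_mul, ← map_mul]
        rfl
      have e2 : ι ⟨θ ⟨a, hQT haQ⟩, hθB _⟩ = ι ⟨m * θ q * m⁻¹, hmz⟩ := by
        rw [e1, Hθ, Hθ, hym]
        have e3 : (⟨((⟨a, hQT haQ⟩ : T) : Ω), hTA (hQT haQ)⟩ : normalizerIn S T) = a := rfl
        rw [e3, hay]
        group
      exact congrArg Subtype.val (hι.1 e2)
    · rw [hθrange]
      exact hMB.trans inf_le_right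
  have hfinS : Finite ↥(S ⊓ Subgroup.normalizer (((Q.subgroupOf T).map θ : Subgroup Ω) : Set Ω) ⊓
      Subgroup.normalizer ((θ.range : Subgroup Ω) : Set Ω)) :=
    fs_finite_of_le (inf_le_left.trans inf_le_left)
  have hfinM : Finite M := fs_finite_of_le (hMB.trans inf_le_left)
  have h1 : Nat.card P₂ ≤ Nat.card M := by
    have hex : ∀ y : P₂, ∃ b : normalizerIn S U, ι b = g * (y : G) * g⁻¹ := by
      intro y
      have := hg y y.2
      rw [hTU] at this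
      exact this
    choose f hf using hex
    have hfM : ∀ y : P₂, ((f y : normalizerIn S U) : Ω) ∈ M := by
      intro y
      rw [hMmem]
      exact ⟨(f y).2, y, y.2, hf y⟩
    apply Nat.card_le_card_of_injective (fun y : P₂ => (⟨(f y : Ω), hfM y⟩ : M))
    intro y y' hyy'
    have e1 : ((f y : normalizerIn S U) : Ω) = f y' := congrArg (fun z : M => (z : Ω)) hyy'
    have e2 : f y = f y' := Subtype.ext e1
    have e3 : g * (y : G) * g⁻¹ = g * (y' : G) * g⁻¹ := by rw [← hf y, ← hf y', e2]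
    apply Subtype.ext
    have : g⁻¹ * (g * (y : G) * g⁻¹) * g = g⁻¹ * (g * (y' : G) * g⁻¹) * g := by rw [e3]
    have e4 : g⁻¹ * (g * (y : G) * g⁻¹) * g = y := by group
    have e5 : g⁻¹ * (g * (y' : G) * g⁻¹) * g = y' := by group
    rw [e4, e5] at this
    exact this
  exact h1.trans ((Subgroup.card_le_of_le hMle).trans (hmax θ hθ))

end Cfsg.Agent.H9KL
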