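import Mathlib
import Cfsg.Prelude
import Cfsg.Agent.Lib.Helper9.KL7

set_option autoImplicit false

/-!
# Kessar–Linckelmann cascade (part 8): the normalizer inside the model at `U` is a model of the pair system
-/

namespace Cfsg.Agent.H9KL

open Cfsg Cfsg.FusionSystem Cfsg.Agent.Lib.Helper9

variable {Ω : Type*} [Group Ω] {S : Subgroup Ω}

theorem pair_isModel [Finite S] (p : ℕ) [Fact p.Prime] (hS : IsPGroup p S) (F : FusionSystem S)
    {Q T U A₀ : Subgroup Ω}
    {ψ : normalizerIn S T →* Ω} (hψ : ψ ∈ F.Hom (normalizerIn S T)) (hψN : ∀ x, ψ x ∈ normalizerIn S U)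
    (hψT : (T.subgroupOf (normalizerIn S T)).map ψ = U)
    (NU : FusionSystem (normalizerIn S U)) (hNU : F.IsNormalizerSystem U NU)
    {G : Type*} [Group G] (ι : normalizerIn S U →* G) (hG : NU.IsModel p G ι) (hUnorm : NU.IsNormal U)
    (hQT : Q ≤ T) (hTS : T ≤ S)
    (hA₀ : A₀ = S ⊓ Subgroup.normalizer (Q : Set Ω) ⊓ Subgroup.normalizer (T : Set Ω))
    (hmax : ∀ θ ∈ F.Hom T, Nat.card ↥(S ⊓ Subgroup.normalizer (((Q.subgroupOf T).map θ : Subgroup Ω) : Set Ω) ⊓
      Subgroup.normalizer ((θ.range : Subgroup Ω) : Set Ω)) ≤ Nat.card A₀)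
    (D : FusionSystem A₀) (hD : IsPairSystem F Q T A₀ D) :
    ∃ j : A₀ →* ↥(Subgroup.normalizer
        (((Q.subgroupOf (normalizerIn S T)).map (kap ψ hψN ι) : Subgroup G) : Set G)),
      D.IsModel p ↥(Subgroup.normalizer
        (((Q.subgroupOf (normalizerIn S T)).map (kap ψ hψN ι) : Subgroup G) : Set G)) j := by
  haveI : Finite ↥(normalizerIn S U) := fs_finite_of_le inf_le_left
  have hUn := model_image_normal p NU ι hG hUnorm
  obtain ⟨hfin, hι, ⟨TU, hTU⟩, hcent⟩ := hG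
  haveI := hfin
  have hA₀A : A₀ ≤ normalizerIn S T := by
    rw [hA₀]
    intro x hx
    exact ⟨hx.1.1, hx.2⟩
  have hA₀Q : A₀ ≤ Subgroup.normalizer (Q : Set Ω) := by
    rw [hA₀]
    intro x hx
    exact hx.1.2
  have hA₀S : A₀ ≤ S := hA₀A.trans inf_le_left
  have hκinj : Function.Injective (kap ψ hψN ι) := kap_injective F hψ hψN ι hι.1
  have hjmem : ∀ x : A₀, (kap ψ hψN ι).comp (Subgroup.inclusion hA₀A) x ∈ Subgroup.normalizer
      (((Q.subgroupOf (normalizerIn S T)).map (kap ψ hψN ι) : Subgroup G) : Set G) := by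
    have h1 := le_normalizer_of_forall_conj_mem ((A₀.subgroupOf (normalizerIn S T)).map (kap ψ hψN ι))
      ((Q.subgroupOf (normalizerIn S T)).map (kap ψ hψN ι)) ?_
    · intro x
      apply h1
      exact ⟨⟨x, hA₀A x.2⟩, x.2, rfl⟩
    · rintro _ ⟨a, ha, rfl⟩ _ ⟨q, hq, rfl⟩
      have haA₀ : (a : Ω) ∈ A₀ := ha
      have hqQ : (q : Ω) ∈ Q := hq
      refine ⟨a * q * a⁻¹, ?_, by simp⟩
      show (a : Ω) * q * (a : Ω)⁻¹ ∈ Q
      exact (Subgroup.mem_normalizer_iff.mp (hA₀Q haA₀) _).mp hqQ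
  obtain ⟨j, hjdef⟩ : ∃ j : A₀ →* ↥(Subgroup.normalizer
      (((Q.subgroupOf (normalizerIn S T)).map (kap ψ hψN ι) : Subgroup G) : Set G)),
      j = ((kap ψ hψN ι).comp (Subgroup.inclusion hA₀A)).codRestrict _ hjmem := ⟨_, rfl⟩
  have hj : ∀ x : A₀, ((j x : _) : G) = kap ψ hψN ι ⟨x, hA₀A x.2⟩ := by
    intro x; rw [hjdef]; rfl
  have hreal := pair_realized F hψ hψN hψT NU hNU ι hι hUn hQT hTS hA₀A D hD j hj
  refine ⟨j, inferInstance, hreal, ?_, ?_⟩
  · -- Sylow
    haveI : Finite A₀ := fs_finite_of_le hA₀S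
    have hjp : IsPGroup p j.range := by
      have h1 : IsPGroup p A₀ := hS.to_le hA₀S
      exact h1.of_surjective j.rangeRestrict j.rangeRestrict_surjective
    obtain ⟨P₂, hP₂⟩ := hjp.exists_le_sylow
    refine ⟨P₂, ?_⟩
    symm
    apply Subgroup.eq_of_le_of_card_ge hP₂
    have h1 : Nat.card j.range = Nat.card A₀ :=
      (Nat.card_congr (MonoidHom.ofInjective hreal.1).toEquiv).symm
    rw [h1]
    have h2 := pair_sylow_bound p F hψ hψN hψT NU hNU ι hι hUn TU hTU hQT hTS hmax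
      ((P₂ : Subgroup _).map (Subgroup.normalizer
        (((Q.subgroupOf (normalizerIn S T)).map (kap ψ hψN ι) : Subgroup G) : Set G)).subtype)
      (P₂.isPGroup'.map _) ?_
    · rw [Subgroup.card_subtype] at h2
      exact h2
    · rintro _ ⟨y, -, rfl⟩
      exact y.2
  · -- characteristic p
    apply normalizer_charp p hcent
    have h1 : IsPGroup p (normalizerIn S T) := hS.to_le inf_le_left
    exact (h1.to_subgroup _).map _

end Cfsg.Agent.H9KL
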