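import Mathlib
import Cfsg.Prelude.Def_FusionSystem
import Cfsg.Agent.Lib.Helper9.KNorm12

set_option autoImplicit false

namespace Cfsg.Agent.Lib.Helper9

open Cfsg Cfsg.FusionSystem

variable {Ω : Type*} [Group Ω] {S : Subgroup Ω}

/-- **Puig's theorem** (in the form needed): if `(Q, K)` is a good pair of the saturated system `F`, the
`K`-normalizer system `N_F^K(Q)` over `N_S^K(Q)` is saturated. -/
theorem normK_saturated [Finite S] (p : ℕ) [Fact p.Prime] (hS : IsPGroup p S) (F : FusionSystem S)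
    (hF : F.IsSaturated p) {Q : Subgroup Ω} (K : Subgroup (MulAut Q)) (hQgood : IsGoodK F p Q K)
    {T : Subgroup Ω} (hT : T = normK S Q K) (E : FusionSystem T)
    (hE : ∀ P : Subgroup Ω, E.Hom P = normKHom F Q K P) : E.IsSaturated p := by
  subst hT
  intro P hP
  obtain ⟨P', hconj, hgood⟩ := normK_exists_good p hS F hF K hQgood E hE hP
  have hP' : P' ≤ normK S Q K := fs_isConj_le_right E hconj
  exact ⟨P', hconj, normK_fullyAutomized p hS F K E hE hP' hgood, normK_receptive p hS F K E hE hP' hgood⟩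

theorem isGoodK_top [Finite S] (p : ℕ) [Fact p.Prime] (hS : IsPGroup p S) (F : FusionSystem S)
    (hF : F.IsSaturated p) {Q : Subgroup Ω} (hQ : F.IsFullyNormalized Q) : IsGoodK F p Q ⊤ := by
  obtain ⟨hQc, hQa⟩ := fs_sylow_axiom p hS F hF hQ
  refine ⟨fs_extension_axiom p hS F hF hQc, ?_⟩
  haveI : Finite Q := fs_finite_of_le hQ.1
  rw [inf_top_eq, inf_top_eq]
  exact isSylIn_of_sylow (autInducedBy_le_autGroup F hQ.1) hQa.2

theorem isGoodK_bot [Finite S] (p : ℕ) [Fact p.Prime] (hS : IsPGroup p S) (F : FusionSystem S)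
    (hF : F.IsSaturated p) {Q : Subgroup Ω} (hQ : F.IsFullyCentralized Q) : IsGoodK F p Q ⊥ := by
  refine ⟨fs_extension_axiom p hS F hF hQ, ?_⟩
  rw [inf_bot_eq, inf_bot_eq]
  refine ⟨le_refl _, IsPGroup.of_bot, ?_⟩
  rw [Subgroup.relIndex_self]
  exact (Fact.out : p.Prime).one_lt.ne' ∘ Nat.dvd_one.mp

/-- The normalizer system is the `K`-normalizer system for `K = Aut(Q)`. -/
theorem normalizerHom_eq_normKHom (F : FusionSystem S) (Q P : Subgroup Ω) :
    F.normalizerHom Q P = normKHom F Q ⊤ P := by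
  ext φ
  simp only [normalizerHom, normKHom, Set.mem_setOf_eq, normK_top]
  constructor
  · rintro ⟨h1, h2, h3, ψ, hψ, hψP, hψQ⟩
    refine ⟨h1, h2, h3, ψ, hψ, hψP, ?_⟩
    have hmem : ∀ x : Q, ψ (Subgroup.inclusion le_sup_right x) ∈ Q := by
      intro x
      have : ψ (Subgroup.inclusion le_sup_right x) ∈ (Q.subgroupOf (P ⊔ Q)).map ψ := ⟨_, x.2, rfl⟩
      exact (le_of_eq hψQ) this
    have hbij : Function.Bijective ((ψ.comp (Subgroup.inclusion le_sup_right)).codRestrict Q hmem) := by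
      constructor
      · intro a b hab
        have h4 : ψ (Subgroup.inclusion le_sup_right a) = ψ (Subgroup.inclusion le_sup_right b) :=
          congrArg Subtype.val hab
        have h5 := F.injective_of_mem hψ h4
        exact Subtype.ext (congrArg (fun z : ↥(P ⊔ Q) => (z : Ω)) h5)
      · intro y
        have hy : (y : Ω) ∈ (Q.subgroupOf (P ⊔ Q)).map ψ := (le_of_eq hψQ.symm) y.2
        obtain ⟨x, hx, hxy⟩ := hy
        have hxQ : (x : Ω) ∈ Q := hx
        exact ⟨⟨x, hxQ⟩, Subtype.ext hxy⟩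
    exact ⟨MulEquiv.ofBijective _ hbij, Subgroup.mem_top _, fun x => rfl⟩
  · rintro ⟨h1, h2, h3, ψ, hψ, hψP, κ, -, hψQ⟩
    refine ⟨h1, h2, h3, ψ, hψ, hψP, ?_⟩
    ext y
    constructor
    · rintro ⟨x, hx, rfl⟩
      have hxQ : (x : Ω) ∈ Q := hx
      have : x = Subgroup.inclusion le_sup_right (⟨x, hxQ⟩ : Q) := rfl
      rw [this, hψQ]
      exact (κ _).2
    · intro hy
      refine ⟨Subgroup.inclusion le_sup_right (κ⁻¹ ⟨y, hy⟩), ?_, ?_⟩
      · show ((Subgroup.inclusion le_sup_right (κ⁻¹ ⟨y, hy⟩) : ↥(P ⊔ Q)) : Ω) ∈ Q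
        exact (κ⁻¹ ⟨y, hy⟩ : Q).2
      · rw [hψQ, MulAut.apply_inv_self]

/-- The centralizer system is the `K`-normalizer system for `K = 1`. -/
theorem centralizerHom_eq_normKHom (F : FusionSystem S) (Q P : Subgroup Ω) :
    F.centralizerHom Q P = normKHom F Q ⊥ P := by
  ext φ
  simp only [centralizerHom, normKHom, Set.mem_setOf_eq, normK_bot]
  constructor
  · rintro ⟨h1, h2, h3, ψ, hψ, hψP, hψQ⟩
    exact ⟨h1, h2, h3, ψ, hψ, hψP, 1, Subgroup.mem_bot.mpr rfl, fun x => hψQ x⟩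
  · rintro ⟨h1, h2, h3, ψ, hψ, hψP, κ, hκ, hψQ⟩
    rw [Subgroup.mem_bot] at hκ
    subst hκ
    exact ⟨h1, h2, h3, ψ, hψ, hψP, fun x => hψQ x⟩

/-- `N_F(Q)` is saturated for fully normalized `Q`. -/
theorem normalizerSystem_saturated [Finite S] (p : ℕ) [Fact p.Prime] (hS : IsPGroup p S) (F : FusionSystem S)
    (hF : F.IsSaturated p) {Q : Subgroup Ω} (hQ : F.IsFullyNormalized Q)
    (E : FusionSystem (normalizerIn S Q)) (hE : F.IsNormalizerSystem Q E) : E.IsSaturated p :=
  normK_saturated p hS F hF ⊤ (isGoodK_top p hS F hF hQ) (normK_top S Q).symm E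
    (fun P => (hE P).trans (normalizerHom_eq_normKHom F Q P))

/-- `C_F(Q)` is saturated for fully centralized `Q`. -/
theorem centralizerSystem_saturated [Finite S] (p : ℕ) [Fact p.Prime] (hS : IsPGroup p S) (F : FusionSystem S)
    (hF : F.IsSaturated p) {Q : Subgroup Ω} (hQ : F.IsFullyCentralized Q)
    (E : FusionSystem (centralizerIn S Q)) (hE : F.IsCentralizerSystem Q E) : E.IsSaturated p :=
  normK_saturated p hS F hF ⊥ (isGoodK_bot p hS F hF hQ) (normK_bot S Q).symm E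
    (fun P => (hE P).trans (centralizerHom_eq_normKHom F Q P))

end Cfsg.Agent.Lib.Helper9
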