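import Mathlib
import Cfsg.Prelude.Def_FusionSystem
import Cfsg.Agent.Lib.Helper9.KNorm13
import Cfsg.Agent.Lib.Helper9.FusionNormMap

set_option autoImplicit false

namespace Cfsg.Agent.Lib.Helper9

open Cfsg Cfsg.FusionSystem

variable {Ω : Type*} [Group Ω] {S : Subgroup Ω}

theorem le_normalizerIn_self {Q : Subgroup Ω} (hQ : Q ≤ S) : Q ≤ normalizerIn S Q :=
  fun _ hx => ⟨hQ hx, Subgroup.le_normalizer hx⟩

/-- `Q` is normal in `N_F(Q)`. -/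
theorem normalizerSystem_isNormal (F : FusionSystem S) {Q : Subgroup Ω} (hQ : Q ≤ S)
    (E : FusionSystem (normalizerIn S Q)) (hE : F.IsNormalizerSystem Q E) : E.IsNormal Q := by
  refine ⟨le_normalizerIn_self hQ, fun P φ hφ => ?_⟩
  rw [hE] at hφ
  obtain ⟨hφF, hPN, hφN, ψ, hψ, hψP, hψQ⟩ := hφ
  have hPQN : P ⊔ Q ≤ normalizerIn S Q := sup_le hPN (le_normalizerIn_self hQ)
  refine ⟨ψ, ?_, hψP, hψQ⟩
  rw [hE]
  have hle : (P ⊔ Q) ⊔ Q ≤ P ⊔ Q := sup_le le_rfl le_sup_right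
  refine ⟨hψ, hPQN, fun x => ?_, ψ.comp (Subgroup.inclusion hle), fs_restrict_mem F hψ hle, fun x => rfl, ?_⟩
  · refine ⟨(F.le_of_mem hψ).2 x, ?_⟩
    exact fs_map_mem_normalizer ψ le_sup_right (hPQN.trans inf_le_right) hψQ x
  · ext y
    constructor
    · rintro ⟨x, hx, rfl⟩
      have hxQ : (x : Ω) ∈ Q := hx
      have : ψ.comp (Subgroup.inclusion hle) x ∈ (Q.subgroupOf (P ⊔ Q)).map ψ :=
        ⟨Subgroup.inclusion hle x, hxQ, rfl⟩
      exact (le_of_eq hψQ) this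
    · intro hy
      have hy' : y ∈ (Q.subgroupOf (P ⊔ Q)).map ψ := (le_of_eq hψQ.symm) hy
      obtain ⟨x, hx, rfl⟩ := hy'
      have hxQ : (x : Ω) ∈ Q := hx
      exact ⟨⟨x, le_sup_right (a := P ⊔ Q) hxQ⟩, hxQ, rfl⟩

/-- The only conjugate of `Q` in `N_F(Q)` is `Q`. -/
theorem normalizerSystem_conj_eq (F : FusionSystem S) {Q : Subgroup Ω}
    (E : FusionSystem (normalizerIn S Q)) (hE : F.IsNormalizerSystem Q E) {Q' : Subgroup Ω}
    (h : E.IsConj Q Q') : Q' = Q := by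
  obtain ⟨φ, hφ, rfl⟩ := h
  rw [hE] at hφ
  obtain ⟨-, -, -, ψ, -, hψP, hψQ⟩ := hφ
  rw [← sup_map_left_eq_range ψ φ hψP]
  exact hψQ

/-- A subgroup `Q` with `C_S(Q) ≤ Q` is centric in `N_F(Q)`. -/
theorem normalizerSystem_isCentric (F : FusionSystem S) {Q : Subgroup Ω} (hQ : Q ≤ S)
    (hC : centralizerIn S Q ≤ Q)
    (E : FusionSystem (normalizerIn S Q)) (hE : F.IsNormalizerSystem Q E) : E.IsCentric Q := by
  refine ⟨le_normalizerIn_self hQ, fun Q' hQ' => ?_⟩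
  rw [normalizerSystem_conj_eq F E hE hQ']
  intro x hx
  exact hC ⟨hx.1.1, hx.2⟩

/-- `Aut_{N_F(Q)}(Q) = Aut_F(Q)`. -/
theorem normalizerSystem_autGroup_eq (F : FusionSystem S) {Q : Subgroup Ω} (hQ : Q ≤ S)
    (E : FusionSystem (normalizerIn S Q)) (hE : F.IsNormalizerSystem Q E) : E.autGroup Q = F.autGroup Q := by
  ext α
  rw [mem_autGroup_iff E (le_normalizerIn_self hQ), mem_autGroup_iff F hQ, hE]
  constructor
  · intro h
    exact h.1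
  · intro h
    have hle : Q ⊔ Q ≤ Q := sup_le le_rfl le_rfl
    refine ⟨h, le_normalizerIn_self hQ, fun x => le_normalizerIn_self hQ (α x).2,
      (Q.subtype.comp α.toMonoidHom).comp (Subgroup.inclusion hle), fs_restrict_mem F h hle, fun x => rfl, ?_⟩
    ext y
    constructor
    · rintro ⟨x, -, rfl⟩
      exact (α _).2
    · intro hy
      refine ⟨⟨α⁻¹ ⟨y, hy⟩, le_sup_left (a := Q) (b := Q) (α⁻¹ ⟨y, hy⟩).2⟩, (α⁻¹ ⟨y, hy⟩ : Q).2, ?_⟩
      show ((α (Subgroup.inclusion hle ⟨(α⁻¹ ⟨y, hy⟩ : Q), _⟩) : Q) : Ω) = y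
      have : Subgroup.inclusion hle ⟨((α⁻¹ ⟨y, hy⟩ : Q) : Ω), le_sup_left (a := Q) (b := Q) (α⁻¹ ⟨y, hy⟩).2⟩ =
          α⁻¹ ⟨y, hy⟩ := rfl
      rw [this, MulAut.apply_inv_self]

end Cfsg.Agent.Lib.Helper9
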