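import Mathlib
import Cfsg.Prelude.Def_FusionSystem
import Cfsg.Agent.Lib.Lead.Model.Iface
import Cfsg.Agent.Lib.Helper9.ModelTr1
import Cfsg.Agent.Lib.Helper9.FusionAut
import Cfsg.Agent.Lib.Helper9.FusionAut2

set_option autoImplicit false

/-!
# Translation (part 2): the subgroup `Γ0` of `Aut(Q0)`, `cent`, `conj_le`.
-/

namespace Cfsg.Agent.H9MT

open Cfsg Cfsg.FusionSystem Cfsg.Agent.Lib.Helper9 Cfsg.Agent.LeadModel

universe u
variable {Ω : Type u} [Group Ω] {S : Subgroup Ω}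

/-- `Q` inside `S` is isomorphic to `Q`. -/
noncomputable def eQ {Q : Subgroup Ω} (hQS : Q ≤ S) : Q.subgroupOf S ≃* Q := Subgroup.subgroupOfEquivOfLe hQS

theorem eQ_coe {Q : Subgroup Ω} (hQS : Q ≤ S) (x : Q.subgroupOf S) : ((eQ hQS x : Q) : Ω) = ((x : S) : Ω) := rfl

theorem eQ_symm_coe {Q : Subgroup Ω} (hQS : Q ≤ S) (x : Q) : ((((eQ hQS).symm x : Q.subgroupOf S) : S) : Ω) = (x : Ω) := rfl

/-- `Aut_F(Q)` transported to `Q0 = Q.subgroupOf S`. -/
noncomputable def Gam0 (F : FusionSystem S) {Q : Subgroup Ω} (hQS : Q ≤ S) : Subgroup (MulAut (Q.subgroupOf S)) :=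
  (F.autGroup Q).comap (MulAut.congr (eQ hQS)).toMonoidHom

theorem mem_Gam0 (F : FusionSystem S) {Q : Subgroup Ω} (hQS : Q ≤ S) (γ : MulAut (Q.subgroupOf S)) :
    γ ∈ Gam0 F hQS ↔ MulAut.congr (eQ hQS) γ ∈ F.autGroup Q := Iff.rfl

theorem congr_eQ_apply {Q : Subgroup Ω} (hQS : Q ≤ S) (γ : MulAut (Q.subgroupOf S)) (x : Q) :
    ((MulAut.congr (eQ hQS) γ x : Q) : Ω) = (((γ ((eQ hQS).symm x) : Q.subgroupOf S) : S) : Ω) := rfl

theorem congr_eQ_symm_apply {Q : Subgroup Ω} (hQS : Q ≤ S) (α : MulAut Q) (x : Q.subgroupOf S) :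
    (((((MulAut.congr (eQ hQS)).symm α) x : Q.subgroupOf S) : S) : Ω) = ((α (eQ hQS x) : Q) : Ω) := rfl

theorem cent0 (F : FusionSystem S) {Q : Subgroup Ω} (hQc : F.IsCentric Q) :
    Subgroup.centralizer ((Q.subgroupOf S : Subgroup S) : Set S) ≤ Q.subgroupOf S := by
  intro s hs
  rw [Subgroup.mem_subgroupOf]
  apply hQc.2 Q (fs_isConj_refl F hQc.1)
  refine ⟨s.2, ?_⟩
  show (s : Ω) ∈ Subgroup.centralizer (Q : Set Ω)
  rw [Subgroup.mem_centralizer_iff]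
  intro q hq
  have := (Subgroup.mem_centralizer_iff.mp hs) ⟨q, hQc.1 hq⟩ (by
    show (⟨q, hQc.1 hq⟩ : S) ∈ Q.subgroupOf S
    rw [Subgroup.mem_subgroupOf]; exact hq)
  exact congrArg Subtype.val this

theorem conj_le0 (F : FusionSystem S) {Q : Subgroup Ω} (hQS : Q ≤ S) [(Q.subgroupOf S).Normal] :
    (cj (Q.subgroupOf S)).range ≤ Gam0 F hQS := by
  rintro _ ⟨s, rfl⟩
  rw [mem_Gam0]
  apply autInducedBy_le_autGroup F hQS
  rw [mem_autInducedBy_iff]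
  refine ⟨s, s.2, fun x => ?_⟩
  rw [congr_eQ_apply, cj_apply]
  rfl

/-- `Aut_S(Q)` corresponds to the range of the conjugation action. -/
theorem range_cj_eq {Q : Subgroup Ω} (hQS : Q ≤ S) [(Q.subgroupOf S).Normal] :
    (cj (Q.subgroupOf S)).range = (autInducedBy S Q).comap (MulAut.congr (eQ hQS)).toMonoidHom := by
  ext γ
  rw [Subgroup.mem_comap, mem_autInducedBy_iff]
  constructor
  · rintro ⟨s, rfl⟩
    refine ⟨s, s.2, fun x => ?_⟩
    show ((MulAut.congr (eQ hQS) (cj (Q.subgroupOf S) s) x : Q) : Ω) = _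
    rw [congr_eQ_apply, cj_apply]
    rfl
  · rintro ⟨g, hg, Hg⟩
    refine ⟨⟨g, hg⟩, ?_⟩
    ext x
    rw [cj_apply]
    have := Hg (eQ hQS x)
    simp only [MulEquiv.coe_toMonoidHom] at this
    rw [congr_eQ_apply] at this
    simp only [MulEquiv.symm_apply_apply] at this
    rw [this]
    rfl

end Cfsg.Agent.H9MT
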