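import Mathlib
import Cfsg.Prelude.Def_FusionSystem
import Cfsg.Agent.Lib.Lead.Model.Iface
import Cfsg.Agent.Lib.Helper9.ModelTr2
import Cfsg.Agent.Lib.Helper9.FusionCentric2
import Cfsg.Agent.Lib.Helper9.FusionNormal6
import Cfsg.Agent.Lib.Helper9.FusionSat3

set_option autoImplicit false

/-!
# Translation (part 3): `cop`, `H_unique`, `H_ext`, and the bundle `Hyp`.
-/

namespace Cfsg.Agent.H9MT

open Cfsg Cfsg.FusionSystem Cfsg.Agent.Lib.Helper9 Cfsg.Agent.LeadModel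

universe u
variable {Ω : Type u} [Group Ω] {S : Subgroup Ω}

theorem normal0 (F : FusionSystem S) {Q : Subgroup Ω} (hQn : F.IsNormal Q) : (Q.subgroupOf S).Normal :=
  (Subgroup.normal_subgroupOf_iff_le_normalizer hQn.1).mpr
    (fs_stronglyClosed_le_normalizer F (fs_stronglyClosed_of_isNormal F hQn))

theorem cop0 [Finite S] (p : ℕ) [Fact p.Prime] (F : FusionSystem S) {Q : Subgroup Ω}
    (hQa : F.IsFullyAutomized p Q) [(Q.subgroupOf S).Normal] :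
    ∃ m : ℕ, ¬ p ∣ m ∧ Nat.card (Gam0 F hQa.1) = m * Nat.card (cj (Q.subgroupOf S)).range := by
  obtain ⟨hQS, R, hR⟩ := hQa
  haveI : Finite Q := fs_finite_of_le hQS
  haveI : Finite (F.autGroup Q) := inferInstance
  refine ⟨(R : Subgroup (F.autGroup Q)).index, R.not_dvd_index, ?_⟩
  have h1 : Nat.card (Gam0 F hQS) = Nat.card (F.autGroup Q) := by
    unfold Gam0
    rw [Subgroup.comap_equiv_eq_map_symm']
    exact Subgroup.card_map_of_injective (MulEquiv.injective _)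
  have h2 : Nat.card (cj (Q.subgroupOf S)).range = Nat.card (autInducedBy S Q) := by
    rw [range_cj_eq hQS, Subgroup.comap_equiv_eq_map_symm']
    exact Subgroup.card_map_of_injective (MulEquiv.injective _)
  have h3 : Nat.card (R : Subgroup (F.autGroup Q)) = Nat.card (autInducedBy S Q) := by
    rw [hR]
    exact Nat.card_congr (Subgroup.subgroupOfEquivOfLe (autInducedBy_le_autGroup F hQS)).toEquiv
  rw [h1, h2, ← h3, mul_comm]
  exact (Subgroup.card_mul_index _).symm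

theorem H_unique0 [Finite S] (p : ℕ) [Fact p.Prime] (hS : IsPGroup p S) (F : FusionSystem S)
    (hF : F.IsSaturated p) {Q : Subgroup Ω} (hQc : F.IsCentric Q)
    (A : Subgroup S) (hQA : Q.subgroupOf S ≤ A) (ψ ψ' : A →* S) (hψ : ψ ∈ H0 F A) (hψ' : ψ' ∈ H0 F A)
    (hag : ∀ x : Q.subgroupOf S, ψ ⟨x, hQA x.2⟩ = ψ' ⟨x, hQA x.2⟩) :
    ∃ z : Q.subgroupOf S, (∀ x : Q.subgroupOf S, z * x = x * z) ∧
      ∀ a : A, ψ' a = ψ (⟨z, hQA z.2⟩ * a * ⟨z, hQA z.2⟩⁻¹) := by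
  obtain ⟨φ, hφ, hφψ⟩ := hψ
  obtain ⟨φ', hφ', hφψ'⟩ := hψ'
  have hQS := hQc.1
  have hQP : Q ≤ A.map S.subtype := by
    intro q hq
    exact ⟨⟨q, hQS hq⟩, hQA (Subgroup.mem_subgroupOf.mpr hq), rfl⟩
  have hagree : ∀ x : A.map S.subtype, (x : Ω) ∈ Q → φ x = φ' x := by
    rintro ⟨x, hx⟩ hxQ
    have h1 := hφψ ⟨⟨x, hQS hxQ⟩, hQA (Subgroup.mem_subgroupOf.mpr hxQ)⟩
    have h2 := hφψ' ⟨⟨x, hQS hxQ⟩, hQA (Subgroup.mem_subgroupOf.mpr hxQ)⟩
    have h3 := hag ⟨⟨x, hQS hxQ⟩, Subgroup.mem_subgroupOf.mpr hxQ⟩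
    show φ ⟨x, hx⟩ = φ' ⟨x, hx⟩
    rw [show (⟨x, hx⟩ : A.map S.subtype) = ⟨((⟨⟨x, hQS hxQ⟩, hQA (Subgroup.mem_subgroupOf.mpr hxQ)⟩ : A) : S),
      mem_up A _⟩ from rfl, h1, h2]
    exact congrArg Subtype.val h3
  obtain ⟨z, hzQ, hzC, Hz⟩ := fs_maps_agree_centric p hS F hF hφ' _ Q hQP hQc φ hφ hagree rfl
  refine ⟨⟨⟨z, hQS hzQ⟩, Subgroup.mem_subgroupOf.mpr hzQ⟩, ?_, ?_⟩
  · intro x
    apply Subtype.ext
    apply Subtype.ext
    have := (Subgroup.mem_centralizer_iff.mp hzC) x (Subgroup.mem_subgroupOf.mp x.2)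
    exact this.symm
  · intro a
    apply Subtype.ext
    rw [← hφψ' a, ← hφψ, Hz]
    rfl

/-- Transport a hom `up A →* Ω` with values in `S` to a hom `A →* S`. -/
def toUp (A : Subgroup S) : A →* A.map S.subtype :=
  (S.subtype.comp A.subtype).codRestrict (A.map S.subtype) (mem_up A)

def downHom (A : Subgroup S) (φ : A.map S.subtype →* Ω) (h : ∀ x, φ x ∈ S) : A →* S :=
  (φ.codRestrict S h).comp (toUp A)

theorem downHom_coe (A : Subgroup S) (φ : A.map S.subtype →* Ω) (h : ∀ x, φ x ∈ S) (a : A) :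
    ((downHom A φ h a : S) : Ω) = φ ⟨a, mem_up A a⟩ := rfl

theorem downHom_mem (F : FusionSystem S) (A : Subgroup S) (φ : A.map S.subtype →* Ω)
    (hφ : φ ∈ F.Hom (A.map S.subtype)) : downHom A φ (F.le_of_mem hφ).2 ∈ H0 F A :=
  ⟨φ, hφ, fun _ => rfl⟩

theorem H_ext0 (F : FusionSystem S) {Q : Subgroup Ω} (hQr : F.IsReceptive Q)
    [hn : (Q.subgroupOf S).Normal] (γ : MulAut (Q.subgroupOf S)) (hγ : γ ∈ Gam0 F hQr.1) :
    ∃ φ : Ngam (Q.subgroupOf S) γ →* S, φ ∈ H0 F (Ngam (Q.subgroupOf S) γ) ∧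
      ∀ (x : Q.subgroupOf S) (hx : (x : S) ∈ Ngam (Q.subgroupOf S) γ), φ ⟨x, hx⟩ = γ x := by
  have hQS := hQr.1
  rw [mem_Gam0, mem_autGroup_iff F hQS] at hγ
  obtain ⟨α, hα⟩ : ∃ α, α = MulAut.congr (eQ hQS) γ := ⟨_, rfl⟩
  rw [← hα] at hγ
  have hrange : (Q.subtype.comp α.toMonoidHom).range = Q := by
    ext y
    constructor
    · rintro ⟨x, rfl⟩
      exact (α x).2
    · intro hy
      exact ⟨α.symm ⟨y, hy⟩, by simp⟩
  obtain ⟨ψ, hψ, Hψ⟩ := hQr.2 Q _ hγ hrange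
  have hαγ : ∀ y : Q, ((α y : Q) : Ω) = (((γ ((eQ hQS).symm y) : Q.subgroupOf S) : S) : Ω) := by
    intro y; rw [hα]; rfl
  have hle : (Ngam (Q.subgroupOf S) γ).map S.subtype ≤ extender S Q (Q.subtype.comp α.toMonoidHom) := by
    intro x hx
    obtain ⟨hxS, hxN⟩ := mem_of_mem_up _ hx
    rw [mem_Ngam] at hxN
    obtain ⟨t, ht⟩ := hxN
    rw [mem_extender_iff]
    have hnorm : ∀ q : Ω, q ∈ Q → ∀ s : S, (s : Ω) * q * (s : Ω)⁻¹ ∈ Q := by
      intro q hq s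
      have := hn.conj_mem ⟨q, hQS hq⟩ (Subgroup.mem_subgroupOf.mpr hq) s
      exact Subgroup.mem_subgroupOf.mp this
    refine ⟨hxS, ?_, t, t.2, ?_⟩
    · rw [Subgroup.mem_normalizer_iff]
      intro h
      constructor
      · intro hh
        exact hnorm h hh ⟨x, hxS⟩
      · intro hh
        have := hnorm _ hh (⟨x, hxS⟩ : S)⁻¹
        have h2 : ((⟨x, hxS⟩ : S)⁻¹ : S) * (x * h * x⁻¹) * (((⟨x, hxS⟩ : S)⁻¹ : S) : Ω)⁻¹ = h := by
          show x⁻¹ * (x * h * x⁻¹) * (x⁻¹)⁻¹ = h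
          group
        rwa [h2] at this
    · intro y hy
      have h1 : γ * cj (Q.subgroupOf S) ⟨x, hxS⟩ = cj (Q.subgroupOf S) t * γ := by
        rw [← ht]; group
      have h2 := congrArg (fun f : MulAut (Q.subgroupOf S) => (((f ((eQ hQS).symm y) : Q.subgroupOf S) : S) : Ω)) h1
      simp only [MulAut.mul_apply] at h2
      rw [cj_apply] at h2
      show ((α ⟨x * y * x⁻¹, hy⟩ : Q) : Ω) = t * ((α y : Q) : Ω) * (t : Ω)⁻¹
      rw [hαγ, hαγ]
      refine Eq.trans ?_ h2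
      congr 4
  have hψN := fs_restrict_mem F hψ hle
  refine ⟨downHom _ _ (F.le_of_mem hψN).2, downHom_mem F _ _ hψN, ?_⟩
  intro x hx
  apply Subtype.ext
  rw [downHom_coe]
  have hxQ : ((x : S) : Ω) ∈ Q := Subgroup.mem_subgroupOf.mp x.2
  have := Hψ ((x : S) : Ω) hxQ (hle (mem_up _ ⟨(x : S), hx⟩))
  refine Eq.trans this ?_
  show ((α ⟨((x : S) : Ω), hxQ⟩ : Q) : Ω) = _
  rw [hαγ]
  congr 3

theorem hyp_of_constrained [Finite S] (p : ℕ) [Fact p.Prime] (hS : IsPGroup p S) (F : FusionSystem S)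
    (hF : F.IsSaturated p) {Q : Subgroup Ω} (hQn : F.IsNormal Q) (hQc : F.IsCentric Q)
    [(Q.subgroupOf S).Normal] : Hyp p (Q.subgroupOf S) (Gam0 F hQn.1) (H0 F) := by
  have hfn : F.IsFullyNormalized Q := fs_fullyNormalized_of_weaklyClosed F (fs_weaklyClosed_of_isNormal F hQn)
  obtain ⟨hfc, hfa⟩ := fs_sylow_axiom p hS F hF hfn
  have hrec := fs_extension_axiom p hS F hF hfc
  exact
    { cent := cent0 F hQc
      conj_le := conj_le0 F hQn.1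
      cop := cop0 p F hfa
      H_conj := H0_conj F
      H_restrict := fun h ψ hψ => H0_restrict F h ψ hψ
      H_comp := fun ψ χ hψ hχ h => H0_comp F ψ χ hψ hχ h
      H_unique := fun A hQA ψ ψ' hψ hψ' hag => H_unique0 p hS F hF hQc A hQA ψ ψ' hψ hψ' hag
      H_ext := fun γ hγ => H_ext0 F hrec γ hγ }

end Cfsg.Agent.H9MT
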