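import Mathlib
import Cfsg.Prelude.Def_FusionSystem
import Cfsg.Agent.Lib.Lead.Model.Iface
import Cfsg.Agent.Lib.Helper9.ModelTr3
import Cfsg.Agent.Lib.Helper9.PCore

set_option autoImplicit false

/-!
# Translation (part 4): from the conclusion of the abstract model theorem to a model of the system.
-/

namespace Cfsg.Agent.H9MT

open Cfsg Cfsg.FusionSystem Cfsg.Agent.Lib.Helper9 Cfsg.Agent.LeadModel

universe u
variable {Ω : Type u} [Group Ω] {S : Subgroup Ω}

theorem isModel_of_concl [Finite S] (p : ℕ) [Fact p.Prime] (hS : IsPGroup p S) (F : FusionSystem S)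
    {Q : Subgroup Ω} (hQn : F.IsNormal Q) [(Q.subgroupOf S).Normal]
    (h : Concl p (Q.subgroupOf S) (Gam0 F hQn.1) (H0 F)) :
    ∃ (G : Type u) (_ : Group G) (ι : S →* G), F.IsModel p G ι := by
  obtain ⟨G, hG, hfin, ι, hinj, hidx, hnorm, hcent, hconj, hreal⟩ := h
  have hQS := hQn.1
  refine ⟨G, hG, ι, hfin, ⟨hinj, ?_⟩, ?_, ?_⟩
  · intro P hP φ hφ
    constructor
    · intro hφF
      obtain ⟨ψ, hψ, hψφ, hψQ⟩ := hQn.2 P φ hφF
      have hPQS : P ⊔ Q ≤ S := sup_le hP hQS
      have upA : ((P ⊔ Q).subgroupOf S).map S.subtype = P ⊔ Q := up_subgroupOf hPQS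
      have hψ1 := fs_restrict_mem F hψ upA.le
      have hψ0 := downHom_mem F _ _ hψ1
      have hQA : Q.subgroupOf S ≤ (P ⊔ Q).subgroupOf S := by
        intro x hx
        rw [Subgroup.mem_subgroupOf] at hx ⊢
        exact (le_sup_right : Q ≤ P ⊔ Q) hx
      have hρ := fs_restrict_mem F hψ (le_sup_right : Q ≤ P ⊔ Q)
      have hval : ∀ y : Q, (ψ.comp (Subgroup.inclusion (le_sup_right : Q ≤ P ⊔ Q))) y ∈ Q := by
        intro y
        have hmem : (ψ.comp (Subgroup.inclusion (le_sup_right : Q ≤ P ⊔ Q))) y ∈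
            (Q.subgroupOf (P ⊔ Q)).map ψ := by
          refine ⟨Subgroup.inclusion le_sup_right y, ?_, rfl⟩
          show Subgroup.inclusion le_sup_right y ∈ Q.subgroupOf (P ⊔ Q)
          rw [Subgroup.mem_subgroupOf]
          exact y.2
        rw [hψQ] at hmem
        exact hmem
      obtain ⟨α, hα, Hα⟩ := fs_hom_to_aut F hρ hval
      obtain ⟨g, hg⟩ := hreal _ hQA _ hψ0 ⟨(MulAut.congr (eQ hQS)).symm α, by
        rw [mem_Gam0, MulEquiv.apply_symm_apply]; exact hα, fun x => by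
        apply Subtype.ext
        rw [downHom_coe, congr_eQ_symm_apply, Hα]
        rfl⟩
      refine ⟨g, fun x => ?_⟩
      have hxA : (⟨x, hP x.2⟩ : S) ∈ (P ⊔ Q).subgroupOf S := by
        rw [Subgroup.mem_subgroupOf]
        exact (le_sup_left : P ≤ P ⊔ Q) x.2
      have := hg ⟨⟨x, hP x.2⟩, hxA⟩
      refine Eq.trans ?_ this
      congr 1
      apply Subtype.ext
      rw [downHom_coe]
      exact (hψφ x).symm
    · rintro ⟨g, hg⟩
      have upA : (P.subgroupOf S).map S.subtype = P := up_subgroupOf hP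
      obtain ⟨φ0, hφ0⟩ : ∃ φ0 : P.subgroupOf S →* S, φ0 =
          (φ.codRestrict S hφ).comp (Subgroup.subgroupOfEquivOfLe hP).toMonoidHom := ⟨_, rfl⟩
      have hφ0v : ∀ a : P.subgroupOf S, ((φ0 a : S) : Ω) = φ ⟨((a : S) : Ω), a.2⟩ := by
        intro a; rw [hφ0]; rfl
      have hmem : φ0 ∈ H0 F (P.subgroupOf S) := by
        apply hconj g
        intro a
        have := hg ⟨((a : S) : Ω), a.2⟩
        refine Eq.trans ?_ this
        congr 1
        apply Subtype.ext
        exact hφ0v a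
      obtain ⟨φ1, hφ1, hφ10⟩ := hmem
      refine hom_congr F upA hφ1 (fun x hx hx' => ?_)
      have := hφ10 ⟨⟨x, hP hx'⟩, Subgroup.mem_subgroupOf.mpr hx'⟩
      rw [hφ0v] at this
      exact this.symm
  · refine ⟨(IsPGroup.of_surjective hS ι.rangeRestrict ι.rangeRestrict_surjective).toSylow hidx, ?_⟩
    exact IsPGroup.toSylow_coe _ _
  · have hp : IsPGroup p ((Q.subgroupOf S).map ι) := (hS.to_subgroup _).map ι
    have hle : (Q.subgroupOf S).map ι ≤ pCore p G := le_pCore hnorm hp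
    exact (Subgroup.centralizer_le hle).trans (hcent.trans hle)

end Cfsg.Agent.H9MT
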