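import Mathlib
import Cfsg.Prelude.Def_FusionSystem
import Cfsg.Agent.Lib.Lead.Model.Iface
import Cfsg.Agent.Lib.Helper9.ModelTr4

set_option autoImplicit false

/-!
# Translation (part 5): the model theorem for constrained fusion systems from the abstract model theorem.
-/

namespace Cfsg.Agent.H9MT

open Cfsg Cfsg.FusionSystem Cfsg.Agent.Lib.Helper9 Cfsg.Agent.LeadModel

universe u
variable {Ω : Type u} [Group Ω] {S : Subgroup Ω}

/-- If the abstract model theorem holds for the `p`-group `S` (as a type), every constrained saturated fusion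
system over `S` has a model. -/
theorem model_exists_of_core [Finite S] (p : ℕ) [Fact p.Prime] (hS : IsPGroup p S) (F : FusionSystem S)
    (hF : F.IsConstrained p)
    (core : ∀ (Q0 : Subgroup S) [Q0.Normal] (Γ : Subgroup (MulAut Q0)) (H : (A : Subgroup S) → Set (A →* S)),
      Hyp p Q0 Γ H → Concl p Q0 Γ H) :
    ∃ (G : Type u) (_ : Group G) (ι : S →* G), F.IsModel p G ι := by
  obtain ⟨hsat, Q, hQn, hQc⟩ := hF
  haveI := normal0 F hQn
  exact isModel_of_concl p hS F hQn (core _ _ _ (hyp_of_constrained p hS F hsat hQn hQc))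

end Cfsg.Agent.H9MT
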