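import Mathlib
import Cfsg.Prelude
import Cfsg.Agent.Lib.Helper9.KL8
import Cfsg.Agent.Lib.Helper9.NormSys1
import Cfsg.Agent.Lib.Helper9.KNorm13
import Cfsg.Agent.Lib.Helper9.Radical1
import Cfsg.Agent.Lib.Helper9.FusionNormMap
import Cfsg.Agent.Lib.Helper9.FusionSat1
import Cfsg.Agent.Lib.Helper9.FusionSat2
import Cfsg.Agent.Lib.Helper9.FusionSat3
import Cfsg.Agent.S5090
import Cfsg.Agent.S5096

set_option autoImplicit false

/-!
# Kessar–Linckelmann cascade (part 9): models of pair systems do not involve `H` in an `H`-free system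
-/

namespace Cfsg.Agent.H9KL

open Cfsg Cfsg.FusionSystem Cfsg.Agent.Lib.Helper9

universe u

/-- A model of the normalizer system of a fully normalized centric subgroup exists. -/
theorem exists_model_of_fn_centric {Ω : Type u} [Group Ω] {S : Subgroup Ω} [Finite S] (p : ℕ) [Fact p.Prime]
    (hS : IsPGroup p S) (F : FusionSystem S) (hF : F.IsSaturated p) {U : Subgroup Ω}
    (hUfn : F.IsFullyNormalized U) (hUc : F.IsCentric U)
    (NU : FusionSystem (normalizerIn S U)) (hNU : F.IsNormalizerSystem U NU) :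
    NU.IsNormal U ∧ NU.IsConstrained p ∧
      ∃ (G : Type u) (_ : Group G) (ι : normalizerIn S U →* G), NU.IsModel p G ι := by
  haveI : Finite ↥(normalizerIn S U) := fs_finite_of_le inf_le_left
  have hsat := normalizerSystem_saturated p hS F hF hUfn NU hNU
  have hnorm := normalizerSystem_isNormal F hUfn.1 NU hNU
  have hcen := normalizerSystem_isCentric F hUfn.1 (hUc.2 U (fs_isConj_refl F hUfn.1)) NU hNU
  have hconstr : NU.IsConstrained p := ⟨hsat, U, hnorm, hcen⟩
  have hSU : IsPGroup p ↥(normalizerIn S U) := hS.to_le (inf_le_left : normalizerIn S U ≤ S)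
  exact ⟨hnorm, hconstr, Cfsg.Agent.S5090.result p hSU NU hconstr⟩

theorem pair_model_free' {Ω : Type u} [Group Ω] {S : Subgroup Ω} [Finite S] (p : ℕ) [Fact p.Prime]
    (hS : IsPGroup p S) (F : FusionSystem S) (hF : F.IsSaturated p)
    {H : Type*} [Group H] 
    {Q T A₀ : Subgroup Ω} (hQT : Q ≤ T) (hTc : F.IsCentric T)
    (hfree : ∀ U : Subgroup Ω, F.IsConj T U → F.IsFullyNormalized U → F.IsCentric U →
      ∀ NU : FusionSystem (normalizerIn S U), F.IsNormalizerSystem U NU →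
        ∀ (G : Type u) [Group G] (ι : ↥(normalizerIn S U) →* G), NU.IsModel p G ι → ¬ Involves H G)
    (hA₀ : A₀ = S ⊓ Subgroup.normalizer (Q : Set Ω) ⊓ Subgroup.normalizer (T : Set Ω))
    (hmax : ∀ θ ∈ F.Hom T, Nat.card ↥(S ⊓ Subgroup.normalizer (((Q.subgroupOf T).map θ : Subgroup Ω) : Set Ω) ⊓
      Subgroup.normalizer ((θ.range : Subgroup Ω) : Set Ω)) ≤ Nat.card A₀)
    (D : FusionSystem A₀) (hD : IsPairSystem F Q T A₀ D)
    (L : Type u) [Group L] (ι : A₀ →* L) (hL : D.IsModel p L ι) : ¬ Involves H L := by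
  have hTS : T ≤ S := hTc.1
  obtain ⟨U, hconj, hUfn⟩ := fs_exists_fullyNormalized F hTS
  obtain ⟨hfc, hfa⟩ := fs_sylow_axiom p hS F hF hUfn
  have hrec := fs_extension_axiom p hS F hF hfc
  obtain ⟨ψ, hψ, hψN, hψT⟩ := fs_exists_normalizer_map p hS F U T hfa hrec hconj
  have hUc : F.IsCentric U := centric_of_isConj F hconj hTc
  obtain ⟨NU, hNU⟩ := Cfsg.Agent.S5096.result F U hUfn.1
  obtain ⟨hnorm, -, G, _, ιU, hG⟩ := exists_model_of_fn_centric p hS F hF hUfn hUc NU hNU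
  have hfreeU : ¬ Involves H G := hfree U hconj hUfn hUc NU hNU G ιU hG
  obtain ⟨j, hj⟩ := pair_isModel p hS F hψ hψN hψT NU hNU ιU hG hnorm hQT hTS hA₀ hmax D hD
  have hA₀S : A₀ ≤ S := by
    rw [hA₀]; exact inf_le_left.trans inf_le_left
  haveI : Finite A₀ := fs_finite_of_le hA₀S
  exact not_involves_of_model_subgroup p D _ j hj hfreeU ι hL

theorem pair_model_free {Ω : Type u} [Group Ω] {S : Subgroup Ω} [Finite S] (p : ℕ) [Fact p.Prime]
    (hS : IsPGroup p S) (F : FusionSystem S) (hF : F.IsSaturated p)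
    {H : Type*} [Group H] (hfree : F.IsSectionFree p H)
    {Q T A₀ : Subgroup Ω} (hQT : Q ≤ T) (hTc : F.IsCentric T)
    (hA₀ : A₀ = S ⊓ Subgroup.normalizer (Q : Set Ω) ⊓ Subgroup.normalizer (T : Set Ω))
    (hmax : ∀ θ ∈ F.Hom T, Nat.card ↥(S ⊓ Subgroup.normalizer (((Q.subgroupOf T).map θ : Subgroup Ω) : Set Ω) ⊓
      Subgroup.normalizer ((θ.range : Subgroup Ω) : Set Ω)) ≤ Nat.card A₀)
    (D : FusionSystem A₀) (hD : IsPairSystem F Q T A₀ D)
    (L : Type u) [Group L] (ι : A₀ →* L) (hL : D.IsModel p L ι) : ¬ Involves H L :=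
  pair_model_free' p hS F hF hQT hTc (fun U _ hUfn hUc NU hNU G _ ιU hG => hfree U hUfn hUc NU hNU G ιU hG)
    hA₀ hmax D hD L ι hL

end Cfsg.Agent.H9KL
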