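import Mathlib
import Cfsg.Prelude
import Cfsg.Agent.Lib.Helper9.KL9

set_option autoImplicit false

/-!
# Kessar–Linckelmann cascade (part 10): normalizer systems as pair systems
-/

namespace Cfsg.Agent.H9KL

open Cfsg Cfsg.FusionSystem Cfsg.Agent.Lib.Helper9

variable {Ω : Type*} [Group Ω] {S : Subgroup Ω}

/-- A map of `N_F(Q)` defined on an overgroup of `Q` carries `Q` onto `Q`. -/
theorem normalizerHom_map_eq (F : FusionSystem S) {Q P₁ : Subgroup Ω} (hQP : Q ≤ P₁) {ψ₁ : P₁ →* Ω}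
    (h : ψ₁ ∈ F.normalizerHom Q P₁) : (Q.subgroupOf P₁).map ψ₁ = Q := by
  obtain ⟨-, -, -, ψ₂, -, hext, hψ₂Q⟩ := h
  ext y
  constructor
  · rintro ⟨x, hx, rfl⟩
    have hxQ : (x : Ω) ∈ Q := hx
    rw [← hext x]
    apply hψ₂Q.le
    exact ⟨_, hxQ, rfl⟩
  · intro hy
    obtain ⟨x, hx, rfl⟩ := hψ₂Q.ge hy
    have hxQ : (x : Ω) ∈ Q := hx
    refine ⟨⟨x, hQP hxQ⟩, hxQ, ?_⟩
    rw [← hext ⟨x, hQP hxQ⟩]
    rfl

/-- A map of `F` on `P`, inside `N_S(Q)`, which extends to a map on some `P₁ ≥ P, Q` carrying `Q` onto `Q`, is a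
map of `N_F(Q)`. -/
theorem mem_normalizerHom_of_extension (F : FusionSystem S) {Q P P₁ : Subgroup Ω} (hPP₁ : P ≤ P₁)
    (hQP₁ : Q ≤ P₁) {φ : P →* Ω} (hPR : P ≤ normalizerIn S Q) (hval : ∀ x, φ x ∈ normalizerIn S Q)
    {ψ₁ : P₁ →* Ω} (hψ₁ : ψ₁ ∈ F.Hom P₁) (hext : ∀ x : P, ψ₁ (Subgroup.inclusion hPP₁ x) = φ x)
    (hmap : (Q.subgroupOf P₁).map ψ₁ = Q) : φ ∈ F.normalizerHom Q P := by
  have hφ : φ ∈ F.Hom P := by
    have h1 := fs_restrict_mem F hψ₁ hPP₁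
    have h2 : ψ₁.comp (Subgroup.inclusion hPP₁) = φ := by
      ext x; exact hext x
    rw [← h2]; exact h1
  refine ⟨hφ, hPR, hval, ψ₁.comp (Subgroup.inclusion (sup_le hPP₁ hQP₁)), fs_restrict_mem F hψ₁ _,
    fun x => hext x, ?_⟩
  ext y
  constructor
  · rintro ⟨x, hx, rfl⟩
    have hxQ : (x : Ω) ∈ Q := hx
    apply hmap.le
    exact ⟨Subgroup.inclusion (sup_le hPP₁ hQP₁) x, hxQ, rfl⟩
  · intro hy
    obtain ⟨x, hx, rfl⟩ := hmap.ge hy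
    have hxQ : (x : Ω) ∈ Q := hx
    exact ⟨⟨x, Subgroup.mem_sup_right hxQ⟩, hxQ, rfl⟩

/-- A map of `F` on an overgroup `P₁ ≤ N_S(Q)` of `Q` carrying `Q` onto `Q` is a map of `N_F(Q)`. -/
theorem mem_normalizerHom_of_map_eq (F : FusionSystem S) {Q P₁ : Subgroup Ω} (hQP : Q ≤ P₁)
    {ψ₁ : P₁ →* Ω} (hψ₁ : ψ₁ ∈ F.Hom P₁) (hP₁R : P₁ ≤ normalizerIn S Q)
    (hmap : (Q.subgroupOf P₁).map ψ₁ = Q) : ψ₁ ∈ F.normalizerHom Q P₁ := by
  have hval : ∀ x, ψ₁ x ∈ normalizerIn S Q := fun x =>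
    ⟨(F.le_of_mem hψ₁).2 x, fs_map_mem_normalizer ψ₁ hQP (hP₁R.trans inf_le_right) hmap x⟩
  exact mem_normalizerHom_of_extension F le_rfl hQP hP₁R hval hψ₁ (fun x => rfl) hmap

/-- If `T ≥ Q` is normal in `N = N_F(Q)`, then `N` is the pair system of `(Q, T)` over `N_S(Q)`. -/
theorem pairSystem_of_normal (F : FusionSystem S) {Q T : Subgroup Ω} (N : FusionSystem (normalizerIn S Q))
    (hN : F.IsNormalizerSystem Q N) (hQT : Q ≤ T) (hT : N.IsNormal T) :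
    IsPairSystem F Q T (normalizerIn S Q) N := by
  intro P φ
  constructor
  · intro hφ
    obtain ⟨hPR, hφR⟩ := N.le_of_mem hφ
    obtain ⟨ψ₁, hψ₁, hext, hψ₁T⟩ := hT.2 P φ hφ
    rw [hN] at hψ₁
    exact ⟨hPR, hφR, ψ₁, hψ₁.1, hext, hψ₁T, normalizerHom_map_eq F (hQT.trans le_sup_right) hψ₁⟩
  · rintro ⟨hPR, hφR, ψ₁, hψ₁, hext, -, hψ₁Q⟩
    rw [hN]
    exact mem_normalizerHom_of_extension F le_sup_left (hQT.trans le_sup_right) hPR hφR hψ₁ hext hψ₁Q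

/-- The normalizer system of `T ≥ Q` in `E = N_F(Q)` is the pair system of `(Q, T)`. -/
theorem pairSystem_of_normalizer (F : FusionSystem S) {Q T : Subgroup Ω} (E : FusionSystem (normalizerIn S Q))
    (hE : F.IsNormalizerSystem Q E) (hQT : Q ≤ T) (hTR : T ≤ normalizerIn S Q)
    (D : FusionSystem (normalizerIn (normalizerIn S Q) T)) (hD : E.IsNormalizerSystem T D) :
    IsPairSystem F Q T (normalizerIn (normalizerIn S Q) T) D := by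
  intro P φ
  rw [hD]
  constructor
  · rintro ⟨-, hPA, hφA, ψ₁, hψ₁, hext, hψ₁T⟩
    rw [hE] at hψ₁
    exact ⟨hPA, hφA, ψ₁, hψ₁.1, hext, hψ₁T, normalizerHom_map_eq F (hQT.trans le_sup_right) hψ₁⟩
  · rintro ⟨hPA, hφA, ψ₁, hψ₁, hext, hψ₁T, hψ₁Q⟩
    have hPR : P ≤ normalizerIn S Q := hPA.trans inf_le_left
    have hφR : ∀ x, φ x ∈ normalizerIn S Q := fun x => (hφA x).1
    have hφE : φ ∈ E.Hom P := by
      rw [hE]
      exact mem_normalizerHom_of_extension F le_sup_left (hQT.trans le_sup_right) hPR hφR hψ₁ hext hψ₁Q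
    have hψ₁E : ψ₁ ∈ E.Hom (P ⊔ T) := by
      rw [hE]
      exact mem_normalizerHom_of_map_eq F (hQT.trans le_sup_right) hψ₁ (sup_le hPR hTR) hψ₁Q
    exact ⟨hφE, hPA, hφA, ψ₁, hψ₁E, hext, hψ₁T⟩

end Cfsg.Agent.H9KL
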