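import Mathlib
import Cfsg.Prelude.Def_FusionSystem
import Cfsg.Agent.Lib.Helper9.Realize3
import Cfsg.Agent.Lib.Helper9.ModelTr2

set_option autoImplicit false

/-!
# The action of a realizing group on a subgroup of `S` with normal image
-/

namespace Cfsg.Agent.H9PSR

open Cfsg Cfsg.FusionSystem Cfsg.Agent.Lib.Helper9 Cfsg.Agent.H9MT

universe u v
variable {Ω : Type u} [Group Ω] {S : Subgroup Ω} {G : Type v} [Group G]

/-- The image of `Q` in the realizing group is isomorphic to `Q`. -/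
noncomputable def imgEquiv (ι : S →* G) (hinj : Function.Injective ι) {Q : Subgroup Ω} (hQS : Q ≤ S) :
    ((Q.subgroupOf S).map ι) ≃* Q :=
  ((Q.subgroupOf S).equivMapOfInjective ι hinj).symm.trans (eQ hQS)

theorem imgEquiv_symm_coe (ι : S →* G) (hinj : Function.Injective ι) {Q : Subgroup Ω} (hQS : Q ≤ S) (x : Q) :
    (((imgEquiv ι hinj hQS).symm x : (Q.subgroupOf S).map ι) : G) = ι ⟨x, hQS x.2⟩ := rfl

theorem ι_imgEquiv (ι : S →* G) (hinj : Function.Injective ι) {Q : Subgroup Ω} (hQS : Q ≤ S)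
    (y : (Q.subgroupOf S).map ι) : ι ⟨(imgEquiv ι hinj hQS y : Q), hQS (imgEquiv ι hinj hQS y).2⟩ = (y : G) := by
  have := imgEquiv_symm_coe ι hinj hQS (imgEquiv ι hinj hQS y)
  rw [MulEquiv.symm_apply_apply] at this
  exact this.symm

/-- The action of `G` on `Q` through the normal image of `Q`. -/
noncomputable def actHom (ι : S →* G) (hinj : Function.Injective ι) {Q : Subgroup Ω} (hQS : Q ≤ S)
    [((Q.subgroupOf S).map ι).Normal] : G →* MulAut Q :=
  (MulAut.congr (imgEquiv ι hinj hQS)).toMonoidHom.comp MulAut.conjNormal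

theorem ι_actHom (ι : S →* G) (hinj : Function.Injective ι) {Q : Subgroup Ω} (hQS : Q ≤ S)
    [((Q.subgroupOf S).map ι).Normal] (g : G) (x : Q) :
    ι ⟨(actHom ι hinj hQS g x : Q), hQS (actHom ι hinj hQS g x).2⟩ = g * ι ⟨x, hQS x.2⟩ * g⁻¹ := by
  have h1 : actHom ι hinj hQS g x =
      imgEquiv ι hinj hQS (MulAut.conjNormal g ((imgEquiv ι hinj hQS).symm x)) := rfl
  rw [h1, ι_imgEquiv, MulAut.conjNormal_apply, imgEquiv_symm_coe]

theorem actHom_range [Finite S] (F : FusionSystem S) (ι : S →* G) (hι : F.IsRealizedBy ι) {Q : Subgroup Ω}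
    (hQS : Q ≤ S) [((Q.subgroupOf S).map ι).Normal] : (actHom ι hι.1 hQS).range = F.autGroup Q := by
  ext α
  constructor
  · rintro ⟨g, rfl⟩
    rw [mem_autGroup_iff F hQS]
    exact (hι.2 Q hQS _ (fun y => hQS (actHom ι hι.1 hQS g y).2)).mpr ⟨g, fun x => ι_actHom ι hι.1 hQS g x⟩
  · intro hα
    obtain ⟨g, hg⟩ := exists_conj_of_aut hι hQS hα
    refine ⟨g, ?_⟩
    ext x
    have h1 := ι_actHom ι hι.1 hQS g x
    rw [← hg x] at h1
    exact congrArg (fun s : S => (s : Ω)) (hι.1 h1)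

theorem actHom_ker (ι : S →* G) (hinj : Function.Injective ι) {Q : Subgroup Ω} (hQS : Q ≤ S)
    [((Q.subgroupOf S).map ι).Normal] :
    (actHom ι hinj hQS).ker = Subgroup.centralizer (((Q.subgroupOf S).map ι : Subgroup G) : Set G) := by
  ext g
  rw [MonoidHom.mem_ker, Subgroup.mem_centralizer_iff]
  constructor
  · intro hg y hy
    obtain ⟨s, hs, rfl⟩ := hy
    have h1 := ι_actHom ι hinj hQS g ⟨s, Subgroup.mem_subgroupOf.mp hs⟩
    rw [hg] at h1
    simp only [MulAut.one_apply] at h1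
    have h2 : (⟨((⟨(s : Ω), Subgroup.mem_subgroupOf.mp hs⟩ : Q) : Ω), hQS (Subgroup.mem_subgroupOf.mp hs)⟩ : S) = s :=
      Subtype.ext rfl
    rw [h2] at h1
    exact eq_mul_inv_iff_mul_eq.mp h1
  · intro hg
    ext x
    have h1 := ι_actHom ι hinj hQS g x
    have hx : ι ⟨x, hQS x.2⟩ ∈ (((Q.subgroupOf S).map ι : Subgroup G) : Set G) :=
      ⟨⟨x, hQS x.2⟩, Subgroup.mem_subgroupOf.mpr x.2, rfl⟩
    have h2 := hg _ hx
    have h3 : g * ι ⟨x, hQS x.2⟩ * g⁻¹ = ι ⟨x, hQS x.2⟩ := by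
      rw [← h2]; group
    rw [h3] at h1
    exact congrArg (fun s : S => (s : Ω)) (hinj h1)

end Cfsg.Agent.H9PSR
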