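import Mathlib
import Cfsg.Prelude
import Cfsg.Agent.Lib.Helper9.KL10
import Cfsg.Agent.Lib.Helper9.PSolvReal1
import Cfsg.Agent.Lib.Helper9.SatCrit13
import Cfsg.Agent.Lib.Helper9.PCore

set_option autoImplicit false

/-!
# Kessar–Linckelmann cascade (part 11): a criterion for being radical, through a realizing group
-/

namespace Cfsg.Agent.H9KL

open Cfsg Cfsg.FusionSystem Cfsg.Agent.Lib.Helper9 Cfsg.Agent.H9PSR Cfsg.Agent.Lib.Helper9.H9Sat

variable {Ω : Type*} [Group Ω] {S : Subgroup Ω}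

theorem inn_subgroupOf_normal {X : Type*} [Group X] (A : Subgroup (MulAut X)) :
    ((Inn X).subgroupOf A).Normal := by
  constructor
  rintro ⟨x, hxA⟩ hx ⟨a, haA⟩
  have hx' : x ∈ Inn X := hx
  obtain ⟨q, rfl⟩ := hx'
  show a * MulAut.conj q * a⁻¹ ∈ Inn X
  refine ⟨a q, ?_⟩
  ext y
  simp [MulAut.mul_apply, MulAut.conj_apply, map_mul, map_inv]

/-- If `ι(Q)` is normal and self-centralizing in the realizing group `L` and contains `O_p(L)`, then `Q` is
radical. -/
theorem radical_of_pCore_le [Finite S] (p : ℕ) [Fact p.Prime] (hS : IsPGroup p S) (N : FusionSystem S)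
    {L : Type*} [Group L] [Finite L] (ι : S →* L) (hι : N.IsRealizedBy ι) {Q : Subgroup Ω} (hQS : Q ≤ S)
    [hQn : ((Q.subgroupOf S).map ι).Normal]
    (hcore : pCore p L ≤ (Q.subgroupOf S).map ι)
    (hcent : Subgroup.centralizer (((Q.subgroupOf S).map ι : Subgroup L) : Set L) ≤ (Q.subgroupOf S).map ι) :
    N.IsRadical p Q := by
  refine ⟨hQS, ?_⟩
  have hrange := actHom_range N ι hι hQS
  have hker := actHom_ker ι hι.1 hQS
  have hQp : IsPGroup p ((Q.subgroupOf S).map ι) := (hS.to_subgroup _).map _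
  apply le_antisymm
  · rintro _ ⟨a, ha, rfl⟩
    -- the preimage of `O_p(Aut_N(Q))` in `L`
    have hAn : (((pCore p (N.autGroup Q)).map (N.autGroup Q).subtype).comap (actHom ι hι.1 hQS)).Normal := by
      constructor
      intro x hx g
      obtain ⟨b, hb, hbx⟩ : actHom ι hι.1 hQS x ∈ (pCore p (N.autGroup Q)).map (N.autGroup Q).subtype := hx
      have hg : actHom ι hι.1 hQS g ∈ N.autGroup Q := by rw [← hrange]; exact ⟨g, rfl⟩
      haveI := pCore_normal' (G := N.autGroup Q) p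
      have h1 := (pCore_normal' (G := N.autGroup Q) p).conj_mem b hb ⟨_, hg⟩
      refine ⟨_, h1, ?_⟩
      show (actHom ι hι.1 hQS g) * (b : MulAut Q) * (actHom ι hι.1 hQS g)⁻¹ = actHom ι hι.1 hQS (g * x * g⁻¹)
      rw [map_mul, map_mul, map_inv]
      congr 2
    have hAp : IsPGroup p (((pCore p (N.autGroup Q)).map (N.autGroup Q).subtype).comap (actHom ι hι.1 hQS)) := by
      apply IsPGroup.comap_of_ker_isPGroup
      · haveI : Finite Q := fs_finite_of_le hQS
        exact (pCore_isPGroup' p).map _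
      · rw [hker]
        exact hQp.to_le hcent
    have hle := (le_pCore hAn hAp).trans hcore
    have haA : (a : MulAut Q) ∈ (actHom ι hι.1 hQS).range := by rw [hrange]; exact a.2
    obtain ⟨g, hg⟩ := haA
    have hgA : g ∈ ((pCore p (N.autGroup Q)).map (N.autGroup Q).subtype).comap (actHom ι hι.1 hQS) := by
      show actHom ι hι.1 hQS g ∈ (pCore p (N.autGroup Q)).map (N.autGroup Q).subtype
      rw [hg]
      exact ⟨a, ha, rfl⟩
    obtain ⟨s, hs, hsg⟩ := hle hgA
    have hsQ : (s : Ω) ∈ Q := hs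
    refine ⟨⟨s, hsQ⟩, ?_⟩
    show MulAut.conj (⟨s, hsQ⟩ : Q) = (a : MulAut Q)
    rw [← hg]
    ext x
    have e1 := ι_actHom ι hι.1 hQS g x
    rw [← hsg] at e1
    have e2 : ι s * ι ⟨x, hQS x.2⟩ * (ι s)⁻¹ = ι (s * ⟨x, hQS x.2⟩ * s⁻¹) := by
      rw [map_mul, map_mul, map_inv]
    rw [e2] at e1
    have e3 := congrArg (fun z : S => (z : Ω)) (hι.1 e1)
    simp only [MulAut.conj_apply]
    rw [hsg] at e3
    exact e3.symm
  · have h1 : (Inn Q).subgroupOf (N.autGroup Q) ≤ pCore p (N.autGroup Q) :=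
      le_pCore (inn_subgroupOf_normal _) ((isPGroup_inn p hS hQS).comap_subtype)
    intro x hx
    exact ⟨⟨x, inn_le_autGroup N hQS hx⟩, h1 hx, rfl⟩

end Cfsg.Agent.H9KL
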