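import Mathlib
import Cfsg.Prelude
import Cfsg.Agent.Lib.Helper9.KL11
import Cfsg.Agent.Lib.Helper9.Model1
import Cfsg.Agent.Lib.Helper9.ModelTr3
import Cfsg.Agent.Lib.Helper9.FusionCentric
import Cfsg.Agent.Lib.Helper9.EssGen4

set_option autoImplicit false

/-!
# Kessar–Linckelmann cascade (part 12): section-freeness may be tested at centric radical subgroups
-/

namespace Cfsg.Agent.H9KL

open Cfsg Cfsg.FusionSystem Cfsg.Agent.Lib.Helper9

universe u

/-- The bound needed in `pair_model_free` when `A₀ = N_S(Q)` and `Q` is fully normalized. -/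
theorem hmax_of_fn {Ω : Type*} [Group Ω] {S : Subgroup Ω} [Finite S] (F : FusionSystem S)
    {Q T : Subgroup Ω} (hQfn : F.IsFullyNormalized Q) (hQT : Q ≤ T) (θ : T →* Ω) (hθ : θ ∈ F.Hom T) :
    Nat.card ↥(S ⊓ Subgroup.normalizer (((Q.subgroupOf T).map θ : Subgroup Ω) : Set Ω) ⊓
      Subgroup.normalizer ((θ.range : Subgroup Ω) : Set Ω)) ≤ Nat.card (normalizerIn S Q) := by
  have hconj : F.IsConj Q ((Q.subgroupOf T).map θ) := by
    refine ⟨θ.comp (Subgroup.inclusion hQT), fs_restrict_mem F hθ hQT, ?_⟩
    ext y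
    constructor
    · rintro ⟨x, rfl⟩
      exact ⟨Subgroup.inclusion hQT x, x.2, rfl⟩
    · rintro ⟨x, hx, rfl⟩
      have hxQ : (x : Ω) ∈ Q := hx
      exact ⟨⟨x, hxQ⟩, rfl⟩
  have h1 := hQfn.2 _ hconj
  haveI : Finite ↥(normalizerIn S ((Q.subgroupOf T).map θ)) := fs_finite_of_le inf_le_left
  have h2 : S ⊓ Subgroup.normalizer (((Q.subgroupOf T).map θ : Subgroup Ω) : Set Ω) ⊓
      Subgroup.normalizer ((θ.range : Subgroup Ω) : Set Ω) ≤ normalizerIn S ((Q.subgroupOf T).map θ) :=
    inf_le_left
  exact (Subgroup.card_le_of_le h2).trans h1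

theorem sectionFree_of_radical {Ω : Type u} [Group Ω] {S : Subgroup Ω} [Finite S] (p : ℕ) [Fact p.Prime]
    (hS : IsPGroup p S) (F : FusionSystem S) (hF : F.IsSaturated p) {H : Type*} [Group H]
    (h : ∀ Q : Subgroup Ω, F.IsFullyNormalized Q → F.IsCentric Q → F.IsRadical p Q →
      ∀ N : FusionSystem (normalizerIn S Q), F.IsNormalizerSystem Q N →
        ∀ (L : Type u) [Group L] (ι : ↥(normalizerIn S Q) →* L), N.IsModel p L ι → ¬ Involves H L) :
    F.IsSectionFree p H := by
  have key : ∀ n : ℕ, ∀ Q : Subgroup Ω, Nat.card S - Nat.card Q = n → F.IsFullyNormalized Q → F.IsCentric Q →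
      ∀ N : FusionSystem (normalizerIn S Q), F.IsNormalizerSystem Q N →
        ∀ (L : Type u) [Group L] (ι : ↥(normalizerIn S Q) →* L), N.IsModel p L ι → ¬ Involves H L := by
    intro n
    induction n using Nat.strong_induction_on with
    | _ n ih =>
      intro Q hn hQfn hQc N hN L _ ι hL
      by_cases hrad : F.IsRadical p Q
      · exact h Q hQfn hQc hrad N hN L ι hL
      have hQS : Q ≤ S := hQfn.1
      have hQR : Q ≤ normalizerIn S Q := le_normalizerIn_self hQS
      haveI hfinR : Finite ↥(normalizerIn S Q) := fs_finite_of_le inf_le_left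
      have hSR : IsPGroup p ↥(normalizerIn S Q) := hS.to_le (inf_le_left : normalizerIn S Q ≤ S)
      have hNnormQ : N.IsNormal Q := normalizerSystem_isNormal F hQS N hN
      have hQimg : ((Q.subgroupOf (normalizerIn S Q)).map ι).Normal := model_image_normal p N ι hL hNnormQ
      obtain ⟨hfin, hι, ⟨TL, hTL⟩, hcent⟩ := id hL
      haveI := hfin
      haveI hOn : (pCore p L).Normal := pCore_normal' p
      have hOT : pCore p L ≤ ι.range := hTL ▸ pCore_le_sylow TL
      obtain ⟨T, hTdef⟩ : ∃ T : Subgroup Ω, T = preimageAlong ι (pCore p L) := ⟨_, rfl⟩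
      have hTnorm : N.IsNormal T := by
        rw [hTdef]; exact realized_isNormal_preimage N ι hι (pCore p L) hOT
      have hQimgp : IsPGroup p ((Q.subgroupOf (normalizerIn S Q)).map ι) := (hSR.to_subgroup _).map _
      have hQle : (Q.subgroupOf (normalizerIn S Q)).map ι ≤ pCore p L := le_pCore hQimg hQimgp
      have hQT : Q ≤ T := by
        intro x hx
        rw [hTdef, mem_preimageAlong_iff]
        exact ⟨hQR hx, hQle ⟨⟨x, hQR hx⟩, hx, rfl⟩⟩
      have hTR : T ≤ normalizerIn S Q := by rw [hTdef]; exact preimageAlong_le ι _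
      have hTS : T ≤ S := hTR.trans inf_le_left
      have hTc : F.IsCentric T := fs_centric_of_le F hQc hQT hTS
      have hne : T ≠ Q := by
        intro heq
        apply hrad
        have hcore : pCore p L ≤ (Q.subgroupOf (normalizerIn S Q)).map ι := by
          intro w hw
          obtain ⟨s, rfl⟩ := hOT hw
          have hsT : (s : Ω) ∈ T := by
            rw [hTdef, mem_preimageAlong_iff]
            exact ⟨s.2, hw⟩
          rw [heq] at hsT
          exact ⟨s, hsT, rfl⟩
        have hcent' : Subgroup.centralizer (((Q.subgroupOf (normalizerIn S Q)).map ι : Subgroup L) : Set L) ≤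
            (Q.subgroupOf (normalizerIn S Q)).map ι :=
          ((Subgroup.centralizer_le hcore).trans hcent).trans hcore
        have hNrad : N.IsRadical p Q := radical_of_pCore_le p hSR N ι hι hQR hcore hcent'
        have hAut := normalizerSystem_autGroup_eq F hQS N hN
        refine ⟨hQS, ?_⟩
        have h2 := hNrad.2
        rw [hAut] at h2
        exact h2
      have hlt : Nat.card Q < Nat.card T := by
        haveI : Finite T := fs_finite_of_le hTS
        have hlt' : Q < T := lt_of_le_of_ne hQT (Ne.symm hne)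
        by_contra hcon
        push Not at hcon
        exact hne (Subgroup.eq_of_le_of_card_ge hQT hcon).symm
      have hTcard : Nat.card T ≤ Nat.card S := Subgroup.card_le_of_le hTS
      have hA₀ : normalizerIn S Q = S ⊓ Subgroup.normalizer (Q : Set Ω) ⊓ Subgroup.normalizer (T : Set Ω) := by
        apply le_antisymm
        · refine le_inf le_rfl ?_
          haveI := Cfsg.Agent.H9MT.normal0 N hTnorm
          exact (Subgroup.normal_subgroupOf_iff_le_normalizer hTR).mp inferInstance
        · exact inf_le_left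
      refine pair_model_free' p hS F hF hQT hTc ?_ hA₀ (fun θ hθ => hmax_of_fn F hQfn hQT θ hθ) N
        (pairSystem_of_normal F N hN hQT hTnorm) L ι hL
      intro U hconj hUfn hUc NU hNU G _ ιU hG
      have hcardU : Nat.card T = Nat.card U := fs_isConj_card_eq F hconj
      refine ih (Nat.card S - Nat.card U) ?_ U rfl hUfn hUc NU hNU G ιU hG
      omega
  intro Q hQfn hQc N hN L _ ι hL
  exact key _ Q rfl hQfn hQc N hN L ι hL

end Cfsg.Agent.H9KL
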