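import Mathlib
import Cfsg.Prelude
import Cfsg.Agent.Lib.Helper9.KL12

set_option autoImplicit false

/-!
# Kessar–Linckelmann cascade (part 13): subgroups of `N_S(Q)` containing `Q`, compared in `F` and in `N_F(Q)`
-/

namespace Cfsg.Agent.H9KL

open Cfsg Cfsg.FusionSystem Cfsg.Agent.Lib.Helper9

variable {Ω : Type*} [Group Ω] {S : Subgroup Ω}

/-- For `Q` fully normalized, `Q ≤ T ≤ N_S(Q)` and a map `θ` of `F` on `T`, there is a map `χ` of `F` on
`N_S(θ Q)` into `N_S(Q)` such that `χ ∘ θ` is a map of `N_F(Q)`. -/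
theorem exists_chi [Finite S] (p : ℕ) [Fact p.Prime] (hS : IsPGroup p S) (F : FusionSystem S)
    (hF : F.IsSaturated p) {Q T : Subgroup Ω} (hQfn : F.IsFullyNormalized Q)
    (E : FusionSystem (normalizerIn S Q)) (hE : F.IsNormalizerSystem Q E) (hQT : Q ≤ T)
    (hTR : T ≤ normalizerIn S Q) (θ : T →* Ω) (hθ : θ ∈ F.Hom T) :
    ∃ χ : normalizerIn S ((Q.subgroupOf T).map θ) →* Ω, χ ∈ F.Hom (normalizerIn S ((Q.subgroupOf T).map θ)) ∧
      (∀ x, χ x ∈ normalizerIn S Q) ∧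
      ∃ hle : θ.range ≤ normalizerIn S ((Q.subgroupOf T).map θ),
        E.IsConj T ((θ.range.subgroupOf (normalizerIn S ((Q.subgroupOf T).map θ))).map χ) := by
  obtain ⟨hfc, hfa⟩ := fs_sylow_axiom p hS F hF hQfn
  have hrec := fs_extension_axiom p hS F hF hfc
  have hconj : F.IsConj Q ((Q.subgroupOf T).map θ) := by
    refine ⟨θ.comp (Subgroup.inclusion hQT), fs_restrict_mem F hθ hQT, ?_⟩
    ext y
    constructor
    · rintro ⟨x, rfl⟩
      exact ⟨Subgroup.inclusion hQT x, x.2, rfl⟩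
    · rintro ⟨x, hx, rfl⟩
      have hxQ : (x : Ω) ∈ Q := hx
      exact ⟨⟨x, hxQ⟩, rfl⟩
  obtain ⟨χ, hχ, hχR, hχQ⟩ := fs_exists_normalizer_map p hS F Q _ hfa hrec (fs_isConj_symm F hconj)
  have hle : θ.range ≤ normalizerIn S ((Q.subgroupOf T).map θ) := by
    rintro _ ⟨t, rfl⟩
    exact ⟨(F.le_of_mem hθ).2 t, fs_map_mem_normalizer θ hQT (hTR.trans inf_le_right) rfl t⟩
  refine ⟨χ, hχ, hχR, hle, ?_⟩
  -- the composite χ ∘ θ
  have hval : ∀ t : T, θ t ∈ normalizerIn S ((Q.subgroupOf T).map θ) := fun t => hle ⟨t, rfl⟩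
  have hcomp : χ.comp (θ.codRestrict _ hval) ∈ F.Hom T := F.comp_mem hθ hχ hval
  have hmap : (Q.subgroupOf T).map (χ.comp (θ.codRestrict _ hval)) = Q := by
    ext y
    constructor
    · rintro ⟨x, hx, rfl⟩
      apply hχQ.le
      refine ⟨θ.codRestrict _ hval x, ?_, rfl⟩
      show θ x ∈ (Q.subgroupOf T).map θ
      exact ⟨x, hx, rfl⟩
    · intro hy
      obtain ⟨z, hz, rfl⟩ := hχQ.ge hy
      obtain ⟨x, hx, hxz⟩ : (z : Ω) ∈ (Q.subgroupOf T).map θ := hz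
      refine ⟨x, hx, ?_⟩
      show χ (θ.codRestrict _ hval x) = χ z
      congr 1
      exact Subtype.ext hxz
  have hE' : χ.comp (θ.codRestrict _ hval) ∈ E.Hom T := by
    rw [hE]
    exact mem_normalizerHom_of_map_eq F hQT hcomp hTR hmap
  refine ⟨_, hE', ?_⟩
  ext y
  constructor
  · rintro ⟨t, rfl⟩
    exact ⟨θ.codRestrict _ hval t, ⟨t, rfl⟩, rfl⟩
  · rintro ⟨z, hz, rfl⟩
    obtain ⟨t, ht⟩ : (z : Ω) ∈ θ.range := hz
    refine ⟨t, ?_⟩
    show χ (θ.codRestrict _ hval t) = χ z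
    congr 1
    exact Subtype.ext ht

/-- `T ≥ Q` centric in `N_F(Q)` is centric in `F`. -/
theorem centric_of_centric_normalizer [Finite S] (p : ℕ) [Fact p.Prime] (hS : IsPGroup p S) (F : FusionSystem S)
    (hF : F.IsSaturated p) {Q T : Subgroup Ω} (hQfn : F.IsFullyNormalized Q)
    (E : FusionSystem (normalizerIn S Q)) (hE : F.IsNormalizerSystem Q E) (hQT : Q ≤ T)
    (hTc : E.IsCentric T) : F.IsCentric T := by
  have hTR : T ≤ normalizerIn S Q := hTc.1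
  refine ⟨hTR.trans inf_le_left, ?_⟩
  rintro T' ⟨θ, hθ, rfl⟩
  obtain ⟨χ, hχ, hχR, hle, hconj⟩ := exists_chi p hS F hF hQfn E hE hQT hTR θ hθ
  have hcen := hTc.2 _ hconj
  intro c hc
  -- `c` centralizes `θ(T)`, hence `θ(Q)`, so it lies in `N_S(θ Q)`
  have hQ₁le : (Q.subgroupOf T).map θ ≤ θ.range := by
    rintro _ ⟨x, -, rfl⟩
    exact ⟨x, rfl⟩
  have hcN : c ∈ normalizerIn S ((Q.subgroupOf T).map θ) := by
    refine ⟨hc.1, ?_⟩
    have h1 : c ∈ Subgroup.centralizer (((Q.subgroupOf T).map θ : Subgroup Ω) : Set Ω) :=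
      Subgroup.centralizer_le hQ₁le hc.2
    exact Subgroup.centralizer_le_normalizer _ h1
  have h2 : χ ⟨c, hcN⟩ ∈ centralizerIn (normalizerIn S Q)
      ((θ.range.subgroupOf (normalizerIn S ((Q.subgroupOf T).map θ))).map χ) := by
    refine ⟨hχR _, ?_⟩
    show χ ⟨c, hcN⟩ ∈ Subgroup.centralizer _
    rw [Subgroup.mem_centralizer_iff]
    rintro _ ⟨z, hz, rfl⟩
    have hzr : (z : Ω) ∈ θ.range := hz
    have h3 : (z : Ω) * c = c * z := (Subgroup.mem_centralizer_iff.mp hc.2) z hzr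
    have h4 : z * ⟨c, hcN⟩ = ⟨c, hcN⟩ * z := Subtype.ext h3
    rw [← map_mul, ← map_mul, h4]
  obtain ⟨z, hz, hzc⟩ := hcen h2
  have hzr : (z : Ω) ∈ θ.range := hz
  have h5 := F.injective_of_mem hχ hzc
  rw [h5] at hzr
  exact hzr

/-- The bound needed in `pair_model_free` when `T` is fully normalized in `N_F(Q)`. -/
theorem hmax_of_fn_normalizer [Finite S] (p : ℕ) [Fact p.Prime] (hS : IsPGroup p S) (F : FusionSystem S)
    (hF : F.IsSaturated p) {Q T : Subgroup Ω} (hQfn : F.IsFullyNormalized Q)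
    (E : FusionSystem (normalizerIn S Q)) (hE : F.IsNormalizerSystem Q E) (hQT : Q ≤ T)
    (hTfn : E.IsFullyNormalized T) (θ : T →* Ω) (hθ : θ ∈ F.Hom T) :
    Nat.card ↥(S ⊓ Subgroup.normalizer (((Q.subgroupOf T).map θ : Subgroup Ω) : Set Ω) ⊓
      Subgroup.normalizer ((θ.range : Subgroup Ω) : Set Ω)) ≤ Nat.card (normalizerIn (normalizerIn S Q) T) := by
  have hTR : T ≤ normalizerIn S Q := hTfn.1
  obtain ⟨χ, hχ, hχR, hle, hconj⟩ := exists_chi p hS F hF hQfn E hE hQT hTR θ hθ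
  have h1 := hTfn.2 _ hconj
  refine le_trans ?_ h1
  haveI : Finite ↥(normalizerIn (normalizerIn S Q)
      ((θ.range.subgroupOf (normalizerIn S ((Q.subgroupOf T).map θ))).map χ)) :=
    fs_finite_of_le (inf_le_left.trans inf_le_left)
  have hMN : S ⊓ Subgroup.normalizer (((Q.subgroupOf T).map θ : Subgroup Ω) : Set Ω) ⊓
      Subgroup.normalizer ((θ.range : Subgroup Ω) : Set Ω) ≤ normalizerIn S ((Q.subgroupOf T).map θ) :=
    inf_le_left
  have hval : ∀ m : ↥(S ⊓ Subgroup.normalizer (((Q.subgroupOf T).map θ : Subgroup Ω) : Set Ω) ⊓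
      Subgroup.normalizer ((θ.range : Subgroup Ω) : Set Ω)),
      χ ⟨m, hMN m.2⟩ ∈ normalizerIn (normalizerIn S Q)
        ((θ.range.subgroupOf (normalizerIn S ((Q.subgroupOf T).map θ))).map χ) := by
    intro m
    refine ⟨hχR _, ?_⟩
    have h2 : ∀ (m : normalizerIn S ((Q.subgroupOf T).map θ)),
        (m : Ω) ∈ Subgroup.normalizer ((θ.range : Subgroup Ω) : Set Ω) →
        ∀ y ∈ (θ.range.subgroupOf (normalizerIn S ((Q.subgroupOf T).map θ))).map χ,
          χ m * y * (χ m)⁻¹ ∈ (θ.range.subgroupOf (normalizerIn S ((Q.subgroupOf T).map θ))).map χ := by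
      rintro m hm _ ⟨z, hz, rfl⟩
      have hzr : (z : Ω) ∈ θ.range := hz
      refine ⟨m * z * m⁻¹, ?_, by simp⟩
      show (m : Ω) * z * (m : Ω)⁻¹ ∈ θ.range
      exact (Subgroup.mem_normalizer_iff.mp hm _).mp hzr
    show χ ⟨m, hMN m.2⟩ ∈ Subgroup.normalizer _
    rw [Subgroup.mem_normalizer_iff]
    intro y
    constructor
    · exact h2 ⟨m, hMN m.2⟩ m.2.2 y
    · intro hy
      have hm' : ((⟨m, hMN m.2⟩ : normalizerIn S ((Q.subgroupOf T).map θ))⁻¹ : normalizerIn S _).1 ∈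
          Subgroup.normalizer ((θ.range : Subgroup Ω) : Set Ω) := Subgroup.inv_mem _ m.2.2
      have h3 := h2 (⟨m, hMN m.2⟩)⁻¹ hm' _ hy
      rw [map_inv] at h3
      have e : (χ ⟨m, hMN m.2⟩)⁻¹ * (χ ⟨m, hMN m.2⟩ * y * (χ ⟨m, hMN m.2⟩)⁻¹) * (χ ⟨m, hMN m.2⟩)⁻¹⁻¹ = y := by
        group
      rwa [e] at h3
  apply Nat.card_le_card_of_injective (fun m : ↥(S ⊓ Subgroup.normalizer (((Q.subgroupOf T).map θ : Subgroup Ω) : Set Ω) ⊓
      Subgroup.normalizer ((θ.range : Subgroup Ω) : Set Ω)) => (⟨χ ⟨m, hMN m.2⟩, hval m⟩ :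
    ↥(normalizerIn (normalizerIn S Q) ((θ.range.subgroupOf (normalizerIn S ((Q.subgroupOf T).map θ))).map χ))))
  intro a b hab
  have e1 : χ ⟨a, hMN a.2⟩ = χ ⟨b, hMN b.2⟩ := congrArg Subtype.val hab
  have e2 := F.injective_of_mem hχ e1
  exact Subtype.ext (congrArg (fun z : normalizerIn S ((Q.subgroupOf T).map θ) => (z : Ω)) e2)

end Cfsg.Agent.H9KL
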