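import Mathlib
import Cfsg.Prelude
import Cfsg.Agent.Lib.Helper9.KL13
import Cfsg.Agent.Lib.Helper9.FusionNormal2

set_option autoImplicit false

/-!
# Kessar–Linckelmann cascade (part 14): normalizer systems of `H`-free systems are `H`-free
-/

namespace Cfsg.Agent.H9KL

open Cfsg Cfsg.FusionSystem Cfsg.Agent.Lib.Helper9

universe u

theorem normalizer_sectionFree {Ω : Type u} [Group Ω] {S : Subgroup Ω} [Finite S] (p : ℕ) [Fact p.Prime]
    (hS : IsPGroup p S) (F : FusionSystem S) (hF : F.IsSaturated p) {H : Type*} [Group H]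
    (hfree : F.IsSectionFree p H) (Q : Subgroup Ω) (hQ : F.IsFullyNormalized Q)
    (N : FusionSystem (normalizerIn S Q)) (hN : F.IsNormalizerSystem Q N) : N.IsSectionFree p H := by
  haveI hfinR : Finite ↥(normalizerIn S Q) := fs_finite_of_le inf_le_left
  have hSR : IsPGroup p ↥(normalizerIn S Q) := hS.to_le (inf_le_left : normalizerIn S Q ≤ S)
  have hNsat := normalizerSystem_saturated p hS F hF hQ N hN
  apply sectionFree_of_radical p hSR N hNsat
  intro T hTfn hTc hTr D hD L _ ι hL
  have hQnorm : N.IsNormal Q := normalizerSystem_isNormal F hQ.1 N hN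
  have hQT : Q ≤ T := fs_le_of_isNormal_of_centric_radical p hSR N hQnorm hTc hTr
  have hTcF := centric_of_centric_normalizer p hS F hF hQ N hN hQT hTc
  exact pair_model_free p hS F hF hfree hQT hTcF rfl
    (fun θ hθ => hmax_of_fn_normalizer p hS F hF hQ N hN hQT hTfn θ hθ) D
    (pairSystem_of_normalizer F N hN hQT hTfn.1 D hD) L ι hL

end Cfsg.Agent.H9KL
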