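import Mathlib
import Cfsg.Prelude
import Cfsg.Agent.Lib.Helper9.FusionMorph1
import Cfsg.Agent.Lib.Helper9.FusionReceptive
import Cfsg.Agent.Lib.Helper9.KL7

set_option autoImplicit false

/-!
# Kessar–Linckelmann cascade (part 17): full preimages along a morphism — cardinality, normalizers, centric and
fully normalized subgroups
-/

namespace Cfsg.Agent.H9KL

open Cfsg Cfsg.FusionSystem Cfsg.Agent.Lib.Helper9

variable {Ω : Type*} [Group Ω] {S : Subgroup Ω} {Ω' : Type*} [Group Ω'] {S' : Subgroup Ω'}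

theorem card_preimageAlong [Finite S] (θ : S →* Ω') {P' : Subgroup Ω'} (hP' : P' ≤ θ.range) :
    Nat.card (preimageAlong θ P') = Nat.card θ.ker * Nat.card P' := by
  have h1 : Nat.card (preimageAlong θ P') = Nat.card (P'.comap θ) := by
    unfold preimageAlong
    exact Subgroup.card_subtype _ _
  rw [h1]
  -- the restriction of θ to the preimage
  obtain ⟨f, hf⟩ : ∃ f : ↥(P'.comap θ) →* ↥P', f = θ.subgroupComap P' := ⟨_, rfl⟩
  have hfapp : ∀ x : ↥(P'.comap θ), ((f x : P') : Ω') = θ x := by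
    intro x; rw [hf]; rfl
  have hsurj : Function.Surjective f := by
    intro y
    obtain ⟨s, hs⟩ := hP' y.2
    have hsmem : s ∈ P'.comap θ := by
      show θ s ∈ P'
      rw [hs]; exact y.2
    exact ⟨⟨s, hsmem⟩, Subtype.ext ((hfapp _).trans hs)⟩
  have h2 : Nat.card ↥(P'.comap θ) = Nat.card f.ker * Nat.card f.range := by
    rw [← Subgroup.index_ker, Subgroup.card_mul_index]
  have h3 : Nat.card f.range = Nat.card P' := by
    rw [MonoidHom.range_eq_top.mpr hsurj, Subgroup.card_top]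
  have h4 : Nat.card f.ker = Nat.card θ.ker := by
    have hle : θ.ker ≤ P'.comap θ := by
      intro s hs
      show θ s ∈ P'
      rw [MonoidHom.mem_ker.mp hs]; exact P'.one_mem
    have h5 : f.ker = (θ.ker).subgroupOf (P'.comap θ) := by
      ext x
      rw [MonoidHom.mem_ker, Subgroup.mem_subgroupOf, MonoidHom.mem_ker]
      constructor
      · intro h
        have := congrArg Subtype.val h
        rw [hfapp] at this
        exact this
      · intro h
        apply Subtype.ext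
        rw [hfapp]
        exact h
    rw [h5]
    exact Nat.card_congr (Subgroup.subgroupOfEquivOfLe hle).toEquiv
  rw [h2, h3, h4]

theorem normalizerIn_preimageAlong (θ : S →* Ω') (hrange : θ.range = S') {P' : Subgroup Ω'} (hP' : P' ≤ S') :
    normalizerIn S (preimageAlong θ P') = preimageAlong θ (normalizerIn S' P') := by
  have hmem : ∀ x : Ω, x ∈ preimageAlong θ P' ↔ ∃ hx : x ∈ S, θ ⟨x, hx⟩ ∈ P' :=
    fun x => mem_preimageAlong_iff θ P' x
  have hθS' : ∀ s : S, θ s ∈ S' := fun s => hrange ▸ ⟨s, rfl⟩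
  apply le_antisymm
  · intro x hx
    rw [mem_preimageAlong_iff]
    refine ⟨hx.1, hθS' _, ?_⟩
    have h1 := le_normalizer_of_forall_conj_mem
      (((normalizerIn S (preimageAlong θ P')).subgroupOf S).map θ) P' ?_
    · exact h1 ⟨⟨x, hx.1⟩, hx, rfl⟩
    · rintro _ ⟨m, hm, rfl⟩ y hy
      have hmN : (m : Ω) ∈ Subgroup.normalizer ((preimageAlong θ P' : Subgroup Ω) : Set Ω) := hm.2
      have hyS' := hP' hy
      rw [← hrange] at hyS'
      obtain ⟨s, rfl⟩ := hyS'
      have h1 : (s : Ω) ∈ preimageAlong θ P' := (hmem _).mpr ⟨s.2, hy⟩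
      have h2 := (Subgroup.mem_normalizer_iff.mp hmN _).mp h1
      obtain ⟨h3, h4⟩ := (hmem _).mp h2
      have : (⟨(m : Ω) * s * (m : Ω)⁻¹, h3⟩ : S) = m * s * m⁻¹ := rfl
      rw [this, map_mul, map_mul, map_inv] at h4
      exact h4
  · have h1 := le_normalizer_of_forall_conj_mem (preimageAlong θ (normalizerIn S' P')) (preimageAlong θ P') ?_
    · intro x hx
      exact ⟨preimageAlong_le θ _ hx, h1 hx⟩
    · intro x hx y hy
      obtain ⟨hxS, hxN⟩ := (mem_preimageAlong_iff θ _ x).mp hx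
      obtain ⟨hyS, hyP⟩ := (hmem _).mp hy
      rw [hmem]
      refine ⟨S.mul_mem (S.mul_mem hxS hyS) (S.inv_mem hxS), ?_⟩
      have : (⟨x * y * x⁻¹, S.mul_mem (S.mul_mem hxS hyS) (S.inv_mem hxS)⟩ : S) =
          ⟨x, hxS⟩ * ⟨y, hyS⟩ * (⟨x, hxS⟩ : S)⁻¹ := rfl
      rw [this, map_mul, map_mul, map_inv]
      exact (Subgroup.mem_normalizer_iff.mp hxN.2 _).mp hyP

theorem preimage_image_of_isFull (θ : S →* Ω') {X : Subgroup Ω} (hX : IsFull θ X) :
    preimageAlong θ (imageAlong θ X) = X := by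
  ext x
  rw [mem_preimageAlong_iff]
  constructor
  · rintro ⟨hxS, hx⟩
    exact hX.2 ⟨x, hxS⟩ hx
  · intro hx
    exact ⟨hX.1 hx, apply_mem_imageAlong θ (hX.1 hx) hx⟩

theorem image_preimage_eq (θ : S →* Ω') {P' : Subgroup Ω'} (hP' : P' ≤ θ.range) :
    imageAlong θ (preimageAlong θ P') = P' :=
  le_antisymm (imageAlong_preimageAlong_le θ P') (le_imageAlong_preimageAlong θ hP')

/-- The image of a conjugate of a full subgroup is a conjugate of the image. -/
theorem isConj_image (F : FusionSystem S) (E : FusionSystem S') (θ : S →* Ω') (hmor : F.IsMorphism E θ)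
    {T T' : Subgroup Ω} (h : F.IsConj T T') : E.IsConj (imageAlong θ T) (imageAlong θ T') := by
  obtain ⟨φ, hφ, rfl⟩ := h
  obtain ⟨hTS, hφS⟩ := F.le_of_mem hφ
  obtain ⟨φ', hφ', Hφ'⟩ := morph_push F E θ hmor hφ
  refine ⟨φ', hφ', ?_⟩
  ext y
  constructor
  · rintro ⟨⟨_, s, hs, rfl⟩, rfl⟩
    have hsT : (s : Ω) ∈ T := hs
    have e1 := Hφ' ⟨s, hsT⟩ s.2 ⟨s, hs, rfl⟩ (hφS _)
    rw [mem_imageAlong_iff]
    refine ⟨⟨φ ⟨s, hsT⟩, hφS _⟩, ⟨⟨s, hsT⟩, rfl⟩, ?_⟩
    rw [← e1]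
  · intro hy
    rw [mem_imageAlong_iff] at hy
    obtain ⟨s, ⟨t, ht⟩, rfl⟩ := hy
    have e1 := Hφ' t (hTS t.2) (apply_mem_imageAlong θ (hTS t.2) t.2) (hφS t)
    refine ⟨⟨θ ⟨t, hTS t.2⟩, apply_mem_imageAlong θ (hTS t.2) t.2⟩, ?_⟩
    rw [e1]
    congr 1
    exact Subtype.ext ht

end Cfsg.Agent.H9KL
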