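import Mathlib
import Cfsg.Prelude
import Cfsg.Agent.Lib.Helper9.KL17

set_option autoImplicit false

/-!
# Kessar–Linckelmann cascade (part 18): full preimages of centric / fully normalized subgroups
-/

namespace Cfsg.Agent.H9KL

open Cfsg Cfsg.FusionSystem Cfsg.Agent.Lib.Helper9

variable {Ω : Type*} [Group Ω] {S : Subgroup Ω} {Ω' : Type*} [Group Ω'] {S' : Subgroup Ω'}

theorem centric_preimage [Finite S] (p : ℕ) [Fact p.Prime] (hS : IsPGroup p S) (F : FusionSystem S)
    (E : FusionSystem S') (θ : S →* Ω') (hmor : F.IsMorphism E θ) (hrange : θ.range = S')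
    {Tb : Subgroup Ω'} (hTb : E.IsCentric Tb) : F.IsCentric (preimageAlong θ Tb) := by
  have hfull := isFull_preimageAlong θ Tb
  have hθS' : ∀ s : S, θ s ∈ S' := fun s => hrange ▸ ⟨s, rfl⟩
  refine ⟨preimageAlong_le θ Tb, fun T' hconj => ?_⟩
  have hconj' := isConj_image F E θ hmor hconj
  rw [image_preimage_eq θ (hrange ▸ hTb.1)] at hconj'
  obtain ⟨φ, hφ, rfl⟩ := hconj
  have hfull' : IsFull θ φ.range := isFull_range p hS F E θ hmor hfull hφ
  have hcen := hTb.2 _ hconj'
  intro c hc
  have h1 : θ ⟨c, hc.1⟩ ∈ centralizerIn S' (imageAlong θ φ.range) := by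
    refine ⟨hθS' _, ?_⟩
    show θ ⟨c, hc.1⟩ ∈ Subgroup.centralizer _
    rw [Subgroup.mem_centralizer_iff]
    rintro _ ⟨s, hs, rfl⟩
    have hsr : (s : Ω) ∈ φ.range := hs
    have h2 : (s : Ω) * c = c * s := (Subgroup.mem_centralizer_iff.mp hc.2) _ hsr
    rw [← map_mul, ← map_mul]
    congr 1
    exact Subtype.ext h2
  exact hfull'.2 ⟨c, hc.1⟩ (hcen h1)

theorem fn_preimage [Finite S] (p : ℕ) [Fact p.Prime] (hS : IsPGroup p S) (F : FusionSystem S)
    (E : FusionSystem S') (θ : S →* Ω') (hmor : F.IsMorphism E θ) (hrange : θ.range = S')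
    {Tb : Subgroup Ω'} (hTb : E.IsFullyNormalized Tb) : F.IsFullyNormalized (preimageAlong θ Tb) := by
  have hfull := isFull_preimageAlong θ Tb
  refine ⟨preimageAlong_le θ Tb, fun T' hconj => ?_⟩
  have hconj' := isConj_image F E θ hmor hconj
  rw [image_preimage_eq θ (hrange ▸ hTb.1)] at hconj'
  have h1 := hTb.2 _ hconj'
  have hfull' : IsFull θ T' := by
    obtain ⟨φ, hφ, rfl⟩ := hconj
    exact isFull_range p hS F E θ hmor hfull hφ
  have e1 : normalizerIn S T' = preimageAlong θ (normalizerIn S' (imageAlong θ T')) := by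
    conv_lhs => rw [← preimage_image_of_isFull θ hfull']
    exact normalizerIn_preimageAlong θ hrange (imageAlong_le_of_range θ hrange T')
  have e2 : normalizerIn S (preimageAlong θ Tb) = preimageAlong θ (normalizerIn S' Tb) :=
    normalizerIn_preimageAlong θ hrange hTb.1
  have hle : ∀ X : Subgroup Ω', normalizerIn S' X ≤ θ.range := fun X => by
    rw [hrange]; exact inf_le_left
  rw [e1, e2, card_preimageAlong θ (hle _), card_preimageAlong θ (hle _)]
  exact Nat.mul_le_mul_left _ h1

end Cfsg.Agent.H9KL
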