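import Mathlib
import Cfsg.Prelude
import Cfsg.Agent.Lib.Helper9.KL18
import Cfsg.Agent.Lib.Helper9.KL14

set_option autoImplicit false

/-!
# Kessar–Linckelmann cascade (part 19): helpers for the quotient realization
-/

namespace Cfsg.Agent.H9KL

open Cfsg Cfsg.FusionSystem Cfsg.Agent.Lib.Helper9

/-- Factoring a homomorphism through a surjection. -/
theorem exists_lift_hom {G₁ G₂ G₃ : Type*} [Group G₁] [Group G₂] [Group G₃] (f : G₁ →* G₂)
    (hf : Function.Surjective f) (g : G₁ →* G₃) (hg : f.ker ≤ g.ker) :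
    ∃ h : G₂ →* G₃, ∀ x, h (f x) = g x :=
  ⟨f.liftOfSurjective hf ⟨g, hg⟩, fun x => MonoidHom.liftOfRightInverse_comp_apply _ _ _ ⟨g, hg⟩ x⟩

variable {Ω : Type*} [Group Ω]

/-- An injective map carrying `V` into a subgroup no larger than `V` carries it onto that subgroup. -/
theorem map_eq_of_le_of_injective {Ω' : Type*} [Group Ω'] {P V : Subgroup Ω} {V' : Subgroup Ω'} [Finite V']
    (hVP : V ≤ P) (ψ : P →* Ω') (hinj : Function.Injective ψ) (hle : (V.subgroupOf P).map ψ ≤ V')
    (hcard : Nat.card V' ≤ Nat.card V) : (V.subgroupOf P).map ψ = V' := by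
  apply Subgroup.eq_of_le_of_card_ge hle
  rw [Subgroup.card_map_of_injective hinj]
  rw [Nat.card_congr (Subgroup.subgroupOfEquivOfLe hVP).toEquiv]
  exact hcard

end Cfsg.Agent.H9KL
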