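import Mathlib
import Cfsg.Prelude.Def_FusionSystem
import Cfsg.Agent.Lib.Helper9.KNorm3
import Cfsg.Agent.Lib.Helper9.FusionSup

set_option autoImplicit false

/-!
# Glauberman functors (part 2): the `K`-normalizer system exists
-/

namespace Cfsg.Agent.H9ZW

open Cfsg Cfsg.FusionSystem Cfsg.Agent.Lib.Helper9

variable {Ω : Type*} [Group Ω] {S : Subgroup Ω}

/-- A map on `P ⊔ Q` inducing the automorphism `κ` on `Q` carries `Q` onto `Q`. -/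
theorem map_eq_of_kappa {P Q : Subgroup Ω} (ψ : ↥(P ⊔ Q) →* Ω) (κ : MulAut Q)
    (h : ∀ x : Q, ψ (Subgroup.inclusion le_sup_right x) = ((κ x : Q) : Ω)) :
    (Q.subgroupOf (P ⊔ Q)).map ψ = Q := by
  ext y
  constructor
  · rintro ⟨x, hx, rfl⟩
    have hxQ : (x : Ω) ∈ Q := hx
    have h1 := h ⟨x, hxQ⟩
    have h2 : (Subgroup.inclusion (le_sup_right : Q ≤ P ⊔ Q) ⟨x, hxQ⟩) = x := Subtype.ext rfl
    rw [h2] at h1
    rw [h1]
    exact (κ ⟨x, hxQ⟩).2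
  · intro hy
    refine ⟨Subgroup.inclusion le_sup_right (κ.symm ⟨y, hy⟩), ?_, ?_⟩
    · show ((κ.symm ⟨y, hy⟩ : Q) : Ω) ∈ Q
      exact (κ.symm ⟨y, hy⟩).2
    · rw [h]
      simp

theorem normK_conj_mem_aux (F : FusionSystem S) (Q : Subgroup Ω) (hQ : Q ≤ S) (K : Subgroup (MulAut Q))
    {P : Subgroup Ω} {g : Ω} (hP : P ≤ normK S Q K) (hg : g ∈ normK S Q K) :
    conjHom P g ∈ normKHom F Q K P := by
  have hPS : P ≤ S := hP.trans (normK_le S Q K)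
  obtain ⟨hgS, α, hα, Hα⟩ := hg
  have hg' : g ∈ normK S Q K := ⟨hgS, α, hα, Hα⟩
  refine ⟨F.conj_mem hPS hgS, hP, ?_, conjHom (P ⊔ Q) g, F.conj_mem (sup_le hPS hQ) hgS, fun x => rfl,
    α, hα, fun x => ?_⟩
  · intro x
    show g * (x : Ω) * g⁻¹ ∈ normK S Q K
    exact (normK S Q K).mul_mem ((normK S Q K).mul_mem hg' (hP x.2)) ((normK S Q K).inv_mem hg')
  · rw [Hα x]
    rfl

theorem normK_comp_mem_aux (F : FusionSystem S) (Q : Subgroup Ω) (K : Subgroup (MulAut Q))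
    {P R : Subgroup Ω} {φ : P →* Ω} {ψ : R →* Ω}
    (hφ : φ ∈ normKHom F Q K P) (hψ : ψ ∈ normKHom F Q K R) (h : ∀ x : P, φ x ∈ R) :
    ψ.comp (φ.codRestrict R h) ∈ normKHom F Q K P := by
  obtain ⟨hφ, hPN, hφN, φ', hφ', hφ'φ, κ₁, hκ₁, hφ'Q⟩ := hφ
  obtain ⟨hψ, hRN, hψN, ψ', hψ', hψ'ψ, κ₂, hκ₂, hψ'Q⟩ := hψ
  have h' : ∀ x : ↥(P ⊔ Q), φ' x ∈ R ⊔ Q := by
    apply sup_forall_mem
    · intro x
      rw [hφ'φ]
      exact (le_sup_left : R ≤ R ⊔ Q) (h x)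
    · intro q
      rw [hφ'Q]
      exact (le_sup_right : Q ≤ R ⊔ Q) (κ₁ q).2
  refine ⟨F.comp_mem hφ hψ h, hPN, fun x => hψN _, ψ'.comp (φ'.codRestrict (R ⊔ Q) h'),
    F.comp_mem hφ' hψ' h', ?_, κ₂ * κ₁, K.mul_mem hκ₂ hκ₁, ?_⟩
  · intro x
    show ψ' ⟨φ' (Subgroup.inclusion le_sup_left x), _⟩ = ψ ⟨φ x, h x⟩
    rw [← hψ'ψ]
    congr 1
    apply Subtype.ext
    exact hφ'φ x
  · intro x
    show ψ' ⟨φ' (Subgroup.inclusion le_sup_right x), _⟩ = (((κ₂ * κ₁) x : Q) : Ω)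
    rw [MulAut.mul_apply, ← hψ'Q]
    congr 1
    apply Subtype.ext
    exact hφ'Q x

theorem normK_inv_mem_aux (F : FusionSystem S) (Q : Subgroup Ω) (K : Subgroup (MulAut Q))
    {P : Subgroup Ω} {φ : P →* Ω} (hφ : φ ∈ normKHom F Q K P) :
    ∃ ψ ∈ normKHom F Q K φ.range, ∀ x : P, ψ ⟨φ x, ⟨x, rfl⟩⟩ = (x : Ω) := by
  obtain ⟨hφ, hPN, hφN, φ', hφ', hφ'φ, κ, hκ, hφ'κ⟩ := hφ
  have hφ'Q : (Q.subgroupOf (P ⊔ Q)).map φ' = Q := map_eq_of_kappa φ' κ hφ'κ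
  obtain ⟨χ, hχ, hχφ'⟩ := F.inv_mem hφ'
  have hrange : φ.range ⊔ Q ≤ φ'.range := by
    rw [sup_range_eq φ', sup_map_left_eq_range φ' φ hφ'φ, hφ'Q]
  have hχ' : χ.comp (Subgroup.inclusion hrange) ∈ F.Hom (φ.range ⊔ Q) := fs_restrict_mem F hχ hrange
  have hψ : (χ.comp (Subgroup.inclusion hrange)).comp (Subgroup.inclusion le_sup_left) ∈ F.Hom φ.range :=
    fs_restrict_mem F hχ' le_sup_left
  have hval : ∀ x : P, (χ.comp (Subgroup.inclusion hrange)).comp (Subgroup.inclusion le_sup_left)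
      ⟨φ x, ⟨x, rfl⟩⟩ = (x : Ω) := by
    intro x
    have h0 := hχφ' (Subgroup.inclusion le_sup_left x)
    have h1 : ((Subgroup.inclusion (le_sup_left : P ≤ P ⊔ Q) x : ↥(P ⊔ Q)) : Ω) = x := rfl
    rw [h1] at h0
    rw [← h0]
    show χ _ = χ _
    congr 1
    apply Subtype.ext
    exact (hφ'φ x).symm
  refine ⟨_, ⟨hψ, ?_, ?_, χ.comp (Subgroup.inclusion hrange), hχ', fun x => rfl, κ⁻¹, K.inv_mem hκ, ?_⟩, hval⟩
  · rintro _ ⟨x, rfl⟩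
    exact hφN x
  · rintro ⟨_, x, rfl⟩
    rw [hval x]
    exact hPN x.2
  · intro y
    have h0 := hχφ' (Subgroup.inclusion le_sup_right (κ⁻¹ y))
    have h1 : ((Subgroup.inclusion (le_sup_right : Q ≤ P ⊔ Q) (κ⁻¹ y) : ↥(P ⊔ Q)) : Ω) = ((κ⁻¹ y : Q) : Ω) := rfl
    rw [h1] at h0
    rw [← h0]
    show χ _ = χ _
    congr 1
    apply Subtype.ext
    show (y : Ω) = φ' (Subgroup.inclusion le_sup_right (κ⁻¹ y))
    rw [hφ'κ]
    simp

/-- The `K`-normalizer system `N_F^K(Q)` is a fusion system over `N_S^K(Q)`. -/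
theorem exists_normKSystem (F : FusionSystem S) (Q : Subgroup Ω) (hQ : Q ≤ S) (K : Subgroup (MulAut Q)) :
    ∃ E : FusionSystem (normK S Q K), ∀ P : Subgroup Ω, E.Hom P = normKHom F Q K P := by
  refine ⟨{ Hom := fun P => normKHom F Q K P
            le_of_mem := ?_
            injective_of_mem := ?_
            conj_mem := ?_
            comp_mem := ?_
            inv_mem := ?_ }, fun P => rfl⟩
  · rintro P φ ⟨-, hPN, hφN, -⟩
    exact ⟨hPN, hφN⟩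
  · rintro P φ ⟨hφ, -⟩
    exact F.injective_of_mem hφ
  · intro P g hP hg
    exact normK_conj_mem_aux F Q hQ K hP hg
  · intro P R φ ψ hφ hψ h
    exact normK_comp_mem_aux F Q K hφ hψ h
  · intro P φ hφ
    exact normK_inv_mem_aux F Q K hφ

end Cfsg.Agent.H9ZW
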