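import Mathlib
import Cfsg.Prelude.Def_FusionSystem
import Cfsg.Agent.Lib.Helper9.ZW2
import Cfsg.Agent.Lib.Helper9.KNorm13
import Cfsg.Agent.Lib.Helper9.FusionNormal1

set_option autoImplicit false

/-!
# Glauberman functors (part 3): the system `S C_F(Q)` for `Q` normal in `S`
-/

namespace Cfsg.Agent.H9ZW

open Cfsg Cfsg.FusionSystem Cfsg.Agent.Lib.Helper9

variable {Ω : Type*} [Group Ω] {S : Subgroup Ω}

theorem normK_autInducedBy_eq (S Q : Subgroup Ω) (hSQ : S ≤ Subgroup.normalizer (Q : Set Ω)) :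
    normK S Q (autInducedBy S Q) = S := by
  apply le_antisymm (normK_le S Q _)
  intro g hg
  refine ⟨hg, conjAut Q g (hSQ hg), ?_, fun x => rfl⟩
  rw [mem_autInducedBy_iff]
  exact ⟨g, hg, fun x => rfl⟩

/-- A map of `F` on an overgroup `P` of `Q` inducing an element of `K` on `Q` is a map of `N_F^K(Q)`. -/
theorem mem_normKHom_of_le (F : FusionSystem S) {Q P : Subgroup Ω} (K : Subgroup (MulAut Q)) (hQP : Q ≤ P)
    {φ : P →* Ω} (hφ : φ ∈ F.Hom P) (hP : P ≤ normK S Q K) (hval : ∀ x : P, φ x ∈ normK S Q K)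
    (κ : MulAut Q) (hκ : κ ∈ K) (h : ∀ x : Q, φ (Subgroup.inclusion hQP x) = ((κ x : Q) : Ω)) :
    φ ∈ normKHom F Q K P := by
  have hle : P ⊔ Q ≤ P := sup_le le_rfl hQP
  refine ⟨hφ, hP, hval, φ.comp (Subgroup.inclusion hle), fs_restrict_mem F hφ hle, fun x => ?_, κ, hκ, fun x => ?_⟩
  · show φ _ = φ x
    congr 1
  · rw [← h x]
    show φ _ = φ _
    congr 1

/-- The system `S C_F(Q)` over `S`. -/
theorem exists_SC_system (F : FusionSystem S) (Q : Subgroup Ω) (hQ : Q ≤ S)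
    (hSQ : S ≤ Subgroup.normalizer (Q : Set Ω)) :
    ∃ D : FusionSystem S, ∀ P : Subgroup Ω, D.Hom P = normKHom F Q (autInducedBy S Q) P := by
  obtain ⟨D₀, hD₀⟩ := exists_normKSystem F Q hQ (autInducedBy S Q)
  obtain ⟨D, hD⟩ := fs_cast_system (normK_autInducedBy_eq S Q hSQ) D₀
  exact ⟨D, fun P => (hD P).trans (hD₀ P)⟩

theorem fullyNormalized_of_le_normalizer [Finite S] (F : FusionSystem S) {Q : Subgroup Ω} (hQ : Q ≤ S)
    (hSQ : S ≤ Subgroup.normalizer (Q : Set Ω)) : F.IsFullyNormalized Q := by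
  refine ⟨hQ, fun Q' _ => ?_⟩
  have h1 : normalizerIn S Q = S := le_antisymm inf_le_left (le_inf le_rfl hSQ)
  rw [h1]
  exact fs_card_le_of_le (fs_normalizerIn_le S Q')

theorem SC_saturated [Finite S] (p : ℕ) [Fact p.Prime] (hS : IsPGroup p S) (F : FusionSystem S)
    (hF : F.IsSaturated p) {Q : Subgroup Ω} (hQ : Q ≤ S) (hSQ : S ≤ Subgroup.normalizer (Q : Set Ω))
    (D : FusionSystem S) (hD : ∀ P : Subgroup Ω, D.Hom P = normKHom F Q (autInducedBy S Q) P) :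
    D.IsSaturated p := by
  have hfn := fullyNormalized_of_le_normalizer F hQ hSQ
  have hfc := (fs_sylow_axiom p hS F hF hfn).1
  have hrec := fs_extension_axiom p hS F hF hfc
  have hKle : autInducedBy S Q ≤ F.autGroup Q := autInducedBy_le_autGroup F hQ
  have hgood : IsGoodK F p Q (autInducedBy S Q) := by
    refine ⟨hrec, ?_⟩
    rw [inf_idem, inf_eq_right.mpr hKle]
    refine ⟨le_refl _, isPGroup_autInducedBy p hS Q, ?_⟩
    rw [Subgroup.relIndex_self]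
    exact (Fact.out : p.Prime).one_lt.ne' ∘ Nat.dvd_one.mp
  exact normK_saturated p hS F hF (autInducedBy S Q) hgood (normK_autInducedBy_eq S Q hSQ).symm D hD

theorem SC_le (F : FusionSystem S) {Q : Subgroup Ω} (D : FusionSystem S)
    (hD : ∀ P : Subgroup Ω, D.Hom P = normKHom F Q (autInducedBy S Q) P) (P : Subgroup Ω) :
    D.Hom P ⊆ F.Hom P := by
  intro φ hφ
  rw [hD] at hφ
  exact hφ.1

theorem SC_isNormal (F : FusionSystem S) {Q : Subgroup Ω} (hQ : Q ≤ S)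
    (hSQ : S ≤ Subgroup.normalizer (Q : Set Ω)) (D : FusionSystem S)
    (hD : ∀ P : Subgroup Ω, D.Hom P = normKHom F Q (autInducedBy S Q) P) : D.IsNormal Q := by
  have hK := normK_autInducedBy_eq S Q hSQ
  refine ⟨hQ, fun P φ hφ => ?_⟩
  rw [hD] at hφ
  obtain ⟨hφF, hPN, hφN, ψ, hψ, hψP, κ, hκ, hψQ⟩ := hφ
  refine ⟨ψ, ?_, hψP, map_eq_of_kappa ψ κ hψQ⟩
  rw [hD]
  have hPS : P ≤ S := (F.le_of_mem hφF).1
  refine mem_normKHom_of_le F _ le_sup_right hψ ?_ ?_ κ hκ hψQ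
  · rw [hK]; exact sup_le hPS hQ
  · intro x; rw [hK]; exact (F.le_of_mem hψ).2 x

theorem SC_autGroup_le (F : FusionSystem S) {Q : Subgroup Ω} (hQ : Q ≤ S) (D : FusionSystem S)
    (hD : ∀ P : Subgroup Ω, D.Hom P = normKHom F Q (autInducedBy S Q) P) :
    D.autGroup Q ≤ autInducedBy S Q := by
  intro α hα
  rw [mem_autGroup_iff D hQ, hD] at hα
  obtain ⟨-, -, -, ψ, -, hψP, κ, hκ, hψQ⟩ := hα
  have : α = κ := by
    ext x
    have h1 := hψP x
    have h2 := hψQ x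
    have h3 : (Subgroup.inclusion (le_sup_left : Q ≤ Q ⊔ Q) x) = Subgroup.inclusion (le_sup_right : Q ≤ Q ⊔ Q) x :=
      Subtype.ext rfl
    rw [h3, h2] at h1
    exact h1.symm
  rw [this]
  exact hκ

/-- A map of `F` on an overgroup of `Q` which is the identity on `Q` is a map of `S C_F(Q)`. -/
theorem SC_mem_of_id (F : FusionSystem S) {Q P : Subgroup Ω}
    (hSQ : S ≤ Subgroup.normalizer (Q : Set Ω)) (D : FusionSystem S)
    (hD : ∀ P : Subgroup Ω, D.Hom P = normKHom F Q (autInducedBy S Q) P) (hQP : Q ≤ P)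
    {φ : P →* Ω} (hφ : φ ∈ F.Hom P) (hid : ∀ x : Q, φ (Subgroup.inclusion hQP x) = (x : Ω)) :
    φ ∈ D.Hom P := by
  have hK := normK_autInducedBy_eq S Q hSQ
  rw [hD]
  refine mem_normKHom_of_le F _ hQP hφ ?_ ?_ 1 (Subgroup.one_mem _) (fun x => ?_)
  · rw [hK]; exact (F.le_of_mem hφ).1
  · intro x; rw [hK]; exact (F.le_of_mem hφ).2 x
  · rw [hid x]; rfl

end Cfsg.Agent.H9ZW
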