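import Mathlib
import Cfsg.Prelude.Def_FusionSystem
import Cfsg.Prelude.Def_FusionReduction
import Cfsg.Prelude.Def_LocalEven
import Cfsg.Agent.Lib.Helper9.KNorm3
import Cfsg.Agent.Lib.Helper9.KL7

set_option autoImplicit false

/-!
# Glauberman functors (part 1): the subgroup `W(R)` of a subgroup `R`, invariance
-/

namespace Cfsg.Agent.H9ZW

open Cfsg Cfsg.FusionSystem Cfsg.Agent.Lib.Helper9

universe u w

/-- `W` is a Glauberman functor relative to the group `H` (for the prime `p`). -/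
structure IsGF (p : ℕ) (H : Type w) [Group H] (W : ∀ (Q : Type u) [Group Q], Subgroup Q) : Prop where
  ne_bot : ∀ (Q : Type u) [Group Q] [Finite Q], IsPGroup p Q → Nontrivial Q → W Q ≠ ⊥
  map_eq : ∀ (Q R : Type u) [Group Q] [Group R] [Finite Q], IsPGroup p Q → ∀ φ : Q ≃* R,
    (W Q).map φ.toMonoidHom = W R
  normal : ∀ (L : Type u) [Group L] [Finite L] (P : Sylow p L),
    Subgroup.centralizer ((Cfsg.pCore p L : Subgroup L) : Set L) =
      Cfsg.pCore p L ⊓ Subgroup.centralizer ((Cfsg.pCore p L : Subgroup L) : Set L) →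
    ¬ Cfsg.Involves H L → (((W ↥(P : Subgroup L)).map (P : Subgroup L).subtype : Subgroup L)).Normal

/-- `W(R)` as a subgroup of the ambient group. -/
def Wof (W : ∀ (Q : Type u) [Group Q], Subgroup Q) {Ω : Type u} [Group Ω] (R : Subgroup Ω) : Subgroup Ω :=
  (W ↥R).map R.subtype

variable {p : ℕ} {H : Type w} [Group H] {W : ∀ (Q : Type u) [Group Q], Subgroup Q}

theorem Wof_le (W : ∀ (Q : Type u) [Group Q], Subgroup Q) {Ω : Type u} [Group Ω] (R : Subgroup Ω) :
    Wof W R ≤ R := by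
  rintro _ ⟨x, -, rfl⟩
  exact x.2

theorem mem_Wof_iff (W : ∀ (Q : Type u) [Group Q], Subgroup Q) {Ω : Type u} [Group Ω] (R : Subgroup Ω) (x : R) :
    (x : Ω) ∈ Wof W R ↔ x ∈ W ↥R := by
  constructor
  · rintro ⟨y, hy, hyx⟩
    have : y = x := Subtype.ext hyx
    rwa [← this]
  · intro h
    exact ⟨x, h, rfl⟩

theorem Wof_congr (W : ∀ (Q : Type u) [Group Q], Subgroup Q) {Ω : Type u} [Group Ω] {R R' : Subgroup Ω}
    (h : R = R') : Wof W R = Wof W R' := by
  subst h; rfl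

/-- Invariance under isomorphisms. -/
theorem Wof_equiv (hW : IsGF p H W) {Ω Ω' : Type u} [Group Ω] [Group Ω'] {R : Subgroup Ω} {R' : Subgroup Ω'}
    [Finite R] (hR : IsPGroup p R) (e : R ≃* R') (x : R) :
    ((e x : R') : Ω') ∈ Wof W R' ↔ (x : Ω) ∈ Wof W R := by
  rw [mem_Wof_iff, mem_Wof_iff, ← hW.map_eq R R' hR e]
  constructor
  · rintro ⟨y, hy, hyx⟩
    have : y = x := e.injective hyx
    rwa [← this]
  · intro h
    exact ⟨x, h, rfl⟩

theorem Wof_ne_bot [hp : Fact p.Prime] (hW : IsGF p H W) {Ω : Type u} [Group Ω] {R : Subgroup Ω} [Finite R]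
    (hR : IsPGroup p R) (hne : R ≠ ⊥) : Wof W R ≠ ⊥ := by
  have h1 : W ↥R ≠ ⊥ := hW.ne_bot R hR ((Subgroup.nontrivial_iff_ne_bot R).mpr hne)
  intro h
  apply h1
  exact (Subgroup.map_eq_bot_iff_of_injective _ R.subtype_injective).mp h

/-- `W(R)` is normalized by the normalizer of `R`. -/
theorem normalizer_le_normalizer_Wof (hW : IsGF p H W) {Ω : Type u} [Group Ω] {R : Subgroup Ω} [Finite R]
    (hR : IsPGroup p R) : Subgroup.normalizer (R : Set Ω) ≤ Subgroup.normalizer (Wof W R : Set Ω) := by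
  apply Cfsg.Agent.H9KL.le_normalizer_of_forall_conj_mem
  intro g hg y hy
  have hyR : y ∈ R := Wof_le W R hy
  have h1 := (Wof_equiv hW hR (conjAut R g hg) ⟨y, hyR⟩).mpr hy
  exact h1

/-- Invariance under injective homomorphisms: membership form. -/
theorem Wof_range_iff (hW : IsGF p H W) {Ω Ω' : Type u} [Group Ω] [Group Ω'] {R : Subgroup Ω} [Finite R]
    (hR : IsPGroup p R) (φ : R →* Ω') (hφ : Function.Injective φ) (x : R) :
    φ x ∈ Wof W φ.range ↔ (x : Ω) ∈ Wof W R :=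
  Wof_equiv hW hR (MonoidHom.ofInjective hφ) x

/-- Invariance under injective homomorphisms onto a given subgroup. -/
theorem Wof_hom_iff (hW : IsGF p H W) {Ω Ω' : Type u} [Group Ω] [Group Ω'] {R : Subgroup Ω} [Finite R]
    (hR : IsPGroup p R) (φ : R →* Ω') (hφ : Function.Injective φ) {R' : Subgroup Ω'} (hr : φ.range = R')
    (x : R) : φ x ∈ Wof W R' ↔ (x : Ω) ∈ Wof W R := by
  subst hr
  exact Wof_range_iff hW hR φ hφ x

end Cfsg.Agent.H9ZW
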