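import Mathlib
import Cfsg.Prelude.Def_FusionSystem
import Cfsg.Prelude.Def_FusionReduction
import Cfsg.Agent.Lib.Helper9.ZW1
import Cfsg.Agent.Lib.Helper9.FusionBasic
import Cfsg.Agent.S5096

set_option autoImplicit false

/-!
# Control of weak closure of elements (part 1): systems fixing a subgroup elementwise
-/

namespace Cfsg.Agent.H9ZW

open Cfsg Cfsg.FusionSystem Cfsg.Agent.Lib.Helper9

universe u

/-- Every group involves the trivial group. -/
theorem involves_punit (L : Type u) [Group L] : Cfsg.Involves PUnit.{1} L := by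
  haveI : ((⊤ : Subgroup L).subgroupOf ⊤).Normal := by
    rw [Subgroup.subgroupOf_self]
    infer_instance
  refine ⟨⊤, ⊤, inferInstance, ⟨?_⟩⟩
  haveI : Subsingleton (↥(⊤ : Subgroup L) ⧸ (⊤ : Subgroup L).subgroupOf ⊤) := by
    rw [Subgroup.subgroupOf_self]
    exact QuotientGroup.subsingleton_quotient_top
  exact
    { toFun := fun _ => PUnit.unit
      invFun := fun _ => 1
      left_inv := fun _ => Subsingleton.elim _ _
      right_inv := fun _ => rfl
      map_mul' := fun _ _ => rfl }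

/-- A positive characteristic functor is a Glauberman functor relative to the trivial group (vacuously). -/
theorem isGF_punit {p : ℕ} {W : ∀ (Q : Type u) [Group Q], Subgroup Q}
    (hW1 : ∀ (Q : Type u) [Group Q] [Finite Q], IsPGroup p Q → Nontrivial Q → W Q ≠ ⊥)
    (hW2 : ∀ (Q R : Type u) [Group Q] [Group R] [Finite Q], IsPGroup p Q → ∀ φ : Q ≃* R,
      (W Q).map φ.toMonoidHom = W R) : IsGF p PUnit.{1} W :=
  ⟨hW1, hW2, fun L _ _ _ _ h => absurd (involves_punit L) h⟩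

variable {Ω : Type*} [Group Ω] {S : Subgroup Ω}

/-- Every map of the system fixes the elements of `Z` lying in its source. -/
def Fixes (F : FusionSystem S) (Z : Subgroup Ω) : Prop :=
  ∀ (P : Subgroup Ω) (φ : P →* Ω), φ ∈ F.Hom P → ∀ x : P, (x : Ω) ∈ Z → φ x = x

/-- Every map of `N_F(Y)` fixes the elements of `Z` lying in its source. -/
def FixesN (F : FusionSystem S) (Y Z : Subgroup Ω) : Prop :=
  ∀ (P : Subgroup Ω) (φ : P →* Ω), φ ∈ F.normalizerHom Y P → ∀ x : P, (x : Ω) ∈ Z → φ x = x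

/-- If every map fixes the elements of `Z`, an element mapped into `Z` is also fixed. -/
theorem Fixes.both {F : FusionSystem S} {Z : Subgroup Ω} (h : Fixes F Z) {P : Subgroup Ω} {φ : P →* Ω}
    (hφ : φ ∈ F.Hom P) (x : P) (hx : (x : Ω) ∈ Z ∨ φ x ∈ Z) : φ x = x := by
  rcases hx with hx | hx
  · exact h P φ hφ x hx
  · obtain ⟨ψ, hψ, H⟩ := F.inv_mem hφ
    have h1 := h _ ψ hψ ⟨φ x, ⟨x, rfl⟩⟩ hx
    rw [H x] at h1
    exact h1.symm

theorem Fixes.mono {F E : FusionSystem S} {Z : Subgroup Ω} (h : Fixes F Z)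
    (hle : ∀ P : Subgroup Ω, E.Hom P ⊆ F.Hom P) : Fixes E Z :=
  fun P φ hφ x hx => h P φ (hle P hφ) x hx

/-- The subsystem of the maps fixing the elements of `Z` (a subgroup central in `S`). -/
def fixSystem (F : FusionSystem S) (Z : Subgroup Ω) (hZ : ∀ z ∈ Z, ∀ s ∈ S, s * z * s⁻¹ = z) :
    FusionSystem S where
  Hom P := {φ | φ ∈ F.Hom P ∧ ∀ x : P, ((x : Ω) ∈ Z ∨ φ x ∈ Z) → φ x = x}
  le_of_mem h := F.le_of_mem h.1
  injective_of_mem h := F.injective_of_mem h.1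
  conj_mem := by
    intro P g hP hg
    refine ⟨F.conj_mem hP hg, fun x hx => ?_⟩
    have hval : conjHom P g x = g * (x : Ω) * g⁻¹ := rfl
    rcases hx with hx | hx
    · rw [hval]
      exact hZ _ hx g hg
    · rw [hval] at hx ⊢
      have h1 := hZ _ hx g⁻¹ (S.inv_mem hg)
      have h2 : g⁻¹ * (g * (x : Ω) * g⁻¹) * g⁻¹⁻¹ = (x : Ω) := by group
      rw [h2] at h1
      exact h1.symm
  comp_mem := by
    intro P Q φ ψ hφ hψ h
    refine ⟨F.comp_mem hφ.1 hψ.1 h, fun x hx => ?_⟩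
    have hval : (ψ.comp (φ.codRestrict Q h)) x = ψ ⟨φ x, h x⟩ := rfl
    rw [hval] at hx ⊢
    rcases hx with hx | hx
    · have h1 := hφ.2 x (Or.inl hx)
      have h3 : ((⟨φ x, h x⟩ : Q) : Ω) ∈ Z := by
        show φ x ∈ Z
        rw [h1]; exact hx
      have h2 := hψ.2 ⟨φ x, h x⟩ (Or.inl h3)
      rw [h2]
      exact h1
    · have h2 := hψ.2 ⟨φ x, h x⟩ (Or.inr hx)
      rw [h2] at hx ⊢
      exact hφ.2 x (Or.inr hx)
  inv_mem := by
    intro P φ hφ
    obtain ⟨ψ, hψ, H⟩ := F.inv_mem hφ.1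
    refine ⟨ψ, ⟨hψ, ?_⟩, H⟩
    rintro ⟨_, x, rfl⟩ hx
    rw [H x] at hx ⊢
    have h1 := hφ.2 x (hx.symm)
    exact h1.symm

theorem fixSystem_hom (F : FusionSystem S) (Z : Subgroup Ω) (hZ : ∀ z ∈ Z, ∀ s ∈ S, s * z * s⁻¹ = z)
    (P : Subgroup Ω) :
    (fixSystem F Z hZ).Hom P = {φ | φ ∈ F.Hom P ∧ ∀ x : P, ((x : Ω) ∈ Z ∨ φ x ∈ Z) → φ x = x} := rfl

/-- Monotonicity of the maps of the normalizer system in the system. -/
theorem normalizerHom_mono {T : Subgroup Ω} (hTS : T ≤ S) (E : FusionSystem T) (F : FusionSystem S)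
    (hle : ∀ P : Subgroup Ω, E.Hom P ⊆ F.Hom P) (Y P : Subgroup Ω) :
    E.normalizerHom Y P ⊆ F.normalizerHom Y P := by
  rintro φ ⟨hφ, hP, hval, ψ, hψ, hψP, hψY⟩
  have hNN : normalizerIn T Y ≤ normalizerIn S Y := fun x hx => ⟨hTS hx.1, hx.2⟩
  exact ⟨hle P hφ, hP.trans hNN, fun x => hNN (hval x), ψ, hle _ hψ, hψP, hψY⟩

theorem FixesN.mono {T : Subgroup Ω} (hTS : T ≤ S) {E : FusionSystem T} {F : FusionSystem S}
    {Y Z : Subgroup Ω} (h : FixesN F Y Z) (hle : ∀ P : Subgroup Ω, E.Hom P ⊆ F.Hom P) : FixesN E Y Z :=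
  fun P φ hφ x hx => h P φ (normalizerHom_mono hTS E F hle Y P hφ) x hx

/-- The elements of `Z ∩ N_S(Y)` are centralized by `N_S(Y)` if the maps of `N_F(Y)` fix `Z`. -/
theorem FixesN.central [Finite S] {F : FusionSystem S} {Y Z : Subgroup Ω} (h : FixesN F Y Z) (hY : Y ≤ S)
    {z : Ω} (hz : z ∈ Z) (hzN : z ∈ normalizerIn S Y) {s : Ω} (hs : s ∈ normalizerIn S Y) :
    s * z * s⁻¹ = z := by
  obtain ⟨E, hE⟩ := Cfsg.Agent.S5096.result F Y hY
  have hle : Subgroup.zpowers z ≤ normalizerIn S Y := by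
    rw [Subgroup.zpowers_le]; exact hzN
  have h1 : conjHom (Subgroup.zpowers z) s ∈ E.Hom (Subgroup.zpowers z) := E.conj_mem hle hs
  rw [hE] at h1
  exact h _ _ h1 ⟨z, Subgroup.mem_zpowers z⟩ hz

end Cfsg.Agent.H9ZW
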