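import Mathlib
import Cfsg.Prelude.Def_FusionSystem
import Cfsg.Agent.Lib.Helper9.FusionAut
import Cfsg.Agent.Lib.Helper9.FusionAut2

set_option autoImplicit false

/-!
# Glauberman–Thompson for fusion systems (part 1): `p'`-parts, the predicate `Bad`
-/

namespace Cfsg.Agent.H9ZJ

open Cfsg Cfsg.FusionSystem Cfsg.Agent.Lib.Helper9

/-- the `p'`-part exponent: `g ^ (p ^ a)` has order prime to `p`. -/
theorem exists_pow_coprime (p : ℕ) [hp : Fact p.Prime] {A : Type*} [Group A] (g : A) (hg : IsOfFinOrder g) :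
    ∃ a : ℕ, (orderOf (g ^ (p ^ a))).Coprime p := by
  refine ⟨(orderOf g).factorization p, ?_⟩
  have h0 : orderOf g ≠ 0 := (orderOf_pos_iff.mpr hg).ne'
  rw [orderOf_pow' g (pow_ne_zero _ hp.out.ne_zero)]
  have hdvd : p ^ (orderOf g).factorization p ∣ orderOf g := Nat.ordProj_dvd _ _
  rw [Nat.gcd_eq_right hdvd]
  exact (Nat.coprime_ordCompl hp.out h0).symm

theorem pow_ne_one_of_coprime (p : ℕ) {B : Type*} [Group B] (h : B) (h1 : h ≠ 1)
    (hc : (orderOf h).Coprime p) (a : ℕ) : h ^ (p ^ a) ≠ 1 := by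
  intro hh
  have h2 : orderOf h ∣ p ^ a := orderOf_dvd_of_pow_eq_one hh
  have h3 : (orderOf h).Coprime (p ^ a) := Nat.Coprime.pow_right a hc
  have h4 : orderOf h = 1 := Nat.Coprime.eq_one_of_dvd h3 h2
  exact h1 (orderOf_eq_one_iff.mp h4)

variable {Ω : Type*} [Group Ω] {S : Subgroup Ω}

/-- `Q` is *bad*: some nontrivial `p'`-automorphism in the system of a subgroup `P` with `Q ≤ P ≤ N_S(Q)`
normalizes `Q` (so that `N_F(Q)` is not the inner system). -/
def Bad (p : ℕ) (F : FusionSystem S) (Q : Subgroup Ω) : Prop :=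
  ∃ P : Subgroup Ω, Q ≤ P ∧ P ≤ normalizerIn S Q ∧ ∃ α ∈ F.autGroup P,
    (∀ x : P, (x : Ω) ∈ Q → ((α x : P) : Ω) ∈ Q) ∧ α ≠ 1 ∧ (orderOf α).Coprime p

theorem Bad.le {p : ℕ} {F : FusionSystem S} {Q : Subgroup Ω} (h : Bad p F Q) : Q ≤ S := by
  obtain ⟨P, hQP, hPN, -⟩ := h
  exact hQP.trans (hPN.trans inf_le_left)

/-- If `Aut_F(P)` is not a `p`-group then `P` is bad (and nontrivial). -/
theorem bad_of_not_isPGroup [Finite S] (p : ℕ) [hp : Fact p.Prime] (F : FusionSystem S) {P : Subgroup Ω}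
    (hP : P ≤ S) (h : ¬ IsPGroup p (F.autGroup P)) : P ≠ ⊥ ∧ Bad p F P := by
  haveI : Finite P := Finite.of_injective (Subgroup.inclusion hP) (Subgroup.inclusion_injective hP)
  haveI : Finite (MulAut P) := Finite.of_injective (fun e : MulAut P => (e : P → P)) DFunLike.coe_injective
  unfold IsPGroup at h
  push Not at h
  obtain ⟨g, hg⟩ := h
  obtain ⟨a, ha⟩ := exists_pow_coprime p g (isOfFinOrder_of_finite g)
  have hne : g ^ (p ^ a) ≠ 1 := hg a
  have hbad : Bad p F P := by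
    refine ⟨P, le_rfl, fun x hx => ⟨hP hx, Subgroup.le_normalizer hx⟩, ((g ^ (p ^ a) : F.autGroup P) : MulAut P),
      (g ^ (p ^ a)).2, fun x _ => (((g ^ (p ^ a) : F.autGroup P) : MulAut P) x).2, ?_, ?_⟩
    · intro h1
      apply hne
      exact Subtype.ext h1
    · rw [Subgroup.orderOf_coe]
      exact ha
  refine ⟨?_, hbad⟩
  rintro rfl
  apply hne
  apply Subtype.ext
  ext x
  have hx : x = 1 := Subsingleton.elim _ _
  rw [hx]
  simp

end Cfsg.Agent.H9ZJ
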