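import Mathlib
import Cfsg.Prelude.Def_FusionSystem
import Cfsg.Agent.Lib.Helper9.ZJF1
import Cfsg.Agent.Lib.Helper9.FusionTransport
import Cfsg.Agent.Lib.Helper9.FusionNormMap
import Cfsg.Agent.Lib.Helper9.FusionSat1
import Cfsg.Agent.Lib.Helper9.FusionSat2
import Cfsg.Agent.Lib.Helper9.FusionSat3

set_option autoImplicit false

/-!
# Glauberman–Thompson for fusion systems (part 2): transporting `Bad` to fully normalized conjugates
-/

namespace Cfsg.Agent.H9ZJ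

open Cfsg Cfsg.FusionSystem Cfsg.Agent.Lib.Helper9

variable {Ω : Type*} [Group Ω] {S : Subgroup Ω}

theorem bad_transport {p : ℕ} (F : FusionSystem S) {Q Q' : Subgroup Ω} (hbad : Bad p F Q)
    {ψ : normalizerIn S Q →* Ω} (hψ : ψ ∈ F.Hom (normalizerIn S Q))
    (hψN : ∀ x, ψ x ∈ normalizerIn S Q') (hψQ : (Q.subgroupOf (normalizerIn S Q)).map ψ = Q') :
    Bad p F Q' := by
  obtain ⟨P, hQP, hPN, α, hα, hαQ, hα1, hαc⟩ := hbad
  have hψP := fs_restrict_mem F hψ hPN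
  obtain ⟨ψP, hψPdef⟩ : ∃ ψP : P →* Ω, ψP = ψ.comp (Subgroup.inclusion hPN) := ⟨_, rfl⟩
  rw [← hψPdef] at hψP
  have hψPapp : ∀ x : P, ψP x = ψ ⟨x, hPN x.2⟩ := by
    intro x; rw [hψPdef]; rfl
  have hinj : Function.Injective ψ := F.injective_of_mem hψ
  -- membership in Q' versus Q
  have hmemQ' : ∀ x : P, ψP x ∈ Q' ↔ (x : Ω) ∈ Q := by
    intro x
    constructor
    · intro hx
      rw [← hψQ] at hx
      obtain ⟨y, hy, hyx⟩ := hx
      rw [hψPapp] at hyx
      have := hinj hyx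
      have hyQ : (y : Ω) ∈ Q := hy
      rw [this] at hyQ
      exact hyQ
    · intro hx
      rw [← hψQ, hψPapp]
      exact ⟨⟨x, hPN x.2⟩, hx, rfl⟩
  refine ⟨ψP.range, ?_, ?_, MulAut.congr (fsEquiv F hψP) α, congr_mem_autGroup F hψP α hα, ?_, ?_, ?_⟩
  · intro y hy
    rw [← hψQ] at hy
    obtain ⟨q, hq, rfl⟩ := hy
    have hqQ : (q : Ω) ∈ Q := hq
    refine ⟨⟨q, hQP hqQ⟩, ?_⟩
    rw [hψPapp]
  · rintro _ ⟨x, rfl⟩
    rw [hψPapp]
    exact hψN _
  · intro y hy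
    obtain ⟨x, hx⟩ : ∃ x : P, fsEquiv F hψP x = y := (fsEquiv F hψP).surjective y
    subst hx
    have h1 : (MulAut.congr (fsEquiv F hψP) α) (fsEquiv F hψP x) = fsEquiv F hψP (α x) := by
      show fsEquiv F hψP (α ((fsEquiv F hψP).symm (fsEquiv F hψP x))) = _
      rw [MulEquiv.symm_apply_apply]
    rw [h1, fsEquiv_apply, hmemQ']
    rw [fsEquiv_apply, hmemQ'] at hy
    exact hαQ x hy
  · intro h1
    apply hα1
    exact (MulEquiv.map_eq_one_iff (MulAut.congr (fsEquiv F hψP))).mp h1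
  · rw [MulEquiv.orderOf_eq]
    exact hαc

/-- A bad subgroup has a fully normalized bad conjugate, with normalizer at least as large. -/
theorem bad_fn_conj [Finite S] (p : ℕ) [Fact p.Prime] (hS : IsPGroup p S) (F : FusionSystem S)
    (hF : F.IsSaturated p) {Q : Subgroup Ω} (hbad : Bad p F Q) :
    ∃ Q' : Subgroup Ω, F.IsFullyNormalized Q' ∧ Bad p F Q' ∧
      Nat.card (normalizerIn S Q) ≤ Nat.card (normalizerIn S Q') ∧ Nat.card Q' = Nat.card Q := by
  have hQS : Q ≤ S := hbad.le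
  obtain ⟨Q', hconj, hfn⟩ := fs_exists_fullyNormalized F hQS
  obtain ⟨hfc, hfa⟩ := fs_sylow_axiom p hS F hF hfn
  have hrec := fs_extension_axiom p hS F hF hfc
  obtain ⟨ψ, hψ, hψN, hψQ⟩ := fs_exists_normalizer_map p hS F Q' Q hfa hrec hconj
  refine ⟨Q', hfn, bad_transport F hbad hψ hψN hψQ, ?_, ?_⟩
  · haveI : Finite (normalizerIn S Q') := fs_finite_of_le (fs_normalizerIn_le S Q')
    exact Nat.card_le_card_of_injective (fun x => (⟨ψ x, hψN x⟩ : normalizerIn S Q'))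
      (fun a b hab => F.injective_of_mem hψ (congrArg Subtype.val hab))
  · obtain ⟨φ, hφ, rfl⟩ := hconj
    exact (Nat.card_congr (fsEquiv F hφ).toEquiv).symm

end Cfsg.Agent.H9ZJ
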