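import Mathlib
import Cfsg.Prelude.Def_FusionSystem
import Cfsg.Agent.Lib.Helper9.ZJF2
import Cfsg.Agent.Lib.Helper9.FusionSup
import Cfsg.Agent.Lib.Helper9.FusionNormal1
import Cfsg.Agent.Lib.Helper9.FusionNormal4

set_option autoImplicit false

/-!
# Glauberman–Thompson for fusion systems (part 3): powers of automorphisms, `Bad` for normal subgroups
-/

namespace Cfsg.Agent.H9ZJ

open Cfsg Cfsg.FusionSystem Cfsg.Agent.Lib.Helper9

variable {Ω : Type*} [Group Ω] {S : Subgroup Ω}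

/-- powers of an automorphism restrict to powers of its restriction. -/
theorem pow_restrict {P P' : Subgroup Ω} (hPP' : P ≤ P') (α' : MulAut P') (α : MulAut P)
    (h : ∀ x : P, ((α' (Subgroup.inclusion hPP' x) : P') : Ω) = ((α x : P) : Ω)) (k : ℕ) (x : P) :
    (((α' ^ k) (Subgroup.inclusion hPP' x) : P') : Ω) = (((α ^ k) x : P) : Ω) := by
  induction k generalizing x with
  | zero => simp
  | succ k ih =>
    rw [pow_succ, pow_succ, MulAut.mul_apply, MulAut.mul_apply]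
    have h1 : α' (Subgroup.inclusion hPP' x) = Subgroup.inclusion hPP' (α x) := Subtype.ext (h x)
    rw [h1]
    exact ih (α x)

/-- powers of an automorphism preserving a subgroup preserve it. -/
theorem pow_preserve {P : Subgroup Ω} (Q : Subgroup Ω) (α : MulAut P)
    (h : ∀ x : P, (x : Ω) ∈ Q → ((α x : P) : Ω) ∈ Q) (k : ℕ) (x : P) (hx : (x : Ω) ∈ Q) :
    (((α ^ k) x : P) : Ω) ∈ Q := by
  induction k generalizing x with
  | zero => simpa using hx
  | succ k ih =>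
    rw [pow_succ, MulAut.mul_apply]
    exact ih (α x) (h x hx)

/-- `Bad` passes from a subsystem on a subgroup to the ambient system. -/
theorem bad_of_le {p : ℕ} {R : Subgroup Ω} (hRS : R ≤ S) (E : FusionSystem R) (F : FusionSystem S)
    (hEF : ∀ P : Subgroup Ω, E.Hom P ⊆ F.Hom P) {Q : Subgroup Ω} (h : Bad p E Q) : Bad p F Q := by
  obtain ⟨P, hQP, hPN, α, hα, hαQ, hα1, hαc⟩ := h
  have hPR : P ≤ R := hPN.trans inf_le_left
  refine ⟨P, hQP, fun x hx => ⟨hRS (hPN hx).1, (hPN hx).2⟩, α, ?_, hαQ, hα1, hαc⟩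
  rw [mem_autGroup_iff F (hPR.trans hRS)]
  rw [mem_autGroup_iff E hPR] at hα
  exact hEF P hα

/-- If `T` is normal in the system and some `Aut_F(P)` contains a nontrivial `p'`-element, then `T` is bad. -/
theorem bad_of_isNormal [Finite S] (p : ℕ) [hp : Fact p.Prime] (F : FusionSystem S) {T : Subgroup Ω}
    (hT : F.IsNormal T) {P : Subgroup Ω} (hP : P ≤ S) (α : MulAut P) (hα : α ∈ F.autGroup P)
    (hα1 : α ≠ 1) (hαc : (orderOf α).Coprime p) : Bad p F T := by
  have hTS := hT.1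
  rw [mem_autGroup_iff F hP] at hα
  obtain ⟨ψ, hψ, hψP, hψT⟩ := hT.2 P _ hα
  have hval : ∀ y : ↥(P ⊔ T), ψ y ∈ P ⊔ T := by
    apply sup_forall_mem ψ (P ⊔ T)
    · intro x
      rw [hψP]
      exact (le_sup_left : P ≤ P ⊔ T) (α x).2
    · intro x
      have : ψ (Subgroup.inclusion le_sup_right x) ∈ (T.subgroupOf (P ⊔ T)).map ψ :=
        ⟨Subgroup.inclusion le_sup_right x, x.2, rfl⟩
      rw [hψT] at this
      exact (le_sup_right : T ≤ P ⊔ T) this
  obtain ⟨α', hα', Hα'⟩ := fs_hom_to_aut F hψ hval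
  have hPTS : P ⊔ T ≤ S := sup_le hP hTS
  haveI : Finite ↥(P ⊔ T) := fs_finite_of_le hPTS
  haveI : Finite (MulAut ↥(P ⊔ T)) :=
    Finite.of_injective (fun e : MulAut ↥(P ⊔ T) => (e : ↥(P ⊔ T) → ↥(P ⊔ T))) DFunLike.coe_injective
  obtain ⟨a, ha⟩ := exists_pow_coprime p α' (isOfFinOrder_of_finite α')
  have hres : ∀ x : P, ((α' (Subgroup.inclusion le_sup_left x) : ↥(P ⊔ T)) : Ω) = ((α x : P) : Ω) := by
    intro x
    rw [Hα', hψP]
    rfl
  have hpresT : ∀ x : ↥(P ⊔ T), (x : Ω) ∈ T → ((α' x : ↥(P ⊔ T)) : Ω) ∈ T := by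
    intro x hx
    rw [Hα']
    have : ψ x ∈ (T.subgroupOf (P ⊔ T)).map ψ := ⟨x, hx, rfl⟩
    rw [hψT] at this
    exact this
  have hTnorm : S ≤ Subgroup.normalizer (T : Set Ω) :=
    fs_stronglyClosed_le_normalizer F (fs_stronglyClosed_of_isNormal F hT)
  refine ⟨P ⊔ T, le_sup_right, fun x hx => ⟨hPTS hx, hTnorm (hPTS hx)⟩, α' ^ (p ^ a),
    Subgroup.pow_mem _ hα' _, fun x hx => pow_preserve T α' hpresT _ x hx, ?_, ha⟩
  intro h1
  apply pow_ne_one_of_coprime p α hα1 hαc a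
  ext x
  have := pow_restrict le_sup_left α' α hres (p ^ a) x
  rw [h1] at this
  simpa using this.symm

/-- An automorphism in the system normalizing `Q`, of a subgroup between `Q` and `N_S(Q)`, belongs to
the normalizer system. -/
theorem mem_normalizer_autGroup [Finite S] (F : FusionSystem S) {Q : Subgroup Ω}
    (E : FusionSystem (normalizerIn S Q)) (hE : F.IsNormalizerSystem Q E) {P : Subgroup Ω} (hQP : Q ≤ P)
    (hPN : P ≤ normalizerIn S Q) (α : MulAut P) (hα : α ∈ F.autGroup P)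
    (hαQ : ∀ x : P, (x : Ω) ∈ Q → ((α x : P) : Ω) ∈ Q) : α ∈ E.autGroup P := by
  have hPS : P ≤ S := hPN.trans inf_le_left
  haveI : Finite P := fs_finite_of_le hPS
  rw [mem_autGroup_iff E hPN, hE]
  rw [mem_autGroup_iff F hPS] at hα
  have hle : P ⊔ Q ≤ P := sup_le le_rfl hQP
  refine ⟨hα, hPN, fun x => hPN (α x).2, _, fs_restrict_mem F hα hle, fun x => rfl, ?_⟩
  -- α maps Q onto Q
  have hsurj : ∀ y : P, (y : Ω) ∈ Q → ∃ x : P, (x : Ω) ∈ Q ∧ α x = y := by
    let f : Q.subgroupOf P → Q.subgroupOf P := fun x => ⟨α x, hαQ x x.2⟩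
    have hf : Function.Injective f := by
      intro a b hab
      have : α a = α b := congrArg Subtype.val hab
      exact Subtype.ext (α.injective this)
    have hfs : Function.Surjective f := Finite.injective_iff_surjective.mp hf
    intro y hy
    obtain ⟨x, hx⟩ := hfs ⟨y, hy⟩
    exact ⟨x, x.2, congrArg Subtype.val hx⟩
  ext y
  constructor
  · rintro ⟨x, hx, rfl⟩
    exact hαQ ⟨x, hle x.2⟩ hx
  · intro hy
    obtain ⟨x, hxQ, hxy⟩ := hsurj ⟨y, hQP hy⟩ hy
    refine ⟨⟨x, (le_sup_left : P ≤ P ⊔ Q) x.2⟩, hxQ, ?_⟩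
    show ((α x : P) : Ω) = y
    rw [hxy]

end Cfsg.Agent.H9ZJ
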