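import Mathlib
import Cfsg.Prelude.Def_FusionSystem
import Cfsg.Agent.Lib.Helper9.ZJF3

set_option autoImplicit false

/-!
# Glauberman–Thompson for fusion systems (part 4): maximal bad subgroups
-/

namespace Cfsg.Agent.H9ZJ

open Cfsg Cfsg.FusionSystem Cfsg.Agent.Lib.Helper9

variable {Ω : Type*} [Group Ω] {S : Subgroup Ω}

/-- a nonempty set with a bounded natural-valued function has a maximum. -/
theorem exists_max_nat {α : Type*} (s : Set α) (hne : s.Nonempty) (m : α → ℕ) (B : ℕ)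
    (hB : ∀ a ∈ s, m a ≤ B) : ∃ a ∈ s, ∀ b ∈ s, m b ≤ m a := by
  obtain ⟨a, ha, hmin⟩ := WellFounded.has_min (measure fun a : α => B - m a).wf s hne
  refine ⟨a, ha, fun b hb => ?_⟩
  have h1 := hmin b hb
  have h2 : ¬ (B - m b < B - m a) := h1
  have := hB a ha
  have := hB b hb
  omega

/-- `Q` is a maximal bad subgroup: fully normalized, nontrivial, bad, and maximal for `(|N_S(Q)|, |Q|)`. -/
def IsMaxBad (p : ℕ) (F : FusionSystem S) (Q : Subgroup Ω) : Prop :=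
  F.IsFullyNormalized Q ∧ Q ≠ ⊥ ∧ Bad p F Q ∧
    ∀ Q' : Subgroup Ω, F.IsFullyNormalized Q' → Q' ≠ ⊥ → Bad p F Q' →
      Nat.card (normalizerIn S Q') < Nat.card (normalizerIn S Q) ∨
        (Nat.card (normalizerIn S Q') = Nat.card (normalizerIn S Q) ∧ Nat.card Q' ≤ Nat.card Q)

theorem exists_isMaxBad [Finite S] (p : ℕ) [Fact p.Prime] (hS : IsPGroup p S) (F : FusionSystem S)
    (hF : F.IsSaturated p) {Q₀ : Subgroup Ω} (hQ₀ : Q₀ ≠ ⊥) (hbad : Bad p F Q₀) :
    ∃ Q, IsMaxBad p F Q := by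
  obtain ⟨Q₁, hfn, hbad₁, -, hcard⟩ := bad_fn_conj p hS F hF hbad
  have hQ₁ : Q₁ ≠ ⊥ := by
    rintro rfl
    apply hQ₀
    have h1 : Nat.card Q₀ = 1 := by rw [← hcard]; simp
    exact (Subgroup.card_eq_one).mp h1
  obtain ⟨n, hn⟩ : ∃ n, n = Nat.card S := ⟨_, rfl⟩
  let s : Set (Subgroup Ω) := {Q | F.IsFullyNormalized Q ∧ Q ≠ ⊥ ∧ Bad p F Q}
  have hbound : ∀ Q : Subgroup Ω, Q ≤ S → Nat.card Q ≤ n := fun Q hQ => hn ▸ fs_card_le_of_le hQ
  obtain ⟨Q, hQs, hmax⟩ := exists_max_nat s ⟨Q₁, hfn, hQ₁, hbad₁⟩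
    (fun Q => Nat.card (normalizerIn S Q) * (n + 1) + Nat.card Q) (n * (n + 1) + n) (by
      rintro Q ⟨hQfn, -, -⟩
      have h1 := hbound _ (fs_normalizerIn_le S Q)
      have h2 := hbound Q hQfn.1
      have h3 : Nat.card (normalizerIn S Q) * (n + 1) ≤ n * (n + 1) := Nat.mul_le_mul_right _ h1
      omega)
  refine ⟨Q, hQs.1, hQs.2.1, hQs.2.2, fun Q' hfn' hne' hbad' => ?_⟩
  have h1 : Nat.card (normalizerIn S Q') * (n + 1) + Nat.card Q' ≤
      Nat.card (normalizerIn S Q) * (n + 1) + Nat.card Q := hmax Q' ⟨hfn', hne', hbad'⟩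
  have h2 := hbound Q hQs.1.1
  have h3 := hbound Q' hfn'.1
  rcases lt_trichotomy (Nat.card (normalizerIn S Q')) (Nat.card (normalizerIn S Q)) with h | h | h
  · exact Or.inl h
  · refine Or.inr ⟨h, ?_⟩
    rw [h] at h1
    omega
  · exfalso
    have h4 : (Nat.card (normalizerIn S Q) + 1) * (n + 1) ≤ Nat.card (normalizerIn S Q') * (n + 1) :=
      Nat.mul_le_mul_right _ h
    have h5 : (Nat.card (normalizerIn S Q) + 1) * (n + 1) =
        Nat.card (normalizerIn S Q) * (n + 1) + (n + 1) := by ring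
    omega

/-- No bad subgroup beats a maximal one (the competitor need not be fully normalized). -/
theorem IsMaxBad.not_bad_of_lt [Finite S] {p : ℕ} [Fact p.Prime] (hS : IsPGroup p S) {F : FusionSystem S}
    (hF : F.IsSaturated p) {Q : Subgroup Ω} (hQ : IsMaxBad p F Q) {Q₁ : Subgroup Ω}
    (h : Nat.card (normalizerIn S Q) < Nat.card (normalizerIn S Q₁) ∨
      (Nat.card (normalizerIn S Q) ≤ Nat.card (normalizerIn S Q₁) ∧ Nat.card Q < Nat.card Q₁))
    (hne : Q₁ ≠ ⊥) : ¬ Bad p F Q₁ := by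
  intro hbad
  obtain ⟨Q', hfn, hbad', hN, hcard⟩ := bad_fn_conj p hS F hF hbad
  have hQ' : Q' ≠ ⊥ := by
    rintro rfl
    apply hne
    have h1 : Nat.card Q₁ = 1 := by rw [← hcard]; simp
    exact (Subgroup.card_eq_one).mp h1
  rcases hQ.2.2.2 Q' hfn hQ' hbad' with h1 | ⟨h1, h2⟩
  · rcases h with h | ⟨h, -⟩ <;> omega
  · rcases h with h | ⟨h, h'⟩ <;> omega

/-- **Step 1**: a maximal bad subgroup is the largest normal subgroup of its normalizer system. -/
theorem IsMaxBad.eq_of_isNormal [Finite S] {p : ℕ} [Fact p.Prime] (hS : IsPGroup p S) {F : FusionSystem S}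
    (hF : F.IsSaturated p) {Q : Subgroup Ω} (hQ : IsMaxBad p F Q)
    (E : FusionSystem (normalizerIn S Q)) (hE : F.IsNormalizerSystem Q E) {T : Subgroup Ω}
    (hT : E.IsNormal T) (hQT : Q ≤ T) : T = Q := by
  by_contra hne
  have hQS : Q ≤ S := hQ.1.1
  haveI : Finite (normalizerIn S Q) := fs_finite_of_le (fs_normalizerIn_le S Q)
  obtain ⟨P, hQP, hPN, α, hα, hαQ, hα1, hαc⟩ := hQ.2.2.1
  have hαE := mem_normalizer_autGroup F E hE hQP hPN α hα hαQ
  have hbadE : Bad p E T := bad_of_isNormal p E hT hPN α hαE hα1 hαc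
  have hEF : ∀ P : Subgroup Ω, E.Hom P ⊆ F.Hom P := by
    intro P φ hφ
    rw [hE] at hφ
    exact hφ.1
  have hbadF : Bad p F T := bad_of_le (fs_normalizerIn_le S Q) E F hEF hbadE
  have hTR : T ≤ normalizerIn S Q := hT.1
  haveI : Finite T := fs_finite_of_le (hTR.trans (fs_normalizerIn_le S Q))
  have hTnorm : normalizerIn S Q ≤ Subgroup.normalizer (T : Set Ω) :=
    fs_stronglyClosed_le_normalizer E (fs_stronglyClosed_of_isNormal E hT)
  have hNle : normalizerIn S Q ≤ normalizerIn S T := fun x hx => ⟨hx.1, hTnorm hx⟩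
  haveI : Finite (normalizerIn S T) := fs_finite_of_le (fs_normalizerIn_le S T)
  have hlt : Q < T := lt_of_le_of_ne hQT (Ne.symm hne)
  have hTne : T ≠ ⊥ := by
    rintro rfl
    exact hQ.2.1 (le_bot_iff.mp hQT)
  refine hQ.not_bad_of_lt hS hF (Or.inr ⟨Subgroup.card_le_of_le hNle, ?_⟩) hTne hbadF
  by_contra hcl
  push Not at hcl
  exact hlt.ne (Subgroup.eq_of_le_of_card_ge hlt.le hcl)

end Cfsg.Agent.H9ZJ
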