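import Mathlib
import Cfsg.Prelude.Def_FusionSystem
import Cfsg.Agent.Lib.Helper9.FusionNormMap
import Cfsg.Agent.Lib.Helper9.FusionAG1
import Cfsg.Agent.Lib.Helper9.KL19

set_option autoImplicit false

/-!
# Glauberman functors (part 10): the set `𝔅` of subgroups whose normalizer system is not contained in `E₀` (on large
sources); transport along a map of `E₀`
-/

namespace Cfsg.Agent.H9ZW

open Cfsg Cfsg.FusionSystem Cfsg.Agent.Lib.Helper9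

variable {Ω : Type*} [Group Ω] {S : Subgroup Ω}

/-- `Q ∈ 𝔅`: some map of `F` on an overgroup `P ≤ N_S(Q)` of `Q` of order at least `m`, carrying `Q` onto `Q`, is not a
map of `E₀`. -/
def InB (F E₀ : FusionSystem S) (m : ℕ) (Q : Subgroup Ω) : Prop :=
  Q ≠ ⊥ ∧ ∃ (P : Subgroup Ω) (φ : P →* Ω), m ≤ Nat.card P ∧ Q ≤ P ∧ P ≤ normalizerIn S Q ∧ φ ∈ F.Hom P ∧
    (Q.subgroupOf P).map φ = Q ∧ φ ∉ E₀.Hom P

theorem InB.le {F E₀ : FusionSystem S} {m : ℕ} {Q : Subgroup Ω} (h : InB F E₀ m Q) : Q ≤ S := by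
  obtain ⟨-, P, φ, -, hQP, hPN, -⟩ := h
  exact hQP.trans (hPN.trans inf_le_left)

/-- Transport of membership in `𝔅` along a map of `F` on `N_S(Q)` which is a map of `E₀`. -/
theorem inB_transport [Finite S] (F E₀ : FusionSystem S) (m : ℕ) {Q Q' : Subgroup Ω} (h : InB F E₀ m Q)
    {ψ : ↥(normalizerIn S Q) →* Ω} (hψ : ψ ∈ F.Hom (normalizerIn S Q)) (hψ₀ : ψ ∈ E₀.Hom (normalizerIn S Q))
    (hQ' : (Q.subgroupOf (normalizerIn S Q)).map ψ = Q') : InB F E₀ m Q' := by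
  obtain ⟨hQne, P, φ, hm, hQP, hPT, hφ, hφQ, hφ₀⟩ := h
  have hTS : normalizerIn S Q ≤ S := inf_le_left
  have hPS : P ≤ S := hPT.trans hTS
  have hQS : Q ≤ S := hQP.trans hPS
  have hQT : Q ≤ normalizerIn S Q := hQP.trans hPT
  haveI : Finite P := Finite.of_injective (Subgroup.inclusion hPS) (Subgroup.inclusion_injective hPS)
  haveI : Finite Q := Finite.of_injective (Subgroup.inclusion hQS) (Subgroup.inclusion_injective hQS)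
  have hψinj := F.injective_of_mem hψ
  -- `ψ` maps `N_S(Q)` into `N_S(Q')`
  have hψN : ∀ x : ↥(normalizerIn S Q), ψ x ∈ normalizerIn S Q' := fun x =>
    ⟨(F.le_of_mem hψ).2 x, fs_map_mem_normalizer ψ hQT inf_le_right hQ' x⟩
  -- the image of `φ` lies in `N_S(Q)`
  have hP₂T : φ.range ≤ normalizerIn S Q := by
    rintro _ ⟨x, rfl⟩
    exact ⟨(F.le_of_mem hφ).2 x, fs_map_mem_normalizer φ hQP (hPT.trans inf_le_right) hφQ x⟩
  -- restrictions of `ψ`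
  obtain ⟨ψP, hψPdef⟩ : ∃ ψP : P →* Ω, ψP = ψ.comp (Subgroup.inclusion hPT) := ⟨_, rfl⟩
  obtain ⟨ψ₂, hψ₂def⟩ : ∃ ψ₂ : φ.range →* Ω, ψ₂ = ψ.comp (Subgroup.inclusion hP₂T) := ⟨_, rfl⟩
  have hψP : ψP ∈ F.Hom P := by rw [hψPdef]; exact fs_restrict_mem F hψ hPT
  have hψP₀ : ψP ∈ E₀.Hom P := by rw [hψPdef]; exact fs_restrict_mem E₀ hψ₀ hPT
  have hψ₂ : ψ₂ ∈ F.Hom φ.range := by rw [hψ₂def]; exact fs_restrict_mem F hψ hP₂T
  have hψ₂₀ : ψ₂ ∈ E₀.Hom φ.range := by rw [hψ₂def]; exact fs_restrict_mem E₀ hψ₀ hP₂T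
  have hψPval : ∀ x : P, ψP x = ψ ⟨x, hPT x.2⟩ := by intro x; rw [hψPdef]; rfl
  have hψ₂val : ∀ y : φ.range, ψ₂ y = ψ ⟨y, hP₂T y.2⟩ := by intro y; rw [hψ₂def]; rfl
  -- the transported map
  obtain ⟨ι, hι, Hι⟩ := F.inv_mem hψP
  have hιP : ∀ y : ψP.range, ι y ∈ P := by
    rintro ⟨_, x, rfl⟩
    rw [Hι x]
    exact x.2
  have ha : φ.comp (ι.codRestrict P hιP) ∈ F.Hom ψP.range := F.comp_mem hι hφ hιP
  have Ha : ∀ x : P, (φ.comp (ι.codRestrict P hιP)) ⟨ψP x, ⟨x, rfl⟩⟩ = φ x := by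
    intro x
    show φ ⟨ι ⟨ψP x, _⟩, _⟩ = φ x
    congr 1
    exact Subtype.ext (Hι x)
  have ha₂ : ∀ y : ψP.range, (φ.comp (ι.codRestrict P hιP)) y ∈ φ.range := fun y => ⟨_, rfl⟩
  have hφ' : ψ₂.comp ((φ.comp (ι.codRestrict P hιP)).codRestrict φ.range ha₂) ∈ F.Hom ψP.range :=
    F.comp_mem ha hψ₂ ha₂
  have Hφ' : ∀ x : P, (ψ₂.comp ((φ.comp (ι.codRestrict P hιP)).codRestrict φ.range ha₂)) ⟨ψP x, ⟨x, rfl⟩⟩
      = ψ₂ ⟨φ x, ⟨x, rfl⟩⟩ := by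
    intro x
    show ψ₂ ⟨(φ.comp (ι.codRestrict P hιP)) ⟨ψP x, _⟩, _⟩ = ψ₂ ⟨φ x, _⟩
    congr 1
    exact Subtype.ext (Ha x)
  -- elements of `Q'`
  have hQ'mem : ∀ y : Ω, y ∈ Q' ↔ ∃ q : P, (q : Ω) ∈ Q ∧ ψP q = y := by
    intro y
    rw [← hQ']
    constructor
    · rintro ⟨x, hx, rfl⟩
      have hxQ : (x : Ω) ∈ Q := hx
      exact ⟨⟨x, hQP hxQ⟩, hxQ, by rw [hψPval]⟩
    · rintro ⟨q, hq, rfl⟩
      rw [hψPval]
      exact ⟨⟨q, hPT q.2⟩, hq, rfl⟩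
  have hQ'P' : Q' ≤ ψP.range := by
    intro y hy
    obtain ⟨q, -, rfl⟩ := (hQ'mem y).mp hy
    exact ⟨q, rfl⟩
  have hQ'ne : Q' ≠ ⊥ := by
    intro hbot
    apply hQne
    rw [eq_bot_iff]
    intro q hq
    have h1 : ψP ⟨q, hQP hq⟩ ∈ Q' := (hQ'mem _).mpr ⟨⟨q, hQP hq⟩, hq, rfl⟩
    rw [hbot, Subgroup.mem_bot] at h1
    have h2 : (⟨q, hQP hq⟩ : P) = 1 := F.injective_of_mem hψP (by rw [h1, map_one])
    rw [Subgroup.mem_bot]
    exact congrArg Subtype.val h2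
  have hP'N : ψP.range ≤ normalizerIn S Q' := by
    rintro _ ⟨x, rfl⟩
    rw [hψPval]
    exact hψN _
  have hcardQ' : Nat.card Q' ≤ Nat.card Q := by
    rw [← hQ', Subgroup.card_map_of_injective hψinj, Nat.card_congr (Subgroup.subgroupOfEquivOfLe hQT).toEquiv]
  have hQ'S : Q' ≤ S := hQ'P'.trans (hP'N.trans inf_le_left)
  haveI : Finite Q' := Finite.of_injective (Subgroup.inclusion hQ'S) (Subgroup.inclusion_injective hQ'S)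
  have hcardQ'' : Nat.card Q = Nat.card Q' := by
    rw [← hQ', Subgroup.card_map_of_injective hψinj, Nat.card_congr (Subgroup.subgroupOfEquivOfLe hQT).toEquiv]
  refine ⟨hQ'ne, ψP.range, _, ?_, hQ'P', hP'N, hφ', ?_, ?_⟩
  · rw [← Nat.card_congr (MonoidHom.ofInjective (F.injective_of_mem hψP)).toEquiv]
    exact hm
  · apply Cfsg.Agent.H9KL.map_eq_of_le_of_injective hQ'P' _ (F.injective_of_mem hφ') _ le_rfl
    rintro _ ⟨y, hy, rfl⟩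
    have hyQ' : (y : Ω) ∈ Q' := hy
    obtain ⟨q, hq, hqy⟩ := (hQ'mem _).mp hyQ'
    have e : y = ⟨ψP q, ⟨q, rfl⟩⟩ := Subtype.ext hqy.symm
    rw [e, Hφ' q, hψ₂val]
    rw [← hQ']
    refine ⟨⟨φ q, hP₂T ⟨q, rfl⟩⟩, ?_, rfl⟩
    show φ q ∈ Q
    rw [← hφQ]
    exact ⟨q, hq, rfl⟩
  · intro hcon
    apply hφ₀
    exact fs_mem_of_conj_decomp E₀ hψP₀ hψ₂₀ hcon (fun x => ⟨x, rfl⟩) (fun x => ⟨x, rfl⟩)
      (fun x => (Hφ' x).symm)

end Cfsg.Agent.H9ZW
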