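import Mathlib
import Cfsg.Prelude.Def_FusionSystem
import Cfsg.Agent.Lib.Helper9.ZW10
import Cfsg.Agent.Lib.Helper9.ZJF4
import Cfsg.Agent.Lib.Helper9.FusionSat1
import Cfsg.Agent.Lib.Helper9.FusionSat3

set_option autoImplicit false

/-!
# Glauberman functors (part 11): a fully normalized maximal member of `𝔅`
-/

namespace Cfsg.Agent.H9ZW

open Cfsg Cfsg.FusionSystem Cfsg.Agent.Lib.Helper9 Cfsg.Agent.H9ZJ

variable {Ω : Type*} [Group Ω] {S : Subgroup Ω}

/-- The measure: first the order of the normalizer, then the order of the subgroup. -/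
noncomputable def mu (S Q : Subgroup Ω) : ℕ := Nat.card (normalizerIn S Q) * (Nat.card S + 1) + Nat.card Q

theorem exists_max_fn [Finite S] (p : ℕ) [Fact p.Prime] (hS : IsPGroup p S) (F E₀ : FusionSystem S)
    (hF : F.IsSaturated p) (m : ℕ)
    (hbig : ∀ Q : Subgroup Ω, Q ≤ S → m < Nat.card Q → F.Hom Q ⊆ E₀.Hom Q)
    {R₀ : Subgroup Ω} (hR₀ : InB F E₀ m R₀) (hmR₀ : m < Nat.card (normalizerIn S R₀)) :
    ∃ Q : Subgroup Ω, InB F E₀ m Q ∧ F.IsFullyNormalized Q ∧ m < Nat.card (normalizerIn S Q) ∧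
      ∀ Q' : Subgroup Ω, InB F E₀ m Q' → mu S Q' ≤ mu S Q := by
  have hB : ∀ Q ∈ {Q : Subgroup Ω | InB F E₀ m Q}, mu S Q ≤ Nat.card S * (Nat.card S + 1) + Nat.card S := by
    intro Q hQ
    have h1 : Nat.card (normalizerIn S Q) ≤ Nat.card S := fs_card_le_of_le (fs_normalizerIn_le S Q)
    have h2 : Nat.card Q ≤ Nat.card S := fs_card_le_of_le (InB.le hQ)
    unfold mu
    exact add_le_add (Nat.mul_le_mul_right _ h1) h2
  obtain ⟨Q, hQ, hmax⟩ := exists_max_nat {Q : Subgroup Ω | InB F E₀ m Q} ⟨R₀, hR₀⟩ (mu S) _ hB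
  have hQ' : InB F E₀ m Q := hQ
  have hQS : Q ≤ S := InB.le hQ'
  have hmQ : m < Nat.card (normalizerIn S Q) := by
    by_contra hle
    push Not at hle
    have h1 := hmax R₀ hR₀
    unfold mu at h1
    have h2 : Nat.card Q ≤ Nat.card S := fs_card_le_of_le hQS
    have h3 : Nat.card (normalizerIn S Q) * (Nat.card S + 1) ≤ m * (Nat.card S + 1) :=
      Nat.mul_le_mul_right _ hle
    have h4 : (m + 1) * (Nat.card S + 1) ≤ Nat.card (normalizerIn S R₀) * (Nat.card S + 1) :=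
      Nat.mul_le_mul_right _ hmR₀
    have h5 : (m + 1) * (Nat.card S + 1) = m * (Nat.card S + 1) + (Nat.card S + 1) := by ring
    omega
  obtain ⟨Q₁, hconj, hQ₁fn⟩ := fs_exists_fullyNormalized F hQS
  obtain ⟨hfc, hfa⟩ := fs_sylow_axiom p hS F hF hQ₁fn
  have hrec := fs_extension_axiom p hS F hF hfc
  obtain ⟨ψ, hψ, hψN, hψQ⟩ := fs_exists_normalizer_map p hS F Q₁ Q hfa hrec hconj
  have hψ₀ : ψ ∈ E₀.Hom (normalizerIn S Q) := hbig _ inf_le_left hmQ hψ
  have hQ₁B := inB_transport F E₀ m hQ' hψ hψ₀ hψQ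
  have hN : Nat.card (normalizerIn S Q) ≤ Nat.card (normalizerIn S Q₁) :=
    hQ₁fn.2 Q (fs_isConj_symm F hconj)
  have hcard : Nat.card Q = Nat.card Q₁ := by
    have hQT : Q ≤ normalizerIn S Q := fun x hx => ⟨hQS hx, Subgroup.le_normalizer hx⟩
    rw [← hψQ, Subgroup.card_map_of_injective (F.injective_of_mem hψ),
      Nat.card_congr (Subgroup.subgroupOfEquivOfLe hQT).toEquiv]
  have hmu : mu S Q ≤ mu S Q₁ := by
    unfold mu
    rw [hcard]
    exact add_le_add (Nat.mul_le_mul_right _ hN) le_rfl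
  exact ⟨Q₁, hQ₁B, hQ₁fn, lt_of_lt_of_le hmQ hN, fun Q'' h => (hmax Q'' h).trans hmu⟩

end Cfsg.Agent.H9ZW
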