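import Mathlib
import Cfsg.Prelude.Def_FusionSystem
import Cfsg.Agent.Lib.Helper9.ZW1
import Cfsg.Agent.Lib.Helper9.ZW11
import Cfsg.Agent.Lib.Helper9.KL10
import Cfsg.Agent.Lib.Helper9.FusionAut2

set_option autoImplicit false

/-!
# Glauberman functors (part 12): a maximal member `Q` of `𝔅` cannot have `W(N_S(Q))` normal in `N_F(Q)`
-/

namespace Cfsg.Agent.H9ZW

open Cfsg Cfsg.FusionSystem Cfsg.Agent.Lib.Helper9 Cfsg.Agent.H9KL

universe u w

variable {p : ℕ} {H : Type w} [Group H] {W : ∀ (Q : Type u) [Group Q], Subgroup Q}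

theorem false_of_normal_W [hp : Fact p.Prime] (hW : IsGF p H W) {Ω : Type u} [Group Ω] {S : Subgroup Ω}
    [Finite S] (hS : IsPGroup p S) (F E₀ : FusionSystem S)
    (hE₀ : ∀ P : Subgroup Ω, E₀.Hom P = F.normalizerHom (Wof W S) P) (m : ℕ)
    {Q : Subgroup Ω} (hQ : InB F E₀ m Q) (hmax : ∀ Q' : Subgroup Ω, InB F E₀ m Q' → mu S Q' ≤ mu S Q)
    (E : FusionSystem (normalizerIn S Q)) (hE : F.IsNormalizerSystem Q E)
    (hX : E.IsNormal (Wof W (normalizerIn S Q))) : False := by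
  have hQS : Q ≤ S := InB.le hQ
  obtain ⟨hQne, P, φ, hm, hQP, hPT, hφ, hφQ, hφ₀⟩ := hQ
  have hTS : normalizerIn S Q ≤ S := inf_le_left
  haveI : Finite ↥(normalizerIn S Q) := fs_finite_of_le hTS
  have hTp : IsPGroup p ↥(normalizerIn S Q) := hS.to_le hTS
  have hXT : Wof W (normalizerIn S Q) ≤ normalizerIn S Q := Wof_le W _
  have hφE : φ ∈ E.Hom P := by
    rw [hE]
    exact mem_normalizerHom_of_map_eq F hQP hφ hPT hφQ
  obtain ⟨ψ, hψ, hψP, hψX⟩ := hX.2 P φ hφE
  have hψF : ψ ∈ F.Hom (P ⊔ Wof W (normalizerIn S Q)) := by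
    rw [hE] at hψ
    exact hψ.1
  have hψ₀ : ψ ∉ E₀.Hom (P ⊔ Wof W (normalizerIn S Q)) := by
    intro h
    apply hφ₀
    have h1 := fs_restrict_mem E₀ h (le_sup_left : P ≤ P ⊔ Wof W (normalizerIn S Q))
    have h2 : ψ.comp (Subgroup.inclusion (le_sup_left : P ≤ P ⊔ Wof W (normalizerIn S Q))) = φ := by
      ext x
      exact hψP x
    rwa [h2] at h1
  have hQT : Q ≤ normalizerIn S Q := hQP.trans hPT
  have hTne : normalizerIn S Q ≠ ⊥ := by
    intro h
    apply hQne
    rw [eq_bot_iff, ← h]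
    exact hQT
  have hXne : Wof W (normalizerIn S Q) ≠ ⊥ := Wof_ne_bot hW hTp hTne
  have hNN : Subgroup.normalizer ((normalizerIn S Q : Subgroup Ω) : Set Ω) ≤
      Subgroup.normalizer ((Wof W (normalizerIn S Q) : Subgroup Ω) : Set Ω) :=
    normalizer_le_normalizer_Wof hW hTp
  have hTNX : normalizerIn S Q ≤ normalizerIn S (Wof W (normalizerIn S Q)) :=
    fun x hx => ⟨hTS hx, hNN (Subgroup.le_normalizer hx)⟩
  have hPXT : P ⊔ Wof W (normalizerIn S Q) ≤ normalizerIn S Q := sup_le hPT hXT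
  have hPXN : P ⊔ Wof W (normalizerIn S Q) ≤ normalizerIn S (Wof W (normalizerIn S Q)) := hPXT.trans hTNX
  haveI : Finite ↥(P ⊔ Wof W (normalizerIn S Q)) := fs_finite_of_le (hPXT.trans hTS)
  have hcard : Nat.card P ≤ Nat.card ↥(P ⊔ Wof W (normalizerIn S Q)) := Subgroup.card_le_of_le le_sup_left
  have hXB : InB F E₀ m (Wof W (normalizerIn S Q)) :=
    ⟨hXne, _, ψ, hm.trans hcard, le_sup_right, hPXN, hψF, hψX, hψ₀⟩
  have hmu := hmax _ hXB
  by_cases hTS' : normalizerIn S Q = S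
  · have hXeq : Wof W (normalizerIn S Q) = Wof W S := Wof_congr W hTS'
    apply hψ₀
    rw [hE₀]
    have h1 := mem_normalizerHom_of_map_eq F (le_sup_right : Wof W (normalizerIn S Q) ≤ P ⊔ Wof W (normalizerIn S Q))
      hψF hPXN hψX
    have e : F.normalizerHom (Wof W (normalizerIn S Q)) (P ⊔ Wof W (normalizerIn S Q))
        = F.normalizerHom (Wof W S) (P ⊔ Wof W (normalizerIn S Q)) := by
      rw [← hXeq]
    rw [← e]
    exact h1
  · have hlt : normalizerIn S Q < S := lt_of_le_of_ne hTS hTS'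
    have h1 := fs_lt_normalizerIn p hS hlt
    have h2 : normalizerIn S (normalizerIn S Q) ≤ normalizerIn S (Wof W (normalizerIn S Q)) :=
      fun x hx => ⟨hx.1, hNN hx.2⟩
    have h3 : normalizerIn S Q < normalizerIn S (Wof W (normalizerIn S Q)) := lt_of_lt_of_le h1 h2
    haveI : Finite ↥(normalizerIn S (Wof W (normalizerIn S Q))) := fs_finite_of_le inf_le_left
    have h4 : Nat.card ↥(normalizerIn S Q) < Nat.card ↥(normalizerIn S (Wof W (normalizerIn S Q))) := by
      by_contra hle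
      push Not at hle
      have := Subgroup.eq_of_le_of_card_ge h3.le hle
      exact absurd this h3.ne
    have h5 : Nat.card Q ≤ Nat.card S := fs_card_le_of_le hQS
    unfold mu at hmu
    have h6 : (Nat.card ↥(normalizerIn S Q) + 1) * (Nat.card S + 1) ≤
        Nat.card ↥(normalizerIn S (Wof W (normalizerIn S Q))) * (Nat.card S + 1) :=
      Nat.mul_le_mul_right _ h4
    have h7 : (Nat.card ↥(normalizerIn S Q) + 1) * (Nat.card S + 1)
        = Nat.card ↥(normalizerIn S Q) * (Nat.card S + 1) + (Nat.card S + 1) := by ring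
    omega

end Cfsg.Agent.H9ZW
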