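import Mathlib
import Cfsg.Prelude.Def_FusionSystem
import Cfsg.Prelude.Def_FusionReduction
import Cfsg.Agent.Lib.Helper9.ZW1
import Cfsg.Agent.Lib.Helper9.KL9
import Cfsg.Agent.Lib.Helper9.Model1

set_option autoImplicit false

/-!
# Glauberman functors (part 13): the centric case, through the model
-/

namespace Cfsg.Agent.H9ZW

open Cfsg Cfsg.FusionSystem Cfsg.Agent.Lib.Helper9 Cfsg.Agent.H9KL

universe u w

variable {p : ℕ} {H : Type w} [Group H] {W : ∀ (Q : Type u) [Group Q], Subgroup Q}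

theorem normal_W_of_centric [hp : Fact p.Prime] (hW : IsGF p H W) {Ω : Type u} [Group Ω] {S : Subgroup Ω}
    [Finite S] (hS : IsPGroup p S) (F : FusionSystem S) (hF : F.IsSaturated p) (hfree : F.IsSectionFree p H)
    {Q : Subgroup Ω} (hQfn : F.IsFullyNormalized Q) (hQc : F.IsCentric Q)
    (E : FusionSystem (normalizerIn S Q)) (hE : F.IsNormalizerSystem Q E) :
    E.IsNormal (Wof W (normalizerIn S Q)) := by
  have hTS : normalizerIn S Q ≤ S := inf_le_left
  haveI : Finite ↥(normalizerIn S Q) := fs_finite_of_le hTS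
  have hTp : IsPGroup p ↥(normalizerIn S Q) := hS.to_le hTS
  obtain ⟨-, -, G, instG, ι, hmodel⟩ := exists_model_of_fn_centric p hS F hF hQfn hQc E hE
  have hninv : ¬ Involves H G := hfree Q hQfn hQc E hE G ι hmodel
  obtain ⟨hfin, hreal, ⟨P, hP⟩, hcent⟩ := hmodel
  haveI := hfin
  have hceq : Subgroup.centralizer ((Cfsg.pCore p G : Subgroup G) : Set G) =
      Cfsg.pCore p G ⊓ Subgroup.centralizer ((Cfsg.pCore p G : Subgroup G) : Set G) :=
    le_antisymm (le_inf hcent le_rfl) inf_le_right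
  have hnorm : (Wof W (P : Subgroup G)).Normal := hW.normal G P hceq hninv
  have hU : Wof W (P : Subgroup G) = Wof W ι.range := Wof_congr W hP
  rw [hU] at hnorm
  haveI := hnorm
  have h1 := realized_isNormal_preimage E ι hreal (Wof W ι.range) (Wof_le W _)
  have h2 : preimageAlong ι (Wof W ι.range) = Wof W (normalizerIn S Q) := by
    ext x
    rw [mem_preimageAlong_iff]
    constructor
    · rintro ⟨hx, hx'⟩
      exact (Wof_range_iff hW hTp ι hreal.1 ⟨x, hx⟩).mp hx'
    · intro hx
      have hxT : x ∈ normalizerIn S Q := Wof_le W _ hx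
      exact ⟨hxT, (Wof_range_iff hW hTp ι hreal.1 ⟨x, hxT⟩).mpr hx⟩
  rwa [h2] at h1

end Cfsg.Agent.H9ZW
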