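import Mathlib
import Cfsg.Prelude.Def_FusionSystem
import Cfsg.Agent.Lib.Helper9.FusionReceptive
import Cfsg.Agent.Lib.Helper9.FusionSup
import Cfsg.Agent.Lib.Helper9.FusionStrongly
import Cfsg.Agent.Lib.Helper9.FusionLift1
import Cfsg.Agent.Lib.Helper9.FusionNormal1
import Cfsg.Agent.Lib.Helper9.FusionSat3
import Cfsg.Agent.Lib.Helper9.KL19
import Cfsg.Agent.Lib.Helper9.ZW3

set_option autoImplicit false

/-!
# Glauberman functors (part 7): for `Q` normal in `E`, every map of `E` on an overgroup of `Q` agrees on `Q` with a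
map normalizing `Q C_S(Q)`
-/

namespace Cfsg.Agent.H9ZW

open Cfsg Cfsg.FusionSystem Cfsg.Agent.Lib.Helper9

variable {Ω : Type*} [Group Ω] {S : Subgroup Ω}

theorem mem_normalizer_sup' {G : Type*} [Group G] {A B : Subgroup G} {g : G}
    (hA : g ∈ Subgroup.normalizer (A : Set G)) (hB : g ∈ Subgroup.normalizer (B : Set G)) :
    g ∈ Subgroup.normalizer ((A ⊔ B : Subgroup G) : Set G) := by
  have key : ∀ m : G, m ∈ Subgroup.normalizer (A : Set G) → m ∈ Subgroup.normalizer (B : Set G) →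
      ∀ y ∈ A ⊔ B, m * y * m⁻¹ ∈ A ⊔ B := by
    intro m hmA hmB y hy
    rw [Subgroup.sup_eq_closure] at hy
    induction hy using Subgroup.closure_induction with
    | mem x hx =>
      rcases hx with hx | hx
      · exact (le_sup_left : A ≤ A ⊔ B) ((Subgroup.mem_normalizer_iff.mp hmA x).mp hx)
      · exact (le_sup_right : B ≤ A ⊔ B) ((Subgroup.mem_normalizer_iff.mp hmB x).mp hx)
    | one => simp
    | mul x y _ _ hx hy =>
      have e : m * (x * y) * m⁻¹ = (m * x * m⁻¹) * (m * y * m⁻¹) := by group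
      rw [e]
      exact (A ⊔ B).mul_mem hx hy
    | inv x _ hx =>
      have e : m * x⁻¹ * m⁻¹ = (m * x * m⁻¹)⁻¹ := by group
      rw [e]
      exact (A ⊔ B).inv_mem hx
  rw [Subgroup.mem_normalizer_iff]
  intro y
  constructor
  · exact key g hA hB y
  · intro hy
    have := key g⁻¹ (Subgroup.inv_mem _ hA) (Subgroup.inv_mem _ hB) _ hy
    have e : g⁻¹ * (g * y * g⁻¹) * g⁻¹⁻¹ = y := by group
    rwa [e] at this

theorem le_normalizer_centralizerIn {S Q : Subgroup Ω} (hSQ : S ≤ Subgroup.normalizer (Q : Set Ω)) :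
    S ≤ Subgroup.normalizer (centralizerIn S Q : Set Ω) := by
  have key : ∀ g ∈ S, ∀ c ∈ centralizerIn S Q, g * c * g⁻¹ ∈ centralizerIn S Q := by
    intro g hg c hc
    refine ⟨S.mul_mem (S.mul_mem hg hc.1) (S.inv_mem hg), ?_⟩
    show g * c * g⁻¹ ∈ Subgroup.centralizer (Q : Set Ω)
    rw [Subgroup.mem_centralizer_iff]
    intro q hq
    have hq' : g⁻¹ * q * g ∈ Q := (Subgroup.mem_normalizer_iff''.mp (hSQ hg) q).mp hq
    have hc' := (Subgroup.mem_centralizer_iff.mp hc.2) _ hq'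
    calc q * (g * c * g⁻¹) = g * ((g⁻¹ * q * g) * c) * g⁻¹ := by group
      _ = g * (c * (g⁻¹ * q * g)) * g⁻¹ := by rw [hc']
      _ = g * c * g⁻¹ * q := by group
  intro g hg
  rw [Subgroup.mem_normalizer_iff]
  intro y
  constructor
  · exact key g hg y
  · intro hy
    have := key g⁻¹ (S.inv_mem hg) _ hy
    have e : g⁻¹ * (g * y * g⁻¹) * g⁻¹⁻¹ = y := by group
    rwa [e] at this

theorem le_normalizer_sup_centralizerIn {S Q : Subgroup Ω} (hSQ : S ≤ Subgroup.normalizer (Q : Set Ω)) :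
    S ≤ Subgroup.normalizer ((Q ⊔ centralizerIn S Q : Subgroup Ω) : Set Ω) := by
  intro g hg
  have h1 : g ∈ Subgroup.normalizer (Q : Set Ω) := hSQ hg
  have h2 : g ∈ Subgroup.normalizer (centralizerIn S Q : Set Ω) := le_normalizer_centralizerIn hSQ hg
  exact mem_normalizer_sup' (A := Q) (B := centralizerIn S Q) h1 h2

theorem card_lt_sup_centralizerIn [Finite S] {Q : Subgroup Ω} (hQS : Q ≤ S)
    (hnc : ¬ centralizerIn S Q ≤ Q) : Nat.card Q < Nat.card ↥(Q ⊔ centralizerIn S Q) := by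
  have hle : Q ⊔ centralizerIn S Q ≤ S := sup_le hQS inf_le_left
  haveI : Finite ↥(Q ⊔ centralizerIn S Q) := fs_finite_of_le hle
  by_contra h
  push Not at h
  have h0 : Q ≤ Q ⊔ centralizerIn S Q := le_sup_left
  have h1 : Q = Q ⊔ centralizerIn S Q := Subgroup.eq_of_le_of_card_ge h0 h
  have h2 : centralizerIn S Q ≤ Q ⊔ centralizerIn S Q := le_sup_right
  exact hnc (h2.trans h1.ge)

/-- `P` lies in the extender of the restriction to `Q` of a homomorphism on `P ≥ Q` normalizing `Q`. -/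
theorem le_extender_of_restrict {Q P : Subgroup Ω} (hQP : Q ≤ P) (hPS : P ≤ S)
    (hPN : P ≤ Subgroup.normalizer (Q : Set Ω)) (φ : P →* Ω) (hφS : ∀ x : P, φ x ∈ S) :
    P ≤ extender S Q (φ.comp (Subgroup.inclusion hQP)) := by
  intro g hg
  apply Subgroup.subset_closure
  refine ⟨hPS hg, hPN hg, φ ⟨g, hg⟩, hφS _, ?_⟩
  intro x hx
  show φ (Subgroup.inclusion hQP ⟨g * x * g⁻¹, hx⟩) = φ ⟨g, hg⟩ * φ (Subgroup.inclusion hQP x) * (φ ⟨g, hg⟩)⁻¹
  rw [← map_inv, ← map_mul, ← map_mul]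
  congr 1

/-- For `Q` normal in the saturated system `E`, a map `φ` of `E` on `P ≥ Q` agrees on `Q` with a map `Γ` on
`P C_S(Q)` which carries `Q C_S(Q)` onto itself. -/
theorem exists_Gamma [Finite S] (p : ℕ) [Fact p.Prime] (hS : IsPGroup p S) (E : FusionSystem S)
    (hE : E.IsSaturated p) {Q : Subgroup Ω} (hQ : E.IsNormal Q) {P : Subgroup Ω} (hQP : Q ≤ P)
    {φ : P →* Ω} (hφ : φ ∈ E.Hom P) :
    ∃ Γ ∈ E.Hom (P ⊔ centralizerIn S Q),
      (∀ x : Q, Γ (Subgroup.inclusion (hQP.trans le_sup_left) x) = φ (Subgroup.inclusion hQP x)) ∧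
      ((Q ⊔ centralizerIn S Q).subgroupOf (P ⊔ centralizerIn S Q)).map Γ = Q ⊔ centralizerIn S Q := by
  have hQS := hQ.1
  have hQsc := fs_stronglyClosed_of_isNormal E hQ
  have hSQ := fs_stronglyClosed_le_normalizer E hQsc
  obtain ⟨hPS, hφS⟩ := E.le_of_mem hφ
  have hfn := fullyNormalized_of_le_normalizer E hQS hSQ
  have hrec := fs_extension_axiom p hS E hE (fs_sylow_axiom p hS E hE hfn).1
  -- the restriction of `φ` to `Q`
  have hφQ : φ.comp (Subgroup.inclusion hQP) ∈ E.Hom Q := fs_restrict_mem E hφ hQP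
  have hrange : (φ.comp (Subgroup.inclusion hQP)).range = Q := by
    apply le_antisymm
    · rintro _ ⟨x, rfl⟩
      exact fs_stronglyClosed_mem E hQsc hφ _ x.2
    · intro y hy
      obtain ⟨x, hxQ, hxy⟩ := fs_stronglyClosed_surj E hQsc hφ hQP hy
      exact ⟨⟨x, hxQ⟩, hxy⟩
  obtain ⟨χ, hχ, hQN, hCN, hχQ, hχC⟩ := fs_receptive_extend E hrec hφQ hrange
  have hPN : P ≤ extender S Q (φ.comp (Subgroup.inclusion hQP)) :=
    le_extender_of_restrict hQP hPS (hPS.trans hSQ) φ hφS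
  have hM : P ⊔ centralizerIn S Q ≤ extender S Q (φ.comp (Subgroup.inclusion hQP)) := sup_le hPN hCN
  have hΓ : χ.comp (Subgroup.inclusion hM) ∈ E.Hom (P ⊔ centralizerIn S Q) := fs_restrict_mem E hχ hM
  have hΓQ : ∀ x : Q, (χ.comp (Subgroup.inclusion hM)) (Subgroup.inclusion (hQP.trans le_sup_left) x)
      = φ (Subgroup.inclusion hQP x) := by
    intro x
    rw [← MonoidHom.comp_apply φ, ← hχQ x]
    rfl
  refine ⟨_, hΓ, hΓQ, ?_⟩
  have hR1M : Q ⊔ centralizerIn S Q ≤ P ⊔ centralizerIn S Q := sup_le (hQP.trans le_sup_left) le_sup_right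
  have hR1S : Q ⊔ centralizerIn S Q ≤ S := sup_le hQS inf_le_left
  haveI : Finite ↥(Q ⊔ centralizerIn S Q) := fs_finite_of_le hR1S
  apply Cfsg.Agent.H9KL.map_eq_of_le_of_injective hR1M _ (E.injective_of_mem hΓ) _ le_rfl
  rintro _ ⟨x, hx, rfl⟩
  have hx' : (x : Ω) ∈ Q ⊔ centralizerIn S Q := hx
  have key := sup_forall_mem (P := Q) (Q := centralizerIn S Q)
    ((χ.comp (Subgroup.inclusion hM)).comp (Subgroup.inclusion hR1M)) (Q ⊔ centralizerIn S Q) ?_ ?_ ⟨x, hx'⟩
  · exact key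
  · intro y
    have h1 := hΓQ y
    have h2 : ((χ.comp (Subgroup.inclusion hM)).comp (Subgroup.inclusion hR1M))
        (Subgroup.inclusion le_sup_left y) = φ (Subgroup.inclusion hQP y) := h1
    rw [h2]
    exact (le_sup_left : Q ≤ Q ⊔ centralizerIn S Q) (fs_stronglyClosed_mem E hQsc hφ _ y.2)
  · intro c
    exact (le_sup_right : centralizerIn S Q ≤ Q ⊔ centralizerIn S Q) (hχC c)

end Cfsg.Agent.H9ZW
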