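import Mathlib
import Cfsg.Prelude
import Cfsg.Agent.Lib.Helper9.SylowAux
import Cfsg.Agent.Lib.Helper6.PPrimeCore
import Cfsg.Agent.Lib.Helper3.PComp1

set_option autoImplicit false

/-!
# Kessar–Linckelmann cascade (part 15): a normal `p`-centric subgroup of a group with `O_{p'} = 1` is
self-centralizing
-/

namespace Cfsg.Agent.H9KL

open Cfsg

theorem centralizer_le_of_normal_centric {H : Type*} [Group H] [Finite H] {p : ℕ} [Fact p.Prime]
    (T : Sylow p H) (V : Subgroup H) [hVn : V.Normal]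
    (hcen : (T : Subgroup H) ⊓ Subgroup.centralizer (V : Set H) ≤ V) (hO : pPrimeCore p H = ⊥) :
    Subgroup.centralizer (V : Set H) ≤ V := by
  classical
  obtain ⟨C, hCdef⟩ : ∃ C : Subgroup H, C = Subgroup.centralizer (V : Set H) := ⟨_, rfl⟩
  have hCn : C.Normal := by rw [hCdef]; exact Subgroup.normal_centralizer
  obtain ⟨P⟩ : Nonempty (Sylow p ↥C) := inferInstance
  have hPV : ∀ q : ↥C, q ∈ (P : Subgroup ↥C) → (q : H) ∈ V := by
    intro q hq
    obtain ⟨h, -, Hh⟩ := Cfsg.Agent.Lib.Helper9.exists_conj_mem_sylow_of_le T ⊤ le_top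
      ((P : Subgroup ↥C).map C.subtype) (P.isPGroup'.map _) le_top
    have h1 : h * (q : H) * h⁻¹ ∈ (T : Subgroup H) := Hh _ ⟨q, hq, rfl⟩
    have h2 : h * (q : H) * h⁻¹ ∈ C := hCn.conj_mem _ q.2 h
    have h3 : h * (q : H) * h⁻¹ ∈ V := hcen ⟨h1, hCdef ▸ h2⟩
    have h4 := hVn.conj_mem _ h3 h⁻¹
    have e : h⁻¹ * (h * (q : H) * h⁻¹) * h⁻¹⁻¹ = q := by group
    rwa [e] at h4
  have hP : Subgroup.normalizer ((P : Subgroup ↥C) : Set ↥C) ≤
      Subgroup.centralizer ((P : Subgroup ↥C) : Set ↥C) := by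
    intro c _
    rw [Subgroup.mem_centralizer_iff]
    intro q hq
    apply Subtype.ext
    have hc : (c : H) ∈ Subgroup.centralizer (V : Set H) := hCdef ▸ c.2
    rw [Subgroup.mem_centralizer_iff] at hc
    exact hc (q : H) (hPV q hq)
  obtain ⟨Y, hYdef⟩ : ∃ Y : Subgroup ↥C, Y = (MonoidHom.transferSylow P hP).ker := ⟨_, rfl⟩
  have hcomp : Y.IsComplement' (P : Subgroup ↥C) := by
    rw [hYdef]; exact MonoidHom.ker_transferSylow_isComplement' P hP
  have hcard : Nat.card ↥Y * Nat.card ↥(P : Subgroup ↥C) = Nat.card ↥C := hcomp.card_mul_card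
  have hidx : Nat.card ↥Y = (P : Subgroup ↥C).index := by
    have h1 := (P : Subgroup ↥C).card_mul_index
    have h2 : Nat.card ↥Y * Nat.card ↥(P : Subgroup ↥C) =
        (P : Subgroup ↥C).index * Nat.card ↥(P : Subgroup ↥C) := by
      rw [hcard, ← h1, mul_comm]
    exact Nat.eq_of_mul_eq_mul_right Nat.card_pos h2
  have hYcop : (Nat.card ↥Y).Coprime p := by
    rw [hidx, Nat.coprime_comm]
    exact (Nat.Prime.coprime_iff_not_dvd Fact.out).mpr P.not_dvd_index
  have hYn : Y.Normal := by rw [hYdef]; exact MonoidHom.normal_ker _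
  have hYle : Y ≤ pPrimeCore p ↥C := Cfsg.Agent.Lib.Helper6.le_pPrimeCore hYn hYcop
  have hOC : pPrimeCore p ↥C = ⊥ := by
    have h2 : (pPrimeCore p ↥C).map C.subtype ≤ pPrimeCore p H :=
      Cfsg.Agent.Lib.Helper3.pPrimeCore_map_subtype_le_of_isSubnormal
        (Subgroup.Normal.isSubnormal hCn)
    rw [hO, le_bot_iff] at h2
    exact (Subgroup.map_eq_bot_iff_of_injective _ C.subtype_injective).mp h2
  have hY1 : Nat.card ↥Y = 1 := by
    rw [hOC, le_bot_iff] at hYle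
    rw [hYle, Subgroup.card_bot]
  rw [hY1, one_mul] at hcard
  have hPtop : (P : Subgroup ↥C) = ⊤ := Subgroup.card_eq_iff_eq_top _ |>.mp hcard
  intro c hc
  have hcC : c ∈ C := hCdef ▸ hc
  have : (⟨c, hcC⟩ : ↥C) ∈ (P : Subgroup ↥C) := by rw [hPtop]; trivial
  exact hPV _ this

end Cfsg.Agent.H9KL
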