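import Mathlib
import Cfsg.Prelude.Def_FusionComponents
import Cfsg.Agent.Lib.Helper9.Realize2
import Cfsg.Agent.Lib.Helper9.SylowAux
import Cfsg.Agent.Lib.Helper6.PPrimeCore

set_option autoImplicit false
open Cfsg
open Cfsg.FusionSystem

/-! Passing a realization to a quotient by a normal `p'`-subgroup, and to a subgroup with the same fusion. -/

namespace Cfsg.Agent.Lib.Helper9

variable {Ω : Type*} [Group Ω] {S : Subgroup Ω} {G : Type*} [Group G]

/-- Conjugation modulo a normal `p'`-subgroup lifts to honest conjugation on subgroups of a Sylow subgroup. -/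
theorem exists_conj_of_conj_mod [Finite G] {p : ℕ} [Fact p.Prime] (T : Sylow p G) (K : Subgroup G) [hKn : K.Normal]
    (hK : (Nat.card K).Coprime p) (B : Subgroup G) (hB : IsPGroup p B)
    (f : B → G) (hfT : ∀ b : B, f b ∈ (T : Subgroup G)) (hfK : ∀ b : B, (f b)⁻¹ * (b : G) ∈ K) :
    ∃ k ∈ K, ∀ b : B, f b = k * (b : G) * k⁻¹ := by
  have hBle : B ≤ (T : Subgroup G) ⊔ K := by
    intro b hb
    have h1 : b = f ⟨b, hb⟩ * ((f ⟨b, hb⟩)⁻¹ * b) := by group
    rw [h1]
    exact Subgroup.mul_mem _ (Subgroup.mem_sup_left (hfT _)) (Subgroup.mem_sup_right (hfK _))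
  obtain ⟨m, hm, Hm⟩ := exists_conj_mem_sylow_of_le T ((T : Subgroup G) ⊔ K) le_sup_left B hB hBle
  rw [Subgroup.mem_sup_of_normal_right] at hm
  obtain ⟨t, ht, k, hk, rfl⟩ := hm
  refine ⟨k, hk, fun b => ?_⟩
  have h1 : k * (b : G) * k⁻¹ ∈ (T : Subgroup G) := by
    have h2 := Hm b b.2
    have h3 : k * (b : G) * k⁻¹ = t⁻¹ * (t * k * (b : G) * (t * k)⁻¹) * t := by group
    rw [h3]
    exact Subgroup.mul_mem _ (Subgroup.mul_mem _ (Subgroup.inv_mem _ ht) h2) ht
  have h4 : (f b)⁻¹ * (k * (b : G) * k⁻¹) ∈ (T : Subgroup G) ⊓ K := by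
    refine ⟨Subgroup.mul_mem _ (Subgroup.inv_mem _ (hfT b)) h1, ?_⟩
    have h5 : (f b)⁻¹ * (k * (b : G) * k⁻¹) = ((f b)⁻¹ * k * (f b)⁻¹⁻¹) * ((f b)⁻¹ * (b : G)) * k⁻¹ := by group
    rw [h5]
    exact Subgroup.mul_mem _ (Subgroup.mul_mem _ (hKn.conj_mem _ hk _) (hfK b)) (Subgroup.inv_mem _ hk)
  rw [Cfsg.Agent.Lib.Helper6.isPGroup_inf_coprime_eq_bot hK T.isPGroup', Subgroup.mem_bot] at h4
  exact inv_mul_eq_one.mp h4

/-- A realization passes to the quotient by a normal subgroup of order prime to `p`. -/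
theorem realized_quotient [Finite G] {p : ℕ} [Fact p.Prime] (F : FusionSystem S) (ι : S →* G)
    (hι : F.IsRealizedBy ι) (T : Sylow p G) (hT : (T : Subgroup G) = ι.range) (K : Subgroup G) [hKn : K.Normal]
    (hK : (Nat.card K).Coprime p) :
    F.IsRealizedBy ((QuotientGroup.mk' K).comp ι) ∧
      ∃ T' : Sylow p (G ⧸ K), (T' : Subgroup (G ⧸ K)) = ((QuotientGroup.mk' K).comp ι).range := by
  have hinj := hι.1
  have hιT : ∀ s : S, ι s ∈ (T : Subgroup G) := fun s => hT ▸ ⟨s, rfl⟩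
  have hbot := Cfsg.Agent.Lib.Helper6.isPGroup_inf_coprime_eq_bot hK T.isPGroup'
  refine ⟨⟨?_, ?_⟩, ?_⟩
  · rw [injective_iff_map_eq_one]
    intro s hs
    have h1 : ι s ∈ K := by
      have : (QuotientGroup.mk' K) (ι s) = 1 := hs
      rwa [QuotientGroup.mk'_apply, QuotientGroup.eq_one_iff] at this
    have h2 : ι s ∈ (T : Subgroup G) ⊓ K := ⟨hιT s, h1⟩
    rw [hbot, Subgroup.mem_bot] at h2
    exact (injective_iff_map_eq_one ι).mp hinj s h2
  · intro P hP φ hφ
    constructor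
    · intro h
      obtain ⟨g, Hg⟩ := (hι.2 P hP φ hφ).mp h
      refine ⟨QuotientGroup.mk' K g, fun x => ?_⟩
      show QuotientGroup.mk' K (ι ⟨φ x, hφ x⟩) = _
      rw [Hg x, map_mul, map_mul, map_inv]
      rfl
    · rintro ⟨g', Hg'⟩
      obtain ⟨g, rfl⟩ := QuotientGroup.mk'_surjective K g'
      -- the subgroup B = g ι(P) g⁻¹
      obtain ⟨γ, hγdef⟩ : ∃ γ : P →* G,
          γ = (MulAut.conj g).toMonoidHom.comp (ι.comp (Subgroup.inclusion hP)) := ⟨_, rfl⟩
      have hγx : ∀ x : P, γ x = g * ι ⟨x, hP x.2⟩ * g⁻¹ := by intro x; rw [hγdef]; rfl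
      have hγinj : Function.Injective γ := by
        intro a b hab
        rw [hγx, hγx] at hab
        have := hinj (mul_left_cancel (mul_right_cancel hab))
        exact Subtype.ext (congrArg (fun z : S => (z : Ω)) this)
      have hPp : IsPGroup p P := by
        have hSp : IsPGroup p S := by
          have : IsPGroup p ι.range := hT ▸ T.isPGroup'
          exact this.of_injective ι.rangeRestrict (MonoidHom.rangeRestrict_injective_iff.mpr hinj)
        exact hSp.of_injective (Subgroup.inclusion hP) (Subgroup.inclusion_injective hP)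
      have hBp : IsPGroup p γ.range := hPp.of_surjective γ.rangeRestrict γ.rangeRestrict_surjective
      -- the function b ↦ ι(φ(γ⁻¹ b))
      have hex : ∀ b : γ.range, ∃ x : P, γ x = b := fun b => b.2
      choose xb hxb using hex
      have hkey : ∀ x : P, (ι ⟨φ x, hφ x⟩)⁻¹ * γ x ∈ K := by
        intro x
        have h1 := Hg' x
        have h2 : QuotientGroup.mk' K (ι ⟨φ x, hφ x⟩) = QuotientGroup.mk' K (γ x) := by
          rw [hγx, map_mul, map_mul, map_inv]
          exact h1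
        rw [QuotientGroup.mk'_apply, QuotientGroup.mk'_apply, QuotientGroup.eq] at h2
        exact h2
      obtain ⟨k, hk, Hk⟩ := exists_conj_of_conj_mod T K hK γ.range hBp
        (fun b => ι ⟨φ (xb b), hφ _⟩) (fun b => hιT _) (fun b => by
          have := hkey (xb b)
          rw [hxb b] at this
          exact this)
      rw [hι.2 P hP φ hφ]
      refine ⟨k * g, fun x => ?_⟩
      have h1 := Hk ⟨γ x, ⟨x, rfl⟩⟩
      have h2 : xb ⟨γ x, ⟨x, rfl⟩⟩ = x := hγinj (hxb _)
      rw [h2] at h1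
      rw [h1]
      show k * γ x * k⁻¹ = _
      rw [hγx]
      group
  · refine ⟨T.mapSurjective (QuotientGroup.mk'_surjective K), ?_⟩
    rw [Sylow.coe_mapSurjective, hT, MonoidHom.range_comp]

/-- A realization restricts to a subgroup containing the Sylow subgroup and inducing the same fusion. -/
theorem realized_subgroup [Finite G] {p : ℕ} [Fact p.Prime] (F : FusionSystem S) (ι : S →* G)
    (hι : F.IsRealizedBy ι) (T : Sylow p G) (hT : (T : Subgroup G) = ι.range) (H : Subgroup G)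
    (hTH : (T : Subgroup G) ≤ H) (hsame : ∀ P : Subgroup Ω, F.Hom P ⊆ (realSub ι hι.1 H).Hom P) :
    ∃ ι' : S →* H, F.IsRealizedBy ι' ∧ ∃ T' : Sylow p H, (T' : Subgroup H) = ι'.range := by
  have hιT : ∀ s : S, ι s ∈ (T : Subgroup G) := fun s => hT ▸ ⟨s, rfl⟩
  refine ⟨ι.codRestrict H (fun s => hTH (hιT s)), ⟨?_, ?_⟩, T.subtype hTH, ?_⟩
  · intro a b hab
    exact hι.1 (congrArg (fun z : H => (z : G)) hab)
  · intro P hP φ hφ
    constructor
    · intro h
      obtain ⟨_, _, n, hn, Hn⟩ := hsame P h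
      refine ⟨⟨n, hn⟩, fun x => ?_⟩
      apply Subtype.ext
      exact Hn x
    · rintro ⟨n, Hn⟩
      rw [hι.2 P hP φ hφ]
      exact ⟨n, fun x => congrArg (fun z : H => (z : G)) (Hn x)⟩
  · ext y
    rw [Sylow.coe_subtype, Subgroup.mem_subgroupOf, hT]
    constructor
    · rintro ⟨s, hs⟩
      exact ⟨s, Subtype.ext hs⟩
    · rintro ⟨s, rfl⟩
      exact ⟨s, rfl⟩

end Cfsg.Agent.Lib.Helper9
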