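import Mathlib
import Cfsg.Prelude
import Cfsg.Agent.Lib.Helper9.KL15
import Cfsg.Agent.Lib.Helper9.Realize4
import Cfsg.Agent.Lib.Helper9.PCore
import Cfsg.Agent.Lib.Helper4.SolvBalance

set_option autoImplicit false

/-!
# Kessar–Linckelmann cascade (part 16): from a realization with a normal centric subgroup to a model
-/

namespace Cfsg.Agent.H9KL

open Cfsg Cfsg.FusionSystem Cfsg.Agent.Lib.Helper9

variable {Ω : Type*} [Group Ω]

/-- If `G` realizes `N` on a Sylow subgroup and some `V` has `κ(V) ⊴ G` and `C_A(V) ≤ V`, then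
`G / O_{p'}(G)` is a model of `N`. -/
theorem model_of_realized_normal_centric {A : Subgroup Ω} [Finite A] (p : ℕ) [Fact p.Prime]
    (hA : IsPGroup p A) (N : FusionSystem A) {G : Type*} [Group G] [Finite G] (κ : A →* G)
    (hκ : N.IsRealizedBy κ) (TG : Sylow p G) (hTG : (TG : Subgroup G) = κ.range) {V : Subgroup Ω}
    (hVA : V ≤ A) (hVn : ((V.subgroupOf A).map κ).Normal) (hVc : centralizerIn A V ≤ V) :
    N.IsModel p (G ⧸ pPrimeCore p G) ((QuotientGroup.mk' (pPrimeCore p G)).comp κ) := by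
  have hKcop := Cfsg.Agent.Lib.Helper6.pPrimeCore_coprime (G := G) p
  obtain ⟨hreal, T', hT'⟩ := realized_quotient N κ hκ TG hTG (pPrimeCore p G) hKcop
  refine ⟨inferInstance, hreal, ⟨T', hT'⟩, ?_⟩
  have hO := Cfsg.Agent.Lib.Helper4.pPrimeCore_quotient_self (G := G) p
  -- the image of `V`
  obtain ⟨V', hV'def⟩ : ∃ V' : Subgroup (G ⧸ pPrimeCore p G),
      V' = (V.subgroupOf A).map ((QuotientGroup.mk' (pPrimeCore p G)).comp κ) := ⟨_, rfl⟩
  have hV'n : V'.Normal := by
    have h1 : V' = ((V.subgroupOf A).map κ).map (QuotientGroup.mk' (pPrimeCore p G)) := by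
      rw [hV'def, Subgroup.map_map]
    rw [h1]
    exact Subgroup.Normal.map hVn _ (QuotientGroup.mk'_surjective _)
  have hV'p : IsPGroup p V' := by
    rw [hV'def]; exact (hA.to_subgroup _).map _
  have hcen : (T' : Subgroup (G ⧸ pPrimeCore p G)) ⊓ Subgroup.centralizer (V' : Set (G ⧸ pPrimeCore p G)) ≤ V' := by
    rintro x ⟨hxT, hxC'⟩
    have hxC : x ∈ Subgroup.centralizer (V' : Set (G ⧸ pPrimeCore p G)) := hxC'
    have hxT : x ∈ (T' : Subgroup (G ⧸ pPrimeCore p G)) := hxT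
    rw [hT'] at hxT
    obtain ⟨a, rfl⟩ := hxT
    have haC : (a : Ω) ∈ centralizerIn A V := by
      refine ⟨a.2, ?_⟩
      show (a : Ω) ∈ Subgroup.centralizer (V : Set Ω)
      rw [Subgroup.mem_centralizer_iff]
      intro v hv
      rw [Subgroup.mem_centralizer_iff] at hxC
      have h1 := hxC (((QuotientGroup.mk' (pPrimeCore p G)).comp κ) ⟨v, hVA hv⟩)
        (by rw [hV'def]; exact ⟨⟨v, hVA hv⟩, hv, rfl⟩)
      rw [← map_mul, ← map_mul] at h1
      exact congrArg Subtype.val (hreal.1 h1)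
    rw [hV'def]
    exact ⟨a, hVc haC, rfl⟩
  have hcentV := centralizer_le_of_normal_centric T' V' hcen hO
  have hle : V' ≤ pCore p (G ⧸ pPrimeCore p G) := le_pCore hV'n hV'p
  exact ((Subgroup.centralizer_le hle).trans hcentV).trans hle

end Cfsg.Agent.H9KL
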