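import Mathlib
import Cfsg.Prelude
import Cfsg.Agent.Lib.Helper9.KL19

set_option autoImplicit false

/-!
# Kessar–Linckelmann cascade (part 20): the quotient of a realizing group of `N_F(T)` realizes `N_{F/Q}(T/Q)`
-/

namespace Cfsg.Agent.H9KL

open Cfsg Cfsg.FusionSystem Cfsg.Agent.Lib.Helper9

variable {Ω : Type*} [Group Ω] {S : Subgroup Ω} {Ω' : Type*} [Group Ω'] {S' : Subgroup Ω'}

set_option maxHeartbeats 1000000 in
theorem quotient_realized [Finite S] (F : FusionSystem S) {Q : Subgroup Ω} (θ : S →* Ω') (E : FusionSystem S')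
    (hE : F.IsFactorSystem Q θ E) (hmor : F.IsMorphism E θ)
    {Tb : Subgroup Ω'} (hTbS' : Tb ≤ S') {T : Subgroup Ω} (hT : T = preimageAlong θ Tb)
    (NT : FusionSystem (normalizerIn S T)) (hNT : F.IsNormalizerSystem T NT)
    (Nb : FusionSystem (normalizerIn S' Tb)) (hNb : E.IsNormalizerSystem Tb Nb)
    {G : Type*} [Group G] (ι : normalizerIn S T →* G) (hι : NT.IsRealizedBy ι)
    (hTn : ((T.subgroupOf (normalizerIn S T)).map ι).Normal)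
    [hQn : ((Q.subgroupOf (normalizerIn S T)).map ι).Normal] :
    ∃ θb : normalizerIn S' Tb →* G ⧸ ((Q.subgroupOf (normalizerIn S T)).map ι),
      Nb.IsRealizedBy θb ∧
      (∀ (a : normalizerIn S T) (h : θ ⟨a, a.2.1⟩ ∈ normalizerIn S' Tb),
        θb ⟨θ ⟨a, a.2.1⟩, h⟩ = QuotientGroup.mk' ((Q.subgroupOf (normalizerIn S T)).map ι) (ι a)) := by
  obtain ⟨hQS, hker, hrange, hhom⟩ := hE
  have hθS' : ∀ s : S, θ s ∈ S' := fun s => hrange ▸ ⟨s, rfl⟩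
  have hmemT : ∀ x : Ω, x ∈ T ↔ ∃ hx : x ∈ S, θ ⟨x, hx⟩ ∈ Tb := fun x => by
    rw [hT]; exact mem_preimageAlong_iff θ Tb x
  have hTS : T ≤ S := fun x hx => ((hmemT x).mp hx).1
  have hA : normalizerIn S T = preimageAlong θ (normalizerIn S' Tb) := by
    rw [hT]; exact normalizerIn_preimageAlong θ hrange hTbS'
  have hmemA : ∀ x : Ω, x ∈ normalizerIn S T ↔ ∃ hx : x ∈ S, θ ⟨x, hx⟩ ∈ normalizerIn S' Tb := fun x => by
    rw [hA]; exact mem_preimageAlong_iff θ _ x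
  have hTA : T ≤ normalizerIn S T := le_normalizerIn_self hTS
  have hTbR : Tb ≤ normalizerIn S' Tb := le_normalizerIn_self hTbS'
  have hQT : Q ≤ T := by
    intro x hx
    rw [hmemT]
    refine ⟨hQS hx, ?_⟩
    rw [(hker ⟨x, hQS hx⟩).mpr hx]
    exact Tb.one_mem
  -- the restriction of θ to `A = N_S(T)`
  have hθA : ∀ a : normalizerIn S T, θ ⟨a, a.2.1⟩ ∈ normalizerIn S' Tb := fun a => ((hmemA a).mp a.2).2
  obtain ⟨θA, hθAdef⟩ : ∃ θA : normalizerIn S T →* normalizerIn S' Tb,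
      θA = (θ.comp (Subgroup.inclusion (inf_le_left : normalizerIn S T ≤ S))).codRestrict _ hθA := ⟨_, rfl⟩
  have hθAapp : ∀ a : normalizerIn S T, ((θA a : normalizerIn S' Tb) : Ω') = θ ⟨a, a.2.1⟩ := by
    intro a; rw [hθAdef]; rfl
  have hθAsurj : Function.Surjective θA := by
    intro r
    have hr : (r : Ω') ∈ θ.range := by rw [hrange]; exact r.2.1
    obtain ⟨s, hs⟩ := hr
    have hsA : (s : Ω) ∈ normalizerIn S T := by
      rw [hmemA]; exact ⟨s.2, by rw [Subtype.coe_eta, hs]; exact r.2⟩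
    exact ⟨⟨s, hsA⟩, Subtype.ext ((hθAapp _).trans hs)⟩
  have hkerle : θA.ker ≤ ((QuotientGroup.mk' ((Q.subgroupOf (normalizerIn S T)).map ι)).comp ι).ker := by
    intro a ha
    rw [MonoidHom.mem_ker] at ha ⊢
    have h1 : θ ⟨a, a.2.1⟩ = 1 := by
      rw [← hθAapp, ha]; rfl
    have haQ : (a : Ω) ∈ Q := (hker _).mp h1
    show (QuotientGroup.mk (ι a) : G ⧸ _) = 1
    rw [QuotientGroup.eq_one_iff]
    exact ⟨a, haQ, rfl⟩
  obtain ⟨θb, hθb⟩ := exists_lift_hom θA hθAsurj _ hkerle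
  have hθb' : ∀ (a : normalizerIn S T) (h : θ ⟨a, a.2.1⟩ ∈ normalizerIn S' Tb),
      θb ⟨θ ⟨a, a.2.1⟩, h⟩ = QuotientGroup.mk' ((Q.subgroupOf (normalizerIn S T)).map ι) (ι a) := by
    intro a h
    have e1 := hθb a
    have e2 : θA a = ⟨θ ⟨a, a.2.1⟩, h⟩ := Subtype.ext (hθAapp a)
    rw [e2] at e1
    exact e1
  have hθbinj : Function.Injective θb := by
    rw [injective_iff_map_eq_one]
    intro r hr
    obtain ⟨a, rfl⟩ := hθAsurj r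
    rw [hθb] at hr
    have h1 : ι a ∈ (Q.subgroupOf (normalizerIn S T)).map ι := by
      have : (QuotientGroup.mk (ι a) : G ⧸ _) = 1 := hr
      rwa [QuotientGroup.eq_one_iff] at this
    obtain ⟨q, hq, hqa⟩ := h1
    have hqQ : (q : Ω) ∈ Q := hq
    rw [hι.1 hqa] at hqQ
    apply Subtype.ext
    rw [hθAapp]
    exact (hker _).mpr hqQ
  refine ⟨θb, ⟨hθbinj, ?_⟩, hθb'⟩
  intro Pb hPb φb hφbR
  -- common objects
  have hsupR : Pb ⊔ Tb ≤ normalizerIn S' Tb := sup_le hPb hTbR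
  have hsupS' : Pb ⊔ Tb ≤ S' := hsupR.trans inf_le_left
  obtain ⟨P₁, hP₁def⟩ : ∃ P₁ : Subgroup Ω, P₁ = preimageAlong θ (Pb ⊔ Tb) := ⟨_, rfl⟩
  have hmemP₁ : ∀ x : Ω, x ∈ P₁ ↔ ∃ hx : x ∈ S, θ ⟨x, hx⟩ ∈ Pb ⊔ Tb := fun x => by
    rw [hP₁def]; exact mem_preimageAlong_iff θ _ x
  have hP₁S : P₁ ≤ S := fun x hx => ((hmemP₁ x).mp hx).1
  have hθP₁ : ∀ x : P₁, θ ⟨x, hP₁S x.2⟩ ∈ Pb ⊔ Tb := fun x => ((hmemP₁ x).mp x.2).2
  have hTP₁ : T ≤ P₁ := by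
    intro x hx
    obtain ⟨hxS, hxT⟩ := (hmemT x).mp hx
    rw [hmemP₁]
    exact ⟨hxS, Subgroup.mem_sup_right hxT⟩
  have hP₁A : P₁ ≤ normalizerIn S T := by
    intro x hx
    obtain ⟨hxS, hxP⟩ := (hmemP₁ x).mp hx
    rw [hmemA]
    exact ⟨hxS, hsupR hxP⟩
  haveI : Finite T := fs_finite_of_le hTS
  haveI : Finite S' := by
    rw [← hrange]
    exact Finite.of_surjective θ.rangeRestrict θ.rangeRestrict_surjective
  haveI : Finite Tb := fs_finite_of_le hTbS'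
  -- lifting elements of `Pb ⊔ Tb`
  have hlift : ∀ y : ↥(Pb ⊔ Tb), ∃ x : P₁, θ ⟨x, hP₁S x.2⟩ = (y : Ω') := by
    intro y
    have hy : (y : Ω') ∈ θ.range := by rw [hrange]; exact hsupS' y.2
    obtain ⟨s, hs⟩ := hy
    have hsP : (s : Ω) ∈ P₁ := by
      rw [hmemP₁]; exact ⟨s.2, by rw [Subtype.coe_eta, hs]; exact y.2⟩
    exact ⟨⟨s, hsP⟩, hs⟩
  constructor
  · intro h
    rw [hNb Pb] at h
    obtain ⟨-, -, -, ψb, hψbE, hext, hψbT⟩ := h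
    obtain ⟨-, ψ₀, hψ₀, hind⟩ := (hhom _ ψb).mp hψbE
    obtain ⟨ψ, hψdef⟩ : ∃ ψ : P₁ →* Ω, ψ = ψ₀.comp (Subgroup.inclusion (le_of_eq hP₁def)) := ⟨_, rfl⟩
    have hψ : ψ ∈ F.Hom P₁ := by rw [hψdef]; exact fs_restrict_mem F hψ₀ _
    have hψS : ∀ x : P₁, ψ x ∈ S := (F.le_of_mem hψ).2
    have Hind : ∀ x : P₁, ψb ⟨θ ⟨x, hP₁S x.2⟩, hθP₁ x⟩ = θ ⟨ψ x, hψS x⟩ := by
      intro x
      have e1 := inducedAlong_apply hind (Subgroup.inclusion (le_of_eq hP₁def) x) (hP₁S x.2) (hθP₁ x)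
        ((F.le_of_mem hψ₀).2 _)
      refine Eq.trans ?_ (e1.trans ?_)
      · rfl
      · congr 1
        apply Subtype.ext
        show ψ₀ (Subgroup.inclusion (le_of_eq hP₁def) x) = ψ x
        rw [hψdef]
        rfl
    have hψT : (T.subgroupOf P₁).map ψ = T := by
      apply map_eq_of_le_of_injective hTP₁ ψ (F.injective_of_mem hψ) _ le_rfl
      rintro _ ⟨x, hx, rfl⟩
      have hxT : (x : Ω) ∈ T := hx
      rw [hmemT]
      refine ⟨hψS x, ?_⟩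
      rw [← Hind x]
      apply hψbT.le
      exact ⟨_, ((hmemT _).mp hxT).2, rfl⟩
    have hψNT : ψ ∈ NT.Hom P₁ := by
      rw [hNT]; exact mem_normalizerHom_of_map_eq F hTP₁ hψ hP₁A hψT
    have hψA : ∀ x : P₁, ψ x ∈ normalizerIn S T := (NT.le_of_mem hψNT).2
    obtain ⟨g, Hg⟩ := (hι.2 P₁ hP₁A ψ hψA).mp hψNT
    refine ⟨QuotientGroup.mk' _ g, fun xb => ?_⟩
    obtain ⟨x, hx⟩ := hlift (Subgroup.inclusion le_sup_left xb)
    have hx' : θ ⟨x, hP₁S x.2⟩ = (xb : Ω') := hx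
    have e1 : (⟨φb xb, hφbR xb⟩ : normalizerIn S' Tb) =
        ⟨θ ⟨((⟨ψ x, hψA x⟩ : normalizerIn S T) : Ω), (hψA x).1⟩, hθA ⟨ψ x, hψA x⟩⟩ := by
      apply Subtype.ext
      show φb xb = θ ⟨ψ x, _⟩
      rw [← hext xb, ← Hind x]
      congr 1
      exact Subtype.ext hx'.symm
    have e2 : (⟨(xb : Ω'), hPb xb.2⟩ : normalizerIn S' Tb) =
        ⟨θ ⟨((⟨x, hP₁A x.2⟩ : normalizerIn S T) : Ω), (hP₁A x.2).1⟩, hθA ⟨x, hP₁A x.2⟩⟩ :=
      Subtype.ext hx'.symm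
    rw [e1, e2, hθb', hθb', Hg x, map_mul, map_mul, map_inv]
  · rintro ⟨gb, Hgb⟩
    obtain ⟨g, rfl⟩ := QuotientGroup.mk'_surjective _ gb
    -- conjugation by `mk g` keeps `θb(Pb ⊔ Tb)` inside the image of `θb`
    have hrangeb : ∀ y : ↥(Pb ⊔ Tb),
        QuotientGroup.mk' ((Q.subgroupOf (normalizerIn S T)).map ι) g * θb ⟨y, hsupR y.2⟩ *
          (QuotientGroup.mk' ((Q.subgroupOf (normalizerIn S T)).map ι) g)⁻¹ ∈ θb.range := by
      have := sup_forall_mem (P := Pb) (Q := Tb)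
        ((MulAut.conj (QuotientGroup.mk' ((Q.subgroupOf (normalizerIn S T)).map ι) g)).toMonoidHom.comp
          (θb.comp (Subgroup.inclusion hsupR))) θb.range ?_ ?_
      · exact this
      · intro x
        show QuotientGroup.mk' _ g * θb ⟨x, _⟩ * (QuotientGroup.mk' _ g)⁻¹ ∈ _
        rw [← Hgb x]
        exact ⟨_, rfl⟩
      · intro x
        show QuotientGroup.mk' _ g * θb ⟨x, _⟩ * (QuotientGroup.mk' _ g)⁻¹ ∈ _
        obtain ⟨s, hs⟩ : (x : Ω') ∈ θ.range := by rw [hrange]; exact hTbS' x.2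
        have hsT : (s : Ω) ∈ T := by
          rw [hmemT]; exact ⟨s.2, by rw [Subtype.coe_eta, hs]; exact x.2⟩
        have e2 : (⟨(x : Ω'), hTbR x.2⟩ : normalizerIn S' Tb) =
            ⟨θ ⟨((⟨s, hTA hsT⟩ : normalizerIn S T) : Ω), (hTA hsT).1⟩, hθA ⟨s, hTA hsT⟩⟩ :=
          Subtype.ext hs.symm
        rw [e2, hθb', ← map_inv, ← map_mul, ← map_mul]
        have h1 : ι ⟨s, hTA hsT⟩ ∈ (T.subgroupOf (normalizerIn S T)).map ι := ⟨⟨s, hTA hsT⟩, hsT, rfl⟩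
        obtain ⟨t, -, ht⟩ := hTn.conj_mem _ h1 g
        rw [← ht, ← hθb' t (hθA t)]
        exact ⟨_, rfl⟩
    have hval : ∀ x : P₁, g * ι ⟨x, hP₁A x.2⟩ * g⁻¹ ∈ ι.range := by
      intro x
      obtain ⟨r, hr⟩ := hrangeb ⟨θ ⟨x, hP₁S x.2⟩, hθP₁ x⟩
      obtain ⟨a, rfl⟩ := hθAsurj r
      rw [hθb] at hr
      have e2 : (⟨((⟨θ ⟨x, hP₁S x.2⟩, hθP₁ x⟩ : ↥(Pb ⊔ Tb)) : Ω'), hsupR (hθP₁ x)⟩ : normalizerIn S' Tb) =
          ⟨θ ⟨((⟨x, hP₁A x.2⟩ : normalizerIn S T) : Ω), (hP₁A x.2).1⟩, hθA ⟨x, hP₁A x.2⟩⟩ := rfl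
      rw [e2, hθb', ← map_inv, ← map_mul, ← map_mul] at hr
      have h1 : (ι a)⁻¹ * (g * ι ⟨x, hP₁A x.2⟩ * g⁻¹) ∈ (Q.subgroupOf (normalizerIn S T)).map ι :=
        QuotientGroup.eq.mp hr
      obtain ⟨q, -, hq⟩ := h1
      refine ⟨a * q, ?_⟩
      rw [map_mul, hq]
      group
    obtain ⟨ψ, hψdef⟩ : ∃ ψ : P₁ →* Ω, ψ = liftConj ι hι.1 hP₁A g hval := ⟨_, rfl⟩
    have hψA : ∀ x : P₁, ψ x ∈ normalizerIn S T := by
      intro x; rw [hψdef]; exact liftConj_mem ι hι.1 hP₁A g hval x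
    have Hψ : ∀ x : P₁, ι ⟨ψ x, hψA x⟩ = g * ι ⟨x, hP₁A x.2⟩ * g⁻¹ := by
      intro x
      subst hψdef
      exact ι_liftConj ι hι.1 hP₁A g hval x _
    have hψNT : ψ ∈ NT.Hom P₁ := by rw [hψdef]; exact liftConj_mem_hom hι hP₁A g hval
    have hψF : ψ ∈ F.Hom P₁ := by
      rw [hNT] at hψNT; exact hψNT.1
    have hψS : ∀ x : P₁, ψ x ∈ S := (F.le_of_mem hψF).2
    obtain ⟨ψ', hψ', Hψ'⟩ := morph_push F E θ hmor hψF
    have hle : Pb ⊔ Tb ≤ imageAlong θ P₁ := by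
      rw [hP₁def]
      exact le_imageAlong_preimageAlong θ (hrange ▸ hsupS')
    have hψbE : ψ'.comp (Subgroup.inclusion hle) ∈ E.Hom (Pb ⊔ Tb) := fs_restrict_mem E hψ' hle
    have Hψb : ∀ (y : ↥(Pb ⊔ Tb)) (x : P₁), θ ⟨x, hP₁S x.2⟩ = (y : Ω') →
        (ψ'.comp (Subgroup.inclusion hle)) y = θ ⟨ψ x, hψS x⟩ := by
      intro y x hxy
      have e1 := Hψ' x (hP₁S x.2) (apply_mem_imageAlong θ (hP₁S x.2) x.2) (hψS x)
      rw [← e1]
      show ψ' ⟨(y : Ω'), _⟩ = _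
      congr 1
      exact Subtype.ext hxy.symm
    -- `ψ` preserves `T`
    have hψTmem : ∀ x : P₁, (x : Ω) ∈ T → ψ x ∈ T := by
      intro x hxT
      have h1 : ι ⟨x, hP₁A x.2⟩ ∈ (T.subgroupOf (normalizerIn S T)).map ι := ⟨⟨x, hP₁A x.2⟩, hxT, rfl⟩
      obtain ⟨t, ht, htx⟩ := hTn.conj_mem _ h1 g
      have htT : (t : Ω) ∈ T := ht
      rw [← Hψ x] at htx
      rw [hι.1 htx] at htT
      exact htT
    have hext : ∀ xb : Pb, (ψ'.comp (Subgroup.inclusion hle)) (Subgroup.inclusion le_sup_left xb) = φb xb := by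
      intro xb
      obtain ⟨x, hx⟩ := hlift (Subgroup.inclusion le_sup_left xb)
      rw [Hψb _ x hx]
      have hx' : θ ⟨x, hP₁S x.2⟩ = (xb : Ω') := hx
      have e1 : θb ⟨θ ⟨((⟨ψ x, hψA x⟩ : normalizerIn S T) : Ω), (hψA x).1⟩, hθA ⟨ψ x, hψA x⟩⟩ =
          θb ⟨φb xb, hφbR xb⟩ := by
        rw [hθb', Hψ x, Hgb xb, map_mul, map_mul, map_inv]
        congr 2
        have e2 : (⟨(xb : Ω'), hPb xb.2⟩ : normalizerIn S' Tb) =
            ⟨θ ⟨((⟨x, hP₁A x.2⟩ : normalizerIn S T) : Ω), (hP₁A x.2).1⟩, hθA ⟨x, hP₁A x.2⟩⟩ :=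
          Subtype.ext hx'.symm
        rw [e2, hθb']
      exact congrArg Subtype.val (hθbinj e1)
    have hψbT : (Tb.subgroupOf (Pb ⊔ Tb)).map (ψ'.comp (Subgroup.inclusion hle)) = Tb := by
      apply map_eq_of_le_of_injective le_sup_right _ (E.injective_of_mem hψbE) _ le_rfl
      rintro _ ⟨y, hy, rfl⟩
      have hyT : (y : Ω') ∈ Tb := hy
      obtain ⟨x, hx⟩ := hlift y
      rw [Hψb y x hx]
      have hxT : (x : Ω) ∈ T := by
        rw [hmemT]; exact ⟨hP₁S x.2, by rw [hx]; exact hyT⟩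
      exact ((hmemT _).mp (hψTmem x hxT)).2
    rw [hNb Pb]
    exact mem_normalizerHom_of_extension E le_sup_left le_sup_right hPb hφbR hψbE hext hψbT

end Cfsg.Agent.H9KL
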