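import Mathlib
import Cfsg.Prelude
import Cfsg.Agent.Lib.Helper9.KL20
import Cfsg.Agent.Lib.Helper9.KL16
import Cfsg.Agent.S5134

set_option autoImplicit false

/-!
# Kessar–Linckelmann cascade (part 21): factor systems of `H`-free systems are `H`-free
-/

namespace Cfsg.Agent.H9KL

open Cfsg Cfsg.FusionSystem Cfsg.Agent.Lib.Helper9

universe u v

theorem factor_sectionFree {Ω : Type u} [Group Ω] {S : Subgroup Ω} [Finite S] (p : ℕ) [Fact p.Prime]
    (hS : IsPGroup p S) (F : FusionSystem S) (hF : F.IsSaturated p) (Q : Subgroup Ω) (hQ : F.IsNormal Q)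
    {H : Type*} [Group H] (hfree : F.IsSectionFree p H) {Ω' : Type v} [Group Ω'] {S' : Subgroup Ω'}
    (θ : S →* Ω') (E : FusionSystem S') (hE : F.IsFactorSystem Q θ E) : E.IsSectionFree p H := by
  have hsc := fs_stronglyClosed_of_isNormal F hQ
  obtain ⟨hmor, hrange, -⟩ := Cfsg.Agent.S5134.result p hS F hF Q hsc θ E hE
  have hker := hE.2.1
  have hQS := hE.1
  haveI hfinS' : Finite S' := by
    rw [← hrange]
    exact Finite.of_surjective θ.rangeRestrict θ.rangeRestrict_surjective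
  have hS'p : IsPGroup p S' := by
    have h1 : IsPGroup p θ.range := hS.of_surjective θ.rangeRestrict θ.rangeRestrict_surjective
    rw [hrange] at h1
    exact h1
  intro Tb hTbfn hTbc Nb hNb Lb _ ιb hLb
  have hTbS' : Tb ≤ S' := hTbfn.1
  obtain ⟨T, hTdef⟩ : ∃ T : Subgroup Ω, T = preimageAlong θ Tb := ⟨_, rfl⟩
  have hmemT : ∀ x : Ω, x ∈ T ↔ ∃ hx : x ∈ S, θ ⟨x, hx⟩ ∈ Tb := fun x => by
    rw [hTdef]; exact mem_preimageAlong_iff θ Tb x
  have hTc : F.IsCentric T := by rw [hTdef]; exact centric_preimage p hS F E θ hmor hrange hTbc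
  have hTfn : F.IsFullyNormalized T := by rw [hTdef]; exact fn_preimage p hS F E θ hmor hrange hTbfn
  have hTS : T ≤ S := hTfn.1
  have hTA : T ≤ normalizerIn S T := le_normalizerIn_self hTS
  obtain ⟨NT, hNT⟩ := Cfsg.Agent.S5096.result F T hTS
  obtain ⟨hTnorm, -, G, _, ι, hG⟩ := exists_model_of_fn_centric p hS F hF hTfn hTc NT hNT
  have hfreeG : ¬ Involves H G := hfree T hTfn hTc NT hNT G ι hG
  haveI hfinA : Finite ↥(normalizerIn S T) := fs_finite_of_le inf_le_left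
  have hTn : ((T.subgroupOf (normalizerIn S T)).map ι).Normal := model_image_normal p NT ι hG hTnorm
  obtain ⟨hfinG, hι, ⟨TG, hTG⟩, -⟩ := hG
  haveI := hfinG
  have hQT : Q ≤ T := by
    intro x hx
    rw [hmemT]
    refine ⟨hQS hx, ?_⟩
    rw [(hker ⟨x, hQS hx⟩).mpr hx]
    exact Tb.one_mem
  haveI hQn : ((Q.subgroupOf (normalizerIn S T)).map ι).Normal := by
    apply image_normal_of_aut_invariant NT ι hι hTA hQT hTn
    intro α hα x hx
    rw [mem_autGroup_iff NT hTA, hNT] at hα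
    have h1 := fs_restrict_mem F hα.1 hQT
    exact hsc.2 Q le_rfl _ h1 ⟨x, hx⟩
  obtain ⟨θb, hθbreal, hθbspec⟩ := quotient_realized F θ E hE hmor hTbS' hTdef NT hNT Nb hNb ι hι hTn
  haveI hfinR : Finite ↥(normalizerIn S' Tb) := fs_finite_of_le inf_le_left
  have hRp : IsPGroup p ↥(normalizerIn S' Tb) := hS'p.to_le (inf_le_left : normalizerIn S' Tb ≤ S')
  have hA : normalizerIn S T = preimageAlong θ (normalizerIn S' Tb) := by
    rw [hTdef]; exact normalizerIn_preimageAlong θ hrange hTbS'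
  have hmemA : ∀ x : Ω, x ∈ normalizerIn S T ↔ ∃ hx : x ∈ S, θ ⟨x, hx⟩ ∈ normalizerIn S' Tb := fun x => by
    rw [hA]; exact mem_preimageAlong_iff θ _ x
  have hθA : ∀ a : normalizerIn S T, θ ⟨a, a.2.1⟩ ∈ normalizerIn S' Tb := fun a => ((hmemA a).mp a.2).2
  have hliftR : ∀ r : normalizerIn S' Tb, ∃ a : normalizerIn S T, θ ⟨a, a.2.1⟩ = (r : Ω') := by
    intro r
    have hr : (r : Ω') ∈ θ.range := by rw [hrange]; exact r.2.1
    obtain ⟨s, hs⟩ := hr
    have hsA : (s : Ω) ∈ normalizerIn S T := by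
      rw [hmemA]; exact ⟨s.2, by rw [Subtype.coe_eta, hs]; exact r.2⟩
    exact ⟨⟨s, hsA⟩, hs⟩
  -- the Sylow subgroup of the quotient
  have hSyl : ((TG.mapSurjective (QuotientGroup.mk'_surjective
      ((Q.subgroupOf (normalizerIn S T)).map ι)) : Sylow p _) : Subgroup _) = θb.range := by
    rw [Sylow.coe_mapSurjective, hTG]
    ext y
    constructor
    · rintro ⟨_, ⟨a, rfl⟩, rfl⟩
      rw [← hθbspec a (hθA a)]
      exact ⟨_, rfl⟩
    · rintro ⟨r, rfl⟩
      obtain ⟨a, ha⟩ := hliftR r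
      have e : r = ⟨θ ⟨a, a.2.1⟩, hθA a⟩ := Subtype.ext ha.symm
      rw [e, hθbspec]
      exact ⟨ι a, ⟨a, rfl⟩, rfl⟩
  have hTbR : Tb ≤ normalizerIn S' Tb := le_normalizerIn_self hTbS'
  have hVn : ((Tb.subgroupOf (normalizerIn S' Tb)).map θb).Normal := by
    have h1 : (Tb.subgroupOf (normalizerIn S' Tb)).map θb =
        ((T.subgroupOf (normalizerIn S T)).map ι).map
          (QuotientGroup.mk' ((Q.subgroupOf (normalizerIn S T)).map ι)) := by
      ext y
      constructor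
      · rintro ⟨r, hr, rfl⟩
        have hrT : (r : Ω') ∈ Tb := hr
        obtain ⟨a, ha⟩ := hliftR r
        have haT : (a : Ω) ∈ T := by
          rw [hmemT]; exact ⟨a.2.1, by rw [ha]; exact hrT⟩
        have e : r = ⟨θ ⟨a, a.2.1⟩, hθA a⟩ := Subtype.ext ha.symm
        rw [e, hθbspec]
        exact ⟨ι a, ⟨a, haT, rfl⟩, rfl⟩
      · rintro ⟨_, ⟨a, ha, rfl⟩, rfl⟩
        have haT : (a : Ω) ∈ T := ha
        rw [← hθbspec a (hθA a)]
        exact ⟨_, ((hmemT _).mp haT).2, rfl⟩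
    rw [h1]
    exact Subgroup.Normal.map hTn _ (QuotientGroup.mk'_surjective _)
  have hVc : centralizerIn (normalizerIn S' Tb) Tb ≤ Tb := by
    intro x hx
    exact hTbc.2 Tb (fs_isConj_refl E hTbS') ⟨hx.1.1, hx.2⟩
  have hmodel := model_of_realized_normal_centric p hRp Nb θb hθbreal _ hSyl hTbR hVn hVc
  refine not_involves_of_model_quotient p Nb _
    ((QuotientGroup.mk' (pPrimeCore p (G ⧸ ((Q.subgroupOf (normalizerIn S T)).map ι)))).comp
      (QuotientGroup.mk' ((Q.subgroupOf (normalizerIn S T)).map ι))) ?_ hmodel hfreeG ιb hLb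
  exact (QuotientGroup.mk'_surjective _).comp (QuotientGroup.mk'_surjective _)

end Cfsg.Agent.H9KL
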