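import Mathlib
import Cfsg.Prelude.Def_FusionSystem
import Cfsg.Agent.Lib.Helper9.Radical1
import Cfsg.Agent.Lib.Helper9.ChainStab
import Cfsg.Agent.Lib.Helper9.FusionReceptive

set_option autoImplicit false

namespace Cfsg.Agent.Lib.Helper9

open Cfsg Cfsg.FusionSystem

variable {Ω : Type*} [Group Ω] {S : Subgroup Ω}

/-- The automorphisms in `Aut_F(P)` stabilizing an `Aut_F(P)`-invariant chain of subgroups of `P` lie in
`O_p(Aut_F(P))`. -/
theorem chainStab_le_pCore [Finite S] (p : ℕ) [Fact p.Prime] (hS : IsPGroup p S) (F : FusionSystem S)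
    {P : Subgroup Ω} (hPS : P ≤ S) [Finite P] (Ps : ℕ → Subgroup P) (hmono : Monotone Ps) (h0 : Ps 0 = ⊥)
    (M : ℕ) (hM : Ps M = ⊤)
    (hinv : ∀ γ ∈ F.autGroup P, ∀ i : ℕ, ∀ y ∈ Ps i, γ y ∈ Ps i) :
    chainStabilizer Ps hmono h0 ⊓ F.autGroup P ≤ (pCore p (F.autGroup P)).map (F.autGroup P).subtype := by
  have hPp : IsPGroup p P := hS.to_le hPS
  have hAp : IsPGroup p ((chainStabilizer Ps hmono h0 ⊓ F.autGroup P).subgroupOf (F.autGroup P)) :=
    ((isPGroup_chainStabilizer p hPp hmono h0 M hM).to_le inf_le_left).comap_subtype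
  have hAn : ((chainStabilizer Ps hmono h0 ⊓ F.autGroup P).subgroupOf (F.autGroup P)).Normal := by
    constructor
    intro β hβ γ
    rw [Subgroup.mem_subgroupOf] at hβ ⊢
    refine ⟨?_, (γ * β * γ⁻¹).2⟩
    have h1 : ((γ * β * γ⁻¹ : F.autGroup P) : MulAut P) = (γ : MulAut P) * (β : MulAut P) * (γ : MulAut P)⁻¹ := rfl
    rw [h1]
    exact stabChain_conj hβ.1 (hinv γ γ.2) (hinv _ (Subgroup.inv_mem _ γ.2))
  have hle := Cfsg.Agent.Lib.Helper6.le_pCore hAn hAp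
  intro α hα
  exact ⟨⟨α, hα.2⟩, hle (Subgroup.mem_subgroupOf.mpr hα), rfl⟩

end Cfsg.Agent.Lib.Helper9
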