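import Mathlib
import Cfsg.Prelude.Def_FusionSystem
import Cfsg.Agent.Lib.Helper9.Radical2
import Cfsg.Agent.Lib.Helper9.FusionNormal4
import Cfsg.Agent.Lib.Helper9.FusionAut2
import Cfsg.Agent.Lib.Helper9.KNorm3

set_option autoImplicit false
set_option maxHeartbeats 1000000

namespace Cfsg.Agent.Lib.Helper9

open Cfsg Cfsg.FusionSystem

variable {Ω : Type*} [Group Ω] {S : Subgroup Ω}

/-- An element normalizing `A` and `B` normalizes `A ⊓ B`. -/
theorem mem_normalizer_inf {A B : Subgroup Ω} {g : Ω} (hA : g ∈ Subgroup.normalizer (A : Set Ω))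
    (hB : g ∈ Subgroup.normalizer (B : Set Ω)) : g ∈ Subgroup.normalizer ((A ⊓ B : Subgroup Ω) : Set Ω) := by
  rw [Subgroup.mem_normalizer_iff] at hA hB ⊢
  intro h
  rw [Subgroup.mem_inf, Subgroup.mem_inf, hA h, hB h]

/-- An element normalizing `Q` normalizes its centralizer. -/
theorem mem_normalizer_centralizer {Q : Subgroup Ω} {g : Ω} (hQ : g ∈ Subgroup.normalizer (Q : Set Ω)) :
    g ∈ Subgroup.normalizer ((Subgroup.centralizer (Q : Set Ω) : Subgroup Ω) : Set Ω) := by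
  have key : ∀ g : Ω, g ∈ Subgroup.normalizer (Q : Set Ω) → ∀ c ∈ Subgroup.centralizer (Q : Set Ω),
      g * c * g⁻¹ ∈ Subgroup.centralizer (Q : Set Ω) := by
    intro g hg c hc
    rw [Subgroup.mem_centralizer_iff] at hc ⊢
    intro q hq
    have hq' : g⁻¹ * q * g ∈ Q := (Subgroup.mem_normalizer_iff''.mp hg q).mp hq
    have h1 := hc _ hq'
    calc q * (g * c * g⁻¹) = g * ((g⁻¹ * q * g) * c) * g⁻¹ := by group
      _ = g * (c * (g⁻¹ * q * g)) * g⁻¹ := by rw [h1]
      _ = g * c * g⁻¹ * q := by group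
  rw [Subgroup.mem_normalizer_iff]
  intro c
  constructor
  · exact key g hQ c
  · intro hc
    have := key g⁻¹ (Subgroup.inv_mem _ hQ) _ hc
    have h2 : g⁻¹ * (g * c * g⁻¹) * g⁻¹⁻¹ = c := by group
    rwa [h2] at this

/-- If `T` is strongly closed and `C_T(P ∩ T) ≰ P ∩ T`, then some element of `N_S(P)` outside `P` induces on `P` an
automorphism lying in `O_p(Aut_F(P))`. -/
theorem exists_outer_pCore [Finite S] (p : ℕ) [Fact p.Prime] (hS : IsPGroup p S) (F : FusionSystem S)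
    {T : Subgroup Ω} (hT : F.StronglyClosed T) {P : Subgroup Ω} (hPS : P ≤ S)
    (hC : ¬ centralizerIn T (P ⊓ T) ≤ P ⊓ T) :
    ∃ x ∈ S ⊓ Subgroup.normalizer (P : Set Ω), x ∉ P ∧
      ∃ α ∈ ((pCore p (F.autGroup P)).map (F.autGroup P).subtype : Subgroup (MulAut P)),
        ∀ y : P, ((α y : P) : Ω) = x * y * x⁻¹ := by
  have hTS : T ≤ S := hT.1
  have hSNT : S ≤ Subgroup.normalizer (T : Set Ω) := fs_stronglyClosed_le_normalizer F hT
  haveI : Finite P := fs_finite_of_le hPS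
  -- `P` normalizes `C_T(P ∩ T)`
  have hPN : P ≤ Subgroup.normalizer ((centralizerIn T (P ⊓ T) : Subgroup Ω) : Set Ω) := by
    intro g hg
    have hgT := hSNT (hPS hg)
    have hgP : g ∈ Subgroup.normalizer (P : Set Ω) := Subgroup.le_normalizer hg
    exact mem_normalizer_inf hgT (mem_normalizer_centralizer (mem_normalizer_inf hgP hgT))
  -- the product `M = C_T(P ∩ T) P`
  have hMS : centralizerIn T (P ⊓ T) ⊔ P ≤ S := sup_le ((inf_le_left : centralizerIn T (P ⊓ T) ≤ T).trans hTS) hPS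
  haveI : Finite (centralizerIn T (P ⊓ T) ⊔ P : Subgroup Ω) := fs_finite_of_le hMS
  have hlt : P < centralizerIn T (P ⊓ T) ⊔ P := by
    refine lt_of_le_of_ne le_sup_right ?_
    intro heq
    apply hC
    intro c hc
    have : c ∈ P := by rw [heq]; exact le_sup_left (a := centralizerIn T (P ⊓ T)) hc
    exact ⟨this, hc.1⟩
  have hlt' := fs_lt_normalizerIn p (hS.to_le hMS) hlt
  obtain ⟨y, hyN, hyP⟩ := SetLike.exists_of_lt hlt'
  obtain ⟨u, hu, c, hc, huc⟩ := mem_sup_of_le_normalizer' hPN (by rw [sup_comm]; exact hyN.1 : y ∈ P ⊔ centralizerIn T (P ⊓ T))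
  -- `c = u⁻¹ y` normalizes `P` and is not in `P`
  have hcy : c = u⁻¹ * y := by rw [← huc]; group
  have hcN : c ∈ Subgroup.normalizer (P : Set Ω) := by
    rw [hcy]
    exact Subgroup.mul_mem _ (Subgroup.inv_mem _ (Subgroup.le_normalizer hu)) hyN.2
  have hcP : c ∉ P := by
    intro h
    apply hyP
    rw [← huc]
    exact P.mul_mem hu h
  have hcT : c ∈ T := hc.1
  have hcS : c ∈ S := hTS hcT
  have hcC : c ∈ Subgroup.centralizer ((P ⊓ T : Subgroup Ω) : Set Ω) := hc.2
  refine ⟨c, ⟨hcS, hcN⟩, hcP, conjAut P c hcN, ?_, fun y => rfl⟩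
  -- the chain `1 ≤ P ∩ T ≤ P`
  let Ps : ℕ → Subgroup P := fun i => if i = 0 then ⊥ else if i = 1 then (P ⊓ T).subgroupOf P else ⊤
  have hmono : Monotone Ps := by
    apply monotone_nat_of_le_succ
    intro i
    show Ps i ≤ Ps (i + 1)
    by_cases h0 : i = 0
    · subst h0; simp [Ps]
    · by_cases h1 : i = 1
      · subst h1; simp [Ps]
      · have h2 : i + 1 ≠ 0 := by omega
        have h3 : i + 1 ≠ 1 := by omega
        simp [Ps, h0, h1, h2, h3]
  have hP0 : Ps 0 = ⊥ := by simp [Ps]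
  have hP2 : Ps 2 = ⊤ := by simp [Ps]
  have hP1 : Ps 1 = (P ⊓ T).subgroupOf P := by simp [Ps]
  have hαF : conjAut P c hcN ∈ F.autGroup P :=
    autInducedBy_le_autGroup F hPS ((mem_autInducedBy_iff S P _).mpr ⟨c, hcS, fun y => rfl⟩)
  apply chainStab_le_pCore p hS F hPS Ps hmono hP0 2 hP2
  · -- invariance of the chain
    intro γ hγ i y hy
    by_cases h0 : i = 0
    · subst h0
      rw [hP0, Subgroup.mem_bot] at hy ⊢
      rw [hy, map_one]
    · by_cases h1 : i = 1
      · subst h1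
        have hy' : (y : Ω) ∈ P ⊓ T := by
          rw [hP1, Subgroup.mem_subgroupOf] at hy
          exact hy
        have hγF : P.subtype.comp γ.toMonoidHom ∈ F.Hom P := (mem_autGroup_iff F hPS γ).mp hγ
        have hres := fs_restrict_mem F hγF (inf_le_left : P ⊓ T ≤ P)
        have h2 := hT.2 (P ⊓ T) inf_le_right _ hres ⟨y, hy'⟩
        have h3 : ((γ y : P) : Ω) ∈ T := h2
        have : ((γ y : P) : Ω) ∈ P ⊓ T := ⟨(γ y).2, h3⟩
        rw [hP1, Subgroup.mem_subgroupOf]
        exact this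
      · have : Ps i = ⊤ := by simp [Ps, h0, h1]
        rw [this]; trivial
  · refine ⟨?_, hαF⟩
    intro i x hx
    by_cases h0 : i = 0
    · subst h0
      have hx' : (x : Ω) ∈ P ⊓ T := by
        have hx1 : x ∈ Ps 1 := hx
        rw [hP1, Subgroup.mem_subgroupOf] at hx1
        exact hx1
      rw [hP0, Subgroup.mem_bot]
      apply Subtype.ext
      rw [Subgroup.coe_mul, Subgroup.coe_inv, conjAut_apply, Subgroup.coe_one]
      rw [Subgroup.mem_centralizer_iff] at hcC
      have := hcC x hx'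
      calc (x : Ω)⁻¹ * (c * x * c⁻¹) = (x : Ω)⁻¹ * ((c * x) * c⁻¹) := by group
        _ = (x : Ω)⁻¹ * ((x * c) * c⁻¹) := by rw [this]
        _ = 1 := by group
    · by_cases h1 : i = 1
      · subst h1
        have : ((x⁻¹ * conjAut P c hcN x : P) : Ω) ∈ P ⊓ T := by
          refine ⟨(x⁻¹ * conjAut P c hcN x).2, ?_⟩
          rw [Subgroup.coe_mul, Subgroup.coe_inv, conjAut_apply]
          have hxN : (x : Ω)⁻¹ ∈ Subgroup.normalizer (T : Set Ω) := Subgroup.inv_mem _ (hSNT (hPS x.2))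
          have h2 : (x : Ω)⁻¹ * c * ((x : Ω)⁻¹)⁻¹ ∈ T := (Subgroup.mem_normalizer_iff.mp hxN c).mp hcT
          have h3 : (x : Ω)⁻¹ * (c * x * c⁻¹) = ((x : Ω)⁻¹ * c * ((x : Ω)⁻¹)⁻¹) * c⁻¹ := by group
          rw [h3]
          exact T.mul_mem h2 (T.inv_mem hcT)
        show x⁻¹ * conjAut P c hcN x ∈ Ps 1
        rw [hP1, Subgroup.mem_subgroupOf]
        exact this
      · have : Ps i = ⊤ := by simp [Ps, h0, h1]
        rw [this]; trivial

end Cfsg.Agent.Lib.Helper9
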