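import Mathlib
import Cfsg.Prelude.Def_FusionComponents
import Cfsg.Agent.Lib.Helper9.Radical3
import Cfsg.Agent.Lib.Helper9.FusionMorph1
import Cfsg.Agent.Lib.Helper9.FusionAG3
import Cfsg.Agent.S5086

set_option autoImplicit false
open Cfsg Cfsg.FusionSystem

namespace Cfsg.Agent.Lib.Helper9

variable {Ω : Type*} [Group Ω] {S : Subgroup Ω}
variable {Ω' : Type*} [Group Ω'] {S' : Subgroup Ω'}

/-- The preimage of a strongly closed subgroup under a morphism is strongly closed. -/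
theorem stronglyClosed_preimageAlong (F : FusionSystem S) (E : FusionSystem S') (θ : S →* Ω')
    (hθ : F.IsMorphism E θ) {Q' : Subgroup Ω'} (hQ' : E.StronglyClosed Q') :
    F.StronglyClosed (preimageAlong θ Q') := by
  refine ⟨preimageAlong_le θ Q', fun R hR φ hφ x => ?_⟩
  have hRS := (F.le_of_mem hφ).1
  have hφS := (F.le_of_mem hφ).2
  obtain ⟨φ', hφ', H⟩ := morph_push F E θ hθ hφ
  have hle : imageAlong θ R ≤ Q' := by
    intro y hy
    rw [mem_imageAlong_iff] at hy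
    obtain ⟨s, hs, rfl⟩ := hy
    exact ((mem_preimageAlong_iff θ Q' _).mp (hR hs)).2
  have hxS : (x : Ω) ∈ S := hRS x.2
  have hx' : θ ⟨x, hxS⟩ ∈ imageAlong θ R := apply_mem_imageAlong θ hxS x.2
  have h1 := hQ'.2 _ hle φ' hφ' ⟨θ ⟨x, hxS⟩, hx'⟩
  rw [H x hxS hx' (hφS x)] at h1
  exact (mem_preimageAlong_iff θ Q' _).mpr ⟨hφS x, h1⟩

/-- The image of a strongly closed subgroup under a surjective morphism is strongly closed. -/
theorem stronglyClosed_imageAlong (F : FusionSystem S) (E : FusionSystem S') (θ : S →* Ω')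
    (hθ : F.IsSurjectiveMorphism E θ) {Q : Subgroup Ω} (hQ : F.StronglyClosed Q) :
    E.StronglyClosed (imageAlong θ Q) := by
  have hrange := hθ.2.1
  refine ⟨imageAlong_le_of_range θ hrange Q, fun R' hR' φ' hφ' x' => ?_⟩
  have hR'S : R' ≤ S' := (E.le_of_mem hφ').1
  obtain ⟨φ, hφ, hind⟩ := hθ.2.2 R' hR'S φ' hφ'
  have hφS := (F.le_of_mem hφ).2
  have hx' := hR' x'.2
  rw [mem_imageAlong_iff] at hx'
  obtain ⟨s, hsQ, hsx⟩ := hx'
  have hsR : (s : Ω) ∈ preimageAlong θ R' :=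
    (mem_preimageAlong_iff θ R' _).mpr ⟨s.2, by rw [Subtype.coe_eta, hsx]; exact x'.2⟩
  have hres := fs_restrict_mem F hφ (inf_le_left : preimageAlong θ R' ⊓ Q ≤ preimageAlong θ R')
  have h1 := hQ.2 _ inf_le_right _ hres ⟨s, ⟨hsR, hsQ⟩⟩
  have h2 : φ ⟨s, hsR⟩ ∈ Q := h1
  have h3 := inducedAlong_apply hind ⟨s, hsR⟩ s.2 (by rw [Subtype.coe_eta, hsx]; exact x'.2) (hφS _)
  have h4 : (⟨θ ⟨(s : Ω), s.2⟩, by rw [Subtype.coe_eta, hsx]; exact x'.2⟩ : R') = x' := by
    apply Subtype.ext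
    show θ ⟨(s : Ω), s.2⟩ = x'
    rw [Subtype.coe_eta, hsx]
  rw [h4] at h3
  rw [h3]
  exact apply_mem_imageAlong θ (hφS _) h2

/-- An abelian strongly closed subgroup of a saturated system is normal in it. -/
theorem isNormal_of_abelian_stronglyClosed [Finite S] (p : ℕ) [Fact p.Prime] (hS : IsPGroup p S)
    (F : FusionSystem S) (hF : F.IsSaturated p) {Q : Subgroup Ω} (hQ : F.StronglyClosed Q)
    (hab : ∀ x ∈ Q, ∀ y ∈ Q, x * y = y * x) : F.IsNormal Q := by
  rw [Cfsg.Agent.S5086.result p hS F hF Q]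
  refine ⟨hQ, fun P hPc hPr => ?_⟩
  by_contra hle
  have hPS := hPc.1
  have hbad : ¬ centralizerIn Q (P ⊓ Q) ≤ P ⊓ Q := by
    intro h
    apply hle
    intro q hq
    have : q ∈ centralizerIn Q (P ⊓ Q) := by
      refine ⟨hq, ?_⟩
      apply Subgroup.mem_centralizer_iff.mpr
      intro y hy
      exact hab y hy.2 q hq
    exact (h this).1
  obtain ⟨x, hxN, hxP, α, hα, Hα⟩ := exists_outer_pCore p hS F hQ hPS hbad
  rw [hPr.2] at hα
  have hC : centralizerIn S P ≤ P := hPc.2 _ (fs_isConj_refl F hPS)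
  exact hxP (mem_of_induces_inner hC hα hxN.1 hPS Hα)

end Cfsg.Agent.Lib.Helper9
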