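import Mathlib
import Cfsg.Prelude.Def_FusionSystem
import Cfsg.Agent.Lib.Helper9.FusionNormal3
import Cfsg.Agent.Lib.Helper9.ChainStab
import Cfsg.Agent.Lib.Helper9.ZJF3
import Cfsg.Agent.Lib.Helper9.PCore
import Cfsg.Agent.Lib.Helper9.KNorm6

set_option autoImplicit false

/-!
# Glauberman functors (part 5): automorphisms of a radical subgroup `A` which are trivial modulo a strongly closed
subgroup `Q` with `Aut_D(Q)` a `p`-group are inner
-/

namespace Cfsg.Agent.H9ZW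

open Cfsg Cfsg.FusionSystem Cfsg.Agent.Lib.Helper9 Cfsg.Agent.H9ZJ

variable {Ω : Type*} [Group Ω] {S : Subgroup Ω}

/-- The automorphisms in `Aut_D(A)` acting trivially on `A/Q`. -/
def trivMod (D : FusionSystem S) (A Q : Subgroup Ω) : Subgroup (D.autGroup A) where
  carrier := {χ | ∀ a : A, (a : Ω)⁻¹ * (((χ : MulAut A) a : A) : Ω) ∈ Q}
  one_mem' := by
    intro a
    simp
  mul_mem' := by
    intro χ₁ χ₂ h₁ h₂ a
    have e : (a : Ω)⁻¹ * ((((χ₁ * χ₂ : D.autGroup A) : MulAut A) a : A) : Ω)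
        = ((a : Ω)⁻¹ * (((χ₂ : MulAut A) a : A) : Ω)) *
          ((((χ₂ : MulAut A) a : A) : Ω)⁻¹ * (((χ₁ : MulAut A) ((χ₂ : MulAut A) a) : A) : Ω)) := by
      rw [Subgroup.coe_mul, MulAut.mul_apply]
      group
    rw [e]
    exact Q.mul_mem (h₂ a) (h₁ _)
  inv_mem' := by
    intro χ h a
    have h1 := h ((χ : MulAut A)⁻¹ a)
    rw [MulAut.apply_inv_self] at h1
    have h2 := Q.inv_mem h1
    have e : (a : Ω)⁻¹ * ((((χ⁻¹ : D.autGroup A) : MulAut A) a : A) : Ω)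
        = ((((χ : MulAut A)⁻¹ a : A) : Ω)⁻¹ * (a : Ω))⁻¹ := by
      rw [Subgroup.coe_inv]
      group
    rw [e]
    exact h2

theorem mem_trivMod_iff (D : FusionSystem S) (A Q : Subgroup Ω) (χ : D.autGroup A) :
    χ ∈ trivMod D A Q ↔ ∀ a : A, (a : Ω)⁻¹ * (((χ : MulAut A) a : A) : Ω) ∈ Q := Iff.rfl

theorem trivMod_normal [Finite S] (D : FusionSystem S) {A Q : Subgroup Ω} (hQ : D.StronglyClosed Q)
    (hAS : A ≤ S) : (trivMod D A Q).Normal := by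
  constructor
  intro χ hχ β a
  have hβ := β.2
  rw [mem_autGroup_iff D hAS] at hβ
  have h1 := hχ ((β : MulAut A)⁻¹ a)
  -- apply `β` to the element `((β⁻¹ a)⁻¹ * χ (β⁻¹ a))` of `Q ∩ A`
  have h2 := fs_stronglyClosed_mem D hQ hβ
    (((β : MulAut A)⁻¹ a)⁻¹ * (χ : MulAut A) ((β : MulAut A)⁻¹ a)) h1
  have e : (a : Ω)⁻¹ * ((((β * χ * β⁻¹ : D.autGroup A) : MulAut A) a : A) : Ω)
      = (A.subtype.comp (β : MulAut A).toMonoidHom)
          (((β : MulAut A)⁻¹ a)⁻¹ * (χ : MulAut A) ((β : MulAut A)⁻¹ a)) := by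
    simp only [Subgroup.coe_mul, Subgroup.coe_inv, MulAut.mul_apply, MonoidHom.coe_comp,
      Subgroup.coe_subtype, Function.comp_apply, MulEquiv.coe_toMonoidHom, map_mul, map_inv,
      MulAut.apply_inv_self, Subgroup.coe_mul, Subgroup.coe_inv]
  rw [e]
  exact h2

theorem trivMod_pow {D : FusionSystem S} {A Q : Subgroup Ω} (χ : MulAut A)
    (h : ∀ a : A, (a : Ω)⁻¹ * ((χ a : A) : Ω) ∈ Q) (n : ℕ) (a : A) :
    (a : Ω)⁻¹ * (((χ ^ n) a : A) : Ω) ∈ Q := by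
  induction n with
  | zero => simp
  | succ n ih =>
    have e : (a : Ω)⁻¹ * (((χ ^ (n + 1)) a : A) : Ω)
        = ((a : Ω)⁻¹ * (((χ ^ n) a : A) : Ω)) * ((((χ ^ n) a : A) : Ω)⁻¹ * ((χ ((χ ^ n) a) : A) : Ω)) := by
      rw [pow_succ', MulAut.mul_apply]
      group
    rw [e]
    exact Q.mul_mem ih (h _)

theorem trivMod_isPGroup [Finite S] (p : ℕ) [hp : Fact p.Prime] (hS : IsPGroup p S) (D : FusionSystem S)
    {A Q : Subgroup Ω} (hQ : D.StronglyClosed Q) (hQA : Q ≤ A) (hAS : A ≤ S)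
    (hQp : IsPGroup p (D.autGroup Q)) : IsPGroup p (trivMod D A Q) := by
  haveI : Finite A := fs_finite_of_le hAS
  rintro ⟨⟨χ, hχD⟩, hχ⟩
  have hχ' : ∀ a : A, (a : Ω)⁻¹ * ((χ a : A) : Ω) ∈ Q := hχ
  have hχhom := hχD
  rw [mem_autGroup_iff D hAS] at hχhom
  have hiff : ∀ x : A, ((χ x : A) : Ω) ∈ Q ↔ (x : Ω) ∈ Q :=
    fun x => fs_stronglyClosed_mem_iff D hQ hχhom hQA x
  have hχQ : restrictAut hQA χ hiff ∈ D.autGroup Q := by
    rw [mem_autGroup_iff D hQ.1]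
    have h1 := fs_restrict_mem D hχhom hQA
    have h2 : (A.subtype.comp χ.toMonoidHom).comp (Subgroup.inclusion hQA)
        = Q.subtype.comp (restrictAut hQA χ hiff).toMonoidHom := by
      ext x; rfl
    rwa [h2] at h1
  obtain ⟨k, hk⟩ := hQp ⟨restrictAut hQA χ hiff, hχQ⟩
  have hk' : (restrictAut hQA χ hiff) ^ p ^ k = 1 := by
    have := congrArg Subtype.val hk
    simpa using this
  -- `χ ^ p ^ k` fixes `Q` pointwise
  have hfix : ∀ y ∈ Q.subgroupOf A, (χ ^ p ^ k) y = y := by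
    intro y hy
    have hyQ : (y : Ω) ∈ Q := hy
    have h1 := pow_restrict hQA χ (restrictAut hQA χ hiff) (fun x => rfl) (p ^ k) ⟨y, hyQ⟩
    rw [hk'] at h1
    apply Subtype.ext
    have h2 : (Subgroup.inclusion hQA ⟨(y : Ω), hyQ⟩ : A) = y := Subtype.ext rfl
    rw [h2] at h1
    rw [h1]
    rfl
  have hmod : ∀ x ∈ (⊤ : Subgroup A), x⁻¹ * (χ ^ p ^ k) x ∈ Q.subgroupOf A := by
    intro x _
    rw [Subgroup.mem_subgroupOf]
    have := trivMod_pow (D := D) χ hχ' (p ^ k) x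
    simpa using this
  have h3 := stab_step (χ ^ p ^ k) hfix hmod
  obtain ⟨e, he⟩ := IsPGroup.iff_card.mp (hS.to_le hAS)
  refine ⟨k + e, ?_⟩
  apply Subtype.ext
  apply Subtype.ext
  show χ ^ p ^ (k + e) = 1
  rw [pow_add, pow_mul, ← he]
  ext x
  have := h3 x (Subgroup.mem_top x)
  rw [this]
  rfl

/-- An automorphism in `Aut_D(A)`, `A` radical, trivial modulo `Q`, is inner. -/
theorem inner_of_trivial_mod [Finite S] (p : ℕ) [hp : Fact p.Prime] (hS : IsPGroup p S) (D : FusionSystem S)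
    {A Q : Subgroup Ω} (hQ : D.StronglyClosed Q) (hQA : Q ≤ A)
    (hQp : IsPGroup p (D.autGroup Q)) (hAr : D.IsRadical p A) (χ : MulAut A) (hχ : χ ∈ D.autGroup A)
    (htriv : ∀ a : A, (a : Ω)⁻¹ * ((χ a : A) : Ω) ∈ Q) : χ ∈ Inn A := by
  have hAS := hAr.1
  have h1 : trivMod D A Q ≤ Cfsg.pCore p (D.autGroup A) :=
    le_pCore (trivMod_normal D hQ hAS) (trivMod_isPGroup p hS D hQ hQA hAS hQp)
  rw [← hAr.2]
  exact ⟨⟨χ, hχ⟩, h1 htriv, rfl⟩

end Cfsg.Agent.H9ZW
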