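import Mathlib
import Cfsg.Prelude.Def_FusionSystem
import Cfsg.Prelude.Def_FusionComponents
import Cfsg.Agent.Lib.Helper9.ZW4
import Cfsg.Agent.Lib.Helper9.ZW5
import Cfsg.Agent.Lib.Helper9.Solv1
import Cfsg.Agent.S5134

set_option autoImplicit false

/-!
# Glauberman functors (part 6): lifting normal subgroups from the factor system `D/Q` when `Aut_D(Q)` is a
`p`-group
-/

namespace Cfsg.Agent.H9ZW

open Cfsg Cfsg.FusionSystem Cfsg.Agent.Lib.Helper9

variable {Ω : Type*} [Group Ω] {S : Subgroup Ω} {Ω' : Type*} [Group Ω'] {S' : Subgroup Ω'}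

/-- The extension step: an automorphism of a centric radical subgroup `A` extends to an endomorphism of
`A ⊔ X`, `X` the preimage of a subgroup normal in the factor system. -/
theorem exists_extension_of_factor [Finite S] (p : ℕ) [Fact p.Prime] (hS : IsPGroup p S) (D : FusionSystem S)
    (hD : D.IsSaturated p) {Q : Subgroup Ω} (hQ : D.IsNormal Q) (hQp : IsPGroup p (D.autGroup Q))
    (θ : S →* Ω') (D' : FusionSystem S') (hD' : D.IsFactorSystem Q θ D') {X' : Subgroup Ω'}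
    (hX' : D'.IsNormal X') {A : Subgroup Ω} (hAS : A ≤ S) (hQA : Q ≤ A) (hAr : D.IsRadical p A)
    (α : MulAut A) (hα : α ∈ D.autGroup A) :
    ∃ ψ : ↥(A ⊔ preimageAlong θ X') →* Ω,
      (∀ x : A, ψ (Subgroup.inclusion le_sup_left x) = ((α x : A) : Ω)) ∧
        ∀ x : ↥(A ⊔ preimageAlong θ X'), ψ x ∈ A ⊔ preimageAlong θ X' := by
  have hQsc := fs_stronglyClosed_of_isNormal D hQ
  have hsurj := Cfsg.Agent.S5134.result p hS D hD Q hQsc θ D' hD'
  have hmor := hsurj.1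
  have hrange := hsurj.2.1
  have hker : ∀ s : S, θ s = 1 ↔ (s : Ω) ∈ Q := hD'.2.1
  have hαhom := (mem_autGroup_iff D hAS α).mp hα
  obtain ⟨β', hβ', Hβ'⟩ := morph_push D D' θ hmor hαhom
  obtain ⟨μ', hμ', hμ'β', hμ'X'⟩ := hX'.2 (imageAlong θ A) β' hβ'
  have hP'S' : imageAlong θ A ⊔ X' ≤ S' := sup_le (imageAlong_le_of_range θ hrange A) hX'.1
  obtain ⟨μ, hμ, hind⟩ := hsurj.2.2 _ hP'S' μ' hμ'
  have hAM : A ≤ preimageAlong θ (imageAlong θ A ⊔ X') := by
    intro a ha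
    rw [mem_preimageAlong_iff]
    exact ⟨hAS ha, (le_sup_left : imageAlong θ A ≤ imageAlong θ A ⊔ X') (apply_mem_imageAlong θ (hAS ha) ha)⟩
  have hXM : preimageAlong θ X' ≤ preimageAlong θ (imageAlong θ A ⊔ X') := by
    intro x hx
    obtain ⟨hxS, hx'⟩ := (mem_preimageAlong_iff θ X' x).mp hx
    exact (mem_preimageAlong_iff θ _ x).mpr ⟨hxS, (le_sup_right : X' ≤ imageAlong θ A ⊔ X') hx'⟩
  have hle : A ⊔ preimageAlong θ X' ≤ preimageAlong θ (imageAlong θ A ⊔ X') := sup_le hAM hXM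
  have hμS := (D.le_of_mem hμ).2
  have key : ∀ (x : ↥(preimageAlong θ (imageAlong θ A ⊔ X'))) (hxS : (x : Ω) ∈ S)
      (hx' : θ ⟨x, hxS⟩ ∈ imageAlong θ A ⊔ X'), μ' ⟨θ ⟨x, hxS⟩, hx'⟩ = θ ⟨μ x, hμS x⟩ :=
    fun x hxS hx' => inducedAlong_apply hind x hxS hx' (hμS x)
  -- (a) on `A`, `μ` agrees with `α` modulo the kernel
  have ha : ∀ a : A, θ ⟨μ (Subgroup.inclusion hAM a), hμS _⟩ = θ ⟨((α a : A) : Ω), hAS (α a).2⟩ := by
    intro a
    have haS : (a : Ω) ∈ S := hAS a.2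
    have ha' : θ ⟨a, haS⟩ ∈ imageAlong θ A := apply_mem_imageAlong θ haS a.2
    rw [← key (Subgroup.inclusion hAM a) haS ((le_sup_left : imageAlong θ A ≤ imageAlong θ A ⊔ X') ha')]
    have h1 := hμ'β' ⟨θ ⟨a, haS⟩, ha'⟩
    have h2 := Hβ' a haS ha' (hAS (α a).2)
    exact h1.trans h2
  -- (b) `μ` carries the preimage of `X'` into itself
  have hb : ∀ x : ↥(preimageAlong θ (imageAlong θ A ⊔ X')), (x : Ω) ∈ preimageAlong θ X' →
      μ x ∈ preimageAlong θ X' := by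
    intro x hx
    obtain ⟨hxS, hx'⟩ := (mem_preimageAlong_iff θ X' x).mp hx
    rw [mem_preimageAlong_iff]
    refine ⟨hμS x, ?_⟩
    rw [← key x hxS ((le_sup_right : X' ≤ imageAlong θ A ⊔ X') hx')]
    have h1 : μ' ⟨θ ⟨x, hxS⟩, (le_sup_right : X' ≤ imageAlong θ A ⊔ X') hx'⟩ ∈
        (X'.subgroupOf (imageAlong θ A ⊔ X')).map μ' := ⟨_, hx', rfl⟩
    rw [hμ'X'] at h1
    exact h1
  -- (c) `μ` carries `A` into itself
  have hcQ : ∀ a : A, (((α a : A) : Ω))⁻¹ * μ (Subgroup.inclusion hAM a) ∈ Q := by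
    intro a
    have h1 : θ ((⟨((α a : A) : Ω), hAS (α a).2⟩ : S)⁻¹ * ⟨μ (Subgroup.inclusion hAM a), hμS _⟩) = 1 := by
      rw [map_mul, map_inv, ha a, inv_mul_cancel]
    exact (hker _).mp h1
  have hcA : ∀ a : A, μ (Subgroup.inclusion hAM a) ∈ A := by
    intro a
    have h1 := A.mul_mem (α a).2 (hQA (hcQ a))
    rwa [mul_inv_cancel_left] at h1
  -- (d) the automorphism `ν` of `A` induced by `μ`
  obtain ⟨ν, hν, Hν⟩ := fs_hom_to_aut D (fs_restrict_mem D hμ hAM) hcA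
  have Hν' : ∀ y : A, ((ν y : A) : Ω) = μ (Subgroup.inclusion hAM y) := Hν
  -- (e) `χ = ν⁻¹ α` is trivial modulo `Q`
  have hχ : ν⁻¹ * α ∈ D.autGroup A := (D.autGroup A).mul_mem ((D.autGroup A).inv_mem hν) hα
  have htriv : ∀ a : A, (a : Ω)⁻¹ * (((ν⁻¹ * α) a : A) : Ω) ∈ Q := by
    intro a
    obtain ⟨b, hb'⟩ : ∃ b : A, b = (ν⁻¹ * α) a := ⟨_, rfl⟩
    have hνb : ν b = α a := by
      rw [hb', MulAut.mul_apply, MulAut.apply_inv_self]
    have h1 := hcQ b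
    rw [← Hν' b, hνb] at h1
    -- `α (b⁻¹ a) ∈ Q`
    have h2 : (A.subtype.comp α.toMonoidHom) (b⁻¹ * a) ∈ Q := by
      have : (A.subtype.comp α.toMonoidHom) (b⁻¹ * a) = (((α b : A) : Ω))⁻¹ * ((α a : A) : Ω) := by
        simp
      rw [this]
      exact h1
    have h3 := (fs_stronglyClosed_mem_iff D hQsc hαhom hQA (b⁻¹ * a)).mp h2
    have h4 := Q.inv_mem h3
    rw [← hb']
    have e : (((b⁻¹ * a : A) : Ω))⁻¹ = (a : Ω)⁻¹ * (b : Ω) := by
      simp
    rwa [e] at h4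
  -- (f) `χ` is inner
  obtain ⟨a₀, ha₀⟩ := inner_of_trivial_mod p hS D hQsc hQA hQp hAr (ν⁻¹ * α) hχ htriv
  -- (g) the extension
  have hmapM : ∀ y : ↥(A ⊔ preimageAlong θ X'), (μ.comp (Subgroup.inclusion hle)) y ∈ A ⊔ preimageAlong θ X' := by
    apply sup_forall_mem
    · intro x
      exact (le_sup_left : A ≤ A ⊔ preimageAlong θ X') (hcA x)
    · intro x
      exact (le_sup_right : preimageAlong θ X' ≤ A ⊔ preimageAlong θ X') (hb _ x.2)
  refine ⟨(μ.comp (Subgroup.inclusion hle)).comp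
    (MulAut.conj (⟨a₀, (le_sup_left : A ≤ A ⊔ preimageAlong θ X') a₀.2⟩ : ↥(A ⊔ preimageAlong θ X'))).toMonoidHom,
    fun x => ?_, fun y => hmapM _⟩
  have h1 : (ν⁻¹ * α) x = a₀ * x * a₀⁻¹ := by
    rw [← ha₀]
    rfl
  have h2 : α x = ν (a₀ * x * a₀⁻¹) := by
    rw [← h1, MulAut.mul_apply, MulAut.apply_inv_self]
  rw [h2, Hν']
  show μ _ = μ _
  congr 1

/-- If `Q` is normal in the saturated system `D` with `Aut_D(Q)` a `p`-group, the preimage of a subgroup normal in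
`D/Q` is normal in `D`. -/
theorem isNormal_preimage_of_factor [Finite S] (p : ℕ) [Fact p.Prime] (hS : IsPGroup p S) (D : FusionSystem S)
    (hD : D.IsSaturated p) {Q : Subgroup Ω} (hQ : D.IsNormal Q) (hQp : IsPGroup p (D.autGroup Q))
    (θ : S →* Ω') (D' : FusionSystem S') (hD' : D.IsFactorSystem Q θ D') {X' : Subgroup Ω'}
    (hX' : D'.IsNormal X') : D.IsNormal (preimageAlong θ X') := by
  have hQsc := fs_stronglyClosed_of_isNormal D hQ
  have hsurj := Cfsg.Agent.S5134.result p hS D hD Q hQsc θ D' hD'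
  have hX'sc := fs_stronglyClosed_of_isNormal D' hX'
  have hXsc : D.StronglyClosed (preimageAlong θ X') := stronglyClosed_preimageAlong D D' θ hsurj.1 hX'sc
  rw [fs_isNormal_iff_centric_radical p hS D hD]
  refine ⟨hXsc, fun A hAc hAr => ?_⟩
  have hQA : Q ≤ A := fs_le_of_isNormal_of_centric_radical p hS D hQ hAc hAr
  apply le_of_extensions_of_centric_radical p hS D hXsc.1 _ hAc hAr
  intro α hα
  exact exists_extension_of_factor p hS D hD hQ hQp θ D' hD' hX' hAc.1 hQA hAr α hα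

end Cfsg.Agent.H9ZW
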