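import Mathlib
import Cfsg.Prelude.Def_FusionSystem
import Cfsg.Prelude.Def_FusionComponents
import Cfsg.Agent.Lib.Helper9.ZW1
import Cfsg.Agent.Lib.Helper9.ZW3
import Cfsg.Agent.Lib.Helper9.ZW6
import Cfsg.Agent.Lib.Helper9.KL21
import Cfsg.Agent.S5132
import Cfsg.Agent.S5133

set_option autoImplicit false

/-!
# Glauberman functors (part 8): the statement; a normal subgroup of `S C_E(Q)` strictly above `Q`
-/

namespace Cfsg.Agent.H9ZW

open Cfsg Cfsg.FusionSystem Cfsg.Agent.Lib.Helper9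

universe u w

/-- The statement proved by induction on `n = |S|`. -/
def GFStatement (p : ℕ) (H : Type w) [Group H] (W : ∀ (Q : Type u) [Group Q], Subgroup Q) (n : ℕ) : Prop :=
  ∀ {Ω : Type u} [Group Ω] {S : Subgroup Ω} [Finite S], IsPGroup p S → ∀ F : FusionSystem S,
    F.IsSaturated p → F.IsSectionFree p H → Nat.card S = n → F.IsNormal (Wof W S)

variable {p : ℕ} {H : Type w} [Group H] {W : ∀ (Q : Type u) [Group Q], Subgroup Q}

theorem card_quotient_lt {Ω : Type u} [Group Ω] {S : Subgroup Ω} [Finite S] {Q : Subgroup Ω} (hQS : Q ≤ S)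
    (hQne : Q ≠ ⊥) [(Q.subgroupOf S).Normal] :
    Nat.card (⊤ : Subgroup (S ⧸ Q.subgroupOf S)) < Nat.card S := by
  rw [Subgroup.card_top, ← Subgroup.index_eq_card]
  have h1 := Subgroup.card_mul_index (Q.subgroupOf S)
  have h3 : 1 < Nat.card (Q.subgroupOf S) := by
    rw [Nat.card_congr (Subgroup.subgroupOfEquivOfLe hQS).toEquiv]
    haveI : Finite Q := fs_finite_of_le hQS
    have hpos : 0 < Nat.card Q := Nat.card_pos
    have hne1 : Nat.card Q ≠ 1 := fun h => hQne (Subgroup.card_eq_one.mp h)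
    omega
  have hipos : 0 < (Q.subgroupOf S).index := Nat.pos_of_ne_zero Subgroup.index_ne_zero_of_finite
  nlinarith

/-- In the saturated `H`-free system `E` with `Q` normal, `1 ≠ Q ≠ S`: the system `D = S C_E(Q)` has a normal
subgroup strictly larger than `Q` (the preimage of `W(S/Q)`). -/
theorem exists_normal_above [hp : Fact p.Prime] (hW : IsGF p H W) {Ω : Type u} [Group Ω] {S : Subgroup Ω}
    [Finite S] (hS : IsPGroup p S) (ih : ∀ k < Nat.card S, GFStatement p H W k)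
    (E : FusionSystem S) (hE : E.IsSaturated p) (hEfree : E.IsSectionFree p H)
    {Q : Subgroup Ω} (hQ : E.IsNormal Q) (hQne : Q ≠ ⊥) (hQS' : Q ≠ S)
    (D : FusionSystem S) (hD : ∀ P : Subgroup Ω, D.Hom P = normKHom E Q (autInducedBy S Q) P) :
    ∃ T : Subgroup Ω, D.IsNormal T ∧ Nat.card Q < Nat.card T := by
  have hQS := hQ.1
  have hQsc := fs_stronglyClosed_of_isNormal E hQ
  have hSQ := fs_stronglyClosed_le_normalizer E hQsc
  haveI hn' : (Q.subgroupOf S).Normal := (Subgroup.normal_subgroupOf_iff_le_normalizer hQS).mpr hSQ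
  -- the factor system of `E`
  obtain ⟨E', hE'⟩ := Cfsg.Agent.S5132.result p hS E Q hQsc
  have hsurjE := Cfsg.Agent.S5134.result p hS E hE Q hQsc _ E' hE'
  have hE'sat := Cfsg.Agent.S5133.result p hS E hE E' _ hsurjE
  have hE'free := Cfsg.Agent.H9KL.factor_sectionFree p hS E hE Q hQ hEfree _ E' hE'
  have hXp : IsPGroup p (⊤ : Subgroup (S ⧸ Q.subgroupOf S)) := (hS.to_quotient _).to_subgroup ⊤
  have hcard := card_quotient_lt hQS hQne
  have hW' : E'.IsNormal (Wof W (⊤ : Subgroup (S ⧸ Q.subgroupOf S))) :=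
    ih _ hcard hXp E' hE'sat hE'free rfl
  -- the system `D`
  have hDsat := SC_saturated p hS E hE hQS hSQ D hD
  have hDle := SC_le E D hD
  have hQD := SC_isNormal E hQS hSQ D hD
  have hQpD : IsPGroup p (D.autGroup Q) :=
    (isPGroup_autInducedBy p hS Q).to_le (SC_autGroup_le E hQS D hD)
  have hQscD := fs_stronglyClosed_of_isNormal D hQD
  obtain ⟨D', hD'⟩ := Cfsg.Agent.S5132.result p hS D Q hQscD
  have hsurjD := Cfsg.Agent.S5134.result p hS D hDsat Q hQscD _ D' hD'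
  have hD'sat := Cfsg.Agent.S5133.result p hS D hDsat D' _ hsurjD
  have hle' : ∀ P' : Subgroup (S ⧸ Q.subgroupOf S), D'.Hom P' ⊆ E'.Hom P' := by
    intro P' φ' hφ'
    obtain ⟨hP', φ, hφ, hind⟩ := (hD'.2.2.2 P' φ').mp hφ'
    exact (hE'.2.2.2 P' φ').mpr ⟨hP', φ, hDle _ hφ, hind⟩
  have hW'D : D'.IsNormal (Wof W (⊤ : Subgroup (S ⧸ Q.subgroupOf S))) :=
    isNormal_of_le p hXp E' D' hD'sat hle' hW'
  have hT := isNormal_preimage_of_factor p hS D hDsat hQD hQpD _ D' hD' hW'D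
  refine ⟨_, hT, ?_⟩
  -- the preimage is strictly larger than `Q`
  have hker : ∀ s : S, (QuotientGroup.mk' (Q.subgroupOf S)) s = 1 ↔ (s : Ω) ∈ Q := hD'.2.1
  have hQT : Q ≤ preimageAlong (QuotientGroup.mk' (Q.subgroupOf S)) (Wof W (⊤ : Subgroup (S ⧸ Q.subgroupOf S))) :=
    ker_le_preimageAlong _ _ hQS hker
  have hTS := hT.1
  haveI : Finite ↥(preimageAlong (QuotientGroup.mk' (Q.subgroupOf S))
      (Wof W (⊤ : Subgroup (S ⧸ Q.subgroupOf S)))) := fs_finite_of_le hTS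
  by_contra hlt
  push Not at hlt
  have heq : Q = preimageAlong (QuotientGroup.mk' (Q.subgroupOf S))
      (Wof W (⊤ : Subgroup (S ⧸ Q.subgroupOf S))) := Subgroup.eq_of_le_of_card_ge hQT hlt
  -- the quotient is nontrivial
  have htop : (⊤ : Subgroup (S ⧸ Q.subgroupOf S)) ≠ ⊥ := by
    intro h
    apply hQS'
    apply le_antisymm hQS
    intro s hs
    have h1 : (QuotientGroup.mk' (Q.subgroupOf S)) ⟨s, hs⟩ ∈ (⊤ : Subgroup (S ⧸ Q.subgroupOf S)) :=
      Subgroup.mem_top _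
    rw [h, Subgroup.mem_bot] at h1
    exact (hker ⟨s, hs⟩).mp h1
  haveI : Finite (⊤ : Subgroup (S ⧸ Q.subgroupOf S)) := inferInstance
  have hne := Wof_ne_bot hW hXp htop
  apply hne
  rw [eq_bot_iff]
  intro y hy
  obtain ⟨s, rfl⟩ := QuotientGroup.mk'_surjective (Q.subgroupOf S) y
  have hs : (s : Ω) ∈ preimageAlong (QuotientGroup.mk' (Q.subgroupOf S))
      (Wof W (⊤ : Subgroup (S ⧸ Q.subgroupOf S))) := by
    rw [mem_preimageAlong_iff]
    exact ⟨s.2, hy⟩
  rw [← heq] at hs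
  rw [Subgroup.mem_bot]
  exact (hker s).mpr hs

end Cfsg.Agent.H9ZW
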