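import Mathlib
import Cfsg.Prelude.Def_FusionSystem
import Cfsg.Agent.Lib.Helper9.ZW7
import Cfsg.Agent.Lib.Helper9.ZW8

set_option autoImplicit false

/-!
# Glauberman functors (part 9): the non-centric case
-/

namespace Cfsg.Agent.H9ZW

open Cfsg Cfsg.FusionSystem Cfsg.Agent.Lib.Helper9

universe u w

variable {p : ℕ} {H : Type w} [Group H] {W : ∀ (Q : Type u) [Group Q], Subgroup Q}

/-- Step 3: a map of `E` on `P ≥ Q` which is the identity on `Q` lies in `E₀`. -/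
theorem mem_of_id_on_Q [hp : Fact p.Prime] (hW : IsGF p H W) {Ω : Type u} [Group Ω] {S : Subgroup Ω}
    [Finite S] (hS : IsPGroup p S) (ih : ∀ k < Nat.card S, GFStatement p H W k)
    (E : FusionSystem S) (hE : E.IsSaturated p) (hEfree : E.IsSectionFree p H)
    {Q : Subgroup Ω} (hQ : E.IsNormal Q) (hQne : Q ≠ ⊥) (hQS' : Q ≠ S)
    (E₀ : FusionSystem S) (m : ℕ)
    (hstar : ∀ X : Subgroup Ω, X ≤ S → S ≤ Subgroup.normalizer (X : Set Ω) → Nat.card Q < Nat.card X →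
      ∀ (P : Subgroup Ω) (ψ : P →* Ω), m ≤ Nat.card P → X ≤ P → ψ ∈ E.Hom P →
        (X.subgroupOf P).map ψ = X → ψ ∈ E₀.Hom P)
    {P : Subgroup Ω} (hQP : Q ≤ P) {φ : P →* Ω} (hφ : φ ∈ E.Hom P) (hm : m ≤ Nat.card P)
    (hid : ∀ x : Q, φ (Subgroup.inclusion hQP x) = (x : Ω)) : φ ∈ E₀.Hom P := by
  have hQS := hQ.1
  have hQsc := fs_stronglyClosed_of_isNormal E hQ
  have hSQ := fs_stronglyClosed_le_normalizer E hQsc
  obtain ⟨D, hD⟩ := exists_SC_system E Q hQS hSQ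
  obtain ⟨T, hT, hlt⟩ := exists_normal_above hW hS ih E hE hEfree hQ hQne hQS' D hD
  have hφD := SC_mem_of_id E hSQ D hD hQP hφ hid
  obtain ⟨ψ, hψ, hψP, hψT⟩ := hT.2 P φ hφD
  have hTsc := fs_stronglyClosed_of_isNormal D hT
  have hST := fs_stronglyClosed_le_normalizer D hTsc
  have hPTS : P ⊔ T ≤ S := (D.le_of_mem hψ).1
  haveI : Finite ↥(P ⊔ T) := fs_finite_of_le hPTS
  have hcard : Nat.card P ≤ Nat.card ↥(P ⊔ T) := Subgroup.card_le_of_le le_sup_left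
  have h₀ := hstar T hT.1 hST hlt (P ⊔ T) ψ (hm.trans hcard) le_sup_right (SC_le E D hD _ hψ) hψT
  have h1 := fs_restrict_mem E₀ h₀ (le_sup_left : P ≤ P ⊔ T)
  have h2 : ψ.comp (Subgroup.inclusion (le_sup_left : P ≤ P ⊔ T)) = φ := by
    ext x
    exact hψP x
  rwa [h2] at h1

/-- The non-centric case: if `Q` is normal in the saturated `H`-free system `E` and not centric, every map of `E`
on a large enough overgroup of `Q` lies in `E₀`, provided this holds for the maps normalizing a larger normal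
subgroup of `S`. -/
theorem mem_of_nonCentric [hp : Fact p.Prime] (hW : IsGF p H W) {Ω : Type u} [Group Ω] {S : Subgroup Ω}
    [Finite S] (hS : IsPGroup p S) (ih : ∀ k < Nat.card S, GFStatement p H W k)
    (E : FusionSystem S) (hE : E.IsSaturated p) (hEfree : E.IsSectionFree p H)
    {Q : Subgroup Ω} (hQ : E.IsNormal Q) (hQne : Q ≠ ⊥) (hnc : ¬ centralizerIn S Q ≤ Q)
    (E₀ : FusionSystem S) (m : ℕ)
    (hstar : ∀ X : Subgroup Ω, X ≤ S → S ≤ Subgroup.normalizer (X : Set Ω) → Nat.card Q < Nat.card X →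
      ∀ (P : Subgroup Ω) (ψ : P →* Ω), m ≤ Nat.card P → X ≤ P → ψ ∈ E.Hom P →
        (X.subgroupOf P).map ψ = X → ψ ∈ E₀.Hom P)
    {P : Subgroup Ω} (hQP : Q ≤ P) {φ : P →* Ω} (hφ : φ ∈ E.Hom P) (hm : m ≤ Nat.card P) :
    φ ∈ E₀.Hom P := by
  have hQS := hQ.1
  have hQsc := fs_stronglyClosed_of_isNormal E hQ
  have hSQ := fs_stronglyClosed_le_normalizer E hQsc
  have hQS' : Q ≠ S := by
    intro h
    apply hnc
    intro c hc
    rw [h]
    exact hc.1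
  obtain ⟨Γ, hΓ, hΓQ, hΓR⟩ := exists_Gamma p hS E hE hQ hQP hφ
  have hMS : P ⊔ centralizerIn S Q ≤ S := (E.le_of_mem hΓ).1
  haveI : Finite ↥(P ⊔ centralizerIn S Q) := fs_finite_of_le hMS
  have hcardM : Nat.card P ≤ Nat.card ↥(P ⊔ centralizerIn S Q) := Subgroup.card_le_of_le le_sup_left
  have hR1S : Q ⊔ centralizerIn S Q ≤ S := sup_le hQS inf_le_left
  have hR1M : Q ⊔ centralizerIn S Q ≤ P ⊔ centralizerIn S Q := sup_le (hQP.trans le_sup_left) le_sup_right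
  have hΓ₀ : Γ ∈ E₀.Hom (P ⊔ centralizerIn S Q) :=
    hstar _ hR1S (le_normalizer_sup_centralizerIn hSQ) (card_lt_sup_centralizerIn hQS hnc) _ Γ
      (hm.trans hcardM) hR1M hΓ hΓR
  -- the restriction of `Γ` to `P`
  obtain ⟨ΓP, hΓPdef⟩ : ∃ ΓP : P →* Ω, ΓP = Γ.comp (Subgroup.inclusion (le_sup_left : P ≤ P ⊔ centralizerIn S Q)) :=
    ⟨_, rfl⟩
  have hΓP : ΓP ∈ E.Hom P := by rw [hΓPdef]; exact fs_restrict_mem E hΓ le_sup_left
  have hΓP₀ : ΓP ∈ E₀.Hom P := by rw [hΓPdef]; exact fs_restrict_mem E₀ hΓ₀ le_sup_left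
  have hΓPQ : ∀ x : P, (x : Ω) ∈ Q → ΓP x = φ x := by
    intro x hx
    rw [hΓPdef]
    have := hΓQ ⟨x, hx⟩
    exact this
  obtain ⟨ι, hι, Hι⟩ := E.inv_mem hΓP
  have hιP : ∀ y : ΓP.range, ι y ∈ P := by
    rintro ⟨_, x, rfl⟩
    rw [Hι x]
    exact x.2
  have hδ : φ.comp (ι.codRestrict P hιP) ∈ E.Hom ΓP.range := E.comp_mem hι hφ hιP
  have Hδ : ∀ x : P, (φ.comp (ι.codRestrict P hιP)) ⟨ΓP x, ⟨x, rfl⟩⟩ = φ x := by
    intro x
    show φ ⟨ι ⟨ΓP x, _⟩, _⟩ = φ x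
    congr 1
    exact Subtype.ext (Hι x)
  have hsurjQ : ∀ q : Q, ∃ x : P, (x : Ω) ∈ Q ∧ φ x = q ∧ ΓP x = q := by
    intro q
    obtain ⟨x, hxQ, hxq⟩ := fs_stronglyClosed_surj E hQsc hφ hQP q.2
    exact ⟨x, hxQ, hxq, (hΓPQ x hxQ).trans hxq⟩
  have hQP' : Q ≤ ΓP.range := by
    intro q hq
    obtain ⟨x, -, -, hx⟩ := hsurjQ ⟨q, hq⟩
    exact ⟨x, hx⟩
  have hid : ∀ q : Q, (φ.comp (ι.codRestrict P hιP)) (Subgroup.inclusion hQP' q) = (q : Ω) := by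
    intro q
    obtain ⟨x, -, hxφ, hxΓ⟩ := hsurjQ q
    have e : Subgroup.inclusion hQP' q = ⟨ΓP x, ⟨x, rfl⟩⟩ := Subtype.ext hxΓ.symm
    rw [e, Hδ x, hxφ]
  have hPS : P ≤ S := (E.le_of_mem hφ).1
  haveI : Finite P := fs_finite_of_le hPS
  have hm' : m ≤ Nat.card ΓP.range := by
    rw [← Nat.card_congr (MonoidHom.ofInjective (E.injective_of_mem hΓP)).toEquiv]
    exact hm
  have hδ₀ := mem_of_id_on_Q hW hS ih E hE hEfree hQ hQne hQS' E₀ m hstar hQP' hδ hm' hid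
  have h1 := E₀.comp_mem hΓP₀ hδ₀ (fun x => ⟨x, rfl⟩)
  have h2 : (φ.comp (ι.codRestrict P hιP)).comp (ΓP.codRestrict ΓP.range (fun x => ⟨x, rfl⟩)) = φ := by
    ext x
    exact Hδ x
  rwa [h2] at h1

end Cfsg.Agent.H9ZW
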