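import Mathlib
import Cfsg.Prelude.Def_FusionSystem
import Cfsg.Prelude.Def_FusionReduction
import Cfsg.Agent.Lib.Helper9.ZW9
import Cfsg.Agent.Lib.Helper9.ZW12
import Cfsg.Agent.Lib.Helper9.ZW13
import Cfsg.Agent.Lib.Helper9.KL14
import Cfsg.Agent.Lib.Helper9.FusionAG2
import Cfsg.Agent.S5096

set_option autoImplicit false

/-!
# Glauberman functors (part 14): the automizer step of the main induction
-/

namespace Cfsg.Agent.H9ZW

open Cfsg Cfsg.FusionSystem Cfsg.Agent.Lib.Helper9 Cfsg.Agent.H9KL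

universe u w

variable {p : ℕ} {H : Type w} [Group H] {W : ∀ (Q : Type u) [Group Q], Subgroup Q}

/-- Transport of a fusion system along an equality of base subgroups, carrying any property. -/
theorem exists_cast' {Ω : Type*} [Group Ω] {A B : Subgroup Ω} (h : A = B) (N : FusionSystem A)
    (Φ : ∀ T : Subgroup Ω, FusionSystem T → Prop) (hN : Φ A N) :
    ∃ N' : FusionSystem B, (∀ P : Subgroup Ω, N'.Hom P = N.Hom P) ∧ Φ B N' := by
  subst h
  exact ⟨N, fun _ => rfl, hN⟩

/-- The non-centric case of the automizer step, with the cast to `S` carried out. -/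
theorem false_of_nonCentric [hp : Fact p.Prime] (hW : IsGF p H W) {Ω : Type u} [Group Ω] {S : Subgroup Ω}
    [Finite S] (hS : IsPGroup p S) (ih : ∀ k < Nat.card S, GFStatement p H W k)
    (F : FusionSystem S) (hF : F.IsSaturated p) (hfree : F.IsSectionFree p H)
    (E₀ : FusionSystem S) (m : ℕ) {Q : Subgroup Ω} (hQ : InB F E₀ m Q) (hQfn : F.IsFullyNormalized Q)
    (hmax : ∀ Q' : Subgroup Ω, InB F E₀ m Q' → mu S Q' ≤ mu S Q)
    (hT : normalizerIn S Q = S) (hnc : ¬ centralizerIn S Q ≤ Q) : False := by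
  have hQS : Q ≤ S := hQfn.1
  haveI : Finite Q := fs_finite_of_le hQS
  obtain ⟨E, hE⟩ := Cfsg.Agent.S5096.result F Q hQS
  have hEsat := normalizerSystem_saturated p hS F hF hQfn E hE
  have hEfree := normalizer_sectionFree p hS F hF hfree Q hQfn E hE
  have hQn := normalizerSystem_isNormal F hQS E hE
  obtain ⟨E', hE', hsat', hfree', hQn'⟩ := exists_cast' hT E
    (fun T N => N.IsSaturated p ∧ N.IsSectionFree p H ∧ N.IsNormal Q) ⟨hEsat, hEfree, hQn⟩
  have hE'hom : ∀ P : Subgroup Ω, E'.Hom P = F.normalizerHom Q P := fun P => (hE' P).trans (hE P)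
  obtain ⟨hQne, P, φ, hm, hQP, hPT, hφ, hφQ, hφ₀⟩ := hQ
  have hQ' : InB F E₀ m Q := ⟨hQne, P, φ, hm, hQP, hPT, hφ, hφQ, hφ₀⟩
  have hφE' : φ ∈ E'.Hom P := by
    rw [hE'hom]
    exact mem_normalizerHom_of_map_eq F hQP hφ hPT hφQ
  apply hφ₀
  refine mem_of_nonCentric hW hS ih E' hsat' hfree' hQn' hQne hnc E₀ m ?_ hQP hφE' hm
  intro X hXS hSX hlt P₁ ψ hm₁ hXP₁ hψ hψX
  by_contra hψ₀
  rw [hE'hom] at hψ
  have hψF : ψ ∈ F.Hom P₁ := hψ.1
  have hP₁S : P₁ ≤ S := (F.le_of_mem hψF).1
  have hXne : X ≠ ⊥ := by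
    intro h
    rw [h, Subgroup.card_bot] at hlt
    have : 0 < Nat.card Q := Nat.card_pos
    omega
  have hNX : normalizerIn S X = S := le_antisymm inf_le_left (le_inf le_rfl hSX)
  have hXB : InB F E₀ m X := ⟨hXne, P₁, ψ, hm₁, hXP₁, by rw [hNX]; exact hP₁S, hψF, hψX, hψ₀⟩
  have hmu := hmax X hXB
  unfold mu at hmu
  rw [hNX, hT] at hmu
  omega

/-- The automizer step: `Aut_F(R) ≤ Aut_{E₀}(R)` for fully normalized `R`, assuming all maps of `F` on larger
subgroups lie in `E₀ = N_F(W(S))`. -/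
theorem main_aut [hp : Fact p.Prime] (hW : IsGF p H W) {Ω : Type u} [Group Ω] {S : Subgroup Ω}
    [Finite S] (hS : IsPGroup p S) (ih : ∀ k < Nat.card S, GFStatement p H W k)
    (F : FusionSystem S) (hF : F.IsSaturated p) (hfree : F.IsSectionFree p H)
    (E₀ : FusionSystem S) (hE₀ : ∀ P : Subgroup Ω, E₀.Hom P = F.normalizerHom (Wof W S) P)
    (R : Subgroup Ω) (hRfn : F.IsFullyNormalized R)
    (hbig : ∀ Q : Subgroup Ω, Q ≤ S → Nat.card R < Nat.card Q → F.Hom Q ⊆ E₀.Hom Q) :
    F.autGroup R ≤ E₀.autGroup R := by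
  intro α₀ hα₀
  have hRS : R ≤ S := hRfn.1
  haveI : Finite R := fs_finite_of_le hRS
  rw [mem_autGroup_iff E₀ hRS]
  rw [mem_autGroup_iff F hRS] at hα₀
  by_contra hne
  have hmapR : (R.subgroupOf R).map (R.subtype.comp α₀.toMonoidHom) = R := by
    ext y
    constructor
    · rintro ⟨x, -, rfl⟩
      exact (α₀ x).2
    · intro hy
      exact ⟨α₀.symm ⟨y, hy⟩, by simp [Subgroup.mem_subgroupOf], by simp⟩
  by_cases hRS' : R = S
  · -- `R = S`: automorphisms of `S` preserve `W(S)`
    subst hRS'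
    apply hne
    rw [hE₀]
    have hX₀R : Wof W R ≤ R := Wof_le W R
    have hRN : R ≤ Subgroup.normalizer ((Wof W R : Subgroup Ω) : Set Ω) :=
      (Subgroup.le_normalizer).trans (normalizer_le_normalizer_Wof hW hS)
    haveI : Finite ↥(Wof W R) := fs_finite_of_le hX₀R
    refine mem_normalizerHom_of_map_eq F hX₀R hα₀ (fun x hx => ⟨hx, hRN hx⟩) ?_
    apply map_eq_of_le_of_injective hX₀R _ (F.injective_of_mem hα₀) _ le_rfl
    rintro _ ⟨x, hx, rfl⟩
    have hx' : (x : Ω) ∈ Wof W R := hx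
    exact (Wof_equiv hW hS (α₀ : R ≃* R) x).mpr hx'
  · have hlt : R < S := lt_of_le_of_ne hRS hRS'
    have h1 := fs_lt_normalizerIn p hS hlt
    haveI : Finite ↥(normalizerIn S R) := fs_finite_of_le inf_le_left
    have hmR : Nat.card R < Nat.card ↥(normalizerIn S R) := by
      by_contra hle
      push Not at hle
      exact absurd (Subgroup.eq_of_le_of_card_ge h1.le hle) h1.ne
    have hRne : R ≠ ⊥ := by
      intro hbot
      apply hne
      have h2 : R.subtype.comp α₀.toMonoidHom = R.subtype := by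
        ext x
        have hx : x = 1 := by
          apply Subtype.ext
          have h3 : (x : Ω) ∈ (⊥ : Subgroup Ω) := hbot.le x.2
          exact Subgroup.mem_bot.mp h3
        rw [hx]
        simp
      rw [h2]
      exact fs_subtype_mem E₀ hRS
    have hRB : InB F E₀ (Nat.card R) R :=
      ⟨hRne, R, _, le_rfl, le_rfl, fun x hx => ⟨hRS hx, Subgroup.le_normalizer hx⟩, hα₀, hmapR, hne⟩
    obtain ⟨Q, hQB, hQfn, hmQ, hmax⟩ := exists_max_fn p hS F E₀ hF (Nat.card R) hbig hRB hmR
    have hQS : Q ≤ S := hQfn.1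
    by_cases hT : normalizerIn S Q = S
    · by_cases hc : centralizerIn S Q ≤ Q
      · obtain ⟨E, hE⟩ := Cfsg.Agent.S5096.result F Q hQS
        have hQc : F.IsCentric Q :=
          fs_centric_of_fullyCentralized_of_le F (fs_sylow_axiom p hS F hF hQfn).1 hc
        exact false_of_normal_W hW hS F E₀ hE₀ _ hQB hmax E hE
          (normal_W_of_centric hW hS F hF hfree hQfn hQc E hE)
      · exact false_of_nonCentric hW hS ih F hF hfree E₀ _ hQB hQfn hmax hT hc
    · obtain ⟨E, hE⟩ := Cfsg.Agent.S5096.result F Q hQS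
      have hTS : normalizerIn S Q ≤ S := inf_le_left
      haveI : Finite ↥(normalizerIn S Q) := fs_finite_of_le hTS
      have hTp : IsPGroup p ↥(normalizerIn S Q) := hS.to_le hTS
      have hEsat := normalizerSystem_saturated p hS F hF hQfn E hE
      have hEfree := normalizer_sectionFree p hS F hF hfree Q hQfn E hE
      have hcardT : Nat.card ↥(normalizerIn S Q) < Nat.card S := by
        by_contra hle
        push Not at hle
        exact hT (Subgroup.eq_of_le_of_card_ge hTS hle)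
      exact false_of_normal_W hW hS F E₀ hE₀ _ hQB hmax E hE (ih _ hcardT hTp E hEsat hEfree rfl)

end Cfsg.Agent.H9ZW
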