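import Mathlib
import Cfsg.Prelude.Def_FusionSystem
import Cfsg.Agent.Lib.Helper9.ZX1
import Cfsg.Agent.Lib.Helper9.ZJF3
import Cfsg.Agent.Lib.Helper9.FusionAG1
import Cfsg.Agent.Lib.Helper9.FusionAut
import Cfsg.Agent.Lib.Helper9.FusionAut2
import Cfsg.Agent.Lib.Helper9.FusionSat2
import Cfsg.Agent.Lib.Helper9.FusionStrongly
import Cfsg.Agent.Lib.Helper9.FusionNormal1

set_option autoImplicit false

/-!
# Control of weak closure of elements (part 4): a system with `Aut(Q)` a `p`-group whose maps fix `Z` modulo `Q`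
fixes `Z`
-/

namespace Cfsg.Agent.H9ZW

open Cfsg Cfsg.FusionSystem Cfsg.Agent.Lib.Helper9 Cfsg.Agent.H9ZJ

variable {Ω : Type*} [Group Ω] {S : Subgroup Ω}

/-- The automorphisms of `R` fixing the elements of `Z`. -/
def fixAut (R Z : Subgroup Ω) : Subgroup (MulAut R) where
  carrier := {β | ∀ x : R, (x : Ω) ∈ Z → β x = x}
  mul_mem' := by
    intro a b ha hb x hx
    rw [MulAut.mul_apply, hb x hx, ha x hx]
  one_mem' := by
    intro x _
    rfl
  inv_mem' := by
    intro a ha x hx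
    have h := ha x hx
    have h2 : a⁻¹ (a x) = x := MulAut.inv_apply_self _ _ _
    rw [h] at h2
    exact h2

theorem eq_one_of_pows {G : Type*} [Group G] {g : G} {m k : ℕ} (h1 : g ^ m = 1) (h2 : g ^ k = 1)
    (hc : Nat.Coprime m k) : g = 1 := by
  have d1 := orderOf_dvd_of_pow_eq_one h1
  have d2 := orderOf_dvd_of_pow_eq_one h2
  have := Nat.eq_one_of_dvd_coprimes hc d1 d2
  exact orderOf_eq_one_iff.mp this

/-- An automorphism of order prime to `p` fixes the elements of `Z`. -/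
theorem SC_fixes_coprime [Finite S] (p : ℕ) [hp : Fact p.Prime] (hS : IsPGroup p S) (D : FusionSystem S)
    {Q : Subgroup Ω} (hQsc : D.StronglyClosed Q) (hQp : IsPGroup p (D.autGroup Q)) {Z : Subgroup Ω}
    (hmod : ∀ (P : Subgroup Ω) (φ : P →* Ω), φ ∈ D.Hom P → ∀ x : P, (x : Ω) ∈ Z → (x : Ω)⁻¹ * φ x ∈ Q)
    {R : Subgroup Ω} (hRS : R ≤ S) (hQR : Q ≤ R) (β : MulAut R) (hβ : β ∈ D.autGroup R) (k : ℕ)
    (hk : Nat.Coprime p k) (hβk : β ^ k = 1) (x : R) (hx : (x : Ω) ∈ Z) : β x = x := by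
  have hβhom := (mem_autGroup_iff D hRS β).mp hβ
  have hβQ : ∀ y : R, (y : Ω) ∈ Q → ((β y : R) : Ω) ∈ Q := fun y hy =>
    fs_stronglyClosed_mem D hQsc hβhom y hy
  have hval : ∀ q : Q, ((R.subtype.comp β.toMonoidHom).comp (Subgroup.inclusion hQR)) q ∈ Q :=
    fun q => hβQ _ q.2
  obtain ⟨ν, hν, Hν⟩ := fs_hom_to_aut D (fs_restrict_mem D hβhom hQR) hval
  have Hν' : ∀ y : Q, ((β (Subgroup.inclusion hQR y) : R) : Ω) = ((ν y : Q) : Ω) := fun y => (Hν y).symm
  have hpow := pow_restrict hQR β ν Hν' k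
  have hνk : ν ^ k = 1 := by
    apply MulEquiv.ext
    intro y
    apply Subtype.ext
    rw [← hpow y, hβk]
    rfl
  obtain ⟨a, ha⟩ := hQp ⟨ν, hν⟩
  have hνa : ν ^ (p ^ a) = 1 := by
    have := congrArg Subtype.val ha
    simpa using this
  have hν1 : ν = 1 := eq_one_of_pows hνa hνk (Nat.Coprime.pow_left a hk)
  have hβq : ∀ y : R, (y : Ω) ∈ Q → β y = y := by
    intro y hy
    apply Subtype.ext
    have h := Hν' ⟨y, hy⟩
    rw [hν1] at h
    exact h
  obtain ⟨q₀, hq₀def⟩ : ∃ q₀ : R, q₀ = x⁻¹ * β x := ⟨_, rfl⟩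
  have hq₀Q : (q₀ : Ω) ∈ Q := by
    rw [hq₀def]
    exact hmod R _ hβhom x hx
  have hβx : β x = x * q₀ := by rw [hq₀def]; group
  have hβq₀ : β q₀ = q₀ := hβq q₀ hq₀Q
  have hpowx : ∀ n : ℕ, (β ^ n) x = x * q₀ ^ n := by
    intro n
    induction n with
    | zero => simp
    | succ n ih =>
      rw [pow_succ', MulAut.mul_apply, ih, map_mul, map_pow, hβx, hβq₀, pow_succ', mul_assoc]
  have h1 := hpowx k
  rw [hβk] at h1
  have h2 : q₀ ^ k = 1 := by
    have h1' : x = x * q₀ ^ k := h1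
    have h1'' : x * q₀ ^ k = x * 1 := by rw [mul_one]; exact h1'.symm
    exact mul_left_cancel h1''
  obtain ⟨b, hb⟩ := hS ⟨q₀, hRS q₀.2⟩
  have h3 : q₀ ^ (p ^ b) = 1 := by
    apply Subtype.ext
    have := congrArg Subtype.val hb
    simpa using this
  have h4 : q₀ = 1 := eq_one_of_pows h3 h2 (Nat.Coprime.pow_left b hk)
  rw [hβx, h4, mul_one]

theorem SC_fixes [Finite S] (p : ℕ) [hp : Fact p.Prime] (hS : IsPGroup p S) (D : FusionSystem S)
    (hD : D.IsSaturated p) {Q : Subgroup Ω} (hQ : D.IsNormal Q) (hQp : IsPGroup p (D.autGroup Q))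
    {Z : Subgroup Ω} (hZc : ∀ z ∈ Z, ∀ s ∈ S, s * z * s⁻¹ = z)
    (hmod : ∀ (P : Subgroup Ω) (φ : P →* Ω), φ ∈ D.Hom P → ∀ x : P, (x : Ω) ∈ Z → (x : Ω)⁻¹ * φ x ∈ Q) :
    Fixes D Z := by
  have hQS := hQ.1
  have hQsc := fs_stronglyClosed_of_isNormal D hQ
  have key := fs_le_of_autGroup_le p hS D (fixSystem D Z hZc) hD ?_
  · intro P φ hφ x hx
    have h1 := key _ P φ hφ rfl
    exact h1.2 x (Or.inl hx)
  intro R hRfn hbig
  have hRS := hRfn.1
  haveI : Finite R := fs_finite_of_le hRS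
  intro α₀ hα₀'
  have hα₀ := (mem_autGroup_iff D hRS α₀).mp hα₀'
  rw [mem_autGroup_iff _ hRS]
  by_cases hQR : Q ≤ R
  · obtain ⟨G₀, hG₀⟩ : ∃ G₀ : Subgroup (MulAut R), ∀ β : MulAut R, β ∈ G₀ ↔
        ∀ x : R, (x : Ω) ∈ Z → β x = x := ⟨fixAut R Z, fun β => Iff.rfl⟩
    have hle : D.autGroup R ≤ G₀ := by
      have hK : G₀.subgroupOf (D.autGroup R) = ⊤ := by
        rw [← Subgroup.index_eq_one, Nat.eq_one_iff_not_exists_prime_dvd]
        intro r hr hdvd
        haveI : Fact r.Prime := ⟨hr⟩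
        by_cases hrp : r = p
        · subst hrp
          obtain ⟨-, Syl, hSyl⟩ := (fs_sylow_axiom r hS D hD hRfn).2
          have h1 : (Syl : Subgroup (D.autGroup R)) ≤ G₀.subgroupOf (D.autGroup R) := by
            rw [hSyl]
            intro β hβ
            rw [Subgroup.mem_subgroupOf] at hβ ⊢
            rw [mem_autInducedBy_iff] at hβ
            obtain ⟨g, hg, Hg⟩ := hβ
            rw [hG₀]
            intro x hx
            apply Subtype.ext
            rw [Hg x]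
            exact hZc _ hx g hg
          exact Syl.not_dvd_index (dvd_trans hdvd (Subgroup.index_dvd_of_le h1))
        · obtain ⟨Pr⟩ : Nonempty (Sylow r (D.autGroup R)) := inferInstance
          have hcop : Nat.Coprime p r := (Nat.coprime_primes hp.out hr).mpr (fun h => hrp h.symm)
          have h1 : (Pr : Subgroup (D.autGroup R)) ≤ G₀.subgroupOf (D.autGroup R) := by
            intro β hβ
            rw [Subgroup.mem_subgroupOf, hG₀]
            obtain ⟨n, hn⟩ := Pr.2 ⟨β, hβ⟩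
            have hβn : (β : MulAut R) ^ (r ^ n) = 1 := by
              have := congrArg (fun z : (Pr : Subgroup (D.autGroup R)) => ((z : D.autGroup R) : MulAut R)) hn
              simpa using this
            intro x hx
            exact SC_fixes_coprime p hS D hQsc hQp hmod hRS hQR β β.2 (r ^ n)
              (Nat.Coprime.pow_right n hcop) hβn x hx
          exact Pr.not_dvd_index (dvd_trans hdvd (Subgroup.index_dvd_of_le h1))
      intro β hβ
      have h1 : (⟨β, hβ⟩ : D.autGroup R) ∈ G₀.subgroupOf (D.autGroup R) := by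
        rw [hK]; exact Subgroup.mem_top _
      exact h1
    refine ⟨hα₀, fun x hx => ?_⟩
    rcases hx with hx | hx
    · exact congrArg Subtype.val ((hG₀ α₀).mp (hle hα₀') x hx)
    · have hx' : ((α₀ x : R) : Ω) ∈ Z := hx
      have h1 := (hG₀ α₀⁻¹).mp (hle ((D.autGroup R).inv_mem hα₀')) (α₀ x) hx'
      rw [MulAut.inv_apply_self] at h1
      exact (congrArg Subtype.val h1).symm
  · obtain ⟨ψ, hψ, hψP, -⟩ := hQ.2 R _ hα₀
    have hlt : Nat.card R < Nat.card ↥(R ⊔ Q) := by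
      haveI : Finite ↥(R ⊔ Q) := fs_finite_of_le (sup_le hRS hQS)
      by_contra hle
      push Not at hle
      have h := Subgroup.eq_of_le_of_card_ge (le_sup_left : R ≤ R ⊔ Q) hle
      exact hQR (le_sup_right.trans h.ge)
    have h1 := hbig (R ⊔ Q) (sup_le hRS hQS) hlt hψ
    have h2 := fs_restrict_mem (fixSystem D Z hZc) h1 (le_sup_left : R ≤ R ⊔ Q)
    have h3 : ψ.comp (Subgroup.inclusion (le_sup_left : R ≤ R ⊔ Q)) = R.subtype.comp α₀.toMonoidHom := by
      ext x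
      exact hψP x
    rwa [h3] at h2

end Cfsg.Agent.H9ZW
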