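import Mathlib
import Cfsg.Prelude.Def_FusionSystem
import Cfsg.Agent.Lib.Helper9.ZX1
import Cfsg.Agent.Lib.Helper9.ZW7

set_option autoImplicit false

/-!
# Control of weak closure of elements (part 5): the decomposition `φ = δ ∘ Γ` for a normal subgroup `Q`
-/

namespace Cfsg.Agent.H9ZW

open Cfsg Cfsg.FusionSystem Cfsg.Agent.Lib.Helper9

variable {Ω : Type*} [Group Ω] {S : Subgroup Ω}

/-- If `Q` is normal in the saturated system `F`, the maps normalizing `Q C_S(Q)` fix `Z` and the maps which are the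
identity on `Q` fix `Z`, then all maps fix `Z`. -/
theorem fixes_of_decomp [Finite S] (p : ℕ) [Fact p.Prime] (hS : IsPGroup p S) (F : FusionSystem S)
    (hF : F.IsSaturated p) {Q : Subgroup Ω} (hQ : F.IsNormal Q) {Z : Subgroup Ω}
    (h1 : ∀ (P : Subgroup Ω) (ψ : P →* Ω), Q ⊔ centralizerIn S Q ≤ P → ψ ∈ F.Hom P →
      ((Q ⊔ centralizerIn S Q).subgroupOf P).map ψ = Q ⊔ centralizerIn S Q →
        ∀ x : P, (x : Ω) ∈ Z → ψ x = x)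
    (h2 : ∀ (P : Subgroup Ω) (δ : P →* Ω) (hQP : Q ≤ P), δ ∈ F.Hom P →
      (∀ q : Q, δ (Subgroup.inclusion hQP q) = (q : Ω)) → ∀ x : P, (x : Ω) ∈ Z → δ x = x) :
    Fixes F Z := by
  intro P₀ φ₀ hφ₀ x₀ hx₀
  obtain ⟨φ, hφ, hφP₀, -⟩ := hQ.2 P₀ φ₀ hφ₀
  have hQP : Q ≤ P₀ ⊔ Q := le_sup_right
  have hQsc := fs_stronglyClosed_of_isNormal F hQ
  rw [← hφP₀ x₀]
  suffices H : ∀ x : ↥(P₀ ⊔ Q), (x : Ω) ∈ Z → φ x = x from H _ hx₀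
  obtain ⟨Γ, hΓ, hΓQ, hΓR⟩ := exists_Gamma p hS F hF hQ hQP hφ
  have hR1M : Q ⊔ centralizerIn S Q ≤ (P₀ ⊔ Q) ⊔ centralizerIn S Q :=
    sup_le (hQP.trans le_sup_left) le_sup_right
  have hΓfix := h1 _ Γ hR1M hΓ hΓR
  obtain ⟨ΓP, hΓPdef⟩ : ∃ ΓP : ↥(P₀ ⊔ Q) →* Ω,
      ΓP = Γ.comp (Subgroup.inclusion (le_sup_left : P₀ ⊔ Q ≤ (P₀ ⊔ Q) ⊔ centralizerIn S Q)) := ⟨_, rfl⟩
  have hΓP : ΓP ∈ F.Hom (P₀ ⊔ Q) := by rw [hΓPdef]; exact fs_restrict_mem F hΓ le_sup_left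
  have hΓPQ : ∀ x : ↥(P₀ ⊔ Q), (x : Ω) ∈ Q → ΓP x = φ x := by
    intro x hx
    rw [hΓPdef]
    have := hΓQ ⟨x, hx⟩
    exact this
  obtain ⟨ι, hι, Hι⟩ := F.inv_mem hΓP
  have hιP : ∀ y : ΓP.range, ι y ∈ P₀ ⊔ Q := by
    rintro ⟨_, x, rfl⟩
    rw [Hι x]
    exact x.2
  have hδ : φ.comp (ι.codRestrict (P₀ ⊔ Q) hιP) ∈ F.Hom ΓP.range := F.comp_mem hι hφ hιP
  have Hδ : ∀ x : ↥(P₀ ⊔ Q), (φ.comp (ι.codRestrict (P₀ ⊔ Q) hιP)) ⟨ΓP x, ⟨x, rfl⟩⟩ = φ x := by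
    intro x
    show φ ⟨ι ⟨ΓP x, _⟩, _⟩ = φ x
    congr 1
    exact Subtype.ext (Hι x)
  have hsurjQ : ∀ q : Q, ∃ x : ↥(P₀ ⊔ Q), (x : Ω) ∈ Q ∧ φ x = q ∧ ΓP x = q := by
    intro q
    obtain ⟨x, hxQ, hxq⟩ := fs_stronglyClosed_surj F hQsc hφ hQP q.2
    exact ⟨x, hxQ, hxq, (hΓPQ x hxQ).trans hxq⟩
  have hQP' : Q ≤ ΓP.range := by
    intro q hq
    obtain ⟨x, -, -, hx⟩ := hsurjQ ⟨q, hq⟩
    exact ⟨x, hx⟩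
  have hid : ∀ q : Q, (φ.comp (ι.codRestrict (P₀ ⊔ Q) hιP)) (Subgroup.inclusion hQP' q) = (q : Ω) := by
    intro q
    obtain ⟨x, -, hxφ, hxΓ⟩ := hsurjQ q
    have e : Subgroup.inclusion hQP' q = ⟨ΓP x, ⟨x, rfl⟩⟩ := Subtype.ext hxΓ.symm
    rw [e, Hδ x, hxφ]
  have hδfix := h2 _ _ hQP' hδ hid
  intro x hx
  have e1 : ΓP x = x := by
    rw [hΓPdef]
    exact hΓfix (Subgroup.inclusion le_sup_left x) hx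
  have hx' : ((⟨ΓP x, ⟨x, rfl⟩⟩ : ΓP.range) : Ω) ∈ Z := by
    show ΓP x ∈ Z
    rw [e1]
    exact hx
  have e2 := hδfix ⟨ΓP x, ⟨x, rfl⟩⟩ hx'
  rw [Hδ x] at e2
  exact e2.trans e1

end Cfsg.Agent.H9ZW
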