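import Mathlib
import Cfsg.Prelude.Def_FusionSystem
import Cfsg.Prelude.Def_FusionReduction
import Cfsg.Agent.Lib.Helper9.ZX8
import Cfsg.Agent.Lib.Helper9.KNorm13
import Cfsg.Agent.S5084
import Cfsg.Agent.S5144

set_option autoImplicit false

/-!
# Control of weak closure of elements (part 9): `Z(N_F(W(S))) = Z(F)`
-/

namespace Cfsg.Agent.H9ZW

open Cfsg Cfsg.FusionSystem Cfsg.Agent.Lib.Helper9 Cfsg.Agent.H9KL

universe u

variable {p : ℕ} {W : ∀ (Q : Type u) [Group Q], Subgroup Q}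

theorem center_normalizer_eq [hp : Fact p.Prime] (hW : IsGF p PUnit.{1} W) (hC : LocalCenter p W) {Ω : Type u}
    [Group Ω] {S : Subgroup Ω} [Finite S] (hS : IsPGroup p S) (F : FusionSystem S) (hF : F.IsSaturated p)
    (N : FusionSystem (normalizerIn S (Wof W S))) (hN : F.IsNormalizerSystem (Wof W S) N) :
    N.center = F.center := by
  have hX₀S : Wof W S ≤ S := Wof_le W S
  have hSN : S ≤ Subgroup.normalizer ((Wof W S : Subgroup Ω) : Set Ω) :=
    (Subgroup.le_normalizer).trans (normalizer_le_normalizer_Wof hW hS)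
  have hTS : normalizerIn S (Wof W S) ≤ S := inf_le_left
  haveI : Finite ↥(normalizerIn S (Wof W S)) := fs_finite_of_le hTS
  have hTp : IsPGroup p ↥(normalizerIn S (Wof W S)) := hS.to_le hTS
  have hNsat : N.IsSaturated p :=
    normalizerSystem_saturated p hS F hF (fullyNormalized_of_le_normalizer F hX₀S hSN) N hN
  have hN' : ∀ P : Subgroup Ω, N.Hom P = F.normalizerHom (Wof W S) P := hN
  apply le_antisymm
  · -- `Z(N) ≤ Z(F)`
    have h1 : N.IsCentral N.center := Cfsg.Agent.S5144.result N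
    obtain ⟨hZ₁N, hZ₁⟩ := (Cfsg.Agent.S5084.result p hTp N hNsat N.center).mp h1
    have hZ₁S : N.center ≤ S := hZ₁N.trans hTS
    have hfixN : FixesN F (Wof W S) N.center := by
      intro P φ hφ x hx
      rw [← hN'] at hφ
      exact hZ₁ x hx (φ x) (Cfsg.Agent.S5084.fs_isConjElt_apply N hφ x)
    have hfix : Fixes F N.center := CF_main hW hC _ hS F hF rfl N.center hZ₁S hfixN
    have h2 : F.IsCentral N.center := by
      rw [Cfsg.Agent.S5084.result p hS F hF]
      refine ⟨hZ₁S, ?_⟩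
      rintro x hx y ⟨φ, hφ, rfl⟩
      exact hfix _ φ hφ ⟨x, Subgroup.mem_zpowers x⟩ hx
    exact le_sSup h2
  · -- `Z(F) ≤ Z(N)`
    have h1 : F.IsCentral F.center := Cfsg.Agent.S5144.result F
    obtain ⟨hZ₂S, hZ₂⟩ := (Cfsg.Agent.S5084.result p hS F hF F.center).mp h1
    have h2 : N.IsCentral F.center := by
      rw [Cfsg.Agent.S5084.result p hTp N hNsat]
      refine ⟨fun x hx => ⟨hZ₂S hx, hSN (hZ₂S hx)⟩, ?_⟩
      rintro x hx y ⟨φ, hφ, rfl⟩
      rw [hN'] at hφ
      exact hZ₂ x hx _ ⟨φ, hφ.1, rfl⟩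
    exact le_sSup h2

end Cfsg.Agent.H9ZW
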