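import Mathlib
import Cfsg.Prelude.Def_FusionSystem
import Cfsg.Prelude.Def_FusionReduction
import Cfsg.Agent.Lib.Helper9.CFP4
import Cfsg.Agent.Lib.Helper9.ZX9
import Cfsg.Agent.Lib.Helper9.KL14
import Cfsg.Agent.Lib.Helper9.KL21

set_option autoImplicit false

/-!
# Control of weak closure of elements relative to a hereditary property `Ψ` (part 5): `Z(N_F(W(S))) = Z(F)`,
and the two instances (`Ψ` trivial; `Ψ` = `H`-free)
-/

namespace Cfsg.Agent.H9CFP

open Cfsg Cfsg.FusionSystem Cfsg.Agent.Lib.Helper9 Cfsg.Agent.H9KL Cfsg.Agent.H9ZW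

universe u w

variable {p : ℕ} {W : ∀ (Q : Type u) [Group Q], Subgroup Q}
  {Ψ : ∀ {Ω : Type u} [Group Ω] {S : Subgroup Ω}, FusionSystem S → Prop}

theorem cfp_center_normalizer_eq [hp : Fact p.Prime] (hW : IsGF p PUnit.{1} W) (hC : CFHyp p W Ψ) {Ω : Type u}
    [Group Ω] {S : Subgroup Ω} [Finite S] (hS : IsPGroup p S) (F : FusionSystem S) (hF : F.IsSaturated p)
    (hΨ : Ψ F)
    (N : FusionSystem (normalizerIn S (Wof W S))) (hN : F.IsNormalizerSystem (Wof W S) N) :
    N.center = F.center := by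
  have hX₀S : Wof W S ≤ S := Wof_le W S
  have hSN : S ≤ Subgroup.normalizer ((Wof W S : Subgroup Ω) : Set Ω) :=
    (Subgroup.le_normalizer).trans (normalizer_le_normalizer_Wof hW hS)
  have hTS : normalizerIn S (Wof W S) ≤ S := inf_le_left
  haveI : Finite ↥(normalizerIn S (Wof W S)) := fs_finite_of_le hTS
  have hTp : IsPGroup p ↥(normalizerIn S (Wof W S)) := hS.to_le hTS
  have hNsat : N.IsSaturated p :=
    normalizerSystem_saturated p hS F hF (fullyNormalized_of_le_normalizer F hX₀S hSN) N hN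
  have hN' : ∀ P : Subgroup Ω, N.Hom P = F.normalizerHom (Wof W S) P := hN
  apply le_antisymm
  · -- `Z(N) ≤ Z(F)`
    have h1 : N.IsCentral N.center := Cfsg.Agent.S5144.result N
    obtain ⟨hZ₁N, hZ₁⟩ := (Cfsg.Agent.S5084.result p hTp N hNsat N.center).mp h1
    have hZ₁S : N.center ≤ S := hZ₁N.trans hTS
    have hfixN : FixesN F (Wof W S) N.center := by
      intro P φ hφ x hx
      rw [← hN'] at hφ
      exact hZ₁ x hx (φ x) (Cfsg.Agent.S5084.fs_isConjElt_apply N hφ x)
    have hfix : Fixes F N.center := CFP_main hW hC _ hS F hF hΨ rfl N.center hZ₁S hfixN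
    have h2 : F.IsCentral N.center := by
      rw [Cfsg.Agent.S5084.result p hS F hF]
      refine ⟨hZ₁S, ?_⟩
      rintro x hx y ⟨φ, hφ, rfl⟩
      exact hfix _ φ hφ ⟨x, Subgroup.mem_zpowers x⟩ hx
    exact le_sSup h2
  · -- `Z(F) ≤ Z(N)`
    have h1 : F.IsCentral F.center := Cfsg.Agent.S5144.result F
    obtain ⟨hZ₂S, hZ₂⟩ := (Cfsg.Agent.S5084.result p hS F hF F.center).mp h1
    have h2 : N.IsCentral F.center := by
      rw [Cfsg.Agent.S5084.result p hTp N hNsat]
      refine ⟨fun x hx => ⟨hZ₂S hx, hSN (hZ₂S hx)⟩, ?_⟩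
      rintro x hx y ⟨φ, hφ, rfl⟩
      rw [hN'] at hφ
      exact hZ₂ x hx _ ⟨φ, hφ.1, rfl⟩
    exact le_sSup h2

/-- The local condition for the constrained groups (those of characteristic `p`) not involving `H`. -/
def LocalCenterFree (p : ℕ) (H : Type w) [Group H] (W : ∀ (Q : Type u) [Group Q], Subgroup Q) : Prop :=
  ∀ (G : Type u) [Group G] [Finite G] (P : Sylow p G),
    Subgroup.centralizer ((Cfsg.pCore p G : Subgroup G) : Set G) ≤ Cfsg.pCore p G → ¬ Involves H G →
    Cfsg.pCore p G ⊓ Subgroup.center G =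
      Cfsg.pCore p G ⊓ (Subgroup.center ↥(Subgroup.normalizer ((Wof W (P : Subgroup G) : Subgroup G) : Set G))).map
        (Subgroup.normalizer ((Wof W (P : Subgroup G) : Subgroup G) : Set G)).subtype

/-- The local condition for all the constrained groups. -/
def LocalCenterConstr (p : ℕ) (W : ∀ (Q : Type u) [Group Q], Subgroup Q) : Prop :=
  ∀ (G : Type u) [Group G] [Finite G] (P : Sylow p G),
    Subgroup.centralizer ((Cfsg.pCore p G : Subgroup G) : Set G) ≤ Cfsg.pCore p G →
    Cfsg.pCore p G ⊓ Subgroup.center G =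
      Cfsg.pCore p G ⊓ (Subgroup.center ↥(Subgroup.normalizer ((Wof W (P : Subgroup G) : Subgroup G) : Set G))).map
        (Subgroup.normalizer ((Wof W (P : Subgroup G) : Subgroup G) : Set G)).subtype

theorem cfHyp_true (hloc : LocalCenterConstr p W) : CFHyp p W (fun {Ω} _ {S} (_ : FusionSystem S) => True) := by
  refine ⟨fun _ _ _ _ _ _ _ _ => trivial, fun _ _ _ _ _ _ _ _ _ => trivial, ?_⟩
  intro Ω _ S _ hS F hF _ Q hQ hc G _ ι hmodel P
  obtain ⟨hfin, -, -, hcent⟩ := hmodel
  haveI := hfin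
  exact hloc G P hcent

/-- A model of a system with a normal centric subgroup does not involve `H`, if the system is `H`-free. -/
theorem model_not_involves [hp : Fact p.Prime] {H : Type w} [Group H] {Ω : Type u} [Group Ω] {S : Subgroup Ω}
    [Finite S] (hS : IsPGroup p S) (F : FusionSystem S) (hF : F.IsSaturated p) (hfree : F.IsSectionFree p H)
    {Q : Subgroup Ω} (hQ : F.IsNormal Q) (hc : centralizerIn S Q ≤ Q)
    (G : Type u) [Group G] (ι : S →* G) (hG : F.IsModel p G ι) : ¬ Involves H G := by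
  have hQS := hQ.1
  have hQsc := fs_stronglyClosed_of_isNormal F hQ
  have hSQ := fs_stronglyClosed_le_normalizer F hQsc
  have hfn := fullyNormalized_of_le_normalizer F hQS hSQ
  have hQc : F.IsCentric Q := fs_centric_of_fullyCentralized_of_le F (fs_sylow_axiom p hS F hF hfn).1 hc
  have hNQ : normalizerIn S Q = S := le_antisymm inf_le_left (le_inf le_rfl hSQ)
  obtain ⟨E, hE⟩ := Cfsg.Agent.S5096.result F Q hQS
  have hEF : ∀ P : Subgroup Ω, E.Hom P = F.Hom P := by
    intro P
    rw [hE]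
    ext φ
    constructor
    · intro h
      exact h.1
    · intro hφ
      obtain ⟨hPS, hφS⟩ := F.le_of_mem hφ
      obtain ⟨ψ, hψ, h1, h2⟩ := hQ.2 P φ hφ
      refine ⟨hφ, by rw [hNQ]; exact hPS, fun x => by rw [hNQ]; exact hφS x, ψ, hψ, h1, h2⟩
  -- transport the model
  have key : ∀ (A : Subgroup Ω) (hA : A = S) (E : FusionSystem A), (∀ P : Subgroup Ω, E.Hom P = F.Hom P) →
      ∃ ι' : A →* G, E.IsModel p G ι' := by
    intro A hA
    subst hA
    intro E hEF
    refine ⟨ι, hG.1, ⟨hG.2.1.1, fun P hP φ hφ => ?_⟩, hG.2.2⟩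
    rw [hEF]
    exact hG.2.1.2 P hP φ hφ
  obtain ⟨ι', hι'⟩ := key _ hNQ E hEF
  exact hfree Q hfn hQc E hE G ι' hι'

theorem cfHyp_free [hp : Fact p.Prime] {H : Type w} [Group H] (hloc : LocalCenterFree p H W) :
    CFHyp p W (fun {Ω} _ {S} (F : FusionSystem S) => F.IsSectionFree p H) := by
  refine ⟨?_, ?_, ?_⟩
  · intro Ω _ S _ hS F hF hfree Q hQfn E hE
    exact normalizer_sectionFree p hS F hF hfree Q hQfn E hE
  · intro Ω _ S _ hS F hF hfree Q hQ hn E' hE'
    exact factor_sectionFree p hS F hF Q hQ hfree _ E' hE'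
  · intro Ω _ S _ hS F hF hfree Q hQ hc G _ ι hmodel P
    have hni := model_not_involves hS F hF hfree hQ hc G ι hmodel
    obtain ⟨hfin, -, -, hcent⟩ := hmodel
    haveI := hfin
    exact hloc G P hcent hni

end Cfsg.Agent.H9CFP
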