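import Mathlib
import Cfsg.Prelude.Def_FusionSystem
import Cfsg.Prelude.Def_FusionReduction
import Cfsg.Prelude.Def_PLocal
import Cfsg.Agent.Lib.Helper9.CFP5
import Cfsg.Agent.Lib.Lead.QuadJ
import Cfsg.Agent.Lib.Lead.GlaubA

set_option autoImplicit false

/-!
# Glauberman's theorem for fusion systems, `p` odd: `Z(N_F(J(S))) = Z(F)`
-/

namespace Cfsg.Agent.H9CFP

open Cfsg Cfsg.FusionSystem Cfsg.Agent.Lib.Helper9 Cfsg.Agent.H9KL Cfsg.Agent.H9ZW
open Cfsg.Agent.Lib.Lead Cfsg.Agent.Lib.Lead.QuadJ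

universe u

/-- The centre lies in every abelian subgroup of largest order. -/
theorem center_le_of_mem_maxAbelian {Q : Type*} [Group Q] [Finite Q] {A : Subgroup Q}
    (hA : A ∈ Cfsg.maxAbelianSubgroups Q) : Subgroup.center Q ≤ A := by
  obtain ⟨hAc, hmax⟩ := hA
  have hcomm : IsMulCommutative ↥(A ⊔ Subgroup.center Q) := by
    refine ⟨⟨?_⟩⟩
    rintro ⟨a, ha⟩ ⟨b, hb⟩
    apply Subtype.ext
    show a * b = b * a
    obtain ⟨a₁, ha₁, z₁, hz₁, rfl⟩ := Subgroup.mem_sup_of_normal_right.mp ha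
    obtain ⟨a₂, ha₂, z₂, hz₂, rfl⟩ := Subgroup.mem_sup_of_normal_right.mp hb
    have hc : a₁ * a₂ = a₂ * a₁ := congrArg Subtype.val (hAc.is_comm.comm ⟨a₁, ha₁⟩ ⟨a₂, ha₂⟩)
    have e1 := Subgroup.mem_center_iff.mp hz₁
    have e2 := Subgroup.mem_center_iff.mp hz₂
    calc a₁ * z₁ * (a₂ * z₂) = a₁ * (z₁ * a₂) * z₂ := by group
      _ = a₁ * (a₂ * z₁) * z₂ := by rw [e1 a₂]
      _ = (a₁ * a₂) * (z₁ * z₂) := by group
      _ = (a₂ * a₁) * (z₂ * z₁) := by rw [hc, e2 z₁]
      _ = a₂ * (a₁ * z₂) * z₁ := by group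
      _ = a₂ * (z₂ * a₁) * z₁ := by rw [e2 a₁]
      _ = a₂ * z₂ * (a₁ * z₁) := by group
  have h1 := hmax _ hcomm
  have h2 : A ⊔ Subgroup.center Q = A :=
    (Subgroup.eq_of_le_of_card_ge (le_sup_left : A ≤ A ⊔ Subgroup.center Q) h1).symm
  rw [← h2]
  exact le_sup_right

theorem center_le_thompsonSubgroupA (Q : Type*) [Group Q] [Finite Q] :
    Subgroup.center Q ≤ Cfsg.thompsonSubgroupA Q := by
  obtain ⟨A, hA⟩ := ZJFun.exists_mem_maxAbelianSubgroups (Q := Q)
  exact (center_le_of_mem_maxAbelian hA).trans (le_sSup hA)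

variable {p : ℕ} [hp : Fact p.Prime]

theorem isGF_WJ : IsGF p PUnit.{1} (WJ.{u}) := by
  apply isGF_punit
  · intro Q _ _ _ hnt
    haveI := hnt
    exact ZJFun.thompsonSubgroupA_ne_bot
  · exact hW2_WJ

theorem Wof_WJ {Ω : Type u} [Group Ω] (R : Subgroup Ω) : Wof WJ R = Cfsg.thompsonSubgroupAOf R := rfl

/-- The local condition for `J`, in the constrained groups, from a centrality statement. -/
theorem local_of_center {G : Type u} [Group G] [Finite G] (P : Sylow p G)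
    (h : ∀ x : G, x ∈ (P : Subgroup G) → (∀ y ∈ (P : Subgroup G), y * x = x * y) →
      (∀ g ∈ Subgroup.normalizer ((Cfsg.thompsonSubgroupAOf (P : Subgroup G) : Subgroup G) : Set G),
        g * x = x * g) → x ∈ Subgroup.center G) :
    Cfsg.pCore p G ⊓ Subgroup.center G =
      Cfsg.pCore p G ⊓ (Subgroup.center ↥(Subgroup.normalizer ((Wof WJ (P : Subgroup G) : Subgroup G) : Set G))).map
        (Subgroup.normalizer ((Wof WJ (P : Subgroup G) : Subgroup G) : Set G)).subtype := by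
  have hOP : Cfsg.pCore p G ≤ (P : Subgroup G) := pCore_le_sylow P
  have hPN : (P : Subgroup G) ≤ Subgroup.normalizer ((Wof WJ (P : Subgroup G) : Subgroup G) : Set G) :=
    (Subgroup.le_normalizer).trans (normalizer_le_normalizer_Wof isGF_WJ P.2)
  apply le_antisymm
  · rintro x ⟨hx1, hx2⟩
    refine ⟨hx1, ⟨x, hPN (hOP hx1)⟩, ?_, rfl⟩
    apply Subgroup.mem_center_iff.mpr
    intro g
    apply Subtype.ext
    exact Subgroup.mem_center_iff.mp hx2 g
  · rintro x ⟨hx1, ⟨y, hy, rfl⟩⟩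
    refine ⟨hx1, ?_⟩
    have hyc := Subgroup.mem_center_iff.mp hy
    apply h _ (hOP hx1)
    · intro z hz
      have := hyc ⟨z, hPN hz⟩
      exact congrArg Subtype.val this
    · intro g hg
      have := hyc ⟨g, hg⟩
      exact congrArg Subtype.val this

theorem localCenterConstr_WJ (hp2 : p ≠ 2) : LocalCenterConstr p (WJ.{u}) := by
  intro G _ _ P hcent
  apply local_of_center P
  intro x hxP hxc hN
  exact Cfsg.Agent.Lib.Lead.GlaubA.glauberman_center_odd hp2 G P hcent x hxP hxc hN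

/-- **Glauberman's theorem for fusion systems**, `p` odd: the centre of `N_F(J(S))` is the centre of `F`. -/
theorem thompson_center_eq_odd (hp2 : p ≠ 2) {Ω : Type u} [Group Ω] {S : Subgroup Ω} [Finite S]
    (hS : IsPGroup p S) (F : FusionSystem S) (hF : F.IsSaturated p)
    (N : FusionSystem (normalizerIn S (Cfsg.thompsonSubgroupAOf S)))
    (hN : F.IsNormalizerSystem (Cfsg.thompsonSubgroupAOf S) N) : N.center = F.center :=
  cfp_center_normalizer_eq (W := WJ.{u}) isGF_WJ (cfHyp_true (localCenterConstr_WJ hp2)) hS F hF trivial N hN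

end Cfsg.Agent.H9CFP
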