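import Mathlib
import Cfsg.Prelude.Def_FusionSystem
import Cfsg.Prelude.Def_FusionReduction
import Cfsg.Agent.Lib.Helper9.ZX1
import Cfsg.Agent.Lib.Helper9.ZW3
import Cfsg.Agent.Lib.Helper9.KL9
import Cfsg.Agent.Lib.Helper9.KL10
import Cfsg.Agent.Lib.Helper9.KL19
import Cfsg.Agent.Lib.Helper9.Model1
import Cfsg.Agent.Lib.Helper9.FusionAG2
import Cfsg.Agent.S5090

set_option autoImplicit false

/-!
# Control of weak closure of `p`-th powers of central elements (part 1): the constrained case, through the model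
-/

namespace Cfsg.Agent.H9ZW

open Cfsg Cfsg.FusionSystem Cfsg.Agent.Lib.Helper9 Cfsg.Agent.H9KL

universe u

/-- `Z` consists of `p`-th powers of central elements of `S`. -/
def IsPP {Ω : Type*} [Group Ω] (p : ℕ) (S Z : Subgroup Ω) : Prop :=
  ∀ z ∈ Z, ∃ x ∈ S, (∀ s ∈ S, s * x = x * s) ∧ x ^ p = z

/-- The local statement for groups of characteristic `p`: a `p`-th power of an element of `Z(P)` centralized by
`N_G(W(P))` is central in `G`. -/
def QuadCenter (p : ℕ) (W : ∀ (Q : Type u) [Group Q], Subgroup Q) : Prop :=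
  ∀ (G : Type u) [Group G] [Finite G] (P : Sylow p G),
    Subgroup.centralizer ((Cfsg.pCore p G : Subgroup G) : Set G) ≤ Cfsg.pCore p G →
    ∀ x : G, x ∈ (P : Subgroup G) → (∀ y ∈ (P : Subgroup G), y * x = x * y) →
      (∀ g ∈ Subgroup.normalizer ((Wof W (P : Subgroup G) : Subgroup G) : Set G), g * x ^ p = x ^ p * g) →
        x ^ p ∈ Subgroup.center G

variable {p : ℕ} {W : ∀ (Q : Type u) [Group Q], Subgroup Q}

theorem cf2_centric [hp : Fact p.Prime] (hW : IsGF p PUnit.{1} W) (hA : QuadCenter p W) {Ω : Type u} [Group Ω]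
    {S : Subgroup Ω} [Finite S] (hS : IsPGroup p S) (F : FusionSystem S) (hF : F.IsSaturated p)
    {Q : Subgroup Ω} (hQ : F.IsNormal Q) (hc : centralizerIn S Q ≤ Q) {Z : Subgroup Ω} (hZS : Z ≤ S)
    (hpp : IsPP p S Z) (hZ : FixesN F (Wof W S) Z) : Fixes F Z := by
  have hQS := hQ.1
  have hQsc := fs_stronglyClosed_of_isNormal F hQ
  have hSQ := fs_stronglyClosed_le_normalizer F hQsc
  have hfn := fullyNormalized_of_le_normalizer F hQS hSQ
  have hQc : F.IsCentric Q := fs_centric_of_fullyCentralized_of_le F (fs_sylow_axiom p hS F hF hfn).1 hc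
  obtain ⟨G, instG, ι, hmodel⟩ := Cfsg.Agent.S5090.result p hS F ⟨hF, Q, hQ, hQc⟩
  obtain ⟨hfin, hreal, ⟨T, hT⟩, hcent⟩ := hmodel
  haveI := hfin
  have hinj := hreal.1
  have hX₀S : Wof W S ≤ S := Wof_le W S
  have hSN : S ≤ Subgroup.normalizer ((Wof W S : Subgroup Ω) : Set Ω) :=
    (Subgroup.le_normalizer).trans (normalizer_le_normalizer_Wof hW hS)
  have hNX : normalizerIn S (Wof W S) = S := le_antisymm inf_le_left (le_inf le_rfl hSN)
  have hZc : ∀ z ∈ Z, ∀ s ∈ S, s * z * s⁻¹ = z := fun z hz s hs =>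
    hZ.central hX₀S hz (by rw [hNX]; exact hZS hz) (by rw [hNX]; exact hs)
  haveI hOn : (Cfsg.pCore p G).Normal := pCore_normal' p
  have hOT : Cfsg.pCore p G ≤ ι.range := hT ▸ pCore_le_sylow T
  have hTp : IsPGroup p ↥(T : Subgroup G) := T.2
  have hXeq : Wof W (T : Subgroup G) = Wof W ι.range := Wof_congr W hT
  -- the key: the image of `Z` is central in `G`
  have key : ∀ (z : Ω) (hz : z ∈ Z), ι ⟨z, hZS hz⟩ ∈ Subgroup.center G := by
    intro z hz
    have h1 : ι ⟨z, hZS hz⟩ ∈ Cfsg.pCore p G := by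
      apply hcent
      rw [Subgroup.mem_centralizer_iff]
      intro y hy
      obtain ⟨s, rfl⟩ := hOT hy
      rw [← map_mul, ← map_mul]
      congr 1
      apply Subtype.ext
      show (s : Ω) * z = z * s
      have h := hZc z hz s s.2
      calc (s : Ω) * z = (s * z * (s : Ω)⁻¹) * s := by group
        _ = z * s := by rw [h]
    have hzU : z ∈ preimageAlong ι (Cfsg.pCore p G) := by
      rw [mem_preimageAlong_iff]
      exact ⟨hZS hz, h1⟩
    -- the normalizer of `W(T)` centralizes the image of `z`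
    have h2 : ∀ g ∈ Subgroup.normalizer ((Wof W (T : Subgroup G) : Subgroup G) : Set G),
        g * ι ⟨z, hZS hz⟩ = ι ⟨z, hZS hz⟩ * g := by
      intro g hg
      have hVS : preimageAlong ι (Cfsg.pCore p G) ⊔ Wof W S ≤ S := sup_le (preimageAlong_le ι _) hX₀S
      have hgW : ∀ w ∈ Wof W ι.range, g * w * g⁻¹ ∈ Wof W ι.range := by
        intro w hw
        rw [← hXeq] at hw ⊢
        exact (Subgroup.mem_normalizer_iff.mp hg w).mp hw
      have h : ∀ x : ↥(preimageAlong ι (Cfsg.pCore p G) ⊔ Wof W S), g * ι ⟨x, hVS x.2⟩ * g⁻¹ ∈ ι.range := by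
        have := sup_forall_mem (P := preimageAlong ι (Cfsg.pCore p G)) (Q := Wof W S)
          ((MulAut.conj g).toMonoidHom.comp (ι.comp (Subgroup.inclusion hVS))) ι.range ?_ ?_
        · exact this
        · intro x
          show g * ι ⟨x, _⟩ * g⁻¹ ∈ ι.range
          exact hOT (hOn.conj_mem _ (apply_mem_of_mem_preimageAlong ι _ x) g)
        · intro x
          show g * ι ⟨x, _⟩ * g⁻¹ ∈ ι.range
          have hx1 : ι ⟨x, hX₀S x.2⟩ ∈ Wof W ι.range := (Wof_range_iff hW hS ι hinj ⟨x, hX₀S x.2⟩).mpr x.2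
          exact Wof_le W _ (hgW _ hx1)
      have hψ := liftConj_mem_hom hreal hVS g h
      have hψS := liftConj_mem ι hinj hVS g h
      have hψN : liftConj ι hinj hVS g h ∈
          F.normalizerHom (Wof W S) (preimageAlong ι (Cfsg.pCore p G) ⊔ Wof W S) := by
        haveI : Finite ↥(Wof W S) := fs_finite_of_le hX₀S
        refine mem_normalizerHom_of_map_eq F le_sup_right hψ (by rw [hNX]; exact hVS) ?_
        apply map_eq_of_le_of_injective le_sup_right _ (F.injective_of_mem hψ) _ le_rfl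
        rintro _ ⟨x, hx, rfl⟩
        have hx' : (x : Ω) ∈ Wof W S := hx
        have hx1 : ι ⟨x, hVS x.2⟩ ∈ Wof W ι.range := (Wof_range_iff hW hS ι hinj ⟨x, hVS x.2⟩).mpr hx'
        have hx2 := hgW _ hx1
        rw [← ι_liftConj ι hinj hVS g h x (hψS x)] at hx2
        exact (Wof_range_iff hW hS ι hinj ⟨_, hψS x⟩).mp hx2
      have hfix := hZ _ _ hψN ⟨z, le_sup_left (b := Wof W S) hzU⟩ hz
      have h3 := ι_liftConj ι hinj hVS g h ⟨z, le_sup_left (b := Wof W S) hzU⟩ (hψS _)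
      have e : (⟨liftConj ι hinj hVS g h ⟨z, le_sup_left (b := Wof W S) hzU⟩, hψS _⟩ : S) = ⟨z, hZS hz⟩ :=
        Subtype.ext hfix
      rw [e] at h3
      have h4 : (⟨((⟨z, le_sup_left (b := Wof W S) hzU⟩ : ↥(preimageAlong ι (Cfsg.pCore p G) ⊔ Wof W S)) : Ω),
          hVS (le_sup_left (b := Wof W S) hzU)⟩ : S) = ⟨z, hZS hz⟩ := rfl
      rw [h4] at h3
      calc g * ι ⟨z, hZS hz⟩ = (g * ι ⟨z, hZS hz⟩ * g⁻¹) * g := by group
        _ = ι ⟨z, hZS hz⟩ * g := by rw [← h3]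
    -- `z` is a `p`-th power of a central element
    obtain ⟨x, hxS, hxc, hxz⟩ := hpp z hz
    have hιx : ι ⟨z, hZS hz⟩ = (ι ⟨x, hxS⟩) ^ p := by
      rw [← map_pow]
      congr 1
      apply Subtype.ext
      exact hxz.symm
    rw [hιx] at h2 ⊢
    refine hA G T hcent (ι ⟨x, hxS⟩) (by rw [hT]; exact ⟨_, rfl⟩) ?_ h2
    intro y hy
    rw [hT] at hy
    obtain ⟨s, rfl⟩ := hy
    rw [← map_mul, ← map_mul]
    congr 1
    apply Subtype.ext
    exact hxc s s.2
  -- every map of `F` fixes `Z`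
  intro P φ hφ x hx
  obtain ⟨hPS, hφS⟩ := F.le_of_mem hφ
  obtain ⟨g, Hg⟩ := (hreal.2 P hPS φ hφS).mp hφ
  have h1 := Hg x
  have h2 : ι ⟨x, hPS x.2⟩ ∈ Subgroup.center G := key x hx
  rw [Subgroup.mem_center_iff] at h2
  have h3 : g * ι ⟨x, hPS x.2⟩ * g⁻¹ = ι ⟨x, hPS x.2⟩ := by
    rw [h2 g]
    group
  rw [h3] at h1
  exact congrArg (fun z : S => (z : Ω)) (hinj h1)

end Cfsg.Agent.H9ZW
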