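import Mathlib
import Cfsg.Prelude.Def_FusionSystem
import Cfsg.Prelude.Def_FusionReduction
import Cfsg.Prelude.Def_FusionComponents
import Cfsg.Agent.Lib.Helper9.ZX1
import Cfsg.Agent.Lib.Helper9.ZX4
import Cfsg.Agent.Lib.Helper9.ZX6
import Cfsg.Agent.Lib.Helper9.ZY1
import Cfsg.Agent.Lib.Helper9.ZW3
import Cfsg.Agent.Lib.Helper9.ZW8
import Cfsg.Agent.Lib.Helper9.ZW14
import Cfsg.Agent.Lib.Helper9.KL10
import Cfsg.Agent.Lib.Helper9.KL19
import Cfsg.Agent.Lib.Helper9.NormSys1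
import Cfsg.Agent.Lib.Helper9.FusionMorph1
import Cfsg.Agent.S5096
import Cfsg.Agent.S5132
import Cfsg.Agent.S5133
import Cfsg.Agent.S5134

set_option autoImplicit false

/-!
# Control of weak closure of `p`-th powers of central elements (part 2): the system `S C_F(Q)`, through the factor
system modulo `Q`
-/

namespace Cfsg.Agent.H9ZW

open Cfsg Cfsg.FusionSystem Cfsg.Agent.Lib.Helper9 Cfsg.Agent.H9KL

universe u

/-- The statement proved by induction on `n = |S|`, for subgroups `Z` of `p`-th powers of central elements. -/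
def CF2Statement (p : ℕ) (W : ∀ (Q : Type u) [Group Q], Subgroup Q) (n : ℕ) : Prop :=
  ∀ {Ω : Type u} [Group Ω] {S : Subgroup Ω} [Finite S], IsPGroup p S → ∀ F : FusionSystem S,
    F.IsSaturated p → Nat.card S = n → ∀ Z : Subgroup Ω, Z ≤ S → IsPP p S Z →
      FixesN F (Wof W S) Z → Fixes F Z

variable {p : ℕ} {W : ∀ (Q : Type u) [Group Q], Subgroup Q}

/-- The case of a system `D` with `Q` normal and `Aut_D(Q)` a `p`-group. -/
theorem cf2_SC [hp : Fact p.Prime] (hW : IsGF p PUnit.{1} W) {Ω : Type u} [Group Ω] {S : Subgroup Ω}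
    [Finite S] (hS : IsPGroup p S) (ih : ∀ k < Nat.card S, CF2Statement p W k)
    (D : FusionSystem S) (hD : D.IsSaturated p) {Q : Subgroup Ω} (hQ : D.IsNormal Q) (hQne : Q ≠ ⊥)
    (hQS' : Q ≠ S) (hQp : IsPGroup p (D.autGroup Q)) {Z : Subgroup Ω} (hZS : Z ≤ S)
    (hpp : IsPP p S Z) (hZ : FixesN D (Wof W S) Z)
    (hstep : ∀ F' : FusionSystem S, F'.IsSaturated p → ∀ Y : Subgroup Ω, F'.IsNormal Y →
      Nat.card Q < Nat.card Y → FixesN F' (Wof W S) Z → Fixes F' Z) : Fixes D Z := by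
  have hQS := hQ.1
  have hQsc := fs_stronglyClosed_of_isNormal D hQ
  have hSQ := fs_stronglyClosed_le_normalizer D hQsc
  have hX₀S : Wof W S ≤ S := Wof_le W S
  have hSN : S ≤ Subgroup.normalizer ((Wof W S : Subgroup Ω) : Set Ω) :=
    (Subgroup.le_normalizer).trans (normalizer_le_normalizer_Wof hW hS)
  have hNX : normalizerIn S (Wof W S) = S := le_antisymm inf_le_left (le_inf le_rfl hSN)
  have hZc : ∀ z ∈ Z, ∀ s ∈ S, s * z * s⁻¹ = z := fun z hz s hs =>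
    hZ.central hX₀S hz (by rw [hNX]; exact hZS hz) (by rw [hNX]; exact hs)
  haveI hn' : (Q.subgroupOf S).Normal := (Subgroup.normal_subgroupOf_iff_le_normalizer hQS).mpr hSQ
  obtain ⟨D', hD'⟩ := Cfsg.Agent.S5132.result p hS D Q hQsc
  have hsurj := Cfsg.Agent.S5134.result p hS D hD Q hQsc _ D' hD'
  have hD'sat := Cfsg.Agent.S5133.result p hS D hD D' _ hsurj
  have hXp : IsPGroup p (⊤ : Subgroup (S ⧸ Q.subgroupOf S)) := (hS.to_quotient _).to_subgroup ⊤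
  have hcard := card_quotient_lt hQS hQne
  have hker : ∀ s : S, (QuotientGroup.mk' (Q.subgroupOf S)) s = 1 ↔ (s : Ω) ∈ Q := hD'.2.1
  -- the subgroup `W(S/Q)` and its preimage
  obtain ⟨Wb, hWbdef⟩ : ∃ Wb : Subgroup (S ⧸ Q.subgroupOf S),
      Wb = Wof W (⊤ : Subgroup (S ⧸ Q.subgroupOf S)) := ⟨_, rfl⟩
  obtain ⟨θ, hθdef⟩ : ∃ θ : S →* S ⧸ Q.subgroupOf S, θ = QuotientGroup.mk' (Q.subgroupOf S) := ⟨_, rfl⟩
  rw [← hθdef] at hD' hsurj hker
  have hθsurj : Function.Surjective θ := by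
    rw [hθdef]
    exact QuotientGroup.mk'_surjective _
  have hTS : preimageAlong θ Wb ≤ S := preimageAlong_le θ _
  have hQT : Q ≤ preimageAlong θ Wb := ker_le_preimageAlong _ _ hQS hker
  have hWbn : ∀ (a y : S ⧸ Q.subgroupOf S), y ∈ Wb → a * y * a⁻¹ ∈ Wb := by
    have h1 := normalizer_le_normalizer_Wof hW hXp
    intro a y hy
    have ha : a ∈ Subgroup.normalizer (((⊤ : Subgroup (S ⧸ Q.subgroupOf S)) : Subgroup _) : Set _) :=
      Subgroup.le_normalizer (Subgroup.mem_top a)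
    rw [hWbdef] at hy ⊢
    exact (Subgroup.mem_normalizer_iff.mp (h1 ha) y).mp hy
  have hST : S ≤ Subgroup.normalizer ((preimageAlong θ Wb : Subgroup Ω) : Set Ω) := by
    apply le_normalizer_of_forall_conj_mem
    intro s hs t ht
    obtain ⟨htS, ht'⟩ := (mem_preimageAlong_iff θ _ t).mp ht
    rw [mem_preimageAlong_iff]
    refine ⟨S.mul_mem (S.mul_mem hs htS) (S.inv_mem hs), ?_⟩
    have e : (⟨s * t * s⁻¹, S.mul_mem (S.mul_mem hs htS) (S.inv_mem hs)⟩ : S) =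
        ⟨s, hs⟩ * ⟨t, htS⟩ * (⟨s, hs⟩ : S)⁻¹ := rfl
    rw [e, map_mul, map_mul, map_inv]
    exact hWbn _ _ ht'
  haveI : Finite ↥(preimageAlong θ Wb) := fs_finite_of_le hTS
  -- the preimage is strictly larger than `Q`
  have hlt : Nat.card Q < Nat.card ↥(preimageAlong θ Wb) := by
    by_contra hlt
    push Not at hlt
    have heq : Q = preimageAlong θ Wb := Subgroup.eq_of_le_of_card_ge hQT hlt
    have htop : (⊤ : Subgroup (S ⧸ Q.subgroupOf S)) ≠ ⊥ := by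
      intro h
      apply hQS'
      apply le_antisymm hQS
      intro s hs
      have h1 : θ ⟨s, hs⟩ ∈ (⊤ : Subgroup (S ⧸ Q.subgroupOf S)) := Subgroup.mem_top _
      rw [h, Subgroup.mem_bot] at h1
      exact (hker ⟨s, hs⟩).mp h1
    have hne := Wof_ne_bot hW hXp htop
    apply hne
    rw [eq_bot_iff]
    intro y hy
    obtain ⟨s, rfl⟩ := hθsurj y
    have hs : (s : Ω) ∈ preimageAlong θ Wb := by
      rw [mem_preimageAlong_iff, hWbdef]
      exact ⟨s.2, hy⟩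
    rw [← heq] at hs
    rw [Subgroup.mem_bot]
    exact (hker s).mpr hs
  -- the maps of `D` normalizing the preimage fix `Z`
  have hA := normalizer_fixes p hS D hD hTS hST hZ
    (fun F' hF' hY hZ' => hstep F' hF' _ hY hlt hZ')
  -- the maps of `N_{D/Q}(W(S/Q))` fix the image of `Z`
  have hZ' : FixesN D' (Wof W (⊤ : Subgroup (S ⧸ Q.subgroupOf S))) (imageAlong θ Z) := by
    rw [← hWbdef]
    rintro P' φ' ⟨hφ', hP'N, hvalN, ψ', hψ', hψ'P, hψ'W⟩ x' hx'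
    obtain ⟨μ, hμ, hind⟩ := hsurj.2.2 _ le_top ψ' hψ'
    have hμS := (D.le_of_mem hμ).2
    have key : ∀ (x : ↥(preimageAlong θ (P' ⊔ Wb))) (hxS : (x : Ω) ∈ S)
        (hx' : θ ⟨x, hxS⟩ ∈ P' ⊔ Wb), ψ' ⟨θ ⟨x, hxS⟩, hx'⟩ = θ ⟨μ x, hμS x⟩ :=
      fun x hxS hx' => inducedAlong_apply hind x hxS hx' (hμS x)
    have hTM : preimageAlong θ Wb ≤ preimageAlong θ (P' ⊔ Wb) := by
      intro t ht
      obtain ⟨htS, ht'⟩ := (mem_preimageAlong_iff θ _ t).mp ht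
      exact (mem_preimageAlong_iff θ _ t).mpr ⟨htS, (le_sup_right : Wb ≤ P' ⊔ Wb) ht'⟩
    have hμT : ((preimageAlong θ Wb).subgroupOf (preimageAlong θ (P' ⊔ Wb))).map μ = preimageAlong θ Wb := by
      apply map_eq_of_le_of_injective hTM _ (D.injective_of_mem hμ) _ le_rfl
      rintro _ ⟨x, hx, rfl⟩
      have hxT : (x : Ω) ∈ preimageAlong θ Wb := hx
      obtain ⟨hxS, hx''⟩ := (mem_preimageAlong_iff θ _ _).mp hxT
      rw [mem_preimageAlong_iff]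
      refine ⟨hμS x, ?_⟩
      rw [← key x hxS ((le_sup_right : Wb ≤ P' ⊔ Wb) hx'')]
      have h1 : ψ' ⟨θ ⟨x, hxS⟩, (le_sup_right : Wb ≤ P' ⊔ Wb) hx''⟩ ∈ (Wb.subgroupOf (P' ⊔ Wb)).map ψ' :=
        ⟨_, hx'', rfl⟩
      rw [hψ'W] at h1
      exact h1
    have hμfix := hA _ μ hTM hμ hμT
    obtain ⟨z, hzZ, hzx⟩ := (mem_imageAlong_iff θ Z x').mp hx'
    have hzP' : θ ⟨(z : Ω), z.2⟩ ∈ P' ⊔ Wb := by
      rw [Subtype.coe_eta, hzx]
      exact (le_sup_left : P' ≤ P' ⊔ Wb) x'.2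
    have hzM : (z : Ω) ∈ preimageAlong θ (P' ⊔ Wb) := by
      rw [mem_preimageAlong_iff]
      exact ⟨z.2, hzP'⟩
    have h1 := hμfix ⟨z, hzM⟩ hzZ
    have h2 := key ⟨z, hzM⟩ z.2 hzP'
    rw [← hψ'P x']
    have e : Subgroup.inclusion (le_sup_left : P' ≤ P' ⊔ Wb) x' = ⟨θ ⟨(z : Ω), z.2⟩, hzP'⟩ := by
      apply Subtype.ext
      show (x' : S ⧸ Q.subgroupOf S) = θ ⟨(z : Ω), z.2⟩
      rw [Subtype.coe_eta, hzx]
    rw [e, h2]
    have e2 : (⟨μ ⟨z, hzM⟩, hμS _⟩ : S) = z := Subtype.ext h1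
    rw [e2, hzx]
  -- the induction hypothesis for the factor system
  have hpp' : IsPP p (⊤ : Subgroup (S ⧸ Q.subgroupOf S)) (imageAlong θ Z) := by
    intro y hy
    obtain ⟨z, hzZ, rfl⟩ := (mem_imageAlong_iff θ Z y).mp hy
    obtain ⟨x, hxS, hxc, hxz⟩ := hpp _ hzZ
    refine ⟨θ ⟨x, hxS⟩, Subgroup.mem_top _, ?_, ?_⟩
    · intro s _
      obtain ⟨s₀, rfl⟩ := hθsurj s
      rw [← map_mul, ← map_mul]
      congr 1
      apply Subtype.ext
      exact hxc s₀ s₀.2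
    · rw [← map_pow]
      congr 1
      apply Subtype.ext
      exact hxz
  have hfix' : Fixes D' (imageAlong θ Z) :=
    ih _ hcard hXp D' hD'sat rfl (imageAlong θ Z) le_top hpp' hZ'
  -- the maps of `D` fix `Z` modulo `Q`
  have hmod : ∀ (P : Subgroup Ω) (φ : P →* Ω), φ ∈ D.Hom P → ∀ x : P, (x : Ω) ∈ Z →
      (x : Ω)⁻¹ * φ x ∈ Q := by
    intro P φ hφ x hx
    obtain ⟨hPS, hφS⟩ := D.le_of_mem hφ
    obtain ⟨φ', hφ', H⟩ := morph_push D D' θ hsurj.1 hφ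
    have hxS := hPS x.2
    have hx1 : θ ⟨x, hxS⟩ ∈ imageAlong θ P := apply_mem_imageAlong θ hxS x.2
    have h1 := H x hxS hx1 (hφS x)
    have h2 := hfix' _ φ' hφ' ⟨θ ⟨x, hxS⟩, hx1⟩ (apply_mem_imageAlong θ hxS hx)
    rw [h1] at h2
    have h3 : θ ((⟨x, hxS⟩ : S)⁻¹ * ⟨φ x, hφS x⟩) = 1 := by
      rw [map_mul, map_inv, h2, inv_mul_cancel]
    exact (hker _).mp h3
  exact SC_fixes p hS D hD hQ hQp hZc hmod

end Cfsg.Agent.H9ZW
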