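import Mathlib
import Cfsg.Prelude.Def_FusionSystem
import Cfsg.Prelude.Def_FusionReduction
import Cfsg.Agent.Lib.Helper9.ZX3
import Cfsg.Agent.Lib.Helper9.ZX5
import Cfsg.Agent.Lib.Helper9.ZX6
import Cfsg.Agent.Lib.Helper9.ZY1
import Cfsg.Agent.Lib.Helper9.ZY2
import Cfsg.Agent.Lib.Helper9.ZW7

set_option autoImplicit false

/-!
# Control of weak closure of `p`-th powers of central elements (part 3): systems with a nontrivial normal subgroup
-/

namespace Cfsg.Agent.H9ZW

open Cfsg Cfsg.FusionSystem Cfsg.Agent.Lib.Helper9 Cfsg.Agent.H9KL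

universe u

variable {p : ℕ} {W : ∀ (Q : Type u) [Group Q], Subgroup Q}

/-- The non-centric case. -/
theorem cf2_nonCentric [hp : Fact p.Prime] (hW : IsGF p PUnit.{1} W) {Ω : Type u} [Group Ω] {S : Subgroup Ω}
    [Finite S] (hS : IsPGroup p S) (ih : ∀ k < Nat.card S, CF2Statement p W k)
    (F : FusionSystem S) (hF : F.IsSaturated p) {Q : Subgroup Ω} (hQ : F.IsNormal Q) (hQne : Q ≠ ⊥)
    (hnc : ¬ centralizerIn S Q ≤ Q) {Z : Subgroup Ω} (hZS : Z ≤ S) (hpp : IsPP p S Z)
    (hZ : FixesN F (Wof W S) Z)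
    (hstep : ∀ F' : FusionSystem S, F'.IsSaturated p → ∀ Y : Subgroup Ω, F'.IsNormal Y →
      Nat.card Q < Nat.card Y → FixesN F' (Wof W S) Z → Fixes F' Z) : Fixes F Z := by
  have hQS := hQ.1
  have hQsc := fs_stronglyClosed_of_isNormal F hQ
  have hSQ := fs_stronglyClosed_le_normalizer F hQsc
  have hQS' : Q ≠ S := by
    intro h
    apply hnc
    intro c hc
    rw [h]
    exact hc.1
  -- the maps normalizing `Q C_S(Q)`
  have hR1S : Q ⊔ centralizerIn S Q ≤ S := sup_le hQS inf_le_left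
  have hSR1 := le_normalizer_sup_centralizerIn hSQ
  have hA := normalizer_fixes p hS F hF hR1S hSR1 hZ
    (fun F' hF' hY hZ' => hstep F' hF' _ hY (card_lt_sup_centralizerIn hQS hnc) hZ')
  -- the system `S C_F(Q)`
  obtain ⟨D, hD⟩ := exists_SC_system F Q hQS hSQ
  have hDsat := SC_saturated p hS F hF hQS hSQ D hD
  have hDle := SC_le F D hD
  have hQD := SC_isNormal F hQS hSQ D hD
  have hQpD : IsPGroup p (D.autGroup Q) :=
    (isPGroup_autInducedBy p hS Q).to_le (SC_autGroup_le F hQS D hD)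
  have hDfix : Fixes D Z :=
    cf2_SC hW hS ih D hDsat hQD hQne hQS' hQpD hZS hpp (hZ.mono le_rfl hDle) hstep
  have hB : ∀ (P : Subgroup Ω) (δ : P →* Ω) (hQP : Q ≤ P), δ ∈ F.Hom P →
      (∀ q : Q, δ (Subgroup.inclusion hQP q) = (q : Ω)) → ∀ x : P, (x : Ω) ∈ Z → δ x = x := by
    intro P δ hQP hδ hid x hx
    exact hDfix P δ (SC_mem_of_id F hSQ D hD hQP hδ hid) x hx
  exact fixes_of_decomp p hS F hF hQ hA hB

/-- Systems with a nontrivial normal subgroup: downward induction on the order of the normal subgroup. -/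
theorem cf2_normal [hp : Fact p.Prime] (hW : IsGF p PUnit.{1} W) (hA : QuadCenter p W) {Ω : Type u} [Group Ω]
    {S : Subgroup Ω} [Finite S] (hS : IsPGroup p S) (ih : ∀ k < Nat.card S, CF2Statement p W k)
    {Z : Subgroup Ω} (hZS : Z ≤ S) (hpp : IsPP p S Z) :
    ∀ (j : ℕ) (F : FusionSystem S), F.IsSaturated p → ∀ Q : Subgroup Ω, F.IsNormal Q → Q ≠ ⊥ →
      Nat.card S - Nat.card Q = j → FixesN F (Wof W S) Z → Fixes F Z := by
  intro j
  induction j using Nat.strong_induction_on with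
  | _ j ihj =>
  intro F hF Q hQ hQne hj hZ
  have hQS := hQ.1
  haveI : Finite Q := fs_finite_of_le hQS
  by_cases hc : centralizerIn S Q ≤ Q
  · exact cf2_centric hW hA hS F hF hQ hc hZS hpp hZ
  · apply cf2_nonCentric hW hS ih F hF hQ hQne hc hZS hpp hZ
    intro F' hF' Y hY hlt hZ'
    have hYS := hY.1
    haveI : Finite Y := fs_finite_of_le hYS
    have hYne : Y ≠ ⊥ := by
      intro h
      rw [h, Subgroup.card_bot] at hlt
      have : 0 < Nat.card Q := Nat.card_pos
      omega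
    have hcY : Nat.card Y ≤ Nat.card S := Subgroup.card_le_of_le hYS
    have hcQ : Nat.card Q ≤ Nat.card S := Subgroup.card_le_of_le hQS
    exact ihj (Nat.card S - Nat.card Y) (by omega) F' hF' Y hY hYne rfl hZ'

end Cfsg.Agent.H9ZW
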