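import Mathlib
import Cfsg.Prelude.Def_FusionSystem
import Cfsg.Prelude.Def_FusionReduction
import Cfsg.Agent.Lib.Helper9.ZX2
import Cfsg.Agent.Lib.Helper9.ZX7
import Cfsg.Agent.Lib.Helper9.ZY3
import Cfsg.Agent.Lib.Helper9.ZW12
import Cfsg.Agent.Lib.Helper9.ZW14
import Cfsg.Agent.Lib.Helper9.FusionAG1
import Cfsg.Agent.Lib.Helper9.FusionAG2
import Cfsg.Agent.Lib.Helper9.KL7
import Cfsg.Agent.S5096

set_option autoImplicit false

/-!
# Control of weak closure of `p`-th powers of central elements (part 4): the main induction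
-/

namespace Cfsg.Agent.H9ZW

open Cfsg Cfsg.FusionSystem Cfsg.Agent.Lib.Helper9 Cfsg.Agent.H9KL

universe u

variable {p : ℕ} {W : ∀ (Q : Type u) [Group Q], Subgroup Q}

/-- A fully normalized maximal member of `𝔅` leads to a contradiction. -/
theorem false2_of_max [hp : Fact p.Prime] (hW : IsGF p PUnit.{1} W) (hA : QuadCenter p W) {Ω : Type u}
    [Group Ω] {S : Subgroup Ω} [Finite S] (hS : IsPGroup p S) (ih : ∀ k < Nat.card S, CF2Statement p W k)
    (F : FusionSystem S) (hF : F.IsSaturated p) {Z : Subgroup Ω} (hZS : Z ≤ S) (hpp : IsPP p S Z)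
    (hZ : FixesN F (Wof W S) Z) (hZc : ∀ z ∈ Z, ∀ s ∈ S, s * z * s⁻¹ = z)
    {Q : Subgroup Ω} (hQB : InB F (fixSystem F Z hZc) 0 Q) (hQfn : F.IsFullyNormalized Q)
    (hmax : ∀ Q' : Subgroup Ω, InB F (fixSystem F Z hZc) 0 Q' → mu S Q' ≤ mu S Q) : False := by
  have hQS : Q ≤ S := hQfn.1
  obtain ⟨hQne, P, φ, -, hQP, hPT, hφ, hφQ, hφ₀⟩ := hQB
  have hTS : normalizerIn S Q ≤ S := inf_le_left
  haveI : Finite ↥(normalizerIn S Q) := fs_finite_of_le hTS
  have hTp : IsPGroup p ↥(normalizerIn S Q) := hS.to_le hTS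
  obtain ⟨E, hE⟩ := Cfsg.Agent.S5096.result F Q hQS
  have hEsat := normalizerSystem_saturated p hS F hF hQfn E hE
  have hQn := normalizerSystem_isNormal F hQS E hE
  have hφE : φ ∈ E.Hom P := by
    rw [hE]
    exact mem_normalizerHom_of_map_eq F hQP hφ hPT hφQ
  have hEle : ∀ P : Subgroup Ω, E.Hom P ⊆ F.Hom P := by
    intro P ψ hψ
    rw [hE] at hψ
    exact hψ.1
  have hnfix : ¬ Fixes E Z := by
    intro hfix
    apply hφ₀
    exact ⟨hφ, fun x hx => hfix.both hφE x hx⟩
  have hZT : Z ≤ normalizerIn S Q := by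
    refine le_inf hZS ?_
    apply le_normalizer_of_forall_conj_mem
    intro z hz y hy
    have h := hZc z hz y (hQS hy)
    have e : z * y * z⁻¹ = (y * z * y⁻¹) * y * z⁻¹ := by rw [h]
    rw [e]
    have e2 : y * z * y⁻¹ * y * z⁻¹ = y := by group
    rw [e2]
    exact hy
  have hppT : IsPP p (normalizerIn S Q) Z := by
    intro z hz
    obtain ⟨x, hxS, hxc, hxz⟩ := hpp z hz
    refine ⟨x, ⟨hxS, ?_⟩, fun s hs => hxc s hs.1, hxz⟩
    have hx1 : (Subgroup.zpowers x) ≤ Subgroup.normalizer ((Q : Subgroup Ω) : Set Ω) := by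
      apply le_normalizer_of_forall_conj_mem
      intro a ha y hy
      obtain ⟨k, rfl⟩ := Subgroup.mem_zpowers_iff.mp ha
      have hcomm : Commute x y := (hxc y (hQS hy)).symm
      have h2 : x ^ k * y * (x ^ k)⁻¹ = y := by
        rw [(hcomm.zpow_left k).eq, mul_inv_cancel_right]
      rw [h2]
      exact hy
    exact hx1 (Subgroup.mem_zpowers x)
  by_cases hT : normalizerIn S Q = S
  · obtain ⟨E', hE', hsat', hQn'⟩ := exists_cast' hT E
      (fun T N => N.IsSaturated p ∧ N.IsNormal Q) ⟨hEsat, hQn⟩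
    have hE'le : ∀ P : Subgroup Ω, E'.Hom P ⊆ F.Hom P := by
      intro P ψ hψ
      rw [hE'] at hψ
      exact hEle P hψ
    have hfix' : Fixes E' Z :=
      cf2_normal hW hA hS ih hZS hpp _ E' hsat' Q hQn' hQne rfl (hZ.mono le_rfl hE'le)
    apply hnfix
    intro P ψ hψ x hx
    rw [← hE'] at hψ
    exact hfix' P ψ hψ x hx
  · have hcardT : Nat.card ↥(normalizerIn S Q) < Nat.card S := by
      by_contra hle
      push Not at hle
      exact hT (Subgroup.eq_of_le_of_card_ge hTS hle)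
    have hnN : ¬ FixesN E (Wof W (normalizerIn S Q)) Z :=
      fun h => hnfix (ih _ hcardT hTp E hEsat rfl Z hZT hppT h)
    unfold FixesN at hnN
    push Not at hnN
    obtain ⟨P', ψ, hψN, x', hx'Z, hx'ne⟩ := hnN
    obtain ⟨hψE, hP'N, hvalN, ψ₁, hψ₁, hψ₁P, hψ₁W⟩ := hψN
    have hψ₁F : ψ₁ ∈ F.Hom (P' ⊔ Wof W (normalizerIn S Q)) := hEle _ hψ₁
    have hψ₁₀ : ψ₁ ∉ (fixSystem F Z hZc).Hom (P' ⊔ Wof W (normalizerIn S Q)) := by
      intro h
      have h1 := h.2 (Subgroup.inclusion le_sup_left x') (Or.inl hx'Z)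
      rw [hψ₁P x'] at h1
      exact hx'ne h1
    have hXT : Wof W (normalizerIn S Q) ≤ normalizerIn S Q := Wof_le W _
    have hQT : Q ≤ normalizerIn S Q := hQP.trans hPT
    have hTne : normalizerIn S Q ≠ ⊥ := by
      intro h
      apply hQne
      rw [eq_bot_iff, ← h]
      exact hQT
    have hXne : Wof W (normalizerIn S Q) ≠ ⊥ := Wof_ne_bot hW hTp hTne
    have hNN : Subgroup.normalizer ((normalizerIn S Q : Subgroup Ω) : Set Ω) ≤
        Subgroup.normalizer ((Wof W (normalizerIn S Q) : Subgroup Ω) : Set Ω) :=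
      normalizer_le_normalizer_Wof hW hTp
    have hP'NS : P' ≤ normalizerIn S (Wof W (normalizerIn S Q)) :=
      fun x hx => ⟨hTS (hP'N hx).1, (hP'N hx).2⟩
    have hXNS : Wof W (normalizerIn S Q) ≤ normalizerIn S (Wof W (normalizerIn S Q)) :=
      fun x hx => ⟨hTS (hXT hx), Subgroup.le_normalizer hx⟩
    have hPXN : P' ⊔ Wof W (normalizerIn S Q) ≤ normalizerIn S (Wof W (normalizerIn S Q)) :=
      sup_le hP'NS hXNS
    have hXB : InB F (fixSystem F Z hZc) 0 (Wof W (normalizerIn S Q)) :=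
      ⟨hXne, _, ψ₁, Nat.zero_le _, le_sup_right, hPXN, hψ₁F, hψ₁W, hψ₁₀⟩
    have hmu := hmax _ hXB
    have hlt : normalizerIn S Q < S := lt_of_le_of_ne hTS hT
    have h1 := fs_lt_normalizerIn p hS hlt
    have h2 : normalizerIn S (normalizerIn S Q) ≤ normalizerIn S (Wof W (normalizerIn S Q)) :=
      fun x hx => ⟨hx.1, hNN hx.2⟩
    have h3 : normalizerIn S Q < normalizerIn S (Wof W (normalizerIn S Q)) := lt_of_lt_of_le h1 h2
    haveI : Finite ↥(normalizerIn S (Wof W (normalizerIn S Q))) := fs_finite_of_le inf_le_left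
    have h4 : Nat.card ↥(normalizerIn S Q) < Nat.card ↥(normalizerIn S (Wof W (normalizerIn S Q))) := by
      by_contra hle
      push Not at hle
      have := Subgroup.eq_of_le_of_card_ge h3.le hle
      exact absurd this h3.ne
    have h5 : Nat.card Q ≤ Nat.card S := fs_card_le_of_le hQS
    unfold mu at hmu
    have h6 : (Nat.card ↥(normalizerIn S Q) + 1) * (Nat.card S + 1) ≤
        Nat.card ↥(normalizerIn S (Wof W (normalizerIn S Q))) * (Nat.card S + 1) :=
      Nat.mul_le_mul_right _ h4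
    have h7 : (Nat.card ↥(normalizerIn S Q) + 1) * (Nat.card S + 1)
        = Nat.card ↥(normalizerIn S Q) * (Nat.card S + 1) + (Nat.card S + 1) := by ring
    omega

/-- The automizer step. -/
theorem cf2_main_aut [hp : Fact p.Prime] (hW : IsGF p PUnit.{1} W) (hA : QuadCenter p W) {Ω : Type u}
    [Group Ω] {S : Subgroup Ω} [Finite S] (hS : IsPGroup p S) (ih : ∀ k < Nat.card S, CF2Statement p W k)
    (F : FusionSystem S) (hF : F.IsSaturated p) {Z : Subgroup Ω} (hZS : Z ≤ S) (hpp : IsPP p S Z)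
    (hZ : FixesN F (Wof W S) Z) (hZc : ∀ z ∈ Z, ∀ s ∈ S, s * z * s⁻¹ = z)
    (R : Subgroup Ω) (hRfn : F.IsFullyNormalized R)
    (hbig : ∀ Q : Subgroup Ω, Q ≤ S → Nat.card R < Nat.card Q → F.Hom Q ⊆ (fixSystem F Z hZc).Hom Q) :
    F.autGroup R ≤ (fixSystem F Z hZc).autGroup R := by
  intro α₀ hα₀'
  have hRS : R ≤ S := hRfn.1
  haveI : Finite R := fs_finite_of_le hRS
  have hα₀ := (mem_autGroup_iff F hRS α₀).mp hα₀'
  rw [mem_autGroup_iff _ hRS]
  by_contra hne
  have hmapR : (R.subgroupOf R).map (R.subtype.comp α₀.toMonoidHom) = R := by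
    ext y
    constructor
    · rintro ⟨x, -, rfl⟩
      exact (α₀ x).2
    · intro hy
      exact ⟨α₀.symm ⟨y, hy⟩, by simp [Subgroup.mem_subgroupOf], by simp⟩
  by_cases hRS' : R = S
  · subst hRS'
    apply hne
    have hX₀R : Wof W R ≤ R := Wof_le W R
    have hRN : R ≤ Subgroup.normalizer ((Wof W R : Subgroup Ω) : Set Ω) :=
      (Subgroup.le_normalizer).trans (normalizer_le_normalizer_Wof hW hS)
    have hall : ∀ β : MulAut R, β ∈ F.autGroup R → ∀ x : R, (x : Ω) ∈ Z → β x = x := by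
      intro β hβ x hx
      have hβhom := (mem_autGroup_iff F le_rfl β).mp hβ
      have hN : R.subtype.comp β.toMonoidHom ∈ F.normalizerHom (Wof W R) R := by
        haveI : Finite ↥(Wof W R) := fs_finite_of_le hX₀R
        refine mem_normalizerHom_of_map_eq F hX₀R hβhom (fun x hx => ⟨hx, hRN hx⟩) ?_
        apply map_eq_of_le_of_injective hX₀R _ (F.injective_of_mem hβhom) _ le_rfl
        rintro _ ⟨x, hx, rfl⟩
        have hx' : (x : Ω) ∈ Wof W R := hx
        exact (Wof_equiv hW hS (β : R ≃* R) x).mpr hx'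
      exact Subtype.ext (hZ R _ hN x hx)
    refine ⟨hα₀, fun x hx => ?_⟩
    rcases hx with hx | hx
    · exact congrArg Subtype.val (hall α₀ hα₀' x hx)
    · have hx' : ((α₀ x : R) : Ω) ∈ Z := hx
      have h1 := hall α₀⁻¹ ((F.autGroup R).inv_mem hα₀') (α₀ x) hx'
      rw [MulAut.inv_apply_self] at h1
      exact (congrArg Subtype.val h1).symm
  · have hlt : R < S := lt_of_le_of_ne hRS hRS'
    have h1 := fs_lt_normalizerIn p hS hlt
    haveI : Finite ↥(normalizerIn S R) := fs_finite_of_le inf_le_left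
    have hmR : Nat.card R < Nat.card ↥(normalizerIn S R) := by
      by_contra hle
      push Not at hle
      exact absurd (Subgroup.eq_of_le_of_card_ge h1.le hle) h1.ne
    have hRne : R ≠ ⊥ := by
      intro hbot
      apply hne
      have h2 : R.subtype.comp α₀.toMonoidHom = R.subtype := by
        ext x
        have hx : x = 1 := by
          apply Subtype.ext
          have h3 : (x : Ω) ∈ (⊥ : Subgroup Ω) := hbot.le x.2
          exact Subgroup.mem_bot.mp h3
        rw [hx]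
        simp
      rw [h2]
      exact fs_subtype_mem _ hRS
    have hRB : InB F (fixSystem F Z hZc) 0 R :=
      ⟨hRne, R, _, Nat.zero_le _, le_rfl, fun x hx => ⟨hRS hx, Subgroup.le_normalizer hx⟩, hα₀, hmapR, hne⟩
    obtain ⟨Q, hQB, hQfn, -, hmax⟩ := exists_max_fn' p hS F _ hF (Nat.card R) hbig hRB hmR
    exact false2_of_max hW hA hS ih F hF hZS hpp hZ hZc hQB hQfn hmax

/-- If the maps of `N_F(W(S))` fix `Z` (consisting of `p`-th powers of central elements) elementwise, so do all maps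
of the saturated system `F`. -/
theorem CF2_main [hp : Fact p.Prime] (hW : IsGF p PUnit.{1} W) (hA : QuadCenter p W) :
    ∀ n : ℕ, CF2Statement p W n := by
  intro n
  induction n using Nat.strong_induction_on with
  | _ n ih =>
  intro Ω _ S _ hS F hF hn Z hZS hpp hZ
  subst hn
  have hX₀S : Wof W S ≤ S := Wof_le W S
  have hSN : S ≤ Subgroup.normalizer ((Wof W S : Subgroup Ω) : Set Ω) :=
    (Subgroup.le_normalizer).trans (normalizer_le_normalizer_Wof hW hS)
  have hNX : normalizerIn S (Wof W S) = S := le_antisymm inf_le_left (le_inf le_rfl hSN)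
  have hZc : ∀ z ∈ Z, ∀ s ∈ S, s * z * s⁻¹ = z := fun z hz s hs =>
    hZ.central hX₀S hz (by rw [hNX]; exact hZS hz) (by rw [hNX]; exact hs)
  have key := fs_le_of_autGroup_le p hS F (fixSystem F Z hZc) hF
    (fun R hRfn hbig => cf2_main_aut hW hA hS ih F hF hZS hpp hZ hZc R hRfn hbig)
  intro P φ hφ x hx
  exact (key _ P φ hφ rfl).2 x (Or.inl hx)

end Cfsg.Agent.H9ZW
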