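import Mathlib
import Cfsg.Prelude.Def_FusionSystem
import Cfsg.Prelude.Def_FusionReduction
import Cfsg.Agent.Lib.Helper9.ZY4
import Cfsg.Agent.Lib.Helper9.KNorm13
import Cfsg.Agent.S5084
import Cfsg.Agent.S5144

set_option autoImplicit false

/-!
# Control of weak closure of `p`-th powers of central elements (part 5): the `p`-th powers of `Z(S)` in `Z(N_F(W(S)))`
lie in `Z(F)`
-/

namespace Cfsg.Agent.H9ZW

open Cfsg Cfsg.FusionSystem Cfsg.Agent.Lib.Helper9 Cfsg.Agent.H9KL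

universe u

variable {p : ℕ} {W : ∀ (Q : Type u) [Group Q], Subgroup Q}

/-- The subgroup generated by the `p`-th powers of the central elements consists of such powers. -/
theorem isPP_closure {Ω : Type*} [Group Ω] (p : ℕ) (S : Subgroup Ω) :
    IsPP p S (Subgroup.closure ((fun z => z ^ p) '' ((S ⊓ Subgroup.centralizer (S : Set Ω) : Subgroup Ω) : Set Ω))) := by
  intro z hz
  induction hz using Subgroup.closure_induction with
  | mem y hy =>
    obtain ⟨x, hx, rfl⟩ := hy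
    exact ⟨x, hx.1, fun s hs => Subgroup.mem_centralizer_iff.mp hx.2 s hs, rfl⟩
  | one => exact ⟨1, S.one_mem, fun s _ => by rw [mul_one, one_mul], one_pow p⟩
  | mul a b _ _ iha ihb =>
    obtain ⟨x, hxS, hxc, rfl⟩ := iha
    obtain ⟨y, hyS, hyc, rfl⟩ := ihb
    refine ⟨x * y, S.mul_mem hxS hyS, fun s hs => ?_, ?_⟩
    · rw [← mul_assoc, hxc s hs, mul_assoc, hyc s hs, mul_assoc]
    · have hcomm : Commute x y := (hyc x hxS)
      exact hcomm.mul_pow p
  | inv a _ iha =>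
    obtain ⟨x, hxS, hxc, rfl⟩ := iha
    refine ⟨x⁻¹, S.inv_mem hxS, fun s hs => ?_, inv_pow x p⟩
    have h := hxc s hs
    have h2 : x⁻¹ * (s * x) * x⁻¹ = x⁻¹ * (x * s) * x⁻¹ := by rw [h]
    have h3 : x⁻¹ * (s * x) * x⁻¹ = x⁻¹ * s := by group
    have h4 : x⁻¹ * (x * s) * x⁻¹ = s * x⁻¹ := by group
    rw [h3, h4] at h2
    exact h2.symm

theorem IsPP.mono {Ω : Type*} [Group Ω] {p : ℕ} {S Z Z' : Subgroup Ω} (h : IsPP p S Z) (hle : Z' ≤ Z) :
    IsPP p S Z' := fun z hz => h z (hle hz)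

theorem pp_center_le [hp : Fact p.Prime] (hW : IsGF p PUnit.{1} W) (hA : QuadCenter p W) {Ω : Type u}
    [Group Ω] {S : Subgroup Ω} [Finite S] (hS : IsPGroup p S) (F : FusionSystem S) (hF : F.IsSaturated p)
    (N : FusionSystem (normalizerIn S (Wof W S))) (hN : F.IsNormalizerSystem (Wof W S) N) :
    Subgroup.closure ((fun z => z ^ p) '' ((S ⊓ Subgroup.centralizer (S : Set Ω) : Subgroup Ω) : Set Ω)) ⊓
      N.center ≤ F.center := by
  have hX₀S : Wof W S ≤ S := Wof_le W S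
  have hSN : S ≤ Subgroup.normalizer ((Wof W S : Subgroup Ω) : Set Ω) :=
    (Subgroup.le_normalizer).trans (normalizer_le_normalizer_Wof hW hS)
  have hTS : normalizerIn S (Wof W S) ≤ S := inf_le_left
  haveI : Finite ↥(normalizerIn S (Wof W S)) := fs_finite_of_le hTS
  have hTp : IsPGroup p ↥(normalizerIn S (Wof W S)) := hS.to_le hTS
  have hNsat : N.IsSaturated p :=
    normalizerSystem_saturated p hS F hF (fullyNormalized_of_le_normalizer F hX₀S hSN) N hN
  have hN' : ∀ P : Subgroup Ω, N.Hom P = F.normalizerHom (Wof W S) P := hN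
  have h1 : N.IsCentral N.center := Cfsg.Agent.S5144.result N
  obtain ⟨hZ₁N, hZ₁⟩ := (Cfsg.Agent.S5084.result p hTp N hNsat N.center).mp h1
  obtain ⟨Z, hZdef⟩ : ∃ Z : Subgroup Ω, Z =
      Subgroup.closure ((fun z => z ^ p) '' ((S ⊓ Subgroup.centralizer (S : Set Ω) : Subgroup Ω) : Set Ω)) ⊓
        N.center := ⟨_, rfl⟩
  rw [← hZdef]
  have hZN : Z ≤ N.center := by rw [hZdef]; exact inf_le_right
  have hZS : Z ≤ S := hZN.trans (hZ₁N.trans hTS)
  have hpp : IsPP p S Z := by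
    rw [hZdef]
    exact (isPP_closure p S).mono inf_le_left
  have hfixN : FixesN F (Wof W S) Z := by
    intro P φ hφ x hx
    rw [← hN'] at hφ
    exact hZ₁ x (hZN hx) (φ x) (Cfsg.Agent.S5084.fs_isConjElt_apply N hφ x)
  have hfix : Fixes F Z := CF2_main hW hA _ hS F hF rfl Z hZS hpp hfixN
  have h2 : F.IsCentral Z := by
    rw [Cfsg.Agent.S5084.result p hS F hF]
    refine ⟨hZS, ?_⟩
    rintro x hx y ⟨φ, hφ, rfl⟩
    exact hfix _ φ hφ ⟨x, Subgroup.mem_zpowers x⟩ hx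
  exact le_sSup h2

end Cfsg.Agent.H9ZW
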