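import Mathlib
import Cfsg.Prelude.Def_FusionSystem
import Cfsg.Prelude.Def_FusionReduction
import Cfsg.Prelude.Def_PLocal
import Cfsg.Agent.Lib.Helper9.CFP6
import Cfsg.Agent.Lib.Helper9.ZY5

set_option autoImplicit false

/-!
# Glauberman's theorem for fusion systems: the `p`-th power part, and the `H`-free form of `Z(N_F(J(S))) = Z(F)`
-/

namespace Cfsg.Agent.H9CFP

open Cfsg Cfsg.FusionSystem Cfsg.Agent.Lib.Helper9 Cfsg.Agent.H9KL Cfsg.Agent.H9ZW
open Cfsg.Agent.Lib.Lead Cfsg.Agent.Lib.Lead.QuadJ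

universe u w

variable {p : ℕ} [hp : Fact p.Prime]

theorem quadCenter_WJ : QuadCenter p (WJ.{u}) := by
  intro G _ _ P hcent x hxP hxc hN
  exact thompsonA_center G P hcent x hxP hxc hN

/-- The `p`-th powers of elements of `Z(S)` lying in `Z(N_F(J(S)))` lie in `Z(F)`. -/
theorem thompson_pp_center_le {Ω : Type u} [Group Ω] {S : Subgroup Ω} [Finite S]
    (hS : IsPGroup p S) (F : FusionSystem S) (hF : F.IsSaturated p)
    (N : FusionSystem (normalizerIn S (Cfsg.thompsonSubgroupAOf S)))
    (hN : F.IsNormalizerSystem (Cfsg.thompsonSubgroupAOf S) N) :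
    Subgroup.closure ((fun z => z ^ p) '' ((S ⊓ Subgroup.centralizer (S : Set Ω) : Subgroup Ω) : Set Ω)) ⊓
      N.center ≤ F.center :=
  pp_center_le (W := WJ.{u}) isGF_WJ quadCenter_WJ hS F hF N hN

/-- `Z(N_F(J(S))) = Z(F)` for the `H`-free saturated systems, if the centrality statement holds in the `H`-free
groups of characteristic `p`. -/
theorem thompson_center_eq_free {H : Type w} [Group H]
    (hloc : ∀ (G : Type u) [Group G] [Finite G] (P : Sylow p G),
      Subgroup.centralizer ((Cfsg.pCore p G : Subgroup G) : Set G) ≤ Cfsg.pCore p G → ¬ Involves H G →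
      ∀ x : G, x ∈ (P : Subgroup G) → (∀ y ∈ (P : Subgroup G), y * x = x * y) →
      (∀ g ∈ Subgroup.normalizer ((Cfsg.thompsonSubgroupAOf (P : Subgroup G) : Subgroup G) : Set G),
        g * x = x * g) → x ∈ Subgroup.center G)
    {Ω : Type u} [Group Ω] {S : Subgroup Ω} [Finite S]
    (hS : IsPGroup p S) (F : FusionSystem S) (hF : F.IsSaturated p) (hfree : F.IsSectionFree p H)
    (N : FusionSystem (normalizerIn S (Cfsg.thompsonSubgroupAOf S)))
    (hN : F.IsNormalizerSystem (Cfsg.thompsonSubgroupAOf S) N) : N.center = F.center := by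
  have hL : LocalCenterFree p H (WJ.{u}) := by
    intro G _ _ P hcent hni
    exact local_of_center P (hloc G P hcent hni)
  exact cfp_center_normalizer_eq (W := WJ.{u}) isGF_WJ (cfHyp_free hL) hS F hF hfree N hN

end Cfsg.Agent.H9CFP
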