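import Mathlib

/-!
# Cossey–Hawkes–Mann, part 1: elements of `p`-power index
-/

namespace Cfsg.Agent.Lib.Helper9.CHM

open Subgroup

variable {G : Type*} [Group G]

/-- class size of `x`. -/
noncomputable def cs (x : G) : ℕ := Nat.card (ConjClasses.mk x).carrier

/-- `x` has class size a power of `p`. -/
def InD (p : ℕ) (x : G) : Prop := ∃ k, cs x = p ^ k

theorem cs_conj (g x : G) : cs (g * x * g⁻¹) = cs x := by
  unfold cs
  have : ConjClasses.mk (g * x * g⁻¹) = ConjClasses.mk x := by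
    rw [ConjClasses.mk_eq_mk_iff_isConj]
    exact (isConj_iff.mpr ⟨g, rfl⟩).symm
  rw [this]

theorem InD_conj {p : ℕ} {x : G} (h : InD p x) (g : G) : InD p (g * x * g⁻¹) := by
  obtain ⟨k, hk⟩ := h
  exact ⟨k, by rw [cs_conj, hk]⟩

theorem cs_eq_index [Finite G] (x : G) : cs x = (centralizer {x}).index := by
  unfold cs
  have h1 : (ConjClasses.mk x).carrier = MulAction.orbit (ConjAct G) x :=
    (ConjAct.orbit_eq_carrier_conjClasses x).symm
  have h2 : (comap (ConjAct.toConjAct (G := G)).toMonoidHom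
      (MulAction.stabilizer (ConjAct G) x)).index = (MulAction.stabilizer (ConjAct G) x).index :=
    Subgroup.index_comap_of_surjective (MulAction.stabilizer (ConjAct G) x)
      (f := (ConjAct.toConjAct (G := G)).toMonoidHom) (ConjAct.toConjAct (G := G)).surjective
  rw [h1, Subgroup.centralizer_eq_comap_stabilizer]
  refine Eq.trans ?_ h2.symm
  rw [MulAction.index_stabilizer, Nat.card_coe_set_eq]

theorem cs_pos [Finite G] (x : G) : 0 < cs x := by
  rw [cs_eq_index]
  exact Nat.pos_of_ne_zero (Subgroup.index_ne_zero_of_finite)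

/-- Sylow form, direction 1. -/
theorem exists_sylow_le_of_index_pow [Finite G] {p q : ℕ} (hp : p.Prime) (hq : q.Prime)
    (hqp : q ≠ p) (S : Subgroup G) {k : ℕ} (h : S.index = p ^ k) :
    ∃ Q : Sylow q G, (Q : Subgroup G) ≤ S := by
  haveI := Fact.mk hq
  have hcard := S.card_mul_index
  rw [h] at hcard
  have hdvd : q ^ (Nat.card G).factorization q ∣ Nat.card S := by
    have h1 : q ^ (Nat.card G).factorization q ∣ Nat.card S * p ^ k := by
      rw [hcard]; exact Nat.ordProj_dvd _ _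
    have hcop : Nat.Coprime (q ^ (Nat.card G).factorization q) (p ^ k) :=
      Nat.Coprime.pow _ _ ((Nat.coprime_primes hq hp).mpr hqp)
    exact hcop.dvd_of_dvd_mul_right h1
  obtain ⟨K, hK⟩ := Sylow.exists_subgroup_card_pow_prime q hdvd
  have hcardmap : Nat.card (K.map S.subtype) = q ^ (Nat.card G).factorization q := by
    rw [← hK]
    exact (Nat.card_congr (K.equivMapOfInjective S.subtype S.subtype_injective).toEquiv).symm
  refine ⟨Sylow.ofCard (K.map S.subtype) hcardmap, ?_⟩
  rw [Sylow.coe_ofCard]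
  exact Subgroup.map_subtype_le K

/-- Sylow form, direction 2. -/
theorem index_eq_pow_of_sylow_le [Finite G] {p : ℕ} (S : Subgroup G)
    (h : ∀ q : ℕ, q.Prime → q ≠ p → ∃ Q : Sylow q G, (Q : Subgroup G) ≤ S) :
    ∃ k, S.index = p ^ k := by
  refine ⟨_, Nat.eq_prime_pow_of_unique_prime_dvd (Subgroup.index_ne_zero_of_finite) ?_⟩
  intro d hd hdvd
  by_contra hne
  obtain ⟨Q, hQ⟩ := h d hd hne
  have := Fact.mk hd
  exact Q.not_dvd_index (hdvd.trans (Subgroup.index_dvd_of_le hQ))

theorem eq_top_of_forall_sylow_le [Finite G] (S : Subgroup G)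
    (h : ∀ q : ℕ, q.Prime → ∃ Q : Sylow q G, (Q : Subgroup G) ≤ S) : S = ⊤ := by
  rw [← Subgroup.index_eq_one, Nat.eq_one_iff_not_exists_prime_dvd]
  intro d hd hdvd
  obtain ⟨Q, hQ⟩ := h d hd
  have := Fact.mk hd
  exact Q.not_dvd_index (hdvd.trans (Subgroup.index_dvd_of_le hQ))

theorem InD.exists_sylow [Finite G] {p : ℕ} (hp : p.Prime) {x : G} (h : InD p x) {q : ℕ}
    (hq : q.Prime) (hqp : q ≠ p) : ∃ Q : Sylow q G, (Q : Subgroup G) ≤ centralizer {x} := by
  obtain ⟨k, hk⟩ := h
  rw [cs_eq_index] at hk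
  exact exists_sylow_le_of_index_pow hp hq hqp _ hk

theorem InD_of_sylow [Finite G] {p : ℕ} {x : G}
    (h : ∀ q : ℕ, q.Prime → q ≠ p → ∃ Q : Sylow q G, (Q : Subgroup G) ≤ centralizer {x}) :
    InD p x := by
  obtain ⟨k, hk⟩ := index_eq_pow_of_sylow_le _ h
  exact ⟨k, by rw [cs_eq_index, hk]⟩

theorem InD_one [Finite G] (p : ℕ) : InD p (1 : G) := by
  refine ⟨0, ?_⟩
  rw [cs_eq_index, pow_zero]
  have : centralizer {(1 : G)} = ⊤ := by
    ext g
    simp [mem_centralizer_iff]
  rw [this, Subgroup.index_top]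

theorem centralizer_inv (x : G) : centralizer {x⁻¹} = centralizer {x} := by
  ext g
  simp only [mem_centralizer_iff, Set.mem_singleton_iff, forall_eq]
  constructor
  · intro h
    have : x * g = x * (g * x⁻¹) * x := by group
    rw [this, ← h]; group
  · intro h
    have : x⁻¹ * g = x⁻¹ * (g * x) * x⁻¹ := by group
    rw [this, ← h]; group

theorem InD_inv [Finite G] {p : ℕ} {x : G} (h : InD p x) : InD p x⁻¹ := by
  obtain ⟨k, hk⟩ := h
  exact ⟨k, by rw [cs_eq_index, centralizer_inv, ← cs_eq_index, hk]⟩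

theorem mem_centralizer_singleton_iff {x g : G} : g ∈ centralizer {x} ↔ g * x = x * g := by
  simp only [mem_centralizer_iff, Set.mem_singleton_iff, forall_eq]
  exact eq_comm

end Cfsg.Agent.Lib.Helper9.CHM
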