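import Cfsg.Agent.Lib.Helper9.CHM1

/-!
# Cossey–Hawkes–Mann, part 2: induction along the upper central series
-/

namespace Cfsg.Agent.Lib.Helper9.CHM

open Subgroup

variable {G : Type*} [Group G]

theorem conj_pow_of_commute {g y c : G} (h : g * y * g⁻¹ = y * c) (hgc : Commute g c) (j : ℕ) :
    g ^ j * y * (g ^ j)⁻¹ = y * c ^ j := by
  induction j with
  | zero => simp
  | succ j ih =>
    have h1 : g ^ (j + 1) * y * (g ^ (j + 1))⁻¹ = g * (g ^ j * y * (g ^ j)⁻¹) * g⁻¹ := by
      rw [pow_succ']; group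
    rw [h1, ih]
    have h2 : g * (y * c ^ j) * g⁻¹ = (g * y * g⁻¹) * (g * c ^ j * g⁻¹) := by group
    have h3 : g * c ^ j * g⁻¹ = c ^ j := by
      have := (hgc.pow_right j).eq
      rw [this]; group
    rw [h2, h, h3, mul_assoc, ← pow_succ']

/-- A central `q`-element `c` with `y * c` conjugate to `y` is trivial when `q ∤ cs y`. -/
theorem central_eq_one_of_conj [Finite G] {q : ℕ} (hq : q.Prime) {y c : G} (hc : c ∈ center G)
    {e : ℕ} (hce : c ^ (q ^ e) = 1) (hconj : IsConj y (y * c)) (hq' : ¬ q ∣ cs y) : c = 1 := by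
  classical
  by_contra hne
  have := Fact.mk hq
  have hcomm : ∀ g : G, g * c = c * g := fun g => (Subgroup.mem_center_iff.mp hc g)
  -- the class of y
  let K := (ConjClasses.mk y).carrier
  have hK : ∀ k : G, k ∈ K ↔ IsConj k y := by
    intro k
    show k ∈ (ConjClasses.mk y).carrier ↔ _
    rw [ConjClasses.mem_carrier_iff_mk_eq, ConjClasses.mk_eq_mk_iff_isConj]
  have hmem : ∀ k : G, k ∈ K → k * c ∈ K := by
    intro k hk
    rw [hK] at hk ⊢
    obtain ⟨h, hh⟩ := isConj_iff.mp hk
    have h1 : IsConj (k * c) (y * c) := by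
      rw [isConj_iff]
      refine ⟨h, ?_⟩
      have : h * (k * c) * h⁻¹ = (h * k * h⁻¹) * (h * c * h⁻¹) := by group
      rw [this, hh, hcomm h]; group
    exact h1.trans hconj.symm
  have : Fintype K := Fintype.ofFinite K
  let f : Function.End K := fun k => ⟨k.1 * c, hmem k.1 k.2⟩
  have hfpow : ∀ (m : ℕ) (k : K), (((f ^ m) k : K) : G) = k.1 * c ^ m := by
    intro m
    induction m with
    | zero =>
      intro k
      rw [pow_zero, pow_zero, mul_one]
      rfl
    | succ m ih =>
      intro k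
      rw [pow_succ]
      show (((f ^ m) (f k) : K) : G) = _
      rw [ih]
      show k.1 * c * c ^ m = _
      rw [mul_assoc, ← pow_succ']
  have hf : f ^ q ^ e = 1 := by
    funext k
    apply Subtype.ext
    rw [hfpow, hce, mul_one]
    rfl
  have hmod := Equiv.Perm.card_fixedPoints_modEq (f := f) (p := q) (n := e) hf
  have hfix : IsEmpty (Function.fixedPoints f) := by
    constructor
    rintro ⟨k, hk⟩
    have h1 : ((f k : K) : G) = k.1 := congrArg Subtype.val hk
    have h2 : k.1 * c = k.1 := h1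
    exact hne (by simpa using h2)
  rw [Fintype.card_eq_zero_iff.mpr hfix] at hmod
  have hdvd : q ∣ Fintype.card K := (Nat.modEq_zero_iff_dvd).mp hmod
  apply hq'
  unfold cs
  rw [Nat.card_eq_fintype_card]
  exact hdvd

/-- The inductive package at level `n` of the upper central series. -/
structure Lvl (G : Type*) [Group G] (p : ℕ) (n : ℕ) : Prop where
  b : ∀ x t : G, InD p x → t ∈ Subgroup.upperCentralSeries G n → InD p (x * t) → InD p t
  c : ∀ q : ℕ, q.Prime → q ≠ p → ∀ g : G, (∃ e : ℕ, g ^ (q ^ e) = 1) →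
    ∀ t ∈ Subgroup.upperCentralSeries G n, InD p t → g * t = t * g
  d : ∀ q : ℕ, q.Prime → q ≠ p → ∀ s ∈ Subgroup.upperCentralSeries G n, InD p s →
    (∃ e : ℕ, s ^ (q ^ e) = 1) → s ∈ center G

theorem not_dvd_cs_of_InD {p q : ℕ} (hq : q.Prime) (hp : p.Prime) (hqp : q ≠ p) {y : G}
    (hy : InD p y) : ¬ q ∣ cs y := by
  obtain ⟨k, hk⟩ := hy
  rw [hk]
  intro h
  exact hqp ((Nat.prime_dvd_prime_iff_eq hq hp).mp (hq.dvd_of_dvd_pow h))

theorem core [Finite G] {p : ℕ} (hp : p.Prime) {n : ℕ} (L : Lvl G p n) {q : ℕ} (hq : q.Prime)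
    (hqp : q ≠ p) {y g c : G} (hy : InD p y) {e : ℕ} (hg : g ^ (q ^ e) = 1)
    (hc : c ∈ Subgroup.upperCentralSeries G n) (h : g * y * g⁻¹ = y * c) : c = 1 := by
  have hyc : InD p (y * c) := h ▸ InD_conj hy g
  have hcD : InD p c := L.b y c hy hc hyc
  have hgc : g * c = c * g := L.c q hq hqp g ⟨e, hg⟩ c hc hcD
  have hpow := conj_pow_of_commute h hgc (q ^ e)
  rw [hg] at hpow
  have hce : c ^ (q ^ e) = 1 := by
    have : y = y * c ^ (q ^ e) := by simpa using hpow
    exact (by simpa using this.symm)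
  have hcen : c ∈ center G := L.d q hq hqp c hc hcD ⟨e, hce⟩
  exact central_eq_one_of_conj hq hcen hce (isConj_iff.mpr ⟨g, h⟩)
    (not_dvd_cs_of_InD hq hp hqp hy)

theorem comm_mem_of_succ {n : ℕ} {t : G} (ht : t ∈ Subgroup.upperCentralSeries G (n + 1)) (g : G) :
    t⁻¹ * g * t * g⁻¹ ∈ Subgroup.upperCentralSeries G n := by
  have h := (Subgroup.mem_upperCentralSeries_succ_iff).mp (inv_mem ht) g
  rw [commutatorElement_def, inv_inv] at h
  exact h

theorem lvl_zero [Finite G] (p : ℕ) : Lvl G p 0 := by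
  refine ⟨?_, ?_, ?_⟩
  · intro x t _ ht _
    rw [Subgroup.upperCentralSeries_zero, Subgroup.mem_bot] at ht
    rw [ht]; exact InD_one p
  · intro q _ _ g _ t ht _
    rw [Subgroup.upperCentralSeries_zero, Subgroup.mem_bot] at ht
    rw [ht]; simp
  · intro q _ _ s hs _ _
    rw [Subgroup.upperCentralSeries_zero, Subgroup.mem_bot] at hs
    rw [hs]; exact one_mem _

theorem sylow_mem_pow {q : ℕ} (Q : Sylow q G) {g : G} (hg : g ∈ (Q : Subgroup G)) :
    ∃ e : ℕ, g ^ (q ^ e) = 1 := by
  obtain ⟨k, hk⟩ := Q.isPGroup' ⟨g, hg⟩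
  refine ⟨k, ?_⟩
  have := congrArg Subtype.val hk
  simpa using this

theorem lvl_succ [Finite G] {p : ℕ} (hp : p.Prime) {n : ℕ} (L : Lvl G p n) : Lvl G p (n + 1) := by
  have hc : ∀ q : ℕ, q.Prime → q ≠ p → ∀ g : G, (∃ e : ℕ, g ^ (q ^ e) = 1) →
      ∀ t ∈ Subgroup.upperCentralSeries G (n + 1), InD p t → g * t = t * g := by
    intro q hq hqp g ⟨e, hg⟩ t ht htD
    have hcz := comm_mem_of_succ ht g
    have h : g * t * g⁻¹ = t * (t⁻¹ * g * t * g⁻¹) := by group
    have h1 := core hp L hq hqp htD hg hcz h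
    have : g * t * g⁻¹ = t := by rw [h, h1, mul_one]
    calc g * t = (g * t * g⁻¹) * g := by group
      _ = t * g := by rw [this]
  refine ⟨?_, hc, ?_⟩
  · intro x t hx ht hxt
    apply InD_of_sylow
    intro q hq hqp
    obtain ⟨Q, hQ⟩ := hx.exists_sylow hp hq hqp
    refine ⟨Q, fun g hg => ?_⟩
    rw [mem_centralizer_singleton_iff]
    obtain ⟨e, hge⟩ := sylow_mem_pow Q hg
    have hgx : g * x = x * g := mem_centralizer_singleton_iff.mp (hQ hg)
    have hcz := comm_mem_of_succ ht g
    have h : g * (x * t) * g⁻¹ = (x * t) * (t⁻¹ * g * t * g⁻¹) := by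
      have : g * (x * t) * g⁻¹ = (g * x) * t * g⁻¹ := by group
      rw [this, hgx]; group
    have h1 := core hp L hq hqp hxt hge hcz h
    have h2 : g * t * g⁻¹ = t := by
      have : g * t * g⁻¹ = t * (t⁻¹ * g * t * g⁻¹) := by group
      rw [this, h1, mul_one]
    calc g * t = (g * t * g⁻¹) * g := by group
      _ = t * g := by rw [h2]
  · intro q hq hqp s hs hsD ⟨f, hsf⟩
    have htop : centralizer {s} = ⊤ := by
      apply eq_top_of_forall_sylow_le
      intro r hr
      have := Fact.mk hr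
      obtain ⟨R⟩ : Nonempty (Sylow r G) := inferInstance
      refine ⟨R, fun u hu => ?_⟩
      rw [mem_centralizer_singleton_iff]
      obtain ⟨e, hue⟩ := sylow_mem_pow R hu
      by_cases hrp : r = p
      · subst hrp
        have hcz := comm_mem_of_succ hs u
        set c := s⁻¹ * u * s * u⁻¹ with hcdef
        have h : u * s * u⁻¹ = s * c := by rw [hcdef]; group
        have hscD : InD r (s * c) := h ▸ InD_conj hsD u
        have hcD : InD r c := L.b s c hsD hcz hscD
        have hsc : s * c = c * s := L.c q hq hqp s ⟨f, hsf⟩ c hcz hcD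
        have hcf : c ^ (q ^ f) = 1 := by
          have h1 : (s * c) ^ (q ^ f) = s ^ (q ^ f) * c ^ (q ^ f) := (Commute.mul_pow hsc _)
          have h2 : (u * s * u⁻¹) ^ (q ^ f) = u * s ^ (q ^ f) * u⁻¹ := conj_pow
          rw [h, h1, hsf] at h2
          simpa using h2
        have hcen : c ∈ center G := L.d q hq hqp c hcz hcD ⟨f, hcf⟩
        have huc : u * c = c * u := Subgroup.mem_center_iff.mp hcen u
        have hpow := conj_pow_of_commute h huc (r ^ e)
        rw [hue] at hpow
        have hce : c ^ (r ^ e) = 1 := by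
          have : s = s * c ^ (r ^ e) := by simpa using hpow
          exact (by simpa using this.symm)
        have hc1 : c = 1 := by
          rw [← orderOf_eq_one_iff]
          have d1 : orderOf c ∣ q ^ f := orderOf_dvd_of_pow_eq_one hcf
          have d2 : orderOf c ∣ r ^ e := orderOf_dvd_of_pow_eq_one hce
          have hcop : Nat.Coprime (q ^ f) (r ^ e) :=
            Nat.Coprime.pow _ _ ((Nat.coprime_primes hq hr).mpr hqp)
          exact Nat.eq_one_of_dvd_coprimes hcop d1 d2
        have h2 : u * s * u⁻¹ = s := by rw [h, hc1, mul_one]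
        calc u * s = (u * s * u⁻¹) * u := by group
          _ = s * u := by rw [h2]
      · exact hc r hr hrp u ⟨e, hue⟩ s hs hsD
    rw [Subgroup.mem_center_iff]
    intro g
    have : g ∈ centralizer {s} := by rw [htop]; exact Subgroup.mem_top g
    exact mem_centralizer_singleton_iff.mp this

theorem lvl_all [Finite G] {p : ℕ} (hp : p.Prime) (n : ℕ) : Lvl G p n := by
  induction n with
  | zero => exact lvl_zero p
  | succ n ih => exact lvl_succ hp ih

end Cfsg.Agent.Lib.Helper9.CHM
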