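import Cfsg.Agent.Lib.Helper9.CHM2

/-!
# Cossey–Hawkes–Mann, part 3: counting
-/

namespace Cfsg.Agent.Lib.Helper9.CHM

open Subgroup

variable {G : Type*} [Group G]

theorem InD_mul [Finite G] {p : ℕ} (hp : p.Prime) (n : ℕ) {x t : G} (hx : InD p x)
    (ht : t ∈ Subgroup.upperCentralSeries G n) (htD : InD p t) : InD p (x * t) := by
  apply InD_of_sylow
  intro q hq hqp
  obtain ⟨Q, hQ⟩ := hx.exists_sylow hp hq hqp
  refine ⟨Q, fun g hg => ?_⟩
  rw [mem_centralizer_singleton_iff]
  have hgx : g * x = x * g := mem_centralizer_singleton_iff.mp (hQ hg)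
  have hgt : g * t = t * g := (lvl_all hp n).c q hq hqp g (sylow_mem_pow Q hg) t ht htD
  rw [← mul_assoc, hgx, mul_assoc, hgt, mul_assoc]

/-- The subgroup `D ∩ Z_n`. -/
def TT [Finite G] (p : ℕ) (hp : p.Prime) (n : ℕ) : Subgroup G where
  carrier := {t | t ∈ Subgroup.upperCentralSeries G n ∧ InD p t}
  one_mem' := ⟨one_mem _, InD_one p⟩
  mul_mem' := by
    rintro a b ⟨ha, haD⟩ ⟨hb, hbD⟩
    exact ⟨mul_mem ha hb, InD_mul hp n haD hb hbD⟩
  inv_mem' := by
    rintro a ⟨ha, haD⟩
    exact ⟨inv_mem ha, InD_inv haD⟩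

theorem mem_TT [Finite G] {p : ℕ} (hp : p.Prime) (n : ℕ) (t : G) :
    t ∈ TT p hp n ↔ t ∈ Subgroup.upperCentralSeries G n ∧ InD p t := Iff.rfl

instance TT_normal [Finite G] (p : ℕ) (hp : p.Prime) (n : ℕ) : (TT (G := G) p hp n).Normal := by
  constructor
  intro t ht g
  rw [mem_TT] at ht ⊢
  exact ⟨(inferInstance : (Subgroup.upperCentralSeries G n).Normal).conj_mem t ht.1 g,
    InD_conj ht.2 g⟩

/-- conjugation action through a homomorphism on an invariant subset -/
@[reducible] def conjActOn {P Q : Type*} [Group P] [Group Q] (φ : P →* Q) (S : Set Q)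
    (hS : ∀ (u : P) (ξ : Q), ξ ∈ S → φ u * ξ * (φ u)⁻¹ ∈ S) : MulAction P S where
  smul u ξ := ⟨φ u * ξ.1 * (φ u)⁻¹, hS u ξ.1 ξ.2⟩
  one_smul ξ := by
    apply Subtype.ext
    show φ 1 * ξ.1 * (φ 1)⁻¹ = ξ.1
    simp
  mul_smul u v ξ := by
    apply Subtype.ext
    show φ (u * v) * ξ.1 * (φ (u * v))⁻¹ = φ u * (φ v * ξ.1 * (φ v)⁻¹) * (φ u)⁻¹
    rw [map_mul]; group

theorem pow_dvd_card_ucs [Finite G] {p : ℕ} (hp : p.Prime) {n : ℕ}
    (hn : Subgroup.upperCentralSeries G (n + 1) = Subgroup.upperCentralSeries G n)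
    {a : ℕ} (hD : p ^ a ∣ Nat.card {x : G // InD p x}) :
    p ^ a ∣ Nat.card (Subgroup.upperCentralSeries G n) := by
  classical
  have hpF := Fact.mk hp
  set T := TT (G := G) p hp n with hT
  let D : Set G := {x | InD p x}
  let X : Set (G ⧸ T) := (QuotientGroup.mk : G → G ⧸ T) '' D
  have hpre : (QuotientGroup.mk : G → G ⧸ T) ⁻¹' X = D := by
    ext g
    constructor
    · rintro ⟨x, hx, hxg⟩
      have h1 : x⁻¹ * g ∈ T := QuotientGroup.eq.mp hxg
      have h2 : InD p (x * (x⁻¹ * g)) := InD_mul hp n hx h1.1 h1.2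
      have : x * (x⁻¹ * g) = g := by group
      rw [this] at h2
      exact h2
    · intro hg
      exact ⟨g, hg, rfl⟩
  have hcard : Nat.card D = Nat.card T * Nat.card X := by
    rw [← hpre]
    exact QuotientGroup.card_preimage_mk T X
  -- the Sylow p-subgroup acts on X
  obtain ⟨P⟩ : Nonempty (Sylow p G) := inferInstance
  let φ : (P : Subgroup G) →* (G ⧸ T) := (QuotientGroup.mk' T).comp (P : Subgroup G).subtype
  have hS : ∀ (u : (P : Subgroup G)) (ξ : G ⧸ T), ξ ∈ X → φ u * ξ * (φ u)⁻¹ ∈ X := by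
    rintro u ξ ⟨x, hx, rfl⟩
    refine ⟨(u : G) * x * (u : G)⁻¹, InD_conj hx _, ?_⟩
    simp [φ]
  letI : MulAction (P : Subgroup G) X := conjActOn φ X hS
  have hmod := P.isPGroup'.card_modEq_card_fixedPoints X
  have hfix : Nat.card (MulAction.fixedPoints (P : Subgroup G) X) = 1 := by
    rw [Nat.card_eq_one_iff_unique]
    have h1mem : ((1 : G ⧸ T)) ∈ X := ⟨1, InD_one p, rfl⟩
    constructor
    · constructor
      rintro ⟨⟨ξ, hξ⟩, hfx⟩ ⟨⟨η, hη⟩, hfy⟩
      have key : ∀ (ζ : G ⧸ T) (hζ : ζ ∈ X),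
          (⟨ζ, hζ⟩ : X) ∈ MulAction.fixedPoints (P : Subgroup G) X → ζ = 1 := by
        rintro ζ ⟨x, hx, rfl⟩ hfixed
        -- stabiliser subgroup
        let S : Subgroup G :=
          (centralizer {((x : G) : G ⧸ T)}).comap (QuotientGroup.mk' T)
        have hSmem : ∀ g : G, g ∈ S ↔
            ((g : G) : G ⧸ T) * ((x : G) : G ⧸ T) = ((x : G) : G ⧸ T) * ((g : G) : G ⧸ T) := by
          intro g
          show QuotientGroup.mk' T g ∈ centralizer {((x : G) : G ⧸ T)} ↔ _
          rw [mem_centralizer_singleton_iff]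
          rfl
        have hStop : S = ⊤ := by
          apply eq_top_of_forall_sylow_le
          intro r hr
          by_cases hrp : r = p
          · subst hrp
            refine ⟨P, fun u hu => ?_⟩
            rw [hSmem]
            have h2 := hfixed ⟨u, hu⟩
            have h3 : φ ⟨u, hu⟩ * ((x : G) : G ⧸ T) * (φ ⟨u, hu⟩)⁻¹ = ((x : G) : G ⧸ T) :=
              congrArg Subtype.val h2
            have h4 : φ ⟨u, hu⟩ = ((u : G) : G ⧸ T) := rfl
            rw [h4] at h3
            calc ((u : G) : G ⧸ T) * ((x : G) : G ⧸ T)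
                = (((u : G) : G ⧸ T) * ((x : G) : G ⧸ T) * (((u : G) : G ⧸ T))⁻¹)
                  * ((u : G) : G ⧸ T) := by group
              _ = ((x : G) : G ⧸ T) * ((u : G) : G ⧸ T) := by rw [h3]
          · obtain ⟨Q, hQ⟩ := InD.exists_sylow hp hx hr hrp
            refine ⟨Q, fun g hg => ?_⟩
            rw [hSmem]
            have hgx : g * x = x * g := mem_centralizer_singleton_iff.mp (hQ hg)
            have : ((g * x : G) : G ⧸ T) = ((x * g : G) : G ⧸ T) := by rw [hgx]
            simpa using this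
        have hxZ : x ∈ Subgroup.upperCentralSeries G (n + 1) := by
          rw [Subgroup.mem_upperCentralSeries_succ_iff]
          intro y
          have hy : y ∈ S := by rw [hStop]; exact Subgroup.mem_top y
          rw [hSmem] at hy
          have h5 : ((x * y * x⁻¹ * y⁻¹ : G) : G ⧸ T) = 1 := by
            have : ((x * y * x⁻¹ * y⁻¹ : G) : G ⧸ T)
                = ((x : G) : G ⧸ T) * ((y : G) : G ⧸ T) * (((x : G) : G ⧸ T))⁻¹
                  * (((y : G) : G ⧸ T))⁻¹ := by simp
            rw [this, ← hy]; group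
          have h6 : x * y * x⁻¹ * y⁻¹ ∈ T := (QuotientGroup.eq_one_iff _).mp h5
          rw [commutatorElement_def]
          exact h6.1
        rw [hn] at hxZ
        have hxT : x ∈ T := ⟨hxZ, hx⟩
        exact (QuotientGroup.eq_one_iff x).mpr hxT
      have e1 := key ξ hξ hfx
      have e2 := key η hη hfy
      subst e1; subst e2; rfl
    · refine ⟨⟨⟨1, h1mem⟩, ?_⟩⟩
      intro u
      apply Subtype.ext
      show φ u * 1 * (φ u)⁻¹ = 1
      simp
  rw [hfix] at hmod
  have hndvd : ¬ p ∣ Nat.card X := by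
    intro hdvd
    have h0 : Nat.card X ≡ 0 [MOD p] := (Nat.modEq_zero_iff_dvd).mpr hdvd
    have h10 : 1 ≡ 0 [MOD p] := hmod.symm.trans h0
    have : p ∣ 1 := (Nat.modEq_zero_iff_dvd).mp h10
    exact hp.one_lt.ne' (Nat.dvd_one.mp this)
  have hcop : Nat.Coprime (p ^ a) (Nat.card X) :=
    Nat.Coprime.pow_left a ((Nat.Prime.coprime_iff_not_dvd hp).mpr hndvd)
  have hD' : p ^ a ∣ Nat.card T * Nat.card X := by
    have : Nat.card {x : G // InD p x} = Nat.card D := rfl
    rw [this, hcard] at hD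
    exact hD
  have hT' : p ^ a ∣ Nat.card T := hcop.dvd_of_dvd_mul_right hD'
  have hle : T ≤ Subgroup.upperCentralSeries G n := fun t ht => ht.1
  exact hT'.trans (Subgroup.card_dvd_of_le hle)

theorem exists_stable [Finite G] :
    ∃ n, Subgroup.upperCentralSeries G (n + 1) = Subgroup.upperCentralSeries G n := by
  obtain ⟨n, hn⟩ := WellFoundedGT.monotone_chain_condition
    (⟨Subgroup.upperCentralSeries G, Subgroup.upperCentralSeries_mono G⟩ : ℕ →o Subgroup G)
  exact ⟨n, (hn (n + 1) (Nat.le_succ n)).symm⟩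

/-- Theorem A: if `|G|_p` divides the number of elements of `p`-power class size for all `p`,
then `G` is nilpotent. -/
theorem isNilpotent_of_pow_dvd [Finite G]
    (h : ∀ p : ℕ, p.Prime → p ^ (Nat.card G).factorization p ∣ Nat.card {x : G // InD p x}) :
    Group.IsNilpotent G := by
  obtain ⟨n, hn⟩ := exists_stable (G := G)
  refine ⟨⟨n, ?_⟩⟩
  rw [← Subgroup.index_eq_one, Nat.eq_one_iff_not_exists_prime_dvd]
  intro p hp hdvd
  have h1 := pow_dvd_card_ucs hp hn (h p hp)
  have h2 := (Subgroup.upperCentralSeries G n).card_mul_index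
  have h3 : p ^ ((Nat.card G).factorization p + 1) ∣ Nat.card G := by
    have h4 : p ^ ((Nat.card G).factorization p + 1) ∣
        Nat.card (Subgroup.upperCentralSeries G n) * (Subgroup.upperCentralSeries G n).index := by
      rw [pow_succ]
      exact Nat.mul_dvd_mul h1 hdvd
    rwa [h2] at h4
  exact Nat.pow_succ_factorization_not_dvd (Nat.card_pos).ne' hp h3

/-- Theorem C': in a nilpotent group the number of elements of `p`-power class size is divisible
by `|H|_p`. -/
theorem pow_dvd_card_of_nilpotent [Finite G] (hG : Group.IsNilpotent G) {p : ℕ} (hp : p.Prime) :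
    p ^ (Nat.card G).factorization p ∣ Nat.card {x : G // InD p x} := by
  have hpF := Fact.mk hp
  obtain ⟨n, hn⟩ := hG.nilpotent
  set T := TT (G := G) p hp n with hT
  have hTD : Nat.card T = Nat.card {x : G // InD p x} := by
    apply Nat.card_congr
    refine Equiv.subtypeEquivRight (fun x => ?_)
    show x ∈ T ↔ _
    rw [hT, mem_TT, hn]
    simp
  obtain ⟨P⟩ : Nonempty (Sylow p G) := inferInstance
  have hPT : (P : Subgroup G) ≤ T := by
    intro u hu
    refine ⟨by rw [hn]; exact Subgroup.mem_top u, ?_⟩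
    apply InD_of_sylow
    intro q hq hqp
    have hqF := Fact.mk hq
    obtain ⟨Q⟩ : Nonempty (Sylow q G) := inferInstance
    refine ⟨Q, fun g hg => ?_⟩
    rw [mem_centralizer_singleton_iff]
    have hdis : Disjoint (Q : Subgroup G) (P : Subgroup G) :=
      IsPGroup.disjoint_of_ne q p hqp _ _ Q.isPGroup' P.isPGroup'
    exact (Subgroup.commute_of_normal_of_disjoint _ _ inferInstance inferInstance hdis g u hg hu).eq
  rw [← hTD, ← P.card_eq_multiplicity]
  exact Subgroup.card_dvd_of_le hPT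

end Cfsg.Agent.Lib.Helper9.CHM
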