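import Cfsg.Agent.Lib.Helper9.CHM3

/-!
# Cossey–Hawkes–Mann, part 4: the class-size bijection and the final theorem
-/

namespace Cfsg.Agent.Lib.Helper9.CHM

open Subgroup

theorem nonempty_equiv_of_natCard_eq {α : Type*} {β : Type*} [Finite α] [Finite β]
    (h : Nat.card α = Nat.card β) : Nonempty (α ≃ β) := by
  have := Fintype.ofFinite α
  have := Fintype.ofFinite β
  rw [Nat.card_eq_fintype_card, Nat.card_eq_fintype_card] at h
  exact Fintype.card_eq.mp h

theorem exists_equiv_cs {G : Type*} {H : Type*} [Group G] [Finite G] [Group H] [Finite H]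
    (h : ∀ k : ℕ, Nat.card {C : ConjClasses G // Nat.card C.carrier = k}
      = Nat.card {C : ConjClasses H // Nat.card C.carrier = k}) :
    ∃ σ : G ≃ H, ∀ x, cs (σ x) = cs x := by
  classical
  -- bijection on classes
  have e : ∀ k : ℕ, {C : ConjClasses G // Nat.card C.carrier = k}
      ≃ {C : ConjClasses H // Nat.card C.carrier = k} :=
    fun k => Classical.choice (nonempty_equiv_of_natCard_eq (h k))
  let E : ConjClasses G ≃ ConjClasses H := Equiv.ofFiberEquiv e
  have hE : ∀ C : ConjClasses G, Nat.card (E C).carrier = Nat.card C.carrier :=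
    fun C => Equiv.ofFiberEquiv_map e C
  -- bijection on elements
  have e2 : ∀ C' : ConjClasses H, {x : G // E (ConjClasses.mk x) = C'}
      ≃ {y : H // ConjClasses.mk y = C'} := by
    intro C'
    apply Classical.choice
    apply nonempty_equiv_of_natCard_eq
    have h1 : Nat.card {x : G // E (ConjClasses.mk x) = C'} = Nat.card (E.symm C').carrier := by
      apply Nat.card_congr
      refine Equiv.subtypeEquivRight (fun x => ?_)
      rw [ConjClasses.mem_carrier_iff_mk_eq]
      constructor
      · intro hx; rw [← hx]; simp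
      · intro hx; rw [hx]; simp
    have h2 : Nat.card {y : H // ConjClasses.mk y = C'} = Nat.card C'.carrier := by
      apply Nat.card_congr
      refine Equiv.subtypeEquivRight (fun y => ?_)
      rw [ConjClasses.mem_carrier_iff_mk_eq]
    rw [h1, h2, ← hE (E.symm C')]
    simp
  let σ : G ≃ H := Equiv.ofFiberEquiv e2
  have hσ : ∀ x : G, ConjClasses.mk (σ x) = E (ConjClasses.mk x) :=
    fun x => Equiv.ofFiberEquiv_map e2 x
  refine ⟨σ, fun x => ?_⟩
  unfold cs
  rw [hσ, hE]

/-- **Cossey–Hawkes–Mann**: a finite group with the same multiset of class sizes as a nilpotent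
group is nilpotent. -/
theorem chm {G : Type*} {H : Type*} [Group G] [Finite G] [Group H] [Finite H]
    (hH : Group.IsNilpotent H)
    (h : ∀ k : ℕ, Nat.card {C : ConjClasses G // Nat.card C.carrier = k}
      = Nat.card {C : ConjClasses H // Nat.card C.carrier = k}) :
    Group.IsNilpotent G := by
  obtain ⟨σ, hσ⟩ := exists_equiv_cs h
  apply isNilpotent_of_pow_dvd
  intro p hp
  have h1 : Nat.card G = Nat.card H := Nat.card_congr σ
  have h2 : Nat.card {x : G // InD p x} = Nat.card {y : H // InD p y} := by
    apply Nat.card_congr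
    refine σ.subtypeEquiv (fun x => ?_)
    unfold InD
    rw [hσ]
  rw [h1, h2]
  exact pow_dvd_card_of_nilpotent hH hp

end Cfsg.Agent.Lib.Helper9.CHM
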