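import Mathlib

set_option autoImplicit false

namespace Cfsg.Agent.H9CL

open Classical

variable {G : Type*} [Group G]

/-- weak subnormal chain from `⊥` to `L` -/
structure IsWChain (L : Subgroup G) (m : ℕ) (H : ℕ → Subgroup G) : Prop where
  bot : H 0 = ⊥
  top : H m = L
  le : ∀ i < m, H i ≤ H (i+1)
  nrm : ∀ i < m, ∀ x ∈ H (i+1), ∀ y ∈ H i, x * y * x⁻¹ ∈ H i

/-- number of strict steps below `m` -/
noncomputable def sc (m : ℕ) (H : ℕ → Subgroup G) : ℕ :=
  ((Finset.range m).filter (fun i => H i ≠ H (i+1))).card

theorem sc_zero (H : ℕ → Subgroup G) : sc 0 H = 0 := by simp [sc]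

theorem sc_succ (m : ℕ) (H : ℕ → Subgroup G) :
    sc (m+1) H = sc m H + (if H m ≠ H (m+1) then 1 else 0) := by
  unfold sc
  rw [Finset.range_add_one, Finset.filter_insert]
  split_ifs with h
  · rw [Finset.card_insert_of_notMem]
    simp
  · simp

theorem IsWChain.mono {L : Subgroup G} {m : ℕ} {H : ℕ → Subgroup G} (h : IsWChain L m H) :
    ∀ i j, i ≤ j → j ≤ m → H i ≤ H j := by
  intro i j hij
  induction j, hij using Nat.le_induction with
  | base => intro _; exact le_rfl
  | succ j hij ih => intro hjm; exact (ih (by omega)).trans (h.le j (by omega))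

theorem IsWChain.le_top {L : Subgroup G} {m : ℕ} {H : ℕ → Subgroup G} (h : IsWChain L m H)
    (i : ℕ) (hi : i ≤ m) : H i ≤ L := by
  have := h.mono i m hi le_rfl
  rwa [h.top] at this

theorem two_pow_sc_le [Finite G] {L : Subgroup G} {m : ℕ} {H : ℕ → Subgroup G}
    (h : IsWChain L m H) : ∀ j, j ≤ m → 2 ^ sc j H ≤ Nat.card (H j) := by
  intro j
  induction j with
  | zero =>
    intro _
    rw [sc_zero, h.bot, Subgroup.card_bot, pow_zero]
  | succ j ih =>
    intro hj
    have ih' := ih (by omega)
    have hle := h.le j (by omega)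
    rw [sc_succ]
    split_ifs with hne
    · have hdvd : Nat.card (H j) ∣ Nat.card (H (j+1)) := Subgroup.card_dvd_of_le hle
      have hlt : Nat.card (H j) < Nat.card (H (j+1)) := by
        by_contra hcon
        push Not at hcon
        exact hne (Subgroup.eq_of_le_of_card_ge hle hcon)
      obtain ⟨c, hc⟩ := hdvd
      have hpos : 0 < Nat.card (H j) := Nat.card_pos
      have hc2 : 2 ≤ c := by
        rcases Nat.lt_or_ge c 2 with hc2 | hc2
        · exfalso
          have : c = 0 ∨ c = 1 := by omega
          rcases this with rfl | rfl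
          · rw [mul_zero] at hc; omega
          · rw [mul_one] at hc; omega
        · exact hc2
      calc 2 ^ (sc j H + 1) = 2 ^ sc j H * 2 := pow_succ _ _
        _ ≤ Nat.card (H j) * c := Nat.mul_le_mul ih' hc2
        _ = Nat.card (H (j+1)) := hc.symm
    · rw [add_zero]
      exact ih'.trans (Subgroup.card_le_of_le hle)

theorem sc_le_cardFactors [Finite G] {L : Subgroup G} {m : ℕ} {H : ℕ → Subgroup G}
    (h : IsWChain L m H) :
    ∀ j, j ≤ m → sc j H ≤ ArithmeticFunction.cardFactors (Nat.card (H j)) := by
  intro j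
  induction j with
  | zero =>
    intro _
    rw [sc_zero]; exact Nat.zero_le _
  | succ j ih =>
    intro hj
    have ih' := ih (by omega)
    have hle := h.le j (by omega)
    rw [sc_succ]
    split_ifs with hne
    · have hdvd : Nat.card (H j) ∣ Nat.card (H (j+1)) := Subgroup.card_dvd_of_le hle
      have hlt : Nat.card (H j) < Nat.card (H (j+1)) := by
        by_contra hcon
        push Not at hcon
        exact hne (Subgroup.eq_of_le_of_card_ge hle hcon)
      obtain ⟨c, hc⟩ := hdvd
      have hpos : 0 < Nat.card (H j) := Nat.card_pos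
      have hc2 : 2 ≤ c := by
        rcases Nat.lt_or_ge c 2 with hc2 | hc2
        · exfalso
          have : c = 0 ∨ c = 1 := by omega
          rcases this with rfl | rfl
          · rw [mul_zero] at hc; omega
          · rw [mul_one] at hc; omega
        · exact hc2
      rw [hc, ArithmeticFunction.cardFactors_mul (by omega) (by omega)]
      have : 0 < ArithmeticFunction.cardFactors c :=
        ArithmeticFunction.cardFactors_pos_iff_one_lt.mpr (by omega)
      omega
    · have : H j = H (j+1) := by
        by_contra hcon; exact hne hcon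
      rw [add_zero, ← this]; exact ih'

/-- relative chain length of a subgroup -/
noncomputable def clS (L : Subgroup G) : ℕ :=
  sSup {s | ∃ m H, IsWChain L m H ∧ sc m H = s}

theorem chainSet_bdd [Finite G] (L : Subgroup G) :
    BddAbove {s | ∃ m H, IsWChain L m H ∧ sc m H = s} := by
  refine ⟨Nat.card L, ?_⟩
  rintro s ⟨m, H, h, rfl⟩
  have := two_pow_sc_le h m le_rfl
  rw [h.top] at this
  exact (Nat.lt_two_pow_self).le.trans this

theorem trivChain (L : Subgroup G) : IsWChain L 1 (fun i => if i = 0 then ⊥ else L) := by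
  refine ⟨by simp, by simp, ?_, ?_⟩
  · intro i hi
    have : i = 0 := by omega
    subst this
    simp
  · intro i hi x _ y hy
    have : i = 0 := by omega
    subst this
    simp only [if_true] at hy ⊢
    rw [Subgroup.mem_bot] at hy ⊢
    subst hy; simp

theorem chainSet_nonempty (L : Subgroup G) :
    {s | ∃ m H, IsWChain L m H ∧ sc m H = s}.Nonempty :=
  ⟨_, 1, _, trivChain L, rfl⟩

theorem sc_le_clS [Finite G] {L : Subgroup G} {m : ℕ} {H : ℕ → Subgroup G}
    (h : IsWChain L m H) : sc m H ≤ clS L :=
  le_csSup (chainSet_bdd L) ⟨m, H, h, rfl⟩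

theorem exists_chain_clS [Finite G] (L : Subgroup G) :
    ∃ m H, IsWChain L m H ∧ sc m H = clS L :=
  Nat.sSup_mem (chainSet_nonempty L) (chainSet_bdd L)

theorem clS_le_of_forall [Finite G] {L : Subgroup G} {b : ℕ}
    (hb : ∀ m H, IsWChain L m H → sc m H ≤ b) : clS L ≤ b := by
  obtain ⟨m, H, h, hs⟩ := exists_chain_clS L
  rw [← hs]; exact hb m H h

theorem two_pow_clS_le [Finite G] (L : Subgroup G) : 2 ^ clS L ≤ Nat.card L := by
  obtain ⟨m, H, h, hs⟩ := exists_chain_clS L
  rw [← hs]
  have := two_pow_sc_le h m le_rfl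
  rwa [h.top] at this

theorem clS_le_cardFactors [Finite G] (L : Subgroup G) :
    clS L ≤ ArithmeticFunction.cardFactors (Nat.card L) := by
  obtain ⟨m, H, h, hs⟩ := exists_chain_clS L
  rw [← hs]
  have := sc_le_cardFactors h m le_rfl
  rwa [h.top] at this

theorem clS_bot [Finite G] : clS (⊥ : Subgroup G) = 0 := by
  have := two_pow_clS_le (⊥ : Subgroup G)
  rw [Subgroup.card_bot] at this
  by_contra h
  have h2 : 2 ^ 1 ≤ 2 ^ clS (⊥ : Subgroup G) := Nat.pow_le_pow_right (by norm_num) (by omega)
  omega

theorem clS_add_le_of_normal [Finite G] {A B : Subgroup G} (hAB : A ≤ B)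
    (hn : ∀ x ∈ B, ∀ y ∈ A, x * y * x⁻¹ ∈ A) :
    clS A + (if A = B then 0 else 1) ≤ clS B := by
  obtain ⟨m, H, h, hs⟩ := exists_chain_clS A
  let H' : ℕ → Subgroup G := fun i => if i ≤ m then H i else B
  have hH' : IsWChain B (m+1) H' := by
    refine ⟨?_, ?_, ?_, ?_⟩
    · simp [H', h.bot]
    · simp [H']
    · intro i hi
      by_cases him : i + 1 ≤ m
      · have h1 : i ≤ m := by omega
        simp only [H', if_pos h1, if_pos him]
        exact h.le i (by omega)
      · have h1 : i = m := by omega
        subst h1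
        simp only [H', le_refl, if_true, if_neg him]
        rw [h.top]; exact hAB
    · intro i hi x hx y hy
      by_cases him : i + 1 ≤ m
      · have h1 : i ≤ m := by omega
        simp only [H', if_pos h1, if_pos him] at hx hy ⊢
        exact h.nrm i (by omega) x hx y hy
      · have h1 : i = m := by omega
        subst h1
        simp only [H', le_refl, if_true, if_neg him] at hx hy ⊢
        rw [h.top] at hy ⊢
        exact hn x hx y hy
  have hsc : sc (m+1) H' = sc m H + (if A = B then 0 else 1) := by
    rw [sc_succ]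
    have e1 : sc m H' = sc m H := by
      unfold sc
      apply congrArg
      apply Finset.filter_congr
      intro i hi
      rw [Finset.mem_range] at hi
      have h1 : i ≤ m := by omega
      have h2 : i + 1 ≤ m := by omega
      simp only [H', if_pos h1, if_pos h2]
    rw [e1]
    congr 1
    have h3 : H' m = A := by simp [H', h.top]
    have h4 : H' (m+1) = B := by simp [H']
    rw [h3, h4]
    by_cases hab : A = B <;> simp [hab]
  have := sc_le_clS hH'
  rw [hsc, hs] at this
  exact this

theorem clS_le_ker_add_map {G' : Type*} [Group G'] [Finite G] [Finite G'] (f : G →* G')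
    (L : Subgroup G) : clS L ≤ clS (L ⊓ f.ker) + clS (L.map f) := by
  apply clS_le_of_forall
  intro m H h
  have hA : IsWChain (L ⊓ f.ker) m (fun i => H i ⊓ f.ker) := by
    refine ⟨by simp [h.bot], by simp [h.top], ?_, ?_⟩
    · intro i hi; exact inf_le_inf_right _ (h.le i hi)
    · intro i hi x hx y hy
      exact ⟨h.nrm i hi x hx.1 y hy.1,
        f.ker.mul_mem (f.ker.mul_mem hx.2 hy.2) (f.ker.inv_mem hx.2)⟩
  have hB : IsWChain (L.map f) m (fun i => (H i).map f) := by
    refine ⟨by simp [h.bot], by simp [h.top], ?_, ?_⟩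
    · intro i hi; exact Subgroup.map_mono (h.le i hi)
    · rintro i hi _ ⟨x, hx, rfl⟩ _ ⟨y, hy, rfl⟩
      exact ⟨x * y * x⁻¹, h.nrm i hi x hx y hy, by simp⟩
  have h1 := sc_le_clS hA
  have h2 := sc_le_clS hB
  have h3 : sc m H ≤ sc m (fun i => H i ⊓ f.ker) + sc m (fun i => (H i).map f) := by
    unfold sc
    refine le_trans (Finset.card_le_card ?_) (Finset.card_union_le _ _)
    intro i hi
    rw [Finset.mem_filter] at hi
    rw [Finset.mem_union, Finset.mem_filter, Finset.mem_filter]
    by_contra hcon
    push Not at hcon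
    obtain ⟨hc1, hc2⟩ := hcon
    have hA' : H i ⊓ f.ker = H (i+1) ⊓ f.ker := hc1 hi.1
    have hB' : (H i).map f = (H (i+1)).map f := hc2 hi.1
    have hle := h.le i (Finset.mem_range.mp hi.1)
    apply hi.2
    apply le_antisymm hle
    intro x hx
    have hfx : f x ∈ (H (i+1)).map f := ⟨x, hx, rfl⟩
    rw [← hB'] at hfx
    obtain ⟨y, hy, hyx⟩ := hfx
    have hk : y⁻¹ * x ∈ H (i+1) ⊓ f.ker := by
      refine ⟨(H (i+1)).mul_mem ((H (i+1)).inv_mem (hle hy)) hx, ?_⟩
      show y⁻¹ * x ∈ f.ker
      rw [MonoidHom.mem_ker, map_mul, map_inv, hyx, inv_mul_cancel]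
    rw [← hA'] at hk
    have := (H i).mul_mem hy hk.1
    rwa [mul_inv_cancel_left] at this
  omega

theorem clS_ker_add_map_le {G' : Type*} [Group G'] [Finite G] [Finite G'] (f : G →* G')
    (L : Subgroup G) : clS (L ⊓ f.ker) + clS (L.map f) ≤ clS L := by
  obtain ⟨b, B, hB, hs⟩ := exists_chain_clS (L.map f)
  have key : ∀ j, j ≤ b → clS (L ⊓ f.ker) + sc j B ≤ clS ((B j).comap f ⊓ L) := by
    intro j
    induction j with
    | zero =>
      intro _
      rw [sc_zero, hB.bot, add_zero, MonoidHom.comap_bot, inf_comm]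
    | succ j ih =>
      intro hj
      have ih' := ih (by omega)
      rw [sc_succ]
      have hle : (B j).comap f ⊓ L ≤ (B (j+1)).comap f ⊓ L :=
        inf_le_inf_right _ (Subgroup.comap_mono (hB.le j (by omega)))
      have hn : ∀ x ∈ (B (j+1)).comap f ⊓ L, ∀ y ∈ (B j).comap f ⊓ L,
          x * y * x⁻¹ ∈ (B j).comap f ⊓ L := by
        intro x hx y hy
        refine ⟨?_, L.mul_mem (L.mul_mem hx.2 hy.2) (L.inv_mem hx.2)⟩
        show x * y * x⁻¹ ∈ (B j).comap f
        rw [Subgroup.mem_comap, map_mul, map_mul, map_inv]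
        exact hB.nrm j (by omega) (f x) hx.1 (f y) hy.1
      have hstep := clS_add_le_of_normal hle hn
      have hcmp : (if B j ≠ B (j+1) then 1 else 0) ≤
          (if (B j).comap f ⊓ L = (B (j+1)).comap f ⊓ L then 0 else 1) := by
        by_cases hne : B j = B (j+1)
        · simp [hne]
        · rw [if_pos hne]
          have hne2 : (B j).comap f ⊓ L ≠ (B (j+1)).comap f ⊓ L := by
            intro heq
            apply hne
            apply le_antisymm (hB.le j (by omega))
            intro z hz
            have hzL : z ∈ L.map f := hB.le_top (j+1) hj hz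
            obtain ⟨x, hxL, rfl⟩ := hzL
            have hx2 : x ∈ (B (j+1)).comap f ⊓ L := ⟨hz, hxL⟩
            rw [← heq] at hx2
            exact hx2.1
          rw [if_neg hne2]
      omega
  have := key b le_rfl
  rw [hB.top, hs] at this
  have h2 : (L.map f).comap f ⊓ L = L := inf_eq_right.mpr (Subgroup.le_comap_map f L)
  rwa [h2] at this

theorem clS_le_map_of_injective {G' : Type*} [Group G'] [Finite G] [Finite G'] (f : G →* G')
    (hf : Function.Injective f) (L : Subgroup G) : clS L ≤ clS (L.map f) := by
  have := clS_le_ker_add_map f L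
  rw [(MonoidHom.ker_eq_bot_iff f).mpr hf, inf_bot_eq, clS_bot, zero_add] at this
  exact this

theorem clS_map_le {G' : Type*} [Group G'] [Finite G] [Finite G'] (f : G →* G')
    (L : Subgroup G) : clS (L.map f) ≤ clS L := by
  have := clS_ker_add_map_le f L; omega

theorem clS_le_top_subtype [Finite G] (L : Subgroup G) : clS L ≤ clS (⊤ : Subgroup ↥L) := by
  apply clS_le_of_forall
  intro m H h
  have hC : IsWChain (⊤ : Subgroup ↥L) m (fun i => (H i).subgroupOf L) := by
    refine ⟨?_, ?_, ?_, ?_⟩
    · simp [h.bot]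
    · simp [h.top]
    · intro i hi; exact Subgroup.comap_mono (h.le i hi)
    · intro i hi x hx y hy
      rw [Subgroup.mem_subgroupOf] at hx hy ⊢
      simpa using h.nrm i hi x hx y hy
  refine le_trans (le_of_eq ?_) (sc_le_clS hC)
  unfold sc
  apply congrArg
  apply Finset.filter_congr
  intro i hi
  rw [Finset.mem_range] at hi
  have h1 := h.le_top i (by omega)
  have h2 := h.le_top (i+1) (by omega)
  constructor
  · intro hne heq
    apply hne
    have := congrArg (Subgroup.map L.subtype) heq
    rwa [Subgroup.map_subgroupOf_eq_of_le h1, Subgroup.map_subgroupOf_eq_of_le h2] at this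
  · intro hne heq
    apply hne
    show (H i).subgroupOf L = (H (i+1)).subgroupOf L
    rw [heq]

theorem clS_top_subtype_le [Finite G] (L : Subgroup G) : clS (⊤ : Subgroup ↥L) ≤ clS L := by
  have := clS_le_map_of_injective L.subtype L.subtype_injective (⊤ : Subgroup ↥L)
  rwa [← MonoidHom.range_eq_map, Subgroup.range_subtype] at this

theorem clS_top_le_of_equiv {G' : Type*} [Group G'] [Finite G] [Finite G'] (e : G ≃* G') :
    clS (⊤ : Subgroup G) ≤ clS (⊤ : Subgroup G') := by
  have := clS_le_map_of_injective e.toMonoidHom e.injective (⊤ : Subgroup G)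
  rwa [Subgroup.map_top_of_surjective _ e.surjective] at this

theorem clS_top_le_one_of_simple [Finite G] [IsSimpleGroup G] :
    clS (⊤ : Subgroup G) ≤ 1 := by
  apply clS_le_of_forall
  intro m H h
  have hbt : ∀ j, j ≤ m → ∀ i, i + j = m → (H i = ⊥ ∨ H i = ⊤) := by
    intro j
    induction j with
    | zero =>
      intro _ i hi
      right
      have : i = m := by omega
      subst this; exact h.top
    | succ j ih =>
      intro hj i hi
      rcases ih (by omega) (i+1) (by omega) with h1 | h1
      · left
        have := h.le i (by omega)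
        rw [h1] at this
        exact le_bot_iff.mp this
      · have hnorm : (H i).Normal := by
          refine ⟨fun y hy x => ?_⟩
          exact h.nrm i (by omega) x (by rw [h1]; trivial) y hy
        exact hnorm.eq_bot_or_eq_top
  have hstrict : ∀ i, i < m → H i ≠ H (i+1) → H i = ⊥ ∧ H (i+1) = ⊤ := by
    intro i hi hne
    have a1 := hbt (m - i) (by omega) i (by omega)
    have a2 := hbt (m - (i+1)) (by omega) (i+1) (by omega)
    rcases a1 with a1 | a1 <;> rcases a2 with a2 | a2
    · exact absurd (a1.trans a2.symm) hne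
    · exact ⟨a1, a2⟩
    · exfalso
      have := h.le i hi
      rw [a1, a2] at this
      exact top_ne_bot (le_bot_iff.mp this)
    · exact absurd (a1.trans a2.symm) hne
  unfold sc
  rw [Finset.card_le_one]
  intro i hi i' hi'
  rw [Finset.mem_filter, Finset.mem_range] at hi hi'
  have c1 := hstrict i hi.1 hi.2
  have c2 := hstrict i' hi'.1 hi'.2
  by_contra hne
  rcases Nat.lt_or_gt_of_ne hne with hlt | hlt
  · have := h.mono (i+1) i' (by omega) (by omega)
    rw [c1.2, c2.1] at this
    exact top_ne_bot (le_bot_iff.mp this)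
  · have := h.mono (i'+1) i (by omega) (by omega)
    rw [c2.2, c1.1] at this
    exact top_ne_bot (le_bot_iff.mp this)

end Cfsg.Agent.H9CL
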