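import Mathlib
import Cfsg.Agent.Lib.Helper9.CL1
import Cfsg.Agent.S5913

set_option autoImplicit false

namespace Cfsg.Agent.H9CL

open Classical

variable {T : Type*} [Group T]

/-- elements supported on the first `j` coordinates -/
def firstSub (k : ℕ) (T : Type*) [Group T] (j : ℕ) : Subgroup (Fin k → T) where
  carrier := {y | ∀ i : Fin k, j ≤ i.val → y i = 1}
  one_mem' := fun _ _ => rfl
  mul_mem' := by
    intro a b ha hb i hi
    show a i * b i = 1
    rw [ha i hi, hb i hi, mul_one]
  inv_mem' := by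
    intro a ha i hi
    show (a i)⁻¹ = 1
    rw [ha i hi, inv_one]

theorem mem_firstSub {k j : ℕ} {y : Fin k → T} :
    y ∈ firstSub k T j ↔ ∀ i : Fin k, j ≤ i.val → y i = 1 := Iff.rfl

theorem firstSub_zero (k : ℕ) : firstSub k T 0 = ⊥ := by
  ext y
  rw [mem_firstSub, Subgroup.mem_bot]
  constructor
  · intro h; funext i; exact h i (Nat.zero_le _)
  · rintro rfl i _; rfl

theorem firstSub_top (k : ℕ) : firstSub k T k = ⊤ := by
  ext y
  rw [mem_firstSub]
  constructor
  · intro _; trivial
  · intro _ i hi; exact absurd i.2 (by omega)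

theorem firstSub_mono (k : ℕ) {j j' : ℕ} (h : j ≤ j') : firstSub k T j ≤ firstSub k T j' :=
  fun _ hy i hi => hy i (by omega)

theorem firstSub_normal (k j : ℕ) : (firstSub k T j).Normal :=
  ⟨fun y hy g i hi => by
    show g i * y i * (g i)⁻¹ = 1
    rw [hy i hi, mul_one, mul_inv_cancel]⟩

theorem clS_firstSub_succ_le [Finite T] [IsSimpleGroup T] (k j : ℕ) (hj : j < k) :
    clS (firstSub k T (j+1)) ≤ clS (firstSub k T j) + 1 := by
  let f : (Fin k → T) →* T := Pi.evalMonoidHom (fun _ : Fin k => T) ⟨j, hj⟩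
  have h1 := clS_le_ker_add_map f (firstSub k T (j+1))
  have h2 : firstSub k T (j+1) ⊓ f.ker = firstSub k T j := by
    ext y
    rw [Subgroup.mem_inf, MonoidHom.mem_ker, mem_firstSub, mem_firstSub]
    constructor
    · rintro ⟨hy, hy0⟩ i hi
      by_cases hij : i.val = j
      · have : i = ⟨j, hj⟩ := Fin.ext hij
        rw [this]; exact hy0
      · exact hy i (by omega)
    · intro hy
      exact ⟨fun i hi => hy i (by omega), hy ⟨j, hj⟩ le_rfl⟩
  have h3 : (firstSub k T (j+1)).map f = ⊤ := by
    rw [eq_top_iff]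
    intro t _
    refine ⟨Pi.mulSingle ⟨j, hj⟩ t, ?_, by simp [f]⟩
    intro i hi
    apply Pi.mulSingle_eq_of_ne
    intro h
    rw [h] at hi
    simp at hi
  rw [h2, h3] at h1
  have := clS_top_le_one_of_simple (G := T)
  omega

theorem clS_firstSub_le [Finite T] [IsSimpleGroup T] (k : ℕ) :
    ∀ j, j ≤ k → clS (firstSub k T j) ≤ j := by
  intro j
  induction j with
  | zero => intro _; rw [firstSub_zero, clS_bot]
  | succ j ih =>
    intro hj
    have h1 := clS_firstSub_succ_le (T := T) k j (by omega)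
    have h2 := ih (by omega)
    omega

theorem clS_pi_top_le [Finite T] [IsSimpleGroup T] (k : ℕ) :
    clS (⊤ : Subgroup (Fin k → T)) ≤ k := by
  rw [← firstSub_top]; exact clS_firstSub_le k k le_rfl

theorem le_clS_of_meets [Finite T] (k : ℕ) (D : Subgroup (Fin k → T))
    (hD : ∀ j : Fin k, ∃ t : T, t ≠ 1 ∧ Pi.mulSingle j t ∈ D) : k ≤ clS D := by
  have key : ∀ j, j ≤ k → j ≤ clS (D ⊓ firstSub k T j) := by
    intro j
    induction j with
    | zero => intro _; exact Nat.zero_le _
    | succ j ih =>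
      intro hj
      have ih' := ih (by omega)
      have hle : D ⊓ firstSub k T j ≤ D ⊓ firstSub k T (j+1) :=
        inf_le_inf_left _ (firstSub_mono k (by omega))
      have hn : ∀ x ∈ D ⊓ firstSub k T (j+1), ∀ y ∈ D ⊓ firstSub k T j,
          x * y * x⁻¹ ∈ D ⊓ firstSub k T j := by
        intro x hx y hy
        exact ⟨D.mul_mem (D.mul_mem hx.1 hy.1) (D.inv_mem hx.1),
          (firstSub_normal k j).conj_mem y hy.2 x⟩
      have hstep := clS_add_le_of_normal hle hn
      have hne : D ⊓ firstSub k T j ≠ D ⊓ firstSub k T (j+1) := by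
        intro heq
        have hjk : j < k := by omega
        obtain ⟨t, ht, htD⟩ := hD ⟨j, hjk⟩
        have hin : Pi.mulSingle (⟨j, hjk⟩ : Fin k) t ∈ D ⊓ firstSub k T (j+1) := by
          refine ⟨htD, ?_⟩
          intro i hi
          apply Pi.mulSingle_eq_of_ne
          intro h
          rw [h] at hi
          simp at hi
        rw [← heq] at hin
        have := hin.2 ⟨j, hjk⟩ le_rfl
        rw [Pi.mulSingle_eq_same] at this
        exact ht this
      rw [if_neg hne] at hstep
      omega
  have := key k le_rfl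
  rwa [firstSub_top, inf_top_eq] at this

/-- coordinate subgroup -/
def coordSub (k : ℕ) (T : Type*) [Group T] (j : Fin k) : Subgroup (Fin k → T) :=
  (MonoidHom.mulSingle (fun _ : Fin k => T) j).range

theorem mulSingle_mem_coordSub {k : ℕ} (j : Fin k) (t : T) :
    Pi.mulSingle j t ∈ coordSub k T j := ⟨t, rfl⟩

theorem mem_coordSub {k : ℕ} {j : Fin k} {y : Fin k → T} :
    y ∈ coordSub k T j ↔ ∀ i, i ≠ j → y i = 1 := by
  constructor
  · rintro ⟨t, rfl⟩ i hi
    show (Pi.mulSingle j t : Fin k → T) i = 1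
    exact Pi.mulSingle_eq_of_ne (M := fun _ : Fin k => T) hi t
  · intro h
    refine ⟨y j, ?_⟩
    funext i
    by_cases hi : i = j
    · subst hi; simp
    · rw [h i hi]; exact Pi.mulSingle_eq_of_ne hi _

theorem coordSub_normal (k : ℕ) (j : Fin k) : (coordSub k T j).Normal :=
  ⟨fun y hy g => by
    rw [mem_coordSub] at hy ⊢
    intro i hi
    show g i * y i * (g i)⁻¹ = 1
    rw [hy i hi, mul_one, mul_inv_cancel]⟩

theorem exists_coord_of_mulEquiv [IsSimpleGroup T] (hT : ¬ IsMulCommutative T) (k : ℕ)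
    (ψ : (Fin k → T) ≃* (Fin k → T)) (j : Fin k) :
    ∃ j' : Fin k, (coordSub k T j).map ψ.toMonoidHom = coordSub k T j' := by
  set M := (coordSub k T j).map ψ.toMonoidHom with hM
  have hMn : M.Normal := (coordSub_normal k j).map ψ.toMonoidHom ψ.surjective
  obtain ⟨t, ht⟩ := exists_ne (1 : T)
  have hx : ψ (Pi.mulSingle j t) ∈ M := ⟨_, ⟨t, rfl⟩, rfl⟩
  have hx1 : ψ (Pi.mulSingle j t) ≠ 1 := by
    intro h
    have h2 := ψ.injective (h.trans (map_one ψ).symm)
    have h3 := congrFun h2 j
    rw [Pi.mulSingle_eq_same] at h3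
    exact ht h3
  obtain ⟨j', hj'⟩ : ∃ j', ψ (Pi.mulSingle j t) j' ≠ 1 := by
    by_contra hcon
    push Not at hcon
    exact hx1 (funext hcon)
  have hCj' : coordSub k T j' ≤ M := by
    rintro _ ⟨s, rfl⟩
    exact Cfsg.Agent.S5913.mulSingle_mem hT k M j' _ hx hj' s
  set K' := (coordSub k T j').map ψ.symm.toMonoidHom with hK'
  have hK'n : K'.Normal := (coordSub_normal k j').map ψ.symm.toMonoidHom ψ.symm.surjective
  have hK'le : K' ≤ coordSub k T j := by
    rintro _ ⟨y, hy, rfl⟩
    obtain ⟨z, hz, hzy⟩ := hCj' hy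
    have : ψ.symm y = z := by
      rw [← hzy]; exact ψ.symm_apply_apply z
    show ψ.symm y ∈ coordSub k T j
    rw [this]; exact hz
  have hK'top : coordSub k T j ≤ K' := by
    have hy0 : ψ.symm (Pi.mulSingle j' t) ∈ K' := ⟨_, ⟨t, rfl⟩, rfl⟩
    have hy1 : ψ.symm (Pi.mulSingle j' t) j ≠ 1 := by
      intro h
      have hmem := hK'le hy0
      have h1 : ψ.symm (Pi.mulSingle j' t) = 1 := by
        funext i
        by_cases hi : i = j
        · subst hi; exact h
        · exact mem_coordSub.mp hmem i hi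
      have h2 := ψ.symm.injective (h1.trans (map_one ψ.symm).symm)
      have h3 := congrFun h2 j'
      rw [Pi.mulSingle_eq_same] at h3
      exact ht h3
    rintro _ ⟨s, rfl⟩
    exact Cfsg.Agent.S5913.mulSingle_mem hT k K' j _ hy0 hy1 s
  refine ⟨j', le_antisymm ?_ hCj'⟩
  rintro _ ⟨y, hy, rfl⟩
  obtain ⟨w, hw, hwy⟩ := hK'top hy
  have : ψ y = w := by
    rw [← hwy]; exact ψ.apply_symm_apply w
  show ψ y ∈ coordSub k T j'
  rw [this]; exact hw

theorem card_mul_two_pow_le [Finite T] (k : ℕ) (D : Subgroup (Fin k → T)) (j0 : Fin k)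
    (hD0 : D ⊓ coordSub k T j0 = ⊥)
    (hR : ∀ j : Fin k, D.map (Pi.evalMonoidHom (fun _ : Fin k => T) j) ≠ ⊤) :
    Nat.card D * 2 ^ (k - 1) ≤ Nat.card T ^ (k - 1) := by
  let R : Fin k → Subgroup T := fun j => D.map (Pi.evalMonoidHom (fun _ : Fin k => T) j)
  have hR2 : ∀ j, Nat.card (R j) * 2 ≤ Nat.card T := by
    intro j
    have hdvd : Nat.card (R j) ∣ Nat.card T := Subgroup.card_subgroup_dvd_card (R j)
    obtain ⟨c, hc⟩ := hdvd
    have hpos : 0 < Nat.card T := Nat.card_pos
    have hc2 : 2 ≤ c := by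
      rcases Nat.lt_or_ge c 2 with h | h
      · exfalso
        have : c = 0 ∨ c = 1 := by omega
        rcases this with rfl | rfl
        · rw [mul_zero] at hc; omega
        · rw [mul_one] at hc
          exact hR j (Subgroup.eq_top_of_card_eq _ hc.symm)
      · exact h
    rw [hc]; exact Nat.mul_le_mul_left _ hc2
  let ι : D → (∀ i : {i : Fin k // i ≠ j0}, R i.1) := fun d i => ⟨d.1 i.1, ⟨d.1, d.2, rfl⟩⟩
  have hι : Function.Injective ι := by
    intro d d' h
    have hcoord : ∀ i : Fin k, i ≠ j0 → d.1 i = d'.1 i := by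
      intro i hi
      have := congrFun h ⟨i, hi⟩
      exact congrArg Subtype.val this
    have hmem : d.1⁻¹ * d'.1 ∈ D ⊓ coordSub k T j0 := by
      refine ⟨D.mul_mem (D.inv_mem d.2) d'.2, mem_coordSub.mpr ?_⟩
      intro i hi
      show (d.1 i)⁻¹ * d'.1 i = 1
      rw [hcoord i hi, inv_mul_cancel]
    rw [hD0, Subgroup.mem_bot] at hmem
    apply Subtype.ext
    exact inv_mul_eq_one.mp hmem
  have hcard := Nat.card_le_card_of_injective ι hι
  rw [Nat.card_pi] at hcard
  have hcount : Fintype.card {i : Fin k // i ≠ j0} = k - 1 := by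
    rw [Fintype.card_subtype_compl, Fintype.card_subtype_eq, Fintype.card_fin]
  have hprod : (∏ i : {i : Fin k // i ≠ j0}, Nat.card (R i.1)) * 2 ^ (k-1)
      ≤ Nat.card T ^ (k-1) := by
    calc (∏ i : {i : Fin k // i ≠ j0}, Nat.card (R i.1)) * 2 ^ (k-1)
        = ∏ i : {i : Fin k // i ≠ j0}, (Nat.card (R i.1) * 2) := by
          rw [Finset.prod_mul_distrib, Finset.prod_const, Finset.card_univ, hcount]
      _ ≤ ∏ _i : {i : Fin k // i ≠ j0}, Nat.card T :=
          Finset.prod_le_prod (fun _ _ => Nat.zero_le _) (fun i _ => hR2 i.1)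
      _ = Nat.card T ^ (k-1) := by rw [Finset.prod_const, Finset.card_univ, hcount]
  exact le_trans (Nat.mul_le_mul_right _ hcard) hprod

/-- elements supported on `I` -/
def suppSub (k : ℕ) (T : Type*) [Group T] (I : Finset (Fin k)) : Subgroup (Fin k → T) where
  carrier := {y | ∀ i : Fin k, i ∉ I → y i = 1}
  one_mem' := fun _ _ => rfl
  mul_mem' := by
    intro a b ha hb i hi
    show a i * b i = 1
    rw [ha i hi, hb i hi, mul_one]
  inv_mem' := by
    intro a ha i hi
    show (a i)⁻¹ = 1
    rw [ha i hi, inv_one]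

theorem mem_suppSub {k : ℕ} {I : Finset (Fin k)} {y : Fin k → T} :
    y ∈ suppSub k T I ↔ ∀ i : Fin k, i ∉ I → y i = 1 := Iff.rfl

theorem suppSub_normal (k : ℕ) (I : Finset (Fin k)) : (suppSub k T I).Normal :=
  ⟨fun y hy g i hi => by
    show g i * y i * (g i)⁻¹ = 1
    rw [hy i hi, mul_one, mul_inv_cancel]⟩

theorem card_le_pow_of_inf_suppSub [Finite T] (k : ℕ) (D : Subgroup (Fin k → T))
    (I : Finset (Fin k)) (h : D ⊓ suppSub k T I = ⊥) :
    Nat.card D ≤ Nat.card T ^ (k - I.card) := by
  let ι : D → ({i : Fin k // i ∉ I} → T) := fun d i => d.1 i.1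
  have hι : Function.Injective ι := by
    intro d d' hdd
    have hcoord : ∀ i : Fin k, i ∉ I → d.1 i = d'.1 i := by
      intro i hi
      exact congrFun hdd ⟨i, hi⟩
    have hmem : d.1⁻¹ * d'.1 ∈ D ⊓ suppSub k T I := by
      refine ⟨D.mul_mem (D.inv_mem d.2) d'.2, ?_⟩
      intro i hi
      show (d.1 i)⁻¹ * d'.1 i = 1
      rw [hcoord i hi, inv_mul_cancel]
    rw [h, Subgroup.mem_bot] at hmem
    apply Subtype.ext
    exact inv_mul_eq_one.mp hmem
  have hcard := Nat.card_le_card_of_injective ι hι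
  rw [Nat.card_fun] at hcard
  have hcount : Nat.card {i : Fin k // i ∉ I} = k - I.card := by
    rw [Nat.card_eq_fintype_card, Fintype.card_subtype_compl, Fintype.card_fin,
      Fintype.card_coe]
  rwa [hcount] at hcard

theorem card_le_pow_half_of_subdirect [Finite T] [IsSimpleGroup T] (hT : ¬ IsMulCommutative T)
    (k : ℕ) (D : Subgroup (Fin k → T))
    (hD0 : ∀ j, D ⊓ coordSub k T j = ⊥)
    (hR : ∀ j, D.map (Pi.evalMonoidHom (fun _ : Fin k => T) j) = ⊤) :
    Nat.card D ≤ Nat.card T ^ (k / 2) := by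
  let S : Set (Finset (Fin k)) := {I | D ⊓ suppSub k T I = ⊥}
  have hSfin : S.Finite := Set.toFinite _
  have hSne : S.Nonempty := by
    refine ⟨∅, ?_⟩
    show D ⊓ suppSub k T ∅ = ⊥
    rw [eq_bot_iff]
    rintro y ⟨_, hy⟩
    rw [Subgroup.mem_bot]
    funext i
    exact hy i (Finset.notMem_empty i)
  obtain ⟨I, hImax⟩ := hSfin.exists_maximal hSne
  have hI : D ⊓ suppSub k T I = ⊥ := hImax.1
  have hclaim : D ⊓ suppSub k T Iᶜ = ⊥ := by
    rw [eq_bot_iff]
    rintro x ⟨hxD, hxI⟩
    rw [Subgroup.mem_bot]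
    funext j
    by_cases hjI : j ∈ I
    · exact hxI j (by simpa using hjI)
    · have hmax : D ⊓ suppSub k T (insert j I) ≠ ⊥ := by
        intro h
        have := hImax.2 (show insert j I ∈ S from h) (Finset.subset_insert j I)
        exact hjI (this (Finset.mem_insert_self j I))
      set E := D ⊓ suppSub k T (insert j I) with hE
      have hEj : E.map (Pi.evalMonoidHom (fun _ : Fin k => T) j) = ⊤ := by
        have hn : (E.map (Pi.evalMonoidHom (fun _ : Fin k => T) j)).Normal := by
          refine ⟨?_⟩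
          rintro _ ⟨e, he, rfl⟩ t
          have ht : t ∈ D.map (Pi.evalMonoidHom (fun _ : Fin k => T) j) := by
            rw [hR j]; trivial
          obtain ⟨d, hd, rfl⟩ := ht
          refine ⟨d * e * d⁻¹, ⟨D.mul_mem (D.mul_mem hd he.1) (D.inv_mem hd),
            (suppSub_normal k _).conj_mem e he.2 d⟩, ?_⟩
          simp
        rcases hn.eq_bot_or_eq_top with h | h
        · exfalso
          apply hmax
          rw [eq_bot_iff]
          intro e he
          have hej : e j = 1 := by
            have : e j ∈ E.map (Pi.evalMonoidHom (fun _ : Fin k => T) j) := ⟨e, he, rfl⟩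
            rw [h, Subgroup.mem_bot] at this; exact this
          have : e ∈ D ⊓ suppSub k T I := by
            refine ⟨he.1, fun i hi => ?_⟩
            by_cases hij : i = j
            · rw [hij]; exact hej
            · exact he.2 i (by simp [hij, hi])
          rw [hI] at this
          exact this
        · exact h
      have hcen : x j ∈ Subgroup.center T := by
        rw [Subgroup.mem_center_iff]
        intro t
        have ht : t ∈ E.map (Pi.evalMonoidHom (fun _ : Fin k => T) j) := by
          rw [hEj]; trivial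
        obtain ⟨e, he, rfl⟩ := ht
        have hc : x * e * x⁻¹ * e⁻¹ ∈ D ⊓ coordSub k T j := by
          refine ⟨D.mul_mem (D.mul_mem (D.mul_mem hxD he.1) (D.inv_mem hxD)) (D.inv_mem he.1),
            mem_coordSub.mpr ?_⟩
          intro i hij
          show x i * e i * (x i)⁻¹ * (e i)⁻¹ = 1
          by_cases hiI : i ∈ I
          · have : x i = 1 := hxI i (by simpa using hiI)
            rw [this]; simp
          · have : e i = 1 := he.2 i (by simp [hij, hiI])
            rw [this]; simp
        rw [hD0 j, Subgroup.mem_bot] at hc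
        have h1 := congrFun hc j
        simp only [Pi.mul_apply, Pi.inv_apply, Pi.one_apply] at h1
        show e j * x j = x j * e j
        have h2 := mul_inv_eq_one.mp h1
        rw [mul_inv_eq_iff_eq_mul] at h2
        exact h2.symm
      rw [Cfsg.Agent.S5913.center_eq_bot_of_simple hT, Subgroup.mem_bot] at hcen
      exact hcen
  have b1 := card_le_pow_of_inf_suppSub k D I hI
  have b2 := card_le_pow_of_inf_suppSub k D Iᶜ hclaim
  have hIk : I.card ≤ k := by
    have := Finset.card_le_univ I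
    rwa [Fintype.card_fin] at this
  have hc : Iᶜ.card = k - I.card := by
    rw [Finset.card_compl, Fintype.card_fin]
  rw [hc] at b2
  have hpos : 0 < Nat.card T := Nat.card_pos
  by_cases h : I.card ≤ k / 2
  · exact b2.trans (Nat.pow_le_pow_right hpos (by omega))
  · exact b1.trans (Nat.pow_le_pow_right hpos (by omega))

end Cfsg.Agent.H9CL
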