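import Mathlib
import Cfsg.Agent.Lib.Helper9.CL2

set_option autoImplicit false

namespace Cfsg.Agent.H9CL

open Classical

universe u v

/-- number of orbits -/
noncomputable def orb (G : Type*) (Ω : Type*) [Group G] [MulAction G Ω] : ℕ :=
  Nat.card (Quotient (MulAction.orbitRel G Ω))

/-- the main statement at degree `n` -/
def MainAt (n : ℕ) : Prop :=
  ∀ (G : Type u) [Group G] [Finite G] (Ω : Type v) [Finite Ω] [MulAction G Ω] [FaithfulSMul G Ω],
    Nat.card Ω = n → 3 * clS (⊤ : Subgroup G) ≤ 4 * (n - orb G Ω)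

theorem card_lt_of_inj_notMem {α β : Type*} [Finite β] (f : α → β) (hf : Function.Injective f)
    (b : β) (hb : b ∉ Set.range f) : Nat.card α < Nat.card β := by
  haveI := Fintype.ofFinite β
  haveI : Finite α := Finite.of_injective f hf
  haveI := Fintype.ofFinite α
  rw [Nat.card_eq_fintype_card, Nat.card_eq_fintype_card]
  exact Fintype.card_lt_of_injective_of_notMem f hf hb

theorem card_sub_lt {α : Type*} [Finite α] (p : α → Prop) {x : α} (hx : ¬ p x) :
    Nat.card {a // p a} < Nat.card α := by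
  apply card_lt_of_inj_notMem (fun a : {a // p a} => a.1) Subtype.val_injective x
  rintro ⟨a, ha⟩
  exact hx (ha ▸ a.2)

section orbs

variable {G : Type*} [Group G] {Ω : Type*} [MulAction G Ω]

theorem orb_le_card [Finite Ω] : orb G Ω ≤ Nat.card Ω :=
  Nat.card_le_card_of_surjective (Quotient.mk (MulAction.orbitRel G Ω))
    (fun q => Quotient.exists_rep q)

theorem one_le_orb [Finite Ω] [Nonempty Ω] : 1 ≤ orb G Ω := by
  haveI : Nonempty (Quotient (MulAction.orbitRel G Ω)) :=
    ⟨Quotient.mk _ (Classical.arbitrary Ω)⟩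
  exact Nat.card_pos

theorem orb_eq_one_of_trans [Nonempty Ω] (h : ∀ x y : Ω, ∃ g : G, g • x = y) :
    orb G Ω = 1 := by
  unfold orb
  rw [Nat.card_eq_one_iff_unique]
  refine ⟨⟨?_⟩, ⟨Quotient.mk _ (Classical.arbitrary Ω)⟩⟩
  intro a b
  induction a using Quotient.inductionOn with
  | _ x =>
    induction b using Quotient.inductionOn with
    | _ y =>
      apply Quotient.sound
      obtain ⟨g, hg⟩ := h y x
      exact ⟨g, hg⟩

end orbs

section quot

variable {G : Type u} [Group G] {X : Type v}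

/-- action of `G ⧸ ker φ` on `X` -/
@[reducible] noncomputable def kerAct (φ : G →* Equiv.Perm X) : MulAction (G ⧸ φ.ker) X :=
  MulAction.compHom X (QuotientGroup.kerLift φ)

theorem kerAct_faithful (φ : G →* Equiv.Perm X) :
    @FaithfulSMul (G ⧸ φ.ker) X (kerAct φ).toSMul := by
  letI := kerAct φ
  refine ⟨fun {q q'} h => ?_⟩
  apply QuotientGroup.kerLift_injective φ
  ext x
  exact h x

theorem quot_bound [Finite G] [Finite X] [Nonempty X] (hdeg : MainAt.{u,v} (Nat.card X))
    (φ : G →* Equiv.Perm X) (htr : ∀ x y : X, ∃ g : G, φ g x = y) :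
    3 * clS (⊤ : Subgroup (G ⧸ φ.ker)) ≤ 4 * (Nat.card X - 1) := by
  letI := kerAct φ
  haveI := kerAct_faithful φ
  have h := hdeg (G ⧸ φ.ker) X rfl
  have horb : orb (G ⧸ φ.ker) X = 1 := by
    apply orb_eq_one_of_trans
    intro x y
    obtain ⟨g, hg⟩ := htr x y
    exact ⟨(g : G ⧸ φ.ker), hg⟩
  rwa [horb] at h

theorem clS_top_le_ker_add_quot [Finite G] (K : Subgroup G) [K.Normal] :
    clS (⊤ : Subgroup G) ≤ clS K + clS (⊤ : Subgroup (G ⧸ K)) := by
  have := clS_le_ker_add_map (QuotientGroup.mk' K) (⊤ : Subgroup G)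
  rwa [QuotientGroup.ker_mk', top_inf_eq,
    Subgroup.map_top_of_surjective _ (QuotientGroup.mk'_surjective K)] at this

end quot

theorem case_intrans {G : Type u} [Group G] [Finite G] {Ω : Type v} [Finite Ω] [MulAction G Ω]
    [FaithfulSMul G Ω]
    (hdeg : ∀ n', n' < Nat.card Ω → MainAt.{u,v} n')
    (ω₀ ω₁ : Ω) (hne : ω₁ ∉ MulAction.orbit G ω₀) :
    3 * clS (⊤ : Subgroup G) ≤ 4 * (Nat.card Ω - orb G Ω) := by
  let pO : SubMulAction G Ω :=
    { carrier := MulAction.orbit G ω₀
      smul_mem' := by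
        rintro c x ⟨g, rfl⟩
        exact ⟨c * g, mul_smul c g ω₀⟩ }
  let pC : SubMulAction G Ω :=
    { carrier := (MulAction.orbit G ω₀)ᶜ
      smul_mem' := by
        intro c x hx hcx
        apply hx
        obtain ⟨g, hg⟩ := hcx
        refine ⟨c⁻¹ * g, ?_⟩
        show (c⁻¹ * g) • ω₀ = x
        rw [mul_smul]
        have : g • ω₀ = c • x := hg
        rw [this, inv_smul_smul] }
  have hω₀ : ω₀ ∈ pO := MulAction.mem_orbit_self ω₀
  haveI : Nonempty ↥pO := ⟨⟨ω₀, hω₀⟩⟩
  let φ : G →* Equiv.Perm ↥pO := MulAction.toPermHom G ↥pO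
  have htr : ∀ x y : ↥pO, ∃ g : G, φ g x = y := by
    rintro ⟨x, hx⟩ ⟨y, hy⟩
    obtain ⟨g, rfl⟩ := hx
    obtain ⟨g', rfl⟩ := hy
    refine ⟨g' * g⁻¹, ?_⟩
    apply Subtype.ext
    show (g' * g⁻¹) • (g • ω₀) = g' • ω₀
    rw [mul_smul, inv_smul_smul]
  have hcO : Nat.card ↥pO < Nat.card Ω := card_sub_lt (fun x => x ∈ pO) hne
  have hcC : Nat.card ↥pC < Nat.card Ω :=
    card_sub_lt (fun x => x ∈ pC) (x := ω₀) (fun h => h hω₀)
  have hsum : Nat.card ↥pO + Nat.card ↥pC ≤ Nat.card Ω := by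
    rw [← Nat.card_sum]
    apply Nat.card_le_card_of_injective (Sum.elim (fun x : ↥pO => x.1) (fun y : ↥pC => y.1))
    rintro (a | a) (b | b) h
    · exact congrArg Sum.inl (Subtype.ext h)
    · exfalso
      have h' : a.1 = b.1 := h
      exact b.2 (h' ▸ a.2)
    · exfalso
      have h' : a.1 = b.1 := h
      exact a.2 (h' ▸ b.2)
    · exact congrArg Sum.inr (Subtype.ext h)
  have hQ := quot_bound (hdeg _ hcO) φ htr
  set K := φ.ker with hK
  haveI hfaith : FaithfulSMul ↥K ↥pC := by
    refine ⟨fun {k k'} h => ?_⟩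
    apply Subtype.ext
    apply FaithfulSMul.eq_of_smul_eq_smul (α := Ω)
    intro ω
    by_cases hω : ω ∈ MulAction.orbit G ω₀
    · have h1 : φ k.1 ⟨ω, hω⟩ = ⟨ω, hω⟩ := by
        have : φ k.1 = 1 := k.2
        rw [this]; rfl
      have h2 : φ k'.1 ⟨ω, hω⟩ = ⟨ω, hω⟩ := by
        have : φ k'.1 = 1 := k'.2
        rw [this]; rfl
      have h1' : k.1 • ω = ω := congrArg Subtype.val h1
      have h2' : k'.1 • ω = ω := congrArg Subtype.val h2
      exact h1'.trans h2'.symm
    · have := h ⟨ω, hω⟩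
      exact congrArg Subtype.val this
  have hKb := hdeg _ hcC ↥K ↥pC rfl
  have h1 := clS_top_le_ker_add_quot K
  have h2 := clS_le_top_subtype K
  have horb : orb G Ω ≤ 1 + orb ↥K ↥pC := by
    unfold orb
    have hu : Nat.card Unit = 1 := Nat.card_unique
    rw [← hu, ← Nat.card_sum]
    let f : Unit ⊕ Quotient (MulAction.orbitRel ↥K ↥pC) → Quotient (MulAction.orbitRel G Ω) :=
      Sum.elim (fun _ => Quotient.mk _ ω₀)
        (Quotient.map' (fun y : ↥pC => y.1) (by
          rintro a b ⟨k, hk⟩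
          refine ⟨k.1, ?_⟩
          have : k • b = a := hk
          exact congrArg Subtype.val this))
    apply Nat.card_le_card_of_surjective f
    intro q
    induction q using Quotient.inductionOn with
    | _ ω =>
      by_cases hω : ω ∈ MulAction.orbit G ω₀
      · refine ⟨Sum.inl (), ?_⟩
        show Quotient.mk _ ω₀ = Quotient.mk _ ω
        apply Quotient.sound
        obtain ⟨g, hg⟩ := hω
        refine ⟨g⁻¹, ?_⟩
        show g⁻¹ • ω = ω₀
        rw [← hg]; exact inv_smul_smul g ω₀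
      · exact ⟨Sum.inr (Quotient.mk _ ⟨ω, hω⟩), rfl⟩
  have hrK : orb ↥K ↥pC ≤ Nat.card ↥pC := orb_le_card
  have hpos : 1 ≤ Nat.card ↥pO := Nat.card_pos
  omega

theorem case_imprim {G : Type u} [Group G] [Finite G] {Ω : Type v} [Finite Ω] [MulAction G Ω]
    [FaithfulSMul G Ω]
    (hdeg : ∀ n', n' < Nat.card Ω → MainAt.{u,v} n')
    (hord : ∀ (K : Type u) [Group K] [Finite K] (Ω' : Type v) [Finite Ω'] [MulAction K Ω']
      [FaithfulSMul K Ω'], Nat.card Ω' = Nat.card Ω → Nat.card K < Nat.card G →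
      3 * clS (⊤ : Subgroup K) ≤ 4 * (Nat.card Ω - orb K Ω'))
    (htr : ∀ x y : Ω, ∃ g : G, g • x = y)
    (s : Setoid Ω) (hinv : ∀ (g : G) (x y : Ω), s x y → s (g • x) (g • y))
    (x₀ y₀ : Ω) (hxy : x₀ ≠ y₀) (hs1 : s x₀ y₀) (x₁ y₁ : Ω) (hs2 : ¬ s x₁ y₁) :
    3 * clS (⊤ : Subgroup G) ≤ 4 * (Nat.card Ω - orb G Ω) := by
  letI act : MulAction G (Quotient s) :=
    { smul := fun g q => Quotient.map' (fun x => g • x) (fun a b h => hinv g a b h) q
      one_smul := by
        intro q
        induction q using Quotient.inductionOn with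
        | _ x =>
          show Quotient.mk s ((1:G) • x) = Quotient.mk s x
          rw [one_smul]
      mul_smul := by
        intro g h q
        induction q using Quotient.inductionOn with
        | _ x =>
          show Quotient.mk s ((g*h) • x) = Quotient.mk s (g • (h • x))
          rw [mul_smul] }
  have hact : ∀ (g : G) (x : Ω), g • (Quotient.mk s x) = Quotient.mk s (g • x) := fun _ _ => rfl
  haveI : Nonempty Ω := ⟨x₀⟩
  haveI : Nonempty (Quotient s) := ⟨Quotient.mk s x₀⟩
  let φ : G →* Equiv.Perm (Quotient s) := MulAction.toPermHom G (Quotient s)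
  have hφ : ∀ (g : G) (x : Ω), φ g (Quotient.mk s x) = Quotient.mk s (g • x) := fun _ _ => rfl
  have htrX : ∀ q q' : Quotient s, ∃ g : G, φ g q = q' := by
    intro q q'
    induction q using Quotient.inductionOn with
    | _ x =>
      induction q' using Quotient.inductionOn with
      | _ y =>
        obtain ⟨g, hg⟩ := htr x y
        exact ⟨g, by rw [hφ, hg]⟩
  have hcX : Nat.card (Quotient s) < Nat.card Ω := by
    have hinj : Function.Injective (Quotient.out : Quotient s → Ω) := Quotient.out_injective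
    by_cases hx : x₀ ∈ Set.range (Quotient.out : Quotient s → Ω)
    · apply card_lt_of_inj_notMem _ hinj y₀
      rintro ⟨q, hq⟩
      obtain ⟨q', hq'⟩ := hx
      have e1 : q' = Quotient.mk s x₀ := by rw [← hq']; exact (Quotient.out_eq q').symm
      have e2 : q = Quotient.mk s y₀ := by rw [← hq]; exact (Quotient.out_eq q).symm
      have e3 : Quotient.mk s x₀ = Quotient.mk s y₀ := Quotient.sound hs1
      apply hxy
      rw [← hq', ← hq, e1, e2, e3]
    · exact card_lt_of_inj_notMem _ hinj x₀ hx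
  have hQ := quot_bound (hdeg _ hcX) φ htrX
  set K := φ.ker with hK
  obtain ⟨g₁, hg₁⟩ := htr x₁ y₁
  have hg₁K : g₁ ∉ K := by
    intro h
    have h1 : φ g₁ = 1 := h
    have h2 : φ g₁ (Quotient.mk s x₁) = Quotient.mk s x₁ := by rw [h1]; rfl
    rw [hφ, hg₁] at h2
    exact hs2 (Setoid.symm (Quotient.exact h2))
  have hcK : Nat.card ↥K < Nat.card G := card_sub_lt (fun x => x ∈ K) hg₁K
  have hKb := hord ↥K Ω rfl hcK
  have h1 := clS_top_le_ker_add_quot K
  have h2 := clS_le_top_subtype K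
  have horbK : Nat.card (Quotient s) ≤ orb ↥K Ω := by
    unfold orb
    let f : Quotient (MulAction.orbitRel ↥K Ω) → Quotient s :=
      Quotient.map' id (by
        rintro a b ⟨k, hk⟩
        have hk' : k.1 • b = a := hk
        have h1 : φ k.1 = 1 := k.2
        have h2 : φ k.1 (Quotient.mk s b) = Quotient.mk s b := by rw [h1]; rfl
        rw [hφ, hk'] at h2
        exact Quotient.exact h2)
    apply Nat.card_le_card_of_surjective f
    intro q
    induction q using Quotient.inductionOn with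
    | _ x => exact ⟨Quotient.mk _ x, rfl⟩
  have horbG : orb G Ω = 1 := orb_eq_one_of_trans htr
  have hrK : orb ↥K Ω ≤ Nat.card Ω := orb_le_card
  have hpos : 1 ≤ Nat.card (Quotient s) := Nat.card_pos
  omega

end Cfsg.Agent.H9CL
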