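import Mathlib
import Cfsg.Agent.Lib.Helper9.CL3

set_option autoImplicit false

namespace Cfsg.Agent.H9CL

open Classical

variable {T : Type*} [Group T]

theorem ker_eval_le_centralizer (k : ℕ) (j : Fin k) :
    (Pi.evalMonoidHom (fun _ : Fin k => T) j).ker ≤
      Subgroup.centralizer (coordSub k T j : Set (Fin k → T)) := by
  intro z hz
  rw [MonoidHom.mem_ker] at hz
  have hz' : z j = 1 := hz
  rw [Subgroup.mem_centralizer_iff]
  intro c hc
  funext i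
  show c i * z i = z i * c i
  by_cases hi : i = j
  · subst hi; rw [hz', mul_one, one_mul]
  · rw [mem_coordSub.mp hc i hi, one_mul, mul_one]

theorem centralizer_le_ker_eval [IsSimpleGroup T] (hT : ¬ IsMulCommutative T) (k : ℕ)
    (j : Fin k) :
    Subgroup.centralizer (coordSub k T j : Set (Fin k → T)) ≤
      (Pi.evalMonoidHom (fun _ : Fin k => T) j).ker := by
  intro z hz
  rw [MonoidHom.mem_ker]
  show z j = 1
  have hcen : z j ∈ Subgroup.center T := by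
    rw [Subgroup.mem_center_iff]
    intro t
    have h1 := (Subgroup.mem_centralizer_iff.mp hz) (Pi.mulSingle j t)
      (mulSingle_mem_coordSub j t)
    have h2 := congrFun h1 j
    simpa using h2
  rw [Cfsg.Agent.S5913.center_eq_bot_of_simple hT, Subgroup.mem_bot] at hcen
  exact hcen

theorem map_eval_top_of_equiv [IsSimpleGroup T] (hT : ¬ IsMulCommutative T) (k : ℕ)
    (ψ : (Fin k → T) ≃* (Fin k → T)) (D : Subgroup (Fin k → T)) (hψD : ∀ d ∈ D, ψ d ∈ D)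
    (j j' : Fin k) (hjj' : (coordSub k T j).map ψ.toMonoidHom = coordSub k T j')
    (hR : D.map (Pi.evalMonoidHom (fun _ : Fin k => T) j) = ⊤) :
    D.map (Pi.evalMonoidHom (fun _ : Fin k => T) j') = ⊤ := by
  rw [eq_top_iff]
  intro t' _
  have hc' : Pi.mulSingle j' t' ∈ (coordSub k T j).map ψ.toMonoidHom := by
    rw [hjj']; exact mulSingle_mem_coordSub j' t'
  obtain ⟨c, hc, hcc'⟩ := hc'
  have ht : c j ∈ D.map (Pi.evalMonoidHom (fun _ : Fin k => T) j) := by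
    rw [hR]; trivial
  obtain ⟨d, hd, hdj⟩ := ht
  have hdj' : d j = c j := hdj
  have hz : c⁻¹ * d ∈ (Pi.evalMonoidHom (fun _ : Fin k => T) j).ker := by
    rw [MonoidHom.mem_ker]
    show (c j)⁻¹ * d j = 1
    rw [hdj']; exact inv_mul_cancel _
  have hz2 := ker_eval_le_centralizer k j hz
  have hz3 : ψ (c⁻¹ * d) ∈ Subgroup.centralizer (coordSub k T j' : Set (Fin k → T)) := by
    rw [Subgroup.mem_centralizer_iff]
    intro c2 hc2
    rw [← hjj'] at hc2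
    obtain ⟨c1, hc1, rfl⟩ := hc2
    have := (Subgroup.mem_centralizer_iff.mp hz2) c1 hc1
    show ψ c1 * ψ (c⁻¹ * d) = ψ (c⁻¹ * d) * ψ c1
    rw [← map_mul, ← map_mul, this]
  have hz4 := centralizer_le_ker_eval hT k j' hz3
  rw [MonoidHom.mem_ker] at hz4
  have h1 : (ψ (c⁻¹ * d)) j' = 1 := hz4
  have h2 : ψ c = Pi.mulSingle j' t' := hcc'
  refine ⟨ψ d, hψD d hd, ?_⟩
  have h3 : ψ d = ψ c * ψ (c⁻¹ * d) := by rw [← map_mul, mul_inv_cancel_left]
  show (ψ d) j' = t'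
  rw [h3]
  show (ψ c) j' * (ψ (c⁻¹ * d)) j' = t'
  rw [h1, mul_one, h2, Pi.mulSingle_eq_same]

theorem inf_coord_ne_bot_of_equiv (k : ℕ)
    (ψ : (Fin k → T) ≃* (Fin k → T)) (D : Subgroup (Fin k → T)) (hψD : ∀ d ∈ D, ψ d ∈ D)
    (j j' : Fin k) (hjj' : (coordSub k T j).map ψ.toMonoidHom = coordSub k T j')
    (h : D ⊓ coordSub k T j ≠ ⊥) : D ⊓ coordSub k T j' ≠ ⊥ := by
  intro hbot
  apply h
  rw [eq_bot_iff]
  intro d hd
  rw [Subgroup.mem_bot]
  have h1 : ψ d ∈ D ⊓ coordSub k T j' :=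
    ⟨hψD d hd.1, by rw [← hjj']; exact ⟨d, hd.2, rfl⟩⟩
  rw [hbot, Subgroup.mem_bot] at h1
  exact ψ.injective (h1.trans (map_one ψ).symm)

theorem eq_id_of_coord [IsSimpleGroup T] (hT : ¬ IsMulCommutative T) (k : ℕ)
    (ψ : (Fin k → T) ≃* (Fin k → T)) (D : Subgroup (Fin k → T))
    (hD0 : ∀ j, D ⊓ coordSub k T j = ⊥)
    (hσ : ∀ j, ∃ j', (coordSub k T j).map ψ.toMonoidHom = coordSub k T j')
    (ha : ∀ j, ∀ c ∈ coordSub k T j, c⁻¹ * ψ c ∈ D) : ∀ y, ψ y = y := by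
  have hfix : ∀ j, ∀ c ∈ coordSub k T j, ψ c = c := by
    intro j c hc
    obtain ⟨j', hj'⟩ := hσ j
    have hψc : ∀ c ∈ coordSub k T j, ψ c ∈ coordSub k T j' := by
      intro c hc; rw [← hj']; exact ⟨c, hc, rfl⟩
    by_cases hjj : j' = j
    · rw [hjj] at hψc
      have h1 : c⁻¹ * ψ c ∈ D ⊓ coordSub k T j :=
        ⟨ha _ c hc, (coordSub k T j).mul_mem ((coordSub k T j).inv_mem hc) (hψc c hc)⟩
      rw [hD0, Subgroup.mem_bot] at h1
      exact (inv_mul_eq_one.mp h1).symm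
    · exfalso
      apply hT
      have hcc : ∀ a ∈ coordSub k T j, ∀ b ∈ coordSub k T j', a * b = b * a := by
        intro a ha' b hb
        funext i
        show a i * b i = b i * a i
        by_cases hi : i = j
        · have : b i = 1 := mem_coordSub.mp hb i (by rw [hi]; exact fun h => hjj h.symm)
          rw [this, mul_one, one_mul]
        · rw [mem_coordSub.mp ha' i hi, one_mul, mul_one]
      have hcomm : ∀ c ∈ coordSub k T j, ∀ c₂ ∈ coordSub k T j, c * c₂ = c₂ * c := by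
        intro c hc c₂ hc₂
        have h1 : (c₂ * c)⁻¹ * ψ (c₂ * c) ∈ D := ha j _ ((coordSub k T j).mul_mem hc₂ hc)
        have h2 : c⁻¹ * ψ c ∈ D := ha j c hc
        have h3 : c₂⁻¹ * ψ c₂ ∈ D := ha j c₂ hc₂
        have h4 : ((c₂ * c)⁻¹ * ψ (c₂ * c))⁻¹ * ((c⁻¹ * ψ c) * (c₂⁻¹ * ψ c₂)) ∈ D :=
          D.mul_mem (D.inv_mem h1) (D.mul_mem h2 h3)
        have e1 : ψ c * c₂⁻¹ = c₂⁻¹ * ψ c :=
          (hcc c₂⁻¹ ((coordSub k T j).inv_mem hc₂) (ψ c) (hψc c hc)).symm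
        have h5 : ((c₂ * c)⁻¹ * ψ (c₂ * c))⁻¹ * ((c⁻¹ * ψ c) * (c₂⁻¹ * ψ c₂))
            = ψ ((c₂ * c)⁻¹ * (c * c₂)) := by
          simp only [map_mul, map_inv]
          calc ((c₂ * c)⁻¹ * (ψ c₂ * ψ c))⁻¹ * (c⁻¹ * ψ c * (c₂⁻¹ * ψ c₂))
              = (ψ c₂ * ψ c)⁻¹ * (c₂ * c) * c⁻¹ * (ψ c * c₂⁻¹) * ψ c₂ := by group
            _ = (ψ c₂ * ψ c)⁻¹ * (c₂ * c) * c⁻¹ * (c₂⁻¹ * ψ c) * ψ c₂ := by rw [e1]
            _ = (ψ c₂ * ψ c)⁻¹ * (ψ c * ψ c₂) := by group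
        rw [h5] at h4
        have h6 : ψ ((c₂ * c)⁻¹ * (c * c₂)) ∈ D ⊓ coordSub k T j' := by
          refine ⟨h4, hψc _ ?_⟩
          exact (coordSub k T j).mul_mem ((coordSub k T j).inv_mem
            ((coordSub k T j).mul_mem hc₂ hc)) ((coordSub k T j).mul_mem hc hc₂)
        rw [hD0, Subgroup.mem_bot] at h6
        have h7 := ψ.injective (h6.trans (map_one ψ).symm)
        exact (inv_mul_eq_one.mp h7).symm
      refine ⟨⟨fun a b => ?_⟩⟩
      have := hcomm _ (mulSingle_mem_coordSub j a) _ (mulSingle_mem_coordSub j b)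
      have h8 := congrFun this j
      simpa using h8
  intro y
  let E : Subgroup (Fin k → T) := MonoidHom.eqLocus ψ.toMonoidHom (MonoidHom.id _)
  have hyE : y ∈ E := by
    rw [← Finset.noncommProd_mulSingle y]
    apply Subgroup.noncommProd_mem
    intro i _
    exact hfix i _ (mulSingle_mem_coordSub i (y i))
  exact hyE

end Cfsg.Agent.H9CL
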