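import Mathlib
import Cfsg.Agent.Lib.Helper9.CL4

set_option autoImplicit false

namespace Cfsg.Agent.H9CL

open Classical

universe u v

section setup

variable {G : Type u} [Group G] (N : Subgroup G) [hN : N.Normal]
  {T : Type u} [Group T] (k : ℕ) (e : ↥N ≃* (Fin k → T))

/-- embedding of the product into `G` -/
def iotaHom : (Fin k → T) →* G := N.subtype.comp e.symm.toMonoidHom

theorem iotaHom_apply (y : Fin k → T) : iotaHom N k e y = ((e.symm y : ↥N) : G) := rfl

theorem iotaHom_injective : Function.Injective (iotaHom N k e) :=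
  N.subtype_injective.comp e.symm.injective

theorem iotaHom_mem (y : Fin k → T) : iotaHom N k e y ∈ N := (e.symm y).2

theorem iotaHom_surj {n : G} (hn : n ∈ N) : ∃ y, iotaHom N k e y = n :=
  ⟨e ⟨n, hn⟩, by rw [iotaHom_apply, e.symm_apply_apply]⟩

/-- conjugation by `g` transported to the product -/
noncomputable def psiEquiv (g : G) : (Fin k → T) ≃* (Fin k → T) :=
  e.symm.trans ((MulAut.conjNormal g : MulAut N).trans e)

theorem iota_psi (g : G) (y : Fin k → T) :
    iotaHom N k e (psiEquiv N k e g y) = g * iotaHom N k e y * g⁻¹ := by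
  rw [iotaHom_apply, iotaHom_apply]
  show ((e.symm (e ((MulAut.conjNormal g : MulAut N) (e.symm y))) : ↥N) : G) = _
  rw [e.symm_apply_apply, MulAut.conjNormal_apply]

variable {Ω : Type v} [MulAction G Ω] (α : Ω)

/-- the point stabilizer of the socle, in coordinates -/
def stabP : Subgroup (Fin k → T) := (MulAction.stabilizer G α).comap (iotaHom N k e)

theorem mem_stabP {y : Fin k → T} : y ∈ stabP N k e α ↔ iotaHom N k e y • α = α := Iff.rfl

theorem psi_mem_stabP {h : G} (hh : h ∈ MulAction.stabilizer G α) {d : Fin k → T}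
    (hd : d ∈ stabP N k e α) : psiEquiv N k e h d ∈ stabP N k e α := by
  rw [mem_stabP, iota_psi]
  have h1 : h • α = α := hh
  have h2 : h⁻¹ • α = α := by
    have := congrArg (fun x => h⁻¹ • x) h1
    simpa using this.symm
  rw [mul_smul, mul_smul, h2, (mem_stabP N k e α).mp hd, h1]

theorem card_stabP_mul [Finite T] [Finite Ω] (hNtr : ∀ ω : Ω, ∃ n ∈ N, n • α = ω) :
    Nat.card (stabP N k e α) * Nat.card Ω = Nat.card T ^ k := by
  let _inst : MulAction (Fin k → T) Ω := MulAction.compHom Ω (iotaHom N k e)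
  have hstab : MulAction.stabilizer (Fin k → T) α = stabP N k e α := by
    ext y; rfl
  have horb : MulAction.orbit (Fin k → T) α = Set.univ := by
    rw [Set.eq_univ_iff_forall]
    intro ω
    obtain ⟨n, hn, hnω⟩ := hNtr ω
    obtain ⟨y, hy⟩ := iotaHom_surj N k e hn
    refine ⟨y, ?_⟩
    show iotaHom N k e y • α = ω
    rw [hy, hnω]
  have h1 := Subgroup.card_mul_index (MulAction.stabilizer (Fin k → T) α)
  rw [MulAction.index_stabilizer, horb, Set.ncard_univ, hstab, Nat.card_fun,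
    Nat.card_eq_fintype_card (α := Fin k), Fintype.card_fin] at h1
  exact h1

theorem all_or_none [Finite G] [IsSimpleGroup T] (hT : ¬ IsMulCommutative T)
    (hmin : ∀ M : Subgroup G, M.Normal → M ≠ ⊥ → M ≤ N → M = N)
    (hNtr : ∀ ω : Ω, ∃ n ∈ N, n • α = ω)
    (J : Set (Fin k))
    (hJ : ∀ h ∈ MulAction.stabilizer G α, ∀ j ∈ J, ∀ j',
      (coordSub k T j).map (psiEquiv N k e h).toMonoidHom = coordSub k T j' → j' ∈ J) :
    J = ∅ ∨ J = Set.univ := by
  by_contra hcon
  push Not at hcon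
  obtain ⟨hJ1, hJ2⟩ := hcon
  obtain ⟨j₁, hj₁⟩ := hJ1
  obtain ⟨j₂, hj₂⟩ : ∃ j₂, j₂ ∉ J := by
    by_contra h
    push Not at h
    exact hJ2 (Set.eq_univ_iff_forall.mpr h)
  obtain ⟨t, ht⟩ := exists_ne (1 : T)
  let M : Subgroup G := ⨆ j : ↥J, (coordSub k T j.1).map (iotaHom N k e)
  have hMN : M ≤ N := by
    apply iSup_le
    rintro j _ ⟨y, _, rfl⟩
    exact iotaHom_mem N k e y
  have hM1 : M ≠ ⊥ := by
    intro h
    have hmem : iotaHom N k e (Pi.mulSingle j₁ t) ∈ M :=
      (le_iSup (fun j : ↥J => (coordSub k T j.1).map (iotaHom N k e)) ⟨j₁, hj₁⟩)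
        ⟨_, mulSingle_mem_coordSub j₁ t, rfl⟩
    rw [h, Subgroup.mem_bot] at hmem
    have h2 := iotaHom_injective N k e (hmem.trans (map_one _).symm)
    have h3 := congrFun h2 j₁
    rw [Pi.mulSingle_eq_same] at h3
    exact ht h3
  have hMneN : M ≠ N := by
    intro h
    have hZ : M ≤ ((Pi.evalMonoidHom (fun _ : Fin k => T) j₂).ker).map (iotaHom N k e) := by
      apply iSup_le
      rintro ⟨j, hj⟩ _ ⟨y, hy, rfl⟩
      refine ⟨y, ?_, rfl⟩
      show y j₂ = 1
      apply mem_coordSub.mp hy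
      rintro rfl
      exact hj₂ hj
    have hmem : iotaHom N k e (Pi.mulSingle j₂ t) ∈ M := by
      rw [h]; exact iotaHom_mem N k e _
    obtain ⟨z, hz, hzy⟩ := hZ hmem
    have h2 := iotaHom_injective N k e hzy
    have h3 : z j₂ = 1 := hz
    rw [h2, Pi.mulSingle_eq_same] at h3
    exact ht h3
  have hconj : ∀ g : G, M.map (MulAut.conj g).toMonoidHom ≤ M := by
    intro g
    rw [Subgroup.map_iSup]
    apply iSup_le
    rintro ⟨j, hj⟩ _ ⟨_, ⟨c, hc, rfl⟩, rfl⟩
    obtain ⟨n, hn, hnα⟩ := hNtr (g • α)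
    have hh : n⁻¹ * g ∈ MulAction.stabilizer G α := by
      rw [MulAction.mem_stabilizer_iff, mul_smul, ← hnα, inv_smul_smul]
    obtain ⟨j', hj'⟩ := exists_coord_of_mulEquiv hT k (psiEquiv N k e (n⁻¹ * g)) j
    have hj'J := hJ _ hh j hj j' hj'
    obtain ⟨y, hy⟩ := iotaHom_surj N k e hn
    have hc' : psiEquiv N k e (n⁻¹ * g) c ∈ coordSub k T j' := by
      rw [← hj']; exact ⟨c, hc, rfl⟩
    have hc'' : y * psiEquiv N k e (n⁻¹ * g) c * y⁻¹ ∈ coordSub k T j' :=
      (coordSub_normal k j').conj_mem _ hc' y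
    have hval : (MulAut.conj g).toMonoidHom (iotaHom N k e c)
        = iotaHom N k e (y * psiEquiv N k e (n⁻¹ * g) c * y⁻¹) := by
      rw [map_mul, map_mul, map_inv, iota_psi, hy]
      show g * iotaHom N k e c * g⁻¹ = _
      group
    rw [hval]
    exact (le_iSup (fun j : ↥J => (coordSub k T j.1).map (iotaHom N k e)) ⟨j', hj'J⟩)
      ⟨_, hc'', rfl⟩
  have hMn : M.Normal := by
    refine ⟨fun x hx g => ?_⟩
    exact hconj g ⟨x, hx, rfl⟩
  exact hMneN (hmin M hMn hM1 hMN)

theorem eq_one_of_fix_coord [Finite G] [FaithfulSMul G Ω] [IsSimpleGroup T]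
    (hT : ¬ IsMulCommutative T)
    (hNtr : ∀ ω : Ω, ∃ n ∈ N, n • α = ω)
    (hD0 : ∀ j, stabP N k e α ⊓ coordSub k T j = ⊥)
    (h : G) (hh : h ∈ MulAction.stabilizer G α)
    (hfix : ∀ j, ∀ c ∈ coordSub k T j, h • (iotaHom N k e c • α) = iotaHom N k e c • α) :
    h = 1 := by
  have h1 : h • α = α := hh
  have h2 : h⁻¹ • α = α := by
    have := congrArg (fun x => h⁻¹ • x) h1
    simpa using this.symm
  have ha : ∀ j, ∀ c ∈ coordSub k T j, c⁻¹ * psiEquiv N k e h c ∈ stabP N k e α := by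
    intro j c hc
    rw [mem_stabP, map_mul, map_inv, iota_psi, mul_smul, mul_smul, mul_smul, h2, hfix j c hc,
      inv_smul_smul]
  have hid := eq_id_of_coord hT k (psiEquiv N k e h) (stabP N k e α) hD0
    (fun j => exists_coord_of_mulEquiv hT k _ j) ha
  have hcomm : ∀ n ∈ N, h * n = n * h := by
    intro n hn
    obtain ⟨y, rfl⟩ := iotaHom_surj N k e hn
    have := iota_psi N k e h y
    rw [hid y] at this
    calc h * iotaHom N k e y = (h * iotaHom N k e y * h⁻¹) * h := by group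
      _ = iotaHom N k e y * h := by rw [← this]
  apply FaithfulSMul.eq_of_smul_eq_smul (α := Ω)
  intro ω
  obtain ⟨n, hn, rfl⟩ := hNtr ω
  rw [← mul_smul, hcomm n hn, mul_smul, h1, one_smul]

end setup

end Cfsg.Agent.H9CL
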