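import Mathlib
import Cfsg.Agent.Lib.Helper9.CL5

set_option autoImplicit false

namespace Cfsg.Agent.H9CL

open Classical

universe u v

theorem sub_bound {G : Type u} [Group G] [Finite G] {Ω : Type v} [Finite Ω] [MulAction G Ω]
    (hdeg : ∀ n', n' < Nat.card Ω → MainAt.{u,v} n')
    (K : Subgroup G) (Y : Set Ω) (hY : ∀ k ∈ K, ∀ y ∈ Y, k • y ∈ Y) (hYne : Y.Nonempty)
    (ω : Ω) (hω : ω ∉ Y)
    (hfaith : ∀ k ∈ K, (∀ y ∈ Y, k • y = y) → k = 1) :
    3 * clS K + 4 ≤ 4 * Nat.card ↥Y := by
  let p : SubMulAction ↥K Ω :=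
    { carrier := Y
      smul_mem' := fun c x hx => hY c.1 c.2 x hx }
  haveI : FaithfulSMul ↥K ↥p := by
    refine ⟨fun {a b} h => ?_⟩
    have h1 : (b⁻¹ * a : ↥K) = 1 := by
      apply Subtype.ext
      apply hfaith _ (b⁻¹ * a).2
      intro y hy
      have h0 := h ⟨y, hy⟩
      have h2 : a.1 • y = b.1 • y := congrArg Subtype.val h0
      show ((b⁻¹ * a : ↥K) : G) • y = y
      rw [Subgroup.coe_mul, Subgroup.coe_inv, mul_smul, h2, inv_smul_smul]
    exact (inv_mul_eq_one.mp h1).symm
  have hc : Nat.card ↥p < Nat.card Ω := card_sub_lt (fun x => x ∈ Y) hω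
  have h := hdeg _ hc ↥K ↥p rfl
  haveI : Nonempty ↥p := ⟨⟨hYne.some, hYne.some_mem⟩⟩
  have h1 : 1 ≤ orb ↥K ↥p := one_le_orb
  have h2 : orb ↥K ↥p ≤ Nat.card ↥p := orb_le_card
  have h3 := clS_le_top_subtype K
  have h4 : Nat.card ↥p = Nat.card ↥Y := rfl
  omega

theorem four_le_card_of_noncomm {T : Type*} [Group T] [Finite T] (hT : ¬ IsMulCommutative T) :
    4 ≤ Nat.card T := by
  by_contra hlt
  push Not at hlt
  apply hT
  have hpos : 0 < Nat.card T := Nat.card_pos
  have hcases : Nat.card T = 1 ∨ Nat.card T = 2 ∨ Nat.card T = 3 := by omega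
  rcases hcases with h | h | h
  · haveI : Subsingleton T := (Nat.card_eq_one_iff_unique.mp h).1
    exact ⟨⟨fun a b => Subsingleton.elim _ _⟩⟩
  · haveI : Fact (Nat.Prime 2) := ⟨Nat.prime_two⟩
    haveI := isCyclic_of_prime_card h
    exact ⟨⟨fun a b => (IsCyclic.commGroup (α := T)).mul_comm a b⟩⟩
  · haveI : Fact (Nat.Prime 3) := ⟨Nat.prime_three⟩
    haveI := isCyclic_of_prime_card h
    exact ⟨⟨fun a b => (IsCyclic.commGroup (α := T)).mul_comm a b⟩⟩

theorem le_two_pow_sub_two : ∀ k, 4 ≤ k → k ≤ 2 ^ (k - 2) := by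
  intro k hk
  induction k, hk using Nat.le_induction with
  | base => norm_num
  | succ k hk ih =>
    have : k + 1 - 2 = (k - 2) + 1 := by omega
    rw [this, pow_succ]; omega

theorem k_mul_le_pow (k q : ℕ) (hk : 3 ≤ k) (hq : 4 ≤ q) : k * q ≤ q ^ (k - k / 2) := by
  have hm : k - k/2 = (k - k/2 - 1) + 1 := by omega
  rw [hm, pow_succ]
  apply Nat.mul_le_mul_right
  have h1 : 4 ^ (k - k/2 - 1) ≤ q ^ (k - k/2 - 1) := Nat.pow_le_pow_left hq _
  have h2 : k ≤ 4 ^ (k - k/2 - 1) := by
    rcases Nat.lt_or_ge k 4 with h | h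
    · have : k = 3 := by omega
      subst this; norm_num
    · have h3 := le_two_pow_sub_two k h
      have h4 : (4:ℕ) ^ (k - k/2 - 1) = 2 ^ (2 * (k - k/2 - 1)) := by
        rw [pow_mul]; norm_num
      rw [h4]
      exact h3.trans (Nat.pow_le_pow_right (by norm_num) (by omega))
  exact h2.trans h1

theorem case_prim_nonabelian {G : Type u} [Group G] [Finite G] {Ω : Type v} [Finite Ω]
    [MulAction G Ω] [FaithfulSMul G Ω]
    (hdeg : ∀ n', n' < Nat.card Ω → MainAt.{u,v} n')
    (α : Ω) (hn2 : 2 ≤ Nat.card Ω)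
    (N : Subgroup G) [hN : N.Normal]
    (hmin : ∀ M : Subgroup G, M.Normal → M ≠ ⊥ → M ≤ N → M = N)
    (hNtr : ∀ ω : Ω, ∃ n ∈ N, n • α = ω)
    {T : Type u} [Group T] [Finite T] [IsSimpleGroup T] (hT : ¬ IsMulCommutative T)
    (k : ℕ) (hk : 1 ≤ k) (e : ↥N ≃* (Fin k → T)) :
    3 * clS (⊤ : Subgroup G) ≤ 4 * (Nat.card Ω - 1) := by
  set S := MulAction.stabilizer G α with hS
  set D := stabP N k e α with hD
  set ι := iotaHom N k e with hι
  have hιinj : Function.Injective ι := iotaHom_injective N k e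
  -- base inequality
  have hbase : clS (⊤ : Subgroup G) + clS D ≤ k + clS S := by
    have h1 := clS_top_le_ker_add_quot N
    have hrange : (⊤ : Subgroup (Fin k → T)).map ι = N := by
      apply le_antisymm
      · rintro _ ⟨y, _, rfl⟩; exact iotaHom_mem N k e y
      · intro n hn
        obtain ⟨y, hy⟩ := iotaHom_surj N k e hn
        exact ⟨y, trivial, hy⟩
    have h2 : clS N ≤ k := by
      have := clS_map_le ι (⊤ : Subgroup (Fin k → T))
      rw [hrange] at this
      exact this.trans (clS_pi_top_le k)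
    have h3 := clS_ker_add_map_le (QuotientGroup.mk' N) S
    rw [QuotientGroup.ker_mk'] at h3
    have hSmap : S.map (QuotientGroup.mk' N) = ⊤ := by
      rw [eq_top_iff]
      intro q _
      obtain ⟨g, rfl⟩ := QuotientGroup.mk'_surjective N q
      obtain ⟨n, hn, hnα⟩ := hNtr (g • α)
      refine ⟨n⁻¹ * g, ?_, ?_⟩
      · show (n⁻¹ * g) • α = α
        rw [mul_smul, ← hnα, inv_smul_smul]
      · rw [map_mul, map_inv]
        have : (QuotientGroup.mk' N) n = 1 := by
          rw [← MonoidHom.mem_ker, QuotientGroup.ker_mk']; exact hn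
        rw [this, inv_one, one_mul]
    rw [hSmap] at h3
    have h4 : clS D ≤ clS (S ⊓ N) := by
      have h5 := clS_le_map_of_injective ι hιinj D
      have h6 : D.map ι = S ⊓ N := by
        rw [hD, stabP, Subgroup.map_comap_eq, inf_comm]
        congr 1
        rw [MonoidHom.range_eq_map]; exact hrange
      rwa [h6] at h5
    omega
  -- generic bound on the stabilizer
  have hαS : ∀ h ∈ S, h • α = α := fun h hh => hh
  have hSgen : 3 * clS S + 4 ≤ 4 * (Nat.card Ω - 1) := by
    have hne : ({ω : Ω | ω ≠ α} : Set Ω).Nonempty := by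
      by_contra hcon
      rw [Set.not_nonempty_iff_eq_empty] at hcon
      have hsub : Subsingleton Ω := by
        refine ⟨fun a b => ?_⟩
        have ha : a = α := by
          by_contra h; have : a ∈ ({ω : Ω | ω ≠ α} : Set Ω) := h; rw [hcon] at this; exact this
        have hb : b = α := by
          by_contra h; have : b ∈ ({ω : Ω | ω ≠ α} : Set Ω) := h; rw [hcon] at this; exact this
        rw [ha, hb]
      have := Finite.card_le_one_iff_subsingleton.mpr hsub
      omega
    have hb := sub_bound hdeg S {ω : Ω | ω ≠ α}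
      (by
        intro h hh y hy hcon
        apply hy
        have : h⁻¹ • (h • y) = h⁻¹ • α := congrArg _ hcon
        rw [inv_smul_smul] at this
        rw [this]
        have h1 : h • α = α := hh
        have := congrArg (fun x => h⁻¹ • x) h1
        simpa using this.symm)
      hne α (fun h => h rfl)
      (by
        intro h hh hfix
        apply FaithfulSMul.eq_of_smul_eq_smul (α := Ω)
        intro ω
        rw [one_smul]
        by_cases hω : ω = α
        · rw [hω]; exact hh
        · exact hfix ω hω)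
    have hcard : Nat.card ↥({ω : Ω | ω ≠ α} : Set Ω) ≤ Nat.card Ω - 1 := by
      have := card_sub_lt (fun ω : Ω => ω ≠ α) (x := α) (fun h => h rfl)
      exact Nat.le_sub_one_of_lt this
    omega
  -- invariance of coordinates under the stabilizer
  have hJA := all_or_none N k e α hT hmin hNtr {j | D ⊓ coordSub k T j ≠ ⊥}
    (by
      intro h hh j hj j' hjj'
      exact inf_coord_ne_bot_of_equiv k (psiEquiv N k e h) D
        (fun d hd => psi_mem_stabP N k e α hh hd) j j' hjj' hj)
  rcases hJA with hJA | hJA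
  · -- case B
    have hD0 : ∀ j, D ⊓ coordSub k T j = ⊥ := by
      intro j
      by_contra hcon
      have : j ∈ ({j | D ⊓ coordSub k T j ≠ ⊥} : Set (Fin k)) := hcon
      rw [hJA] at this
      exact this
    set q := Nat.card T with hq
    have hq4 : 4 ≤ q := four_le_card_of_noncomm hT
    obtain ⟨t₀, ht₀⟩ := exists_ne (1 : T)
    let Ω₁ : Set Ω := {ω | ∃ j : Fin k, ∃ t : T, t ≠ 1 ∧ ι (Pi.mulSingle j t) • α = ω}
    have hαΩ₁ : α ∉ Ω₁ := by
      rintro ⟨j, t, ht, hfix⟩
      have hmem : Pi.mulSingle j t ∈ D ⊓ coordSub k T j :=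
        ⟨hfix, mulSingle_mem_coordSub j t⟩
      rw [hD0 j, Subgroup.mem_bot] at hmem
      have := congrFun hmem j
      rw [Pi.mulSingle_eq_same] at this
      exact ht this
    have hΩ₁ne : Ω₁.Nonempty := ⟨_, ⟨0, by omega⟩, t₀, ht₀, rfl⟩
    have hΩ₁inv : ∀ h ∈ S, ∀ y ∈ Ω₁, h • y ∈ Ω₁ := by
      rintro h hh _ ⟨j, t, ht, rfl⟩
      obtain ⟨j', hj'⟩ := exists_coord_of_mulEquiv hT k (psiEquiv N k e h) j
      have hmem : psiEquiv N k e h (Pi.mulSingle j t) ∈ coordSub k T j' := by
        rw [← hj']; exact ⟨_, mulSingle_mem_coordSub j t, rfl⟩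
      obtain ⟨t', ht'⟩ := hmem
      have ht'1 : t' ≠ 1 := by
        rintro rfl
        have h1 : psiEquiv N k e h (Pi.mulSingle j t) = 1 := by
          rw [← ht']; exact map_one _
        have h2 := (psiEquiv N k e h).injective (h1.trans (map_one _).symm)
        have h3 := congrFun h2 j
        rw [Pi.mulSingle_eq_same] at h3
        exact ht h3
      refine ⟨j', t', ht'1, ?_⟩
      have h1 : h • α = α := hh
      have h2 : h⁻¹ • α = α := by
        have := congrArg (fun x => h⁻¹ • x) h1
        simpa using this.symm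
      have h3 : (MonoidHom.mulSingle (fun _ : Fin k => T) j') t' = Pi.mulSingle j' t' := rfl
      rw [← h3, ht', hι, iota_psi, mul_smul, mul_smul, h2]
    have hΩ₁faith : ∀ h ∈ S, (∀ y ∈ Ω₁, h • y = y) → h = 1 := by
      intro h hh hfix
      apply eq_one_of_fix_coord N k e α hT hNtr hD0 h hh
      intro j c hc
      obtain ⟨t, rfl⟩ := hc
      by_cases ht : t = 1
      · subst ht
        rw [map_one, map_one, one_smul]; exact hh
      · exact hfix _ ⟨j, t, ht, rfl⟩
    have hS1 := sub_bound hdeg S Ω₁ hΩ₁inv hΩ₁ne α hαΩ₁ hΩ₁faith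
    have hcardΩ₁ : Nat.card ↥Ω₁ ≤ k * (q - 1) := by
      have h1 : Nat.card {t : T // t ≠ 1} ≤ q - 1 := by
        have := card_sub_lt (fun t : T => t ≠ 1) (x := 1) (fun h => h rfl)
        exact Nat.le_sub_one_of_lt this
      let f : Fin k × {t : T // t ≠ 1} → ↥Ω₁ :=
        fun p => ⟨ι (Pi.mulSingle p.1 p.2.1) • α, p.1, p.2.1, p.2.2, rfl⟩
      have hf : Function.Surjective f := by
        rintro ⟨ω, j, t, ht, rfl⟩
        exact ⟨(j, ⟨t, ht⟩), rfl⟩
      have h2 := Nat.card_le_card_of_surjective f hf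
      rw [Nat.card_prod, Nat.card_eq_fintype_card (α := Fin k), Fintype.card_fin] at h2
      exact h2.trans (Nat.mul_le_mul_left k h1)
    have hF6 := card_stabP_mul N k e α hNtr
    have hDpos : 0 < Nat.card D := Nat.card_pos
    -- it suffices to show k * q ≤ n, except for one small case
    have hfinish : k * q ≤ Nat.card Ω → 3 * clS (⊤ : Subgroup G) ≤ 4 * (Nat.card Ω - 1) := by
      intro hkq
      have e1 : k * (q - 1) = k * q - k := by rw [Nat.mul_sub, mul_one]
      have e2 : k ≤ k * q := Nat.le_mul_of_pos_right k (by omega)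
      rw [e1] at hcardΩ₁
      generalize k * q = X at *
      omega
    have hJR := all_or_none N k e α hT hmin hNtr
      {j | D.map (Pi.evalMonoidHom (fun _ : Fin k => T) j) = ⊤}
      (by
        intro h hh j hj j' hjj'
        exact map_eval_top_of_equiv hT k (psiEquiv N k e h) D
          (fun d hd => psi_mem_stabP N k e α hh hd) j j' hjj' hj)
    rcases hJR with hJR | hJR
    · -- B1
      have hR : ∀ j : Fin k, D.map (Pi.evalMonoidHom (fun _ : Fin k => T) j) ≠ ⊤ := by
        intro j hcon
        have : j ∈ ({j | D.map (Pi.evalMonoidHom (fun _ : Fin k => T) j) = ⊤} : Set (Fin k)) :=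
          hcon
        rw [hJR] at this
        exact this
      have h1 := card_mul_two_pow_le k D ⟨0, by omega⟩ (hD0 _) hR
      apply hfinish
      have h2 : k ≤ 2 ^ (k - 1) := by
        have := Nat.lt_two_pow_self (n := k - 1)
        omega
      have h3 : q * 2 ^ (k - 1) ≤ Nat.card Ω := by
        have h4 : q ^ k = q ^ (k - 1) * q := by
          have : k = (k - 1) + 1 := by omega
          conv_lhs => rw [this, pow_succ]
        have h5 : Nat.card D * (q * 2 ^ (k - 1)) ≤ Nat.card D * Nat.card Ω := by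
          calc Nat.card D * (q * 2 ^ (k - 1)) = (Nat.card D * 2 ^ (k - 1)) * q := by ring
            _ ≤ q ^ (k - 1) * q := Nat.mul_le_mul_right _ h1
            _ = Nat.card D * Nat.card Ω := by rw [← h4, hF6]
        exact Nat.le_of_mul_le_mul_left h5 hDpos
      calc k * q ≤ 2 ^ (k - 1) * q := Nat.mul_le_mul_right _ h2
        _ = q * 2 ^ (k - 1) := mul_comm _ _
        _ ≤ Nat.card Ω := h3
    · -- B2
      have hR : ∀ j : Fin k, D.map (Pi.evalMonoidHom (fun _ : Fin k => T) j) = ⊤ := by
        intro j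
        have : j ∈ ({j | D.map (Pi.evalMonoidHom (fun _ : Fin k => T) j) = ⊤} : Set (Fin k)) := by
          rw [hJR]; trivial
        exact this
      have h1 := card_le_pow_half_of_subdirect hT k D hD0 hR
      have hqpos : 0 < q := by omega
      -- n ≥ q^(k - k/2)
      have h3 : q ^ (k - k / 2) ≤ Nat.card Ω := by
        have h4 : q ^ k = q ^ (k / 2) * q ^ (k - k / 2) := by
          rw [← pow_add]; congr 1; omega
        have h5 : Nat.card D * q ^ (k - k / 2) ≤ Nat.card D * Nat.card Ω := by
          calc Nat.card D * q ^ (k - k / 2) ≤ q ^ (k / 2) * q ^ (k - k / 2) :=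
                Nat.mul_le_mul_right _ h1
            _ = Nat.card D * Nat.card Ω := by rw [← h4, hF6]
        exact Nat.le_of_mul_le_mul_left h5 hDpos
      rcases Nat.lt_or_ge k 3 with hk3 | hk3
      · have hk12 : k = 1 ∨ k = 2 := by omega
        rcases hk12 with rfl | rfl
        · apply hfinish
          simpa using h3
        · -- k = 2
          have hDne : D ≠ ⊥ := by
            intro hbot
            have h6 := hR ⟨0, by omega⟩
            rw [hbot, Subgroup.map_bot] at h6
            have : t₀ ∈ (⊥ : Subgroup T) := by rw [h6]; trivial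
            exact ht₀ (Subgroup.mem_bot.mp this)
          have h7 := clS_add_le_of_normal (bot_le : (⊥ : Subgroup (Fin 2 → T)) ≤ D)
            (by
              intro x _ y hy
              rw [Subgroup.mem_bot] at hy ⊢
              rw [hy, mul_one, mul_inv_cancel])
          rw [if_neg (Ne.symm hDne), clS_bot] at h7
          omega
      · apply hfinish
        exact (k_mul_le_pow k q hk3 hq4).trans h3
  · -- case A
    have hmeet : ∀ j : Fin k, ∃ t : T, t ≠ 1 ∧ Pi.mulSingle j t ∈ D := by
      intro j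
      have hj : j ∈ ({j | D ⊓ coordSub k T j ≠ ⊥} : Set (Fin k)) := by rw [hJA]; trivial
      have hj' : D ⊓ coordSub k T j ≠ ⊥ := hj
      obtain ⟨d, hd, hd1⟩ : ∃ d ∈ D ⊓ coordSub k T j, d ≠ 1 := by
        by_contra hcon
        push Not at hcon
        apply hj'
        rw [eq_bot_iff]
        intro d hd
        exact Subgroup.mem_bot.mpr (hcon d hd)
      obtain ⟨t, rfl⟩ := hd.2
      refine ⟨t, ?_, hd.1⟩
      rintro rfl
      exact hd1 (map_one _)
    have h1 := le_clS_of_meets k D hmeet
    omega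

end Cfsg.Agent.H9CL
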