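import Mathlib
import Cfsg.Agent.Lib.Helper9.CL6

set_option autoImplicit false

namespace Cfsg.Agent.H9CL

open Classical

universe u v

theorem lin_le_pow (a L₀ : ℕ) (h0 : a * (L₀ + 1) + 1 ≤ 4 * 2 ^ L₀) :
    ∀ L, L₀ ≤ L → a * (L + 1) + 1 ≤ 4 * 2 ^ L := by
  intro L hL
  induction L, hL using Nat.le_induction with
  | base => exact h0
  | succ L hL ih =>
    rw [pow_succ]
    have h1 : a ≤ a * (L + 1) := Nat.le_mul_of_pos_right a (by omega)
    have h2 : a * (L + 1 + 1) = a * (L + 1) + a := by ring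
    omega

theorem quad_le_pow : ∀ L, 5 ≤ L → 3 * ((L + 1) * (L + 1)) + 1 ≤ 4 * 2 ^ L := by
  intro L hL
  induction L, hL using Nat.le_induction with
  | base => norm_num
  | succ L hL ih =>
    rw [pow_succ]
    have h2 : (L + 1 + 1) * (L + 1 + 1) = (L + 1) * (L + 1) + 2 * L + 3 := by ring
    have h3 : 2 * L + 3 ≤ (L + 1) * (L + 1) := by nlinarith
    omega

theorem l_lt_of_pow (l c C : ℕ) (h : 2 ^ l ≤ C) (hC : C < 2 ^ c) : l < c :=
  (Nat.pow_lt_pow_iff_right (by norm_num)).mp (lt_of_le_of_lt h hC)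

theorem num_bound (p k l : ℕ) (hp : p.Prime) (hk : 1 ≤ k)
    (h : 2 ^ l ≤ p ^ k * (p ^ k - 1) ^ k) (hne4 : p ^ k ≠ 4) (hne8 : p ^ k ≠ 8) :
    3 * l ≤ 4 * (p ^ k - 1) := by
  have hp2 : 2 ≤ p := hp.two_le
  have hn2 : 2 ^ k ≤ p ^ k := Nat.pow_le_pow_left hp2 k
  have hnpos : p ^ k ≠ 0 := by positivity
  obtain ⟨L, hL⟩ : ∃ L, L = Nat.log 2 (p ^ k) := ⟨_, rfl⟩
  have hL1 : 2 ^ L ≤ p ^ k := hL ▸ Nat.pow_log_le_self 2 hnpos
  have hL2 : p ^ k < 2 ^ (L + 1) := hL ▸ Nat.lt_pow_succ_log_self (by norm_num) (p ^ k)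
  have hkL : k ≤ L := hL ▸ Nat.le_log_of_pow_le (by norm_num) hn2
  have hl : l < (L + 1) * (k + 1) := by
    have h0 : (p ^ k - 1) ^ k < (p ^ k) ^ k := Nat.pow_lt_pow_left (by omega) (by omega)
    have h1 : p ^ k * (p ^ k - 1) ^ k < (p ^ k) ^ (k + 1) := by
      rw [pow_succ, mul_comm]
      exact Nat.mul_lt_mul_of_lt_of_le h0 le_rfl (by omega)
    have h2 : (p ^ k) ^ (k + 1) < (2 ^ (L + 1)) ^ (k + 1) := Nat.pow_lt_pow_left hL2 (by omega)
    rw [← pow_mul 2] at h2
    exact (Nat.pow_lt_pow_iff_right (by norm_num)).mp (lt_of_le_of_lt h (h1.trans h2))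
  have hF : 3 * ((L + 1) * (k + 1)) + 1 ≤ 4 * 2 ^ L → 3 * l ≤ 4 * (p ^ k - 1) := by
    intro hF; omega
  rcases Nat.lt_or_ge L 5 with hL5 | hL5
  · -- small
    have hk4 : k ≤ 4 := by omega
    have hpow : (2:ℕ) ^ (L + 1) ≤ 2 ^ 5 := Nat.pow_le_pow_right (by norm_num) (by omega)
    have hn32 : p ^ k < 32 := by omega
    interval_cases k
    · -- k = 1
      rcases Nat.lt_or_ge L 3 with h3 | h3
      · have hpow' : (2:ℕ) ^ (L + 1) ≤ 2 ^ 3 := Nat.pow_le_pow_right (by norm_num) (by omega)
        have hp8 : p < 8 := by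
          have : p ^ 1 = p := pow_one p
          omega
        interval_cases p
        · norm_num at h ⊢
          have := l_lt_of_pow l 2 _ h (by norm_num); omega
        · norm_num at h ⊢
          have := l_lt_of_pow l 3 _ h (by norm_num); omega
        · exfalso; norm_num at hp
        · norm_num at h ⊢
          have := l_lt_of_pow l 5 _ h (by norm_num); omega
        · exfalso; norm_num at hp
        · norm_num at h ⊢
          have := l_lt_of_pow l 6 _ h (by norm_num); omega
      · apply hF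
        have := lin_le_pow 6 3 (by norm_num) L h3
        omega
    · -- k = 2
      rcases Nat.lt_or_ge L 4 with h3 | h3
      · have hpow' : (2:ℕ) ^ (L + 1) ≤ 2 ^ 4 := Nat.pow_le_pow_right (by norm_num) (by omega)
        have hp4 : p < 4 := by
          by_contra hcon
          push Not at hcon
          have : 4 ^ 2 ≤ p ^ 2 := Nat.pow_le_pow_left hcon 2
          omega
        interval_cases p
        · exfalso; norm_num at hne4
        · norm_num at h ⊢
          have := l_lt_of_pow l 10 _ h (by norm_num); omega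
      · apply hF
        have := lin_le_pow 9 4 (by norm_num) L h3
        omega
    · -- k = 3
      rcases Nat.lt_or_ge L 4 with h3 | h3
      · have hpow' : (2:ℕ) ^ (L + 1) ≤ 2 ^ 4 := Nat.pow_le_pow_right (by norm_num) (by omega)
        have hp3 : p < 3 := by
          by_contra hcon
          push Not at hcon
          have : 3 ^ 3 ≤ p ^ 3 := Nat.pow_le_pow_left hcon 3
          omega
        interval_cases p
        exfalso; norm_num at hne8
      · apply hF
        have := lin_le_pow 12 4 (by norm_num) L h3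
        omega
    · -- k = 4
      have hp3 : p < 3 := by
        by_contra hcon
        push Not at hcon
        have : 3 ^ 4 ≤ p ^ 4 := Nat.pow_le_pow_left hcon 4
        omega
      interval_cases p
      norm_num at h ⊢
      have := l_lt_of_pow l 20 _ h (by norm_num); omega
  · apply hF
    have h1 := quad_le_pow L hL5
    have h2 : (L + 1) * (k + 1) ≤ (L + 1) * (L + 1) := Nat.mul_le_mul_left _ (by omega)
    omega


theorem card_dvd_factorial {G : Type*} [Group G] [Finite G] {Ω : Type*} [Finite Ω]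
    [MulAction G Ω] [FaithfulSMul G Ω] : Nat.card G ∣ (Nat.card Ω).factorial := by
  haveI := Fintype.ofFinite Ω
  have hinj : Function.Injective (MulAction.toPermHom G Ω) := MulAction.toPerm_injective
  have h1 : Nat.card G = Nat.card (MulAction.toPermHom G Ω).range :=
    Nat.card_congr (MonoidHom.ofInjective hinj).toEquiv
  rw [h1]
  have h2 := Subgroup.card_subgroup_dvd_card (MulAction.toPermHom G Ω).range
  rwa [Nat.card_eq_fintype_card (α := Equiv.Perm Ω), Fintype.card_perm,
    ← Nat.card_eq_fintype_card] at h2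

theorem cardFactors_40320 : ArithmeticFunction.cardFactors 40320 = 11 := by
  have e : (40320 : ℕ) = 2 ^ 7 * (3 ^ 2 * (5 * 7)) := by norm_num
  rw [e, ArithmeticFunction.cardFactors_mul (by norm_num) (by norm_num),
    ArithmeticFunction.cardFactors_mul (by norm_num) (by norm_num),
    ArithmeticFunction.cardFactors_mul (by norm_num) (by norm_num),
    ArithmeticFunction.cardFactors_apply_prime_pow Nat.prime_two,
    ArithmeticFunction.cardFactors_apply_prime_pow Nat.prime_three,
    ArithmeticFunction.cardFactors_apply_prime Nat.prime_five,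
    ArithmeticFunction.cardFactors_apply_prime (by norm_num : Nat.Prime 7)]

theorem omega_le_nine (m : ℕ) (hd : m ∣ 40320) (hm : m ≤ 2744) :
    ArithmeticFunction.cardFactors m ≤ 9 := by
  obtain ⟨c, hc⟩ := hd
  have hm0 : m ≠ 0 := by rintro rfl; omega
  have hc0 : c ≠ 0 := by rintro rfl; omega
  have h1 := ArithmeticFunction.cardFactors_mul hm0 hc0
  rw [← hc, cardFactors_40320] at h1
  by_contra hcon
  push Not at hcon
  have hc1 : ArithmeticFunction.cardFactors c ≤ 1 := by omega
  have hcases : ArithmeticFunction.cardFactors c = 0 ∨ ArithmeticFunction.cardFactors c = 1 := by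
    omega
  rcases hcases with h0 | h0
  · rcases ArithmeticFunction.cardFactors_eq_zero_iff_eq_zero_or_one.mp h0 with h | h
    · exact hc0 h
    · rw [h, mul_one] at hc; omega
  · have hcp : c.Prime := ArithmeticFunction.cardFactors_eq_one_iff_prime.mp h0
    have hcd : c ∣ 2 ^ 7 * (3 ^ 2 * (5 * 7)) := by
      have : (2 : ℕ) ^ 7 * (3 ^ 2 * (5 * 7)) = 40320 := by norm_num
      rw [this, hc]; exact dvd_mul_left c m
    have hc7 : c ≤ 7 := by
      rcases (hcp.dvd_mul).1 hcd with h | h
      · have := Nat.le_of_dvd (by norm_num) (hcp.dvd_of_dvd_pow h); omega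
      · rcases (hcp.dvd_mul).1 h with h | h
        · have := Nat.le_of_dvd (by norm_num) (hcp.dvd_of_dvd_pow h); omega
        · rcases (hcp.dvd_mul).1 h with h | h
          · have := Nat.le_of_dvd (by norm_num) h; omega
          · exact Nat.le_of_dvd (by norm_num) h
    have : m * c ≤ 2744 * 7 := Nat.mul_le_mul hm hc7
    omega

theorem case_prim_abelian {G : Type u} [Group G] [Finite G] {Ω : Type v} [Finite Ω]
    [MulAction G Ω] [FaithfulSMul G Ω]
    (α : Ω) (N : Subgroup G) [hN : N.Normal]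
    (hNtr : ∀ ω : Ω, ∃ n ∈ N, n • α = ω)
    {T : Type u} [Group T] [Finite T] [IsSimpleGroup T] (hT : IsMulCommutative T)
    (k : ℕ) (hk : 1 ≤ k) (e : ↥N ≃* (Fin k → T)) :
    3 * clS (⊤ : Subgroup G) ≤ 4 * (Nat.card Ω - 1) := by
  set S := MulAction.stabilizer G α with hS
  have hιinj := iotaHom_injective N k e
  have hTc : ∀ a b : T, a * b = b * a := fun a b => hT.is_comm.comm a b
  have hprime : (Nat.card T).Prime := by
    letI : CommGroup T := { (inferInstance : Group T) with mul_comm := hTc }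
    exact IsSimpleGroup.prime_card
  obtain ⟨p, hp⟩ : ∃ p, p = Nat.card T := ⟨_, rfl⟩
  rw [← hp] at hprime
  have hNc : ∀ a ∈ N, ∀ b ∈ N, a * b = b * a := by
    intro a ha b hb
    obtain ⟨x, rfl⟩ := iotaHom_surj N k e ha
    obtain ⟨y, rfl⟩ := iotaHom_surj N k e hb
    rw [← map_mul, ← map_mul]
    congr 1
    funext i; exact hTc _ _
  have hD : stabP N k e α = ⊥ := by
    rw [eq_bot_iff]
    intro d hd
    rw [Subgroup.mem_bot]
    apply hιinj
    rw [map_one]
    apply FaithfulSMul.eq_of_smul_eq_smul (α := Ω)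
    intro ω
    obtain ⟨n, hn, rfl⟩ := hNtr ω
    have hdα : iotaHom N k e d • α = α := hd
    rw [one_smul, ← mul_smul, hNc _ (iotaHom_mem N k e d) n hn, mul_smul, hdα]
  have hcardΩ : Nat.card Ω = p ^ k := by
    have := card_stabP_mul N k e α hNtr
    rw [hD, Subgroup.card_bot, one_mul, ← hp] at this
    exact this
  obtain ⟨t₀, ht₀⟩ := exists_ne (1 : T)
  have hgen : ∀ t : T, t ∈ Subgroup.zpowers t₀ := by
    intro t
    haveI : Fact p.Prime := ⟨hprime⟩
    exact mem_zpowers_of_prime_card hp.symm ht₀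
  let f : ↥S → (Fin k → {y : Fin k → T // y ≠ 1}) := fun h j =>
    ⟨psiEquiv N k e h.1 (Pi.mulSingle j t₀), by
      intro h1
      have h2 := (psiEquiv N k e h.1).injective (h1.trans (map_one _).symm)
      have h3 := congrFun h2 j
      rw [Pi.mulSingle_eq_same] at h3
      exact ht₀ h3⟩
  have hf : Function.Injective f := by
    intro h h' hff
    have hgenEq : ∀ j, psiEquiv N k e h.1 (Pi.mulSingle j t₀)
        = psiEquiv N k e h'.1 (Pi.mulSingle j t₀) := by
      intro j
      have := congrFun hff j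
      exact congrArg Subtype.val this
    have hall : ∀ y, psiEquiv N k e h.1 y = psiEquiv N k e h'.1 y := by
      intro y
      let E : Subgroup (Fin k → T) :=
        MonoidHom.eqLocus (psiEquiv N k e h.1).toMonoidHom (psiEquiv N k e h'.1).toMonoidHom
      have hyE : y ∈ E := by
        rw [← Finset.noncommProd_mulSingle y]
        apply Subgroup.noncommProd_mem
        intro i _
        obtain ⟨m, hm⟩ := Subgroup.mem_zpowers_iff.mp (hgen (y i))
        have : (Pi.mulSingle i (y i) : Fin k → T) = (Pi.mulSingle i t₀) ^ m := by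
          rw [← hm]; exact map_zpow (MonoidHom.mulSingle (fun _ : Fin k => T) i) t₀ m
        rw [this]
        exact E.zpow_mem (hgenEq i) m
      exact hyE
    have hcen : ∀ n ∈ N, h.1 * n * h.1⁻¹ = h'.1 * n * h'.1⁻¹ := by
      intro n hn
      obtain ⟨y, rfl⟩ := iotaHom_surj N k e hn
      rw [← iota_psi, ← iota_psi, hall y]
    apply Subtype.ext
    apply FaithfulSMul.eq_of_smul_eq_smul (α := Ω)
    intro ω
    obtain ⟨n, hn, rfl⟩ := hNtr ω
    have h1 : h.1 • α = α := h.2
    have h1' : h'.1 • α = α := h'.2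
    have hi : h.1⁻¹ • α = α := by
      have := congrArg (fun x => h.1⁻¹ • x) h1
      simpa using this.symm
    have hi' : h'.1⁻¹ • α = α := by
      have := congrArg (fun x => h'.1⁻¹ • x) h1'
      simpa using this.symm
    have e1 : h.1 • (n • α) = (h.1 * n * h.1⁻¹) • α := by
      rw [mul_smul, mul_smul, hi]
    have e2 : h'.1 • (n • α) = (h'.1 * n * h'.1⁻¹) • α := by
      rw [mul_smul, mul_smul, hi']
    rw [e1, e2, hcen n hn]
  have hcardS : Nat.card ↥S ≤ (p ^ k - 1) ^ k := by
    have h1 := Nat.card_le_card_of_injective f hf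
    rw [Nat.card_fun, Nat.card_eq_fintype_card (α := Fin k), Fintype.card_fin] at h1
    have h2 : Nat.card {y : Fin k → T // y ≠ 1} ≤ p ^ k - 1 := by
      have := card_sub_lt (fun y : Fin k → T => y ≠ 1) (x := 1) (fun h => h rfl)
      rw [Nat.card_fun, Nat.card_eq_fintype_card (α := Fin k), Fintype.card_fin, ← hp] at this
      exact Nat.le_sub_one_of_lt this
    exact h1.trans (Nat.pow_le_pow_left h2 k)
  have hcardG : Nat.card G = Nat.card ↥S * p ^ k := by
    have h1 := Subgroup.card_mul_index S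
    have horb : MulAction.orbit G α = Set.univ := by
      rw [Set.eq_univ_iff_forall]
      intro ω
      obtain ⟨n, _, hn⟩ := hNtr ω
      exact ⟨n, hn⟩
    rw [hS, MulAction.index_stabilizer, horb, Set.ncard_univ, hcardΩ] at h1
    exact h1.symm
  have h2l := two_pow_clS_le (⊤ : Subgroup G)
  rw [Subgroup.card_top, hcardG] at h2l
  have h2l' : 2 ^ clS (⊤ : Subgroup G) ≤ p ^ k * (p ^ k - 1) ^ k := by
    calc 2 ^ clS (⊤ : Subgroup G) ≤ Nat.card ↥S * p ^ k := h2l
      _ ≤ (p ^ k - 1) ^ k * p ^ k := Nat.mul_le_mul_right _ hcardS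
      _ = p ^ k * (p ^ k - 1) ^ k := mul_comm _ _
  rw [hcardΩ]
  by_cases h4 : p ^ k = 4
  · have hdvd := card_dvd_factorial (G := G) (Ω := Ω)
    rw [hcardΩ, h4] at hdvd
    have hle : Nat.card G ≤ 24 := Nat.le_of_dvd (by norm_num) hdvd
    have h3 := two_pow_clS_le (⊤ : Subgroup G)
    rw [Subgroup.card_top] at h3
    have := l_lt_of_pow _ 5 _ (h3.trans hle) (by norm_num)
    rw [h4]; omega
  by_cases h8 : p ^ k = 8
  · have hp2 : p = 2 := by
      have h1 : p ∣ 2 ^ 3 := by
        have : p ∣ p ^ k := dvd_pow_self p (by omega)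
        rw [h8] at this; exact this
      exact (Nat.prime_dvd_prime_iff_eq hprime Nat.prime_two).mp (hprime.dvd_of_dvd_pow h1)
    subst hp2
    have hk3 : k = 3 := Nat.pow_right_injective (le_refl 2) (show 2 ^ k = 2 ^ 3 from h8)
    subst hk3
    have hdvd := card_dvd_factorial (G := G) (Ω := Ω)
    rw [hcardΩ] at hdvd
    have hle : Nat.card G ≤ 2744 := by
      rw [hcardG]
      have : Nat.card ↥S ≤ 343 := by
        have := hcardS; norm_num at this; exact this
      norm_num; omega
    have h3 := clS_le_cardFactors (⊤ : Subgroup G)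
    rw [Subgroup.card_top] at h3
    have h5 := omega_le_nine (Nat.card G) (by norm_num at hdvd; exact hdvd) hle
    norm_num; omega
  exact num_bound p k _ hprime hk h2l' h4 h8

end Cfsg.Agent.H9CL
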