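import Mathlib

set_option autoImplicit false

namespace Cfsg.Agent.H9CharSimple

def finSuccMulEquiv (k : ℕ) (N : Type*) [Group N] : (Fin (k+1) → N) ≃* (Fin k → N) × N where
  toFun y := (fun i => y i.succ, y 0)
  invFun p := Fin.cons p.2 p.1
  left_inv y := by funext i; refine Fin.cases ?_ ?_ i <;> simp
  right_inv p := by ext <;> simp
  map_mul' _ _ := rfl

variable {G : Type*} [Group G] [Finite G]

theorem exists_min_normal [Nontrivial G] :
    ∃ N : Subgroup G, N.Normal ∧ N ≠ ⊥ ∧
      ∀ M : Subgroup G, M.Normal → M ≠ ⊥ → M ≤ N → M = N := by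
  have hfin : {N : Subgroup G | N.Normal ∧ N ≠ ⊥}.Finite := Set.toFinite _
  have hne : {N : Subgroup G | N.Normal ∧ N ≠ ⊥}.Nonempty :=
    ⟨⊤, inferInstance, top_ne_bot⟩
  obtain ⟨N, hN⟩ := hfin.exists_minimal hne
  refine ⟨N, hN.1.1, hN.1.2, fun M hM hM1 hMN => ?_⟩
  exact le_antisymm hMN (hN.2 ⟨hM, hM1⟩ hMN)

/-- the image of a minimal normal subgroup under an automorphism is minimal normal -/
theorem min_normal_map (N : Subgroup G)
    (hmin : ∀ M : Subgroup G, M.Normal → M ≠ ⊥ → M ≤ N → M = N) (α : G ≃* G)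
    (A : Subgroup G) (hA : A.Normal) (hA1 : A ≠ ⊥) (hAN : A ≤ N.map α.toMonoidHom) :
    N.map α.toMonoidHom ≤ A := by
  have hB : (A.comap α.toMonoidHom).Normal := hA.comap _
  have hBN : A.comap α.toMonoidHom ≤ N := by
    intro b hb
    have : α b ∈ N.map α.toMonoidHom := hAN hb
    obtain ⟨n, hn, hnb⟩ := this
    have : n = b := α.injective hnb
    rw [← this]; exact hn
  have hB1 : A.comap α.toMonoidHom ≠ ⊥ := by
    intro h
    apply hA1
    rw [eq_bot_iff]
    intro a ha
    have : α.symm a ∈ A.comap α.toMonoidHom := by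
      change α (α.symm a) ∈ A
      rw [α.apply_symm_apply]; exact ha
    rw [h, Subgroup.mem_bot] at this
    have h2 := congrArg α this
    rw [α.apply_symm_apply, map_one] at h2
    rw [Subgroup.mem_bot]; exact h2
  have hBeq := hmin _ hB hB1 hBN
  rintro _ ⟨n, hn, rfl⟩
  have : n ∈ A.comap α.toMonoidHom := by rw [hBeq]; exact hn
  exact this

theorem simple_of_min_normal (N : Subgroup G) (hN : N.Normal) (hN1 : N ≠ ⊥)
    (hmin : ∀ M : Subgroup G, M.Normal → M ≠ ⊥ → M ≤ N → M = N)
    (htop : (⊤ : Subgroup G) ≤ N ⊔ Subgroup.centralizer (N : Set G)) : IsSimpleGroup N := by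
  haveI : Nontrivial N := (Subgroup.nontrivial_iff_ne_bot N).mpr hN1
  refine ⟨fun A hA => ?_⟩
  have hA'n : (A.map N.subtype).Normal := by
    refine ⟨fun a' ha' g => ?_⟩
    obtain ⟨a, ha, rfl⟩ := ha'
    have hg : g ∈ ((N ⊔ Subgroup.centralizer (N : Set G) : Subgroup G) : Set G) :=
      htop (Subgroup.mem_top g)
    rw [Subgroup.normal_mul] at hg
    obtain ⟨n, hn, c, hc, rfl⟩ := Set.mem_mul.mp hg
    have hca : c * (a : G) = (a : G) * c := by
      have := (Subgroup.mem_centralizer_iff.mp hc) (a : G) a.2
      exact this.symm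
    have : n * c * (N.subtype a) * (n * c)⁻¹ = N.subtype (⟨n, hn⟩ * a * ⟨n, hn⟩⁻¹) := by
      simp only [Subgroup.subtype_apply, mul_inv_rev, Subgroup.coe_mul, Subgroup.coe_inv]
      rw [mul_assoc n c, hca]
      group
    rw [this]
    exact ⟨_, hA.conj_mem a ha _, rfl⟩
  have hA'N : A.map N.subtype ≤ N := by
    rintro _ ⟨a, _, rfl⟩; exact a.2
  by_cases hb : A.map N.subtype = ⊥
  · left
    exact (Subgroup.map_eq_bot_iff_of_injective A N.subtype_injective).mp hb
  · right
    have := hmin _ hA'n hb hA'N
    rw [eq_top_iff]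
    intro n _
    have hn : (n : G) ∈ A.map N.subtype := by rw [this]; exact n.2
    obtain ⟨a, ha, hna⟩ := hn
    have : a = n := Subtype.ext hna
    rw [← this]; exact ha

theorem exists_power_of_char_simple [Nontrivial G]
    (hG : ∀ H : Subgroup G, H.Characteristic → H = ⊥ ∨ H = ⊤) :
    ∃ (N : Subgroup G), IsSimpleGroup N ∧ ∃ k, 1 ≤ k ∧ Nonempty (G ≃* (Fin k → N)) := by
  classical
  obtain ⟨N, hN, hN1, hmin⟩ := exists_min_normal (G := G)
  let P : Subgroup G → Prop := fun M =>
    N ≤ M ∧ M ≤ N ⊔ Subgroup.centralizer (N : Set G) ∧ M.Normal ∧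
      ∃ k, ∃ f : (Fin k → N) →* G, Function.Injective f ∧ f.range = M
  have hPN : P N := by
    refine ⟨le_rfl, le_sup_left, hN, 1,
      N.subtype.comp (MulEquiv.funUnique (Fin 1) N).toMonoidHom, ?_, ?_⟩
    · exact N.subtype_injective.comp (MulEquiv.funUnique (Fin 1) N).injective
    · rw [MonoidHom.range_comp]
      have : (MulEquiv.funUnique (Fin 1) N).toMonoidHom.range = ⊤ :=
        MonoidHom.range_eq_top.mpr (MulEquiv.funUnique (Fin 1) N).surjective
      rw [this, ← MonoidHom.range_eq_map, Subgroup.range_subtype]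
  have hfin : {M : Subgroup G | P M}.Finite := Set.toFinite _
  obtain ⟨M, hM⟩ := hfin.exists_maximal ⟨N, hPN⟩
  obtain ⟨⟨hNM, hMC, hMn, k, f, hfi, hfr⟩, hMmax⟩ := hM
  have hMtop : M = ⊤ := by
    by_contra hMne
    -- J
    let J : Subgroup G := ⨆ α : G ≃* G, N.map α.toMonoidHom
    have hJc : J.Characteristic := by
      rw [Subgroup.characteristic_iff_map_le]
      intro β
      rw [Subgroup.map_iSup]
      apply iSup_le
      intro α
      rw [Subgroup.map_map]
      have : β.toMonoidHom.comp α.toMonoidHom = (α.trans β).toMonoidHom := rfl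
      rw [this]
      exact le_iSup (fun α : G ≃* G => N.map α.toMonoidHom) (α.trans β)
    have hNJ : N ≤ J := by
      have : N.map (MulEquiv.refl G).toMonoidHom = N := by
        ext x; simp
      calc N = N.map (MulEquiv.refl G).toMonoidHom := this.symm
        _ ≤ J := le_iSup (fun α : G ≃* G => N.map α.toMonoidHom) (MulEquiv.refl G)
    have hJtop : J = ⊤ := by
      rcases hG J hJc with h | h
      · exfalso; apply hN1; rw [eq_bot_iff, ← h]; exact hNJ
      · exact h
    have hex : ∃ α : G ≃* G, ¬ N.map α.toMonoidHom ≤ M := by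
      by_contra hcon
      push Not at hcon
      apply hMne
      rw [eq_top_iff, ← hJtop]
      exact iSup_le hcon
    obtain ⟨α, hα⟩ := hex
    set N' : Subgroup G := N.map α.toMonoidHom with hN'
    have hN'n : N'.Normal := hN.map α.toMonoidHom α.surjective
    have hdis : N' ⊓ M = ⊥ := by
      by_contra hne
      have hnorm : (N' ⊓ M).Normal := Subgroup.normal_inf_normal N' M
      have := min_normal_map N hmin α (N' ⊓ M) hnorm hne inf_le_left
      exact hα (this.trans inf_le_right)
    have hdisj : Disjoint M N' := by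
      rw [disjoint_iff, inf_comm]; exact hdis
    have hcomm : ∀ x ∈ M, ∀ y ∈ N', Commute x y := fun x hx y hy =>
      Subgroup.commute_of_normal_of_disjoint M N' hMn hN'n hdisj x y hx hy
    have hP' : P (M ⊔ N') := by
      refine ⟨hNM.trans le_sup_left, sup_le hMC ?_, Subgroup.sup_normal M N', k + 1, ?_⟩
      · intro y hy
        apply Subgroup.mem_sup_right
        rw [Subgroup.mem_centralizer_iff]
        intro n hn
        exact (hcomm n (hNM hn) y hy).eq
      · have comm : ∀ (m : Fin k → N) (n : N),
            Commute (f m) ((α.toMonoidHom.comp N.subtype) n) := by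
          intro m n
          apply hcomm
          · rw [← hfr]; exact ⟨m, rfl⟩
          · exact ⟨n.1, n.2, rfl⟩
        refine ⟨(f.noncommCoprod (α.toMonoidHom.comp N.subtype) comm).comp
          (finSuccMulEquiv k N).toMonoidHom, ?_, ?_⟩
        · have hr2 : (α.toMonoidHom.comp N.subtype).range = N' := by
            rw [MonoidHom.range_comp, Subgroup.range_subtype]
          have : Function.Injective (f.noncommCoprod (α.toMonoidHom.comp N.subtype) comm) := by
            rw [MonoidHom.noncommCoprod_injective]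
            refine ⟨hfi, α.injective.comp N.subtype_injective, ?_⟩
            rw [hfr, hr2]; exact hdisj
          exact this.comp (finSuccMulEquiv k N).injective
        · rw [MonoidHom.range_comp]
          have : (finSuccMulEquiv k N).toMonoidHom.range = ⊤ :=
            MonoidHom.range_eq_top.mpr (finSuccMulEquiv k N).surjective
          rw [this, ← MonoidHom.range_eq_map, MonoidHom.noncommCoprod_range, hfr,
            MonoidHom.range_comp, Subgroup.range_subtype]
    have hle : M ⊔ N' ≤ M := hMmax hP' le_sup_left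
    exact hα (le_sup_right.trans hle)
  refine ⟨N, ?_, k, ?_, ?_⟩
  · apply simple_of_min_normal N hN hN1 hmin
    rw [← hMtop]; exact hMC
  · by_contra hk
    have hk0 : k = 0 := by omega
    subst hk0
    have hsub : Subsingleton (Fin 0 → N) := inferInstance
    have hsurj : Function.Surjective f := by
      rw [← MonoidHom.range_eq_top, hfr, hMtop]
    have : Subsingleton G := hsurj.subsingleton
    exact not_subsingleton G this
  · have hsurj : Function.Surjective f := by
      rw [← MonoidHom.range_eq_top, hfr, hMtop]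
    exact ⟨(MulEquiv.ofBijective f ⟨hfi, hsurj⟩).symm⟩

end Cfsg.Agent.H9CharSimple
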