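import Mathlib
import Cfsg.Agent.Lib.Helper9.CL7
import Cfsg.Agent.Lib.Helper9.CharSimple2

set_option autoImplicit false

namespace Cfsg.Agent.H9CL

open Classical

universe u v

/-- a minimal normal subgroup is characteristically simple -/
theorem char_simple_of_min_normal {G : Type*} [Group G] (N : Subgroup G) [hN : N.Normal]
    (hmin : ∀ M : Subgroup G, M.Normal → M ≠ ⊥ → M ≤ N → M = N)
    (K : Subgroup ↥N) (hK : K.Characteristic) : K = ⊥ ∨ K = ⊤ := by
  have hM : (K.map N.subtype).Normal := by
    constructor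
    rintro _ ⟨x, hx, rfl⟩ g
    refine ⟨MulAut.conjNormal g x, ?_, ?_⟩
    · have h1 := Subgroup.characteristic_iff_comap_eq.mp hK (MulAut.conjNormal g)
      have h2 : x ∈ K.comap (MulAut.conjNormal g : ↥N ≃* ↥N).toMonoidHom := by
        rw [h1]; exact hx
      exact h2
    · simp [MulAut.conjNormal_apply]
  by_cases h1 : K.map N.subtype = ⊥
  · left
    exact (Subgroup.map_eq_bot_iff_of_injective _ N.subtype_injective).mp h1
  · right
    have h2 := hmin _ hM h1 (Subgroup.map_subtype_le K)
    rw [eq_top_iff]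
    intro x _
    have hx : (x : G) ∈ K.map N.subtype := by rw [h2]; exact x.2
    obtain ⟨y, hy, hyx⟩ := hx
    have : y = x := Subtype.ext hyx
    rw [← this]; exact hy

theorem case_prim {G : Type u} [Group G] [Finite G] {Ω : Type v} [Finite Ω]
    [MulAction G Ω] [FaithfulSMul G Ω]
    (hdeg : ∀ n', n' < Nat.card Ω → MainAt.{u,v} n')
    (hn2 : 2 ≤ Nat.card Ω)
    (htr : ∀ x y : Ω, ∃ g : G, g • x = y)
    (hprim : ∀ s : Setoid Ω, (∀ (g : G) (x y : Ω), s x y → s (g • x) (g • y)) →
      (∀ x y, s x y → x = y) ∨ (∀ x y, s x y)) :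
    3 * clS (⊤ : Subgroup G) ≤ 4 * (Nat.card Ω - orb G Ω) := by
  haveI hnt : Nontrivial Ω := Finite.one_lt_card_iff_nontrivial.mp (by omega)
  obtain ⟨α, β, hαβ⟩ := exists_pair_ne Ω
  haveI : Nonempty Ω := ⟨α⟩
  haveI : Nontrivial G := by
    obtain ⟨g, hg⟩ := htr α β
    refine ⟨⟨g, 1, ?_⟩⟩
    rintro rfl
    rw [one_smul] at hg
    exact hαβ hg
  obtain ⟨N, hN, hN1, hmin⟩ := Cfsg.Agent.H9CharSimple.exists_min_normal (G := G)
  haveI := hN
  -- N transitive
  have hinv : ∀ (g : G) (x y : Ω), (MulAction.orbitRel ↥N Ω) x y →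
      (MulAction.orbitRel ↥N Ω) (g • x) (g • y) := by
    intro g x y hxy
    rw [MulAction.orbitRel_apply] at hxy ⊢
    obtain ⟨n, hn⟩ := hxy
    refine ⟨⟨g * n * g⁻¹, hN.conj_mem n n.2 g⟩, ?_⟩
    show (g * (n : G) * g⁻¹) • (g • y) = g • x
    rw [mul_smul, mul_smul, inv_smul_smul]
    have : (n : G) • y = x := hn
    rw [this]
  have hNtr : ∀ ω : Ω, ∃ n ∈ N, n • α = ω := by
    rcases hprim (MulAction.orbitRel ↥N Ω) hinv with h | h
    · exfalso
      apply hN1
      rw [eq_bot_iff]
      intro n hn
      rw [Subgroup.mem_bot]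
      apply FaithfulSMul.eq_of_smul_eq_smul (α := Ω)
      intro y
      rw [one_smul]
      apply h
      rw [MulAction.orbitRel_apply]
      exact ⟨⟨n, hn⟩, rfl⟩
    · intro ω
      have := h ω α
      rw [MulAction.orbitRel_apply] at this
      obtain ⟨n, hn⟩ := this
      exact ⟨n, n.2, hn⟩
  haveI : Nontrivial ↥N := (Subgroup.nontrivial_iff_ne_bot N).mpr hN1
  obtain ⟨T, hT, k, hk, ⟨e⟩⟩ := Cfsg.Agent.H9CharSimple.exists_power_of_char_simple (G := ↥N)
    (char_simple_of_min_normal N hmin)
  haveI := hT
  rw [orb_eq_one_of_trans htr]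
  by_cases hTc : IsMulCommutative ↥T
  · exact case_prim_abelian α N hNtr hTc k hk e
  · exact case_prim_nonabelian hdeg α hn2 N hmin hNtr hTc k hk e

theorem clS_top_eq_zero_of_subsingleton {G : Type*} [Group G] [Finite G] [Subsingleton G] :
    clS (⊤ : Subgroup G) = 0 := by
  have : (⊤ : Subgroup G) = ⊥ := Subsingleton.elim _ _
  rw [this, clS_bot]

theorem main_all : ∀ n, MainAt.{u,v} n := by
  intro n
  induction n using Nat.strong_induction_on with
  | _ n ih =>
    have key : ∀ m, ∀ (G : Type u) [Group G] [Finite G] (Ω : Type v) [Finite Ω] [MulAction G Ω]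
        [FaithfulSMul G Ω], Nat.card G = m → Nat.card Ω = n →
        3 * clS (⊤ : Subgroup G) ≤ 4 * (n - orb G Ω) := by
      intro m
      induction m using Nat.strong_induction_on with
      | _ m ihm =>
        intro G _ _ Ω _ _ _ hm hn
        subst hn
        subst hm
        by_cases htr : ∀ x y : Ω, ∃ g : G, g • x = y
        · by_cases hn2 : 2 ≤ Nat.card Ω
          · by_cases hprim : ∀ s : Setoid Ω, (∀ (g : G) (x y : Ω), s x y → s (g • x) (g • y)) →
                (∀ x y, s x y → x = y) ∨ (∀ x y, s x y)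
            · exact case_prim ih hn2 htr hprim
            · push Not at hprim
              obtain ⟨s, hinv, ⟨x₀, y₀, hs1, hxy⟩, ⟨x₁, y₁, hs2⟩⟩ := hprim
              refine case_imprim ih ?_ htr s hinv x₀ y₀ hxy hs1 x₁ y₁ hs2
              intro K _ _ Ω' _ _ _ hc hlt
              exact ihm (Nat.card K) hlt K Ω' rfl hc
          · -- G is trivial
            haveI : Subsingleton G := by
              constructor
              intro a b
              apply FaithfulSMul.eq_of_smul_eq_smul (α := Ω)
              intro x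
              obtain ⟨g, hg⟩ := htr x x
              haveI : Subsingleton Ω := by
                haveI : Nonempty Ω := ⟨x⟩
                have h1 : Nat.card Ω = 1 := by
                  have : 0 < Nat.card Ω := Nat.card_pos
                  omega
                exact (Nat.card_eq_one_iff_unique.mp h1).1
              exact Subsingleton.elim _ _
            rw [clS_top_eq_zero_of_subsingleton]
            omega
        · push Not at htr
          obtain ⟨x, y, hxy⟩ := htr
          apply case_intrans ih x y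
          rintro ⟨g, hg⟩
          exact hxy g hg
    intro G _ _ Ω _ _ _ hn
    exact key (Nat.card G) G Ω rfl hn

end Cfsg.Agent.H9CL
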