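import Mathlib
import Cfsg.Agent.Lib.Helper9.LagDefs
import Cfsg.Agent.Lib.Helper7.LawPkgSp
import Cfsg.Agent.Lib.Helper2.OddSp1

/-!
# S5963, package L2: the stabilizer of the standard pair of Lagrangians is `GL_d(F)`
-/

set_option autoImplicit false

namespace Cfsg.Agent.Lib.Carve.L2

open Matrix Cfsg.Agent.Lib.Helper9.Lag Cfsg.Agent.Lib.Helper7.LawAux

universe u

variable {F : Type u} [Field F] {d : ℕ}

theorem mem_stdU (v : Fin d ⊕ Fin d → F) : v ∈ stdU d F ↔ ∀ i, v (Sum.inr i) = 0 := Iff.rfl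

theorem mem_stdW (v : Fin d ⊕ Fin d → F) : v ∈ stdW d F ↔ ∀ i, v (Sum.inl i) = 0 := Iff.rfl

/-- the standard pair is a pair -/
theorem std_pair (d : ℕ) : IsLagPair d F (stdU d F) (stdW d F) := by
  refine ⟨⟨?_, ?_⟩, ?_, ?_⟩
  · rw [Submodule.disjoint_def]
    intro v hU hW
    funext i
    rcases i with i | i
    · exact hW i
    · exact hU i
  · rw [codisjoint_iff, eq_top_iff]
    intro v _
    rw [Submodule.mem_sup]
    refine ⟨fun i => Sum.elim (fun j => v (Sum.inl j)) (fun _ => 0) i, ?_,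
      fun i => Sum.elim (fun _ => 0) (fun j => v (Sum.inr j)) i, ?_, ?_⟩
    · intro i
      rfl
    · intro i
      rfl
    · funext i
      rcases i with i | i <;> simp
  · intro u hu v hv
    rw [Cfsg.Agent.Lib.Helper2.OddSp.sympForm_sum]
    apply Finset.sum_eq_zero
    intro i _
    rw [hu i, hv i]
    ring
  · intro u hu v hv
    rw [Cfsg.Agent.Lib.Helper2.OddSp.sympForm_sum]
    apply Finset.sum_eq_zero
    intro i _
    rw [hu i, hv i]
    ring

theorem hyp_mulVec_inl (A : GL (Fin d) F) (v : Fin d ⊕ Fin d → F) (i : Fin d) :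
    (hypMat F d A *ᵥ v) (Sum.inl i) = ((A : Matrix (Fin d) (Fin d) F) *ᵥ (v ∘ Sum.inl)) i := by
  rw [hypMat_apply, fromBlocks_mulVec]
  simp

theorem hyp_mulVec_inr (A : GL (Fin d) F) (v : Fin d ⊕ Fin d → F) (i : Fin d) :
    (hypMat F d A *ᵥ v) (Sum.inr i) =
      (((A⁻¹ : GL (Fin d) F) : Matrix (Fin d) (Fin d) F)ᵀ *ᵥ (v ∘ Sum.inr)) i := by
  rw [hypMat_apply, fromBlocks_mulVec]
  simp

theorem hyp_map_U_le (A : GL (Fin d) F) :
    (stdU d F).map (Matrix.toLin' (hypMat F d A)) ≤ stdU d F := by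
  rintro _ ⟨v, hv, rfl⟩ i
  rw [Matrix.toLin'_apply, hyp_mulVec_inr]
  have : v ∘ Sum.inr = 0 := by
    funext j
    exact hv j
  rw [this, Matrix.mulVec_zero]
  rfl

theorem hyp_map_W_le (A : GL (Fin d) F) :
    (stdW d F).map (Matrix.toLin' (hypMat F d A)) ≤ stdW d F := by
  rintro _ ⟨v, hv, rfl⟩ i
  rw [Matrix.toLin'_apply, hyp_mulVec_inl]
  have : v ∘ Sum.inl = 0 := by
    funext j
    exact hv j
  rw [this, Matrix.mulVec_zero]
  rfl

theorem hyp_cancel (A : GL (Fin d) F) (v : Fin d ⊕ Fin d → F) :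
    Matrix.toLin' (hypMat F d A) (Matrix.toLin' (hypMat F d A⁻¹) v) = v := by
  rw [← LinearMap.comp_apply, ← Matrix.toLin'_mul, ← map_mul, mul_inv_cancel, map_one,
    Matrix.toLin'_one]
  rfl

theorem hyp_map_U (A : GL (Fin d) F) :
    (stdU d F).map (Matrix.toLin' (hypMat F d A)) = stdU d F := by
  apply le_antisymm (hyp_map_U_le A)
  intro v hv
  exact ⟨Matrix.toLin' (hypMat F d A⁻¹) v, hyp_map_U_le A⁻¹ ⟨v, hv, rfl⟩, hyp_cancel A v⟩

theorem hyp_map_W (A : GL (Fin d) F) :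
    (stdW d F).map (Matrix.toLin' (hypMat F d A)) = stdW d F := by
  apply le_antisymm (hyp_map_W_le A)
  intro v hv
  exact ⟨Matrix.toLin' (hypMat F d A⁻¹) v, hyp_map_W_le A⁻¹ ⟨v, hv, rfl⟩, hyp_cancel A v⟩

/-- a symplectic matrix stabilizing the standard pair is `diag(A, A⁻ᵀ)` -/
theorem exists_hyp (g : Matrix.symplecticGroup (Fin d) F)
    (hU : (stdU d F).map (Matrix.toLin' (g : Matrix (Fin d ⊕ Fin d) (Fin d ⊕ Fin d) F)) = stdU d F)
    (hW : (stdW d F).map (Matrix.toLin' (g : Matrix (Fin d ⊕ Fin d) (Fin d ⊕ Fin d) F)) = stdW d F) :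
    ∃ A : GL (Fin d) F, hypMat F d A = (g : Matrix (Fin d ⊕ Fin d) (Fin d ⊕ Fin d) F) := by
  classical
  set M : Matrix (Fin d ⊕ Fin d) (Fin d ⊕ Fin d) F :=
    (g : Matrix (Fin d ⊕ Fin d) (Fin d ⊕ Fin d) F) with hM
  have h21 : M.toBlocks₂₁ = 0 := by
    ext i j
    have h1 : Matrix.toLin' M (Pi.single (Sum.inl j) 1) ∈ stdU d F := by
      rw [← hU]
      refine ⟨_, ?_, rfl⟩
      intro k
      simp
    have := h1 i
    rw [Matrix.toLin'_apply, Matrix.mulVec_single_one] at this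
    exact this
  have h12 : M.toBlocks₁₂ = 0 := by
    ext i j
    have h1 : Matrix.toLin' M (Pi.single (Sum.inr j) 1) ∈ stdW d F := by
      rw [← hW]
      refine ⟨_, ?_, rfl⟩
      intro k
      simp
    have := h1 i
    rw [Matrix.toLin'_apply, Matrix.mulVec_single_one] at this
    exact this
  have hMb : M = fromBlocks M.toBlocks₁₁ 0 0 M.toBlocks₂₂ := by
    conv_lhs => rw [← Matrix.fromBlocks_toBlocks M]
    rw [h12, h21]
  have hsp := g.2
  rw [_root_.SymplecticGroup.mem_iff] at hsp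
  change M * J (Fin d) F * Mᵀ = J (Fin d) F at hsp
  rw [hMb, Matrix.J, fromBlocks_transpose, fromBlocks_multiply, fromBlocks_multiply] at hsp
  simp only [Matrix.mul_zero, Matrix.zero_mul, add_zero, zero_add, Matrix.mul_one, Matrix.mul_neg,
    Matrix.neg_mul, transpose_zero, neg_zero] at hsp
  have h3 := (fromBlocks_inj.mp hsp).2.1
  have hAD : M.toBlocks₁₁ * M.toBlocks₂₂ᵀ = 1 := by
    rw [← neg_inj]
    exact h3
  have hDA : M.toBlocks₂₂ᵀ * M.toBlocks₁₁ = 1 := mul_eq_one_comm.1 hAD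
  refine ⟨⟨M.toBlocks₁₁, M.toBlocks₂₂ᵀ, hAD, hDA⟩, ?_⟩
  rw [hypMat_apply]
  conv_rhs => rw [hMb]
  congr 1

theorem card_stab [Fintype F] (d : ℕ) :
    Nat.card {g : Matrix.symplecticGroup (Fin d) F //
      (stdU d F).map (Matrix.toLin' (g : Matrix (Fin d ⊕ Fin d) (Fin d ⊕ Fin d) F)) = stdU d F ∧
      (stdW d F).map (Matrix.toLin' (g : Matrix (Fin d ⊕ Fin d) (Fin d ⊕ Fin d) F)) = stdW d F} =
    Nat.card (GL (Fin d) F) := by
  symm
  apply Nat.card_congr
  refine Equiv.ofBijective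
    (fun A => ⟨⟨hypMat F d A, hypMat_mem_symplectic F d A⟩, hyp_map_U A, hyp_map_W A⟩) ⟨?_, ?_⟩
  · intro A B h
    apply hypMat_injective F d
    have := congrArg (fun x => ((x.1 : Matrix.symplecticGroup (Fin d) F) :
      Matrix (Fin d ⊕ Fin d) (Fin d ⊕ Fin d) F)) h
    exact this
  · rintro ⟨g, hU, hW⟩
    obtain ⟨A, hA⟩ := exists_hyp g hU hW
    refine ⟨A, ?_⟩
    apply Subtype.ext
    apply Subtype.ext
    exact hA

end Cfsg.Agent.Lib.Carve.L2
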