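import Mathlib
import Cfsg.Prelude.Def_Sporadic_a
import Cfsg.Agent.Lib.Helper9.M24Cand

set_option autoImplicit false
open Cfsg

/-! Validity of product tables without a Boolean check; a cheaper pattern certificate. -/

namespace Cfsg.Agent.Lib.Helper9.M24

theorem tabOK_of_nodup {c : List ℕ} (hlen : c.length = 24) (hlt : ∀ x ∈ c, x < 24) (hnd : c.Nodup) :
    tabOK c = true := by
  rw [tabOK_iff]
  have hmem : ∀ i < 24, i ∈ c := by
    intro i hi
    have hsub : c.toFinset ⊆ Finset.range 24 :=
      fun x hx => Finset.mem_range.mpr (hlt x (List.mem_toFinset.mp hx))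
    have hcard : c.toFinset.card = 24 := by rw [List.toFinset_card_of_nodup hnd, hlen]
    have := Finset.eq_of_subset_of_card_le hsub (by rw [Finset.card_range, hcard])
    have hi' : i ∈ Finset.range 24 := Finset.mem_range.mpr hi
    rw [← this] at hi'
    exact List.mem_toFinset.mp hi'
  have hget : ∀ i (hi : i < 24), tget c i = c.get ⟨i, by omega⟩ := by
    intro i hi
    unfold tget
    rw [List.getD_eq_getElem _ _ (by omega)]
    rfl
  have hinv : ∀ j < 24, tget (tinv c) j = c.idxOf j := by
    intro j hj
    unfold tinv tget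
    rw [List.getD_eq_getElem?_getD, List.getElem?_map, List.getElem?_range hj]
    rfl
  intro i hi
  have hci : tget c i < 24 := by
    rw [hget i hi]
    exact hlt _ (List.get_mem _ _)
  refine ⟨hci, ?_, ?_, ?_⟩
  · rw [hinv _ hci, hget i hi]
    exact List.get_idxOf hnd ⟨i, by omega⟩
  · rw [hinv i hi]
    have := List.idxOf_lt_length_of_mem (hmem i hi)
    omega
  · rw [hinv i hi]
    have hlt' := List.idxOf_lt_length_of_mem (hmem i hi)
    rw [hget _ (by omega)]
    exact List.idxOf_get hlt'

/-- The product of two valid tables is valid. -/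
theorem tabOK_tmul {a b : List ℕ} (ha : tabOK a = true) (hb : tabOK b = true) : tabOK (tmul a b) = true := by
  apply tabOK_of_nodup
  · unfold tmul
    rw [List.length_map, List.length_range]
  · intro x hx
    unfold tmul at hx
    rw [List.mem_map] at hx
    obtain ⟨i, hi, rfl⟩ := hx
    rw [List.mem_range] at hi
    exact tget_lt ha (tget_lt hb hi)
  · unfold tmul
    apply List.Nodup.map_on _ List.nodup_range
    intro i hi j hj hij
    rw [List.mem_range] at hi hj
    exact tget_inj hb hi hj (tget_inj ha (tget_lt hb hi) (tget_lt hb hj) hij)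

/-- A cheaper certificate for a pattern element. -/
def patOK' (u : List ℕ) : Bool := tabOK u && tabM24 u

theorem patOK_of_patOK' {u : List ℕ} (h : patOK' u = true) : patOK u = true := by
  unfold patOK' at h
  rw [Bool.and_eq_true] at h
  unfold patOK
  rw [Bool.and_eq_true, Bool.and_eq_true, List.all_eq_true]
  exact ⟨⟨h.1, h.2⟩, fun f hf => tabOK_tmul h.1 (F48_mem hf).1⟩

end Cfsg.Agent.Lib.Helper9.M24
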