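import Mathlib
import Cfsg.Prelude.Def_Sporadic_a
import Cfsg.Agent.Lib.Helper9.M24Cand
import Cfsg.Agent.Lib.Helper9.TabPerm2

set_option autoImplicit false
open Cfsg

/-! Tools for computing centralizers and normalizers in the group of the code: commuting tables, a generic
orbit–stabilizer count, and candidate enumeration from patterns on the five base points. -/

namespace Cfsg.Agent.Lib.Helper9.M24

open scoped Pointwise

theorem comm_of_commOK {a b : List ℕ} (ha : tabOK a = true) (hb : tabOK b = true)
    (h : commOK a b = true) : tperm a * tperm b = tperm b * tperm a := by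
  apply Equiv.ext
  intro p
  apply natOfPt_injective
  rw [Equiv.Perm.mul_apply, Equiv.Perm.mul_apply, natOfPt_tperm ha, natOfPt_tperm hb, natOfPt_tperm hb,
    natOfPt_tperm ha]
  unfold commOK at h
  rw [List.all_eq_true] at h
  have := h (natOfPt p) (List.mem_range.mpr (natOfPt_lt p))
  rw [beq_iff_eq] at this
  exact this

/-- The first 24 entries of a table. -/
def tkey (a : List ℕ) : List ℕ := (List.range 24).map (tget a)

theorem tkey_eq_of_tperm_eq {a b : List ℕ} (ha : tabOK a = true) (hb : tabOK b = true)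
    (h : tperm a = tperm b) : tkey a = tkey b := by
  unfold tkey
  apply List.map_congr_left
  intro i hi
  rw [List.mem_range] at hi
  have h1 := natOfPt_tperm ha (ptOfNat i)
  have h2 := natOfPt_tperm hb (ptOfNat i)
  rw [natOfPt_ptOfNat i hi] at h1 h2
  rw [← h1, ← h2, h]

/-- Generic orbit–stabilizer count for a subgroup of the permutations of the points. -/
theorem card_eq_orbit_mul (K : Subgroup (Equiv.Perm GolayPt)) (x : GolayPt) (T : Finset GolayPt)
    (hsub : ∀ g ∈ K, g x ∈ T) (hsup : ∀ y ∈ T, ∃ g ∈ K, g x = y) :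
    Nat.card K = T.card * Nat.card ↥(K ⊓ MulAction.stabilizer (Equiv.Perm GolayPt) x) := by
  have horb : MulAction.orbit K x = (T : Set GolayPt) := by
    ext y
    constructor
    · rintro ⟨g, rfl⟩
      exact hsub g.1 g.2
    · intro hy
      obtain ⟨g, hg, hgy⟩ := hsup y hy
      exact ⟨⟨g, hg⟩, hgy⟩
  have h1 : Nat.card (MulAction.orbit K x) = T.card := by
    rw [horb, Nat.card_coe_set_eq, Set.ncard_coe_finset]
  have h2 : Nat.card (MulAction.stabilizer K x) =
      Nat.card ↥(K ⊓ MulAction.stabilizer (Equiv.Perm GolayPt) x) := by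
    refine Nat.card_congr
      { toFun := fun g => ⟨(g.1 : Equiv.Perm GolayPt), ⟨g.1.2, ?_⟩⟩
        invFun := fun g => ⟨⟨g.1, g.2.1⟩, ?_⟩
        left_inv := fun g => rfl
        right_inv := fun g => rfl }
    · show (g.1 : Equiv.Perm GolayPt) ∈ MulAction.stabilizer (Equiv.Perm GolayPt) x
      rw [MulAction.mem_stabilizer_iff]
      exact g.2
    · rw [MulAction.mem_stabilizer_iff]
      have h2 : (g.1 : Equiv.Perm GolayPt) ∈ MulAction.stabilizer (Equiv.Perm GolayPt) x := g.2.2
      rw [MulAction.mem_stabilizer_iff] at h2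
      exact h2
  rw [← Nat.card_congr (MulAction.orbitProdStabilizerEquivGroup K x), Nat.card_prod, h1, h2]

/-- The centralizer of `t` in the group of the code. -/
def centM (t : Equiv.Perm GolayPt) : Subgroup (Equiv.Perm GolayPt) where
  carrier := {c | c ∈ M24 ∧ c * t = t * c}
  mul_mem' := by
    rintro a b ⟨ha, hat⟩ ⟨hb, hbt⟩
    refine ⟨Subgroup.mul_mem _ ha hb, ?_⟩
    rw [mul_assoc, hbt, ← mul_assoc, hat, mul_assoc]
  one_mem' := ⟨Subgroup.one_mem _, by rw [one_mul, mul_one]⟩
  inv_mem' := by
    rintro a ⟨ha, hat⟩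
    refine ⟨Subgroup.inv_mem _ ha, ?_⟩
    rw [inv_mul_eq_iff_eq_mul, ← mul_assoc, hat, mul_assoc, mul_inv_cancel, mul_one]

theorem mem_centM {t c : Equiv.Perm GolayPt} : c ∈ centM t ↔ c ∈ M24 ∧ c * t = t * c := Iff.rfl

theorem card_centM (t : Equiv.Perm GolayPt) :
    Nat.card {c : Equiv.Perm GolayPt // c ∈ M24 ∧ c * t = t * c} = Nat.card ↥(centM t) := rfl

/-- An element commuting with `tperm t` intertwines the table. -/
theorem comm_apply {t : List ℕ} (ht : tabOK t = true) {c : Equiv.Perm GolayPt}
    (hc : c * tperm t = tperm t * c) (p : GolayPt) :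
    natOfPt (c (tperm t p)) = tget t (natOfPt (c p)) := by
  have := congrArg (fun f : Equiv.Perm GolayPt => natOfPt (f p)) hc
  simp only [Equiv.Perm.mul_apply] at this
  rw [this, natOfPt_tperm ht]

/-- Candidates: an element of the centralizer agreeing with a pattern on the base points is one of the 48
candidates, and the candidate table commutes. -/
theorem cent_candidates {t u : List ℕ} (ht : tabOK t = true) (hu : patOK' u = true) {g : Equiv.Perm GolayPt}
    (hg : g ∈ centM (tperm t))
    (h0 : natOfPt (g none) = tget u 23) (h1 : natOfPt (g (some 0)) = tget u 0)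
    (h2 : natOfPt (g (some 1)) = tget u 1) (h3 : natOfPt (g (some 2)) = tget u 2)
    (h4 : natOfPt (g (some 3)) = tget u 3) :
    ∃ f ∈ F48, tabOK (tmul u f) = true ∧ commOK (tmul u f) t = true ∧ g = tperm (tmul u f) := by
  obtain ⟨f, hf, hok, hgf⟩ := pattern_cases (patOK_of_patOK' hu) hg.1 h0 h1 h2 h3 h4
  refine ⟨f, hf, hok, ?_, hgf⟩
  apply commOK_of_comm hok ht
  rw [← hgf]
  exact hg.2

end Cfsg.Agent.Lib.Helper9.M24
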