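import Mathlib
import Cfsg.Agent.S5913

set_option autoImplicit false

namespace Cfsg.Agent.H9CharSimple

variable {S : Type*} [Group S]

/-- coordinate permutation automorphism -/
def permAut (n : ℕ) (σ : Equiv.Perm (Fin n)) : (Fin n → S) ≃* (Fin n → S) where
  toFun y := fun i => y (σ i)
  invFun y := fun i => y (σ.symm i)
  left_inv y := by funext i; simp
  right_inv y := by funext i; simp
  map_mul' _ _ := rfl

theorem permAut_mulSingle (n : ℕ) (i j : Fin n) (s : S) :
    permAut n (Equiv.swap i j) (Pi.mulSingle i s) = Pi.mulSingle j s := by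
  funext k
  change (Pi.mulSingle i s : Fin n → S) (Equiv.swap i j k) = _
  rw [Pi.mulSingle_apply, Pi.mulSingle_apply]
  by_cases hk : k = j
  · subst hk; simp
  · rw [if_neg hk, if_neg]
    intro h
    apply hk
    have := congrArg (Equiv.swap i j) h
    simpa using this

/-- transvection automorphism (abelian case) -/
def transv (hc : ∀ a b : S, a * b = b * a) (n : ℕ) (i j : Fin n) (hij : i ≠ j) :
    (Fin n → S) ≃* (Fin n → S) where
  toFun y := y * Pi.mulSingle j (y i)
  invFun y := y * Pi.mulSingle j (y i)⁻¹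
  left_inv y := by
    funext k
    simp only [Pi.mul_apply, Pi.mulSingle_apply, if_neg hij, mul_one]
    split_ifs <;> simp
  right_inv y := by
    funext k
    simp only [Pi.mul_apply, Pi.mulSingle_apply, if_neg hij, mul_one]
    split_ifs <;> simp
  map_mul' a b := by
    funext k
    simp only [Pi.mul_apply, Pi.mulSingle_apply]
    split_ifs
    · rw [mul_assoc, mul_assoc, ← mul_assoc (b k), hc (b k) (a i), mul_assoc]
    · simp

theorem mulSingle_mem_of_abelian (hc : ∀ a b : S, a * b = b * a) [IsSimpleGroup S] (n : ℕ)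
    (K : Subgroup (Fin n → S))
    (hK : ∀ φ : (Fin n → S) ≃* (Fin n → S), ∀ y ∈ K, φ y ∈ K)
    (x : Fin n → S) (hx : x ∈ K) (i : Fin n) (hxi : x i ≠ 1) (j : Fin n) (t : S) :
    Pi.mulSingle j t ∈ K := by
  classical
  have hzn : (Subgroup.zpowers (x i)).Normal :=
    ⟨fun a ha g => by rw [hc g a, mul_inv_cancel_right]; exact ha⟩
  have hztop : Subgroup.zpowers (x i) = ⊤ := by
    rcases hzn.eq_bot_or_eq_top with h | h
    · exfalso; apply hxi
      have : x i ∈ Subgroup.zpowers (x i) := Subgroup.mem_zpowers _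
      rw [h, Subgroup.mem_bot] at this; exact this
    · exact h
  have hpow : ∀ j : Fin n, Pi.mulSingle j (x i) ∈ K → ∀ t, Pi.mulSingle j t ∈ K := by
    intro j hj t
    have ht : t ∈ Subgroup.zpowers (x i) := by rw [hztop]; trivial
    obtain ⟨k, rfl⟩ := Subgroup.mem_zpowers_iff.mp ht
    have : (Pi.mulSingle j (x i ^ k) : Fin n → S) = (Pi.mulSingle j (x i)) ^ k :=
      map_zpow (MonoidHom.mulSingle (fun _ : Fin n => S) j) (x i) k
    rw [this]
    exact K.zpow_mem hj k
  have hne : ∀ j : Fin n, j ≠ i → ∀ t, Pi.mulSingle j t ∈ K := by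
    intro j hj t
    apply hpow
    have h1 : transv hc n i j (Ne.symm hj) x ∈ K := hK _ x hx
    have h2 : x⁻¹ * transv hc n i j (Ne.symm hj) x ∈ K := K.mul_mem (K.inv_mem hx) h1
    have h3 : x⁻¹ * transv hc n i j (Ne.symm hj) x = Pi.mulSingle j (x i) := by
      change x⁻¹ * (x * Pi.mulSingle j (x i)) = _
      rw [inv_mul_cancel_left]
    rw [h3] at h2; exact h2
  by_cases hj : j = i
  · subst hj
    apply hpow
    let z : Fin n → S := fun k => if k = j then 1 else (x k)⁻¹
    have hz : z ∈ K := by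
      rw [← Finset.noncommProd_mulSingle z]
      apply Subgroup.noncommProd_mem
      intro k _
      by_cases hk : k = j
      · have : z k = 1 := by simp [z, hk]
        rw [this, Pi.mulSingle_one]; exact K.one_mem
      · exact hne k hk _
    have h4 : x * z = Pi.mulSingle j (x j) := by
      funext k
      simp only [Pi.mul_apply, Pi.mulSingle_apply, z]
      split_ifs with h
      · subst h; simp
      · simp
    rw [← h4]
    exact K.mul_mem hx hz
  · exact hne j hj t

theorem mulSingle_mem_of_nonabelian (hS : ¬ IsMulCommutative S) [IsSimpleGroup S] (n : ℕ)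
    (K : Subgroup (Fin n → S))
    (hK : ∀ φ : (Fin n → S) ≃* (Fin n → S), ∀ y ∈ K, φ y ∈ K)
    (x : Fin n → S) (hx : x ∈ K) (i : Fin n) (hxi : x i ≠ 1) (j : Fin n) (t : S) :
    Pi.mulSingle j t ∈ K := by
  classical
  have hKn : K.Normal := by
    refine ⟨fun a ha g => ?_⟩
    have := hK (MulAut.conj g) a ha
    simpa using this
  have h1 : Pi.mulSingle i t ∈ K := Cfsg.Agent.S5913.mulSingle_mem hS n K i x hx hxi t
  have h2 := hK (permAut n (Equiv.swap i j)) _ h1
  rw [permAut_mulSingle] at h2
  exact h2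

theorem invariant_eq_bot_or_top [IsSimpleGroup S] (n : ℕ)
    (K : Subgroup (Fin n → S))
    (hK : ∀ φ : (Fin n → S) ≃* (Fin n → S), ∀ y ∈ K, φ y ∈ K) : K = ⊥ ∨ K = ⊤ := by
  classical
  by_cases hb : K = ⊥
  · exact Or.inl hb
  · right
    obtain ⟨x, hx, hx1⟩ := (Subgroup.ne_bot_iff_exists_ne_one.mp hb |>.imp
      (fun a ha => ha)) |> fun ⟨a, ha⟩ => (⟨a.1, a.2, fun h => ha (Subtype.ext h)⟩ :
        ∃ x : Fin n → S, x ∈ K ∧ x ≠ 1)
    have : ∃ i, x i ≠ 1 := by
      by_contra hcon
      push Not at hcon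
      exact hx1 (funext hcon)
    obtain ⟨i, hxi⟩ := this
    have hall : ∀ j t, (Pi.mulSingle j t : Fin n → S) ∈ K := by
      by_cases hS : IsMulCommutative S
      · intro j t
        exact mulSingle_mem_of_abelian (fun a b => hS.is_comm.comm a b) n K hK x hx i hxi j t
      · intro j t
        exact mulSingle_mem_of_nonabelian hS n K hK x hx i hxi j t
    rw [eq_top_iff]
    intro y _
    rw [← Finset.noncommProd_mulSingle y]
    apply Subgroup.noncommProd_mem
    intro k _
    exact hall k _

end Cfsg.Agent.H9CharSimple
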