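import Mathlib

set_option autoImplicit false
set_option linter.style.haveILetI false
set_option linter.unusedSectionVars false
set_option linter.deprecated false

/-! S4751, package K5: a finite group `G` with a normal four-group `P`, `C_G(P) = P × Z(G)`,
`|Z(G)|` odd and `6 ∣ |G : C_G(P)|` is `H × Z(G)` with `H ≃* S₄`.

The recognition lemmas `k5_perm_iso`, `k5_perm_four_sq`, `k5_perm_sq_of_card_four`,
`k5_iso_perm_four_of_normal_four` are copies (under fresh names, to keep the import closure small)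
of helper7's `D8Cent.perm_iso` and `Sims3.iso_perm_four_of_normal_four`. -/

namespace Cfsg.Agent.Lib.Helper8.Chr8

universe u

/-- a group of order `n!` acting faithfully on the `n` cosets of a subgroup is symmetric -/
theorem k5_perm_iso {G : Type*} [Group G] [Finite G] (H : Subgroup G) (n : ℕ) (hidx : H.index = n)
    (hcore : H.normalCore = ⊥) (hcard : Nat.card G = n.factorial) :
    Nonempty (G ≃* Equiv.Perm (Fin n)) := by
  classical
  have hn0 : n ≠ 0 := by
    rw [← hidx]; exact Subgroup.index_ne_zero_of_finite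
  have hinj : Function.Injective (MulAction.toPermHom G (G ⧸ H)) := by
    rw [← MonoidHom.ker_eq_bot_iff, ← Subgroup.normalCore_eq_ker, hcore]
  have hc : Nat.card (G ⧸ H) = n := by rw [← Subgroup.index_eq_card, hidx]
  have hcard' : Nat.card (Equiv.Perm (G ⧸ H)) = Nat.card G := by
    rw [Nat.card_perm, hc, hcard]
  have hbij : Function.Bijective (MulAction.toPermHom G (G ⧸ H)) := by
    rw [Nat.bijective_iff_injective_and_card]
    exact ⟨hinj, hcard'.symm⟩
  have e1 : G ≃* Equiv.Perm (G ⧸ H) := MulEquiv.ofBijective _ hbij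
  have e2 : (G ⧸ H) ≃ Fin n := by
    haveI : Fintype (G ⧸ H) := Fintype.ofFinite _
    apply Fintype.equivFinOfCardEq
    rw [← Nat.card_eq_fintype_card, hc]
  exact ⟨e1.trans e2.permCongrHom⟩


theorem k5_perm_four_sq : ∀ (τ : Equiv.Perm (Fin 4)) (i j : Fin 4), i ≠ j → τ i = i → τ j = j →
    τ * τ = 1 := by decide

theorem k5_perm_sq_of_card_four {α : Type*} [Finite α] (hα : Nat.card α = 4) (σ : Equiv.Perm α)
    (a b : α) (hab : a ≠ b) (ha : σ a = a) (hb : σ b = b) : σ * σ = 1 := by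
  haveI : Fintype α := Fintype.ofFinite α
  have e : α ≃ Fin 4 := by
    apply Fintype.equivFinOfCardEq
    rw [← Nat.card_eq_fintype_card, hα]
  have h1 : (e.permCongrHom σ) (e a) = e a := by simp [Equiv.permCongrHom, ha]
  have h1' : (e.permCongrHom σ) (e b) = e b := by simp [Equiv.permCongrHom, hb]
  have h2 := k5_perm_four_sq (e.permCongrHom σ) (e a) (e b) (fun h => hab (e.injective h)) h1 h1'
  rw [← map_mul] at h2
  exact (MulEquiv.map_eq_one_iff e.permCongrHom).1 h2

variable {X : Type*} [Group X] [Finite X]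


/-- a group of order 24 with a self-centralising normal subgroup of order 4 is `S₄` -/
theorem k5_iso_perm_four_of_normal_four (hX : Nat.card X = 24) (Q : Subgroup X) [hQn : Q.Normal]
    (hQ : Nat.card Q = 4) (hC : ∀ g : X, (∀ q ∈ Q, g * q = q * g) → g ∈ Q) :
    Nonempty (X ≃* Equiv.Perm (Fin 4)) := by
  haveI : Fact (Nat.Prime 3) := ⟨Nat.prime_three⟩
  obtain ⟨T⟩ : Nonempty (Sylow 3 X) := inferInstance
  have h1 : Nat.card (Sylow 3 X) ≡ 1 [MOD 3] := card_sylow_modEq_one 3 X
  have h2 : Nat.card (Sylow 3 X) ∣ (T : Subgroup X).index := T.card_dvd_index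
  have h3 : Nat.card (Sylow 3 X) = (Subgroup.normalizer ((T : Subgroup X) : Set X)).index :=
    T.card_eq_index_normalizer
  have h4 : ¬ 3 ∣ (T : Subgroup X).index := T.not_dvd_index
  have h5 : (T : Subgroup X).index ∣ 8 := by
    have : (T : Subgroup X).index ∣ 3 * 8 := by
      rw [show 3 * 8 = 24 from rfl, ← hX]; exact Subgroup.index_dvd_card _
    exact Nat.Coprime.dvd_of_dvd_mul_left
      ((Nat.Prime.coprime_iff_not_dvd Nat.prime_three).2 h4).symm this
  have h6 : Nat.card (Sylow 3 X) ∣ 8 := h2.trans h5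
  have h7 : Nat.card (Sylow 3 X) ≤ 8 := Nat.le_of_dvd (by norm_num) h6
  have h8 : Nat.card (Sylow 3 X) = 1 ∨ Nat.card (Sylow 3 X) = 4 := by
    have key : ∀ n : ℕ, n ≤ 8 → n ∣ 8 → n % 3 = 1 % 3 → n = 1 ∨ n = 4 := by decide
    exact key _ h7 h6 h1
  -- `T ∩ Q = 1`
  have hTQ : (T : Subgroup X) ⊓ Q = ⊥ := by
    apply Subgroup.inf_eq_bot_of_coprime
    obtain ⟨n, hn⟩ := IsPGroup.iff_card.mp T.isPGroup'
    rw [hn, hQ]
    exact Nat.Coprime.pow_left n (by norm_num)
  have hTne : (T : Subgroup X) ≠ ⊥ := by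
    intro h
    apply h4
    rw [h, Subgroup.index_bot, hX]; norm_num
  -- an element of `T` centralising `Q` is trivial
  have hTC : ∀ t ∈ (T : Subgroup X), (∀ q ∈ Q, t * q = q * t) → t = 1 := by
    intro t ht hc
    have : t ∈ (T : Subgroup X) ⊓ Q := ⟨ht, hC t hc⟩
    rwa [hTQ, Subgroup.mem_bot] at this
  have hidx : (Subgroup.normalizer ((T : Subgroup X) : Set X)).index = 4 := by
    rcases h8 with h9 | h9
    · exfalso
      rw [h3, Subgroup.index_eq_one, Subgroup.normalizer_eq_top_iff] at h9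
      apply hTne
      rw [Subgroup.eq_bot_iff_forall]
      intro t ht
      apply hTC t ht
      intro q hq
      exact (Subgroup.commute_of_normal_of_disjoint _ _ h9 hQn (disjoint_iff.2 hTQ) t q ht hq).eq
    · rw [← h3]; exact h9
  apply k5_perm_iso _ 4 hidx _ (by rw [hX]; rfl)
  -- the core is trivial
  set K := (Subgroup.normalizer ((T : Subgroup X) : Set X)).normalCore with hK
  have hKn : K.Normal := Subgroup.normalCore_normal _
  have hcardH : Nat.card (Subgroup.normalizer ((T : Subgroup X) : Set X)) = 6 := by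
    have h11 := (Subgroup.normalizer ((T : Subgroup X) : Set X)).card_mul_index
    rw [hidx, hX] at h11
    omega
  have hKQ : K ⊓ Q = ⊥ := by
    by_contra hne
    have hd1 : Nat.card (K ⊓ Q : Subgroup X) ∣ 6 := by
      rw [← hcardH]
      exact Subgroup.card_dvd_of_le (inf_le_left.trans (Subgroup.normalCore_le _))
    have hd2 : Nat.card (K ⊓ Q : Subgroup X) ∣ 4 := by
      rw [← hQ]; exact Subgroup.card_dvd_of_le inf_le_right
    have hd3 : Nat.card (K ⊓ Q : Subgroup X) ∣ 2 := by
      have := Nat.dvd_gcd hd1 hd2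
      simpa using this
    have hc2 : Nat.card (K ⊓ Q : Subgroup X) = 2 := by
      rcases (Nat.dvd_prime Nat.prime_two).1 hd3 with h | h
      · exact absurd (Subgroup.card_eq_one.1 h) hne
      · exact h
    obtain ⟨⟨z, hz⟩, hz1⟩ := (Subgroup.ne_bot_iff_exists_ne_one).1 hne
    have hz1' : z ≠ 1 := fun h => hz1 (Subtype.ext h)
    have hKQn : (K ⊓ Q).Normal := inferInstance
    -- every element of `K ⊓ Q` is `1` or `z`
    have hmem : ∀ y ∈ K ⊓ Q, y ≠ 1 → y = z := by
      intro y hy hy1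
      obtain ⟨w, -, hw⟩ := (Nat.card_eq_two_iff' (1 : ↥(K ⊓ Q))).1 hc2
      have e1 := hw ⟨y, hy⟩ (fun h => hy1 (by simpa using congrArg Subtype.val h))
      have e2 := hw ⟨z, hz⟩ hz1
      have := congrArg Subtype.val (e1.trans e2.symm)
      simpa using this
    -- `z` is central
    have hzc : ∀ g : X, g * z * g⁻¹ = z := by
      intro g
      apply hmem _ (hKQn.conj_mem z hz g)
      intro h
      apply hz1'
      have : g⁻¹ * (g * z * g⁻¹) * g = g⁻¹ * 1 * g := by rw [h]
      simpa [mul_assoc] using this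
    obtain ⟨t, ht1⟩ := (Subgroup.ne_bot_iff_exists_ne_one).1 hTne
    apply ht1
    have ht1' : (t : X) ≠ 1 := fun h => ht1 (Subtype.ext h)
    have hsq : ((MulAut.conjNormal (H := Q) (t : X)).toEquiv : Equiv.Perm ↥Q) *
        ((MulAut.conjNormal (H := Q) (t : X)).toEquiv : Equiv.Perm ↥Q) = 1 := by
      apply k5_perm_sq_of_card_four hQ _ (1 : ↥Q) ⟨z, hz.2⟩
      · intro h; apply hz1'; simpa using (congrArg Subtype.val h).symm
      · simp
      · apply Subtype.ext
        simp only [MulEquiv.toEquiv_eq_coe, MulEquiv.coe_toEquiv, MulAut.conjNormal_apply]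
        exact hzc _
    have htt : (t : X) * (t : X) = 1 := by
      apply hTC _ (mul_mem t.2 t.2)
      intro q hq
      have := congrArg (fun σ : Equiv.Perm ↥Q => ((σ ⟨q, hq⟩ : ↥Q) : X)) hsq
      simp only [MulEquiv.toEquiv_eq_coe, Equiv.Perm.coe_mul, Function.comp_apply,
        MulEquiv.coe_toEquiv, MulAut.conjNormal_apply, Equiv.Perm.coe_one, id_eq] at this
      have h2 : (t : X) * (t : X) * q * ((t : X) * (t : X))⁻¹ = q := by
        rw [mul_inv_rev]; simpa [mul_assoc] using this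
      calc (t : X) * (t : X) * q = (t : X) * (t : X) * q * ((t : X) * (t : X))⁻¹ * ((t : X) * (t : X)) := by
            group
        _ = q * ((t : X) * (t : X)) := by rw [h2]
    obtain ⟨n, hn⟩ := (IsPGroup.iff_orderOf.1 T.isPGroup') t
    have ho2 : orderOf (t : X) ∣ 2 := orderOf_dvd_of_pow_eq_one (by rw [pow_two]; exact htt)
    have ho3 : orderOf (t : X) ∣ 3 ^ n := by
      rw [← hn, Subgroup.orderOf_coe]
    have : orderOf (t : X) ∣ 1 := by
      have := Nat.dvd_gcd ho2 ho3
      rwa [Nat.Coprime.gcd_eq_one (Nat.Coprime.pow_right n (by norm_num))] at this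
    apply Subtype.ext
    simpa using orderOf_eq_one_iff.1 (Nat.dvd_one.1 this)
  -- `K` centralises `Q`
  rw [Subgroup.eq_bot_iff_forall]
  intro y hy
  have : y ∈ K ⊓ Q := by
    refine ⟨hy, hC y ?_⟩
    intro q hq
    exact (Subgroup.commute_of_normal_of_disjoint _ _ hKn hQn (disjoint_iff.2 hKQ) y q hy hq).eq
  rwa [hKQ, Subgroup.mem_bot] at this


/-- an element of a subgroup of odd order whose square is `1` is `1` -/
theorem k5_eq_one_of_sq {K : Type*} [Group K] (Z : Subgroup K) [Finite Z] (hZ : Odd (Nat.card Z))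
    {z : K} (hz : z ∈ Z) (h2 : z ^ 2 = 1) : z = 1 := by
  have h1 : orderOf (⟨z, hz⟩ : Z) ∣ 2 := by
    apply orderOf_dvd_of_pow_eq_one
    exact Subtype.ext (by simpa using h2)
  have h3 : orderOf (⟨z, hz⟩ : Z) ∣ Nat.card Z := orderOf_dvd_natCard _
  have h4 : Odd (orderOf (⟨z, hz⟩ : Z)) := hZ.of_dvd_nat h3
  have h5 : orderOf (⟨z, hz⟩ : Z) = 1 := by
    rcases (Nat.dvd_prime Nat.prime_two).mp h1 with h | h
    · exact h
    · rw [h] at h4; exact absurd h4 (by decide)
  have := orderOf_eq_one_iff.mp h5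
  exact congrArg Subtype.val this

/-- (the dihedral complement) -/
theorem k5_dihedral_inf {K : Type*} [Group K] (Z : Subgroup K) [Finite Z]
    (hZc : ∀ z ∈ Z, ∀ k : K, z * k = k * z) (hZ : Odd (Nat.card Z)) (s r : K) (hs : s ^ 2 = 1)
    (hsr : s * r * s⁻¹ = r⁻¹) :
    (Subgroup.zpowers s ⊔ Subgroup.zpowers r) ⊓ Z = ⊥ := by
  have hsinv : s⁻¹ = s := inv_eq_of_mul_eq_one_right (by rw [← pow_two]; exact hs)
  -- conjugation of powers
  have hconj : ∀ j : ℤ, s * r ^ j * s⁻¹ = (r ^ j)⁻¹ := by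
    intro j
    have : s * r ^ j * s⁻¹ = (s * r * s⁻¹) ^ j := by
      simp
    rw [this, hsr, inv_zpow]
  -- a central element inverted by `s` has square `1`
  have hsq : ∀ j : ℤ, r ^ j ∈ Z → (r ^ j) ^ 2 = 1 := by
    intro j hj
    have h1 := hconj j
    have h2 : s * r ^ j * s⁻¹ = r ^ j := by
      rw [← hZc (r ^ j) hj s, mul_inv_cancel_right]
    rw [h2] at h1
    rw [pow_two]
    nth_rw 1 [h1]
    exact inv_mul_cancel _
  rw [Subgroup.eq_bot_iff_forall]
  intro z hz
  obtain ⟨hzL, hzZ⟩ := Subgroup.mem_inf.mp hz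
  have hnorm : Subgroup.zpowers s ≤ Subgroup.normalizer ((Subgroup.zpowers r : Subgroup K) : Set K) := by
    rw [Subgroup.zpowers_le, Subgroup.mem_normalizer_iff]
    intro h
    constructor
    · intro hh
      obtain ⟨j, rfl⟩ := Subgroup.mem_zpowers_iff.mp hh
      rw [hconj j]
      exact Subgroup.inv_mem _ (Subgroup.zpow_mem_zpowers r j)
    · intro hh
      obtain ⟨j, hj⟩ := Subgroup.mem_zpowers_iff.mp hh
      have : h = s⁻¹ * (r ^ j) * s := by rw [hj]; group
      rw [this]
      have h3 : s⁻¹ * r ^ j * s = (r ^ j)⁻¹ := by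
        have := hconj j
        rw [hsinv] at this ⊢
        exact this
      rw [h3]
      exact Subgroup.inv_mem _ (Subgroup.zpow_mem_zpowers r j)
  have hset := Subgroup.coe_mul_of_left_le_normalizer_right (Subgroup.zpowers s)
    (Subgroup.zpowers r) hnorm
  have hzL' : z ∈ ((Subgroup.zpowers s ⊔ Subgroup.zpowers r : Subgroup K) : Set K) := hzL
  rw [hset] at hzL'
  obtain ⟨a, ha, b, hb, rfl⟩ := Set.mem_mul.mp hzL'
  obtain ⟨i, rfl⟩ := Subgroup.mem_zpowers_iff.mp ha
  obtain ⟨j, rfl⟩ := Subgroup.mem_zpowers_iff.mp hb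
  -- `s ^ i` is `1` or `s`
  have hsi : s ^ i = 1 ∨ s ^ i = s := by
    rcases Int.even_or_odd i with ⟨k, hk⟩ | ⟨k, hk⟩
    · left
      rw [hk, ← two_mul, zpow_mul, zpow_ofNat, hs, one_zpow]
    · right
      rw [hk, zpow_add, zpow_mul, zpow_ofNat, hs, one_zpow, one_mul, zpow_one]
  rcases hsi with h | h
  · rw [h, one_mul] at hzZ ⊢
    exact k5_eq_one_of_sq Z hZ hzZ (hsq j hzZ)
  · rw [h] at hzZ ⊢
    apply k5_eq_one_of_sq Z hZ hzZ
    have h1 := hconj j
    calc (s * r ^ j) ^ 2 = (s * r ^ j * s⁻¹) * (s * s) * r ^ j := by rw [pow_two]; group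
      _ = (r ^ j)⁻¹ * (s * s) * r ^ j := by rw [h1]
      _ = 1 := by rw [← pow_two, hs, mul_one, inv_mul_cancel]


/-- the stabilizer of a point in `Perm α`, `|α| = 4`, has order `6` -/
theorem k5_card_stabilizer {α : Type*} [Finite α] (hα : Nat.card α = 4) (a : α) :
    Nat.card (MulAction.stabilizer (Equiv.Perm α) a) = 6 := by
  have h1 : (MulAction.stabilizer (Equiv.Perm α) a).index = 4 := by
    rw [MulAction.index_stabilizer_of_transitive, hα]
  have h2 := (MulAction.stabilizer (Equiv.Perm α) a).card_mul_index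
  rw [h1, Nat.card_perm, hα] at h2
  have : (4 : ℕ).factorial = 24 := rfl
  omega

/-- `|A N| = |A| |N|` for a normal subgroup `N` meeting `A` trivially -/
theorem k5_card_sup {G : Type*} [Group G] [Finite G] (A N : Subgroup G) [N.Normal]
    (h : A ⊓ N = ⊥) : Nat.card (A ⊔ N : Subgroup G) = Nat.card A * Nat.card N := by
  have h1 := Subgroup.relIndex_sup_right A N
  have h2 : N.relIndex A = Nat.card A := by
    rw [← Subgroup.inf_relIndex_right, inf_comm, h, Subgroup.relIndex_bot_left]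
  have h3 := Subgroup.relIndex_mul_relIndex (⊥ : Subgroup G) N (A ⊔ N) bot_le le_sup_right
  rw [Subgroup.relIndex_bot_left, Subgroup.relIndex_bot_left, h1, h2] at h3
  rw [← h3, mul_comm]


section main

variable {G : Type u} [Group G] [Finite G] (P : Subgroup G) [hPn : P.Normal]

/-- the conjugation action of `G` on the normal subgroup `P`, as permutations of `P` -/
noncomputable def k5_psi : G →* Equiv.Perm ↥P :=
  (MulAut.toPerm ↥P).comp (MulAut.conjNormal (H := P))

theorem k5_psi_apply (g : G) (x : ↥P) : ((k5_psi P g) x : G) = g * x * g⁻¹ := by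
  change ((MulAut.conjNormal (H := P) g) x : G) = g * x * g⁻¹
  exact MulAut.conjNormal_apply g x

theorem k5_psi_ker : (k5_psi P).ker = Subgroup.centralizer (P : Set G) := by
  ext g
  rw [MonoidHom.mem_ker, Subgroup.mem_centralizer_iff]
  constructor
  · intro h x hx
    have := congrArg (fun σ : Equiv.Perm ↥P => ((σ ⟨x, hx⟩ : ↥P) : G)) h
    simp only [k5_psi_apply, Equiv.Perm.coe_one, id_eq] at this
    calc x * g = (g * x * g⁻¹) * g := by rw [this]
      _ = g * x := by group
  · intro h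
    ext x
    rw [k5_psi_apply, Equiv.Perm.coe_one, id_eq]
    have := h x x.2
    rw [← this, mul_inv_cancel_right]

/-- in a group of order `4` there are two distinct non-identity elements -/
theorem k5_exists_two {A : Type*} [Group A] [Finite A] (hA : Nat.card A = 4) :
    ∃ a b : A, a ≠ 1 ∧ b ≠ 1 ∧ a ≠ b := by
  classical
  haveI := Fintype.ofFinite A
  have hA' : Fintype.card A = 4 := by rw [← Nat.card_eq_fintype_card, hA]
  have h1 : ∃ a : A, a ≠ 1 := by
    by_contra h
    push Not at h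
    have : Fintype.card A ≤ 1 := Fintype.card_le_one_iff.mpr (fun x y => by rw [h x, h y])
    omega
  obtain ⟨a, ha⟩ := h1
  have h2 : ∃ b : A, b ≠ 1 ∧ b ≠ a := by
    by_contra h
    push Not at h
    have hsub : (Finset.univ : Finset A) ⊆ {1, a} := by
      intro x _
      by_cases hx : x = 1
      · rw [hx]; simp
      · rw [h x hx]; simp
    have := Finset.card_le_card hsub
    have h3 : ({1, a} : Finset A).card ≤ 2 := Finset.card_le_two
    rw [Finset.card_univ] at this
    omega
  obtain ⟨b, hb1, hba⟩ := h2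
  exact ⟨a, b, ha, hb1, fun h => hba h.symm⟩

theorem exists_s4_complement (hP4 : Nat.card P = 4) (hexp : ∀ x ∈ P, x ^ 2 = 1)
    (hC : Subgroup.centralizer (P : Set G) = P ⊔ Subgroup.center G)
    (hPZ : P ⊓ Subgroup.center G = ⊥) (hZ : Odd (Nat.card (Subgroup.center G)))
    (h6 : 6 ∣ (Subgroup.centralizer (P : Set G)).index) :
    ∃ H : Subgroup G, Nonempty (↥H ≃* Equiv.Perm (Fin 4)) ∧ H ⊓ Subgroup.center G = ⊥ ∧
      H ⊔ Subgroup.center G = ⊤ := by
  classical
  -- Step A: the action on `P`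
  have hker := k5_psi_ker P
  have hrange_le : (k5_psi P).range ≤ MulAction.stabilizer (Equiv.Perm ↥P) (1 : ↥P) := by
    rintro σ ⟨g, rfl⟩
    rw [MulAction.mem_stabilizer_iff, Equiv.Perm.smul_def]
    apply Subtype.ext
    rw [k5_psi_apply]
    simp
  have hstab := k5_card_stabilizer hP4 (1 : ↥P)
  have hcard_range : Nat.card (k5_psi P).range = 6 := by
    have h1 : Nat.card (k5_psi P).range ∣ 6 := by
      rw [← hstab]; exact Subgroup.card_dvd_of_le hrange_le
    have h2 : 6 ∣ Nat.card (k5_psi P).range := by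
      rw [← Subgroup.index_ker, hker]; exact h6
    exact Nat.dvd_antisymm h1 h2
  have hidx : (Subgroup.centralizer (P : Set G)).index = 6 := by
    rw [← hker, Subgroup.index_ker]; exact hcard_range
  have hrange : (k5_psi P).range = MulAction.stabilizer (Equiv.Perm ↥P) (1 : ↥P) :=
    Subgroup.eq_of_le_of_card_ge hrange_le (by rw [hstab, hcard_range])
  -- Step B: three non-identity elements of `P`
  obtain ⟨a, b, ha, hb, hab⟩ := k5_exists_two hP4
  have hsqP : ∀ x : ↥P, x * x = 1 := by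
    intro x
    apply Subtype.ext
    have := hexp x x.2
    rw [pow_two] at this
    simpa using this
  obtain ⟨c, hcdef⟩ : ∃ c : ↥P, c = a * b := ⟨_, rfl⟩
  have hc1 : c ≠ 1 := by
    intro h
    rw [hcdef] at h
    apply hab
    have h2 := hsqP b
    calc a = a * (b * b) := by rw [h2, mul_one]
      _ = (a * b) * b := by rw [mul_assoc]
      _ = b := by rw [h, one_mul]
  have hac : a ≠ c := by
    intro h
    apply hb
    rw [hcdef] at h
    have : a * 1 = a * b := by rw [mul_one]; exact h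
    exact (mul_left_cancel this).symm
  have hbc : b ≠ c := by
    intro h
    apply ha
    rw [hcdef] at h
    have : 1 * b = a * b := by rw [one_mul]; exact h
    exact (mul_right_cancel this).symm
  -- Step C: lifts of two transpositions
  have hmem1 : Equiv.swap a b ∈ (k5_psi P).range := by
    rw [hrange, MulAction.mem_stabilizer_iff, Equiv.Perm.smul_def]
    exact Equiv.swap_apply_of_ne_of_ne (Ne.symm ha) (Ne.symm hb)
  have hmem2 : Equiv.swap a c ∈ (k5_psi P).range := by
    rw [hrange, MulAction.mem_stabilizer_iff, Equiv.Perm.smul_def]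
    exact Equiv.swap_apply_of_ne_of_ne (Ne.symm ha) (Ne.symm hc1)
  obtain ⟨t₀, ht₀⟩ := hmem1
  obtain ⟨t₀', ht₀'⟩ := hmem2
  -- Step D: odd powers
  obtain ⟨k, hk⟩ : ∃ k : ℕ, k = Nat.card (Subgroup.center G) := ⟨_, rfl⟩
  have hkodd : Odd k := by rw [hk]; exact hZ
  -- `g ^ k ∈ P` for `g ∈ C_G(P)`
  have hCk : ∀ g ∈ Subgroup.centralizer (P : Set G), g ^ k ∈ P := by
    intro g hg
    rw [hC] at hg
    have hg' : g ∈ ((P ⊔ Subgroup.center G : Subgroup G) : Set G) := hg
    rw [Subgroup.mul_normal] at hg'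
    obtain ⟨x, hx, z, hz, rfl⟩ := Set.mem_mul.mp hg'
    have hcomm : Commute x z := Subgroup.mem_center_iff.mp hz x
    rw [hcomm.mul_pow]
    have hzk : z ^ k = 1 := by
      have := pow_card_eq_one' (G := ↥(Subgroup.center G)) (x := ⟨z, hz⟩)
      rw [← hk] at this
      have := congrArg Subtype.val this
      simpa using this
    rw [hzk, mul_one]
    exact P.pow_mem hx k
  -- odd powers of an involution
  have hswap_pow : ∀ x y : ↥P, (Equiv.swap x y) ^ k = Equiv.swap x y := by
    intro x y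
    obtain ⟨m, hm⟩ := hkodd
    rw [hm, pow_succ, pow_mul, pow_two, Equiv.swap_mul_self, one_pow, one_mul]
  obtain ⟨τ, hτdef⟩ : ∃ τ : G, τ = t₀ ^ k := ⟨_, rfl⟩
  obtain ⟨τ', hτ'def⟩ : ∃ τ' : G, τ' = t₀' ^ k := ⟨_, rfl⟩
  have hψτ : k5_psi P τ = Equiv.swap a b := by
    rw [hτdef, map_pow, ht₀, hswap_pow]
  have hψτ' : k5_psi P τ' = Equiv.swap a c := by
    rw [hτ'def, map_pow, ht₀', hswap_pow]
  have hτ2 : τ ^ 2 ∈ P := by
    have h1 : t₀ ^ 2 ∈ Subgroup.centralizer (P : Set G) := by
      rw [← hker, MonoidHom.mem_ker, map_pow, ht₀, pow_two, Equiv.swap_mul_self]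
    have := hCk _ h1
    rwa [hτdef, ← pow_mul, mul_comm, pow_mul]
  have hτ'2 : τ' ^ 2 ∈ P := by
    have h1 : t₀' ^ 2 ∈ Subgroup.centralizer (P : Set G) := by
      rw [← hker, MonoidHom.mem_ker, map_pow, ht₀', pow_two, Equiv.swap_mul_self]
    have := hCk _ h1
    rwa [hτ'def, ← pow_mul, mul_comm, pow_mul]
  -- Step E: the quotient by `P`
  obtain ⟨π, hπ⟩ : ∃ π : G →* G ⧸ P, π = QuotientGroup.mk' P := ⟨_, rfl⟩
  have hπker : ∀ g : G, π g = 1 ↔ g ∈ P := by
    intro g; rw [hπ]; exact QuotientGroup.eq_one_iff g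
  have hπsurj : Function.Surjective π := by rw [hπ]; exact QuotientGroup.mk'_surjective P
  have hs2 : (π τ) ^ 2 = 1 := by rw [← map_pow]; exact (hπker _).mpr hτ2
  have hs'2 : (π τ') ^ 2 = 1 := by rw [← map_pow]; exact (hπker _).mpr hτ'2
  have hsinv : (π τ)⁻¹ = π τ := inv_eq_of_mul_eq_one_right (by rw [← pow_two]; exact hs2)
  have hs'inv : (π τ')⁻¹ = π τ' := inv_eq_of_mul_eq_one_right (by rw [← pow_two]; exact hs'2)
  have hsr : π τ * (π τ * π τ') * (π τ)⁻¹ = (π τ * π τ')⁻¹ := by
    rw [mul_inv_rev, hs'inv, hsinv, ← mul_assoc, ← pow_two, hs2, one_mul]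
  have hZc : ∀ z ∈ (Subgroup.center G).map π, ∀ q : G ⧸ P, z * q = q * z := by
    rintro _ ⟨z, hz, rfl⟩ q
    obtain ⟨g, rfl⟩ := hπsurj q
    rw [← map_mul, ← map_mul, Subgroup.mem_center_iff.mp hz g]
  have hZodd : Odd (Nat.card ((Subgroup.center G).map π)) :=
    hZ.of_dvd_nat (Subgroup.card_map_dvd _ _)
  have hinf := k5_dihedral_inf ((Subgroup.center G).map π) hZc hZodd (π τ) (π τ * π τ') hs2 hsr
  -- Step F: the complement
  obtain ⟨H, hHdef⟩ : ∃ H : Subgroup G, H = (Subgroup.zpowers (π τ) ⊔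
      Subgroup.zpowers (π τ * π τ')).comap π := ⟨_, rfl⟩
  have hPH : P ≤ H := by
    intro x hx
    rw [hHdef, Subgroup.mem_comap, (hπker x).mpr hx]
    exact Subgroup.one_mem _
  have hτH : τ ∈ H := by
    rw [hHdef, Subgroup.mem_comap]
    exact (le_sup_left : Subgroup.zpowers (π τ) ≤ _) (Subgroup.mem_zpowers _)
  have hrH : τ * τ' ∈ H := by
    rw [hHdef, Subgroup.mem_comap, map_mul]
    exact (le_sup_right : Subgroup.zpowers (π τ * π τ') ≤ _) (Subgroup.mem_zpowers _)
  have hHZ : H ⊓ Subgroup.center G = ⊥ := by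
    rw [Subgroup.eq_bot_iff_forall]
    intro z hz
    obtain ⟨hzH, hzZ⟩ := Subgroup.mem_inf.mp hz
    have h1 : π z ∈ (Subgroup.zpowers (π τ) ⊔ Subgroup.zpowers (π τ * π τ')) ⊓
        (Subgroup.center G).map π := by
      refine Subgroup.mem_inf.mpr ⟨?_, Subgroup.mem_map_of_mem π hzZ⟩
      rw [hHdef, Subgroup.mem_comap] at hzH
      exact hzH
    rw [hinf, Subgroup.mem_bot, hπker] at h1
    have : z ∈ P ⊓ Subgroup.center G := Subgroup.mem_inf.mpr ⟨h1, hzZ⟩
    rwa [hPZ, Subgroup.mem_bot] at this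
  have hCT : Subgroup.centralizer (P : Set G) ≤ H ⊔ Subgroup.center G := by
    rw [hC]; exact sup_le_sup_right hPH _
  have hTtop : H ⊔ Subgroup.center G = ⊤ := by
    -- the image under the action is everything
    have hmap_le : (H ⊔ Subgroup.center G).map (k5_psi P) ≤ (k5_psi P).range := by
      rintro _ ⟨g, -, rfl⟩; exact ⟨g, rfl⟩
    have h2mem : Equiv.swap a b ∈ (H ⊔ Subgroup.center G).map (k5_psi P) :=
      ⟨τ, (le_sup_left : H ≤ _) hτH, hψτ⟩
    have h3mem : Equiv.swap a b * Equiv.swap a c ∈ (H ⊔ Subgroup.center G).map (k5_psi P) :=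
      ⟨τ * τ', (le_sup_left : H ≤ _) hrH, by rw [map_mul, hψτ, hψτ']⟩
    have ho2 : orderOf (Equiv.swap a b) = 2 := by
      apply orderOf_eq_prime
      · rw [pow_two, Equiv.swap_mul_self]
      · intro h
        have := congrArg (fun σ : Equiv.Perm ↥P => σ a) h
        simp at this
        exact hab this.symm
    have ho3 : orderOf (Equiv.swap a b * Equiv.swap a c) = 3 := by
      haveI := Fintype.ofFinite ↥P
      exact (Equiv.Perm.isThreeCycle_swap_mul_swap_same hab hac hbc).orderOf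
    have hd2 : 2 ∣ Nat.card ((H ⊔ Subgroup.center G).map (k5_psi P)) := by
      have := orderOf_dvd_natCard (⟨_, h2mem⟩ : ↥((H ⊔ Subgroup.center G).map (k5_psi P)))
      rwa [Subgroup.orderOf_mk, ho2] at this
    have hd3 : 3 ∣ Nat.card ((H ⊔ Subgroup.center G).map (k5_psi P)) := by
      have := orderOf_dvd_natCard (⟨_, h3mem⟩ : ↥((H ⊔ Subgroup.center G).map (k5_psi P)))
      rwa [Subgroup.orderOf_mk, ho3] at this
    have hd6 : 6 ∣ Nat.card ((H ⊔ Subgroup.center G).map (k5_psi P)) :=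
      Nat.Coprime.mul_dvd_of_dvd_of_dvd (by norm_num) hd2 hd3
    have hmap_eq : (H ⊔ Subgroup.center G).map (k5_psi P) = (k5_psi P).range :=
      Subgroup.eq_of_le_of_card_ge hmap_le (by
        rw [hcard_range]; exact Nat.le_of_dvd Nat.card_pos hd6)
    rw [Subgroup.eq_top_iff']
    intro g
    have hg : k5_psi P g ∈ (H ⊔ Subgroup.center G).map (k5_psi P) := by
      rw [hmap_eq]; exact ⟨g, rfl⟩
    obtain ⟨t, ht, htg⟩ := hg
    have h1 : t⁻¹ * g ∈ (k5_psi P).ker := by
      rw [MonoidHom.mem_ker, map_mul, map_inv, htg, inv_mul_cancel]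
    rw [hker] at h1
    have h2 := Subgroup.mul_mem _ ht (hCT h1)
    rwa [mul_inv_cancel_left] at h2
  -- the order of `H`
  have hcardH : Nat.card H = 24 := by
    have h1 := k5_card_sup H (Subgroup.center G) hHZ
    rw [hTtop, Subgroup.card_top] at h1
    have h2 := k5_card_sup P (Subgroup.center G) hPZ
    rw [← hC, hP4] at h2
    have h3 := (Subgroup.centralizer (P : Set G)).card_mul_index
    rw [hidx, h2, h1] at h3
    have hpos : 0 < Nat.card (Subgroup.center G) := Nat.card_pos
    have : Nat.card ↥H * Nat.card ↥(Subgroup.center G) = 24 * Nat.card ↥(Subgroup.center G) := by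
      rw [← h3]; ring
    exact Nat.eq_of_mul_eq_mul_right hpos this
  -- Step G: recognition
  refine ⟨H, ?_, hHZ, hTtop⟩
  haveI : (P.subgroupOf H).Normal := inferInstance
  apply k5_iso_perm_four_of_normal_four hcardH (P.subgroupOf H)
  · rw [Nat.card_congr (Subgroup.subgroupOfEquivOfLe hPH).toEquiv, hP4]
  · intro g hg
    rw [Subgroup.mem_subgroupOf]
    have hgC : (g : G) ∈ Subgroup.centralizer (P : Set G) := by
      rw [Subgroup.mem_centralizer_iff]
      intro x hx
      have := hg ⟨x, hPH hx⟩ (by rw [Subgroup.mem_subgroupOf]; exact hx)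
      have := congrArg Subtype.val this
      simpa using this.symm
    rw [hC] at hgC
    have hg' : (g : G) ∈ ((P ⊔ Subgroup.center G : Subgroup G) : Set G) := hgC
    rw [Subgroup.mul_normal] at hg'
    obtain ⟨x, hx, z, hz, hxz⟩ := Set.mem_mul.mp hg'
    have hzH : z ∈ H := by
      have : z = x⁻¹ * (g : G) := by rw [← hxz]; group
      rw [this]
      exact H.mul_mem (H.inv_mem (hPH hx)) g.2
    have : z ∈ H ⊓ Subgroup.center G := Subgroup.mem_inf.mpr ⟨hzH, hz⟩
    rw [hHZ, Subgroup.mem_bot] at this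
    rw [← hxz, this, mul_one]
    exact hx

end main

end Cfsg.Agent.Lib.Helper8.Chr8
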