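import Mathlib
import Cfsg.Prelude.Def_FischerSpaces
import Cfsg.Prelude.Def_CaseTheorems

set_option autoImplicit false

/-! Commuting graph on a conjugacy class: conjugation acts, components are invariant under the
subgroup they generate. -/

namespace Cfsg.Agent.H9CG

open Cfsg

variable {G : Type*} [Group G]

theorem adj_iff (D : Set G) (a b : D) :
    (commutingGraph D).Adj a b ↔ a ≠ b ∧ Commute (a : G) (b : G) := by
  unfold commutingGraph
  rw [SimpleGraph.fromRel_adj]
  constructor
  · rintro ⟨h, h1 | h1⟩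
    · exact ⟨h, h1⟩
    · exact ⟨h, h1.symm⟩
  · rintro ⟨h, h1⟩
    exact ⟨h, Or.inl h1⟩

theorem conj_mem (d g x : G) (hx : x ∈ conjugatesOf d) : g * x * g⁻¹ ∈ conjugatesOf d := by
  have h : IsConj d x := hx
  show IsConj d (g * x * g⁻¹)
  exact h.trans (isConj_iff.2 ⟨g, rfl⟩)

theorem self_mem (d : G) : d ∈ conjugatesOf d := by
  show IsConj d d
  exact IsConj.refl d

/-- Conjugation as a graph homomorphism. -/
def conjHom (d g : G) :
    commutingGraph (conjugatesOf d) →g commutingGraph (conjugatesOf d) where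
  toFun x := ⟨g * x.1 * g⁻¹, conj_mem d g x.1 x.2⟩
  map_rel' := by
    intro a b hab
    rw [adj_iff] at hab ⊢
    refine ⟨?_, ?_⟩
    · intro h
      apply hab.1
      have h1 := congrArg Subtype.val h
      simp only [mul_left_inj, mul_right_inj] at h1
      exact Subtype.ext h1
    · have h2 : a.1 * b.1 = b.1 * a.1 := hab.2
      show (g * a.1 * g⁻¹) * (g * b.1 * g⁻¹) = (g * b.1 * g⁻¹) * (g * a.1 * g⁻¹)
      calc (g * a.1 * g⁻¹) * (g * b.1 * g⁻¹) = g * (a.1 * b.1) * g⁻¹ := by group
        _ = g * (b.1 * a.1) * g⁻¹ := by rw [h2]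
        _ = _ := by group

theorem reachable_conj (d g : G) (x y : conjugatesOf d)
    (h : (commutingGraph (conjugatesOf d)).Reachable x y) :
    (commutingGraph (conjugatesOf d)).Reachable (conjHom d g x) (conjHom d g y) :=
  h.map (conjHom d g)

/-- The component of `d`. -/
def comp (d : G) : Set G :=
  {x | ∃ hx : x ∈ conjugatesOf d,
    (commutingGraph (conjugatesOf d)).Reachable ⟨d, self_mem d⟩ ⟨x, hx⟩}

theorem comp_sub (d : G) : comp d ⊆ conjugatesOf d := fun _ hx => hx.1

theorem self_mem_comp (d : G) : d ∈ comp d := ⟨self_mem d, SimpleGraph.Reachable.refl _⟩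

theorem inv_of_mem (d : G) (hd : d * d = 1) (x : G) (hx : x ∈ conjugatesOf d) : x * x = 1 := by
  have h : IsConj d x := hx
  obtain ⟨g, hg⟩ := isConj_iff.1 h
  rw [← hg]
  calc g * d * g⁻¹ * (g * d * g⁻¹) = g * (d * d) * g⁻¹ := by group
    _ = 1 := by rw [hd]; group

theorem comp_conj_mem (d : G) (c x : G) (hc : c ∈ comp d) (hx : x ∈ comp d) :
    c * x * c⁻¹ ∈ comp d := by
  obtain ⟨hc1, hc2⟩ := hc
  obtain ⟨hx1, hx2⟩ := hx
  refine ⟨conj_mem d c x hx1, ?_⟩
  have h1 := reachable_conj d c _ _ hx2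
  have h2 := reachable_conj d c _ _ hc2.symm
  have e1 : conjHom d c ⟨c, hc1⟩ = ⟨c, hc1⟩ := by
    apply Subtype.ext
    show c * c * c⁻¹ = c
    group
  rw [e1] at h2
  exact (hc2.trans h2).trans h1

theorem comp_closure_conj (d : G) (hd : d * d = 1) (h : G)
    (hh : h ∈ Subgroup.closure (comp d)) :
    ∀ x ∈ comp d, h * x * h⁻¹ ∈ comp d ∧ h⁻¹ * x * h ∈ comp d := by
  induction hh using Subgroup.closure_induction with
  | mem c hc =>
    intro x hx
    have hcc : c * c = 1 := inv_of_mem d hd c (comp_sub d hc)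
    have hci : c⁻¹ = c := inv_eq_of_mul_eq_one_left hcc
    refine ⟨comp_conj_mem d c x hc hx, ?_⟩
    have := comp_conj_mem d c x hc hx
    rw [hci] at this ⊢
    exact this
  | one =>
    intro x hx
    simpa using hx
  | mul a b _ _ iha ihb =>
    intro x hx
    constructor
    · have h1 := (ihb x hx).1
      have h2 := (iha _ h1).1
      have e : a * b * x * (a * b)⁻¹ = a * (b * x * b⁻¹) * a⁻¹ := by group
      rw [e]; exact h2
    · have h1 := (iha x hx).2
      have h2 := (ihb _ h1).2
      have e : (a * b)⁻¹ * x * (a * b) = b⁻¹ * (a⁻¹ * x * a) * b := by group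
      rw [e]; exact h2
  | inv a _ iha =>
    intro x hx
    constructor
    · have := (iha x hx).2
      simpa using this
    · have := (iha x hx).1
      simpa using this

end Cfsg.Agent.H9CG
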