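import Mathlib
import Cfsg.Prelude.Def_FischerSpaces
import Cfsg.Prelude.Def_CaseTheorems
import Cfsg.Agent.Lib.Helper9.CommGraphLift1

set_option autoImplicit false

/-! Lifting connectivity of the commuting graph through a normal subgroup inverted by `d`
in which every element is a square. -/

namespace Cfsg.Agent.H9CG

open Cfsg

variable {G : Type*} [Group G]

theorem inv_Z (Z : Subgroup G) [hn : Z.Normal] (d : G)
    (hinv : ∀ c ∈ Z, d * c * d⁻¹ = c⁻¹) (x : G) (hx : x ∈ conjugatesOf d) (z : G) (hz : z ∈ Z) :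
    x * z * x⁻¹ = z⁻¹ := by
  have h : IsConj d x := hx
  obtain ⟨g, hg⟩ := isConj_iff.1 h
  have hz' : g⁻¹ * z * g ∈ Z := by
    have := hn.conj_mem z hz g⁻¹
    simpa using this
  have h1 := hinv _ hz'
  rw [← hg]
  calc g * d * g⁻¹ * z * (g * d * g⁻¹)⁻¹ = g * (d * (g⁻¹ * z * g) * d⁻¹) * g⁻¹ := by group
    _ = g * (g⁻¹ * z * g)⁻¹ * g⁻¹ := by rw [h1]
    _ = z⁻¹ := by group

theorem fibre (Z : Subgroup G) [hn : Z.Normal] (d : G)
    (hinv : ∀ c ∈ Z, d * c * d⁻¹ = c⁻¹) (x : G) (hx : x ∈ conjugatesOf d) (y : G) (hy : y ∈ Z) :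
    y * x * y⁻¹ = y * y * x := by
  have h1 := inv_Z Z d hinv x hx y⁻¹ (Z.inv_mem hy)
  rw [inv_inv] at h1
  calc y * x * y⁻¹ = y * (x * y⁻¹ * x⁻¹) * x := by group
    _ = y * y * x := by rw [h1]

theorem edge_lift (Z : Subgroup G) [hn : Z.Normal] (d : G)
    (hinv : ∀ c ∈ Z, d * c * d⁻¹ = c⁻¹) (hsqrt : ∀ z ∈ Z, ∃ y ∈ Z, y * y = z)
    (x w : G) (hx : x ∈ conjugatesOf d) (hw : w ∈ conjugatesOf d)
    (hc : Commute (QuotientGroup.mk x : G ⧸ Z) (QuotientGroup.mk w)) :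
    ∃ y ∈ Z, Commute x (y * w * y⁻¹) := by
  have hcZ : x * w * x⁻¹ * w⁻¹ ∈ Z := by
    rw [← QuotientGroup.eq_one_iff]
    have h1 : (QuotientGroup.mk x : G ⧸ Z) * QuotientGroup.mk w
        = QuotientGroup.mk w * QuotientGroup.mk x := hc
    simp only [QuotientGroup.mk_mul, QuotientGroup.mk_inv]
    rw [h1]
    group
  obtain ⟨y1, hy1, e1⟩ := hsqrt _ hcZ
  obtain ⟨y, hy, e2⟩ := hsqrt _ hy1
  refine ⟨y, hy, ?_⟩
  have hA0 := inv_Z Z d hinv x hx y hy
  have hB0 := inv_Z Z d hinv w hw y hy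
  have hA1 := inv_Z Z d hinv x hx y⁻¹ (Z.inv_mem hy)
  have hB1 := inv_Z Z d hinv w hw y⁻¹ (Z.inv_mem hy)
  rw [inv_inv] at hA1 hB1
  have hA : x * y = y⁻¹ * x := by rw [← hA0]; group
  have hB : w * y = y⁻¹ * w := by rw [← hB0]; group
  have hA' : x * y⁻¹ = y * x := by
    calc x * y⁻¹ = (x * y⁻¹ * x⁻¹) * x := by group
      _ = y * x := by rw [hA1]
  have hB' : w * y⁻¹ = y * w := by
    calc w * y⁻¹ = (w * y⁻¹ * w⁻¹) * w := by group
      _ = y * w := by rw [hB1]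
  have hC : x * w = (y * y) * (y * y) * w * x := by
    rw [e2, e1]; group
  show x * (y * w * y⁻¹) = y * w * y⁻¹ * x
  calc x * (y * w * y⁻¹) = (x * y) * w * y⁻¹ := by group
    _ = y⁻¹ * x * w * y⁻¹ := by rw [hA]
    _ = y⁻¹ * (x * w) * y⁻¹ := by group
    _ = y⁻¹ * ((y * y) * (y * y) * w * x) * y⁻¹ := by rw [hC]
    _ = y * y * y * w * (x * y⁻¹) := by group
    _ = y * y * y * w * (y * x) := by rw [hA']
    _ = y * y * y * (w * y) * x := by group
    _ = y * y * y * (y⁻¹ * w) * x := by rw [hB]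
    _ = y * (y * w) * x := by group
    _ = y * (w * y⁻¹) * x := by rw [hB']
    _ = y * w * y⁻¹ * x := by group

/-- Every vertex of the quotient graph reachable from the image of `d` has a preimage in the
component of `d`. -/
theorem surj (Z : Subgroup G) [hn : Z.Normal] (d : G)
    (hinv : ∀ c ∈ Z, d * c * d⁻¹ = c⁻¹) (hsqrt : ∀ z ∈ Z, ∃ y ∈ Z, y * y = z)
    (v : conjugatesOf (QuotientGroup.mk d : G ⧸ Z))
    (hv : (commutingGraph (conjugatesOf (QuotientGroup.mk d : G ⧸ Z))).Reachable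
      ⟨QuotientGroup.mk d, self_mem _⟩ v) :
    ∃ c ∈ comp d, (QuotientGroup.mk c : G ⧸ Z) = v.1 := by
  rw [SimpleGraph.reachable_iff_reflTransGen] at hv
  induction hv with
  | refl => exact ⟨d, self_mem_comp d, rfl⟩
  | @tail b c' _ hbc ih =>
    obtain ⟨c, hc, hcb⟩ := ih
    rw [adj_iff] at hbc
    obtain ⟨hne, hcomm⟩ := hbc
    have h1 : IsConj (QuotientGroup.mk d : G ⧸ Z) c'.1 := c'.2
    obtain ⟨gbar, hg⟩ := isConj_iff.1 h1
    obtain ⟨g, rfl⟩ := QuotientGroup.mk_surjective gbar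
    have hw : g * d * g⁻¹ ∈ conjugatesOf d := conj_mem d g d (self_mem d)
    have hwq : (QuotientGroup.mk (g * d * g⁻¹) : G ⧸ Z) = c'.1 := by
      rw [← hg]; simp
    have hcomm' : Commute (QuotientGroup.mk c : G ⧸ Z) (QuotientGroup.mk (g * d * g⁻¹)) := by
      rw [hcb, hwq]; exact hcomm
    obtain ⟨y, hy, hyc⟩ := edge_lift Z d hinv hsqrt c (g * d * g⁻¹) (comp_sub d hc) hw hcomm'
    have hw' : y * (g * d * g⁻¹) * y⁻¹ ∈ conjugatesOf d := conj_mem d y _ hw
    have hyq : (QuotientGroup.mk y : G ⧸ Z) = 1 := (QuotientGroup.eq_one_iff y).2 hy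
    have hwq' : (QuotientGroup.mk (y * (g * d * g⁻¹) * y⁻¹) : G ⧸ Z) = c'.1 := by
      rw [← hwq]
      rw [QuotientGroup.mk_mul, QuotientGroup.mk_mul, QuotientGroup.mk_inv, hyq]
      simp
    refine ⟨y * (g * d * g⁻¹) * y⁻¹, ?_, hwq'⟩
    obtain ⟨hc1, hc2⟩ := hc
    refine ⟨hw', hc2.trans ?_⟩
    apply SimpleGraph.Adj.reachable
    rw [adj_iff]
    refine ⟨?_, hyc⟩
    intro h
    apply hne
    apply Subtype.ext
    rw [← hcb, ← hwq']
    have := congrArg Subtype.val h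
    simp only at this
    rw [this]

/-- The final assembly: if `Z` lies in the subgroup generated by the component of `d` and the
quotient graph is connected, then the graph is connected. -/
theorem connected_of_le (Z : Subgroup G) [hn : Z.Normal] (d : G) (hd : d * d = 1)
    (hinv : ∀ c ∈ Z, d * c * d⁻¹ = c⁻¹) (hsqrt : ∀ z ∈ Z, ∃ y ∈ Z, y * y = z)
    (hconn : (commutingGraph (conjugatesOf (QuotientGroup.mk d : G ⧸ Z))).Connected)
    (hZH : Z ≤ Subgroup.closure (comp d)) :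
    (commutingGraph (conjugatesOf d)).Connected := by
  have hall : ∀ x ∈ conjugatesOf d, x ∈ comp d := by
    intro x hx
    have hxq : (QuotientGroup.mk x : G ⧸ Z) ∈ conjugatesOf (QuotientGroup.mk d : G ⧸ Z) := by
      have h : IsConj d x := hx
      obtain ⟨g, hg⟩ := isConj_iff.1 h
      show IsConj _ _
      rw [isConj_iff]
      refine ⟨QuotientGroup.mk g, ?_⟩
      rw [← hg]; simp
    obtain ⟨c, hc, hcx⟩ := surj Z d hinv hsqrt ⟨_, hxq⟩ (hconn.preconnected _ _)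
    simp only at hcx
    have hz : x * c⁻¹ ∈ Z := by
      rw [← QuotientGroup.eq_one_iff, QuotientGroup.mk_mul, QuotientGroup.mk_inv, hcx]
      simp
    obtain ⟨y, hy, hyz⟩ := hsqrt _ hz
    have h1 := fibre Z d hinv c (comp_sub d hc) y hy
    have h2 : y * c * y⁻¹ = x := by
      rw [h1, hyz]; group
    rw [← h2]
    exact (comp_closure_conj d hd y (hZH hy) c hc).1
  have hne : Nonempty (conjugatesOf d) := ⟨⟨d, self_mem d⟩⟩
  rw [SimpleGraph.connected_iff]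
  refine ⟨?_, hne⟩
  intro u v
  obtain ⟨_, hu⟩ := hall u.1 u.2
  obtain ⟨_, hv⟩ := hall v.1 v.2
  exact hu.symm.trans hv

end Cfsg.Agent.H9CG
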