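import Mathlib
import Cfsg.Prelude.Def_FischerSpaces
import Cfsg.Prelude.Def_CaseTheorems

set_option autoImplicit false

/-! Normal subgroups of a quasisimple group; an involution inverting an odd centre. -/

namespace Cfsg.Agent.H9CG

open Cfsg
open scoped commutatorElement

theorem comm_central {Q : Type*} [Group Q] (m1 m2 z1 z2 : Q)
    (h1 : (m2 * z2) * z1 = z1 * (m2 * z2)) (h2 : m1⁻¹ * z2 = z2 * m1⁻¹) :
    ⁅m1 * z1, m2 * z2⁆ = ⁅m1, m2⁆ := by
  rw [commutatorElement_def, commutatorElement_def]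
  have hz1 : z1 * (m2 * z2) * z1⁻¹ = m2 * z2 := by rw [← h1]; group
  have hz2 : z2 * m1⁻¹ * z2⁻¹ = m1⁻¹ := by rw [← h2]; group
  calc m1 * z1 * (m2 * z2) * (m1 * z1)⁻¹ * (m2 * z2)⁻¹
      = m1 * (z1 * (m2 * z2) * z1⁻¹) * m1⁻¹ * (m2 * z2)⁻¹ := by group
    _ = m1 * (m2 * z2) * m1⁻¹ * (m2 * z2)⁻¹ := by rw [hz1]
    _ = m1 * m2 * (z2 * m1⁻¹ * z2⁻¹) * m2⁻¹ := by group
    _ = m1 * m2 * m1⁻¹ * m2⁻¹ := by rw [hz2]

/-- A normal subgroup of a quasisimple group is central or everything. -/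
theorem normal_dichotomy {Q : Type*} [Group Q] (hQ : IsQuasisimple Q) (M : Subgroup Q)
    [hM : M.Normal] : M ≤ Subgroup.center Q ∨ M = ⊤ := by
  obtain ⟨hperf, hsimple⟩ := hQ
  have hn : (M.map (QuotientGroup.mk' (Subgroup.center Q))).Normal :=
    hM.map _ (QuotientGroup.mk'_surjective _)
  rcases hn.eq_bot_or_eq_top with h | h
  · left
    have := (Subgroup.map_eq_bot_iff _).1 h
    rwa [QuotientGroup.ker_mk'] at this
  · right
    have hdecomp : ∀ q : Q, ∃ m ∈ M, ∃ z ∈ Subgroup.center Q, q = m * z := by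
      intro q
      have hq : QuotientGroup.mk' (Subgroup.center Q) q ∈
          M.map (QuotientGroup.mk' (Subgroup.center Q)) := by rw [h]; trivial
      obtain ⟨m, hm, hmq⟩ := hq
      refine ⟨m, hm, m⁻¹ * q, ?_, by group⟩
      have : (QuotientGroup.mk m : Q ⧸ Subgroup.center Q) = QuotientGroup.mk q := hmq
      exact QuotientGroup.eq.1 this
    have hcomm : commutator Q ≤ M := by
      rw [commutator_def, Subgroup.commutator_le]
      intro a _ b _
      obtain ⟨m1, hm1, z1, hz1, rfl⟩ := hdecomp a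
      obtain ⟨m2, hm2, z2, hz2, rfl⟩ := hdecomp b
      rw [Subgroup.mem_center_iff] at hz1 hz2
      rw [comm_central m1 m2 z1 z2 (hz1 _) (hz2 _)]
      rw [commutatorElement_def]
      exact M.mul_mem (M.mul_mem (M.mul_mem hm1 hm2) (M.inv_mem hm1)) (M.inv_mem hm2)
    rw [hperf.commutator_eq_top] at hcomm
    exact top_le_iff.1 hcomm

variable {G : Type*} [Group G]

theorem mem_Z_iff (L : Subgroup G) (z : G) :
    z ∈ (Subgroup.center ↥L).map L.subtype ↔ z ∈ L ∧ ∀ l ∈ L, l * z = z * l := by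
  constructor
  · rintro ⟨c, hc, rfl⟩
    refine ⟨c.2, ?_⟩
    intro l hl
    have hc' : c ∈ Subgroup.center ↥L := hc
    rw [Subgroup.mem_center_iff] at hc'
    have := hc' ⟨l, hl⟩
    have h2 := congrArg Subtype.val this
    simpa using h2
  · rintro ⟨hz, hcomm⟩
    refine ⟨⟨z, hz⟩, ?_, rfl⟩
    show (⟨z, hz⟩ : ↥L) ∈ Subgroup.center ↥L
    rw [Subgroup.mem_center_iff]
    intro l
    apply Subtype.ext
    simpa using hcomm l.1 l.2

/-- `G`-level dichotomy for a normal subgroup `N` of `G` against a quasisimple subgroup `L`. -/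
theorem dichotomy_G (L : Subgroup G) (hL : IsQuasisimple ↥L) (N : Subgroup G) [hN : N.Normal] :
    (∀ x ∈ N, x ∈ L → x ∈ (Subgroup.center ↥L).map L.subtype) ∨ L ≤ N := by
  rcases normal_dichotomy hL (N.subgroupOf L) with h | h
  · left
    intro x hxN hxL
    have : (⟨x, hxL⟩ : ↥L) ∈ N.subgroupOf L := by
      rw [Subgroup.mem_subgroupOf]; exact hxN
    exact ⟨⟨x, hxL⟩, h this, rfl⟩
  · right
    exact Subgroup.subgroupOf_eq_top.1 h

theorem perfect_le (L : Subgroup G) (hL : IsQuasisimple ↥L) (K : Subgroup G)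
    (h : ∀ a ∈ L, ∀ b ∈ L, ⁅a, b⁆ ∈ K) : L ≤ K := by
  have h1 : ⁅L, L⁆ = L := (Subgroup.isPerfect_iff (H := L)).1 hL.1
  rw [← h1, Subgroup.commutator_le]
  exact h

/-- The key group-theoretic step. -/
theorem Z_le (L : Subgroup G) [hLn : L.Normal] (hL : IsQuasisimple ↥L) (d : G)
    (hinv : ∀ c ∈ (Subgroup.center ↥L).map L.subtype, d * c * d⁻¹ = c⁻¹)
    (hsqrt : ∀ z ∈ (Subgroup.center ↥L).map L.subtype,
      ∃ y ∈ (Subgroup.center ↥L).map L.subtype, y * y = z)
    [hn : ((Subgroup.center ↥L).map L.subtype).Normal]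
    (H : Subgroup G)
    (hNH : Subgroup.normalClosure {d} ≤ H ⊔ (Subgroup.center ↥L).map L.subtype) :
    (Subgroup.center ↥L).map L.subtype ≤ H := by
  have hZL : (Subgroup.center ↥L).map L.subtype ≤ L := by
    intro z hz
    exact ((mem_Z_iff L z).1 hz).1
  rcases dichotomy_G L hL (Subgroup.normalClosure {d}) with h | h
  · -- d centralizes L
    have hdN : d ∈ Subgroup.normalClosure {d} :=
      Subgroup.subset_normalClosure (Set.mem_singleton d)
    have hz : ∀ l ∈ L, l⁻¹ * (d * l * d⁻¹) ∈ (Subgroup.center ↥L).map L.subtype := by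
      intro l hl
      apply h
      · have h1 : l⁻¹ * d * l⁻¹⁻¹ ∈ Subgroup.normalClosure {d} :=
          (Subgroup.normalClosure_normal).conj_mem d hdN l⁻¹
        have h2 := (Subgroup.normalClosure {d}).mul_mem h1
          ((Subgroup.normalClosure {d}).inv_mem hdN)
        have e : l⁻¹ * (d * l * d⁻¹) = l⁻¹ * d * l⁻¹⁻¹ * d⁻¹ := by group
        rw [e]; exact h2
      · exact L.mul_mem (L.inv_mem hl) (hLn.conj_mem l hl d)
    have hcent : L ≤ Subgroup.centralizer {d} := by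
      apply perfect_le L hL
      intro a ha b hb
      rw [Subgroup.mem_centralizer_iff]
      intro x hx
      rw [Set.mem_singleton_iff] at hx
      subst hx
      have hza := (mem_Z_iff L _).1 (hz a ha)
      have hzb := (mem_Z_iff L _).1 (hz b hb)
      have e1 : x * ⁅a, b⁆ * x⁻¹ = ⁅a * (a⁻¹ * (x * a * x⁻¹)), b * (b⁻¹ * (x * b * x⁻¹))⁆ := by
        rw [commutatorElement_def, commutatorElement_def]; group
      have e2 := comm_central a b (a⁻¹ * (x * a * x⁻¹)) (b⁻¹ * (x * b * x⁻¹))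
        (hza.2 _ (L.mul_mem hb hzb.1)) (hzb.2 _ (L.inv_mem ha))
      rw [e2] at e1
      calc x * ⁅a, b⁆ = (x * ⁅a, b⁆ * x⁻¹) * x := by group
        _ = ⁅a, b⁆ * x := by rw [e1]
    have hsq : ∀ y ∈ (Subgroup.center ↥L).map L.subtype, y * y = 1 := by
      intro y hy
      have h1 := hinv y hy
      have h2 : d * y = y * d := by
        have := hcent (hZL hy)
        rw [Subgroup.mem_centralizer_iff] at this
        exact this d (Set.mem_singleton d)
      have h3 : y = y⁻¹ := by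
        calc y = d * y * d⁻¹ := by rw [h2]; group
          _ = y⁻¹ := h1
      calc y * y = y * y⁻¹ := by nth_rewrite 2 [h3]; rfl
        _ = 1 := by group
    intro z hz'
    obtain ⟨y, hy, rfl⟩ := hsqrt z hz'
    rw [hsq y hy]
    exact H.one_mem
  · -- L ≤ normal closure ≤ H ⊔ Z
    have hLH : L ≤ H ⊔ (Subgroup.center ↥L).map L.subtype := h.trans hNH
    have hdec : ∀ l ∈ L, ∃ a ∈ H, ∃ z ∈ (Subgroup.center ↥L).map L.subtype, l = a * z := by
      intro l hl
      have h1 : l ∈ ((H ⊔ (Subgroup.center ↥L).map L.subtype : Subgroup G) : Set G) := hLH hl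
      rw [Subgroup.mul_normal] at h1
      obtain ⟨a, ha, z, hz, rfl⟩ := Set.mem_mul.1 h1
      exact ⟨a, ha, z, hz, rfl⟩
    have hLleH : L ≤ H := by
      apply perfect_le L hL
      intro a ha b hb
      obtain ⟨a1, ha1, z1, hz1, rfl⟩ := hdec a ha
      obtain ⟨b1, hb1, z2, hz2, rfl⟩ := hdec b hb
      have hz1' := (mem_Z_iff L _).1 hz1
      have hz2' := (mem_Z_iff L _).1 hz2
      have ha1L : a1 ∈ L := by
        have := L.mul_mem ha (L.inv_mem hz1'.1)
        simpa using this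
      rw [comm_central a1 b1 z1 z2 (hz1'.2 _ hb) (hz2'.2 _ (L.inv_mem ha1L))]
      rw [commutatorElement_def]
      exact H.mul_mem (H.mul_mem (H.mul_mem ha1 hb1) (H.inv_mem ha1)) (H.inv_mem hb1)
    exact hZL.trans hLleH

/-- Square roots in an odd-order centre. -/
theorem sqrt_of_odd [Finite G] (L : Subgroup G) (hodd : Odd (Nat.card ↥(Subgroup.center ↥L))) :
    ∀ z ∈ (Subgroup.center ↥L).map L.subtype,
      ∃ y ∈ (Subgroup.center ↥L).map L.subtype, y * y = z := by
  rintro z ⟨c, hc, rfl⟩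
  obtain ⟨k, hk⟩ := hodd
  have h1 : (⟨c, hc⟩ : ↥(Subgroup.center ↥L)) ^ (Nat.card ↥(Subgroup.center ↥L)) = 1 :=
    pow_card_eq_one'
  have h2 : c ^ (2 * k + 1) = 1 := by
    rw [hk] at h1
    have := congrArg Subtype.val h1
    simpa using this
  refine ⟨L.subtype (c ^ (k + 1)), ⟨c ^ (k + 1), (Subgroup.center ↥L).pow_mem hc _, rfl⟩, ?_⟩
  rw [← map_mul, ← pow_add]
  have e : k + 1 + (k + 1) = (2 * k + 1) + 1 := by ring
  rw [e, pow_succ, h2, one_mul]

end Cfsg.Agent.H9CG
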