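import Mathlib
import Cfsg.Prelude.Def_FusionSystem
import Cfsg.Agent.Lib.Helper9.FusionBasic
import Cfsg.Agent.Lib.Helper9.FusionAut
import Cfsg.Agent.Lib.Helper9.FusionAut2
import Cfsg.Agent.Lib.Helper9.FusionStrongly

set_option autoImplicit false
open Cfsg
open Cfsg.FusionSystem

/-! Restriction of automorphisms to a strongly closed subgroup, as a group homomorphism. -/

namespace Cfsg.Agent.Lib.Helper9

variable {Ω : Type*} [Group Ω] {S : Subgroup Ω}

/-- `b` is the restriction of `a` to `T`. -/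
def IsRestrictAut {T U : Subgroup Ω} (hTU : T ≤ U) (a : MulAut U) (b : MulAut T) : Prop :=
  ∀ t : T, ((b t : T) : Ω) = ((a ⟨t, hTU t.2⟩ : U) : Ω)

theorem isRestrictAut_unique {T U : Subgroup Ω} (hTU : T ≤ U) {a : MulAut U} {b b' : MulAut T}
    (h : IsRestrictAut hTU a b) (h' : IsRestrictAut hTU a b') : b = b' := by
  apply MulEquiv.ext
  intro t
  apply Subtype.ext
  exact (h t).trans (h' t).symm

theorem isRestrictAut_mul {T U : Subgroup Ω} (hTU : T ≤ U) {a₁ a₂ : MulAut U} {b₁ b₂ : MulAut T}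
    (h₁ : IsRestrictAut hTU a₁ b₁) (h₂ : IsRestrictAut hTU a₂ b₂) :
    IsRestrictAut hTU (a₁ * a₂) (b₁ * b₂) := by
  intro t
  show ((b₁ (b₂ t) : T) : Ω) = ((a₁ (a₂ ⟨t, hTU t.2⟩) : U) : Ω)
  rw [h₁ (b₂ t)]
  congr 2
  exact Subtype.ext (h₂ t)

theorem exists_isRestrictAut [Finite S] (F : FusionSystem S) {T U : Subgroup Ω} (hT : F.StronglyClosed T)
    (hTU : T ≤ U) (hUS : U ≤ S) {a : MulAut U} (ha : a ∈ F.autGroup U) :
    ∃ b ∈ F.autGroup T, IsRestrictAut hTU a b := by
  have ha' := (mem_autGroup_iff F hUS a).mp ha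
  have hρ := fs_restrict_mem F ha' hTU
  have hval : ∀ y : T, ((U.subtype.comp a.toMonoidHom).comp (Subgroup.inclusion hTU)) y ∈ T :=
    fun y => fs_stronglyClosed_mem F hT ha' _ y.2
  obtain ⟨b, hb, Hb⟩ := fs_hom_to_aut F hρ hval
  exact ⟨b, hb, fun t => Hb t⟩

/-- Restriction `Aut_F(U) → Aut_F(T)` for a strongly closed `T ≤ U`. -/
noncomputable def restrictAut [Finite S] (F : FusionSystem S) {T U : Subgroup Ω} (hT : F.StronglyClosed T)
    (hTU : T ≤ U) (hUS : U ≤ S) : F.autGroup U →* F.autGroup T :=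
  MonoidHom.mk' (fun a => ⟨Classical.choose (exists_isRestrictAut F hT hTU hUS a.2),
      (Classical.choose_spec (exists_isRestrictAut F hT hTU hUS a.2)).1⟩) (by
    intro a₁ a₂
    apply Subtype.ext
    have h₁ := (Classical.choose_spec (exists_isRestrictAut F hT hTU hUS a₁.2)).2
    have h₂ := (Classical.choose_spec (exists_isRestrictAut F hT hTU hUS a₂.2)).2
    have h₁₂ := (Classical.choose_spec (exists_isRestrictAut F hT hTU hUS (a₁ * a₂).2)).2
    exact isRestrictAut_unique hTU h₁₂ (isRestrictAut_mul hTU h₁ h₂))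

theorem restrictAut_spec [Finite S] (F : FusionSystem S) {T U : Subgroup Ω} (hT : F.StronglyClosed T)
    (hTU : T ≤ U) (hUS : U ≤ S) (a : F.autGroup U) :
    IsRestrictAut hTU (a : MulAut U) ((restrictAut F hT hTU hUS a : F.autGroup T) : MulAut T) :=
  (Classical.choose_spec (exists_isRestrictAut F hT hTU hUS a.2)).2

end Cfsg.Agent.Lib.Helper9
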