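import Mathlib
import Cfsg.Prelude.Def_FusionSystem
import Cfsg.Agent.S5145
import Cfsg.Agent.Lib.Helper9.FusionNormal7
import Cfsg.Agent.Lib.Helper9.FusionRestrict
import Cfsg.Agent.Lib.Helper9.FusionCentric
import Cfsg.Agent.Lib.Helper9.FusionAG3

set_option autoImplicit false

namespace Cfsg.Agent.Lib.Helper9.H9Constr

open Cfsg Cfsg.FusionSystem Cfsg.Agent.Lib.Helper9

variable {Ω : Type*} [Group Ω] {S : Subgroup Ω}

/-- `O_p(Aut_F(Q))` as a subgroup of `Aut(Q)`. -/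
def opAut (F : FusionSystem S) (p : ℕ) (Q : Subgroup Ω) : Subgroup (MulAut Q) :=
  (Cfsg.pCore p (F.autGroup Q)).map (F.autGroup Q).subtype

/-- The preimage in `S` of `O_p(Aut_F(Q))`. -/
def plusSub (F : FusionSystem S) (p : ℕ) (Q : Subgroup Ω) : Subgroup Ω where
  carrier := {s | s ∈ S ∧ ∃ α ∈ opAut F p Q, ∀ y : Q, ((α y : Q) : Ω) = s * y * s⁻¹}
  one_mem' := ⟨S.one_mem, 1, Subgroup.one_mem _, fun y => by simp⟩
  mul_mem' := by
    rintro s t ⟨hs, α, hα, Hα⟩ ⟨ht, β, hβ, Hβ⟩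
    refine ⟨S.mul_mem hs ht, α * β, Subgroup.mul_mem _ hα hβ, fun y => ?_⟩
    rw [MulAut.mul_apply, Hα, Hβ]
    group
  inv_mem' := by
    rintro s ⟨hs, α, hα, Hα⟩
    refine ⟨S.inv_mem hs, α⁻¹, Subgroup.inv_mem _ hα, fun y => ?_⟩
    have h1 := Hα (α⁻¹ y)
    rw [MulAut.apply_inv_self] at h1
    rw [h1]
    group

theorem mem_plusSub_iff (F : FusionSystem S) (p : ℕ) (Q : Subgroup Ω) (s : Ω) :
    s ∈ plusSub F p Q ↔ s ∈ S ∧ ∃ α ∈ opAut F p Q, ∀ y : Q, ((α y : Q) : Ω) = s * y * s⁻¹ := Iff.rfl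

theorem plusSub_le (F : FusionSystem S) (p : ℕ) (Q : Subgroup Ω) : plusSub F p Q ≤ S :=
  fun _ hs => hs.1

theorem opAut_le (F : FusionSystem S) (p : ℕ) (Q : Subgroup Ω) : opAut F p Q ≤ F.autGroup Q := by
  rintro _ ⟨a, -, rfl⟩
  exact a.2

theorem opAut_conj (F : FusionSystem S) (p : ℕ) (Q : Subgroup Ω) {α β : MulAut Q} (hα : α ∈ opAut F p Q)
    (hβ : β ∈ F.autGroup Q) : β * α * β⁻¹ ∈ opAut F p Q := by
  obtain ⟨a, ha, rfl⟩ := hα
  haveI := pCore_normal' (G := F.autGroup Q) p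
  have := (pCore_normal' (G := F.autGroup Q) p).conj_mem a ha ⟨β, hβ⟩
  exact ⟨_, this, rfl⟩

/-- The preimage of `O_p(Aut_F(Q))` is strongly closed when `Q` is normal in the system. -/
theorem plusSub_stronglyClosed [Finite S] (F : FusionSystem S) (p : ℕ) {Q : Subgroup Ω} (hQ : F.IsNormal Q) :
    F.StronglyClosed (plusSub F p Q) := by
  refine ⟨plusSub_le F p Q, fun R hR φ hφ x => ?_⟩
  have hQS : Q ≤ S := hQ.1
  obtain ⟨ψ, hψ, hψφ, hψQ⟩ := hQ.2 R φ hφ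
  obtain ⟨hxS, α, hα, Hα⟩ := hR x.2
  -- restriction of ψ to Q
  have hres := fs_restrict_mem F hψ (le_sup_right : Q ≤ R ⊔ Q)
  have hval : ∀ y : Q, (ψ.comp (Subgroup.inclusion (le_sup_right : Q ≤ R ⊔ Q))) y ∈ Q := by
    intro y
    have h1 : ψ (Subgroup.inclusion le_sup_right y) ∈ (Q.subgroupOf (R ⊔ Q)).map ψ :=
      ⟨_, by simp [Subgroup.mem_subgroupOf], rfl⟩
    rw [hψQ] at h1
    exact h1
  obtain ⟨β, hβ, Hβ⟩ := fs_hom_to_aut F hres hval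
  refine ⟨(F.le_of_mem hφ).2 x, β * α * β⁻¹, opAut_conj F p Q hα hβ, fun y => ?_⟩
  rw [MulAut.mul_apply, MulAut.mul_apply, Hβ]
  show ψ (Subgroup.inclusion le_sup_right (α (β⁻¹ y))) = _
  have h2 : Subgroup.inclusion (le_sup_right : Q ≤ R ⊔ Q) (α (β⁻¹ y)) =
      Subgroup.inclusion (le_sup_left : R ≤ R ⊔ Q) x * Subgroup.inclusion le_sup_right (β⁻¹ y) *
        (Subgroup.inclusion (le_sup_left : R ≤ R ⊔ Q) x)⁻¹ := by
    apply Subtype.ext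
    show ((α (β⁻¹ y) : Q) : Ω) = (x : Ω) * ((β⁻¹ y : Q) : Ω) * (x : Ω)⁻¹
    exact Hα _
  rw [h2, map_mul, map_mul, map_inv, hψφ]
  have h3 : ψ (Subgroup.inclusion le_sup_right (β⁻¹ y)) = y := by
    have := Hβ (β⁻¹ y)
    rw [MulAut.apply_inv_self] at this
    exact this.symm
  rw [h3]

end Cfsg.Agent.Lib.Helper9.H9Constr
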