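import Mathlib
import Cfsg.Prelude.Def_FusionSystem
import Cfsg.Agent.Lib.Helper9.Constr1

set_option autoImplicit false

namespace Cfsg.Agent.Lib.Helper9.H9Constr

open Cfsg Cfsg.FusionSystem Cfsg.Agent.Lib.Helper9

variable {Ω : Type*} [Group Ω] {S : Subgroup Ω}

/-- The kernel of restriction `Aut_F(P) → Aut_F(Q)` to a centric strongly closed `Q ≤ P` is a `p`-group. -/
theorem ker_restrictAut_isPGroup [Finite S] (p : ℕ) [Fact p.Prime] (hS : IsPGroup p S) (F : FusionSystem S)
    (hF : F.IsSaturated p) {Q P : Subgroup Ω} (hQsc : F.StronglyClosed Q) (hQc : F.IsCentric Q)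
    (hQP : Q ≤ P) (hPS : P ≤ S) : IsPGroup p (restrictAut F hQsc hQP hPS).ker := by
  have hPN : P ≤ Subgroup.normalizer (Q : Set Ω) :=
    hPS.trans (fs_stronglyClosed_le_normalizer F hQsc)
  have hPp : IsPGroup p P := hS.to_le hPS
  rintro ⟨a, ha⟩
  rw [MonoidHom.mem_ker] at ha
  have hspec := restrictAut_spec F hQsc hQP hPS a
  rw [ha] at hspec
  have hfix : ∀ x : P, (x : Ω) ∈ Q → (a : MulAut P) x = x := by
    intro x hx
    have := hspec ⟨x, hx⟩
    apply Subtype.ext
    rw [← this]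
    rfl
  obtain ⟨z, -, -, Hz⟩ := fs_aut_eq_conj_of_fix_centric p hS F hF hPS hQP hPN hQc a.2 hfix
  obtain ⟨k, hk⟩ := hPp z
  refine ⟨k, ?_⟩
  apply Subtype.ext
  apply Subtype.ext
  apply MulEquiv.ext
  intro y
  apply Subtype.ext
  have Hz' : ∀ x : P, ((((a : MulAut P) x : P)) : Ω) = (z : Ω) * (x : Ω) * (z : Ω)⁻¹ := by
    intro x; rw [Hz]; rfl
  have h1 := autInduced_pow (a : MulAut P) (z : Ω) Hz' (p ^ k) y
  have h2 : ((z : Ω)) ^ (p ^ k) = 1 := by
    have := congrArg Subtype.val hk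
    simpa using this
  rw [h2] at h1
  simpa using h1

/-- The preimage of `O_p(Aut_F(Q))`, for `Q` normal and centric, lies in every centric radical subgroup. -/
theorem plusSub_le_centric_radical [Finite S] (p : ℕ) [Fact p.Prime] (hS : IsPGroup p S) (F : FusionSystem S)
    (hF : F.IsSaturated p) {Q : Subgroup Ω} (hQ : F.IsNormal Q) (hQc : F.IsCentric Q)
    {P : Subgroup Ω} (hPc : F.IsCentric P) (hPr : F.IsRadical p P) : plusSub F p Q ≤ P := by
  have hPS : P ≤ S := hPc.1
  have hQS : Q ≤ S := hQ.1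
  have hQP : Q ≤ P := fs_le_of_isNormal_of_centric_radical p hS F hQ hPc hPr
  have hQsc := fs_stronglyClosed_of_isNormal F hQ
  have hTsc := plusSub_stronglyClosed F p hQ
  have hCle : centralizerIn S P ≤ P := hPc.2 P (fs_isConj_refl F hPS)
  haveI : Finite P := fs_finite_of_le hPS
  haveI : Finite Q := fs_finite_of_le hQS
  obtain ⟨ρ, hρ⟩ : ∃ ρ : F.autGroup P →* F.autGroup Q, ρ = restrictAut F hQsc hQP hPS := ⟨_, rfl⟩
  have hker : IsPGroup p ρ.ker := by
    rw [hρ]; exact ker_restrictAut_isPGroup p hS F hF hQsc hQc hQP hPS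
  have hMp : IsPGroup p ((Cfsg.pCore p (F.autGroup Q)).comap ρ) :=
    IsPGroup.comap_of_ker_isPGroup (pCore_isPGroup' p) ρ hker
  have hMn : ((Cfsg.pCore p (F.autGroup Q)).comap ρ).Normal :=
    (pCore_normal' (G := F.autGroup Q) p).comap ρ
  have hMle := le_pCore hMn hMp
  -- elements of plusSub normalizing P lie in P
  have key : ∀ g ∈ plusSub F p Q, g ∈ Subgroup.normalizer (P : Set Ω) → g ∈ P := by
    intro g hg hgN
    obtain ⟨hgS, α, hα, Hα⟩ := hg
    obtain ⟨c, hc'⟩ : ∃ c : MulAut P, c = P.normalizerMonoidHom ⟨g, hgN⟩ := ⟨_, rfl⟩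
    have hcg : ∀ x : P, ((c x : P) : Ω) = g * x * g⁻¹ := by
      intro x; rw [hc']; rfl
    have hcA : c ∈ F.autGroup P := by
      apply autInducedBy_le_autGroup F hPS
      rw [mem_autInducedBy_iff]
      exact ⟨g, hgS, hcg⟩
    obtain ⟨a, ha, rfl⟩ := hα
    have hρc : ρ ⟨c, hcA⟩ = a := by
      apply Subtype.ext
      apply MulEquiv.ext
      intro t
      apply Subtype.ext
      have h1 := restrictAut_spec F hQsc hQP hPS ⟨c, hcA⟩ t
      rw [← hρ] at h1
      rw [h1]
      show ((c ⟨t, hQP t.2⟩ : P) : Ω) = _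
      rw [hcg]
      exact (Hα t).symm
    have hcM : (⟨c, hcA⟩ : F.autGroup P) ∈ (Cfsg.pCore p (F.autGroup Q)).comap ρ := by
      rw [Subgroup.mem_comap, hρc]; exact ha
    have hcI : c ∈ Inn P := by
      rw [← hPr.2]
      exact ⟨⟨c, hcA⟩, hMle hcM, rfl⟩
    exact mem_of_induces_inner hCle hcI hgS hPS hcg
  -- normalizers grow
  have hTS : plusSub F p Q ≤ S := plusSub_le F p Q
  have hKS : P ⊔ plusSub F p Q ≤ S := sup_le hPS hTS
  have hPNT : P ≤ Subgroup.normalizer ((plusSub F p Q : Subgroup Ω) : Set Ω) :=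
    hPS.trans (fs_stronglyClosed_le_normalizer F hTsc)
  have hNP : normalizerIn (P ⊔ plusSub F p Q) P ≤ P := by
    intro g hg
    obtain ⟨h, hh, n, hn, rfl⟩ := mem_sup_of_le_normalizer' hPNT hg.1
    have hnN : n ∈ Subgroup.normalizer (P : Set Ω) := by
      have h1 : h⁻¹ * (h * n) ∈ Subgroup.normalizer (P : Set Ω) :=
        Subgroup.mul_mem _ (Subgroup.inv_mem _ (Subgroup.le_normalizer hh)) hg.2
      simpa using h1
    exact P.mul_mem hh (key n hn hnN)
  have hKP : P ⊔ plusSub F p Q = P := by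
    by_contra hne
    have hlt : P < P ⊔ plusSub F p Q := lt_of_le_of_ne le_sup_left (fun h => hne h.symm)
    haveI : Finite ↥(P ⊔ plusSub F p Q) := fs_finite_of_le hKS
    have h1 := fs_lt_normalizerIn (S := P ⊔ plusSub F p Q) p (hS.to_le hKS) hlt
    exact absurd (lt_of_lt_of_le h1 hNP) (lt_irrefl _)
  rw [← hKP]
  exact le_sup_right

/-- The preimage of `O_p(Aut_F(Q))`, for `Q` normal and centric, is normal in the system. -/
theorem plusSub_isNormal [Finite S] (p : ℕ) [Fact p.Prime] (hS : IsPGroup p S) (F : FusionSystem S)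
    (hF : F.IsSaturated p) {Q : Subgroup Ω} (hQ : F.IsNormal Q) (hQc : F.IsCentric Q) :
    F.IsNormal (plusSub F p Q) := by
  rw [fs_isNormal_iff_centric_radical p hS F hF]
  exact ⟨plusSub_stronglyClosed F p hQ, fun P hPc hPr => plusSub_le_centric_radical p hS F hF hQ hQc hPc hPr⟩

/-- When the core of the system is centric, it is radical: an element of `S` inducing on the core an
automorphism in `O_p(Aut_F(core))` lies in the core. -/
theorem mem_core_of_induces_opAut [Finite S] (p : ℕ) [Fact p.Prime] (hS : IsPGroup p S) (F : FusionSystem S)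
    (hF : F.IsSaturated p) (hOc : F.IsCentric F.core) {x : Ω} (hx : x ∈ S) {α : MulAut F.core}
    (hα : α ∈ ((Cfsg.pCore p (F.autGroup F.core)).map (F.autGroup F.core).subtype : Subgroup (MulAut F.core)))
    (Hα : ∀ y : F.core, ((α y : F.core) : Ω) = x * y * x⁻¹) : x ∈ F.core := by
  have hOn : F.IsNormal F.core := Cfsg.Agent.S5145.result F
  have h1 := plusSub_isNormal p hS F hF hOn hOc
  have h2 : plusSub F p F.core ≤ F.core := le_sSup h1
  exact h2 ⟨hx, α, hα, Hα⟩

end Cfsg.Agent.Lib.Helper9.H9Constr
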