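import Mathlib
import Cfsg.Prelude.Def_FusionSystem
import Cfsg.Prelude.Def_FusionComponents
import Cfsg.Agent.Lib.Helper9.Constr2
import Cfsg.Agent.Lib.Helper9.Radical3
import Cfsg.Agent.Lib.Helper9.FusionNormal5

set_option autoImplicit false

namespace Cfsg.Agent.Lib.Helper9.H9Constr

open Cfsg Cfsg.FusionSystem Cfsg.Agent.Lib.Helper9
open scoped commutatorElement

variable {Ω : Type*} [Group Ω] {S : Subgroup Ω}

/-- A saturated subsystem, over a strongly closed subgroup, of a constrained system is constrained. -/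
theorem constrained_of_subsystem [Finite S] (p : ℕ) [Fact p.Prime] (hS : IsPGroup p S) (F : FusionSystem S)
    (hF : F.IsConstrained p) {T : Subgroup Ω} (E : FusionSystem T) (hEs : E.IsSaturated p)
    (hEF : E.IsSubsystemOf F) (hT : F.StronglyClosed T) : E.IsConstrained p := by
  obtain ⟨hFs, Q, hQn, hQc⟩ := hF
  have hOn : F.IsNormal F.core := Cfsg.Agent.S5145.result F
  have hQO : Q ≤ F.core := le_sSup hQn
  have hOS := hOn.1
  have hOc : F.IsCentric F.core := fs_centric_of_le F hQc hQO hOS
  have hTS : T ≤ S := hT.1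
  haveI : Finite T := fs_finite_of_le hTS
  have hTp : IsPGroup p T := hS.to_le hTS
  obtain ⟨n, Qs, h0, hlast, hmono, hstep⟩ := fs_series_of_isNormal p hS F F.core hOn
  have hRn : E.IsNormal (F.core ⊓ T) := by
    apply fs_isNormal_of_series p hTp E hEs (F.core ⊓ T) n (fun i => Qs i ⊓ T)
    · show Qs 0 ⊓ T = ⊥
      rw [h0]; simp
    · show Qs (Fin.last n) ⊓ T = _
      rw [hlast]
    · intro i j hij
      exact inf_le_inf_right T (hmono hij)
    · intro i
      obtain ⟨hsc, hcomm⟩ := hstep i
      refine ⟨⟨inf_le_right, fun R hR φ hφ x => ?_⟩, ?_⟩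
      · have hφF := hEF R hφ
        exact ⟨hsc.2 R (hR.trans inf_le_left) φ hφF x, hT.2 R (hR.trans inf_le_right) φ hφF x⟩
      · apply le_inf
        · exact (Subgroup.commutator_mono inf_le_left inf_le_left).trans hcomm
        · exact (Subgroup.commutator_mono inf_le_right inf_le_right).trans
            (commutator_le_of_le_normalizer Subgroup.le_normalizer)
  refine ⟨hEs, F.core ⊓ T, hRn, inf_le_right, ?_⟩
  intro R' hR'
  have hwc := fs_weaklyClosed_of_isNormal E hRn
  obtain ⟨φ, hφ, rfl⟩ := hR'
  rw [hwc.2 φ hφ]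
  by_contra hC
  obtain ⟨x, hxN, hxO, α, hα, Hα⟩ := exists_outer_pCore p hS F hT hOS hC
  exact hxO (mem_core_of_induces_opAut p hS F hFs hOc hxN.1 hα Hα)

/-- A subsystem over `T` of a system over `S` has `T ≤ S`. -/
theorem le_of_isSubsystemOf {T : Subgroup Ω} (E : FusionSystem T) (F : FusionSystem S)
    (h : E.IsSubsystemOf F) : T ≤ S :=
  (F.le_of_mem (h T (fs_subtype_mem E le_rfl))).1

/-- A subnormal subsystem of a constrained system is constrained. -/
theorem constrained_of_subnormal {T S : Subgroup Ω} {E : FusionSystem T} {F : FusionSystem S} {p : ℕ}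
    (h : E.IsSubnormalIn F p) :
    ∀ [Fact p.Prime] [Finite S], IsPGroup p S → F.IsConstrained p → E.IsConstrained p := by
  induction h with
  | refl F p => intro _ _ _ h; exact h
  | step hED hDF ih =>
    rename_i U S' E' D F' p'
    intro _ _ hS hF
    have hinv := hDF.1.2.2
    have hUS : U ≤ S' := hinv.2.1.1
    haveI : Finite U := fs_finite_of_le hUS
    have hD : D.IsConstrained p' := constrained_of_subsystem p' hS F' hF D hDF.1.1 hinv.1 hinv.2.1
    exact ih (hS.to_le hUS) hD

end Cfsg.Agent.Lib.Helper9.H9Constr
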