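import Mathlib
import Cfsg.Prelude.Def_FusionSystem
import Cfsg.Prelude.Def_FusionComponents
import Cfsg.Agent.Lib.Helper9.Realize1

set_option autoImplicit false

namespace Cfsg.Agent.Lib.Helper9.H9Constr

open Cfsg Cfsg.FusionSystem Cfsg.Agent.Lib.Helper9

variable {Ω : Type*} [Group Ω] {S : Subgroup Ω} {G : Type*} [Group G]

/-- Group-theoretic form of "`Q` is normal in the fusion system of `G` on `T`". -/
def GNormal (T Q : Subgroup G) : Prop :=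
  Q ≤ T ∧ ∀ P : Subgroup G, P ≤ T → ∀ g : G, (∀ x ∈ P, g * x * g⁻¹ ∈ T) →
    ∃ h : G, (∀ x ∈ P ⊔ Q, h * x * h⁻¹ ∈ T) ∧ (∀ x ∈ P, h * x * h⁻¹ = g * x * g⁻¹) ∧
      (∀ x ∈ Q, h * x * h⁻¹ ∈ Q) ∧ (∀ x ∈ Q, h⁻¹ * x * h ∈ Q)

/-- Group-theoretic form of "`Q` is centric in the fusion system of `G` on `T`". -/
def GCentric (T Q : Subgroup G) : Prop :=
  Q ≤ T ∧ ∀ g : G, (∀ x ∈ Q, g * x * g⁻¹ ∈ T) → ∀ c ∈ T,
    (∀ x ∈ Q, c * (g * x * g⁻¹) = (g * x * g⁻¹) * c) → ∃ x ∈ Q, c = g * x * g⁻¹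

theorem imageAlong_le_range (ι : S →* G) (R : Subgroup Ω) : imageAlong ι R ≤ ι.range := by
  rintro _ ⟨s, -, rfl⟩
  exact ⟨s, rfl⟩

theorem imageAlong_mono (ι : S →* G) {R R' : Subgroup Ω} (h : R ≤ R') : imageAlong ι R ≤ imageAlong ι R' := by
  rintro _ ⟨s, hs, rfl⟩
  exact ⟨s, h hs, rfl⟩

theorem imageAlong_sup_le (ι : S →* G) {P Q : Subgroup Ω} (hP : P ≤ S) (hQ : Q ≤ S) :
    imageAlong ι (P ⊔ Q) ≤ imageAlong ι P ⊔ imageAlong ι Q := by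
  unfold imageAlong
  rw [Subgroup.subgroupOf_sup hP hQ, Subgroup.map_sup]

theorem mem_of_ι_mem_imageAlong (ι : S →* G) (hinj : Function.Injective ι) {R : Subgroup Ω} {s : S}
    (h : ι s ∈ imageAlong ι R) : (s : Ω) ∈ R := by
  obtain ⟨s', hs', hss'⟩ := (mem_imageAlong_iff ι R _).mp h
  rw [← hinj hss']
  exact hs'

theorem isNormal_iff_gNormal {F : FusionSystem S} {ι : S →* G} (hι : F.IsRealizedBy ι) {Q : Subgroup Ω}
    (hQS : Q ≤ S) : F.IsNormal Q ↔ GNormal ι.range (imageAlong ι Q) := by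
  have hinj := hι.1
  constructor
  · intro hQ
    refine ⟨imageAlong_le_range ι Q, fun Pb hPb g hg => ?_⟩
    have hPS : preimageAlong ι Pb ≤ S := preimageAlong_le ι Pb
    have hval : ∀ x : preimageAlong ι Pb, g * ι ⟨x, hPS x.2⟩ * g⁻¹ ∈ ι.range :=
      fun x => hg _ (apply_mem_of_mem_preimageAlong ι Pb x)
    have hφ := liftConj_mem_hom hι hPS g hval
    obtain ⟨ψ, hψ, hψφ, hψQ⟩ := hQ.2 _ _ hφ
    obtain ⟨hKS, hψS⟩ := F.le_of_mem hψ
    obtain ⟨h, Hh⟩ := (hι.2 _ hKS ψ hψS).mp hψ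
    have hψQmem : ∀ (s : S) (hs : (s : Ω) ∈ Q), ψ ⟨s, Subgroup.mem_sup_right hs⟩ ∈ Q := by
      intro s hs
      have h1 : ψ ⟨s, Subgroup.mem_sup_right hs⟩ ∈ (Q.subgroupOf (preimageAlong ι Pb ⊔ Q)).map ψ :=
        ⟨⟨s, Subgroup.mem_sup_right hs⟩, Subgroup.mem_subgroupOf.mpr hs, rfl⟩
      rw [hψQ] at h1
      exact h1
    refine ⟨h, ?_, ?_, ?_, ?_⟩
    · have hle : Pb ⊔ imageAlong ι Q ≤ imageAlong ι (preimageAlong ι Pb ⊔ Q) :=
        sup_le ((le_imageAlong_preimageAlong ι hPb).trans (imageAlong_mono ι le_sup_left))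
          (imageAlong_mono ι le_sup_right)
      intro x hx
      obtain ⟨s, hs, rfl⟩ := (mem_imageAlong_iff ι _ x).mp (hle hx)
      have h1 := Hh ⟨s, hs⟩
      exact ⟨_, h1⟩
    · intro x hx
      obtain ⟨s, rfl⟩ := hPb hx
      have hsP : (s : Ω) ∈ preimageAlong ι Pb := (mem_preimageAlong_iff ι Pb s).mpr ⟨s.2, hx⟩
      have h1 := Hh ⟨s, Subgroup.mem_sup_left hsP⟩
      have h2 := hψφ ⟨s, hsP⟩
      have h3 := ι_liftConj ι hinj hPS g hval ⟨s, hsP⟩ (liftConj_mem ι hinj hPS g hval _)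
      have h4 : (⟨ψ ⟨s, Subgroup.mem_sup_left hsP⟩, hψS _⟩ : S) =
          ⟨liftConj ι hinj hPS g hval ⟨s, hsP⟩, liftConj_mem ι hinj hPS g hval _⟩ := Subtype.ext h2
      rw [h4, h3] at h1
      exact h1.symm
    · intro x hx
      obtain ⟨s, hs, rfl⟩ := (mem_imageAlong_iff ι _ x).mp hx
      have h1 := Hh ⟨s, Subgroup.mem_sup_right hs⟩
      rw [← h1]
      exact apply_mem_imageAlong ι (hψS _) (hψQmem s hs)
    · intro x hx
      obtain ⟨s, hs, rfl⟩ := (mem_imageAlong_iff ι _ x).mp hx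
      -- s = ψ q' for some q' ∈ Q
      have h1 : (⟨s, Subgroup.mem_sup_right hs⟩ : ↥(preimageAlong ι Pb ⊔ Q)).1 ∈ (Q.subgroupOf (preimageAlong ι Pb ⊔ Q)).map ψ := by
        rw [hψQ]; exact hs
      obtain ⟨q', hq', hq'ψ⟩ := h1
      have hq'Q : (q' : Ω) ∈ Q := Subgroup.mem_subgroupOf.mp hq'
      have h2 := Hh q'
      have h3 : (⟨ψ q', hψS q'⟩ : S) = s := Subtype.ext hq'ψ
      rw [h3] at h2
      rw [h2]
      have h4 : h⁻¹ * (h * ι ⟨q', hKS q'.2⟩ * h⁻¹) * h = ι ⟨q', hKS q'.2⟩ := by group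
      rw [h4]
      exact apply_mem_imageAlong ι (hKS q'.2) hq'Q
  · rintro ⟨-, hN⟩
    refine ⟨hQS, fun P φ hφ => ?_⟩
    obtain ⟨hPS, hφS⟩ := F.le_of_mem hφ
    obtain ⟨g, Hg⟩ := (hι.2 P hPS φ hφS).mp hφ
    have hg : ∀ x ∈ imageAlong ι P, g * x * g⁻¹ ∈ ι.range := by
      intro x hx
      obtain ⟨s, hs, rfl⟩ := (mem_imageAlong_iff ι _ x).mp hx
      exact ⟨_, Hg ⟨s, hs⟩⟩
    obtain ⟨h, h1, h2, h3, h4⟩ := hN (imageAlong ι P) (imageAlong_le_range ι P) g hg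
    have hKS : P ⊔ Q ≤ S := sup_le hPS hQS
    have hval : ∀ x : ↥(P ⊔ Q), h * ι ⟨x, hKS x.2⟩ * h⁻¹ ∈ ι.range := by
      intro x
      apply h1
      exact imageAlong_sup_le ι hPS hQS (apply_mem_imageAlong ι (hKS x.2) x.2)
    have hψ := liftConj_mem_hom hι hKS h hval
    have hψι : ∀ x : ↥(P ⊔ Q), ι ⟨liftConj ι hinj hKS h hval x, liftConj_mem ι hinj hKS h hval x⟩ =
        h * ι ⟨x, hKS x.2⟩ * h⁻¹ := fun x => ι_liftConj ι hinj hKS h hval x _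
    refine ⟨liftConj ι hinj hKS h hval, hψ, ?_, ?_⟩
    · intro x
      have e1 := hψι (Subgroup.inclusion le_sup_left x)
      have e2 := Hg x
      have e3 : h * ι ⟨x, hPS x.2⟩ * h⁻¹ = g * ι ⟨x, hPS x.2⟩ * g⁻¹ :=
        h2 _ (apply_mem_imageAlong ι (hPS x.2) x.2)
      have e4 : ι ⟨liftConj ι hinj hKS h hval (Subgroup.inclusion le_sup_left x),
          liftConj_mem ι hinj hKS h hval _⟩ = ι ⟨φ x, hφS x⟩ := by
        rw [e1, e2]; exact e3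
      exact congrArg (fun z : S => (z : Ω)) (hinj e4)
    · ext y
      constructor
      · rintro ⟨x, hx, rfl⟩
        have hxQ : (x : Ω) ∈ Q := Subgroup.mem_subgroupOf.mp hx
        have e1 := hψι x
        have e2 : h * ι ⟨x, hKS x.2⟩ * h⁻¹ ∈ imageAlong ι Q :=
          h3 _ (apply_mem_imageAlong ι (hKS x.2) hxQ)
        rw [← e1] at e2
        exact mem_of_ι_mem_imageAlong ι hinj e2
      · intro hy
        have e2 : h⁻¹ * ι ⟨y, hQS hy⟩ * h ∈ imageAlong ι Q :=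
          h4 _ (apply_mem_imageAlong ι (hQS hy) hy)
        obtain ⟨s, hs, hse⟩ := (mem_imageAlong_iff ι _ _).mp e2
        refine ⟨⟨s, Subgroup.mem_sup_right hs⟩, Subgroup.mem_subgroupOf.mpr hs, ?_⟩
        have e1 := hψι ⟨s, Subgroup.mem_sup_right hs⟩
        have e3 : ι ⟨liftConj ι hinj hKS h hval ⟨s, Subgroup.mem_sup_right hs⟩,
            liftConj_mem ι hinj hKS h hval _⟩ = ι ⟨y, hQS hy⟩ := by
          rw [e1]
          have : ι ⟨(⟨s, Subgroup.mem_sup_right hs⟩ : ↥(P ⊔ Q)), hKS (Subgroup.mem_sup_right hs)⟩ = ι s := rfl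
          rw [this, hse]
          group
        exact congrArg (fun z : S => (z : Ω)) (hinj e3)

end Cfsg.Agent.Lib.Helper9.H9Constr
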