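import Mathlib
import Cfsg.Prelude.Def_FusionSystem
import Cfsg.Prelude.Def_FusionComponents
import Cfsg.Agent.Lib.Helper9.Constr4

set_option autoImplicit false

namespace Cfsg.Agent.Lib.Helper9.H9Constr

open Cfsg Cfsg.FusionSystem Cfsg.Agent.Lib.Helper9

variable {Ω : Type*} [Group Ω] {S : Subgroup Ω} {G : Type*} [Group G]

theorem isCentric_iff_gCentric {F : FusionSystem S} {ι : S →* G} (hι : F.IsRealizedBy ι) {Q : Subgroup Ω}
    (hQS : Q ≤ S) : F.IsCentric Q ↔ GCentric ι.range (imageAlong ι Q) := by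
  have hinj := hι.1
  constructor
  · intro hQ
    refine ⟨imageAlong_le_range ι Q, fun g hg c hc hcomm => ?_⟩
    have hval : ∀ x : Q, g * ι ⟨x, hQS x.2⟩ * g⁻¹ ∈ ι.range :=
      fun x => hg _ (apply_mem_imageAlong ι (hQS x.2) x.2)
    have hφ := liftConj_mem_hom hι hQS g hval
    have hφι : ∀ x : Q, ι ⟨liftConj ι hinj hQS g hval x, liftConj_mem ι hinj hQS g hval x⟩ =
        g * ι ⟨x, hQS x.2⟩ * g⁻¹ := fun x => ι_liftConj ι hinj hQS g hval x _
    have hcen := hQ.2 _ ⟨_, hφ, rfl⟩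
    obtain ⟨s, rfl⟩ := hc
    have hsC : (s : Ω) ∈ centralizerIn S (liftConj ι hinj hQS g hval).range := by
      refine ⟨s.2, ?_⟩
      show (s : Ω) ∈ Subgroup.centralizer ((liftConj ι hinj hQS g hval).range : Set Ω)
      rw [Subgroup.mem_centralizer_iff]
      rintro _ ⟨x, rfl⟩
      have e1 := hcomm _ (apply_mem_imageAlong ι (hQS x.2) x.2)
      rw [← hφι x, ← map_mul, ← map_mul] at e1
      have e2 := hinj e1
      exact (congrArg (fun z : S => (z : Ω)) e2).symm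
    obtain ⟨x, hx⟩ := hcen hsC
    refine ⟨ι ⟨x, hQS x.2⟩, apply_mem_imageAlong ι (hQS x.2) x.2, ?_⟩
    rw [← hφι x]
    congr 1
    exact Subtype.ext hx.symm
  · rintro ⟨-, hC⟩
    refine ⟨hQS, ?_⟩
    rintro _ ⟨φ, hφ, rfl⟩
    obtain ⟨-, hφS⟩ := F.le_of_mem hφ
    obtain ⟨g, Hg⟩ := (hι.2 Q hQS φ hφS).mp hφ
    have hg : ∀ x ∈ imageAlong ι Q, g * x * g⁻¹ ∈ ι.range := by
      intro x hx
      obtain ⟨s, hs, rfl⟩ := (mem_imageAlong_iff ι _ x).mp hx
      exact ⟨_, Hg ⟨s, hs⟩⟩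
    intro s hs
    have hsS : s ∈ S := hs.1
    have hsC : s ∈ Subgroup.centralizer (φ.range : Set Ω) := hs.2
    rw [Subgroup.mem_centralizer_iff] at hsC
    have hcomm : ∀ x ∈ imageAlong ι Q, ι ⟨s, hsS⟩ * (g * x * g⁻¹) = (g * x * g⁻¹) * ι ⟨s, hsS⟩ := by
      intro x hx
      obtain ⟨s', hs', rfl⟩ := (mem_imageAlong_iff ι _ x).mp hx
      have e1 := Hg ⟨s', hs'⟩
      have e0 : ι ⟨((⟨s', hs'⟩ : Q) : Ω), hQS hs'⟩ = ι s' := rfl
      rw [e0] at e1
      rw [← e1, ← map_mul, ← map_mul]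
      congr 1
      apply Subtype.ext
      exact (hsC _ ⟨⟨s', hs'⟩, rfl⟩).symm
    obtain ⟨x, hx, hcx⟩ := hC g hg (ι ⟨s, hsS⟩) ⟨_, rfl⟩ hcomm
    obtain ⟨s', hs', rfl⟩ := (mem_imageAlong_iff ι _ x).mp hx
    have e1 := Hg ⟨s', hs'⟩
    have e0 : ι ⟨((⟨s', hs'⟩ : Q) : Ω), hQS hs'⟩ = ι s' := rfl
    rw [e0] at e1
    rw [← e1] at hcx
    have e2 := hinj hcx
    refine ⟨⟨s', hs'⟩, ?_⟩
    exact (congrArg (fun z : S => (z : Ω)) e2).symm

/-- Group-theoretic form of the existence of a normal centric subgroup. -/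
def GConstr (T : Subgroup G) : Prop := ∃ Q : Subgroup G, GNormal T Q ∧ GCentric T Q

theorem exists_normal_centric_iff {F : FusionSystem S} {ι : S →* G} (hι : F.IsRealizedBy ι) :
    (∃ Q : Subgroup Ω, F.IsNormal Q ∧ F.IsCentric Q) ↔ GConstr ι.range := by
  constructor
  · rintro ⟨Q, hQn, hQc⟩
    exact ⟨imageAlong ι Q, (isNormal_iff_gNormal hι hQn.1).mp hQn, (isCentric_iff_gCentric hι hQn.1).mp hQc⟩
  · rintro ⟨Qb, hn, hc⟩
    have hQb : Qb ≤ ι.range := hn.1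
    have hS' : preimageAlong ι Qb ≤ S := preimageAlong_le ι Qb
    have himg : imageAlong ι (preimageAlong ι Qb) = Qb :=
      le_antisymm (imageAlong_preimageAlong_le ι Qb) (le_imageAlong_preimageAlong ι hQb)
    refine ⟨preimageAlong ι Qb, ?_, ?_⟩
    · rw [isNormal_iff_gNormal hι hS', himg]; exact hn
    · rw [isCentric_iff_gCentric hι hS', himg]; exact hc

/-- Two systems realized in the same group with the same image: a normal centric subgroup transfers. -/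
theorem exists_normal_centric_transfer {Ω' : Type*} [Group Ω'] {S' : Subgroup Ω'}
    {F : FusionSystem S} {ι : S →* G} (hι : F.IsRealizedBy ι)
    {F' : FusionSystem S'} {ι' : S' →* G} (hι' : F'.IsRealizedBy ι') (hrange : ι.range = ι'.range)
    (h : ∃ Q : Subgroup Ω, F.IsNormal Q ∧ F.IsCentric Q) :
    ∃ Q : Subgroup Ω', F'.IsNormal Q ∧ F'.IsCentric Q := by
  rw [exists_normal_centric_iff hι'] 
  rw [exists_normal_centric_iff hι] at h
  rw [← hrange]; exact h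

end Cfsg.Agent.Lib.Helper9.H9Constr
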