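import Mathlib
import Cfsg.Prelude.Def_FusionSystem
import Cfsg.Prelude.Def_FusionComponents
import Cfsg.Agent.Lib.Helper9.Constr3
import Cfsg.Agent.Lib.Helper9.Constr5
import Cfsg.Agent.Lib.Helper9.Realize3
import Cfsg.Agent.Lib.Helper9.Hyperfocal1

set_option autoImplicit false

namespace Cfsg.Agent.Lib.Helper9.H9Constr

open Cfsg Cfsg.FusionSystem Cfsg.Agent.Lib.Helper9

/-- The fusion system of a group on a subgroup is realized by the inclusion. -/
theorem gfs_isRealizedBy {G : Type*} [Group G] (T : Subgroup G) :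
    (groupFusionSystem T).IsRealizedBy T.subtype := by
  refine ⟨Subgroup.subtype_injective T, fun P hP φ hφ => ?_⟩
  constructor
  · rintro ⟨-, -, g, hg⟩
    exact ⟨g, fun x => hg x⟩
  · rintro ⟨g, hg⟩
    exact ⟨hP, hφ, g, fun x => hg x⟩

/-- Composing a realization with a group isomorphism. -/
theorem isRealizedBy_comp_equiv {Ω : Type*} [Group Ω] {S : Subgroup Ω} {G₁ G₂ : Type*} [Group G₁] [Group G₂]
    {F : FusionSystem S} {ι : S →* G₁} (hι : F.IsRealizedBy ι) (e : G₁ ≃* G₂) :
    F.IsRealizedBy (e.toMonoidHom.comp ι) := by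
  refine ⟨e.injective.comp hι.1, fun P hP φ hφ => ?_⟩
  rw [hι.2 P hP φ hφ]
  constructor
  · rintro ⟨g, hg⟩
    refine ⟨e g, fun x => ?_⟩
    show e (ι _) = e g * e (ι _) * (e g)⁻¹
    rw [hg x, map_mul, map_mul, map_inv]
  · rintro ⟨g, hg⟩
    refine ⟨e.symm g, fun x => ?_⟩
    apply e.injective
    have := hg x
    rw [map_mul, map_mul, map_inv, e.apply_symm_apply]
    exact this

/-- Transport of "constrained" along a group isomorphism. -/
theorem constrained_equiv {G₁ G₂ : Type*} [Group G₁] [Group G₂] [Finite G₂] (p : ℕ) [Fact p.Prime]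
    (e : G₁ ≃* G₂) (T₁ : Subgroup G₁) (T₂ : Sylow p G₂)
    (hT : (T₂ : Subgroup G₂) = T₁.map e.toMonoidHom)
    (h : ∃ Q : Subgroup G₁, (groupFusionSystem T₁).IsNormal Q ∧ (groupFusionSystem T₁).IsCentric Q) :
    (groupFusionSystem (T₂ : Subgroup G₂)).IsConstrained p := by
  refine ⟨Cfsg.Agent.S5076.result p T₂, ?_⟩
  have h1 := isRealizedBy_comp_equiv (gfs_isRealizedBy T₁) e
  have h2 := gfs_isRealizedBy (T₂ : Subgroup G₂)
  refine exists_normal_centric_transfer h1 h2 ?_ h
  rw [Subgroup.range_subtype, hT, MonoidHom.range_comp, Subgroup.range_subtype]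

/-- The normal step. -/
theorem constrained_normal_step {G : Type*} [Group G] [Finite G] (p : ℕ) [Fact p.Prime] (S : Sylow p G)
    (hF : (groupFusionSystem (S : Subgroup G)).IsConstrained p) (N : Subgroup G) [hN : N.Normal] :
    ∃ T : Sylow p N, (T : Subgroup N) = (S : Subgroup G).subgroupOf N ∧
      (groupFusionSystem ((S : Subgroup G).subgroupOf N)).IsConstrained p := by
  have hι := gfs_isRealizedBy (S : Subgroup G)
  have hT : (S : Subgroup G) = ((S : Subgroup G).subtype).range := (Subgroup.range_subtype _).symm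
  have hEn := realSub_isNormalIn (groupFusionSystem (S : Subgroup G)) (S : Subgroup G).subtype hι S hT N
  have hEc := constrained_of_subsystem p S.isPGroup' _ hF _ hEn.1.1 hEn.1.2.2.1 hEn.1.2.2.2.1
  obtain ⟨T, hTm⟩ := exists_sylow_map_eq_inf S N
  have hTeq : (T : Subgroup N) = (S : Subgroup G).subgroupOf N := by
    ext x
    rw [Subgroup.mem_subgroupOf]
    constructor
    · intro hx
      have : (x : G) ∈ (T : Subgroup N).map N.subtype := ⟨x, hx, rfl⟩
      rw [hTm] at this
      exact this.1
    · intro hx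
      have : (x : G) ∈ (T : Subgroup N).map N.subtype := by
        rw [hTm]; exact ⟨hx, x.2⟩
      obtain ⟨y, hy, hyx⟩ := this
      have : y = x := Subtype.ext hyx
      rw [← this]; exact hy
  refine ⟨T, hTeq, ?_, ?_⟩
  · rw [← hTeq]
    exact Cfsg.Agent.S5076.result p T
  · have h1 := realSub_isRealizedBy (S : Subgroup G).subtype hι.1 N
    have h2 := gfs_isRealizedBy ((S : Subgroup G).subgroupOf N)
    refine exists_normal_centric_transfer h1 h2 ?_ hEc.2
    rw [realRes_range, Subgroup.range_subtype, Subgroup.range_subtype, Subgroup.inf_subgroupOf_right]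

/-- Subnormal subgroups of a group with constrained fusion system have constrained fusion systems. -/
theorem constrained_subnormal {G : Type*} [Group G] [Finite G] (p : ℕ) [Fact p.Prime] (S : Sylow p G)
    (hF : (groupFusionSystem (S : Subgroup G)).IsConstrained p) {H : Subgroup G} (hH : H.IsSubnormal) :
    ∃ T : Sylow p H, (T : Subgroup H) = (S : Subgroup G).subgroupOf H ∧
      (groupFusionSystem ((S : Subgroup G).subgroupOf H)).IsConstrained p := by
  induction hH with
  | top => exact constrained_normal_step p S hF ⊤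
  | step H K h_le hK hN ih =>
    obtain ⟨TK, hTK, hFK⟩ := ih
    rw [← hTK] at hFK
    haveI := hN
    obtain ⟨T', hT', hF'⟩ := constrained_normal_step p TK hFK (H.subgroupOf K)
    obtain ⟨e, he⟩ : ∃ e : ↥(H.subgroupOf K) ≃* ↥H, e = Subgroup.subgroupOfEquivOfLe h_le := ⟨_, rfl⟩
    have hcoe : ∀ y : H, (((e.symm y : ↥(H.subgroupOf K)) : K) : G) = (y : G) := by
      intro y; rw [he]; rfl
    have hle : (T' : Subgroup ↥(H.subgroupOf K)) ≤ e.symm.toMonoidHom.range := by
      intro x _
      exact ⟨e x, e.symm_apply_apply x⟩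
    have hinj : Function.Injective e.symm.toMonoidHom := e.symm.injective
    obtain ⟨T₂, hT₂⟩ : ∃ T₂ : Sylow p H, T₂ = T'.comapOfInjective e.symm.toMonoidHom hinj hle :=
      ⟨_, rfl⟩
    have hT₂c : (T₂ : Subgroup H) = (T' : Subgroup ↥(H.subgroupOf K)).comap e.symm.toMonoidHom := by
      rw [hT₂]; exact Sylow.coe_comapOfInjective T' e.symm.toMonoidHom hinj hle
    have hT₂S : (T₂ : Subgroup H) = (S : Subgroup G).subgroupOf H := by
      rw [hT₂c]
      ext y
      rw [Subgroup.mem_comap, hT', Subgroup.mem_subgroupOf, hTK, Subgroup.mem_subgroupOf,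
        Subgroup.mem_subgroupOf]
      show (((e.symm y : ↥(H.subgroupOf K)) : K) : G) ∈ (S : Subgroup G) ↔ _
      rw [hcoe]
    have hmap : (T₂ : Subgroup H) = ((TK : Subgroup K).subgroupOf (H.subgroupOf K)).map e.toMonoidHom := by
      rw [hT₂c, hT']
      ext y
      rw [Subgroup.mem_comap]
      constructor
      · intro hy
        exact ⟨e.symm y, hy, e.apply_symm_apply y⟩
      · rintro ⟨x, hx, rfl⟩
        show e.symm (e x) ∈ _
        rw [e.symm_apply_apply]; exact hx
    refine ⟨T₂, hT₂S, ?_⟩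
    rw [← hT₂S]
    exact constrained_equiv p e _ T₂ hmap hF'.2

end Cfsg.Agent.Lib.Helper9.H9Constr
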