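import Mathlib
import Cfsg.Prelude.Def_FusionSystem
import Cfsg.Agent.Lib.Helper9.Constr1
import Cfsg.Agent.Lib.Helper9.Radical3

set_option autoImplicit false
set_option maxHeartbeats 1000000

namespace Cfsg.Agent.Lib.Helper9.H9Constr

open Cfsg Cfsg.FusionSystem Cfsg.Agent.Lib.Helper9

variable {Ω : Type*} [Group Ω] {S : Subgroup Ω}

/-- An element of `N_S(P)` that centralizes `P ∩ B` and `P/(P ∩ B)`, for an `Aut_F(P)`-invariant `B`, induces an
automorphism of `P` lying in `O_p(Aut_F(P))`. -/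
theorem conjAut_mem_opAut_of_two_step [Finite S] (p : ℕ) [Fact p.Prime] (hS : IsPGroup p S)
    (F : FusionSystem S) {P : Subgroup Ω} (hPS : P ≤ S) (B : Subgroup Ω)
    (hBinv : ∀ γ ∈ F.autGroup P, ∀ y : P, (y : Ω) ∈ B → ((γ y : P) : Ω) ∈ B)
    {c : Ω} (hcS : c ∈ S) (hcN : c ∈ Subgroup.normalizer (P : Set Ω))
    (hcB : ∀ y ∈ P, y ∈ B → c * y * c⁻¹ = y)
    (hcP : ∀ y ∈ P, y⁻¹ * (c * y * c⁻¹) ∈ B) :
    conjAut P c hcN ∈ opAut F p P := by
  haveI : Finite P := fs_finite_of_le hPS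
  let Ps : ℕ → Subgroup P := fun i => if i = 0 then ⊥ else if i = 1 then B.subgroupOf P else ⊤
  have hmono : Monotone Ps := by
    apply monotone_nat_of_le_succ
    intro i
    show Ps i ≤ Ps (i + 1)
    by_cases h0 : i = 0
    · subst h0; simp [Ps]
    · by_cases h1 : i = 1
      · subst h1; simp [Ps]
      · have h2 : i + 1 ≠ 0 := by omega
        have h3 : i + 1 ≠ 1 := by omega
        simp [Ps, h0, h1, h2, h3]
  have hP0 : Ps 0 = ⊥ := by simp [Ps]
  have hP2 : Ps 2 = ⊤ := by simp [Ps]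
  have hP1 : Ps 1 = B.subgroupOf P := by simp [Ps]
  have hαF : conjAut P c hcN ∈ F.autGroup P :=
    autInducedBy_le_autGroup F hPS ((mem_autInducedBy_iff S P _).mpr ⟨c, hcS, fun y => rfl⟩)
  show conjAut P c hcN ∈ (Cfsg.pCore p (F.autGroup P)).map (F.autGroup P).subtype
  apply chainStab_le_pCore p hS F hPS Ps hmono hP0 2 hP2
  · intro γ hγ i y hy
    by_cases h0 : i = 0
    · subst h0
      rw [hP0, Subgroup.mem_bot] at hy ⊢
      rw [hy, map_one]
    · by_cases h1 : i = 1
      · subst h1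
        rw [hP1, Subgroup.mem_subgroupOf] at hy ⊢
        exact hBinv γ hγ y hy
      · have : Ps i = ⊤ := by simp [Ps, h0, h1]
        rw [this]; trivial
  · refine ⟨?_, hαF⟩
    intro i x hx
    by_cases h0 : i = 0
    · subst h0
      have hx' : (x : Ω) ∈ B := by
        have hx1 : x ∈ Ps 1 := hx
        rw [hP1, Subgroup.mem_subgroupOf] at hx1
        exact hx1
      rw [hP0, Subgroup.mem_bot]
      apply Subtype.ext
      rw [Subgroup.coe_mul, Subgroup.coe_inv, conjAut_apply, Subgroup.coe_one, hcB x x.2 hx']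
      group
    · by_cases h1 : i = 1
      · subst h1
        show x⁻¹ * conjAut P c hcN x ∈ Ps 1
        rw [hP1, Subgroup.mem_subgroupOf, Subgroup.coe_mul, Subgroup.coe_inv, conjAut_apply]
        exact hcP x x.2
      · have : Ps i = ⊤ := by simp [Ps, h0, h1]
        rw [this]; trivial

end Cfsg.Agent.Lib.Helper9.H9Constr
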