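import Mathlib
import Cfsg.Prelude.Def_FusionSystem
import Cfsg.Agent.Lib.Helper9.Constr6
import Cfsg.Agent.Lib.Helper9.Constr7

set_option autoImplicit false
set_option maxHeartbeats 1000000

namespace Cfsg.Agent.Lib.Helper9.H9Constr

open Cfsg Cfsg.FusionSystem Cfsg.Agent.Lib.Helper9

/-- A `p`-element of `T Z`, with `T` a Sylow `p`-subgroup and `Z` central, lies in `T`. -/
theorem mem_sylow_of_mem_sup_central {L : Type*} [Group L] [Finite L] {p : ℕ} [Fact p.Prime] (T : Sylow p L)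
    (Z : Subgroup L) [hZn : Z.Normal] (hZ : Z ≤ Subgroup.center L) {x : L}
    (hx : x ∈ (T : Subgroup L) ⊔ Z) (hxp : ∃ a : ℕ, x ^ p ^ a = 1) : x ∈ (T : Subgroup L) := by
  obtain ⟨t, ht, z, hz, rfl⟩ := Subgroup.mem_sup_of_normal_right.mp hx
  obtain ⟨a, ha⟩ := hxp
  obtain ⟨b, hb⟩ := T.isPGroup' ⟨t, ht⟩
  have hb' : t ^ p ^ b = 1 := by simpa using congrArg Subtype.val hb
  have hzc : ∀ g : L, g * z = z * g := fun g => Subgroup.mem_center_iff.mp (hZ hz) g
  have hcomm : Commute t z := hzc t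
  have hz1 : z ^ p ^ (a + b) = 1 := by
    have h1 : (t * z) ^ p ^ (a + b) = 1 := by rw [pow_add, pow_mul, ha, one_pow]
    rw [hcomm.mul_pow] at h1
    have h2 : t ^ p ^ (a + b) = 1 := by rw [pow_add, mul_comm, pow_mul, hb', one_pow]
    rw [h2, one_mul] at h1
    exact h1
  have hzn : (Subgroup.zpowers z).Normal := by
    constructor
    intro n hn g
    obtain ⟨k, rfl⟩ := Subgroup.mem_zpowers_iff.mp hn
    have : g * z ^ k * g⁻¹ = z ^ k := by
      have hc : Commute g (z ^ k) := (show Commute g z from hzc g).zpow_right k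
      rw [hc.eq]; group
    rw [this]; exact hn
  have hzp : IsPGroup p (Subgroup.zpowers z) := by
    rintro ⟨n, hn⟩
    obtain ⟨k, rfl⟩ := Subgroup.mem_zpowers_iff.mp hn
    refine ⟨a + b, Subtype.ext ?_⟩
    show (z ^ k) ^ p ^ (a + b) = 1
    rw [← zpow_natCast, ← zpow_mul, mul_comm, zpow_mul, zpow_natCast, hz1, one_zpow]
  have hzT : z ∈ (T : Subgroup L) := pCore_le_sylow T (le_pCore hzn hzp (Subgroup.mem_zpowers z))
  exact (T : Subgroup L).mul_mem ht hzT

/-- The fusion system of a central quotient of a group with constrained fusion system is constrained. -/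
theorem constrained_central_quotient {L : Type*} [Group L] [Finite L] (p : ℕ) [Fact p.Prime] (T : Sylow p L)
    (hF : (groupFusionSystem (T : Subgroup L)).IsConstrained p) (Z : Subgroup L) [hZn : Z.Normal]
    (hZ : Z ≤ Subgroup.center L) :
    (groupFusionSystem ((T : Subgroup L).map (QuotientGroup.mk' Z))).IsConstrained p := by
  obtain ⟨F, hFdef⟩ : ∃ F : FusionSystem (T : Subgroup L), F = groupFusionSystem (T : Subgroup L) := ⟨_, rfl⟩
  rw [← hFdef] at hF
  obtain ⟨π, hπ⟩ : ∃ π : L →* L ⧸ Z, π = QuotientGroup.mk' Z := ⟨_, rfl⟩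
  have hπs : Function.Surjective π := by rw [hπ]; exact QuotientGroup.mk'_surjective Z
  have hker : π.ker = Z := by rw [hπ]; exact QuotientGroup.ker_mk' Z
  rw [← hπ]
  have hTp : IsPGroup p (T : Subgroup L) := T.isPGroup'
  obtain ⟨hFs, Q₀, hQ₀n, hQ₀c⟩ := hF
  have hOn : F.IsNormal F.core := Cfsg.Agent.S5145.result F
  have hQT : F.core ≤ (T : Subgroup L) := hOn.1
  have hOc : F.IsCentric F.core := fs_centric_of_le F hQ₀c (le_sSup hQ₀n) hQT
  have hι : F.IsRealizedBy (T : Subgroup L).subtype := by rw [hFdef]; exact gfs_isRealizedBy _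
  have himg : imageAlong (T : Subgroup L).subtype F.core = F.core := Subgroup.map_subgroupOf_eq_of_le hQT
  have hGNQ : GNormal (T : Subgroup L) F.core := by
    have := (isNormal_iff_gNormal hι hQT).mp hOn
    rw [Subgroup.range_subtype, himg] at this
    exact this
  have hHom : ∀ (P : Subgroup L) (φ : P →* L), φ ∈ F.Hom P → ∃ g : L, ∀ x : P, φ x = g * x * g⁻¹ := by
    rw [hFdef]
    rintro P φ ⟨-, -, g, hg⟩
    exact ⟨g, hg⟩
  have hSN : (T : Subgroup L) ≤ Subgroup.normalizer (F.core : Set L) :=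
    fs_stronglyClosed_le_normalizer F (fs_stronglyClosed_of_isNormal F hOn)
  -- lifting conjugation
  have hlift : ∀ (g x : L), x ∈ (T : Subgroup L) → π g * π x * (π g)⁻¹ ∈ (T : Subgroup L).map π →
      g * x * g⁻¹ ∈ (T : Subgroup L) := by
    intro g x hx h1
    apply mem_sylow_of_mem_sup_central T Z hZ
    · have h2 : g * x * g⁻¹ ∈ ((T : Subgroup L).map π).comap π := by
        rw [Subgroup.mem_comap, map_mul, map_mul, map_inv]; exact h1
      rw [Subgroup.comap_map_eq, hker] at h2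
      exact h2
    · obtain ⟨a, ha⟩ := hTp ⟨x, hx⟩
      have ha' : x ^ p ^ a = 1 := by simpa using congrArg Subtype.val ha
      exact ⟨a, by rw [conj_pow, ha']; group⟩
  have hGN : GNormal ((T : Subgroup L).map π) (F.core.map π) := by
    refine ⟨Subgroup.map_mono hQT, fun Pb hPb gb hgb => ?_⟩
    obtain ⟨g, rfl⟩ := hπs gb
    obtain ⟨P, hPdef⟩ : ∃ P : Subgroup L, P = Pb.comap π ⊓ (T : Subgroup L) := ⟨_, rfl⟩
    have hPT : P ≤ (T : Subgroup L) := by rw [hPdef]; exact inf_le_right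
    have hPmap : P.map π = Pb := by
      apply le_antisymm
      · rintro _ ⟨x, hx, rfl⟩
        rw [hPdef] at hx
        exact hx.1
      · intro y hy
        obtain ⟨t, ht, rfl⟩ := hPb hy
        exact ⟨t, by rw [hPdef]; exact ⟨hy, ht⟩, rfl⟩
    have hgP : ∀ x ∈ P, g * x * g⁻¹ ∈ (T : Subgroup L) := by
      intro x hx
      apply hlift g x (hPT hx)
      apply hgb
      rw [← hPmap]
      exact Subgroup.mem_map_of_mem π hx
    obtain ⟨h, h1, h2, h3, h4⟩ := hGNQ.2 P hPT g hgP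
    refine ⟨π h, ?_, ?_, ?_, ?_⟩
    · intro xb hxb
      rw [← hPmap, ← Subgroup.map_sup] at hxb
      obtain ⟨x, hx, rfl⟩ := hxb
      exact ⟨h * x * h⁻¹, h1 x hx, by rw [map_mul, map_mul, map_inv]⟩
    · intro xb hxb
      rw [← hPmap] at hxb
      obtain ⟨x, hx, rfl⟩ := hxb
      have := congrArg π (h2 x hx)
      rw [map_mul, map_mul, map_inv, map_mul, map_mul, map_inv] at this
      exact this
    · rintro _ ⟨x, hx, rfl⟩
      exact ⟨h * x * h⁻¹, h3 x hx, by rw [map_mul, map_mul, map_inv]⟩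
    · rintro _ ⟨x, hx, rfl⟩
      exact ⟨h⁻¹ * x * h, h4 x hx, by rw [map_mul, map_mul, map_inv]⟩
  have hGC : GCentric ((T : Subgroup L).map π) (F.core.map π) := by
    refine ⟨Subgroup.map_mono hQT, fun gb hgb cb hcb hcomm => ?_⟩
    obtain ⟨g, rfl⟩ := hπs gb
    obtain ⟨c, hcT, rfl⟩ := hcb
    have hgQ : ∀ x ∈ F.core, g * x * g⁻¹ ∈ (T : Subgroup L) := by
      intro x hx
      apply hlift g x (hQT hx)
      exact hgb _ (Subgroup.mem_map_of_mem π hx)
    obtain ⟨h, h1, h2, h3, h4⟩ := hGNQ.2 F.core hQT g hgQ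
    have hgsurj : ∀ y ∈ F.core, ∃ x ∈ F.core, g * x * g⁻¹ = y := by
      intro y hy
      refine ⟨h⁻¹ * y * h, h4 y hy, ?_⟩
      rw [← h2 _ (h4 y hy)]; group
    have hcZ : ∀ y ∈ F.core, y⁻¹ * (c * y * c⁻¹) ∈ Z := by
      intro y hy
      obtain ⟨x, hx, rfl⟩ := hgsurj y hy
      have h5 := hcomm (π x) (Subgroup.mem_map_of_mem π hx)
      rw [← hker, MonoidHom.mem_ker]
      simp only [map_mul, map_inv]
      rw [h5]; group
    have hcN : c ∈ Subgroup.normalizer (F.core : Set L) := hSN hcT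
    have hcQ : c ∈ F.core := by
      apply mem_core_of_induces_opAut p hTp F hFs hOc hcT (α := conjAut F.core c hcN) ?_ (fun y => rfl)
      apply conjAut_mem_opAut_of_two_step p hTp F hQT Z ?_ hcT hcN ?_ hcZ
      · intro γ hγ y hy
        have hγ' := (mem_autGroup_iff F hQT γ).mp hγ
        obtain ⟨g', hg'⟩ := hHom _ _ hγ'
        have h6 : ((γ y : F.core) : L) = g' * y * g'⁻¹ := hg' y
        have h7 : g' * (y : L) = y * g' := Subgroup.mem_center_iff.mp (hZ hy) g'
        rw [h6, h7, mul_inv_cancel_right]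
        exact hy
      · intro y _ hyZ
        have h7 : c * y = y * c := Subgroup.mem_center_iff.mp (hZ hyZ) c
        rw [h7, mul_inv_cancel_right]
    obtain ⟨x, hx, hxc⟩ := hgsurj c hcQ
    exact ⟨π x, Subgroup.mem_map_of_mem π hx, by rw [← hxc, map_mul, map_mul, map_inv]⟩
  -- assemble
  obtain ⟨Tb, hTb⟩ : ∃ Tb : Sylow p (L ⧸ Z), (Tb : Subgroup (L ⧸ Z)) = (T : Subgroup L).map π :=
    ⟨T.mapSurjective hπs, Sylow.coe_mapSurjective hπs T⟩
  rw [← hTb]
  refine ⟨Cfsg.Agent.S5076.result p Tb, ?_⟩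
  rw [exists_normal_centric_iff (gfs_isRealizedBy (Tb : Subgroup (L ⧸ Z))), Subgroup.range_subtype, hTb]
  exact ⟨_, hGN, hGC⟩

end Cfsg.Agent.Lib.Helper9.H9Constr
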