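import Mathlib

set_option autoImplicit false

/-! Coprime action of a group of automorphisms on a finite abelian group: `V = C_V(A) × [V, A]`. -/

namespace Cfsg.Agent.Lib.Helper9

variable {V : Type*} [CommGroup V]

/-- The fixed points of a group `A` of automorphisms of `V`. -/
def autFixed (A : Subgroup (MulAut V)) : Subgroup V where
  carrier := {v | ∀ α ∈ A, α v = v}
  one_mem' := fun α _ => map_one α
  mul_mem' := fun {a b} ha hb α hα => by rw [map_mul, ha α hα, hb α hα]
  inv_mem' := fun {a} ha α hα => by rw [map_inv, ha α hα]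

theorem mem_autFixed (A : Subgroup (MulAut V)) (v : V) : v ∈ autFixed A ↔ ∀ α ∈ A, α v = v := Iff.rfl

/-- The commutator `[V, A]` of a group `A` of automorphisms of `V`. -/
def autComm (A : Subgroup (MulAut V)) : Subgroup V :=
  Subgroup.closure {y | ∃ (α : MulAut V) (v : V), α ∈ A ∧ y = v⁻¹ * α v}

theorem inv_mul_mem_autComm (A : Subgroup (MulAut V)) {α : MulAut V} (hα : α ∈ A) (v : V) :
    v⁻¹ * α v ∈ autComm A := Subgroup.subset_closure ⟨α, v, hα, rfl⟩

/-- The norm map. -/
noncomputable def autNorm (A : Subgroup (MulAut V)) [Fintype A] : V →* V :=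
  ∏ a : A, (a : MulAut V).toMonoidHom

theorem autNorm_apply (A : Subgroup (MulAut V)) [Fintype A] (v : V) :
    autNorm A v = ∏ a : A, (a : MulAut V) v := by
  unfold autNorm
  rw [MonoidHom.finset_prod_apply]
  rfl

theorem autNorm_mem_fixed (A : Subgroup (MulAut V)) [Fintype A] (v : V) : autNorm A v ∈ autFixed A := by
  intro β hβ
  rw [autNorm_apply, map_prod]
  exact Fintype.prod_equiv (Equiv.mulLeft (⟨β, hβ⟩ : A)) _ _ (fun a => rfl)

theorem autNorm_of_fixed (A : Subgroup (MulAut V)) [Fintype A] {v : V} (hv : v ∈ autFixed A) :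
    autNorm A v = v ^ Fintype.card A := by
  rw [autNorm_apply]
  rw [Finset.prod_congr rfl (fun (a : A) _ => hv (a : MulAut V) a.2), Finset.prod_const,
    Finset.card_univ]

theorem autNorm_comp (A : Subgroup (MulAut V)) [Fintype A] {β : MulAut V} (hβ : β ∈ A) (v : V) :
    autNorm A (β v) = autNorm A v := by
  rw [autNorm_apply, autNorm_apply]
  exact Fintype.prod_equiv (Equiv.mulRight (⟨β, hβ⟩ : A)) _ _ (fun a => rfl)

theorem autNorm_of_comm (A : Subgroup (MulAut V)) [Fintype A] {v : V} (hv : v ∈ autComm A) :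
    autNorm A v = 1 := by
  have hle : autComm A ≤ (autNorm A).ker := by
    unfold autComm
    rw [Subgroup.closure_le]
    rintro _ ⟨α, v, hα, rfl⟩
    change autNorm A (v⁻¹ * α v) = 1
    rw [map_mul, map_inv, autNorm_comp A hα, inv_mul_cancel]
  exact hle hv

theorem autNorm_inv_mul_pow_mem (A : Subgroup (MulAut V)) [Fintype A] (v : V) :
    (autNorm A v)⁻¹ * v ^ Fintype.card A ∈ autComm A := by
  have h : (autNorm A v)⁻¹ * v ^ Fintype.card A = ∏ a : A, (v⁻¹ * (a : MulAut V) v)⁻¹ := by
    rw [autNorm_apply, ← Finset.card_univ, ← Finset.prod_const, ← Finset.prod_inv_distrib,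
      ← Finset.prod_mul_distrib]
    apply Finset.prod_congr rfl
    intro a _
    rw [mul_inv_rev, inv_inv, mul_comm]
  rw [h]
  apply Subgroup.prod_mem
  intro a _
  exact Subgroup.inv_mem _ (inv_mul_mem_autComm A a.2 v)

/-- Coprime action on a finite abelian group: `V = C_V(A) × [V, A]`. -/
theorem coprime_aut_decomp [Finite V] (A : Subgroup (MulAut V))
    (hcop : (Nat.card A).Coprime (Nat.card V)) :
    autFixed A ⊓ autComm A = ⊥ ∧ autFixed A ⊔ autComm A = ⊤ := by
  classical
  have : Finite A := Nat.finite_of_card_ne_zero (by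
    intro h0
    rw [h0, Nat.coprime_zero_left] at hcop
    -- then V is trivial, so MulAut V is finite
    have hsub : Subsingleton V := (Nat.card_eq_one_iff_unique.mp hcop).1
    have : Finite (MulAut V) := Finite.of_injective (fun α : MulAut V => (α : V → V))
      (fun a b h => MulEquiv.ext (congrFun h))
    have : Finite A := inferInstance
    exact Nat.card_pos.ne' h0)
  let _ : Fintype A := Fintype.ofFinite A
  have hcard : Fintype.card A = Nat.card A := (Nat.card_eq_fintype_card).symm
  have hpow : ∀ v : V, ∃ m : ℕ, (v ^ Fintype.card A) ^ m = v := by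
    intro v
    apply exists_pow_eq_self_of_coprime
    rw [hcard]
    exact Nat.Coprime.coprime_dvd_right (orderOf_dvd_natCard v) hcop
  constructor
  · rw [eq_bot_iff]
    rintro x ⟨hxF, hxC⟩
    rw [Subgroup.mem_bot]
    have h1 := autNorm_of_fixed A hxF
    have h2 := autNorm_of_comm A hxC
    obtain ⟨m, hm⟩ := hpow x
    rw [← h1, h2, one_pow] at hm
    exact hm.symm
  · rw [eq_top_iff]
    intro x _
    obtain ⟨m, hm⟩ := hpow x
    have h3 : x ^ Fintype.card A = autNorm A x * ((autNorm A x)⁻¹ * x ^ Fintype.card A) := by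
      rw [mul_inv_cancel_left]
    have h4 : x ^ Fintype.card A ∈ autFixed A ⊔ autComm A := by
      rw [h3]
      exact Subgroup.mul_mem _ (Subgroup.mem_sup_left (autNorm_mem_fixed A x))
        (Subgroup.mem_sup_right (autNorm_inv_mul_pow_mem A x))
    rw [← hm]
    exact Subgroup.pow_mem _ h4 m

end Cfsg.Agent.Lib.Helper9
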