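import Mathlib
import Cfsg.Agent.Lib.Helper9.CubeUDefs

/-!
# Block sums of matrices (for S2511)
-/

set_option autoImplicit false
set_option linter.unusedSectionVars false

namespace Cfsg.Agent.Lib.Helper9.CubeU

open Cfsg.Agent.S0278 Cfsg.Agent.Lib.Helper5.Wall

universe u

variable {F : Type u} [Field F]

section blk

variable {a b : ℕ}

theorem blk_def (A : Matrix (Fin a) (Fin a) F) (B : Matrix (Fin b) (Fin b) F) :
    blk A B = (Matrix.fromBlocks A 0 0 B).submatrix finSumFinEquiv.symm finSumFinEquiv.symm :=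
  rfl

theorem blk_mul (A A' : Matrix (Fin a) (Fin a) F) (B B' : Matrix (Fin b) (Fin b) F) :
    blk A B * blk A' B' = blk (A * A') (B * B') := by
  rw [blk_def, blk_def, blk_def, Matrix.submatrix_mul_equiv, Matrix.fromBlocks_multiply]
  simp

theorem blk_one : blk (1 : Matrix (Fin a) (Fin a) F) (1 : Matrix (Fin b) (Fin b) F) = 1 := by
  rw [blk_def, Matrix.fromBlocks_one, Matrix.submatrix_one_equiv]

theorem blk_pow (A : Matrix (Fin a) (Fin a) F) (B : Matrix (Fin b) (Fin b) F) (j : ℕ) :
    blk A B ^ j = blk (A ^ j) (B ^ j) := by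
  induction j with
  | zero => rw [pow_zero, pow_zero, pow_zero, blk_one]
  | succ j ih => rw [pow_succ, pow_succ, pow_succ, ih, blk_mul]

theorem blk_smul (c : F) (A : Matrix (Fin a) (Fin a) F) (B : Matrix (Fin b) (Fin b) F) :
    blk (c • A) (c • B) = c • blk A B := by
  rw [blk_def, blk_def]
  have h1 : Matrix.fromBlocks (c • A) 0 0 (c • B) = c • Matrix.fromBlocks A 0 0 B := by
    rw [Matrix.fromBlocks_smul, smul_zero, smul_zero]
  rw [h1]
  rfl

theorem blk_injective {A A' : Matrix (Fin a) (Fin a) F} {B B' : Matrix (Fin b) (Fin b) F}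
    (h : blk A B = blk A' B') : A = A' ∧ B = B' := by
  rw [blk_def, blk_def] at h
  have h1 : Matrix.fromBlocks A 0 0 B = Matrix.fromBlocks A' 0 0 B' := by
    have := congrArg (fun M => M.submatrix finSumFinEquiv finSumFinEquiv) h
    simpa using this
  rw [Matrix.fromBlocks_inj] at h1
  exact ⟨h1.1, h1.2.2.2⟩

theorem blk_eq_smul_one_iff (A : Matrix (Fin a) (Fin a) F) (B : Matrix (Fin b) (Fin b) F)
    (c : F) : blk A B = c • 1 ↔ A = c • 1 ∧ B = c • 1 := by
  have h1 : (c • 1 : Matrix (Fin (a + b)) (Fin (a + b)) F) =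
      blk (c • (1 : Matrix (Fin a) (Fin a) F)) (c • (1 : Matrix (Fin b) (Fin b) F)) := by
    rw [blk_smul, blk_one]
  rw [h1]
  constructor
  · intro h
    exact blk_injective h
  · rintro ⟨h2, h3⟩
    rw [h2, h3]

theorem det_blk (A : Matrix (Fin a) (Fin a) F) (B : Matrix (Fin b) (Fin b) F) :
    (blk A B).det = A.det * B.det := by
  rw [blk_def, Matrix.det_submatrix_equiv_self, Matrix.det_fromBlocks_zero₁₂]

variable [Fintype F] {q : ℕ}

theorem ct_blk (hF : Fintype.card F = q ^ 2) (A : Matrix (Fin a) (Fin a) F)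
    (B : Matrix (Fin b) (Fin b) F) : ct hF (blk A B) = blk (ct hF A) (ct hF B) := by
  unfold ct
  rw [blk_def, blk_def, ← Matrix.submatrix_map, Matrix.transpose_submatrix, Matrix.fromBlocks_map,
    Matrix.fromBlocks_transpose]
  simp

end blk

end Cfsg.Agent.Lib.Helper9.CubeU
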