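import Mathlib
import Cfsg.Agent.Lib.Helper9.CubeUBlk
import Cfsg.Agent.Lib.Helper5.SSOrderU2

/-!
# Projective orders of matrices, unipotent matrices (for S2511)
-/

set_option autoImplicit false
set_option linter.unusedSectionVars false

namespace Cfsg.Agent.Lib.Helper9.CubeU

open Cfsg.Agent.S0278 Cfsg.Agent.Lib.Helper5.Wall

universe u

variable {F : Type u} [Field F]

section ord

variable {n : ℕ}

theorem one_ne_zero_mat (hn : 0 < n) : (1 : Matrix (Fin n) (Fin n) F) ≠ 0 := by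
  haveI : Nonempty (Fin n) := ⟨⟨0, hn⟩⟩
  exact one_ne_zero

theorem smul_one_eq_zero (hn : 0 < n) {c : F} (h : c • (1 : Matrix (Fin n) (Fin n) F) = 0) :
    c = 0 := by
  rcases smul_eq_zero.1 h with h | h
  · exact h
  · exact absurd h (one_ne_zero_mat hn)

theorem smul_one_inj (hn : 0 < n) {c c' : F}
    (h : c • (1 : Matrix (Fin n) (Fin n) F) = c' • 1) : c = c' := by
  have h1 : (c - c') • (1 : Matrix (Fin n) (Fin n) F) = 0 := by rw [sub_smul, h, sub_self]
  exact sub_eq_zero.1 (smul_one_eq_zero hn h1)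

theorem smul_one_pow (c : F) (j : ℕ) :
    (c • (1 : Matrix (Fin n) (Fin n) F)) ^ j = c ^ j • 1 := by
  rw [smul_pow, one_pow]

theorem ct_pow_mul_pow {q : ℕ} [Fintype F] (hF : Fintype.card F = q ^ 2)
    (g : Matrix (Fin n) (Fin n) F) (hg : ct hF g * g = 1) (j : ℕ) :
    ct hF g ^ j * g ^ j = 1 := by
  induction j with
  | zero => simp
  | succ j ih =>
    rw [pow_succ, pow_succ', mul_assoc, ← mul_assoc (ct hF g) g, hg, one_mul, ih]

/-- existence of the projective order -/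
theorem exists_projOrd (hn : 0 < n) (g : Matrix (Fin n) (Fin n) F) {N : ℕ} (hN : 0 < N)
    (hgN : g ^ N = 1) : ∃ k, 0 < k ∧ ProjOrd g k := by
  classical
  have hex : ∃ j, 0 < j ∧ ∃ c : F, g ^ j = c • (1 : Matrix (Fin n) (Fin n) F) :=
    ⟨N, hN, 1, by rw [hgN, one_smul]⟩
  set k := Nat.find hex with hk
  obtain ⟨hk0, c, hc⟩ := Nat.find_spec hex
  have hc0 : c ≠ 0 := by
    intro h0
    rw [h0, zero_smul] at hc
    have h1 : g ^ (k * N) = 0 := by rw [pow_mul, hc, zero_pow hN.ne']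
    rw [mul_comm, pow_mul, hgN, one_pow] at h1
    exact one_ne_zero_mat hn h1
  refine ⟨k, hk0, ?_⟩
  intro j
  constructor
  · rintro ⟨c', hc'⟩
    by_contra hdvd
    have hmod : 0 < j % k := Nat.pos_of_ne_zero (fun h => hdvd (Nat.dvd_of_mod_eq_zero h))
    have h1 : g ^ j = g ^ (j % k) * (g ^ k) ^ (j / k) := by
      rw [← pow_mul, ← pow_add, Nat.mod_add_div]
    rw [hc', hc, smul_one_pow, Matrix.mul_smul, mul_one] at h1
    have h2 : g ^ (j % k) = ((c ^ (j / k))⁻¹ * c') • 1 := by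
      rw [mul_smul, h1, smul_smul, inv_mul_cancel₀ (pow_ne_zero _ hc0), one_smul]
    exact Nat.find_min hex (Nat.mod_lt j hk0) ⟨hmod, _, h2⟩
  · rintro ⟨i, rfl⟩
    exact ⟨c ^ i, by rw [pow_mul, hc, smul_one_pow]⟩

theorem projOrd_smul (g : Matrix (Fin n) (Fin n) F) {c : F} (hc : c ≠ 0) (k : ℕ) :
    ProjOrd (c • g) k ↔ ProjOrd g k := by
  have key : ∀ j : ℕ, (∃ c' : F, (c • g) ^ j = c' • (1 : Matrix (Fin n) (Fin n) F)) ↔
      ∃ c' : F, g ^ j = c' • (1 : Matrix (Fin n) (Fin n) F) := by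
    intro j
    rw [smul_pow]
    constructor
    · rintro ⟨c', h⟩
      refine ⟨(c ^ j)⁻¹ * c', ?_⟩
      rw [mul_smul, ← h, smul_smul, inv_mul_cancel₀ (pow_ne_zero _ hc), one_smul]
    · rintro ⟨c', h⟩
      exact ⟨c ^ j * c', by rw [h, smul_smul]⟩
  constructor
  · intro h j
    rw [← key, h j]
  · intro h j
    rw [key, h j]

variable [Fintype F] {q : ℕ}

/-- a unitary matrix has finite order -/
theorem exists_pow_eq_one (hF : Fintype.card F = q ^ 2) (g : Matrix (Fin n) (Fin n) F)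
    (hg : ct hF g * g = 1) : ∃ N, 0 < N ∧ g ^ N = 1 := by
  classical
  have hu : IsUnit g := ⟨⟨g, ct hF g, mul_eq_one_comm.1 hg, hg⟩, rfl⟩
  obtain ⟨gu, rfl⟩ := hu
  refine ⟨orderOf gu, orderOf_pos gu, ?_⟩
  rw [← Units.val_pow_eq_pow_val, pow_orderOf_eq_one, Units.val_one]

/-- scalars of a unitary matrix have norm one -/
theorem scalar_unitary (hF : Fintype.card F = q ^ 2) (hn : 0 < n)
    (g : Matrix (Fin n) (Fin n) F) (hg : ct hF g * g = 1) {j : ℕ} {c : F}
    (h : g ^ j = c • 1) : c ^ (q + 1) = 1 := by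
  have h1 : ct hF (g ^ j) * g ^ j = 1 := by
    rw [Cfsg.Agent.Lib.Helper5.SSOrder.ct_pow]
    exact ct_pow_mul_pow hF g hg j
  rw [h, ct_smul, ct_one, Matrix.smul_mul, Matrix.mul_smul, mul_one, smul_smul] at h1
  have h2 : (c ^ q * c) • (1 : Matrix (Fin n) (Fin n) F) = (1 : F) • 1 := by rw [h1, one_smul]
  have h3 := smul_one_inj hn h2
  rw [pow_succ, h3]

end ord

end Cfsg.Agent.Lib.Helper9.CubeU
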