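import Mathlib
import Cfsg.Agent.Lib.Helper9.CubeUOrd

/-!
# Unipotent matrices, elements of order `r`, rescaling (for S2511)
-/

set_option autoImplicit false
set_option linter.unusedSectionVars false

namespace Cfsg.Agent.Lib.Helper9.CubeU

open Cfsg.Agent.S0278 Cfsg.Agent.Lib.Helper5.Wall

universe u

variable {F : Type u} [Field F]

section unip

variable {m : ℕ}

/-- a scalar power of a unipotent matrix is `1` -/
theorem unip_scalar (hm : 0 < m) (v : Matrix (Fin m) (Fin m) F) (hv : (v - 1) ^ m = 0) {j : ℕ}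
    {c : F} (h : v ^ j = c • 1) : c = 1 := by
  have h1 : (v - 1) * ∑ i ∈ Finset.range j, v ^ i = v ^ j - 1 := mul_geom_sum v j
  have hcomm : Commute (v - 1) (∑ i ∈ Finset.range j, v ^ i) := by
    apply Commute.sum_right
    intro i _
    exact ((Commute.refl v).pow_right i).sub_left (Commute.one_left _)
  have h2 : (v ^ j - 1) ^ m = 0 := by
    rw [← h1, hcomm.mul_pow, hv, zero_mul]
  have h3 : v ^ j - 1 = (c - 1) • (1 : Matrix (Fin m) (Fin m) F) := by
    rw [h, sub_smul, one_smul]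
  rw [h3, smul_one_pow] at h2
  have h4 := smul_one_eq_zero hm h2
  exact sub_eq_zero.1 (pow_eq_zero_iff (by omega) |>.1 h4)

/-- the order of a regular unipotent matrix -/
theorem unip_pow_dvd (p : ℕ) [hp : Fact p.Prime] [CharP F p] (hm : 0 < m)
    (v : Matrix (Fin m) (Fin m) F) (hv : (v - 1) ^ m = 0) (hv' : (v - 1) ^ (m - 1) ≠ 0) {t : ℕ}
    (ht : t = 0 ∨ p ^ (t - 1) < m) {j : ℕ} (h : v ^ j = 1) : p ^ t ∣ j := by
  haveI : Nonempty (Fin m) := ⟨⟨0, hm⟩⟩
  rcases ht with ht | ht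
  · rw [ht, pow_zero]
    exact one_dvd j
  have hpow : ∀ i : ℕ, (v - 1) ^ (p ^ i) = v ^ (p ^ i) - 1 := by
    intro i
    rw [sub_pow_char_pow_of_commute p i (Commute.one_right v), one_pow]
  have hM : v ^ (p ^ m) = 1 := by
    have h1 : (v - 1) ^ (p ^ m) = 0 := by
      have h3 : m ≤ p ^ m := (Nat.lt_pow_self hp.out.one_lt).le
      rw [← Nat.sub_add_cancel h3, pow_add, hv, mul_zero]
    rw [hpow, sub_eq_zero] at h1
    exact h1
  have hdvd : orderOf v ∣ p ^ m := orderOf_dvd_of_pow_eq_one hM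
  obtain ⟨t', -, ht'⟩ := (Nat.dvd_prime_pow hp.out).1 hdvd
  have hj : orderOf v ∣ j := orderOf_dvd_of_pow_eq_one h
  rw [ht'] at hj
  refine dvd_trans (pow_dvd_pow p ?_) hj
  by_contra hlt
  push Not at hlt
  have h1 : v ^ (p ^ (t - 1)) = 1 := by
    rw [← orderOf_dvd_iff_pow_eq_one, ht']
    exact pow_dvd_pow p (by omega)
  have h3 : (v - 1) ^ (p ^ (t - 1)) = 0 := by rw [hpow, h1, sub_self]
  apply hv'
  have h4 : p ^ (t - 1) ≤ m - 1 := by omega
  rw [← Nat.sub_add_cancel h4, pow_add, h3, mul_zero]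

end unip

section lam

variable [Fintype F] {q : ℕ}

/-- an element of order `r` in the norm one group -/
theorem exists_lambda (hF : Fintype.card F = q ^ 2) {r : ℕ} (hr : r.Prime) (hrq : r ∣ q + 1) :
    ∃ l : F, l ^ (q + 1) = 1 ∧ orderOf l = r := by
  classical
  haveI := Fact.mk hr
  have hcard : Fintype.card Fˣ = q ^ 2 - 1 := by rw [Fintype.card_units, hF]
  have hq : 1 ≤ q ^ 2 := by
    rw [← hF]
    exact Fintype.card_pos
  have hdvd : r ∣ Fintype.card Fˣ := by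
    rw [hcard]
    have h1 : q ^ 2 - 1 = (q + 1) * (q - 1) := by
      have hq1 : 1 ≤ q := by
        rcases Nat.eq_zero_or_pos q with h | h
        · rw [h] at hq
          omega
        · exact h
      obtain ⟨c, rfl⟩ : ∃ c, q = c + 1 := ⟨q - 1, by omega⟩
      simp only [Nat.add_sub_cancel]
      have : (c + 1) ^ 2 = (c + 1 + 1) * c + 1 := by ring
      rw [this, Nat.add_sub_cancel]
    rw [h1]
    exact dvd_mul_of_dvd_left hrq _
  obtain ⟨x, hx⟩ := exists_prime_orderOf_dvd_card r hdvd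
  refine ⟨(x : F), ?_, ?_⟩
  · have h1 : x ^ (q + 1) = 1 := by
      rw [← orderOf_dvd_iff_pow_eq_one, hx]
      exact hrq
    rw [← Units.val_pow_eq_pow_val, h1, Units.val_one]
  · rw [orderOf_units, hx]

end lam

/-- solving `n * a + i ≡ 0 (mod r)` -/
theorem exists_rescale {r : ℕ} (hr : r.Prime) {n : ℕ} (hrn : ¬ r ∣ n) (i : ℕ) :
    ∃ a : ℕ, r ∣ n * a + i := by
  have hcop : Nat.Coprime n r := ((Nat.Prime.coprime_iff_not_dvd hr).2 hrn).symm
  obtain ⟨b, -, hb⟩ := Nat.exists_mul_mod_eq_one_of_coprime hcop hr.one_lt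
  refine ⟨b * ((r - 1) * i), ?_⟩
  have h1 : n * b ≡ 1 [MOD r] := by
    rw [Nat.ModEq, hb, Nat.mod_eq_of_lt hr.one_lt]
  have h2 : n * (b * ((r - 1) * i)) + i ≡ 1 * ((r - 1) * i) + i [MOD r] := by
    rw [← mul_assoc]
    exact (h1.mul_right _).add_right _
  have h3 : 1 * ((r - 1) * i) + i = r * i := by
    have hr1 : 1 ≤ r := hr.one_lt.le
    obtain ⟨c, rfl⟩ : ∃ c, r = c + 1 := ⟨r - 1, by omega⟩
    simp only [Nat.add_sub_cancel]
    ring
  rw [h3] at h2
  exact (Nat.modEq_zero_iff_dvd.1 (h2.trans (Nat.modEq_zero_iff_dvd.2 (dvd_mul_right r i))))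

end Cfsg.Agent.Lib.Helper9.CubeU
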