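import Mathlib
import Cfsg.Agent.Lib.Helper9.CubeUUni
import Cfsg.Agent.Lib.Helper4.CarveU1
import Cfsg.Agent.Lib.Helper4.CarveU8
import Cfsg.Agent.Lib.Helper1.CarveU4
import Cfsg.Agent.Lib.Helper3.CarveU5a
import Cfsg.Agent.Lib.Helper2.CarveU5bc
import Cfsg.Agent.Lib.Lead.CarveU7
import Cfsg.Agent.Lib.Lead.CarveU3a
import Cfsg.Agent.Lib.Helper8.CarveU3d
import Cfsg.Agent.Lib.Helper2.CarveU3bc
import Cfsg.Agent.Lib.Helper8.CarveU6
import Cfsg.Agent.Lib.Helper5.Cube.Construct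

/-!
# Constructions of elements of `PSU_n(q)` of large order (for S2511)
-/

set_option autoImplicit false
set_option linter.unusedSectionVars false

namespace Cfsg.Agent.Lib.Helper9.CubeU

open Cfsg.Agent.S0278 Cfsg.Agent.Lib.Helper5.Wall Cfsg.Agent.Lib.Carve

universe u

variable {F : Type u} [Field F] [Fintype F] {q : ℕ}

/-- membership in the spectrum from a unitary matrix whose determinant is a power of an element
`l` of order `r`, `r ∤ n` -/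
theorem mem_omega_of_unitary (hF : Fintype.card F = q ^ 2) {n : ℕ} (hn : 3 ≤ n) {r : ℕ}
    (hr : r.Prime) (hrn : ¬ r ∣ n) {l : F} (hl : l ^ (q + 1) = 1) (hlr : orderOf l = r)
    (g : Matrix (Fin n) (Fin n) F) (hg : ct hF g * g = 1) {i : ℕ} (hdet : g.det = l ^ i)
    {L : ℕ} (hL : ∀ j : ℕ, (∃ c : F, g ^ j = c • (1 : Matrix (Fin n) (Fin n) F)) → L ∣ j)
    {N' : ℕ} (hN' : N' ∣ L) : N' ∈ Set.range (orderOf : Cfsg.PSU n F q → ℕ) := by
  have hn0 : 0 < n := by omega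
  have hl0 : l ≠ 0 := by
    intro h
    rw [h, zero_pow (by omega)] at hl
    exact zero_ne_one hl
  obtain ⟨a, ha⟩ := exists_rescale hr hrn i
  set c : F := l ^ a with hc
  have hc0 : c ≠ 0 := pow_ne_zero _ hl0
  have hcq : c ^ q * c = 1 := by
    rw [← pow_succ, hc, ← pow_mul, mul_comm, pow_mul, hl, one_pow]
  set g1 : Matrix (Fin n) (Fin n) F := c • g with hg1
  have hg1u : ct hF g1 * g1 = 1 := by
    rw [hg1, ct_smul, Matrix.smul_mul, Matrix.mul_smul, smul_smul, hg, hcq, one_smul]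
  have hg1d : g1.det = 1 := by
    rw [hg1, Matrix.det_smul, Fintype.card_fin, hdet, hc, ← pow_mul, ← pow_add, mul_comm a n]
    rw [← hlr] at ha
    exact orderOf_dvd_iff_pow_eq_one.1 ha
  obtain ⟨N, hN0, hgN⟩ := exists_pow_eq_one hF g1 hg1u
  obtain ⟨k0, hk0, hk0P⟩ := exists_projOrd hn0 g1 hN0 hgN
  have hk0mem : k0 ∈ Set.range (orderOf : Cfsg.PSU n F q → ℕ) :=
    (U1.mem_omega_iff hF hn k0).2 ⟨g1, hg1u, hg1d, hk0P⟩
  have hP : ProjOrd g k0 := (projOrd_smul g hc0 k0).1 hk0P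
  have hLk : L ∣ k0 := hL k0 ((hP k0).2 dvd_rfl)
  exact Cfsg.Agent.Lib.Helper5.PSpCube.dvd_mem_range_orderOf hk0mem (hN'.trans hLk) hk0

/-- first construction: `s ⊕ u ⊕ l` -/
theorem constr1 (hF : Fintype.card F = q ^ 2) (p : ℕ) [Fact p.Prime] [CharP F p] {r : ℕ}
    (hr : r.Prime) (hrq : r ∣ q + 1) {D m' : ℕ} (hm' : 1 ≤ m') (hn : 3 ≤ D + m' + 1)
    (hrn : ¬ r ∣ D + m' + 1) (s : Matrix (Fin D) (Fin D) F) (hs : ct hF s * s = 1)
    (hsdet : s.det = 1) {M : ℕ} (hsM : ∀ j : ℕ, s ^ j = 1 → M ∣ j) {t : ℕ}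
    (ht : t = 0 ∨ p ^ (t - 1) < m') {N' : ℕ} (hN' : N' ∣ Nat.lcm r (Nat.lcm M (p ^ t))) :
    N' ∈ Set.range (orderOf : Cfsg.PSU (D + m' + 1) F q → ℕ) := by
  obtain ⟨l, hl, hlr⟩ := exists_lambda hF hr hrq
  obtain ⟨v, hvu, hvdet, hv, hv'⟩ := U3.exists_reg_unip hF hm'
  set l1 : Matrix (Fin 1) (Fin 1) F := l • 1 with hl1
  have hl1u : ct hF l1 * l1 = 1 := by
    rw [hl1, ct_smul, ct_one, Matrix.smul_mul, Matrix.mul_smul, mul_one, smul_smul, ← pow_succ, hl,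
      one_smul]
  set g : Matrix (Fin (D + m' + 1)) (Fin (D + m' + 1)) F := blk (blk s v) l1 with hg
  have hgu : ct hF g * g = 1 := by
    rw [hg, ct_blk, ct_blk, blk_mul, blk_mul, hs, hvu, hl1u, blk_one, blk_one]
  have hgd : g.det = l ^ 1 := by
    rw [hg, det_blk, det_blk, hsdet, hvdet, hl1, Matrix.det_smul, Matrix.det_one]
    simp
  refine mem_omega_of_unitary hF hn hr hrn hl hlr g hgu hgd ?_ hN'
  rintro j ⟨c, hc⟩
  rw [hg, blk_pow, blk_pow, blk_eq_smul_one_iff, blk_eq_smul_one_iff] at hc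
  obtain ⟨⟨hcs, hcv⟩, hcl⟩ := hc
  have hc1 : c = 1 := unip_scalar hm' v hv hcv
  rw [hc1, one_smul] at hcs hcv hcl
  have h1 : M ∣ j := hsM j hcs
  have h2 : p ^ t ∣ j := unip_pow_dvd p hm' v hv hv' ht hcv
  have h3 : r ∣ j := by
    rw [hl1, smul_one_pow] at hcl
    have h4 : (l ^ j) • (1 : Matrix (Fin 1) (Fin 1) F) = (1 : F) • 1 := by rw [hcl, one_smul]
    have h5 := smul_one_inj (by omega) h4
    rw [← hlr]
    exact orderOf_dvd_of_pow_eq_one h5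
  exact Nat.lcm_dvd h3 (Nat.lcm_dvd h1 h2)

/-- second construction: `(l • s) ⊕ u`, when `r` is prime to the order of `s` -/
theorem constr2 (hF : Fintype.card F = q ^ 2) (p : ℕ) [Fact p.Prime] [CharP F p] {r : ℕ}
    (hr : r.Prime) (hrq : r ∣ q + 1) {D m : ℕ} (hD : 1 ≤ D) (hm : 1 ≤ m) (hn : 3 ≤ D + m)
    (hrn : ¬ r ∣ D + m) (s : Matrix (Fin D) (Fin D) F) (hs : ct hF s * s = 1)
    (hsdet : s.det = 1) {M : ℕ} (hsM : ∀ j : ℕ, s ^ j = 1 ↔ M ∣ j) (hrM : Nat.Coprime r M)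
    {t : ℕ} (ht : t = 0 ∨ p ^ (t - 1) < m) {N' : ℕ}
    (hN' : N' ∣ Nat.lcm r (Nat.lcm M (p ^ t))) :
    N' ∈ Set.range (orderOf : Cfsg.PSU (D + m) F q → ℕ) := by
  obtain ⟨l, hl, hlr⟩ := exists_lambda hF hr hrq
  obtain ⟨v, hvu, hvdet, hv, hv'⟩ := U3.exists_reg_unip hF hm
  have hlq : l ^ q * l = 1 := by rw [← pow_succ, hl]
  set g : Matrix (Fin (D + m)) (Fin (D + m)) F := blk (l • s) v with hg
  have hgu : ct hF g * g = 1 := by
    rw [hg, ct_blk, blk_mul, hvu, ct_smul, Matrix.smul_mul, Matrix.mul_smul, smul_smul, hs,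
      hlq, one_smul, blk_one]
  have hgd : g.det = l ^ D := by
    rw [hg, det_blk, hvdet, Matrix.det_smul, hsdet, Fintype.card_fin, mul_one, mul_one]
  refine mem_omega_of_unitary hF hn hr hrn hl hlr g hgu hgd ?_ hN'
  rintro j ⟨c, hc⟩
  rw [hg, blk_pow, blk_eq_smul_one_iff] at hc
  obtain ⟨hcs, hcv⟩ := hc
  have hc1 : c = 1 := unip_scalar hm v hv hcv
  rw [hc1, one_smul] at hcs hcv
  have h2 : p ^ t ∣ j := unip_pow_dvd p hm v hv hv' ht hcv
  rw [smul_pow] at hcs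
  -- `s ^ (j * r) = 1`
  have hlr1 : l ^ r = 1 := by
    rw [← hlr]
    exact pow_orderOf_eq_one l
  have h4 : s ^ (j * r) = 1 := by
    have h5 : (l ^ j • s ^ j) ^ r = 1 := by rw [hcs, one_pow]
    rw [smul_pow, ← pow_mul, ← pow_mul, mul_comm j r, pow_mul, hlr1, one_pow, one_smul,
      mul_comm r j] at h5
    exact h5
  have h6 : M ∣ j := by
    have h7 : M ∣ j * r := (hsM _).1 h4
    exact (Nat.Coprime.dvd_of_dvd_mul_right hrM.symm h7)
  have h8 : s ^ j = 1 := (hsM j).2 h6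
  rw [h8] at hcs
  have h3 : r ∣ j := by
    have h9 : (l ^ j) • (1 : Matrix (Fin D) (Fin D) F) = (1 : F) • 1 := by rw [hcs, one_smul]
    have h5 := smul_one_inj (by omega) h9
    rw [← hlr]
    exact orderOf_dvd_of_pow_eq_one h5
  exact Nat.lcm_dvd h3 (Nat.lcm_dvd h6 h2)

end Cfsg.Agent.Lib.Helper9.CubeU
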