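import Mathlib
import Cfsg.Agent.Lib.Helper9.CubeUCon

/-!
# The structure theorem for element orders of `PSU_n(q)` prime to `r` (for S2511)
-/

set_option autoImplicit false
set_option linter.unusedSectionVars false

namespace Cfsg.Agent.Lib.Helper9.CubeU

open Polynomial Cfsg.Agent.S0278 Cfsg.Agent.Lib.Helper5.Wall Cfsg.Agent.Lib.Carve
  Cfsg.Agent.Lib.Helper5.SUConj Cfsg.Agent.Lib.Helper5.SSOrder

universe u

variable {F : Type u} [Field F] [Fintype F] {q : ℕ}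

/-- `r` is an element order -/
theorem r_mem (hF : Fintype.card F = q ^ 2) (p : ℕ) [Fact p.Prime] [CharP F p] {n : ℕ}
    (hn : 3 ≤ n) {r : ℕ} (hr : r.Prime) (hrq : r ∣ q + 1) (hrn : ¬ r ∣ n) :
    r ∈ Set.range (orderOf : Cfsg.PSU n F q → ℕ) := by
  obtain ⟨m', rfl⟩ : ∃ m', n = 0 + m' + 1 := ⟨n - 1, by omega⟩
  refine constr1 hF p hr hrq (D := 0) (m' := m') (by omega) hn hrn
    (1 : Matrix (Fin 0) (Fin 0) F) (Subsingleton.elim _ _) (by simp) (M := 1)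
    (fun j _ => one_dvd j) (t := 0) (Or.inl rfl) (Nat.dvd_lcm_left _ _)

/-- the scalar `c` with `s ^ k = c • 1`, `s` unitary of determinant one, has `c ^ gcd = 1` -/
theorem scalar_pow_gcd (hF : Fintype.card F = q ^ 2) {n : ℕ} (hn : 0 < n)
    (s : Matrix (Fin n) (Fin n) F) (hs : ct hF s * s = 1) (hsd : s.det = 1) {j : ℕ} {c : F}
    (h : s ^ j = c • 1) : c ^ Nat.gcd n (q + 1) = 1 := by
  have h1 : c ^ (q + 1) = 1 := scalar_unitary hF hn s hs h
  have h2 : c ^ n = 1 := by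
    have h3 := congrArg Matrix.det h
    rw [Matrix.det_pow, hsd, one_pow, Matrix.det_smul, Matrix.det_one, mul_one,
      Fintype.card_fin] at h3
    exact h3.symm
  exact pow_gcd_eq_one.2 ⟨h2, h1⟩

/-- the projective order of a torus generator is a multiple of `M / gcd` -/
theorem torus_aux (hF : Fintype.card F = q ^ 2) {n : ℕ} (hn : 3 ≤ n)
    (s : Matrix (Fin n) (Fin n) F) (hs : ct hF s * s = 1) (hsd : s.det = 1) {M : ℕ}
    (hsM : ∀ j : ℕ, s ^ j = 1 ↔ M ∣ j) (hGM : Nat.gcd n (q + 1) ∣ M) {k : ℕ}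
    (hk : k ∣ M / Nat.gcd n (q + 1)) : k ∈ Set.range (orderOf : Cfsg.PSU n F q → ℕ) := by
  have hn0 : 0 < n := by omega
  obtain ⟨N, hN0, hsN⟩ := exists_pow_eq_one hF s hs
  obtain ⟨k0, hk0, hk0P⟩ := exists_projOrd hn0 s hN0 hsN
  have hk0mem : k0 ∈ Set.range (orderOf : Cfsg.PSU n F q → ℕ) :=
    (U1.mem_omega_iff hF hn k0).2 ⟨s, hs, hsd, hk0P⟩
  obtain ⟨c, hc⟩ := (hk0P k0).2 dvd_rfl
  have hcG := scalar_pow_gcd hF hn0 s hs hsd hc
  set G := Nat.gcd n (q + 1) with hG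
  have hG0 : 0 < G := Nat.gcd_pos_of_pos_right _ (by omega)
  have h1 : s ^ (k0 * G) = 1 := by
    rw [pow_mul, hc, smul_one_pow, hcG, one_smul]
  have h2 : M ∣ k0 * G := (hsM _).1 h1
  have h3 : M / G ∣ k0 := by
    obtain ⟨Q', hQ'⟩ := hGM
    rw [hQ', Nat.mul_div_cancel_left _ hG0]
    rw [hQ', mul_comm G Q'] at h2
    exact Nat.dvd_of_mul_dvd_mul_right hG0 h2
  exact Cfsg.Agent.Lib.Helper5.PSpCube.dvd_mem_range_orderOf hk0mem (hk.trans h3) hk0

/-- divisors of `Qn q n` are element orders -/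
theorem torus_mem (hF : Fintype.card F = q ^ 2) {n : ℕ} (hn : 3 ≤ n) {k : ℕ}
    (hk : k ∣ Qn q n) : k ∈ Set.range (orderOf : Cfsg.PSU n F q → ℕ) := by
  rcases Nat.even_or_odd n with he | ho
  · obtain ⟨d, hd⟩ := he
    have hd2 : n = 2 * d := by omega
    subst hd2
    obtain ⟨s, hs, hsd, hsM⟩ := U3.exists_torus_hyp hF (d := d) (by omega)
    have hev : Even (2 * d) := ⟨d, by ring⟩
    rw [Qn, if_pos hev, ← Nat.div_div_eq_div_mul] at hk
    exact torus_aux hF hn s hs hsd hsM (U8.gcd_dvd_even q hev) hk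
  · obtain ⟨s, hs, hsd, hsM⟩ := U3.exists_torus_odd hF ho
    rw [Qn, if_neg (Nat.not_even_iff_odd.2 ho), ← Nat.div_div_eq_div_mul] at hk
    exact torus_aux hF hn s hs hsd hsM (U8.gcd_dvd_odd q ho) hk

end Cfsg.Agent.Lib.Helper9.CubeU
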