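import Mathlib
import Cfsg.Agent.Lib.Helper9.CubeUStr

/-!
# The structure theorem (for S2511)
-/

set_option autoImplicit false
set_option linter.unusedSectionVars false

namespace Cfsg.Agent.Lib.Helper9.CubeU

open Polynomial Cfsg.Agent.S0278 Cfsg.Agent.Lib.Helper5.Wall Cfsg.Agent.Lib.Carve
  Cfsg.Agent.Lib.Helper5.SUConj Cfsg.Agent.Lib.Helper5.SSOrder

universe u

variable {F : Type u} [Field F] [Fintype F] {q : ℕ}

section arith

theorem char_dvd_q (hF : Fintype.card F = q ^ 2) (p : ℕ) [hp : Fact p.Prime] [CharP F p] :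
    p ∣ q := by
  have h1 : p ∣ Fintype.card F :=
    (CharP.cast_eq_zero_iff F p _).1 (Nat.cast_card_eq_zero F)
  rw [hF] at h1
  exact hp.out.dvd_of_dvd_pow h1

theorem coprime_of_dvd_succ {p q : ℕ} (hp : p.Prime) (hpq : p ∣ q) {d M : ℕ} (hd : 1 ≤ d)
    (hM : M ∣ q ^ d + 1) : Nat.Coprime M p := by
  rw [Nat.coprime_comm, Nat.Prime.coprime_iff_not_dvd hp]
  intro h
  have h1 : p ∣ q ^ d + 1 := h.trans hM
  have h2 : p ∣ q ^ d := dvd_pow hpq (by omega)
  have h3 : p ∣ 1 := (Nat.dvd_add_right h2).1 h1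
  exact hp.one_lt.ne' (Nat.dvd_one.1 h3)

theorem coprime_of_dvd_pred {p q : ℕ} (hp : p.Prime) (hpq : p ∣ q) (hq0 : 0 < q) {d M : ℕ}
    (hd : 1 ≤ d) (hM : M ∣ q ^ d - 1) : Nat.Coprime M p := by
  rw [Nat.coprime_comm, Nat.Prime.coprime_iff_not_dvd hp]
  intro h
  have h1 : p ∣ q ^ d - 1 := h.trans hM
  have h2 : p ∣ q ^ d := dvd_pow hpq (by omega)
  have h4 : 1 ≤ q ^ d := Nat.one_le_pow _ _ hq0
  have h3 : p ∣ 1 := by
    have := (Nat.dvd_sub h2 h1)
    rwa [Nat.sub_sub_self h4] at this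
  exact hp.one_lt.ne' (Nat.dvd_one.1 h3)

/-- the final divisibility -/
theorem final_dvd {r k M p t : ℕ} (hr : r.Prime) (hrk : ¬ r ∣ k) (hMp : Nat.Coprime M p)
    (hk : k ∣ p ^ t * M) : r * k ∣ Nat.lcm r (Nat.lcm M (p ^ t)) := by
  have hcop : Nat.Coprime r k := (Nat.Prime.coprime_iff_not_dvd hr).2 hrk
  have h1 : Nat.lcm M (p ^ t) = M * p ^ t := (Nat.Coprime.pow_right t hMp).lcm_eq_mul
  have h2 : k ∣ Nat.lcm M (p ^ t) := by
    rw [h1, mul_comm]
    exact hk
  exact Nat.Coprime.mul_dvd_of_dvd_of_dvd hcop (Nat.dvd_lcm_left _ _)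
    (h2.trans (Nat.dvd_lcm_right _ _))

end arith

section deg

variable {n : ℕ}

theorem minpoly_natDegree_le (g : Matrix (Fin n) (Fin n) F) : (minpoly F g).natDegree ≤ n := by
  have h1 : minpoly F g ∣ g.charpoly := Matrix.minpoly_dvd_charpoly g
  have h2 := Polynomial.natDegree_le_of_dvd h1 (Matrix.charpoly_monic g).ne_zero
  rwa [Matrix.charpoly_natDegree_eq_dim, Fintype.card_fin] at h2

theorem natDegree_dag (hF : Fintype.card F = q ^ 2) {f : F[X]} (h0 : f.coeff 0 ≠ 0) :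
    (dag hF f).natDegree = f.natDegree := by
  unfold dag
  have hinj : Function.Injective (powQ hF) := (powQ hF).injective
  rw [Cfsg.Agent.Lib.Helper5.Pal.rc_natDegree, Polynomial.natDegree_map_eq_of_injective hinj]
  rw [Polynomial.coeff_map]
  intro h
  apply h0
  apply hinj
  rw [h, map_zero]

end deg

section main

/-- **Structure theorem** for element orders of `PSU_n(q)` prime to `r`. -/
theorem struct (hF : Fintype.card F = q ^ 2) (p : ℕ) [hp : Fact p.Prime] [CharP F p] {n : ℕ}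
    (hn : 3 ≤ n) {r : ℕ} (hr : r.Prime) (hrq : r ∣ q + 1) (hrn : ¬ r ∣ n) {k : ℕ}
    (hrk : ¬ r ∣ k) (hk : k ∈ Set.range (orderOf : Cfsg.PSU n F q → ℕ)) :
    r * k ∈ Set.range (orderOf : Cfsg.PSU n F q → ℕ) ∨ k ∣ Qn q n ∨ IsU p n k := by
  obtain ⟨g, hg, hdet, hP⟩ := (U1.mem_omega_iff hF hn k).1 hk
  have hpq : p ∣ q := char_dvd_q hF p
  have hq0 : 0 < q := by
    rcases Nat.eq_zero_or_pos q with h0 | h0
    · exfalso
      have := Fintype.card_pos (α := F)
      rw [hF, h0] at this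
      simp at this
    · exact h0
  by_cases hdec : ∃ U : Submodule F (Fin n → F), (∀ x ∈ U, g.mulVec x ∈ U) ∧ U ≠ ⊥ ∧ U ≠ ⊤ ∧
      U ⊓ orthL q U = ⊥
  · obtain ⟨U, hU, hU0, hU1, hnd⟩ := hdec
    exact Or.inl (U4.decomp hF hn hr hrq hrn g hg hdet hP hrk U hU hU0 hU1 hnd)
  have hind : ∀ U : Submodule F (Fin n → F), (∀ x ∈ U, g.mulVec x ∈ U) →
      U ⊓ orthL q U = ⊥ → U = ⊥ ∨ U = ⊤ := by
    intro U hU hnd
    by_contra hcon
    push Not at hcon
    exact hdec ⟨U, hU, hcon.1, hcon.2, hnd⟩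
  obtain ⟨f, e, hfm, hirr, hf0, he, hshape⟩ := U5.minpoly_shape hF (by omega) g hg hind
  set d := f.natDegree with hd
  have hd1 : 1 ≤ d := hirr.natDegree_pos
  set τ := Nat.clog p e with hτdef
  have hτ : e ≤ p ^ τ := Nat.le_pow_clog hp.out.one_lt e
  have hτ' : 2 ≤ e → p ^ (τ - 1) < e := fun h2 =>
    Nat.pow_pred_clog_lt_self hp.out.one_lt (by omega)
  have hμdeg := minpoly_natDegree_le g
  have hkdvd : ∀ {B : ℕ} {c : F}, g ^ B = c • (1 : Matrix (Fin n) (Fin n) F) → k ∣ B :=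
    fun {B c} h => (hP B).1 ⟨c, h⟩
  rcases hshape with ⟨hdag, hμ⟩ | ⟨hdag, hμ⟩
  · -- `f = f†`
    obtain ⟨hodd, c, hc⟩ := U6.bound_self hF p g f hfm hirr hf0 hdag e τ hμ hτ
    have hkB : k ∣ p ^ τ * ((q ^ d + 1) / (q + 1)) := hkdvd hc
    have hde : d * e ≤ n := by
      rw [hμ, natDegree_pow] at hμdeg
      rw [mul_comm]
      exact hμdeg
    have hMp : Nat.Coprime ((q ^ d + 1) / (q + 1)) p :=
      coprime_of_dvd_succ hp.out hpq hd1 (Nat.div_dvd_of_dvd (U8.dvd_odd q hodd))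
    by_cases he1 : e = 1
    · -- the torus
      rw [he1, pow_one] at hμ
      have hdn : d = n := U5.full_degree_self hF (by omega) g hg hind f hfm hirr hμ
      obtain ⟨c', hc'⟩ := U7.torus_self hF (by omega) g hdet f hfm hirr hf0 hdag hμ hdn
      right
      left
      rw [Qn, if_neg (Nat.not_even_iff_odd.2 (hdn ▸ hodd))]
      exact hkdvd hc'
    have he2 : 2 ≤ e := by omega
    by_cases hd1' : d = 1
    · -- the unipotent case
      rw [hd1', pow_one, Nat.div_self (by omega), mul_one] at hkB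
      rw [hd1', one_mul] at hde
      obtain ⟨t, htτ, rfl⟩ := (Nat.dvd_prime_pow hp.out).1 hkB
      have h1 : p ^ (τ - 1) < n := lt_of_lt_of_le (hτ' he2) hde
      rcases Nat.eq_zero_or_pos t with ht0 | ht0
      · left
        rw [ht0, pow_zero, mul_one]
        exact r_mem hF p hn hr hrq hrn
      by_cases hU : p ^ (t - 1) = n - 1
      · exact Or.inr (Or.inr ⟨t, ht0, rfl, hU⟩)
      left
      have h2 : p ^ (t - 1) ≤ p ^ (τ - 1) := Nat.pow_le_pow_right hp.out.pos (by omega)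
      obtain ⟨m', rfl⟩ : ∃ m', n = 0 + m' + 1 := ⟨n - 1, by omega⟩
      have h3 : p ^ (t - 1) < m' := by
        have : 0 + m' + 1 - 1 = m' := by omega
        rw [this] at hU
        omega
      refine constr1 hF p hr hrq (D := 0) (m' := m') (by omega) hn hrn
        (1 : Matrix (Fin 0) (Fin 0) F) (Subsingleton.elim _ _) (by simp) (M := 1)
        (fun j _ => one_dvd j) (t := t) (Or.inr h3) ?_
      apply final_dvd hr hrk (Nat.coprime_one_left p)
      rw [mul_one]
    -- the general case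
    have hd3 : 3 ≤ d := by
      obtain ⟨w, hw⟩ := hodd
      omega
    obtain ⟨s, hs, hsd, hsM⟩ := U3.exists_torus_odd hF hodd
    have hbig : d + e + 1 ≤ d * e := by nlinarith
    obtain ⟨m', rfl⟩ : ∃ m', n = d + m' + 1 := ⟨n - d - 1, by omega⟩
    have hm'e : e ≤ m' := by omega
    left
    refine constr1 hF p hr hrq (D := d) (m' := m') (by omega) hn hrn s hs hsd
      (M := (q ^ d + 1) / (q + 1)) (fun j h => (hsM j).1 h) (t := τ) ?_
      (final_dvd hr hrk hMp hkB)
    right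
    exact lt_of_lt_of_le (hτ' he2) hm'e
  · -- `f ≠ f†`
    obtain ⟨c, hc⟩ := U6.bound_pair hF p g f hfm hirr hf0 hdag e τ hμ hτ
    have hkB : k ∣ p ^ τ * ((q ^ (2 * d) - 1) / (q + 1)) := hkdvd hc
    have hde : 2 * d * e ≤ n := by
      rw [hμ, natDegree_pow, natDegree_mul hfm.ne_zero, natDegree_dag hF hf0] at hμdeg
      · rw [← hd] at hμdeg
        calc 2 * d * e = e * (d + d) := by ring
          _ ≤ n := hμdeg
      · intro h
        have h1 := natDegree_dag hF hf0
        rw [h, natDegree_zero] at h1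
        omega
    have hev : Even (2 * d) := ⟨d, by ring⟩
    have hMp : Nat.Coprime ((q ^ (2 * d) - 1) / (q + 1)) p :=
      coprime_of_dvd_pred hp.out hpq hq0 (by omega) (Nat.div_dvd_of_dvd (U8.dvd_even q hev))
    by_cases he1 : e = 1
    · rw [he1, pow_one] at hμ
      have hdn : 2 * d = n := U5.full_degree_pair hF (by omega) g hg hind f hfm hirr hf0 hdag hμ
      obtain ⟨c', hc'⟩ := U7.torus_pair hF (by omega) g hdet f hfm hirr hf0 hdag hμ hdn
      right
      left
      rw [Qn, if_pos (hdn ▸ hev)]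
      exact hkdvd hc'
    have he2 : 2 ≤ e := by omega
    obtain ⟨s, hs, hsd, hsM⟩ := U3.exists_torus_hyp hF hd1
    left
    by_cases hbig : 2 * d + e + 1 ≤ n
    · obtain ⟨m', rfl⟩ : ∃ m', n = 2 * d + m' + 1 := ⟨n - 2 * d - 1, by omega⟩
      have hm'e : e ≤ m' := by omega
      refine constr1 hF p hr hrq (D := 2 * d) (m' := m') (by omega) hn hrn s hs hsd
        (M := (q ^ (2 * d) - 1) / (q + 1)) (fun j h => (hsM j).1 h) (t := τ) ?_
        (final_dvd hr hrk hMp hkB)
      right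
      exact lt_of_lt_of_le (hτ' he2) hm'e
    · -- `n = 4`, `d = 1`, `e = 2`
      push Not at hbig
      have hd1'' : d = 1 := by
        by_contra hne
        have hd2 : 2 ≤ d := by omega
        nlinarith
      have he2' : e = 2 := by
        rw [hd1''] at hde hbig
        omega
      have hn4 : n = 2 * d + 2 := by
        rw [hd1'', he2'] at hde hbig
        omega
      subst hn4
      have hτ1 : p ^ (τ - 1) < 2 := by
        have := hτ' he2
        rwa [he2'] at this
      have hr2 : r ≠ 2 := by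
        rintro rfl
        apply hrn
        rw [hd1'']
        decide
      -- `r` is prime to `q - 1`
      have hM1 : (q ^ (2 * d) - 1) / (q + 1) = q - 1 := by
        rw [hd1'', mul_one]
        obtain ⟨c, rfl⟩ : ∃ c, q = c + 1 := ⟨q - 1, by omega⟩
        have h1 : (c + 1) ^ 2 - 1 = (c + 1 + 1) * c := by
          have : (c + 1) ^ 2 = (c + 1 + 1) * c + 1 := by ring
          rw [this, Nat.add_sub_cancel]
        rw [h1, Nat.mul_div_cancel_left _ (by omega), Nat.add_sub_cancel]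
      have hrM : Nat.Coprime r ((q ^ (2 * d) - 1) / (q + 1)) := by
        rw [hM1, Nat.Prime.coprime_iff_not_dvd hr]
        intro h
        have h1 : r ∣ (q + 1) - (q - 1) := Nat.dvd_sub hrq h
        have h2 : (q + 1) - (q - 1) = 2 := by omega
        rw [h2] at h1
        exact hr2 ((Nat.prime_dvd_prime_iff_eq hr Nat.prime_two).1 h1)
      exact constr2 hF p hr hrq (D := 2 * d) (m := 2) (by omega) (by omega) hn hrn s hs hsd
        (M := (q ^ (2 * d) - 1) / (q + 1)) hsM hrM (t := τ) (Or.inr hτ1)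
        (final_dvd hr hrk hMp hkB)

end main

end Cfsg.Agent.Lib.Helper9.CubeU
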