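import Mathlib
import Cfsg.Agent.Lib.Helper9.CubeUStr2
import Cfsg.Agent.Lib.Helper5.CubeL.CarveS6

/-!
# S2511: final assembly for `PSU_n(q)^3 × r^m`
-/

set_option autoImplicit false

namespace Cfsg.Agent.Lib.Helper9.CubeU

open Cfsg.Agent.Lib.Carve

theorem IsU.unique {p n k k' : ℕ} (hp : p.Prime) (h : IsU p n k) (h' : IsU p n k') :
    k = k' := by
  obtain ⟨t, ht, rfl, h1⟩ := h
  obtain ⟨t', ht', rfl, h1'⟩ := h'
  have h3 : t - 1 = t' - 1 := Nat.pow_right_injective hp.two_le (by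
    show p ^ (t - 1) = p ^ (t' - 1)
    rw [h1, h1'])
  have : t = t' := by omega
  rw [this]

universe u

/-- **Main theorem** for `PSU`. -/
theorem psu_cube {F : Type u} [Field F] [Fintype F] (p a n q r m : ℕ) (hp : p.Prime)
    (hq : q = p ^ a) (hF : Fintype.card F = q ^ 2)
    (hn : 3 ≤ n) (hr : r.Prime) (hrq : r ∣ q + 1) (hrn : ¬ r ∣ n) :
    Set.range (orderOf : Cfsg.PSU n F q × Cfsg.PSU n F q × Cfsg.PSU n F q ×
        Multiplicative (Fin m → ZMod r) → ℕ) =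
      Set.range (orderOf : Cfsg.PSU n F q × Cfsg.PSU n F q × Cfsg.PSU n F q → ℕ) ∧
    ((¬ ∃ j : ℕ, n - 1 = p ^ j) →
      Set.range (orderOf : Cfsg.PSU n F q × Cfsg.PSU n F q ×
          Multiplicative (Fin m → ZMod r) → ℕ) =
        Set.range (orderOf : Cfsg.PSU n F q × Cfsg.PSU n F q → ℕ)) := by
  have hpF : Fact p.Prime := ⟨hp⟩
  have hchar : CharP F p := by
    obtain ⟨p', hp'⟩ := CharP.exists F
    have hp'prime : p'.Prime := CharP.char_is_prime F p'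
    have h1 : p' ∣ Fintype.card F :=
      (CharP.cast_eq_zero_iff F p' _).1 (Nat.cast_card_eq_zero F)
    rw [hF, hq] at h1
    have h3 : p' = p := (Nat.prime_dvd_prime_iff_eq hp'prime hp).1
      (hp'prime.dvd_of_dvd_pow (hp'prime.dvd_of_dvd_pow h1))
    rw [← h3]
    exact hp'
  have hQ1 : ∀ k, ¬ r ∣ k → k ∣ Qn q n →
      k ∈ Set.range (orderOf : Cfsg.PSU n F q → ℕ) :=
    fun k _ hk => torus_mem hF hn hk
  have hQ3 : ∀ k, ¬ r ∣ k →
      k ∈ Set.range (orderOf : Cfsg.PSU n F q → ℕ) →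
      r * k ∈ Set.range (orderOf : Cfsg.PSU n F q → ℕ) ∨
        k ∣ Qn q n ∨ IsU p n k :=
    fun k hk hmem => struct hF p hn hr hrq hrn hk hmem
  have hrmem := r_mem hF p hn hr hrq hrn
  constructor
  · apply S6.spectrum_triple hr
    intro x y z hx hy hz
    obtain ⟨a', ⟨x', rfl⟩, b', ⟨y', rfl⟩, c', ⟨z', rfl⟩, h⟩ :=
      S6.triple_comb (ω := Set.range (orderOf : Cfsg.PSU n F q → ℕ))
        (U := IsU p n) hr (fun k k' hk hk' => IsU.unique hp hk hk') hQ1 hQ3 hrmem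
        ⟨x, rfl⟩ ⟨y, rfl⟩ ⟨z, rfl⟩ hx hy hz
    exact ⟨x', y', z', h⟩
  · intro hnp
    apply S6.spectrum_pair hr
    intro x y hx hy
    have hU : ∀ k, ¬ IsU p n k := by
      rintro k ⟨t, -, -, ht⟩
      exact hnp ⟨t - 1, ht.symm⟩
    obtain ⟨a', ⟨x', rfl⟩, b', ⟨y', rfl⟩, h⟩ :=
      S6.pair_comb (ω := Set.range (orderOf : Cfsg.PSU n F q → ℕ))
        (U := IsU p n) hr hU hQ1 hQ3 hrmem ⟨x, rfl⟩ ⟨y, rfl⟩ hx hy
    exact ⟨x', y', h⟩

end Cfsg.Agent.Lib.Helper9.CubeU
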