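import Mathlib
import Cfsg.Agent.Lib.Helper8.KZ6

set_option autoImplicit false
set_option maxHeartbeats 800000

namespace Cfsg.Agent.Lib.Helper9.CycTwo

universe u

/-- `Q H`: `H` has a normal cyclic subgroup with cyclic quotient of 2-power order. -/
def Q (H : Type*) [Group H] : Prop :=
  ∃ (B : Subgroup H) (_ : B.Normal), IsCyclic B ∧ IsCyclic (H ⧸ B) ∧
    ∃ r : ℕ, Nat.card (H ⧸ B) = 2 ^ r

/-- `Hyp p G`: `G` has a subgroup of `p`-power index satisfying `Q`. -/
def Hyp (p : ℕ) (G : Type*) [Group G] : Prop :=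
  ∃ (A : Subgroup G) (s : ℕ), A.index = p ^ s ∧ Q A

theorem Q_of_surjective {H H' : Type*} [Group H] [Group H'] [Finite H] (f : H →* H')
    (hf : Function.Surjective f) (h : Q H) : Q H' := by
  obtain ⟨B, hBn, hBc, hQc, r, hr⟩ := h
  have hBn' : (B.map f).Normal := Subgroup.Normal.map hBn f hf
  refine ⟨B.map f, hBn', ?_, ?_, ?_⟩
  · exact isCyclic_of_surjective (f.subgroupMap B) (f.subgroupMap_surjective B)
  · have hs : Function.Surjective (QuotientGroup.map B (B.map f) f (Subgroup.le_comap_map f B)) := by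
      intro y
      obtain ⟨y', rfl⟩ := QuotientGroup.mk_surjective y
      obtain ⟨x, rfl⟩ := hf y'
      exact ⟨QuotientGroup.mk x, rfl⟩
    exact isCyclic_of_surjective _ hs
  · have hs : Function.Surjective (QuotientGroup.map B (B.map f) f (Subgroup.le_comap_map f B)) := by
      intro y
      obtain ⟨y', rfl⟩ := QuotientGroup.mk_surjective y
      obtain ⟨x, rfl⟩ := hf y'
      exact ⟨QuotientGroup.mk x, rfl⟩
    have hd := Subgroup.card_dvd_of_surjective _ hs
    rw [hr] at hd
    obtain ⟨k, -, hk⟩ := (Nat.dvd_prime_pow Nat.prime_two).1 hd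
    exact ⟨k, hk⟩

theorem Hyp_quotient {G : Type*} [Group G] [Finite G] {p : ℕ} (hp : p.Prime) (N : Subgroup G)
    [N.Normal] (h : Hyp p G) : Hyp p (G ⧸ N) := by
  obtain ⟨A, s, hA, hQ⟩ := h
  have hd : (A.map (QuotientGroup.mk' N)).index ∣ A.index :=
    Subgroup.index_map_dvd A (QuotientGroup.mk'_surjective N)
  rw [hA] at hd
  obtain ⟨k, -, hk⟩ := (Nat.dvd_prime_pow hp).1 hd
  refine ⟨A.map (QuotientGroup.mk' N), k, hk, ?_⟩
  exact Q_of_surjective ((QuotientGroup.mk' N).subgroupMap A)
    ((QuotientGroup.mk' N).subgroupMap_surjective A) hQ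

/-- The induction hypothesis at level `n`. -/
def IH (n : ℕ) : Prop :=
  ∀ m < n, ∀ (H : Type u) [Group H] [Finite H], Nat.card H = m →
    ∀ p : ℕ, p.Prime → Hyp p H → Group.IsSolvable H

/-- L1: a nontrivial element with prime-power class size lets the induction go through. -/
theorem solvable_of_class {G : Type u} [Group G] [Finite G] {p : ℕ} (hp : p.Prime)
    (hH : Hyp p G) (ih : IH.{u} (Nat.card G))
    (g : G) (hg : g ≠ 1) (q : ℕ) (hq : q.Prime) (a : ℕ)
    (hga : (Subgroup.centralizer ({g} : Set G)).index = q ^ a) : Group.IsSolvable G := by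
  have hNs : Group.IsSolvable (Subgroup.normalClosure ({g} : Set G)) :=
    Cfsg.Agent.Lib.Helper8.KZ.kazarin_normalClosure hq g a hga
  have hNn : (Subgroup.normalClosure ({g} : Set G)).Normal := Subgroup.normalClosure_normal
  have hgN : g ∈ Subgroup.normalClosure ({g} : Set G) :=
    Subgroup.subset_normalClosure (Set.mem_singleton g)
  have hNne : Subgroup.normalClosure ({g} : Set G) ≠ ⊥ := by
    intro h
    rw [h] at hgN
    exact hg (Subgroup.mem_bot.1 hgN)
  have hcard : Nat.card (G ⧸ Subgroup.normalClosure ({g} : Set G)) < Nat.card G := by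
    have h1 := Subgroup.card_eq_card_quotient_mul_card_subgroup
      (Subgroup.normalClosure ({g} : Set G))
    have h2 : 1 < Nat.card (Subgroup.normalClosure ({g} : Set G)) := by
      rw [Subgroup.one_lt_card_iff_ne_bot]
      exact hNne
    have h3 : 0 < Nat.card (G ⧸ Subgroup.normalClosure ({g} : Set G)) := Nat.card_pos
    nlinarith
  have hQs : Group.IsSolvable (G ⧸ Subgroup.normalClosure ({g} : Set G)) :=
    ih _ hcard (G ⧸ Subgroup.normalClosure ({g} : Set G)) rfl p hp
      (Hyp_quotient hp (Subgroup.normalClosure ({g} : Set G)) hH)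
  exact Group.isSolvable_of_ker_le_range (Subgroup.normalClosure ({g} : Set G)).subtype
    (QuotientGroup.mk' (Subgroup.normalClosure ({g} : Set G))) (by simp)

/-- L2: prime-power order groups are solvable. -/
theorem solvable_of_card_prime_pow {G : Type u} [Group G] [Finite G] {p : ℕ} (hp : p.Prime)
    (k : ℕ) (h : Nat.card G = p ^ k) : Group.IsSolvable G := by
  have : Fact p.Prime := ⟨hp⟩
  have hpG : IsPGroup p G := IsPGroup.of_card h
  have : Group.IsNilpotent G := hpG.isNilpotent
  infer_instance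


/-- the image of a cyclic subgroup `B ≤ A` in `G` centralizes each of its elements -/
theorem map_le_centralizer {G : Type u} [Group G] (A : Subgroup G) (B : Subgroup A)
    (hB : IsCyclic B) (z : A) (hz : z ∈ B) :
    B.map A.subtype ≤ Subgroup.centralizer ({(z : G)} : Set G) := by
  intro x hx
  obtain ⟨b, hb, rfl⟩ := Subgroup.mem_map.1 hx
  rw [Subgroup.mem_centralizer_iff]
  intro y hy
  rw [Set.mem_singleton_iff] at hy
  subst hy
  letI : CommGroup B := IsCyclic.commGroup
  have h := mul_comm (⟨z, hz⟩ : B) ⟨b, hb⟩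
  have h2 : z * b = b * z := by
    have := congrArg (fun t : B => (t : A)) h
    simpa using this
  have h3 := congrArg (fun t : A => (t : G)) h2
  simpa using h3

/-- Lemma X: if the cyclic subgroup has prime power index, we are done. -/
theorem solvable_of_index_prime_pow {G : Type u} [Group G] [Finite G] {p : ℕ} (hp : p.Prime)
    (hH : Hyp p G) (ih : IH.{u} (Nat.card G))
    (A : Subgroup G) (B : Subgroup A) (hB : IsCyclic B) (q : ℕ) (hq : q.Prime) (k : ℕ)
    (hk : (B.map A.subtype).index = q ^ k) : Group.IsSolvable G := by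
  by_cases hbot : B = ⊥
  · have h1 : B.map A.subtype = ⊥ := by rw [hbot, Subgroup.map_bot]
    rw [h1, Subgroup.index_bot] at hk
    exact solvable_of_card_prime_pow hq k hk
  · obtain ⟨z, hz, hz1⟩ := (Subgroup.ne_bot_iff_exists_ne_one (H := B)).1 hbot |>.imp
      (fun z hz => hz) |> fun ⟨z, hz⟩ => (⟨(z : A), z.2, fun h => hz (Subtype.ext h)⟩ :
        ∃ z : A, z ∈ B ∧ z ≠ 1)
    have hle := map_le_centralizer A B hB z hz
    have hd := Subgroup.index_dvd_of_le hle
    rw [hk] at hd
    obtain ⟨j, -, hj⟩ := (Nat.dvd_prime_pow hq).1 hd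
    have hzG : (z : G) ≠ 1 := by
      intro h
      apply hz1
      exact Subtype.ext h
    exact solvable_of_class hp hH ih (z : G) hzG q hq j hj


/-- a cyclic group of even order has a unique involution -/
theorem unique_involution {B : Type*} [Group B] [Finite B] (hB : IsCyclic B)
    (z w : B) (hz : orderOf z = 2) (hw : orderOf w = 2) : z = w := by
  classical
  letI : Fintype B := Fintype.ofFinite B
  have hd : 2 ∣ Fintype.card B := by
    rw [← hz, ← Nat.card_eq_fintype_card]
    exact orderOf_dvd_natCard z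
  have h1 := IsCyclic.card_orderOf_eq_totient (α := B) hd
  rw [Nat.totient_two] at h1
  obtain ⟨c, hc⟩ := Finset.card_eq_one.1 h1
  have hzc : z ∈ (Finset.univ.filter fun a : B => orderOf a = 2) := by simp [hz]
  have hwc : w ∈ (Finset.univ.filter fun a : B => orderOf a = 2) := by simp [hw]
  rw [hc, Finset.mem_singleton] at hzc hwc
  rw [hzc, hwc]

/-- Lemma Y: a normal cyclic subgroup of even order has a central involution. -/
theorem exists_central_involution {G : Type u} [Group G] [Finite G] (A : Subgroup G)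
    (B : Subgroup A) [hBn : B.Normal] (hB : IsCyclic B) (h2 : 2 ∣ Nat.card B) :
    ∃ z : A, z ≠ 1 ∧ A ≤ Subgroup.centralizer ({(z : G)} : Set G) := by
  haveI : Fact (Nat.Prime 2) := ⟨Nat.prime_two⟩
  obtain ⟨z, hz⟩ := exists_prime_orderOf_dvd_card' (G := B) 2 h2
  refine ⟨(z : A), ?_, ?_⟩
  · intro h
    have : z = 1 := Subtype.ext h
    rw [this, orderOf_one] at hz
    norm_num at hz
  · intro x hx
    rw [Subgroup.mem_centralizer_iff]
    intro y hy
    rw [Set.mem_singleton_iff] at hy
    subst hy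
    have hmem : (⟨x, hx⟩ : A) * (z : A) * (⟨x, hx⟩ : A)⁻¹ ∈ B := hBn.conj_mem (z : A) z.2 ⟨x, hx⟩
    have hord : orderOf (⟨_, hmem⟩ : B) = 2 := by
      rw [← Subgroup.orderOf_coe]
      have := (MulAut.conj (⟨x, hx⟩ : A)).orderOf_eq (z : A)
      rw [MulAut.conj_apply] at this
      simp only [] at this ⊢
      rw [this, Subgroup.orderOf_coe, hz]
    have heq := unique_involution hB z ⟨_, hmem⟩ hz hord
    have h3 : (z : A) = (⟨x, hx⟩ : A) * (z : A) * (⟨x, hx⟩ : A)⁻¹ := congrArg (fun t : B => (t : A)) heq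
    have h4 : ((z : A) : G) = x * ((z : A) : G) * x⁻¹ := by
      have := congrArg (fun t : A => (t : G)) h3
      simpa using this
    calc ((z : A) : G) * x = x * ((z : A) : G) * x⁻¹ * x := by rw [← h4]
      _ = x * ((z : A) : G) := by group


theorem Q_of_isCyclic {H : Type*} [Group H] (h : IsCyclic H) : Q H := by
  refine ⟨⊤, inferInstance, ?_, ?_, 0, ?_⟩
  · exact isCyclic_of_surjective (Subgroup.topEquiv (G := H)).symm.toMonoidHom
      (Subgroup.topEquiv (G := H)).symm.surjective
  · haveI : Subsingleton (H ⧸ (⊤ : Subgroup H)) := QuotientGroup.subsingleton_quotient_top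
    exact isCyclic_of_subsingleton
  · haveI : Subsingleton (H ⧸ (⊤ : Subgroup H)) := QuotientGroup.subsingleton_quotient_top
    rw [pow_zero]
    exact Nat.card_of_subsingleton (1 : H ⧸ (⊤ : Subgroup H))

/-- an element killed by coprime exponents is trivial -/
theorem eq_one_of_pow_coprime {X : Type*} [Group X] (x : X) (m n : ℕ) (hmn : Nat.Coprime m n)
    (hm : x ^ m = 1) (hn : x ^ n = 1) : x = 1 := by
  have h1 := orderOf_dvd_of_pow_eq_one hm
  have h2 := orderOf_dvd_of_pow_eq_one hn
  have h3 := Nat.dvd_gcd h1 h2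
  rw [hmn.gcd_eq_one, Nat.dvd_one] at h3
  exact orderOf_eq_one_iff.1 h3

/-- Lemma Z: the transfer case. -/
theorem solvable_of_odd_cyclic {G : Type u} [Group G] [Finite G] {p : ℕ} (hp : p.Prime)
    (hp2 : p ≠ 2) (ih : IH.{u} (Nat.card G))
    (A : Subgroup G) (s : ℕ) (hA : A.index = p ^ s)
    (B : Subgroup A) [hBn : B.Normal] (hB : IsCyclic B) (hAB : IsCyclic (A ⧸ B)) (r : ℕ)
    (hr : Nat.card (A ⧸ B) = 2 ^ r) (hr1 : r ≠ 0) (hodd : ¬ 2 ∣ Nat.card B) :
    Group.IsSolvable G := by
  haveI : Fact (Nat.Prime 2) := ⟨Nat.prime_two⟩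
  have hcop2 : Nat.Coprime 2 (Nat.card B) := (Nat.Prime.coprime_iff_not_dvd Nat.prime_two).2 hodd
  let P : Sylow 2 A := default
  -- `P ∩ B = 1`
  have hPB : ∀ x : A, x ∈ P → x ∈ B → x = 1 := by
    intro x hxP hxB
    obtain ⟨k, hk⟩ := P.2 ⟨x, hxP⟩
    have h1 : x ^ 2 ^ k = 1 := by
      have := congrArg Subtype.val hk
      simpa using this
    have h2 : x ^ Nat.card B = 1 := by
      have h := pow_card_eq_one' (G := B) (x := ⟨x, hxB⟩)
      have h' : ((⟨x, hxB⟩ : B) : A) ^ Nat.card B = 1 := by
        rw [← SubgroupClass.coe_pow, h]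
        rfl
      exact h'
    exact eq_one_of_pow_coprime x _ _ (hcop2.pow_left k) h1 h2
  -- `P` is cyclic
  have hPc : IsCyclic (P : Subgroup A) := by
    haveI := hAB
    refine isCyclic_of_injective ((QuotientGroup.mk' B).comp (P : Subgroup A).subtype) ?_
    rw [injective_iff_map_eq_one]
    intro x hx
    have hxB : (x : A) ∈ B := by
      rw [← QuotientGroup.eq_one_iff]
      exact hx
    exact Subtype.ext (hPB (x : A) x.2 hxB)
  -- the Sylow 2-subgroup of `G`
  have hPGp : IsPGroup 2 ((P : Subgroup A).map A.subtype) := P.2.map A.subtype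
  have hpnd : ¬ 2 ∣ p ^ s := by
    intro h
    have := Nat.Prime.dvd_of_dvd_pow Nat.prime_two h
    exact hp2 ((Nat.prime_dvd_prime_iff_eq Nat.prime_two hp).1 this).symm
  have hPGi : ¬ 2 ∣ ((P : Subgroup A).map A.subtype).index := by
    rw [Subgroup.index_map_subtype, hA]
    exact Nat.Prime.not_dvd_mul Nat.prime_two P.not_dvd_index hpnd
  let S : Sylow 2 G := hPGp.toSylow hPGi
  have hSc : IsCyclic (S : Subgroup G) := by
    show IsCyclic ((P : Subgroup A).map A.subtype)
    haveI := hPc
    exact isCyclic_of_surjective (A.subtype.subgroupMap (P : Subgroup A))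
      (A.subtype.subgroupMap_surjective (P : Subgroup A))
  -- `2 ∣ |G|`
  have hcardA : Nat.card A = 2 ^ r * Nat.card B := by
    rw [← hr]
    exact Subgroup.card_eq_card_quotient_mul_card_subgroup B
  have h2A : 2 ∣ Nat.card A := by
    rw [hcardA]
    exact Dvd.dvd.mul_right (dvd_pow_self 2 hr1) _
  have h2G : 2 ∣ Nat.card G := h2A.trans (Subgroup.card_subgroup_dvd_card A)
  have hmin : (Nat.card G).minFac = 2 := (Nat.minFac_eq_two_iff _).2 h2G
  -- the normal complement
  have hK := IsCyclic.isComplement' hmin hSc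
  set K : Subgroup G :=
    (MonoidHom.transferSylow S (hSc.normalizer_le_centralizer hmin)).ker with hKdef
  haveI hKn : K.Normal := MonoidHom.normal_ker _
  have hKidx : K.index = Nat.card (S : Subgroup G) := hK.symm.index_eq_card
  have hSidx : (S : Subgroup G).index = Nat.card K := hK.index_eq_card
  obtain ⟨k, hk⟩ := S.2.exists_card_eq
  have hKodd : ¬ 2 ∣ Nat.card K := by
    rw [← hSidx]
    exact S.not_dvd_index
  have hSne : (S : Subgroup G) ≠ ⊥ := S.ne_bot_of_dvd_card h2G
  have hS1 : 1 < Nat.card (S : Subgroup G) := (Subgroup.one_lt_card_iff_ne_bot _).2 hSne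
  have hKlt : Nat.card K < Nat.card G := by
    have h1 := Subgroup.card_mul_index K
    rw [hKidx] at h1
    have h3 : 0 < Nat.card K := Nat.card_pos
    nlinarith
  -- `B ≤ K`
  have hBK : B.map A.subtype ≤ K := by
    intro y hy
    obtain ⟨b, hb, rfl⟩ := Subgroup.mem_map.1 hy
    rw [← QuotientGroup.eq_one_iff]
    have h1 : ((b : G) : G ⧸ K) ^ Nat.card B = 1 := by
      have h := pow_card_eq_one' (G := B) (x := ⟨b, hb⟩)
      have h' : ((⟨b, hb⟩ : B) : A) ^ Nat.card B = 1 := by
        rw [← SubgroupClass.coe_pow, h]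
        rfl
      have h'' : (b : G) ^ Nat.card B = 1 := by
        rw [← SubgroupClass.coe_pow, h']
        rfl
      rw [← QuotientGroup.mk_pow, h'']
      rfl
    have h2 : ((b : G) : G ⧸ K) ^ 2 ^ k = 1 := by
      rw [← hk, ← hKidx, Subgroup.index_eq_card]
      exact pow_card_eq_one'
    exact eq_one_of_pow_coprime _ _ _ (hcop2.pow_left k) h2 h1
  -- index of `B` in `K`
  have hidx : (B.map A.subtype).index = 2 ^ r * p ^ s := by
    rw [Subgroup.index_map_subtype, hA, Subgroup.index_eq_card, hr]
  have hrel : ∃ j : ℕ, ((B.map A.subtype).subgroupOf K).index = p ^ j := by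
    have h1 : (B.map A.subtype).relIndex K * K.index = (B.map A.subtype).index :=
      Subgroup.relIndex_mul_index hBK
    have h2 : (B.map A.subtype).relIndex K ∣ 2 ^ r * p ^ s := by
      rw [← hidx, ← h1]
      exact Dvd.intro _ rfl
    have h3 : (B.map A.subtype).relIndex K ∣ Nat.card K := Subgroup.index_dvd_card _
    have h4 : Nat.Coprime ((B.map A.subtype).relIndex K) (2 ^ r) := by
      apply Nat.Coprime.pow_right
      apply Nat.Coprime.symm
      rw [Nat.Prime.coprime_iff_not_dvd Nat.prime_two]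
      intro h
      exact hKodd (h.trans h3)
    have h5 : (B.map A.subtype).relIndex K ∣ p ^ s := h4.dvd_of_dvd_mul_left h2
    obtain ⟨j, -, hj⟩ := (Nat.dvd_prime_pow hp).1 h5
    exact ⟨j, hj⟩
  obtain ⟨j, hj⟩ := hrel
  -- `Q` for `B` inside `K`
  have hBGc : IsCyclic (B.map A.subtype) := by
    haveI := hB
    exact isCyclic_of_surjective (A.subtype.subgroupMap B) (A.subtype.subgroupMap_surjective B)
  have hBKc : IsCyclic ((B.map A.subtype).subgroupOf K) := by
    haveI := hBGc
    exact isCyclic_of_surjective (Subgroup.subgroupOfEquivOfLe hBK).symm.toMonoidHom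
      (Subgroup.subgroupOfEquivOfLe hBK).symm.surjective
  have hHypK : Hyp p K := ⟨(B.map A.subtype).subgroupOf K, j, hj, Q_of_isCyclic hBKc⟩
  have hKs : Group.IsSolvable K := ih _ hKlt K rfl p hp hHypK
  have hQs : Group.IsSolvable (G ⧸ K) := by
    apply solvable_of_card_prime_pow Nat.prime_two k
    rw [← Subgroup.index_eq_card, hKidx, hk]
  exact Group.isSolvable_of_ker_le_range K.subtype (QuotientGroup.mk' K) (by simp)


/-- Main theorem, by strong induction on the order. -/
theorem main_aux : ∀ (n : ℕ) (G : Type u) [Group G] [Finite G], Nat.card G = n →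
    ∀ p : ℕ, p.Prime → Hyp p G → Group.IsSolvable G := by
  intro n
  induction n using Nat.strong_induction_on with
  | _ n ih =>
    intro G _ _ hn p hp hH
    subst hn
    have ih' : IH.{u} (Nat.card G) := fun m hm H _ _ hHm q hq hHq => ih m hm H hHm q hq hHq
    have hH' := hH
    obtain ⟨A, s, hA, B, hBn, hB, hAB, r, hr⟩ := hH'
    have hidx : (B.map A.subtype).index = 2 ^ r * p ^ s := by
      rw [Subgroup.index_map_subtype, hA, Subgroup.index_eq_card, hr]
    by_cases hp2 : p = 2
    · subst hp2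
      rw [← pow_add] at hidx
      exact solvable_of_index_prime_pow hp hH ih' A B hB 2 Nat.prime_two _ hidx
    · by_cases hr0 : r = 0
      · subst hr0
        rw [pow_zero, one_mul] at hidx
        exact solvable_of_index_prime_pow hp hH ih' A B hB p hp s hidx
      · by_cases h2 : 2 ∣ Nat.card B
        · obtain ⟨z, hz1, hzA⟩ := exists_central_involution A B hB h2
          have hd := Subgroup.index_dvd_of_le hzA
          rw [hA] at hd
          obtain ⟨j, -, hj⟩ := (Nat.dvd_prime_pow hp).1 hd
          have hzG : (z : G) ≠ 1 := fun h => hz1 (Subtype.ext h)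
          exact solvable_of_class hp hH ih' (z : G) hzG p hp j hj
        · exact solvable_of_odd_cyclic hp hp2 ih' A s hA B hB hAB r hr hr0 h2

/-- **S4245**: a finite group with a subgroup of prime power index that is
cyclic-by-(cyclic 2-group) is solvable. -/
theorem main {G : Type u} [Group G] [Finite G] (A : Subgroup G) (p s : ℕ) (hp : p.Prime)
    (hA : A.index = p ^ s) (B : Subgroup A) [hBn : B.Normal] (hB : IsCyclic B)
    (hAB : IsCyclic (A ⧸ B)) (r : ℕ) (hr : Nat.card (A ⧸ B) = 2 ^ r) : Group.IsSolvable G :=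
  main_aux _ G rfl p hp ⟨A, s, hA, B, hBn, hB, hAB, r, hr⟩

end Cfsg.Agent.Lib.Helper9.CycTwo
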