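import Mathlib
import Cfsg.Prelude
import Cfsg.Agent.Lib.Helper9.DecompNM2

set_option autoImplicit false

namespace Cfsg.Agent.H9Dec

open Matrix Module

variable {F : Type*} [Field F] {ι : Type} [Fintype ι] [DecidableEq ι]

section coord

variable {I : Type*} [Fintype I] [DecidableEq I] (B : Basis I F (ι → F))

/-- the sum of the basis vectors in a finite set -/
noncomputable def vS (S : Finset I) : ι → F := ∑ a ∈ S, B a

theorem repr_vS (S : Finset I) (c : I) : B.repr (vS B S) c = if c ∈ S then 1 else 0 := by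
  unfold vS
  rw [map_sum, Finsupp.finset_sum_apply]
  simp only [Basis.repr_self, Finsupp.single_apply]
  rw [Finset.sum_ite_eq' S c]

theorem vS_singleton (a : I) : vS B {a} = B a := by
  unfold vS
  rw [Finset.sum_singleton]

theorem vS_pair {a b : I} (hab : a ≠ b) : vS B {a, b} = B a + B b := by
  unfold vS
  rw [Finset.sum_pair hab]

variable (σ : F →+* F) (ρ : I → I)

theorem hform_vS (S S' : Finset I) :
    hform B σ ρ (vS B S) (vS B S') = ((S.filter (fun a => ρ a ∈ S')).card : F) := by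
  unfold hform
  simp only [repr_vS]
  rw [Finset.card_filter, Nat.cast_sum, ← Finset.sum_subset (Finset.subset_univ S)]
  · apply Finset.sum_congr rfl
    intro a ha
    rw [if_pos ha, one_mul]
    split_ifs <;> simp
  · intro a _ ha
    rw [if_neg ha, zero_mul]

end coord

section decomp

variable {t m : ℕ} {D : Fin t → Submodule F (ι → F)}
variable {B : Basis (Σ _ : Fin t, Fin m) F (ι → F)} (hB : Adapted D B)
variable (σ : F →+* F) (ρ : (Σ _ : Fin t, Fin m) → (Σ _ : Fin t, Fin m))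

include hB in
theorem hform_of_mem {k : Fin t} {y : ι → F} (hy : y ∈ D k) (y' : ι → F) :
    hform B σ ρ y y' = ∑ j : Fin m, B.repr y ⟨k, j⟩ * σ (B.repr y' (ρ ⟨k, j⟩)) := by
  unfold hform
  rw [Fintype.sum_sigma]
  rw [Finset.sum_eq_single k]
  · intro i _ hik
    apply Finset.sum_eq_zero
    intro j _
    rw [hB.repr_ne k i j y hy hik, zero_mul]
  · intro h
    exact absurd (Finset.mem_univ k) h

include hB in
theorem hform_of_mem_ne (hρ : ∀ c, (ρ c).1 = c.1) {k k' : Fin t} (hkk : k ≠ k') {y y' : ι → F}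
    (hy : y ∈ D k) (hy' : y' ∈ D k') : hform B σ ρ y y' = 0 := by
  rw [hform_of_mem hB σ ρ hy]
  apply Finset.sum_eq_zero
  intro j _
  have h1 : (ρ ⟨k, j⟩ : Σ _ : Fin t, Fin m) = ⟨(ρ ⟨k, j⟩).1, (ρ ⟨k, j⟩).2⟩ := rfl
  rw [h1, hB.repr_ne k' _ _ y' hy' (by rw [hρ]; exact hkk), map_zero, mul_zero]

include hB in
theorem eq_zero_of_repr {k : Fin t} {y : ι → F} (hy : y ∈ D k)
    (h0 : ∀ j, B.repr y ⟨k, j⟩ = 0) : y = 0 := by
  apply B.repr.injective
  rw [map_zero]
  ext ⟨i, j⟩
  rw [Finsupp.zero_apply]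
  by_cases hik : i = k
  · subst hik
    exact h0 j
  · exact hB.repr_ne k i j y hy hik

include hB in
theorem eq_of_repr {k : Fin t} {y y' : ι → F} (hy : y ∈ D k) (hy' : y' ∈ D k)
    (h0 : ∀ j, B.repr y ⟨k, j⟩ = B.repr y' ⟨k, j⟩) : y = y' := by
  have := eq_zero_of_repr hB (Submodule.sub_mem _ hy hy') (fun j => by
    rw [map_sub, Finsupp.sub_apply, h0, sub_self])
  exact sub_eq_zero.mp this

theorem mulVec_ne_zero (g : GL ι F) {y : ι → F} (hy : y ≠ 0) : (g : Matrix ι ι F) *ᵥ y ≠ 0 := by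
  intro h
  apply hy
  have := congrArg (fun z => ((g⁻¹ : GL ι F) : Matrix ι ι F) *ᵥ z) h
  simp only [Matrix.mulVec_mulVec, Units.inv_mul, Matrix.one_mulVec, Matrix.mulVec_zero] at this
  exact this

theorem mulVec_injective (g : GL ι F) {y y' : ι → F}
    (h : (g : Matrix ι ι F) *ᵥ y = (g : Matrix ι ι F) *ᵥ y') : y = y' := by
  have := congrArg (fun z => ((g⁻¹ : GL ι F) : Matrix ι ι F) *ᵥ z) h
  simp only [Matrix.mulVec_mulVec, Units.inv_mul, Matrix.one_mulVec] at this
  exact this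

end decomp

end Cfsg.Agent.H9Dec
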