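import Mathlib
import Cfsg.Prelude
import Cfsg.Agent.Lib.Helper9.DecompNM3

set_option autoImplicit false

namespace Cfsg.Agent.H9Dec

open Matrix Module

variable {F : Type*} [Field F] {ι : Type} [Fintype ι] [DecidableEq ι]

section one

variable {t : ℕ} {D : Fin t → Submodule F (ι → F)}
variable {B : Basis (Σ _ : Fin t, Fin 1) F (ι → F)} (hB : Adapted D B)
variable (σ : F →+* F) (hσ : ∀ c, σ (σ c) = c)

include hB hσ in
theorem stab_le_iso_one (hN : ∀ c : F, c ≠ 0 → c * σ c = 1) :
    Cfsg.Geo.decompositionStabilizer D ≤ Iso (hform B σ id) := by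
  rintro g ⟨π, hπ⟩
  apply (hform_sform B σ id hσ (fun _ => rfl)).mem_Iso_of_basis B
  rintro ⟨i, j⟩ ⟨i', j'⟩
  have hy := stab_apply_mem hπ (hB.mem i j)
  have hy' := stab_apply_mem hπ (hB.mem i' j')
  rw [hform_basis]
  by_cases hii : i = i'
  · subst hii
    obtain rfl : j = j' := Subsingleton.elim _ _
    rw [if_pos (show (⟨i, j⟩ : Σ _ : Fin t, Fin 1) = id ⟨i, j⟩ from rfl), hform_of_mem hB σ id hy,
      Fin.sum_univ_one]
    apply hN
    intro h0
    have := eq_zero_of_repr hB hy (fun j => by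
      obtain rfl : j = 0 := Subsingleton.elim _ _
      exact h0)
    exact mulVec_ne_zero g (B.ne_zero _) this
  · rw [if_neg (by
      intro h
      apply hii
      have := congrArg Sigma.fst h
      exact this.symm)]
    exact hform_of_mem_ne hB σ id (fun _ => rfl) (fun h => hii (π.injective h)) hy hy'

include hB hσ in
theorem exists_between_one (ht : 8 ≤ t) (h6 : (6 : F) = 0) :
    ∃ g₁ g₂ : GL ι F, g₁ ∈ Iso (hform B σ id) ∧ g₁ ∈ Cfsg.Geo.specialLinear ι F ∧
      g₁ ∉ Cfsg.Geo.decompositionStabilizer D ∧ g₂ ∈ Cfsg.Geo.specialLinear ι F ∧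
      g₂ ∉ Iso (hform B σ id) := by
  have hcard : Fintype.card (Σ _ : Fin t, Fin 1) = t := by
    simp
  obtain ⟨S, -, hS⟩ := Finset.exists_subset_card_eq
    (s := (Finset.univ : Finset (Σ _ : Fin t, Fin 1))) (n := 4) (by
      rw [Finset.card_univ, hcard]; omega)
  obtain ⟨S', hS'sub, hS'⟩ := Finset.exists_subset_card_eq
    (s := (Finset.univ : Finset (Σ _ : Fin t, Fin 1)) \ S) (n := 4) (by
      rw [Finset.card_sdiff_of_subset (Finset.subset_univ S), Finset.card_univ, hcard, hS]; omega)
  have hdisj : ∀ a ∈ S', a ∉ S := by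
    intro a ha
    exact (Finset.mem_sdiff.mp (hS'sub ha)).2
  obtain ⟨a₀, a₁, a₂, ha₀, ha₁, ha₂, h01, h02, h12⟩ := Finset.two_lt_card_iff.mp (by omega : 2 < S.card)
  have hf := hform_sform B σ id hσ (fun _ => rfl)
  have hvv : ∀ T : Finset (Σ _ : Fin t, Fin 1), T.card = 4 →
      hform B σ id (vS B T) (vS B T) = 4 := by
    intro T hT
    rw [hform_vS, Finset.filter_true_of_mem (s := T) (p := fun a => id a ∈ T) (fun a ha => ha), hT]
    norm_num
  have hv : ∀ T : Finset (Σ _ : Fin t, Fin 1), T.card = 4 →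
      2 + hform B σ id (vS B T) (vS B T) = 0 := by
    intro T hT
    rw [hvv T hT]
    linear_combination h6
  refine ⟨tauGL hf (vS B S) (hv S hS) * tauGL hf (vS B S') (hv S' hS'),
    eltGL B a₀ a₁ h01.symm, ?_, ?_, ?_, eltGL_mem B a₀ a₁ h01.symm, ?_⟩
  · exact Subgroup.mul_mem _ (tauGL_mem_Iso hf _ _) (tauGL_mem_Iso hf _ _)
  · rw [mem_specialLinear_iff, Units.val_mul, Matrix.det_mul, tauGL_val, tauGL_val, det_tau hf,
      det_tau hf, hvv S hS, hvv S' hS']
    linear_combination 4 * h6
  · have e1 : ((tauGL hf (vS B S) (hv S hS) * tauGL hf (vS B S') (hv S' hS') : GL ι F) :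
        Matrix ι ι F) *ᵥ B a₀ = B a₀ + vS B S := by
      rw [Units.val_mul, ← Matrix.mulVec_mulVec, tauGL_val, tauGL_val]
      have h1 : hform B σ id (B a₀) (vS B S') = 0 := by
        rw [← vS_singleton B a₀, hform_vS, Finset.filter_false_of_mem, Finset.card_empty,
          Nat.cast_zero]
        intro a ha
        rw [Finset.mem_singleton] at ha
        subst ha
        intro h
        exact hdisj _ h ha₀
      rw [tau_mulVec hf (vS B S'), h1, zero_smul, add_zero, tau_mulVec hf]
      have h2 : hform B σ id (B a₀) (vS B S) = 1 := by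
        rw [← vS_singleton B a₀, hform_vS, Finset.filter_true_of_mem, Finset.card_singleton,
          Nat.cast_one]
        intro a ha
        rw [Finset.mem_singleton] at ha
        subst ha
        exact ha₀
      rw [h2, one_smul]
    obtain ⟨i₀, j₀⟩ := a₀
    obtain ⟨i₁, j₁⟩ := a₁
    obtain ⟨i₂, j₂⟩ := a₂
    apply not_mem_stab hB _ (hB.mem i₀ j₀) (k := i₁) (k' := i₂) (l := j₁) (l' := j₂)
    · intro h
      subst h
      obtain rfl : j₁ = j₂ := Subsingleton.elim _ _
      exact h12 rfl
    · rw [e1, map_add, Finsupp.add_apply, Basis.repr_self, Finsupp.single_eq_of_ne h01.symm,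
        repr_vS, if_pos ha₁, zero_add]
      exact one_ne_zero
    · rw [e1, map_add, Finsupp.add_apply, Basis.repr_self, Finsupp.single_eq_of_ne h02.symm,
        repr_vS, if_pos ha₂, zero_add]
      exact one_ne_zero
  · intro hmem
    have h := hmem (B a₀) (B a₀)
    rw [eltGL_val, elt_mulVec, Basis.repr_self, Finsupp.single_eq_same, one_smul, ← vS_pair B h01,
      hform_vS, hform_basis, if_pos (show a₀ = id a₀ from rfl),
      Finset.filter_true_of_mem (s := {a₀, a₁}) (p := fun a => id a ∈ ({a₀, a₁} : Finset _))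
        (fun a ha => ha),
      Finset.card_pair h01] at h
    have : (1 : F) = 0 := by
      have h' : (2 : F) = 1 := by exact_mod_cast h
      linear_combination h'
    exact one_ne_zero this

end one

end Cfsg.Agent.H9Dec
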