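import Mathlib
import Cfsg.Prelude
import Cfsg.Agent.Lib.Helper9.DecompNM3
import Cfsg.Agent.Lib.Helper9.TensF2a

set_option autoImplicit false

namespace Cfsg.Agent.H9Dec

open Matrix Module

variable {F : Type*} [Field F] [Fintype F] {ι : Type} [Fintype ι] [DecidableEq ι]

section two

variable {t : ℕ} {D : Fin t → Submodule F (ι → F)}
variable {B : Basis (Σ _ : Fin t, Fin 2) F (ι → F)} (hB : Adapted D B)

/-- swapping the two members of each block -/
def swp (c : Σ _ : Fin t, Fin 2) : Σ _ : Fin t, Fin 2 := ⟨c.1, Fin.rev c.2⟩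

theorem swp_swp (c : Σ _ : Fin t, Fin 2) : swp (swp c) = c := by
  obtain ⟨i, j⟩ := c
  unfold swp
  simp

theorem swp_zero (k : Fin t) : swp (⟨k, 0⟩ : Σ _ : Fin t, Fin 2) = ⟨k, 1⟩ := rfl

theorem swp_one (k : Fin t) : swp (⟨k, 1⟩ : Σ _ : Fin t, Fin 2) = ⟨k, 0⟩ := rfl

theorem f2_key (hq : Fintype.card F = 2) (p r s u : F) (h1 : ¬ (p = 0 ∧ r = 0))
    (h2 : ¬ (s = 0 ∧ u = 0)) (h3 : ¬ (p = s ∧ r = u)) : p * u + r * s = 1 := by
  rcases H9TF2.eq_zero_or_one hq p with rfl | rfl <;>
  rcases H9TF2.eq_zero_or_one hq r with rfl | rfl <;>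
  rcases H9TF2.eq_zero_or_one hq s with rfl | rfl <;>
  rcases H9TF2.eq_zero_or_one hq u with rfl | rfl <;>
  simp at h1 h2 h3 ⊢

include hB in
theorem stab_le_iso_two (hq : Fintype.card F = 2) :
    Cfsg.Geo.decompositionStabilizer D ≤ Iso (hform B (RingHom.id F) swp) := by
  rintro g ⟨π, hπ⟩
  apply (hform_sform B (RingHom.id F) swp (fun _ => rfl) swp_swp).mem_Iso_of_basis B
  rintro ⟨i, j⟩ ⟨i', j'⟩
  have hy := stab_apply_mem hπ (hB.mem i j)
  have hy' := stab_apply_mem hπ (hB.mem i' j')
  rw [hform_basis]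
  by_cases hii : i = i'
  · subst hii
    rw [hform_of_mem hB _ swp hy, Fin.sum_univ_two, swp_zero, swp_one, RingHom.id_apply,
      RingHom.id_apply]
    by_cases hjj : j = j'
    · subst hjj
      rw [if_neg]
      · have h20 := H9TF2.two_eq_zero hq
        linear_combination (B.repr ((g : Matrix ι ι F) *ᵥ B ⟨i, j⟩) ⟨π i, 0⟩ *
          B.repr ((g : Matrix ι ι F) *ᵥ B ⟨i, j⟩) ⟨π i, 1⟩) * h20
      · intro h
        unfold swp at h
        have h2 := eq_of_heq (Sigma.mk.inj h).2
        revert h2
        fin_cases j <;> simp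
    · rw [if_pos]
      · apply f2_key hq
        · rintro ⟨h1, h2⟩
          have := eq_zero_of_repr hB hy (fun l => by fin_cases l <;> assumption)
          exact mulVec_ne_zero g (B.ne_zero _) this
        · rintro ⟨h1, h2⟩
          have := eq_zero_of_repr hB hy' (fun l => by fin_cases l <;> assumption)
          exact mulVec_ne_zero g (B.ne_zero _) this
        · rintro ⟨h1, h2⟩
          have := eq_of_repr hB hy hy' (fun l => by fin_cases l <;> assumption)
          have h3 := B.injective (mulVec_injective g this)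
          exact hjj (eq_of_heq (Sigma.mk.inj h3).2)
      · unfold swp
        congr 1
        revert hjj
        fin_cases j <;> fin_cases j' <;> simp
  · rw [if_neg (by
      intro h
      apply hii
      have := congrArg Sigma.fst h
      exact this.symm)]
    exact hform_of_mem_ne hB _ swp (fun _ => rfl) (fun h => hii (π.injective h)) hy hy'

end two

end Cfsg.Agent.H9Dec
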