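import Mathlib
import Cfsg.Prelude
import Cfsg.Agent.Lib.Helper9.DecompNM5

set_option autoImplicit false

namespace Cfsg.Agent.H9Dec

open Matrix Module

variable {F : Type*} [Field F] [Fintype F] {ι : Type} [Fintype ι] [DecidableEq ι]

section two

variable {t : ℕ} {D : Fin t → Submodule F (ι → F)}
variable {B : Basis (Σ _ : Fin t, Fin 2) F (ι → F)} (hB : Adapted D B)

include hB in
theorem exists_between_two (hq : Fintype.card F = 2) (ht : 2 ≤ t) :
    ∃ g₁ g₂ : GL ι F, g₁ ∈ Iso (hform B (RingHom.id F) swp) ∧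
      g₁ ∈ Cfsg.Geo.specialLinear ι F ∧
      g₁ ∉ Cfsg.Geo.decompositionStabilizer D ∧ g₂ ∈ Cfsg.Geo.specialLinear ι F ∧
      g₂ ∉ Iso (hform B (RingHom.id F) swp) := by
  have h20 := H9TF2.two_eq_zero hq
  obtain ⟨i₀, i₁, hne⟩ : ∃ i₀ i₁ : Fin t, i₀ ≠ i₁ :=
    ⟨⟨0, by omega⟩, ⟨1, by omega⟩, by
      intro h
      have := congrArg Fin.val h
      simp at this⟩
  obtain ⟨a, ha⟩ : ∃ a : Σ _ : Fin t, Fin 2, a = ⟨i₀, 0⟩ := ⟨_, rfl⟩
  obtain ⟨b, hb⟩ : ∃ b : Σ _ : Fin t, Fin 2, b = ⟨i₁, 0⟩ := ⟨_, rfl⟩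
  obtain ⟨u, hu⟩ : ∃ u : Σ _ : Fin t, Fin 2, u = ⟨i₀, 1⟩ := ⟨_, rfl⟩
  obtain ⟨c, hc⟩ : ∃ c : Σ _ : Fin t, Fin 2, c = ⟨i₁, 1⟩ := ⟨_, rfl⟩
  have hab : a ≠ b := by
    rw [ha, hb]
    intro h
    exact hne (congrArg Sigma.fst h)
  have hua : u ≠ a := by
    rw [ha, hu]
    intro h
    have := eq_of_heq (Sigma.mk.inj h).2
    simp at this
  have hub : u ≠ b := by
    rw [hb, hu]
    intro h
    exact hne (congrArg Sigma.fst h)
  have hca : c ≠ a := by
    rw [ha, hc]
    intro h
    exact hne (congrArg Sigma.fst h).symm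
  have hsa : swp a = u := by rw [ha, hu]; rfl
  have hsb : swp b = c := by rw [hb, hc]; rfl
  have hsu : swp u = a := by rw [ha, hu]; rfl
  have hcu : c ≠ u := by
    rw [hc, hu]
    intro h
    exact hne (congrArg Sigma.fst h).symm
  have hf := hform_sform B (RingHom.id F) (swp (t := t)) (fun _ => rfl) swp_swp
  have hvv : hform B (RingHom.id F) swp (B a + B b) (B a + B b) = 0 := by
    rw [hf.add_left, hf.add_right, hf.add_right, hform_basis, hform_basis, hform_basis,
      hform_basis, hsa, hsb, if_neg hua.symm, if_neg (fun h => hub h.symm),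
      if_neg (fun h => hca h.symm), if_neg]
    · ring
    · intro h
      rw [hb, hc] at h
      have := eq_of_heq (Sigma.mk.inj h).2
      simp at this
  have hv : 2 + hform B (RingHom.id F) swp (B a + B b) (B a + B b) = 0 := by
    rw [hvv]
    linear_combination h20
  refine ⟨tauGL hf (B a + B b) hv, eltGL B a b hab.symm, tauGL_mem_Iso hf _ _, ?_, ?_,
    eltGL_mem B a b hab.symm, ?_⟩
  · rw [H9TF2.specialLinear_eq_top hq]
    exact Subgroup.mem_top _
  · have e1 : ((tauGL hf (B a + B b) hv : GL ι F) : Matrix ι ι F) *ᵥ B u = B u + (B a + B b) := by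
      rw [tauGL_val, tau_mulVec hf, hf.add_right, hform_basis, hform_basis, hsu, if_pos rfl,
        if_neg (fun h => hab h.symm), add_zero, one_smul]
    have hmem : B u ∈ D i₀ := by
      rw [hu]
      exact hB.mem i₀ 1
    apply not_mem_stab hB _ hmem (k := i₀) (k' := i₁) (l := 1) (l' := 0) hne
    · rw [e1, ← hu, map_add, map_add, Finsupp.add_apply, Finsupp.add_apply, Basis.repr_self,
        Basis.repr_self, Basis.repr_self, Finsupp.single_eq_same,
        Finsupp.single_eq_of_ne hua, Finsupp.single_eq_of_ne hub, add_zero, add_zero]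
      exact one_ne_zero
    · rw [e1, ← hb, map_add, map_add, Finsupp.add_apply, Finsupp.add_apply, Basis.repr_self,
        Basis.repr_self, Basis.repr_self, Finsupp.single_eq_same,
        Finsupp.single_eq_of_ne hub.symm, Finsupp.single_eq_of_ne hab.symm, zero_add, zero_add]
      exact one_ne_zero
  · intro hmem
    have h := hmem (B a) (B c)
    rw [eltGL_val, elt_mulVec, elt_mulVec, Basis.repr_self, Basis.repr_self,
      Finsupp.single_eq_same, Finsupp.single_eq_of_ne hca.symm, one_smul, zero_smul, add_zero,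
      hf.add_left, hform_basis, hform_basis, hsa, hsb, if_neg hcu, if_pos rfl, zero_add] at h
    exact one_ne_zero h

end two

end Cfsg.Agent.H9Dec
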