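import Mathlib
import Cfsg.Prelude.Def_FusionSystem
import Cfsg.Agent.Lib.Helper9.FusionBasic
import Cfsg.Agent.Lib.Helper9.FusionSup

set_option autoImplicit false

namespace Cfsg.Agent.Lib.Helper9

open Cfsg Cfsg.FusionSystem

variable {Ω : Type*} [Group Ω] {S T : Subgroup Ω}

/-- The image `α(P ∩ T)` of a subgroup under an automorphism of `T`. -/
def imgT (α : MulAut T) (P : Subgroup Ω) : Subgroup Ω :=
  (P.subgroupOf T).map (T.subtype.comp α.toMonoidHom)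

theorem mem_imgT_iff (α : MulAut T) (P : Subgroup Ω) (y : Ω) :
    y ∈ imgT α P ↔ ∃ x : T, (x : Ω) ∈ P ∧ ((α x : T) : Ω) = y := by
  constructor
  · rintro ⟨x, hx, rfl⟩
    exact ⟨x, hx, rfl⟩
  · rintro ⟨x, hx, rfl⟩
    exact ⟨x, hx, rfl⟩

theorem imgT_le (α : MulAut T) (P : Subgroup Ω) : imgT α P ≤ T := by
  rintro _ ⟨x, -, rfl⟩
  exact (α x).2

theorem apply_mem_imgT (α : MulAut T) {P : Subgroup Ω} {x : T} (hx : (x : Ω) ∈ P) :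
    ((α x : T) : Ω) ∈ imgT α P := ⟨x, hx, rfl⟩

theorem imgT_mono (α : MulAut T) {P P' : Subgroup Ω} (h : P ≤ P') : imgT α P ≤ imgT α P' := by
  rintro _ ⟨x, hx, rfl⟩
  exact ⟨x, h hx, rfl⟩

theorem imgT_inv_imgT (α : MulAut T) {P : Subgroup Ω} (hP : P ≤ T) : imgT α (imgT α⁻¹ P) = P := by
  ext y
  rw [mem_imgT_iff]
  constructor
  · rintro ⟨x, hx, rfl⟩
    rw [mem_imgT_iff] at hx
    obtain ⟨x', hx', hxx'⟩ := hx
    have : α⁻¹ x' = x := Subtype.ext hxx'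
    rw [← this, MulAut.apply_inv_self]
    exact hx'
  · intro hy
    refine ⟨α⁻¹ ⟨y, hP hy⟩, apply_mem_imgT α⁻¹ hy, ?_⟩
    rw [MulAut.apply_inv_self]

theorem imgT_imgT_inv (α : MulAut T) {P : Subgroup Ω} (hP : P ≤ T) : imgT α⁻¹ (imgT α P) = P := by
  have := imgT_inv_imgT α⁻¹ hP
  rwa [inv_inv] at this

theorem imgT_sup (α : MulAut T) {P R : Subgroup Ω} (hP : P ≤ T) (hR : R ≤ T) :
    imgT α (P ⊔ R) = imgT α P ⊔ imgT α R := by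
  unfold imgT
  rw [Subgroup.subgroupOf_sup hP hR, Subgroup.map_sup]

/-- Transport of a map along an equality of its source. -/
theorem hom_cast (E : FusionSystem T) {A B : Subgroup Ω} (h : A = B) {χ : A →* Ω} (hχ : χ ∈ E.Hom A) :
    ∃ χ' ∈ E.Hom B, ∀ (x : Ω) (hxA : x ∈ A) (hxB : x ∈ B), χ' ⟨x, hxB⟩ = χ ⟨x, hxA⟩ := by
  subst h
  exact ⟨χ, hχ, fun _ _ _ => rfl⟩

/-- The invariance condition, in a convenient form. -/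
theorem invariant_transport (E : FusionSystem T) (F : FusionSystem S) (hinv : E.IsInvariantIn F)
    {P : Subgroup Ω} {φ : P →* Ω} (hφ : φ ∈ E.Hom P) {α : MulAut T} (hα : α ∈ F.autGroup T) :
    ∃ χ ∈ E.Hom (imgT α P), ∀ (x : P) (hxT : (x : Ω) ∈ T) (hφx : φ x ∈ T)
      (hαx : ((α ⟨x, hxT⟩ : T) : Ω) ∈ imgT α P), χ ⟨(α ⟨x, hxT⟩ : T), hαx⟩ = ((α ⟨φ x, hφx⟩ : T) : Ω) := by
  obtain ⟨hPT, -⟩ := E.le_of_mem hφ
  obtain ⟨χ, hχ, H⟩ := hinv.2.2.1 P hPT φ hφ α hα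
  exact ⟨χ, hχ, fun x hxT hφx hαx => H x hφx hαx⟩

/-- The image under `α ∈ Aut_F(T)` of a subgroup normal in the invariant subsystem `E` is normal in `E`. -/
theorem isNormal_imgT (E : FusionSystem T) (F : FusionSystem S) (hinv : E.IsInvariantIn F)
    {R : Subgroup Ω} (hR : E.IsNormal R) {α : MulAut T} (hα : α ∈ F.autGroup T) :
    E.IsNormal (imgT α R) := by
  have hRT : R ≤ T := hR.1
  refine ⟨imgT_le α R, fun P φ hφ => ?_⟩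
  obtain ⟨hPT, hφT⟩ := E.le_of_mem hφ
  have hα' : α⁻¹ ∈ F.autGroup T := Subgroup.inv_mem _ hα
  obtain ⟨χ, hχ, Hχ⟩ := invariant_transport E F hinv hφ hα'
  obtain ⟨ψ, hψ, hψP, hψR⟩ := hR.2 _ χ hχ
  obtain ⟨χ', hχ', Hχ'⟩ := invariant_transport E F hinv hψ hα
  have hN : imgT α (imgT α⁻¹ P ⊔ R) = P ⊔ imgT α R := by
    rw [imgT_sup α (imgT_le α⁻¹ P) hRT, imgT_inv_imgT α hPT]
  obtain ⟨ψ', hψ', Hψ'⟩ := hom_cast E hN hχ'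
  obtain ⟨hNT, hψT⟩ := E.le_of_mem hψ
  -- the key formula
  have key : ∀ (y : ↥(imgT α⁻¹ P ⊔ R)) (h1 : ((α ⟨y, hNT y.2⟩ : T) : Ω) ∈ P ⊔ imgT α R),
      ψ' ⟨(α ⟨y, hNT y.2⟩ : T), h1⟩ = ((α ⟨ψ y, hψT y⟩ : T) : Ω) := by
    intro y h1
    have h2 : ((α ⟨y, hNT y.2⟩ : T) : Ω) ∈ imgT α (imgT α⁻¹ P ⊔ R) := by rw [hN]; exact h1
    rw [Hψ' _ h2 h1]
    exact Hχ' y (hNT y.2) (hψT y) h2
  refine ⟨ψ', hψ', fun x => ?_, ?_⟩
  · -- `ψ'` extends `φ`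
    have hx1 : ((α⁻¹ ⟨x, hPT x.2⟩ : T) : Ω) ∈ imgT α⁻¹ P := apply_mem_imgT α⁻¹ x.2
    have h3 := key ⟨_, le_sup_left (a := imgT α⁻¹ P) (b := R) hx1⟩
    have h4 : (⟨((⟨(α⁻¹ ⟨x, hPT x.2⟩ : T), le_sup_left (a := imgT α⁻¹ P) (b := R) hx1⟩ :
        ↥(imgT α⁻¹ P ⊔ R)) : Ω), hNT (le_sup_left (a := imgT α⁻¹ P) (b := R) hx1)⟩ : T) = α⁻¹ ⟨x, hPT x.2⟩ := rfl
    rw [h4] at h3
    have h5 : α (α⁻¹ ⟨x, hPT x.2⟩) = ⟨x, hPT x.2⟩ := MulAut.apply_inv_self _ _ _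
    have h6 : (Subgroup.inclusion le_sup_left x : ↥(P ⊔ imgT α R)) =
        ⟨((α (α⁻¹ ⟨x, hPT x.2⟩) : T) : Ω), by rw [h5]; exact le_sup_left (a := P) x.2⟩ := by
      apply Subtype.ext
      show (x : Ω) = ((α (α⁻¹ ⟨x, hPT x.2⟩) : T) : Ω)
      rw [h5]
    rw [h6, h3 _]
    have h7 : ψ ⟨(α⁻¹ ⟨x, hPT x.2⟩ : T), le_sup_left (a := imgT α⁻¹ P) (b := R) hx1⟩ =
        ψ (Subgroup.inclusion le_sup_left ⟨(α⁻¹ ⟨x, hPT x.2⟩ : T), hx1⟩) := rfl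
    have h8 := Hχ x (hPT x.2) (hφT x) hx1
    have h9 : (⟨ψ ⟨(α⁻¹ ⟨x, hPT x.2⟩ : T), le_sup_left (a := imgT α⁻¹ P) (b := R) hx1⟩, hψT _⟩ : T) =
        α⁻¹ ⟨φ x, hφT x⟩ := by
      apply Subtype.ext
      show ψ ⟨(α⁻¹ ⟨x, hPT x.2⟩ : T), _⟩ = _
      rw [h7, hψP, h8]
    rw [h9, MulAut.apply_inv_self]
  · -- `ψ'` maps `α(R)` onto itself
    ext z
    constructor
    · rintro ⟨w, hw, rfl⟩
      have hw' : (w : Ω) ∈ imgT α R := hw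
      obtain ⟨r, hr, hrw⟩ := (mem_imgT_iff α R _).mp hw'
      have h3 := key ⟨r, le_sup_right (a := imgT α⁻¹ P) (b := R) hr⟩
      have h4 : w = ⟨((α ⟨((⟨r, le_sup_right (a := imgT α⁻¹ P) (b := R) hr⟩ : ↥(imgT α⁻¹ P ⊔ R)) : Ω),
          hNT (le_sup_right (a := imgT α⁻¹ P) (b := R) hr)⟩ : T) : Ω), by
            show ((α r : T) : Ω) ∈ P ⊔ imgT α R
            rw [hrw]; exact w.2⟩ := Subtype.ext hrw.symm
      rw [h4, h3 _]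
      apply apply_mem_imgT
      have : ψ ⟨r, le_sup_right (a := imgT α⁻¹ P) (b := R) hr⟩ ∈ (R.subgroupOf (imgT α⁻¹ P ⊔ R)).map ψ :=
        ⟨_, hr, rfl⟩
      exact (le_of_eq hψR) this
    · intro hz
      obtain ⟨r, hr, rfl⟩ := (mem_imgT_iff α R z).mp hz
      have hr' : (r : Ω) ∈ (R.subgroupOf (imgT α⁻¹ P ⊔ R)).map ψ := (le_of_eq hψR.symm) hr
      obtain ⟨y, hy, hyr⟩ := hr'
      have hyR : (y : Ω) ∈ R := hy
      have h3 := key y (by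
        have : ((α ⟨y, hNT y.2⟩ : T) : Ω) ∈ imgT α R := apply_mem_imgT α hyR
        exact le_sup_right (a := P) this)
      refine ⟨⟨((α ⟨y, hNT y.2⟩ : T) : Ω), ?_⟩, ?_, ?_⟩
      · exact le_sup_right (a := P) (apply_mem_imgT α hyR)
      · show ((α ⟨y, hNT y.2⟩ : T) : Ω) ∈ imgT α R
        exact apply_mem_imgT α hyR
      · rw [h3]
        congr 2
        exact Subtype.ext hyr

end Cfsg.Agent.Lib.Helper9
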