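import Mathlib
import Cfsg.Prelude.Def_FusionSystem
import Cfsg.Agent.Lib.Helper9.DirProd1
import Cfsg.Agent.Lib.Helper9.InvTransport1
import Cfsg.Agent.Lib.Helper9.FusionSup
import Cfsg.Agent.Lib.Helper9.FusionStrongly
import Cfsg.Agent.Lib.Helper9.FusionSat3
import Cfsg.Agent.Lib.Helper9.FusionNormal6
import Cfsg.Agent.Lib.Helper9.FusionNormal7

set_option autoImplicit false

/-! Conjugating maps of a fusion system, and extending maps across a strongly closed direct factor. -/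

namespace Cfsg.Agent.Lib.Helper9.H9DirProd

open Cfsg Cfsg.FusionSystem Cfsg.Agent.Lib.Helper9

variable {Ω : Type*} [Group Ω] {S : Subgroup Ω}

/-- The transport `ψ θ ψ⁻¹` of a map `θ` of the system by a map `ψ` of the system is a map of the system. -/
theorem fs_conj_map (F : FusionSystem S) {U V : Subgroup Ω} (hUV : U ≤ V) {θ : U →* Ω} (hθ : θ ∈ F.Hom U)
    (hθV : ∀ x : U, θ x ∈ V) {ψ : V →* Ω} (hψ : ψ ∈ F.Hom V) :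
    ∃ χ ∈ F.Hom ((U.subgroupOf V).map ψ),
      ∀ (x : U) (hx : ψ (Subgroup.inclusion hUV x) ∈ (U.subgroupOf V).map ψ),
        χ ⟨ψ (Subgroup.inclusion hUV x), hx⟩ = ψ ⟨θ x, hθV x⟩ := by
  obtain ⟨ψU, hψUdef⟩ : ∃ ψU : U →* Ω, ψU = ψ.comp (Subgroup.inclusion hUV) := ⟨_, rfl⟩
  have hψU : ψU ∈ F.Hom U := by rw [hψUdef]; exact fs_restrict_mem F hψ hUV
  have hψUx : ∀ x : U, ψU x = ψ (Subgroup.inclusion hUV x) := fun x => by rw [hψUdef]; rfl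
  have hrange : ψU.range = (U.subgroupOf V).map ψ := by
    ext y
    constructor
    · rintro ⟨x, rfl⟩
      rw [hψUx]
      exact ⟨Subgroup.inclusion hUV x, x.2, rfl⟩
    · rintro ⟨v, hv, rfl⟩
      have hvU : (v : Ω) ∈ U := hv
      refine ⟨⟨v, hvU⟩, ?_⟩
      rw [hψUx]
      rfl
  obtain ⟨ι, hι, Hι⟩ := F.inv_mem hψU
  have hιU : ∀ y : ψU.range, ι y ∈ U := by
    rintro ⟨_, x, rfl⟩
    rw [Hι x]
    exact x.2
  have h1 := F.comp_mem hι hθ hιU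
  have h1V : ∀ y : ψU.range, (θ.comp (ι.codRestrict U hιU)) y ∈ V := fun y => hθV _
  have h2 := F.comp_mem h1 hψ h1V
  obtain ⟨χ, hχ, Hχ⟩ := hom_cast F hrange h2
  refine ⟨χ, hχ, fun x hx => ?_⟩
  have hx' : ψ (Subgroup.inclusion hUV x) ∈ ψU.range := ⟨x, hψUx x⟩
  rw [Hχ _ hx' hx]
  show ψ ⟨θ ((ι.codRestrict U hιU) ⟨ψ (Subgroup.inclusion hUV x), hx'⟩), _⟩ = ψ ⟨θ x, hθV x⟩
  have h3 : (ι.codRestrict U hιU) ⟨ψ (Subgroup.inclusion hUV x), hx'⟩ = x := by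
    apply Subtype.ext
    show ι ⟨ψ (Subgroup.inclusion hUV x), hx'⟩ = (x : Ω)
    have := Hι x
    have h4 : (⟨ψ (Subgroup.inclusion hUV x), hx'⟩ : ψU.range) = ⟨ψU x, ⟨x, rfl⟩⟩ :=
      Subtype.ext (hψUx x).symm
    rw [h4]
    exact this
  congr 1
  apply Subtype.ext
  show θ ((ι.codRestrict U hιU) ⟨ψ (Subgroup.inclusion hUV x), hx'⟩) = θ x
  rw [h3]

/-- A map of the system defined on an overgroup of the strongly closed `T` maps `T` onto `T`. -/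
theorem fs_stronglyClosed_surj [Finite S] (F : FusionSystem S) {T : Subgroup Ω} (hT : F.StronglyClosed T)
    {U : Subgroup Ω} {φ : U →* Ω} (hφ : φ ∈ F.Hom U) (hTU : T ≤ U) {t : Ω} (ht : t ∈ T) :
    ∃ t' : U, (t' : Ω) ∈ T ∧ φ t' = t := by
  have hTfin : Finite T := fs_finite_of_le hT.1
  obtain ⟨f, hfdef⟩ : ∃ f : T → T, f = fun s => ⟨φ ⟨s, hTU s.2⟩, fs_stronglyClosed_mem F hT hφ ⟨s, hTU s.2⟩ s.2⟩ :=
    ⟨_, rfl⟩
  have hfinj : Function.Injective f := by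
    intro a b hab
    rw [hfdef] at hab
    have h1 : φ ⟨a, hTU a.2⟩ = φ ⟨b, hTU b.2⟩ := congrArg Subtype.val hab
    have h2 := F.injective_of_mem hφ h1
    exact Subtype.ext (congrArg (fun z : U => (z : Ω)) h2)
  have hfsurj : Function.Surjective f := Finite.injective_iff_surjective.mp hfinj
  obtain ⟨s, hs⟩ := hfsurj ⟨t, ht⟩
  refine ⟨⟨s, hTU s.2⟩, s.2, ?_⟩
  rw [hfdef] at hs
  exact congrArg Subtype.val hs

theorem exists_extend_across [Finite S] (p : ℕ) [Fact p.Prime] (hS : IsPGroup p S) (F : FusionSystem S)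
    (hF : F.IsSaturated p) (S₁ S₂ : Subgroup Ω) (hcomm : ∀ a ∈ S₁, ∀ b ∈ S₂, a * b = b * a)
    (h₁ : F.StronglyClosed S₁) (h₂ : F.StronglyClosed S₂) {Q : Subgroup Ω} (hQ : Q ≤ S₁)
    {ψ : Q →* Ω} (hψ : ψ ∈ F.Hom Q) :
    ∃ ψ' ∈ F.Hom (Q ⊔ S₂), ∀ x : Q, ψ' (Subgroup.inclusion le_sup_left x) = ψ x := by
  have h₂S : S₂ ≤ S := h₂.1
  have hQS : Q ≤ S := hQ.trans h₁.1
  have hQ'S₁ : ψ.range ≤ S₁ := by
    rintro _ ⟨x, rfl⟩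
    exact h₁.2 Q hQ ψ hψ x
  have hQ'S : ψ.range ≤ S := hQ'S₁.trans h₁.1
  -- S₂ centralizes subgroups of S₁
  have hS₂C : ∀ Q₀ : Subgroup Ω, Q₀ ≤ S₁ → S₂ ≤ centralizerIn S Q₀ := by
    intro Q₀ hQ₀ b hb
    refine ⟨h₂S hb, ?_⟩
    show b ∈ Subgroup.centralizer (Q₀ : Set Ω)
    rw [Subgroup.mem_centralizer_iff]
    intro x hx
    exact hcomm x (hQ₀ hx) b hb
  -- a receptive conjugate
  obtain ⟨Qs, hconj, -, hQr⟩ := hF ψ.range hQ'S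
  obtain ⟨ρ, hρ, hρr⟩ := hconj
  have hψQ' : ∀ x : Q, ψ x ∈ ψ.range := fun x => ⟨x, rfl⟩
  obtain ⟨ψ₁, hψ₁def⟩ : ∃ ψ₁ : Q →* Ω, ψ₁ = ρ.comp (ψ.codRestrict ψ.range hψQ') := ⟨_, rfl⟩
  have hψ₁ : ψ₁ ∈ F.Hom Q := by rw [hψ₁def]; exact F.comp_mem hψ hρ hψQ'
  have hψ₁x : ∀ x : Q, ψ₁ x = ρ ⟨ψ x, hψQ' x⟩ := fun x => by rw [hψ₁def]; rfl
  have hψ₁r : ψ₁.range = Qs := by
    rw [← hρr]
    ext y
    constructor
    · rintro ⟨x, rfl⟩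
      rw [hψ₁x]
      exact ⟨_, rfl⟩
    · rintro ⟨⟨_, x, rfl⟩, rfl⟩
      exact ⟨x, hψ₁x x⟩
  obtain ⟨χ₁, hχ₁, hQN₁, hCN₁, Hχ₁, -⟩ := fs_receptive_extend F hQr hψ₁ hψ₁r
  obtain ⟨χ₂, hχ₂, hQN₂, hCN₂, Hχ₂, -⟩ := fs_receptive_extend F hQr hρ hρr
  have hle₁ : Q ⊔ S₂ ≤ extender S Q ψ₁ := sup_le hQN₁ ((hS₂C Q hQ).trans hCN₁)
  have hle₂ : ψ.range ⊔ S₂ ≤ extender S ψ.range ρ := sup_le hQN₂ ((hS₂C ψ.range hQ'S₁).trans hCN₂)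
  have hχ₁' := fs_restrict_mem F hχ₁ hle₁
  have hχ₂' := fs_restrict_mem F hχ₂ hle₂
  -- the image of χ₁' lies in the image of χ₂'
  have himg : ∀ y : ↥(Q ⊔ S₂), (χ₁.comp (Subgroup.inclusion hle₁)) y ∈ (χ₂.comp (Subgroup.inclusion hle₂)).range := by
    apply sup_forall_mem
    · intro x
      refine ⟨⟨ψ x, Subgroup.mem_sup_left (hψQ' x)⟩, ?_⟩
      show χ₂ ⟨ψ x, _⟩ = χ₁ ⟨(x : Ω), _⟩
      rw [Hχ₁ x, hψ₁x, ← Hχ₂ ⟨ψ x, hψQ' x⟩]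
    · intro s
      have h1 : (χ₁.comp (Subgroup.inclusion hle₁)) (Subgroup.inclusion le_sup_right s) ∈ S₂ :=
        fs_stronglyClosed_mem F h₂ hχ₁' _ s.2
      obtain ⟨t', -, ht'⟩ := fs_stronglyClosed_surj F h₂ hχ₂' le_sup_right h1
      exact ⟨t', ht'⟩
  obtain ⟨ι, hι, Hι⟩ := F.inv_mem hχ₂'
  refine ⟨ι.comp ((χ₁.comp (Subgroup.inclusion hle₁)).codRestrict _ himg), F.comp_mem hχ₁' hι himg, ?_⟩
  intro x
  have h1 : (χ₁.comp (Subgroup.inclusion hle₁)) (Subgroup.inclusion le_sup_left x) =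
      (χ₂.comp (Subgroup.inclusion hle₂)) ⟨ψ x, Subgroup.mem_sup_left (hψQ' x)⟩ := by
    show χ₁ ⟨(x : Ω), _⟩ = χ₂ ⟨ψ x, _⟩
    rw [Hχ₁ x, hψ₁x, ← Hχ₂ ⟨ψ x, hψQ' x⟩]
  have h2 := Hι ⟨ψ x, Subgroup.mem_sup_left (hψQ' x)⟩
  have e : ((χ₁.comp (Subgroup.inclusion hle₁)).codRestrict _ himg) (Subgroup.inclusion le_sup_left x) =
      ⟨(χ₂.comp (Subgroup.inclusion hle₂)) ⟨ψ x, Subgroup.mem_sup_left (hψQ' x)⟩, ⟨_, rfl⟩⟩ :=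
    Subtype.ext h1
  show ι (((χ₁.comp (Subgroup.inclusion hle₁)).codRestrict _ himg) (Subgroup.inclusion le_sup_left x)) = ψ x
  rw [e]
  exact h2

end Cfsg.Agent.Lib.Helper9.H9DirProd
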