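import Mathlib
import Cfsg.Prelude.Def_FusionSystem
import Cfsg.Agent.Lib.Helper9.DirProd2

set_option autoImplicit false

/-! Strong invariance of the centralizer-type subsystem on a direct factor. -/

namespace Cfsg.Agent.Lib.Helper9.H9DirProd

open Cfsg Cfsg.FusionSystem Cfsg.Agent.Lib.Helper9

variable {Ω : Type*} [Group Ω] {S : Subgroup Ω}

theorem centHom_strongInv [Finite S] (p : ℕ) [Fact p.Prime] (hS : IsPGroup p S) (F : FusionSystem S)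
    (hF : F.IsSaturated p) (S₁ S₂ : Subgroup Ω) (hcomm : ∀ a ∈ S₁, ∀ b ∈ S₂, a * b = b * a)
    (h₁ : F.StronglyClosed S₁) (h₂ : F.StronglyClosed S₂) (R' : FusionSystem S₁)
    (hR' : ∀ P : Subgroup Ω, P ≤ S₁ → R'.Hom P = F.centralizerHom S₂ P) :
    ∀ (P Q : Subgroup Ω) (hPQ : P ≤ Q) (_ : Q ≤ S₁) (φ : P →* Ω) (_ : φ ∈ R'.Hom P) (hφQ : ∀ x : P, φ x ∈ Q)
      (ψ : Q →* Ω) (_ : ψ ∈ F.Hom Q), ∃ χ ∈ R'.Hom ((P.subgroupOf Q).map ψ),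
        ∀ (x : P) (hx : ψ (Subgroup.inclusion hPQ x) ∈ (P.subgroupOf Q).map ψ),
          χ ⟨ψ (Subgroup.inclusion hPQ x), hx⟩ = ψ ⟨φ x, hφQ x⟩ := by
  intro P Q hPQ hQ φ hφ hφQ ψ hψ
  have h₁S : S₁ ≤ S := h₁.1
  have h₂S : S₂ ≤ S := h₂.1
  have hP : P ≤ S₁ := hPQ.trans hQ
  rw [hR' P hP] at hφ
  obtain ⟨hφF, -, -, φ', hφ', Hφ'P, Hφ'S₂⟩ := hφ
  obtain ⟨ψ', hψ', Hψ'⟩ := exists_extend_across p hS F hF S₁ S₂ hcomm h₁ h₂ hQ hψ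
  have hUV : P ⊔ S₂ ≤ Q ⊔ S₂ := sup_le_sup_right hPQ S₂
  have hθV : ∀ y : ↥(P ⊔ S₂), φ' y ∈ Q ⊔ S₂ := by
    apply sup_forall_mem
    · intro x
      rw [Hφ'P]
      exact Subgroup.mem_sup_left (hφQ x)
    · intro s
      rw [Hφ'S₂]
      exact Subgroup.mem_sup_right s.2
  obtain ⟨χ', hχ', Hχ'⟩ := fs_conj_map F hUV hφ' hθV hψ'
  -- the source of χ'
  have hψ'Q : ∀ (v : Ω) (hv : v ∈ Q), ψ' ⟨v, Subgroup.mem_sup_left hv⟩ = ψ ⟨v, hv⟩ := fun v hv => Hψ' ⟨v, hv⟩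
  have hψ'S₂ : ∀ (s : Ω) (hs : s ∈ S₂), ψ' ⟨s, Subgroup.mem_sup_right hs⟩ ∈ S₂ :=
    fun s hs => fs_stronglyClosed_mem F h₂ hψ' _ hs
  have hW : ((P ⊔ S₂).subgroupOf (Q ⊔ S₂)).map ψ' = (P.subgroupOf Q).map ψ ⊔ S₂ := by
    apply le_antisymm
    · rintro _ ⟨y, hy, rfl⟩
      have hy' : (y : Ω) ∈ P ⊔ S₂ := hy
      obtain ⟨a, ha, b, hb, hab⟩ := exists_mul_of_mem_sup
        (fun a ha b hb => hcomm a (hP ha) b hb) hy'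
      have h3 : y = ⟨a, Subgroup.mem_sup_left (hPQ ha)⟩ * ⟨b, Subgroup.mem_sup_right hb⟩ := Subtype.ext hab
      rw [h3, map_mul]
      apply Subgroup.mul_mem
      · apply Subgroup.mem_sup_left
        rw [hψ'Q a (hPQ ha)]
        exact ⟨⟨a, hPQ ha⟩, ha, rfl⟩
      · exact Subgroup.mem_sup_right (hψ'S₂ b hb)
    · apply sup_le
      · rintro _ ⟨v, hv, rfl⟩
        have hvP : (v : Ω) ∈ P := hv
        refine ⟨⟨v, Subgroup.mem_sup_left v.2⟩, ?_, hψ'Q v v.2⟩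
        show (v : Ω) ∈ P ⊔ S₂
        exact Subgroup.mem_sup_left hvP
      · intro s hs
        obtain ⟨t', ht', ht's⟩ := fs_stronglyClosed_surj F h₂ hψ' le_sup_right hs
        refine ⟨t', ?_, ht's⟩
        show (t' : Ω) ∈ P ⊔ S₂
        exact Subgroup.mem_sup_right ht'
  obtain ⟨χ₂, hχ₂, Hχ₂⟩ := hom_cast F hW hχ'
  -- values of χ₂
  have hχ₂P : ∀ (x : P) (hx : ψ (Subgroup.inclusion hPQ x) ∈ (P.subgroupOf Q).map ψ ⊔ S₂),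
      χ₂ ⟨ψ (Subgroup.inclusion hPQ x), hx⟩ = ψ ⟨φ x, hφQ x⟩ := by
    intro x hx
    have hx1 : ψ (Subgroup.inclusion hPQ x) = ψ' (Subgroup.inclusion hUV (Subgroup.inclusion le_sup_left x)) :=
      (hψ'Q x (hPQ x.2)).symm
    have hxW : ψ' (Subgroup.inclusion hUV (Subgroup.inclusion le_sup_left x)) ∈
        ((P ⊔ S₂).subgroupOf (Q ⊔ S₂)).map ψ' :=
      ⟨_, (Subgroup.inclusion le_sup_left x : ↥(P ⊔ S₂)).2, rfl⟩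
    have e1 : (⟨ψ (Subgroup.inclusion hPQ x), hx⟩ : ↥((P.subgroupOf Q).map ψ ⊔ S₂)) =
        ⟨ψ' (Subgroup.inclusion hUV (Subgroup.inclusion le_sup_left x)), hW ▸ hxW⟩ := Subtype.ext hx1
    rw [e1, Hχ₂ _ hxW, Hχ' _ hxW]
    have e2 : (⟨φ' (Subgroup.inclusion le_sup_left x), hθV _⟩ : ↥(Q ⊔ S₂)) =
        ⟨φ x, Subgroup.mem_sup_left (hφQ x)⟩ := Subtype.ext (Hφ'P x)
    rw [e2]
    exact hψ'Q _ (hφQ x)
  have hχ₂S₂ : ∀ (s : Ω) (hs : s ∈ S₂), χ₂ ⟨s, Subgroup.mem_sup_right hs⟩ = s := by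
    intro s hs
    obtain ⟨t', ht', ht's⟩ := fs_stronglyClosed_surj F h₂ hψ' le_sup_right hs
    have ht'PS : (t' : Ω) ∈ P ⊔ S₂ := Subgroup.mem_sup_right ht'
    have hxW : ψ' (Subgroup.inclusion hUV ⟨t', ht'PS⟩) ∈ ((P ⊔ S₂).subgroupOf (Q ⊔ S₂)).map ψ' :=
      ⟨_, ht'PS, rfl⟩
    have e0 : Subgroup.inclusion hUV ⟨(t' : Ω), ht'PS⟩ = t' := Subtype.ext rfl
    have e1 : (⟨s, Subgroup.mem_sup_right hs⟩ : ↥((P.subgroupOf Q).map ψ ⊔ S₂)) =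
        ⟨ψ' (Subgroup.inclusion hUV ⟨t', ht'PS⟩), hW ▸ hxW⟩ := by
      apply Subtype.ext
      show s = ψ' (Subgroup.inclusion hUV ⟨t', ht'PS⟩)
      rw [e0, ht's]
    rw [e1, Hχ₂ _ hxW, Hχ' _ hxW]
    have e2 : (⟨φ' ⟨(t' : Ω), ht'PS⟩, hθV _⟩ : ↥(Q ⊔ S₂)) = t' := by
      apply Subtype.ext
      exact Hφ'S₂ ⟨t', ht'⟩
    rw [e2, ht's]
  have hP''S₁ : (P.subgroupOf Q).map ψ ≤ S₁ := by
    rintro _ ⟨v, -, rfl⟩
    exact h₁.2 Q hQ ψ hψ v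
  have hS₁C : S₁ ≤ centralizerIn S S₂ := by
    intro a ha
    refine ⟨h₁S ha, ?_⟩
    show a ∈ Subgroup.centralizer (S₂ : Set Ω)
    rw [Subgroup.mem_centralizer_iff]
    intro b hb
    exact (hcomm a ha b hb).symm
  have hχF : χ₂.comp (Subgroup.inclusion le_sup_left) ∈ F.Hom ((P.subgroupOf Q).map ψ) :=
    fs_restrict_mem F hχ₂ le_sup_left
  refine ⟨χ₂.comp (Subgroup.inclusion le_sup_left), ?_, fun x hx => hχ₂P x _⟩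
  rw [hR' _ hP''S₁]
  refine ⟨hχF, hP''S₁.trans hS₁C, fun x => hS₁C ?_, χ₂, hχ₂, fun x => rfl, fun s => hχ₂S₂ s s.2⟩
  exact fs_stronglyClosed_mem F h₁ hχF x (hP''S₁ x.2)

end Cfsg.Agent.Lib.Helper9.H9DirProd
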