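import Mathlib
import Cfsg.Prelude.Def_FusionSystem
import Cfsg.Agent.Lib.Helper9.DirProd3
import Cfsg.Agent.Lib.Helper9.FusionAut2
import Cfsg.Agent.S5097
import Cfsg.Agent.S5099

set_option autoImplicit false

/-! Saturation of the centralizer-type subsystem on a direct factor, and the extension conditions. -/

namespace Cfsg.Agent.Lib.Helper9.H9DirProd

open Cfsg Cfsg.FusionSystem Cfsg.Agent.Lib.Helper9

variable {Ω : Type*} [Group Ω] {S : Subgroup Ω}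

theorem centHom_saturated [Finite S] (p : ℕ) [Fact p.Prime] (hS : IsPGroup p S) (F : FusionSystem S)
    (hF : F.IsSaturated p) (S₁ S₂ : Subgroup Ω) (hcomm : ∀ a ∈ S₁, ∀ b ∈ S₂, a * b = b * a)
    (hsup : S₁ ⊔ S₂ = S) (h₁ : F.StronglyClosed S₁) (h₂ : F.StronglyClosed S₂) (R' : FusionSystem S₁)
    (hR' : ∀ P : Subgroup Ω, P ≤ S₁ → R'.Hom P = F.centralizerHom S₂ P) : R'.IsSaturated p := by
  have h₁S : S₁ ≤ S := h₁.1
  have h₂S : S₂ ≤ S := h₂.1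
  have hfc : F.IsFullyCentralized S₂ := by
    refine ⟨h₂S, ?_⟩
    rintro Q ⟨φ, hφ, rfl⟩
    rw [(fs_weaklyClosed_of_stronglyClosed F h₂).2 φ hφ]
  obtain ⟨C, hC⟩ := Cfsg.Agent.S5097.result F S₂ h₂S
  have hCsat := Cfsg.Agent.S5099.result p hS F hF S₂ hfc C hC
  haveI : Finite ↥(centralizerIn S S₂) := fs_finite_of_le (fs_centralizerIn_le S S₂)
  have hS₁C : S₁ ≤ centralizerIn S S₂ := by
    intro a ha
    refine ⟨h₁S ha, ?_⟩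
    show a ∈ Subgroup.centralizer (S₂ : Set Ω)
    rw [Subgroup.mem_centralizer_iff]
    intro b hb
    exact (hcomm a ha b hb).symm
  have hsup' : S₁ ⊔ (S₂ ⊓ Subgroup.centralizer (S₂ : Set Ω)) = centralizerIn S S₂ := by
    apply le_antisymm
    · apply sup_le hS₁C
      intro b hb
      exact ⟨h₂S hb.1, hb.2⟩
    · intro x hx
      have hxS : x ∈ S₁ ⊔ S₂ := by rw [hsup]; exact hx.1
      obtain ⟨a, ha, b, hb, rfl⟩ := exists_mul_of_mem_sup hcomm hxS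
      apply Subgroup.mul_mem _ (Subgroup.mem_sup_left ha)
      apply Subgroup.mem_sup_right
      refine ⟨hb, ?_⟩
      have h1 : b = a⁻¹ * (a * b) := by group
      rw [h1]
      exact Subgroup.mul_mem _ (Subgroup.inv_mem _ (hS₁C ha).2) hx.2
  have h₁C : C.StronglyClosed S₁ := by
    refine ⟨hS₁C, fun R hR φ hφ x => ?_⟩
    rw [hC R] at hφ
    exact h₁.2 R hR φ hφ.1 x
  apply full_factor_saturated (S := centralizerIn S S₂) p C hCsat S₁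
    (S₂ ⊓ Subgroup.centralizer (S₂ : Set Ω)) (fun a ha b hb => hcomm a ha b hb.1) hsup' h₁C R'
  intro P hP
  rw [hR' P hP, hC P]

theorem centHom_ext_F [Finite S] (F : FusionSystem S) (S₁ S₂ : Subgroup Ω)
    (hcomm : ∀ a ∈ S₁, ∀ b ∈ S₂, a * b = b * a)
    (hsup : S₁ ⊔ S₂ = S) (R' : FusionSystem S₁)
    (hR' : ∀ P : Subgroup Ω, P ≤ S₁ → R'.Hom P = F.centralizerHom S₂ P) :
    ∀ α ∈ R'.autGroup S₁, ∃ β ∈ F.autGroup (S₁ ⊔ centralizerIn S S₁),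
      (∀ x : S₁, ((β (Subgroup.inclusion le_sup_left x) : ↥(S₁ ⊔ centralizerIn S S₁)) : Ω) = ((α x : S₁) : Ω)) ∧
      ∀ c : ↥(S₁ ⊔ centralizerIn S S₁), (c : Ω) ∈ centralizerIn S S₁ →
        (c : Ω)⁻¹ * ((β c : ↥(S₁ ⊔ centralizerIn S S₁)) : Ω) ∈ S₁ ⊓ Subgroup.centralizer (S₁ : Set Ω) := by
  intro α hα
  have h₁S : S₁ ≤ S := hsup ▸ le_sup_left
  have h₂S : S₂ ≤ S := hsup ▸ le_sup_right
  rw [mem_autGroup_iff R' le_rfl, hR' S₁ le_rfl] at hα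
  obtain ⟨-, -, -, ψ, hψ, Hψ₁, Hψ₂⟩ := hα
  have hS₂C : S₂ ≤ centralizerIn S S₁ := by
    intro b hb
    refine ⟨h₂S hb, ?_⟩
    show b ∈ Subgroup.centralizer (S₁ : Set Ω)
    rw [Subgroup.mem_centralizer_iff]
    intro a ha
    exact hcomm a ha b hb
  have hUS : S₁ ⊔ centralizerIn S S₁ = S := by
    apply le_antisymm (sup_le h₁S (fs_centralizerIn_le S S₁))
    exact (le_of_eq hsup.symm).trans (sup_le_sup_left hS₂C S₁)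
  have hU : S₁ ⊔ S₂ = S₁ ⊔ centralizerIn S S₁ := by rw [hsup, hUS]
  obtain ⟨ψ₂, hψ₂, Hψ₂'⟩ := hom_cast F hU hψ
  have hval : ∀ y : ↥(S₁ ⊔ centralizerIn S S₁), ψ₂ y ∈ S₁ ⊔ centralizerIn S S₁ := by
    intro y
    exact (le_of_eq hUS.symm) ((F.le_of_mem hψ₂).2 y)
  obtain ⟨β, hβ, Hβ⟩ := fs_hom_to_aut F hψ₂ hval
  refine ⟨β, hβ, ?_, ?_⟩
  · intro x
    rw [Hβ]
    exact (Hψ₂' (x : Ω) (Subgroup.mem_sup_left x.2) _).trans (Hψ₁ x)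
  · intro c hc
    have hcS : (c : Ω) ∈ S₁ ⊔ S₂ := by rw [hsup]; exact hc.1
    obtain ⟨a, ha, b, hb, hab⟩ := exists_mul_of_mem_sup hcomm hcS
    have hψc : ψ₂ c = ((α ⟨a, ha⟩ : S₁) : Ω) * b := by
      rw [Hψ₂' (c : Ω) hcS c.2]
      have e : (⟨(c : Ω), hcS⟩ : ↥(S₁ ⊔ S₂)) =
          Subgroup.inclusion le_sup_left ⟨a, ha⟩ * Subgroup.inclusion le_sup_right ⟨b, hb⟩ := Subtype.ext hab
      rw [e, map_mul, Hψ₁, Hψ₂]
      rfl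
    have haC : a ∈ Subgroup.centralizer (S₁ : Set Ω) := by
      have h1 : a = (c : Ω) * b⁻¹ := by rw [hab]; group
      rw [h1]
      exact Subgroup.mul_mem _ hc.2 (Subgroup.inv_mem _ (hS₂C hb).2)
    have hαaC : ((α ⟨a, ha⟩ : S₁) : Ω) ∈ Subgroup.centralizer (S₁ : Set Ω) := by
      rw [Subgroup.mem_centralizer_iff]
      intro y hy
      obtain ⟨y', hy'⟩ := α.surjective ⟨y, hy⟩
      have h1 : y' * ⟨a, ha⟩ = ⟨a, ha⟩ * y' := by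
        apply Subtype.ext
        exact (Subgroup.mem_centralizer_iff.mp haC) y' y'.2
      have h2 := congrArg (fun z : S₁ => ((α z : S₁) : Ω)) h1
      simp only [map_mul, hy', Subgroup.coe_mul] at h2
      exact h2
    rw [Hβ, hψc, hab]
    have h3 : (a * b)⁻¹ * (((α ⟨a, ha⟩ : S₁) : Ω) * b) = a⁻¹ * ((α ⟨a, ha⟩ : S₁) : Ω) := by
      have h4 : b⁻¹ * (a⁻¹ * ((α ⟨a, ha⟩ : S₁) : Ω)) = (a⁻¹ * ((α ⟨a, ha⟩ : S₁) : Ω)) * b⁻¹ :=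
        (hcomm _ (S₁.mul_mem (S₁.inv_mem ha) (α ⟨a, ha⟩).2) b⁻¹ (S₂.inv_mem hb)).symm
      calc (a * b)⁻¹ * (((α ⟨a, ha⟩ : S₁) : Ω) * b)
          = (b⁻¹ * (a⁻¹ * ((α ⟨a, ha⟩ : S₁) : Ω))) * b := by group
        _ = (a⁻¹ * ((α ⟨a, ha⟩ : S₁) : Ω)) * b⁻¹ * b := by rw [h4]
        _ = a⁻¹ * ((α ⟨a, ha⟩ : S₁) : Ω) := by group
    rw [h3]
    exact ⟨S₁.mul_mem (S₁.inv_mem ha) (α ⟨a, ha⟩).2,
      Subgroup.mul_mem _ (Subgroup.inv_mem _ haC) hαaC⟩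

theorem centHom_ext_R [Finite S] (F : FusionSystem S) (S₁ S₂ : Subgroup Ω) (h₁S : S₁ ≤ S)
    (R R' : FusionSystem S₁) (hR : ∀ P : Subgroup Ω, P ≤ S₁ → R.Hom P = F.Hom P)
    (hR' : ∀ P : Subgroup Ω, P ≤ S₁ → R'.Hom P = F.centralizerHom S₂ P) :
    ∀ α ∈ R'.autGroup S₁, ∃ β ∈ R.autGroup (S₁ ⊔ centralizerIn S₁ S₁),
      (∀ x : S₁, ((β (Subgroup.inclusion le_sup_left x) : ↥(S₁ ⊔ centralizerIn S₁ S₁)) : Ω) = ((α x : S₁) : Ω)) ∧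
      ∀ c : ↥(S₁ ⊔ centralizerIn S₁ S₁), (c : Ω) ∈ centralizerIn S₁ S₁ →
        (c : Ω)⁻¹ * ((β c : ↥(S₁ ⊔ centralizerIn S₁ S₁)) : Ω) ∈ S₁ ⊓ Subgroup.centralizer (S₁ : Set Ω) := by
  intro α hα
  haveI : Finite S₁ := fs_finite_of_le h₁S
  rw [mem_autGroup_iff R' le_rfl, hR' S₁ le_rfl] at hα
  have hαR : S₁.subtype.comp α.toMonoidHom ∈ R.Hom S₁ := by
    rw [hR S₁ le_rfl]
    exact hα.1
  have hU : S₁ = S₁ ⊔ centralizerIn S₁ S₁ := (sup_eq_left.mpr (fs_centralizerIn_le S₁ S₁)).symm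
  obtain ⟨ψ₂, hψ₂, Hψ₂'⟩ := hom_cast R hU hαR
  have hval : ∀ y : ↥(S₁ ⊔ centralizerIn S₁ S₁), ψ₂ y ∈ S₁ ⊔ centralizerIn S₁ S₁ := by
    intro y
    exact (le_of_eq hU) ((R.le_of_mem hψ₂).2 y)
  obtain ⟨β, hβ, Hβ⟩ := fs_hom_to_aut R hψ₂ hval
  refine ⟨β, hβ, ?_, ?_⟩
  · intro x
    rw [Hβ]
    exact Hψ₂' (x : Ω) x.2 _
  · intro c hc
    have hcS₁ : (c : Ω) ∈ S₁ := hc.1
    have hβc : ((β c : ↥(S₁ ⊔ centralizerIn S₁ S₁)) : Ω) = ((α ⟨c, hcS₁⟩ : S₁) : Ω) := by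
      rw [Hβ, Hψ₂' (c : Ω) hcS₁ c.2]
      rfl
    have hαcC : ((α ⟨c, hcS₁⟩ : S₁) : Ω) ∈ Subgroup.centralizer (S₁ : Set Ω) := by
      rw [Subgroup.mem_centralizer_iff]
      intro y hy
      obtain ⟨y', hy'⟩ := α.surjective ⟨y, hy⟩
      have h1 : y' * ⟨c, hcS₁⟩ = ⟨c, hcS₁⟩ * y' := by
        apply Subtype.ext
        exact (Subgroup.mem_centralizer_iff.mp hc.2) y' y'.2
      have h2 := congrArg (fun z : S₁ => ((α z : S₁) : Ω)) h1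
      simp only [map_mul, hy', Subgroup.coe_mul] at h2
      exact h2
    rw [hβc]
    exact ⟨S₁.mul_mem (S₁.inv_mem hcS₁) (α ⟨c, hcS₁⟩).2,
      Subgroup.mul_mem _ (Subgroup.inv_mem _ hc.2) hαcC⟩

end Cfsg.Agent.Lib.Helper9.H9DirProd
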