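import Mathlib

set_option autoImplicit false

/-! Automorphisms of odd order of an abelian 2-group with "thin" layers are trivial
(abstract additive version). -/

namespace Cfsg.Agent.Lib.Helper9

section
variable {M : Type*} [AddCommGroup M]

/-- `x ∈ T(c)` iff `2^c x ∈ 2^(c+1) M`. -/
def dtMem (M : Type*) [AddCommGroup M] (c : ℕ) (x : M) : Prop := ∃ y : M, (2 ^ c) • x = (2 ^ (c + 1)) • y

theorem dtMem_equiv (α : M ≃+ M) (c : ℕ) (x : M) : dtMem M c (α x) ↔ dtMem M c x := by
  constructor
  · rintro ⟨y, hy⟩
    refine ⟨α.symm y, ?_⟩
    apply α.injective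
    rw [map_nsmul, map_nsmul, AddEquiv.apply_symm_apply]
    exact hy
  · rintro ⟨y, hy⟩
    refine ⟨α y, ?_⟩
    rw [← map_nsmul, ← map_nsmul, hy]

theorem iterate_add_nsmul (α : M ≃+ M) {u w : M} (hu : α u = u + w) (hw : α w = w) (j : ℕ) :
    (α^[j]) u = u + j • w := by
  induction j with
  | zero => simp
  | succ j ih =>
    rw [Function.iterate_succ_apply', ih, map_add, map_nsmul, hu, hw, succ_nsmul]
    abel

/-- Abstract criterion. -/
theorem odd_aut_trivial_of_thin (N : ℕ) (hN : ∀ x : M, (2 ^ N) • x = 0)
    (hstep : ∀ c : ℕ, ∀ x y : M, dtMem M (c + 1) x → dtMem M (c + 1) y → ¬ dtMem M c x → ¬ dtMem M c y →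
      dtMem M c (x - y))
    (α : M ≃+ M) (m : ℕ) (hm : Odd m) (hα : ∀ x, (α^[m]) x = x) : ∀ x, α x = x := by
  -- Claim(k): α fixes 2^k M pointwise
  have claim : ∀ j k : ℕ, j + k = N → ∀ x : M, α ((2 ^ k) • x) = (2 ^ k) • x := by
    intro j
    induction j with
    | zero =>
      intro k hk x
      have : k = N := by omega
      subst this
      rw [hN, map_zero]
    | succ j ih =>
      intro k hk
      have hk1 := ih (k + 1) (by omega)
      have inner : ∀ c : ℕ, ∀ x : M, dtMem M c x → α ((2 ^ k) • x) = (2 ^ k) • x := by
        intro c
        induction c with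
        | zero =>
          rintro x ⟨y, hy⟩
          have hx : x = 2 • y := by simpa using hy
          rw [hx, ← mul_nsmul', ← pow_succ]
          exact hk1 y
        | succ c ihc =>
          intro x hx
          by_cases hxc : dtMem M c x
          · exact ihc x hxc
          · have h1 : dtMem M (c + 1) (α x) := (dtMem_equiv α _ x).2 hx
            have h2 : ¬ dtMem M c (α x) := fun h => hxc ((dtMem_equiv α _ x).1 h)
            have hd := hstep c (α x) x h1 hx h2 hxc
            have hfix := ihc _ hd
            set u := (2 ^ k) • x with hu
            set w := (2 ^ k) • (α x - x) with hw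
            have huw : α u = u + w := by
              rw [hu, hw, map_nsmul, smul_sub]
              abel
            have hit := iterate_add_nsmul α huw hfix m
            rw [hα] at hit
            have hmw : m • w = 0 := by
              have := hit
              have h3 : u + m • w = u + 0 := by rw [add_zero]; exact this.symm
              exact add_left_cancel h3
            have hNw : (2 ^ N) • w = 0 := hN w
            have hcop : Nat.Coprime m (2 ^ N) := by
              apply Nat.Coprime.pow_right
              exact (Nat.coprime_comm.mp (Nat.coprime_two_left.mpr hm))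
            have hw0 : w = 0 := by
              have h4 : addOrderOf w ∣ m := addOrderOf_dvd_of_nsmul_eq_zero hmw
              have h5 : addOrderOf w ∣ 2 ^ N := addOrderOf_dvd_of_nsmul_eq_zero hNw
              have h6 : addOrderOf w ∣ 1 := by
                have := Nat.dvd_gcd h4 h5
                rwa [hcop] at this
              exact AddMonoid.addOrderOf_eq_one_iff.mp (Nat.dvd_one.mp h6)
            rw [huw, hw0, add_zero]
      intro x
      apply inner N x
      exact ⟨0, by rw [hN, smul_zero]⟩
  intro x
  have := claim N 0 (by omega) x
  simpa using this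

end

end Cfsg.Agent.Lib.Helper9
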