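import Mathlib
import Cfsg.Agent.Lib.Helper9.DistinctType1

set_option autoImplicit false

/-! The model `Π l, ZMod (2 ^ a l)` with `a` injective has thin layers. -/

namespace Cfsg.Agent.Lib.Helper9

theorem zmod_even_of_val_even {n : ℕ} [NeZero n] (z : ZMod n) (h : Even z.val) : Even z := by
  obtain ⟨r, hr⟩ := h
  refine ⟨(r : ZMod n), ?_⟩
  rw [← Nat.cast_add, ← hr, ZMod.natCast_zmod_val]

theorem zmod_odd_sub_odd {n : ℕ} [NeZero n] (x y : ZMod n) (hx : ¬ Even x) (hy : ¬ Even y) :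
    Even (x - y) := by
  have hx' : Odd x.val := by
    rw [← Nat.not_even_iff_odd]
    exact fun h => hx (zmod_even_of_val_even x h)
  have hy' : Odd y.val := by
    rw [← Nat.not_even_iff_odd]
    exact fun h => hy (zmod_even_of_val_even y h)
  have hz : Even ((x.val : ℤ) - (y.val : ℤ)) := by
    apply Odd.sub_odd
    · exact_mod_cast hx'
    · exact_mod_cast hy'
  obtain ⟨r, hr⟩ := hz
  refine ⟨(r : ZMod n), ?_⟩
  rw [← Int.cast_add, ← hr]
  push_cast
  rw [ZMod.natCast_zmod_val, ZMod.natCast_zmod_val]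

/-- Coordinate characterisation. -/
theorem zmod_dt_coord (b c : ℕ) (z : ZMod (2 ^ b)) :
    (∃ y : ZMod (2 ^ b), (2 ^ c) • z = (2 ^ (c + 1)) • y) ↔ (b ≤ c ∨ Even z) := by
  haveI : NeZero (2 ^ b) := ⟨by positivity⟩
  constructor
  · rintro ⟨y, hy⟩
    by_cases hbc : b ≤ c
    · exact Or.inl hbc
    · right
      push_neg at hbc
      -- t = z - 2y has 2^c t = 0
      set t := z - 2 • y with ht
      have h2 : (2 ^ c) • t = 0 := by
        rw [ht, smul_sub, hy, ← mul_nsmul', ← pow_succ, sub_self]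
      have ht_even : Even t := by
        apply zmod_even_of_val_even
        have h3 : ((2 ^ c * t.val : ℕ) : ZMod (2 ^ b)) = 0 := by
          rw [Nat.cast_mul, ZMod.natCast_zmod_val]
          rw [nsmul_eq_mul] at h2
          exact_mod_cast h2
        rw [ZMod.natCast_eq_zero_iff] at h3
        -- 2^b ∣ 2^c * val
        have h4 : 2 ^ c * 2 ^ (b - c) ∣ 2 ^ c * t.val := by
          rw [← pow_add]
          have : c + (b - c) = b := by omega
          rwa [this]
        have h5 : 2 ^ (b - c) ∣ t.val := Nat.dvd_of_mul_dvd_mul_left (by positivity) h4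
        have h6 : 2 ∣ t.val := by
          apply dvd_trans _ h5
          exact dvd_pow_self 2 (by omega)
        exact (even_iff_two_dvd).2 h6
      have hz : z = t + 2 • y := by rw [ht]; abel
      rw [hz]
      exact ht_even.add ⟨y, by rw [two_nsmul]⟩
  · rintro (hbc | ⟨r, hr⟩)
    · refine ⟨0, ?_⟩
      rw [smul_zero, nsmul_eq_mul]
      have : ((2 ^ c : ℕ) : ZMod (2 ^ b)) = 0 := by
        rw [ZMod.natCast_eq_zero_iff]
        exact pow_dvd_pow 2 hbc
      rw [this, zero_mul]
    · refine ⟨r, ?_⟩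
      rw [hr, ← two_nsmul, ← mul_nsmul', ← pow_succ]

theorem pi_dtMem_iff {ι : Type*} (a : ι → ℕ) (c : ℕ) (x : (l : ι) → ZMod (2 ^ a l)) :
    dtMem ((l : ι) → ZMod (2 ^ a l)) c x ↔ ∀ l, a l ≤ c ∨ Even (x l) := by
  constructor
  · rintro ⟨y, hy⟩ l
    rw [← zmod_dt_coord]
    refine ⟨y l, ?_⟩
    have := congrFun hy l
    simpa using this
  · intro h
    have h' : ∀ l, ∃ yl : ZMod (2 ^ a l), (2 ^ c) • x l = (2 ^ (c + 1)) • yl :=
      fun l => (zmod_dt_coord (a l) c (x l)).2 (h l)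
    choose y hy using h'
    refine ⟨y, ?_⟩
    funext l
    simpa using hy l

theorem pi_thin {ι : Type*} (a : ι → ℕ) (ha : Function.Injective a) (c : ℕ)
    (x y : (l : ι) → ZMod (2 ^ a l))
    (hx : dtMem ((l : ι) → ZMod (2 ^ a l)) (c + 1) x) (hy : dtMem ((l : ι) → ZMod (2 ^ a l)) (c + 1) y)
    (hxc : ¬ dtMem ((l : ι) → ZMod (2 ^ a l)) c x) (hyc : ¬ dtMem ((l : ι) → ZMod (2 ^ a l)) c y) :
    dtMem ((l : ι) → ZMod (2 ^ a l)) c (x - y) := by
  rw [pi_dtMem_iff] at hx hy hxc hyc ⊢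
  push_neg at hxc hyc
  obtain ⟨l, hl1, hl2⟩ := hxc
  obtain ⟨l', hl1', hl2'⟩ := hyc
  have hal : a l = c + 1 := by
    rcases hx l with h | h
    · omega
    · exact absurd h hl2
  have hal' : a l' = c + 1 := by
    rcases hy l' with h | h
    · omega
    · exact absurd h hl2'
  have hll : l = l' := ha (hal.trans hal'.symm)
  subst hll
  intro j
  haveI : NeZero (2 ^ a j) := ⟨by positivity⟩
  by_cases hj : j = l
  · subst hj
    right
    exact zmod_odd_sub_odd _ _ hl2 hl2'
  · by_cases hjc : a j ≤ c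
    · exact Or.inl hjc
    · right
      have hne : a j ≠ c + 1 := fun h => hj (ha (h.trans hal.symm))
      have h1 : Even (x j) := by
        rcases hx j with h | h
        · omega
        · exact h
      have h2 : Even (y j) := by
        rcases hy j with h | h
        · omega
        · exact h
      exact h1.sub h2

/-- Every automorphism of odd order of `Π l, ZMod (2 ^ a l)` (`a` injective, bounded) is trivial. -/
theorem pi_odd_aut_trivial {ι : Type*} (a : ι → ℕ) (ha : Function.Injective a) (N : ℕ)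
    (hN : ∀ l, a l ≤ N) (α : ((l : ι) → ZMod (2 ^ a l)) ≃+ ((l : ι) → ZMod (2 ^ a l)))
    (m : ℕ) (hm : Odd m) (hα : ∀ x, (α^[m]) x = x) : ∀ x, α x = x := by
  apply odd_aut_trivial_of_thin N _ (pi_thin a ha) α m hm hα
  intro x
  funext l
  rw [Pi.smul_apply, nsmul_eq_mul]
  have : ((2 ^ N : ℕ) : ZMod (2 ^ a l)) = 0 := by
    rw [ZMod.natCast_eq_zero_iff]
    exact pow_dvd_pow 2 (hN l)
  rw [this, zero_mul]
  rfl

end Cfsg.Agent.Lib.Helper9
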