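import Mathlib
import Cfsg.Prelude.Def_Sporadic_a
import Cfsg.Prelude.Def_SporadicCombinatorics
import Cfsg.Agent.Lib.Helper9.OrbitFam

set_option autoImplicit false
open Cfsg

/-! The action on the pair of a point set and its complement. -/

namespace Cfsg.Agent.Lib.Helper9.M24

open scoped Pointwise

theorem smul_dodPair (g : Equiv.Perm GolayPt) (d : Finset GolayPt) :
    g • dodPair d = dodPair (g • d) := by
  unfold dodPair
  rw [smul_family_eq_image, Finset.image_insert, Finset.image_singleton]
  congr 2
  rw [← Finset.compl_eq_univ_sdiff, ← Finset.compl_eq_univ_sdiff, smul_finset_eq_image', image_compl_perm,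
    ← smul_finset_eq_image']

end Cfsg.Agent.Lib.Helper9.M24
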