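import Mathlib

set_option autoImplicit false

/-! Counting homomorphisms into a group of order 2. -/

namespace Cfsg.Agent.Lib.Helper9

theorem int_hasEnoughRootsOfUnity_two : HasEnoughRootsOfUnity ℤ 2 := by
  apply HasEnoughRootsOfUnity.of_card_le
  have htop : rootsOfUnity 2 ℤ = ⊤ := by
    rw [eq_top_iff]
    intro u _
    rw [mem_rootsOfUnity]
    rcases Int.units_eq_one_or u with rfl | rfl
    · simp
    · simp
  rw [htop, Subgroup.card_top, Nat.card_eq_fintype_card, Fintype.card_units_int]

/-- For a finite commutative group `A` of exponent dividing `2` and a group `Z` of order `2`,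
there are exactly `|A|` homomorphisms `A → Z`. -/
theorem card_monoidHom_two (A : Type*) [CommGroup A] [Finite A] (hA : ∀ a : A, a ^ 2 = 1)
    (Z : Type*) [CommGroup Z] (hZ : Nat.card Z = 2) : Nat.card (A →* Z) = Nat.card A := by
  haveI : Fact (Nat.Prime 2) := ⟨Nat.prime_two⟩
  have hZ' : Nat.card ℤˣ = 2 := by rw [Nat.card_eq_fintype_card, Fintype.card_units_int]
  have e2 : Z ≃* ℤˣ := mulEquivOfPrimeCardEq hZ hZ'
  have hexp : Monoid.exponent A ∣ 2 := Monoid.exponent_dvd_of_forall_pow_eq_one hA
  haveI := int_hasEnoughRootsOfUnity_two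
  haveI : HasEnoughRootsOfUnity ℤ (Monoid.exponent A) := HasEnoughRootsOfUnity.of_dvd ℤ hexp
  rw [Nat.card_congr (e2.monoidHomCongrRightEquiv (M := A))]
  exact CommGroup.card_monoidHom_of_hasEnoughRootsOfUnity A ℤ

end Cfsg.Agent.Lib.Helper9
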