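import Mathlib
import Cfsg.Prelude.Def_Transfer
import Cfsg.Agent.Lib.Helper4.TransferInv
import Cfsg.Agent.Lib.Helper4.TransferCore1

set_option autoImplicit false
open Cfsg

/-! Transfer into a quotient of order two of a subgroup: the sign homomorphism, triviality of homs to `ℤˣ`
when `O^2(G) = G`, and the reduction of a product over a set on which a 2-group acts to its fixed points. -/

namespace Cfsg.Agent.Lib.Helper9.ESTransfer

variable {G : Type*} [Group G]

open scoped Classical in
/-- The sign homomorphism of a subgroup `H` with kernel the subgroup `K ∩ H` of index two. -/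
noncomputable def signHom (H K : Subgroup G) (hidx : (K.subgroupOf H).index = 2) : ↥H →* ℤˣ where
  toFun h := if (h : G) ∈ K then 1 else -1
  map_one' := by simp [one_mem]
  map_mul' a b := by
    have := Subgroup.mul_mem_iff_of_index_two hidx (a := a) (b := b)
    simp only [Subgroup.mem_subgroupOf, Subgroup.coe_mul] at this
    by_cases ha : (a : G) ∈ K <;> by_cases hb : (b : G) ∈ K <;> simp [ha, hb, this]

theorem signHom_apply_of_mem (H K : Subgroup G) (hidx : (K.subgroupOf H).index = 2) (h : ↥H)
    (hh : (h : G) ∈ K) : signHom H K hidx h = 1 := by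
  unfold signHom
  simp [hh]

theorem signHom_apply_of_notMem (H K : Subgroup G) (hidx : (K.subgroupOf H).index = 2) (h : ↥H)
    (hh : (h : G) ∉ K) : signHom H K hidx h = -1 := by
  unfold signHom
  simp [hh]

theorem signHom_eq_one (H K : Subgroup G) (hidx : (K.subgroupOf H).index = 2) (h : ↥H) :
    signHom H K hidx h = 1 ↔ (h : G) ∈ K := by
  by_cases hh : (h : G) ∈ K
  · simp [signHom_apply_of_mem H K hidx h hh, hh]
  · rw [signHom_apply_of_notMem H K hidx h hh]
    simp only [hh, iff_false]
    decide

/-- if `O^2(G) = G` then every homomorphism to `ℤˣ` is trivial. -/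
theorem hom_units_eq_one (hres : Cfsg.pResidual 2 G = ⊤) (ψ : G →* ℤˣ) (g : G) : ψ g = 1 := by
  have hle : Cfsg.pResidual 2 G ≤ ψ.ker := by
    unfold Cfsg.pResidual
    rw [Subgroup.closure_le]
    intro x hx
    have hx' : Nat.Coprime (orderOf x) 2 := hx
    rw [SetLike.mem_coe, MonoidHom.mem_ker]
    have h1 : orderOf (ψ x) ∣ orderOf x := orderOf_map_dvd ψ x
    have h2 : orderOf (ψ x) ∣ 2 := orderOf_dvd_of_pow_eq_one (Int.units_sq (ψ x))
    have h3 : orderOf (ψ x) ∣ Nat.gcd (orderOf x) 2 := Nat.dvd_gcd h1 h2
    rw [hx'] at h3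
    exact orderOf_eq_one_iff.mp (Nat.dvd_one.mp h3)
  have : g ∈ ψ.ker := hle (by rw [hres]; exact Subgroup.mem_top g)
  exact MonoidHom.mem_ker.mp this

open scoped Classical in
/-- a product of signs over a finite set on which a 2-group acts, the signs being constant on orbits, equals the
product over the fixed points. -/
theorem prod_eq_prod_fixed {P : Type*} [Group P] [Finite P] (hP : IsPGroup 2 P) {X : Type*} [MulAction P X]
    [Fintype X] (f : X → ℤˣ) (hinv : ∀ (p : P) (x : X), f (p • x) = f x) :
    ∏ x, f x = ∏ x ∈ Finset.univ.filter (fun x : X => ∀ p : P, p • x = x), f x := by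
  classical
  haveI : Fact (Nat.Prime 2) := ⟨Nat.prime_two⟩
  have hfixiff : ∀ (u : P) (x : X), (∀ p : P, p • (u • x) = u • x) ↔ (∀ p : P, p • x = x) := by
    intro u x
    constructor
    · intro h p
      have h1 := h (u * p * u⁻¹)
      rw [← mul_smul] at h1
      have h2 : u * p * u⁻¹ * u = u * p := by group
      rw [h2, mul_smul] at h1
      exact smul_left_cancel u h1
    · intro h p
      rw [h u, h p]
  have key := Cfsg.Agent.Lib.Helper4.prod_eq_one_of_pgroup_action hP
    (fun x : X => if (∀ p : P, p • x = x) then (1 : ℤˣ) else f x) (Set.univ : Set P)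
    Subgroup.closure_univ ?_ ?_
  · rw [Finset.prod_filter]
    have : ∀ x : X, f x = (if (∀ p : P, p • x = x) then f x else 1) *
        (if (∀ p : P, p • x = x) then (1 : ℤˣ) else f x) := by
      intro x
      by_cases hx : ∀ p : P, p • x = x <;> simp [hx]
    calc ∏ x, f x = ∏ x, ((if (∀ p : P, p • x = x) then f x else 1) *
        (if (∀ p : P, p • x = x) then (1 : ℤˣ) else f x)) := Finset.prod_congr rfl (fun x _ => this x)
      _ = (∏ x, (if (∀ p : P, p • x = x) then f x else 1)) *
          ∏ x, (if (∀ p : P, p • x = x) then (1 : ℤˣ) else f x) := Finset.prod_mul_distrib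
      _ = ∏ x, (if (∀ p : P, p • x = x) then f x else 1) := by rw [key, mul_one]
  · intro u _ ω
    rw [Finset.prod_range_succ, Finset.prod_range_one, pow_zero, one_smul, pow_one]
    simp only [hfixiff u ω, hinv u ω]
    by_cases hx : ∀ p : P, p • ω = ω
    · simp [hx]
    · simp only [hx, if_false]
      exact Int.units_mul_self (f ω)
  · intro ω hω
    have : ∀ p : P, p • ω = ω := fun p => hω p (Set.mem_univ p)
    simp [this]

/-- a subgroup with more elements than a finite set has an element outside it. -/
theorem exists_mem_notMem_finset (Q : Subgroup G) (S : Finset G) (hS : S.card < Nat.card Q) :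
    ∃ e ∈ Q, e ∉ S := by
  by_contra hcon
  push Not at hcon
  have hsub : (Q : Set G) ⊆ (S : Set G) := fun e he => hcon e he
  have h1 : (Q : Set G).ncard ≤ (S : Set G).ncard := Set.ncard_le_ncard hsub (Finset.finite_toSet S)
  rw [Set.ncard_coe_finset] at h1
  have h2 : Nat.card Q = (Q : Set G).ncard := rfl
  omega

end Cfsg.Agent.Lib.Helper9.ESTransfer
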