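import Mathlib
import Cfsg.Prelude.Def_Transfer
import Cfsg.Agent.Lib.Helper9.ESTransfer1
import Cfsg.Agent.Lib.Helper9.LargeExtra

set_option autoImplicit false
open Cfsg

/-! In an extraspecial 2-group `Q` of order more than 8 with centre `{1, z}`, a subgroup `K` meeting `Q` in a
subgroup of index two misses some involution of `Q`. -/

namespace Cfsg.Agent.Lib.Helper9.ESTransfer

open Cfsg.Agent.Lib.Helper9.LargeExtra

variable {G : Type*} [Group G]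

theorem exists_invol_notMem {Q : Subgroup G} {z : G} (h : Core Q z)
    (hsq : ∀ x ∈ Q, x * x = 1 ∨ x * x = z) (hcard : 8 < Nat.card Q) (K : Subgroup G)
    (hmul : ∀ a ∈ Q, ∀ b ∈ Q, (a * b ∈ K ↔ (a ∈ K ↔ b ∈ K)))
    {x₀ : G} (hx₀Q : x₀ ∈ Q) (hx₀K : x₀ ∉ K) : ∃ u ∈ Q, u ∉ K ∧ u * u = 1 := by
  classical
  by_contra hcon
  push Not at hcon
  have hall : ∀ u ∈ Q, u ∉ K → u * u = z := fun u hu huK => (hsq u hu).resolve_left (hcon u hu huK)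
  have hx₀sq := hall x₀ hx₀Q hx₀K
  have hinvert : ∀ y ∈ Q, y ∈ K → y * x₀ = x₀ * y⁻¹ := by
    intro y hy hyK
    have h1 : x₀ * y ∉ K := by
      rw [hmul x₀ hx₀Q y hy]; tauto
    have h2 := hall (x₀ * y) (Q.mul_mem hx₀Q hy) h1
    have h3 : x₀ * y * (x₀ * y) = x₀ * x₀ := by rw [h2, hx₀sq]
    have h4 : y * x₀ * y = x₀ := by
      have : x₀ * (y * x₀ * y) = x₀ * x₀ := by rw [← h3]; group
      exact mul_left_cancel this
    calc y * x₀ = (y * x₀ * y) * y⁻¹ := by group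
      _ = x₀ * y⁻¹ := by rw [h4]
  have hab : ∀ y₁ ∈ Q, y₁ ∈ K → ∀ y₂ ∈ Q, y₂ ∈ K → y₁ * y₂ = y₂ * y₁ := by
    intro y₁ h1Q h1K y₂ h2Q h2K
    have e1 := hinvert y₁ h1Q h1K
    have e2 := hinvert y₂ h2Q h2K
    have e3 := hinvert (y₁ * y₂) (Q.mul_mem h1Q h2Q) (K.mul_mem h1K h2K)
    have e4 : y₁ * y₂ * x₀ = x₀ * (y₁⁻¹ * y₂⁻¹) := by
      calc y₁ * y₂ * x₀ = y₁ * (y₂ * x₀) := by group
        _ = y₁ * (x₀ * y₂⁻¹) := by rw [e2]
        _ = (y₁ * x₀) * y₂⁻¹ := by group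
        _ = x₀ * y₁⁻¹ * y₂⁻¹ := by rw [e1]
        _ = x₀ * (y₁⁻¹ * y₂⁻¹) := by group
    rw [e3] at e4
    have e5 : (y₁ * y₂)⁻¹ = y₁⁻¹ * y₂⁻¹ := mul_left_cancel e4
    have e6 : y₁ * y₂ = (y₁⁻¹ * y₂⁻¹)⁻¹ := by rw [← e5, inv_inv]
    rw [e6]; group
  have hx₀inv : x₀⁻¹ ∉ K := fun hh => hx₀K (by simpa using K.inv_mem hh)
  have hx₀invQ : x₀⁻¹ ∈ Q := Q.inv_mem hx₀Q
  have hpick : ∀ e ∈ Q, ∃ y ∈ Q, y ∈ K ∧ (y = e ∨ e = x₀ * y) := by
    intro e he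
    by_cases heK : e ∈ K
    · exact ⟨e, he, heK, Or.inl rfl⟩
    · refine ⟨x₀⁻¹ * e, Q.mul_mem hx₀invQ he, ?_, Or.inr (by group)⟩
      rw [hmul x₀⁻¹ hx₀invQ e he]; tauto
  have hcen : ∀ y ∈ Q, y ∈ K → y * y = 1 → y = 1 ∨ y = z := by
    intro y hy hyK hyy
    have hyinv : y⁻¹ = y := inv_eq_of_mul_eq_one_right hyy
    have hyx : y * x₀ = x₀ * y := by
      have := hinvert y hy hyK
      rwa [hyinv] at this
    apply h.cent
    intro q hq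
    obtain ⟨y', hy'Q, hy'K, hq' | hq'⟩ := hpick q hq
    · subst hq'; exact hab y hy hyK y' hy'Q hy'K
    · rw [hq']
      calc y * (x₀ * y') = (y * x₀) * y' := by group
        _ = x₀ * (y * y') := by rw [hyx]; group
        _ = x₀ * (y' * y) := by rw [hab y hy hyK y' hy'Q hy'K]
        _ = x₀ * y' * y := by group
  have hne : ∀ y ∈ Q, y ∈ K → y ≠ 1 → y ≠ z → y * y = z := by
    intro y hy hyK hy1 hyz
    rcases hsq y hy with h1 | h1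
    · rcases hcen y hy hyK h1 with h2 | h2
      · exact absurd h2 hy1
      · exact absurd h2 hyz
    · exact h1
  -- first element
  obtain ⟨e₁, he₁Q, he₁S⟩ := exists_mem_notMem_finset Q ({1, z, x₀, x₀ * z} : Finset G)
    (lt_of_le_of_lt Finset.card_le_four (by omega))
  simp only [Finset.mem_insert, Finset.mem_singleton, not_or] at he₁S
  obtain ⟨y₁, hy₁Q, hy₁K, hy₁e⟩ := hpick e₁ he₁Q
  have hy₁1 : y₁ ≠ 1 := by
    rintro rfl
    rcases hy₁e with h1 | h1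
    · exact he₁S.1 h1.symm
    · exact he₁S.2.2.1 (by rw [h1, mul_one])
  have hy₁z : y₁ ≠ z := by
    rintro rfl
    rcases hy₁e with h1 | h1
    · exact he₁S.2.1 h1.symm
    · exact he₁S.2.2.2 h1
  have hy₁sq := hne y₁ hy₁Q hy₁K hy₁1 hy₁z
  -- second element
  obtain ⟨e₂, he₂Q, he₂S⟩ := exists_mem_notMem_finset Q
    (insert (1 : G) (insert z (insert y₁ (insert (y₁ * z) ({x₀, x₀ * z, x₀ * y₁, x₀ * (y₁ * z)} : Finset G)))))
    (by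
      have c4 : ({x₀, x₀ * z, x₀ * y₁, x₀ * (y₁ * z)} : Finset G).card ≤ 4 := Finset.card_le_four
      have c5 := Finset.card_insert_le (y₁ * z) ({x₀, x₀ * z, x₀ * y₁, x₀ * (y₁ * z)} : Finset G)
      have c6 := Finset.card_insert_le y₁ (insert (y₁ * z) ({x₀, x₀ * z, x₀ * y₁, x₀ * (y₁ * z)} : Finset G))
      have c7 := Finset.card_insert_le z (insert y₁ (insert (y₁ * z) ({x₀, x₀ * z, x₀ * y₁, x₀ * (y₁ * z)} : Finset G)))
      have c8 := Finset.card_insert_le (1 : G) (insert z (insert y₁ (insert (y₁ * z) ({x₀, x₀ * z, x₀ * y₁, x₀ * (y₁ * z)} : Finset G))))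
      omega)
  simp only [Finset.mem_insert, Finset.mem_singleton, not_or] at he₂S
  obtain ⟨y₂, hy₂Q, hy₂K, hy₂e⟩ := hpick e₂ he₂Q
  have hy₂1 : y₂ ≠ 1 := by
    rintro rfl
    rcases hy₂e with h1 | h1
    · exact he₂S.1 h1.symm
    · exact he₂S.2.2.2.2.1 (by rw [h1, mul_one])
  have hy₂z : y₂ ≠ z := by
    rintro rfl
    rcases hy₂e with h1 | h1
    · exact he₂S.2.1 h1.symm
    · exact he₂S.2.2.2.2.2.1 h1
  have hy₂y₁ : y₂ ≠ y₁ := by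
    rintro rfl
    rcases hy₂e with h1 | h1
    · exact he₂S.2.2.1 h1.symm
    · exact he₂S.2.2.2.2.2.2.1 h1
  have hy₂y₁z : y₂ ≠ y₁ * z := by
    intro h2
    rcases hy₂e with h1 | h1
    · exact he₂S.2.2.2.1 (by rw [← h1, h2])
    · exact he₂S.2.2.2.2.2.2.2 (by rw [h1, h2])
  have hy₂sq := hne y₂ hy₂Q hy₂K hy₂1 hy₂z
  have hzy₁ : y₁ * z = z * y₁ := h.z_comm y₁ hy₁Q
  have h12Q : y₁ * y₂ ∈ Q := Q.mul_mem hy₁Q hy₂Q
  have h12K : y₁ * y₂ ∈ K := K.mul_mem hy₁K hy₂K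
  have h121 : y₁ * y₂ ≠ 1 := by
    intro h1
    apply hy₂y₁z
    -- y₂ = y₁⁻¹ = y₁ z
    have : y₁ * y₂ = y₁ * (y₁ * z) := by
      rw [h1, ← mul_assoc, hy₁sq, h.z_sq]
    exact mul_left_cancel this
  have h12z : y₁ * y₂ ≠ z := by
    intro h1
    apply hy₂y₁
    have : y₁ * y₂ = y₁ * y₁ := by rw [h1, hy₁sq]
    exact mul_left_cancel this
  have h12sq := hne (y₁ * y₂) h12Q h12K h121 h12z
  have : y₁ * y₂ * (y₁ * y₂) = 1 := by
    calc y₁ * y₂ * (y₁ * y₂) = y₁ * (y₂ * y₁) * y₂ := by group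
      _ = y₁ * (y₁ * y₂) * y₂ := by rw [hab y₂ hy₂Q hy₂K y₁ hy₁Q hy₁K]
      _ = (y₁ * y₁) * (y₂ * y₂) := by group
      _ = 1 := by rw [hy₁sq, hy₂sq, h.z_sq]
  rw [this] at h12sq
  exact h.z_ne h12sq.symm

end Cfsg.Agent.Lib.Helper9.ESTransfer
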