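import Mathlib
import Cfsg.Prelude.Def_Transfer
import Cfsg.Agent.Lib.Helper9.ESTransfer1
import Cfsg.Agent.Lib.Helper9.ESTransfer2
import Cfsg.Agent.Lib.Helper9.LargeExtra
import Cfsg.Agent.Lib.Helper9.LargeExtra5
import Cfsg.Agent.Lib.Helper9.LargeExtra13

set_option autoImplicit false
open Cfsg

/-! `O^2(G) = G`, `Q = O_2(C(z))` extraspecial of order more than 8 and self-centralizing: `Q` lies in every
subgroup of index two of `C(z)`. -/

namespace Cfsg.Agent.Lib.Helper9.ESTransfer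

open Cfsg.Agent.Lib.Helper9.LargeExtra

variable {G : Type*} [Group G]

theorem signHom_commutator (H K : Subgroup G) (hidx : (K.subgroupOf H).index = 2) {x y : G}
    (hx : x ∈ H) (hy : y ∈ H) :
    signHom H K hidx ⟨x * y * x⁻¹ * y⁻¹, H.mul_mem (H.mul_mem (H.mul_mem hx hy) (H.inv_mem hx)) (H.inv_mem hy)⟩
      = 1 := by
  have : (⟨x * y * x⁻¹ * y⁻¹, H.mul_mem (H.mul_mem (H.mul_mem hx hy) (H.inv_mem hx)) (H.inv_mem hy)⟩ : ↥H)
      = ⟨x, hx⟩ * ⟨y, hy⟩ * (⟨x, hx⟩ : ↥H)⁻¹ * (⟨y, hy⟩ : ↥H)⁻¹ := rfl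
  rw [this, map_mul, map_mul, map_mul, map_inv, map_inv]
  rw [mul_comm (signHom H K hidx ⟨x, hx⟩) (signHom H K hidx ⟨y, hy⟩)]
  group

/-- the four-group `{1,z,u,zu}` together with its coset by `q₀` covers `Q` when `C_Q(u)` is abelian. -/
theorem exists_commutator_eq {Q : Subgroup G} {z : G} (h : Core Q z) (hcard : 8 < Nat.card Q)
    {u : G} (huQ : u ∈ Q) (hu1 : u ≠ 1) (huz : u ≠ z) (huu : u * u = 1) :
    ∃ f₁ ∈ Q, ∃ f₂ ∈ Q, f₁ * u = u * f₁ ∧ f₂ * u = u * f₂ ∧ f₁ * f₂ * f₁⁻¹ * f₂⁻¹ = z := by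
  classical
  by_contra hcon
  push Not at hcon
  have hab : ∀ f₁ ∈ Q, f₁ * u = u * f₁ → ∀ f₂ ∈ Q, f₂ * u = u * f₂ → f₁ * f₂ = f₂ * f₁ := by
    intro f₁ h1 h1u f₂ h2 h2u
    rcases h.comm_mem f₁ h1 f₂ h2 with h3 | h3
    · calc f₁ * f₂ = (f₁ * f₂ * f₁⁻¹ * f₂⁻¹) * (f₂ * f₁) := by group
        _ = f₂ * f₁ := by rw [h3, one_mul]
    · exact absurd h3 (hcon f₁ h1 f₂ h2 h1u h2u)
  have hF : ∀ f ∈ Q, f * u = u * f → f = 1 ∨ f = z ∨ f = u ∨ f = z * u := by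
    intro f hf hfu
    exact h.centralizer_R huQ hu1 huz huu (fun r hr hru => hab f hf hfu r hr hru)
  obtain ⟨q₀, hq₀, hq₀u⟩ := h.exists_swap huQ hu1 huz
  obtain ⟨e, heQ, heS⟩ := exists_mem_notMem_finset Q
    (insert (1 : G) (insert z (insert u (insert (z * u) ({q₀, q₀ * z, q₀ * u, q₀ * (z * u)} : Finset G)))))
    (by
      have c4 : ({q₀, q₀ * z, q₀ * u, q₀ * (z * u)} : Finset G).card ≤ 4 := Finset.card_le_four
      have c5 := Finset.card_insert_le (z * u) ({q₀, q₀ * z, q₀ * u, q₀ * (z * u)} : Finset G)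
      have c6 := Finset.card_insert_le u (insert (z * u) ({q₀, q₀ * z, q₀ * u, q₀ * (z * u)} : Finset G))
      have c7 := Finset.card_insert_le z (insert u (insert (z * u) ({q₀, q₀ * z, q₀ * u, q₀ * (z * u)} : Finset G)))
      have c8 := Finset.card_insert_le (1 : G) (insert z (insert u (insert (z * u) ({q₀, q₀ * z, q₀ * u, q₀ * (z * u)} : Finset G))))
      omega)
  simp only [Finset.mem_insert, Finset.mem_singleton, not_or] at heS
  rcases h.coset_cases huQ hq₀ hq₀u heQ with h1 | h1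
  · rcases hF e heQ h1 with h2 | h2 | h2 | h2
    · exact heS.1 h2
    · exact heS.2.1 h2
    · exact heS.2.2.1 h2
    · exact heS.2.2.2.1 h2
  · rcases hF (q₀⁻¹ * e) (Q.mul_mem (Q.inv_mem hq₀) heQ) h1 with h2 | h2 | h2 | h2
    · exact heS.2.2.2.2.1 (by rw [← mul_one q₀, ← h2]; group)
    · exact heS.2.2.2.2.2.1 (by rw [← h2]; group)
    · exact heS.2.2.2.2.2.2.1 (by rw [← h2]; group)
    · exact heS.2.2.2.2.2.2.2 (by rw [← h2]; group)

end Cfsg.Agent.Lib.Helper9.ESTransfer
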