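import Mathlib
import Cfsg.Prelude.Def_Transfer
import Cfsg.Agent.Lib.Helper9.ESTransfer1
import Cfsg.Agent.Lib.Helper9.ESTransfer2
import Cfsg.Agent.Lib.Helper9.ESTransfer3
import Cfsg.Agent.Lib.Helper9.LargeExtra
import Cfsg.Agent.Lib.Helper9.LargeExtra5
import Cfsg.Agent.Lib.Helper9.LargeExtra13

set_option autoImplicit false
open Cfsg

/-! `O^2(G) = G`, `Q = O_2(C(z))` extraspecial of order more than 8 and self-centralizing: `Q` lies in every
subgroup of index two of `C(z)`. -/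

namespace Cfsg.Agent.Lib.Helper9.ESTransfer

open Cfsg.Agent.Lib.Helper9.LargeExtra

variable {G : Type*} [Group G]

theorem le_of_index_two [Finite G] (hres : Cfsg.pResidual 2 G = ⊤) (z : G) (hz : orderOf z = 2)
    (hext : Cfsg.IsExtraspecial 2 ↥(QQ z))
    (hcent : Subgroup.centralizer ((QQ z : Subgroup G) : Set G) ≤ QQ z)
    (hcard : 8 < Nat.card ↥(QQ z)) (K : Subgroup G)
    (hidx : (K.subgroupOf (Subgroup.centralizer ({z} : Set G))).index = 2) : QQ z ≤ K := by
  classical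
  haveI : Fact (Nat.Prime 2) := ⟨Nat.prime_two⟩
  obtain ⟨hc, hZmem⟩ := core_of_QQ z hz hext hcent
  have hsq := sq_cases (QQ z) hext hZmem
  set H : Subgroup G := Subgroup.centralizer ({z} : Set G) with hH
  have hQH : QQ z ≤ H := pCoreMap_le 2 _
  have hmemH : ∀ x, x ∈ H ↔ x * z = z * x := fun x => mem_centralizer_singleton
  by_contra hnot
  obtain ⟨x₀, hx₀Q, hx₀K⟩ := SetLike.not_le_iff_exists.mp hnot
  have hmul : ∀ a ∈ QQ z, ∀ b ∈ QQ z, (a * b ∈ K ↔ (a ∈ K ↔ b ∈ K)) := by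
    intro a ha b hb
    have := Subgroup.mul_mem_iff_of_index_two hidx (a := ⟨a, hQH ha⟩) (b := ⟨b, hQH hb⟩)
    simpa [Subgroup.mem_subgroupOf] using this
  obtain ⟨u, huQ, huK, huu⟩ := exists_invol_notMem hc hsq hcard K hmul hx₀Q hx₀K
  have hu1 : u ≠ 1 := by rintro rfl; exact huK K.one_mem
  have huH : u ∈ H := hQH huQ
  have hzH : z ∈ H := hQH hc.z_mem
  -- z ∈ K
  have hzK : z ∈ K := by
    obtain ⟨a, haQ, haS⟩ := exists_mem_notMem_finset (QQ z) ({1, z} : Finset G)
      (lt_of_le_of_lt Finset.card_le_two (by omega))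
    simp only [Finset.mem_insert, Finset.mem_singleton, not_or] at haS
    obtain ⟨q, hq, hqa⟩ := hc.exists_swap haQ haS.1 haS.2
    have h1 : q * a * q⁻¹ * a⁻¹ = z := by rw [hqa]; group
    have h2 := signHom_commutator H K hidx (hQH hq) (hQH haQ)
    rw [signHom_eq_one] at h2
    simpa [h1] using h2
  have huz : u ≠ z := fun h => huK (h ▸ hzK)
  have hV : MonoidHom.transfer (signHom H K hidx) u = 1 :=
    hom_units_eq_one hres (MonoidHom.transfer (signHom H K hidx)) u
  letI : Fintype (G ⧸ H) := Fintype.ofFinite _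
  let Φ : G → ℤˣ := fun g => if h : g⁻¹ * u * g ∈ H then signHom H K hidx ⟨_, h⟩ else 1
  have hΦpos : ∀ g : G, ∀ h : g⁻¹ * u * g ∈ H, Φ g = signHom H K hidx ⟨_, h⟩ := by
    intro g h
    simp only [Φ, dif_pos h]
  have hΦneg : ∀ g : G, g⁻¹ * u * g ∉ H → Φ g = 1 := by
    intro g h
    simp only [Φ, dif_neg h]
  have htr := Cfsg.Agent.Lib.Helper4.transfer_involution H (signHom H K hidx) u (by rw [pow_two]; exact huu)
    (fun x => Φ x.out) (by intro x _ h; exact hΦpos _ h)
  rw [hV] at htr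
  -- Φ properties
  have hΦH : ∀ g : G, ∀ h' ∈ H, Φ (g * h') = Φ g := by
    intro g h' hh'
    have e : (g * h')⁻¹ * u * (g * h') = h'⁻¹ * (g⁻¹ * u * g) * h' := by group
    by_cases hg : g⁻¹ * u * g ∈ H
    · have hg' : (g * h')⁻¹ * u * (g * h') ∈ H := by
        rw [e]; exact H.mul_mem (H.mul_mem (H.inv_mem hh') hg) hh'
      rw [hΦpos _ hg, hΦpos _ hg']
      have : (⟨(g * h')⁻¹ * u * (g * h'), hg'⟩ : ↥H) =
          (⟨h', hh'⟩ : ↥H)⁻¹ * ⟨g⁻¹ * u * g, hg⟩ * ⟨h', hh'⟩ := Subtype.ext e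
      rw [this, map_mul, map_mul, map_inv, mul_comm, ← mul_assoc, mul_inv_cancel, one_mul]
    · have hg' : (g * h')⁻¹ * u * (g * h') ∉ H := by
        intro hh
        apply hg
        have : g⁻¹ * u * g = h' * ((g * h')⁻¹ * u * (g * h')) * h'⁻¹ := by group
        rw [this]; exact H.mul_mem (H.mul_mem hh' hh) (H.inv_mem hh')
      rw [hΦneg _ hg, hΦneg _ hg']
  have hΦC : ∀ g p : G, p * u = u * p → Φ (p * g) = Φ g := by
    intro g p hpu
    have e : (p * g)⁻¹ * u * (p * g) = g⁻¹ * u * g := by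
      calc (p * g)⁻¹ * u * (p * g) = g⁻¹ * (p⁻¹ * (u * p)) * g := by group
        _ = g⁻¹ * (p⁻¹ * (p * u)) * g := by rw [hpu]
        _ = g⁻¹ * u * g := by group
    by_cases hg : g⁻¹ * u * g ∈ H
    · have hg' : (p * g)⁻¹ * u * (p * g) ∈ H := by rw [e]; exact hg
      rw [hΦpos _ hg, hΦpos _ hg']
      congr 1
      exact Subtype.ext e
    · have hg' : (p * g)⁻¹ * u * (p * g) ∉ H := by rw [e]; exact hg
      rw [hΦneg _ hg, hΦneg _ hg']
  have hΦout : ∀ g : G, Φ ((g : G ⧸ H).out) = Φ g := by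
    intro g
    have h1 : (((g : G ⧸ H).out : G) : G ⧸ H) = (g : G ⧸ H) := QuotientGroup.out_eq' _
    have h2 : g⁻¹ * (g : G ⧸ H).out ∈ H := QuotientGroup.eq.mp h1.symm
    have h3 : Φ ((g : G ⧸ H).out) = Φ (g * (g⁻¹ * (g : G ⧸ H).out)) := by
      congr 1; group
    rw [h3, hΦH g _ h2]
  have hfixiff : ∀ (p g : G), p • (g : G ⧸ H) = (g : G ⧸ H) ↔ g⁻¹ * p⁻¹ * g ∈ H := by
    intro p g
    show ((p * g : G) : G ⧸ H) = (g : G ⧸ H) ↔ _
    rw [QuotientGroup.eq]
    have : (p * g)⁻¹ * g = g⁻¹ * p⁻¹ * g := by group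
    rw [this]
  have hsmul : ∀ (p : G) (x : G ⧸ H), p • x = ((p * x.out : G) : G ⧸ H) := by
    intro p x
    conv_lhs => rw [← QuotientGroup.out_eq' x]
    rfl
  let f' : G ⧸ H → ℤˣ := fun x => if u • x = x then Φ x.out else 1
  have hf'def : ∀ x, f' x = if u • x = x then Φ x.out else 1 := fun x => rfl
  have hprod1 : ∏ x, f' x = 1 := by
    rw [htr, Finset.prod_filter]
  -- the 2-group F = C_Q(u)
  set F : Subgroup G := QQ z ⊓ Subgroup.centralizer ({u} : Set G) with hF
  have hFp : IsPGroup 2 ↥F := hc.two.to_le inf_le_left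
  have hFmem : ∀ p, p ∈ F ↔ p ∈ QQ z ∧ p * u = u * p := by
    intro p; rw [hF, Subgroup.mem_inf, mem_centralizer_singleton]
  have hsub : ∀ (p : ↥F) (x : G ⧸ H), p • x = (p : G) • x := fun p x => rfl
  have hinv : ∀ (p : ↥F) (x : G ⧸ H), f' (p • x) = f' x := by
    intro p x
    obtain ⟨hpQ, hpu⟩ := (hFmem p).mp p.2
    have hfix : u • (p • x) = p • x ↔ u • x = x := by
      have e : u • ((p : G) • x) = (p : G) • (u • x) := by rw [← mul_smul, ← mul_smul, hpu]
      rw [hsub, e, smul_left_cancel_iff]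
    have hval : Φ (p • x).out = Φ x.out := by
      rw [hsub, hsmul (p : G) x, hΦout, hΦC _ _ hpu]
    rw [hf'def, hf'def, hval]
    simp only [hfix]
  have hred := prod_eq_prod_fixed hFp f' hinv
  rw [hprod1] at hred
  have heval : ∏ x ∈ Finset.univ.filter (fun x : G ⧸ H => ∀ p : ↥F, p • x = x), f' x = -1 := by
    rw [Finset.prod_eq_single ((1 : G) : G ⧸ H)]
    · have h1 : u • ((1 : G) : G ⧸ H) = ((1 : G) : G ⧸ H) := by
        rw [hfixiff]; simpa using H.inv_mem huH
      rw [hf'def, if_pos h1, hΦout]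
      have h2 : (1 : G)⁻¹ * u * 1 ∈ H := by simpa using huH
      rw [hΦpos _ h2]
      apply signHom_apply_of_notMem
      simpa using huK
    · intro x hx hx1
      rw [Finset.mem_filter] at hx
      have hxg : ((x.out : G) : G ⧸ H) = x := QuotientGroup.out_eq' x
      obtain ⟨g, hg⟩ : ∃ g : G, g = x.out := ⟨_, rfl⟩
      rw [← hg] at hxg
      have hfixF : ∀ p ∈ F, g⁻¹ * p⁻¹ * g ∈ H := by
        intro p hp
        have := hx.2 ⟨p, hp⟩
        rw [hsub, ← hxg] at this
        exact (hfixiff p g).mp this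
      have hw : ∀ r ∈ QQ z, r * u = u * r → (g * z * g⁻¹) * r = r * (g * z * g⁻¹) := by
        intro r hr hru
        have h1 := (hmemH _).mp (hfixF r ((hFmem r).mpr ⟨hr, hru⟩))
        have h2 : r⁻¹ * (g * z * g⁻¹) = (g * z * g⁻¹) * r⁻¹ := by
          calc r⁻¹ * (g * z * g⁻¹) = g * (g⁻¹ * r⁻¹ * g * z) * g⁻¹ := by group
            _ = g * (z * (g⁻¹ * r⁻¹ * g)) * g⁻¹ := by rw [h1]
            _ = (g * z * g⁻¹) * r⁻¹ := by group
        calc (g * z * g⁻¹) * r = r * (r⁻¹ * (g * z * g⁻¹)) * r := by group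
          _ = r * ((g * z * g⁻¹) * r⁻¹) * r := by rw [h2]
          _ = r * (g * z * g⁻¹) := by group
      have hval : Φ g = 1 := by
        rcases hc.centralizer_R huQ hu1 huz huu hw with h1 | h1 | h1 | h1
        · exfalso
          apply hc.z_ne
          calc z = g⁻¹ * (g * z * g⁻¹) * g := by group
            _ = 1 := by rw [h1]; group
        · exfalso
          apply hx1
          rw [← hxg, QuotientGroup.eq]
          have hgH : g ∈ H := by
            rw [hmemH]
            calc g * z = (g * z * g⁻¹) * g := by group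
              _ = z * g := by rw [h1]
          simpa using H.inv_mem hgH
        · have e : g⁻¹ * u * g = z := by rw [← h1]; group
          have hmem : g⁻¹ * u * g ∈ H := by rw [e]; exact hzH
          rw [hΦpos _ hmem]
          apply signHom_apply_of_mem
          show g⁻¹ * u * g ∈ K
          rw [e]; exact hzK
        · -- g z g⁻¹ = z u
          have htH : g⁻¹ * z * g ∈ H := by
            have := hfixF z ((hFmem z).mpr ⟨hc.z_mem, (hc.z_comm u huQ).symm⟩)
            rwa [hc.z_inv] at this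
          have e : g⁻¹ * u * g = (g⁻¹ * z * g) * z := by
            have hu' : u = z * (g * z * g⁻¹) := by
              rw [h1, ← mul_assoc, hc.z_sq, one_mul]
            calc g⁻¹ * u * g = g⁻¹ * (z * (g * z * g⁻¹)) * g := by rw [← hu']
              _ = (g⁻¹ * z * g) * z := by group
          have hmem : g⁻¹ * u * g ∈ H := by rw [e]; exact H.mul_mem htH hzH
          obtain ⟨f₁, hf₁Q, f₂, hf₂Q, hf₁u, hf₂u, hcomm⟩ :=
            exists_commutator_eq hc hcard huQ hu1 huz huu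
          have hc1 : g⁻¹ * f₁ * g ∈ H := by
            have := hfixF f₁⁻¹ (F.inv_mem ((hFmem f₁).mpr ⟨hf₁Q, hf₁u⟩))
            rwa [inv_inv] at this
          have hc2 : g⁻¹ * f₂ * g ∈ H := by
            have := hfixF f₂⁻¹ (F.inv_mem ((hFmem f₂).mpr ⟨hf₂Q, hf₂u⟩))
            rwa [inv_inv] at this
          have h5 := signHom_commutator H K hidx hc1 hc2
          rw [signHom_eq_one] at h5
          have h6 : (g⁻¹ * f₁ * g) * (g⁻¹ * f₂ * g) * (g⁻¹ * f₁ * g)⁻¹ * (g⁻¹ * f₂ * g)⁻¹ = g⁻¹ * z * g := by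
            rw [← hcomm]; group
          have htK : g⁻¹ * z * g ∈ K := by
            have : (g⁻¹ * f₁ * g) * (g⁻¹ * f₂ * g) * (g⁻¹ * f₁ * g)⁻¹ * (g⁻¹ * f₂ * g)⁻¹ ∈ K := h5
            rwa [h6] at this
          rw [hΦpos _ hmem]
          apply signHom_apply_of_mem
          show g⁻¹ * u * g ∈ K
          rw [e]; exact K.mul_mem htK hzK
      rw [hf'def, ← hg, hval]
      simp
    · intro hnot1
      exfalso
      apply hnot1
      rw [Finset.mem_filter]
      refine ⟨Finset.mem_univ _, ?_⟩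
      intro p
      rw [hsub, hfixiff]
      have : (p : G) ∈ H := hQH ((hFmem p).mp p.2).1
      simpa using H.inv_mem this
  rw [heval] at hred
  exact absurd hred (by decide)

end Cfsg.Agent.Lib.Helper9.ESTransfer
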