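import Mathlib
import Cfsg.Agent.Lib.Helper9.Elus1

set_option autoImplicit false

/-! Counting flags `U ≤ W` with `dim U = m`, `dim W = d - m`. -/

namespace Cfsg.Agent.Lib.Helper9.H9Elus

open Module

section nat

theorem prod_pow_sub_one_pos (Q k : ℕ) (hQ : 2 ≤ Q) : 0 < ∏ j : Fin k, (Q ^ (k - j.val) - 1) := by
  apply Finset.prod_pos
  intro j _
  have h1 : 0 < k - j.val := by have := j.2; omega
  have h2 : 2 ^ (k - j.val) ≤ Q ^ (k - j.val) := Nat.pow_le_pow_left hQ _
  have h3 : 2 ≤ 2 ^ (k - j.val) := by
    calc 2 = 2 ^ 1 := rfl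
      _ ≤ 2 ^ (k - j.val) := Nat.pow_le_pow_right (by norm_num) h1
  omega

theorem prod_split (Q d k : ℕ) (hk : k ≤ d) :
    (∏ j : Fin k, (Q ^ (d - j.val) - 1)) * ∏ j : Fin (d - k), (Q ^ (d - k - j.val) - 1)
      = ∏ j : Fin d, (Q ^ (d - j.val) - 1) := by
  rw [Fin.prod_univ_eq_prod_range (fun j => Q ^ (d - j) - 1) k,
    Fin.prod_univ_eq_prod_range (fun j => Q ^ (d - k - j) - 1) (d - k),
    Fin.prod_univ_eq_prod_range (fun j => Q ^ (d - j) - 1) d]
  have hd : d = k + (d - k) := by omega
  conv_rhs => rw [hd, Finset.prod_range_add]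
  congr 1
  · apply Finset.prod_congr rfl
    intro j _
    rw [← hd]
  · apply Finset.prod_congr rfl
    intro j _
    rw [← hd, Nat.sub_add_eq]

end nat

section
variable {F V : Type*} [Field F] [Fintype F] [AddCommGroup V] [Module F V] [Finite V]

theorem two_le_card_field : 2 ≤ Fintype.card F := Fintype.one_lt_card

theorem card_subspaces_symm (k : ℕ) (hk : k ≤ finrank F V) :
    Nat.card {W : Submodule F V // finrank F W = k}
      = Nat.card {W : Submodule F V // finrank F W = finrank F V - k} := by
  have h1 := card_subspaces_mul' (F := F) (V := V) k hk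
  have h2 := card_subspaces_mul' (F := F) (V := V) (finrank F V - k) (Nat.sub_le _ _)
  have h3 := prod_split (Fintype.card F) (finrank F V) k hk
  have h4 := prod_split (Fintype.card F) (finrank F V) (finrank F V - k) (Nat.sub_le _ _)
  have hkk : finrank F V - (finrank F V - k) = k := by omega
  rw [hkk] at h4
  have hpos1 := prod_pow_sub_one_pos (Fintype.card F) k (two_le_card_field (F := F))
  have hpos2 := prod_pow_sub_one_pos (Fintype.card F) (finrank F V - k) (two_le_card_field (F := F))
  have h5 : Nat.card {W : Submodule F V // finrank F W = k} *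
      ((∏ j : Fin k, (Fintype.card F ^ (k - j.val) - 1)) *
        ∏ j : Fin (finrank F V - k), (Fintype.card F ^ (finrank F V - k - j.val) - 1))
      = Nat.card {W : Submodule F V // finrank F W = finrank F V - k} *
      ((∏ j : Fin k, (Fintype.card F ^ (k - j.val) - 1)) *
        ∏ j : Fin (finrank F V - k), (Fintype.card F ^ (finrank F V - k - j.val) - 1)) := by
    rw [← mul_assoc, h1, h3, mul_comm (∏ j : Fin k, (Fintype.card F ^ (k - j.val) - 1)),
      ← mul_assoc, h2, h4]
  exact Nat.eq_of_mul_eq_mul_right (Nat.mul_pos hpos1 hpos2) h5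

end

section flags
variable {F V : Type*} [Field F] [Fintype F] [AddCommGroup V] [Module F V] [Finite V]

/-- The flags with top `W` correspond to the `m`-subspaces of `W`. -/
noncomputable def flagFiberEquiv (m d : ℕ) (W : Submodule F V) (hW : finrank F W = d - m) :
    {P : {P : Submodule F V × Submodule F V //
        P.1 ≤ P.2 ∧ finrank F P.1 = m ∧ finrank F P.2 = d - m} // P.1.2 = W} ≃
      {U' : Submodule F W // finrank F U' = m} where
  toFun P := ⟨P.1.1.1.comap W.subtype, by
    have h1 : P.1.1.1 ≤ W := by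
      have h0 := P.1.2.1
      rw [P.2] at h0
      exact h0
    rw [(Submodule.comapSubtypeEquivOfLe h1).finrank_eq]
    exact P.1.2.2.1⟩
  invFun U' := ⟨⟨(U'.1.map W.subtype, W), Submodule.map_subtype_le W U'.1, by
    show finrank F ↥(U'.1.map W.subtype) = m
    exact ((Submodule.equivSubtypeMap W U'.1).symm.finrank_eq).trans U'.2, hW⟩, rfl⟩
  left_inv P := by
    obtain ⟨⟨⟨U, W'⟩, h1, h2, h3⟩, h4⟩ := P
    have h4' : W' = W := h4
    subst h4'
    apply Subtype.ext
    apply Subtype.ext
    apply Prod.ext
    · show (U.comap W'.subtype).map W'.subtype = U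
      rw [Submodule.map_comap_subtype]
      exact inf_eq_right.mpr h1
    · rfl
  right_inv U' := by
    apply Subtype.ext
    show (U'.1.map W.subtype).comap W.subtype = U'.1
    exact Submodule.comap_map_eq_of_injective W.injective_subtype U'.1

theorem card_flags_mul (m d : ℕ) (hd : finrank F V = d) (hm : 2 * m ≤ d) :
    Nat.card {P : Submodule F V × Submodule F V //
        P.1 ≤ P.2 ∧ finrank F P.1 = m ∧ finrank F P.2 = d - m} *
      ((∏ j : Fin m, (Fintype.card F ^ (m - j.val) - 1)) *
        ∏ j : Fin m, (Fintype.card F ^ (m - j.val) - 1))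
      = (∏ j : Fin m, (Fintype.card F ^ (d - j.val) - 1)) *
        ∏ j : Fin m, (Fintype.card F ^ (d - m - j.val) - 1) := by
  classical
  letI : Fintype {W : Submodule F V // finrank F W = d - m} := Fintype.ofFinite _
  have hfib : ∀ W : {W : Submodule F V // finrank F W = d - m},
      Nat.card {P : {P : Submodule F V × Submodule F V //
        P.1 ≤ P.2 ∧ finrank F P.1 = m ∧ finrank F P.2 = d - m} // P.1.2 = W.1} *
        (∏ j : Fin m, (Fintype.card F ^ (m - j.val) - 1))
      = ∏ j : Fin m, (Fintype.card F ^ (d - m - j.val) - 1) := by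
    intro W
    rw [Nat.card_congr (flagFiberEquiv m d W.1 W.2)]
    have := card_subspaces_mul' (F := F) (V := W.1) m (by rw [W.2]; omega)
    rw [W.2] at this
    exact this
  let f : {P : Submodule F V × Submodule F V //
        P.1 ≤ P.2 ∧ finrank F P.1 = m ∧ finrank F P.2 = d - m} →
      {W : Submodule F V // finrank F W = d - m} := fun P => ⟨P.1.2, P.2.2.2⟩
  have hcard : Nat.card {P : Submodule F V × Submodule F V //
        P.1 ≤ P.2 ∧ finrank F P.1 = m ∧ finrank F P.2 = d - m}
      = ∑ W : {W : Submodule F V // finrank F W = d - m},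
        Nat.card {P : {P : Submodule F V × Submodule F V //
        P.1 ≤ P.2 ∧ finrank F P.1 = m ∧ finrank F P.2 = d - m} // P.1.2 = W.1} := by
    rw [← Nat.card_congr (Equiv.sigmaFiberEquiv f), Nat.card_sigma]
    apply Finset.sum_congr rfl
    intro W _
    apply Nat.card_congr
    refine Equiv.subtypeEquivRight ?_
    intro P
    constructor
    · intro h
      exact congrArg Subtype.val h
    · intro h
      exact Subtype.ext h
  have hsum : Nat.card {P : Submodule F V × Submodule F V //
        P.1 ≤ P.2 ∧ finrank F P.1 = m ∧ finrank F P.2 = d - m} *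
        (∏ j : Fin m, (Fintype.card F ^ (m - j.val) - 1))
      = Nat.card {W : Submodule F V // finrank F W = d - m} *
        ∏ j : Fin m, (Fintype.card F ^ (d - m - j.val) - 1) := by
    rw [hcard, Finset.sum_mul, Finset.sum_congr rfl (fun W _ => hfib W), Finset.sum_const,
      Finset.card_univ, smul_eq_mul, Nat.card_eq_fintype_card]
  have hsymm : Nat.card {W : Submodule F V // finrank F W = d - m}
      = Nat.card {W : Submodule F V // finrank F W = m} := by
    have := card_subspaces_symm (F := F) (V := V) m (by rw [hd]; omega)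
    rw [hd] at this
    exact this.symm
  have hm' := card_subspaces_mul' (F := F) (V := V) m (by rw [hd]; omega)
  rw [hd] at hm'
  rw [← mul_assoc, hsum, hsymm, mul_right_comm, hm']

theorem exists_dvd_of_dvd_card_flags (m d : ℕ) (hd : finrank F V = d) (hm : 2 * m ≤ d) {r : ℕ}
    (hr : r.Prime)
    (h : r ∣ Nat.card {P : Submodule F V × Submodule F V //
        P.1 ≤ P.2 ∧ finrank F P.1 = m ∧ finrank F P.2 = d - m}) :
    ∃ k, d - 2 * m < k ∧ k ≤ d ∧ r ∣ Fintype.card F ^ k - 1 := by
  have h1 := card_flags_mul (F := F) (V := V) m d hd hm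
  have h2 : r ∣ (∏ j : Fin m, (Fintype.card F ^ (d - j.val) - 1)) *
        ∏ j : Fin m, (Fintype.card F ^ (d - m - j.val) - 1) := by
    rw [← h1]
    exact Dvd.dvd.mul_right h _
  rcases (Nat.Prime.dvd_mul hr).mp h2 with h3 | h3
  · obtain ⟨j, -, hj⟩ := (Prime.dvd_finset_prod_iff hr.prime _).mp h3
    exact ⟨d - j.val, by have := j.2; omega, by omega, hj⟩
  · obtain ⟨j, -, hj⟩ := (Prime.dvd_finset_prod_iff hr.prime _).mp h3
    exact ⟨d - m - j.val, by have := j.2; omega, by omega, hj⟩

end flags

end Cfsg.Agent.Lib.Helper9.H9Elus
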