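import Mathlib
import Cfsg.Agent.Lib.Helper9.Elus9
import Cfsg.Agent.Lib.Helper9.Elus10
import Cfsg.Agent.Lib.Helper9.Elus11

set_option autoImplicit false

/-! Glue lemmas for the flag statement. -/

namespace Cfsg.Agent.Lib.Helper9.H9Elus

open Module Polynomial
open Cfsg.Agent.H9SemiInv

section
variable {F V : Type*} [Field F] [Fintype F] {p : ℕ} [Fact p.Prime] [CharP F p]
  [AddCommGroup V] [Module F V] [FiniteDimensional F V]

theorem exists_flag_of_pow_eq_smul_pow (r : ℕ) [Fact r.Prime] (hrp : r ≠ p) (z : V →ₗ[F] V)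
    (d : F) (hd0 : d ≠ 0) (hz : z ^ r = d ^ r • 1) (m : ℕ) (h2m : 2 * m ≤ finrank F V)
    (hmod : 2 * (m % orderOf ((Fintype.card F : ℕ) : ZMod r)) ≤
      finrank F V % orderOf ((Fintype.card F : ℕ) : ZMod r)) :
    ∃ U W : Submodule F V, U ≤ W ∧ Inv z U ∧ Inv z W ∧ finrank F U = m ∧
      finrank F W = finrank F V - m := by
  have hy : (d⁻¹ • z) ^ r = 1 := by
    rw [_root_.smul_pow, hz, smul_smul, ← mul_pow, inv_mul_cancel₀ hd0, one_pow, one_smul]
  obtain ⟨U, W, hUW, hU, hW, hUm, hWm⟩ := exists_flag_of_mod r hrp (d⁻¹ • z) hy m h2m hmod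
  have key : ∀ W : Submodule F V, Inv (d⁻¹ • z) W → Inv z W := by
    intro W hW v hv
    have h1 := W.smul_mem d (hW v hv)
    rwa [LinearMap.smul_apply, smul_smul, mul_inv_cancel₀ hd0, one_smul] at h1
  exact ⟨U, W, hUW, key U hU, key W hW, hUm, hWm⟩

/-- A flag gives two disjoint invariant subspaces of dimension `m`. -/
theorem two_mod_le_of_flag (r : ℕ) [Fact r.Prime] (hrp : r ≠ p) (y : V →ₗ[F] V) (hy : y ^ r = 1)
    (U W : Submodule F V) (hUW : U ≤ W) (hU : Inv y U) (hW : Inv y W) (m : ℕ)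
    (hUm : finrank F U = m) (hWm : finrank F W = finrank F V - m) (hm : m ≤ finrank F V) (a : ℕ)
    (ha : finrank F (LinearMap.ker (aeval y (X - 1 : F[X]))) ≤ a)
    (hai : a < orderOf ((Fintype.card F : ℕ) : ZMod r)) :
    2 * (m % orderOf ((Fintype.card F : ℕ) : ZMod r)) ≤ a := by
  have hss := isSemisimple_of_pow_eq_one r hrp y hy
  obtain ⟨W₂, hW₂mem, hcompl⟩ := (Module.End.isSemisimple_iff.mp hss) W ((inv_iff_mem y W).mp hW)
  have hW₂ : Inv y W₂ := (inv_iff_mem y W₂).mpr hW₂mem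
  have hfr := Submodule.finrank_add_eq_of_isCompl hcompl
  have hW₂m : finrank F W₂ = m := by omega
  exact two_mod_le r hrp y hy U W₂ hU hW₂ (hcompl.disjoint.mono_left hUW) m hUm hW₂m a ha hai

end

section
variable {F : Type*} [Field F] [Fintype F] {p : ℕ} [Fact p.Prime] [CharP F p]

theorem exists_order_dvd_flags (n m : ℕ) (hmn : 2 * m ≤ n) (r : ℕ) [Fact r.Prime]
    (h : r ∣ Nat.card {P : Submodule F (Fin n → F) × Submodule F (Fin n → F) //
        P.1 ≤ P.2 ∧ finrank F P.1 = m ∧ finrank F P.2 = n - m}) :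
    r ≠ p ∧ ∃ k, n - 2 * m < k ∧ k ≤ n ∧ orderOf ((Fintype.card F : ℕ) : ZMod r) ∣ k := by
  have hr : r.Prime := Fact.out
  have hfr : finrank F (Fin n → F) = n := Module.finrank_fin_fun F
  obtain ⟨k, hk1, hk2, hd⟩ := exists_dvd_of_dvd_card_flags (F := F) (V := Fin n → F) m n hfr hmn hr h
  refine ⟨?_, k, hk1, hk2, (orderOf_dvd_iff_dvd r _ Fintype.card_pos _).mpr hd⟩
  rintro rfl
  obtain ⟨f, -, hf⟩ := FiniteField.card F r
  have h1 : r ∣ Fintype.card F ^ k := by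
    rw [hf, ← pow_mul]
    exact dvd_pow_self r (Nat.mul_ne_zero (PNat.ne_zero f) (by omega))
  have h2 : 1 ≤ Fintype.card F ^ k := Nat.one_le_pow _ _ Fintype.card_pos
  have h3 : r ∣ 1 := by
    have := Nat.dvd_sub h1 hd
    rwa [Nat.sub_sub_self h2] at this
  exact hr.one_lt.ne' (Nat.dvd_one.mp h3)

theorem order_le_of_two_mod_le (n m i : ℕ) (hi : 1 ≤ i)
    (hk : ∃ k, n - 2 * m < k ∧ k ≤ n ∧ i ∣ k) (hmod : 2 * (m % i) ≤ n % i) : i ≤ m := by
  obtain ⟨k, hk1, hk2, t, rfl⟩ := hk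
  by_contra hlt
  rw [not_le] at hlt
  rw [Nat.mod_eq_of_lt hlt] at hmod
  have hlt2 : n % i < i := Nat.mod_lt n (by omega)
  have hB : i * (n / i) + n % i = n := Nat.div_add_mod n i
  have h1 : n / i < t := by
    by_contra hh
    rw [not_lt] at hh
    have := Nat.mul_le_mul_left i hh
    omega
  have h2 := Nat.mul_le_mul_left i (show n / i + 1 ≤ t from h1)
  rw [mul_add, mul_one] at h2
  omega

end

end Cfsg.Agent.Lib.Helper9.H9Elus
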