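import Mathlib
import Cfsg.Prelude.Def_FusionComponents
import Cfsg.Agent.Lib.Helper9.FusionBasic
import Cfsg.Agent.Lib.Helper9.FusionAut
import Cfsg.Agent.Lib.Helper9.FusionTransport

set_option autoImplicit false
open Cfsg
open Cfsg.FusionSystem

/-! The subsystem of `F` with only inner automorphisms of `S`. -/

namespace Cfsg.Agent.Lib.Helper9

variable {Ω : Type*} [Group Ω] {S : Subgroup Ω}

theorem autGroup_le_of_le_imp (F E : FusionSystem S) (R : Subgroup Ω)
    (h : R ≤ S → F.autGroup R ≤ E.autGroup R) : F.autGroup R ≤ E.autGroup R := by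
  by_cases hR : R ≤ S
  · exact h hR
  · unfold FusionSystem.autGroup
    rw [Subgroup.closure_le]
    intro α hα
    exact absurd (F.le_of_mem hα).1 hR

/-- The maps of `F` that are inner when their source is all of `S`. -/
def topInnerSys [Finite S] (F : FusionSystem S) : FusionSystem S where
  Hom P := {φ | φ ∈ F.Hom P ∧ (P = S → ∃ g ∈ S, ∀ x : P, φ x = g * (x : Ω) * g⁻¹)}
  le_of_mem h := F.le_of_mem h.1
  injective_of_mem h := F.injective_of_mem h.1
  conj_mem := by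
    intro P g hP hg
    exact ⟨F.conj_mem hP hg, fun _ => ⟨g, hg, fun x => rfl⟩⟩
  comp_mem := by
    rintro P Q φ ψ ⟨hφ, hφi⟩ ⟨hψ, hψi⟩ h
    refine ⟨F.comp_mem hφ hψ h, ?_⟩
    intro hPS
    obtain ⟨g, hg, Hg⟩ := hφi hPS
    have hQS : Q ≤ S := (F.le_of_mem hψ).1
    have hQeq : Q = S := by
      apply le_antisymm hQS
      intro s hs
      have hx : g⁻¹ * s * g ∈ P := by
        rw [hPS]
        exact S.mul_mem (S.mul_mem (S.inv_mem hg) hs) hg
      have := h ⟨g⁻¹ * s * g, hx⟩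
      rw [Hg] at this
      have e : g * (g⁻¹ * s * g) * g⁻¹ = s := by group
      rw [← e]
      exact this
    obtain ⟨k, hk, Hk⟩ := hψi hQeq
    refine ⟨k * g, S.mul_mem hk hg, fun x => ?_⟩
    show ψ ⟨φ x, h x⟩ = _
    rw [Hk]
    show k * φ x * k⁻¹ = _
    rw [Hg]
    group
  inv_mem := by
    rintro P φ ⟨hφ, hφi⟩
    obtain ⟨χ, hχ, Hχ⟩ := F.inv_mem hφ
    refine ⟨χ, ⟨hχ, ?_⟩, Hχ⟩
    intro hRS
    have hPS : P ≤ S := (F.le_of_mem hφ).1
    have hcard : Nat.card P = Nat.card S := by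
      rw [Nat.card_congr (fsEquiv F hφ).toEquiv, hRS]
    have hPeq : P = S := Subgroup.eq_of_le_of_card_ge hPS (le_of_eq hcard.symm)
    obtain ⟨g, hg, Hg⟩ := hφi hPeq
    refine ⟨g⁻¹, S.inv_mem hg, ?_⟩
    rintro ⟨_, x, rfl⟩
    rw [Hχ x]
    show (x : Ω) = g⁻¹ * φ x * g⁻¹⁻¹
    rw [Hg]
    group

theorem autGroup_le_topInnerSys [Finite S] (F : FusionSystem S) {R : Subgroup Ω} (hR : R ≠ S) :
    F.autGroup R ≤ (topInnerSys F).autGroup R := by
  unfold FusionSystem.autGroup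
  apply Subgroup.closure_mono
  intro α hα
  exact ⟨hα, fun h => absurd h hR⟩

theorem topInnerSys_autGroup_le [Finite S] (F E : FusionSystem S) :
    (topInnerSys F).autGroup S ≤ E.autGroup S := by
  intro α hα
  rw [mem_autGroup_iff _ le_rfl] at hα
  obtain ⟨g, hg, Hg⟩ := hα.2 rfl
  rw [mem_autGroup_iff _ le_rfl]
  have : S.subtype.comp α.toMonoidHom = conjHom S g := by
    ext x
    exact Hg x
  rw [this]
  exact E.conj_mem le_rfl hg

end Cfsg.Agent.Lib.Helper9
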