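import Mathlib

set_option autoImplicit false

/-! Diagonalisation of a `3 × 3` matrix annihilated by a product of distinct linear factors,
and cube roots in finite fields. -/

namespace Cfsg.Agent.Lib.Helper9.H9E27

open Polynomial

section
variable {F : Type*} [Field F] {V : Type*} [AddCommGroup V] [Module F V]

theorem ker_aeval_prod (f : Module.End F V) (Λ : Finset F) :
    LinearMap.ker (aeval f (∏ l ∈ Λ, (X - C l))) = ⨆ l ∈ Λ, LinearMap.ker (f - l • 1) := by
  classical
  induction Λ using Finset.induction_on with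
  | empty =>
    simp only [Finset.prod_empty, map_one, Finset.notMem_empty, iSup_false, iSup_bot]
    exact LinearMap.ker_id
  | insert a s ha ih =>
    rw [Finset.prod_insert ha, Finset.iSup_insert, ← ih]
    have hcop : IsCoprime (X - C a) (∏ l ∈ s, (X - C l)) := by
      apply IsCoprime.prod_right
      intro l hl
      apply isCoprime_X_sub_C_of_isUnit_sub
      apply IsUnit.mk0
      intro h
      apply ha
      rw [sub_eq_zero] at h
      rw [h]
      exact hl
    rw [← sup_ker_aeval_eq_ker_aeval_mul_of_coprime f hcop]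
    congr 2
    simp only [map_sub, aeval_X, aeval_C, Module.algebraMap_end_eq_smul_id]
    rfl

theorem span_eigen_of_prod (f : Module.End F V) (Λ : Finset F)
    (h : aeval f (∏ l ∈ Λ, (X - C l)) = 0) :
    Submodule.span F {v : V | ∃ l ∈ Λ, f v = l • v} = ⊤ := by
  have h1 := ker_aeval_prod f Λ
  rw [h, LinearMap.ker_zero] at h1
  rw [eq_top_iff, h1]
  apply iSup₂_le
  intro l hl v hv
  apply Submodule.subset_span
  refine ⟨l, hl, ?_⟩
  rw [LinearMap.mem_ker, LinearMap.sub_apply, LinearMap.smul_apply, Module.End.one_apply,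
    sub_eq_zero] at hv
  exact hv

end

section
variable {F : Type*} [Field F]

theorem exists_eigenbasis (x : Matrix (Fin 3) (Fin 3) F) (Λ : Finset F)
    (h : aeval x (∏ l ∈ Λ, (X - C l)) = 0) :
    ∃ (S : Matrix (Fin 3) (Fin 3) F) (d : Fin 3 → F), IsUnit S ∧ (∀ i, d i ∈ Λ) ∧
      x * S = S * Matrix.diagonal d := by
  classical
  set f : Module.End F (Fin 3 → F) := Matrix.toLinAlgEquiv' x with hf
  have hf0 : aeval f (∏ l ∈ Λ, (X - C l)) = 0 := by
    rw [hf, aeval_algHom_apply, h, map_zero]
  have hspan := span_eigen_of_prod f Λ hf0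
  obtain ⟨b, hbE, hspan', hli⟩ := exists_linearIndependent F
    {v : Fin 3 → F | ∃ l ∈ Λ, f v = l • v}
  rw [hspan] at hspan'
  let B : Module.Basis b F (Fin 3 → F) := Module.Basis.mk hli (by
    rw [Subtype.range_coe, hspan'])
  haveI : Fintype b := FiniteDimensional.fintypeBasisIndex B
  have hcard : Fintype.card b = 3 := by
    rw [← Module.finrank_eq_card_basis B, Module.finrank_fin_fun]
  let e : Fin 3 ≃ b := (Fintype.equivFinOfCardEq hcard).symm
  set v : Fin 3 → (Fin 3 → F) := fun j => ((e j : b) : Fin 3 → F) with hv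
  have hvli : LinearIndependent F v := hli.comp e e.injective
  have hvE : ∀ j, ∃ l ∈ Λ, f (v j) = l • v j := fun j => hbE (e j).2
  choose d hdΛ hd using hvE
  refine ⟨Matrix.of (fun i j => v j i), d, ?_, hdΛ, ?_⟩
  · rw [← Matrix.linearIndependent_cols_iff_isUnit]
    exact hvli
  · ext i j
    rw [Matrix.mul_diagonal, Matrix.mul_apply]
    have := congrFun (hd j) i
    rw [hf, Matrix.toLinAlgEquiv'_apply, Matrix.mulVec, dotProduct] at this
    simp only [Matrix.of_apply]
    rw [this, Pi.smul_apply, smul_eq_mul, mul_comm]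

end

section
variable {F : Type*} [Field F] [Fintype F]

theorem exists_prim_cube_root (h3 : 3 ∣ Fintype.card F - 1) :
    ∃ ω : F, ω ≠ 1 ∧ ω ^ 3 = 1 := by
  classical
  have hcard : Nat.card Fˣ = Fintype.card F - 1 := by
    rw [Nat.card_eq_fintype_card, Fintype.card_units]
  haveI : Fact (Nat.Prime 3) := ⟨Nat.prime_three⟩
  obtain ⟨u, hu⟩ := exists_prime_orderOf_dvd_card' (G := Fˣ) 3 (by rw [hcard]; exact h3)
  refine ⟨(u : F), ?_, ?_⟩
  · intro h
    have : u = 1 := Units.ext h
    rw [this, orderOf_one] at hu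
    norm_num at hu
  · have := pow_orderOf_eq_one u
    rw [hu] at this
    have := congrArg Units.val this
    simpa using this

theorem exists_cube_root (h9 : 9 ∣ Fintype.card F - 1) (c : F) (hc : c ^ 3 = 1) :
    ∃ μ : F, μ ^ 3 = c := by
  classical
  have hcard : Nat.card Fˣ = Fintype.card F - 1 := by
    rw [Nat.card_eq_fintype_card, Fintype.card_units]
  obtain ⟨g, hg⟩ := IsCyclic.exists_generator (α := Fˣ)
  have hog : orderOf g = Fintype.card F - 1 := by
    rw [orderOf_eq_card_of_forall_mem_zpowers hg, hcard]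
  have hc0 : c ≠ 0 := by
    intro h
    rw [h] at hc
    norm_num at hc
  obtain ⟨k, hk⟩ := Subgroup.mem_zpowers_iff.mp (hg (Units.mk0 c hc0))
  obtain ⟨m, hm⟩ := h9
  have h1 : g ^ (k * 3) = 1 := by
    rw [zpow_mul, hk]
    apply Units.ext
    simpa using hc
  have h2 := orderOf_dvd_iff_zpow_eq_one.mpr h1
  rw [hog, hm] at h2
  have h3 : ((3 * m : ℕ) : ℤ) ∣ k := by
    have : ((9 * m : ℕ) : ℤ) = ((3 * m : ℕ) : ℤ) * 3 := by push_cast; ring
    rw [this] at h2
    exact (mul_dvd_mul_iff_right (by norm_num : (3 : ℤ) ≠ 0)).mp h2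
  obtain ⟨j, hj⟩ := h3
  refine ⟨((g ^ ((m : ℤ) * j) : Fˣ) : F), ?_⟩
  have : (g ^ ((m : ℤ) * j)) ^ 3 = Units.mk0 c hc0 := by
    rw [← hk, hj, ← zpow_natCast, ← zpow_mul]
    congr 1
    push_cast
    ring
  have := congrArg Units.val this
  simpa using this

end

end Cfsg.Agent.Lib.Helper9.H9E27
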