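import Mathlib
import Cfsg.Agent.Lib.Helper9.Ext3SL3a

set_option autoImplicit false

/-! The standard generators of the extraspecial group `3^{1+2}` inside `GL_3(F)` and some
elements normalising it. -/

namespace Cfsg.Agent.Lib.Helper9.H9E27

open scoped MatrixGroups
open Matrix

section
variable {F : Type*} [Field F]

/-- the cyclic shift `e_i ↦ e_{i+1}` -/
def mX : Matrix (Fin 3) (Fin 3) F := !![0, 0, 1; 1, 0, 0; 0, 1, 0]

/-- minus the transposition of the last two coordinates -/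
def mT : Matrix (Fin 3) (Fin 3) F := !![-1, 0, 0; 0, 0, -1; 0, -1, 0]

theorem mX_mul_transpose : (mX : Matrix (Fin 3) (Fin 3) F) * mXᵀ = 1 := by
  ext i j
  fin_cases i <;> fin_cases j <;> simp [mX, Matrix.mul_apply, Fin.sum_univ_three]

theorem mX_transpose_mul : (mX : Matrix (Fin 3) (Fin 3) F)ᵀ * mX = 1 := by
  ext i j
  fin_cases i <;> fin_cases j <;> simp [mX, Matrix.mul_apply, Fin.sum_univ_three]

theorem mT_mul_self : (mT : Matrix (Fin 3) (Fin 3) F) * mT = 1 := by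
  ext i j
  fin_cases i <;> fin_cases j <;> simp [mT, Matrix.mul_apply, Fin.sum_univ_three]

/-- the cyclic shift as an invertible matrix -/
def gX : GL (Fin 3) F := ⟨mX, mXᵀ, mX_mul_transpose, mX_transpose_mul⟩

/-- minus the transposition as an invertible matrix -/
def gT : GL (Fin 3) F := ⟨mT, mT, mT_mul_self, mT_mul_self⟩

/-- invertible diagonal matrices -/
def dg (d : Fin 3 → Fˣ) : GL (Fin 3) F :=
  ⟨Matrix.diagonal (fun i => (d i : F)), Matrix.diagonal (fun i => ((d i)⁻¹ : Fˣ)),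
    by rw [Matrix.diagonal_mul_diagonal]; simp,
    by rw [Matrix.diagonal_mul_diagonal]; simp⟩

@[simp] theorem coe_gX : ((gX : GL (Fin 3) F) : Matrix (Fin 3) (Fin 3) F) = mX := rfl
@[simp] theorem coe_gT : ((gT : GL (Fin 3) F) : Matrix (Fin 3) (Fin 3) F) = mT := rfl
@[simp] theorem coe_dg (d : Fin 3 → Fˣ) :
    ((dg d : GL (Fin 3) F) : Matrix (Fin 3) (Fin 3) F) = Matrix.diagonal (fun i => (d i : F)) := rfl

theorem coe_gX_inv : (((gX : GL (Fin 3) F)⁻¹ : GL (Fin 3) F) : Matrix (Fin 3) (Fin 3) F) = mXᵀ := rfl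

theorem dg_mul (d d' : Fin 3 → Fˣ) : (dg d * dg d' : GL (Fin 3) F) = dg (d * d') := by
  apply Units.ext
  rw [Units.val_mul, coe_dg, coe_dg, coe_dg, Matrix.diagonal_mul_diagonal]
  congr 1

theorem dg_one : (dg (1 : Fin 3 → Fˣ) : GL (Fin 3) F) = 1 := by
  apply Units.ext
  rw [coe_dg]
  simp

theorem dg_inv (d : Fin 3 → Fˣ) : ((dg d)⁻¹ : GL (Fin 3) F) = dg d⁻¹ := by
  rw [inv_eq_iff_mul_eq_one, dg_mul, mul_inv_cancel, dg_one]

theorem dg_comm (d d' : Fin 3 → Fˣ) : (dg d * dg d' : GL (Fin 3) F) = dg d' * dg d := by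
  rw [dg_mul, dg_mul, mul_comm]

theorem dg_pow (d : Fin 3 → Fˣ) (n : ℕ) : (dg d ^ n : GL (Fin 3) F) = dg (d ^ n) := by
  induction n with
  | zero => rw [pow_zero, pow_zero, dg_one]
  | succ n ih => rw [pow_succ, pow_succ, ih, dg_mul]

theorem det_dg (d : Fin 3 → Fˣ) :
    Matrix.GeneralLinearGroup.det (dg d : GL (Fin 3) F) = d 0 * d 1 * d 2 := by
  apply Units.ext
  simp [Matrix.det_diagonal, Fin.prod_univ_three]

/-- scalar matrices -/
def sc (u : Fˣ) : GL (Fin 3) F := dg (fun _ => u)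

/-- `diag(1, v, v^2)` -/
def dY (v : Fˣ) : GL (Fin 3) F := dg ![1, v, v ^ 2]

theorem coe_sc (u : Fˣ) :
    ((sc u : GL (Fin 3) F) : Matrix (Fin 3) (Fin 3) F) = (u : F) • (1 : Matrix (Fin 3) (Fin 3) F) := by
  rw [sc, coe_dg]
  ext i j
  by_cases h : i = j
  · subst h; simp
  · simp [h]

theorem sc_comm (u : Fˣ) (M : GL (Fin 3) F) : sc u * M = M * sc u := by
  apply Units.ext
  rw [Units.val_mul, Units.val_mul, coe_sc]
  simp

theorem sc_pow (u : Fˣ) (n : ℕ) : (sc u ^ n : GL (Fin 3) F) = sc (u ^ n) := by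
  rw [sc, sc, dg_pow]
  rfl

theorem dY_pow (v : Fˣ) (n : ℕ) : (dY v ^ n : GL (Fin 3) F) = dY (v ^ n) := by
  rw [dY, dY, dg_pow]
  congr 1
  ext i
  fin_cases i
  · simp
  · simp
  · show (((v ^ 2) ^ n : Fˣ) : F) = (((v ^ n) ^ 2 : Fˣ) : F)
    rw [← pow_mul, ← pow_mul, mul_comm]

theorem det_gX : Matrix.GeneralLinearGroup.det (gX : GL (Fin 3) F) = 1 := by
  apply Units.ext
  simp [mX, Matrix.det_fin_three]

theorem det_gT : Matrix.GeneralLinearGroup.det (gT : GL (Fin 3) F) = 1 := by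
  apply Units.ext
  simp [mT, Matrix.det_fin_three]

/-- the commutator relation `Y X = ζ X Y` -/
theorem dY_mul_gX (v : Fˣ) (hv : v ^ 3 = 1) :
    (dY v * gX : GL (Fin 3) F) = sc v * gX * dY v := by
  have hv' : (v : F) ^ 3 = 1 := by
    have := congrArg Units.val hv
    simpa using this
  apply Units.ext
  rw [Units.val_mul, Units.val_mul, Units.val_mul, coe_sc, coe_gX, dY, coe_dg]
  ext i j
  fin_cases i <;> fin_cases j <;>
    simp [mX, Matrix.mul_apply, Matrix.diagonal_apply]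
  · rw [← pow_succ', hv']
  · ring

/-- conjugating the shift by a diagonal matrix -/
theorem dg_mul_gX (d : Fin 3 → Fˣ) :
    (dg d * gX : GL (Fin 3) F) = gX * dg ![d 1 / d 0, d 2 / d 1, d 0 / d 2] * dg d := by
  rw [mul_assoc, dg_mul]
  apply Units.ext
  rw [Units.val_mul, Units.val_mul, coe_gX, coe_dg, coe_dg]
  ext i j
  fin_cases i <;> fin_cases j <;>
    simp [mX, Matrix.mul_apply, Matrix.diagonal_apply]

theorem gT_mul_gX : (gT * gX : GL (Fin 3) F) = gX⁻¹ * gT := by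
  apply Units.ext
  rw [Units.val_mul, Units.val_mul, coe_gX_inv, coe_gX, coe_gT]
  ext i j
  fin_cases i <;> fin_cases j <;>
    simp [mX, mT, Matrix.mul_apply, Fin.sum_univ_three]

theorem gT_mul_dY (v : Fˣ) (hv : v ^ 3 = 1) : (gT * dY v : GL (Fin 3) F) = dY (v ^ 2) * gT := by
  have hv' : (v : F) ^ 3 = 1 := by
    have := congrArg Units.val hv
    simpa using this
  apply Units.ext
  rw [Units.val_mul, Units.val_mul, coe_gT, dY, dY, coe_dg, coe_dg]
  ext i j
  fin_cases i <;> fin_cases j <;>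
    simp [mT, Matrix.mul_apply, Matrix.diagonal_apply]
  · rw [← pow_mul]
    have : (v : F) ^ (2 * 2) = v ^ 3 * v := by ring
    rw [this, hv', one_mul]

end

end Cfsg.Agent.Lib.Helper9.H9E27
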