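import Mathlib
import Cfsg.Agent.Lib.Helper9.Ext3SL3b

set_option autoImplicit false

/-! Elements normalising the standard extraspecial group, and conjugating semisimple elements
onto them with prescribed determinant. -/

namespace Cfsg.Agent.Lib.Helper9.H9E27

open scoped MatrixGroups
open Matrix

section
variable {F : Type*} [Field F]

theorem zeta_cube (ζ : F) (hζ : ζ ^ 2 + ζ + 1 = 0) : ζ ^ 3 = 1 := by
  linear_combination (ζ - 1) * hζ

theorem zeta_ne_one (h3 : (3 : F) ≠ 0) (ζ : F) (hζ : ζ ^ 2 + ζ + 1 = 0) : ζ ≠ 1 := by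
  intro h
  rw [h] at hζ
  apply h3
  linear_combination hζ

theorem zeta_sq_ne_one (h3 : (3 : F) ≠ 0) (ζ : F) (hζ : ζ ^ 2 + ζ + 1 = 0) : ζ ^ 2 ≠ 1 := by
  intro h
  have h1 : ζ = -2 := by linear_combination hζ - h
  rw [h1] at h
  apply h3
  linear_combination h

theorem exists_pow_of_cube (ζ : Fˣ) (hζ : (ζ : F) ^ 2 + ζ + 1 = 0) (u : Fˣ) (hu : u ^ 3 = 1) :
    ∃ k : ℕ, u = ζ ^ k := by
  have hu' : (u : F) ^ 3 = 1 := by
    have := congrArg Units.val hu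
    simpa using this
  have hz3 := zeta_cube (ζ : F) hζ
  have : ((u : F) - 1) * (((u : F) - ζ) * ((u : F) - ζ ^ 2)) = 0 := by
    linear_combination hu' - (u : F) ^ 2 * hζ + (u : F) * (ζ : F) * hζ - hz3
  rcases mul_eq_zero.mp this with h | h
  · refine ⟨0, ?_⟩
    apply Units.ext
    rw [pow_zero, Units.val_one]
    linear_combination h
  rcases mul_eq_zero.mp h with h | h
  · refine ⟨1, ?_⟩
    apply Units.ext
    rw [pow_one]
    linear_combination h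
  · refine ⟨2, ?_⟩
    apply Units.ext
    rw [Units.val_pow_eq_pow_val]
    linear_combination h

theorem sc_mem (R₀ : Subgroup (GL (Fin 3) F)) (ζ : Fˣ) (hζ : (ζ : F) ^ 2 + ζ + 1 = 0)
    (hX : gX ∈ R₀) (hY : dY ζ ∈ R₀) : sc ζ ∈ R₀ := by
  have hz3 : ζ ^ 3 = 1 := by
    apply Units.ext
    rw [Units.val_pow_eq_pow_val, Units.val_one]
    exact zeta_cube (ζ : F) hζ
  have h := dY_mul_gX ζ hz3
  have : sc ζ = dY ζ * gX * (dY ζ)⁻¹ * gX⁻¹ := by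
    rw [h]
    group
  rw [this]
  exact R₀.mul_mem (R₀.mul_mem (R₀.mul_mem hY hX) (R₀.inv_mem hY)) (R₀.inv_mem hX)

theorem dg_cube_mem (R₀ : Subgroup (GL (Fin 3) F)) (ζ : Fˣ) (hζ : (ζ : F) ^ 2 + ζ + 1 = 0)
    (hX : gX ∈ R₀) (hY : dY ζ ∈ R₀) (u₀ u₁ u₂ : Fˣ) (h0 : u₀ ^ 3 = 1) (h1 : u₁ ^ 3 = 1)
    (hprod : u₀ * u₁ * u₂ = 1) : dg ![u₀, u₁, u₂] ∈ R₀ := by
  have hsc := sc_mem R₀ ζ hζ hX hY
  obtain ⟨i, hi⟩ := exists_pow_of_cube ζ hζ u₀ h0
  have hv3 : (u₁ / u₀) ^ 3 = 1 := by rw [div_pow, h0, h1, div_one]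
  obtain ⟨j, hj⟩ := exists_pow_of_cube ζ hζ (u₁ / u₀) hv3
  have h1' : (u₁ : F) ^ 3 = 1 := by
    have := congrArg Units.val h1
    simpa using this
  have hprod' : (u₀ : F) * u₁ * u₂ = 1 := by
    have := congrArg Units.val hprod
    simpa using this
  have key : dg ![u₀, u₁, u₂] = sc u₀ * dY (u₁ / u₀) := by
    rw [sc, dY, dg_mul]
    congr 1
    ext k
    fin_cases k
    · simp
    · simp
    · have hu0 : (u₀ : F) ≠ 0 := u₀.ne_zero
      simp only [Pi.mul_apply]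
      show (u₂ : F) = ((u₀ * (u₁ / u₀) ^ 2 : Fˣ) : F)
      push_cast
      field_simp
      linear_combination ((u₁ : F) ^ 2) * hprod' - ((u₂ : F) * u₀) * h1'
  rw [key, hj, hi, ← sc_pow, ← dY_pow]
  exact R₀.mul_mem (R₀.pow_mem hsc _) (R₀.pow_mem hY _)

theorem diag_normalizes (R₀ : Subgroup (GL (Fin 3) F)) (ζ : Fˣ) (hζ : (ζ : F) ^ 2 + ζ + 1 = 0)
    (hX : gX ∈ R₀) (hY : dY ζ ∈ R₀) (d : Fin 3 → Fˣ) (c : Fˣ) (hd : ∀ i, d i ^ 3 = c) :
    dg d * gX * (dg d)⁻¹ ∈ R₀ ∧ dg d * dY ζ * (dg d)⁻¹ ∈ R₀ := by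
  constructor
  · rw [dg_mul_gX, mul_inv_cancel_right]
    apply R₀.mul_mem hX
    apply dg_cube_mem R₀ ζ hζ hX hY
    · rw [div_pow, hd, hd, div_self']
    · rw [div_pow, hd, hd, div_self']
    · rw [mul_comm (d 1 / d 0), div_mul_div_cancel, div_mul_div_cancel, div_self']
  · rw [dY, dg_comm, mul_inv_cancel_right]
    exact hY

theorem gT_normalizes (R₀ : Subgroup (GL (Fin 3) F)) (ζ : Fˣ) (hζ : (ζ : F) ^ 2 + ζ + 1 = 0)
    (hX : gX ∈ R₀) (hY : dY ζ ∈ R₀) (ν : Fˣ) :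
    (sc ν * gT) * gX * (sc ν * gT)⁻¹ ∈ R₀ ∧ (sc ν * gT) * dY ζ * (sc ν * gT)⁻¹ ∈ R₀ := by
  have hz3 : ζ ^ 3 = 1 := by
    apply Units.ext
    rw [Units.val_pow_eq_pow_val, Units.val_one]
    exact zeta_cube (ζ : F) hζ
  constructor
  · have h : (sc ν * gT) * gX = gX⁻¹ * (sc ν * gT) := by
      rw [mul_assoc, gT_mul_gX, ← mul_assoc, sc_comm, mul_assoc]
    rw [h, mul_inv_cancel_right]
    exact R₀.inv_mem hX
  · have h : (sc ν * gT) * dY ζ = dY (ζ ^ 2) * (sc ν * gT) := by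
      rw [mul_assoc, gT_mul_dY ζ hz3, ← mul_assoc, sc_comm, mul_assoc]
    rw [h, mul_inv_cancel_right, ← dY_pow]
    exact R₀.pow_mem hY _

theorem conj_into (x S Q n₀ : GL (Fin 3) F) (d : Fin 3 → Fˣ) (hx : x * S = S * dg d)
    (hn : n₀ * Q = Q * dg d) (d₀ : Fˣ) :
    ∃ S' : GL (Fin 3) F, Matrix.GeneralLinearGroup.det S' = d₀ ∧ x * S' = S' * n₀ := by
  set a := Matrix.GeneralLinearGroup.det S with ha
  set b := Matrix.GeneralLinearGroup.det Q with hb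
  set E : GL (Fin 3) F := dg ![d₀ * a⁻¹ * b, 1, 1] with hE
  refine ⟨S * E * Q⁻¹, ?_, ?_⟩
  · rw [map_mul, map_mul, map_inv, ← ha, ← hb, hE, det_dg]
    simp only [Matrix.cons_val_zero, Matrix.cons_val_one, Matrix.cons_val_two, Matrix.head_cons,
      Matrix.tail_cons, mul_one]
    rw [← mul_assoc, mul_inv_cancel_right, mul_comm d₀, mul_inv_cancel_left]
  · have h1 : dg d * Q⁻¹ = Q⁻¹ * n₀ := by
      rw [← mul_right_inj Q, ← mul_assoc, ← hn, mul_inv_cancel_right, mul_inv_cancel_left]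
    calc x * (S * E * Q⁻¹) = (x * S) * E * Q⁻¹ := by group
      _ = S * (dg d * E) * Q⁻¹ := by rw [hx]; group
      _ = S * (E * dg d) * Q⁻¹ := by rw [hE, dg_comm]
      _ = S * E * (dg d * Q⁻¹) := by group
      _ = S * E * (Q⁻¹ * n₀) := by rw [h1]
      _ = S * E * Q⁻¹ * n₀ := by group

end

end Cfsg.Agent.Lib.Helper9.H9E27
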