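import Mathlib
import Cfsg.Agent.Lib.Helper9.Ext3SL3c

set_option autoImplicit false

/-! Conjugating elements whose square or cube is scalar onto normalising elements. -/

namespace Cfsg.Agent.Lib.Helper9.H9E27

open scoped MatrixGroups
open Matrix Polynomial

section
variable {F : Type*} [Field F]

theorem scalar_cube_of_det (x : Matrix (Fin 3) (Fin 3) F) (hdet : x.det = 1) (n : ℕ) (c : F)
    (hx : x ^ n = c • 1) : c ^ 3 = 1 := by
  have := congrArg Matrix.det hx
  rw [Matrix.det_pow, hdet, one_pow, Matrix.det_smul, Matrix.det_one] at this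
  simp only [Fintype.card_fin, mul_one] at this
  exact this.symm

theorem unit_eq_of_mul (x S : GL (Fin 3) F) (d : Fin 3 → Fˣ)
    (h : (x : Matrix (Fin 3) (Fin 3) F) * (S : Matrix (Fin 3) (Fin 3) F) =
      (S : Matrix (Fin 3) (Fin 3) F) * Matrix.diagonal (fun i => (d i : F))) :
    x * S = S * dg d := by
  apply Units.ext
  rw [Units.val_mul, Units.val_mul, coe_dg]
  exact h

theorem conj_three (h3 : (3 : F) ≠ 0) (ζ : Fˣ) (hζ : (ζ : F) ^ 2 + ζ + 1 = 0)
    (hcube : ∀ c : F, c ^ 3 = 1 → ∃ μ : F, μ ^ 3 = c)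
    (x : GL (Fin 3) F) (hdet : (x : Matrix (Fin 3) (Fin 3) F).det = 1) (c : F)
    (hx3 : (x : Matrix (Fin 3) (Fin 3) F) ^ 3 = c • 1) (d₀ : Fˣ) :
    ∃ (S' : GL (Fin 3) F) (d : Fin 3 → Fˣ) (c' : Fˣ),
      Matrix.GeneralLinearGroup.det S' = d₀ ∧ (∀ i, d i ^ 3 = c') ∧ x * S' = S' * dg d := by
  classical
  have hc3 := scalar_cube_of_det _ hdet 3 c hx3
  obtain ⟨μ, hμ⟩ := hcube c hc3
  have hc0 : c ≠ 0 := by
    intro h
    rw [h] at hc3
    norm_num at hc3
  have hμ0 : μ ≠ 0 := by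
    intro h
    rw [h] at hμ
    apply hc0
    rw [← hμ]
    norm_num
  have hz1 := zeta_ne_one h3 (ζ : F) hζ
  have hz2 := zeta_sq_ne_one h3 (ζ : F) hζ
  have hz3 := zeta_cube (ζ : F) hζ
  have hpoly : (X - C μ) * ((X - C (μ * ζ)) * (X - C (μ * (ζ : F) ^ 2))) = X ^ 3 - C c := by
    have hZ : (C (ζ : F)) ^ 2 + C (ζ : F) + 1 = 0 := by
      have := congrArg (C : F → F[X]) hζ
      simpa using this
    rw [← hμ]
    simp only [map_mul, map_pow]
    linear_combination (-(C μ) * X ^ 2 + (C μ) ^ 2 * (C (ζ : F)) * X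
      - (C μ) ^ 3 * (C (ζ : F) - 1)) * hZ
  have hne1 : μ ∉ ({μ * ζ, μ * (ζ : F) ^ 2} : Finset F) := by
    rw [Finset.mem_insert, Finset.mem_singleton]
    rintro (h | h)
    · apply hz1
      have : μ * (ζ : F) = μ * 1 := by rw [mul_one]; exact h.symm
      exact mul_left_cancel₀ hμ0 this
    · apply hz2
      have : μ * (ζ : F) ^ 2 = μ * 1 := by rw [mul_one]; exact h.symm
      exact mul_left_cancel₀ hμ0 this
  have hne2 : μ * (ζ : F) ∉ ({μ * (ζ : F) ^ 2} : Finset F) := by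
    rw [Finset.mem_singleton]
    intro h
    apply hz1
    have hζ0 : (ζ : F) ≠ 0 := ζ.ne_zero
    have h' := mul_left_cancel₀ hμ0 h
    have : (ζ : F) * 1 = ζ * ζ := by rw [mul_one, ← pow_two]; exact h'
    exact (mul_left_cancel₀ hζ0 this).symm
  set Λ : Finset F := {μ, μ * ζ, μ * (ζ : F) ^ 2} with hΛ
  have hprod : ∏ l ∈ Λ, (X - C l) = X ^ 3 - C c := by
    rw [hΛ, Finset.prod_insert hne1, Finset.prod_insert hne2, Finset.prod_singleton, hpoly]
  have haev : aeval (x : Matrix (Fin 3) (Fin 3) F) (∏ l ∈ Λ, (X - C l)) = 0 := by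
    rw [hprod]
    simp only [map_sub, map_pow, aeval_X, aeval_C, Algebra.algebraMap_eq_smul_one]
    rw [hx3, sub_self]
  obtain ⟨S, d, hS, hdΛ, hxS⟩ := exists_eigenbasis _ Λ haev
  have hd3 : ∀ i, d i ^ 3 = c := by
    intro i
    have := hdΛ i
    rw [hΛ, Finset.mem_insert, Finset.mem_insert, Finset.mem_singleton] at this
    rcases this with h | h | h
    · rw [h, hμ]
    · rw [h, mul_pow, hμ, hz3, mul_one]
    · rw [h, mul_pow, hμ, ← pow_mul, mul_comm 2 3, pow_mul, hz3, one_pow, mul_one]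
  have hd0 : ∀ i, d i ≠ 0 := by
    intro i h
    have := hd3 i
    rw [h] at this
    apply hc0
    rw [← this]
    norm_num
  set S₁ : GL (Fin 3) F := hS.unit with hS₁
  have hS₁v : (S₁ : Matrix (Fin 3) (Fin 3) F) = S := IsUnit.unit_spec hS
  set d' : Fin 3 → Fˣ := fun i => Units.mk0 (d i) (hd0 i) with hd'
  have hxS' : x * S₁ = S₁ * dg d' := by
    apply unit_eq_of_mul
    rw [hS₁v]
    exact hxS
  obtain ⟨S', hS'det, hS'⟩ := conj_into x S₁ 1 (dg d') d' hxS' (by rw [mul_one, one_mul]) d₀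
  refine ⟨S', d', Units.mk0 c hc0, hS'det, ?_, hS'⟩
  intro i
  apply Units.ext
  rw [Units.val_pow_eq_pow_val]
  exact hd3 i

theorem gT_Q (h2 : (2 : F) ≠ 0) (ν : Fˣ) (k : Fin 3) :
    ∃ Q : GL (Fin 3) F, (sc ν * gT) * Q = Q * dg (fun i => if i = k then ν else -ν) := by
  fin_cases k
  · refine ⟨Matrix.GeneralLinearGroup.mkOfDetNeZero !![0, 1, 0; 1, 0, 1; -1, 0, 1] (by
      rw [Matrix.det_fin_three]
      simp
      intro h
      apply h2
      linear_combination -h), ?_⟩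
    apply Units.ext
    rw [Units.val_mul, Units.val_mul, Units.val_mul, coe_sc, coe_gT, coe_dg]
    show _ * (!![0, 1, 0; 1, 0, 1; -1, 0, 1] : Matrix (Fin 3) (Fin 3) F) =
      (!![0, 1, 0; 1, 0, 1; -1, 0, 1] : Matrix (Fin 3) (Fin 3) F) * _
    ext i j
    fin_cases i <;> fin_cases j <;>
      simp [mT, Matrix.mul_apply, Matrix.diagonal_apply, Fin.sum_univ_three]
  · refine ⟨Matrix.GeneralLinearGroup.mkOfDetNeZero !![1, 0, 0; 0, 1, 1; 0, -1, 1] (by
      rw [Matrix.det_fin_three]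
      simp
      intro h
      apply h2
      linear_combination h), ?_⟩
    apply Units.ext
    rw [Units.val_mul, Units.val_mul, Units.val_mul, coe_sc, coe_gT, coe_dg]
    show _ * (!![1, 0, 0; 0, 1, 1; 0, -1, 1] : Matrix (Fin 3) (Fin 3) F) =
      (!![1, 0, 0; 0, 1, 1; 0, -1, 1] : Matrix (Fin 3) (Fin 3) F) * _
    ext i j
    fin_cases i <;> fin_cases j <;>
      simp [mT, Matrix.mul_apply, Matrix.diagonal_apply, Fin.sum_univ_three]
  · refine ⟨Matrix.GeneralLinearGroup.mkOfDetNeZero !![1, 0, 0; 0, 1, 1; 0, 1, -1] (by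
      rw [Matrix.det_fin_three]
      simp
      intro h
      apply h2
      linear_combination -h), ?_⟩
    apply Units.ext
    rw [Units.val_mul, Units.val_mul, Units.val_mul, coe_sc, coe_gT, coe_dg]
    show _ * (!![1, 0, 0; 0, 1, 1; 0, 1, -1] : Matrix (Fin 3) (Fin 3) F) =
      (!![1, 0, 0; 0, 1, 1; 0, 1, -1] : Matrix (Fin 3) (Fin 3) F) * _
    ext i j
    fin_cases i <;> fin_cases j <;>
      simp [mT, Matrix.mul_apply, Matrix.diagonal_apply, Fin.sum_univ_three]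

end

end Cfsg.Agent.Lib.Helper9.H9E27
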