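import Mathlib
import Cfsg.Agent.Lib.Helper9.Ext3SL3d

set_option autoImplicit false

/-! Conjugating elements whose square is scalar onto `ν t₀`. -/

namespace Cfsg.Agent.Lib.Helper9.H9E27

open scoped MatrixGroups
open Matrix Polynomial

section
variable {F : Type*} [Field F]

theorem conj_two (h2 : (2 : F) ≠ 0)
    (x : GL (Fin 3) F) (hdet : (x : Matrix (Fin 3) (Fin 3) F).det = 1) (c : F)
    (hx2 : (x : Matrix (Fin 3) (Fin 3) F) ^ 2 = c • 1)
    (hns : ∀ z : F, (x : Matrix (Fin 3) (Fin 3) F) ≠ z • (1 : Matrix (Fin 3) (Fin 3) F))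
    (d₀ : Fˣ) :
    ∃ (S' : GL (Fin 3) F) (ν : Fˣ),
      Matrix.GeneralLinearGroup.det S' = d₀ ∧ x * S' = S' * (sc ν * gT) := by
  classical
  have hc3 := scalar_cube_of_det _ hdet 2 c hx2
  have hc0 : c ≠ 0 := by
    intro h
    rw [h] at hc3
    norm_num at hc3
  set ν : F := c ^ 2 with hν
  have hν0 : ν ≠ 0 := pow_ne_zero 2 hc0
  have hν2 : ν ^ 2 = c := by
    rw [hν]
    linear_combination c * hc3
  have hν3 : ν ^ 3 = 1 := by
    rw [hν]
    linear_combination (c ^ 3 + 1) * hc3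
  have hne : ν ∉ ({-ν} : Finset F) := by
    rw [Finset.mem_singleton]
    intro h
    have : (2 : F) * ν = 0 := by linear_combination h
    rcases mul_eq_zero.mp this with h' | h'
    · exact h2 h'
    · exact hν0 h'
  set Λ : Finset F := {ν, -ν} with hΛ
  have hprod : ∏ l ∈ Λ, (X - C l) = X ^ 2 - C c := by
    rw [hΛ, Finset.prod_insert hne, Finset.prod_singleton, ← hν2]
    simp only [map_neg, map_pow]
    ring
  have haev : aeval (x : Matrix (Fin 3) (Fin 3) F) (∏ l ∈ Λ, (X - C l)) = 0 := by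
    rw [hprod]
    simp only [map_sub, map_pow, aeval_X, aeval_C, Algebra.algebraMap_eq_smul_one]
    rw [hx2, sub_self]
  obtain ⟨S, d, hS, hdΛ, hxS⟩ := exists_eigenbasis _ Λ haev
  have hd : ∀ i, d i = ν ∨ d i = -ν := by
    intro i
    have := hdΛ i
    rw [hΛ, Finset.mem_insert, Finset.mem_singleton] at this
    exact this
  set S₁ : GL (Fin 3) F := hS.unit with hS₁
  have hS₁v : (S₁ : Matrix (Fin 3) (Fin 3) F) = S := IsUnit.unit_spec hS
  have hdetS : S.det ≠ 0 := by
    have := (Matrix.isUnit_iff_isUnit_det S).mp hS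
    exact this.ne_zero
  have hprodd : d 0 * d 1 * d 2 = 1 := by
    have := congrArg Matrix.det hxS
    rw [Matrix.det_mul, Matrix.det_mul, hdet, one_mul, Matrix.det_diagonal,
      Fin.prod_univ_three] at this
    have h' : S.det * 1 = S.det * (d 0 * d 1 * d 2) := by rw [mul_one]; exact this
    exact (mul_left_cancel₀ hdetS h').symm
  set νu : Fˣ := Units.mk0 ν hν0 with hνu
  -- the good cases
  have good : ∀ k : Fin 3, (∀ i, d i = if i = k then ν else -ν) →
      ∃ (S' : GL (Fin 3) F) (ν : Fˣ),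
        Matrix.GeneralLinearGroup.det S' = d₀ ∧ x * S' = S' * (sc ν * gT) := by
    intro k hk
    have hxS' : x * S₁ = S₁ * dg (fun i => if i = k then νu else -νu) := by
      apply unit_eq_of_mul
      rw [hS₁v, hxS]
      congr 2
      ext i
      rw [hk i]
      by_cases h : i = k
      · rw [if_pos h, if_pos h]; rfl
      · rw [if_neg h, if_neg h]; rfl
    obtain ⟨Q, hQ⟩ := gT_Q h2 νu k
    obtain ⟨S', hS'det, hS'⟩ := conj_into x S₁ Q (sc νu * gT) _ hxS' hQ d₀
    exact ⟨S', νu, hS'det, hS'⟩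
  have bad : ∀ a b e : F, (a = ν ∨ a = -ν) → (b = ν ∨ b = -ν) → (e = ν ∨ e = -ν) →
      a * b * e = 1 →
      (a = ν ∧ b = ν ∧ e = ν) ∨ (a = ν ∧ b = -ν ∧ e = -ν) ∨ (a = -ν ∧ b = ν ∧ e = -ν) ∨
        (a = -ν ∧ b = -ν ∧ e = ν) := by
    intro a b e ha hb he hp
    rcases ha with ha | ha <;> rcases hb with hb | hb <;> rcases he with he | he
    · exact Or.inl ⟨ha, hb, he⟩
    · exfalso; rw [ha, hb, he] at hp; apply h2; linear_combination (-1 : F) * hp - hν3
    · exfalso; rw [ha, hb, he] at hp; apply h2; linear_combination (-1 : F) * hp - hν3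
    · exact Or.inr (Or.inl ⟨ha, hb, he⟩)
    · exfalso; rw [ha, hb, he] at hp; apply h2; linear_combination (-1 : F) * hp - hν3
    · exact Or.inr (Or.inr (Or.inl ⟨ha, hb, he⟩))
    · exact Or.inr (Or.inr (Or.inr ⟨ha, hb, he⟩))
    · exfalso; rw [ha, hb, he] at hp; apply h2; linear_combination (-1 : F) * hp - hν3
  rcases bad (d 0) (d 1) (d 2) (hd 0) (hd 1) (hd 2) hprodd with ⟨h0, h1, h2'⟩ | ⟨h0, h1, h2'⟩ |
    ⟨h0, h1, h2'⟩ | ⟨h0, h1, h2'⟩
  · exfalso
    apply hns ν
    have hdiag : Matrix.diagonal d = ν • (1 : Matrix (Fin 3) (Fin 3) F) := by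
      ext i j
      by_cases h : i = j
      · subst h
        fin_cases i <;> simp [h0, h1, h2']
      · simp [h]
    rw [hdiag] at hxS
    calc (x : Matrix (Fin 3) (Fin 3) F)
        = (x : Matrix (Fin 3) (Fin 3) F) * ((S₁ : Matrix (Fin 3) (Fin 3) F) *
            ((S₁⁻¹ : GL (Fin 3) F) : Matrix (Fin 3) (Fin 3) F)) := by
          rw [Units.mul_inv, mul_one]
      _ = ((x : Matrix (Fin 3) (Fin 3) F) * S) *
            ((S₁⁻¹ : GL (Fin 3) F) : Matrix (Fin 3) (Fin 3) F) := by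
          rw [hS₁v, mul_assoc]
      _ = ν • ((S₁ : Matrix (Fin 3) (Fin 3) F) *
            ((S₁⁻¹ : GL (Fin 3) F) : Matrix (Fin 3) (Fin 3) F)) := by
          rw [hxS, hS₁v]
          simp
      _ = ν • (1 : Matrix (Fin 3) (Fin 3) F) := by rw [Units.mul_inv]
  · apply good 0
    intro i
    fin_cases i <;> simp [h0, h1, h2']
  · apply good 1
    intro i
    fin_cases i <;> simp [h0, h1, h2']
  · apply good 2
    intro i
    fin_cases i <;> simp [h0, h1, h2']

end

end Cfsg.Agent.Lib.Helper9.H9E27
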