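import Mathlib
import Cfsg.Agent.Lib.Helper9.Ext3SL3e

set_option autoImplicit false

/-! Nonabelian groups of order 27, and the normal form of a pair of matrices of order 3 whose
commutator is a central element of order 3. -/

namespace Cfsg.Agent.Lib.Helper9.H9E27

open scoped MatrixGroups
open Matrix

theorem exists_noncomm_pair {G : Type*} [Group G] (hG : Nat.card G = 27)
    (hna : ¬ IsMulCommutative G) :
    ∃ a b : G, a * b ≠ b * a ∧ (a⁻¹ * b⁻¹ * a * b) ∈ Subgroup.center G := by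
  classical
  haveI : Finite G := Nat.finite_of_card_ne_zero (by rw [hG]; norm_num)
  haveI : Fact (Nat.Prime 3) := ⟨Nat.prime_three⟩
  have hG' : Nat.card G = 3 ^ 3 := by rw [hG]; norm_num
  obtain ⟨k, hk0, hk⟩ := IsPGroup.card_center_eq_prime_pow (p := 3) (n := 3) hG' (by norm_num)
  have hk3 : k ≤ 3 := by
    have h := Subgroup.card_subgroup_dvd_card (Subgroup.center G)
    rw [hk, hG'] at h
    exact (Nat.pow_dvd_pow_iff_le_right (by norm_num)).mp h
  have hidx := Subgroup.card_mul_index (Subgroup.center G)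
  rw [hk, hG, Subgroup.index_eq_card] at hidx
  have hcomm : IsMulCommutative (G ⧸ Subgroup.center G) := by
    have hk' : k = 1 ∨ k = 2 ∨ k = 3 := by omega
    rcases hk' with rfl | rfl | rfl
    · have : Nat.card (G ⧸ Subgroup.center G) = 3 ^ 2 := by omega
      exact IsPGroup.isMulCommutative_of_card_eq_prime_sq (p := 3) this
    · exfalso
      apply hna
      have : Nat.card (G ⧸ Subgroup.center G) = 3 := by omega
      haveI : IsCyclic (G ⧸ Subgroup.center G) := isCyclic_of_prime_card (p := 3) this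
      exact isMulCommutative_of_isCyclic_quotient_center_self G
    · exfalso
      apply hna
      have htop : Subgroup.center G = ⊤ := by
        apply Subgroup.eq_top_of_card_eq
        rw [hk, hG]
        norm_num
      refine ⟨⟨fun a b => ?_⟩⟩
      have : b ∈ Subgroup.center G := by rw [htop]; exact Subgroup.mem_top b
      exact (Subgroup.mem_center_iff.mp this a)
  have hex : ∃ a b : G, a * b ≠ b * a := by
    by_contra h
    push_neg at h
    exact hna ⟨⟨h⟩⟩
  obtain ⟨a, b, hab⟩ := hex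
  refine ⟨a, b, hab, ?_⟩
  rw [← QuotientGroup.eq_one_iff]
  have hc : ∀ u v : G ⧸ Subgroup.center G, u * v = v * u := hcomm.is_comm.comm
  rw [QuotientGroup.mk_mul, QuotientGroup.mk_mul, QuotientGroup.mk_mul, QuotientGroup.mk_inv,
    QuotientGroup.mk_inv, hc (a : G ⧸ Subgroup.center G)⁻¹]
  group

section
variable {F : Type*} [Field F]

theorem eigen_step (M : Matrix (Fin 3) (Fin 3) F) (α β : F) (v : Fin 3 → F) (hv : v ≠ 0)
    (h : M *ᵥ (M *ᵥ v) - (α + β) • (M *ᵥ v) + (α * β) • v = 0) :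
    ∃ w : Fin 3 → F, w ≠ 0 ∧ (M *ᵥ w = α • w ∨ M *ᵥ w = β • w) ∧
      (∀ (N : Matrix (Fin 3) (Fin 3) F) (l : F), N * M = M * N → N *ᵥ v = l • v →
        N *ᵥ w = l • w) := by
  by_cases h1 : M *ᵥ v - β • v = 0
  · refine ⟨v, hv, Or.inr ?_, fun N l _ hN => hN⟩
    rw [sub_eq_zero] at h1
    exact h1
  · refine ⟨M *ᵥ v - β • v, h1, Or.inl ?_, ?_⟩
    · rw [Matrix.mulVec_sub, Matrix.mulVec_smul]
      have : M *ᵥ (M *ᵥ v) = (α + β) • (M *ᵥ v) - (α * β) • v := by
        rw [← sub_eq_zero, ← h]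
        abel
      rw [this]
      module
    · intro N l hNM hNv
      rw [Matrix.mulVec_sub, Matrix.mulVec_smul, Matrix.mulVec_mulVec, hNM, ← Matrix.mulVec_mulVec,
        hNv, Matrix.mulVec_smul]
      module

theorem cube_vec (M : Matrix (Fin 3) (Fin 3) F) (hM : M ^ 3 = 1) (v : Fin 3 → F) :
    M *ᵥ (M *ᵥ (M *ᵥ v)) = v := by
  rw [Matrix.mulVec_mulVec, Matrix.mulVec_mulVec]
  have : M * M * M = M ^ 3 := by rw [pow_succ, pow_two]
  rw [this, hM, Matrix.one_mulVec]

theorem eigen_cube_ne_one (ω : F) (hω : ω ^ 2 + ω + 1 = 0) (M : Matrix (Fin 3) (Fin 3) F)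
    (hM : M ^ 3 = 1) (hM1 : M ≠ 1) :
    ∃ (w : Fin 3 → F) (l : F), w ≠ 0 ∧ l ^ 2 + l + 1 = 0 ∧ M *ᵥ w = l • w := by
  have hex : ∃ v : Fin 3 → F, M *ᵥ v - v ≠ 0 := by
    by_contra h
    push_neg at h
    apply hM1
    apply Matrix.toLin'.injective
    apply LinearMap.ext
    intro v
    rw [Matrix.toLin'_apply, Matrix.toLin'_one, LinearMap.id_apply]
    have := h v
    rw [sub_eq_zero] at this
    exact this
  obtain ⟨v, hv⟩ := hex
  have hω3 : ω ^ 3 = 1 := by linear_combination (ω - 1) * hω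
  obtain ⟨w, hw0, hw, -⟩ := eigen_step M ω (ω ^ 2) (M *ᵥ v - v) hv (by
    rw [Matrix.mulVec_sub, Matrix.mulVec_sub, cube_vec M hM]
    have h1 : ω + ω ^ 2 = -1 := by linear_combination hω
    have h2 : ω * ω ^ 2 = 1 := by linear_combination hω3
    rw [h1, h2]
    module)
  rcases hw with hw | hw
  · exact ⟨w, ω, hw0, hω, hw⟩
  · refine ⟨w, ω ^ 2, hw0, ?_, hw⟩
    linear_combination (ω ^ 2 - ω + 1) * hω

theorem eigen_cube (ω : F) (hω : ω ^ 2 + ω + 1 = 0) (M : Matrix (Fin 3) (Fin 3) F)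
    (hM : M ^ 3 = 1) (v : Fin 3 → F) (hv : v ≠ 0) :
    ∃ (w : Fin 3 → F) (β : F), w ≠ 0 ∧ β ^ 3 = 1 ∧ M *ᵥ w = β • w ∧
      (∀ (N : Matrix (Fin 3) (Fin 3) F) (l : F), N * M = M * N → N *ᵥ v = l • v →
        N *ᵥ w = l • w) := by
  have hω3 : ω ^ 3 = 1 := by linear_combination (ω - 1) * hω
  by_cases h1 : M *ᵥ v - v = 0
  · refine ⟨v, 1, hv, one_pow 3, ?_, fun N l _ hN => hN⟩
    rw [sub_eq_zero] at h1
    rw [one_smul]
    exact h1
  · obtain ⟨w, hw0, hw, hinv⟩ := eigen_step M ω (ω ^ 2) (M *ᵥ v - v) h1 (by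
      rw [Matrix.mulVec_sub, Matrix.mulVec_sub, cube_vec M hM]
      have h1 : ω + ω ^ 2 = -1 := by linear_combination hω
      have h2 : ω * ω ^ 2 = 1 := by linear_combination hω3
      rw [h1, h2]
      module)
    have hinv' : ∀ (N : Matrix (Fin 3) (Fin 3) F) (l : F), N * M = M * N → N *ᵥ v = l • v →
        N *ᵥ w = l • w := by
      intro N l hNM hNv
      apply hinv N l hNM
      rw [Matrix.mulVec_sub, Matrix.mulVec_mulVec, hNM, ← Matrix.mulVec_mulVec, hNv,
        Matrix.mulVec_smul]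
      module
    rcases hw with hw | hw
    · exact ⟨w, ω, hw0, hω3, hw, hinv'⟩
    · refine ⟨w, ω ^ 2, hw0, ?_, hw, hinv'⟩
      rw [← pow_mul, mul_comm, pow_mul, hω3, one_pow]

end

end Cfsg.Agent.Lib.Helper9.H9E27
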