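import Mathlib
import Cfsg.Agent.Lib.Helper9.Ext3SL3f

set_option autoImplicit false

/-! The normal form of a pair of matrices of order 3 whose commutator is a central element
of order 3. -/

namespace Cfsg.Agent.Lib.Helper9.H9E27

open scoped MatrixGroups
open Matrix

section
variable {F : Type*} [Field F]

theorem normal_form_matrix (h3 : (3 : F) ≠ 0) (ω : F) (hω : ω ^ 2 + ω + 1 = 0)
    (A B Zm : Matrix (Fin 3) (Fin 3) F) (hA : A ^ 3 = 1) (hB : B ^ 3 = 1) (hZ : Zm ^ 3 = 1)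
    (hZ1 : Zm ≠ 1) (hAB : A * B = B * A * Zm) (hZA : Zm * A = A * Zm) (hZB : Zm * B = B * Zm) :
    ∃ (W : Matrix (Fin 3) (Fin 3) F) (ζ β : F), IsUnit W ∧ ζ ^ 2 + ζ + 1 = 0 ∧ β ^ 3 = 1 ∧
      A * W = W * mX ∧ B * W = W * Matrix.diagonal ![β, β * ζ, β * ζ ^ 2] ∧
      Zm * W = ζ ^ 2 • W := by
  obtain ⟨u, l, hu0, hl, hZu⟩ := eigen_cube_ne_one ω hω Zm hZ hZ1
  obtain ⟨w0, β, hw0, hβ, hBw0, hinv⟩ := eigen_cube ω hω B hB u hu0
  have hZw0 : Zm *ᵥ w0 = l • w0 := hinv Zm l hZB hZu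
  have hl3 : l ^ 3 = 1 := zeta_cube l hl
  set ζ : F := l ^ 2 with hζdef
  have hζ : ζ ^ 2 + ζ + 1 = 0 := by
    rw [hζdef]
    linear_combination (l ^ 2 - l + 1) * hl
  have hζ2 : ζ ^ 2 = l := by
    rw [hζdef]
    linear_combination l * hl3
  have hζl : ζ * l = 1 := by
    rw [hζdef]
    linear_combination hl3
  have key : ∀ v : Fin 3 → F, Zm *ᵥ v = l • v → B *ᵥ (A *ᵥ v) = ζ • A *ᵥ (B *ᵥ v) := by
    intro v hv
    have h1 : A *ᵥ (B *ᵥ v) = l • B *ᵥ (A *ᵥ v) := by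
      rw [Matrix.mulVec_mulVec, hAB, ← Matrix.mulVec_mulVec, ← Matrix.mulVec_mulVec, hv,
        Matrix.mulVec_smul, Matrix.mulVec_smul]
    rw [h1, smul_smul, hζl, one_smul]
  have keyZ : ∀ v : Fin 3 → F, Zm *ᵥ v = l • v → Zm *ᵥ (A *ᵥ v) = l • A *ᵥ v := by
    intro v hv
    rw [Matrix.mulVec_mulVec, hZA, ← Matrix.mulVec_mulVec, hv, Matrix.mulVec_smul]
  set w1 : Fin 3 → F := A *ᵥ w0 with hw1def
  set w2 : Fin 3 → F := A *ᵥ w1 with hw2def
  have hA3 : A *ᵥ w2 = w0 := cube_vec A hA w0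
  have hBw1 : B *ᵥ w1 = (β * ζ) • w1 := by
    rw [hw1def, key w0 hZw0, hBw0, Matrix.mulVec_smul, smul_smul, mul_comm]
  have hZw1 : Zm *ᵥ w1 = l • w1 := keyZ w0 hZw0
  have hBw2 : B *ᵥ w2 = (β * ζ ^ 2) • w2 := by
    rw [hw2def, key w1 hZw1, hBw1, Matrix.mulVec_smul, smul_smul]
    congr 1
    ring
  have hZw2 : Zm *ᵥ w2 = l • w2 := keyZ w1 hZw1
  have hw2 : w2 ≠ 0 := by
    intro h
    apply hw0
    rw [← hA3, h, Matrix.mulVec_zero]
  have hw1 : w1 ≠ 0 := by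
    intro h
    apply hw2
    rw [hw2def, h, Matrix.mulVec_zero]
  have hβ0 : β ≠ 0 := by
    intro h
    rw [h] at hβ
    norm_num at hβ
  have hz1 := zeta_ne_one h3 ζ hζ
  have hz2 := zeta_sq_ne_one h3 ζ hζ
  have hζ0 : ζ ≠ 0 := by
    intro h
    rw [h] at hζ
    norm_num at hζ
  have e01 : β ≠ β * ζ := by
    intro h
    apply hz1
    have : β * ζ = β * 1 := by rw [mul_one]; exact h.symm
    exact mul_left_cancel₀ hβ0 this
  have e02 : β ≠ β * ζ ^ 2 := by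
    intro h
    apply hz2
    have : β * ζ ^ 2 = β * 1 := by rw [mul_one]; exact h.symm
    exact mul_left_cancel₀ hβ0 this
  have e12 : β * ζ ≠ β * ζ ^ 2 := by
    intro h
    apply hz1
    have h' := mul_left_cancel₀ hβ0 h
    have : ζ * 1 = ζ * ζ := by rw [mul_one, ← pow_two]; exact h'
    exact (mul_left_cancel₀ hζ0 this).symm
  set w : Fin 3 → (Fin 3 → F) := ![w0, w1, w2] with hwdef
  set μ : Fin 3 → F := ![β, β * ζ, β * ζ ^ 2] with hμdef
  have hμinj : Function.Injective μ := by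
    intro i j hij
    fin_cases i <;> fin_cases j
    · rfl
    · exact absurd hij e01
    · exact absurd hij e02
    · exact absurd hij.symm e01
    · rfl
    · exact absurd hij e12
    · exact absurd hij.symm e02
    · exact absurd hij.symm e12
    · rfl
  have heig : ∀ i, Module.End.HasEigenvector (Matrix.toLin' B) (μ i) (w i) := by
    intro i
    fin_cases i
    · exact ⟨Module.End.mem_eigenspace_iff.mpr (by rw [Matrix.toLin'_apply]; exact hBw0), hw0⟩
    · exact ⟨Module.End.mem_eigenspace_iff.mpr (by rw [Matrix.toLin'_apply]; exact hBw1), hw1⟩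
    · exact ⟨Module.End.mem_eigenspace_iff.mpr (by rw [Matrix.toLin'_apply]; exact hBw2), hw2⟩
  have hli : LinearIndependent F w :=
    Module.End.eigenvectors_linearIndependent' (Matrix.toLin' B) μ hμinj w heig
  set W : Matrix (Fin 3) (Fin 3) F := Matrix.of (fun i j => w j i) with hWdef
  have hWunit : IsUnit W := by
    rw [← Matrix.linearIndependent_cols_iff_isUnit]
    exact hli
  have hcol : ∀ (M : Matrix (Fin 3) (Fin 3) F) (i j : Fin 3), (M * W) i j = (M *ᵥ w j) i := by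
    intro M i j
    rfl
  refine ⟨W, ζ, β, hWunit, hζ, hβ, ?_, ?_, ?_⟩
  · ext i j
    rw [hcol]
    fin_cases j
    · show w1 i = _
      simp [mX, Matrix.mul_apply, Fin.sum_univ_three, hWdef, hwdef]
    · show w2 i = _
      simp [mX, Matrix.mul_apply, Fin.sum_univ_three, hWdef, hwdef]
    · show (A *ᵥ w2) i = _
      rw [hA3]
      simp [mX, Matrix.mul_apply, Fin.sum_univ_three, hWdef, hwdef]
  · ext i j
    rw [hcol, Matrix.mul_diagonal]
    fin_cases j
    · show (B *ᵥ w0) i = w0 i * β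
      rw [hBw0, Pi.smul_apply, smul_eq_mul, mul_comm]
    · show (B *ᵥ w1) i = w1 i * (β * ζ)
      rw [hBw1, Pi.smul_apply, smul_eq_mul, mul_comm]
    · show (B *ᵥ w2) i = w2 i * (β * ζ ^ 2)
      rw [hBw2, Pi.smul_apply, smul_eq_mul, mul_comm]
  · ext i j
    rw [hcol, hζ2]
    fin_cases j
    · show (Zm *ᵥ w0) i = l * w0 i
      rw [hZw0, Pi.smul_apply, smul_eq_mul]
    · show (Zm *ᵥ w1) i = l * w1 i
      rw [hZw1, Pi.smul_apply, smul_eq_mul]
    · show (Zm *ᵥ w2) i = l * w2 i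
      rw [hZw2, Pi.smul_apply, smul_eq_mul]

end

end Cfsg.Agent.Lib.Helper9.H9E27
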