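import Mathlib
import Cfsg.Agent.Lib.Helper9.Ext3SL3g

set_option autoImplicit false

/-! The normal form of a nonabelian subgroup of order 27 and exponent 3 of `GL_3(F)`. -/

namespace Cfsg.Agent.Lib.Helper9.H9E27

open scoped MatrixGroups
open Matrix

section
variable {F : Type*} [Field F]

theorem pow_mul_eq_smul (Zm Wm : Matrix (Fin 3) (Fin 3) F) (c : F) (h : Zm * Wm = c • Wm) (k : ℕ) :
    Zm ^ k * Wm = c ^ k • Wm := by
  induction k with
  | zero => rw [pow_zero, pow_zero, one_mul, one_smul]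
  | succ k ih =>
    rw [pow_succ, mul_assoc, h, Matrix.mul_smul, ih, smul_smul, pow_succ, mul_comm]

theorem normal_form (h3 : (3 : F) ≠ 0) (ω : F) (hω : ω ^ 2 + ω + 1 = 0)
    (R : Subgroup (GL (Fin 3) F)) (hR : Nat.card R = 27) (hRe : Monoid.exponent R = 3)
    (hRna : ¬ IsMulCommutative R) :
    ∃ (W : GL (Fin 3) F) (ζ : Fˣ), (ζ : F) ^ 2 + ζ + 1 = 0 ∧ W * gX * W⁻¹ ∈ R ∧
      W * dY ζ * W⁻¹ ∈ R := by
  obtain ⟨a, b, hab, hZc⟩ := exists_noncomm_pair hR hRna
  have hcube : ∀ g : R, g ^ 3 = 1 := by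
    intro g
    have := Monoid.pow_exponent_eq_one g
    rw [hRe] at this
    exact this
  set z : R := a⁻¹ * b⁻¹ * a * b with hz
  have hcubeM : ∀ g : R, ((g : GL (Fin 3) F) : Matrix (Fin 3) (Fin 3) F) ^ 3 = 1 := by
    intro g
    have := congrArg (fun t : R => ((t : GL (Fin 3) F) : Matrix (Fin 3) (Fin 3) F)) (hcube g)
    simpa using this
  have hz1 : ((z : GL (Fin 3) F) : Matrix (Fin 3) (Fin 3) F) ≠ 1 := by
    intro h
    apply hab
    have h1 : (z : GL (Fin 3) F) = 1 := Units.ext h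
    have h2 : z = 1 := Subtype.ext h1
    rw [hz] at h2
    calc a * b = b * a * (a⁻¹ * b⁻¹ * a * b) := by group
      _ = b * a := by rw [h2, mul_one]
  have hABg : a * b = b * a * z := by rw [hz]; group
  have hAB : ((a : GL (Fin 3) F) : Matrix (Fin 3) (Fin 3) F) * ((b : GL (Fin 3) F) : Matrix (Fin 3) (Fin 3) F) =
      ((b : GL (Fin 3) F) : Matrix (Fin 3) (Fin 3) F) * ((a : GL (Fin 3) F) : Matrix (Fin 3) (Fin 3) F) *
        ((z : GL (Fin 3) F) : Matrix (Fin 3) (Fin 3) F) := by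
    have := congrArg (fun t : R => ((t : GL (Fin 3) F) : Matrix (Fin 3) (Fin 3) F)) hABg
    simpa using this
  have hZA : ((z : GL (Fin 3) F) : Matrix (Fin 3) (Fin 3) F) * ((a : GL (Fin 3) F) : Matrix (Fin 3) (Fin 3) F) =
      ((a : GL (Fin 3) F) : Matrix (Fin 3) (Fin 3) F) * ((z : GL (Fin 3) F) : Matrix (Fin 3) (Fin 3) F) := by
    have h1 : z * a = a * z := (Subgroup.mem_center_iff.mp hZc a).symm
    have := congrArg (fun t : R => ((t : GL (Fin 3) F) : Matrix (Fin 3) (Fin 3) F)) h1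
    simpa using this
  have hZB : ((z : GL (Fin 3) F) : Matrix (Fin 3) (Fin 3) F) * ((b : GL (Fin 3) F) : Matrix (Fin 3) (Fin 3) F) =
      ((b : GL (Fin 3) F) : Matrix (Fin 3) (Fin 3) F) * ((z : GL (Fin 3) F) : Matrix (Fin 3) (Fin 3) F) := by
    have h1 : z * b = b * z := (Subgroup.mem_center_iff.mp hZc b).symm
    have := congrArg (fun t : R => ((t : GL (Fin 3) F) : Matrix (Fin 3) (Fin 3) F)) h1
    simpa using this
  obtain ⟨Wm, ζ, β, hW, hζ, hβ, hAW, hBW, hZW⟩ := normal_form_matrix h3 ω hω _ _ _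
    (hcubeM a) (hcubeM b) (hcubeM z) hz1 hAB hZA hZB
  have hζ0 : ζ ≠ 0 := by
    intro h
    rw [h] at hζ
    norm_num at hζ
  have hβ0 : β ≠ 0 := by
    intro h
    rw [h] at hβ
    norm_num at hβ
  set W : GL (Fin 3) F := hW.unit with hWdef
  have hWv : (W : Matrix (Fin 3) (Fin 3) F) = Wm := IsUnit.unit_spec hW
  set ζu : Fˣ := Units.mk0 ζ hζ0 with hζu
  refine ⟨W, ζu, hζ, ?_, ?_⟩
  · have : W * gX * W⁻¹ = (a : GL (Fin 3) F) := by
      rw [mul_inv_eq_iff_eq_mul]
      apply Units.ext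
      rw [Units.val_mul, Units.val_mul, coe_gX, hWv]
      exact hAW.symm
    rw [this]
    exact a.2
  · have hβ3 : (Units.mk0 β hβ0) ^ 3 = 1 := by
      apply Units.ext
      rw [Units.val_pow_eq_pow_val]
      exact hβ
    obtain ⟨k, hk⟩ := exists_pow_of_cube ζu hζ (Units.mk0 β hβ0) hβ3
    have hk' : β = ζ ^ k := by
      have := congrArg Units.val hk
      rw [Units.val_pow_eq_pow_val] at this
      exact this
    have hz3 := zeta_cube ζ hζ
    have : W * dY ζu * W⁻¹ = ((z ^ k * b : R) : GL (Fin 3) F) := by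
      rw [mul_inv_eq_iff_eq_mul]
      apply Units.ext
      rw [Units.val_mul, Units.val_mul, hWv, dY, coe_dg, Subgroup.coe_mul, Subgroup.coe_pow,
        Units.val_mul, Units.val_pow_eq_pow_val, mul_assoc, hBW, ← mul_assoc,
        pow_mul_eq_smul _ _ _ hZW k, Matrix.smul_mul, ← Matrix.mul_smul]
      congr 1
      ext i j
      rw [Matrix.smul_apply, Matrix.diagonal_apply, Matrix.diagonal_apply]
      have hone : (ζ ^ 2) ^ k * β = 1 := by
        rw [hk', ← pow_mul, ← pow_add]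
        have : 2 * k + k = 3 * k := by ring
        rw [this, pow_mul, hz3, one_pow]
      by_cases hij : i = j
      · subst hij
        rw [if_pos rfl, if_pos rfl]
        fin_cases i
        · show (1 : F) = (ζ ^ 2) ^ k • β
          rw [smul_eq_mul, hone]
        · show (ζ : F) = (ζ ^ 2) ^ k • (β * ζ)
          rw [smul_eq_mul, ← mul_assoc, hone, one_mul]
        · show ((ζu ^ 2 : Fˣ) : F) = (ζ ^ 2) ^ k • (β * ζ ^ 2)
          rw [smul_eq_mul, ← mul_assoc, hone, one_mul]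
          rfl
      · rw [if_neg hij, if_neg hij, smul_zero]
    rw [this]
    exact (z ^ k * b).2

end

end Cfsg.Agent.Lib.Helper9.H9E27
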