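import Mathlib
import Cfsg.Prelude.Def_GeometricClasses

set_option autoImplicit false

/-! 2 × 2 matrices over a finite field of odd characteristic: Cayley–Hamilton, conjugacy in the
special linear group of elements with the same trace. -/

namespace Cfsg.Agent.Lib.Helper9.H9Q8

open Matrix Polynomial

section
variable {F : Type*} [Field F]

theorem cayley2 (M : Matrix (Fin 2) (Fin 2) F) :
    M * M = M.trace • M - M.det • (1 : Matrix (Fin 2) (Fin 2) F) := by
  ext i j
  fin_cases i <;> fin_cases j <;>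
    simp [Matrix.mul_apply, Fin.sum_univ_two, Matrix.trace_fin_two, Matrix.det_fin_two] <;> ring

theorem two_ne_zero_of_odd [Fintype F] (hodd : Fintype.card F % 2 = 1) : (2 : F) ≠ 0 := by
  apply Ring.two_ne_zero
  intro h
  rw [FiniteField.even_card_iff_char_two] at h
  omega

theorem binary_form_rep_aux [Fintype F] (hodd : Fintype.card F % 2 = 1) (α β γ e : F) (hα : α ≠ 0)
    (hΔ : β ^ 2 - 4 * α * γ ≠ 0) : ∃ s t : F, α * s ^ 2 + β * s * t + γ * t ^ 2 = e := by
  have h2 : (2 : F) ≠ 0 := two_ne_zero_of_odd hodd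
  have h4 : (4 : F) ≠ 0 := by
    have : (4 : F) = 2 * 2 := by norm_num
    rw [this]
    exact mul_ne_zero h2 h2
  set D : F := -(β ^ 2 - 4 * α * γ) / 4 with hD
  have hD0 : D ≠ 0 := by
    rw [hD]
    exact div_ne_zero (neg_ne_zero.mpr hΔ) h4
  obtain ⟨u, w, huw⟩ := FiniteField.exists_root_sum_quadratic (R := F) (f := X ^ 2)
    (g := C D * X ^ 2 + C 0 * X + C (-(α * e))) (degree_X_pow 2) (degree_quadratic hD0) hodd
  simp only [eval_pow, eval_X, eval_add, eval_mul, eval_C, zero_mul, add_zero] at huw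
  refine ⟨(u - β * w / 2) / α, w, ?_⟩
  rw [hD] at huw
  field_simp
  field_simp at huw
  linear_combination huw

theorem binary_form_rep [Fintype F] (hodd : Fintype.card F % 2 = 1) (α β γ e : F)
    (hΔ : β ^ 2 - 4 * α * γ ≠ 0) : ∃ s t : F, α * s ^ 2 + β * s * t + γ * t ^ 2 = e := by
  by_cases hα : α = 0
  · by_cases hγ : γ = 0
    · have hβ : β ≠ 0 := by
        intro h
        apply hΔ
        rw [h, hα]
        ring
      refine ⟨e / β, 1, ?_⟩
      rw [hα, hγ]
      field_simp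
      ring
    · obtain ⟨s, t, h⟩ := binary_form_rep_aux hodd γ β α e hγ (by
        intro h
        apply hΔ
        linear_combination h)
      exact ⟨t, s, by linear_combination h⟩
  · exact binary_form_rep_aux hodd α β γ e hα hΔ

theorem exists_unimodular_cyclic [Fintype F] (hodd : Fintype.card F % 2 = 1)
    (x : Matrix (Fin 2) (Fin 2) F) (hdet : x.det = 1) (hτ : x.trace ^ 2 ≠ 4) :
    ∃ P : Matrix (Fin 2) (Fin 2) F, P.det = 1 ∧ x * P = P * !![0, -1; 1, x.trace] := by
  obtain ⟨a, b, c, d, rfl⟩ : ∃ a b c d : F, x = !![a, b; c, d] :=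
    ⟨x 0 0, x 0 1, x 1 0, x 1 1, Matrix.eta_fin_two x⟩
  rw [Matrix.det_fin_two_of] at hdet
  rw [Matrix.trace_fin_two_of] at hτ ⊢
  obtain ⟨s, t, hst⟩ := binary_form_rep hodd c (d - a) (-b) 1 (by
    intro h
    apply hτ
    linear_combination h + 4 * hdet)
  refine ⟨!![s, a * s + b * t; t, c * s + d * t], ?_, ?_⟩
  · rw [Matrix.det_fin_two_of]
    linear_combination hst
  · ext i j
    fin_cases i <;> fin_cases j <;>
      simp [Matrix.mul_apply, Fin.sum_univ_two]
    · linear_combination (-s) * hdet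
    · linear_combination (-t) * hdet

theorem sl2_conj_matrix [Fintype F] (hodd : Fintype.card F % 2 = 1)
    (x y : Matrix (Fin 2) (Fin 2) F) (hx : x.det = 1) (hy : y.det = 1)
    (htr : x.trace = y.trace) (hτ : x.trace ^ 2 ≠ 4) :
    ∃ h : Matrix (Fin 2) (Fin 2) F, h.det = 1 ∧ x * h = h * y := by
  obtain ⟨P, hP1, hP⟩ := exists_unimodular_cyclic hodd x hx hτ
  obtain ⟨Q, hQ1, hQ⟩ := exists_unimodular_cyclic hodd y hy (by rw [← htr]; exact hτ)
  rw [← htr] at hQ
  have hQa : Q * Q.adjugate = 1 := by rw [Matrix.mul_adjugate, hQ1, one_smul]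
  have hQa' : Q.adjugate * Q = 1 := by rw [Matrix.adjugate_mul, hQ1, one_smul]
  refine ⟨P * Q.adjugate, ?_, ?_⟩
  · rw [Matrix.det_mul, Matrix.det_adjugate, hP1, hQ1]
    simp
  · have hy' : y = Q * !![0, -1; 1, x.trace] * Q.adjugate := by
      rw [← hQ, Matrix.mul_assoc, hQa, Matrix.mul_one]
    rw [← Matrix.mul_assoc, hP]
    conv_rhs => rw [hy']
    have e1 : P * Q.adjugate * (Q * !![0, -1; 1, x.trace] * Q.adjugate) =
        P * ((Q.adjugate * Q) * (!![0, -1; 1, x.trace] * Q.adjugate)) := by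
      simp only [Matrix.mul_assoc]
    rw [e1, hQa', Matrix.one_mul, Matrix.mul_assoc]

/-- Conjugacy in the special linear group of degree two of two elements with the same trace
`τ`, `τ² ≠ 4`. -/
theorem sl2_conj [Fintype F] (hodd : Fintype.card F % 2 = 1) (x y : GL (Fin 2) F)
    (hx : x ∈ Cfsg.Geo.specialLinear (Fin 2) F) (hy : y ∈ Cfsg.Geo.specialLinear (Fin 2) F)
    (htr : (x : Matrix (Fin 2) (Fin 2) F).trace = (y : Matrix (Fin 2) (Fin 2) F).trace)
    (hτ : (x : Matrix (Fin 2) (Fin 2) F).trace ^ 2 ≠ 4) :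
    ∃ g ∈ Cfsg.Geo.specialLinear (Fin 2) F, g⁻¹ * x * g = y := by
  have hx1 : (x : Matrix (Fin 2) (Fin 2) F).det = 1 := by
    have := congrArg Units.val (MonoidHom.mem_ker.mp hx)
    simpa using this
  have hy1 : (y : Matrix (Fin 2) (Fin 2) F).det = 1 := by
    have := congrArg Units.val (MonoidHom.mem_ker.mp hy)
    simpa using this
  obtain ⟨h, hh1, hh⟩ := sl2_conj_matrix hodd _ _ hx1 hy1 htr hτ
  refine ⟨Matrix.GeneralLinearGroup.mkOfDetNeZero h (by rw [hh1]; exact one_ne_zero), ?_, ?_⟩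
  · apply MonoidHom.mem_ker.mpr
    apply Units.ext
    simpa using hh1
  · rw [mul_assoc, inv_mul_eq_iff_eq_mul]
    apply Matrix.GeneralLinearGroup.ext
    intro i j
    have := congrFun (congrFun hh i) j
    simpa using this

end

end Cfsg.Agent.Lib.Helper9.H9Q8
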