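import Mathlib
import Cfsg.Agent.Lib.Helper9.QuatSL2a

set_option autoImplicit false

/-! Quaternion pairs of 2 × 2 matrices. -/

namespace Cfsg.Agent.Lib.Helper9.H9Q8

open Matrix

section
variable {F : Type*} [Field F]

theorem traceless_anticomm (u v : Matrix (Fin 2) (Fin 2) F) (hu : u.trace = 0) (hv : v.trace = 0) :
    u * v + v * u = (u * v).trace • (1 : Matrix (Fin 2) (Fin 2) F) := by
  rw [Matrix.trace_fin_two] at hu hv
  have hu' : u 1 1 = - u 0 0 := by linear_combination hu
  have hv' : v 1 1 = - v 0 0 := by linear_combination hv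
  ext a b
  fin_cases a <;> fin_cases b <;>
    simp [Matrix.mul_apply, Fin.sum_univ_two, Matrix.trace_fin_two, hu', hv'] <;> ring

/-- A pair of anticommuting square roots of `-1`. -/
structure QuatPair (i j : Matrix (Fin 2) (Fin 2) F) : Prop where
  hii : i * i = -1
  hjj : j * j = -1
  hji : j * i = -(i * j)

namespace QuatPair

variable {i j : Matrix (Fin 2) (Fin 2) F}

theorem hik (h : QuatPair i j) : i * (i * j) = -j := by
  rw [← Matrix.mul_assoc, h.hii, neg_mul, one_mul]

theorem hki (h : QuatPair i j) : (i * j) * i = j := by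
  rw [Matrix.mul_assoc, h.hji, mul_neg, h.hik, neg_neg]

theorem hjk (h : QuatPair i j) : j * (i * j) = i := by
  rw [← Matrix.mul_assoc, h.hji, neg_mul, Matrix.mul_assoc, h.hjj, mul_neg, mul_one, neg_neg]

theorem hkj (h : QuatPair i j) : (i * j) * j = -i := by
  rw [Matrix.mul_assoc, h.hjj, mul_neg, mul_one]

theorem hkk (h : QuatPair i j) : (i * j) * (i * j) = -1 := by
  rw [Matrix.mul_assoc, h.hjk, h.hii]

theorem symm (h : QuatPair i j) : QuatPair j i :=
  ⟨h.hjj, h.hii, by rw [h.hji, neg_neg]⟩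

/-- `(j, ij)` is again a quaternion pair. -/
theorem next (h : QuatPair i j) : QuatPair j (i * j) :=
  ⟨h.hjj, h.hkk, by rw [h.hkj, h.hjk]⟩

theorem neg_one_ne_zero : (-1 : Matrix (Fin 2) (Fin 2) F) ≠ 0 := by
  intro h
  have := congrFun (congrFun h 0) 0
  simp at this

theorem not_scalar_left (h2 : (2 : F) ≠ 0) (h : QuatPair i j) (c : F) :
    i ≠ c • (1 : Matrix (Fin 2) (Fin 2) F) := by
  intro hi
  have h1 : j * i = i * j := by
    rw [hi]
    simp
  rw [h.hji] at h1
  have h3 : (2 : F) • (i * j) = 0 := by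
    rw [two_smul]
    nth_rewrite 1 [← h1]
    exact neg_add_cancel _
  have h4 : i * j = 0 := by
    rcases smul_eq_zero.mp h3 with h5 | h5
    · exact absurd h5 h2
    · exact h5
  have h5 := h.hkk
  rw [h4, Matrix.mul_zero] at h5
  exact neg_one_ne_zero h5.symm

theorem trace_det_left (h2 : (2 : F) ≠ 0) (h : QuatPair i j) : i.trace = 0 ∧ i.det = 1 := by
  have h1 := cayley2 i
  rw [h.hii] at h1
  -- -1 = tr • i - det • 1
  have h3 : i.trace • i = (i.det - 1) • (1 : Matrix (Fin 2) (Fin 2) F) := by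
    rw [sub_smul, one_smul]
    have : i.trace • i = -1 + i.det • (1 : Matrix (Fin 2) (Fin 2) F) := by
      rw [h1]
      abel
    rw [this]
    abel
  have ht : i.trace = 0 := by
    by_contra hne
    apply h.not_scalar_left h2 ((i.trace)⁻¹ * (i.det - 1))
    have := congrArg (fun M => (i.trace)⁻¹ • M) h3
    simp only [smul_smul] at this
    rw [inv_mul_cancel₀ hne, one_smul] at this
    exact this
  refine ⟨ht, ?_⟩
  rw [ht, zero_smul] at h3
  have := congrFun (congrFun h3 0) 0
  simp at this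
  linear_combination -this

/-- The element `1 + i + j + ij`. -/
def gg (i j : Matrix (Fin 2) (Fin 2) F) : Matrix (Fin 2) (Fin 2) F := 1 + i + j + i * j

theorem gg_mul_i (h : QuatPair i j) : gg i j * i = j * gg i j := by
  unfold gg
  simp only [add_mul, mul_add, one_mul, mul_one, h.hii, h.hji, h.hki, h.hjj, h.hjk]
  abel

theorem gg_mul_j (h : QuatPair i j) : gg i j * j = (i * j) * gg i j := by
  unfold gg
  simp only [add_mul, mul_add, one_mul, mul_one, h.hjj, h.hkj, h.hki, h.hkk]
  abel

theorem gg_sq (h : QuatPair i j) :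
    gg i j * gg i j = (2 : F) • gg i j - (4 : F) • (1 : Matrix (Fin 2) (Fin 2) F) := by
  unfold gg
  simp only [add_mul, mul_add, one_mul, mul_one, h.hii, h.hji, h.hki, h.hjj, h.hjk, h.hkj, h.hkk,
    h.hik]
  have e2 : ∀ M : Matrix (Fin 2) (Fin 2) F, (2 : F) • M = M + M := fun M => two_smul F M
  have e4 : (4 : F) • (1 : Matrix (Fin 2) (Fin 2) F) = 1 + 1 + 1 + 1 := by
    have : (4 : F) = 2 + 2 := by norm_num
    rw [this, add_smul, e2]
    abel
  rw [e2, e4]
  abel

theorem trace_gg (h2 : (2 : F) ≠ 0) (h : QuatPair i j) : (gg i j).trace = 2 := by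
  unfold gg
  rw [Matrix.trace_add, Matrix.trace_add, Matrix.trace_add, (h.trace_det_left h2).1,
    (h.symm.trace_det_left h2).1, (h.next.symm.trace_det_left h2).1, Matrix.trace_one]
  simp

theorem det_gg (h2 : (2 : F) ≠ 0) (h : QuatPair i j) : (gg i j).det = 4 := by
  have h1 := cayley2 (gg i j)
  rw [h.gg_sq, h.trace_gg h2] at h1
  have h3 : (4 : F) • (1 : Matrix (Fin 2) (Fin 2) F) = (gg i j).det • (1 : Matrix (Fin 2) (Fin 2) F) := by
    have := sub_right_injective h1
    exact this
  have := congrFun (congrFun h3 0) 0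
  simp at this
  exact this.symm

end QuatPair

end

end Cfsg.Agent.Lib.Helper9.H9Q8
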