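import Mathlib
import Cfsg.Agent.Lib.Helper9.QuatSL2b

set_option autoImplicit false

/-! Quaternion pairs of 2 × 2 matrices: the element of order three, the centralizer, and
recognition from group relations. -/

namespace Cfsg.Agent.Lib.Helper9.H9Q8

open Matrix

section
variable {F : Type*} [Field F]

/-- A matrix commuting with a traceless involution-like matrix `z` (`z² = 1`) is a combination
of `1` and `z`. -/
theorem comm_traceless_sq_one (h2 : (2 : F) ≠ 0) (z M : Matrix (Fin 2) (Fin 2) F)
    (hz : z.trace = 0) (hzz : z * z = 1) (hc : M * z = z * M) :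
    ∃ α lam : F, M = α • (1 : Matrix (Fin 2) (Fin 2) F) + lam • z := by
  set u : Matrix (Fin 2) (Fin 2) F := M - (M.trace / 2) • (1 : Matrix (Fin 2) (Fin 2) F) with hu
  have hut : u.trace = 0 := by
    rw [hu, Matrix.trace_sub, Matrix.trace_smul, Matrix.trace_one]
    simp only [Fintype.card_fin, smul_eq_mul]
    push_cast
    field_simp
    ring
  have huc : u * z = z * u := by
    rw [hu, sub_mul, mul_sub, hc]
    simp
  have h1 := traceless_anticomm u z hut hz
  rw [← huc, ← two_smul F (u * z)] at h1
  obtain ⟨t, h3⟩ : ∃ t : F, u * z = t • (1 : Matrix (Fin 2) (Fin 2) F) := by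
    have := congrArg (fun N => (2 : F)⁻¹ • N) h1
    simp only [smul_smul] at this
    rw [inv_mul_cancel₀ h2, one_smul] at this
    exact ⟨_, this⟩
  have h4 : u = t • z := by
    have h5 : u = (u * z) * z := by rw [Matrix.mul_assoc, hzz, Matrix.mul_one]
    rw [h3] at h5
    rw [h5]
    simp
  refine ⟨M.trace / 2, t, ?_⟩
  rw [← h4, hu]
  abel

theorem comm_of_comb (z : Matrix (Fin 2) (Fin 2) F) (α lam β μ : F) :
    (α • (1 : Matrix (Fin 2) (Fin 2) F) + lam • z) * (β • (1 : Matrix (Fin 2) (Fin 2) F) + μ • z) =
      (β • (1 : Matrix (Fin 2) (Fin 2) F) + μ • z) * (α • (1 : Matrix (Fin 2) (Fin 2) F) + lam • z) := by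
  simp only [add_mul, mul_add, smul_mul_assoc, mul_smul_comm, one_mul, mul_one]
  module

/-- Recognition of a quaternion pair from the relations of the quaternion group. -/
theorem quatPair_of_rel (h2 : (2 : F) ≠ 0) (I J : GL (Fin 2) F) (h1 : I * I = J * J)
    (hz2 : (I * I) * (I * I) = 1) (hz1 : I * I ≠ 1) (h4 : J * I = (I * I) * (I * J)) :
    QuatPair (I : Matrix (Fin 2) (Fin 2) F) (J : Matrix (Fin 2) (Fin 2) F) := by
  set i : Matrix (Fin 2) (Fin 2) F := (I : Matrix (Fin 2) (Fin 2) F) with hi
  set j : Matrix (Fin 2) (Fin 2) F := (J : Matrix (Fin 2) (Fin 2) F) with hj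
  set z : Matrix (Fin 2) (Fin 2) F := i * i with hz
  have hzz : z * z = 1 := by
    have := congrArg (fun g : GL (Fin 2) F => (g : Matrix (Fin 2) (Fin 2) F)) hz2
    simpa using this
  have hzj : z = j * j := by
    have := congrArg (fun g : GL (Fin 2) F => (g : Matrix (Fin 2) (Fin 2) F)) h1
    simpa using this
  have hji : j * i = z * (i * j) := by
    have := congrArg (fun g : GL (Fin 2) F => (g : Matrix (Fin 2) (Fin 2) F)) h4
    simpa using this
  have hzne : z ≠ 1 := by
    intro h
    apply hz1
    apply Matrix.GeneralLinearGroup.ext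
    intro a b
    have := congrFun (congrFun h a) b
    simpa using this
  have hzneg : z = -1 := by
    have hc := cayley2 z
    rw [hzz] at hc
    by_cases ht : z.trace = 0
    · exfalso
      have hci : i * z = z * i := by rw [hz, Matrix.mul_assoc]
      have hcj : j * z = z * j := by rw [hzj, Matrix.mul_assoc]
      obtain ⟨α, lam, hi'⟩ := comm_traceless_sq_one h2 z i ht hzz hci
      obtain ⟨β, μ, hj'⟩ := comm_traceless_sq_one h2 z j ht hzz hcj
      have hcomm : i * j = j * i := by
        rw [hi', hj']
        exact comm_of_comb z α lam β μ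
      have hIJ : I * J = J * I := by
        apply Matrix.GeneralLinearGroup.ext
        intro a b
        have := congrFun (congrFun hcomm a) b
        simpa using this
      rw [hIJ] at h4
      apply hz1
      have h5 : (I * I) * (J * I) = 1 * (J * I) := by rw [one_mul]; exact h4.symm
      exact mul_right_cancel h5
    · have h3 : z.trace • z = (1 + z.det) • (1 : Matrix (Fin 2) (Fin 2) F) := by
        rw [add_smul, one_smul]
        exact eq_add_of_sub_eq hc.symm
      have h5 : z = ((z.trace)⁻¹ * (1 + z.det)) • (1 : Matrix (Fin 2) (Fin 2) F) := by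
        have := congrArg (fun M => (z.trace)⁻¹ • M) h3
        simp only [smul_smul] at this
        rw [inv_mul_cancel₀ ht, one_smul] at this
        exact this
      set c : F := (z.trace)⁻¹ * (1 + z.det) with hc'
      have h6 : c * c = 1 := by
        have h7 := hzz
        rw [h5] at h7
        have := congrFun (congrFun h7 0) 0
        simpa using this
      have h8 : (c - 1) * (c + 1) = 0 := by linear_combination h6
      rcases mul_eq_zero.mp h8 with h9 | h9
      · exfalso
        apply hzne
        rw [h5, sub_eq_zero.mp h9, one_smul]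
      · rw [h5, eq_neg_of_add_eq_zero_left h9]
        simp
  refine ⟨hzneg, ?_, ?_⟩
  · rw [← hzj, hzneg]
  · rw [hji, hzneg, neg_mul, one_mul]

namespace QuatPair

variable {i j : Matrix (Fin 2) (Fin 2) F}

/-- A matrix commuting with both members of a quaternion pair is scalar. -/
theorem scalar_of_comm (h2 : (2 : F) ≠ 0) (h : QuatPair i j) (y : Matrix (Fin 2) (Fin 2) F)
    (hyi : y * i = i * y) (hyj : y * j = j * y) : ∃ c : F, y = c • (1 : Matrix (Fin 2) (Fin 2) F) := by
  set w : Matrix (Fin 2) (Fin 2) F := y - (y.trace / 2) • (1 : Matrix (Fin 2) (Fin 2) F) with hw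
  have hwt : w.trace = 0 := by
    rw [hw, Matrix.trace_sub, Matrix.trace_smul, Matrix.trace_one]
    simp only [Fintype.card_fin, smul_eq_mul]
    push_cast
    field_simp
    ring
  have hwi : w * i = i * w := by
    rw [hw, sub_mul, mul_sub, hyi]
    simp
  have hwj : w * j = j * w := by
    rw [hw, sub_mul, mul_sub, hyj]
    simp
  have key : ∀ {i' j' : Matrix (Fin 2) (Fin 2) F}, QuatPair i' j' → w * i' = i' * w →
      ∃ lam : F, w = lam • i' := by
    intro i' j' h' hc
    have h1 := traceless_anticomm w i' hwt (h'.trace_det_left h2).1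
    rw [← hc, ← two_smul F (w * i')] at h1
    obtain ⟨t, h3⟩ : ∃ t : F, w * i' = t • (1 : Matrix (Fin 2) (Fin 2) F) := by
      have := congrArg (fun N => (2 : F)⁻¹ • N) h1
      simp only [smul_smul] at this
      rw [inv_mul_cancel₀ h2, one_smul] at this
      exact ⟨_, this⟩
    refine ⟨-t, ?_⟩
    have h5 : w = -((w * i') * i') := by
      rw [Matrix.mul_assoc, h'.hii]
      simp
    rw [h3] at h5
    rw [h5]
    simp
  obtain ⟨lam, hl⟩ := key h hwi
  obtain ⟨μ, hm⟩ := key h.symm hwj
  have hw0 : w = 0 := by
    by_cases hl0 : lam = 0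
    · rw [hl, hl0, zero_smul]
    · exfalso
      have h5 : i = (lam⁻¹ * μ) • j := by
        have := congrArg (fun N => lam⁻¹ • N) (hl.symm.trans hm)
        simp only [smul_smul] at this
        rw [inv_mul_cancel₀ hl0, one_smul] at this
        exact this
      have h6 : j * i = i * j := by
        rw [h5]
        simp
      rw [h.hji] at h6
      have h7 : (2 : F) • (i * j) = 0 := by
        rw [two_smul]
        nth_rewrite 1 [← h6]
        exact neg_add_cancel _
      have h8 : i * j = 0 := by
        rcases smul_eq_zero.mp h7 with h9 | h9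
        · exact absurd h9 h2
        · exact h9
      have h9 := h.hkk
      rw [h8, Matrix.mul_zero] at h9
      exact neg_one_ne_zero h9.symm
  refine ⟨y.trace / 2, ?_⟩
  have := sub_eq_zero.mp (hw.symm.trans hw0)
  exact this

/-- The normalised element `(1 + i + j + ij)/2`. -/
noncomputable def hh (i j : Matrix (Fin 2) (Fin 2) F) : Matrix (Fin 2) (Fin 2) F :=
  (2 : F)⁻¹ • gg i j

theorem hh_mul_i (h : QuatPair i j) : hh i j * i = j * hh i j := by
  unfold hh
  rw [smul_mul_assoc, h.gg_mul_i, mul_smul_comm]

theorem hh_mul_j (h : QuatPair i j) : hh i j * j = (i * j) * hh i j := by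
  unfold hh
  rw [smul_mul_assoc, h.gg_mul_j, mul_smul_comm]

theorem trace_hh (h2 : (2 : F) ≠ 0) (h : QuatPair i j) : (hh i j).trace = 1 := by
  unfold hh
  rw [Matrix.trace_smul, h.trace_gg h2, smul_eq_mul, inv_mul_cancel₀ h2]

theorem det_hh (h2 : (2 : F) ≠ 0) (h : QuatPair i j) : (hh i j).det = 1 := by
  unfold hh
  rw [Matrix.det_smul, h.det_gg h2]
  simp only [Fintype.card_fin]
  field_simp
  norm_num

end QuatPair

end

end Cfsg.Agent.Lib.Helper9.H9Q8
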