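import Mathlib
import Cfsg.Agent.Lib.Helper9.QuatSL2c

set_option autoImplicit false

/-! The quaternion group of order 8: relations and generation; an element of prime order at
least 5 normalizing a group of order 8 centralizes it. -/

namespace Cfsg.Agent.Lib.Helper9.H9Q8

open QuaternionGroup

theorem q8_rel1 : (a 1 : QuaternionGroup 2) * a 1 = xa 0 * xa 0 := by decide

theorem q8_rel2 : ((a 1 : QuaternionGroup 2) * a 1) * (a 1 * a 1) = 1 := by decide

theorem q8_rel3 : (a 1 : QuaternionGroup 2) * a 1 ≠ 1 := by decide

theorem q8_rel4 : (xa 0 : QuaternionGroup 2) * a 1 = (a 1 * a 1) * (a 1 * xa 0) := by decide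

theorem q8_gen (t : QuaternionGroup 2) :
    t ∈ Subgroup.closure ({a 1, xa 0} : Set (QuaternionGroup 2)) := by
  have hA : (a 1 : QuaternionGroup 2) ∈ Subgroup.closure ({a 1, xa 0} : Set (QuaternionGroup 2)) :=
    Subgroup.subset_closure (by simp)
  have hX : (xa 0 : QuaternionGroup 2) ∈ Subgroup.closure ({a 1, xa 0} : Set (QuaternionGroup 2)) :=
    Subgroup.subset_closure (by simp)
  have hak : ∀ k : ZMod (2 * 2), (a k : QuaternionGroup 2) ∈
      Subgroup.closure ({a 1, xa 0} : Set (QuaternionGroup 2)) := by
    intro k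
    have : (a k : QuaternionGroup 2) = a 1 ^ k.val := by
      rw [a_one_pow]
      congr 1
      exact (ZMod.natCast_zmod_val k).symm
    rw [this]
    exact Subgroup.pow_mem _ hA _
  rcases t with k | k
  · exact hak k
  · have : (xa k : QuaternionGroup 2) = xa 0 * a k := by
      rw [xa_mul_a, zero_add]
    rw [this]
    exact Subgroup.mul_mem _ hX (hak k)

section
variable {G : Type*} [Group G]

/-- The conjugation action of a subgroup of the normalizer of `R` on `R`. -/
def conjAct (R H : Subgroup G) (hH : H ≤ Subgroup.normalizer (R : Set G)) : MulAction H R where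
  smul h t := ⟨(h : G) * t * (h : G)⁻¹, (Subgroup.mem_normalizer_iff.mp (hH h.2) t).mp t.2⟩
  one_smul t := by
    apply Subtype.ext
    show ((1 : H) : G) * t * ((1 : H) : G)⁻¹ = t
    simp
  mul_smul h k t := by
    apply Subtype.ext
    show ((h * k : H) : G) * t * ((h * k : H) : G)⁻¹ = (h : G) * ((k : G) * t * (k : G)⁻¹) * (h : G)⁻¹
    simp [mul_assoc]

theorem centralizes_of_card_eight (R : Subgroup G) (hR : Nat.card R = 8) (y : G)
    (hy : y ∈ Subgroup.normalizer (R : Set G)) (r : ℕ) [hr : Fact r.Prime] (hr5 : 5 ≤ r)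
    (hyr : orderOf y = r) (Z : G) (hZ : Z ∈ R) (hZ1 : Z ≠ 1) (hZy : y * Z = Z * y) :
    ∀ t ∈ R, y * t = t * y := by
  classical
  haveI : Finite R := Nat.finite_of_card_ne_zero (by rw [hR]; norm_num)
  set H : Subgroup G := Subgroup.zpowers y with hH
  have hHle : H ≤ Subgroup.normalizer (R : Set G) := by
    rw [hH, Subgroup.zpowers_le]
    exact hy
  letI : MulAction H R := conjAct R H hHle
  have hsmul : ∀ (h : H) (t : R), ((h • t : R) : G) = (h : G) * t * (h : G)⁻¹ := fun _ _ => rfl
  have hp : IsPGroup r H := by
    apply IsPGroup.of_card (n := 1)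
    rw [pow_one, hH, Nat.card_zpowers, hyr]
  have hmod := hp.card_modEq_card_fixedPoints R
  -- the fixed points form the centralizer
  set C : Subgroup R := (Subgroup.centralizer ({y} : Set G)).subgroupOf R with hC
  have hfix : (MulAction.fixedPoints H R) = (C : Set R) := by
    ext t
    rw [MulAction.mem_fixedPoints, SetLike.mem_coe, hC, Subgroup.mem_subgroupOf,
      Subgroup.mem_centralizer_iff]
    constructor
    · intro h z hz
      rw [Set.mem_singleton_iff] at hz
      subst hz
      have h1 := congrArg Subtype.val (h ⟨z, Subgroup.mem_zpowers z⟩)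
      rw [hsmul] at h1
      -- z * t * z⁻¹ = t
      have : z * (t : G) = (t : G) * z := by
        calc z * (t : G) = (z * t * z⁻¹) * z := by group
          _ = (t : G) * z := by
            show ((⟨z, Subgroup.mem_zpowers z⟩ : H) : G) * t * ((⟨z, Subgroup.mem_zpowers z⟩ : H) : G)⁻¹ * z = _
            rw [h1]
      exact this
    · intro h k
      apply Subtype.ext
      rw [hsmul]
      obtain ⟨n, hn⟩ := Subgroup.mem_zpowers_iff.mp k.2
      have hcomm : Commute y (t : G) := (h y rfl)
      have : Commute (k : G) (t : G) := by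
        rw [← hn]
        exact hcomm.zpow_left n
      rw [this.eq, mul_inv_cancel_right]
  have hcard : Nat.card (MulAction.fixedPoints H R) = Nat.card C := by
    rw [hfix]
    rfl
  rw [hcard, hR] at hmod
  have hdvd : Nat.card C ∣ 8 := by
    rw [← hR]
    exact Subgroup.card_subgroup_dvd_card C
  have hge : 2 ≤ Nat.card C := by
    have : C ≠ ⊥ := by
      intro hbot
      have hZC : (⟨Z, hZ⟩ : R) ∈ C := by
        rw [hC, Subgroup.mem_subgroupOf, Subgroup.mem_centralizer_iff]
        intro z hz
        rw [Set.mem_singleton_iff] at hz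
        subst hz
        exact hZy
      rw [hbot, Subgroup.mem_bot] at hZC
      exact hZ1 (congrArg Subtype.val hZC)
    have := (Subgroup.one_lt_card_iff_ne_bot (H := C)).mpr this
    omega
  have hle : Nat.card C ≤ 8 := Nat.le_of_dvd (by norm_num) hdvd
  have hC8 : Nat.card C = 8 := by
    have h1 := (Nat.modEq_iff_dvd' hle).mp hmod.symm
    have hrp := hr.out
    by_contra hne
    have hlt : 0 < 8 - Nat.card C := by omega
    have hrle := Nat.le_of_dvd hlt h1
    have h2 : Nat.card C = 2 ∨ Nat.card C = 4 := by
      have : Nat.card C ∈ Nat.divisors 8 := by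
        rw [Nat.mem_divisors]
        exact ⟨hdvd, by norm_num⟩
      have h8 : Nat.divisors 8 = {1, 2, 4, 8} := by decide
      rw [h8] at this
      simp only [Finset.mem_insert, Finset.mem_singleton] at this
      omega
    rcases h2 with h2 | h2
    · rw [h2] at h1 hrle
      have : r = 5 ∨ r = 6 := by omega
      rcases this with rfl | rfl
      · omega
      · exact absurd hrp (by decide)
    · rw [h2] at hrle
      omega
  have htop : C = ⊤ := by
    apply Subgroup.eq_top_of_card_eq
    rw [hC8, hR]
  intro t ht
  have : (⟨t, ht⟩ : R) ∈ C := by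
    rw [htop]
    exact Subgroup.mem_top _
  rw [hC, Subgroup.mem_subgroupOf, Subgroup.mem_centralizer_iff] at this
  exact this y rfl

end

end Cfsg.Agent.Lib.Helper9.H9Q8
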