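import Mathlib
import Cfsg.Agent.Lib.Helper9.Ext3SL3h
import Cfsg.Agent.Lib.Helper9.QuatSL2d

set_option autoImplicit false

/-! Generation of a group of order 27 by a noncommuting pair, a normaliser criterion, and
elements of prime order at least 5 normalising a group of order 27. -/

namespace Cfsg.Agent.Lib.Helper9.H9E27

open scoped MatrixGroups
open Matrix
open Cfsg.Agent.Lib.Helper9.H9Q8

section
variable {G : Type*} [Group G]

theorem closure_eq_of_noncomm (R : Subgroup G) (hR : Nat.card R = 27) (a b : G) (ha : a ∈ R)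
    (hb : b ∈ R) (hnc : a * b ≠ b * a) : Subgroup.closure ({a, b} : Set G) = R := by
  classical
  haveI : Finite R := Nat.finite_of_card_ne_zero (by rw [hR]; norm_num)
  haveI : Fact (Nat.Prime 3) := ⟨Nat.prime_three⟩
  set K : Subgroup G := Subgroup.closure ({a, b} : Set G) with hK
  have hKR : K ≤ R := by
    rw [hK, Subgroup.closure_le]
    intro t ht
    rcases ht with rfl | rfl
    · exact ha
    · exact hb
  have haK : a ∈ K := Subgroup.subset_closure (by simp)
  have hbK : b ∈ K := Subgroup.subset_closure (by simp)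
  have hdvd : Nat.card K ∣ 27 := by
    rw [← hR]
    exact Subgroup.card_dvd_of_le hKR
  have hnotcomm : ¬ IsMulCommutative K := by
    intro h
    apply hnc
    have := h.is_comm.comm (⟨a, haK⟩ : K) ⟨b, hbK⟩
    exact congrArg Subtype.val this
  have hcases : Nat.card K = 1 ∨ Nat.card K = 3 ∨ Nat.card K = 9 ∨ Nat.card K = 27 := by
    have : Nat.card K ∈ Nat.divisors 27 := by
      rw [Nat.mem_divisors]
      exact ⟨hdvd, by norm_num⟩
    have h27 : Nat.divisors 27 = {1, 3, 9, 27} := by decide
    rw [h27] at this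
    simpa using this
  rcases hcases with h | h | h | h
  · exfalso
    apply hnc
    have hbot : K = ⊥ := Subgroup.card_eq_one.mp h
    rw [hbot, Subgroup.mem_bot] at haK
    rw [haK, one_mul, mul_one]
  · exfalso
    apply hnotcomm
    haveI : IsCyclic K := isCyclic_of_prime_card (p := 3) h
    exact IsCyclic.commutative
  · exfalso
    apply hnotcomm
    exact IsPGroup.isMulCommutative_of_card_eq_prime_sq (p := 3) (by rw [h]; norm_num)
  · exact Subgroup.eq_of_le_of_card_ge hKR (by rw [h, hR])

theorem mem_normalizer_of_gens (R : Subgroup G) [Finite R] (a b : G)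
    (hcl : Subgroup.closure ({a, b} : Set G) = R) (n : G) (ha : n * a * n⁻¹ ∈ R)
    (hb : n * b * n⁻¹ ∈ R) : n ∈ Subgroup.normalizer (R : Set G) := by
  apply Subgroup.mem_normalizer_fintype
  intro t ht
  have ht' : t ∈ Subgroup.closure ({a, b} : Set G) := by rw [hcl]; exact ht
  show n * t * n⁻¹ ∈ R
  induction ht' using Subgroup.closure_induction with
  | mem x hx =>
    rcases hx with rfl | rfl
    · exact ha
    · exact hb
  | one =>
    rw [mul_one, mul_inv_cancel]
    exact R.one_mem
  | mul x y _ _ hx hy =>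
    have : n * (x * y) * n⁻¹ = (n * x * n⁻¹) * (n * y * n⁻¹) := by group
    rw [this]
    exact R.mul_mem (hx (by rw [← hcl]; assumption)) (hy (by rw [← hcl]; assumption))
  | inv x _ hx =>
    have : n * x⁻¹ * n⁻¹ = (n * x * n⁻¹)⁻¹ := by group
    rw [this]
    exact R.inv_mem (hx (by rw [← hcl]; assumption))

theorem centralizes_of_card_27 (R : Subgroup G) (hR : Nat.card R = 27) (y : G)
    (hy : y ∈ Subgroup.normalizer (R : Set G)) (r : ℕ) [hr : Fact r.Prime] (hr5 : 5 ≤ r)
    (hyr : orderOf y = r) (Z : G) (hZ : Z ∈ R) (hZ1 : Z ≠ 1) (hZy : y * Z = Z * y) :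
    ∀ t ∈ R, y * t = t * y := by
  classical
  haveI : Finite R := Nat.finite_of_card_ne_zero (by rw [hR]; norm_num)
  set H : Subgroup G := Subgroup.zpowers y with hH
  have hHle : H ≤ Subgroup.normalizer (R : Set G) := by
    rw [hH, Subgroup.zpowers_le]
    exact hy
  letI : MulAction H R := conjAct R H hHle
  have hsmul : ∀ (h : H) (t : R), ((h • t : R) : G) = (h : G) * t * (h : G)⁻¹ := fun _ _ => rfl
  have hp : IsPGroup r H := by
    apply IsPGroup.of_card (n := 1)
    rw [pow_one, hH, Nat.card_zpowers, hyr]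
  have hmod := hp.card_modEq_card_fixedPoints R
  set C : Subgroup R := (Subgroup.centralizer ({y} : Set G)).subgroupOf R with hC
  have hfix : (MulAction.fixedPoints H R) = (C : Set R) := by
    ext t
    rw [MulAction.mem_fixedPoints, SetLike.mem_coe, hC, Subgroup.mem_subgroupOf,
      Subgroup.mem_centralizer_iff]
    constructor
    · intro h z hz
      rw [Set.mem_singleton_iff] at hz
      subst hz
      have h1 := congrArg Subtype.val (h ⟨z, Subgroup.mem_zpowers z⟩)
      rw [hsmul] at h1
      have : z * (t : G) = (t : G) * z := by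
        calc z * (t : G) = (z * t * z⁻¹) * z := by group
          _ = (t : G) * z := by
            show ((⟨z, Subgroup.mem_zpowers z⟩ : H) : G) * t * ((⟨z, Subgroup.mem_zpowers z⟩ : H) : G)⁻¹ * z = _
            rw [h1]
      exact this
    · intro h k
      apply Subtype.ext
      rw [hsmul]
      obtain ⟨n, hn⟩ := Subgroup.mem_zpowers_iff.mp k.2
      have hcomm : Commute y (t : G) := (h y rfl)
      have : Commute (k : G) (t : G) := by
        rw [← hn]
        exact hcomm.zpow_left n
      rw [this.eq, mul_inv_cancel_right]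
  have hcard : Nat.card (MulAction.fixedPoints H R) = Nat.card C := by
    rw [hfix]
    rfl
  rw [hcard, hR] at hmod
  have hdvd : Nat.card C ∣ 27 := by
    rw [← hR]
    exact Subgroup.card_subgroup_dvd_card C
  have hge : 2 ≤ Nat.card C := by
    have : C ≠ ⊥ := by
      intro hbot
      have hZC : (⟨Z, hZ⟩ : R) ∈ C := by
        rw [hC, Subgroup.mem_subgroupOf, Subgroup.mem_centralizer_iff]
        intro z hz
        rw [Set.mem_singleton_iff] at hz
        subst hz
        exact hZy
      rw [hbot, Subgroup.mem_bot] at hZC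
      exact hZ1 (congrArg Subtype.val hZC)
    have := (Subgroup.one_lt_card_iff_ne_bot (H := C)).mpr this
    omega
  have hle : Nat.card C ≤ 27 := Nat.le_of_dvd (by norm_num) hdvd
  have hC27 : Nat.card C = 27 := by
    have h1 := (Nat.modEq_iff_dvd' hle).mp hmod.symm
    have hrp := hr.out
    by_contra hne
    have hlt : 0 < 27 - Nat.card C := by omega
    have hrle := Nat.le_of_dvd hlt h1
    have h2 : Nat.card C = 3 ∨ Nat.card C = 9 := by
      have : Nat.card C ∈ Nat.divisors 27 := by
        rw [Nat.mem_divisors]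
        exact ⟨hdvd, by norm_num⟩
      have h27 : Nat.divisors 27 = {1, 3, 9, 27} := by decide
      rw [h27] at this
      simp only [Finset.mem_insert, Finset.mem_singleton] at this
      omega
    rcases h2 with h2 | h2
    · rw [h2] at h1 hrle
      have h24 : r ∣ 2 ^ 3 * 3 := by norm_num; exact h1
      rcases (Nat.Prime.dvd_mul hrp).mp h24 with h | h
      · have := Nat.le_of_dvd (by norm_num) (hrp.dvd_of_dvd_pow h)
        omega
      · have := Nat.le_of_dvd (by norm_num) h
        omega
    · rw [h2] at h1 hrle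
      have h18 : r ∣ 2 * 3 ^ 2 := by norm_num; exact h1
      rcases (Nat.Prime.dvd_mul hrp).mp h18 with h | h
      · have := Nat.le_of_dvd (by norm_num) h
        omega
      · have := Nat.le_of_dvd (by norm_num) (hrp.dvd_of_dvd_pow h)
        omega
  have htop : C = ⊤ := by
    apply Subgroup.eq_top_of_card_eq
    rw [hC27, hR]
  intro t ht
  have : (⟨t, ht⟩ : R) ∈ C := by
    rw [htop]
    exact Subgroup.mem_top _
  rw [hC, Subgroup.mem_subgroupOf, Subgroup.mem_centralizer_iff] at this
  exact this y rfl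

end

section
variable {F : Type*} [Field F]

theorem scalar_of_comm_std (ζ : F) (hz1 : ζ ≠ 1) (hz2 : ζ ^ 2 ≠ 1) (hz0 : ζ ≠ 0)
    (M : Matrix (Fin 3) (Fin 3) F) (hX : M * mX = mX * M)
    (hY : M * Matrix.diagonal ![1, ζ, ζ ^ 2] = Matrix.diagonal ![1, ζ, ζ ^ 2] * M) :
    ∃ c : F, M = c • (1 : Matrix (Fin 3) (Fin 3) F) := by
  have hoff : ∀ i j : Fin 3, (![1, ζ, ζ ^ 2] : Fin 3 → F) i ≠ ![1, ζ, ζ ^ 2] j → M i j = 0 := by
    intro i j hij
    have := congrFun (congrFun hY i) j
    rw [Matrix.mul_diagonal, Matrix.diagonal_mul] at this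
    have h' : M i j * ((![1, ζ, ζ ^ 2] : Fin 3 → F) j - ![1, ζ, ζ ^ 2] i) = 0 := by
      linear_combination this
    rcases mul_eq_zero.mp h' with h | h
    · exact h
    · exfalso
      apply hij
      rw [sub_eq_zero] at h
      exact h.symm
  have hz12 : ζ ≠ ζ ^ 2 := by
    intro h
    apply hz1
    have : ζ * 1 = ζ * ζ := by rw [mul_one, ← pow_two]; exact h
    exact (mul_left_cancel₀ hz0 this).symm
  have h01 : M 0 1 = 0 := hoff 0 1 (by simpa using (Ne.symm hz1))
  have h02 : M 0 2 = 0 := hoff 0 2 (by simpa using (Ne.symm hz2))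
  have h10 : M 1 0 = 0 := hoff 1 0 (by simpa using hz1)
  have h12 : M 1 2 = 0 := hoff 1 2 (by simpa using hz12)
  have h20 : M 2 0 = 0 := hoff 2 0 (by simpa using hz2)
  have h21 : M 2 1 = 0 := hoff 2 1 (by simpa using (Ne.symm hz12))
  have e1 : M 1 1 = M 0 0 := by
    have := congrFun (congrFun hX 1) 0
    simp [mX, Matrix.mul_apply, Fin.sum_univ_three] at this
    exact this
  have e2 : M 2 2 = M 1 1 := by
    have := congrFun (congrFun hX 2) 1
    simp [mX, Matrix.mul_apply, Fin.sum_univ_three] at this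
    exact this
  refine ⟨M 0 0, ?_⟩
  ext i j
  fin_cases i <;> fin_cases j <;> simp [h01, h02, h10, h12, h20, h21, e1, e2]

theorem gX_dY_noncomm (ζ : Fˣ) (hζ3 : ζ ^ 3 = 1) (hz1 : ζ ≠ 1) (W : GL (Fin 3) F) :
    (W * gX * W⁻¹) * (W * dY ζ * W⁻¹) ≠ (W * dY ζ * W⁻¹) * (W * gX * W⁻¹) := by
  intro h
  apply hz1
  have h1 : gX * dY ζ = dY ζ * gX := by
    have h2 : W * (gX * dY ζ) * W⁻¹ = W * (dY ζ * gX) * W⁻¹ := by
      calc W * (gX * dY ζ) * W⁻¹ = (W * gX * W⁻¹) * (W * dY ζ * W⁻¹) := by group
        _ = (W * dY ζ * W⁻¹) * (W * gX * W⁻¹) := h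
        _ = W * (dY ζ * gX) * W⁻¹ := by group
    exact mul_left_cancel (mul_right_cancel h2)
  rw [dY_mul_gX ζ hζ3, mul_assoc] at h1
  have h2 : sc ζ = 1 := by
    have := h1.symm
    rwa [mul_eq_right] at this
  have h3 := congrArg Units.val h2
  rw [coe_sc] at h3
  have h4 := congrFun (congrFun h3 0) 0
  simp at h4
  exact h4

end

end Cfsg.Agent.Lib.Helper9.H9E27
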