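import Mathlib
import Cfsg.Agent.Lib.Helper9.Ext3SL3i

set_option autoImplicit false

/-! The 3-part of the order of `GL_3(p)` for `p ≡ 4, 7 (mod 9)`. -/

namespace Cfsg.Agent.Lib.Helper9.H9E27

open scoped MatrixGroups
open Matrix

theorem arith_not_dvd (p : ℕ) (hp9 : p % 9 = 4 ∨ p % 9 = 7) :
    ¬ (243 ∣ (p ^ 3 - p ^ 0) * (p ^ 3 - p ^ 1) * (p ^ 3 - p ^ 2)) := by
  obtain ⟨t, ht, ht3⟩ : ∃ t : ℕ, p = 3 * t + 1 ∧ (t % 3 = 1 ∨ t % 3 = 2) := by
    refine ⟨p / 3, ?_, ?_⟩ <;> omega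
  subst ht
  have e0 : (3 * t + 1) ^ 3 - (3 * t + 1) ^ 0 = 9 * t * (3 * t ^ 2 + 3 * t + 1) := by
    apply Nat.sub_eq_of_eq_add
    ring
  have e1 : (3 * t + 1) ^ 3 - (3 * t + 1) ^ 1 = (3 * t + 1) * (3 * t) * (3 * t + 2) := by
    apply Nat.sub_eq_of_eq_add
    ring
  have e2 : (3 * t + 1) ^ 3 - (3 * t + 1) ^ 2 = (3 * t + 1) ^ 2 * (3 * t) := by
    apply Nat.sub_eq_of_eq_add
    ring
  rw [e0, e1, e2]
  have : 9 * t * (3 * t ^ 2 + 3 * t + 1) * ((3 * t + 1) * (3 * t) * (3 * t + 2)) *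
      ((3 * t + 1) ^ 2 * (3 * t)) =
      81 * (t ^ 3 * (3 * t ^ 2 + 3 * t + 1) * (3 * t + 1) ^ 3 * (3 * t + 2)) := by ring
  rw [this]
  intro h
  have h3 : 3 ∣ t ^ 3 * (3 * t ^ 2 + 3 * t + 1) * (3 * t + 1) ^ 3 * (3 * t + 2) := by
    have : (243 : ℕ) = 81 * 3 := by norm_num
    rw [this] at h
    exact Nat.dvd_of_mul_dvd_mul_left (by norm_num) h
  have hp3 := Nat.prime_three
  rcases (Nat.Prime.dvd_mul hp3).mp h3 with h | h
  · rcases (Nat.Prime.dvd_mul hp3).mp h with h | h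
    · rcases (Nat.Prime.dvd_mul hp3).mp h with h | h
      · have := hp3.dvd_of_dvd_pow h
        omega
      · have : (3 * t ^ 2 + 3 * t + 1) % 3 = 1 := by
          have : 3 * t ^ 2 + 3 * t + 1 = 3 * (t ^ 2 + t) + 1 := by ring
          rw [this]
          omega
        omega
    · have := hp3.dvd_of_dvd_pow h
      omega
  · omega

theorem coe_dY {F : Type*} [Field F] (ζ : Fˣ) :
    ((dY ζ : GL (Fin 3) F) : Matrix (Fin 3) (Fin 3) F) =
      Matrix.diagonal ![1, (ζ : F), (ζ : F) ^ 2] := by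
  rw [dY, coe_dg]
  congr 1
  ext i
  fin_cases i <;> simp

section
variable {F : Type*} [Field F] [Fintype F]

theorem not_dvd_card_GL (p : ℕ) (hF : Fintype.card F = p) (hp9 : p % 9 = 4 ∨ p % 9 = 7) :
    ¬ (243 ∣ Nat.card (GL (Fin 3) F)) := by
  rw [Matrix.card_GL_field (𝔽 := F) 3, Fin.prod_univ_three, hF]
  exact arith_not_dvd p hp9

theorem det_surjective :
    Function.Surjective (Matrix.GeneralLinearGroup.det : GL (Fin 3) F →* Fˣ) := by
  intro u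
  refine ⟨dg ![u, 1, 1], ?_⟩
  rw [det_dg]
  simp

theorem card_GL_eq (p : ℕ) (hF : Fintype.card F = p) :
    Nat.card (GL (Fin 3) F) =
      Nat.card ((Matrix.GeneralLinearGroup.det : GL (Fin 3) F →* Fˣ).ker) * (p - 1) := by
  classical
  have h1 := Subgroup.card_mul_index ((Matrix.GeneralLinearGroup.det : GL (Fin 3) F →* Fˣ).ker)
  rw [Subgroup.index_ker, MonoidHom.range_eq_top.mpr det_surjective, Subgroup.card_top,
    Nat.card_eq_fintype_card (α := Fˣ), Fintype.card_units, hF] at h1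
  exact h1.symm

end

end Cfsg.Agent.Lib.Helper9.H9E27
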