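import Mathlib
import Cfsg.Prelude.Def_LieClassical
import Cfsg.Agent.Lib.Helper9.Ext3SL3j

set_option autoImplicit false

/-! Basic properties of the hermitian form `Σ uᵢ vᵢ^p` on `F^3`, `|F| = p^2`. -/

namespace Cfsg.Agent.Lib.Helper9.H9U27

open scoped MatrixGroups
open Matrix

section
variable {F : Type*} [Field F] (p : ℕ) [Fact p.Prime] [CharP F p]

theorem herm_add_left (u u' v : Fin 3 → F) :
    Cfsg.hermForm 3 F p (u + u') v = Cfsg.hermForm 3 F p u v + Cfsg.hermForm 3 F p u' v := by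
  unfold Cfsg.hermForm
  rw [← Finset.sum_add_distrib]
  apply Finset.sum_congr rfl
  intro i _
  rw [Pi.add_apply, add_mul]

theorem herm_smul_left (c : F) (u v : Fin 3 → F) :
    Cfsg.hermForm 3 F p (c • u) v = c * Cfsg.hermForm 3 F p u v := by
  unfold Cfsg.hermForm
  rw [Finset.mul_sum]
  apply Finset.sum_congr rfl
  intro i _
  rw [Pi.smul_apply, smul_eq_mul, mul_assoc]

theorem herm_add_right (u v v' : Fin 3 → F) :
    Cfsg.hermForm 3 F p u (v + v') = Cfsg.hermForm 3 F p u v + Cfsg.hermForm 3 F p u v' := by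
  unfold Cfsg.hermForm
  rw [← Finset.sum_add_distrib]
  apply Finset.sum_congr rfl
  intro i _
  rw [Pi.add_apply, add_pow_char, mul_add]

theorem herm_smul_right (c : F) (u v : Fin 3 → F) :
    Cfsg.hermForm 3 F p u (c • v) = c ^ p * Cfsg.hermForm 3 F p u v := by
  unfold Cfsg.hermForm
  rw [Finset.mul_sum]
  apply Finset.sum_congr rfl
  intro i _
  rw [Pi.smul_apply, smul_eq_mul, mul_pow]
  ring

theorem herm_zero_left (v : Fin 3 → F) : Cfsg.hermForm 3 F p 0 v = 0 := by
  unfold Cfsg.hermForm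
  simp

theorem herm_zero_right (u : Fin 3 → F) : Cfsg.hermForm 3 F p u 0 = 0 := by
  unfold Cfsg.hermForm
  have hp : p ≠ 0 := (Fact.out : p.Prime).ne_zero
  simp [hp]

theorem herm_single (u : Fin 3 → F) (j : Fin 3) :
    Cfsg.hermForm 3 F p u (Pi.single j 1) = u j := by
  unfold Cfsg.hermForm
  have hp : p ≠ 0 := (Fact.out : p.Prime).ne_zero
  rw [Finset.sum_eq_single j]
  · simp
  · intro i _ hij
    rw [Pi.single_eq_of_ne hij, zero_pow hp, mul_zero]
  · intro h
    exact absurd (Finset.mem_univ j) h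

theorem herm_nondeg (u : Fin 3 → F) (h : ∀ v, Cfsg.hermForm 3 F p u v = 0) : u = 0 := by
  ext j
  rw [← herm_single p u j, h]
  rfl

/-- a linear combination in the first variable -/
theorem herm_comb_left (a b : F) (u u' v : Fin 3 → F) :
    Cfsg.hermForm 3 F p (a • u + b • u') v =
      a * Cfsg.hermForm 3 F p u v + b * Cfsg.hermForm 3 F p u' v := by
  rw [herm_add_left, herm_smul_left, herm_smul_left]

theorem herm_comb_right (a b : F) (u v v' : Fin 3 → F) :
    Cfsg.hermForm 3 F p u (a • v + b • v') =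
      a ^ p * Cfsg.hermForm 3 F p u v + b ^ p * Cfsg.hermForm 3 F p u v' := by
  rw [herm_add_right, herm_smul_right, herm_smul_right]

end

section
variable {F : Type*} [Field F] [Fintype F] (p : ℕ) [Fact p.Prime] [CharP F p]

theorem pow_p_p (hF : Fintype.card F = p ^ 2) (a : F) : (a ^ p) ^ p = a := by
  rw [← pow_mul, ← pow_two, ← hF, FiniteField.pow_card]

theorem herm_conj (hF : Fintype.card F = p ^ 2) (u v : Fin 3 → F) :
    (Cfsg.hermForm 3 F p u v) ^ p = Cfsg.hermForm 3 F p v u := by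
  unfold Cfsg.hermForm
  rw [sum_pow_char]
  apply Finset.sum_congr rfl
  intro i _
  rw [mul_pow, pow_p_p p hF, mul_comm]

theorem herm_self_fixed (hF : Fintype.card F = p ^ 2) (u : Fin 3 → F) :
    (Cfsg.hermForm 3 F p u u) ^ p = Cfsg.hermForm 3 F p u u := herm_conj p hF u u

/-- the norm map `c ↦ c^(p+1)` is onto the nonzero elements fixed by Frobenius -/
theorem norm_surj (hF : Fintype.card F = p ^ 2) (n : F) (hn0 : n ≠ 0) (hn : n ^ p = n) :
    ∃ c : F, c ^ (p + 1) = n := by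
  classical
  have hpp : p.Prime := Fact.out
  have hcard : Nat.card Fˣ = p ^ 2 - 1 := by
    rw [Nat.card_eq_fintype_card, Fintype.card_units, hF]
  obtain ⟨g, hg⟩ := IsCyclic.exists_generator (α := Fˣ)
  have hog : orderOf g = p ^ 2 - 1 := by
    rw [orderOf_eq_card_of_forall_mem_zpowers hg, hcard]
  obtain ⟨k, hk⟩ := Subgroup.mem_zpowers_iff.mp (hg (Units.mk0 n hn0))
  have hfac : p ^ 2 - 1 = (p + 1) * (p - 1) := by
    have h1 : 1 ≤ p := hpp.one_lt.le
    obtain ⟨m, rfl⟩ : ∃ m, p = m + 1 := ⟨p - 1, by omega⟩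
    simp only [Nat.add_sub_cancel]
    have : (m + 1) ^ 2 = (m + 1 + 1) * m + 1 := by ring
    rw [this, Nat.add_sub_cancel]
  have hp1 : 0 < p - 1 := by have := hpp.two_le; omega
  have h1 : g ^ (k * ((p - 1 : ℕ) : ℤ)) = 1 := by
    rw [_root_.zpow_mul, hk]
    apply Units.ext
    rw [zpow_natCast, Units.val_pow_eq_pow_val, Units.val_mk0, Units.val_one]
    have hn' : n ^ p = n ^ 1 := by rw [pow_one]; exact hn
    have : n ^ (p - 1) * n = 1 * n := by
      rw [← pow_succ, one_mul]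
      have : p - 1 + 1 = p := by omega
      rw [this]
      exact hn
    exact mul_right_cancel₀ hn0 this
  have h2 := orderOf_dvd_iff_zpow_eq_one.mpr h1
  rw [hog, hfac] at h2
  have h3 : ((p + 1 : ℕ) : ℤ) ∣ k := by
    have : (((p + 1) * (p - 1) : ℕ) : ℤ) = ((p + 1 : ℕ) : ℤ) * ((p - 1 : ℕ) : ℤ) := by
      push_cast
      ring
    rw [this] at h2
    have hne : ((p - 1 : ℕ) : ℤ) ≠ 0 := by
      exact_mod_cast hp1.ne'
    exact (mul_dvd_mul_iff_right hne).mp h2
  obtain ⟨j, hj⟩ := h3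
  refine ⟨((g ^ j : Fˣ) : F), ?_⟩
  have : (g ^ j) ^ (p + 1) = Units.mk0 n hn0 := by
    rw [← hk, hj, ← zpow_natCast, ← _root_.zpow_mul, mul_comm]
  have := congrArg Units.val this
  simpa using this

end

end Cfsg.Agent.Lib.Helper9.H9U27
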