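import Mathlib
import Cfsg.Agent.Lib.Helper9.Ext3SU3a

set_option autoImplicit false

/-! Gram matrices, orthonormal columns, and Gram–Schmidt in dimension 2 for the hermitian form. -/

namespace Cfsg.Agent.Lib.Helper9.H9U27

open scoped MatrixGroups
open Matrix

section
variable {F : Type*} [Field F] (p : ℕ) [Fact p.Prime] [CharP F p]

local notation "hf" => Cfsg.hermForm 3 F p

theorem mulVec_cols (W : Matrix (Fin 3) (Fin 3) F) (u : Fin 3 → F) :
    W *ᵥ u = u 0 • (fun k => W k 0) + u 1 • (fun k => W k 1) + u 2 • (fun k => W k 2) := by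
  ext k
  simp [Matrix.mulVec, dotProduct, Fin.sum_univ_three]
  ring

theorem herm_gram (W : Matrix (Fin 3) (Fin 3) F) (u v : Fin 3 → F) :
    hf (W *ᵥ u) (W *ᵥ v) =
      ∑ i, ∑ j, u i * (v j) ^ p * hf (fun k => W k i) (fun k => W k j) := by
  rw [mulVec_cols W u, mulVec_cols W v]
  simp only [herm_add_left, herm_add_right, herm_smul_left, herm_smul_right, Fin.sum_univ_three]
  ring

theorem preserves_of_orthonormal (W : Matrix (Fin 3) (Fin 3) F)
    (hG : ∀ i j, hf (fun k => W k i) (fun k => W k j) = if i = j then 1 else 0) (u v : Fin 3 → F) :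
    hf (W *ᵥ u) (W *ᵥ v) = hf u v := by
  rw [herm_gram]
  simp only [hG]
  unfold Cfsg.hermForm
  simp [Fin.sum_univ_three]

theorem mulVec_single_col (W : Matrix (Fin 3) (Fin 3) F) (i : Fin 3) :
    W *ᵥ (Pi.single i 1) = fun k => W k i := by
  ext k
  rw [Matrix.mulVec, dotProduct, Finset.sum_eq_single i]
  · rw [Pi.single_eq_same, mul_one]
  · intro j _ hj
    rw [Pi.single_eq_of_ne hj, mul_zero]
  · intro h
    exact absurd (Finset.mem_univ i) h

theorem herm_single_single (i j : Fin 3) :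
    hf (Pi.single i 1) (Pi.single j 1) = if i = j then 1 else 0 := by
  rw [herm_single]
  by_cases h : i = j
  · subst h; simp
  · rw [if_neg h, Pi.single_eq_of_ne (Ne.symm h)]

theorem orthonormal_of_preserves (W : Matrix (Fin 3) (Fin 3) F)
    (hW : ∀ u v, hf (W *ᵥ u) (W *ᵥ v) = hf u v) (i j : Fin 3) :
    hf (fun k => W k i) (fun k => W k j) = if i = j then 1 else 0 := by
  rw [← mulVec_single_col W i, ← mulVec_single_col W j, hW, herm_single_single]

theorem unit_of_preserves (W : Matrix (Fin 3) (Fin 3) F)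
    (hW : ∀ u v, hf (W *ᵥ u) (W *ᵥ v) = hf u v) : IsUnit W := by
  rw [← Matrix.mulVec_injective_iff_isUnit]
  intro u u' huu
  have h0 : W *ᵥ (u - u') = 0 := by rw [Matrix.mulVec_sub, huu, sub_self]
  have : u - u' = 0 := by
    apply herm_nondeg p
    intro v
    rw [← hW, h0, herm_zero_left]
  exact sub_eq_zero.mp this

theorem det_norm_of_preserves (W : Matrix (Fin 3) (Fin 3) F)
    (hW : ∀ u v, hf (W *ᵥ u) (W *ᵥ v) = hf u v) : W.det ^ (p + 1) = 1 := by
  have hG : Wᵀ * (frobenius F p).mapMatrix W = 1 := by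
    ext i j
    rw [Matrix.mul_apply, Matrix.one_apply]
    have := orthonormal_of_preserves p W hW i j
    unfold Cfsg.hermForm at this
    rw [← this]
    apply Finset.sum_congr rfl
    intro k _
    rw [Matrix.transpose_apply, RingHom.mapMatrix_apply, Matrix.map_apply, frobenius_def]
  have := congrArg Matrix.det hG
  rw [Matrix.det_mul, Matrix.det_transpose, ← RingHom.map_det, frobenius_def, Matrix.det_one] at this
  rw [pow_succ, mul_comm]
  exact this

theorem eigen_orth (x : Matrix (Fin 3) (Fin 3) F)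
    (hx : ∀ u v, hf (x *ᵥ u) (x *ᵥ v) = hf u v) (u v : Fin 3 → F) (l₁ l₂ : F)
    (hu : x *ᵥ u = l₁ • u) (hv : x *ᵥ v = l₂ • v) (hl₂ : l₂ ^ (p + 1) = 1) (hne : l₁ ≠ l₂) :
    hf u v = 0 := by
  have h1 := hx u v
  rw [hu, hv, herm_smul_left, herm_smul_right] at h1
  by_contra h0
  apply hne
  have h2 : l₁ * l₂ ^ p = 1 := by
    have : (l₁ * l₂ ^ p) * hf u v = 1 * hf u v := by rw [one_mul]; linear_combination h1
    exact mul_right_cancel₀ h0 this
  calc l₁ = l₁ * l₂ ^ (p + 1) := by rw [hl₂, mul_one]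
    _ = (l₁ * l₂ ^ p) * l₂ := by rw [pow_succ]; ring
    _ = l₂ := by rw [h2, one_mul]

end

section
variable {F : Type*} [Field F] [Fintype F] (p : ℕ) [Fact p.Prime] [CharP F p]

local notation "hf" => Cfsg.hermForm 3 F p

theorem normalize (hF : Fintype.card F = p ^ 2) (v : Fin 3 → F) (hn : hf v v ≠ 0) :
    ∃ c : F, c ≠ 0 ∧ hf (c • v) (c • v) = 1 := by
  obtain ⟨c, hc⟩ := norm_surj p hF (hf v v)⁻¹ (inv_ne_zero hn) (by
    rw [inv_pow, herm_self_fixed p hF])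
  refine ⟨c, ?_, ?_⟩
  · intro h
    rw [h, zero_pow (Nat.succ_ne_zero p)] at hc
    exact inv_ne_zero hn hc.symm
  · rw [herm_smul_left p, herm_smul_right p, ← mul_assoc, ← pow_succ', hc, inv_mul_cancel₀ hn]

theorem gs_step (hF : Fintype.card F = p ^ 2) (v w : Fin 3 → F) (hn : hf v v ≠ 0) :
    hf (w + (-(hf w v / hf v v)) • v) v = 0 ∧ hf v (w + (-(hf w v / hf v v)) • v) = 0 ∧
      hf (w + (-(hf w v / hf v v)) • v) (w + (-(hf w v / hf v v)) • v) * hf v v =
        hf v v * hf w w - hf v w * hf w v := by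
  obtain ⟨t, ht⟩ : ∃ t : F, t = hf w v / hf v v := ⟨_, rfl⟩
  rw [← ht]
  obtain ⟨w', hw'⟩ : ∃ w' : Fin 3 → F, w' = w + (-t) • v := ⟨_, rfl⟩
  rw [← hw']
  have e1 : hf w' v = 0 := by
    rw [hw', herm_add_left p, herm_smul_left p, ht]
    field_simp
    ring
  have e2 : hf v w' = 0 := by
    rw [← herm_conj p hF, e1, zero_pow (Fact.out : p.Prime).ne_zero]
  refine ⟨e1, e2, ?_⟩
  have key : hf w' w' = hf w' w + (-t) ^ p * hf w' v := by
    have := herm_add_right p w' w ((-t) • v)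
    rw [herm_smul_right p, ← hw'] at this
    exact this
  have key2 : hf w' w = hf w w + (-t) * hf v w := by
    rw [hw', herm_add_left p, herm_smul_left p]
  rw [key, e1, mul_zero, add_zero, key2, ht]
  field_simp
  ring

/-- membership in the span of two vectors -/
def InSpan2 (u₁ u₂ v : Fin 3 → F) : Prop := ∃ a b : F, v = a • u₁ + b • u₂

omit [Fintype F] in
theorem inSpan2_left (u₁ u₂ : Fin 3 → F) : InSpan2 u₁ u₂ u₁ := ⟨1, 0, by module⟩

omit [Fintype F] in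
theorem inSpan2_right (u₁ u₂ : Fin 3 → F) : InSpan2 u₁ u₂ u₂ := ⟨0, 1, by module⟩

omit [Fintype F] in
theorem InSpan2.smul {u₁ u₂ v : Fin 3 → F} (hv : InSpan2 u₁ u₂ v) (c : F) :
    InSpan2 u₁ u₂ (c • v) := by
  obtain ⟨a, b, rfl⟩ := hv
  exact ⟨c * a, c * b, by module⟩

omit [Fintype F] in
theorem InSpan2.add {u₁ u₂ v w : Fin 3 → F} (hv : InSpan2 u₁ u₂ v) (hw : InSpan2 u₁ u₂ w) :
    InSpan2 u₁ u₂ (v + w) := by
  obtain ⟨a, b, rfl⟩ := hv
  obtain ⟨a', b', rfl⟩ := hw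
  exact ⟨a + a', b + b', by module⟩

theorem on2_core (hF : Fintype.card F = p ^ 2) (v w : Fin 3 → F) (hn : hf v v ≠ 0)
    (hD : hf v v * hf w w - hf v w * hf w v ≠ 0) :
    ∃ v₁ v₂ : Fin 3 → F, InSpan2 v w v₁ ∧ InSpan2 v w v₂ ∧ hf v₁ v₁ = 1 ∧ hf v₂ v₂ = 1 ∧
      hf v₁ v₂ = 0 ∧ hf v₂ v₁ = 0 := by
  obtain ⟨e1, e2, e3⟩ := gs_step p hF v w hn
  set w' : Fin 3 → F := w + (-(hf w v / hf v v)) • v with hw'
  have hn' : hf w' w' ≠ 0 := by
    intro h
    rw [h, zero_mul] at e3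
    exact hD e3.symm
  obtain ⟨c₁, hc₁, hv₁⟩ := normalize p hF v hn
  obtain ⟨c₂, hc₂, hv₂⟩ := normalize p hF w' hn'
  refine ⟨c₁ • v, c₂ • w', (inSpan2_left v w).smul c₁, ?_, hv₁, hv₂, ?_, ?_⟩
  · apply InSpan2.smul
    rw [hw']
    exact (inSpan2_right v w).add ((inSpan2_left v w).smul _)
  · rw [herm_smul_left p, herm_smul_right p, e2, mul_zero, mul_zero]
  · rw [herm_smul_left p, herm_smul_right p, e1, mul_zero, mul_zero]

omit [Fintype F] in
theorem InSpan2.trans {u₁ u₂ v w z : Fin 3 → F} (hv : InSpan2 u₁ u₂ v) (hw : InSpan2 u₁ u₂ w)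
    (hz : InSpan2 v w z) : InSpan2 u₁ u₂ z := by
  obtain ⟨a, b, rfl⟩ := hz
  exact (hv.smul a).add (hw.smul b)

theorem on2 (hF : Fintype.card F = p ^ 2) (h2 : (2 : F) ≠ 0) (u₁ u₂ : Fin 3 → F)
    (hD : hf u₁ u₁ * hf u₂ u₂ - hf u₁ u₂ * hf u₂ u₁ ≠ 0) :
    ∃ v₁ v₂ : Fin 3 → F, InSpan2 u₁ u₂ v₁ ∧ InSpan2 u₁ u₂ v₂ ∧ hf v₁ v₁ = 1 ∧ hf v₂ v₂ = 1 ∧
      hf v₁ v₂ = 0 ∧ hf v₂ v₁ = 0 := by
  by_cases ha : hf u₁ u₁ = 0
  · by_cases hd : hf u₂ u₂ = 0
    · -- both isotropic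
      have hb : hf u₁ u₂ ≠ 0 := by
        intro h
        apply hD
        rw [ha, h]
        ring
      have hb' : hf u₂ u₁ = (hf u₁ u₂) ^ p := (herm_conj p hF u₁ u₂).symm
      obtain ⟨b, hbdef⟩ : ∃ b : F, b = hf u₁ u₂ := ⟨_, rfl⟩
      rw [← hbdef] at hb hb'
      obtain ⟨c, hc⟩ : ∃ c : F, c = (b⁻¹) ^ p := ⟨_, rfl⟩
      have hcp : c ^ p = b⁻¹ := by rw [hc, pow_p_p p hF]
      have ec1 : c * b ^ p = 1 := by rw [hc, ← mul_pow, inv_mul_cancel₀ hb, one_pow]
      have ec2 : c ^ p * b = 1 := by rw [hcp, inv_mul_cancel₀ hb]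
      have hvu₂ : hf (u₁ + c • u₂) u₂ = b := by
        rw [herm_add_left p, herm_smul_left p, hd, mul_zero, add_zero, hbdef]
      have hu₂v : hf u₂ (u₁ + c • u₂) = b ^ p := by
        rw [herm_add_right p, herm_smul_right p, hd, mul_zero, add_zero, hb']
      have hvv : hf (u₁ + c • u₂) (u₁ + c • u₂) = 2 := by
        simp only [herm_add_left, herm_add_right, herm_smul_left, herm_smul_right]
        rw [ha, hd, hb', ← hbdef]
        linear_combination ec1 + ec2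
      have hvspan : InSpan2 u₁ u₂ (u₁ + c • u₂) :=
        (inSpan2_left u₁ u₂).add ((inSpan2_right u₁ u₂).smul c)
      obtain ⟨v₁, v₂, hs1, hs2, h11, h22, h12, h21⟩ := on2_core p hF (u₁ + c • u₂) u₂
        (by rw [hvv]; exact h2)
        (by
          rw [hd, hvu₂, hu₂v, mul_zero, zero_sub, neg_ne_zero]
          exact mul_ne_zero hb (pow_ne_zero p hb))
      exact ⟨v₁, v₂, hvspan.trans (inSpan2_right u₁ u₂) hs1,
        hvspan.trans (inSpan2_right u₁ u₂) hs2, h11, h22, h12, h21⟩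
    · obtain ⟨v₁, v₂, hs1, hs2, h11, h22, h12, h21⟩ := on2_core p hF u₂ u₁ hd (by
        intro h
        apply hD
        rw [← h]
        ring)
      exact ⟨v₁, v₂, (inSpan2_right u₁ u₂).trans (inSpan2_left u₁ u₂) hs1,
        (inSpan2_right u₁ u₂).trans (inSpan2_left u₁ u₂) hs2, h11, h22, h12, h21⟩
  · exact on2_core p hF u₁ u₂ ha hD

end

end Cfsg.Agent.Lib.Helper9.H9U27
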