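import Mathlib
import Cfsg.Agent.Lib.Helper9.Ext3SU3b

set_option autoImplicit false

/-! Unitary diagonalisation of a `3 × 3` isometry annihilated by a product of distinct linear
factors whose roots have norm 1. -/

namespace Cfsg.Agent.Lib.Helper9.H9U27

open scoped MatrixGroups
open Matrix Polynomial
open Cfsg.Agent.Lib.Helper9.H9E27

section
variable {F : Type*} [Field F]

theorem perm_eigenbasis (x S₀ : Matrix (Fin 3) (Fin 3) F) (d : Fin 3 → F) (hS : IsUnit S₀)
    (hxS : x * S₀ = S₀ * Matrix.diagonal d) (σ : Equiv.Perm (Fin 3)) :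
    IsUnit (S₀.submatrix id σ) ∧
      x * S₀.submatrix id σ = S₀.submatrix id σ * Matrix.diagonal (d ∘ σ) := by
  constructor
  · rw [Matrix.isUnit_iff_isUnit_det, Matrix.det_permute']
    apply IsUnit.mul
    · exact (Int.isUnit_iff.mpr (Int.units_eq_one_or (Equiv.Perm.sign σ) |>.imp
        (fun h => by rw [h]; rfl) (fun h => by rw [h]; rfl))).map (Int.castRingHom F)
    · exact (Matrix.isUnit_iff_isUnit_det S₀).mp hS
  · ext a b
    have := congrFun (congrFun hxS a) (σ b)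
    rw [Matrix.mul_diagonal] at this ⊢
    rw [Matrix.mul_apply] at this ⊢
    simpa using this

theorem exists_odd_one (d : Fin 3 → F) (h : ¬ (d 0 = d 1 ∧ d 1 = d 2)) :
    ∃ σ : Equiv.Perm (Fin 3), d (σ 2) ≠ d (σ 0) ∧ d (σ 2) ≠ d (σ 1) := by
  by_cases h01 : d 0 = d 1
  · have h12 : d 1 ≠ d 2 := fun h' => h ⟨h01, h'⟩
    refine ⟨1, ?_, ?_⟩
    · simp only [Equiv.Perm.coe_one, id_eq]
      rw [h01]
      exact h12.symm
    · simp only [Equiv.Perm.coe_one, id_eq]
      exact h12.symm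
  · by_cases h02 : d 0 = d 2
    · refine ⟨Equiv.swap 1 2, ?_, ?_⟩
      · rw [Equiv.swap_apply_right, Equiv.swap_apply_of_ne_of_ne (by decide) (by decide)]
        exact Ne.symm h01
      · rw [Equiv.swap_apply_right, Equiv.swap_apply_left, ← h02]
        exact Ne.symm h01
    · by_cases h12 : d 1 = d 2
      · refine ⟨Equiv.swap 0 2, ?_, ?_⟩
        · rw [Equiv.swap_apply_right, Equiv.swap_apply_left]
          exact h02
        · rw [Equiv.swap_apply_right, Equiv.swap_apply_of_ne_of_ne (by decide) (by decide)]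
          exact h01
      · refine ⟨1, ?_, ?_⟩
        · simp only [Equiv.Perm.coe_one, id_eq]
          exact Ne.symm h02
        · simp only [Equiv.Perm.coe_one, id_eq]
          exact Ne.symm h12

end

section
variable {F : Type*} [Field F] [Fintype F] (p : ℕ) [Fact p.Prime] [CharP F p]

local notation "hf" => Cfsg.hermForm 3 F p

theorem unitary_diag (hF : Fintype.card F = p ^ 2) (h2 : (2 : F) ≠ 0)
    (x : Matrix (Fin 3) (Fin 3) F) (hx : ∀ u v, hf (x *ᵥ u) (x *ᵥ v) = hf u v)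
    (Λ : Finset F) (hΛ : ∀ l ∈ Λ, l ^ (p + 1) = 1)
    (haev : aeval x (∏ l ∈ Λ, (X - C l)) = 0) :
    ∃ (S : Matrix (Fin 3) (Fin 3) F) (d : Fin 3 → F),
      (∀ u v, hf (S *ᵥ u) (S *ᵥ v) = hf u v) ∧ (∀ i, d i ∈ Λ) ∧
        x * S = S * Matrix.diagonal d := by
  classical
  obtain ⟨S₀, d₀, hS₀, hd₀Λ, hxS₀⟩ := exists_eigenbasis x Λ haev
  by_cases hall : d₀ 0 = d₀ 1 ∧ d₀ 1 = d₀ 2
  · refine ⟨1, fun _ => d₀ 0, ?_, fun _ => hd₀Λ 0, ?_⟩
    · intro u v
      rw [Matrix.one_mulVec, Matrix.one_mulVec]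
    · have hdiag : Matrix.diagonal d₀ = d₀ 0 • (1 : Matrix (Fin 3) (Fin 3) F) := by
        ext i j
        by_cases h : i = j
        · subst h
          fin_cases i
          · simp
          · simp [hall.1]
          · simp [hall.1, hall.2]
        · simp [h]
      rw [hdiag] at hxS₀
      obtain ⟨S₀u, hS₀u⟩ := hS₀
      have hxs : x = d₀ 0 • (1 : Matrix (Fin 3) (Fin 3) F) := by
        calc x = x * ((S₀u : Matrix (Fin 3) (Fin 3) F) *
              ((S₀u⁻¹ : (Matrix (Fin 3) (Fin 3) F)ˣ) : Matrix (Fin 3) (Fin 3) F)) := by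
              rw [Units.mul_inv, mul_one]
          _ = (x * S₀) * ((S₀u⁻¹ : (Matrix (Fin 3) (Fin 3) F)ˣ) : Matrix (Fin 3) (Fin 3) F) := by
              rw [hS₀u, mul_assoc]
          _ = d₀ 0 • ((S₀u : Matrix (Fin 3) (Fin 3) F) *
              ((S₀u⁻¹ : (Matrix (Fin 3) (Fin 3) F)ˣ) : Matrix (Fin 3) (Fin 3) F)) := by
              rw [hxS₀, hS₀u]
              simp
          _ = d₀ 0 • (1 : Matrix (Fin 3) (Fin 3) F) := by rw [Units.mul_inv]
      rw [mul_one, one_mul, hxs]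
      ext i j
      by_cases h : i = j
      · subst h; simp
      · simp [h]
  · obtain ⟨σ, hσ0, hσ1⟩ := exists_odd_one d₀ hall
    obtain ⟨hS, hxS⟩ := perm_eigenbasis x S₀ d₀ hS₀ hxS₀ σ
    obtain ⟨S₁, hS₁⟩ : ∃ S₁ : Matrix (Fin 3) (Fin 3) F, S₁ = S₀.submatrix id σ := ⟨_, rfl⟩
    obtain ⟨d, hd⟩ : ∃ d : Fin 3 → F, d = d₀ ∘ σ := ⟨_, rfl⟩
    rw [← hS₁, ← hd] at hxS
    rw [← hS₁] at hS
    have hdΛ : ∀ i, d i ∈ Λ := by
      intro i
      rw [hd]
      exact hd₀Λ (σ i)
    have hd20 : d 2 ≠ d 0 := by rw [hd]; exact hσ0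
    have hd21 : d 2 ≠ d 1 := by rw [hd]; exact hσ1
    have heig : ∀ j, x *ᵥ (fun k => S₁ k j) = d j • (fun k => S₁ k j) := by
      intro j
      ext k
      have := congrFun (congrFun hxS k) j
      rw [Matrix.mul_diagonal] at this
      rw [Pi.smul_apply, smul_eq_mul, mul_comm, ← this]
      rfl
    have hnorm : ∀ j, d j ^ (p + 1) = 1 := fun j => hΛ _ (hdΛ j)
    have h02 : hf (fun k => S₁ k 0) (fun k => S₁ k 2) = 0 :=
      eigen_orth p x hx _ _ _ _ (heig 0) (heig 2) (hnorm 2) (Ne.symm hd20)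
    have h20 : hf (fun k => S₁ k 2) (fun k => S₁ k 0) = 0 :=
      eigen_orth p x hx _ _ _ _ (heig 2) (heig 0) (hnorm 0) hd20
    have h12 : hf (fun k => S₁ k 1) (fun k => S₁ k 2) = 0 :=
      eigen_orth p x hx _ _ _ _ (heig 1) (heig 2) (hnorm 2) (Ne.symm hd21)
    have h21 : hf (fun k => S₁ k 2) (fun k => S₁ k 1) = 0 :=
      eigen_orth p x hx _ _ _ _ (heig 2) (heig 1) (hnorm 1) hd21
    -- the Gram determinant
    have hGdet : (S₁ᵀ * (frobenius F p).mapMatrix S₁).det ≠ 0 := by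
      rw [Matrix.det_mul, Matrix.det_transpose, ← RingHom.map_det, frobenius_def]
      have := ((Matrix.isUnit_iff_isUnit_det S₁).mp hS).ne_zero
      exact mul_ne_zero this (pow_ne_zero p this)
    have hGent : ∀ i j, (S₁ᵀ * (frobenius F p).mapMatrix S₁) i j =
        hf (fun k => S₁ k i) (fun k => S₁ k j) := by
      intro i j
      rw [Matrix.mul_apply]
      unfold Cfsg.hermForm
      apply Finset.sum_congr rfl
      intro k _
      rw [Matrix.transpose_apply, RingHom.mapMatrix_apply, Matrix.map_apply, frobenius_def]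
    rw [Matrix.det_fin_three] at hGdet
    simp only [hGent, h02, h20, h12, h21] at hGdet
    have hD : hf (fun k => S₁ k 0) (fun k => S₁ k 0) * hf (fun k => S₁ k 1) (fun k => S₁ k 1) -
        hf (fun k => S₁ k 0) (fun k => S₁ k 1) * hf (fun k => S₁ k 1) (fun k => S₁ k 0) ≠ 0 := by
      intro h
      apply hGdet
      linear_combination (hf (fun k => S₁ k 2) (fun k => S₁ k 2)) * h
    have hn2 : hf (fun k => S₁ k 2) (fun k => S₁ k 2) ≠ 0 := by
      intro h
      apply hGdet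
      rw [h]
      ring
    -- the first two vectors
    have hpair : ∃ v₁ v₂ : Fin 3 → F, x *ᵥ v₁ = d 0 • v₁ ∧ x *ᵥ v₂ = d 1 • v₂ ∧
        hf v₁ v₁ = 1 ∧ hf v₂ v₂ = 1 ∧ hf v₁ v₂ = 0 ∧ hf v₂ v₁ = 0 ∧
        hf v₁ (fun k => S₁ k 2) = 0 ∧ hf v₂ (fun k => S₁ k 2) = 0 := by
      by_cases h01 : d 0 = d 1
      · obtain ⟨v₁, v₂, hs1, hs2, h11, h22, h12', h21'⟩ := on2 p hF h2 _ _ hD
        have hspan : ∀ v, InSpan2 (fun k => S₁ k 0) (fun k => S₁ k 1) v →
            x *ᵥ v = d 0 • v ∧ hf v (fun k => S₁ k 2) = 0 := by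
          intro v hv
          obtain ⟨a, b, rfl⟩ := hv
          constructor
          · rw [Matrix.mulVec_add, Matrix.mulVec_smul, Matrix.mulVec_smul, heig 0, heig 1, ← h01]
            module
          · rw [herm_comb_left, h02, h12, mul_zero, mul_zero, add_zero]
        refine ⟨v₁, v₂, (hspan v₁ hs1).1, ?_, h11, h22, h12', h21', (hspan v₁ hs1).2,
          (hspan v₂ hs2).2⟩
        rw [← h01]
        exact (hspan v₂ hs2).1
      · have hb : hf (fun k => S₁ k 0) (fun k => S₁ k 1) = 0 :=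
          eigen_orth p x hx _ _ _ _ (heig 0) (heig 1) (hnorm 1) h01
        have hb' : hf (fun k => S₁ k 1) (fun k => S₁ k 0) = 0 :=
          eigen_orth p x hx _ _ _ _ (heig 1) (heig 0) (hnorm 0) (Ne.symm h01)
        rw [hb, hb', mul_zero, sub_zero] at hD
        obtain ⟨c₀, hc₀, hv₀⟩ := normalize p hF _ (left_ne_zero_of_mul hD)
        obtain ⟨c₁, hc₁, hv₁⟩ := normalize p hF _ (right_ne_zero_of_mul hD)
        refine ⟨c₀ • (fun k => S₁ k 0), c₁ • (fun k => S₁ k 1), ?_, ?_, hv₀, hv₁, ?_, ?_, ?_, ?_⟩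
        · rw [Matrix.mulVec_smul, heig 0, smul_comm]
        · rw [Matrix.mulVec_smul, heig 1, smul_comm]
        · rw [herm_smul_left p, herm_smul_right p, hb, mul_zero, mul_zero]
        · rw [herm_smul_left p, herm_smul_right p, hb', mul_zero, mul_zero]
        · rw [herm_smul_left p, h02, mul_zero]
        · rw [herm_smul_left p, h12, mul_zero]
    obtain ⟨v₁, v₂, he1, he2, h11, h22, h12', h21', h13, h23⟩ := hpair
    obtain ⟨c₂, hc₂, h33⟩ := normalize p hF _ hn2
    obtain ⟨v₃, hv₃⟩ : ∃ v₃ : Fin 3 → F, v₃ = c₂ • (fun k => S₁ k 2) := ⟨_, rfl⟩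
    rw [← hv₃] at h33
    have he3 : x *ᵥ v₃ = d 2 • v₃ := by
      rw [hv₃, Matrix.mulVec_smul, heig 2, smul_comm]
    have h13' : hf v₁ v₃ = 0 := by rw [hv₃, herm_smul_right p, h13, mul_zero]
    have h23' : hf v₂ v₃ = 0 := by rw [hv₃, herm_smul_right p, h23, mul_zero]
    have h31' : hf v₃ v₁ = 0 := by
      rw [← herm_conj p hF, h13', zero_pow (Fact.out : p.Prime).ne_zero]
    have h32' : hf v₃ v₂ = 0 := by
      rw [← herm_conj p hF, h23', zero_pow (Fact.out : p.Prime).ne_zero]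
    refine ⟨Matrix.of (fun k j => (![v₁, v₂, v₃] : Fin 3 → Fin 3 → F) j k), d, ?_, hdΛ, ?_⟩
    · apply preserves_of_orthonormal
      intro i j
      fin_cases i <;> fin_cases j
      · exact h11
      · exact h12'
      · exact h13'
      · exact h21'
      · exact h22
      · exact h23'
      · exact h31'
      · exact h32'
      · exact h33
    · ext k j
      rw [Matrix.mul_diagonal]
      fin_cases j
      · show (x *ᵥ v₁) k = v₁ k * d 0
        rw [he1, Pi.smul_apply, smul_eq_mul, mul_comm]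
      · show (x *ᵥ v₂) k = v₂ k * d 1
        rw [he2, Pi.smul_apply, smul_eq_mul, mul_comm]
      · show (x *ᵥ v₃) k = v₃ k * d 2
        rw [he3, Pi.smul_apply, smul_eq_mul, mul_comm]

end

end Cfsg.Agent.Lib.Helper9.H9U27
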