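import Mathlib
import Cfsg.Agent.Lib.Helper9.Ext3SU3c

set_option autoImplicit false

/-! Membership in the unitary group `GU_3`. -/

namespace Cfsg.Agent.Lib.Helper9.H9U27

open scoped MatrixGroups
open Matrix
open Cfsg.Agent.Lib.Helper9.H9E27

section
variable {F : Type*} [Field F] (p : ℕ) [Fact p.Prime] [CharP F p]

local notation "hf" => Cfsg.hermForm 3 F p

theorem mem_GU_iff (g : GL (Fin 3) F) :
    g ∈ Cfsg.GU 3 F p ↔ ∀ u v, hf ((g : Matrix (Fin 3) (Fin 3) F) *ᵥ u)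
      ((g : Matrix (Fin 3) (Fin 3) F) *ᵥ v) = hf u v := Iff.rfl

theorem exists_GU_of_preserves (S : Matrix (Fin 3) (Fin 3) F)
    (hS : ∀ u v, hf (S *ᵥ u) (S *ᵥ v) = hf u v) :
    ∃ g : GL (Fin 3) F, (g : Matrix (Fin 3) (Fin 3) F) = S ∧ g ∈ Cfsg.GU 3 F p := by
  have hu := unit_of_preserves p S hS
  refine ⟨hu.unit, IsUnit.unit_spec hu, ?_⟩
  rw [mem_GU_iff, IsUnit.unit_spec hu]
  exact hS

theorem det_norm_of_mem (g : GL (Fin 3) F) (hg : g ∈ Cfsg.GU 3 F p) :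
    (Matrix.GeneralLinearGroup.det g) ^ (p + 1) = 1 := by
  apply Units.ext
  rw [Units.val_pow_eq_pow_val, Units.val_one]
  exact det_norm_of_preserves p _ ((mem_GU_iff p g).mp hg)

theorem dg_mem_GU (d : Fin 3 → Fˣ) (hd : ∀ i, (d i) ^ (p + 1) = 1) : dg d ∈ Cfsg.GU 3 F p := by
  rw [mem_GU_iff]
  apply preserves_of_orthonormal
  intro i j
  have hd' : ∀ i, (d i : F) * (d i : F) ^ p = 1 := by
    intro i
    have := congrArg Units.val (hd i)
    rw [Units.val_pow_eq_pow_val, Units.val_one, pow_succ'] at this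
    exact this
  have hp : p ≠ 0 := (Fact.out : p.Prime).ne_zero
  unfold Cfsg.hermForm
  rw [coe_dg]
  fin_cases i <;> fin_cases j <;>
    simp [Fin.sum_univ_three, Matrix.diagonal_apply, hd', hp]

theorem sc_mem_GU (u : Fˣ) (hu : u ^ (p + 1) = 1) : sc u ∈ Cfsg.GU 3 F p :=
  dg_mem_GU p _ (fun _ => hu)

theorem pow_succ_of_cube (hp3 : p % 3 = 2) (u : Fˣ) (hu : u ^ 3 = 1) : u ^ (p + 1) = 1 := by
  obtain ⟨m, hm⟩ : 3 ∣ p + 1 := by omega
  rw [hm, pow_mul, hu, one_pow]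

theorem dY_mem_GU (hp3 : p % 3 = 2) (u : Fˣ) (hu : u ^ 3 = 1) : dY u ∈ Cfsg.GU 3 F p := by
  apply dg_mem_GU
  intro i
  fin_cases i
  · simp
  · exact pow_succ_of_cube p hp3 u hu
  · show (u ^ 2) ^ (p + 1) = 1
    rw [← pow_mul, mul_comm, pow_mul, pow_succ_of_cube p hp3 u hu, one_pow]

theorem gX_mem_GU : (gX : GL (Fin 3) F) ∈ Cfsg.GU 3 F p := by
  rw [mem_GU_iff]
  apply preserves_of_orthonormal
  intro i j
  have hp : p ≠ 0 := (Fact.out : p.Prime).ne_zero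
  unfold Cfsg.hermForm
  rw [coe_gX]
  fin_cases i <;> fin_cases j <;> simp [Fin.sum_univ_three, mX, hp]

theorem gT_mem_GU (hodd : Odd p) : (gT : GL (Fin 3) F) ∈ Cfsg.GU 3 F p := by
  rw [mem_GU_iff]
  apply preserves_of_orthonormal
  intro i j
  have hp : p ≠ 0 := (Fact.out : p.Prime).ne_zero
  have hneg : (-1 : F) ^ p = -1 := hodd.neg_one_pow
  unfold Cfsg.hermForm
  rw [coe_gT]
  fin_cases i <;> fin_cases j <;> simp [Fin.sum_univ_three, mT, hp, hneg]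

end

end Cfsg.Agent.Lib.Helper9.H9U27
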