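import Mathlib
import Cfsg.Agent.Lib.Helper9.Ext3SU3d

set_option autoImplicit false

/-! Conjugating semisimple unitary elements onto normalising elements inside the unitary
group, with prescribed determinant. -/

namespace Cfsg.Agent.Lib.Helper9.H9U27

open scoped MatrixGroups
open Matrix Polynomial
open Cfsg.Agent.Lib.Helper9.H9E27

section
variable {F : Type*} [Field F] (p : ℕ) [Fact p.Prime] [CharP F p]

local notation "hf" => Cfsg.hermForm 3 F p

theorem preserves_submatrix (S : Matrix (Fin 3) (Fin 3) F)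
    (hS : ∀ u v, hf (S *ᵥ u) (S *ᵥ v) = hf u v) (σ : Equiv.Perm (Fin 3)) (u v : Fin 3 → F) :
    hf (S.submatrix id σ *ᵥ u) (S.submatrix id σ *ᵥ v) = hf u v := by
  apply preserves_of_orthonormal
  intro i j
  have := orthonormal_of_preserves p S hS (σ i) (σ j)
  simp only [Matrix.submatrix_apply, id_eq]
  rw [this]
  by_cases h : i = j
  · subst h; simp
  · rw [if_neg h, if_neg (fun h' => h (σ.injective h'))]

theorem conj_into_U (x S Q n₀ : GL (Fin 3) F) (d : Fin 3 → Fˣ) (hS : S ∈ Cfsg.GU 3 F p)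
    (hQ : Q ∈ Cfsg.GU 3 F p) (hx : x * S = S * dg d) (hn : n₀ * Q = Q * dg d) (d₀ : Fˣ)
    (hd₀ : d₀ ^ (p + 1) = 1) :
    ∃ S' : GL (Fin 3) F, S' ∈ Cfsg.GU 3 F p ∧ Matrix.GeneralLinearGroup.det S' = d₀ ∧
      x * S' = S' * n₀ := by
  obtain ⟨a, ha⟩ : ∃ a : Fˣ, a = Matrix.GeneralLinearGroup.det S := ⟨_, rfl⟩
  obtain ⟨b, hb⟩ : ∃ b : Fˣ, b = Matrix.GeneralLinearGroup.det Q := ⟨_, rfl⟩
  have han : a ^ (p + 1) = 1 := by rw [ha]; exact det_norm_of_mem p S hS
  have hbn : b ^ (p + 1) = 1 := by rw [hb]; exact det_norm_of_mem p Q hQ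
  obtain ⟨E, hE⟩ : ∃ E : GL (Fin 3) F, E = dg ![d₀ * a⁻¹ * b, 1, 1] := ⟨_, rfl⟩
  have hEU : E ∈ Cfsg.GU 3 F p := by
    rw [hE]
    apply dg_mem_GU
    intro i
    fin_cases i
    · show (d₀ * a⁻¹ * b) ^ (p + 1) = 1
      rw [mul_pow, mul_pow, inv_pow, hd₀, han, hbn, inv_one, mul_one, mul_one]
    · simp
    · simp
  refine ⟨S * E * Q⁻¹, ?_, ?_, ?_⟩
  · exact Subgroup.mul_mem _ (Subgroup.mul_mem _ hS hEU) (Subgroup.inv_mem _ hQ)
  · rw [map_mul, map_mul, map_inv, ← ha, ← hb, hE, det_dg]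
    simp only [Matrix.cons_val_zero, Matrix.cons_val_one, Matrix.cons_val_two, Matrix.head_cons,
      Matrix.tail_cons, mul_one]
    rw [← mul_assoc, mul_inv_cancel_right, mul_comm d₀, mul_inv_cancel_left]
  · have h1 : dg d * Q⁻¹ = Q⁻¹ * n₀ := by
      rw [← mul_right_inj Q, ← mul_assoc, ← hn, mul_inv_cancel_right, mul_inv_cancel_left]
    calc x * (S * E * Q⁻¹) = (x * S) * E * Q⁻¹ := by group
      _ = S * (dg d * E) * Q⁻¹ := by rw [hx]; group
      _ = S * (E * dg d) * Q⁻¹ := by rw [hE, dg_comm]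
      _ = S * E * (dg d * Q⁻¹) := by group
      _ = S * E * (Q⁻¹ * n₀) := by rw [h1]
      _ = S * E * Q⁻¹ * n₀ := by group

theorem sign_pattern (h2 : (2 : F) ≠ 0) (ν : F) (hν3 : ν ^ 3 = 1) (d : Fin 3 → F)
    (hd : ∀ i, d i = ν ∨ d i = -ν) (hprod : d 0 * d 1 * d 2 = 1) :
    (∀ i, d i = ν) ∨ ∃ k : Fin 3, ∀ i, d i = if i = k then ν else -ν := by
  rcases hd 0 with h0 | h0 <;> rcases hd 1 with h1 | h1 <;> rcases hd 2 with h2' | h2'
  · left
    intro i
    fin_cases i
    · exact h0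
    · exact h1
    · exact h2'
  · exfalso; rw [h0, h1, h2'] at hprod; apply h2; linear_combination (-1 : F) * hprod - hν3
  · exfalso; rw [h0, h1, h2'] at hprod; apply h2; linear_combination (-1 : F) * hprod - hν3
  · right
    refine ⟨0, fun i => ?_⟩
    fin_cases i <;> simp [h0, h1, h2']
  · exfalso; rw [h0, h1, h2'] at hprod; apply h2; linear_combination (-1 : F) * hprod - hν3
  · right
    refine ⟨1, fun i => ?_⟩
    fin_cases i <;> simp [h0, h1, h2']
  · right
    refine ⟨2, fun i => ?_⟩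
    fin_cases i <;> simp [h0, h1, h2']
  · exfalso; rw [h0, h1, h2'] at hprod; apply h2; linear_combination (-1 : F) * hprod - hν3

end

section
variable {F : Type*} [Field F] [Fintype F] (p : ℕ) [Fact p.Prime] [CharP F p]

local notation "hf" => Cfsg.hermForm 3 F p

theorem diag_involution_U (hF : Fintype.card F = p ^ 2) (h2 : (2 : F) ≠ 0) (hp3 : p % 3 = 2)
    (hodd : Odd p) (y : GL (Fin 3) F) (hyU : y ∈ Cfsg.GU 3 F p)
    (hdet : (y : Matrix (Fin 3) (Fin 3) F).det = 1) (c : F)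
    (hy2 : (y : Matrix (Fin 3) (Fin 3) F) ^ 2 = c • 1)
    (hns : ∀ z : F, (y : Matrix (Fin 3) (Fin 3) F) ≠ z • (1 : Matrix (Fin 3) (Fin 3) F))
    (ν : Fˣ) (hν : (ν : F) = c ^ 2) :
    ∃ (S : GL (Fin 3) F) (k : Fin 3), S ∈ Cfsg.GU 3 F p ∧
      y * S = S * dg (fun i => if i = k then ν else -ν) := by
  classical
  have hc3 := scalar_cube_of_det _ hdet 2 c hy2
  have hν0 : (ν : F) ≠ 0 := ν.ne_zero
  have hν2 : (ν : F) ^ 2 = c := by
    rw [hν]
    linear_combination c * hc3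
  have hν3 : (ν : F) ^ 3 = 1 := by
    rw [hν]
    linear_combination (c ^ 3 + 1) * hc3
  have hνn : (ν : F) ^ (p + 1) = 1 := by
    obtain ⟨m, hm⟩ : 3 ∣ p + 1 := by omega
    rw [hm, pow_mul, hν3, one_pow]
  have hνn' : (-(ν : F)) ^ (p + 1) = 1 := by
    have : Even (p + 1) := hodd.add_one
    rw [this.neg_pow, hνn]
  have hne : (ν : F) ∉ ({-(ν : F)} : Finset F) := by
    rw [Finset.mem_singleton]
    intro h
    have : (2 : F) * ν = 0 := by linear_combination h
    rcases mul_eq_zero.mp this with h' | h'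
    · exact h2 h'
    · exact hν0 h'
  have hprod : ∏ l ∈ ({(ν : F), -(ν : F)} : Finset F), (X - C l) = X ^ 2 - C c := by
    rw [Finset.prod_insert hne, Finset.prod_singleton, ← hν2]
    simp only [map_neg, map_pow]
    ring
  have haev : aeval (y : Matrix (Fin 3) (Fin 3) F)
      (∏ l ∈ ({(ν : F), -(ν : F)} : Finset F), (X - C l)) = 0 := by
    rw [hprod]
    simp only [map_sub, map_pow, aeval_X, aeval_C, Algebra.algebraMap_eq_smul_one]
    rw [hy2, sub_self]
  obtain ⟨S, d, hSU, hdΛ, hyS⟩ := unitary_diag p hF h2 _ ((mem_GU_iff p y).mp hyU)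
    ({(ν : F), -(ν : F)} : Finset F) (by
      intro l hl
      rw [Finset.mem_insert, Finset.mem_singleton] at hl
      rcases hl with rfl | rfl
      · exact hνn
      · exact hνn') haev
  have hd : ∀ i, d i = ν ∨ d i = -ν := by
    intro i
    have := hdΛ i
    rw [Finset.mem_insert, Finset.mem_singleton] at this
    exact this
  obtain ⟨S₁, hS₁v, hS₁U⟩ := exists_GU_of_preserves p S hSU
  have hdetS : S.det ≠ 0 := by
    have := (Matrix.isUnit_iff_isUnit_det S).mp (unit_of_preserves p S hSU)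
    exact this.ne_zero
  have hprodd : d 0 * d 1 * d 2 = 1 := by
    have := congrArg Matrix.det hyS
    rw [Matrix.det_mul, Matrix.det_mul, hdet, one_mul, Matrix.det_diagonal,
      Fin.prod_univ_three] at this
    have h' : S.det * 1 = S.det * (d 0 * d 1 * d 2) := by rw [mul_one]; exact this
    exact (mul_left_cancel₀ hdetS h').symm
  rcases sign_pattern h2 (ν : F) hν3 d hd hprodd with hall | ⟨k, hk⟩
  · exfalso
    apply hns ν
    have hdiag : Matrix.diagonal d = (ν : F) • (1 : Matrix (Fin 3) (Fin 3) F) := by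
      ext i j
      by_cases h : i = j
      · subst h
        simp [hall i]
      · simp [h]
    rw [hdiag] at hyS
    calc (y : Matrix (Fin 3) (Fin 3) F)
        = (y : Matrix (Fin 3) (Fin 3) F) * ((S₁ : Matrix (Fin 3) (Fin 3) F) *
            ((S₁⁻¹ : GL (Fin 3) F) : Matrix (Fin 3) (Fin 3) F)) := by
          rw [Units.mul_inv, mul_one]
      _ = ((y : Matrix (Fin 3) (Fin 3) F) * S) *
            ((S₁⁻¹ : GL (Fin 3) F) : Matrix (Fin 3) (Fin 3) F) := by
          rw [hS₁v, mul_assoc]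
      _ = (ν : F) • ((S₁ : Matrix (Fin 3) (Fin 3) F) *
            ((S₁⁻¹ : GL (Fin 3) F) : Matrix (Fin 3) (Fin 3) F)) := by
          rw [hyS, hS₁v]
          simp
      _ = (ν : F) • (1 : Matrix (Fin 3) (Fin 3) F) := by rw [Units.mul_inv]
  · refine ⟨S₁, k, hS₁U, ?_⟩
    apply unit_eq_of_mul
    rw [hS₁v, hyS]
    congr 2
    ext i
    rw [hk i]
    by_cases h : i = k
    · rw [if_pos h, if_pos h]
    · rw [if_neg h, if_neg h]; rfl

end

end Cfsg.Agent.Lib.Helper9.H9U27
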