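import Mathlib
import Cfsg.Agent.Lib.Helper9.Ext3SU3e

set_option autoImplicit false

/-! Conjugating unitary elements whose square or cube is scalar onto normalising elements. -/

namespace Cfsg.Agent.Lib.Helper9.H9U27

open scoped MatrixGroups
open Matrix Polynomial
open Cfsg.Agent.Lib.Helper9.H9E27

section
variable {F : Type*} [Field F] [Fintype F] (p : ℕ) [Fact p.Prime] [CharP F p]

local notation "hf" => Cfsg.hermForm 3 F p

theorem conj_two_U (hF : Fintype.card F = p ^ 2) (h2 : (2 : F) ≠ 0) (hp3 : p % 3 = 2)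
    (hodd : Odd p) (x : GL (Fin 3) F) (hxU : x ∈ Cfsg.GU 3 F p)
    (hdet : (x : Matrix (Fin 3) (Fin 3) F).det = 1) (c : F)
    (hx2 : (x : Matrix (Fin 3) (Fin 3) F) ^ 2 = c • 1)
    (hns : ∀ z : F, (x : Matrix (Fin 3) (Fin 3) F) ≠ z • (1 : Matrix (Fin 3) (Fin 3) F))
    (d₀ : Fˣ) (hd₀ : d₀ ^ (p + 1) = 1) :
    ∃ (S' : GL (Fin 3) F) (ν : Fˣ), S' ∈ Cfsg.GU 3 F p ∧
      Matrix.GeneralLinearGroup.det S' = d₀ ∧ x * S' = S' * (sc ν * gT) := by
  classical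
  have hc3 := scalar_cube_of_det _ hdet 2 c hx2
  have hc0 : c ≠ 0 := by
    intro h
    rw [h] at hc3
    norm_num at hc3
  obtain ⟨ν, hν⟩ : ∃ ν : Fˣ, (ν : F) = c ^ 2 := ⟨Units.mk0 (c ^ 2) (pow_ne_zero 2 hc0), rfl⟩
  have hν2 : (ν : F) ^ 2 = c := by
    rw [hν]
    linear_combination c * hc3
  have hν3 : ν ^ 3 = 1 := by
    apply Units.ext
    rw [Units.val_pow_eq_pow_val, Units.val_one, hν]
    linear_combination (c ^ 3 + 1) * hc3
  have hνn : ν ^ (p + 1) = 1 := pow_succ_of_cube p hp3 ν hν3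
  obtain ⟨S, k, hSU, hxS⟩ := diag_involution_U p hF h2 hp3 hodd x hxU hdet c hx2 hns ν hν
  -- the target element
  have hnU : sc ν * gT ∈ Cfsg.GU 3 F p :=
    Subgroup.mul_mem _ (sc_mem_GU p ν hνn) (gT_mem_GU p hodd)
  have hnv : ((sc ν * gT : GL (Fin 3) F) : Matrix (Fin 3) (Fin 3) F) = (ν : F) • mT := by
    rw [Units.val_mul, coe_sc, coe_gT, smul_mul_assoc, one_mul]
  have hndet : ((sc ν * gT : GL (Fin 3) F) : Matrix (Fin 3) (Fin 3) F).det = 1 := by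
    have h1 : Matrix.GeneralLinearGroup.det (sc ν * gT : GL (Fin 3) F) = 1 := by
      rw [map_mul, det_gT, mul_one, sc, det_dg, ← pow_two, ← pow_succ, hν3]
    have := congrArg Units.val h1
    simpa using this
  have hn2 : ((sc ν * gT : GL (Fin 3) F) : Matrix (Fin 3) (Fin 3) F) ^ 2 = c • 1 := by
    rw [hnv, pow_two, smul_mul_assoc, mul_smul_comm, mT_mul_self, smul_smul, ← pow_two, hν2]
  have hnns : ∀ z : F, ((sc ν * gT : GL (Fin 3) F) : Matrix (Fin 3) (Fin 3) F) ≠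
      z • (1 : Matrix (Fin 3) (Fin 3) F) := by
    intro z hz
    rw [hnv] at hz
    have := congrFun (congrFun hz 1) 2
    simp [mT] at this
  obtain ⟨Q, k', hQU, hnQ⟩ := diag_involution_U p hF h2 hp3 hodd (sc ν * gT) hnU hndet c hn2
    hnns ν hν
  -- align the patterns
  have hQm : ((sc ν * gT : GL (Fin 3) F) : Matrix (Fin 3) (Fin 3) F) *
      (Q : Matrix (Fin 3) (Fin 3) F) = (Q : Matrix (Fin 3) (Fin 3) F) *
        Matrix.diagonal (fun i => (((if i = k' then ν else -ν : Fˣ)) : F)) := by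
    have := congrArg Units.val hnQ
    rw [Units.val_mul (sc ν * gT) Q, Units.val_mul Q] at this
    exact this
  obtain ⟨hQ'unit, hQ'⟩ := perm_eigenbasis _ _ _ (Units.isUnit Q) hQm (Equiv.swap k k')
  obtain ⟨Q', hQ'v, hQ'U⟩ := exists_GU_of_preserves p _
    (preserves_submatrix p _ ((mem_GU_iff p Q).mp hQU) (Equiv.swap k k'))
  have hnQ' : (sc ν * gT) * Q' = Q' * dg (fun i => if i = k then ν else -ν) := by
    apply unit_eq_of_mul
    rw [hQ'v, hQ']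
    congr 2
    ext i
    simp only [Function.comp_apply]
    by_cases h : i = k
    · rw [if_pos h, h, Equiv.swap_apply_left, if_pos rfl]
    · rw [if_neg h, if_neg]
      intro h'
      apply h
      rw [Equiv.swap_apply_eq_iff, Equiv.swap_apply_right] at h'
      exact h'
  obtain ⟨S', hS'U, hS'det, hS'⟩ := conj_into_U p x S Q' (sc ν * gT) _ hSU hQ'U hxS hnQ' d₀ hd₀
  exact ⟨S', ν, hS'U, hS'det, hS'⟩

theorem nine_dvd (hp9 : p % 9 = 8) : 9 ∣ p ^ 2 - 1 := by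
  obtain ⟨k, hk⟩ : ∃ k, p = 9 * k + 8 := ⟨p / 9, by omega⟩
  rw [hk]
  refine ⟨9 * k ^ 2 + 16 * k + 7, ?_⟩
  apply Nat.sub_eq_of_eq_add
  ring

theorem conj_three_U (hF : Fintype.card F = p ^ 2) (h2 : (2 : F) ≠ 0) (h3 : (3 : F) ≠ 0)
    (hp9 : p % 9 = 8) (ζ : Fˣ) (hζ : (ζ : F) ^ 2 + ζ + 1 = 0)
    (x : GL (Fin 3) F) (hxU : x ∈ Cfsg.GU 3 F p)
    (hdet : (x : Matrix (Fin 3) (Fin 3) F).det = 1) (c : F)
    (hx3 : (x : Matrix (Fin 3) (Fin 3) F) ^ 3 = c • 1) (d₀ : Fˣ) (hd₀ : d₀ ^ (p + 1) = 1) :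
    ∃ (S' : GL (Fin 3) F) (d : Fin 3 → Fˣ) (c' : Fˣ), S' ∈ Cfsg.GU 3 F p ∧
      Matrix.GeneralLinearGroup.det S' = d₀ ∧ (∀ i, d i ^ 3 = c') ∧ x * S' = S' * dg d := by
  classical
  have hc3 := scalar_cube_of_det _ hdet 3 c hx3
  have h9 : 9 ∣ Fintype.card F - 1 := by rw [hF]; exact nine_dvd p hp9
  obtain ⟨μ, hμ⟩ := exists_cube_root h9 c hc3
  have hc0 : c ≠ 0 := by
    intro h
    rw [h] at hc3
    norm_num at hc3
  have hμ0 : μ ≠ 0 := by
    intro h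
    rw [h] at hμ
    apply hc0
    rw [← hμ]
    norm_num
  have hz1 := zeta_ne_one h3 (ζ : F) hζ
  have hz2 := zeta_sq_ne_one h3 (ζ : F) hζ
  have hz3 := zeta_cube (ζ : F) hζ
  obtain ⟨m, hm⟩ : 9 ∣ p + 1 := by omega
  have hμn : μ ^ (p + 1) = 1 := by
    have : μ ^ 9 = 1 := by
      have : μ ^ 9 = (μ ^ 3) ^ 3 := by ring
      rw [this, hμ, hc3]
    rw [hm, pow_mul, this, one_pow]
  have hζn : (ζ : F) ^ (p + 1) = 1 := by
    have : (ζ : F) ^ 9 = 1 := by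
      have : (ζ : F) ^ 9 = ((ζ : F) ^ 3) ^ 3 := by ring
      rw [this, hz3, one_pow]
    rw [hm, pow_mul, this, one_pow]
  have hpoly : (X - C μ) * ((X - C (μ * ζ)) * (X - C (μ * (ζ : F) ^ 2))) = X ^ 3 - C c := by
    have hZ : (C (ζ : F)) ^ 2 + C (ζ : F) + 1 = 0 := by
      have := congrArg (C : F → F[X]) hζ
      simpa using this
    rw [← hμ]
    simp only [map_mul, map_pow]
    linear_combination (-(C μ) * X ^ 2 + (C μ) ^ 2 * (C (ζ : F)) * X
      - (C μ) ^ 3 * (C (ζ : F) - 1)) * hZ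
  have hne1 : μ ∉ ({μ * ζ, μ * (ζ : F) ^ 2} : Finset F) := by
    rw [Finset.mem_insert, Finset.mem_singleton]
    rintro (h | h)
    · apply hz1
      have : μ * (ζ : F) = μ * 1 := by rw [mul_one]; exact h.symm
      exact mul_left_cancel₀ hμ0 this
    · apply hz2
      have : μ * (ζ : F) ^ 2 = μ * 1 := by rw [mul_one]; exact h.symm
      exact mul_left_cancel₀ hμ0 this
  have hne2 : μ * (ζ : F) ∉ ({μ * (ζ : F) ^ 2} : Finset F) := by
    rw [Finset.mem_singleton]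
    intro h
    apply hz1
    have hζ0 : (ζ : F) ≠ 0 := ζ.ne_zero
    have h' := mul_left_cancel₀ hμ0 h
    have : (ζ : F) * 1 = ζ * ζ := by rw [mul_one, ← pow_two]; exact h'
    exact (mul_left_cancel₀ hζ0 this).symm
  have hprod : ∏ l ∈ ({μ, μ * ζ, μ * (ζ : F) ^ 2} : Finset F), (X - C l) = X ^ 3 - C c := by
    rw [Finset.prod_insert hne1, Finset.prod_insert hne2, Finset.prod_singleton, hpoly]
  have haev : aeval (x : Matrix (Fin 3) (Fin 3) F)
      (∏ l ∈ ({μ, μ * ζ, μ * (ζ : F) ^ 2} : Finset F), (X - C l)) = 0 := by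
    rw [hprod]
    simp only [map_sub, map_pow, aeval_X, aeval_C, Algebra.algebraMap_eq_smul_one]
    rw [hx3, sub_self]
  obtain ⟨S, d, hSU, hdΛ, hxS⟩ := unitary_diag p hF h2 _ ((mem_GU_iff p x).mp hxU)
    ({μ, μ * ζ, μ * (ζ : F) ^ 2} : Finset F) (by
      intro l hl
      rw [Finset.mem_insert, Finset.mem_insert, Finset.mem_singleton] at hl
      rcases hl with rfl | rfl | rfl
      · exact hμn
      · rw [mul_pow, hμn, hζn, one_mul]
      · rw [mul_pow, hμn, ← pow_mul, mul_comm 2, pow_mul, hζn, one_pow, one_mul]) haev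
  have hd3 : ∀ i, d i ^ 3 = c := by
    intro i
    have := hdΛ i
    rw [Finset.mem_insert, Finset.mem_insert, Finset.mem_singleton] at this
    rcases this with h | h | h
    · rw [h, hμ]
    · rw [h, mul_pow, hμ, hz3, mul_one]
    · rw [h, mul_pow, hμ, ← pow_mul, mul_comm 2 3, pow_mul, hz3, one_pow, mul_one]
  have hd0 : ∀ i, d i ≠ 0 := by
    intro i h
    have := hd3 i
    rw [h] at this
    apply hc0
    rw [← this]
    norm_num
  obtain ⟨S₁, hS₁v, hS₁U⟩ := exists_GU_of_preserves p S hSU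
  obtain ⟨d', hd'⟩ : ∃ d' : Fin 3 → Fˣ, d' = fun i => Units.mk0 (d i) (hd0 i) := ⟨_, rfl⟩
  have hxS' : x * S₁ = S₁ * dg d' := by
    apply unit_eq_of_mul
    rw [hS₁v, hd']
    exact hxS
  obtain ⟨S', hS'U, hS'det, hS'⟩ := conj_into_U p x S₁ 1 (dg d') d' hS₁U (Subgroup.one_mem _) hxS'
    (by rw [mul_one, one_mul]) d₀ hd₀
  refine ⟨S', d', Units.mk0 c hc0, hS'U, hS'det, ?_, hS'⟩
  intro i
  apply Units.ext
  rw [Units.val_pow_eq_pow_val, hd']
  exact hd3 i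

end

end Cfsg.Agent.Lib.Helper9.H9U27
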