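import Mathlib
import Cfsg.Agent.Lib.Helper9.Ext3SU3f

set_option autoImplicit false

/-! Normal form data for a noncommuting pair in a group of exponent 3, and rescaling the
conjugating matrix to a unitary one. -/

namespace Cfsg.Agent.Lib.Helper9.H9U27

open scoped MatrixGroups
open Matrix
open Cfsg.Agent.Lib.Helper9.H9E27

section
variable {F : Type*} [Field F]

theorem nf_data (h3 : (3 : F) ≠ 0) (ω : F) (hω : ω ^ 2 + ω + 1 = 0)
    (R : Subgroup (GL (Fin 3) F)) (hRe : Monoid.exponent R = 3) (a b : R)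
    (hab : a * b ≠ b * a) (hZc : a⁻¹ * b⁻¹ * a * b ∈ Subgroup.center R) :
    ∃ (Wm : Matrix (Fin 3) (Fin 3) F) (ζ β : F), IsUnit Wm ∧ ζ ^ 2 + ζ + 1 = 0 ∧ β ^ 3 = 1 ∧
      ((a : GL (Fin 3) F) : Matrix (Fin 3) (Fin 3) F) * Wm = Wm * mX ∧
      ((b : GL (Fin 3) F) : Matrix (Fin 3) (Fin 3) F) * Wm =
        Wm * Matrix.diagonal ![β, β * ζ, β * ζ ^ 2] ∧
      (((a⁻¹ * b⁻¹ * a * b : R) : GL (Fin 3) F) : Matrix (Fin 3) (Fin 3) F) * Wm = ζ ^ 2 • Wm := by
  have hcube : ∀ g : R, g ^ 3 = 1 := by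
    intro g
    have := Monoid.pow_exponent_eq_one g
    rw [hRe] at this
    exact this
  obtain ⟨z, hz⟩ : ∃ z : R, z = a⁻¹ * b⁻¹ * a * b := ⟨_, rfl⟩
  rw [← hz] at hZc ⊢
  have hcubeM : ∀ g : R, ((g : GL (Fin 3) F) : Matrix (Fin 3) (Fin 3) F) ^ 3 = 1 := by
    intro g
    have := congrArg (fun t : R => ((t : GL (Fin 3) F) : Matrix (Fin 3) (Fin 3) F)) (hcube g)
    simpa using this
  have hz1 : ((z : GL (Fin 3) F) : Matrix (Fin 3) (Fin 3) F) ≠ 1 := by
    intro h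
    apply hab
    have h1 : (z : GL (Fin 3) F) = 1 := Units.ext h
    have h2 : z = 1 := Subtype.ext h1
    rw [hz] at h2
    calc a * b = b * a * (a⁻¹ * b⁻¹ * a * b) := by group
      _ = b * a := by rw [h2, mul_one]
  have hABg : a * b = b * a * z := by rw [hz]; group
  have hAB : ((a : GL (Fin 3) F) : Matrix (Fin 3) (Fin 3) F) *
      ((b : GL (Fin 3) F) : Matrix (Fin 3) (Fin 3) F) =
      ((b : GL (Fin 3) F) : Matrix (Fin 3) (Fin 3) F) *
        ((a : GL (Fin 3) F) : Matrix (Fin 3) (Fin 3) F) *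
        ((z : GL (Fin 3) F) : Matrix (Fin 3) (Fin 3) F) := by
    have := congrArg (fun t : R => ((t : GL (Fin 3) F) : Matrix (Fin 3) (Fin 3) F)) hABg
    simpa using this
  have hZA : ((z : GL (Fin 3) F) : Matrix (Fin 3) (Fin 3) F) *
      ((a : GL (Fin 3) F) : Matrix (Fin 3) (Fin 3) F) =
      ((a : GL (Fin 3) F) : Matrix (Fin 3) (Fin 3) F) *
        ((z : GL (Fin 3) F) : Matrix (Fin 3) (Fin 3) F) := by
    have h1 : z * a = a * z := (Subgroup.mem_center_iff.mp hZc a).symm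
    have := congrArg (fun t : R => ((t : GL (Fin 3) F) : Matrix (Fin 3) (Fin 3) F)) h1
    simpa using this
  have hZB : ((z : GL (Fin 3) F) : Matrix (Fin 3) (Fin 3) F) *
      ((b : GL (Fin 3) F) : Matrix (Fin 3) (Fin 3) F) =
      ((b : GL (Fin 3) F) : Matrix (Fin 3) (Fin 3) F) *
        ((z : GL (Fin 3) F) : Matrix (Fin 3) (Fin 3) F) := by
    have h1 : z * b = b * z := (Subgroup.mem_center_iff.mp hZc b).symm
    have := congrArg (fun t : R => ((t : GL (Fin 3) F) : Matrix (Fin 3) (Fin 3) F)) h1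
    simpa using this
  obtain ⟨Wm, ζ, β, hW, hζ, hβ, hAW, hBW, hZW⟩ := normal_form_matrix h3 ω hω _ _ _
    (hcubeM a) (hcubeM b) (hcubeM z) hz1 hAB hZA hZB
  exact ⟨Wm, ζ, β, hW, hζ, hβ, hAW, hBW, hZW⟩

theorem nf_of_data (R : Subgroup (GL (Fin 3) F)) (a b z : R)
    (Wm : Matrix (Fin 3) (Fin 3) F) (ζ β : F) (hW : IsUnit Wm) (hζ : ζ ^ 2 + ζ + 1 = 0)
    (hβ : β ^ 3 = 1)
    (hAW : ((a : GL (Fin 3) F) : Matrix (Fin 3) (Fin 3) F) * Wm = Wm * mX)
    (hBW : ((b : GL (Fin 3) F) : Matrix (Fin 3) (Fin 3) F) * Wm =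
        Wm * Matrix.diagonal ![β, β * ζ, β * ζ ^ 2])
    (hZW : ((z : GL (Fin 3) F) : Matrix (Fin 3) (Fin 3) F) * Wm = ζ ^ 2 • Wm) :
    ∃ (W : GL (Fin 3) F) (ζu : Fˣ) (k : ℕ), (W : Matrix (Fin 3) (Fin 3) F) = Wm ∧
      (ζu : F) = ζ ∧ W * gX * W⁻¹ = (a : GL (Fin 3) F) ∧
      W * dY ζu * W⁻¹ = ((z ^ k * b : R) : GL (Fin 3) F) := by
  have hζ0 : ζ ≠ 0 := by
    intro h
    rw [h] at hζ
    norm_num at hζ
  have hβ0 : β ≠ 0 := by
    intro h
    rw [h] at hβ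
    norm_num at hβ
  obtain ⟨W, hWv⟩ : ∃ W : GL (Fin 3) F, (W : Matrix (Fin 3) (Fin 3) F) = Wm :=
    ⟨hW.unit, IsUnit.unit_spec hW⟩
  obtain ⟨ζu, hζu⟩ : ∃ ζu : Fˣ, (ζu : F) = ζ := ⟨Units.mk0 ζ hζ0, rfl⟩
  have hβ3 : (Units.mk0 β hβ0) ^ 3 = 1 := by
    apply Units.ext
    rw [Units.val_pow_eq_pow_val]
    exact hβ
  obtain ⟨k, hk⟩ := exists_pow_of_cube ζu (by rw [hζu]; exact hζ) (Units.mk0 β hβ0) hβ3
  have hk' : β = ζ ^ k := by
    have := congrArg Units.val hk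
    rw [Units.val_pow_eq_pow_val, hζu] at this
    exact this
  have hz3 := zeta_cube ζ hζ
  refine ⟨W, ζu, k, hWv, hζu, ?_, ?_⟩
  · rw [mul_inv_eq_iff_eq_mul]
    apply Units.ext
    rw [Units.val_mul, Units.val_mul, coe_gX, hWv]
    exact hAW.symm
  · rw [mul_inv_eq_iff_eq_mul]
    apply Units.ext
    rw [Units.val_mul, Units.val_mul, hWv, dY, coe_dg, Subgroup.coe_mul, Subgroup.coe_pow,
      Units.val_mul, Units.val_pow_eq_pow_val, mul_assoc, hBW, ← mul_assoc,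
      pow_mul_eq_smul _ _ _ hZW k, Matrix.smul_mul, ← Matrix.mul_smul]
    congr 1
    ext i j
    rw [Matrix.smul_apply, Matrix.diagonal_apply, Matrix.diagonal_apply]
    have hone : (ζ ^ 2) ^ k * β = 1 := by
      rw [hk', ← pow_mul, ← pow_add]
      have : 2 * k + k = 3 * k := by ring
      rw [this, pow_mul, hz3, one_pow]
    by_cases hij : i = j
    · subst hij
      rw [if_pos rfl, if_pos rfl]
      fin_cases i
      · show (1 : F) = (ζ ^ 2) ^ k • β
        rw [smul_eq_mul, hone]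
      · show (ζu : F) = (ζ ^ 2) ^ k • (β * ζ)
        rw [smul_eq_mul, ← mul_assoc, hone, one_mul, hζu]
      · show ((ζu ^ 2 : Fˣ) : F) = (ζ ^ 2) ^ k • (β * ζ ^ 2)
        rw [smul_eq_mul, ← mul_assoc, hone, one_mul, Units.val_pow_eq_pow_val, hζu]
    · rw [if_neg hij, if_neg hij, smul_zero]

end

section
variable {F : Type*} [Field F] [Fintype F] (p : ℕ) [Fact p.Prime] [CharP F p]

local notation "hf" => Cfsg.hermForm 3 F p

theorem unitary_rescale (hF : Fintype.card F = p ^ 2) (A B Wm : Matrix (Fin 3) (Fin 3) F)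
    (hA : ∀ u v, hf (A *ᵥ u) (A *ᵥ v) = hf u v) (hB : ∀ u v, hf (B *ᵥ u) (B *ᵥ v) = hf u v)
    (hW : IsUnit Wm) (μ : Fin 3 → F) (hμinj : Function.Injective μ)
    (hμn : ∀ j, μ j ^ (p + 1) = 1) (hAW : A * Wm = Wm * mX)
    (hBW : B * Wm = Wm * Matrix.diagonal μ) :
    ∃ c : F, c ≠ 0 ∧ ∀ u v, hf ((c • Wm) *ᵥ u) ((c • Wm) *ᵥ v) = hf u v := by
  have hBeig : ∀ j, B *ᵥ (fun k => Wm k j) = μ j • (fun k => Wm k j) := by
    intro j
    ext k
    have := congrFun (congrFun hBW k) j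
    rw [Matrix.mul_diagonal] at this
    rw [Pi.smul_apply, smul_eq_mul, mul_comm, ← this]
    rfl
  have hAshift : ∀ j, A *ᵥ (fun k => Wm k j) = (fun k => Wm k (j + 1)) := by
    intro j
    ext k
    have := congrFun (congrFun hAW k) j
    have e : (A * Wm) k j = (A *ᵥ (fun k => Wm k j)) k := rfl
    rw [← e, this]
    fin_cases j <;> simp [mX, Matrix.mul_apply, Fin.sum_univ_three]
  have horth : ∀ i j, i ≠ j → hf (fun k => Wm k i) (fun k => Wm k j) = 0 := by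
    intro i j hij
    exact eigen_orth p B hB _ _ _ _ (hBeig i) (hBeig j) (hμn j) (fun h => hij (hμinj h))
  have hshift : ∀ j, hf (fun k => Wm k (j + 1)) (fun k => Wm k (j + 1)) =
      hf (fun k => Wm k j) (fun k => Wm k j) := by
    intro j
    rw [← hAshift j, hA]
  obtain ⟨n, hn⟩ : ∃ n : F, n = hf (fun k => Wm k 0) (fun k => Wm k 0) := ⟨_, rfl⟩
  have hn1 : hf (fun k => Wm k 1) (fun k => Wm k 1) = n := by
    rw [hn]
    exact hshift 0
  have hn2 : hf (fun k => Wm k 2) (fun k => Wm k 2) = n := by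
    rw [← hn1]
    exact hshift 1
  have hG : ∀ i j, hf (fun k => Wm k i) (fun k => Wm k j) = if i = j then n else 0 := by
    intro i j
    by_cases h : i = j
    · subst h
      rw [if_pos rfl]
      fin_cases i
      · exact hn.symm
      · exact hn1
      · exact hn2
    · rw [if_neg h]
      exact horth i j h
  have hgram : ∀ u v, hf (Wm *ᵥ u) (Wm *ᵥ v) = n * hf u v := by
    intro u v
    rw [herm_gram]
    simp only [hG]
    unfold Cfsg.hermForm
    simp [Fin.sum_univ_three]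
    ring
  have hn0 : n ≠ 0 := by
    intro h0
    obtain ⟨u, hu⟩ := (Matrix.mulVec_surjective_iff_isUnit.mpr hW) (Pi.single 0 1)
    have : (Pi.single 0 1 : Fin 3 → F) = 0 := by
      apply herm_nondeg p
      intro z
      obtain ⟨v, hv⟩ := (Matrix.mulVec_surjective_iff_isUnit.mpr hW) z
      rw [← hu, ← hv, hgram, h0, zero_mul]
    have := congrFun this 0
    simp at this
  have hnp : n ^ p = n := by rw [hn]; exact herm_self_fixed p hF _
  obtain ⟨c, hc⟩ := norm_surj p hF n⁻¹ (inv_ne_zero hn0) (by rw [inv_pow, hnp])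
  refine ⟨c, ?_, ?_⟩
  · intro h
    rw [h, zero_pow (Nat.succ_ne_zero p)] at hc
    exact inv_ne_zero hn0 hc.symm
  · intro u v
    rw [Matrix.smul_mulVec, Matrix.smul_mulVec, herm_smul_left p, herm_smul_right p, hgram,
      ← mul_assoc, ← mul_assoc, ← pow_succ', hc, inv_mul_cancel₀ hn0, one_mul]

end

end Cfsg.Agent.Lib.Helper9.H9U27
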