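import Mathlib
import Cfsg.Agent.Lib.Helper9.Ext3SU3g

set_option autoImplicit false

/-! The unitary normal form of a nonabelian subgroup of order 27 and exponent 3 of `GU_3`. -/

namespace Cfsg.Agent.Lib.Helper9.H9U27

open scoped MatrixGroups
open Matrix
open Cfsg.Agent.Lib.Helper9.H9E27

section
variable {F : Type*} [Field F]

theorem mu_injective (h3 : (3 : F) ≠ 0) (β ζ : F) (hβ0 : β ≠ 0) (hζ : ζ ^ 2 + ζ + 1 = 0) :
    Function.Injective (![β, β * ζ, β * ζ ^ 2] : Fin 3 → F) := by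
  have hz1 := zeta_ne_one h3 ζ hζ
  have hz2 := zeta_sq_ne_one h3 ζ hζ
  have hζ0 : ζ ≠ 0 := by
    intro h
    rw [h] at hζ
    norm_num at hζ
  have e01 : β ≠ β * ζ := by
    intro h
    apply hz1
    have : β * ζ = β * 1 := by rw [mul_one]; exact h.symm
    exact mul_left_cancel₀ hβ0 this
  have e02 : β ≠ β * ζ ^ 2 := by
    intro h
    apply hz2
    have : β * ζ ^ 2 = β * 1 := by rw [mul_one]; exact h.symm
    exact mul_left_cancel₀ hβ0 this
  have e12 : β * ζ ≠ β * ζ ^ 2 := by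
    intro h
    apply hz1
    have h' := mul_left_cancel₀ hβ0 h
    have : ζ * 1 = ζ * ζ := by rw [mul_one, ← pow_two]; exact h'
    exact (mul_left_cancel₀ hζ0 this).symm
  intro i j hij
  fin_cases i <;> fin_cases j
  · rfl
  · exact absurd hij e01
  · exact absurd hij e02
  · exact absurd hij.symm e01
  · rfl
  · exact absurd hij e12
  · exact absurd hij.symm e02
  · exact absurd hij.symm e12
  · rfl

end

section
variable {F : Type*} [Field F] [Fintype F] (p : ℕ) [Fact p.Prime] [CharP F p]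

local notation "hf" => Cfsg.hermForm 3 F p

theorem normal_form_U (hF : Fintype.card F = p ^ 2) (h3 : (3 : F) ≠ 0) (hp3 : p % 3 = 2)
    (ω : F) (hω : ω ^ 2 + ω + 1 = 0) (R : Subgroup (GL (Fin 3) F)) (hRU : R ≤ Cfsg.GU 3 F p)
    (hRe : Monoid.exponent R = 3) (a b : R) (hab : a * b ≠ b * a)
    (hZc : a⁻¹ * b⁻¹ * a * b ∈ Subgroup.center R) :
    ∃ (W : GL (Fin 3) F) (ζu : Fˣ) (k : ℕ), W ∈ Cfsg.GU 3 F p ∧ (ζu : F) ^ 2 + ζu + 1 = 0 ∧
      W * gX * W⁻¹ = (a : GL (Fin 3) F) ∧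
      W * dY ζu * W⁻¹ = (((a⁻¹ * b⁻¹ * a * b) ^ k * b : R) : GL (Fin 3) F) := by
  obtain ⟨Wm, ζ, β, hW, hζ, hβ, hAW, hBW, hZW⟩ := nf_data h3 ω hω R hRe a b hab hZc
  have hβ0 : β ≠ 0 := by
    intro h
    rw [h] at hβ
    norm_num at hβ
  obtain ⟨m, hm⟩ : 3 ∣ p + 1 := by omega
  have hβn : β ^ (p + 1) = 1 := by rw [hm, pow_mul, hβ, one_pow]
  have hζn : ζ ^ (p + 1) = 1 := by rw [hm, pow_mul, zeta_cube ζ hζ, one_pow]
  obtain ⟨c, hc0, hcW⟩ := unitary_rescale p hF _ _ Wm ((mem_GU_iff p _).mp (hRU a.2))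
    ((mem_GU_iff p _).mp (hRU b.2)) hW _ (mu_injective h3 β ζ hβ0 hζ) (by
      intro j
      fin_cases j
      · exact hβn
      · show (β * ζ) ^ (p + 1) = 1
        rw [mul_pow, hβn, hζn, one_mul]
      · show (β * ζ ^ 2) ^ (p + 1) = 1
        rw [mul_pow, hβn, ← pow_mul, mul_comm 2, pow_mul, hζn, one_pow, one_mul]) hAW hBW
  obtain ⟨W, ζu, k, hWv, hζu, h1, h2⟩ := nf_of_data R a b (a⁻¹ * b⁻¹ * a * b) (c • Wm) ζ β
    (unit_of_preserves p _ hcW) hζ hβ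
    (by rw [Matrix.mul_smul, hAW, Matrix.smul_mul])
    (by rw [Matrix.mul_smul, hBW, Matrix.smul_mul])
    (by rw [Matrix.mul_smul, hZW, smul_comm])
  refine ⟨W, ζu, k, ?_, ?_, h1, h2⟩
  · rw [mem_GU_iff, hWv]
    exact hcW
  · rw [hζu]
    exact hζ

end

end Cfsg.Agent.Lib.Helper9.H9U27
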