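import Mathlib
import Cfsg.Agent.Lib.Helper9.Ext3SU3h

set_option autoImplicit false

/-! A 3-element of `SL_3(F)` (no elements of order 9 in `F`) that centralises `diag(1,ζ,ζ²)`
modulo scalars lies in the standard extraspecial group. -/

namespace Cfsg.Agent.Lib.Helper9.H9U27

open scoped MatrixGroups
open Matrix
open Cfsg.Agent.Lib.Helper9.H9E27

section
variable {F : Type*} [Field F]

theorem sc_mul (u v : Fˣ) : (sc u * sc v : GL (Fin 3) F) = sc (u * v) := by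
  rw [sc, sc, dg_mul]
  rfl

theorem sc_one : (sc (1 : Fˣ) : GL (Fin 3) F) = 1 := dg_one

theorem gX_mul_dY (ζ : Fˣ) (hζ3 : ζ ^ 3 = 1) :
    (gX * dY ζ : GL (Fin 3) F) = sc ζ⁻¹ * dY ζ * gX := by
  rw [mul_assoc, dY_mul_gX ζ hζ3, ← mul_assoc, ← mul_assoc, sc_mul, inv_mul_cancel, sc_one,
    one_mul]

theorem gX_pow_mul_dY (ζ : Fˣ) (hζ3 : ζ ^ 3 = 1) (j : ℕ) :
    (gX ^ j * dY ζ : GL (Fin 3) F) = sc (ζ⁻¹ ^ j) * dY ζ * gX ^ j := by
  induction j with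
  | zero => simp [sc_one]
  | succ j ih =>
    calc (gX ^ (j + 1) * dY ζ : GL (Fin 3) F) = gX ^ j * (gX * dY ζ) := by
          rw [pow_succ, mul_assoc]
      _ = gX ^ j * (sc ζ⁻¹ * dY ζ * gX) := by rw [gX_mul_dY ζ hζ3]
      _ = sc ζ⁻¹ * (gX ^ j * dY ζ) * gX := by
          rw [mul_assoc (sc ζ⁻¹), ← mul_assoc (gX ^ j), ← sc_comm, mul_assoc, mul_assoc, mul_assoc]
      _ = sc ζ⁻¹ * (sc (ζ⁻¹ ^ j) * dY ζ * gX ^ j) * gX := by rw [ih]
      _ = sc (ζ⁻¹ ^ (j + 1)) * dY ζ * gX ^ (j + 1) := by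
          rw [pow_succ ζ⁻¹, mul_comm (ζ⁻¹ ^ j), ← sc_mul, pow_succ gX]
          simp only [mul_assoc]

theorem offdiag_zero_of_comm (ζ : F) (hz1 : ζ ≠ 1) (hz2 : ζ ^ 2 ≠ 1) (hz0 : ζ ≠ 0)
    (M : Matrix (Fin 3) (Fin 3) F)
    (hY : M * Matrix.diagonal ![1, ζ, ζ ^ 2] = Matrix.diagonal ![1, ζ, ζ ^ 2] * M) :
    M = Matrix.diagonal (fun i => M i i) := by
  have hoff : ∀ i j : Fin 3, (![1, ζ, ζ ^ 2] : Fin 3 → F) i ≠ ![1, ζ, ζ ^ 2] j → M i j = 0 := by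
    intro i j hij
    have := congrFun (congrFun hY i) j
    rw [Matrix.mul_diagonal, Matrix.diagonal_mul] at this
    have h' : M i j * ((![1, ζ, ζ ^ 2] : Fin 3 → F) j - ![1, ζ, ζ ^ 2] i) = 0 := by
      linear_combination this
    rcases mul_eq_zero.mp h' with h | h
    · exact h
    · exfalso
      apply hij
      rw [sub_eq_zero] at h
      exact h.symm
  have hz12 : ζ ≠ ζ ^ 2 := by
    intro h
    apply hz1
    have : ζ * 1 = ζ * ζ := by rw [mul_one, ← pow_two]; exact h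
    exact (mul_left_cancel₀ hz0 this).symm
  have h01 : M 0 1 = 0 := hoff 0 1 (by simpa using (Ne.symm hz1))
  have h02 : M 0 2 = 0 := hoff 0 2 (by simpa using (Ne.symm hz2))
  have h10 : M 1 0 = 0 := hoff 1 0 (by simpa using hz1)
  have h12 : M 1 2 = 0 := hoff 1 2 (by simpa using hz12)
  have h20 : M 2 0 = 0 := hoff 2 0 (by simpa using hz2)
  have h21 : M 2 1 = 0 := hoff 2 1 (by simpa using (Ne.symm hz12))
  ext i j
  fin_cases i <;> fin_cases j <;> simp [h01, h02, h10, h12, h20, h21]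

theorem dg_eq_one (d : Fin 3 → Fˣ) (h : (dg d : GL (Fin 3) F) = 1) : ∀ i, d i = 1 := by
  intro i
  have h1 := congrArg Units.val h
  rw [coe_dg] at h1
  have h2 := congrFun (congrFun h1 i) i
  rw [Matrix.diagonal_apply_eq] at h2
  apply Units.ext
  rw [h2]
  simp

theorem L6 (h3 : (3 : F) ≠ 0) (hno9 : ∀ (u : Fˣ) (m : ℕ), u ^ (3 ^ m) = 1 → u ^ 3 = 1)
    (R₀ : Subgroup (GL (Fin 3) F)) (ζ : Fˣ) (hζ : (ζ : F) ^ 2 + ζ + 1 = 0) (hX : gX ∈ R₀)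
    (hY : dY ζ ∈ R₀) (y₀ : GL (Fin 3) F) (hdet : Matrix.GeneralLinearGroup.det y₀ = 1)
    (h3pow : ∀ j : ℕ, ∃ m : ℕ, (y₀ * gX ^ j) ^ (3 ^ m) = 1) (l : Fˣ) (hl : l ^ 3 = 1)
    (hy : y₀ * dY ζ * y₀⁻¹ = sc l * dY ζ) : y₀ ∈ R₀ := by
  have hζ3 : ζ ^ 3 = 1 := by
    apply Units.ext
    rw [Units.val_pow_eq_pow_val, Units.val_one]
    exact zeta_cube _ hζ
  obtain ⟨j, hj⟩ := exists_pow_of_cube ζ hζ l hl
  obtain ⟨D, hD⟩ : ∃ D : GL (Fin 3) F, D = y₀ * gX ^ j := ⟨_, rfl⟩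
  have hy' : y₀ * dY ζ = sc l * dY ζ * y₀ := by
    rw [← hy, inv_mul_cancel_right]
  have hDcomm : D * dY ζ = dY ζ * D := by
    calc D * dY ζ = y₀ * (gX ^ j * dY ζ) := by rw [hD, mul_assoc]
      _ = y₀ * (sc (ζ⁻¹ ^ j) * dY ζ * gX ^ j) := by rw [gX_pow_mul_dY ζ hζ3]
      _ = sc (ζ⁻¹ ^ j) * (y₀ * dY ζ) * gX ^ j := by
          rw [mul_assoc (sc (ζ⁻¹ ^ j)), ← mul_assoc y₀, ← sc_comm, mul_assoc, mul_assoc, mul_assoc]
      _ = sc (ζ⁻¹ ^ j) * (sc l * dY ζ * y₀) * gX ^ j := by rw [hy']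
      _ = (sc (ζ⁻¹ ^ j) * sc l) * dY ζ * (y₀ * gX ^ j) := by simp only [mul_assoc]
      _ = dY ζ * D := by
          rw [sc_mul, hj, ← mul_pow, inv_mul_cancel, one_pow, sc_one, one_mul, hD]
  have hDm : (D : Matrix (Fin 3) (Fin 3) F) *
      Matrix.diagonal ![1, (ζ : F), (ζ : F) ^ 2] =
      Matrix.diagonal ![1, (ζ : F), (ζ : F) ^ 2] * (D : Matrix (Fin 3) (Fin 3) F) := by
    have := congrArg Units.val hDcomm
    rw [Units.val_mul D, Units.val_mul (dY ζ), coe_dY] at this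
    exact this
  have hdiag := offdiag_zero_of_comm (ζ : F) (zeta_ne_one h3 _ hζ) (zeta_sq_ne_one h3 _ hζ)
    ζ.ne_zero _ hDm
  have hDdet : (D : Matrix (Fin 3) (Fin 3) F).det ≠ 0 := by
    have := (Matrix.isUnit_iff_isUnit_det (D : Matrix (Fin 3) (Fin 3) F)).mp (Units.isUnit D)
    exact this.ne_zero
  have hne : ∀ i, (D : Matrix (Fin 3) (Fin 3) F) i i ≠ 0 := by
    intro i h
    apply hDdet
    rw [hdiag, Matrix.det_diagonal]
    exact Finset.prod_eq_zero (Finset.mem_univ i) h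
  obtain ⟨u, hu⟩ : ∃ u : Fin 3 → Fˣ,
      u = fun i => Units.mk0 ((D : Matrix (Fin 3) (Fin 3) F) i i) (hne i) := ⟨_, rfl⟩
  have hDu : D = dg u := by
    apply Units.ext
    rw [coe_dg, hu]
    exact hdiag
  obtain ⟨m, hm⟩ := h3pow j
  rw [← hD, hDu, dg_pow] at hm
  have hu3 : ∀ i, u i ^ 3 = 1 := by
    intro i
    apply hno9 (u i) m
    have := dg_eq_one _ hm i
    exact this
  have hprod : u 0 * u 1 * u 2 = 1 := by
    rw [← det_dg, ← hDu, hD, map_mul, map_pow, hdet, det_gX, one_pow, mul_one]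
  have hmem : dg ![u 0, u 1, u 2] ∈ R₀ :=
    dg_cube_mem R₀ ζ hζ hX hY (u 0) (u 1) (u 2) (hu3 0) (hu3 1) hprod
  have hu' : u = ![u 0, u 1, u 2] := by
    ext i
    fin_cases i <;> rfl
  rw [← hu', ← hDu] at hmem
  have : y₀ = D * (gX ^ j)⁻¹ := by rw [hD, mul_inv_cancel_right]
  rw [this]
  exact R₀.mul_mem hmem (R₀.inv_mem (R₀.pow_mem hX j))

end

end Cfsg.Agent.Lib.Helper9.H9U27
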