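import Mathlib
import Cfsg.Agent.Lib.Helper9.Ext3SU3i

set_option autoImplicit false

/-! Group-theoretic helpers: the second centre of a nonabelian `p`-group, elements centralising
the standard pair are scalar. -/

namespace Cfsg.Agent.Lib.Helper9.H9U27

open scoped MatrixGroups
open Matrix
open Cfsg.Agent.Lib.Helper9.H9E27

theorem exists_second_center {G : Type*} [Group G] [Finite G] (p : ℕ) [Fact p.Prime]
    (hG : IsPGroup p G) (hnc : ∃ a b : G, a * b ≠ b * a) :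
    ∃ c : G, c ∉ Subgroup.center G ∧ ∀ y : G, c⁻¹ * y⁻¹ * c * y ∈ Subgroup.center G := by
  haveI : Nontrivial (G ⧸ Subgroup.center G) := by
    by_contra h
    rw [not_nontrivial_iff_subsingleton] at h
    obtain ⟨a, b, hab⟩ := hnc
    apply hab
    have : (b : G ⧸ Subgroup.center G) = 1 := Subsingleton.elim _ _
    rw [QuotientGroup.eq_one_iff] at this
    exact (Subgroup.mem_center_iff.mp this a)
  have hQ : IsPGroup p (G ⧸ Subgroup.center G) := hG.to_quotient _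
  haveI := hQ.center_nontrivial
  obtain ⟨q, hq⟩ := exists_ne (1 : Subgroup.center (G ⧸ Subgroup.center G))
  obtain ⟨c, hc⟩ := QuotientGroup.mk_surjective (q : G ⧸ Subgroup.center G)
  refine ⟨c, ?_, ?_⟩
  · intro hcm
    apply hq
    apply Subtype.ext
    rw [Subgroup.coe_one, ← hc]
    exact (QuotientGroup.eq_one_iff c).mpr hcm
  · intro y
    rw [← QuotientGroup.eq_one_iff]
    rw [QuotientGroup.mk_mul, QuotientGroup.mk_mul, QuotientGroup.mk_mul, QuotientGroup.mk_inv,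
      QuotientGroup.mk_inv]
    have hc' : (QuotientGroup.mk c : G ⧸ Subgroup.center G) = q := hc
    rw [hc']
    have hcomm := Subgroup.mem_center_iff.mp q.2 (y : G ⧸ Subgroup.center G)
    calc (q : G ⧸ Subgroup.center G)⁻¹ * (y : G ⧸ Subgroup.center G)⁻¹ * q * y
        = (q : G ⧸ Subgroup.center G)⁻¹ * (y : G ⧸ Subgroup.center G)⁻¹ * (q * y) := by
          rw [mul_assoc]
      _ = (q : G ⧸ Subgroup.center G)⁻¹ * (y : G ⧸ Subgroup.center G)⁻¹ * (y * q) := by
          rw [hcomm]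
      _ = 1 := by group

theorem conj_pow_inv {G : Type*} [Group G] (W g : G) (n : ℕ) :
    (W⁻¹ * g * W) ^ n = W⁻¹ * g ^ n * W := by
  have := conj_pow (i := n) (a := W⁻¹) (b := g)
  rw [inv_inv] at this
  exact this

theorem three_pow_conj {G : Type*} [Group G] (P : Subgroup G) (hP : IsPGroup 3 P)
    (W y a X : G) (hX : W * X * W⁻¹ = a) (hy : y ∈ P) (ha : a ∈ P) (j : ℕ) :
    ∃ m : ℕ, (W⁻¹ * y * W * X ^ j) ^ (3 ^ m) = 1 := by
  obtain ⟨m, hm⟩ := hP ⟨y * a ^ j, P.mul_mem hy (P.pow_mem ha j)⟩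
  refine ⟨m, ?_⟩
  have hm' : (y * a ^ j) ^ (3 ^ m) = 1 := by
    have := congrArg Subtype.val hm
    simpa using this
  have e : W⁻¹ * y * W * X ^ j = W⁻¹ * (y * a ^ j) * W := by
    rw [← hX, conj_pow]
    group
  rw [e, conj_pow_inv, hm']
  group

section
variable {F : Type*} [Field F]

theorem scalar_of_centralizes (h3 : (3 : F) ≠ 0) (W : GL (Fin 3) F) (ζ : Fˣ)
    (hζ : (ζ : F) ^ 2 + ζ + 1 = 0) (y : GL (Fin 3) F)
    (h1 : y * (W * gX * W⁻¹) = (W * gX * W⁻¹) * y)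
    (h2 : y * (W * dY ζ * W⁻¹) = (W * dY ζ * W⁻¹) * y) : ∃ u : Fˣ, y = sc u := by
  have hy₀X : (W⁻¹ * y * W) * gX = gX * (W⁻¹ * y * W) := by
    calc (W⁻¹ * y * W) * gX = W⁻¹ * (y * (W * gX * W⁻¹)) * W := by group
      _ = W⁻¹ * ((W * gX * W⁻¹) * y) * W := by rw [h1]
      _ = gX * (W⁻¹ * y * W) := by group
  have hy₀Y : (W⁻¹ * y * W) * dY ζ = dY ζ * (W⁻¹ * y * W) := by
    calc (W⁻¹ * y * W) * dY ζ = W⁻¹ * (y * (W * dY ζ * W⁻¹)) * W := by group
      _ = W⁻¹ * ((W * dY ζ * W⁻¹) * y) * W := by rw [h2]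
      _ = dY ζ * (W⁻¹ * y * W) := by group
  obtain ⟨c, hc⟩ := scalar_of_comm_std (ζ : F) (zeta_ne_one h3 _ hζ) (zeta_sq_ne_one h3 _ hζ)
    ζ.ne_zero ((W⁻¹ * y * W : GL (Fin 3) F) : Matrix (Fin 3) (Fin 3) F)
    (by
      have := congrArg Units.val hy₀X
      have e1 := Units.val_mul (W⁻¹ * y * W) (gX : GL (Fin 3) F)
      have e2 := Units.val_mul (gX : GL (Fin 3) F) (W⁻¹ * y * W)
      rw [e1, e2, coe_gX] at this
      exact this)
    (by
      have := congrArg Units.val hy₀Y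
      have e1 := Units.val_mul (W⁻¹ * y * W) (dY ζ)
      have e2 := Units.val_mul (dY ζ) (W⁻¹ * y * W)
      rw [e1, e2, coe_dY] at this
      exact this)
  have hym : (y : Matrix (Fin 3) (Fin 3) F) = c • (1 : Matrix (Fin 3) (Fin 3) F) := by
    have hxy : y = W * (W⁻¹ * y * W) * W⁻¹ := by group
    rw [hxy, Units.val_mul, Units.val_mul, hc, Matrix.mul_smul, Matrix.smul_mul, mul_one,
      Units.mul_inv]
  have hc0 : c ≠ 0 := by
    intro h
    rw [h, zero_smul] at hym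
    have := Units.mul_inv y
    rw [hym, zero_mul] at this
    have h00 := congrFun (congrFun this 0) 0
    simp at h00
  refine ⟨Units.mk0 c hc0, ?_⟩
  apply Units.ext
  rw [coe_sc, hym]
  rfl

end

end Cfsg.Agent.Lib.Helper9.H9U27
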