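import Mathlib
import Cfsg.Agent.Lib.Helper9.Ext3SU3j

set_option autoImplicit false

/-! A 3-subgroup of `SL_3(F)` containing a nonabelian subgroup `R` of order 27 and exponent 3
equals `R`, when `F` has no elements of order 9. -/

namespace Cfsg.Agent.Lib.Helper9.H9U27

open scoped MatrixGroups
open Matrix
open Cfsg.Agent.Lib.Helper9.H9E27

section
variable {F : Type*} [Field F]

theorem sylow_le (h3 : (3 : F) ≠ 0) (ω : F) (hω : ω ^ 2 + ω + 1 = 0)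
    (hno9 : ∀ (u : Fˣ) (m : ℕ), u ^ (3 ^ m) = 1 → u ^ 3 = 1)
    (R P : Subgroup (GL (Fin 3) F)) (hR : Nat.card R = 27) (hRe : Monoid.exponent R = 3)
    (hRna : ¬ IsMulCommutative R) (hRP : R ≤ P) [Finite P] (hP : IsPGroup 3 P)
    (hPSL : P ≤ (Matrix.GeneralLinearGroup.det : GL (Fin 3) F →* Fˣ).ker) : P ≤ R := by
  classical
  haveI : Fact (Nat.Prime 3) := ⟨Nat.prime_three⟩
  obtain ⟨W, ζ, hζ, haR, hbR⟩ := normal_form h3 ω hω R hR hRe hRna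
  have hζ3 : ζ ^ 3 = 1 := by
    apply Units.ext
    rw [Units.val_pow_eq_pow_val, Units.val_one]
    exact zeta_cube _ hζ
  have hζne1 : ζ ≠ 1 := by
    intro h
    apply zeta_ne_one h3 (ζ : F) hζ
    rw [h]
    rfl
  have hnc := gX_dY_noncomm ζ hζ3 hζne1 W
  have hdetP : ∀ y : GL (Fin 3) F, y ∈ P → Matrix.GeneralLinearGroup.det y = 1 :=
    fun y hy => MonoidHom.mem_ker.mp (hPSL hy)
  obtain ⟨c, hcnc, hccomm⟩ := exists_second_center 3 hP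
    ⟨⟨_, hRP haR⟩, ⟨_, hRP hbR⟩, fun h => hnc (congrArg Subtype.val h)⟩
  -- central elements of P are scalars of cube one
  have hcentral : ∀ t : P, t ∈ Subgroup.center P → ∃ u : Fˣ, u ^ 3 = 1 ∧ (t : GL (Fin 3) F) = sc u := by
    intro t ht
    have h1 : (t : GL (Fin 3) F) * (W * gX * W⁻¹) = (W * gX * W⁻¹) * (t : GL (Fin 3) F) := by
      have := Subgroup.mem_center_iff.mp ht ⟨_, hRP haR⟩
      have := congrArg (fun z : P => (z : GL (Fin 3) F)) this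
      simp only [Subgroup.coe_mul] at this
      exact this.symm
    have h2 : (t : GL (Fin 3) F) * (W * dY ζ * W⁻¹) = (W * dY ζ * W⁻¹) * (t : GL (Fin 3) F) := by
      have := Subgroup.mem_center_iff.mp ht ⟨_, hRP hbR⟩
      have := congrArg (fun z : P => (z : GL (Fin 3) F)) this
      simp only [Subgroup.coe_mul] at this
      exact this.symm
    obtain ⟨u, hu⟩ := scalar_of_centralizes h3 W ζ hζ _ h1 h2
    refine ⟨u, ?_, hu⟩
    have := hdetP _ t.2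
    rw [hu, sc, det_dg] at this
    rw [pow_succ, pow_two]
    exact this
  -- conjugation of c by elements of P
  have hconj : ∀ y : GL (Fin 3) F, y ∈ P →
      ∃ u : Fˣ, u ^ 3 = 1 ∧ y * (c : GL (Fin 3) F) * y⁻¹ = sc u * c := by
    intro y hy
    obtain ⟨u, hu3, hu⟩ := hcentral _ (hccomm (⟨y, hy⟩ : P)⁻¹)
    refine ⟨u, hu3, ?_⟩
    have hu' : (c : GL (Fin 3) F)⁻¹ * y * c * y⁻¹ = sc u := by
      rw [← hu]
      simp
    calc y * (c : GL (Fin 3) F) * y⁻¹ = c * ((c : GL (Fin 3) F)⁻¹ * y * c * y⁻¹) := by group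
      _ = c * sc u := by rw [hu']
      _ = sc u * c := (sc_comm u _).symm
  -- c lies in R
  obtain ⟨R₀, hR₀⟩ : ∃ R₀ : Subgroup (GL (Fin 3) F), R₀ = R.comap (MulAut.conj W).toMonoidHom :=
    ⟨_, rfl⟩
  have hmemR₀ : ∀ m, m ∈ R₀ ↔ W * m * W⁻¹ ∈ R := by
    intro m
    rw [hR₀, Subgroup.mem_comap]
    rfl
  have hcR : (c : GL (Fin 3) F) ∈ R := by
    obtain ⟨u, hu3, hu⟩ := hcentral _ (hccomm ⟨_, hRP hbR⟩)
    have hu' : (c : GL (Fin 3) F)⁻¹ * (W * dY ζ * W⁻¹)⁻¹ * c * (W * dY ζ * W⁻¹) = sc u := by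
      rw [← hu]
      simp
    have hrel : (c : GL (Fin 3) F) * (W * dY ζ * W⁻¹) * (c : GL (Fin 3) F)⁻¹ =
        sc u * (W * dY ζ * W⁻¹) := by
      calc (c : GL (Fin 3) F) * (W * dY ζ * W⁻¹) * (c : GL (Fin 3) F)⁻¹
          = (W * dY ζ * W⁻¹) * (c * ((c : GL (Fin 3) F)⁻¹ * (W * dY ζ * W⁻¹)⁻¹ * c *
              (W * dY ζ * W⁻¹)) * (c : GL (Fin 3) F)⁻¹) := by group
        _ = (W * dY ζ * W⁻¹) * (c * sc u * (c : GL (Fin 3) F)⁻¹) := by rw [hu']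
        _ = sc u * (W * dY ζ * W⁻¹) := by
            rw [← sc_comm u (c : GL (Fin 3) F), mul_inv_cancel_right, sc_comm]
    have hc₀ : W⁻¹ * (c : GL (Fin 3) F) * W ∈ R₀ := by
      apply L6 h3 hno9 R₀ ζ hζ ((hmemR₀ _).mpr haR) ((hmemR₀ _).mpr hbR) _ _ _ u hu3
      · calc (W⁻¹ * (c : GL (Fin 3) F) * W) * dY ζ * (W⁻¹ * (c : GL (Fin 3) F) * W)⁻¹
            = W⁻¹ * ((c : GL (Fin 3) F) * (W * dY ζ * W⁻¹) * (c : GL (Fin 3) F)⁻¹) * W := by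
              group
          _ = W⁻¹ * (sc u * (W * dY ζ * W⁻¹)) * W := by rw [hrel]
          _ = sc u * dY ζ := by
              rw [← mul_assoc W⁻¹, ← sc_comm u W⁻¹]
              group
      · rw [map_mul, map_mul, map_inv, hdetP _ c.2, mul_one, inv_mul_cancel]
      · intro j
        exact three_pow_conj P hP W _ _ gX rfl c.2 (hRP haR) j
    have := (hmemR₀ _).mp hc₀
    have e : W * (W⁻¹ * (c : GL (Fin 3) F) * W) * W⁻¹ = c := by group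
    rw [e] at this
    exact this
  -- the key step: any a₂ ∈ R not commuting with c gives P ≤ R
  have key : ∀ a₂ : GL (Fin 3) F, a₂ ∈ R → a₂ * (c : GL (Fin 3) F) ≠ (c : GL (Fin 3) F) * a₂ → P ≤ R := by
    intro a₂ ha₂ hne
    obtain ⟨u, hu3, hu⟩ := hcentral _ (hccomm ⟨a₂, hRP ha₂⟩)
    have hu' : (c : GL (Fin 3) F)⁻¹ * a₂⁻¹ * c * a₂ = sc u := by
      rw [← hu]
      simp
    have hz₂ : a₂⁻¹ * (c : GL (Fin 3) F)⁻¹ * a₂ * c = sc u⁻¹ := by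
      have : a₂⁻¹ * (c : GL (Fin 3) F)⁻¹ * a₂ * c = ((c : GL (Fin 3) F)⁻¹ * a₂⁻¹ * c * a₂)⁻¹ := by
        group
      rw [this, hu', inv_eq_iff_mul_eq_one, sc_mul, mul_inv_cancel, sc_one]
    have hab : (⟨a₂, ha₂⟩ : R) * ⟨c, hcR⟩ ≠ ⟨c, hcR⟩ * ⟨a₂, ha₂⟩ := by
      intro h
      exact hne (congrArg Subtype.val h)
    obtain ⟨z₂, hz₂def⟩ : ∃ z₂ : R,
        z₂ = (⟨a₂, ha₂⟩ : R)⁻¹ * (⟨c, hcR⟩ : R)⁻¹ * ⟨a₂, ha₂⟩ * ⟨c, hcR⟩ := ⟨_, rfl⟩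
    have hzval : (z₂ : GL (Fin 3) F) = sc u⁻¹ := by
      rw [← hz₂, hz₂def]
      rfl
    have hZc : (⟨a₂, ha₂⟩ : R)⁻¹ * (⟨c, hcR⟩ : R)⁻¹ * ⟨a₂, ha₂⟩ * ⟨c, hcR⟩ ∈
        Subgroup.center R := by
      rw [← hz₂def, Subgroup.mem_center_iff]
      intro g
      apply Subtype.ext
      rw [Subgroup.coe_mul, Subgroup.coe_mul, hzval, sc_comm]
    obtain ⟨Wm, ζ₂, β, hW, hζ₂, hβ, hAW, hBW, hZW⟩ :=
      nf_data h3 ω hω R hRe ⟨a₂, ha₂⟩ ⟨c, hcR⟩ hab hZc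
    rw [← hz₂def] at hZW
    obtain ⟨W₂, ζ₂u, k, hW₂v, hζ₂u, hX₂, hY₂⟩ := nf_of_data R ⟨a₂, ha₂⟩ ⟨c, hcR⟩ z₂ Wm ζ₂ β hW hζ₂
      hβ hAW hBW hZW
    have hζ₂' : (ζ₂u : F) ^ 2 + ζ₂u + 1 = 0 := by rw [hζ₂u]; exact hζ₂
    have hY₂' : W₂ * dY ζ₂u * W₂⁻¹ = sc (u⁻¹ ^ k) * c := by
      rw [hY₂, Subgroup.coe_mul, Subgroup.coe_pow, hzval, sc_pow]
    have hX₂' : W₂ * gX * W₂⁻¹ = a₂ := hX₂
    obtain ⟨R₂, hR₂⟩ : ∃ R₂ : Subgroup (GL (Fin 3) F),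
        R₂ = R.comap (MulAut.conj W₂).toMonoidHom := ⟨_, rfl⟩
    have hmemR₂ : ∀ m, m ∈ R₂ ↔ W₂ * m * W₂⁻¹ ∈ R := by
      intro m
      rw [hR₂, Subgroup.mem_comap]
      rfl
    have hXR₂ : gX ∈ R₂ := by
      rw [hmemR₂, hX₂']
      exact ha₂
    have hYR₂ : dY ζ₂u ∈ R₂ := by
      rw [hmemR₂, hY₂]
      exact Subtype.property _
    intro y hy
    obtain ⟨u', hu'3, hyc⟩ := hconj y hy
    have hy₀ : W₂⁻¹ * y * W₂ ∈ R₂ := by
      apply L6 h3 hno9 R₂ ζ₂u hζ₂' hXR₂ hYR₂ _ _ _ u' hu'3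
      · calc (W₂⁻¹ * y * W₂) * dY ζ₂u * (W₂⁻¹ * y * W₂)⁻¹
            = W₂⁻¹ * (y * (W₂ * dY ζ₂u * W₂⁻¹) * y⁻¹) * W₂ := by group
          _ = W₂⁻¹ * (y * (sc (u⁻¹ ^ k) * c) * y⁻¹) * W₂ := by rw [hY₂']
          _ = W₂⁻¹ * (sc (u⁻¹ ^ k) * (y * c * y⁻¹)) * W₂ := by
              rw [← mul_assoc y, ← sc_comm _ y]
              simp only [mul_assoc]
          _ = W₂⁻¹ * (sc (u⁻¹ ^ k) * (sc u' * c)) * W₂ := by rw [hyc]
          _ = W₂⁻¹ * (sc u' * (sc (u⁻¹ ^ k) * c)) * W₂ := by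
              have hsw : sc (u⁻¹ ^ k) * (sc u' * (c : GL (Fin 3) F)) =
                  sc u' * (sc (u⁻¹ ^ k) * c) := by
                rw [← mul_assoc, ← mul_assoc, sc_mul, sc_mul, mul_comm]
              rw [hsw]
          _ = W₂⁻¹ * (sc u' * (W₂ * dY ζ₂u * W₂⁻¹)) * W₂ := by rw [hY₂']
          _ = sc u' * dY ζ₂u := by
              rw [← mul_assoc W₂⁻¹, ← sc_comm u' W₂⁻¹]
              group
      · rw [map_mul, map_mul, map_inv, hdetP _ hy, mul_one, inv_mul_cancel]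
      · intro j
        exact three_pow_conj P hP W₂ _ _ gX hX₂' hy (hRP ha₂) j
    have := (hmemR₂ _).mp hy₀
    have e : W₂ * (W₂⁻¹ * y * W₂) * W₂⁻¹ = y := by group
    rw [e] at this
    exact this
  -- c does not commute with one of the two generators
  by_cases h1 : (W * gX * W⁻¹) * (c : GL (Fin 3) F) = (c : GL (Fin 3) F) * (W * gX * W⁻¹)
  · by_cases h2 : (W * dY ζ * W⁻¹) * (c : GL (Fin 3) F) = (c : GL (Fin 3) F) * (W * dY ζ * W⁻¹)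
    · exfalso
      apply hcnc
      obtain ⟨u, hu⟩ := scalar_of_centralizes h3 W ζ hζ _ h1.symm h2.symm
      rw [Subgroup.mem_center_iff]
      intro g
      apply Subtype.ext
      rw [Subgroup.coe_mul, Subgroup.coe_mul, hu, sc_comm]
    · exact key _ hbR h2
  · exact key _ haR h1

end

end Cfsg.Agent.Lib.Helper9.H9U27
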