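import Mathlib
import Cfsg.Agent.Lib.Helper9.Ext3SU3k

set_option autoImplicit false

/-! The index of the normaliser of `R` in a finite subgroup of `SL_3(F)` containing `R` is
prime to 3 when `F` has no elements of order 9. -/

namespace Cfsg.Agent.Lib.Helper9.H9U27

open scoped MatrixGroups
open Matrix
open Cfsg.Agent.Lib.Helper9.H9E27

section
variable {F : Type*} [Field F]

theorem not_three_dvd_relIndex (h3 : (3 : F) ≠ 0) (ω : F) (hω : ω ^ 2 + ω + 1 = 0)
    (hno9 : ∀ (u : Fˣ) (m : ℕ), u ^ (3 ^ m) = 1 → u ^ 3 = 1)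
    (R G₀ : Subgroup (GL (Fin 3) F)) [Finite G₀] (hR : Nat.card R = 27)
    (hRe : Monoid.exponent R = 3) (hRna : ¬ IsMulCommutative R) (hRG₀ : R ≤ G₀)
    (hG₀SL : G₀ ≤ (Matrix.GeneralLinearGroup.det : GL (Fin 3) F →* Fˣ).ker) :
    ¬ 3 ∣ (Subgroup.normalizer (R : Set (GL (Fin 3) F))).relIndex G₀ := by
  classical
  haveI : Fact (Nat.Prime 3) := ⟨Nat.prime_three⟩
  have hcardR' : Nat.card (R.subgroupOf G₀) = 27 := by
    rw [Nat.card_congr (Subgroup.subgroupOfEquivOfLe hRG₀).toEquiv, hR]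
  have hR'p : IsPGroup 3 (R.subgroupOf G₀) :=
    IsPGroup.of_card (n := 3) (by rw [hcardR']; norm_num)
  obtain ⟨P, hP⟩ := hR'p.exists_le_sylow
  obtain ⟨P₁, hP₁def⟩ : ∃ P₁ : Subgroup (GL (Fin 3) F),
      P₁ = (P : Subgroup G₀).map G₀.subtype := ⟨_, rfl⟩
  have hP₁p : IsPGroup 3 P₁ := by
    rw [hP₁def]
    exact P.2.map _
  haveI : Finite P₁ := by
    apply Nat.finite_of_card_ne_zero
    rw [hP₁def, Subgroup.card_map_of_injective G₀.subtype_injective]
    exact Nat.card_pos.ne'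
  have hRP₁ : R ≤ P₁ := by
    intro r hr
    rw [hP₁def, Subgroup.mem_map]
    refine ⟨⟨r, hRG₀ hr⟩, hP ?_, rfl⟩
    rw [Subgroup.mem_subgroupOf]
    exact hr
  have hP₁SL : P₁ ≤ (Matrix.GeneralLinearGroup.det : GL (Fin 3) F →* Fˣ).ker := by
    intro y hy
    rw [hP₁def, Subgroup.mem_map] at hy
    obtain ⟨t, _, rfl⟩ := hy
    exact hG₀SL t.2
  have hle := sylow_le h3 ω hω hno9 R P₁ hR hRe hRna hRP₁ hP₁p hP₁SL
  have hP₁R : P₁ = R := le_antisymm hle hRP₁
  have hcardP : Nat.card (P : Subgroup G₀) = 27 := by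
    rw [← Subgroup.card_map_of_injective (K := (P : Subgroup G₀)) G₀.subtype_injective,
      ← hP₁def, hP₁R, hR]
  have hfac : (Nat.card G₀).factorization 3 = 3 := by
    have := Sylow.card_eq_multiplicity P
    rw [hcardP] at this
    have h27 : (27 : ℕ) = 3 ^ 3 := by norm_num
    rw [h27] at this
    exact (Nat.pow_right_injective (by norm_num : 2 ≤ 3) this).symm
  intro hdvd
  have h27 : 27 ∣ Nat.card ((Subgroup.normalizer (R : Set (GL (Fin 3) F))).subgroupOf G₀) := by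
    have h1 : R.subgroupOf G₀ ≤ (Subgroup.normalizer (R : Set (GL (Fin 3) F))).subgroupOf G₀ := by
      intro t ht
      rw [Subgroup.mem_subgroupOf] at ht ⊢
      exact Subgroup.le_normalizer ht
    have h2' := Subgroup.card_dvd_of_le h1
    rw [hcardR'] at h2'
    exact h2'
  have h81 : 3 ^ 4 ∣ Nat.card G₀ := by
    have := Subgroup.card_mul_index ((Subgroup.normalizer (R : Set (GL (Fin 3) F))).subgroupOf G₀)
    rw [← this]
    have e : (3 : ℕ) ^ 4 = 27 * 3 := by norm_num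
    rw [e]
    exact Nat.mul_dvd_mul h27 hdvd
  have hne : Nat.card G₀ ≠ 0 := Nat.card_pos.ne'
  have := (Nat.Prime.pow_dvd_iff_le_factorization Nat.prime_three hne).mp h81
  omega

end

end Cfsg.Agent.Lib.Helper9.H9U27
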