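import Mathlib
import Cfsg.Prelude
import Cfsg.Agent.Lib.Helper9.FieldSub1

set_option autoImplicit false

/-!
Unipotent elements `1 + N` where `N v = (λ(v)^m - λ(v)) • e₂` for a functional `λ` over a field
subalgebra `K` of a matrix algebra: they commute with the elements of `K` fixed by `x ↦ x^m` and
move the other elements of `K` out of `K`.
-/

namespace Cfsg.Agent.H9ExtF

open Module Matrix Cfsg.Agent.H9FK

variable {F : Type*} [Field F] {ι : Type} [Fintype ι] [DecidableEq ι] {r : ℕ} [NeZero r]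
variable {K : Subalgebra F (Matrix ι ι F)} {hK : Cfsg.Geo.IsFieldSubalgebra r K}

theorem algebraMap_smul_vec (c : F) (v : ι → F) :
    (algebraMap F (FK K hK) c) • v = c • v := by
  rw [FK.smul_def, FK.val_algebraMap, Matrix.smul_mulVec, Matrix.one_mulVec]

/-- the twisted nilpotent map -/
noncomputable def Nmap (m : ℕ) (hadd : ∀ x y : FK K hK, (x + y) ^ m = x ^ m + y ^ m)
    (hF : ∀ c : F, c ^ m = c) (lam : (ι → F) →ₗ[FK K hK] FK K hK) (e₂ : ι → F) :
    (ι → F) →ₗ[F] (ι → F) where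
  toFun v := ((lam v) ^ m - lam v) • e₂
  map_add' u v := by
    rw [map_add, hadd, ← add_smul]
    congr 1
    ring
  map_smul' c v := by
    rw [RingHom.id_apply, ← algebraMap_smul_vec (K := K) (hK := hK) c v, map_smul, smul_eq_mul,
      mul_pow, ← map_pow, hF, ← algebraMap_smul_vec (K := K) (hK := hK) c, ← mul_smul]
    congr 1
    ring

theorem Nmap_apply (m : ℕ) (hadd : ∀ x y : FK K hK, (x + y) ^ m = x ^ m + y ^ m)
    (hF : ∀ c : F, c ^ m = c) (lam : (ι → F) →ₗ[FK K hK] FK K hK) (e₂ : ι → F) (v : ι → F) :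
    Nmap m hadd hF lam e₂ v = ((lam v) ^ m - lam v) • e₂ := rfl

/-- the matrix of the twisted nilpotent map -/
noncomputable def Nmat (m : ℕ) (hadd : ∀ x y : FK K hK, (x + y) ^ m = x ^ m + y ^ m)
    (hF : ∀ c : F, c ^ m = c) (lam : (ι → F) →ₗ[FK K hK] FK K hK) (e₂ : ι → F) :
    Matrix ι ι F :=
  LinearMap.toMatrix' (Nmap m hadd hF lam e₂)

theorem Nmat_mulVec (m : ℕ) (hadd : ∀ x y : FK K hK, (x + y) ^ m = x ^ m + y ^ m)
    (hF : ∀ c : F, c ^ m = c) (lam : (ι → F) →ₗ[FK K hK] FK K hK) (e₂ : ι → F) (v : ι → F) :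
    Nmat m hadd hF lam e₂ *ᵥ v = ((lam v) ^ m - lam v) • e₂ := by
  rw [← Nmap_apply m hadd hF lam e₂ v, Nmat, ← Matrix.toLin'_apply, Matrix.toLin'_toMatrix']

theorem mat_ext {A B : Matrix ι ι F} (h : ∀ v : ι → F, A *ᵥ v = B *ᵥ v) : A = B := by
  apply Matrix.toLin'.injective
  apply LinearMap.ext
  intro v
  rw [Matrix.toLin'_apply, Matrix.toLin'_apply, h]

theorem zero_pow_m {m : ℕ} (hF : ∀ c : F, c ^ m = c) : m ≠ 0 := by
  intro h0
  have := hF 0
  rw [h0, pow_zero] at this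
  exact one_ne_zero this

theorem Nmat_sq (m : ℕ) (hadd : ∀ x y : FK K hK, (x + y) ^ m = x ^ m + y ^ m)
    (hF : ∀ c : F, c ^ m = c) (lam : (ι → F) →ₗ[FK K hK] FK K hK) (e₂ : ι → F)
    (h2 : lam e₂ = 0) :
    Nmat m hadd hF lam e₂ * Nmat m hadd hF lam e₂ = 0 := by
  apply mat_ext
  intro v
  rw [← Matrix.mulVec_mulVec, Nmat_mulVec, Nmat_mulVec, map_smul, h2, smul_zero,
    zero_pow (zero_pow_m hF), sub_zero, zero_smul, Matrix.zero_mulVec]

theorem Nmat_comm (m : ℕ) (hadd : ∀ x y : FK K hK, (x + y) ^ m = x ^ m + y ^ m)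
    (hF : ∀ c : F, c ^ m = c) (lam : (ι → F) →ₗ[FK K hK] FK K hK) (e₂ : ι → F)
    (k : Matrix ι ι F) (hk : k ∈ K) (hkm : k ^ m = k) :
    Nmat m hadd hF lam e₂ * k = k * Nmat m hadd hF lam e₂ := by
  apply mat_ext
  intro v
  have hk' : (FK.mk' (hK := hK) k hk) ^ m = FK.mk' (hK := hK) k hk := FK.val_injective hkm
  have e1 : k *ᵥ v = (FK.mk' (hK := hK) k hk) • v := rfl
  rw [← Matrix.mulVec_mulVec, ← Matrix.mulVec_mulVec, Nmat_mulVec, Nmat_mulVec, e1, map_smul,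
    smul_eq_mul, mul_pow, hk']
  have e2 : ∀ w : ι → F, k *ᵥ w = (FK.mk' (hK := hK) k hk) • w := fun _ => rfl
  rw [e2, ← mul_smul]
  congr 1
  ring

end Cfsg.Agent.H9ExtF
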