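import Mathlib
import Cfsg.Prelude
import Cfsg.Agent.Lib.Helper9.ExtComp1

set_option autoImplicit false

namespace Cfsg.Agent.H9ExtF

open Module Matrix Cfsg.Agent.H9FK

variable {F : Type*} [Field F] {ι : Type} [Fintype ι] [DecidableEq ι] {r : ℕ} [NeZero r]
variable {K : Subalgebra F (Matrix ι ι F)} {hK : Cfsg.Geo.IsFieldSubalgebra r K}

/-- `1 + N` as an invertible matrix when `N * N = 0` -/
def unip (N : Matrix ι ι F) (hN : N * N = 0) : GL ι F :=
  ⟨1 + N, 1 - N, by
    rw [mul_sub, mul_one, add_mul, one_mul, hN]; abel, by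
    rw [sub_mul, one_mul, mul_add, mul_one, hN]; abel⟩

theorem unip_val (N : Matrix ι ι F) (hN : N * N = 0) : ((unip N hN : GL ι F) : Matrix ι ι F) = 1 + N :=
  rfl

theorem unip_inv_val (N : Matrix ι ι F) (hN : N * N = 0) :
    (((unip N hN)⁻¹ : GL ι F) : Matrix ι ι F) = 1 - N :=
  rfl

theorem unip_det [Nonempty ι] {p : ℕ} [Fact p.Prime] [CharP F p] (N : Matrix ι ι F) (hN : N * N = 0) :
    (1 + N).det = 1 := by
  have hp : 2 ≤ p := (Fact.out : p.Prime).two_le
  have hNp : N ^ p = 0 := by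
    obtain ⟨k, rfl⟩ : ∃ k, p = 2 + k := ⟨p - 2, by omega⟩
    rw [pow_add, pow_two, hN, zero_mul]
  have h1 : (1 + N) ^ p = 1 := by
    rw [add_pow_char_of_commute p (Commute.one_left N), one_pow, hNp, add_zero]
  have h2 : (1 + N).det ^ p = 1 := by
    rw [← Matrix.det_pow, h1, Matrix.det_one]
  have h3 : ((1 + N).det - 1) ^ p = 0 := by
    rw [sub_pow_char, h2, one_pow, sub_self]
  have h4 := pow_eq_zero_iff (Fact.out : p.Prime).ne_zero |>.mp h3
  exact sub_eq_zero.mp h4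

theorem unip_mem_specialLinear [Nonempty ι] {p : ℕ} [Fact p.Prime] [CharP F p] (N : Matrix ι ι F)
    (hN : N * N = 0) : unip N hN ∈ Cfsg.Geo.specialLinear ι F := by
  unfold Cfsg.Geo.specialLinear
  rw [MonoidHom.mem_ker]
  apply Units.ext
  rw [Matrix.GeneralLinearGroup.val_det_apply, unip_val, unip_det (p := p) N hN]
  rfl

/-- the witness: an element of the special linear group commuting with the elements of `K` fixed
by `x ↦ x ^ m` and conjugating `α` out of `K`. -/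
theorem exists_witness [Nonempty ι] {p : ℕ} [Fact p.Prime] [CharP F p]
    (m : ℕ) (hadd : ∀ x y : FK K hK, (x + y) ^ m = x ^ m + y ^ m)
    (hF : ∀ c : F, c ^ m = c) (lam : (ι → F) →ₗ[FK K hK] FK K hK) (e₁ e₂ : ι → F)
    (h1 : lam e₁ = 1) (h2 : lam e₂ = 0) (he₂ : e₂ ≠ 0) (α : FK K hK) (hα : α ^ m ≠ α) :
    ∃ g : GL ι F, g ∈ Cfsg.Geo.specialLinear ι F ∧
      (∀ k ∈ K, k ^ m = k → (g : Matrix ι ι F) * k = k * (g : Matrix ι ι F)) ∧
      ¬ ((g : Matrix ι ι F) * α.val * ((g⁻¹ : GL ι F) : Matrix ι ι F) ∈ K) := by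
  have hN := Nmat_sq m hadd hF lam e₂ h2
  refine ⟨unip _ hN, unip_mem_specialLinear (p := p) _ hN, ?_, ?_⟩
  · intro k hk hkm
    rw [unip_val, add_mul, mul_add, one_mul, mul_one, Nmat_comm m hadd hF lam e₂ k hk hkm]
  · intro hmem
    rw [unip_val, unip_inv_val] at hmem
    obtain ⟨k', hk'⟩ : ∃ k' : FK K hK, k'.val = (1 + Nmat m hadd hF lam e₂) * α.val *
        (1 - Nmat m hadd hF lam e₂) := ⟨⟨_, hmem⟩, rfl⟩
    have e1 : k' • e₁ = α • e₁ + (α ^ m - α) • e₂ := by
      rw [FK.smul_def, hk', ← Matrix.mulVec_mulVec, ← Matrix.mulVec_mulVec, Matrix.sub_mulVec,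
        Matrix.one_mulVec, Nmat_mulVec, h1, one_pow, sub_self, zero_smul, sub_zero,
        Matrix.add_mulVec, Matrix.one_mulVec, Nmat_mulVec, ← FK.smul_def, map_smul, h1,
        smul_eq_mul, mul_one]
    have e2 := congrArg lam e1
    rw [map_smul, map_add, map_smul, map_smul, h1, h2, smul_eq_mul, smul_eq_mul, smul_eq_mul,
      mul_one, mul_one, mul_zero, add_zero] at e2
    rw [e2] at e1
    have e3 : (α ^ m - α) • e₂ = 0 := by
      have := e1
      rw [left_eq_add] at this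
      exact this
    rcases smul_eq_zero.mp e3 with h | h
    · exact hα (sub_eq_zero.mp h)
    · exact he₂ h

/-- two independent vectors and a functional when the dimension is at least two -/
theorem exists_lam (h2 : 2 ≤ finrank (FK K hK) (ι → F)) :
    ∃ (lam : (ι → F) →ₗ[FK K hK] FK K hK) (e₁ e₂ : ι → F),
      lam e₁ = 1 ∧ lam e₂ = 0 ∧ e₂ ≠ 0 := by
  have : Module.Finite (FK K hK) (ι → F) := Module.finite_of_finrank_pos (by omega)
  let b := Module.finBasis (FK K hK) (ι → F)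
  let i₀ : Fin (finrank (FK K hK) (ι → F)) := ⟨0, by omega⟩
  let i₁ : Fin (finrank (FK K hK) (ι → F)) := ⟨1, by omega⟩
  have hne : i₁ ≠ i₀ := by
    intro h
    have := congrArg Fin.val h
    simp [i₀, i₁] at this
  refine ⟨b.coord i₀, b i₀, b i₁, ?_, ?_, b.ne_zero i₁⟩
  · rw [Basis.coord_apply, Basis.repr_self, Finsupp.single_eq_same]
  · rw [Basis.coord_apply, Basis.repr_self, Finsupp.single_eq_of_ne hne.symm]

end Cfsg.Agent.H9ExtF
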