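import Mathlib
import Cfsg.Prelude
import Cfsg.Agent.Lib.Helper9.ExtComp2

set_option autoImplicit false

namespace Cfsg.Agent.H9ExtF

open Module Matrix Cfsg.Agent.H9FK

variable {F : Type*} [Field F] {ι : Type} [Fintype ι] [DecidableEq ι] {r : ℕ} [NeZero r]
variable {K : Subalgebra F (Matrix ι ι F)} {hK : Cfsg.Geo.IsFieldSubalgebra r K}

theorem val_pow' (a : FK K hK) (n : ℕ) : (a ^ n).val = a.val ^ n := rfl

/-- the subalgebra of the elements of `K` fixed by `x ↦ x ^ m` -/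
def fixedSub (K : Subalgebra F (Matrix ι ι F)) (hK : Cfsg.Geo.IsFieldSubalgebra r K) (m : ℕ)
    (hadd : ∀ x y : FK K hK, (x + y) ^ m = x ^ m + y ^ m) (hF : ∀ c : F, c ^ m = c) :
    Subalgebra F (Matrix ι ι F) where
  carrier := {x | x ∈ K ∧ x ^ m = x}
  mul_mem' := by
    rintro x y ⟨hx, hxm⟩ ⟨hy, hym⟩
    refine ⟨K.mul_mem hx hy, ?_⟩
    rw [(show Commute x y from hK.comm x hx y hy).mul_pow, hxm, hym]
  add_mem' := by
    rintro x y ⟨hx, hxm⟩ ⟨hy, hym⟩
    refine ⟨K.add_mem hx hy, ?_⟩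
    have h := congrArg FK.val (hadd (FK.mk' x hx) (FK.mk' y hy))
    change (x + y) ^ m = x ^ m + y ^ m at h
    rw [h, hxm, hym]
  algebraMap_mem' c := by
    refine ⟨K.algebraMap_mem c, ?_⟩
    rw [Algebra.algebraMap_eq_smul_one, smul_pow, one_pow, hF]

theorem mem_fixedSub (m : ℕ)
    (hadd : ∀ x y : FK K hK, (x + y) ^ m = x ^ m + y ^ m) (hF : ∀ c : F, c ^ m = c)
    (x : Matrix ι ι F) : x ∈ fixedSub K hK m hadd hF ↔ x ∈ K ∧ x ^ m = x := Iff.rfl

theorem normalizer_le_fixedSub (m : ℕ)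
    (hadd : ∀ x y : FK K hK, (x + y) ^ m = x ^ m + y ^ m) (hF : ∀ c : F, c ^ m = c) :
    Cfsg.Geo.subalgebraNormalizer K ≤ Cfsg.Geo.subalgebraNormalizer (fixedSub K hK m hadd hF) := by
  intro g hg k
  have hg' : ∀ k : Matrix ι ι F, k ∈ K ↔ (g : Matrix ι ι F) * k * ((g⁻¹ : GL ι F) : Matrix ι ι F) ∈ K :=
    hg
  rw [mem_fixedSub, mem_fixedSub, ← hg' k, Units.conj_pow]
  constructor
  · rintro ⟨h1, h2⟩
    exact ⟨h1, by rw [h2]⟩
  · rintro ⟨h1, h2⟩
    refine ⟨h1, ?_⟩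
    have h3 := congrArg (fun x => ((g⁻¹ : GL ι F) : Matrix ι ι F) * x * (g : Matrix ι ι F)) h2
    simp only [mul_assoc, Units.inv_mul, mul_one, Units.inv_mul_cancel_left] at h3
    exact h3

theorem mem_normalizer_of_commute (A : Subalgebra F (Matrix ι ι F)) (g : GL ι F)
    (h : ∀ k ∈ A, (g : Matrix ι ι F) * k = k * (g : Matrix ι ι F)) :
    g ∈ Cfsg.Geo.subalgebraNormalizer A := by
  intro k
  constructor
  · intro hk
    rw [h k hk, mul_assoc, Units.mul_inv, mul_one]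
    exact hk
  · intro hk
    have h1 := h _ hk
    simp only [mul_assoc, Units.inv_mul, mul_one] at h1
    have h2 : (g : Matrix ι ι F) * k * ((g⁻¹ : GL ι F) : Matrix ι ι F) = k := by
      have h3 := congrArg (fun x => ((g⁻¹ : GL ι F) : Matrix ι ι F) * x) h1
      simp only [Units.inv_mul_cancel_left] at h3
      rw [mul_assoc]
      exact h3
    rw [h2] at hk
    exact hk

end Cfsg.Agent.H9ExtF
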