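import Mathlib
import Cfsg.Prelude
import Cfsg.Agent.Lib.Helper9.ExtComp3

set_option autoImplicit false

namespace Cfsg.Agent.H9ExtF

open Module Matrix Cfsg.Agent.H9FK

/-- In a finite field with `q ^ r` elements and `a ∣ r`, `1 < a < r`: an element not fixed by
`x ↦ x ^ q ^ a`, and an element fixed by it but not by `x ↦ x ^ q`. -/
theorem exists_alpha_beta (L : Type*) [Field L] [Finite L] (q a r : ℕ) (hq : 2 ≤ q)
    (hcard : Nat.card L = q ^ r) (har : a ∣ r) (ha : 1 < a) (halt : a < r) :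
    ∃ α β : L, α ^ q ^ a ≠ α ∧ β ^ q ^ a = β ∧ β ^ q ≠ β := by
  obtain ⟨g, hg⟩ := IsCyclic.exists_ofOrder_eq_natCard (α := Lˣ)
  rw [Nat.card_units, hcard] at hg
  have hqa_lt : q ^ a < q ^ r := Nat.pow_lt_pow_right hq halt
  have hq_lt : q ^ 1 < q ^ a := Nat.pow_lt_pow_right hq ha
  rw [pow_one] at hq_lt
  have hqa1 : 1 ≤ q ^ a := Nat.one_le_pow _ _ (by omega)
  obtain ⟨b, rfl⟩ := har
  obtain ⟨t, ht⟩ : q ^ a - 1 ∣ q ^ (a * b) - 1 := by
    have := Nat.sub_dvd_pow_sub_pow (q ^ a) 1 b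
    rw [one_pow, ← pow_mul] at this
    exact this
  have key : ∀ (x : Lˣ) (k : ℕ), 1 ≤ k → ((x : L) ^ k = x ↔ x ^ (k - 1) = 1) := by
    intro x k hk
    obtain ⟨j, rfl⟩ : ∃ j, k = j + 1 := ⟨k - 1, by omega⟩
    rw [Nat.add_sub_cancel]
    constructor
    · intro h
      apply Units.ext
      have h2 : ((x : L) ^ j - 1) * x = 0 := by
        rw [sub_mul, one_mul, ← pow_succ, h, sub_self]
      rcases mul_eq_zero.mp h2 with h3 | h3
      · rw [Units.val_pow_eq_pow_val, Units.val_one]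
        exact sub_eq_zero.mp h3
      · exact absurd h3 x.ne_zero
    · intro h
      have h2 := congrArg Units.val h
      rw [Units.val_pow_eq_pow_val, Units.val_one] at h2
      rw [pow_succ, h2, one_mul]
  refine ⟨(g : L), ((g ^ t : Lˣ) : L), ?_, ?_, ?_⟩
  · intro h
    rw [key g _ hqa1] at h
    have h2 := orderOf_dvd_of_pow_eq_one h
    rw [hg] at h2
    have h3 := Nat.le_of_dvd (by omega) h2
    omega
  · rw [key _ _ hqa1, ← pow_mul, mul_comm, ← ht, ← hg, pow_orderOf_eq_one]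
  · intro h
    rw [key _ _ (by omega), ← pow_mul] at h
    have h2 := orderOf_dvd_of_pow_eq_one h
    rw [hg, ht] at h2
    have ht0 : 0 < t := by
      rcases Nat.eq_zero_or_pos t with h0 | h0
      · rw [h0, mul_zero] at ht
        omega
      · exact h0
    have h3 := Nat.le_of_dvd (Nat.mul_pos ht0 (by omega)) h2
    rw [mul_comm] at h3
    have h4 := Nat.le_of_mul_le_mul_left h3 ht0
    omega

end Cfsg.Agent.H9ExtF
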