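import Mathlib
import Cfsg.Agent.Lib.Helper9.ExtInv2

set_option autoImplicit false

/-! Centralisers in dimension two and the final conjugation lemma. -/

namespace Cfsg.Agent.Lib.Helper9.H9ExtInv

open Module
open Cfsg.Agent.H9SemiInv
open Cfsg.Agent.Lib.Helper9.H9Elus
open Cfsg.Agent.Lib.Helper9.H9GSpInv
open Cfsg.Agent.Lib.Helper9.H9GConj

section dimtwo
variable {F : Type*} [Field F] {V : Type*} [AddCommGroup V] [Module F V] [FiniteDimensional F V]

theorem det_add_smul_of_nonscalar (z : F) (t : V →ₗ[F] V) (ht : t ^ 2 = z • 1)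
    (hV : finrank F V = 2) (hns : ∀ c : F, t ≠ c • 1) (α β : F) :
    LinearMap.det (α • (1 : V →ₗ[F] V) + β • t) = α ^ 2 - z * β ^ 2 := by
  have htt : ∀ v, t (t v) = z • v := by
    intro v
    have := congrArg (fun g : V →ₗ[F] V => g v) ht
    simpa [pow_two, Module.End.mul_apply] using this
  obtain ⟨v, hv⟩ : ∃ v, LinearIndependent F ![v, t v] := by
    by_contra h
    push Not at h
    obtain ⟨a, ha⟩ := LinearMap.exists_eq_smul_id_of_forall_notLinearIndependent h
    exact hns a ha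
  let b := basisOfLinearIndependentOfCardEqFinrank hv (by rw [hV]; rfl)
  have hb0 : b 0 = v := by simp [b]
  have hb1 : b 1 = t v := by simp [b]
  have hrepr' : ∀ x y : F, b.repr (x • b 0 + y • b 1) 0 = x ∧ b.repr (x • b 0 + y • b 1) 1 = y := by
    intro x y
    constructor <;> simp [map_add, map_smul, Basis.repr_self]
  have hrepr : ∀ x y : F, b.repr (x • v + y • t v) 0 = x ∧ b.repr (x • v + y • t v) 1 = y := by
    intro x y
    have := hrepr' x y
    rwa [hb0, hb1] at this
  have f0 : (α • (1 : V →ₗ[F] V) + β • t) (b 0) = α • v + β • t v := by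
    rw [hb0]
    simp
  have f1 : (α • (1 : V →ₗ[F] V) + β • t) (b 1) = (β * z) • v + α • t v := by
    rw [hb1]
    simp only [LinearMap.add_apply, LinearMap.smul_apply, Module.End.one_apply, htt, smul_smul]
    rw [add_comm]
  rw [← LinearMap.det_toMatrix b, Matrix.det_fin_two, LinearMap.toMatrix_apply,
    LinearMap.toMatrix_apply, LinearMap.toMatrix_apply, LinearMap.toMatrix_apply, f0, f1,
    (hrepr α β).1, (hrepr α β).2, (hrepr (β * z) α).1, (hrepr (β * z) α).2]
  ring

/-- The centraliser of a non-scalar map with scalar square in dimension two. -/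
theorem cent_of_finrank_two (z : F) (t : V →ₗ[F] V) (ht : t ^ 2 = z • 1)
    (hV : finrank F V = 2) (hns : ∀ c : F, t ≠ c • 1) (δ : F)
    (hδ : ∃ α β : F, α ^ 2 - z * β ^ 2 = δ) :
    ∃ c : V →ₗ[F] V, LinearMap.det c = δ ∧ ∀ v, c (t v) = t (c v) := by
  obtain ⟨α, β, hαβ⟩ := hδ
  refine ⟨α • 1 + β • t, ?_, ?_⟩
  · rw [det_add_smul_of_nonscalar z t ht hV hns, hαβ]
  · intro v
    simp only [LinearMap.add_apply, LinearMap.smul_apply, Module.End.one_apply, map_add, map_smul]

end dimtwo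

section final
variable {F : Type*} [Field F] {n : ℕ}

local notation "Mat" => Matrix (Fin n) (Fin n) F

/-- The final conjugation lemma. -/
theorem conj_mem_normalizer (K : Subalgebra F Mat) (hK : Cfsg.Geo.IsFieldSubalgebra 2 K)
    (x : Matrix.SpecialLinearGroup (Fin n) F) (y : (Fin n → F) →ₗ[F] (Fin n → F))
    (g : (Fin n → F) ≃ₗ[F] (Fin n → F))
    (hg : ∀ v, g (Matrix.toLin' (x : Mat) v) = y (g v))
    (hcent : ∀ δ : F, δ ≠ 0 → ∃ c : (Fin n → F) →ₗ[F] (Fin n → F), LinearMap.det c = δ ∧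
      ∀ v, c (Matrix.toLin' (x : Mat) v) = Matrix.toLin' (x : Mat) (c v))
    (θ : Mat) (hθ : θ ∈ K) (hns : ∀ c : F, θ ≠ c • (1 : Mat)) (θ' : Mat) (hθ' : θ' ∈ K)
    (h : LinearMap.toMatrix' y * θ = θ' * LinearMap.toMatrix' y) :
    ∃ P : Matrix.SpecialLinearGroup (Fin n) F,
      P⁻¹ * x * P ∈ (Cfsg.Geo.subalgebraNormalizer K).comap
        (Matrix.SpecialLinearGroup.toGL : Matrix.SpecialLinearGroup (Fin n) F →* GL (Fin n) F) := by
  obtain ⟨P, hP⟩ := exists_SL_conj x y g hg hcent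
  refine ⟨P, ?_⟩
  rw [Subgroup.mem_comap]
  apply mem_normalizer_of_mul_eq K hK θ hθ hns _ θ' hθ'
  rw [Matrix.SpecialLinearGroup.coe_GL_coe_matrix, hP]
  exact h

end final

end Cfsg.Agent.Lib.Helper9.H9ExtInv
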