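import Mathlib
import Cfsg.Agent.Lib.Helper9.ExtInv3

set_option autoImplicit false

/-! The counterexamples: transvections and pseudo-reflections do not normalise `K`. -/

namespace Cfsg.Agent.Lib.Helper9.H9ExtInv

open Module
open Cfsg.Agent.Lib.Helper9.H9GSpInv

section cex
variable {F : Type*} [Field F] {n : ℕ}

local notation "Mat" => Matrix (Fin n) (Fin n) F

theorem not_conj_mem_normalizer (hn : 3 ≤ n) (K : Subalgebra F Mat)
    (hK : Cfsg.Geo.IsFieldSubalgebra 2 K) (x : Matrix.SpecialLinearGroup (Fin n) F)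
    (d : F) (hd : d ≠ 0) (ψ : (Fin n → F) →ₗ[F] F) (w₀ : Fin n → F) (hψ : ψ ≠ 0) (hw₀ : w₀ ≠ 0)
    (hx : ∀ u, Matrix.mulVec (x : Mat) u = d • (u + ψ u • w₀))
    (P : Matrix.SpecialLinearGroup (Fin n) F) :
    P⁻¹ * x * P ∉ (Cfsg.Geo.subalgebraNormalizer K).comap
        (Matrix.SpecialLinearGroup.toGL : Matrix.SpecialLinearGroup (Fin n) F →* GL (Fin n) F) := by
  intro hmem
  rw [Subgroup.mem_comap] at hmem
  set Pi : Mat := ((P⁻¹ : Matrix.SpecialLinearGroup (Fin n) F) : Mat) with hPi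
  set Pm : Mat := (P : Mat) with hPm
  have hPP : Pm * Pi = 1 := by
    rw [hPm, hPi, ← Matrix.SpecialLinearGroup.coe_mul, mul_inv_cancel,
      Matrix.SpecialLinearGroup.coe_one]
  have hPP' : Pi * Pm = 1 := by
    rw [hPm, hPi, ← Matrix.SpecialLinearGroup.coe_mul, inv_mul_cancel,
      Matrix.SpecialLinearGroup.coe_one]
  refine not_mem_normalizer hn K hK _ d hd (ψ ∘ₗ Matrix.toLin' Pm) (Matrix.mulVec Pi w₀) ?_ ?_ ?_
    hmem
  · intro h
    apply hψ
    apply LinearMap.ext
    intro u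
    have h1 := congrArg (fun f : (Fin n → F) →ₗ[F] F => f (Matrix.mulVec Pi u)) h
    simp only [LinearMap.comp_apply, Matrix.toLin'_apply, Matrix.mulVec_mulVec, hPP,
      Matrix.one_mulVec, LinearMap.zero_apply] at h1
    rw [h1, LinearMap.zero_apply]
  · intro h
    apply hw₀
    have := congrArg (Matrix.mulVec Pm) h
    rwa [Matrix.mulVec_mulVec, hPP, Matrix.one_mulVec, Matrix.mulVec_zero] at this
  · intro v
    rw [Matrix.SpecialLinearGroup.coe_GL_coe_matrix, Matrix.SpecialLinearGroup.coe_mul,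
      Matrix.SpecialLinearGroup.coe_mul, ← Matrix.mulVec_mulVec, ← Matrix.mulVec_mulVec, hx,
      Matrix.mulVec_smul, Matrix.mulVec_add, Matrix.mulVec_smul, Matrix.mulVec_mulVec, hPP',
      Matrix.one_mulVec]
    rfl

theorem negCoord_eq (i₀ : Fin n) (u : Fin n → F) :
    negCoord i₀ u = u + ((-2 : F) • (LinearMap.proj i₀ : (Fin n → F) →ₗ[F] F)) u •
      (Pi.single i₀ (1 : F) : Fin n → F) := by
  funext j
  unfold negCoord
  by_cases hj : j = i₀
  · subst hj
    simp
    ring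
  · simp [Function.update_of_ne hj, Pi.single_eq_of_ne hj]

theorem transvection_mulVec (i₀ i₁ : Fin n) (u : Fin n → F) :
    Matrix.mulVec (Matrix.transvection i₀ i₁ (1 : F)) u =
      (1 : F) • (u + (LinearMap.proj i₁ : (Fin n → F) →ₗ[F] F) u •
        (Pi.single i₀ (1 : F) : Fin n → F)) := by
  unfold Matrix.transvection
  rw [Matrix.add_mulVec, Matrix.one_mulVec, Matrix.single_mulVec_eq, one_smul, one_mul]
  rfl

end cex

end Cfsg.Agent.Lib.Helper9.H9ExtInv
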