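import Mathlib
import Cfsg.Prelude
import Cfsg.Agent.Lib.Helper9.AbIdx3

set_option autoImplicit false

/-!
# Essential abelian subgroups acted on by a large group of "transvections" with a common centre
-/

namespace Cfsg.Agent.Lib.Helper9.H9EI

open Cfsg Cfsg.FusionSystem Cfsg.Agent.Lib.Helper9 Cfsg.Agent.Lib.Helper9.H9AbIdx

/-- two automorphisms acting trivially modulo `Z`, one fixing `g(Z)` and the other fixing
`g⁻¹(Z)` pointwise: the first commutes with the `g`-conjugate of the second -/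
theorem comm_of_transvections {H : Type*} [Group H] (hab : ∀ x y : H, x * y = y * x)
    (Z : Subgroup H) (g a b : MulAut H)
    (ha1 : ∀ h : H, h⁻¹ * a h ∈ Z) (ha2 : ∀ w ∈ Z, a (g w) = g w)
    (hb1 : ∀ h : H, h⁻¹ * b h ∈ Z) (hb2 : ∀ w ∈ Z, b (g⁻¹ w) = g⁻¹ w) :
    a * (g * b * g⁻¹) = (g * b * g⁻¹) * a := by
  ext h
  simp only [MulAut.mul_apply]
  obtain ⟨f, hf⟩ : ∃ f, f = g⁻¹ h := ⟨_, rfl⟩
  have hgf : g f = h := by rw [hf, MulAut.apply_inv_self]
  -- left side
  obtain ⟨k, hk⟩ : ∃ k, k = f⁻¹ * b f := ⟨_, rfl⟩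
  have hkZ : k ∈ Z := by rw [hk]; exact hb1 f
  have hbf : b f = f * k := by rw [hk]; group
  have hL : a (g (b (g⁻¹ h))) = a h * g k := by
    rw [← hf, hbf, map_mul, hgf, map_mul, ha2 k hkZ]
  -- right side
  obtain ⟨k', hk'⟩ : ∃ k', k' = h⁻¹ * a h := ⟨_, rfl⟩
  have hk'Z : k' ∈ Z := by rw [hk']; exact ha1 h
  have hah : a h = h * k' := by rw [hk']; group
  have hR : g (b (g⁻¹ (a h))) = h * g k * k' := by
    rw [hah, map_mul, ← hf, map_mul, hb2 k' hk'Z, map_mul, MulAut.apply_inv_self, hbf, map_mul, hgf]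
  rw [hL, hR, hah, mul_assoc, mul_assoc, hab k' (g k)]

variable {Ω : Type*} [Group Ω] {S : Subgroup Ω}

/-- a group is not the union of two proper subgroups -/
theorem eq_top_of_union {A : Type*} [Group A] (M N : Subgroup A) (hM : M ≠ ⊤)
    (h : ∀ g : A, g ∉ N → g ∈ M) : N = ⊤ := by
  by_contra hN
  obtain ⟨a, -, ha⟩ := SetLike.exists_of_lt (lt_top_iff_ne_top.mpr hM)
  obtain ⟨b, -, hb⟩ := SetLike.exists_of_lt (lt_top_iff_ne_top.mpr hN)
  have haN : a ∈ N := by
    by_contra h'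
    exact ha (h a h')
  have hbM : b ∈ M := h b hb
  by_cases hab : a * b ∈ N
  · apply hb
    have : b = a⁻¹ * (a * b) := by group
    rw [this]
    exact N.mul_mem (N.inv_mem haN) hab
  · apply ha
    have h1 := h _ hab
    have : a = (a * b) * b⁻¹ := by group
    rw [this]
    exact M.mul_mem h1 (M.inv_mem hbM)

/-- **Common centre lemma.** Let `E` be an abelian essential subgroup, `Z ≤ E` of order `p`, and
`D ≤ S` a subgroup acting trivially on `Z` and on `E/Z`, such that every element of `E` is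
centralised by some element of `D` outside `E`. Then `Z` is `Aut_F(E)`-invariant. -/
theorem common_center_invariant [Finite S] (p : ℕ) [hp : Fact p.Prime] (hS : IsPGroup p S)
    (F : FusionSystem S) (hF : F.IsSaturated p) {E : Subgroup Ω} (hE : F.IsEssential p E)
    (hab : ∀ a ∈ E, ∀ b ∈ E, a * b = b * a) (Z : Subgroup Ω) (hZE : Z ≤ E)
    (hZcard : Nat.card Z = p) (D : Subgroup Ω) (hDS : D ≤ S)
    (h1 : ∀ d ∈ D, ∀ z ∈ Z, d * z * d⁻¹ = z)
    (h2 : ∀ d ∈ D, ∀ e ∈ E, e⁻¹ * (d * e * d⁻¹) ∈ Z)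
    (hex : ∀ z' ∈ E, ∃ s ∈ D, s ∉ E ∧ s * z' = z' * s) :
    ∀ α ∈ F.autGroup E, ∀ z : E, (z : Ω) ∈ Z → ((α z : E) : Ω) ∈ Z := by
  classical
  have hES := ess_le F hE
  have hcen := ess_centralizerIn_le F hE
  haveI : Finite E := fs_finite_of_le hES
  haveI : Finite Z := fs_finite_of_le (hZE.trans hES)
  obtain ⟨T₀, hT₀, M, hMtop, hMem⟩ := ess_sylow_data p hS F hF hE
  have habE : ∀ x y : E, x * y = y * x := fun x y => Subtype.ext (hab x x.2 y y.2)
  -- `D` normalises `E`
  have hDN : ∀ d ∈ D, d ∈ Subgroup.normalizer (E : Set Ω) := by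
    intro d hd
    have hfw : ∀ d ∈ D, ∀ e ∈ E, d * e * d⁻¹ ∈ E := by
      intro d hd e he
      have : d * e * d⁻¹ = e * (e⁻¹ * (d * e * d⁻¹)) := by group
      rw [this]
      exact E.mul_mem he (hZE (h2 d hd e he))
    rw [Subgroup.mem_normalizer_iff]
    intro e
    constructor
    · exact hfw d hd e
    · intro he
      have := hfw d⁻¹ (D.inv_mem hd) _ he
      have e1 : d⁻¹ * (d * e * d⁻¹) * d⁻¹⁻¹ = e := by group
      rw [e1] at this
      exact this
  -- the automorphism induced by an element of `D`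
  have hq : ∀ d ∈ D, ∃ q : F.autGroup E, q ∈ (T₀ : Subgroup (F.autGroup E)) ∧
      ∀ x : E, (((q : MulAut E) x : E) : Ω) = d * x * d⁻¹ := by
    intro d hd
    obtain ⟨q, hqdef⟩ : ∃ q : MulAut E, q = E.normalizerMonoidHom ⟨d, hDN d hd⟩ := ⟨_, rfl⟩
    have hqn : ∀ x : E, ((q x : E) : Ω) = d * x * d⁻¹ := by intro x; rw [hqdef]; rfl
    have hqS : q ∈ autInducedBy S E := by
      rw [mem_autInducedBy_iff]; exact ⟨d, hDS hd, hqn⟩
    have hqF : q ∈ F.autGroup E := autInducedBy_le_autGroup F hES hqS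
    refine ⟨⟨q, hqF⟩, ?_, hqn⟩
    rw [hT₀, Subgroup.mem_subgroupOf]
    exact hqS
  -- the stabiliser of `Z`
  set ZE : Subgroup E := Z.subgroupOf E with hZEdef
  have hZEcard : Nat.card ZE = p := by
    rw [hZEdef, ← hZcard]
    exact Nat.card_congr (Subgroup.subgroupOfEquivOfLe hZE).toEquiv
  haveI : Finite ZE := Nat.finite_of_card_ne_zero (by rw [hZEcard]; exact hp.out.ne_zero)
  let N : Subgroup (F.autGroup E) :=
    { carrier := {α | ZE.map (α : MulAut E).toMonoidHom = ZE}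
      one_mem' := by
        show ZE.map ((1 : F.autGroup E) : MulAut E).toMonoidHom = ZE
        ext x
        simp
      mul_mem' := by
        intro α β hα hβ
        show ZE.map ((α * β : F.autGroup E) : MulAut E).toMonoidHom = ZE
        have hα' : ZE.map (α : MulAut E).toMonoidHom = ZE := hα
        have hβ' : ZE.map (β : MulAut E).toMonoidHom = ZE := hβ
        have : ((α * β : F.autGroup E) : MulAut E).toMonoidHom =
            ((α : MulAut E).toMonoidHom).comp ((β : MulAut E).toMonoidHom) := by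
          ext x; rfl
        rw [this, ← Subgroup.map_map, hβ', hα']
      inv_mem' := by
        intro α hα
        show ZE.map ((α⁻¹ : F.autGroup E) : MulAut E).toMonoidHom = ZE
        have hα' : ZE.map (α : MulAut E).toMonoidHom = ZE := hα
        conv_lhs => rw [← hα']
        rw [Subgroup.map_map]
        have : (((α⁻¹ : F.autGroup E) : MulAut E).toMonoidHom).comp
            ((α : MulAut E).toMonoidHom) = MonoidHom.id E := by
          ext x
          show (((α⁻¹ : F.autGroup E) : MulAut E) ((α : MulAut E) x) : Ω) = x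
          rw [Subgroup.coe_inv, MulAut.inv_apply_self]
        rw [this, Subgroup.map_id] }
  have hNmem : ∀ α : F.autGroup E, α ∈ N ↔ ZE.map (α : MulAut E).toMonoidHom = ZE :=
    fun α => Iff.rfl
  suffices hNtop : N = ⊤ by
    intro α hα z hz
    have h3 : (⟨α, hα⟩ : F.autGroup E) ∈ N := by rw [hNtop]; trivial
    rw [hNmem] at h3
    have h4 : α z ∈ ZE.map (α : MulAut E).toMonoidHom :=
      ⟨z, Subgroup.mem_subgroupOf.mpr hz, rfl⟩
    rw [h3] at h4
    exact Subgroup.mem_subgroupOf.mp h4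
  apply eq_top_of_union M N hMtop
  intro g hgN
  -- some element of `Z` is moved out of `Z`
  have hmoved : ∃ z₀ : E, z₀ ∈ ZE ∧ (g : MulAut E) z₀ ∉ ZE := by
    by_contra hcon
    push Not at hcon
    apply hgN
    rw [hNmem]
    have hle : ZE.map (g : MulAut E).toMonoidHom ≤ ZE := by
      rintro _ ⟨z, hz, rfl⟩
      exact hcon z hz
    apply Subgroup.eq_of_le_of_card_ge hle
    rw [Subgroup.card_map_of_injective (g : MulAut E).injective]
  obtain ⟨z₀, hz₀, hgz₀⟩ := hmoved
  have hz₀1 : z₀ ≠ 1 := by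
    rintro rfl
    apply hgz₀
    rw [map_one]
    exact ZE.one_mem
  -- `Z` is generated by `z₀`
  have hZgen : ∀ w ∈ ZE, w ∈ Subgroup.zpowers z₀ := by
    have hle : Subgroup.zpowers z₀ ≤ ZE := by
      rw [Subgroup.zpowers_le]; exact hz₀
    have hcard : Nat.card (Subgroup.zpowers z₀) = p := by
      have h3 : Nat.card (Subgroup.zpowers z₀) ∣ p := by
        rw [← hZEcard]; exact Subgroup.card_dvd_of_le hle
      rcases (Nat.dvd_prime hp.out).mp h3 with h4 | h4
      · exfalso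
        apply hz₀1
        have := Subgroup.card_eq_one.mp h4
        exact Subgroup.zpowers_eq_bot.mp this
      · exact h4
    have heq : Subgroup.zpowers z₀ = ZE :=
      Subgroup.eq_of_le_of_card_ge hle (by rw [hcard, hZEcard])
    intro w hw
    rw [heq]; exact hw
  -- elements of `D` centralising `g z₀` and `g⁻¹ z₀`
  obtain ⟨s, hsD, hsE, hsc⟩ := hex ((g : MulAut E) z₀ : E) ((g : MulAut E) z₀).2
  obtain ⟨s₂, hs₂D, hs₂E, hs₂c⟩ := hex (((g : MulAut E)⁻¹ z₀ : E) : Ω) ((g : MulAut E)⁻¹ z₀).2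
  obtain ⟨t, htT, htn⟩ := hq s hsD
  obtain ⟨q₂, hq₂T, hq₂n⟩ := hq s₂ hs₂D
  have htI : (t : MulAut E) ∉ Inn E := fun h =>
    hsE (mem_of_induces_inner hcen h (hDS hsD) hES htn)
  have hq₂I : (q₂ : MulAut E) ∉ Inn E := fun h =>
    hs₂E (mem_of_induces_inner hcen h (hDS hs₂D) hES hq₂n)
  -- the commutation
  have hcomm : t * (g * q₂ * g⁻¹) = (g * q₂ * g⁻¹) * t := by
    apply Subtype.ext
    show (t : MulAut E) * ((g : MulAut E) * (q₂ : MulAut E) * ((g⁻¹ : F.autGroup E) : MulAut E)) =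
      ((g : MulAut E) * (q₂ : MulAut E) * ((g⁻¹ : F.autGroup E) : MulAut E)) * (t : MulAut E)
    rw [Subgroup.coe_inv]
    apply comm_of_transvections habE ZE (g : MulAut E) (t : MulAut E) (q₂ : MulAut E)
    · intro h
      rw [Subgroup.mem_subgroupOf]
      show ((h : Ω))⁻¹ * (((t : MulAut E) h : E) : Ω) ∈ Z
      rw [htn]
      exact h2 s hsD h h.2
    · intro w hw
      obtain ⟨k, rfl⟩ := Subgroup.mem_zpowers_iff.mp (hZgen w hw)
      apply Subtype.ext
      rw [htn, map_zpow, Subgroup.coe_zpow]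
      have hc : Commute s (((g : MulAut E) z₀ : E) : Ω) := hsc
      rw [(hc.zpow_right k).eq, mul_inv_cancel_right]
    · intro h
      rw [Subgroup.mem_subgroupOf]
      show ((h : Ω))⁻¹ * (((q₂ : MulAut E) h : E) : Ω) ∈ Z
      rw [hq₂n]
      exact h2 s₂ hs₂D h h.2
    · intro w hw
      obtain ⟨k, rfl⟩ := Subgroup.mem_zpowers_iff.mp (hZgen w hw)
      apply Subtype.ext
      rw [hq₂n, map_zpow, Subgroup.coe_zpow]
      have hc : Commute s₂ ((((g : MulAut E)⁻¹ z₀ : E)) : Ω) := hs₂c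
      rw [(hc.zpow_right k).eq, mul_inv_cancel_right]
  -- both lie in a common Sylow subgroup
  set t' : F.autGroup E := g * q₂ * g⁻¹ with ht'
  have hpt : IsPGroup p (Subgroup.zpowers t) := by
    apply IsPGroup.to_le T₀.2
    rw [Subgroup.zpowers_le]; exact htT
  have hpt' : IsPGroup p (Subgroup.zpowers t') := by
    have h3 : Subgroup.zpowers t' = (Subgroup.zpowers q₂).map (MulAut.conj g).toMonoidHom := by
      rw [MonoidHom.map_zpowers]
      rfl
    rw [h3]
    apply IsPGroup.map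
    apply IsPGroup.to_le T₀.2
    rw [Subgroup.zpowers_le]; exact hq₂T
  have hnorm : Subgroup.zpowers t ≤ Subgroup.normalizer ((Subgroup.zpowers t' : Subgroup _) :
      Set (F.autGroup E)) := by
    rw [Subgroup.zpowers_le, Subgroup.mem_normalizer_iff]
    intro h
    constructor
    · intro hh
      obtain ⟨k, rfl⟩ := Subgroup.mem_zpowers_iff.mp hh
      have hc : Commute t t' := hcomm
      have : t * t' ^ k * t⁻¹ = t' ^ k := by
        rw [(hc.zpow_right k).eq, mul_inv_cancel_right]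
      rw [this]
      exact Subgroup.zpow_mem_zpowers t' k
    · intro hh
      obtain ⟨k, hk⟩ := Subgroup.mem_zpowers_iff.mp hh
      have hc : Commute t t' := hcomm
      have h5 : h = t⁻¹ * (t' ^ k) * t := by rw [hk]; group
      have h6 : t⁻¹ * (t' ^ k) * t = t' ^ k := by
        have := (hc.zpow_right k).eq
        calc t⁻¹ * (t' ^ k) * t = t⁻¹ * (t' ^ k * t) := by group
          _ = t⁻¹ * (t * t' ^ k) := by rw [this]
          _ = t' ^ k := by group
      rw [h5, h6]
      exact Subgroup.zpow_mem_zpowers t' k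
  have hsup := IsPGroup.to_sup_of_normal_right' hpt hpt' hnorm
  obtain ⟨T₁, hT₁⟩ := hsup.exists_le_sylow
  obtain ⟨β, hβ⟩ := MulAction.exists_smul_eq (F.autGroup E) T₀ T₁
  have hmemT₁ : ∀ x : F.autGroup E, x ∈ T₁ → β⁻¹ * x * β ∈ (T₀ : Subgroup (F.autGroup E)) := by
    intro x hx
    rw [← hβ] at hx
    have hx' : x ∈ ((β • T₀ : Sylow p (F.autGroup E)) : Subgroup (F.autGroup E)) := hx
    rw [Sylow.coe_subgroup_smul] at hx'
    obtain ⟨y, hy, rfl⟩ := hx'
    have : β⁻¹ * (β * y * β⁻¹) * β = y := by group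
    show β⁻¹ * (β * y * β⁻¹) * β ∈ (T₀ : Subgroup (F.autGroup E))
    rw [this]
    exact hy
  haveI hInorm : ((Inn E).subgroupOf (F.autGroup E)).Normal := hE.2.2.1
  have hinn_conj : ∀ (x γ : F.autGroup E), (x : MulAut E) ∉ Inn E →
      ((γ * x * γ⁻¹ : F.autGroup E) : MulAut E) ∉ Inn E := by
    intro x γ hx hcon
    apply hx
    have h3 : γ * x * γ⁻¹ ∈ (Inn E).subgroupOf (F.autGroup E) := Subgroup.mem_subgroupOf.mpr hcon
    have h4 := hInorm.conj_mem _ h3 γ⁻¹
    have e1 : γ⁻¹ * (γ * x * γ⁻¹) * γ⁻¹⁻¹ = x := by group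
    rw [e1] at h4
    exact Subgroup.mem_subgroupOf.mp h4
  have htT₁ : t ∈ T₁ := hT₁ (Subgroup.mem_sup_left (Subgroup.mem_zpowers t))
  have ht'T₁ : t' ∈ T₁ := hT₁ (Subgroup.mem_sup_right (Subgroup.mem_zpowers t'))
  have hβM : β ∈ M := by
    apply hMem β (β⁻¹ * t * β) (hmemT₁ t htT₁)
    · have := hinn_conj t β⁻¹ htI
      rwa [inv_inv] at this
    · have e1 : β * (β⁻¹ * t * β) * β⁻¹ = t := by group
      rw [e1]
      exact htT
  have hβgM : β⁻¹ * g ∈ M := by
    apply hMem (β⁻¹ * g) q₂ hq₂T hq₂I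
    have e1 : β⁻¹ * g * q₂ * (β⁻¹ * g)⁻¹ = β⁻¹ * t' * β := by rw [ht']; group
    rw [e1]
    exact hmemT₁ t' ht'T₁
  have : g = β * (β⁻¹ * g) := by group
  rw [this]
  exact M.mul_mem hβM hβgM

end Cfsg.Agent.Lib.Helper9.H9EI
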