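import Mathlib
import Cfsg.Prelude
import Cfsg.Agent.Lib.Helper9.ExtraIdx1
import Cfsg.Agent.Lib.Helper9.AbIdx5

set_option autoImplicit false

/-!
# Essential subgroups acted on quadratically modulo a central subgroup of order `p`
-/

namespace Cfsg.Agent.Lib.Helper9.H9EI

open Cfsg Cfsg.FusionSystem Cfsg.Agent.Lib.Helper9 Cfsg.Agent.Lib.Helper9.H9AbIdx

variable {Ω : Type*} [Group Ω] {S : Subgroup Ω}

theorem comm_of_card_prime {p : ℕ} [hp : Fact p.Prime] (Z : Subgroup Ω) (hZcard : Nat.card Z = p) :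
    ∀ a ∈ Z, ∀ b ∈ Z, a * b = b * a := by
  haveI : IsCyclic Z := isCyclic_of_prime_card hZcard
  letI := IsCyclic.commGroup (α := Z)
  intro a ha b hb
  exact congrArg Subtype.val (mul_comm (⟨a, ha⟩ : Z) ⟨b, hb⟩)

/-- if `D` centralises `Z` of order `p` and `[D, z'] ⊆ Z`, then `|D : C_D(z')|` divides `p` -/
theorem relIndex_centralizer_dvd {p : ℕ} [hp : Fact p.Prime] (D Z : Subgroup Ω)
    (hZcard : Nat.card Z = p)
    (h1 : ∀ d ∈ D, ∀ z ∈ Z, d * z * d⁻¹ = z) (z' : Ω)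
    (h2 : ∀ d ∈ D, d * z' * d⁻¹ * z'⁻¹ ∈ Z) :
    (D ⊓ Subgroup.centralizer {z'}).relIndex D ∣ p := by
  have hZc := comm_of_card_prime Z hZcard
  haveI : Finite Z := Nat.finite_of_card_ne_zero (by rw [hZcard]; exact hp.out.ne_zero)
  let ψ : D →* Z := MonoidHom.mk' (fun d => ⟨(d : Ω) * z' * (d : Ω)⁻¹ * z'⁻¹, h2 d d.2⟩) (by
    intro d₁ d₂
    apply Subtype.ext
    show ((d₁ * d₂ : D) : Ω) * z' * ((d₁ * d₂ : D) : Ω)⁻¹ * z'⁻¹ =
      ((d₁ : Ω) * z' * (d₁ : Ω)⁻¹ * z'⁻¹) * ((d₂ : Ω) * z' * (d₂ : Ω)⁻¹ * z'⁻¹)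
    obtain ⟨c, hc⟩ : ∃ c, c = (d₂ : Ω) * z' * (d₂ : Ω)⁻¹ * z'⁻¹ := ⟨_, rfl⟩
    have hcZ : c ∈ Z := by rw [hc]; exact h2 d₂ d₂.2
    have e1 : ((d₁ * d₂ : D) : Ω) * z' * ((d₁ * d₂ : D) : Ω)⁻¹ * z'⁻¹ =
        ((d₁ : Ω) * c * (d₁ : Ω)⁻¹) * ((d₁ : Ω) * z' * (d₁ : Ω)⁻¹ * z'⁻¹) := by
      rw [hc, Subgroup.coe_mul]; group
    rw [e1, h1 d₁ d₁.2 c hcZ, hZc c hcZ _ (h2 d₁ d₁.2), hc])
  have hker : (D ⊓ Subgroup.centralizer {z'}).subgroupOf D = ψ.ker := by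
    ext d
    rw [Subgroup.mem_subgroupOf, MonoidHom.mem_ker, Subgroup.mem_inf, Subgroup.mem_centralizer_iff]
    constructor
    · rintro ⟨-, h⟩
      apply Subtype.ext
      show (d : Ω) * z' * (d : Ω)⁻¹ * z'⁻¹ = 1
      have h3 := h z' (Set.mem_singleton z')
      rw [← h3]; group
    · intro h
      refine ⟨d.2, fun y hy => ?_⟩
      rw [Set.mem_singleton_iff] at hy
      subst hy
      have h3 : (d : Ω) * y * (d : Ω)⁻¹ * y⁻¹ = 1 := congrArg Subtype.val h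
      calc y * (d : Ω) = ((d : Ω) * y * (d : Ω)⁻¹ * y⁻¹)⁻¹ * ((d : Ω) * y) := by group
        _ = (d : Ω) * y := by rw [h3, inv_one, one_mul]
  show ((D ⊓ Subgroup.centralizer {z'}).subgroupOf D).index ∣ p
  rw [hker, Subgroup.index_ker, ← hZcard]
  exact Subgroup.card_subgroup_dvd_card _

/-- in a `p`-group `S` with an abelian subgroup `A` of index `p` and all commutators in a central
subgroup of order `p`, the centre has index `p²` -/
theorem Ctx.relIndex_ZS [Finite S] {p : ℕ} [hp : Fact p.Prime] {A : Subgroup Ω} (C : Ctx p S A)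
    (Z : Subgroup Ω) (hZcard : Nat.card Z = p)
    (h1 : ∀ s ∈ S, ∀ z ∈ Z, s * z * s⁻¹ = z)
    (h2 : ∀ s ∈ S, ∀ t ∈ S, s * t * s⁻¹ * t⁻¹ ∈ Z) :
    (ZS S).relIndex S = p ^ 2 := by
  obtain ⟨x, hxS, hxA⟩ : ∃ x ∈ S, x ∉ A := by
    by_contra hcon
    push Not at hcon
    have h3 : A.relIndex S = 1 := Subgroup.relIndex_eq_one.mpr hcon
    rw [C.hidx] at h3
    exact hp.out.one_lt.ne' h3
  have hZA : ZS S ≤ A := C.ZS_le_A
  have heq : A ⊓ Subgroup.centralizer {x} = ZS S := by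
    apply le_antisymm
    · intro a ha
      obtain ⟨haA, hax⟩ := Subgroup.mem_inf.mp ha
      rw [Subgroup.mem_centralizer_iff] at hax
      exact C.mem_ZS_of_comm hxS hxA haA (hax x (Set.mem_singleton x)).symm
    · intro z hz
      refine Subgroup.mem_inf.mpr ⟨hZA hz, ?_⟩
      rw [Subgroup.mem_centralizer_iff]
      intro y hy
      rw [Set.mem_singleton_iff] at hy
      subst hy
      exact (mem_ZS_iff.mp hz).2 y hxS
  have hdvd : (ZS S).relIndex A ∣ p := by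
    rw [← heq]
    exact relIndex_centralizer_dvd A Z hZcard (fun d hd => h1 d (C.hAS hd)) x
      (fun d hd => h2 d (C.hAS hd) x hxS)
  have hne1 : (ZS S).relIndex A ≠ 1 := by
    intro h
    have hAZ : A ≤ ZS S := Subgroup.relIndex_eq_one.mp h
    obtain ⟨s, hs, t, ht, hst⟩ := C.hna
    apply hst
    obtain ⟨k, a, ha, rfl⟩ := C.exists_decomp hxS hxA hs
    obtain ⟨l, b, hb, rfl⟩ := C.exists_decomp hxS hxA ht
    have haZ := mem_ZS_iff.mp (hAZ ha)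
    have hbZ := mem_ZS_iff.mp (hAZ hb)
    have hxk : ∀ m : ℤ, x ^ m ∈ S := fun m => S.zpow_mem hxS m
    have e1 : x ^ l * a = a * x ^ l := haZ.2 _ (hxk l)
    have e2 : x ^ k * b = b * x ^ k := hbZ.2 _ (hxk k)
    have e3 : a * b = b * a := C.hcomm a ha b hb
    have e4 : x ^ k * x ^ l = x ^ l * x ^ k := by rw [← zpow_add, ← zpow_add, add_comm]
    calc x ^ k * a * (x ^ l * b) = x ^ k * (a * x ^ l) * b := by group
      _ = x ^ k * (x ^ l * a) * b := by rw [e1]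
      _ = (x ^ k * x ^ l) * (a * b) := by group
      _ = (x ^ l * x ^ k) * (b * a) := by rw [e4, e3]
      _ = x ^ l * (x ^ k * b) * a := by group
      _ = x ^ l * (b * x ^ k) * a := by rw [e2]
      _ = x ^ l * b * (x ^ k * a) := by group
  have hp' : (ZS S).relIndex A = p := by
    rcases (Nat.dvd_prime hp.out).mp hdvd with h | h
    · exact absurd h hne1
    · exact h
  have := Subgroup.relIndex_mul_relIndex (ZS S) A S hZA C.hAS
  rw [← this, hp', C.hidx, sq]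

/-- a nonabelian group all of whose commutators lie in a subgroup `Z` of prime order: `Z` is
characteristic -/
theorem invariant_of_nonabelian {p : ℕ} [hp : Fact p.Prime] {E : Subgroup Ω} (Z : Subgroup Ω)
    (hZcard : Nat.card Z = p) (hna : ∃ a ∈ E, ∃ b ∈ E, a * b ≠ b * a)
    (h2 : ∀ d ∈ E, ∀ e ∈ E, d * e * d⁻¹ * e⁻¹ ∈ Z) :
    ∀ α : MulAut E, ∀ z : E, (z : Ω) ∈ Z → ((α z : E) : Ω) ∈ Z := by
  obtain ⟨a, ha, b, hb, hab⟩ := hna
  intro α z hz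
  obtain ⟨c, hc⟩ : ∃ c, c = a * b * a⁻¹ * b⁻¹ := ⟨_, rfl⟩
  have hcZ : c ∈ Z := by rw [hc]; exact h2 a ha b hb
  have hc1 : (⟨c, hcZ⟩ : Z) ≠ 1 := by
    intro h
    have h3 : c = 1 := congrArg Subtype.val h
    apply hab
    calc a * b = (a * b * a⁻¹ * b⁻¹) * (b * a) := by group
      _ = b * a := by rw [← hc, h3, one_mul]
  have hmem : (⟨(z : Ω), hz⟩ : Z) ∈ Subgroup.zpowers (⟨c, hcZ⟩ : Z) :=
    mem_zpowers_of_prime_card hZcard hc1
  obtain ⟨k, hk⟩ := Subgroup.mem_zpowers_iff.mp hmem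
  have hk' : c ^ k = (z : Ω) := by
    have := congrArg Subtype.val hk
    simpa using this
  have hz' : z = (⟨a, ha⟩ * ⟨b, hb⟩ * (⟨a, ha⟩ : E)⁻¹ * (⟨b, hb⟩ : E)⁻¹) ^ k := by
    apply Subtype.ext
    rw [← hk', hc]
    simp
  rw [hz', map_zpow, Subgroup.coe_zpow]
  apply Z.zpow_mem
  rw [map_mul, map_mul, map_mul, map_inv, map_inv]
  exact h2 _ (α ⟨a, ha⟩).2 _ (α ⟨b, hb⟩).2

end Cfsg.Agent.Lib.Helper9.H9EI
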