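import Mathlib
import Cfsg.Prelude
import Cfsg.Agent.Lib.Helper9.ExtraIdx2

set_option autoImplicit false

/-!
# Dichotomy for essential subgroups acted on quadratically modulo a central subgroup of order `p`
-/

namespace Cfsg.Agent.Lib.Helper9.H9EI

open Cfsg Cfsg.FusionSystem Cfsg.Agent.Lib.Helper9 Cfsg.Agent.Lib.Helper9.H9AbIdx

variable {Ω : Type*} [Group Ω] {S : Subgroup Ω}

/-- Let `E` be essential, `Z ≤ E ≤ D ≤ S` with `|Z| = p`, `[D, Z] = 1` and `[D, E] ≤ Z`. Then
`D = E`, or `E` is abelian of index `p` in `D`. -/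
theorem ess_dichotomy [Finite S] (p : ℕ) [hp : Fact p.Prime] (hS : IsPGroup p S)
    (F : FusionSystem S) (hF : F.IsSaturated p) {E : Subgroup Ω} (hE : F.IsEssential p E)
    (Z : Subgroup Ω) (hZE : Z ≤ E) (hZcard : Nat.card Z = p) (D : Subgroup Ω) (hED : E ≤ D)
    (hDS : D ≤ S)
    (h1 : ∀ d ∈ D, ∀ z ∈ Z, d * z * d⁻¹ = z)
    (h2 : ∀ d ∈ D, ∀ e ∈ E, e⁻¹ * (d * e * d⁻¹) ∈ Z) :
    D ≤ E ∨ ((∀ a ∈ E, ∀ b ∈ E, a * b = b * a) ∧ E.relIndex D = p) := by
  have hconj : ∀ d ∈ D, ∀ e ∈ E, d * e * d⁻¹ ∈ E := by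
    intro d hd e he
    have h3 : d * e * d⁻¹ = e * (e⁻¹ * (d * e * d⁻¹)) := by group
    rw [h3]
    exact E.mul_mem he (hZE (h2 d hd e he))
  have hnorm : ∀ d ∈ D, d ∈ Subgroup.normalizer (E : Set Ω) := by
    intro d hd
    rw [Subgroup.mem_normalizer_iff]
    intro e
    constructor
    · exact hconj d hd e
    · intro h
      have h3 := hconj d⁻¹ (D.inv_mem hd) _ h
      have h4 : d⁻¹ * (d * e * d⁻¹) * d⁻¹⁻¹ = e := by group
      rw [h4] at h3
      exact h3
  have hconv : ∀ d ∈ D, ∀ e ∈ E, d * e * d⁻¹ * e⁻¹ ∈ Z := by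
    intro d hd e he
    have hc := h2 d hd e he
    have h3 := h1 e (hED he) _ hc
    have h4 : d * e * d⁻¹ * e⁻¹ = e * (e⁻¹ * (d * e * d⁻¹)) * e⁻¹ := by group
    rw [h4, h3]
    exact hc
  have key : (∀ α ∈ F.autGroup E, ∀ w : E, (w : Ω) ∈ Z → ((α w : E) : Ω) ∈ Z) → D ≤ E := by
    intro hWinv n hn
    exact ess_rad p hS F hE Z hWinv (hDS hn) (hnorm n hn) (fun w hw _ => h1 n hn w hw)
      (fun g hg => h2 n hn g hg)
  by_cases hab : ∀ a ∈ E, ∀ b ∈ E, a * b = b * a
  · by_cases hidx : E.relIndex D ∣ p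
    · rcases (Nat.dvd_prime hp.out).mp hidx with h | h
      · left
        exact Subgroup.relIndex_eq_one.mp h
      · right
        exact ⟨hab, h⟩
    · left
      apply key
      apply common_center_invariant p hS F hF hE hab Z hZE hZcard D hDS h1 h2
      intro z' hz'
      by_contra hcon
      push Not at hcon
      apply hidx
      have heq : D ⊓ Subgroup.centralizer {z'} = E := by
        apply le_antisymm
        · intro s hs
          obtain ⟨hsD, hsz⟩ := Subgroup.mem_inf.mp hs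
          rw [Subgroup.mem_centralizer_iff] at hsz
          by_contra hsE
          exact hcon s hsD hsE (hsz z' (Set.mem_singleton z')).symm
        · intro e he
          refine Subgroup.mem_inf.mpr ⟨hED he, ?_⟩
          rw [Subgroup.mem_centralizer_iff]
          intro y hy
          rw [Set.mem_singleton_iff] at hy
          subst hy
          exact hab y hz' e he
      rw [← heq]
      exact relIndex_centralizer_dvd D Z hZcard h1 z' (fun d hd => hconv d hd z' hz')
  · left
    apply key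
    push Not at hab
    intro α _
    exact invariant_of_nonabelian Z hZcard hab (fun d hd e he => hconv d (hED hd) e he) α

end Cfsg.Agent.Lib.Helper9.H9EI
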