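import Mathlib
import Cfsg.Prelude
import Cfsg.Agent.Lib.Helper9.ExtraIdx3
import Cfsg.Agent.Lib.Helper9.C2a
import Cfsg.Agent.Lib.Lead.CyclicMax
import Cfsg.Agent.Lib.Lead.ExtraspecialCentral

set_option autoImplicit false

/-!
# `p`-groups with an extraspecial subgroup of index `p`: basic facts
-/

namespace Cfsg.Agent.Lib.Helper9.H9EI

open Cfsg Cfsg.FusionSystem Cfsg.Agent.Lib.Helper9 Cfsg.Agent.Lib.Helper9.H9AbIdx
open Cfsg.Agent.Lib.Helper9.H9C2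
open scoped commutatorElement

variable {Ω : Type*} [Group Ω] {S : Subgroup Ω}

/-- the standing assumptions -/
structure EI (p : ℕ) (S Q : Subgroup Ω) : Prop where
  hS : IsPGroup p S
  hQS : Q ≤ S
  hQ : Cfsg.IsExtraspecial p ↥Q
  hidx : (Q.subgroupOf S).index = p

namespace EI

variable {p : ℕ} [hp : Fact p.Prime] {Q : Subgroup Ω}

theorem card_ZS (C : EI p S Q) : Nat.card (ZS Q) = p := by
  have h1 : ZS Q = (Subgroup.center Q).map Q.subtype :=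
    (Cfsg.Agent.Lib.Lead.center_map_subtype_eq Q).symm
  rw [h1, Subgroup.card_map_of_injective Q.subtype_injective]
  exact C.hQ.2

theorem relIndex (C : EI p S Q) : Q.relIndex S = p := C.hidx

theorem normal [Finite S] (C : EI p S Q) {s q : Ω} (hs : s ∈ S) (hq : q ∈ Q) :
    s * q * s⁻¹ ∈ Q := by
  have hn : (Q.subgroupOf S).Normal :=
    Cfsg.Agent.Lib.Lead.normal_of_index_eq_p C.hS _ C.hidx
  have h1 : (⟨q, C.hQS hq⟩ : S) ∈ Q.subgroupOf S := by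
    rw [Subgroup.mem_subgroupOf]; exact hq
  have h2 := hn.conj_mem _ h1 ⟨s, hs⟩
  rw [Subgroup.mem_subgroupOf] at h2
  exact h2

theorem comm_mem (C : EI p S Q) {a b : Ω} (ha : a ∈ Q) (hb : b ∈ Q) :
    a * b * a⁻¹ * b⁻¹ ∈ ZS Q := by
  have h1 : ⁅(⟨a, ha⟩ : Q), ⟨b, hb⟩⁆ ∈ commutator Q := by
    rw [commutator_def]
    exact Subgroup.commutator_mem_commutator (Subgroup.mem_top _) (Subgroup.mem_top _)
  rw [C.hQ.1.2.2, ← ZS_subgroupOf, Subgroup.mem_subgroupOf] at h1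
  have h2 : ((⁅(⟨a, ha⟩ : Q), ⟨b, hb⟩⁆ : Q) : Ω) = a * b * a⁻¹ * b⁻¹ := by
    rw [commutatorElement_def]
    simp
  rw [h2] at h1
  exact h1

theorem hna (C : EI p S Q) : ∃ a ∈ Q, ∃ b ∈ Q, a * b ≠ b * a := by
  by_contra hcon
  push Not at hcon
  have h1 : commutator Q = ⊥ := by
    rw [commutator_def, eq_bot_iff, Subgroup.commutator_le]
    intro g₁ _ g₂ _
    rw [Subgroup.mem_bot, commutatorElement_def]
    have h2 : g₁ * g₂ = g₂ * g₁ := Subtype.ext (hcon g₁ g₁.2 g₂ g₂.2)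
    rw [h2]; group
  have h2 := C.hQ.2
  rw [← C.hQ.1.2.2, h1, Subgroup.card_bot] at h2
  exact hp.out.one_lt.ne h2

theorem ZS_conj [Finite S] (C : EI p S Q) {s z : Ω} (hs : s ∈ S) (hz : z ∈ ZS Q) :
    s * z * s⁻¹ ∈ ZS Q := by
  obtain ⟨hzQ, hz2⟩ := mem_ZS_iff.mp hz
  rw [mem_ZS_iff]
  refine ⟨C.normal hs hzQ, fun q hq => ?_⟩
  have h1 : s⁻¹ * q * s⁻¹⁻¹ ∈ Q := C.normal (S.inv_mem hs) hq
  have h2 := hz2 _ h1
  calc q * (s * z * s⁻¹) = s * ((s⁻¹ * q * s⁻¹⁻¹) * z) * s⁻¹ := by group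
    _ = s * (z * (s⁻¹ * q * s⁻¹⁻¹)) * s⁻¹ := by rw [h2]
    _ = s * z * s⁻¹ * q := by group

theorem ZS_le_ZS [Finite S] (C : EI p S Q) : ZS Q ≤ ZS S := by
  have hZS : ZS Q ≤ S := (ZS_le Q).trans C.hQS
  haveI hn : ((ZS Q).subgroupOf S).Normal := by
    refine ⟨fun z hz s => ?_⟩
    rw [Subgroup.mem_subgroupOf] at hz ⊢
    exact C.ZS_conj s.2 hz
  have hcard : Nat.card ((ZS Q).subgroupOf S) = p := by
    rw [Nat.card_congr (Subgroup.subgroupOfEquivOfLe hZS).toEquiv]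
    exact C.card_ZS
  have h1 := Cfsg.Agent.Lib.Lead.le_center_of_normal_of_card_prime C.hS _ hcard
  rw [← ZS_subgroupOf] at h1
  intro z hz
  have h2 : (⟨z, hZS hz⟩ : S) ∈ (ZS Q).subgroupOf S := by
    rw [Subgroup.mem_subgroupOf]; exact hz
  have h3 := h1 h2
  rw [Subgroup.mem_subgroupOf] at h3
  exact h3

/-- `Q` centralises its centre, in conjugation form -/
theorem conj_ZS (C : EI p S Q) {q z : Ω} (hq : q ∈ Q) (hz : z ∈ ZS Q) : q * z * q⁻¹ = z := by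
  have h := (mem_ZS_iff.mp hz).2 q hq
  rw [h]; group

theorem conj_ZS' [Finite S] (C : EI p S Q) {s z : Ω} (hs : s ∈ S) (hz : z ∈ ZS Q) :
    s * z * s⁻¹ = z := by
  have h := (mem_ZS_iff.mp (C.ZS_le_ZS hz)).2 s hs
  rw [h]; group

theorem card_S [Finite S] (C : EI p S Q) : Nat.card S = Nat.card Q * p := by
  have h := Subgroup.card_mul_index (Q.subgroupOf S)
  rw [C.hidx, Nat.card_congr (Subgroup.subgroupOfEquivOfLe C.hQS).toEquiv] at h
  exact h.symm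

end EI

end Cfsg.Agent.Lib.Helper9.H9EI
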