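import Mathlib
import Cfsg.Prelude
import Cfsg.Agent.Lib.Helper9.ExtraIdx4

set_option autoImplicit false

/-!
# `p`-groups with an extraspecial subgroup of index `p`: decomposition
-/

namespace Cfsg.Agent.Lib.Helper9.H9EI

open Cfsg Cfsg.FusionSystem Cfsg.Agent.Lib.Helper9 Cfsg.Agent.Lib.Helper9.H9AbIdx
open Cfsg.Agent.Lib.Helper9.H9C2

variable {Ω : Type*} [Group Ω] {S : Subgroup Ω}

namespace EI

variable {p : ℕ} [hp : Fact p.Prime] {Q : Subgroup Ω}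

theorem zpowers_le_normalizer [Finite S] (C : EI p S Q) {x : Ω} (hx : x ∈ S) :
    Subgroup.zpowers x ≤ Subgroup.normalizer (Q : Set Ω) := by
  rw [Subgroup.zpowers_le, Subgroup.mem_normalizer_iff]
  intro h
  constructor
  · intro hh
    exact C.normal hx hh
  · intro hh
    have := C.normal (S.inv_mem hx) hh
    have h2 : x⁻¹ * (x * h * x⁻¹) * x⁻¹⁻¹ = h := by group
    rwa [h2] at this

/-- every element of `S` is `x ^ k * a` with `a ∈ Q`, for any fixed `x ∈ S ∖ Q` -/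
theorem exists_decomp [Finite S] (C : EI p S Q) {x : Ω} (hx : x ∈ S) (hxQ : x ∉ Q) {s : Ω}
    (hs : s ∈ S) : ∃ k : ℤ, ∃ a ∈ Q, s = x ^ k * a := by
  have h1 := Subgroup.coe_mul_of_left_le_normalizer_right (Subgroup.zpowers x) Q
    (C.zpowers_le_normalizer hx)
  have h2 : s ∈ ((Subgroup.zpowers x ⊔ Q : Subgroup Ω) : Set Ω) := by
    rw [sup_comm, sup_zpowers_of_prime_relIndex C.hQS C.relIndex hx hxQ]
    exact hs
  rw [h1, Set.mem_mul] at h2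
  obtain ⟨y, hy, a, ha, rfl⟩ := h2
  obtain ⟨k, rfl⟩ := Subgroup.mem_zpowers_iff.mp hy
  exact ⟨k, a, ha, rfl⟩

/-- if `Z(S) ≰ Q` then all commutators of `S` lie in `Z(Q)` -/
theorem comm_mem_of_central [Finite S] (C : EI p S Q) {w : Ω} (hw : w ∈ ZS S) (hwQ : w ∉ Q)
    {s x : Ω} (hs : s ∈ S) (hx : x ∈ S) : x⁻¹ * (s * x * s⁻¹) ∈ ZS Q := by
  have hwS := ZS_le S hw
  obtain ⟨k, a, ha, rfl⟩ := C.exists_decomp hwS hwQ hs
  obtain ⟨l, b, hb, rfl⟩ := C.exists_decomp hwS hwQ hx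
  have hc : ∀ m : ℤ, ∀ y ∈ S, y * w ^ m = w ^ m * y := fun m y hy =>
    (mem_ZS_iff.mp ((ZS S).zpow_mem hw m)).2 y hy
  have haS := C.hQS ha
  have hbS := C.hQS hb
  have e1 : a * w ^ l = w ^ l * a := hc l a haS
  have e2 : (a * b * a⁻¹) * w ^ k = w ^ k * (a * b * a⁻¹) :=
    hc k _ (S.mul_mem (S.mul_mem haS hbS) (S.inv_mem haS))
  have h3 : (w ^ l * b)⁻¹ * (w ^ k * a * (w ^ l * b) * (w ^ k * a)⁻¹) = b⁻¹ * a * b⁻¹⁻¹ * a⁻¹ := by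
    calc (w ^ l * b)⁻¹ * (w ^ k * a * (w ^ l * b) * (w ^ k * a)⁻¹)
        = b⁻¹ * (w ^ l)⁻¹ * (w ^ k * (a * w ^ l) * b * a⁻¹ * (w ^ k)⁻¹) := by group
      _ = b⁻¹ * (w ^ l)⁻¹ * (w ^ k * (w ^ l * a) * b * a⁻¹ * (w ^ k)⁻¹) := by rw [e1]
      _ = b⁻¹ * (w ^ l)⁻¹ * (w ^ k * w ^ l * (w ^ k)⁻¹) * (w ^ k * (a * b * a⁻¹)) * (w ^ k)⁻¹ := by
        group
      _ = b⁻¹ * (w ^ l)⁻¹ * (w ^ k * w ^ l * (w ^ k)⁻¹) * ((a * b * a⁻¹) * w ^ k) * (w ^ k)⁻¹ := by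
        rw [e2]
      _ = b⁻¹ * a * b⁻¹⁻¹ * a⁻¹ := by
        have e3 : w ^ k * w ^ l * (w ^ k)⁻¹ = w ^ l := by
          rw [← zpow_add, ← zpow_neg, ← zpow_add]; congr 1; ring
        rw [e3]; group
  rw [h3]
  exact C.comm_mem (Q.inv_mem hb) ha

end EI

end Cfsg.Agent.Lib.Helper9.H9EI
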