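import Mathlib
import Cfsg.Prelude
import Cfsg.Agent.Lib.Helper3.FESp0
import Cfsg.Agent.Lib.Helper9.GUSp_H

set_option autoImplicit false

/-! S5975 FE-G: a self-adjoint quadratic field subalgebra of the `4 × 4` matrices is
`Sp_4`-conjugate to `F[stdJ ε]`. -/

namespace Cfsg.Agent.Lib.Helper3.FESp

open Module Matrix Polynomial
open Cfsg.Agent.Lib.Helper9.H9AltForm Cfsg.Agent.Lib.Helper9.H9TK Cfsg.Agent.Lib.Helper2.SpIsom
  Cfsg.Agent.Lib.Helper3.GUSp

/-- two hyperbolic families of full size are related by an isometry matching them -/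
theorem feG_glue {F : Type*} [Field F] {V : Type*} [AddCommGroup V] [Module F V]
    [FiniteDimensional F V] {W : Type*} [AddCommGroup W] [Module F W] [FiniteDimensional F W]
    {B : LinearMap.BilinForm F V} {B' : LinearMap.BilinForm F W}
    (hB : B.IsAlt) (hB' : B'.IsAlt) {n : ℕ} (hV : finrank F V = 2 * n)
    (hW : finrank F W = 2 * n) {e f : Fin n → V} {w w' : Fin n → W} (h : AltFam B e f)
    (h' : AltFam B' w w') :
    ∃ Ψ : V ≃ₗ[F] W, (∀ u v, B u v = B' (Ψ u) (Ψ v)) ∧ (∀ k, Ψ (e k) = w k) ∧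
      (∀ k, Ψ (f k) = w' k) ∧ Submodule.span F (Set.range (Sum.elim e f)) = ⊤ := by
  classical
  have hliV := h.linearIndependent hB
  have hliW := h'.linearIndependent hB'
  have hcardV : Fintype.card (Fin n ⊕ Fin n) = finrank F V := by
    rw [Fintype.card_sum, Fintype.card_fin, hV]
    ring
  have hcardW : Fintype.card (Fin n ⊕ Fin n) = finrank F W := by
    rw [Fintype.card_sum, Fintype.card_fin, hW]
    ring
  have hspanV : ⊤ ≤ Submodule.span F (Set.range (Sum.elim e f)) := by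
    rw [hliV.span_eq_top_of_card_eq_finrank' hcardV]
  have hspanW : ⊤ ≤ Submodule.span F (Set.range (Sum.elim w w')) := by
    rw [hliW.span_eq_top_of_card_eq_finrank' hcardW]
  let bV : Basis (Fin n ⊕ Fin n) F V := Basis.mk hliV hspanV
  let bW : Basis (Fin n ⊕ Fin n) F W := Basis.mk hliW hspanW
  have hbV : ∀ s, bV s = Sum.elim e f s := fun s => by
    rw [Basis.coe_mk]
  have hbW : ∀ s, bW s = Sum.elim w w' s := fun s => by
    rw [Basis.coe_mk]
  let Ψ : V ≃ₗ[F] W := bV.equiv bW (Equiv.refl _)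
  have hΨ : ∀ s, Ψ (bV s) = bW s := fun s => by
    rw [Basis.equiv_apply]
    rfl
  have hΨe : ∀ k, Ψ (e k) = w k := fun k => by
    have := hΨ (Sum.inl k)
    rwa [hbV, hbW] at this
  have hΨf : ∀ k, Ψ (f k) = w' k := fun k => by
    have := hΨ (Sum.inr k)
    rwa [hbV, hbW] at this
  refine ⟨Ψ, ?_, hΨe, hΨf, top_le_iff.1 hspanV⟩
  have key : B'.compl₁₂ (Ψ : V →ₗ[F] W) (Ψ : V →ₗ[F] W) = B := by
    apply LinearMap.ext_basis bV bV
    intro i j
    rw [LinearMap.compl₁₂_apply, LinearEquiv.coe_coe, hbV, hbV]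
    rcases i with i | i <;> rcases j with j | j <;>
      simp only [Sum.elim_inl, Sum.elim_inr, hΨe, hΨf]
    · rw [h.ee, h'.ee]
    · rw [h.ef, h'.ef]
    · rw [h.fe hB, h'.fe hB']
    · rw [h.ff, h'.ff]
  intro u v
  rw [← key]
  rfl

/-! ### FE-G -/
theorem exists_std_form_two {F : Type*} [Field F] (h2 : (2 : F) ≠ 0)
    (K : Subalgebra F (Matrix (Fin 2 ⊕ Fin 2) (Fin 2 ⊕ Fin 2) F))
    (hK : Cfsg.Geo.IsFieldSubalgebra 2 K)
    (hKf : Cfsg.Geo.IsSelfAdjointFor (Cfsg.sympForm 2 F) K) :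
    ∃ (Jm : Matrix (Fin 2 ⊕ Fin 2) (Fin 2 ⊕ Fin 2) F) (ε : F), ε ≠ 0 ∧ Jm ∈ K ∧
      (∀ a ∈ K, ∃ α β : F, a = α • (1 : Matrix (Fin 2 ⊕ Fin 2) (Fin 2 ⊕ Fin 2) F) + β • Jm) ∧
      ∃ g ∈ Cfsg.spGL 2 F, (g : Matrix (Fin 2 ⊕ Fin 2) (Fin 2 ⊕ Fin 2) F) * Jm =
        stdJ ε * (g : Matrix (Fin 2 ⊕ Fin 2) (Fin 2 ⊕ Fin 2) F) := by
  classical
  -- a generator
  have h1K : (1 : K) ≠ 0 := by
    intro h
    have h3 := congrArg Subtype.val h
    have h4 := congrFun (congrFun h3 (Sum.inl 0)) (Sum.inl 0)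
    simp at h4
  obtain ⟨θ, hθ⟩ := exists_linearIndependent_pair_of_one_lt_finrank
    (by rw [hK.finrank_eq]; norm_num) h1K
  have hθ' := LinearIndependent.pair_iff.1 hθ
  set b : Basis (Fin 2) F K := basisOfLinearIndependentOfCardEqFinrank hθ
    (by rw [Fintype.card_fin, hK.finrank_eq]) with hb
  have hb0 : b 0 = 1 := by rw [hb, coe_basisOfLinearIndependentOfCardEqFinrank]; rfl
  have hb1 : b 1 = θ := by rw [hb, coe_basisOfLinearIndependentOfCardEqFinrank]; rfl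
  have hdec : ∀ a ∈ K, ∃ α β : F, a = α • (1 : Matrix (Fin 2 ⊕ Fin 2) (Fin 2 ⊕ Fin 2) F) +
      β • (θ : Matrix (Fin 2 ⊕ Fin 2) (Fin 2 ⊕ Fin 2) F) := by
    intro a ha
    refine ⟨b.repr ⟨a, ha⟩ 0, b.repr ⟨a, ha⟩ 1, ?_⟩
    have h3 := b.sum_repr ⟨a, ha⟩
    rw [Fin.sum_univ_two, hb0, hb1] at h3
    have h4 := congrArg Subtype.val h3
    simpa using h4.symm
  obtain ⟨t, s', hts'⟩ := hdec _ (K.mul_mem θ.2 θ.2)
  obtain ⟨s, hs⟩ : ∃ s : F, s' = s + s := ⟨s' / 2, by field_simp; ring⟩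
  have hts : (θ : Matrix (Fin 2 ⊕ Fin 2) (Fin 2 ⊕ Fin 2) F) * θ =
      t • (1 : Matrix (Fin 2 ⊕ Fin 2) (Fin 2 ⊕ Fin 2) F) + (s + s) • θ := by rw [hts', hs]
  set j : Matrix (Fin 2 ⊕ Fin 2) (Fin 2 ⊕ Fin 2) F :=
    (θ : Matrix (Fin 2 ⊕ Fin 2) (Fin 2 ⊕ Fin 2) F) - s • 1 with hj
  set ε : F := t + s ^ 2 with hε
  have hjK : j ∈ K := K.sub_mem θ.2 (K.smul_mem K.one_mem _)
  have hjj : j * j = ε • (1 : Matrix (Fin 2 ⊕ Fin 2) (Fin 2 ⊕ Fin 2) F) := by
    rw [hj, sub_mul, mul_sub, mul_sub, hts]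
    simp only [Matrix.smul_mul, Matrix.mul_smul, Matrix.one_mul, Matrix.mul_one]
    rw [hε]
    module
  have hjdec : ∀ a ∈ K, ∃ α β : F,
      a = α • (1 : Matrix (Fin 2 ⊕ Fin 2) (Fin 2 ⊕ Fin 2) F) + β • j := by
    intro a ha
    obtain ⟨α, β, hab⟩ := hdec a ha
    refine ⟨α + β * s, β, ?_⟩
    rw [hab, hj]
    module
  -- `K` has no zero divisors
  have hnzd : ∀ x ∈ K, ∀ z : Matrix (Fin 2 ⊕ Fin 2) (Fin 2 ⊕ Fin 2) F, x * z = 0 → x ≠ 0 →
      z = 0 := by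
    intro x hx z hxz hx0
    obtain ⟨y, hy, hxy⟩ := hK.inv x hx hx0
    have hyx : y * x = 1 := by rw [hK.comm y hy x hx]; exact hxy
    calc z = (y * x) * z := by rw [hyx, Matrix.one_mul]
      _ = y * (x * z) := Matrix.mul_assoc _ _ _
      _ = 0 := by rw [hxz, Matrix.mul_zero]
  have hjns : ∀ c : F, j ≠ c • (1 : Matrix (Fin 2 ⊕ Fin 2) (Fin 2 ⊕ Fin 2) F) := by
    intro c hc
    have h3 := hθ' (c + s) (-1) (by
      apply Subtype.ext
      have : (θ : Matrix (Fin 2 ⊕ Fin 2) (Fin 2 ⊕ Fin 2) F) = j + s • 1 := by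
        rw [hj]; abel
      show (c + s) • (1 : Matrix (Fin 2 ⊕ Fin 2) (Fin 2 ⊕ Fin 2) F) +
        (-1 : F) • (θ : Matrix (Fin 2 ⊕ Fin 2) (Fin 2 ⊕ Fin 2) F) = 0
      rw [this, hc]
      module)
    exact one_ne_zero (neg_eq_zero.1 h3.2)
  have hnonsq : ∀ c : F, c * c ≠ ε := by
    intro c hc
    have h3 : (j - c • 1) * (j + c • (1 : Matrix (Fin 2 ⊕ Fin 2) (Fin 2 ⊕ Fin 2) F)) = 0 := by
      rw [sub_mul, mul_add, mul_add, hjj, Matrix.mul_smul, Matrix.smul_mul, Matrix.smul_mul,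
        Matrix.mul_one, Matrix.one_mul, Matrix.one_mul, ← hc]
      module
    have h4 := hnzd _ (K.sub_mem hjK (K.smul_mem K.one_mem _)) _ h3
      (fun h => hjns c (sub_eq_zero.1 h))
    apply hjns (-c)
    rw [neg_smul]
    exact eq_neg_of_add_eq_zero_left h4
  have hε0 : ε ≠ 0 := fun h0 => hnonsq 0 (by rw [h0, mul_zero])
  refine ⟨j, ε, hε0, hjK, hjdec, ?_⟩
  -- the geometry
  set S := Matrix.toLin' j with hS
  have hSS : ∀ v, S (S v) = ε • v := by
    intro v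
    rw [hS, Matrix.toLin'_apply, Matrix.toLin'_apply, Matrix.mulVec_mulVec, hjj,
      Matrix.smul_mulVec, Matrix.one_mulVec]
  have hBalt := sympBilin_isAlt (m := 2) (F := F)
  have hadj : ∀ u v, sympBilin 2 F (S u) v = sympBilin 2 F u (S v) := by
    intro u v
    rw [sympBilin_apply, sympBilin_apply, hS, Matrix.toLin'_apply, Matrix.toLin'_apply]
    exact hKf j hjK u v
  have hself : ∀ u, sympBilin 2 F u (S u) = 0 := by
    intro u
    have h3 := hadj u u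
    rw [alt_swap hBalt (S u) u] at h3
    have h4 : (2 : F) * sympBilin 2 F u (S u) = 0 := by linear_combination -h3
    exact (mul_eq_zero.1 h4).resolve_left h2
  have hself' : ∀ u, sympBilin 2 F (S u) u = 0 := fun u => by rw [hadj, hself]
  set e : Fin 2 ⊕ Fin 2 → F := Pi.single (Sum.inl 0) 1 with he
  have he0 : e ≠ 0 := by
    intro h
    have := congrFun h (Sum.inl 0)
    rw [he, Pi.single_eq_same] at this
    exact one_ne_zero this
  have hSe0 : S e ≠ 0 := by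
    intro h
    have h3 := hSS e
    rw [h, map_zero] at h3
    rcases smul_eq_zero.1 h3.symm with h4 | h4
    · exact hε0 h4
    · exact he0 h4
  obtain ⟨y, hy⟩ : ∃ y, sympBilin 2 F (S e) y ≠ 0 := by
    by_contra hcon
    push Not at hcon
    apply hSe0
    apply sympForm_nondeg
    intro z
    rw [← sympBilin_apply]
    exact hcon z
  set p := sympBilin 2 F e y with hp
  set r := sympBilin 2 F (S e) y with hr
  have hD : r ^ 2 - ε * p ^ 2 ≠ 0 := by
    intro h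
    by_cases hp0 : p = 0
    · rw [hp0] at h
      apply hy
      have : r ^ 2 = 0 := by linear_combination h
      exact pow_eq_zero_iff (two_ne_zero) |>.1 this
    · apply hnonsq (r / p)
      field_simp
      linear_combination h
  set α : F := r / (r ^ 2 - ε * p ^ 2) with hα
  set β : F := -p / (r ^ 2 - ε * p ^ 2) with hβ
  set f₁ := α • y + β • S y with hf₁
  have hef₁ : sympBilin 2 F e f₁ = 0 := by
    rw [hf₁, map_add, map_smul, map_smul, ← hadj, smul_eq_mul, smul_eq_mul, hα, hβ]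
    field_simp
    ring
  have hSef₁ : sympBilin 2 F (S e) f₁ = 1 := by
    rw [hf₁, map_add, map_smul, map_smul, ← hadj, hSS, map_smul, LinearMap.smul_apply,
      smul_eq_mul, smul_eq_mul, smul_eq_mul, hα, hβ]
    field_simp
    ring
  have hfam : AltFam (sympBilin 2 F) ![e, S e] ![S f₁, f₁] := by
    constructor
    · intro i k
      fin_cases i <;> fin_cases k <;> simp only [Fin.zero_eta, Fin.mk_one, Matrix.cons_val_zero,
        Matrix.cons_val_one]
      · exact hBalt e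
      · exact hself e
      · exact hself' e
      · exact hBalt _
    · intro i k
      fin_cases i <;> fin_cases k <;> simp only [Fin.zero_eta, Fin.mk_one, Matrix.cons_val_zero,
        Matrix.cons_val_one]
      · exact hBalt _
      · exact hself' f₁
      · exact hself f₁
      · exact hBalt _
    · intro i k
      fin_cases i <;> fin_cases k <;> simp only [Fin.zero_eta, Fin.mk_one, Matrix.cons_val_zero,
        Matrix.cons_val_one]
      · rw [← hadj, hSef₁]; simp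
      · rw [hef₁]; simp
      · rw [← hadj, hSS, map_smul, LinearMap.smul_apply, hef₁, smul_zero]; simp
      · rw [hSef₁]; simp
  obtain ⟨Ψ, hΨiso, hΨe, hΨf, hspan⟩ := feG_glue hBalt hBalt (pkH_finrank 2) (pkH_finrank 2)
    hfam (pkH_std (F := F) 2)
  have hstd : stdJ ε = Matrix.fromBlocks !![0, 1; ε, 0] 0 0 !![0, ε; 1, 0] := rfl
  have hJr0 : stdJ ε *ᵥ (Pi.single (Sum.inr 0) 1 : Fin 2 ⊕ Fin 2 → F) =
      Pi.single (Sum.inr 1) 1 := by
    rw [Matrix.mulVec_single_one, hstd]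
    funext i
    rcases i with i | i <;> fin_cases i <;> simp
  have hJr1 : stdJ ε *ᵥ (Pi.single (Sum.inr 1) 1 : Fin 2 ⊕ Fin 2 → F) =
      ε • Pi.single (Sum.inr 0) 1 := by
    rw [Matrix.mulVec_single_one, hstd]
    funext i
    rcases i with i | i <;> fin_cases i <;> simp
  have hJl0 : stdJ ε *ᵥ (Pi.single (Sum.inl 0) 1 : Fin 2 ⊕ Fin 2 → F) =
      ε • Pi.single (Sum.inl 1) 1 := by
    rw [Matrix.mulVec_single_one, hstd]
    funext i
    rcases i with i | i <;> fin_cases i <;> simp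
  have hJl1 : stdJ ε *ᵥ (Pi.single (Sum.inl 1) 1 : Fin 2 ⊕ Fin 2 → F) =
      Pi.single (Sum.inl 0) 1 := by
    rw [Matrix.mulVec_single_one, hstd]
    funext i
    rcases i with i | i <;> fin_cases i <;> simp
  have hΨe0 : Ψ e = Pi.single (Sum.inr 0) 1 := hΨe 0
  have hΨe1 : Ψ (S e) = Pi.single (Sum.inr 1) 1 := hΨe 1
  have hΨf0 : Ψ (S f₁) = Pi.single (Sum.inl 0) 1 := hΨf 0
  have hΨf1 : Ψ f₁ = Pi.single (Sum.inl 1) 1 := hΨf 1
  have hinter : (Ψ : (Fin 2 ⊕ Fin 2 → F) →ₗ[F] (Fin 2 ⊕ Fin 2 → F)) ∘ₗ S =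
      Matrix.toLin' (stdJ ε) ∘ₗ (Ψ : (Fin 2 ⊕ Fin 2 → F) →ₗ[F] (Fin 2 ⊕ Fin 2 → F)) := by
    apply LinearMap.ext_on hspan
    rintro _ ⟨s, rfl⟩
    rw [LinearMap.comp_apply, LinearMap.comp_apply, LinearEquiv.coe_coe, Matrix.toLin'_apply]
    rcases s with k | k
    · fin_cases k
      · show Ψ (S e) = stdJ ε *ᵥ Ψ e
        rw [hΨe0, hΨe1, hJr0]
      · show Ψ (S (S e)) = stdJ ε *ᵥ Ψ (S e)
        rw [hSS, map_smul, hΨe0, hΨe1, hJr1]
    · fin_cases k
      · show Ψ (S (S f₁)) = stdJ ε *ᵥ Ψ (S f₁)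
        rw [hSS, map_smul, hΨf0, hΨf1, hJl0]
      · show Ψ (S f₁) = stdJ ε *ᵥ Ψ f₁
        rw [hΨf0, hΨf1, hJl1]
  refine ⟨glOfEquiv Ψ, ?_, ?_⟩
  · show ∀ u v, Cfsg.sympForm 2 F _ _ = Cfsg.sympForm 2 F u v
    intro u v
    have h1 := hΨiso u v
    rw [sympBilin_apply, sympBilin_apply] at h1
    rw [h1]
    congr 1
    · exact glOfEquiv_mulVec Ψ u
    · exact glOfEquiv_mulVec Ψ v
  · apply Matrix.toLin'.injective
    apply LinearMap.ext
    intro v
    rw [Matrix.toLin'_apply, Matrix.toLin'_apply, ← Matrix.mulVec_mulVec, ← Matrix.mulVec_mulVec,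
      glOfEquiv_mulVec, glOfEquiv_mulVec]
    have h1 := LinearMap.congr_fun hinter v
    rw [LinearMap.comp_apply, LinearMap.comp_apply, LinearEquiv.coe_coe] at h1
    rw [← Matrix.toLin'_apply j v, ← Matrix.toLin'_apply (stdJ ε)]
    exact h1

end Cfsg.Agent.Lib.Helper3.FESp
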