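import Mathlib
import Cfsg.Prelude.Def_FischerSpaces

set_option autoImplicit false

/-! Fischer spaces: the maps `t(x)`; basic facts in a partial linear space. -/

namespace Cfsg.Agent.H9Fi

open Cfsg Cfsg.LineSystem

variable {X : Type*}

/-- `z` is the third point of the line through `x` and `y`. -/
def Third (L : Set (Set X)) (x y z : X) : Prop :=
  z ≠ x ∧ z ≠ y ∧ x ≠ y ∧ ({x, y, z} : Set X) ∈ L

theorem third_unique {L : Set (Set X)} (hPL : IsPartialLinear L) {x y z z' : X}
    (h : Third L x y z) (h' : Third L x y z') : z = z' := by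
  obtain ⟨h1, h2, h3, h4⟩ := h
  obtain ⟨h1', h2', _, h4'⟩ := h'
  have e := hPL _ h4 _ h4' x y h3 (by simp) (by simp) (by simp) (by simp)
  have hz : z' ∈ ({x, y, z} : Set X) := by rw [e]; simp
  simp only [Set.mem_insert_iff, Set.mem_singleton_iff] at hz
  rcases hz with hz | hz | hz
  · exact absurd hz h1'
  · exact absurd hz h2'
  · exact hz.symm

theorem third_swap23 {L : Set (Set X)} {x y z : X} (h : Third L x y z) : Third L x z y := by
  obtain ⟨h1, h2, h3, h4⟩ := h
  refine ⟨h3.symm, h2.symm, h1.symm, ?_⟩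
  have : ({x, z, y} : Set X) = {x, y, z} := by
    ext w; simp only [Set.mem_insert_iff, Set.mem_singleton_iff]; tauto
  rw [this]; exact h4

theorem third_swap12 {L : Set (Set X)} {x y z : X} (h : Third L x y z) : Third L y x z := by
  obtain ⟨h1, h2, h3, h4⟩ := h
  refine ⟨h2, h1, h3.symm, ?_⟩
  have : ({y, x, z} : Set X) = {x, y, z} := by
    ext w; simp only [Set.mem_insert_iff, Set.mem_singleton_iff]; tauto
  rw [this]; exact h4

theorem lineMap_eq_of_third {L : Set (Set X)} (hPL : IsPartialLinear L) {x y z : X}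
    (h : Third L x y z) : lineMap L x y = z := by
  have hex : ∃ z : X, z ≠ x ∧ z ≠ y ∧ x ≠ y ∧ ({x, y, z} : Set X) ∈ L := ⟨z, h⟩
  unfold lineMap
  rw [dif_pos hex]
  exact third_unique hPL hex.choose_spec h

theorem lineMap_eq_self {L : Set (Set X)} {x y : X} (h : ¬ ∃ z, Third L x y z) :
    lineMap L x y = y := by
  have h' : ¬ ∃ z : X, z ≠ x ∧ z ≠ y ∧ x ≠ y ∧ ({x, y, z} : Set X) ∈ L := h
  unfold lineMap
  rw [dif_neg h']

theorem lineMap_self {L : Set (Set X)} (x : X) : lineMap L x x = x := by
  apply lineMap_eq_self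
  rintro ⟨z, _, _, h, _⟩
  exact h rfl

theorem lineMap_cases {L : Set (Set X)} (hPL : IsPartialLinear L) (x y : X) :
    (Third L x y (lineMap L x y)) ∨ ((¬ ∃ z, Third L x y z) ∧ lineMap L x y = y) := by
  by_cases h : ∃ z, Third L x y z
  · left
    obtain ⟨z, hz⟩ := h
    rw [lineMap_eq_of_third hPL hz]; exact hz
  · right
    exact ⟨h, lineMap_eq_self h⟩

theorem lineMap_involutive {L : Set (Set X)} (hPL : IsPartialLinear L) (x : X) :
    Function.Involutive (lineMap L x) := by
  intro y
  rcases lineMap_cases hPL x y with h | ⟨_, h⟩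
  · exact lineMap_eq_of_third hPL (third_swap23 h)
  · rw [h, h]

/-- The permutation `t(x)`. -/
noncomputable def tPerm {L : Set (Set X)} (hPL : IsPartialLinear L) (x : X) : Equiv.Perm X :=
  (lineMap_involutive hPL x).toPerm

theorem tPerm_coe {L : Set (Set X)} (hPL : IsPartialLinear L) (x : X) :
    ⇑(tPerm hPL x) = lineMap L x := rfl

theorem tPerm_apply {L : Set (Set X)} (hPL : IsPartialLinear L) (x y : X) :
    tPerm hPL x y = lineMap L x y := rfl

theorem tPerm_mul_self {L : Set (Set X)} (hPL : IsPartialLinear L) (x : X) :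
    tPerm hPL x * tPerm hPL x = 1 := by
  ext y
  show lineMap L x (lineMap L x y) = y
  exact lineMap_involutive hPL x y

theorem eq_tPerm_of_coe {L : Set (Set X)} (hPL : IsPartialLinear L) (x : X) (σ : Equiv.Perm X)
    (h : ⇑σ = lineMap L x) : σ = tPerm hPL x := by
  ext y
  rw [h]; rfl

/-- A line with three points through `x`. -/
theorem exists_triple_of_mem {l : Set X} (h3 : l.ncard = 3) {x : X} (hx : x ∈ l) :
    ∃ y z, y ≠ x ∧ z ≠ x ∧ y ≠ z ∧ l = {x, y, z} := by
  obtain ⟨a, b, c, hab, hac, hbc, rfl⟩ := Set.ncard_eq_three.1 h3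
  simp only [Set.mem_insert_iff, Set.mem_singleton_iff] at hx
  rcases hx with rfl | rfl | rfl
  · exact ⟨b, c, hab.symm, hac.symm, hbc, rfl⟩
  · refine ⟨a, c, hab, hbc.symm, hac, ?_⟩
    ext w; simp only [Set.mem_insert_iff, Set.mem_singleton_iff]; tauto
  · refine ⟨a, b, hac, hbc, hab, ?_⟩
    ext w; simp only [Set.mem_insert_iff, Set.mem_singleton_iff]; tauto

theorem third_of_line {L : Set (Set X)} {x y z : X} (hy : y ≠ x) (hz : z ≠ x) (hyz : y ≠ z)
    (h : ({x, y, z} : Set X) ∈ L) : Third L x y z :=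
  ⟨hz, hyz.symm, hy.symm, h⟩

theorem orderOf_tPerm {L : Set (Set X)} (hPL : IsPartialLinear L) (h3 : ∀ l ∈ L, l.ncard = 3)
    (hnd : IsNondegenerate L) (x : X) : orderOf (tPerm hPL x) = 2 := by
  obtain ⟨l, hl, hx⟩ := hnd x
  obtain ⟨y, z, hy, hz, hyz, rfl⟩ := exists_triple_of_mem (h3 l hl) hx
  have ht := third_of_line hy hz hyz hl
  have : Fact (Nat.Prime 2) := ⟨Nat.prime_two⟩
  apply orderOf_eq_prime
  · rw [pow_two]; exact tPerm_mul_self hPL x
  · intro h
    have h1 : tPerm hPL x y = y := by rw [h]; rfl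
    rw [tPerm_apply, lineMap_eq_of_third hPL ht] at h1
    exact hyz h1.symm

/-- Image of a line through `x`. -/
theorem lineMap_image_of_mem {L : Set (Set X)} (hPL : IsPartialLinear L) (h3 : ∀ l ∈ L, l.ncard = 3)
    {l : Set X} (hl : l ∈ L) {x : X} (hx : x ∈ l) : lineMap L x '' l = l := by
  obtain ⟨y, z, hy, hz, hyz, rfl⟩ := exists_triple_of_mem (h3 l hl) hx
  have ht := third_of_line hy hz hyz hl
  rw [Set.image_insert_eq, Set.image_pair, lineMap_self, lineMap_eq_of_third hPL ht,
    lineMap_eq_of_third hPL (third_swap23 ht)]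
  ext w; simp only [Set.mem_insert_iff, Set.mem_singleton_iff]; tauto

section Aut

variable {L : Set (Set X)}

theorem isIso_symm {σ : Equiv.Perm X} (h : IsIso L L σ) : IsIso L L σ.symm := by
  intro l
  rw [h (σ.symm '' l)]
  have : σ '' (σ.symm '' l) = l := by
    rw [← Set.image_comp]
    simp
  rw [this]

theorem third_map {σ : Equiv.Perm X} (h : IsIso L L σ) {x y z : X} (ht : Third L x y z) :
    Third L (σ x) (σ y) (σ z) := by
  obtain ⟨h1, h2, h3, h4⟩ := ht
  refine ⟨fun e => h1 (σ.injective e), fun e => h2 (σ.injective e), fun e => h3 (σ.injective e), ?_⟩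
  have := (h _).1 h4
  rwa [Set.image_insert_eq, Set.image_pair] at this

theorem lineMap_map (hPL : IsPartialLinear L) {σ : Equiv.Perm X} (h : IsIso L L σ) (x y : X) :
    lineMap L (σ x) (σ y) = σ (lineMap L x y) := by
  rcases lineMap_cases hPL x y with ht | ⟨hn, he⟩
  · exact lineMap_eq_of_third hPL (third_map h ht)
  · rw [he]
    apply lineMap_eq_self
    rintro ⟨w, hw⟩
    apply hn
    have := third_map (isIso_symm h) hw
    simp only [Equiv.symm_apply_apply] at this
    exact ⟨_, this⟩

/-- Conjugation formula for the `t`-maps under automorphisms. -/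
theorem tPerm_conj (hPL : IsPartialLinear L) {σ : Equiv.Perm X} (h : IsIso L L σ) (x : X) :
    tPerm hPL (σ x) * σ = σ * tPerm hPL x := by
  ext y
  show lineMap L (σ x) (σ y) = σ (lineMap L x y)
  exact lineMap_map hPL h x y

/-- The three-transposition relations, given that each `t(x)` is an automorphism. -/
theorem three_transp (hPL : IsPartialLinear L)
    (haut : ∀ x : X, IsIso L L (tPerm hPL x)) (x y : X) :
    (tPerm hPL x * tPerm hPL y) ^ 2 = 1 ∨ (tPerm hPL x * tPerm hPL y) ^ 3 = 1 := by
  have hx2 := tPerm_mul_self hPL x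
  have hy2 := tPerm_mul_self hPL y
  rcases lineMap_cases hPL x y with ht | ⟨_, he⟩
  · right
    have h1 := tPerm_conj hPL (haut x) y
    have h2 := tPerm_conj hPL (haut y) x
    rw [tPerm_apply, lineMap_eq_of_third hPL ht] at h1
    rw [tPerm_apply, lineMap_eq_of_third hPL (third_swap12 ht)] at h2
    -- h1 : t_z * t_x = t_x * t_y ; h2 : t_z * t_y = t_y * t_x
    set a := tPerm hPL x with ha
    set b := tPerm hPL y with hb
    set c := tPerm hPL (lineMap L x y) with hc
    have hc1 : c = a * b * a := by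
      calc c = c * (a * a) := by rw [hx2, mul_one]
        _ = (c * a) * a := by rw [mul_assoc]
        _ = a * b * a := by rw [h1]
    have hc2 : c = b * a * b := by
      calc c = c * (b * b) := by rw [hy2, mul_one]
        _ = (c * b) * b := by rw [mul_assoc]
        _ = b * a * b := by rw [h2]
    calc (a * b) ^ 3 = (a * b * a) * (b * a * b) := by rw [pow_three]; simp only [mul_assoc]
      _ = (b * a * b) * (b * a * b) := by rw [← hc1, hc2]
      _ = b * a * (b * b) * a * b := by simp only [mul_assoc]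
      _ = b * (a * a) * b := by rw [hy2, mul_one]; simp only [mul_assoc]
      _ = 1 := by rw [hx2, mul_one, hy2]
  · left
    have h1 := tPerm_conj hPL (haut x) y
    rw [tPerm_apply, he] at h1
    -- h1 : t_y * t_x = t_x * t_y
    set a := tPerm hPL x with ha
    set b := tPerm hPL y with hb
    calc (a * b) ^ 2 = a * (b * a) * b := by rw [pow_two]; simp only [mul_assoc]
      _ = a * (a * b) * b := by rw [h1]
      _ = (a * a) * (b * b) := by simp only [mul_assoc]
      _ = 1 := by rw [hx2, hy2, mul_one]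

end Aut

end Cfsg.Agent.H9Fi
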