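import Mathlib
import Cfsg.Prelude.Def_FischerSpaces
import Cfsg.Agent.Lib.Helper9.FischerSp1

set_option autoImplicit false

/-! Fischer spaces: transfer of the `t`-maps through an isomorphism of a plane with a model. -/

namespace Cfsg.Agent.H9Fi

open Cfsg Cfsg.LineSystem

variable {X : Type*} {Y : Type*}

/-- The model property: for a point `P` off a line, the `t(P)`-image of the line is a line. -/
def ModelProp (M : Set (Set Y)) : Prop :=
  ∀ P : Y, ∀ lam ∈ M, P ∉ lam → ∃ f : Y → Y,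
    (∀ A ∈ lam, (Third M P A (f A)) ∨ ((¬ ∃ Z, Third M P A Z) ∧ f A = A)) ∧ f '' lam ∈ M

theorem span_isSubspace (L : Set (Set X)) (S : Set X) : IsSubspace L (span L S) := by
  intro l hl x hx y hy hxy hxl hyl
  intro w hw
  rw [span, Set.mem_sInter]
  intro T hT
  have hxT : x ∈ T := Set.mem_sInter.1 hx T hT
  have hyT : y ∈ T := Set.mem_sInter.1 hy T hT
  exact hT.2 l hl x hxT y hyT hxy hxl hyl hw

theorem subset_span (L : Set (Set X)) (S : Set X) : S ⊆ span L S := by
  intro x hx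
  rw [span, Set.mem_sInter]
  intro T hT
  exact hT.1 hx

theorem triple_eq_of_subset {l : Set X} (h3 : l.ncard = 3) {a b c : X} (hab : a ≠ b) (hac : a ≠ c)
    (hbc : b ≠ c) (ha : a ∈ l) (hb : b ∈ l) (hc : c ∈ l) : l = {a, b, c} := by
  have hfin : l.Finite := Set.finite_of_ncard_ne_zero (by omega)
  have hsub : ({a, b, c} : Set X) ⊆ l := by
    intro w hw
    simp only [Set.mem_insert_iff, Set.mem_singleton_iff] at hw
    rcases hw with rfl | rfl | rfl <;> assumption
  have hcard : ({a, b, c} : Set X).ncard = 3 := Set.ncard_eq_three.2 ⟨a, b, c, hab, hac, hbc, rfl⟩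
  exact (Set.eq_of_subset_of_ncard_le hsub (by omega) hfin).symm

section Transfer

variable {L : Set (Set X)} {π : Set X} {M : Set (Set Y)} (e : ↥π ≃ Y)

theorem third_pullback (h3 : ∀ l ∈ L, l.ncard = 3) (he : IsIso (restrict L π) M e) {p q r : ↥π}
    (h : Third M (e p) (e q) (e r)) : Third L (p : X) (q : X) (r : X) := by
  obtain ⟨h1, h2, h3', h4⟩ := h
  have hrp : (r : X) ≠ p := fun h => h1 (congrArg e (Subtype.ext h))
  have hrq : (r : X) ≠ q := fun h => h2 (congrArg e (Subtype.ext h))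
  have hpq : (p : X) ≠ q := fun h => h3' (congrArg e (Subtype.ext h))
  refine ⟨hrp, hrq, hpq, ?_⟩
  have him : e '' ({p, q, r} : Set ↥π) = {e p, e q, e r} := by
    rw [Set.image_insert_eq, Set.image_pair]
  have hmem : ({p, q, r} : Set ↥π) ∈ restrict L π := by
    rw [he, him]; exact h4
  obtain ⟨l', hl', _, hs⟩ := hmem
  have hp : (p : X) ∈ l' := by
    have : p ∈ ({p, q, r} : Set ↥π) := by simp
    rw [hs] at this; exact this
  have hq : (q : X) ∈ l' := by
    have : q ∈ ({p, q, r} : Set ↥π) := by simp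
    rw [hs] at this; exact this
  have hr : (r : X) ∈ l' := by
    have : r ∈ ({p, q, r} : Set ↥π) := by simp
    rw [hs] at this; exact this
  rw [← triple_eq_of_subset (h3 l' hl') hpq hrp.symm hrq.symm hp hq hr]
  exact hl'

theorem third_push (hπ : IsSubspace L π) (he : IsIso (restrict L π) M e) {p q : ↥π} {z : X}
    (h : Third L (p : X) (q : X) z) : ∃ r : ↥π, (r : X) = z ∧ Third M (e p) (e q) (e r) := by
  obtain ⟨h1, h2, h3', h4⟩ := h
  have hsub : ({(p : X), (q : X), z} : Set X) ⊆ π :=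
    hπ _ h4 p p.2 q q.2 h3' (by simp) (by simp)
  have hz : z ∈ π := hsub (by simp)
  refine ⟨⟨z, hz⟩, rfl, ?_, ?_, ?_, ?_⟩
  · intro h; apply h1
    have := e.injective h
    exact congrArg Subtype.val this
  · intro h; apply h2
    have := e.injective h
    exact congrArg Subtype.val this
  · intro h; apply h3'
    have := e.injective h
    exact congrArg Subtype.val this
  · have hmem : ({p, q, ⟨z, hz⟩} : Set ↥π) ∈ restrict L π := by
      refine ⟨_, h4, hsub, ?_⟩
      ext t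
      simp only [Set.mem_insert_iff, Set.mem_singleton_iff, Set.mem_setOf_eq, Subtype.ext_iff]
    have := (he _).1 hmem
    rwa [Set.image_insert_eq, Set.image_pair] at this

/-- The image under `t(x)` of a line of a plane isomorphic to a model with the model property. -/
theorem image_line_of_plane (hPL : IsPartialLinear L) (h3 : ∀ l ∈ L, l.ncard = 3)
    (hπ : IsSubspace L π) (hM : ModelProp M) (he : IsIso (restrict L π) M e)
    {l : Set X} (hl : l ∈ L) (hlπ : l ⊆ π) {x : X} (hxπ : x ∈ π) (hxl : x ∉ l) :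
    lineMap L x '' l ∈ L := by
  have hlt : {p : ↥π | (p : X) ∈ l} ∈ restrict L π := ⟨l, hl, hlπ, rfl⟩
  have hlam : e '' {p : ↥π | (p : X) ∈ l} ∈ M := (he _).1 hlt
  have hP : e ⟨x, hxπ⟩ ∉ e '' {p : ↥π | (p : X) ∈ l} := by
    rintro ⟨p, hp, hpe⟩
    have := e.injective hpe
    rw [this] at hp
    exact hxl hp
  obtain ⟨f, hf, hfl⟩ := hM _ _ hlam hP
  have hs : e.symm '' (f '' (e '' {p : ↥π | (p : X) ∈ l})) ∈ restrict L π := by
    rw [he]
    have : e '' (e.symm '' (f '' (e '' {p : ↥π | (p : X) ∈ l}))) =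
        f '' (e '' {p : ↥π | (p : X) ∈ l}) := by
      rw [← Set.image_comp]; simp
    rw [this]; exact hfl
  obtain ⟨l', hl', hl'π, hs'⟩ := hs
  have key : ∀ a (ha : a ∈ l), lineMap L x a = ((e.symm (f (e ⟨a, hlπ ha⟩)) : ↥π) : X) := by
    intro a ha
    have hA : e ⟨a, hlπ ha⟩ ∈ e '' {p : ↥π | (p : X) ∈ l} := ⟨⟨a, hlπ ha⟩, ha, rfl⟩
    rcases hf _ hA with ht | ⟨hn, hfe⟩
    · have ht' : Third M (e ⟨x, hxπ⟩) (e ⟨a, hlπ ha⟩) (e (e.symm (f (e ⟨a, hlπ ha⟩)))) := by
        rw [Equiv.apply_symm_apply]; exact ht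
      have := third_pullback e h3 he ht'
      exact lineMap_eq_of_third hPL this
    · rw [hfe, Equiv.symm_apply_apply]
      apply lineMap_eq_self
      rintro ⟨z, hz⟩
      apply hn
      obtain ⟨r, _, hr⟩ := third_push (p := ⟨x, hxπ⟩) (q := ⟨a, hlπ ha⟩) e hπ he hz
      exact ⟨_, hr⟩
  have himg : lineMap L x '' l = l' := by
    ext w
    constructor
    · rintro ⟨a, ha, rfl⟩
      rw [key a ha]
      have hmem : e.symm (f (e ⟨a, hlπ ha⟩)) ∈
          e.symm '' (f '' (e '' {p : ↥π | (p : X) ∈ l})) :=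
        ⟨_, ⟨_, ⟨⟨a, hlπ ha⟩, ha, rfl⟩, rfl⟩, rfl⟩
      rw [hs'] at hmem
      exact hmem
    · intro hw
      have hmem : (⟨w, hl'π hw⟩ : ↥π) ∈ {x : ↥π | (x : X) ∈ l'} := hw
      rw [← hs'] at hmem
      obtain ⟨B, ⟨A, ⟨p, hp, rfl⟩, rfl⟩, hB⟩ := hmem
      refine ⟨p, hp, ?_⟩
      rw [key p hp]
      have : (⟨(p : X), hlπ hp⟩ : ↥π) = p := Subtype.ext rfl
      rw [this, hB]
  rw [himg]; exact hl'

end Transfer

end Cfsg.Agent.H9Fi
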