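import Mathlib
import Cfsg.Prelude.Def_FischerSpaces
import Cfsg.Agent.Lib.Helper9.FischerSp2

set_option autoImplicit false

/-! Fischer spaces: the two model planes have the model property. -/

namespace Cfsg.Agent.H9Fi

open Cfsg Cfsg.LineSystem

/-! ### The dual affine plane of order two -/

/-- The `t`-map of the dual affine plane. -/
def daMap (P A : DualAffinePoint) : DualAffinePoint :=
  if h : (symmDiff A.val P.val).card = 2 then ⟨symmDiff A.val P.val, h⟩ else A

/-- Decidable form of `Third` in the dual affine plane. -/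
def daThird (P A Z : DualAffinePoint) : Prop :=
  Z ≠ P ∧ Z ≠ A ∧ P ≠ A ∧ ∃ m : Fin 4, m ∉ P.val ∧ m ∉ A.val ∧ m ∉ Z.val

instance (P A Z : DualAffinePoint) : Decidable (daThird P A Z) := by
  unfold daThird; infer_instance

set_option synthInstance.maxSize 4096 in
set_option synthInstance.maxHeartbeats 400000 in
set_option maxRecDepth 100000 in
theorem da_D1 : ∀ m : Fin 4, ∀ P A Z s : DualAffinePoint, Z ≠ P → Z ≠ A → P ≠ A →
    m ∉ P.val → m ∉ A.val → m ∉ Z.val → m ∉ s.val → s = P ∨ s = A ∨ s = Z := by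
  decide

set_option synthInstance.maxSize 4096 in
set_option synthInstance.maxHeartbeats 400000 in
set_option maxRecDepth 100000 in
theorem da_D2 : ∀ P A : DualAffinePoint, ∀ i : Fin 4, i ∈ P.val → i ∉ A.val →
    daThird P A (daMap P A) ∨ ((∀ Z, ¬ daThird P A Z) ∧ daMap P A = A) := by
  decide

set_option synthInstance.maxSize 4096 in
set_option synthInstance.maxHeartbeats 400000 in
set_option maxRecDepth 100000 in
theorem da_D3 : ∀ P : DualAffinePoint, ∀ i : Fin 4, i ∈ P.val → ∃ j : Fin 4,
    (∀ A : DualAffinePoint, i ∉ A.val → j ∉ (daMap P A).val) ∧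
    (∀ B : DualAffinePoint, j ∉ B.val → ∃ A : DualAffinePoint, i ∉ A.val ∧ daMap P A = B) := by
  decide

theorem da_third_iff (P A Z : DualAffinePoint) : Third dualAffinePlaneTwo P A Z ↔ daThird P A Z := by
  constructor
  · rintro ⟨h1, h2, h3, m, hm⟩
    refine ⟨h1, h2, h3, m, ?_, ?_, ?_⟩
    · have : P ∈ ({P, A, Z} : Set DualAffinePoint) := by simp
      rw [hm] at this; exact this
    · have : A ∈ ({P, A, Z} : Set DualAffinePoint) := by simp
      rw [hm] at this; exact this
    · have : Z ∈ ({P, A, Z} : Set DualAffinePoint) := by simp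
      rw [hm] at this; exact this
  · rintro ⟨h1, h2, h3, m, hP, hA, hZ⟩
    refine ⟨h1, h2, h3, m, ?_⟩
    ext s
    simp only [Set.mem_insert_iff, Set.mem_singleton_iff, Set.mem_setOf_eq]
    constructor
    · rintro (rfl | rfl | rfl) <;> assumption
    · intro hs
      exact da_D1 m P A Z s h1 h2 h3 hP hA hZ hs

theorem modelProp_da : ModelProp dualAffinePlaneTwo := by
  rintro P lam ⟨i, rfl⟩ hP
  have hiP : i ∈ P.val := by
    by_contra h
    exact hP h
  refine ⟨daMap P, ?_, ?_⟩
  · intro A hA
    have hiA : i ∉ A.val := hA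
    rcases da_D2 P A i hiP hiA with h | ⟨h1, h2⟩
    · left
      exact (da_third_iff _ _ _).2 h
    · right
      refine ⟨?_, h2⟩
      rintro ⟨Z, hZ⟩
      exact h1 Z ((da_third_iff _ _ _).1 hZ)
  · obtain ⟨j, hj1, hj2⟩ := da_D3 P i hiP
    refine ⟨j, ?_⟩
    ext B
    simp only [Set.mem_image, Set.mem_setOf_eq]
    constructor
    · rintro ⟨A, hA, rfl⟩
      exact hj1 A hA
    · intro hB
      exact hj2 B hB

/-! ### The affine plane of order three -/

theorem z3_a : ∀ a p : ZMod 3, -p - a = p → a = p := by decide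
theorem z3_b : ∀ a p : ZMod 3, -p - a = a → a = p := by decide
theorem z3_c : ∀ a p : ZMod 3, p + (2 : ZMod 3) * (a - p) = -p - a := by decide
theorem z3_d : ∀ c : ZMod 3, c = 0 ∨ c = 1 ∨ c = 2 := by decide

theorem ag_line_mem {P A : Fin 2 → ZMod 3} (h : P ≠ A) :
    ({P, A, -P - A} : Set (Fin 2 → ZMod 3)) ∈ affinePlaneThree := by
  refine ⟨P, A - P, sub_ne_zero.2 h.symm, ?_⟩
  ext x
  simp only [Set.mem_insert_iff, Set.mem_singleton_iff, Set.mem_setOf_eq]
  constructor
  · rintro (rfl | rfl | rfl)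
    · exact ⟨0, by simp⟩
    · exact ⟨1, by simp⟩
    · refine ⟨2, ?_⟩
      funext k
      simp only [Pi.add_apply, Pi.smul_apply, Pi.sub_apply, Pi.neg_apply, smul_eq_mul]
      exact (z3_c _ _).symm
  · rintro ⟨c, rfl⟩
    rcases z3_d c with rfl | rfl | rfl
    · left; simp
    · right; left; simp
    · right; right
      funext k
      simp only [Pi.add_apply, Pi.smul_apply, Pi.sub_apply, Pi.neg_apply, smul_eq_mul]
      exact z3_c _ _

theorem modelProp_ag : ModelProp affinePlaneThree := by
  rintro P lam ⟨v, w, hw, rfl⟩ hP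
  refine ⟨fun A => -P - A, ?_, ?_⟩
  · intro A hA
    left
    have hPA : P ≠ A := by
      rintro rfl
      exact hP hA
    refine ⟨?_, ?_, hPA, ag_line_mem hPA⟩
    · intro h
      apply hPA
      funext k
      have := congrFun h k
      simp only [Pi.sub_apply, Pi.neg_apply] at this
      exact (z3_a _ _ this).symm
    · intro h
      apply hPA
      funext k
      have := congrFun h k
      simp only [Pi.sub_apply, Pi.neg_apply] at this
      exact (z3_b _ _ this).symm
  · refine ⟨-P - v, -w, neg_ne_zero.2 hw, ?_⟩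
    ext x
    simp only [Set.mem_image, Set.mem_setOf_eq]
    constructor
    · rintro ⟨A, ⟨c, rfl⟩, rfl⟩
      refine ⟨c, ?_⟩
      simp only [smul_neg]
      abel
    · rintro ⟨c, rfl⟩
      refine ⟨v + c • w, ⟨c, rfl⟩, ?_⟩
      simp only [smul_neg]
      abel

end Cfsg.Agent.H9Fi
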