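import Mathlib
import Cfsg.Agent.Lib.Helper7.Wielandt5

set_option autoImplicit false

/-!
# Flavell's Theorem A, part 1: subgroups generated by their own conjugates of `A`
-/

namespace Cfsg.Agent.Lib.Helper9.Flavell

open Cfsg.Agent.Lib.Helper7

variable {G : Type*} [Group G]

/-- `Full A H`: `A ≤ H` and the normal closure of `A` in `H` is `H`, phrased inside `G`:
every subgroup containing `A` and normalized by `H` contains `H`. -/
def Full (A H : Subgroup G) : Prop :=
  A ≤ H ∧ ∀ N : Subgroup G, A ≤ N → H ≤ Subgroup.normalizer (N : Set G) → H ≤ N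

theorem Full.le {A H : Subgroup G} (h : Full A H) : A ≤ H := h.1

theorem Full.refl (A : Subgroup G) : Full A A := ⟨le_rfl, fun _ h _ => h⟩

theorem Full.trans {A B H : Subgroup G} (h1 : Full A B) (h2 : Full B H) : Full A H :=
  ⟨h1.1.trans h2.1, fun N hAN hHN => h2.2 N (h1.2 N hAN (h2.1.trans hHN)) hHN⟩

theorem Full.mono_left {A B H : Subgroup G} (h : Full A H) (hAB : A ≤ B) (hBH : B ≤ H) :
    Full B H :=
  ⟨hBH, fun N hBN hHN => h.2 N (hAB.trans hBN) hHN⟩

theorem Full.sSup {A : Subgroup G} {S : Set (Subgroup G)} (hne : S.Nonempty)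
    (h : ∀ H ∈ S, Full A H) : Full A (sSup S) := by
  obtain ⟨H0, hH0⟩ := hne
  refine ⟨(h H0 hH0).1.trans (le_sSup hH0), ?_⟩
  intro N hAN hN
  apply sSup_le
  intro H hH
  exact (h H hH).2 N hAN ((le_sSup hH).trans hN)

theorem Full.conj {A H : Subgroup G} (h : Full A H) (g : G) : Full (cj g A) (cj g H) := by
  refine ⟨cj_mono g h.1, ?_⟩
  intro N hAN hN
  have h1 : A ≤ cj g⁻¹ N := by
    have := cj_mono g⁻¹ hAN
    rwa [cj_inv_cj] at this
  have h2 : H ≤ Subgroup.normalizer ((cj g⁻¹ N : Subgroup G) : Set G) := by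
    have := le_normalizer_cj (g := g⁻¹) hN
    rwa [cj_inv_cj] at this
  have h3 := cj_mono g (h.2 _ h1 h2)
  rwa [cj_cj_inv] at h3

/-- a full overgroup of `A` inside `X` lies in every subnormal subgroup of `X` containing `A` -/
theorem Full.le_of_subnIn {A H S X : Subgroup G} (h : Full A H) (hS : SubnIn S X)
    (hHX : H ≤ X) (hAS : A ≤ S) : H ≤ S := by
  induction hS with
  | refl X => exact hHX
  | step S K X hSK hN hKX ih =>
    have hHK : H ≤ K := ih hHX (hAS.trans hSK)
    exact h.2 S hAS (hHK.trans hN)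

theorem Full.eq_of_subnIn {T H : Subgroup G} (h : Full T H) (hS : SubnIn T H) : H = T :=
  le_antisymm (h.le_of_subnIn hS le_rfl le_rfl) h.1

/-- the subnormal closure: a subnormal subgroup of `K` containing `B` which is full over `B` -/
theorem exists_min_subn [Finite G] {B K : Subgroup G} (hBK : B ≤ K) :
    ∃ S : Subgroup G, B ≤ S ∧ SubnIn S K ∧ Full B S := by
  let 𝒮 : Set (Subgroup G) := {S | B ≤ S ∧ SubnIn S K}
  have hne : 𝒮.Nonempty := ⟨K, hBK, SubnIn.refl K⟩
  obtain ⟨S, ⟨h1, h2⟩, hmin⟩ := WellFounded.has_min (wellFounded_lt (α := Subgroup G)) 𝒮 hne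
  refine ⟨S, h1, h2, h1, ?_⟩
  intro N hBN hSN
  have hsub : SubnIn (N ⊓ S) S := by
    refine SubnIn.of_normal inf_le_right ?_
    intro s hs
    rw [mem_normalizer_iff_cj, cj_inf, cj_eq_self_of_mem hs, mem_normalizer_iff_cj.mp (hSN hs)]
  have hmem : N ⊓ S ∈ 𝒮 := ⟨le_inf hBN h1, hsub.trans h2⟩
  have hnlt := hmin _ hmem
  have heq : N ⊓ S = S := by
    rcases eq_or_lt_of_le (inf_le_right : N ⊓ S ≤ S) with h | h
    · exact h
    · exact absurd h hnlt
  exact heq ▸ inf_le_left

/-- bridge to the statement's formulation -/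
theorem full_iff_normalClosure {A H : Subgroup G} (hAH : A ≤ H) :
    Subgroup.normalClosure ((A.subgroupOf H : Subgroup ↥H) : Set ↥H) = ⊤ ↔ Full A H := by
  constructor
  · intro h
    refine ⟨hAH, ?_⟩
    intro N hAN hHN
    have hnormal : (N.subgroupOf H).Normal := by
      constructor
      intro n hn g
      rw [Subgroup.mem_subgroupOf] at hn ⊢
      have := (Subgroup.mem_normalizer_iff.mp (hHN g.2)) (n : G)
      exact this.mp hn
    have hle : Subgroup.normalClosure ((A.subgroupOf H : Subgroup ↥H) : Set ↥H) ≤ N.subgroupOf H := by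
      apply Subgroup.normalClosure_le_normal
      intro x hx
      exact hAN hx
    rw [h, top_le_iff, Subgroup.subgroupOf_eq_top] at hle
    exact hle
  · intro h
    set C : Subgroup H := Subgroup.normalClosure ((A.subgroupOf H : Subgroup ↥H) : Set ↥H) with hC
    have hCn : C.Normal := Subgroup.normalClosure_normal
    have hAN : A ≤ C.map H.subtype := by
      intro a ha
      refine ⟨⟨a, hAH ha⟩, ?_, rfl⟩
      apply Subgroup.subset_normalClosure
      exact ha
    have hHN : H ≤ Subgroup.normalizer ((C.map H.subtype : Subgroup G) : Set G) := by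
      intro x hx
      rw [mem_normalizer_iff_cj]
      have h1 := map_subtype_cj H ⟨x, hx⟩ C
      have h2 : cj (⟨x, hx⟩ : H) C = C := by
        rw [← mem_normalizer_iff_cj, Subgroup.normalizer_eq_top_iff.mpr hCn]
        exact Subgroup.mem_top _
      rw [h2] at h1
      exact h1.symm
    have := h.2 _ hAN hHN
    rw [eq_top_iff]
    intro x _
    obtain ⟨y, hy, hyx⟩ := this x.2
    have : y = x := Subtype.ext hyx
    exact this ▸ hy

theorem full_top_of_normalClosure {A : Subgroup G}
    (h : Subgroup.normalClosure (A : Set G) = ⊤) : Full A ⊤ := by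
  refine ⟨le_top, ?_⟩
  intro N hAN hN
  have hn : N.Normal := Subgroup.normalizer_eq_top_iff.mp (top_le_iff.mp hN)
  have : Subgroup.normalClosure (A : Set G) ≤ N := Subgroup.normalClosure_le_normal hAN
  rwa [h] at this

end Cfsg.Agent.Lib.Helper9.Flavell
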