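import Mathlib
import Cfsg.Agent.Lib.Helper9.Flavell1

set_option autoImplicit false

/-!
# Flavell's Theorem A, part 2: bad subgroups and their base maximal subgroup
-/

namespace Cfsg.Agent.Lib.Helper9.Flavell

open Cfsg.Agent.Lib.Helper7

variable {G : Type*} [Group G]

/-- the join of the proper full overgroups of `A` -/
def YY (A : Subgroup G) : Subgroup G := sSup {H : Subgroup G | H ≠ ⊤ ∧ Full A H}

/-- a counterexample to Theorem A -/
def Bad (A : Subgroup G) : Prop :=
  A ≠ ⊤ ∧ Full A ⊤ ∧ YY A ≠ ⊤ ∧ ¬ ∃! M : Subgroup G, IsCoatom M ∧ A ≤ M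

theorem cj_top (g : G) : cj g (⊤ : Subgroup G) = ⊤ :=
  Subgroup.map_top_of_surjective _ (MulAut.conj g).surjective

theorem cj_eq_top_iff (g : G) (H : Subgroup G) : cj g H = ⊤ ↔ H = ⊤ := by
  constructor
  · intro h
    apply cj_injective g
    rw [h, cj_top]
  · rintro rfl
    exact cj_top g

theorem isCoatom_cj {M : Subgroup G} (hM : IsCoatom M) (g : G) : IsCoatom (cj g M) := by
  refine ⟨fun h => hM.1 ((cj_eq_top_iff g M).mp h), ?_⟩
  intro X hX
  have h1 : M < cj g⁻¹ X := by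
    have := (cj_lt_cj_iff g⁻¹).mpr hX
    rwa [cj_inv_cj] at this
  have h2 := hM.2 _ h1
  exact (cj_eq_top_iff g⁻¹ X).mp h2

theorem YY_conj_le (A : Subgroup G) (g : G) : YY (cj g A) ≤ cj g (YY A) := by
  apply sSup_le
  rintro H ⟨hH, hF⟩
  have h1 : Full A (cj g⁻¹ H) := by
    have := hF.conj g⁻¹
    rwa [cj_inv_cj] at this
  have h2 : cj g⁻¹ H ≠ ⊤ := fun h => hH ((cj_eq_top_iff g⁻¹ H).mp h)
  have h3 : cj g⁻¹ H ≤ YY A := le_sSup ⟨h2, h1⟩
  have := cj_mono g h3
  rwa [cj_cj_inv] at this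

theorem Bad.conj {A : Subgroup G} (h : Bad A) (g : G) : Bad (cj g A) := by
  obtain ⟨h1, h2, h3, h4⟩ := h
  refine ⟨fun h => h1 ((cj_eq_top_iff g A).mp h), ?_, ?_, ?_⟩
  · have := h2.conj g
    rwa [cj_top] at this
  · intro h
    apply h3
    have : cj g (YY A) = ⊤ := top_le_iff.mp (h ▸ YY_conj_le A g)
    exact (cj_eq_top_iff g _).mp this
  · rintro ⟨M, ⟨hM, hAM⟩, huniq⟩
    apply h4
    refine ⟨cj g⁻¹ M, ⟨isCoatom_cj hM g⁻¹, ?_⟩, ?_⟩
    · have := cj_mono g⁻¹ hAM
      rwa [cj_inv_cj] at this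
    · rintro M' ⟨hM', hAM'⟩
      have := huniq (cj g M') ⟨isCoatom_cj hM' g, cj_mono g hAM'⟩
      rw [← this, cj_inv_cj]

/-- every proper subgroup of a finite group lies in a maximal subgroup -/
theorem exists_coatom_ge [Finite G] {H : Subgroup G} (hH : H ≠ ⊤) :
    ∃ M : Subgroup G, IsCoatom M ∧ H ≤ M := by
  obtain ⟨M, hHM, hM⟩ := exists_maxIn_ge (lt_top_iff_ne_top.mpr hH)
  exact ⟨M, maxIn_top_iff.mp hM, hHM⟩

/-- membership in the class of bad subgroups of order `n` -/
def InB (n : ℕ) (B : Subgroup G) : Prop := Nat.card B = n ∧ Bad B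

theorem InB.conj {n : ℕ} {B : Subgroup G} (h : InB n B) (g : G) : InB n (cj g B) :=
  ⟨(card_cj g B).trans h.1, h.2.conj g⟩

theorem InB.full_top {n : ℕ} {B : Subgroup G} (h : InB n B) : Full B ⊤ := h.2.2.1

theorem InB.eq_of_le [Finite G] {n : ℕ} {B B' : Subgroup G} (h : InB n B) (h' : InB n B')
    (hle : B ≤ B') : B = B' :=
  Subgroup.eq_of_le_of_card_ge hle (by rw [h.1, h'.1])

section Induction

variable [Finite G] {n : ℕ} (hmax : ∀ T : Subgroup G, n < Nat.card T → ¬ Bad T)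

include hmax

/-- the dichotomy for larger subgroups -/
theorem dich {T : Subgroup G} (hT : T ≠ ⊤) (hfull : Full T ⊤) (hcard : n < Nat.card T) :
    YY T = ⊤ ∨ ∃! M : Subgroup G, IsCoatom M ∧ T ≤ M := by
  by_contra hcon
  push Not at hcon
  exact hmax T hcard ⟨hT, hfull, hcon.1, hcon.2⟩

theorem isolated_of_nsub {B K : Subgroup G} (hB : InB n B) (hK : IsCoatom K) (hBK : B ≤ K)
    (h1 : ¬ SubnIn B K) :
    YY B ≤ K ∧ ∀ K' : Subgroup G, IsCoatom K' → YY B ≤ K' → K' = K := by
  obtain ⟨S, hBS, hSK, hFS⟩ := exists_min_subn hBK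
  have hSB : S ≠ B := by
    rintro rfl
    exact h1 hSK
  have hlt : B < S := lt_of_le_of_ne hBS (Ne.symm hSB)
  have hcard : n < Nat.card S := by
    have := card_lt_of_lt hlt
    rwa [hB.1] at this
  have hStop : S ≠ ⊤ := by
    rintro rfl
    exact hK.1 (top_le_iff.mp hSK.le)
  have hSfull : Full S ⊤ := hB.full_top.mono_left hBS le_top
  have hYS : YY S ≤ YY B := by
    apply sSup_le
    rintro H ⟨hH, hF⟩
    exact le_sSup ⟨hH, hFS.trans hF⟩
  have hYB : YY B ≠ ⊤ := hB.2.2.2.1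
  have hYS' : YY S ≠ ⊤ := fun h => hYB (top_le_iff.mp (h ▸ hYS))
  have hSY : S ≤ YY B := le_sSup ⟨hStop, hFS⟩
  rcases dich hmax hStop hSfull hcard with h | ⟨M, ⟨hM, hSM⟩, huniq⟩
  · exact absurd h hYS'
  · have hKM : K = M := huniq K ⟨hK, hSK.le⟩
    have key : ∀ K' : Subgroup G, IsCoatom K' → YY B ≤ K' → K' = K := by
      intro K' hK' hYK'
      rw [hKM]
      exact huniq K' ⟨hK', hSY.trans hYK'⟩
    obtain ⟨M'', hM'', hYM''⟩ := exists_coatom_ge hYB
    have := key M'' hM'' hYM''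
    exact ⟨this ▸ hYM'', key⟩

theorem base_unique {B K K' : Subgroup G} (hB : InB n B) (hK : IsCoatom K) (hK' : IsCoatom K')
    (hBK : B ≤ K) (hBK' : B ≤ K') (h1 : ¬ SubnIn B K) (h2 : ¬ SubnIn B K') : K = K' := by
  obtain ⟨_, key⟩ := isolated_of_nsub hmax hB hK' hBK' h2
  obtain ⟨hY, _⟩ := isolated_of_nsub hmax hB hK hBK h1
  exact key K hK hY

theorem exists_base {B : Subgroup G} (hB : InB n B) :
    ∃ K : Subgroup G, IsCoatom K ∧ B ≤ K ∧ ¬ SubnIn B K := by
  by_contra hcon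
  push Not at hcon
  have hns : ¬ B.IsSubnormal := by
    intro h
    have := hB.full_top.eq_of_subnIn (subnIn_top_iff.mpr h)
    exact hB.2.1 this.symm
  have hprop : ∀ H : Subgroup G, B ≤ H → H ≠ ⊤ → SubnIn B H := by
    intro H hBH hH
    obtain ⟨K, hK, hHK⟩ := exists_coatom_ge hH
    exact (hcon K hK (hBH.trans hHK)).of_le hBH hHK
  obtain ⟨M, hM, hBM⟩ := exists_coatom_ge hB.2.1
  apply hB.2.2.2.2
  refine ⟨M, ⟨hM, hBM⟩, ?_⟩
  rintro K' ⟨hK', hBK'⟩
  exact zipper_top hns hprop hK' hM hBK' hBM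

end Induction

open Classical in
/-- the (unique) maximal subgroup containing `B` in which `B` is not subnormal -/
noncomputable def base (B : Subgroup G) : Subgroup G :=
  if h : ∃ K : Subgroup G, IsCoatom K ∧ B ≤ K ∧ ¬ SubnIn B K then Classical.choose h else ⊤

section Induction2

variable [Finite G] {n : ℕ} (hmax : ∀ T : Subgroup G, n < Nat.card T → ¬ Bad T)

include hmax

theorem base_spec {B : Subgroup G} (hB : InB n B) :
    IsCoatom (base B) ∧ B ≤ base B ∧ ¬ SubnIn B (base B) := by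
  have h := exists_base hmax hB
  unfold base
  rw [dif_pos h]
  exact Classical.choose_spec h

theorem base_isCoatom {B : Subgroup G} (hB : InB n B) : IsCoatom (base B) :=
  (base_spec hmax hB).1

theorem le_base {B : Subgroup G} (hB : InB n B) : B ≤ base B := (base_spec hmax hB).2.1

theorem not_subnIn_base {B : Subgroup G} (hB : InB n B) : ¬ SubnIn B (base B) :=
  (base_spec hmax hB).2.2

theorem eq_base {B K : Subgroup G} (hB : InB n B) (hK : IsCoatom K) (hBK : B ≤ K)
    (h : ¬ SubnIn B K) : K = base B :=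
  base_unique hmax hB hK (base_isCoatom hmax hB) hBK (le_base hmax hB) h (not_subnIn_base hmax hB)

theorem subnIn_of_ne_base {B K : Subgroup G} (hB : InB n B) (hK : IsCoatom K) (hBK : B ≤ K)
    (hne : K ≠ base B) : SubnIn B K := by
  by_contra h
  exact hne (eq_base hmax hB hK hBK h)

theorem base_conj {B : Subgroup G} (hB : InB n B) (g : G) : base (cj g B) = cj g (base B) := by
  symm
  apply eq_base hmax (hB.conj g) (isCoatom_cj (base_isCoatom hmax hB) g)
    (cj_mono g (le_base hmax hB))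
  intro h
  have := h.conj g⁻¹
  rw [cj_inv_cj, cj_inv_cj] at this
  exact not_subnIn_base hmax hB this

theorem normalizer_base {B : Subgroup G} (hB : InB n B) :
    Subgroup.normalizer ((base B : Subgroup G) : Set G) = base B := by
  have hM := base_isCoatom hmax hB
  rcases eq_or_lt_of_le (Subgroup.le_normalizer : base B ≤ Subgroup.normalizer (base B : Set G))
    with h | h
  · exact h.symm
  · exfalso
    have htop := hM.2 _ h
    have := hB.full_top.2 (base B) (le_base hmax hB) (htop ▸ le_rfl)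
    exact hM.1 (top_le_iff.mp this)

theorem normalizer_le_base {B : Subgroup G} (hB : InB n B) :
    Subgroup.normalizer (B : Set G) ≤ base B := by
  intro g hg
  have h1 : cj g B = B := mem_normalizer_iff_cj.mp hg
  have h2 := base_conj hmax hB g
  rw [h1] at h2
  rw [← normalizer_base hmax hB, mem_normalizer_iff_cj]
  exact h2.symm

end Induction2

end Cfsg.Agent.Lib.Helper9.Flavell
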