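import Mathlib
import Cfsg.Agent.Lib.Helper9.Flavell2

set_option autoImplicit false

/-!
# Flavell's Theorem A, part 3: the key tool and adjacency of bad subgroups
-/

namespace Cfsg.Agent.Lib.Helper9.Flavell

open Cfsg.Agent.Lib.Helper7

variable {G : Type*} [Group G]

/-- adjacency: different bases, mutually normalizing -/
def Adj (B B' : Subgroup G) : Prop :=
  base B ≠ base B' ∧ B ≤ Subgroup.normalizer (B' : Set G) ∧ B' ≤ Subgroup.normalizer (B : Set G)

theorem Adj.symm {B B' : Subgroup G} (h : Adj B B') : Adj B' B := ⟨h.1.symm, h.2.2, h.2.1⟩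

section Induction3

variable [Finite G] {n : ℕ} (hmax : ∀ T : Subgroup G, n < Nat.card T → ¬ Bad T)

include hmax

/-- the key tool (†) -/
theorem dagger {𝒟 : Set (Subgroup G)} (h𝒟 : ∀ C ∈ 𝒟, InB n C) {C0 : Subgroup G} (hC0 : C0 ∈ 𝒟)
    (hcard : n < Nat.card (sSup 𝒟 : Subgroup G)) {K0 K1 : Subgroup G} (hK0 : IsCoatom K0)
    (hK1 : IsCoatom K1) (hne : K0 ≠ K1) (h0 : sSup 𝒟 ≤ K0) (h1 : sSup 𝒟 ≤ K1) :
    ∃ C ∈ 𝒟, base C ≠ K0 ∧ sSup 𝒟 ≤ base C := by
  have hTtop : sSup 𝒟 ≠ ⊤ := by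
    intro h
    rw [h] at h0
    exact hK0.1 (top_le_iff.mp h0)
  have hfull : Full (sSup 𝒟) ⊤ := (h𝒟 C0 hC0).full_top.mono_left (le_sSup hC0) le_top
  rcases dich hmax hTtop hfull hcard with hY | ⟨M, _, huniq⟩
  · by_contra hcon
    push Not at hcon
    have hle : YY (sSup 𝒟) ≤ K0 := by
      apply sSup_le
      rintro H ⟨hH, hF⟩
      obtain ⟨K', hK', hHK'⟩ := exists_coatom_ge hH
      by_cases hKK : K' = K0
      · exact hKK ▸ hHK'
      · have hsub : ∀ C ∈ 𝒟, SubnIn C K' := by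
          intro C hC
          have hCK' : C ≤ K' := (le_sSup hC).trans (hF.1.trans hHK')
          apply subnIn_of_ne_base hmax (h𝒟 C hC) hK' hCK'
          intro hb
          exact hcon C hC (hb ▸ hKK) (hb ▸ hF.1.trans hHK')
        have hT : SubnIn (sSup 𝒟) K' := SubnIn.sSup 𝒟 K' hsub
        have hTH : SubnIn (sSup 𝒟) H := hT.of_le hF.1 hHK'
        have := hF.eq_of_subnIn hTH
        exact this ▸ h0
    rw [hY] at hle
    exact hK0.1 (top_le_iff.mp hle)
  · exact absurd ((huniq K0 ⟨hK0, h0⟩).trans (huniq K1 ⟨hK1, h1⟩).symm) hne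

theorem card_sup_gt {B B' : Subgroup G} (hB : InB n B) (hB' : InB n B') (hne : B ≠ B') :
    n < Nat.card (B ⊔ B' : Subgroup G) := by
  have hlt : B < B ⊔ B' := by
    refine lt_of_le_of_ne le_sup_left ?_
    intro h
    have hle : B' ≤ B := h ▸ le_sup_right
    exact hne (hB'.eq_of_le hB hle).symm
  have := card_lt_of_lt hlt
  rwa [hB.1] at this

theorem dagger2 {B B' : Subgroup G} (hB : InB n B) (hB' : InB n B') (hne : B ≠ B')
    {K0 K1 : Subgroup G} (hK0 : IsCoatom K0) (hK1 : IsCoatom K1) (hK : K0 ≠ K1)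
    (h0 : B ⊔ B' ≤ K0) (h1 : B ⊔ B' ≤ K1) :
    (base B ≠ K0 ∧ B ⊔ B' ≤ base B) ∨ (base B' ≠ K0 ∧ B ⊔ B' ≤ base B') := by
  have hs : sSup ({B, B'} : Set (Subgroup G)) = B ⊔ B' := sSup_pair
  have h𝒟 : ∀ C ∈ ({B, B'} : Set (Subgroup G)), InB n C := by
    rintro C (rfl | rfl)
    · exact hB
    · exact hB'
  obtain ⟨C, hC, hC1, hC2⟩ := dagger hmax h𝒟 (Set.mem_insert B {B'})
    (by rw [hs]; exact card_sup_gt hmax hB hB' hne) hK0 hK1 hK (hs ▸ h0) (hs ▸ h1)
  rw [hs] at hC2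
  rcases hC with rfl | rfl
  · exact Or.inl ⟨hC1, hC2⟩
  · exact Or.inr ⟨hC1, hC2⟩

theorem dagger3 {A C C' : Subgroup G} (hA : InB n A) (hC : InB n C) (hC' : InB n C')
    (hne : A ≠ C)
    {K0 K1 : Subgroup G} (hK0 : IsCoatom K0) (hK1 : IsCoatom K1) (hK : K0 ≠ K1)
    (h0 : A ⊔ (C ⊔ C') ≤ K0) (h1 : A ⊔ (C ⊔ C') ≤ K1) :
    (base A ≠ K0 ∧ A ⊔ (C ⊔ C') ≤ base A) ∨ (base C ≠ K0 ∧ A ⊔ (C ⊔ C') ≤ base C) ∨
      (base C' ≠ K0 ∧ A ⊔ (C ⊔ C') ≤ base C') := by
  have hs : sSup ({A, C, C'} : Set (Subgroup G)) = A ⊔ (C ⊔ C') := by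
    rw [sSup_insert, sSup_pair]
  have h𝒟 : ∀ D ∈ ({A, C, C'} : Set (Subgroup G)), InB n D := by
    rintro D (rfl | rfl | rfl)
    · exact hA
    · exact hC
    · exact hC'
  have hcard : n < Nat.card (A ⊔ (C ⊔ C') : Subgroup G) := by
    have h2 : A ⊔ C ≤ A ⊔ (C ⊔ C') := sup_le le_sup_left (le_sup_left.trans le_sup_right)
    exact lt_of_lt_of_le (card_sup_gt hmax hA hC hne) (Subgroup.card_le_of_le h2)
  obtain ⟨D, hD, hD1, hD2⟩ := dagger hmax h𝒟 (Set.mem_insert A {C, C'})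
    (by rw [hs]; exact hcard) hK0 hK1 hK (hs ▸ h0) (hs ▸ h1)
  rw [hs] at hD2
  rcases hD with rfl | rfl | rfl
  · exact Or.inl ⟨hD1, hD2⟩
  · exact Or.inr (Or.inl ⟨hD1, hD2⟩)
  · exact Or.inr (Or.inr ⟨hD1, hD2⟩)

/-- two members with the same base inside another maximal subgroup coincide -/
theorem eq_of_same_base {B B' : Subgroup G} (hB : InB n B) (hB' : InB n B')
    (hbase : base B = base B') {K : Subgroup G} (hK : IsCoatom K) (hKne : K ≠ base B)
    (hBK : B ≤ K) (hB'K : B' ≤ K) : B = B' := by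
  by_contra hne
  have h0 : B ⊔ B' ≤ base B := sup_le (le_base hmax hB) (hbase ▸ le_base hmax hB')
  rcases dagger2 hmax hB hB' hne (base_isCoatom hmax hB) hK (Ne.symm hKne) h0
    (sup_le hBK hB'K) with h | h
  · exact h.1 rfl
  · exact h.1 hbase.symm

theorem inf_base_le_normalizer {B K : Subgroup G} (hB : InB n B) (hK : IsCoatom K)
    (hBK : B ≤ K) (hne : K ≠ base B) : K ⊓ base B ≤ Subgroup.normalizer (B : Set G) := by
  rintro g ⟨hgK, hgb⟩
  have h1 : base (cj g B) = base B := by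
    rw [base_conj hmax hB g]
    exact cj_eq_self_of_mem hgb
  have h2 : cj g B ≤ K := cj_le_of_mem hgK hBK
  have := eq_of_same_base hmax hB (hB.conj g) h1.symm hK hne hBK h2
  exact mem_normalizer_iff_cj.mpr this.symm

theorem adj_of_normalizes {B B' : Subgroup G} (hB : InB n B) (hB' : InB n B')
    (hbase : base B ≠ base B') (hN : B' ≤ Subgroup.normalizer (B : Set G)) {K : Subgroup G}
    (hK : IsCoatom K) (hKne : K ≠ base B) (hle : B ⊔ B' ≤ K) :
    B ≤ base B' ∧ B ≤ Subgroup.normalizer (B' : Set G) := by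
  have hne : B ≠ B' := by
    rintro rfl
    exact hbase rfl
  have hB'b : B' ≤ base B := hN.trans (normalizer_le_base hmax hB)
  have h0 : B ⊔ B' ≤ base B := sup_le (le_base hmax hB) hB'b
  rcases dagger2 hmax hB hB' hne (base_isCoatom hmax hB) hK (Ne.symm hKne) h0 hle with h | h
  · exact absurd rfl h.1
  · have hBb' : B ≤ base B' := le_sup_left.trans h.2
    refine ⟨hBb', ?_⟩
    have := inf_base_le_normalizer hmax hB' (base_isCoatom hmax hB) hB'b hbase
    exact (le_inf (le_base hmax hB) hBb').trans this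

theorem adj_of_le {A X K : Subgroup G} (hA : InB n A) (hK : IsCoatom K) (hKne : K ≠ base A)
    (hXb : X ≤ base A) (hXK : X ≤ K) (hAX : A ≤ X) {C : Subgroup G} (hC : InB n C)
    (hCX : C ≤ X) (hne : C ≠ A) : Adj A C := by
  have hAK : A ≤ K := hAX.trans hXK
  have hCN : C ≤ Subgroup.normalizer (A : Set G) :=
    (hCX.trans (le_inf hXK hXb)).trans (inf_base_le_normalizer hmax hA hK hAK hKne)
  have hbase : base A ≠ base C := by
    intro h
    exact hne (eq_of_same_base hmax hA hC h hK hKne hAK (hCX.trans hXK)).symm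
  have := adj_of_normalizes hmax hA hC hbase hCN hK hKne (sup_le hAK (hCX.trans hXK))
  exact ⟨hbase, this.2, hCN⟩

theorem adj_of_le_aux {A X K : Subgroup G} (hA : InB n A) (hK : IsCoatom K) (hKne : K ≠ base A)
    (hXb : X ≤ base A) (hXK : X ≤ K) (hAX : A ≤ X) {C C' : Subgroup G} (hC : InB n C)
    (hC' : InB n C') (hCX : C ≤ X) (hC'X : C' ≤ X) (hCA : C ≠ A) (hCC' : C ≠ C')
    (hle : C' ≤ base C) : Adj C C' := by
  have hAC := adj_of_le hmax hA hK hKne hXb hXK hAX hC hCX hCA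
  have hMA := base_isCoatom hmax hA
  have hCb : C ≤ base A := hCX.trans hXb
  have hC'b : C' ≤ base A := hC'X.trans hXb
  have hbase : base C ≠ base C' := by
    intro h
    exact hCC' (eq_of_same_base hmax hC hC' h hMA hAC.1 hCb hC'b)
  have hN : C' ≤ Subgroup.normalizer (C : Set G) :=
    (le_inf hC'b hle).trans (inf_base_le_normalizer hmax hC hMA hCb hAC.1)
  have := adj_of_normalizes hmax hC hC' hbase hN hMA hAC.1 (sup_le hCb hC'b)
  exact ⟨hbase, this.2, hN⟩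

/-- the bad subgroups inside a non-isolated overgroup of `A` (inside `base A`) form a clique -/
theorem clique_of_le {A X K : Subgroup G} (hA : InB n A) (hK : IsCoatom K) (hKne : K ≠ base A)
    (hXb : X ≤ base A) (hXK : X ≤ K) (hAX : A ≤ X) {C C' : Subgroup G} (hC : InB n C)
    (hC' : InB n C') (hCX : C ≤ X) (hC'X : C' ≤ X) : C = C' ∨ Adj C C' := by
  by_cases hCC' : C = C'
  · exact Or.inl hCC'
  right
  by_cases hCA : C = A
  · subst hCA
    exact adj_of_le hmax hC hK hKne hXb hXK hAX hC' hC'X (Ne.symm hCC')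
  by_cases hC'A : C' = A
  · subst hC'A
    exact (adj_of_le hmax hC' hK hKne hXb hXK hAX hC hCX hCC').symm
  have h0 : A ⊔ (C ⊔ C') ≤ base A := (sup_le hAX (sup_le hCX hC'X)).trans hXb
  have h1 : A ⊔ (C ⊔ C') ≤ K := (sup_le hAX (sup_le hCX hC'X)).trans hXK
  rcases dagger3 hmax hA hC hC' (Ne.symm hCA) (base_isCoatom hmax hA) hK (Ne.symm hKne) h0 h1
    with h | h | h
  · exact absurd rfl h.1
  · exact adj_of_le_aux hmax hA hK hKne hXb hXK hAX hC hC' hCX hC'X hCA hCC'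
      ((le_sup_right.trans le_sup_right).trans h.2)
  · exact (adj_of_le_aux hmax hA hK hKne hXb hXK hAX hC' hC hC'X hCX hC'A (Ne.symm hCC')
      ((le_sup_left.trans le_sup_right).trans h.2)).symm

end Induction3

end Cfsg.Agent.Lib.Helper9.Flavell
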