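import Mathlib
import Cfsg.Agent.Lib.Helper9.Flavell3

set_option autoImplicit false

/-!
# Flavell's Theorem A, part 4: cliques of bad subgroups and the final contradiction
-/

namespace Cfsg.Agent.Lib.Helper9.Flavell

open Cfsg.Agent.Lib.Helper7

variable {G : Type*} [Group G]

/-- the bad subgroups of order `n` inside `base P ⊓ base P'` -/
def Cl (n : ℕ) (P P' : Subgroup G) : Set (Subgroup G) :=
  {C | InB n C ∧ C ≤ base P ⊓ base P'}

/-- the stabilizer of a set of subgroups under conjugation -/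
def stab (𝒞 : Set (Subgroup G)) : Subgroup G where
  carrier := {g | (∀ C ∈ 𝒞, cj g C ∈ 𝒞) ∧ (∀ C ∈ 𝒞, cj g⁻¹ C ∈ 𝒞)}
  one_mem' := by
    constructor
    · intro C hC
      rw [cj_one]; exact hC
    · intro C hC
      rw [inv_one, cj_one]; exact hC
  mul_mem' := by
    rintro a b ⟨ha1, ha2⟩ ⟨hb1, hb2⟩
    constructor
    · intro C hC
      rw [cj_mul]
      exact ha1 _ (hb1 C hC)
    · intro C hC
      rw [mul_inv_rev, cj_mul]
      exact hb2 _ (ha2 C hC)
  inv_mem' := by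
    rintro a ⟨ha1, ha2⟩
    refine ⟨ha2, ?_⟩
    intro C hC
    rw [inv_inv]
    exact ha1 C hC

theorem mem_stab {𝒞 : Set (Subgroup G)} {g : G} :
    g ∈ stab 𝒞 ↔ (∀ C ∈ 𝒞, cj g C ∈ 𝒞) ∧ (∀ C ∈ 𝒞, cj g⁻¹ C ∈ 𝒞) := Iff.rfl

theorem coatom_eq_of_le {K M : Subgroup G} (hK : IsCoatom K) (hM : IsCoatom M) (h : K ≤ M) :
    K = M := by
  rcases eq_or_lt_of_le h with h | h
  · exact h
  · exact absurd (hK.2 M h) hM.1

section Induction4

variable [Finite G] {n : ℕ} (hmax : ∀ T : Subgroup G, n < Nat.card T → ¬ Bad T)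

include hmax

theorem Adj.conj {P P' : Subgroup G} (hP : InB n P) (hP' : InB n P') (h : Adj P P') (g : G) :
    Adj (cj g P) (cj g P') := by
  refine ⟨?_, le_normalizer_cj h.2.1, le_normalizer_cj h.2.2⟩
  rw [base_conj hmax hP, base_conj hmax hP']
  intro hh
  exact h.1 (cj_injective g hh)

theorem Cl_conj {P P' C : Subgroup G} (hP : InB n P) (hP' : InB n P') (hC : C ∈ Cl n P P')
    (g : G) : cj g C ∈ Cl n (cj g P) (cj g P') := by
  refine ⟨hC.1.conj g, ?_⟩
  rw [base_conj hmax hP, base_conj hmax hP', ← cj_inf]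
  exact cj_mono g hC.2

theorem mem_Cl_left {P P' : Subgroup G} (hP : InB n P) (hP' : InB n P') (h : Adj P P') :
    P ∈ Cl n P P' :=
  ⟨hP, le_inf (le_base hmax hP) (h.2.1.trans (normalizer_le_base hmax hP'))⟩

theorem mem_Cl_right {P P' : Subgroup G} (hP : InB n P) (hP' : InB n P') (h : Adj P P') :
    P' ∈ Cl n P P' :=
  ⟨hP', le_inf (h.2.2.trans (normalizer_le_base hmax hP)) (le_base hmax hP')⟩

theorem Cl_clique {P P' : Subgroup G} (hP : InB n P) (hP' : InB n P') (h : Adj P P')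
    {C C' : Subgroup G} (hC : C ∈ Cl n P P') (hC' : C' ∈ Cl n P P') : C = C' ∨ Adj C C' :=
  clique_of_le hmax hP (base_isCoatom hmax hP') h.1.symm inf_le_left inf_le_right
    (mem_Cl_left hmax hP hP' h).2 hC.1 hC'.1 hC.2 hC'.2

theorem Cl_le_base {P P' : Subgroup G} (hP : InB n P) (hP' : InB n P') (h : Adj P P')
    {C B : Subgroup G} (hC : C ∈ Cl n P P') (hB : B ∈ Cl n P P') : C ≤ base B := by
  rcases Cl_clique hmax hP hP' h hC hB with rfl | hadj
  · exact le_base hmax hC.1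
  · exact hadj.2.1.trans (normalizer_le_base hmax hB.1)

theorem Cl_eq {P P' : Subgroup G} (hP : InB n P) (hP' : InB n P') (h : Adj P P')
    {B B' : Subgroup G} (hB : B ∈ Cl n P P') (hB' : B' ∈ Cl n P P') (hne : B ≠ B') :
    Cl n B B' = Cl n P P' := by
  have hadjB : Adj B B' := (Cl_clique hmax hP hP' h hB hB').resolve_left hne
  have hPm : P ∈ Cl n B B' :=
    ⟨hP, le_inf (Cl_le_base hmax hP hP' h (mem_Cl_left hmax hP hP' h) hB)
      (Cl_le_base hmax hP hP' h (mem_Cl_left hmax hP hP' h) hB')⟩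
  have hP'm : P' ∈ Cl n B B' :=
    ⟨hP', le_inf (Cl_le_base hmax hP hP' h (mem_Cl_right hmax hP hP' h) hB)
      (Cl_le_base hmax hP hP' h (mem_Cl_right hmax hP hP' h) hB')⟩
  ext C
  constructor
  · intro hC
    exact ⟨hC.1, le_inf (Cl_le_base hmax hB.1 hB'.1 hadjB hC hPm)
      (Cl_le_base hmax hB.1 hB'.1 hadjB hC hP'm)⟩
  · intro hC
    exact ⟨hC.1, le_inf (Cl_le_base hmax hP hP' h hC hB) (Cl_le_base hmax hP hP' h hC hB')⟩

theorem mem_stab_of_two {P P' : Subgroup G} (hP : InB n P) (hP' : InB n P') (h : Adj P P')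
    {B B' : Subgroup G} (hB : B ∈ Cl n P P') (hB' : B' ∈ Cl n P P') (hne : B ≠ B') {g : G}
    (hg : cj g B ∈ Cl n P P') (hg' : cj g B' ∈ Cl n P P') : g ∈ stab (Cl n P P') := by
  have hne' : cj g B ≠ cj g B' := fun hh => hne (cj_injective g hh)
  have hadjg := h.conj hmax hP hP' g
  have e1 : Cl n (cj g B) (cj g B') = Cl n P P' := Cl_eq hmax hP hP' h hg hg' hne'
  have e2 : Cl n (cj g B) (cj g B') = Cl n (cj g P) (cj g P') :=
    Cl_eq hmax (hP.conj g) (hP'.conj g) hadjg (Cl_conj hmax hP hP' hB g)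
      (Cl_conj hmax hP hP' hB' g) hne'
  have e3 : Cl n (cj g P) (cj g P') = Cl n P P' := e2.symm.trans e1
  constructor
  · intro C hC
    rw [← e3]
    exact Cl_conj hmax hP hP' hC g
  · intro C hC
    rw [← e3] at hC
    have := Cl_conj hmax (hP.conj g) (hP'.conj g) hC g⁻¹
    rwa [cj_inv_cj, cj_inv_cj] at this

theorem no_bad_aux {A : Subgroup G} (hA : InB n A) : False := by
  have hM0 := base_isCoatom hmax hA
  have hAM0 := le_base hmax hA
  -- another maximal subgroup containing `A`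
  obtain ⟨K, hK, hAK, hKne⟩ : ∃ K : Subgroup G, IsCoatom K ∧ A ≤ K ∧ K ≠ base A := by
    by_contra hcon
    push Not at hcon
    exact hA.2.2.2.2 ⟨base A, ⟨hM0, hAM0⟩, fun K' hK' => hcon K' hK'.1 hK'.2⟩
  have hsub : SubnIn A K := subnIn_of_ne_base hmax hA hK hAK hKne
  have hKN : ¬ K ≤ Subgroup.normalizer (A : Set G) := fun hh =>
    hKne (coatom_eq_of_le hK hM0 (hh.trans (normalizer_le_base hmax hA)))
  obtain ⟨x, hxK, hx1, hx2, hx3⟩ := hsub.exists_conj_normalizing hKN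
  have hC1 : InB n (cj x A) := hA.conj x
  have hC1K : cj x A ≤ K := cj_le_of_mem hxK hAK
  have hbase1 : base A ≠ base (cj x A) := fun hh =>
    hx1 (eq_of_same_base hmax hA hC1 hh hK hKne hAK hC1K).symm
  have hadj : Adj A (cj x A) := ⟨hbase1, hx3, hx2⟩
  have hM1 := base_isCoatom hmax hC1
  have hA𝒞 : A ∈ Cl n A (cj x A) := mem_Cl_left hmax hA hC1 hadj
  have hC1𝒞 : cj x A ∈ Cl n A (cj x A) := mem_Cl_right hmax hA hC1 hadj
  -- a third member
  have hAM1 : A ≤ base (cj x A) := hA𝒞.2.trans inf_le_right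
  have hsub1 : SubnIn A (base (cj x A)) := subnIn_of_ne_base hmax hA hM1 hAM1 hbase1.symm
  have hM1N : ¬ base (cj x A) ≤ Subgroup.normalizer (A : Set G) := fun hh =>
    hbase1.symm (coatom_eq_of_le hM1 hM0 (hh.trans (normalizer_le_base hmax hA)))
  obtain ⟨x1, hx1M, hy1, hy2, hy3⟩ := hsub1.exists_conj_normalizing hM1N
  have hC2 : InB n (cj x1 A) := hA.conj x1
  have hC2𝒞 : cj x1 A ∈ Cl n A (cj x A) :=
    ⟨hC2, le_inf (hy2.trans (normalizer_le_base hmax hA)) (cj_le_of_mem hx1M hAM1)⟩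
  have hC12 : cj x A ≠ cj x1 A := by
    intro hh
    have h1 : base (cj x1 A) = cj x1 (base A) := base_conj hmax hA x1
    rw [← hh] at h1
    have h2 : cj x1⁻¹ (base (cj x A)) = base A := by rw [h1, cj_inv_cj]
    rw [cj_eq_self_of_mem (Subgroup.inv_mem _ hx1M)] at h2
    exact hbase1 h2.symm
  -- the stabilizer of the clique
  have hxinv : cj x⁻¹ A ∈ Cl n A (cj x A) := by
    have h1 : cj x⁻¹ A ≤ Subgroup.normalizer (A : Set G) := by
      have := le_normalizer_cj (g := x⁻¹) hx3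
      rwa [cj_inv_cj] at this
    have h2 : cj x⁻¹ A ≤ base A := h1.trans (normalizer_le_base hmax hA)
    have h3 : cj x⁻¹ A ≤ K := cj_le_of_mem (Subgroup.inv_mem _ hxK) hAK
    refine ⟨hA.conj x⁻¹, le_inf h2 ?_⟩
    rcases clique_of_le hmax hA hK hKne (inf_le_right : K ⊓ base A ≤ base A) inf_le_left
      (le_inf hAK hAM0) (hA.conj x⁻¹) hC1 (le_inf h3 h2) (le_inf hC1K (hC1𝒞.2.trans inf_le_left))
      with hh | hh
    · rw [hh]; exact le_base hmax hC1
    · exact hh.2.1.trans (normalizer_le_base hmax hC1)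
  have hxinvne : cj x⁻¹ A ≠ A := by
    intro hh
    apply hx1
    have := congrArg (cj x) hh
    rw [cj_cj_inv] at this
    exact this.symm
  have hx𝒩 : x ∈ stab (Cl n A (cj x A)) := by
    apply mem_stab_of_two hmax hA hC1 hadj hxinv hA𝒞 hxinvne
    · rw [cj_cj_inv]; exact hA𝒞
    · exact hC1𝒞
  have hxM0 : x ∉ base A := by
    intro hh
    apply hbase1
    rw [base_conj hmax hA x, cj_eq_self_of_mem hh]
  have hNM : stab (Cl n A (cj x A)) ⊓ base A ≤ Subgroup.normalizer (A : Set G) := by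
    rintro g ⟨hg1, hg2⟩
    have h1 : cj g A ∈ Cl n A (cj x A) := hg1.1 A hA𝒞
    rcases Cl_clique hmax hA hC1 hadj h1 hA𝒞 with hh | hh
    · exact mem_normalizer_iff_cj.mpr hh
    · exfalso
      apply hh.1
      rw [base_conj hmax hA g, cj_eq_self_of_mem hg2]
  have hC𝒩 : ∀ C ∈ Cl n A (cj x A), C ≤ stab (Cl n A (cj x A)) := by
    intro C hC c hc
    have key : ∀ d ∈ C, ∀ C' ∈ Cl n A (cj x A), cj d C' ∈ Cl n A (cj x A) := by
      intro d hd C' hC'
      have : d ∈ Subgroup.normalizer (C' : Set G) := by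
        rcases Cl_clique hmax hA hC1 hadj hC hC' with hh | hh
        · exact hh ▸ Subgroup.le_normalizer hd
        · exact hh.2.1 hd
      rw [mem_normalizer_iff_cj.mp this]
      exact hC'
    exact ⟨key c hc, key c⁻¹ (Subgroup.inv_mem _ hc)⟩
  have h𝒩top : stab (Cl n A (cj x A)) ≠ ⊤ := by
    intro hh
    rw [hh, top_inf_eq] at hNM
    exact not_subnIn_base hmax hA (SubnIn.of_normal hAM0 hNM)
  obtain ⟨L0, hL0, h𝒩L0⟩ := exists_coatom_ge h𝒩top
  have hL0ne : L0 ≠ base A := by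
    rintro rfl
    exact hxM0 (h𝒩L0 hx𝒩)
  have hC1M0 : cj x A ≤ base A := hC1𝒞.2.trans inf_le_left
  have hH0 : ∀ C : Subgroup G, InB n C → C ≤ stab (Cl n A (cj x A)) ⊓ base A →
      C ∈ Cl n A (cj x A) := by
    intro C hC hCle
    refine ⟨hC, le_inf (hCle.trans inf_le_right) ?_⟩
    rcases clique_of_le hmax hA hL0 hL0ne
      (inf_le_right : stab (Cl n A (cj x A)) ⊓ base A ≤ base A) (inf_le_left.trans h𝒩L0)
      (le_inf (hC𝒩 A hA𝒞) hAM0) hC hC1 hCle (le_inf (hC𝒩 _ hC1𝒞) hC1M0) with hh | hh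
    · rw [hh]; exact le_base hmax hC1
    · exact hh.2.1.trans (normalizer_le_base hmax hC1)
  -- the product of the other members
  let 𝒞' : Set (Subgroup G) := {C | C ∈ Cl n A (cj x A) ∧ C ≠ A}
  have hadjA : ∀ C ∈ 𝒞', Adj C A := fun C hC =>
    (Cl_clique hmax hA hC1 hadj hC.1 hA𝒞).resolve_left hC.2
  have hR'sub : SubnIn (sSup 𝒞') (base A) := by
    apply SubnIn.sSup
    intro C hC
    exact subnIn_of_ne_base hmax hC.1.1 hM0 (hC.1.2.trans inf_le_left) (hadjA C hC).1.symm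
  have hR'N : sSup 𝒞' ≤ Subgroup.normalizer (A : Set G) :=
    sSup_le fun C hC => (hadjA C hC).2.1
  have hAR' : ¬ A ≤ sSup 𝒞' := fun hh =>
    not_subnIn_base hmax hA ((SubnIn.of_normal hh hR'N).trans hR'sub)
  have hR'le : sSup 𝒞' ≤ base A ⊓ base (cj x A) := sSup_le fun C hC => hC.1.2
  have hin : ∀ C : Subgroup G, InB n C → C ≤ sSup 𝒞' → C ∈ 𝒞' := fun C hC hCR =>
    ⟨⟨hC, hCR.trans hR'le⟩, fun hh => hAR' (hh ▸ hCR)⟩
  have hC1' : cj x A ∈ 𝒞' := ⟨hC1𝒞, hx1⟩
  have hC2' : cj x1 A ∈ 𝒞' := ⟨hC2𝒞, hy1⟩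
  have claim : ∀ m ∈ base A, cj m (sSup 𝒞') ≤ Subgroup.normalizer ((sSup 𝒞' : Subgroup G) : Set G) →
      m ∈ stab (Cl n A (cj x A)) := by
    intro m hm hmN
    have key : ∀ C ∈ 𝒞', cj m C ∈ Cl n A (cj x A) := by
      intro C hC
      apply hH0 (cj m C) (hC.1.1.conj m)
      refine le_inf ?_ (cj_le_of_mem hm (hC.1.2.trans inf_le_left))
      intro c hc
      have hcN : c ∈ Subgroup.normalizer ((sSup 𝒞' : Subgroup G) : Set G) :=
        hmN (cj_mono m (le_sSup hC) hc)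
      have hcR : cj c (sSup 𝒞') = sSup 𝒞' := mem_normalizer_iff_cj.mp hcN
      have perm : ∀ C'' ∈ 𝒞', cj c C'' ∈ Cl n A (cj x A) := fun C'' hC'' =>
        (hin _ (hC''.1.1.conj c) (hcR ▸ cj_mono c (le_sSup hC''))).1
      exact mem_stab_of_two hmax hA hC1 hadj hC1𝒞 hC2𝒞 hC12 (perm _ hC1') (perm _ hC2')
    exact mem_stab_of_two hmax hA hC1 hadj hC1𝒞 hC2𝒞 hC12 (key _ hC1') (key _ hC2')
  have fixR : ∀ m ∈ base A, cj m (sSup 𝒞') ≤ Subgroup.normalizer ((sSup 𝒞' : Subgroup G) : Set G) →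
      cj m (sSup 𝒞') = sSup 𝒞' := by
    intro m hm hmN
    have hm𝒩 := claim m hm hmN
    have hmA : cj m A = A := mem_normalizer_iff_cj.mp (hNM ⟨hm𝒩, hm⟩)
    apply cj_eq_of_le
    unfold cj
    rw [Subgroup.map_le_iff_le_comap]
    apply sSup_le
    intro C hC
    rw [← Subgroup.map_le_iff_le_comap]
    apply le_sSup
    refine ⟨hm𝒩.1 C hC.1, ?_⟩
    intro hh
    apply hC.2
    apply cj_injective m
    exact hh.trans hmA.symm
  have hM0R : base A ≤ Subgroup.normalizer ((sSup 𝒞' : Subgroup G) : Set G) := by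
    by_contra hcon
    obtain ⟨m, hm, hm1, hm2, _⟩ := hR'sub.exists_conj_normalizing hcon
    exact hm1 (fixR m hm hm2)
  have hM0𝒩 : base A ≤ stab (Cl n A (cj x A)) := by
    intro m hm
    apply claim m hm
    rw [mem_normalizer_iff_cj.mp (hM0R hm)]
    exact Subgroup.le_normalizer
  have : base A ≤ Subgroup.normalizer (A : Set G) := (le_inf hM0𝒩 le_rfl).trans hNM
  exact not_subnIn_base hmax hA (SubnIn.of_normal hAM0 this)

end Induction4

/-- **Flavell's Theorem A**: there are no bad subgroups. -/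
theorem no_bad [Finite G] (A : Subgroup G) : ¬ Bad A := by
  have key : ∀ k : ℕ, ∀ A : Subgroup G, Nat.card G - Nat.card A = k → ¬ Bad A := by
    intro k
    induction k using Nat.strong_induction_on with
    | _ k ih =>
    intro A hk hbad
    have hmax : ∀ T : Subgroup G, Nat.card A < Nat.card T → ¬ Bad T := by
      intro T hT
      have hTG : Nat.card T ≤ Nat.card G := Subgroup.card_le_card_group T
      exact ih (Nat.card G - Nat.card T) (by omega) T rfl
    exact no_bad_aux hmax (⟨rfl, hbad⟩ : InB (Nat.card A) A)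
  exact key _ A rfl

end Cfsg.Agent.Lib.Helper9.Flavell
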