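import Mathlib
import Cfsg.Agent.Lib.Helper9.Flavell4

set_option autoImplicit false

/-!
# Flavell's Baer-type corollary: if `[G, α] = G` then the `k`-fold commutators
`[g, α, …, α]` generate `G`.
-/

namespace Cfsg.Agent.Lib.Helper9.Flavell

open Cfsg.Agent.Lib.Helper7

universe u

variable {G : Type u} [Group G]

/-- restriction of an automorphism to an invariant subgroup -/
def resAut (α : MulAut G) (H : Subgroup G) (h1 : ∀ g ∈ H, α g ∈ H) (h2 : ∀ g ∈ H, α⁻¹ g ∈ H) :
    MulAut H where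
  toFun x := ⟨α x, h1 x x.2⟩
  invFun x := ⟨α⁻¹ x, h2 x x.2⟩
  left_inv x := Subtype.ext (by simp)
  right_inv x := Subtype.ext (by simp)
  map_mul' x y := Subtype.ext (by simp)

theorem resAut_apply (α : MulAut G) (H : Subgroup G) (h1 : ∀ g ∈ H, α g ∈ H)
    (h2 : ∀ g ∈ H, α⁻¹ g ∈ H) (x : H) : ((resAut α H h1 h2 x : H) : G) = α x := rfl

theorem resAut_iterate (α : MulAut G) (H : Subgroup G) (h1 : ∀ g ∈ H, α g ∈ H)
    (h2 : ∀ g ∈ H, α⁻¹ g ∈ H) (k : ℕ) (x : H) :
    (((fun c : H => c * ((resAut α H h1 h2) c)⁻¹)^[k] x : H) : G) =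
      (fun c : G => c * (α c)⁻¹)^[k] (x : G) := by
  induction k with
  | zero => rfl
  | succ k ih =>
    rw [Function.iterate_succ_apply', Function.iterate_succ_apply']
    simp only [Subgroup.coe_mul, Subgroup.coe_inv, resAut_apply]
    rw [ih]

/-- the semidirect product `G ⋊ ⟨α⟩` -/
abbrev Gam (α : MulAut G) := G ⋊[(Subgroup.zpowers α).subtype] (Subgroup.zpowers α)

instance instFiniteGam [Finite G] (α : MulAut G) : Finite (Gam α) :=
  Finite.of_equiv _ SemidirectProduct.equivProd.symm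

/-- `α` as an element of `G ⋊ ⟨α⟩` -/
def aa (α : MulAut G) : Gam α := SemidirectProduct.inr ⟨α, Subgroup.mem_zpowers α⟩

theorem conj_aa (α : MulAut G) (g : G) :
    (SemidirectProduct.inl g : Gam α) * aa α * (SemidirectProduct.inl g)⁻¹ =
      SemidirectProduct.inl (g * (α g)⁻¹) * aa α := by
  ext <;> simp [aa]

theorem aa_conj_inl (α : MulAut G) (g : G) :
    aa α * (SemidirectProduct.inl g : Gam α) * (aa α)⁻¹ = SemidirectProduct.inl (α g) := by
  ext <;> simp [aa]

theorem inr_mem_zpowers (α : MulAut G) (z : Subgroup.zpowers α) :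
    (SemidirectProduct.inr z : Gam α) ∈ Subgroup.zpowers (aa α) := by
  obtain ⟨i, hi⟩ := Subgroup.mem_zpowers_iff.mp z.2
  rw [Subgroup.mem_zpowers_iff]
  refine ⟨i, ?_⟩
  unfold aa
  rw [← map_zpow]
  congr 1
  apply Subtype.ext
  rw [Subgroup.coe_zpow]
  exact hi

/-- invariance under `⟨α⟩` -/
def ZInv (α : MulAut G) (H : Subgroup G) : Prop :=
  ∀ z : Subgroup.zpowers α, ∀ g ∈ H, (z : MulAut G) g ∈ H

/-- the subgroup `H ⋊ ⟨α⟩` of `G ⋊ ⟨α⟩` -/
def liftS (α : MulAut G) (H : Subgroup G) (hH : ZInv α H) : Subgroup (Gam α) where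
  carrier := {x | x.left ∈ H}
  one_mem' := H.one_mem
  mul_mem' := by
    intro x y hx hy
    show (x * y).left ∈ H
    rw [SemidirectProduct.mul_left]
    exact H.mul_mem hx (hH x.right _ hy)
  inv_mem' := by
    intro x hx
    show (x⁻¹).left ∈ H
    rw [SemidirectProduct.inv_left]
    exact hH (x.right⁻¹) _ (H.inv_mem hx)

theorem mem_liftS {α : MulAut G} {H : Subgroup G} {hH : ZInv α H} {x : Gam α} :
    x ∈ liftS α H hH ↔ x.left ∈ H := Iff.rfl

theorem aa_mem_liftS (α : MulAut G) (H : Subgroup G) (hH : ZInv α H) : aa α ∈ liftS α H hH :=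
  H.one_mem

theorem zpowers_le_liftS (α : MulAut G) (H : Subgroup G) (hH : ZInv α H) :
    Subgroup.zpowers (aa α) ≤ liftS α H hH :=
  (Subgroup.zpowers_le).mpr (aa_mem_liftS α H hH)

/-- decomposition: `x ∈ K` iff `inl x.left ∈ K`, for `K ⊇ ⟨a⟩` -/
theorem mem_iff_inl_left_mem {α : MulAut G} {K : Subgroup (Gam α)}
    (hK : Subgroup.zpowers (aa α) ≤ K) (x : Gam α) :
    x ∈ K ↔ (SemidirectProduct.inl x.left : Gam α) ∈ K := by
  have hr : (SemidirectProduct.inr x.right : Gam α) ∈ K := hK (inr_mem_zpowers α x.right)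
  have hx := SemidirectProduct.inl_left_mul_inr_right x
  constructor
  · intro h
    have : (SemidirectProduct.inl x.left : Gam α) = x * (SemidirectProduct.inr x.right)⁻¹ := by
      rw [eq_mul_inv_iff_mul_eq]; exact hx
    rw [this]
    exact K.mul_mem h (K.inv_mem hr)
  · intro h
    rw [← hx]
    exact K.mul_mem h hr

theorem phi_comm (α : MulAut G) (z : Subgroup.zpowers α) (c : G) :
    (z : MulAut G) (c * (α c)⁻¹) = (z : MulAut G) c * (α ((z : MulAut G) c))⁻¹ := by
  obtain ⟨i, hi⟩ := Subgroup.mem_zpowers_iff.mp z.2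
  have hc : (z : MulAut G) * α = α * (z : MulAut G) := by
    rw [← hi]
    exact ((Commute.refl α).zpow_left i).eq
  have h2 : (z : MulAut G) (α c) = α ((z : MulAut G) c) := by
    have := congrArg (fun f : MulAut G => f c) hc
    simpa [MulAut.mul_apply] using this
  rw [map_mul, map_inv, h2]

theorem phi_iterate_comm (α : MulAut G) (z : Subgroup.zpowers α) (k : ℕ) (c : G) :
    (z : MulAut G) ((fun c : G => c * (α c)⁻¹)^[k] c) =
      (fun c : G => c * (α c)⁻¹)^[k] ((z : MulAut G) c) := by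
  induction k with
  | zero => rfl
  | succ k ih =>
    rw [Function.iterate_succ_apply', Function.iterate_succ_apply']
    show (z : MulAut G) (_ * (α _)⁻¹) = _
    rw [phi_comm, ih]

theorem conj_phi (α : MulAut G) (x h : G) :
    x * (h * (α h)⁻¹) * x⁻¹ = (x * h) * (α (x * h))⁻¹ * (x * (α x)⁻¹)⁻¹ := by
  rw [map_mul]
  group

end Cfsg.Agent.Lib.Helper9.Flavell
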