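import Mathlib
import Cfsg.Agent.Lib.Helper9.Flavell5

set_option autoImplicit false

/-!
# Flavell's Baer-type corollary, main induction
-/

namespace Cfsg.Agent.Lib.Helper9.Flavell

open Cfsg.Agent.Lib.Helper7

universe u

set_option maxHeartbeats 1000000 in
theorem engel_aux : ∀ n : ℕ, ∀ (G : Type u) [Group G] [Finite G], Nat.card G = n →
    ∀ (α : MulAut G), Subgroup.closure (Set.range (fun c : G => c * (α c)⁻¹)) = ⊤ → ∀ k : ℕ,
    Subgroup.closure (Set.range ((fun c : G => c * (α c)⁻¹)^[k])) = ⊤ := by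
  intro n
  induction n using Nat.strong_induction_on with
  | _ n ih =>
  intro G _ _ hcard α hG k
  by_contra hL
  generalize hLdef : Subgroup.closure (Set.range ((fun c : G => c * (α c)⁻¹)^[k])) = L at hL
  have hZL : ZInv α L := by
    intro z
    have : Subgroup.closure (Set.range ((fun c : G => c * (α c)⁻¹)^[k])) ≤
        L.comap (z : MulAut G).toMonoidHom := by
      rw [Subgroup.closure_le]
      rintro _ ⟨c, rfl⟩
      show (z : MulAut G) ((fun c : G => c * (α c)⁻¹)^[k] c) ∈ L
      rw [phi_iterate_comm, ← hLdef]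
      exact Subgroup.subset_closure ⟨_, rfl⟩
    intro g hg
    exact this (hLdef ▸ hg)
  have hkL : ∀ c : G, (fun c : G => c * (α c)⁻¹)^[k] c ∈ L := fun c =>
    hLdef ▸ Subgroup.subset_closure ⟨c, rfl⟩
  obtain ⟨g0, -, hg0⟩ := SetLike.exists_of_lt (lt_top_iff_ne_top.mpr hL)
  have hliftne : liftS α L hZL ≠ ⊤ := by
    intro h
    have : (SemidirectProduct.inl g0 : Gam α) ∈ liftS α L hZL := h ▸ Subgroup.mem_top _
    exact hg0 this
  have hAle : Subgroup.zpowers (aa α) ≤ liftS α L hZL := zpowers_le_liftS α L hZL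
  have hAtop : Subgroup.zpowers (aa α) ≠ ⊤ := fun h => hliftne (top_le_iff.mp (h ▸ hAle))
  have hfull : Full (Subgroup.zpowers (aa α)) ⊤ := by
    refine ⟨le_top, ?_⟩
    intro N hAN hN
    have ha : aa α ∈ N := hAN (Subgroup.mem_zpowers _)
    have hinl : ∀ g : G, (SemidirectProduct.inl g : Gam α) ∈ N := by
      have hle : Subgroup.closure (Set.range (fun c : G => c * (α c)⁻¹)) ≤
          N.comap (SemidirectProduct.inl : G →* Gam α) := by
        rw [Subgroup.closure_le]
        rintro _ ⟨c, rfl⟩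
        show (SemidirectProduct.inl (c * (α c)⁻¹) : Gam α) ∈ N
        have h1 : (SemidirectProduct.inl c : Gam α) * aa α * (SemidirectProduct.inl c)⁻¹ ∈ N :=
          (Subgroup.mem_normalizer_iff.mp (hN (Subgroup.mem_top _)) (aa α)).mp ha
        rw [conj_aa] at h1
        have h2 := N.mul_mem h1 (N.inv_mem ha)
        rwa [mul_inv_cancel_right] at h2
      intro g
      have : g ∈ Subgroup.closure (Set.range (fun c : G => c * (α c)⁻¹)) :=
        hG ▸ Subgroup.mem_top g
      exact hle this
    intro x _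
    rw [mem_iff_inl_left_mem hAN]
    exact hinl _
  have hnb := no_bad (Subgroup.zpowers (aa α))
  by_cases hY : YY (Subgroup.zpowers (aa α)) = ⊤
  · -- the proper full overgroups generate everything: induction
    apply hliftne
    rw [eq_top_iff, ← hY]
    apply sSup_le
    rintro Ht ⟨hHt, hF⟩
    have hAHt : Subgroup.zpowers (aa α) ≤ Ht := hF.1
    obtain ⟨H, hHdef⟩ : ∃ H : Subgroup G,
        H = Ht.comap (SemidirectProduct.inl : G →* Gam α) := ⟨_, rfl⟩
    have hmemH : ∀ g : G, g ∈ H ↔ (SemidirectProduct.inl g : Gam α) ∈ Ht := by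
      intro g; rw [hHdef]; rfl
    have hZH : ZInv α H := by
      intro z g hg
      rw [hmemH] at hg ⊢
      have := SemidirectProduct.inl_aut (φ := (Subgroup.zpowers α).subtype) z g
      rw [show ((z : MulAut G) g) = (Subgroup.zpowers α).subtype z g from rfl, this]
      exact Ht.mul_mem (Ht.mul_mem (hAHt (inr_mem_zpowers α z)) hg)
        (hAHt (inr_mem_zpowers α z⁻¹))
    have hαH : ∀ g ∈ H, α g ∈ H := fun g hg => hZH ⟨α, Subgroup.mem_zpowers α⟩ g hg
    have hαH' : ∀ g ∈ H, α⁻¹ g ∈ H := fun g hg =>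
      hZH ⟨α⁻¹, Subgroup.inv_mem _ (Subgroup.mem_zpowers α)⟩ g hg
    have hHtop : H ≠ ⊤ := by
      intro h
      apply hHt
      rw [eq_top_iff]
      intro x _
      rw [mem_iff_inl_left_mem hAHt, ← hmemH, h]
      exact Subgroup.mem_top _
    obtain ⟨H1, hH1def⟩ : ∃ H1 : Subgroup G,
        H1 = Subgroup.closure ((fun c : G => c * (α c)⁻¹) '' (H : Set G)) := ⟨_, rfl⟩
    have hgen : ∀ h ∈ H, h * (α h)⁻¹ ∈ H1 := fun h hh =>
      hH1def ▸ Subgroup.subset_closure ⟨h, hh, rfl⟩
    have hH1le : H1 ≤ H := by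
      rw [hH1def, Subgroup.closure_le]
      rintro _ ⟨h, hh, rfl⟩
      exact H.mul_mem hh (H.inv_mem (hαH h hh))
    have hZH1 : ZInv α H1 := by
      intro z
      have : Subgroup.closure ((fun c : G => c * (α c)⁻¹) '' (H : Set G)) ≤
          H1.comap (z : MulAut G).toMonoidHom := by
        rw [Subgroup.closure_le]
        rintro _ ⟨h, hh, rfl⟩
        show (z : MulAut G) (h * (α h)⁻¹) ∈ H1
        rw [phi_comm]
        exact hgen _ (hZH z h hh)
      intro g hg
      exact this (hH1def ▸ hg)
    have hnorm : ∀ x ∈ H, ∀ y ∈ H1, x * y * x⁻¹ ∈ H1 := by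
      intro x hx
      have : Subgroup.closure ((fun c : G => c * (α c)⁻¹) '' (H : Set G)) ≤
          H1.comap (MulAut.conj x).toMonoidHom := by
        rw [Subgroup.closure_le]
        rintro _ ⟨h, hh, rfl⟩
        show x * (h * (α h)⁻¹) * x⁻¹ ∈ H1
        rw [conj_phi]
        exact H1.mul_mem (hgen _ (H.mul_mem hx hh)) (H1.inv_mem (hgen x hx))
      intro y hy
      exact this (hH1def ▸ hy)
    obtain ⟨Nt, hNtdef⟩ : ∃ Nt : Subgroup (Gam α),
        Nt = H1.map (SemidirectProduct.inl : G →* Gam α) ⊔ Subgroup.zpowers (aa α) := ⟨_, rfl⟩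
    have hANt : Subgroup.zpowers (aa α) ≤ Nt := hNtdef ▸ le_sup_right
    have hinlNt : ∀ h ∈ H1, (SemidirectProduct.inl h : Gam α) ∈ Nt := fun h hh =>
      hNtdef ▸ (le_sup_left : H1.map (SemidirectProduct.inl : G →* Gam α) ≤ _)
        (Subgroup.mem_map_of_mem _ hh)
    have hNtlift : Nt ≤ liftS α H1 hZH1 := by
      rw [hNtdef]
      apply sup_le
      · rintro _ ⟨h, hh, rfl⟩
        exact hh
      · exact zpowers_le_liftS α H1 hZH1
    have ha_norm : aa α ∈ Subgroup.normalizer (Nt : Set (Gam α)) := by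
      rw [mem_normalizer_iff_cj]
      apply cj_eq_of_le
      rw [hNtdef, cj_sup]
      apply sup_le
      · rintro _ ⟨_, ⟨h, hh, rfl⟩, rfl⟩
        show aa α * SemidirectProduct.inl h * (aa α)⁻¹ ∈ _
        rw [aa_conj_inl]
        exact (le_sup_left : H1.map (SemidirectProduct.inl : G →* Gam α) ≤ _)
          (Subgroup.mem_map_of_mem _ (hZH1 ⟨α, Subgroup.mem_zpowers α⟩ h hh))
      · rw [cj_eq_self_of_mem (Subgroup.mem_zpowers (aa α))]
        exact le_sup_right
    have hinl_norm : ∀ h ∈ H, (SemidirectProduct.inl h : Gam α) ∈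
        Subgroup.normalizer (Nt : Set (Gam α)) := by
      intro h hh
      rw [mem_normalizer_iff_cj]
      apply cj_eq_of_le
      have hsplit : cj (SemidirectProduct.inl h : Gam α) Nt =
          cj (SemidirectProduct.inl h : Gam α) (H1.map (SemidirectProduct.inl : G →* Gam α)) ⊔
            cj (SemidirectProduct.inl h : Gam α) (Subgroup.zpowers (aa α)) := by
        rw [hNtdef, cj_sup]
      rw [hsplit]
      apply sup_le
      · rintro _ ⟨_, ⟨y, hy, rfl⟩, rfl⟩
        show SemidirectProduct.inl h * SemidirectProduct.inl y * (SemidirectProduct.inl h)⁻¹ ∈ Nt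
        rw [← map_inv, ← map_mul, ← map_mul]
        exact hinlNt _ (hnorm h hh y hy)
      · unfold cj
        rw [MonoidHom.map_zpowers, Subgroup.zpowers_le]
        show SemidirectProduct.inl h * aa α * (SemidirectProduct.inl h)⁻¹ ∈ Nt
        rw [conj_aa]
        exact Nt.mul_mem (hinlNt _ (hgen h hh)) (hANt (Subgroup.mem_zpowers _))
    have hHtN : Ht ≤ Subgroup.normalizer (Nt : Set (Gam α)) := by
      intro x hx
      rw [← SemidirectProduct.inl_left_mul_inr_right x]
      apply Subgroup.mul_mem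
      · exact hinl_norm _ ((hmemH _).mpr ((mem_iff_inl_left_mem hAHt x).mp hx))
      · have : Subgroup.zpowers (aa α) ≤ Subgroup.normalizer (Nt : Set (Gam α)) :=
          Subgroup.zpowers_le.mpr ha_norm
        exact this (inr_mem_zpowers α x.right)
    have hHtNt : Ht ≤ Nt := hF.2 Nt hANt hHtN
    have hHH1 : H ≤ H1 := by
      intro h hh
      have := hNtlift (hHtNt ((hmemH h).mp hh))
      exact this
    have hHeq : H1 = H := le_antisymm hH1le hHH1
    have hcardH : Nat.card H < n := by
      rw [← hcard]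
      have := card_lt_of_lt (lt_top_iff_ne_top.mpr hHtop)
      rwa [Subgroup.card_top] at this
    have hGH : Subgroup.closure
        (Set.range (fun c : H => c * ((resAut α H hαH hαH') c)⁻¹)) = ⊤ := by
      apply Subgroup.map_injective H.subtype_injective
      rw [MonoidHom.map_closure, ← MonoidHom.range_eq_map, Subgroup.range_subtype]
      have himg : (H.subtype : H → G) ''
          (Set.range (fun c : H => c * ((resAut α H hαH hαH') c)⁻¹)) =
          (fun c : G => c * (α c)⁻¹) '' (H : Set G) := by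
        ext x
        constructor
        · rintro ⟨_, ⟨c, rfl⟩, rfl⟩
          exact ⟨c, c.2, rfl⟩
        · rintro ⟨c, hc, rfl⟩
          exact ⟨_, ⟨⟨c, hc⟩, rfl⟩, rfl⟩
      rw [himg, ← hH1def, hHeq]
    have hres := ih _ hcardH H rfl (resAut α H hαH hαH') hGH k
    have hHL : H ≤ L := by
      have h1 : (⊤ : Subgroup H).map H.subtype = H := by
        rw [← MonoidHom.range_eq_map, Subgroup.range_subtype]
      rw [← h1, ← hres, MonoidHom.map_closure, ← hLdef]
      apply Subgroup.closure_mono
      rintro _ ⟨_, ⟨c, rfl⟩, rfl⟩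
      exact ⟨(c : G), (resAut_iterate α H hαH hαH' k c).symm⟩
    intro x hx
    rw [mem_liftS]
    exact hHL ((hmemH _).mpr ((mem_iff_inl_left_mem hAHt x).mp hx))
  · -- `a` lies in a unique maximal subgroup: Baer's descending argument
    have huniq : ∃! M : Subgroup (Gam α), IsCoatom M ∧ Subgroup.zpowers (aa α) ≤ M := by
      by_contra hcon
      exact hnb ⟨hAtop, hfull, hY, hcon⟩
    obtain ⟨M, ⟨hM, hAM⟩, hMuniq⟩ := huniq
    obtain ⟨M', hM', hLM'⟩ := exists_coatom_ge hliftne
    have hM'M : M' = M := hMuniq M' ⟨hM', hAle.trans hLM'⟩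
    have hLM : liftS α L hZL ≤ M := hM'M ▸ hLM'
    have haM : aa α ∈ M := hAM (Subgroup.mem_zpowers _)
    have hMnorm : Subgroup.normalizer (M : Set (Gam α)) = M := by
      rcases eq_or_lt_of_le (Subgroup.le_normalizer : M ≤ Subgroup.normalizer (M : Set (Gam α)))
        with h | h
      · exact h.symm
      · exfalso
        have htop := hM.2 _ h
        have := hfull.2 M hAM (htop ▸ le_rfl)
        exact hM.1 (top_le_iff.mp this)
    have hdesc : ∀ j : ℕ,
        (∀ g : G, (SemidirectProduct.inl ((fun c : G => c * (α c)⁻¹)^[j + 1] g) : Gam α) ∈ M) →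
        ∀ g : G, (SemidirectProduct.inl ((fun c : G => c * (α c)⁻¹)^[j] g) : Gam α) ∈ M := by
      intro j hj g
      have h1 := hj g
      rw [Function.iterate_succ_apply'] at h1
      generalize ((fun c : G => c * (α c)⁻¹)^[j] g) = c at h1 ⊢
      have h2 : (SemidirectProduct.inl c : Gam α) * aa α * (SemidirectProduct.inl c)⁻¹ ∈ M := by
        rw [conj_aa]
        exact M.mul_mem h1 haM
      have h3 : aa α ∈ cj (SemidirectProduct.inl c : Gam α)⁻¹ M := by
        rw [mem_cj, inv_inv]
        exact h2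
      have h4 : cj (SemidirectProduct.inl c : Gam α)⁻¹ M = M :=
        hMuniq _ ⟨isCoatom_cj hM _, Subgroup.zpowers_le.mpr h3⟩
      have h5 : (SemidirectProduct.inl c : Gam α)⁻¹ ∈ Subgroup.normalizer (M : Set (Gam α)) :=
        mem_normalizer_iff_cj.mpr h4
      rw [hMnorm] at h5
      have := M.inv_mem h5
      rwa [inv_inv] at this
    have hall : ∀ d : ℕ, d ≤ k →
        ∀ g : G, (SemidirectProduct.inl ((fun c : G => c * (α c)⁻¹)^[k - d] g) : Gam α) ∈ M := by
      intro d
      induction d with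
      | zero =>
        intro _ g
        apply hLM
        rw [mem_liftS]
        exact hkL g
      | succ d ihd =>
        intro hd
        apply hdesc
        have : k - (d + 1) + 1 = k - d := by omega
        rw [this]
        exact ihd (by omega)
    have h0 := hall k le_rfl
    rw [Nat.sub_self] at h0
    apply hM.1
    rw [eq_top_iff]
    intro x _
    rw [mem_iff_inl_left_mem hAM]
    exact h0 _

/-- **Flavell's Baer-type corollary.** -/
theorem engel {G : Type u} [Group G] [Finite G] (α : MulAut G)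
    (hG : Subgroup.closure (Set.range (fun c : G => c * (α c)⁻¹)) = ⊤) (k : ℕ) :
    Subgroup.closure (Set.range ((fun c : G => c * (α c)⁻¹)^[k])) = ⊤ :=
  engel_aux _ G rfl α hG k

end Cfsg.Agent.Lib.Helper9.Flavell
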