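import Mathlib
import Cfsg.Agent.Lib.Lead.OmegaAut2

set_option autoImplicit false

namespace Cfsg.Agent.Lib.Helper9

/-- A finite group all of whose elements of order prime to `p` are trivial is a `p`-group. -/
theorem isPGroup_of_coprime_trivial {Y : Type*} [Group Y] [Finite Y] (p : ℕ) [hp : Fact p.Prime]
    (h : ∀ y : Y, Nat.Coprime (orderOf y) p → y = 1) : IsPGroup p Y := by
  intro y
  have hpos : 0 < orderOf y := orderOf_pos y
  obtain ⟨a, m, hm, hym⟩ := Nat.exists_eq_pow_mul_and_not_dvd hpos.ne' p hp.out.ne_one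
  refine ⟨a, ?_⟩
  have h1 : orderOf (y ^ p ^ a) = m := by
    rw [orderOf_pow' y (pow_ne_zero a hp.out.ne_zero), hym, Nat.gcd_eq_right (Dvd.intro _ rfl),
      Nat.mul_div_cancel_left _ (pow_pos hp.out.pos a)]
  have h2 : Nat.Coprime (orderOf (y ^ p ^ a)) p := by
    rw [h1]
    exact ((Nat.Prime.coprime_iff_not_dvd hp.out).mpr hm).symm
  exact h _ h2

section RelStab

variable {R : Type*} [Group R]

/-- The automorphisms in `A` acting trivially on `C / B`, for `A`-invariant `B`. -/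
def relStab (A : Subgroup (MulAut R)) (B C : Subgroup R) (hB : ∀ χ ∈ A, ∀ x ∈ B, χ x ∈ B) : Subgroup A where
  carrier := {χ | ∀ x ∈ C, x⁻¹ * (χ : MulAut R) x ∈ B}
  one_mem' := by
    intro x _
    simp
  mul_mem' := by
    intro χ ψ hχ hψ x hx
    have h1 := hψ x hx
    have h2 := hχ x hx
    have h3 := hB χ χ.2 _ h1
    have h4 : x⁻¹ * ((χ * ψ : A) : MulAut R) x = (x⁻¹ * (χ : MulAut R) x) * (χ : MulAut R) (x⁻¹ * (ψ : MulAut R) x) := by
      rw [Subgroup.coe_mul, MulAut.mul_apply, map_mul, map_inv]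
      group
    rw [Set.mem_setOf_eq] at *
    rw [h4]
    exact B.mul_mem h2 h3
  inv_mem' := by
    intro χ hχ x hx
    have h1 := hχ x hx
    have h2 := hB χ⁻¹ (χ⁻¹).2 _ (B.inv_mem h1)
    have h3 : x⁻¹ * ((χ⁻¹ : A) : MulAut R) x = ((χ⁻¹ : A) : MulAut R) ((x⁻¹ * (χ : MulAut R) x)⁻¹) := by
      rw [Subgroup.coe_inv, mul_inv_rev, inv_inv, map_mul, map_inv, MulAut.inv_apply_self]
    rw [h3]
    exact h2

theorem mem_relStab_iff (A : Subgroup (MulAut R)) (B C : Subgroup R) (hB : ∀ χ ∈ A, ∀ x ∈ B, χ x ∈ B)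
    (χ : A) : χ ∈ relStab A B C hB ↔ ∀ x ∈ C, x⁻¹ * (χ : MulAut R) x ∈ B := Iff.rfl

theorem relStab_normal (A : Subgroup (MulAut R)) (B C : Subgroup R) (hB : ∀ χ ∈ A, ∀ x ∈ B, χ x ∈ B)
    (hC : ∀ χ ∈ A, ∀ x ∈ C, χ x ∈ C) : (relStab A B C hB).Normal := by
  constructor
  intro χ hχ γ x hx
  have h1 := hC γ⁻¹ (γ⁻¹).2 x hx
  have h2 := hχ _ h1
  have h3 := hB γ γ.2 _ h2
  have h4 : x⁻¹ * ((γ * χ * γ⁻¹ : A) : MulAut R) x =
      (γ : MulAut R) ((((γ⁻¹ : A) : MulAut R) x)⁻¹ * (χ : MulAut R) (((γ⁻¹ : A) : MulAut R) x)) := by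
    rw [Subgroup.coe_mul, Subgroup.coe_mul, MulAut.mul_apply, MulAut.mul_apply, map_mul, map_inv,
      Subgroup.coe_inv, MulAut.apply_inv_self]
  rw [h4]
  exact h3

end RelStab

end Cfsg.Agent.Lib.Helper9
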