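import Mathlib
import Cfsg.Prelude.Def_FusionSystem
import Cfsg.Agent.S5080
import Cfsg.Agent.Lib.Helper9.FusionNormal3
import Cfsg.Agent.Lib.Helper9.Omega1
import Cfsg.Agent.Lib.Helper9.FusionAG3
import Cfsg.Agent.Lib.Helper4.AutCrit3
import Cfsg.Agent.Lib.Lead.OmegaAut

set_option autoImplicit false

namespace Cfsg.Agent.Lib.Helper9.H9Focal

open Cfsg Cfsg.FusionSystem Cfsg.Agent.Lib.Helper9

/-- A `p`-element normalizing a cyclic group of order dividing `p` centralizes it. -/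
theorem conj_eq_of_mem_zpowers {G : Type*} [Group G] {p : ℕ} [hp : Fact p.Prime] {s x : G}
    (hs : ∃ m : ℕ, s ^ p ^ m = 1) (hx : x ^ p = 1) (h : s * x * s⁻¹ ∈ Subgroup.zpowers x) :
    s * x * s⁻¹ = x := by
  by_cases hx1 : x = 1
  · rw [hx1]; group
  have hord : orderOf x = p := orderOf_eq_prime hx hx1
  have hfin : IsOfFinOrder x := isOfFinOrder_iff_pow_eq_one.mpr ⟨p, hp.out.pos, hx⟩
  rw [← hfin.mem_powers_iff_mem_zpowers] at h
  obtain ⟨k, hk⟩ := Submonoid.mem_powers_iff _ _ |>.mp h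
  have hpow : ∀ n : ℕ, s ^ n * x * (s ^ n)⁻¹ = x ^ (k ^ n) := by
    intro n
    induction n with
    | zero => simp
    | succ n ih =>
      have h1 : s ^ (n + 1) * x * (s ^ (n + 1))⁻¹ = s * (s ^ n * x * (s ^ n)⁻¹) * s⁻¹ := by
        rw [pow_succ']; group
      rw [h1, ih]
      have h2 : s * x ^ (k ^ n) * s⁻¹ = (s * x * s⁻¹) ^ (k ^ n) := by
        rw [conj_pow]
      rw [h2, ← hk, ← pow_mul, pow_succ']
  obtain ⟨m, hm⟩ := hs
  have h3 := hpow (p ^ m)
  rw [hm] at h3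
  have h4 : x ^ (k ^ p ^ m) = x ^ 1 := by
    rw [← h3]; simp
  rw [pow_eq_pow_iff_modEq, hord] at h4
  have h5 : ((k : ZMod p)) ^ (p ^ m) = 1 := by
    have := (ZMod.natCast_eq_natCast_iff _ _ p).mpr h4
    simpa using this
  rw [ZMod.pow_card_pow] at h5
  have h6 : k ≡ 1 [MOD p] := by
    rw [← ZMod.natCast_eq_natCast_iff]
    simpa using h5
  rw [← hk]
  have h7 : x ^ k = x ^ 1 := by
    rw [pow_eq_pow_iff_modEq, hord]; exact h6
  rw [h7, pow_one]

end Cfsg.Agent.Lib.Helper9.H9Focal
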