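import Mathlib
import Cfsg.Prelude.Def_FusionSystem
import Cfsg.Agent.Lib.Helper9.FocalNorm1

set_option autoImplicit false

namespace Cfsg.Agent.Lib.Helper9.H9Focal

open Cfsg Cfsg.FusionSystem Cfsg.Agent.Lib.Helper9

variable {Ω : Type*} [Group Ω] {S : Subgroup Ω}

/-- Automorphisms in `A` fixing the elements of order dividing `p` of an invariant subgroup `H`. -/
def fixOmega {E : Type*} [Group E] (p : ℕ) (A : Subgroup (MulAut E)) (H : Subgroup E)
    (hH : ∀ α ∈ A, ∀ x ∈ H, α x ∈ H) : Subgroup A where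
  carrier := {α | ∀ x ∈ H, x ^ p = 1 → (α : MulAut E) x = x}
  one_mem' := fun x _ _ => rfl
  mul_mem' := by
    intro α β hα hβ x hx hxp
    show (α : MulAut E) ((β : MulAut E) x) = x
    rw [hβ x hx hxp, hα x hx hxp]
  inv_mem' := by
    intro α hα x hx hxp
    have h1 := hα x hx hxp
    show (α : MulAut E)⁻¹ x = x
    calc (α : MulAut E)⁻¹ x = (α : MulAut E)⁻¹ ((α : MulAut E) x) := by rw [h1]
      _ = x := MulAut.inv_apply_self _ _ _

theorem fixOmega_normal {E : Type*} [Group E] (p : ℕ) (A : Subgroup (MulAut E)) (H : Subgroup E)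
    (hH : ∀ α ∈ A, ∀ x ∈ H, α x ∈ H) : (fixOmega p A H hH).Normal := by
  constructor
  intro n hn g x hx hxp
  show (g : MulAut E) ((n : MulAut E) ((g : MulAut E)⁻¹ x)) = x
  have h1 : (g : MulAut E)⁻¹ x ∈ H := hH _ (A.inv_mem g.2) x hx
  have h2 : ((g : MulAut E)⁻¹ x) ^ p = 1 := by rw [← map_pow, hxp, map_one]
  rw [hn _ h1 h2]
  exact MulAut.apply_inv_self _ _ _

/-- Automorphisms in `A` normalizing the cyclic subgroups of exponent dividing `4` of an invariant subgroup `H`. -/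
def normFour {E : Type*} [Group E] (A : Subgroup (MulAut E)) (H : Subgroup E)
    (hH : ∀ α ∈ A, ∀ x ∈ H, α x ∈ H) : Subgroup A where
  carrier := {α | ∀ x ∈ H, x ^ 4 = 1 → Subgroup.zpowers ((α : MulAut E) x) = Subgroup.zpowers x}
  one_mem' := fun x _ _ => rfl
  mul_mem' := by
    intro α β hα hβ x hx hx4
    show Subgroup.zpowers ((α : MulAut E) ((β : MulAut E) x)) = _
    have h1 : (β : MulAut E) x ∈ H := hH _ β.2 x hx
    have h2 : ((β : MulAut E) x) ^ 4 = 1 := by rw [← map_pow, hx4, map_one]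
    rw [hα _ h1 h2, hβ x hx hx4]
  inv_mem' := by
    intro α hα x hx hx4
    show Subgroup.zpowers ((α : MulAut E)⁻¹ x) = _
    have h1 : (α : MulAut E)⁻¹ x ∈ H := hH _ (A.inv_mem α.2) x hx
    have h2 : ((α : MulAut E)⁻¹ x) ^ 4 = 1 := by rw [← map_pow, hx4, map_one]
    have h3 := hα _ h1 h2
    rw [MulAut.apply_inv_self] at h3
    exact h3.symm

theorem normFour_normal {E : Type*} [Group E] (A : Subgroup (MulAut E)) (H : Subgroup E)
    (hH : ∀ α ∈ A, ∀ x ∈ H, α x ∈ H) : (normFour A H hH).Normal := by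
  constructor
  intro n hn g x hx hx4
  show Subgroup.zpowers ((g : MulAut E) ((n : MulAut E) ((g : MulAut E)⁻¹ x))) = _
  have h1 : (g : MulAut E)⁻¹ x ∈ H := hH _ (A.inv_mem g.2) x hx
  have h2 : ((g : MulAut E)⁻¹ x) ^ 4 = 1 := by rw [← map_pow, hx4, map_one]
  have h3 := hn _ h1 h2
  have h4 := congrArg (Subgroup.map (g : MulAut E).toMonoidHom) h3
  rw [MonoidHom.map_zpowers, MonoidHom.map_zpowers] at h4
  have h5 : (g : MulAut E).toMonoidHom ((g : MulAut E)⁻¹ x) = x := MulAut.apply_inv_self _ _ _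
  rw [h5] at h4
  exact h4

/-- An automorphism of order prime to `p` in both subgroups acts trivially on `H`, hence trivially if all
commutators land in `H`. -/
theorem eq_one_of_mem_fix_norm {E : Type*} [Group E] [Finite E] (p : ℕ) [Fact p.Prime] (hE : IsPGroup p E)
    (A : Subgroup (MulAut E)) (H : Subgroup E) (hH : ∀ α ∈ A, ∀ x ∈ H, α x ∈ H)
    (hcomm : ∀ α ∈ A, ∀ x : E, x⁻¹ * α x ∈ H)
    (y : A) (hy1 : y ∈ fixOmega p A H hH) (hy2 : p = 2 → y ∈ normFour A H hH)
    (hcop : (orderOf y).Coprime p) : y = 1 := by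
  obtain ⟨β, hβ⟩ : ∃ β : MulAut E, β = (y : MulAut E) := ⟨_, rfl⟩
  have hord : orderOf β = orderOf y := by rw [hβ]; exact Subgroup.orderOf_coe y
  have hcopβ : (orderOf β).Coprime p := by rw [hord]; exact hcop
  have hβA : β ∈ A := by rw [hβ]; exact y.2
  have hβm : β ^ orderOf β = 1 := pow_orderOf_eq_one β
  have hfix : ∀ x ∈ H, (x ^ p = 1 ∨ (p = 2 ∧ x ^ 4 = 1)) → β x = x := by
    intro x hx hcond
    rcases hcond with hxp | ⟨h2, hx4⟩
    · rw [hβ]; exact hy1 x hx hxp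
    · have hz : Subgroup.zpowers (β x) = Subgroup.zpowers x := by rw [hβ]; exact hy2 h2 x hx hx4
      have hmem : β x ∈ Subgroup.zpowers x := by rw [← hz]; exact Subgroup.mem_zpowers _
      obtain ⟨k, hk⟩ := Subgroup.mem_zpowers_iff.mp hmem
      have hcommx : Commute x (β x) := by
        rw [← hk]; exact (Commute.refl x).zpow_right k
      -- c = x⁻¹ β x has square one
      have hx2H : x ^ 2 ∈ H := H.pow_mem hx 2
      have hx2p : (x ^ 2) ^ p = 1 := by rw [h2, ← pow_mul]; exact hx4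
      have hβx2 : β (x ^ 2) = x ^ 2 := by rw [hβ]; exact hy1 _ hx2H hx2p
      have hcH : x⁻¹ * β x ∈ H := hcomm β hβA x
      have hc2 : (x⁻¹ * β x) ^ p = 1 := by
        rw [h2, (hcommx.inv_left).mul_pow, ← map_pow, hβx2, inv_pow, inv_mul_cancel]
      have hβc : β (x⁻¹ * β x) = x⁻¹ * β x := by rw [hβ]; rw [hβ] at hcH hc2; exact hy1 _ hcH hc2
      have h3 : β x = x * (x⁻¹ * β x) := by group
      have h4 := Cfsg.Agent.Lib.Lead.eq_one_of_aut_pow (p := p) β (orderOf β) hβm hcopβ x _ h3 hβc (hE _)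
      rw [h3, h4, mul_one]
  have hHp : IsPGroup p H := hE.to_subgroup H
  have hfixH := Cfsg.Agent.Lib.Helper4.AutCrit.aut_fix_of_omega_gen β hcopβ H hHp (hH β hβA) hfix
  have htriv : ∀ x : E, β x = x := by
    intro x
    have hcH : x⁻¹ * β x ∈ H := hcomm β hβA x
    have hβc := hfixH _ hcH
    have h3 : β x = x * (x⁻¹ * β x) := by group
    have h4 := Cfsg.Agent.Lib.Lead.eq_one_of_aut_pow (p := p) β (orderOf β) hβm hcopβ x _ h3 hβc (hE _)
    rw [h3, h4, mul_one]
  apply Subtype.ext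
  apply MulEquiv.ext
  intro x
  rw [← hβ]
  exact htriv x

end Cfsg.Agent.Lib.Helper9.H9Focal
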