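import Mathlib
import Cfsg.Prelude.Def_FusionSystem
import Cfsg.Agent.Lib.Helper9.FocalNorm2
import Cfsg.Agent.Lib.Helper9.KNorm3

set_option autoImplicit false

namespace Cfsg.Agent.Lib.Helper9.H9Focal

open Cfsg Cfsg.FusionSystem Cfsg.Agent.Lib.Helper9

variable {Ω : Type*} [Group Ω] {S : Subgroup Ω}

/-- If every cyclic subgroup of the focal subgroup of order `p` (or `2`, `4` for `p = 2`) is normal in `S`, then
no proper subgroup of `S` is essential. -/
theorem not_essential_of_focal_cyclic_normal [Finite S] (p : ℕ) [Fact p.Prime] (hS : IsPGroup p S)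
    (F : FusionSystem S) (hF : F.IsSaturated p)
    (hnorm : ∀ x ∈ F.focalSubgroup, (x ^ p = 1 ∨ (p = 2 ∧ x ^ 4 = 1)) → ∀ s ∈ S,
      s * x * s⁻¹ ∈ Subgroup.zpowers x)
    (E : Subgroup Ω) (hE : F.IsEssential p E) (hES : E < S) : False := by
  have hEc := hE.1
  have hEle : E ≤ S := hEc.1
  haveI : Finite E := fs_finite_of_le hEle
  have hEp : IsPGroup p E := hS.to_le hEle
  have hCle : centralizerIn S E ≤ E := hEc.2 E (fs_isConj_refl F hEle)
  have hrad := Cfsg.Agent.S5080.result p hS F hF E hE
  -- the focal part of E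
  obtain ⟨H, hHdef⟩ : ∃ H : Subgroup E, H = (F.focalSubgroup).subgroupOf E := ⟨_, rfl⟩
  have hcomm : ∀ α ∈ F.autGroup E, ∀ x : E, x⁻¹ * α x ∈ H := by
    intro α hα x
    rw [hHdef, Subgroup.mem_subgroupOf]
    exact Subgroup.subset_closure
      ⟨E, E.subtype.comp α.toMonoidHom, x, (mem_autGroup_iff F hEle α).mp hα, rfl⟩
  have hHinv : ∀ α ∈ F.autGroup E, ∀ x ∈ H, α x ∈ H := by
    intro α hα x hx
    have h1 : α x = x * (x⁻¹ * α x) := by group
    rw [h1]
    exact H.mul_mem hx (hcomm α hα x)
  -- the normal p-subgroup Y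
  obtain ⟨Y, hYdef⟩ : ∃ Y : Subgroup (F.autGroup E),
      Y = fixOmega p (F.autGroup E) H hHinv ⊓
        (if p = 2 then normFour (F.autGroup E) H hHinv else ⊤) := ⟨_, rfl⟩
  have hYn : Y.Normal := by
    rw [hYdef]
    haveI := fixOmega_normal p (F.autGroup E) H hHinv
    haveI : (if p = 2 then normFour (F.autGroup E) H hHinv else ⊤ : Subgroup (F.autGroup E)).Normal := by
      split_ifs
      · exact normFour_normal (F.autGroup E) H hHinv
      · exact Subgroup.normal_top
    exact Subgroup.normal_inf_normal _ _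
  haveI : Finite (MulAut E) := inferInstanceAs (Finite (E ≃* E))
  have hYp : IsPGroup p Y := by
    apply isPGroup_of_coprime_trivial p
    intro y hy
    have hyY : (y : F.autGroup E) ∈ fixOmega p (F.autGroup E) H hHinv ⊓
        (if p = 2 then normFour (F.autGroup E) H hHinv else ⊤) := by
      rw [← hYdef]; exact y.2
    have hy1 := hyY.1
    have hy2 : p = 2 → (y : F.autGroup E) ∈ normFour (F.autGroup E) H hHinv := by
      intro h2
      have := hyY.2
      rw [if_pos h2] at this
      exact this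
    have hcop : (orderOf (y : F.autGroup E)).Coprime p := by
      rw [Subgroup.orderOf_coe]; exact hy
    have := eq_one_of_mem_fix_norm p hEp (F.autGroup E) H hHinv hcomm (y : F.autGroup E) hy1 hy2 hcop
    exact Subtype.ext this
  have hYle : Y ≤ Cfsg.pCore p (F.autGroup E) := le_pCore hYn hYp
  -- N_S(E) ≤ E
  have hNE : normalizerIn S E ≤ E := by
    intro s hs
    have hsS : s ∈ S := hs.1
    have hsN : s ∈ Subgroup.normalizer (E : Set Ω) := hs.2
    have hcs : ∀ x : E, ((conjAut E s hsN x : E) : Ω) = s * x * s⁻¹ := fun x => rfl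
    have hcA : conjAut E s hsN ∈ F.autGroup E :=
      autInducedBy_le_autGroup F hEle ((mem_autInducedBy_iff S E _).mpr ⟨s, hsS, hcs⟩)
    have hpS : ∃ m : ℕ, s ^ p ^ m = 1 := by
      obtain ⟨m, hm⟩ := hS ⟨s, hsS⟩
      exact ⟨m, by simpa using congrArg Subtype.val hm⟩
    have hpSi : ∃ m : ℕ, s⁻¹ ^ p ^ m = 1 := by
      obtain ⟨m, hm⟩ := hpS
      exact ⟨m, by rw [inv_pow, hm, inv_one]⟩
    have hcY : (⟨conjAut E s hsN, hcA⟩ : F.autGroup E) ∈ Y := by
      rw [hYdef]
      refine ⟨?_, ?_⟩
      · intro x hx hxp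
        have hxf : (x : Ω) ∈ F.focalSubgroup := by
          rw [hHdef, Subgroup.mem_subgroupOf] at hx; exact hx
        have hxp' : (x : Ω) ^ p = 1 := by simpa using congrArg Subtype.val hxp
        apply Subtype.ext
        show s * (x : Ω) * s⁻¹ = x
        exact conj_eq_of_mem_zpowers hpS hxp' (hnorm _ hxf (Or.inl hxp') s hsS)
      · split_ifs with h2
        · intro x hx hx4
          have hxf : (x : Ω) ∈ F.focalSubgroup := by
            rw [hHdef, Subgroup.mem_subgroupOf] at hx; exact hx
          have hx4' : (x : Ω) ^ 4 = 1 := by simpa using congrArg Subtype.val hx4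
          have h1 := hnorm _ hxf (Or.inr ⟨h2, hx4'⟩) s hsS
          have h1' := hnorm _ hxf (Or.inr ⟨h2, hx4'⟩) s⁻¹ (S.inv_mem hsS)
          obtain ⟨k, hk⟩ := Subgroup.mem_zpowers_iff.mp h1
          obtain ⟨k', hk'⟩ := Subgroup.mem_zpowers_iff.mp h1'
          show Subgroup.zpowers (conjAut E s hsN x) = Subgroup.zpowers x
          apply le_antisymm
          · rw [Subgroup.zpowers_le]
            refine Subgroup.mem_zpowers_iff.mpr ⟨k, ?_⟩
            apply Subtype.ext
            rw [Subgroup.coe_zpow, hk]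
            rfl
          · rw [Subgroup.zpowers_le]
            refine Subgroup.mem_zpowers_iff.mpr ⟨k', ?_⟩
            apply Subtype.ext
            rw [Subgroup.coe_zpow]
            show (s * (x : Ω) * s⁻¹) ^ k' = x
            rw [conj_zpow, hk']
            group
        · exact Subgroup.mem_top _
    have hcI : conjAut E s hsN ∈ Inn E := by
      rw [← hrad.2]
      exact ⟨⟨conjAut E s hsN, hcA⟩, hYle hcY, rfl⟩
    exact mem_of_induces_inner hCle hcI hsS hEle hcs
  have h1 := fs_lt_normalizerIn p hS hES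
  exact absurd (lt_of_lt_of_le h1 hNE) (lt_irrefl _)

end Cfsg.Agent.Lib.Helper9.H9Focal
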