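import Mathlib
import Cfsg.Prelude.Def_Characters

/-!
# S4427, package (L3): ranks of idempotents in representations

For a function `f : G → ℂ` (an element of the group algebra) and a representation `ρ` we put
`opOf ρ f = ∑ g, f g • ρ g`.  Convolution goes to composition, the trace of `opOf ρ f` is
`∑ g, f g * χ g`, and the trace of an idempotent is the dimension of its range.  From this we get
the natural numbers `m ξ ≤ u ξ, v ξ, ξ 1` used in the Brauer argument for the Frobenius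
conjecture for groups of order `p^a q^b r^c`.
-/

set_option autoImplicit false

namespace Cfsg.Agent.Lib.Helper9.FrobL3

open scoped BigOperators
open Module

variable {G : Type*} [Group G] [Fintype G]
variable {V : Type*} [AddCommGroup V] [Module ℂ V]

/-- The linear extension of a representation to functions `G → ℂ`. -/
noncomputable def opOf (ρ : Representation ℂ G V) (f : G → ℂ) : V →ₗ[ℂ] V :=
  ∑ g, f g • ρ g

/-- Convolution of functions on `G`. -/
def conv (f₁ f₂ : G → ℂ) : G → ℂ := fun w => ∑ u, f₁ u * f₂ (u⁻¹ * w)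

lemma opOf_conv (ρ : Representation ℂ G V) (f₁ f₂ : G → ℂ) :
    opOf ρ (conv f₁ f₂) = opOf ρ f₁ * opOf ρ f₂ := by
  unfold opOf conv
  rw [Finset.sum_mul_sum]
  simp only [Finset.sum_smul]
  rw [Finset.sum_comm]
  refine Finset.sum_congr rfl (fun u _ => ?_)
  rw [← Equiv.sum_comp (Equiv.mulLeft u)]
  refine Finset.sum_congr rfl (fun w _ => ?_)
  simp only [Equiv.coe_mulLeft, inv_mul_cancel_left, map_mul, smul_mul_smul_comm]

lemma trace_opOf [FiniteDimensional ℂ V] (ρ : Representation ℂ G V) (f : G → ℂ) :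
    LinearMap.trace ℂ V (opOf ρ f) = ∑ g, f g * ρ.character g := by
  unfold opOf Representation.character
  simp only [map_sum, map_smul, smul_eq_mul]

lemma trace_eq_finrank_range [FiniteDimensional ℂ V] {E : V →ₗ[ℂ] V} (hE : IsIdempotentElem E) :
    LinearMap.trace ℂ V E = (finrank ℂ (LinearMap.range E) : ℂ) :=
  (LinearMap.IsIdempotentElem.isProj_range E hE).trace

lemma avgOp_idem (ρ : Representation ℂ G V) (Q : Subgroup G) [Fintype Q] :
    IsIdempotentElem ((Nat.card Q : ℂ)⁻¹ • ∑ y : Q, ρ (y : G)) := by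
  have hne : (Nat.card Q : ℂ) ≠ 0 := by
    exact_mod_cast (Nat.card_pos (α := Q)).ne'
  unfold IsIdempotentElem
  rw [smul_mul_smul_comm, Finset.sum_mul_sum]
  have : ∀ y : Q, ∑ y' : Q, ρ (y : G) * ρ (y' : G) = ∑ y'' : Q, ρ (y'' : G) := by
    intro y
    rw [← Equiv.sum_comp (Equiv.mulLeft y) (fun y'' : Q => ρ (y'' : G))]
    simp [map_mul]
  simp only [this, Finset.sum_const, Finset.card_univ]
  rw [← Nat.card_eq_fintype_card, ← Nat.cast_smul_eq_nsmul ℂ, smul_smul]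
  congr 1
  field_simp

omit [Fintype G] in
lemma trace_avgOp [FiniteDimensional ℂ V] (ρ : Representation ℂ G V) (Q : Subgroup G) [Fintype Q] :
    LinearMap.trace ℂ V ((Nat.card Q : ℂ)⁻¹ • ∑ y : Q, ρ (y : G)) =
      (Nat.card Q : ℂ)⁻¹ * ∑ y : Q, ρ.character (y : G) := by
  unfold Representation.character
  simp only [map_sum, map_smul, smul_eq_mul]

/-- `f = e_Q * e_R * c` gives the factorisation of operators. -/
lemma opOf_of_fac (ρ : Representation ℂ G V) (Q R : Subgroup G) [Fintype Q] [Fintype R] (f c : G → ℂ)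
    (hfac : ∀ w, f w = ((Nat.card Q : ℂ) * (Nat.card R : ℂ))⁻¹ *
      ∑ y : Q, ∑ z : R, c ((z : G)⁻¹ * (y : G)⁻¹ * w)) :
    opOf ρ f = ((Nat.card Q : ℂ)⁻¹ • ∑ y : Q, ρ (y : G)) *
      (((Nat.card R : ℂ)⁻¹ • ∑ z : R, ρ (z : G)) * opOf ρ c) := by
  have key : ∀ (y : Q) (z : R), ρ (y : G) * (ρ (z : G) * ∑ i, c i • ρ i) =
      ∑ x, c ((z : G)⁻¹ * (y : G)⁻¹ * x) • ρ x := by
    intro y z
    rw [← Equiv.sum_comp (Equiv.mulLeft ((y : G) * (z : G)))
      (fun x => c ((z : G)⁻¹ * (y : G)⁻¹ * x) • ρ x)]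
    rw [Finset.mul_sum, Finset.mul_sum]
    refine Finset.sum_congr rfl (fun i _ => ?_)
    simp only [Equiv.coe_mulLeft, map_mul, mul_smul_comm, mul_assoc]
    congr 2
    group
  unfold opOf
  simp only [hfac]
  rw [smul_mul_assoc, smul_mul_assoc, mul_smul_comm, smul_smul, ← mul_inv]
  simp only [mul_smul, ← Finset.smul_sum]
  congr 1
  have rhs : (∑ y : Q, ρ (y : G)) * ((∑ z : R, ρ (z : G)) * ∑ i, c i • ρ i) =
      ∑ y : Q, ∑ z : R, ρ (y : G) * (ρ (z : G) * ∑ i, c i • ρ i) := by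
    rw [Finset.sum_mul]
    refine Finset.sum_congr rfl (fun y _ => ?_)
    rw [Finset.sum_mul, Finset.mul_sum]
  rw [rhs]
  simp only [key, Finset.sum_smul]
  rw [Finset.sum_comm]
  refine Finset.sum_congr rfl (fun y _ => ?_)
  rw [Finset.sum_comm]

lemma finrank_range_mul_le_left [FiniteDimensional ℂ V] (A B : V →ₗ[ℂ] V) :
    finrank ℂ (LinearMap.range (A * B)) ≤ finrank ℂ (LinearMap.range A) := by
  apply Submodule.finrank_mono
  rw [Module.End.mul_eq_comp]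
  exact LinearMap.range_comp_le_range B A

lemma finrank_range_mul_le_right [FiniteDimensional ℂ V] (A B : V →ₗ[ℂ] V) :
    finrank ℂ (LinearMap.range (A * B)) ≤ finrank ℂ (LinearMap.range B) := by
  rw [Module.End.mul_eq_comp, LinearMap.range_comp]
  exact Submodule.finrank_map_le A (LinearMap.range B)

/-- **Package (L3) of S4427.**  For a convolution idempotent `f = e_Q * e_R * c` of augmentation
`1` the numbers `m ξ = ∑ h, f h * ξ h` are natural numbers, bounded by the multiplicities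
`u ξ = [1_Q^G, ξ]`, `v ξ = [1_R^G, ξ]` and by the degree, and `m 1 = 1`. -/
theorem exists_mult_of_idem (Q R : Subgroup G) [Fintype Q] [Fintype R] (f c : G → ℂ)
    (hidem : ∀ w, ∑ u, f u * f (u⁻¹ * w) = f w)
    (hfac : ∀ w, f w = ((Nat.card Q : ℂ) * (Nat.card R : ℂ))⁻¹ *
      ∑ y : Q, ∑ z : R, c ((z : G)⁻¹ * (y : G)⁻¹ * w))
    (heps : ∑ g, f g = 1) :
    ∃ m u v : Cfsg.IrrCharacter G → ℕ,
      (∀ ξ, (m ξ : ℂ) = ∑ h, f h * (ξ : G → ℂ) h) ∧
      (∀ ξ, (u ξ : ℂ) = (Nat.card Q : ℂ)⁻¹ * ∑ y : Q, (ξ : G → ℂ) y) ∧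
      (∀ ξ, (v ξ : ℂ) = (Nat.card R : ℂ)⁻¹ * ∑ z : R, (ξ : G → ℂ) z) ∧
      (∀ ξ, m ξ ≤ u ξ) ∧ (∀ ξ, m ξ ≤ v ξ) ∧
      (∀ ξ, (m ξ : ℝ) ≤ ((ξ : G → ℂ) 1).re) ∧
      (∀ ξ : Cfsg.IrrCharacter G, (ξ : G → ℂ) = (fun _ => 1) → m ξ = 1) := by
  have h : ∀ ξ : Cfsg.IrrCharacter G, ∃ mm uu vv : ℕ,
      ((mm : ℂ) = ∑ h, f h * (ξ : G → ℂ) h) ∧
      ((uu : ℂ) = (Nat.card Q : ℂ)⁻¹ * ∑ y : Q, (ξ : G → ℂ) y) ∧
      ((vv : ℂ) = (Nat.card R : ℂ)⁻¹ * ∑ z : R, (ξ : G → ℂ) z) ∧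
      mm ≤ uu ∧ mm ≤ vv ∧ ((mm : ℝ) ≤ ((ξ : G → ℂ) 1).re) ∧
      ((ξ : G → ℂ) = (fun _ => 1) → mm = 1) := by
    intro ξ
    obtain ⟨n, ρ, -, hχ⟩ := ξ.2
    set PQ : (Fin n → ℂ) →ₗ[ℂ] (Fin n → ℂ) := (Nat.card Q : ℂ)⁻¹ • ∑ y : Q, ρ (y : G) with hPQ
    set PR : (Fin n → ℂ) →ₗ[ℂ] (Fin n → ℂ) := (Nat.card R : ℂ)⁻¹ • ∑ z : R, ρ (z : G) with hPR
    have hff : conv f f = f := funext hidem
    have hE : IsIdempotentElem (opOf ρ f) := by
      unfold IsIdempotentElem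
      rw [← opOf_conv, hff]
    have hfacop : opOf ρ f = PQ * (PR * opOf ρ c) := opOf_of_fac ρ Q R f c hfac
    have hm : ((finrank ℂ (LinearMap.range (opOf ρ f)) : ℕ) : ℂ) = ∑ h, f h * (ξ : G → ℂ) h := by
      rw [← trace_eq_finrank_range hE, trace_opOf, hχ]
    refine ⟨finrank ℂ (LinearMap.range (opOf ρ f)), finrank ℂ (LinearMap.range PQ),
      finrank ℂ (LinearMap.range PR), hm, ?_, ?_, ?_, ?_, ?_, ?_⟩
    · rw [← trace_eq_finrank_range (avgOp_idem ρ Q), trace_avgOp, hχ]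
    · rw [← trace_eq_finrank_range (avgOp_idem ρ R), trace_avgOp, hχ]
    · rw [hfacop]
      exact finrank_range_mul_le_left PQ _
    · rw [hfacop]
      exact (finrank_range_mul_le_right PQ _).trans (finrank_range_mul_le_left PR _)
    · have h1 : (ξ : G → ℂ) 1 = (n : ℂ) := by
        rw [← hχ, Representation.char_one]
        simp
      rw [h1]
      have : finrank ℂ (LinearMap.range (opOf ρ f)) ≤ n := by
        have := Submodule.finrank_le (LinearMap.range (opOf ρ f))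
        simpa using this
      simpa using (by exact_mod_cast this : ((finrank ℂ (LinearMap.range (opOf ρ f)) : ℕ) : ℝ) ≤ n)
    · intro hξ
      have : ((finrank ℂ (LinearMap.range (opOf ρ f)) : ℕ) : ℂ) = ((1 : ℕ) : ℂ) := by
        rw [hm, hξ]
        simpa using heps
      exact_mod_cast this
  choose m u v hmuv using h
  exact ⟨m, u, v, fun ξ => (hmuv ξ).1, fun ξ => (hmuv ξ).2.1, fun ξ => (hmuv ξ).2.2.1,
    fun ξ => (hmuv ξ).2.2.2.1, fun ξ => (hmuv ξ).2.2.2.2.1, fun ξ => (hmuv ξ).2.2.2.2.2.1,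
    fun ξ => (hmuv ξ).2.2.2.2.2.2⟩

end Cfsg.Agent.Lib.Helper9.FrobL3
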