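import Mathlib
import Cfsg.Prelude.Def_Characters
import Cfsg.Agent.Lib.Helper4.Characters
import Cfsg.Agent.Lib.Helper1.CharFound5

/-!
# S4427, package (M1): `∑ ξ, [1_Q^G, ξ] [1_R^G, ξ] = |G| / (|Q| |R|)` for subgroups of coprime order
-/

set_option autoImplicit false

namespace Cfsg.Agent.Lib.Helper9.FrobM1

open scoped BigOperators ComplexConjugate

universe u

variable {G : Type u} [Group G] [Fintype G]

/-- Second orthogonality in the form `∑ ξ, ξ y * ξ z = |C(y)| [y ∼ z⁻¹]`. -/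
lemma sum_irr_mul [Fintype (Cfsg.IrrCharacter G)] (y z : G) :
    ∑ ξ : Cfsg.IrrCharacter G, (ξ : G → ℂ) y * (ξ : G → ℂ) z =
      (Nat.card (Subgroup.centralizer ({z⁻¹} : Set G)) : ℂ) *
        Cfsg.Agent.Lib.Helper1.classIndicator z⁻¹ y := by
  rw [← Cfsg.Agent.Lib.Helper1.column_orthogonality z⁻¹ y]
  refine Finset.sum_congr rfl (fun ξ _ => ?_)
  rw [Cfsg.Agent.Lib.Helper4.isCharacter_inv (Cfsg.Agent.Lib.Helper4.isCharacter_of_irr ξ.2) z]
  simp

theorem sum_avg_mul_avg [Fintype (Cfsg.IrrCharacter G)] (Q R : Subgroup G) [Fintype Q] [Fintype R]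
    (hcop : (Nat.card Q).Coprime (Nat.card R)) :
    ∑ ξ : Cfsg.IrrCharacter G, ((Nat.card Q : ℂ)⁻¹ * ∑ y : Q, (ξ : G → ℂ) y) *
        ((Nat.card R : ℂ)⁻¹ * ∑ z : R, (ξ : G → ℂ) z) =
      (Nat.card G : ℂ) * ((Nat.card Q : ℂ) * (Nat.card R : ℂ))⁻¹ := by
  classical
  have key : ∀ (y : Q) (z : R), ∑ ξ : Cfsg.IrrCharacter G, (ξ : G → ℂ) y * (ξ : G → ℂ) z =
      if (y = 1 ∧ z = 1) then (Nat.card G : ℂ) else 0 := by
    intro y z
    rw [sum_irr_mul]
    unfold Cfsg.Agent.Lib.Helper1.classIndicator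
    by_cases hc : IsConj (z : G)⁻¹ (y : G)
    · -- equal orders dividing coprime numbers
      have ho : orderOf (y : G) = orderOf (z : G) := by
        obtain ⟨c, hc'⟩ := isConj_iff.1 hc
        have h1 : orderOf (z : G)⁻¹ = orderOf (y : G) :=
          SemiconjBy.orderOf_eq c (x := (z : G)⁻¹) (y := (y : G)) (by
            unfold SemiconjBy; rw [← hc']; group)
        rw [← h1, orderOf_inv]
      have hy : orderOf (y : G) ∣ Nat.card Q := by
        rw [Subgroup.orderOf_coe]; exact orderOf_dvd_natCard y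
      have hz : orderOf (z : G) ∣ Nat.card R := by
        rw [Subgroup.orderOf_coe]; exact orderOf_dvd_natCard z
      have h1 : orderOf (y : G) = 1 := by
        have : orderOf (y : G) ∣ Nat.gcd (Nat.card Q) (Nat.card R) :=
          Nat.dvd_gcd hy (ho ▸ hz)
        rw [hcop] at this
        exact Nat.dvd_one.1 this
      have hy1 : (y : G) = 1 := orderOf_eq_one_iff.1 h1
      have hz1 : (z : G) = 1 := orderOf_eq_one_iff.1 (ho ▸ h1)
      have hy1' : y = 1 := Subtype.ext hy1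
      have hz1' : z = 1 := Subtype.ext hz1
      rw [if_pos hc, if_pos ⟨hy1', hz1'⟩, hz1, mul_one]
      congr 1
      have : Subgroup.centralizer ({(1 : G)⁻¹} : Set G) = ⊤ := by
        rw [inv_one]; ext x; simp [Subgroup.mem_centralizer_iff]
      rw [this]
      simp
    · rw [if_neg hc, mul_zero, if_neg]
      rintro ⟨hy1, hz1⟩
      apply hc
      rw [hy1, hz1]
      simp
  calc ∑ ξ : Cfsg.IrrCharacter G, ((Nat.card Q : ℂ)⁻¹ * ∑ y : Q, (ξ : G → ℂ) y) *
        ((Nat.card R : ℂ)⁻¹ * ∑ z : R, (ξ : G → ℂ) z)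
      = ((Nat.card Q : ℂ) * (Nat.card R : ℂ))⁻¹ *
          ∑ y : Q, ∑ z : R, ∑ ξ : Cfsg.IrrCharacter G, (ξ : G → ℂ) y * (ξ : G → ℂ) z := by
        have h : ∀ ξ : Cfsg.IrrCharacter G, ((Nat.card Q : ℂ)⁻¹ * ∑ y : Q, (ξ : G → ℂ) y) *
            ((Nat.card R : ℂ)⁻¹ * ∑ z : R, (ξ : G → ℂ) z) =
            ((Nat.card Q : ℂ) * (Nat.card R : ℂ))⁻¹ *
              ∑ y : Q, ∑ z : R, (ξ : G → ℂ) y * (ξ : G → ℂ) z := by
          intro ξ
          rw [← Finset.sum_mul_sum, mul_inv]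
          ring
        simp only [h]
        rw [← Finset.mul_sum]
        congr 1
        rw [Finset.sum_comm]
        refine Finset.sum_congr rfl (fun y _ => ?_)
        rw [Finset.sum_comm]
    _ = (Nat.card G : ℂ) * ((Nat.card Q : ℂ) * (Nat.card R : ℂ))⁻¹ := by
        simp only [key]
        rw [Finset.sum_eq_single (1 : Q), Finset.sum_eq_single (1 : R)]
        · simp [mul_comm]
        · intro z _ hz; simp [hz]
        · simp
        · intro y _ hy
          apply Finset.sum_eq_zero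
          intro z _
          simp [hy]
        · simp

/-- Step (2) of the Brauer argument in the form used by `frobenius_of_L`. -/
theorem sum_u_mul_v [Fintype (Cfsg.IrrCharacter G)] (Q R : Subgroup G) [Fintype Q] [Fintype R]
    (p a n : ℕ) (hG : Nat.card G = p ^ a * n) (hQR : Nat.card Q * Nat.card R = n)
    (hcop : (Nat.card Q).Coprime (Nat.card R))
    (u v : Cfsg.IrrCharacter G → ℕ)
    (hu : ∀ ξ : Cfsg.IrrCharacter G,
      (u ξ : ℂ) = (Nat.card Q : ℂ)⁻¹ * ∑ y : Q, (ξ : G → ℂ) y)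
    (hv : ∀ ξ : Cfsg.IrrCharacter G,
      (v ξ : ℂ) = (Nat.card R : ℂ)⁻¹ * ∑ z : R, (ξ : G → ℂ) z) :
    ∑ ξ : Cfsg.IrrCharacter G, (u ξ : ℂ) * (v ξ : ℂ) = (p : ℂ) ^ a := by
  simp only [hu, hv]
  rw [sum_avg_mul_avg Q R hcop, hG, ← Nat.cast_mul (Nat.card Q) (Nat.card R), hQR]
  have hn : (n : ℂ) ≠ 0 := by
    have : 0 < Nat.card Q * Nat.card R := Nat.mul_pos Nat.card_pos Nat.card_pos
    rw [hQR] at this
    exact_mod_cast this.ne'
  push_cast
  field_simp

/-- Real-valued variant. -/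
theorem sum_u_mul_v_nat [Fintype (Cfsg.IrrCharacter G)] (Q R : Subgroup G) [Fintype Q] [Fintype R]
    (p a n : ℕ) (hG : Nat.card G = p ^ a * n) (hQR : Nat.card Q * Nat.card R = n)
    (hcop : (Nat.card Q).Coprime (Nat.card R))
    (u v : Cfsg.IrrCharacter G → ℕ)
    (hu : ∀ ξ : Cfsg.IrrCharacter G,
      (u ξ : ℂ) = (Nat.card Q : ℂ)⁻¹ * ∑ y : Q, (ξ : G → ℂ) y)
    (hv : ∀ ξ : Cfsg.IrrCharacter G,
      (v ξ : ℂ) = (Nat.card R : ℂ)⁻¹ * ∑ z : R, (ξ : G → ℂ) z) :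
    ∑ ξ : Cfsg.IrrCharacter G, u ξ * v ξ = p ^ a := by
  have h := sum_u_mul_v Q R p a n hG hQR hcop u v hu hv
  exact_mod_cast h

end Cfsg.Agent.Lib.Helper9.FrobM1
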