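import Mathlib
import Cfsg.Prelude.Def_FusionSystem
import Cfsg.Agent.Lib.Helper9.FusionAG3
import Cfsg.Agent.Lib.Helper9.StronglyEmbAux3

set_option autoImplicit false

namespace Cfsg.Agent.Lib.Helper9

open Cfsg Cfsg.FusionSystem

variable {Ω : Type*} [Group Ω] {S : Subgroup Ω}

/-- An automorphism of a receptive subgroup whose extender is strictly bigger extends to a strictly bigger
subgroup. -/
theorem fs_exists_ext_of_extender_gt [Finite S] (F : FusionSystem S) {R : Subgroup Ω}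
    (hRr : F.IsReceptive R) {α : MulAut R} (hα : α ∈ F.autGroup R)
    {g : Ω} (hg : g ∈ extender S R (R.subtype.comp α.toMonoidHom)) (hgR : g ∉ R) :
    ∃ (Q : Subgroup Ω) (hPQ : R < Q) (φ : Q →* Ω), φ ∈ F.Hom Q ∧
      ∀ x : R, φ (Subgroup.inclusion hPQ.le x) = α x := by
  have hRS : R ≤ S := hRr.1
  rw [mem_autGroup_iff F hRS] at hα
  obtain ⟨φ, hφdef⟩ : ∃ φ : R →* Ω, φ = R.subtype.comp α.toMonoidHom := ⟨_, rfl⟩
  have hφapp : ∀ x : R, φ x = α x := by intro x; rw [hφdef]; rfl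
  rw [← hφdef] at hα hg
  have hrange : φ.range = R := by
    rw [hφdef]
    ext y
    constructor
    · rintro ⟨x, rfl⟩
      exact (α x).2
    · intro hy
      refine ⟨α.symm ⟨y, hy⟩, ?_⟩
      simp
  obtain ⟨ψ, hψ, Hψ⟩ := hRr.2 R φ hα hrange
  have hRN : R ≤ extender S R φ := fs_le_extender R φ hRS (F.le_of_mem hα).2
  have hlt : R < extender S R φ := lt_of_le_of_ne hRN (fun heq => hgR (by rw [heq]; exact hg))
  refine ⟨extender S R φ, hlt, ψ, hψ, fun x => ?_⟩
  rw [← hφapp]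
  exact Hψ x x.2 (hRN x.2)

/-- If `α ∈ Aut_F(R)` normalizes a subgroup `Q'` of `Aut_S(R)` strictly containing `Inn(R)`, then the
extender of `α` is strictly bigger than `R`. -/
theorem fs_exists_extender_of_normalizes (F : FusionSystem S) {R : Subgroup Ω}
    (Q' : Subgroup (F.autGroup R))
    (hlt : (Inn R).subgroupOf (F.autGroup R) < Q')
    (hle : Q' ≤ (autInducedBy S R).subgroupOf (F.autGroup R)) (α : F.autGroup R)
    (hα : α ∈ Subgroup.normalizer (Q' : Set (F.autGroup R))) :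
    ∃ g : Ω, g ∈ extender S R (R.subtype.comp (α : MulAut R).toMonoidHom) ∧ g ∉ R := by
  obtain ⟨q, hqQ, hqI⟩ := SetLike.exists_of_lt hlt
  have hqT := hle hqQ
  rw [Subgroup.mem_subgroupOf, mem_autInducedBy_iff] at hqT
  obtain ⟨g, hgS, Hg⟩ := hqT
  have hgR : g ∉ R := by
    intro hgR
    apply hqI
    rw [Subgroup.mem_subgroupOf]
    refine ⟨⟨g, hgR⟩, ?_⟩
    ext x
    rw [Hg x]
    simp [MulAut.conj_apply]
  have hconj : α * q * α⁻¹ ∈ Q' := (Subgroup.mem_normalizer_iff.mp hα q).mp hqQ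
  have hconjT := hle hconj
  rw [Subgroup.mem_subgroupOf, mem_autInducedBy_iff] at hconjT
  obtain ⟨h, hhS, Hh⟩ := hconjT
  have hgN : g ∈ Subgroup.normalizer (R : Set Ω) := mem_normalizer_of_induces (q : MulAut R) g Hg
  refine ⟨g, ?_, hgR⟩
  rw [mem_extender_iff]
  refine ⟨hgS, hgN, h, hhS, ?_⟩
  intro x hx
  have h1 := Hh ((α : MulAut R) x)
  have h2 : ((α * q * α⁻¹ : F.autGroup R) : MulAut R) ((α : MulAut R) x)
      = (α : MulAut R) ((q : MulAut R) x) := by
    simp only [Subgroup.coe_mul, Subgroup.coe_inv, MulAut.mul_apply, MulAut.inv_apply_self]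
  rw [h2] at h1
  have h3 : (q : MulAut R) x = ⟨g * x * g⁻¹, hx⟩ := Subtype.ext (Hg x)
  rw [h3] at h1
  exact h1

end Cfsg.Agent.Lib.Helper9
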