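import Mathlib
import Cfsg.Prelude.Def_FusionSystem
import Cfsg.Agent.Lib.Helper9.FusionBasic
import Cfsg.Agent.Lib.Helper9.FusionReceptive
import Cfsg.Agent.Lib.Helper9.FusionSat3
import Cfsg.Agent.Lib.Helper9.FusionAut2
import Cfsg.Agent.Lib.Helper9.FusionNormal3
import Cfsg.Agent.Lib.Helper9.CoprimeAut
import Cfsg.Agent.S5083

set_option autoImplicit false
open Cfsg
open Cfsg.FusionSystem

/-! Saturated fusion systems over an abelian `p`-group. -/

namespace Cfsg.Agent.Lib.Helper9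

variable {Ω : Type*} [Group Ω] {S : Subgroup Ω}

/-- In an abelian `S`, `C_S(P) = S` for `P ≤ S`. -/
theorem fs_abelian_centralizerIn (hab : ∀ x ∈ S, ∀ y ∈ S, x * y = y * x) {P : Subgroup Ω}
    (hP : P ≤ S) : centralizerIn S P = S := by
  apply le_antisymm inf_le_left
  intro x hx
  refine ⟨hx, ?_⟩
  show x ∈ Subgroup.centralizer (P : Set Ω)
  rw [Subgroup.mem_centralizer_iff]
  intro y hy
  exact hab y (hP hy) x hx

/-- In a saturated system on an abelian `S`, every map extends to an element of `Aut_F(S)`. -/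
theorem fs_abelian_extend [Finite S] (p : ℕ) [Fact p.Prime] (hS : IsPGroup p S) (F : FusionSystem S)
    (hF : F.IsSaturated p) (hab : ∀ x ∈ S, ∀ y ∈ S, x * y = y * x) {P : Subgroup Ω} {φ : P →* Ω}
    (hφ : φ ∈ F.Hom P) :
    ∃ α ∈ F.autGroup S, ∀ (x : P) (hx : (x : Ω) ∈ S), ((α ⟨x, hx⟩ : S) : Ω) = φ x := by
  have hPS : P ≤ S := (F.le_of_mem hφ).1
  have hVS : φ.range ≤ S := fs_range_le F hφ
  have hVc : F.IsFullyCentralized φ.range := by
    refine ⟨hVS, fun Q _ => ?_⟩
    rw [fs_abelian_centralizerIn hab hVS]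
    exact Subgroup.card_le_of_le (fs_centralizerIn_le S Q)
  have hVr := fs_extension_axiom p hS F hF hVc
  obtain ⟨χ, hχ, hQN, hCN, hχφ, -⟩ := fs_receptive_extend F hVr hφ rfl
  rw [fs_abelian_centralizerIn hab hPS] at hCN
  have hψ := fs_restrict_mem F hχ hCN
  obtain ⟨α, hα, hαψ⟩ := fs_hom_to_aut F hψ (fun y => (F.le_of_mem hψ).2 y)
  refine ⟨α, hα, fun x hx => ?_⟩
  rw [hαψ, ← hχφ x]
  rfl

/-- On an abelian `S`, the group `Aut_F(S)` of a saturated system has order prime to `p`. -/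
theorem fs_abelian_autGroup_coprime [Finite S] (p : ℕ) [Fact p.Prime] (hS : IsPGroup p S)
    (F : FusionSystem S) (hF : F.IsSaturated p) (hab : ∀ x ∈ S, ∀ y ∈ S, x * y = y * x) :
    (Nat.card (F.autGroup S)).Coprime (Nat.card S) := by
  obtain ⟨-, T, hT⟩ := (fs_sylow_axiom p hS F hF (Cfsg.Agent.S5083.top_fullyNormalized F)).2
  -- `Aut_S(S)` is trivial
  have htriv : autInducedBy S S = ⊥ := by
    rw [eq_bot_iff]
    intro α hα
    rw [mem_autInducedBy_iff] at hα
    obtain ⟨g, hg, Hg⟩ := hα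
    rw [Subgroup.mem_bot]
    apply MulEquiv.ext
    intro x
    apply Subtype.ext
    rw [Hg, hab g hg x x.2, mul_inv_cancel_right]
    rfl
  have hTbot : (T : Subgroup (F.autGroup S)) = ⊥ := by
    rw [hT, htriv]
    exact Subgroup.bot_subgroupOf _
  have hfin : Finite (F.autGroup S) := inferInstance
  have hnd : ¬ p ∣ Nat.card (F.autGroup S) := by
    intro hdvd
    have := T.card_eq_multiplicity
    have hT1 : Nat.card T = 1 := by
      have : Nat.card (T : Subgroup (F.autGroup S)) = 1 := by rw [hTbot]; exact Subgroup.card_bot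
      exact this
    have hpos : 0 < (Nat.card (F.autGroup S)).factorization p :=
      (Nat.Prime.factorization_pos_of_dvd Fact.out Nat.card_pos.ne' hdvd)
    rw [hT1] at this
    have h2 : 1 < p ^ (Nat.card (F.autGroup S)).factorization p :=
      Nat.one_lt_pow hpos.ne' (Fact.out : p.Prime).one_lt
    omega
  obtain ⟨n, hn⟩ := (IsPGroup.iff_card.mp hS)
  rw [hn]
  apply Nat.Coprime.pow_right
  exact (Nat.Coprime.symm ((Nat.Prime.coprime_iff_not_dvd Fact.out).mpr hnd))

end Cfsg.Agent.Lib.Helper9
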