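import Mathlib
import Cfsg.Prelude.Def_FusionSystem
import Cfsg.Agent.Lib.Helper9.FusionAbelian
import Cfsg.Agent.Lib.Helper9.FusionInner

set_option autoImplicit false
open Cfsg
open Cfsg.FusionSystem

/-! Inner systems of subgroups of an abelian `S` as normal subsystems. -/

namespace Cfsg.Agent.Lib.Helper9

variable {Ω : Type*} [Group Ω] {S : Subgroup Ω}

/-- maps of the inner system of an abelian group are inclusions -/
theorem inner_abelian_apply {T : Subgroup Ω} (hab : ∀ x ∈ T, ∀ y ∈ T, x * y = y * x)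
    {P : Subgroup Ω} {φ : P →* Ω} (hφ : φ ∈ (innerFusionSystem T).Hom P) (x : P) : φ x = x := by
  obtain ⟨hP, g, hg, Hg⟩ := hφ
  rw [Hg, hab g hg x (hP x.2), mul_inv_cancel_right]

/-- On an abelian `S`, the inner system of a strongly closed subgroup `T`, all of whose `F`-maps from subgroups
extend to `F`-automorphisms of `T`, is a normal subsystem. -/
theorem inner_isNormalIn_of_abelian (p : ℕ) [Fact p.Prime] (hS : IsPGroup p S) (F : FusionSystem S)
    (hF : F.IsSaturated p) (hab : ∀ x ∈ S, ∀ y ∈ S, x * y = y * x) (T : Subgroup Ω)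
    (hT : F.StronglyClosed T)
    (hext : ∀ (P : Subgroup Ω), P ≤ T → ∀ (φ : P →* Ω), φ ∈ F.Hom P →
      ∃ α ∈ F.autGroup T, ∀ (x : P) (hx : (x : Ω) ∈ T), ((α ⟨x, hx⟩ : T) : Ω) = φ x) :
    (innerFusionSystem T).IsNormalIn F p := by
  have hTS : T ≤ S := hT.1
  have habT : ∀ x ∈ T, ∀ y ∈ T, x * y = y * x := fun x hx y hy => hab x (hTS hx) y (hTS hy)
  have hTp : IsPGroup p T := hS.to_le hTS
  refine ⟨⟨inner_isSaturated p T hTp, hF, ?_, hT, ?_, ?_⟩, ?_⟩
  · -- subsystem
    rintro P φ ⟨hP, g, hg, Hg⟩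
    have : φ = conjHom P g := by
      ext x
      exact Hg x
    rw [this]
    exact F.conj_mem (hP.trans hTS) (hTS hg)
  · -- invariance
    intro P hPT φ hφ α hα
    refine ⟨Subgroup.subtype _, ?_, ?_⟩
    · apply fs_subtype_mem
      rintro _ ⟨y, -, rfl⟩
      exact (α y).2
    · intro x hφx hαx
      have h1 := inner_abelian_apply habT hφ x
      show ((α ⟨x, hPT x.2⟩ : T) : Ω) = ((α ⟨φ x, hφx⟩ : T) : Ω)
      congr 2
      exact Subtype.ext h1.symm
  · -- Frattini
    intro P hPT φ hφ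
    obtain ⟨α, hα, hαφ⟩ := hext P hPT φ hφ
    refine ⟨α, hα, P.subtype, fs_subtype_mem _ hPT, fun x hx => ?_⟩
    exact (hαφ x hx).symm
  · -- extension condition
    intro α hα
    have hα1 : α = 1 := by
      have h := inner_autGroup_le T T le_rfl hα
      rw [mem_autInducedBy_iff] at h
      obtain ⟨g, hg, Hg⟩ := h
      apply MulEquiv.ext
      intro x
      apply Subtype.ext
      rw [Hg, habT g hg x x.2, mul_inv_cancel_right]
      rfl
    subst hα1
    refine ⟨1, Subgroup.one_mem _, fun x => rfl, fun c _ => ?_⟩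
    show (c : Ω)⁻¹ * (c : Ω) ∈ _
    rw [inv_mul_cancel]
    exact Subgroup.one_mem _

end Cfsg.Agent.Lib.Helper9
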