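import Mathlib
import Cfsg.Prelude.Def_FusionSystem
import Cfsg.Agent.Lib.Helper9.FusionCentric2
import Cfsg.Agent.Lib.Helper9.FusionNormMap

set_option autoImplicit false

namespace Cfsg.Agent.Lib.Helper9

open Cfsg Cfsg.FusionSystem

variable {Ω : Type*} [Group Ω] {S : Subgroup Ω}

/-- One step: if `ψ ∈ F` on `R`, `Q ≤ R` is `F`-centric and `ψ|_Q ∈ F'`, then `ψ|_{N_R(Q)} ∈ F'`. -/
theorem fs_subsystem_extend_normalizer [Finite S] (p : ℕ) [Fact p.Prime] (hS : IsPGroup p S)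
    (F : FusionSystem S) (hF : F.IsSaturated p) (F' : FusionSystem S) (hF' : F'.IsSaturated p)
    (hle : F' ≤ F) {Q R : Subgroup Ω} (hQR : Q ≤ R) (hQ : F.IsCentric Q) {ψ : R →* Ω}
    (hψ : ψ ∈ F.Hom R) (hψQ : ψ.comp (Subgroup.inclusion hQR) ∈ F'.Hom Q) :
    ψ.comp (Subgroup.inclusion (inf_le_left : normalizerIn R Q ≤ R)) ∈ F'.Hom (normalizerIn R Q) := by
  have hRS : R ≤ S := (F.le_of_mem hψ).1
  have hQS : Q ≤ S := hQ.1
  have hNR : normalizerIn R Q ≤ R := inf_le_left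
  have hQN : Q ≤ normalizerIn R Q := fun x hx => ⟨hQR hx, Subgroup.le_normalizer hx⟩
  obtain ⟨ψ₀, hψ₀def⟩ : ∃ ψ₀ : Q →* Ω, ψ₀ = ψ.comp (Subgroup.inclusion hQR) := ⟨_, rfl⟩
  rw [← hψ₀def] at hψQ
  have hψ₀app : ∀ x : Q, ψ₀ x = ψ (Subgroup.inclusion hQR x) := by intro x; rw [hψ₀def]; rfl
  have hQ₁S : ψ₀.range ≤ S := fs_range_le F' hψQ
  -- a fully normalized conjugate in F'
  obtain ⟨Q₂, hQ₁Q₂, hQ₂n⟩ := fs_exists_fullyNormalized F' hQ₁S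
  obtain ⟨hQ₂c, hQ₂a⟩ := fs_sylow_axiom p hS F' hF' hQ₂n
  have hQ₂r := fs_extension_axiom p hS F' hF' hQ₂c
  obtain ⟨χ, hχ, hχN, hχQ⟩ := fs_exists_normalizer_map p hS F' Q₂ ψ₀.range hQ₂a hQ₂r hQ₁Q₂
  -- ψ maps N_R(Q) into N_S(Q₁)
  have hψN : ∀ g : normalizerIn R Q, ψ (Subgroup.inclusion hNR g) ∈ normalizerIn S ψ₀.range := by
    intro g
    refine ⟨(F.le_of_mem hψ).2 _, ?_⟩
    have key : ∀ g' : normalizerIn R Q, ∀ y ∈ ψ₀.range,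
        ψ (Subgroup.inclusion hNR g') * y * (ψ (Subgroup.inclusion hNR g'))⁻¹ ∈ ψ₀.range := by
      rintro g' _ ⟨x, rfl⟩
      have hconj : (g' : Ω) * x * (g' : Ω)⁻¹ ∈ Q :=
        (Subgroup.mem_normalizer_iff.mp g'.2.2 x).mp x.2
      refine ⟨⟨_, hconj⟩, ?_⟩
      rw [hψ₀app, hψ₀app, ← map_inv, ← map_mul, ← map_mul]
      congr 1
    show ψ (Subgroup.inclusion hNR g) ∈ Subgroup.normalizer ((ψ₀.range : Subgroup Ω) : Set Ω)
    rw [Subgroup.mem_normalizer_iff]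
    intro y
    refine ⟨key g y, fun hy => ?_⟩
    have h1 := key g⁻¹ _ hy
    have h2 : ψ (Subgroup.inclusion hNR g⁻¹) * (ψ (Subgroup.inclusion hNR g) * y *
        (ψ (Subgroup.inclusion hNR g))⁻¹) * (ψ (Subgroup.inclusion hNR g⁻¹))⁻¹ = y := by
      rw [map_inv, map_inv]; group
    rwa [h2] at h1
  -- θ₀ = χ ∘ ψ₀
  have hψ₀N : ∀ x : Q, ψ₀ x ∈ normalizerIn S ψ₀.range := by
    intro x
    exact ⟨hQ₁S ⟨x, rfl⟩, Subgroup.le_normalizer ⟨x, rfl⟩⟩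
  have hθ₀ := F'.comp_mem hψQ hχ hψ₀N
  obtain ⟨θ₀, hθ₀def⟩ : ∃ θ₀ : Q →* Ω, θ₀ = χ.comp (ψ₀.codRestrict _ hψ₀N) := ⟨_, rfl⟩
  rw [← hθ₀def] at hθ₀
  have hθ₀app : ∀ x : Q, θ₀ x = χ ⟨ψ₀ x, hψ₀N x⟩ := by intro x; rw [hθ₀def]; rfl
  have hθ₀range : θ₀.range = Q₂ := by
    rw [← hχQ]
    ext y
    constructor
    · rintro ⟨x, rfl⟩
      rw [hθ₀app]
      exact ⟨⟨ψ₀ x, hψ₀N x⟩, ⟨x, rfl⟩, rfl⟩
    · rintro ⟨w, hw, rfl⟩
      obtain ⟨x, hx⟩ := hw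
      refine ⟨x, ?_⟩
      rw [hθ₀app]
      congr 1
      exact Subtype.ext hx
  obtain ⟨θ, hθ, Hθ⟩ := hQ₂r.2 Q θ₀ hθ₀ hθ₀range
  -- N_R(Q) ≤ extender
  have hNext : normalizerIn R Q ≤ extender S Q θ₀ := by
    intro g hg
    rw [mem_extender_iff]
    refine ⟨hRS hg.1, hg.2, χ ⟨ψ ⟨g, hg.1⟩, hψN ⟨g, hg⟩⟩, (F'.le_of_mem hχ).2 _, ?_⟩
    intro x hx
    rw [hθ₀app, hθ₀app]
    have h1 : (⟨ψ₀ ⟨g * x * g⁻¹, hx⟩, hψ₀N _⟩ : normalizerIn S ψ₀.range)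
        = ⟨ψ ⟨g, hg.1⟩, hψN ⟨g, hg⟩⟩ * ⟨ψ₀ x, hψ₀N x⟩ * ⟨ψ ⟨g, hg.1⟩, hψN ⟨g, hg⟩⟩⁻¹ := by
      apply Subtype.ext
      show ψ₀ ⟨g * x * g⁻¹, hx⟩ = ψ ⟨g, hg.1⟩ * ψ₀ x * (ψ ⟨g, hg.1⟩)⁻¹
      rw [hψ₀app, hψ₀app, ← map_inv, ← map_mul, ← map_mul]
      congr 1
    rw [h1, map_mul, map_mul, map_inv]
  have hθN := fs_restrict_mem F' hθ hNext
  -- ω = χ ∘ ψ|_N
  have hψNF := fs_restrict_mem F hψ hNR
  have hω := F.comp_mem hψNF (hle _ hχ) hψN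
  -- they agree on Q
  have hagree : ∀ x : normalizerIn R Q, (x : Ω) ∈ Q →
      (θ.comp (Subgroup.inclusion hNext)) x
        = (χ.comp ((ψ.comp (Subgroup.inclusion hNR)).codRestrict _ hψN)) x := by
    intro x hx
    have h1 := Hθ x hx (hNext x.2)
    show θ ⟨x, hNext x.2⟩ = χ ⟨ψ (Subgroup.inclusion hNR x), hψN x⟩
    rw [h1, hθ₀app]
    congr 1
    apply Subtype.ext
    show ψ₀ ⟨x, hx⟩ = ψ (Subgroup.inclusion hNR x)
    rw [hψ₀app]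
    congr 1
  obtain ⟨z, hzQ, hzC, Hz⟩ := fs_maps_agree_centric p hS F hF hω _ Q hQN hQ _ (hle _ hθN) hagree rfl
  -- ω = θ_N ∘ c_z ∈ F'
  have hNS : normalizerIn R Q ≤ S := hNR.trans hRS
  have hc := F'.conj_mem hNS (hNS z.2)
  have hcval : ∀ y : normalizerIn R Q, conjHom (normalizerIn R Q) (z : Ω) y ∈ normalizerIn R Q := by
    intro y
    exact (normalizerIn R Q).mul_mem ((normalizerIn R Q).mul_mem z.2 y.2) ((normalizerIn R Q).inv_mem z.2)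
  have hω' := F'.comp_mem hc hθN hcval
  have hωeq : (θ.comp (Subgroup.inclusion hNext)).comp
      ((conjHom (normalizerIn R Q) (z : Ω)).codRestrict _ hcval)
      = χ.comp ((ψ.comp (Subgroup.inclusion hNR)).codRestrict _ hψN) := by
    ext y
    rw [Hz y]
    show (θ.comp (Subgroup.inclusion hNext)) _ = (θ.comp (Subgroup.inclusion hNext)) _
    congr 1
  rw [hωeq] at hω'
  exact fs_cancel_left F' hχ hω' hψN (fun x => rfl)

/-- If `ψ ∈ F` on `R`, `Q ≤ R` is `F`-centric and `ψ|_Q ∈ F'` (with `F' ≤ F` saturated), then `ψ ∈ F'`. -/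
theorem fs_subsystem_extend [Finite S] (p : ℕ) [Fact p.Prime] (hS : IsPGroup p S)
    (F : FusionSystem S) (hF : F.IsSaturated p) (F' : FusionSystem S) (hF' : F'.IsSaturated p)
    (hle : F' ≤ F) {R : Subgroup Ω} {ψ : R →* Ω} (hψ : ψ ∈ F.Hom R) :
    ∀ (k : ℕ) (Q : Subgroup Ω) (hQR : Q ≤ R), F.IsCentric Q →
      ψ.comp (Subgroup.inclusion hQR) ∈ F'.Hom Q → Nat.card R - Nat.card Q = k → ψ ∈ F'.Hom R := by
  have hRS : R ≤ S := (F.le_of_mem hψ).1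
  haveI : Finite R := fs_finite_of_le hRS
  have hRp : IsPGroup p R := hS.to_le hRS
  intro k
  induction k using Nat.strong_induction_on with
  | _ k ih =>
  intro Q hQR hQ hψQ hk
  by_cases hQtop : Q = R
  · subst hQtop
    have : ψ.comp (Subgroup.inclusion hQR) = ψ := by ext x; rfl
    rwa [this] at hψQ
  · have hQlt : Q < R := lt_of_le_of_ne hQR hQtop
    have hNlt := fs_lt_normalizerIn (S := R) p hRp hQlt
    have hNR : normalizerIn R Q ≤ R := inf_le_left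
    have h1 := fs_subsystem_extend_normalizer p hS F hF F' hF' hle hQR hQ hψ hψQ
    have hNc : F.IsCentric (normalizerIn R Q) := fs_centric_of_le F hQ hNlt.le (hNR.trans hRS)
    haveI : Finite (normalizerIn R Q) := fs_finite_of_le (hNR.trans hRS)
    have hcardN : Nat.card Q < Nat.card (normalizerIn R Q) := by
      by_contra hcon
      push Not at hcon
      exact hNlt.ne (Subgroup.eq_of_le_of_card_ge hNlt.le hcon)
    have hcardNR : Nat.card (normalizerIn R Q) ≤ Nat.card R := Subgroup.card_le_of_le hNR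
    exact ih (Nat.card R - Nat.card (normalizerIn R Q)) (by omega) _ hNR hNc h1 rfl

end Cfsg.Agent.Lib.Helper9
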