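import Mathlib
import Cfsg.Prelude.Def_FusionSystem
import Cfsg.Agent.Lib.Helper9.FusionLift2

set_option autoImplicit false
open Cfsg
open Cfsg.FusionSystem

/-! A Frattini-type induction principle for showing that all maps of a saturated fusion system lie in a given system. -/

namespace Cfsg.Agent.Lib.Helper9

variable {Ω : Type*} [Group Ω] {S : Subgroup Ω}

/-- One step: if a normal subgroup `K` of `Aut_F(R)` consists of automorphisms in `L`, and contains conjugation by some
`t ∈ S` outside `R`, then (given the induction hypothesis) all of `Aut_F(R)` lies in `Aut_L(R)`. -/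
theorem fs_autGroup_le_of_normal_subgroup [Finite S] (p : ℕ) [Fact p.Prime] (hS : IsPGroup p S)
    (F L : FusionSystem S) (hF : F.IsSaturated p) {R : Subgroup Ω} (hRn : F.IsFullyNormalized R)
    (IH : ∀ Q : Subgroup Ω, Q ≤ S → Nat.card R < Nat.card Q → F.Hom Q ⊆ L.Hom Q)
    (K : Subgroup (F.autGroup R)) [hKn : K.Normal]
    (hKL : ∀ κ ∈ K, ((κ : F.autGroup R) : MulAut R) ∈ L.autGroup R)
    (t : Ω) (htS : t ∈ S) (htR : t ∉ R) (c : F.autGroup R) (hcK : c ∈ K)
    (hct : ∀ x : R, (((c : MulAut R) x : R) : Ω) = t * x * t⁻¹) :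
    F.autGroup R ≤ L.autGroup R := by
  have hRS : R ≤ S := hRn.1
  haveI : Finite R := fs_finite_of_le hRS
  intro α hα
  obtain ⟨hRc, hRa⟩ := fs_sylow_axiom p hS F hF hRn
  have hRr := fs_extension_axiom p hS F hF hRc
  obtain ⟨-, Sy, hSy⟩ := hRa
  haveI : Finite (F.autGroup R) := inferInstance
  obtain ⟨P₀, hP₀⟩ := exists_sylow_map_eq_inf Sy K
  have hfr := Sylow.normalizer_sup_eq_top P₀
  rw [hP₀] at hfr
  have hmem : (⟨α, hα⟩ : F.autGroup R) ∈
      Subgroup.normalizer (((Sy : Subgroup (F.autGroup R)) ⊓ K : Subgroup (F.autGroup R)) : Set (F.autGroup R))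
        ⊔ K := by
    rw [hfr]; trivial
  obtain ⟨ν, hν, κ, hκ, hνκ⟩ := Subgroup.mem_sup_of_normal_right.mp hmem
  have hκE := hKL κ hκ
  have hcS : (c : MulAut R) ∈ autInducedBy S R := by
    rw [mem_autInducedBy_iff]
    exact ⟨t, htS, hct⟩
  have hcSy : c ∈ (Sy : Subgroup (F.autGroup R)) := by
    rw [hSy, Subgroup.mem_subgroupOf]
    exact hcS
  have hext := fs_mem_extender_of_normalizes' F
    ((Sy : Subgroup (F.autGroup R)) ⊓ K)
    (by rw [← hSy]; exact inf_le_left) ν hν c ⟨hcSy, hcK⟩ t htS hct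
  have hνE : (ν : MulAut R) ∈ L.autGroup R :=
    fs_aut_mem_of_extender_gt F _ hRr ν.2 IH hext htR
  have : α = (ν : MulAut R) * (κ : MulAut R) := by
    have := congrArg Subtype.val hνκ
    exact this.symm
  rw [this]
  exact Subgroup.mul_mem _ hνE hκE

/-- **Frattini-type induction**: to show `F ≤ L` for a saturated `F`, it suffices that for each fully normalized `R`, either
`Aut_F(R) ≤ Aut_L(R)` outright, or some normal subgroup of `Aut_F(R)` lies in `Aut_L(R)` and contains conjugation by an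
element of `S` outside `R`. -/
theorem fs_le_of_frattini [Finite S] (p : ℕ) [Fact p.Prime] (hS : IsPGroup p S)
    (F L : FusionSystem S) (hF : F.IsSaturated p)
    (H : ∀ R : Subgroup Ω, F.IsFullyNormalized R → F.autGroup R ≤ L.autGroup R ∨
      ∃ K : Subgroup (F.autGroup R), K.Normal ∧
        (∀ κ ∈ K, ((κ : F.autGroup R) : MulAut R) ∈ L.autGroup R) ∧
        ∃ t ∈ S, t ∉ R ∧ ∃ c ∈ K, ∀ x : R, (((c : MulAut R) x : R) : Ω) = t * x * t⁻¹) :
    F ≤ L := by
  intro P φ hφ
  refine fs_le_of_autGroup_le p hS F L hF (fun R hRn IH => ?_) _ P φ hφ rfl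
  rcases H R hRn with h | ⟨K, hKn, hKL, t, htS, htR, c, hcK, hct⟩
  · exact h
  · exact fs_autGroup_le_of_normal_subgroup p hS F L hF hRn IH K hKL t htS htR c hcK hct

end Cfsg.Agent.Lib.Helper9
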