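import Mathlib
import Cfsg.Prelude.Def_FusionSystem
import Cfsg.Agent.Lib.Helper9.FusionBasic
import Cfsg.Agent.Lib.Helper9.FusionAut
import Cfsg.Agent.Lib.Helper9.FusionTransport

set_option autoImplicit false
open Cfsg
open Cfsg.FusionSystem

/-! Invariant subsystems: the Frattini factorization `φ = α ∘ φ₀` and its closure properties. -/

namespace Cfsg.Agent.Lib.Helper9

variable {Ω : Type*} [Group Ω] {S T : Subgroup Ω}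

/-- Invariance of `E` under `Aut_F(T)` (the third clause of `IsInvariantIn`). -/
def AutInv (F : FusionSystem S) (E : FusionSystem T) : Prop :=
  ∀ (P : Subgroup Ω) (hPT : P ≤ T) (φ : P →* Ω), φ ∈ E.Hom P → ∀ α ∈ F.autGroup T,
    ∃ χ ∈ E.Hom ((P.subgroupOf T).map (T.subtype.comp α.toMonoidHom)),
      ∀ (x : P) (hφx : φ x ∈ T)
        (hαx : ((α ⟨x, hPT x.2⟩ : T) : Ω) ∈ (P.subgroupOf T).map (T.subtype.comp α.toMonoidHom)),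
        χ ⟨(α ⟨x, hPT x.2⟩ : T), hαx⟩ = ((α ⟨φ x, hφx⟩ : T) : Ω)

/-- The Frattini factorization of a map `φ` with source `P ≤ T`: `φ = α ∘ φ₀` with `α ∈ Aut_F(T)` and `φ₀` in `E`. -/
def FrattiniFact (F : FusionSystem S) (E : FusionSystem T) (P : Subgroup Ω) (φ : P →* Ω) : Prop :=
  ∃ α ∈ F.autGroup T, ∃ φ₀ ∈ E.Hom P, ∀ (x : P) (hx : φ₀ x ∈ T), φ x = ((α ⟨φ₀ x, hx⟩ : T) : Ω)

theorem mem_map_aut {α : MulAut T} {P : Subgroup Ω} (hPT : P ≤ T) (x : P) :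
    ((α ⟨x, hPT x.2⟩ : T) : Ω) ∈ (P.subgroupOf T).map (T.subtype.comp α.toMonoidHom) :=
  ⟨⟨x, hPT x.2⟩, x.2, rfl⟩

/-- Composition of Frattini factorizations. -/
theorem frattiniFact_comp (F : FusionSystem S) (E : FusionSystem T) (hinv : AutInv F E)
    {P Q : Subgroup Ω} {φ₁ : P →* Ω} {φ₂ : Q →* Ω} (hφ₁Q : ∀ x : P, φ₁ x ∈ Q)
    (h₁ : FrattiniFact F E P φ₁) (h₂ : FrattiniFact F E Q φ₂) :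
    FrattiniFact F E P (φ₂.comp (φ₁.codRestrict Q hφ₁Q)) := by
  obtain ⟨α₁, hα₁, φ₀₁, hφ₀₁, H₁⟩ := h₁
  obtain ⟨α₂, hα₂, φ₀₂, hφ₀₂, H₂⟩ := h₂
  have hQT : Q ≤ T := (E.le_of_mem hφ₀₂).1
  have hφ₀₁T : ∀ x : P, φ₀₁ x ∈ T := (E.le_of_mem hφ₀₁).2
  have hφ₀₂T : ∀ x : Q, φ₀₂ x ∈ T := (E.le_of_mem hφ₀₂).2
  have hrQ : φ₁.range ≤ Q := by
    rintro _ ⟨x, rfl⟩
    exact hφ₁Q x
  have hrT : φ₁.range ≤ T := hrQ.trans hQT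
  have hφ₀₂' := fs_restrict_mem E hφ₀₂ hrQ
  obtain ⟨χ, hχ, Hχ⟩ := hinv φ₁.range hrT _ hφ₀₂' α₁⁻¹ (Subgroup.inv_mem _ hα₁)
  have h' : ∀ x : P, φ₀₁ x ∈ (φ₁.range.subgroupOf T).map (T.subtype.comp (α₁⁻¹ : MulAut T).toMonoidHom) := by
    intro x
    refine ⟨⟨φ₁ x, hrT ⟨x, rfl⟩⟩, ⟨x, rfl⟩, ?_⟩
    show (((α₁⁻¹ : MulAut T) ⟨φ₁ x, _⟩ : T) : Ω) = φ₀₁ x
    have e : (⟨φ₁ x, hrT ⟨x, rfl⟩⟩ : T) = α₁ ⟨φ₀₁ x, hφ₀₁T x⟩ := Subtype.ext (H₁ x (hφ₀₁T x))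
    rw [e, MulAut.inv_apply_self]
  refine ⟨α₂ * α₁, Subgroup.mul_mem _ hα₂ hα₁, χ.comp (φ₀₁.codRestrict _ h'), E.comp_mem hφ₀₁ hχ h', ?_⟩
  intro x hx
  -- compute `φ₀ x`
  have e1 : (⟨φ₀₁ x, hφ₀₁T x⟩ : T) = (α₁⁻¹ : MulAut T) ⟨φ₁ x, hrT ⟨x, rfl⟩⟩ := by
    have e : (⟨φ₁ x, hrT ⟨x, rfl⟩⟩ : T) = α₁ ⟨φ₀₁ x, hφ₀₁T x⟩ := Subtype.ext (H₁ x (hφ₀₁T x))
    rw [e, MulAut.inv_apply_self]
  have hmem : (((α₁⁻¹ : MulAut T) ⟨φ₁ x, hrT ⟨x, rfl⟩⟩ : T) : Ω) ∈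
      (φ₁.range.subgroupOf T).map (T.subtype.comp (α₁⁻¹ : MulAut T).toMonoidHom) :=
    mem_map_aut hrT ⟨φ₁ x, ⟨x, rfl⟩⟩
  have e2 : (φ₀₁.codRestrict _ h' x) = ⟨((α₁⁻¹ : MulAut T) ⟨φ₁ x, hrT ⟨x, rfl⟩⟩ : T), hmem⟩ := by
    have e1' : φ₀₁ x = (((α₁⁻¹ : MulAut T) ⟨φ₁ x, hrT ⟨x, rfl⟩⟩ : T) : Ω) :=
      congrArg (fun z : T => (z : Ω)) e1
    exact Subtype.ext e1'
  have e3 := Hχ ⟨φ₁ x, ⟨x, rfl⟩⟩ (hφ₀₂T _) hmem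
  have e4 : (χ.comp (φ₀₁.codRestrict _ h')) x =
      (((α₁⁻¹ : MulAut T) ⟨φ₀₂ ⟨φ₁ x, hφ₁Q x⟩, hφ₀₂T _⟩ : T) : Ω) := by
    show χ (φ₀₁.codRestrict _ h' x) = _
    rw [e2, e3]
    rfl
  have e5 : (⟨(χ.comp (φ₀₁.codRestrict _ h')) x, hx⟩ : T) =
      (α₁⁻¹ : MulAut T) ⟨φ₀₂ ⟨φ₁ x, hφ₁Q x⟩, hφ₀₂T _⟩ := Subtype.ext e4
  rw [e5]
  show φ₂ ⟨φ₁ x, hφ₁Q x⟩ = (((α₂ * α₁) ((α₁⁻¹ : MulAut T) ⟨φ₀₂ ⟨φ₁ x, hφ₁Q x⟩, hφ₀₂T _⟩) : T) : Ω)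
  rw [MulAut.mul_apply, MulAut.apply_inv_self]
  exact H₂ ⟨φ₁ x, hφ₁Q x⟩ (hφ₀₂T _)

/-- Inverse of a Frattini factorization. -/
theorem frattiniFact_inv (F : FusionSystem S) (E : FusionSystem T) (hinv : AutInv F E)
    {P : Subgroup Ω} {φ : P →* Ω} (h : FrattiniFact F E P φ) {ψ : φ.range →* Ω}
    (hψ : ∀ x : P, ψ ⟨φ x, ⟨x, rfl⟩⟩ = (x : Ω)) : FrattiniFact F E φ.range ψ := by
  obtain ⟨α, hα, φ₀, hφ₀, H⟩ := h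
  have hPT : P ≤ T := (E.le_of_mem hφ₀).1
  have hφ₀T : ∀ x : P, φ₀ x ∈ T := (E.le_of_mem hφ₀).2
  obtain ⟨ψ₀, hψ₀, Hψ₀⟩ := E.inv_mem hφ₀
  have hrT : φ₀.range ≤ T := by
    rintro _ ⟨x, rfl⟩
    exact hφ₀T x
  obtain ⟨χ, hχ, Hχ⟩ := hinv φ₀.range hrT ψ₀ hψ₀ α hα
  have hle : φ.range ≤ (φ₀.range.subgroupOf T).map (T.subtype.comp α.toMonoidHom) := by
    rintro _ ⟨x, rfl⟩
    refine ⟨⟨φ₀ x, hφ₀T x⟩, ⟨x, rfl⟩, ?_⟩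
    exact (H x (hφ₀T x)).symm
  refine ⟨α⁻¹, Subgroup.inv_mem _ hα, χ.comp (Subgroup.inclusion hle), fs_restrict_mem E hχ hle, ?_⟩
  rintro ⟨_, x, rfl⟩ hx
  rw [hψ]
  have hmem : ((α ⟨φ₀ x, hφ₀T x⟩ : T) : Ω) ∈ (φ₀.range.subgroupOf T).map (T.subtype.comp α.toMonoidHom) :=
    mem_map_aut hrT ⟨φ₀ x, ⟨x, rfl⟩⟩
  have hψ₀T : ψ₀ ⟨φ₀ x, ⟨x, rfl⟩⟩ ∈ T := by
    rw [Hψ₀]
    exact hPT x.2
  have e3 := Hχ ⟨φ₀ x, ⟨x, rfl⟩⟩ hψ₀T hmem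
  have e4 : (χ.comp (Subgroup.inclusion hle)) ⟨φ x, ⟨x, rfl⟩⟩ = ((α ⟨x, hPT x.2⟩ : T) : Ω) := by
    show χ (Subgroup.inclusion hle ⟨φ x, ⟨x, rfl⟩⟩) = _
    have e : Subgroup.inclusion hle ⟨φ x, ⟨x, rfl⟩⟩ = ⟨(α ⟨φ₀ x, hφ₀T x⟩ : T), hmem⟩ :=
      Subtype.ext (H x (hφ₀T x))
    rw [e, e3]
    congr 2
    exact Subtype.ext (Hψ₀ x)
  have e5 : (⟨(χ.comp (Subgroup.inclusion hle)) ⟨φ x, ⟨x, rfl⟩⟩, hx⟩ : T) = α ⟨x, hPT x.2⟩ :=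
    Subtype.ext e4
  rw [e5, MulAut.inv_apply_self]

/-- Restriction of a Frattini factorization. -/
theorem frattiniFact_restrict (F : FusionSystem S) (E : FusionSystem T)
    {P P₁ : Subgroup Ω} {φ : P →* Ω} (h : FrattiniFact F E P φ) (hle : P₁ ≤ P) :
    FrattiniFact F E P₁ (φ.comp (Subgroup.inclusion hle)) := by
  obtain ⟨α, hα, φ₀, hφ₀, H⟩ := h
  exact ⟨α, hα, φ₀.comp (Subgroup.inclusion hle), fs_restrict_mem E hφ₀ hle, fun x hx => H _ hx⟩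

/-- Maps of `E` have a (trivial) Frattini factorization. -/
theorem frattiniFact_of_mem (F : FusionSystem S) (E : FusionSystem T)
    {P : Subgroup Ω} {φ : P →* Ω} (h : φ ∈ E.Hom P) : FrattiniFact F E P φ :=
  ⟨1, Subgroup.one_mem _, φ, h, fun _ _ => rfl⟩

end Cfsg.Agent.Lib.Helper9
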