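import Mathlib
import Cfsg.Prelude.Def_FusionSystem
import Cfsg.Agent.Lib.Helper9.FusionInvariant1
import Cfsg.Agent.Lib.Helper9.FusionStrongly
import Cfsg.Agent.Lib.Helper9.FusionNormal4

set_option autoImplicit false
open Cfsg
open Cfsg.FusionSystem

/-! The system of maps of `F` whose restriction to `T` has a Frattini factorization. -/

namespace Cfsg.Agent.Lib.Helper9

variable {Ω : Type*} [Group Ω] {S T : Subgroup Ω}

/-- Conjugation by `g ∈ S` as an element of `Aut_F(T)`, for `T` strongly closed. -/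
theorem exists_conj_aut (F : FusionSystem S) (hT : F.StronglyClosed T) {g : Ω} (hg : g ∈ S) :
    ∃ c ∈ F.autGroup T, ∀ x : T, ((c x : T) : Ω) = g * x * g⁻¹ := by
  have hgN : g ∈ Subgroup.normalizer (T : Set Ω) := fs_stronglyClosed_le_normalizer F hT hg
  refine ⟨T.normalizerMonoidHom ⟨g, hgN⟩, ?_, fun x => rfl⟩
  apply autInducedBy_le_autGroup F hT.1
  rw [mem_autInducedBy_iff]
  exact ⟨g, hg, fun x => rfl⟩

/-- The maps of `F` whose restriction to `P ⊓ T` has a Frattini factorization. -/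
def frattiniSystem (F : FusionSystem S) (E : FusionSystem T) (hT : F.StronglyClosed T)
    (hinv : AutInv F E) : FusionSystem S where
  Hom P := {φ | φ ∈ F.Hom P ∧ FrattiniFact F E (P ⊓ T) (φ.comp (Subgroup.inclusion inf_le_left))}
  le_of_mem h := F.le_of_mem h.1
  injective_of_mem h := F.injective_of_mem h.1
  conj_mem := by
    intro P g hP hg
    refine ⟨F.conj_mem hP hg, ?_⟩
    obtain ⟨c, hc, Hc⟩ := exists_conj_aut F hT hg
    refine ⟨c, hc, (P ⊓ T).subtype, fs_subtype_mem E inf_le_right, fun x hx => ?_⟩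
    rw [Hc]
    rfl
  comp_mem := by
    rintro P Q φ₁ φ₂ ⟨hφ₁, h₁⟩ ⟨hφ₂, h₂⟩ h
    refine ⟨F.comp_mem hφ₁ hφ₂ h, ?_⟩
    have h'' : ∀ x : ↥(P ⊓ T), (φ₁.comp (Subgroup.inclusion inf_le_left)) x ∈ Q ⊓ T := by
      intro x
      exact ⟨h _, fs_stronglyClosed_mem F hT hφ₁ _ x.2.2⟩
    have := frattiniFact_comp F E hinv h'' h₁ h₂
    have e : (φ₂.comp (φ₁.codRestrict Q h)).comp (Subgroup.inclusion inf_le_left) =
        (φ₂.comp (Subgroup.inclusion inf_le_left)).comp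
          ((φ₁.comp (Subgroup.inclusion inf_le_left)).codRestrict (Q ⊓ T) h'') := by
      ext x
      rfl
    rw [e]
    exact this
  inv_mem := by
    rintro P φ ⟨hφ, h⟩
    obtain ⟨ψ, hψ, Hψ⟩ := F.inv_mem hφ
    refine ⟨ψ, ⟨hψ, ?_⟩, Hψ⟩
    have hle1 : (φ.comp (Subgroup.inclusion (inf_le_left : P ⊓ T ≤ P))).range ≤ φ.range := by
      rintro _ ⟨x, rfl⟩
      exact ⟨_, rfl⟩
    have hψ'' : ∀ x : ↥(P ⊓ T), (ψ.comp (Subgroup.inclusion hle1))
        ⟨(φ.comp (Subgroup.inclusion inf_le_left)) x, ⟨x, rfl⟩⟩ = (x : Ω) := by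
      intro x
      exact Hψ (Subgroup.inclusion inf_le_left x)
    have h3 := frattiniFact_inv F E hinv h hψ''
    have hle2 : φ.range ⊓ T ≤ (φ.comp (Subgroup.inclusion (inf_le_left : P ⊓ T ≤ P))).range := by
      rintro _ ⟨⟨x, rfl⟩, hxT⟩
      have h4 := fs_stronglyClosed_mem F hT hψ ⟨φ x, ⟨x, rfl⟩⟩ hxT
      rw [Hψ] at h4
      exact ⟨⟨x, x.2, h4⟩, rfl⟩
    have h5 := frattiniFact_restrict F E h3 hle2
    have e : ψ.comp (Subgroup.inclusion (inf_le_left : φ.range ⊓ T ≤ φ.range)) =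
        (ψ.comp (Subgroup.inclusion hle1)).comp (Subgroup.inclusion hle2) := by
      ext x
      rfl
    rw [e]
    exact h5

theorem mem_frattiniSystem_iff (F : FusionSystem S) (E : FusionSystem T) (hT : F.StronglyClosed T)
    (hinv : AutInv F E) {P : Subgroup Ω} (φ : P →* Ω) :
    φ ∈ (frattiniSystem F E hT hinv).Hom P ↔
      φ ∈ F.Hom P ∧ FrattiniFact F E (P ⊓ T) (φ.comp (Subgroup.inclusion inf_le_left)) := Iff.rfl

end Cfsg.Agent.Lib.Helper9
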