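import Mathlib
import Cfsg.Prelude.Def_FusionSystem
import Cfsg.Agent.Lib.Helper9.FusionInvariant2
import Cfsg.Agent.Lib.Helper9.FusionAG1
import Cfsg.Agent.Lib.Helper9.FusionFrattini
import Cfsg.Agent.Lib.Helper9.FusionLift3

set_option autoImplicit false
open Cfsg
open Cfsg.FusionSystem

/-! Strong invariance implies the Frattini condition. -/

namespace Cfsg.Agent.Lib.Helper9

variable {Ω : Type*} [Group Ω] {S T : Subgroup Ω}

/-- The strong invariance condition. -/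
def StrongInv (F : FusionSystem S) (E : FusionSystem T) : Prop :=
  ∀ (P Q : Subgroup Ω) (hPQ : P ≤ Q) (_ : Q ≤ T) (φ : P →* Ω) (_ : φ ∈ E.Hom P) (hφQ : ∀ x : P, φ x ∈ Q)
    (ψ : Q →* Ω) (_ : ψ ∈ F.Hom Q), ∃ χ ∈ E.Hom ((P.subgroupOf Q).map ψ),
      ∀ (x : P) (hx : ψ (Subgroup.inclusion hPQ x) ∈ (P.subgroupOf Q).map ψ),
        χ ⟨ψ (Subgroup.inclusion hPQ x), hx⟩ = ψ ⟨φ x, hφQ x⟩

theorem autInv_of_strongInv (F : FusionSystem S) (E : FusionSystem T) (hT : F.StronglyClosed T)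
    (h : StrongInv F E) : AutInv F E := by
  intro P hPT φ hφ α hα
  have hφT : ∀ x : P, φ x ∈ T := (E.le_of_mem hφ).2
  have hψ := (mem_autGroup_iff F hT.1 α).mp hα
  obtain ⟨χ, hχ, Hχ⟩ := h P T hPT le_rfl φ hφ hφT _ hψ
  exact ⟨χ, hχ, fun x hφx hαx => Hχ x hαx⟩

/-- The automorphisms of `R` in `F` whose restriction to `R ⊓ T` is a map of `E`. -/
def autRestrictIn (F : FusionSystem S) (E : FusionSystem T) (hT : F.StronglyClosed T)
    {R : Subgroup Ω} (hRS : R ≤ S) : Subgroup (F.autGroup R) where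
  carrier := {β | (R.subtype.comp (β : MulAut R).toMonoidHom).comp
    (Subgroup.inclusion (inf_le_left : R ⊓ T ≤ R)) ∈ E.Hom (R ⊓ T)}
  one_mem' := by
    have : (R.subtype.comp ((1 : F.autGroup R) : MulAut R).toMonoidHom).comp
        (Subgroup.inclusion (inf_le_left : R ⊓ T ≤ R)) = (R ⊓ T).subtype := by
      ext x; rfl
    show _ ∈ E.Hom (R ⊓ T)
    rw [this]
    exact fs_subtype_mem E inf_le_right
  mul_mem' := by
    intro β₁ β₂ h₁ h₂
    have hβ₂ := (mem_autGroup_iff F hRS _).mp β₂.2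
    have h : ∀ x : ↥(R ⊓ T), ((R.subtype.comp (β₂ : MulAut R).toMonoidHom).comp
        (Subgroup.inclusion (inf_le_left : R ⊓ T ≤ R))) x ∈ R ⊓ T := by
      intro x
      exact ⟨((β₂ : MulAut R) _).2, fs_stronglyClosed_mem F hT hβ₂ _ x.2.2⟩
    have h3 := E.comp_mem h₂ h₁ h
    have e : (R.subtype.comp ((β₁ * β₂ : F.autGroup R) : MulAut R).toMonoidHom).comp
        (Subgroup.inclusion (inf_le_left : R ⊓ T ≤ R)) =
        ((R.subtype.comp (β₁ : MulAut R).toMonoidHom).comp (Subgroup.inclusion inf_le_left)).comp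
          (((R.subtype.comp (β₂ : MulAut R).toMonoidHom).comp
            (Subgroup.inclusion inf_le_left)).codRestrict (R ⊓ T) h) := by
      ext x; rfl
    show _ ∈ E.Hom (R ⊓ T)
    rw [e]
    exact h3
  inv_mem' := by
    intro β h₁
    have hβ' := (mem_autGroup_iff F hRS _).mp (β⁻¹).2
    have h : ∀ x : ↥(R ⊓ T), ((R.subtype.comp ((β⁻¹ : F.autGroup R) : MulAut R).toMonoidHom).comp
        (Subgroup.inclusion (inf_le_left : R ⊓ T ≤ R))) x ∈ R ⊓ T := by
      intro x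
      exact ⟨(((β⁻¹ : F.autGroup R) : MulAut R) _).2, fs_stronglyClosed_mem F hT hβ' _ x.2.2⟩
    refine fs_cancel_left E h₁ (fs_subtype_mem E inf_le_right) h (fun x => ?_)
    show (((β : MulAut R) (((β⁻¹ : F.autGroup R) : MulAut R) (Subgroup.inclusion inf_le_left x)) : R) : Ω) = x
    rw [Subgroup.coe_inv, MulAut.apply_inv_self]
    rfl

theorem mem_autRestrictIn_iff (F : FusionSystem S) (E : FusionSystem T) (hT : F.StronglyClosed T)
    {R : Subgroup Ω} (hRS : R ≤ S) (β : F.autGroup R) :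
    β ∈ autRestrictIn F E hT hRS ↔ (R.subtype.comp (β : MulAut R).toMonoidHom).comp
      (Subgroup.inclusion (inf_le_left : R ⊓ T ≤ R)) ∈ E.Hom (R ⊓ T) := Iff.rfl

theorem autRestrictIn_normal (F : FusionSystem S) (E : FusionSystem T) (hT : F.StronglyClosed T)
    (hstrong : StrongInv F E) {R : Subgroup Ω} (hRS : R ≤ S) :
    (autRestrictIn F E hT hRS).Normal := by
  constructor
  intro β hβ γ
  rw [mem_autRestrictIn_iff] at hβ ⊢
  have hγ := (mem_autGroup_iff F hRS _).mp γ.2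
  have hγ' := (mem_autGroup_iff F hRS _).mp (γ⁻¹).2
  have hβF := (mem_autGroup_iff F hRS _).mp β.2
  have hφR₀ : ∀ x : ↥(R ⊓ T), ((R.subtype.comp (β : MulAut R).toMonoidHom).comp
      (Subgroup.inclusion (inf_le_left : R ⊓ T ≤ R))) x ∈ R ⊓ T := by
    intro x
    exact ⟨((β : MulAut R) _).2, fs_stronglyClosed_mem F hT hβF _ x.2.2⟩
  have hψ := fs_restrict_mem F hγ (inf_le_left : R ⊓ T ≤ R)
  obtain ⟨χ, hχ, Hχ⟩ := hstrong (R ⊓ T) (R ⊓ T) le_rfl inf_le_right _ hβ hφR₀ _ hψ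
  -- `γ⁻¹` maps `R ⊓ T` into itself
  have hinvmem : ∀ y : ↥(R ⊓ T), ((((γ⁻¹ : F.autGroup R) : MulAut R)
      (Subgroup.inclusion inf_le_left y) : R) : Ω) ∈ R ⊓ T := by
    intro y
    exact ⟨(((γ⁻¹ : F.autGroup R) : MulAut R) _).2, fs_stronglyClosed_mem F hT hγ' _ y.2.2⟩
  have hle : R ⊓ T ≤ ((R ⊓ T).subgroupOf (R ⊓ T)).map
      ((R.subtype.comp (γ : MulAut R).toMonoidHom).comp (Subgroup.inclusion (inf_le_left : R ⊓ T ≤ R))) := by
    intro y hy
    refine ⟨⟨_, hinvmem ⟨y, hy⟩⟩, Subgroup.mem_subgroupOf.mpr (hinvmem ⟨y, hy⟩), ?_⟩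
    show (((γ : MulAut R) (((γ⁻¹ : F.autGroup R) : MulAut R) ⟨y, hy.1⟩) : R) : Ω) = y
    rw [Subgroup.coe_inv, MulAut.apply_inv_self]
  have h3 := fs_restrict_mem E hχ hle
  have e : (R.subtype.comp ((γ * β * γ⁻¹ : F.autGroup R) : MulAut R).toMonoidHom).comp
      (Subgroup.inclusion (inf_le_left : R ⊓ T ≤ R)) = χ.comp (Subgroup.inclusion hle) := by
    ext y
    obtain ⟨y', hy'⟩ : ∃ y' : ↥(R ⊓ T), y' = ⟨_, hinvmem y⟩ := ⟨_, rfl⟩
    have hyy' : ((R.subtype.comp (γ : MulAut R).toMonoidHom).comp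
        (Subgroup.inclusion (inf_le_left : R ⊓ T ≤ R))) (Subgroup.inclusion le_rfl y') = (y : Ω) := by
      rw [hy']
      show (((γ : MulAut R) (((γ⁻¹ : F.autGroup R) : MulAut R) (Subgroup.inclusion inf_le_left y)) : R) : Ω) = y
      rw [Subgroup.coe_inv, MulAut.apply_inv_self]
      rfl
    have hx : ((R.subtype.comp (γ : MulAut R).toMonoidHom).comp
        (Subgroup.inclusion (inf_le_left : R ⊓ T ≤ R))) (Subgroup.inclusion le_rfl y') ∈
        ((R ⊓ T).subgroupOf (R ⊓ T)).map ((R.subtype.comp (γ : MulAut R).toMonoidHom).comp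
          (Subgroup.inclusion (inf_le_left : R ⊓ T ≤ R))) := by
      rw [hyy']
      exact hle y.2
    have h4 := Hχ y' hx
    have e1 : Subgroup.inclusion hle y = ⟨_, hx⟩ := Subtype.ext hyy'.symm
    show _ = χ (Subgroup.inclusion hle y)
    rw [e1, h4, hy']
    rfl
  rw [e]
  exact h3

end Cfsg.Agent.Lib.Helper9
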