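import Mathlib
import Cfsg.Prelude.Def_FusionSystem
import Cfsg.Agent.Lib.Helper9.FusionInvariant3

set_option autoImplicit false
open Cfsg
open Cfsg.FusionSystem

/-! Strong invariance implies the Frattini condition (main theorem). -/

namespace Cfsg.Agent.Lib.Helper9

variable {Ω : Type*} [Group Ω] {S T : Subgroup Ω}

theorem frattini_of_strongInv [Finite S] (p : ℕ) [Fact p.Prime] (hS : IsPGroup p S)
    (F : FusionSystem S) (hF : F.IsSaturated p) (E : FusionSystem T) (hT : F.StronglyClosed T)
    (hstrong : StrongInv F E) {P : Subgroup Ω} (hPT : P ≤ T) {φ : P →* Ω} (hφ : φ ∈ F.Hom P) :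
    FrattiniFact F E P φ := by
  have hinv := autInv_of_strongInv F E hT hstrong
  have hle : F ≤ frattiniSystem F E hT hinv := by
    apply fs_le_of_frattini p hS F _ hF
    intro R hRn
    have hRS : R ≤ S := hRn.1
    by_cases hTR : T ≤ R
    · left
      intro α hα
      have hα' := (mem_autGroup_iff F hRS α).mp hα
      rw [mem_autGroup_iff _ hRS, mem_frattiniSystem_iff]
      refine ⟨hα', ?_⟩
      have hρ := fs_restrict_mem F hα' hTR
      have hval : ∀ y : T, ((R.subtype.comp α.toMonoidHom).comp (Subgroup.inclusion hTR)) y ∈ T :=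
        fun y => fs_stronglyClosed_mem F hT hα' _ y.2
      obtain ⟨α', hα'mem, Hα'⟩ := fs_hom_to_aut F hρ hval
      refine ⟨α', hα'mem, (R ⊓ T).subtype, fs_subtype_mem E inf_le_right, fun x hx => ?_⟩
      rw [Hα']
      rfl
    · right
      refine ⟨autRestrictIn F E hT hRS, autRestrictIn_normal F E hT hstrong hRS, ?_, ?_⟩
      · intro κ hκ
        rw [mem_autGroup_iff _ hRS, mem_frattiniSystem_iff]
        exact ⟨(mem_autGroup_iff F hRS _).mp κ.2, frattiniFact_of_mem F E hκ⟩
      · obtain ⟨t, htT, htN, htR⟩ := exists_mem_normalizer_not_mem p hS F hT hRS hTR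
        have htS : t ∈ S := hT.1 htT
        have hcS : R.normalizerMonoidHom ⟨t, htN⟩ ∈ autInducedBy S R := by
          rw [mem_autInducedBy_iff]
          exact ⟨t, htS, fun x => rfl⟩
        have hcF : R.normalizerMonoidHom ⟨t, htN⟩ ∈ F.autGroup R := autInducedBy_le_autGroup F hRS hcS
        refine ⟨t, htS, htR, ⟨_, hcF⟩, ?_, fun x => rfl⟩
        rw [mem_autRestrictIn_iff]
        have e : (R.subtype.comp ((⟨_, hcF⟩ : F.autGroup R) : MulAut R).toMonoidHom).comp
            (Subgroup.inclusion (inf_le_left : R ⊓ T ≤ R)) = conjHom (R ⊓ T) t := by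
          ext x; rfl
        rw [e]
        exact E.conj_mem inf_le_right htT
  have h1 := (hle P hφ).2
  have hle' : P ≤ P ⊓ T := le_inf le_rfl hPT
  have h2 := frattiniFact_restrict F E h1 hle'
  have e : (φ.comp (Subgroup.inclusion (inf_le_left : P ⊓ T ≤ P))).comp (Subgroup.inclusion hle') = φ := by
    ext x; rfl
  rw [e] at h2
  exact h2

end Cfsg.Agent.Lib.Helper9
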