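import Mathlib
import Cfsg.Prelude.Def_FusionComponents
import Cfsg.Agent.Lib.Helper6.PRes
import Cfsg.Agent.Lib.Helper9.FusionMorph3
import Cfsg.Agent.Lib.Helper9.FusionNormal4
import Cfsg.Agent.S5132
import Cfsg.Agent.S5134

set_option autoImplicit false
open Cfsg
open Cfsg.FusionSystem

/-! Lifting elements of `O^p(Aut_F(P))` to `O^p(Aut_F(PT))` modulo a strongly closed subgroup `T`. -/

namespace Cfsg.Agent.Lib.Helper9

open Cfsg.Agent.Lib.Helper6

variable {Ω : Type*} [Group Ω] {S : Subgroup Ω}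

theorem autGroup_congr {Ω' : Type*} [Group Ω'] {S' : Subgroup Ω'} (F' : FusionSystem S')
    {A B : Subgroup Ω'} (h : A = B) :
    ∃ e : F'.autGroup A ≃* F'.autGroup B, ∀ (a : F'.autGroup A) (x : Ω') (hxA : x ∈ A) (hxB : x ∈ B),
      ((((e a : F'.autGroup B) : MulAut B) ⟨x, hxB⟩ : B) : Ω') = (((a : MulAut A) ⟨x, hxA⟩ : A) : Ω') := by
  subst h
  exact ⟨MulEquiv.refl _, fun _ _ _ _ => rfl⟩

theorem fs_exists_pResidual_lift [Finite S] (p : ℕ) [Fact p.Prime] (hS : IsPGroup p S)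
    (F : FusionSystem S) (hF : F.IsSaturated p) (T : Subgroup Ω) (hT : F.StronglyClosed T)
    {P : Subgroup Ω} (hPS : P ≤ S) (a : F.autGroup P) (ha : a ∈ pResidual p (F.autGroup P)) :
    ∃ (U : Subgroup Ω) (hPU : P ≤ U) (_ : T ≤ U) (_ : U ≤ S) (a' : F.autGroup U),
      a' ∈ pResidual p (F.autGroup U) ∧
      ∀ x : P, ((((a : MulAut P) x : P) : Ω))⁻¹ * (((a' : MulAut U) ⟨x, hPU x.2⟩ : U) : Ω) ∈ T := by
  haveI : (T.subgroupOf S).Normal :=
    Subgroup.normal_subgroupOf_of_le_normalizer (fs_stronglyClosed_le_normalizer F hT)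
  obtain ⟨E, hE⟩ := Cfsg.Agent.S5132.result p hS F T hT
  obtain ⟨θ, hθdef⟩ : ∃ θ : S →* S ⧸ T.subgroupOf S, θ = QuotientGroup.mk' (T.subgroupOf S) := ⟨_, rfl⟩
  rw [← hθdef] at hE
  have hθ := Cfsg.Agent.S5134.result p hS F hF T hT θ E hE
  have hker := hE.2.1
  have hrange := hθ.2.1
  haveI : Finite (⊤ : Subgroup (S ⧸ T.subgroupOf S)) := inferInstance
  have hUfull := isFull_preimageAlong θ (imageAlong θ P)
  have hPU : P ≤ preimageAlong θ (imageAlong θ P) := by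
    intro x hx
    rw [mem_preimageAlong_iff]
    exact ⟨hPS hx, apply_mem_imageAlong θ (hPS hx) hx⟩
  have hTU : T ≤ preimageAlong θ (imageAlong θ P) := by
    refine le_trans ?_ (ker_le_of_isFull θ hUfull)
    intro t ht
    exact ⟨⟨t, hT.1 ht⟩, (hker _).mpr ht, rfl⟩
  have himg : imageAlong θ (preimageAlong θ (imageAlong θ P)) = imageAlong θ P := by
    apply le_antisymm (imageAlong_preimageAlong_le θ _)
    apply le_imageAlong_preimageAlong
    rw [hrange]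
    exact imageAlong_le_of_range θ hrange P
  obtain ⟨e, He⟩ := autGroup_congr E himg
  haveI : Finite (F.autGroup (preimageAlong θ (imageAlong θ P))) := by
    haveI : Finite (preimageAlong θ (imageAlong θ P)) := fs_finite_of_le hUfull.1
    infer_instance
  have hsurj : Function.Surjective (e.toMonoidHom.comp (inducedAut F E θ hθ.1 hUfull.1)) :=
    e.surjective.comp (inducedAut_surjective F E θ hθ hUfull)
  have hb : inducedAut F E θ hθ.1 hPS a ∈ pResidual p _ :=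
    pResidual_map_le p (inducedAut F E θ hθ.1 hPS) ⟨a, ha, rfl⟩
  rw [← pResidual_map_of_surjective (p := p) _ hsurj] at hb
  obtain ⟨a', ha', Ha'⟩ := hb
  refine ⟨_, hPU, hTU, hUfull.1, a', ha', fun x => ?_⟩
  have h1 := inducedAut_spec F E θ hθ.1 hUfull.1 a' ⟨x, hPU x.2⟩
  have h2 := inducedAut_spec F E θ hθ.1 hPS a x
  have h3 := He (inducedAut F E θ hθ.1 hUfull.1 a') (θ ⟨x, hPS x.2⟩)
    (apply_mem_imageAlong θ (hUfull.1 (hPU x.2)) (hPU x.2)) (apply_mem_imageAlong θ (hPS x.2) x.2)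
  have h4 : (e.toMonoidHom.comp (inducedAut F E θ hθ.1 hUfull.1)) a' =
      e (inducedAut F E θ hθ.1 hUfull.1 a') := rfl
  rw [h4] at Ha'
  rw [Ha'] at h3
  have h5 : θ ⟨(((a : MulAut P) x : P) : Ω), hPS ((a : MulAut P) x).2⟩ =
      θ ⟨(((a' : MulAut ↥(preimageAlong θ (imageAlong θ P))) ⟨x, hPU x.2⟩ : preimageAlong θ (imageAlong θ P)) : Ω),
        hUfull.1 ((a' : MulAut ↥(preimageAlong θ (imageAlong θ P))) ⟨x, hPU x.2⟩).2⟩ := by
    rw [← h2, ← h1]
    exact h3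
  have h6 : θ ((⟨(((a : MulAut P) x : P) : Ω), hPS ((a : MulAut P) x).2⟩ : S)⁻¹ *
      ⟨(((a' : MulAut ↥(preimageAlong θ (imageAlong θ P))) ⟨x, hPU x.2⟩ : preimageAlong θ (imageAlong θ P)) : Ω),
        hUfull.1 ((a' : MulAut ↥(preimageAlong θ (imageAlong θ P))) ⟨x, hPU x.2⟩).2⟩) = 1 := by
    rw [map_mul, map_inv, h5, inv_mul_cancel]
  exact (hker _).mp h6

end Cfsg.Agent.Lib.Helper9
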