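import Mathlib

set_option autoImplicit false

namespace Cfsg.Agent.Lib.Helper9

/-- A `p`-subgroup `B` of a finite group `A` that is not a Sylow `p`-subgroup is normalized by a `p`-element
outside of it. -/
theorem exists_normalizing_pelement {A : Type*} [Group A] [Finite A] (p : ℕ) [Fact p.Prime]
    (B : Subgroup A) (hB : IsPGroup p B) (hnot : ¬ ∃ R : Sylow p A, (R : Subgroup A) = B) :
    ∃ α : A, α ∉ B ∧ (∀ b ∈ B, α * b * α⁻¹ ∈ B) ∧ (∀ b ∈ B, α⁻¹ * b * α ∈ B) ∧ ∃ j : ℕ, α ^ p ^ j = 1 := by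
  have hp : p.Prime := Fact.out
  obtain ⟨b, hb⟩ := IsPGroup.iff_card.mp hB
  have hdvd : p ^ (b + 1) ∣ Nat.card A := by
    by_contra hcon
    apply hnot
    have h1 : p ^ b ∣ Nat.card A := hb ▸ Subgroup.card_subgroup_dvd_card B
    have hfac : (Nat.card A).factorization p = b := by
      apply le_antisymm
      · by_contra hlt
        push_neg at hlt
        apply hcon
        exact (hp.pow_dvd_iff_le_factorization Nat.card_pos.ne').mpr hlt
      · exact (hp.pow_dvd_iff_le_factorization Nat.card_pos.ne').mp h1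
    exact ⟨Sylow.ofCard B (by rw [hb, hfac]), rfl⟩
  obtain ⟨K, hK, hBK⟩ := Sylow.exists_subgroup_card_pow_succ hdvd hb
  -- B has index p in K
  have hidx : (B.subgroupOf K).index = p := by
    have h1 := Subgroup.card_mul_index (B.subgroupOf K)
    rw [Nat.card_congr (Subgroup.subgroupOfEquivOfLe hBK).toEquiv, hb, hK, pow_succ] at h1
    exact Nat.eq_of_mul_eq_mul_left (pow_pos hp.pos b) h1
  have hnormal : (B.subgroupOf K).Normal := by
    apply Subgroup.normal_of_index_eq_minFac_card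
    rw [hidx, hK, Nat.pow_minFac (Nat.succ_ne_zero b), hp.minFac_eq]
  have hne : B ≠ K := by
    intro h
    rw [h, hK] at hb
    have := Nat.pow_right_injective hp.two_le hb
    omega
  obtain ⟨α, hαK, hαB⟩ := SetLike.exists_of_lt (lt_of_le_of_ne hBK hne)
  refine ⟨α, hαB, ?_, ?_, b + 1, ?_⟩
  · intro x hx
    have := hnormal.conj_mem ⟨x, hBK hx⟩ (Subgroup.mem_subgroupOf.mpr hx) ⟨α, hαK⟩
    exact this
  · intro x hx
    have := hnormal.conj_mem ⟨x, hBK hx⟩ (Subgroup.mem_subgroupOf.mpr hx) ⟨α, hαK⟩⁻¹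
    rw [inv_inv, Subgroup.mem_subgroupOf] at this
    exact this
  · have h1 : (⟨α, hαK⟩ : K) ^ Nat.card K = 1 := pow_card_eq_one'
    rw [hK] at h1
    exact congrArg Subtype.val h1

/-- `p`-part extraction: for `β` in a finite group, there is an exponent `m` coprime to `p` such that
`β ^ m` has order a power of `p`. -/
theorem exists_coprime_pow_pelement {A : Type*} [Group A] [Finite A] (p : ℕ) [Fact p.Prime] (β : A) :
    ∃ m : ℕ, m.Coprime p ∧ ∃ k : ℕ, (β ^ m) ^ p ^ k = 1 := by
  have hp : p.Prime := Fact.out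
  have ho : orderOf β ≠ 0 := (orderOf_pos β).ne'
  refine ⟨ordCompl[p] (orderOf β), (Nat.coprime_ordCompl hp ho).symm, (orderOf β).factorization p, ?_⟩
  rw [← pow_mul, mul_comm, Nat.ordProj_mul_ordCompl_eq_self]
  exact pow_orderOf_eq_one β

end Cfsg.Agent.Lib.Helper9
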