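import Mathlib
import Cfsg.Prelude.Def_FusionSystem
import Cfsg.Agent.Lib.Helper9.FusionAut2
import Cfsg.Agent.Lib.Helper9.SylowAux2

set_option autoImplicit false

namespace Cfsg.Agent.Lib.Helper9

open Cfsg Cfsg.FusionSystem

variable {Ω : Type*} [Group Ω] {S : Subgroup Ω}

/-- restriction of powers -/
theorem aut_pow_restrict {N P : Subgroup Ω} (hPN : P ≤ N) (β : MulAut N) (α : MulAut P)
    (h : ∀ x : P, ((β ⟨x, hPN x.2⟩ : N) : Ω) = ((α x : P) : Ω)) (n : ℕ) (x : P) :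
    (((β ^ n) ⟨x, hPN x.2⟩ : N) : Ω) = (((α ^ n) x : P) : Ω) := by
  induction n generalizing x with
  | zero => simp
  | succ n ih =>
    rw [pow_succ, pow_succ, MulAut.mul_apply, MulAut.mul_apply]
    have h1 : β ⟨x, hPN x.2⟩ = ⟨((α x : P) : Ω), hPN (α x).2⟩ := Subtype.ext (h x)
    rw [h1]
    exact ih (α x)

/-- **Roberts–Shpectorov**: if `S` is fully automized and every fully normalized subgroup is receptive, then every
fully normalized subgroup is fully automized. -/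
theorem fs_fullyAutomized_of_normalized_receptive [Finite S] (p : ℕ) [Fact p.Prime] (hS : IsPGroup p S)
    (F : FusionSystem S) (h1 : F.IsFullyAutomized p S)
    (h2 : ∀ P : Subgroup Ω, F.IsFullyNormalized P → F.IsReceptive P) :
    ∀ (k : ℕ) (P : Subgroup Ω), F.IsFullyNormalized P → Nat.card S - Nat.card P = k →
      F.IsFullyAutomized p P := by
  intro k
  induction k using Nat.strong_induction_on with
  | _ k ih =>
  intro P hPn hk
  have hPS : P ≤ S := hPn.1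
  by_cases hPtop : P = S
  · rw [hPtop]; exact h1
  have hPlt : P < S := lt_of_le_of_ne hPS hPtop
  have hfinP : Finite P := fs_finite_of_le hPS
  by_contra hnot
  have hnot' : ¬ ∃ R : Sylow p (F.autGroup P), (R : Subgroup (F.autGroup P)) =
      (autInducedBy S P).subgroupOf (F.autGroup P) := fun h => hnot ⟨hPS, h⟩
  have hBp : IsPGroup p ((autInducedBy S P).subgroupOf (F.autGroup P)) :=
    (isPGroup_autInducedBy p hS P).comap_subtype
  obtain ⟨α, hαB, hαn1, -, j, hαj⟩ := exists_normalizing_pelement p _ hBp hnot'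
  have hαS : (α : MulAut P) ∉ autInducedBy S P := fun h => hαB (Subgroup.mem_subgroupOf.mpr h)
  -- the normalizer and the map ψ₀
  have hNS : normalizerIn S P ≤ S := fs_normalizerIn_le S P
  have hPN : P ≤ normalizerIn S P := (fs_lt_normalizerIn p hS hPlt).le
  have hfinN : Finite (normalizerIn S P) := fs_finite_of_le hNS
  obtain ⟨ψ₀, hψ₀def⟩ : ∃ ψ₀ : P →* Ω, ψ₀ = P.subtype.comp (α : MulAut P).toMonoidHom := ⟨_, rfl⟩
  have hψ₀ : ψ₀ ∈ F.Hom P := by rw [hψ₀def]; exact (mem_autGroup_iff F hPS _).mp α.2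
  have hψ₀app : ∀ x : P, ψ₀ x = (((α : MulAut P) x : P) : Ω) := fun x => by rw [hψ₀def]; rfl
  have hψ₀r : ψ₀.range = P := by
    ext y
    constructor
    · rintro ⟨x, rfl⟩
      rw [hψ₀app]; exact ((α : MulAut P) x).2
    · intro hy
      refine ⟨(α : MulAut P)⁻¹ ⟨y, hy⟩, ?_⟩
      rw [hψ₀app, MulAut.apply_inv_self]
  have hNle : normalizerIn S P ≤ extender S P ψ₀ := by
    intro g hg
    rw [mem_extender_iff]
    refine ⟨hg.1, hg.2, ?_⟩
    obtain ⟨αg, hαg⟩ : ∃ αg : MulAut P, αg = P.normalizerMonoidHom ⟨g, hg.2⟩ := ⟨_, rfl⟩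
    have hαgapp : ∀ x : P, ((αg x : P) : Ω) = g * x * g⁻¹ := by
      intro x; rw [hαg]; rfl
    have hαgmem : αg ∈ autInducedBy S P := (mem_autInducedBy_iff S P αg).mpr ⟨g, hg.1, hαgapp⟩
    have hαgF : αg ∈ F.autGroup P := autInducedBy_le_autGroup F hPS hαgmem
    have h3 := hαn1 ⟨αg, hαgF⟩ (Subgroup.mem_subgroupOf.mpr hαgmem)
    rw [Subgroup.mem_subgroupOf, mem_autInducedBy_iff] at h3
    obtain ⟨h, hhS, Hh⟩ := h3
    refine ⟨h, hhS, ?_⟩
    intro x hx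
    have h4 := Hh ((α : MulAut P) x)
    have h5 : ((α * ⟨αg, hαgF⟩ * α⁻¹ : F.autGroup P) : MulAut P) = (α : MulAut P) * αg * (α : MulAut P)⁻¹ := rfl
    rw [h5] at h4
    simp only [MulAut.mul_apply, MulAut.inv_apply_self] at h4
    have h6 : (⟨g * (x : Ω) * g⁻¹, hx⟩ : P) = αg x := Subtype.ext (hαgapp x).symm
    rw [h6, hψ₀app, hψ₀app]
    exact h4
  -- extend α to β on N
  obtain ⟨β₀, hβ₀, hβ₀ext⟩ := (h2 P hPn).2 P ψ₀ hψ₀ hψ₀r
  have hβ := fs_restrict_mem F hβ₀ hNle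
  obtain ⟨β, hβdef⟩ : ∃ β : normalizerIn S P →* Ω, β = β₀.comp (Subgroup.inclusion hNle) := ⟨_, rfl⟩
  rw [← hβdef] at hβ
  have hβP : ∀ x : P, β ⟨x, hPN x.2⟩ = (((α : MulAut P) x : P) : Ω) := by
    intro x
    rw [hβdef, ← hψ₀app]
    exact hβ₀ext x x.2 (hNle (hPN x.2))
  have himg : (P.subgroupOf (normalizerIn S P)).map β = P := by
    ext y
    constructor
    · rintro ⟨x, hx, rfl⟩
      have hx' : (x : Ω) ∈ P := hx
      have := hβP ⟨x, hx'⟩
      have hxx : (⟨((⟨(x : Ω), hx'⟩ : P) : Ω), hPN hx'⟩ : normalizerIn S P) = x := Subtype.ext rfl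
      rw [hxx] at this
      rw [this]
      exact ((α : MulAut P) _).2
    · intro hy
      refine ⟨⟨(((α : MulAut P)⁻¹ ⟨y, hy⟩ : P) : Ω), hPN ((α : MulAut P)⁻¹ ⟨y, hy⟩).2⟩, ?_, ?_⟩
      · show (((α : MulAut P)⁻¹ ⟨y, hy⟩ : P) : Ω) ∈ P
        exact ((α : MulAut P)⁻¹ ⟨y, hy⟩).2
      · rw [hβP, MulAut.apply_inv_self]
  have hβN : ∀ x : normalizerIn S P, β x ∈ normalizerIn S P := fun x =>
    ⟨(F.le_of_mem hβ).2 x, fs_map_mem_normalizer β hPN inf_le_right himg x⟩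
  obtain ⟨β', hβ'mem, hβ'app⟩ := fs_hom_to_aut F hβ hβN
  have hβ'P : ∀ x : P, ((β' ⟨x, hPN x.2⟩ : normalizerIn S P) : Ω) = (((α : MulAut P) x : P) : Ω) := by
    intro x; rw [hβ'app, hβP]
  -- p-part
  obtain ⟨m, hmcop, kk, hβ₁⟩ := exists_coprime_pow_pelement p β'
  have hpowP : ∀ x : P, (((β' ^ m) ⟨x, hPN x.2⟩ : normalizerIn S P) : Ω) = ((((α : MulAut P) ^ m) x : P) : Ω) :=
    aut_pow_restrict hPN β' (α : MulAut P) hβ'P m
  have hα₁ : (α : MulAut P) ^ m ∉ autInducedBy S P := by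
    intro hmem
    apply hαS
    have hαj' : (α : MulAut P) ^ p ^ j = 1 := by
      have := congrArg Subtype.val hαj
      simpa using this
    have hord : orderOf (α : MulAut P) ∣ p ^ j := orderOf_dvd_of_pow_eq_one hαj'
    have hcop : m.Coprime (orderOf (α : MulAut P)) :=
      Nat.Coprime.coprime_dvd_right hord (Nat.Coprime.pow_right j hmcop)
    obtain ⟨u, hu⟩ := exists_pow_eq_self_of_coprime hcop
    rw [← hu]
    exact Subgroup.pow_mem _ hmem u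
  -- fully normalized conjugate of N
  obtain ⟨N', ⟨χ₀, hχ₀, hχ₀r⟩, hN'n⟩ := fs_exists_fullyNormalized F hNS
  subst hχ₀r
  have hN'S : χ₀.range ≤ S := hN'n.1
  have hfinN' : Finite χ₀.range := fs_finite_of_le hN'S
  have hcardN' : Nat.card χ₀.range = Nat.card (normalizerIn S P) :=
    (Nat.card_congr (MonoidHom.ofInjective (F.injective_of_mem hχ₀)).toEquiv).symm
  have hcardlt : Nat.card P < Nat.card (normalizerIn S P) := by
    by_contra hcon
    push_neg at hcon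
    exact (fs_lt_normalizerIn p hS hPlt).ne (Subgroup.eq_of_le_of_card_ge hPN hcon)
  have hcardNS : Nat.card (normalizerIn S P) ≤ Nat.card S := Subgroup.card_le_of_le hNS
  have hN'a : F.IsFullyAutomized p χ₀.range :=
    ih (Nat.card S - Nat.card χ₀.range) (by omega) _ hN'n rfl
  obtain ⟨-, T, hT⟩ := hN'a
  obtain ⟨e, he⟩ : ∃ e : normalizerIn S P ≃* χ₀.range, e = fsEquiv F hχ₀ := ⟨_, rfl⟩
  have hex : ∀ x : normalizerIn S P, ((e x : χ₀.range) : Ω) = χ₀ x := by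
    intro x; rw [he]; rfl
  obtain ⟨γ, hγdef⟩ : ∃ γ : MulAut χ₀.range, γ = MulAut.congr e (β' ^ m) := ⟨_, rfl⟩
  have hγmem : γ ∈ F.autGroup χ₀.range := by
    rw [hγdef, he]
    exact congr_mem_autGroup F hχ₀ _ (Subgroup.pow_mem _ hβ'mem m)
  have hγapp : ∀ y : χ₀.range, γ y = e ((β' ^ m) (e.symm y)) := by
    intro y; rw [hγdef]; rfl
  have hγpow : γ ^ p ^ kk = 1 := by
    rw [hγdef, ← map_pow, hβ₁, map_one]
  have hZp : IsPGroup p (Subgroup.zpowers (⟨γ, hγmem⟩ : F.autGroup χ₀.range)) := by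
    rintro ⟨z, hz⟩
    obtain ⟨i, rfl⟩ := Subgroup.mem_zpowers_iff.mp hz
    refine ⟨kk, Subtype.ext ?_⟩
    have h3 : (⟨γ, hγmem⟩ : F.autGroup χ₀.range) ^ p ^ kk = 1 := Subtype.ext hγpow
    show ((⟨γ, hγmem⟩ : F.autGroup χ₀.range) ^ i) ^ p ^ kk = 1
    rw [← zpow_natCast, ← zpow_mul, mul_comm, zpow_mul, zpow_natCast, h3, one_zpow]
  obtain ⟨χ, hχ⟩ := exists_map_conj_le_sylow T hZp
  have h7 : (MulAut.conj χ).toMonoidHom ⟨γ, hγmem⟩ ∈ (T : Subgroup (F.autGroup χ₀.range)) :=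
    hχ ⟨_, Subgroup.mem_zpowers _, rfl⟩
  rw [hT, Subgroup.mem_subgroupOf, mem_autInducedBy_iff] at h7
  obtain ⟨s, hsS, Hs⟩ := h7
  have h8 : (((MulAut.conj χ).toMonoidHom ⟨γ, hγmem⟩ : F.autGroup χ₀.range) : MulAut χ₀.range)
      = (χ : MulAut χ₀.range) * γ * (χ : MulAut χ₀.range)⁻¹ := by
    simp [MulAut.conj_apply]
  -- the isomorphism σ = χ ∘ e
  have hχmem : (χ₀.range.subtype.comp (χ : MulAut χ₀.range).toMonoidHom) ∈ F.Hom χ₀.range :=
    (mem_autGroup_iff F hN'S _).mp χ.2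
  have hcodmem : ∀ x : normalizerIn S P, χ₀ x ∈ χ₀.range := fun x => ⟨x, rfl⟩
  obtain ⟨σ, hσdef⟩ : ∃ σ : normalizerIn S P →* Ω, σ =
      (χ₀.range.subtype.comp (χ : MulAut χ₀.range).toMonoidHom).comp (χ₀.codRestrict χ₀.range hcodmem) :=
    ⟨_, rfl⟩
  have hσ : σ ∈ F.Hom (normalizerIn S P) := by rw [hσdef]; exact F.comp_mem hχ₀ hχmem _
  have hσapp : ∀ x : normalizerIn S P, σ x = (((χ : MulAut χ₀.range) (e x) : χ₀.range) : Ω) := by
    intro x
    have hcod : χ₀.codRestrict χ₀.range hcodmem x = e x := Subtype.ext (hex x).symm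
    rw [hσdef]
    show (((χ : MulAut χ₀.range) (χ₀.codRestrict χ₀.range hcodmem x) : χ₀.range) : Ω) = _
    rw [hcod]
  -- key relation (*)
  have hstar : ∀ x : normalizerIn S P, σ ((β' ^ m) x) = s * σ x * s⁻¹ := by
    intro x
    have h9 := Hs ((χ : MulAut χ₀.range) (e x))
    rw [h8] at h9
    simp only [MulAut.mul_apply, MulAut.inv_apply_self] at h9
    rw [hγapp, MulEquiv.symm_apply_apply] at h9
    rw [hσapp, hσapp]
    exact h9
  -- the image of P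
  obtain ⟨P', hP'def⟩ : ∃ P' : Subgroup Ω, P' = (P.subgroupOf (normalizerIn S P)).map σ := ⟨_, rfl⟩
  have hσP' : ∀ x : P, σ ⟨x, hPN x.2⟩ ∈ P' := by
    intro x
    rw [hP'def]
    exact ⟨⟨x, hPN x.2⟩, x.2, rfl⟩
  have hconj : F.IsConj P P' := by
    refine ⟨σ.comp (Subgroup.inclusion hPN), fs_restrict_mem F hσ hPN, ?_⟩
    rw [hP'def]
    ext y
    constructor
    · rintro ⟨x, rfl⟩
      exact ⟨Subgroup.inclusion hPN x, x.2, rfl⟩
    · rintro ⟨x, hx, rfl⟩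
      have hx' : (x : Ω) ∈ P := hx
      exact ⟨⟨x, hx'⟩, rfl⟩
  have hcardP' : Nat.card (normalizerIn S P') ≤ Nat.card (normalizerIn S P) := hPn.2 P' hconj
  -- N' = range σ ≤ N_S(P')
  have hσrange : ∀ y ∈ χ₀.range, ∃ x : normalizerIn S P, σ x = y := by
    intro y hy
    refine ⟨e.symm ((χ : MulAut χ₀.range)⁻¹ ⟨y, hy⟩), ?_⟩
    rw [hσapp, MulEquiv.apply_symm_apply, MulAut.apply_inv_self]
  have hN'le : χ₀.range ≤ normalizerIn S P' := by
    intro y hy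
    obtain ⟨x, rfl⟩ := hσrange y hy
    exact ⟨(F.le_of_mem hσ).2 x, fs_map_mem_normalizer σ hPN inf_le_right hP'def.symm x⟩
  have hfinNP' : Finite (normalizerIn S P') := fs_finite_of_le (fs_normalizerIn_le S P')
  have hN'eq : χ₀.range = normalizerIn S P' :=
    Subgroup.eq_of_le_of_card_ge hN'le (by rw [hcardN']; exact hcardP')
  -- s normalizes P'
  have hsfwd : ∀ z ∈ P', s * z * s⁻¹ ∈ P' := by
    intro z hz
    rw [hP'def] at hz
    obtain ⟨x, hx, rfl⟩ := hz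
    have hx' : (x : Ω) ∈ P := hx
    rw [← hstar]
    have h10 := hpowP ⟨x, hx'⟩
    have hxx : (⟨((⟨(x : Ω), hx'⟩ : P) : Ω), hPN hx'⟩ : normalizerIn S P) = x := Subtype.ext rfl
    rw [hxx] at h10
    have h11 : (β' ^ m) x = ⟨((((α : MulAut P) ^ m) ⟨x, hx'⟩ : P) : Ω), hPN (((α : MulAut P) ^ m) ⟨x, hx'⟩).2⟩ :=
      Subtype.ext h10
    rw [h11]
    exact hσP' _
  have hsbwd : ∀ z ∈ P', s⁻¹ * z * s ∈ P' := by
    intro z hz
    rw [hP'def] at hz
    obtain ⟨x, hx, rfl⟩ := hz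
    have hx' : (x : Ω) ∈ P := hx
    -- x = (α^m) x₀
    obtain ⟨x₀, hx₀⟩ : ∃ x₀ : P, ((α : MulAut P) ^ m) x₀ = ⟨x, hx'⟩ :=
      ⟨((α : MulAut P) ^ m).symm ⟨x, hx'⟩, MulEquiv.apply_symm_apply _ _⟩
    have h10 := hpowP x₀
    rw [hx₀] at h10
    have h11 : (β' ^ m) ⟨x₀, hPN x₀.2⟩ = x := Subtype.ext h10
    have h12 := hstar ⟨x₀, hPN x₀.2⟩
    rw [h11] at h12
    rw [h12]
    have : s⁻¹ * (s * σ ⟨x₀, hPN x₀.2⟩ * s⁻¹) * s = σ ⟨x₀, hPN x₀.2⟩ := by group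
    rw [this]
    exact hσP' x₀
  have hsN : s ∈ normalizerIn S P' := by
    refine ⟨hsS, Subgroup.mem_normalizer_iff.mpr fun z => ⟨hsfwd z, fun hz => ?_⟩⟩
    have := hsbwd _ hz
    have h13 : s⁻¹ * (s * z * s⁻¹) * s = z := by group
    rwa [h13] at this
  rw [← hN'eq] at hsN
  obtain ⟨t, ht⟩ := hσrange s hsN
  -- β'^m is conjugation by t
  have hconjt : ∀ x : normalizerIn S P, (β' ^ m) x = t * x * t⁻¹ := by
    intro x
    apply F.injective_of_mem hσ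
    rw [hstar, map_mul, map_mul, map_inv, ht]
  apply hα₁
  rw [mem_autInducedBy_iff]
  refine ⟨t, hNS t.2, fun x => ?_⟩
  rw [← hpowP, hconjt]
  rfl

end Cfsg.Agent.Lib.Helper9
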