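import Mathlib
import Cfsg.Agent.Lib.Helper2.G2LDefs
import Cfsg.Agent.Lib.Helper8.G2LG1
import Cfsg.Agent.Lib.Helper4.PL3
import Cfsg.Agent.Lib.Helper2.PSeries
import Cfsg.Agent.Lib.Helper2.PConstrained
import Cfsg.Agent.Lib.Lead.PStabQuot2

set_option autoImplicit false

/-! S3801 package G2: Gross's bound `l_2(G) ≤ 2e - 1` from G1 (the exponent of the Sylow
`2`-subgroups drops after two layers), by induction on `e`. -/

namespace Cfsg.Agent.Lib.Helper9.G2LG2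

open Cfsg

universe u

/-- the statement of package G1 -/
def G1Stmt : Prop :=
  ∀ (G : Type u) [Group G] [Finite G], Group.IsSolvable G → ∀ (e : ℕ), 1 ≤ e →
    (∀ (P : Sylow 2 G), ∀ x ∈ (P : Subgroup G), x ^ 2 ^ e = 1) → pPrimeCore 2 G = ⊥ →
    ∀ (P : Sylow 2 G) (x : G), x ∈ (P : Subgroup G) →
      QuotientGroup.mk' (pCore 2 G) (x ^ 2 ^ (e - 1)) ∈ pPrimePCore 2 (G ⧸ pCore 2 G)

section

variable {G : Type u} [Group G] [Finite G]

/-- the exponent hypothesis passes to quotients -/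
theorem hexp_quotient (N : Subgroup G) [N.Normal] (e : ℕ)
    (hexp : ∀ (P : Sylow 2 G), ∀ x ∈ (P : Subgroup G), x ^ 2 ^ e = 1) :
    ∀ (P : Sylow 2 (G ⧸ N)), ∀ x ∈ (P : Subgroup (G ⧸ N)), x ^ 2 ^ e = 1 := by
  have : Fact (Nat.Prime 2) := ⟨Nat.prime_two⟩
  intro P x hx
  have hs := QuotientGroup.mk'_surjective N
  obtain ⟨P₀, rfl⟩ := Sylow.mapSurjective_surjective hs 2 P
  have hcoe : ((P₀.mapSurjective hs : Sylow 2 (G ⧸ N)) : Subgroup (G ⧸ N)) =
      (P₀ : Subgroup G).map (QuotientGroup.mk' _) := Sylow.coe_mapSurjective hs P₀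
  rw [hcoe] at hx
  obtain ⟨x₀, hx₀, rfl⟩ := Subgroup.mem_map.mp hx
  rw [← map_pow, hexp P₀ x₀ hx₀, map_one]

/-- the third isomorphism theorem in the form needed here -/
noncomputable def layerEquiv :
    ((G ⧸ pPrimeCore 2 G) ⧸ pCore 2 (G ⧸ pPrimeCore 2 G)) ≃* (G ⧸ pPrimePCore 2 G) := by
  have : Fact (Nat.Prime 2) := ⟨Nat.prime_two⟩
  have hN : (pPrimeCore 2 G).Normal := (Cfsg.Agent.Lib.Helper6.pPrimeCore_mem_set 2).1
  have hC : (pCore 2 (G ⧸ pPrimeCore 2 G)).Normal := Cfsg.Agent.Lib.Lead.pCore_normal 2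
  have hM : (pPrimePCore 2 G).Normal := Cfsg.Agent.Lib.Helper2.PConstrained.pPrimePCore_normal
  have hle : pPrimeCore 2 G ≤ pPrimePCore 2 G :=
    Cfsg.Agent.Lib.Helper2.PConstrained.pPrimeCore_le_pPrimePCore
  have hmap : (pPrimePCore 2 G).map (QuotientGroup.mk' (pPrimeCore 2 G)) =
      pCore 2 (G ⧸ pPrimeCore 2 G) := Cfsg.Agent.Lib.Helper2.PConstrained.map_pPrimePCore
  exact (QuotientGroup.quotientMulEquivOfEq hmap.symm).trans
    (QuotientGroup.quotientQuotientEquivQuotient (pPrimeCore 2 G) (pPrimePCore 2 G) hle)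

theorem layerEquiv_mk (x : G) :
    layerEquiv (QuotientGroup.mk' (pCore 2 (G ⧸ pPrimeCore 2 G))
      (QuotientGroup.mk' (pPrimeCore 2 G) x)) = QuotientGroup.mk' (pPrimePCore 2 G) x := rfl

/-- the key claim: the `2^(e-1)`-th power of a `2`-element lies in the fourth term of the upper
`2`-series -/
theorem pow_mem (hG1 : G1Stmt.{u}) (hG : Group.IsSolvable G) (e : ℕ) (he : 1 ≤ e)
    (hexp : ∀ (P : Sylow 2 G), ∀ x ∈ (P : Subgroup G), x ^ 2 ^ e = 1)
    (P : Sylow 2 G) (x : G) (hx : x ∈ (P : Subgroup G)) :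
    QuotientGroup.mk' (pPrimePCore 2 G) (x ^ 2 ^ (e - 1)) ∈
      pPrimePCore 2 (G ⧸ pPrimePCore 2 G) := by
  have : Fact (Nat.Prime 2) := ⟨Nat.prime_two⟩
  have hN : (pPrimeCore 2 G).Normal := (Cfsg.Agent.Lib.Helper6.pPrimeCore_mem_set 2).1
  have hs := QuotientGroup.mk'_surjective (pPrimeCore 2 G)
  have hO : pPrimeCore 2 (G ⧸ pPrimeCore 2 G) = ⊥ :=
    Cfsg.Agent.Lib.Lead.PStabQuot.pPrimeCore_quotient_eq_bot 2
  have hGq : Group.IsSolvable (G ⧸ pPrimeCore 2 G) :=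
    Group.isSolvable_of_surjective hs
  have hmem : (QuotientGroup.mk' (pPrimeCore 2 G)) x ∈
      ((P.mapSurjective hs : Sylow 2 (G ⧸ pPrimeCore 2 G)) :
        Subgroup (G ⧸ pPrimeCore 2 G)) := by
    rw [Sylow.coe_mapSurjective]
    exact Subgroup.mem_map_of_mem _ hx
  have h1 := hG1 (G ⧸ pPrimeCore 2 G) hGq e he (hexp_quotient _ e hexp) hO
    (P.mapSurjective hs) _ hmem
  have h2 := Cfsg.Agent.Lib.Helper8.G2LG1.pPrimePCore_map_le 2 (layerEquiv (G := G))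
    (Subgroup.mem_map_of_mem _ h1)
  rw [← map_pow] at h2
  exact h2

end

/-- G2 : Gross's bound, from G1 -/
theorem pLengthLE_of_G1 (hG1 : G1Stmt.{u}) (n : ℕ) :
    ∀ (G : Type u) [Group G] [Finite G], Group.IsSolvable G →
      (∀ (P : Sylow 2 G), ∀ x ∈ (P : Subgroup G), x ^ 2 ^ (n + 1) = 1) →
      PLengthLE 2 (2 * (n + 1) - 1) G := by
  have : Fact (Nat.Prime 2) := ⟨Nat.prime_two⟩
  induction n with
  | zero =>
    intro G _ _ hG hexp
    obtain ⟨P⟩ : Nonempty (Sylow 2 G) := inferInstance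
    have hsq : ∀ a ∈ (P : Subgroup G), a * a = 1 := by
      intro a ha
      have := hexp P a ha
      rw [zero_add, pow_one, pow_two] at this
      exact this
    have hab : ∀ a ∈ (P : Subgroup G), ∀ b ∈ (P : Subgroup G), a * b = b * a := by
      intro a ha b hb
      have h1 := hsq a ha
      have h2 := hsq b hb
      have h3 := hsq (a * b) (mul_mem ha hb)
      have ha' : a⁻¹ = a := inv_eq_of_mul_eq_one_left h1
      have hb' : b⁻¹ = b := inv_eq_of_mul_eq_one_left h2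
      have h4 : (a * b)⁻¹ = a * b := inv_eq_of_mul_eq_one_left h3
      rw [mul_inv_rev, ha', hb'] at h4
      exact h4.symm
    exact Cfsg.Agent.Lib.Helper4.PL.pLengthLE_one_of_abelian P hab
  | succ n ih =>
    intro G _ _ hG hexp
    have hM : (pPrimePCore 2 G).Normal := Cfsg.Agent.Lib.Helper2.PConstrained.pPrimePCore_normal
    have hM2 : (pPrimePCore 2 (G ⧸ pPrimePCore 2 G)).Normal :=
      Cfsg.Agent.Lib.Helper2.PConstrained.pPrimePCore_normal
    have hk : 2 * (n + 1 + 1) - 1 = (2 * (n + 1) - 1) + 1 + 1 := by omega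
    rw [hk]
    apply Cfsg.Agent.Lib.Helper2.PSeries.pLengthLE_succ_of_quotient
    apply Cfsg.Agent.Lib.Helper2.PSeries.pLengthLE_succ_of_quotient
    have hs1 := QuotientGroup.mk'_surjective (pPrimePCore 2 G)
    have hs2 := QuotientGroup.mk'_surjective (pPrimePCore 2 (G ⧸ pPrimePCore 2 G))
    have hG1' : Group.IsSolvable (G ⧸ pPrimePCore 2 G) := Group.isSolvable_of_surjective hs1
    have hG2' : Group.IsSolvable ((G ⧸ pPrimePCore 2 G) ⧸ pPrimePCore 2 (G ⧸ pPrimePCore 2 G)) :=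
      Group.isSolvable_of_surjective hs2
    apply ih _ hG2'
    intro P x hx
    obtain ⟨P₁, rfl⟩ := Sylow.mapSurjective_surjective hs2 2 P
    rw [Sylow.coe_mapSurjective] at hx
    obtain ⟨x₁, hx₁, rfl⟩ := Subgroup.mem_map.mp hx
    obtain ⟨P₀, rfl⟩ := Sylow.mapSurjective_surjective hs1 2 P₁
    rw [Sylow.coe_mapSurjective] at hx₁
    obtain ⟨x₀, hx₀, rfl⟩ := Subgroup.mem_map.mp hx₁
    rw [← map_pow, ← map_pow]
    apply (QuotientGroup.eq_one_iff _).mpr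
    exact pow_mem hG1 hG (n + 1 + 1) (by omega) hexp P₀ x₀ hx₀

/-- G2, in the shape of the frozen statement -/
theorem gross_of_G1 (hG1 : G1Stmt.{u}) {G : Type u} [Group G] [Finite G]
    (hG : Group.IsSolvable G) (e : ℕ) (he : 1 ≤ e)
    (hexp : ∀ (P : Sylow 2 G), ∀ x ∈ (P : Subgroup G), x ^ 2 ^ e = 1) :
    Cfsg.PLengthLE 2 (2 * e - 1) G := by
  obtain ⟨n, rfl⟩ : ∃ n, e = n + 1 := ⟨e - 1, by omega⟩
  exact pLengthLE_of_G1 hG1 n G hG hexp

end Cfsg.Agent.Lib.Helper9.G2LG2
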