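import Mathlib
import Cfsg.Agent.Lib.Helper2.G2LDefs

set_option autoImplicit false

namespace Cfsg.Agent.Lib.Helper9.G2LNT

/-- for odd `q`, `q ^ (2k+1) + 1 = (q + 1) * S` with `S` odd -/
theorem exists_odd_cofactor (q : ℤ) (hq : Odd q) (k : ℕ) :
    ∃ S : ℤ, Odd S ∧ q ^ (2 * k + 1) + 1 = (q + 1) * S := by
  induction k with
  | zero => exact ⟨1, odd_one, by ring⟩
  | succ k ih =>
    obtain ⟨S, hS, hk⟩ := ih
    refine ⟨q ^ 2 * S - (q - 1), ?_, ?_⟩
    · have h1 : Odd (q ^ 2 * S) := (hq.pow).mul hS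
      have h2 : Even (q - 1) := by
        obtain ⟨a, ha⟩ := hq
        exact ⟨a, by rw [ha]; ring⟩
      exact h1.sub_even h2
    · have : q ^ (2 * (k + 1) + 1) = q ^ 2 * q ^ (2 * k + 1) := by ring
      rw [this]
      have h3 : q ^ (2 * k + 1) = (q + 1) * S - 1 := by rw [← hk]; ring
      rw [h3]; ring

/-- NT -/
theorem mersenne_of_sq {q n m : ℕ} (hq : q.Prime) (hq2 : q ≠ 2) (hn : 2 ≤ n)
    (h : q ^ m = (2 ^ n - 1) ^ 2) : q = 2 ^ n - 1 := by
  have hqodd : Odd q := hq.odd_of_ne_two hq2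
  have h2n : 4 ∣ 2 ^ n := by
    obtain ⟨k, rfl⟩ : ∃ k, n = 2 + k := ⟨n - 2, by omega⟩
    rw [pow_add]; exact Dvd.intro _ rfl
  have hpos : 4 ≤ 2 ^ n := Nat.le_of_dvd (by positivity) h2n
  have hdvd : 2 ^ n - 1 ∣ q ^ m := by rw [h, sq]; exact Dvd.intro _ rfl
  obtain ⟨c, -, hc⟩ := (Nat.dvd_prime_pow hq).mp hdvd
  have hc' : q ^ c + 1 = 2 ^ n := by omega
  rcases Nat.even_or_odd' c with ⟨k, rfl | rfl⟩
  · -- even exponent
    exfalso
    have hodd : Odd (q ^ k) := hqodd.pow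
    have hsq : (q ^ k) ^ 2 % 4 = 1 := by
      have hz := Int.sq_mod_four_eq_one_of_odd (x := ((q ^ k : ℕ) : ℤ)) (by exact_mod_cast hodd)
      exact_mod_cast hz
    have : q ^ (2 * k) = (q ^ k) ^ 2 := by rw [← pow_mul, mul_comm]
    rw [this] at hc'
    omega
  · -- odd exponent
    obtain ⟨S, hS, hk⟩ := exists_odd_cofactor (q : ℤ) (by exact_mod_cast hqodd) k
    have hZ : ((q : ℤ) + 1) * S = 2 ^ n := by
      rw [← hk]; exact_mod_cast hc'
    have hSpos : 0 < S := by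
      have h1 : (0 : ℤ) < (q : ℤ) + 1 := by positivity
      have h2 : (0 : ℤ) < ((q : ℤ) + 1) * S := by rw [hZ]; positivity
      exact (mul_pos_iff_of_pos_left h1).mp h2
    have hcop : IsCoprime S ((2 : ℤ) ^ n) := by
      apply IsCoprime.pow_right
      rw [Int.isCoprime_iff_gcd_eq_one]
      obtain ⟨a, ha⟩ := hS
      rw [ha]
      simp
    have hunit : IsUnit S := hcop.isUnit_of_dvd' dvd_rfl (Dvd.intro_left _ hZ)
    have hS1 : S = 1 := by
      rcases Int.isUnit_iff.mp hunit with h1 | h1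
      · exact h1
      · omega
    rw [hS1, mul_one] at hZ
    have hq1 : q + 1 = 2 ^ n := by exact_mod_cast hZ
    omega

end Cfsg.Agent.Lib.Helper9.G2LNT
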