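import Mathlib
import Cfsg.Agent.Lib.Helper9.GR2Maschke

set_option autoImplicit false

/-! S3795 package MASCHKE, skeleton-verbatim signatures (thin wrappers of `Helper9.GR2Maschke`). -/

namespace Cfsg.Agent.Lib.Helper9.GR2MASCHKE

open Module

variable {K : Type*} [Field K] {G : Type*} [Group G] [Finite G] {W : Type*} [AddCommGroup W]
  [Module K W] (σ : Representation K G W)

theorem exists_stable_compl (hG : (Nat.card G : K) ≠ 0) (Y Y₁ : Submodule K W)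
    (hY : ∀ g, Y ≤ Y.comap (σ g)) (hY₁ : ∀ g, Y₁ ≤ Y₁.comap (σ g)) (h : Y₁ ≤ Y) :
    ∃ Y₂ : Submodule K W, Y₂ ≤ Y ∧ (∀ g, Y₂ ≤ Y₂.comap (σ g)) ∧ Y₁ ⊓ Y₂ = ⊥ ∧ Y₁ ⊔ Y₂ = Y :=
  Cfsg.Agent.Lib.Helper9.GR2Maschke.exists_compl_top σ hG Y₁ Y hY₁ hY h

theorem exists_irreducible [FiniteDimensional K W] (Y : Submodule K W)
    (hY : ∀ g, Y ≤ Y.comap (σ g)) (hne : Y ≠ ⊥) :
    ∃ Y' : Submodule K W, Y' ≤ Y ∧ Y' ≠ ⊥ ∧ (∀ g, Y' ≤ Y'.comap (σ g)) ∧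
      ∀ Y₁ : Submodule K W, Y₁ ≤ Y' → (∀ g, Y₁ ≤ Y₁.comap (σ g)) → Y₁ = ⊥ ∨ Y₁ = Y' :=
  Cfsg.Agent.Lib.Helper9.GR2Maschke.exists_irreducible_top σ Y hY hne

end Cfsg.Agent.Lib.Helper9.GR2MASCHKE
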