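import Mathlib
import Cfsg.Agent.Lib.Helper9.GReal6

set_option autoImplicit false

/-! The discriminant argument: a unipotent element with all Jordan blocks of size two and
non-square discriminant is not conjugate into a subfield subgroup of index two. -/

namespace Cfsg.Agent.Lib.Helper9.H9GReal

open Module Matrix

section core
variable {F : Type*} [Field F]

/-- Determinants of matrices with entries in a subfield lie in the subfield. -/
theorem det_mem_subfield {β : Type*} [Fintype β] [DecidableEq β] (F₀ : Subfield F)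
    (G : Matrix β β F) (hG : ∀ i j, G i j ∈ F₀) : G.det ∈ F₀ := by
  let G₀ : Matrix β β F₀ := Matrix.of fun i j => ⟨G i j, hG i j⟩
  have h1 : G = (F₀.subtype : F₀ →+* F).mapMatrix G₀ := by
    ext i j
    rfl
  rw [h1, ← RingHom.map_det]
  exact (G₀.det).2

variable (a : ℕ)

local notation "β" => (Fin a ⊕ Fin a)

/-- The model nilpotent matrix. -/
def nilModel (C : Matrix (Fin a) (Fin a) F) : Matrix β β F :=
  Matrix.fromBlocks (0 : Matrix (Fin a) (Fin a) F) (0 : Matrix (Fin a) (Fin a) F) C
    (0 : Matrix (Fin a) (Fin a) F)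

/-- The determinant of `[U | N₀ U]` for the model nilpotent `N₀`. -/
theorem det_fromCols_model (C : Matrix (Fin a) (Fin a) F) (U : Matrix β (Fin a) F) :
    (Matrix.fromCols U (nilModel a C * U)).det
      = C.det * (U.toRows₁).det ^ 2 := by
  have hU : U = Matrix.fromRows U.toRows₁ U.toRows₂ := (Matrix.fromRows_toRows U).symm
  have h1 : nilModel a C * U
      = Matrix.fromRows (0 : Matrix (Fin a) (Fin a) F) (C * U.toRows₁) := by
    unfold nilModel
    nth_rewrite 1 [hU]
    rw [Matrix.fromBlocks_mul_fromRows]
    simp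
  rw [h1]
  nth_rewrite 1 [hU]
  rw [Matrix.fromCols_fromRows_eq_fromBlocks, Matrix.det_fromBlocks_zero₁₂, Matrix.det_mul]
  ring

theorem nilModel_sq (C : Matrix (Fin a) (Fin a) F) : nilModel a C * nilModel a C = 0 := by
  unfold nilModel
  rw [Matrix.fromBlocks_multiply]
  simp

/-- The model unipotent matrix. -/
def unipModel (C : Matrix (Fin a) (Fin a) F) : Matrix β β F :=
  Matrix.fromBlocks (1 : Matrix (Fin a) (Fin a) F) (0 : Matrix (Fin a) (Fin a) F) C
    (1 : Matrix (Fin a) (Fin a) F)

theorem one_add_nilModel (C : Matrix (Fin a) (Fin a) F) :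
    unipModel a C = 1 + nilModel a C := by
  unfold nilModel unipModel
  rw [← Matrix.fromBlocks_one, Matrix.fromBlocks_add]
  simp

/-- The inclusion of the top coordinates. -/
def topIncl (F : Type*) [Field F] : Matrix β (Fin a) F :=
  Matrix.fromRows (1 : Matrix (Fin a) (Fin a) F) (0 : Matrix (Fin a) (Fin a) F)

/-- The matrix `C` placed in the bottom rows. -/
def botMat (C : Matrix (Fin a) (Fin a) F) : Matrix β (Fin a) F :=
  Matrix.fromRows (0 : Matrix (Fin a) (Fin a) F) C

theorem nilModel_mul_topIncl (C : Matrix (Fin a) (Fin a) F) :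
    nilModel a C * topIncl a F = botMat a C := by
  unfold nilModel topIncl botMat
  rw [Matrix.fromBlocks_mul_fromRows]
  simp

/-- The rank of a conjugate of the model nilpotent matrix. -/
theorem finrank_range_conj_model (C : Matrix (Fin a) (Fin a) F) (hC : C.det ≠ 0)
    (P P' : Matrix β β F) (hPP' : P * P' = 1) :
    finrank F (LinearMap.range (P' * nilModel a C * P).mulVecLin) = a := by
  set N' : Matrix β β F := P' * nilModel a C * P with hN'
  have hN'2 : N' * N' = 0 := by
    rw [hN']
    calc P' * nilModel a C * P * (P' * nilModel a C * P)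
        = P' * (nilModel a C * (P * P') * nilModel a C) * P := by
          simp only [Matrix.mul_assoc]
      _ = 0 := by rw [hPP', Matrix.mul_one, nilModel_sq, Matrix.mul_zero, Matrix.zero_mul]
  apply le_antisymm
  · have hle : LinearMap.range N'.mulVecLin ≤ LinearMap.ker N'.mulVecLin := by
      rintro _ ⟨u, rfl⟩
      rw [LinearMap.mem_ker, Matrix.mulVecLin_apply, Matrix.mulVecLin_apply, Matrix.mulVec_mulVec,
        hN'2, Matrix.zero_mulVec]
    have h1 := LinearMap.finrank_range_add_finrank_ker N'.mulVecLin
    have h2 := Submodule.finrank_mono hle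
    have h3 : finrank F (β → F) = a + a := by simp
    omega
  · set M₁ : Matrix β (Fin a) F := P' * botMat a C with hM₁
    have hM₁eq : M₁ = N' * (P' * topIncl a F) := by
      rw [hM₁, hN']
      calc P' * botMat a C
          = P' * (nilModel a C * ((P * P') * topIncl a F)) := by
            rw [hPP', Matrix.one_mul, nilModel_mul_topIncl]
        _ = P' * nilModel a C * P * (P' * topIncl a F) := by
            simp only [Matrix.mul_assoc]
    have hinj : Function.Injective M₁.mulVecLin := by
      rw [← LinearMap.ker_eq_bot, LinearMap.ker_eq_bot']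
      intro u hu
      rw [Matrix.mulVecLin_apply, hM₁, ← Matrix.mulVec_mulVec] at hu
      have h1 := congrArg (Matrix.mulVec P) hu
      rw [Matrix.mulVec_mulVec, hPP', Matrix.one_mulVec, Matrix.mulVec_zero] at h1
      unfold botMat at h1
      rw [Matrix.fromRows_mulVec] at h1
      have h2 : Matrix.mulVec C u = 0 := by
        funext i
        have := congrFun h1 (Sum.inr i)
        simpa using this
      exact Matrix.eq_zero_of_mulVec_eq_zero hC h2
    have hle : LinearMap.range M₁.mulVecLin ≤ LinearMap.range N'.mulVecLin := by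
      rintro _ ⟨u, rfl⟩
      refine ⟨Matrix.mulVec (P' * topIncl a F) u, ?_⟩
      rw [Matrix.mulVecLin_apply, Matrix.mulVecLin_apply, Matrix.mulVec_mulVec, ← hM₁eq]
    have h1 := LinearMap.finrank_range_of_inj hinj
    have h2 := Submodule.finrank_mono hle
    have h3 : finrank F (Fin a → F) = a := by simp
    omega

/-- The core of the discriminant argument. -/
theorem disc_core (h2 : (2 : F) ≠ 0) (ha : 1 ≤ a) (F₀ : Subfield F)
    (hsq : ∀ b ∈ F₀, ∃ c : F, c ^ 2 = b) (ν : F) (hν : ∀ c : F, c ^ 2 ≠ ν)
    (C : Matrix (Fin a) (Fin a) F) (hC : C.det = ν)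
    (P P' : Matrix β β F) (hPP' : P * P' = 1) (hP'P : P' * P = 1) (hdet : P'.det = 1)
    (c : F) (A : β → β → F) (hA : ∀ i j, A i j ∈ F₀)
    (hY : ∀ i j, (P' * unipModel a C * P) i j = c * A i j) : False := by
  classical
  have hν0 : ν ≠ 0 := by
    rintro rfl
    exact hν 0 (by ring)
  have hCdet : C.det ≠ 0 := by rw [hC]; exact hν0
  set N₀ : Matrix β β F := nilModel a C with hN₀
  set N' : Matrix β β F := P' * N₀ * P with hN'
  have hN'2 : N' * N' = 0 := by
    rw [hN']
    calc P' * N₀ * P * (P' * N₀ * P)
        = P' * (N₀ * (P * P') * N₀) * P := by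
          simp only [Matrix.mul_assoc]
      _ = 0 := by rw [hPP', Matrix.mul_one, hN₀, nilModel_sq, Matrix.mul_zero, Matrix.zero_mul]
  set Y : Matrix β β F := P' * unipModel a C * P with hYdef
  have hY1 : Y = 1 + N' := by
    rw [hYdef, one_add_nilModel, Matrix.mul_add, Matrix.add_mul, Matrix.mul_one, hP'P]
  have hN'ne : N' ≠ 0 := by
    intro h0
    have h1 : N₀ = P * N' * P' := by
      rw [hN']
      calc N₀ = (P * P') * N₀ * (P * P') := by rw [hPP', Matrix.one_mul, Matrix.mul_one]
        _ = P * (P' * N₀ * P) * P' := by simp only [Matrix.mul_assoc]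
    rw [h0, Matrix.mul_zero, Matrix.zero_mul] at h1
    have h3 : C = 0 := by
      ext i j
      have := congrFun (congrFun h1 (Sum.inr i)) (Sum.inl j)
      rw [hN₀] at this
      unfold nilModel at this
      simpa using this
    apply hCdet
    rw [h3]
    haveI : Nonempty (Fin a) := ⟨⟨0, ha⟩⟩
    exact Matrix.det_zero
  -- Step 1: the scalar `c` lies in `F₀`
  have hYY : Y * Y = (2 : F) • Y - 1 := by
    rw [hY1, Matrix.add_mul, Matrix.mul_add, Matrix.mul_add, Matrix.one_mul, Matrix.mul_one,
      Matrix.one_mul, hN'2, two_smul]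
    abel
  have hB : ∀ i j, (Y * Y) i j = c ^ 2 * ∑ l, A i l * A l j := by
    intro i j
    rw [Matrix.mul_apply, Finset.mul_sum]
    apply Finset.sum_congr rfl
    intro l _
    rw [hY, hY]
    ring
  have hBmem : ∀ i j, (∑ l, A i l * A l j) ∈ F₀ := fun i j =>
    F₀.sum_mem (fun l _ => F₀.mul_mem (hA i l) (hA l j))
  have hcF : c ∈ F₀ := by
    by_cases hoff : ∃ i j, i ≠ j ∧ A i j ≠ 0
    · obtain ⟨i, j, hij, hAij⟩ := hoff
      have h1 := congrFun (congrFun hYY i) j
      rw [hB, Matrix.sub_apply, Matrix.smul_apply, Matrix.one_apply_ne hij, sub_zero, hY,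
        smul_eq_mul] at h1
      by_cases hc0 : c = 0
      · rw [hc0]; exact F₀.zero_mem
      have h3 : c * ∑ l, A i l * A l j = 2 * A i j := by
        have : c * (c * ∑ l, A i l * A l j) = c * (2 * A i j) := by linear_combination h1
        exact mul_left_cancel₀ hc0 this
      have hB0 : (∑ l, A i l * A l j) ≠ 0 := by
        intro h0
        rw [h0, mul_zero] at h3
        rcases mul_eq_zero.mp h3.symm with h | h
        · exact h2 h
        · exact hAij h
      have : c = 2 * A i j / ∑ l, A i l * A l j := by
        rw [← h3]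
        field_simp
      rw [this]
      have h2mem : (2 : F) ∈ F₀ := by
        have : (2 : F) = 1 + 1 := by norm_num
        rw [this]
        exact F₀.add_mem F₀.one_mem F₀.one_mem
      exact F₀.div_mem (F₀.mul_mem h2mem (hA i j)) (hBmem i j)
    · exfalso
      push Not at hoff
      apply hN'ne
      have hNoff : ∀ i j, i ≠ j → N' i j = 0 := by
        intro i j hij
        have h1 : N' = Y - 1 := by rw [hY1]; abel
        rw [h1, Matrix.sub_apply, Matrix.one_apply_ne hij, sub_zero, hY, hoff i j hij, mul_zero]
      ext i j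
      by_cases hij : i = j
      · subst hij
        have h1 := congrFun (congrFun hN'2 i) i
        rw [Matrix.mul_apply, Finset.sum_eq_single i] at h1
        · exact mul_self_eq_zero.mp h1
        · intro l _ hl
          rw [hNoff i l (Ne.symm hl), zero_mul]
        · intro h
          exact absurd (Finset.mem_univ i) h
      · exact hNoff i j hij
  -- Step 2: the entries of `N'` lie in `F₀`
  have hN'F : ∀ i j, N' i j ∈ F₀ := by
    intro i j
    have h1 : N' = Y - 1 := by rw [hY1]; abel
    rw [h1, Matrix.sub_apply, hY]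
    apply F₀.sub_mem (F₀.mul_mem hcF (hA i j))
    rw [Matrix.one_apply]
    split_ifs
    · exact F₀.one_mem
    · exact F₀.zero_mem
  -- Step 3: independent columns
  have hrank := finrank_range_conj_model a C hCdet P P' hPP'
  rw [← hN₀, ← hN', Matrix.range_mulVecLin] at hrank
  obtain ⟨f, hfmem, -, hfli⟩ := Submodule.exists_fun_fin_finrank_span_eq F (Set.range N'.col)
  choose s₀ hs₀ using hfmem
  set s : Fin a → β := fun i => s₀ (Fin.cast hrank.symm i) with hs
  have hsli : LinearIndependent F (fun i : Fin a => N'.col (s i)) := by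
    have : (fun i : Fin a => N'.col (s i)) = f ∘ (Fin.cast hrank.symm) := by
      funext i
      rw [hs, Function.comp_apply, ← hs₀]
    rw [this]
    exact hfli.comp _ (Fin.cast_injective _)
  set W : Matrix β (Fin a) F := Matrix.of fun i j => if i = s j then (1 : F) else 0 with hW
  have hNW : ∀ i j, (N' * W) i j = N' i (s j) := by
    intro i j
    rw [Matrix.mul_apply, Finset.sum_eq_single (s j)]
    · rw [hW, Matrix.of_apply, if_pos rfl, mul_one]
    · intro l _ hl
      rw [hW, Matrix.of_apply, if_neg hl, mul_zero]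
    · intro h
      exact absurd (Finset.mem_univ _) h
  have hNWcol : (N' * W).col = fun i : Fin a => N'.col (s i) := by
    funext j i
    exact hNW i j
  have hNWinj : Function.Injective (N' * W).mulVec := by
    rw [Matrix.mulVec_injective_iff, hNWcol]
    exact hsli
  set G : Matrix β β F := Matrix.fromCols W (N' * W) with hG
  have hGinj : Function.Injective G.mulVec := by
    intro g₁ g₂ hg
    have hg0 : G.mulVec (g₁ - g₂) = 0 := by rw [Matrix.mulVec_sub, hg, sub_self]
    rw [hG, Matrix.fromCols_mulVec] at hg0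
    have h1 := congrArg N'.mulVec hg0
    rw [Matrix.mulVec_add, Matrix.mulVec_mulVec, Matrix.mulVec_mulVec, ← Matrix.mul_assoc, hN'2,
      Matrix.zero_mul, Matrix.zero_mulVec, add_zero, Matrix.mulVec_zero] at h1
    have h3 : (g₁ - g₂) ∘ Sum.inl = 0 := by
      apply hNWinj
      rw [h1, Matrix.mulVec_zero]
    rw [h3, Matrix.mulVec_zero, zero_add] at hg0
    have h4 : (g₁ - g₂) ∘ Sum.inr = 0 := by
      apply hNWinj
      rw [hg0, Matrix.mulVec_zero]
    have h5 : g₁ - g₂ = 0 := by
      funext l
      rcases l with l | l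
      · exact congrFun h3 l
      · exact congrFun h4 l
    exact sub_eq_zero.mp h5
  have hGunit : IsUnit G := Matrix.mulVec_injective_iff_isUnit.mp hGinj
  have hGdet : G.det ≠ 0 := ((Matrix.isUnit_iff_isUnit_det G).mp hGunit).ne_zero
  have hGF : ∀ i j, G i j ∈ F₀ := by
    intro i j
    rcases j with j | j
    · rw [hG, Matrix.fromCols_apply_inl, hW, Matrix.of_apply]
      split_ifs
      · exact F₀.one_mem
      · exact F₀.zero_mem
    · rw [hG, Matrix.fromCols_apply_inr, hNW]
      exact hN'F _ _
  obtain ⟨e, he⟩ := hsq _ (det_mem_subfield F₀ G hGF)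
  -- Step 4: the determinant through the model
  have hGeq : G = P' * Matrix.fromCols (P * W) (N₀ * (P * W)) := by
    rw [Matrix.mul_fromCols, hG]
    congr 1
    · rw [← Matrix.mul_assoc, hP'P, Matrix.one_mul]
    · rw [hN']
      simp only [Matrix.mul_assoc]
  have hdetG : G.det = ν * ((P * W).toRows₁).det ^ 2 := by
    rw [hGeq, Matrix.det_mul, hdet, one_mul, hN₀, det_fromCols_model, hC]
  rw [hdetG] at he hGdet
  have hT : ((P * W).toRows₁).det ≠ 0 := by
    intro h0
    apply hGdet
    rw [h0]
    ring
  apply hν (e / ((P * W).toRows₁).det)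
  rw [div_pow, he]
  field_simp

end core

end Cfsg.Agent.Lib.Helper9.H9GReal
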