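import Mathlib
import Cfsg.Agent.Lib.Helper9.GReal7

set_option autoImplicit false

/-! The unipotent counterexample in `SL (Fin n)` for `n` even. -/

namespace Cfsg.Agent.Lib.Helper9.H9GReal

open Module Matrix

section model
variable {F : Type*} [Field F]

/-- The index equivalence. -/
def sumEquiv (a n : ℕ) (hna : n = a + a) : Fin a ⊕ Fin a ≃ Fin n :=
  finSumFinEquiv.trans (finCongr hna.symm)

/-- The diagonal matrix `diag(ν, 1, …, 1)`. -/
def diagNu (a : ℕ) (ha : 1 ≤ a) (ν : F) : Matrix (Fin a) (Fin a) F :=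
  Matrix.diagonal (Function.update (fun _ => (1 : F)) ⟨0, ha⟩ ν)

theorem det_diagNu (a : ℕ) (ha : 1 ≤ a) (ν : F) : (diagNu a ha ν).det = ν := by
  unfold diagNu
  rw [Matrix.det_diagonal, Finset.prod_update_of_mem (Finset.mem_univ _)]
  simp

/-- The model matrix on `Fin n`. -/
def unipFin (a n : ℕ) (hna : n = a + a) (ha : 1 ≤ a) (ν : F) : Matrix (Fin n) (Fin n) F :=
  (unipModel a (diagNu a ha ν)).submatrix (sumEquiv a n hna).symm (sumEquiv a n hna).symm

theorem det_unipFin (a n : ℕ) (hna : n = a + a) (ha : 1 ≤ a) (ν : F) :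
    (unipFin a n hna ha ν).det = 1 := by
  unfold unipFin
  rw [Matrix.det_submatrix_equiv_self]
  unfold unipModel
  rw [Matrix.det_fromBlocks_zero₁₂, Matrix.det_one, one_mul]

theorem unipModel_cube (h3 : (3 : F) = 0) (a : ℕ) (C : Matrix (Fin a) (Fin a) F) :
    unipModel a C * unipModel a C * unipModel a C = 1 := by
  rw [one_add_nilModel]
  have h1 : (1 + nilModel a C) * (1 + nilModel a C) = 1 + (2 : F) • nilModel a C := by
    rw [Matrix.add_mul, Matrix.mul_add, Matrix.mul_add, Matrix.one_mul, Matrix.mul_one,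
      Matrix.one_mul, nilModel_sq, two_smul]
    abel
  rw [h1, Matrix.add_mul, Matrix.mul_add, Matrix.mul_add, Matrix.one_mul, Matrix.one_mul,
    Matrix.smul_mul, Matrix.mul_one, Matrix.smul_mul, nilModel_sq, smul_zero, add_zero]
  have : (1 : Matrix (Fin a ⊕ Fin a) (Fin a ⊕ Fin a) F) + nilModel a C + (2 : F) • nilModel a C
      = 1 + (3 : F) • nilModel a C := by
    have e3 : (3 : F) = 1 + 2 := by norm_num
    rw [e3, add_smul, one_smul]
    abel
  rw [this, h3, zero_smul, add_zero]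

theorem unipFin_cube (h3 : (3 : F) = 0) (a n : ℕ) (hna : n = a + a) (ha : 1 ≤ a) (ν : F) :
    unipFin a n hna ha ν * unipFin a n hna ha ν * unipFin a n hna ha ν = 1 := by
  unfold unipFin
  rw [Matrix.submatrix_mul_equiv, Matrix.submatrix_mul_equiv, unipModel_cube h3,
    Matrix.submatrix_one_equiv]

theorem unipFin_ne_smul (a n : ℕ) (hna : n = a + a) (ha : 1 ≤ a) (ν : F) (hν : ν ≠ 0) (z : F) :
    unipFin a n hna ha ν ≠ z • (1 : Matrix (Fin n) (Fin n) F) := by
  intro h
  have h1 := congrFun (congrFun h (sumEquiv a n hna (Sum.inr ⟨0, ha⟩)))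
    (sumEquiv a n hna (Sum.inl ⟨0, ha⟩))
  have hne : sumEquiv a n hna (Sum.inr ⟨0, ha⟩) ≠ sumEquiv a n hna (Sum.inl ⟨0, ha⟩) := by
    intro h'
    have := (sumEquiv a n hna).injective h'
    exact Sum.inr_ne_inl this
  rw [Matrix.smul_apply, Matrix.one_apply_ne hne, smul_zero] at h1
  unfold unipFin unipModel diagNu at h1
  simp at h1
  exact hν h1

/-- The model is not conjugate into the subfield subgroup. -/
theorem not_conj_unipFin (h2 : (2 : F) ≠ 0) (a n : ℕ) (hna : n = a + a) (ha : 1 ≤ a)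
    (F₀ : Subfield F) (hsq : ∀ b ∈ F₀, ∃ c : F, c ^ 2 = b) (ν : F) (hν : ∀ c : F, c ^ 2 ≠ ν)
    (x : Matrix.SpecialLinearGroup (Fin n) F)
    (hx : (x : Matrix (Fin n) (Fin n) F) = unipFin a n hna ha ν)
    (P : Matrix.SpecialLinearGroup (Fin n) F) :
    P⁻¹ * x * P ∉ (Cfsg.Geo.subfieldSubgroup F₀ (1 : GL (Fin n) F)).comap
        (Matrix.SpecialLinearGroup.toGL : Matrix.SpecialLinearGroup (Fin n) F →* GL (Fin n) F) := by
  intro hmem
  rw [Subgroup.mem_comap, mem_subfieldSubgroup_one_iff] at hmem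
  obtain ⟨c, -, hent⟩ := hmem
  rw [Matrix.SpecialLinearGroup.coe_GL_coe_matrix] at hent
  choose A hA hMA using hent
  set e := sumEquiv a n hna with he
  set Pm : Matrix (Fin n) (Fin n) F := (P : Matrix (Fin n) (Fin n) F) with hPm
  set Pi : Matrix (Fin n) (Fin n) F :=
    ((P⁻¹ : Matrix.SpecialLinearGroup (Fin n) F) : Matrix (Fin n) (Fin n) F) with hPi
  have hPP : Pm * Pi = 1 := by
    rw [hPm, hPi, ← Matrix.SpecialLinearGroup.coe_mul, mul_inv_cancel,
      Matrix.SpecialLinearGroup.coe_one]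
  have hPP' : Pi * Pm = 1 := by
    rw [hPm, hPi, ← Matrix.SpecialLinearGroup.coe_mul, inv_mul_cancel,
      Matrix.SpecialLinearGroup.coe_one]
  apply disc_core a h2 ha F₀ hsq ν hν (diagNu a ha ν) (det_diagNu a ha ν)
    (Pm.submatrix e e) (Pi.submatrix e e) ?_ ?_ ?_ c (fun i j => A (e i) (e j))
    (fun i j => hA _ _) ?_
  · rw [Matrix.submatrix_mul_equiv, hPP, Matrix.submatrix_one_equiv]
  · rw [Matrix.submatrix_mul_equiv, hPP', Matrix.submatrix_one_equiv]
  · rw [Matrix.det_submatrix_equiv_self, hPi, Matrix.SpecialLinearGroup.det_coe]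
  · intro i j
    have h1 : unipModel a (diagNu a ha ν) = (unipFin a n hna ha ν).submatrix e e := by
      unfold unipFin
      rw [Matrix.submatrix_submatrix]
      ext i j
      simp [he]
    rw [h1, Matrix.submatrix_mul_equiv, Matrix.submatrix_mul_equiv, Matrix.submatrix_apply, ← hMA,
      Matrix.SpecialLinearGroup.coe_mul, Matrix.SpecialLinearGroup.coe_mul, hx]

end model

end Cfsg.Agent.Lib.Helper9.H9GReal
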