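import Mathlib
import Cfsg.Agent.Lib.Helper9.ChainStab
import Cfsg.Agent.Lib.Helper9.ChainStab1

set_option autoImplicit false

/-!
# Automorphisms of `p`-power order of an elementary abelian group of order at most `p²`

Either two such automorphisms generate a `p`-group, or the group they generate contains the inversion.
-/

namespace Cfsg.Agent.H9MSC

open Cfsg.Agent.Lib.Helper9

variable {W : Type*} [Group W]

/-- the fixed subgroup of an automorphism -/
def fixSub (u : MulAut W) : Subgroup W where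
  carrier := {w | u w = w}
  one_mem' := map_one u
  mul_mem' := by
    intro a b ha hb
    have ha' : u a = a := ha
    have hb' : u b = b := hb
    show u (a * b) = a * b
    rw [map_mul, ha', hb']
  inv_mem' := by
    intro a ha
    have ha' : u a = a := ha
    show u a⁻¹ = a⁻¹
    rw [map_inv, ha']

theorem mem_fixSub (u : MulAut W) (w : W) : w ∈ fixSub u ↔ u w = w := Iff.rfl

theorem aut_pow_mem_of_mem (u : MulAut W) (X : Subgroup W) (hX : ∀ x ∈ X, u x ∈ X) (n : ℕ) :
    ∀ x ∈ X, (u ^ n) x ∈ X := by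
  induction n with
  | zero => intro x hx; simpa using hx
  | succ n ih =>
    intro x hx
    rw [pow_succ', MulAut.mul_apply]
    exact hX _ (ih x hx)

/-- an automorphism of `p`-power order has a nontrivial fixed point on every nontrivial invariant
`p`-subgroup -/
theorem exists_fixed_ne_one [Finite W] {p : ℕ} [Fact p.Prime] (u : MulAut W) (k : ℕ)
    (hu : u ^ p ^ k = 1) (X : Subgroup W) (hXp : IsPGroup p X) (hX : ∀ x ∈ X, u x ∈ X)
    (hne : X ≠ ⊥) : ∃ x ∈ X, x ≠ 1 ∧ u x = x := by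
  classical
  haveI : Finite (MulAut W) :=
    Finite.of_injective (fun e : MulAut W => (e : W → W)) DFunLike.coe_injective
  have hZ : IsPGroup p (Subgroup.zpowers u) := by
    rintro ⟨z, hz⟩
    obtain ⟨n, rfl⟩ := Subgroup.mem_zpowers_iff.mp hz
    refine ⟨k, Subtype.ext ?_⟩
    show (u ^ n) ^ p ^ k = 1
    rw [← zpow_natCast, ← zpow_mul, mul_comm, zpow_mul, zpow_natCast, hu, one_zpow]
  have hXz : ∀ z ∈ Subgroup.zpowers u, ∀ x ∈ X, z x ∈ X := by
    intro z hz
    rw [← mem_powers_iff_mem_zpowers] at hz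
    obtain ⟨n, rfl⟩ := hz
    exact aut_pow_mem_of_mem u X hX n
  let T : SubMulAction (Subgroup.zpowers u) W :=
    { carrier := X
      smul_mem' := fun z x hx => hXz z.1 z.2 x hx }
  have hcardT : Nat.card T = Nat.card X := Nat.card_congr (Equiv.subtypeEquivRight (fun x => Iff.rfl))
  have hdvd : p ∣ Nat.card T := by
    rw [hcardT]
    rcases hXp.card_eq_or_dvd with h1 | h1
    · exact absurd (Subgroup.card_eq_one.mp h1) hne
    · exact h1
  have hone : (⟨1, X.one_mem⟩ : T) ∈ MulAction.fixedPoints (Subgroup.zpowers u) T := by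
    intro z
    apply Subtype.ext
    show (z : MulAut W) (1 : W) = 1
    exact map_one _
  obtain ⟨b, hb, hb1⟩ := hZ.exists_fixed_point_of_prime_dvd_card_of_fixed_point T hdvd hone
  refine ⟨b.1, b.2, ?_, ?_⟩
  · intro h
    apply hb1
    exact Subtype.ext h.symm
  · have := hb ⟨u, Subgroup.mem_zpowers u⟩
    exact congrArg Subtype.val this

/-- the map `w ↦ w⁻¹ u(w)` on a commutative group -/
def deltaHom (hcomm : ∀ x y : W, x * y = y * x) (u : MulAut W) : W →* W where
  toFun w := w⁻¹ * u w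
  map_one' := by simp
  map_mul' := by
    intro a b
    calc (a * b)⁻¹ * u (a * b) = b⁻¹ * a⁻¹ * (u a * u b) := by rw [mul_inv_rev, map_mul]
      _ = a⁻¹ * (b⁻¹ * u a) * u b := by rw [hcomm b⁻¹ a⁻¹]; group
      _ = a⁻¹ * (u a * b⁻¹) * u b := by rw [hcomm b⁻¹ (u a)]
      _ = a⁻¹ * u a * (b⁻¹ * u b) := by group

theorem deltaHom_apply (hcomm : ∀ x y : W, x * y = y * x) (u : MulAut W) (w : W) :
    deltaHom hcomm u w = w⁻¹ * u w := rfl

theorem deltaHom_ker (hcomm : ∀ x y : W, x * y = y * x) (u : MulAut W) :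
    (deltaHom hcomm u).ker = fixSub u := by
  ext w
  rw [MonoidHom.mem_ker, deltaHom_apply, mem_fixSub, inv_mul_eq_one]
  exact eq_comm

theorem isPGroup_of_card_dvd [Finite W] {p : ℕ} [hp : Fact p.Prime] {n : ℕ}
    (hcard : Nat.card W ∣ p ^ n) : IsPGroup p W := by
  obtain ⟨j, -, hj⟩ := (Nat.dvd_prime_pow hp.out).mp hcard
  exact IsPGroup.of_card hj

/-- a nontrivial automorphism of `p`-power order of a commutative group of order dividing `p²`:
the fixed subgroup has order `p`, the group has order `p²` and `[W, u] ≤ C_W(u)` -/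
theorem fixSub_structure [Finite W] {p : ℕ} [hp : Fact p.Prime] (hcomm : ∀ x y : W, x * y = y * x)
    (hcard : Nat.card W ∣ p ^ 2) (u : MulAut W) (k : ℕ) (hu : u ^ p ^ k = 1) (hu1 : u ≠ 1) :
    Nat.card (fixSub u) = p ∧ Nat.card W = p ^ 2 ∧ ∀ w : W, w⁻¹ * u w ∈ fixSub u := by
  classical
  have hWp : IsPGroup p W := isPGroup_of_card_dvd hcard
  have hLtop : fixSub u ≠ ⊤ := by
    intro h
    apply hu1
    ext w
    have : w ∈ fixSub u := by rw [h]; trivial
    exact this
  have hWne : (⊤ : Subgroup W) ≠ ⊥ := by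
    intro h
    apply hu1
    ext w
    have hw : w ∈ (⊥ : Subgroup W) := by rw [← h]; trivial
    rw [Subgroup.mem_bot] at hw
    rw [hw, map_one]; rfl
  have hLbot : fixSub u ≠ ⊥ := by
    obtain ⟨x, -, hx1, hxu⟩ := exists_fixed_ne_one u k hu ⊤ (hWp.to_subgroup ⊤)
      (fun x _ => Subgroup.mem_top _) hWne
    intro h
    apply hx1
    have : x ∈ fixSub u := hxu
    rw [h, Subgroup.mem_bot] at this
    exact this
  obtain ⟨j, hj2, hj⟩ := (Nat.dvd_prime_pow hp.out).mp hcard
  have hLdvd : Nat.card (fixSub u) ∣ p ^ j := by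
    rw [← hj]; exact Subgroup.card_subgroup_dvd_card _
  obtain ⟨i, hij, hi⟩ := (Nat.dvd_prime_pow hp.out).mp hLdvd
  have hi0 : i ≠ 0 := by
    intro h0
    rw [h0, pow_zero] at hi
    exact hLbot (Subgroup.card_eq_one.mp hi)
  have hij' : i ≠ j := by
    intro h
    apply hLtop
    apply Subgroup.eq_top_of_card_eq
    rw [hi, hj, h]
  have hi1 : i = 1 := by omega
  have hj2' : j = 2 := by omega
  rw [hi1, pow_one] at hi
  rw [hj2'] at hj
  refine ⟨hi, hj, ?_⟩
  -- the image of `δ`
  have hidx : (fixSub u).index = p := by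
    have h1 := Subgroup.card_mul_index (fixSub u)
    rw [hi, hj, pow_two] at h1
    exact Nat.eq_of_mul_eq_mul_left hp.out.pos h1
  have hNcard : Nat.card (deltaHom hcomm u).range = p := by
    rw [← Subgroup.index_ker, deltaHom_ker, hidx]
  have hNinv : ∀ y ∈ (deltaHom hcomm u).range, u y ∈ (deltaHom hcomm u).range := by
    rintro _ ⟨w, rfl⟩
    refine ⟨u w, ?_⟩
    rw [deltaHom_apply, deltaHom_apply, map_mul, map_inv]
  have hNbot : (deltaHom hcomm u).range ≠ ⊥ := by
    intro h
    rw [← Subgroup.card_eq_one, hNcard] at h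
    exact hp.out.one_lt.ne' h
  obtain ⟨x, hxN, hx1, hxu⟩ := exists_fixed_ne_one u k hu _ (hWp.to_subgroup _) hNinv hNbot
  intro w
  have hwN : deltaHom hcomm u w ∈ (deltaHom hcomm u).range := ⟨w, rfl⟩
  have hne : (⟨x, hxN⟩ : (deltaHom hcomm u).range) ≠ 1 := by
    intro h
    exact hx1 (congrArg Subtype.val h)
  have h1 := mem_zpowers_of_prime_card (G := (deltaHom hcomm u).range) hNcard
    (g := ⟨x, hxN⟩) (g' := ⟨deltaHom hcomm u w, hwN⟩) hne
  obtain ⟨n, hn⟩ := Subgroup.mem_zpowers_iff.mp h1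
  have h2 : x ^ n = deltaHom hcomm u w := by
    have := congrArg Subtype.val hn
    simpa using this
  rw [← deltaHom_apply hcomm, ← h2]
  exact Subgroup.zpow_mem _ hxu n

/-- the chain `1 ≤ L ≤ W` -/
def chainL (L : Subgroup W) : ℕ → Subgroup W
  | 0 => ⊥
  | 1 => L
  | _ => ⊤

theorem chainL_mono (L : Subgroup W) : Monotone (chainL L) := by
  apply monotone_nat_of_le_succ
  intro n
  rcases n with _ | _ | n
  · exact bot_le
  · exact le_top
  · exact le_rfl

theorem stabChain_chainL (L : Subgroup W) (u : MulAut W) (h1 : ∀ x ∈ L, u x = x)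
    (h2 : ∀ w : W, w⁻¹ * u w ∈ L) : StabChain (chainL L) u := by
  intro i x hx
  rcases i with _ | _ | i
  · show x⁻¹ * u x ∈ (⊥ : Subgroup W)
    rw [h1 x hx, inv_mul_cancel]
    exact Subgroup.one_mem _
  · exact h2 x
  · exact Subgroup.mem_top _

theorem aut_pow_fix' (u : MulAut W) {x : W} (h : u x = x) (n : ℕ) : (u ^ n) x = x := by
  induction n with
  | zero => simp
  | succ n ih => rw [pow_succ', MulAut.mul_apply, ih, h]

/-- in a subgroup of prime order every element is a power of any nontrivial element -/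
theorem mem_zpowers_of_prime_card_sub [Finite W] {p : ℕ} [hp : Fact p.Prime] {L : Subgroup W}
    (hL : Nat.card L = p) {c x : W} (hc : c ∈ L) (hc1 : c ≠ 1) (hx : x ∈ L) :
    x ∈ Subgroup.zpowers c := by
  have hne : (⟨c, hc⟩ : L) ≠ 1 := fun h => hc1 (congrArg Subtype.val h)
  have h1 := mem_zpowers_of_prime_card (G := L) hL (g := ⟨c, hc⟩) (g' := ⟨x, hx⟩) hne
  obtain ⟨n, hn⟩ := Subgroup.mem_zpowers_iff.mp h1
  refine Subgroup.mem_zpowers_iff.mpr ⟨n, ?_⟩
  have := congrArg Subtype.val hn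
  simpa using this

/-- **Dichotomy**: two automorphisms of `p`-power order of a commutative group of order dividing `p²`
either have a product of `p`-power order or generate a group containing the inversion (and then the
group is not cyclic). -/
theorem rank2_dichotomy [Finite W] {p : ℕ} [hp : Fact p.Prime] (hcomm : ∀ x y : W, x * y = y * x)
    (hcard : Nat.card W ∣ p ^ 2) (u₁ u₂ : MulAut W) (k₁ k₂ : ℕ) (h₁ : u₁ ^ p ^ k₁ = 1)
    (h₂ : u₂ ^ p ^ k₂ = 1) :
    (∃ k' : ℕ, (u₁ * u₂) ^ p ^ k' = 1) ∨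
      (∃ ν ∈ Subgroup.closure ({u₁, u₂} : Set (MulAut W)), (∀ x, ν x = x⁻¹) ∧
        ∃ a b : W, b ≠ 1 ∧ a ∉ Subgroup.zpowers b) := by
  classical
  have hWp : IsPGroup p W := isPGroup_of_card_dvd hcard
  by_cases hu1 : u₁ = 1
  · left
    exact ⟨k₂, by rw [hu1, one_mul]; exact h₂⟩
  by_cases hu2 : u₂ = 1
  · left
    exact ⟨k₁, by rw [hu2, mul_one]; exact h₁⟩
  obtain ⟨hL1, hW, hδ1⟩ := fixSub_structure hcomm hcard u₁ k₁ h₁ hu1
  obtain ⟨hL2, -, hδ2⟩ := fixSub_structure hcomm hcard u₂ k₂ h₂ hu2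
  by_cases hLL : fixSub u₁ = fixSub u₂
  · left
    have hs1 : StabChain (chainL (fixSub u₁)) u₁ :=
      stabChain_chainL _ u₁ (fun x hx => hx) hδ1
    have hs2 : StabChain (chainL (fixSub u₁)) u₂ := by
      rw [hLL]
      exact stabChain_chainL _ u₂ (fun x hx => hx) hδ2
    have hs := stabChain_mul (chainL_mono _) rfl hs1 hs2
    exact stabChain_pow_eq_one p hWp (chainL_mono _) rfl 2 rfl hs
  · right
    have hdisj : fixSub u₁ ⊓ fixSub u₂ = ⊥ := by
      by_contra hne
      have hdvd : Nat.card ↥(fixSub u₁ ⊓ fixSub u₂) ∣ p := by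
        rw [← hL1]; exact Subgroup.card_dvd_of_le inf_le_left
      rcases (Nat.dvd_prime hp.out).mp hdvd with h | h
      · exact hne (Subgroup.card_eq_one.mp h)
      · have e1 : fixSub u₁ ⊓ fixSub u₂ = fixSub u₁ :=
          Subgroup.eq_of_le_of_card_ge inf_le_left (by rw [h, hL1])
        have e2 : fixSub u₁ ⊓ fixSub u₂ = fixSub u₂ :=
          Subgroup.eq_of_le_of_card_ge inf_le_right (by rw [h, hL2])
        exact hLL (e1.symm.trans e2)
    have hL2ne : fixSub u₂ ≠ ⊥ := by
      intro h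
      rw [← Subgroup.card_eq_one, hL2] at h
      exact hp.out.one_lt.ne' h
    obtain ⟨⟨b, hbL⟩, hb1'⟩ := Subgroup.ne_bot_iff_exists_ne_one.mp hL2ne
    have hb1 : b ≠ 1 := fun h => hb1' (Subtype.ext h)
    have hu2b : u₂ b = b := hbL
    have hb_notL1 : b ∉ fixSub u₁ := by
      intro h
      apply hb1
      have : b ∈ fixSub u₁ ⊓ fixSub u₂ := ⟨h, hbL⟩
      rw [hdisj, Subgroup.mem_bot] at this
      exact this
    obtain ⟨a, ha_def⟩ : ∃ a : W, a = b⁻¹ * u₁ b := ⟨_, rfl⟩
    have haL : a ∈ fixSub u₁ := by rw [ha_def]; exact hδ1 b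
    have ha1 : a ≠ 1 := by
      intro h
      apply hb_notL1
      rw [mem_fixSub]
      rw [ha_def] at h
      exact (inv_mul_eq_one.mp h).symm
    have hu1a : u₁ a = a := haL
    have hu1b : u₁ b = b * a := by rw [ha_def]; group
    have ha_notL2 : a ∉ fixSub u₂ := by
      intro h
      apply ha1
      have : a ∈ fixSub u₁ ⊓ fixSub u₂ := ⟨haL, h⟩
      rw [hdisj, Subgroup.mem_bot] at this
      exact this
    obtain ⟨c, hc_def⟩ : ∃ c : W, c = a⁻¹ * u₂ a := ⟨_, rfl⟩
    have hcL : c ∈ fixSub u₂ := by rw [hc_def]; exact hδ2 a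
    have hc1 : c ≠ 1 := by
      intro h
      apply ha_notL2
      rw [mem_fixSub]
      rw [hc_def] at h
      exact (inv_mul_eq_one.mp h).symm
    have hu2a : u₂ a = a * c := by rw [hc_def]; group
    have hu2c : u₂ c = c := hcL
    have hbinv : b⁻¹ ∈ Subgroup.zpowers c :=
      mem_zpowers_of_prime_card_sub hL2 hcL hc1 (Subgroup.inv_mem _ hbL)
    rw [← mem_powers_iff_mem_zpowers] at hbinv
    obtain ⟨m, hm⟩ := hbinv
    have hm' : c ^ m = b⁻¹ := hm
    obtain ⟨v, hv_def⟩ : ∃ v : MulAut W, v = u₂ ^ m := ⟨_, rfl⟩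
    have hva : v a = a * b⁻¹ := by
      rw [hv_def, Cfsg.Agent.H9CS.pow_apply_of_triv u₂ a c hu2a hu2c m, hm']
    have hvb : v b = b := by rw [hv_def]; exact aut_pow_fix' u₂ hu2b m
    obtain ⟨w, hw_def⟩ : ∃ w : MulAut W, w = u₁ * v * u₁ := ⟨_, rfl⟩
    have hwa : w a = b⁻¹ := by
      rw [hw_def]
      show u₁ (v (u₁ a)) = b⁻¹
      rw [hu1a, hva, map_mul, map_inv, hu1a, hu1b, mul_inv_rev, ← mul_assoc, mul_inv_cancel, one_mul]
    have hwb : w b = a := by
      rw [hw_def]
      show u₁ (v (u₁ b)) = a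
      rw [hu1b, map_mul, hvb, hva, hcomm a b⁻¹, mul_inv_cancel_left, hu1a]
    have hνa : (w * w) a = a⁻¹ := by
      show w (w a) = a⁻¹
      rw [hwa, map_inv, hwb]
    have hνb : (w * w) b = b⁻¹ := by
      show w (w b) = b⁻¹
      rw [hwb, hwa]
    have hu1mem : u₁ ∈ Subgroup.closure ({u₁, u₂} : Set (MulAut W)) :=
      Subgroup.subset_closure (by simp)
    have hu2mem : u₂ ∈ Subgroup.closure ({u₁, u₂} : Set (MulAut W)) :=
      Subgroup.subset_closure (by simp)
    have hwmem : w ∈ Subgroup.closure ({u₁, u₂} : Set (MulAut W)) := by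
      rw [hw_def, hv_def]
      exact Subgroup.mul_mem _ (Subgroup.mul_mem _ hu1mem (Subgroup.pow_mem _ hu2mem m)) hu1mem
    let D : Subgroup W :=
      { carrier := {x | (w * w) x = x⁻¹}
        one_mem' := by
          show (w * w) 1 = 1⁻¹
          rw [map_one, inv_one]
        mul_mem' := by
          intro x y hx hy
          have hx' : (w * w) x = x⁻¹ := hx
          have hy' : (w * w) y = y⁻¹ := hy
          show (w * w) (x * y) = (x * y)⁻¹
          rw [map_mul, hx', hy', mul_inv_rev, hcomm]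
        inv_mem' := by
          intro x hx
          have hx' : (w * w) x = x⁻¹ := hx
          show (w * w) x⁻¹ = x⁻¹⁻¹
          rw [map_inv, hx'] }
    have haD : a ∈ D := hνa
    have hbD : b ∈ D := hνb
    have hL1D : fixSub u₁ ≤ D := by
      intro x hx
      have h1 := mem_zpowers_of_prime_card_sub hL1 haL ha1 hx
      exact (Subgroup.zpowers_le.mpr haD) h1
    have hL2D : fixSub u₂ ≤ D := by
      intro x hx
      have h1 := mem_zpowers_of_prime_card_sub hL2 hbL hb1 hx
      exact (Subgroup.zpowers_le.mpr hbD) h1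
    have hcompl : (fixSub u₁).IsComplement' (fixSub u₂) := by
      apply Subgroup.isComplement'_of_card_mul_and_disjoint
      · rw [hL1, hL2, hW, pow_two]
      · exact disjoint_iff.mpr hdisj
    have htop : (⊤ : Subgroup W) ≤ D := by
      rw [← hcompl.sup_eq_top]
      exact sup_le hL1D hL2D
    refine ⟨w * w, Subgroup.mul_mem _ hwmem hwmem, fun x => htop (Subgroup.mem_top x), a, b, hb1, ?_⟩
    intro h
    exact ha_notL2 ((Subgroup.zpowers_le.mpr hbL) h)

end Cfsg.Agent.H9MSC
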