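import Mathlib
import Cfsg.Prelude
import Cfsg.Agent.Lib.Lead.Frattini
import Cfsg.Agent.Lib.Helper4.GC9
import Cfsg.Agent.Lib.Helper9.MetaSC1

set_option autoImplicit false

/-!
# Generalised extraspecial `p`-groups: basic facts
-/

namespace Cfsg.Agent.H9GE

open Cfsg
open scoped commutatorElement

/-- a finite `p`-group whose Frattini subgroup equals the commutator subgroup and has order `p` -/
structure GE (p : ℕ) (P : Type*) [Group P] : Prop where
  hP : IsPGroup p P
  hΦ : frattini P = commutator P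
  hcard : Nat.card (commutator P) = p

variable {P : Type*} [Group P] {p : ℕ}

theorem commElt_mem (a b : P) : ⁅a, b⁆ ∈ commutator P := by
  rw [commutator_def]
  exact Subgroup.commutator_mem_commutator (Subgroup.mem_top a) (Subgroup.mem_top b)

namespace GE

variable [Finite P] [hp : Fact p.Prime]

theorem pow_mem (h : GE p P) (a : P) : a ^ p ∈ commutator P := by
  rw [← h.hΦ]
  exact Cfsg.Agent.Lib.Lead.pow_mem_frattini_of_isPGroup h.hP a

theorem le_center (h : GE p P) : commutator P ≤ Subgroup.center P :=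
  Cfsg.Agent.Lib.Helper4.GC.le_center_of_card_prime p h.hP (commutator P) h.hcard

theorem central (h : GE p P) {w : P} (hw : w ∈ commutator P) (a : P) : a * w = w * a :=
  Subgroup.mem_center_iff.mp (h.le_center hw) a

theorem commElt_center (h : GE p P) (a b : P) : ⁅a, b⁆ ∈ Subgroup.center P :=
  h.le_center (commElt_mem a b)

theorem pow_eq_one (h : GE p P) {w : P} (hw : w ∈ commutator P) : w ^ p = 1 := by
  have h1 : (⟨w, hw⟩ : commutator P) ^ Nat.card (commutator P) = 1 := pow_card_eq_one'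
  rw [h.hcard] at h1
  exact congrArg Subtype.val h1

theorem mem_zpowers (h : GE p P) {z w : P} (hz : z ∈ commutator P) (hz1 : z ≠ 1)
    (hw : w ∈ commutator P) : w ∈ Subgroup.zpowers z :=
  Cfsg.Agent.H9MSC.mem_zpowers_of_prime_card_sub h.hcard hz hz1 hw

theorem exists_pow_eq (h : GE p P) {z w : P} (hz : z ∈ commutator P) (hz1 : z ≠ 1)
    (hw : w ∈ commutator P) : ∃ k : ℕ, z ^ k = w := by
  have h1 := h.mem_zpowers hz hz1 hw
  rw [← mem_powers_iff_mem_zpowers] at h1
  exact h1

theorem not_comm (h : GE p P) : ∃ a b : P, a * b ≠ b * a := by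
  by_contra hno
  push Not at hno
  have hbot : commutator P = ⊥ := by
    rw [commutator_def, Subgroup.commutator_eq_bot_iff_le_centralizer]
    intro x _
    rw [Subgroup.mem_centralizer_iff]
    intro y _
    exact hno y x
  have h1 := h.hcard
  rw [hbot, Subgroup.card_bot] at h1
  exact hp.out.one_lt.ne h1

end GE

/-- `x ↦ ⁅x, z⁆` as a homomorphism, when commutators are central -/
def commWith (hc : ∀ a b : P, ⁅a, b⁆ ∈ Subgroup.center P) (z : P) : P →* P where
  toFun x := ⁅x, z⁆
  map_one' := commutatorElement_one_left z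
  map_mul' a b := by
    have h1 : a * ⁅b, z⁆ = ⁅b, z⁆ * a := Subgroup.mem_center_iff.mp (hc b z) a
    have h2 : ⁅a * b, z⁆ = a * ⁅b, z⁆ * a⁻¹ * ⁅a, z⁆ := by
      simp only [commutatorElement_def]; group
    have h3 : ⁅a, z⁆ * ⁅b, z⁆ = ⁅b, z⁆ * ⁅a, z⁆ :=
      Subgroup.mem_center_iff.mp (hc b z) _
    show ⁅a * b, z⁆ = ⁅a, z⁆ * ⁅b, z⁆
    rw [h2, h1, mul_inv_cancel_right, h3]

theorem commWith_apply (hc : ∀ a b : P, ⁅a, b⁆ ∈ Subgroup.center P) (z x : P) :
    commWith hc z x = ⁅x, z⁆ := rfl

theorem mem_ker_commWith (hc : ∀ a b : P, ⁅a, b⁆ ∈ Subgroup.center P) (z x : P) :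
    x ∈ (commWith hc z).ker ↔ x * z = z * x := by
  rw [MonoidHom.mem_ker, commWith_apply, commutatorElement_eq_one_iff_mul_comm]

theorem range_commWith_le (hc : ∀ a b : P, ⁅a, b⁆ ∈ Subgroup.center P) (z : P) :
    (commWith hc z).range ≤ commutator P := by
  rintro _ ⟨x, rfl⟩
  exact commElt_mem x z

/-- the centralizer of a non-central element has index `p` -/
theorem GE.index_ker_commWith [Finite P] [hp : Fact p.Prime] (h : GE p P)
    (hc : ∀ a b : P, ⁅a, b⁆ ∈ Subgroup.center P) (z : P)
    (hz : ∃ x : P, x * z ≠ z * x) : (commWith hc z).ker.index = p := by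
  rw [Subgroup.index_ker]
  have hle := range_commWith_le hc z
  have hd : Nat.card (commWith hc z).range ∣ Nat.card (commutator P) :=
    Subgroup.card_dvd_of_le hle
  rw [h.hcard] at hd
  rcases (Nat.dvd_prime hp.out).mp hd with h1 | h1
  · exfalso
    obtain ⟨x, hx⟩ := hz
    apply hx
    rw [← mem_ker_commWith hc]
    have hb : (commWith hc z).range = ⊥ := Subgroup.card_eq_one.mp h1
    rw [MonoidHom.range_eq_bot_iff] at hb
    rw [hb, MonoidHom.mem_ker]
    rfl
  · exact h1

end Cfsg.Agent.H9GE
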