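import Mathlib
import Cfsg.Prelude

set_option autoImplicit false

/-!
# Complements in elementary abelian sections
-/

namespace Cfsg.Agent.H9GE

open scoped commutatorElement

variable {V : Type*} [Group V]

/-- a subgroup containing all commutators is normal -/
theorem normal_of_comm_le {N B : Subgroup V} (hcomm : ∀ a b : V, ⁅a, b⁆ ∈ N) (hNB : N ≤ B) :
    B.Normal := by
  constructor
  intro b hb g
  have h1 : g * b * g⁻¹ = ⁅g, b⁆ * b := by
    rw [commutatorElement_def]; group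
  rw [h1]
  exact B.mul_mem (hNB (hcomm g b)) hb

/-- **Complements modulo `N`** when `V / N` is elementary abelian. -/
theorem exists_compl [Finite V] {p : ℕ} [hp : Fact p.Prime] (N U : Subgroup V)
    (hpow : ∀ v : V, v ^ p ∈ N) (hcomm : ∀ a b : V, ⁅a, b⁆ ∈ N) :
    ∃ B : Subgroup V, N ≤ B ∧ B ⊓ U ≤ N ∧ B ⊔ U = ⊤ := by
  classical
  obtain ⟨B, -, hB⟩ := Finite.exists_le_maximal (p := fun B : Subgroup V => N ≤ B ∧ B ⊓ U ≤ N)
    (a := N) ⟨le_rfl, inf_le_left⟩
  obtain ⟨⟨hNB, hBU⟩, hmax⟩ := hB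
  refine ⟨B, hNB, hBU, ?_⟩
  by_contra htop
  obtain ⟨w, hw⟩ : ∃ w : V, w ∉ B ⊔ U := by
    by_contra hno
    push Not at hno
    exact htop (eq_top_iff.mpr fun x _ => hno x)
  haveI hBn : B.Normal := normal_of_comm_le hcomm hNB
  have hmem : N ≤ B ⊔ Subgroup.zpowers w ∧ (B ⊔ Subgroup.zpowers w) ⊓ U ≤ N := by
    refine ⟨hNB.trans le_sup_left, ?_⟩
    intro x hx
    obtain ⟨hx1, hx2⟩ := Subgroup.mem_inf.mp hx
    rw [Subgroup.mem_sup_of_normal_left] at hx1
    obtain ⟨b, hb, z, hz, rfl⟩ := hx1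
    obtain ⟨k, rfl⟩ := Subgroup.mem_zpowers_iff.mp hz
    by_cases hk : (p : ℤ) ∣ k
    · obtain ⟨m, rfl⟩ := hk
      have h1 : w ^ ((p : ℤ) * m) ∈ N := by
        rw [zpow_mul, zpow_natCast]
        exact N.zpow_mem (hpow w) m
      apply hBU
      exact ⟨B.mul_mem hb (hNB h1), hx2⟩
    · exfalso
      apply hw
      have hcop : IsCoprime k (p : ℤ) := by
        rw [isCoprime_comm]
        exact (Nat.prime_iff_prime_int.mp hp.out).coprime_iff_not_dvd.mpr hk
      obtain ⟨a, c, hac⟩ := hcop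
      have h1 : w = (w ^ k) ^ a * (w ^ p) ^ c := by
        rw [← zpow_natCast w p, ← zpow_mul, ← zpow_mul, ← zpow_add, mul_comm k a, mul_comm (p : ℤ) c,
          hac, zpow_one]
      have h2 : w ^ k ∈ B ⊔ U := by
        have h3 : w ^ k = b⁻¹ * (b * w ^ k) := by group
        rw [h3]
        exact Subgroup.mul_mem _ (Subgroup.inv_mem _ (Subgroup.mem_sup_left hb))
          (Subgroup.mem_sup_right hx2)
      rw [h1]
      exact Subgroup.mul_mem _ (Subgroup.zpow_mem _ h2 a)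
        (Subgroup.zpow_mem _ (Subgroup.mem_sup_left (hNB (hpow w))) c)
  have h1 : B ⊔ Subgroup.zpowers w ≤ B := hmax hmem le_sup_left
  apply hw
  exact Subgroup.mem_sup_left (h1 (Subgroup.mem_sup_right (Subgroup.mem_zpowers w)))

end Cfsg.Agent.H9GE
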