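import Mathlib
import Cfsg.Prelude
import Cfsg.Agent.Lib.Helper9.GenExtra1
import Cfsg.Agent.Lib.Helper9.GenExtra2
import Cfsg.Agent.Lib.Lead.ClassTwo

set_option autoImplicit false

/-!
# Generalised extraspecial `p`-groups with an elementary abelian subgroup of index `p`
-/

namespace Cfsg.Agent.H9GE

open Cfsg
open scoped commutatorElement

variable {P : Type*} [Group P] {p : ℕ}

/-- an elementary abelian subgroup of index `p` -/
structure MaxAb (p : ℕ) (P : Type*) [Group P] (C : Subgroup P) : Prop where
  hidx : C.index = p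
  hab : ∀ a ∈ C, ∀ b ∈ C, a * b = b * a
  hexp : ∀ a ∈ C, a ^ p = 1

theorem eq_top_of_index_prime [hp : Fact p.Prime] {C K : Subgroup P} (hidx : C.index = p)
    (hCK : C ≤ K) {w : P} (hwK : w ∈ K) (hwC : w ∉ C) : K = ⊤ := by
  have hco : IsCoatom C := Cfsg.Agent.Lib.Lead.isCoatom_of_index_prime (by rw [hidx]; exact hp.out)
  exact hco.2 K (lt_of_le_of_ne hCK (fun h => hwC (h ▸ hwK)))

namespace MaxAb

variable [Finite P] [hp : Fact p.Prime] {C : Subgroup P}

theorem exists_not_mem (hC : MaxAb p P C) : ∃ y : P, y ∉ C := by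
  by_contra hno
  push Not at hno
  have h1 : C = ⊤ := eq_top_iff.mpr fun x _ => hno x
  have h2 := hC.hidx
  rw [h1, Subgroup.index_top] at h2
  exact hp.out.one_lt.ne h2

/-- an element commuting with `C` and with an element outside `C` is central -/
theorem central_of_comm (hC : MaxAb p P C) {v y : P} (hy : y ∉ C) (hvC : ∀ c ∈ C, c * v = v * c)
    (hvy : y * v = v * y) : v ∈ Subgroup.center P := by
  have h1 : Subgroup.centralizer ({v} : Set P) = ⊤ := by
    apply eq_top_of_index_prime hC.hidx (w := y) _ _ hy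
    · intro c hc
      rw [Subgroup.mem_centralizer_iff]
      intro h hh
      rw [Set.mem_singleton_iff] at hh
      rw [hh]
      exact (hvC c hc).symm
    · rw [Subgroup.mem_centralizer_iff]
      intro h hh
      rw [Set.mem_singleton_iff] at hh
      rw [hh]
      exact hvy.symm
  rw [Subgroup.mem_center_iff]
  intro g
  have h2 : g ∈ Subgroup.centralizer ({v} : Set P) := by rw [h1]; exact Subgroup.mem_top g
  rw [Subgroup.mem_centralizer_iff] at h2
  exact (h2 v rfl).symm

theorem center_le (h : GE p P) (hC : MaxAb p P C) : Subgroup.center P ≤ C := by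
  intro w hw
  by_contra hwC
  have hwc : ∀ g : P, g * w = w * g := Subgroup.mem_center_iff.mp hw
  have hCZ : C ≤ Subgroup.center P := by
    intro c hc
    exact hC.central_of_comm hwC (fun c' hc' => hC.hab c' hc' c hc) ((hwc c).symm)
  have htop : Subgroup.center P = ⊤ := eq_top_of_index_prime hC.hidx hCZ hw hwC
  obtain ⟨a, b, hab⟩ := h.not_comm
  apply hab
  have ha : a ∈ Subgroup.center P := by rw [htop]; exact Subgroup.mem_top a
  exact ((Subgroup.mem_center_iff.mp ha) b).symm

theorem exists_not_comm (h : GE p P) (hC : MaxAb p P C) {y : P} (hy : y ∉ C) :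
    ∃ c ∈ C, c * y ≠ y * c := by
  by_contra hno
  push Not at hno
  apply hy
  apply hC.center_le h
  exact hC.central_of_comm hy hno rfl

theorem mem_center_iff (hC : MaxAb p P C) {y : P} (hy : y ∉ C) {v : P} (hv : v ∈ C) :
    v ∈ Subgroup.center P ↔ v * y = y * v := by
  constructor
  · intro h
    exact ((Subgroup.mem_center_iff.mp h) y).symm
  · intro h
    exact hC.central_of_comm hy (fun c hc => hC.hab c hc v hv) h.symm

/-- the centre has index `p²` -/
theorem index_center (h : GE p P) (hC : MaxAb p P C) : (Subgroup.center P).index = p * p := by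
  obtain ⟨y, hy⟩ := hC.exists_not_mem
  obtain ⟨c, hc, hcy⟩ := hC.exists_not_comm h hy
  have hcc := h.commElt_center
  obtain ⟨δ, hδdef⟩ : ∃ δ : C →* P, δ = (commWith hcc y).comp C.subtype := ⟨_, rfl⟩
  have hδapp : ∀ v : C, δ v = ⁅(v : P), y⁆ := by
    intro v; rw [hδdef]; rfl
  have hker : δ.ker = (Subgroup.center P).subgroupOf C := by
    ext v
    rw [MonoidHom.mem_ker, hδapp, commutatorElement_eq_one_iff_mul_comm, Subgroup.mem_subgroupOf,
      hC.mem_center_iff hy v.2]
  have hrange : Nat.card δ.range = p := by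
    have hle : δ.range ≤ commutator P := by
      rintro _ ⟨v, rfl⟩
      rw [hδapp]
      exact commElt_mem _ _
    have hd : Nat.card δ.range ∣ Nat.card (commutator P) := Subgroup.card_dvd_of_le hle
    rw [h.hcard] at hd
    rcases (Nat.dvd_prime hp.out).mp hd with h1 | h1
    · exfalso
      apply hcy
      have hb : δ.range = ⊥ := Subgroup.card_eq_one.mp h1
      have h2 : δ ⟨c, hc⟩ ∈ δ.range := ⟨_, rfl⟩
      rw [hb, Subgroup.mem_bot, hδapp, commutatorElement_eq_one_iff_mul_comm] at h2
      exact h2
    · exact h1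
  have hrel : (Subgroup.center P).relIndex C = p := by
    show ((Subgroup.center P).subgroupOf C).index = p
    rw [← hker, Subgroup.index_ker, hrange]
  rw [← Subgroup.relIndex_mul_index (hC.center_le h), hrel, hC.hidx]

/-- **Structure**: `P = B × A` with `A` central elementary abelian and `B` of order `p³`. -/
theorem decomposition (h : GE p P) (hC : MaxAb p P C) :
    ∃ B A : Subgroup P, A ≤ Subgroup.center P ∧ (∀ a ∈ A, a ^ p = 1) ∧ Nat.card B = p ^ 3 ∧
      (∀ x : P, ∃ b ∈ B, ∃ a ∈ A, x = b * a) ∧ B ⊓ A = ⊥ := by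
  classical
  have hZC := hC.center_le h
  -- the complement of the commutator subgroup in the centre
  obtain ⟨A₀, -, hA₀U, hA₀top⟩ := exists_compl (p := p) (⊥ : Subgroup (Subgroup.center P))
    ((commutator P).subgroupOf (Subgroup.center P))
    (by
      intro v
      rw [Subgroup.mem_bot]
      apply Subtype.ext
      exact hC.hexp _ (hZC v.2))
    (by
      intro a b
      rw [Subgroup.mem_bot, commutatorElement_eq_one_iff_mul_comm]
      apply Subtype.ext
      show (a : P) * (b : P) = (b : P) * (a : P)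
      exact ((Subgroup.mem_center_iff.mp b.2) a))
  -- the complement of the centre
  obtain ⟨B, hNB, hBZ, hBtop⟩ := exists_compl (p := p) (commutator P) (Subgroup.center P)
    h.pow_mem commElt_mem
  refine ⟨B, A₀.map (Subgroup.center P).subtype, ?_, ?_, ?_, ?_, ?_⟩
  · rintro _ ⟨a, -, rfl⟩
    exact a.2
  · rintro _ ⟨a, -, rfl⟩
    exact hC.hexp _ (hZC a.2)
  · -- the order of `B`
    have h1 : B ⊓ Subgroup.center P = commutator P :=
      le_antisymm hBZ (le_inf hNB h.le_center)
    have h2 : (commutator P).relIndex B = p * p := by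
      rw [← h1, Subgroup.inf_relIndex_left, ← Subgroup.relIndex_sup_right (K := Subgroup.center P),
        hBtop, Subgroup.relIndex_top_right, hC.index_center h]
    have h3 := Subgroup.relIndex_mul_relIndex (⊥ : Subgroup P) (commutator P) B bot_le hNB
    rw [Subgroup.relIndex_bot_left, Subgroup.relIndex_bot_left, h.hcard, h2] at h3
    rw [← h3]; ring
  · intro x
    have hx : x ∈ B ⊔ Subgroup.center P := by rw [hBtop]; exact Subgroup.mem_top x
    rw [Subgroup.mem_sup_of_normal_right] at hx
    obtain ⟨b, hb, z, hz, rfl⟩ := hx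
    have hz' : (⟨z, hz⟩ : Subgroup.center P) ∈ A₀ ⊔ (commutator P).subgroupOf (Subgroup.center P) := by
      rw [hA₀top]; exact Subgroup.mem_top _
    have : ((commutator P).subgroupOf (Subgroup.center P)).Normal := by
      constructor
      intro n hn g
      have : g * n * g⁻¹ = n := by
        apply Subtype.ext
        show (g : P) * n * (g : P)⁻¹ = n
        rw [(Subgroup.mem_center_iff.mp n.2) g, mul_inv_cancel_right]
      rw [this]; exact hn
    rw [Subgroup.mem_sup_of_normal_right] at hz'
    obtain ⟨a, ha, n, hn, han⟩ := hz'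
    have han' : (a : P) * (n : P) = z := congrArg Subtype.val han
    refine ⟨b * n, B.mul_mem hb (hNB (Subgroup.mem_subgroupOf.mp hn)), a, ⟨a, ha, rfl⟩, ?_⟩
    rw [← han']
    show b * ((a : P) * n) = b * n * a
    rw [← (Subgroup.mem_center_iff.mp a.2) n, mul_assoc]
  · rw [eq_bot_iff]
    rintro x ⟨hxB, a, ha, rfl⟩
    have h1 : ((a : P)) ∈ commutator P := hBZ ⟨hxB, a.2⟩
    have h2 : a ∈ A₀ ⊓ (commutator P).subgroupOf (Subgroup.center P) :=
      ⟨ha, Subgroup.mem_subgroupOf.mpr h1⟩
    have h3 := hA₀U h2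
    rw [Subgroup.mem_bot] at h3
    rw [Subgroup.mem_bot]
    show ((a : Subgroup.center P) : P) = 1
    rw [h3]; rfl

end MaxAb

end Cfsg.Agent.H9GE
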