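import Mathlib
import Cfsg.Prelude
import Cfsg.Agent.Lib.Helper9.MetaSC1

set_option autoImplicit false

/-!
# Two transvections on a commutative `p`-group

Either they generate a `p`-group, or the group they generate contains an element inverting the
centre of the first one and commuting with it.
-/

namespace Cfsg.Agent.H9GE

open Cfsg.Agent.Lib.Helper9 Cfsg.Agent.H9MSC

variable {W : Type*} [Group W]

/-- the chain `1 ≤ Z ≤ M ≤ W` -/
def chain3 (Z M : Subgroup W) : ℕ → Subgroup W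
  | 0 => ⊥
  | 1 => Z
  | 2 => M
  | _ => ⊤

theorem chain3_mono {Z M : Subgroup W} (h : Z ≤ M) : Monotone (chain3 Z M) := by
  apply monotone_nat_of_le_succ
  intro n
  rcases n with _ | _ | _ | n
  · exact bot_le
  · exact h
  · exact le_top
  · exact le_rfl

/-- the degenerate case: the first transvection fixes the centre of the second one -/
theorem transvection_degenerate [Finite W] {p : ℕ} [hp : Fact p.Prime]
    (hcomm : ∀ x y : W, x * y = y * x) (hW : IsPGroup p W) (u₁ u₂ : MulAut W) (Z₁ Z₂ : Subgroup W)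
    (h1 : ∀ w, w⁻¹ * u₁ w ∈ Z₁) (h2 : ∀ w, w⁻¹ * u₂ w ∈ Z₂)
    (f1 : ∀ w ∈ Z₁, u₁ w = w) (f2 : ∀ w ∈ Z₂, u₂ w = w) (hA : ∀ w ∈ Z₂, u₁ w = w) :
    ∀ g ∈ Subgroup.closure ({u₁, u₂} : Set (MulAut W)), ∃ k : ℕ, g ^ p ^ k = 1 := by
  obtain ⟨M, hMdef⟩ : ∃ M : Subgroup W, M = Z₂.comap (deltaHom hcomm u₁) := ⟨_, rfl⟩
  have hmemM : ∀ w : W, w ∈ M ↔ w⁻¹ * u₁ w ∈ Z₂ := by
    intro w
    rw [hMdef, Subgroup.mem_comap, deltaHom_apply]
  have hZM : Z₂ ≤ M := by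
    intro w hw
    rw [hmemM, hA w hw, inv_mul_cancel]
    exact Z₂.one_mem
  have hmono := chain3_mono hZM
  have hs1 : StabChain (chain3 Z₂ M) u₁ := by
    intro i x hx
    rcases i with _ | _ | _ | i
    · show x⁻¹ * u₁ x ∈ (⊥ : Subgroup W)
      rw [hA x hx, inv_mul_cancel]
      exact Subgroup.one_mem _
    · exact (hmemM x).mp hx
    · show x⁻¹ * u₁ x ∈ M
      rw [hmemM, f1 _ (h1 x), inv_mul_cancel]
      exact Z₂.one_mem
    · exact Subgroup.mem_top _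
  have hs2 : StabChain (chain3 Z₂ M) u₂ := by
    intro i x hx
    rcases i with _ | _ | _ | i
    · show x⁻¹ * u₂ x ∈ (⊥ : Subgroup W)
      rw [f2 x hx, inv_mul_cancel]
      exact Subgroup.one_mem _
    · exact h2 x
    · exact hZM (h2 x)
    · exact Subgroup.mem_top _
  have hle : Subgroup.closure ({u₁, u₂} : Set (MulAut W)) ≤ chainStabilizer (chain3 Z₂ M) hmono rfl := by
    rw [Subgroup.closure_le]
    rintro x hx
    rcases hx with rfl | hx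
    · exact hs1
    · rw [Set.mem_singleton_iff] at hx
      rw [hx]; exact hs2
  intro g hg
  exact stabChain_pow_eq_one p hW hmono rfl 3 rfl (hle hg)

/-- **Two transvections.** -/
theorem transvection_pair [Finite W] {p : ℕ} [hp : Fact p.Prime]
    (hcomm : ∀ x y : W, x * y = y * x) (hW : IsPGroup p W) (u₁ u₂ : MulAut W) (Z₁ Z₂ : Subgroup W)
    (hZ₁ : Nat.card Z₁ = p) (hZ₂ : Nat.card Z₂ = p)
    (h1 : ∀ w, w⁻¹ * u₁ w ∈ Z₁) (h2 : ∀ w, w⁻¹ * u₂ w ∈ Z₂)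
    (f1 : ∀ w ∈ Z₁, u₁ w = w) (f2 : ∀ w ∈ Z₂, u₂ w = w) :
    (∀ g ∈ Subgroup.closure ({u₁, u₂} : Set (MulAut W)), ∃ k : ℕ, g ^ p ^ k = 1) ∨
    (∃ ν ∈ Subgroup.closure ({u₁, u₂} : Set (MulAut W)), (∀ w ∈ Z₁, ν w = w⁻¹) ∧
      ν * u₁ = u₁ * ν) := by
  classical
  by_cases hA : ∀ w ∈ Z₂, u₁ w = w
  · left
    exact transvection_degenerate hcomm hW u₁ u₂ Z₁ Z₂ h1 h2 f1 f2 hA
  by_cases hB : ∀ w ∈ Z₁, u₂ w = w
  · left
    rw [Set.pair_comm]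
    exact transvection_degenerate hcomm hW u₂ u₁ Z₂ Z₁ h2 h1 f2 f1 hB
  right
  push Not at hA hB
  obtain ⟨b, hbZ, hb⟩ := hA
  obtain ⟨a, ha_def⟩ : ∃ a : W, a = b⁻¹ * u₁ b := ⟨_, rfl⟩
  have haZ : a ∈ Z₁ := by rw [ha_def]; exact h1 b
  have ha1 : a ≠ 1 := by
    intro h
    apply hb
    rw [ha_def] at h
    exact (inv_mul_eq_one.mp h).symm
  have hu1a : u₁ a = a := f1 a haZ
  have hu1b : u₁ b = b * a := by rw [ha_def]; group
  have hu2b : u₂ b = b := f2 b hbZ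
  have hb1 : b ≠ 1 := by
    intro h
    apply hb
    rw [h, map_one]
  have hZ₁pow : ∀ w ∈ Z₁, ∃ k : ℕ, a ^ k = w := by
    intro w hw
    have := mem_zpowers_of_prime_card_sub hZ₁ haZ ha1 hw
    rw [← mem_powers_iff_mem_zpowers] at this
    exact this
  have hu2a : u₂ a ≠ a := by
    intro h
    obtain ⟨w, hwZ, hw⟩ := hB
    apply hw
    obtain ⟨k, rfl⟩ := hZ₁pow w hwZ
    rw [map_pow, h]
  obtain ⟨c, hc_def⟩ : ∃ c : W, c = a⁻¹ * u₂ a := ⟨_, rfl⟩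
  have hcZ : c ∈ Z₂ := by rw [hc_def]; exact h2 a
  have hc1 : c ≠ 1 := by
    intro h
    apply hu2a
    rw [hc_def] at h
    exact (inv_mul_eq_one.mp h).symm
  have hu2a' : u₂ a = a * c := by rw [hc_def]; group
  have hu2c : u₂ c = c := f2 c hcZ
  have hZ₂pow : ∀ w ∈ Z₂, ∃ k : ℕ, c ^ k = w := by
    intro w hw
    have := mem_zpowers_of_prime_card_sub hZ₂ hcZ hc1 hw
    rw [← mem_powers_iff_mem_zpowers] at this
    exact this
  obtain ⟨m, hm⟩ := hZ₂pow b⁻¹ (Z₂.inv_mem hbZ)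
  obtain ⟨v, hv_def⟩ : ∃ v : MulAut W, v = u₂ ^ m := ⟨_, rfl⟩
  have hva : v a = a * b⁻¹ := by
    rw [hv_def, Cfsg.Agent.H9CS.pow_apply_of_triv u₂ a c hu2a' hu2c m, hm]
  have hvb : v b = b := by rw [hv_def]; exact aut_pow_fix' u₂ hu2b m
  obtain ⟨w, hw_def⟩ : ∃ w : MulAut W, w = u₁ * v * u₁ := ⟨_, rfl⟩
  have hwa : w a = b⁻¹ := by
    rw [hw_def]
    show u₁ (v (u₁ a)) = b⁻¹
    rw [hu1a, hva, map_mul, map_inv, hu1a, hu1b, mul_inv_rev, ← mul_assoc, mul_inv_cancel, one_mul]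
  have hwb : w b = a := by
    rw [hw_def]
    show u₁ (v (u₁ b)) = a
    rw [hu1b, map_mul, hvb, hva, hcomm a b⁻¹, mul_inv_cancel_left, hu1a]
  have hνa : (w * w) a = a⁻¹ := by
    show w (w a) = a⁻¹
    rw [hwa, map_inv, hwb]
  have hνb : (w * w) b = b⁻¹ := by
    show w (w b) = b⁻¹
    rw [hwb, hwa]
  have hu1mem : u₁ ∈ Subgroup.closure ({u₁, u₂} : Set (MulAut W)) :=
    Subgroup.subset_closure (by simp)
  have hu2mem : u₂ ∈ Subgroup.closure ({u₁, u₂} : Set (MulAut W)) :=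
    Subgroup.subset_closure (by simp)
  have hwmem : w ∈ Subgroup.closure ({u₁, u₂} : Set (MulAut W)) := by
    rw [hw_def, hv_def]
    exact Subgroup.mul_mem _ (Subgroup.mul_mem _ hu1mem (Subgroup.pow_mem _ hu2mem m)) hu1mem
  -- common fixed points
  have hwfix : ∀ r : W, u₁ r = r → u₂ r = r → w r = r := by
    intro r hr1 hr2
    rw [hw_def, hv_def]
    show u₁ ((u₂ ^ m) (u₁ r)) = r
    rw [hr1, aut_pow_fix' u₂ hr2 m, hr1]
  -- the decomposition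
  have hdec : ∀ r : W, ∃ r₂ : W, ∃ i j : ℕ, u₁ r₂ = r₂ ∧ u₂ r₂ = r₂ ∧ r = r₂ * a ^ i * b ^ j := by
    intro r
    obtain ⟨j, hj⟩ := hZ₁pow _ (h1 r)
    obtain ⟨r₁, hr₁def⟩ : ∃ r₁ : W, r₁ = r * (b ^ j)⁻¹ := ⟨_, rfl⟩
    have hu1r : u₁ r = r * a ^ j := by rw [hj]; group
    have hbaj : (b * a) ^ j = b ^ j * a ^ j := (show Commute b a from hcomm b a).mul_pow j
    have hu1r₁ : u₁ r₁ = r₁ := by
      rw [hr₁def, map_mul, map_inv, map_pow, hu1b, hu1r, hbaj]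
      group
    obtain ⟨i, hi⟩ := hZ₂pow _ (h2 r₁)
    obtain ⟨r₂, hr₂def⟩ : ∃ r₂ : W, r₂ = r₁ * (a ^ i)⁻¹ := ⟨_, rfl⟩
    have hu2r₁ : u₂ r₁ = r₁ * c ^ i := by rw [hi]; group
    have haci : (a * c) ^ i = a ^ i * c ^ i := (show Commute a c from hcomm a c).mul_pow i
    have hu2r₂ : u₂ r₂ = r₂ := by
      rw [hr₂def, map_mul, map_inv, map_pow, hu2a', hu2r₁, haci]
      group
    have hu1r₂ : u₁ r₂ = r₂ := by
      rw [hr₂def, map_mul, map_inv, map_pow, hu1a, hu1r₁]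
    refine ⟨r₂, i, j, hu1r₂, hu2r₂, ?_⟩
    rw [hr₂def, hr₁def]
    group
  -- the subgroup where `ν u₁ = u₁ ν`
  obtain ⟨D, hDdef⟩ : ∃ D : Subgroup W, D = MonoidHom.eqLocus ((w * w) * u₁).toMonoidHom
    (u₁ * (w * w)).toMonoidHom := ⟨_, rfl⟩
  have hmemD : ∀ r : W, r ∈ D ↔ (w * w) (u₁ r) = u₁ ((w * w) r) := by
    intro r; rw [hDdef]; rfl
  have haD : a ∈ D := by
    rw [hmemD, hu1a, hνa, map_inv, hu1a]
  have hbD : b ∈ D := by
    rw [hmemD, hu1b, map_mul, hνa, hνb, map_inv, hu1b, mul_inv_rev, hcomm]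
  have hDtop : ∀ r : W, r ∈ D := by
    intro r
    obtain ⟨r₂, i, j, hr1, hr2, rfl⟩ := hdec r
    have hr₂D : r₂ ∈ D := by
      rw [hmemD, hr1]
      show w (w r₂) = u₁ (w (w r₂))
      rw [hwfix r₂ hr1 hr2, hwfix r₂ hr1 hr2, hr1]
    exact D.mul_mem (D.mul_mem hr₂D (D.pow_mem haD i)) (D.pow_mem hbD j)
  refine ⟨w * w, Subgroup.mul_mem _ hwmem hwmem, ?_, ?_⟩
  · intro x hx
    obtain ⟨k, rfl⟩ := hZ₁pow x hx
    rw [map_pow, hνa, inv_pow]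
  · ext r
    exact (hmemD r).mp (hDtop r)

end Cfsg.Agent.H9GE
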