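import Mathlib
import Cfsg.Prelude
import Cfsg.Agent.Lib.Lead.MetacyclicOmega
import Cfsg.Agent.Lib.Helper9.MetaSC1

set_option autoImplicit false

/-!
# `Ω₁` of a metacyclic `p`-group, `p` odd
-/

namespace Cfsg.Agent.H9MSC

open Cfsg

section omega

variable {G : Type*} [Group G] [Finite G] {p : ℕ} [hp : Fact p.Prime]

theorem omega_facts_cyclic (hG : IsPGroup p G) [IsCyclic G] :
    (∀ x ∈ Cfsg.omegaOne p (⊤ : Subgroup G), x ^ p = 1) ∧
      Nat.card (Cfsg.omegaOne p (⊤ : Subgroup G)) ∣ p ^ 2 := by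
  classical
  have hexp : ∀ x ∈ Cfsg.omegaOne p (⊤ : Subgroup G), x ^ p = 1 := by
    letI := IsCyclic.commGroup (α := G)
    have hle : Cfsg.omegaOne p (⊤ : Subgroup G) ≤ (powMonoidHom p : G →* G).ker := by
      unfold Cfsg.omegaOne
      rw [Subgroup.closure_le]
      intro x hx
      exact hx.2
    intro x hx
    exact hle hx
  refine ⟨hexp, ?_⟩
  haveI : Fintype G := Fintype.ofFinite G
  have h1 := IsCyclic.card_pow_eq_one_le (α := G) (n := p) hp.out.pos
  have h2 : Nat.card (Cfsg.omegaOne p (⊤ : Subgroup G)) ≤ Nat.card {x : G // x ^ p = 1} :=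
    Nat.card_le_card_of_injective
      (fun w : Cfsg.omegaOne p (⊤ : Subgroup G) => (⟨w.1, hexp w.1 w.2⟩ : {x : G // x ^ p = 1}))
      (by
        intro a b hab
        apply Subtype.ext
        exact congrArg (fun z : {x : G // x ^ p = 1} => z.1) hab)
  rw [Nat.card_eq_fintype_card (α := {x : G // x ^ p = 1}), Fintype.card_subtype] at h2
  have h3 : Nat.card (Cfsg.omegaOne p (⊤ : Subgroup G)) ≤ p := le_trans h2 h1
  obtain ⟨i, hi⟩ := IsPGroup.iff_card.mp (hG.to_subgroup (Cfsg.omegaOne p (⊤ : Subgroup G)))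
  rw [hi] at h3 ⊢
  have hi1 : i ≤ 1 := by
    by_contra hlt
    have h4 : p ^ 2 ≤ p ^ i := Nat.pow_le_pow_right hp.out.pos (by omega)
    have h5 : p < p ^ 2 := by
      have := hp.out.one_lt
      nlinarith
    omega
  exact pow_dvd_pow p (by omega)

/-- **`Ω₁` of a metacyclic `p`-group, `p` odd**: commutative of exponent `p` and order dividing `p²`. -/
theorem omega_facts (hp2 : p ≠ 2) (hG : IsPGroup p G) (hm : Cfsg.IsMetacyclic G) :
    (∀ x ∈ Cfsg.omegaOne p (⊤ : Subgroup G), ∀ y ∈ Cfsg.omegaOne p (⊤ : Subgroup G), x * y = y * x) ∧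
    (∀ x ∈ Cfsg.omegaOne p (⊤ : Subgroup G), x ^ p = 1) ∧
      Nat.card (Cfsg.omegaOne p (⊤ : Subgroup G)) ∣ p ^ 2 := by
  by_cases hc : IsCyclic G
  · obtain ⟨h1, h2⟩ := omega_facts_cyclic hG
    refine ⟨?_, h1, h2⟩
    intro x _ y _
    exact (IsCyclic.isMulCommutative (α := G)).is_comm.comm x y
  · obtain ⟨⟨hcomm, hexp⟩, hcard⟩ := Cfsg.Agent.Lib.Lead.omegaOne_of_metacyclic hp2 hG hm hc
    refine ⟨?_, hexp, ?_⟩
    · intro x hx y hy
      have := hcomm.is_comm.comm (⟨x, hx⟩ : Cfsg.omegaOne p (⊤ : Subgroup G)) ⟨y, hy⟩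
      exact congrArg Subtype.val this
    · rw [hcard]

end omega

section sub

variable {E : Type*} [Group E] {p : ℕ}

theorem omegaOne_le (R : Subgroup E) : Cfsg.omegaOne p R ≤ R := by
  unfold Cfsg.omegaOne
  rw [Subgroup.closure_le]
  intro x hx
  exact hx.1

theorem mem_omegaOne_of_pow {R : Subgroup E} {x : E} (hx : x ∈ R) (hxp : x ^ p = 1) :
    x ∈ Cfsg.omegaOne p R :=
  Subgroup.subset_closure ⟨hx, hxp⟩

theorem omegaOne_map_subtype (R : Subgroup E) :
    (Cfsg.omegaOne p (⊤ : Subgroup R)).map R.subtype = Cfsg.omegaOne p R := by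
  unfold Cfsg.omegaOne
  rw [MonoidHom.map_closure]
  congr 1
  ext y
  constructor
  · rintro ⟨x, ⟨-, hx⟩, rfl⟩
    refine ⟨x.2, ?_⟩
    have := congrArg Subtype.val hx
    simpa using this
  · rintro ⟨hyR, hyp⟩
    refine ⟨⟨y, hyR⟩, ⟨Subgroup.mem_top _, ?_⟩, rfl⟩
    apply Subtype.ext
    simpa using hyp

theorem omegaOne_invariant (α : MulAut E) (R : Subgroup E) (hα : ∀ x ∈ R, α x ∈ R) :
    ∀ w ∈ Cfsg.omegaOne p R, α w ∈ Cfsg.omegaOne p R := by
  intro w hw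
  have h : (Cfsg.omegaOne p R).map α.toMonoidHom ≤ Cfsg.omegaOne p R := by
    unfold Cfsg.omegaOne
    rw [MonoidHom.map_closure, Subgroup.closure_le]
    rintro _ ⟨x, ⟨hxR, hxp⟩, rfl⟩
    apply Subgroup.subset_closure
    refine ⟨hα x hxR, ?_⟩
    show (α x) ^ p = 1
    rw [← map_pow, hxp, map_one]
  exact h ⟨w, hw, rfl⟩

/-- `Ω₁` of a metacyclic `p`-subgroup, `p` odd -/
theorem omega_sub_facts [Finite E] [hp : Fact p.Prime] (hp2 : p ≠ 2) (R : Subgroup E)
    (hR : IsPGroup p R) (hm : Cfsg.IsMetacyclic ↥R) :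
    (∀ x y : ↥(Cfsg.omegaOne p R), x * y = y * x) ∧
    (∀ x ∈ Cfsg.omegaOne p R, x ^ p = 1) ∧ Nat.card (Cfsg.omegaOne p R) ∣ p ^ 2 := by
  obtain ⟨h1, h2, h3⟩ := omega_facts hp2 hR hm
  have hmap := omegaOne_map_subtype (p := p) R
  refine ⟨?_, ?_, ?_⟩
  · rintro ⟨x, hx⟩ ⟨y, hy⟩
    apply Subtype.ext
    show x * y = y * x
    rw [← hmap] at hx hy
    obtain ⟨x', hx', rfl⟩ := hx
    obtain ⟨y', hy', rfl⟩ := hy
    have := h1 x' hx' y' hy'
    exact congrArg Subtype.val this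
  · intro x hx
    rw [← hmap] at hx
    obtain ⟨x', hx', rfl⟩ := hx
    have := h2 x' hx'
    have h4 := congrArg Subtype.val this
    simpa using h4
  · rw [← hmap, Subgroup.card_map_of_injective R.subtype_injective]
    exact h3

end sub

end Cfsg.Agent.H9MSC
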