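import Mathlib
import Cfsg.Prelude
import Cfsg.Agent.Lib.Helper4.AutCrit3
import Cfsg.Agent.Lib.Helper9.MetaSC2

set_option autoImplicit false

/-!
# A group acting on a `p`-group with an invariant metacyclic subgroup
-/

namespace Cfsg.Agent.H9MSC

open Cfsg Cfsg.Agent.Lib.Helper9

section act

variable {B E : Type*} [Group B] [Group E] (ρ : B →* MulAut E)

/-- restriction of an action to an invariant subgroup -/
def resAct (W : Subgroup E) (hW : ∀ g : B, ∀ w ∈ W, ρ g w ∈ W) : B →* MulAut W where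
  toFun g :=
    { toFun := fun w => ⟨ρ g w, hW g w w.2⟩
      invFun := fun w => ⟨ρ g⁻¹ w, hW g⁻¹ w w.2⟩
      left_inv := by
        intro w
        apply Subtype.ext
        show ρ g⁻¹ (ρ g w) = w
        rw [map_inv]
        exact MulAut.inv_apply_self _ _ _
      right_inv := by
        intro w
        apply Subtype.ext
        show ρ g (ρ g⁻¹ w) = w
        rw [map_inv]
        exact MulAut.apply_inv_self _ _ _
      map_mul' := by
        intro a b
        apply Subtype.ext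
        show ρ g (a * b) = ρ g a * ρ g b
        exact map_mul _ _ _ }
  map_one' := by
    ext w
    show ρ 1 w = w
    rw [map_one]; rfl
  map_mul' := by
    intro g h
    ext w
    show ρ (g * h) w = ρ g (ρ h w)
    rw [map_mul]; rfl

theorem resAct_apply (W : Subgroup E) (hW : ∀ g : B, ∀ w ∈ W, ρ g w ∈ W) (g : B) (w : W) :
    ((resAct ρ W hW g w : W) : E) = ρ g w := rfl

/-- the elements acting trivially modulo `R` -/
def modStab (R : Subgroup E) (hR : ∀ g : B, ∀ x ∈ R, ρ g x ∈ R) : Subgroup B where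
  carrier := {g | ∀ e : E, e⁻¹ * ρ g e ∈ R}
  one_mem' := by
    intro e
    show e⁻¹ * ρ 1 e ∈ R
    rw [map_one, MulAut.one_apply, inv_mul_cancel]
    exact R.one_mem
  mul_mem' := by
    intro g h hg hh e
    have h1 : e⁻¹ * ρ g e ∈ R := hg e
    have h2 : ρ g (e⁻¹ * ρ h e) ∈ R := hR g _ (hh e)
    have h3 : e⁻¹ * ρ (g * h) e = (e⁻¹ * ρ g e) * ρ g (e⁻¹ * ρ h e) := by
      rw [map_mul, MulAut.mul_apply, map_mul, map_inv]; group
    show e⁻¹ * ρ (g * h) e ∈ R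
    rw [h3]
    exact R.mul_mem h1 h2
  inv_mem' := by
    intro g hg e
    have h1 : (ρ g⁻¹ e)⁻¹ * ρ g (ρ g⁻¹ e) ∈ R := hg (ρ g⁻¹ e)
    have h2 : ρ g (ρ g⁻¹ e) = e := by
      rw [map_inv]; exact MulAut.apply_inv_self _ _ _
    rw [h2] at h1
    have h3 := R.inv_mem h1
    rw [mul_inv_rev, inv_inv] at h3
    exact h3

theorem mem_modStab (R : Subgroup E) (hR : ∀ g : B, ∀ x ∈ R, ρ g x ∈ R) (g : B) :
    g ∈ modStab ρ R hR ↔ ∀ e : E, e⁻¹ * ρ g e ∈ R := Iff.rfl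

instance modStab_normal (R : Subgroup E) (hR : ∀ g : B, ∀ x ∈ R, ρ g x ∈ R) :
    (modStab ρ R hR).Normal := by
  constructor
  intro κ hκ g e
  have h1 : (ρ g⁻¹ e)⁻¹ * ρ κ (ρ g⁻¹ e) ∈ R := hκ (ρ g⁻¹ e)
  have h2 := hR g _ h1
  have h3 : ρ g ((ρ g⁻¹ e)⁻¹ * ρ κ (ρ g⁻¹ e)) = e⁻¹ * ρ (g * κ * g⁻¹) e := by
    rw [map_mul, map_inv, map_mul, map_mul, MulAut.mul_apply, MulAut.mul_apply]
    congr 2
    rw [map_inv]; exact MulAut.apply_inv_self _ _ _
  rw [h3] at h2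
  exact h2

/-- the pointwise fixer of a subgroup -/
def fixer (X : Subgroup E) : Subgroup B where
  carrier := {g | ∀ x ∈ X, ρ g x = x}
  one_mem' := by
    intro x _
    rw [map_one]; rfl
  mul_mem' := by
    intro g h hg hh x hx
    show ρ (g * h) x = x
    rw [map_mul, MulAut.mul_apply, hh x hx, hg x hx]
  inv_mem' := by
    intro g hg x hx
    show ρ g⁻¹ x = x
    rw [map_inv]
    have := hg x hx
    conv_lhs => rw [← this]
    exact MulAut.inv_apply_self _ _ _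

theorem mem_fixer (X : Subgroup E) (g : B) : g ∈ fixer ρ X ↔ ∀ x ∈ X, ρ g x = x := Iff.rfl

theorem fixer_normal (X : Subgroup E) (hX : ∀ g : B, ∀ x ∈ X, ρ g x ∈ X) : (fixer ρ X).Normal := by
  constructor
  intro κ hκ g x hx
  show ρ (g * κ * g⁻¹) x = x
  rw [map_mul, map_mul, MulAut.mul_apply, MulAut.mul_apply, hκ _ (hX g⁻¹ x hx), map_inv]
  exact MulAut.apply_inv_self _ _ _

end act

section pfacts

variable {B E : Type*} [Group B] [Group E] [Finite E] {p : ℕ} [hp : Fact p.Prime]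
  (ρ : B →* MulAut E)

/-- an element acting trivially on `R` and modulo `R` has `p`-power order -/
theorem pow_eq_one_of_modStab_fixer (hE : IsPGroup p E) (hρ : Function.Injective ρ)
    (R : Subgroup E) (hR : ∀ g : B, ∀ x ∈ R, ρ g x ∈ R) {g : B}
    (hg1 : g ∈ modStab ρ R hR) (hg2 : g ∈ fixer ρ R) : ∃ k : ℕ, g ^ p ^ k = 1 := by
  have hs : StabChain (chainL R) (ρ g) := stabChain_chainL R (ρ g) hg2 hg1
  obtain ⟨k, hk⟩ := stabChain_pow_eq_one p hE (chainL_mono R) rfl 2 rfl hs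
  refine ⟨k, hρ ?_⟩
  rw [map_pow, hk, map_one]

/-- an element acting trivially on `Ω₁(R)` and modulo `R` has `p`-power order (`p` odd) -/
theorem pow_eq_one_of_modStab_fixer_omega (hp2 : p ≠ 2) (hE : IsPGroup p E)
    (hρ : Function.Injective ρ) (R : Subgroup E) (hR : ∀ g : B, ∀ x ∈ R, ρ g x ∈ R) {g : B}
    (hg1 : g ∈ modStab ρ R hR) (hg2 : g ∈ fixer ρ (Cfsg.omegaOne p R)) :
    ∃ k : ℕ, g ^ p ^ k = 1 := by
  classical
  haveI : Finite (MulAut E) :=
    Finite.of_injective (fun e : MulAut E => (e : E → E)) DFunLike.coe_injective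
  have hn : orderOf (ρ g) ≠ 0 := (orderOf_pos (ρ g)).ne'
  obtain ⟨a, m, hm, hnm⟩ := Nat.exists_eq_pow_mul_and_not_dvd hn p hp.out.ne_one
  have hord : orderOf (ρ (g ^ p ^ a)) = m := by
    rw [map_pow, orderOf_pow_of_dvd (pow_ne_zero a hp.out.ne_zero)
      (by rw [hnm]; exact dvd_mul_right _ _), hnm]
    exact Nat.mul_div_cancel_left m (pow_pos hp.out.pos a)
  have hcop : (orderOf (ρ (g ^ p ^ a))).Coprime p := by
    rw [hord]; exact ((Nat.Prime.coprime_iff_not_dvd hp.out).mpr hm).symm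
  have hh1 : g ^ p ^ a ∈ modStab ρ R hR := Subgroup.pow_mem _ hg1 _
  have hh2 : g ^ p ^ a ∈ fixer ρ (Cfsg.omegaOne p R) := Subgroup.pow_mem _ hg2 _
  have hfix : ∀ x ∈ R, ρ (g ^ p ^ a) x = x := by
    apply Cfsg.Agent.Lib.Helper4.AutCrit.aut_fix_of_omega_gen (ρ (g ^ p ^ a)) hcop R
      (hE.to_subgroup R) (hR _)
    intro x hx hxp
    rcases hxp with hxp | ⟨h2, -⟩
    · exact hh2 x (mem_omegaOne_of_pow hx hxp)
    · exact absurd h2 hp2
  obtain ⟨k, hk⟩ := pow_eq_one_of_modStab_fixer ρ hE hρ R hR hh1 hfix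
  exact ⟨a + k, by rw [pow_add, pow_mul]; exact hk⟩

/-- **Main group-theoretic step.** -/
theorem partA (hp2 : p ≠ 2) (hE : IsPGroup p E) (hρ : Function.Injective ρ)
    (R : Subgroup E) (hR : ∀ g : B, ∀ x ∈ R, ρ g x ∈ R) (hRm : Cfsg.IsMetacyclic ↥R)
    (I T₀ X : Subgroup B)
    (hrad : ∀ N : Subgroup B, N.Normal → IsPGroup p N → N ≤ I) (hIT : I ≤ T₀) (hXT : X ≤ T₀)
    (hXp : IsPGroup p X) (hXK : ∀ g ∈ X, ∀ e : E, e⁻¹ * ρ g e ∈ R) (hXI : ¬ X ≤ I) :
    (∃ g ∈ X, ∃ x ∈ R, ρ g x ≠ x) ∧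
    ∃ ν : B, (∀ g ∈ X, ν * g * ν⁻¹ ∈ T₀) ∧ ∃ a b : E, a ∈ R ∧ b ∈ R ∧ a ^ p = 1 ∧ b ^ p = 1 ∧
      b ≠ 1 ∧ a ∉ Subgroup.zpowers b ∧ ρ ν a = a⁻¹ ∧ ρ ν b = b⁻¹ := by
  classical
  obtain ⟨hWcomm, hWexp, hWcard⟩ := omega_sub_facts hp2 R (hE.to_subgroup R) hRm
  have hW : ∀ g : B, ∀ w ∈ Cfsg.omegaOne p R, ρ g w ∈ Cfsg.omegaOne p R :=
    fun g => omegaOne_invariant (ρ g) R (hR g)
  haveI hKn : (modStab ρ R hR).Normal := modStab_normal ρ R hR
  haveI hFRn : (fixer ρ R).Normal := fixer_normal ρ R hR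
  haveI hFWn : (fixer ρ (Cfsg.omegaOne p R)).Normal := fixer_normal ρ _ hW
  -- the two basic normal `p`-subgroups
  have hK0 : modStab ρ R hR ⊓ fixer ρ R ≤ I := by
    apply hrad _ inferInstance
    rintro ⟨g, hg⟩
    obtain ⟨k, hk⟩ := pow_eq_one_of_modStab_fixer ρ hE hρ R hR hg.1 hg.2
    exact ⟨k, Subtype.ext hk⟩
  have hK1 : modStab ρ R hR ⊓ fixer ρ (Cfsg.omegaOne p R) ≤ I := by
    apply hrad _ inferInstance
    rintro ⟨g, hg⟩
    obtain ⟨k, hk⟩ := pow_eq_one_of_modStab_fixer_omega ρ hp2 hE hρ R hR hg.1 hg.2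
    exact ⟨k, Subtype.ext hk⟩
  constructor
  · by_contra hno
    push Not at hno
    apply hXI
    intro g hg
    exact hK0 ⟨hXK g hg, fun x hx => hno g hg x hx⟩
  -- the inversion
  have hinv : ∃ ν ∈ modStab ρ R hR, (∀ w : ↥(Cfsg.omegaOne p R), resAct ρ _ hW ν w = w⁻¹) ∧
      ∃ a b : ↥(Cfsg.omegaOne p R), b ≠ 1 ∧ a ∉ Subgroup.zpowers b := by
    by_contra hno
    let Kp : Subgroup B :=
      { carrier := {g | g ∈ modStab ρ R hR ∧ ∃ k : ℕ, (resAct ρ _ hW g) ^ p ^ k = 1}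
        one_mem' := ⟨Subgroup.one_mem _, 0, by rw [map_one, one_pow]⟩
        mul_mem' := by
          rintro g h ⟨hgK, kg, hg⟩ ⟨hhK, kh, hh⟩
          refine ⟨Subgroup.mul_mem _ hgK hhK, ?_⟩
          rcases rank2_dichotomy hWcomm hWcard (resAct ρ _ hW g) (resAct ρ _ hW h) kg kh hg hh with
            ⟨k', hk'⟩ | ⟨ν, hν, hνinv, a, b, hb, hab⟩
          · exact ⟨k', by rw [map_mul]; exact hk'⟩
          · exfalso
            apply hno
            have hle : Subgroup.closure ({resAct ρ _ hW g, resAct ρ _ hW h} : Set (MulAut _)) ≤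
                (modStab ρ R hR).map (resAct ρ _ hW) := by
              rw [Subgroup.closure_le]
              rintro x hx
              rcases hx with rfl | hx
              · exact ⟨g, hgK, rfl⟩
              · rw [Set.mem_singleton_iff] at hx
                rw [hx]
                exact ⟨h, hhK, rfl⟩
            obtain ⟨ν', hν'K, rfl⟩ := hle hν
            exact ⟨ν', hν'K, hνinv, a, b, hb, hab⟩
        inv_mem' := by
          rintro g ⟨hgK, k, hg⟩
          exact ⟨Subgroup.inv_mem _ hgK, k, by rw [map_inv, inv_pow, hg, inv_one]⟩ }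
    have hKpn : Kp.Normal := by
      constructor
      rintro g ⟨hgK, k, hg⟩ b
      refine ⟨hKn.conj_mem g hgK b, k, ?_⟩
      rw [map_mul, map_mul, map_inv, conj_pow, hg, mul_one, mul_inv_cancel]
    have hKpp : IsPGroup p Kp := by
      rintro ⟨g, hgK, k, hg⟩
      have h1 : g ^ p ^ k ∈ modStab ρ R hR ⊓ fixer ρ (Cfsg.omegaOne p R) := by
        refine ⟨Subgroup.pow_mem _ hgK _, ?_⟩
        intro w hw
        have h2 : resAct ρ _ hW (g ^ p ^ k) = 1 := by rw [map_pow, hg]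
        have h3 := congrArg (fun f : MulAut ↥(Cfsg.omegaOne p R) => ((f ⟨w, hw⟩ : ↥(Cfsg.omegaOne p R)) : E)) h2
        exact h3
      obtain ⟨k', hk'⟩ := pow_eq_one_of_modStab_fixer_omega ρ hp2 hE hρ R hR h1.1 h1.2
      exact ⟨k + k', Subtype.ext (by
        show g ^ p ^ (k + k') = 1
        rw [pow_add, pow_mul]; exact hk')⟩
    have hKpI : Kp ≤ I := hrad Kp hKpn hKpp
    apply hXI
    intro g hg
    apply hKpI
    refine ⟨hXK g hg, ?_⟩
    obtain ⟨k, hk⟩ := hXp ⟨g, hg⟩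
    have hk' : g ^ p ^ k = 1 := congrArg Subtype.val hk
    exact ⟨k, by rw [← map_pow, hk', map_one]⟩
  obtain ⟨ν, hνK, hνinv, a, b, hb, hab⟩ := hinv
  refine ⟨ν, ?_, a.1, b.1, omegaOne_le R a.2, omegaOne_le R b.2, hWexp _ a.2, hWexp _ b.2, ?_, ?_, ?_, ?_⟩
  · intro g hg
    have hgK : g ∈ modStab ρ R hR := hXK g hg
    have hcomm : resAct ρ _ hW ν * resAct ρ _ hW g = resAct ρ _ hW g * resAct ρ _ hW ν := by
      ext w
      show ((resAct ρ _ hW ν (resAct ρ _ hW g w) : ↥(Cfsg.omegaOne p R)) : E) =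
        ((resAct ρ _ hW g (resAct ρ _ hW ν w) : ↥(Cfsg.omegaOne p R)) : E)
      rw [hνinv, hνinv, map_inv]
    have hc : ν * g * ν⁻¹ * g⁻¹ ∈ modStab ρ R hR ⊓ fixer ρ (Cfsg.omegaOne p R) := by
      refine ⟨Subgroup.mul_mem _ (Subgroup.mul_mem _ (Subgroup.mul_mem _ hνK hgK)
        (Subgroup.inv_mem _ hνK)) (Subgroup.inv_mem _ hgK), ?_⟩
      intro w hw
      have h2 : resAct ρ _ hW (ν * g * ν⁻¹ * g⁻¹) = 1 := by
        rw [map_mul, map_mul, map_mul, map_inv, map_inv, hcomm, mul_assoc (resAct ρ _ hW g),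
          mul_inv_cancel, mul_one, mul_inv_cancel]
      have h3 := congrArg (fun f : MulAut ↥(Cfsg.omegaOne p R) => ((f ⟨w, hw⟩ : ↥(Cfsg.omegaOne p R)) : E)) h2
      exact h3
    have h4 : ν * g * ν⁻¹ * g⁻¹ ∈ T₀ := hIT (hK1 hc)
    have h5 := T₀.mul_mem h4 (hXT hg)
    rwa [inv_mul_cancel_right] at h5
  · intro h
    exact hb (Subtype.ext h)
  · intro h
    apply hab
    obtain ⟨n, hn⟩ := Subgroup.mem_zpowers_iff.mp h
    refine Subgroup.mem_zpowers_iff.mpr ⟨n, ?_⟩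
    apply Subtype.ext
    rw [← hn]
    simp
  · have := congrArg Subtype.val (hνinv a)
    simpa [resAct_apply] using this
  · have := congrArg Subtype.val (hνinv b)
    simpa [resAct_apply] using this

end pfacts

end Cfsg.Agent.H9MSC
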