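import Mathlib
import Cfsg.Prelude
import Cfsg.Agent.Lib.Helper4.MetaOdd3
import Cfsg.Agent.Lib.Helper9.MetaSC1

set_option autoImplicit false

/-!
# An automorphism of a non-abelian metacyclic `p`-group (`p` odd) cannot invert a non-cyclic subgroup
of exponent `p`
-/

namespace Cfsg.Agent.H9MSC

open Cfsg
open scoped commutatorElement

universe u

/-- in a finite cyclic group, the elements of order dividing `p` are powers of any element of order `p` -/
theorem mem_zpowers_of_cyclic {C : Type*} [Group C] [Finite C] [IsCyclic C] {p : ℕ} [hp : Fact p.Prime]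
    {x y : C} (hx : x ^ p = 1) (hy : y ^ p = 1) (hy1 : y ≠ 1) : x ∈ Subgroup.zpowers y := by
  classical
  haveI : Fintype C := Fintype.ofFinite C
  have h1 := IsCyclic.card_pow_eq_one_le (α := C) (n := p) hp.out.pos
  have hord : orderOf y = p := orderOf_eq_prime hy hy1
  have hsub : (Finset.univ.filter (fun c : C => c ∈ Subgroup.zpowers y)) ⊆
      Finset.univ.filter (fun c : C => c ^ p = 1) := by
    intro c hc
    rw [Finset.mem_filter] at hc ⊢
    refine ⟨Finset.mem_univ _, ?_⟩
    obtain ⟨n, rfl⟩ := Subgroup.mem_zpowers_iff.mp hc.2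
    rw [← zpow_natCast, ← zpow_mul, mul_comm, zpow_mul, zpow_natCast, hy, one_zpow]
  have hcard : (Finset.univ.filter (fun c : C => c ∈ Subgroup.zpowers y)).card = p := by
    rw [← Fintype.card_subtype, ← Nat.card_eq_fintype_card]
    have : Nat.card {c : C // c ∈ Subgroup.zpowers y} = Nat.card (Subgroup.zpowers y) := rfl
    rw [this, Nat.card_zpowers, hord]
  have heq := Finset.eq_of_subset_of_card_le hsub (by rw [hcard]; exact h1)
  have hxm : x ∈ Finset.univ.filter (fun c : C => c ^ p = 1) := by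
    rw [Finset.mem_filter]; exact ⟨Finset.mem_univ _, hx⟩
  rw [← heq, Finset.mem_filter] at hxm
  exact hxm.2

theorem aut_odd_pow_inv {Q : Type*} [Group Q] (γ : MulAut Q) {a : Q} (ha : γ a = a⁻¹) (j : ℕ) :
    (γ ^ (2 * j + 1)) a = a⁻¹ := by
  have h2 : (γ ^ 2) a = a := by
    rw [pow_two, MulAut.mul_apply, ha, map_inv, ha, inv_inv]
  have h3 : (γ ^ (2 * j)) a = a := by
    rw [pow_mul]
    exact aut_pow_fix' (γ ^ 2) h2 j
  rw [pow_succ, MulAut.mul_apply, ha, map_inv, h3]

/-- **Endgame.** -/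
theorem no_inverting_aut {Q : Type u} [Group Q] [Finite Q] {p : ℕ} [hp : Fact p.Prime] (hp2 : p ≠ 2)
    (hQ : IsPGroup p Q) (hm : Cfsg.IsMetacyclic Q) (hna : ∃ x y : Q, x * y ≠ y * x)
    (γ : MulAut Q) (a b : Q) (hap : a ^ p = 1) (hbp : b ^ p = 1) (hb1 : b ≠ 1)
    (hab : a ∉ Subgroup.zpowers b) (hγa : γ a = a⁻¹) (hγb : γ b = b⁻¹) : False := by
  classical
  haveI : Finite (MulAut Q) :=
    Finite.of_injective (fun e : MulAut Q => (e : Q → Q)) DFunLike.coe_injective
  -- pass to a power of `γ` of order prime to `p`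
  have hn : orderOf γ ≠ 0 := (orderOf_pos γ).ne'
  obtain ⟨k, m, hm', hnm⟩ := Nat.exists_eq_pow_mul_and_not_dvd hn p hp.out.ne_one
  obtain ⟨γ', hγ'⟩ : ∃ γ' : MulAut Q, γ' = γ ^ p ^ k := ⟨_, rfl⟩
  have hord : orderOf γ' = m := by
    rw [hγ', orderOf_pow_of_dvd (pow_ne_zero k hp.out.ne_zero)
      (by rw [hnm]; exact dvd_mul_right _ _), hnm]
    exact Nat.mul_div_cancel_left m (pow_pos hp.out.pos k)
  have hodd : Odd (p ^ k) := (hp.out.odd_of_ne_two hp2).pow
  obtain ⟨j, hj⟩ := hodd
  have hγ'a : γ' a = a⁻¹ := by rw [hγ', hj]; exact aut_odd_pow_inv γ hγa j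
  have hγ'b : γ' b = b⁻¹ := by rw [hγ', hj]; exact aut_odd_pow_inv γ hγb j
  -- the holomorph
  let G := Q ⋊[MonoidHom.id (MulAut Q)] MulAut Q
  haveI hfin : Finite G := Finite.of_equiv _ SemidirectProduct.equivProd.symm
  have hinl : Function.Injective (SemidirectProduct.inl : Q →* G) := SemidirectProduct.inl_injective
  have hinr : Function.Injective (SemidirectProduct.inr : MulAut Q →* G) :=
    SemidirectProduct.inr_injective
  have hconj : ∀ (β : MulAut Q) (x : Q),
      (SemidirectProduct.inr β : G) * SemidirectProduct.inl x * (SemidirectProduct.inr β)⁻¹ =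
        SemidirectProduct.inl (β x) := by
    intro β x
    have := SemidirectProduct.inl_aut (φ := MonoidHom.id (MulAut Q)) β x
    rw [MonoidHom.id_apply] at this
    rw [this, map_inv]
  obtain ⟨R, hRdef⟩ : ∃ R : Subgroup G, R = (SemidirectProduct.inl : Q →* G).range := ⟨_, rfl⟩
  obtain ⟨A, hAdef⟩ : ∃ A : Subgroup G, A = Subgroup.zpowers (SemidirectProduct.inr γ' : G) := ⟨_, rfl⟩
  have hRp : IsPGroup p R := by
    rw [hRdef]
    exact hQ.of_surjective (SemidirectProduct.inl : Q →* G).rangeRestrict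
      (SemidirectProduct.inl : Q →* G).rangeRestrict_surjective
  have hRm : Cfsg.IsMetacyclic R := by
    rw [hRdef]
    exact Cfsg.Agent.Lib.Helper4.MetaOdd.isMetacyclic_of_surjective
      (SemidirectProduct.inl : Q →* G).rangeRestrict
      (SemidirectProduct.inl : Q →* G).rangeRestrict_surjective hm
  have hRn : R.Normal := by
    rw [hRdef, SemidirectProduct.range_inl_eq_ker_rightHom]
    exact MonoidHom.normal_ker _
  have hA : A ≤ Subgroup.normalizer (R : Set G) := by
    rw [Subgroup.normalizer_eq_top]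
    exact le_top
  have hcop : (Nat.card A).Coprime p := by
    rw [hAdef, Nat.card_zpowers, orderOf_injective _ hinr, hord]
    exact ((Nat.Prime.coprime_iff_not_dvd hp.out).mpr hm').symm
  obtain ⟨-, -, -, h4⟩ := Cfsg.Agent.Lib.Helper4.MetaOdd.main hp2 R A hRp hRm hA hcop
  have hRnc : ¬ IsMulCommutative R := by
    intro hc
    obtain ⟨x, y, hxy⟩ := hna
    apply hxy
    have hx : (SemidirectProduct.inl x : G) ∈ R := by rw [hRdef]; exact ⟨x, rfl⟩
    have hy : (SemidirectProduct.inl y : G) ∈ R := by rw [hRdef]; exact ⟨y, rfl⟩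
    have := hc.is_comm.comm (⟨_, hx⟩ : R) ⟨_, hy⟩
    have h5 := congrArg Subtype.val this
    apply hinl
    rw [map_mul, map_mul]
    exact h5
  have hb2 : b * b ≠ 1 := by
    intro h
    apply hb1
    have h1 : orderOf b ∣ 2 := orderOf_dvd_of_pow_eq_one (by rw [pow_two]; exact h)
    have h2 : orderOf b ∣ p := orderOf_dvd_of_pow_eq_one hbp
    have h3 : orderOf b ∣ Nat.gcd 2 p := Nat.dvd_gcd h1 h2
    have h4 : Nat.gcd 2 p = 1 := by
      rw [Nat.coprime_primes Nat.prime_two hp.out |>.mpr (Ne.symm hp2)]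
    rw [h4, Nat.dvd_one] at h3
    exact orderOf_eq_one_iff.mp h3
  have hAnc : ¬ A ≤ Subgroup.centralizer (R : Set G) := by
    intro hle
    have h1 : (SemidirectProduct.inr γ' : G) ∈ A := by rw [hAdef]; exact Subgroup.mem_zpowers _
    have h2 := Subgroup.mem_centralizer_iff.mp (hle h1) (SemidirectProduct.inl b)
      (by rw [hRdef]; exact ⟨b, rfl⟩)
    have h3 := hconj γ' b
    rw [← h2, mul_inv_cancel_right, hγ'b] at h3
    have h5 := hinl h3
    apply hb2
    calc b * b = b * b⁻¹ := by rw [← h5]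
      _ = 1 := mul_inv_cancel b
  obtain ⟨-, hcyc, -, -, -⟩ := h4 hRnc hAnc
  -- `inl (x²) ∈ [R, A]` for inverted `x`
  have hsq : ∀ x : Q, γ' x = x⁻¹ → (SemidirectProduct.inl (x * x) : G) ∈ ⁅R, A⁆ := by
    intro x hx
    have h1 : ⁅(SemidirectProduct.inl x : G), (SemidirectProduct.inr γ' : G)⁆ ∈ ⁅R, A⁆ :=
      Subgroup.commutator_mem_commutator (by rw [hRdef]; exact ⟨x, rfl⟩)
        (by rw [hAdef]; exact Subgroup.mem_zpowers _)
    have h2 : ⁅(SemidirectProduct.inl x : G), (SemidirectProduct.inr γ' : G)⁆ =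
        SemidirectProduct.inl (x * x) := by
      rw [commutatorElement_def]
      have h3 : (SemidirectProduct.inr γ' : G) * (SemidirectProduct.inl x)⁻¹ *
          (SemidirectProduct.inr γ')⁻¹ = SemidirectProduct.inl x := by
        have := hconj γ' x⁻¹
        rw [map_inv γ' x, hx, inv_inv, map_inv (SemidirectProduct.inl : Q →* G) x] at this
        exact this
      calc (SemidirectProduct.inl x : G) * SemidirectProduct.inr γ' * (SemidirectProduct.inl x)⁻¹ *
            (SemidirectProduct.inr γ')⁻¹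
          = SemidirectProduct.inl x * (SemidirectProduct.inr γ' * (SemidirectProduct.inl x)⁻¹ *
            (SemidirectProduct.inr γ')⁻¹) := by group
        _ = SemidirectProduct.inl x * SemidirectProduct.inl x := by rw [h3]
        _ = SemidirectProduct.inl (x * x) := by rw [map_mul]
    rw [h2] at h1
    exact h1
  have hmem : ∀ x : Q, x ^ p = 1 → γ' x = x⁻¹ → (SemidirectProduct.inl x : G) ∈ ⁅R, A⁆ := by
    intro x hxp hx
    have h1 := Subgroup.pow_mem _ (hsq x hx) ((p + 1) / 2)
    have hpodd : Odd p := hp.out.odd_of_ne_two hp2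
    obtain ⟨t, ht⟩ := hpodd
    have h2 : (x * x) ^ ((p + 1) / 2) = x := by
      have h3 : (p + 1) / 2 = t + 1 := by omega
      rw [h3, ← pow_two, ← pow_mul]
      have h4 : 2 * (t + 1) = p + 1 := by omega
      rw [h4, pow_succ, hxp, one_mul]
    rw [← map_pow, h2] at h1
    exact h1
  have haC := hmem a hap hγ'a
  have hbC := hmem b hbp hγ'b
  haveI := hcyc
  have hfinal : (⟨_, haC⟩ : ↥⁅R, A⁆) ∈ Subgroup.zpowers (⟨_, hbC⟩ : ↥⁅R, A⁆) := by
    apply mem_zpowers_of_cyclic (p := p)
    · apply Subtype.ext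
      show (SemidirectProduct.inl a : G) ^ p = 1
      rw [← map_pow, hap, map_one]
    · apply Subtype.ext
      show (SemidirectProduct.inl b : G) ^ p = 1
      rw [← map_pow, hbp, map_one]
    · intro h
      apply hb1
      have h1 : (SemidirectProduct.inl b : G) = 1 := congrArg Subtype.val h
      apply hinl
      rw [h1, map_one]
  obtain ⟨n, hn⟩ := Subgroup.mem_zpowers_iff.mp hfinal
  apply hab
  refine Subgroup.mem_zpowers_iff.mpr ⟨n, ?_⟩
  apply hinl
  have h1 : (SemidirectProduct.inl b : G) ^ n = SemidirectProduct.inl a := by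
    have := congrArg Subtype.val hn
    simpa using this
  rw [map_zpow, h1]

end Cfsg.Agent.H9MSC
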