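import Mathlib
import Cfsg.Prelude
import Cfsg.Agent.S5080
import Cfsg.Agent.Lib.Helper9.FusionNormal3
import Cfsg.Agent.Lib.Helper9.FusionAG3
import Cfsg.Agent.Lib.Helper9.FusionSat3
import Cfsg.Agent.Lib.Helper9.PCore
import Cfsg.Agent.Lib.Helper9.MetaSC3
import Cfsg.Agent.Lib.Helper9.MetaSC4
import Cfsg.Agent.Lib.Helper7.Meta7
import Cfsg.Agent.Lib.Lead.MetaAut

set_option autoImplicit false

/-!
# A strongly closed metacyclic subgroup lies in every essential subgroup (`p` odd)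
-/

namespace Cfsg.Agent.H9MSC

open Cfsg Cfsg.FusionSystem Cfsg.Agent.Lib.Helper9

variable {Ω : Type*} [Group Ω] {S : Subgroup Ω}

theorem conj_mem_of_stronglyClosed (F : FusionSystem S) {P : Subgroup Ω} (hP : F.StronglyClosed P)
    {g : Ω} (hg : g ∈ S) {x : Ω} (hx : x ∈ P) : g * x * g⁻¹ ∈ P := by
  have h := hP.2 P le_rfl (conjHom P g) (F.conj_mem hP.1 hg) ⟨x, hx⟩
  exact h

theorem exists_normalizing_not_mem [Finite S] (p : ℕ) [Fact p.Prime] (hS : IsPGroup p S)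
    (F : FusionSystem S) {P E : Subgroup Ω} (hP : F.StronglyClosed P) (hES : E ≤ S)
    (hPE : ¬ P ≤ E) : ∃ y ∈ P, y ∈ Subgroup.normalizer (E : Set Ω) ∧ y ∉ E := by
  have hPS := hP.1
  have hEN : E ≤ Subgroup.normalizer (P : Set Ω) := by
    intro g hg
    rw [Subgroup.mem_normalizer_iff]
    intro x
    constructor
    · intro hx
      exact conj_mem_of_stronglyClosed F hP (hES hg) hx
    · intro hx
      have h1 := conj_mem_of_stronglyClosed F hP (S.inv_mem (hES hg)) hx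
      have h2 : g⁻¹ * (g * x * g⁻¹) * g⁻¹⁻¹ = x := by group
      rwa [h2] at h1
  have hle : E ⊔ P ≤ S := sup_le hES hPS
  haveI : Finite ↥(E ⊔ P) := fs_finite_of_le hle
  have hlt : E < E ⊔ P := by
    refine lt_of_le_of_ne le_sup_left ?_
    intro h
    apply hPE
    calc P ≤ E ⊔ P := le_sup_right
      _ = E := h.symm
  have h1 := fs_lt_normalizerIn (S := E ⊔ P) p (hS.to_le hle) hlt
  obtain ⟨y', hy'N, hy'E⟩ := SetLike.exists_of_lt h1
  have hy'mem : y' ∈ ((E ⊔ P : Subgroup Ω) : Set Ω) := hy'N.1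
  rw [Subgroup.coe_mul_of_left_le_normalizer_right E P hEN] at hy'mem
  obtain ⟨e, he, y, hy, rfl⟩ := Set.mem_mul.mp hy'mem
  refine ⟨y, hy, ?_, ?_⟩
  · have h3 : y = e⁻¹ * (e * y) := by group
    rw [h3]
    exact Subgroup.mul_mem _ (Subgroup.inv_mem _ (Subgroup.le_normalizer he)) hy'N.2
  · intro hyE
    exact hy'E (E.mul_mem he hyE)

/-- **A strongly closed metacyclic subgroup lies in every essential subgroup (`p` odd).** -/
theorem le_essential [Finite S] (p : ℕ) [Fact p.Prime] (hS : IsPGroup p S) (F : FusionSystem S)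
    (hF : F.IsSaturated p) (P : Subgroup Ω) (hP : F.StronglyClosed P) (hp : p ≠ 2)
    (hm : Cfsg.IsMetacyclic ↥P) (E : Subgroup Ω) (hE : F.IsEssential p E) : P ≤ E := by
  classical
  by_contra hPE
  have hES : E ≤ S := hE.1.1
  have hPS : P ≤ S := hP.1
  have hErad := Cfsg.Agent.S5080.result p hS F hF E hE
  haveI : Finite E := fs_finite_of_le hES
  have hEp : IsPGroup p E := hS.to_le hES
  have hEcent : centralizerIn S E ≤ E := hE.1.2 E (fs_isConj_refl F hES)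
  -- the invariant metacyclic subgroup
  obtain ⟨R, hRdef⟩ : ∃ R : Subgroup E, R = P.subgroupOf E := ⟨_, rfl⟩
  have hmemR : ∀ x : E, x ∈ R ↔ (x : Ω) ∈ P := by
    intro x; rw [hRdef]; exact Subgroup.mem_subgroupOf
  have hR : ∀ g : F.autGroup E, ∀ x ∈ R, (F.autGroup E).subtype g x ∈ R := by
    intro g x hx
    rw [hmemR] at hx ⊢
    have hg := (mem_autGroup_iff F hES g.1).mp g.2
    exact fs_stronglyClosed_mem F hP hg x hx
  have hRm : Cfsg.IsMetacyclic ↥R := by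
    let f : ↥R →* ↥P :=
      { toFun := fun x => ⟨(x.1 : Ω), (hmemR x.1).mp x.2⟩
        map_one' := rfl
        map_mul' := fun _ _ => rfl }
    have hf : Function.Injective f := by
      intro x y hxy
      apply Subtype.ext
      apply Subtype.ext
      exact congrArg (fun z : ↥P => (z : Ω)) hxy
    exact Cfsg.Agent.Lib.Lead.MetaAut.isMetacyclic_of_mulEquiv (MonoidHom.ofInjective hf).symm
      (Cfsg.Agent.Lib.Helper7.Meta.isMetacyclic_subgroup hm f.range)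
  obtain ⟨I, hIdef⟩ : ∃ I : Subgroup (F.autGroup E), I = (Inn E).subgroupOf (F.autGroup E) :=
    ⟨_, rfl⟩
  obtain ⟨T₀, hT₀def⟩ : ∃ T₀ : Subgroup (F.autGroup E),
    T₀ = (autInducedBy S E).subgroupOf (F.autGroup E) := ⟨_, rfl⟩
  obtain ⟨X, hXdef⟩ : ∃ X : Subgroup (F.autGroup E),
    X = (autInducedBy P E).subgroupOf (F.autGroup E) := ⟨_, rfl⟩
  have hrad : ∀ N : Subgroup (F.autGroup E), N.Normal → IsPGroup p N → N ≤ I := by
    intro N hN hNp n hn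
    have h1 : n ∈ Cfsg.pCore p (F.autGroup E) := le_pCore hN hNp hn
    have h2 : (n : MulAut E) ∈ (Cfsg.pCore p (F.autGroup E)).map (F.autGroup E).subtype :=
      ⟨n, h1, rfl⟩
    rw [hErad.2] at h2
    rw [hIdef]; exact h2
  have hIT : I ≤ T₀ := by
    intro n hn
    rw [hIdef] at hn; rw [hT₀def]
    exact inn_le_autInducedBy hES hn
  have hXT : X ≤ T₀ := by
    intro n hn
    rw [hXdef] at hn; rw [hT₀def]
    have hn' : (n : MulAut E) ∈ autInducedBy P E := hn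
    rw [mem_autInducedBy_iff] at hn'
    obtain ⟨g, hg, Hg⟩ := hn'
    show (n : MulAut E) ∈ autInducedBy S E
    rw [mem_autInducedBy_iff]
    exact ⟨g, hPS hg, Hg⟩
  have hXp : IsPGroup p X := by
    rw [hXdef]
    exact (isPGroup_autInducedBy p (hS.to_le hPS) E).comap_subtype
  have hXK : ∀ g ∈ X, ∀ e : E, e⁻¹ * (F.autGroup E).subtype g e ∈ R := by
    intro g hg e
    rw [hXdef] at hg
    have hg' : (g : MulAut E) ∈ autInducedBy P E := hg
    rw [mem_autInducedBy_iff] at hg'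
    obtain ⟨y, hy, Hy⟩ := hg'
    rw [hmemR]
    show ((e⁻¹ * (g : MulAut E) e : E) : Ω) ∈ P
    rw [Subgroup.coe_mul, Hy, Subgroup.coe_inv]
    have h1 : (e : Ω)⁻¹ * y * ((e : Ω)⁻¹)⁻¹ ∈ P :=
      conj_mem_of_stronglyClosed F hP (S.inv_mem (hES e.2)) hy
    have h2 : (e : Ω)⁻¹ * (y * e * y⁻¹) = ((e : Ω)⁻¹ * y * ((e : Ω)⁻¹)⁻¹) * y⁻¹ := by group
    rw [h2]
    exact P.mul_mem h1 (P.inv_mem hy)
  have hcyA : ∀ (y : Ω) (hyS : y ∈ S) (hyN : y ∈ Subgroup.normalizer (E : Set Ω)),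
      E.normalizerMonoidHom ⟨y, hyN⟩ ∈ F.autGroup E := by
    intro y hyS hyN
    apply autInducedBy_le_autGroup F hES
    rw [mem_autInducedBy_iff]
    exact ⟨y, hyS, fun x => rfl⟩
  have hXI : ¬ X ≤ I := by
    intro hle
    obtain ⟨y, hyP, hyN, hyE⟩ := exists_normalizing_not_mem p hS F hP hES hPE
    have hX : (⟨_, hcyA y (hPS hyP) hyN⟩ : F.autGroup E) ∈ X := by
      rw [hXdef]
      show E.normalizerMonoidHom ⟨y, hyN⟩ ∈ autInducedBy P E
      rw [mem_autInducedBy_iff]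
      exact ⟨y, hyP, fun x => rfl⟩
    have hI := hle hX
    rw [hIdef] at hI
    have hI' : E.normalizerMonoidHom ⟨y, hyN⟩ ∈ Inn E := hI
    obtain ⟨e, he⟩ := hI'
    have hc : (e : Ω)⁻¹ * y ∈ centralizerIn S E := by
      refine ⟨S.mul_mem (S.inv_mem (hES e.2)) (hPS hyP), ?_⟩
      show (e : Ω)⁻¹ * y ∈ Subgroup.centralizer (E : Set Ω)
      rw [Subgroup.mem_centralizer_iff]
      intro x hx
      have h1 : (e : Ω) * x * (e : Ω)⁻¹ = y * x * y⁻¹ :=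
        congrArg (fun f : MulAut E => ((f ⟨x, hx⟩ : E) : Ω)) he
      calc x * ((e : Ω)⁻¹ * y) = (e : Ω)⁻¹ * ((e : Ω) * x * (e : Ω)⁻¹) * y := by group
        _ = (e : Ω)⁻¹ * (y * x * y⁻¹) * y := by rw [h1]
        _ = (e : Ω)⁻¹ * y * x := by group
    have h2 := hEcent hc
    apply hyE
    have h3 : y = (e : Ω) * ((e : Ω)⁻¹ * y) := by group
    rw [h3]
    exact E.mul_mem e.2 h2
  obtain ⟨⟨g₀, hg₀X, x₀, hx₀R, hgx₀⟩, ν, hνT, a, b, haR, hbR, hap, hbp, hb1, hab, hνa, hνb⟩ :=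
    partA (F.autGroup E).subtype hp hEp (Subgroup.subtype_injective _) R hR hRm I T₀ X hrad hIT hXT
      hXp hXK hXI
  -- the normalizer of `E` in `P`
  obtain ⟨P₁, hP₁def⟩ : ∃ P₁ : Subgroup Ω, P₁ = P ⊓ normalizerIn S E := ⟨_, rfl⟩
  have hP₁P : P₁ ≤ P := by rw [hP₁def]; exact inf_le_left
  have hP₁S : P₁ ≤ S := hP₁P.trans hPS
  have hP₁N : P₁ ≤ Subgroup.normalizer (E : Set Ω) := by
    rw [hP₁def]; exact fun x hx => hx.2.2
  have hmemP₁ : ∀ y, y ∈ P → y ∈ S → y ∈ Subgroup.normalizer (E : Set Ω) → y ∈ P₁ := by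
    intro y h1 h2 h3
    rw [hP₁def]; exact ⟨h1, h2, h3⟩
  have hREP₁ : ∀ x : E, x ∈ R → (x : Ω) ∈ P₁ := fun x hx =>
    hmemP₁ _ ((hmemR x).mp hx) (hES x.2) (Subgroup.le_normalizer x.2)
  haveI : Finite P₁ := fs_finite_of_le hP₁S
  have hP₁p : IsPGroup p P₁ := hS.to_le hP₁S
  have hP₁m : Cfsg.IsMetacyclic ↥P₁ :=
    Cfsg.Agent.Lib.Lead.MetaAut.isMetacyclic_of_mulEquiv (Subgroup.subgroupOfEquivOfLe hP₁P)
      (Cfsg.Agent.Lib.Helper7.Meta.isMetacyclic_subgroup hm (P₁.subgroupOf P))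
  have hna : ∃ x y : P₁, x * y ≠ y * x := by
    rw [hXdef] at hg₀X
    have hg' : (g₀ : MulAut E) ∈ autInducedBy P E := hg₀X
    rw [mem_autInducedBy_iff] at hg'
    obtain ⟨y, hy, Hy⟩ := hg'
    have hyN : y ∈ Subgroup.normalizer (E : Set Ω) :=
      mem_normalizer_of_induces (g₀ : MulAut E) y Hy
    refine ⟨⟨y, hmemP₁ y hy (hPS hy) hyN⟩, ⟨x₀, hREP₁ x₀ hx₀R⟩, ?_⟩
    intro h
    apply hgx₀
    apply Subtype.ext
    show (((g₀ : MulAut E) x₀ : E) : Ω) = x₀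
    rw [Hy]
    have h1 : y * (x₀ : Ω) = x₀ * y := congrArg Subtype.val h
    rw [h1, mul_inv_cancel_right]
  -- the extension
  obtain ⟨hEfc, -⟩ := fs_sylow_axiom p hS F hF hE.2.1
  have hErec := fs_extension_axiom p hS F hF hEfc
  obtain ⟨φ, hφdef⟩ : ∃ φ : E →* Ω, φ = E.subtype.comp (ν : MulAut E).toMonoidHom := ⟨_, rfl⟩
  have hφapp : ∀ x : E, φ x = (((ν : MulAut E) x : E) : Ω) := by
    intro x; rw [hφdef]; rfl
  have hφF : φ ∈ F.Hom E := by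
    rw [hφdef]; exact (mem_autGroup_iff F hES _).mp ν.2
  have hφr : φ.range = E := by
    ext z
    constructor
    · rintro ⟨x, rfl⟩
      rw [hφapp]; exact ((ν : MulAut E) x).2
    · intro hz
      exact ⟨(ν : MulAut E)⁻¹ ⟨z, hz⟩, by rw [hφapp, MulAut.apply_inv_self]⟩
  obtain ⟨ψ, hψF, hψ⟩ := hErec.2 E φ hφF hφr
  have hEext : E ≤ extender S E φ := by
    intro e he
    rw [mem_extender_iff]
    refine ⟨hES he, Subgroup.le_normalizer he, φ ⟨e, he⟩, (F.le_of_mem hφF).2 _, ?_⟩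
    intro x hx
    have h1 : (⟨e * (x : Ω) * e⁻¹, hx⟩ : E) = ⟨e, he⟩ * x * ⟨e, he⟩⁻¹ := Subtype.ext rfl
    rw [h1, map_mul, map_mul, map_inv]
  have hP₁ext : P₁ ≤ extender S E φ := by
    intro y hy
    have hyN := hP₁N hy
    rw [mem_extender_iff]
    refine ⟨hP₁S hy, hyN, ?_⟩
    have hcyX : (⟨_, hcyA y (hP₁S hy) hyN⟩ : F.autGroup E) ∈ X := by
      rw [hXdef]
      show E.normalizerMonoidHom ⟨y, hyN⟩ ∈ autInducedBy P E
      rw [mem_autInducedBy_iff]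
      exact ⟨y, hP₁P hy, fun x => rfl⟩
    have h1 := hνT _ hcyX
    rw [hT₀def] at h1
    have h1' : ((ν : MulAut E) * E.normalizerMonoidHom ⟨y, hyN⟩ * (ν : MulAut E)⁻¹) ∈
        autInducedBy S E := h1
    rw [mem_autInducedBy_iff] at h1'
    obtain ⟨h, hhS, Hh⟩ := h1'
    refine ⟨h, hhS, fun x hx => ?_⟩
    have h2 := Hh ((ν : MulAut E) x)
    rw [MulAut.mul_apply, MulAut.mul_apply, MulAut.inv_apply_self] at h2
    rw [hφapp, hφapp, ← h2]
    rfl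
  have hψE : ∀ (x : Ω) (hx : x ∈ E), ψ ⟨x, hEext hx⟩ = (((ν : MulAut E) ⟨x, hx⟩ : E) : Ω) := by
    intro x hx
    rw [hψ x hx (hEext hx), hφapp]
  have hK1 : ∀ y (hy : y ∈ P₁) (x' : E),
      ψ ⟨y, hP₁ext hy⟩ * (((ν : MulAut E) x' : E) : Ω) * (ψ ⟨y, hP₁ext hy⟩)⁻¹ ∈ E := by
    intro y hy x'
    have hyx : y * (x' : Ω) * y⁻¹ ∈ E :=
      (Subgroup.mem_normalizer_iff.mp (hP₁N hy) x').mp x'.2
    have h0 : (((ν : MulAut E) x' : E) : Ω) = ψ ⟨x', hEext x'.2⟩ := (hψE x' x'.2).symm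
    have h2 : ψ ⟨y, hP₁ext hy⟩ * ψ ⟨x', hEext x'.2⟩ * (ψ ⟨y, hP₁ext hy⟩)⁻¹ =
        ψ ⟨y * x' * y⁻¹, hEext hyx⟩ := by
      rw [← map_inv, ← map_mul, ← map_mul]; rfl
    rw [h0, h2, hψE _ hyx]
    exact ((ν : MulAut E) _).2
  have hval : ∀ y (hy : y ∈ P₁), ψ ⟨y, hP₁ext hy⟩ ∈ P₁ := by
    intro y hy
    apply hmemP₁
    · exact fs_stronglyClosed_mem F hP hψF ⟨y, hP₁ext hy⟩ (hP₁P hy)
    · exact (F.le_of_mem hψF).2 _
    · rw [Subgroup.mem_normalizer_iff]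
      intro x
      constructor
      · intro hx
        have h3 := hK1 y hy ((ν : MulAut E)⁻¹ ⟨x, hx⟩)
        rwa [MulAut.apply_inv_self] at h3
      · intro hx
        have hyinv : y⁻¹ ∈ P₁ := P₁.inv_mem hy
        have h3 := hK1 y⁻¹ hyinv ((ν : MulAut E)⁻¹ ⟨_, hx⟩)
        rw [MulAut.apply_inv_self] at h3
        have h4 : ψ ⟨y⁻¹, hP₁ext hyinv⟩ = (ψ ⟨y, hP₁ext hy⟩)⁻¹ := by
          rw [← map_inv]; rfl
        rw [h4] at h3
        have h5 : (ψ ⟨y, hP₁ext hy⟩)⁻¹ * (ψ ⟨y, hP₁ext hy⟩ * x * (ψ ⟨y, hP₁ext hy⟩)⁻¹) *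
            ((ψ ⟨y, hP₁ext hy⟩)⁻¹)⁻¹ = x := by group
        rwa [h5] at h3
  have hψ₁F : ψ.comp (Subgroup.inclusion hP₁ext) ∈ F.Hom P₁ := fs_restrict_mem F hψF hP₁ext
  obtain ⟨γ, -, hγ⟩ := fs_hom_to_aut F hψ₁F (fun y => hval y.1 y.2)
  have hγR : ∀ (x : E) (hx : x ∈ R), (F.autGroup E).subtype ν x = x⁻¹ →
      γ ⟨x, hREP₁ x hx⟩ = (⟨x, hREP₁ x hx⟩ : P₁)⁻¹ := by
    intro x hx hνx
    apply Subtype.ext
    rw [hγ]
    show ψ ⟨(x : Ω), _⟩ = ((x : Ω))⁻¹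
    rw [hψ (x : Ω) x.2 _, hφapp]
    have h1 := congrArg (fun z : E => (z : Ω)) hνx
    simpa using h1
  refine no_inverting_aut hp hP₁p hP₁m hna γ ⟨a, hREP₁ a haR⟩ ⟨b, hREP₁ b hbR⟩ ?_ ?_ ?_ ?_
    (hγR a haR hνa) (hγR b hbR hνb)
  · apply Subtype.ext
    have h1 := congrArg (fun z : E => (z : Ω)) hap
    simpa using h1
  · apply Subtype.ext
    have h1 := congrArg (fun z : E => (z : Ω)) hbp
    simpa using h1
  · intro h
    apply hb1
    apply Subtype.ext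
    exact congrArg (fun z : P₁ => (z : Ω)) h
  · intro h
    apply hab
    obtain ⟨n, hn⟩ := Subgroup.mem_zpowers_iff.mp h
    refine Subgroup.mem_zpowers_iff.mpr ⟨n, ?_⟩
    apply Subtype.ext
    have h1 := congrArg (fun z : P₁ => (z : Ω)) hn
    simpa using h1

end Cfsg.Agent.H9MSC
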