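import Mathlib
import Cfsg.Prelude
import Cfsg.Agent.Lib.Helper9.MetaSC5

set_option autoImplicit false

/-!
# The configuration of a strongly closed subgroup not contained in an essential subgroup
-/

namespace Cfsg.Agent.H9MSC2

open Cfsg Cfsg.FusionSystem Cfsg.Agent.Lib.Helper9 Cfsg.Agent.H9MSC

variable {Ω : Type*} [Group Ω] {S : Subgroup Ω}

/-- the abstract data attached to an essential subgroup `E` not containing the strongly closed
subgroup `P` -/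
theorem essential_setup [Finite S] (p : ℕ) [Fact p.Prime] (hS : IsPGroup p S) (F : FusionSystem S)
    (hF : F.IsSaturated p) (P : Subgroup Ω) (hP : F.StronglyClosed P) (E : Subgroup Ω)
    (hE : F.IsEssential p E) (hPE : ¬ P ≤ E) :
    ∃ (R : Subgroup E) (I X : Subgroup (F.autGroup E)),
      (∀ x : E, x ∈ R ↔ (x : Ω) ∈ P) ∧
      (∀ g : F.autGroup E, ∀ x ∈ R, (F.autGroup E).subtype g x ∈ R) ∧
      (∀ N : Subgroup (F.autGroup E), N.Normal → IsPGroup p N → N ≤ I) ∧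
      IsPGroup p X ∧ (∀ g ∈ X, ∀ e : E, e⁻¹ * (F.autGroup E).subtype g e ∈ R) ∧ ¬ X ≤ I ∧
      (∀ g ∈ X, ∃ y ∈ P, ∀ x : E, (((g : MulAut E) x : E) : Ω) = y * x * y⁻¹) ∧
      (∀ y ∈ P, y ∈ Subgroup.normalizer (E : Set Ω) → y ∉ E →
        ∃ g ∈ X, g ∉ I ∧ ∀ x : E, (((g : MulAut E) x : E) : Ω) = y * x * y⁻¹) := by
  classical
  have hES : E ≤ S := hE.1.1
  have hPS : P ≤ S := hP.1
  have hErad := Cfsg.Agent.S5080.result p hS F hF E hE
  haveI : Finite E := fs_finite_of_le hES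
  have hEcent : centralizerIn S E ≤ E := hE.1.2 E (fs_isConj_refl F hES)
  obtain ⟨R, hRdef⟩ : ∃ R : Subgroup E, R = P.subgroupOf E := ⟨_, rfl⟩
  have hmemR : ∀ x : E, x ∈ R ↔ (x : Ω) ∈ P := by
    intro x; rw [hRdef]; exact Subgroup.mem_subgroupOf
  have hR : ∀ g : F.autGroup E, ∀ x ∈ R, (F.autGroup E).subtype g x ∈ R := by
    intro g x hx
    rw [hmemR] at hx ⊢
    have hg := (mem_autGroup_iff F hES g.1).mp g.2
    exact fs_stronglyClosed_mem F hP hg x hx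
  obtain ⟨I, hIdef⟩ : ∃ I : Subgroup (F.autGroup E), I = (Inn E).subgroupOf (F.autGroup E) :=
    ⟨_, rfl⟩
  obtain ⟨X, hXdef⟩ : ∃ X : Subgroup (F.autGroup E),
    X = (autInducedBy P E).subgroupOf (F.autGroup E) := ⟨_, rfl⟩
  have hrad : ∀ N : Subgroup (F.autGroup E), N.Normal → IsPGroup p N → N ≤ I := by
    intro N hN hNp n hn
    have h1 : n ∈ Cfsg.pCore p (F.autGroup E) := le_pCore hN hNp hn
    have h2 : (n : MulAut E) ∈ (Cfsg.pCore p (F.autGroup E)).map (F.autGroup E).subtype :=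
      ⟨n, h1, rfl⟩
    rw [hErad.2] at h2
    rw [hIdef]; exact h2
  have hXp : IsPGroup p X := by
    rw [hXdef]
    exact (isPGroup_autInducedBy p (hS.to_le hPS) E).comap_subtype
  have hXform : ∀ g ∈ X, ∃ y ∈ P, ∀ x : E, (((g : MulAut E) x : E) : Ω) = y * x * y⁻¹ := by
    intro g hg
    rw [hXdef] at hg
    have hg' : (g : MulAut E) ∈ autInducedBy P E := hg
    rw [mem_autInducedBy_iff] at hg'
    exact hg'
  have hXK : ∀ g ∈ X, ∀ e : E, e⁻¹ * (F.autGroup E).subtype g e ∈ R := by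
    intro g hg e
    obtain ⟨y, hy, Hy⟩ := hXform g hg
    rw [hmemR]
    show ((e⁻¹ * (g : MulAut E) e : E) : Ω) ∈ P
    rw [Subgroup.coe_mul, Hy, Subgroup.coe_inv]
    have h1 : (e : Ω)⁻¹ * y * ((e : Ω)⁻¹)⁻¹ ∈ P :=
      conj_mem_of_stronglyClosed F hP (S.inv_mem (hES e.2)) hy
    have h2 : (e : Ω)⁻¹ * (y * e * y⁻¹) = ((e : Ω)⁻¹ * y * ((e : Ω)⁻¹)⁻¹) * y⁻¹ := by group
    rw [h2]
    exact P.mul_mem h1 (P.inv_mem hy)
  have hcyA : ∀ (y : Ω) (hyS : y ∈ S) (hyN : y ∈ Subgroup.normalizer (E : Set Ω)),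
      E.normalizerMonoidHom ⟨y, hyN⟩ ∈ F.autGroup E := by
    intro y hyS hyN
    apply autInducedBy_le_autGroup F hES
    rw [mem_autInducedBy_iff]
    exact ⟨y, hyS, fun x => rfl⟩
  have hlast : ∀ y ∈ P, y ∈ Subgroup.normalizer (E : Set Ω) → y ∉ E →
      ∃ g ∈ X, g ∉ I ∧ ∀ x : E, (((g : MulAut E) x : E) : Ω) = y * x * y⁻¹ := by
    intro y hyP hyN hyE
    refine ⟨⟨_, hcyA y (hPS hyP) hyN⟩, ?_, ?_, fun x => rfl⟩
    · rw [hXdef]
      show E.normalizerMonoidHom ⟨y, hyN⟩ ∈ autInducedBy P E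
      rw [mem_autInducedBy_iff]
      exact ⟨y, hyP, fun x => rfl⟩
    · intro hI
      rw [hIdef] at hI
      have hI' : E.normalizerMonoidHom ⟨y, hyN⟩ ∈ Inn E := hI
      obtain ⟨e, he⟩ := hI'
      have hc : (e : Ω)⁻¹ * y ∈ centralizerIn S E := by
        refine ⟨S.mul_mem (S.inv_mem (hES e.2)) (hPS hyP), ?_⟩
        show (e : Ω)⁻¹ * y ∈ Subgroup.centralizer (E : Set Ω)
        rw [Subgroup.mem_centralizer_iff]
        intro x hx
        have h1 : (e : Ω) * x * (e : Ω)⁻¹ = y * x * y⁻¹ :=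
          congrArg (fun f : MulAut E => ((f ⟨x, hx⟩ : E) : Ω)) he
        calc x * ((e : Ω)⁻¹ * y) = (e : Ω)⁻¹ * ((e : Ω) * x * (e : Ω)⁻¹) * y := by group
          _ = (e : Ω)⁻¹ * (y * x * y⁻¹) * y := by rw [h1]
          _ = (e : Ω)⁻¹ * y * x := by group
      have h2 := hEcent hc
      apply hyE
      have h3 : y = (e : Ω) * ((e : Ω)⁻¹ * y) := by group
      rw [h3]
      exact E.mul_mem e.2 h2
  have hXI : ¬ X ≤ I := by
    intro hle
    obtain ⟨y, hyP, hyN, hyE⟩ := exists_normalizing_not_mem p hS F hP hES hPE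
    obtain ⟨g, hgX, hgI, -⟩ := hlast y hyP hyN hyE
    exact hgI (hle hgX)
  exact ⟨R, I, X, hmemR, hR, hrad, hXp, hXK, hXI, hXform, hlast⟩

end Cfsg.Agent.H9MSC2
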