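import Mathlib
import Cfsg.Prelude
import Cfsg.Agent.Lib.Helper9.GenExtra1
import Cfsg.Agent.Lib.Helper9.MetaTwoSC5

set_option autoImplicit false

/-!
# Strongly closed generalised extraspecial subgroups: the commutator subgroup and the
extension argument
-/

namespace Cfsg.Agent.H9GE

open Cfsg Cfsg.FusionSystem Cfsg.Agent.Lib.Helper9 Cfsg.Agent.H9MSC
open scoped commutatorElement

variable {Ω : Type*} [Group Ω] {S : Subgroup Ω}

/-- the properties of the commutator subgroup `Z₀` of a generalised extraspecial subgroup `P`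
normal in `S` -/
structure ZFacts (p : ℕ) (S P Z₀ : Subgroup Ω) : Prop where
  le : Z₀ ≤ P
  card : Nat.card Z₀ = p
  comm : ∀ a ∈ P, ∀ b ∈ P, a * b * a⁻¹ * b⁻¹ ∈ Z₀
  pow : ∀ a ∈ P, a ^ p ∈ Z₀
  central : ∀ w ∈ Z₀, ∀ s ∈ S, s * w = w * s

theorem zfacts [Finite S] (p : ℕ) [Fact p.Prime] (hS : IsPGroup p S) {P : Subgroup Ω} (hPS : P ≤ S)
    (hnorm : ∀ s ∈ S, ∀ x ∈ P, s * x * s⁻¹ ∈ P) (hge : GE p ↥P) :
    ZFacts p S P ((commutator ↥P).map P.subtype) := by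
  haveI : Finite P := fs_finite_of_le hPS
  have hcard : Nat.card ((commutator ↥P).map P.subtype) = p := by
    rw [Subgroup.card_map_of_injective (Subgroup.subtype_injective P), hge.hcard]
  have hle : (commutator ↥P).map P.subtype ≤ P := by
    rintro _ ⟨x, -, rfl⟩
    exact x.2
  have heq : (commutator ↥P).map P.subtype = ⁅P, P⁆ := by
    rw [commutator_def, Subgroup.map_commutator, ← MonoidHom.range_eq_map, Subgroup.range_subtype]
  have hnormZ : ∀ s ∈ S, ∀ w ∈ (commutator ↥P).map P.subtype,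
      s * w * s⁻¹ ∈ (commutator ↥P).map P.subtype := by
    intro s hs w hw
    rw [heq] at hw ⊢
    have h1 : (MulAut.conj s).toMonoidHom w ∈ (⁅P, P⁆).map (MulAut.conj s).toMonoidHom :=
      Subgroup.mem_map_of_mem _ hw
    rw [Subgroup.map_commutator] at h1
    have h2 : P.map (MulAut.conj s).toMonoidHom ≤ P := by
      rintro _ ⟨x, hx, rfl⟩
      exact hnorm s hs x hx
    exact Subgroup.commutator_mono h2 h2 h1
  refine ⟨hle, hcard, ?_, ?_, ?_⟩
  · intro a ha b hb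
    refine ⟨⁅(⟨a, ha⟩ : P), ⟨b, hb⟩⁆, commElt_mem _ _, ?_⟩
    rfl
  · intro a ha
    exact ⟨(⟨a, ha⟩ : P) ^ p, hge.pow_mem _, rfl⟩
  · -- central in `S`
    obtain ⟨N, hNdef⟩ : ∃ N : Subgroup S, N = ((commutator ↥P).map P.subtype).subgroupOf S :=
      ⟨_, rfl⟩
    haveI hNn : N.Normal := by
      constructor
      intro n hn g
      rw [hNdef, Subgroup.mem_subgroupOf] at hn ⊢
      exact hnormZ g g.2 n hn
    have hNcard : Nat.card N = p := by
      rw [hNdef, Nat.card_congr (Subgroup.subgroupOfEquivOfLe (hle.trans hPS)).toEquiv, hcard]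
    have hNZ := Cfsg.Agent.Lib.Helper4.GC.le_center_of_card_prime p hS N hNcard
    intro w hw s hs
    have h1 : (⟨w, hPS (hle hw)⟩ : S) ∈ N := by
      rw [hNdef, Subgroup.mem_subgroupOf]; exact hw
    have h2 := Subgroup.mem_center_iff.mp (hNZ h1) ⟨s, hs⟩
    exact congrArg Subtype.val h2

namespace ZFacts

variable {p : ℕ} [hp : Fact p.Prime] {P Z₀ : Subgroup Ω}

theorem exists_pow (h : ZFacts p S P Z₀) {z w : Ω} (hz : z ∈ Z₀) (hz1 : z ≠ 1) (hw : w ∈ Z₀) :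
    ∃ k : ℕ, z ^ k = w := by
  haveI : Finite Z₀ := Nat.finite_of_card_ne_zero (by rw [h.card]; exact hp.out.ne_zero)
  have hne : (⟨z, hz⟩ : Z₀) ≠ 1 := fun h' => hz1 (congrArg Subtype.val h')
  have h1 := mem_zpowers_of_prime_card (G := Z₀) h.card (g := ⟨z, hz⟩) (g' := ⟨w, hw⟩) hne
  rw [← mem_powers_iff_mem_zpowers] at h1
  obtain ⟨k, hk⟩ := h1
  refine ⟨k, ?_⟩
  have hk' : (⟨z, hz⟩ : Z₀) ^ k = ⟨w, hw⟩ := hk
  exact congrArg Subtype.val hk'

theorem pow_eq_one (h : ZFacts p S P Z₀) {w : Ω} (hw : w ∈ Z₀) : w ^ p = 1 := by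
  have h1 : (⟨w, hw⟩ : Z₀) ^ Nat.card Z₀ = 1 := pow_card_eq_one'
  rw [h.card] at h1
  exact congrArg Subtype.val h1

theorem inv_comm (h : ZFacts p S P Z₀) {a b : Ω} (ha : a ∈ P) (hb : b ∈ P) :
    a⁻¹ * (b * a * b⁻¹) ∈ Z₀ := by
  have h1 := h.comm a⁻¹ (P.inv_mem ha) b hb
  have h2 : a⁻¹ * b * a⁻¹⁻¹ * b⁻¹ = a⁻¹ * (b * a * b⁻¹) := by group
  rwa [h2] at h1

end ZFacts

end Cfsg.Agent.H9GE
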