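import Mathlib
import Cfsg.Prelude
import Cfsg.Agent.Lib.Helper9.GenExtra6

set_option autoImplicit false

/-!
# Strongly closed generalised extraspecial subgroups: centralizers of conjugates of central elements
-/

namespace Cfsg.Agent.H9GE

open Cfsg Cfsg.FusionSystem Cfsg.Agent.Lib.Helper9 Cfsg.Agent.H9MSC
open scoped commutatorElement

variable {Ω : Type*} [Group Ω] {S : Subgroup Ω}

/-- if `z₁ ∈ P ∖ Z₀` is conjugate in the system to an element of `Z₀`, then `C_P(z₁)` is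
elementary abelian -/
theorem centralizer_elemAb [Finite S] (p : ℕ) [Fact p.Prime] (hS : IsPGroup p S) (F : FusionSystem S)
    (hF : F.IsSaturated p) {P Z₀ : Subgroup Ω} (hP : F.StronglyClosed P) (hZ : ZFacts p S P Z₀)
    {z₁ : Ω} (hz₁Z : z₁ ∉ Z₀) (φ : Subgroup.zpowers z₁ →* Ω)
    (hφ : φ ∈ F.Hom (Subgroup.zpowers z₁)) (hφz : φ ⟨z₁, Subgroup.mem_zpowers z₁⟩ ∈ Z₀) :
    (∀ a ∈ P, ∀ b ∈ P, a * z₁ = z₁ * a → b * z₁ = z₁ * b → a * b = b * a) ∧
    (∀ a ∈ P, a * z₁ = z₁ * a → a ^ p = 1) := by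
  classical
  have hPS : P ≤ S := hP.1
  obtain ⟨z₀, hz₀def⟩ : ∃ z₀ : Ω, z₀ = φ ⟨z₁, Subgroup.mem_zpowers z₁⟩ := ⟨_, rfl⟩
  have hz₀Z : z₀ ∈ Z₀ := by rw [hz₀def]; exact hφz
  have hz₀S : z₀ ∈ S := hPS (hZ.le hz₀Z)
  -- the range of `φ`
  have hrange : φ.range = Subgroup.zpowers z₀ := by
    ext y
    constructor
    · rintro ⟨⟨x, hx⟩, rfl⟩
      obtain ⟨k, rfl⟩ := Subgroup.mem_zpowers_iff.mp hx
      have h1 : (⟨z₁ ^ k, hx⟩ : Subgroup.zpowers z₁) = ⟨z₁, Subgroup.mem_zpowers z₁⟩ ^ k :=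
        Subtype.ext (by simp)
      rw [h1, map_zpow, ← hz₀def]
      exact Subgroup.zpow_mem_zpowers _ _
    · intro hy
      obtain ⟨k, rfl⟩ := Subgroup.mem_zpowers_iff.mp hy
      exact ⟨⟨z₁, Subgroup.mem_zpowers z₁⟩ ^ k, by rw [map_zpow, ← hz₀def]⟩
  -- `⟨z₀⟩` is fully centralized
  have hfc : F.IsFullyCentralized (Subgroup.zpowers z₀) := by
    refine ⟨by rw [Subgroup.zpowers_le]; exact hz₀S, ?_⟩
    intro Q' _
    have h1 : centralizerIn S (Subgroup.zpowers z₀) = S := by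
      apply le_antisymm inf_le_left
      intro s hs
      have hsc : s ∈ Subgroup.centralizer ((Subgroup.zpowers z₀ : Subgroup Ω) : Set Ω) := by
        rw [Subgroup.mem_centralizer_iff]
        intro x hx
        obtain ⟨k, rfl⟩ := Subgroup.mem_zpowers_iff.mp hx
        have h2 : Commute s z₀ := hZ.central z₀ hz₀Z s hs
        exact (h2.zpow_right k).eq.symm
      exact ⟨hs, hsc⟩
    rw [h1]
    exact Subgroup.card_le_of_le (fs_centralizerIn_le S Q')
  have hrec := fs_extension_axiom p hS F hF hfc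
  obtain ⟨ψ, hψF, hψ⟩ := hrec.2 (Subgroup.zpowers z₁) φ hφ hrange
  have hψinj := F.injective_of_mem hψF
  -- centralizing elements lie in the extender
  have hext : ∀ a ∈ S, a * z₁ = z₁ * a → a ∈ extender S (Subgroup.zpowers z₁) φ := by
    intro a ha haz
    have hcomm : ∀ x ∈ Subgroup.zpowers z₁, a * x = x * a := by
      intro x hx
      obtain ⟨k, rfl⟩ := Subgroup.mem_zpowers_iff.mp hx
      exact ((show Commute a z₁ from haz).zpow_right k).eq
    rw [mem_extender_iff]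
    refine ⟨ha, Subgroup.centralizer_le_normalizer _ ?_, 1, S.one_mem, ?_⟩
    · rw [Subgroup.mem_centralizer_iff]
      intro x hx
      exact (hcomm x hx).symm
    · intro x hx
      have h1 : (⟨a * (x : Ω) * a⁻¹, hx⟩ : Subgroup.zpowers z₁) = x := by
        apply Subtype.ext
        show a * (x : Ω) * a⁻¹ = x
        rw [hcomm x x.2, mul_inv_cancel_right]
      rw [h1]; simp
  have hextZ : ∀ w ∈ Z₀, w ∈ extender S (Subgroup.zpowers z₁) φ := by
    intro w hw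
    apply hext w (hPS (hZ.le hw))
    have hz₁mem : z₁ ∈ S := (F.le_of_mem hφ).1 (Subgroup.mem_zpowers z₁)
    exact (hZ.central w hw z₁ hz₁mem).symm
  have hz₁ext : z₁ ∈ extender S (Subgroup.zpowers z₁) φ :=
    hext z₁ ((F.le_of_mem hφ).1 (Subgroup.mem_zpowers z₁)) rfl
  have hψz : ψ ⟨z₁, hz₁ext⟩ = z₀ := by
    rw [hψ z₁ (Subgroup.mem_zpowers z₁) hz₁ext, hz₀def]
  -- the key contradiction
  have key : ∀ (w : Ω) (hw : w ∈ Z₀), w ≠ 1 → ψ ⟨w, hextZ w hw⟩ ∈ Z₀ → False := by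
    intro w hw hw1 hψw
    have hψw1 : ψ ⟨w, hextZ w hw⟩ ≠ 1 := by
      intro h
      apply hw1
      have h2 : ψ ⟨w, hextZ w hw⟩ = ψ 1 := by rw [h, map_one]
      exact congrArg Subtype.val (hψinj h2)
    obtain ⟨k, hk⟩ := hZ.exists_pow hψw hψw1 hz₀Z
    have h3 : ψ ((⟨w, hextZ w hw⟩ : extender S (Subgroup.zpowers z₁) φ) ^ k) = ψ ⟨z₁, hz₁ext⟩ := by
      rw [map_pow, hk, hψz]
    have h4 := congrArg Subtype.val (hψinj h3)
    apply hz₁Z
    have h5 : w ^ k = z₁ := h4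
    rw [← h5]
    exact Z₀.pow_mem hw k
  have hψP : ∀ (a : Ω) (ha : a ∈ P) (hae : a ∈ extender S (Subgroup.zpowers z₁) φ),
      ψ ⟨a, hae⟩ ∈ P := fun a ha hae => fs_stronglyClosed_mem F hP hψF ⟨a, hae⟩ ha
  constructor
  · intro a ha b hb haz hbz
    by_contra hab
    have hae := hext a (hPS ha) haz
    have hbe := hext b (hPS hb) hbz
    have hwZ : a * b * a⁻¹ * b⁻¹ ∈ Z₀ := hZ.comm a ha b hb
    apply key _ hwZ
    · intro h
      apply hab
      calc a * b = (a * b * a⁻¹ * b⁻¹) * b * a := by group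
        _ = b * a := by rw [h, one_mul]
    · have h1 : (⟨a * b * a⁻¹ * b⁻¹, hextZ _ hwZ⟩ : extender S (Subgroup.zpowers z₁) φ) =
          ⟨a, hae⟩ * ⟨b, hbe⟩ * ⟨a, hae⟩⁻¹ * ⟨b, hbe⟩⁻¹ := Subtype.ext rfl
      rw [h1, map_mul, map_mul, map_mul, map_inv, map_inv]
      exact hZ.comm _ (hψP a ha hae) _ (hψP b hb hbe)
  · intro a ha haz
    by_contra hap
    have hae := hext a (hPS ha) haz
    have hwZ : a ^ p ∈ Z₀ := hZ.pow a ha
    apply key _ hwZ hap
    have h1 : (⟨a ^ p, hextZ _ hwZ⟩ : extender S (Subgroup.zpowers z₁) φ) = ⟨a, hae⟩ ^ p :=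
      Subtype.ext rfl
    rw [h1, map_pow]
    exact hZ.pow _ (hψP a ha hae)

end Cfsg.Agent.H9GE
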