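import Mathlib
import Cfsg.Prelude
import Cfsg.Agent.Lib.Helper9.GenExtra3
import Cfsg.Agent.Lib.Helper9.GenExtra5
import Cfsg.Agent.Lib.Helper9.GenExtra7

set_option autoImplicit false

/-!
# Strongly closed generalised extraspecial subgroups: a non-central conjugate of a central element
-/

namespace Cfsg.Agent.H9GE

open Cfsg Cfsg.FusionSystem Cfsg.Agent.Lib.Helper9 Cfsg.Agent.H9MSC Cfsg.Agent.H9MSC2
open scoped commutatorElement

variable {Ω : Type*} [Group Ω] {S : Subgroup Ω}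

/-- an essential subgroup not containing `P` contains `Z₀`, and some automorphism moves `Z₀` -/
theorem exists_moving_aut [Finite S] (p : ℕ) [Fact p.Prime] (hS : IsPGroup p S) (F : FusionSystem S)
    (hF : F.IsSaturated p) (P Z₀ : Subgroup Ω) (hP : F.StronglyClosed P) (hZ : ZFacts p S P Z₀)
    (E : Subgroup Ω) (hE : F.IsEssential p E) (hPE : ¬ P ≤ E) :
    Z₀ ≤ E ∧ ∃ α ∈ F.autGroup E, ∃ w : E, (w : Ω) ∈ Z₀ ∧ ((α w : E) : Ω) ∉ Z₀ := by
  classical
  have hES : E ≤ S := hE.1.1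
  have hPS : P ≤ S := hP.1
  haveI : Finite E := fs_finite_of_le hES
  have hEp : IsPGroup p E := hS.to_le hES
  have hEcent : centralizerIn S E ≤ E := hE.1.2 E (fs_isConj_refl F hES)
  have hZE : Z₀ ≤ E := by
    intro w hw
    apply hEcent
    refine ⟨hPS (hZ.le hw), ?_⟩
    show w ∈ Subgroup.centralizer (E : Set Ω)
    rw [Subgroup.mem_centralizer_iff]
    intro x hx
    exact hZ.central w hw x (hES hx)
  refine ⟨hZE, ?_⟩
  obtain ⟨R, I, X, hmemR, hR, hrad, hXp, hXK, hXI, hXform, hlast⟩ :=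
    essential_setup p hS F hF P hP E hE hPE
  by_contra hno
  push Not at hno
  obtain ⟨Z, hZdef⟩ : ∃ Z : Subgroup E, Z = Z₀.subgroupOf E := ⟨_, rfl⟩
  have hmemZ : ∀ x : E, x ∈ Z ↔ (x : Ω) ∈ Z₀ := by
    intro x; rw [hZdef]; exact Subgroup.mem_subgroupOf
  have hZR : Z ≤ R := by
    intro x hx
    rw [hmemR]
    exact hZ.le ((hmemZ x).mp hx)
  have hZinv : ∀ g : F.autGroup E, ∀ x ∈ Z, (F.autGroup E).subtype g x ∈ Z := by
    intro g x hx
    rw [hmemZ] at hx ⊢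
    exact hno g.1 g.2 x hx
  have hmono := chain3_mono hZR
  obtain ⟨N, hNdef⟩ : ∃ N : Subgroup (F.autGroup E),
    N = (chainStabilizer (chain3 Z R) hmono rfl).comap (F.autGroup E).subtype := ⟨_, rfl⟩
  have hmemN : ∀ g : F.autGroup E, g ∈ N ↔ StabChain (chain3 Z R) (g : MulAut E) := by
    intro g; rw [hNdef]; rfl
  have hchain_inv : ∀ g : F.autGroup E, ∀ i : ℕ, ∀ y ∈ chain3 Z R i, (g : MulAut E) y ∈ chain3 Z R i := by
    intro g i y hy
    rcases i with _ | _ | _ | i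
    · have hy' : y ∈ (⊥ : Subgroup E) := hy
      rw [Subgroup.mem_bot] at hy'
      rw [hy', map_one]
      exact Subgroup.one_mem _
    · exact hZinv g y hy
    · exact hR g y hy
    · exact Subgroup.mem_top _
  have hNn : N.Normal := by
    constructor
    intro n hn g
    rw [hmemN] at hn ⊢
    exact stabChain_conj hn (hchain_inv g) (hchain_inv g⁻¹)
  have hNp : IsPGroup p N := by
    rw [hNdef]
    exact (isPGroup_chainStabilizer p hEp hmono rfl 3 rfl).comap_of_injective _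
      (Subgroup.subtype_injective _)
  have hNI := hrad N hNn hNp
  apply hXI
  intro g hg
  apply hNI
  rw [hmemN]
  obtain ⟨y, hyP, Hy⟩ := hXform g hg
  intro i x hx
  rcases i with _ | _ | _ | i
  · show x⁻¹ * (g : MulAut E) x ∈ (⊥ : Subgroup E)
    rw [Subgroup.mem_bot]
    apply Subtype.ext
    show ((x⁻¹ * (g : MulAut E) x : E) : Ω) = 1
    rw [Subgroup.coe_mul, Hy, Subgroup.coe_inv]
    have h1 := hZ.central (x : Ω) ((hmemZ x).mp hx) y (hPS hyP)
    rw [h1]; group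
  · show x⁻¹ * (g : MulAut E) x ∈ Z
    rw [hmemZ]
    show ((x⁻¹ * (g : MulAut E) x : E) : Ω) ∈ Z₀
    rw [Subgroup.coe_mul, Hy, Subgroup.coe_inv]
    exact hZ.inv_comm ((hmemR x).mp hx) hyP
  · exact hXK g hg x
  · exact Subgroup.mem_top _

/-- the subgroup `C_P(z₁)` for a non-central conjugate `z₁` of a central element -/
theorem exists_maxAb [Finite S] (p : ℕ) [Fact p.Prime] (hS : IsPGroup p S) (F : FusionSystem S)
    (hF : F.IsSaturated p) (P : Subgroup Ω) (hP : F.StronglyClosed P) (hge : GE p ↥P)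
    (E : Subgroup Ω) (hE : F.IsEssential p E) (hPE : ¬ P ≤ E) :
    ∃ (z₁ : Ω) (C₁ : Subgroup ↥P), MaxAb p ↥P C₁ ∧ (∀ x : ↥P, x ∈ C₁ ↔ (x : Ω) * z₁ = z₁ * x) ∧
      z₁ ∈ P ∧ z₁ ∉ (commutator ↥P).map P.subtype ∧
      ∃ α ∈ F.autGroup E, ∃ w : E, (w : Ω) ∈ (commutator ↥P).map P.subtype ∧ ((α w : E) : Ω) = z₁ := by
  classical
  have hES : E ≤ S := hE.1.1
  have hPS : P ≤ S := hP.1
  haveI : Finite P := fs_finite_of_le hPS
  have hZ := zfacts p hS hPS (fun s hs x hx => conj_mem_of_stronglyClosed F hP hs hx) hge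
  obtain ⟨hZE, α, hα, w, hwZ, hαw⟩ := exists_moving_aut p hS F hF P _ hP hZ E hE hPE
  obtain ⟨z₁, hz₁def⟩ : ∃ z₁ : Ω, z₁ = ((α w : E) : Ω) := ⟨_, rfl⟩
  have hz₁E : z₁ ∈ E := by rw [hz₁def]; exact (α w).2
  have hz₁P : z₁ ∈ P := by
    rw [hz₁def]
    exact fs_stronglyClosed_mem F hP ((mem_autGroup_iff F hES α).mp hα) w (hZ.le hwZ)
  have hz₁Z : z₁ ∉ (commutator ↥P).map P.subtype := by rw [hz₁def]; exact hαw
  -- the map `⟨z₁⟩ → Z₀`
  have hαinv : α⁻¹ ∈ F.autGroup E := Subgroup.inv_mem _ hα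
  have hφ₀ : E.subtype.comp (α⁻¹ : MulAut E).toMonoidHom ∈ F.Hom E :=
    (mem_autGroup_iff F hES _).mp hαinv
  have hQE : Subgroup.zpowers z₁ ≤ E := by rw [Subgroup.zpowers_le]; exact hz₁E
  have hφ := fs_restrict_mem F hφ₀ hQE
  have hφz : (E.subtype.comp (α⁻¹ : MulAut E).toMonoidHom).comp (Subgroup.inclusion hQE)
      ⟨z₁, Subgroup.mem_zpowers z₁⟩ ∈ (commutator ↥P).map P.subtype := by
    show (((α⁻¹ : MulAut E) ⟨z₁, hz₁E⟩ : E) : Ω) ∈ (commutator ↥P).map P.subtype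
    have h1 : (⟨z₁, hz₁E⟩ : E) = α w := Subtype.ext hz₁def
    rw [h1, MulAut.inv_apply_self]
    exact hwZ
  obtain ⟨hab, hexp⟩ := centralizer_elemAb p hS F hF hP hZ hz₁Z _ hφ hφz
  -- the centralizer as a subgroup of `P`
  have hcc := hge.commElt_center
  obtain ⟨C₁, hC₁def⟩ : ∃ C₁ : Subgroup ↥P, C₁ = (commWith hcc ⟨z₁, hz₁P⟩).ker := ⟨_, rfl⟩
  have hmemC : ∀ x : ↥P, x ∈ C₁ ↔ (x : Ω) * z₁ = z₁ * x := by
    intro x
    rw [hC₁def, mem_ker_commWith]
    constructor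
    · intro h; exact congrArg Subtype.val h
    · intro h; exact Subtype.ext h
  have hnc : ∃ x : ↥P, x * (⟨z₁, hz₁P⟩ : ↥P) ≠ ⟨z₁, hz₁P⟩ * x := by
    by_contra hno
    push Not at hno
    obtain ⟨a, b, hne⟩ := hge.not_comm
    apply hne
    apply Subtype.ext
    exact hab a a.2 b b.2 (congrArg Subtype.val (hno a)) (congrArg Subtype.val (hno b))
  refine ⟨z₁, C₁, ⟨?_, ?_, ?_⟩, hmemC, hz₁P, hz₁Z, α, hα, w, hwZ, hz₁def.symm⟩
  · rw [hC₁def]
    exact hge.index_ker_commWith hcc _ hnc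
  · intro a ha b hb
    apply Subtype.ext
    exact hab a a.2 b b.2 ((hmemC a).mp ha) ((hmemC b).mp hb)
  · intro a ha
    apply Subtype.ext
    exact hexp a a.2 ((hmemC a).mp ha)

end Cfsg.Agent.H9GE
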