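import Mathlib
import Cfsg.Prelude
import Cfsg.Agent.Lib.Helper7.Wielandt6
import Cfsg.Agent.Lib.Helper9.MetaSC3
import Cfsg.Agent.Lib.Helper9.GenExtra5

set_option autoImplicit false

/-!
# A transvection outside the radical: an element inverting its centre and normalizing it modulo
the radical
-/

namespace Cfsg.Agent.H9GE

open Cfsg Cfsg.Agent.Lib.Helper9 Cfsg.Agent.H9MSC

theorem partB {B E : Type*} [Group B] [Group E] [Finite E] {p : ℕ} [hp : Fact p.Prime]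
    (ρ : B →* MulAut E) (hE : IsPGroup p E) (hρ : Function.Injective ρ) (R : Subgroup E)
    (hR : ∀ g : B, ∀ x ∈ R, ρ g x ∈ R) (hRcomm : ∀ x ∈ R, ∀ y ∈ R, x * y = y * x)
    (I : Subgroup B) (hrad : ∀ N : Subgroup B, N.Normal → IsPGroup p N → N ≤ I)
    (g : B) (hgK : ∀ e : E, e⁻¹ * ρ g e ∈ R) (hgI : g ∉ I) (hgp : ∃ k : ℕ, g ^ p ^ k = 1)
    (Z : Subgroup E) (hZR : Z ≤ R) (hZcard : Nat.card Z = p) (hgZ : ∀ r ∈ R, r⁻¹ * ρ g r ∈ Z)
    (hgfix : ∀ z ∈ Z, ρ g z = z) :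
    ∃ ν : B, (∀ z ∈ Z, ρ ν z = z⁻¹) ∧ ν * g * ν⁻¹ * g⁻¹ ∈ I := by
  classical
  haveI : Finite (MulAut E) :=
    Finite.of_injective (fun e : MulAut E => (e : E → E)) DFunLike.coe_injective
  haveI : Finite B := Finite.of_injective ρ hρ
  haveI hKn : (modStab ρ R hR).Normal := modStab_normal ρ R hR
  haveI hFRn : (fixer ρ R).Normal := fixer_normal ρ R hR
  have hK0 : modStab ρ R hR ⊓ fixer ρ R ≤ I := by
    apply hrad _ inferInstance
    rintro ⟨h, hh⟩
    obtain ⟨k, hk⟩ := pow_eq_one_of_modStab_fixer ρ hE hρ R hR hh.1 hh.2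
    exact ⟨k, Subtype.ext hk⟩
  have hgmod : g ∈ modStab ρ R hR := hgK
  -- Baer–Suzuki
  have hXp : IsPGroup p (Subgroup.zpowers g) := by
    obtain ⟨k, hk⟩ := hgp
    rintro ⟨z, hz⟩
    obtain ⟨n, rfl⟩ := Subgroup.mem_zpowers_iff.mp hz
    refine ⟨k, Subtype.ext ?_⟩
    show (g ^ n) ^ p ^ k = 1
    rw [← zpow_natCast, ← zpow_mul, mul_comm, zpow_mul, zpow_natCast, hk, one_zpow]
  obtain ⟨β, hβ⟩ : ∃ β : B, ¬ IsPGroup p
      ↥(Subgroup.zpowers g ⊔ (Subgroup.zpowers g).map (MulAut.conj β).toMonoidHom) := by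
    by_contra hall
    push Not at hall
    have h1 : Subgroup.zpowers g ≤ Cfsg.piCore {p} B :=
      (Cfsg.Agent.Lib.Helper7.baer_suzuki (Subgroup.zpowers g) hall).2
    have h2 : Cfsg.piCore {p} B ≤ I :=
      hrad _ inferInstance (Cfsg.Agent.Lib.Helper7.isPGroup_piCore_singleton p)
    exact hgI (h2 (h1 (Subgroup.mem_zpowers g)))
  obtain ⟨g', hg'def⟩ : ∃ g' : B, g' = β * g * β⁻¹ := ⟨_, rfl⟩
  have hg'mod : g' ∈ modStab ρ R hR := by
    rw [hg'def]; exact hKn.conj_mem g hgmod β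
  have hHle : Subgroup.zpowers g ⊔ (Subgroup.zpowers g).map (MulAut.conj β).toMonoidHom ≤
      Subgroup.closure ({g, g'} : Set B) := by
    apply sup_le
    · rw [Subgroup.zpowers_le]
      exact Subgroup.subset_closure (by simp)
    · rintro _ ⟨x, hx, rfl⟩
      obtain ⟨n, rfl⟩ := Subgroup.mem_zpowers_iff.mp hx
      have h1 : (MulAut.conj β).toMonoidHom (g ^ n) = g' ^ n := by
        rw [map_zpow, hg'def]; rfl
      rw [h1]
      exact Subgroup.zpow_mem _ (Subgroup.subset_closure (by simp)) n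
  have hclmod : Subgroup.closure ({g, g'} : Set B) ≤ modStab ρ R hR := by
    rw [Subgroup.closure_le]
    rintro x hx
    rcases hx with rfl | hx
    · exact hgmod
    · rw [Set.mem_singleton_iff] at hx
      rw [hx]; exact hg'mod
  -- the restricted action
  obtain ⟨resA, hresA⟩ : ∃ resA : B →* MulAut ↥R, resA = resAct ρ R hR := ⟨_, rfl⟩
  have hres_apply : ∀ (b : B) (r : ↥R), ((resA b r : ↥R) : E) = ρ b r := by
    intro b r; rw [hresA]; rfl
  have hcomm : ∀ x y : ↥R, x * y = y * x := by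
    intro x y
    apply Subtype.ext
    exact hRcomm x x.2 y y.2
  obtain ⟨Z₁, hZ₁def⟩ : ∃ Z₁ : Subgroup ↥R, Z₁ = Z.subgroupOf R := ⟨_, rfl⟩
  have hmemZ₁ : ∀ r : ↥R, r ∈ Z₁ ↔ (r : E) ∈ Z := by
    intro r; rw [hZ₁def]; exact Subgroup.mem_subgroupOf
  obtain ⟨Z₂, hZ₂def⟩ : ∃ Z₂ : Subgroup ↥R, Z₂ = Z₁.map (resA β).toMonoidHom := ⟨_, rfl⟩
  have hZ₁card : Nat.card Z₁ = p := by
    rw [hZ₁def, Nat.card_congr (Subgroup.subgroupOfEquivOfLe hZR).toEquiv, hZcard]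
  have hZ₂card : Nat.card Z₂ = p := by
    rw [hZ₂def, Subgroup.card_map_of_injective (MulEquiv.injective _), hZ₁card]
  have hu₂ : resA g' = resA β * resA g * (resA β)⁻¹ := by
    rw [hg'def, map_mul, map_mul, map_inv]
  have h1 : ∀ r : ↥R, r⁻¹ * resA g r ∈ Z₁ := by
    intro r
    rw [hmemZ₁]
    show ((r⁻¹ * resA g r : ↥R) : E) ∈ Z
    rw [Subgroup.coe_mul, hres_apply, Subgroup.coe_inv]
    exact hgZ r r.2
  have f1 : ∀ r ∈ Z₁, resA g r = r := by
    intro r hr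
    apply Subtype.ext
    rw [hres_apply]
    exact hgfix r ((hmemZ₁ r).mp hr)
  have h2 : ∀ r : ↥R, r⁻¹ * resA g' r ∈ Z₂ := by
    intro r
    rw [hZ₂def, hu₂]
    refine ⟨((resA β)⁻¹ r)⁻¹ * resA g ((resA β)⁻¹ r), h1 _, ?_⟩
    show resA β (((resA β)⁻¹ r)⁻¹ * resA g ((resA β)⁻¹ r)) = r⁻¹ * (resA β * resA g * (resA β)⁻¹) r
    rw [map_mul, map_inv, MulAut.apply_inv_self]
    rfl
  have f2 : ∀ r ∈ Z₂, resA g' r = r := by
    intro r hr
    rw [hZ₂def] at hr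
    obtain ⟨s, hs, rfl⟩ := hr
    rw [hu₂]
    show resA β (resA g ((resA β)⁻¹ (resA β s))) = resA β s
    rw [MulAut.inv_apply_self, f1 s hs]
  have hmapcl : (Subgroup.closure ({g, g'} : Set B)).map resA =
      Subgroup.closure ({resA g, resA g'} : Set (MulAut ↥R)) := by
    rw [MonoidHom.map_closure, Set.image_pair]
  rcases transvection_pair hcomm (hE.to_subgroup R) (resA g) (resA g') Z₁ Z₂ hZ₁card hZ₂card
    h1 h2 f1 f2 with hdeg | ⟨ν, hν, hνinv, hνcomm⟩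
  · -- the degenerate case: a `p`-group
    exfalso
    apply hβ
    apply IsPGroup.to_le _ hHle
    rintro ⟨h, hh⟩
    have h3 : resA h ∈ Subgroup.closure ({resA g, resA g'} : Set (MulAut ↥R)) := by
      rw [← hmapcl]; exact ⟨h, hh, rfl⟩
    obtain ⟨k, hk⟩ := hdeg _ h3
    have h4 : h ^ p ^ k ∈ modStab ρ R hR ⊓ fixer ρ R := by
      refine ⟨Subgroup.pow_mem _ (hclmod hh) _, ?_⟩
      intro r hr
      have h5 : resA (h ^ p ^ k) = 1 := by rw [map_pow, hk]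
      have h6 := congrArg (fun f : MulAut ↥R => ((f ⟨r, hr⟩ : ↥R) : E)) h5
      simp only [hres_apply] at h6
      exact h6
    obtain ⟨m, hm⟩ := pow_eq_one_of_modStab_fixer ρ hE hρ R hR h4.1 h4.2
    refine ⟨k + m, Subtype.ext ?_⟩
    show h ^ p ^ (k + m) = 1
    rw [pow_add, pow_mul]; exact hm
  · -- the inversion
    rw [← hmapcl] at hν
    obtain ⟨ν', hν'cl, rfl⟩ := hν
    refine ⟨ν', ?_, ?_⟩
    · intro z hz
      have h3 := hνinv ⟨z, hZR hz⟩ ((hmemZ₁ _).mpr hz)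
      have h4 := congrArg (fun r : ↥R => (r : E)) h3
      simp only [hres_apply, Subgroup.coe_inv] at h4
      exact h4
    · apply hK0
      have hν'mod := hclmod hν'cl
      refine ⟨Subgroup.mul_mem _ (hKn.conj_mem g hgmod ν') (Subgroup.inv_mem _ hgmod), ?_⟩
      intro r hr
      have h5 : resA (ν' * g * ν'⁻¹ * g⁻¹) = 1 := by
        rw [map_mul, map_mul, map_mul, map_inv, map_inv, hνcomm, mul_assoc (resA g), mul_inv_cancel,
          mul_one, mul_inv_cancel]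
      have h6 := congrArg (fun f : MulAut ↥R => ((f ⟨r, hr⟩ : ↥R) : E)) h5
      simp only [hres_apply] at h6
      exact h6

end Cfsg.Agent.H9GE
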