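import Mathlib
import Cfsg.Prelude
import Cfsg.Agent.Lib.Helper4.OmegaOdd
import Cfsg.Agent.Lib.Helper9.GenExtra8
import Cfsg.Agent.Lib.Helper9.GenExtra9

set_option autoImplicit false

/-!
# Strongly closed generalised extraspecial subgroups: the odd case
-/

namespace Cfsg.Agent.H9GE

open Cfsg Cfsg.FusionSystem Cfsg.Agent.Lib.Helper9 Cfsg.Agent.H9MSC Cfsg.Agent.H9MSC2
open scoped commutatorElement

variable {Ω : Type*} [Group Ω] {S : Subgroup Ω}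

theorem odd_contra [Finite S] (p : ℕ) [hp : Fact p.Prime] (hp2 : p ≠ 2) (hS : IsPGroup p S)
    (F : FusionSystem S) (hF : F.IsSaturated p) (P : Subgroup Ω) (hP : F.StronglyClosed P)
    (hge : GE p ↥P) (E : Subgroup Ω) (hE : F.IsEssential p E) (hPE : ¬ P ≤ E) (z₁ : Ω)
    (hab : ∀ a ∈ P, ∀ b ∈ P, a * z₁ = z₁ * a → b * z₁ = z₁ * b → a * b = b * a)
    (hexp : ∀ a ∈ P, a * z₁ = z₁ * a → a ^ p = 1)
    (α : MulAut E) (hα : α ∈ F.autGroup E) (w : E)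
    (hwZ : (w : Ω) ∈ (commutator ↥P).map P.subtype) (hαw : ((α w : E) : Ω) = z₁)
    (hz₁Z : z₁ ∉ (commutator ↥P).map P.subtype)
    (hbad : ∀ y ∈ P, y * z₁ ≠ z₁ * y → y ^ p ≠ 1) : False := by
  classical
  have hES : E ≤ S := hE.1.1
  have hPS : P ≤ S := hP.1
  haveI : Finite E := fs_finite_of_le hES
  haveI : Finite P := fs_finite_of_le hPS
  have hEp : IsPGroup p E := hS.to_le hES
  have hEcent : centralizerIn S E ≤ E := hE.1.2 E (fs_isConj_refl F hES)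
  have hErad := Cfsg.Agent.S5080.result p hS F hF E hE
  have hZ := zfacts p hS hPS (fun s hs x hx => conj_mem_of_stronglyClosed F hP hs hx) hge
  obtain ⟨Z₀, hZ₀def⟩ : ∃ Z₀ : Subgroup Ω, Z₀ = (commutator ↥P).map P.subtype := ⟨_, rfl⟩
  rw [← hZ₀def] at hZ hwZ hz₁Z
  obtain ⟨hZE, -⟩ := exists_moving_aut p hS F hF P Z₀ hP hZ E hE hPE
  obtain ⟨R, I₀, X, hmemR, hR, hrad₀, hXp, hXK, hXI₀, hXform, -⟩ :=
    essential_setup p hS F hF P hP E hE hPE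
  -- the inner automorphisms
  obtain ⟨I, hIdef⟩ : ∃ I : Subgroup (F.autGroup E), I = (Inn E).subgroupOf (F.autGroup E) :=
    ⟨_, rfl⟩
  have hrad : ∀ N : Subgroup (F.autGroup E), N.Normal → IsPGroup p N → N ≤ I := by
    intro N hN hNp n hn
    have h1 : n ∈ Cfsg.pCore p (F.autGroup E) := le_pCore hN hNp hn
    have h2 : (n : MulAut E) ∈ (Cfsg.pCore p (F.autGroup E)).map (F.autGroup E).subtype :=
      ⟨n, h1, rfl⟩
    rw [hErad.2] at h2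
    rw [hIdef]; exact h2
  have hIn : I.Normal := by
    obtain ⟨hn, -⟩ := hE.2.2
    rw [hIdef]; exact hn
  have hIp : IsPGroup p I := by
    rw [hIdef]
    have h1 : IsPGroup p ((⊤ : Subgroup E).map (MulAut.conj : E →* MulAut E)) :=
      (hEp.to_subgroup ⊤).map _
    rw [← MonoidHom.range_eq_map] at h1
    exact h1.comap_subtype
  have hXI : ¬ X ≤ I := fun h => hXI₀ (h.trans (hrad₀ I hIn hIp))
  -- `R` centralizes `z₁`
  have hRC : ∀ r : E, r ∈ R → (r : Ω) * z₁ = z₁ * r := by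
    intro r hr
    by_contra hne
    have hrP : (r : Ω) ∈ P := (hmemR r).mp hr
    have h1 : (r : Ω) ^ p ≠ 1 := hbad _ hrP hne
    obtain ⟨k, hk⟩ := hZ.exists_pow (hZ.pow _ hrP) h1 hwZ
    apply hz₁Z
    have h2 : w = (r ^ p) ^ k := by
      apply Subtype.ext
      rw [← hk]; rfl
    rw [← hαw, h2, map_pow, map_pow]
    show (((α r : E) : Ω) ^ p) ^ k ∈ Z₀
    apply Z₀.pow_mem
    apply hZ.pow
    rw [← hmemR]
    exact hR ⟨α, hα⟩ r hr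
  have hRcomm : ∀ x ∈ R, ∀ y ∈ R, x * y = y * x := by
    intro x hx y hy
    apply Subtype.ext
    exact hab _ ((hmemR x).mp hx) _ ((hmemR y).mp hy) (hRC x hx) (hRC y hy)
  -- the element `g`
  obtain ⟨g, hgX, hgI⟩ := SetLike.not_le_iff_exists.mp hXI
  obtain ⟨y₁, hy₁P, Hy⟩ := hXform g hgX
  have hy₁S : y₁ ∈ S := hPS hy₁P
  have hy₁N : y₁ ∈ Subgroup.normalizer (E : Set Ω) := mem_normalizer_of_induces (g : MulAut E) y₁ Hy
  have hy₁z : y₁ * z₁ ≠ z₁ * y₁ := by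
    intro hcomm
    apply hgI
    have hK0 : modStab (F.autGroup E).subtype R hR ⊓ fixer (F.autGroup E).subtype R ≤ I := by
      haveI := fixer_normal (F.autGroup E).subtype R hR
      apply hrad _ inferInstance
      rintro ⟨h, hh⟩
      obtain ⟨k, hk⟩ := pow_eq_one_of_modStab_fixer (F.autGroup E).subtype hEp
        (Subgroup.subtype_injective _) R hR hh.1 hh.2
      exact ⟨k, Subtype.ext hk⟩
    apply hK0
    refine ⟨hXK g hgX, ?_⟩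
    intro r hr
    apply Subtype.ext
    show (((g : MulAut E) r : E) : Ω) = r
    rw [Hy]
    have h1 := hab _ hy₁P _ ((hmemR r).mp hr) hcomm (hRC r hr)
    rw [h1, mul_inv_cancel_right]
  have hy₁p : y₁ ^ p ≠ 1 := hbad y₁ hy₁P hy₁z
  -- the inverting automorphism
  obtain ⟨ZE, hZEdef⟩ : ∃ ZE : Subgroup E, ZE = Z₀.subgroupOf E := ⟨_, rfl⟩
  have hmemZE : ∀ x : E, x ∈ ZE ↔ (x : Ω) ∈ Z₀ := by
    intro x; rw [hZEdef]; exact Subgroup.mem_subgroupOf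
  have hZER : ZE ≤ R := by
    intro x hx
    rw [hmemR]
    exact hZ.le ((hmemZE x).mp hx)
  have hZEcard : Nat.card ZE = p := by
    rw [hZEdef, Nat.card_congr (Subgroup.subgroupOfEquivOfLe hZE).toEquiv, hZ.card]
  have hgp : ∃ k : ℕ, g ^ p ^ k = 1 := by
    obtain ⟨k, hk⟩ := hXp ⟨g, hgX⟩
    exact ⟨k, congrArg Subtype.val hk⟩
  obtain ⟨ν, hνinv, hνc⟩ := partB (F.autGroup E).subtype hEp (Subgroup.subtype_injective _) R hR
    hRcomm I hrad g (hXK g hgX) hgI hgp ZE hZER hZEcard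
    (by
      intro r hr
      rw [hmemZE]
      show ((r⁻¹ * (g : MulAut E) r : E) : Ω) ∈ Z₀
      rw [Subgroup.coe_mul, Hy, Subgroup.coe_inv]
      exact hZ.inv_comm ((hmemR r).mp hr) hy₁P)
    (by
      intro z hz
      apply Subtype.ext
      show (((g : MulAut E) z : E) : Ω) = z
      rw [Hy, hZ.central _ ((hmemZE z).mp hz) y₁ hy₁S, mul_inv_cancel_right])
  -- `ν g ν⁻¹ g⁻¹` is inner
  rw [hIdef] at hνc
  have hνc' : ((ν * g * ν⁻¹ * g⁻¹ : F.autGroup E) : MulAut E) ∈ Inn E := hνc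
  obtain ⟨e, he⟩ := hνc'
  have hνg : ∀ x : E, (((ν : MulAut E) ((g : MulAut E) x) : E) : Ω) =
      ((e : Ω) * y₁) * (((ν : MulAut E) x : E) : Ω) * ((e : Ω) * y₁)⁻¹ := by
    intro x
    have h1 : (MulAut.conj e) ((g : MulAut E) ((ν : MulAut E) x)) =
        (ν : MulAut E) ((g : MulAut E) x) := by
      rw [he]
      show (ν : MulAut E) ((g : MulAut E) ((ν : MulAut E)⁻¹ ((g : MulAut E)⁻¹
        ((g : MulAut E) ((ν : MulAut E) x))))) = _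
      rw [MulAut.inv_apply_self, MulAut.inv_apply_self]
    rw [← h1, MulAut.conj_apply]
    show (e : Ω) * (((g : MulAut E) ((ν : MulAut E) x) : E) : Ω) * (e : Ω)⁻¹ = _
    rw [Hy]
    group
  -- the extension
  obtain ⟨hEfc, -⟩ := fs_sylow_axiom p hS F hF hE.2.1
  have hErec := fs_extension_axiom p hS F hF hEfc
  obtain ⟨φ, hφdef⟩ : ∃ φ : E →* Ω, φ = E.subtype.comp (ν : MulAut E).toMonoidHom := ⟨_, rfl⟩
  have hφapp : ∀ x : E, φ x = (((ν : MulAut E) x : E) : Ω) := by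
    intro x; rw [hφdef]; rfl
  have hφF : φ ∈ F.Hom E := by
    rw [hφdef]; exact (mem_autGroup_iff F hES _).mp ν.2
  have hφr : φ.range = E := by
    ext z
    constructor
    · rintro ⟨x, rfl⟩
      rw [hφapp]; exact ((ν : MulAut E) x).2
    · intro hz
      exact ⟨(ν : MulAut E)⁻¹ ⟨z, hz⟩, by rw [hφapp, MulAut.apply_inv_self]⟩
  obtain ⟨ψ, hψF, hψ⟩ := hErec.2 E φ hφF hφr
  have hEext : E ≤ extender S E φ := by
    intro e' he'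
    rw [mem_extender_iff]
    refine ⟨hES he', Subgroup.le_normalizer he', φ ⟨e', he'⟩, (F.le_of_mem hφF).2 _, ?_⟩
    intro x hx
    have h1 : (⟨e' * (x : Ω) * e'⁻¹, hx⟩ : E) = ⟨e', he'⟩ * x * ⟨e', he'⟩⁻¹ := Subtype.ext rfl
    rw [h1, map_mul, map_mul, map_inv]
  have hy₁ext : y₁ ∈ extender S E φ := by
    rw [mem_extender_iff]
    refine ⟨hy₁S, hy₁N, (e : Ω) * y₁, S.mul_mem (hES e.2) hy₁S, ?_⟩
    intro x hx
    have h1 : (⟨y₁ * (x : Ω) * y₁⁻¹, hx⟩ : E) = (g : MulAut E) x := Subtype.ext (Hy x).symm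
    rw [h1, hφapp, hφapp, hνg]
  have hψE : ∀ (x : Ω) (hx : x ∈ E), ψ ⟨x, hEext hx⟩ = (((ν : MulAut E) ⟨x, hx⟩ : E) : Ω) := by
    intro x hx
    rw [hψ x hx (hEext hx), hφapp]
  obtain ⟨y₂, hy₂def⟩ : ∃ y₂ : Ω, y₂ = ψ ⟨y₁, hy₁ext⟩ := ⟨_, rfl⟩
  have hy₂P : y₂ ∈ P := by
    rw [hy₂def]; exact fs_stronglyClosed_mem F hP hψF ⟨y₁, hy₁ext⟩ hy₁P
  have hy₂S : y₂ ∈ S := hPS hy₂P
  -- `y₂` acts on `E` as `e y₁`
  have hy₂act : ∀ x : E, y₂ * (x : Ω) * y₂⁻¹ = ((e : Ω) * y₁) * (x : Ω) * ((e : Ω) * y₁)⁻¹ := by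
    intro x
    obtain ⟨x', rfl⟩ : ∃ x' : E, (ν : MulAut E) x' = x := ⟨(ν : MulAut E)⁻¹ x, MulAut.apply_inv_self _ _ _⟩
    rw [← hνg x']
    have hgx : y₁ * (x' : Ω) * y₁⁻¹ ∈ E := by rw [← Hy x']; exact ((g : MulAut E) x').2
    have h1 : ψ ⟨y₁ * (x' : Ω) * y₁⁻¹, hEext hgx⟩ =
        ψ ⟨y₁, hy₁ext⟩ * ψ ⟨x', hEext x'.2⟩ * (ψ ⟨y₁, hy₁ext⟩)⁻¹ := by
      rw [← map_inv, ← map_mul, ← map_mul]; rfl
    rw [hψE _ hgx, hψE _ x'.2, ← hy₂def] at h1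
    have h2 : (⟨y₁ * (x' : Ω) * y₁⁻¹, hgx⟩ : E) = (g : MulAut E) x' := Subtype.ext (Hy x').symm
    rw [h2] at h1
    rw [h1]
  -- `y₂ ∈ y₁ R`
  obtain ⟨t, htdef⟩ : ∃ t : Ω, t = ((e : Ω) * y₁)⁻¹ * y₂ := ⟨_, rfl⟩
  have htE : t ∈ E := by
    apply hEcent
    refine ⟨?_, ?_⟩
    · rw [htdef]
      exact S.mul_mem (S.inv_mem (S.mul_mem (hES e.2) hy₁S)) hy₂S
    · show t ∈ Subgroup.centralizer (E : Set Ω)
      rw [Subgroup.mem_centralizer_iff]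
      intro x hx
      have h1 := hy₂act ⟨x, hx⟩
      have h1' : y₂ * x * y₂⁻¹ = ((e : Ω) * y₁) * x * ((e : Ω) * y₁)⁻¹ := h1
      rw [htdef]
      calc x * (((e : Ω) * y₁)⁻¹ * y₂)
          = ((e : Ω) * y₁)⁻¹ * (((e : Ω) * y₁) * x * ((e : Ω) * y₁)⁻¹) * y₂ := by group
        _ = ((e : Ω) * y₁)⁻¹ * (y₂ * x * y₂⁻¹) * y₂ := by rw [h1']
        _ = ((e : Ω) * y₁)⁻¹ * y₂ * x := by group
  obtain ⟨r, hrdef⟩ : ∃ r : Ω, r = y₁⁻¹ * y₂ := ⟨_, rfl⟩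
  have hrE : r ∈ E := by
    have h1 : r = (y₁⁻¹ * (e : Ω) * y₁⁻¹⁻¹) * t := by
      rw [hrdef, htdef]; group
    rw [h1]
    apply E.mul_mem _ htE
    exact (Subgroup.mem_normalizer_iff.mp (Subgroup.inv_mem _ hy₁N) (e : Ω)).mp e.2
  have hrP : r ∈ P := by
    rw [hrdef]; exact P.mul_mem (P.inv_mem hy₁P) hy₂P
  have hrz : r * z₁ = z₁ * r := hRC ⟨r, hrE⟩ ((hmemR _).mpr hrP)
  have hrp : r ^ p = 1 := hexp r hrP hrz
  have hy₂ : y₂ = y₁ * r := by rw [hrdef]; group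
  have hy₂p : y₂ ^ p = y₁ ^ p := by
    have h1 := Cfsg.Agent.Lib.Helper4.mul_pow_prime_of_central (P := ↥P) hp2 hge.commElt_center
      (fun x => hge.le_center (hge.pow_mem x)) ⟨y₁, hy₁P⟩ ⟨r, hrP⟩
    have h2 := congrArg (fun x : ↥P => (x : Ω)) h1
    have h3 : (y₁ * r) ^ p = y₁ ^ p * r ^ p := h2
    rw [hy₂, h3, hrp, mul_one]
  -- `ν` inverts `y₁ ^ p`
  have hwZ₀ : y₁ ^ p ∈ Z₀ := hZ.pow y₁ hy₁P
  have hwE : y₁ ^ p ∈ E := hZE hwZ₀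
  have h1 : ψ ⟨y₁ ^ p, hEext hwE⟩ = y₂ ^ p := by
    have h2 : (⟨y₁ ^ p, hEext hwE⟩ : extender S E φ) = ⟨y₁, hy₁ext⟩ ^ p := Subtype.ext rfl
    rw [h2, map_pow, ← hy₂def]
  have h2 : ψ ⟨y₁ ^ p, hEext hwE⟩ = (y₁ ^ p)⁻¹ := by
    rw [hψE _ hwE]
    have h3 := hνinv ⟨y₁ ^ p, hwE⟩ ((hmemZE _).mpr hwZ₀)
    have h4 := congrArg (fun x : E => (x : Ω)) h3
    simpa using h4
  have h3 : y₁ ^ p = (y₁ ^ p)⁻¹ := hy₂p.symm.trans (h1.symm.trans h2)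
  have h4 : (y₁ ^ p) ^ 2 = 1 := by
    rw [pow_two]
    nth_rewrite 1 [h3]
    exact inv_mul_cancel _
  have h5 : (y₁ ^ p) ^ p = 1 := hZ.pow_eq_one hwZ₀
  have h6 : Nat.gcd 2 p = 1 := by
    have := (Nat.coprime_primes Nat.prime_two hp.out).mpr (Ne.symm hp2)
    exact this
  have h7 : (y₁ ^ p) ^ Nat.gcd 2 p = 1 := pow_gcd_eq_one.mpr ⟨h4, h5⟩
  rw [h6, pow_one] at h7
  exact hy₁p h7

end Cfsg.Agent.H9GE
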