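import Mathlib
import Cfsg.Prelude
import Cfsg.Agent.Lib.Helper9.GenExtra3
import Cfsg.Agent.Lib.Helper9.P3Class2
import Cfsg.Agent.Lib.Helper9.ExtraTransport
import Cfsg.Agent.Lib.Helper1.DihedralIso

set_option autoImplicit false

/-!
# Generalised extraspecial `p`-groups with an elementary abelian subgroup of index `p`: the
isomorphism type
-/

namespace Cfsg.Agent.H9GE

open Cfsg
open scoped commutatorElement

/-- a copy of `Fin n` without algebraic structure -/
def Model (n : ℕ) : Type := Fin n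

/-- every finite group has a model in `Type` -/
theorem exists_type0_group (G : Type*) [Group G] [Finite G] :
    ∃ (E : Type) (_ : Group E), Nonempty (G ≃* E) := by
  obtain ⟨n, ⟨e₀⟩⟩ := Finite.exists_equiv_fin G
  have e : G ≃ Model n := e₀
  letI : Group (Model n) := e.symm.group
  exact ⟨Model n, inferInstance, ⟨(e.symm.mulEquiv).symm⟩⟩

/-- every finite commutative group has a model in `Type` -/
theorem exists_type0_commGroup (G : Type*) [Group G] [Finite G] (hcomm : ∀ a b : G, a * b = b * a) :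
    ∃ (E : Type) (_ : CommGroup E), Nonempty (G ≃* E) := by
  obtain ⟨n, ⟨e₀⟩⟩ := Finite.exists_equiv_fin G
  have e : G ≃ Model n := e₀
  letI iG : Group (Model n) := e.symm.group
  have f : G ≃* Model n := (e.symm.mulEquiv).symm
  letI : CommGroup (Model n) :=
    { iG with
      mul_comm := by
        intro a b
        have h1 := hcomm (f.symm a) (f.symm b)
        have h2 := congrArg f h1
        rwa [map_mul, map_mul, MulEquiv.apply_symm_apply, MulEquiv.apply_symm_apply] at h2 }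
  exact ⟨Model n, inferInstance, ⟨f⟩⟩

variable {P : Type*} [Group P] {p : ℕ} [Finite P] [hp : Fact p.Prime] {C : Subgroup P}

/-- the internal direct product as an isomorphism -/
theorem prod_equiv (B A : Subgroup P) (hA : A ≤ Subgroup.center P)
    (hsurj : ∀ x : P, ∃ b ∈ B, ∃ a ∈ A, x = b * a) (hBA : B ⊓ A = ⊥) :
    ∃ e : B × A ≃* P, ∀ x : B × A, e x = (x.1 : P) * (x.2 : P) := by
  have comm : ∀ (b : B) (a : A), Commute (B.subtype b) (A.subtype a) := by
    intro b a
    exact (Subgroup.mem_center_iff.mp (hA a.2) b)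
  obtain ⟨f, hfdef⟩ : ∃ f : B × A →* P, f = B.subtype.noncommCoprod A.subtype comm := ⟨_, rfl⟩
  have hfapp : ∀ x : B × A, f x = (x.1 : P) * (x.2 : P) := by
    intro x; rw [hfdef]; rfl
  have hinj : Function.Injective f := by
    rw [injective_iff_map_eq_one]
    rintro ⟨b, a⟩ hba
    rw [hfapp] at hba
    have h1 : (b : P) = (a : P)⁻¹ := eq_inv_of_mul_eq_one_left hba
    have h2 : (b : P) ∈ B ⊓ A := ⟨b.2, by rw [h1]; exact A.inv_mem a.2⟩
    rw [hBA, Subgroup.mem_bot] at h2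
    have h3 : (a : P) = 1 := by
      rw [h2, one_mul] at hba; exact hba
    exact Prod.ext (Subtype.ext h2) (Subtype.ext h3)
  have hsur : Function.Surjective f := by
    intro x
    obtain ⟨b, hb, a, ha, rfl⟩ := hsurj x
    exact ⟨(⟨b, hb⟩, ⟨a, ha⟩), hfapp _⟩
  exact ⟨MulEquiv.ofBijective f ⟨hinj, hsur⟩, hfapp⟩

/-- the odd case -/
theorem MaxAb.odd_case (h : GE p P) (hC : MaxAb p P C) (hp2 : p ≠ 2) {y : P} (hy : y ∉ C)
    (hyp : y ^ p = 1) :
    ∃ (E : Type) (_ : Group E) (A : Type) (_ : CommGroup A), Cfsg.IsExtraspecial p E ∧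
      Nat.card E = p ^ 3 ∧ Monoid.exponent E = p ∧ (∀ a : A, a ^ p = 1) ∧ Nonempty (P ≃* E × A) := by
  classical
  obtain ⟨B, A, hAZ, hAexp, hBcard, hsurj, hBA⟩ := hC.decomposition h
  obtain ⟨e, he⟩ := prod_equiv B A hAZ hsurj hBA
  -- everything has exponent `p`
  have hexp : ∀ x : P, x ^ p = 1 := by
    let W : Subgroup P :=
      { carrier := {x | x ^ p = 1}
        one_mem' := one_pow p
        mul_mem' := fun {a b} ha hb =>
          Cfsg.Agent.Lib.Lead.mul_pow_eq_one_of_class_two hp2 h.commElt_center a b ha hb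
        inv_mem' := fun {a} ha => by
          show a⁻¹ ^ p = 1
          rw [inv_pow, ha, inv_one] }
    have hW : W = ⊤ := eq_top_of_index_prime hC.hidx (fun c hc => hC.hexp c hc) (w := y) hyp hy
    intro x
    have : x ∈ W := by rw [hW]; exact Subgroup.mem_top x
    exact this
  -- `B` is not abelian
  have hBna : ¬ ∀ a b : B, a * b = b * a := by
    intro hcomm
    obtain ⟨x, x', hxx⟩ := h.not_comm
    apply hxx
    obtain ⟨b, hb, a, ha, rfl⟩ := hsurj x
    obtain ⟨b', hb', a', ha', rfl⟩ := hsurj x'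
    have h1 : b * b' = b' * b := congrArg Subtype.val (hcomm ⟨b, hb⟩ ⟨b', hb'⟩)
    have h2 : ∀ g : P, g * a = a * g := Subgroup.mem_center_iff.mp (hAZ ha)
    have h3 : ∀ g : P, g * a' = a' * g := Subgroup.mem_center_iff.mp (hAZ ha')
    calc b * a * (b' * a') = b * (a * b') * a' := by group
      _ = b * (b' * a) * a' := by rw [h2 b']
      _ = (b * b') * (a * a') := by group
      _ = (b' * b) * (a' * a) := by rw [h1, h3 a]
      _ = b' * (b * a') * a := by group
      _ = b' * (a' * b) * a := by rw [h3 b]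
      _ = b' * a' * (b * a) := by group
  have hBext : Cfsg.IsExtraspecial p B := Cfsg.Agent.H9P3.isExtraspecial_of_nonab p hBcard hBna
  obtain ⟨E', iE, ⟨eB⟩⟩ := exists_type0_group B
  obtain ⟨A', iA, ⟨eA⟩⟩ := exists_type0_commGroup A (by
    intro a b
    apply Subtype.ext
    exact (Subgroup.mem_center_iff.mp (hAZ b.2) a))
  refine ⟨E', iE, A', iA, Cfsg.Agent.Lib.Helper9.isExtraspecial_of_mulEquiv eB hBext, ?_, ?_, ?_,
    ⟨e.symm.trans (MulEquiv.prodCongr eB eA)⟩⟩
  · rw [← Nat.card_congr eB.toEquiv, hBcard]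
  · have hd : Monoid.exponent E' ∣ p := by
      apply Monoid.exponent_dvd_of_forall_pow_eq_one
      intro g
      obtain ⟨b, rfl⟩ := eB.surjective g
      rw [← map_pow]
      have : b ^ p = 1 := Subtype.ext (hexp b)
      rw [this, map_one]
    rcases (Nat.dvd_prime hp.out).mp hd with h1 | h1
    · exfalso
      rw [Monoid.exp_eq_one_iff] at h1
      have h2 : Nat.card E' = 1 := Nat.card_eq_one_iff_unique.mpr ⟨h1, ⟨1⟩⟩
      rw [← Nat.card_congr eB.toEquiv, hBcard] at h2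
      have := hp.out.one_lt
      have h3 : 1 < p ^ 3 := Nat.one_lt_pow (by norm_num) this
      omega
    · exact h1
  · intro a
    obtain ⟨a₀, rfl⟩ := eA.surjective a
    rw [← map_pow]
    have : a₀ ^ p = 1 := Subtype.ext (hAexp a₀ a₀.2)
    rw [this, map_one]

/-- the case `p = 2` -/
theorem MaxAb.two_case (h : GE 2 P) (hC : MaxAb 2 P C) :
    ∃ (A : Type) (_ : CommGroup A), (∀ a : A, a ^ 2 = 1) ∧ Nonempty (P ≃* DihedralGroup 4 × A) := by
  classical
  haveI : Fact (Nat.Prime 2) := ⟨Nat.prime_two⟩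
  obtain ⟨B, A, hAZ, hAexp, hBcard, hsurj, hBA⟩ := hC.decomposition h
  obtain ⟨e, he⟩ := prod_equiv B A hAZ hsurj hBA
  -- non-commuting involutions
  obtain ⟨y₀, hy₀⟩ := hC.exists_not_mem
  obtain ⟨c, hc, hcy₀⟩ := hC.exists_not_comm h hy₀
  have hc2 : c ^ 2 = 1 := hC.hexp c hc
  obtain ⟨y, hy2, hcy⟩ : ∃ y : P, y ^ 2 = 1 ∧ c * y ≠ y * c := by
    by_cases hy₀2 : y₀ ^ 2 = 1
    · exact ⟨y₀, hy₀2, hcy₀⟩
    · refine ⟨c * y₀, ?_, ?_⟩
      · -- `(c y₀)² = c² y₀² [y₀, c]`
        have hz : ⁅y₀, c⁆ ∈ commutator P := commElt_mem _ _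
        have hz1 : ⁅y₀, c⁆ ≠ 1 := by
          intro h1
          rw [commutatorElement_eq_one_iff_mul_comm] at h1
          exact hcy₀ h1.symm
        have hy2mem : y₀ ^ 2 ∈ commutator P := h.pow_mem y₀
        obtain ⟨k, hk⟩ := h.exists_pow_eq hz hz1 hy2mem
        have hz2 : ⁅y₀, c⁆ ^ 2 = 1 := h.pow_eq_one hz
        have hk1 : ⁅y₀, c⁆ = y₀ ^ 2 := by
          rcases Nat.even_or_odd k with ⟨m, hm⟩ | ⟨m, hm⟩
          · exfalso
            apply hy₀2
            rw [← hk, hm, ← two_mul, pow_mul, hz2, one_pow]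
          · rw [← hk, hm, pow_succ, pow_mul, hz2, one_pow, one_mul]
        have h1 := Cfsg.Agent.Lib.Lead.mul_pow_of_class_two h.commElt_center c y₀ 2
        rw [h1, hc2, one_mul, Nat.choose_self, pow_one, hk1, ← pow_two]
        have h4 : (y₀ ^ 2) ^ 2 = 1 := h.pow_eq_one hy2mem
        exact h4
      · intro h1
        apply hcy₀
        have h2 : c * (c * y₀) = c * (y₀ * c) := by
          rw [h1]; group
        exact mul_left_cancel h2
  -- the projections
  obtain ⟨b₁, hb₁def⟩ : ∃ b₁ : B, b₁ = (e.symm c).1 := ⟨_, rfl⟩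
  obtain ⟨b₂, hb₂def⟩ : ∃ b₂ : B, b₂ = (e.symm y).1 := ⟨_, rfl⟩
  have hb₁2 : b₁ ^ 2 = 1 := by
    have h1 : (e.symm c) ^ 2 = 1 := by rw [← map_pow, hc2, map_one]
    have h3 := congrArg Prod.fst h1
    rw [hb₁def]; exact h3
  have hb₂2 : b₂ ^ 2 = 1 := by
    have h1 : (e.symm y) ^ 2 = 1 := by rw [← map_pow, hy2, map_one]
    have h3 := congrArg Prod.fst h1
    rw [hb₂def]; exact h3
  have hAcomm : ∀ a a' : A, a * a' = a' * a := by
    intro a a'
    apply Subtype.ext
    exact (Subgroup.mem_center_iff.mp (hAZ a'.2) a)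
  have hbb : b₁ * b₂ ≠ b₂ * b₁ := by
    intro h1
    apply hcy
    apply e.symm.injective
    rw [map_mul, map_mul]
    apply Prod.ext
    · rw [Prod.fst_mul, Prod.fst_mul, ← hb₁def, ← hb₂def, h1]
    · rw [Prod.snd_mul, Prod.snd_mul, hAcomm]
  have hb₁1 : b₁ ≠ 1 := by
    intro h1
    apply hbb
    rw [h1, one_mul, mul_one]
  have hb₂1 : b₂ ≠ 1 := by
    intro h1
    apply hbb
    rw [h1, one_mul, mul_one]
  have ho₁ : orderOf b₁ = 2 := orderOf_eq_prime hb₁2 hb₁1
  have ho₂ : orderOf b₂ = 2 := orderOf_eq_prime hb₂2 hb₂1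
  have hb₁inv : b₁⁻¹ = b₁ := by
    rw [inv_eq_iff_mul_eq_one, ← pow_two, hb₁2]
  have hb₂inv : b₂⁻¹ = b₂ := by
    rw [inv_eq_iff_mul_eq_one, ← pow_two, hb₂2]
  have hsq : (b₁ * b₂) ^ 2 = ⁅b₁, b₂⁆ := by
    rw [commutatorElement_def, hb₁inv, hb₂inv, pow_two]; group
  have ho : orderOf (b₁ * b₂) = 2 ^ (1 + 1) := by
    apply orderOf_eq_prime_pow
    · rw [pow_one, hsq, commutatorElement_eq_one_iff_mul_comm]
      exact hbb
    · rw [pow_succ 2 1, pow_one, pow_mul, hsq]
      apply Subtype.ext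
      show (⁅(b₁ : P), (b₂ : P)⁆) ^ 2 = 1
      exact h.pow_eq_one (commElt_mem _ _)
  obtain ⟨iso⟩ := Cfsg.Agent.Lib.Helper1.DihedralIso.closure_equiv_dihedral b₁ b₂ ho₁ ho₂
    (by rw [ho]; norm_num)
  rw [ho] at iso
  have hcl : Subgroup.closure ({b₁, b₂} : Set B) = ⊤ := by
    apply Subgroup.eq_top_of_card_eq
    rw [Nat.card_congr iso.toEquiv, DihedralGroup.nat_card, hBcard]; norm_num
  obtain ⟨A', iA, ⟨eA⟩⟩ := exists_type0_commGroup A hAcomm
  have eB : B ≃* DihedralGroup 4 :=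
    (Subgroup.topEquiv.symm.trans (MulEquiv.subgroupCongr hcl.symm)).trans iso
  refine ⟨A', iA, ?_, ⟨e.symm.trans (MulEquiv.prodCongr eB eA)⟩⟩
  intro a
  obtain ⟨a₀, rfl⟩ := eA.surjective a
  rw [← map_pow]
  have : a₀ ^ 2 = 1 := Subtype.ext (hAexp a₀ a₀.2)
  rw [this, map_one]

end Cfsg.Agent.H9GE
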