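import Mathlib
import Cfsg.Prelude
import Cfsg.Agent.Lib.Helper9.GenExtra4
import Cfsg.Agent.Lib.Helper9.GenExtra10

set_option autoImplicit false

/-!
# A strongly closed generalised extraspecial subgroup lies in every essential subgroup, with two
families of exceptions
-/

namespace Cfsg.Agent.H9GE

open Cfsg Cfsg.FusionSystem Cfsg.Agent.Lib.Helper9 Cfsg.Agent.H9MSC

variable {Ω : Type*} [Group Ω] {S : Subgroup Ω}

theorem le_essential_ge [Finite S] (p : ℕ) [Fact p.Prime] (hS : IsPGroup p S) (F : FusionSystem S)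
    (hF : F.IsSaturated p) (P : Subgroup Ω) (hP : F.StronglyClosed P)
    (hge : frattini ↥P = commutator ↥P ∧ Nat.card ↥(commutator ↥P) = p)
    (h2 : p = 2 → ¬ ∃ (A : Type) (_ : CommGroup A), (∀ a : A, a ^ 2 = 1) ∧
      Nonempty (↥P ≃* DihedralGroup 4 × A))
    (hodd : p ≠ 2 → ¬ ∃ (E : Type) (_ : Group E) (A : Type) (_ : CommGroup A),
      Cfsg.IsExtraspecial p E ∧ Nat.card E = p ^ 3 ∧ Monoid.exponent E = p ∧ (∀ a : A, a ^ p = 1) ∧
      Nonempty (↥P ≃* E × A))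
    (E : Subgroup Ω) (hE : F.IsEssential p E) : P ≤ E := by
  classical
  by_contra hPE
  have hPS : P ≤ S := hP.1
  haveI : Finite P := fs_finite_of_le hPS
  have hGE : GE p ↥P := ⟨hS.to_le hPS, hge.1, hge.2⟩
  obtain ⟨z₁, C₁, hC, hmemC, hz₁P, hz₁Z, α, hα, w, hwZ, hαw⟩ :=
    exists_maxAb p hS F hF P hP hGE E hE hPE
  by_cases hp2 : p = 2
  · subst hp2
    exact h2 rfl (hC.two_case hGE)
  · apply odd_contra p hp2 hS F hF P hP hGE E hE hPE z₁ _ _ α hα w hwZ hαw hz₁Z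
    · intro y hy hyz hyp
      apply hodd hp2
      exact hC.odd_case hGE hp2 (y := ⟨y, hy⟩) (fun h => hyz ((hmemC _).mp h)) (Subtype.ext hyp)
    · intro a ha b hb haz hbz
      exact congrArg Subtype.val (hC.hab ⟨a, ha⟩ ((hmemC _).mpr haz) ⟨b, hb⟩ ((hmemC _).mpr hbz))
    · intro a ha haz
      exact congrArg Subtype.val (hC.hexp ⟨a, ha⟩ ((hmemC _).mpr haz))

end Cfsg.Agent.H9GE
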