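import Mathlib
import Cfsg.Agent.Lib.Helper9.Golay3

set_option autoImplicit false

/-! Abstract Golay codes: octads span the code, and the code is doubly even. -/

namespace Cfsg.Agent.Lib.Helper9

open Finset

variable {C : Submodule (ZMod 2) (Fin 24 → ZMod 2)}

/-- A non-zero word of weight at most 4 meets some octad in exactly one point. -/
theorem exists_octad_meeting_once (hC : IsAbsGolay C) (u : Fin 24 → ZMod 2) (hu0 : u ≠ 0)
    (hu4 : hammingNorm u ≤ 4) :
    ∃ c ∈ C, hammingNorm c = 8 ∧ (Cfsg.support₂ u ∩ Cfsg.support₂ c).card = 1 := by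
  set U := Cfsg.support₂ u with hU
  have hUcard : U.card ≤ 4 := by rw [hU, ← hammingNorm_eq_card_support₂]; exact hu4
  have hUne : U.Nonempty := by
    rw [Finset.nonempty_iff_ne_empty]
    intro h
    apply hu0
    rw [← hammingNorm_eq_zero_iff, hammingNorm_eq_card_support₂, ← hU, h, Finset.card_empty]
  obtain ⟨p, hp⟩ := hUne
  -- three points outside U
  have hcompl : 3 ≤ (univ \ U).card := by
    rw [Finset.card_sdiff_of_subset (subset_univ _), Finset.card_univ, Fintype.card_fin]
    omega
  obtain ⟨t0, ht0sub, ht0card⟩ := Finset.exists_subset_card_eq hcompl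
  have hpt0 : p ∉ t0 := by
    intro h
    have := ht0sub h
    rw [Finset.mem_sdiff] at this
    exact this.2 hp
  set t := insert p t0 with ht
  have htcard : t.card = 4 := by rw [ht, Finset.card_insert_of_notMem hpt0, ht0card]
  have htU : U ∩ t = {p} := by
    ext x
    rw [Finset.mem_inter, ht, Finset.mem_insert, Finset.mem_singleton]
    constructor
    · rintro ⟨hxU, rfl | hx⟩
      · rfl
      · have := ht0sub hx
        rw [Finset.mem_sdiff] at this
        exact absurd hxU this.2
    · rintro rfl
      exact ⟨hp, Or.inl rfl⟩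
  have hmem : indW t ∈ cosetT4 C (indW t) := indW_mem_cosetT4 htcard
  have h6 := card_cosetT4_of_mem hC hmem
  set T' := (cosetT4 C (indW t)).erase (indW t) with hT'
  have hT'card : T'.card = 5 := by rw [hT', Finset.card_erase_of_mem hmem, h6]
  -- some tetrad of T' avoids U
  have hex : ∃ x ∈ T', Cfsg.support₂ x ∩ U = ∅ := by
    by_contra hcon
    push_neg at hcon
    have hall : ∀ x ∈ T', ∃ q, q ∈ Cfsg.support₂ x ∩ U := by
      intro x hx
      exact hcon x hx
    choose! f hf using hall
    have hmaps : ∀ x ∈ T', f x ∈ U.erase p := by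
      intro x hx
      have h1 := hf x hx
      rw [Finset.mem_inter] at h1
      rw [Finset.mem_erase]
      refine ⟨?_, h1.2⟩
      rintro rfl
      rw [hT', Finset.mem_erase] at hx
      have hd := cosetT4_disjoint hC (indW t) hmem hx.2 (Ne.symm hx.1)
      rw [support₂_indW, Finset.disjoint_left] at hd
      exact hd (by rw [ht]; exact Finset.mem_insert_self _ _) h1.1
    have hinj : Set.InjOn f T' := by
      intro x hx y hy hxy
      by_contra hne
      rw [Finset.mem_coe, hT', Finset.mem_erase] at hx hy
      have hd := cosetT4_disjoint hC (indW t) hx.2 hy.2 hne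
      rw [Finset.disjoint_left] at hd
      have h1 := hf x (by rw [hT', Finset.mem_erase]; exact hx)
      have h2 := hf y (by rw [hT', Finset.mem_erase]; exact hy)
      rw [Finset.mem_inter] at h1 h2
      rw [hxy] at h1
      exact hd h1.1 h2.1
    have hle := Finset.card_le_card_of_injOn f hmaps hinj
    rw [hT'card, Finset.card_erase_of_mem hp] at hle
    omega
  obtain ⟨x, hx, hxU⟩ := hex
  rw [hT', Finset.mem_erase] at hx
  obtain ⟨h1, h2, h3⟩ := octad_of_tetrads hC hmem hx.2 (Ne.symm hx.1)
  refine ⟨indW t + x, h1, h2, ?_⟩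
  rw [h3, support₂_indW, Finset.inter_union_distrib_left, htU, Finset.inter_comm U, hxU, Finset.union_empty,
    Finset.card_singleton]

theorem dot_add_left (a b c : Fin 24 → ZMod 2) :
    ∑ i, (a + b) i * c i = ∑ i, a i * c i + ∑ i, b i * c i := by
  rw [← Finset.sum_add_distrib]
  apply Finset.sum_congr rfl
  intro i _
  rw [Pi.add_apply, add_mul]

/-- A word orthogonal to all octads lies in the code. -/
theorem mem_of_perp_octads (hC : IsAbsGolay C) (v : Fin 24 → ZMod 2)
    (hv : ∀ c ∈ C, hammingNorm c = 8 → ∑ i, v i * c i = 0) : v ∈ C := by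
  -- a light word in the coset of v
  obtain ⟨u, hu4, huv⟩ : ∃ u : Fin 24 → ZMod 2, hammingNorm u ≤ 4 ∧ u - v ∈ C := by
    rcases coset_dichotomy hC v with ⟨h3, _⟩ | ⟨_, h4⟩
    · obtain ⟨u, hu⟩ := Finset.card_eq_one.mp h3
      have hu3 : u ∈ cosetT3 C v := by rw [hu]; exact Finset.mem_singleton_self u
      rw [mem_cosetT3] at hu3
      exact ⟨u, by omega, hu3.2⟩
    · have hne : (cosetT4 C v).Nonempty := by
        rw [← Finset.card_pos, h4]
        norm_num
      obtain ⟨u, hu⟩ := hne
      rw [mem_cosetT4] at hu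
      exact ⟨u, by omega, hu.2⟩
  by_cases hu0 : u = 0
  · rw [hu0, zero_sub] at huv
    have := C.neg_mem huv
    rwa [neg_neg] at this
  · exfalso
    obtain ⟨c, hc, h8, h1⟩ := exists_octad_meeting_once hC u hu0 hu4
    have hdot : ∑ i, u i * c i = 1 := by
      rw [dot_eq_card_inter, h1]
      simp
    have hsplit : u = v + (u - v) := by abel
    rw [hsplit, dot_add_left, hv c hc h8, hC.horth _ huv c hc, add_zero] at hdot
    exact zero_ne_one hdot

/-- The dot-product map into the dual of a subspace. -/
def dotDual (D : Submodule (ZMod 2) (Fin 24 → ZMod 2)) :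
    (Fin 24 → ZMod 2) →ₗ[ZMod 2] Module.Dual (ZMod 2) D where
  toFun v :=
    { toFun := fun c => ∑ i, v i * (c : Fin 24 → ZMod 2) i
      map_add' := by
        intro a b
        rw [← Finset.sum_add_distrib]
        apply Finset.sum_congr rfl
        intro i _
        show v i * ((a : Fin 24 → ZMod 2) i + (b : Fin 24 → ZMod 2) i) = _
        rw [mul_add]
      map_smul' := by
        intro r a
        rw [RingHom.id_apply, smul_eq_mul, Finset.mul_sum]
        apply Finset.sum_congr rfl
        intro i _
        show v i * (r * (a : Fin 24 → ZMod 2) i) = _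
        ring }
  map_add' := by
    intro a b
    apply LinearMap.ext
    intro c
    show ∑ i, (a + b) i * (c : Fin 24 → ZMod 2) i = ∑ i, a i * (c : Fin 24 → ZMod 2) i + ∑ i, b i * (c : Fin 24 → ZMod 2) i
    exact dot_add_left a b c
  map_smul' := by
    intro r a
    apply LinearMap.ext
    intro c
    show ∑ i, (r • a) i * (c : Fin 24 → ZMod 2) i = r * ∑ i, a i * (c : Fin 24 → ZMod 2) i
    rw [Finset.mul_sum]
    apply Finset.sum_congr rfl
    intro i _
    show (r * a i) * (c : Fin 24 → ZMod 2) i = _
    ring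

theorem dotDual_apply (D : Submodule (ZMod 2) (Fin 24 → ZMod 2)) (v : Fin 24 → ZMod 2) (c : D) :
    dotDual D v c = ∑ i, v i * (c : Fin 24 → ZMod 2) i := rfl

/-- The octads span the code. -/
theorem span_octads (hC : IsAbsGolay C) :
    Submodule.span (ZMod 2) {w : Fin 24 → ZMod 2 | w ∈ C ∧ hammingNorm w = 8} = C := by
  set D := Submodule.span (ZMod 2) {w : Fin 24 → ZMod 2 | w ∈ C ∧ hammingNorm w = 8} with hD
  have hDC : D ≤ C := by
    rw [hD, Submodule.span_le]
    intro w hw
    exact hw.1
  have hker : LinearMap.ker (dotDual D) ≤ C := by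
    intro v hv
    rw [LinearMap.mem_ker] at hv
    apply mem_of_perp_octads hC v
    intro c hc h8
    have hcD : c ∈ D := Submodule.subset_span ⟨hc, h8⟩
    have := LinearMap.congr_fun hv ⟨c, hcD⟩
    rw [dotDual_apply] at this
    exact this
  have h1 := LinearMap.finrank_range_add_finrank_ker (dotDual D)
  have h2 : Module.finrank (ZMod 2) (LinearMap.range (dotDual D)) ≤ Module.finrank (ZMod 2) D := by
    rw [← Subspace.dual_finrank_eq (K := ZMod 2) (V := D)]
    exact Submodule.finrank_le _
  have h3 : Module.finrank (ZMod 2) (LinearMap.ker (dotDual D)) ≤ 12 := by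
    rw [← hC.hdim]
    exact Submodule.finrank_mono hker
  have h4 : Module.finrank (ZMod 2) (Fin 24 → ZMod 2) = 24 := Module.finrank_fin_fun _
  apply Submodule.eq_of_le_of_finrank_le hDC
  rw [hC.hdim]
  omega

/-- An abstract Golay code is doubly even. -/
theorem doubly_even (hC : IsAbsGolay C) : ∀ w ∈ C, 4 ∣ hammingNorm w := by
  intro w hw
  rw [← span_octads hC] at hw
  have key : w ∈ C ∧ 4 ∣ hammingNorm w := by
    induction hw using Submodule.span_induction with
    | mem x hx => exact ⟨hx.1, by rw [hx.2]; norm_num⟩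
    | zero => exact ⟨C.zero_mem, by simp⟩
    | add x y _ _ hx hy =>
      refine ⟨C.add_mem hx.1 hy.1, ?_⟩
      have h1 := wt_add x y
      have h2 := (dot_eq_zero_iff_even x y).1 (hC.horth x hx.1 y hy.1)
      obtain ⟨k, hk⟩ := h2
      obtain ⟨a, ha⟩ := hx.2
      obtain ⟨b, hb⟩ := hy.2
      omega
    | smul r x _ hx =>
      rcases zmod2_cases r with rfl | rfl
      · rw [zero_smul]
        exact ⟨C.zero_mem, by simp⟩
      · rw [one_smul]
        exact hx
  exact key.2

end Cfsg.Agent.Lib.Helper9
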