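import Mathlib
import Cfsg.Agent.Lib.Helper9.GolayG5

set_option autoImplicit false

/-! Abstract Golay codes: the number of octads meeting a duad or a tetrad oddly. -/

namespace Cfsg.Agent.Lib.Helper9.GolayG

open Cfsg.Agent.Lib.Helper9

open Finset

section
variable {α : Type*} [Fintype α] [DecidableEq α] {C : Submodule (ZMod 2) (α → ZMod 2)}

open Classical in
/-- The octad words whose support contains a given set. -/
noncomputable def octThrough (C : Submodule (ZMod 2) (α → ZMod 2)) (I : Finset α) :
    Finset (α → ZMod 2) :=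
  (wtWords C 8).filter (fun w => I ⊆ Cfsg.support₂ w)

theorem card_octThrough_mul (hC : IsAbsGolay C) (I : Finset α) (hI : I.card ≤ 5) :
    (octThrough C I).card * (8 - I.card).choose (5 - I.card) =
      (24 - I.card).choose (5 - I.card) := by
  classical
  have h2 := steiner_lambda 5 8 _ (octads_steiner hC) I hI
  rw [hC.hcard] at h2
  have h3 : (octThrough C I).card =
      ((blocksFinset (Cfsg.wordsOfWeight (C : Set (α → ZMod 2)) 8)).filter (fun b => I ⊆ b)).card := by
    rw [← card_octad_words (C := C) (fun b => I ⊆ b)]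
    apply congrArg Finset.card
    ext w
    unfold octThrough
    rw [mem_filter, mem_wtWords, mem_filter]
    simp [and_assoc]
  rw [h3]
  exact h2

/-- The numbers of octads through `j` points, `j ≤ 4`. -/
def lam : ℕ → ℤ
  | 0 => 759
  | 1 => 253
  | 2 => 77
  | 3 => 21
  | 4 => 5
  | _ => 0

theorem card_octThrough (hC : IsAbsGolay C) (I : Finset α) (hI : I.card ≤ 4) :
    ((octThrough C I).card : ℤ) = lam I.card := by
  have h := card_octThrough_mul hC I (by omega)
  have h5 : I.card = 0 ∨ I.card = 1 ∨ I.card = 2 ∨ I.card = 3 ∨ I.card = 4 := by omega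
  rcases h5 with h5 | h5 | h5 | h5 | h5 <;> rw [h5] at h ⊢ <;> norm_num [Nat.choose] at h <;>
    simp only [lam] <;> omega

/-- The sign of a bit. -/
def bitSign (e : ZMod 2) : ℤ := if e = 1 then -1 else 1

theorem bitSign_add : ∀ a b : ZMod 2, bitSign (a + b) = bitSign a * bitSign b := by decide

theorem bitSign_sum (T : Finset α) (w : α → ZMod 2) :
    bitSign (∑ t ∈ T, w t) = ∏ t ∈ T, bitSign (w t) := by
  induction T using Finset.induction_on with
  | empty => simp [bitSign]
  | insert a s ha ih => rw [Finset.sum_insert ha, Finset.prod_insert ha, bitSign_add, ih]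

theorem bitSign_eq (e : ZMod 2) : bitSign e = 1 + (-2) * (if e = 1 then 1 else 0) := by
  unfold bitSign
  split_ifs <;> norm_num

theorem prod_ind_eq (S : Finset α) (w : α → ZMod 2) :
    (∏ t ∈ S, ((-2 : ℤ) * (if w t = 1 then 1 else 0))) =
      (-2) ^ S.card * (if S ⊆ Cfsg.support₂ w then 1 else 0) := by
  rw [Finset.prod_mul_distrib, Finset.prod_const]
  congr 1
  by_cases h : S ⊆ Cfsg.support₂ w
  · rw [if_pos h]
    apply Finset.prod_eq_one
    intro t ht
    rw [if_pos ((mem_support₂ w t).mp (h ht))]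
  · rw [if_neg h]
    rw [Finset.not_subset] at h
    obtain ⟨t, ht, hts⟩ := h
    apply Finset.prod_eq_zero ht
    rw [mem_support₂] at hts
    rw [if_neg hts]

/-- The signed count over the octads equals an alternating sum of the `lam`. -/
theorem sum_bitSign (hC : IsAbsGolay C) (T : Finset α) (hT : T.card ≤ 4) :
    ∑ w ∈ wtWords C 8, bitSign (∑ t ∈ T, w t) =
      ∑ j ∈ range (T.card + 1), (T.card.choose j : ℤ) * ((-2) ^ j * lam j) := by
  classical
  have h1 : ∀ w : α → ZMod 2, bitSign (∑ t ∈ T, w t) =
      ∑ S ∈ T.powerset, (-2 : ℤ) ^ S.card * (if S ⊆ Cfsg.support₂ w then 1 else 0) := by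
    intro w
    rw [bitSign_sum]
    rw [Finset.prod_congr rfl (fun t _ => bitSign_eq (w t)), Finset.prod_one_add]
    apply Finset.sum_congr rfl
    intro S _
    exact prod_ind_eq S w
  rw [Finset.sum_congr rfl (fun w _ => h1 w), Finset.sum_comm]
  have h2 : ∀ S ∈ T.powerset, ∑ w ∈ wtWords C 8,
      (-2 : ℤ) ^ S.card * (if S ⊆ Cfsg.support₂ w then 1 else 0) = (-2) ^ S.card * lam S.card := by
    intro S hS
    rw [Finset.mem_powerset] at hS
    have hS4 : S.card ≤ 4 := (Finset.card_le_card hS).trans hT
    rw [← Finset.mul_sum, ← card_octThrough hC S hS4]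
    congr 1
    unfold octThrough
    rw [Finset.card_filter]
    push_cast
    rfl
  rw [Finset.sum_congr rfl h2]
  have h3 := Finset.sum_powerset_apply_card (fun j => (-2 : ℤ) ^ j * lam j) (x := T)
  rw [h3]
  apply Finset.sum_congr rfl
  intro j _
  rw [nsmul_eq_mul]

/-- The octad words with odd dot product with a given word. -/
noncomputable def octOdd (C : Submodule (ZMod 2) (α → ZMod 2)) (u : α → ZMod 2) :
    Finset (α → ZMod 2) :=
  (wtWords C 8).filter (fun w => ∑ i, u i * w i = 1)

theorem dot_eq_sum_support (u w : α → ZMod 2) :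
    ∑ i, u i * w i = ∑ t ∈ Cfsg.support₂ u, w t := by
  rw [← Finset.sum_subset (Finset.subset_univ (Cfsg.support₂ u))]
  · apply Finset.sum_congr rfl
    intro t ht
    rw [(mem_support₂ u t).mp ht, one_mul]
  · intro t _ ht
    rw [mem_support₂'] at ht
    push_neg at ht
    rw [ht, zero_mul]

theorem sum_bitSign_eq (u : α → ZMod 2) :
    ∑ w ∈ wtWords C 8, bitSign (∑ t ∈ Cfsg.support₂ u, w t) =
      ((wtWords C 8).card : ℤ) - 2 * (octOdd C u).card := by
  have h1 : ∀ w : α → ZMod 2, bitSign (∑ t ∈ Cfsg.support₂ u, w t) =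
      1 - 2 * (if ∑ i, u i * w i = 1 then 1 else 0) := by
    intro w
    rw [dot_eq_sum_support]
    unfold bitSign
    split_ifs <;> norm_num
  rw [Finset.sum_congr rfl (fun w _ => h1 w), Finset.sum_sub_distrib, ← Finset.mul_sum]
  unfold octOdd
  rw [Finset.card_filter]
  push_cast
  simp

theorem card_octOdd_two (hC : IsAbsGolay C) (u : α → ZMod 2) (hu : hammingNorm u = 2) :
    (octOdd C u).card = 352 := by
  have h2 : (Cfsg.support₂ u).card = 2 := by rw [← hammingNorm_eq_card_support₂, hu]
  have h1 := sum_bitSign hC (Cfsg.support₂ u) (by omega)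
  rw [sum_bitSign_eq, card_wtWords_eight hC, h2] at h1
  simp [Finset.sum_range_succ, lam, Nat.choose] at h1
  omega

theorem card_octOdd_four (hC : IsAbsGolay C) (u : α → ZMod 2) (hu : hammingNorm u = 4) :
    (octOdd C u).card = 384 := by
  have h2 : (Cfsg.support₂ u).card = 4 := by rw [← hammingNorm_eq_card_support₂, hu]
  have h1 := sum_bitSign hC (Cfsg.support₂ u) (by omega)
  rw [sum_bitSign_eq, card_wtWords_eight hC, h2] at h1
  simp [Finset.sum_range_succ, lam, Nat.choose] at h1
  omega

end

end Cfsg.Agent.Lib.Helper9.GolayG
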