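import Mathlib
import Cfsg.Agent.Lib.Helper9.GolayDual1

set_option autoImplicit false

/-! Abstract Golay codes: functionals on the code, light representatives, and the action of a
weight-type-preserving linear automorphism on duad functionals. -/

namespace Cfsg.Agent.Lib.Helper9.GolayG

open Cfsg.Agent.Lib.Helper9

open Finset

section
variable {α : Type*} [Fintype α] [DecidableEq α] {C : Submodule (ZMod 2) (α → ZMod 2)}

theorem ker_dotDual_le (hC : IsAbsGolay C) : LinearMap.ker (dotDual C) ≤ C := by
  intro v hv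
  rw [LinearMap.mem_ker] at hv
  apply mem_of_perp_octads hC v
  intro c hc _
  have := LinearMap.congr_fun hv ⟨c, hc⟩
  rw [dotDual_apply] at this
  exact this

theorem dotDual_eq_zero_of_mem (hC : IsAbsGolay C) {v : α → ZMod 2} (hv : v ∈ C) :
    dotDual C v = 0 := by
  apply LinearMap.ext
  intro c
  rw [dotDual_apply]
  exact hC.horth v hv c c.2

theorem dotDual_surjective (hC : IsAbsGolay C) : Function.Surjective (dotDual C) := by
  rw [← LinearMap.range_eq_top]
  apply Submodule.eq_top_of_finrank_eq
  have h1 := LinearMap.finrank_range_add_finrank_ker (dotDual C)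
  have h3 : Module.finrank (ZMod 2) (LinearMap.ker (dotDual C)) ≤ 12 := by
    rw [← hC.hdim]
    exact Submodule.finrank_mono (ker_dotDual_le hC)
  have h4 : Module.finrank (ZMod 2) (α → ZMod 2) = 24 := by
    rw [Module.finrank_fintype_fun_eq_card, hC.hcard]
  have h2 : Module.finrank (ZMod 2) (LinearMap.range (dotDual C)) ≤
      Module.finrank (ZMod 2) (Module.Dual (ZMod 2) C) := Submodule.finrank_le _
  have h5 : Module.finrank (ZMod 2) (Module.Dual (ZMod 2) C) = 12 := by
    rw [Subspace.dual_finrank_eq, hC.hdim]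
  omega

/-- Every functional on the code is the dot product with a word of weight at most 4. -/
theorem exists_light (hC : IsAbsGolay C) (f : Module.Dual (ZMod 2) C) :
    ∃ u : α → ZMod 2, hammingNorm u ≤ 4 ∧ dotDual C u = f := by
  obtain ⟨v, rfl⟩ := dotDual_surjective hC f
  obtain ⟨u, hu4, huv⟩ : ∃ u : α → ZMod 2, hammingNorm u ≤ 4 ∧ u - v ∈ C := by
    rcases coset_dichotomy hC v with ⟨h3, _⟩ | ⟨_, h4⟩
    · obtain ⟨u, hu⟩ := Finset.card_eq_one.mp h3
      have hu3 : u ∈ cosetT3 C v := by rw [hu]; exact Finset.mem_singleton_self u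
      rw [mem_cosetT3] at hu3
      exact ⟨u, by omega, hu3.2⟩
    · have hne : (cosetT4 C v).Nonempty := by
        rw [← Finset.card_pos, h4]
        norm_num
      obtain ⟨u, hu⟩ := hne
      rw [mem_cosetT4] at hu
      exact ⟨u, by omega, hu.2⟩
  refine ⟨u, hu4, ?_⟩
  have h := dotDual_eq_zero_of_mem hC huv
  rw [map_sub, sub_eq_zero] at h
  exact h

/-- A word of weight at most 7 orthogonal to the code vanishes. -/
theorem eq_zero_of_light_perp (hC : IsAbsGolay C) (v : α → ZMod 2) (hv : hammingNorm v ≤ 7)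
    (h : ∀ c : C, ∑ i, v i * (c : α → ZMod 2) i = 0) : v = 0 := by
  by_contra hne
  have hmem : v ∈ C := by
    apply ker_dotDual_le hC
    rw [LinearMap.mem_ker]
    apply LinearMap.ext
    intro c
    rw [dotDual_apply]
    exact h c
  have := hC.hmin v hmem hne
  omega

open Classical in
/-- The words of weight 8 or 16 with odd dot product with `u`. -/
noncomputable def octTypeOdd (C : Submodule (ZMod 2) (α → ZMod 2)) (u : α → ZMod 2) :
    Finset (α → ZMod 2) :=
  univ.filter (fun w : α → ZMod 2 => w ∈ C ∧ (hammingNorm w = 8 ∨ hammingNorm w = 16) ∧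
    ∑ i, u i * w i = 1)

theorem mem_octTypeOdd (u w : α → ZMod 2) :
    w ∈ octTypeOdd C u ↔ w ∈ C ∧ (hammingNorm w = 8 ∨ hammingNorm w = 16) ∧
      ∑ i, u i * w i = 1 := by
  unfold octTypeOdd
  simp

theorem mem_octOdd (u w : α → ZMod 2) :
    w ∈ octOdd C u ↔ w ∈ C ∧ hammingNorm w = 8 ∧ ∑ i, u i * w i = 1 := by
  unfold octOdd
  rw [mem_filter, mem_wtWords, and_assoc]

theorem dot_add_one (u w : α → ZMod 2) (hu : ∑ i, u i = 0) :
    ∑ i, u i * (w + 1) i = ∑ i, u i * w i := by
  have : ∀ i, u i * (w + 1) i = u i * w i + u i := by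
    intro i
    rw [Pi.add_apply, Pi.one_apply, mul_add, mul_one]
  rw [Finset.sum_congr rfl (fun i _ => this i), Finset.sum_add_distrib, hu, add_zero]

theorem card_octTypeOdd (hC : IsAbsGolay C) (u : α → ZMod 2) (hu : ∑ i, u i = 0) :
    (octTypeOdd C u).card = 2 * (octOdd C u).card := by
  classical
  set B : Finset (α → ZMod 2) := univ.filter (fun w : α → ZMod 2 => w ∈ C ∧ hammingNorm w = 16 ∧
    ∑ i, u i * w i = 1) with hB
  have hmB : ∀ w, w ∈ B ↔ w ∈ C ∧ hammingNorm w = 16 ∧ ∑ i, u i * w i = 1 := by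
    intro w
    rw [hB]
    simp
  have h1 : octTypeOdd C u = octOdd C u ∪ B := by
    ext w
    rw [Finset.mem_union, mem_octTypeOdd, mem_octOdd, hmB]
    tauto
  have h2 : Disjoint (octOdd C u) B := by
    rw [Finset.disjoint_left]
    intro w hw hw'
    rw [mem_octOdd] at hw
    rw [hmB] at hw'
    omega
  have h3 : B.card = (octOdd C u).card := by
    have h1 := one_mem hC
    apply Finset.card_nbij' (fun w => w + 1) (fun w => w + 1)
    · intro w hw
      beta_reduce
      rw [Finset.mem_coe, hmB] at hw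
      rw [Finset.mem_coe, mem_octOdd]
      have := hammingNorm_add_one w
      rw [hC.hcard] at this
      refine ⟨C.add_mem hw.1 h1, by omega, ?_⟩
      rw [dot_add_one u w hu]
      exact hw.2.2
    · intro w hw
      beta_reduce
      rw [Finset.mem_coe, mem_octOdd] at hw
      rw [Finset.mem_coe, hmB]
      have := hammingNorm_add_one w
      rw [hC.hcard] at this
      refine ⟨C.add_mem hw.1 h1, by omega, ?_⟩
      rw [dot_add_one u w hu]
      exact hw.2.2
    · intro w _
      exact add_one_add_one w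
    · intro w _
      exact add_one_add_one w
  rw [h1, Finset.card_union_of_disjoint h2, h3]
  omega

/-- A linear automorphism preserving the weight up to complementation does not increase the
count `octTypeOdd` when transposed. -/
theorem card_octTypeOdd_le (x : C ≃ₗ[ZMod 2] C)
    (hwt : ∀ c : C, hammingNorm ((x c : C) : α → ZMod 2) = hammingNorm (c : α → ZMod 2) ∨
      hammingNorm ((x c : C) : α → ZMod 2) + hammingNorm (c : α → ZMod 2) = 24)
    (u u' : α → ZMod 2)
    (h : ∀ c : C, ∑ i, u' i * (c : α → ZMod 2) i = ∑ i, u i * ((x c : C) : α → ZMod 2) i) :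
    (octTypeOdd C u').card ≤ (octTypeOdd C u).card := by
  classical
  apply Finset.card_le_card_of_injOn
    (fun w => if hw : w ∈ C then ((x ⟨w, hw⟩ : C) : α → ZMod 2) else 0)
  · intro w hw
    rw [Finset.mem_coe, mem_octTypeOdd] at hw
    rw [Finset.mem_coe, mem_octTypeOdd]
    beta_reduce
    rw [dif_pos hw.1]
    refine ⟨(x ⟨w, hw.1⟩).2, ?_, ?_⟩
    · have := hwt ⟨w, hw.1⟩
      have h2 := hw.2.1
      simp only at this
      omega
    · rw [← h ⟨w, hw.1⟩]
      exact hw.2.2
  · intro w hw w' hw' heq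
    rw [Finset.mem_coe, mem_octTypeOdd] at hw hw'
    simp only at heq
    rw [dif_pos hw.1, dif_pos hw'.1] at heq
    have := x.injective (Subtype.ext heq)
    exact congrArg Subtype.val this

/-- A linear automorphism of the code fixing the all-ones word and preserving weights up to
complementation sends duad functionals to duad functionals. -/
theorem duad_to_duad (hC : IsAbsGolay C) (x : C ≃ₗ[ZMod 2] C)
    (hx1 : ((x ⟨1, one_mem hC⟩ : C) : α → ZMod 2) = 1)
    (hwt : ∀ c : C, hammingNorm ((x c : C) : α → ZMod 2) = hammingNorm (c : α → ZMod 2) ∨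
      hammingNorm ((x c : C) : α → ZMod 2) + hammingNorm (c : α → ZMod 2) = 24)
    (u : α → ZMod 2) (hu : hammingNorm u = 2) :
    ∃ u' : α → ZMod 2, hammingNorm u' = 2 ∧
      ∀ c : C, ∑ i, u' i * (c : α → ZMod 2) i = ∑ i, u i * ((x c : C) : α → ZMod 2) i := by
  obtain ⟨u', hu'4, hu'f⟩ := exists_light hC ((dotDual C u).comp x.toLinearMap)
  have hdot : ∀ c : C, ∑ i, u' i * (c : α → ZMod 2) i = ∑ i, u i * ((x c : C) : α → ZMod 2) i := by
    intro c
    have := LinearMap.congr_fun hu'f c
    rw [dotDual_apply] at this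
    rw [this]
    rfl
  refine ⟨u', ?_, hdot⟩
  have hsu : ∑ i, u i = 0 := by
    rw [sum_eq_card_support₂, ← hammingNorm_eq_card_support₂, hu]
    decide
  have hsu' : ∑ i, u' i = 0 := by
    have h1 := hdot ⟨1, one_mem hC⟩
    rw [hx1] at h1
    simp only [Pi.one_apply, mul_one] at h1
    rw [h1, hsu]
  have heven : 2 ∣ hammingNorm u' := by
    rw [sum_eq_card_support₂, ← hammingNorm_eq_card_support₂] at hsu'
    exact (ZMod.natCast_eq_zero_iff _ _).mp hsu'
  have hcases : hammingNorm u' = 0 ∨ hammingNorm u' = 2 ∨ hammingNorm u' = 4 := by omega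
  rcases hcases with h0 | h2 | h4
  · exfalso
    rw [hammingNorm_eq_zero_iff] at h0
    have hu0 : u = 0 := by
      apply eq_zero_of_light_perp hC u (by omega)
      intro c
      obtain ⟨c', rfl⟩ := x.surjective c
      rw [← hdot c', h0]
      simp
    rw [hu0, hammingNorm_zero] at hu
    omega
  · exact h2
  · exfalso
    have hle := card_octTypeOdd_le x hwt u u' hdot
    rw [card_octTypeOdd hC u hsu, card_octTypeOdd hC u' hsu', card_octOdd_two hC u hu,
      card_octOdd_four hC u' h4] at hle
    omega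

end

end Cfsg.Agent.Lib.Helper9.GolayG
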