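import Mathlib
import Cfsg.Agent.Lib.Helper9.GolayDual2

set_option autoImplicit false

/-! Abstract Golay codes: a linear automorphism of the code fixing the all-ones word and
preserving weights up to complementation is a coordinate permutation up to adding the all-ones
word. -/

namespace Cfsg.Agent.Lib.Helper9.GolayG

open Cfsg.Agent.Lib.Helper9

open Finset

section
variable {α : Type*} [Fintype α] [DecidableEq α] {C : Submodule (ZMod 2) (α → ZMod 2)}

theorem dot_indW (A : Finset α) (w : α → ZMod 2) : ∑ i, indW A i * w i = ∑ t ∈ A, w t := by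
  rw [dot_eq_sum_support, support₂_indW]

theorem wt_add_le (u v : α → ZMod 2) :
    hammingNorm (u + v) ≤ hammingNorm u + hammingNorm v := by
  have := wt_add u v
  omega

/-- Separation: a relation among few coordinates that holds on the whole code is trivial. -/
theorem symmDiff_eq_of_dot (hC : IsAbsGolay C) (A B E : Finset α)
    (hcard : A.card + B.card + E.card ≤ 7)
    (h : ∀ c : C, ∑ t ∈ A, (c : α → ZMod 2) t + ∑ t ∈ B, (c : α → ZMod 2) t =
      ∑ t ∈ E, (c : α → ZMod 2) t) :
    symmDiff A B = E := by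
  have hv : indW A + indW B + indW E = 0 := by
    apply eq_zero_of_light_perp hC
    · have h1 := wt_add_le (indW A + indW B) (indW E)
      have h2 := wt_add_le (indW A) (indW B)
      rw [hammingNorm_indW] at h1
      rw [hammingNorm_indW, hammingNorm_indW] at h2
      omega
    · intro c
      rw [dot_add_left, dot_add_left, dot_indW, dot_indW, dot_indW, h c]
      exact CharTwo.add_self_eq_zero _
  have h2 : indW A + indW B = indW E := by
    have h3 := congrArg (fun v => v + indW E) hv
    simp only [zero_add] at h3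
    rw [add_assoc _ (indW E), add_self_word, add_zero] at h3
    exact h3
  have h3 := congrArg Cfsg.support₂ h2
  rw [support₂_add, support₂_indW, support₂_indW, support₂_indW] at h3
  exact h3

/-- Three 2-sets meeting pairwise in one point, not forming a triangle, share a point. -/
theorem claw (A B E : Finset α) (hA : A.card = 2) (hB : B.card = 2) (hE : E.card = 2)
    (hAB : (A ∩ B).card = 1) (hAE : (A ∩ E).card = 1) (hBE : (B ∩ E).card = 1)
    (hne : symmDiff A B ≠ E) {z : α} (hz : z ∈ A ∩ B) : z ∈ E := by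
  by_contra hzE
  apply hne
  have hABz : A ∩ B = {z} := by
    obtain ⟨z', hz'⟩ := Finset.card_eq_one.mp hAB
    rw [hz'] at hz ⊢
    rw [Finset.mem_singleton] at hz
    rw [hz]
  obtain ⟨a, ha⟩ := Finset.card_pos.mp (by omega : 0 < (A ∩ E).card)
  obtain ⟨b, hb⟩ := Finset.card_pos.mp (by omega : 0 < (B ∩ E).card)
  rw [Finset.mem_inter] at ha hb
  have haB : a ∉ B := by
    intro haB
    have h1 : a ∈ A ∩ B := Finset.mem_inter.mpr ⟨ha.1, haB⟩
    rw [hABz, Finset.mem_singleton] at h1
    rw [h1] at ha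
    exact hzE ha.2
  have hbA : b ∉ A := by
    intro hbA
    have h1 : b ∈ A ∩ B := Finset.mem_inter.mpr ⟨hbA, hb.1⟩
    rw [hABz, Finset.mem_singleton] at h1
    rw [h1] at hb
    exact hzE hb.2
  have hab : a ≠ b := by
    rintro rfl
    exact haB hb.1
  have hsd : (symmDiff A B).card = 2 := by
    have := card_symmDiff_add A B
    omega
  have hsub : ({a, b} : Finset α) ⊆ symmDiff A B := by
    intro t ht
    rw [Finset.mem_insert, Finset.mem_singleton] at ht
    rw [Finset.mem_symmDiff]
    rcases ht with rfl | rfl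
    · left; exact ⟨ha.1, haB⟩
    · right; exact ⟨hb.1, hbA⟩
  have hsub' : ({a, b} : Finset α) ⊆ E := by
    intro t ht
    rw [Finset.mem_insert, Finset.mem_singleton] at ht
    rcases ht with rfl | rfl
    · exact ha.2
    · exact hb.2
  have hc : ({a, b} : Finset α).card = 2 := Finset.card_pair hab
  have e1 := Finset.eq_of_subset_of_card_le hsub (by omega)
  have e2 := Finset.eq_of_subset_of_card_le hsub' (by omega)
  rw [← e1, e2]

theorem zmod2_cancel3 : ∀ a b d : ZMod 2, (a + b) + (a + d) = b + d := by decide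

theorem zmod2_move : ∀ a b d e : ZMod 2, a + b = d + e → b = e + (a + d) := by decide

theorem zmod2_self : ∀ a b : ZMod 2, a = b + (a + b) := by decide

/-- The main abstract statement. -/
theorem linear_aut_is_perm (hC : IsAbsGolay C) (x : C ≃ₗ[ZMod 2] C)
    (hx1 : ((x ⟨1, one_mem hC⟩ : C) : α → ZMod 2) = 1)
    (hwt : ∀ c : C, hammingNorm ((x c : C) : α → ZMod 2) = hammingNorm (c : α → ZMod 2) ∨
      hammingNorm ((x c : C) : α → ZMod 2) + hammingNorm (c : α → ZMod 2) = 24) :
    ∃ τ : Equiv.Perm α, ∃ g : C → ZMod 2, ∀ (c : C) (q : α),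
      ((x c : C) : α → ZMod 2) q = (c : α → ZMod 2) (τ q) + g c := by
  classical
  -- images of duads
  have hD : ∀ a b : α, a ≠ b → ∃ D : Finset α, D.card = 2 ∧ ∀ c : C,
      ((x c : C) : α → ZMod 2) a + ((x c : C) : α → ZMod 2) b =
        ∑ t ∈ D, (c : α → ZMod 2) t := by
    intro a b hab
    obtain ⟨u', hu', hdot⟩ := duad_to_duad hC x hx1 hwt (indW {a, b})
      (by rw [hammingNorm_indW, Finset.card_pair hab])
    refine ⟨Cfsg.support₂ u', by rw [← hammingNorm_eq_card_support₂, hu'], ?_⟩
    intro c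
    rw [← dot_eq_sum_support, hdot c, dot_indW, Finset.sum_pair hab]
  -- the code (through x) separates points
  have hsep : ∀ a b : α,
      (∀ c : C, ((x c : C) : α → ZMod 2) a = ((x c : C) : α → ZMod 2) b) → a = b := by
    intro a b h
    have h1 := symmDiff_eq_of_dot hC {a} {b} ∅ (by simp) (by
      intro c
      obtain ⟨c', rfl⟩ := x.surjective c
      rw [Finset.sum_singleton, Finset.sum_singleton, Finset.sum_empty, h c']
      exact CharTwo.add_self_eq_zero _)
    rw [← Finset.bot_eq_empty, symmDiff_eq_bot] at h1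
    exact Finset.singleton_injective h1
  have hcard := hC.hcard
  obtain ⟨p0⟩ : Nonempty α := by
    rw [← Fintype.card_pos_iff, hcard]
    norm_num
  choose! D hD2 hDdot using (fun q (hq : q ≠ p0) => hD p0 q (Ne.symm hq))
  -- pairs
  have hpair : ∀ q q', q ≠ p0 → q' ≠ p0 → q ≠ q' → ∃ E : Finset α, E.card = 2 ∧
      symmDiff (D q) (D q') = E ∧ ∀ c : C,
        ((x c : C) : α → ZMod 2) q + ((x c : C) : α → ZMod 2) q' =
          ∑ t ∈ E, (c : α → ZMod 2) t := by
    intro q q' hq hq' hne
    obtain ⟨E, hE2, hEdot⟩ := hD q q' hne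
    refine ⟨E, hE2, ?_, hEdot⟩
    apply symmDiff_eq_of_dot hC _ _ _ (by rw [hD2 q hq, hD2 q' hq', hE2]; norm_num)
    intro c
    rw [← hDdot q hq c, ← hDdot q' hq' c, ← hEdot c]
    exact zmod2_cancel3 _ _ _
  have hinter : ∀ q q', q ≠ p0 → q' ≠ p0 → q ≠ q' → (D q ∩ D q').card = 1 := by
    intro q q' hq hq' hne
    obtain ⟨E, hE2, hsd, _⟩ := hpair q q' hq hq' hne
    have h1 := card_symmDiff_add (D q) (D q')
    rw [hsd, hE2, hD2 q hq, hD2 q' hq'] at h1
    omega
  have hnt : ∀ q q' q'', q ≠ p0 → q' ≠ p0 → q'' ≠ p0 → q ≠ q' → q ≠ q'' →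
      symmDiff (D q) (D q') ≠ D q'' := by
    intro q q' q'' hq hq' hq'' hne hne' heq
    obtain ⟨E, hE2, hsd, hEdot⟩ := hpair q q' hq hq' hne
    rw [heq] at hsd
    have h1 := symmDiff_eq_of_dot hC {q, q'} {p0, q''} ∅
      (by rw [Finset.card_pair hne, Finset.card_pair (Ne.symm hq'')]; simp) (by
        intro c
        obtain ⟨c', rfl⟩ := x.surjective c
        rw [Finset.sum_pair hne, Finset.sum_pair (Ne.symm hq''), Finset.sum_empty, hEdot c',
          hDdot q'' hq'' c', hsd]
        exact CharTwo.add_self_eq_zero _)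
    rw [← Finset.bot_eq_empty, symmDiff_eq_bot] at h1
    have h2 : q ∈ ({p0, q''} : Finset α) := by
      rw [← h1]
      exact Finset.mem_insert_self _ _
    rw [Finset.mem_insert, Finset.mem_singleton] at h2
    rcases h2 with h2 | h2
    · exact hq h2
    · exact hne' h2
  -- two further points
  obtain ⟨q1, hq1⟩ : ∃ q1 : α, q1 ≠ p0 := by
    obtain ⟨e, _, he⟩ := Finset.exists_mem_notMem_of_card_lt_card
      (s := ({p0} : Finset α)) (t := univ) (by rw [Finset.card_univ, hcard]; simp)
    exact ⟨e, by simpa using he⟩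
  obtain ⟨q2, hq2, hq21⟩ : ∃ q2 : α, q2 ≠ p0 ∧ q2 ≠ q1 := by
    obtain ⟨e, _, he⟩ := Finset.exists_mem_notMem_of_card_lt_card
      (s := ({p0, q1} : Finset α)) (t := univ) (by
        rw [Finset.card_univ, hcard]
        have := Finset.card_le_two (a := p0) (b := q1)
        omega)
    rw [Finset.mem_insert, Finset.mem_singleton] at he
    push_neg at he
    exact ⟨e, he.1, he.2⟩
  obtain ⟨z, hz⟩ := Finset.card_eq_one.mp (hinter q1 q2 hq1 hq2 (Ne.symm hq21))
  have hzmem : z ∈ D q1 ∩ D q2 := by
    rw [hz]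
    exact Finset.mem_singleton_self z
  have hzall : ∀ q, q ≠ p0 → z ∈ D q := by
    intro q hq
    by_cases h1 : q = q1
    · rw [h1]
      exact (Finset.mem_inter.mp hzmem).1
    by_cases h2 : q = q2
    · rw [h2]
      exact (Finset.mem_inter.mp hzmem).2
    exact claw (D q1) (D q2) (D q) (hD2 q1 hq1) (hD2 q2 hq2) (hD2 q hq)
      (hinter q1 q2 hq1 hq2 (Ne.symm hq21)) (hinter q1 q hq1 hq (Ne.symm h1))
      (hinter q2 q hq2 hq (Ne.symm h2))
      (hnt q1 q2 q hq1 hq2 hq (Ne.symm hq21) (Ne.symm h1)) hzmem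
  have hy : ∀ q, q ≠ p0 → ∃ y : α, ∀ c : C,
      ((x c : C) : α → ZMod 2) p0 + ((x c : C) : α → ZMod 2) q =
        (c : α → ZMod 2) z + (c : α → ZMod 2) y := by
    intro q hq
    have h1 : ((D q).erase z).card = 1 := by
      rw [Finset.card_erase_of_mem (hzall q hq), hD2 q hq]
    obtain ⟨y, hy⟩ := Finset.card_eq_one.mp h1
    refine ⟨y, ?_⟩
    intro c
    rw [hDdot q hq c, ← Finset.add_sum_erase _ _ (hzall q hq), hy, Finset.sum_singleton]
  choose! y hy using hy
  set yf : α → α := fun q => if q = p0 then z else y q with hyf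
  set g : C → ZMod 2 := fun c => ((x c : C) : α → ZMod 2) p0 + (c : α → ZMod 2) z with hg
  have hmain : ∀ (c : C) (q : α),
      ((x c : C) : α → ZMod 2) q = (c : α → ZMod 2) (yf q) + g c := by
    intro c q
    by_cases hq : q = p0
    · rw [hyf, hg]
      simp only [hq, if_true]
      exact zmod2_self _ _
    · rw [hyf, hg]
      simp only [hq, if_false]
      exact zmod2_move _ _ _ _ (hy q hq c)
  have hinj : Function.Injective yf := by
    intro q q' h
    apply hsep
    intro c
    rw [hmain c q, hmain c q', h]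
  refine ⟨Equiv.ofBijective yf ⟨hinj, Finite.injective_iff_surjective.mp hinj⟩, g, ?_⟩
  intro c q
  exact hmain c q

end

end Cfsg.Agent.Lib.Helper9.GolayG
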