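import Mathlib
import Cfsg.Agent.Lib.Helper9.GolayG5

set_option autoImplicit false

/-! The punctured code of an abstract Golay code on `Option β`: perfectness and weight
distribution. -/

namespace Cfsg.Agent.Lib.Helper9.GolayG

open Cfsg.Agent.Lib.Helper9

open Finset

section
variable {β : Type*} [Fintype β] [DecidableEq β] {C : Submodule (ZMod 2) (Option β → ZMod 2)}

/-- Puncturing at the extra point. -/
def punct (w : Option β → ZMod 2) : β → ZMod 2 := fun x => w (some x)

/-- The punctured code. -/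
def punctCode (C : Submodule (ZMod 2) (Option β → ZMod 2)) : Set (β → ZMod 2) :=
  {u | ∃ w ∈ C, ∀ x, u x = w (some x)}

theorem punctCode_eq_image : punctCode C = punct '' (C : Set (Option β → ZMod 2)) := by
  ext u
  unfold punctCode
  rw [Set.mem_setOf_eq, Set.mem_image]
  constructor
  · rintro ⟨w, hw, h⟩
    exact ⟨w, hw, (funext h).symm⟩
  · rintro ⟨w, hw, rfl⟩
    exact ⟨w, hw, fun _ => rfl⟩

theorem punct_sub (w v : Option β → ZMod 2) : punct (w - v) = punct w - punct v := rfl

theorem hammingNorm_punct (w : Option β → ZMod 2) :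
    hammingNorm w = (if w none = 0 then 0 else 1) + hammingNorm (punct w) := by
  unfold hammingNorm punct
  rw [Finset.card_filter, Finset.card_filter, Fintype.sum_option]
  congr 1
  by_cases h : w none = 0 <;> simp [h]

theorem hammingNorm_punct_le (w : Option β → ZMod 2) : hammingNorm w ≤ 1 + hammingNorm (punct w) := by
  rw [hammingNorm_punct w]
  split_ifs <;> omega

theorem hammingNorm_punct_le' (w : Option β → ZMod 2) : hammingNorm (punct w) ≤ hammingNorm w := by
  rw [hammingNorm_punct w]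
  omega

theorem punct_injOn (hC : IsAbsGolay C) : Set.InjOn punct (C : Set (Option β → ZMod 2)) := by
  intro w hw w' hw' h
  by_contra hne
  have h1 : w - w' ∈ C := C.sub_mem hw hw'
  have h2 : w - w' ≠ 0 := sub_ne_zero.mpr hne
  have h3 := hC.hmin _ h1 h2
  have h4 := hammingNorm_punct_le (w - w')
  rw [punct_sub, h, sub_self, hammingNorm_zero] at h4
  omega

/-- The punctured code is perfect. -/
theorem punct_perfect (hC : IsAbsGolay C) (u : β → ZMod 2) :
    ∃! c : β → ZMod 2, c ∈ punctCode C ∧ hammingDist u c ≤ 3 := by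
  -- existence
  have hex : ∃ c : β → ZMod 2, c ∈ punctCode C ∧ hammingDist u c ≤ 3 := by
    set W : Option β → ZMod 2 := fun o => o.elim 0 u with hW
    have hWu : punct W = u := rfl
    have key : ∃ v : Option β → ZMod 2, v - W ∈ C ∧ hammingNorm (punct v) ≤ 3 := by
      rcases coset_dichotomy hC W with ⟨h3, _⟩ | ⟨_, h4⟩
      · obtain ⟨v, hv⟩ := Finset.card_eq_one.mp h3
        have hv3 : v ∈ cosetT3 C W := by rw [hv]; exact Finset.mem_singleton_self v
        rw [mem_cosetT3] at hv3
        exact ⟨v, hv3.2, le_trans (hammingNorm_punct_le' v) hv3.1⟩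
      · obtain ⟨v, hv, hnone⟩ := cosetT4_cover hC h4 none
        rw [mem_cosetT4] at hv
        rw [mem_support₂] at hnone
        refine ⟨v, hv.2, ?_⟩
        have := hammingNorm_punct v
        rw [hnone, if_neg one_ne_zero, hv.1] at this
        omega
    obtain ⟨v, hvC, hv3⟩ := key
    refine ⟨punct (W - v), ?_, ?_⟩
    · rw [punctCode_eq_image]
      refine ⟨W - v, ?_, rfl⟩
      have := C.neg_mem hvC
      rwa [neg_sub] at this
    · rw [hammingDist_comm, hammingDist_eq_hammingNorm, punct_sub, hWu]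
      have : -(u - punct v) + u = punct v := by abel
      rw [this]
      exact hv3
  obtain ⟨c, hc⟩ := hex
  refine ⟨c, hc, ?_⟩
  rintro c' ⟨hc'P, hc'd⟩
  rw [punctCode_eq_image] at hc'P
  obtain ⟨hcP, hcd⟩ := hc
  rw [punctCode_eq_image] at hcP
  obtain ⟨w, hw, rfl⟩ := hcP
  obtain ⟨w', hw', rfl⟩ := hc'P
  by_contra hne
  have hne' : w' ≠ w := fun h => hne (by rw [h])
  have h1 : w' - w ∈ C := C.sub_mem hw' hw
  have h2 : w' - w ≠ 0 := sub_ne_zero.mpr hne'
  have h3 := hC.hmin _ h1 h2
  have h4 := hammingNorm_punct_le (w' - w)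
  have h6 : hammingNorm (punct w' - punct w) = hammingDist (punct w) (punct w') := by
    rw [hammingDist_eq_hammingNorm, neg_add_eq_sub]
  rw [punct_sub, h6] at h4
  have h5 := hammingDist_triangle (punct w) u (punct w')
  rw [hammingDist_comm (punct w) u] at h5
  omega

theorem punctCode_ncard (hC : IsAbsGolay C) : (punctCode C).ncard = 4096 := by
  rw [punctCode_eq_image, Set.InjOn.ncard_image (punct_injOn hC), ← natCard_code hC,
    ← Nat.card_coe_set_eq]
  rfl

theorem punctCode_min (hC : IsAbsGolay C) (u : β → ZMod 2) (hu : u ∈ punctCode C) (hne : u ≠ 0) :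
    7 ≤ hammingNorm u := by
  rw [punctCode_eq_image] at hu
  obtain ⟨w, hw, rfl⟩ := hu
  have hw0 : w ≠ 0 := by
    rintro rfl
    exact hne rfl
  have h3 := hC.hmin _ hw hw0
  have h4 := hammingNorm_punct_le w
  omega

theorem card_wtAt_of_not_dvd (hC : IsAbsGolay C) (k : ℕ) (hk : ¬ 4 ∣ k) (p : Option β) (e : ZMod 2) :
    (wtAt C k p e).card = 0 := by
  rw [Finset.card_eq_zero, Finset.eq_empty_iff_forall_notMem]
  intro w hw
  rw [mem_wtAt] at hw
  apply hk
  rw [← hw.2.1]
  exact doubly_even hC w hw.1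

/-- The number of punctured codewords of weight `k`. -/
theorem punctCode_wt_ncard (hC : IsAbsGolay C) (k : ℕ) :
    {u : β → ZMod 2 | u ∈ punctCode C ∧ hammingNorm u = k}.ncard =
      (wtAt C k none 0).card + (wtAt C (k + 1) none 1).card := by
  have h1 : {u : β → ZMod 2 | u ∈ punctCode C ∧ hammingNorm u = k} =
      punct '' (↑(wtAt C k none 0 ∪ wtAt C (k + 1) none 1) : Set (Option β → ZMod 2)) := by
    ext u
    rw [Set.mem_setOf_eq, punctCode_eq_image, Set.mem_image, Set.mem_image]
    constructor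
    · rintro ⟨⟨w, hw, rfl⟩, hk⟩
      refine ⟨w, ?_, rfl⟩
      rw [Finset.mem_coe, Finset.mem_union, mem_wtAt, mem_wtAt]
      have := hammingNorm_punct w
      rcases zmod2_cases (w none) with h | h
      · left
        rw [h, if_pos rfl] at this
        exact ⟨hw, by omega, h⟩
      · right
        rw [h, if_neg one_ne_zero] at this
        exact ⟨hw, by omega, h⟩
    · rintro ⟨w, hw, rfl⟩
      rw [Finset.mem_coe, Finset.mem_union, mem_wtAt, mem_wtAt] at hw
      have := hammingNorm_punct w
      rcases hw with ⟨hw, hk, h⟩ | ⟨hw, hk, h⟩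
      · rw [h, if_pos rfl] at this
        exact ⟨⟨w, hw, rfl⟩, by omega⟩
      · rw [h, if_neg one_ne_zero] at this
        exact ⟨⟨w, hw, rfl⟩, by omega⟩
  rw [h1, Set.InjOn.ncard_image, Set.ncard_coe_finset, Finset.card_union_of_disjoint]
  · rw [Finset.disjoint_left]
    intro w h0 h1'
    rw [mem_wtAt] at h0 h1'
    omega
  · apply (punct_injOn hC).mono
    intro w hw
    rw [Finset.mem_coe, Finset.mem_union, mem_wtAt, mem_wtAt] at hw
    rcases hw with hw | hw
    · exact hw.1
    · exact hw.1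

/-- The weight distribution of the punctured code. -/
theorem punctCode_distribution (hC : IsAbsGolay C) :
    {u : β → ZMod 2 | u ∈ punctCode C ∧ hammingNorm u = 7}.ncard = 253 ∧
    {u : β → ZMod 2 | u ∈ punctCode C ∧ hammingNorm u = 8}.ncard = 506 ∧
    {u : β → ZMod 2 | u ∈ punctCode C ∧ hammingNorm u = 11}.ncard = 1288 ∧
    {u : β → ZMod 2 | u ∈ punctCode C ∧ hammingNorm u = 12}.ncard = 1288 ∧
    {u : β → ZMod 2 | u ∈ punctCode C ∧ hammingNorm u = 15}.ncard = 506 ∧
    {u : β → ZMod 2 | u ∈ punctCode C ∧ hammingNorm u = 16}.ncard = 253 := by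
  refine ⟨?_, ?_, ?_, ?_, ?_, ?_⟩
  · rw [punctCode_wt_ncard hC, card_wtAt_of_not_dvd hC 7 (by norm_num), card_wtAt_eight_one hC]
  · rw [punctCode_wt_ncard hC, card_wtAt_of_not_dvd hC 9 (by norm_num), card_wtAt_eight_zero hC]
  · rw [punctCode_wt_ncard hC, card_wtAt_of_not_dvd hC 11 (by norm_num), card_wtAt_twelve hC]
  · rw [punctCode_wt_ncard hC, card_wtAt_of_not_dvd hC 13 (by norm_num), card_wtAt_twelve hC]
  · rw [punctCode_wt_ncard hC, card_wtAt_of_not_dvd hC 15 (by norm_num), card_wtAt_sixteen_one hC]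
  · rw [punctCode_wt_ncard hC, card_wtAt_of_not_dvd hC 17 (by norm_num), card_wtAt_sixteen_zero hC]

end

end Cfsg.Agent.Lib.Helper9.GolayG
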