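import Mathlib
import Cfsg.Agent.Lib.Helper9.Grun6

set_option autoImplicit false
open Cfsg Cfsg.FusionSystem

namespace Cfsg.Agent.Lib.Helper9

variable {Ω : Type*} [Group Ω] {S : Subgroup Ω}
variable {Ω' : Type*} [Group Ω'] {S' : Subgroup Ω'}

/-- Grün's lemma for fusion systems: if `hyp(F) = S` then `F / Z(F)` has trivial centre. -/
theorem grun_factor [Finite S] (p : ℕ) [Fact p.Prime] (hS : IsPGroup p S)
    (F : FusionSystem S) (hF : F.IsSaturated p) (hperf : F.hyperfocalSubgroup p = S)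
    (θ : S →* Ω') (E : FusionSystem S') (hE : F.IsFactorSystem F.center θ E) : E.center = ⊥ := by
  have hZ : F.IsCentral F.center := Cfsg.Agent.S5144.result F
  have hθ : F.IsSurjectiveMorphism E θ :=
    Cfsg.Agent.S5134.result p hS F hF F.center (stronglyClosed_of_isCentral F hZ) θ E hE
  obtain ⟨hZS, hker, hrange, -⟩ := hE
  unfold FusionSystem.center
  rw [eq_bot_iff]
  apply sSup_le
  intro Q' hQ'
  have hQ'c : E.IsCentral Q' := hQ'
  intro y hy
  have hyS' : y ∈ θ.range := by rw [hrange]; exact hQ'c.1 hy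
  obtain ⟨s, rfl⟩ := hyS'
  -- every element of the preimage is fixed by all maps
  have hfix : ∀ z : Ω, ∀ hzS : z ∈ S, θ ⟨z, hzS⟩ ∈ Q' → ∀ (R : Subgroup Ω) (φ : R →* Ω),
      φ ∈ F.Hom R → ∀ hzR : z ∈ R, φ ⟨z, hzR⟩ = z := by
    intro z hzS hzQ R φ hφ hzR
    have hzc : ∀ s ∈ S, Commute z s := fun s hs =>
      grun_central p F E θ hθ hZ hker hperf hQ'c hzS hzQ hs
    exact fix_of_aut_fix p hS F hF hzS hzc
      (fun P hPn hzP α hα => grun_aut_fix p hS F hF E θ hθ.1 hZ hker hQ'c hzS hzQ hzc hPn hzP α hα)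
      hφ hzR
  have hcen : F.IsCentral (preimageAlong θ Q') := by
    rw [Cfsg.Agent.S5084.result p hS F hF]
    refine ⟨preimageAlong_le θ Q', ?_⟩
    rintro x hx y ⟨φ, hφ, rfl⟩
    obtain ⟨hxS, hxQ⟩ := (mem_preimageAlong_iff θ Q' x).mp hx
    exact hfix x hxS hxQ _ φ hφ _
  have hle : preimageAlong θ Q' ≤ F.center := le_sSup hcen
  have hs : (s : Ω) ∈ preimageAlong θ Q' := (mem_preimageAlong_iff θ Q' _).mpr ⟨s.2, hy⟩
  rw [Subgroup.mem_bot]
  exact (hker s).mpr (hle hs)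

end Cfsg.Agent.Lib.Helper9
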