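import Mathlib
import Cfsg.Prelude.Def_Blocks
import Cfsg.Prelude.Def_BlockRank
import Cfsg.Agent.Lib.Helper4.Characters
import Cfsg.Agent.Lib.Helper8.BlockRank

set_option autoImplicit false

/-!
S4588 swarm, sub-piece PK-Do3: the Gram matrix of the `p`-regular parts of orthonormal class
functions which are constant `= ε i = ±1` on the `p`-singular elements.
-/

namespace Cfsg.Agent.Lib.Helper8.HKS

open Cfsg
open scoped ComplexConjugate
open Cfsg.Agent.Lib.Helper1 Cfsg.Agent.Lib.Helper4 Cfsg.Agent.Lib.Helper8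

universe u

theorem gram_of_const_on_singular {K : Type u} [Group K] [Fintype K] {p e : ℕ}
    (χ : Fin e → K → ℂ) (ε : Fin e → ℂ) (hε : ∀ i, ε i = 1 ∨ ε i = -1)
    (horth : ∀ i j, classInner (χ i) (χ j) = if i = j then 1 else 0)
    (hsing : ∀ i g, p ∣ orderOf g → χ i g = ε i) (i j : Fin e) :
    classInner (ε i • pRegularPart p (χ i)) (ε j • pRegularPart p (χ j)) =
      (if i = j then (1 : ℂ) else 0) -
        (Nat.card K : ℂ)⁻¹ * (Nat.card {g : K // p ∣ orderOf g} : ℂ) := by
  classical
  have hconj : ∀ k, conj (ε k) = ε k := by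
    intro k
    rcases hε k with h | h <;> rw [h] <;> simp
  have hsq : ∀ k, ε k * ε k = 1 := by
    intro k
    rcases hε k with h | h <;> rw [h] <;> ring
  -- pointwise: the product of the regular parts
  have hpt : ∀ g : K, (ε i • pRegularPart p (χ i)) g * conj ((ε j • pRegularPart p (χ j)) g) =
      ε i * ε j * (χ i g * conj (χ j g)) - (if p ∣ orderOf g then 1 else 0) := by
    intro g
    rw [Pi.smul_apply, Pi.smul_apply, smul_eq_mul, smul_eq_mul, map_mul, hconj]
    by_cases hg : p ∣ orderOf g
    · rw [pRegularPart_of_dvd _ hg, pRegularPart_of_dvd _ hg, if_pos hg, hsing i g hg,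
        hsing j g hg, hconj, map_zero, mul_zero, mul_zero]
      have h1 := hsq i
      have h2 := hsq j
      linear_combination (-1 : ℂ) * (ε j * ε j) * h1 - h2
    · rw [pRegularPart_of_not_dvd _ hg, pRegularPart_of_not_dvd _ hg, if_neg hg, sub_zero]
      ring
  have h0 := horth i j
  rw [classInner_def] at h0 ⊢
  rw [Finset.sum_congr rfl (fun g _ => hpt g), Finset.sum_sub_distrib, ← Finset.mul_sum,
    Finset.sum_boole, mul_sub, mul_left_comm, h0, Nat.card_eq_fintype_card (α := {g : K // _}),
    Fintype.card_subtype]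
  congr 1
  by_cases hij : i = j
  · rw [if_pos hij, mul_one, hij, hsq]
  · rw [if_neg hij, mul_zero]

end Cfsg.Agent.Lib.Helper8.HKS
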