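import Mathlib
import Cfsg.Prelude.Def_FusionSystem
import Cfsg.Agent.Lib.Helper6.PRes
import Cfsg.Agent.Lib.Helper9.Hyperfocal2

set_option autoImplicit false

/-! Transport of the hyperfocal subgroup from a subgroup `K` (as a group) to `G`. -/

namespace Cfsg.Agent.Lib.Helper9

open Cfsg Cfsg.FusionSystem Cfsg.Agent.Lib.Helper6

variable {G : Type*} [Group G]

theorem hyperfocal_map_le (p : ℕ) (S K : Subgroup G) (T : Subgroup K) (hTS : T.map K.subtype ≤ S) :
    ((groupFusionSystem T).hyperfocalSubgroup p).map K.subtype ≤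
      (groupFusionSystem S).hyperfocalSubgroup p := by
  unfold FusionSystem.hyperfocalSubgroup
  rw [MonoidHom.map_closure, Subgroup.closure_le]
  rintro _ ⟨_, ⟨P', α, x, hP'T, hα, rfl⟩, rfl⟩
  obtain ⟨P, hPdef⟩ : ∃ P : Subgroup G, P = P'.map K.subtype := ⟨_, rfl⟩
  have hPS : P ≤ S := by
    rw [hPdef]
    exact (Subgroup.map_mono hP'T).trans hTS
  obtain ⟨e, he⟩ : ∃ e : P' ≃* P, ∀ y : P', ((e y : P) : G) = ((y : K) : G) := by
    subst hPdef
    exact ⟨P'.equivMapOfInjective K.subtype K.subtype_injective, fun y => rfl⟩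
  have hΦ : ∀ β : MulAut P', β ∈ (groupFusionSystem T).autGroup P' →
      (MulAut.congr e).toMonoidHom β ∈ (groupFusionSystem S).autGroup P := by
    intro β hβ
    rw [mem_groupFusion_autGroup_iff T P' hP'T] at hβ
    obtain ⟨k, hk⟩ := hβ
    rw [mem_groupFusion_autGroup_iff S P hPS]
    refine ⟨(k : G), fun z => ?_⟩
    have h1 : ((MulAut.congr e).toMonoidHom β) z = e (β (e.symm z)) := rfl
    have hz : (((e.symm z : P') : K) : G) = z := by rw [← he, e.apply_symm_apply]
    rw [h1, he, hk, Subgroup.coe_mul, Subgroup.coe_mul, Subgroup.coe_inv, hz]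
  obtain ⟨f, hf⟩ : ∃ f : (groupFusionSystem T).autGroup P' →* (groupFusionSystem S).autGroup P,
      ∀ β, ((f β : (groupFusionSystem S).autGroup P) : MulAut P) =
        (MulAut.congr e).toMonoidHom (β : MulAut P') :=
    ⟨((MulAut.congr e).toMonoidHom.comp (Subgroup.subtype _)).codRestrict _ (fun β => hΦ β β.2),
      fun β => rfl⟩
  have hfα : f α ∈ pResidual p _ := pResidual_map_le p f ⟨α, hα, rfl⟩
  apply Subgroup.subset_closure
  refine ⟨P, f α, e x, hPS, hfα, ?_⟩
  have h2 : ((f α : (groupFusionSystem S).autGroup P) : MulAut P) (e x) = e ((α : MulAut P') x) := by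
    rw [hf]
    show e ((α : MulAut P') (e.symm (e x))) = _
    rw [e.symm_apply_apply]
  rw [h2, he, he]
  rfl

end Cfsg.Agent.Lib.Helper9
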