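import Mathlib

set_option autoImplicit false

/-! Irredundant bases of permutation groups, list form (Cameron–Fon-Der-Flaass). -/

namespace Cfsg.Agent.Lib.Helper9

section
variable {G Ω : Type*} [Group G] [MulAction G Ω]

/-- The stabilizer of a point inside a subgroup. -/
def stabIn (H : Subgroup G) (x : Ω) : Subgroup G := H ⊓ MulAction.stabilizer G x

theorem mem_stabIn (H : Subgroup G) (x : Ω) (g : G) : g ∈ stabIn H x ↔ g ∈ H ∧ g • x = x := by
  unfold stabIn
  rw [Subgroup.mem_inf, MulAction.mem_stabilizer_iff]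

theorem stabIn_le (H : Subgroup G) (x : Ω) : stabIn H x ≤ H := inf_le_left

theorem stabIn_mono {H K : Subgroup G} (h : K ≤ H) (x : Ω) : stabIn K x ≤ stabIn H x :=
  inf_le_inf_right _ h

theorem stabIn_eq_self (H : Subgroup G) (x : Ω) (h : ∀ g ∈ H, g • x = x) : stabIn H x = H := by
  apply le_antisymm (stabIn_le H x)
  intro g hg
  exact (mem_stabIn H x g).2 ⟨hg, h g hg⟩

theorem stabIn_lt (H : Subgroup G) (x : Ω) (h : ∃ g ∈ H, g • x ≠ x) : stabIn H x < H := by
  refine lt_of_le_of_ne (stabIn_le H x) ?_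
  intro heq
  obtain ⟨g, hg, hgx⟩ := h
  rw [← heq] at hg
  exact hgx ((mem_stabIn H x g).1 hg).2

/-- `L` is an irredundant base for the subgroup `H`. -/
def IB : Subgroup G → List Ω → Prop
  | H, [] => ∀ g ∈ H, g = 1
  | H, x :: L => (∃ g ∈ H, g • x ≠ x) ∧ IB (stabIn H x) L

theorem IB_nil (H : Subgroup G) : IB H ([] : List Ω) ↔ ∀ g ∈ H, g = 1 := Iff.rfl

theorem IB_cons (H : Subgroup G) (x : Ω) (L : List Ω) :
    IB H (x :: L) ↔ (∃ g ∈ H, g • x ≠ x) ∧ IB (stabIn H x) L := Iff.rfl

/-- `L` is a base for the subgroup `H` (trivial pointwise stabilizer). -/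
def IsBaseL (H : Subgroup G) (L : List Ω) : Prop := ∀ g ∈ H, (∀ x ∈ L, g • x = x) → g = 1

theorem isBaseL_cons (H : Subgroup G) (x : Ω) (L : List Ω) :
    IsBaseL H (x :: L) ↔ IsBaseL (stabIn H x) L := by
  unfold IsBaseL
  constructor
  · intro h g hg hL
    rw [mem_stabIn] at hg
    apply h g hg.1
    intro y hy
    rw [List.mem_cons] at hy
    rcases hy with rfl | hy
    · exact hg.2
    · exact hL y hy
  · intro h g hg hL
    apply h g ((mem_stabIn H x g).2 ⟨hg, hL x List.mem_cons_self⟩)
    intro y hy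
    exact hL y (List.mem_cons_of_mem _ hy)

theorem isBaseL_mono {H K : Subgroup G} (h : K ≤ H) {L : List Ω} (hL : IsBaseL H L) : IsBaseL K L :=
  fun g hg hfix => hL g (h hg) hfix

theorem IB.isBaseL : ∀ {H : Subgroup G} {L : List Ω}, IB H L → IsBaseL H L := by
  intro H L
  induction L generalizing H with
  | nil => intro h g hg _; exact h g hg
  | cons x L ih =>
    intro h
    rw [isBaseL_cons]
    exact ih h.2

/-- The irredundancy part alone. -/
def IrredL : Subgroup G → List Ω → Prop
  | _, [] => True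
  | H, x :: L => (∃ g ∈ H, g • x ≠ x) ∧ IrredL (stabIn H x) L

theorem IB_iff : ∀ (H : Subgroup G) (L : List Ω), IB H L ↔ IrredL H L ∧ IsBaseL H L := by
  intro H L
  induction L generalizing H with
  | nil =>
    constructor
    · intro h
      exact ⟨trivial, fun g hg _ => h g hg⟩
    · rintro ⟨-, h⟩ g hg
      exact h g hg (fun x hx => absurd hx List.not_mem_nil)
  | cons x L ih =>
    rw [IB_cons, ih, isBaseL_cons]
    constructor
    · rintro ⟨h1, h2, h3⟩
      exact ⟨⟨h1, h2⟩, h3⟩
    · rintro ⟨⟨h1, h2⟩, h3⟩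
      exact ⟨h1, h2, h3⟩

/-- Pruning a base to an irredundant base. -/
theorem exists_IB_of_isBaseL : ∀ (L : List Ω) (K : Subgroup G), IsBaseL K L →
    ∃ N : List Ω, IB K N ∧ N.length ≤ L.length ∧ (¬ IrredL K L → N.length < L.length) := by
  intro L
  induction L with
  | nil =>
    intro K hK
    refine ⟨[], ?_, le_rfl, fun h => absurd trivial h⟩
    intro g hg
    exact hK g hg (fun x hx => absurd hx List.not_mem_nil)
  | cons x L ih =>
    intro K hK
    rw [isBaseL_cons] at hK
    obtain ⟨N, hN, hlen, hstrict⟩ := ih (stabIn K x) hK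
    by_cases hmove : ∃ g ∈ K, g • x ≠ x
    · refine ⟨x :: N, ⟨hmove, hN⟩, by simpa using hlen, ?_⟩
      intro hirr
      have : ¬ IrredL (stabIn K x) L := fun h => hirr ⟨hmove, h⟩
      have := hstrict this
      simpa using this
    · push_neg at hmove
      rw [stabIn_eq_self K x hmove] at hN
      refine ⟨N, hN, ?_, ?_⟩
      · simp only [List.length_cons]
        omega
      · intro _
        simp only [List.length_cons]
        omega

/-- All irredundant bases of `H` have the same length. -/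
def SameSize (H : Subgroup G) : Prop := ∀ L L' : List Ω, IB H L → IB H L' → L.length = L'.length

/-- If all irredundant bases have the same size, any reordering of an irredundant base is one. -/
theorem IB_of_perm_of_sameSize (H : Subgroup G) (hH : SameSize (Ω := Ω) H) {L L' : List Ω}
    (hperm : L.Perm L') (hL : IB H L) : IB H L' := by
  have hbase : IsBaseL H L' := by
    intro g hg hfix
    apply hL.isBaseL g hg
    intro x hx
    exact hfix x (hperm.mem_iff.mp hx)
  obtain ⟨N, hN, hlen, hstrict⟩ := exists_IB_of_isBaseL L' H hbase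
  rw [IB_iff]
  refine ⟨?_, hbase⟩
  by_contra hirr
  have h1 := hstrict hirr
  have h2 := hH L N hL hN
  have h3 := hperm.length_eq
  omega

/-- Adjacent swaps preserve irredundant bases. -/
def SwapInv (H : Subgroup G) : Prop :=
  ∀ (L1 : List Ω) (a b : Ω) (L2 : List Ω), IB H (L1 ++ a :: b :: L2) → IB H (L1 ++ b :: a :: L2)

theorem swapInv_stabIn (H : Subgroup G) (hH : SwapInv (Ω := Ω) H) (x : Ω) (hx : ∃ g ∈ H, g • x ≠ x) :
    SwapInv (Ω := Ω) (stabIn H x) := by
  intro L1 a b L2 h
  have h1 : IB H ((x :: L1) ++ a :: b :: L2) := ⟨hx, h⟩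
  exact (hH (x :: L1) a b L2 h1).2

end

end Cfsg.Agent.Lib.Helper9
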