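import Mathlib
import Cfsg.Agent.Lib.Helper9.IBIS1

set_option autoImplicit false

/-! Swap-invariance of irredundant bases implies equal sizes. -/

namespace Cfsg.Agent.Lib.Helper9

section
variable {G Ω : Type*} [Group G] [MulAction G Ω]

theorem card_stabIn_lt [Finite G] (H : Subgroup G) (x : Ω) (h : ∃ g ∈ H, g • x ≠ x) :
    Nat.card (stabIn H x) < Nat.card H := by
  have hlt := stabIn_lt H x h
  have : ((stabIn H x : Subgroup G) : Set G) ⊂ (H : Set G) := SetLike.coe_ssubset_coe.mpr hlt
  exact Set.Finite.card_lt_card (Set.toFinite _) this

theorem not_IB_cons_of_IB_nil {H : Subgroup G} (h : IB H ([] : List Ω)) (y : Ω) (M : List Ω) :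
    ¬ IB H (y :: M) := by
  intro h'
  obtain ⟨g, hg, hgy⟩ := h'.1
  have := h g hg
  subst this
  exact hgy (one_smul G y)

theorem sameSize_of_swapInv [Finite G] : ∀ (n : ℕ) (H : Subgroup G), Nat.card H = n →
    SwapInv (Ω := Ω) H → SameSize (Ω := Ω) H := by
  intro n
  induction n using Nat.strong_induction_on with
  | _ n ih =>
    intro H hcard hswap L L' hL hL'
    cases L with
    | nil =>
      cases L' with
      | nil => rfl
      | cons y M' => exact absurd hL' (not_IB_cons_of_IB_nil hL y M')
    | cons x M =>
      cases L' with
      | nil => exact absurd hL (not_IB_cons_of_IB_nil hL' x M)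
      | cons y M' =>
        have hx := hL.1
        have hy := hL'.1
        have hMx : IB (stabIn H x) M := hL.2
        have hMy : IB (stabIn H y) M' := hL'.2
        have hltx : Nat.card (stabIn H x) < n := by rw [← hcard]; exact card_stabIn_lt H x hx
        have hlty : Nat.card (stabIn H y) < n := by rw [← hcard]; exact card_stabIn_lt H y hy
        have ssx := ih _ hltx (stabIn H x) rfl (swapInv_stabIn H hswap x hx)
        have ssy := ih _ hlty (stabIn H y) rfl (swapInv_stabIn H hswap y hy)
        by_cases hxy : x = y
        · subst hxy
          simp only [List.length_cons]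
          rw [ssx M M' hMx hMy]
        · by_cases h1 : ∃ g ∈ stabIn H x, g • y ≠ y
          · have hbase : IsBaseL (stabIn (stabIn H x) y) (x :: M) :=
              isBaseL_mono (le_trans (stabIn_le _ _) (stabIn_le _ _)) hL.isBaseL
            obtain ⟨N, hN, -, -⟩ := exists_IB_of_isBaseL _ _ hbase
            have hD : IB H ([] ++ x :: y :: N) := ⟨hx, h1, hN⟩
            have hD' := hswap [] x y N hD
            have e1 := ssx M (y :: N) hMx ⟨h1, hN⟩
            have e2 := ssy M' (x :: N) hMy hD'.2
            simp only [List.length_cons] at e1 e2 ⊢
            omega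
          · by_cases h2 : ∃ g ∈ stabIn H y, g • x ≠ x
            · exfalso
              have hbase : IsBaseL (stabIn (stabIn H y) x) (x :: M) :=
                isBaseL_mono (le_trans (stabIn_le _ _) (stabIn_le _ _)) hL.isBaseL
              obtain ⟨N, hN, -, -⟩ := exists_IB_of_isBaseL _ _ hbase
              have hD : IB H ([] ++ y :: x :: N) := ⟨hy, h2, hN⟩
              have hD' := hswap [] y x N hD
              exact h1 hD'.2.1
            · push_neg at h1 h2
              have heq : stabIn H x = stabIn H y := by
                apply le_antisymm
                · intro g hg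
                  exact (mem_stabIn H y g).2 ⟨stabIn_le H x hg, h1 g hg⟩
                · intro g hg
                  exact (mem_stabIn H x g).2 ⟨stabIn_le H y hg, h2 g hg⟩
              rw [heq] at hMx
              simp only [List.length_cons]
              rw [ssy M M' hMx hMy]

end

end Cfsg.Agent.Lib.Helper9
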