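import Mathlib
import Cfsg.Agent.Lib.Helper9.IBIS2

set_option autoImplicit false

/-! Translation between the tuple form and the list form of irredundant bases. -/

namespace Cfsg.Agent.Lib.Helper9

section
variable {G Ω : Type*} [Group G] [MulAction G Ω]

/-- Tuple form of "irredundant base" relative to a subgroup. -/
def IBfn (H : Subgroup G) {t : ℕ} (f : Fin t → Ω) : Prop :=
  (∀ g ∈ H, (∀ i : Fin t, g • f i = f i) → g = 1) ∧
    ∀ i : Fin t, ∃ g ∈ H, (∀ j : Fin t, j < i → g • f j = f j) ∧ g • f i ≠ f i

theorem IBfn_succ_iff (H : Subgroup G) {t : ℕ} (f : Fin (t + 1) → Ω) :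
    IBfn H f ↔ (∃ g ∈ H, g • f 0 ≠ f 0) ∧ IBfn (stabIn H (f 0)) (fun i : Fin t => f i.succ) := by
  constructor
  · rintro ⟨hb, hi⟩
    refine ⟨?_, ?_, ?_⟩
    · obtain ⟨g, hg, -, hg0⟩ := hi 0
      exact ⟨g, hg, hg0⟩
    · intro g hg hfix
      rw [mem_stabIn] at hg
      apply hb g hg.1
      intro i
      refine Fin.cases ?_ ?_ i
      · exact hg.2
      · exact hfix
    · intro i
      obtain ⟨g, hg, hfix, hmove⟩ := hi i.succ
      refine ⟨g, (mem_stabIn H (f 0) g).2 ⟨hg, hfix 0 (Fin.succ_pos i)⟩, ?_, hmove⟩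
      intro j hj
      exact hfix j.succ (Fin.succ_lt_succ_iff.mpr hj)
  · rintro ⟨h0, hb, hi⟩
    refine ⟨?_, ?_⟩
    · intro g hg hfix
      apply hb g ((mem_stabIn H (f 0) g).2 ⟨hg, hfix 0⟩)
      intro i
      exact hfix i.succ
    · intro i
      refine Fin.cases ?_ ?_ i
      · obtain ⟨g, hg, hg0⟩ := h0
        exact ⟨g, hg, fun j hj => absurd hj (Fin.not_lt_zero j), hg0⟩
      · intro i
        obtain ⟨g, hg, hfix, hmove⟩ := hi i
        rw [mem_stabIn] at hg
        refine ⟨g, hg.1, ?_, hmove⟩
        intro j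
        refine Fin.cases ?_ ?_ j
        · intro _
          exact hg.2
        · intro j hj
          exact hfix j (Fin.succ_lt_succ_iff.mp hj)

theorem IBfn_iff_IB : ∀ (t : ℕ) (H : Subgroup G) (f : Fin t → Ω), IBfn H f ↔ IB H (List.ofFn f) := by
  intro t
  induction t with
  | zero =>
    intro H f
    rw [List.ofFn_zero, IB_nil]
    constructor
    · rintro ⟨hb, -⟩ g hg
      exact hb g hg (fun i => i.elim0)
    · intro h
      exact ⟨fun g hg _ => h g hg, fun i => i.elim0⟩
  | succ t ih =>
    intro H f
    rw [List.ofFn_succ, IB_cons, IBfn_succ_iff, ih]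

theorem IB_iff_IBfn_get (H : Subgroup G) (L : List Ω) : IB H L ↔ IBfn H L.get := by
  rw [IBfn_iff_IB, List.ofFn_get]

/-- The adjacent swap as a reindexing. -/
theorem exists_perm_swap (L1 : List Ω) (a b : Ω) (L2 : List Ω) :
    ∃ σ : Equiv.Perm (Fin (L1 ++ a :: b :: L2).length),
      List.ofFn ((L1 ++ a :: b :: L2).get ∘ σ) = L1 ++ b :: a :: L2 := by
  have hlen : (L1 ++ a :: b :: L2).length = L1.length + (L2.length + 2) := by simp
  have h0 : L1.length < (L1 ++ a :: b :: L2).length := by omega
  have h1 : L1.length + 1 < (L1 ++ a :: b :: L2).length := by omega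
  refine ⟨Equiv.swap ⟨L1.length, h0⟩ ⟨L1.length + 1, h1⟩, ?_⟩
  apply List.ext_getElem
  · simp
    omega
  · intro n hn hn'
    rw [List.getElem_ofFn]
    show (L1 ++ a :: b :: L2).get (Equiv.swap ⟨L1.length, h0⟩ ⟨L1.length + 1, h1⟩ ⟨n, _⟩) = _
    have hn2 : n < (L1 ++ a :: b :: L2).length := by
      rw [List.length_ofFn] at hn
      exact hn
    by_cases c1 : n = L1.length
    · subst c1
      rw [Equiv.swap_apply_left]
      simp [List.getElem_append_right]
    · by_cases c2 : n = L1.length + 1
      · subst c2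
        rw [Equiv.swap_apply_right]
        simp [List.getElem_append_right]
      · rw [Equiv.swap_apply_of_ne_of_ne]
        · show (L1 ++ a :: b :: L2)[n] = (L1 ++ b :: a :: L2)[n]
          by_cases c3 : n < L1.length
          · rw [List.getElem_append_left c3, List.getElem_append_left c3]
          · have c4 : L1.length ≤ n := by omega
            rw [List.getElem_append_right c4, List.getElem_append_right c4]
            obtain ⟨k, hk⟩ : ∃ k, n - L1.length = k + 2 := ⟨n - L1.length - 2, by omega⟩
            simp only [hk, List.getElem_cons_succ]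
        · intro h
          apply c1
          exact congrArg Fin.val h
        · intro h
          apply c2
          exact congrArg Fin.val h

end

end Cfsg.Agent.Lib.Helper9
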