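import Mathlib

set_option autoImplicit false

namespace Cfsg.Agent.H9Inv

open Finset

variable {ι : Type*} [DecidableEq ι]

/-- transversal data for an involution on an invariant finset -/
theorem transversal (π : ι → ι) (hπ : Function.Involutive π) (key : ι → ℕ)
    (hkey : Function.Injective key) (A : Finset ι) (hA : ∀ i ∈ A, π i ∈ A) :
    ∃ E Fx : Finset ι, E ⊆ A ∧ Fx ⊆ A ∧ (∀ i ∈ Fx, π i = i) ∧ (∀ i ∈ E, π i ∉ E) ∧
      (∀ i ∈ E, i ∉ Fx) ∧ (∀ i ∈ E, π i ∉ Fx) ∧
      A = E ∪ E.image π ∪ Fx ∧ A.card = 2 * E.card + Fx.card := by
  classical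
  refine ⟨A.filter (fun i => key i < key (π i)), A.filter (fun i => π i = i),
    filter_subset _ _, filter_subset _ _, ?_, ?_, ?_, ?_, ?_, ?_⟩
  · intro i hi; exact (mem_filter.1 hi).2
  · intro i hi hi'
    have h1 := (mem_filter.1 hi).2
    have h2 := (mem_filter.1 hi').2
    rw [hπ i] at h2; omega
  · intro i hi hi'
    have h1 := (mem_filter.1 hi).2
    have h2 := (mem_filter.1 hi').2
    rw [h2] at h1; omega
  · intro i hi hi'
    have h1 := (mem_filter.1 hi).2
    have h2 := (mem_filter.1 hi').2
    rw [hπ i] at h2
    rw [← h2] at h1; omega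
  · ext i
    simp only [mem_union, mem_image, mem_filter]
    constructor
    · intro hi
      rcases lt_trichotomy (key i) (key (π i)) with h | h | h
      · exact Or.inl (Or.inl ⟨hi, h⟩)
      · exact Or.inr ⟨hi, (hkey h).symm⟩
      · refine Or.inl (Or.inr ⟨π i, ⟨hA i hi, ?_⟩, hπ i⟩)
        rw [hπ i]; exact h
    · rintro ((h | ⟨j, ⟨hj, _⟩, rfl⟩) | h)
      · exact h.1
      · exact hA j hj
      · exact h.1
  · have hE' : (A.filter (fun i => key i < key (π i))).image π
        = A.filter (fun i => key (π i) < key i) := by
      ext i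
      simp only [mem_image, mem_filter]
      constructor
      · rintro ⟨j, ⟨hj, hlt⟩, rfl⟩
        exact ⟨hA j hj, by rw [hπ j]; exact hlt⟩
      · rintro ⟨hi, hlt⟩
        exact ⟨π i, ⟨hA i hi, by rw [hπ i]; exact hlt⟩, hπ i⟩
    have hc : ((A.filter (fun i => key i < key (π i))).image π).card
        = (A.filter (fun i => key i < key (π i))).card :=
      card_image_of_injective _ hπ.injective
    have h3 : A.card = (A.filter (fun i => key i < key (π i))).card
        + (A.filter (fun i => key (π i) < key i)).card + (A.filter (fun i => π i = i)).card := by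
      have e1 : A = (A.filter (fun i => key i < key (π i))) ∪
          ((A.filter (fun i => key (π i) < key i)) ∪ (A.filter (fun i => π i = i))) := by
        ext i
        simp only [mem_union, mem_filter]
        constructor
        · intro hi
          rcases lt_trichotomy (key i) (key (π i)) with h | h | h
          · exact Or.inl ⟨hi, h⟩
          · exact Or.inr (Or.inr ⟨hi, (hkey h).symm⟩)
          · exact Or.inr (Or.inl ⟨hi, h⟩)
        · rintro (h | h | h) <;> exact h.1
      have d1 : Disjoint (A.filter (fun i => key (π i) < key i)) (A.filter (fun i => π i = i)) := by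
        rw [disjoint_left]; intro i h1 h2
        have h1 := (mem_filter.1 h1).2
        have h2 := (mem_filter.1 h2).2
        rw [h2] at h1; omega
      have d2 : Disjoint (A.filter (fun i => key i < key (π i)))
          ((A.filter (fun i => key (π i) < key i)) ∪ (A.filter (fun i => π i = i))) := by
        rw [disjoint_left]; intro i h1 h2
        have h1 := (mem_filter.1 h1).2
        rcases mem_union.1 h2 with h2 | h2
        · have h2 := (mem_filter.1 h2).2; omega
        · have h2 := (mem_filter.1 h2).2; rw [h2] at h1; omega
      calc A.card = _ := congrArg card e1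
        _ = _ := by rw [card_union_of_disjoint d2, card_union_of_disjoint d1]; ring
    rw [h3, ← hE', hc]; ring

end Cfsg.Agent.H9Inv
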