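import Mathlib
import Cfsg.Agent.Lib.Helper9.InvPart1

set_option autoImplicit false

namespace Cfsg.Agent.H9Inv

open Finset

variable {ι : Type*} [DecidableEq ι]

/-- Abstract partition lemma: an involution on a finite set of size `a * t` admits a partition
into `t` blocks of size `a` which is permuted by the involution. -/
theorem exists_partition (π : ι → ι) (hπ : Function.Involutive π) (key : ι → ℕ)
    (hkey : Function.Injective key) (a : ℕ) (ha : 0 < a) :
    ∀ (t : ℕ) (A : Finset ι), (∀ i ∈ A, π i ∈ A) → A.card = a * t →
      ∃ (β : ι → ℕ) (σ : ℕ → ℕ), (∀ i ∈ A, β i < t) ∧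
        (∀ j < t, (A.filter (fun i => β i = j)).card = a) ∧
        (∀ j < t, σ j < t) ∧ ∀ i ∈ A, β (π i) = σ (β i) := by
  classical
  intro t
  induction t using Nat.strong_induction_on with
  | _ t ih =>
  intro A hA hcard
  rcases Nat.eq_zero_or_pos t with ht0 | htpos
  · subst ht0
    have hAe : A = ∅ := by
      rw [← card_eq_zero, hcard]; simp
    subst hAe
    refine ⟨fun _ => 0, id, ?_, ?_, ?_, ?_⟩
    · intro i hi; simp at hi
    · intro j hj; omega
    · intro j hj; omega
    · intro i hi; simp at hi
  obtain ⟨E, Fx, hEA, hFA, hFfix, hEE, hEF, hEF', hAeq, hAc⟩ := transversal π hπ key hkey A hA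
  have hsr : 2 * E.card + Fx.card = a * t := by rw [← hAc, hcard]
  by_cases hcase : a - 2 * min E.card (a / 2) ≤ Fx.card
  · -- Case 1: peel an invariant block
    obtain ⟨E₀, hE₀, hE₀c⟩ := exists_subset_card_eq (s := E) (n := min E.card (a / 2)) (min_le_left _ _)
    obtain ⟨G₀, hG₀, hG₀c⟩ := exists_subset_card_eq (s := Fx) (n := a - 2 * min E.card (a / 2)) hcase
    set S : Finset ι := E₀ ∪ E₀.image π ∪ G₀ with hS
    have hSA : S ⊆ A := by
      intro i hi
      rcases mem_union.1 hi with h | h
      · rcases mem_union.1 h with h | h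
        · exact hEA (hE₀ h)
        · obtain ⟨j, hj, rfl⟩ := mem_image.1 h
          exact hA j (hEA (hE₀ hj))
      · exact hFA (hG₀ h)
    have hSπ : ∀ i ∈ S, π i ∈ S := by
      intro i hi
      rcases mem_union.1 hi with h | h
      · rcases mem_union.1 h with h | h
        · exact mem_union_left _ (mem_union_right _ (mem_image_of_mem π h))
        · obtain ⟨j, hj, rfl⟩ := mem_image.1 h
          rw [hπ j]
          exact mem_union_left _ (mem_union_left _ hj)
      · rw [hFfix i (hG₀ h)]; exact mem_union_right _ h
    have hSc : S.card = a := by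
      have d1 : Disjoint E₀ (E₀.image π) := by
        rw [disjoint_left]; intro i h1 h2
        obtain ⟨j, hj, rfl⟩ := mem_image.1 h2
        exact hEE j (hE₀ hj) (hE₀ h1)
      have d2 : Disjoint (E₀ ∪ E₀.image π) G₀ := by
        rw [disjoint_left]; intro i h1 h2
        rcases mem_union.1 h1 with h | h
        · exact hEF i (hE₀ h) (hG₀ h2)
        · obtain ⟨j, hj, rfl⟩ := mem_image.1 h
          exact hEF' j (hE₀ hj) (hG₀ h2)
      rw [hS, card_union_of_disjoint d2, card_union_of_disjoint d1,
        card_image_of_injective _ hπ.injective, hE₀c, hG₀c]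
      have : 2 * min E.card (a / 2) ≤ a := by
        have := min_le_right E.card (a / 2); omega
      omega
    obtain ⟨t', rfl⟩ : ∃ t', t = t' + 1 := ⟨t - 1, by omega⟩
    have hA' : ∀ i ∈ A \ S, π i ∈ A \ S := by
      intro i hi
      rw [mem_sdiff] at hi ⊢
      refine ⟨hA i hi.1, fun h => hi.2 ?_⟩
      have := hSπ _ h
      rwa [hπ i] at this
    have hA'c : (A \ S).card = a * t' := by
      rw [card_sdiff_of_subset hSA, hcard, hSc]; ring_nf; omega
    obtain ⟨β', σ', hβ', hfib', hσ', hcomm'⟩ := ih t' (by omega) (A \ S) hA' hA'c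
    refine ⟨fun i => if i ∈ S then 0 else β' i + 1, fun j => if j = 0 then 0 else σ' (j - 1) + 1,
      ?_, ?_, ?_, ?_⟩
    · intro i hi
      by_cases h : i ∈ S
      · simp [h]
      · simp only [h, if_false]
        have := hβ' i (mem_sdiff.2 ⟨hi, h⟩); omega
    · intro j hj
      rcases Nat.eq_zero_or_pos j with rfl | hjpos
      · have : A.filter (fun i => (if i ∈ S then 0 else β' i + 1) = 0) = S := by
          ext i
          simp only [mem_filter]
          constructor
          · rintro ⟨_, h⟩
            by_contra hn
            simp [hn] at h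
          · intro h; exact ⟨hSA h, by simp [h]⟩
        rw [this, hSc]
      · obtain ⟨j', rfl⟩ : ∃ j', j = j' + 1 := ⟨j - 1, by omega⟩
        have : A.filter (fun i => (if i ∈ S then 0 else β' i + 1) = j' + 1)
            = (A \ S).filter (fun i => β' i = j') := by
          ext i
          simp only [mem_filter, mem_sdiff]
          constructor
          · rintro ⟨hi, h⟩
            by_cases hS' : i ∈ S
            · simp [hS'] at h
            · simp only [hS', if_false] at h
              exact ⟨⟨hi, hS'⟩, by omega⟩
          · rintro ⟨⟨hi, hS'⟩, h⟩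
            exact ⟨hi, by simp [hS', h]⟩
        rw [this]
        exact hfib' j' (by omega)
    · intro j hj
      by_cases h : j = 0
      · simp [h]
      · simp only [h, if_false]
        have := hσ' (j - 1) (by omega); omega
    · intro i hi
      by_cases h : i ∈ S
      · have h' := hSπ i h
        simp [h, h']
      · have h' : π i ∉ S := by
          intro hh
          have := hSπ _ hh
          rw [hπ i] at this; exact h this
        simp only [h, h', if_false]
        have := hcomm' i (mem_sdiff.2 ⟨hi, h⟩)
        simp [this]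
  · -- Case 2: peel a swapped pair of blocks
    push Not at hcase
    have hs_gt : a / 2 < E.card := by
      by_contra hle
      push Not at hle
      rw [min_eq_left hle] at hcase
      have : a ≤ a * t := Nat.le_mul_of_pos_right a htpos
      omega
    rw [min_eq_right hs_gt.le] at hcase
    have hodd : a % 2 = 1 := by omega
    have hr0 : Fx.card = 0 := by omega
    have h2s : 2 * E.card = a * t := by omega
    have hteven : t % 2 = 0 := by
      have h1 : (a * t) % 2 = 0 := by omega
      rw [Nat.mul_mod, hodd] at h1
      simpa using h1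
    obtain ⟨t', rfl⟩ : ∃ t', t = t' + 2 := ⟨t - 2, by omega⟩
    have hsa : a ≤ E.card := by nlinarith
    obtain ⟨E₀, hE₀, hE₀c⟩ := exists_subset_card_eq (s := E) (n := a) hsa
    set S₁ : Finset ι := E₀ with hS₁
    set S₂ : Finset ι := E₀.image π with hS₂
    have d12 : Disjoint S₁ S₂ := by
      rw [disjoint_left]; intro i h1 h2
      obtain ⟨j, hj, rfl⟩ := mem_image.1 h2
      exact hEE j (hE₀ hj) (hE₀ h1)
    have hS₁A : S₁ ⊆ A := fun i hi => hEA (hE₀ hi)
    have hS₂A : S₂ ⊆ A := by
      intro i hi
      obtain ⟨j, hj, rfl⟩ := mem_image.1 hi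
      exact hA j (hEA (hE₀ hj))
    have hS₂c : S₂.card = a := by rw [hS₂, card_image_of_injective _ hπ.injective, hE₀c]
    have h12 : ∀ i ∈ S₁, π i ∈ S₂ := fun i hi => mem_image_of_mem π hi
    have h21 : ∀ i ∈ S₂, π i ∈ S₁ := by
      intro i hi
      obtain ⟨j, hj, rfl⟩ := mem_image.1 hi
      rw [hπ j]; exact hj
    have hA' : ∀ i ∈ A \ (S₁ ∪ S₂), π i ∈ A \ (S₁ ∪ S₂) := by
      intro i hi
      rw [mem_sdiff] at hi ⊢
      refine ⟨hA i hi.1, fun h => hi.2 ?_⟩
      rcases mem_union.1 h with h | h
      · have := h12 _ h; rw [hπ i] at this; exact mem_union_right _ this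
      · have := h21 _ h; rw [hπ i] at this; exact mem_union_left _ this
    have hA'c : (A \ (S₁ ∪ S₂)).card = a * t' := by
      rw [card_sdiff_of_subset (union_subset hS₁A hS₂A), hcard, card_union_of_disjoint d12, hS₂c, hS₁,
        hE₀c]
      ring_nf; omega
    obtain ⟨β', σ', hβ', hfib', hσ', hcomm'⟩ := ih t' (by omega) (A \ (S₁ ∪ S₂)) hA' hA'c
    have hn12 : ∀ i, i ∈ S₁ → i ∉ S₂ := fun i h1 h2 => (disjoint_left.1 d12) h1 h2
    refine ⟨fun i => if i ∈ S₁ then 0 else if i ∈ S₂ then 1 else β' i + 2,
      fun j => if j = 0 then 1 else if j = 1 then 0 else σ' (j - 2) + 2, ?_, ?_, ?_, ?_⟩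
    · intro i hi
      by_cases h1 : i ∈ S₁
      · simp [h1]
      · by_cases h2 : i ∈ S₂
        · simp [h1, h2]
        · simp only [h1, h2, if_false]
          have := hβ' i (mem_sdiff.2 ⟨hi, by simp [h1, h2]⟩); omega
    · intro j hj
      rcases Nat.lt_or_ge j 2 with hj2 | hj2
      · rcases Nat.eq_zero_or_pos j with rfl | hjpos
        · have : A.filter (fun i => (if i ∈ S₁ then 0 else if i ∈ S₂ then 1 else β' i + 2) = 0)
              = S₁ := by
            ext i
            simp only [mem_filter]
            constructor
            · rintro ⟨_, h⟩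
              by_contra hn
              by_cases h2 : i ∈ S₂ <;> simp [hn, h2] at h
            · intro h; exact ⟨hS₁A h, by simp [h]⟩
          rw [this, hS₁, hE₀c]
        · have hj1 : j = 1 := by omega
          subst hj1
          have : A.filter (fun i => (if i ∈ S₁ then 0 else if i ∈ S₂ then 1 else β' i + 2) = 1)
              = S₂ := by
            ext i
            simp only [mem_filter]
            constructor
            · rintro ⟨_, h⟩
              by_contra hn
              by_cases h1 : i ∈ S₁ <;> simp [hn, h1] at h
            · intro h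
              have hn1 : i ∉ S₁ := fun h1 => hn12 i h1 h
              exact ⟨hS₂A h, by simp [h, hn1]⟩
          rw [this, hS₂c]
      · obtain ⟨j', rfl⟩ : ∃ j', j = j' + 2 := ⟨j - 2, by omega⟩
        have : A.filter (fun i => (if i ∈ S₁ then 0 else if i ∈ S₂ then 1 else β' i + 2) = j' + 2)
            = (A \ (S₁ ∪ S₂)).filter (fun i => β' i = j') := by
          ext i
          simp only [mem_filter, mem_sdiff, mem_union]
          constructor
          · rintro ⟨hi, h⟩
            by_cases h1 : i ∈ S₁
            · simp [h1] at h
            · by_cases h2 : i ∈ S₂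
              · simp [h1, h2] at h
              · simp only [h1, h2, if_false] at h
                exact ⟨⟨hi, by simp [h1, h2]⟩, by omega⟩
          · rintro ⟨⟨hi, hS'⟩, h⟩
            push Not at hS'
            exact ⟨hi, by simp [hS'.1, hS'.2, h]⟩
        rw [this]
        exact hfib' j' (by omega)
    · intro j hj
      by_cases h0 : j = 0
      · simp [h0]
      · by_cases h1 : j = 1
        · simp [h1]
        · simp only [h0, h1, if_false]
          have := hσ' (j - 2) (by omega); omega
    · intro i hi
      by_cases h1 : i ∈ S₁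
      · have h' := h12 i h1
        have h'' := hn12 i h1
        have h3 : π i ∉ S₁ := fun hh => (disjoint_left.1 d12) hh h'
        simp [h1, h', h3]
      · by_cases h2 : i ∈ S₂
        · have h' := h21 i h2
          simp [h1, h2, h']
        · have h1' : π i ∉ S₁ := by
            intro hh
            have := h12 _ hh
            rw [hπ i] at this; exact h2 this
          have h2' : π i ∉ S₂ := by
            intro hh
            have := h21 _ hh
            rw [hπ i] at this; exact h1 this
          simp only [h1, h2, h1', h2', if_false]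
          have := hcomm' i (mem_sdiff.2 ⟨hi, by simp [h1, h2]⟩)
          simp [this]

end Cfsg.Agent.H9Inv
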