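import Mathlib
import Cfsg.Agent.Lib.Helper9.InvPart2

set_option autoImplicit false

namespace Cfsg.Agent.H9Inv

open Module

variable {F : Type*} [Field F] {V : Type*} [AddCommGroup V] [Module F V] [FiniteDimensional F V]

/-- From a spanning monomial family for `X` (permuted up to scalars through an involution `π`) of
size `a * t` one gets a decomposition of `V` into `t` subspaces of dimension `a` permuted by `X`. -/
theorem mono_decomp (X : V →ₗ[F] V) (hXinj : Function.Injective X)
    {ι : Type*} [Fintype ι] [DecidableEq ι] (v : ι → V) (hv : LinearIndependent F v)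
    (hspan : Submodule.span F (Set.range v) = ⊤) (π : ι → ι) (hπ : Function.Involutive π)
    (c : ι → F) (hX : ∀ i, X (v i) = c i • v (π i)) (a t : ℕ) (ha : 0 < a)
    (hcard : Fintype.card ι = a * t) :
    ∃ D : Fin t → Submodule F V, (∀ j, finrank F (D j) = a) ∧ iSupIndep D ∧ iSup D = ⊤ ∧
      ∃ σ : Equiv.Perm (Fin t), ∀ j, (D j).map X = D (σ j) := by
  classical
  obtain ⟨β, σ₀, hβ, hfib, hσ₀, hcomm⟩ := exists_partition π hπ
    (fun i => ((Fintype.equivFin ι i : Fin _) : ℕ))
    (fun i j h => (Fintype.equivFin ι).injective (Fin.ext h)) a ha t Finset.univ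
    (fun i _ => Finset.mem_univ _) (by rw [Finset.card_univ, hcard])
  set D : Fin t → Submodule F V := fun j => Submodule.span F (v '' {i | β i = (j : ℕ)}) with hD
  have hfin : ∀ j, finrank F (D j) = a := by
    intro j
    have hli : LinearIndependent F (fun i : {i // β i = (j : ℕ)} => v i) :=
      hv.comp _ Subtype.val_injective
    have hr : Set.range (fun i : {i // β i = (j : ℕ)} => v i) = v '' {i | β i = (j : ℕ)} := by
      have : (fun i : {i // β i = (j : ℕ)} => v i) = v ∘ Subtype.val := rfl
      rw [this, Set.range_comp]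
      congr 1
      exact Subtype.range_coe
    have h1 := finrank_span_eq_card hli
    rw [hr] at h1
    rw [hD]
    simp only
    rw [h1, Fintype.card_subtype]
    have := hfib j j.2
    convert this using 2
  have hindep : iSupIndep D := by
    rw [iSupIndep_def]
    intro j
    have hle : (⨆ k, ⨆ (_ : k ≠ j), D k) ≤ Submodule.span F (v '' {i | β i ≠ (j : ℕ)}) := by
      refine iSup_le fun k => iSup_le fun hk => ?_
      apply Submodule.span_mono
      apply Set.image_mono
      intro i hi
      simp only [Set.mem_setOf_eq] at hi ⊢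
      rw [hi]
      intro h
      exact hk (Fin.ext h)
    refine Disjoint.mono_right hle ?_
    apply hv.disjoint_span_image
    rw [Set.disjoint_left]
    intro i h1 h2
    exact h2 h1
  have htop : iSup D = ⊤ := by
    rw [eq_top_iff, ← hspan, Submodule.span_le]
    rintro _ ⟨i, rfl⟩
    have hi : β i < t := hβ i (Finset.mem_univ _)
    apply Submodule.mem_iSup_of_mem ⟨β i, hi⟩
    exact Submodule.subset_span ⟨i, rfl, rfl⟩
  set σ : Fin t → Fin t := fun j => ⟨σ₀ j, hσ₀ j j.2⟩ with hσ
  have hmap : ∀ j, (D j).map X = D (σ j) := by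
    intro j
    have hle : (D j).map X ≤ D (σ j) := by
      rw [hD]
      simp only
      rw [Submodule.map_span, Submodule.span_le]
      rintro _ ⟨_, ⟨i, hi, rfl⟩, rfl⟩
      simp only [Set.mem_setOf_eq] at hi
      rw [hX i]
      apply Submodule.smul_mem
      apply Submodule.subset_span
      refine ⟨π i, ?_, rfl⟩
      simp only [Set.mem_setOf_eq]
      rw [hcomm i (Finset.mem_univ _), hi]
    apply Submodule.eq_of_le_of_finrank_eq hle
    rw [hfin, ← (Submodule.equivMapOfInjective X hXinj (D j)).finrank_eq, hfin]
  have hne : ∀ j, D j ≠ ⊥ := by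
    intro j h
    have := hfin j
    rw [h, finrank_bot] at this
    omega
  have hσinj : Function.Injective σ := by
    intro j j' h
    have h1 : (D j).map X = (D j').map X := by rw [hmap, hmap, h]
    have h2 := Submodule.map_injective_of_injective hXinj h1
    exact hindep.injective hne h2
  refine ⟨D, hfin, hindep, htop, Equiv.ofBijective σ (Finite.injective_iff_bijective.1 hσinj), ?_⟩
  intro j
  rw [hmap j]
  rfl

end Cfsg.Agent.H9Inv
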