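import Mathlib

set_option autoImplicit false

namespace Cfsg.Agent.H9Inv

open Module

variable {F : Type*} [Field F] {V : Type*} [AddCommGroup V] [Module F V]

/-- a monomial family for `X` -/
structure IsMono (X : V →ₗ[F] V) {ι : Type} (v : ι → V) (π : ι → ι) (c : ι → F) : Prop where
  li : LinearIndependent F v
  inv : Function.Involutive π
  act : ∀ i, X (v i) = c i • v (π i)

/-- extension by a pair `u, X u` -/
theorem IsMono.ext2 {X : V →ₗ[F] V} {ι : Type} {v : ι → V} {π : ι → ι} {c : ι → F}
    (h : IsMono X v π c) (z : F) (u : V) (hu2 : X (X u) = z • u)
    (h1 : X u ∉ Submodule.span F (Set.range v))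
    (h2 : u ∉ Submodule.span F (Set.range v) ⊔ Submodule.span F {X u}) :
    ∃ (v' : Option (Option ι) → V) (π' : Option (Option ι) → Option (Option ι))
      (c' : Option (Option ι) → F), IsMono X v' π' c' := by
  refine ⟨fun o => o.casesOn' u (fun o' => o'.casesOn' (X u) v),
    fun o => match o with
      | none => some none
      | some none => none
      | some (some i) => some (some (π i)),
    fun o => match o with
      | none => 1
      | some none => z
      | some (some i) => c i, ?_, ?_, ?_⟩
  · rw [linearIndependent_option']
    refine ⟨?_, ?_⟩
    · rw [linearIndependent_option']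
      exact ⟨h.li, h1⟩
    · have : Set.range (fun o' : Option ι => o'.casesOn' (X u) v) = insert (X u) (Set.range v) := by
        ext y
        constructor
        · rintro ⟨o, rfl⟩
          cases o with
          | none => exact Or.inl rfl
          | some i => exact Or.inr ⟨i, rfl⟩
        · rintro (rfl | ⟨i, rfl⟩)
          · exact ⟨none, rfl⟩
          · exact ⟨some i, rfl⟩
      rw [this, Submodule.span_insert, sup_comm]
      exact h2
  · intro o
    match o with
    | none => rfl
    | some none => rfl
    | some (some i) => simp only [h.inv i]
  · intro o
    match o with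
    | none => simp [Option.casesOn']
    | some none => simp [Option.casesOn', hu2]
    | some (some i) => simpa [Option.casesOn'] using h.act i

/-- extension by an eigenvector -/
theorem IsMono.ext1 {X : V →ₗ[F] V} {ι : Type} {v : ι → V} {π : ι → ι} {c : ι → F}
    (h : IsMono X v π c) (l : F) (g : V) (hg : X g = l • g)
    (h1 : g ∉ Submodule.span F (Set.range v)) :
    ∃ (v' : Option ι → V) (π' : Option ι → Option ι)
      (c' : Option ι → F), IsMono X v' π' c' := by
  refine ⟨fun o => o.casesOn' g v,
    fun o => match o with
      | none => none
      | some i => some (π i),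
    fun o => match o with
      | none => l
      | some i => c i, ?_, ?_, ?_⟩
  · rw [linearIndependent_option']
    exact ⟨h.li, h1⟩
  · intro o
    match o with
    | none => rfl
    | some i => simp only [h.inv i]
  · intro o
    match o with
    | none => simpa [Option.casesOn'] using hg
    | some i => simpa [Option.casesOn'] using h.act i

/-- the span of a monomial family is invariant -/
theorem IsMono.map_le {X : V →ₗ[F] V} {ι : Type} {v : ι → V} {π : ι → ι} {c : ι → F}
    (h : IsMono X v π c) :
    (Submodule.span F (Set.range v)).map X ≤ Submodule.span F (Set.range v) := by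
  rw [Submodule.map_span, Submodule.span_le]
  rintro _ ⟨_, ⟨i, rfl⟩, rfl⟩
  rw [h.act i]
  exact Submodule.smul_mem _ _ (Submodule.subset_span ⟨π i, rfl⟩)

end Cfsg.Agent.H9Inv
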