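import Mathlib
import Cfsg.Agent.Lib.Helper9.InvSq1

set_option autoImplicit false

namespace Cfsg.Agent.H9Inv

open Module

variable {F : Type*} [Field F] {V : Type*} [AddCommGroup V] [Module F V] [FiniteDimensional F V]

/-- Case B: `z` is not a square. -/
theorem exists_mono_B (X : V →ₗ[F] V) (z : F) (hX2 : ∀ u, X (X u) = z • u)
    (hns : ∀ w : F, w * w ≠ z) :
    ∃ (ι : Type) (_ : Fintype ι) (_ : DecidableEq ι) (v : ι → V) (π : ι → ι) (c : ι → F),
      IsMono X v π c ∧ Submodule.span F (Set.range v) = ⊤ := by
  classical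
  have hz : z ≠ 0 := by
    intro h
    exact hns 0 (by rw [h]; ring)
  suffices H : ∀ d : ℕ, ∀ (ι : Type) [Fintype ι] [DecidableEq ι] (v : ι → V) (π : ι → ι) (c : ι → F),
      IsMono X v π c → finrank F V - Fintype.card ι = d →
      ∃ (ι : Type) (_ : Fintype ι) (_ : DecidableEq ι) (v : ι → V) (π : ι → ι) (c : ι → F),
        IsMono X v π c ∧ Submodule.span F (Set.range v) = ⊤ by
    exact H _ PEmpty (fun e => e.elim) id (fun _ => 0)
      ⟨linearIndependent_empty_type, fun e => e.elim, fun e => e.elim⟩ rfl
  intro d
  induction d using Nat.strong_induction_on with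
  | _ d ih =>
  intro ι _ _ v π c hm hd
  by_cases htop : Submodule.span F (Set.range v) = ⊤
  · exact ⟨ι, inferInstance, inferInstance, v, π, c, hm, htop⟩
  set U := Submodule.span F (Set.range v) with hU
  have hlt : U < ⊤ := lt_top_iff_ne_top.2 htop
  obtain ⟨u, -, hu⟩ := SetLike.exists_of_lt hlt
  have hcardU : finrank F U = Fintype.card ι := finrank_span_eq_card hm.li
  have hfl : finrank F U < finrank F V := Submodule.finrank_lt htop
  have hXU : ∀ y ∈ U, X y ∈ U := fun y hy => hm.map_le (Submodule.mem_map_of_mem hy)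
  have h1 : X u ∉ U := by
    intro h
    have := hXU _ h
    rw [hX2 u] at this
    have h3 := U.smul_mem z⁻¹ this
    rw [smul_smul, inv_mul_cancel₀ hz, one_smul] at h3
    exact hu h3
  have h2 : u ∉ U ⊔ Submodule.span F {X u} := by
    intro h
    obtain ⟨y, hy, y', hy', hsum⟩ := Submodule.mem_sup.1 h
    obtain ⟨β, rfl⟩ := Submodule.mem_span_singleton.1 hy'
    have hXy := hXU y hy
    have e1 : y = u - β • X u := eq_sub_of_add_eq hsum
    have e2 : X y = X u - (β * z) • u := by
      rw [e1, map_sub, map_smul, hX2 u, smul_smul]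
    have e3 : (1 - β * β * z) • u = y + β • X y := by
      rw [e2, e1, smul_sub, smul_smul, sub_smul, one_smul]
      have : (β * β * z) = β * (β * z) := by ring
      rw [this]; abel
    have hmem : (1 - β * β * z) • u ∈ U := by
      rw [e3]; exact U.add_mem hy (U.smul_mem _ hXy)
    have hne : (1 - β * β * z) ≠ 0 := by
      intro h0
      by_cases hβ : β = 0
      · rw [hβ] at h0; simp at h0
      · apply hns β⁻¹
        have : β * β * z = 1 := by linear_combination -h0
        field_simp
        linear_combination -this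
    have := U.smul_mem (1 - β * β * z)⁻¹ hmem
    rw [smul_smul, inv_mul_cancel₀ hne, one_smul] at this
    exact hu this
  obtain ⟨v', π', c', hm'⟩ := hm.ext2 z u (hX2 u) h1 h2
  have hc' : Fintype.card (Option (Option ι)) = Fintype.card ι + 2 := by
    rw [Fintype.card_option, Fintype.card_option]
  exact ih (finrank F V - Fintype.card (Option (Option ι))) (by omega) _ v' π' c' hm' rfl

end Cfsg.Agent.H9Inv
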