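import Mathlib
import Cfsg.Agent.Lib.Helper9.InvSq2

set_option autoImplicit false

namespace Cfsg.Agent.H9Inv

open Module

variable {F : Type*} [Field F] {V : Type*} [AddCommGroup V] [Module F V]

/-- extension by an eigenvector, with span information -/
theorem IsMono.ext1' {X : V →ₗ[F] V} {ι : Type} {v : ι → V} {π : ι → ι} {c : ι → F}
    (h : IsMono X v π c) (l : F) (g : V) (hg : X g = l • g)
    (h1 : g ∉ Submodule.span F (Set.range v)) :
    ∃ (v' : Option ι → V) (π' : Option ι → Option ι)
      (c' : Option ι → F), IsMono X v' π' c' ∧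
        Submodule.span F (Set.range v) ≤ Submodule.span F (Set.range v') ∧
        g ∈ Submodule.span F (Set.range v') := by
  refine ⟨fun o => o.casesOn' g v,
    fun o => match o with
      | none => none
      | some i => some (π i),
    fun o => match o with
      | none => l
      | some i => c i, ⟨?_, ?_, ?_⟩, ?_, ?_⟩
  · rw [linearIndependent_option']
    exact ⟨h.li, h1⟩
  · intro o
    match o with
    | none => rfl
    | some i => simp only [h.inv i]
  · intro o
    match o with
    | none => simpa [Option.casesOn'] using hg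
    | some i => simpa [Option.casesOn'] using h.act i
  · apply Submodule.span_mono
    rintro _ ⟨i, rfl⟩
    exact ⟨some i, rfl⟩
  · exact Submodule.subset_span ⟨none, rfl⟩

variable [FiniteDimensional F V]

/-- extend a monomial family by eigenvectors so as to cover a whole eigenspace -/
theorem IsMono.extend_eigen {X : V →ₗ[F] V} (l : F) (K' : Submodule F V)
    (hK : ∀ g ∈ K', X g = l • g) :
    ∀ d : ℕ, ∀ (ι : Type) [Fintype ι] [DecidableEq ι] (v : ι → V) (π : ι → ι) (c : ι → F),
      IsMono X v π c → finrank F V - Fintype.card ι = d →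
      ∃ (ι' : Type) (_ : Fintype ι') (_ : DecidableEq ι') (v' : ι' → V) (π' : ι' → ι') (c' : ι' → F),
        IsMono X v' π' c' ∧ Submodule.span F (Set.range v) ≤ Submodule.span F (Set.range v') ∧
          K' ≤ Submodule.span F (Set.range v') := by
  classical
  intro d
  induction d using Nat.strong_induction_on with
  | _ d ih =>
  intro ι _ _ v π c hm hd
  by_cases hle : K' ≤ Submodule.span F (Set.range v)
  · exact ⟨ι, inferInstance, inferInstance, v, π, c, hm, le_rfl, hle⟩
  obtain ⟨g, hgK, hgU⟩ := SetLike.not_le_iff_exists.1 hle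
  have hcardU : finrank F (Submodule.span F (Set.range v)) = Fintype.card ι :=
    finrank_span_eq_card hm.li
  have htop : Submodule.span F (Set.range v) ≠ ⊤ := by
    intro h; rw [h] at hgU; exact hgU Submodule.mem_top
  have hfl := Submodule.finrank_lt htop
  obtain ⟨v', π', c', hm', hle', hg'⟩ := hm.ext1' l g (hK g hgK) hgU
  have hc' : Fintype.card (Option ι) = Fintype.card ι + 1 := Fintype.card_option
  obtain ⟨ι'', i1, i2, v'', π'', c'', hm'', hle'', hK''⟩ :=
    ih (finrank F V - Fintype.card (Option ι)) (by omega) _ v' π' c' hm' rfl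
  exact ⟨ι'', i1, i2, v'', π'', c'', hm'', hle'.trans hle'', hK''⟩

/-- Case A: `z = w²` with `w + w ≠ 0`. -/
theorem exists_mono_A (X : V →ₗ[F] V) (z w : F) (hX2 : ∀ u, X (X u) = z • u)
    (hw : w * w = z) (hw2 : w + w ≠ 0) :
    ∃ (ι : Type) (_ : Fintype ι) (_ : DecidableEq ι) (v : ι → V) (π : ι → ι) (c : ι → F),
      IsMono X v π c ∧ Submodule.span F (Set.range v) = ⊤ := by
  classical
  have h0 : IsMono X (fun e : PEmpty => (e.elim : V)) id (fun _ => (0 : F)) :=
    ⟨linearIndependent_empty_type, fun e => e.elim, fun e => e.elim⟩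
  obtain ⟨ι₁, i1, i2, v₁, π₁, c₁, hm₁, -, hK₁⟩ :=
    IsMono.extend_eigen (X := X) w (LinearMap.ker (X - w • LinearMap.id))
      (by
        intro g hg
        have := LinearMap.mem_ker.1 hg
        simp only [LinearMap.sub_apply, LinearMap.smul_apply, LinearMap.id_apply] at this
        exact sub_eq_zero.1 this) _ PEmpty _ id _ h0 rfl
  obtain ⟨ι₂, j1, j2, v₂, π₂, c₂, hm₂, hle₂, hK₂⟩ :=
    IsMono.extend_eigen (X := X) (-w) (LinearMap.ker (X + w • LinearMap.id))
      (by
        intro g hg
        have := LinearMap.mem_ker.1 hg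
        simp only [LinearMap.add_apply, LinearMap.smul_apply, LinearMap.id_apply] at this
        rw [neg_smul]
        exact eq_neg_of_add_eq_zero_left this) _ ι₁ v₁ π₁ c₁ hm₁ rfl
  refine ⟨ι₂, j1, j2, v₂, π₂, c₂, hm₂, ?_⟩
  rw [eq_top_iff]
  intro u _
  have hp : X u + w • u ∈ LinearMap.ker (X - w • LinearMap.id) := by
    rw [LinearMap.mem_ker, LinearMap.sub_apply, LinearMap.smul_apply, LinearMap.id_apply, map_add,
      map_smul, hX2 u, smul_add, smul_smul, hw]
    abel
  have hm : X u - w • u ∈ LinearMap.ker (X + w • LinearMap.id) := by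
    rw [LinearMap.mem_ker, LinearMap.add_apply, LinearMap.smul_apply, LinearMap.id_apply, map_sub,
      map_smul, hX2 u, smul_sub, smul_smul, hw]
    abel
  have h1 := hle₂ (hK₁ hp)
  have h2 := hK₂ hm
  have h3 : (w + w) • u = (X u + w • u) - (X u - w • u) := by
    rw [add_smul]; abel
  have h4 : (w + w) • u ∈ Submodule.span F (Set.range v₂) := by
    rw [h3]; exact Submodule.sub_mem _ h1 h2
  have := Submodule.smul_mem _ (w + w)⁻¹ h4
  rwa [smul_smul, inv_mul_cancel₀ hw2, one_smul] at this

end Cfsg.Agent.H9Inv
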