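import Mathlib
import Cfsg.Agent.Lib.Helper9.InvSq3

set_option autoImplicit false

namespace Cfsg.Agent.H9Inv

open Module

variable {F : Type*} [Field F] {V : Type*} [AddCommGroup V] [Module F V] [FiniteDimensional F V]

/-- Case C: `z = w²` with `w + w = 0`. -/
theorem exists_mono_C (X : V →ₗ[F] V) (z w : F) (hX2 : ∀ u, X (X u) = z • u)
    (hw : w * w = z) (hw2 : w + w = 0) :
    ∃ (ι : Type) (_ : Fintype ι) (_ : DecidableEq ι) (v : ι → V) (π : ι → ι) (c : ι → F),
      IsMono X v π c ∧ Submodule.span F (Set.range v) = ⊤ := by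
  classical
  set N : V →ₗ[F] V := X - w • LinearMap.id with hN
  have hNap : ∀ u, N u = X u - w • u := fun u => by
    rw [hN, LinearMap.sub_apply, LinearMap.smul_apply, LinearMap.id_apply]
  have hXN : ∀ u, X u = N u + w • u := fun u => by rw [hNap]; abel
  have hzz : z + z = 0 := by rw [← hw, ← mul_add, hw2, mul_zero]
  have hNN : ∀ u, N (N u) = 0 := by
    intro u
    rw [hNap (N u), hNap u, map_sub, map_smul, hX2 u, smul_sub, smul_smul, hw]
    have : z • u - w • X u - (w • X u - z • u) = (z + z) • u - (w + w) • X u := by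
      rw [add_smul, add_smul]; abel
    rw [this, hzz, hw2, zero_smul, zero_smul, sub_zero]
  set K : Submodule F V := LinearMap.ker N with hK
  obtain ⟨C, hC⟩ := Submodule.exists_isCompl K
  set s := finrank F C with hs
  let bC : Basis (Fin s) F C := Module.finBasis F C
  set e : Fin s → V := fun i => (bC i : V) with he
  have heli : LinearIndependent F e := bC.linearIndependent.map' C.subtype C.ker_subtype
  have heC : ∀ a : Fin s → F, (∑ i, a i • e i) ∈ C := fun a =>
    C.sum_mem fun i _ => C.smul_mem _ (bC i).2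
  have key : ∀ a : Fin s → F, N (∑ i, a i • e i) = 0 → ∀ i, a i = 0 := by
    intro a ha
    have h1 : (∑ i, a i • e i) ∈ K ⊓ C := ⟨LinearMap.mem_ker.2 ha, heC a⟩
    rw [hC.inf_eq_bot, Submodule.mem_bot] at h1
    exact Fintype.linearIndependent_iff.1 heli a h1
  have hpairs : IsMono X (Sum.elim e (fun i => X (e i))) Sum.swap
      (Sum.elim (fun _ => (1 : F)) (fun _ => z)) := by
    refine ⟨?_, Sum.swap_swap, ?_⟩
    · rw [Fintype.linearIndependent_iff]
      intro g hg
      rw [Fintype.sum_sum_type] at hg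
      simp only [Sum.elim_inl, Sum.elim_inr] at hg
      have e1 : ∑ i, g (Sum.inr i) • X (e i)
          = N (∑ i, g (Sum.inr i) • e i) + ∑ i, (w * g (Sum.inr i)) • e i := by
        rw [map_sum, ← Finset.sum_add_distrib]
        apply Finset.sum_congr rfl
        intro i _
        rw [map_smul, hXN (e i), smul_add, smul_smul, mul_comm]
      have e2 : ∑ i, (g (Sum.inl i) + w * g (Sum.inr i)) • e i
          + N (∑ i, g (Sum.inr i) • e i) = 0 := by
        rw [← hg, e1]
        simp only [add_smul, Finset.sum_add_distrib]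
        abel
      have e3 : N (∑ i, (g (Sum.inl i) + w * g (Sum.inr i)) • e i) = 0 := by
        have := congrArg N e2
        rwa [map_add, hNN, add_zero, map_zero] at this
      have h1 := key _ e3
      have e4 : N (∑ i, g (Sum.inr i) • e i) = 0 := by
        have : ∑ i, (g (Sum.inl i) + w * g (Sum.inr i)) • e i = 0 := by
          apply Finset.sum_eq_zero
          intro i _
          rw [h1 i, zero_smul]
        rwa [this, zero_add] at e2
      have h2 := key _ e4
      rintro (i | i)
      · have := h1 i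
        rw [h2 i, mul_zero, add_zero] at this
        exact this
      · exact h2 i
    · rintro (i | i)
      · simp
      · simp [hX2]
  obtain ⟨ι₂, j1, j2, v₂, π₂, c₂, hm₂, hle₂, hK₂⟩ :=
    IsMono.extend_eigen (X := X) w K
      (by
        intro g hg
        have := LinearMap.mem_ker.1 hg
        rw [hXN g, this, zero_add]) _ (Fin s ⊕ Fin s) _ _ _ hpairs rfl
  refine ⟨ι₂, j1, j2, v₂, π₂, c₂, hm₂, ?_⟩
  rw [eq_top_iff, ← hC.sup_eq_top]
  apply sup_le hK₂
  refine le_trans ?_ hle₂
  intro y hy
  have hy' : (⟨y, hy⟩ : C) ∈ Submodule.span F (Set.range bC) := by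
    rw [bC.span_eq]; exact Submodule.mem_top
  have := Submodule.mem_map_of_mem (f := C.subtype) hy'
  rw [Submodule.map_span] at this
  refine Submodule.span_mono ?_ this
  rintro _ ⟨_, ⟨i, rfl⟩, rfl⟩
  exact ⟨Sum.inl i, rfl⟩

/-- Any `X` with `X² = z`, `z ≠ 0`, has a spanning monomial family. -/
theorem exists_mono (X : V →ₗ[F] V) (z : F) (hX2 : ∀ u, X (X u) = z • u) (hz : z ≠ 0) :
    ∃ (ι : Type) (_ : Fintype ι) (_ : DecidableEq ι) (v : ι → V) (π : ι → ι) (c : ι → F),
      IsMono X v π c ∧ Submodule.span F (Set.range v) = ⊤ := by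
  by_cases h : ∃ w : F, w * w = z
  · obtain ⟨w, hw⟩ := h
    by_cases h2 : w + w = 0
    · exact exists_mono_C X z w hX2 hw h2
    · exact exists_mono_A X z w hX2 hw h2
  · push Not at h
    exact exists_mono_B X z hX2 h

end Cfsg.Agent.H9Inv
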