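import Mathlib

set_option autoImplicit false

/-!
# An involution normalising a Sylow 3-subgroup: basic lemmas

`G` has a normal `2`-subgroup `V` inside a normal subgroup `N` of index two with `N / V` a
`3`-group, and `d` is an involution outside `N` whose conjugates in `d V` are `V`-conjugate to `d`.
-/

namespace Cfsg.Agent.H9IS

variable {G : Type*} [Group G]

/-- an element of a `2`-group which is a `3`-element is trivial -/
theorem eq_one_of_two_three {V : Subgroup G} (hV2 : IsPGroup 2 V) {v : G} (hv : v ∈ V)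
    {k : ℕ} (hk : v ^ (3 ^ k) = 1) : v = 1 := by
  obtain ⟨j, hj⟩ := hV2 ⟨v, hv⟩
  have hj' : v ^ (2 ^ j) = 1 := by
    have := congrArg Subtype.val hj
    simpa using this
  have h1 : orderOf v ∣ 3 ^ k := orderOf_dvd_of_pow_eq_one hk
  have h2 : orderOf v ∣ 2 ^ j := orderOf_dvd_of_pow_eq_one hj'
  have h3 : orderOf v ∣ Nat.gcd (3 ^ k) (2 ^ j) := Nat.dvd_gcd h1 h2
  have h4 : Nat.gcd (3 ^ k) (2 ^ j) = 1 := Nat.Coprime.pow k j (by norm_num)
  rw [h4, Nat.dvd_one, orderOf_eq_one_iff] at h3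
  exact h3

/-- the `2`-part and the `3`-part of an element which is a `3`-element modulo the `2`-group `V` -/
theorem exists_two_three_parts {V : Subgroup G} (hV2 : IsPGroup 2 V) {x : G}
    (hx : ∃ k : ℕ, x ^ (3 ^ k) ∈ V) :
    ∃ x₂ x₃ : G, x₂ ∈ V ∧ x₂ ∈ Subgroup.zpowers x ∧ x₃ ∈ Subgroup.zpowers x ∧
      (∃ k : ℕ, x₃ ^ (3 ^ k) = 1) ∧ x = x₂ * x₃ := by
  obtain ⟨k, hk⟩ := hx
  obtain ⟨j, hj⟩ := hV2 ⟨x ^ (3 ^ k), hk⟩
  have hj' : (x ^ (3 ^ k)) ^ (2 ^ j) = 1 := by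
    have := congrArg Subtype.val hj
    simpa using this
  have hcop : IsCoprime ((3 ^ k : ℕ) : ℤ) ((2 ^ j : ℕ) : ℤ) :=
    Nat.isCoprime_iff_coprime.mpr (Nat.Coprime.pow k j (by norm_num))
  obtain ⟨a, b, hab⟩ := hcop
  refine ⟨(x ^ (3 ^ k)) ^ a, (x ^ (2 ^ j)) ^ b, V.zpow_mem hk a, ?_, ?_, ⟨k, ?_⟩, ?_⟩
  · exact (Subgroup.zpowers x).zpow_mem ((Subgroup.zpowers x).pow_mem (Subgroup.mem_zpowers x) _) a
  · exact (Subgroup.zpowers x).zpow_mem ((Subgroup.zpowers x).pow_mem (Subgroup.mem_zpowers x) _) b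
  · rw [← zpow_natCast, ← zpow_mul, mul_comm, zpow_mul, zpow_natCast, ← pow_mul, mul_comm, pow_mul,
      hj', one_zpow]
  · rw [← zpow_natCast x (3 ^ k), ← zpow_natCast x (2 ^ j), ← zpow_mul, ← zpow_mul, ← zpow_add]
    have : ((3 ^ k : ℕ) : ℤ) * a + ((2 ^ j : ℕ) : ℤ) * b = 1 := by linarith
    rw [this, zpow_one]

/-- in a subgroup of index two, `3`-elements belong to the subgroup -/
theorem mem_of_three_of_index_two {N : Subgroup G} (hidx : N.index = 2) {y : G} {k : ℕ}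
    (hy : y ^ (3 ^ k) = 1) : y ∈ N := by
  have h2 : y * y ∈ N := by
    rw [Subgroup.mul_mem_iff_of_index_two hidx]
  obtain ⟨m, hm⟩ : ∃ m, 3 ^ k = 2 * m + 1 := by
    have : Odd (3 ^ k) := Odd.pow (by decide)
    obtain ⟨m, hm⟩ := this
    exact ⟨m, hm⟩
  have h3 : y ^ (2 * m) ∈ N := by
    rw [pow_mul, pow_two]
    exact N.pow_mem h2 m
  have h4 : y = (y ^ (2 * m))⁻¹ := by
    rw [eq_inv_iff_mul_eq_one, ← pow_succ', ← hm, hy]
  rw [h4]
  exact N.inv_mem h3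

/-- square roots of elements of odd order -/
theorem exists_sqrt_of_three {u : G} {k : ℕ} (hu : u ^ (3 ^ k) = 1) :
    ∃ s ∈ Subgroup.zpowers u, s * s = u := by
  obtain ⟨m, hm⟩ : ∃ m, 3 ^ k = 2 * m + 1 := by
    have : Odd (3 ^ k) := Odd.pow (by decide)
    obtain ⟨m, hm⟩ := this
    exact ⟨m, hm⟩
  refine ⟨u ^ (m + 1), (Subgroup.zpowers u).pow_mem (Subgroup.mem_zpowers u) _, ?_⟩
  rw [← pow_add]
  have : m + 1 + (m + 1) = (2 * m + 1) + 1 := by ring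
  rw [this, pow_succ, ← hm, hu, one_mul]

/-- an involution inverting `u` inverts every power of `u` -/
theorem conj_zpowers_of_inv {d u s : G} (hdu : d * u * d⁻¹ = u⁻¹) (hs : s ∈ Subgroup.zpowers u) :
    d * s * d⁻¹ = s⁻¹ := by
  obtain ⟨n, rfl⟩ := Subgroup.mem_zpowers_iff.mp hs
  have : d * u ^ n * d⁻¹ = (d * u * d⁻¹) ^ n := by
    rw [conj_zpow]
  rw [this, hdu, inv_zpow]

end Cfsg.Agent.H9IS
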