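import Mathlib
import Cfsg.Agent.Lib.Helper9.InvSyl1

set_option autoImplicit false

/-!
# An involution normalising a Sylow 3-subgroup: the centraliser of the involution
-/

namespace Cfsg.Agent.H9IS

variable {G : Type*} [Group G]

/-- the configuration -/
structure Setup (V N : Subgroup G) (d : G) : Prop where
  hVn : V.Normal
  hNn : N.Normal
  hVN : V ≤ N
  hV2 : IsPGroup 2 V
  hN3 : ∀ x ∈ N, ∃ k : ℕ, x ^ (3 ^ k) ∈ V
  hdd : d * d = 1
  hidx : N.index = 2
  hstar : ∀ g : G, d⁻¹ * (g * d * g⁻¹) ∈ V → ∃ v ∈ V, g * d * g⁻¹ = v * d * v⁻¹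

variable {V N : Subgroup G} {d : G}

theorem Setup.dinv (h : Setup V N d) : d⁻¹ = d := inv_eq_of_mul_eq_one_right h.hdd

/-- a `3`-subgroup `R` centralised by `d` with `C_N(d) ⊆ V R` -/
theorem Setup.exists_R [Finite G] (h : Setup V N d) :
    ∃ R : Subgroup G, IsPGroup 3 R ∧ (∀ r ∈ R, Commute d r) ∧
      ∀ c ∈ N, Commute d c → ∃ v ∈ V, ∃ r ∈ R, c = v * r := by
  haveI : Fact (Nat.Prime 3) := ⟨Nat.prime_three⟩
  haveI := h.hVn
  obtain ⟨C, hC⟩ : ∃ C : Subgroup G, C = Subgroup.centralizer ({d} : Set G) ⊓ N := ⟨_, rfl⟩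
  have hCmem : ∀ c : G, c ∈ C ↔ (Commute d c ∧ c ∈ N) := by
    intro c
    rw [hC, Subgroup.mem_inf, Subgroup.mem_centralizer_singleton_iff]
    constructor
    · rintro ⟨h1, h2⟩; exact ⟨h1.symm, h2⟩
    · rintro ⟨h1, h2⟩; exact ⟨h1.eq.symm, h2⟩
  -- the normal `2`-subgroup `H = V ∩ C` of `C`
  obtain ⟨H, hH⟩ : ∃ H : Subgroup ↥C, H = V.subgroupOf C := ⟨_, rfl⟩
  haveI : H.Normal := by rw [hH]; infer_instance
  have hH2 : IsPGroup 2 H := by
    rw [hH]
    exact h.hV2.comap_subtype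
  -- the quotient is a `3`-group
  have hQ3 : IsPGroup 3 (↥C ⧸ H) := by
    intro q
    induction q using QuotientGroup.induction_on with
    | H c =>
      obtain ⟨k, hk⟩ := h.hN3 c.1 ((hCmem c.1).mp c.2).2
      refine ⟨k, ?_⟩
      rw [← QuotientGroup.mk_pow, QuotientGroup.eq_one_iff, hH, Subgroup.mem_subgroupOf]
      simpa using hk
  have hHV : ∀ x : ↥C, x ∈ H → (x : G) ∈ V := by
    intro x hx
    rw [hH, Subgroup.mem_subgroupOf] at hx
    exact hx
  obtain ⟨i, hi⟩ := IsPGroup.iff_card.mp hH2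
  obtain ⟨j, hj⟩ := IsPGroup.iff_card.mp hQ3
  have hcardC : Nat.card ↥C = 3 ^ j * 2 ^ i := by
    rw [Subgroup.card_eq_card_quotient_mul_card_subgroup H, hi, hj]
  obtain ⟨R'⟩ : Nonempty (Sylow 3 ↥C) := inferInstance
  have hR'card : Nat.card ↥(R' : Subgroup ↥C) = 3 ^ j := by
    rw [Sylow.card_eq_multiplicity, hcardC]
    congr 1
    rw [Nat.factorization_mul (by positivity) (by positivity), Nat.factorization_pow,
      Nat.factorization_pow]
    simp [Nat.Prime.factorization Nat.prime_three, Nat.Prime.factorization Nat.prime_two]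
  have hcompl : H.IsComplement' (R' : Subgroup ↥C) := by
    apply Subgroup.isComplement'_of_coprime
    · rw [hi, hR'card, hcardC, mul_comm]
    · rw [hi, hR'card]
      exact Nat.Coprime.pow i j (by norm_num)
  refine ⟨(R' : Subgroup ↥C).map C.subtype, R'.isPGroup'.map _, ?_, ?_⟩
  · rintro _ ⟨r, -, rfl⟩
    exact ((hCmem r.1).mp r.2).1
  · intro c hcN hcd
    have hcC : c ∈ C := (hCmem c).mpr ⟨hcd, hcN⟩
    obtain ⟨⟨x, y⟩, hxy⟩ := hcompl.2 ⟨c, hcC⟩
    refine ⟨x.1.1, ?_, y.1.1, ⟨y.1, y.2, rfl⟩, ?_⟩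
    · exact hHV x.1 x.2
    · have := congrArg Subtype.val hxy
      simpa using this.symm

end Cfsg.Agent.H9IS
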