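import Mathlib
import Cfsg.Agent.Lib.Helper9.InvSyl2

set_option autoImplicit false

/-!
# An involution normalising a Sylow 3-subgroup: the inductive step and the theorem
-/

namespace Cfsg.Agent.H9IS

variable {G : Type*} [Group G] {V N : Subgroup G} {d : G}

/-- enlarging a `d`-invariant `3`-subgroup which covers the centraliser of `d` in `N` -/
theorem Setup.step [Finite G] (h : Setup V N d) (R₁ : Subgroup G) (h3 : IsPGroup 3 R₁)
    (hdR : ∀ r ∈ R₁, d * r * d⁻¹ ∈ R₁)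
    (hcov : ∀ c ∈ N, Commute d c → ∃ v ∈ V, ∃ r ∈ R₁, c = v * r)
    (P : Subgroup G) (hP3 : IsPGroup 3 P) (hRP : R₁ < P) :
    ∃ R₂ : Subgroup G, IsPGroup 3 R₂ ∧ (∀ r ∈ R₂, d * r * d⁻¹ ∈ R₂) ∧ R₁ < R₂ := by
  haveI := h.hVn
  haveI := h.hNn
  have hdi := h.dinv
  -- an element `y` of `P` normalising `R₁`, outside `R₁`
  obtain ⟨y, hyP, hyR, hynorm⟩ : ∃ y ∈ P, y ∉ R₁ ∧
      ∀ r ∈ R₁, y * r * y⁻¹ ∈ R₁ ∧ y⁻¹ * r * y ∈ R₁ := by
    haveI : Group.IsNilpotent ↥P := hP3.isNilpotent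
    have hnc := Group.normalizerCondition_of_isNilpotent (G := ↥P)
    have hlt : R₁.subgroupOf P < ⊤ := by
      rw [lt_top_iff_ne_top, Ne, Subgroup.subgroupOf_eq_top]
      exact fun hle => (not_le_of_gt hRP) hle
    have h1 := hnc _ hlt
    obtain ⟨y', hy'n, hy'R⟩ := SetLike.exists_of_lt h1
    refine ⟨y'.1, y'.2, ?_, ?_⟩
    · intro hh
      apply hy'R
      rw [Subgroup.mem_subgroupOf]
      exact hh
    · intro r hr
      have hrP : r ∈ P := hRP.le hr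
      rw [Subgroup.mem_normalizer_iff] at hy'n
      constructor
      · have := (hy'n ⟨r, hrP⟩).mp (by rw [Subgroup.mem_subgroupOf]; exact hr)
        rw [Subgroup.mem_subgroupOf] at this
        simpa using this
      · have hmem : y'.1⁻¹ * r * y'.1 ∈ P :=
          P.mul_mem (P.mul_mem (P.inv_mem y'.2) hrP) y'.2
        have := (hy'n ⟨y'.1⁻¹ * r * y'.1, hmem⟩).mpr (by
          rw [Subgroup.mem_subgroupOf]
          simp only [Subgroup.coe_mul, InvMemClass.coe_inv]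
          have e : y'.1 * (y'.1⁻¹ * r * y'.1) * y'.1⁻¹ = r := by group
          rw [e]; exact hr)
        rw [Subgroup.mem_subgroupOf] at this
        exact this
  -- `y` is a `3`-element, hence in `N`
  obtain ⟨ky, hky⟩ : ∃ k : ℕ, y ^ (3 ^ k) = 1 := by
    obtain ⟨k, hk⟩ := hP3 ⟨y, hyP⟩
    refine ⟨k, ?_⟩
    have := congrArg Subtype.val hk
    simpa using this
  have hyN : y ∈ N := mem_of_three_of_index_two h.hidx hky
  -- `y ∉ V R₁`
  have hyVR : ∀ v ∈ V, ∀ r ∈ R₁, y ≠ v * r := by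
    intro v hv r hr hyvr
    have hvP : v ∈ P := by
      have e : v = y * r⁻¹ := by rw [hyvr]; group
      rw [e]
      exact P.mul_mem hyP (P.inv_mem (hRP.le hr))
    obtain ⟨k, hk⟩ := hP3 ⟨v, hvP⟩
    have hk' : v ^ (3 ^ k) = 1 := by
      have := congrArg Subtype.val hk
      simpa using this
    have hv1 := eq_one_of_two_three h.hV2 hv hk'
    apply hyR
    rw [hyvr, hv1, one_mul]
    exact hr
  -- the commutator `c = [d, y]`
  obtain ⟨c, hc⟩ : ∃ c, c = d * y * d⁻¹ * y⁻¹ := ⟨_, rfl⟩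
  have hdyN : d * y * d⁻¹ ∈ N := h.hNn.conj_mem y hyN d
  have hcN : c ∈ N := by rw [hc]; exact N.mul_mem hdyN (N.inv_mem hyN)
  have hdRinv : ∀ r ∈ R₁, d⁻¹ * r * d ∈ R₁ := by
    intro r hr
    have := hdR r hr
    rw [hdi] at this ⊢
    exact this
  have hcnorm : ∀ r ∈ R₁, c * r * c⁻¹ ∈ R₁ ∧ c⁻¹ * r * c ∈ R₁ := by
    intro r hr
    constructor
    · have h1 := (hynorm r hr).2
      have h2 := hdRinv _ h1
      have h3' := (hynorm _ h2).1
      have h4 := hdR _ h3'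
      have e : c * r * c⁻¹ = d * (y * (d⁻¹ * (y⁻¹ * r * y) * d) * y⁻¹) * d⁻¹ := by
        rw [hc]; group
      rw [e]; exact h4
    · have h1 := hdRinv r hr
      have h2 := (hynorm _ h1).2
      have h3' := hdR _ h2
      have h4 := (hynorm _ h3').1
      have e : c⁻¹ * r * c = y * (d * (y⁻¹ * (d⁻¹ * r * d) * y) * d⁻¹) * y⁻¹ := by
        rw [hc]; group
      rw [e]; exact h4
  have hdc : d * c * d⁻¹ = c⁻¹ := by
    rw [hc, hdi]
    have e1 : d * (d * y * d * y⁻¹) * d = (d * d) * y * d * y⁻¹ * d := by group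
    have e2 : (d * y * d * y⁻¹)⁻¹ = y * d⁻¹ * y⁻¹ * d⁻¹ := by group
    rw [e1, e2, h.hdd, hdi, one_mul]
  obtain ⟨c₂, c₃, hc₂V, -, hc₃z, ⟨kc, hkc⟩, hcc⟩ := exists_two_three_parts h.hV2 (h.hN3 c hcN)
  by_cases hc₃R : c₃ ∈ R₁
  · -- the centralised case: a contradiction
    exfalso
    obtain ⟨u, hu⟩ : ∃ u, u = y⁻¹ * (d * y * d⁻¹) := ⟨_, rfl⟩
    have huN : u ∈ N := by rw [hu]; exact N.mul_mem (N.inv_mem hyN) hdyN
    have hdu : d * u * d⁻¹ = u⁻¹ := by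
      rw [hu, hdi]
      have e1 : d * (y⁻¹ * (d * y * d)) * d = d * y⁻¹ * d * y * (d * d) := by group
      have e2 : (y⁻¹ * (d * y * d))⁻¹ = d⁻¹ * y⁻¹ * d⁻¹ * y := by group
      rw [e1, e2, h.hdd, hdi, mul_one]
    -- `u ∈ V ⊔ R₁`
    have huB : u ∈ V ⊔ R₁ := by
      have e : u = (y⁻¹ * c₂ * y) * (y⁻¹ * c₃ * y) := by
        have : u = y⁻¹ * c * y := by rw [hu, hc]; group
        rw [this, hcc]; group
      rw [e]
      apply Subgroup.mul_mem_sup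
      · have := h.hVn.conj_mem c₂ hc₂V y⁻¹
        rwa [inv_inv] at this
      · exact (hynorm c₃ hc₃R).2
    obtain ⟨u₂, u₃, hu₂V, hu₂z, hu₃z, ⟨ku, hku⟩, huu⟩ := exists_two_three_parts h.hV2 (h.hN3 u huN)
    obtain ⟨s, hsz, hss⟩ := exists_sqrt_of_three hku
    have hszu : s ∈ Subgroup.zpowers u :=
      (Subgroup.zpowers_le.mpr hu₃z) hsz
    have hzB : Subgroup.zpowers u ≤ V ⊔ R₁ := Subgroup.zpowers_le.mpr huB
    have hsB : s ∈ V ⊔ R₁ := hzB hszu
    have hsN : s ∈ N := (Subgroup.zpowers_le.mpr huN) hszu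
    have hds : d * s * d⁻¹ = s⁻¹ := conj_zpowers_of_inv hdu hszu
    -- commutation among powers of `u`
    have hcomm₁ : Commute u₂ u₃ := by
      obtain ⟨a, rfl⟩ := Subgroup.mem_zpowers_iff.mp hu₂z
      obtain ⟨b, rfl⟩ := Subgroup.mem_zpowers_iff.mp hu₃z
      exact (Commute.refl u).zpow_zpow a b
    -- `d (y s) d⁻¹ = (y u₂ y⁻¹) (y s)`
    obtain ⟨g, hg⟩ : ∃ g, g = y * s := ⟨_, rfl⟩
    have hgN : g ∈ N := by rw [hg]; exact N.mul_mem hyN hsN
    obtain ⟨w, hw⟩ : ∃ w, w = y * u₂ * y⁻¹ := ⟨_, rfl⟩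
    have hwV : w ∈ V := by rw [hw]; exact h.hVn.conj_mem u₂ hu₂V y
    have hdg : d * g * d⁻¹ = w * g := by
      have e1 : d * y * d⁻¹ = y * u := by rw [hu]; group
      have e2 : d * g * d⁻¹ = (d * y * d⁻¹) * (d * s * d⁻¹) := by rw [hg]; group
      rw [e2, e1, hds, hw, hg, huu]
      have e3 : u₃ * s⁻¹ = s := by rw [← hss]; group
      calc y * (u₂ * u₃) * s⁻¹ = y * u₂ * (u₃ * s⁻¹) := by group
        _ = y * u₂ * s := by rw [e3]
        _ = y * u₂ * y⁻¹ * (y * s) := by group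
    -- `g⁻¹ d g ∈ V d`
    have hconj : g⁻¹ * d * g⁻¹⁻¹ = (g⁻¹ * w * g) * d := by
      rw [inv_inv]
      have : d * g = w * g * d := by
        calc d * g = (d * g * d⁻¹) * d := by group
          _ = w * g * d := by rw [hdg]
      calc g⁻¹ * d * g = g⁻¹ * (d * g) := by group
        _ = g⁻¹ * (w * g * d) := by rw [this]
        _ = g⁻¹ * w * g * d := by group
    have hw'V : g⁻¹ * w * g ∈ V := by
      have := h.hVn.conj_mem w hwV g⁻¹
      rwa [inv_inv] at this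
    have hmemV : d⁻¹ * (g⁻¹ * d * g⁻¹⁻¹) ∈ V := by
      rw [hconj]
      have e : d⁻¹ * (g⁻¹ * w * g * d) = d⁻¹ * (g⁻¹ * w * g) * d⁻¹⁻¹ := by group
      rw [e]
      exact h.hVn.conj_mem _ hw'V d⁻¹
    obtain ⟨v, hvV, hv⟩ := h.hstar g⁻¹ hmemV
    -- `v⁻¹ g⁻¹` centralises `d`
    have hcent : Commute d (v⁻¹ * g⁻¹) := by
      show d * (v⁻¹ * g⁻¹) = v⁻¹ * g⁻¹ * d
      have : v⁻¹ * (g⁻¹ * d * g⁻¹⁻¹) * v = d := by rw [hv]; group
      calc d * (v⁻¹ * g⁻¹) = (v⁻¹ * (g⁻¹ * d * g⁻¹⁻¹) * v) * (v⁻¹ * g⁻¹) := by rw [this]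
        _ = v⁻¹ * g⁻¹ * d := by group
    have hc'N : v⁻¹ * g⁻¹ ∈ N := N.mul_mem (N.inv_mem (h.hVN hvV)) (N.inv_mem hgN)
    obtain ⟨v₁, hv₁, r₁, hr₁, hvr⟩ := hcov _ hc'N hcent
    have hgB : g ∈ V ⊔ R₁ := by
      have e : g = (v * (v₁ * r₁))⁻¹ := by rw [← hvr]; group
      rw [e]
      apply Subgroup.inv_mem
      exact Subgroup.mul_mem _ (Subgroup.mem_sup_left hvV)
        (Subgroup.mul_mem_sup hv₁ hr₁)
    have hyB : y ∈ V ⊔ R₁ := by
      have e : y = g * s⁻¹ := by rw [hg]; group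
      rw [e]
      exact Subgroup.mul_mem _ hgB (Subgroup.inv_mem _ hsB)
    rw [Subgroup.mem_sup_of_normal_left] at hyB
    obtain ⟨v₂, hv₂, r₂, hr₂, e⟩ := hyB
    exact hyVR v₂ hv₂ r₂ hr₂ e.symm
  · -- the inverted case: enlarge `R₁` by `c₃`
    have hc₃zc : Subgroup.zpowers c₃ ≤ Subgroup.zpowers c := Subgroup.zpowers_le.mpr hc₃z
    have hZ3 : IsPGroup 3 (Subgroup.zpowers c₃) := by
      rintro ⟨z, hz⟩
      obtain ⟨n, rfl⟩ := Subgroup.mem_zpowers_iff.mp hz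
      refine ⟨kc, ?_⟩
      apply Subtype.ext
      show (c₃ ^ n) ^ (3 ^ kc) = 1
      rw [← zpow_natCast, ← zpow_mul, mul_comm, zpow_mul, zpow_natCast, hkc, one_zpow]
    have hcnormalizer : c ∈ Subgroup.normalizer (R₁ : Set G) := by
      rw [Subgroup.mem_normalizer_iff]
      intro r
      constructor
      · intro hr; exact (hcnorm r hr).1
      · intro hr
        have := (hcnorm _ hr).2
        have e : c⁻¹ * (c * r * c⁻¹) * c = r := by group
        rwa [e] at this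
    have hZnorm : Subgroup.zpowers c₃ ≤ Subgroup.normalizer (R₁ : Set G) :=
      hc₃zc.trans (Subgroup.zpowers_le.mpr hcnormalizer)
    refine ⟨R₁ ⊔ Subgroup.zpowers c₃, IsPGroup.to_sup_of_normal_left' h3 hZ3 hZnorm, ?_, ?_⟩
    · intro r hr
      have hmap : (R₁ ⊔ Subgroup.zpowers c₃).map (MulAut.conj d).toMonoidHom ≤
          R₁ ⊔ Subgroup.zpowers c₃ := by
        rw [Subgroup.map_sup]
        apply sup_le_sup
        · rintro _ ⟨x, hx, rfl⟩
          exact hdR x hx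
        · rintro _ ⟨z, hz, rfl⟩
          show d * z * d⁻¹ ∈ Subgroup.zpowers c₃
          rw [conj_zpowers_of_inv hdc (hc₃zc hz)]
          exact Subgroup.inv_mem _ hz
      exact hmap ⟨r, hr, rfl⟩
    · refine lt_of_le_of_ne le_sup_left ?_
      intro e
      apply hc₃R
      rw [e]
      exact Subgroup.mem_sup_right (Subgroup.mem_zpowers c₃)

/-- **the theorem**: `d` normalises a Sylow `3`-subgroup -/
theorem Setup.exists_sylow [Finite G] (h : Setup V N d) :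
    ∃ P : Sylow 3 G, d ∈ Subgroup.normalizer ((P : Subgroup G) : Set G) := by
  haveI : Fact (Nat.Prime 3) := ⟨Nat.prime_three⟩
  have hdi := h.dinv
  obtain ⟨R, hR3, hRc, hRcov⟩ := h.exists_R
  obtain ⟨s, hs⟩ : ∃ s : Set (Subgroup G), s = {R₁ : Subgroup G | IsPGroup 3 R₁ ∧
      (∀ r ∈ R₁, d * r * d⁻¹ ∈ R₁) ∧ R ≤ R₁} := ⟨_, rfl⟩
  have hRs : R ∈ s := by
    rw [hs]
    refine ⟨hR3, ?_, le_rfl⟩
    intro r hr
    have := hRc r hr
    have e : d * r * d⁻¹ = r := by rw [this.eq]; group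
    rw [e]; exact hr
  obtain ⟨R₁, hR₁s, hmax⟩ := Set.exists_max_image s (fun R₁ => Nat.card ↥R₁) (Set.toFinite s)
    ⟨R, hRs⟩
  rw [hs] at hR₁s
  obtain ⟨h3, hdR, hRR₁⟩ := hR₁s
  obtain ⟨Q, hQ⟩ := h3.exists_le_sylow
  have hcov : ∀ c ∈ N, Commute d c → ∃ v ∈ V, ∃ r ∈ R₁, c = v * r := by
    intro c hc hcd
    obtain ⟨v, hv, r, hr, e⟩ := hRcov c hc hcd
    exact ⟨v, hv, r, hRR₁ hr, e⟩
  have hEq : R₁ = (Q : Subgroup G) := by
    by_contra hne
    have hlt : R₁ < (Q : Subgroup G) := lt_of_le_of_ne hQ hne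
    obtain ⟨R₂, h23, hdR₂, hlt₂⟩ := h.step R₁ h3 hdR hcov Q Q.isPGroup' hlt
    have hR₂s : R₂ ∈ s := by
      rw [hs]; exact ⟨h23, hdR₂, hRR₁.trans hlt₂.le⟩
    have h1 := hmax R₂ hR₂s
    have h2 : Nat.card ↥R₁ < Nat.card ↥R₂ := by
      have hsub : (R₁ : Set G) ⊂ (R₂ : Set G) := by
        exact SetLike.coe_ssubset_coe.mpr hlt₂
      have := Set.ncard_lt_ncard hsub (Set.toFinite _)
      rw [← Nat.card_coe_set_eq, ← Nat.card_coe_set_eq] at this
      exact this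
    have h1' : Nat.card ↥R₂ ≤ Nat.card ↥R₁ := h1
    omega
  refine ⟨Q, ?_⟩
  rw [← hEq, Subgroup.mem_normalizer_iff]
  intro r
  constructor
  · intro hr; exact hdR r hr
  · intro hr
    have := hdR _ hr
    rw [hdi] at this
    have e : d * (d * r * d) * d = (d * d) * r * (d * d) := by group
    rw [e, h.hdd, one_mul, mul_one] at this
    exact this

end Cfsg.Agent.H9IS
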