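import Mathlib
import Cfsg.Agent.Lib.Helper9.InvSyl3

set_option autoImplicit false

/-!
# An involution normalising a Sylow 3-subgroup: generation
-/

namespace Cfsg.Agent.H9IS

variable {G : Type*} [Group G] {V N : Subgroup G} {d : G}

/-- `N = V P` for a Sylow `3`-subgroup `P` -/
theorem Setup.N_le [Finite G] (h : Setup V N d) (P : Sylow 3 G) : N ≤ V ⊔ (P : Subgroup G) := by
  haveI : Fact (Nat.Prime 3) := ⟨Nat.prime_three⟩
  haveI := h.hVn
  have hPN : (P : Subgroup G) ≤ N := by
    intro y hy
    obtain ⟨k, hk⟩ := P.isPGroup' ⟨y, hy⟩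
    have hk' : y ^ (3 ^ k) = 1 := by
      have := congrArg Subtype.val hk
      simpa using this
    exact mem_of_three_of_index_two h.hidx hk'
  obtain ⟨H, hH⟩ : ∃ H : Subgroup ↥N, H = V.subgroupOf N := ⟨_, rfl⟩
  obtain ⟨K, hK⟩ : ∃ K : Subgroup ↥N, K = (P : Subgroup G).subgroupOf N := ⟨_, rfl⟩
  haveI : H.Normal := by rw [hH]; infer_instance
  have hH2 : IsPGroup 2 H := by rw [hH]; exact h.hV2.comap_subtype
  have hHV : ∀ x : ↥N, x ∈ H → (x : G) ∈ V := by
    intro x hx
    rw [hH, Subgroup.mem_subgroupOf] at hx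
    exact hx
  have hKP : ∀ x : ↥N, x ∈ K → (x : G) ∈ (P : Subgroup G) := by
    intro x hx
    rw [hK, Subgroup.mem_subgroupOf] at hx
    exact hx
  have hQ3 : IsPGroup 3 (↥N ⧸ H) := by
    intro q
    induction q using QuotientGroup.induction_on with
    | H c =>
      obtain ⟨k, hk⟩ := h.hN3 c.1 c.2
      refine ⟨k, ?_⟩
      rw [← QuotientGroup.mk_pow, QuotientGroup.eq_one_iff, hH, Subgroup.mem_subgroupOf]
      simpa using hk
  obtain ⟨i, hi⟩ := IsPGroup.iff_card.mp hH2
  obtain ⟨j, hj⟩ := IsPGroup.iff_card.mp hQ3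
  have hcardN : Nat.card ↥N = 3 ^ j * 2 ^ i := by
    rw [Subgroup.card_eq_card_quotient_mul_card_subgroup H, hi, hj]
  have hcardG : Nat.card G = 3 ^ j * 2 ^ (i + 1) := by
    rw [← Subgroup.card_mul_index N, hcardN, h.hidx, pow_succ, mul_assoc]
  have hKcard : Nat.card ↥K = 3 ^ j := by
    rw [hK, Nat.card_congr (Subgroup.subgroupOfEquivOfLe hPN).toEquiv, Sylow.card_eq_multiplicity,
      hcardG]
    congr 1
    rw [Nat.factorization_mul (by positivity) (by positivity), Nat.factorization_pow,
      Nat.factorization_pow]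
    simp [Nat.Prime.factorization Nat.prime_three, Nat.Prime.factorization Nat.prime_two]
  have hcompl : H.IsComplement' K := by
    apply Subgroup.isComplement'_of_coprime
    · rw [hi, hKcard, hcardN, mul_comm]
    · rw [hi, hKcard]
      exact Nat.Coprime.pow i j (by norm_num)
  intro x hx
  obtain ⟨⟨a, b⟩, hab⟩ := hcompl.2 ⟨x, hx⟩
  have e : x = (a.1 : G) * (b.1 : G) := by
    have := congrArg Subtype.val hab
    simpa using this.symm
  rw [e]
  exact Subgroup.mul_mem_sup (hHV a.1 a.2) (hKP b.1 b.2)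

/-- `G = ⟨d⟩ P V` -/
theorem Setup.sup_eq_top [Finite G] (h : Setup V N d) (hdN : d ∉ N) (P : Sylow 3 G) :
    Subgroup.zpowers d ⊔ (P : Subgroup G) ⊔ V = ⊤ := by
  rw [eq_top_iff]
  intro g _
  have hN := h.N_le P
  have hNle : N ≤ Subgroup.zpowers d ⊔ (P : Subgroup G) ⊔ V := by
    refine hN.trans ?_
    apply sup_le
    · exact le_sup_right
    · exact le_sup_right.trans le_sup_left
  by_cases hg : g ∈ N
  · exact hNle hg
  · have : d * g ∈ N := by
      rw [Subgroup.mul_mem_iff_of_index_two h.hidx]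
      exact ⟨fun h' => (hdN h').elim, fun h' => (hg h').elim⟩
    have e : g = d⁻¹ * (d * g) := by group
    rw [e]
    apply Subgroup.mul_mem
    · apply Subgroup.inv_mem
      exact (le_sup_left.trans le_sup_left : Subgroup.zpowers d ≤ _) (Subgroup.mem_zpowers d)
    · exact hNle this

/-- a normal subgroup which together with an involution outside it generates the group has index
two -/
theorem index_eq_two_of_zpowers_sup [Finite G] (O : Subgroup G) [hO : O.Normal] {d : G}
    (hdd : d * d = 1) (hdO : d ∉ O) (hsup : Subgroup.zpowers d ⊔ O = ⊤) : O.index = 2 := by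
  have hdi : d⁻¹ = d := inv_eq_of_mul_eq_one_right hdd
  have key : ∀ g : G, g ∈ O ∨ d * g ∈ O := by
    intro g
    have hg : g ∈ Subgroup.zpowers d ⊔ O := by rw [hsup]; exact Subgroup.mem_top g
    rw [Subgroup.mem_sup_of_normal_right] at hg
    obtain ⟨y, hy, z, hz, rfl⟩ := hg
    obtain ⟨n, rfl⟩ := Subgroup.mem_zpowers_iff.mp hy
    rcases Int.even_or_odd n with ⟨m, hm⟩ | ⟨m, hm⟩
    · left
      have : d ^ n = 1 := by
        rw [hm, ← two_mul, zpow_mul, zpow_two, hdd, one_zpow]
      rw [this, one_mul]; exact hz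
    · right
      have : d ^ n = d := by
        rw [hm, zpow_add, zpow_mul, zpow_two, hdd, one_zpow, one_mul, zpow_one]
      rw [this, ← mul_assoc, hdd, one_mul]; exact hz
  have h0 : O.index ≠ 0 := Subgroup.index_ne_zero_of_finite
  have h1 : O.index ≠ 1 := by
    rw [Ne, Subgroup.index_eq_one]
    rintro rfl
    exact hdO (Subgroup.mem_top d)
  have h2 : O.index ≤ 2 := by
    rw [Subgroup.index_eq_card]
    have hsurj : Function.Surjective
        (fun i : Fin 2 => if i = 0 then (1 : G ⧸ O) else ((d : G) : G ⧸ O)) := by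
      intro q
      induction q using QuotientGroup.induction_on with
      | H g =>
        rcases key g with hg | hg
        · refine ⟨0, ?_⟩
          simp only [if_true]
          exact ((QuotientGroup.eq_one_iff g).mpr hg).symm
        · refine ⟨1, ?_⟩
          have : ((d : G) : G ⧸ O) = ((g : G) : G ⧸ O) := by
            rw [QuotientGroup.eq, hdi]; exact hg
          simpa using this
    have := Nat.card_le_card_of_surjective _ hsurj
    simpa using this
  omega

end Cfsg.Agent.H9IS
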