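import Mathlib
import Cfsg.Prelude.Def_FusionSystem
import Cfsg.Agent.Lib.Helper9.InvTransport1
import Cfsg.Agent.Lib.Helper9.FusionNormal6
import Cfsg.Agent.Lib.Helper9.FusionFinite
import Cfsg.Agent.Lib.Helper9.KNorm6
import Cfsg.Agent.S5145
import Cfsg.Agent.S5085

set_option autoImplicit false

namespace Cfsg.Agent.Lib.Helper9

open Cfsg Cfsg.FusionSystem
open scoped commutatorElement

variable {Ω : Type*} [Group Ω] {S T : Subgroup Ω}

/-- A subgroup of `T` which is strongly closed in the invariant subsystem `E` and invariant under `Aut_F(T)` is strongly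
closed in `F`. -/
theorem stronglyClosed_of_invariant (E : FusionSystem T) (F : FusionSystem S) (hinv : E.IsInvariantIn F)
    {A : Subgroup Ω} (hA : E.StronglyClosed A)
    (hAinv : ∀ α ∈ F.autGroup T, ∀ x : T, (x : Ω) ∈ A → ((α x : T) : Ω) ∈ A) : F.StronglyClosed A := by
  have hTS : T ≤ S := hinv.2.1.1
  refine ⟨hA.1.trans hTS, fun P hPA φ hφ x => ?_⟩
  have hPT : P ≤ T := hPA.trans hA.1
  obtain ⟨α, hα, φ₀, hφ₀, H⟩ := hinv.2.2.2 P hPT φ hφ
  have h1 : φ₀ x ∈ A := hA.2 P hPA φ₀ hφ₀ x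
  rw [H x (hA.1 h1)]
  exact hAinv α hα _ h1

/-- The upper central series of a finite `p`-subgroup, as a series of subgroups of the ambient group. -/
theorem upperCentral_series_data [Finite S] (p : ℕ) [Fact p.Prime] (hS : IsPGroup p S) {Q : Subgroup Ω}
    (hQS : Q ≤ S) :
    ∃ n : ℕ, ((Subgroup.upperCentralSeries Q 0).map Q.subtype = ⊥) ∧
      ((Subgroup.upperCentralSeries Q n).map Q.subtype = Q) ∧
      ∀ i : ℕ, ⁅Q, (Subgroup.upperCentralSeries Q (i + 1)).map Q.subtype⁆ ≤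
        (Subgroup.upperCentralSeries Q i).map Q.subtype := by
  haveI : Finite Q := fs_finite_of_le hQS
  have hQp : IsPGroup p Q := hS.to_le hQS
  haveI : Group.IsNilpotent Q := hQp.isNilpotent
  obtain ⟨n, hn⟩ := (Group.IsNilpotent.nilpotent' : ∃ n : ℕ, Subgroup.upperCentralSeries Q n = ⊤)
  refine ⟨n, ?_, ?_, ?_⟩
  · rw [Subgroup.upperCentralSeries_zero, Subgroup.map_bot]
  · rw [hn, ← MonoidHom.range_eq_map, Subgroup.range_subtype]
  · intro i
    rw [Subgroup.commutator_le]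
    intro q hq z hz
    obtain ⟨z', hz', rfl⟩ := hz
    have hz'' : z' ∈ Subgroup.upperCentralSeries Q (i + 1) := hz'
    rw [Subgroup.mem_upperCentralSeries_succ_iff] at hz''
    have h2 := hz'' ⟨q, hq⟩
    refine ⟨⁅(⟨q, hq⟩ : Q), z'⁆, ?_, rfl⟩
    rw [← commutatorElement_inv]
    exact Subgroup.inv_mem _ h2

end Cfsg.Agent.Lib.Helper9
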