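import Mathlib
import Cfsg.Prelude.Def_FusionComponents
import Cfsg.Agent.Lib.Helper9.FusionBasic
import Cfsg.Agent.Lib.Helper9.FusionFactor
import Cfsg.Agent.Lib.Helper9.FusionMorph1
import Cfsg.Agent.Lib.Helper9.FusionMorph2
import Cfsg.Agent.Lib.Helper9.FusionMorph3

set_option autoImplicit false
open Cfsg Cfsg.FusionSystem Cfsg.Agent.Lib.Helper9

/-! Isomorphisms of fusion systems (factor systems modulo the trivial subgroup): basic calculus. -/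

namespace Cfsg.Agent.H9Iso

variable {Ω : Type*} [Group Ω] {S : Subgroup Ω} {Ω' : Type*} [Group Ω'] {S' : Subgroup Ω'}

/-- `E` is the image of `F` under the injective homomorphism `θ`. -/
def IsIso (F : FusionSystem S) (θ : S →* Ω') (E : FusionSystem S') : Prop := F.IsFactorSystem ⊥ θ E

theorem IsIso.injective {F : FusionSystem S} {θ : S →* Ω'} {E : FusionSystem S'} (h : IsIso F θ E) :
    Function.Injective θ := by
  rw [injective_iff_map_eq_one]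
  intro s hs
  have h1 := (h.2.1 s).mp hs
  rw [Subgroup.mem_bot] at h1
  exact Subtype.ext h1

theorem IsIso.range {F : FusionSystem S} {θ : S →* Ω'} {E : FusionSystem S'} (h : IsIso F θ E) :
    θ.range = S' := h.2.2.1

theorem IsIso.apply_mem {F : FusionSystem S} {θ : S →* Ω'} {E : FusionSystem S'} (h : IsIso F θ E) (s : S) :
    θ s ∈ S' := h.range ▸ ⟨s, rfl⟩

theorem IsIso.finite [Finite S] {F : FusionSystem S} {θ : S →* Ω'} {E : FusionSystem S'} (h : IsIso F θ E) :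
    Finite S' := by
  rw [← h.range]
  exact Finite.of_surjective (fun s : S => (⟨θ s, ⟨s, rfl⟩⟩ : θ.range))
    (by rintro ⟨_, s, rfl⟩; exact ⟨s, rfl⟩)

theorem hom_cast (F : FusionSystem S) {P₁ P₂ : Subgroup Ω} (h : P₁ = P₂) {φ₁ : P₁ →* Ω} {φ₂ : P₂ →* Ω}
    (hφ : φ₁ ∈ F.Hom P₁) (he : ∀ (x : Ω) (h₁ : x ∈ P₁) (h₂ : x ∈ P₂), φ₁ ⟨x, h₁⟩ = φ₂ ⟨x, h₂⟩) :
    φ₂ ∈ F.Hom P₂ := by
  subst h
  have : φ₁ = φ₂ := by
    ext x
    exact he x.1 x.2 x.2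
  rwa [← this]

theorem isFull_of_injective {θ : S →* Ω'} (hinj : Function.Injective θ) {P : Subgroup Ω} (hP : P ≤ S) :
    IsFull θ P := by
  refine ⟨hP, fun s hs => ?_⟩
  obtain ⟨s', hs', e⟩ := (mem_imageAlong_iff θ P _).mp hs
  have := hinj e
  rw [← this]
  exact hs'

theorem pre_img {θ : S →* Ω'} (hinj : Function.Injective θ) {P : Subgroup Ω} (hP : P ≤ S) :
    preimageAlong θ (imageAlong θ P) = P := by
  apply le_antisymm
  · intro x hx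
    obtain ⟨hxS, hx'⟩ := (mem_preimageAlong_iff θ _ x).mp hx
    exact (isFull_of_injective hinj hP).2 ⟨x, hxS⟩ hx'
  · intro x hx
    exact (mem_preimageAlong_iff θ _ x).mpr ⟨hP hx, apply_mem_imageAlong θ (hP hx) hx⟩

theorem img_pre (θ : S →* Ω') {P' : Subgroup Ω'} (hP' : P' ≤ θ.range) :
    imageAlong θ (preimageAlong θ P') = P' :=
  le_antisymm (imageAlong_preimageAlong_le θ P') (le_imageAlong_preimageAlong θ hP')

/-- The homomorphism induced on the image by an injective `θ`. -/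
theorem exists_induced {θ : S →* Ω'} (hinj : Function.Injective θ) {P : Subgroup Ω} (hPS : P ≤ S)
    (φ : P →* Ω) (hφS : ∀ x : P, φ x ∈ S) :
    ∃ φ' : imageAlong θ P →* Ω', ∀ (x : P) (hx' : θ ⟨x, hPS x.2⟩ ∈ imageAlong θ P),
      φ' ⟨θ ⟨x, hPS x.2⟩, hx'⟩ = θ ⟨φ x, hφS x⟩ := by
  let f : P →* imageAlong θ P := (θ.comp (Subgroup.inclusion hPS)).codRestrict (imageAlong θ P)
    (fun x => apply_mem_imageAlong θ (hPS x.2) x.2)
  have hf : Function.Bijective f := by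
    constructor
    · intro a b hab
      have h1 : θ ⟨a, hPS a.2⟩ = θ ⟨b, hPS b.2⟩ := congrArg Subtype.val hab
      have h2 := hinj h1
      exact Subtype.ext (congrArg (fun z : S => (z : Ω)) h2)
    · rintro ⟨y, hy⟩
      obtain ⟨s, hs, e⟩ := (mem_imageAlong_iff θ P y).mp hy
      exact ⟨⟨s, hs⟩, Subtype.ext e⟩
  let e : P ≃* imageAlong θ P := MulEquiv.ofBijective f hf
  refine ⟨(θ.comp (φ.codRestrict S hφS)).comp e.symm.toMonoidHom, fun x hx' => ?_⟩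
  have h1 : e.symm ⟨θ ⟨x, hPS x.2⟩, hx'⟩ = x := by
    apply e.injective
    rw [MulEquiv.apply_symm_apply]
    rfl
  show θ ((φ.codRestrict S hφS) (e.symm ⟨θ ⟨x, hPS x.2⟩, hx'⟩)) = θ ⟨φ x, hφS x⟩
  rw [h1]
  rfl

theorem IsIso.isMorphism {F : FusionSystem S} {θ : S →* Ω'} {E : FusionSystem S'} (h : IsIso F θ E) :
    F.IsMorphism E θ := by
  refine ⟨h.apply_mem, fun P φ hφ => ?_⟩
  have hPS : P ≤ S := (F.le_of_mem hφ).1
  have hφS : ∀ x : P, φ x ∈ S := (F.le_of_mem hφ).2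
  obtain ⟨φ', hφ'⟩ := exists_induced h.injective hPS φ hφS
  have hind : InducedAlong θ φ φ' :=
    ⟨hPS, hφS, fun x => apply_mem_imageAlong θ (hPS x.2) x.2, fun x => hφ' x _⟩
  refine ⟨φ', ?_, hind⟩
  rw [h.2.2.2]
  refine ⟨imageAlong_le_of_range θ h.range P, ?_⟩
  have hle : preimageAlong θ (imageAlong θ P) ≤ P := le_of_eq (pre_img h.injective hPS)
  refine ⟨φ.comp (Subgroup.inclusion hle), fs_restrict_mem F hφ hle, preimageAlong_le θ _,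
    fun x => hφS _, fun x => apply_mem_of_mem_preimageAlong θ _ x, fun x => ?_⟩
  exact hφ' (Subgroup.inclusion hle x) _

theorem IsIso.isSurjectiveMorphism {F : FusionSystem S} {θ : S →* Ω'} {E : FusionSystem S'}
    (h : IsIso F θ E) : F.IsSurjectiveMorphism E θ :=
  ⟨h.isMorphism, h.range, fun P' _ φ' hφ' => ((h.2.2.2 P' φ').mp hφ').2⟩

theorem IsIso.push {F : FusionSystem S} {θ : S →* Ω'} {E : FusionSystem S'} (h : IsIso F θ E)
    {P : Subgroup Ω} {φ : P →* Ω} (hφ : φ ∈ F.Hom P) {P' : Subgroup Ω'} (hP' : imageAlong θ P = P') :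
    ∃ φ' ∈ E.Hom P', ∀ (x : P) (hxS : (x : Ω) ∈ S) (hx' : θ ⟨x, hxS⟩ ∈ P') (hφS : φ x ∈ S),
      φ' ⟨θ ⟨x, hxS⟩, hx'⟩ = θ ⟨φ x, hφS⟩ := by
  subst hP'
  exact morph_push F E θ h.isMorphism hφ

theorem IsIso.pull {F : FusionSystem S} {θ : S →* Ω'} {E : FusionSystem S'} (h : IsIso F θ E)
    {P : Subgroup Ω} (hP : P ≤ S) {P' : Subgroup Ω'} (hP' : imageAlong θ P = P')
    {φ' : P' →* Ω'} (hφ' : φ' ∈ E.Hom P') :
    ∃ φ ∈ F.Hom P, ∀ (x : P) (hxS : (x : Ω) ∈ S) (hx' : θ ⟨x, hxS⟩ ∈ P') (hφS : φ x ∈ S),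
      φ' ⟨θ ⟨x, hxS⟩, hx'⟩ = θ ⟨φ x, hφS⟩ := by
  subst hP'
  exact morph_pull F E θ h.isSurjectiveMorphism (isFull_of_injective h.injective hP) hφ'

/-- Every element of a subgroup `P' = θ(P)` is `θ x` for some `x ∈ P`. -/
theorem exists_of_mem_img {θ : S →* Ω'} {P : Subgroup Ω} {P' : Subgroup Ω'} (hP' : imageAlong θ P = P')
    {y : Ω'} (hy : y ∈ P') : ∃ (x : Ω) (hxS : x ∈ S), x ∈ P ∧ θ ⟨x, hxS⟩ = y := by
  subst hP'
  obtain ⟨s, hs, e⟩ := (mem_imageAlong_iff θ P y).mp hy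
  exact ⟨s, s.2, hs, e⟩

theorem mem_img_of_mem {θ : S →* Ω'} {P : Subgroup Ω} {P' : Subgroup Ω'} (hP' : imageAlong θ P = P')
    {x : Ω} (hxS : x ∈ S) (hx : x ∈ P) : θ ⟨x, hxS⟩ ∈ P' := by
  subst hP'
  exact apply_mem_imageAlong θ hxS hx

theorem mem_of_mem_img {θ : S →* Ω'} (hinj : Function.Injective θ) {P : Subgroup Ω} (hP : P ≤ S)
    {P' : Subgroup Ω'} (hP' : imageAlong θ P = P') {x : Ω} (hxS : x ∈ S) (hx : θ ⟨x, hxS⟩ ∈ P') : x ∈ P := by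
  subst hP'
  exact (isFull_of_injective hinj hP).2 ⟨x, hxS⟩ hx

/-- A homomorphism related pointwise to a map of `F` is a map of `E`. -/
theorem IsIso.mem_of_rel {F : FusionSystem S} {θ : S →* Ω'} {E : FusionSystem S'} (h : IsIso F θ E)
    {P : Subgroup Ω} {φ : P →* Ω} (hφ : φ ∈ F.Hom P) {P' : Subgroup Ω'} (hP' : imageAlong θ P = P')
    (φ' : P' →* Ω')
    (hrel : ∀ (x : P) (hxS : (x : Ω) ∈ S) (hx' : θ ⟨x, hxS⟩ ∈ P') (hφS : φ x ∈ S),
      φ' ⟨θ ⟨x, hxS⟩, hx'⟩ = θ ⟨φ x, hφS⟩) : φ' ∈ E.Hom P' := by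
  obtain ⟨φ'', hφ'', H⟩ := h.push hφ hP'
  have : φ'' = φ' := by
    ext ⟨y, hy⟩
    obtain ⟨x, hxS, hxP, rfl⟩ := exists_of_mem_img hP' hy
    have hφS : φ ⟨x, hxP⟩ ∈ S := (F.le_of_mem hφ).2 _
    rw [H ⟨x, hxP⟩ hxS hy hφS, hrel ⟨x, hxP⟩ hxS hy hφS]
  rwa [← this]

/-- A homomorphism related pointwise to a map of `E` is a map of `F`. -/
theorem IsIso.mem_of_rel' {F : FusionSystem S} {θ : S →* Ω'} {E : FusionSystem S'} (h : IsIso F θ E)
    {P : Subgroup Ω} (hP : P ≤ S) (φ : P →* Ω) (hφS : ∀ x : P, φ x ∈ S) {P' : Subgroup Ω'}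
    (hP' : imageAlong θ P = P') {φ' : P' →* Ω'} (hφ' : φ' ∈ E.Hom P')
    (hrel : ∀ (x : P) (hx' : θ ⟨x, hP x.2⟩ ∈ P'), φ' ⟨θ ⟨x, hP x.2⟩, hx'⟩ = θ ⟨φ x, hφS x⟩) :
    φ ∈ F.Hom P := by
  obtain ⟨φ₀, hφ₀, H⟩ := h.pull hP hP' hφ'
  have : φ₀ = φ := by
    ext x
    have hx' : θ ⟨x, hP x.2⟩ ∈ P' := mem_img_of_mem hP' (hP x.2) x.2
    have h1 := H x (hP x.2) hx' ((F.le_of_mem hφ₀).2 x)
    rw [hrel x hx'] at h1
    have h2 := h.injective h1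
    exact (congrArg (fun z : S => (z : Ω)) h2).symm
  rwa [← this]

end Cfsg.Agent.H9Iso
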