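import Mathlib
import Cfsg.Agent.Lib.Helper9.Iso1

set_option autoImplicit false
open Cfsg Cfsg.FusionSystem Cfsg.Agent.Lib.Helper9

/-! The image of a fusion system under an injective homomorphism exists. -/

namespace Cfsg.Agent.H9Iso

variable {Ω : Type*} [Group Ω] {S : Subgroup Ω} {Ω' : Type*} [Group Ω']

/-- The maps of the image system with source `P'`. -/
def pushHom (F : FusionSystem S) (θ : S →* Ω') (P' : Subgroup Ω') : Set (P' →* Ω') :=
  {φ' | P' ≤ θ.range ∧ ∃ φ ∈ F.Hom (preimageAlong θ P'), InducedAlong θ φ φ'}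

theorem exists_pre {θ : S →* Ω'} {P' : Subgroup Ω'} (hP' : P' ≤ θ.range) (y : P') :
    ∃ s : preimageAlong θ P', θ ⟨s, preimageAlong_le θ P' s.2⟩ = y := by
  obtain ⟨s, hs⟩ := hP' y.2
  exact ⟨⟨s, (mem_preimageAlong_iff θ P' s).mpr ⟨s.2, by rw [hs]; exact y.2⟩⟩, hs⟩

section

variable (F : FusionSystem S) (θ : S →* Ω') (hinj : Function.Injective θ)

theorem push_apply {P' : Subgroup Ω'} {φ' : P' →* Ω'} {φ : preimageAlong θ P' →* Ω}
    (hφ : φ ∈ F.Hom (preimageAlong θ P')) (hind : InducedAlong θ φ φ') (s : preimageAlong θ P') :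
    φ' ⟨θ ⟨s, preimageAlong_le θ P' s.2⟩, apply_mem_of_mem_preimageAlong θ P' s⟩ =
      θ ⟨φ s, (F.le_of_mem hφ).2 s⟩ :=
  inducedAlong_apply hind s _ _ _

theorem push_le_of_mem {P' : Subgroup Ω'} {φ' : P' →* Ω'} (h : φ' ∈ pushHom F θ P') :
    P' ≤ θ.range ∧ ∀ x : P', φ' x ∈ θ.range := by
  obtain ⟨hP', φ, hφ, hind⟩ := h
  refine ⟨hP', fun y => ?_⟩
  obtain ⟨s, hs⟩ := exists_pre hP' y
  have e := push_apply F θ hφ hind s
  have hy : y = ⟨θ ⟨s, preimageAlong_le θ P' s.2⟩, apply_mem_of_mem_preimageAlong θ P' s⟩ :=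
    Subtype.ext hs.symm
  rw [hy, e]
  exact ⟨_, rfl⟩

include hinj in
theorem push_injective {P' : Subgroup Ω'} {φ' : P' →* Ω'} (h : φ' ∈ pushHom F θ P') :
    Function.Injective φ' := by
  obtain ⟨hP', φ, hφ, hind⟩ := h
  intro a b hab
  obtain ⟨s, hs⟩ := exists_pre hP' a
  obtain ⟨t, ht⟩ := exists_pre hP' b
  have ea := push_apply F θ hφ hind s
  have eb := push_apply F θ hφ hind t
  have ha : a = ⟨θ ⟨s, preimageAlong_le θ P' s.2⟩, apply_mem_of_mem_preimageAlong θ P' s⟩ :=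
    Subtype.ext hs.symm
  have hb : b = ⟨θ ⟨t, preimageAlong_le θ P' t.2⟩, apply_mem_of_mem_preimageAlong θ P' t⟩ :=
    Subtype.ext ht.symm
  rw [ha, hb, ea, eb] at hab
  have h1 := hinj hab
  have h2 : φ s = φ t := congrArg (fun z : S => (z : Ω)) h1
  have h3 := F.injective_of_mem hφ h2
  subst h3
  rw [ha, hb]

theorem push_conj_mem {P' : Subgroup Ω'} {g' : Ω'} (hP' : P' ≤ θ.range) (hg' : g' ∈ θ.range) :
    conjHom P' g' ∈ pushHom F θ P' := by
  obtain ⟨g, rfl⟩ := hg'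
  have hPS := preimageAlong_le θ P'
  refine ⟨hP', conjHom (preimageAlong θ P') (g : Ω), F.conj_mem hPS g.2, hPS, ?_, ?_, ?_⟩
  · intro x
    exact S.mul_mem (S.mul_mem g.2 (hPS x.2)) (S.inv_mem g.2)
  · intro x
    exact apply_mem_of_mem_preimageAlong θ P' x
  · intro x
    show θ g * θ ⟨x, _⟩ * (θ g)⁻¹ = θ ⟨(g : Ω) * x * (g : Ω)⁻¹, _⟩
    rw [← map_inv, ← map_mul, ← map_mul]
    rfl

theorem push_comp_mem {P' Q' : Subgroup Ω'} {φ' : P' →* Ω'} {ψ' : Q' →* Ω'} (hφ' : φ' ∈ pushHom F θ P')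
    (hψ' : ψ' ∈ pushHom F θ Q') (h : ∀ x : P', φ' x ∈ Q') :
    ψ'.comp (φ'.codRestrict Q' h) ∈ pushHom F θ P' := by
  obtain ⟨hP', φ, hφ, hindφ⟩ := hφ'
  obtain ⟨hQ', ψ, hψ, hindψ⟩ := hψ'
  have hPS := preimageAlong_le θ P'
  have hφS : ∀ x : preimageAlong θ P', φ x ∈ S := (F.le_of_mem hφ).2
  have hφQ : ∀ x : preimageAlong θ P', φ x ∈ preimageAlong θ Q' := by
    intro x
    rw [mem_preimageAlong_iff]
    refine ⟨hφS x, ?_⟩
    rw [← inducedAlong_apply hindφ x (hPS x.2) (apply_mem_of_mem_preimageAlong θ P' x) (hφS x)]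
    exact h _
  refine ⟨hP', ψ.comp (φ.codRestrict _ hφQ), F.comp_mem hφ hψ hφQ, hPS, fun x => (F.le_of_mem hψ).2 _,
    fun x => apply_mem_of_mem_preimageAlong θ P' x, ?_⟩
  intro x
  show ψ' ⟨φ' ⟨θ ⟨x, _⟩, _⟩, _⟩ = θ ⟨ψ ⟨φ x, _⟩, _⟩
  have e1 := inducedAlong_apply hindφ x (hPS x.2) (apply_mem_of_mem_preimageAlong θ P' x) (hφS x)
  have hx2 : θ ⟨φ x, hφS x⟩ ∈ Q' := ((mem_preimageAlong_iff θ Q' _).mp (hφQ x)).2
  have e2 := inducedAlong_apply hindψ ⟨φ x, hφQ x⟩ (hφS x) hx2 ((F.le_of_mem hψ).2 _)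
  rw [← e2]
  congr 1
  apply Subtype.ext
  exact e1

include hinj in
theorem push_inv_mem {P' : Subgroup Ω'} {φ' : P' →* Ω'} (hφ' : φ' ∈ pushHom F θ P') :
    ∃ ψ' ∈ pushHom F θ φ'.range, ∀ x : P', ψ' ⟨φ' x, ⟨x, rfl⟩⟩ = (x : Ω') := by
  have hinj' := push_injective F θ hinj hφ'
  have hle := push_le_of_mem F θ hφ'
  obtain ⟨hP', φ, hφ, hindφ⟩ := hφ'
  obtain ⟨χ, hχ, hχφ⟩ := F.inv_mem hφ
  have hPS := preimageAlong_le θ P'
  have hφS : ∀ x : preimageAlong θ P', φ x ∈ S := (F.le_of_mem hφ).2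
  have hR : preimageAlong θ φ'.range ≤ φ.range := by
    intro r hr
    obtain ⟨hrS, x', hx'⟩ := (mem_preimageAlong_iff θ φ'.range r).mp hr
    obtain ⟨s, hs⟩ := exists_pre hP' x'
    have e1 := push_apply F θ hφ hindφ s
    have e2 : φ' x' = θ ⟨φ s, hφS s⟩ := by
      rw [← e1]
      congr 1
      apply Subtype.ext
      exact hs.symm
    rw [e2] at hx'
    have h3 := hinj hx'
    have h4 : φ s = r := congrArg (fun z : S => (z : Ω)) h3
    exact ⟨s, h4⟩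
  have hχ' := fs_restrict_mem F hχ hR
  let e : P' ≃* φ'.range := MulEquiv.ofBijective φ'.rangeRestrict
    ⟨MonoidHom.rangeRestrict_injective_iff.mpr hinj', φ'.rangeRestrict_surjective⟩
  have he : ∀ x : P', e.symm ⟨φ' x, ⟨x, rfl⟩⟩ = x := by
    intro x
    apply e.injective
    rw [MulEquiv.apply_symm_apply]
    rfl
  have hrange : φ'.range ≤ θ.range := by
    rintro _ ⟨x, rfl⟩
    exact hle.2 x
  refine ⟨P'.subtype.comp e.symm.toMonoidHom, ⟨hrange, χ.comp (Subgroup.inclusion hR), hχ',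
    preimageAlong_le θ _, fun x => (F.le_of_mem hχ').2 x,
    fun x => apply_mem_of_mem_preimageAlong θ _ x, ?_⟩, fun x => by simp [he]⟩
  intro r
  obtain ⟨x, hx⟩ := hR r.2
  have hrS : (r : Ω) ∈ S := preimageAlong_le θ _ r.2
  have e1 := inducedAlong_apply hindφ x (hPS x.2) (apply_mem_of_mem_preimageAlong θ P' x) (hφS x)
  have h1 : (⟨θ ⟨r, hrS⟩, apply_mem_of_mem_preimageAlong θ _ r⟩ : φ'.range) =
      ⟨φ' ⟨θ ⟨x, hPS x.2⟩, apply_mem_of_mem_preimageAlong θ P' x⟩, ⟨_, rfl⟩⟩ := by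
    apply Subtype.ext
    show θ ⟨r, hrS⟩ = φ' ⟨θ ⟨x, hPS x.2⟩, apply_mem_of_mem_preimageAlong θ P' x⟩
    rw [e1]
    congr 1
    apply Subtype.ext
    exact hx.symm
  show ((e.symm ⟨θ ⟨r, hrS⟩, _⟩ : P') : Ω') = θ ⟨χ (Subgroup.inclusion hR r), _⟩
  rw [h1, he]
  have h2 : χ (Subgroup.inclusion hR r) = x := by
    rw [← hχφ x]
    congr 1
    apply Subtype.ext
    exact hx.symm
  show θ ⟨x, _⟩ = θ ⟨χ (Subgroup.inclusion hR r), _⟩
  congr 1
  apply Subtype.ext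
  exact h2.symm

end

/-- The image of `F` under an injective homomorphism. -/
def pushSys (F : FusionSystem S) (θ : S →* Ω') (hinj : Function.Injective θ) : FusionSystem θ.range where
  Hom := fun P' => pushHom F θ P'
  le_of_mem := fun h => push_le_of_mem F θ h
  injective_of_mem := fun h => push_injective F θ hinj h
  conj_mem := fun hP hg => push_conj_mem F θ hP hg
  comp_mem := fun hφ hψ h => push_comp_mem F θ hφ hψ h
  inv_mem := fun hφ => push_inv_mem F θ hinj hφ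

theorem pushSys_isIso (F : FusionSystem S) (θ : S →* Ω') (hinj : Function.Injective θ) :
    IsIso F θ (pushSys F θ hinj) := by
  refine ⟨bot_le, fun s => ?_, rfl, fun P' φ' => Iff.rfl⟩
  rw [Subgroup.mem_bot]
  constructor
  · intro h
    have : s = 1 := hinj (by rw [h, map_one])
    rw [this]
    rfl
  · intro h
    have : s = 1 := Subtype.ext h
    rw [this, map_one]

theorem exists_iso (F : FusionSystem S) (θ : S →* Ω') (hinj : Function.Injective θ) :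
    ∃ E : FusionSystem θ.range, IsIso F θ E := ⟨pushSys F θ hinj, pushSys_isIso F θ hinj⟩

/-- Two images of the same system along the same homomorphism have the same maps. -/
theorem IsIso.hom_eq {S' : Subgroup Ω'} {F : FusionSystem S} {θ : S →* Ω'} {E₁ E₂ : FusionSystem S'}
    (h₁ : IsIso F θ E₁) (h₂ : IsIso F θ E₂) (P' : Subgroup Ω') : E₁.Hom P' = E₂.Hom P' := by
  ext φ'
  rw [h₁.2.2.2, h₂.2.2.2]

end Cfsg.Agent.H9Iso
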