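import Mathlib
import Cfsg.Agent.Lib.Helper9.Iso2

set_option autoImplicit false
open Cfsg Cfsg.FusionSystem Cfsg.Agent.Lib.Helper9

/-! Isomorphisms of fusion systems: composition, inverse, identity, cancellation, monotonicity. -/

namespace Cfsg.Agent.H9Iso

variable {Ω : Type*} [Group Ω] {S : Subgroup Ω} {Ω' : Type*} [Group Ω'] {S' : Subgroup Ω'}

/-- Composition of an isomorphism with a factor map. -/
theorem IsIso.comp_factor {Ω'' : Type*} [Group Ω''] {S'' : Subgroup Ω''} {F : FusionSystem S} {θ : S →* Ω'}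
    {E : FusionSystem S'} (h : IsIso F θ E) {Z : Subgroup Ω'} {η : S' →* Ω''} {G : FusionSystem S''}
    (hG : E.IsFactorSystem Z η G) :
    F.IsFactorSystem (preimageAlong θ Z) (η.comp (θ.codRestrict S' h.apply_mem)) G := by
  have hsurj : Function.Surjective (θ.codRestrict S' h.apply_mem) := by
    rintro ⟨y, hy⟩
    have hy' : y ∈ θ.range := by rw [h.range]; exact hy
    obtain ⟨s, rfl⟩ := hy'
    exact ⟨s, rfl⟩
  refine ⟨preimageAlong_le θ Z, fun s => ?_, ?_, fun P'' ψ => ?_⟩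
  · show η (θ.codRestrict S' h.apply_mem s) = 1 ↔ _
    rw [hG.2.1, mem_preimageAlong_iff]
    constructor
    · intro hs
      exact ⟨s.2, hs⟩
    · rintro ⟨_, hs⟩
      exact hs
  · rw [MonoidHom.range_comp, MonoidHom.range_eq_top.mpr hsurj, ← MonoidHom.range_eq_map]
    exact hG.2.2.1
  · rw [hG.2.2.2 P'' ψ]
    -- the two preimages correspond
    have himg : imageAlong θ (preimageAlong (η.comp (θ.codRestrict S' h.apply_mem)) P'') =
        preimageAlong η P'' := by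
      apply le_antisymm
      · intro y hy
        obtain ⟨s, hs, rfl⟩ := (mem_imageAlong_iff θ _ y).mp hy
        obtain ⟨hsS, hs'⟩ := (mem_preimageAlong_iff _ P'' _).mp hs
        exact (mem_preimageAlong_iff η P'' _).mpr ⟨h.apply_mem s, hs'⟩
      · intro y hy
        obtain ⟨hyS', hy'⟩ := (mem_preimageAlong_iff η P'' y).mp hy
        obtain ⟨s, hs⟩ := hsurj ⟨y, hyS'⟩
        have hs1 : θ s = y := congrArg Subtype.val hs
        rw [← hs1]
        refine apply_mem_imageAlong θ s.2 ?_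
        rw [mem_preimageAlong_iff]
        refine ⟨s.2, ?_⟩
        show η (θ.codRestrict S' h.apply_mem s) ∈ P''
        rw [hs]
        exact hy'
    have hQS : preimageAlong (η.comp (θ.codRestrict S' h.apply_mem)) P'' ≤ S := preimageAlong_le _ _
    constructor
    · rintro ⟨hP'', φ', hφ', hind⟩
      refine ⟨hP'', ?_⟩
      obtain ⟨φ, hφ, H⟩ := h.pull hQS himg hφ'
      have hφS := (F.le_of_mem hφ).2
      refine ⟨φ, hφ, hQS, hφS, fun x => apply_mem_of_mem_preimageAlong _ P'' x, fun x => ?_⟩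
      have hx' : θ ⟨x, hQS x.2⟩ ∈ preimageAlong η P'' := mem_img_of_mem himg (hQS x.2) x.2
      have h1 := H x (hQS x.2) hx' (hφS x)
      have h2 := inducedAlong_apply hind ⟨θ ⟨x, hQS x.2⟩, hx'⟩ (h.apply_mem _)
        (apply_mem_of_mem_preimageAlong η P'' _) ((E.le_of_mem hφ').2 _)
      show ψ ⟨η ⟨θ ⟨x, _⟩, _⟩, _⟩ = η ⟨θ ⟨φ x, _⟩, _⟩
      rw [h2]
      congr 1
      exact Subtype.ext h1
    · rintro ⟨hP'', φ, hφ, hind⟩
      refine ⟨hP'', ?_⟩
      obtain ⟨φ', hφ', H⟩ := h.push hφ himg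
      have hφS := (F.le_of_mem hφ).2
      have hφ'S := (E.le_of_mem hφ').2
      refine ⟨φ', hφ', preimageAlong_le η P'', hφ'S, fun y => apply_mem_of_mem_preimageAlong η P'' y,
        fun y => ?_⟩
      obtain ⟨x, hxS, hxQ, hxy⟩ := exists_of_mem_img himg y.2
      have h1 := H ⟨x, hxQ⟩ hxS (by rw [hxy]; exact y.2) (hφS _)
      have h2 := inducedAlong_apply hind ⟨x, hxQ⟩ hxS
        (apply_mem_of_mem_preimageAlong _ P'' ⟨x, hxQ⟩) (hφS _)
      have hy1 : y = ⟨θ ⟨x, hxS⟩, by rw [hxy]; exact y.2⟩ := Subtype.ext hxy.symm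
      have e3 : (⟨η ⟨y, preimageAlong_le η P'' y.2⟩, apply_mem_of_mem_preimageAlong η P'' y⟩ : P'') =
          ⟨(η.comp (θ.codRestrict S' h.apply_mem)) ⟨x, hxS⟩,
            apply_mem_of_mem_preimageAlong _ P'' ⟨x, hxQ⟩⟩ := by
        apply Subtype.ext
        show η ⟨y, _⟩ = η ⟨θ ⟨x, hxS⟩, _⟩
        congr 1
        exact Subtype.ext hxy.symm
      rw [e3, h2]
      show η ⟨θ ⟨φ ⟨x, hxQ⟩, _⟩, _⟩ = η ⟨φ' y, _⟩
      congr 1
      apply Subtype.ext
      show θ ⟨φ ⟨x, hxQ⟩, _⟩ = φ' y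
      rw [← h1]
      congr 1
      exact hy1.symm

theorem pre_bot {θ : S →* Ω'} (hinj : Function.Injective θ) : preimageAlong θ ⊥ = ⊥ := by
  rw [eq_bot_iff]
  intro x hx
  obtain ⟨hxS, hx'⟩ := (mem_preimageAlong_iff θ ⊥ x).mp hx
  rw [Subgroup.mem_bot] at hx' ⊢
  have : (⟨x, hxS⟩ : S) = 1 := hinj (by rw [hx', map_one])
  exact congrArg (fun z : S => (z : Ω)) this

/-- Composition of isomorphisms. -/
theorem IsIso.comp {Ω'' : Type*} [Group Ω''] {S'' : Subgroup Ω''} {F : FusionSystem S} {θ : S →* Ω'}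
    {E : FusionSystem S'} (h : IsIso F θ E) {η : S' →* Ω''} {G : FusionSystem S''} (hG : IsIso E η G) :
    IsIso F (η.comp (θ.codRestrict S' h.apply_mem)) G := by
  have h1 := h.comp_factor hG
  rw [pre_bot h.injective] at h1
  exact h1

/-- An isomorphism may be replaced by a pointwise equal homomorphism. -/
theorem IsIso.congr {F : FusionSystem S} {θ θ₂ : S →* Ω'} {E : FusionSystem S'} (h : IsIso F θ E)
    (he : ∀ s : S, θ₂ s = θ s) : IsIso F θ₂ E := by
  have : θ₂ = θ := MonoidHom.ext he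
  rw [this]
  exact h

/-- The inverse isomorphism. -/
theorem IsIso.exists_inv {F : FusionSystem S} {θ : S →* Ω'} {E : FusionSystem S'} (h : IsIso F θ E) :
    ∃ κ : S' →* Ω, IsIso E κ F ∧ (∀ s : S, κ ⟨θ s, h.apply_mem s⟩ = (s : Ω)) ∧
      (∀ (y : S') (hy : κ y ∈ S), θ ⟨κ y, hy⟩ = (y : Ω')) := by
  have hbij : Function.Bijective (θ.codRestrict S' h.apply_mem) := by
    constructor
    · intro a b hab
      exact h.injective (congrArg Subtype.val hab)
    · rintro ⟨y, hy⟩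
      have hy' : y ∈ θ.range := by rw [h.range]; exact hy
      obtain ⟨s, rfl⟩ := hy'
      exact ⟨s, rfl⟩
  let e : S ≃* S' := MulEquiv.ofBijective (θ.codRestrict S' h.apply_mem) hbij
  have he : ∀ s : S, e s = ⟨θ s, h.apply_mem s⟩ := fun s => rfl
  have hes : ∀ s : S, e.symm ⟨θ s, h.apply_mem s⟩ = s := by
    intro s
    apply e.injective
    rw [MulEquiv.apply_symm_apply]
    rfl
  have hse : ∀ y : S', θ (e.symm y) = (y : Ω') := by
    intro y
    have : e (e.symm y) = y := e.apply_symm_apply y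
    exact congrArg Subtype.val this
  let κ : S' →* Ω := S.subtype.comp e.symm.toMonoidHom
  have hκ : ∀ y : S', κ y = ((e.symm y : S) : Ω) := fun y => rfl
  have hκS : ∀ y : S', κ y ∈ S := fun y => (e.symm y).2
  have h1 : ∀ s : S, κ ⟨θ s, h.apply_mem s⟩ = (s : Ω) := by
    intro s
    rw [hκ, hes]
  have h2 : ∀ (y : S') (hy : κ y ∈ S), θ ⟨κ y, hy⟩ = (y : Ω') := by
    intro y hy
    exact hse y
  refine ⟨κ, ⟨bot_le, fun y => ?_, ?_, fun P φ => ?_⟩, h1, h2⟩
  · rw [Subgroup.mem_bot, hκ]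
    constructor
    · intro hy
      have : e.symm y = 1 := Subtype.ext hy
      have : y = 1 := by
        rw [← e.apply_symm_apply y, this, map_one]
      rw [this]
      rfl
    · intro hy
      have : y = 1 := Subtype.ext hy
      rw [this, map_one]
      rfl
  · apply le_antisymm
    · rintro _ ⟨y, rfl⟩
      exact hκS y
    · intro s hs
      exact ⟨⟨θ ⟨s, hs⟩, h.apply_mem _⟩, h1 ⟨s, hs⟩⟩
  · -- the image of `P` is the preimage under `κ`
    have himg : ∀ P : Subgroup Ω, P ≤ S → imageAlong θ P = preimageAlong κ P := by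
      intro P hP
      apply le_antisymm
      · intro y hy
        obtain ⟨s, hs, rfl⟩ := (mem_imageAlong_iff θ P y).mp hy
        rw [mem_preimageAlong_iff]
        refine ⟨h.apply_mem s, ?_⟩
        rw [h1]
        exact hs
      · intro y hy
        obtain ⟨hyS', hy'⟩ := (mem_preimageAlong_iff κ P y).mp hy
        have e1 := h2 ⟨y, hyS'⟩ (hκS _)
        have e2 : y = θ ⟨κ ⟨y, hyS'⟩, hκS _⟩ := e1.symm
        rw [e2]
        exact apply_mem_imageAlong θ (hκS _) hy'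
    constructor
    · intro hφ
      have hPS : P ≤ S := (F.le_of_mem hφ).1
      have hφS := (F.le_of_mem hφ).2
      refine ⟨hPS, ?_⟩
      obtain ⟨φ', hφ', H⟩ := h.push hφ (himg P hPS)
      have hφ'S := (E.le_of_mem hφ').2
      refine ⟨φ', hφ', preimageAlong_le κ P, hφ'S, fun y => apply_mem_of_mem_preimageAlong κ P y,
        fun y => ?_⟩
      have hyS' : (y : Ω') ∈ S' := preimageAlong_le κ P y.2
      have hxP : κ ⟨y, hyS'⟩ ∈ P := apply_mem_of_mem_preimageAlong κ P y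
      have e1 := h2 ⟨y, hyS'⟩ (hκS _)
      have H1 := H ⟨κ ⟨y, hyS'⟩, hxP⟩ (hκS _) (by rw [e1]; exact y.2) (hφS _)
      have e3 : (⟨θ ⟨κ ⟨y, hyS'⟩, hκS _⟩, by rw [e1]; exact y.2⟩ : preimageAlong κ P) = y :=
        Subtype.ext e1
      rw [e3] at H1
      show φ ⟨κ ⟨y, hyS'⟩, hxP⟩ = κ ⟨φ' y, hφ'S y⟩
      have e4 : (⟨φ' y, hφ'S y⟩ : S') = ⟨θ ⟨φ ⟨κ ⟨y, hyS'⟩, hxP⟩, hφS _⟩, h.apply_mem _⟩ :=
        Subtype.ext H1
      rw [e4, h1]
    · rintro ⟨hPS, φ', hφ', hind⟩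
      have hφ'S := (E.le_of_mem hφ').2
      have hkey : ∀ x : P, ∀ hx' : θ ⟨x, hPS x.2⟩ ∈ preimageAlong κ P,
          φ x = κ ⟨φ' ⟨θ ⟨x, hPS x.2⟩, hx'⟩, hφ'S _⟩ := by
        intro x hx'
        have e1 := inducedAlong_apply hind ⟨θ ⟨x, hPS x.2⟩, hx'⟩ (h.apply_mem _)
          (apply_mem_of_mem_preimageAlong κ P _) (hφ'S _)
        rw [← e1]
        congr 1
        apply Subtype.ext
        exact (h1 ⟨x, hPS x.2⟩).symm
      have hφS : ∀ x : P, φ x ∈ S := by
        intro x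
        rw [hkey x (mem_img_of_mem (himg P hPS) (hPS x.2) x.2)]
        exact hκS _
      refine h.mem_of_rel' hPS φ hφS (himg P hPS) hφ' (fun x hx' => ?_)
      have e5 : (⟨φ x, hφS x⟩ : S) = ⟨κ ⟨φ' ⟨θ ⟨x, hPS x.2⟩, hx'⟩, hφ'S _⟩, hκS _⟩ :=
        Subtype.ext (hkey x hx')
      rw [e5, h2]

/-- An isomorphism along the inclusion is the identity. -/
theorem IsIso.hom_eq_of_id {F G : FusionSystem S} {θ : S →* Ω} (h : IsIso F θ G)
    (hθ : ∀ s : S, θ s = (s : Ω)) (P : Subgroup Ω) : G.Hom P = F.Hom P := by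
  have hpre : ∀ P : Subgroup Ω, P ≤ S → preimageAlong θ P = P := by
    intro P hP
    apply le_antisymm
    · intro x hx
      obtain ⟨hxS, hx'⟩ := (mem_preimageAlong_iff θ P x).mp hx
      rw [hθ] at hx'
      exact hx'
    · intro x hx
      refine (mem_preimageAlong_iff θ P x).mpr ⟨hP hx, ?_⟩
      rw [hθ]
      exact hx
  ext φ'
  rw [h.2.2.2]
  constructor
  · rintro ⟨hPS, φ, hφ, hind⟩
    refine hom_cast F (hpre P hPS) hφ (fun x h₁ h₂ => ?_)
    have hxS : x ∈ S := hPS h₂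
    have hφS := (F.le_of_mem hφ).2 ⟨x, h₁⟩
    have e1 := inducedAlong_apply hind ⟨x, h₁⟩ hxS (by rw [hθ]; exact h₂) hφS
    have e2 : φ' ⟨x, h₂⟩ = φ' ⟨θ ⟨x, hxS⟩, by rw [hθ]; exact h₂⟩ :=
      congrArg φ' (Subtype.ext (hθ ⟨x, hxS⟩).symm)
    rw [e2, e1, hθ]
  · intro hφ'
    have hPS : P ≤ S := (F.le_of_mem hφ').1
    have hφ'S := (F.le_of_mem hφ').2
    refine ⟨hPS, ?_⟩
    have hle : preimageAlong θ P ≤ P := le_of_eq (hpre P hPS)
    refine ⟨φ'.comp (Subgroup.inclusion hle), fs_restrict_mem F hφ' hle, preimageAlong_le θ P,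
      fun x => hφ'S _, fun x => apply_mem_of_mem_preimageAlong θ P x, fun x => ?_⟩
    refine Eq.trans ?_ (hθ _).symm
    show φ' ⟨θ ⟨x, _⟩, _⟩ = φ' (Subgroup.inclusion hle x)
    congr 1
    apply Subtype.ext
    exact hθ _

/-- Cancellation: if `F ≅ E₀` along `φ₀` and `F ≅ E` along `γ = η ∘ φ₀` then `E₀ ≅ E` along `η`. -/
theorem IsIso.cancel {Ω'' : Type*} [Group Ω''] {S'' : Subgroup Ω''} {F : FusionSystem S} {θ : S →* Ω'}
    {E : FusionSystem S'} (h : IsIso F θ E) {γ : S →* Ω''} {G : FusionSystem S''} (hG : IsIso F γ G)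
    (η : S' →* Ω'') (hη : ∀ s : S, η ⟨θ s, h.apply_mem s⟩ = γ s) : IsIso E η G := by
  obtain ⟨κ, hκ, h1, h2⟩ := h.exists_inv
  have h3 := hκ.comp hG
  refine h3.congr (fun y => ?_)
  show η y = γ ⟨κ y, hκ.apply_mem y⟩
  rw [← hη]
  congr 1
  apply Subtype.ext
  exact (h2 y _).symm

/-- Restricting `θ` to a subgroup does not change images. -/
theorem imageAlong_restrict {A B : Subgroup Ω} (hAB : A ≤ B) (θ : B →* Ω') (θA : A →* Ω')
    (hθA : ∀ a : A, θA a = θ ⟨a, hAB a.2⟩) {P : Subgroup Ω} (hP : P ≤ A) :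
    imageAlong θA P = imageAlong θ P := by
  apply le_antisymm
  · intro y hy
    obtain ⟨s, hs, rfl⟩ := (mem_imageAlong_iff θA P y).mp hy
    rw [hθA]
    exact apply_mem_imageAlong θ (hAB s.2) hs
  · intro y hy
    obtain ⟨s, hs, rfl⟩ := (mem_imageAlong_iff θ P y).mp hy
    have : θ s = θA ⟨s, hP hs⟩ := (hθA ⟨s, hP hs⟩).symm
    rw [this]
    exact apply_mem_imageAlong θA (hP hs) hs

/-- Monotonicity: images of a subsystem and of the system. -/
theorem iso_mono {A B : Subgroup Ω} {X : FusionSystem A} {Y : FusionSystem B} (hXY : X.IsSubsystemOf Y)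
    (hAB : A ≤ B) {A' B' : Subgroup Ω'} {X' : FusionSystem A'} {Y' : FusionSystem B'} {θ : B →* Ω'}
    (hY : IsIso Y θ Y') {θA : A →* Ω'} (hθA : ∀ a : A, θA a = θ ⟨a, hAB a.2⟩) (hX : IsIso X θA X') :
    X'.IsSubsystemOf Y' := by
  intro P' φ' hφ'
  obtain ⟨hP'A', φ, hφ, hind⟩ := (hX.2.2.2 P' φ').mp hφ'
  have hPA : preimageAlong θA P' ≤ A := preimageAlong_le θA P'
  have himg : imageAlong θ (preimageAlong θA P') = P' := by
    rw [← imageAlong_restrict hAB θ θA hθA hPA]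
    exact img_pre θA (by rw [hX.range]; exact hP'A')
  refine hY.mem_of_rel (hXY _ hφ) himg φ' (fun x hxS hx' hφS => ?_)
  have hxA : (x : Ω) ∈ A := hPA x.2
  have hφA := (X.le_of_mem hφ).2 x
  have e1 := inducedAlong_apply hind x hxA (apply_mem_of_mem_preimageAlong θA P' x) hφA
  have e2 : φ' ⟨θ ⟨x, hxS⟩, hx'⟩ = φ' ⟨θA ⟨x, hxA⟩, apply_mem_of_mem_preimageAlong θA P' x⟩ :=
    congrArg φ' (Subtype.ext (hθA ⟨x, hxA⟩).symm)
  rw [e2, e1, hθA]

end Cfsg.Agent.H9Iso
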