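import Mathlib
import Cfsg.Agent.Lib.Helper9.Iso3
import Cfsg.Agent.S5133

set_option autoImplicit false
open Cfsg Cfsg.FusionSystem Cfsg.Agent.Lib.Helper9

/-! Isomorphisms of fusion systems: automorphism groups, saturation, strongly closed subgroups. -/

namespace Cfsg.Agent.H9Iso

variable {Ω : Type*} [Group Ω] {S : Subgroup Ω} {Ω' : Type*} [Group Ω'] {S' : Subgroup Ω'}

theorem IsIso.aut_push [Finite S] {F : FusionSystem S} {θ : S →* Ω'} {E : FusionSystem S'} (h : IsIso F θ E)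
    {R : Subgroup Ω} (hRS : R ≤ S) {β : MulAut R} (hβ : β ∈ F.autGroup R) {R' : Subgroup Ω'}
    (hR' : imageAlong θ R = R') :
    ∃ b ∈ E.autGroup R', ∀ (x : R) (hx' : θ ⟨x, hRS x.2⟩ ∈ R'),
      ((b ⟨θ ⟨x, hRS x.2⟩, hx'⟩ : R') : Ω') = θ ⟨(β x : R), hRS (β x).2⟩ := by
  haveI := h.finite
  subst hR'
  obtain ⟨b, hb, H⟩ := exists_isInducedAut F E θ h.isMorphism hRS hβ
  exact ⟨b, hb, fun x _ => H x⟩

theorem IsIso.aut_pull [Finite S] {F : FusionSystem S} {θ : S →* Ω'} {E : FusionSystem S'} (h : IsIso F θ E)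
    {R : Subgroup Ω} (hRS : R ≤ S) {R' : Subgroup Ω'} (hR' : imageAlong θ R = R') {b : MulAut R'}
    (hb : b ∈ E.autGroup R') :
    ∃ β ∈ F.autGroup R, ∀ (x : R) (hx' : θ ⟨x, hRS x.2⟩ ∈ R'),
      ((b ⟨θ ⟨x, hRS x.2⟩, hx'⟩ : R') : Ω') = θ ⟨(β x : R), hRS (β x).2⟩ := by
  haveI := h.finite
  subst hR'
  obtain ⟨β, hβ⟩ := inducedAut_surjective F E θ h.isSurjectiveMorphism
    (isFull_of_injective h.injective hRS) ⟨b, hb⟩
  have h1 := inducedAut_spec F E θ h.isMorphism hRS β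
  have h2 : ((inducedAut F E θ h.isMorphism hRS β : E.autGroup _) : MulAut _) = b :=
    congrArg Subtype.val hβ
  rw [h2] at h1
  exact ⟨β, β.2, fun x _ => h1 x⟩

theorem IsIso.isPGroup {p : ℕ} (hS : IsPGroup p S) {F : FusionSystem S} {θ : S →* Ω'} {E : FusionSystem S'}
    (h : IsIso F θ E) : IsPGroup p S' := by
  rintro ⟨y, hy⟩
  have hy' : y ∈ θ.range := by rw [h.range]; exact hy
  obtain ⟨s, rfl⟩ := hy'
  obtain ⟨k, hk⟩ := hS s
  refine ⟨k, ?_⟩
  apply Subtype.ext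
  show (θ s) ^ p ^ k = 1
  rw [← map_pow, hk, map_one]

theorem IsIso.saturated [Finite S] (p : ℕ) [Fact p.Prime] (hS : IsPGroup p S) {F : FusionSystem S}
    {θ : S →* Ω'} {E : FusionSystem S'} (h : IsIso F θ E) (hF : F.IsSaturated p) : E.IsSaturated p :=
  Cfsg.Agent.S5133.result p hS F hF E θ h.isSurjectiveMorphism

theorem imageAlong_sup (θ : S →* Ω') {P Q : Subgroup Ω} (hP : P ≤ S) (hQ : Q ≤ S) :
    imageAlong θ (P ⊔ Q) = imageAlong θ P ⊔ imageAlong θ Q := by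
  unfold imageAlong
  rw [Subgroup.subgroupOf_sup hP hQ, Subgroup.map_sup]

theorem imageAlong_mono (θ : S →* Ω') {P Q : Subgroup Ω} (h : P ≤ Q) : imageAlong θ P ≤ imageAlong θ Q := by
  intro y hy
  obtain ⟨s, hs, rfl⟩ := (mem_imageAlong_iff θ P y).mp hy
  exact apply_mem_imageAlong θ s.2 (h hs)

theorem imageAlong_self (θ : S →* Ω') : imageAlong θ S = θ.range := by
  apply le_antisymm
  · intro y hy
    obtain ⟨s, -, rfl⟩ := (mem_imageAlong_iff θ S y).mp hy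
    exact ⟨s, rfl⟩
  · rintro _ ⟨s, rfl⟩
    exact apply_mem_imageAlong θ s.2 s.2

theorem imageAlong_centralizerIn {θ : S →* Ω'} (hinj : Function.Injective θ) (hrange : θ.range = S')
    {A : Subgroup Ω} (hA : A ≤ S) {A' : Subgroup Ω'} (hA' : imageAlong θ A = A') :
    imageAlong θ (centralizerIn S A) = centralizerIn S' A' := by
  apply le_antisymm
  · intro y hy
    obtain ⟨c, hc, rfl⟩ := (mem_imageAlong_iff θ _ y).mp hy
    refine Subgroup.mem_inf.mpr ⟨by rw [← hrange]; exact ⟨c, rfl⟩, ?_⟩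
    rw [Subgroup.mem_centralizer_iff]
    intro z hz
    obtain ⟨a, haS, haA, rfl⟩ := exists_of_mem_img hA' hz
    have hc2 : (c : Ω) ∈ Subgroup.centralizer (A : Set Ω) := (Subgroup.mem_inf.mp hc).2
    have h1 : a * (c : Ω) = (c : Ω) * a := (Subgroup.mem_centralizer_iff.mp hc2) a haA
    rw [← map_mul, ← map_mul]
    congr 1
    exact Subtype.ext h1
  · intro y hy
    have hyS' : y ∈ S' := (Subgroup.mem_inf.mp hy).1
    have hyc : y ∈ Subgroup.centralizer (A' : Set Ω') := (Subgroup.mem_inf.mp hy).2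
    have hy' : y ∈ θ.range := by rw [hrange]; exact hyS'
    obtain ⟨c, rfl⟩ := hy'
    refine apply_mem_imageAlong θ c.2 (Subgroup.mem_inf.mpr ⟨c.2, ?_⟩)
    rw [Subgroup.mem_centralizer_iff]
    intro a ha
    have h1 := (Subgroup.mem_centralizer_iff.mp hyc) (θ ⟨a, hA ha⟩) (mem_img_of_mem hA' (hA ha) ha)
    rw [← map_mul, ← map_mul] at h1
    have h2 := hinj h1
    exact congrArg (fun z : S => (z : Ω)) h2

section Sub

variable {A B : Subgroup Ω} {X : FusionSystem A} {Y : FusionSystem B} (hAB : A ≤ B)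
  {A' B' : Subgroup Ω'} {X' : FusionSystem A'} {Y' : FusionSystem B'} {θ : B →* Ω'} (hY : IsIso Y θ Y')
  {θA : A →* Ω'} (hθA : ∀ a : A, θA a = θ ⟨a, hAB a.2⟩) (hX : IsIso X θA X')

include hθA hX in
theorem img_sub : imageAlong θ A = A' := by
  rw [← imageAlong_restrict hAB θ θA hθA le_rfl, imageAlong_self]
  exact hX.range

include hθA hX hY in
theorem sub_le : A' ≤ B' := by
  rw [← img_sub hAB hθA hX]
  exact imageAlong_le_of_range θ hY.range A

include hY hθA hX in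
theorem stronglyClosed_push (hsc : Y.StronglyClosed A) : Y'.StronglyClosed A' := by
  have hA' := img_sub hAB hθA hX
  refine ⟨sub_le hAB hY hθA hX, fun R' hR' φ' hφ' x' => ?_⟩
  have hR'B' : R' ≤ θ.range := by rw [hY.range]; exact hR'.trans (sub_le hAB hY hθA hX)
  have hRB : preimageAlong θ R' ≤ B := preimageAlong_le θ R'
  have himg : imageAlong θ (preimageAlong θ R') = R' := img_pre θ hR'B'
  obtain ⟨φ, hφ, H⟩ := hY.pull hRB himg hφ'
  have hRA : preimageAlong θ R' ≤ A := by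
    intro x hx
    have hx' : θ ⟨x, hRB hx⟩ ∈ R' := apply_mem_of_mem_preimageAlong θ R' ⟨x, hx⟩
    exact mem_of_mem_img hY.injective hAB hA' (hRB hx) (hR' hx')
  obtain ⟨x, hxB, hxR, hx⟩ := exists_of_mem_img himg x'.2
  have h1 := hsc.2 _ hRA φ hφ ⟨x, hxR⟩
  have hφB := (Y.le_of_mem hφ).2 ⟨x, hxR⟩
  have h2 := H ⟨x, hxR⟩ hxB (by rw [hx]; exact x'.2) hφB
  have e : x' = ⟨θ ⟨x, hxB⟩, by rw [hx]; exact x'.2⟩ := Subtype.ext hx.symm
  rw [e, h2]
  exact mem_img_of_mem hA' hφB h1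

end Sub

end Cfsg.Agent.H9Iso
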