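import Mathlib
import Cfsg.Agent.Lib.Helper9.Iso4

set_option autoImplicit false
open Cfsg Cfsg.FusionSystem Cfsg.Agent.Lib.Helper9

/-! The image of a normal subsystem under an isomorphism is normal in the image. -/

namespace Cfsg.Agent.H9Iso

variable {Ω : Type*} [Group Ω] {Ω' : Type*} [Group Ω']

section Sub

variable {A B : Subgroup Ω} [Finite B] {X : FusionSystem A} {Y : FusionSystem B} (hAB : A ≤ B)
  {A' B' : Subgroup Ω'} {X' : FusionSystem A'} {Y' : FusionSystem B'} {θ : B →* Ω'} (hY : IsIso Y θ Y')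
  {θA : A →* Ω'} (hθA : ∀ a : A, θA a = θ ⟨a, hAB a.2⟩) (hX : IsIso X θA X')

include hY hθA hX in
theorem invariance_push
    (hinv : ∀ (P : Subgroup Ω) (hPT : P ≤ A) (φ : P →* Ω), φ ∈ X.Hom P → ∀ α ∈ Y.autGroup A,
      ∃ χ ∈ X.Hom ((P.subgroupOf A).map (A.subtype.comp α.toMonoidHom)),
        ∀ (x : P) (hφx : φ x ∈ A)
          (hαx : ((α ⟨x, hPT x.2⟩ : A) : Ω) ∈ (P.subgroupOf A).map (A.subtype.comp α.toMonoidHom)),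
          χ ⟨(α ⟨x, hPT x.2⟩ : A), hαx⟩ = ((α ⟨φ x, hφx⟩ : A) : Ω)) :
    ∀ (P' : Subgroup Ω') (hPT : P' ≤ A') (φ' : P' →* Ω'), φ' ∈ X'.Hom P' → ∀ α' ∈ Y'.autGroup A',
      ∃ χ' ∈ X'.Hom ((P'.subgroupOf A').map (A'.subtype.comp α'.toMonoidHom)),
        ∀ (x : P') (hφx : φ' x ∈ A')
          (hαx : ((α' ⟨x, hPT x.2⟩ : A') : Ω') ∈ (P'.subgroupOf A').map (A'.subtype.comp α'.toMonoidHom)),
          χ' ⟨(α' ⟨x, hPT x.2⟩ : A'), hαx⟩ = ((α' ⟨φ' x, hφx⟩ : A') : Ω') := by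
  intro P' hP'A' φ' hφ' a' ha'
  have hA' := img_sub hAB hθA hX
  have hPA : preimageAlong θA P' ≤ A := preimageAlong_le θA P'
  have hP : imageAlong θA (preimageAlong θA P') = P' := img_pre θA (by rw [hX.range]; exact hP'A')
  obtain ⟨φ, hφ, Hφ⟩ := hX.pull hPA hP hφ'
  obtain ⟨a, ha, Ha⟩ := hY.aut_pull hAB hA' ha'
  obtain ⟨χ, hχ, Hχ⟩ := hinv _ hPA φ hφ a ha
  have Ha' : ∀ (t : A) (h : θA t ∈ A'), ((a' ⟨θA t, h⟩ : A') : Ω') = θA (a t) := by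
    intro t h
    have e : (⟨θA t, h⟩ : A') = ⟨θ ⟨t, hAB t.2⟩, by rw [← hθA]; exact h⟩ := Subtype.ext (hθA t)
    rw [e, Ha t, ← hθA]
  have himg : imageAlong θA (((preimageAlong θA P').subgroupOf A).map (A.subtype.comp a.toMonoidHom)) =
      (P'.subgroupOf A').map (A'.subtype.comp a'.toMonoidHom) := by
    apply le_antisymm
    · intro y hy
      obtain ⟨s, hs, rfl⟩ := (mem_imageAlong_iff θA _ y).mp hy
      obtain ⟨t, ht, hts⟩ := hs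
      have hst : s = a t := Subtype.ext hts.symm
      have htP : (t : Ω) ∈ preimageAlong θA P' := ht
      have htP' : θA t ∈ P' := apply_mem_of_mem_preimageAlong θA P' ⟨t, htP⟩
      refine ⟨⟨θA t, hX.apply_mem t⟩, htP', ?_⟩
      show ((a' ⟨θA t, _⟩ : A') : Ω') = θA s
      rw [hst]
      exact Ha' t _
    · intro y hy
      obtain ⟨u, hu, rfl⟩ := hy
      have huP' : (u : Ω') ∈ P' := hu
      obtain ⟨x, hxA, hxP, hx⟩ := exists_of_mem_img hP huP'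
      have e : u = ⟨θA ⟨x, hxA⟩, hX.apply_mem _⟩ := Subtype.ext hx.symm
      show ((a' u : A') : Ω') ∈ _
      rw [e, Ha']
      exact apply_mem_imageAlong θA (a ⟨x, hxA⟩).2 ⟨⟨x, hxA⟩, hxP, rfl⟩
  obtain ⟨χ', hχ', Hχ'⟩ := hX.push hχ himg
  refine ⟨χ', hχ', fun x' hφx hαx => ?_⟩
  obtain ⟨x, hxA, hxP, hx⟩ := exists_of_mem_img hP x'.2
  have e1 : ((a' ⟨x', hP'A' x'.2⟩ : A') : Ω') = θA (a ⟨x, hxA⟩) := by
    have : (⟨x', hP'A' x'.2⟩ : A') = ⟨θA ⟨x, hxA⟩, hX.apply_mem _⟩ := Subtype.ext hx.symm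
    rw [this]
    exact Ha' _ _
  have hφA := (X.le_of_mem hφ).2 ⟨x, hxP⟩
  have e2 : φ' x' = θA ⟨φ ⟨x, hxP⟩, hφA⟩ := by
    have : x' = ⟨θA ⟨x, hxA⟩, by rw [hx]; exact x'.2⟩ := Subtype.ext hx.symm
    exact (congrArg φ' this).trans (Hφ ⟨x, hxP⟩ hxA _ hφA)
  have haxP : ((a ⟨x, hxA⟩ : A) : Ω) ∈
      ((preimageAlong θA P').subgroupOf A).map (A.subtype.comp a.toMonoidHom) := ⟨⟨x, hxA⟩, hxP, rfl⟩
  have e3 := Hχ ⟨x, hxP⟩ hφA haxP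
  have hχA := (X.le_of_mem hχ).2 ⟨_, haxP⟩
  have e4 := Hχ' ⟨_, haxP⟩ (a ⟨x, hxA⟩).2 (mem_img_of_mem himg _ haxP) hχA
  have e5 : (⟨((a' ⟨x', hP'A' x'.2⟩ : A') : Ω'), hαx⟩ :
      ↥((P'.subgroupOf A').map (A'.subtype.comp a'.toMonoidHom))) =
      ⟨θA ⟨(a ⟨x, hxA⟩ : A), (a ⟨x, hxA⟩).2⟩, mem_img_of_mem himg _ haxP⟩ := Subtype.ext e1
  rw [e5, e4]
  have e6 : (⟨φ' x', hφx⟩ : A') = ⟨θA ⟨φ ⟨x, hxP⟩, hφA⟩, hX.apply_mem _⟩ := Subtype.ext e2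
  rw [e6, Ha']
  congr 1
  exact Subtype.ext e3

include hY hθA hX in
theorem frattini_push
    (hfr : ∀ (P : Subgroup Ω), P ≤ A → ∀ (φ : P →* Ω), φ ∈ Y.Hom P →
      ∃ α ∈ Y.autGroup A, ∃ φ₀ ∈ X.Hom P, ∀ (x : P) (hx : φ₀ x ∈ A), φ x = ((α ⟨φ₀ x, hx⟩ : A) : Ω)) :
    ∀ (P' : Subgroup Ω'), P' ≤ A' → ∀ (φ' : P' →* Ω'), φ' ∈ Y'.Hom P' →
      ∃ α' ∈ Y'.autGroup A', ∃ φ₀' ∈ X'.Hom P', ∀ (x : P') (hx : φ₀' x ∈ A'),
        φ' x = ((α' ⟨φ₀' x, hx⟩ : A') : Ω') := by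
  intro P' hP'A' φ' hφ'
  have hA' := img_sub hAB hθA hX
  have hPA : preimageAlong θA P' ≤ A := preimageAlong_le θA P'
  have hP : imageAlong θA (preimageAlong θA P') = P' := img_pre θA (by rw [hX.range]; exact hP'A')
  have hPθ : imageAlong θ (preimageAlong θA P') = P' := by
    rw [← imageAlong_restrict hAB θ θA hθA hPA]
    exact hP
  obtain ⟨φ, hφ, Hφ⟩ := hY.pull (hPA.trans hAB) hPθ hφ'
  obtain ⟨a, ha, φ₀, hφ₀, H⟩ := hfr _ hPA φ hφ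
  obtain ⟨a', ha', Ha⟩ := hY.aut_push hAB ha hA'
  obtain ⟨φ₀', hφ₀', Hφ₀⟩ := hX.push hφ₀ hP
  refine ⟨a', ha', φ₀', hφ₀', fun x' hx => ?_⟩
  obtain ⟨x, hxA, hxP, hxx⟩ := exists_of_mem_img hP x'.2
  have hφ₀A := (X.le_of_mem hφ₀).2 ⟨x, hxP⟩
  have hφB := (Y.le_of_mem hφ).2 ⟨x, hxP⟩
  have hxx' : θ ⟨x, hAB hxA⟩ = x' := by rw [← hθA ⟨x, hxA⟩]; exact hxx
  have e0 : x' = ⟨θA ⟨x, hxA⟩, by rw [hxx]; exact x'.2⟩ := Subtype.ext hxx.symm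
  have e0' : x' = ⟨θ ⟨x, hAB hxA⟩, by rw [hxx']; exact x'.2⟩ := Subtype.ext hxx'.symm
  have e1 : φ' x' = θ ⟨φ ⟨x, hxP⟩, hφB⟩ := (congrArg φ' e0').trans (Hφ ⟨x, hxP⟩ (hAB hxA) _ hφB)
  have e2 : φ₀' x' = θA ⟨φ₀ ⟨x, hxP⟩, hφ₀A⟩ := (congrArg φ₀' e0).trans (Hφ₀ ⟨x, hxP⟩ hxA _ hφ₀A)
  have e3 := H ⟨x, hxP⟩ hφ₀A
  have e4 : (⟨φ₀' x', hx⟩ : A') = ⟨θ ⟨φ₀ ⟨x, hxP⟩, hAB hφ₀A⟩,
      mem_img_of_mem hA' (hAB hφ₀A) hφ₀A⟩ :=
    Subtype.ext (show φ₀' x' = θ ⟨φ₀ ⟨x, hxP⟩, hAB hφ₀A⟩ by rw [e2, hθA])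
  rw [e1, e4, Ha ⟨φ₀ ⟨x, hxP⟩, hφ₀A⟩]
  congr 1
  exact Subtype.ext e3

include hY hθA hX in
theorem extension_push
    (hext : ∀ α ∈ X.autGroup A, ∃ β ∈ Y.autGroup (A ⊔ centralizerIn B A),
      (∀ x : A, ((β (Subgroup.inclusion le_sup_left x) : ↥(A ⊔ centralizerIn B A)) : Ω) = ((α x : A) : Ω)) ∧
      ∀ c : ↥(A ⊔ centralizerIn B A), (c : Ω) ∈ centralizerIn B A →
        (c : Ω)⁻¹ * ((β c : ↥(A ⊔ centralizerIn B A)) : Ω) ∈ A ⊓ Subgroup.centralizer (A : Set Ω)) :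
    ∀ α' ∈ X'.autGroup A', ∃ β' ∈ Y'.autGroup (A' ⊔ centralizerIn B' A'),
      (∀ x : A', ((β' (Subgroup.inclusion le_sup_left x) : ↥(A' ⊔ centralizerIn B' A')) : Ω') =
        ((α' x : A') : Ω')) ∧
      ∀ c : ↥(A' ⊔ centralizerIn B' A'), (c : Ω') ∈ centralizerIn B' A' →
        (c : Ω')⁻¹ * ((β' c : ↥(A' ⊔ centralizerIn B' A')) : Ω') ∈
          A' ⊓ Subgroup.centralizer (A' : Set Ω') := by
  intro α' hα'
  haveI : Finite A := Finite.of_injective (Subgroup.inclusion hAB) (Subgroup.inclusion_injective hAB)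
  have hA' := img_sub hAB hθA hX
  have hA'A : imageAlong θA A = A' := by rw [imageAlong_self]; exact hX.range
  obtain ⟨α, hα, Hα⟩ := hX.aut_pull le_rfl hA'A hα'
  obtain ⟨β, hβ, Hβ1, Hβ2⟩ := hext α hα
  have hCB : centralizerIn B A ≤ B := inf_le_left
  have hWB : A ⊔ centralizerIn B A ≤ B := sup_le hAB hCB
  have hC' : imageAlong θ (centralizerIn B A) = centralizerIn B' A' :=
    imageAlong_centralizerIn hY.injective hY.range hAB hA'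
  have hW : imageAlong θ (A ⊔ centralizerIn B A) = A' ⊔ centralizerIn B' A' := by
    rw [imageAlong_sup θ hAB hCB, hA', hC']
  obtain ⟨β', hβ', Hβ'⟩ := hY.aut_push hWB hβ hW
  refine ⟨β', hβ', fun x' => ?_, fun c' hc' => ?_⟩
  · obtain ⟨x, hxB, hxA, hxx⟩ := exists_of_mem_img hA' x'.2
    have hxW : x ∈ A ⊔ centralizerIn B A := (le_sup_left : A ≤ _) hxA
    have e1 : (Subgroup.inclusion le_sup_left x' : ↥(A' ⊔ centralizerIn B' A')) =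
        ⟨θ ⟨x, hWB hxW⟩, mem_img_of_mem hW _ hxW⟩ := Subtype.ext hxx.symm
    rw [e1, Hβ' ⟨x, hxW⟩]
    have e2 : ((β ⟨x, hxW⟩ : ↥(A ⊔ centralizerIn B A)) : Ω) = ((α ⟨x, hxA⟩ : A) : Ω) := Hβ1 ⟨x, hxA⟩
    have e3 : x' = ⟨θA ⟨x, hxA⟩, hX.apply_mem _⟩ := Subtype.ext (show (x' : Ω') = θA ⟨x, hxA⟩ by rw [hθA]; exact hxx.symm)
    rw [e3, Hα ⟨x, hxA⟩, hθA]
    congr 1
    exact Subtype.ext e2
  · obtain ⟨c, hcB, hcW, hcc⟩ := exists_of_mem_img hW c'.2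
    have hcC : c ∈ centralizerIn B A :=
      mem_of_mem_img hY.injective hCB hC' hcB (by rw [hcc]; exact hc')
    have h1 := Hβ2 ⟨c, hcW⟩ hcC
    have e1 : c' = ⟨θ ⟨c, hcB⟩, by rw [hcc]; exact c'.2⟩ := Subtype.ext hcc.symm
    have hβB : ((β ⟨c, hcW⟩ : ↥(A ⊔ centralizerIn B A)) : Ω) ∈ B := hWB (β ⟨c, hcW⟩).2
    have e2 : ((β' c' : ↥(A' ⊔ centralizerIn B' A')) : Ω') = θ ⟨β ⟨c, hcW⟩, hβB⟩ := by
      rw [e1]
      exact Hβ' ⟨c, hcW⟩ _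
    rw [e2, ← hcc, ← map_inv, ← map_mul]
    have h2 : (((⟨c, hcB⟩ : B)⁻¹ * ⟨β ⟨c, hcW⟩, hβB⟩ : B) : Ω) ∈
        A ⊓ Subgroup.centralizer (A : Set Ω) := h1
    refine Subgroup.mem_inf.mpr ⟨mem_img_of_mem hA' (Subtype.prop _) (Subgroup.mem_inf.mp h2).1, ?_⟩
    rw [Subgroup.mem_centralizer_iff]
    intro z hz
    obtain ⟨a, haB, haA, rfl⟩ := exists_of_mem_img hA' hz
    rw [← map_mul, ← map_mul]
    congr 1
    apply Subtype.ext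
    exact (Subgroup.mem_centralizer_iff.mp (Subgroup.mem_inf.mp h2).2) a haA

include hY hθA hX in
/-- The image of a normal subsystem is normal in the image. -/
theorem normalIn_push (p : ℕ) [Fact p.Prime] (hB : IsPGroup p B) (hXY : X.IsNormalIn Y p) :
    X'.IsNormalIn Y' p := by
  obtain ⟨⟨hXs, hYs, hsub, hsc, hinv, hfr⟩, hext⟩ := hXY
  haveI : Finite A := Finite.of_injective (Subgroup.inclusion hAB) (Subgroup.inclusion_injective hAB)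
  have hA : IsPGroup p A := hB.to_le hAB
  exact ⟨⟨hX.saturated p hA hXs, hY.saturated p hB hYs, iso_mono hsub hAB hY hθA hX,
    stronglyClosed_push hAB hY hθA hX hsc, invariance_push hAB hY hθA hX hinv,
    frattini_push hAB hY hθA hX hfr⟩, extension_push hAB hY hθA hX hext⟩

end Sub

end Cfsg.Agent.H9Iso
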