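import Mathlib
import Cfsg.Agent.Lib.Helper9.Iso5
import Cfsg.Agent.Lib.Helper9.Grun1
import Cfsg.Agent.S5132
import Cfsg.Agent.S5134
import Cfsg.Agent.S5144
import Cfsg.Agent.S5256

set_option autoImplicit false
open Cfsg Cfsg.FusionSystem Cfsg.Agent.Lib.Helper9

/-! Isomorphisms of fusion systems: the centre, uniqueness of factor systems, simple and quasisimple systems. -/

namespace Cfsg.Agent.H9Iso

variable {Ω : Type*} [Group Ω] {S : Subgroup Ω} {Ω' : Type*} [Group Ω'] {S' : Subgroup Ω'}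

theorem isCentral_push {F : FusionSystem S} {θ : S →* Ω'} {E : FusionSystem S'} (h : IsIso F θ E)
    {Q : Subgroup Ω} (hQ : F.IsCentral Q) {Q' : Subgroup Ω'} (hQ' : imageAlong θ Q = Q') :
    E.IsCentral Q' := by
  have hQS : Q ≤ S := hQ.1
  refine ⟨by rw [← hQ']; exact imageAlong_le_of_range θ h.range Q, fun P' φ' hφ' => ?_⟩
  have hP'S' : P' ≤ S' := (E.le_of_mem hφ').1
  have hPS : preimageAlong θ P' ≤ S := preimageAlong_le θ P'
  have hP : imageAlong θ (preimageAlong θ P') = P' := img_pre θ (by rw [h.range]; exact hP'S')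
  obtain ⟨φ, hφ, Hφ⟩ := h.pull hPS hP hφ'
  obtain ⟨ψ, hψ, Hψ1, Hψ2⟩ := hQ.2 _ φ hφ
  have hPQ : imageAlong θ (preimageAlong θ P' ⊔ Q) = P' ⊔ Q' := by
    rw [imageAlong_sup θ hPS hQS, hP, hQ']
  have hPQS : preimageAlong θ P' ⊔ Q ≤ S := sup_le hPS hQS
  obtain ⟨ψ', hψ', Hψ'⟩ := h.push hψ hPQ
  have hψS := (F.le_of_mem hψ).2
  refine ⟨ψ', hψ', fun x' => ?_, fun q' => ?_⟩
  · obtain ⟨x, hxS, hxP, hxx⟩ := exists_of_mem_img hP x'.2
    have hxPQ : x ∈ preimageAlong θ P' ⊔ Q := (le_sup_left : preimageAlong θ P' ≤ _) hxP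
    have e1 : (Subgroup.inclusion le_sup_left x' : ↥(P' ⊔ Q')) =
        ⟨θ ⟨x, hxS⟩, mem_img_of_mem hPQ hxS hxPQ⟩ := Subtype.ext hxx.symm
    rw [e1, Hψ' ⟨x, hxPQ⟩ hxS _ (hψS _)]
    have e2 : ψ ⟨x, hxPQ⟩ = φ ⟨x, hxP⟩ := Hψ1 ⟨x, hxP⟩
    have hφS := (F.le_of_mem hφ).2 ⟨x, hxP⟩
    have e3 : x' = ⟨θ ⟨x, hxS⟩, by rw [hxx]; exact x'.2⟩ := Subtype.ext hxx.symm
    have e4 : φ' x' = θ ⟨φ ⟨x, hxP⟩, hφS⟩ := (congrArg φ' e3).trans (Hφ ⟨x, hxP⟩ hxS _ hφS)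
    rw [e4]
    congr 1
    exact Subtype.ext e2
  · obtain ⟨q, hqS, hqQ, hqq⟩ := exists_of_mem_img hQ' q'.2
    have hqPQ : q ∈ preimageAlong θ P' ⊔ Q := (le_sup_right : Q ≤ _) hqQ
    have e1 : (Subgroup.inclusion le_sup_right q' : ↥(P' ⊔ Q')) =
        ⟨θ ⟨q, hqS⟩, mem_img_of_mem hPQ hqS hqPQ⟩ := Subtype.ext hqq.symm
    rw [e1, Hψ' ⟨q, hqPQ⟩ hqS _ (hψS _)]
    have e2 : ψ ⟨q, hqPQ⟩ = q := Hψ2 ⟨q, hqQ⟩
    rw [← hqq]
    congr 1
    exact Subtype.ext e2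

theorem center_pre [Finite S] {F : FusionSystem S} {θ : S →* Ω'} {E : FusionSystem S'} (h : IsIso F θ E) :
    preimageAlong θ E.center = F.center := by
  haveI := h.finite
  have hZF : F.IsCentral F.center := Cfsg.Agent.S5144.result F
  have hZE : E.IsCentral E.center := Cfsg.Agent.S5144.result E
  apply le_antisymm
  · obtain ⟨κ, hκ, h1, h2⟩ := h.exists_inv
    have hc : F.IsCentral (imageAlong κ E.center) := isCentral_push hκ hZE rfl
    have hle : imageAlong κ E.center ≤ F.center := le_sSup hc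
    intro x hx
    obtain ⟨hxS, hx'⟩ := (mem_preimageAlong_iff θ _ x).mp hx
    apply hle
    have := apply_mem_imageAlong κ (h.apply_mem ⟨x, hxS⟩) hx'
    rw [h1] at this
    exact this
  · have hc : E.IsCentral (imageAlong θ F.center) := isCentral_push h hZF rfl
    have hle : imageAlong θ F.center ≤ E.center := le_sSup hc
    intro x hx
    have hxS : x ∈ S := hZF.1 hx
    exact (mem_preimageAlong_iff θ _ x).mpr ⟨hxS, hle (apply_mem_imageAlong θ hxS hx)⟩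

theorem stronglyClosed_bot (F : FusionSystem S) : F.StronglyClosed ⊥ := by
  refine ⟨bot_le, fun R hR φ _ x => ?_⟩
  have hx : x = 1 := Subtype.ext (Subgroup.mem_bot.mp (hR x.2))
  rw [hx, map_one]
  exact Subgroup.one_mem _

theorem finite_of_range [Finite S] (θ : S →* Ω') (hr : θ.range = S') : Finite S' := by
  rw [← hr]
  exact Finite.of_surjective (fun s : S => (⟨θ s, ⟨s, rfl⟩⟩ : θ.range))
    (by rintro ⟨_, s, rfl⟩; exact ⟨s, rfl⟩)

theorem isPGroup_of_range {p : ℕ} (hS : IsPGroup p S) (θ : S →* Ω') (hr : θ.range = S') : IsPGroup p S' := by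
  rintro ⟨y, hy⟩
  have hy' : y ∈ θ.range := by rw [hr]; exact hy
  obtain ⟨s, rfl⟩ := hy'
  obtain ⟨k, hk⟩ := hS s
  refine ⟨k, ?_⟩
  apply Subtype.ext
  show (θ s) ^ p ^ k = 1
  rw [← map_pow, hk, map_one]

/-- Two factor systems of the same system modulo the same subgroup are isomorphic. -/
theorem factor_unique [Finite S] (p : ℕ) [Fact p.Prime] (hS : IsPGroup p S) (F : FusionSystem S)
    (hF : F.IsSaturated p) {Z : Subgroup Ω} (hZ : F.StronglyClosed Z) {Ω₁ : Type*} [Group Ω₁] {Ω₂ : Type*}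
    [Group Ω₂] {S₁ : Subgroup Ω₁} {S₂ : Subgroup Ω₂} {η₁ : S →* Ω₁} {η₂ : S →* Ω₂} {G₁ : FusionSystem S₁}
    {G₂ : FusionSystem S₂} (h₁ : F.IsFactorSystem Z η₁ G₁) (h₂ : F.IsFactorSystem Z η₂ G₂) :
    ∃ ι : S₁ →* Ω₂, IsIso G₁ ι G₂ := by
  have hm₁ : F.IsSurjectiveMorphism G₁ η₁ := Cfsg.Agent.S5134.result p hS F hF Z hZ η₁ G₁ h₁
  obtain ⟨hZS, hker₁, hrange₁, hhom₁⟩ := h₁
  obtain ⟨-, hker₂, hrange₂, hhom₂⟩ := h₂
  have hη₁S : ∀ s, η₁ s ∈ S₁ := fun s => hrange₁ ▸ ⟨s, rfl⟩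
  let f : S →* S₁ := η₁.codRestrict S₁ hη₁S
  have hfa : ∀ s : S, f s = ⟨η₁ s, hη₁S s⟩ := fun s => rfl
  have hf : Function.Surjective f := by
    rintro ⟨y, hy⟩
    have hy' : y ∈ η₁.range := by rw [hrange₁]; exact hy
    obtain ⟨s, rfl⟩ := hy'
    exact ⟨s, rfl⟩
  have hkk : f.ker ≤ η₂.ker := by
    intro s hs
    rw [MonoidHom.mem_ker] at hs ⊢
    have h1 : η₁ s = 1 := congrArg Subtype.val hs
    exact (hker₂ s).mpr ((hker₁ s).mp h1)
  let ι : S₁ →* Ω₂ :=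
    f.liftOfRightInverse (Function.surjInv hf) (Function.rightInverse_surjInv hf) ⟨η₂, hkk⟩
  have hι : ∀ s : S, ι ⟨η₁ s, hη₁S s⟩ = η₂ s := fun s =>
    MonoidHom.liftOfRightInverse_comp_apply f _ (Function.rightInverse_surjInv hf) ⟨η₂, hkk⟩ s
  refine ⟨ι, bot_le, fun y => ?_, ?_, fun P₂ φ₂ => ?_⟩
  · obtain ⟨s, rfl⟩ := hf y
    rw [hfa, hι, Subgroup.mem_bot, hker₂]
    show (s : Ω) ∈ Z ↔ η₁ s = 1
    rw [hker₁]
  · apply le_antisymm
    · rintro _ ⟨y, rfl⟩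
      obtain ⟨s, rfl⟩ := hf y
      rw [hfa, hι, ← hrange₂]
      exact ⟨s, rfl⟩
    · intro z hz
      rw [← hrange₂] at hz
      obtain ⟨s, rfl⟩ := hz
      exact ⟨⟨η₁ s, hη₁S s⟩, hι s⟩
  · rw [hhom₂ P₂ φ₂]
    have hpre : preimageAlong η₁ (preimageAlong ι P₂) = preimageAlong η₂ P₂ := by
      ext x
      rw [mem_preimageAlong_iff, mem_preimageAlong_iff]
      constructor
      · rintro ⟨hxS, hx⟩
        obtain ⟨hx1, hx2⟩ := (mem_preimageAlong_iff ι P₂ _).mp hx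
        refine ⟨hxS, ?_⟩
        rw [← hι]
        exact hx2
      · rintro ⟨hxS, hx⟩
        refine ⟨hxS, (mem_preimageAlong_iff ι P₂ _).mpr ⟨hη₁S _, ?_⟩⟩
        rw [hι]
        exact hx
    constructor
    · rintro ⟨hP₂, φ, hφ, hind⟩
      refine ⟨hP₂, ?_⟩
      obtain ⟨φ₁, hφ₁, H₁⟩ := morph_push F G₁ η₁ hm₁.1 hφ
      have himg : imageAlong η₁ (preimageAlong η₂ P₂) = preimageAlong ι P₂ := by
        rw [← hpre]
        exact img_pre η₁ (by rw [hrange₁]; exact preimageAlong_le ι P₂)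
      have hle : preimageAlong ι P₂ ≤ imageAlong η₁ (preimageAlong η₂ P₂) := le_of_eq himg.symm
      refine ⟨φ₁.comp (Subgroup.inclusion hle), fs_restrict_mem G₁ hφ₁ hle, preimageAlong_le ι P₂,
        fun y => (G₁.le_of_mem hφ₁).2 _, fun y => apply_mem_of_mem_preimageAlong ι P₂ y, fun y => ?_⟩
      obtain ⟨x, hxS, hxP, hxy⟩ := exists_of_mem_img himg y.2
      have hφS := (F.le_of_mem hφ).2 ⟨x, hxP⟩
      have e1 := H₁ ⟨x, hxP⟩ hxS (apply_mem_imageAlong η₁ hxS hxP) hφS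
      have e2 := inducedAlong_apply hind ⟨x, hxP⟩ hxS
        (apply_mem_of_mem_preimageAlong η₂ P₂ ⟨x, hxP⟩) hφS
      have ey : (⟨(y : Ω₁), preimageAlong_le ι P₂ y.2⟩ : S₁) = ⟨η₁ ⟨x, hxS⟩, hη₁S _⟩ :=
        Subtype.ext hxy.symm
      have e3 : (⟨ι ⟨y, preimageAlong_le ι P₂ y.2⟩, apply_mem_of_mem_preimageAlong ι P₂ y⟩ : P₂) =
          ⟨η₂ ⟨x, hxS⟩, apply_mem_of_mem_preimageAlong η₂ P₂ ⟨x, hxP⟩⟩ :=
        Subtype.ext (show ι ⟨y, preimageAlong_le ι P₂ y.2⟩ = η₂ ⟨x, hxS⟩ by rw [ey, hι])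
      rw [e3, e2, ← hι]
      congr 1
      apply Subtype.ext
      show η₁ ⟨φ ⟨x, hxP⟩, hφS⟩ = φ₁ (Subgroup.inclusion hle y)
      rw [← e1]
      congr 1
      exact Subtype.ext hxy
    · rintro ⟨hP₂, φ₁, hφ₁, hind⟩
      refine ⟨hP₂, ?_⟩
      obtain ⟨-, φ, hφ, hind₁⟩ := (hhom₁ _ φ₁).mp hφ₁
      have hle : preimageAlong η₂ P₂ ≤ preimageAlong η₁ (preimageAlong ι P₂) := le_of_eq hpre.symm
      refine ⟨φ.comp (Subgroup.inclusion hle), fs_restrict_mem F hφ hle, preimageAlong_le η₂ P₂,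
        fun x => (F.le_of_mem hφ).2 _, fun x => apply_mem_of_mem_preimageAlong η₂ P₂ x, fun x => ?_⟩
      have hxS := preimageAlong_le η₂ P₂ x.2
      have hx1 : (x : Ω) ∈ preimageAlong η₁ (preimageAlong ι P₂) := hle x.2
      have hφS := (F.le_of_mem hφ).2 ⟨x, hx1⟩
      have hy : η₁ ⟨x, hxS⟩ ∈ preimageAlong ι P₂ := apply_mem_of_mem_preimageAlong η₁ _ ⟨x, hx1⟩
      have e1 := inducedAlong_apply hind₁ ⟨x, hx1⟩ hxS hy hφS
      have hφ₁S := (G₁.le_of_mem hφ₁).2 ⟨η₁ ⟨x, hxS⟩, hy⟩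
      have e2 := inducedAlong_apply hind ⟨η₁ ⟨x, hxS⟩, hy⟩ (hη₁S _)
        (apply_mem_of_mem_preimageAlong ι P₂ _) hφ₁S
      have e3 : (⟨η₂ ⟨x, hxS⟩, apply_mem_of_mem_preimageAlong η₂ P₂ x⟩ : P₂) =
          ⟨ι ⟨η₁ ⟨x, hxS⟩, hη₁S _⟩, apply_mem_of_mem_preimageAlong ι P₂ ⟨_, hy⟩⟩ :=
        Subtype.ext (hι _).symm
      rw [e3, e2]
      have e4 : (⟨φ₁ ⟨η₁ ⟨x, hxS⟩, hy⟩, hφ₁S⟩ : S₁) = ⟨η₁ ⟨φ ⟨x, hx1⟩, hφS⟩, hη₁S _⟩ := Subtype.ext e1
      rw [e4, hι]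
      rfl

theorem le_of_isSubsystemOf {T : Subgroup Ω} {E : FusionSystem T} {F : FusionSystem S}
    (h : E.IsSubsystemOf F) : T ≤ S :=
  (F.le_of_mem (h _ (fs_subtype_mem E le_rfl))).1

/-- The image of a simple system is simple. -/
theorem IsIso.simple [Finite S] (p : ℕ) [Fact p.Prime] (hS : IsPGroup p S) {F : FusionSystem S}
    {θ : S →* Ω'} {E : FusionSystem S'} (h : IsIso F θ E) (hF : F.IsSimple p) : E.IsSimple p := by
  obtain ⟨hFs, hSne, hmin⟩ := hF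
  haveI := h.finite
  have hS' := h.isPGroup hS
  refine ⟨h.saturated p hS hFs, ?_, fun T' D' hD' => ?_⟩
  · intro hbot
    apply hSne
    rw [eq_bot_iff]
    intro s hs
    have h1 : θ ⟨s, hs⟩ ∈ S' := h.apply_mem _
    rw [hbot, Subgroup.mem_bot] at h1
    have h2 : (⟨s, hs⟩ : S) = 1 := h.injective (by rw [h1, map_one])
    rw [Subgroup.mem_bot]
    exact congrArg (fun z : S => (z : Ω)) h2
  · obtain ⟨κ, hκ, h1, h2⟩ := h.exists_inv
    have hT'S' : T' ≤ S' := le_of_isSubsystemOf hD'.1.2.2.1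
    let κT : T' →* Ω := κ.comp (Subgroup.inclusion hT'S')
    have hκTa : ∀ t : T', κT t = κ ⟨t, hT'S' t.2⟩ := fun t => rfl
    have hinj : Function.Injective κT := by
      intro a b hab
      have := hκ.injective hab
      exact Subtype.ext (congrArg (fun z : S' => (z : Ω')) this)
    have hD := pushSys_isIso D' κT hinj
    have hDn : (pushSys D' κT hinj).IsNormalIn F p :=
      normalIn_push hT'S' hκ hκTa hD p hS' hD'
    rcases hmin _ _ hDn with hbot | ⟨htop, hhom⟩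
    · left
      rw [eq_bot_iff]
      intro t ht
      have h3 : κT ⟨t, ht⟩ ∈ κT.range := ⟨_, rfl⟩
      rw [hbot, Subgroup.mem_bot] at h3
      have h4 : (⟨t, ht⟩ : T') = 1 := hinj (by rw [h3, map_one])
      rw [Subgroup.mem_bot]
      exact congrArg (fun z : T' => (z : Ω')) h4
    · right
      have hTS : T' = S' := by
        apply le_antisymm hT'S'
        intro y hy
        have h3 : κ ⟨y, hy⟩ ∈ κT.range := by rw [htop]; exact hκ.apply_mem _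
        obtain ⟨t, ht⟩ := h3
        have h4 := hκ.injective ht
        have h5 : (t : Ω') = y := congrArg (fun z : S' => (z : Ω')) h4
        rw [← h5]
        exact t.2
      refine ⟨hTS, fun P' => ?_⟩
      apply Set.Subset.antisymm (hD'.1.2.2.1 P')
      obtain ⟨l, hl, l1, l2⟩ := hD.exists_inv
      have hSr : S ≤ κT.range := le_of_eq htop.symm
      have hFD : F.IsSubsystemOf (pushSys D' κT hinj) := by
        intro P
        rw [hhom P]
      have hθl : ∀ s : S, θ s = l ⟨s, hSr s.2⟩ := by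
        intro s
        obtain ⟨t, ht⟩ := hSr s.2
        have e1 : (⟨(s : Ω), hSr s.2⟩ : κT.range) = ⟨κT t, hD.apply_mem t⟩ := Subtype.ext ht.symm
        rw [e1, l1]
        have e2 : s = ⟨κ ⟨t, hT'S' t.2⟩, hκ.apply_mem _⟩ := Subtype.ext ht.symm
        rw [e2, h2]
      exact iso_mono hFD hSr hl hθl h P'

/-- The image of a quasisimple system is quasisimple. -/
theorem IsIso.quasisimple [Finite S] (p : ℕ) [Fact p.Prime] (hS : IsPGroup p S) {F : FusionSystem S}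
    {θ : S →* Ω'} {E : FusionSystem S'} (h : IsIso F θ E) (hF : F.Quasisimple p) : E.Quasisimple p := by
  obtain ⟨hFs, hhyp, hq⟩ := hF
  refine ⟨h.saturated p hS hFs, ?_, fun E' hE' => ?_⟩
  · have h1 := Cfsg.Agent.S5256.result p hS F hFs ⊥ (stronglyClosed_bot F) θ E h
    rw [h1, hhyp]
    have : ((S : Subgroup Ω).subgroupOf S).map θ = imageAlong θ S := rfl
    rw [this, imageAlong_self]
    exact h.range
  · have hc := h.comp_factor hE'
    rw [center_pre h] at hc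
    have hZsc : F.StronglyClosed F.center := stronglyClosed_of_isCentral F (Cfsg.Agent.S5144.result F)
    obtain ⟨C', hC'⟩ := Cfsg.Agent.S5132.result p hS F F.center hZsc
    have hC's := hq C' hC'
    obtain ⟨ι, hι⟩ := factor_unique p hS F hFs hZsc hC' hc
    haveI := finite_of_range _ hC'.2.2.1
    exact hι.simple p (isPGroup_of_range hS _ hC'.2.2.1) hC's

end Cfsg.Agent.H9Iso
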