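import Mathlib
import Cfsg.Agent.Lib.Helper9.Iso6

set_option autoImplicit false
open Cfsg Cfsg.FusionSystem Cfsg.Agent.Lib.Helper9

/-! Isomorphisms of fusion systems: subnormal subsystems; self-isomorphisms. -/

namespace Cfsg.Agent.H9Iso

variable {Ω : Type*} [Group Ω] {Ω' : Type*} [Group Ω']

theorem le_of_subnormal' {T S : Subgroup Ω} {E : FusionSystem T} {F : FusionSystem S} {p : ℕ}
    (hE : E.IsSubnormalIn F p) : T ≤ S := by
  induction hE with
  | refl F p => exact le_rfl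
  | step _ hD ih => exact ih.trans (le_of_isSubsystemOf hD.1.2.2.1)

theorem saturated_of_subnormal {T S : Subgroup Ω} {E : FusionSystem T} {F : FusionSystem S} {p : ℕ}
    (hE : E.IsSubnormalIn F p) (hF : F.IsSaturated p) : E.IsSaturated p := by
  induction hE with
  | refl F p => exact hF
  | step _ hD ih => exact ih hD.1.1

theorem subnormal_of_iso_eq {S : Subgroup Ω} {F : FusionSystem S} {θ : S →* Ω'} {S₁ S₂ : Subgroup Ω'}
    {E₁ : FusionSystem S₁} {E₂ : FusionSystem S₂} (h₁ : IsIso F θ E₁) (h₂ : IsIso F θ E₂) (p : ℕ) :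
    E₁.IsSubnormalIn E₂ p := by
  have h : S₁ = S₂ := h₁.range.symm.trans h₂.range
  subst h
  have : E₁ = E₂ := fs_ext (fun P => IsIso.hom_eq h₁ h₂ P)
  rw [this]
  exact IsSubnormalIn.refl _ _

theorem subnormal_push_step {T U S : Subgroup Ω} {E : FusionSystem T} {D : FusionSystem U}
    {F : FusionSystem S} {p : ℕ} (hED : E.IsSubnormalIn D p) (hDF : D.IsNormalIn F p)
    (ih : ∀ [Finite U] [Fact p.Prime] (_ : IsPGroup p U) (hAB : T ≤ U) {A' B' : Subgroup Ω'}
      {X' : FusionSystem A'} {Y' : FusionSystem B'} {θ : U →* Ω'} (_ : IsIso D θ Y') {θA : T →* Ω'}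
      (_ : ∀ a : T, θA a = θ ⟨a, hAB a.2⟩) (_ : IsIso E θA X'), X'.IsSubnormalIn Y' p)
    [Finite S] [Fact p.Prime] (hB : IsPGroup p S) (hAB : T ≤ S) {A' B' : Subgroup Ω'}
    {X' : FusionSystem A'} {Y' : FusionSystem B'} {θ : S →* Ω'} (hY : IsIso F θ Y') {θA : T →* Ω'}
    (hθA : ∀ a : T, θA a = θ ⟨a, hAB a.2⟩) (hX : IsIso E θA X') : X'.IsSubnormalIn Y' p := by
  have hUS : U ≤ S := le_of_isSubsystemOf hDF.1.2.2.1
  have hTU : T ≤ U := le_of_subnormal' hED
  haveI : Finite U := Finite.of_injective (Subgroup.inclusion hUS) (Subgroup.inclusion_injective hUS)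
  let θU : U →* Ω' := θ.comp (Subgroup.inclusion hUS)
  have hinj : Function.Injective θU := by
    intro a b hab
    have := hY.injective hab
    exact Subtype.ext (congrArg (fun z : S => (z : Ω)) this)
  have hD' := pushSys_isIso D θU hinj
  have h1 := ih (hB.to_le hUS) hTU hD' (fun a => hθA a) hX
  have h2 := normalIn_push hUS hY (fun a => rfl) hD' p hB hDF
  exact IsSubnormalIn.step h1 h2

/-- The image of a subnormal subsystem is subnormal in the image. -/
theorem subnormal_push {A B : Subgroup Ω} {X : FusionSystem A} {Y : FusionSystem B} {p : ℕ}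
    (hsub : X.IsSubnormalIn Y p) :
    ∀ [Finite B] [Fact p.Prime] (_ : IsPGroup p B) (hAB : A ≤ B) {A' B' : Subgroup Ω'}
      {X' : FusionSystem A'} {Y' : FusionSystem B'} {θ : B →* Ω'} (_ : IsIso Y θ Y') {θA : A →* Ω'}
      (_ : ∀ a : A, θA a = θ ⟨a, hAB a.2⟩) (_ : IsIso X θA X'), X'.IsSubnormalIn Y' p := by
  induction hsub with
  | refl F p =>
    intro _ _ hB hAB A' B' X' Y' θ hY θA hθA hX
    have : θA = θ := MonoidHom.ext (fun a => hθA a)
    subst this
    exact subnormal_of_iso_eq hX hY p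
  | step hED hDF ih =>
    intro _ _ hB hAB A' B' X' Y' θ hY θA hθA hX
    exact subnormal_push_step hED hDF ih hB hAB hY hθA hX

/-- A map of `F` defined on all of `S` carries `F` to itself. -/
theorem iso_self_of_mem {S : Subgroup Ω} [Finite S] (F : FusionSystem S) {γ : S →* Ω} (hγ : γ ∈ F.Hom S) :
    IsIso F γ F := by
  have hinj := F.injective_of_mem hγ
  have hγS : ∀ s, γ s ∈ S := (F.le_of_mem hγ).2
  have hrange : γ.range = S := by
    apply le_antisymm
    · rintro _ ⟨s, rfl⟩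
      exact hγS s
    · intro y hy
      let g : S → S := fun s => ⟨γ s, hγS s⟩
      have hg : Function.Injective g := fun a b hab => hinj (congrArg Subtype.val hab)
      obtain ⟨s, hs⟩ := Finite.surjective_of_injective hg ⟨y, hy⟩
      exact ⟨s, congrArg Subtype.val hs⟩
  obtain ⟨ψ, hψ, Hψ⟩ := F.inv_mem hγ
  have hψS : ∀ y : γ.range, ψ y ∈ S := (F.le_of_mem hψ).2
  have hγψ : ∀ y : γ.range, γ ⟨ψ y, hψS y⟩ = y := by
    rintro ⟨_, z, rfl⟩
    have := Hψ z
    show γ ⟨ψ ⟨γ z, _⟩, _⟩ = γ z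
    congr 1
    exact Subtype.ext this
  refine ⟨bot_le, fun s => ?_, hrange, fun P' φ' => ?_⟩
  · rw [Subgroup.mem_bot]
    constructor
    · intro h
      have : s = 1 := hinj (by rw [h, map_one])
      rw [this]
      rfl
    · intro h
      have : s = 1 := Subtype.ext h
      rw [this, map_one]
  · constructor
    · intro hφ'
      have hP'S := (F.le_of_mem hφ').1
      have hφ'S := (F.le_of_mem hφ').2
      refine ⟨hP'S, ?_⟩
      have hPS : preimageAlong γ P' ≤ S := preimageAlong_le γ P'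
      have hγP : γ.comp (Subgroup.inclusion hPS) ∈ F.Hom (preimageAlong γ P') := fs_restrict_mem F hγ hPS
      have hval1 : ∀ x : preimageAlong γ P', (γ.comp (Subgroup.inclusion hPS)) x ∈ P' :=
        fun x => apply_mem_of_mem_preimageAlong γ P' x
      have h1 := F.comp_mem hγP hφ' hval1
      have hval2 : ∀ x : preimageAlong γ P',
          (φ'.comp ((γ.comp (Subgroup.inclusion hPS)).codRestrict P' hval1)) x ∈ γ.range := by
        intro x
        rw [hrange]
        exact hφ'S _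
      have h2 := F.comp_mem h1 hψ hval2
      refine ⟨_, h2, hPS, fun x => (F.le_of_mem h2).2 x, hval1, fun x => ?_⟩
      exact (hγψ ⟨φ' ⟨γ ⟨x, hPS x.2⟩, hval1 x⟩, hval2 x⟩).symm
    · rintro ⟨hP'S, φ, hφ, hind⟩
      have hPS : preimageAlong γ P' ≤ S := preimageAlong_le γ P'
      have hφS := (F.le_of_mem hφ).2
      have hP'r : P' ≤ γ.range := by rw [hrange]; exact hP'S
      have hψP' : ψ.comp (Subgroup.inclusion hP'r) ∈ F.Hom P' := fs_restrict_mem F hψ hP'r
      have hval1 : ∀ y : P', (ψ.comp (Subgroup.inclusion hP'r)) y ∈ preimageAlong γ P' := by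
        intro y
        rw [mem_preimageAlong_iff]
        refine ⟨hψS _, ?_⟩
        have := hγψ (Subgroup.inclusion hP'r y)
        show γ ⟨ψ (Subgroup.inclusion hP'r y), _⟩ ∈ P'
        rw [this]
        exact y.2
      have h1 := F.comp_mem hψP' hφ hval1
      have hval2 : ∀ y : P',
          (φ.comp ((ψ.comp (Subgroup.inclusion hP'r)).codRestrict _ hval1)) y ∈ S := fun y => hφS _
      have h2 := F.comp_mem h1 hγ hval2
      have : γ.comp ((φ.comp ((ψ.comp (Subgroup.inclusion hP'r)).codRestrict _ hval1)).codRestrict S hval2)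
          = φ' := by
        ext y
        have e1 := inducedAlong_apply hind ⟨ψ (Subgroup.inclusion hP'r y), hval1 y⟩ (hψS _)
          (apply_mem_of_mem_preimageAlong γ P' _) (hφS _)
        have e2 : (⟨γ ⟨ψ (Subgroup.inclusion hP'r y), hψS _⟩,
            apply_mem_of_mem_preimageAlong γ P' ⟨_, hval1 y⟩⟩ : P') = y :=
          Subtype.ext (hγψ (Subgroup.inclusion hP'r y))
        rw [e2] at e1
        exact e1.symm
      rwa [this] at h2

/-- A subsystem invariant under a group of automorphisms of its underlying group is carried to itself by each of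
them. -/
theorem iso_of_aut {U : Subgroup Ω} (D : FusionSystem U) (G : Subgroup (MulAut U))
    (hinv : ∀ (P : Subgroup Ω) (hPT : P ≤ U) (φ : P →* Ω), φ ∈ D.Hom P → ∀ α ∈ G,
      ∃ χ ∈ D.Hom ((P.subgroupOf U).map (U.subtype.comp α.toMonoidHom)),
        ∀ (x : P) (hφx : φ x ∈ U)
          (hαx : ((α ⟨x, hPT x.2⟩ : U) : Ω) ∈ (P.subgroupOf U).map (U.subtype.comp α.toMonoidHom)),
          χ ⟨(α ⟨x, hPT x.2⟩ : U), hαx⟩ = ((α ⟨φ x, hφx⟩ : U) : Ω))
    {α : MulAut U} (hα : α ∈ G) : IsIso D (U.subtype.comp α.toMonoidHom) D := by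
  have hθ : ∀ u : U, (U.subtype.comp α.toMonoidHom) u = ((α u : U) : Ω) := fun u => rfl
  have hrange : (U.subtype.comp α.toMonoidHom).range = U := by
    apply le_antisymm
    · rintro _ ⟨u, rfl⟩
      exact (α u).2
    · intro y hy
      refine ⟨α⁻¹ ⟨y, hy⟩, ?_⟩
      rw [hθ]
      show ((α (α⁻¹ ⟨y, hy⟩) : U) : Ω) = y
      rw [MulAut.apply_inv_self]
  refine ⟨bot_le, fun u => ?_, hrange, fun P' φ' => ?_⟩
  · rw [hθ, Subgroup.mem_bot]
    constructor
    · intro h
      have h1 : α u = 1 := Subtype.ext h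
      have h2 : u = 1 := by
        have := congrArg (fun z => α⁻¹ z) h1
        simpa using this
      rw [h2]
      rfl
    · intro h
      have h2 : u = 1 := Subtype.ext h
      rw [h2, map_one]
      rfl
  · constructor
    · intro hφ'
      have hP'U := (D.le_of_mem hφ').1
      have hφ'U := (D.le_of_mem hφ').2
      refine ⟨hP'U, ?_⟩
      obtain ⟨χ, hχ, Hχ⟩ := hinv P' hP'U φ' hφ' α⁻¹ (G.inv_mem hα)
      have hle : preimageAlong (U.subtype.comp α.toMonoidHom) P' ≤
          (P'.subgroupOf U).map (U.subtype.comp (α⁻¹).toMonoidHom) := by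
        intro x hx
        obtain ⟨hxU, hx'⟩ := (mem_preimageAlong_iff _ P' x).mp hx
        refine ⟨α ⟨x, hxU⟩, hx', ?_⟩
        show ((α⁻¹ (α ⟨x, hxU⟩) : U) : Ω) = x
        rw [MulAut.inv_apply_self]
      have hPU := preimageAlong_le (U.subtype.comp α.toMonoidHom) P'
      have hχU := (D.le_of_mem hχ).2
      refine ⟨χ.comp (Subgroup.inclusion hle), fs_restrict_mem D hχ hle, hPU, fun x => hχU _,
        fun x => apply_mem_of_mem_preimageAlong _ P' x, fun x => ?_⟩
      have hxU : (x : Ω) ∈ U := hPU x.2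
      have hu : ((α ⟨x, hxU⟩ : U) : Ω) ∈ P' := apply_mem_of_mem_preimageAlong _ P' x
      have hαx : ((α⁻¹ ⟨((α ⟨x, hxU⟩ : U) : Ω), hP'U hu⟩ : U) : Ω) ∈
          (P'.subgroupOf U).map (U.subtype.comp (α⁻¹).toMonoidHom) := ⟨α ⟨x, hxU⟩, hu, rfl⟩
      have e1 := Hχ ⟨((α ⟨x, hxU⟩ : U) : Ω), hu⟩ (hφ'U _) hαx
      have e2 : (⟨((α⁻¹ ⟨((α ⟨x, hxU⟩ : U) : Ω), hP'U hu⟩ : U) : Ω), hαx⟩ :
          ↥((P'.subgroupOf U).map (U.subtype.comp (α⁻¹).toMonoidHom))) = Subgroup.inclusion hle x := by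
        apply Subtype.ext
        show ((α⁻¹ (α ⟨x, hxU⟩) : U) : Ω) = x
        rw [MulAut.inv_apply_self]
      rw [e2] at e1
      show φ' ⟨((α ⟨x, hxU⟩ : U) : Ω), hu⟩ = ((α ⟨χ (Subgroup.inclusion hle x), hχU _⟩ : U) : Ω)
      have e3 : (⟨χ (Subgroup.inclusion hle x), hχU _⟩ : U) =
          α⁻¹ ⟨φ' ⟨((α ⟨x, hxU⟩ : U) : Ω), hu⟩, hφ'U _⟩ := Subtype.ext e1
      rw [e3, MulAut.apply_inv_self]
    · rintro ⟨hP'U, φ, hφ, hind⟩
      have hPU := preimageAlong_le (U.subtype.comp α.toMonoidHom) P'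
      have hφU := (D.le_of_mem hφ).2
      obtain ⟨χ, hχ, Hχ⟩ := hinv _ hPU φ hφ α hα
      have himg : imageAlong (U.subtype.comp α.toMonoidHom)
          (preimageAlong (U.subtype.comp α.toMonoidHom) P') = P' :=
        img_pre _ (by rw [hrange]; exact hP'U)
      refine hom_cast D himg hχ (fun y h₁ h₂ => ?_)
      obtain ⟨x, hxU, hxP, hxy⟩ := exists_of_mem_img himg h₂
      have hαx : ((α ⟨x, hxU⟩ : U) : Ω) ∈ imageAlong (U.subtype.comp α.toMonoidHom)
          (preimageAlong (U.subtype.comp α.toMonoidHom) P') := by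
        have : ((α ⟨x, hxU⟩ : U) : Ω) = y := hxy
        rw [this]
        exact h₁
      have e1 := Hχ ⟨x, hxP⟩ (hφU _) hαx
      have e2 := inducedAlong_apply hind ⟨x, hxP⟩ hxU (apply_mem_of_mem_preimageAlong _ P' ⟨x, hxP⟩)
        (hφU _)
      have e3 : (⟨y, h₁⟩ : ↥(imageAlong (U.subtype.comp α.toMonoidHom)
          (preimageAlong (U.subtype.comp α.toMonoidHom) P'))) = ⟨((α ⟨x, hxU⟩ : U) : Ω), hαx⟩ :=
        Subtype.ext hxy.symm
      have e4 : (⟨y, h₂⟩ : P') = ⟨(U.subtype.comp α.toMonoidHom) ⟨x, hxU⟩,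
          apply_mem_of_mem_preimageAlong _ P' ⟨x, hxP⟩⟩ := Subtype.ext hxy.symm
      rw [e3, e4, e2]
      exact e1

/-- An automorphism of `S` that, with its inverse, is a morphism from `F` to `F` carries `F` to itself. -/
theorem iso_of_morphisms {S : Subgroup Ω} (F : FusionSystem S) (α : S ≃* S)
    (hα : F.IsMorphism F (S.subtype.comp α.toMonoidHom))
    (hα' : F.IsMorphism F (S.subtype.comp α.symm.toMonoidHom)) :
    IsIso F (S.subtype.comp α.toMonoidHom) F := by
  have hθ : ∀ s : S, (S.subtype.comp α.toMonoidHom) s = ((α s : S) : Ω) := fun s => rfl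
  have hθ' : ∀ s : S, (S.subtype.comp α.symm.toMonoidHom) s = ((α.symm s : S) : Ω) := fun s => rfl
  have hrange : (S.subtype.comp α.toMonoidHom).range = S := by
    apply le_antisymm
    · rintro _ ⟨u, rfl⟩
      exact (α u).2
    · intro y hy
      refine ⟨α.symm ⟨y, hy⟩, ?_⟩
      rw [hθ, MulEquiv.apply_symm_apply]
  refine ⟨bot_le, fun u => ?_, hrange, fun P' φ' => ?_⟩
  · rw [hθ, Subgroup.mem_bot]
    constructor
    · intro h
      have h1 : α u = 1 := Subtype.ext h
      have h2 : u = 1 := by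
        have := congrArg (fun z => α.symm z) h1
        simpa using this
      rw [h2]
      rfl
    · intro h
      have h2 : u = 1 := Subtype.ext h
      rw [h2, map_one]
      rfl
  · constructor
    · intro hφ'
      have hP'S := (F.le_of_mem hφ').1
      have hφ'S := (F.le_of_mem hφ').2
      refine ⟨hP'S, ?_⟩
      obtain ⟨φ'', hφ'', hind''⟩ := hα'.2 P' φ' hφ'
      have hle : preimageAlong (S.subtype.comp α.toMonoidHom) P' ≤
          imageAlong (S.subtype.comp α.symm.toMonoidHom) P' := by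
        intro x hx
        obtain ⟨hxS, hx'⟩ := (mem_preimageAlong_iff _ P' x).mp hx
        refine ⟨α ⟨x, hxS⟩, hx', ?_⟩
        rw [hθ', MulEquiv.symm_apply_apply]
      have hPS := preimageAlong_le (S.subtype.comp α.toMonoidHom) P'
      have hφ''S := (F.le_of_mem hφ'').2
      refine ⟨φ''.comp (Subgroup.inclusion hle), fs_restrict_mem F hφ'' hle, hPS, fun x => hφ''S _,
        fun x => apply_mem_of_mem_preimageAlong _ P' x, fun x => ?_⟩
      have hxS : (x : Ω) ∈ S := hPS x.2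
      have hu : ((α ⟨x, hxS⟩ : S) : Ω) ∈ P' := apply_mem_of_mem_preimageAlong _ P' x
      have hx' : (S.subtype.comp α.symm.toMonoidHom) ⟨((α ⟨x, hxS⟩ : S) : Ω), hP'S hu⟩ ∈
          imageAlong (S.subtype.comp α.symm.toMonoidHom) P' :=
        apply_mem_imageAlong _ (hP'S hu) hu
      have e1 := inducedAlong_apply hind'' ⟨((α ⟨x, hxS⟩ : S) : Ω), hu⟩ (hP'S hu) hx' (hφ'S _)
      have e2 : (⟨(S.subtype.comp α.symm.toMonoidHom) ⟨((α ⟨x, hxS⟩ : S) : Ω), hP'S hu⟩, hx'⟩ :
          ↥(imageAlong (S.subtype.comp α.symm.toMonoidHom) P')) = Subgroup.inclusion hle x := by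
        apply Subtype.ext
        show ((α.symm (α ⟨x, hxS⟩) : S) : Ω) = x
        rw [MulEquiv.symm_apply_apply]
      rw [e2] at e1
      show φ' ⟨((α ⟨x, hxS⟩ : S) : Ω), hu⟩ = ((α ⟨φ'' (Subgroup.inclusion hle x), hφ''S _⟩ : S) : Ω)
      have e3 : (⟨φ'' (Subgroup.inclusion hle x), hφ''S _⟩ : S) =
          α.symm ⟨φ' ⟨((α ⟨x, hxS⟩ : S) : Ω), hu⟩, hφ'S _⟩ := Subtype.ext e1
      rw [e3, MulEquiv.apply_symm_apply]
    · rintro ⟨hP'S, φ, hφ, hind⟩
      have hPS := preimageAlong_le (S.subtype.comp α.toMonoidHom) P'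
      have hφS := (F.le_of_mem hφ).2
      obtain ⟨φ₂, hφ₂, hind₂⟩ := hα.2 _ φ hφ
      have himg : imageAlong (S.subtype.comp α.toMonoidHom)
          (preimageAlong (S.subtype.comp α.toMonoidHom) P') = P' :=
        img_pre _ (by rw [hrange]; exact hP'S)
      refine hom_cast F himg hφ₂ (fun y h₁ h₂ => ?_)
      obtain ⟨x, hxS, hxP, hxy⟩ := exists_of_mem_img himg h₂
      have e1 := inducedAlong_apply hind₂ ⟨x, hxP⟩ hxS (by rw [hxy]; exact h₁) (hφS _)
      have e2 := inducedAlong_apply hind ⟨x, hxP⟩ hxS (apply_mem_of_mem_preimageAlong _ P' ⟨x, hxP⟩)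
        (hφS _)
      have e3 : (⟨y, h₁⟩ : ↥(imageAlong (S.subtype.comp α.toMonoidHom)
          (preimageAlong (S.subtype.comp α.toMonoidHom) P'))) =
          ⟨(S.subtype.comp α.toMonoidHom) ⟨x, hxS⟩, by rw [hxy]; exact h₁⟩ := Subtype.ext hxy.symm
      have e4 : (⟨y, h₂⟩ : P') = ⟨(S.subtype.comp α.toMonoidHom) ⟨x, hxS⟩,
          apply_mem_of_mem_preimageAlong _ P' ⟨x, hxP⟩⟩ := Subtype.ext hxy.symm
      rw [e3, e4, e1, e2]

end Cfsg.Agent.H9Iso
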