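import Mathlib
import Cfsg.Agent.Lib.Helper6.JL.JL9
import Cfsg.Agent.Lib.Helper8.JT3
import Cfsg.Agent.Lib.Helper8.JT8
import Cfsg.Agent.Lib.Helper9.JU1

/-! (W4) for S2949: generation of `J(L)` modulo `C_L(V)` by the blocks of the minimal offenders
inside the images of the members of `𝒜(T)`. -/

set_option autoImplicit false

namespace Cfsg.Agent.Lib.Helper9.JU

open Cfsg Cfsg.Agent.Lib.Lead.KS93 Cfsg.Agent.Lib.Lead Cfsg.Agent.Lib.Helper6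
open Cfsg.Agent.Lib.Helper9 Cfsg.Agent.Lib.Helper6.JC Cfsg.Agent.Lib.Helper6.JL
open Cfsg.Agent.Lib.Helper2.OmegaZ Cfsg.Agent.Lib.Lead.Holo
open scoped commutatorElement

section gamma
variable {Γ : Type*} [Group Γ] [Finite Γ] {V H Q D : Subgroup Γ}

local instance instFactTwoJU2 : Fact (Nat.Prime 2) := ⟨Nat.prime_two⟩

variable (hS3 : H = ⨆ A : {A : Subgroup Γ // A ≤ H ∧ Cfsg.IsBestOffenderOn 2 V A}, (A : Subgroup Γ))
include hS3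

/-- a block is generated by an involution `x` of the minimal offender and an element `y ∈ H` of
order 3 inverted by `x` -/
theorem block_le_of_gens (S : Setup 2 V H Q) (M : MinOff 2 V H D) {R : Subgroup Γ} {x y : Γ}
    (hxD : x ∈ D) (hx1 : x ≠ 1) (hx2 : x ^ 2 = 1) (hyH : y ∈ H) (hy1 : y ≠ 1) (hy3 : y ^ 3 = 1)
    (hinv : x * y * x⁻¹ * y = 1) (hxR : x ∈ R) (hyR : y ∈ R) : ⁅Q, D⁆ ⊔ D ≤ R := by
  have hxE : x ∈ ⁅Q, D⁆ ⊔ D := (le_sup_right : D ≤ ⁅Q, D⁆ ⊔ D) hxD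
  -- `y ∈ E`
  have hyE : y ∈ ⁅Q, D⁆ ⊔ D := by
    have h1 : y * x * y⁻¹ ∈ ⁅Q, D⁆ ⊔ D :=
      M.conj_le_EA hS3 S hyH ⟨x, hxD, by simp [MulAut.conj_apply]⟩
    have h2 : y * x * y⁻¹ * x⁻¹ ∈ ⁅Q, D⁆ ⊔ D := Subgroup.mul_mem _ h1 (Subgroup.inv_mem _ hxE)
    have h3 : x * y⁻¹ * x⁻¹ = y := by
      have : x * y * x⁻¹ = y⁻¹ := by
        have := congrArg (· * y⁻¹) hinv
        simpa [mul_assoc] using this
      calc x * y⁻¹ * x⁻¹ = (x * y * x⁻¹)⁻¹ := by group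
        _ = y := by rw [this, inv_inv]
    have h4 : y * x * y⁻¹ * x⁻¹ = y ^ 2 := by
      calc y * x * y⁻¹ * x⁻¹ = y * (x * y⁻¹ * x⁻¹) := by group
        _ = y ^ 2 := by rw [h3, pow_two]
    rw [h4] at h2
    have h5 : y = (y ^ 2) ^ 2 := by
      rw [← pow_mul]
      calc y = y ^ 3 * y := by rw [hy3, one_mul]
        _ = y ^ (2 * 2) := by rw [← pow_succ]
    rw [h5]
    exact Subgroup.pow_mem _ h2 2
  intro e he
  obtain ⟨r, hr, hr3, hre⟩ := MinOff.E_split S M hxE he hx2 hx1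
  have hrR : r ∈ R := by
    rcases MinOff.E_three S M hyE hr hy3 hy1 hr3 with h | h | h
    · rw [h]; exact R.one_mem
    · rw [h]; exact hyR
    · rw [h]; exact R.pow_mem hyR 2
  rcases hre with h | h
  · rw [h]; exact hrR
  · rw [h]; exact R.mul_mem hrR hxR

end gamma

section glevel

universe u

variable {G : Type u} [Group G] [Finite G]

local instance instFactTwoJU2' : Fact (Nat.Prime 2) := ⟨Nat.prime_two⟩

local instance instVVNormalJU2 (L : Subgroup G) : (VV 2 ↥L).Normal := VV_normal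

/-- **(W4)**, minimal-offender form: if `P ⊇ C_L(V), J(T)` contains, for every minimal offender
`D = ⟨ψ(a₀)⟩` inside the image of some `A₀ ∈ 𝒜(T)`, an element `g ∈ J(L)` of order 3 modulo
`C_L(V)` inverted by `a₀`, then `J(L) ≤ P`. -/
theorem jOf_le_of_minOff {T L P : Subgroup G} (h : LCtx T L) (hCP : cOf L ≤ P)
    (hJP : thompsonSubgroupOf 2 T ≤ P)
    (hg : ∀ A₀ ∈ maxEA 2 T, ∀ a₀ ∈ A₀, ∀ ha₀L : a₀ ∈ L, ∀ D : Subgroup (Hol (VV 2 ↥L)),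
      MinOff 2 (VH (VV 2 ↥L)) ((thompsonSubgroup 2 ↥L).map (psi (VV 2 ↥L))) D →
      D ≤ (A₀.subgroupOf L).map (psi (VV 2 ↥L)) → psi (VV 2 ↥L) ⟨a₀, ha₀L⟩ ∈ D →
      psi (VV 2 ↥L) ⟨a₀, ha₀L⟩ ≠ 1 →
      ∃ g ∈ P, g ∈ jOf L ∧ g ∉ cOf L ∧ g ^ 3 ∈ cOf L ∧ a₀ * g * a₀⁻¹ * g ∈ cOf L) :
    jOf L ≤ P := by
  have hVea : IsElementaryAbelian 2 (VV 2 ↥L) := isEA_of_le_omegaZ _ (VV_le_omegaZ h.hc')
  have hC := pCore_quotient_centralizer_VV (G := ↥L) (p := 2)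
  obtain ⟨H', Q', hH', St, hS3⟩ := exists_setup (VV 2 ↥L) hVea h.isPSolvable hC
  rw [← hH'] at hg
  obtain ⟨J, hJdef⟩ : ∃ J, J = thompsonSubgroupOf 2 T := ⟨_, rfl⟩
  have hJT : J ≤ T := hJdef ▸ thompsonSubgroupOf_le 2 T
  have hJL : J ≤ L := hJT.trans h.hTL
  -- the image of `P ∩ L`
  obtain ⟨Pψ, hPψ⟩ : ∃ Pψ, Pψ = (P.subgroupOf L).map (psi (VV 2 ↥L)) := ⟨_, rfl⟩
  have hmemPψ : ∀ {x : G} (hxL : x ∈ L), x ∈ P → psi (VV 2 ↥L) ⟨x, hxL⟩ ∈ Pψ := by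
    intro x hxL hxP
    rw [hPψ]
    exact Subgroup.mem_map_of_mem _ (Subgroup.mem_subgroupOf.mpr hxP)
  have hjH : ∀ {x : G} (hxL : x ∈ L), x ∈ jOf L → psi (VV 2 ↥L) ⟨x, hxL⟩ ∈ H' := by
    intro x hxL hx
    rw [hH']
    exact Subgroup.mem_map_of_mem _ ((mem_jOf_iff hxL).mp hx)
  -- every block of a minimal offender inside `ψ(A₁)`, `A₁ ∈ 𝒜(T)`, lies in `Pψ`
  have hblock : ∀ A₁ ∈ maxEA 2 T, ∀ D : Subgroup (Hol (VV 2 ↥L)),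
      MinOff 2 (VH (VV 2 ↥L)) H' D → D ≤ (A₁.subgroupOf L).map (psi (VV 2 ↥L)) →
      ⁅Q', D⁆ ⊔ D ≤ Pψ := by
    intro A₁ hA₁ D M hD
    obtain ⟨d, hd, hd1, hd2, -⟩ := MinOff.exists_gen St M
    obtain ⟨a', ha', hda⟩ := hD hd
    rw [SetLike.mem_coe, Subgroup.mem_subgroupOf] at ha'
    have hψa : psi (VV 2 ↥L) ⟨(a' : G), a'.2⟩ = d := hda
    obtain ⟨g, hgP, hgJ, hgC, hg3, hinv⟩ := hg A₁ hA₁ (a' : G) ha' a'.2 D M hD
      (by rw [hψa]; exact hd) (by rw [hψa]; exact hd1)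
    have hgL : g ∈ L := jOf_le L hgJ
    have ha'J : (a' : G) ∈ J := by
      rw [hJdef, thompsonSubgroupOf_eq]; exact (le_sSup hA₁ : A₁ ≤ sSup (maxEA 2 T)) ha'
    have hy1 : psi (VV 2 ↥L) ⟨g, hgL⟩ ≠ 1 := fun h0 => hgC ((mem_cOf_iff hgL).mpr h0)
    have hy3 : psi (VV 2 ↥L) ⟨g, hgL⟩ ^ 3 = 1 := by
      have h3L : g ^ 3 ∈ L := L.pow_mem hgL 3
      have := (mem_cOf_iff h3L).mp hg3
      rw [← map_pow]
      exact this
    have hinv' : d * psi (VV 2 ↥L) ⟨g, hgL⟩ * d⁻¹ * psi (VV 2 ↥L) ⟨g, hgL⟩ = 1 := by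
      have hL4 : (a' : G) * g * (a' : G)⁻¹ * g ∈ L :=
        L.mul_mem (L.mul_mem (L.mul_mem a'.2 hgL) (L.inv_mem a'.2)) hgL
      have := (mem_cOf_iff hL4).mp hinv
      have e : (⟨(a' : G) * g * (a' : G)⁻¹ * g, hL4⟩ : ↥L) = a' * ⟨g, hgL⟩ * a'⁻¹ * ⟨g, hgL⟩ := rfl
      rw [e, map_mul, map_mul, map_mul, map_inv] at this
      rw [← hψa]
      exact this
    refine block_le_of_gens hS3 St M hd hd1 hd2 (hjH hgL hgJ) hy1 hy3 hinv' ?_ (hmemPψ hgL hgP)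
    rw [← hψa]
    exact hmemPψ a'.2 (hJP (hJdef ▸ ha'J))
  -- conjugates under `H'` of `ψ(A₁)` lie in `Pψ`
  have hconj : ∀ A₁ ∈ maxEA 2 T, ∀ η ∈ H',
      ((A₁.subgroupOf L).map (psi (VV 2 ↥L))).map (MulAut.conj η).toMonoidHom ≤ Pψ := by
    intro A₁ hA₁ η hη
    have hA0 := h.maxEA_subgroupOf hA₁
    have hbest : IsBestOffenderOn 2 (VH (VV 2 ↥L)) ((A₁.subgroupOf L).map (psi (VV 2 ↥L))) :=
      bestOffender_map (VV 2 ↥L) (Cfsg.Agent.S0606.result (VV 2 ↥L) hVea _ hA0)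
    have hA'H : (A₁.subgroupOf L).map (psi (VV 2 ↥L)) ≤ H' := by
      rw [hH']; exact Subgroup.map_mono (le_sSup hA0)
    by_cases hne : (A₁.subgroupOf L).map (psi (VV 2 ↥L)) = ⊥
    · rw [hne, Subgroup.map_bot]; exact bot_le
    obtain ⟨n, B, hB, -, hsup⟩ := decomposition St _ _ rfl hA'H hbest hne
    rw [← hsup, Subgroup.map_iSup]
    apply iSup_le
    intro i
    have M : MinOff 2 (VH (VV 2 ↥L)) H' (B i) :=
      ⟨(hB i).1.trans hA'H, (hB i).2.1, (hB i).2.2.1, (hB i).2.2.2⟩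
    exact (M.conj_le_EA hS3 St hη).trans (hblock A₁ hA₁ (B i) M (hB i).1)
  -- `H' ≤ Pψ`
  have hH'P : H' ≤ Pψ := by
    rw [hH']
    unfold thompsonSubgroup
    rw [Subgroup.map_le_iff_le_comap]
    apply sSup_le
    intro A' hA'
    rw [← Subgroup.map_le_iff_le_comap]
    rintro _ ⟨x', hx', rfl⟩
    -- the image of `A'` in `G`
    obtain ⟨B, hBdef⟩ : ∃ B : Subgroup G, B = A'.map L.subtype := ⟨_, rfl⟩
    have hBL : B ≤ L := hBdef ▸ Subgroup.map_subtype_le _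
    have hBe : IsElementaryAbelian 2 B := hBdef ▸ isElementaryAbelian_map hA'.1 _
    obtain ⟨l, hl, hconjl⟩ := h.exists_conj_le hBL (isPGroup_of_isElementaryAbelian hBe)
    obtain ⟨j, hj, n, hnL, hnJ, hljn⟩ := exists_jOf_mul_normalizer h hl
    rw [← hJdef] at hnJ
    -- `A₀ = l⁻¹ B l ∈ 𝒜(T)`
    have hA₀ : B.map (MulAut.conj l⁻¹).toMonoidHom ∈ maxEA 2 T := by
      refine ⟨?_, isElementaryAbelian_map hBe _, ?_⟩
      · rintro _ ⟨b, hb, rfl⟩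
        have := hconjl b hb
        simpa [MulAut.conj_apply] using this
      · intro B₂ hB₂ hB₂e
        rw [card_map_conj, hBdef, card_map_subtype, ← card_subgroupOf_of_le (hB₂.trans h.hTL)]
        exact hA'.2 _ (isElementaryAbelian_subgroupOf hB₂e L)
    have hA₀J : B.map (MulAut.conj l⁻¹).toMonoidHom ≤ J := by
      rw [hJdef, thompsonSubgroupOf_eq]; exact le_sSup hA₀
    -- `A₁ = n A₀ n⁻¹ ∈ 𝒜(T)`
    have hA₁ : (B.map (MulAut.conj l⁻¹).toMonoidHom).map (MulAut.conj n).toMonoidHom ∈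
        maxEA 2 T := by
      refine ⟨?_, isElementaryAbelian_map hA₀.2.1 _, ?_⟩
      · rintro _ ⟨b, hb, rfl⟩
        have := (Subgroup.mem_normalizer_iff.mp hnJ b).mp (hA₀J hb)
        exact hJT (by simpa [MulAut.conj_apply] using this)
      · intro B₂ hB₂ hB₂e
        rw [card_map_conj]
        exact hA₀.2.2 B₂ hB₂ hB₂e
    -- `x' = j a₁ j⁻¹`
    have hx'B : ((x' : ↥L) : G) ∈ B := hBdef ▸ ⟨x', hx', rfl⟩
    obtain ⟨a₁, ha₁def⟩ : ∃ a₁ : G, a₁ = n * (l⁻¹ * (x' : G) * l) * n⁻¹ := ⟨_, rfl⟩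
    have ha₁A : a₁ ∈ (B.map (MulAut.conj l⁻¹).toMonoidHom).map (MulAut.conj n).toMonoidHom := by
      refine ⟨l⁻¹ * (x' : G) * l, ⟨(x' : G), hx'B, by simp⟩, ?_⟩
      rw [ha₁def]; simp [MulAut.conj_apply]
    have ha₁L : a₁ ∈ L := h.hTL (hA₁.1 ha₁A)
    have hjL : j ∈ L := jOf_le L hj
    have hx'eq : x' = ⟨j, hjL⟩ * ⟨a₁, ha₁L⟩ * ⟨j, hjL⟩⁻¹ := by
      apply Subtype.ext
      change (x' : G) = j * a₁ * j⁻¹
      rw [ha₁def]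
      have : l = j * n := hljn
      rw [this]
      group
    have := hconj _ hA₁ (psi (VV 2 ↥L) ⟨j, hjL⟩) (hjH hjL hj)
    apply this
    refine ⟨psi (VV 2 ↥L) ⟨a₁, ha₁L⟩, Subgroup.mem_map_of_mem _ (Subgroup.mem_subgroupOf.mpr ha₁A), ?_⟩
    rw [hx'eq, map_mul, map_mul, map_inv]
    simp [MulAut.conj_apply]
  -- conclusion
  intro x hx
  have hxL : x ∈ L := jOf_le L hx
  have h1 := hH'P (hjH hxL hx)
  rw [hPψ] at h1
  obtain ⟨y, hy, hyx⟩ := h1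
  rw [SetLike.mem_coe, Subgroup.mem_subgroupOf] at hy
  have h2 : (y : G)⁻¹ * x ∈ cOf L := by
    have hL2 : (y : G)⁻¹ * x ∈ L := L.mul_mem (L.inv_mem y.2) hxL
    rw [mem_cOf_iff hL2]
    have e : (⟨(y : G)⁻¹ * x, hL2⟩ : ↥L) = y⁻¹ * ⟨x, hxL⟩ := rfl
    rw [e, map_mul, map_inv, hyx]
    group
  have h3 := P.mul_mem hy (hCP h2)
  simpa using h3

open Cfsg.Agent.Lib.Helper8.JT in
/-- **(W4)**: if `P ⊇ C_L(V), J(T)` contains, for every good pair `(a, A)`, an element `g ∈ J(L)`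
of order 3 modulo `C_L(V)` inverted by `a`, then `J(L) ≤ P`. -/
theorem jOf_le_of_good {T L P : Subgroup G} (h : LCtx T L)
    (_hJ : ¬ thompsonSubgroupOf 2 T ≤ pCoreOf 2 L) (hCP : cOf L ≤ P)
    (hJP : thompsonSubgroupOf 2 T ≤ P)
    (hgood : ∀ a A, Good T L a A →
      ∃ g ∈ P, g ∈ jOf L ∧ g ∉ cOf L ∧ g ^ 3 ∈ cOf L ∧ a * g * a⁻¹ * g ∈ cOf L) :
    jOf L ≤ P := by
  have hVea : IsElementaryAbelian 2 (VV 2 ↥L) := isEA_of_le_omegaZ _ (VV_le_omegaZ h.hc')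
  have hC := pCore_quotient_centralizer_VV (G := ↥L) (p := 2)
  obtain ⟨H', Q', hH', St, hS3⟩ := exists_setup (VV 2 ↥L) hVea h.isPSolvable hC
  apply jOf_le_of_minOff h hCP hJP
  rw [← hH']
  intro A₀ hA₀ a₀ ha₀ ha₀L D M hD ha₀D ha₀1
  obtain ⟨a, haA, haL, haD, ha1, hDall, hG⟩ := good_of_minOff h St hA₀ M hD
  obtain ⟨g, hgP, hgJ, hgC, hg3, hinv⟩ := hgood a _ hG
  refine ⟨g, hgP, hgJ, hgC, hg3, ?_⟩
  have hgL : g ∈ L := jOf_le L hgJ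
  have heq : psi (VV 2 ↥L) ⟨a₀, ha₀L⟩ = psi (VV 2 ↥L) ⟨a, haL⟩ := by
    rcases hDall _ ha₀D with h0 | h0
    · exact absurd h0 ha₀1
    · exact h0
  have hL4 : a * g * a⁻¹ * g ∈ L :=
    L.mul_mem (L.mul_mem (L.mul_mem haL hgL) (L.inv_mem haL)) hgL
  have hL4' : a₀ * g * a₀⁻¹ * g ∈ L :=
    L.mul_mem (L.mul_mem (L.mul_mem ha₀L hgL) (L.inv_mem ha₀L)) hgL
  have h1 := (mem_cOf_iff hL4).mp hinv
  rw [mem_cOf_iff hL4']
  have e : (⟨a * g * a⁻¹ * g, hL4⟩ : ↥L) = ⟨a, haL⟩ * ⟨g, hgL⟩ * ⟨a, haL⟩⁻¹ * ⟨g, hgL⟩ := rfl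
  have e' : (⟨a₀ * g * a₀⁻¹ * g, hL4'⟩ : ↥L) =
      ⟨a₀, ha₀L⟩ * ⟨g, hgL⟩ * ⟨a₀, ha₀L⟩⁻¹ * ⟨g, hgL⟩ := rfl
  rw [e, map_mul, map_mul, map_mul, map_inv] at h1
  rw [e', map_mul, map_mul, map_mul, map_inv, heq]
  exact h1

end glevel

end Cfsg.Agent.Lib.Helper9.JU
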