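import Mathlib
import Cfsg.Prelude.Def_FusionSystem
import Cfsg.Prelude.Def_FusionComponents
import Cfsg.Agent.Lib.Helper8.CB12
import Cfsg.Agent.Lib.Helper9.ZW3
import Cfsg.Agent.Lib.Helper9.FusionAut
import Cfsg.Agent.Lib.Helper9.FusionAut2
import Cfsg.Agent.Lib.Helper9.FusionSat2
import Cfsg.Agent.Lib.Helper9.FusionStrongly
import Cfsg.Agent.Lib.Helper9.FusionNormal1
import Cfsg.Agent.Lib.Helper9.FusionNormal4
import Cfsg.Agent.Lib.Helper9.FusionFactor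
import Cfsg.Agent.Lib.Helper9.FusionMorph1
import Cfsg.Agent.S5084
import Cfsg.Agent.S5132
import Cfsg.Agent.S5133
import Cfsg.Agent.S5134

set_option autoImplicit false

/-!
# Control of transfer (part 2): if `Q` is normal in the saturated system `D` and `Aut_D(Q)` is a `p`-group, then
`foc(D) ∩ Q ≤ S'`
-/

namespace Cfsg.Agent.H9TR

open Cfsg Cfsg.FusionSystem Cfsg.Agent.Lib.Helper9
open scoped commutatorElement

universe u

variable {Ω : Type u} [Group Ω] {S : Subgroup Ω}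

/-- If `Q` is normal in the saturated system `D` and `Aut_D(Q)` is a `p`-group, every map of `D` acts on the elements
of `Q` in its source as the conjugation by an element of `S`. -/
theorem SC_conj [Finite S] (p : ℕ) [hp : Fact p.Prime] (hS : IsPGroup p S) (D : FusionSystem S)
    (hD : D.IsSaturated p) {Q : Subgroup Ω} (hQ : D.IsNormal Q) (hQp : IsPGroup p (D.autGroup Q))
    {P : Subgroup Ω} {φ : P →* Ω} (hφ : φ ∈ D.Hom P) :
    ∃ s ∈ S, ∀ x : P, (x : Ω) ∈ Q → φ x = s * (x : Ω) * s⁻¹ := by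
  have hQS := hQ.1
  have hQsc := fs_stronglyClosed_of_isNormal D hQ
  have hSQ := fs_stronglyClosed_le_normalizer D hQsc
  have hfn := Cfsg.Agent.H9ZW.fullyNormalized_of_le_normalizer D hQS hSQ
  obtain ⟨-, Syl, hSyl⟩ := (fs_sylow_axiom p hS D hD hfn).2
  obtain ⟨ψ, hψ, hψP, hψQ⟩ := hQ.2 P φ hφ
  have hval : ∀ q : Q, (ψ.comp (Subgroup.inclusion (le_sup_right : Q ≤ P ⊔ Q))) q ∈ Q := by
    intro q
    have h1 : ψ (Subgroup.inclusion (le_sup_right : Q ≤ P ⊔ Q) q) ∈ (Q.subgroupOf (P ⊔ Q)).map ψ :=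
      ⟨_, q.2, rfl⟩
    rw [hψQ] at h1
    exact h1
  obtain ⟨ν, hν, Hν⟩ := fs_hom_to_aut D (fs_restrict_mem D hψ (le_sup_right : Q ≤ P ⊔ Q)) hval
  have htop : (⊤ : Subgroup (D.autGroup Q)) = (Syl : Subgroup (D.autGroup Q)) :=
    Syl.is_maximal' (hQp.to_subgroup ⊤) le_top
  have h1 : (⟨ν, hν⟩ : D.autGroup Q) ∈ (Syl : Subgroup (D.autGroup Q)) := by
    rw [← htop]; exact Subgroup.mem_top _
  rw [hSyl, Subgroup.mem_subgroupOf, mem_autInducedBy_iff] at h1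
  obtain ⟨g, hg, Hg⟩ := h1
  refine ⟨g, hg, fun x hx => ?_⟩
  rw [← hψP x]
  have h2 := Hν ⟨x, hx⟩
  have h3 := Hg ⟨x, hx⟩
  rw [← h3]
  exact h2.symm

/-- If `Q` is normal in the saturated system `D` and `Aut_D(Q)` is a `p`-group, then `foc(D) ∩ Q ≤ S'`. -/
theorem focal_inf_le_of_SC [Finite S] (p : ℕ) [hp : Fact p.Prime] (hS : IsPGroup p S) (D : FusionSystem S)
    (hD : D.IsSaturated p) {Q : Subgroup Ω} (hQ : D.IsNormal Q) (hQp : IsPGroup p (D.autGroup Q)) :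
    D.focalSubgroup ⊓ Q ≤ ⁅S, S⁆ := by
  have hQS := hQ.1
  have hQsc := fs_stronglyClosed_of_isNormal D hQ
  have hSQ := fs_stronglyClosed_le_normalizer D hQsc
  have hS'S : ⁅S, S⁆ ≤ S := Subgroup.commutator_le.mpr (fun a ha b hb =>
    S.mul_mem (S.mul_mem (S.mul_mem ha hb) (S.inv_mem ha)) (S.inv_mem hb))
  have hQconj : ∀ s ∈ S, ∀ y ∈ Q, s * y * s⁻¹ ∈ Q := by
    intro s hs y hy
    exact (Subgroup.mem_normalizer_iff.mp (hSQ hs) y).mp hy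
  -- the subgroup `Q₁ = Q ∩ S'`
  obtain ⟨Q₁, hQ₁def⟩ : ∃ Q₁ : Subgroup Ω, Q₁ = Q ⊓ ⁅S, S⁆ := ⟨_, rfl⟩
  have hQ₁Q : Q₁ ≤ Q := by rw [hQ₁def]; exact inf_le_left
  have hQ₁S' : Q₁ ≤ ⁅S, S⁆ := by rw [hQ₁def]; exact inf_le_right
  have hQ₁S : Q₁ ≤ S := hQ₁Q.trans hQS
  have hcomm : ∀ s ∈ S, ∀ y ∈ Q, y⁻¹ * (s * y * s⁻¹) ∈ Q₁ := by
    intro s hs y hy
    rw [hQ₁def]
    refine ⟨Q.mul_mem (Q.inv_mem hy) (hQconj s hs y hy), ?_⟩
    have e : y⁻¹ * (s * y * s⁻¹) = ⁅y⁻¹, s⁆ := by rw [commutatorElement_def]; group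
    rw [e]
    exact Subgroup.commutator_mem_commutator (S.inv_mem (hQS hy)) hs
  have hQ₁conj : ∀ s ∈ S, ∀ y ∈ Q₁, s * y * s⁻¹ ∈ Q₁ := by
    intro s hs y hy
    have e : s * y * s⁻¹ = y * (y⁻¹ * (s * y * s⁻¹)) := by group
    rw [e]
    exact Q₁.mul_mem hy (hcomm s hs y (hQ₁Q hy))
  have hQ₁sc : D.StronglyClosed Q₁ := by
    refine ⟨hQ₁S, fun R hR φ hφ x => ?_⟩
    obtain ⟨s, hs, Hs⟩ := SC_conj p hS D hD hQ hQp hφ
    rw [Hs x (hQ₁Q (hR x.2))]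
    exact hQ₁conj s hs _ (hR x.2)
  haveI hn' : (Q₁.subgroupOf S).Normal :=
    (Subgroup.normal_subgroupOf_iff_le_normalizer hQ₁S).mpr (fs_stronglyClosed_le_normalizer D hQ₁sc)
  obtain ⟨D', hD'⟩ := Cfsg.Agent.S5132.result p hS D Q₁ hQ₁sc
  have hsurj := Cfsg.Agent.S5134.result p hS D hD Q₁ hQ₁sc _ D' hD'
  have hD'sat := Cfsg.Agent.S5133.result p hS D hD D' _ hsurj
  have hXp : IsPGroup p (⊤ : Subgroup (S ⧸ Q₁.subgroupOf S)) := (hS.to_quotient _).to_subgroup ⊤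
  have hker : ∀ s : S, (QuotientGroup.mk' (Q₁.subgroupOf S)) s = 1 ↔ (s : Ω) ∈ Q₁ := hD'.2.1
  obtain ⟨θ, hθdef⟩ : ∃ θ : S →* S ⧸ Q₁.subgroupOf S, θ = QuotientGroup.mk' (Q₁.subgroupOf S) := ⟨_, rfl⟩
  rw [← hθdef] at hD' hsurj hker
  have hθsurj : Function.Surjective θ := by
    rw [hθdef]
    exact QuotientGroup.mk'_surjective _
  -- the image of `Q` is central in the factor system
  have hcentral : D'.IsCentral (imageAlong θ Q) := by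
    rw [Cfsg.Agent.S5084.result p hXp D' hD'sat]
    refine ⟨le_top, ?_⟩
    rintro x' hx' y' ⟨φ', hφ', rfl⟩
    obtain ⟨μ, hμ, hind⟩ := hsurj.2.2 _ le_top φ' hφ'
    have hμS := (D.le_of_mem hμ).2
    obtain ⟨s, hsQ, hsx⟩ := (mem_imageAlong_iff θ Q x').mp hx'
    have hsz : θ ⟨(s : Ω), s.2⟩ ∈ Subgroup.zpowers x' := by
      rw [Subtype.coe_eta, hsx]
      exact Subgroup.mem_zpowers x'
    have hsM : (s : Ω) ∈ preimageAlong θ (Subgroup.zpowers x') := by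
      rw [mem_preimageAlong_iff]
      exact ⟨s.2, hsz⟩
    have h1 := inducedAlong_apply hind ⟨s, hsM⟩ s.2 hsz (hμS _)
    obtain ⟨g, hg, Hg⟩ := SC_conj p hS D hD hQ hQp hμ
    have h2 := Hg ⟨s, hsM⟩ hsQ
    have e1 : (⟨θ ⟨(s : Ω), s.2⟩, hsz⟩ : Subgroup.zpowers x') = ⟨x', Subgroup.mem_zpowers x'⟩ := by
      apply Subtype.ext
      show θ ⟨(s : Ω), s.2⟩ = x'
      rw [Subtype.coe_eta, hsx]
    rw [e1] at h1
    rw [h1]
    have h3 : θ (s⁻¹ * ⟨μ ⟨s, hsM⟩, hμS _⟩) = 1 := by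
      rw [hker]
      show (s : Ω)⁻¹ * μ ⟨s, hsM⟩ ∈ Q₁
      rw [h2]
      exact hcomm g hg _ hsQ
    rw [map_mul, map_inv, inv_mul_eq_one] at h3
    rw [← h3]
    exact hsx
  have hfc := Cfsg.Agent.Lib.Helper8.CB.focal_inf_central_le p hXp D' hD'sat hcentral
  -- the focal subgroup of `D` maps into the focal subgroup of the factor system
  have hfoc : D.focalSubgroup ≤ preimageAlong θ D'.focalSubgroup := by
    unfold FusionSystem.focalSubgroup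
    rw [Subgroup.closure_le]
    rintro _ ⟨P, φ, x, hφ, rfl⟩
    obtain ⟨hPS, hφS⟩ := D.le_of_mem hφ
    obtain ⟨φ', hφ', H⟩ := morph_push D D' θ hsurj.1 hφ
    have hxS := hPS x.2
    have hx1 : θ ⟨x, hxS⟩ ∈ imageAlong θ P := apply_mem_imageAlong θ hxS x.2
    have h1 := H x hxS hx1 (hφS x)
    rw [SetLike.mem_coe, mem_preimageAlong_iff]
    refine ⟨S.mul_mem (S.inv_mem hxS) (hφS x), ?_⟩
    have e : (⟨(x : Ω)⁻¹ * φ x, S.mul_mem (S.inv_mem hxS) (hφS x)⟩ : S) =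
        (⟨x, hxS⟩ : S)⁻¹ * ⟨φ x, hφS x⟩ := rfl
    rw [e, map_mul, map_inv, ← h1]
    apply Subgroup.subset_closure
    exact ⟨imageAlong θ P, φ', ⟨θ ⟨x, hxS⟩, hx1⟩, hφ', rfl⟩
  -- conclusion
  rintro x ⟨hxf, hxQ⟩
  have hxS : x ∈ S := hQS hxQ
  obtain ⟨hxS', hxf'⟩ := (mem_preimageAlong_iff θ _ x).mp (hfoc hxf)
  have h1 : θ ⟨x, hxS⟩ ∈ D'.focalSubgroup ⊓ imageAlong θ Q := ⟨hxf', apply_mem_imageAlong θ hxS hxQ⟩
  have h2 := hfc h1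
  have h3 : (⁅(⊤ : Subgroup (S ⧸ Q₁.subgroupOf S)), (⊤ : Subgroup (S ⧸ Q₁.subgroupOf S))⁆ :
      Subgroup (S ⧸ Q₁.subgroupOf S)) = (⁅(⊤ : Subgroup S), (⊤ : Subgroup S)⁆).map θ := by
    rw [Subgroup.map_commutator, ← MonoidHom.range_eq_map, MonoidHom.range_eq_top.mpr hθsurj]
  rw [h3] at h2
  obtain ⟨c, hc, hcx⟩ := h2
  have hcS' : (c : Ω) ∈ ⁅S, S⁆ := by
    have h6 : (⁅(⊤ : Subgroup S), (⊤ : Subgroup S)⁆).map S.subtype = ⁅S, S⁆ := by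
      rw [Subgroup.map_commutator, ← MonoidHom.range_eq_map, Subgroup.range_subtype]
    rw [← h6]
    exact ⟨c, hc, rfl⟩
  have h4 : θ (c⁻¹ * ⟨x, hxS⟩) = 1 := by
    rw [map_mul, map_inv, hcx, inv_mul_cancel]
  rw [hker] at h4
  have h5 : (c : Ω)⁻¹ * x ∈ ⁅S, S⁆ := hQ₁S' h4
  have e : x = (c : Ω) * ((c : Ω)⁻¹ * x) := by group
  rw [e]
  exact Subgroup.mul_mem _ hcS' h5

end Cfsg.Agent.H9TR
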