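import Mathlib
import Cfsg.Prelude.Def_FusionSystem
import Cfsg.Prelude.Def_FusionReduction
import Cfsg.Agent.Lib.Helper9.ZX1
import Cfsg.Agent.Lib.Helper9.FusionBasic
import Cfsg.Agent.S5096

set_option autoImplicit false

/-!
# Control of transfer (part 1): systems whose maps are trivial modulo a subgroup `T`
-/

namespace Cfsg.Agent.H9TR

open Cfsg Cfsg.FusionSystem Cfsg.Agent.Lib.Helper9 Cfsg.Agent.H9ZW

universe u

variable {Ω : Type*} [Group Ω] {S : Subgroup Ω}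

/-- Every map of the system is trivial modulo `T`: the quotients `x⁻¹ φ(x)` lie in `T`. -/
def TrivMod (F : FusionSystem S) (T : Subgroup Ω) : Prop :=
  ∀ (P : Subgroup Ω) (φ : P →* Ω), φ ∈ F.Hom P → ∀ x : P, (x : Ω)⁻¹ * φ x ∈ T

/-- Every map of `N_F(Y)` is trivial modulo `T`. -/
def TrivModN (F : FusionSystem S) (Y T : Subgroup Ω) : Prop :=
  ∀ (P : Subgroup Ω) (φ : P →* Ω), φ ∈ F.normalizerHom Y P → ∀ x : P, (x : Ω)⁻¹ * φ x ∈ T

theorem trivMod_iff_focal_le (F : FusionSystem S) (T : Subgroup Ω) :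
    TrivMod F T ↔ F.focalSubgroup ≤ T := by
  constructor
  · intro h
    unfold FusionSystem.focalSubgroup
    rw [Subgroup.closure_le]
    rintro _ ⟨P, φ, x, hφ, rfl⟩
    exact h P φ hφ x
  · intro h P φ hφ x
    apply h
    exact Subgroup.subset_closure ⟨P, φ, x, hφ, rfl⟩

theorem TrivMod.mono {F E : FusionSystem S} {T : Subgroup Ω} (h : TrivMod F T)
    (hle : ∀ P : Subgroup Ω, E.Hom P ⊆ F.Hom P) : TrivMod E T :=
  fun P φ hφ x => h P φ (hle P hφ) x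

theorem TrivMod.mono_right {F : FusionSystem S} {T T' : Subgroup Ω} (h : TrivMod F T) (hle : T ≤ T') :
    TrivMod F T' :=
  fun P φ hφ x => hle (h P φ hφ x)

theorem TrivModN.mono {T₁ : Subgroup Ω} (hTS : T₁ ≤ S) {E : FusionSystem T₁} {F : FusionSystem S}
    {Y T : Subgroup Ω} (h : TrivModN F Y T) (hle : ∀ P : Subgroup Ω, E.Hom P ⊆ F.Hom P) : TrivModN E Y T :=
  fun P φ hφ x => h P φ (normalizerHom_mono hTS E F hle Y P hφ) x

/-- The maps of `N_F(Y)` are also trivial modulo `T ⊓ foc(F)`. -/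
theorem TrivModN.inf_focal {F : FusionSystem S} {Y T : Subgroup Ω} (h : TrivModN F Y T) :
    TrivModN F Y (T ⊓ F.focalSubgroup) := by
  intro P φ hφ x
  refine ⟨h P φ hφ x, ?_⟩
  exact Subgroup.subset_closure ⟨P, φ, x, hφ.1, rfl⟩

/-- The commutators of elements of `N_S(Y)` lie in `T` if the maps of `N_F(Y)` are trivial modulo `T`. -/
theorem TrivModN.comm [Finite S] {F : FusionSystem S} {Y T : Subgroup Ω} (h : TrivModN F Y T) (hY : Y ≤ S)
    {x : Ω} (hx : x ∈ normalizerIn S Y) {s : Ω} (hs : s ∈ normalizerIn S Y) :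
    x⁻¹ * (s * x * s⁻¹) ∈ T := by
  obtain ⟨E, hE⟩ := Cfsg.Agent.S5096.result F Y hY
  have hle : Subgroup.zpowers x ≤ normalizerIn S Y := by
    rw [Subgroup.zpowers_le]; exact hx
  have h1 : conjHom (Subgroup.zpowers x) s ∈ E.Hom (Subgroup.zpowers x) := E.conj_mem hle hs
  rw [hE] at h1
  exact h _ _ h1 ⟨x, Subgroup.mem_zpowers x⟩

/-- The subsystem of the maps trivial modulo `T` (a subgroup containing the commutators of `S`). -/
def trivSystem (F : FusionSystem S) (T : Subgroup Ω)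
    (hT : ∀ x ∈ S, ∀ s ∈ S, x⁻¹ * (s * x * s⁻¹) ∈ T) : FusionSystem S where
  Hom P := {φ | φ ∈ F.Hom P ∧ ∀ x : P, (x : Ω)⁻¹ * φ x ∈ T}
  le_of_mem h := F.le_of_mem h.1
  injective_of_mem h := F.injective_of_mem h.1
  conj_mem := by
    intro P g hP hg
    refine ⟨F.conj_mem hP hg, fun x => ?_⟩
    have hval : conjHom P g x = g * (x : Ω) * g⁻¹ := rfl
    rw [hval]
    exact hT _ (hP x.2) g hg
  comp_mem := by
    intro P Q φ ψ hφ hψ h
    refine ⟨F.comp_mem hφ.1 hψ.1 h, fun x => ?_⟩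
    have hval : (ψ.comp (φ.codRestrict Q h)) x = ψ ⟨φ x, h x⟩ := rfl
    rw [hval]
    have h1 := hφ.2 x
    have h2 := hψ.2 ⟨φ x, h x⟩
    have e : (x : Ω)⁻¹ * ψ ⟨φ x, h x⟩ = ((x : Ω)⁻¹ * φ x) * ((φ x)⁻¹ * ψ ⟨φ x, h x⟩) := by group
    rw [e]
    exact T.mul_mem h1 h2
  inv_mem := by
    intro P φ hφ
    obtain ⟨ψ, hψ, H⟩ := F.inv_mem hφ.1
    refine ⟨ψ, ⟨hψ, ?_⟩, H⟩
    rintro ⟨_, x, rfl⟩
    rw [H x]
    have h1 := hφ.2 x
    have e : (φ x)⁻¹ * (x : Ω) = ((x : Ω)⁻¹ * φ x)⁻¹ := by group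
    show (φ x)⁻¹ * (x : Ω) ∈ T
    rw [e]
    exact T.inv_mem h1

theorem trivSystem_hom (F : FusionSystem S) (T : Subgroup Ω)
    (hT : ∀ x ∈ S, ∀ s ∈ S, x⁻¹ * (s * x * s⁻¹) ∈ T) (P : Subgroup Ω) :
    (trivSystem F T hT).Hom P = {φ | φ ∈ F.Hom P ∧ ∀ x : P, (x : Ω)⁻¹ * φ x ∈ T} := rfl

end Cfsg.Agent.H9TR
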