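import Mathlib
import Cfsg.Prelude.Def_FusionSystem
import Cfsg.Prelude.Def_FusionReduction
import Cfsg.Prelude.Def_FusionComponents
import Cfsg.Agent.Lib.Helper9.TR2
import Cfsg.Agent.Lib.Helper9.TR3

set_option autoImplicit false

/-!
# Control of transfer (part 4): the case of a normal subgroup `Q` with `Aut_D(Q)` a `p`-group
-/

namespace Cfsg.Agent.H9TR

open Cfsg Cfsg.FusionSystem Cfsg.Agent.Lib.Helper9 Cfsg.Agent.H9KL Cfsg.Agent.H9ZW
open scoped commutatorElement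

universe u

variable {p : ℕ} {W : ∀ (Q : Type u) [Group Q], Subgroup Q}

/-- The commutator subgroup of `S` lies in `T` if the maps of `N_F(W(S))` are trivial modulo `T`. -/
theorem comm_le_of_trivModN [hp : Fact p.Prime] (hW : IsGF p PUnit.{1} W) {Ω : Type u} [Group Ω]
    {S : Subgroup Ω} [Finite S] (hS : IsPGroup p S) {F : FusionSystem S} {T : Subgroup Ω}
    (hZ : TrivModN F (Wof W S) T) : ∀ x ∈ S, ∀ s ∈ S, x⁻¹ * (s * x * s⁻¹) ∈ T := by
  have hX₀S : Wof W S ≤ S := Wof_le W S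
  have hSN : S ≤ Subgroup.normalizer ((Wof W S : Subgroup Ω) : Set Ω) :=
    (Subgroup.le_normalizer).trans (normalizer_le_normalizer_Wof hW hS)
  have hNX : normalizerIn S (Wof W S) = S := le_antisymm inf_le_left (le_inf le_rfl hSN)
  intro x hx s hs
  exact hZ.comm hX₀S (by rw [hNX]; exact hx) (by rw [hNX]; exact hs)

theorem comm_le_of_trivModN' [hp : Fact p.Prime] (hW : IsGF p PUnit.{1} W) {Ω : Type u} [Group Ω]
    {S : Subgroup Ω} [Finite S] (hS : IsPGroup p S) {F : FusionSystem S} {T : Subgroup Ω}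
    (hZ : TrivModN F (Wof W S) T) : ⁅S, S⁆ ≤ T := by
  rw [Subgroup.commutator_le]
  intro a ha b hb
  have h := comm_le_of_trivModN hW hS hZ a⁻¹ (S.inv_mem ha) b hb
  have e : ⁅a, b⁆ = (a⁻¹)⁻¹ * (b * a⁻¹ * b⁻¹) := by rw [commutatorElement_def]; group
  rw [e]
  exact h

/-- In a saturated system `D` with a normal subgroup `Q`, `1 ≠ Q ≠ S`: if `foc(D) ∩ Q ≤ T ∩ foc(D)`, all maps are
trivial modulo `T`. -/
theorem trivMod_of_inf_le [hp : Fact p.Prime] (hW : IsGF p PUnit.{1} W) {Ω : Type u} [Group Ω]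
    {S : Subgroup Ω} [Finite S] (hS : IsPGroup p S) (ih : ∀ k < Nat.card S, TRStatement p W k)
    (D : FusionSystem S) (hD : D.IsSaturated p) {Q : Subgroup Ω} (hQ : D.IsNormal Q) (hQne : Q ≠ ⊥)
    (hQS' : Q ≠ S) {T : Subgroup Ω} (hZ : TrivModN D (Wof W S) T)
    (hstep : ∀ F' : FusionSystem S, F'.IsSaturated p → ∀ Y : Subgroup Ω, F'.IsNormal Y →
      Nat.card Q < Nat.card Y → ∀ T' : Subgroup Ω, TrivModN F' (Wof W S) T' → TrivMod F' T')
    (hinf : D.focalSubgroup ⊓ Q ≤ T ⊓ D.focalSubgroup) : TrivMod D T := by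
  have hZ₀ := hZ.inf_focal
  have hmod := tr_mod hW hS ih D hD hQ hQne hQS' hZ₀
    (fun F' hF' Y hY hlt hZ' => hstep F' hF' Y hY hlt _ hZ')
  intro P φ hφ x
  obtain ⟨t, ht, htq⟩ := hmod P φ hφ x
  have hy : (x : Ω)⁻¹ * φ x ∈ D.focalSubgroup := Subgroup.subset_closure ⟨P, φ, x, hφ, rfl⟩
  have h1 : t⁻¹ * ((x : Ω)⁻¹ * φ x) ∈ D.focalSubgroup ⊓ Q :=
    ⟨Subgroup.mul_mem _ (Subgroup.inv_mem _ ht.2) hy, htq⟩
  have h2 := hinf h1
  have e : (x : Ω)⁻¹ * φ x = t * (t⁻¹ * ((x : Ω)⁻¹ * φ x)) := by group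
  rw [e]
  exact T.mul_mem ht.1 h2.1

/-- The case of a system `D` with `Q` normal and `Aut_D(Q)` a `p`-group. -/
theorem tr_SC [hp : Fact p.Prime] (hW : IsGF p PUnit.{1} W) {Ω : Type u} [Group Ω] {S : Subgroup Ω}
    [Finite S] (hS : IsPGroup p S) (ih : ∀ k < Nat.card S, TRStatement p W k)
    (D : FusionSystem S) (hD : D.IsSaturated p) {Q : Subgroup Ω} (hQ : D.IsNormal Q) (hQne : Q ≠ ⊥)
    (hQS' : Q ≠ S) (hQp : IsPGroup p (D.autGroup Q)) {T : Subgroup Ω}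
    (hZ : TrivModN D (Wof W S) T)
    (hstep : ∀ F' : FusionSystem S, F'.IsSaturated p → ∀ Y : Subgroup Ω, F'.IsNormal Y →
      Nat.card Q < Nat.card Y → ∀ T' : Subgroup Ω, TrivModN F' (Wof W S) T' → TrivMod F' T') :
    TrivMod D T := by
  apply trivMod_of_inf_le hW hS ih D hD hQ hQne hQS' hZ hstep
  have h1 := focal_inf_le_of_SC p hS D hD hQ hQp
  have h2 : ⁅S, S⁆ ≤ T := comm_le_of_trivModN' hW hS hZ
  have h3 : ⁅S, S⁆ ≤ D.focalSubgroup := Cfsg.Agent.Lib.Helper8.CB.commutator_le_focal D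
  exact h1.trans (le_inf h2 h3)

end Cfsg.Agent.H9TR
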