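import Mathlib
import Cfsg.Prelude.Def_FusionSystem
import Cfsg.Prelude.Def_FusionReduction
import Cfsg.Prelude.Def_FusionComponents
import Cfsg.Agent.Lib.Helper9.TR4
import Cfsg.Agent.Lib.Helper9.ZX3
import Cfsg.Agent.Lib.Helper9.KL2
import Cfsg.Agent.Lib.Helper9.PCore

set_option autoImplicit false

/-!
# Control of transfer (part 5): the constrained case, through the model
-/

namespace Cfsg.Agent.H9TR

open Cfsg Cfsg.FusionSystem Cfsg.Agent.Lib.Helper9 Cfsg.Agent.H9KL Cfsg.Agent.H9ZW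
open scoped commutatorElement

universe u

/-- The local condition on the functor `W`: `O_p(G) ∩ G' = O_p(G) ∩ N_G(W(P))'` for every finite group `G` with
Sylow `p`-subgroup `P` and `C_G(O_p(G)) ≤ O_p(G)`. -/
def LocalTransfer (p : ℕ) (W : ∀ (Q : Type u) [Group Q], Subgroup Q) : Prop :=
  ∀ (G : Type u) [Group G] [Finite G] (P : Sylow p G),
    Subgroup.centralizer ((Cfsg.pCore p G : Subgroup G) : Set G) ≤ Cfsg.pCore p G →
    Cfsg.pCore p G ⊓ commutator G =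
      Cfsg.pCore p G ⊓ (commutator ↥(Subgroup.normalizer ((Wof W (P : Subgroup G) : Subgroup G) : Set G))).map
        (Subgroup.normalizer ((Wof W (P : Subgroup G) : Subgroup G) : Set G)).subtype

variable {p : ℕ} {W : ∀ (Q : Type u) [Group Q], Subgroup Q}

/-- If `S` is normal in `F`, every map of `F` is a map of `N_F(W(S))`. -/
theorem trivMod_of_top_normal [hp : Fact p.Prime] (hW : IsGF p PUnit.{1} W) {Ω : Type u} [Group Ω]
    {S : Subgroup Ω} [Finite S] (hS : IsPGroup p S) (F : FusionSystem S) (hQ : F.IsNormal S)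
    {T : Subgroup Ω} (hZ : TrivModN F (Wof W S) T) : TrivMod F T := by
  have hX₀S : Wof W S ≤ S := Wof_le W S
  have hSN : S ≤ Subgroup.normalizer ((Wof W S : Subgroup Ω) : Set Ω) :=
    (Subgroup.le_normalizer).trans (normalizer_le_normalizer_Wof hW hS)
  intro P φ hφ x
  have hPS := (F.le_of_mem hφ).1
  obtain ⟨ψ, hψ, hψP, -⟩ := hQ.2 P φ hφ
  have hρ := fs_restrict_mem F hψ (le_sup_right : S ≤ P ⊔ S)
  obtain ⟨β, hβ, Hβ⟩ := fs_hom_to_aut F hρ (F.le_of_mem hρ).2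
  have hβhom := (mem_autGroup_iff F le_rfl β).mp hβ
  have hN : S.subtype.comp β.toMonoidHom ∈ F.normalizerHom (Wof W S) S := by
    haveI : Finite ↥(Wof W S) := fs_finite_of_le hX₀S
    refine mem_normalizerHom_of_map_eq F hX₀S hβhom (fun x hx => ⟨hx, hSN hx⟩) ?_
    apply map_eq_of_le_of_injective hX₀S _ (F.injective_of_mem hβhom) _ le_rfl
    rintro _ ⟨x, hx, rfl⟩
    have hx' : (x : Ω) ∈ Wof W S := hx
    exact (Wof_equiv hW hS (β : S ≃* S) x).mpr hx'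
  have h1 := hZ S _ hN ⟨x, hPS x.2⟩
  have h2 : (S.subtype.comp β.toMonoidHom) ⟨x, hPS x.2⟩ = φ x := by
    show ((β ⟨x, hPS x.2⟩ : S) : Ω) = φ x
    rw [Hβ, ← hψP x]
    rfl
  rw [h2] at h1
  exact h1

/-- The constrained case: `foc(F) ∩ Q ≤ T`, through the model. -/
theorem focal_inf_le_of_model [hp : Fact p.Prime] (hW : IsGF p PUnit.{1} W) (hC : LocalTransfer p W)
    {Ω : Type u} [Group Ω] {S : Subgroup Ω} [Finite S] (hS : IsPGroup p S) (F : FusionSystem S)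
    (hF : F.IsSaturated p) {Q : Subgroup Ω} (hQ : F.IsNormal Q) (hc : centralizerIn S Q ≤ Q)
    {T : Subgroup Ω} (hZ : TrivModN F (Wof W S) T) : F.focalSubgroup ⊓ Q ≤ T := by
  have hQS := hQ.1
  have hQsc := fs_stronglyClosed_of_isNormal F hQ
  have hSQ := fs_stronglyClosed_le_normalizer F hQsc
  have hfn := fullyNormalized_of_le_normalizer F hQS hSQ
  have hQc : F.IsCentric Q := fs_centric_of_fullyCentralized_of_le F (fs_sylow_axiom p hS F hF hfn).1 hc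
  obtain ⟨G, instG, ι, hmodel⟩ := Cfsg.Agent.S5090.result p hS F ⟨hF, Q, hQ, hQc⟩
  have hQn := model_image_normal p F ι hmodel hQ
  obtain ⟨hfin, hreal, ⟨Sy, hSy⟩, hcent⟩ := hmodel
  haveI := hfin
  have hinj := hreal.1
  have hloc := hC G Sy hcent
  have hX₀S : Wof W S ≤ S := Wof_le W S
  have hSN : S ≤ Subgroup.normalizer ((Wof W S : Subgroup Ω) : Set Ω) :=
    (Subgroup.le_normalizer).trans (normalizer_le_normalizer_Wof hW hS)
  have hNX : normalizerIn S (Wof W S) = S := le_antisymm inf_le_left (le_inf le_rfl hSN)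
  have hSyp : IsPGroup p ↥(Sy : Subgroup G) := Sy.2
  have hXeq : Wof W (Sy : Subgroup G) = Wof W ι.range := Wof_congr W hSy
  have hQO : (Q.subgroupOf S).map ι ≤ Cfsg.pCore p G :=
    le_pCore hQn ((hS.to_subgroup _).map ι)
  -- the focal subgroup maps into the commutator subgroup of `G`
  have hfocG : F.focalSubgroup ≤ preimageAlong ι (commutator G) := by
    unfold FusionSystem.focalSubgroup
    rw [Subgroup.closure_le]
    rintro _ ⟨P, φ, x, hφ, rfl⟩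
    obtain ⟨hPS, hφS⟩ := F.le_of_mem hφ
    obtain ⟨g, Hg⟩ := (hreal.2 P hPS φ hφS).mp hφ
    rw [SetLike.mem_coe, mem_preimageAlong_iff]
    refine ⟨S.mul_mem (S.inv_mem (hPS x.2)) (hφS x), ?_⟩
    have e : (⟨(x : Ω)⁻¹ * φ x, S.mul_mem (S.inv_mem (hPS x.2)) (hφS x)⟩ : S) =
        (⟨x, hPS x.2⟩ : S)⁻¹ * ⟨φ x, hφS x⟩ := rfl
    rw [e, map_mul, map_inv, Hg x]
    have e2 : (ι ⟨x, hPS x.2⟩)⁻¹ * (g * ι ⟨x, hPS x.2⟩ * g⁻¹) = ⁅(ι ⟨x, hPS x.2⟩)⁻¹, g⁆ := by
      rw [commutatorElement_def]; group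
    rw [e2, commutator_def]
    exact Subgroup.commutator_mem_commutator (Subgroup.mem_top _) (Subgroup.mem_top _)
  -- the normalizer of `W(Sy)` and its Sylow subgroup
  have hSyN : (Sy : Subgroup G) ≤ Subgroup.normalizer ((Wof W (Sy : Subgroup G) : Subgroup G) : Set G) :=
    (Subgroup.le_normalizer).trans (normalizer_le_normalizer_Wof hW hSyp)
  obtain ⟨N, hNdef⟩ : ∃ N : Subgroup G,
      N = Subgroup.normalizer ((Wof W (Sy : Subgroup G) : Subgroup G) : Set G) := ⟨_, rfl⟩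
  rw [← hNdef] at hloc hSyN
  have hfst := Subgroup.commutator_inf_eq_focalSubgroup (Sy.subtype hSyN)
  -- the focal subgroup of `Sy` in `N` lies in the image of `T`
  have hfocN : ((Sy.subtype hSyN : Sylow p N) : Subgroup N).focalSubgroup ≤
      ((T.subgroupOf S).map ι).comap N.subtype := by
    rw [Subgroup.focalSubgroup_def, Subgroup.closure_le]
    rintro g ⟨hg, a, ha, u, hgau⟩
    rw [Sylow.coe_subtype, Subgroup.mem_subgroupOf] at hg ha
    rw [hSy] at hg ha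
    obtain ⟨s, hs⟩ := ha
    have huN : (u : G) ∈ Subgroup.normalizer ((Wof W (Sy : Subgroup G) : Subgroup G) : Set G) := by
      rw [← hNdef]; exact u.2
    have hgW : ∀ w ∈ Wof W ι.range, (u : G) * w * (u : G)⁻¹ ∈ Wof W ι.range := by
      intro w hw
      rw [← hXeq] at hw ⊢
      exact (Subgroup.mem_normalizer_iff.mp huN w).mp hw
    have hgG : (g : G) = ⁅(a : G), (u : G)⁆ := by
      rw [hgau]; rfl
    have hsz : (s : Ω)⁻¹ ∈ Subgroup.zpowers ((s : Ω)⁻¹) := Subgroup.mem_zpowers _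
    have hzS : Subgroup.zpowers ((s : Ω)⁻¹) ≤ S := by
      rw [Subgroup.zpowers_le]; exact S.inv_mem s.2
    have hVS : Subgroup.zpowers ((s : Ω)⁻¹) ⊔ Wof W S ≤ S := sup_le hzS hX₀S
    have hbase : (u : G) * (ι s)⁻¹ * (u : G)⁻¹ ∈ ι.range := by
      have e : (u : G) * (ι s)⁻¹ * (u : G)⁻¹ = (ι s)⁻¹ * ⁅(a : G), (u : G)⁆ := by
        rw [commutatorElement_def, ← hs]; group
      rw [e, ← hgG]
      exact ι.range.mul_mem (ι.range.inv_mem ⟨s, rfl⟩) hg
    have h : ∀ x : ↥(Subgroup.zpowers ((s : Ω)⁻¹) ⊔ Wof W S),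
        (u : G) * ι ⟨x, hVS x.2⟩ * (u : G)⁻¹ ∈ ι.range := by
      have := sup_forall_mem (P := Subgroup.zpowers ((s : Ω)⁻¹)) (Q := Wof W S)
        ((MulAut.conj (u : G)).toMonoidHom.comp (ι.comp (Subgroup.inclusion hVS))) ι.range ?_ ?_
      · exact this
      · intro x
        show (u : G) * ι ⟨x, _⟩ * (u : G)⁻¹ ∈ ι.range
        obtain ⟨k, hk⟩ := Subgroup.mem_zpowers_iff.mp x.2
        have e : (⟨(x : Ω), hzS x.2⟩ : S) = (s⁻¹) ^ k := by
          apply Subtype.ext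
          rw [Subgroup.coe_zpow, Subgroup.coe_inv]
          exact hk.symm
        have e2 : (u : G) * ι ⟨x, hzS x.2⟩ * (u : G)⁻¹ = ((u : G) * (ι s)⁻¹ * (u : G)⁻¹) ^ k := by
          rw [e, map_zpow, map_inv, conj_zpow]
        exact e2 ▸ ι.range.zpow_mem hbase k
      · intro x
        show (u : G) * ι ⟨x, _⟩ * (u : G)⁻¹ ∈ ι.range
        have hx1 : ι ⟨x, hX₀S x.2⟩ ∈ Wof W ι.range := (Wof_range_iff hW hS ι hinj ⟨x, hX₀S x.2⟩).mpr x.2
        exact Wof_le W _ (hgW _ hx1)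
    have hψ := liftConj_mem_hom hreal hVS (u : G) h
    have hψS := liftConj_mem ι hinj hVS (u : G) h
    have hψN : liftConj ι hinj hVS (u : G) h ∈
        F.normalizerHom (Wof W S) (Subgroup.zpowers ((s : Ω)⁻¹) ⊔ Wof W S) := by
      haveI : Finite ↥(Wof W S) := fs_finite_of_le hX₀S
      refine mem_normalizerHom_of_map_eq F le_sup_right hψ (by rw [hNX]; exact hVS) ?_
      apply map_eq_of_le_of_injective le_sup_right _ (F.injective_of_mem hψ) _ le_rfl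
      rintro _ ⟨x, hx, rfl⟩
      have hx' : (x : Ω) ∈ Wof W S := hx
      have hx1 : ι ⟨x, hVS x.2⟩ ∈ Wof W ι.range := (Wof_range_iff hW hS ι hinj ⟨x, hVS x.2⟩).mpr hx'
      have hx2 := hgW _ hx1
      rw [← ι_liftConj ι hinj hVS (u : G) h x (hψS x)] at hx2
      exact (Wof_range_iff hW hS ι hinj ⟨_, hψS x⟩).mp hx2
    have hfix := hZ _ _ hψN ⟨(s : Ω)⁻¹, le_sup_left (b := Wof W S) hsz⟩
    have h3 := ι_liftConj ι hinj hVS (u : G) h ⟨(s : Ω)⁻¹, le_sup_left (b := Wof W S) hsz⟩ (hψS _)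
    rw [SetLike.mem_coe, Subgroup.mem_comap]
    have hmemS : ((s : Ω)⁻¹)⁻¹ * liftConj ι hinj hVS (u : G) h ⟨(s : Ω)⁻¹, le_sup_left (b := Wof W S) hsz⟩ ∈ S :=
      S.mul_mem (S.inv_mem (S.inv_mem s.2)) (hψS _)
    refine ⟨⟨_, hmemS⟩, hfix, ?_⟩
    have e3 : (⟨((s : Ω)⁻¹)⁻¹ * liftConj ι hinj hVS (u : G) h ⟨(s : Ω)⁻¹, le_sup_left (b := Wof W S) hsz⟩,
        hmemS⟩ : S) = (s⁻¹)⁻¹ * ⟨liftConj ι hinj hVS (u : G) h ⟨(s : Ω)⁻¹, le_sup_left (b := Wof W S) hsz⟩,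
          hψS _⟩ := rfl
    have e4 : (⟨((⟨(s : Ω)⁻¹, le_sup_left (b := Wof W S) hsz⟩ :
        ↥(Subgroup.zpowers ((s : Ω)⁻¹) ⊔ Wof W S)) : Ω), hVS (le_sup_left (b := Wof W S) hsz)⟩ : S) = s⁻¹ := rfl
    rw [e4] at h3
    rw [e3, map_mul, h3, map_inv, map_inv, inv_inv]
    show ι s * ((u : G) * (ι s)⁻¹ * (u : G)⁻¹) = (g : G)
    rw [hgG, commutatorElement_def, ← hs]
    group
  -- conclusion
  rintro y ⟨hyf, hyQ⟩
  have hyS : y ∈ S := hQS hyQ
  obtain ⟨hyS', hyc⟩ := (mem_preimageAlong_iff ι _ y).mp (hfocG hyf)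
  have h1 : ι ⟨y, hyS⟩ ∈ Cfsg.pCore p G ⊓ commutator G :=
    ⟨hQO ⟨⟨y, hyS⟩, hyQ, rfl⟩, hyc⟩
  rw [hloc] at h1
  obtain ⟨n, hn, hny⟩ := h1.2
  have hnSy : n ∈ ((Sy.subtype hSyN : Sylow p N) : Subgroup N) := by
    rw [Sylow.coe_subtype, Subgroup.mem_subgroupOf, hSy]
    exact ⟨⟨y, hyS⟩, hny.symm⟩
  have h2 : n ∈ ((Sy.subtype hSyN : Sylow p N) : Subgroup N).focalSubgroup := by
    rw [← hfst]
    exact ⟨hn, hnSy⟩
  have h3 := hfocN h2
  rw [Subgroup.mem_comap] at h3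
  obtain ⟨t, ht, htn⟩ := h3
  have h4 : t = ⟨y, hyS⟩ := hinj (htn.trans hny)
  rw [h4] at ht
  exact ht

/-- The constrained case. -/
theorem tr_centric [hp : Fact p.Prime] (hW : IsGF p PUnit.{1} W) (hC : LocalTransfer p W) {Ω : Type u}
    [Group Ω] {S : Subgroup Ω} [Finite S] (hS : IsPGroup p S) (ih : ∀ k < Nat.card S, TRStatement p W k)
    (F : FusionSystem S) (hF : F.IsSaturated p) {Q : Subgroup Ω} (hQ : F.IsNormal Q) (hQne : Q ≠ ⊥)
    (hc : centralizerIn S Q ≤ Q) {T : Subgroup Ω} (hZ : TrivModN F (Wof W S) T)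
    (hstep : ∀ F' : FusionSystem S, F'.IsSaturated p → ∀ Y : Subgroup Ω, F'.IsNormal Y →
      Nat.card Q < Nat.card Y → ∀ T' : Subgroup Ω, TrivModN F' (Wof W S) T' → TrivMod F' T') :
    TrivMod F T := by
  by_cases hQS' : Q = S
  · subst hQS'
    exact trivMod_of_top_normal hW hS F hQ hZ
  · apply trivMod_of_inf_le hW hS ih F hF hQ hQne hQS' hZ hstep
    exact le_inf (focal_inf_le_of_model hW hC hS F hF hQ hc hZ) inf_le_left

end Cfsg.Agent.H9TR
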