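import Mathlib
import Cfsg.Prelude.Def_FusionSystem
import Cfsg.Prelude.Def_FusionReduction
import Cfsg.Agent.Lib.Helper9.TR5
import Cfsg.Agent.Lib.Helper9.ZX5
import Cfsg.Agent.Lib.Helper9.ZX7
import Cfsg.Agent.Lib.Helper9.ZW7

set_option autoImplicit false

/-!
# Control of transfer (part 6): systems with a nontrivial normal subgroup
-/

namespace Cfsg.Agent.H9TR

open Cfsg Cfsg.FusionSystem Cfsg.Agent.Lib.Helper9 Cfsg.Agent.H9KL Cfsg.Agent.H9ZW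

universe u

/-- If `Q` is normal in the saturated system `F`, the maps normalizing `Q C_S(Q)` are trivial modulo `T` and the maps
which are the identity on `Q` are trivial modulo `T`, then all maps are trivial modulo `T`. -/
theorem trivMod_of_decomp {Ω : Type*} [Group Ω] {S : Subgroup Ω} [Finite S] (p : ℕ) [Fact p.Prime]
    (hS : IsPGroup p S) (F : FusionSystem S)
    (hF : F.IsSaturated p) {Q : Subgroup Ω} (hQ : F.IsNormal Q) {T : Subgroup Ω}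
    (h1 : ∀ (P : Subgroup Ω) (ψ : P →* Ω), Q ⊔ centralizerIn S Q ≤ P → ψ ∈ F.Hom P →
      ((Q ⊔ centralizerIn S Q).subgroupOf P).map ψ = Q ⊔ centralizerIn S Q →
        ∀ x : P, (x : Ω)⁻¹ * ψ x ∈ T)
    (h2 : ∀ (P : Subgroup Ω) (δ : P →* Ω) (hQP : Q ≤ P), δ ∈ F.Hom P →
      (∀ q : Q, δ (Subgroup.inclusion hQP q) = (q : Ω)) → ∀ x : P, (x : Ω)⁻¹ * δ x ∈ T) :
    TrivMod F T := by
  intro P₀ φ₀ hφ₀ x₀
  obtain ⟨φ, hφ, hφP₀, -⟩ := hQ.2 P₀ φ₀ hφ₀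
  have hQP : Q ≤ P₀ ⊔ Q := le_sup_right
  have hQsc := fs_stronglyClosed_of_isNormal F hQ
  rw [← hφP₀ x₀]
  suffices H : ∀ x : ↥(P₀ ⊔ Q), (x : Ω)⁻¹ * φ x ∈ T from H (Subgroup.inclusion le_sup_left x₀)
  obtain ⟨Γ, hΓ, hΓQ, hΓR⟩ := exists_Gamma p hS F hF hQ hQP hφ
  have hR1M : Q ⊔ centralizerIn S Q ≤ (P₀ ⊔ Q) ⊔ centralizerIn S Q :=
    sup_le (hQP.trans le_sup_left) le_sup_right
  have hΓfix := h1 _ Γ hR1M hΓ hΓR
  obtain ⟨ΓP, hΓPdef⟩ : ∃ ΓP : ↥(P₀ ⊔ Q) →* Ω,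
      ΓP = Γ.comp (Subgroup.inclusion (le_sup_left : P₀ ⊔ Q ≤ (P₀ ⊔ Q) ⊔ centralizerIn S Q)) := ⟨_, rfl⟩
  have hΓP : ΓP ∈ F.Hom (P₀ ⊔ Q) := by rw [hΓPdef]; exact fs_restrict_mem F hΓ le_sup_left
  have hΓPQ : ∀ x : ↥(P₀ ⊔ Q), (x : Ω) ∈ Q → ΓP x = φ x := by
    intro x hx
    rw [hΓPdef]
    have := hΓQ ⟨x, hx⟩
    exact this
  obtain ⟨ι, hι, Hι⟩ := F.inv_mem hΓP
  have hιP : ∀ y : ΓP.range, ι y ∈ P₀ ⊔ Q := by
    rintro ⟨_, x, rfl⟩
    rw [Hι x]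
    exact x.2
  have hδ : φ.comp (ι.codRestrict (P₀ ⊔ Q) hιP) ∈ F.Hom ΓP.range := F.comp_mem hι hφ hιP
  have Hδ : ∀ x : ↥(P₀ ⊔ Q), (φ.comp (ι.codRestrict (P₀ ⊔ Q) hιP)) ⟨ΓP x, ⟨x, rfl⟩⟩ = φ x := by
    intro x
    show φ ⟨ι ⟨ΓP x, _⟩, _⟩ = φ x
    congr 1
    exact Subtype.ext (Hι x)
  have hsurjQ : ∀ q : Q, ∃ x : ↥(P₀ ⊔ Q), (x : Ω) ∈ Q ∧ φ x = q ∧ ΓP x = q := by
    intro q
    obtain ⟨x, hxQ, hxq⟩ := fs_stronglyClosed_surj F hQsc hφ hQP q.2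
    exact ⟨x, hxQ, hxq, (hΓPQ x hxQ).trans hxq⟩
  have hQP' : Q ≤ ΓP.range := by
    intro q hq
    obtain ⟨x, -, -, hx⟩ := hsurjQ ⟨q, hq⟩
    exact ⟨x, hx⟩
  have hid : ∀ q : Q, (φ.comp (ι.codRestrict (P₀ ⊔ Q) hιP)) (Subgroup.inclusion hQP' q) = (q : Ω) := by
    intro q
    obtain ⟨x, -, hxφ, hxΓ⟩ := hsurjQ q
    have e : Subgroup.inclusion hQP' q = ⟨ΓP x, ⟨x, rfl⟩⟩ := Subtype.ext hxΓ.symm
    rw [e, Hδ x, hxφ]
  have hδfix := h2 _ _ hQP' hδ hid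
  intro x
  have e1 : (x : Ω)⁻¹ * ΓP x ∈ T := by
    rw [hΓPdef]
    exact hΓfix (Subgroup.inclusion le_sup_left x)
  have e2 := hδfix ⟨ΓP x, ⟨x, rfl⟩⟩
  rw [Hδ x] at e2
  have e3 : (x : Ω)⁻¹ * φ x = ((x : Ω)⁻¹ * ΓP x) * ((ΓP x)⁻¹ * φ x) := by group
  rw [e3]
  exact T.mul_mem e1 e2

variable {p : ℕ} {W : ∀ (Q : Type u) [Group Q], Subgroup Q}

/-- The non-centric case. -/
theorem tr_nonCentric [hp : Fact p.Prime] (hW : IsGF p PUnit.{1} W) {Ω : Type u} [Group Ω] {S : Subgroup Ω}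
    [Finite S] (hS : IsPGroup p S) (ih : ∀ k < Nat.card S, TRStatement p W k)
    (F : FusionSystem S) (hF : F.IsSaturated p) {Q : Subgroup Ω} (hQ : F.IsNormal Q) (hQne : Q ≠ ⊥)
    (hnc : ¬ centralizerIn S Q ≤ Q) {T : Subgroup Ω} (hZ : TrivModN F (Wof W S) T)
    (hstep : ∀ F' : FusionSystem S, F'.IsSaturated p → ∀ Y : Subgroup Ω, F'.IsNormal Y →
      Nat.card Q < Nat.card Y → ∀ T' : Subgroup Ω, TrivModN F' (Wof W S) T' → TrivMod F' T') :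
    TrivMod F T := by
  have hQS := hQ.1
  have hQsc := fs_stronglyClosed_of_isNormal F hQ
  have hSQ := fs_stronglyClosed_le_normalizer F hQsc
  have hQS' : Q ≠ S := by
    intro h
    apply hnc
    intro c hc
    rw [h]
    exact hc.1
  -- the maps normalizing `Q C_S(Q)`
  have hR1S : Q ⊔ centralizerIn S Q ≤ S := sup_le hQS inf_le_left
  have hSR1 := le_normalizer_sup_centralizerIn hSQ
  have hA := normalizer_triv p hS F hF hR1S hSR1 hZ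
    (fun F' hF' hY hZ' => hstep F' hF' _ hY (card_lt_sup_centralizerIn hQS hnc) _ hZ')
  -- the system `S C_F(Q)`
  obtain ⟨D, hD⟩ := exists_SC_system F Q hQS hSQ
  have hDsat := SC_saturated p hS F hF hQS hSQ D hD
  have hDle := SC_le F D hD
  have hQD := SC_isNormal F hQS hSQ D hD
  have hQpD : IsPGroup p (D.autGroup Q) :=
    (isPGroup_autInducedBy p hS Q).to_le (SC_autGroup_le F hQS D hD)
  have hDfix : TrivMod D T :=
    tr_SC hW hS ih D hDsat hQD hQne hQS' hQpD (hZ.mono le_rfl hDle) hstep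
  have hB : ∀ (P : Subgroup Ω) (δ : P →* Ω) (hQP : Q ≤ P), δ ∈ F.Hom P →
      (∀ q : Q, δ (Subgroup.inclusion hQP q) = (q : Ω)) → ∀ x : P, (x : Ω)⁻¹ * δ x ∈ T := by
    intro P δ hQP hδ hid x
    exact hDfix P δ (SC_mem_of_id F hSQ D hD hQP hδ hid) x
  exact trivMod_of_decomp p hS F hF hQ hA hB

/-- Systems with a nontrivial normal subgroup: downward induction on the order of the normal subgroup. -/
theorem tr_normal [hp : Fact p.Prime] (hW : IsGF p PUnit.{1} W) (hC : LocalTransfer p W) {Ω : Type u} [Group Ω]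
    {S : Subgroup Ω} [Finite S] (hS : IsPGroup p S) (ih : ∀ k < Nat.card S, TRStatement p W k) :
    ∀ (j : ℕ) (F : FusionSystem S), F.IsSaturated p → ∀ Q : Subgroup Ω, F.IsNormal Q → Q ≠ ⊥ →
      Nat.card S - Nat.card Q = j → ∀ T : Subgroup Ω, TrivModN F (Wof W S) T → TrivMod F T := by
  intro j
  induction j using Nat.strong_induction_on with
  | _ j ihj =>
  intro F hF Q hQ hQne hj T hZ
  have hQS := hQ.1
  haveI : Finite Q := fs_finite_of_le hQS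
  have hstep : ∀ F' : FusionSystem S, F'.IsSaturated p → ∀ Y : Subgroup Ω, F'.IsNormal Y →
      Nat.card Q < Nat.card Y → ∀ T' : Subgroup Ω, TrivModN F' (Wof W S) T' → TrivMod F' T' := by
    intro F' hF' Y hY hlt T' hZ'
    have hYS := hY.1
    haveI : Finite Y := fs_finite_of_le hYS
    have hYne : Y ≠ ⊥ := by
      intro h
      rw [h, Subgroup.card_bot] at hlt
      have : 0 < Nat.card Q := Nat.card_pos
      omega
    have hcY : Nat.card Y ≤ Nat.card S := Subgroup.card_le_of_le hYS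
    have hcQ : Nat.card Q ≤ Nat.card S := Subgroup.card_le_of_le hQS
    exact ihj (Nat.card S - Nat.card Y) (by omega) F' hF' Y hY hYne rfl T' hZ'
  by_cases hc : centralizerIn S Q ≤ Q
  · exact tr_centric hW hC hS ih F hF hQ hQne hc hZ hstep
  · exact tr_nonCentric hW hS ih F hF hQ hQne hc hZ hstep

end Cfsg.Agent.H9TR
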