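import Mathlib
import Cfsg.Prelude.Def_FusionSystem
import Cfsg.Prelude.Def_FusionReduction
import Cfsg.Agent.Lib.Helper9.TR6
import Cfsg.Agent.Lib.Helper9.ZX2
import Cfsg.Agent.Lib.Helper9.ZX8

set_option autoImplicit false

/-!
# Control of transfer (part 7): the main induction
-/

namespace Cfsg.Agent.H9TR

open Cfsg Cfsg.FusionSystem Cfsg.Agent.Lib.Helper9 Cfsg.Agent.H9KL Cfsg.Agent.H9ZW Cfsg.Agent.H9ZJ

universe u

variable {p : ℕ} {W : ∀ (Q : Type u) [Group Q], Subgroup Q}

/-- A fully normalized maximal member of `𝔅` leads to a contradiction. -/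
theorem tr_false_of_max [hp : Fact p.Prime] (hW : IsGF p PUnit.{1} W) (hC : LocalTransfer p W) {Ω : Type u}
    [Group Ω] {S : Subgroup Ω} [Finite S] (hS : IsPGroup p S) (ih : ∀ k < Nat.card S, TRStatement p W k)
    (F : FusionSystem S) (hF : F.IsSaturated p) {T : Subgroup Ω}
    (hZ : TrivModN F (Wof W S) T) (hTc : ∀ x ∈ S, ∀ s ∈ S, x⁻¹ * (s * x * s⁻¹) ∈ T)
    {Q : Subgroup Ω} (hQB : InB F (trivSystem F T hTc) 0 Q) (hQfn : F.IsFullyNormalized Q)
    (hmax : ∀ Q' : Subgroup Ω, InB F (trivSystem F T hTc) 0 Q' → mu S Q' ≤ mu S Q) : False := by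
  have hQS : Q ≤ S := hQfn.1
  obtain ⟨hQne, P, φ, -, hQP, hPT, hφ, hφQ, hφ₀⟩ := hQB
  have hTS : normalizerIn S Q ≤ S := inf_le_left
  haveI : Finite ↥(normalizerIn S Q) := fs_finite_of_le hTS
  have hTp : IsPGroup p ↥(normalizerIn S Q) := hS.to_le hTS
  obtain ⟨E, hE⟩ := Cfsg.Agent.S5096.result F Q hQS
  have hEsat := normalizerSystem_saturated p hS F hF hQfn E hE
  have hQn := normalizerSystem_isNormal F hQS E hE
  have hφE : φ ∈ E.Hom P := by
    rw [hE]
    exact mem_normalizerHom_of_map_eq F hQP hφ hPT hφQ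
  have hEle : ∀ P : Subgroup Ω, E.Hom P ⊆ F.Hom P := by
    intro P ψ hψ
    rw [hE] at hψ
    exact hψ.1
  have hnfix : ¬ TrivMod E T := by
    intro hfix
    apply hφ₀
    exact ⟨hφ, fun x => hfix P φ hφE x⟩
  by_cases hT : normalizerIn S Q = S
  · obtain ⟨E', hE', hsat', hQn'⟩ := exists_cast' hT E
      (fun T N => N.IsSaturated p ∧ N.IsNormal Q) ⟨hEsat, hQn⟩
    have hE'le : ∀ P : Subgroup Ω, E'.Hom P ⊆ F.Hom P := by
      intro P ψ hψ
      rw [hE'] at hψ
      exact hEle P hψ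
    have hfix' : TrivMod E' T :=
      tr_normal hW hC hS ih _ E' hsat' Q hQn' hQne rfl T (hZ.mono le_rfl hE'le)
    apply hnfix
    intro P ψ hψ x
    rw [← hE'] at hψ
    exact hfix' P ψ hψ x
  · have hcardT : Nat.card ↥(normalizerIn S Q) < Nat.card S := by
      by_contra hle
      push Not at hle
      exact hT (Subgroup.eq_of_le_of_card_ge hTS hle)
    have hnN : ¬ TrivModN E (Wof W (normalizerIn S Q)) T :=
      fun h => hnfix (ih _ hcardT hTp E hEsat rfl T h)
    unfold TrivModN at hnN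
    push Not at hnN
    obtain ⟨P', ψ, hψN, x', hx'ne⟩ := hnN
    obtain ⟨hψE, hP'N, hvalN, ψ₁, hψ₁, hψ₁P, hψ₁W⟩ := hψN
    have hψ₁F : ψ₁ ∈ F.Hom (P' ⊔ Wof W (normalizerIn S Q)) := hEle _ hψ₁
    have hψ₁₀ : ψ₁ ∉ (trivSystem F T hTc).Hom (P' ⊔ Wof W (normalizerIn S Q)) := by
      intro h
      have h1 := h.2 (Subgroup.inclusion le_sup_left x')
      rw [hψ₁P x'] at h1
      exact hx'ne h1
    have hXT : Wof W (normalizerIn S Q) ≤ normalizerIn S Q := Wof_le W _
    have hQT : Q ≤ normalizerIn S Q := hQP.trans hPT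
    have hTne : normalizerIn S Q ≠ ⊥ := by
      intro h
      apply hQne
      rw [eq_bot_iff, ← h]
      exact hQT
    have hXne : Wof W (normalizerIn S Q) ≠ ⊥ := Wof_ne_bot hW hTp hTne
    have hNN : Subgroup.normalizer ((normalizerIn S Q : Subgroup Ω) : Set Ω) ≤
        Subgroup.normalizer ((Wof W (normalizerIn S Q) : Subgroup Ω) : Set Ω) :=
      normalizer_le_normalizer_Wof hW hTp
    have hP'NS : P' ≤ normalizerIn S (Wof W (normalizerIn S Q)) :=
      fun x hx => ⟨hTS (hP'N hx).1, (hP'N hx).2⟩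
    have hXNS : Wof W (normalizerIn S Q) ≤ normalizerIn S (Wof W (normalizerIn S Q)) :=
      fun x hx => ⟨hTS (hXT hx), Subgroup.le_normalizer hx⟩
    have hPXN : P' ⊔ Wof W (normalizerIn S Q) ≤ normalizerIn S (Wof W (normalizerIn S Q)) :=
      sup_le hP'NS hXNS
    have hXB : InB F (trivSystem F T hTc) 0 (Wof W (normalizerIn S Q)) :=
      ⟨hXne, _, ψ₁, Nat.zero_le _, le_sup_right, hPXN, hψ₁F, hψ₁W, hψ₁₀⟩
    have hmu := hmax _ hXB
    have hlt : normalizerIn S Q < S := lt_of_le_of_ne hTS hT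
    have h1 := fs_lt_normalizerIn p hS hlt
    have h2 : normalizerIn S (normalizerIn S Q) ≤ normalizerIn S (Wof W (normalizerIn S Q)) :=
      fun x hx => ⟨hx.1, hNN hx.2⟩
    have h3 : normalizerIn S Q < normalizerIn S (Wof W (normalizerIn S Q)) := lt_of_lt_of_le h1 h2
    haveI : Finite ↥(normalizerIn S (Wof W (normalizerIn S Q))) := fs_finite_of_le inf_le_left
    have h4 : Nat.card ↥(normalizerIn S Q) < Nat.card ↥(normalizerIn S (Wof W (normalizerIn S Q))) := by
      by_contra hle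
      push Not at hle
      have := Subgroup.eq_of_le_of_card_ge h3.le hle
      exact absurd this h3.ne
    have h5 : Nat.card Q ≤ Nat.card S := fs_card_le_of_le hQS
    unfold mu at hmu
    have h6 : (Nat.card ↥(normalizerIn S Q) + 1) * (Nat.card S + 1) ≤
        Nat.card ↥(normalizerIn S (Wof W (normalizerIn S Q))) * (Nat.card S + 1) :=
      Nat.mul_le_mul_right _ h4
    have h7 : (Nat.card ↥(normalizerIn S Q) + 1) * (Nat.card S + 1)
        = Nat.card ↥(normalizerIn S Q) * (Nat.card S + 1) + (Nat.card S + 1) := by ring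
    omega

/-- The automizer step. -/
theorem tr_main_aut [hp : Fact p.Prime] (hW : IsGF p PUnit.{1} W) (hC : LocalTransfer p W) {Ω : Type u}
    [Group Ω] {S : Subgroup Ω} [Finite S] (hS : IsPGroup p S) (ih : ∀ k < Nat.card S, TRStatement p W k)
    (F : FusionSystem S) (hF : F.IsSaturated p) {T : Subgroup Ω}
    (hZ : TrivModN F (Wof W S) T) (hTc : ∀ x ∈ S, ∀ s ∈ S, x⁻¹ * (s * x * s⁻¹) ∈ T)
    (R : Subgroup Ω) (hRfn : F.IsFullyNormalized R)
    (hbig : ∀ Q : Subgroup Ω, Q ≤ S → Nat.card R < Nat.card Q → F.Hom Q ⊆ (trivSystem F T hTc).Hom Q) :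
    F.autGroup R ≤ (trivSystem F T hTc).autGroup R := by
  intro α₀ hα₀'
  have hRS : R ≤ S := hRfn.1
  haveI : Finite R := fs_finite_of_le hRS
  have hα₀ := (mem_autGroup_iff F hRS α₀).mp hα₀'
  rw [mem_autGroup_iff _ hRS]
  by_contra hne
  have hmapR : (R.subgroupOf R).map (R.subtype.comp α₀.toMonoidHom) = R := by
    ext y
    constructor
    · rintro ⟨x, -, rfl⟩
      exact (α₀ x).2
    · intro hy
      exact ⟨α₀.symm ⟨y, hy⟩, by simp [Subgroup.mem_subgroupOf], by simp⟩
  by_cases hRS' : R = S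
  · subst hRS'
    apply hne
    have hX₀R : Wof W R ≤ R := Wof_le W R
    have hRN : R ≤ Subgroup.normalizer ((Wof W R : Subgroup Ω) : Set Ω) :=
      (Subgroup.le_normalizer).trans (normalizer_le_normalizer_Wof hW hS)
    have hN : R.subtype.comp α₀.toMonoidHom ∈ F.normalizerHom (Wof W R) R := by
      haveI : Finite ↥(Wof W R) := fs_finite_of_le hX₀R
      refine mem_normalizerHom_of_map_eq F hX₀R hα₀ (fun x hx => ⟨hx, hRN hx⟩) ?_
      apply map_eq_of_le_of_injective hX₀R _ (F.injective_of_mem hα₀) _ le_rfl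
      rintro _ ⟨x, hx, rfl⟩
      have hx' : (x : Ω) ∈ Wof W R := hx
      exact (Wof_equiv hW hS (α₀ : R ≃* R) x).mpr hx'
    exact ⟨hα₀, fun x => hZ R _ hN x⟩
  · have hlt : R < S := lt_of_le_of_ne hRS hRS'
    have h1 := fs_lt_normalizerIn p hS hlt
    haveI : Finite ↥(normalizerIn S R) := fs_finite_of_le inf_le_left
    have hmR : Nat.card R < Nat.card ↥(normalizerIn S R) := by
      by_contra hle
      push Not at hle
      exact absurd (Subgroup.eq_of_le_of_card_ge h1.le hle) h1.ne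
    have hRne : R ≠ ⊥ := by
      intro hbot
      apply hne
      have h2 : R.subtype.comp α₀.toMonoidHom = R.subtype := by
        ext x
        have hx : x = 1 := by
          apply Subtype.ext
          have h3 : (x : Ω) ∈ (⊥ : Subgroup Ω) := hbot.le x.2
          exact Subgroup.mem_bot.mp h3
        rw [hx]
        simp
      rw [h2]
      exact fs_subtype_mem _ hRS
    have hRB : InB F (trivSystem F T hTc) 0 R :=
      ⟨hRne, R, _, Nat.zero_le _, le_rfl, fun x hx => ⟨hRS hx, Subgroup.le_normalizer hx⟩, hα₀, hmapR, hne⟩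
    obtain ⟨Q, hQB, hQfn, -, hmax⟩ := exists_max_fn' p hS F _ hF (Nat.card R) hbig hRB hmR
    exact tr_false_of_max hW hC hS ih F hF hZ hTc hQB hQfn hmax

/-- **Control of transfer**: if the maps of `N_F(W(S))` are trivial modulo `T`, so are all maps of the saturated
system `F`. -/
theorem TR_main [hp : Fact p.Prime] (hW : IsGF p PUnit.{1} W) (hC : LocalTransfer p W) :
    ∀ n : ℕ, TRStatement p W n := by
  intro n
  induction n using Nat.strong_induction_on with
  | _ n ih =>
  intro Ω _ S _ hS F hF hn T hZ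
  subst hn
  have hTc := comm_le_of_trivModN hW hS hZ
  have key := fs_le_of_autGroup_le p hS F (trivSystem F T hTc) hF
    (fun R hRfn hbig => tr_main_aut hW hC hS ih F hF hZ hTc R hRfn hbig)
  intro P φ hφ x
  exact (key _ P φ hφ rfl).2 x

end Cfsg.Agent.H9TR
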