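import Mathlib
import Cfsg.Agent.Lib.Helper4.KTransfer
import Cfsg.Agent.Lib.Helper4.TransferSect1
import Cfsg.Agent.Lib.Helper4.TransferControl
import Cfsg.Agent.Lib.Helper4.KInf3
import Cfsg.Agent.Lib.Helper9.PCore
import Cfsg.Agent.S5197

set_option autoImplicit false

/-!
# The focal subgroup for `p ≥ 5` (part 1): `K_∞` controls transfer in fusion systems
-/

namespace Cfsg.Agent.H9KF

open Cfsg Cfsg.FusionSystem Cfsg.Agent.Lib.Helper9 Cfsg.Agent.Lib.Helper4

universe u

/-- Glauberman's `K_∞` satisfies the local transfer condition of `S5197`. -/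
theorem kInfLower_local {p : ℕ} [Fact p.Prime] (hp5 : 5 ≤ p) (G : Type u) [Group G] [Finite G]
    (P : Sylow p G) :
    Cfsg.pCore p G ⊓ commutator G = Cfsg.pCore p G ⊓ (commutator ↥(Subgroup.normalizer
      (((kInfLower ↥(P : Subgroup G)).map (P : Subgroup G).subtype : Subgroup G) : Set G))).map
      (Subgroup.normalizer
        (((kInfLower ↥(P : Subgroup G)).map (P : Subgroup G).subtype : Subgroup G) : Set G)).subtype := by
  have hW := isCharPFunctor_kInfLower.{u} p
  have hcf := isConjugacyFunctor_inducedFunctor (X := G) hW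
  have hct : (P : Subgroup G) ⊓ commutator G = (P : Subgroup G) ⊓
      ⁅Subgroup.normalizer ((inducedFunctor kInfLower (P : Subgroup G) : Subgroup G) : Set G),
        Subgroup.normalizer ((inducedFunctor kInfLower (P : Subgroup G) : Subgroup G) : Set G)⁆ := by
    have hct := kInfLower_ct (G := G) (p := p) hp5
    have h1 := ctWith_of_controls hcf hct (le_top : (P : Subgroup G) ≤ ⊤) P.isPGroup'
      (by rw [Subgroup.relIndex_top_right]; exact P.not_dvd_index)
    unfold CTWith at h1
    rw [top_inf_eq] at h1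
    rw [commutator_def, h1]
  rw [commutator_subgroup_eq_map] at hct
  have hle : Cfsg.pCore p G ≤ P := pCore_le_sylow P
  have h1 : Cfsg.pCore p G = Cfsg.pCore p G ⊓ (P : Subgroup G) := (inf_eq_left.mpr hle).symm
  rw [h1, inf_assoc, inf_assoc, hct]
  rfl

/-- `K_∞` controls transfer in every saturated fusion system, for `p ≥ 5`. -/
theorem kInfLower_focal {p : ℕ} [Fact p.Prime] (hp5 : 5 ≤ p) {Ω : Type u} [Group Ω]
    {S : Subgroup Ω} [Finite S] (hS : IsPGroup p S) (F : FusionSystem S) (hF : F.IsSaturated p)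
    (N : FusionSystem (normalizerIn S ((kInfLower ↥S).map S.subtype)))
    (hN : F.IsNormalizerSystem ((kInfLower ↥S).map S.subtype) N) :
    N.focalSubgroup = F.focalSubgroup := by
  have hW := isCharPFunctor_kInfLower.{u} p
  exact Cfsg.Agent.S5197.result (p := p) kInfLower hW.1 hW.2
    (fun G _ _ P _ => kInfLower_local hp5 G P) hS F hF N hN

end Cfsg.Agent.H9KF
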