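import Mathlib
import Cfsg.Prelude
import Cfsg.Agent.Lib.Helper9.KFocal1

set_option autoImplicit false
open scoped commutatorElement

/-!
# The focal subgroup for `p ≥ 5` (part 2): systems in which `S` is normal and `Aut_F(S)` is a `p`-group
-/

namespace Cfsg.Agent.H9KF

open Cfsg Cfsg.FusionSystem Cfsg.Agent.Lib.Helper9 Cfsg.Agent.H9KL Cfsg.Agent.H9ZW

universe u

variable {Ω : Type u} [Group Ω] {S : Subgroup Ω}

/-- The focal subgroup lies in `S`. -/
theorem focal_le (F : FusionSystem S) : F.focalSubgroup ≤ S := by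
  unfold FusionSystem.focalSubgroup
  rw [Subgroup.closure_le]
  rintro _ ⟨P, φ, x, hφ, rfl⟩
  have h := F.le_of_mem hφ
  exact S.mul_mem (S.inv_mem (h.1 x.2)) (h.2 x)

/-- If `Aut_F(S)` is a `p`-group in a saturated system, all its elements are inner. -/
theorem aut_top_inner [Finite S] (p : ℕ) [Fact p.Prime] (hS : IsPGroup p S) (F : FusionSystem S)
    (hF : F.IsSaturated p) (haut : IsPGroup p ↥(F.autGroup S)) :
    ∀ α ∈ F.autGroup S, ∃ s ∈ S, ∀ x : S, ((α x : S) : Ω) = s * (x : Ω) * s⁻¹ := by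
  intro α hα
  have hfn : F.IsFullyNormalized S :=
    fullyNormalized_of_le_normalizer F le_rfl Subgroup.le_normalizer
  obtain ⟨-, R, hR⟩ := (fs_sylow_axiom p hS F hF hfn).2
  have htop : (⊤ : Subgroup ↥(F.autGroup S)) = R := by
    apply R.is_maximal' (haut.to_subgroup ⊤) le_top
  have hmem : (⟨α, hα⟩ : ↥(F.autGroup S)) ∈ (R : Subgroup ↥(F.autGroup S)) := by
    rw [← htop]; exact Subgroup.mem_top _
  rw [hR, Subgroup.mem_subgroupOf] at hmem
  exact (mem_autInducedBy_iff S S α).mp hmem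

/-- Transport of a map of the system along an equality of sources. -/
theorem hom_cast (F : FusionSystem S) {R R' : Subgroup Ω} (h : R = R') (ψ : R →* Ω) (hψ : ψ ∈ F.Hom R) :
    ∃ ψ' ∈ F.Hom R', ∀ (x : Ω) (hx : x ∈ R) (hx' : x ∈ R'), ψ' ⟨x, hx'⟩ = ψ ⟨x, hx⟩ := by
  subst h
  exact ⟨ψ, hψ, fun _ _ _ => rfl⟩

/-- If `S` is normal in `F`, every map of `F` extends to a map with source `S`. -/
theorem exists_extension_top (F : FusionSystem S) (hn : F.IsNormal S) {P : Subgroup Ω} {φ : P →* Ω}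
    (hφ : φ ∈ F.Hom P) : ∃ ψ ∈ F.Hom S, ∀ (x : P) (hx : (x : Ω) ∈ S), ψ ⟨x, hx⟩ = φ x := by
  have hPS : P ≤ S := (F.le_of_mem hφ).1
  obtain ⟨ψ, hψ, hψφ, -⟩ := hn.2 P φ hφ
  have h : P ⊔ S = S := sup_eq_right.mpr hPS
  obtain ⟨ψ', hψ', H⟩ := hom_cast F h ψ hψ
  refine ⟨ψ', hψ', fun x hx => ?_⟩
  rw [H x (le_sup_left (a := P) x.2) hx]
  exact hψφ x

/-- If `S ≠ 1` is normal in the saturated system `F` and `Aut_F(S)` is a `p`-group, the focal subgroup is proper. -/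
theorem focal_lt_of_normal_top [Finite S] (p : ℕ) [Fact p.Prime] (hS : IsPGroup p S) (F : FusionSystem S)
    (hF : F.IsSaturated p) (hn : F.IsNormal S) (hne : S ≠ ⊥) (haut : IsPGroup p ↥(F.autGroup S)) :
    F.focalSubgroup < S := by
  have hle : F.focalSubgroup ≤ ⁅S, S⁆ := by
    unfold FusionSystem.focalSubgroup
    rw [Subgroup.closure_le]
    rintro _ ⟨P, φ, x, hφ, rfl⟩
    have hPS : P ≤ S := (F.le_of_mem hφ).1
    obtain ⟨ψ, hψ, H⟩ := exists_extension_top F hn hφ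
    obtain ⟨α, hα, Hα⟩ := fs_hom_to_aut F hψ (F.le_of_mem hψ).2
    obtain ⟨s, hs, Hs⟩ := aut_top_inner p hS F hF haut α hα
    have h1 : φ x = s * (x : Ω) * s⁻¹ := by
      rw [← H x (hPS x.2), ← Hα, Hs]
    show (x : Ω)⁻¹ * φ x ∈ ⁅S, S⁆
    rw [h1]
    have h2 : (x : Ω)⁻¹ * (s * (x : Ω) * s⁻¹) = ⁅(x : Ω)⁻¹, s⁆ := by
      rw [commutatorElement_def]; group
    rw [h2]
    exact Subgroup.commutator_mem_commutator (S.inv_mem (hPS x.2)) hs
  refine lt_of_le_of_ne (focal_le F) ?_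
  intro heq
  have h3 : S ≤ ⁅S, S⁆ := by
    intro s hs
    apply hle
    rw [heq]; exact hs
  haveI : Nontrivial S := (Subgroup.nontrivial_iff_ne_bot S).mpr hne
  haveI : Group.IsNilpotent S := hS.isNilpotent
  have hlt : commutator ↥S < ⊤ := Group.IsSolvable.commutator_lt_top_of_nontrivial S
  apply hlt.ne
  rw [eq_top_iff]
  intro s _
  have h4 : (s : Ω) ∈ ⁅S, S⁆ := h3 s.2
  rw [Cfsg.Agent.Lib.Helper4.commutator_subgroup_eq_map] at h4
  obtain ⟨y, hy, hys⟩ := h4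
  have : y = s := Subtype.ext hys
  rw [← this]; exact hy

end Cfsg.Agent.H9KF
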