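import Mathlib
import Cfsg.Prelude
import Cfsg.Agent.Lib.Helper9.KFocal2
import Cfsg.Agent.Lib.Helper9.TR3

set_option autoImplicit false

/-!
# The focal subgroup for `p ≥ 5` (part 3): surjective morphisms, and the induction
-/

namespace Cfsg.Agent.H9KF

open Cfsg Cfsg.FusionSystem Cfsg.Agent.Lib.Helper9 Cfsg.Agent.H9KL Cfsg.Agent.H9ZW

universe u v

variable {Ω : Type u} [Group Ω] {S : Subgroup Ω} {Ω' : Type v} [Group Ω'] {S' : Subgroup Ω'}

/-- The focal subgroup is carried into the focal subgroup by a morphism. -/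
theorem focal_le_preimage (F : FusionSystem S) (E : FusionSystem S') (θ : S →* Ω')
    (hθ : F.IsMorphism E θ) : F.focalSubgroup ≤ preimageAlong θ E.focalSubgroup := by
  unfold FusionSystem.focalSubgroup
  rw [Subgroup.closure_le]
  rintro _ ⟨P, φ, x, hφ, rfl⟩
  have hPS : P ≤ S := (F.le_of_mem hφ).1
  have hφS := (F.le_of_mem hφ).2
  obtain ⟨φ', hφ', H⟩ := morph_push F E θ hθ hφ
  have hxS : (x : Ω) ∈ S := hPS x.2
  have hx' : θ ⟨x, hxS⟩ ∈ imageAlong θ P := (mem_imageAlong_iff θ P _).mpr ⟨⟨x, hxS⟩, x.2, rfl⟩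
  show (x : Ω)⁻¹ * φ x ∈ preimageAlong θ _
  rw [mem_preimageAlong_iff]
  refine ⟨S.mul_mem (S.inv_mem hxS) (hφS x), ?_⟩
  have e : (⟨(x : Ω)⁻¹ * φ x, S.mul_mem (S.inv_mem hxS) (hφS x)⟩ : S) =
      (⟨x, hxS⟩ : S)⁻¹ * ⟨φ x, hφS x⟩ := rfl
  rw [e, map_mul, map_inv, ← H x hxS hx' (hφS x)]
  apply Subgroup.subset_closure
  exact ⟨imageAlong θ P, φ', ⟨θ ⟨x, hxS⟩, hx'⟩, hφ', rfl⟩

/-- If the focal subgroup of the image system is proper, so is that of the source. -/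
theorem focal_lt_of_image (F : FusionSystem S) (E : FusionSystem S') (θ : S →* Ω')
    (hθ : F.IsMorphism E θ) (hrange : θ.range = S') (h : E.focalSubgroup < S') : F.focalSubgroup < S := by
  refine lt_of_le_of_ne (focal_le F) ?_
  intro heq
  apply h.not_ge
  intro z hz
  have hz' : z ∈ θ.range := by rw [hrange]; exact hz
  obtain ⟨s, rfl⟩ := hz'
  have h1 : (s : Ω) ∈ F.focalSubgroup := by rw [heq]; exact s.2
  obtain ⟨hs, h2⟩ := (mem_preimageAlong_iff θ _ _).mp (focal_le_preimage F E θ hθ h1)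
  exact h2

/-- A surjective morphism carries a `p`-group `Aut_F(S)` onto a `p`-group `Aut_E(S')`. -/
theorem autGroup_pgroup_of_surjective [Finite S] (p : ℕ) (F : FusionSystem S) (E : FusionSystem S')
    (θ : S →* Ω') (hθ : F.IsSurjectiveMorphism E θ) (haut : IsPGroup p ↥(F.autGroup S)) :
    IsPGroup p ↥(E.autGroup S') := by
  have hrange := hθ.2.1
  have hθS' : ∀ s : S, θ s ∈ S' := hθ.1.1
  rintro ⟨α', hα'⟩
  have hα'' := (mem_autGroup_iff E (le_refl S') α').mp hα'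
  obtain ⟨φ, hφ, hind⟩ := hθ.2.2 S' le_rfl _ hα''
  have hpre : preimageAlong θ S' = S :=
    le_antisymm (preimageAlong_le θ S') (fun x hx => (mem_preimageAlong_iff θ S' x).mpr ⟨hx, hθS' ⟨x, hx⟩⟩)
  obtain ⟨φ₁, hφ₁, Hφ₁⟩ := hom_cast F hpre φ hφ
  have hφ₁S := (F.le_of_mem hφ₁).2
  obtain ⟨α, hα, Hα⟩ := fs_hom_to_aut F hφ₁ hφ₁S
  have key : ∀ y : S, ((α' ⟨θ y, hθS' y⟩ : S') : Ω') = θ (α y) := by
    intro y
    have hy : (y : Ω) ∈ preimageAlong θ S' := by rw [hpre]; exact y.2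
    have h1 := inducedAlong_apply hind ⟨y, hy⟩ y.2 (hθS' y) ((F.le_of_mem hφ).2 ⟨y, hy⟩)
    have h2 : α y = ⟨φ ⟨y, hy⟩, (F.le_of_mem hφ).2 ⟨y, hy⟩⟩ := by
      apply Subtype.ext
      rw [Hα y]
      exact Hφ₁ y hy y.2
    rw [h2]
    exact h1
  have keypow : ∀ (m : ℕ) (y : S), (((α' ^ m) ⟨θ y, hθS' y⟩ : S') : Ω') = θ ((α ^ m) y) := by
    intro m
    induction m with
    | zero => intro y; simp
    | succ m ih =>
      intro y
      rw [pow_succ', pow_succ', MulAut.mul_apply, MulAut.mul_apply]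
      have h3 : (α' ^ m) ⟨θ y, hθS' y⟩ = ⟨θ ((α ^ m) y), hθS' _⟩ := Subtype.ext (ih y)
      rw [h3]
      exact key _
  obtain ⟨k, hk⟩ := haut ⟨α, hα⟩
  have hk' : α ^ (p ^ k) = 1 := by
    have := congrArg Subtype.val hk
    rwa [Subgroup.coe_pow] at this
  refine ⟨k, ?_⟩
  apply Subtype.ext
  rw [Subgroup.coe_pow]
  show α' ^ (p ^ k) = 1
  ext z
  have hz : (z : Ω') ∈ θ.range := by rw [hrange]; exact z.2
  obtain ⟨y, hy⟩ := hz
  have hzy : z = ⟨θ y, hθS' y⟩ := Subtype.ext hy.symm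
  rw [hzy, keypow (p ^ k) y, hk']
  rfl

end Cfsg.Agent.H9KF
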