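import Mathlib
import Cfsg.Prelude
import Cfsg.Agent.Lib.Helper9.KFocal3

set_option autoImplicit false

/-!
# The focal subgroup for `p ≥ 5` (part 4): `Aut_F(S)` a `p`-group implies `foc(F) < S`
-/

namespace Cfsg.Agent.H9KF

open Cfsg Cfsg.FusionSystem Cfsg.Agent.Lib.Helper9 Cfsg.Agent.H9KL Cfsg.Agent.H9ZW Cfsg.Agent.H9TR

universe u

/-- The statement proved by induction on `n = |S|`. -/
def FPStatement (p : ℕ) (n : ℕ) : Prop :=
  ∀ {Ω : Type u} [Group Ω] {S : Subgroup Ω} [Finite S], IsPGroup p S → ∀ F : FusionSystem S,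
    F.IsSaturated p → Nat.card S = n → S ≠ ⊥ → IsPGroup p ↥(F.autGroup S) → F.focalSubgroup < S

theorem fp_main {p : ℕ} [hp : Fact p.Prime] (hp5 : 5 ≤ p) : ∀ n : ℕ, FPStatement.{u} p n := by
  intro n
  induction n using Nat.strong_induction_on with
  | _ n ih =>
  intro Ω _ S _ hS F hF hcard hne haut
  have hW0 := Cfsg.Agent.Lib.Helper4.isCharPFunctor_kInfLower.{u} p
  have hW : IsGF p PUnit.{1} kInfLower := isGF_punit hW0.1 hW0.2
  obtain ⟨Q, hQdef⟩ : ∃ Q : Subgroup Ω, Q = Wof kInfLower S := ⟨_, rfl⟩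
  have hQS : Q ≤ S := by rw [hQdef]; exact Wof_le _ S
  have hQne : Q ≠ ⊥ := by rw [hQdef]; exact Wof_ne_bot hW hS hne
  have hSQ : S ≤ Subgroup.normalizer (Q : Set Ω) := by
    rw [hQdef]; exact Subgroup.le_normalizer.trans (normalizer_le_normalizer_Wof hW hS)
  have hNY : normalizerIn S Q = S := le_antisymm inf_le_left (le_inf le_rfl hSQ)
  obtain ⟨N, hN⟩ := Cfsg.Agent.S5096.result F Q hQS
  have hfoc : N.focalSubgroup = F.focalSubgroup := by
    subst hQdef
    exact kInfLower_focal hp5 hS F hF N hN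
  have hNsat := normalizerSystem_saturated p hS F hF (fullyNormalized_of_le_normalizer F hQS hSQ) N hN
  have hNn := normalizerSystem_isNormal F hQS N hN
  obtain ⟨D, hD, hDsat, hDn, hDfoc⟩ := exists_cast' hNY N
    (fun T N' => N'.IsSaturated p ∧ N'.IsNormal Q ∧ N'.focalSubgroup = F.focalSubgroup) ⟨hNsat, hNn, hfoc⟩
  have hDle : ∀ P : Subgroup Ω, D.Hom P ⊆ F.Hom P := by
    intro P φ hφ
    rw [hD, hN] at hφ
    exact hφ.1
  have hDaut : IsPGroup p ↥(D.autGroup S) := by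
    apply haut.to_le
    intro α hα
    rw [mem_autGroup_iff _ (le_refl S)] at hα ⊢
    exact hDle _ hα
  rw [← hDfoc]
  by_cases hQtop : Q = S
  · rw [hQtop] at hDn
    exact focal_lt_of_normal_top p hS D hDsat hDn hne hDaut
  · have hQsc := fs_stronglyClosed_of_isNormal D hDn
    haveI hn' : (Q.subgroupOf S).Normal := (Subgroup.normal_subgroupOf_iff_le_normalizer hQS).mpr hSQ
    obtain ⟨D', hD'⟩ := Cfsg.Agent.S5132.result p hS D Q hQsc
    have hsurj := Cfsg.Agent.S5134.result p hS D hDsat Q hQsc _ D' hD'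
    have hD'sat := Cfsg.Agent.S5133.result p hS D hDsat D' _ hsurj
    have hXp : IsPGroup p (⊤ : Subgroup (S ⧸ Q.subgroupOf S)) := (hS.to_quotient _).to_subgroup ⊤
    have hlt := card_quotient_lt hQS hQne
    rw [hcard] at hlt
    have hker : ∀ s : S, (QuotientGroup.mk' (Q.subgroupOf S)) s = 1 ↔ (s : Ω) ∈ Q := hD'.2.1
    have htop : (⊤ : Subgroup (S ⧸ Q.subgroupOf S)) ≠ ⊥ := by
      intro h
      apply hQtop
      apply le_antisymm hQS
      intro s hs
      have h1 : (QuotientGroup.mk' (Q.subgroupOf S)) ⟨s, hs⟩ ∈ (⊤ : Subgroup (S ⧸ Q.subgroupOf S)) :=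
        Subgroup.mem_top _
      rw [h, Subgroup.mem_bot] at h1
      exact (hker ⟨s, hs⟩).mp h1
    have hD'aut := autGroup_pgroup_of_surjective p D D' _ hsurj hDaut
    have h2 := ih _ hlt hXp D' hD'sat rfl htop hD'aut
    exact focal_lt_of_image D D' _ hsurj.1 hsurj.2.1 h2

end Cfsg.Agent.H9KF
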