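import Mathlib

set_option autoImplicit false

/-! Gallagher-type inequalities for the number of conjugacy classes:
`k(G) ≤ |G:H| k(H)` and `k(G) ≤ k(ker ψ) k(R)` for a surjective `ψ : G →* R`. -/

namespace Cfsg.Agent.Lib.Helper9.KG

open Finset
open scoped Classical

section

variable {G : Type*} [Group G] [Fintype G]

/-- number of commuting pairs, as a double count -/
theorem sum_commute_eq (G : Type*) [Group G] [Fintype G] :
    ∑ x : G, (univ.filter (fun g : G => Commute g x)).card
      = Nat.card (ConjClasses G) * Nat.card G := by
  rw [← card_comm_eq_card_conjClasses_mul_card, Nat.card_eq_fintype_card, Fintype.card_subtype,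
    Finset.card_filter, Fintype.sum_prod_type, Finset.sum_comm]
  refine Finset.sum_congr rfl (fun x _ => ?_)
  rw [Finset.card_filter]

/-- coset bound: inside a left coset of `H`, the elements commuting with `x` are at most as many
as the elements of `H` commuting with `x`. -/
theorem coset_bound (H : Subgroup G) (S : Finset G) (hS : ∀ g ∈ S, ∀ g' ∈ S, g⁻¹ * g' ∈ H) (x : G) :
    (S.filter (fun g : G => Commute g x)).card
      ≤ (univ.filter (fun g : G => g ∈ H ∧ Commute g x)).card := by
  rcases Finset.eq_empty_or_nonempty (S.filter (fun g : G => Commute g x)) with h | ⟨g₀, hg₀⟩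
  · rw [h]; simp
  · rw [Finset.mem_filter] at hg₀
    refine Finset.card_le_card_of_injOn (fun g => g₀⁻¹ * g) ?_ ?_
    · intro g hg
      have hg' := Finset.mem_filter.1 (Finset.mem_coe.1 hg)
      simp only [Finset.coe_filter, Finset.mem_univ, true_and, Set.mem_ofPred_eq]
      exact ⟨hS g₀ hg₀.1 g hg'.1, (hg₀.2.inv_left).mul_left hg'.2⟩
    · intro a _ b _ hab
      exact mul_left_cancel hab

theorem stepA (H : Subgroup G) (x : G) :
    (univ.filter (fun g : G => Commute g x)).card
      ≤ H.index * (univ.filter (fun g : G => g ∈ H ∧ Commute g x)).card := by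
  rw [Finset.card_eq_sum_card_fiberwise (f := fun g : G => (QuotientGroup.mk g : G ⧸ H)) (t := univ)
    (fun _ _ => Finset.mem_coe.2 (Finset.mem_univ _))]
  calc ∑ c : G ⧸ H, ((univ.filter (fun g : G => Commute g x)).filter
          (fun g : G => (QuotientGroup.mk g : G ⧸ H) = c)).card
      ≤ ∑ _c : G ⧸ H, (univ.filter (fun g : G => g ∈ H ∧ Commute g x)).card := by
        refine Finset.sum_le_sum (fun c _ => ?_)
        rw [Finset.filter_comm]
        refine coset_bound H _ ?_ x
        intro g hg g' hg'
        rw [Finset.mem_filter] at hg hg'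
        exact QuotientGroup.eq.1 (hg.2.trans hg'.2.symm)
    _ = H.index * (univ.filter (fun g : G => g ∈ H ∧ Commute g x)).card := by
        rw [Finset.sum_const, Finset.card_univ, smul_eq_mul, Subgroup.index_eq_card,
          Nat.card_eq_fintype_card]

/-- pairs of commuting elements of a subgroup, counted inside `G × G` -/
theorem sub_pairs_le (H : Subgroup G) :
    ∑ x : G, (if x ∈ H then (univ.filter (fun g : G => g ∈ H ∧ Commute g x)).card else 0)
      ≤ Nat.card (ConjClasses H) * Nat.card H := by
  rw [← card_comm_eq_card_conjClasses_mul_card]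
  have h1 : ∑ x : G, (if x ∈ H then (univ.filter (fun g : G => g ∈ H ∧ Commute g x)).card else 0)
      = Nat.card {p : G × G // p.1 ∈ H ∧ p.2 ∈ H ∧ Commute p.2 p.1} := by
    rw [Nat.card_eq_fintype_card, Fintype.card_subtype, Finset.card_filter, Fintype.sum_prod_type]
    refine Finset.sum_congr rfl (fun x _ => ?_)
    by_cases hx : x ∈ H
    · rw [if_pos hx, Finset.card_filter]
      refine Finset.sum_congr rfl (fun g _ => ?_)
      simp [hx]
    · rw [if_neg hx]
      symm
      apply Finset.sum_eq_zero
      intro g _
      simp [hx]
  rw [h1]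
  refine Nat.card_le_card_of_injective
    (fun p => ⟨(⟨p.1.2, p.2.2.1⟩, ⟨p.1.1, p.2.1⟩), by
      have := p.2.2.2
      exact Subtype.ext this.eq⟩) ?_
  intro p q h
  have h' := congrArg Subtype.val h
  simp only [Prod.mk.injEq, Subtype.mk.injEq] at h'
  exact Subtype.ext (Prod.ext h'.2 h'.1)

end

/-- **Gallagher**: `k(G) ≤ |G : H| · k(H)`. -/
theorem card_conjClasses_le_index_mul {G : Type*} [Group G] [Finite G] (H : Subgroup G) :
    Nat.card (ConjClasses G) ≤ H.index * Nat.card (ConjClasses H) := by
  cases nonempty_fintype G
  have hG : 0 < Nat.card G := Nat.card_pos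
  have h1 : Nat.card (ConjClasses G) * Nat.card G
      ≤ H.index * H.index * (Nat.card (ConjClasses H) * Nat.card H) := by
    rw [← sum_commute_eq G]
    calc ∑ x : G, (univ.filter (fun g : G => Commute g x)).card
        ≤ ∑ x : G, H.index * (univ.filter (fun g : G => g ∈ H ∧ Commute g x)).card :=
          Finset.sum_le_sum (fun x _ => stepA H x)
      _ = H.index * ∑ x : G, (univ.filter (fun g : G => g ∈ H ∧ Commute g x)).card := by
          rw [Finset.mul_sum]
      _ = H.index * ∑ g : G, (if g ∈ H then (univ.filter (fun x : G => Commute x g)).card else 0) := by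
          congr 1
          simp_rw [Finset.card_filter]
          rw [Finset.sum_comm]
          refine Finset.sum_congr rfl (fun g _ => ?_)
          by_cases hg : g ∈ H
          · simp only [hg, true_and, if_true]
            refine Finset.sum_congr rfl (fun x _ => ?_)
            simp only [commute_iff_eq, eq_comm]
          · simp [hg]
      _ ≤ H.index * ∑ g : G, (if g ∈ H then
            H.index * (univ.filter (fun x : G => x ∈ H ∧ Commute x g)).card else 0) := by
          refine Nat.mul_le_mul_left _ (Finset.sum_le_sum (fun g _ => ?_))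
          by_cases hg : g ∈ H
          · rw [if_pos hg, if_pos hg]; exact stepA H g
          · rw [if_neg hg, if_neg hg]
      _ = H.index * H.index * ∑ g : G, (if g ∈ H then
            (univ.filter (fun x : G => x ∈ H ∧ Commute x g)).card else 0) := by
          rw [mul_assoc]
          congr 1
          rw [Finset.mul_sum]
          refine Finset.sum_congr rfl (fun g _ => ?_)
          by_cases hg : g ∈ H
          · rw [if_pos hg, if_pos hg]
          · rw [if_neg hg, if_neg hg, mul_zero]
      _ ≤ H.index * H.index * (Nat.card (ConjClasses H) * Nat.card H) :=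
          Nat.mul_le_mul_left _ (sub_pairs_le H)
  have h2 : H.index * H.index * (Nat.card (ConjClasses H) * Nat.card H)
      = (H.index * Nat.card (ConjClasses H)) * Nat.card G := by
    rw [← H.card_mul_index]; ring
  rw [h2] at h1
  exact Nat.le_of_mul_le_mul_right h1 hG

section GL1

variable {G R : Type*} [Group G] [Fintype G] [Group R]

theorem fibre_bound (ψ : G →* R) (s : R) (x : G) :
    (univ.filter (fun g : G => ψ g = s ∧ Commute g x)).card
      ≤ (univ.filter (fun g : G => g ∈ ψ.ker ∧ Commute g x)).card := by
  have h := coset_bound ψ.ker (univ.filter (fun g : G => ψ g = s)) ?_ x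
  · rw [Finset.filter_filter] at h
    convert h
  · intro g hg g' hg'
    rw [Finset.mem_filter] at hg hg'
    rw [MonoidHom.mem_ker, map_mul, map_inv, hg.2, hg'.2, inv_mul_cancel]

theorem pairs_card (G : Type*) [Group G] [Fintype G] :
    ((univ : Finset (G × G)).filter (fun p => Commute p.2 p.1)).card
      = Nat.card (ConjClasses G) * Nat.card G := by
  rw [← sum_commute_eq G, Finset.card_filter, Fintype.sum_prod_type]
  refine Finset.sum_congr rfl (fun x _ => ?_)
  rw [Finset.card_filter]

theorem fibre_pairs_bound (ψ : G →* R) (r s : R) :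
    (((univ : Finset (G × G)).filter (fun p => Commute p.2 p.1)).filter
        (fun p => (ψ p.1, ψ p.2) = (r, s))).card
      ≤ Nat.card (ConjClasses ψ.ker) * Nat.card ψ.ker := by
  calc (((univ : Finset (G × G)).filter (fun p => Commute p.2 p.1)).filter
        (fun p => (ψ p.1, ψ p.2) = (r, s))).card
      = ∑ x : G, (if ψ x = r then (univ.filter (fun g : G => ψ g = s ∧ Commute g x)).card else 0) := by
        rw [Finset.filter_filter, Finset.card_filter, Fintype.sum_prod_type]
        refine Finset.sum_congr rfl (fun x _ => ?_)
        by_cases hx : ψ x = r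
        · rw [if_pos hx, Finset.card_filter]
          refine Finset.sum_congr rfl (fun g _ => ?_)
          simp [hx, and_comm]
        · rw [if_neg hx]
          apply Finset.sum_eq_zero
          intro g _
          simp [hx]
    _ ≤ ∑ x : G, (if ψ x = r then
          (univ.filter (fun g : G => g ∈ ψ.ker ∧ Commute g x)).card else 0) := by
        refine Finset.sum_le_sum (fun x _ => ?_)
        by_cases hx : ψ x = r
        · rw [if_pos hx, if_pos hx]; exact fibre_bound ψ s x
        · rw [if_neg hx, if_neg hx]
    _ = ∑ m : G, (if m ∈ ψ.ker then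
          (univ.filter (fun x : G => ψ x = r ∧ Commute x m)).card else 0) := by
        have e1 : ∀ x : G, (if ψ x = r then
            (univ.filter (fun g : G => g ∈ ψ.ker ∧ Commute g x)).card else 0)
            = ∑ m : G, (if (ψ x = r ∧ m ∈ ψ.ker ∧ Commute m x) then 1 else 0) := by
          intro x
          by_cases hx : ψ x = r
          · rw [if_pos hx, Finset.card_filter]
            refine Finset.sum_congr rfl (fun g _ => ?_)
            simp [hx]
          · rw [if_neg hx]
            symm
            apply Finset.sum_eq_zero
            intro g _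
            simp [hx]
        have e2 : ∀ m : G, (if m ∈ ψ.ker then
            (univ.filter (fun x : G => ψ x = r ∧ Commute x m)).card else 0)
            = ∑ x : G, (if (ψ x = r ∧ m ∈ ψ.ker ∧ Commute m x) then 1 else 0) := by
          intro m
          by_cases hm : m ∈ ψ.ker
          · rw [if_pos hm, Finset.card_filter]
            refine Finset.sum_congr rfl (fun x _ => ?_)
            have : Commute x m ↔ Commute m x := ⟨Commute.symm, Commute.symm⟩
            simp [hm, this]
          · rw [if_neg hm]
            symm
            apply Finset.sum_eq_zero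
            intro g _
            simp [hm]
        simp_rw [e1, e2]
        exact Finset.sum_comm
    _ ≤ ∑ m : G, (if m ∈ ψ.ker then
          (univ.filter (fun g : G => g ∈ ψ.ker ∧ Commute g m)).card else 0) := by
        refine Finset.sum_le_sum (fun m _ => ?_)
        by_cases hm : m ∈ ψ.ker
        · rw [if_pos hm, if_pos hm]; exact fibre_bound ψ r m
        · rw [if_neg hm, if_neg hm]
    _ ≤ Nat.card (ConjClasses ψ.ker) * Nat.card ψ.ker := by
        refine le_trans (le_of_eq (Finset.sum_congr rfl fun m _ => ?_)) (sub_pairs_le ψ.ker)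
        by_cases hm : m ∈ ψ.ker
        · rw [if_pos hm, if_pos hm]
          congr
        · rw [if_neg hm, if_neg hm]

end GL1

/-- **Gallagher**: `k(G) ≤ k(N) · k(G/N)`, phrased with a surjective homomorphism. -/
theorem card_conjClasses_le_ker_mul {G R : Type*} [Group G] [Finite G] [Group R]
    (ψ : G →* R) (hψ : Function.Surjective ψ) :
    Nat.card (ConjClasses G) ≤ Nat.card (ConjClasses ψ.ker) * Nat.card (ConjClasses R) := by
  cases nonempty_fintype G
  have : Finite R := Finite.of_surjective ψ hψ
  cases nonempty_fintype R
  have hG : 0 < Nat.card G := Nat.card_pos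
  have hcard : Nat.card G = Nat.card ψ.ker * Nat.card R := by
    rw [← Subgroup.card_mul_index ψ.ker, Subgroup.index_ker, MonoidHom.range_eq_top.2 hψ,
      Nat.card_congr Subgroup.topEquiv.toEquiv]
  have h1 : Nat.card (ConjClasses G) * Nat.card G
      ≤ (Nat.card (ConjClasses ψ.ker) * Nat.card ψ.ker) * (Nat.card (ConjClasses R) * Nat.card R) := by
    rw [← pairs_card G, ← pairs_card R]
    refine le_trans (Finset.card_le_mul_card_image (f := fun p : G × G => (ψ p.1, ψ p.2)) _
      (Nat.card (ConjClasses ψ.ker) * Nat.card ψ.ker) ?_) ?_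
    · rintro ⟨r, s⟩ _
      exact fibre_pairs_bound ψ r s
    · refine Nat.mul_le_mul_left _ (Finset.card_le_card ?_)
      intro q hq
      rw [Finset.mem_image] at hq
      obtain ⟨p, hp, rfl⟩ := hq
      rw [Finset.mem_filter] at hp ⊢
      exact ⟨Finset.mem_univ _, hp.2.map ψ⟩
  have h2 : (Nat.card (ConjClasses ψ.ker) * Nat.card ψ.ker) * (Nat.card (ConjClasses R) * Nat.card R)
      = (Nat.card (ConjClasses ψ.ker) * Nat.card (ConjClasses R)) * Nat.card G := by
    rw [hcard]; ring
  rw [h2] at h1
  exact Nat.le_of_mul_le_mul_right h1 hG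

/-- `k` is monotone under surjections. -/
theorem card_conjClasses_le_of_surjective {G R : Type*} [Group G] [Finite G] [Group R]
    (ψ : G →* R) (hψ : Function.Surjective ψ) :
    Nat.card (ConjClasses R) ≤ Nat.card (ConjClasses G) :=
  Nat.card_le_card_of_surjective (ConjClasses.map ψ) (ConjClasses.map_surjective hψ)

theorem card_conjClasses_congr {G R : Type*} [Group G] [Finite G] [Group R] (e : G ≃* R) :
    Nat.card (ConjClasses G) = Nat.card (ConjClasses R) := by
  have : Finite R := Finite.of_equiv G e.toEquiv
  exact le_antisymm (card_conjClasses_le_of_surjective e.symm.toMonoidHom e.symm.surjective)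
    (card_conjClasses_le_of_surjective e.toMonoidHom e.surjective)

/-- `k(H) ≤ |G:H| k(G)` (Mathlib's `commProb_subgroup_le`, restated). -/
theorem card_conjClasses_subgroup_le {G : Type*} [Group G] [Finite G] (H : Subgroup G) :
    Nat.card (ConjClasses H) ≤ H.index * Nat.card (ConjClasses G) := by
  have h := H.commProb_subgroup_le
  rw [commProb_def', commProb_def'] at h
  have hH : (0 : ℚ) < Nat.card H := by exact_mod_cast Nat.card_pos
  have hG : (0 : ℚ) < Nat.card G := by exact_mod_cast Nat.card_pos
  have hc : (Nat.card G : ℚ) = Nat.card H * H.index := by exact_mod_cast (H.card_mul_index).symm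
  rw [div_le_iff₀ hH] at h
  have h3 : (Nat.card (ConjClasses H) : ℚ) ≤ H.index * Nat.card (ConjClasses G) := by
    calc (Nat.card (ConjClasses H) : ℚ) ≤ Nat.card (ConjClasses G) / Nat.card G * (H.index : ℚ) ^ 2 * Nat.card H := h
      _ = H.index * Nat.card (ConjClasses G) := by
        rw [hc]
        have hi : (H.index : ℚ) ≠ 0 := by
          intro h0; rw [h0, mul_zero] at hc; exact hG.ne' hc
        field_simp
  exact_mod_cast h3

end Cfsg.Agent.Lib.Helper9.KG
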