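import Mathlib

set_option autoImplicit false

/-! Bochert's two-set lemma: a permutation group without 3-cycles has a subset `Δ` such that no
non-identity element is supported inside `Δ` or inside its complement. -/

namespace Cfsg.Agent.Lib.Helper9.KG

open Equiv Equiv.Perm

section

variable {α : Type*} [DecidableEq α]

omit [DecidableEq α] in
theorem perm_apply_inv (x : Perm α) (z : α) : x (x⁻¹ z) = z := by
  rw [← Perm.mul_apply, mul_inv_cancel, Perm.one_apply]

omit [DecidableEq α] in
theorem perm_inv_apply (x : Perm α) (z : α) : x⁻¹ (x z) = z := by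
  rw [← Perm.mul_apply, inv_mul_cancel, Perm.one_apply]

/-- If the supports of `x` and `y` meet exactly in `a`, then `x y x⁻¹ y⁻¹` is the 3-cycle
`a → x a → y a → a`. -/
theorem commutator_eq_swap_mul_swap (x y : Perm α) (a : α) (hxa : x a ≠ a) (hya : y a ≠ a)
    (hxy : ∀ z, x z ≠ z → y z ≠ z → z = a) :
    x * y * x⁻¹ * y⁻¹ = swap a (y a) * swap a (x a) := by
  have hx_fix : ∀ z, y z ≠ z → z ≠ a → x z = z := by
    intro z hz hza
    by_contra h
    exact hza (hxy z h hz)
  have hy_fix : ∀ z, x z ≠ z → z ≠ a → y z = z := by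
    intro z hz hza
    by_contra h
    exact hza (hxy z hz h)
  have hxinv_fix : ∀ z, x z = z → x⁻¹ z = z := fun z hz => by
    rw [Perm.inv_eq_iff_eq]; exact hz.symm
  have hyinv_fix : ∀ z, y z = z → y⁻¹ z = z := fun z hz => by
    rw [Perm.inv_eq_iff_eq]; exact hz.symm
  have hxya : x a ≠ y a := by
    intro h
    -- x a is moved by x, and y a is moved by y
    have h1 : x (x a) ≠ x a := fun h' => hxa (x.injective h')
    have h2 : y (x a) ≠ x a := by
      rw [h]; exact fun h' => hya (y.injective h')
    exact hxa (hxy _ h1 h2)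
  ext z
  simp only [Perm.coe_mul, Function.comp_apply]
  by_cases hza : z = a
  · subst hza
    -- y⁻¹ z is moved by y and is not z, so fixed by x
    have h1 : y (y⁻¹ z) ≠ y⁻¹ z := by
      rw [perm_apply_inv]
      intro h
      apply hya
      conv_lhs => rw [h]
      rw [perm_apply_inv]
    have h2 : y⁻¹ z ≠ z := by
      intro h
      apply hya
      conv_lhs => rw [← h]
      rw [perm_apply_inv]
    rw [hxinv_fix _ (hx_fix _ h1 h2), perm_apply_inv]
    rw [swap_apply_left, swap_apply_of_ne_of_ne hxa hxya]
  · by_cases hzx : z = x a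
    · subst hzx
      have h1 : x (x a) ≠ x a := fun h' => hxa (x.injective h')
      rw [hyinv_fix _ (hy_fix _ h1 hxa), perm_inv_apply]
      have h2 : y (y a) ≠ y a := fun h' => hya (y.injective h')
      rw [hx_fix _ h2 hya, swap_apply_right, swap_apply_left]
    · by_cases hzy : z = y a
      · subst hzy
        rw [perm_inv_apply]
        have h1 : x (x⁻¹ a) ≠ x⁻¹ a := by
          rw [perm_apply_inv]
          intro h
          apply hxa
          conv_lhs => rw [h]
          rw [perm_apply_inv]
        have h2 : x⁻¹ a ≠ a := by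
          intro h
          apply hxa
          conv_lhs => rw [← h]
          rw [perm_apply_inv]
        rw [hy_fix _ h1 h2, perm_apply_inv]
        rw [swap_apply_of_ne_of_ne hya (Ne.symm hxya), swap_apply_right]
      · rw [swap_apply_of_ne_of_ne hza hzx, swap_apply_of_ne_of_ne hza hzy]
        by_cases hyz : y z = z
        · rw [hyinv_fix z hyz]
          by_cases hxz : x z = z
          · rw [hxinv_fix z hxz, hyz, hxz]
          · -- v = x⁻¹ z is moved by x and is not a
            have h1 : x (x⁻¹ z) ≠ x⁻¹ z := by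
              rw [perm_apply_inv]
              intro h
              apply hxz
              conv_lhs => rw [h]
              rw [perm_apply_inv]
            have h2 : x⁻¹ z ≠ a := by
              intro h
              apply hzx
              rw [← h, perm_apply_inv]
            rw [hy_fix _ h1 h2, perm_apply_inv]
        · have h1 : y (y⁻¹ z) ≠ y⁻¹ z := by
            rw [perm_apply_inv]
            intro h
            apply hyz
            conv_lhs => rw [h]
            rw [perm_apply_inv]
          have h2 : y⁻¹ z ≠ a := by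
            intro h
            apply hzy
            rw [← h, perm_apply_inv]
          rw [hxinv_fix _ (hx_fix _ h1 h2), perm_apply_inv, hx_fix z hyz hza]

theorem isThreeCycle_commutator [Fintype α] (x y : Perm α) (a : α) (hxa : x a ≠ a) (hya : y a ≠ a)
    (hxy : ∀ z, x z ≠ z → y z ≠ z → z = a) :
    IsThreeCycle (x * y * x⁻¹ * y⁻¹) := by
  rw [commutator_eq_swap_mul_swap x y a hxa hya hxy]
  have hxya : x a ≠ y a := by
    intro h
    have h1 : x (x a) ≠ x a := fun h' => hxa (x.injective h')
    have h2 : y (x a) ≠ x a := by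
      rw [h]; exact fun h' => hya (y.injective h')
    exact hxa (hxy _ h1 h2)
  exact isThreeCycle_swap_mul_swap_same (Ne.symm hya) (Ne.symm hxa) (Ne.symm hxya)

/-- **Bochert's two-set lemma.** -/
theorem exists_two_set [Fintype α] (G : Subgroup (Perm α))
    (h3 : ∀ g ∈ G, ¬ IsThreeCycle g) :
    ∃ Δ : Finset α, (∀ g ∈ G, (∀ a, a ∉ Δ → g a = a) → g = 1) ∧
      (∀ g ∈ G, (∀ a, a ∈ Δ → g a = a) → g = 1) := by
  classical
  let free : Finset α → Prop := fun S => ∀ g ∈ G, (∀ a, a ∉ S → g a = a) → g = 1
  have hfree0 : free ∅ := by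
    intro g _ hg
    ext a
    simpa using hg a (Finset.notMem_empty a)
  obtain ⟨Δ, hΔmem, hΔmax⟩ := Finset.exists_max_image (Finset.univ.filter free) Finset.card
    ⟨∅, by simp [hfree0]⟩
  have hΔ : free Δ := (Finset.mem_filter.1 hΔmem).2
  refine ⟨Δ, hΔ, ?_⟩
  intro y hy hyΔ
  by_contra hy1
  -- y moves some point a, necessarily outside Δ
  obtain ⟨a, ha⟩ : ∃ a, y a ≠ a := by
    by_contra hcon
    push Not at hcon
    exact hy1 (Perm.ext hcon)
  have haΔ : a ∉ Δ := fun h => ha (hyΔ a h)
  -- insert a Δ is not free
  have hnot : ¬ free (insert a Δ) := by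
    intro hf
    have := hΔmax (insert a Δ) (by simp [hf])
    rw [Finset.card_insert_of_notMem haΔ] at this
    omega
  simp only [free] at hnot
  push Not at hnot
  obtain ⟨x, hx, hxsupp, hx1⟩ := hnot
  have hxa : x a ≠ a := by
    intro hxa
    apply hx1
    apply hΔ x hx
    intro b hb
    by_cases hba : b = a
    · rw [hba]; exact hxa
    · exact hxsupp b (by simp [hba, hb])
  have hxy : ∀ z, x z ≠ z → y z ≠ z → z = a := by
    intro z hxz hyz
    by_contra hza
    have hzΔ : z ∉ Δ := fun h => hyz (hyΔ z h)
    exact hxz (hxsupp z (by simp [hza, hzΔ]))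
  have hc := isThreeCycle_commutator x y a hxa ha hxy
  exact h3 _ (G.mul_mem (G.mul_mem (G.mul_mem hx hy) (G.inv_mem hx)) (G.inv_mem hy)) hc

end

end Cfsg.Agent.Lib.Helper9.KG
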