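import Mathlib
import Cfsg.Agent.Lib.Helper9.KG1
import Cfsg.Agent.Lib.Helper9.KG2

set_option autoImplicit false

/-! The induction machinery for `k(G) ≤ 5^(d-1)` for permutation groups of degree `d`. -/

namespace Cfsg.Agent.Lib.Helper9.KG

open Equiv

/-- restriction of a permutation representation to an invariant subtype -/
def restr {G α : Type*} [Group G] (ρ : G →* Perm α) (p : α → Prop)
    (h : ∀ g a, p (ρ g a) ↔ p a) : G →* Perm {a // p a} where
  toFun g := (ρ g).subtypePerm (h g)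
  map_one' := by ext ⟨a, ha⟩; simp
  map_mul' g g' := by
    ext ⟨a, ha⟩
    show (ρ (g * g')) a = (ρ g) ((ρ g') a)
    rw [map_mul]; rfl

theorem restr_apply {G α : Type*} [Group G] (ρ : G →* Perm α) (p : α → Prop)
    (h : ∀ g a, p (ρ g a) ↔ p a) (g : G) (a : {a // p a}) :
    ((restr ρ p h g) a : α) = ρ g a := rfl

/-- the inductive statement -/
def Good (d : ℕ) : Prop :=
  ∀ (α : Type) [Finite α] (G : Type) [Group G] [Finite G] (ρ : G →* Perm α),
    Function.Injective ρ → Nat.card α = d →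
    ∀ (ι : Type) [Finite ι] (f : α → ι), Function.Surjective f → (∀ g a, f (ρ g a) = f a) →
      Nat.card (ConjClasses G) * 5 ^ Nat.card ι ≤ 5 ^ d

theorem card_subtype_add_compl {α : Type*} [Finite α] (p : α → Prop) :
    Nat.card {a // p a} + Nat.card {a // ¬ p a} = Nat.card α := by
  classical
  rw [← Nat.card_sum]
  exact Nat.card_congr (Equiv.sumCompl p)

theorem card_subtype_eq_one {ι : Type*} (i₀ : ι) : Nat.card {i // i = i₀} = 1 := by
  rw [Nat.card_eq_one_iff_unique]
  exact ⟨⟨fun a b => Subtype.ext (a.2.trans b.2.symm)⟩, ⟨⟨i₀, rfl⟩⟩⟩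

/-- with the trivial invariant function -/
theorem Good.unit {d : ℕ} (h : Good d) (α : Type) [Finite α] [Nonempty α] (G : Type) [Group G]
    [Finite G] (ρ : G →* Perm α) (hρ : Function.Injective ρ) (hd : Nat.card α = d) :
    Nat.card (ConjClasses G) * 5 ≤ 5 ^ d := by
  have := h α G ρ hρ hd Unit (fun _ => ()) (fun _ => ⟨Classical.arbitrary α, rfl⟩) (fun _ _ => rfl)
  simpa using this

theorem peel (d : ℕ) (IH : ∀ d' < d, Good d') (α : Type) [Finite α] (G : Type) [Group G] [Finite G]
    (ρ : G →* Perm α) (hρ : Function.Injective ρ) (hd : Nat.card α = d)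
    (ι : Type) [Finite ι] (f : α → ι) (hf : Function.Surjective f)
    (hinv : ∀ g a, f (ρ g a) = f a) (h2 : 2 ≤ Nat.card ι) :
    Nat.card (ConjClasses G) * 5 ^ Nat.card ι ≤ 5 ^ d := by
  classical
  have hne : Nonempty ι := by
    by_contra hcon
    rw [not_nonempty_iff] at hcon
    rw [Nat.card_of_isEmpty] at h2
    omega
  obtain ⟨i₀⟩ := hne
  obtain ⟨i₁, hi₁⟩ : ∃ i₁ : ι, i₁ ≠ i₀ := by
    by_contra hcon
    push Not at hcon
    have : Nat.card ι = 1 := by
      rw [Nat.card_eq_one_iff_unique]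
      exact ⟨⟨fun a b => (hcon a).trans (hcon b).symm⟩, ⟨i₀⟩⟩
    omega
  obtain ⟨a₀, ha₀⟩ := hf i₀
  obtain ⟨a₁, ha₁⟩ := hf i₁
  -- the invariant predicate
  have hp : ∀ g a, f (ρ g a) = i₀ ↔ f a = i₀ := fun g a => by rw [hinv]
  let φ : G →* Perm {a // f a = i₀} := restr ρ (fun a => f a = i₀) hp
  let ψ : G →* φ.range := φ.rangeRestrict
  have hψ : Function.Surjective ψ := φ.rangeRestrict_surjective
  have hGL := card_conjClasses_le_ker_mul ψ hψ
  -- cardinalities
  have hcard := card_subtype_add_compl (fun a : α => f a = i₀)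
  have hB1 : 1 ≤ Nat.card {a // f a = i₀} := by
    have : Nonempty {a // f a = i₀} := ⟨⟨a₀, ha₀⟩⟩
    exact Nat.card_pos
  have hBc1 : 1 ≤ Nat.card {a // ¬ f a = i₀} := by
    have : Nonempty {a // ¬ f a = i₀} := ⟨⟨a₁, by rw [ha₁]; exact hi₁⟩⟩
    exact Nat.card_pos
  have hιcard := card_subtype_add_compl (fun i : ι => i = i₀)
  rw [card_subtype_eq_one] at hιcard
  -- the range acts on the block
  have hR : Nat.card (ConjClasses φ.range) * 5 ≤ 5 ^ Nat.card {a // f a = i₀} := by
    have : Nonempty {a // f a = i₀} := ⟨⟨a₀, ha₀⟩⟩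
    exact (IH _ (by omega)).unit _ φ.range φ.range.subtype (Subgroup.subtype_injective _) rfl
  -- the kernel acts on the complement
  have hpc : ∀ (n : ψ.ker) (a : α), ¬ f ((ρ.comp ψ.ker.subtype) n a) = i₀ ↔ ¬ f a = i₀ :=
    fun n a => by
      show ¬ f (ρ (n : G) a) = i₀ ↔ _
      rw [hinv]
  let ρN : ψ.ker →* Perm {a // ¬ f a = i₀} := restr (ρ.comp ψ.ker.subtype) (fun a => ¬ f a = i₀) hpc
  have hρN : Function.Injective ρN := by
    rw [injective_iff_map_eq_one]
    intro n hn
    have hn1 : φ (n : G) = 1 := by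
      have h1 : ψ (n : G) = 1 := n.2
      have h2 := congrArg Subtype.val h1
      simpa [ψ] using h2
    suffices hs : (n : G) = 1 from Subtype.ext hs
    apply hρ
    rw [map_one]
    ext a
    by_cases ha : f a = i₀
    · have := congrArg (fun σ : Perm {a // f a = i₀} => ((σ ⟨a, ha⟩ : {a // f a = i₀}) : α)) hn1
      simpa [φ, restr_apply] using this
    · have := congrArg (fun σ : Perm {a // ¬ f a = i₀} => ((σ ⟨a, ha⟩ : {a // ¬ f a = i₀}) : α)) hn
      simpa [ρN, restr_apply] using this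
  have hN : Nat.card (ConjClasses ψ.ker) * 5 ^ Nat.card {i // ¬ i = i₀}
      ≤ 5 ^ Nat.card {a // ¬ f a = i₀} := by
    refine (IH _ (by omega)) _ ψ.ker ρN hρN rfl {i // ¬ i = i₀}
      (fun a => ⟨f a.1, a.2⟩) ?_ ?_
    · rintro ⟨i, hi⟩
      obtain ⟨a, ha⟩ := hf i
      exact ⟨⟨a, by rw [ha]; exact hi⟩, Subtype.ext ha⟩
    · intro n a
      apply Subtype.ext
      show f (ρ (n : G) a.1) = f a.1
      exact hinv _ _
  -- combine
  have e1 : Nat.card ι = Nat.card {i // ¬ i = i₀} + 1 := by omega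
  calc Nat.card (ConjClasses G) * 5 ^ Nat.card ι
      ≤ (Nat.card (ConjClasses ψ.ker) * Nat.card (ConjClasses φ.range)) * 5 ^ Nat.card ι :=
        Nat.mul_le_mul_right _ hGL
    _ = (Nat.card (ConjClasses ψ.ker) * 5 ^ Nat.card {i // ¬ i = i₀})
          * (Nat.card (ConjClasses φ.range) * 5) := by
        rw [e1, pow_succ]; ring
    _ ≤ 5 ^ Nat.card {a // ¬ f a = i₀} * 5 ^ Nat.card {a // f a = i₀} := Nat.mul_le_mul hN hR
    _ = 5 ^ d := by rw [← pow_add, ← hd, ← hcard, add_comm]

/-- the permutation representation on the quotient by an invariant setoid -/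
def quotHom {G α : Type*} [Group G] (ρ : G →* Perm α) (r : Setoid α)
    (hr : ∀ g a b, r.r a b → r.r (ρ g a) (ρ g b)) : G →* Perm (Quotient r) where
  toFun g :=
    { toFun := Quotient.map (ρ g) (fun a b h => hr g a b h)
      invFun := Quotient.map (ρ g⁻¹) (fun a b h => hr g⁻¹ a b h)
      left_inv := by
        intro q
        refine Quotient.inductionOn q (fun a => ?_)
        show Quotient.mk r (ρ g⁻¹ (ρ g a)) = Quotient.mk r a
        rw [map_inv, perm_inv_apply]
      right_inv := by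
        intro q
        refine Quotient.inductionOn q (fun a => ?_)
        show Quotient.mk r (ρ g (ρ g⁻¹ a)) = Quotient.mk r a
        rw [map_inv, perm_apply_inv] }
  map_one' := by
    ext q
    refine Quotient.inductionOn q (fun a => ?_)
    show Quotient.mk r (ρ 1 a) = Quotient.mk r a
    rw [map_one]; rfl
  map_mul' g g' := by
    ext q
    refine Quotient.inductionOn q (fun a => ?_)
    show Quotient.mk r (ρ (g * g') a) = Quotient.mk r (ρ g (ρ g' a))
    rw [map_mul]; rfl

theorem quotHom_mk {G α : Type*} [Group G] (ρ : G →* Perm α) (r : Setoid α)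
    (hr : ∀ g a b, r.r a b → r.r (ρ g a) (ρ g b)) (g : G) (a : α) :
    quotHom ρ r hr g (Quotient.mk r a) = Quotient.mk r (ρ g a) := rfl

theorem of_setoid (d : ℕ) (IH : ∀ d' < d, Good d') (α : Type) [Finite α] (G : Type) [Group G]
    [Finite G] (ρ : G →* Perm α) (hρ : Function.Injective ρ) (hd : Nat.card α = d)
    (r : Setoid α) (hr : ∀ g a b, r.r a b → r.r (ρ g a) (ρ g b))
    (h2 : 2 ≤ Nat.card (Quotient r)) (hlt : Nat.card (Quotient r) < d) :
    Nat.card (ConjClasses G) * 5 ≤ 5 ^ d := by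
  classical
  let σ : G →* Perm (Quotient r) := quotHom ρ r hr
  let ψ : G →* σ.range := σ.rangeRestrict
  have hψ : Function.Surjective ψ := σ.rangeRestrict_surjective
  have hGL := card_conjClasses_le_ker_mul ψ hψ
  have hne : Nonempty (Quotient r) := by
    by_contra hcon
    rw [not_nonempty_iff] at hcon
    rw [Nat.card_of_isEmpty] at h2
    omega
  have hR : Nat.card (ConjClasses σ.range) * 5 ≤ 5 ^ Nat.card (Quotient r) :=
    (IH _ hlt).unit _ σ.range σ.range.subtype (Subgroup.subtype_injective _) rfl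
  have hN : Nat.card (ConjClasses ψ.ker) * 5 ^ Nat.card (Quotient r) ≤ 5 ^ d := by
    refine peel d IH α ψ.ker (ρ.comp ψ.ker.subtype) ?_ hd (Quotient r) (Quotient.mk r)
      Quotient.mk_surjective ?_ h2
    · exact hρ.comp (Subgroup.subtype_injective _)
    · intro n a
      have h1 : ψ (n : G) = 1 := n.2
      have h2 : σ (n : G) = 1 := by
        have := congrArg Subtype.val h1
        simpa [ψ] using this
      have h3 := congrArg (fun τ : Perm (Quotient r) => τ (Quotient.mk r a)) h2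
      simpa [σ, quotHom_mk] using h3
  calc Nat.card (ConjClasses G) * 5
      ≤ (Nat.card (ConjClasses ψ.ker) * Nat.card (ConjClasses σ.range)) * 5 :=
        Nat.mul_le_mul_right _ hGL
    _ = Nat.card (ConjClasses ψ.ker) * (Nat.card (ConjClasses σ.range) * 5) := by ring
    _ ≤ Nat.card (ConjClasses ψ.ker) * 5 ^ Nat.card (Quotient r) := Nat.mul_le_mul_left _ hR
    _ ≤ 5 ^ d := hN

theorem card_conjClasses_of_subsingleton (G : Type*) [Group G] [Subsingleton G] :
    Nat.card (ConjClasses G) = 1 := by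
  rw [Nat.card_eq_one_iff_unique]
  refine ⟨⟨fun a b => ?_⟩, ⟨ConjClasses.mk 1⟩⟩
  induction a using Quotient.inductionOn with
  | _ a =>
  induction b using Quotient.inductionOn with
  | _ b => rw [Subsingleton.elim a b]

theorem two_pow_mul_le (d b : ℕ) (hb : 2 * b ≤ d) : 2 ^ d * 5 ^ b ≤ 5 ^ d := by
  obtain ⟨c, rfl⟩ := Nat.exists_eq_add_of_le (show b ≤ d by omega)
  have hbc : b ≤ c := by omega
  calc 2 ^ (b + c) * 5 ^ b = (2 ^ b * 2 ^ c) * 5 ^ b := by rw [pow_add]
    _ ≤ (2 ^ c * 2 ^ c) * 5 ^ b :=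
        Nat.mul_le_mul_right _ (Nat.mul_le_mul_right _ (Nat.pow_le_pow_right (by norm_num) hbc))
    _ = 4 ^ c * 5 ^ b := by rw [← mul_pow]; norm_num
    _ ≤ 5 ^ c * 5 ^ b := Nat.mul_le_mul_right _ (Nat.pow_le_pow_left (by norm_num) c)
    _ = 5 ^ (b + c) := by rw [pow_add]; ring

open Pointwise in
theorem two_set_case (d : ℕ) (IH : ∀ d' < d, Good d') (α : Type) [Finite α]
    (Γ : Subgroup (Perm α)) (hd : Nat.card α = d) (hd1 : 1 ≤ d) (S : Set α)
    (hS2 : ∀ g ∈ Γ, (∀ a, a ∈ S → g a = a) → g = 1)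
    (hb : 2 * Nat.card S ≤ d) :
    Nat.card (ConjClasses Γ) * 5 ≤ 5 ^ d := by
  classical
  by_cases hS0 : IsEmpty S
  · have hsub : Subsingleton Γ := by
      refine ⟨fun g h => ?_⟩
      apply Subtype.ext
      rw [hS2 g g.2 (fun a ha => (hS0.false ⟨a, ha⟩).elim),
        hS2 h h.2 (fun a ha => (hS0.false ⟨a, ha⟩).elim)]
    rw [card_conjClasses_of_subsingleton, one_mul]
    calc 5 = 5 ^ 1 := by norm_num
      _ ≤ 5 ^ d := Nat.pow_le_pow_right (by norm_num) hd1
  · rw [not_isEmpty_iff] at hS0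
    let H : Subgroup Γ := MulAction.stabilizer Γ S
    have hH : ∀ (g : H) (a : α), ((Γ.subtype.comp H.subtype) g) a ∈ S ↔ a ∈ S := by
      intro g a
      have hg : (g : Γ) • S = S := MulAction.mem_stabilizer_iff.1 g.2
      have h1 : ((g : Γ) • a ∈ (g : Γ) • S) ↔ a ∈ S := Set.smul_mem_smul_set_iff
      rw [hg] at h1
      exact h1
    let ρH : H →* Perm {a // a ∈ S} := restr (Γ.subtype.comp H.subtype) (fun a => a ∈ S) hH
    have hρH : Function.Injective ρH := by
      rw [injective_iff_map_eq_one]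
      intro g hg
      suffices hs : ((g : Γ) : Perm α) = 1 from Subtype.ext (Subtype.ext hs)
      apply hS2 _ (g : Γ).2
      intro a ha
      have := congrArg (fun σ : Perm {a // a ∈ S} => ((σ ⟨a, ha⟩ : {a // a ∈ S}) : α)) hg
      simpa [ρH, restr_apply] using this
    have hlt : Nat.card S < d := by
      have : 1 ≤ Nat.card S := Nat.card_pos
      omega
    have hHk : Nat.card (ConjClasses H) * 5 ≤ 5 ^ Nat.card S :=
      (IH _ hlt).unit _ H ρH hρH rfl
    have hidx : H.index ≤ 2 ^ d := by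
      have h1 : H.index = (MulAction.orbit Γ S).ncard := MulAction.index_stabilizer Γ S
      rw [h1]
      refine le_trans (Set.ncard_le_card _) ?_
      cases nonempty_fintype α
      rw [Nat.card_eq_fintype_card, Fintype.card_set, ← Nat.card_eq_fintype_card, hd]
    have hGL := card_conjClasses_le_index_mul H
    calc Nat.card (ConjClasses Γ) * 5 ≤ (H.index * Nat.card (ConjClasses H)) * 5 :=
          Nat.mul_le_mul_right _ hGL
      _ = H.index * (Nat.card (ConjClasses H) * 5) := by ring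
      _ ≤ 2 ^ d * 5 ^ Nat.card S := Nat.mul_le_mul hidx hHk
      _ ≤ 5 ^ d := two_pow_mul_le d _ hb

end Cfsg.Agent.Lib.Helper9.KG
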