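import Mathlib
import Cfsg.Agent.Lib.Helper9.KG3
import Cfsg.Agent.Lib.Lead.ClassNum2

set_option autoImplicit false

/-! `k(G) ≤ 5^(d-1)` for permutation groups of degree `d`: the case analysis. -/

namespace Cfsg.Agent.Lib.Helper9.KG

open Equiv

theorem fib_bound (d : ℕ) (hd : 2 ≤ d) : Nat.fib (d + 1) * 10 ≤ 5 ^ d := by
  induction d, hd using Nat.le_induction with
  | base => decide
  | succ d hd ih =>
    have h1 : Nat.fib (d + 1 + 1) = Nat.fib d + Nat.fib (d + 1) := Nat.fib_add_two
    have h2 : Nat.fib d ≤ Nat.fib (d + 1) := Nat.fib_le_fib_succ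
    have h3 : 5 ^ (d + 1) = 5 * 5 ^ d := by rw [pow_succ]; ring
    omega

/-- groups containing the alternating group -/
theorem alt_case (d : ℕ) (α : Type) [Fintype α] [DecidableEq α]
    (Γ : Subgroup (Perm α)) (hd : Nat.card α = d) (hd2 : 2 ≤ d)
    (hA : alternatingGroup α ≤ Γ) :
    Nat.card (ConjClasses Γ) * 5 ≤ 5 ^ d := by
  have hnt : Nontrivial α := by
    rw [← Finite.one_lt_card_iff_nontrivial, hd]; omega
  have h1 := card_conjClasses_subgroup_le Γ
  have h2 : Γ.index ≤ 2 := by
    have := Subgroup.index_dvd_of_le hA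
    rw [alternatingGroup.index_eq_two] at this
    exact Nat.le_of_dvd (by norm_num) this
  have h3 : Nat.card (ConjClasses (Perm α)) ≤ Nat.fib (d + 1) := by
    refine le_trans Cfsg.Agent.Lib.Lead.ClassNum.card_conjClasses_perm_le ?_
    rw [← Nat.card_eq_fintype_card (α := α), hd]
    exact Cfsg.Agent.Lib.Lead.ClassNum.card_partition_le_fib d
  have h4 := fib_bound d hd2
  calc Nat.card (ConjClasses Γ) * 5 ≤ (Γ.index * Nat.card (ConjClasses (Perm α))) * 5 :=
        Nat.mul_le_mul_right _ h1
    _ ≤ (2 * Nat.fib (d + 1)) * 5 := Nat.mul_le_mul_right _ (Nat.mul_le_mul h2 h3)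
    _ = Nat.fib (d + 1) * 10 := by ring
    _ ≤ 5 ^ d := h4

open Pointwise in
theorem top_case (d : ℕ) (IH : ∀ d' < d, Good d') (α : Type) [Finite α]
    (Γ : Subgroup (Perm α)) (hd : Nat.card α = d) (hd2 : 2 ≤ d) :
    Nat.card (ConjClasses Γ) * 5 ≤ 5 ^ d := by
  classical
  cases nonempty_fintype α
  have hne : Nonempty α := by
    rw [← Finite.card_pos_iff, hd]; omega
  by_cases hprim : MulAction.IsPreprimitive Γ α
  · by_cases hA : alternatingGroup α ≤ Γ
    · exact alt_case d α Γ hd hd2 hA
    · have h3 : ∀ g ∈ Γ, ¬ Perm.IsThreeCycle g := fun g hg h3g =>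
        hA (Equiv.Perm.alternatingGroup_le_of_isPreprimitive_of_isThreeCycle_mem hprim h3g hg)
      obtain ⟨Δ, h1, h2⟩ := exists_two_set Γ h3
      have hcard := card_subtype_add_compl (fun a : α => a ∈ (Δ : Set α))
      by_cases hb : 2 * Nat.card (Δ : Set α) ≤ d
      · exact two_set_case d IH α Γ hd (by omega) (Δ : Set α)
          (fun g hg hfix => h2 g hg (fun a ha => hfix a (Finset.mem_coe.2 ha))) hb
      · refine two_set_case d IH α Γ hd (by omega) ((Δ : Set α)ᶜ)
          (fun g hg hfix => h1 g hg (fun a ha => hfix a ?_)) ?_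
        · rw [Set.mem_compl_iff, Finset.mem_coe]; exact ha
        · have e : Nat.card ((Δ : Set α)ᶜ : Set α) = Nat.card {a // ¬ a ∈ (Δ : Set α)} := rfl
          have e' : Nat.card ((Δ : Set α) : Set α) = Nat.card {a // a ∈ (Δ : Set α)} := rfl
          omega
  · by_cases htrans : MulAction.IsPretransitive Γ α
    · -- imprimitive: a nontrivial block
      obtain ⟨B, hB, hBnt⟩ : ∃ B : Set α, MulAction.IsBlock Γ B ∧ ¬ MulAction.IsTrivialBlock B := by
        by_contra hcon
        push Not at hcon
        exact hprim ⟨fun {B} hB => hcon B hB⟩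
      unfold MulAction.IsTrivialBlock at hBnt
      push Not at hBnt
      obtain ⟨hBns, hBuniv⟩ := hBnt
      obtain ⟨x, hx, y, hy, hxy⟩ := hBns
      obtain ⟨c, hc⟩ : ∃ c, c ∉ B := by
        by_contra hcon
        push Not at hcon
        exact hBuniv (Set.eq_univ_of_forall hcon)
      have hsame : ∀ (g h : Γ) (b : α), b ∈ g • B → b ∈ h • B → g • B = h • B := by
        intro g h b hb1 hb2
        by_contra hne
        exact Set.disjoint_left.1 (hB hne) hb1 hb2
      let r : Setoid α :=
        { r := fun a b => ∃ g : Γ, a ∈ g • B ∧ b ∈ g • B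
          iseqv :=
            { refl := fun a => by
                obtain ⟨g, hg⟩ := MulAction.exists_smul_eq Γ x a
                exact ⟨g, by rw [← hg]; exact Set.smul_mem_smul_set hx,
                  by rw [← hg]; exact Set.smul_mem_smul_set hx⟩
              symm := fun ⟨g, h1, h2⟩ => ⟨g, h2, h1⟩
              trans := fun ⟨g, h1, h2⟩ ⟨h, h3, h4⟩ => by
                have := hsame g h _ h2 h3
                exact ⟨g, h1, by rw [this]; exact h4⟩ } }
      have hr : ∀ (g : Γ) a b, r.r a b → r.r (Γ.subtype g a) (Γ.subtype g b) := by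
        rintro g a b ⟨k, h1, h2⟩
        refine ⟨g * k, ?_, ?_⟩
        · rw [mul_smul]; exact Set.smul_mem_smul_set (a := g) h1
        · rw [mul_smul]; exact Set.smul_mem_smul_set (a := g) h2
      have hxy' : Quotient.mk r x = Quotient.mk r y :=
        Quotient.sound ⟨1, by rw [one_smul]; exact hx, by rw [one_smul]; exact hy⟩
      have hxc : Quotient.mk r x ≠ Quotient.mk r c := by
        intro h
        obtain ⟨g, h1, h2⟩ := Quotient.exact h
        have := hsame g 1 x h1 (by rw [one_smul]; exact hx)
        rw [this, one_smul] at h2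
        exact hc h2
      have h2 : 2 ≤ Nat.card (Quotient r) := by
        by_contra hcon
        have : Nat.card (Quotient r) ≤ 1 := by omega
        rw [Finite.card_le_one_iff_subsingleton] at this
        exact hxc (Subsingleton.elim _ _)
      have hlt : Nat.card (Quotient r) < d := by
        rw [← hd, Nat.card_eq_fintype_card, Nat.card_eq_fintype_card]
        exact Fintype.card_lt_of_surjective_not_injective (Quotient.mk r) Quotient.mk_surjective
          (fun hinj => hxy (hinj hxy'))
      exact of_setoid d IH α Γ Γ.subtype (Subgroup.subtype_injective _) hd r hr h2 hlt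
    · -- intransitive: the orbit relation
      have h2 : 2 ≤ Nat.card (Quotient (MulAction.orbitRel Γ α)) := by
        by_contra hcon
        have : Nat.card (Quotient (MulAction.orbitRel Γ α)) ≤ 1 := by omega
        rw [Finite.card_le_one_iff_subsingleton] at this
        apply htrans
        refine ⟨fun a b => ?_⟩
        have h := Quotient.exact (Subsingleton.elim (Quotient.mk (MulAction.orbitRel Γ α) b)
          (Quotient.mk (MulAction.orbitRel Γ α) a))
        exact MulAction.mem_orbit_iff.1 h
      have h := peel d IH α Γ Γ.subtype (Subgroup.subtype_injective _) hd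
        (Quotient (MulAction.orbitRel Γ α)) (Quotient.mk _) Quotient.mk_surjective
        (fun g a => Quotient.sound (MulAction.mem_orbit a g)) h2
      calc Nat.card (ConjClasses Γ) * 5
          ≤ Nat.card (ConjClasses Γ) * 5 ^ Nat.card (Quotient (MulAction.orbitRel Γ α)) := by
            refine Nat.mul_le_mul_left _ ?_
            calc 5 = 5 ^ 1 := by norm_num
              _ ≤ _ := Nat.pow_le_pow_right (by norm_num) (by omega)
        _ ≤ 5 ^ d := h

theorem good_all : ∀ d, Good d := by
  intro d
  induction d using Nat.strong_induction_on with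
  | _ d IH =>
  intro α _ G _ _ ρ hρ hd ι _ f hf hinv
  by_cases h2 : 2 ≤ Nat.card ι
  · exact peel d IH α G ρ hρ hd ι f hf hinv h2
  · -- `G ≃* ρ.range`
    have hk : Nat.card (ConjClasses G) = Nat.card (ConjClasses ρ.range) :=
      card_conjClasses_congr (MonoidHom.ofInjective hρ)
    by_cases hd2 : 2 ≤ d
    · have h := top_case d IH α ρ.range hd hd2
      rw [hk]
      calc Nat.card (ConjClasses ρ.range) * 5 ^ Nat.card ι
          ≤ Nat.card (ConjClasses ρ.range) * 5 ^ 1 :=
            Nat.mul_le_mul_left _ (Nat.pow_le_pow_right (by norm_num) (by omega))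
        _ = Nat.card (ConjClasses ρ.range) * 5 := by norm_num
        _ ≤ 5 ^ d := h
    · -- d ≤ 1 : the group is trivial
      have hsα : Subsingleton α := by
        rw [← Finite.card_le_one_iff_subsingleton, hd]; omega
      have hsG : Subsingleton G := ⟨fun a b => hρ (Subsingleton.elim _ _)⟩
      rw [card_conjClasses_of_subsingleton, one_mul]
      refine Nat.pow_le_pow_right (by norm_num) ?_
      rw [← hd]
      exact Nat.card_le_card_of_surjective f hf

/-- **Kovács–Robinson bound** (without Praeger–Saxl): a permutation group of degree `d ≥ 1`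
has at most `5^(d-1)` conjugacy classes. -/
theorem card_conjClasses_perm_subgroup_le (d : ℕ) (hd : 1 ≤ d) (G : Subgroup (Perm (Fin d))) :
    Nat.card (ConjClasses G) ≤ 5 ^ (d - 1) := by
  have hne : Nonempty (Fin d) := ⟨⟨0, hd⟩⟩
  have h := (good_all d).unit (Fin d) G G.subtype (Subgroup.subtype_injective _) (by simp)
  have e : 5 ^ d = 5 ^ (d - 1) * 5 := by
    rw [← pow_succ]; congr 1; omega
  rw [e] at h
  exact Nat.le_of_mul_le_mul_right h (by norm_num)

end Cfsg.Agent.Lib.Helper9.KG
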