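import Mathlib
import Cfsg.Agent.Lib.Helper9.L3Fus15

set_option autoImplicit false

/-!
# Existence of the semidihedral data over a field with `q ≡ 3 mod 4` elements
-/

namespace Cfsg.Agent.H9L3

open Matrix QuadraticAlgebra

variable {F : Type*} [Field F]

/-- the quadratic extension `F[√-1]` -/
abbrev Kq (F : Type*) [Field F] : Type _ := QuadraticAlgebra F (-1 : F) 0

/-- the regular representation of `F[√-1]` -/
def kapHom : Kq F →* Matrix (Fin 2) (Fin 2) F where
  toFun z := kap z.re z.im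
  map_one' := by
    rw [← kap_one]; rfl
  map_mul' z w := by
    rw [kap_mul]
    congr 1
    · simp only [re_mul]; ring
    · simp only [im_mul]; ring

theorem kapHom_apply (z : Kq F) : kapHom z = kap z.re z.im := rfl

section fin

variable [Fintype F]

instance : Finite (Kq F) := Finite.of_equiv _ (equivProd (-1 : F) 0).symm

theorem card_Kq : Nat.card (Kq F) = Fintype.card F ^ 2 := by
  rw [Nat.card_congr (equivProd (-1 : F) 0), Nat.card_prod, Nat.card_eq_fintype_card, pow_two]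

variable (hq : Fintype.card F % 4 = 3)

include hq in
theorem not_sq (r : F) : r ^ 2 ≠ -1 + 0 * r := by
  intro h
  have h1 : IsSquare (-1 : F) := ⟨r, by rw [← pow_two, h]; ring⟩
  exact (FiniteField.isSquare_neg_one_iff.mp h1) hq

include hq in
/-- the Frobenius map of `F[√-1]` is the conjugation -/
theorem pow_card_eq_star [Fact (∀ r : F, r ^ 2 ≠ -1 + 0 * r)] (z : Kq F) :
    z ^ Fintype.card F = star z := by
  obtain ⟨p, hp⟩ : ∃ p, p = ringChar F := ⟨_, rfl⟩
  haveI : CharP F p := by rw [hp]; exact ringChar.charP F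
  obtain ⟨n, hpn, hn⟩ := FiniteField.card F p
  haveI : Fact p.Prime := ⟨hpn⟩
  haveI : CharP (Kq F) p := charP_of_injective_algebraMap (algebraMap F (Kq F)).injective p
  have hω : (ω : Kq F) ^ Fintype.card F = -ω := by
    obtain ⟨h, hh⟩ : ∃ h, Fintype.card F = 2 * (2 * h + 1) + 1 := ⟨Fintype.card F / 4, by omega⟩
    have h1 : (ω : Kq F) * ω = -1 := by
      rw [omega_mul_omega_eq_mk]
      ext <;> simp
    rw [hh, pow_succ, pow_mul, pow_two, h1, pow_succ, pow_mul, pow_two, neg_mul_neg, one_mul,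
      one_pow, one_mul, neg_mul, one_mul]
  have hz : z = algebraMap F (Kq F) z.re + algebraMap F (Kq F) z.im * ω := by
    ext <;> simp
  have hfrob : ∀ x : Kq F, x ^ Fintype.card F = iterateFrobenius (Kq F) p n x := by
    intro x
    rw [iterateFrobenius_def, hn]
  have halg : ∀ x : F, (algebraMap F (Kq F) x) ^ Fintype.card F = algebraMap F (Kq F) x := by
    intro x
    rw [← map_pow, FiniteField.pow_card]
  conv_lhs => rw [hz]
  rw [hfrob, map_add, map_mul, ← hfrob, ← hfrob, ← hfrob, halg, halg, hω]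
  ext <;> simp

include hq in
theorem exists_SDdat : ∃ (c : GL (Fin 2) F) (α β : F) (e : ℕ), SDdat c α β e := by
  haveI : Fact (∀ r : F, r ^ 2 ≠ -1 + 0 * r) := ⟨not_sq hq⟩
  obtain ⟨q, hqdef⟩ : ∃ q, q = Fintype.card F := ⟨_, rfl⟩
  have hq0 := hq
  rw [← hqdef] at hq
  -- arithmetic
  obtain ⟨k, m₁, hm₁, hk⟩ := Nat.exists_eq_two_pow_mul_odd (n := q + 1) (by omega)
  have hk2 : 2 ≤ k := by
    by_contra hlt
    have hk' : k = 0 ∨ k = 1 := by omega
    obtain ⟨t, ht⟩ := hm₁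
    rcases hk' with rfl | rfl
    · rw [pow_zero, one_mul] at hk; omega
    · rw [pow_one] at hk; omega
  obtain ⟨e, rfl⟩ : ∃ e, k = e + 2 := ⟨k - 2, by omega⟩
  obtain ⟨m₀, hm₀⟩ : ∃ m₀, q = 2 * m₀ + 1 := ⟨q / 2, by omega⟩
  have hm₀odd : Odd m₀ := by
    rw [Nat.odd_iff]; omega
  have hcard : Nat.card (Kq F)ˣ = 2 ^ (e + 3) * (m₀ * m₁) := by
    rw [Nat.card_units, card_Kq, ← hqdef]
    have h1 : q ^ 2 - 1 = (q - 1) * (q + 1) := by
      have : 1 ≤ q := by omega
      zify [this, Nat.one_le_pow 2 q this]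
      ring
    rw [h1, hk, hm₀]
    have : 2 * m₀ + 1 - 1 = 2 * m₀ := by omega
    rw [this, pow_succ 2 (e + 2)]
    ring
  -- the element
  obtain ⟨g, hg⟩ := IsCyclic.exists_generator (α := (Kq F)ˣ)
  have hgo : orderOf g = 2 ^ (e + 3) * (m₀ * m₁) := by
    rw [orderOf_eq_card_of_forall_mem_zpowers hg, hcard]
  have hmm : m₀ * m₁ ≠ 0 := by
    obtain ⟨t, ht⟩ := hm₁
    obtain ⟨t', ht'⟩ := hm₀odd
    rw [ht, ht']
    positivity
  obtain ⟨ξ, hξ⟩ : ∃ ξ : (Kq F)ˣ, ξ = g ^ (m₀ * m₁) := ⟨_, rfl⟩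
  have hξo : orderOf ξ = 2 ^ (e + 3) := by
    rw [hξ, orderOf_pow_of_dvd hmm (by rw [hgo]; exact Dvd.intro_left _ rfl), hgo,
      Nat.mul_div_cancel _ (Nat.pos_of_ne_zero hmm)]
  have hξ2 : ξ ^ (2 ^ (e + 2)) = -1 := by
    have h1 : (ξ ^ (2 ^ (e + 2))) * (ξ ^ (2 ^ (e + 2))) = 1 := by
      rw [← pow_add, ← two_mul, ← pow_succ', ← hξo, pow_orderOf_eq_one]
    have h3 : ξ ^ (2 ^ (e + 2)) ≠ 1 := by
      intro h
      have := orderOf_dvd_of_pow_eq_one h
      rw [hξo] at this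
      have h4 := Nat.le_of_dvd (by positivity) this
      rw [pow_succ] at h4
      have : 0 < 2 ^ (e + 2) := by positivity
      omega
    have h5 : ((ξ ^ (2 ^ (e + 2)) : (Kq F)ˣ) : Kq F) * ((ξ ^ (2 ^ (e + 2)) : (Kq F)ˣ) : Kq F) = 1 := by
      rw [← Units.val_mul, h1, Units.val_one]
    rcases mul_self_eq_one_iff.mp h5 with h6 | h6
    · exact absurd (Units.ext h6) h3
    · exact Units.ext (by rw [h6]; simp)
  -- the norm
  have hnorm : (ξ : Kq F).re ^ 2 + (ξ : Kq F).im ^ 2 = -1 := by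
    have h1 : algebraMap F (Kq F) (norm (ξ : Kq F)) = (ξ : Kq F) ^ (q + 1) := by
      rw [algebraMap_norm_eq_mul_star, pow_succ', hqdef, pow_card_eq_star hq0]
    have h3 : (ξ : Kq F) ^ (q + 1) = -1 := by
      rw [hk, pow_mul, ← Units.val_pow_eq_pow_val, hξ2]
      obtain ⟨t, ht⟩ := hm₁
      rw [ht, Units.val_neg, Units.val_one, pow_succ, pow_mul]
      simp
    rw [h3] at h1
    have h4 : norm (ξ : Kq F) = -1 := by
      apply (algebraMap F (Kq F)).injective
      rw [h1, map_neg, map_one]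
    rw [QuadraticAlgebra.norm_def] at h4
    linear_combination h4
  refine ⟨Units.map kapHom ξ, (ξ : Kq F).re, (ξ : Kq F).im, e, ?_, hnorm, ?_⟩
  · rfl
  · rw [← map_pow, hξ2]
    apply Units.ext
    rw [Units.coe_map]
    show kapHom (((-1 : (Kq F)ˣ) : Kq F)) = ((-1 : GL (Fin 2) F) : Matrix (Fin 2) (Fin 2) F)
    rw [kapHom_apply]
    simp only [Units.val_neg, Units.val_one]
    unfold kap
    ext i j
    fin_cases i <;> fin_cases j <;> simp

end fin

end Cfsg.Agent.H9L3
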