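import Mathlib
import Cfsg.Prelude
import Cfsg.Agent.Lib.Helper9.L3Fus16
import Cfsg.Agent.Lib.Helper9.L3Fus17

set_option autoImplicit false

/-!
# The `2`-fusion system of `PSL₃(q)`, `q` odd, is simple
-/

namespace Cfsg.Agent.H9L3

open Matrix Cfsg

variable {F : Type*} [Field F]

/-- the `2`-primary part of `Fˣ` -/
def mu2 (F : Type*) [Field F] : Subgroup Fˣ where
  carrier := {x | ∃ k : ℕ, x ^ (2 ^ k) = 1}
  one_mem' := ⟨0, one_pow _⟩
  mul_mem' := by
    rintro x y ⟨k, hk⟩ ⟨l, hl⟩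
    refine ⟨k + l, ?_⟩
    rw [mul_pow, pow_add, pow_mul, hk, one_pow, mul_comm (2 ^ k), pow_mul, hl, one_pow, mul_one]
  inv_mem' := by
    rintro x ⟨k, hk⟩
    exact ⟨k, by rw [inv_pow, hk, inv_one]⟩

theorem mem_mu2 {x : Fˣ} : x ∈ mu2 F ↔ ∃ k : ℕ, x ^ (2 ^ k) = 1 := Iff.rfl

theorem two_ne_zero_of_odd [Fintype F] (hodd : Fintype.card F % 2 = 1) : (2 : F) ≠ 0 := by
  intro h
  have h1 : ringChar F = 2 := by
    have h3 : ((2 : ℕ) : F) = 0 := by exact_mod_cast h
    have h4 := (ringChar.spec F 2).mp h3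
    rcases (Nat.dvd_prime Nat.prime_two).mp h4 with h5 | h5
    · exfalso
      haveI := ringChar.charP F
      exact CharP.ringChar_ne_one h5
    · exact h5
  have := FiniteField.even_card_of_char_two h1
  omega

/-- the centre of `SL₃` has odd order -/
theorem card_center_coprime [Finite F] :
    (Nat.card (Subgroup.center (SpecialLinearGroup (Fin 3) F))).Coprime 2 := by
  haveI : Fact (Nat.Prime 2) := ⟨Nat.prime_two⟩
  rw [Nat.coprime_comm, Nat.Prime.coprime_iff_not_dvd Nat.prime_two]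
  intro hdvd
  obtain ⟨g, hg⟩ := exists_prime_orderOf_dvd_card' 2 hdvd
  have hgc : (g : SpecialLinearGroup (Fin 3) F) ∈ Subgroup.center (SpecialLinearGroup (Fin 3) F) :=
    g.2
  rw [Matrix.SpecialLinearGroup.mem_center_iff] at hgc
  obtain ⟨r, hr, hrg⟩ := hgc
  have h3 : (g : SpecialLinearGroup (Fin 3) F) ^ 3 = 1 := by
    apply Subtype.ext
    rw [Matrix.SpecialLinearGroup.coe_pow, ← hrg, ← map_pow]
    simp only [Fintype.card_fin] at hr
    rw [hr, map_one]
    rfl
  have h4 : g ^ 3 = 1 := Subtype.ext (by simpa using h3)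
  have h5 : orderOf g ∣ 3 := orderOf_dvd_of_pow_eq_one h4
  rw [hg] at h5
  exact absurd h5 (by norm_num)

theorem psl3_simple [Fintype F] (hodd : Fintype.card F % 2 = 1)
    (S : Sylow 2 (Matrix.ProjectiveSpecialLinearGroup (Fin 3) F)) :
    (groupFusionSystem (S : Subgroup (Matrix.ProjectiveSpecialLinearGroup (Fin 3) F))).IsSimple 2 := by
  have h2 : (2 : F) ≠ 0 := two_ne_zero_of_odd hodd
  obtain ⟨π, hπdef⟩ : ∃ π : SpecialLinearGroup (Fin 3) F →*
      Matrix.ProjectiveSpecialLinearGroup (Fin 3) F,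
      π = QuotientGroup.mk' (Subgroup.center (SpecialLinearGroup (Fin 3) F)) := ⟨_, rfl⟩
  have hπ : Function.Surjective π := by
    rw [hπdef]; exact QuotientGroup.mk'_surjective _
  have hkereq : π.ker = Subgroup.center (SpecialLinearGroup (Fin 3) F) := by
    rw [hπdef]; exact QuotientGroup.ker_mk' _
  have hker : π.ker ≤ Subgroup.center (SpecialLinearGroup (Fin 3) F) := hkereq.le
  have hZ : (Nat.card π.ker).Coprime 2 := by
    rw [hkereq]; exact card_center_coprime
  haveI : Finite (Matrix.ProjectiveSpecialLinearGroup (Fin 3) F) :=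
    Finite.of_surjective π hπ
  have hA : (MonoidHom.id (SpecialLinearGroup (Fin 3) F)).range = ⊤ :=
    MonoidHom.range_eq_top.mpr Function.surjective_id
  have hΛ : ∀ x y : Fˣ, dg x y ∈ (⊤ : Subgroup (SpecialLinearGroup (Fin 3) F)) ↔
      x ∈ (⊤ : Subgroup Fˣ) ∧ y ∈ (⊤ : Subgroup Fˣ) := by
    intro x y
    simp
  have hμ2 : ∀ x ∈ (⊤ : Subgroup Fˣ), (∃ k : ℕ, x ^ (2 ^ k) = 1) → x ∈ mu2 F :=
    fun x _ h => h
  by_cases hq : Fintype.card F % 4 = 3
  · -- semidihedral case
    obtain ⟨c, α, β, e, hd⟩ := exists_SDdat hq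
    have hns : ¬ IsSquare (-1 : F) := fun h => (FiniteField.isSquare_neg_one_iff.mp h) hq
    have hμ : ∀ x ∈ mu2 F, x = 1 ∨ x = -1 := by
      rintro x ⟨k, hk⟩
      by_cases hx : x = 1
      · exact Or.inl hx
      · right
        obtain ⟨j, hj⟩ := exists_pow_eq_neg_one x hx k hk
        cases j with
        | zero => rwa [pow_zero, pow_one] at hj
        | succ j =>
          exfalso
          apply hns
          refine ⟨((x ^ (2 ^ j) : Fˣ) : F), ?_⟩
          rw [← Units.val_mul, ← pow_add, ← two_mul, ← pow_succ', hj]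
          simp
    have hneg : (-1 : Fˣ) ∈ mu2 F := ⟨1, by rw [pow_one, pow_two, neg_mul_neg, one_mul]⟩
    exact sd_simple h2 π hπ hker hZ (MonoidHom.id _) Function.injective_id ⊤ hA ⊤ (mu2 F) hd hΛ
      (Subgroup.mem_top _) (Subgroup.mem_top _) (Subgroup.mem_top _) (Subgroup.mem_top _)
      le_top hμ2 hμ hneg S
  · -- wreathed case
    have hsq : IsSquare (-1 : F) := FiniteField.isSquare_neg_one_iff.mpr hq
    obtain ⟨r, hr⟩ := hsq
    have hr0 : r ≠ 0 := by
      intro h
      rw [h, mul_zero] at hr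
      have : (1 : F) = 0 := by linear_combination -hr
      exact one_ne_zero this
    have hi2 : ((Units.mk0 r hr0 : Fˣ) : F) ^ 2 = -1 := by
      rw [Units.val_mk0, pow_two, ← hr]
    have hi : Units.mk0 r hr0 ∈ mu2 F := by
      refine ⟨2, ?_⟩
      apply Units.ext
      rw [Units.val_pow_eq_pow_val, Units.val_mk0, Units.val_one]
      have : r ^ 2 = -1 := by rw [pow_two, ← hr]
      have h4 : (2 : ℕ) ^ 2 = 2 * 2 := by norm_num
      rw [h4, pow_mul, this]
      ring
    exact wr_simple h2 π hπ hker hZ (MonoidHom.id _) Function.injective_id ⊤ hA ⊤ (mu2 F)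
      (Units.mk0 r hr0) hi hi2 hΛ (Subgroup.mem_top _) (Subgroup.mem_top _) (Subgroup.mem_top _)
      le_top hμ2 (fun x hx => hx) S

end Cfsg.Agent.H9L3
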