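import Mathlib
import Cfsg.Prelude
import Cfsg.Agent.Lib.Helper9.L3Fus19

set_option autoImplicit false

/-!
# Explicit elements of `SU₃`
-/

namespace Cfsg.Agent.H9L3

open Matrix Cfsg

variable {F : Type*} [Field F] {q : ℕ} (σ : F ≃+* F) (hσq : ∀ a : F, σ a = a ^ q)

/-- the norm-one subgroup of `Fˣ` -/
def Lam (F : Type*) [Field F] (q : ℕ) : Subgroup Fˣ where
  carrier := {x | x ^ (q + 1) = 1}
  one_mem' := one_pow _
  mul_mem' := by
    intro x y hx hy
    show (x * y) ^ (q + 1) = 1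
    rw [mul_pow, hx, hy, one_mul]
  inv_mem' := by
    intro x hx
    show x⁻¹ ^ (q + 1) = 1
    rw [inv_pow, hx, inv_one]

theorem mem_Lam {x : Fˣ} : x ∈ Lam F q ↔ x ^ (q + 1) = 1 := Iff.rfl

include hσq in
theorem dg_mem_SU_iff (x y : Fˣ) :
    dg x y ∈ Cfsg.SU 3 F q ↔ x ∈ Lam F q ∧ y ∈ Lam F q := by
  unfold dg
  rw [blk_mem_SU_iff σ hσq, dgl_coe, mem_Lam, mem_Lam]
  have e : (!![(x : F), 0; 0, (y : F)] : Matrix (Fin 2) (Fin 2) F)ᵀ *
      (!![(x : F), 0; 0, (y : F)] : Matrix (Fin 2) (Fin 2) F).map σ =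
      !![(x : F) ^ (q + 1), 0; 0, (y : F) ^ (q + 1)] := by
    have hx := hσq (x : F)
    have hy := hσq (y : F)
    ext i j
    fin_cases i <;> fin_cases j <;> simp [Matrix.mul_apply, Fin.sum_univ_two, hx, hy, pow_succ']
  rw [e]
  constructor
  · intro h
    have h00 := congrFun (congrFun h 0) 0
    have h11 := congrFun (congrFun h 1) 1
    simp at h00 h11
    exact ⟨Units.ext (by rw [Units.val_pow_eq_pow_val, h00, Units.val_one]),
      Units.ext (by rw [Units.val_pow_eq_pow_val, h11, Units.val_one])⟩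
  · rintro ⟨hx, hy⟩
    have hx' : (x : F) ^ (q + 1) = 1 := by
      rw [← Units.val_pow_eq_pow_val, hx, Units.val_one]
    have hy' : (y : F) ^ (q + 1) = 1 := by
      rw [← Units.val_pow_eq_pow_val, hy, Units.val_one]
    rw [hx', hy']
    ext i j
    fin_cases i <;> fin_cases j <;> simp

include hσq in
theorem w12_mem_SU : (w12 : SpecialLinearGroup (Fin 3) F) ∈ Cfsg.SU 3 F q := by
  unfold w12
  apply blk_mem_SU σ hσq
  rw [sw_coe]
  ext i j
  fin_cases i <;> fin_cases j <;> simp [Matrix.mul_apply, Fin.sum_univ_two]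

include hσq in
theorem w23_mem_SU : (w23 : SpecialLinearGroup (Fin 3) F) ∈ Cfsg.SU 3 F q := by
  rw [mem_SU_iff_mat σ hσq, w23_coe]
  ext i j
  fin_cases i <;> fin_cases j <;> simp [Matrix.mul_apply, Fin.sum_univ_three]

theorem kap_unitary (α β : F) (hα : σ α = -α) (hβ : σ β = -β) (h : α ^ 2 + β ^ 2 = -1) :
    (kap α β)ᵀ * (kap α β).map σ = 1 := by
  unfold kap
  ext i j
  fin_cases i <;> fin_cases j <;>
    simp [Matrix.mul_apply, Fin.sum_univ_two, hα, hβ] <;>
    first
      | linear_combination h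
      | linear_combination -h
      | ring

theorem k3Mat_unitary (h2 : (2 : F) ≠ 0) (α β : F) (hα : σ α = -α) (hβ : σ β = -β)
    (h : α ^ 2 + β ^ 2 = -1) :
    (k3Mat α β)ᵀ * (k3Mat α β).map σ = 1 := by
  have hs2 : σ 2 = 2 := map_ofNat σ 2
  unfold k3Mat
  ext i j
  fin_cases i <;> fin_cases j <;>
    simp [Matrix.mul_apply, Fin.sum_univ_two, hα, hβ, map_div₀, hs2] <;> field_simp <;>
    first
      | linear_combination h
      | linear_combination -h
      | linear_combination (2 : F) * h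
      | linear_combination (-2 : F) * h
      | ring

theorem h3Mat_unitary (h2 : (2 : F) ≠ 0) (i : F) (hi : σ i = -i) (hi2 : i ^ 2 = -1) :
    (h3Mat i)ᵀ * (h3Mat i).map σ = 1 := by
  have hs2 : σ 2 = 2 := map_ofNat σ 2
  unfold h3Mat
  ext a b
  fin_cases a <;> fin_cases b <;>
    simp [Matrix.mul_apply, Fin.sum_univ_two, hi, map_div₀, hs2] <;> field_simp <;>
    first
      | linear_combination hi2
      | linear_combination -hi2
      | linear_combination (2 : F) * hi2
      | linear_combination (-2 : F) * hi2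
      | ring

end Cfsg.Agent.H9L3
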