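import Mathlib
import Cfsg.Prelude
import Cfsg.Agent.Lib.Helper9.L3Fus18
import Cfsg.Agent.Lib.Helper9.L3Fus20

set_option autoImplicit false

/-!
# Centre of subgroups of `SL₃` containing the monomial involutions; torus elements
-/

namespace Cfsg.Agent.H9L3

open Matrix Cfsg

variable {F : Type*} [Field F]

theorem center_pow_three (h2 : (2 : F) ≠ 0) (A : Subgroup (SpecialLinearGroup (Fin 3) F))
    (hz : dg (-1) (-1) ∈ A) (hz' : dg (-1) 1 ∈ A) (hw12 : w12 ∈ A) (hw23 : w23 ∈ A)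
    (g : A) (hg : g ∈ Subgroup.center A) : g ^ 3 = 1 := by
  rw [Subgroup.mem_center_iff] at hg
  have hc : ∀ x (hx : x ∈ A), x * (g : SpecialLinearGroup (Fin 3) F) = (g : SpecialLinearGroup (Fin 3) F) * x := by
    intro x hx
    exact congrArg Subtype.val (hg ⟨x, hx⟩)
  obtain ⟨a, b, hab⟩ := exists_dg_of_commute h2 (g : SpecialLinearGroup (Fin 3) F)
    (by rw [zel_eq_dg]; exact (hc _ hz).symm) (hc _ hz').symm
  have h12 := hc _ hw12
  rw [hab, w12_mul_dg] at h12
  have hba : b = a := (dg_injective (mul_right_cancel h12)).1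
  have h23 := hc _ hw23
  rw [hab, w23_mul_dg] at h23
  have h3 := (dg_injective (mul_right_cancel h23)).2
  rw [hba] at h3
  have ha3 : a ^ 3 = 1 := by
    have : a * a * a = 1 := by
      calc a * a * a = a * a * (a * a)⁻¹ := by rw [h3]
        _ = 1 := mul_inv_cancel _
    rw [pow_succ, pow_two]; exact this
  apply Subtype.ext
  rw [Subgroup.coe_pow, hab, dg_pow, hba, ha3, dg_one]
  rfl

theorem card_center_coprime' [Finite F] (h2 : (2 : F) ≠ 0)
    (A : Subgroup (SpecialLinearGroup (Fin 3) F))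
    (hz : dg (-1) (-1) ∈ A) (hz' : dg (-1) 1 ∈ A) (hw12 : w12 ∈ A) (hw23 : w23 ∈ A) :
    (Nat.card (Subgroup.center A)).Coprime 2 := by
  haveI : Fact (Nat.Prime 2) := ⟨Nat.prime_two⟩
  rw [Nat.coprime_comm, Nat.Prime.coprime_iff_not_dvd Nat.prime_two]
  intro hdvd
  obtain ⟨g, hg⟩ := exists_prime_orderOf_dvd_card' 2 hdvd
  have h3 := center_pow_three h2 A hz hz' hw12 hw23 (g : A) g.2
  have h4 : g ^ 3 = 1 := Subtype.ext (by simpa using h3)
  have h5 : orderOf g ∣ 3 := orderOf_dvd_of_pow_eq_one h4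
  rw [hg] at h5
  exact absurd h5 (by norm_num)

/-- the split torus matrices `P diag(x, x') P⁻¹` -/
def torMat (i x x' : F) : Matrix (Fin 2) (Fin 2) F := kap ((x + x') / 2) (i * (x - x') / 2)

theorem torMat_mul (h2 : (2 : F) ≠ 0) (i : F) (hi2 : i ^ 2 = -1) (x x' y y' : F) :
    torMat i x x' * torMat i y y' = torMat i (x * y) (x' * y') := by
  unfold torMat
  rw [kap_mul]
  congr 1
  · field_simp
    linear_combination (-(x - x') * (y - y')) * hi2
  · field_simp
    ring

theorem torMat_one (h2 : (2 : F) ≠ 0) (i : F) : torMat i 1 1 = 1 := by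
  unfold torMat
  rw [← kap_one]
  congr 1
  · field_simp
    ring
  · ring

theorem torMat_pow (h2 : (2 : F) ≠ 0) (i : F) (hi2 : i ^ 2 = -1) (x x' : F) (n : ℕ) :
    torMat i x x' ^ n = torMat i (x ^ n) (x' ^ n) := by
  induction n with
  | zero => rw [pow_zero, pow_zero, pow_zero, torMat_one h2]
  | succ n ih => rw [pow_succ, ih, torMat_mul h2 i hi2, pow_succ, pow_succ]

end Cfsg.Agent.H9L3
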