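import Mathlib
import Cfsg.Prelude
import Cfsg.Agent.Lib.Helper9.L3Fus21

set_option autoImplicit false

/-!
# Semidihedral data in the unitary case, `q ≡ 1 mod 4`
-/

namespace Cfsg.Agent.H9L3

open Matrix Cfsg

variable {F : Type*} [Field F] [Fintype F] {q : ℕ}

theorem exists_sqrt_neg_one (hF : Fintype.card F = q ^ 2) (hodd : q % 2 = 1) :
    ∃ i : F, i ^ 2 = -1 := by
  have h4 : Fintype.card F % 4 ≠ 3 := by
    rw [hF]
    obtain ⟨t, ht⟩ : ∃ t, q = 2 * t + 1 := ⟨q / 2, by omega⟩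
    have : (2 * t + 1) ^ 2 = 4 * (t * t + t) + 1 := by ring
    rw [ht, this]
    omega
  obtain ⟨r, hr⟩ := FiniteField.isSquare_neg_one_iff.mpr h4
  exact ⟨r, by rw [pow_two, ← hr]⟩

theorem exists_SDdat_unitary (hF : Fintype.card F = q ^ 2) (hq : q % 4 = 1) (h2 : (2 : F) ≠ 0)
    (σ : F ≃+* F) (hσq : ∀ a : F, σ a = a ^ q) :
    ∃ (c : GL (Fin 2) F) (α β : F) (e : ℕ), SDdat c α β e ∧ σ α = -α ∧ σ β = -β := by
  obtain ⟨i, hi2⟩ := exists_sqrt_neg_one hF (by omega)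
  have hi4 : i ^ 4 = 1 := by
    have : i ^ 4 = (i ^ 2) ^ 2 := by ring
    rw [this, hi2]; ring
  have hσi : σ i = i := by
    obtain ⟨t, ht⟩ : ∃ t, q = 4 * t + 1 := ⟨q / 4, by omega⟩
    rw [hσq, ht, pow_succ, pow_mul, hi4, one_pow, one_mul]
  have hq2 : 2 ≤ q := by
    have h1 : 1 < Fintype.card F := Fintype.one_lt_card
    rw [hF] at h1
    by_contra hlt
    have : q ≤ 1 := by omega
    have h3 : q ^ 2 ≤ 1 := by
      calc q ^ 2 ≤ 1 ^ 2 := Nat.pow_le_pow_left this 2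
        _ = 1 := one_pow 2
    omega
  -- arithmetic
  obtain ⟨k, m₁, hm₁, hk⟩ := Nat.exists_eq_two_pow_mul_odd (n := q - 1) (by omega)
  have hk2 : 2 ≤ k := by
    by_contra hlt
    have hk' : k = 0 ∨ k = 1 := by omega
    obtain ⟨t, ht⟩ := hm₁
    rcases hk' with rfl | rfl
    · rw [pow_zero, one_mul] at hk; omega
    · rw [pow_one] at hk; omega
  obtain ⟨e, rfl⟩ : ∃ e, k = e + 2 := ⟨k - 2, by omega⟩
  obtain ⟨m₀, hm₀⟩ : ∃ m₀, q + 1 = 2 * m₀ := ⟨(q + 1) / 2, by omega⟩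
  have hm₀odd : Odd m₀ := by
    rw [Nat.odd_iff]; omega
  have hcard : Nat.card Fˣ = 2 ^ (e + 3) * (m₀ * m₁) := by
    rw [Nat.card_units, Nat.card_eq_fintype_card, hF]
    have h1 : q ^ 2 - 1 = (q - 1) * (q + 1) := by
      have : 1 ≤ q := by omega
      zify [this, Nat.one_le_pow 2 q this]
      ring
    rw [h1, hk, hm₀, pow_succ 2 (e + 2)]
    ring
  obtain ⟨g, hg⟩ := IsCyclic.exists_generator (α := Fˣ)
  have hgo : orderOf g = 2 ^ (e + 3) * (m₀ * m₁) := by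
    rw [orderOf_eq_card_of_forall_mem_zpowers hg, hcard]
  have hmm : m₀ * m₁ ≠ 0 := by
    obtain ⟨t, ht⟩ := hm₁
    obtain ⟨t', ht'⟩ := hm₀odd
    rw [ht, ht']
    positivity
  obtain ⟨ξ, hξ⟩ : ∃ ξ : Fˣ, ξ = g ^ (m₀ * m₁) := ⟨_, rfl⟩
  have hξo : orderOf ξ = 2 ^ (e + 3) := by
    rw [hξ, orderOf_pow_of_dvd hmm (by rw [hgo]; exact Dvd.intro_left _ rfl), hgo,
      Nat.mul_div_cancel _ (Nat.pos_of_ne_zero hmm)]
  have hξ2 : ξ ^ (2 ^ (e + 2)) = -1 := by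
    have h1 : (ξ ^ (2 ^ (e + 2))) * (ξ ^ (2 ^ (e + 2))) = 1 := by
      rw [← pow_add, ← two_mul, ← pow_succ', ← hξo, pow_orderOf_eq_one]
    have h3 : ξ ^ (2 ^ (e + 2)) ≠ 1 := by
      intro h
      have := orderOf_dvd_of_pow_eq_one h
      rw [hξo] at this
      have h4 := Nat.le_of_dvd (by positivity) this
      rw [pow_succ] at h4
      have : 0 < 2 ^ (e + 2) := by positivity
      omega
    have h5 : ((ξ ^ (2 ^ (e + 2)) : Fˣ) : F) * ((ξ ^ (2 ^ (e + 2)) : Fˣ) : F) = 1 := by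
      rw [← Units.val_mul, h1, Units.val_one]
    rcases mul_self_eq_one_iff.mp h5 with h6 | h6
    · exact absurd (Units.ext h6) h3
    · exact Units.ext (by rw [h6]; simp)
  obtain ⟨ζ, hζ⟩ : ∃ ζ : F, ζ = (ξ : F) := ⟨_, rfl⟩
  have hζ0 : ζ ≠ 0 := by rw [hζ]; exact ξ.ne_zero
  have hζ2 : ζ ^ (2 ^ (e + 2)) = -1 := by
    rw [hζ, ← Units.val_pow_eq_pow_val, hξ2]; simp
  have hζq : ζ ^ q = -ζ := by
    have h1 : ζ ^ (q - 1) = -1 := by
      rw [hk, pow_mul, hζ2]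
      obtain ⟨t, ht⟩ := hm₁
      rw [ht, pow_succ, pow_mul]
      simp
    have : q = (q - 1) + 1 := by omega
    rw [this, pow_succ, h1]
    ring
  have hσζ : σ ζ = -ζ := by rw [hσq, hζq]
  have hσζi : σ ζ⁻¹ = -ζ⁻¹ := by rw [map_inv₀, hσζ, inv_neg]
  obtain ⟨α, hα⟩ : ∃ α : F, α = (ζ + -ζ⁻¹) / 2 := ⟨_, rfl⟩
  obtain ⟨β, hβ⟩ : ∃ β : F, β = i * (ζ - -ζ⁻¹) / 2 := ⟨_, rfl⟩
  have hs2 : σ 2 = 2 := map_ofNat σ 2
  have hσα : σ α = -α := by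
    rw [hα, map_div₀, map_add, map_neg, hσζ, hσζi, hs2]
    ring
  have hσβ : σ β = -β := by
    rw [hβ, map_div₀, map_mul, map_sub, map_neg, hσζ, hσζi, hs2, hσi]
    ring
  have hnorm : α ^ 2 + β ^ 2 = -1 := by
    rw [hα, hβ]
    field_simp
    linear_combination ((ζ ^ 2 + 1) ^ 2) * hi2
  have hkap : kap α β = torMat i ζ (-ζ⁻¹) := by
    unfold torMat
    rw [hα, hβ]
  have hdet : (kap α β).det ≠ 0 := by
    rw [det_kap, hnorm]
    exact neg_ne_zero.mpr one_ne_zero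
  refine ⟨Matrix.GeneralLinearGroup.mkOfDetNeZero (kap α β) hdet, α, β, e, ⟨rfl, hnorm, ?_⟩,
    hσα, hσβ⟩
  apply Units.ext
  rw [Units.val_pow_eq_pow_val]
  show (kap α β) ^ (2 ^ (e + 2)) = ((-1 : GL (Fin 2) F) : Matrix (Fin 2) (Fin 2) F)
  rw [hkap, torMat_pow h2 i hi2, hζ2]
  have h5 : (-ζ⁻¹) ^ (2 ^ (e + 2)) = -1 := by
    rw [pow_succ', pow_mul, neg_pow_two, ← pow_mul, ← pow_succ', inv_pow, hζ2, inv_neg, inv_one]
  rw [h5]
  unfold torMat kap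
  ext a b
  fin_cases a <;> fin_cases b <;> simp <;> field_simp <;> ring

end Cfsg.Agent.H9L3
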