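import Mathlib
import Cfsg.Prelude
import Cfsg.Agent.Lib.Helper9.L3Fus22

set_option autoImplicit false

/-!
# The `2`-fusion system of `PSU₃(q)`, `q` odd, is simple
-/

namespace Cfsg.Agent.H9L3

open Matrix Cfsg

variable {F : Type*} [Field F]

theorem psu3_simple [Fintype F] (q : ℕ) (hF : Fintype.card F = q ^ 2) (hodd : q % 2 = 1)
    (S : Sylow 2 (Cfsg.PSU 3 F q)) :
    (groupFusionSystem (S : Subgroup (Cfsg.PSU 3 F q))).IsSimple 2 := by
  have hFodd : Fintype.card F % 2 = 1 := by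
    rw [hF, pow_two, Nat.mul_mod, hodd]
  have h2 : (2 : F) ≠ 0 := two_ne_zero_of_odd hFodd
  obtain ⟨σ, hσq⟩ := exists_sigma' hF
  obtain ⟨A, hAdef⟩ : ∃ A : Subgroup (SpecialLinearGroup (Fin 3) F), A = Cfsg.SU 3 F q := ⟨_, rfl⟩
  have hΛ : ∀ x y : Fˣ, dg x y ∈ A ↔ x ∈ Lam F q ∧ y ∈ Lam F q := by
    rw [hAdef]; exact dg_mem_SU_iff σ hσq
  have hw12 : w12 ∈ A := by rw [hAdef]; exact w12_mem_SU σ hσq
  have hw23 : w23 ∈ A := by rw [hAdef]; exact w23_mem_SU σ hσq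
  have hnegΛ : (-1 : Fˣ) ∈ Lam F q := by
    rw [mem_Lam]
    obtain ⟨t, ht⟩ : ∃ t, q + 1 = 2 * t := ⟨(q + 1) / 2, by omega⟩
    rw [ht, pow_mul, pow_two, neg_mul_neg, one_mul, one_pow]
  have hneg2 : (-1 : Fˣ) ∈ mu2 F := ⟨1, by rw [pow_one, pow_two, neg_mul_neg, one_mul]⟩
  -- the quotient map
  obtain ⟨π, hπdef⟩ : ∃ π : A →* A ⧸ Subgroup.center A,
      π = QuotientGroup.mk' (Subgroup.center A) := ⟨_, rfl⟩
  have hπ : Function.Surjective π := by
    rw [hπdef]; exact QuotientGroup.mk'_surjective _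
  have hkereq : π.ker = Subgroup.center A := by
    rw [hπdef]; exact QuotientGroup.ker_mk' _
  have hker : π.ker ≤ Subgroup.center A := hkereq.le
  have hZ : (Nat.card π.ker).Coprime 2 := by
    rw [hkereq]
    exact card_center_coprime' h2 A ((hΛ _ _).mpr ⟨hnegΛ, hnegΛ⟩)
      ((hΛ _ _).mpr ⟨hnegΛ, (Lam F q).one_mem⟩) hw12 hw23
  haveI : Finite (A ⧸ Subgroup.center A) := Finite.of_surjective π hπ
  have hA : A.subtype.range = A := Subgroup.range_subtype A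
  have hι : Function.Injective A.subtype := Subgroup.subtype_injective A
  have hμΛ : Lam F q ⊓ mu2 F ≤ Lam F q := inf_le_left
  have hμ2 : ∀ x ∈ Lam F q, (∃ k : ℕ, x ^ (2 ^ k) = 1) → x ∈ Lam F q ⊓ mu2 F :=
    fun x hx h => ⟨hx, h⟩
  -- transport of the Sylow subgroup
  subst hAdef
  obtain ⟨i, hi2⟩ := exists_sqrt_neg_one hF hodd
  have hi4 : i ^ 4 = 1 := by
    have : i ^ 4 = (i ^ 2) ^ 2 := by ring
    rw [this, hi2]; ring
  by_cases hq : q % 4 = 1
  · -- semidihedral case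
    obtain ⟨c, α, β, e, hd, hσα, hσβ⟩ := exists_SDdat_unitary hF hq h2 σ hσq
    have hk3 : blk (k3gl h2 α β hd.norm) ∈ Cfsg.SU 3 F q :=
      blk_mem_SU σ hσq _ (k3Mat_unitary σ h2 α β hσα hσβ hd.norm)
    have hcA : blk c ∈ Cfsg.SU 3 F q := by
      apply blk_mem_SU σ hσq
      rw [hd.coe]
      exact kap_unitary σ α β hσα hσβ hd.norm
    have hμ : ∀ x ∈ Lam F q ⊓ mu2 F, x = 1 ∨ x = -1 := by
      rintro x ⟨hxΛ, k, hk⟩
      by_cases hx : x = 1
      · exact Or.inl hx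
      · right
        obtain ⟨j, hj⟩ := exists_pow_eq_neg_one x hx k hk
        cases j with
        | zero => rwa [pow_zero, pow_one] at hj
        | succ j =>
          exfalso
          have hy : (x ^ (2 ^ j)) ^ (q + 1) = 1 := by
            rw [← pow_mul, mul_comm, pow_mul, mem_Lam.mp hxΛ, one_pow]
          obtain ⟨t, ht⟩ : ∃ t, q + 1 = 2 * (2 * t + 1) := ⟨q / 4, by omega⟩
          have hy2 : (x ^ (2 ^ j)) ^ 2 = -1 := by
            rw [← pow_mul, ← pow_succ]; exact hj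
          have hm1 : (-1 : Fˣ) ^ (2 * t + 1) = -1 := by
            rw [pow_succ, pow_mul, pow_two, neg_mul_neg, one_mul, one_pow, one_mul]
          rw [ht, pow_mul, hy2, hm1] at hy
          have : ((-1 : Fˣ) : F) = 1 := by rw [hy]; rfl
          rw [Units.val_neg, Units.val_one] at this
          apply h2
          linear_combination -this
    exact sd_simple h2 π hπ hker hZ (Cfsg.SU 3 F q).subtype hι (Cfsg.SU 3 F q) hA (Lam F q)
      (Lam F q ⊓ mu2 F) hd hΛ hw12 hw23 hk3 hcA hμΛ hμ2 hμ ⟨hnegΛ, hneg2⟩ S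
  · -- wreathed case
    have hq3 : q % 4 = 3 := by omega
    have hi0 : i ≠ 0 := by
      intro h
      have h5 : (0 : F) ^ 2 = -1 := by rw [← h]; exact hi2
      have : (1 : F) = 0 := by linear_combination h5
      exact one_ne_zero this
    have hσi : σ i = -i := by
      obtain ⟨t, ht⟩ : ∃ t, q = 4 * t + 3 := ⟨q / 4, by omega⟩
      rw [hσq, ht, pow_add, pow_mul, hi4, one_pow, one_mul]
      have : i ^ 3 = i ^ 2 * i := by ring
      rw [this, hi2]; ring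
    have hiΛ : Units.mk0 i hi0 ∈ Lam F q := by
      rw [mem_Lam]
      apply Units.ext
      obtain ⟨t, ht⟩ : ∃ t, q + 1 = 4 * t := ⟨(q + 1) / 4, by omega⟩
      rw [Units.val_pow_eq_pow_val, Units.val_mk0, ht, pow_mul, hi4, one_pow, Units.val_one]
    have hi2' : Units.mk0 i hi0 ∈ mu2 F := by
      refine ⟨2, ?_⟩
      apply Units.ext
      rw [Units.val_pow_eq_pow_val, Units.val_mk0, Units.val_one]
      have h4 : (2 : ℕ) ^ 2 = 4 := by norm_num
      rw [h4, hi4]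
    have hi2u : ((Units.mk0 i hi0 : Fˣ) : F) ^ 2 = -1 := by
      rw [Units.val_mk0]; exact hi2
    have hg3 : blk (h3gl h2 ((Units.mk0 i hi0 : Fˣ) : F) hi2u) ∈ Cfsg.SU 3 F q :=
      blk_mem_SU σ hσq _ (h3Mat_unitary σ h2 _ (by rw [Units.val_mk0]; exact hσi) hi2u)
    exact wr_simple h2 π hπ hker hZ (Cfsg.SU 3 F q).subtype hι (Cfsg.SU 3 F q) hA (Lam F q)
      (Lam F q ⊓ mu2 F) (Units.mk0 i hi0) ⟨hiΛ, hi2'⟩ hi2u hΛ hw12 hw23 hg3 hμΛ hμ2
      (fun x hx => hx.2) S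

end Cfsg.Agent.H9L3
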