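import Mathlib
import Cfsg.Prelude.Def_Local
import Cfsg.Agent.Lib.Helper9.LB2Climb
import Cfsg.Agent.Lib.Helper1.LB2ThmG

/-!
# S1301 swarm: Theorem G'' (climbing), final form (from `thmG` and `climb_of_thmG`)
-/

set_option autoImplicit false

namespace Cfsg.Agent.Lib.LB2

open Cfsg
open scoped commutatorElement

variable {Γ : Type*} [Group Γ] [Finite Γ]

/-- **Theorem G''** (climbing): the same conclusion if `E`, `A` only centralise a 2-subgroup `R1` of `H` which is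
2-centric in `H` (every 2-subgroup of `C_H(R1)` lies in `R1`). -/
theorem climb (H : Subgroup Γ) (hO : pPrimeCore 2 ↥H = ⊥)
    (R1 : Subgroup Γ) (hR1H : R1 ≤ H) (hR12 : IsPGroup 2 R1)
    (hcent : ∀ Q : Subgroup Γ, IsPGroup 2 Q → Q ≤ H ⊓ Subgroup.centralizer (R1 : Set Γ) → Q ≤ R1)
    (E : Subgroup Γ) (hE2 : IsPGroup 2 E) (hEH : E ≤ Subgroup.normalizer (H : Set Γ))
    (hER : E ≤ Subgroup.centralizer (R1 : Set Γ))
    (A : Subgroup Γ) (hA : Odd (Nat.card A)) (hAH : A ≤ Subgroup.normalizer (H : Set Γ))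
    (hAR : A ≤ Subgroup.centralizer (R1 : Set Γ)) (hAE : A ≤ Subgroup.normalizer (E : Set Γ)) :
    ⁅E, A⁆ ≤ Subgroup.centralizer (H : Set Γ) :=
  climb_of_thmG H
    (fun S hSH hS2 hSyl E' hE'2 hE'H hE'S A' hA' hA'H hA'S hA'E' =>
      thmG H hO S hSH hS2 hSyl E' hE'2 hE'H hE'S A' hA' hA'H hA'S hA'E')
    R1 hR1H hR12 hcent E hE2 hEH hER A hA hAH hAR hAE

end Cfsg.Agent.Lib.LB2
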