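import Mathlib
import Cfsg.Prelude.Def_Amalgam
import Cfsg.Agent.Lib.Helper7.Wielandt1
import Cfsg.Agent.Lib.Helper4.AlperinTame
import Cfsg.Agent.Lib.Helper4.WellPlaced
import Cfsg.Agent.Lib.Helper6.PCore
import Cfsg.Agent.Lib.Lead.Subnormalizer1

set_option autoImplicit false

/-! The L-Lemma: basic relative tools. -/

namespace Cfsg.Agent.H9LL

open Cfsg Cfsg.Agent.Lib.Helper7 Cfsg.Agent.Lib.Helper4

universe u

variable {H : Type u} [Group H]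

/-- `X₀` is the unique maximal subgroup of `X` containing `R` -/
def UMax (X X₀ R : Subgroup H) : Prop :=
  X₀ < X ∧ R ≤ X₀ ∧ ∀ Z : Subgroup H, R ≤ Z → Z < X → Z ≤ X₀

theorem UMax.conj {X X₀ R : Subgroup H} (h : UMax X X₀ R) {g : H} (hg : g ∈ X) :
    UMax X (cj g X₀) (cj g R) := by
  have hX : cj g X = X := cj_eq_self_of_mem hg
  have hX' : cj g⁻¹ X = X := cj_eq_self_of_mem (X.inv_mem hg)
  refine ⟨?_, cj_mono g h.2.1, ?_⟩
  · have := (cj_lt_cj_iff g).mpr h.1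
    rwa [hX] at this
  · intro Z hRZ hZX
    have h1 : R ≤ cj g⁻¹ Z := by
      have := cj_mono g⁻¹ hRZ
      rwa [cj_inv_cj] at this
    have h2 : cj g⁻¹ Z < X := by
      have := (cj_lt_cj_iff g⁻¹).mpr hZX
      rwa [hX'] at this
    have h3 := cj_mono g (h.2.2 _ h1 h2)
    rwa [cj_cj_inv] at h3

theorem UMax.maximal {X X₀ R : Subgroup H} (h : UMax X X₀ R) {M' : Subgroup H} (h1 : X₀ ≤ M')
    (h2 : M' < X) : M' = X₀ :=
  le_antisymm (h.2.2 M' (h.2.1.trans h1) h2) h1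

theorem lt_inf_normalizer [Finite H] {p : ℕ} [Fact p.Prime] {R T : Subgroup H} (hR : IsPGroup p R)
    (hT : T < R) : T < R ⊓ Subgroup.normalizer (T : Set H) := by
  haveI : Group.IsNilpotent R := hR.isNilpotent
  have hH : T.subgroupOf R < ⊤ := by
    rw [lt_top_iff_ne_top, Ne, Subgroup.subgroupOf_eq_top]
    exact not_le_of_gt hT
  have h1 := normalizerCondition_of_isNilpotent (G := R) (T.subgroupOf R) hH
  rw [← Subgroup.subgroupOf_normalizer_eq hT.le] at h1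
  obtain ⟨x, hxN, hxP⟩ := SetLike.exists_of_lt h1
  refine lt_of_le_of_ne (fun y hy => ⟨hT.le hy, Subgroup.le_normalizer hy⟩) ?_
  intro heq
  apply hxP
  rw [Subgroup.mem_subgroupOf, heq]
  exact ⟨x.2, hxN⟩

theorem pCoreOf_cj (p : ℕ) (X : Subgroup H) (g : H) : cj g (pCoreOf p X) = pCoreOf p (cj g X) :=
  Cfsg.Agent.Lib.Helper6.pCoreOf_map_conj p X g

theorem cj_pCoreOf_of_mem (p : ℕ) {X : Subgroup H} {g : H} (hg : g ∈ X) :
    cj g (pCoreOf p X) = pCoreOf p X := by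
  rw [pCoreOf_cj, cj_eq_self_of_mem hg]

/-- a solution of the L-Lemma for `A` in `X` relative to `X₀` -/
def Sol (p : ℕ) (X X₀ A : Subgroup H) : Prop :=
  ∃ L : Subgroup H, L ≤ X ∧ A ⊔ pCoreOf p X ≤ L ∧ ∃ x ∈ X,
    A ⊔ pCoreOf p L ≤ L ⊓ cj x X₀ ∧ L ⊓ cj x X₀ < L ∧
    (∀ Z : Subgroup H, A ⊔ pCoreOf p L ≤ Z → Z < L → Z ≤ L ⊓ cj x X₀) ∧
    ∀ y ∈ L, y ∉ L ⊓ cj x X₀ → (A ⊔ cj y A) ⊔ pCoreOf p L = L

theorem Sol.conj {p : ℕ} {X X₀ A : Subgroup H} (h : Sol p X X₀ A) {c : H} (hc : c ∈ X) :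
    Sol p X X₀ (cj c A) := by
  obtain ⟨L, hLX, hAL, x, hx, h1, h2, h3, h4⟩ := h
  have hX : cj c X = X := cj_eq_self_of_mem hc
  have hinf : cj c L ⊓ cj (c * x) X₀ = cj c (L ⊓ cj x X₀) := by
    rw [cj_mul, ← cj_inf]
  have hsup : cj c A ⊔ pCoreOf p (cj c L) = cj c (A ⊔ pCoreOf p L) := by
    rw [cj_sup, pCoreOf_cj]
  refine ⟨cj c L, ?_, ?_, c * x, X.mul_mem hc hx, ?_, ?_, ?_, ?_⟩
  · rw [← hX]; exact cj_mono c hLX
  · rw [← cj_pCoreOf_of_mem p hc, ← cj_sup]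
    exact cj_mono c hAL
  · rw [hinf, hsup]; exact cj_mono c h1
  · rw [hinf]; exact (cj_lt_cj_iff c).mpr h2
  · intro Z hZ1 hZ2
    rw [hinf]
    rw [hsup] at hZ1
    have e1 : A ⊔ pCoreOf p L ≤ cj c⁻¹ Z := by
      have := cj_mono c⁻¹ hZ1
      rwa [cj_inv_cj] at this
    have e2 : cj c⁻¹ Z < L := by
      have := (cj_lt_cj_iff c⁻¹).mpr hZ2
      rwa [cj_inv_cj] at this
    have e3 := cj_mono c (h3 _ e1 e2)
    rwa [cj_cj_inv] at e3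
  · intro y hy hy'
    rw [hinf] at hy'
    have hy1 : c⁻¹ * y * c ∈ L := (mem_cj c y L).mp hy
    have hy2 : c⁻¹ * y * c ∉ L ⊓ cj x X₀ := fun hh => hy' ((mem_cj c y _).mpr hh)
    have e := h4 _ hy1 hy2
    have e2 : cj y (cj c A) = cj c (cj (c⁻¹ * y * c) A) := by
      rw [← cj_mul, ← cj_mul]
      congr 1
      group
    rw [e2, pCoreOf_cj p L c |>.symm, ← cj_sup, ← cj_sup, e]

theorem Sol.of_sub {p : ℕ} {X X₀ A Q : Subgroup H} {g : H} (hQX : Q ≤ X) (hg : g ∈ X)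
    (hP : pCoreOf p X ≤ pCoreOf p Q) (h : Sol p Q (Q ⊓ cj g X₀) A) : Sol p X X₀ A := by
  obtain ⟨L, hLQ, hAL, q, hq, h1, h2, h3, h4⟩ := h
  have hinf : L ⊓ cj q (Q ⊓ cj g X₀) = L ⊓ cj (q * g) X₀ := by
    rw [cj_inf, cj_eq_self_of_mem hq, ← cj_mul, ← inf_assoc, inf_eq_left.mpr hLQ]
  rw [hinf] at h1 h2 h3 h4
  exact ⟨L, hLQ.trans hQX, (sup_le_sup_left hP A).trans hAL, q * g,
    X.mul_mem (hQX hq) hg, h1, h2, h3, h4⟩

end Cfsg.Agent.H9LL
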