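import Mathlib
import Cfsg.Agent.Lib.Helper9.LL1
import Cfsg.Agent.Lib.Helper9.Amb1

set_option autoImplicit false

/-! The L-Lemma: the induction. -/

namespace Cfsg.Agent.H9LL

open Cfsg Cfsg.Agent.Lib.Helper7 Cfsg.Agent.Lib.Helper4 Cfsg.Agent.Lib.Lead.Subnormalizer
  Cfsg.Agent.Lib.Helper6

universe u

variable {H : Type u} [Group H] [Finite H] {p : ℕ} [Fact p.Prime]

/-- if `X ⊓ N(T) = X` fails to be proper then `X` normalizes `T` -/
theorem le_normalizer_of_not_lt {X T : Subgroup H} (h : ¬ X ⊓ Subgroup.normalizer (T : Set H) < X) :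
    X ≤ Subgroup.normalizer (T : Set H) := by
  have h1 : X ⊓ Subgroup.normalizer (T : Set H) = X := by
    by_contra hne
    exact h (lt_of_le_of_ne inf_le_left hne)
  exact inf_eq_left.mp h1

/-- Case I: `A ⊔ O_p(X)` lies in a unique maximal subgroup. -/
theorem caseI {X X₀ S A : Subgroup H} (hUS : UMax X X₀ S) (hSp : IsPGroup p S) (hAS : A ≤ S)
    (hPS : pCoreOf p X ≤ S) (hA : ¬ A ≤ pCoreOf p X)
    (hI : ∀ Z : Subgroup H, A ⊔ pCoreOf p X ≤ Z → Z < X → Z ≤ X₀) : Sol p X X₀ A := by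
  have hBS : A ⊔ pCoreOf p X ≤ S := sup_le hAS hPS
  have hBX₀ : A ⊔ pCoreOf p X ≤ X₀ := hBS.trans hUS.2.1
  have hBX : A ⊔ pCoreOf p X ≤ X := hBX₀.trans hUS.1.le
  have hBp : IsPGroup p (A ⊔ pCoreOf p X : Subgroup H) := hSp.to_le hBS
  have e0 : X ⊓ cj 1 X₀ = X₀ := by rw [cj_one, inf_eq_right.mpr hUS.1.le]
  refine ⟨X, le_rfl, hBX, 1, X.one_mem, ?_, ?_, ?_, ?_⟩
  · rw [e0]; exact hBX₀
  · rw [e0]; exact hUS.1
  · rw [e0]; exact hI
  · rw [e0]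
    intro y hy hy'
    by_contra hne
    have hAX : A ≤ X := le_sup_left.trans hBX
    have hZX : (A ⊔ cj y A) ⊔ pCoreOf p X ≤ X :=
      sup_le (sup_le hAX (cj_le_of_mem hy hAX)) (pCoreOf_le X)
    have hZlt : (A ⊔ cj y A) ⊔ pCoreOf p X < X := lt_of_le_of_ne hZX hne
    have hBZ : A ⊔ pCoreOf p X ≤ (A ⊔ cj y A) ⊔ pCoreOf p X :=
      sup_le_sup_right le_sup_left _
    have hZX₀ := hI _ hBZ hZlt
    have h1 : cj y (A ⊔ pCoreOf p X) ≤ X₀ := by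
      rw [cj_sup, cj_pCoreOf_of_mem p hy]
      exact sup_le ((le_sup_right.trans le_sup_left).trans hZX₀) (le_sup_right.trans hZX₀)
    have h2 : A ⊔ pCoreOf p X ≤ cj y⁻¹ X₀ := by
      have := cj_mono y⁻¹ h1
      rwa [cj_inv_cj] at this
    have h3 : cj y⁻¹ X₀ < X := (hUS.conj (X.inv_mem hy)).1
    have h4 : cj y⁻¹ X₀ = X₀ := cj_eq_of_le (hI _ h2 h3)
    have hyN : y ∈ Subgroup.normalizer (X₀ : Set H) := by
      have := mem_normalizer_iff_cj.mpr h4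
      have h5 := Subgroup.inv_mem _ this
      rwa [inv_inv] at h5
    -- X normalizes X₀
    have hXN : X ≤ Subgroup.normalizer (X₀ : Set H) := by
      apply le_normalizer_of_not_lt
      intro hlt
      have h5 : X₀ ≤ X ⊓ Subgroup.normalizer (X₀ : Set H) := le_inf hUS.1.le Subgroup.le_normalizer
      have h6 := hUS.2.2 _ (hUS.2.1.trans h5) hlt
      exact hy' (h6 ⟨hy, hyN⟩)
    -- Frattini
    obtain ⟨S₀, hBS₀, hS₀⟩ := exists_sylIn_ge hBX₀ hBp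
    have hfr : ∀ h ∈ X, ∃ d ∈ X₀, d⁻¹ * h ∈ Subgroup.normalizer (S₀ : Set H) := by
      intro h hh
      have hX₀h : cj h X₀ = X₀ := mem_normalizer_iff_cj.mp (hXN hh)
      have h2 : SylIn p X₀ (cj h S₀) := by
        refine ⟨?_, isPGroup_cj h hS₀.2.1, ?_⟩
        · rw [← hX₀h]; exact cj_mono h hS₀.1
        · have := relIndex_cj h S₀ X₀
          rw [hX₀h] at this
          rw [this]; exact hS₀.2.2
      obtain ⟨d, hd, hdS⟩ := SylIn.conj hS₀ h2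
      refine ⟨d, hd, ?_⟩
      rw [mem_normalizer_iff_cj, cj_mul, ← hdS, cj_inv_cj]
    have hS₀N : X ≤ Subgroup.normalizer (S₀ : Set H) := by
      apply le_normalizer_of_not_lt
      intro hlt
      have h5 : A ⊔ pCoreOf p X ≤ X ⊓ Subgroup.normalizer (S₀ : Set H) :=
        le_inf hBX (hBS₀.trans Subgroup.le_normalizer)
      have h6 := hI _ h5 hlt
      obtain ⟨d, hd, hdy⟩ := hfr y hy
      have h7 : d⁻¹ * y ∈ X₀ := h6 ⟨X.mul_mem (X.inv_mem (hUS.1.le hd)) hy, hdy⟩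
      have : y = d * (d⁻¹ * y) := by group
      rw [this] at hy'
      exact hy' (X₀.mul_mem hd h7)
    have h8 : S₀ ≤ pCoreOf p X := le_pCoreOf (hS₀.1.trans hUS.1.le) hS₀.2.1 hS₀N
    exact hA ((le_sup_left.trans hBS₀).trans h8)

/-- **the generalized L-Lemma** -/
theorem main : ∀ (n : ℕ) (X X₀ R A : Subgroup H), Nat.card X = n → UMax X X₀ R → IsPGroup p R →
    A ≤ R → ¬ A ≤ pCoreOf p X → Sol p X X₀ A := by
  intro n
  induction n using Nat.strong_induction_on with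
  | _ n ih =>
  intro X X₀ R A hn hU hR hAR hA
  have hRX : R ≤ X := hU.2.1.trans hU.1.le
  obtain ⟨S, hRS, hS⟩ := exists_sylIn_ge hRX hR
  have hPS : pCoreOf p X ≤ S :=
    hS.normal_le (pCoreOf_le X) (le_normalizer_pCoreOf p X) (pCoreOf_isPGroup p X)
  have hSX : S < X := by
    refine lt_of_le_of_ne hS.1 ?_
    intro h
    apply hA
    have hXp : IsPGroup p X := h ▸ hS.2.1
    exact (hAR.trans hRX).trans (le_pCoreOf le_rfl hXp Subgroup.le_normalizer)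
  have hUS : UMax X X₀ S :=
    ⟨hU.1, hU.2.2 S hRS hSX, fun Z hSZ hZX => hU.2.2 Z (hRS.trans hSZ) hZX⟩
  have hAS : A ≤ S := hAR.trans hRS
  have hSp : IsPGroup p S := hS.2.1
  have hBS : A ⊔ pCoreOf p X ≤ S := sup_le hAS hPS
  have hBX : A ⊔ pCoreOf p X ≤ X := hBS.trans hS.1
  have hBp : IsPGroup p (A ⊔ pCoreOf p X : Subgroup H) := hSp.to_le hBS
  by_cases hI : ∀ Z : Subgroup H, A ⊔ pCoreOf p X ≤ Z → Z < X → Z ≤ X₀
  · exact caseI hUS hSp hAS hPS hA hI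
  · push Not at hI
    obtain ⟨Z₀, hBZ₀, hZ₀X, hZ₀⟩ := hI
    let InR : Subgroup H → Prop := fun U =>
      ∃ M' : Subgroup H, M' < X ∧ U ≤ M' ∧ ∀ Z : Subgroup H, U ≤ Z → Z < X → Z ≤ M'
    let 𝒯 : Set (Subgroup H) := {U | IsPGroup p U ∧ A ⊔ pCoreOf p X ≤ U ∧ U ≤ X ∧ ¬ InR U}
    have hB𝒯 : (A ⊔ pCoreOf p X) ∈ 𝒯 := by
      refine ⟨hBp, le_rfl, hBX, ?_⟩
      rintro ⟨M', hM'X, hBM', hM'⟩
      have h1 : X₀ ≤ M' := hM' X₀ (hBS.trans hUS.2.1) hU.1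
      have h2 : M' = X₀ := hUS.maximal h1 hM'X
      exact hZ₀ (h2 ▸ hM' Z₀ hBZ₀ hZ₀X)
    obtain ⟨T₁, hT₁, hmax⟩ := Set.exists_max_image 𝒯 (fun U => Nat.card U) (Set.toFinite 𝒯)
      ⟨_, hB𝒯⟩
    obtain ⟨hT₁p, hBT₁, hT₁X, hT₁R⟩ := hT₁
    obtain ⟨c, hc, hcT⟩ := hS.exists_conj_le hT₁X hT₁p
    have hg : c⁻¹ ∈ X := X.inv_mem hc
    have hT₁R₁ : T₁ ≤ cj c⁻¹ S := by
      have := cj_mono c⁻¹ hcT
      rwa [cj_inv_cj] at this
    have hU₁ : UMax X (cj c⁻¹ X₀) (cj c⁻¹ S) := hUS.conj hg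
    have hR₁p : IsPGroup p (cj c⁻¹ S) := isPGroup_cj c⁻¹ hSp
    have hInR₁ : InR (cj c⁻¹ S) := ⟨cj c⁻¹ X₀, hU₁.1, hU₁.2.1, hU₁.2.2⟩
    have hT₁lt : T₁ < cj c⁻¹ S := by
      refine lt_of_le_of_ne hT₁R₁ ?_
      intro h
      exact hT₁R (h ▸ hInR₁)
    have hT₁₂ : T₁ < cj c⁻¹ S ⊓ Subgroup.normalizer (T₁ : Set H) := lt_inf_normalizer hR₁p hT₁lt
    have hT₂p : IsPGroup p (cj c⁻¹ S ⊓ Subgroup.normalizer (T₁ : Set H) : Subgroup H) :=
      hR₁p.to_le inf_le_left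
    have hT₂M : cj c⁻¹ S ⊓ Subgroup.normalizer (T₁ : Set H) ≤ cj c⁻¹ X₀ :=
      inf_le_left.trans hU₁.2.1
    have hT₂X : cj c⁻¹ S ⊓ Subgroup.normalizer (T₁ : Set H) ≤ X := hT₂M.trans hU₁.1.le
    -- bigger p-subgroups inside `M₁` have `M₁` as unique maximal overgroup
    have hbig : ∀ U : Subgroup H, IsPGroup p U → T₁ < U → U ≤ X → U ≤ cj c⁻¹ X₀ →
        ∀ Z : Subgroup H, U ≤ Z → Z < X → Z ≤ cj c⁻¹ X₀ := by
      intro U hUp hTU hUX hUM Z hUZ hZX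
      have hnot : U ∉ 𝒯 := by
        intro hU𝒯
        have := hmax U hU𝒯
        exact absurd (Cfsg.Agent.H9Amb.card_lt_of_lt hTU) (not_lt.mpr this)
      have hInR : InR U := by
        by_contra hcon
        exact hnot ⟨hUp, hBT₁.trans hTU.le, hUX, hcon⟩
      obtain ⟨M'', hM''X, hUM'', hall⟩ := hInR
      have h1 : cj c⁻¹ X₀ ≤ M'' := hall _ hUM hU₁.1
      have h2 : M'' = cj c⁻¹ X₀ := hU₁.maximal h1 hM''X
      exact h2 ▸ hall Z hUZ hZX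
    have hNT₁ : X ⊓ Subgroup.normalizer (T₁ : Set H) ≤ cj c⁻¹ X₀ := by
      by_cases h : X ⊓ Subgroup.normalizer (T₁ : Set H) < X
      · exact hbig _ hT₂p hT₁₂ hT₂X hT₂M _ (le_inf hT₂X inf_le_right) h
      · exfalso
        have h1 := le_normalizer_of_not_lt h
        exact hA ((le_sup_left.trans hBT₁).trans (le_pCoreOf hT₁X hT₁p h1))
    have hT₁M : T₁ ≤ cj c⁻¹ X₀ := hT₁₂.le.trans hT₂M
    have hZ₁ : ∃ Z₁ : Subgroup H, T₁ ≤ Z₁ ∧ Z₁ < X ∧ ¬ Z₁ ≤ cj c⁻¹ X₀ := by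
      by_contra hcon
      push Not at hcon
      exact hT₁R ⟨cj c⁻¹ X₀, hU₁.1, hT₁M, hcon⟩
    obtain ⟨Z₁, hT₁Z₁, hZ₁X, hZ₁M⟩ := hZ₁
    obtain ⟨Q, hQ⟩ := exists_minimal_of_wellFoundedLT
      (fun Q : Subgroup H => T₁ ≤ Q ∧ Q ≤ Z₁ ∧ ¬ Q ≤ cj c⁻¹ X₀) ⟨Z₁, hT₁Z₁, le_rfl, hZ₁M⟩
    obtain ⟨⟨hT₁Q, hQZ₁, hQM⟩, hQmin⟩ := hQ
    have hQX : Q < X := lt_of_le_of_lt hQZ₁ hZ₁X
    have hUQ : UMax Q (Q ⊓ cj c⁻¹ X₀) T₁ := by
      refine ⟨inf_lt_left.mpr hQM, le_inf hT₁Q hT₁M, ?_⟩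
      intro Z hT₁Z hZQ
      refine le_inf hZQ.le ?_
      by_contra hcon
      have := hQmin ⟨hT₁Z, hZQ.le.trans hQZ₁, hcon⟩ hZQ.le
      exact (not_le_of_gt hZQ) this
    have hT₁syl : ∀ U : Subgroup H, IsPGroup p U → T₁ ≤ U → U ≤ Q → U = T₁ := by
      intro U hUp hT₁U hUQ'
      by_contra hne
      have hlt : T₁ < U := lt_of_le_of_ne hT₁U (Ne.symm hne)
      have h1 : T₁ < U ⊓ Subgroup.normalizer (T₁ : Set H) := lt_inf_normalizer hUp hlt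
      have h2 : U ⊓ Subgroup.normalizer (T₁ : Set H) ≤ X ⊓ Subgroup.normalizer (T₁ : Set H) :=
        inf_le_inf_right _ (hUQ'.trans hQX.le)
      have h3 := hbig _ (hUp.to_le inf_le_left) h1 (h2.trans inf_le_left) (h2.trans hNT₁) Q
        (inf_le_left.trans hUQ') hQX
      exact hQM h3
    have hOQ : pCoreOf p Q ≤ T₁ := by
      have hp : IsPGroup p (pCoreOf p Q ⊔ T₁ : Subgroup H) :=
        IsPGroup.to_sup_of_normal_left' (pCoreOf_isPGroup p Q) hT₁p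
          (hT₁Q.trans (le_normalizer_pCoreOf p Q))
      have := hT₁syl _ hp le_sup_right (sup_le (pCoreOf_le Q) hT₁Q)
      rw [← this]; exact le_sup_left
    by_cases hex : ∃ x ∈ X, cj x A ≤ T₁ ∧ ¬ cj x A ≤ pCoreOf p Q
    · obtain ⟨x, hx, hxT, hxO⟩ := hex
      have hQcard : Nat.card Q < n := hn ▸ Cfsg.Agent.H9Amb.card_lt_of_lt hQX
      have hsol := ih _ hQcard Q (Q ⊓ cj c⁻¹ X₀) T₁ (cj x A) rfl hUQ hT₁p hxT hxO
      have hPQ : pCoreOf p X ≤ pCoreOf p Q :=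
        le_pCoreOf ((le_sup_right.trans hBT₁).trans hT₁Q) (pCoreOf_isPGroup p X)
          (hQX.le.trans (le_normalizer_pCoreOf p X))
      have hsol' : Sol p X X₀ (cj x A) := Sol.of_sub hQX.le hg hPQ hsol
      have := hsol'.conj (X.inv_mem hx)
      rwa [cj_inv_cj] at this
    · exfalso
      push Not at hex
      have hAT₁ : A ≤ T₁ := le_sup_left.trans hBT₁
      have hAW : A ≤ ⨆ x : {x : H // x ∈ X ∧ cj x A ≤ T₁}, cj (x : H) A := by
        refine le_iSup_of_le ⟨1, X.one_mem, ?_⟩ ?_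
        · rw [cj_one]; exact hAT₁
        · rw [cj_one]
      have hWT : (⨆ x : {x : H // x ∈ X ∧ cj x A ≤ T₁}, cj (x : H) A) ≤ T₁ :=
        iSup_le (fun x => x.2.2)
      have hconj : ∀ m ∈ X, (∀ x : H, x ∈ X → cj x A ≤ T₁ → cj (m * x) A ≤ T₁) →
          cj m (⨆ x : {x : H // x ∈ X ∧ cj x A ≤ T₁}, cj (x : H) A) ≤
            ⨆ x : {x : H // x ∈ X ∧ cj x A ≤ T₁}, cj (x : H) A := by
        intro m hm hstep
        rw [cj, Subgroup.map_iSup]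
        apply iSup_le
        intro x
        have e : (cj (x : H) A).map (MulAut.conj m).toMonoidHom = cj (m * x) A := by
          rw [cj_mul]
        rw [e]
        exact le_iSup_of_le (⟨m * x, X.mul_mem hm x.2.1, hstep x x.2.1 x.2.2⟩ :
          {x : H // x ∈ X ∧ cj x A ≤ T₁}) le_rfl
      have hN1 : X ⊓ Subgroup.normalizer (T₁ : Set H) ≤ Subgroup.normalizer
          ((⨆ x : {x : H // x ∈ X ∧ cj x A ≤ T₁}, cj (x : H) A : Subgroup H) : Set H) := by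
        intro m hm
        rw [mem_normalizer_iff_cj]
        apply cj_eq_of_le
        apply hconj m hm.1
        intro x hx hxT
        rw [cj_mul]
        have := cj_mono m hxT
        rwa [mem_normalizer_iff_cj.mp hm.2] at this
      have hN2 : Q ≤ Subgroup.normalizer
          ((⨆ x : {x : H // x ∈ X ∧ cj x A ≤ T₁}, cj (x : H) A : Subgroup H) : Set H) := by
        intro q hq
        rw [mem_normalizer_iff_cj]
        apply cj_eq_of_le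
        apply hconj q (hQX.le hq)
        intro x hx hxT
        rw [cj_mul]
        have h1 := cj_mono q (hex x hx hxT)
        rw [cj_pCoreOf_of_mem p hq] at h1
        exact h1.trans hOQ
      have hT₂N : cj c⁻¹ S ⊓ Subgroup.normalizer (T₁ : Set H) ≤ X ⊓ Subgroup.normalizer
          ((⨆ x : {x : H // x ∈ X ∧ cj x A ≤ T₁}, cj (x : H) A : Subgroup H) : Set H) :=
        le_inf hT₂X ((le_inf hT₂X inf_le_right).trans hN1)
      by_cases h : X ⊓ Subgroup.normalizer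
          ((⨆ x : {x : H // x ∈ X ∧ cj x A ≤ T₁}, cj (x : H) A : Subgroup H) : Set H) < X
      · have := hbig _ hT₂p hT₁₂ hT₂X hT₂M _ hT₂N h
        exact hQM ((le_inf hQX.le hN2).trans this)
      · have hXW := le_normalizer_of_not_lt h
        have hW : (⨆ x : {x : H // x ∈ X ∧ cj x A ≤ T₁}, cj (x : H) A) ≤ pCoreOf p X :=
          le_pCoreOf (hWT.trans hT₁X) (hT₁p.to_le hWT) hXW
        exact hA (hAW.trans hW)

end Cfsg.Agent.H9LL
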