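import Mathlib
import Cfsg.Prelude.Def_FusionSystem
import Cfsg.Agent.Lib.Helper9.FusionCentric3
import Cfsg.Agent.Lib.Helper9.FusionReceptive
import Cfsg.Agent.Lib.Helper9.FusionSat3
import Cfsg.Agent.Lib.Helper9.Radical1
import Cfsg.Agent.Lib.Helper9.Iso1

set_option autoImplicit false
open Cfsg Cfsg.FusionSystem Cfsg.Agent.Lib.Helper9 Cfsg.Agent.H9Iso

/-! Automorphisms of `T` normalizing a saturated system `E` over `T` whose restriction to a centric subgroup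
is a map of `E`. -/

namespace Cfsg.Agent.H9LN

variable {Ω : Type*} [Group Ω] {T : Subgroup Ω}

/-- The homomorphism `T →* Ω` of an automorphism of `T`. -/
def autHom (γ : MulAut T) : T →* Ω := T.subtype.comp γ.toMonoidHom

theorem autHom_apply (γ : MulAut T) (t : T) : autHom γ t = ((γ t : T) : Ω) := rfl

/-- Centric subgroups are fully centralized. -/
theorem fullyCentralized_of_centric [Finite T] (E : FusionSystem T) {Q : Subgroup Ω} (hQ : E.IsCentric Q) :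
    E.IsFullyCentralized Q := by
  refine ⟨hQ.1, ?_⟩
  rintro Q' ⟨φ, hφ, rfl⟩
  obtain ⟨ψ, hψ, Hψ⟩ := E.inv_mem hφ
  have hC' : centralizerIn T φ.range ≤ φ.range := hQ.2 _ ⟨φ, hφ, rfl⟩
  haveI : Finite (centralizerIn T Q) := fs_finite_of_le (fs_centralizerIn_le T Q)
  have hval : ∀ c : centralizerIn T φ.range, ψ ⟨c, hC' c.2⟩ ∈ centralizerIn T Q := by
    intro c
    obtain ⟨x, hx⟩ : ∃ x : Q, φ x = (c : Ω) := hC' c.2
    have e1 : (⟨(c : Ω), hC' c.2⟩ : φ.range) = ⟨φ x, ⟨x, rfl⟩⟩ := Subtype.ext hx.symm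
    rw [e1, Hψ]
    refine ⟨hQ.1 x.2, Subgroup.mem_centralizer_iff.mpr ?_⟩
    intro q hq
    have h1 : φ (⟨q, hq⟩ * x) = φ (x * ⟨q, hq⟩) := by
      rw [map_mul, map_mul, hx]
      exact (Subgroup.mem_centralizer_iff.mp c.2.2) (φ ⟨q, hq⟩) ⟨_, rfl⟩
    have h2 := E.injective_of_mem hφ h1
    exact congrArg Subtype.val h2
  apply Nat.card_le_card_of_injective
    (fun c : centralizerIn T φ.range => (⟨ψ ⟨c, hC' c.2⟩, hval c⟩ : centralizerIn T Q))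
  intro a b hab
  have h1 : ψ ⟨a, hC' a.2⟩ = ψ ⟨b, hC' b.2⟩ := congrArg Subtype.val hab
  have h2 := E.injective_of_mem hψ h1
  exact Subtype.ext (congrArg (fun t : φ.range => (t : Ω)) h2)

/-- One step: if `γ` normalizes `E`, `X` is centric and normalized by `N ≥ X`, and `γ|_X ∈ E`, then
`γ^{|T|}|_N ∈ E`. -/
theorem aut_step [Finite T] (p : ℕ) [Fact p.Prime] (hT : IsPGroup p T) (E : FusionSystem T)
    (hE : E.IsSaturated p) (γ : MulAut T) (hγ : IsIso E (autHom γ) E)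
    {X N : Subgroup Ω} (hXT : X ≤ T) (hXc : E.IsCentric X) (hXN : X ≤ N) (hNT : N ≤ T)
    (hNX : N ≤ Subgroup.normalizer (X : Set Ω))
    (hX : (autHom γ).comp (Subgroup.inclusion hXT) ∈ E.Hom X) :
    (autHom (γ ^ Nat.card T)).comp (Subgroup.inclusion hNT) ∈ E.Hom N := by
  classical
  obtain ⟨ψ₀, hψ₀def⟩ : ∃ ψ₀ : X →* Ω, ψ₀ = (autHom γ).comp (Subgroup.inclusion hXT) := ⟨_, rfl⟩
  rw [← hψ₀def] at hX
  have hψ₀app : ∀ x : X, ψ₀ x = ((γ ⟨x, hXT x.2⟩ : T) : Ω) := by intro x; rw [hψ₀def]; rfl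
  have hYc : E.IsCentric ψ₀.range := centric_of_isConj E ⟨ψ₀, hX, rfl⟩ hXc
  have hYr : E.IsReceptive ψ₀.range :=
    fs_extension_axiom p hT E hE (fullyCentralized_of_centric E hYc)
  obtain ⟨χ₀, hχ₀, hQN, -, Hχ₀, -⟩ := fs_receptive_extend E hYr hX rfl
  have hNext : N ≤ extender T X ψ₀ := by
    intro g hg
    rw [mem_extender_iff]
    refine ⟨hNT hg, hNX hg, ((γ ⟨g, hNT hg⟩ : T) : Ω), (γ ⟨g, hNT hg⟩).2, ?_⟩
    intro x hx
    rw [hψ₀app, hψ₀app]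
    have e1 : (⟨g * (x : Ω) * g⁻¹, hXT hx⟩ : T) = ⟨g, hNT hg⟩ * ⟨x, hXT x.2⟩ * ⟨g, hNT hg⟩⁻¹ :=
      Subtype.ext rfl
    rw [e1, map_mul, map_mul, map_inv]
    rfl
  obtain ⟨χ, hχdef⟩ : ∃ χ : N →* Ω, χ = χ₀.comp (Subgroup.inclusion hNext) := ⟨_, rfl⟩
  have hχ : χ ∈ E.Hom N := by rw [hχdef]; exact fs_restrict_mem E hχ₀ hNext
  have hχT : ∀ n : N, χ n ∈ T := (E.le_of_mem hχ).2
  have hχX : ∀ (n : N) (_ : (n : Ω) ∈ X), χ n = ((γ ⟨n, hNT n.2⟩ : T) : Ω) := by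
    intro n hn
    rw [hχdef]
    show χ₀ ⟨n, hNext n.2⟩ = _
    have := Hχ₀ ⟨n, hn⟩
    rw [hψ₀app] at this
    exact this
  -- the map `f = γ⁻¹ ∘ χ`
  obtain ⟨f, hfdef⟩ : ∃ f : N →* Ω, f = (autHom γ⁻¹).comp (χ.codRestrict T hχT) := ⟨_, rfl⟩
  have hfapp : ∀ n : N, f n = ((γ⁻¹ ⟨χ n, hχT n⟩ : T) : Ω) := by intro n; rw [hfdef]; rfl
  have hfT : ∀ n : N, f n ∈ T := by intro n; rw [hfapp]; exact (γ⁻¹ _).2
  have hfX : ∀ (n : N), (n : Ω) ∈ X → f n = (n : Ω) := by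
    intro n hn
    rw [hfapp]
    have e1 : (⟨χ n, hχT n⟩ : T) = γ ⟨n, hNT n.2⟩ := Subtype.ext (hχX n hn)
    rw [e1, MulAut.inv_apply_self]
  have hz : ∀ n : N, (n : Ω)⁻¹ * f n ∈ X := by
    intro n
    apply hXc.2 X (fs_isConj_refl E hXT)
    refine ⟨T.mul_mem (T.inv_mem (hNT n.2)) (hfT n), Subgroup.mem_centralizer_iff.mpr ?_⟩
    intro x hx
    have hconj : (n : Ω) * x * (n : Ω)⁻¹ ∈ X := (Subgroup.mem_normalizer_iff.mp (hNX n.2) x).mp hx
    have h1 : f (n * ⟨x, hXN hx⟩ * n⁻¹) = f n * x * (f n)⁻¹ := by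
      rw [map_mul, map_mul, map_inv, hfX ⟨x, hXN hx⟩ hx]
    have h2 : f (n * ⟨x, hXN hx⟩ * n⁻¹) = (n : Ω) * x * (n : Ω)⁻¹ := hfX _ hconj
    have h3 : f n * x * (f n)⁻¹ = (n : Ω) * x * (n : Ω)⁻¹ := h1.symm.trans h2
    calc x * ((n : Ω)⁻¹ * f n) = (n : Ω)⁻¹ * ((n : Ω) * x * (n : Ω)⁻¹) * f n := by group
      _ = (n : Ω)⁻¹ * (f n * x * (f n)⁻¹) * f n := by rw [h3]
      _ = (n : Ω)⁻¹ * f n * x := by group
  have hfN : ∀ n : N, f n ∈ N := by
    intro n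
    have : f n = (n : Ω) * ((n : Ω)⁻¹ * f n) := by group
    rw [this]
    exact N.mul_mem n.2 (hXN (hz n))
  obtain ⟨fN, hfNdef⟩ : ∃ fN : N →* N, fN = f.codRestrict N hfN := ⟨_, rfl⟩
  have hfNapp : ∀ n : N, ((fN n : N) : Ω) = f n := by intro n; rw [hfNdef]; rfl
  have hiter : ∀ (k : ℕ) (n : N), (((fN^[k]) n : N) : Ω) = (n : Ω) * ((n : Ω)⁻¹ * f n) ^ k := by
    intro k
    induction k with
    | zero => intro n; simp
    | succ k ih =>
      intro n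
      rw [Function.iterate_succ_apply', hfNapp]
      have e1 : (fN^[k]) n = n * (⟨(n : Ω)⁻¹ * f n, hXN (hz n)⟩ : N) ^ k :=
        Subtype.ext (by rw [ih n]; rfl)
      rw [e1, map_mul, map_pow, hfX ⟨_, hXN (hz n)⟩ (hz n)]
      show f n * ((n : Ω)⁻¹ * f n) ^ k = _
      rw [pow_succ', ← mul_assoc, mul_inv_cancel_left]
  have hperiod : ∀ n : N, (fN^[Nat.card T]) n = n := by
    intro n
    apply Subtype.ext
    rw [hiter]
    have hzT : (n : Ω)⁻¹ * f n ∈ T := hXT (hz n)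
    have : ((n : Ω)⁻¹ * f n) ^ Nat.card T = 1 := by
      have h1 : (⟨(n : Ω)⁻¹ * f n, hzT⟩ : T) ^ Nat.card T = 1 := pow_card_eq_one'
      exact congrArg Subtype.val h1
    rw [this, mul_one]
  have hχf : ∀ n : N, χ n = ((γ ⟨(fN n : Ω), hNT (fN n).2⟩ : T) : Ω) := by
    intro n
    have e1 : (⟨((fN n : N) : Ω), hNT (fN n).2⟩ : T) = γ⁻¹ ⟨χ n, hχT n⟩ :=
      Subtype.ext ((hfNapp n).trans (hfapp n))
    rw [e1, MulAut.apply_inv_self]
  have hφk : ∀ k : ℕ, ∃ φ ∈ E.Hom N, ∀ (n : N) (h : φ n ∈ T),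
      (((fN^[k]) n : N) : Ω) = ((((γ⁻¹) ^ k) ⟨φ n, h⟩ : T) : Ω) := by
    intro k
    induction k with
    | zero => exact ⟨N.subtype, fs_subtype_mem E hNT, fun n h => rfl⟩
    | succ k ih =>
      obtain ⟨φ, hφ, Hφ⟩ := ih
      have hφT : ∀ n : N, φ n ∈ T := (E.le_of_mem hφ).2
      obtain ⟨φ', hφ', Hφ'⟩ := hγ.push hφ rfl
      have hmem : ∀ n : N, autHom γ ⟨(fN n : Ω), hNT (fN n).2⟩ ∈ imageAlong (autHom γ) N :=
        fun n => apply_mem_imageAlong (autHom γ) (hNT (fN n).2) (fN n).2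
      have hval : ∀ n : N, χ n ∈ imageAlong (autHom γ) N := by
        intro n
        rw [hχf n]
        exact hmem n
      refine ⟨φ'.comp (χ.codRestrict _ hval), E.comp_mem hχ hφ' hval, ?_⟩
      intro n h
      rw [Function.iterate_succ_apply, Hφ (fN n) (hφT _)]
      have e2 : (⟨(φ'.comp (χ.codRestrict _ hval)) n, h⟩ : T) = γ ⟨φ (fN n), hφT _⟩ := by
        apply Subtype.ext
        show φ' ⟨χ n, hval n⟩ = ((γ ⟨φ (fN n), hφT _⟩ : T) : Ω)
        have e3 : (⟨χ n, hval n⟩ : imageAlong (autHom γ) N) =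
            ⟨autHom γ ⟨(fN n : Ω), hNT (fN n).2⟩, hmem n⟩ := Subtype.ext (hχf n)
        rw [e3]
        exact Hφ' (fN n) (hNT (fN n).2) (hmem n) (hφT _)
      rw [e2, pow_succ, MulAut.mul_apply, MulAut.inv_apply_self]
  obtain ⟨φ, hφ, Hφ⟩ := hφk (Nat.card T)
  have hφT : ∀ n : N, φ n ∈ T := (E.le_of_mem hφ).2
  have hfin : (autHom (γ ^ Nat.card T)).comp (Subgroup.inclusion hNT) = φ := by
    ext n
    have h1 := Hφ n (hφT n)
    rw [hperiod n] at h1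
    show (((γ ^ Nat.card T) ⟨n, hNT n.2⟩ : T) : Ω) = φ n
    have e1 : (⟨(n : Ω), hNT n.2⟩ : T) = ((γ⁻¹) ^ Nat.card T) ⟨φ n, hφT n⟩ := Subtype.ext h1
    rw [e1, inv_pow, MulAut.apply_inv_self]
  rw [hfin]
  exact hφ

/-- If `A ≤ Aut(T)` normalizes the saturated system `E`, `A/(A ∩ Aut_E(T))` has no `p`-torsion, and
`γ ∈ A` restricts on a centric subgroup to a map of `E`, then `γ ∈ Aut_E(T)`. -/
theorem aut_extend [Finite T] (p : ℕ) [Fact p.Prime] (hT : IsPGroup p T) (E : FusionSystem T)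
    (hE : E.IsSaturated p) (A : Subgroup (MulAut T))
    (hA1 : ∀ α ∈ A, IsIso E (autHom α) E)
    (hA2 : ∀ α ∈ A, α ^ Nat.card T ∈ E.autGroup T → α ∈ E.autGroup T) :
    ∀ (k : ℕ) (γ : MulAut T), γ ∈ A → ∀ (X : Subgroup Ω) (hXT : X ≤ T), E.IsCentric X →
      (autHom γ).comp (Subgroup.inclusion hXT) ∈ E.Hom X → Nat.card T - Nat.card X = k →
      γ ∈ E.autGroup T := by
  intro k
  induction k using Nat.strong_induction_on with
  | _ k ih =>
  intro γ hγ X hXT hXc hX hk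
  by_cases hXtop : X = T
  · subst hXtop
    rw [mem_autGroup_iff E le_rfl]
    have : (autHom γ).comp (Subgroup.inclusion hXT) = X.subtype.comp γ.toMonoidHom := by ext x; rfl
    rwa [this] at hX
  · have hXlt : X < T := lt_of_le_of_ne hXT hXtop
    have hNlt := fs_lt_normalizerIn (S := T) p hT hXlt
    have hNT : normalizerIn T X ≤ T := fs_normalizerIn_le T X
    have h1 := aut_step p hT E hE γ (hA1 γ hγ) hXT hXc hNlt.le hNT inf_le_right hX
    have hNc : E.IsCentric (normalizerIn T X) := fs_centric_of_le E hXc hNlt.le hNT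
    haveI : Finite (normalizerIn T X) := fs_finite_of_le hNT
    have hcardN : Nat.card X < Nat.card (normalizerIn T X) := by
      by_contra hcon
      push Not at hcon
      exact hNlt.ne (Subgroup.eq_of_le_of_card_ge hNlt.le hcon)
    have hcardNT : Nat.card (normalizerIn T X) ≤ Nat.card T := Subgroup.card_le_of_le hNT
    have h2 := ih (Nat.card T - Nat.card (normalizerIn T X)) (by omega) (γ ^ Nat.card T)
      (A.pow_mem hγ _) _ hNT hNc h1 rfl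
    exact hA2 γ hγ h2

end Cfsg.Agent.H9LN
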