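import Mathlib
import Cfsg.Prelude.Def_FusionSystem
import Cfsg.Prelude.Def_FusionComponents
import Cfsg.Agent.Lib.Helper9.LN1
import Cfsg.Agent.Lib.Helper9.FusionInvariant4
import Cfsg.Agent.Lib.Helper9.FusionTransport
import Cfsg.Agent.Lib.Helper9.FusionSat2
import Cfsg.Agent.Lib.Helper9.Grun6

set_option autoImplicit false
open Cfsg Cfsg.FusionSystem Cfsg.Agent.Lib.Helper9 Cfsg.Agent.H9Iso

/-! Transport of automorphism groups of invariant subsystems; `p`-elements of `Aut_{E₁}(P)` lie in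
`Aut_{E₂}(P)` for two invariant subsystems over the same subgroup. -/

namespace Cfsg.Agent.H9LN

variable {Ω : Type*} [Group Ω] {S T : Subgroup Ω}

/-- Transport of an element of `Aut_E(P)` along a map `φ` of `F` (strong invariance). -/
theorem aut_transport (F : FusionSystem S) (E : FusionSystem T) (hstr : StrongInv F E)
    {P P' : Subgroup Ω} (hPT : P ≤ T) {φ : P →* Ω} (hφ : φ ∈ F.Hom P) (hr : φ.range = P')
    (α : MulAut P) (α' : MulAut P')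
    (hrel : ∀ (x : P) (h : φ x ∈ P'), ((α' ⟨φ x, h⟩ : P') : Ω) = φ (α x))
    (hα : α ∈ E.autGroup P) : α' ∈ E.autGroup P' := by
  subst hr
  rw [mem_autGroup_iff E hPT] at hα
  obtain ⟨χ, hχ, Hχ⟩ := hstr P P le_rfl hPT _ hα (fun x => (α x).2) φ hφ
  have hdom : (P.subgroupOf P).map φ = φ.range := by
    ext y
    constructor
    · rintro ⟨x, -, rfl⟩
      exact ⟨x, rfl⟩
    · rintro ⟨x, rfl⟩
      exact ⟨x, Subgroup.mem_subgroupOf.mpr x.2, rfl⟩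
  have hP'T : φ.range ≤ T := hdom ▸ (E.le_of_mem hχ).1
  rw [mem_autGroup_iff E hP'T]
  refine hom_cast E hdom hχ ?_
  intro y h₁ h₂
  obtain ⟨x, rfl⟩ := h₂
  have h3 := Hχ x h₁
  show χ ⟨φ x, h₁⟩ = ((α' ⟨φ x, ⟨x, rfl⟩⟩ : φ.range) : Ω)
  rw [hrel x ⟨x, rfl⟩]
  exact h3

/-- A `p`-element of `Aut_{E₁}(P₀)`, `P₀` fully normalized in `E₁`, lies in `Aut_{E₂}(P₀)`. -/
theorem pElt_mem [Finite T] (p : ℕ) [Fact p.Prime] (hT : IsPGroup p T) (F : FusionSystem S)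
    (E₁ E₂ : FusionSystem T) (hE₁s : E₁.IsSaturated p) (hE₁F : E₁.IsSubsystemOf F)
    (hstr₂ : StrongInv F E₂) {P₀ : Subgroup Ω} (hP₀T : P₀ ≤ T) (hfn₁ : E₁.IsFullyNormalized P₀)
    {α₀ : MulAut P₀} (hα₀ : α₀ ∈ E₁.autGroup P₀) {k : ℕ} (hk : orderOf α₀ = p ^ k) :
    α₀ ∈ E₂.autGroup P₀ := by
  classical
  haveI : Finite P₀ := fs_finite_of_le hP₀T
  obtain ⟨-, -, R, hR⟩ := fs_sylow_axiom p hT E₁ hE₁s hfn₁
  have hpz : IsPGroup p (Subgroup.zpowers (⟨α₀, hα₀⟩ : E₁.autGroup P₀)) := by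
    apply IsPGroup.of_card (n := k)
    rw [Nat.card_zpowers, Subgroup.orderOf_mk, hk]
  obtain ⟨R', hR'⟩ := hpz.exists_le_sylow
  obtain ⟨g, hg⟩ := MulAction.exists_smul_eq (E₁.autGroup P₀) R R'
  have ha : (⟨α₀, hα₀⟩ : E₁.autGroup P₀) ∈ R' := hR' (Subgroup.mem_zpowers _)
  rw [← hg] at ha
  have ha' : (⟨α₀, hα₀⟩ : E₁.autGroup P₀) ∈
      ((g • R : Sylow p (E₁.autGroup P₀)) : Subgroup (E₁.autGroup P₀)) := ha
  rw [Sylow.coe_subgroup_smul] at ha'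
  obtain ⟨y, hy, hyα⟩ := ha'
  have hyα' : g * y * g⁻¹ = ⟨α₀, hα₀⟩ := hyα
  have hyT : (y : MulAut P₀) ∈ autInducedBy T P₀ := by
    have : y ∈ (R : Subgroup (E₁.autGroup P₀)) := hy
    rw [hR] at this
    exact Subgroup.mem_subgroupOf.mp this
  have hy2 : (y : MulAut P₀) ∈ E₂.autGroup P₀ := autInducedBy_le_autGroup E₂ hP₀T hyT
  have hgF : P₀.subtype.comp (g : MulAut P₀).toMonoidHom ∈ F.Hom P₀ :=
    hE₁F P₀ ((mem_autGroup_iff E₁ hP₀T _).mp g.2)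
  have hrange : (P₀.subtype.comp (g : MulAut P₀).toMonoidHom).range = P₀ := by
    ext z
    constructor
    · rintro ⟨x, rfl⟩
      exact ((g : MulAut P₀) x).2
    · intro hz
      refine ⟨(g : MulAut P₀)⁻¹ ⟨z, hz⟩, ?_⟩
      show (((g : MulAut P₀) ((g : MulAut P₀)⁻¹ ⟨z, hz⟩) : P₀) : Ω) = z
      rw [MulAut.apply_inv_self]
  refine aut_transport F E₂ hstr₂ hP₀T hgF hrange (y : MulAut P₀) α₀ ?_ hy2
  intro x h
  have e1 : α₀ = (g : MulAut P₀) * (y : MulAut P₀) * (g : MulAut P₀)⁻¹ := by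
    have := congrArg Subtype.val hyα'
    exact this.symm
  show ((α₀ ((g : MulAut P₀) x) : P₀) : Ω) = (((g : MulAut P₀) ((y : MulAut P₀) x) : P₀) : Ω)
  rw [e1, MulAut.mul_apply, MulAut.mul_apply, MulAut.inv_apply_self]

/-- Centric subgroups of one invariant subsystem are centric in any other subsystem of `F` over `T`. -/
theorem centric_transfer (F : FusionSystem S) (E₁ E₂ : FusionSystem T) (hE₂F : E₂.IsSubsystemOf F)
    (hfr : ∀ (P : Subgroup Ω), P ≤ T → ∀ (φ : P →* Ω), φ ∈ F.Hom P →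
      ∃ α ∈ F.autGroup T, ∃ φ₀ ∈ E₁.Hom P, ∀ (x : P) (hx : φ₀ x ∈ T), φ x = ((α ⟨φ₀ x, hx⟩ : T) : Ω))
    {P : Subgroup Ω} (hP : E₁.IsCentric P) : E₂.IsCentric P := by
  refine ⟨hP.1, ?_⟩
  rintro Q ⟨ψ, hψ, rfl⟩
  obtain ⟨α, -, φ₀, hφ₀, H⟩ := hfr P hP.1 ψ (hE₂F P hψ)
  have hφ₀T : ∀ x : P, φ₀ x ∈ T := (E₁.le_of_mem hφ₀).2
  have hC := hP.2 φ₀.range ⟨φ₀, hφ₀, rfl⟩
  intro c hc
  have hc₁ : ((α⁻¹ ⟨c, hc.1⟩ : T) : Ω) ∈ centralizerIn T φ₀.range := by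
    refine ⟨(α⁻¹ ⟨c, hc.1⟩).2, Subgroup.mem_centralizer_iff.mpr ?_⟩
    rintro _ ⟨x, rfl⟩
    have h1 : ψ x * c = c * ψ x := (Subgroup.mem_centralizer_iff.mp hc.2) (ψ x) ⟨x, rfl⟩
    have h2 : α (⟨φ₀ x, hφ₀T x⟩ * α⁻¹ ⟨c, hc.1⟩) = α (α⁻¹ ⟨c, hc.1⟩ * ⟨φ₀ x, hφ₀T x⟩) := by
      rw [map_mul, map_mul, MulAut.apply_inv_self]
      apply Subtype.ext
      show ((α ⟨φ₀ x, hφ₀T x⟩ : T) : Ω) * c = c * ((α ⟨φ₀ x, hφ₀T x⟩ : T) : Ω)
      rw [← H x (hφ₀T x)]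
      exact h1
    exact congrArg Subtype.val (α.injective h2)
  obtain ⟨x, hx⟩ := hC hc₁
  refine ⟨x, ?_⟩
  rw [H x (hφ₀T x)]
  have e1 : (⟨φ₀ x, hφ₀T x⟩ : T) = α⁻¹ ⟨c, hc.1⟩ := Subtype.ext hx
  rw [e1, MulAut.apply_inv_self]

/-- `Aut_{E₁}(T)/(Aut_{E₁}(T) ∩ Aut_{E₂}(T))` has no `p`-torsion. -/
theorem pow_card_mem_imp [Finite T] (p : ℕ) [Fact p.Prime] (hT : IsPGroup p T) (E₁ E₂ : FusionSystem T)
    (hfa : E₁.IsFullyAutomized p T)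
    (hnorm : ∀ a ∈ E₁.autGroup T, ∀ b ∈ E₂.autGroup T, a * b * a⁻¹ ∈ E₂.autGroup T)
    {α : MulAut T} (hα : α ∈ E₁.autGroup T) (h : α ^ Nat.card T ∈ E₂.autGroup T) :
    α ∈ E₂.autGroup T := by
  classical
  obtain ⟨-, R, hR⟩ := hfa
  have hKn : ((E₂.autGroup T).subgroupOf (E₁.autGroup T)).Normal := by
    constructor
    intro n hn g
    rw [Subgroup.mem_subgroupOf] at hn ⊢
    exact hnorm g g.2 n hn
  have hRK : (R : Subgroup (E₁.autGroup T)) ≤ (E₂.autGroup T).subgroupOf (E₁.autGroup T) := by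
    intro r hr
    rw [hR] at hr
    rw [Subgroup.mem_subgroupOf] at hr ⊢
    exact autInducedBy_le_autGroup E₂ le_rfl hr
  have hidx : ¬ p ∣ ((E₂.autGroup T).subgroupOf (E₁.autGroup T)).index := by
    intro hdvd
    exact R.not_dvd_index (dvd_trans hdvd (Subgroup.index_dvd_of_le hRK))
  obtain ⟨n, hn⟩ := hT.exists_card_eq
  have h1 : ((QuotientGroup.mk (⟨α, hα⟩ : E₁.autGroup T) :
      E₁.autGroup T ⧸ (E₂.autGroup T).subgroupOf (E₁.autGroup T))) ^ (p ^ n) = 1 := by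
    rw [← QuotientGroup.mk_pow, QuotientGroup.eq_one_iff, Subgroup.mem_subgroupOf, ← hn]
    exact h
  have hd1 := orderOf_dvd_of_pow_eq_one h1
  have hd2 : orderOf ((QuotientGroup.mk (⟨α, hα⟩ : E₁.autGroup T) :
      E₁.autGroup T ⧸ (E₂.autGroup T).subgroupOf (E₁.autGroup T))) ∣
      ((E₂.autGroup T).subgroupOf (E₁.autGroup T)).index := by
    rw [Subgroup.index_eq_card]
    exact orderOf_dvd_natCard _
  have hcop : Nat.Coprime (p ^ n) ((E₂.autGroup T).subgroupOf (E₁.autGroup T)).index :=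
    Nat.Coprime.pow_left n ((Nat.Prime.coprime_iff_not_dvd Fact.out).mpr hidx)
  have hone := Nat.dvd_gcd hd1 hd2
  rw [hcop.gcd_eq_one, Nat.dvd_one, orderOf_eq_one_iff, QuotientGroup.eq_one_iff,
    Subgroup.mem_subgroupOf] at hone
  exact hone

end Cfsg.Agent.H9LN
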