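import Mathlib
import Cfsg.Prelude.Def_FusionSystem
import Cfsg.Agent.Lib.Helper9.FusionBasic

set_option autoImplicit false
open Cfsg
open Cfsg.FusionSystem

/-! The subsystem of a fusion system `F` generated by a family of maps of `F`. -/

namespace Cfsg.Agent.H9PPR

open Cfsg.Agent.Lib.Helper9

variable {Ω : Type*} [Group Ω] {S : Subgroup Ω}

/-- The smallest fusion system over `S` inside `F` containing the family `G` of maps. -/
def genSys (F : FusionSystem S) (G : ∀ P : Subgroup Ω, Set (P →* Ω)) : FusionSystem S where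
  Hom P := {φ | φ ∈ F.Hom P ∧ ∀ D : FusionSystem S, (∀ Q, G Q ⊆ D.Hom Q) → φ ∈ D.Hom P}
  le_of_mem h := F.le_of_mem h.1
  injective_of_mem h := F.injective_of_mem h.1
  conj_mem := by
    intro P g hP hg
    exact ⟨F.conj_mem hP hg, fun D _ => D.conj_mem hP hg⟩
  comp_mem := by
    rintro P Q φ ψ ⟨hφ, hφ'⟩ ⟨hψ, hψ'⟩ h
    exact ⟨F.comp_mem hφ hψ h, fun D hD => D.comp_mem (hφ' D hD) (hψ' D hD) h⟩
  inv_mem := by
    rintro P φ ⟨hφ, hφ'⟩
    obtain ⟨ψ, hψ, Hψ⟩ := F.inv_mem hφ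
    refine ⟨ψ, ⟨hψ, fun D hD => ?_⟩, Hψ⟩
    obtain ⟨ψ', hψ', Hψ'⟩ := D.inv_mem (hφ' D hD)
    have : ψ = ψ' := by
      ext ⟨_, x, rfl⟩
      rw [Hψ, Hψ']
    rw [this]
    exact hψ'

theorem genSys_le_base (F : FusionSystem S) (G : ∀ P : Subgroup Ω, Set (P →* Ω)) :
    genSys F G ≤ F := fun _ _ h => h.1

theorem gen_mem_genSys (F : FusionSystem S) (G : ∀ P : Subgroup Ω, Set (P →* Ω))
    (hG : ∀ P, G P ⊆ F.Hom P) {P : Subgroup Ω} {φ : P →* Ω} (hφ : φ ∈ G P) : φ ∈ (genSys F G).Hom P :=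
  ⟨hG P hφ, fun _ hD => hD P hφ⟩

theorem genSys_le (F : FusionSystem S) (G : ∀ P : Subgroup Ω, Set (P →* Ω)) (D : FusionSystem S)
    (hD : ∀ Q, G Q ⊆ D.Hom Q) : genSys F G ≤ D := fun _ _ h => h.2 D hD

end Cfsg.Agent.H9PPR
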