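import Mathlib
import Cfsg.Prelude.Def_FusionSystem
import Cfsg.Agent.Lib.Helper9.FusionInvariant1
import Cfsg.Agent.Lib.Helper9.PPR1

set_option autoImplicit false
open Cfsg
open Cfsg.FusionSystem

/-! The product `A · E` of a subgroup `A ≤ Aut_F(S)` with an `Aut_F(S)`-invariant subsystem `E` of `F`. -/

namespace Cfsg.Agent.H9PPR

open Cfsg.Agent.Lib.Helper9

variable {Ω : Type*} [Group Ω] {S : Subgroup Ω}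

/-- `φ = α ∘ φ₀` with `α ∈ A` and `φ₀` in `E`. -/
def AFact (A : Subgroup (MulAut S)) (E : FusionSystem S) (P : Subgroup Ω) (φ : P →* Ω) : Prop :=
  ∃ α ∈ A, ∃ φ₀ ∈ E.Hom P, ∀ (x : P) (hx : φ₀ x ∈ S), φ x = ((α ⟨φ₀ x, hx⟩ : S) : Ω)

theorem AFact_comp (F : FusionSystem S) (E : FusionSystem S) (hinv : AutInv F E)
    (A : Subgroup (MulAut S)) (hA : A ≤ F.autGroup S)
    {P Q : Subgroup Ω} {φ₁ : P →* Ω} {φ₂ : Q →* Ω} (hφ₁Q : ∀ x : P, φ₁ x ∈ Q)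
    (h₁ : AFact A E P φ₁) (h₂ : AFact A E Q φ₂) :
    AFact A E P (φ₂.comp (φ₁.codRestrict Q hφ₁Q)) := by
  obtain ⟨α₁, hα₁, φ₀₁, hφ₀₁, H₁⟩ := h₁
  obtain ⟨α₂, hα₂, φ₀₂, hφ₀₂, H₂⟩ := h₂
  have hQT : Q ≤ S := (E.le_of_mem hφ₀₂).1
  have hφ₀₁T : ∀ x : P, φ₀₁ x ∈ S := (E.le_of_mem hφ₀₁).2
  have hφ₀₂T : ∀ x : Q, φ₀₂ x ∈ S := (E.le_of_mem hφ₀₂).2
  have hrQ : φ₁.range ≤ Q := by
    rintro _ ⟨x, rfl⟩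
    exact hφ₁Q x
  have hrT : φ₁.range ≤ S := hrQ.trans hQT
  have hφ₀₂' := fs_restrict_mem E hφ₀₂ hrQ
  obtain ⟨χ, hχ, Hχ⟩ := hinv φ₁.range hrT _ hφ₀₂' α₁⁻¹ (hA (Subgroup.inv_mem _ hα₁))
  have h' : ∀ x : P, φ₀₁ x ∈ (φ₁.range.subgroupOf S).map (S.subtype.comp (α₁⁻¹ : MulAut S).toMonoidHom) := by
    intro x
    refine ⟨⟨φ₁ x, hrT ⟨x, rfl⟩⟩, ⟨x, rfl⟩, ?_⟩
    show (((α₁⁻¹ : MulAut S) ⟨φ₁ x, _⟩ : S) : Ω) = φ₀₁ x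
    have e : (⟨φ₁ x, hrT ⟨x, rfl⟩⟩ : S) = α₁ ⟨φ₀₁ x, hφ₀₁T x⟩ := Subtype.ext (H₁ x (hφ₀₁T x))
    rw [e, MulAut.inv_apply_self]
  refine ⟨α₂ * α₁, Subgroup.mul_mem _ hα₂ hα₁, χ.comp (φ₀₁.codRestrict _ h'), E.comp_mem hφ₀₁ hχ h', ?_⟩
  intro x hx
  have e1 : (⟨φ₀₁ x, hφ₀₁T x⟩ : S) = (α₁⁻¹ : MulAut S) ⟨φ₁ x, hrT ⟨x, rfl⟩⟩ := by
    have e : (⟨φ₁ x, hrT ⟨x, rfl⟩⟩ : S) = α₁ ⟨φ₀₁ x, hφ₀₁T x⟩ := Subtype.ext (H₁ x (hφ₀₁T x))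
    rw [e, MulAut.inv_apply_self]
  have hmem : (((α₁⁻¹ : MulAut S) ⟨φ₁ x, hrT ⟨x, rfl⟩⟩ : S) : Ω) ∈
      (φ₁.range.subgroupOf S).map (S.subtype.comp (α₁⁻¹ : MulAut S).toMonoidHom) :=
    mem_map_aut hrT ⟨φ₁ x, ⟨x, rfl⟩⟩
  have e2 : (φ₀₁.codRestrict _ h' x) = ⟨((α₁⁻¹ : MulAut S) ⟨φ₁ x, hrT ⟨x, rfl⟩⟩ : S), hmem⟩ := by
    have e1' : φ₀₁ x = (((α₁⁻¹ : MulAut S) ⟨φ₁ x, hrT ⟨x, rfl⟩⟩ : S) : Ω) :=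
      congrArg (fun z : S => (z : Ω)) e1
    exact Subtype.ext e1'
  have e3 := Hχ ⟨φ₁ x, ⟨x, rfl⟩⟩ (hφ₀₂T _) hmem
  have e4 : (χ.comp (φ₀₁.codRestrict _ h')) x =
      (((α₁⁻¹ : MulAut S) ⟨φ₀₂ ⟨φ₁ x, hφ₁Q x⟩, hφ₀₂T _⟩ : S) : Ω) := by
    show χ (φ₀₁.codRestrict _ h' x) = _
    rw [e2, e3]
    rfl
  have e5 : (⟨(χ.comp (φ₀₁.codRestrict _ h')) x, hx⟩ : S) =
      (α₁⁻¹ : MulAut S) ⟨φ₀₂ ⟨φ₁ x, hφ₁Q x⟩, hφ₀₂T _⟩ := Subtype.ext e4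
  rw [e5]
  show φ₂ ⟨φ₁ x, hφ₁Q x⟩ = (((α₂ * α₁) ((α₁⁻¹ : MulAut S) ⟨φ₀₂ ⟨φ₁ x, hφ₁Q x⟩, hφ₀₂T _⟩) : S) : Ω)
  rw [MulAut.mul_apply, MulAut.apply_inv_self]
  exact H₂ ⟨φ₁ x, hφ₁Q x⟩ (hφ₀₂T _)

theorem AFact_inv (F : FusionSystem S) (E : FusionSystem S) (hinv : AutInv F E)
    (A : Subgroup (MulAut S)) (hA : A ≤ F.autGroup S)
    {P : Subgroup Ω} {φ : P →* Ω} (h : AFact A E P φ) {ψ : φ.range →* Ω}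
    (hψ : ∀ x : P, ψ ⟨φ x, ⟨x, rfl⟩⟩ = (x : Ω)) : AFact A E φ.range ψ := by
  obtain ⟨α, hα, φ₀, hφ₀, H⟩ := h
  have hPT : P ≤ S := (E.le_of_mem hφ₀).1
  have hφ₀T : ∀ x : P, φ₀ x ∈ S := (E.le_of_mem hφ₀).2
  obtain ⟨ψ₀, hψ₀, Hψ₀⟩ := E.inv_mem hφ₀
  have hrT : φ₀.range ≤ S := by
    rintro _ ⟨x, rfl⟩
    exact hφ₀T x
  obtain ⟨χ, hχ, Hχ⟩ := hinv φ₀.range hrT ψ₀ hψ₀ α (hA hα)
  have hle : φ.range ≤ (φ₀.range.subgroupOf S).map (S.subtype.comp α.toMonoidHom) := by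
    rintro _ ⟨x, rfl⟩
    refine ⟨⟨φ₀ x, hφ₀T x⟩, ⟨x, rfl⟩, ?_⟩
    exact (H x (hφ₀T x)).symm
  refine ⟨α⁻¹, Subgroup.inv_mem _ hα, χ.comp (Subgroup.inclusion hle), fs_restrict_mem E hχ hle, ?_⟩
  rintro ⟨_, x, rfl⟩ hx
  rw [hψ]
  have hmem : ((α ⟨φ₀ x, hφ₀T x⟩ : S) : Ω) ∈ (φ₀.range.subgroupOf S).map (S.subtype.comp α.toMonoidHom) :=
    mem_map_aut hrT ⟨φ₀ x, ⟨x, rfl⟩⟩
  have hψ₀T : ψ₀ ⟨φ₀ x, ⟨x, rfl⟩⟩ ∈ S := by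
    rw [Hψ₀]
    exact hPT x.2
  have e3 := Hχ ⟨φ₀ x, ⟨x, rfl⟩⟩ hψ₀T hmem
  have e4 : (χ.comp (Subgroup.inclusion hle)) ⟨φ x, ⟨x, rfl⟩⟩ = ((α ⟨x, hPT x.2⟩ : S) : Ω) := by
    show χ (Subgroup.inclusion hle ⟨φ x, ⟨x, rfl⟩⟩) = _
    have e : Subgroup.inclusion hle ⟨φ x, ⟨x, rfl⟩⟩ = ⟨(α ⟨φ₀ x, hφ₀T x⟩ : S), hmem⟩ :=
      Subtype.ext (H x (hφ₀T x))
    rw [e, e3]
    congr 2
    exact Subtype.ext (Hψ₀ x)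
  have e5 : (⟨(χ.comp (Subgroup.inclusion hle)) ⟨φ x, ⟨x, rfl⟩⟩, hx⟩ : S) = α ⟨x, hPT x.2⟩ :=
    Subtype.ext e4
  rw [e5, MulAut.inv_apply_self]

theorem AFact_of_mem (A : Subgroup (MulAut S)) (E : FusionSystem S)
    {P : Subgroup Ω} {φ : P →* Ω} (h : φ ∈ E.Hom P) : AFact A E P φ :=
  ⟨1, Subgroup.one_mem _, φ, h, fun _ _ => rfl⟩

/-- A map with an `A`-factorization through `E ≤ F`, `A ≤ Aut_F(S)`, is a map of `F`. -/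
theorem mem_of_AFact (F : FusionSystem S) (E : FusionSystem S) (hEF : E ≤ F)
    (A : Subgroup (MulAut S)) (hA : A ≤ F.autGroup S)
    {P : Subgroup Ω} {φ : P →* Ω} (h : AFact A E P φ) : φ ∈ F.Hom P := by
  obtain ⟨α, hα, φ₀, hφ₀, H⟩ := h
  have hφ₀S : ∀ x : P, φ₀ x ∈ S := (E.le_of_mem hφ₀).2
  have h1 := (mem_autGroup_iff F le_rfl α).mp (hA hα)
  have h2 := F.comp_mem (hEF P hφ₀) h1 hφ₀S
  have : (S.subtype.comp α.toMonoidHom).comp (φ₀.codRestrict S hφ₀S) = φ := by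
    ext x
    exact (H x (hφ₀S x)).symm
  rwa [this] at h2

/-- The product system `A · E`. -/
def prodSys (F : FusionSystem S) (E : FusionSystem S) (hEF : E ≤ F) (hinv : AutInv F E)
    (A : Subgroup (MulAut S)) (hA : A ≤ F.autGroup S) : FusionSystem S where
  Hom P := {φ | AFact A E P φ}
  le_of_mem h := F.le_of_mem (mem_of_AFact F E hEF A hA h)
  injective_of_mem h := F.injective_of_mem (mem_of_AFact F E hEF A hA h)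
  conj_mem := by
    intro P g hP hg
    exact AFact_of_mem A E (E.conj_mem hP hg)
  comp_mem := by
    intro P Q φ ψ hφ hψ h
    exact AFact_comp F E hinv A hA h hφ hψ
  inv_mem := by
    intro P φ hφ
    obtain ⟨ψ, -, Hψ⟩ := F.inv_mem (mem_of_AFact F E hEF A hA hφ)
    exact ⟨ψ, AFact_inv F E hinv A hA hφ Hψ, Hψ⟩

theorem mem_prodSys_iff (F : FusionSystem S) (E : FusionSystem S) (hEF : E ≤ F) (hinv : AutInv F E)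
    (A : Subgroup (MulAut S)) (hA : A ≤ F.autGroup S) {P : Subgroup Ω} (φ : P →* Ω) :
    φ ∈ (prodSys F E hEF hinv A hA).Hom P ↔ AFact A E P φ := Iff.rfl

theorem prodSys_le (F : FusionSystem S) (E : FusionSystem S) (hEF : E ≤ F) (hinv : AutInv F E)
    (A : Subgroup (MulAut S)) (hA : A ≤ F.autGroup S) : prodSys F E hEF hinv A hA ≤ F :=
  fun _ _ h => mem_of_AFact F E hEF A hA h

theorem le_prodSys (F : FusionSystem S) (E : FusionSystem S) (hEF : E ≤ F) (hinv : AutInv F E)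
    (A : Subgroup (MulAut S)) (hA : A ≤ F.autGroup S) : E ≤ prodSys F E hEF hinv A hA :=
  fun _ _ h => AFact_of_mem A E h

end Cfsg.Agent.H9PPR
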