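import Mathlib
import Cfsg.Prelude.Def_FusionSystem
import Cfsg.Agent.Lib.Helper9.FusionInvariant1
import Cfsg.Agent.Lib.Helper9.FusionAG1

set_option autoImplicit false
open Cfsg
open Cfsg.FusionSystem

/-! The system of "good" maps of `F` relative to a subsystem `E` over the same `S`: those maps `φ` such that
`φ ∘ (Aut_F(S) · E) ⊆ Aut_F(S) · E`, and likewise for the inverse of `φ`. -/

namespace Cfsg.Agent.Lib.Helper9

variable {Ω : Type*} [Group Ω] {S : Subgroup Ω}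

/-- `φ` is good: composing it after a map with a Frattini factorization `α ∘ χ₀` (`α ∈ Aut_F(S)`, `χ₀` in `E`)
again gives such a map. -/
def IsGood (F E : FusionSystem S) {P : Subgroup Ω} (φ : P →* Ω) : Prop :=
  ∀ (P' : Subgroup Ω) (χ ω : P' →* Ω), FrattiniFact F E P' χ →
    (∀ x : P', ∃ y : P, χ x = (y : Ω) ∧ ω x = φ y) → FrattiniFact F E P' ω

/-- `ψ` is a partial inverse of `φ`. -/
def IsPInv {P Q : Subgroup Ω} (φ : P →* Ω) (ψ : Q →* Ω) : Prop :=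
  ∀ y : Q, ∃ x : P, φ x = (y : Ω) ∧ ψ y = (x : Ω)

theorem isGood_of_eq (F E : FusionSystem S) {P Q : Subgroup Ω} {φ : P →* Ω} {ψ : Q →* Ω}
    (hφ : IsGood F E φ) (hQP : Q ≤ P) (h : ∀ y : Q, ψ y = φ ⟨y, hQP y.2⟩) : IsGood F E ψ := by
  intro P' χ ω hχ hrel
  refine hφ P' χ ω hχ (fun x => ?_)
  obtain ⟨y, hy1, hy2⟩ := hrel x
  exact ⟨⟨y, hQP y.2⟩, hy1, by rw [hy2, h]⟩

theorem isGood_comp (F E : FusionSystem S) {P Q P₀ : Subgroup Ω} {φ : P →* Ω} {ψ : Q →* Ω} {θ : P₀ →* Ω}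
    (hφ : IsGood F E φ) (hψ : IsGood F E ψ)
    (h : ∀ x : P₀, ∃ y : P, (x : Ω) = (y : Ω) ∧ ∃ z : Q, φ y = (z : Ω) ∧ θ x = ψ z) : IsGood F E θ := by
  intro P' χ ω hχ hrel
  have hχP : ∀ x : P', χ x ∈ P := by
    intro x
    obtain ⟨y₀, hy₀, -⟩ := hrel x
    obtain ⟨y, hy, -⟩ := h y₀
    rw [hy₀, hy]
    exact y.2
  have h1 : FrattiniFact F E P' (φ.comp (χ.codRestrict P hχP)) :=
    hφ P' χ _ hχ (fun x => ⟨⟨χ x, hχP x⟩, rfl, rfl⟩)
  refine hψ P' _ ω h1 (fun x => ?_)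
  obtain ⟨y₀, hy₀, hω⟩ := hrel x
  obtain ⟨y, hy, z, hz, hθ⟩ := h y₀
  refine ⟨z, ?_, by rw [hω, hθ]⟩
  rw [← hz]
  show φ ⟨χ x, hχP x⟩ = φ y
  congr 1
  apply Subtype.ext
  show χ x = (y : Ω)
  rw [hy₀, hy]

/-- A restriction of an element of `Aut_F(S)` is good. -/
theorem isGood_aut (F E : FusionSystem S) {Q : Subgroup Ω} {ψ : Q →* Ω} {α : MulAut S} (hα : α ∈ F.autGroup S)
    (h : ∀ (y : Q) (hy : (y : Ω) ∈ S), ψ y = ((α ⟨y, hy⟩ : S) : Ω)) : IsGood F E ψ := by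
  rintro P' χ ω ⟨α', hα', χ₀, hχ₀, H⟩ hrel
  refine ⟨α * α', Subgroup.mul_mem _ hα hα', χ₀, hχ₀, fun x hx => ?_⟩
  obtain ⟨y, hy1, hy2⟩ := hrel x
  have hyS : (y : Ω) ∈ S := by
    rw [← hy1, H x hx]
    exact (α' _).2
  rw [hy2, h y hyS, MulAut.mul_apply]
  congr 2
  apply Subtype.ext
  show (y : Ω) = _
  rw [← hy1, H x hx]

/-- Conjugation by an element of `S` is good. -/
theorem isGood_conj (F E : FusionSystem S) {Q : Subgroup Ω} {ψ : Q →* Ω} {g : Ω} (hg : g ∈ S)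
    (h : ∀ y : Q, ψ y = g * (y : Ω) * g⁻¹) : IsGood F E ψ := by
  have hgN : g ∈ Subgroup.normalizer (S : Set Ω) := Subgroup.le_normalizer hg
  have hc : S.normalizerMonoidHom ⟨g, hgN⟩ ∈ F.autGroup S := by
    apply autInducedBy_le_autGroup F le_rfl
    rw [mem_autInducedBy_iff]
    exact ⟨g, hg, fun x => rfl⟩
  refine isGood_aut F E hc (fun y hy => ?_)
  rw [h]
  rfl

/-- The system of good maps of `F` with good inverses. -/
def goodSys (F E : FusionSystem S) : FusionSystem S where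
  Hom P := {φ | φ ∈ F.Hom P ∧ IsGood F E φ ∧
    ∀ (Q : Subgroup Ω) (ψ : Q →* Ω), ψ ∈ F.Hom Q → IsPInv φ ψ → IsGood F E ψ}
  le_of_mem h := F.le_of_mem h.1
  injective_of_mem h := F.injective_of_mem h.1
  conj_mem := by
    intro P g hP hg
    refine ⟨F.conj_mem hP hg, isGood_conj F E hg (fun y => rfl), ?_⟩
    intro Q ψ _ hinv
    refine isGood_conj F E (S.inv_mem hg) (fun y => ?_)
    obtain ⟨x, hx, hy⟩ := hinv y
    rw [hy, ← hx]
    show (x : Ω) = g⁻¹ * (g * (x : Ω) * g⁻¹) * g⁻¹⁻¹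
    group
  comp_mem := by
    rintro P Q φ ψ ⟨hφ, gφ, iφ⟩ ⟨hψ, gψ, iψ⟩ h
    refine ⟨F.comp_mem hφ hψ h, ?_, ?_⟩
    · exact isGood_comp F E gφ gψ (fun x => ⟨x, rfl, ⟨φ x, h x⟩, rfl, rfl⟩)
    · intro T ω _ hinv
      obtain ⟨ψ', hψ', Hψ'⟩ := F.inv_mem hψ
      obtain ⟨φ', hφ', Hφ'⟩ := F.inv_mem hφ
      have hT : T ≤ ψ.range := by
        intro t ht
        obtain ⟨x, hx, -⟩ := hinv ⟨t, ht⟩
        exact ⟨⟨φ x, h x⟩, hx⟩
      have hω₁ : ψ'.comp (Subgroup.inclusion hT) ∈ F.Hom T := fs_restrict_mem F hψ' hT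
      have key : ∀ t : T, ∃ x : P, ψ ⟨φ x, h x⟩ = (t : Ω) ∧ ω t = (x : Ω) ∧
          (ψ'.comp (Subgroup.inclusion hT)) t = φ x := by
        intro t
        obtain ⟨x, hx, hωt⟩ := hinv t
        refine ⟨x, hx, hωt, ?_⟩
        have e : Subgroup.inclusion hT t = ⟨ψ ⟨φ x, h x⟩, ⟨_, rfl⟩⟩ := Subtype.ext hx.symm
        show ψ' (Subgroup.inclusion hT t) = φ x
        rw [e, Hψ']
      have g1 : IsGood F E (ψ'.comp (Subgroup.inclusion hT)) := by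
        refine iψ T _ hω₁ (fun t => ?_)
        obtain ⟨x, hx, -, h3⟩ := key t
        exact ⟨⟨φ x, h x⟩, hx, h3⟩
      have hT1 : (ψ'.comp (Subgroup.inclusion hT)).range ≤ φ.range := by
        rintro _ ⟨t, rfl⟩
        obtain ⟨x, -, -, h3⟩ := key t
        rw [h3]
        exact ⟨x, rfl⟩
      have hω₂ : φ'.comp (Subgroup.inclusion hT1) ∈ F.Hom _ := fs_restrict_mem F hφ' hT1
      have g2 : IsGood F E (φ'.comp (Subgroup.inclusion hT1)) := by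
        refine iφ _ _ hω₂ ?_
        rintro ⟨_, t, rfl⟩
        obtain ⟨x, -, -, h3⟩ := key t
        refine ⟨x, h3.symm, ?_⟩
        have e : Subgroup.inclusion hT1 ⟨(ψ'.comp (Subgroup.inclusion hT)) t, ⟨t, rfl⟩⟩ =
            ⟨φ x, ⟨x, rfl⟩⟩ := Subtype.ext h3
        show φ' (Subgroup.inclusion hT1 _) = x
        rw [e, Hφ']
      refine isGood_comp F E g1 g2 (fun t => ⟨t, rfl, ⟨_, ⟨t, rfl⟩⟩, rfl, ?_⟩)
      obtain ⟨x, -, h2, h3⟩ := key t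
      rw [h2]
      have e : Subgroup.inclusion hT1 ⟨(ψ'.comp (Subgroup.inclusion hT)) t, ⟨t, rfl⟩⟩ =
          ⟨φ x, ⟨x, rfl⟩⟩ := Subtype.ext h3
      show (x : Ω) = φ' (Subgroup.inclusion hT1 _)
      rw [e, Hφ']
  inv_mem := by
    rintro P φ ⟨hφ, gφ, iφ⟩
    obtain ⟨ψ, hψ, Hψ⟩ := F.inv_mem hφ
    refine ⟨ψ, ⟨hψ, ?_, ?_⟩, Hψ⟩
    · refine iφ _ ψ hψ ?_
      rintro ⟨_, x, rfl⟩
      exact ⟨x, rfl, Hψ x⟩
    · intro Q' ψ' _ hinv
      have hQ'P : Q' ≤ P := by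
        intro y' hy'
        obtain ⟨⟨_, x, rfl⟩, hy, -⟩ := hinv ⟨y', hy'⟩
        rw [Hψ] at hy
        show y' ∈ P
        have : y' = (x : Ω) := hy.symm
        rw [this]
        exact x.2
      refine isGood_of_eq F E gφ hQ'P (fun y' => ?_)
      obtain ⟨⟨_, x, rfl⟩, hy, hy2⟩ := hinv y'
      rw [Hψ] at hy
      rw [hy2]
      show φ x = φ ⟨y', _⟩
      congr 1
      exact Subtype.ext hy

theorem mem_goodSys_iff (F E : FusionSystem S) {P : Subgroup Ω} (φ : P →* Ω) :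
    φ ∈ (goodSys F E).Hom P ↔ φ ∈ F.Hom P ∧ IsGood F E φ ∧
      ∀ (Q : Subgroup Ω) (ψ : Q →* Ω), ψ ∈ F.Hom Q → IsPInv φ ψ → IsGood F E ψ := Iff.rfl

/-- A good map has a Frattini factorization. -/
theorem frattiniFact_of_isGood (F E : FusionSystem S) {P : Subgroup Ω} {φ : P →* Ω} (hPS : P ≤ S)
    (hφ : IsGood F E φ) : FrattiniFact F E P φ :=
  hφ P P.subtype φ (frattiniFact_of_mem F E (fs_subtype_mem E hPS)) (fun x => ⟨x, rfl, rfl⟩)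

end Cfsg.Agent.Lib.Helper9
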