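import Mathlib
import Cfsg.Prelude.Def_FusionSystem
import Cfsg.Agent.Lib.Helper9.PrimeIdx1
import Cfsg.Agent.Lib.Helper9.KNorm2
import Cfsg.Agent.Lib.Helper9.Radical1

set_option autoImplicit false
open Cfsg
open Cfsg.FusionSystem

/-! `O^{p'}(Aut_F(R))`, its transport along isomorphisms of the system, and goodness of its elements. -/

namespace Cfsg.Agent.Lib.Helper9

variable {Ω : Type*} [Group Ω] {S : Subgroup Ω}

/-- `O^{p'}(Aut_F(R))` as a subgroup of `Aut(R)`. -/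
def Opp (F : FusionSystem S) (p : ℕ) (R : Subgroup Ω) : Subgroup (MulAut R) :=
  (Subgroup.closure {α : F.autGroup R | ∃ k : ℕ, orderOf α = p ^ k}).map (F.autGroup R).subtype

theorem Opp_le_autGroup (F : FusionSystem S) (p : ℕ) (R : Subgroup Ω) : Opp F p R ≤ F.autGroup R := by
  rintro _ ⟨κ, -, rfl⟩
  exact κ.2

theorem Opp_congr (F : FusionSystem S) (p : ℕ) {R R' : Subgroup Ω} (e : R ≃* R') (he : IsFIso F e)
    {θ : MulAut R} (hθ : θ ∈ Opp F p R) : MulAut.congr e θ ∈ Opp F p R' := by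
  have key : ∀ κ : F.autGroup R, κ ∈ Subgroup.closure {α : F.autGroup R | ∃ k : ℕ, orderOf α = p ^ k} →
      autGroupEquiv F e he κ ∈ Subgroup.closure {α : F.autGroup R' | ∃ k : ℕ, orderOf α = p ^ k} := by
    intro κ hκ
    induction hκ using Subgroup.closure_induction with
    | mem x hx =>
      apply Subgroup.subset_closure
      obtain ⟨k, hk⟩ := hx
      exact ⟨k, by rw [MulEquiv.orderOf_eq]; exact hk⟩
    | one => rw [map_one]; exact Subgroup.one_mem _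
    | mul x y _ _ hx hy => rw [map_mul]; exact Subgroup.mul_mem _ hx hy
    | inv x _ hx => rw [map_inv]; exact Subgroup.inv_mem _ hx
  obtain ⟨κ, hκ, rfl⟩ := hθ
  exact ⟨autGroupEquiv F e he κ, key κ hκ, rfl⟩

theorem fs_isCentric_of_isConj (F : FusionSystem S) {R R' : Subgroup Ω} (hR : F.IsCentric R)
    (h : F.IsConj R' R) : F.IsCentric R' :=
  ⟨fs_isConj_le_left F h, fun Q hQ => hR.2 Q (fs_isConj_trans F (fs_isConj_symm F h) hQ)⟩

/-- The preimage of `R ≤ S` under an automorphism `α` of `S`, as a subgroup of the ambient group. -/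
def preAut (α : MulAut S) (R : Subgroup Ω) : Subgroup Ω :=
  ((R.subgroupOf S).comap α.toMonoidHom).map S.subtype

theorem preAut_le (α : MulAut S) (R : Subgroup Ω) : preAut α R ≤ S := by
  rintro _ ⟨y, -, rfl⟩
  exact y.2

theorem mem_preAut_iff (α : MulAut S) (R : Subgroup Ω) (y : Ω) :
    y ∈ preAut α R ↔ ∃ hy : y ∈ S, ((α ⟨y, hy⟩ : S) : Ω) ∈ R := by
  constructor
  · rintro ⟨y, hy, rfl⟩
    exact ⟨y.2, hy⟩
  · rintro ⟨hy, h⟩
    exact ⟨⟨y, hy⟩, h, rfl⟩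

/-- The isomorphism `α⁻¹(R) ≅ R` induced by `α`. -/
def preAutEquiv (α : MulAut S) {R : Subgroup Ω} (hRS : R ≤ S) : preAut α R ≃* R where
  toFun y := ⟨((α ⟨y, preAut_le α R y.2⟩ : S) : Ω), by
    obtain ⟨_, h⟩ := (mem_preAut_iff α R y).mp y.2
    exact h⟩
  invFun z := ⟨((α⁻¹ ⟨z, hRS z.2⟩ : S) : Ω), by
    rw [mem_preAut_iff]
    refine ⟨(α⁻¹ _).2, ?_⟩
    simp⟩
  left_inv y := by
    apply Subtype.ext
    simp
  right_inv z := by
    apply Subtype.ext
    simp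
  map_mul' y z := by
    apply Subtype.ext
    have e : (⟨(y : Ω) * z, preAut_le α R (y * z).2⟩ : S) =
        ⟨y, preAut_le α R y.2⟩ * ⟨z, preAut_le α R z.2⟩ := rfl
    show ((α ⟨(y : Ω) * z, preAut_le α R (y * z).2⟩ : S) : Ω) = _
    rw [e, map_mul]
    rfl

theorem preAutEquiv_apply (α : MulAut S) {R : Subgroup Ω} (hRS : R ≤ S) (y : preAut α R) :
    ((preAutEquiv α hRS y : R) : Ω) = ((α ⟨y, preAut_le α R y.2⟩ : S) : Ω) := rfl

theorem preAutEquiv_isFIso (F : FusionSystem S) {α : MulAut S} (hα : α ∈ F.autGroup S) {R : Subgroup Ω}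
    (hRS : R ≤ S) : IsFIso F (preAutEquiv α hRS) := by
  have h1 := (mem_autGroup_iff F le_rfl α).mp hα
  have h2 := fs_restrict_mem F h1 (preAut_le α R)
  have : (S.subtype.comp α.toMonoidHom).comp (Subgroup.inclusion (preAut_le α R)) =
      R.subtype.comp (preAutEquiv α hRS).toMonoidHom := by
    ext y
    rfl
  rw [this] at h2
  exact h2

/-- Elements of `O^{p'}(Aut_F(R))`, `R` centric, are good provided `E` contains these groups. -/
theorem isGood_of_mem_Opp (p : ℕ) (F E : FusionSystem S)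
    (h : ∀ P : Subgroup Ω, F.IsCentric P → Opp F p P ≤ E.autGroup P)
    {R : Subgroup Ω} (hR : F.IsCentric R) {θ : MulAut R} (hθ : θ ∈ Opp F p R) {Q : Subgroup Ω} (ψ : Q →* Ω)
    (hQR : Q ≤ R) (hψ : ∀ y : Q, ψ y = ((θ ⟨y, hQR y.2⟩ : R) : Ω)) : IsGood F E ψ := by
  rintro P' χ ω ⟨α, hα, χ₀, hχ₀, H⟩ hrel
  have hRS : R ≤ S := hR.1
  have hχ₀S : ∀ x : P', χ₀ x ∈ S := (E.le_of_mem hχ₀).2
  have he : IsFIso F (preAutEquiv α hRS) := preAutEquiv_isFIso F hα hRS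
  have hR'S : preAut α R ≤ S := preAut_le α R
  have hR'c : F.IsCentric (preAut α R) := fs_isCentric_of_isConj F hR he.isConj
  have hθ' : MulAut.congr (preAutEquiv α hRS).symm θ ∈ E.autGroup (preAut α R) :=
    h _ hR'c (Opp_congr F p _ he.symm hθ)
  have hθ'E := (mem_autGroup_iff E hR'S _).mp hθ'
  have hχ₀R' : ∀ x : P', χ₀ x ∈ preAut α R := by
    intro x
    rw [mem_preAut_iff]
    refine ⟨hχ₀S x, ?_⟩
    obtain ⟨y, hy, -⟩ := hrel x
    rw [← H x (hχ₀S x), hy]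
    exact hQR y.2
  refine ⟨α, hα, _, E.comp_mem hχ₀ hθ'E hχ₀R', fun x hx => ?_⟩
  obtain ⟨y, hy, hω⟩ := hrel x
  rw [hω, hψ]
  -- the value of ω₀
  have e1 : preAutEquiv α hRS ⟨χ₀ x, hχ₀R' x⟩ = ⟨y, hQR y.2⟩ := by
    apply Subtype.ext
    rw [preAutEquiv_apply]
    show ((α ⟨χ₀ x, _⟩ : S) : Ω) = y
    rw [← H x (hχ₀S x), hy]
  have e2 : ((preAutEquiv α hRS).symm (θ ⟨y, hQR y.2⟩) : Ω) =
      ((preAut α R).subtype.comp (MulAut.congr (preAutEquiv α hRS).symm θ).toMonoidHom).comp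
        (χ₀.codRestrict (preAut α R) hχ₀R') x := by
    show _ = (((MulAut.congr (preAutEquiv α hRS).symm θ) ⟨χ₀ x, hχ₀R' x⟩ : preAut α R) : Ω)
    rw [congr_apply]
    simp only [MulEquiv.symm_symm]
    rw [e1]
  have e3 := preAutEquiv_apply α hRS ((preAutEquiv α hRS).symm (θ ⟨y, hQR y.2⟩))
  rw [MulEquiv.apply_symm_apply] at e3
  rw [e3]
  congr 2
  exact Subtype.ext e2

end Cfsg.Agent.Lib.Helper9
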