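import Mathlib
import Cfsg.Prelude.Def_FusionSystem
import Cfsg.Agent.Lib.Helper9.PrimeIdx2
import Cfsg.Agent.Lib.Helper9.PPR2

set_option autoImplicit false
open Cfsg
open Cfsg.FusionSystem

/-! The subsystem `E₀ = ⟨O^{p'}(Aut_F(P)) : P centric⟩` and its invariance under `Aut_F(S)`. -/

namespace Cfsg.Agent.H9PPR

open Cfsg.Agent.Lib.Helper9

variable {Ω : Type*} [Group Ω] {S : Subgroup Ω}

/-- The image `α(P)` of `P ≤ S` under an automorphism `α` of `S`. -/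
def img (α : MulAut S) (P : Subgroup Ω) : Subgroup Ω :=
  (P.subgroupOf S).map (S.subtype.comp α.toMonoidHom)

theorem mem_img_iff (α : MulAut S) (P : Subgroup Ω) (y : Ω) :
    y ∈ img α P ↔ ∃ s : S, (s : Ω) ∈ P ∧ ((α s : S) : Ω) = y := by
  constructor
  · rintro ⟨s, hs, rfl⟩
    exact ⟨s, hs, rfl⟩
  · rintro ⟨s, hs, rfl⟩
    exact ⟨s, hs, rfl⟩

theorem img_le (α : MulAut S) (P : Subgroup Ω) : img α P ≤ S := by
  rintro _ ⟨s, -, rfl⟩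
  exact (α s).2

theorem apply_mem_img (α : MulAut S) {P : Subgroup Ω} {x : Ω} (hxS : x ∈ S) (hx : x ∈ P) :
    ((α ⟨x, hxS⟩ : S) : Ω) ∈ img α P := ⟨⟨x, hxS⟩, hx, rfl⟩

/-- The isomorphism `P ≅ α(P)`. -/
noncomputable def imgEquiv (α : MulAut S) {P : Subgroup Ω} (hPS : P ≤ S) : P ≃* img α P :=
  MulEquiv.ofBijective
    (((S.subtype.comp α.toMonoidHom).comp (Subgroup.inclusion hPS)).codRestrict (img α P)
      (fun x => ⟨⟨x, hPS x.2⟩, x.2, rfl⟩))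
    ⟨by
      intro a b hab
      have h1 : ((α ⟨a, hPS a.2⟩ : S) : Ω) = ((α ⟨b, hPS b.2⟩ : S) : Ω) :=
        congrArg (fun z : img α P => (z : Ω)) hab
      have h2 := α.injective (Subtype.ext h1)
      exact Subtype.ext (congrArg (fun s : S => (s : Ω)) h2),
     by
      rintro ⟨_, s, hs, rfl⟩
      exact ⟨⟨s, hs⟩, rfl⟩⟩

theorem imgEquiv_apply (α : MulAut S) {P : Subgroup Ω} (hPS : P ≤ S) (x : P) :
    ((imgEquiv α hPS x : img α P) : Ω) = ((α ⟨x, hPS x.2⟩ : S) : Ω) := rfl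

theorem imgEquiv_isFIso (F : FusionSystem S) {α : MulAut S} (hα : α ∈ F.autGroup S) {P : Subgroup Ω}
    (hPS : P ≤ S) : IsFIso F (imgEquiv α hPS) := by
  have h1 := (mem_autGroup_iff F le_rfl α).mp hα
  have h2 := fs_restrict_mem F h1 hPS
  have : (S.subtype.comp α.toMonoidHom).comp (Subgroup.inclusion hPS) =
      (img α P).subtype.comp (imgEquiv α hPS).toMonoidHom := by
    ext y
    rfl
  rw [this] at h2
  exact h2

/-- `χ` is the transport of `φ` along `α`. -/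
def Tr (α : MulAut S) {P P' : Subgroup Ω} (φ : P →* Ω) (χ : P' →* Ω) : Prop :=
  ∀ (x : P) (hxS : (x : Ω) ∈ S) (hφx : φ x ∈ S) (hαx : ((α ⟨x, hxS⟩ : S) : Ω) ∈ P'),
    χ ⟨(α ⟨x, hxS⟩ : S), hαx⟩ = ((α ⟨φ x, hφx⟩ : S) : Ω)

/-- The maps of `E` all of whose transports along `Aut_F(S)` are again in `E`. -/
def invSys (F E : FusionSystem S) : FusionSystem S where
  Hom P := {φ | φ ∈ E.Hom P ∧ ∀ α ∈ F.autGroup S, ∃ χ ∈ E.Hom (img α P), Tr α φ χ}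
  le_of_mem h := E.le_of_mem h.1
  injective_of_mem h := E.injective_of_mem h.1
  conj_mem := by
    intro P g hP hg
    refine ⟨E.conj_mem hP hg, fun α _ => ?_⟩
    refine ⟨conjHom (img α P) ((α ⟨g, hg⟩ : S) : Ω), E.conj_mem (img_le α P) (α ⟨g, hg⟩).2, ?_⟩
    intro x hxS hφx hαx
    have e : (⟨conjHom P g x, hφx⟩ : S) = ⟨g, hg⟩ * ⟨x, hxS⟩ * ⟨g, hg⟩⁻¹ := Subtype.ext rfl
    rw [e, map_mul, map_mul, map_inv]
    rfl
  comp_mem := by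
    rintro P Q φ ψ ⟨hφ, hφT⟩ ⟨hψ, hψT⟩ h
    have hPS : P ≤ S := (E.le_of_mem hφ).1
    have hφS : ∀ x : P, φ x ∈ S := (E.le_of_mem hφ).2
    have hψS : ∀ x : Q, ψ x ∈ S := (E.le_of_mem hψ).2
    refine ⟨E.comp_mem hφ hψ h, fun α hα => ?_⟩
    obtain ⟨χ₁, hχ₁, H₁⟩ := hφT α hα
    obtain ⟨χ₂, hχ₂, H₂⟩ := hψT α hα
    have hval : ∀ x : P, ∀ hαx : ((α ⟨x, hPS x.2⟩ : S) : Ω) ∈ img α P,
        χ₁ ⟨(α ⟨x, hPS x.2⟩ : S), hαx⟩ = ((α ⟨φ x, hφS x⟩ : S) : Ω) :=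
      fun x hαx => H₁ x (hPS x.2) (hφS x) hαx
    have hmaps : ∀ z : img α P, χ₁ z ∈ img α Q := by
      rintro ⟨_, s, hs, rfl⟩
      have := hval ⟨s, hs⟩ (apply_mem_img α s.2 hs)
      have e : (⟨((α s : S) : Ω), (⟨s, hs, rfl⟩ : ((α s : S) : Ω) ∈ img α P)⟩ : img α P) =
          ⟨(α ⟨((⟨s, hs⟩ : P) : Ω), hPS hs⟩ : S), apply_mem_img α s.2 hs⟩ := rfl
      show χ₁ ⟨((α s : S) : Ω), _⟩ ∈ img α Q
      rw [e, this]
      exact apply_mem_img α (hφS _) (h _)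
    refine ⟨χ₂.comp (χ₁.codRestrict _ hmaps), E.comp_mem hχ₁ hχ₂ hmaps, ?_⟩
    intro x hxS hφx hαx
    show χ₂ (χ₁.codRestrict _ hmaps ⟨(α ⟨x, hxS⟩ : S), hαx⟩) = _
    have e1 : χ₁.codRestrict _ hmaps ⟨(α ⟨x, hxS⟩ : S), hαx⟩ =
        ⟨(α ⟨φ x, hφS x⟩ : S), apply_mem_img α (hφS x) (h x)⟩ := Subtype.ext (hval x hαx)
    rw [e1]
    exact H₂ ⟨φ x, h x⟩ (hφS x) hφx _
  inv_mem := by
    rintro P φ ⟨hφ, hφT⟩
    have hPS : P ≤ S := (E.le_of_mem hφ).1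
    have hφS : ∀ x : P, φ x ∈ S := (E.le_of_mem hφ).2
    obtain ⟨ψ, hψ, Hψ⟩ := E.inv_mem hφ
    refine ⟨ψ, ⟨hψ, fun α hα => ?_⟩, Hψ⟩
    obtain ⟨χ, hχ, Hχ⟩ := hφT α hα
    obtain ⟨χ', hχ', Hχ'⟩ := E.inv_mem hχ
    have hval : ∀ x : P, ∀ hαx : ((α ⟨x, hPS x.2⟩ : S) : Ω) ∈ img α P,
        χ ⟨(α ⟨x, hPS x.2⟩ : S), hαx⟩ = ((α ⟨φ x, hφS x⟩ : S) : Ω) :=
      fun x hαx => Hχ x (hPS x.2) (hφS x) hαx
    have hle : img α φ.range ≤ χ.range := by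
      rintro _ ⟨s, ⟨x, hx⟩, rfl⟩
      refine ⟨⟨(α ⟨x, hPS x.2⟩ : S), apply_mem_img α (hPS x.2) x.2⟩, ?_⟩
      rw [hval x]
      have e : (⟨φ x, hφS x⟩ : S) = s := Subtype.ext hx
      rw [e]
      rfl
    refine ⟨χ'.comp (Subgroup.inclusion hle), fs_restrict_mem E hχ' hle, ?_⟩
    rintro ⟨_, x, rfl⟩ hyS hψy hαy
    show χ' (Subgroup.inclusion hle ⟨(α ⟨φ x, hyS⟩ : S), hαy⟩) = _
    have e1 : Subgroup.inclusion hle ⟨(α ⟨φ x, hyS⟩ : S), hαy⟩ =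
        ⟨χ ⟨(α ⟨x, hPS x.2⟩ : S), apply_mem_img α (hPS x.2) x.2⟩, ⟨_, rfl⟩⟩ :=
      Subtype.ext (hval x _).symm
    rw [e1, Hχ']
    show ((α ⟨x, hPS x.2⟩ : S) : Ω) = _
    congr 2
    exact Subtype.ext (Hψ x).symm

/-- The generators of `E₀`: the elements of `O^{p'}(Aut_F(P))`, `P` centric. -/
def gen0 (F : FusionSystem S) (p : ℕ) (P : Subgroup Ω) : Set (P →* Ω) :=
  {φ | F.IsCentric P ∧ ∃ γ ∈ Opp F p P, φ = P.subtype.comp γ.toMonoidHom}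

theorem gen0_subset (F : FusionSystem S) (p : ℕ) (P : Subgroup Ω) : gen0 F p P ⊆ F.Hom P := by
  rintro _ ⟨hPc, γ, hγ, rfl⟩
  exact (mem_autGroup_iff F hPc.1 γ).mp (Opp_le_autGroup F p P hγ)

/-- `E₀`: the subsystem generated by `O^{p'}(Aut_F(P))`, `P` centric. -/
def E0 (F : FusionSystem S) (p : ℕ) : FusionSystem S := genSys F (gen0 F p)

theorem E0_le (F : FusionSystem S) (p : ℕ) : E0 F p ≤ F := genSys_le_base F _

theorem Opp_le_E0 (F : FusionSystem S) (p : ℕ) {P : Subgroup Ω} (hP : F.IsCentric P) :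
    Opp F p P ≤ (E0 F p).autGroup P := by
  intro γ hγ
  rw [mem_autGroup_iff _ hP.1]
  exact gen_mem_genSys F _ (gen0_subset F p) ⟨hP, γ, hγ, rfl⟩

theorem E0_le_of (F : FusionSystem S) (p : ℕ) (D : FusionSystem S)
    (hD : ∀ P : Subgroup Ω, F.IsCentric P → Opp F p P ≤ D.autGroup P) : E0 F p ≤ D := by
  apply genSys_le
  rintro Q _ ⟨hQc, γ, hγ, rfl⟩
  exact (mem_autGroup_iff D hQc.1 γ).mp (hD Q hQc hγ)

theorem gen0_subset_invSys (F : FusionSystem S) (p : ℕ) (Q : Subgroup Ω) :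
    gen0 F p Q ⊆ (invSys F (E0 F p)).Hom Q := by
  rintro _ ⟨hQc, γ, hγ, rfl⟩
  have hQS : Q ≤ S := hQc.1
  refine ⟨gen_mem_genSys F _ (gen0_subset F p) ⟨hQc, γ, hγ, rfl⟩, fun α hα => ?_⟩
  have he : IsFIso F (imgEquiv α hQS) := imgEquiv_isFIso F hα hQS
  have hQ'c : F.IsCentric (img α Q) := centric_of_isConj F he.isConj hQc
  have hγ' : MulAut.congr (imgEquiv α hQS) γ ∈ Opp F p (img α Q) := Opp_congr F p _ he hγ
  refine ⟨(img α Q).subtype.comp (MulAut.congr (imgEquiv α hQS) γ).toMonoidHom,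
    gen_mem_genSys F _ (gen0_subset F p) ⟨hQ'c, _, hγ', rfl⟩, ?_⟩
  intro x hxS hφx hαx
  show ((MulAut.congr (imgEquiv α hQS) γ ⟨(α ⟨x, hxS⟩ : S), hαx⟩ : img α Q) : Ω) = _
  rw [congr_apply]
  have e1 : (imgEquiv α hQS).symm ⟨(α ⟨x, hxS⟩ : S), hαx⟩ = x := by
    rw [MulEquiv.symm_apply_eq]
    exact Subtype.ext rfl
  rw [e1, imgEquiv_apply]
  rfl

theorem E0_autInv (F : FusionSystem S) (p : ℕ) : AutInv F (E0 F p) := by
  intro P hPS φ hφ α hα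
  have h1 : φ ∈ (invSys F (E0 F p)).Hom P :=
    genSys_le F _ (invSys F (E0 F p)) (gen0_subset_invSys F p) P hφ
  obtain ⟨χ, hχ, Hχ⟩ := h1.2 α hα
  exact ⟨χ, hχ, fun x hφx hαx => Hχ x (hPS x.2) hφx hαx⟩

end Cfsg.Agent.H9PPR
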