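import Mathlib
import Cfsg.Prelude.Def_FusionSystem
import Cfsg.Agent.Lib.Helper9.PPR3
import Cfsg.Agent.Lib.Helper9.FusionSat1

set_option autoImplicit false
open Cfsg
open Cfsg.FusionSystem

/-! Automorphisms of `S` and normalizers: `|N_S(α(T))| = |N_S(T)|`. -/

namespace Cfsg.Agent.H9PPR

open Cfsg.Agent.Lib.Helper9

variable {Ω : Type*} [Group Ω] {S : Subgroup Ω}

theorem mem_of_apply_mem_img (β : MulAut S) {T : Subgroup Ω} {s : S} (h : ((β s : S) : Ω) ∈ img β T) :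
    (s : Ω) ∈ T := by
  obtain ⟨s', hs', hss'⟩ := (mem_img_iff β T _).mp h
  have : s' = s := β.injective (Subtype.ext hss')
  rw [← this]
  exact hs'

theorem img_inv_img (β : MulAut S) {T : Subgroup Ω} (hTS : T ≤ S) : img β⁻¹ (img β T) = T := by
  ext y
  rw [mem_img_iff]
  constructor
  · rintro ⟨s, hs, rfl⟩
    obtain ⟨s', hs', hss'⟩ := (mem_img_iff β T _).mp hs
    have : s = β s' := Subtype.ext hss'.symm
    rw [this, MulAut.inv_apply_self]
    exact hs'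
  · intro hy
    refine ⟨β ⟨y, hTS hy⟩, apply_mem_img β (hTS hy) hy, ?_⟩
    rw [MulAut.inv_apply_self]

theorem apply_mem_normalizerIn (β : MulAut S) {T : Subgroup Ω} (hTS : T ≤ S) {g : Ω}
    (hg : g ∈ normalizerIn S T) : ((β ⟨g, hg.1⟩ : S) : Ω) ∈ normalizerIn S (img β T) := by
  have hgS : g ∈ S := hg.1
  have hgN : g ∈ Subgroup.normalizer (T : Set Ω) := hg.2
  refine ⟨(β _).2, ?_⟩
  show ((β ⟨g, hgS⟩ : S) : Ω) ∈ Subgroup.normalizer ((img β T : Subgroup Ω) : Set Ω)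
  rw [Subgroup.mem_normalizer_iff]
  have key : ∀ (g' : Ω) (hg' : g' ∈ S), g' ∈ Subgroup.normalizer (T : Set Ω) → ∀ y : Ω, y ∈ img β T →
      ((β ⟨g', hg'⟩ : S) : Ω) * y * ((β ⟨g', hg'⟩ : S) : Ω)⁻¹ ∈ img β T := by
    intro g' hg' hg'N y hy
    obtain ⟨s, hs, rfl⟩ := (mem_img_iff β T _).mp hy
    have h1 : g' * (s : Ω) * g'⁻¹ ∈ T := (Subgroup.mem_normalizer_iff.mp hg'N _).mp hs
    have h2 : ((β (⟨g', hg'⟩ * s * ⟨g', hg'⟩⁻¹) : S) : Ω) ∈ img β T :=
      apply_mem_img β (S.mul_mem (S.mul_mem hg' s.2) (S.inv_mem hg')) h1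
    rw [map_mul, map_mul, map_inv] at h2
    exact h2
  intro y
  constructor
  · exact key g hgS hgN y
  · intro hy
    have h1 := key g⁻¹ (S.inv_mem hgS) (Subgroup.inv_mem _ hgN) _ hy
    have e : (⟨g⁻¹, S.inv_mem hgS⟩ : S) = ⟨g, hgS⟩⁻¹ := rfl
    rw [e, map_inv] at h1
    have e2 : ((((β ⟨g, hgS⟩)⁻¹ : S)) : Ω) * (((β ⟨g, hgS⟩ : S) : Ω) * y * ((β ⟨g, hgS⟩ : S) : Ω)⁻¹) *
        ((((β ⟨g, hgS⟩)⁻¹ : S)) : Ω)⁻¹ = y := by
      rw [Subgroup.coe_inv]
      group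
    rw [e2] at h1
    exact h1

theorem card_normalizerIn_le_img [Finite S] (β : MulAut S) {T : Subgroup Ω} (hTS : T ≤ S) :
    Nat.card (normalizerIn S T) ≤ Nat.card (normalizerIn S (img β T)) := by
  have : Finite (normalizerIn S (img β T)) :=
    Finite.of_injective (Subgroup.inclusion (inf_le_left : normalizerIn S (img β T) ≤ S))
      (Subgroup.inclusion_injective _)
  apply Nat.card_le_card_of_injective
    (fun g : normalizerIn S T => (⟨((β ⟨g, g.2.1⟩ : S) : Ω), apply_mem_normalizerIn β hTS g.2⟩ :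
      normalizerIn S (img β T)))
  intro a b hab
  have h1 : ((β ⟨a, a.2.1⟩ : S) : Ω) = ((β ⟨b, b.2.1⟩ : S) : Ω) :=
    congrArg (fun z : normalizerIn S (img β T) => (z : Ω)) hab
  have h2 := β.injective (Subtype.ext h1)
  exact Subtype.ext (congrArg (fun s : S => (s : Ω)) h2)

theorem card_normalizerIn_img [Finite S] (β : MulAut S) {T : Subgroup Ω} (hTS : T ≤ S) :
    Nat.card (normalizerIn S (img β T)) = Nat.card (normalizerIn S T) := by
  apply le_antisymm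
  · have := card_normalizerIn_le_img β⁻¹ (img_le β T)
    rwa [img_inv_img β hTS] at this
  · exact card_normalizerIn_le_img β hTS

end Cfsg.Agent.H9PPR
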