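import Mathlib
import Cfsg.Prelude.Def_FusionComponents
import Cfsg.Agent.Lib.Helper9.FusionAG1
import Cfsg.Agent.Lib.Helper9.FusionSat2
import Cfsg.Agent.Lib.Helper9.FusionAut
import Cfsg.Agent.Lib.Helper6.PRes

set_option autoImplicit false
open Cfsg
open Cfsg.FusionSystem

/-! Uniqueness of the saturated subsystem of `p`-power index over a given subgroup. -/

namespace Cfsg.Agent.Lib.Helper9

variable {Ω : Type*} [Group Ω] {S : Subgroup Ω}

theorem autGroup_le_of_subsystem {T : Subgroup Ω} (E : FusionSystem T) (F : FusionSystem S)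
    (h : E.IsSubsystemOf F) {R : Subgroup Ω} (hRT : R ≤ T) (hTS : T ≤ S) : E.autGroup R ≤ F.autGroup R := by
  intro α hα
  rw [mem_autGroup_iff E hRT] at hα
  rw [mem_autGroup_iff F (hRT.trans hTS)]
  exact h R hα

/-- A saturated subsystem of `p`-power index is contained in every subsystem of `p`-power index over the same subgroup. -/
theorem ppowerIndex_le [Finite S] (p : ℕ) [Fact p.Prime] (hS : IsPGroup p S) (F : FusionSystem S)
    {T : Subgroup Ω} (hTS : T ≤ S) (E₁ E₂ : FusionSystem T) (h₁s : E₁.IsSaturated p)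
    (h₁ : E₁.HasPPowerIndexIn F p) (h₂ : E₂.HasPPowerIndexIn F p) (P : Subgroup Ω) :
    E₁.Hom P ⊆ E₂.Hom P := by
  haveI hTfin : Finite T := Finite.of_injective (Subgroup.inclusion hTS) (Subgroup.inclusion_injective hTS)
  have hTp : IsPGroup p T := hS.to_le hTS
  intro φ hφ
  refine fs_le_of_autGroup_le p hTp E₁ E₂ h₁s ?_ _ P φ hφ rfl
  intro R hRn _
  have hRT : R ≤ T := hRn.1
  haveI : Finite R := fs_finite_of_le hRT
  haveI : Finite (E₁.autGroup R) := inferInstance
  obtain ⟨_, Rs, hRs⟩ := (fs_sylow_axiom p hTp E₁ h₁s hRn).2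
  have htop := Cfsg.Agent.Lib.Helper6.pResidual_sup_sylow Rs
  have hle : pResidual p (E₁.autGroup R) ⊔ (Rs : Subgroup (E₁.autGroup R)) ≤
      (E₂.autGroup R).subgroupOf (E₁.autGroup R) := by
    apply sup_le
    · apply Cfsg.Agent.Lib.Helper6.pResidual_le_of_forall
      intro g hg
      rw [Subgroup.mem_subgroupOf]
      have hgF : (g : MulAut R) ∈ F.autGroup R := autGroup_le_of_subsystem E₁ F h₁.1 hRT hTS g.2
      have hord : orderOf (⟨(g : MulAut R), hgF⟩ : F.autGroup R) = orderOf g := by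
        rw [Subgroup.orderOf_mk, Subgroup.orderOf_coe]
      have hmem : (⟨(g : MulAut R), hgF⟩ : F.autGroup R) ∈ pResidual p (F.autGroup R) :=
        Cfsg.Agent.Lib.Helper6.mem_pResidual_of_coprime' (hord ▸ hg)
      exact h₂.2.2 R hRT ⟨_, hmem, rfl⟩
    · rw [hRs]
      intro g hg
      rw [Subgroup.mem_subgroupOf] at hg ⊢
      exact autInducedBy_le_autGroup E₂ hRT hg
  intro α hα
  have h1 : (⟨α, hα⟩ : E₁.autGroup R) ∈ (⊤ : Subgroup (E₁.autGroup R)) := Subgroup.mem_top _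
  rw [← htop] at h1
  have h2 := hle h1
  rw [Subgroup.mem_subgroupOf] at h2
  exact h2

/-- Two saturated subsystems of `p`-power index over the same subgroup have the same maps. -/
theorem ppowerIndex_unique [Finite S] (p : ℕ) [Fact p.Prime] (hS : IsPGroup p S) (F : FusionSystem S)
    {T₁ T₂ : Subgroup Ω} (hT : T₁ = T₂) (hTS : T₁ ≤ S) (E₁ : FusionSystem T₁) (E₂ : FusionSystem T₂)
    (h₁s : E₁.IsSaturated p) (h₂s : E₂.IsSaturated p)
    (h₁ : E₁.HasPPowerIndexIn F p) (h₂ : E₂.HasPPowerIndexIn F p) (P : Subgroup Ω) :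
    E₁.Hom P = E₂.Hom P := by
  subst hT
  exact Set.Subset.antisymm (ppowerIndex_le p hS F hTS E₁ E₂ h₁s h₁ h₂ P)
    (ppowerIndex_le p hS F hTS E₂ E₁ h₂s h₂ h₁ P)

end Cfsg.Agent.Lib.Helper9
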