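import Mathlib
import Cfsg.Prelude.Def_FusionSystem
import Cfsg.Agent.Lib.Helper9.PrimeIdx2
import Cfsg.Agent.Lib.Helper9.FusionFrattini
import Cfsg.Agent.Lib.Helper9.FusionAG2
import Cfsg.Agent.Lib.Lead.Residual

set_option autoImplicit false
open Cfsg
open Cfsg.FusionSystem

/-! If `Aut_E(P) ≥ O^{p'}(Aut_F(P))` for all `F`-centric `P`, then every map of `F` is good; in particular every map
of `F` is an element of `Aut_F(S)` composed with a map of `E`. -/

namespace Cfsg.Agent.Lib.Helper9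

variable {Ω : Type*} [Group Ω] {S : Subgroup Ω}

theorem fs_le_goodSys [Finite S] (p : ℕ) [Fact p.Prime] (hS : IsPGroup p S) (F E : FusionSystem S)
    (hF : F.IsSaturated p) (h : ∀ P : Subgroup Ω, F.IsCentric P → Opp F p P ≤ E.autGroup P)
    (P : Subgroup Ω) (φ : P →* Ω) (hφ : φ ∈ F.Hom P) : φ ∈ (goodSys F E).Hom P := by
  refine fs_le_of_autGroup_le p hS F (goodSys F E) hF ?_ _ P φ hφ rfl
  intro R hRn IH
  have hRS : R ≤ S := hRn.1
  by_cases hRtop : R = S
  · rw [hRtop]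
    intro α hα
    rw [mem_autGroup_iff _ le_rfl, mem_goodSys_iff]
    refine ⟨(mem_autGroup_iff F le_rfl α).mp hα, isGood_aut F E hα (fun y hy => rfl), ?_⟩
    intro Q ψ _ hinv
    refine isGood_aut F E (Subgroup.inv_mem _ hα) (fun y hy => ?_)
    obtain ⟨x, hx, hy'⟩ := hinv y
    rw [hy']
    have e : α x = ⟨y, hy⟩ := Subtype.ext hx
    rw [← e, MulAut.inv_apply_self]
  by_cases hc : F.IsCentric R
  · haveI : Finite R := fs_finite_of_le hRS
    have hRlt : R < S := lt_of_le_of_ne hRS hRtop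
    obtain ⟨t, htN, htR⟩ := SetLike.exists_of_lt (fs_lt_normalizerIn p hS hRlt)
    obtain ⟨K, hKdef⟩ : ∃ K : Subgroup (F.autGroup R),
      K = Subgroup.closure {α : F.autGroup R | ∃ k : ℕ, orderOf α = p ^ k} := ⟨_, rfl⟩
    haveI hKn : K.Normal := by
      rw [hKdef]
      apply Cfsg.Agent.Lib.Lead.closure_normal_of_conj_invariant
      rintro s ⟨k, hk⟩ g
      exact ⟨k, by rw [Cfsg.Agent.Lib.Lead.orderOf_conj']; exact hk⟩
    have hKL : ∀ κ ∈ K, ((κ : F.autGroup R) : MulAut R) ∈ (goodSys F E).autGroup R := by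
      intro κ hκ
      have hκO : (κ : MulAut R) ∈ Opp F p R := ⟨κ, by rw [← hKdef]; exact hκ, rfl⟩
      rw [mem_autGroup_iff _ hRS, mem_goodSys_iff]
      refine ⟨(mem_autGroup_iff F hRS _).mp κ.2,
        isGood_of_mem_Opp p F E h hc hκO _ le_rfl (fun y => rfl), ?_⟩
      intro Q ψ _ hinv
      have hκO' : ((κ : MulAut R))⁻¹ ∈ Opp F p R := Subgroup.inv_mem _ hκO
      have hQR : Q ≤ R := by
        intro y hy
        obtain ⟨x, hx, -⟩ := hinv ⟨y, hy⟩
        have hx' : (((κ : MulAut R) x : R) : Ω) = y := hx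
        rw [← hx']
        exact ((κ : MulAut R) x).2
      refine isGood_of_mem_Opp p F E h hc hκO' ψ hQR (fun y => ?_)
      obtain ⟨x, hx, hy'⟩ := hinv y
      rw [hy']
      have e : (κ : MulAut R) x = ⟨y, hQR y.2⟩ := Subtype.ext hx
      rw [← e, MulAut.inv_apply_self]
    have hcS : R.normalizerMonoidHom ⟨t, htN.2⟩ ∈ autInducedBy S R := by
      rw [mem_autInducedBy_iff]
      exact ⟨t, htN.1, fun x => rfl⟩
    have hcF : R.normalizerMonoidHom ⟨t, htN.2⟩ ∈ F.autGroup R := autInducedBy_le_autGroup F hRS hcS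
    have hcK : (⟨_, hcF⟩ : F.autGroup R) ∈ K := by
      rw [hKdef]
      apply Subgroup.subset_closure
      obtain ⟨k, hk⟩ := isPGroup_autInducedBy p hS R ⟨_, hcS⟩
      have hk' : (⟨_, hcF⟩ : F.autGroup R) ^ p ^ k = 1 := by
        apply Subtype.ext
        have := congrArg Subtype.val hk
        simpa using this
      obtain ⟨j, -, hj⟩ := (Nat.dvd_prime_pow (Fact.out : p.Prime)).mp (orderOf_dvd_of_pow_eq_one hk')
      exact ⟨j, hj⟩
    exact fs_autGroup_le_of_normal_subgroup p hS F _ hF hRn IH K hKL t htN.1 htR ⟨_, hcF⟩ hcK (fun x => rfl)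
  · exact fs_autGroup_le_of_not_centric p hS F _ hF hRn hc IH

/-- Every map of `F` is an element of `Aut_F(S)` composed with a map of `E`. -/
theorem fs_frattiniFact_of_Opp_le [Finite S] (p : ℕ) [Fact p.Prime] (hS : IsPGroup p S) (F E : FusionSystem S)
    (hF : F.IsSaturated p) (h : ∀ P : Subgroup Ω, F.IsCentric P → Opp F p P ≤ E.autGroup P)
    (P : Subgroup Ω) (φ : P →* Ω) (hφ : φ ∈ F.Hom P) : FrattiniFact F E P φ :=
  frattiniFact_of_isGood F E (F.le_of_mem hφ).1 (fs_le_goodSys p hS F E hF h P φ hφ).2.1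

end Cfsg.Agent.Lib.Helper9
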