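import Mathlib
import Cfsg.Prelude.Def_FusionSystem
import Cfsg.Agent.Lib.Helper9.PPR4
import Cfsg.Agent.Lib.Helper9.PrimeIdx3
import Cfsg.Agent.Lib.Helper9.FusionCentric3
import Cfsg.Agent.Lib.Helper9.FusionReceptive
import Cfsg.Agent.Lib.Helper9.FusionNormal3
import Cfsg.Agent.Lib.Helper9.KNorm1
import Cfsg.Agent.Lib.Helper9.FusionSat3
import Cfsg.Agent.Lib.Helper9.PPowerIndex1

set_option autoImplicit false
open Cfsg
open Cfsg.FusionSystem

/-! `Aut⁰_F(S)` and the residual system `Aut⁰_F(S) · E₀`. -/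

namespace Cfsg.Agent.H9PPR

open Cfsg.Agent.Lib.Helper9

variable {Ω : Type*} [Group Ω] {S : Subgroup Ω}

/-- The generators of `Aut⁰_F(S)`. -/
def IsGen0 (F : FusionSystem S) (p : ℕ) (δ : MulAut S) : Prop :=
  δ ∈ F.autGroup S ∧ ∃ P : Subgroup Ω, F.IsCentric P ∧
    ∃ χ ∈ (E0 F p).Hom P, ∀ (x : P) (hx : (x : Ω) ∈ S), χ x = ((δ ⟨x, hx⟩ : S) : Ω)

/-- `Aut⁰_F(S)`. -/
def Aut0 (F : FusionSystem S) (p : ℕ) : Subgroup (MulAut S) :=
  Subgroup.closure {δ : MulAut S | IsGen0 F p δ}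

theorem Aut0_le (F : FusionSystem S) (p : ℕ) : Aut0 F p ≤ F.autGroup S := by
  rw [Aut0, Subgroup.closure_le]
  rintro δ ⟨hδ, -⟩
  exact hδ

/-- The residual system. -/
def resSys (F : FusionSystem S) (p : ℕ) : FusionSystem S :=
  prodSys F (E0 F p) (E0_le F p) (E0_autInv F p) (Aut0 F p) (Aut0_le F p)

theorem mem_resSys_iff (F : FusionSystem S) (p : ℕ) {P : Subgroup Ω} (φ : P →* Ω) :
    φ ∈ (resSys F p).Hom P ↔ AFact (Aut0 F p) (E0 F p) P φ := Iff.rfl

theorem resSys_le (F : FusionSystem S) (p : ℕ) : resSys F p ≤ F := prodSys_le _ _ _ _ _ _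

theorem E0_le_resSys (F : FusionSystem S) (p : ℕ) : E0 F p ≤ resSys F p := le_prodSys _ _ _ _ _ _

theorem aut_mem_resSys (F : FusionSystem S) (p : ℕ) {α : MulAut S} (hα : α ∈ Aut0 F p) :
    S.subtype.comp α.toMonoidHom ∈ (resSys F p).Hom S :=
  ⟨α, hα, S.subtype, fs_subtype_mem _ le_rfl, fun _ _ => rfl⟩

theorem Opp_le_resSys (F : FusionSystem S) (p : ℕ) {P : Subgroup Ω} (hP : F.IsCentric P) :
    Opp F p P ≤ (resSys F p).autGroup P := by
  intro γ hγ
  have h1 := Opp_le_E0 F p hP hγ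
  rw [mem_autGroup_iff _ hP.1] at h1 ⊢
  exact E0_le_resSys F p P h1

/-- A system containing `E₀` and `Aut⁰` contains the residual system. -/
theorem resSys_le_of (F : FusionSystem S) (p : ℕ) (D : FusionSystem S) (h0 : E0 F p ≤ D)
    (hA : ∀ α ∈ Aut0 F p, S.subtype.comp α.toMonoidHom ∈ D.Hom S) : resSys F p ≤ D := by
  rintro P φ ⟨α, hα, φ₀, hφ₀, H⟩
  have hφ₀S : ∀ x : P, φ₀ x ∈ S := ((E0 F p).le_of_mem hφ₀).2
  have h2 := D.comp_mem (h0 P hφ₀) (hA α hα) hφ₀S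
  have : (S.subtype.comp α.toMonoidHom).comp (φ₀.codRestrict S hφ₀S) = φ := by
    ext x
    exact (H x (hφ₀S x)).symm
  rwa [this] at h2

/-- Generation by the maps with centric source. -/
theorem resSys_gen [Finite S] (F : FusionSystem S) (p : ℕ) (D : FusionSystem S)
    (h : ∀ P : Subgroup Ω, F.IsCentric P → (resSys F p).Hom P ⊆ D.Hom P) : resSys F p ≤ D := by
  apply resSys_le_of
  · apply E0_le_of
    intro P hP γ hγ
    rw [mem_autGroup_iff _ hP.1]
    apply h P hP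
    exact (mem_autGroup_iff _ hP.1 γ).mp (Opp_le_resSys F p hP hγ)
  · intro α hα
    exact h S (fs_top_centric F) (aut_mem_resSys F p hα)

/-- Minimality. -/
theorem resSys_le_saturated [Finite S] (p : ℕ) [Fact p.Prime] (hS : IsPGroup p S) (F : FusionSystem S)
    (hF : F.IsSaturated p) (D : FusionSystem S) (hDs : D.IsSaturated p) (hDF : D ≤ F)
    (hD : ∀ P : Subgroup Ω, F.IsCentric P → Opp F p P ≤ D.autGroup P) : resSys F p ≤ D := by
  have h0 : E0 F p ≤ D := E0_le_of F p D hD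
  apply resSys_le_of F p D h0
  intro α hα
  have key : ∀ δ : MulAut S, δ ∈ Aut0 F p → δ ∈ D.autGroup S := by
    rw [← SetLike.le_def, Aut0, Subgroup.closure_le]
    rintro δ ⟨hδ, P, hPc, χ, hχ, Hχ⟩
    have hPS : P ≤ S := hPc.1
    have hψ := (mem_autGroup_iff F le_rfl δ).mp hδ
    show δ ∈ D.autGroup S
    rw [mem_autGroup_iff D le_rfl]
    refine fs_subsystem_extend p hS F hF D hDs hDF hψ _ P hPS hPc ?_ rfl
    have : (S.subtype.comp δ.toMonoidHom).comp (Subgroup.inclusion hPS) = χ := by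
      ext x
      exact (Hχ x (hPS x.2)).symm
    rw [this]
    exact h0 P hχ
  exact (mem_autGroup_iff D le_rfl α).mp (key α hα)

end Cfsg.Agent.H9PPR
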