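import Mathlib
import Cfsg.Prelude.Def_FusionSystem
import Cfsg.Agent.Lib.Helper9.PPR5

set_option autoImplicit false
open Cfsg
open Cfsg.FusionSystem

/-! Every `F`-centric subgroup is conjugate in the residual system to a subgroup which is fully automized and
receptive there. -/

namespace Cfsg.Agent.H9PPR

open Cfsg.Agent.Lib.Helper9

variable {Ω : Type*} [Group Ω] {S : Subgroup Ω}

theorem resSys_hsat [Finite S] (p : ℕ) [Fact p.Prime] (hS : IsPGroup p S) (F : FusionSystem S)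
    (hF : F.IsSaturated p) {P : Subgroup Ω} (hPc : F.IsCentric P) :
    ∃ Q, (resSys F p).IsConj P Q ∧ (resSys F p).IsFullyAutomized p Q ∧ (resSys F p).IsReceptive Q := by
  have hOpp : ∀ P : Subgroup Ω, F.IsCentric P → Opp F p P ≤ (E0 F p).autGroup P :=
    fun P hP => Opp_le_E0 F p hP
  obtain ⟨R, hPR, hRn⟩ := fs_exists_fullyNormalized F hPc.1
  obtain ⟨φ, hφ, hφr⟩ := hPR
  obtain ⟨α, hα, φ₀, hφ₀, H⟩ := fs_frattiniFact_of_Opp_le p hS F (E0 F p) hF hOpp P φ hφ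
  have hφ₀S : ∀ x : P, φ₀ x ∈ S := ((E0 F p).le_of_mem hφ₀).2
  have hφ₀F : φ₀ ∈ F.Hom P := E0_le F p P hφ₀
  have hPQF : F.IsConj P φ₀.range := ⟨φ₀, hφ₀F, rfl⟩
  have hQc : F.IsCentric φ₀.range := centric_of_isConj F hPQF hPc
  have hQS : φ₀.range ≤ S := hQc.1
  have hRimg : R = img α φ₀.range := by
    rw [← hφr]
    ext y
    rw [mem_img_iff]
    constructor
    · rintro ⟨x, rfl⟩
      exact ⟨⟨φ₀ x, hφ₀S x⟩, ⟨x, rfl⟩, (H x (hφ₀S x)).symm⟩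
    · rintro ⟨s, ⟨x, hx⟩, rfl⟩
      refine ⟨x, ?_⟩
      rw [H x (hφ₀S x)]
      have e : (⟨φ₀ x, hφ₀S x⟩ : S) = s := Subtype.ext hx
      rw [e]
  have hQn : F.IsFullyNormalized φ₀.range := by
    refine ⟨hQS, fun Q' hQQ' => ?_⟩
    have h1 : F.IsConj R Q' :=
      fs_isConj_trans F (fs_isConj_symm F ⟨φ, hφ, hφr⟩) (fs_isConj_trans F hPQF hQQ')
    have h2 := hRn.2 Q' h1
    rw [hRimg, card_normalizerIn_img α hQS] at h2
    exact h2
  obtain ⟨hQfc, hQfa⟩ := fs_sylow_axiom p hS F hF hQn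
  have hQr : F.IsReceptive φ₀.range := fs_extension_axiom p hS F hF hQfc
  refine ⟨φ₀.range, ⟨φ₀, E0_le_resSys F p P hφ₀, rfl⟩, ?_, ?_⟩
  · -- fully automized
    haveI : Finite φ₀.range := fs_finite_of_le hQS
    haveI : Finite (F.autGroup φ₀.range) := inferInstance
    have hT : IsSylIn p (autInducedBy S φ₀.range) (F.autGroup φ₀.range) :=
      isSylIn_of_sylow (autInducedBy_le_autGroup F hQS) hQfa.2
    have hle : (resSys F p).autGroup φ₀.range ≤ F.autGroup φ₀.range :=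
      autGroup_le_of_subsystem (resSys F p) F (fun P => resSys_le F p P) hQS le_rfl
    exact ⟨hQS, (hT.of_le (autInducedBy_le_autGroup (resSys F p) hQS) hle).exists_sylow⟩
  · -- receptive
    refine ⟨hQS, fun P' ψ hψ hψr => ?_⟩
    have hψF : ψ ∈ F.Hom P' := resSys_le F p P' hψ
    have hP'S : P' ≤ S := (F.le_of_mem hψF).1
    have hψS : ∀ x : P', ψ x ∈ S := (F.le_of_mem hψF).2
    obtain ⟨ψ', hψ', Hψ'⟩ := hQr.2 P' ψ hψF hψr
    refine ⟨ψ', ?_, Hψ'⟩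
    obtain ⟨β, hβ, ψ₀, hψ₀, Hβ⟩ := fs_frattiniFact_of_Opp_le p hS F (E0 F p) hF hOpp _ ψ' hψ'
    obtain ⟨α', hα', φ₁, hφ₁, Hα'⟩ := hψ
    have hext : P' ≤ extender S P' ψ := fs_le_extender P' ψ hP'S hψS
    have hψ₀S : ∀ y, ψ₀ y ∈ S := ((E0 F p).le_of_mem hψ₀).2
    have hφ₁S : ∀ x : P', φ₁ x ∈ S := ((E0 F p).le_of_mem hφ₁).2
    have hδ : IsGen0 F p (β⁻¹ * α') := by
      refine ⟨Subgroup.mul_mem _ (Subgroup.inv_mem _ hβ) (Aut0_le F p hα'), φ₁.range, ?_, ?_⟩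
      · have h1 : F.IsConj P' φ₁.range := ⟨φ₁, E0_le F p P' hφ₁, rfl⟩
        have h2 : F.IsConj P' φ₀.range := ⟨ψ, hψF, hψr⟩
        exact centric_of_isConj F h1 (centric_of_isConj F (fs_isConj_symm F h2) hQc)
      · obtain ⟨φ₁', hφ₁', Hφ₁'⟩ := (E0 F p).inv_mem hφ₁
        have hval : ∀ y : φ₁.range, φ₁' y ∈ P' := by
          rintro ⟨_, x, rfl⟩
          rw [Hφ₁']
          exact x.2
        have hψ₀P' := fs_restrict_mem (E0 F p) hψ₀ hext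
        refine ⟨(ψ₀.comp (Subgroup.inclusion hext)).comp (φ₁'.codRestrict P' hval),
          (E0 F p).comp_mem hφ₁' hψ₀P' hval, ?_⟩
        rintro ⟨_, x, rfl⟩ hx
        have e1 : φ₁'.codRestrict P' hval ⟨φ₁ x, ⟨x, rfl⟩⟩ = x := Subtype.ext (Hφ₁' x)
        have e2 : α' ⟨φ₁ x, hx⟩ = β ⟨ψ₀ (Subgroup.inclusion hext x), hψ₀S _⟩ := by
          apply Subtype.ext
          rw [← Hβ (Subgroup.inclusion hext x) (hψ₀S _), ← Hα' x hx]
          exact (Hψ' (x : Ω) x.2 (hext x.2)).symm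
        show ψ₀ (Subgroup.inclusion hext (φ₁'.codRestrict P' hval ⟨φ₁ x, ⟨x, rfl⟩⟩)) =
          (((β⁻¹ * α') ⟨φ₁ x, hx⟩ : S) : Ω)
        rw [e1, MulAut.mul_apply, e2, MulAut.inv_apply_self]
    have hβ0 : β ∈ Aut0 F p := by
      have h1 : β⁻¹ * α' ∈ Aut0 F p := Subgroup.subset_closure hδ
      have h2 : β = α' * (β⁻¹ * α')⁻¹ := by group
      rw [h2]
      exact Subgroup.mul_mem _ hα' (Subgroup.inv_mem _ h1)
    exact ⟨β, hβ0, ψ₀, hψ₀, Hβ⟩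

end Cfsg.Agent.H9PPR
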