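import Mathlib
import Cfsg.Prelude.Def_FusionSystem
import Cfsg.Prelude.Def_FusionComponents
import Cfsg.Agent.Lib.Helper9.LN2
import Cfsg.Agent.Lib.Helper9.Iso7
import Cfsg.Agent.Lib.Helper9.PPR6
import Cfsg.Agent.S5119
import Cfsg.Agent.S5153

set_option autoImplicit false
open Cfsg Cfsg.FusionSystem Cfsg.Agent.Lib.Helper9 Cfsg.Agent.H9Iso Cfsg.Agent.H9PPR

/-! The `p'`-residual of a normal subsystem lies in every normal subsystem over the same subgroup. -/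

namespace Cfsg.Agent.H9LN

variable {Ω : Type*} [Group Ω] {S T : Subgroup Ω}

/-- A `p`-element of `Aut_{E₁}(P)` lies in `Aut_{E₂}(P)`, for `E₁, E₂` normal in `F` over `T`. -/
theorem pElt_mem' [Finite S] (p : ℕ) [Fact p.Prime] (hS : IsPGroup p S) (F : FusionSystem S)
    (hF : F.IsSaturated p) (E₁ E₂ : FusionSystem T) (hE₁ : E₁.IsNormalIn F p) (hE₂ : E₂.IsNormalIn F p)
    {P : Subgroup Ω} (hPT : P ≤ T) {α : MulAut P} (hα : α ∈ E₁.autGroup P) {k : ℕ}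
    (hk : orderOf α = p ^ k) : α ∈ E₂.autGroup P := by
  have hsc : F.StronglyClosed T := hE₁.1.2.2.2.1
  have hTS : T ≤ S := hsc.1
  haveI : Finite T := fs_finite_of_le hTS
  have hT : IsPGroup p T := hS.to_le hTS
  have hstr₁ : StrongInv F E₁ := Cfsg.Agent.S5119.strongInv_of_invariant F E₁ hE₁.1.2.2
  have hstr₂ : StrongInv F E₂ := Cfsg.Agent.S5119.strongInv_of_invariant F E₂ hE₂.1.2.2
  obtain ⟨_, ⟨φ, hφ, rfl⟩, hfn⟩ := fs_exists_fullyNormalized F (hPT.trans hTS)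
  have hP₀T : φ.range ≤ T := by
    rintro _ ⟨x, rfl⟩
    exact hsc.2 P hPT φ hφ x
  have hfn₁ : E₁.IsFullyNormalized φ.range :=
    Cfsg.Agent.S5153.result p hS F hF E₁
      (IsSubnormalIn.step (IsSubnormalIn.refl E₁ p) hE₁) _ hP₀T hfn
  -- transport to the fully normalized conjugate
  have hrel : ∀ (x : P) (h : φ x ∈ φ.range),
      ((MulAut.congr (fsEquiv F hφ) α ⟨φ x, h⟩ : φ.range) : Ω) = φ (α x) := by
    intro x h
    show ((fsEquiv F hφ (α ((fsEquiv F hφ).symm ⟨φ x, h⟩)) : φ.range) : Ω) = _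
    rw [fsEquiv_symm_apply, fsEquiv_apply]
  have hα₀ : MulAut.congr (fsEquiv F hφ) α ∈ E₁.autGroup φ.range :=
    aut_transport F E₁ hstr₁ hPT hφ rfl α _ hrel hα
  have hk₀ : orderOf (MulAut.congr (fsEquiv F hφ) α) = p ^ k := by
    rw [MulEquiv.orderOf_eq]
    exact hk
  have h2 := pElt_mem p hT F E₁ E₂ hE₁.1.1 hE₁.1.2.2.1 hstr₂ hP₀T hfn₁ hα₀ hk₀
  -- and back
  obtain ⟨ψ, hψ, Hψ⟩ := F.inv_mem hφ
  have hψr : ψ.range = P := by
    ext z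
    constructor
    · rintro ⟨⟨_, x, rfl⟩, rfl⟩
      rw [Hψ]
      exact x.2
    · intro hz
      exact ⟨⟨φ ⟨z, hz⟩, ⟨_, rfl⟩⟩, Hψ ⟨z, hz⟩⟩
  refine aut_transport F E₂ hstr₂ hP₀T hψ hψr (MulAut.congr (fsEquiv F hφ) α) α ?_ h2
  rintro ⟨_, x, rfl⟩ h
  have e1 : (⟨ψ ⟨φ x, ⟨x, rfl⟩⟩, h⟩ : P) = x := Subtype.ext (Hψ x)
  rw [e1]
  have e2 : MulAut.congr (fsEquiv F hφ) α ⟨φ x, ⟨x, rfl⟩⟩ = ⟨φ (α x), ⟨_, rfl⟩⟩ :=
    Subtype.ext (hrel x ⟨x, rfl⟩)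
  rw [e2, Hψ]

/-- `E₀(E₁) ≤ E₂`. -/
theorem E0_le_normal [Finite S] (p : ℕ) [Fact p.Prime] (hS : IsPGroup p S) (F : FusionSystem S)
    (hF : F.IsSaturated p) (E₁ E₂ : FusionSystem T) (hE₁ : E₁.IsNormalIn F p) (hE₂ : E₂.IsNormalIn F p) :
    E0 E₁ p ≤ E₂ := by
  apply E0_le_of
  intro P hPc
  unfold Opp
  rw [Subgroup.map_le_iff_le_comap, Subgroup.closure_le]
  rintro a ⟨k, hk⟩
  show (a : MulAut P) ∈ E₂.autGroup P
  refine pElt_mem' p hS F hF E₁ E₂ hE₁ hE₂ hPc.1 a.2 (k := k) ?_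
  rw [Subgroup.orderOf_coe]
  exact hk

/-- The residual system of `E₁` lies in `E₂`. -/
theorem resSys_le_normal [Finite S] (p : ℕ) [Fact p.Prime] (hS : IsPGroup p S) (F : FusionSystem S)
    (hF : F.IsSaturated p) (E₁ E₂ : FusionSystem T) (hE₁ : E₁.IsNormalIn F p) (hE₂ : E₂.IsNormalIn F p) :
    resSys E₁ p ≤ E₂ := by
  have hsc : F.StronglyClosed T := hE₁.1.2.2.2.1
  have hTS : T ≤ S := hsc.1
  haveI : Finite T := fs_finite_of_le hTS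
  have hT : IsPGroup p T := hS.to_le hTS
  have hE₁s : E₁.IsSaturated p := hE₁.1.1
  have hE₂s : E₂.IsSaturated p := hE₂.1.1
  have hE₁F : E₁.IsSubsystemOf F := hE₁.1.2.2.1
  have hE₂F : E₂.IsSubsystemOf F := hE₂.1.2.2.1
  have hstr₂ : StrongInv F E₂ := Cfsg.Agent.S5119.strongInv_of_invariant F E₂ hE₂.1.2.2
  have h0 : E0 E₁ p ≤ E₂ := E0_le_normal p hS F hF E₁ E₂ hE₁ hE₂
  have hsub : ∀ α ∈ E₁.autGroup T, α ∈ F.autGroup T := by
    intro α hα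
    rw [mem_autGroup_iff F hTS]
    rw [mem_autGroup_iff E₁ le_rfl] at hα
    exact hE₁F T hα
  have hA1 : ∀ α ∈ E₁.autGroup T, IsIso E₂ (autHom α) E₂ := by
    intro α hα
    exact iso_of_aut E₂ (F.autGroup T) hE₂.1.2.2.2.2.1 (hsub α hα)
  have hnorm : ∀ a ∈ E₁.autGroup T, ∀ b ∈ E₂.autGroup T, a * b * a⁻¹ ∈ E₂.autGroup T := by
    intro a ha b hb
    have haF := (mem_autGroup_iff F hTS a).mp (hsub a ha)
    have hrange : (T.subtype.comp a.toMonoidHom).range = T := by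
      ext z
      constructor
      · rintro ⟨x, rfl⟩
        exact (a x).2
      · intro hz
        refine ⟨a⁻¹ ⟨z, hz⟩, ?_⟩
        show ((a (a⁻¹ ⟨z, hz⟩) : T) : Ω) = z
        rw [MulAut.apply_inv_self]
    refine aut_transport F E₂ hstr₂ le_rfl haF hrange b (a * b * a⁻¹) ?_ hb
    intro x h
    show (((a * b * a⁻¹) (a x) : T) : Ω) = ((a (b x) : T) : Ω)
    rw [MulAut.mul_apply, MulAut.mul_apply, MulAut.inv_apply_self]
  have hfa : E₁.IsFullyAutomized p T := (fs_sylow_axiom p hT E₁ hE₁s (isFullyNormalized_self E₁)).2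
  have hA2 : ∀ α ∈ E₁.autGroup T, α ^ Nat.card T ∈ E₂.autGroup T → α ∈ E₂.autGroup T :=
    fun α hα h => pow_card_mem_imp p hT E₁ E₂ hfa hnorm hα h
  have key : Aut0 E₁ p ≤ E₂.autGroup T := by
    rw [Aut0, Subgroup.closure_le]
    rintro δ ⟨hδ, P, hPc, χ, hχ, Hχ⟩
    have hPT : P ≤ T := hPc.1
    have hPc' : E₂.IsCentric P := centric_transfer F E₁ E₂ hE₂F hE₁.1.2.2.2.2.2 hPc
    refine aut_extend p hT E₂ hE₂s (E₁.autGroup T) hA1 hA2 _ δ hδ P hPT hPc' ?_ rfl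
    have : (autHom δ).comp (Subgroup.inclusion hPT) = χ := by
      ext x
      exact (Hχ x (hPT x.2)).symm
    rw [this]
    exact h0 P hχ
  apply resSys_le_of E₁ p E₂ h0
  intro α hα
  exact (mem_autGroup_iff E₂ le_rfl α).mp (key hα)

end Cfsg.Agent.H9LN
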