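import Mathlib
import Cfsg.Prelude.Def_MonsterType
import Cfsg.Agent.Lib.Helper9.LargeExtra
import Cfsg.Agent.Lib.Helper9.LargeExtra2
import Cfsg.Agent.Lib.Helper9.LargeExtra5
import Cfsg.Agent.Lib.Helper9.LargeExtra6

set_option autoImplicit false
open Cfsg

namespace Cfsg.Agent.Lib.Helper9.LargeExtra

variable {G : Type*} [Group G]

/-- A fixed-point-free involution normalizing a finite subgroup inverts it. -/
theorem inverts_of_fpf [Finite G] (K : Subgroup G) (z : G) (hzz : z * z = 1)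
    (hn : ∀ k ∈ K, z * k * z⁻¹ ∈ K) (hfix : ∀ k ∈ K, z * k = k * z → k = 1) :
    ∀ k ∈ K, z * k * z⁻¹ = k⁻¹ := by
  let f : K → K := fun k => ⟨(k : G)⁻¹ * (z * k * z⁻¹), K.mul_mem (K.inv_mem k.2) (hn k k.2)⟩
  have hinj : Function.Injective f := by
    intro k l hkl
    have h1 : (k : G)⁻¹ * (z * k * z⁻¹) = (l : G)⁻¹ * (z * l * z⁻¹) := congrArg Subtype.val hkl
    have h0 : (l : G) * (k : G)⁻¹ = z * ((l : G) * (k : G)⁻¹) * z⁻¹ := by
      calc (l : G) * (k : G)⁻¹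
          = l * ((k : G)⁻¹ * (z * k * z⁻¹)) * (z * k * z⁻¹)⁻¹ := by group
        _ = l * ((l : G)⁻¹ * (z * l * z⁻¹)) * (z * k * z⁻¹)⁻¹ := by rw [h1]
        _ = z * ((l : G) * (k : G)⁻¹) * z⁻¹ := by group
    have h2 : z * ((l : G) * (k : G)⁻¹) = ((l : G) * (k : G)⁻¹) * z := by
      calc z * ((l : G) * (k : G)⁻¹) = (z * ((l : G) * (k : G)⁻¹) * z⁻¹) * z := by group
        _ = ((l : G) * (k : G)⁻¹) * z := by rw [← h0]
    have h3 := hfix _ (K.mul_mem l.2 (K.inv_mem k.2)) h2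
    apply Subtype.ext
    have : (l : G) = k := by
      calc (l : G) = ((l : G) * (k : G)⁻¹) * k := by group
        _ = k := by rw [h3, one_mul]
    exact this.symm
  have hsurj := Finite.surjective_of_injective hinj
  intro k hk
  obtain ⟨l, hl⟩ := hsurj ⟨k, hk⟩
  have h1 : (l : G)⁻¹ * (z * l * z⁻¹) = k := congrArg Subtype.val hl
  rw [← h1]
  calc z * ((l : G)⁻¹ * (z * l * z⁻¹)) * z⁻¹
      = (z * (l : G)⁻¹ * z⁻¹) * ((z * z) * l * (z * z)⁻¹) := by group
    _ = (z * (l : G)⁻¹ * z⁻¹) * l := by rw [hzz]; group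
    _ = ((l : G)⁻¹ * (z * l * z⁻¹))⁻¹ := by group

theorem eq_one_of_odd_of_two [Finite G] {K P : Subgroup G} (hK : Odd (Nat.card K))
    (hP : IsPGroup 2 P) {x : G} (hxK : x ∈ K) (hxP : x ∈ P) : x = 1 := by
  obtain ⟨n, hn⟩ := hP ⟨x, hxP⟩
  have h1 : x ^ 2 ^ n = 1 := by
    have := congrArg Subtype.val hn
    simpa using this
  have h2 : x ^ Nat.card K = 1 := by
    have h : (⟨x, hxK⟩ : K) ^ Nat.card K = 1 := pow_card_eq_one'
    have h' := congrArg Subtype.val h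
    rw [Subgroup.coe_pow] at h'
    exact h'
  have h3 : orderOf x ∣ Nat.gcd (2 ^ n) (Nat.card K) :=
    Nat.dvd_gcd (orderOf_dvd_of_pow_eq_one h1) (orderOf_dvd_of_pow_eq_one h2)
  have h4 : Nat.gcd (2 ^ n) (Nat.card K) = 1 := by
    apply Nat.Coprime.pow_left
    exact Nat.coprime_two_left.mpr hK
  rw [h4] at h3
  exact orderOf_eq_one_iff.mp (Nat.dvd_one.mp h3)

theorem eq_one_of_sq_of_odd [Finite G] {K : Subgroup G} (hK : Odd (Nat.card K))
    {k : G} (hk : k ∈ K) (h2 : k * k = 1) : k = 1 := by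
  have h1 : k ^ 2 = 1 := by rw [pow_two]; exact h2
  have h2' : k ^ Nat.card K = 1 := by
    have h : (⟨k, hk⟩ : K) ^ Nat.card K = 1 := pow_card_eq_one'
    have h' := congrArg Subtype.val h
    rw [Subgroup.coe_pow] at h'
    exact h'
  have h3 : orderOf k ∣ Nat.gcd 2 (Nat.card K) :=
    Nat.dvd_gcd (orderOf_dvd_of_pow_eq_one h1) (orderOf_dvd_of_pow_eq_one h2')
  have h4 : Nat.gcd 2 (Nat.card K) = 1 := Nat.coprime_two_left.mpr hK
  rw [h4] at h3
  exact orderOf_eq_one_iff.mp (Nat.dvd_one.mp h3)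

/-- If `z` is not weakly closed in `Q`, then `Q` normalizes no nontrivial subgroup of odd order. -/
theorem Core.odd_trivial [Finite G] {Q : Subgroup G} {z : G} (h : Core Q z) (g : G)
    (haQ : g * z * g⁻¹ ∈ Q) (haz : g * z * g⁻¹ ≠ z) (K : Subgroup G) (hK : Odd (Nat.card K))
    (hQK : Q ≤ Subgroup.normalizer (K : Set G)) : K = ⊥ := by
  classical
  have hnorm : ∀ q ∈ Q, ∀ k ∈ K, q * k * q⁻¹ ∈ K := by
    intro q hq k hk
    exact (Subgroup.mem_normalizer_iff.mp (hQK hq) k).mp hk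
  have hfix : ∀ k ∈ K, z * k = k * z → k = 1 := by
    intro k hk hkz
    have hkQ : ∀ q ∈ Q, k * q * k⁻¹ ∈ Q := h.norm k hkz.symm
    have hcomm : ∀ q ∈ Q, k * q = q * k := by
      intro q hq
      have h1 : k * q * k⁻¹ * q⁻¹ ∈ Q := Q.mul_mem (hkQ q hq) (Q.inv_mem hq)
      have h2 : k * q * k⁻¹ * q⁻¹ ∈ K := by
        have : k * q * k⁻¹ * q⁻¹ = k * (q * k⁻¹ * q⁻¹) := by group
        rw [this]
        exact K.mul_mem hk (hnorm q hq _ (K.inv_mem hk))
      have h3 := eq_one_of_odd_of_two hK h.two h2 h1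
      calc k * q = (k * q * k⁻¹ * q⁻¹) * (q * k) := by group
        _ = q * k := by rw [h3, one_mul]
    rcases h.cent k hcomm with h1 | h1
    · exact h1
    · exfalso
      apply h.z_ne
      rw [h1] at hk
      exact eq_one_of_odd_of_two hK h.two hk h.z_mem
  have hinv := inverts_of_fpf K z h.z_sq (hnorm z h.z_mem) hfix
  have habel : ∀ k ∈ K, ∀ l ∈ K, k * l = l * k := by
    intro k hk l hl
    have h1 : z * (k * l) * z⁻¹ = (k * l)⁻¹ := hinv _ (K.mul_mem hk hl)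
    have h2 : z * (k * l) * z⁻¹ = k⁻¹ * l⁻¹ := by
      calc z * (k * l) * z⁻¹ = (z * k * z⁻¹) * (z * l * z⁻¹) := by group
        _ = k⁻¹ * l⁻¹ := by rw [hinv k hk, hinv l hl]
    have h3 : (k * l)⁻¹ = (l * k)⁻¹ := by
      rw [← h1, h2]; group
    exact inv_injective h3
  -- the final step
  have final : ∀ (a' g' : G), a' = g' * z * g'⁻¹ → a' ∈ Q → a' ≠ z →
      ∀ l ∈ K, l * a' = a' * l → l = 1 := by
    intro a' g' ha' ha'Q ha'z l hl hla
    subst ha'
    have hz' := h.z_mem_conj g' ha'Q ha'z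
    have h1 := h.conj_mem_of_comm hla hz'
    have h2 : l * z * l⁻¹ * z⁻¹ ∈ Q.map (MulAut.conj g').toMonoidHom :=
      Subgroup.mul_mem _ h1 (Subgroup.inv_mem _ hz')
    have h3 : l * z * l⁻¹ * z⁻¹ = l * l := by
      calc l * z * l⁻¹ * z⁻¹ = l * (z * l⁻¹ * z⁻¹) := by group
        _ = l * (l⁻¹)⁻¹ := by rw [hinv _ (K.inv_mem hl)]
        _ = l * l := by rw [inv_inv]
    rw [h3] at h2
    have h4 : l * l = 1 :=
      eq_one_of_odd_of_two hK (h.two.map _) (K.mul_mem hl hl) h2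
    exact eq_one_of_sq_of_odd hK hl h4
  by_contra hne
  obtain ⟨k, hk, hk1⟩ : ∃ k ∈ K, k ≠ 1 := by
    by_contra hcon
    push Not at hcon
    apply hne
    rw [Subgroup.eq_bot_iff_forall]
    exact hcon
  obtain ⟨a, ha⟩ : ∃ a, a = g * z * g⁻¹ := ⟨_, rfl⟩
  rw [← ha] at haQ haz
  have ha1 : a ≠ 1 := by
    intro h1
    apply h.z_ne
    calc z = g⁻¹ * a * g := by rw [ha]; group
      _ = 1 := by rw [h1]; group
  have haa : a * a = 1 := by
    rw [ha]
    calc g * z * g⁻¹ * (g * z * g⁻¹) = g * (z * z) * g⁻¹ := by group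
      _ = 1 := by rw [h.z_sq]; group
  have hainv : a⁻¹ = a := inv_eq_of_mul_eq_one_right haa
  obtain ⟨q0, hq0, hq0a⟩ := h.exists_swap haQ ha1 haz
  have hak : a * k * a⁻¹ ∈ K := hnorm a haQ k hk
  -- first candidate
  have hk1' : k * (a * k * a⁻¹) = 1 := by
    apply final a g ha haQ haz _ (K.mul_mem hk hak)
    have e1 : a * (k * (a * k * a⁻¹)) * a⁻¹ = k * (a * k * a⁻¹) := by
      calc a * (k * (a * k * a⁻¹)) * a⁻¹ = (a * k * a⁻¹) * ((a * a) * k * (a * a)⁻¹) := by group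
        _ = (a * k * a⁻¹) * k := by rw [haa]; group
        _ = k * (a * k * a⁻¹) := habel _ hak _ hk
    calc k * (a * k * a⁻¹) * a = (a * (k * (a * k * a⁻¹)) * a⁻¹) * a := by rw [e1]
      _ = a * (k * (a * k * a⁻¹)) := by group
  have hza : z * a = a * z := (h.z_comm a haQ).symm
  have hzaQ : z * a ∈ Q := Q.mul_mem h.z_mem haQ
  have hzaz : z * a ≠ z := by
    intro h1
    apply ha1
    have : z * a = z * 1 := by rw [mul_one]; exact h1
    exact mul_left_cancel this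
  have hza' : z * a = (q0 * g) * z * (q0 * g)⁻¹ := by
    rw [← hq0a, ha]; group
  have hk2' : k * (a * k * a⁻¹)⁻¹ = 1 := by
    apply final (z * a) (q0 * g) hza' hzaQ hzaz _ (K.mul_mem hk (K.inv_mem hak))
    have e0 : (a * k * a⁻¹) * k⁻¹ ∈ K := K.mul_mem hak (K.inv_mem hk)
    have e1 : (z * a) * (k * (a * k * a⁻¹)⁻¹) * (z * a)⁻¹ = k * (a * k * a⁻¹)⁻¹ := by
      calc (z * a) * (k * (a * k * a⁻¹)⁻¹) * (z * a)⁻¹
          = z * ((a * k * a⁻¹) * ((a * a) * k⁻¹ * (a * a)⁻¹)) * z⁻¹ := by group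
        _ = z * ((a * k * a⁻¹) * k⁻¹) * z⁻¹ := by rw [haa]; group
        _ = ((a * k * a⁻¹) * k⁻¹)⁻¹ := hinv _ e0
        _ = k * (a * k * a⁻¹)⁻¹ := by group
    calc k * (a * k * a⁻¹)⁻¹ * (z * a)
        = ((z * a) * (k * (a * k * a⁻¹)⁻¹) * (z * a)⁻¹) * (z * a) := by rw [e1]
      _ = (z * a) * (k * (a * k * a⁻¹)⁻¹) := by group
  apply hk1
  apply eq_one_of_sq_of_odd hK hk
  have e1 : a * k * a⁻¹ = k⁻¹ := by
    calc a * k * a⁻¹ = k⁻¹ * (k * (a * k * a⁻¹)) := by group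
      _ = k⁻¹ := by rw [hk1', mul_one]
  rw [e1, inv_inv] at hk2'
  exact hk2'

/-- A `Core` with squares in the centre in which `z` is not weakly closed is large extraspecial. -/
theorem isLargeExtraspecial_of_core [Finite G] {Q : Subgroup G} {z : G} (h : Core Q z)
    (hsq : ∀ x ∈ Q, x * x = 1 ∨ x * x = z) (g : G) (haQ : g * z * g⁻¹ ∈ Q)
    (haz : g * z * g⁻¹ ≠ z) : IsLargeExtraspecial Q := by
  classical
  obtain ⟨a, ha⟩ : ∃ a, a = g * z * g⁻¹ := ⟨_, rfl⟩
  have ha1 : a ≠ 1 := by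
    intro h1
    apply h.z_ne
    calc z = g⁻¹ * a * g := by rw [ha]; group
      _ = 1 := by rw [h1]; group
  have hZmem : ∀ x, x ∈ (Subgroup.center ↥Q).map Q.subtype ↔ x = 1 ∨ x = z := by
    intro x
    rw [Subgroup.mem_map]
    constructor
    · rintro ⟨y, hy, rfl⟩
      apply h.cent
      intro q hq
      have := (Subgroup.mem_center_iff.mp hy) ⟨q, hq⟩
      exact (congrArg Subtype.val this).symm
    · intro hx
      have hxQ : x ∈ Q := by
        rcases hx with h1 | h1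
        · rw [h1]; exact Q.one_mem
        · rw [h1]; exact h.z_mem
      refine ⟨⟨x, hxQ⟩, ?_, rfl⟩
      rw [Subgroup.mem_center_iff]
      intro q
      apply Subtype.ext
      rcases hx with h1 | h1
      · simp [h1]
      · simp only [Subgroup.coe_mul, h1]
        exact h.z_comm q q.2
  refine ⟨?_, ?_, ?_, ?_⟩
  · apply isExtraspecial_sub h hsq Q le_rfl
    · intro x _ hx
      exact h.cent x hx
    · rw [← ha] at haQ haz
      obtain ⟨q0, hq0, hq0a⟩ := h.exists_swap haQ ha1 haz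
      refine ⟨q0, hq0, a, haQ, ?_⟩
      intro h1
      apply h.z_ne
      have : z * a = 1 * a := by
        rw [one_mul, ← hq0a, h1]; group
      exact mul_right_cancel this
  · ext c
    rw [hZmem, Subgroup.mem_centralizer_iff]
    constructor
    · intro hc
      exact h.cent c (fun q hq => (hc q hq).symm)
    · rintro (h1 | h1)
      · intro q _; rw [h1]; simp
      · intro q hq
        rw [h1]
        exact h.z_comm q hq
  · intro c hc
    have hcz : c * z = z * c :=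
      ((Subgroup.mem_centralizer_iff.mp hc) z ((hZmem z).mpr (Or.inr rfl))).symm
    apply Subgroup.mem_normalizer_fintype
    intro x hx
    exact h.norm c hcz x hx
  · intro K hK hQK
    exact h.odd_trivial g haQ haz K hK hQK

end Cfsg.Agent.Lib.Helper9.LargeExtra
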