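import Mathlib
import Cfsg.Prelude.Def_MonsterType
import Cfsg.Agent.Lib.Helper9.LargeExtra
import Cfsg.Agent.Lib.Helper9.LargeExtra10
import Cfsg.Agent.Lib.Helper9.TT9i
import Cfsg.Agent.Lib.Lead.Nilpotent
import Cfsg.Agent.Lib.Lead.Core
import Cfsg.Agent.Lib.Helper3.Components12

/-!
# Large extraspecial subgroups: invariant subgroups contain the central involution
-/

set_option autoImplicit false
open Cfsg Cfsg.Agent.Lib.Helper9.LargeExtra Cfsg.Agent.Lib.Helper3

namespace Cfsg.Agent.H9LX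

variable {G : Type*} [Group G]

/-- `Q` normalizes no nontrivial subgroup of odd order -/
def NoOdd (Q : Subgroup G) : Prop :=
  ∀ K : Subgroup G, Odd (Nat.card K) → Q ≤ Subgroup.normalizer (K : Set G) → K = ⊥

/-- a `Q`-invariant subgroup not containing `z` meets `Q` trivially -/
theorem inf_Q_trivial [Finite G] {Q : Subgroup G} {z : G} (h : Core Q z) (N : Subgroup G)
    (hQN : Q ≤ Subgroup.normalizer (N : Set G)) (hz : z ∉ N) :
    ∀ x ∈ N, x ∈ Q → x = 1 := by
  classical
  haveI : Fact (Nat.Prime 2) := ⟨Nat.prime_two⟩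
  haveI : Group.IsNilpotent ↥Q := h.two.isNilpotent
  by_contra hcon
  push Not at hcon
  obtain ⟨x, hxN, hxQ, hx1⟩ := hcon
  haveI hAn : (N.subgroupOf Q).Normal := by
    constructor
    intro n hn q
    rw [Subgroup.mem_subgroupOf] at hn ⊢
    have := (Subgroup.mem_normalizer_iff.mp (hQN q.2) (n : G)).mp hn
    simpa using this
  have hAne : N.subgroupOf Q ≠ ⊥ := by
    intro hb
    have : (⟨x, hxQ⟩ : ↥Q) ∈ N.subgroupOf Q := by
      rw [Subgroup.mem_subgroupOf]; exact hxN
    rw [hb, Subgroup.mem_bot] at this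
    exact hx1 (congrArg Subtype.val this)
  have hcen := Cfsg.Agent.Lib.Lead.inf_center_ne_bot (N.subgroupOf Q) hAne
  obtain ⟨⟨c, hcmem⟩, hc1⟩ := (Subgroup.ne_bot_iff_exists_ne_one).mp hcen
  rw [Subgroup.mem_inf] at hcmem
  have hcN : (c : G) ∈ N := by
    have := hcmem.1
    rwa [Subgroup.mem_subgroupOf] at this
  have hccen : ∀ q ∈ Q, (c : G) * q = q * (c : G) := by
    intro q hq
    have := hcmem.2
    rw [Subgroup.mem_center_iff] at this
    have h2 := congrArg Subtype.val (this ⟨q, hq⟩)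
    simpa using h2.symm
  have hc1' : (c : G) ≠ 1 := by
    intro h1
    apply hc1
    apply Subtype.ext
    apply Subtype.ext
    simpa using h1
  rcases h.cent (c : G) hccen with h1 | h1
  · exact hc1' h1
  · exact hz (h1 ▸ hcN)

/-- a `Q`-invariant subgroup not containing `z` has no nontrivial element commuting with `z` -/
theorem fpf_of_not_mem [Finite G] {Q : Subgroup G} {z : G} (h : Core Q z) (N : Subgroup G)
    (hQN : Q ≤ Subgroup.normalizer (N : Set G)) (hz : z ∉ N) :
    ∀ k ∈ N, z * k = k * z → k = 1 := by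
  intro k hk hkz
  have hkQ : ∀ q ∈ Q, k * q * k⁻¹ ∈ Q := h.norm k hkz.symm
  have hcomm : ∀ q ∈ Q, k * q = q * k := by
    intro q hq
    have h1 : k * q * k⁻¹ * q⁻¹ ∈ Q := Q.mul_mem (hkQ q hq) (Q.inv_mem hq)
    have h2 : k * q * k⁻¹ * q⁻¹ ∈ N := by
      have : k * q * k⁻¹ * q⁻¹ = k * (q * k⁻¹ * q⁻¹) := by group
      rw [this]
      exact N.mul_mem hk ((Subgroup.mem_normalizer_iff.mp (hQN hq) _).mp (N.inv_mem hk))
    have h3 := inf_Q_trivial h N hQN hz _ h2 h1
    calc k * q = (k * q * k⁻¹ * q⁻¹) * (q * k) := by group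
      _ = q * k := by rw [h3, one_mul]
  rcases h.cent k hcomm with h1 | h1
  · exact h1
  · exact absurd (h1 ▸ hk) hz

/-- every nontrivial `Q`-invariant subgroup contains `z` -/
theorem z_mem_of_inv [Finite G] {Q : Subgroup G} {z : G} (h : Core Q z) (hodd : NoOdd Q)
    (N : Subgroup G) (hQN : Q ≤ Subgroup.normalizer (N : Set G)) (hN : N ≠ ⊥) : z ∈ N := by
  classical
  by_contra hz
  have hfix := fpf_of_not_mem h N hQN hz
  have hzn : ∀ k ∈ N, z * k * z⁻¹ ∈ N := fun k hk =>
    (Subgroup.mem_normalizer_iff.mp (hQN h.z_mem) k).mp hk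
  have hinv := inverts_of_fpf N z h.z_sq hzn hfix
  apply hN
  apply hodd N _ hQN
  rw [← Nat.not_even_iff_odd]
  intro heven
  obtain ⟨t, ht⟩ := exists_prime_orderOf_dvd_card' (G := ↥N) 2 heven.two_dvd
  have htt : (t : G) * (t : G) = 1 := by
    have : t ^ 2 = 1 := by rw [← ht]; exact pow_orderOf_eq_one t
    have h2 := congrArg Subtype.val this
    simpa [pow_two] using h2
  have h1 := hinv (t : G) t.2
  have h2 : (t : G)⁻¹ = t := inv_eq_of_mul_eq_one_right htt
  rw [h2] at h1
  have h3 : z * (t : G) = (t : G) * z := by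
    calc z * (t : G) = (z * (t : G) * z⁻¹) * z := by group
      _ = (t : G) * z := by rw [h1]
  have h4 := hfix (t : G) t.2 h3
  have : t = 1 := Subtype.ext h4
  rw [this, orderOf_one] at ht
  omega

/-- no component of `G` centralizes `z` -/
theorem not_le_centralizer_of_isComponent [Finite G] {Q : Subgroup G} {z : G} (h : Core Q z)
    {K : Subgroup G} (hK : Cfsg.IsComponent K) : ¬ K ≤ Subgroup.centralizer ({z} : Set G) := by
  classical
  haveI : Fact (Nat.Prime 2) := ⟨Nat.prime_two⟩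
  intro hKC
  set C : Subgroup G := Subgroup.centralizer ({z} : Set G) with hC
  have hmemC : ∀ c, c ∈ C ↔ c * z = z * c := by
    intro c
    rw [hC, Subgroup.mem_centralizer_iff]
    constructor
    · intro h1; exact (h1 z rfl).symm
    · intro h1 x hx
      rw [Set.mem_singleton_iff] at hx
      rw [hx]; exact h1.symm
  have hQC : Q ≤ C := fun q hq => (hmemC q).mpr (h.z_comm q hq)
  have hK' : Cfsg.IsComponent (K.subgroupOf C) := IsComponent.subgroupOf hK hKC
  have h1 := IsComponent.commutator_fittingSubgroup hK'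
  haveI hQn : (Q.subgroupOf C).Normal := by
    constructor
    intro n hn c
    rw [Subgroup.mem_subgroupOf] at hn ⊢
    have := h.norm (c : G) ((hmemC c).mp c.2) (n : G) hn
    simpa using this
  have hQp : IsPGroup 2 (Q.subgroupOf C) := h.two.comap_subtype
  have h2 : Q.subgroupOf C ≤ Cfsg.fittingSubgroup ↥C :=
    (Cfsg.Agent.Lib.Lead.le_pCore hQn hQp).trans (Cfsg.Agent.H9TT.pCore_le_fittingSubgroup 2)
  rw [Subgroup.commutator_eq_bot_iff_le_centralizer] at h1
  have hcomm : ∀ k ∈ K, ∀ q ∈ Q, k * q = q * k := by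
    intro k hk q hq
    have hk' : (⟨k, hKC hk⟩ : ↥C) ∈ K.subgroupOf C := by
      rw [Subgroup.mem_subgroupOf]; exact hk
    have h3 := h1 hk'
    rw [Subgroup.mem_centralizer_iff] at h3
    have hq' : (⟨q, hQC hq⟩ : ↥C) ∈ Cfsg.fittingSubgroup ↥C := h2 (by
      rw [Subgroup.mem_subgroupOf]; exact hq)
    have h4 := congrArg Subtype.val (h3 _ hq')
    simpa using h4.symm
  have hKz : ∀ k ∈ K, k = 1 ∨ k = z := fun k hk => h.cent k (hcomm k hk)
  apply IsQuasisimple.not_isMulCommutative hK.2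
  constructor
  constructor
  intro a b
  apply Subtype.ext
  show (a : G) * (b : G) = (b : G) * (a : G)
  rcases hKz a a.2 with ha | ha <;> rcases hKz b b.2 with hb | hb <;> rw [ha, hb] <;> simp

/-- the Fitting subgroup is `O_2(G)` -/
theorem fitting_eq_pCore [Finite G] {Q : Subgroup G} (hodd : NoOdd Q) :
    Cfsg.fittingSubgroup G = Cfsg.pCore 2 G := by
  classical
  rw [Cfsg.Agent.Lib.Lead.fittingSubgroup_eq_iSup_pCore]
  apply le_antisymm
  · apply iSup_le
    intro p
    by_cases hp : (p : ℕ) = 2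
    · rw [hp]
    · have hpn : (Cfsg.pCore (p : ℕ) G).Normal := Cfsg.Agent.Lib.Lead.pCore_normal _
      have hpp : IsPGroup (p : ℕ) (Cfsg.pCore (p : ℕ) G) := Cfsg.Agent.Lib.Lead.pCore_isPGroup _
      haveI : Fact (p : ℕ).Prime := ⟨p.2⟩
      obtain ⟨k, hk⟩ := IsPGroup.iff_card.mp hpp
      have hoddc : Odd (Nat.card (Cfsg.pCore (p : ℕ) G)) := by
        rw [hk]
        apply Odd.pow
        exact p.2.odd_of_ne_two hp
      have := hodd _ hoddc (by rw [Subgroup.normalizer_eq_top]; exact le_top)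
      rw [this]
      exact bot_le
  · exact le_iSup (fun p : Nat.Primes => Cfsg.pCore (p : ℕ) G) ⟨2, Nat.prime_two⟩

end Cfsg.Agent.H9LX
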