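import Mathlib
import Cfsg.Agent.Lib.Helper9.LX1
import Cfsg.Agent.Lib.Helper7.Conj
import Cfsg.Agent.Lib.Helper3.Components7
import Cfsg.Agent.Lib.Helper3.Components9
import Cfsg.Agent.Lib.Lead.CycSyl3

/-!
# Large extraspecial subgroups: case `O_2(G) ≠ 1` and the set-up for `O_2(G) = 1`
-/

set_option autoImplicit false
open Cfsg Cfsg.Agent.Lib.Helper9.LargeExtra Cfsg.Agent.Lib.Helper3 Cfsg.Agent.Lib.Helper7
open scoped commutatorElement

namespace Cfsg.Agent.H9LX

variable {G : Type*} [Group G]

/-- Case `O_2(G) ≠ 1`. -/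
theorem caseA [Finite G] {Q : Subgroup G} {z : G} (h : Core Q z) (hodd : NoOdd Q)
    (hO : Cfsg.pCore 2 G ≠ ⊥) :
    IsMulCommutative ↥(Subgroup.normalClosure ({z} : Set G)) ∧
      Cfsg.generalizedFittingSubgroup G = Cfsg.pCore 2 G := by
  classical
  haveI : Fact (Nat.Prime 2) := ⟨Nat.prime_two⟩
  set O := Cfsg.pCore 2 G with hOdef
  haveI hOn : O.Normal := Cfsg.Agent.Lib.Lead.pCore_normal 2
  have hOp : IsPGroup 2 O := Cfsg.Agent.Lib.Lead.pCore_isPGroup 2
  set Zo : Subgroup G := O ⊓ Subgroup.centralizer (O : Set G) with hZo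
  haveI hZn : Zo.Normal := Subgroup.normal_inf_normal _ _
  have hZne : Zo ≠ ⊥ := by
    haveI : Nontrivial ↥O := by
      rw [← Subgroup.nontrivial_iff_ne_bot] at hO
      exact hO
    have h1 := hOp.bot_lt_center
    obtain ⟨c, hc1⟩ := (Subgroup.ne_bot_iff_exists_ne_one).mp h1.ne'
    intro hb
    have h2 : ((c : ↥O) : G) ∈ Zo := by
      refine Subgroup.mem_inf.mpr ⟨(c : ↥O).2, ?_⟩
      rw [Subgroup.mem_centralizer_iff]
      intro y hy
      have h3 := Subgroup.mem_center_iff.mp c.2 ⟨y, hy⟩
      have h4 := congrArg Subtype.val h3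
      simpa using h4
    rw [hb, Subgroup.mem_bot] at h2
    apply hc1
    apply Subtype.ext
    apply Subtype.ext
    simpa using h2
  have hzZo : z ∈ Zo := z_mem_of_inv h hodd Zo
    (by rw [Subgroup.normalizer_eq_top]; exact le_top) hZne
  have hML : Subgroup.normalClosure ({z} : Set G) ≤ Zo :=
    Subgroup.normalClosure_le_normal (by rw [Set.singleton_subset_iff]; exact hzZo)
  refine ⟨?_, ?_⟩
  · constructor
    constructor
    intro a b
    apply Subtype.ext
    show (a : G) * (b : G) = (b : G) * (a : G)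
    have ha := hML a.2
    have hb := hML b.2
    have := (Subgroup.mem_centralizer_iff.mp hb.2) (a : G) ha.1
    exact this
  · have hfit : Cfsg.fittingSubgroup G = O := fitting_eq_pCore hodd
    have hlay : Cfsg.layer G = ⊥ := by
      rw [layer_eq_bot_iff]
      intro K hK
      apply not_le_centralizer_of_isComponent h hK
      have h1 := IsComponent.commutator_fittingSubgroup hK
      rw [Subgroup.commutator_eq_bot_iff_le_centralizer] at h1
      intro k hk
      rw [Subgroup.mem_centralizer_iff]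
      intro y hy
      rw [Set.mem_singleton_iff] at hy
      rw [hy]
      have h2 := h1 hk
      rw [Subgroup.mem_centralizer_iff] at h2
      exact h2 z (by rw [hfit]; exact hzZo.1)
    show Cfsg.layer G ⊔ Cfsg.fittingSubgroup G = O
    rw [hlay, hfit, bot_sup_eq]

/-- The context of the case `O_2(G) = 1`. -/
structure Ctx (Q : Subgroup G) (z : G) : Prop where
  core : Core Q z
  odd : NoOdd Q
  sq : ∀ x ∈ Q, x * x = 1 ∨ x * x = z
  fit : Cfsg.fittingSubgroup G = ⊥

theorem ctx_of [Finite G] {Q : Subgroup G} {z : G} (h : Core Q z) (hodd : NoOdd Q)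
    (hsq : ∀ x ∈ Q, x * x = 1 ∨ x * x = z) (hO : Cfsg.pCore 2 G = ⊥) : Ctx Q z :=
  ⟨h, hodd, hsq, by rw [fitting_eq_pCore hodd, hO]⟩

namespace Ctx

variable {Q : Subgroup G} {z : G}

theorem gfit (c : Ctx Q z) : Cfsg.generalizedFittingSubgroup G = Cfsg.layer G := by
  show Cfsg.layer G ⊔ Cfsg.fittingSubgroup G = Cfsg.layer G
  rw [c.fit, sup_bot_eq]

theorem layer_ne_bot [Finite G] (c : Ctx Q z) : Cfsg.layer G ≠ ⊥ := by
  intro hb
  have h1 := centralizer_generalizedFittingSubgroup_le (G := G)
  rw [c.gfit, hb] at h1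
  have : z ∈ Subgroup.centralizer (((⊥ : Subgroup G) : Set G)) := by
    rw [Subgroup.mem_centralizer_iff]
    intro y hy
    have : y = 1 := hy
    rw [this]; simp
  have h2 := h1 this
  rw [Subgroup.mem_bot] at h2
  exact c.core.z_ne h2

theorem z_mem_layer [Finite G] (c : Ctx Q z) : z ∈ Cfsg.layer G :=
  z_mem_of_inv c.core c.odd _ (by rw [Subgroup.normalizer_eq_top]; exact le_top) c.layer_ne_bot

theorem exists_comp [Finite G] (c : Ctx Q z) : ∃ L : Subgroup G, Cfsg.IsComponent L := by
  by_contra hcon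
  push Not at hcon
  exact c.layer_ne_bot (layer_eq_bot_iff.mpr hcon)

theorem comp_simple [Finite G] (c : Ctx Q z) {L : Subgroup G} (hL : Cfsg.IsComponent L) :
    IsSimpleGroup ↥L ∧ ¬ IsMulCommutative ↥L :=
  Cfsg.Agent.Lib.Lead.CycSyl.component_simple hL
    (Cfsg.Agent.Lib.Lead.CycSyl.component_center_eq_bot c.fit hL)

/-- a component meets its centralizer trivially -/
theorem comp_cent [Finite G] (c : Ctx Q z) {L : Subgroup G} (hL : Cfsg.IsComponent L)
    {x : G} (hx : x ∈ L) (hc : ∀ y ∈ L, x * y = y * x) : x = 1 := by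
  have h1 := Cfsg.Agent.Lib.Lead.CycSyl.component_center_eq_bot c.fit hL
  have h2 : (⟨x, hx⟩ : ↥L) ∈ Subgroup.center ↥L := by
    rw [Subgroup.mem_center_iff]
    intro y
    apply Subtype.ext
    exact (hc y y.2).symm
  rw [h1, Subgroup.mem_bot] at h2
  exact congrArg Subtype.val h2

theorem comp_commute {K L : Subgroup G} (hK : Cfsg.IsComponent K) (hL : Cfsg.IsComponent L)
    (hne : K ≠ L) : ∀ x ∈ K, ∀ y ∈ L, x * y = y * x := by
  have h1 := IsComponent.commutator_eq_bot_of_ne hK hL hne
  rw [Subgroup.commutator_eq_bot_iff_le_centralizer] at h1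
  intro x hx y hy
  have := h1 hx
  rw [Subgroup.mem_centralizer_iff] at this
  exact (this y hy).symm

/-- uniqueness of the decomposition `L × C(L)` -/
theorem decomp_unique [Finite G] (c : Ctx Q z) {L : Subgroup G} (hL : Cfsg.IsComponent L)
    {a a' b b' : G} (ha : a ∈ L) (ha' : a' ∈ L) (hb : ∀ y ∈ L, b * y = y * b)
    (hb' : ∀ y ∈ L, b' * y = y * b') (he : a * b = a' * b') : a = a' ∧ b = b' := by
  have h1 : a'⁻¹ * a = b' * b⁻¹ := by
    calc a'⁻¹ * a = a'⁻¹ * (a * b) * b⁻¹ := by group
      _ = a'⁻¹ * (a' * b') * b⁻¹ := by rw [he]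
      _ = b' * b⁻¹ := by group
  have h2 : a'⁻¹ * a = 1 := by
    apply c.comp_cent hL (L.mul_mem (L.inv_mem ha') ha)
    intro y hy
    rw [h1]
    have hbi : b⁻¹ * y = y * b⁻¹ := by
      have := hb y hy
      calc b⁻¹ * y = b⁻¹ * (y * b) * b⁻¹ := by group
        _ = b⁻¹ * (b * y) * b⁻¹ := by rw [this]
        _ = y * b⁻¹ := by group
    calc b' * b⁻¹ * y = b' * (b⁻¹ * y) := by group
      _ = b' * (y * b⁻¹) := by rw [hbi]
      _ = (b' * y) * b⁻¹ := by group
      _ = (y * b') * b⁻¹ := by rw [hb' y hy]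
      _ = y * (b' * b⁻¹) := by group
  have e1 : a = a' := by
    calc a = a' * (a'⁻¹ * a) := by group
      _ = a' := by rw [h2, mul_one]
  refine ⟨e1, ?_⟩
  rw [e1] at he
  exact mul_left_cancel he

/-- decomposition of `z` along a component -/
theorem exists_decomp [Finite G] (c : Ctx Q z) {L : Subgroup G} (hL : Cfsg.IsComponent L) :
    ∃ a ∈ L, ∃ b : G, (∀ y ∈ L, b * y = y * b) ∧ z = a * b := by
  have h1 := layer_eq_centralizer_sup_commutator (G := G) L
  have h2 : ⁅Cfsg.layer G, L⁆ ≤ L := by
    rw [Subgroup.commutator_le]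
    intro e he l hl
    have hn := IsComponent.layer_le_normalizer hL he
    have : ⁅e, l⁆ = (e * l * e⁻¹) * l⁻¹ := by rw [commutatorElement_def]
    rw [this]
    exact L.mul_mem ((Subgroup.mem_normalizer_iff.mp hn l).mp hl) (L.inv_mem hl)
  have hz : z ∈ L ⊔ (Cfsg.layer G ⊓ Subgroup.centralizer (L : Set G)) := by
    have := c.z_mem_layer
    rw [h1] at this
    rw [sup_comm]
    exact (sup_le_sup_left h2 _) this
  have hcomm : ∀ y ∈ L, ∀ w ∈ Cfsg.layer G ⊓ Subgroup.centralizer (L : Set G), y * w = w * y := by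
    intro y hy w hw
    exact (Subgroup.mem_centralizer_iff.mp hw.2) y hy
  obtain ⟨a, ha, b, hb, he⟩ := Cfsg.Agent.Lib.Lead.mem_sup_of_commute _ _ hcomm hz
  refine ⟨a, ha, b, ?_, he⟩
  intro y hy
  exact (hcomm y hy b hb).symm

/-- the `L`-part of `z` is nontrivial -/
theorem decomp_ne_one [Finite G] (c : Ctx Q z) {L : Subgroup G} (hL : Cfsg.IsComponent L)
    {a b : G} (hb : ∀ y ∈ L, b * y = y * b) (hz : z = a * b) : a ≠ 1 := by
  intro ha
  apply not_le_centralizer_of_isComponent c.core hL
  intro y hy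
  rw [Subgroup.mem_centralizer_iff]
  intro w hw
  rw [Set.mem_singleton_iff] at hw
  rw [hw, hz, ha, one_mul]
  exact hb y hy

/-- both parts of `z` are involutions -/
theorem decomp_sq [Finite G] (c : Ctx Q z) {L : Subgroup G} (hL : Cfsg.IsComponent L)
    {a b : G} (ha : a ∈ L) (hb : ∀ y ∈ L, b * y = y * b) (hz : z = a * b) :
    a * a = 1 ∧ b * b = 1 := by
  have h1 : (a * a) * (b * b) = 1 * 1 := by
    have := c.core.z_sq
    rw [hz] at this
    rw [one_mul]
    calc (a * a) * (b * b) = a * (a * b) * b := by group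
      _ = a * (b * a) * b := by rw [hb a ha]
      _ = (a * b) * (a * b) := by group
      _ = 1 := this
  have hbb : ∀ y ∈ L, (b * b) * y = y * (b * b) := by
    intro y hy
    calc (b * b) * y = b * (b * y) := by group
      _ = b * (y * b) := by rw [hb y hy]
      _ = (b * y) * b := by group
      _ = (y * b) * b := by rw [hb y hy]
      _ = y * (b * b) := by group
  exact c.decomp_unique hL (L.mul_mem ha ha) L.one_mem hbb (fun y _ => by simp) h1

/-- commuting with `z` versus commuting with `a`, for elements of `L` -/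
theorem comm_a_iff [Finite G] (c : Ctx Q z) {L : Subgroup G}
    {a b : G} (hb : ∀ y ∈ L, b * y = y * b) (hz : z = a * b) {x : G} (hx : x ∈ L) :
    x * z = z * x ↔ x * a = a * x := by
  rw [hz]
  constructor
  · intro h1
    have h2 : x * a * b = a * x * b := by
      calc x * a * b = x * (a * b) := by group
        _ = a * b * x := h1
        _ = a * (b * x) := by group
        _ = a * (x * b) := by rw [hb x hx]
        _ = a * x * b := by group
    exact mul_right_cancel h2
  · intro h1
    calc x * (a * b) = (x * a) * b := by group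
      _ = (a * x) * b := by rw [h1]
      _ = a * (x * b) := by group
      _ = a * (b * x) := by rw [hb x hx]
      _ = a * b * x := by group

/-- the normal closure of `z` is the layer -/
theorem normalClosure_eq_layer [Finite G] (c : Ctx Q z) :
    Subgroup.normalClosure ({z} : Set G) = Cfsg.layer G := by
  apply le_antisymm
  · exact Subgroup.normalClosure_le_normal (by rw [Set.singleton_subset_iff]; exact c.z_mem_layer)
  · rw [layer_le_iff]
    intro K hK
    have hMn : (Subgroup.normalClosure ({z} : Set G)).IsSubnormal :=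
      Subgroup.Normal.isSubnormal inferInstance
    rcases IsComponent.le_or_commutator_eq_bot_of_isSubnormal hK hMn with h1 | h1
    · exact h1
    · exfalso
      apply not_le_centralizer_of_isComponent c.core hK
      rw [Subgroup.commutator_eq_bot_iff_le_centralizer] at h1
      intro k hk
      have h2 := h1 hk
      rw [Subgroup.mem_centralizer_iff] at h2 ⊢
      intro y hy
      rw [Set.mem_singleton_iff] at hy
      rw [hy]
      exact h2 z (Subgroup.subset_normalClosure (Set.mem_singleton z))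

/-- conjugation by the square of an element of `Q` fixes each component -/
theorem cj_sq [Finite G] (c : Ctx Q z) {L : Subgroup G} (hL : Cfsg.IsComponent L)
    {q : G} (hq : q ∈ Q) : cj (q * q) L = L := by
  rcases c.sq q hq with h1 | h1
  · rw [h1, cj_one]
  · rw [h1]
    exact mem_normalizer_iff_cj.mp (IsComponent.layer_le_normalizer hL c.z_mem_layer)

theorem cj_cj_self [Finite G] (c : Ctx Q z) {L : Subgroup G} (hL : Cfsg.IsComponent L)
    {q : G} (hq : q ∈ Q) : cj q (cj q L) = L := by
  rw [← cj_mul, c.cj_sq hL hq]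

theorem cj_isComponent {L : Subgroup G} (hL : Cfsg.IsComponent L) (g : G) :
    Cfsg.IsComponent (cj g L) := IsComponent.map_conj hL g

theorem mem_cj_conj {L : Subgroup G} {g x : G} (hx : x ∈ L) : g * x * g⁻¹ ∈ cj g L :=
  ⟨x, hx, rfl⟩

end Ctx

end Cfsg.Agent.H9LX
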