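import Mathlib
import Cfsg.Agent.Lib.Helper7.TwoMod4A

/-!
# A nonabelian simple group has no involution with centralizer of order two
-/

set_option autoImplicit false

namespace Cfsg.Agent.H9LX

theorem no_selfcent_invol {X : Type*} [Group X] [Finite X] [IsSimpleGroup X]
    (hna : ¬ IsMulCommutative X) (a : X) (ha1 : a ≠ 1) (haa : a * a = 1)
    (hc : ∀ x : X, x * a = a * x → x = 1 ∨ x = a) : False := by
  classical
  haveI : Fact (Nat.Prime 2) := ⟨Nat.prime_two⟩
  have hord : orderOf a = 2 := by
    apply orderOf_eq_prime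
    · rw [pow_two]; exact haa
    · exact ha1
  have hap : IsPGroup 2 (Subgroup.zpowers a) := by
    apply IsPGroup.of_card (n := 1)
    rw [Nat.card_zpowers, hord, pow_one]
  obtain ⟨S, hS⟩ := hap.exists_le_sylow
  have haS : a ∈ (S : Subgroup X) := hS (Subgroup.mem_zpowers a)
  haveI : Nontrivial ↥(S : Subgroup X) := ⟨⟨⟨a, haS⟩, 1, fun h => ha1 (congrArg Subtype.val h)⟩⟩
  have h1 := S.isPGroup'.bot_lt_center
  obtain ⟨c, hc1⟩ := (Subgroup.ne_bot_iff_exists_ne_one).mp h1.ne'
  have hca : ((c : ↥(S : Subgroup X)) : X) = a := by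
    have h2 := Subgroup.mem_center_iff.mp c.2 ⟨a, haS⟩
    have h3 : ((c : ↥(S : Subgroup X)) : X) * a = a * ((c : ↥(S : Subgroup X)) : X) := by
      have := congrArg Subtype.val h2
      simpa using this.symm
    rcases hc _ h3 with h4 | h4
    · exfalso
      apply hc1
      apply Subtype.ext
      apply Subtype.ext
      simpa using h4
    · exact h4
  have hSmem : ∀ s ∈ (S : Subgroup X), s = 1 ∨ s = a := by
    intro s hs
    apply hc
    have h2 := Subgroup.mem_center_iff.mp c.2 ⟨s, hs⟩
    have := congrArg Subtype.val h2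
    rw [← hca]
    simpa using this
  have hScard : Nat.card (S : Subgroup X) = 2 := by
    rw [Nat.card_eq_two_iff]
    refine ⟨1, ⟨a, haS⟩, fun h => ha1 (congrArg Subtype.val h).symm, ?_⟩
    ext s
    simp only [Set.mem_insert_iff, Set.mem_singleton_iff, Set.mem_univ, iff_true]
    rcases hSmem s s.2 with h2 | h2
    · left; exact Subtype.ext h2
    · right; exact Subtype.ext h2
  have hfac : (Nat.card X).factorization 2 = 1 := by
    have := S.card_eq_multiplicity
    rw [hScard] at this
    have h2 : (2 : ℕ) ^ 1 = 2 ^ (Nat.card X).factorization 2 := by rw [pow_one]; exact this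
    exact (Nat.pow_right_injective (le_refl 2) h2).symm
  have hcard : Nat.card X = 2 * (Nat.card X / 2) := by
    have := Nat.ordProj_mul_ordCompl_eq_self (Nat.card X) 2
    rw [hfac, pow_one] at this
    exact this.symm
  have hodd : Odd (Nat.card X / 2) := by
    have := Nat.not_dvd_ordCompl Nat.prime_two (Nat.card_pos (α := X)).ne'
    rw [hfac, pow_one] at this
    rw [← Nat.not_even_iff_odd]
    intro he
    exact this he.two_dvd
  obtain ⟨K, hKn, hKi, -, -⟩ := Cfsg.Agent.Lib.Helper7.TwoMod4.exists_index_two_of_card hodd hcard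
  rcases hKn.eq_bot_or_eq_top with h2 | h2
  · rw [h2, Subgroup.index_bot] at hKi
    haveI : Fact (Nat.card X).Prime := ⟨by rw [hKi]; exact Nat.prime_two⟩
    have hcyc : IsCyclic X := isCyclic_of_prime_card (p := Nat.card X) rfl
    exact hna hcyc.commutative
  · rw [h2, Subgroup.index_top] at hKi
    omega

end Cfsg.Agent.H9LX
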