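import Mathlib
import Cfsg.Agent.Lib.Helper9.LX2
import Cfsg.Agent.Lib.Helper9.LX3

/-!
# Large extraspecial subgroups, `O_2(G) = 1`: one component, and at least three components
-/

set_option autoImplicit false
open Cfsg Cfsg.Agent.Lib.Helper9.LargeExtra Cfsg.Agent.Lib.Helper3 Cfsg.Agent.Lib.Helper7

namespace Cfsg.Agent.H9LX

variable {G : Type*} [Group G]

namespace Ctx

variable {Q : Subgroup G} {z : G}

/-- if `Q` normalizes the component `L` then `L` is the layer -/
theorem layer_eq_of_le_normalizer [Finite G] (c : Ctx Q z) {L : Subgroup G}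
    (hL : Cfsg.IsComponent L) (hQL : Q ≤ Subgroup.normalizer (L : Set G)) :
    Cfsg.layer G = L := by
  have hzL : z ∈ L := z_mem_of_inv c.core c.odd L hQL (IsQuasisimple.ne_bot hL.2)
  apply le_antisymm
  · rw [layer_le_iff]
    intro K hK
    by_cases hKL : K = L
    · rw [hKL]
    · exfalso
      apply not_le_centralizer_of_isComponent c.core hK
      intro k hk
      rw [Subgroup.mem_centralizer_iff]
      intro y hy
      rw [Set.mem_singleton_iff] at hy
      rw [hy]
      exact (comp_commute hK hL hKL k hk z hzL).symm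
  · exact IsComponent.le_layer hL

/-- the centralizer in `L` of the `L`-part of `z` is not `{1, a}` -/
theorem not_selfcent [Finite G] (c : Ctx Q z) {L : Subgroup G} (hL : Cfsg.IsComponent L)
    {a b : G} (ha : a ∈ L) (hb : ∀ y ∈ L, b * y = y * b) (hz : z = a * b)
    (hc : ∀ x ∈ L, x * a = a * x → x = 1 ∨ x = a) : False := by
  obtain ⟨hs, hna⟩ := c.comp_simple hL
  haveI := hs
  have ha1 := c.decomp_ne_one hL hb hz
  have haa := (c.decomp_sq hL ha hb hz).1
  apply no_selfcent_invol (X := ↥L) hna ⟨a, ha⟩ (fun h => ha1 (congrArg Subtype.val h))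
    (Subtype.ext haa)
  intro x hx
  have hx' : (x : G) * a = a * (x : G) := congrArg Subtype.val hx
  rcases hc (x : G) x.2 hx' with h1 | h1
  · left; exact Subtype.ext h1
  · right; exact Subtype.ext h1

/-- `Q` does not move a component to three different places -/
theorem false_of_three [Finite G] (c : Ctx Q z) {L : Subgroup G} (hL : Cfsg.IsComponent L)
    {u r : G} (hu : u ∈ Q) (hr : r ∈ Q) (hne : cj u L ≠ L) (hrL : cj r L ≠ L)
    (hru : cj r L ≠ cj u L) : False := by
  obtain ⟨a, ha, b, hb, hz⟩ := c.exists_decomp hL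
  apply c.not_selfcent hL ha hb hz
  intro x hx hxa
  have hxz : x * z = z * x := (c.comm_a_iff hb hz hx).mpr hxa
  have hxQ : ∀ q ∈ Q, x * q * x⁻¹ ∈ Q := c.core.norm x hxz
  -- the element `cc`
  have hccQ : (u * x * u⁻¹) * x⁻¹ ∈ Q := by
    have : (u * x * u⁻¹) * x⁻¹ = u * (x * u⁻¹ * x⁻¹) := by group
    rw [this]
    exact Q.mul_mem hu (hxQ _ (Q.inv_mem hu))
  -- third position
  have hruL : cj (r * u) L ≠ L := by
    intro h1
    rw [cj_mul] at h1
    have h2 : cj r (cj r (cj u L)) = cj r L := by rw [h1]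
    rw [c.cj_cj_self (cj_isComponent hL u) hr] at h2
    exact hru h2.symm
  have hA : ∀ y ∈ L, ((r * u) * x * (r * u)⁻¹) * y = y * ((r * u) * x * (r * u)⁻¹) :=
    fun y hy => comp_commute (cj_isComponent hL (r * u)) hL hruL _ (mem_cj_conj hx) y hy
  have hB : ∀ y ∈ L, (r * x⁻¹ * r⁻¹) * y = y * (r * x⁻¹ * r⁻¹) :=
    fun y hy => comp_commute (cj_isComponent hL r) hL hrL _ (mem_cj_conj (L.inv_mem hx)) y hy
  have hC : ∀ y ∈ L, (u * x⁻¹ * u⁻¹) * y = y * (u * x⁻¹ * u⁻¹) :=
    fun y hy => comp_commute (cj_isComponent hL u) hL hne _ (mem_cj_conj (L.inv_mem hx)) y hy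
  set A := (r * u) * x * (r * u)⁻¹ with hAdef
  set B := r * x⁻¹ * r⁻¹ with hBdef
  set C := u * x⁻¹ * u⁻¹ with hCdef
  have hW : ∀ y ∈ L, (A * B * C) * y = y * (A * B * C) := by
    intro y hy
    calc (A * B * C) * y = A * (B * (C * y)) := by group
      _ = A * (B * (y * C)) := by rw [hC y hy]
      _ = A * ((B * y) * C) := by group
      _ = A * ((y * B) * C) := by rw [hB y hy]
      _ = (A * y) * (B * C) := by group
      _ = (y * A) * (B * C) := by rw [hA y hy]
      _ = y * (A * B * C) := by group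
  have hcomm : r * ((u * x * u⁻¹) * x⁻¹) * r⁻¹ * ((u * x * u⁻¹) * x⁻¹)⁻¹ = x * (A * B * C) := by
    have e1 : r * ((u * x * u⁻¹) * x⁻¹) * r⁻¹ * ((u * x * u⁻¹) * x⁻¹)⁻¹ = A * B * (x * C) := by
      rw [hAdef, hBdef, hCdef]; group
    rw [e1]
    calc A * B * (x * C) = A * (B * x) * C := by group
      _ = A * (x * B) * C := by rw [hB x hx]
      _ = (A * x) * B * C := by group
      _ = (x * A) * B * C := by rw [hA x hx]
      _ = x * (A * B * C) := by group
  rcases c.core.comm_mem r hr _ hccQ with h1 | h1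
  · left
    rw [hcomm] at h1
    have := c.decomp_unique hL hx L.one_mem hW (b' := 1) (fun y _ => by simp) (by rw [h1]; simp)
    exact this.1
  · right
    rw [hcomm, hz] at h1
    exact (c.decomp_unique hL hx ha hW hb h1).1

end Ctx

end Cfsg.Agent.H9LX
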