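import Mathlib
import Cfsg.Agent.Lib.Helper9.LX4

/-!
# Large extraspecial subgroups, `O_2(G) = 1`: exactly two components
-/

set_option autoImplicit false
open Cfsg Cfsg.Agent.Lib.Helper9.LargeExtra Cfsg.Agent.Lib.Helper3 Cfsg.Agent.Lib.Helper7

namespace Cfsg.Agent.H9LX

variable {G : Type*} [Group G]

/-- `Q` swaps the component `L` with `cj u L` and moves it nowhere else. -/
structure Two (Q : Subgroup G) (z : G) (L : Subgroup G) (u : G) : Prop where
  ctx : Ctx Q z
  comp : Cfsg.IsComponent L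
  uQ : u ∈ Q
  ne : cj u L ≠ L
  only : ∀ q ∈ Q, cj q L = L ∨ cj q L = cj u L

namespace Two

variable {Q : Subgroup G} {z : G} {L : Subgroup G} {u : G}

theorem comp' (t : Two Q z L u) : Cfsg.IsComponent (cj u L) := Ctx.cj_isComponent t.comp u

theorem cj_le [Finite G] (t : Two Q z L u) {q : G} (hq : q ∈ Q) :
    cj q (L ⊔ cj u L) ≤ L ⊔ cj u L := by
  rw [cj_sup, ← cj_mul]
  apply sup_le
  · rcases t.only q hq with h | h <;> rw [h]
    · exact le_sup_left
    · exact le_sup_right
  · rcases t.only (q * u) (Q.mul_mem hq t.uQ) with h | h <;> rw [h]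
    · exact le_sup_left
    · exact le_sup_right

theorem le_normalizer [Finite G] (t : Two Q z L u) :
    Q ≤ Subgroup.normalizer ((L ⊔ cj u L : Subgroup G) : Set G) := by
  intro q hq
  rw [Subgroup.mem_normalizer_iff]
  intro x
  constructor
  · intro hx
    exact t.cj_le hq ⟨x, hx, rfl⟩
  · intro hx
    have h1 := t.cj_le (Q.inv_mem hq) ⟨q * x * q⁻¹, hx, rfl⟩
    have h2 : (MulAut.conj q⁻¹).toMonoidHom (q * x * q⁻¹) = x := by
      show q⁻¹ * (q * x * q⁻¹) * q⁻¹⁻¹ = x
      group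
    rw [h2] at h1
    exact h1

theorem z_mem_sup [Finite G] (t : Two Q z L u) : z ∈ L ⊔ cj u L := by
  apply z_mem_of_inv t.ctx.core t.ctx.odd _ t.le_normalizer
  intro hb
  apply IsQuasisimple.ne_bot t.comp.2
  rw [eq_bot_iff, ← hb]
  exact le_sup_left

theorem comp_cases [Finite G] (t : Two Q z L u) {K : Subgroup G} (hK : Cfsg.IsComponent K) :
    K = L ∨ K = cj u L := by
  by_contra hcon
  push Not at hcon
  apply not_le_centralizer_of_isComponent t.ctx.core hK
  intro k hk
  rw [Subgroup.mem_centralizer_iff]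
  intro y hy
  rw [Set.mem_singleton_iff] at hy
  rw [hy]
  have h1 : L ⊔ cj u L ≤ Subgroup.centralizer ({k} : Set G) := by
    apply sup_le
    · intro l hl
      rw [Subgroup.mem_centralizer_iff]
      intro w hw
      rw [Set.mem_singleton_iff] at hw
      rw [hw]
      exact Ctx.comp_commute hK t.comp hcon.1 k hk l hl
    · intro l hl
      rw [Subgroup.mem_centralizer_iff]
      intro w hw
      rw [Set.mem_singleton_iff] at hw
      rw [hw]
      exact Ctx.comp_commute hK t.comp' hcon.2 k hk l hl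
  have h2 := h1 t.z_mem_sup
  rw [Subgroup.mem_centralizer_iff] at h2
  exact (h2 k rfl).symm

theorem layer_eq [Finite G] (t : Two Q z L u) : Cfsg.layer G = L ⊔ cj u L := by
  apply le_antisymm
  · rw [layer_le_iff]
    intro K hK
    rcases t.comp_cases hK with h | h <;> rw [h]
    · exact le_sup_left
    · exact le_sup_right
  · exact sup_le (IsComponent.le_layer t.comp) (IsComponent.le_layer t.comp')

theorem commute (t : Two Q z L u) : ∀ x ∈ L, ∀ y ∈ cj u L, x * y = y * x :=
  fun x hx y hy => (Ctx.comp_commute t.comp' t.comp t.ne y hy x hx).symm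

theorem inf_eq_bot [Finite G] (t : Two Q z L u) : L ⊓ cj u L = ⊥ := by
  rw [eq_bot_iff]
  intro x hx
  rw [Subgroup.mem_bot]
  apply t.ctx.comp_cent t.comp hx.1
  intro y hy
  exact (t.commute y hy x hx.2).symm

theorem cj_cj [Finite G] (t : Two Q z L u) : cj u (cj u L) = L :=
  t.ctx.cj_cj_self t.comp t.uQ

/-- the decomposition of `z` -/
theorem exists_a [Finite G] (t : Two Q z L u) :
    ∃ a ∈ L, z = a * (u * a * u⁻¹) ∧ a ≠ 1 ∧ a * a = 1 := by
  obtain ⟨a, ha, b, hb, he⟩ :=
    Cfsg.Agent.Lib.Lead.mem_sup_of_commute _ _ t.commute t.z_mem_sup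
  have hbL : ∀ y ∈ L, b * y = y * b := fun y hy => (t.commute y hy b hb).symm
  have h1 : u * z * u⁻¹ = z := t.ctx.core.conj_z t.uQ
  have hub : u * b * u⁻¹ ∈ L := by
    have : u * b * u⁻¹ ∈ cj u (cj u L) := Ctx.mem_cj_conj hb
    rwa [t.cj_cj] at this
  have hua : u * a * u⁻¹ ∈ cj u L := Ctx.mem_cj_conj ha
  have huaL : ∀ y ∈ L, (u * a * u⁻¹) * y = y * (u * a * u⁻¹) :=
    fun y hy => (t.commute y hy _ hua).symm
  have h2 : a * b = (u * b * u⁻¹) * (u * a * u⁻¹) := by
    rw [← he]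
    calc z = u * z * u⁻¹ := h1.symm
      _ = (u * a * u⁻¹) * (u * b * u⁻¹) := by rw [he]; group
      _ = (u * b * u⁻¹) * (u * a * u⁻¹) := huaL _ hub
  have h3 := t.ctx.decomp_unique t.comp ha hub hbL huaL h2
  refine ⟨a, ha, ?_, t.ctx.decomp_ne_one t.comp hbL he, (t.ctx.decomp_sq t.comp ha hbL he).1⟩
  rw [he, h3.2]

end Two

end Cfsg.Agent.H9LX
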