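import Mathlib
import Cfsg.Agent.Lib.Helper9.LX5
import Cfsg.Agent.Lib.Helper6.Frattini

/-!
# Large extraspecial subgroups, two components: the centralizer of `a` in `L`
-/

set_option autoImplicit false
open Cfsg Cfsg.Agent.Lib.Helper9.LargeExtra Cfsg.Agent.Lib.Helper3 Cfsg.Agent.Lib.Helper7
open scoped commutatorElement

namespace Cfsg.Agent.H9LX

variable {G : Type*} [Group G]

/-- two components together with the decomposition of `z` -/
structure TwoA (Q : Subgroup G) (z : G) (L : Subgroup G) (u a : G) : Prop where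
  two : Two Q z L u
  aL : a ∈ L
  hz : z = a * (u * a * u⁻¹)
  a1 : a ≠ 1
  aa : a * a = 1

namespace TwoA

variable {Q : Subgroup G} {z : G} {L : Subgroup G} {u a : G}

theorem b_comm (t : TwoA Q z L u a) : ∀ y ∈ L, (u * a * u⁻¹) * y = y * (u * a * u⁻¹) :=
  fun y hy => (t.two.commute y hy _ (Ctx.mem_cj_conj t.aL)).symm

theorem comm_z [Finite G] (t : TwoA Q z L u a) {x : G} (hx : x ∈ L) (hxa : x * a = a * x) :
    x * z = z * x := (t.two.ctx.comm_a_iff t.b_comm t.hz hx).mpr hxa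

theorem a_inv (t : TwoA Q z L u a) : a⁻¹ = a := inv_eq_of_mul_eq_one_right t.aa

/-- squares of elements of `C_L(a)` lie in `{1, a}` -/
theorem sq_cases [Finite G] (t : TwoA Q z L u a) {x : G} (hx : x ∈ L) (hxa : x * a = a * x) :
    x * x = 1 ∨ x * x = a := by
  have c := t.two.ctx
  have hL := t.two.comp
  have hu := t.two.uQ
  have hxz := t.comm_z hx hxa
  have hxQ : ∀ q ∈ Q, x * q * x⁻¹ ∈ Q := c.core.norm x hxz
  have hccQ : (u * x * u⁻¹) * x⁻¹ ∈ Q := by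
    have : (u * x * u⁻¹) * x⁻¹ = u * (x * u⁻¹ * x⁻¹) := by group
    rw [this]
    exact Q.mul_mem hu (hxQ _ (Q.inv_mem hu))
  have hy : u * x * u⁻¹ ∈ cj u L := Ctx.mem_cj_conj hx
  have hyx : x⁻¹ * (u * x * u⁻¹) = (u * x * u⁻¹) * x⁻¹ := t.two.commute _ (L.inv_mem hx) _ hy
  have hW : ∀ w ∈ L, (u * (x * x) * u⁻¹) * w = w * (u * (x * x) * u⁻¹) :=
    fun w hw => (t.two.commute w hw _ (Ctx.mem_cj_conj (L.mul_mem hx hx))).symm
  have e : ((u * x * u⁻¹) * x⁻¹) * ((u * x * u⁻¹) * x⁻¹) = (x * x)⁻¹ * (u * (x * x) * u⁻¹) := by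
    calc ((u * x * u⁻¹) * x⁻¹) * ((u * x * u⁻¹) * x⁻¹)
        = (u * x * u⁻¹) * (x⁻¹ * (u * x * u⁻¹)) * x⁻¹ := by group
      _ = (u * x * u⁻¹) * ((u * x * u⁻¹) * x⁻¹) * x⁻¹ := by rw [hyx]
      _ = (u * (x * x) * u⁻¹) * (x * x)⁻¹ := by group
      _ = (x * x)⁻¹ * (u * (x * x) * u⁻¹) := hW _ (L.inv_mem (L.mul_mem hx hx))
  rcases c.sq _ hccQ with h1 | h1
  · left
    rw [e] at h1
    have := c.decomp_unique hL (L.inv_mem (L.mul_mem hx hx)) L.one_mem hW (b' := 1)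
      (fun y _ => by simp) (by rw [h1]; simp)
    exact inv_eq_one.mp this.1
  · right
    rw [e, t.hz] at h1
    have := c.decomp_unique hL (L.inv_mem (L.mul_mem hx hx)) t.aL hW t.b_comm h1
    calc x * x = ((x * x)⁻¹)⁻¹ := (inv_inv _).symm
      _ = a⁻¹ := by rw [this.1]
      _ = a := t.a_inv

theorem pow_four [Finite G] (t : TwoA Q z L u a) {x : G} (hx : x ∈ L) (hxa : x * a = a * x) :
    x ^ 4 = 1 := by
  have e : x ^ 4 = (x * x) * (x * x) := by
    rw [show (4 : ℕ) = 2 + 2 from rfl, pow_add, pow_two]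
  rw [e]
  rcases t.sq_cases hx hxa with h | h <;> rw [h]
  · simp
  · exact t.aa

/-- the centralizer of `a` in `L` is a 2-group -/
theorem isPGroup [Finite G] (t : TwoA Q z L u a) :
    IsPGroup 2 ((Subgroup.centralizer ({a} : Set G)).subgroupOf L) := by
  rintro ⟨x, hx⟩
  rw [Subgroup.mem_subgroupOf, Subgroup.mem_centralizer_iff] at hx
  refine ⟨2, ?_⟩
  apply Subtype.ext
  apply Subtype.ext
  have := t.pow_four x.2 (hx a rfl).symm
  simpa using this

theorem sq_mem_zpowers [Finite G] (t : TwoA Q z L u a) {x : G} (hx : x ∈ L)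
    (hxa : x * a = a * x) : x * x ∈ Subgroup.zpowers a := by
  rcases t.sq_cases hx hxa with h | h <;> rw [h]
  · exact Subgroup.one_mem _
  · exact Subgroup.mem_zpowers a

/-- Frattini subgroup of any subgroup of `C_L(a)` -/
theorem frattini_le [Finite G] (t : TwoA Q z L u a) (P : Subgroup ↥L)
    (hP : P ≤ (Subgroup.centralizer ({a} : Set G)).subgroupOf L) :
    (frattini ↥P).map ((L.subtype).comp P.subtype) ≤ Subgroup.zpowers a := by
  haveI : Fact (Nat.Prime 2) := ⟨Nat.prime_two⟩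
  have hPa : ∀ x : ↥P, ((x : ↥L) : G) * a = a * ((x : ↥L) : G) := by
    intro x
    have := hP x.2
    rw [Subgroup.mem_subgroupOf, Subgroup.mem_centralizer_iff] at this
    exact (this a rfl).symm
  have hmemZ : ∀ w ∈ Subgroup.zpowers a, ∀ y : ↥P, w * ((y : ↥L) : G) = ((y : ↥L) : G) * w := by
    intro w hw y
    obtain ⟨k, rfl⟩ := Subgroup.mem_zpowers_iff.mp hw
    exact ((Commute.zpow_left (hPa y).symm k).eq)
  rw [Subgroup.map_le_iff_le_comap]
  apply Cfsg.Agent.Lib.Helper6.frattini_le_of_elemAb (p := 2)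
  · intro x y
    rw [Subgroup.mem_comap]
    show ((⁅x, y⁆ : ↥P) : ↥L).1 ∈ Subgroup.zpowers a
    set x' : G := ((x : ↥L) : G) with hx'
    set y' : G := ((y : ↥L) : G) with hy'
    have hxx := t.sq_mem_zpowers (x : ↥L).2 (hPa x)
    have hyy := t.sq_mem_zpowers (y : ↥L).2 (hPa y)
    have hxy := t.sq_mem_zpowers ((x * y : ↥P) : ↥L).2 (hPa (x * y))
    have hc : (x' * x')⁻¹ * y'⁻¹ = y'⁻¹ * (x' * x')⁻¹ := by
      have := hmemZ _ (Subgroup.inv_mem _ hxx) y⁻¹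
      simpa using this
    have e : ((⁅x, y⁆ : ↥P) : ↥L).1 = ((x' * y') * (x' * y')) * (x' * x')⁻¹ * (y' * y')⁻¹ := by
      have e1 : ((⁅x, y⁆ : ↥P) : ↥L).1 = x' * y' * x'⁻¹ * y'⁻¹ := by
        rw [commutatorElement_def]; rfl
      rw [e1]
      calc x' * y' * x'⁻¹ * y'⁻¹
          = (x' * y') * (x' * y') * y'⁻¹ * ((x' * x')⁻¹ * y'⁻¹) := by group
        _ = (x' * y') * (x' * y') * y'⁻¹ * (y'⁻¹ * (x' * x')⁻¹) := by rw [hc]
        _ = (x' * y') * (x' * y') * (y'⁻¹ * y'⁻¹) * (x' * x')⁻¹ := by group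
        _ = (x' * y') * (x' * y') * ((x' * x')⁻¹ * (y'⁻¹ * y'⁻¹)) := by
            have h2 : (y'⁻¹ * y'⁻¹) * (x' * x')⁻¹ = (x' * x')⁻¹ * (y'⁻¹ * y'⁻¹) := by
              calc (y'⁻¹ * y'⁻¹) * (x' * x')⁻¹ = y'⁻¹ * (y'⁻¹ * (x' * x')⁻¹) := by group
                _ = y'⁻¹ * ((x' * x')⁻¹ * y'⁻¹) := by rw [hc]
                _ = (y'⁻¹ * (x' * x')⁻¹) * y'⁻¹ := by group
                _ = ((x' * x')⁻¹ * y'⁻¹) * y'⁻¹ := by rw [hc]
                _ = (x' * x')⁻¹ * (y'⁻¹ * y'⁻¹) := by group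
            rw [mul_assoc ((x' * y') * (x' * y')), h2]
        _ = ((x' * y') * (x' * y')) * (x' * x')⁻¹ * (y' * y')⁻¹ := by group
    rw [e]
    exact Subgroup.mul_mem _ (Subgroup.mul_mem _ hxy (Subgroup.inv_mem _ hxx))
      (Subgroup.inv_mem _ hyy)
  · intro x
    rw [Subgroup.mem_comap]
    have := t.sq_mem_zpowers (x : ↥L).2 (hPa x)
    show ((x ^ 2 : ↥P) : ↥L).1 ∈ Subgroup.zpowers a
    rw [pow_two]
    exact this

end TwoA

end Cfsg.Agent.H9LX
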