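import Mathlib
import Cfsg.Prelude.Def_PLocal
import Cfsg.Agent.Lib.Lead.ZJFun

set_option autoImplicit false

/-!
# `q` dividing automizers of `p`-subgroups: basic notions

`QAct q K`: some element of `q`-power order normalizes `K` without centralizing it.
`CharIn K T`: `K ≤ T` is invariant under all surjective endomorphisms of `T`.
-/

namespace Cfsg.Agent.H9QA

open Cfsg

universe u

section basic
variable {G : Type*} [Group G]

/-- some `q`-element of `N_G(K)` does not centralize `K` -/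
def QAct (q : ℕ) (K : Subgroup G) : Prop :=
  ∃ y ∈ Subgroup.normalizer (K : Set G), y ∉ Subgroup.centralizer (K : Set G) ∧ ∃ e : ℕ, y ^ (q ^ e) = 1

/-- `K` is characteristic in `T` -/
def CharIn (K T : Subgroup G) : Prop :=
  K ≤ T ∧ ∀ φ : ↥T →* ↥T, Function.Surjective φ → ∀ x : ↥T, (x : G) ∈ K → ((φ x : ↥T) : G) ∈ K

theorem exists_pow_qElement [Finite G] {q : ℕ} [hq : Fact q.Prime] (C : Subgroup G) {n : G} {e : ℕ}
    (hn : n ∉ C) (hne : n ^ (q ^ e) ∈ C) : ∃ m e' : ℕ, n ^ m ∉ C ∧ (n ^ m) ^ (q ^ e') = 1 := by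
  obtain ⟨a, m, hm, hord⟩ := Nat.exists_eq_pow_mul_and_not_dvd (orderOf_pos n).ne' q hq.out.one_lt.ne'
  refine ⟨m, a, ?_, ?_⟩
  · intro hmC
    have hcop : Nat.Coprime m (q ^ e) :=
      Nat.Coprime.pow_right e ((Nat.Prime.coprime_iff_not_dvd hq.out).mpr hm).symm
    have hb := Nat.gcd_eq_gcd_ab m (q ^ e)
    rw [hcop] at hb
    have h1 : n = (n ^ m) ^ (Nat.gcdA m (q ^ e)) * (n ^ (q ^ e)) ^ (Nat.gcdB m (q ^ e)) := by
      rw [← zpow_natCast n m, ← zpow_natCast n (q ^ e), ← zpow_mul, ← zpow_mul, ← zpow_add, ← hb]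
      simp
    apply hn
    rw [h1]
    exact C.mul_mem (C.zpow_mem hmC _) (C.zpow_mem hne _)
  · rw [← pow_mul, mul_comm, ← hord, pow_orderOf_eq_one]

theorem QAct.mono {q : ℕ} {K K' : Subgroup G} (hKK' : K ≤ K') {y : G}
    (hy : y ∈ Subgroup.normalizer (K' : Set G)) (hyc : y ∉ Subgroup.centralizer (K : Set G))
    {e : ℕ} (he : y ^ (q ^ e) = 1) : QAct q K' :=
  ⟨y, hy, fun h => hyc (Subgroup.centralizer_le hKK' h), e, he⟩

theorem QAct.conj {q : ℕ} {K : Subgroup G} (h : QAct q K) (g : G) :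
    QAct q (K.map (MulAut.conj g).toMonoidHom) := by
  obtain ⟨y, hy, hyc, e, he⟩ := h
  refine ⟨g * y * g⁻¹, ?_, ?_, e, ?_⟩
  · rw [Subgroup.mem_normalizer_iff]
    intro h
    rw [Subgroup.mem_normalizer_iff] at hy
    constructor
    · rintro ⟨k, hk, rfl⟩
      refine ⟨y * k * y⁻¹, (hy k).mp hk, ?_⟩
      simp [MulAut.conj_apply, mul_assoc]
    · rintro ⟨k, hk, hk'⟩
      have h2 : h = g * (y⁻¹ * k * y) * g⁻¹ := by
        have h3 : g * y * g⁻¹ * h * (g * y * g⁻¹)⁻¹ = g * k * g⁻¹ := by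
          rw [← hk']; simp [MulAut.conj_apply]
        have h4 : h = (g * y * g⁻¹)⁻¹ * (g * k * g⁻¹) * (g * y * g⁻¹) := by
          rw [← h3]; group
        rw [h4]; group
      refine ⟨y⁻¹ * k * y, ?_, ?_⟩
      · have := (hy (y⁻¹ * k * y)).mpr (by simpa [mul_assoc] using hk)
        exact this
      · rw [h2]; simp [MulAut.conj_apply]
  · intro hc
    apply hyc
    rw [Subgroup.mem_centralizer_iff] at hc ⊢
    intro k hk
    have := hc (g * k * g⁻¹) ⟨k, hk, by simp [MulAut.conj_apply]⟩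
    have h2 : g * (k * y) * g⁻¹ = g * (y * k) * g⁻¹ := by
      calc g * (k * y) * g⁻¹ = (g * k * g⁻¹) * (g * y * g⁻¹) := by group
        _ = (g * y * g⁻¹) * (g * k * g⁻¹) := this
        _ = g * (y * k) * g⁻¹ := by group
    exact mul_left_cancel (mul_right_cancel h2)
  · rw [conj_pow, he]; simp

end basic

section idx
variable {G : Type*} [Group G] [Finite G]

theorem qAct_iff_dvd_index (q : ℕ) [hq : Fact q.Prime] (K : Subgroup G) :
    QAct q K ↔ q ∣ ((Subgroup.centralizer (K : Set G)).subgroupOf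
      (Subgroup.normalizer (K : Set G))).index := by
  obtain ⟨N, hN⟩ : ∃ N : Subgroup G, N = Subgroup.normalizer (K : Set G) := ⟨_, rfl⟩
  constructor
  · rintro ⟨y, hy, hyc, e, he⟩
    rw [Subgroup.index_eq_card]
    let ybar : ↥(Subgroup.normalizer (K : Set G)) ⧸
        (Subgroup.centralizer (K : Set G)).subgroupOf (Subgroup.normalizer (K : Set G)) :=
      QuotientGroup.mk ⟨y, hy⟩
    have h1 : ybar ≠ 1 := by
      intro h
      rw [QuotientGroup.eq_one_iff] at h
      exact hyc (Subgroup.mem_subgroupOf.mp h)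
    have h2 : ybar ^ (q ^ e) = 1 := by
      show (QuotientGroup.mk (⟨y, hy⟩ : ↥(Subgroup.normalizer (K : Set G))) :
        ↥(Subgroup.normalizer (K : Set G)) ⧸ _) ^ (q ^ e) = 1
      rw [← QuotientGroup.mk_pow]
      have : (⟨y, hy⟩ : ↥(Subgroup.normalizer (K : Set G))) ^ (q ^ e) = 1 :=
        Subtype.ext (by simpa using he)
      rw [this]; rfl
    have h3 : orderOf ybar ∣ q ^ e := orderOf_dvd_of_pow_eq_one h2
    obtain ⟨j, hj, hj'⟩ := (Nat.dvd_prime_pow hq.out).mp h3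
    have hj0 : j ≠ 0 := by
      rintro rfl
      rw [pow_zero, orderOf_eq_one_iff] at hj'
      exact h1 hj'
    have : q ∣ orderOf ybar := by rw [hj']; exact dvd_pow_self q hj0
    exact this.trans (orderOf_dvd_natCard ybar)
  · intro h
    rw [Subgroup.index_eq_card] at h
    obtain ⟨xbar, hx⟩ := exists_prime_orderOf_dvd_card' q h
    obtain ⟨x, rfl⟩ := QuotientGroup.mk_surjective xbar
    have h1 : (x : G) ∉ Subgroup.centralizer (K : Set G) := by
      intro hc
      have : (QuotientGroup.mk x : ↥(Subgroup.normalizer (K : Set G)) ⧸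
        (Subgroup.centralizer (K : Set G)).subgroupOf (Subgroup.normalizer (K : Set G))) = 1 := by
        rw [QuotientGroup.eq_one_iff]; exact Subgroup.mem_subgroupOf.mpr hc
      rw [this, orderOf_one] at hx
      exact hq.out.one_lt.ne hx
    have h2 : (x : G) ^ (q ^ 1) ∈ Subgroup.centralizer (K : Set G) := by
      have : (QuotientGroup.mk x : ↥(Subgroup.normalizer (K : Set G)) ⧸
        (Subgroup.centralizer (K : Set G)).subgroupOf (Subgroup.normalizer (K : Set G))) ^ q = 1 := by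
        rw [← hx]; exact pow_orderOf_eq_one _
      rw [← QuotientGroup.mk_pow, QuotientGroup.eq_one_iff] at this
      have h3 := Subgroup.mem_subgroupOf.mp this
      simpa using h3
    obtain ⟨m, e', hm, hm'⟩ := exists_pow_qElement (Subgroup.centralizer (K : Set G)) h1 h2
    exact ⟨(x : G) ^ m, Subgroup.pow_mem _ x.2 m, hm, e', hm'⟩

end idx

section charin
variable {G : Type*} [Group G]

/-- conjugation by a normalizing element as an endomorphism of `T` -/
def conjEndo (T : Subgroup G) (g : G) (hg : g ∈ Subgroup.normalizer (T : Set G)) : ↥T →* ↥T where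
  toFun x := ⟨g * x * g⁻¹, (Subgroup.mem_normalizer_iff.mp hg x).mp x.2⟩
  map_one' := by ext; simp
  map_mul' x y := by ext; simp [mul_assoc]

theorem conjEndo_surjective (T : Subgroup G) (g : G) (hg : g ∈ Subgroup.normalizer (T : Set G)) :
    Function.Surjective (conjEndo T g hg) := by
  intro x
  have hg' : g⁻¹ ∈ Subgroup.normalizer (T : Set G) := Subgroup.inv_mem _ hg
  refine ⟨⟨g⁻¹ * x * g⁻¹⁻¹, (Subgroup.mem_normalizer_iff.mp hg' x).mp x.2⟩, ?_⟩
  ext
  simp [conjEndo, mul_assoc]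

theorem CharIn.normalizer_le {K T : Subgroup G} (h : CharIn K T) :
    Subgroup.normalizer (T : Set G) ≤ Subgroup.normalizer (K : Set G) := by
  intro g hg
  have hg' : g⁻¹ ∈ Subgroup.normalizer (T : Set G) := Subgroup.inv_mem _ hg
  rw [Subgroup.mem_normalizer_iff]
  intro x
  constructor
  · intro hx
    exact h.2 (conjEndo T g hg) (conjEndo_surjective T g hg) ⟨x, h.1 hx⟩ hx
  · intro hx
    have hxT : g * x * g⁻¹ ∈ T := h.1 hx
    have := h.2 (conjEndo T g⁻¹ hg') (conjEndo_surjective T g⁻¹ hg') ⟨g * x * g⁻¹, hxT⟩ hx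
    simpa [conjEndo, mul_assoc] using this

theorem CharIn.normal {K T : Subgroup G} (h : CharIn K T) (hT : T.Normal) : K.Normal := by
  rw [← Subgroup.normalizer_eq_top_iff]
  apply top_le_iff.mp
  rw [← Subgroup.normalizer_eq_top_iff.mpr hT]
  exact h.normalizer_le

theorem charIn_self (T : Subgroup G) : CharIn T T :=
  ⟨le_refl _, fun φ _ x _ => (φ x).2⟩

theorem charIn_bot (T : Subgroup G) : CharIn ⊥ T := by
  refine ⟨bot_le, fun φ _ x hx => ?_⟩
  rw [Subgroup.mem_bot] at hx ⊢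
  have : x = 1 := Subtype.ext hx
  rw [this, map_one]; rfl

/-- the centre of `T` is characteristic in `T` -/
theorem charIn_center (T : Subgroup G) :
    CharIn (T ⊓ Subgroup.centralizer (T : Set G)) T := by
  refine ⟨inf_le_left, fun φ hφ x hx => ?_⟩
  refine Subgroup.mem_inf.mpr ⟨(φ x).2, ?_⟩
  rw [Subgroup.mem_centralizer_iff]
  intro t ht
  obtain ⟨t', ht'⟩ := hφ ⟨t, ht⟩
  have h1 : (t' : G) * x = x * t' := (Subgroup.mem_centralizer_iff.mp (Subgroup.mem_inf.mp hx).2) t' t'.2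
  have h2 : t' * x = x * t' := Subtype.ext h1
  have h3 : φ t' * φ x = φ x * φ t' := by rw [← map_mul, ← map_mul, h2]
  rw [ht'] at h3
  exact congrArg Subtype.val h3

/-- transport of `CharIn` from a subgroup to the ambient group -/
theorem CharIn.map_subtype {G₁ : Subgroup G} {K₁ T₁ : Subgroup ↥G₁} (h : CharIn K₁ T₁) :
    CharIn (K₁.map G₁.subtype) (T₁.map G₁.subtype) := by
  refine ⟨Subgroup.map_mono h.1, fun φ hφ x hx => ?_⟩
  let e : ↥T₁ ≃* ↥(T₁.map G₁.subtype) := T₁.equivMapOfInjective G₁.subtype G₁.subtype_injective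
  let φ' : ↥T₁ →* ↥T₁ := e.symm.toMonoidHom.comp (φ.comp e.toMonoidHom)
  have hφ' : Function.Surjective φ' := by
    intro t
    obtain ⟨s, hs⟩ := hφ (e t)
    refine ⟨e.symm s, ?_⟩
    show e.symm (φ (e (e.symm s))) = t
    rw [e.apply_symm_apply, hs, e.symm_apply_apply]
  obtain ⟨k, hk, hkx⟩ := hx
  have hkT : k ∈ T₁ := h.1 hk
  have hex : e ⟨k, hkT⟩ = x := by
    apply Subtype.ext
    rw [Subgroup.coe_equivMapOfInjective_apply]
    exact hkx
  have h1 := h.2 φ' hφ' ⟨k, hkT⟩ hk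
  refine ⟨(φ' ⟨k, hkT⟩ : ↥T₁), h1, ?_⟩
  show ((e.symm (φ (e ⟨k, hkT⟩)) : ↥T₁) : ↥G₁).1 = ((φ x : ↥(T₁.map G₁.subtype)) : G)
  rw [hex]
  have h2 : e (e.symm (φ x)) = φ x := e.apply_symm_apply _
  have h3 := congrArg Subtype.val h2
  rw [Subgroup.coe_equivMapOfInjective_apply] at h3
  exact h3

end charin

section functor
variable {G : Type u} [Group G]

/-- an isomorphism-invariant functor gives characteristic subgroups -/
theorem charIn_of_functor (W : ∀ (Q : Type u) [Group Q], Subgroup Q)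
    (hW : ∀ {Q R : Type u} [Group Q] [Group R] (φ : Q ≃* R), (W Q).map φ.toMonoidHom = W R)
    (T : Subgroup G) [Finite T] : CharIn ((W ↥T).map T.subtype) T := by
  refine ⟨Subgroup.map_subtype_le _, fun φ hφ x hx => ?_⟩
  have hinj : Function.Injective φ := Finite.injective_iff_surjective.mpr hφ
  let e : ↥T ≃* ↥T := MulEquiv.ofBijective φ ⟨hinj, hφ⟩
  have h1 : x ∈ W ↥T := (Subgroup.mem_map_iff_mem T.subtype_injective).mp hx
  have h2 : e x ∈ (W ↥T).map e.toMonoidHom := ⟨x, h1, rfl⟩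
  rw [hW e] at h2
  exact ⟨φ x, h2, rfl⟩

theorem charIn_thompsonAOf (T : Subgroup G) [Finite T] : CharIn (thompsonSubgroupAOf T) T :=
  charIn_of_functor (fun Q _ => thompsonSubgroupA Q)
    (fun φ => Cfsg.Agent.Lib.Lead.ZJFun.map_thompsonSubgroupA φ) T

theorem charIn_centerThompsonAOf (T : Subgroup G) [Finite T] : CharIn (centerThompsonAOf T) T := by
  rw [← Cfsg.Agent.Lib.Lead.ZJFun.inducedFunctor_WZJ]
  exact charIn_of_functor Cfsg.Agent.Lib.Lead.ZJFun.WZJ
    (fun φ => Cfsg.Agent.Lib.Lead.ZJFun.map_WZJ φ) T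

theorem thompsonAOf_ne_bot (T : Subgroup G) [Finite T] (hT : T ≠ ⊥) : thompsonSubgroupAOf T ≠ ⊥ := by
  haveI : Nontrivial ↥T := (Subgroup.nontrivial_iff_ne_bot _).mpr hT
  have h := Cfsg.Agent.Lib.Lead.ZJFun.thompsonSubgroupA_ne_bot (Q := ↥T)
  intro hb
  apply h
  unfold thompsonSubgroupAOf at hb
  exact (Subgroup.map_eq_bot_iff_of_injective _ T.subtype_injective).mp hb

theorem centerThompsonAOf_ne_bot {p : ℕ} [Fact p.Prime] (T : Subgroup G) [Finite T] (hp : IsPGroup p T)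
    (hT : T ≠ ⊥) : centerThompsonAOf T ≠ ⊥ := by
  haveI : Nontrivial ↥T := (Subgroup.nontrivial_iff_ne_bot _).mpr hT
  have h := Cfsg.Agent.Lib.Lead.ZJFun.WZJ_ne_bot (Q := ↥T) hp
  rw [← Cfsg.Agent.Lib.Lead.ZJFun.inducedFunctor_WZJ]
  intro hb
  apply h
  unfold inducedFunctor at hb
  exact (Subgroup.map_eq_bot_iff_of_injective _ T.subtype_injective).mp hb

end functor

end Cfsg.Agent.H9QA
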