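import Mathlib
import Cfsg.Agent.Lib.Helper9.QA1
import Cfsg.Agent.Lib.Helper2.ComplementSystem

set_option autoImplicit false

/-!
# Transport lemmas for `QAct` and the quotient step
-/

namespace Cfsg.Agent.H9QA

open Cfsg

universe u

section transport
variable {G : Type*} [Group G]

theorem QAct.map_subtype {q : ℕ} {G₁ : Subgroup G} {K₁ : Subgroup ↥G₁} (h : QAct q K₁) :
    QAct q (K₁.map G₁.subtype) := by
  obtain ⟨y, hy, hyc, e, he⟩ := h
  refine ⟨(y : G), ?_, ?_, e, ?_⟩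
  · rw [Subgroup.mem_normalizer_iff] at hy ⊢
    intro h
    constructor
    · rintro ⟨k, hk, rfl⟩
      exact ⟨y * k * y⁻¹, (hy k).mp hk, by simp⟩
    · rintro ⟨k, hk, hk'⟩
      have h1 : h = ((y⁻¹ * k * y : ↥G₁) : G) := by
        have : (k : G) = y * h * (y : G)⁻¹ := hk'
        simp only [Subgroup.coe_mul, Subgroup.coe_inv, this]
        group
      rw [h1]
      refine ⟨y⁻¹ * k * y, ?_, rfl⟩
      have := (hy (y⁻¹ * k * y)).mpr (by simpa [mul_assoc] using hk)
      exact this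
  · intro hc
    apply hyc
    rw [Subgroup.mem_centralizer_iff] at hc ⊢
    intro k hk
    have := hc (k : G) ⟨k, hk, rfl⟩
    exact Subtype.ext this
  · have := congrArg Subtype.val he
    simpa using this

/-- Frattini-type conjugation: a Sylow subgroup `K` of `L` and an element normalizing `L` -/
theorem frattini_elem [Finite G] {p : ℕ} [hp : Fact p.Prime] (L K : Subgroup G) (hKL : K ≤ L)
    (hK : IsPGroup p K) (hidx : ¬ p ∣ K.relIndex L) (g : G)
    (hg : g ∈ Subgroup.normalizer (L : Set G)) :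
    ∃ l ∈ L, l * g ∈ Subgroup.normalizer (K : Set G) := by
  have hK' : IsPGroup p (K.subgroupOf L) := hK.comap_subtype
  obtain ⟨P, hP⟩ : ∃ P : Sylow p ↥L, (P : Subgroup ↥L) = K.subgroupOf L :=
    ⟨hK'.toSylow hidx, IsPGroup.toSylow_coe _ _⟩
  have hg' : g⁻¹ ∈ Subgroup.normalizer (L : Set G) := Subgroup.inv_mem _ hg
  -- the conjugate
  let K' : Subgroup G := K.map (MulAut.conj g).toMonoidHom
  have hK'L : K' ≤ L := by
    rintro _ ⟨k, hk, rfl⟩
    exact (Subgroup.mem_normalizer_iff.mp hg k).mp (hKL hk)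
  have hcardK' : Nat.card K' = Nat.card K :=
    Subgroup.card_map_of_injective (MulAut.conj g).injective
  have hcardP : Nat.card (K.subgroupOf L) = p ^ (Nat.card ↥L).factorization p := by
    have := P.card_eq_multiplicity
    rwa [hP] at this
  have hc1 : Nat.card (K'.subgroupOf L) = Nat.card K' := by
    rw [← Subgroup.card_map_of_injective L.subtype_injective, Subgroup.subgroupOf_map_subtype,
      inf_eq_left.mpr hK'L]
  have hc2 : Nat.card (K.subgroupOf L) = Nat.card K := by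
    rw [← Subgroup.card_map_of_injective L.subtype_injective, Subgroup.subgroupOf_map_subtype,
      inf_eq_left.mpr hKL]
  obtain ⟨P', hP'⟩ : ∃ P' : Sylow p ↥L, (P' : Subgroup ↥L) = K'.subgroupOf L :=
    ⟨Sylow.ofCard (K'.subgroupOf L) (by rw [hc1, hcardK', ← hc2, hcardP]), Sylow.coe_ofCard _ _⟩
  obtain ⟨l, hl⟩ := MulAction.exists_smul_eq ↥L P' P
  refine ⟨l, l.2, ?_⟩
  apply Subgroup.mem_normalizer_fintype
  intro x hx
  have hxK : x ∈ K := hx
  show (l : G) * g * x * ((l : G) * g)⁻¹ ∈ K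
  -- the element `z = l g x g⁻¹ l⁻¹` of `L`
  have hz1 : g * x * g⁻¹ ∈ K' := ⟨x, hxK, by simp [MulAut.conj_apply]⟩
  have hzL : g * x * g⁻¹ ∈ L := hK'L hz1
  have hmem : (⟨g * x * g⁻¹, hzL⟩ : ↥L) ∈ (P' : Subgroup ↥L) := by
    rw [hP']
    exact Subgroup.mem_subgroupOf.mpr hz1
  have hmem2 : l * ⟨g * x * g⁻¹, hzL⟩ * l⁻¹ ∈ ((l • P' : Sylow p ↥L) : Subgroup ↥L) := by
    rw [Sylow.coe_subgroup_smul]
    exact Subgroup.smul_mem_pointwise_smul _ _ _ hmem
  rw [hl] at hmem2
  have hmem3 : ((l * ⟨g * x * g⁻¹, hzL⟩ * l⁻¹ : ↥L) : G) ∈ K := by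
    have := hmem2
    rw [hP] at this
    exact Subgroup.mem_subgroupOf.mp this
  have : (l : G) * g * x * ((l : G) * g)⁻¹ = ((l * ⟨g * x * g⁻¹, hzL⟩ * l⁻¹ : ↥L) : G) := by
    simp only [Subgroup.coe_mul, Subgroup.coe_inv]
    group
  rw [this]
  exact hmem3

end transport

section quot
variable {G : Type u} [Group G] [Finite G]

/-- the index of `S ∩ Y` in `Y` is prime to `p` for normal `Y` -/
theorem not_dvd_relIndex_sylow_normal {p : ℕ} [hp : Fact p.Prime] (S : Sylow p G) (Y : Subgroup G)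
    [hY : Y.Normal] : ¬ p ∣ (S : Subgroup G).relIndex Y := by
  rw [← Cfsg.Agent.Lib.Helper2.relIndex_sup_left_of_le_normalizer (S : Subgroup G) Y
    (by rw [Subgroup.normalizer_eq_top_iff.mpr hY]; exact le_top)]
  intro hdvd
  exact S.not_dvd_index (hdvd.trans (Subgroup.relIndex_dvd_index_of_le le_sup_left))

theorem quotient_step {p q : ℕ} [hp : Fact p.Prime] [hq : Fact q.Prime]
    (S : Sylow p G) (K₀ Y : Subgroup G) [hY : Y.Normal] (hK₀ : CharIn K₀ (S : Subgroup G))
    (hK₀Y : K₀ ≤ Y) (hSY : (S : Subgroup G) ⊓ Y ≤ K₀)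
    (Khat : Subgroup (G ⧸ Y))
    (hKhat : CharIn Khat ((S : Subgroup G).map (QuotientGroup.mk' Y)))
    (hQ : QAct q Khat) :
    ∃ K : Subgroup G, CharIn K (S : Subgroup G) ∧ QAct q K := by
  obtain ⟨π, hπ⟩ : ∃ π : G →* G ⧸ Y, π = QuotientGroup.mk' Y := ⟨_, rfl⟩
  have hπsurj : Function.Surjective π := by rw [hπ]; exact QuotientGroup.mk'_surjective Y
  have hπker : ∀ x : G, π x = 1 ↔ x ∈ Y := by
    intro x; rw [hπ]; exact QuotientGroup.eq_one_iff x
  rw [← hπ] at hKhat
  obtain ⟨L, hL⟩ : ∃ L : Subgroup G, L = Khat.comap π := ⟨_, rfl⟩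
  have hmemL : ∀ x : G, x ∈ L ↔ π x ∈ Khat := by intro x; rw [hL]; exact Subgroup.mem_comap
  have hYL : Y ≤ L := by
    intro y hy
    rw [hmemL, (hπker y).mpr hy]; exact Khat.one_mem
  refine ⟨(S : Subgroup G) ⊓ L, ⟨inf_le_left, ?_⟩, ?_⟩
  · -- characteristic
    intro φ hφ x hx
    refine Subgroup.mem_inf.mpr ⟨(φ x).2, ?_⟩
    rw [hmemL]
    let πS : ↥(S : Subgroup G) →* ↥((S : Subgroup G).map π) := π.subgroupMap (S : Subgroup G)
    have hπS : Function.Surjective πS := π.subgroupMap_surjective _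
    let ψ : ↥(S : Subgroup G) →* ↥((S : Subgroup G).map π) := πS.comp φ
    have hker : πS.ker ≤ ψ.ker := by
      intro s hs
      rw [MonoidHom.mem_ker] at hs ⊢
      have h1 : π (s : G) = 1 := congrArg Subtype.val hs
      have h2 : (s : G) ∈ K₀ := hSY (Subgroup.mem_inf.mpr ⟨s.2, (hπker _).mp h1⟩)
      have h3 : ((φ s : ↥(S : Subgroup G)) : G) ∈ K₀ := hK₀.2 φ hφ s h2
      apply Subtype.ext
      show π ((φ s : ↥(S : Subgroup G)) : G) = 1
      exact (hπker _).mpr (hK₀Y h3)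
    let φhat : ↥((S : Subgroup G).map π) →* ↥((S : Subgroup G).map π) :=
      πS.liftOfRightInverse (Function.surjInv hπS) (Function.rightInverse_surjInv hπS) ⟨ψ, hker⟩
    have hφhat : ∀ s, φhat (πS s) = πS (φ s) := fun s =>
      πS.liftOfRightInverse_comp_apply (Function.surjInv hπS) (Function.rightInverse_surjInv hπS)
        ⟨ψ, hker⟩ s
    have hφhatsurj : Function.Surjective φhat := by
      intro t
      obtain ⟨s, rfl⟩ := hπS t
      obtain ⟨s', rfl⟩ := hφ s
      exact ⟨πS s', hφhat s'⟩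
    have hx2 : ((πS x : ↥((S : Subgroup G).map π)) : G ⧸ Y) ∈ Khat :=
      (hmemL _).mp (Subgroup.mem_inf.mp hx).2
    have := hKhat.2 φhat hφhatsurj (πS x) hx2
    rw [hφhat] at this
    exact this
  · -- the q-element
    obtain ⟨yhat, hyN, hyC, e, he⟩ := hQ
    obtain ⟨g, rfl⟩ := hπsurj yhat
    -- π maps S ⊓ L onto Khat
    have hB1 : ∀ k ∈ Khat, ∃ s ∈ (S : Subgroup G) ⊓ L, π s = k := by
      intro k hk
      obtain ⟨s, hs, rfl⟩ := hKhat.1 hk
      exact ⟨s, Subgroup.mem_inf.mpr ⟨hs, (hmemL s).mpr hk⟩, rfl⟩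
    have hgL : g ∈ Subgroup.normalizer (L : Set G) := by
      rw [Subgroup.mem_normalizer_iff] at hyN ⊢
      intro x
      rw [hmemL, hmemL, map_mul, map_mul, map_inv]
      exact hyN (π x)
    have hLeq : L = ((S : Subgroup G) ⊓ L) ⊔ Y := by
      apply le_antisymm
      · intro x hx
        obtain ⟨s, hs, hsx⟩ := hB1 (π x) ((hmemL x).mp hx)
        have h1 : s⁻¹ * x ∈ Y := by
          rw [← hπker, map_mul, map_inv, hsx]; group
        have : x = s * (s⁻¹ * x) := by group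
        rw [this]
        exact Subgroup.mul_mem _ (Subgroup.mem_sup_left hs) (Subgroup.mem_sup_right h1)
      · exact sup_le inf_le_right hYL
    have hidx : ¬ p ∣ ((S : Subgroup G) ⊓ L).relIndex L := by
      have h1 : ((S : Subgroup G) ⊓ L).relIndex L = (S : Subgroup G).relIndex Y := by
        have h0 := Cfsg.Agent.Lib.Helper2.relIndex_sup_left_of_le_normalizer ((S : Subgroup G) ⊓ L) Y
          (by rw [Subgroup.normalizer_eq_top_iff.mpr hY]; exact le_top)
        rw [← hLeq] at h0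
        rw [h0, ← Subgroup.inf_relIndex_right, inf_assoc, inf_eq_right.mpr hYL,
          Subgroup.inf_relIndex_right]
      rw [h1]
      exact not_dvd_relIndex_sylow_normal S Y
    obtain ⟨l, hlL, hln⟩ := frattini_elem L ((S : Subgroup G) ⊓ L) inf_le_right
      (S.isPGroup'.to_le inf_le_left) hidx g hgL
    -- write l = k * y with k ∈ S ⊓ L and y ∈ Y
    obtain ⟨k, hk, hkl⟩ := hB1 (π l) ((hmemL l).mp hlL)
    have hy : k⁻¹ * l ∈ Y := by
      rw [← hπker, map_mul, map_inv, hkl]; group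
    -- n = k⁻¹ * l * g normalizes K and maps to π g
    obtain ⟨n, hn⟩ : ∃ n : G, n = k⁻¹ * (l * g) := ⟨_, rfl⟩
    have hnN : n ∈ Subgroup.normalizer (((S : Subgroup G) ⊓ L : Subgroup G) : Set G) := by
      rw [hn]
      exact Subgroup.mul_mem _ (Subgroup.inv_mem _ (Subgroup.le_normalizer hk)) hln
    have hnπ : π n = π g := by
      rw [hn, ← mul_assoc, map_mul, (hπker _).mpr hy, one_mul]
    -- the subgroup D = comap π (centralizer Khat)
    obtain ⟨D, hD⟩ : ∃ D : Subgroup G, D = (Subgroup.centralizer (Khat : Set (G ⧸ Y))).comap π :=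
      ⟨_, rfl⟩
    have hnD : n ∉ D := by
      rw [hD, Subgroup.mem_comap, hnπ]; exact hyC
    have hnD2 : n ^ (q ^ e) ∈ D := by
      rw [hD, Subgroup.mem_comap, map_pow, hnπ, he]; exact Subgroup.one_mem _
    obtain ⟨m, e', hm, hm'⟩ := exists_pow_qElement D hnD hnD2
    refine ⟨n ^ m, Subgroup.pow_mem _ hnN m, ?_, e', hm'⟩
    intro hc
    apply hm
    rw [hD, Subgroup.mem_comap, Subgroup.mem_centralizer_iff]
    intro k' hk'
    obtain ⟨s, hs, rfl⟩ := hB1 k' hk'
    rw [← map_mul, ← map_mul, (Subgroup.mem_centralizer_iff.mp hc) s hs]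

end quot

end Cfsg.Agent.H9QA
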