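import Mathlib
import Cfsg.Agent.Lib.Helper9.LX6
import Cfsg.Agent.Lib.Helper9.QA2
import Cfsg.Agent.Lib.Helper9.Hyperfocal1

/-!
# Large extraspecial subgroups, two components: `C_L(a)` is a Sylow 2-subgroup of `L`
-/

set_option autoImplicit false
open Cfsg Cfsg.Agent.Lib.Helper9.LargeExtra Cfsg.Agent.Lib.Helper3 Cfsg.Agent.Lib.Helper7

namespace Cfsg.Agent.H9LX

variable {G : Type*} [Group G]

/-- a Sylow 2-subgroup containing `Q` centralizes `z` -/
theorem exists_sylow_central [Finite G] {Q : Subgroup G} {z : G} (h : Core Q z) :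
    ∃ P : Sylow 2 G, Q ≤ (P : Subgroup G) ∧ ∀ s ∈ (P : Subgroup G), s * z = z * s := by
  classical
  haveI : Fact (Nat.Prime 2) := ⟨Nat.prime_two⟩
  obtain ⟨P, hQP⟩ := h.two.exists_le_sylow
  refine ⟨P, hQP, ?_⟩
  have hzP : z ∈ (P : Subgroup G) := hQP h.z_mem
  haveI : Nontrivial ↥(P : Subgroup G) := ⟨⟨⟨z, hzP⟩, 1, fun h1 => h.z_ne (congrArg Subtype.val h1)⟩⟩
  have h1 := P.isPGroup'.bot_lt_center
  obtain ⟨c, hc1⟩ := (Subgroup.ne_bot_iff_exists_ne_one).mp h1.ne'
  have hcc : ∀ s ∈ (P : Subgroup G), ((c : ↥(P : Subgroup G)) : G) * s = s * ((c : ↥(P : Subgroup G)) : G) := by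
    intro s hs
    have h2 := Subgroup.mem_center_iff.mp c.2 ⟨s, hs⟩
    have := congrArg Subtype.val h2
    simpa using this.symm
  have hcz : ((c : ↥(P : Subgroup G)) : G) = z := by
    rcases h.cent _ (fun q hq => hcc q (hQP hq)) with h4 | h4
    · exfalso
      apply hc1
      apply Subtype.ext
      apply Subtype.ext
      simpa using h4
    · exact h4
  intro s hs
  rw [← hcz]
  exact (hcc s hs).symm

namespace TwoA

variable {Q : Subgroup G} {z : G} {L : Subgroup G} {u a : G}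

theorem not_dvd_index [Finite G] (t : TwoA Q z L u a) :
    ¬ 2 ∣ ((Subgroup.centralizer ({a} : Set G)).subgroupOf L).index := by
  classical
  haveI : Fact (Nat.Prime 2) := ⟨Nat.prime_two⟩
  have c := t.two.ctx
  have hL := t.two.comp
  obtain ⟨P, -, hPz⟩ := exists_sylow_central c.core
  set E := Cfsg.layer G with hE
  have hLE : L ≤ E := IsComponent.le_layer hL
  obtain ⟨T, hT⟩ := Cfsg.Agent.Lib.Helper9.exists_sylow_map_eq_inf P E
  haveI hLn : (L.subgroupOf E).Normal := IsComponent.normal_subgroupOf_layer hL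
  have h1 := Cfsg.Agent.H9QA.not_dvd_relIndex_sylow_normal T (L.subgroupOf E)
  have hTeq : (T : Subgroup ↥E) = ((P : Subgroup G) ⊓ E).subgroupOf E := by
    have := Subgroup.comap_map_eq_self_of_injective E.subtype_injective (T : Subgroup ↥E)
    rw [hT] at this
    exact this.symm
  rw [hTeq, Subgroup.relIndex_subgroupOf hLE] at h1
  intro h2
  apply h1
  refine dvd_trans h2 ?_
  show (Subgroup.centralizer ({a} : Set G)).relIndex L ∣ ((P : Subgroup G) ⊓ E).relIndex L
  rw [← Subgroup.inf_relIndex_right (Subgroup.centralizer ({a} : Set G)) L,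
    ← Subgroup.inf_relIndex_right ((P : Subgroup G) ⊓ E) L]
  apply Subgroup.relIndex_dvd_of_le_left
  intro x hx
  refine Subgroup.mem_inf.mpr ⟨?_, hx.2⟩
  rw [Subgroup.mem_centralizer_iff]
  intro y hy
  rw [Set.mem_singleton_iff] at hy
  rw [hy]
  have hxz : x * z = z * x := hPz x hx.1.1
  exact ((c.comm_a_iff t.b_comm t.hz hx.2).mp hxz).symm

/-- `C_L(a)` is a Sylow 2-subgroup of `L` with Frattini subgroup inside `⟨a⟩` -/
theorem exists_sylow [Finite G] (t : TwoA Q z L u a) :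
    ∃ R : Sylow 2 ↥L, (R : Subgroup ↥L) = (Subgroup.centralizer ({a} : Set G)).subgroupOf L ∧
      (frattini ↥(R : Subgroup ↥L)).map ((L.subtype).comp (R : Subgroup ↥L).subtype) ≤
        Subgroup.zpowers a := by
  haveI : Fact (Nat.Prime 2) := ⟨Nat.prime_two⟩
  refine ⟨t.isPGroup.toSylow t.not_dvd_index, IsPGroup.toSylow_coe _ _, ?_⟩
  apply t.frattini_le
  rw [IsPGroup.toSylow_coe]

end TwoA

end Cfsg.Agent.H9LX
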