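import Mathlib
import Cfsg.Agent.Lib.Helper9.LX6
import Cfsg.Agent.Lib.Helper9.LargeExtra13

/-!
# Large extraspecial subgroups, two components: `Q` is not `O_2(C(z))`
-/

set_option autoImplicit false
open Cfsg Cfsg.Agent.Lib.Helper9.LargeExtra Cfsg.Agent.Lib.Helper3 Cfsg.Agent.Lib.Helper7

namespace Cfsg.Agent.H9LX

variable {G : Type*} [Group G]

namespace TwoA

variable {Q : Subgroup G} {z : G} {L : Subgroup G} {u a : G}

theorem z_not_mem [Finite G] (t : TwoA Q z L u a) : z ∉ L := by
  intro hz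
  apply not_le_centralizer_of_isComponent t.two.ctx.core t.two.comp'
  intro y hy
  rw [Subgroup.mem_centralizer_iff]
  intro w hw
  rw [Set.mem_singleton_iff] at hw
  rw [hw]
  exact t.two.commute z hz y hy

theorem z_not_mem' [Finite G] (t : TwoA Q z L u a) : z ∉ cj u L := by
  intro hz
  apply not_le_centralizer_of_isComponent t.two.ctx.core t.two.comp
  intro y hy
  rw [Subgroup.mem_centralizer_iff]
  intro w hw
  rw [Set.mem_singleton_iff] at hw
  rw [hw]
  exact (t.two.commute y hy z hz).symm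

theorem cj_u_of_fix [Finite G] (t : TwoA Q z L u a) {q : G} (hq : q ∈ Q) (h : cj q L = L) :
    cj q (cj u L) = cj u L := by
  rcases t.two.only (q * u) (Q.mul_mem hq t.two.uQ) with h1 | h1
  · exfalso
    rw [cj_mul] at h1
    apply t.two.ne
    have h2 : cj q⁻¹ (cj q (cj u L)) = cj q⁻¹ (cj q L) := by rw [h1, h]
    rwa [cj_inv_cj, cj_inv_cj] at h2
  · rw [← cj_mul]; exact h1

/-- elements of `Q` fixing `L` centralize `Q ∩ L` and `Q ∩ cj u L` -/
theorem comm_of_fix [Finite G] (t : TwoA Q z L u a) {q : G} (hq : q ∈ Q) (h : cj q L = L)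
    {x : G} (hxQ : x ∈ Q) : (x ∈ L → q * x = x * q) ∧ (x ∈ cj u L → q * x = x * q) := by
  have c := t.two.ctx
  have key : ∀ K : Subgroup G, cj q K = K → z ∉ K → x ∈ K → q * x = x * q := by
    intro K hK hzK hxK
    have h1 : q * x * q⁻¹ * x⁻¹ ∈ K := by
      apply K.mul_mem _ (K.inv_mem hxK)
      have : q * x * q⁻¹ ∈ cj q K := Ctx.mem_cj_conj hxK
      rwa [hK] at this
    rcases c.core.comm_mem q hq x hxQ with h2 | h2
    · calc q * x = (q * x * q⁻¹ * x⁻¹) * (x * q) := by group
        _ = x * q := by rw [h2, one_mul]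
    · rw [h2] at h1
      exact absurd h1 hzK
  exact ⟨key L h t.z_not_mem, key (cj u L) (t.cj_u_of_fix hq h) t.z_not_mem'⟩

theorem uu_comm [Finite G] (t : TwoA Q z L u a) {x : G} (hxz : x * z = z * x) :
    (u * u) * x = x * (u * u) := by
  rcases t.two.ctx.sq u t.two.uQ with h | h <;> rw [h]
  · simp
  · exact hxz.symm

/-- if `C_L(a) ≤ Q` then `C_L(a) = {1, a}` -/
theorem cent_cases_of_le [Finite G] (t : TwoA Q z L u a)
    (hRQ : ∀ x ∈ L, x * a = a * x → x ∈ Q) : ∀ x ∈ L, x * a = a * x → x = 1 ∨ x = a := by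
  have c := t.two.ctx
  have hL := t.two.comp
  have hu := t.two.uQ
  intro x hx hxa
  have hxQ := hRQ x hx hxa
  have hxz := t.comm_z hx hxa
  set y := u * x * u⁻¹ with hy
  have hyL : y ∈ cj u L := Ctx.mem_cj_conj hx
  have hyQ : y ∈ Q := Q.mul_mem (Q.mul_mem hu hxQ) (Q.inv_mem hu)
  have hxy : x * y = y * x := t.two.commute x hx y hyL
  have hyLc : ∀ w ∈ L, y * w = w * y := fun w hw => (t.two.commute w hw y hyL).symm
  -- elements fixing `L`
  have hfix : ∀ q ∈ Q, cj q L = L → q * x = x * q ∧ q * y = y * q := by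
    intro q hq hqL
    exact ⟨(t.comm_of_fix hq hqL hxQ).1 hx, (t.comm_of_fix hq hqL hyQ).2 hyL⟩
  have hcent : ∀ q ∈ Q, (y * x) * q = q * (y * x) := by
    intro q hq
    rcases t.two.only q hq with hqL | hqL
    · obtain ⟨h1, h2⟩ := hfix q hq hqL
      calc (y * x) * q = y * (x * q) := by group
        _ = y * (q * x) := by rw [h1]
        _ = (y * q) * x := by group
        _ = (q * y) * x := by rw [h2]
        _ = q * (y * x) := by group
    · -- `q = u * q'` with `q'` fixing `L`
      have hq' : u⁻¹ * q ∈ Q := Q.mul_mem (Q.inv_mem hu) hq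
      have hq'L : cj (u⁻¹ * q) L = L := by rw [cj_mul, hqL, cj_inv_cj]
      obtain ⟨h1, h2⟩ := hfix _ hq' hq'L
      have e1 : q * x = y * q := by
        calc q * x = u * ((u⁻¹ * q) * x) := by group
          _ = u * (x * (u⁻¹ * q)) := by rw [h1]
          _ = y * q := by rw [hy]; group
      have e2 : q * y = x * q := by
        have huu := t.uu_comm hxz
        calc q * y = u * ((u⁻¹ * q) * y) := by group
          _ = u * (y * (u⁻¹ * q)) := by rw [h2]
          _ = ((u * u) * x) * (u⁻¹ * u⁻¹ * q) := by rw [hy]; group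
          _ = (x * (u * u)) * (u⁻¹ * u⁻¹ * q) := by rw [huu]
          _ = x * q := by group
      calc (y * x) * q = (x * y) * q := by rw [hxy]
        _ = x * (y * q) := by group
        _ = x * (q * x) := by rw [e1]
        _ = (x * q) * x := by group
        _ = (q * y) * x := by rw [e2]
        _ = q * (y * x) := by group
  rcases c.core.cent (y * x) hcent with h1 | h1
  · left
    rw [← hxy] at h1
    exact (c.decomp_unique hL hx L.one_mem hyLc (b' := 1) (fun w _ => by simp)
      (by rw [h1]; simp)).1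
  · right
    rw [← hxy, t.hz] at h1
    exact (c.decomp_unique hL hx t.aL hyLc t.b_comm h1).1

end TwoA

end Cfsg.Agent.H9LX
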