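import Mathlib
import Cfsg.Agent.Lib.Helper9.LX8

/-!
# Large extraspecial subgroups, two components: `Q ≠ O_2(C(z))`
-/

set_option autoImplicit false
open Cfsg Cfsg.Agent.Lib.Helper9.LargeExtra Cfsg.Agent.Lib.Helper3 Cfsg.Agent.Lib.Helper7

namespace Cfsg.Agent.H9LX

variable {G : Type*} [Group G]

namespace TwoA

variable {Q : Subgroup G} {z : G} {L : Subgroup G} {u a : G}

theorem mem_C_iff (z c : G) : c ∈ Subgroup.centralizer ({z} : Set G) ↔ c * z = z * c := by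
  rw [Subgroup.mem_centralizer_iff]
  constructor
  · intro h1; exact (h1 z rfl).symm
  · intro h1 x hx
    rw [Set.mem_singleton_iff] at hx
    rw [hx]; exact h1.symm

/-- `(L ∩ C(z)) (L ∩ C(z))^u` is a normal 2-subgroup of `C(z)` -/
theorem R_le_pCoreMap [Finite G] (t : TwoA Q z L u a) :
    L ⊓ Subgroup.centralizer ({z} : Set G) ≤
      (Cfsg.pCore 2 ↥(Subgroup.centralizer ({z} : Set G))).map
        (Subgroup.centralizer ({z} : Set G)).subtype := by
  classical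
  have c := t.two.ctx
  have hL := t.two.comp
  have hu := t.two.uQ
  set C := Subgroup.centralizer ({z} : Set G) with hC
  set R := L ⊓ C with hR
  have huC : u ∈ C := (mem_C_iff z u).mpr (c.core.z_comm u hu)
  have hRa : ∀ x ∈ R, x * a = a * x := by
    intro x hx
    exact (c.comm_a_iff t.b_comm t.hz hx.1).mp ((mem_C_iff z x).mp hx.2)
  have hR4 : ∀ x ∈ R, x ^ 4 = 1 := fun x hx => t.pow_four hx.1 (hRa x hx)
  have hcomm : ∀ x ∈ R, ∀ y ∈ cj u R, x * y = y * x := by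
    intro x hx y hy
    exact t.two.commute x hx.1 y (cj_mono u inf_le_left hy)
  -- key: conjugates of R by elements of C
  have key : ∀ g ∈ C, cj g R ≤ R ⊔ cj u R := by
    intro g hg
    rintro _ ⟨x, hx, rfl⟩
    have hgx : g * x * g⁻¹ ∈ C := C.mul_mem (C.mul_mem hg hx.2) (C.inv_mem hg)
    have hgxL : g * x * g⁻¹ ∈ cj g L := Ctx.mem_cj_conj hx.1
    rcases t.two.comp_cases (Ctx.cj_isComponent hL g) with h1 | h1
    · rw [h1] at hgxL
      exact (le_sup_left : R ≤ R ⊔ cj u R) ⟨hgxL, hgx⟩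
    · rw [h1] at hgxL
      apply (le_sup_right : cj u R ≤ R ⊔ cj u R)
      rw [mem_cj]
      refine ⟨(mem_cj u _ L).mp hgxL, ?_⟩
      exact C.mul_mem (C.mul_mem (C.inv_mem huC) hgx) huC
  apply le_trans (le_sup_left : R ≤ R ⊔ cj u R)
  apply le_pCoreMap 2 C (R ⊔ cj u R)
  · exact sup_le inf_le_right (cj_le_of_mem huC inf_le_right)
  · rintro ⟨w, hw⟩
    obtain ⟨x, hx, y, hy, rfl⟩ := Cfsg.Agent.Lib.Lead.mem_sup_of_commute _ _ hcomm hw
    refine ⟨2, ?_⟩
    apply Subtype.ext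
    show (x * y) ^ 2 ^ 2 = 1
    have hy4 : y ^ 4 = 1 := by
      obtain ⟨y', hy', rfl⟩ := hy
      show (u * y' * u⁻¹) ^ 4 = 1
      rw [conj_pow, hR4 y' hy']
      group
    have h2 : (2 : ℕ) ^ 2 = 4 := by norm_num
    rw [h2, (Commute.mul_pow (hcomm x hx y hy) 4), hR4 x hx, hy4, one_mul]
  · intro g hg x hx
    have h1 : cj g (R ⊔ cj u R) ≤ R ⊔ cj u R := by
      rw [cj_sup, ← cj_mul]
      exact sup_le (key g hg) (key (g * u) (C.mul_mem hg huC))
    exact h1 ⟨x, hx, rfl⟩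

/-- `Q` is not the largest normal 2-subgroup of `C(z)` -/
theorem Q_ne [Finite G] (t : TwoA Q z L u a) :
    Q ≠ (Cfsg.pCore 2 ↥(Subgroup.centralizer ({z} : Set G))).map
        (Subgroup.centralizer ({z} : Set G)).subtype := by
  intro hQ
  have c := t.two.ctx
  have hRQ : ∀ x ∈ L, x * a = a * x → x ∈ Q := by
    intro x hx hxa
    rw [hQ]
    apply t.R_le_pCoreMap
    exact Subgroup.mem_inf.mpr ⟨hx, (mem_C_iff z x).mpr (t.comm_z hx hxa)⟩
  exact c.not_selfcent t.two.comp t.aL t.b_comm t.hz (t.cent_cases_of_le hRQ)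

end TwoA

end Cfsg.Agent.H9LX
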