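import Mathlib
import Cfsg.Agent.Lib.Helper9.LagDefs
import Cfsg.Agent.Lib.Helper9.CarveL2
import Cfsg.Agent.Lib.Helper9.CarveL3
import Cfsg.Agent.Lib.Helper3.CarveL1
import Cfsg.Agent.Lib.Helper8.CarveL4
import Cfsg.Agent.Lib.Helper7.CarveL5
import Cfsg.Agent.S0245
import Cfsg.Agent.Lib.Helper1.SpBasic
import Cfsg.Agent.Lib.Helper2.SpIsom
import Cfsg.Agent.Lib.Helper2.Symp2

/-!
# S5963: assembly
-/

set_option autoImplicit false

namespace Cfsg.Agent.Lib.Helper9.Lag

open Cfsg.Agent.Lib.Carve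

universe u

variable {F : Type u} [Field F] {d : ℕ}

/-- the linear map of a symplectic matrix -/
noncomputable def lin (g : Matrix.symplecticGroup (Fin d) F) :
    (Fin d ⊕ Fin d → F) →ₗ[F] (Fin d ⊕ Fin d → F) :=
  Matrix.toLin' (g : Matrix (Fin d ⊕ Fin d) (Fin d ⊕ Fin d) F)

theorem lin_one : lin (1 : Matrix.symplecticGroup (Fin d) F) = LinearMap.id := by
  unfold lin
  simp

theorem lin_mul (g g' : Matrix.symplecticGroup (Fin d) F) :
    lin (g * g') = (lin g).comp (lin g') := by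
  unfold lin
  rw [← Matrix.toLin'_mul]
  rfl

theorem lin_pow (g : Matrix.symplecticGroup (Fin d) F) (k : ℕ) : lin (g ^ k) = (lin g) ^ k := by
  induction k with
  | zero => rw [pow_zero, pow_zero, lin_one]; rfl
  | succ k ih => rw [pow_succ, pow_succ, lin_mul, ih]; rfl

theorem lin_form (g : Matrix.symplecticGroup (Fin d) F) (u v : Fin d ⊕ Fin d → F) :
    Cfsg.sympForm d F (lin g u) (lin g v) = Cfsg.sympForm d F u v := by
  unfold lin
  rw [Matrix.toLin'_apply, Matrix.toLin'_apply]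
  exact Cfsg.Agent.Lib.Helper1.SpBasic.form_mulVec g u v

/-- the linear equivalence of a symplectic matrix -/
noncomputable def linE (g : Matrix.symplecticGroup (Fin d) F) :
    (Fin d ⊕ Fin d → F) ≃ₗ[F] (Fin d ⊕ Fin d → F) :=
  LinearEquiv.ofLinear (lin g) (lin g⁻¹)
    (by rw [← lin_mul, mul_inv_cancel, lin_one])
    (by rw [← lin_mul, inv_mul_cancel, lin_one])

theorem linE_coe (g : Matrix.symplecticGroup (Fin d) F) :
    ((linE g : (Fin d ⊕ Fin d → F) ≃ₗ[F] (Fin d ⊕ Fin d → F)) :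
      (Fin d ⊕ Fin d → F) →ₗ[F] (Fin d ⊕ Fin d → F)) = lin g := rfl

theorem isLagPair_map (g : Matrix.symplecticGroup (Fin d) F)
    {U W : Submodule F (Fin d ⊕ Fin d → F)} (h : IsLagPair d F U W) :
    IsLagPair d F (U.map (lin g)) (W.map (lin g)) := by
  obtain ⟨hc, hU, hW⟩ := h
  refine ⟨?_, ?_, ?_⟩
  · have := (Submodule.orderIsoMapComap (linE g)).isCompl hc
    simpa [linE_coe] using this
  · rintro _ ⟨u, hu, rfl⟩ _ ⟨v, hv, rfl⟩
    rw [lin_form]
    exact hU u hu v hv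
  · rintro _ ⟨u, hu, rfl⟩ _ ⟨v, hv, rfl⟩
    rw [lin_form]
    exact hW u hu v hv

/-- the action of the symplectic group on pairs of subspaces -/
@[reducible] noncomputable def pairAction : MulAction (Matrix.symplecticGroup (Fin d) F)
    (Submodule F (Fin d ⊕ Fin d → F) × Submodule F (Fin d ⊕ Fin d → F)) where
  smul g P := (P.1.map (lin g), P.2.map (lin g))
  one_smul P := by
    show ((P.1.map (lin 1), P.2.map (lin 1)) : _ × _) = P
    rw [lin_one, Submodule.map_id, Submodule.map_id]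
  mul_smul g g' P := by
    show ((P.1.map (lin (g * g')), P.2.map (lin (g * g'))) : _ × _) =
      ((P.1.map (lin g')).map (lin g), (P.2.map (lin g')).map (lin g))
    rw [lin_mul, Submodule.map_comp, Submodule.map_comp]

section count

variable [Fintype F]

/-- the number of pairs of complementary Lagrangians -/
theorem card_pairs (d : ℕ) :
    Nat.card {P : Submodule F (Fin d ⊕ Fin d → F) × Submodule F (Fin d ⊕ Fin d → F) //
      IsCompl P.1 P.2 ∧ (∀ u ∈ P.1, ∀ v ∈ P.1, Cfsg.sympForm d F u v = 0) ∧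
        (∀ u ∈ P.2, ∀ v ∈ P.2, Cfsg.sympForm d F u v = 0)} * Nat.card (GL (Fin d) F) =
      Nat.card (Matrix.symplecticGroup (Fin d) F) := by
  classical
  letI := pairAction (F := F) (d := d)
  have hsm : ∀ (g : Matrix.symplecticGroup (Fin d) F)
      (P : Submodule F (Fin d ⊕ Fin d → F) × Submodule F (Fin d ⊕ Fin d → F)),
      g • P = (P.1.map (lin g), P.2.map (lin g)) := fun g P => rfl
  set b : Submodule F (Fin d ⊕ Fin d → F) × Submodule F (Fin d ⊕ Fin d → F) :=
    (stdU d F, stdW d F) with hb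
  have horb : ∀ P : Submodule F (Fin d ⊕ Fin d → F) × Submodule F (Fin d ⊕ Fin d → F),
      P ∈ MulAction.orbit (Matrix.symplecticGroup (Fin d) F) b ↔
        (IsCompl P.1 P.2 ∧ (∀ u ∈ P.1, ∀ v ∈ P.1, Cfsg.sympForm d F u v = 0) ∧
          (∀ u ∈ P.2, ∀ v ∈ P.2, Cfsg.sympForm d F u v = 0)) := by
    intro P
    constructor
    · rintro ⟨g, rfl⟩
      exact isLagPair_map g (L2.std_pair d)
    · intro h
      obtain ⟨g, h1, h2⟩ := L1.transitive d P.1 P.2 h
      refine ⟨g, ?_⟩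
      show g • b = P
      rw [hsm]
      exact Prod.ext h1 h2
  have hstab : ∀ g : Matrix.symplecticGroup (Fin d) F,
      g ∈ MulAction.stabilizer (Matrix.symplecticGroup (Fin d) F) b ↔
        ((stdU d F).map (Matrix.toLin' (g : Matrix (Fin d ⊕ Fin d) (Fin d ⊕ Fin d) F)) = stdU d F ∧
        (stdW d F).map (Matrix.toLin' (g : Matrix (Fin d ⊕ Fin d) (Fin d ⊕ Fin d) F)) = stdW d F) := by
    intro g
    rw [MulAction.mem_stabilizer_iff, hsm]
    exact Prod.ext_iff
  have h1 : Nat.card {P : Submodule F (Fin d ⊕ Fin d → F) × Submodule F (Fin d ⊕ Fin d → F) //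
      IsCompl P.1 P.2 ∧ (∀ u ∈ P.1, ∀ v ∈ P.1, Cfsg.sympForm d F u v = 0) ∧
        (∀ u ∈ P.2, ∀ v ∈ P.2, Cfsg.sympForm d F u v = 0)} =
      Nat.card (MulAction.orbit (Matrix.symplecticGroup (Fin d) F) b) :=
    Nat.card_congr (Equiv.subtypeEquivRight (fun P => (horb P).symm))
  have h2 : Nat.card (GL (Fin d) F) =
      Nat.card (MulAction.stabilizer (Matrix.symplecticGroup (Fin d) F) b) := by
    rw [← L2.card_stab d]
    exact Nat.card_congr (Equiv.subtypeEquivRight (fun g => (hstab g).symm))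
  rw [h1, h2]
  have h3 := MulAction.orbitEquivQuotientStabilizer (Matrix.symplecticGroup (Fin d) F) b
  rw [Nat.card_congr h3]
  exact (Subgroup.card_eq_card_quotient_mul_card_subgroup
    (MulAction.stabilizer (Matrix.symplecticGroup (Fin d) F) b)).symm

end count

theorem map_pow_swap {U W : Submodule F (Fin d ⊕ Fin d → F)}
    {X : (Fin d ⊕ Fin d → F) →ₗ[F] (Fin d ⊕ Fin d → F)} (h1 : U.map X = W) (h2 : W.map X = U)
    (k : ℕ) : U.map (X ^ (2 * k)) = U ∧ U.map (X ^ (2 * k + 1)) = W := by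
  induction k with
  | zero =>
    refine ⟨?_, ?_⟩
    · rw [mul_zero, pow_zero]
      exact Submodule.map_id U
    · rw [mul_zero, zero_add, pow_one]
      exact h1
  | succ k ih =>
    have e1 : X ^ (2 * (k + 1)) = X.comp (X ^ (2 * k + 1)) := by
      rw [show 2 * (k + 1) = (2 * k + 1) + 1 by ring, pow_succ']
      rfl
    have e2 : X ^ (2 * (k + 1) + 1) = X.comp (X ^ (2 * (k + 1))) := by
      rw [pow_succ']
      rfl
    have h3 : U.map (X ^ (2 * (k + 1))) = U := by
      rw [e1, Submodule.map_comp, ih.2, h2]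
    refine ⟨h3, ?_⟩
    rw [e2, Submodule.map_comp, h3, h1]

/-- **S5963** -/
theorem lag_main [Fintype F] {p : ℕ} [Fact p.Prime] [CharP F p] {q : ℕ}
    (hq : Fintype.card F = q) (d : ℕ) (hd : 2 ≤ d) (hodd : Odd q)
    (r : ℕ) [Fact r.Prime] (hr2 : r ≠ 2) (hrp : r ≠ p)
    (hΩ : r ∣ Nat.card {P : Submodule F (Fin d ⊕ Fin d → F) × Submodule F (Fin d ⊕ Fin d → F) //
      IsCompl P.1 P.2 ∧ (∀ u ∈ P.1, ∀ v ∈ P.1, Cfsg.sympForm d F u v = 0) ∧
        (∀ u ∈ P.2, ∀ v ∈ P.2, Cfsg.sympForm d F u v = 0)} / 2) :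
    ∃ x : ↥(Matrix.symplecticGroup (Fin d) F),
      (∃ z : F, ((x ^ r : ↥(Matrix.symplecticGroup (Fin d) F)) :
        Matrix (Fin d ⊕ Fin d) (Fin d ⊕ Fin d) F) =
          z • (1 : Matrix (Fin d ⊕ Fin d) (Fin d ⊕ Fin d) F)) ∧
      (∀ z : F, (x : Matrix (Fin d ⊕ Fin d) (Fin d ⊕ Fin d) F) ≠
        z • (1 : Matrix (Fin d ⊕ Fin d) (Fin d ⊕ Fin d) F)) ∧
      ¬ (∃ U W : Submodule F (Fin d ⊕ Fin d → F), IsCompl U W ∧
        (∀ u ∈ U, ∀ v ∈ U, Cfsg.sympForm d F u v = 0) ∧
        (∀ u ∈ W, ∀ v ∈ W, Cfsg.sympForm d F u v = 0) ∧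
        ((U.map (Matrix.toLin' (x : Matrix (Fin d ⊕ Fin d) (Fin d ⊕ Fin d) F)) = U ∧
          W.map (Matrix.toLin' (x : Matrix (Fin d ⊕ Fin d) (Fin d ⊕ Fin d) F)) = W) ∨
         (U.map (Matrix.toLin' (x : Matrix (Fin d ⊕ Fin d) (Fin d ⊕ Fin d) F)) = W ∧
          W.map (Matrix.toLin' (x : Matrix (Fin d ⊕ Fin d) (Fin d ⊕ Fin d) F)) = U))) := by
  classical
  have hr : r.Prime := Fact.out
  have hp : p.Prime := Fact.out
  have hcount := card_pairs (F := F) d
  rw [Matrix.card_GL_field, Cfsg.Agent.S0245.result hq d, hq] at hcount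
  have hq2 : 2 ≤ q := by
    rw [← hq]
    exact Fintype.one_lt_card
  have hrq : ¬ r ∣ q := by
    intro h
    obtain ⟨n, -, hn⟩ := FiniteField.card F p
    rw [hq] at hn
    rw [hn] at h
    exact hrp ((Nat.prime_dvd_prime_iff_eq hr hp).1 (hr.dvd_of_dvd_pow h))
  obtain ⟨h, hh1, hhd, hrh, hord⟩ := L3.arith hq2 hodd (by omega) hr hr2 hrq hcount hΩ
  obtain ⟨x, hxr, hrank⟩ := L5.exists_elt hq d h r hh1 hhd hr hrh hr2
  have hrF : (r : F) ≠ 0 := by
    intro h0
    have := (CharP.cast_eq_zero_iff F p r).1 h0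
    exact hrp ((Nat.prime_dvd_prime_iff_eq hp hr).1 this).symm
  have hXr : (lin x) ^ r = 1 := by
    rw [← lin_pow, hxr, lin_one]
    rfl
  have hno := L4.no_pair hq d (lin x) (lin_form x) r hr hrF hXr (2 * h) hord (by omega) hrank
  haveI : Nonempty (Fin d ⊕ Fin d) := ⟨Sum.inl ⟨0, by omega⟩⟩
  refine ⟨x, ⟨1, ?_⟩, ?_, ?_⟩
  · rw [hxr, one_smul]
    rfl
  · intro z hz
    have hlin : lin x = z • LinearMap.id := by
      unfold lin
      rw [hz]
      ext v i
      simp
    -- `z * z = 1`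
    have hzz : z * z = 1 := by
      set u₀ : Fin d ⊕ Fin d → F := Pi.single (Sum.inl ⟨0, by omega⟩) 1 with hu₀
      have hu₀0 : u₀ ≠ 0 := by
        intro h
        have := congrFun h (Sum.inl ⟨0, by omega⟩)
        simp [hu₀] at this
      obtain ⟨v₀, hv₀⟩ : ∃ v₀, Cfsg.sympForm d F u₀ v₀ ≠ 0 := by
        by_contra hcon
        push Not at hcon
        exact hu₀0 (Cfsg.Agent.Lib.Helper2.SpIsom.sympForm_nondeg u₀ hcon)
      have h1 := lin_form x u₀ v₀
      rw [hlin] at h1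
      simp only [LinearMap.smul_apply, LinearMap.id_coe, id_eq] at h1
      rw [Cfsg.Agent.Lib.Helper2.Symp.sympForm_smul_left,
        Cfsg.Agent.Lib.Helper2.Symp.sympForm_smul_right, ← mul_assoc] at h1
      have h3 : (z * z - 1) * Cfsg.sympForm d F u₀ v₀ = 0 := by linear_combination h1
      rcases mul_eq_zero.1 h3 with h4 | h4
      · linear_combination h4
      · exact absurd h4 hv₀
    -- `z ^ r = 1`
    have hzr : z ^ r = 1 := by
      have h1 : (lin x) ^ r = (z ^ r) • LinearMap.id := by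
        rw [hlin, smul_pow]
        congr 1
        exact one_pow r
      rw [hXr] at h1
      have h2 := congrArg (fun f : (Fin d ⊕ Fin d → F) →ₗ[F] (Fin d ⊕ Fin d → F) =>
        f (Pi.single (Sum.inl ⟨0, by omega⟩) 1) (Sum.inl ⟨0, by omega⟩)) h1
      simp at h2
      exact h2.symm
    have hz1 : z = 1 := by
      obtain ⟨k, hk⟩ := hr.odd_of_ne_two hr2
      have : z ^ r = z := by
        rw [hk, pow_succ, pow_mul, pow_two, hzz, one_pow, one_mul]
      rw [← this, hzr]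
    have hzero : lin x - 1 = 0 := by
      rw [hlin, hz1, one_smul]
      exact sub_self _
    have hlinx : Matrix.toLin' (x : Matrix (Fin d ⊕ Fin d) (Fin d ⊕ Fin d) F) = lin x := rfl
    rw [hlinx, hzero, LinearMap.range_zero, finrank_bot] at hrank
    omega
  · rintro ⟨U, W, hc, hU, hW, hfix | hswap⟩
    · exact hno ⟨U, W, ⟨hc, hU, hW⟩, hfix.1, hfix.2⟩
    · obtain ⟨k, hk⟩ := hr.odd_of_ne_two hr2
      have h1 := (map_pow_swap (X := lin x) hswap.1 hswap.2 k).2
      rw [← hk, hXr] at h1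
      have hUW : U = W := by
        rw [← h1]
        exact (Submodule.map_id U).symm
      subst hUW
      have hbot : U = ⊥ := by
        have := hc.inf_eq_bot
        rwa [inf_idem] at this
      have htop : U = ⊤ := by
        have := hc.sup_eq_top
        rwa [sup_idem] at this
      rw [hbot] at htop
      exact bot_ne_top htop

end Cfsg.Agent.Lib.Helper9.Lag
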