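import Mathlib
import Cfsg.Prelude.Def_MonsterType
import Cfsg.Agent.Lib.Helper9.LargeExtra
import Cfsg.Agent.Lib.Helper9.LargeExtra10

set_option autoImplicit false
open Cfsg

namespace Cfsg.Agent.Lib.Helper9.LargeExtra

variable {G : Type*} [Group G]

theorem mem_zpowers_invol {t x : G} (htt : t * t = 1) :
    x ∈ Subgroup.zpowers t ↔ x = 1 ∨ x = t := by
  constructor
  · intro hx
    obtain ⟨k, rfl⟩ := Subgroup.mem_zpowers_iff.mp hx
    have h2 : t ^ (2 : ℤ) = 1 := by rw [zpow_two]; exact htt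
    have hk : t ^ k = t ^ (k % 2) := by
      conv_lhs => rw [← Int.emod_add_mul_ediv k 2]
      rw [zpow_add, zpow_mul, h2, one_zpow, mul_one]
    rcases Int.emod_two_eq_zero_or_one k with h | h
    · left; rw [hk, h, zpow_zero]
    · right; rw [hk, h, zpow_one]
  · rintro (rfl | rfl)
    · exact Subgroup.one_mem _
    · exact Subgroup.mem_zpowers _

/-- Transfer of the large-extraspecial property to the image of `P` in a section `M / N`. -/
theorem isLargeExtraspecial_quotient [Finite G] (M N P : Subgroup G)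
    [hn : (N.subgroupOf M).Normal]
    (hPM : P ≤ M) (z : G) (hzP : z ∈ P) (hzN : z ∉ N) (hzz : z * z = 1)
    (hzc : ∀ p ∈ P, p * z = z * p)
    (hcomm : ∀ p ∈ P, ∀ r ∈ P, p * r * p⁻¹ * r⁻¹ = 1 ∨ p * r * p⁻¹ * r⁻¹ = z)
    (hcent : ∀ x ∈ M, (∀ p ∈ P, x * p * x⁻¹ * p⁻¹ ∈ N) → x ∈ N ∨ z⁻¹ * x ∈ N)
    (hnorm : ∀ x ∈ M, x * z * x⁻¹ * z⁻¹ ∈ N → ∀ p ∈ P, x * p * x⁻¹ ∈ P)
    (htwo : IsPGroup 2 P)
    (hsq : ∀ p ∈ P, p * p = 1 ∨ p * p = z)
    (x0 : G) (hx0M : x0 ∈ M) (hx0P : x0 * z * x0⁻¹ ∈ P) (hx0N : z⁻¹ * (x0 * z * x0⁻¹) ∉ N) :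
    IsLargeExtraspecial ((P.subgroupOf M).map (QuotientGroup.mk' (N.subgroupOf M))) := by
  classical
  obtain ⟨π, hπ⟩ : ∃ π : ↥M →* ↥M ⧸ N.subgroupOf M, π = QuotientGroup.mk' (N.subgroupOf M) :=
    ⟨_, rfl⟩
  rw [← hπ]
  have hker : ∀ x : ↥M, π x = 1 ↔ (x : G) ∈ N := by
    intro x
    rw [hπ, QuotientGroup.mk'_apply, QuotientGroup.eq_one_iff, Subgroup.mem_subgroupOf]
  have hsurj : Function.Surjective π := by rw [hπ]; exact QuotientGroup.mk'_surjective _
  have hmemP : ∀ X, X ∈ (P.subgroupOf M).map π ↔ ∃ p : ↥M, (p : G) ∈ P ∧ π p = X := by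
    intro X
    rw [Subgroup.mem_map]
    simp only [Subgroup.mem_subgroupOf]
  obtain ⟨zM, hzM⟩ : ∃ zM : ↥M, zM = ⟨z, hPM hzP⟩ := ⟨_, rfl⟩
  have hzMv : (zM : G) = z := by rw [hzM]
  have hcore : Core ((P.subgroupOf M).map π) (π zM) := by
    refine ⟨?_, ?_, ?_, ?_, ?_, ?_, ?_, ?_⟩
    · intro h1
      apply hzN
      rw [← hzMv]
      exact (hker zM).mp h1
    · rw [← map_mul]
      have : zM * zM = 1 := by
        apply Subtype.ext
        rw [Subgroup.coe_mul, hzMv]; exact hzz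
      rw [this, map_one]
    · exact (hmemP _).mpr ⟨zM, by rw [hzMv]; exact hzP, rfl⟩
    · intro X hX
      obtain ⟨p, hp, rfl⟩ := (hmemP X).mp hX
      rw [← map_mul, ← map_mul]
      congr 1
      apply Subtype.ext
      rw [Subgroup.coe_mul, Subgroup.coe_mul, hzMv]
      exact hzc p hp
    · intro X hX Y hY
      obtain ⟨p, hp, rfl⟩ := (hmemP X).mp hX
      obtain ⟨r, hr, rfl⟩ := (hmemP Y).mp hY
      have e : π p * π r * (π p)⁻¹ * (π r)⁻¹ = π (p * r * p⁻¹ * r⁻¹) := by
        simp only [map_mul, map_inv]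
      rw [e]
      rcases hcomm p hp r hr with h1 | h1
      · left
        have : p * r * p⁻¹ * r⁻¹ = 1 := by
          apply Subtype.ext
          simp only [Subgroup.coe_mul, Subgroup.coe_inv, Subgroup.coe_one]
          exact h1
        rw [this, map_one]
      · right
        have : p * r * p⁻¹ * r⁻¹ = zM := by
          apply Subtype.ext
          simp only [Subgroup.coe_mul, Subgroup.coe_inv]
          rw [hzMv]
          exact h1
        rw [this]
    · intro c hc
      obtain ⟨x, rfl⟩ := hsurj c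
      have h1 : ∀ p ∈ P, (x : G) * p * (x : G)⁻¹ * p⁻¹ ∈ N := by
        intro p hp
        have h2 := hc (π ⟨p, hPM hp⟩) ((hmemP _).mpr ⟨⟨p, hPM hp⟩, hp, rfl⟩)
        have h3 : π (x * ⟨p, hPM hp⟩ * x⁻¹ * (⟨p, hPM hp⟩ : ↥M)⁻¹) = 1 := by
          simp only [map_mul, map_inv]
          rw [h2]; group
        have h4 := (hker _).mp h3
        simpa using h4
      rcases hcent x x.2 h1 with h2 | h2
      · left; exact (hker x).mpr h2
      · right
        have h3 : π (zM⁻¹ * x) = 1 := by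
          rw [hker]
          simp only [Subgroup.coe_mul, Subgroup.coe_inv]
          rw [hzMv]; exact h2
        rw [map_mul, map_inv] at h3
        calc π x = π zM * ((π zM)⁻¹ * π x) := by group
          _ = π zM := by rw [h3, mul_one]
    · intro c hc X hX
      obtain ⟨x, rfl⟩ := hsurj c
      obtain ⟨p, hp, rfl⟩ := (hmemP X).mp hX
      have h3 : π (x * zM * x⁻¹ * zM⁻¹) = 1 := by
        simp only [map_mul, map_inv]
        rw [hc]; group
      have h4 := (hker _).mp h3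
      simp only [Subgroup.coe_mul, Subgroup.coe_inv] at h4
      rw [hzMv] at h4
      have h5 := hnorm x x.2 h4 p hp
      rw [hmemP]
      refine ⟨x * p * x⁻¹, ?_, ?_⟩
      · simp only [Subgroup.coe_mul, Subgroup.coe_inv]
        exact h5
      · simp only [map_mul, map_inv]
    · exact (htwo.comap_subtype).map π
  have hsq' : ∀ X ∈ (P.subgroupOf M).map π, X * X = 1 ∨ X * X = π zM := by
    intro X hX
    obtain ⟨p, hp, rfl⟩ := (hmemP X).mp hX
    rw [← map_mul]
    rcases hsq p hp with h1 | h1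
    · left
      have : p * p = 1 := by
        apply Subtype.ext
        simp only [Subgroup.coe_mul, Subgroup.coe_one]
        exact h1
      rw [this, map_one]
    · right
      have : p * p = zM := by
        apply Subtype.ext
        simp only [Subgroup.coe_mul]
        rw [hzMv]; exact h1
      rw [this]
  apply isLargeExtraspecial_of_core hcore hsq' (π ⟨x0, hx0M⟩)
  · rw [hmemP]
    refine ⟨⟨x0, hx0M⟩ * zM * (⟨x0, hx0M⟩ : ↥M)⁻¹, ?_, ?_⟩
    · simp only [Subgroup.coe_mul, Subgroup.coe_inv]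
      rw [hzMv]; exact hx0P
    · simp only [map_mul, map_inv]
  · intro h1
    apply hx0N
    have h3 : π (zM⁻¹ * (⟨x0, hx0M⟩ * zM * (⟨x0, hx0M⟩ : ↥M)⁻¹)) = 1 := by
      simp only [map_mul, map_inv]
      rw [h1]; group
    have h4 := (hker _).mp h3
    simp only [Subgroup.coe_mul, Subgroup.coe_inv] at h4
    rw [hzMv] at h4
    exact h4

end Cfsg.Agent.Lib.Helper9.LargeExtra
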