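import Mathlib
import Cfsg.Prelude.Def_MonsterType
import Cfsg.Prelude.Def_CaseTheorems
import Cfsg.Agent.S5434
import Cfsg.Agent.Lib.Helper9.LargeExtra
import Cfsg.Agent.Lib.Helper9.LargeExtra10
import Cfsg.Agent.Lib.Helper9.LargeExtra11

set_option autoImplicit false
open Cfsg

namespace Cfsg.Agent.Lib.Helper9.LargeExtra

variable {G : Type*} [Group G]

/-- Elements of `C(A) ⊔ A` are products `c * a`. -/
theorem mem_centralizer_sup_self {A : Subgroup G} {x : G}
    (hx : x ∈ Subgroup.centralizer (A : Set G) ⊔ A) :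
    ∃ c ∈ Subgroup.centralizer (A : Set G), ∃ a' ∈ A, x = c * a' := by
  rw [Subgroup.sup_eq_closure] at hx
  induction hx using Subgroup.closure_induction with
  | mem x hx =>
    rcases hx with h1 | h1
    · exact ⟨x, h1, 1, A.one_mem, (mul_one x).symm⟩
    · exact ⟨1, Subgroup.one_mem _, x, h1, (one_mul x).symm⟩
  | one => exact ⟨1, Subgroup.one_mem _, 1, A.one_mem, (mul_one 1).symm⟩
  | mul x y _ _ hx hy =>
    obtain ⟨c1, hc1, a1, ha1, rfl⟩ := hx
    obtain ⟨c2, hc2, a2, ha2, rfl⟩ := hy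
    refine ⟨c1 * c2, Subgroup.mul_mem _ hc1 hc2, a1 * a2, A.mul_mem ha1 ha2, ?_⟩
    have h1 : a1 * c2 = c2 * a1 := (Subgroup.mem_centralizer_iff.mp hc2) a1 ha1
    calc c1 * a1 * (c2 * a2) = c1 * (a1 * c2) * a2 := by group
      _ = c1 * (c2 * a1) * a2 := by rw [h1]
      _ = c1 * c2 * (a1 * a2) := by group
  | inv x _ hx =>
    obtain ⟨c, hc, a', ha', rfl⟩ := hx
    refine ⟨c⁻¹, Subgroup.inv_mem _ hc, a'⁻¹, A.inv_mem ha', ?_⟩
    have h1 : a'⁻¹ * c⁻¹ = c⁻¹ * a'⁻¹ :=
      (Subgroup.mem_centralizer_iff.mp (Subgroup.inv_mem _ hc)) a'⁻¹ (A.inv_mem ha')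
    rw [mul_inv_rev, h1]

/-- A finite group of order not divisible by 4 with a central involution has a normal
2-complement. -/
theorem exists_odd_normal_complement {X : Type*} [Group X] [Finite X] (z : X) (hzz : z * z = 1)
    (hz1 : z ≠ 1) (hzc : ∀ x : X, x * z = z * x) (h4 : ¬ 4 ∣ Nat.card X) :
    ∃ H : Subgroup X, H.Normal ∧ (Nat.card H).Coprime 2 ∧ ∀ x : X, x ∈ H ∨ z * x ∈ H := by
  classical
  have hNmem : ∀ n, n ∈ Subgroup.zpowers z ↔ n = 1 ∨ n = z := fun n => mem_zpowers_invol hzz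
  haveI hNn : (Subgroup.zpowers z).Normal := by
    constructor
    intro n hn g
    rcases (hNmem n).mp hn with h | h
    · rw [h]; simp
    · rw [h, hzc g]; simp
  have hord : orderOf z = 2 := by
    haveI : Fact (Nat.Prime 2) := ⟨Nat.prime_two⟩
    apply orderOf_eq_prime
    · rw [pow_two]; exact hzz
    · exact hz1
  have hcN : Nat.card (Subgroup.zpowers z) = 2 := by rw [Nat.card_zpowers, hord]
  have hidx : Nat.card (Subgroup.zpowers z) * (Subgroup.zpowers z).index = Nat.card X :=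
    Subgroup.card_mul_index _
  rw [hcN] at hidx
  have hodd : ¬ 2 ∣ (Subgroup.zpowers z).index := by
    intro h
    apply h4
    obtain ⟨m, hm⟩ := h
    exact ⟨m, by rw [← hidx, hm]; ring⟩
  have hcop : Nat.Coprime (Nat.card (Subgroup.zpowers z)) (Subgroup.zpowers z).index := by
    rw [hcN]
    exact (Nat.Prime.coprime_iff_not_dvd Nat.prime_two).mpr hodd
  obtain ⟨H, hH⟩ := Subgroup.exists_right_complement'_of_coprime hcop
  have hcard := hH.card_mul_card
  rw [hcN] at hcard
  have hHodd : ¬ 2 ∣ Nat.card H := by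
    intro h
    apply h4
    obtain ⟨m, hm⟩ := h
    exact ⟨m, by rw [← hcard, hm]; ring⟩
  have hdecomp : ∀ x : X, ∃ n ∈ Subgroup.zpowers z, ∃ k ∈ H, x = n * k := by
    intro x
    obtain ⟨⟨n, k⟩, hnk, _⟩ := hH.existsUnique x
    exact ⟨n.1, n.2, k.1, k.2, hnk.symm⟩
  have hncomm : ∀ n ∈ Subgroup.zpowers z, ∀ x : X, x * n = n * x := by
    intro n hn x
    rcases (hNmem n).mp hn with h | h
    · rw [h]; simp
    · rw [h]; exact hzc x
  refine ⟨H, ?_, ?_, ?_⟩
  · constructor
    intro h hh x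
    obtain ⟨n, hn, k, hk, rfl⟩ := hdecomp x
    have e : n * k * h * (n * k)⁻¹ = k * h * k⁻¹ := by
      have h1 := hncomm n hn (k * h * k⁻¹)
      calc n * k * h * (n * k)⁻¹ = n * (k * h * k⁻¹) * n⁻¹ := by group
        _ = (k * h * k⁻¹) * n * n⁻¹ := by rw [h1]
        _ = k * h * k⁻¹ := by group
    rw [e]
    exact H.mul_mem (H.mul_mem hk hh) (H.inv_mem hk)
  · exact (Nat.Prime.coprime_iff_not_dvd Nat.prime_two).mpr hHodd |>.symm
  · intro x
    obtain ⟨n, hn, k, hk, rfl⟩ := hdecomp x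
    rcases (hNmem n).mp hn with h | h
    · left; rw [h, one_mul]; exact hk
    · right; rw [h, ← mul_assoc, hzz, one_mul]; exact hk

theorem mem_of_not_four_dvd [Finite G] (X A : Subgroup G) (z : G) (hzX : z ∈ X)
    (hzz : z * z = 1) (hz1 : z ≠ 1) (hzc : ∀ x ∈ X, x * z = z * x)
    (h4 : ¬ 4 ∣ Nat.card X) (hO : (oddCore ↥X).map X.subtype ≤ A) :
    ∀ x ∈ X, x ∈ A ∨ z * x ∈ A := by
  obtain ⟨H, hHn, hHc, hH⟩ := exists_odd_normal_complement (X := ↥X) ⟨z, hzX⟩
    (Subtype.ext hzz) (fun h => hz1 (congrArg Subtype.val h))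
    (fun x => Subtype.ext (hzc x x.2)) h4
  have hle : H ≤ oddCore ↥X := le_sSup ⟨hHn, hHc⟩
  intro x hx
  rcases hH ⟨x, hx⟩ with h | h
  · left
    exact hO ⟨⟨x, hx⟩, hle h, rfl⟩
  · right
    exact hO ⟨_, hle h, rfl⟩

/-- A non-central element of `C_Q(A)` is moved by some element of `C_Q(A)`. -/
theorem exists_swap_centralizer [Finite G] {Q : Subgroup G} {z : G} (h : Core Q z)
    (hlarge : IsLargeExtraspecial Q) (A : Subgroup G) (hAz : ∀ α ∈ A, α * z = z * α)
    (hAodd : Odd (Nat.card A)) {b : G} (hbQ : b ∈ Q) (hbA : ∀ α ∈ A, α * b = b * α)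
    (hb1 : b ≠ 1) (hbz : b ≠ z) :
    ∃ q ∈ Q ⊓ Subgroup.centralizer (A : Set G), q * b * q⁻¹ = z * b := by
  classical
  by_contra hcon
  push Not at hcon
  have hR : ∀ q ∈ Q ⊓ Subgroup.centralizer (A : Set G), b * q = q * b := by
    intro q hq
    rcases h.conj_cases hbQ hq.1 with h1 | h1
    · calc b * q = (q * b * q⁻¹) * q := by rw [h1]
        _ = q * b := by group
    · exact absurd h1 (hcon q hq)
  have hall : ∀ q ∈ Q, b * q = q * b := by
    by_cases hA1 : A = ⊥
    · intro q hq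
      apply hR q
      refine Subgroup.mem_inf.mpr ⟨hq, ?_⟩
      rw [hA1, Subgroup.mem_centralizer_iff]
      intro y hy
      have : y = 1 := by simpa using hy
      rw [this]; simp
    · have hAN : A ≤ Subgroup.normalizer (Q : Set G) := by
        intro α hα
        apply Subgroup.mem_normalizer_fintype
        intro x hx
        exact h.norm α (hAz α hα) x hx
      obtain ⟨h1, h2, _, _⟩ := Cfsg.Agent.S5434.result Q hlarge A hAN hAodd hA1
      have hbR : b ∈ Q ⊓ Subgroup.centralizer (A : Set G) := by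
        refine Subgroup.mem_inf.mpr ⟨hbQ, ?_⟩
        rw [Subgroup.mem_centralizer_iff]
        exact hbA
      have hle : (Q ⊓ Subgroup.centralizer (A : Set G)) ⊔ ⁅Q, A⁆ ≤
          Subgroup.centralizer ({b} : Set G) := by
        apply sup_le
        · intro q hq
          rw [Subgroup.mem_centralizer_iff]
          intro y hy
          rw [Set.mem_singleton_iff] at hy
          rw [hy]; exact hR q hq
        · intro q hq
          rw [Subgroup.mem_centralizer_iff]
          intro y hy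
          rw [Set.mem_singleton_iff] at hy
          rw [hy]; exact h2 b hbR q hq
      rw [h1] at hle
      intro q hq
      exact (Subgroup.mem_centralizer_iff.mp (hle hq)) b rfl
  rcases h.cent b hall with h1 | h1
  · exact hb1 h1
  · exact hbz h1

end Cfsg.Agent.Lib.Helper9.LargeExtra
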