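import Mathlib
import Cfsg.Prelude.Def_MonsterType
import Cfsg.Agent.Lib.Helper9.LargeExtra
import Cfsg.Agent.Lib.Helper9.LargeExtra2
import Cfsg.Agent.Lib.Helper9.LargeExtra6
import Cfsg.Agent.Lib.Helper9.LargeExtra13

set_option autoImplicit false
open Cfsg

namespace Cfsg.Agent.Lib.Helper9.LargeExtra

variable {G : Type*} [Group G]

theorem core_QQ_conj [Finite G] {z : G} (h : Core (QQ z) z) (g : G) :
    Core (QQ (g * z * g⁻¹)) (g * z * g⁻¹) := by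
  rw [QQ_conj]; exact h.conj g

/-- For orthogonal singular `z`, `a`: `Q_z ∩ Q_a ≤ Q_{za}`. -/
theorem QQ_inter_le [Finite G] {z : G} (h : Core (QQ z) z) (g : G)
    (haQ : g * z * g⁻¹ ∈ QQ z) (haz : g * z * g⁻¹ ≠ z) :
    QQ z ⊓ QQ (g * z * g⁻¹) ≤ QQ (z * (g * z * g⁻¹)) := by
  classical
  have h2 : Core (QQ (g * z * g⁻¹)) (g * z * g⁻¹) := core_QQ_conj h g
  have hzQ2 : z ∈ QQ (g * z * g⁻¹) := by
    rw [QQ_conj]; exact h.z_mem_conj g haQ haz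
  obtain ⟨a, ha⟩ : ∃ a, a = g * z * g⁻¹ := ⟨_, rfl⟩
  rw [← ha] at haQ haz h2 hzQ2 ⊢
  have ha1 : a ≠ 1 := h2.z_ne
  have haa : a * a = 1 := h2.z_sq
  have hza : z * a = a * z := (h.z_comm a haQ).symm
  obtain ⟨q0, hq0, hq0a⟩ := h.exists_swap haQ ha1 haz
  obtain ⟨y, hy, hyz⟩ := h2.exists_swap hzQ2 h.z_ne haz.symm
  have hq0z : q0 * z * q0⁻¹ = z := h.conj_z hq0
  have hxz : (y * q0) * z * (y * q0)⁻¹ = z * a := by
    calc (y * q0) * z * (y * q0)⁻¹ = y * (q0 * z * q0⁻¹) * y⁻¹ := by group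
      _ = y * z * y⁻¹ := by rw [hq0z]
      _ = a * z := hyz
      _ = z * a := hza.symm
  rw [← hxz, QQ_conj]
  intro e he
  obtain ⟨he1, he2⟩ := Subgroup.mem_inf.mp he
  rw [mem_map_conj]
  have h3 : y⁻¹ * e * y ∈ QQ z := by
    rcases h2.comm_mem y⁻¹ (Subgroup.inv_mem _ hy) e he2 with h4 | h4
    · have : y⁻¹ * e * y = e := by
        calc y⁻¹ * e * y = (y⁻¹ * e * y⁻¹⁻¹ * e⁻¹) * e := by group
          _ = e := by rw [h4, one_mul]
      rw [this]; exact he1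
    · have : y⁻¹ * e * y = a * e := by
        calc y⁻¹ * e * y = (y⁻¹ * e * y⁻¹⁻¹ * e⁻¹) * e := by group
          _ = a * e := by rw [h4]
      rw [this]; exact Subgroup.mul_mem _ haQ he1
  have e1 : (y * q0)⁻¹ * e * (y * q0) = q0⁻¹ * (y⁻¹ * e * y) * q0 := by group
  rw [e1]
  exact Subgroup.mul_mem _ (Subgroup.mul_mem _ (Subgroup.inv_mem _ hq0) h3) hq0

end Cfsg.Agent.Lib.Helper9.LargeExtra
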