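import Mathlib
import Cfsg.Prelude.Def_MonsterType
import Cfsg.Agent.Lib.Helper9.LargeExtra
import Cfsg.Agent.Lib.Helper9.LargeExtra11

set_option autoImplicit false
open Cfsg

namespace Cfsg.Agent.Lib.Helper9.LargeExtra

variable {G : Type*} [Group G]

/-- Adding a generator preserves the double-centralizer property. -/
theorem Core.dc_step {Q : Subgroup G} {z : G} (h : Core Q z) {B0 : Subgroup G}
    (hDC : ∀ x ∈ Q, (∀ r ∈ Q, (∀ b ∈ B0, r * b = b * r) → x * r = r * x) → x ∈ B0)
    {b : G} (hbQ : b ∈ Q) :
    ∀ x ∈ Q, (∀ r ∈ Q, (∀ c ∈ B0 ⊔ Subgroup.zpowers b, r * c = c * r) → x * r = r * x) →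
      x ∈ B0 ⊔ Subgroup.zpowers b := by
  intro x hxQ hx
  by_cases hb : b ∈ B0
  · have e : B0 ⊔ Subgroup.zpowers b = B0 := sup_eq_left.mpr (Subgroup.zpowers_le.mpr hb)
    rw [e] at hx ⊢
    exact hDC x hxQ hx
  · have hex : ∃ r0 ∈ Q, (∀ c ∈ B0, r0 * c = c * r0) ∧ b * r0 ≠ r0 * b := by
      by_contra hcon
      push Not at hcon
      exact hb (hDC b hbQ hcon)
    obtain ⟨r0, hr0, hr0B, hr0b⟩ := hex
    have hr0b' : r0 * b * r0⁻¹ = z * b := by
      rcases h.conj_cases hbQ hr0 with h1 | h1
      · exfalso; apply hr0b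
        calc b * r0 = (r0 * b * r0⁻¹) * r0 := by rw [h1]
          _ = r0 * b := by group
      · exact h1
    have hx' : ∀ r ∈ Q, (∀ c ∈ B0, r * c = c * r) → r * b = b * r → x * r = r * x := by
      intro r hr hrB hrb
      apply hx r hr
      have hle : B0 ⊔ Subgroup.zpowers b ≤ Subgroup.centralizer ({r} : Set G) := by
        apply sup_le
        · intro c hc
          rw [Subgroup.mem_centralizer_iff]
          intro y hy
          rw [Set.mem_singleton_iff] at hy
          rw [hy]; exact hrB c hc
        · rw [Subgroup.zpowers_le, Subgroup.mem_centralizer_iff]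
          intro y hy
          rw [Set.mem_singleton_iff] at hy
          rw [hy]; exact hrb
      intro c hc
      exact (Subgroup.mem_centralizer_iff.mp (hle hc)) r rfl
    have hbB : b ∈ B0 ⊔ Subgroup.zpowers b :=
      Subgroup.mem_sup_right (Subgroup.mem_zpowers b)
    -- any element commuting with `C_Q(B)` and with `r0` commutes with `C_Q(B0)`
    have hall : ∀ w : G, (∀ r ∈ Q, (∀ c ∈ B0, r * c = c * r) → r * b = b * r → w * r = r * w) →
        w * r0 = r0 * w → ∀ r ∈ Q, (∀ c ∈ B0, r * c = c * r) → w * r = r * w := by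
      intro w hw hwr0 r hr hrB
      rcases h.coset_cases hbQ hr0 hr0b' hr with h1 | h1
      · exact hw r hr hrB h1
      · have hr' : r0⁻¹ * r ∈ Q := Q.mul_mem (Q.inv_mem hr0) hr
        have hr'B : ∀ c ∈ B0, (r0⁻¹ * r) * c = c * (r0⁻¹ * r) := by
          intro c hc
          have h2 : r0⁻¹ * c = c * r0⁻¹ := by
            calc r0⁻¹ * c = r0⁻¹ * (c * r0) * r0⁻¹ := by group
              _ = r0⁻¹ * (r0 * c) * r0⁻¹ := by rw [hr0B c hc]
              _ = c * r0⁻¹ := by group
          calc (r0⁻¹ * r) * c = r0⁻¹ * (r * c) := by group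
            _ = r0⁻¹ * (c * r) := by rw [hrB c hc]
            _ = (r0⁻¹ * c) * r := by group
            _ = (c * r0⁻¹) * r := by rw [h2]
            _ = c * (r0⁻¹ * r) := by group
        have h3 := hw (r0⁻¹ * r) hr' hr'B h1
        calc w * r = (w * r0) * (r0⁻¹ * r) := by group
          _ = r0 * (w * (r0⁻¹ * r)) := by rw [hwr0]; group
          _ = r0 * ((r0⁻¹ * r) * w) := by rw [h3]
          _ = r * w := by group
    rcases h.comm_mem x hxQ r0 hr0 with h1 | h1
    · have hxr0 : x * r0 = r0 * x := by
        calc x * r0 = (x * r0 * x⁻¹ * r0⁻¹) * (r0 * x) := by group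
          _ = r0 * x := by rw [h1, one_mul]
      exact Subgroup.mem_sup_left (hDC x hxQ (hall x hx' hxr0))
    · have hxr0 : x * r0 = z * (r0 * x) := by
        calc x * r0 = (x * r0 * x⁻¹ * r0⁻¹) * (r0 * x) := by group
          _ = z * (r0 * x) := by rw [h1]
      have hbr0 : b * r0 = z * (r0 * b) := by
        calc b * r0 = z⁻¹ * (z * b) * r0 := by group
          _ = z⁻¹ * (r0 * b * r0⁻¹) * r0 := by rw [hr0b']
          _ = z⁻¹ * (r0 * b) := by group
          _ = z * (r0 * b) := by rw [h.z_inv]
      have hxbr0 : (x * b) * r0 = r0 * (x * b) := by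
        calc (x * b) * r0 = x * (b * r0) := by group
          _ = x * (z * (r0 * b)) := by rw [hbr0]
          _ = (x * z) * r0 * b := by group
          _ = (z * x) * r0 * b := by rw [h.z_comm x hxQ]
          _ = z * (x * r0) * b := by group
          _ = z * (z * (r0 * x)) * b := by rw [hxr0]
          _ = (z * z) * r0 * x * b := by group
          _ = r0 * (x * b) := by rw [h.z_sq]; group
      have hxb' : ∀ r ∈ Q, (∀ c ∈ B0, r * c = c * r) → r * b = b * r →
          (x * b) * r = r * (x * b) := by
        intro r hr hrB hrb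
        have h2 := hx' r hr hrB hrb
        calc (x * b) * r = x * (b * r) := by group
          _ = x * (r * b) := by rw [hrb]
          _ = (x * r) * b := by group
          _ = (r * x) * b := by rw [h2]
          _ = r * (x * b) := by group
      have h3 : x * b ∈ B0 := hDC (x * b) (Q.mul_mem hxQ hbQ) (hall (x * b) hxb' hxbr0)
      have e : x = (x * b) * b⁻¹ := by group
      rw [e]
      exact Subgroup.mul_mem _ (Subgroup.mem_sup_left h3)
        (Subgroup.inv_mem _ (Subgroup.mem_sup_right (Subgroup.mem_zpowers b)))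

/-- The double centralizer property in an extraspecial group: `C_Q(C_Q(B)) = B` for `Z ≤ B ≤ Q`. -/
theorem Core.double_centralizer [Finite G] {Q : Subgroup G} {z : G} (h : Core Q z)
    (B : Subgroup G) (hBQ : B ≤ Q) (hzB : z ∈ B) :
    ∀ x ∈ Q, (∀ r ∈ Q, (∀ b ∈ B, r * b = b * r) → x * r = r * x) → x ∈ B := by
  classical
  have key : ∀ s : Finset G, (↑s : Set G) ⊆ (Q : Set G) →
      ∀ x ∈ Q, (∀ r ∈ Q, (∀ b ∈ Subgroup.zpowers z ⊔ Subgroup.closure (↑s : Set G),
        r * b = b * r) → x * r = r * x) →
      x ∈ Subgroup.zpowers z ⊔ Subgroup.closure (↑s : Set G) := by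
    intro s
    induction s using Finset.induction_on with
    | empty =>
      intro _ x hxQ hx
      have e : Subgroup.zpowers z ⊔ Subgroup.closure ((↑(∅ : Finset G) : Set G)) =
          Subgroup.zpowers z := by
        rw [Finset.coe_empty, Subgroup.closure_empty, sup_bot_eq]
      rw [e] at hx ⊢
      have h1 : ∀ q ∈ Q, x * q = q * x := by
        intro q hq
        apply hx q hq
        intro b hb
        rcases (mem_zpowers_invol h.z_sq).mp hb with h2 | h2
        · rw [h2]; simp
        · rw [h2]; exact h.z_comm q hq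
      rcases h.cent x h1 with h2 | h2
      · rw [h2]; exact Subgroup.one_mem _
      · rw [h2]; exact Subgroup.mem_zpowers z
    | insert b s _ ih =>
      intro hsQ
      have hbQ : b ∈ Q := hsQ (by simp)
      have hsQ' : (↑s : Set G) ⊆ (Q : Set G) := by
        intro y hy
        exact hsQ (by simp [hy])
      have e : Subgroup.zpowers z ⊔ Subgroup.closure ((↑(insert b s : Finset G) : Set G)) =
          (Subgroup.zpowers z ⊔ Subgroup.closure (↑s : Set G)) ⊔ Subgroup.zpowers b := by
        rw [Finset.coe_insert, Set.insert_eq, Subgroup.closure_union,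
          ← Subgroup.zpowers_eq_closure, sup_assoc, sup_comm (Subgroup.zpowers b)]
      rw [e]
      exact h.dc_step (ih hsQ') hbQ
  have hfin : (B : Set G).Finite := Set.toFinite _
  have hs : (↑hfin.toFinset : Set G) = (B : Set G) := hfin.coe_toFinset
  have e : Subgroup.zpowers z ⊔ Subgroup.closure (↑hfin.toFinset : Set G) = B := by
    rw [hs, Subgroup.closure_eq]
    exact sup_eq_right.mpr (Subgroup.zpowers_le.mpr hzB)
  have := key hfin.toFinset (by rw [hs]; exact hBQ)
  rw [e] at this
  exact this

end Cfsg.Agent.Lib.Helper9.LargeExtra
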