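import Mathlib
import Cfsg.Prelude.Def_MonsterType
import Cfsg.Agent.Lib.Helper9.LargeExtra
import Cfsg.Agent.Lib.Helper9.LargeExtra11

set_option autoImplicit false
open Cfsg

namespace Cfsg.Agent.Lib.Helper9.LargeExtra

variable {G : Type*} [Group G]

/-- Elements of `F ⊔ ⟨c⟩` for an involution `c` centralizing `F`. -/
theorem mem_sup_zpowers_invol {F : Subgroup G} {c : G} (hcc : c * c = 1)
    (hcF : ∀ f ∈ F, c * f = f * c) {x : G} (hx : x ∈ F ⊔ Subgroup.zpowers c) :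
    ∃ f ∈ F, x = f ∨ x = f * c := by
  have hci : c⁻¹ = c := inv_eq_of_mul_eq_one_right hcc
  rw [Subgroup.sup_eq_closure] at hx
  induction hx using Subgroup.closure_induction with
  | mem x hx =>
    rcases hx with h1 | h1
    · exact ⟨x, h1, Or.inl rfl⟩
    · rcases (mem_zpowers_invol hcc).mp h1 with h2 | h2
      · exact ⟨1, F.one_mem, Or.inl h2⟩
      · exact ⟨1, F.one_mem, Or.inr (by rw [h2, one_mul])⟩
  | one => exact ⟨1, F.one_mem, Or.inl rfl⟩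
  | mul x y _ _ hx hy =>
    obtain ⟨f1, hf1, h1 | h1⟩ := hx <;> obtain ⟨f2, hf2, h2 | h2⟩ := hy
    · exact ⟨f1 * f2, F.mul_mem hf1 hf2, Or.inl (by rw [h1, h2])⟩
    · exact ⟨f1 * f2, F.mul_mem hf1 hf2, Or.inr (by rw [h1, h2]; group)⟩
    · refine ⟨f1 * f2, F.mul_mem hf1 hf2, Or.inr ?_⟩
      rw [h1, h2, mul_assoc, hcF f2 hf2, ← mul_assoc]
    · refine ⟨f1 * f2, F.mul_mem hf1 hf2, Or.inl ?_⟩
      rw [h1, h2]
      calc f1 * c * (f2 * c) = f1 * (c * f2) * c := by group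
        _ = f1 * (f2 * c) * c := by rw [hcF f2 hf2]
        _ = f1 * f2 * (c * c) := by group
        _ = f1 * f2 := by rw [hcc, mul_one]
  | inv x _ hx =>
    obtain ⟨f, hf, h1 | h1⟩ := hx
    · exact ⟨f⁻¹, F.inv_mem hf, Or.inl (by rw [h1])⟩
    · refine ⟨f⁻¹, F.inv_mem hf, Or.inr ?_⟩
      rw [h1, mul_inv_rev, hci]
      exact hcF f⁻¹ (F.inv_mem hf)

/-- Conjugation by an element normalizing `U`, as an automorphism of `U`. -/
def conjEquiv (U : Subgroup G) (g : G) (h1 : ∀ v ∈ U, g * v * g⁻¹ ∈ U)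
    (h2 : ∀ v ∈ U, g⁻¹ * v * g ∈ U) : ↥U ≃* ↥U where
  toFun u := ⟨g * u * g⁻¹, h1 u u.2⟩
  invFun u := ⟨g⁻¹ * u * g, h2 u u.2⟩
  left_inv u := by
    apply Subtype.ext
    simp only
    group
  right_inv u := by
    apply Subtype.ext
    simp only
    group
  map_mul' u v := by
    apply Subtype.ext
    simp only [Subgroup.coe_mul]
    group

theorem conjEquiv_apply (U : Subgroup G) (g : G) (h1 : ∀ v ∈ U, g * v * g⁻¹ ∈ U)
    (h2 : ∀ v ∈ U, g⁻¹ * v * g ∈ U) (u : ↥U) :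
    ((conjEquiv U g h1 h2 u : ↥U) : G) = g * u * g⁻¹ := rfl

/-- A subgroup all of whose elements are involutions is abelian. -/
theorem comm_of_invol {U : Subgroup G} (hU2 : ∀ u ∈ U, u * u = 1) :
    ∀ u ∈ U, ∀ v ∈ U, u * v = v * u := by
  intro u hu v hv
  have h1 : u⁻¹ = u := inv_eq_of_mul_eq_one_right (hU2 u hu)
  have h2 : v⁻¹ = v := inv_eq_of_mul_eq_one_right (hU2 v hv)
  have h3 : (v * u)⁻¹ = v * u := inv_eq_of_mul_eq_one_right (hU2 _ (U.mul_mem hv hu))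
  calc u * v = u⁻¹ * v⁻¹ := by rw [h1, h2]
    _ = (v * u)⁻¹ := by group
    _ = v * u := h3

end Cfsg.Agent.Lib.Helper9.LargeExtra
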