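import Mathlib
import Cfsg.Agent.Lib.Helper9.LargeExtra
import Cfsg.Agent.Lib.Helper3.Components7
import Cfsg.Agent.Lib.Lead.Nilpotent

set_option autoImplicit false
open Cfsg
open scoped Pointwise

namespace Cfsg.Agent.Lib.Helper9.LargeExtra

variable {G : Type*} [Group G]

/-- Simplicity criterion: `Q` as in `Core`, normalizing no nontrivial subgroup of odd order, and such
that every normal subgroup containing `z` contains `C(z)`. -/
theorem simple_of_core [Finite G] {Q : Subgroup G} {z : G} (h : Core Q z)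
    (hlarge : ∀ K : Subgroup G, Odd (Nat.card K) → Q ≤ Subgroup.normalizer (K : Set G) → K = ⊥)
    (hgen : ∀ N : Subgroup G, N.Normal → z ∈ N → Subgroup.centralizer ({z} : Set G) ≤ N) :
    IsSimpleGroup G := by
  classical
  haveI : Fact (Nat.Prime 2) := ⟨Nat.prime_two⟩
  haveI : Nontrivial G := ⟨⟨z, 1, h.z_ne⟩⟩
  refine ⟨fun N hN => ?_⟩
  by_cases hNbot : N = ⊥
  · exact Or.inl hNbot
  right
  -- |N| is even
  have heven : Even (Nat.card N) := by
    rw [← Nat.not_odd_iff_even]
    intro hodd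
    apply hNbot
    apply hlarge N hodd
    rw [Subgroup.normalizer_eq_top]
    exact le_top
  obtain ⟨t, ht⟩ := exists_prime_orderOf_dvd_card' (G := ↥N) 2 heven.two_dvd
  have ht1 : (t : G) ≠ 1 := by
    intro h1
    have : t = 1 := Subtype.ext h1
    rw [this, orderOf_one] at ht
    omega
  -- Sylow 2-subgroup containing Q
  obtain ⟨T, hQT⟩ := IsPGroup.exists_le_sylow h.two
  have htp : IsPGroup 2 (Subgroup.zpowers (t : G)) := by
    apply IsPGroup.of_card (n := 1)
    rw [Nat.card_zpowers, Subgroup.orderOf_coe, ht, pow_one]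
  obtain ⟨T', htT'⟩ := IsPGroup.exists_le_sylow htp
  obtain ⟨x, hx⟩ := MulAction.exists_smul_eq G T' T
  have ht'T : x * (t : G) * x⁻¹ ∈ (T : Subgroup G) := by
    have h1 : (t : G) ∈ (T' : Subgroup G) := htT' (Subgroup.mem_zpowers _)
    have h2 : MulAut.conj x • (t : G) ∈ MulAut.conj x • (T' : Subgroup G) :=
      Subgroup.smul_mem_pointwise_smul _ _ _ h1
    rw [← Sylow.coe_subgroup_smul, hx] at h2
    simpa [MulAut.smul_def] using h2
  have ht'N : x * (t : G) * x⁻¹ ∈ N := hN.conj_mem _ t.2 x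
  have ht'1 : x * (t : G) * x⁻¹ ≠ 1 := by
    intro h1
    apply ht1
    calc (t : G) = x⁻¹ * (x * (t : G) * x⁻¹) * x := by group
      _ = 1 := by rw [h1]; group
  -- a central element of T inside N
  have hT2 : IsPGroup 2 (T : Subgroup G) := T.isPGroup'
  haveI : Group.IsNilpotent ↥(T : Subgroup G) := hT2.isNilpotent
  haveI hN'n : (N.subgroupOf (T : Subgroup G)).Normal := hN.subgroupOf _
  have hN'ne : N.subgroupOf (T : Subgroup G) ≠ ⊥ := by
    intro hb
    have : (⟨x * (t : G) * x⁻¹, ht'T⟩ : ↥(T : Subgroup G)) ∈ N.subgroupOf (T : Subgroup G) := by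
      rw [Subgroup.mem_subgroupOf]; exact ht'N
    rw [hb, Subgroup.mem_bot] at this
    exact ht'1 (congrArg Subtype.val this)
  have hcen := Cfsg.Agent.Lib.Lead.inf_center_ne_bot (N.subgroupOf (T : Subgroup G)) hN'ne
  obtain ⟨⟨c', hcmem⟩, hc1⟩ := (Subgroup.ne_bot_iff_exists_ne_one).mp hcen
  rw [Subgroup.mem_inf] at hcmem
  have hc'N : (c' : G) ∈ N := by
    have := hcmem.1
    rw [Subgroup.mem_subgroupOf] at this
    exact this
  have hc'cen : ∀ s ∈ (T : Subgroup G), (c' : G) * s = s * (c' : G) := by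
    intro s hs
    have := hcmem.2
    rw [Subgroup.mem_center_iff] at this
    have h2 := this ⟨s, hs⟩
    have h3 := congrArg Subtype.val h2
    simpa using h3.symm
  have hc'1 : (c' : G) ≠ 1 := by
    intro h1
    apply hc1
    apply Subtype.ext
    apply Subtype.ext
    simpa using h1
  have hc'z : (c' : G) = z := by
    rcases h.cent (c' : G) (fun q hq => hc'cen q (hQT hq)) with h1 | h1
    · exact absurd h1 hc'1
    · exact h1
  have hzN : z ∈ N := hc'z ▸ hc'N
  have hzT : ∀ s ∈ (T : Subgroup G), z * s = s * z := by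
    intro s hs; rw [← hc'z]; exact hc'cen s hs
  have hCN : Subgroup.centralizer ({z} : Set G) ≤ N := hgen N hN hzN
  have hTC : (T : Subgroup G) ≤ Subgroup.centralizer ({z} : Set G) := by
    intro s hs
    rw [Subgroup.mem_centralizer_iff]
    intro y hy
    rw [Set.mem_singleton_iff] at hy
    rw [hy]; exact hzT s hs
  have hTN : (T : Subgroup G) ≤ N := hTC.trans hCN
  have hfr := Sylow.normalizer_sup_eq_top' T hTN
  have hNT : Subgroup.normalizer ((T : Subgroup G) : Set G) ≤ Subgroup.centralizer ({z} : Set G) := by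
    intro n hn
    have hzT' : z ∈ (T : Subgroup G) := hQT h.z_mem
    have h1 : n * z * n⁻¹ ∈ (T : Subgroup G) := ((Subgroup.mem_normalizer_iff.mp hn) z).mp hzT'
    have h2 : ∀ q ∈ Q, (n * z * n⁻¹) * q = q * (n * z * n⁻¹) := by
      intro q hq
      have hqT : q ∈ (T : Subgroup G) := hQT hq
      have hninv : n⁻¹ ∈ Subgroup.normalizer ((T : Subgroup G) : Set G) := Subgroup.inv_mem _ hn
      have h3 : n⁻¹ * q * n⁻¹⁻¹ ∈ (T : Subgroup G) := ((Subgroup.mem_normalizer_iff.mp hninv) q).mp hqT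
      rw [inv_inv] at h3
      have h4 := hzT _ h3
      calc (n * z * n⁻¹) * q = n * (z * (n⁻¹ * q * n)) * n⁻¹ := by group
        _ = n * ((n⁻¹ * q * n) * z) * n⁻¹ := by rw [h4]
        _ = q * (n * z * n⁻¹) := by group
    rw [Subgroup.mem_centralizer_iff]
    intro y hy
    rw [Set.mem_singleton_iff] at hy
    rw [hy]
    rcases h.cent _ h2 with h3 | h3
    · exfalso; apply h.z_ne
      calc z = n⁻¹ * (n * z * n⁻¹) * n := by group
        _ = 1 := by rw [h3]; group
    · calc z * n = (n * z * n⁻¹) * n := by rw [h3]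
        _ = n * z := by group
  rw [eq_top_iff, ← hfr]
  exact sup_le (hNT.trans hCN) le_rfl

/-- From `F*(C(z)) = Q` extraspecial we get the hypotheses (L2), (L3). -/
theorem hyps_of_fstar [Finite G] (z : G) (Q : Subgroup G)
    (hF : (Cfsg.generalizedFittingSubgroup ↥(Subgroup.centralizer ({z} : Set G))).map
      (Subgroup.centralizer ({z} : Set G)).subtype = Q)
    (hQ : Cfsg.IsExtraspecial 2 ↥Q) (hz1 : z ≠ 1) :
    z ∈ Q ∧ (∀ x, x ∈ (Subgroup.center ↥Q).map Q.subtype ↔ x = 1 ∨ x = z) ∧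
    Subgroup.centralizer (Q : Set G) = (Subgroup.center ↥Q).map Q.subtype ∧
    Subgroup.centralizer (((Subgroup.center ↥Q).map Q.subtype : Subgroup G) : Set G) ≤
      Subgroup.normalizer (Q : Set G) := by
  classical
  set C : Subgroup G := Subgroup.centralizer ({z} : Set G) with hC
  set F : Subgroup ↥C := Cfsg.generalizedFittingSubgroup ↥C with hFdef
  have hmemC : ∀ c, c ∈ C ↔ c * z = z * c := by
    intro c
    rw [hC, Subgroup.mem_centralizer_iff]
    constructor
    · intro h1; exact (h1 z rfl).symm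
    · intro h1 x hx
      rw [Set.mem_singleton_iff] at hx
      rw [hx]; exact h1.symm
  have hbender : Subgroup.centralizer (F : Set ↥C) ≤ F :=
    Cfsg.Agent.Lib.Helper3.centralizer_generalizedFittingSubgroup_le (G := ↥C)
  have hmemQ : ∀ x, x ∈ Q ↔ ∃ hx : x ∈ C, (⟨x, hx⟩ : ↥C) ∈ F := by
    intro x
    rw [← hF, Subgroup.mem_map]
    constructor
    · rintro ⟨y, hy, rfl⟩
      exact ⟨y.2, hy⟩
    · rintro ⟨hx, hy⟩
      exact ⟨⟨x, hx⟩, hy, rfl⟩
  have hQC : Q ≤ C := by
    intro x hx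
    obtain ⟨hx', _⟩ := (hmemQ x).mp hx
    exact hx'
  have hzC : z ∈ C := (hmemC z).mpr rfl
  have hzQ : z ∈ Q := by
    rw [hmemQ]
    refine ⟨hzC, hbender ?_⟩
    rw [Subgroup.mem_centralizer_iff]
    intro f _
    apply Subtype.ext
    exact ((hmemC f).mp f.2)
  -- centre of Q
  have hzcen : (⟨z, hzQ⟩ : ↥Q) ∈ Subgroup.center ↥Q := by
    rw [Subgroup.mem_center_iff]
    intro q
    apply Subtype.ext
    exact (hmemC q).mp (hQC q.2)
  have hcard : Nat.card (Subgroup.center ↥Q) = 2 := hQ.2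
  have hcen_mem : ∀ y : ↥Q, y ∈ Subgroup.center ↥Q → y = 1 ∨ y = ⟨z, hzQ⟩ := by
    intro y hy
    obtain ⟨w, hw1, hwu⟩ := (Nat.card_eq_two_iff' (1 : Subgroup.center ↥Q)).mp hcard
    have hzw : (⟨⟨z, hzQ⟩, hzcen⟩ : Subgroup.center ↥Q) = w := by
      apply hwu
      intro h1
      apply hz1
      have := congrArg (fun u : Subgroup.center ↥Q => ((u : ↥Q) : G)) h1
      simpa using this
    by_cases hy1 : y = 1
    · exact Or.inl hy1
    · right
      have : (⟨y, hy⟩ : Subgroup.center ↥Q) = w := by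
        apply hwu
        intro h1
        apply hy1
        have := congrArg (fun u : Subgroup.center ↥Q => (u : ↥Q)) h1
        simpa using this
      have h2 : (⟨y, hy⟩ : Subgroup.center ↥Q) = ⟨⟨z, hzQ⟩, hzcen⟩ := this.trans hzw.symm
      exact congrArg (fun u : Subgroup.center ↥Q => (u : ↥Q)) h2
  have hZmem : ∀ x, x ∈ (Subgroup.center ↥Q).map Q.subtype ↔ x = 1 ∨ x = z := by
    intro x
    rw [Subgroup.mem_map]
    constructor
    · rintro ⟨y, hy, rfl⟩
      rcases hcen_mem y hy with h1 | h1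
      · left; rw [h1]; rfl
      · right; rw [h1]; rfl
    · rintro (h1 | h1)
      · exact ⟨1, Subgroup.one_mem _, h1.symm⟩
      · exact ⟨⟨z, hzQ⟩, hzcen, h1.symm⟩
  refine ⟨hzQ, hZmem, ?_, ?_⟩
  · ext c
    rw [hZmem, Subgroup.mem_centralizer_iff]
    constructor
    · intro hc
      have hcC : c ∈ C := (hmemC c).mpr (hc z hzQ).symm
      have hcF : (⟨c, hcC⟩ : ↥C) ∈ F := by
        apply hbender
        rw [Subgroup.mem_centralizer_iff]
        intro f hf
        apply Subtype.ext
        have hfQ : (f : G) ∈ Q := (hmemQ f).mpr ⟨f.2, hf⟩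
        exact hc f hfQ
      have hcQ : c ∈ Q := (hmemQ c).mpr ⟨hcC, hcF⟩
      have hccen : (⟨c, hcQ⟩ : ↥Q) ∈ Subgroup.center ↥Q := by
        rw [Subgroup.mem_center_iff]
        intro q
        apply Subtype.ext
        exact hc q q.2
      rcases hcen_mem _ hccen with h1 | h1
      · left; exact congrArg Subtype.val h1
      · right; exact congrArg Subtype.val h1
    · rintro (h1 | h1)
      · intro q _; rw [h1]; simp
      · intro q hq
        rw [h1]
        exact ((hmemC q).mp (hQC hq))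
  · intro c hc
    have hcC : c ∈ C := by
      rw [hmemC]
      have := (Subgroup.mem_centralizer_iff.mp hc) z ((hZmem z).mpr (Or.inr rfl))
      exact this.symm
    haveI hFn : F.Normal := Cfsg.Agent.Lib.Helper3.generalizedFittingSubgroup_normal
    apply Subgroup.mem_normalizer_fintype
    intro x hx
    obtain ⟨hxC, hxF⟩ := (hmemQ x).mp hx
    rw [SetLike.mem_coe, hmemQ]
    refine ⟨C.mul_mem (C.mul_mem hcC hxC) (C.inv_mem hcC), ?_⟩
    have := hFn.conj_mem _ hxF ⟨c, hcC⟩
    exact this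

end Cfsg.Agent.Lib.Helper9.LargeExtra
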