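import Mathlib
import Cfsg.Agent.Lib.Helper9.LargeExtra
import Cfsg.Agent.Lib.Helper9.LargeExtra2
import Cfsg.Agent.Lib.Helper9.LargeExtra6

set_option autoImplicit false
open Cfsg

namespace Cfsg.Agent.Lib.Helper9.LargeExtra

variable {G : Type*} [Group G]

/-- A pair of conjugate extraspecial subgroups `Q`, `Q2` with centres `⟨z⟩`, `⟨a⟩`, `a ∈ Q`, `z ∈ Q2`. -/
structure Pair (Q Q2 : Subgroup G) (z a : G) : Prop where
  c1 : Core Q z
  c2 : Core Q2 a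
  zQ2 : z ∈ Q2
  aQ : a ∈ Q
  ne : a ≠ z
  tr12 : ∀ h : G, h * z * h⁻¹ = a → ∀ q ∈ Q, h * q * h⁻¹ ∈ Q2
  tr21 : ∀ h : G, h * a * h⁻¹ = z → ∀ q ∈ Q2, h * q * h⁻¹ ∈ Q

theorem Pair.symm {Q Q2 : Subgroup G} {z a : G} (p : Pair Q Q2 z a) : Pair Q2 Q a z :=
  ⟨p.c2, p.c1, p.aQ, p.zQ2, p.ne.symm, p.tr21, p.tr12⟩

theorem pair_of_core [Finite G] {Q : Subgroup G} {z : G} (h : Core Q z) (g : G)
    (haQ : g * z * g⁻¹ ∈ Q) (haz : g * z * g⁻¹ ≠ z) :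
    Pair Q (Q.map (MulAut.conj g).toMonoidHom) z (g * z * g⁻¹) := by
  refine ⟨h, h.conj g, h.z_mem_conj g haQ haz, haQ, haz, ?_, ?_⟩
  · intro k hk q hq
    have h1 : (g⁻¹ * k) * z = z * (g⁻¹ * k) := by
      calc (g⁻¹ * k) * z = g⁻¹ * (k * z * k⁻¹) * k := by group
        _ = g⁻¹ * (g * z * g⁻¹) * k := by rw [hk]
        _ = z * (g⁻¹ * k) := by group
    have h2 := h.norm _ h1 q hq
    rw [h.mem_conj_map]
    refine ⟨_, h2, ?_⟩
    group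
  · intro k hk q hq
    obtain ⟨q', hq', rfl⟩ := h.mem_conj_map.mp hq
    have h1 : (k * g) * z = z * (k * g) := by
      calc (k * g) * z = (k * (g * z * g⁻¹) * k⁻¹) * (k * g) := by group
        _ = z * (k * g) := by rw [hk]
    have h2 := h.norm _ h1 q' hq'
    have e : k * (g * q' * g⁻¹) * k⁻¹ = (k * g) * q' * (k * g)⁻¹ := by group
    rw [e]; exact h2

theorem mem_cs {Q : Subgroup G} {c x : G} :
    x ∈ Q ⊓ Subgroup.centralizer ({c} : Set G) ↔ x ∈ Q ∧ x * c = c * x := by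
  rw [Subgroup.mem_inf, Subgroup.mem_centralizer_iff]
  constructor
  · rintro ⟨h1, h2⟩; exact ⟨h1, (h2 c rfl).symm⟩
  · rintro ⟨h1, h2⟩
    refine ⟨h1, ?_⟩
    intro y hy
    rw [Set.mem_singleton_iff] at hy
    rw [hy]; exact h2.symm

/-- The subgroup `R = C_{Q2}(z) C_Q(a)`. -/
abbrev RR (Q Q2 : Subgroup G) (z a : G) : Subgroup G :=
  (Q2 ⊓ Subgroup.centralizer ({z} : Set G)) ⊔ (Q ⊓ Subgroup.centralizer ({a} : Set G))

theorem RR_symm (Q Q2 : Subgroup G) (z a : G) : RR Q2 Q a z = RR Q Q2 z a := sup_comm _ _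

namespace Pair

variable {Q Q2 : Subgroup G} {z a : G} (p : Pair Q Q2 z a)
include p

theorem za_comm : z * a = a * z := (p.c1.z_comm a p.aQ).symm

theorem a_ne_one : a ≠ 1 := p.c2.z_ne

theorem aa : a * a = 1 := p.c2.z_sq

theorem zz : z * z = 1 := p.c1.z_sq

theorem R1_le : Q ⊓ Subgroup.centralizer ({a} : Set G) ≤ RR Q Q2 z a := le_sup_right

theorem R2_le : Q2 ⊓ Subgroup.centralizer ({z} : Set G) ≤ RR Q Q2 z a := le_sup_left

/-- `C_Q(a)` is normal in `Q`. -/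
theorem normR1 {q r : G} (hq : q ∈ Q) (hr : r ∈ Q) (hra : r * a = a * r) :
    (q * r * q⁻¹) * a = a * (q * r * q⁻¹) := by
  have hrz : r * z = z * r := p.c1.z_comm r hr
  have h1 : r * (q⁻¹ * a * q) = (q⁻¹ * a * q) * r := by
    rcases p.c1.conj_cases p.aQ (Q.inv_mem hq) with h2 | h2
    · rw [inv_inv] at h2; rw [h2]; exact hra
    · rw [inv_inv] at h2; rw [h2, ← mul_assoc, hrz, mul_assoc, hra, mul_assoc]
  calc (q * r * q⁻¹) * a = q * (r * (q⁻¹ * a * q)) * q⁻¹ := by group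
    _ = q * ((q⁻¹ * a * q) * r) * q⁻¹ := by rw [h1]
    _ = a * (q * r * q⁻¹) := by group

/-- the commutator of `q ∈ Q` with `r ∈ C_{Q2}(z)` lies in `C_Q(a)`. -/
theorem cross {q r : G} (hq : q ∈ Q) (hr : r ∈ Q2) (hrz : r * z = z * r) :
    q * r * q⁻¹ * r⁻¹ ∈ Q ∧ (q * r * q⁻¹ * r⁻¹) * a = a * (q * r * q⁻¹ * r⁻¹) := by
  have hra : r * a = a * r := p.c2.z_comm r hr
  constructor
  · have h1 := p.c1.norm r hrz q⁻¹ (Q.inv_mem hq)
    have e : q * r * q⁻¹ * r⁻¹ = q * (r * q⁻¹ * r⁻¹) := by group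
    rw [e]; exact Q.mul_mem hq h1
  · have h1 : r⁻¹ * a * r = a := by
      calc r⁻¹ * a * r = r⁻¹ * (a * r) := by group
        _ = r⁻¹ * (r * a) := by rw [hra]
        _ = a := by group
    have hconj : (q * r * q⁻¹ * r⁻¹) * a * (q * r * q⁻¹ * r⁻¹)⁻¹ = a := by
      rcases p.c1.conj_cases p.aQ (Q.inv_mem hq) with h2 | h2
      · rw [inv_inv] at h2
        have h3 : r * a * r⁻¹ = a := by rw [hra]; group
        calc (q * r * q⁻¹ * r⁻¹) * a * (q * r * q⁻¹ * r⁻¹)⁻¹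
            = q * (r * (q⁻¹ * (r⁻¹ * a * r) * q) * r⁻¹) * q⁻¹ := by group
          _ = q * (r * a * r⁻¹) * q⁻¹ := by rw [h1, h2]
          _ = q * a * q⁻¹ := by rw [h3]
          _ = q * (q⁻¹ * a * q) * q⁻¹ := by rw [h2]
          _ = a := by group
      · rw [inv_inv] at h2
        have h3 : r * (z * a) * r⁻¹ = z * a := by
          calc r * (z * a) * r⁻¹ = (r * z) * a * r⁻¹ := by group
            _ = z * (r * a) * r⁻¹ := by rw [hrz]; group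
            _ = z * (a * r) * r⁻¹ := by rw [hra]
            _ = z * a := by group
        calc (q * r * q⁻¹ * r⁻¹) * a * (q * r * q⁻¹ * r⁻¹)⁻¹
            = q * (r * (q⁻¹ * (r⁻¹ * a * r) * q) * r⁻¹) * q⁻¹ := by group
          _ = q * (r * (z * a) * r⁻¹) * q⁻¹ := by rw [h1, h2]
          _ = q * (z * a) * q⁻¹ := by rw [h3]
          _ = q * (q⁻¹ * a * q) * q⁻¹ := by rw [h2]
          _ = a := by group
    calc (q * r * q⁻¹ * r⁻¹) * a
        = ((q * r * q⁻¹ * r⁻¹) * a * (q * r * q⁻¹ * r⁻¹)⁻¹) * (q * r * q⁻¹ * r⁻¹) := by group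
      _ = a * (q * r * q⁻¹ * r⁻¹) := by rw [hconj]

/-- `Q` normalizes `R`. -/
theorem normR_Q {q : G} (hq : q ∈ Q) : ∀ r ∈ RR Q Q2 z a, q * r * q⁻¹ ∈ RR Q Q2 z a := by
  intro r hr
  have hr' := hr
  rw [RR, Subgroup.sup_eq_closure] at hr'
  induction hr' using Subgroup.closure_induction with
  | mem r hr1 =>
    rcases hr1 with h1 | h1
    · have h2 := mem_cs.mp h1
      have h3 := p.cross hq h2.1 h2.2
      have e : q * r * q⁻¹ = (q * r * q⁻¹ * r⁻¹) * r := by group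
      rw [e]
      exact Subgroup.mul_mem _ (p.R1_le (mem_cs.mpr h3)) (p.R2_le h1)
    · have h2 := mem_cs.mp h1
      apply p.R1_le
      exact mem_cs.mpr ⟨Q.mul_mem (Q.mul_mem hq h2.1) (Q.inv_mem hq), p.normR1 hq h2.1 h2.2⟩
  | one => simp [Subgroup.one_mem]
  | mul x y hx hy ihx ihy =>
    have hxR : x ∈ RR Q Q2 z a := by rw [RR, Subgroup.sup_eq_closure]; exact hx
    have hyR : y ∈ RR Q Q2 z a := by rw [RR, Subgroup.sup_eq_closure]; exact hy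
    have e : q * (x * y) * q⁻¹ = (q * x * q⁻¹) * (q * y * q⁻¹) := by group
    rw [e]; exact Subgroup.mul_mem _ (ihx hxR) (ihy hyR)
  | inv x hx ihx =>
    have hxR : x ∈ RR Q Q2 z a := by rw [RR, Subgroup.sup_eq_closure]; exact hx
    have e : q * x⁻¹ * q⁻¹ = (q * x * q⁻¹)⁻¹ := by group
    rw [e]; exact Subgroup.inv_mem _ (ihx hxR)

theorem normR_Q2 {q : G} (hq : q ∈ Q2) : ∀ r ∈ RR Q Q2 z a, q * r * q⁻¹ ∈ RR Q Q2 z a := by
  have := p.symm.normR_Q hq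
  rw [RR_symm] at this
  exact this

/-- `X = ⟨Q, Q2⟩` normalizes `R`. -/
theorem normR_X : ∀ x ∈ Q ⊔ Q2, ∀ r ∈ RR Q Q2 z a, x * r * x⁻¹ ∈ RR Q Q2 z a :=
  normalizes_of_gens (fun _ hq => p.normR_Q hq) (fun _ hq => p.normR_Q2 hq)

theorem R_le_X : RR Q Q2 z a ≤ Q ⊔ Q2 :=
  sup_le (inf_le_left.trans le_sup_right) (inf_le_left.trans le_sup_left)

/-- squares of elements of `Q` lie in `C_Q(a)`. -/
theorem sq_mem_R1 {q : G} (hq : q ∈ Q) : q * q ∈ Q ⊓ Subgroup.centralizer ({a} : Set G) := by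
  rw [mem_cs]
  refine ⟨Q.mul_mem hq hq, ?_⟩
  have h1 : (q * q) * a * (q * q)⁻¹ = a := by
    rcases p.c1.conj_cases p.aQ hq with h2 | h2
    · calc (q * q) * a * (q * q)⁻¹ = q * (q * a * q⁻¹) * q⁻¹ := by group
        _ = a := by rw [h2, h2]
    · calc (q * q) * a * (q * q)⁻¹ = q * (q * a * q⁻¹) * q⁻¹ := by group
        _ = q * (z * a) * q⁻¹ := by rw [h2]
        _ = a := p.c1.swap_za hq h2
  calc (q * q) * a = ((q * q) * a * (q * q)⁻¹) * (q * q) := by group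
    _ = a * (q * q) := by rw [h1]

/-- The braid relation modulo `R`. -/
theorem braid {q1 q2 : G} (hq1 : q1 ∈ Q) (hq1a : q1 * a * q1⁻¹ = z * a) (hq2 : q2 ∈ Q2)
    (hq2z : q2 * z * q2⁻¹ = a * z) :
    ∃ ρ ∈ RR Q Q2 z a, q2 * q1 * q2 = ρ * (q1 * q2 * q1) := by
  have hq1z : q1 * z * q1⁻¹ = z := p.c1.conj_z hq1
  have hq2a : q2 * a * q2⁻¹ = a := p.c2.conj_z hq2
  have hhz : (q1 * q2) * z * (q1 * q2)⁻¹ = a := by
    calc (q1 * q2) * z * (q1 * q2)⁻¹ = q1 * (q2 * z * q2⁻¹) * q1⁻¹ := by group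
      _ = q1 * (a * z) * q1⁻¹ := by rw [hq2z]
      _ = q1 * (z * a) * q1⁻¹ := by rw [p.za_comm]
      _ = a := p.c1.swap_za hq1 hq1a
  have hha : (q1 * q2) * a * (q1 * q2)⁻¹ = z * a := by
    calc (q1 * q2) * a * (q1 * q2)⁻¹ = q1 * (q2 * a * q2⁻¹) * q1⁻¹ := by group
      _ = z * a := by rw [hq2a, hq1a]
  have hhza : (q1 * q2) * (z * a) * (q1 * q2)⁻¹ = z := by
    calc (q1 * q2) * (z * a) * (q1 * q2)⁻¹
        = ((q1 * q2) * z * (q1 * q2)⁻¹) * ((q1 * q2) * a * (q1 * q2)⁻¹) := by group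
      _ = a * (z * a) := by rw [hhz, hha]
      _ = z * (a * a) := by rw [← mul_assoc, ← p.za_comm, mul_assoc]
      _ = z := by rw [p.aa, mul_one]
  have hhinvz : (q1 * q2)⁻¹ * z * (q1 * q2) = z * a := by
    calc (q1 * q2)⁻¹ * z * (q1 * q2)
        = (q1 * q2)⁻¹ * ((q1 * q2) * (z * a) * (q1 * q2)⁻¹) * (q1 * q2) := by rw [hhza]
      _ = z * a := by group
  obtain ⟨s, hs⟩ : ∃ s, s = (q1 * q2) * q1 * (q1 * q2)⁻¹ := ⟨_, rfl⟩
  have hsQ2 : s ∈ Q2 := by rw [hs]; exact p.tr12 _ hhz q1 hq1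
  have hsz : s * z * s⁻¹ = z * a := by
    calc s * z * s⁻¹ = (q1 * q2) * (q1 * ((q1 * q2)⁻¹ * z * (q1 * q2)) * q1⁻¹) * (q1 * q2)⁻¹ := by
          rw [hs]; group
      _ = (q1 * q2) * (q1 * (z * a) * q1⁻¹) * (q1 * q2)⁻¹ := by rw [hhinvz]
      _ = (q1 * q2) * a * (q1 * q2)⁻¹ := by rw [p.c1.swap_za hq1 hq1a]
      _ = z * a := hha
  have hsnot : ¬ (s * z = z * s) := by
    intro h1
    apply p.a_ne_one
    have h2 : s * z * s⁻¹ = z := by rw [h1]; group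
    rw [hsz] at h2
    have : z * a = z * 1 := by rw [mul_one]; exact h2
    exact mul_left_cancel this
  rcases p.c2.coset_cases p.zQ2 hq2 hq2z hsQ2 with h1 | h1
  · exact absurd h1 hsnot
  · have hr'Q2 : q2⁻¹ * s ∈ Q2 := Q2.mul_mem (Q2.inv_mem hq2) hsQ2
    have hconj : (q2 * (q2⁻¹ * s) * q2⁻¹) * z = z * (q2 * (q2⁻¹ * s) * q2⁻¹) :=
      p.symm.normR1 hq2 hr'Q2 h1
    have hmem : q2 * (q2⁻¹ * s) * q2⁻¹ ∈ RR Q Q2 z a := by
      apply p.R2_le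
      exact mem_cs.mpr ⟨Q2.mul_mem (Q2.mul_mem hq2 hr'Q2) (Q2.inv_mem hq2), hconj⟩
    refine ⟨(q2 * (q2⁻¹ * s) * q2⁻¹)⁻¹, Subgroup.inv_mem _ hmem, ?_⟩
    rw [hs]; group

end Pair

end Cfsg.Agent.Lib.Helper9.LargeExtra
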