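import Mathlib
import Cfsg.Agent.Lib.Helper9.LargeExtra7

set_option autoImplicit false
open Cfsg

namespace Cfsg.Agent.Lib.Helper9.LargeExtra

variable {G : Type*} [Group G]

/-- the six coset representatives of `R` in `X`. -/
def InW (q1 q2 w : G) : Prop :=
  w = 1 ∨ w = q1 ∨ w = q2 ∨ w = q1 * q2 ∨ w = q2 * q1 ∨ w = q1 * q2 * q1

def InS (R : Subgroup G) (q1 q2 x : G) : Prop := ∃ r ∈ R, ∃ w, InW q1 q2 w ∧ x = r * w

namespace Pair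

variable {Q Q2 : Subgroup G} {z a : G} (p : Pair Q Q2 z a)
include p

/-- Every element of `X = ⟨Q, Q2⟩` lies in one of six cosets of `R`. -/
theorem enum {q1 q2 : G} (hq1 : q1 ∈ Q) (hq1a : q1 * a * q1⁻¹ = z * a) (hq2 : q2 ∈ Q2)
    (hq2z : q2 * z * q2⁻¹ = a * z) :
    ∀ x ∈ Q ⊔ Q2, InS (RR Q Q2 z a) q1 q2 x := by
  have hq1X : q1 ∈ Q ⊔ Q2 := Subgroup.mem_sup_left hq1
  have hq2X : q2 ∈ Q ⊔ Q2 := Subgroup.mem_sup_right hq2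
  have h1R : (1 : G) ∈ RR Q Q2 z a := Subgroup.one_mem _
  have hsq1 : q1 * q1 ∈ RR Q Q2 z a := p.R1_le (p.sq_mem_R1 hq1)
  have hsq2 : q2 * q2 ∈ RR Q Q2 z a := p.R2_le (p.symm.sq_mem_R1 hq2)
  obtain ⟨ρ, hρ, hbraid⟩ := p.braid hq1 hq1a hq2 hq2z
  have hS_R : ∀ r ∈ RR Q Q2 z a, ∀ y, InS (RR Q Q2 z a) q1 q2 y → InS (RR Q Q2 z a) q1 q2 (r * y) := by
    rintro r hr y ⟨r', hr', w, hw, rfl⟩
    exact ⟨r * r', Subgroup.mul_mem _ hr hr', w, hw, by rw [mul_assoc]⟩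
  have hS_w1 : ∀ w, InW q1 q2 w → InS (RR Q Q2 z a) q1 q2 (q1 * w) := by
    rintro w hw
    rcases hw with h | h | h | h | h | h <;> rw [h]
    · exact ⟨1, h1R, q1, Or.inr (Or.inl rfl), by simp⟩
    · exact ⟨q1 * q1, hsq1, 1, Or.inl rfl, by simp⟩
    · exact ⟨1, h1R, q1 * q2, Or.inr (Or.inr (Or.inr (Or.inl rfl))), by simp⟩
    · exact ⟨q1 * q1, hsq1, q2, Or.inr (Or.inr (Or.inl rfl)), by group⟩
    · exact ⟨1, h1R, q1 * q2 * q1, Or.inr (Or.inr (Or.inr (Or.inr (Or.inr rfl)))), by group⟩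
    · exact ⟨q1 * q1, hsq1, q2 * q1, Or.inr (Or.inr (Or.inr (Or.inr (Or.inl rfl)))), by group⟩
  have hS_w2 : ∀ w, InW q1 q2 w → InS (RR Q Q2 z a) q1 q2 (q2 * w) := by
    rintro w hw
    rcases hw with h | h | h | h | h | h <;> rw [h]
    · exact ⟨1, h1R, q2, Or.inr (Or.inr (Or.inl rfl)), by simp⟩
    · exact ⟨1, h1R, q2 * q1, Or.inr (Or.inr (Or.inr (Or.inr (Or.inl rfl)))), by simp⟩
    · exact ⟨q2 * q2, hsq2, 1, Or.inl rfl, by simp⟩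
    · refine ⟨ρ, hρ, q1 * q2 * q1, Or.inr (Or.inr (Or.inr (Or.inr (Or.inr rfl)))), ?_⟩
      rw [← hbraid]; group
    · exact ⟨q2 * q2, hsq2, q1, Or.inr (Or.inl rfl), by group⟩
    · refine ⟨ρ * ((q1 * q2) * (q1 * q1) * (q1 * q2)⁻¹), ?_, q1 * q2,
        Or.inr (Or.inr (Or.inr (Or.inl rfl))), ?_⟩
      · exact Subgroup.mul_mem _ hρ
          (p.normR_X (q1 * q2) (Subgroup.mul_mem _ hq1X hq2X) _ hsq1)
      · calc q2 * (q1 * q2 * q1) = (q2 * q1 * q2) * q1 := by group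
          _ = (ρ * (q1 * q2 * q1)) * q1 := by rw [hbraid]
          _ = ρ * ((q1 * q2) * (q1 * q1) * (q1 * q2)⁻¹) * (q1 * q2) := by group
  have hS_q1 : ∀ y, InS (RR Q Q2 z a) q1 q2 y → InS (RR Q Q2 z a) q1 q2 (q1 * y) := by
    rintro y ⟨r, hr, w, hw, rfl⟩
    have e : q1 * (r * w) = (q1 * r * q1⁻¹) * (q1 * w) := by group
    rw [e]
    exact hS_R _ (p.normR_Q hq1 r hr) _ (hS_w1 w hw)
  have hS_q2 : ∀ y, InS (RR Q Q2 z a) q1 q2 y → InS (RR Q Q2 z a) q1 q2 (q2 * y) := by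
    rintro y ⟨r, hr, w, hw, rfl⟩
    have e : q2 * (r * w) = (q2 * r * q2⁻¹) * (q2 * w) := by group
    rw [e]
    exact hS_R _ (p.normR_Q2 hq2 r hr) _ (hS_w2 w hw)
  have hS_Q : ∀ q ∈ Q, ∀ y, InS (RR Q Q2 z a) q1 q2 y → InS (RR Q Q2 z a) q1 q2 (q * y) := by
    intro q hq y hy
    rcases p.c1.coset_cases p.aQ hq1 hq1a hq with h1 | h1
    · exact hS_R q (p.R1_le (mem_cs.mpr ⟨hq, h1⟩)) y hy
    · have hr1 : q1⁻¹ * q ∈ RR Q Q2 z a :=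
        p.R1_le (mem_cs.mpr ⟨Q.mul_mem (Q.inv_mem hq1) hq, h1⟩)
      have e : q * y = q1 * ((q1⁻¹ * q) * y) := by group
      rw [e]
      exact hS_q1 _ (hS_R _ hr1 y hy)
  have hS_Q2 : ∀ q ∈ Q2, ∀ y, InS (RR Q Q2 z a) q1 q2 y → InS (RR Q Q2 z a) q1 q2 (q * y) := by
    intro q hq y hy
    rcases p.c2.coset_cases p.zQ2 hq2 hq2z hq with h1 | h1
    · exact hS_R q (p.R2_le (mem_cs.mpr ⟨hq, h1⟩)) y hy
    · have hr1 : q2⁻¹ * q ∈ RR Q Q2 z a :=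
        p.R2_le (mem_cs.mpr ⟨Q2.mul_mem (Q2.inv_mem hq2) hq, h1⟩)
      have e : q * y = q2 * ((q2⁻¹ * q) * y) := by group
      rw [e]
      exact hS_q2 _ (hS_R _ hr1 y hy)
  intro x hx
  rw [Subgroup.sup_eq_closure] at hx
  induction hx using Subgroup.closure_induction_left with
  | one => exact ⟨1, h1R, 1, Or.inl rfl, by simp⟩
  | mul_left x hx y _ ih =>
    rcases hx with h1 | h1
    · exact hS_Q x h1 y ih
    · exact hS_Q2 x h1 y ih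
  | inv_mul_cancel x hx y _ ih =>
    rcases hx with h1 | h1
    · exact hS_Q x⁻¹ (Q.inv_mem h1) y ih
    · exact hS_Q2 x⁻¹ (Q2.inv_mem h1) y ih

end Pair

end Cfsg.Agent.Lib.Helper9.LargeExtra
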