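import Mathlib
import Cfsg.Agent.Lib.Helper9.LargeExtra7

set_option autoImplicit false
open Cfsg

namespace Cfsg.Agent.Lib.Helper9.LargeExtra

variable {G : Type*} [Group G]

/-- the commutator of `q ∈ Q` with an element centralizing `z` and `a` lies in `C_Q(a)`. -/
theorem Pair.cross' {Q Q2 : Subgroup G} {z a : G} (p : Pair Q Q2 z a) {q r : G} (hq : q ∈ Q)
    (hrz : r * z = z * r) (hra : r * a = a * r) :
    q * r * q⁻¹ * r⁻¹ ∈ Q ∧ (q * r * q⁻¹ * r⁻¹) * a = a * (q * r * q⁻¹ * r⁻¹) := by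
  constructor
  · have h1 := p.c1.norm r hrz q⁻¹ (Q.inv_mem hq)
    have e : q * r * q⁻¹ * r⁻¹ = q * (r * q⁻¹ * r⁻¹) := by group
    rw [e]; exact Q.mul_mem hq h1
  · have h1 : r⁻¹ * a * r = a := by
      calc r⁻¹ * a * r = r⁻¹ * (a * r) := by group
        _ = r⁻¹ * (r * a) := by rw [hra]
        _ = a := by group
    have hconj : (q * r * q⁻¹ * r⁻¹) * a * (q * r * q⁻¹ * r⁻¹)⁻¹ = a := by
      rcases p.c1.conj_cases p.aQ (Q.inv_mem hq) with h2 | h2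
      · rw [inv_inv] at h2
        have h3 : r * a * r⁻¹ = a := by rw [hra]; group
        calc (q * r * q⁻¹ * r⁻¹) * a * (q * r * q⁻¹ * r⁻¹)⁻¹
            = q * (r * (q⁻¹ * (r⁻¹ * a * r) * q) * r⁻¹) * q⁻¹ := by group
          _ = q * (r * a * r⁻¹) * q⁻¹ := by rw [h1, h2]
          _ = q * a * q⁻¹ := by rw [h3]
          _ = q * (q⁻¹ * a * q) * q⁻¹ := by rw [h2]
          _ = a := by group
      · rw [inv_inv] at h2
        have h3 : r * (z * a) * r⁻¹ = z * a := by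
          calc r * (z * a) * r⁻¹ = (r * z) * a * r⁻¹ := by group
            _ = z * (r * a) * r⁻¹ := by rw [hrz]; group
            _ = z * (a * r) * r⁻¹ := by rw [hra]
            _ = z * a := by group
        calc (q * r * q⁻¹ * r⁻¹) * a * (q * r * q⁻¹ * r⁻¹)⁻¹
            = q * (r * (q⁻¹ * (r⁻¹ * a * r) * q) * r⁻¹) * q⁻¹ := by group
          _ = q * (r * (z * a) * r⁻¹) * q⁻¹ := by rw [h1, h2]
          _ = q * (z * a) * q⁻¹ := by rw [h3]
          _ = q * (q⁻¹ * a * q) * q⁻¹ := by rw [h2]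
          _ = a := by group
    calc (q * r * q⁻¹ * r⁻¹) * a
        = ((q * r * q⁻¹ * r⁻¹) * a * (q * r * q⁻¹ * r⁻¹)⁻¹) * (q * r * q⁻¹ * r⁻¹) := by group
      _ = a * (q * r * q⁻¹ * r⁻¹) := by rw [hconj]

/-- A subgroup permuting three elements by conjugation maps to `S₃`. -/
theorem exists_permHom (N : Subgroup G) (val : Fin 3 → G) (hinj : Function.Injective val)
    (hN : ∀ n ∈ N, ∀ i, ∃ j, n * val i * n⁻¹ = val j) :
    ∃ ψ : ↥N →* Equiv.Perm (Fin 3), ∀ (x : ↥N) (i : Fin 3),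
      val (ψ x i) = (x : G) * val i * (x : G)⁻¹ := by
  classical
  let f : ↥N → Fin 3 → Fin 3 := fun x i => Classical.choose (hN x x.2 i)
  have hf : ∀ (x : ↥N) (i : Fin 3), val (f x i) = (x : G) * val i * (x : G)⁻¹ := fun x i =>
    (Classical.choose_spec (hN x x.2 i)).symm
  have hinv : ∀ (x : ↥N) (i : Fin 3), f x⁻¹ (f x i) = i := by
    intro x i
    apply hinj
    rw [hf, hf]
    simp only [Subgroup.coe_inv]
    group
  have hinv' : ∀ (x : ↥N) (i : Fin 3), f x (f x⁻¹ i) = i := by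
    intro x i
    have := hinv x⁻¹ i
    rwa [inv_inv] at this
  let ψ0 : ↥N → Equiv.Perm (Fin 3) := fun x => ⟨f x, f x⁻¹, hinv x, hinv' x⟩
  have hmul : ∀ x y : ↥N, ψ0 (x * y) = ψ0 x * ψ0 y := by
    intro x y
    ext i
    apply congrArg Fin.val
    apply hinj
    show val (f (x * y) i) = val (f x (f y i))
    rw [hf, hf, hf]
    simp only [Subgroup.coe_mul]
    group
  refine ⟨MonoidHom.mk' ψ0 hmul, ?_⟩
  intro x i
  exact hf x i

set_option maxRecDepth 100000 in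
theorem perm3_ext : ∀ σ τ : Equiv.Perm (Fin 3), σ 0 = τ 0 → σ 1 = τ 1 → σ = τ := by
  decide +kernel

set_option maxRecDepth 100000 in
theorem perm3_key : ∀ σ : Equiv.Perm (Fin 3), σ ≠ 1 →
    (σ ^ 3 = 1) ∨ ∃ τ : Equiv.Perm (Fin 3),
      (σ * (τ * σ * τ⁻¹)) ^ 3 = 1 ∧ σ * (τ * σ * τ⁻¹) ≠ 1 := by
  decide +kernel

/-- `O₂(S₃) = 1`. -/
theorem normal_two_subgroup_perm3 (N : Subgroup (Equiv.Perm (Fin 3))) [hN : N.Normal]
    (h2 : IsPGroup 2 N) : N = ⊥ := by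
  rw [eq_bot_iff]
  intro σ hσ
  rw [Subgroup.mem_bot]
  by_contra hne
  have key : ∃ ρ ∈ N, ρ ≠ 1 ∧ ρ ^ 3 = 1 := by
    rcases perm3_key σ hne with h3 | ⟨τ, h3, h3'⟩
    · exact ⟨σ, hσ, hne, h3⟩
    · exact ⟨σ * (τ * σ * τ⁻¹), N.mul_mem hσ (hN.conj_mem σ hσ τ), h3', h3⟩
  obtain ⟨ρ, hρN, hρ1, hρ3⟩ := key
  obtain ⟨k, hk⟩ := h2 ⟨ρ, hρN⟩
  have hk' : ρ ^ (2 ^ k) = 1 := by
    have := congrArg Subtype.val hk
    simpa using this
  have h1 : orderOf ρ ∣ 3 := orderOf_dvd_of_pow_eq_one hρ3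
  have h2' : orderOf ρ ∣ 2 ^ k := orderOf_dvd_of_pow_eq_one hk'
  have hcop : Nat.Coprime 3 (2 ^ k) := Nat.Coprime.pow_right k (by norm_num)
  have h3 : orderOf ρ ∣ 1 := by
    have := Nat.dvd_gcd h1 h2'
    rwa [hcop] at this
  apply hρ1
  exact orderOf_eq_one_iff.mp (Nat.dvd_one.mp h3)

end Cfsg.Agent.Lib.Helper9.LargeExtra
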