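import Mathlib
import Cfsg.Prelude.Def_Sporadic_a
import Cfsg.Agent.Lib.Helper9.TabPerm
import Cfsg.Agent.Lib.Helper6.M24Q2
import Cfsg.Agent.Lib.Lead.Nilpotent

set_option autoImplicit false

/-!
# Polycyclic `2`-groups of permutations of the 24 points given by tables: order, centre, and the
strongly closed chain certificate
-/

namespace Cfsg.Agent.H9MF

open Cfsg
open Cfsg.Agent.Lib.Helper9.M24 (tperm tabOK tabM24 tget natOfPt ptOfNat natOfPt_tperm natOfPt_lt
  natOfPt_injective natOfPt_ptOfNat ptOfNat_natOfPt tperm_mem)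
open Cfsg.Agent.Lib.Helper6.M24Syl (C gen_mem_C C_mono C_le wp wp_nil wp_cons wp_append wp_mem
  pc_isPGroup perm_ext)
open Cfsg.Agent.Lib.Helper6.M24Q (nf_exists subl mem_subl)

section
variable (tabs : List (List ℕ))

/-- the `k`-th table -/
def Tb (k : ℕ) : List ℕ := tabs.getD k (List.range 24)

/-- the `k`-th generator -/
def gn (k : ℕ) : Equiv.Perm GolayPt := tperm (Tb tabs k)

/-- evaluation of a word at an index -/
def ev (w : List ℕ) (x : ℕ) : ℕ := w.foldr (fun k acc => tget (Tb tabs k) acc) x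

def tabsOK : Bool := (List.range 24 :: tabs).all tabOK

variable {tabs}

theorem Tb_mem (k : ℕ) : Tb tabs k ∈ List.range 24 :: tabs := by
  unfold Tb
  by_cases hk : k < tabs.length
  · rw [List.getD_eq_getElem _ _ hk]
    exact List.mem_cons_of_mem _ (List.getElem_mem hk)
  · rw [List.getD_eq_default _ _ (Nat.le_of_not_lt hk)]
    exact List.mem_cons_self

theorem Tb_ok (h : tabsOK tabs = true) (k : ℕ) : tabOK (Tb tabs k) = true := by
  unfold tabsOK at h
  rw [List.all_eq_true] at h
  exact h _ (Tb_mem k)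

theorem natOfPt_gn (h : tabsOK tabs = true) (k : ℕ) (p : GolayPt) :
    natOfPt (gn tabs k p) = tget (Tb tabs k) (natOfPt p) :=
  natOfPt_tperm (Tb_ok h k) p

theorem ev_nil (x : ℕ) : ev tabs [] x = x := rfl

theorem ev_cons (k : ℕ) (w : List ℕ) (x : ℕ) : ev tabs (k :: w) x = tget (Tb tabs k) (ev tabs w x) := rfl

theorem ev_append (w w' : List ℕ) (x : ℕ) : ev tabs (w ++ w') x = ev tabs w (ev tabs w' x) := by
  unfold ev
  rw [List.foldr_append]

theorem natOfPt_wp (h : tabsOK tabs = true) (w : List ℕ) (p : GolayPt) :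
    natOfPt (wp (gn tabs) w p) = ev tabs w (natOfPt p) := by
  induction w with
  | nil => rw [wp_nil]; rfl
  | cons k w ih =>
    rw [wp_cons, Equiv.Perm.mul_apply, natOfPt_gn h, ih, ev_cons]

theorem ev_lt (h : tabsOK tabs = true) (w : List ℕ) {x : ℕ} (hx : x < 24) : ev tabs w x < 24 := by
  have := natOfPt_wp h w (ptOfNat x)
  rw [natOfPt_ptOfNat x hx] at this
  rw [← this]
  exact natOfPt_lt _

/-- equality of words as permutations, on tables -/
def teqW (tabs : List (List ℕ)) (w w' : List ℕ) : Bool :=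
  (List.range 24).all fun x => ev tabs w x == ev tabs w' x

theorem teqW_iff (h : tabsOK tabs = true) (w w' : List ℕ) :
    teqW tabs w w' = true ↔ wp (gn tabs) w = wp (gn tabs) w' := by
  unfold teqW
  rw [List.all_eq_true]
  constructor
  · intro hh
    apply perm_ext
    intro p
    rw [natOfPt_wp h, natOfPt_wp h]
    exact beq_iff_eq.mp (hh _ (List.mem_range.mpr (natOfPt_lt p)))
  · intro hh x hx
    rw [beq_iff_eq]
    have hx' := List.mem_range.mp hx
    have := congrArg (fun f : Equiv.Perm GolayPt => natOfPt (f (ptOfNat x))) hh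
    simp only [natOfPt_wp h, natOfPt_ptOfNat x hx'] at this
    exact this

/-- the polycyclic relations, on tables -/
def pcOK (tabs : List (List ℕ)) (n : ℕ) (Sq : List (List ℕ)) (Wl : List (List (List ℕ))) : Bool :=
  (List.range n).all fun i =>
    (Sq.getD i []).all (fun k => decide (k < i)) &&
    teqW tabs [i, i] (Sq.getD i []) &&
    (List.range i).all fun j =>
      ((Wl.getD i []).getD j []).all (fun k => decide (k < i)) &&
      teqW tabs [i, j] (((Wl.getD i []).getD j []) ++ [i])

theorem wp_two (a b : ℕ) : wp (gn tabs) [a, b] = gn tabs a * gn tabs b := by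
  rw [wp_cons, wp_cons, wp_nil, mul_one]

theorem wp_one (a : ℕ) : wp (gn tabs) [a] = gn tabs a := by
  rw [wp_cons, wp_nil, mul_one]

theorem pc_hyp (h : tabsOK tabs = true) {n : ℕ} {Sq : List (List ℕ)} {Wl : List (List (List ℕ))}
    (hpc : pcOK tabs n Sq Wl = true) :
    ∀ m < n, (∀ j, j < m → gn tabs m * gn tabs j * (gn tabs m)⁻¹ ∈ C (gn tabs) 0 m) ∧
      gn tabs m * gn tabs m ∈ C (gn tabs) 0 m := by
  intro m hm
  unfold pcOK at hpc
  rw [List.all_eq_true] at hpc
  have h1 := hpc m (List.mem_range.mpr hm)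
  simp only [Bool.and_eq_true, List.all_eq_true, decide_eq_true_eq, List.mem_range] at h1
  obtain ⟨⟨h2, h3⟩, h4⟩ := h1
  constructor
  · intro j hj
    obtain ⟨h5, h6⟩ := h4 j hj
    have h7 := (teqW_iff h _ _).mp h6
    rw [wp_two, wp_append, wp_one] at h7
    have : gn tabs m * gn tabs j * (gn tabs m)⁻¹ = wp (gn tabs) ((Wl.getD m []).getD j []) := by
      rw [mul_inv_eq_iff_eq_mul, h7]
    rw [this]
    exact wp_mem _ _ (fun k hk => ⟨Nat.zero_le _, h5 k hk⟩)
  · have h7 := (teqW_iff h _ _).mp h3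
    rw [wp_two] at h7
    rw [h7]
    exact wp_mem _ _ (fun k hk => ⟨Nat.zero_le _, h2 k hk⟩)

theorem S_isPGroup (h : tabsOK tabs = true) {n : ℕ} {Sq : List (List ℕ)} {Wl : List (List (List ℕ))}
    (hpc : pcOK tabs n Sq Wl = true) : IsPGroup 2 (C (gn tabs) 0 n) :=
  pc_isPGroup _ n (pc_hyp h hpc)

theorem nf (h : tabsOK tabs = true) {n : ℕ} {Sq : List (List ℕ)} {Wl : List (List (List ℕ))}
    (hpc : pcOK tabs n Sq Wl = true) :
    ∀ y ∈ C (gn tabs) 0 n, ∃ w : List ℕ, w.Sublist (List.range n) ∧ y = wp (gn tabs) w :=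
  nf_exists _ n (pc_hyp h hpc) n le_rfl

theorem wp_mem_S {n : ℕ} (w : List ℕ) (hw : ∀ k ∈ w, k < n) : wp (gn tabs) w ∈ C (gn tabs) 0 n :=
  wp_mem _ _ (fun k hk => ⟨Nat.zero_le _, hw k hk⟩)

theorem sublist_range_lt {n : ℕ} {w : List ℕ} (hw : w.Sublist (List.range n)) : ∀ k ∈ w, k < n :=
  fun k hk => List.mem_range.mp (hw.subset hk)

/-- injective encoding of a permutation of the 24 points -/
def encP (σ : Equiv.Perm GolayPt) : ℕ :=
  (List.range 24).foldl (fun acc x => acc * 24 + natOfPt (σ (ptOfNat x))) 0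

/-- the encoding on words -/
def enc (tabs : List (List ℕ)) (w : List ℕ) : ℕ :=
  (List.range 24).foldl (fun acc x => acc * 24 + ev tabs w x) 0

theorem foldl_congr_mem {α β : Type*} (f g : β → α → β) (l : List α) (b : β)
    (h : ∀ b, ∀ a ∈ l, f b a = g b a) : l.foldl f b = l.foldl g b := by
  induction l generalizing b with
  | nil => rfl
  | cons a l ih =>
    rw [List.foldl_cons, List.foldl_cons, h b a List.mem_cons_self]
    exact ih _ (fun b a ha => h b a (List.mem_cons_of_mem _ ha))

theorem enc_eq (h : tabsOK tabs = true) (w : List ℕ) : enc tabs w = encP (wp (gn tabs) w) := by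
  unfold enc encP
  apply foldl_congr_mem
  intro b a ha
  rw [natOfPt_wp h, natOfPt_ptOfNat a (List.mem_range.mp ha)]

theorem card_S (h : tabsOK tabs = true) {n : ℕ} {Sq : List (List ℕ)} {Wl : List (List (List ℕ))}
    (hpc : pcOK tabs n Sq Wl = true)
    (hnd : ((subl (List.range n)).map (enc tabs)).Nodup) :
    Nat.card (C (gn tabs) 0 n) = (subl (List.range n)).length := by
  classical
  obtain ⟨L, hL⟩ : ∃ L, L = (subl (List.range n)).map (wp (gn tabs)) := ⟨_, rfl⟩
  have hLnd : L.Nodup := by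
    apply List.Nodup.of_map encP
    rw [hL, List.map_map]
    have : encP ∘ wp (gn tabs) = enc tabs := by
      funext w
      exact (enc_eq h w).symm
    rw [this]
    exact hnd
  have hset : ((C (gn tabs) 0 n : Subgroup (Equiv.Perm GolayPt)) : Set (Equiv.Perm GolayPt)) =
      ↑L.toFinset := by
    ext y
    simp only [SetLike.mem_coe, List.coe_toFinset, Set.mem_setOf_eq]
    constructor
    · intro hy
      obtain ⟨w, hw, rfl⟩ := nf h hpc y hy
      rw [hL]
      exact List.mem_map.mpr ⟨w, mem_subl hw, rfl⟩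
    · intro hy
      rw [hL] at hy
      obtain ⟨w, hw, rfl⟩ := List.mem_map.mp hy
      apply wp_mem_S
      -- letters of members of `subl` are below `n`
      have key : ∀ (l : List ℕ) (w : List ℕ), w ∈ subl l → ∀ k ∈ w, k ∈ l := by
        intro l
        induction l with
        | nil =>
          intro w hw k hk
          simp only [subl, List.mem_singleton] at hw
          rw [hw] at hk
          exact absurd hk List.not_mem_nil
        | cons a l ih =>
          intro w hw k hk
          simp only [subl, List.mem_append, List.mem_map] at hw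
          rcases hw with hw | ⟨w', hw', rfl⟩
          · exact List.mem_cons_of_mem _ (ih w hw k hk)
          · rcases List.mem_cons.mp hk with rfl | hk
            · exact List.mem_cons_self
            · exact List.mem_cons_of_mem _ (ih w' hw' k hk)
      intro k hk
      exact List.mem_range.mp (key _ w hw k hk)
  rw [← SetLike.coe_sort_coe, Nat.card_coe_set_eq, hset, Set.ncard_coe_finset,
    List.toFinset_card_of_nodup hLnd, hL, List.length_map]

/-- the centre certificate -/
def centerOK (tabs : List (List ℕ)) (n : ℕ) : Bool :=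
  (subl (List.range n)).all fun w =>
    (w == []) || teqW tabs w [0] || (List.range n).any fun k => !(teqW tabs (w ++ [k]) (k :: w))

theorem center_sub (h : tabsOK tabs = true) {n : ℕ} {Sq : List (List ℕ)} {Wl : List (List (List ℕ))}
    (hpc : pcOK tabs n Sq Wl = true) (hc : centerOK tabs n = true) (y : Equiv.Perm GolayPt)
    (hy : y ∈ C (gn tabs) 0 n) (hcomm : ∀ k < n, y * gn tabs k = gn tabs k * y) :
    y = 1 ∨ y = gn tabs 0 := by
  obtain ⟨w, hw, rfl⟩ := nf h hpc y hy
  unfold centerOK at hc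
  rw [List.all_eq_true] at hc
  have h1 := hc w (mem_subl hw)
  simp only [Bool.or_eq_true, beq_iff_eq, List.any_eq_true, List.mem_range, Bool.not_eq_true'] at h1
  rcases h1 with (h1 | h1) | ⟨k, hk, h1⟩
  · left; rw [h1, wp_nil]
  · right
    rw [← wp_one]
    exact (teqW_iff h _ _).mp h1
  · exfalso
    have h2 : teqW tabs (w ++ [k]) (k :: w) = true := by
      rw [teqW_iff h, wp_append, wp_one, wp_cons]
      exact hcomm k hk
    rw [h2] at h1
    exact Bool.noConfusion h1

/-! ### the chain certificate -/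

/-- concatenation of the known words with the given indices -/
def flat (acc : List (List ℕ)) (J : List ℕ) : List ℕ := (J.map fun j => acc.getD j []).flatten

/-- `k * a = b * k` on tables -/
def conjW (tabs : List (List ℕ)) (k a b : List ℕ) : Bool :=
  (List.range 24).all fun x => tget k (ev tabs a x) == ev tabs b (tget k x)

theorem conj_of_conjW (h : tabsOK tabs = true) {k a b : List ℕ} (hk : tabOK k = true)
    (hc : conjW tabs k a b = true) :
    tperm k * wp (gn tabs) a * (tperm k)⁻¹ = wp (gn tabs) b := by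
  rw [mul_inv_eq_iff_eq_mul]
  apply perm_ext
  intro p
  rw [Equiv.Perm.mul_apply, Equiv.Perm.mul_apply, natOfPt_tperm hk, natOfPt_wp h, natOfPt_wp h,
    natOfPt_tperm hk]
  unfold conjW at hc
  rw [List.all_eq_true] at hc
  exact beq_iff_eq.mp (hc _ (List.mem_range.mpr (natOfPt_lt p)))

def chainOK (tabs : List (List ℕ)) (n : ℕ) (F : List (List ℕ)) :
    List (List ℕ × List ℕ × List ℕ) → List (List ℕ) → Bool
  | [], acc => (List.range n).all fun g => teqW tabs [g] (flat acc (F.getD g []))
  | (J, k, b) :: rest, acc => conjW tabs k (flat acc J) b && chainOK tabs n F rest (acc ++ [b])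

theorem wp_flat_mem (T : Subgroup (Equiv.Perm GolayPt)) (acc : List (List ℕ))
    (hacc : ∀ w ∈ acc, wp (gn tabs) w ∈ T) (J : List ℕ) : wp (gn tabs) (flat acc J) ∈ T := by
  induction J with
  | nil => exact T.one_mem
  | cons j J ih =>
    have : flat acc (j :: J) = acc.getD j [] ++ flat acc J := by
      unfold flat
      rw [List.map_cons, List.flatten_cons]
    rw [this, wp_append]
    refine T.mul_mem ?_ ih
    by_cases hj : j < acc.length
    · rw [List.getD_eq_getElem _ _ hj]
      exact hacc _ (List.getElem_mem hj)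
    · rw [List.getD_eq_default _ _ (Nat.le_of_not_lt hj), wp_nil]
      exact T.one_mem

theorem chain_sound (h : tabsOK tabs = true) (n : ℕ) (F : List (List ℕ))
    (T H : Subgroup (Equiv.Perm GolayPt))
    (hcl : ∀ t ∈ T, ∀ g ∈ H, g * t * g⁻¹ ∈ C (gn tabs) 0 n → g * t * g⁻¹ ∈ T)
    (steps : List (List ℕ × List ℕ × List ℕ))
    (hks : ∀ s ∈ steps, tabOK s.2.1 = true ∧ tperm s.2.1 ∈ H ∧ ∀ k ∈ s.2.2, k < n) :
    ∀ acc : List (List ℕ), (∀ w ∈ acc, wp (gn tabs) w ∈ T) → chainOK tabs n F steps acc = true →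
      ∀ g < n, gn tabs g ∈ T := by
  induction steps with
  | nil =>
    intro acc hacc hchk g hg
    unfold chainOK at hchk
    rw [List.all_eq_true] at hchk
    have := (teqW_iff h _ _).mp (hchk g (List.mem_range.mpr hg))
    rw [wp_one] at this
    rw [this]
    exact wp_flat_mem T acc hacc _
  | cons s rest ih =>
    intro acc hacc hchk
    obtain ⟨J, k, b⟩ := s
    unfold chainOK at hchk
    rw [Bool.and_eq_true] at hchk
    obtain ⟨h1, h2⟩ := hchk
    obtain ⟨hk1, hk2, hk3⟩ := hks (J, k, b) List.mem_cons_self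
    have h3 := conj_of_conjW h hk1 h1
    have h4 : wp (gn tabs) b ∈ T := by
      rw [← h3]
      apply hcl _ (wp_flat_mem T acc hacc J) _ hk2
      rw [h3]
      exact wp_mem_S b hk3
    apply ih (fun s hs => hks s (List.mem_cons_of_mem _ hs)) (acc ++ [b]) _ h2
    intro w hw
    rcases List.mem_append.mp hw with hw | hw
    · exact hacc w hw
    · rw [List.mem_singleton.mp hw]
      exact h4

/-- the strongly closed statement from the certificates -/
theorem sc_of_cert (h : tabsOK tabs = true) {n : ℕ} {Sq : List (List ℕ)} {Wl : List (List (List ℕ))}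
    (hpc : pcOK tabs n Sq Wl = true) (hc : centerOK tabs n = true)
    (H : Subgroup (Equiv.Perm GolayPt)) (hSH : C (gn tabs) 0 n ≤ H)
    (F : List (List ℕ)) (steps : List (List ℕ × List ℕ × List ℕ))
    (hks : ∀ s ∈ steps, tabOK s.2.1 = true ∧ tperm s.2.1 ∈ H ∧ ∀ k ∈ s.2.2, k < n)
    (hchain : chainOK tabs n F steps [[0]] = true)
    (T : Subgroup (Equiv.Perm GolayPt)) (hT : T ≤ C (gn tabs) 0 n) (hTb : T ≠ ⊥)
    (hcl : ∀ t ∈ T, ∀ g ∈ H, g * t * g⁻¹ ∈ C (gn tabs) 0 n → g * t * g⁻¹ ∈ T) :
    C (gn tabs) 0 n ≤ T := by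
  haveI : Fact (Nat.Prime 2) := ⟨Nat.prime_two⟩
  obtain ⟨S₀, hS₀⟩ : ∃ S₀, S₀ = C (gn tabs) 0 n := ⟨_, rfl⟩
  rw [← hS₀] at hT hcl hSH ⊢
  have hP : IsPGroup 2 S₀ := hS₀ ▸ S_isPGroup h hpc
  haveI : Group.IsNilpotent S₀ := hP.isNilpotent
  haveI : (T.subgroupOf S₀).Normal := by
    constructor
    intro t ht s
    rw [Subgroup.mem_subgroupOf] at ht ⊢
    have := hcl _ ht _ (hSH s.2) (S₀.mul_mem (S₀.mul_mem s.2 t.2) (S₀.inv_mem s.2))
    simpa using this
  have hne : T.subgroupOf S₀ ≠ ⊥ := by
    intro hb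
    apply hTb
    rw [Subgroup.eq_bot_iff_forall] at hb ⊢
    intro t ht
    have := hb ⟨t, hT ht⟩ (Subgroup.mem_subgroupOf.mpr ht)
    exact congrArg Subtype.val this
  obtain ⟨y, hy1⟩ := (Subgroup.ne_bot_iff_exists_ne_one).mp
    (Cfsg.Agent.Lib.Lead.inf_center_ne_bot (T.subgroupOf S₀) hne)
  obtain ⟨hyT, hyZ⟩ := Subgroup.mem_inf.mp y.2
  rw [Subgroup.mem_subgroupOf] at hyT
  rw [Subgroup.mem_center_iff] at hyZ
  have hyS : ((y : S₀) : Equiv.Perm GolayPt) ∈ C (gn tabs) 0 n := hS₀ ▸ (y : S₀).2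
  have hcomm : ∀ k < n, ((y : S₀) : Equiv.Perm GolayPt) * gn tabs k =
      gn tabs k * ((y : S₀) : Equiv.Perm GolayPt) := by
    intro k hk
    have hk' : gn tabs k ∈ S₀ := hS₀ ▸ gen_mem_C _ (Nat.zero_le _) hk
    have := hyZ ⟨gn tabs k, hk'⟩
    have h2 := congrArg Subtype.val this
    simp only [Subgroup.coe_mul] at h2
    exact h2.symm
  have h0 : gn tabs 0 ∈ T := by
    rcases center_sub h hpc hc _ hyS hcomm with h1 | h1
    · exfalso
      apply hy1
      apply Subtype.ext
      apply Subtype.ext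
      rw [h1]; rfl
    · rw [← h1]; exact hyT
  have hall := chain_sound h n F T H (hS₀ ▸ hcl) steps hks [[0]]
    (by
      intro w hw
      rw [List.mem_singleton.mp hw, wp_one]
      exact h0) hchain
  rw [hS₀]
  exact C_le _ T (fun k _ hk => hall k hk)

end

end Cfsg.Agent.H9MF
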