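import Mathlib
import Cfsg.Prelude.Def_Spor_Mathieu
import Cfsg.Agent.Lib.Helper9.MatFusC
import Cfsg.Agent.Lib.Helper1.M23OutG

set_option autoImplicit false

/-! A Boolean certificate for generating triples of prime order of the point stabiliser of the group of the code. -/

namespace Cfsg.Agent.H9M23

open Cfsg Cfsg.Agent.H9MF
open Cfsg.Agent.Lib.Helper9.M24 (tperm tabOK tabM24 tget)
open Cfsg.Agent.Lib.Helper6.M24Syl (wp wp_nil wp_cons wp_append)
open Cfsg.Agent.Lib.Helper1.M23O (tP tH tV gp gh gv)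

/-- The tables used by the certificate: the two generators and the three standard generators. -/
def tabsOf (tx ty : List ℕ) : List (List ℕ) := [tx, ty, tP, tH, tV]

/-- The certificate. -/
def chkTriple (tx ty : List ℕ) (p q r : ℕ) (wP wH wV : List ℕ) : Bool :=
  tabsOK (tabsOf tx ty) && tabM24 tx && tabM24 ty && (tget tx 23 == 23) && (tget ty 23 == 23) &&
  teqW (tabsOf tx ty) (List.replicate p 0) [] && !(teqW (tabsOf tx ty) [0] []) &&
  teqW (tabsOf tx ty) (List.replicate q 1) [] && !(teqW (tabsOf tx ty) [1] []) &&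
  teqW (tabsOf tx ty) (List.replicate r [0, 1]).flatten [] && !(teqW (tabsOf tx ty) [0, 1] []) &&
  wP.all (fun k => decide (k < 2)) && wH.all (fun k => decide (k < 2)) && wV.all (fun k => decide (k < 2)) &&
  teqW (tabsOf tx ty) wP [2] && teqW (tabsOf tx ty) wH [3] && teqW (tabsOf tx ty) wV [4]

theorem wp_replicate {G : Type*} [Group G] (g : ℕ → G) (k n : ℕ) : wp g (List.replicate n k) = g k ^ n := by
  induction n with
  | zero => rw [List.replicate_zero, wp_nil, pow_zero]
  | succ m ih => rw [List.replicate_succ, wp_cons, ih, pow_succ']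

theorem wp_replicate_flatten {G : Type*} [Group G] (g : ℕ → G) (l : List ℕ) (n : ℕ) :
    wp g (List.replicate n l).flatten = wp g l ^ n := by
  induction n with
  | zero => rw [List.replicate_zero, List.flatten_nil, wp_nil, pow_zero]
  | succ m ih => rw [List.replicate_succ, List.flatten_cons, wp_append, ih, pow_succ']

theorem wp_mem_closure {G : Type*} [Group G] (g : ℕ → G) (w : List ℕ) (hw : ∀ k ∈ w, k < 2) :
    wp g w ∈ Subgroup.closure ({g 0, g 1} : Set G) := by
  induction w with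
  | nil => rw [wp_nil]; exact Subgroup.one_mem _
  | cons k w ih =>
    rw [wp_cons]
    refine Subgroup.mul_mem _ ?_ (ih (fun j hj => hw j (List.mem_cons_of_mem _ hj)))
    have hk := hw k List.mem_cons_self
    apply Subgroup.subset_closure
    interval_cases k
    · exact Or.inl rfl
    · exact Or.inr rfl

theorem top_of_le {x y : ↥Cfsg.Spor.M23}
    (h : Cfsg.Spor.M23 ≤ Subgroup.closure ({x.1, y.1} : Set (Equiv.Perm GolayPt))) :
    Subgroup.closure ({x, y} : Set ↥Cfsg.Spor.M23) = ⊤ := by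
  rw [eq_top_iff]
  intro g _
  have hg := h g.2
  have h1 := MonoidHom.map_closure Cfsg.Spor.M23.subtype ({x, y} : Set ↥Cfsg.Spor.M23)
  have h2 : (⇑Cfsg.Spor.M23.subtype '' ({x, y} : Set ↥Cfsg.Spor.M23)) = {x.1, y.1} := by
    ext g
    simp only [Set.mem_image, Set.mem_insert_iff, Set.mem_singleton_iff, Subgroup.coe_subtype]
    constructor
    · rintro ⟨w, rfl | rfl, rfl⟩
      · exact Or.inl rfl
      · exact Or.inr rfl
    · rintro (rfl | rfl)
      · exact ⟨x, Or.inl rfl, rfl⟩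
      · exact ⟨y, Or.inr rfl, rfl⟩
  rw [h2] at h1
  rw [← h1] at hg
  obtain ⟨g', hg', hgg⟩ := hg
  have : g' = g := Subtype.ext hgg
  rwa [this] at hg'

theorem M23_le_closure : Cfsg.Spor.M23 ≤
    Subgroup.closure ({tperm tP, tperm tH, tperm tV} : Set (Equiv.Perm GolayPt)) := by
  intro g hg
  have h1 : (⟨g, hg⟩ : ↥Cfsg.Spor.M23) ∈ Subgroup.closure ({gp, gh, gv} : Set ↥Cfsg.Spor.M23) := by
    rw [Cfsg.Agent.Lib.Helper1.M23O.gen]
    exact Subgroup.mem_top _
  have h2 : (Subgroup.closure ({gp, gh, gv} : Set ↥Cfsg.Spor.M23)).map Cfsg.Spor.M23.subtype ≤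
      Subgroup.closure ({tperm tP, tperm tH, tperm tV} : Set (Equiv.Perm GolayPt)) := by
    rw [MonoidHom.map_closure]
    apply Subgroup.closure_mono
    rintro _ ⟨w, rfl | rfl | rfl, rfl⟩
    · exact Or.inl rfl
    · exact Or.inr (Or.inl rfl)
    · exact Or.inr (Or.inr rfl)
  exact h2 ⟨_, h1, rfl⟩

theorem chkTriple_sound {tx ty : List ℕ} {p q r : ℕ} {wP wH wV : List ℕ}
    (h : chkTriple tx ty p q r wP wH wV = true) (hp : p.Prime) (hq : q.Prime) (hr : r.Prime) :
    ∃ x y z : ↥Cfsg.Spor.M23, orderOf x = p ∧ orderOf y = q ∧ orderOf z = r ∧ x * y * z = 1 ∧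
      Subgroup.closure ({x, y} : Set ↥Cfsg.Spor.M23) = ⊤ := by
  unfold chkTriple at h
  simp only [Bool.and_eq_true, beq_iff_eq, Bool.not_eq_true', List.all_eq_true, decide_eq_true_eq] at h
  obtain ⟨⟨⟨⟨⟨⟨⟨⟨⟨⟨⟨⟨⟨⟨⟨⟨hOK, hMx⟩, hMy⟩, hx23⟩, hy23⟩, hxp⟩, hx1⟩, hyq⟩, hy1⟩, hzr⟩, hz1⟩, hwP⟩, hwH⟩, hwV⟩,
    hP⟩, hH⟩, hV⟩ := h
  have hOKx : tabOK tx = true := Tb_ok hOK 0
  have hOKy : tabOK ty = true := Tb_ok hOK 1
  have hgx : gn (tabsOf tx ty) 0 = tperm tx := rfl
  have hgy : gn (tabsOf tx ty) 1 = tperm ty := rfl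
  have hgP : gn (tabsOf tx ty) 2 = tperm tP := rfl
  have hgH : gn (tabsOf tx ty) 3 = tperm tH := rfl
  have hgV : gn (tabsOf tx ty) 4 = tperm tV := rfl
  have hxmem : tperm tx ∈ Cfsg.Spor.M23 := Cfsg.Agent.Lib.Helper1.PermCode.mem_M23_tperm hOKx hMx hx23
  have hymem : tperm ty ∈ Cfsg.Spor.M23 := Cfsg.Agent.Lib.Helper1.PermCode.mem_M23_tperm hOKy hMy hy23
  -- orders
  have e1 : tperm tx ^ p = 1 := by
    have := (teqW_iff hOK _ _).mp hxp
    rwa [wp_replicate, wp_nil, hgx] at this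
  have e2 : tperm tx ≠ 1 := by
    intro h1
    have : teqW (tabsOf tx ty) [0] [] = true := by
      rw [teqW_iff hOK, wp_cons, wp_nil, mul_one, hgx, h1]
    rw [hx1] at this
    exact Bool.false_ne_true this
  have e3 : tperm ty ^ q = 1 := by
    have := (teqW_iff hOK _ _).mp hyq
    rwa [wp_replicate, wp_nil, hgy] at this
  have e4 : tperm ty ≠ 1 := by
    intro h1
    have : teqW (tabsOf tx ty) [1] [] = true := by
      rw [teqW_iff hOK, wp_cons, wp_nil, mul_one, hgy, h1]
    rw [hy1] at this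
    exact Bool.false_ne_true this
  have e5 : (tperm tx * tperm ty) ^ r = 1 := by
    have := (teqW_iff hOK _ _).mp hzr
    rwa [wp_replicate_flatten, wp_nil, wp_cons, wp_cons, wp_nil, mul_one, hgx, hgy] at this
  have e6 : tperm tx * tperm ty ≠ 1 := by
    intro h1
    have : teqW (tabsOf tx ty) [0, 1] [] = true := by
      rw [teqW_iff hOK, wp_cons, wp_cons, wp_nil, mul_one, hgx, hgy, h1]
    rw [hz1] at this
    exact Bool.false_ne_true this
  haveI : Fact p.Prime := ⟨hp⟩
  haveI : Fact q.Prime := ⟨hq⟩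
  haveI : Fact r.Prime := ⟨hr⟩
  refine ⟨⟨tperm tx, hxmem⟩, ⟨tperm ty, hymem⟩, (⟨tperm tx, hxmem⟩ * ⟨tperm ty, hymem⟩)⁻¹, ?_, ?_, ?_, ?_, ?_⟩
  · apply orderOf_eq_prime
    · exact Subtype.ext (by simpa using e1)
    · intro h1
      exact e2 (congrArg Subtype.val h1)
  · apply orderOf_eq_prime
    · exact Subtype.ext (by simpa using e3)
    · intro h1
      exact e4 (congrArg Subtype.val h1)
  · rw [orderOf_inv]
    apply orderOf_eq_prime
    · exact Subtype.ext (by simpa using e5)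
    · intro h1
      exact e6 (congrArg Subtype.val h1)
  · exact mul_inv_cancel _
  · apply top_of_le
    refine le_trans M23_le_closure ?_
    rw [Subgroup.closure_le]
    have hcl : ∀ w : List ℕ, (∀ k ∈ w, k < 2) →
        wp (gn (tabsOf tx ty)) w ∈ Subgroup.closure ({tperm tx, tperm ty} : Set (Equiv.Perm GolayPt)) := by
      intro w hw
      have := wp_mem_closure (gn (tabsOf tx ty)) w hw
      rwa [hgx, hgy] at this
    rintro _ (rfl | rfl | rfl)
    · have := hcl wP hwP
      rwa [(teqW_iff hOK _ _).mp hP, wp_cons, wp_nil, mul_one, hgP] at this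
    · have := hcl wH hwH
      rwa [(teqW_iff hOK _ _).mp hH, wp_cons, wp_nil, mul_one, hgH] at this
    · have := hcl wV hwV
      rwa [(teqW_iff hOK _ _).mp hV, wp_cons, wp_nil, mul_one, hgV] at this

end Cfsg.Agent.H9M23
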