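import Mathlib
import Cfsg.Prelude.Def_Spor_Mathieu
import Cfsg.Agent.Lib.Helper9.M23Gen1

set_option autoImplicit false

/-! Certified generating triples of prime order of the point stabiliser of the group of the code. -/

namespace Cfsg.Agent.H9M23

open Cfsg

/-- A certificate: the three orders, the two tables, and three words. -/
structure Cert where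
  p : ℕ
  q : ℕ
  r : ℕ
  tx : List ℕ
  ty : List ℕ
  wP : List ℕ
  wH : List ℕ
  wV : List ℕ

/-- The Boolean check of a certificate. -/
def Cert.ok (c : Cert) : Bool := chkTriple c.tx c.ty c.p c.q c.r c.wP c.wH c.wV

/-- The list of certificates. -/
def certs : List Cert := [
  ⟨2, 5, 11,
    [17, 11, 4, 13, 2, 8, 19, 7, 5, 9, 10, 1, 16, 3, 14, 21, 12, 0, 18, 6, 20, 15, 22, 23],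
    [7, 4, 5, 13, 19, 22, 6, 18, 12, 15, 8, 10, 17, 2, 20, 1, 16, 11, 14, 9, 0, 21, 3, 23],
    [1, 0, 1, 1, 0, 1, 1, 1, 1, 0, 1, 0, 1, 0, 1, 0, 1, 1, 1, 1, 0, 1, 0, 1, 0, 1, 1, 0, 1, 1, 0, 1, 0, 1, 0, 1, 0],
    [0, 1, 1, 1, 1, 0, 1, 1, 0, 1, 1, 1, 1, 0, 1, 0, 1, 0, 1, 1, 0, 1, 1, 0, 1, 1, 1, 0, 1, 1, 1, 0],
    [0, 1, 1, 1, 0, 1, 1, 0, 1, 0, 1, 1, 1, 0, 1, 1, 1, 1, 0, 1, 0, 1, 1, 1, 0, 1, 1, 0, 1, 1, 0, 1, 1, 1, 0, 1]⟩,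
  ⟨2, 5, 23,
    [17, 11, 4, 13, 2, 8, 19, 7, 5, 9, 10, 1, 16, 3, 14, 21, 12, 0, 18, 6, 20, 15, 22, 23],
    [13, 22, 8, 12, 14, 5, 7, 0, 10, 19, 3, 9, 2, 16, 1, 15, 6, 17, 11, 21, 4, 18, 20, 23],
    [1, 0, 1, 1, 1, 0, 1, 0, 1, 1, 1, 0, 1, 0, 1, 0, 1, 1, 0, 1, 1, 0, 1, 0, 1, 0, 1, 1, 1, 0, 1, 0, 1, 1, 1, 1],
    [0, 1, 1, 1, 1, 0, 1, 0, 1, 1, 0, 1, 0, 1, 1, 0, 1, 0, 1, 0, 1, 1, 1, 1, 0, 1, 1, 1, 0, 1, 1, 1, 0],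
    [1, 1, 0, 1, 0, 1, 1, 1, 0, 1, 1, 1, 0, 1, 0, 1, 0, 1, 0, 1, 0, 1, 1, 0, 1, 0, 1, 1, 1, 1, 0, 1, 1, 1, 1, 0]⟩,
  ⟨2, 7, 7,
    [17, 11, 4, 13, 2, 8, 19, 7, 5, 9, 10, 1, 16, 3, 14, 21, 12, 0, 18, 6, 20, 15, 22, 23],
    [0, 20, 19, 5, 16, 8, 6, 17, 1, 12, 18, 4, 3, 22, 13, 21, 15, 2, 11, 14, 9, 10, 7, 23],
    [0, 1, 1, 1, 1, 0, 1, 1, 0, 1, 1, 0, 1, 0, 1, 1, 0, 1, 1, 1, 0, 1, 1, 1, 0, 1, 1, 1, 1, 1, 1, 0, 1, 0],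
    [1, 1, 0, 1, 1, 0, 1, 0, 1, 1, 0, 1, 0, 1, 1, 0, 1, 1, 1, 1, 1, 1, 0, 1, 0, 1, 1, 1, 1, 0],
    [0, 1, 1, 0, 1, 1, 0, 1, 1, 1, 1, 0, 1, 1, 1, 1, 1, 0, 1, 0, 1, 1, 1, 0, 1, 0, 1, 0, 1, 1, 0, 1, 1, 0]⟩,
  ⟨2, 7, 11,
    [17, 11, 4, 13, 2, 8, 19, 7, 5, 9, 10, 1, 16, 3, 14, 21, 12, 0, 18, 6, 20, 15, 22, 23],
    [12, 1, 11, 17, 3, 21, 8, 0, 22, 4, 13, 20, 16, 5, 19, 15, 6, 14, 9, 18, 10, 2, 7, 23],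
    [0, 1, 0, 1, 1, 0, 1, 1, 0, 1, 1, 1, 1, 1, 0, 1, 0, 1, 0, 1, 1, 1, 1, 1, 1, 0, 1],
    [1, 1, 1, 0, 1, 0, 1, 1, 0, 1, 1, 1, 1, 1, 1, 0, 1, 1, 0, 1, 0, 1, 0, 1, 1, 1, 0, 1, 1, 0, 1, 1, 0, 1],
    [1, 0, 1, 1, 0, 1, 0, 1, 0, 1, 1, 1, 1, 0, 1, 1, 0, 1, 1, 0, 1, 1, 1, 0, 1, 1, 1, 0, 1, 0, 1, 1]⟩,
  ⟨2, 7, 23,
    [17, 11, 4, 13, 2, 8, 19, 7, 5, 9, 10, 1, 16, 3, 14, 21, 12, 0, 18, 6, 20, 15, 22, 23],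
    [0, 1, 3, 12, 5, 21, 7, 9, 13, 4, 20, 10, 8, 14, 22, 11, 17, 15, 6, 16, 19, 18, 2, 23],
    [1, 0, 1, 1, 1, 0, 1, 1, 1, 1, 1, 1, 0, 1, 0, 1, 0, 1, 0, 1, 1, 1, 0, 1, 1, 1, 1, 0, 1, 1, 0, 1, 1, 0, 1],
    [1, 0, 1, 1, 1, 1, 0, 1, 0, 1, 1, 1, 1, 0, 1, 1, 1, 1, 0, 1, 0, 1, 0, 1, 1, 1, 1, 0, 1, 1, 1, 1, 0],
    [1, 0, 1, 1, 0, 1, 1, 1, 1, 1, 0, 1, 1, 1, 1, 1, 0, 1, 1, 0, 1, 1, 1, 1, 0, 1, 1, 1, 1, 1, 0, 1, 0, 1]⟩,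
  ⟨2, 11, 11,
    [17, 11, 4, 13, 2, 8, 19, 7, 5, 9, 10, 1, 16, 3, 14, 21, 12, 0, 18, 6, 20, 15, 22, 23],
    [7, 5, 1, 19, 3, 9, 18, 13, 14, 15, 0, 16, 22, 11, 20, 8, 12, 17, 21, 2, 4, 10, 6, 23],
    [0, 1, 1, 0, 1, 1, 0, 1, 1, 1, 1, 0, 1, 1, 1, 1, 0, 1, 0, 1, 0, 1, 1, 1, 1, 1, 1, 0, 1, 0, 1, 1, 0],
    [1, 0, 1, 0, 1, 1, 1, 1, 0, 1, 1, 1, 0, 1, 0, 1, 1, 1, 0, 1, 0, 1, 0, 1, 1, 0, 1, 0, 1, 0, 1, 1, 0, 1, 0],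
    [1, 0, 1, 1, 1, 1, 1, 1, 0, 1, 1, 1, 1, 0, 1, 0, 1, 1, 1, 0, 1, 1, 1, 0, 1, 0, 1, 0, 1, 1]⟩,
  ⟨2, 11, 23,
    [17, 11, 4, 13, 2, 8, 19, 7, 5, 9, 10, 1, 16, 3, 14, 21, 12, 0, 18, 6, 20, 15, 22, 23],
    [7, 0, 17, 8, 4, 19, 11, 10, 9, 16, 6, 15, 21, 20, 3, 13, 2, 12, 14, 1, 5, 22, 18, 23],
    [1, 1, 0, 1, 1, 1, 0, 1, 0, 1, 0, 1, 0, 1, 1, 0, 1, 1, 0, 1, 1, 1, 0, 1, 0, 1, 0, 1, 1, 1],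
    [1, 0, 1, 1, 0, 1, 1, 1, 0, 1, 0, 1, 1, 1, 1, 1, 0, 1, 0, 1, 0, 1, 0, 1, 1, 0, 1, 1, 1, 0, 1],
    [0, 1, 0, 1, 0, 1, 1, 0, 1, 0, 1, 0, 1, 1, 0, 1, 1, 1, 1, 1, 0, 1, 0, 1, 1, 1, 0, 1, 1, 0]⟩,
  ⟨2, 23, 23,
    [17, 11, 4, 13, 2, 8, 19, 7, 5, 9, 10, 1, 16, 3, 14, 21, 12, 0, 18, 6, 20, 15, 22, 23],
    [2, 17, 14, 10, 6, 15, 20, 8, 22, 1, 5, 7, 13, 16, 18, 0, 4, 11, 19, 9, 3, 12, 21, 23],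
    [0, 1, 1, 0, 1, 1, 1, 0, 1, 0, 1, 1, 0, 1, 1, 1, 0, 1, 1, 1, 1, 0, 1, 0, 1, 1, 1],
    [1, 1, 1, 1, 1, 0, 1, 1, 0, 1, 1, 1, 1, 1, 0, 1, 0, 1, 1, 1, 1, 0, 1, 1, 1, 1, 0],
    [1, 1, 1, 1, 0, 1, 1, 0, 1, 0, 1, 1, 0, 1, 1, 1, 0, 1, 0, 1, 1, 1, 1, 1, 0, 1, 1, 1, 1, 0, 1]⟩,
  ⟨3, 3, 11,
    [5, 20, 2, 17, 13, 22, 6, 7, 4, 9, 3, 21, 12, 8, 16, 11, 19, 10, 1, 14, 18, 15, 0, 23],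
    [7, 2, 21, 3, 4, 12, 0, 6, 13, 17, 11, 16, 20, 15, 14, 8, 10, 18, 9, 19, 5, 1, 22, 23],
    [1, 1, 0, 1, 0, 1, 1, 0, 1, 0, 1, 1, 0, 1, 0, 1, 0, 1, 1, 0, 0, 1, 0, 1, 0, 1, 1, 0, 0],
    [0, 1, 0, 0, 1, 0, 0, 1, 0, 1, 1, 0, 1, 1, 0, 1, 1, 0, 0, 1, 0, 0, 1, 0, 0, 1, 1, 0, 0, 1, 1],
    [1, 0, 1, 0, 1, 1, 0, 1, 0, 1, 0, 1, 0, 1, 0, 0, 1, 0, 1, 1, 0, 0, 1, 0, 1, 0, 1, 1, 0]⟩,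
  ⟨3, 3, 23,
    [5, 20, 2, 17, 13, 22, 6, 7, 4, 9, 3, 21, 12, 8, 16, 11, 19, 10, 1, 14, 18, 15, 0, 23],
    [16, 1, 8, 9, 11, 6, 17, 0, 14, 18, 10, 12, 4, 13, 2, 15, 7, 5, 3, 20, 22, 21, 19, 23],
    [1, 0, 1, 0, 1, 0, 0, 1, 0, 1, 1, 0, 1, 0, 0, 1, 0, 1, 1, 0, 1, 0, 0, 1, 1, 0, 0, 1, 0, 0, 1, 1, 0],
    [1, 0, 1, 0, 1, 0, 0, 1, 0, 0, 1, 1, 0, 1, 1, 0, 1, 0, 1, 0, 1, 0, 1, 0, 1, 1, 0, 1, 0, 0, 1, 0, 0],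
    [1, 0, 0, 1, 1, 0, 1, 0, 1, 0, 1, 0, 1, 0, 1, 0, 1, 1, 0, 0, 1, 0, 1, 0, 0, 1, 1, 0, 0]⟩,
  ⟨3, 5, 5,
    [5, 20, 2, 17, 13, 22, 6, 7, 4, 9, 3, 21, 12, 8, 16, 11, 19, 10, 1, 14, 18, 15, 0, 23],
    [17, 21, 22, 10, 4, 8, 7, 12, 18, 13, 16, 9, 1, 19, 14, 15, 0, 3, 2, 20, 11, 6, 5, 23],
    [1, 1, 1, 1, 0, 0, 1, 1, 0, 1, 0, 1, 0, 0, 1, 0, 1, 1, 0, 1, 1, 0, 1, 1, 1, 1, 0, 0],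
    [0, 1, 1, 1, 0, 1, 0, 1, 1, 1, 0, 1, 1, 0, 1, 1, 1, 1, 0, 1, 0, 0, 1, 1, 0, 0, 1],
    [1, 1, 0, 0, 1, 1, 1, 0, 1, 0, 0, 1, 0, 1, 1, 0, 1, 1, 1, 0, 0, 1, 0, 0, 1, 1]⟩,
  ⟨3, 5, 7,
    [5, 20, 2, 17, 13, 22, 6, 7, 4, 9, 3, 21, 12, 8, 16, 11, 19, 10, 1, 14, 18, 15, 0, 23],
    [12, 15, 16, 10, 4, 21, 0, 8, 18, 2, 7, 11, 19, 6, 20, 17, 5, 14, 3, 13, 1, 9, 22, 23],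
    [1, 1, 0, 0, 1, 1, 0, 1, 0, 1, 1, 1, 1, 0, 1, 1, 0, 1, 1, 1, 1, 0, 1, 0],
    [1, 1, 0, 1, 0, 0, 1, 0, 1, 1, 0, 1, 1, 1, 0, 1, 0, 1, 0, 1, 1, 1, 0, 1, 0],
    [0, 0, 1, 1, 1, 1, 0, 1, 1, 0, 1, 0, 0, 1, 0, 1, 0, 1, 0, 1, 1, 0, 0]⟩,
  ⟨3, 5, 11,
    [5, 20, 2, 17, 13, 22, 6, 7, 4, 9, 3, 21, 12, 8, 16, 11, 19, 10, 1, 14, 18, 15, 0, 23],
    [15, 1, 11, 0, 10, 16, 7, 18, 8, 19, 5, 9, 3, 4, 6, 22, 13, 14, 17, 20, 2, 21, 12, 23],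
    [0, 0, 1, 1, 0, 1, 1, 1, 0, 1, 1, 0, 0, 1, 0, 1, 1, 1, 0, 0, 1, 0, 0, 1, 0, 0, 1, 0, 1],
    [1, 0, 1, 0, 1, 1, 1, 0, 1, 1, 1, 0, 1, 1, 1, 0, 0, 1, 0, 1, 1, 0, 0, 1, 0, 0, 1],
    [0, 1, 0, 1, 0, 1, 1, 0, 0, 1, 0, 0, 1, 0, 0, 1, 1, 0, 1, 1, 0, 0, 1, 1, 0, 1, 0, 0]⟩,
  ⟨3, 5, 23,
    [5, 20, 2, 17, 13, 22, 6, 7, 4, 9, 3, 21, 12, 8, 16, 11, 19, 10, 1, 14, 18, 15, 0, 23],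
    [3, 7, 15, 12, 0, 4, 10, 14, 22, 21, 16, 17, 5, 13, 9, 6, 2, 20, 18, 19, 8, 1, 11, 23],
    [1, 0, 1, 0, 1, 1, 0, 0, 1, 1, 0, 0, 1, 0, 1, 1, 1, 0, 1, 0, 0, 1, 1, 0, 0, 1],
    [0, 0, 1, 1, 1, 0, 1, 0, 0, 1, 1, 1, 0, 1, 1, 0, 1, 1, 0, 0, 1, 0, 1, 1, 0, 0],
    [0, 0, 1, 1, 1, 1, 0, 1, 1, 1, 0, 1, 0, 1, 0, 1, 1, 1, 0, 1, 0, 1, 1, 1]⟩,
  ⟨3, 7, 7,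
    [5, 20, 2, 17, 13, 22, 6, 7, 4, 9, 3, 21, 12, 8, 16, 11, 19, 10, 1, 14, 18, 15, 0, 23],
    [13, 19, 1, 14, 8, 5, 22, 20, 2, 15, 17, 12, 3, 7, 6, 0, 11, 4, 9, 10, 18, 21, 16, 23],
    [0, 1, 0, 1, 1, 0, 1, 0, 1, 1, 0, 1, 0, 1, 1, 1, 1, 0, 0, 1, 0],
    [1, 0, 1, 1, 1, 1, 1, 1, 0, 0, 1, 1, 0, 0, 1, 1, 1, 0, 1, 0, 1, 0, 1, 0, 0, 1],
    [1, 0, 0, 1, 1, 0, 1, 0, 0, 1, 0, 1, 0, 1, 0, 1, 0, 0, 1, 0, 1, 1, 0, 1]⟩,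
  ⟨3, 7, 11,
    [5, 20, 2, 17, 13, 22, 6, 7, 4, 9, 3, 21, 12, 8, 16, 11, 19, 10, 1, 14, 18, 15, 0, 23],
    [1, 12, 3, 22, 2, 0, 17, 18, 8, 7, 5, 14, 16, 13, 21, 11, 19, 15, 4, 10, 6, 20, 9, 23],
    [1, 0, 1, 0, 1, 1, 1, 0, 0, 1, 0, 1, 1, 0, 1, 1, 1, 0, 1, 1, 1, 1, 1, 0, 0],
    [0, 0, 1, 0, 1, 1, 0, 0, 1, 0, 1, 0, 1, 0, 0, 1, 1, 1, 1, 1, 0, 0, 1, 1, 1, 0],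
    [1, 1, 0, 0, 1, 0, 1, 0, 1, 0, 1, 1, 0, 1, 0, 0, 1, 0, 0, 1, 0, 1, 0, 0, 1, 0, 1]⟩,
  ⟨3, 7, 23,
    [5, 20, 2, 17, 13, 22, 6, 7, 4, 9, 3, 21, 12, 8, 16, 11, 19, 10, 1, 14, 18, 15, 0, 23],
    [15, 13, 12, 3, 2, 14, 19, 21, 8, 10, 4, 0, 16, 22, 17, 1, 18, 6, 9, 7, 11, 5, 20, 23],
    [0, 1, 0, 0, 1, 1, 1, 1, 0, 1, 1, 0, 1, 0, 1, 1, 0, 0, 1, 1, 1, 1, 0, 0, 1, 0],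
    [0, 1, 1, 1, 0, 1, 1, 1, 0, 1, 0, 0, 1, 1, 1, 0, 0, 1, 1, 1, 1, 1, 0, 0, 1],
    [1, 0, 0, 1, 1, 1, 0, 0, 1, 1, 0, 1, 0, 0, 1, 1, 1, 1, 0, 1, 0, 1, 1]⟩,
  ⟨3, 11, 11,
    [5, 20, 2, 17, 13, 22, 6, 7, 4, 9, 3, 21, 12, 8, 16, 11, 19, 10, 1, 14, 18, 15, 0, 23],
    [16, 20, 13, 17, 8, 19, 7, 9, 3, 18, 11, 1, 5, 14, 4, 10, 6, 12, 15, 21, 0, 2, 22, 23],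
    [1, 0, 0, 1, 0, 0, 1, 1, 0, 0, 1, 0, 0, 1, 1, 0, 1, 0, 1, 0, 0, 1, 0, 0, 1, 0],
    [1, 1, 1, 1, 1, 1, 1, 0, 0, 1, 1, 1, 1, 0, 1, 0, 0, 1, 1, 1, 0, 0, 1, 1, 0],
    [0, 0, 1, 0, 1, 0, 0, 1, 0, 1, 0, 0, 1, 0, 1, 1, 0, 0, 1, 0, 0, 1, 1, 1, 1, 0]⟩,
  ⟨3, 11, 23,
    [5, 20, 2, 17, 13, 22, 6, 7, 4, 9, 3, 21, 12, 8, 16, 11, 19, 10, 1, 14, 18, 15, 0, 23],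
    [19, 1, 11, 6, 16, 18, 15, 2, 20, 21, 12, 3, 4, 8, 10, 14, 7, 9, 0, 22, 17, 5, 13, 23],
    [1, 1, 0, 1, 1, 0, 1, 1, 0, 1, 0, 0, 1, 0, 1, 0, 0, 1, 1, 1, 0, 1, 0, 1],
    [1, 1, 1, 0, 1, 1, 1, 1, 0, 1, 1, 0, 1, 0, 0, 1, 0, 1, 0, 0, 1, 1, 0, 1, 1, 1],
    [1, 1, 0, 0, 1, 0, 1, 0, 0, 1, 0, 1, 1, 1, 1, 1, 1, 1, 1, 1, 1, 0, 1, 0, 1, 0, 0]⟩,
  ⟨3, 23, 23,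
    [5, 20, 2, 17, 13, 22, 6, 7, 4, 9, 3, 21, 12, 8, 16, 11, 19, 10, 1, 14, 18, 15, 0, 23],
    [8, 13, 19, 15, 0, 4, 18, 14, 11, 21, 6, 16, 7, 5, 3, 17, 2, 22, 1, 12, 9, 10, 20, 23],
    [1, 0, 1, 1, 1, 1, 0, 1, 1, 1, 0, 1, 1, 1, 1, 1, 1, 0, 1, 0, 1, 0, 0],
    [0, 0, 1, 0, 1, 1, 1, 0, 0, 1, 0, 0, 1, 1, 0, 1, 0, 0, 1, 1, 0, 1, 0, 0],
    [1, 0, 1, 1, 1, 1, 1, 1, 0, 0, 1, 1, 1, 0, 1, 0, 0, 1, 1, 1, 1, 0, 1, 0, 1]⟩,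
  ⟨5, 5, 5,
    [7, 16, 12, 6, 2, 19, 20, 5, 4, 13, 10, 11, 21, 1, 14, 3, 17, 9, 0, 18, 22, 8, 15, 23],
    [18, 17, 16, 2, 4, 13, 14, 22, 10, 9, 15, 7, 19, 11, 8, 6, 1, 3, 21, 0, 20, 12, 5, 23],
    [1, 1, 0, 1, 1, 1, 0, 1, 1, 1, 0, 0, 0, 1, 0, 1, 0, 0, 1, 0, 1, 0, 1],
    [1, 0, 1, 1, 1, 0, 0, 0, 0, 1, 0, 0, 0, 1, 1, 0, 0, 1, 0, 1, 0, 1, 1, 0],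
    [1, 1, 0, 1, 1, 1, 1, 0, 1, 0, 1, 1, 0, 0, 0, 1, 1, 0, 1, 1, 0, 0, 0, 0, 1]⟩,
  ⟨5, 5, 7,
    [7, 16, 12, 6, 2, 19, 20, 5, 4, 13, 10, 11, 21, 1, 14, 3, 17, 9, 0, 18, 22, 8, 15, 23],
    [5, 10, 21, 17, 8, 1, 3, 20, 11, 2, 19, 18, 12, 13, 6, 14, 16, 15, 22, 0, 9, 7, 4, 23],
    [0, 0, 1, 0, 0, 1, 1, 1, 0, 1, 0, 0, 0, 1, 0, 0, 1, 0, 0, 0, 1, 1],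
    [0, 1, 0, 1, 1, 1, 0, 0, 1, 0, 1, 0, 0, 1, 1, 1, 1, 0, 0, 0, 1, 1],
    [0, 1, 0, 1, 1, 1, 0, 0, 0, 1, 0, 1, 0, 1, 1, 0, 0, 0, 0, 1, 0, 0, 1, 0]⟩,
  ⟨5, 5, 11,
    [7, 16, 12, 6, 2, 19, 20, 5, 4, 13, 10, 11, 21, 1, 14, 3, 17, 9, 0, 18, 22, 8, 15, 23],
    [11, 21, 2, 22, 4, 20, 15, 9, 17, 3, 16, 8, 5, 13, 0, 10, 19, 14, 7, 6, 1, 12, 18, 23],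
    [1, 0, 1, 0, 0, 0, 1, 1, 0, 0, 0, 1, 1, 0, 1, 0, 1, 0, 1, 1, 1, 1],
    [1, 1, 1, 1, 0, 0, 0, 1, 0, 1, 1, 0, 0, 0, 1, 0, 0, 1, 0, 0, 1, 1, 1, 1],
    [1, 1, 0, 1, 0, 0, 1, 1, 0, 1, 0, 1, 1, 1, 0, 0, 0, 1, 0, 0, 0, 1, 0, 1]⟩,
  ⟨5, 5, 23,
    [7, 16, 12, 6, 2, 19, 20, 5, 4, 13, 10, 11, 21, 1, 14, 3, 17, 9, 0, 18, 22, 8, 15, 23],
    [3, 12, 15, 2, 0, 5, 19, 18, 13, 7, 9, 6, 17, 1, 10, 4, 21, 8, 14, 16, 20, 11, 22, 23],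
    [0, 1, 0, 1, 0, 0, 1, 0, 1, 1, 0, 1, 1, 1, 0, 1, 0, 0, 1, 0, 0, 0],
    [1, 1, 1, 0, 0, 1, 0, 0, 1, 1, 0, 1, 0, 0, 0, 1, 1, 0, 0, 0, 1, 0, 1, 0, 1],
    [0, 0, 1, 0, 0, 0, 1, 1, 0, 1, 0, 1, 1, 0, 0, 1, 0, 1, 1, 0, 1, 1, 1]⟩,
  ⟨5, 7, 7,
    [7, 16, 12, 6, 2, 19, 20, 5, 4, 13, 10, 11, 21, 1, 14, 3, 17, 9, 0, 18, 22, 8, 15, 23],
    [13, 10, 2, 8, 14, 11, 16, 6, 21, 1, 5, 12, 17, 4, 22, 7, 3, 9, 0, 19, 18, 15, 20, 23],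
    [0, 0, 1, 1, 0, 1, 1, 0, 1, 1, 0, 1, 0, 0, 1, 0, 0, 1],
    [0, 0, 1, 0, 0, 1, 1, 0, 0, 0, 0, 1, 1, 0, 1, 1, 1, 0, 1, 0, 1, 1],
    [1, 0, 1, 0, 0, 1, 0, 1, 0, 0, 0, 0, 1, 0, 1, 0, 0, 0, 1, 1, 0, 1, 1, 1]⟩,
  ⟨5, 7, 11,
    [7, 16, 12, 6, 2, 19, 20, 5, 4, 13, 10, 11, 21, 1, 14, 3, 17, 9, 0, 18, 22, 8, 15, 23],
    [12, 21, 6, 15, 13, 2, 4, 10, 17, 14, 8, 7, 22, 18, 11, 0, 16, 9, 20, 19, 5, 3, 1, 23],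
    [1, 1, 0, 1, 0, 1, 0, 0, 0, 1, 1, 0, 1, 0, 1, 0, 0, 0, 1, 0, 0, 1],
    [0, 1, 1, 0, 1, 1, 0, 1, 1, 0, 0, 1, 0, 1, 1, 1, 0, 1, 0, 0, 0],
    [0, 0, 1, 0, 0, 0, 1, 1, 1, 0, 0, 0, 1, 0, 1, 0, 0, 0, 0, 1, 1, 0]⟩,
  ⟨5, 7, 23,
    [7, 16, 12, 6, 2, 19, 20, 5, 4, 13, 10, 11, 21, 1, 14, 3, 17, 9, 0, 18, 22, 8, 15, 23],
    [12, 15, 14, 6, 7, 13, 20, 21, 19, 9, 1, 0, 4, 8, 17, 5, 11, 3, 2, 10, 18, 16, 22, 23],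
    [0, 0, 1, 0, 0, 1, 0, 1, 1, 1, 1, 0, 0, 0, 1, 1, 1, 0, 1, 1, 0, 1],
    [1, 1, 1, 1, 0, 1, 0, 0, 0, 1, 0, 1, 1, 1, 0, 1, 0, 0, 0, 1, 1, 1, 0, 0],
    [1, 1, 0, 0, 0, 1, 1, 0, 1, 1, 1, 0, 0, 0, 1, 1, 1]⟩,
  ⟨5, 11, 11,
    [7, 16, 12, 6, 2, 19, 20, 5, 4, 13, 10, 11, 21, 1, 14, 3, 17, 9, 0, 18, 22, 8, 15, 23],
    [3, 0, 20, 9, 5, 22, 14, 8, 11, 2, 12, 19, 1, 10, 13, 16, 21, 17, 4, 15, 6, 18, 7, 23],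
    [0, 0, 0, 1, 1, 0, 1, 0, 0, 1, 1, 0, 0, 1, 0, 0, 1, 0, 0, 1, 0],
    [0, 0, 1, 0, 0, 0, 1, 0, 1, 0, 1, 0, 0, 1, 1, 1, 1, 1, 0, 0, 0],
    [1, 1, 1, 0, 1, 1, 0, 0, 1, 1, 0, 0, 1, 1, 0, 0, 0, 1, 0, 1, 0, 1, 0, 0]⟩,
  ⟨5, 11, 23,
    [7, 16, 12, 6, 2, 19, 20, 5, 4, 13, 10, 11, 21, 1, 14, 3, 17, 9, 0, 18, 22, 8, 15, 23],
    [20, 15, 16, 18, 13, 9, 7, 19, 11, 10, 21, 2, 8, 1, 6, 14, 5, 17, 4, 22, 12, 0, 3, 23],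
    [0, 1, 1, 0, 0, 1, 0, 1, 1, 1, 1, 1, 0, 1, 0, 1, 0, 1, 1, 0, 1, 0, 0],
    [0, 1, 0, 0, 1, 1, 1, 0, 1, 1, 1, 1, 0, 1, 0, 1],
    [1, 1, 0, 1, 1, 1, 1, 0, 0, 1, 1, 1, 1, 0, 0, 1, 0, 0, 0, 1, 1, 1, 1]⟩,
  ⟨5, 23, 23,
    [7, 16, 12, 6, 2, 19, 20, 5, 4, 13, 10, 11, 21, 1, 14, 3, 17, 9, 0, 18, 22, 8, 15, 23],
    [8, 12, 3, 10, 17, 2, 18, 9, 14, 21, 13, 16, 4, 19, 5, 20, 7, 15, 1, 6, 11, 22, 0, 23],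
    [0, 1, 0, 0, 1, 1, 0, 0, 1, 0, 1, 0, 0, 1, 0, 1, 0, 1, 0, 1, 0, 0, 0],
    [1, 0, 1, 0, 0, 0, 1, 1, 0, 1, 1, 1, 1, 0, 1, 1, 1, 0, 1, 1, 1, 0, 0],
    [1, 1, 1, 1, 1, 1, 0, 0, 0, 1, 0, 1, 0, 1, 1, 0, 0, 1, 1, 0, 0, 1, 1, 1]⟩,
  ⟨7, 7, 7,
    [3, 0, 12, 4, 16, 5, 21, 22, 8, 14, 9, 17, 19, 2, 18, 11, 6, 13, 7, 15, 10, 1, 20, 23],
    [7, 2, 13, 15, 6, 11, 10, 18, 22, 9, 21, 14, 17, 4, 0, 16, 8, 3, 19, 5, 20, 1, 12, 23],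
    [1, 0, 0, 1, 0, 0, 0, 0, 1, 0, 0, 1, 0, 0, 1, 0, 0, 1, 1, 0, 1],
    [1, 1, 1, 1, 1, 0, 0, 1, 0, 0, 0, 0, 0, 1, 0, 0, 1, 1, 1, 1, 1, 0, 1, 1],
    [0, 1, 0, 1, 0, 1, 0, 0, 1, 0, 1, 0, 1, 1, 0, 0, 1, 1, 1, 0, 0, 1]⟩,
  ⟨7, 7, 11,
    [3, 0, 12, 4, 16, 5, 21, 22, 8, 14, 9, 17, 19, 2, 18, 11, 6, 13, 7, 15, 10, 1, 20, 23],
    [21, 2, 12, 10, 1, 0, 22, 19, 7, 9, 15, 3, 18, 4, 13, 6, 5, 17, 14, 16, 11, 8, 20, 23],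
    [1, 0, 0, 1, 0, 1, 0, 0, 0, 0, 0, 1, 1, 0, 0, 1, 1, 1, 1, 1, 1],
    [1, 1, 0, 1, 0, 1, 1, 1, 1, 0, 0, 1, 1, 1, 1, 0, 1, 0, 0, 0, 0],
    [1, 1, 0, 1, 0, 0, 0, 0, 0, 1, 0, 1, 1, 0, 0, 0, 0, 1, 1, 1, 1, 1, 0]⟩,
  ⟨7, 7, 23,
    [3, 0, 12, 4, 16, 5, 21, 22, 8, 14, 9, 17, 19, 2, 18, 11, 6, 13, 7, 15, 10, 1, 20, 23],
    [5, 19, 6, 7, 20, 8, 3, 0, 2, 14, 4, 17, 12, 16, 10, 13, 11, 22, 18, 9, 1, 15, 21, 23],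
    [0, 0, 0, 0, 1, 1, 1, 0, 1, 0, 1, 1, 0, 0, 1, 1, 1, 1],
    [1, 1, 1, 1, 1, 0, 1, 1, 0, 0, 0, 1, 0, 1, 1, 0, 0, 0, 0, 0],
    [0, 1, 1, 0, 0, 0, 1, 1, 0, 1, 0, 0, 1, 1, 1, 1, 1, 0, 0, 0, 0, 0, 0]⟩,
  ⟨7, 11, 11,
    [3, 0, 12, 4, 16, 5, 21, 22, 8, 14, 9, 17, 19, 2, 18, 11, 6, 13, 7, 15, 10, 1, 20, 23],
    [14, 20, 11, 12, 10, 6, 7, 17, 0, 9, 13, 21, 22, 1, 4, 19, 8, 18, 2, 16, 15, 3, 5, 23],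
    [0, 1, 1, 1, 1, 0, 1, 1, 0, 1, 1, 1, 0, 1, 0, 0, 0, 0, 1, 1, 0],
    [0, 1, 0, 1, 1, 0, 0, 1, 1, 1, 1, 1, 0, 1, 0, 0, 0, 0, 0, 0, 1, 1],
    [1, 1, 1, 1, 0, 0, 1, 0, 1, 0, 1, 1, 1, 0, 0, 0, 0, 0, 1, 0, 0, 1]⟩,
  ⟨7, 11, 23,
    [3, 0, 12, 4, 16, 5, 21, 22, 8, 14, 9, 17, 19, 2, 18, 11, 6, 13, 7, 15, 10, 1, 20, 23],
    [10, 22, 15, 5, 7, 14, 3, 20, 9, 16, 1, 19, 12, 4, 0, 18, 2, 13, 17, 6, 8, 11, 21, 23],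
    [0, 1, 0, 0, 1, 0, 1, 0, 0, 1, 1, 0, 1, 1, 0, 1, 0, 0, 1, 0, 0, 0, 1],
    [1, 1, 0, 1, 1, 1, 0, 0, 1, 0, 0, 1, 0, 0, 1, 0, 0, 1, 1, 1, 1, 1],
    [0, 0, 0, 0, 1, 0, 0, 1, 0, 1, 1, 1, 1, 0, 1, 1, 1, 0, 1, 0]⟩,
  ⟨7, 23, 23,
    [3, 0, 12, 4, 16, 5, 21, 22, 8, 14, 9, 17, 19, 2, 18, 11, 6, 13, 7, 15, 10, 1, 20, 23],
    [6, 15, 11, 13, 2, 8, 3, 22, 17, 1, 14, 19, 4, 12, 5, 0, 9, 18, 7, 10, 16, 20, 21, 23],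
    [0, 0, 0, 1, 0, 0, 0, 1, 0, 0, 0, 0, 1, 0, 0, 0, 0, 0, 1, 1, 0],
    [0, 0, 0, 0, 1, 1, 0, 0, 1, 0, 1, 0, 1, 1, 1, 0, 0, 0, 1, 0, 0, 0, 1, 0, 1],
    [0, 1, 1, 1, 1, 0, 0, 1, 1, 1, 1, 1, 0, 1, 1, 1, 0, 0, 0, 1, 1, 0]⟩,
  ⟨11, 11, 11,
    [4, 3, 15, 9, 5, 12, 6, 18, 13, 17, 16, 22, 8, 11, 7, 0, 14, 20, 19, 1, 10, 2, 21, 23],
    [11, 10, 5, 2, 18, 4, 1, 8, 3, 9, 16, 17, 19, 21, 0, 7, 22, 6, 13, 14, 15, 20, 12, 23],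
    [1, 1, 0, 0, 0, 1, 1, 0, 1, 0, 1, 1, 1, 1, 0, 1, 0, 0, 0, 0, 0, 0],
    [1, 0, 0, 0, 1, 0, 0, 1, 0, 0, 0, 1, 0, 0, 1, 0, 0, 0, 0, 0, 1, 0, 0, 0, 1],
    [1, 0, 1, 0, 1, 0, 1, 0, 0, 0, 0, 1, 0, 0, 0, 0, 0, 1, 1, 1, 0, 0, 1]⟩,
  ⟨11, 11, 23,
    [4, 3, 15, 9, 5, 12, 6, 18, 13, 17, 16, 22, 8, 11, 7, 0, 14, 20, 19, 1, 10, 2, 21, 23],
    [5, 0, 12, 18, 11, 3, 1, 16, 22, 21, 6, 7, 9, 20, 4, 8, 15, 13, 2, 19, 14, 10, 17, 23],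
    [1, 0, 1, 0, 0, 0, 0, 1, 1, 0, 0, 1, 1, 1, 1, 0, 0, 0, 0, 1, 0, 0, 0, 0],
    [0, 1, 0, 1, 0, 0, 0, 1, 0, 0, 0, 0, 1, 1, 0, 0, 1, 0, 0, 0, 0, 1],
    [0, 0, 0, 1, 0, 1, 0, 1, 0, 1, 0, 1, 1, 1, 0, 1, 1, 0, 1, 0, 1, 1]⟩,
  ⟨11, 23, 23,
    [4, 3, 15, 9, 5, 12, 6, 18, 13, 17, 16, 22, 8, 11, 7, 0, 14, 20, 19, 1, 10, 2, 21, 23],
    [4, 16, 8, 10, 15, 21, 18, 19, 9, 14, 12, 17, 7, 2, 5, 1, 11, 13, 22, 0, 3, 6, 20, 23],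
    [0, 0, 1, 1, 0, 0, 0, 1, 1, 0, 0, 0, 1, 0, 1, 1, 1, 0, 1, 1, 0, 0],
    [0, 1, 1, 0, 1, 1, 0, 1, 1, 1, 1, 1, 0, 0, 1, 0, 1, 0, 0, 1, 1],
    [0, 1, 0, 1, 0, 0, 0, 0, 0, 0, 1, 0, 0, 1, 0, 0, 0, 0, 1, 1, 0, 0, 1]⟩,
  ⟨23, 23, 23,
    [5, 8, 16, 20, 17, 12, 21, 13, 22, 2, 9, 3, 11, 15, 18, 1, 19, 7, 0, 4, 6, 10, 14, 23],
    [2, 12, 10, 14, 7, 1, 5, 15, 16, 0, 13, 18, 9, 11, 6, 17, 19, 22, 4, 3, 21, 8, 20, 23],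
    [0, 0, 1, 1, 0, 0, 1, 1, 0, 1, 1, 0, 1, 1, 1, 1, 0, 1, 0, 1, 0, 1],
    [0, 0, 0, 0, 1, 1, 1, 1, 1, 1, 1, 1, 0, 0, 1, 0, 0, 1, 0, 1],
    [1, 0, 0, 1, 0, 1, 1, 1, 0, 1, 0, 0, 0, 0, 0, 0, 1, 1, 1, 1, 1, 0, 0, 1]⟩]

theorem certs_ok : certs.all Cert.ok = true := by decide +kernel

/-- Whether a triple of orders has a certificate. -/
def hasKey (p q r : ℕ) : Bool := certs.any fun c => (c.p == p) && (c.q == q) && (c.r == r)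

theorem exists_of_hasKey {p q r : ℕ} (h : hasKey p q r = true) (hp : p.Prime) (hq : q.Prime) (hr : r.Prime) :
    ∃ x y z : ↥Cfsg.Spor.M23, orderOf x = p ∧ orderOf y = q ∧ orderOf z = r ∧ x * y * z = 1 ∧
      Subgroup.closure ({x, y} : Set ↥Cfsg.Spor.M23) = ⊤ := by
  unfold hasKey at h
  obtain ⟨c, hc, hk⟩ := List.any_eq_true.mp h
  have hok := List.all_eq_true.mp certs_ok c hc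
  simp only [Bool.and_eq_true, beq_iff_eq] at hk
  obtain ⟨⟨rfl, rfl⟩, rfl⟩ := hk
  exact chkTriple_sound hok hp hq hr

end Cfsg.Agent.H9M23
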