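import Mathlib

set_option autoImplicit false

namespace Cfsg.Agent.H9Scott

open Module LinearMap

variable {K V : Type*} [Field K] [AddCommGroup V] [Module K V] [FiniteDimensional K V]

/-- The linear-algebra core of Scott's lemma for three maps with `Z ∘ Y ∘ X = 1`. -/
theorem scott_abstract (X Y Z : V →ₗ[K] V) (h : Z ∘ₗ Y ∘ₗ X = LinearMap.id) :
    finrank K V + finrank K ↥(range (LinearMap.id - X) ⊔ range (LinearMap.id - Y)) ≤
      finrank K ↥(ker (LinearMap.id - X) ⊓ ker (LinearMap.id - Y)) + finrank K (range (LinearMap.id - X))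
        + finrank K (range (LinearMap.id - Y)) + finrank K (range (LinearMap.id - Z)) := by
  obtain ⟨a, ha⟩ : ∃ a : V →ₗ[K] V, a = LinearMap.id - X := ⟨_, rfl⟩
  obtain ⟨b, hb⟩ : ∃ b : V →ₗ[K] V, b = LinearMap.id - Y := ⟨_, rfl⟩
  obtain ⟨c, hc⟩ : ∃ c : V →ₗ[K] V, c = LinearMap.id - Z := ⟨_, rfl⟩
  rw [← ha, ← hb, ← hc]
  have hrel : ∀ v, a v + b (X v) = - c (Y (X v)) := by
    intro v
    have h1 : Z (Y (X v)) = v := by
      have := congrArg (fun f : V →ₗ[K] V => f v) h
      simpa using this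
    rw [ha, hb, hc]
    simp only [LinearMap.sub_apply, LinearMap.id_apply]
    rw [h1]
    abel
  -- the map φ
  let φ : V →ₗ[K] V × V := a.prod (b ∘ₗ X)
  have hker : ker φ ≤ ker a ⊓ ker b := by
    intro v hv
    rw [LinearMap.mem_ker] at hv
    have h1 : a v = 0 := congrArg Prod.fst hv
    have h2 : b (X v) = 0 := congrArg Prod.snd hv
    have h3 : X v = v := by
      rw [ha] at h1
      simp only [LinearMap.sub_apply, LinearMap.id_apply] at h1
      exact (sub_eq_zero.mp h1).symm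
    rw [h3] at h2
    exact ⟨h1, h2⟩
  have e1 := LinearMap.finrank_range_add_finrank_ker φ
  have e1' : finrank K (ker φ) ≤ finrank K ↥(ker a ⊓ ker b) := Submodule.finrank_mono hker
  let g : ↥(range φ) →ₗ[K] V := (LinearMap.fst K V V + LinearMap.snd K V V).domRestrict (range φ)
  have e2 := LinearMap.finrank_range_add_finrank_ker g
  have e3 : finrank K (range g) ≤ finrank K (range c) := by
    apply Submodule.finrank_mono
    rintro _ ⟨⟨_, ⟨v, rfl⟩⟩, rfl⟩
    have : g ⟨φ v, ⟨v, rfl⟩⟩ = a v + b (X v) := rfl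
    rw [this, hrel]
    exact ⟨- (Y (X v)), by rw [map_neg]⟩
  have e4 : finrank K (ker g) ≤ finrank K ↥(range a ⊓ range b) := by
    let ι : ↥(ker g) →ₗ[K] ↥(range a ⊓ range b) :=
      LinearMap.codRestrict _ ((LinearMap.fst K V V) ∘ₗ (range φ).subtype ∘ₗ (ker g).subtype) (by
        rintro ⟨⟨_, ⟨v, rfl⟩⟩, hv⟩
        rw [LinearMap.mem_ker] at hv
        have h1 : a v + b (X v) = 0 := hv
        refine ⟨⟨v, rfl⟩, ?_⟩
        refine ⟨- X v, ?_⟩
        rw [map_neg]
        exact (eq_neg_of_add_eq_zero_left h1).symm)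
    apply LinearMap.finrank_le_finrank_of_injective (f := ι)
    rintro ⟨⟨_, ⟨v, rfl⟩⟩, hv⟩ ⟨⟨_, ⟨w, rfl⟩⟩, hw⟩ hvw
    rw [LinearMap.mem_ker] at hv hw
    have h1 : a v + b (X v) = 0 := hv
    have h2 : a w + b (X w) = 0 := hw
    have h3 : a v = a w := congrArg Subtype.val hvw
    have h4 : b (X v) = b (X w) := by
      rw [eq_neg_of_add_eq_zero_right h1, eq_neg_of_add_eq_zero_right h2, h3]
    apply Subtype.ext
    apply Subtype.ext
    exact Prod.ext h3 h4
  have e5 := Submodule.finrank_sup_add_finrank_inf_eq (range a) (range b)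
  omega

end Cfsg.Agent.H9Scott
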