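import Mathlib
import Cfsg.Agent.Lib.Helper9.Scott1

set_option autoImplicit false

namespace Cfsg.Agent.H9Scott

open Module LinearMap

variable {α : Type*} [Fintype α] [DecidableEq α]

/-- The linear map `f ↦ f ∘ σ` on rational functions on `α`. -/
noncomputable def pl (σ : Equiv.Perm α) : (α → ℚ) →ₗ[ℚ] (α → ℚ) := Matrix.toLin' (σ.permMatrix ℚ)

theorem pl_apply (σ : Equiv.Perm α) (f : α → ℚ) : pl σ f = f ∘ σ := by
  unfold pl
  rw [Matrix.toLin'_apply, Matrix.permMatrix_mulVec]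

theorem pl_mul (σ τ : Equiv.Perm α) : pl (σ * τ) = pl τ * pl σ := by
  apply LinearMap.ext
  intro f
  rw [Module.End.mul_apply, pl_apply, pl_apply, pl_apply]
  rfl

theorem pl_one : pl (1 : Equiv.Perm α) = 1 := by
  apply LinearMap.ext
  intro f
  rw [pl_apply]
  rfl

theorem pl_pow (σ : Equiv.Perm α) (n : ℕ) : pl (σ ^ n) = pl σ ^ n := by
  induction n with
  | zero => rw [pow_zero, pow_zero, pl_one]
  | succ k ih => rw [pow_succ', pl_mul, ih, pow_succ]

theorem trace_pl (σ : Equiv.Perm α) :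
    LinearMap.trace ℚ (α → ℚ) (pl σ) = ((Function.fixedPoints σ).ncard : ℚ) := by
  unfold pl
  rw [Matrix.trace_toLin'_eq, Matrix.trace_permutation]

theorem fixedPoints_pow {σ : Equiv.Perm α} {r : ℕ} (hr : r.Prime) (hσ : σ ^ r = 1) {i : ℕ} (hi0 : 0 < i)
    (hir : i < r) : Function.fixedPoints ⇑(σ ^ i) = Function.fixedPoints ⇑σ := by
  have hco : Nat.Coprime i r := (Nat.coprime_of_lt_prime hi0.ne' hir hr).symm
  obtain ⟨j, -, hj⟩ := Nat.exists_mul_mod_eq_one_of_coprime hco hr.one_lt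
  have h1 : (σ ^ i) ^ j = σ := by
    rw [← pow_mul, pow_eq_pow_mod (i * j) hσ, hj, pow_one]
  apply Set.Subset.antisymm
  · intro a ha
    rw [Function.mem_fixedPoints] at ha ⊢
    have := ha.perm_pow j
    rwa [h1] at this
  · intro a ha
    rw [Function.mem_fixedPoints] at ha ⊢
    exact ha.perm_pow i

/-- The dimension of the fixed space of a permutation with `σ ^ r = 1`, `r` prime, having `f` fixed points. -/
theorem card_add_le_mul_finrank_ker {σ : Equiv.Perm α} {r : ℕ} (hr : r.Prime) (hσ : σ ^ r = 1) :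
    Fintype.card α + (r - 1) * (Function.fixedPoints ⇑σ).ncard ≤
      r * finrank ℚ (ker (LinearMap.id - pl σ)) := by
  obtain ⟨L, hL⟩ : ∃ L : Module.End ℚ (α → ℚ), L = pl σ := ⟨_, rfl⟩
  have hLr : L ^ r = 1 := by rw [hL, ← pl_pow, hσ, pl_one]
  obtain ⟨P, hP⟩ : ∃ P : Module.End ℚ (α → ℚ), P = ∑ i ∈ Finset.range r, L ^ i := ⟨_, rfl⟩
  have hLP : L * P = P := by
    rw [hP, Finset.mul_sum]
    have h1 : ∀ i ∈ Finset.range r, L * L ^ i = L ^ (i + 1) := fun i _ => (pow_succ' L i).symm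
    rw [Finset.sum_congr rfl h1]
    have h2 := Finset.sum_range_succ' (fun i => L ^ i) r
    have h3 := Finset.sum_range_succ (fun i => L ^ i) r
    rw [h3] at h2
    simp only [pow_zero, hLr] at h2
    exact (add_right_cancel h2).symm
  have hLiP : ∀ i : ℕ, L ^ i * P = P := by
    intro i
    induction i with
    | zero => rw [pow_zero, one_mul]
    | succ k ih => rw [pow_succ, mul_assoc, hLP, ih]
  have hPP : P * P = (r : ℚ) • P := by
    conv_lhs => rw [hP]
    rw [Finset.sum_mul, ← hP, Finset.sum_congr rfl (fun i _ => hLiP i), Finset.sum_const, Finset.card_range,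
      Nat.cast_smul_eq_nsmul]
  have hr0 : (r : ℚ) ≠ 0 := Nat.cast_ne_zero.mpr hr.ne_zero
  obtain ⟨E, hE⟩ : ∃ E : Module.End ℚ (α → ℚ), E = (r : ℚ)⁻¹ • P := ⟨_, rfl⟩
  have hEE : IsIdempotentElem E := by
    unfold IsIdempotentElem
    rw [hE, smul_mul_smul_comm, hPP, smul_smul, mul_assoc, inv_mul_cancel₀ hr0, mul_one]
  have htr := hEE.isProj_range.trace
  have hrange : range E ≤ ker (LinearMap.id - L) := by
    rintro _ ⟨v, rfl⟩
    rw [LinearMap.mem_ker, LinearMap.sub_apply, LinearMap.id_apply, hE, LinearMap.smul_apply, map_smul,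
      ← Module.End.mul_apply, hLP, sub_self]
  have hle : finrank ℚ (range E) ≤ finrank ℚ (ker (LinearMap.id - L)) := Submodule.finrank_mono hrange
  have htrE : LinearMap.trace ℚ (α → ℚ) E =
      (r : ℚ)⁻¹ * ((Fintype.card α : ℚ) + ((r : ℚ) - 1) * ((Function.fixedPoints ⇑σ).ncard : ℚ)) := by
    rw [hE, map_smul, hP, map_sum, smul_eq_mul]
    congr 1
    obtain ⟨k, rfl⟩ : ∃ k, r = k + 1 := ⟨r - 1, (Nat.succ_pred_eq_of_pos hr.pos).symm⟩
    rw [Finset.sum_range_succ', pow_zero]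
    have h4 : ∀ i ∈ Finset.range k, LinearMap.trace ℚ (α → ℚ) (L ^ (i + 1)) =
        ((Function.fixedPoints ⇑σ).ncard : ℚ) := by
      intro i hi
      rw [hL, ← pl_pow, trace_pl, fixedPoints_pow hr hσ (Nat.succ_pos i)
        (Nat.succ_lt_succ (Finset.mem_range.mp hi))]
    rw [Finset.sum_congr rfl h4, Finset.sum_const, Finset.card_range, ← pl_one, trace_pl]
    have h5 : Function.fixedPoints ⇑(1 : Equiv.Perm α) = Set.univ := by
      ext a
      simp [Function.mem_fixedPoints, Function.IsFixedPt]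
    rw [h5, Set.ncard_univ, Nat.card_eq_fintype_card]
    push_cast
    simp only [nsmul_eq_mul]
    ring
  rw [htrE] at htr
  rw [← hL]
  have h6 : ((Fintype.card α : ℚ) + ((r : ℚ) - 1) * ((Function.fixedPoints ⇑σ).ncard : ℚ)) =
      (r : ℚ) * (finrank ℚ (range E) : ℚ) := by
    rw [← htr, ← mul_assoc, mul_inv_cancel₀ hr0, one_mul]
  have h7 : ((Fintype.card α + (r - 1) * (Function.fixedPoints ⇑σ).ncard : ℕ) : ℚ) =
      ((r * finrank ℚ (range E) : ℕ) : ℚ) := by
    push_cast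
    rw [Nat.cast_sub hr.one_lt.le]
    push_cast
    exact h6
  have h8 := Nat.cast_injective h7
  rw [h8]
  exact Nat.mul_le_mul_left r hle

end Cfsg.Agent.H9Scott
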