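import Mathlib
import Cfsg.Agent.Lib.Helper9.Scott2

set_option autoImplicit false

namespace Cfsg.Agent.H9Scott

open Module LinearMap

variable {α : Type*} [Fintype α] [DecidableEq α]

theorem comp_eq_of_mem_closure {x y : Equiv.Perm α} {f : α → ℚ} (hx : f ∘ x = f) (hy : f ∘ y = f)
    {g : Equiv.Perm α} (hg : g ∈ Subgroup.closure ({x, y} : Set (Equiv.Perm α))) : f ∘ g = f := by
  induction hg using Subgroup.closure_induction with
  | mem g hg =>
    rcases hg with rfl | rfl
    · exact hx
    · exact hy
  | one => rfl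
  | mul g h _ _ ihg ihh =>
    have : f ∘ ⇑(g * h) = (f ∘ g) ∘ h := rfl
    rw [this, ihg, ihh]
  | inv g _ ih =>
    have : f ∘ ⇑g⁻¹ = (f ∘ g) ∘ ⇑g⁻¹ := by rw [ih]
    rw [this]
    funext a
    simp

theorem single_sub_mem {x y : Equiv.Perm α} {g : Equiv.Perm α}
    (hg : g ∈ Subgroup.closure ({x, y} : Set (Equiv.Perm α))) (b : α) :
    (Pi.single b (1 : ℚ) - Pi.single (g b) (1 : ℚ) : α → ℚ) ∈
      range (LinearMap.id - pl x) ⊔ range (LinearMap.id - pl y) := by
  have key : ∀ (σ : Equiv.Perm α) (b : α), (Pi.single b (1 : ℚ) - Pi.single (σ b) (1 : ℚ) : α → ℚ) ∈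
      range (LinearMap.id - pl σ) := by
    intro σ b
    refine ⟨- Pi.single (σ b) (1 : ℚ), ?_⟩
    rw [map_neg, LinearMap.sub_apply, LinearMap.id_apply, pl_apply]
    funext a
    simp only [Pi.neg_apply, Pi.sub_apply, Function.comp_apply, Pi.single_apply]
    by_cases h : a = b
    · subst h
      simp
    · have : σ a ≠ σ b := fun h' => h (σ.injective h')
      simp [h, this]
  induction hg using Subgroup.closure_induction generalizing b with
  | mem g hg =>
    rcases hg with rfl | rfl
    · exact Submodule.mem_sup_left (key _ b)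
    · exact Submodule.mem_sup_right (key _ b)
  | one => 
    rw [Equiv.Perm.one_apply, sub_self]
    exact Submodule.zero_mem _
  | mul g h _ _ ihg ihh =>
    have : (Pi.single b (1 : ℚ) - Pi.single ((g * h) b) (1 : ℚ) : α → ℚ) =
        (Pi.single b (1 : ℚ) - Pi.single (h b) (1 : ℚ)) +
          (Pi.single (h b) (1 : ℚ) - Pi.single (g (h b)) (1 : ℚ)) := by
      rw [Equiv.Perm.mul_apply]
      abel
    rw [this]
    exact Submodule.add_mem _ (ihh b) (ihg (h b))
  | inv g _ ih =>
    have : (Pi.single b (1 : ℚ) - Pi.single (g⁻¹ b) (1 : ℚ) : α → ℚ) =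
        - (Pi.single (g⁻¹ b) (1 : ℚ) - Pi.single (g (g⁻¹ b)) (1 : ℚ)) := by
      have e : g (g⁻¹ b) = b := by simp
      rw [e]
      abel
    rw [this]
    exact Submodule.neg_mem _ (ih (g⁻¹ b))

/-- Ree's inequality (via Scott's lemma) for a group with one fixed point and one further orbit. -/
theorem ree_two_orbits {x y z : Equiv.Perm α} (hxyz : x * y * z = 1) (inf o : α)
    (htr : ∀ a, a ≠ inf → ∃ g ∈ Subgroup.closure ({x, y} : Set (Equiv.Perm α)), g o = a) :
    finrank ℚ (ker (LinearMap.id - pl x)) + finrank ℚ (ker (LinearMap.id - pl y)) +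
      finrank ℚ (ker (LinearMap.id - pl z)) ≤ Fintype.card α + 4 := by
  have hcomp : pl z ∘ₗ pl y ∘ₗ pl x = LinearMap.id := by
    have h1 : pl (x * y * z) = pl z * (pl y * pl x) := by rw [pl_mul, pl_mul]
    rw [hxyz, pl_one] at h1
    exact h1.symm
  have hS := scott_abstract (pl x) (pl y) (pl z) hcomp
  have hV : finrank ℚ (α → ℚ) = Fintype.card α := Module.finrank_fintype_fun_eq_card ℚ
  have rx := LinearMap.finrank_range_add_finrank_ker (LinearMap.id - pl x)
  have ry := LinearMap.finrank_range_add_finrank_ker (LinearMap.id - pl y)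
  have rz := LinearMap.finrank_range_add_finrank_ker (LinearMap.id - pl z)
  -- the common fixed space has dimension at most two
  have hK : finrank ℚ ↥(ker (LinearMap.id - pl x) ⊓ ker (LinearMap.id - pl y)) ≤ 2 := by
    let ev : ↥(ker (LinearMap.id - pl x) ⊓ ker (LinearMap.id - pl y)) →ₗ[ℚ] ℚ × ℚ :=
      ((LinearMap.proj inf).prod (LinearMap.proj o)) ∘ₗ Submodule.subtype _
    have hinj : Function.Injective ev := by
      rw [← LinearMap.ker_eq_bot, LinearMap.ker_eq_bot']
      rintro ⟨f, hf⟩ hf0
      have hf1 := LinearMap.mem_ker.mp hf.1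
      have hf2 := LinearMap.mem_ker.mp hf.2
      have h1 : f inf = 0 := congrArg Prod.fst hf0
      have h2 : f o = 0 := congrArg Prod.snd hf0
      rw [LinearMap.sub_apply, LinearMap.id_apply, pl_apply, sub_eq_zero] at hf1 hf2
      apply Subtype.ext
      funext a
      change f a = 0
      by_cases ha : a = inf
      · rw [ha]; exact h1
      · obtain ⟨g, hg, hga⟩ := htr a ha
        have h3 := comp_eq_of_mem_closure hf1.symm hf2.symm hg
        have h4 : f a = (f ∘ g) o := by rw [Function.comp_apply, hga]
        rw [h4, h3]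
        exact h2
    have := LinearMap.finrank_le_finrank_of_injective hinj
    rw [Module.finrank_prod, Module.finrank_self] at this
    exact this
  -- the span of the commutators has codimension at most two
  have hW : Fintype.card α ≤
      finrank ℚ ↥(range (LinearMap.id - pl x) ⊔ range (LinearMap.id - pl y)) + 2 := by
    let Ψ : (α → ℚ) →ₗ[ℚ] ℚ × ℚ := (LinearMap.proj inf).prod (∑ a : α, LinearMap.proj a)
    have hker : ker Ψ ≤ range (LinearMap.id - pl x) ⊔ range (LinearMap.id - pl y) := by
      intro v hv
      rw [LinearMap.mem_ker] at hv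
      have h1 : v inf = 0 := congrArg Prod.fst hv
      have h2 : ∑ a : α, v a = 0 := by
        have := congrArg Prod.snd hv
        simpa [Ψ] using this
      have h3 : v = ∑ a : α, v a • (Pi.single a (1 : ℚ) - Pi.single o (1 : ℚ) : α → ℚ) := by
        funext b
        simp only [Finset.sum_apply, Pi.smul_apply, Pi.sub_apply, smul_eq_mul, mul_sub, Pi.single_apply,
          Finset.sum_sub_distrib, mul_ite, mul_one, mul_zero]
        rw [Finset.sum_ite_eq Finset.univ b]
        by_cases hb : b = o
        · simp [hb, h2]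
        · simp [hb]
      rw [h3]
      refine Submodule.sum_mem _ (fun a _ => ?_)
      by_cases ha : a = inf
      · rw [ha, h1, zero_smul]
        exact Submodule.zero_mem _
      · obtain ⟨g, hg, hga⟩ := htr a ha
        refine Submodule.smul_mem _ _ ?_
        have h4 := single_sub_mem hg o
        rw [hga] at h4
        have h5 : (Pi.single a (1 : ℚ) - Pi.single o (1 : ℚ) : α → ℚ) =
            - (Pi.single o (1 : ℚ) - Pi.single a (1 : ℚ)) := by abel
        rw [h5]
        exact Submodule.neg_mem _ h4
    have h6 := LinearMap.finrank_range_add_finrank_ker Ψ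
    have h7 : finrank ℚ (range Ψ) ≤ 2 := by
      have := Submodule.finrank_le (range Ψ)
      rw [Module.finrank_prod, Module.finrank_self] at this
      exact this
    have h8 := Submodule.finrank_mono hker
    omega
  omega

end Cfsg.Agent.H9Scott
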