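import Mathlib
import Cfsg.Prelude.Def_Spor_Mathieu
import Cfsg.Agent.Lib.Helper9.Scott3
import Cfsg.Agent.Lib.Helper9.M24Inv
import Cfsg.Agent.Lib.Helper9.M24Ord3

set_option autoImplicit false

/-! Lower bounds for the dimension of the fixed space of elements of prime order of the group of the code. -/

namespace Cfsg.Agent.H9M23

open Cfsg Cfsg.Agent.Lib.Helper9.M24 Cfsg.Agent.H9Scott Module LinearMap

/-- The dimension of the space of functions fixed by `g`. -/
noncomputable def dk (g : Equiv.Perm GolayPt) : ℕ := finrank ℚ (ker (LinearMap.id - pl g))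

theorem ncard_fixedPoints (g : Equiv.Perm GolayPt) : (Function.fixedPoints ⇑g).ncard = (fixSet g).card := by
  have : Function.fixedPoints ⇑g = ↑(fixSet g) := by
    ext a
    rw [Function.mem_fixedPoints, Finset.mem_coe, mem_fixSet]
    rfl
  rw [this, Set.ncard_coe_finset]

theorem card_golayPt : Fintype.card GolayPt = 24 := by decide

theorem dk_bound {g : Equiv.Perm GolayPt} {r : ℕ} (hr : r.Prime) (hg : g ^ r = 1) :
    24 + (r - 1) * (fixSet g).card ≤ r * dk g := by
  have := card_add_le_mul_finrank_ker hr hg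
  rw [ncard_fixedPoints, card_golayPt] at this
  exact this

theorem fixSet_modEq {g : Equiv.Perm GolayPt} {r : ℕ} (hr : r.Prime) (hg : g ^ r = 1) :
    (fixSet g).card ≡ 24 [MOD r] := by
  haveI : Fact r.Prime := ⟨hr⟩
  have h1 := Equiv.Perm.card_compl_support_modEq (p := r) (n := 1) (σ := g) (by rwa [pow_one])
  rw [card_golayPt] at h1
  have h2 : g.supportᶜ = fixSet g := by
    ext a
    rw [Finset.mem_compl, Equiv.Perm.notMem_support, mem_fixSet]
  rwa [h2] at h1

theorem card_fixSet_le (g : Equiv.Perm GolayPt) : (fixSet g).card ≤ 24 := by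
  have := Finset.card_le_univ (fixSet g)
  rwa [card_golayPt] at this

theorem dk_two {g : Equiv.Perm GolayPt} (hg : g ∈ M24) (h2 : g ^ 2 = 1) (hne : g ≠ 1)
    (hn : g none = none) : 16 ≤ dk g := by
  have h2' : g * g = 1 := by rwa [pow_two] at h2
  have h1 := invol_fixSet_mem_octads hg h2' hne hn
  have h3 := octads_isOctadSystem.card_eq h1
  have h4 := dk_bound Nat.prime_two h2
  rw [h3] at h4
  omega

theorem dk_three {g : Equiv.Perm GolayPt} (hg : g ∈ M24) (h3 : g ^ 3 = 1) (hne : g ≠ 1)
    (hn : g none = none) : 12 ≤ dk g := by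
  have h3' : g * g * g = 1 := by rwa [pow_succ, pow_two] at h3
  have h1 := ord3_card_fixSet hg h3' hne hn
  have h4 := dk_bound Nat.prime_three h3
  rw [h1] at h4
  omega

theorem dk_five {g : Equiv.Perm GolayPt} (h5 : g ^ 5 = 1) : 8 ≤ dk g := by
  have h1 := fixSet_modEq (by norm_num : Nat.Prime 5) h5
  have h4 := dk_bound (by norm_num : Nat.Prime 5) h5
  unfold Nat.ModEq at h1
  omega

theorem dk_seven {g : Equiv.Perm GolayPt} (h7 : g ^ 7 = 1) : 6 ≤ dk g := by
  have h1 := fixSet_modEq (by norm_num : Nat.Prime 7) h7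
  have h4 := dk_bound (by norm_num : Nat.Prime 7) h7
  unfold Nat.ModEq at h1
  omega

theorem dk_prime {g : Equiv.Perm GolayPt} {r : ℕ} (hr : r.Prime) (hg : g ^ r = 1) (hn : g none = none) :
    2 ≤ dk g := by
  have h4 := dk_bound hr hg
  have h5 : 1 ≤ (fixSet g).card := Finset.card_pos.mpr ⟨none, (mem_fixSet _ _).mpr hn⟩
  have h6 : (r - 1) * 1 ≤ (r - 1) * (fixSet g).card := Nat.mul_le_mul_left _ h5
  have h7 := hr.two_le
  by_contra hlt
  have h8 : dk g ≤ 1 := by omega
  have h9 : r * dk g ≤ r * 1 := Nat.mul_le_mul_left _ h8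
  omega

end Cfsg.Agent.H9M23
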