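import Mathlib
import Cfsg.Prelude.Def_Spor_Mathieu
import Cfsg.Agent.Lib.Helper9.M23Ree1
import Cfsg.Agent.Lib.Helper1.MathieuMem

set_option autoImplicit false

/-! Non-generation of the point stabiliser of the group of the code by certain triples of prime order. -/

namespace Cfsg.Agent.H9M23

open Cfsg Cfsg.Agent.Lib.Helper9.M24 Cfsg.Agent.H9Scott Module LinearMap

/-- The table of the shift `i ↦ i + 1`. -/
def tShift : List ℕ := [1, 2, 3, 4, 5, 6, 7, 8, 9, 10, 11, 12, 13, 14, 15, 16, 17, 18, 19, 20, 21, 22, 0, 23]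

theorem tShift_ok : (tabOK tShift && tabM24 tShift && (tget tShift 23 == 23)) = true := by decide +kernel

theorem tShift_tabOK : tabOK tShift = true := by
  have := tShift_ok
  simp only [Bool.and_eq_true] at this
  exact this.1.1

theorem tShift_mem : tperm tShift ∈ Cfsg.Spor.M23 := by
  have := tShift_ok
  simp only [Bool.and_eq_true, beq_iff_eq] at this
  exact Cfsg.Agent.Lib.Helper1.PermCode.mem_M23_tperm this.1.1 this.1.2 this.2

theorem tShift_apply : ∀ j : ZMod 23, tperm tShift (some j) = some (j + 1) := by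
  intro j
  rw [tperm_apply tShift_tabOK]
  revert j
  decide

theorem tShift_pow (n : ℕ) : (tperm tShift ^ n) (some 0) = some (n : ZMod 23) := by
  induction n with
  | zero => simp
  | succ k ih =>
    rw [pow_succ', Equiv.Perm.mul_apply, ih, tShift_apply]
    push_cast
    rfl

theorem transitive_M23 (a : GolayPt) (ha : a ≠ none) : ∃ g ∈ Cfsg.Spor.M23, g (some 0) = a := by
  cases a with
  | none => exact absurd rfl ha
  | some i =>
    refine ⟨tperm tShift ^ i.val, Subgroup.pow_mem _ tShift_mem _, ?_⟩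
    rw [tShift_pow, ZMod.natCast_zmod_val]

theorem closure_coe_eq {x y : ↥Cfsg.Spor.M23} (h : Subgroup.closure ({x, y} : Set ↥Cfsg.Spor.M23) = ⊤) :
    Subgroup.closure ({x.1, y.1} : Set (Equiv.Perm GolayPt)) = Cfsg.Spor.M23 := by
  have h1 := MonoidHom.map_closure Cfsg.Spor.M23.subtype ({x, y} : Set ↥Cfsg.Spor.M23)
  rw [h, ← MonoidHom.range_eq_map, Subgroup.range_subtype] at h1
  refine Eq.trans ?_ h1.symm
  congr 1
  ext g
  simp only [Set.mem_image, Set.mem_insert_iff, Set.mem_singleton_iff, Subgroup.coe_subtype]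
  constructor
  · rintro (rfl | rfl)
    · exact ⟨x, Or.inl rfl, rfl⟩
    · exact ⟨y, Or.inr rfl, rfl⟩
  · rintro ⟨w, rfl | rfl, rfl⟩
    · exact Or.inl rfl
    · exact Or.inr rfl

theorem dk_sum_le {x y z : ↥Cfsg.Spor.M23} (hxyz : x * y * z = 1)
    (h : Subgroup.closure ({x, y} : Set ↥Cfsg.Spor.M23) = ⊤) : dk x.1 + dk y.1 + dk z.1 ≤ 28 := by
  have h1 : x.1 * y.1 * z.1 = 1 := by
    have := congrArg Subtype.val hxyz
    simpa using this
  have h2 := ree_two_orbits h1 none (some 0) (by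
    intro a ha
    obtain ⟨g, hg, hga⟩ := transitive_M23 a ha
    rw [← closure_coe_eq h] at hg
    exact ⟨g, hg, hga⟩)
  rw [card_golayPt] at h2
  exact h2

theorem coe_facts {x : ↥Cfsg.Spor.M23} {p : ℕ} (hp : p.Prime) (hx : orderOf x = p) :
    x.1 ∈ M24 ∧ x.1 ^ p = 1 ∧ x.1 ≠ 1 ∧ x.1 none = none := by
  refine ⟨x.2.1, ?_, ?_, ?_⟩
  · have := pow_orderOf_eq_one x
    rw [hx] at this
    have := congrArg Subtype.val this
    simpa using this
  · intro h1
    have : x = 1 := Subtype.ext h1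
    rw [this, orderOf_one] at hx
    exact hp.one_lt.ne hx
  · exact MulAction.mem_stabilizer_iff.mp x.2.2

/-- The triples of prime orders that do not generate. -/
theorem no_generation {x y z : ↥Cfsg.Spor.M23} {p q r : ℕ} (hp : p.Prime) (hq : q.Prime) (hr : r.Prime)
    (hqr : q ≤ r) (hx : orderOf x = p) (hy : orderOf y = q) (hz : orderOf z = r) (hxyz : x * y * z = 1)
    (h : Subgroup.closure ({x, y} : Set ↥Cfsg.Spor.M23) = ⊤) :
    ¬ ((p = 2 ∧ q = 3) ∨ (p = 2 ∧ q = 5 ∧ r = 5) ∨ (p = 2 ∧ q = 5 ∧ r = 7) ∨ (p = 3 ∧ q = 3 ∧ r ≤ 7)) := by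
  have hs := dk_sum_le hxyz h
  obtain ⟨hx1, hx2, hx3, hx4⟩ := coe_facts hp hx
  obtain ⟨hy1, hy2, hy3, hy4⟩ := coe_facts hq hy
  obtain ⟨hz1, hz2, hz3, hz4⟩ := coe_facts hr hz
  rintro (⟨rfl, rfl⟩ | ⟨rfl, rfl, rfl⟩ | ⟨rfl, rfl, rfl⟩ | ⟨rfl, rfl, hr7⟩)
  · have := dk_two hx1 hx2 hx3 hx4
    have := dk_three hy1 hy2 hy3 hy4
    have := dk_prime hr hz2 hz4
    omega
  · have := dk_two hx1 hx2 hx3 hx4
    have := dk_five hy2
    have := dk_five hz2
    omega
  · have := dk_two hx1 hx2 hx3 hx4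
    have := dk_five hy2
    have := dk_seven hz2
    omega
  · have := dk_three hx1 hx2 hx3 hx4
    have := dk_three hy1 hy2 hy3 hy4
    have h3 : r = 3 ∨ r = 5 ∨ r = 7 := by
      interval_cases r
      · exact Or.inl rfl
      · exact absurd hr (by norm_num)
      · exact Or.inr (Or.inl rfl)
      · exact absurd hr (by norm_num)
      · exact Or.inr (Or.inr rfl)
    rcases h3 with rfl | rfl | rfl
    · have := dk_three hz1 hz2 hz3 hz4
      omega
    · have := dk_five hz2
      omega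
    · have := dk_seven hz2
      omega

end Cfsg.Agent.H9M23
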