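import Mathlib
import Cfsg.Prelude.Def_Spor_Mathieu
import Cfsg.Agent.Lib.Helper9.M23Gen2
import Cfsg.Agent.Lib.Helper9.M23Ree2

set_option autoImplicit false

/-! Generation of the point stabiliser of the group of the code by triples of prime order. -/

namespace Cfsg.Agent.H9M23

open Cfsg

theorem prime_cases {p : ℕ} (hp : p.Prime) (h : p ∣ 10200960) :
    p = 2 ∨ p = 3 ∨ p = 5 ∨ p = 7 ∨ p = 11 ∨ p = 23 := by
  have e : (10200960 : ℕ) = 2 ^ 7 * (3 ^ 2 * (5 * (7 * (11 * 23)))) := by norm_num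
  rw [e] at h
  rcases (Nat.Prime.dvd_mul hp).mp h with h | h
  · exact Or.inl ((Nat.prime_dvd_prime_iff_eq hp Nat.prime_two).mp (hp.dvd_of_dvd_pow h))
  rcases (Nat.Prime.dvd_mul hp).mp h with h | h
  · exact Or.inr (Or.inl ((Nat.prime_dvd_prime_iff_eq hp Nat.prime_three).mp (hp.dvd_of_dvd_pow h)))
  rcases (Nat.Prime.dvd_mul hp).mp h with h | h
  · exact Or.inr (Or.inr (Or.inl ((Nat.prime_dvd_prime_iff_eq hp (by norm_num)).mp h)))
  rcases (Nat.Prime.dvd_mul hp).mp h with h | h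
  · exact Or.inr (Or.inr (Or.inr (Or.inl ((Nat.prime_dvd_prime_iff_eq hp (by norm_num)).mp h))))
  rcases (Nat.Prime.dvd_mul hp).mp h with h | h
  · exact Or.inr (Or.inr (Or.inr (Or.inr (Or.inl ((Nat.prime_dvd_prime_iff_eq hp (by norm_num)).mp h)))))
  · exact Or.inr (Or.inr (Or.inr (Or.inr (Or.inr ((Nat.prime_dvd_prime_iff_eq hp (by norm_num)).mp h)))))

theorem main_exists (p q r : ℕ) (hp : p.Prime) (hq : q.Prime) (hr : r.Prime) (hpq : p ≤ q) (hqr : q ≤ r)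
    (hp2 : ¬ (p = 2 ∧ q = 2)) (hdp : p ∣ 10200960) (hdq : q ∣ 10200960) (hdr : r ∣ 10200960)
    (hnot : ¬ ((p = 2 ∧ q = 3) ∨ (p = 2 ∧ q = 5 ∧ r = 5) ∨ (p = 2 ∧ q = 5 ∧ r = 7) ∨
      (p = 3 ∧ q = 3 ∧ r ≤ 7))) :
    ∃ x y z : ↥Cfsg.Spor.M23, orderOf x = p ∧ orderOf y = q ∧ orderOf z = r ∧ x * y * z = 1 ∧
      Subgroup.closure ({x, y} : Set ↥Cfsg.Spor.M23) = ⊤ := by
  have h1 := prime_cases hp hdp
  have h2 := prime_cases hq hdq
  have h3 := prime_cases hr hdr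
  rcases h1 with rfl | rfl | rfl | rfl | rfl | rfl <;>
  rcases h2 with rfl | rfl | rfl | rfl | rfl | rfl <;>
  rcases h3 with rfl | rfl | rfl | rfl | rfl | rfl <;>
  first
  | (exfalso; omega)
  | exact exists_of_hasKey (by decide +kernel) hp hq hr

end Cfsg.Agent.H9M23
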