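import Mathlib
import Cfsg.Prelude.Def_Sporadic_a
import Cfsg.Agent.Lib.Helper9.M24Ord3

set_option autoImplicit false
open Cfsg

/-! Commuting elements of orders 2 and 3 of the group of the code. -/

namespace Cfsg.Agent.Lib.Helper9.M24

open scoped Pointwise

theorem tperm_range : tperm (List.range 24) = 1 := by
  have hok : tabOK (List.range 24) = true := by decide +kernel
  symm
  apply eq_tperm_of_apply hok
  intro p
  have hp := natOfPt_lt p
  show natOfPt p = (List.range 24).getD (natOfPt p) 0
  rw [List.getD_eq_getElem?_getD, List.getElem?_range hp]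
  rfl

/-- A fixed-point-free involution does not commute with an element of order 3 having a fixed point. -/
theorem not_commute_fpf_invol_ord3 {x s : Equiv.Perm GolayPt} (hx : x ∈ M24) (hs : s ∈ M24)
    (h3 : x * x * x = 1) (hxne : x ≠ 1) {a₀ : GolayPt} (ha₀ : x a₀ = a₀) (h2 : s * s = 1)
    (hfpf : ∀ p, s p ≠ p) (hc : x * s = s * x) : False := by
  haveI : Fact (Nat.Prime 3) := ⟨Nat.prime_three⟩
  have hss : ∀ p, s (s p) = p := fun p => by
    have := congrArg (fun f : Equiv.Perm GolayPt => f p) h2
    simpa using this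
  have hxs : ∀ p, x (s p) = s (x p) := fun p => by
    have := congrArg (fun f : Equiv.Perm GolayPt => f p) hc
    simpa using this
  have hUcard : (fixSet x).card = 6 := ord3_card_fixSet hx h3 hxne ha₀
  have hsU : ∀ p, p ∈ fixSet x → s p ∈ fixSet x := by
    intro p hp
    rw [mem_fixSet] at hp ⊢
    rw [hxs, hp]
  -- choose the six fixed points in pairs
  obtain ⟨a, ha⟩ : (fixSet x).Nonempty := Finset.card_pos.mp (by omega)
  have hsa := hsU a ha
  have hsane : s a ≠ a := hfpf a
  obtain ⟨b, hb, hbn⟩ : ∃ b ∈ fixSet x, b ∉ ({a, s a} : Finset GolayPt) := by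
    apply Finset.exists_mem_notMem_of_card_lt_card
    rw [hUcard]
    refine lt_of_le_of_lt (Finset.card_insert_le _ _) ?_
    rw [Finset.card_singleton]
    norm_num
  simp only [Finset.mem_insert, Finset.mem_singleton, not_or] at hbn
  have hsb := hsU b hb
  have hsbne : s b ≠ b := hfpf b
  have hsba : s b ≠ a := fun h => hbn.2 (by rw [← hss b, h])
  have hsbsa : s b ≠ s a := fun h => hbn.1 (s.injective h)
  obtain ⟨c, hc', hcn⟩ : ∃ c ∈ fixSet x, c ∉ ({a, s a, b, s b} : Finset GolayPt) := by
    apply Finset.exists_mem_notMem_of_card_lt_card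
    rw [hUcard, card_four hsane.symm (Ne.symm hbn.1) hsba.symm (Ne.symm hbn.2) hsbsa.symm hsbne.symm]
    norm_num
  simp only [Finset.mem_insert, Finset.mem_singleton, not_or] at hcn
  obtain ⟨hca, hcsa, hcb, hcsb⟩ := hcn
  have hsc := hsU c hc'
  have hscne : s c ≠ c := hfpf c
  have hsca : s c ≠ a := fun h => hcsa (by rw [← hss c, h])
  have hscsa : s c ≠ s a := fun h => hca (s.injective h)
  have hscb : s c ≠ b := fun h => hcsb (by rw [← hss c, h])
  have hscsb : s c ≠ s b := fun h => hcb (s.injective h)
  have hinj : Function.Injective ![a, s a, b, s b, c] :=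
    injective_vec5 hsane.symm (Ne.symm hbn.1) hsba.symm (Ne.symm hca) (Ne.symm hbn.2) hsbsa.symm
      (Ne.symm hcsa) hsbne.symm (Ne.symm hcb) (Ne.symm hcsb)
  have h5card : ({a, s a, b, s b, c} : Finset GolayPt).card = 5 := by
    rw [Finset.card_insert_of_notMem, card_four (Ne.symm hbn.2) hsbsa.symm (Ne.symm hcsa) hsbne.symm
      (Ne.symm hcb) (Ne.symm hcsb)]
    simp only [Finset.mem_insert, Finset.mem_singleton, not_or]
    exact ⟨hsane.symm, Ne.symm hbn.1, hsba.symm, Ne.symm hca⟩
  obtain ⟨O, hO, hsO⟩ := octads_isOctadSystem.exists_block ({a, s a, b, s b, c} : Finset GolayPt) h5card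
  have haO : a ∈ O := hsO (by simp)
  have hsaO : s a ∈ O := hsO (by simp)
  have hbO : b ∈ O := hsO (by simp)
  have hsbO : s b ∈ O := hsO (by simp)
  have hcO : c ∈ O := hsO (by simp)
  have hfix5 : ∀ p ∈ ({a, s a, b, s b, c} : Finset GolayPt), x p = p := by
    intro p hp
    simp only [Finset.mem_insert, Finset.mem_singleton] at hp
    rcases hp with rfl | rfl | rfl | rfl | rfl
    · exact (mem_fixSet _ _).mp ha
    · exact (mem_fixSet _ _).mp hsa
    · exact (mem_fixSet _ _).mp hb
    · exact (mem_fixSet _ _).mp hsb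
    · exact (mem_fixSet _ _).mp hc'
  have hscO : s c ∉ O := by
    intro hin
    have himg : O.image x = O := octad_image_eq_of_fix hx hO hsO (by rw [h5card]) hfix5
    -- the six fixed points lie in `O`
    have h6 : ({a, s a, b, s b, c, s c} : Finset GolayPt) ⊆ fixSet x := by
      intro p hp
      simp only [Finset.mem_insert, Finset.mem_singleton] at hp
      rcases hp with rfl | rfl | rfl | rfl | rfl | rfl <;> assumption
    have h6card : ({a, s a, b, s b, c, s c} : Finset GolayPt).card = 6 := by
      have : ({a, s a, b, s b, c, s c} : Finset GolayPt) = insert (s c) {a, s a, b, s b, c} := by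
        apply Finset.ext
        intro p
        simp only [Finset.mem_insert, Finset.mem_singleton]
        tauto
      rw [this, Finset.card_insert_of_notMem, h5card]
      simp only [Finset.mem_insert, Finset.mem_singleton, not_or]
      exact ⟨hsca, hscsa, hscb, hscsb, hscne⟩
    have h6eq : ({a, s a, b, s b, c, s c} : Finset GolayPt) = fixSet x :=
      Finset.eq_of_subset_of_card_le h6 (by rw [hUcard, h6card])
    have hUO : fixSet x ⊆ O := by
      rw [← h6eq]
      intro p hp
      simp only [Finset.mem_insert, Finset.mem_singleton] at hp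
      rcases hp with rfl | rfl | rfl | rfl | rfl | rfl <;> assumption
    have hUx : (fixSet x).image x = fixSet x := by
      apply Finset.ext
      intro p
      rw [Finset.mem_image]
      constructor
      · rintro ⟨q, hq, rfl⟩
        rwa [(mem_fixSet _ _).mp hq]
      · intro hp
        exact ⟨p, hp, (mem_fixSet _ _).mp hp⟩
    obtain ⟨z, hz, hxz⟩ := exists_fixed_of_prime_pow x 3 1 (cube_pow h3) (O \ fixSet x) (by
        intro y
        rw [Finset.mem_sdiff, Finset.mem_sdiff, apply_mem_iff_of_image_eq himg,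
          apply_mem_iff_of_image_eq hUx]) (by
        rw [Finset.card_sdiff_of_subset hUO, octads_isOctadSystem.card_eq hO, hUcard]; decide)
    rw [Finset.mem_sdiff] at hz
    exact hz.2 ((mem_fixSet _ _).mpr hxz)
  obtain ⟨k, hk, hka, -, hkb⟩ := exists_map_tuple6 _ hinj hO (by
      intro i; fin_cases i
      · exact haO
      · exact hsaO
      · exact hbO
      · exact hsbO
      · exact hcO) (s c) (by
      intro i; fin_cases i
      · exact hsca
      · exact hscsa
      · exact hscb
      · exact hscsb
      · exact hscne)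
  have k0 : k a = none := hka 0
  have k1 : k (s a) = some 0 := hka 1
  have k2 : k b = some 1 := hka 2
  have k3 : k (s b) = some 2 := hka 3
  have k4 : k c = some 3 := hka 4
  have k5 : k (s c) = some 4 := hkb hscO
  -- the conjugate of `x`
  have hx' : k * x * k⁻¹ ∈ M24 := conj_mem hk hx
  obtain ⟨f, hf, hfok, hxf⟩ := fixer5_cases hx'
    (by rw [← k0, conj_apply, (mem_fixSet _ _).mp ha])
    (by rw [← k1, conj_apply, (mem_fixSet _ _).mp hsa])
    (by rw [← k2, conj_apply, (mem_fixSet _ _).mp hb])
    (by rw [← k3, conj_apply, (mem_fixSet _ _).mp hsb])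
    (by rw [← k4, conj_apply, (mem_fixSet _ _).mp hc'])
  have hf4 : tget f 4 = 4 := by
    have h1 : (k * x * k⁻¹) (some 4) = some 4 := by rw [← k5, conj_apply, (mem_fixSet _ _).mp hsc]
    have h2 := congrArg natOfPt h1
    rw [hxf, natOfPt_tperm hfok] at h2
    exact h2
  have hfne : f ≠ List.range 24 := by
    intro h
    rw [h, tperm_range] at hxf
    apply hxne
    have : x = k⁻¹ * (k * x * k⁻¹) * k := by group
    rw [this, hxf]
    group
  -- the conjugate of `s`
  have hs' : k * s * k⁻¹ ∈ M24 := conj_mem hk hs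
  obtain ⟨f', hf', hok', hsf⟩ := pattern_cases uC68_ok hs'
    (by rw [← k0, conj_apply, k1]; rfl) (by rw [← k1, conj_apply, hss, k0]; rfl)
    (by rw [← k2, conj_apply, k3]; rfl) (by rw [← k3, conj_apply, hss, k2]; rfl)
    (by rw [← k4, conj_apply, k5]; rfl)
  have hinv : isInvol (tmul uC68 f') = true := isInvol_of_sq hok' (by rw [← hsf]; exact conj_sq h2)
  have hcomm : commOK (tmul uC68 f') f = true := by
    apply commOK_of_comm hok' hfok
    rw [← hsf, ← hxf]
    calc k * s * k⁻¹ * (k * x * k⁻¹) = k * (s * x) * k⁻¹ := by group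
      _ = k * (x * s) * k⁻¹ := by rw [hc]
      _ = k * x * k⁻¹ * (k * s * k⁻¹) := by group
  have hfact := c68Fact
  rw [List.all_eq_true] at hfact
  have h1 := hfact f hf
  rw [Bool.or_eq_true, Bool.or_eq_true] at h1
  rcases h1 with (h1 | h1) | h1
  · rw [hf4] at h1
    exact absurd h1 (by decide)
  · exact hfne (beq_iff_eq.mp h1)
  · rw [List.all_eq_true] at h1
    have h2' := h1 f' hf'
    rw [hinv, hcomm] at h2'
    exact absurd h2' (by decide)

end Cfsg.Agent.Lib.Helper9.M24
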