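import Mathlib
import Cfsg.Prelude.Def_Sporadic_a
import Cfsg.Prelude.Def_SporadicCombinatorics
import Cfsg.Agent.Lib.Helper9.EnumTrio
import Cfsg.Agent.Lib.Helper9.M24Inv
import Cfsg.Agent.Lib.Helper9.M24Ord3

set_option autoImplicit false
open Cfsg

/-! The numbers of octads, dodecads, trios and sextets mapped to themselves by the representatives of the
classes of elements of order 2 and 3, and their transport along conjugation. -/

namespace Cfsg.Agent.Lib.Helper9.M24

open scoped Pointwise

theorem count_transport {g k : Equiv.Perm GolayPt} (hk : k ∈ M24) {a : List ℕ}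
    (hconj : k * g * k⁻¹ = tperm a) :
    {o : Finset GolayPt | o ∈ octads ∧ g • o = o}.ncard =
        {o : Finset GolayPt | o ∈ octads ∧ tperm a • o = o}.ncard ∧
      {T : Finset (Finset GolayPt) | T ∈ trios ∧ g • T = T}.ncard =
        {T : Finset (Finset GolayPt) | T ∈ trios ∧ tperm a • T = T}.ncard ∧
      {S : Finset (Finset GolayPt) | S ∈ sextets ∧ g • S = S}.ncard =
        {S : Finset (Finset GolayPt) | S ∈ sextets ∧ tperm a • S = S}.ncard ∧
      {d : Finset GolayPt | d ∈ dodecads ∧ g • d = d}.ncard =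
        {d : Finset GolayPt | d ∈ dodecads ∧ tperm a • d = d}.ncard := by
  have hk' : k⁻¹ ∈ M24 := Subgroup.inv_mem _ hk
  rw [← hconj]
  exact ⟨ncard_fixed_conj octads k g (fun _ h => octads_smul hk h) (fun _ h => octads_smul hk' h),
    ncard_fixed_conj trios k g (fun _ h => trios_smul hk h) (fun _ h => trios_smul hk' h),
    ncard_fixed_conj sextets k g (fun _ h => sextets_smul hk h) (fun _ h => sextets_smul hk' h),
    ncard_fixed_conj dodecads k g (fun _ h => dodecads_smul hk h) (fun _ h => dodecads_smul hk' h)⟩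

theorem g2A_octads : {o : Finset GolayPt | o ∈ octads ∧ tperm g2A • o = o}.ncard = 71 := by
  rw [octads_count g2A_tabOK]; decide +kernel

theorem g2A_trios : {T : Finset (Finset GolayPt) | T ∈ trios ∧ tperm g2A • T = T}.ncard = 99 := by
  rw [trios_count g2A_tabOK g2A_mem]; decide +kernel

theorem g2A_sextets : {S : Finset (Finset GolayPt) | S ∈ sextets ∧ tperm g2A • S = S}.ncard = 91 := by
  rw [sextets_count g2A_tabOK g2A_mem]; decide +kernel

theorem g2B_octads : {o : Finset GolayPt | o ∈ octads ∧ tperm g2B • o = o}.ncard = 15 := by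
  rw [octads_count g2B_tabOK]; decide +kernel

theorem g2B_trios : {T : Finset (Finset GolayPt) | T ∈ trios ∧ tperm g2B • T = T}.ncard = 75 := by
  rw [trios_count g2B_tabOK g2B_mem]; decide +kernel

theorem g2B_sextets : {S : Finset (Finset GolayPt) | S ∈ sextets ∧ tperm g2B • S = S}.ncard = 51 := by
  rw [sextets_count g2B_tabOK g2B_mem]; decide +kernel

theorem g3A_octads : {o : Finset GolayPt | o ∈ octads ∧ tperm g3A • o = o}.ncard = 21 := by
  rw [octads_count g3A_tabOK]; decide +kernel

theorem g3A_trios : {T : Finset (Finset GolayPt) | T ∈ trios ∧ tperm g3A • T = T}.ncard = 15 := by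
  rw [trios_count g3A_tabOK g3A_mem]; decide +kernel

theorem g3A_sextets : {S : Finset (Finset GolayPt) | S ∈ sextets ∧ tperm g3A • S = S}.ncard = 16 := by
  rw [sextets_count g3A_tabOK g3A_mem]; decide +kernel

theorem g3A_dodecads : {d : Finset GolayPt | d ∈ dodecads ∧ tperm g3A • d = d}.ncard = 20 := by
  rw [dodecads_count g3A_tabOK]; decide +kernel

theorem g3B_trios : {T : Finset (Finset GolayPt) | T ∈ trios ∧ tperm g3B • T = T}.ncard = 15 := by
  rw [trios_count g3B_tabOK g3B_mem]; decide +kernel

theorem g3B_sextets : {S : Finset (Finset GolayPt) | S ∈ sextets ∧ tperm g3B • S = S}.ncard = 7 := by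
  rw [sextets_count g3B_tabOK g3B_mem]; decide +kernel

theorem order_two_facts {g : Equiv.Perm GolayPt} (h₂ : orderOf g = 2) : g * g = 1 ∧ g ≠ 1 := by
  constructor
  · have := pow_orderOf_eq_one g
    rwa [h₂, pow_two] at this
  · intro h
    rw [h, orderOf_one] at h₂
    omega

theorem order_three_facts {g : Equiv.Perm GolayPt} (h₃ : orderOf g = 3) : g * g * g = 1 ∧ g ≠ 1 := by
  constructor
  · have := pow_orderOf_eq_one g
    rwa [h₃, pow_succ, pow_two] at this
  · intro h
    rw [h, orderOf_one] at h₃
    omega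

theorem exists_fixed_of_card_pos {g : Equiv.Perm GolayPt}
    (h : 0 < (Finset.univ.filter fun p => g p = p).card) : ∃ a, g a = a := by
  obtain ⟨a, ha⟩ := Finset.card_pos.mp h
  exact ⟨a, (Finset.mem_filter.mp ha).2⟩

end Cfsg.Agent.Lib.Helper9.M24
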