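import Mathlib
import Cfsg.Prelude.Def_Sporadic_a
import Cfsg.Agent.Lib.Helper9.CentTools
import Cfsg.Agent.Lib.Helper9.M24Norm3
import Cfsg.Agent.Lib.Helper9.S5604Data

set_option autoImplicit false
open Cfsg

/-! Elements of order 7 of the group of the code: normal form on the base points and conjugacy to a
reference element or its inverse. -/

namespace Cfsg.Agent.Lib.Helper9.M24

open scoped Pointwise

/-- Iterated table lookup. -/
def tpow (w : List ℕ) : ℕ → ℕ → ℕ
  | 0, i => i
  | n + 1, i => tget w (tpow w n i)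

/-- The table has order dividing 7. -/
def isOrd7 (w : List ℕ) : Bool := (List.range 24).all fun i => tpow w 7 i == i

theorem natOfPt_pow {w : List ℕ} (h : tabOK w = true) (n : ℕ) (p : GolayPt) :
    natOfPt ((tperm w ^ n) p) = tpow w n (natOfPt p) := by
  induction n with
  | zero => rfl
  | succ n ih =>
    rw [pow_succ', Equiv.Perm.mul_apply, natOfPt_tperm h, ih]
    rfl

theorem isOrd7_of_pow {w : List ℕ} (h : tabOK w = true) (h7 : tperm w ^ 7 = 1) : isOrd7 w = true := by
  unfold isOrd7
  rw [List.all_eq_true]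
  intro i hi
  rw [List.mem_range] at hi
  rw [beq_iff_eq]
  have := natOfPt_pow h 7 (ptOfNat i)
  rw [h7, natOfPt_ptOfNat i hi, Equiv.Perm.one_apply, natOfPt_ptOfNat i hi] at this
  exact this.symm

theorem tperm_mul_eq_one {a b : List ℕ} (ha : tabOK a = true) (hb : tabOK b = true)
    (h : (List.range 24).all (fun i => tget a (tget b i) == i) = true) : tperm a * tperm b = 1 := by
  apply Equiv.ext
  intro p
  apply natOfPt_injective
  rw [Equiv.Perm.mul_apply, natOfPt_tperm ha, natOfPt_tperm hb]
  have := List.all_eq_true.mp h (natOfPt p) (List.mem_range.mpr (natOfPt_lt p))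
  rw [beq_iff_eq] at this
  exact this

/-- A power of an element of order 7 below the seventh moves every moved point. -/
theorem pow_apply_ne {g : Equiv.Perm GolayPt} (h7 : g ^ 7 = 1) {x : GolayPt} (hx : g x ≠ x) {d : ℕ}
    (hd0 : 0 < d) (hd : d < 7) : (g ^ d) x ≠ x := by
  intro h
  have h1 : MulAction.period g x ∣ d := MulAction.pow_smul_eq_iff_period_dvd.mp h
  have h2 : MulAction.period g x ∣ 7 := MulAction.pow_smul_eq_iff_period_dvd.mp (by rw [h7]; rfl)
  have h3 : MulAction.period g x = 1 := by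
    rcases (Nat.dvd_prime (by norm_num : Nat.Prime 7)).mp h2 with h3 | h3
    · exact h3
    · rw [h3] at h1
      have := Nat.le_of_dvd hd0 h1
      omega
  apply hx
  have := MulAction.pow_period_smul g x
  rw [h3, pow_one] at this
  exact this

theorem pow_apply_ne_pow {g : Equiv.Perm GolayPt} (h7 : g ^ 7 = 1) {x : GolayPt} (hx : g x ≠ x) {i j : ℕ}
    (hij : i < j) (hj : j < 7) : (g ^ i) x ≠ (g ^ j) x := by
  intro h
  apply pow_apply_ne h7 hx (d := j - i) (by omega) (by omega)
  have hj' : j = (j - i) + i := by omega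
  rw [hj', pow_add, Equiv.Perm.mul_apply] at h
  have := (g ^ i).injective
  -- (g^i) x = (g^(j-i)) ((g^i) x)  : rewrite via commutation
  have hcomm : (g ^ (j - i)) ((g ^ i) x) = (g ^ i) ((g ^ (j - i)) x) := by
    rw [← Equiv.Perm.mul_apply, ← Equiv.Perm.mul_apply, ← pow_add, ← pow_add, add_comm]
  rw [hcomm] at h
  exact ((g ^ i).injective h).symm

/-- Normal form of an element of order 7 on the base points. -/
theorem ord7_normal_form {g : Equiv.Perm GolayPt} (hg : g ∈ M24) (h7 : g ^ 7 = 1) (hne : g ≠ 1) :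
    ∃ k ∈ M24, (k * g * k⁻¹) none = some 0 ∧ (k * g * k⁻¹) (some 0) = some 1 ∧
      (k * g * k⁻¹) (some 1) = some 2 ∧ (k * g * k⁻¹) (some 2) = some 3 := by
  obtain ⟨x, hx⟩ : ∃ x, g x ≠ x := by
    by_contra hcon
    push Not at hcon
    exact hne (Equiv.ext hcon)
  have hd := fun {i j : ℕ} (hij : i < j) (hj : j < 7) => pow_apply_ne_pow h7 hx hij hj
  have hinj : Function.Injective ![(g ^ 0) x, (g ^ 1) x, (g ^ 2) x, (g ^ 3) x, (g ^ 4) x] :=
    injective_vec5 (hd (by norm_num) (by norm_num)) (hd (by norm_num) (by norm_num))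
      (hd (by norm_num) (by norm_num)) (hd (by norm_num) (by norm_num)) (hd (by norm_num) (by norm_num))
      (hd (by norm_num) (by norm_num)) (hd (by norm_num) (by norm_num)) (hd (by norm_num) (by norm_num))
      (hd (by norm_num) (by norm_num)) (hd (by norm_num) (by norm_num))
  obtain ⟨k, hk, hka⟩ := exists_map_tuple5 _ hinj
  have k0 : k ((g ^ 0) x) = none := hka 0
  have k1 : k ((g ^ 1) x) = some 0 := hka 1
  have k2 : k ((g ^ 2) x) = some 1 := hka 2
  have k3 : k ((g ^ 3) x) = some 2 := hka 3
  have k4 : k ((g ^ 4) x) = some 3 := hka 4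
  have hstep : ∀ n : ℕ, g ((g ^ n) x) = (g ^ (n + 1)) x := by
    intro n
    rw [pow_succ', Equiv.Perm.mul_apply]
  refine ⟨k, hk, ?_, ?_, ?_, ?_⟩
  · rw [← k0, conj_apply, hstep, k1]
  · rw [← k1, conj_apply, hstep, k2]
  · rw [← k2, conj_apply, hstep, k3]
  · rw [← k3, conj_apply, hstep, k4]

/-- The inverse of the reference element. -/
def g7i : List ℕ := g7pows.getD 6 []

/-- Conjugacy test with the cheap test first. -/
def conjAny7 (ks : List (List ℕ)) (w r : List ℕ) : Bool :=
  ks.any fun k => conjOK k w r && tabOK k && tabM24 k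

theorem conjAny7_spec {ks : List (List ℕ)} {w r : List ℕ} (hw : tabOK w = true) (hr : tabOK r = true)
    (h : conjAny7 ks w r = true) : ∃ k ∈ M24, k * tperm w * k⁻¹ = tperm r := by
  unfold conjAny7 at h
  rw [List.any_eq_true] at h
  obtain ⟨k, -, hk⟩ := h
  simp only [Bool.and_eq_true] at hk
  exact ⟨tperm k, tperm_mem hk.1.2 hk.2, conj_of_conjOK hk.1.2 hw hr hk.1.1⟩

theorem g7_ok : (tabOK g7 && tabM24 g7 && isOrd7 g7 && tabOK g7i &&
    (List.range 24).all (fun i => tget g7 (tget g7i i) == i)) = true := by decide +kernel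

theorem g7_tabOK : tabOK g7 = true := by
  have h := g7_ok
  simp only [Bool.and_eq_true] at h
  exact h.1.1.1.1

theorem g7_mem : tperm g7 ∈ M24 := by
  have h := g7_ok
  simp only [Bool.and_eq_true] at h
  exact tperm_mem h.1.1.1.1 h.1.1.1.2

theorem g7i_tabOK : tabOK g7i = true := by
  have h := g7_ok
  simp only [Bool.and_eq_true] at h
  exact h.1.2

theorem tperm_g7i : tperm g7i = (tperm g7)⁻¹ := by
  have h := g7_ok
  simp only [Bool.and_eq_true] at h
  have := tperm_mul_eq_one g7_tabOK g7i_tabOK h.2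
  exact eq_inv_of_mul_eq_one_right this

/-- The classification fact: every candidate of order 7 is conjugate to the reference element or its
inverse. -/
theorem ord7Fact : (List.range 24).all (fun x => (x == 23) || (x == 0) || (x == 1) || (x == 2) || (x == 3) ||
    ord7_U.any (fun u => (tget u 23 == 0) && (tget u 0 == 1) && (tget u 1 == 2) && (tget u 2 == 3) &&
      (tget u 3 == x) && patOK' u &&
      F48.all (fun f => !(isOrd7 (tmul u f)) || conjAny7 ord7_conj (tmul u f) g7 ||
        conjAny7 ord7_conj (tmul u f) g7i))) = true := by decide +kernel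

end Cfsg.Agent.Lib.Helper9.M24
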