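import Mathlib
import Cfsg.Prelude.Def_Sporadic_a
import Cfsg.Agent.Lib.Helper9.M24Ord7
import Cfsg.Agent.Lib.Helper9.M24Inv

set_option autoImplicit false
open Cfsg

/-! Every element of order 7 of the group of the code is conjugate to the reference element or to its
inverse. -/

namespace Cfsg.Agent.Lib.Helper9.M24

open scoped Pointwise

theorem conj_pow7 {k g : Equiv.Perm GolayPt} (h7 : g ^ 7 = 1) : (k * g * k⁻¹) ^ 7 = 1 := by
  rw [conj_pow, h7, mul_one, mul_inv_cancel]

theorem ord7_conj_ref {g : Equiv.Perm GolayPt} (hg : g ∈ M24) (h7 : g ^ 7 = 1) (hne : g ≠ 1) :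
    ∃ k ∈ M24, k * g * k⁻¹ = tperm g7 ∨ k * g * k⁻¹ = (tperm g7)⁻¹ := by
  obtain ⟨k₁, hk₁, e0, e1, e2, e3⟩ := ord7_normal_form hg h7 hne
  have hg' : k₁ * g * k₁⁻¹ ∈ M24 := conj_mem hk₁ hg
  have h7' := conj_pow7 (k := k₁) h7
  set g' := k₁ * g * k₁⁻¹ with hg'def
  -- the image of the point 3
  have hx := List.all_eq_true.mp ord7Fact (natOfPt (g' (some 3))) (List.mem_range.mpr (natOfPt_lt _))
  simp only [Bool.or_eq_true, beq_iff_eq, List.any_eq_true, Bool.and_eq_true] at hx
  have hinj : ∀ {p q : GolayPt}, p ≠ q → natOfPt (g' p) ≠ natOfPt (g' q) :=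
    fun hpq h => hpq (g'.injective (natOfPt_injective h))
  rcases hx with ((((hx | hx) | hx) | hx) | hx) | hx
  · -- g' 3 = ∞ = g' 2 ... impossible: ∞ = g'(5th point)? use injectivity against none ↦ some 0 chain
    -- natOfPt (g' (some 3)) = 23 means g' (some 3) = none; but then g' has the cycle (∞ 0 1 2 3) of length 5
    exfalso
    have h5 : (g' ^ 5) none = none := by
      have e4 : g' (some 3) = none := natOfPt_injective hx
      simp only [pow_succ, pow_zero, one_mul, Equiv.Perm.mul_apply, e0, e1, e2, e3, e4]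
    have hmoved : g' none ≠ none := by rw [e0]; exact fun h => Option.some_ne_none _ h
    exact pow_apply_ne h7' hmoved (by norm_num) (by norm_num) h5
  · exfalso
    have : natOfPt (g' (some 3)) = natOfPt (g' none) := by rw [hx, e0]; rfl
    exact hinj (by decide) this
  · exfalso
    have : natOfPt (g' (some 3)) = natOfPt (g' (some 0)) := by rw [hx, e1]; rfl
    exact hinj (by decide) this
  · exfalso
    have : natOfPt (g' (some 3)) = natOfPt (g' (some 1)) := by rw [hx, e2]; rfl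
    exact hinj (by decide) this
  · exfalso
    have : natOfPt (g' (some 3)) = natOfPt (g' (some 2)) := by rw [hx, e3]; rfl
    exact hinj (by decide) this
  · obtain ⟨u, -, ⟨⟨⟨⟨⟨⟨u0, u1⟩, u2⟩, u3⟩, u4⟩, hu⟩, hall⟩⟩ := hx
    obtain ⟨f, hf, hok, hgf⟩ := pattern_cases (patOK_of_patOK' hu) hg' (by rw [u0, e0]; rfl)
      (by rw [u1, e1]; rfl) (by rw [u2, e2]; rfl) (by rw [u3, e3]; rfl) (by rw [u4])
    have hord : isOrd7 (tmul u f) = true := isOrd7_of_pow hok (by rw [← hgf]; exact h7')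
    have := List.all_eq_true.mp hall f hf
    rw [hord] at this
    simp only [Bool.not_true, Bool.false_or, Bool.or_eq_true] at this
    rcases this with h | h
    · obtain ⟨k₂, hk₂, hc⟩ := conjAny7_spec hok g7_tabOK h
      refine ⟨k₂ * k₁, Subgroup.mul_mem _ hk₂ hk₁, Or.inl ?_⟩
      rw [← hc, ← hgf, hg'def]
      group
    · obtain ⟨k₂, hk₂, hc⟩ := conjAny7_spec hok g7i_tabOK h
      refine ⟨k₂ * k₁, Subgroup.mul_mem _ hk₂ hk₁, Or.inr ?_⟩
      rw [← tperm_g7i, ← hc, ← hgf, hg'def]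
      group

end Cfsg.Agent.Lib.Helper9.M24
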