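import Mathlib

set_option autoImplicit false
set_option maxRecDepth 100000

/-! Generated data: generators of a stabilizer and orbit certificates. -/

namespace Cfsg.Agent.Lib.Helper9.M24

def m24tr_gens : List (List ℕ) := [
  [0, 2, 16, 12, 23, 18, 8, 3, 10, 5, 6, 4, 20, 9, 7, 22, 11, 13, 21, 15, 14, 1, 17, 19],
  [1, 2, 12, 0, 7, 6, 19, 3, 14, 20, 10, 17, 4, 11, 5, 16, 21, 15, 18, 9, 8, 23, 22, 13],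
  [23, 17, 7, 10, 2, 16, 5, 9, 11, 12, 3, 4, 6, 13, 21, 0, 22, 18, 15, 1, 8, 20, 14, 19],
  [20, 11, 5, 12, 15, 22, 4, 17, 9, 16, 0, 3, 23, 13, 6, 7, 21, 8, 18, 14, 1, 19, 10, 2],
  [5, 17, 0, 13, 3, 4, 22, 8, 6, 11, 15, 2, 21, 19, 10, 23, 16, 1, 9, 7, 12, 14, 18, 20],
  [18, 22, 2, 13, 21, 7, 8, 14, 11, 19, 16, 1, 10, 12, 3, 17, 0, 9, 20, 5, 15, 23, 6, 4],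
  [1, 14, 15, 8, 10, 4, 7, 0, 23, 16, 17, 9, 12, 6, 19, 21, 13, 11, 5, 2, 3, 22, 20, 18],
  [22, 23, 18, 21, 19, 17, 5, 6, 16, 11, 14, 10, 15, 7, 9, 3, 4, 2, 8, 20, 13, 0, 12, 1]]

def m24tr_trio_W : List (List ℕ) := [
  [], [2, 2, 3, 2], [0, 7, 5, 2], [0, 0, 5, 7, 6], [1], [1, 7, 3, 1, 7], [1, 1, 1], [0, 6, 6, 2], [5, 7, 7], [0, 6, 4],
  [1, 1, 1, 1], [0, 6, 4, 1], [1, 1], [7, 6, 1, 4], [5, 7, 7, 1], [0, 1, 2, 3], [1, 1, 7], [0, 5, 3, 5], [0, 4, 7, 5], [0, 1, 0, 1, 4],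
  [5, 0, 0], [3, 5, 7, 5], [1, 0, 1, 2, 3], [0, 6, 2, 6, 0], [1, 5, 7, 3, 7], [6, 6, 3, 5], [1, 5, 0, 0], [1, 5, 7, 3], [6, 7, 6, 4], [0, 4, 5],
  [0, 6, 3, 6, 3], [1, 7, 0, 0, 3], [1, 5, 1, 2], [2, 0, 5], [5, 7, 6, 7], [0, 2, 1, 5, 5], [6, 0, 0, 0], [2, 1, 5, 0, 7], [6, 4, 6, 5], [1, 3, 7, 3],
  [3, 4, 5, 5], [1, 0, 3, 0], [0, 2, 4, 7, 5], [7, 0, 0, 3], [3, 7, 3], [3, 3, 0, 6], [6, 3, 0, 1], [6, 2, 3], [3, 1, 6, 7], [4, 3, 0, 6],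
  [0, 3, 2, 3, 2], [0, 3, 5, 1, 4], [0, 6, 5, 3, 5], [6, 7, 0, 5], [0, 4, 7, 7, 2], [5, 2, 2, 0], [1, 3, 1, 6, 7], [0, 7, 3, 2, 5], [0, 4, 6, 0, 6], [1, 6, 2, 5, 5],
  [0, 4, 3], [0, 1, 7, 5, 0], [0, 3, 3, 0, 0], [7, 2, 2, 2], [2, 3, 0, 1], [3, 5, 7, 3], [2, 2, 1, 5], [0, 6, 5, 5, 5], [3, 2, 5, 4], [6, 0, 3, 3],
  [0, 5, 3, 3], [6, 6, 3, 3], [0, 4, 7, 3], [2, 4, 3, 0], [6, 5, 1], [4, 3, 2], [3, 0, 7, 2], [1, 6, 4, 2], [0, 1, 4, 2, 5], [3, 5, 0, 3, 4],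
  [4, 4, 3, 4], [1, 7, 4, 7], [1, 4, 3, 2], [2, 2, 6, 7], [0, 5, 2, 4, 1], [6, 3, 1, 3], [2, 5, 0, 3], [7, 4, 7], [2, 3, 1, 1], [7, 6],
  [6, 0, 3, 1], [3, 3, 2, 4], [0, 5, 6, 4, 3], [0, 7, 6, 2, 7], [0, 0, 1, 5, 1], [0, 4, 4, 3, 1], [0, 7, 0, 6, 6], [1, 4, 5, 7], [5, 4, 2, 4], [4, 5, 7],
  [0, 6, 3, 7], [7, 0, 3, 4], [2, 2, 6, 2, 1], [1, 0, 4], [6, 3, 0, 7], [5, 5, 4, 3], [0, 7, 0], [0, 4, 2, 5], [7, 4], [1, 3, 2, 1],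
  [2, 5, 4, 0], [1, 4, 6, 1], [4, 2, 0, 6], [5, 6, 7, 1], [0, 1, 7, 2, 1], [2, 0, 0, 2], [7, 7, 7, 4], [1, 5], [1, 3, 2, 6], [3, 2, 0, 1],
  [0, 6, 2, 5], [0, 4, 2, 0, 0], [1, 0, 0], [0, 6, 1, 5, 0], [0, 5, 1, 1, 7], [3, 3, 5, 3], [6, 3, 0, 4], [0, 3, 2, 7, 6], [4, 3, 7, 7], [3, 3, 2, 0],
  [5, 4, 2, 0], [0, 0, 2, 0, 7], [3, 2, 1, 5, 5], [5, 4, 2, 6], [7, 1, 6, 6], [3, 3, 2], [4, 5, 2, 4], [2, 5, 7], [1, 5, 6, 1, 3], [1, 7, 4],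
  [6, 6, 4, 2], [0, 7, 5, 7], [3, 0, 1, 3], [1, 0, 5, 7], [0, 1, 2, 3, 7], [1, 4, 4, 4], [2, 0, 6, 0], [6, 4, 7, 1], [1, 6, 1, 7], [4, 5, 2, 2],
  [6, 5, 5, 0], [0, 7, 5, 0, 4], [0, 2, 1, 6, 5], [5, 6, 4], [3, 6, 4, 2], [4, 2, 2, 7], [3, 4, 2, 5], [0, 1, 6, 0, 5], [0, 4, 1, 0, 3], [1, 3, 3, 7],
  [0, 3, 2, 5], [2, 3, 5, 4], [5, 3, 2, 4], [2, 5, 3, 3], [0, 1, 5, 5], [2, 6, 4, 0], [0, 1, 5, 1, 6], [0, 1, 5], [0, 7, 1, 3, 4], [3, 0, 7, 4],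
  [5, 5, 2], [2, 3, 2], [1, 3, 1, 2, 7], [0, 7, 3, 2], [0, 0, 6, 4, 0], [0, 6, 7, 4, 4], [0, 2, 7, 2], [3, 5, 2, 3], [2, 7, 1], [5, 2, 0, 3],
  [2, 3, 3, 6], [2, 3, 4, 7], [1, 4, 6, 5], [0, 7, 5, 0, 0], [5, 0, 3], [1, 3, 2, 5], [5, 4, 3, 3], [1, 4, 1, 5], [1, 2, 7, 3], [4, 2, 0, 5],
  [0, 6, 5, 7], [3, 6, 7, 2], [0, 0, 0, 2, 7], [2, 2, 0, 1], [3, 2, 0, 5], [0, 3, 6, 0], [1, 1, 1, 1, 7], [6, 7, 6, 6], [3, 2, 1, 5], [4, 2, 3, 5],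
  [1, 7, 3, 2, 5], [0, 7, 1, 2, 0], [3, 2, 3, 5], [5, 1, 6, 0], [0, 2, 3, 1, 0], [1, 2, 1, 1], [3, 1, 7, 3], [2, 1, 1], [5, 2, 4, 6], [5, 2, 5],
  [0, 5, 0, 1], [0, 4, 4, 3], [2, 5, 7, 4], [6, 1, 6], [3, 3, 1, 4], [7, 2], [4, 5, 6, 1], [1, 5, 6, 0, 7], [1, 7, 6, 3], [6, 5, 3, 1],
  [3, 5, 6, 1], [6, 6, 0, 1], [2, 3, 4, 6, 6], [0, 3, 7, 2, 2], [3, 5, 4, 3], [7, 1, 4, 6], [3, 5, 5, 7, 1], [0, 0, 2, 5], [2, 5, 7, 6], [1, 6, 4, 4],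
  [1, 5, 6, 4], [1, 4, 0, 7], [0, 6, 2, 5, 2], [2, 6, 3, 0, 6], [5, 1, 6, 1], [1, 2, 2, 7, 7], [3, 3, 1, 6], [0, 3, 0, 1, 1], [3, 0, 5, 0], [0, 7, 6, 0],
  [4, 2, 7, 4], [1, 7], [3, 6, 4, 0], [4, 5, 6, 6], [0, 6, 7, 4, 7], [1, 5, 1, 3], [5, 3, 5, 0], [0, 1, 5, 4, 5], [0, 1, 4, 2, 1], [0, 2, 2, 2, 2],
  [6, 2], [0, 4, 2, 7], [7, 7, 6, 2], [4, 4, 1, 2], [3, 2, 4, 1], [3, 6, 5], [1, 0, 7, 0], [1, 4, 7, 1], [4, 2, 1, 4, 3], [0, 2, 5],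
  [0, 5, 5, 4, 5], [4, 0, 3, 3], [6, 3, 4, 2], [0, 6, 1, 0, 3], [4, 7, 1, 0], [2, 7, 3, 1, 1], [3, 1, 1, 6], [0, 7, 1, 1], [3, 7, 4], [1, 6, 5, 1],
  [6, 2, 4, 4], [1, 7, 4, 4], [2, 1, 0, 4], [0, 5, 2, 6, 5], [0, 0, 6, 5, 2], [0, 6, 2, 7, 5], [6, 1, 2, 3], [4, 0, 7, 6], [0, 5, 4, 0], [5, 0, 3, 4],
  [2, 6, 5, 2], [1, 6, 5, 5, 6], [6, 0, 7, 4], [0, 1, 3, 3], [0, 0, 7, 4, 0], [1, 2, 3, 3], [2, 0, 4, 1], [1, 2, 4, 5, 4], [5, 3, 0, 5], [1, 1, 3, 3],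
  [3, 4, 3], [0, 5, 4, 1, 1], [6, 2, 6], [4, 2, 5, 3], [0, 7, 7, 2, 4], [3, 2, 5, 3], [7, 7, 1, 5], [1, 7, 0], [1, 4, 4, 0], [1, 7, 6],
  [7, 5, 2, 4], [0, 1, 2, 6, 5], [0, 2, 6, 6, 7], [0, 2, 4, 0, 6], [2, 5, 5, 3], [6, 6, 7, 7], [2, 0, 3, 4], [5, 0, 2, 0], [0, 7, 0, 3, 4], [2, 4, 6, 4],
  [6, 6], [0, 3, 3, 7], [4, 3, 3, 2], [5, 0, 6, 1], [5, 1, 3, 7], [7, 0, 6], [0, 0, 6, 1, 6], [2, 2, 2], [0, 4, 3, 5, 0], [4, 0, 7, 7],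
  [0, 6, 5, 5], [0, 0, 6, 4], [0, 4, 5, 7, 6], [4, 3, 1, 3], [5, 4, 7, 1], [7, 3, 6, 1], [1, 2, 4, 1, 2], [0, 2, 6], [1, 2, 2, 2], [4, 7, 6, 2],
  [1, 6, 1], [3, 3, 4], [6, 1], [5, 2, 7], [4, 3, 4], [1, 2, 6, 3], [0, 1, 3, 4, 5], [0, 5, 4, 4, 1], [3, 1, 6, 6], [0, 2, 6, 6, 3],
  [1, 1, 6, 1], [1, 3, 1, 5], [0, 4, 6, 4], [1, 7, 1, 1], [5, 2, 6], [0, 3, 2, 2, 4], [7, 1, 4, 7], [2, 2, 5, 5], [5, 7, 6, 1], [0, 6, 6, 3],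
  [0, 6, 3, 4], [1, 4, 6, 3, 3], [0, 3, 4, 2], [0, 4, 0, 2, 5], [6, 3, 3, 7], [0, 2, 6, 1, 4], [5, 2, 1, 6], [0, 1, 2], [5, 3, 1], [0, 7, 5, 3],
  [3, 4, 6, 0], [3, 1, 2, 5], [7, 1, 5], [7, 4, 4, 7], [0, 1, 6, 0, 0], [0, 3, 2, 0], [6, 6, 2], [1, 3, 4, 3, 5], [4, 3, 6, 3], [1, 0, 3, 7, 5],
  [4, 1, 2, 5], [4, 0, 4, 5], [2, 0, 0, 7], [4, 1, 7, 0], [0, 4, 0, 1, 4], [1, 0, 4, 3], [0, 1, 0, 1], [2, 7, 7, 1], [5, 0, 6, 0], [1, 0, 4, 2],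
  [4, 5, 7, 3], [6, 7, 6], [5, 0, 1, 0], [0, 6, 7, 0, 7], [3, 1, 6, 4], [0, 3, 1, 1, 1], [2, 5, 3, 7], [0, 2, 2, 1, 1], [5, 2, 4], [2, 2, 0, 0],
  [0, 4, 3, 5, 4], [1, 1, 1, 7], [0, 0, 2, 6, 5], [4, 4, 5, 4], [2, 6, 5, 4], [5, 4, 3], [0, 0, 0, 0], [2, 7, 5, 3], [2, 0, 4, 4], [5, 0, 2, 1],
  [0, 4, 0, 4], [6, 5, 3, 7], [3, 4, 5, 4], [1, 2, 1, 7], [3, 3, 3], [1, 4, 3, 5], [5, 7, 7, 7], [6, 0, 0, 2], [0, 5, 0, 2], [6, 5, 3, 2],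
  [3, 0, 5], [4, 5, 6, 2], [0, 6, 1, 7, 5], [0, 5, 1, 4, 1], [5, 0, 1, 2, 5], [4, 0, 5], [2, 1, 6, 4, 0], [0, 6, 7, 6, 5], [0, 7, 6], [6, 2, 5, 5],
  [2, 0, 6, 7], [0, 6, 4, 7], [0, 0, 2, 7, 0], [3, 1, 5, 4], [1, 3, 1, 1], [4, 0, 2, 5], [7, 2, 0, 6], [0, 1, 0, 3, 5], [1, 0, 0, 6, 7], [5, 6, 0, 1],
  [0, 1, 7, 5, 2], [2, 4, 3, 2], [5, 2, 3, 7], [0, 1, 0, 2, 7], [0, 6, 3, 5, 3], [3, 7, 3, 1], [7, 2, 3, 3], [7, 3, 3, 0], [2, 5, 6, 4], [7, 6, 5, 2],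
  [0, 0, 7, 1, 0], [2, 7, 1, 0], [5, 4, 4, 7], [0, 0, 1, 4], [2, 1, 4], [2, 0, 5, 1], [0, 0, 7, 2, 7], [0, 1, 4, 7, 2], [5, 5, 4], [0, 1, 6, 7, 0],
  [4, 0, 2, 4], [1, 4, 5, 4, 4], [0, 4, 5, 1], [1, 1, 7, 1], [2, 6, 2, 6], [0, 7, 4, 5], [2, 4, 7, 4], [5, 0, 0, 1], [2, 3, 6, 7, 3], [4, 0, 0, 3],
  [0, 6, 3, 4, 4], [0, 4, 7, 5, 1], [0, 2, 4, 6, 2], [0, 5, 1, 3, 5], [5, 7, 5, 5], [0, 4, 6, 2], [2, 2, 1, 3], [1, 1, 2, 5, 7], [6, 7, 7], [2, 6, 0, 6, 0],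
  [1, 4, 7, 7, 1], [0, 2, 0, 6, 6], [7, 2, 6, 7], [0, 0, 4, 4, 7], [0, 1, 7, 7, 2], [0, 6, 5, 5, 3], [2, 0, 3, 6, 4], [6, 2, 2, 4], [3, 1, 7, 0], [0, 5, 2, 0, 7],
  [0, 6, 1], [0, 6, 6, 0, 4], [4, 2, 5, 0], [0, 0, 2, 2, 1], [1, 5, 6, 5], [2, 0, 7, 0], [1, 1, 5, 6, 5], [0, 2, 1, 1, 3], [3, 6, 1, 0], [3, 2, 5, 0],
  [5, 3, 3], [3, 4, 0], [0, 0, 0, 7, 0], [1, 2, 3, 0], [0, 2, 1, 0], [1, 1, 0, 6, 2], [4, 1, 5, 7], [0, 2, 6, 5, 0], [0, 6, 2], [3, 4, 7, 7],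
  [1, 0, 6, 2], [2, 5, 1, 7], [0, 1, 4, 4, 3], [1, 1, 5, 5, 3], [3, 2, 5, 7, 7], [1, 1, 3, 7, 7], [0, 0, 4, 3, 2], [5, 5, 6, 2], [4, 2, 7, 3], [3, 1, 6, 5],
  [2, 7, 7, 3, 4], [5, 5, 1, 5], [3, 0, 6, 6], [4, 0, 1, 2], [5, 3], [2, 1, 5, 7], [1, 5, 4, 1], [7, 6, 5, 5], [7, 1, 7, 1], [0, 2, 1, 1],
  [0, 4, 2, 4], [0, 3, 6, 4, 1], [2, 1, 1, 5], [7, 0, 1, 1], [5, 7, 6], [6], [0, 1, 5, 7], [1, 1, 1, 6], [1, 1, 6], [0, 5, 4, 4],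
  [1, 7, 1], [0, 6, 4, 6], [0, 4, 5, 0, 0], [5, 7, 7, 6], [1, 3, 3, 7, 3], [2, 6, 6, 3], [1, 6], [6, 6, 5, 5], [0, 1, 7, 3, 4], [6, 7, 5, 7],
  [4, 5, 6, 3], [3, 7, 3, 0], [1, 1, 0, 5, 0], [3, 5, 1, 1], [3, 3, 7, 5], [6, 0, 0, 3], [0, 5, 0, 3], [6, 5, 3, 3], [2, 5, 1, 6], [0, 7, 1, 4],
  [0, 0, 0, 6, 4], [1, 6, 3, 4, 4], [7, 1, 3, 5], [6, 6, 0, 3], [0, 4, 5, 0], [0, 0, 0, 1], [3, 0, 6, 2], [2, 2, 1, 6], [1, 5, 6, 0, 2], [2, 0, 1],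
  [0, 3, 3, 6], [1, 2, 0, 3, 2], [3, 0, 0, 2], [0, 3, 3, 2, 4], [1, 6, 3, 3, 7], [5, 7, 2], [0, 2, 3, 4, 0], [0, 3, 5, 7, 3], [1, 4, 7, 4, 3], [4, 3, 3, 5, 7],
  [0, 1, 0, 3, 4], [0, 6, 4, 1, 7], [2, 5, 6, 5], [2, 2, 6], [0, 4, 1, 1, 2], [0, 1, 0, 7], [0, 3, 4, 0, 7], [1, 2, 3], [2, 3], [0, 6, 0, 5, 5],
  [4, 4, 5, 5], [4, 2, 2, 4], [0, 7, 2, 2, 2], [3, 1, 5, 5], [4, 1, 5, 5], [3, 5, 5, 1], [0, 0, 0, 4, 5], [3, 6, 2, 4], [1, 5, 3, 0], [5, 0, 4, 0],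
  [0, 3, 6, 6, 3], [1, 1, 7, 2], [5, 3, 7, 1], [0, 5, 4, 1, 5], [0, 2, 5, 7, 6], [2, 0, 4, 5], [2, 3, 6, 1], [3, 2, 7, 2, 0], [0, 4, 5, 2], [0, 2, 2, 4],
  [6, 6, 2, 5], [7], [1, 0, 5, 2, 1], [7, 1, 5, 5], [4, 7, 2], [3, 3, 0, 7], [2, 4, 4, 3], [4, 7, 0], [1, 2, 7, 6], [0, 1, 5, 6, 1],
  [2, 4, 3, 3], [1, 6, 2, 2], [4, 7, 7, 2], [0, 5, 2, 1], [1, 1, 7, 6], [1, 3, 6, 5], [6, 0, 0], [0, 6, 1, 5, 3], [0, 1, 7, 5, 6], [3, 3, 2, 3],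
  [0, 3, 3, 0, 6], [0, 6, 2, 4], [0, 4, 4, 0], [1, 0, 3], [1, 6, 0, 0], [1, 2, 1, 4], [7, 0, 3, 3], [4, 3, 6, 7], [0, 0, 1, 0], [4, 2, 1, 3, 2],
  [5, 2, 5, 4], [0, 6, 7, 6], [5, 0, 1, 2], [6, 1, 2, 2], [2, 1, 1, 4], [2, 1, 7, 2], [0, 4, 5, 0, 1], [1, 2, 3, 0, 7], [4, 0], [1, 4, 3],
  [3, 0], [6, 2, 5], [0, 6, 1, 7], [6, 1, 3, 6], [6, 4, 2, 3], [5, 7, 2, 4], [0, 0, 0, 1, 4], [0, 6, 5, 0, 3], [5, 3, 5, 7], [0, 0, 2, 5, 6],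
  [0, 6, 4, 3, 1], [0, 5, 7, 4, 1], [2, 0, 1, 4], [7, 6, 4, 0], [0, 2, 0, 2, 3], [1, 1, 3, 1], [1, 3, 1], [0, 4, 3, 0, 7], [3, 1], [0, 1, 0, 4, 1],
  [0, 1, 4, 6, 4], [0, 4, 0, 4, 6], [6, 2, 6, 2], [3, 0, 1, 2], [0, 3, 7, 7], [1, 3, 0, 1, 2], [0, 4, 5, 6, 0], [5, 4, 3, 6], [3, 6, 6, 7], [0, 4, 7, 4],
  [0, 0, 2, 6, 1], [4, 1, 4, 3], [0, 5, 2, 7], [1, 2, 1, 7, 6], [0, 0, 3, 4, 3], [4, 5, 5], [0, 4, 2, 6, 6], [6, 4, 4], [0, 1, 0, 0, 5], [0, 3, 1, 0, 7],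
  [0, 6, 3, 1, 5], [2, 6, 4, 5, 4], [6, 2, 3, 0], [0, 0, 7], [2, 3, 5, 4, 6], [0, 3, 6, 4, 5], [3, 6, 2, 2], [0, 3, 0, 7, 5], [3, 5, 5], [0, 7, 1, 7],
  [2, 3, 2, 7], [1, 5, 6, 2, 2], [1, 0, 1, 7], [5, 7, 4, 0], [0, 6, 2, 2, 6], [3, 0, 2, 2], [5, 0, 1], [0, 4, 1, 4, 3], [7, 1, 2, 0], [0, 4, 3, 6, 3],
  [6, 1, 2], [7, 7, 0, 1], [2, 1, 7], [0, 7, 0, 1, 0], [3, 3, 0], [4, 3, 0], [0, 2, 3, 0, 6], [1, 5, 7, 1, 2], [0, 0, 2, 6, 2], [3, 0, 3, 3],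
  [3, 5, 6, 0], [1, 5, 2, 1, 5], [1, 5, 1, 5, 2], [0, 0, 1, 4, 7], [5, 2, 1, 5], [6, 6, 0, 5], [0, 4, 6, 0], [1, 1, 0, 6, 0], [1, 3, 5, 6, 0], [0, 0, 0, 1, 0],
  [6, 1, 1, 3], [0, 3, 3, 6, 0], [3, 2, 6, 1], [4, 3, 1, 4], [0, 6, 0, 3, 4], [3, 3, 1, 5], [2, 0, 6, 7, 2], [0, 3, 7, 4, 5], [0, 2, 2, 7, 5], [2, 1, 0, 1],
  [2, 2, 1, 6, 0], [0, 6, 2, 2, 7], [0, 2, 4, 5, 1], [2, 0, 1, 0], [0, 7, 7, 4, 0], [0, 2, 2, 3, 1], [0, 5, 1, 4, 6], [1, 3, 2, 4, 7], [2, 2, 0, 6, 7], [5, 2, 3, 0, 4],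
  [2, 2, 3, 0], [1, 0, 6, 6, 2], [1, 6, 7, 0], [0, 7, 2, 3, 0], [0, 5, 6, 6, 4], [2, 6, 6, 2], [6, 4, 6, 4], [0, 4, 5, 1, 5], [2, 7, 4, 0], [5, 7],
  [1, 3, 5, 0], [2, 5, 5, 6, 0], [1, 1, 5, 4, 6], [0, 4, 1, 7, 2], [3, 6, 0, 3], [0, 6, 2, 6, 1], [1, 1, 1, 5, 7], [1, 1, 5, 7], [1, 1, 5, 6], [1, 5, 7],
  [7, 6, 4], [0, 2, 0, 3], [1, 2, 5, 6], [1, 0, 7, 5], [1, 6, 0, 6], [4, 7, 1, 7], [6, 5, 6, 0], [2, 7, 5], [1, 3, 1, 4], [0, 7, 6, 3, 0],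
  [1, 2, 3, 6, 4], [7, 3, 4, 6], [0, 1, 4, 2, 2], [0, 7, 7, 5], [7, 5, 0, 1], [0, 5, 6, 0, 3], [1, 0, 7, 7], [2, 3, 7, 6, 5], [2, 5], [0, 2, 0, 2],
  [3, 6, 0, 2], [0, 2, 6, 6], [2, 3, 3, 1], [0, 2, 7, 3, 1], [7, 1, 2, 6], [3, 7, 0], [2, 7, 4, 4], [3, 2, 6, 5], [4, 2, 6, 5], [0, 2, 3, 4],
  [0, 0, 5], [3, 7, 2, 1], [3, 3, 7, 4], [2, 3, 1, 5], [1, 0, 5, 0], [1, 7, 2, 7], [0, 0, 0, 6], [1, 1, 3, 1, 4], [4, 7, 3, 3], [0, 5, 2, 4, 5],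
  [2, 6, 5, 2, 4], [0, 6, 7, 2, 4], [3, 7, 5, 7], [0, 3, 5, 4, 7], [0, 2, 2, 0], [4, 3, 3], [0, 2, 1, 1, 4], [1, 0, 5], [5, 5, 5], [2, 1, 2, 7],
  [0, 0, 1, 2, 7], [1, 5, 5, 5], [0, 7, 2, 4, 2], [5, 1, 1, 3], [3, 3, 0, 3, 2], [6, 5, 5, 4], [0, 5], [7, 2, 3], [1, 1, 4, 4, 7], [3, 1, 7, 6],
  [0, 1, 5, 1, 3], [1, 1, 0, 5], [0, 7, 2, 4, 3], [0, 0, 4, 3], [0, 6], [1, 1, 0, 6], [6, 7, 4, 0], [5, 5, 6], [0, 2, 6, 1], [0, 2, 5, 1, 0],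
  [0, 6, 5, 1, 6], [4, 4, 4, 4], [0, 6, 7, 2], [7, 1, 2, 1], [6, 1, 3, 2], [1, 0, 6], [1, 3, 5, 5], [0, 6, 3, 0, 2], [0, 3, 6, 7, 6], [0, 1, 2, 6],
  [4, 1, 1], [5, 0, 3, 7], [4, 7, 1, 1], [0, 0, 5, 0, 0], [0, 4, 4, 4, 6], [0, 5, 3, 0, 6], [0, 1, 2, 4], [6, 3, 5, 3], [0, 0, 3, 1], [2, 2, 5, 0],
  [1, 5, 7, 6], [4, 5, 6], [0, 6, 1, 2], [0, 2, 1, 0, 2], [5, 2, 6, 6], [1, 6, 4, 4, 0], [0, 3, 6, 0, 1], [1, 5, 0, 1], [0, 6, 3, 6], [1, 4, 5, 6],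
  [5, 3, 3, 2], [1, 2, 2, 0, 5], [3, 4, 0, 2], [6, 3, 0, 6], [2, 2, 6, 6, 7], [4, 1, 3, 3], [1, 4, 1, 2], [1, 4, 6, 2], [0, 5, 2, 3, 2], [0, 0, 6, 7, 5],
  [1, 3, 2, 2], [7, 0, 3, 3, 1], [2, 3, 6, 4], [1, 3, 4], [5, 0, 7, 3], [5, 6, 7, 2], [3, 2, 0, 2], [0, 5, 7, 4], [0, 2, 4, 1, 4], [5, 6, 0, 3],
  [5, 3, 1, 3], [5, 1, 0, 5], [4, 2, 2, 0], [1, 0, 6, 1], [0, 2, 5, 2, 4], [0, 3, 6, 6], [0, 1, 5, 1, 0], [2, 4, 5, 5], [1, 6, 4], [1, 5, 6],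
  [7, 5, 4, 5], [5, 5, 6, 1], [4, 4, 7, 6], [2, 7, 2, 3], [0, 4, 5, 4], [2, 6, 2, 0], [1, 3, 2, 6, 4], [7, 3, 5, 0], [2, 0, 5, 5], [1, 0, 5, 1],
  [7, 2, 4, 3], [3, 5, 5, 4], [5, 7, 5, 6], [1, 0, 3, 0, 5], [7, 1, 3, 6], [0, 2, 4, 1, 6], [2, 0, 1, 0, 4], [3, 7, 3, 5], [0, 5, 1], [0, 7, 5],
  [0, 1, 4, 7, 0], [1, 5, 6, 2], [2, 3, 6, 0], [0, 6, 7, 3], [1, 0, 5, 1, 0], [3, 3, 5, 6], [5, 0, 6, 7], [4, 0, 0, 0], [1, 4, 7, 4], [5, 4, 6, 1],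
  [6, 1, 2, 4], [5, 6, 2], [4, 7, 4], [6, 3, 6, 6], [0, 3, 4, 3, 4], [1, 7, 0, 6], [0, 0, 1, 5, 7], [7, 2, 6, 2], [2, 6, 6, 7], [6, 2, 0, 6],
  [6, 0], [2, 1, 6, 5, 1], [0, 6, 2, 0, 1], [2, 4, 3, 7], [3, 0, 2, 4], [0, 1, 3, 4], [6, 7, 2], [2, 0, 2, 1], [1, 0, 3, 7, 1], [4, 1, 2],
  [0, 0, 5, 7], [6, 5, 4], [7, 4, 0], [0, 4, 6, 0, 7], [0, 0, 3, 2], [7, 0, 6, 2], [2, 4, 3, 1, 5], [1, 6, 5, 4], [1, 0, 6, 6], [1, 4, 4, 5],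
  [1, 7, 5], [0, 7, 7], [2, 1, 7, 6], [2, 4, 3], [0, 0, 1, 5], [3, 5, 7, 2], [5, 1, 6, 2], [0, 2, 3, 1, 3], [6, 0, 5], [3, 0, 0, 0],
  [5, 7, 0], [5, 0, 2, 2], [2, 6, 6], [1, 2, 0, 3, 0], [0, 7, 4, 3], [0, 0, 6, 6], [0, 1, 5, 6, 2], [2, 6, 0, 3], [1, 2, 2, 5], [0, 2, 1, 2],
  [7, 0, 4, 3], [0, 1, 5, 2, 4], [0, 0, 6, 5, 3], [2, 0, 3, 3, 2], [1, 0, 4, 4, 5], [1, 2, 4, 0, 1], [0, 0, 6, 6, 6], [6, 3, 7, 0], [6, 2, 6, 4], [2, 0, 2, 0],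
  [7, 1, 7, 2], [0, 2, 7, 0, 3], [0, 0, 6, 2, 2], [4, 2, 6], [4, 1, 5, 4], [3, 1, 1], [2, 1, 1, 7], [0, 3, 7, 3, 3], [1, 3, 7, 1], [6, 7, 4, 6],
  [1, 4, 1, 5, 4], [0, 0, 6, 0, 4], [5, 2, 3, 2], [2, 4, 7, 7, 6], [2, 3, 0, 6], [3, 7, 5, 1], [0, 5, 0], [4, 7, 0, 7], [0, 1, 7], [0, 3, 3, 7, 6],
  [0, 3, 1, 1, 7], [0, 7, 1, 2, 6], [5, 6, 1, 6], [3, 1, 7, 2], [0, 0, 7, 5, 1], [0, 6, 7, 7, 1], [0, 3, 4, 7], [0, 5, 5, 5], [2, 2, 0, 2, 3], [2, 4, 2, 0],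
  [2, 3, 3], [7, 0, 0, 2], [0, 2, 7, 3], [5, 3, 7, 0], [3, 7, 2], [1, 0, 3, 3], [1, 4, 5, 4], [0, 1, 2, 5], [5, 5, 3], [1, 3, 7, 2],
  [3, 2, 7], [0, 7, 3, 3], [5, 4, 4, 4], [0, 2, 1, 4, 3], [1, 7, 2, 1], [0, 5, 2, 5], [2, 2, 7, 6], [2, 2, 4, 6], [5, 0, 4, 3], [0, 5, 0, 7, 3],
  [4, 3, 6, 2], [4, 4, 3, 6], [4, 1, 3, 6], [3, 6, 4, 6], [2, 7, 6, 1], [2, 0, 7, 1], [5, 7, 0, 2], [1, 6, 3], [0, 2, 0, 7, 2], [0, 2, 2, 6, 0],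
  [1, 2, 0], [1, 3, 5], [1, 1, 0, 0], [0, 2, 4, 3], [0, 5, 1, 7, 2], [1, 7, 6, 2, 1], [0, 0, 6, 3, 7], [5, 0, 7, 6], [3, 5], [0, 2, 6, 0],
  [7, 6, 3, 4], [0, 0, 3, 6, 6], [1, 1, 0], [0, 4], [0, 3, 1, 4], [3, 5, 2], [2, 2, 5], [0, 4, 2], [0, 2, 4, 3, 2], [3, 1, 7, 3, 7],
  [1, 1, 0, 2], [5, 6, 0, 6], [1, 2, 0, 2], [1, 3, 5, 2], [1, 3, 1, 6], [6, 5, 7, 0], [0, 7, 2, 5], [2, 1, 0, 2, 4], [1, 1, 1, 4, 4], [0, 1, 7, 5],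
  [2, 4, 5, 2], [0, 0, 4, 7], [6, 2, 7, 4], [2, 4, 7], [2, 1, 0, 6], [0, 4, 3, 2, 7], [1, 5, 2, 2, 2], [1, 1, 4, 3], [4, 4, 6, 3], [3, 4, 1, 0],
  [0, 1, 7, 1], [0, 0, 1, 0, 6], [7, 3, 3], [2, 2, 6, 3], [0, 0, 5, 1], [5, 0, 6, 2], [0, 2, 3, 4, 1], [1, 7, 4, 3], [2, 5, 1], [5, 1, 2, 7],
  [0, 2, 0, 6, 7], [1, 5, 3, 4], [4, 2, 6, 5, 1], [5, 0, 4, 4], [1, 5, 0, 4, 6], [7, 4, 3], [2, 4, 1, 4], [3, 7, 0, 1], [5, 4, 3, 2], [3, 2, 7, 4],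
  [5, 7, 5, 7], [4, 3, 3, 1], [0, 7, 4, 7], [1, 1, 1, 7, 2], [0, 0, 3, 1, 3], [0, 0, 0, 0, 2], [0, 4, 0, 4, 2], [1, 3, 1, 6, 4], [0, 1, 2, 6, 3], [2, 0, 4, 4, 2],
  [4, 1, 1, 3], [3, 3, 3, 2], [7, 3, 6, 5], [4, 4, 0, 3], [5, 3, 1, 6], [5, 4, 7, 5], [0, 7, 7, 2, 6], [0, 0, 5, 2, 0], [4, 3, 2, 5], [7, 7, 3, 5],
  [6, 7, 7, 7], [1, 4, 7, 6], [2, 7, 2, 6], [5, 3, 6, 2], [0, 4, 6, 3], [2, 3, 4, 3], [1, 2, 0, 3], [3, 5, 0], [0, 1, 0, 0, 0], [1, 2, 6],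
  [4, 5, 0], [0, 2, 6, 0, 3], [0, 3, 0, 1, 7], [3, 4], [1, 3, 5, 3], [0, 0, 4, 1], [0, 3, 6, 4, 0], [7, 7, 4, 4], [4, 4], [2, 6],
  [1, 2, 1, 5], [2, 1, 5], [3, 6, 7, 3], [0, 5, 1, 5, 4], [6, 4, 5, 5], [1, 6, 3, 2, 4], [1, 3, 7, 1, 2], [6, 3, 4, 7], [0, 2, 5, 1, 6], [0, 7, 7, 0, 5],
  [1, 6, 2, 6, 5], [1, 3, 7, 2, 7], [2, 1, 1, 7, 2], [3, 1, 1, 2], [1, 1, 2, 1, 5], [1, 1, 0, 1, 5], [7, 0, 6, 4], [1, 3, 5, 6], [4, 1, 4], [3, 0, 4, 3],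
  [0, 0, 5, 7, 1], [4, 7, 1, 4], [1, 3, 1, 2], [0, 0, 3, 4], [0, 0, 6, 0, 0], [1, 4, 0, 3], [1, 1, 1, 5], [3, 3, 3, 7], [1, 6, 0, 4, 0], [5, 7, 1],
  [0, 0, 7, 5, 4], [0, 0, 5, 7, 3], [0, 1, 0, 6], [1, 7, 2, 5], [6, 2, 2, 5], [0, 2, 2, 1, 6], [0, 2, 4, 0, 3], [0, 3, 3, 1, 5], [3, 7, 0, 5], [3, 0, 6, 1],
  [1, 5, 3, 2], [2, 7, 7, 6], [2, 7, 1, 1, 3], [0, 2, 4, 0], [2, 1, 1, 6, 0], [1, 7, 1, 5, 3], [4, 4, 1], [0, 6, 6, 1, 1], [0, 3, 7, 5, 3], [0, 5, 5, 3, 7],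
  [0, 2, 4, 6, 6], [7, 0, 2, 2], [5, 0, 4, 1, 4], [2, 0, 6, 2], [0, 2, 2, 2], [1, 6, 1, 4], [7, 7, 6], [0, 2, 7, 7, 1], [0, 1, 0, 5, 0], [0, 4, 0, 0, 4],
  [3, 1, 5, 6], [5, 5, 7, 1], [4, 1, 2, 1], [1, 3, 4, 3, 1], [1, 6, 3, 0], [0, 4, 6, 6, 1], [4, 4, 2, 1], [4, 0, 4, 1], [2, 3, 7, 1], [6, 3, 0],
  [7, 1, 1], [0, 0, 6, 4, 4], [6, 0, 5, 4], [7, 2, 7], [1, 6, 1, 4, 5], [5, 1, 1], [1, 2, 6, 2], [1, 2, 4, 6, 0], [6, 5], [1, 1, 6, 2],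
  [0, 0, 3, 0], [5, 1, 1, 7], [2, 3, 0], [7, 7, 7, 6], [2, 0, 5, 2], [7, 2, 5], [1, 2, 7, 2], [0, 6, 1, 3], [0, 4, 3, 3], [2, 1, 2, 1],
  [0, 5, 4, 0, 7], [6, 1, 6, 5], [5, 0, 2], [1, 3, 6, 4, 4], [3, 6, 5, 3], [7, 2, 2, 0], [2, 3, 5, 2], [2, 4, 5, 4], [3, 6, 6, 3], [4, 3, 1, 5, 3],
  [0, 3, 2, 6, 6], [0, 2, 2, 1], [0, 4, 4, 2, 5], [2, 3, 5, 6], [0, 3, 1, 1], [3, 4, 1, 1], [5, 5, 5, 6], [3, 1, 0, 6], [0, 1, 0], [2, 7, 7],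
  [4, 5, 0, 4], [1, 0, 7, 3, 5], [2, 7, 5, 4], [2, 2, 2, 6], [0, 4, 1, 3], [2, 2, 3], [1, 4, 6, 3], [0, 3, 0, 5, 1], [1, 7, 2, 2], [0, 0, 2, 2, 6],
  [0, 6, 6], [2, 2, 5, 3], [0, 3, 4, 0], [0, 0, 2, 5, 3], [0, 4, 6, 0, 5], [4, 7, 5, 3], [2, 0, 3, 7], [2, 3, 4, 2], [0, 6, 7, 4], [6, 7, 5, 1],
  [6, 1, 3, 4], [4, 5, 7, 0], [1, 0, 3, 4, 2], [1, 1, 7, 4, 1], [3, 7, 5, 3], [0, 4, 7, 6, 2], [4, 4, 0, 2], [4, 5, 3], [0, 2, 3, 0, 3], [1, 5, 6, 6],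
  [5, 5, 3, 4], [3, 0, 2, 5], [3, 7, 2, 4], [1, 6, 2], [3, 7, 7], [0, 5, 0, 7, 2], [0, 6, 1, 6], [1, 0, 3, 3, 4], [4, 7], [4, 7, 7],
  [0, 6, 4, 0], [1, 5, 2, 2, 4], [0, 4, 6, 2, 1], [7, 6, 1, 2], [0, 5, 0, 3, 2], [1, 6, 4, 5], [7, 2, 2, 7], [5, 2, 2, 4], [3, 0, 7, 5], [1, 2, 7, 2, 2],
  [0, 5, 7, 6, 7], [5, 4, 6, 7], [5, 4, 4, 3], [1, 4, 5, 3], [4, 3, 5], [0, 7, 0, 1, 2], [1, 3, 2, 4, 5], [2, 4, 2, 5], [3, 2, 4, 5], [1, 1, 7, 5, 1],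
  [0, 5, 5], [2, 1, 2, 1, 5], [2, 0, 1, 2], [7, 5, 1], [6, 6, 6, 1], [0, 0, 5, 3, 3], [0, 4, 2, 7, 0], [5, 2, 1, 3], [0, 1, 3, 3, 6], [6, 4, 7, 7],
  [4, 5, 1, 0], [1, 0, 0, 1], [2, 2, 4, 7], [0, 5, 5, 3, 6], [1, 3, 2, 3], [3, 0, 6, 7], [7, 7, 0, 7], [2, 0, 4, 2], [0, 3, 7, 5], [1, 3, 3, 4, 3],
  [0, 7], [1, 2, 5, 4], [2, 5, 4], [3, 3, 2, 1], [0, 5, 6, 2, 5], [0, 4, 1, 6], [0, 0, 2, 4, 2], [0, 4, 7, 1, 6], [2, 5, 7, 1], [3, 1, 0, 5],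
  [0, 0, 3, 3], [1, 2, 1, 0, 0], [1, 7, 4, 1], [0, 1, 3, 3, 2], [2, 4, 6, 3], [6, 3, 2, 2], [0, 3, 5, 6], [2, 0], [3, 4, 5], [1, 1, 1, 7, 4],
  [0, 5, 6, 4], [2, 1, 1, 1], [3, 6, 1, 5], [3, 2, 5, 5], [0, 4, 0, 6, 7], [0, 0, 0, 7, 5], [2, 0, 7, 5], [0, 2, 1, 5], [6, 4, 6], [1, 4, 6, 0, 6],
  [0, 2, 4, 7], [3, 6, 2], [1, 0, 6, 1, 2], [0, 6, 1, 5, 5], [4, 4, 5, 6], [5, 4, 2, 5], [0, 4, 3, 5, 6], [7, 0, 3, 5], [3, 3, 2, 5], [0, 5, 5, 1],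
  [0, 4, 0, 6], [0, 7, 5, 5, 7], [1, 0, 4, 0, 6], [7, 0, 2, 6], [0, 2, 2], [6, 7, 2, 0], [1, 1, 2, 5], [3, 6, 2, 6], [0, 5, 3, 0, 0], [0, 7, 7, 3, 4],
  [0, 6, 0, 1, 4], [0, 0, 6, 7], [1, 5, 7, 0], [0, 3, 6, 7, 0], [0, 1, 2, 0], [4, 2, 7, 0, 5], [0, 6, 4, 3], [0, 2, 2, 6], [1, 2, 5], [6, 3, 2, 1],
  [1, 6, 0, 6, 1], [1, 6, 5, 0], [2, 0, 3, 1], [4, 7, 1, 5], [1, 5, 3, 0, 4], [0, 4, 4, 6, 1], [6, 2, 2, 2], [0, 0, 4, 3, 5], [6, 0, 6, 1], [0, 0, 1, 6, 1],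
  [0, 2, 2, 7, 3], [7, 7, 2, 6], [1, 1, 7, 2, 4], [0, 5, 3, 3, 6], [0, 4, 0], [0, 1, 4, 4, 2], [0, 4, 7, 0], [3, 6, 2, 1], [2, 3, 0, 3], [3, 0, 0, 7],
  [3, 2, 6, 3], [0, 4, 7, 3, 6], [0, 4, 3, 6], [3, 2, 4, 4, 7], [0, 5, 3, 0], [0, 5, 4, 7], [3, 1, 1, 2, 0], [5, 5, 7, 0], [0, 5, 1, 5, 2], [7, 2, 5, 7],
  [1, 3, 3], [0, 1, 7, 3], [0, 0, 1, 7, 0], [2, 1, 7, 0], [1, 4, 7, 6, 6], [1, 3, 7, 7], [0, 0, 2, 5, 4], [3, 0, 3, 0], [4, 0, 2, 1], [1, 0, 6, 0],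
  [1, 5, 6, 3, 0], [3, 7, 2, 6], [1, 3, 5, 1], [0, 3, 7, 3, 0], [6, 0, 4, 3], [0, 5, 0, 0], [1, 0, 3, 3, 6], [0, 1, 2, 5, 6], [0, 7, 6, 4], [0, 5, 4, 3],
  [5, 6, 1, 5], [5, 7, 7, 5], [3, 2, 7, 6], [0, 6, 0], [0, 1, 7, 3, 3], [6, 7, 5], [0, 0, 6, 0, 3], [1, 1, 7, 4], [1, 5, 7, 3, 4], [1, 2, 5, 1],
  [1, 6, 7, 5], [5, 0, 0, 4], [0, 3, 4, 6, 7], [5, 3, 7, 2], [0, 7, 0, 6], [2, 3, 6, 2], [2, 7, 2, 7], [0, 1, 6, 7], [3, 5, 5, 2], [2, 6, 2],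
  [6, 3, 1, 4], [4, 5, 6, 0], [1, 5, 2, 1], [7, 3, 3, 2], [0, 3, 0, 5], [2, 5, 7, 0], [5, 2, 3], [0, 0, 5, 7, 0], [4, 1, 6, 1], [2, 5, 0, 4],
  [0, 0, 6, 2], [5, 4, 2], [3, 5, 2, 1], [0, 7, 7, 5, 7], [2, 7, 5, 2], [0, 6, 1, 5], [1, 3, 3, 2], [1, 7, 0, 3], [0, 0, 1, 4, 6], [5, 5, 4, 6],
  [2, 7, 5, 7], [7, 0, 3], [1, 0], [0, 4, 2, 0], [3, 2, 1, 4], [0, 3, 5], [0, 4, 1], [4, 5, 3, 7], [0, 5, 1, 6], [0, 1, 7, 6, 4],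
  [0, 7, 6, 7], [2, 6, 7], [0, 4, 7, 1], [1, 0, 6, 7], [3, 5, 7, 1], [0, 6, 6, 4, 7], [5, 1, 5], [0, 7, 1, 7, 5], [0, 2, 5, 0], [0, 0, 4, 0],
  [1, 1, 4, 6], [0, 3, 5, 3], [7, 7, 3], [0, 5, 7, 7], [7, 3, 6], [1, 2, 4, 6], [4, 4, 6, 6], [1, 1, 0, 4, 6], [5, 4, 7], [7, 7, 4, 7],
  [5, 0, 5, 0], [1, 7, 3, 6], [2, 1, 4, 1], [0, 6, 1, 5, 7], [0, 3, 7, 3], [1, 4, 7, 2], [0, 4, 5, 1, 1], [3, 3, 4, 0], [0, 1, 3, 5], [5, 0, 6],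
  [0, 7, 5, 0, 7], [6, 0, 3, 4], [2, 7, 2, 2], [1, 4, 5, 4, 7], [1, 7, 1, 3], [5, 6, 6, 3], [2, 1, 5, 0], [0, 3, 0, 0, 7], [1, 5, 7, 1], [0, 0, 2, 6],
  [0, 5, 3, 0, 1], [3, 5, 7, 7], [6, 7, 2, 1], [5, 1, 6, 7], [0, 4, 4, 4, 1], [0, 3, 2, 5, 3], [1, 3, 1, 4, 0], [5, 4, 0, 2], [1, 5, 1, 5], [2, 4, 4, 4],
  [0, 3, 3, 0, 4], [5, 0, 2, 6], [2, 1, 2, 1, 6], [1, 3, 5, 1, 1], [0, 6, 0, 1], [7, 2, 5, 6], [0, 4, 3, 3, 6], [4, 7, 0, 3], [3, 2, 4, 4], [3, 7, 0, 3],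
  [0, 6, 1, 0], [4, 0, 3], [0, 4, 3, 0], [4, 2, 1, 4], [1, 5, 5, 4], [0, 6, 7, 7, 5], [3, 1, 0, 0], [0, 1, 3, 5, 0], [3, 7, 4, 7], [0, 2, 6, 5, 2],
  [4, 3, 5, 1], [1, 6, 5, 1, 7], [5, 6, 2, 4], [3, 3, 5, 2, 5], [0, 2, 3, 4, 3], [0, 2, 5, 7], [3, 6, 5, 7], [1, 1, 5, 2], [0, 7, 5, 4], [1, 5, 1],
  [7, 4, 4], [0, 7, 0, 1], [0, 7, 5, 5, 4], [0, 6, 2, 5, 0], [3, 2, 2, 2], [2, 5, 0, 5], [2, 4, 4, 3, 3], [7, 0, 6, 0], [7, 4, 1], [4, 4, 2, 4],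
  [5, 4, 6, 4], [4, 2, 0, 6, 1], [0, 3, 3, 2], [0, 7, 2, 2], [0, 0, 2], [1, 2, 2, 4], [0, 3, 7, 7, 0], [1, 3, 3, 0], [0, 0, 5, 1, 3], [6, 6, 5, 2],
  [4, 1, 7, 2], [1, 1, 2, 4], [0, 5, 5, 2], [5, 4, 0], [0, 1, 5, 7, 3], [0, 5, 5, 0, 4], [4, 5, 5, 6], [5, 1], [3, 2, 6, 2], [1, 6, 5, 7],
  [4, 7, 4, 1], [0, 0, 5, 1, 7], [6, 2, 7, 1], [3, 0, 6, 3], [0, 3], [6, 4, 7, 3], [2, 1, 0, 2], [0, 4, 5, 1, 4], [1, 4, 7, 7], [1, 0, 7, 6],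
  [4, 3, 0, 5], [2, 3, 7, 0], [3, 7, 5, 6], [7, 3, 0, 4], [0, 4, 3, 6, 0], [1, 3, 7, 6], [5, 0, 6, 3], [0, 5, 7, 1, 2], [1, 2, 7, 6, 3], [1, 0, 6, 5],
  [3, 1, 6], [3, 1, 2, 4], [0, 1, 4, 3, 0], [5, 2], [2, 1, 7, 5], [1, 7, 3, 1], [2, 2], [2, 6, 7, 5], [5, 1, 5, 3], [1, 2, 2],
  [3, 0, 4], [0, 5, 1, 6, 5], [1, 2, 4, 1], [4, 7, 6], [1, 3, 0, 4], [4, 4, 6, 1], [0, 3, 5, 6, 0], [7, 3, 1], [1, 1, 2, 2], [4, 2, 4, 3],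
  [1, 0, 3, 5], [7, 4, 5, 3], [0, 0, 2, 7, 7], [0, 1, 5, 4, 7], [0, 1, 6], [0, 5, 0, 7, 1], [1, 5, 5, 3], [4, 2, 1, 3], [0, 0, 1, 0, 5], [5, 0, 4, 1],
  [3, 2, 4, 3], [0, 1, 0, 0, 3], [1, 2, 1, 4, 5], [1, 7, 3], [6, 1, 2, 1], [7, 3, 7, 2], [1, 1, 4], [0, 5, 1, 2, 0], [2, 1, 7, 1], [1, 1, 7, 3],
  [7, 3], [1, 2, 4], [4, 4, 6], [1, 0, 1, 7, 1], [1, 1, 5, 3, 2], [1, 1, 0, 4], [5, 0, 1, 1], [7, 7, 7], [3, 6, 0, 5], [0, 2, 4, 6, 0],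
  [0, 3, 4, 0, 6], [1, 5, 6, 2, 7], [3, 4, 5, 7], [6, 4, 4, 1], [2, 1, 3, 6], [4, 2, 6, 7], [0, 3, 5, 7], [2, 2, 0, 5], [5, 0, 6, 5], [0, 0, 7, 1],
  [4, 7, 3, 5], [2, 7, 1, 1], [4, 5, 2], [0, 2, 5, 5], [3, 3], [0, 6, 1, 0, 4], [6, 6, 4], [7, 2, 7, 5], [0, 2, 0, 3, 0], [0, 5, 5, 0, 1],
  [6, 3, 0, 2], [1, 6, 2, 7], [4, 3, 4, 5], [0, 0, 6, 6, 0], [0, 7, 2, 0, 1], [0, 5, 2, 3], [2, 7, 5, 4, 1], [6, 3, 5], [3, 3, 4, 1], [5, 1, 0, 3],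
  [5, 4, 4, 1], [6, 3, 1, 7], [6, 0, 2, 3], [0, 5, 6, 7, 6], [1, 4, 1, 5, 0], [0, 6, 6, 2, 0], [5, 2, 7, 2], [1, 6, 3, 5], [0, 4, 5, 0, 7], [0, 6, 3, 4, 2],
  [3, 4, 0, 4], [3, 3, 3, 1, 7], [1, 5, 0], [5, 7, 4, 6], [0, 3, 0, 6], [7, 2, 2], [3, 6, 2, 7], [2, 6, 0, 4], [0, 1, 6, 6, 4], [1, 2, 6, 0, 4],
  [4, 4, 0, 4], [4, 4, 7, 0], [7, 0, 4, 1], [1, 1, 7, 5, 2], [2, 0, 3], [7, 1, 5, 3], [4, 7, 3, 4], [3, 6, 0, 4], [3, 0, 3, 1], [0, 7, 4, 6],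
  [2, 4, 6], [1, 0, 4, 6], [5, 0, 6, 4], [0, 7, 0, 3], [0, 7, 3, 0], [7, 5, 2], [5, 7, 1, 5], [0, 2, 2, 6, 1], [0, 1, 5, 4, 2], [5, 1, 2, 0],
  [7, 0, 0, 6], [6, 3, 4], [0, 2, 0, 6], [0, 2, 0, 3, 2], [0, 2, 0, 7, 1], [0, 3, 3, 5, 5], [0, 0, 6, 6, 2], [2, 1, 5, 2, 0], [0, 3, 6, 3, 1], [2, 5, 7, 6, 5],
  [4, 1, 0, 3], [0, 2, 7, 7, 2], [0, 3, 4, 5, 3], [4, 2, 1, 6], [2, 5, 4, 2], [2, 0, 3, 6, 2], [2, 3, 3, 2, 3], [4, 3, 1], [6, 6, 1, 2], [0, 0, 5, 4, 2],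
  [0, 5, 1, 2], [0, 2, 2, 3, 2], [4, 7, 3, 1], [4, 7, 5, 6], [0, 1, 7, 5, 1], [3, 4, 1, 5], [5, 1, 4, 3], [0, 2, 3, 2, 4], [7, 0, 2, 7], [0, 2, 2, 7],
  [0, 4, 0, 5, 7], [2, 7, 1, 2], [0, 0, 0, 2], [0, 3, 1, 7], [0, 3, 3, 6, 3], [1, 5, 2, 1, 3], [0, 0, 4, 7, 1], [1, 5, 4], [1, 4, 6], [0, 5, 2, 7, 0],
  [5, 4], [1, 4, 1, 3], [0, 2, 0, 1], [0, 6, 0, 6, 6], [1, 3, 6, 0], [7, 2, 5, 2], [6, 7, 1, 6], [0, 0, 3, 1, 0], [1, 1, 7, 5], [3, 6, 0, 1],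
  [1, 1, 5, 4], [5, 7, 0, 4], [2, 2, 0, 2], [2, 6, 7, 3], [0, 0, 6, 7, 3], [2, 7, 4, 3, 4], [0, 0, 5, 4, 7], [6, 0, 1, 7], [6, 6, 1, 7], [0, 3, 4, 2, 4],
  [2, 0, 6, 3, 7], [0, 4, 6, 6, 4], [3, 3, 6, 4], [2, 5, 4, 7], [0, 5, 1, 7], [0, 4, 1, 4, 5], [1, 7, 6, 2], [0, 0, 2, 2, 5], [0, 6, 4, 3, 3], [1, 6, 7],
  [5, 2, 1, 0], [0, 0, 2, 2, 3], [2, 0, 4, 2, 4], [0, 5, 2, 7, 3], [4, 5, 2, 6, 2], [0, 0, 5, 2, 4], [6, 5, 6, 3], [0, 0, 4, 1, 4], [0, 4, 4, 2], [0, 1, 2, 2],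
  [4, 7, 1], [6, 5, 7, 4], [0, 3, 1, 0, 3], [0, 5, 4, 5], [0, 4, 5, 5, 5], [0, 5, 3, 0, 2], [0, 0, 3], [1, 2, 1, 0], [1, 5, 7, 2], [1, 1, 1, 0],
  [0, 5, 6, 3, 6], [4, 1], [3, 2, 3, 4], [0, 0, 4, 4, 1], [6, 4, 6, 3], [0, 3, 7, 0, 1], [0, 7, 1, 2, 2], [1, 1, 2, 5, 1], [5, 5, 2, 0], [5, 6, 1, 2],
  [3, 6, 0], [0, 2, 1, 0, 6], [2, 1, 0, 5], [0, 2, 0], [0, 3, 2, 4, 6], [0, 5, 2, 0, 1], [6, 7, 1], [0, 4, 3, 3, 3], [2, 6, 3, 3], [0, 4, 0, 0],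
  [0, 3, 6, 2], [0, 5, 0, 6, 4], [1, 4, 3, 3, 1], [3, 4, 3, 3], [1, 3, 5, 0, 0], [0, 0, 6, 4, 7], [7, 4, 2, 4], [3, 5, 0, 0], [1, 5, 4, 0], [0, 6, 6, 4],
  [1, 5, 2], [0, 5, 5, 0, 5], [7, 7], [0, 4, 1, 2, 5], [4, 3, 3, 6], [2, 0, 3, 4, 2], [0, 1, 7, 1, 4], [3, 1, 4, 7], [0, 2, 4, 6], [4, 1, 6, 3],
  [3, 2, 1, 3], [0, 5, 1, 5, 1], [0, 1, 2, 6, 0], [0, 0, 0, 4], [3, 3, 3, 5, 1], [3, 1, 4], [7, 6, 0], [1, 2, 2, 3], [0, 2, 5, 3, 4], [4, 3, 2, 0],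
  [7, 3, 0, 1], [1, 7, 1, 2], [0, 6, 3, 5, 1], [0, 3, 7, 2], [2, 7, 3, 6], [3, 7, 5, 4], [2, 7, 1, 5], [3, 6, 6, 4], [2, 5, 6, 6], [0, 6, 4, 7, 7],
  [5, 2, 7, 0], [1, 1, 7, 7], [0, 3, 3, 4, 4], [7, 7, 5], [2, 4, 3, 5, 3], [5], [0, 1, 2, 0, 6], [2, 5, 3, 6], [4, 5, 2, 3], [4, 7, 6, 3],
  [5, 1, 3, 0], [1, 0, 4, 4], [0, 2, 3, 3, 4], [6, 6, 7, 0], [0, 1, 3, 7], [3, 7, 7, 6], [0, 3, 3, 0], [2, 4, 4], [0, 5, 0, 5], [6, 1, 2, 7],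
  [6, 1, 7, 4], [0, 0, 6, 1], [0, 2], [0, 6, 3, 3, 5], [4, 7, 2, 0], [0, 4, 5, 7], [2, 1, 2, 3], [1, 1, 0, 5, 7], [4, 5, 3, 5], [1, 2, 2, 4, 2],
  [3, 5, 5, 7], [1, 7, 0, 4], [7, 0], [0, 7, 1, 5], [6, 5, 7, 6], [3, 2, 0, 0, 4], [7, 7, 1], [1, 0, 5, 5, 6], [0, 7, 4, 0], [0, 5, 4, 5, 0],
  [4, 2, 5, 4], [2, 5, 5, 6, 7], [2, 0, 0, 1, 6], [3, 2, 3, 6], [2, 3, 2, 5], [7, 1], [1, 3, 4, 3], [4, 4, 2], [4, 0, 4], [0, 6, 0, 2, 0],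
  [3, 1, 2], [0, 4, 6, 6], [2, 3, 7], [1, 0, 3, 7], [5, 5, 7], [0, 6, 0, 2], [0, 2, 7, 7], [0, 6, 6, 6], [1, 2, 7, 0], [5, 0, 2, 3],
  [0, 0, 0, 2, 4], [2, 5, 5, 6], [4, 0, 1, 1], [0, 0, 1, 2, 1], [0, 5, 7, 5], [0, 2, 7, 4], [1, 6, 0, 2, 1], [1, 1, 7, 0], [0, 2, 4, 1, 5], [5, 1, 3],
  [0, 4, 1, 1], [2, 7, 7, 4], [0, 3, 5, 1], [0, 0, 0, 3, 0], [1, 0, 6, 7, 1], [0, 2, 3, 2], [7, 7, 1, 3], [4, 3, 4, 2], [3, 1, 2, 6], [2, 6, 7, 1],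
  [4, 2, 1, 7], [0, 4, 3, 6, 5], [3, 5, 1, 3], [7, 3, 1, 3], [1, 5, 5, 4, 4], [0, 3, 7, 4, 1], [0, 3, 6, 1], [0, 1, 7, 0, 2], [0, 7, 0, 2, 7], [2, 4, 2, 3],
  [5, 2, 3, 0], [4, 4, 7, 1], [1, 7, 2, 4], [0, 6, 4, 7, 1], [4, 2, 6, 0], [1, 0, 0, 0], [3, 2, 6, 0], [0, 0, 1, 2, 3], [1, 5, 1, 1, 0], [5, 1, 5, 2],
  [0, 6, 7, 1, 6], [0, 0, 0], [5, 3, 5, 5], [0, 6, 0, 4, 6], [0, 7, 7, 3, 3], [6, 6, 1, 0], [0, 7, 6, 1], [0, 1, 2, 4, 6], [0, 1, 0, 3, 2], [5, 0, 0, 7],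
  [0, 2, 7, 0, 5], [0, 5, 4, 0, 4], [2, 4, 3, 7, 6], [3, 0, 5, 1], [0, 3, 2, 6, 2], [0, 0, 7, 5, 5], [4, 0, 5, 1], [6, 7, 5, 3], [5, 7, 6, 2], [0, 7, 1],
  [0, 3, 1, 7, 1], [5, 0, 4, 5], [1, 6, 5], [3, 0, 2, 0], [2, 7, 3, 1], [1, 4, 7], [0, 5, 0, 7, 5], [1, 7, 3, 6, 2], [1, 6, 7, 5, 3], [3, 0, 3, 4],
  [4, 2, 2], [0, 1, 5, 1], [7, 2, 0, 7], [1, 0, 6, 4], [2, 0, 3, 5], [5, 5, 2, 1], [3, 7, 2, 2], [5, 5, 7, 4], [2, 1, 7, 4], [0, 1, 0, 3],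
  [2, 3, 2, 1], [0, 0, 1, 3, 7], [0, 5, 6, 1, 6], [5, 2, 4, 5], [0, 2, 0, 4], [7, 2, 0], [0, 2, 5, 2, 5], [4, 5, 7, 6], [5, 6, 1, 7], [5, 5, 3, 7],
  [3, 5, 7, 6], [0, 3, 0, 0, 6], [5, 7, 4, 2], [5, 6, 2, 1], [3, 2, 2], [7, 0, 5], [0, 6, 2, 3], [1, 7, 5, 5, 5], [3, 1, 7, 4], [0, 5, 6],
  [0, 4, 5, 1, 0], [0, 2, 4, 1, 2], [1, 5, 3, 1], [0, 0, 0, 0, 7], [6, 7, 6, 7], [6, 4, 6, 1], [0, 1, 4], [7, 2, 7, 3], [4, 0, 6, 1, 4], [0, 1, 3, 0],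
  [0, 7, 4, 5, 2], [6, 0, 7, 1], [6, 6, 7, 1], [4, 3, 4, 3], [0, 2, 5, 3], [0, 5, 7, 1], [0, 3, 6, 3, 2], [3, 0, 3, 2], [4, 0, 3, 2], [3, 3, 2, 7],
  [0, 1, 7, 2, 3], [3, 3, 6, 6], [5, 7, 0, 6], [4, 4, 5, 2], [7, 0, 3, 7], [1, 6, 2, 1], [1, 0, 7], [3, 7, 7, 1], [1, 4, 3, 3, 2], [0, 4, 2, 4, 5],
  [2, 4, 0, 3], [1, 2, 2, 0, 2], [4, 0, 1, 6, 1], [3, 3, 7, 3], [0, 7, 2, 7], [2, 7, 4, 3], [0, 2, 3, 7], [0, 2, 3, 3], [4, 5, 1, 4], [1, 4, 5],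
  [1, 0, 1, 1], [0, 1, 5, 3], [0, 5, 1, 1], [2, 5, 4, 1], [6, 6, 5], [4, 3, 7], [5, 4, 0, 0], [0, 6, 1, 0, 5], [3, 3, 0, 0], [1, 1, 6, 1, 7],
  [0, 0, 2, 0], [1, 7, 2, 6], [1, 6, 4, 7], [7, 6, 2], [1, 2, 3, 2, 3], [0, 4, 4, 7, 3], [1, 1, 5, 3], [7, 3, 4, 0], [6, 1, 1, 1], [3, 5, 4, 0],
  [0, 3, 0, 3, 3], [0, 3, 0, 3, 1], [4, 3, 4, 2, 7], [5, 2, 4, 7], [1, 2, 3, 2, 1], [7, 7, 1, 7], [2, 6, 6, 5], [0, 3, 2, 4, 7], [2, 4, 3, 1], [3, 7, 5, 2],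
  [2, 6, 6, 6], [0, 1, 3, 7, 1], [2, 4, 3, 5], [0, 3, 2, 4, 0], [1, 4, 4], [4, 4, 4, 6], [6, 0, 5, 5], [0, 0, 1, 6, 3], [7, 1, 7], [7, 0, 1],
  [0, 4, 4, 6, 3], [0, 0, 0, 3, 3], [4, 4, 7, 4], [0, 2, 1], [0, 3, 6, 4], [2, 0, 3, 3], [0, 5, 2, 2, 0], [6, 0, 6, 3], [5, 1, 4, 6], [2, 2, 6, 2],
  [2, 7, 3, 6, 5], [4, 0, 2, 6], [0, 1, 3, 6], [3, 5, 4, 6], [0, 0, 1, 3], [0, 7, 6, 5], [0, 5, 6, 7, 4], [0, 1, 2, 5, 7], [3, 6, 6, 2], [1, 6, 0, 3],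
  [6, 0, 3], [6, 4, 2, 1], [0, 1, 7, 2], [4, 2, 0], [7, 2, 2, 5], [5, 6, 7], [3, 2, 0], [0, 6, 6, 4, 3], [6, 4, 1, 0], [1, 3, 2],
  [0, 1, 0, 2, 2], [1, 4, 1], [5, 2, 0, 0], [2, 5, 2, 2], [2, 0, 1, 2, 3], [2, 0, 2, 6], [0, 2, 3, 3, 2], [0, 5, 5, 3], [0, 6, 5, 0], [0, 5, 3, 4, 1],
  [0, 0, 2, 4, 1], [1, 6, 3, 2, 1], [2, 2, 5, 7], [0, 7, 0, 7], [0, 0, 3, 4, 0], [2, 0, 6, 5], [0, 0, 1, 6], [0, 0, 0, 3], [7, 0, 5, 2], [2, 4, 2, 2],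
  [2, 1, 4, 7], [0, 4, 4, 6], [6, 0, 6], [0, 2, 5, 2], [6, 3, 2], [0, 5, 3, 4, 6], [1, 6, 0, 7, 4], [6, 0, 1, 0], [3, 3, 3, 1], [6, 7, 0, 7],
  [0, 0, 0, 0, 3], [2, 0, 1, 5], [4, 7, 5, 7], [0, 0, 0, 0, 1], [7, 6, 5, 0], [0, 0, 6, 5, 6], [1, 3, 6, 2], [2, 0, 0, 3], [0, 4, 0, 3, 6], [7, 0, 3, 1],
  [0, 0, 2, 2, 2], [1, 0, 1], [1, 4, 3, 4], [2, 0, 2, 5], [1, 4, 3, 0], [6, 4, 3], [1, 6, 4, 0], [4, 0, 1, 6], [0, 5, 2, 7, 2], [0, 6, 1, 5, 1],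
  [0, 1, 4, 6, 3], [2, 5, 2, 0], [4, 5, 3, 1], [1, 3, 0, 7, 4], [1, 7, 1, 3, 3], [0, 2, 3, 3, 0], [0, 2, 1, 1, 6], [1, 6, 0, 4], [0, 6, 7, 2, 6], [0, 4, 6, 4, 3],
  [6, 3, 3], [1, 6, 3, 3], [0, 4, 2, 2], [1, 2, 7], [0, 6, 5, 2], [2, 7, 2, 0], [7, 4, 3, 7], [0, 3, 0, 4], [5, 4, 6, 6], [0, 0, 7, 2, 0],
  [0, 2, 6, 7], [0, 6, 6, 1], [1, 1, 0, 7], [0, 6, 3, 3, 6], [0, 4, 1, 3, 1], [3, 0, 5, 3], [3, 3, 5, 4], [0, 2, 0, 5], [7, 3, 7, 7], [1, 6, 5, 6],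
  [2, 0, 1, 2, 6], [0, 7, 6, 3], [4, 0, 5, 3], [6, 5, 6], [3, 7, 0, 0], [2, 5, 2, 7], [1, 6, 7, 2], [4, 0, 6], [2, 3, 5], [5, 1, 2, 6],
  [3, 1, 0], [0, 2, 7, 5], [3, 6, 7], [4, 1, 0], [0, 2, 7], [4, 4, 0], [7, 2, 2, 4], [7, 5, 6], [0, 3, 2, 6], [5, 5, 7, 2],
  [3, 6], [1, 7, 6, 1], [0, 7, 2], [4, 7, 3, 7], [0, 2, 1, 6, 2], [0, 4, 4, 1], [5, 0, 5, 5], [1, 0, 7, 2], [3, 5, 4, 1], [0, 0, 3, 2, 7],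
  [0, 3, 6, 6, 7], [2, 2, 1], [0, 3, 3], [5, 6, 7, 3], [7, 5, 7], [3, 0, 6, 5], [4, 7, 6, 1], [1, 2, 2, 1], [1, 3, 0, 2], [2, 0, 5, 0],
  [1, 2, 4, 1, 1], [0, 1, 0, 6, 6], [0, 3, 6, 2, 6], [3, 1, 2, 4, 1], [1, 4, 2, 2], [5, 2, 1], [1, 2, 3, 2, 0], [1, 0, 6, 5, 1], [6, 3, 7, 2], [0, 0, 2, 1, 7],
  [0, 4, 0, 1, 6], [1, 2, 6, 0], [3, 1, 6, 1], [2, 2, 1, 7], [7, 3, 0, 5], [2, 5, 1, 0], [6, 4, 0, 0], [1, 2, 5, 6, 1], [4, 4, 5, 7], [3, 1, 5, 7],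
  [1, 3, 7, 5], [4, 1, 5, 0], [6, 4, 1, 7], [2, 5, 6, 7], [3, 1, 5], [3, 4, 7, 0], [6, 1, 6, 6], [7, 7, 0], [5, 0], [4, 3, 1, 5],
  [0, 5, 1, 2, 2], [5, 1, 3, 3], [5, 6, 4, 6], [7, 6, 4, 7], [1, 7, 3, 0], [2, 5, 6, 6, 0], [7, 7, 5, 0], [1, 2, 0, 4], [1, 0, 3, 0, 2], [3, 4, 7, 3],
  [0, 6, 7, 7], [2, 2, 2, 7, 7], [0, 0, 7, 5], [2, 1, 5, 4], [7, 5, 6, 0], [3, 6, 7, 0], [0, 1, 5, 7, 4], [0, 2, 7, 0], [3, 5, 5, 5], [3, 1, 4, 6],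
  [4, 4, 0, 0], [3, 4, 5, 0], [2, 2, 6, 4], [1, 4, 7, 1, 1], [2, 0, 0], [0, 6, 7, 1], [0, 0, 2, 6, 4], [1, 1, 7, 4, 4], [6, 4, 6, 0], [7, 3, 7, 6],
  [3, 3, 4, 5], [1, 4, 1, 5, 3], [0, 5, 6, 7], [0, 3, 5, 0], [2, 1, 6], [2, 3, 2, 6], [1, 0, 1, 6], [0, 2, 3, 1, 1], [2, 4, 1], [0, 3, 1, 0, 2],
  [3, 5, 4, 7], [0, 4, 1, 0], [0, 5, 3], [2, 6, 7, 0], [2, 1, 2, 7, 3], [3, 3, 5, 0], [2, 1, 1, 2], [0, 4, 0, 4, 3], [2, 3, 2, 0], [0, 0, 5, 3, 5],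
  [1, 5, 3, 3, 3], [0, 1, 5, 5, 2], [1, 2, 7, 7, 1], [3, 0, 3], [1, 3, 0, 3], [1, 3, 1, 7], [0, 4, 6, 4, 2], [3, 3, 5, 2], [0, 0, 2, 1], [2, 6, 5, 3],
  [2, 0, 4, 3], [2, 4, 0], [5, 5, 4, 7], [0, 4, 0, 3], [2, 3, 2, 2], [2, 1, 6, 1], [0, 2, 5, 6], [3, 3, 6, 0], [0, 3, 5, 0, 1], [5, 4, 3, 0],
  [0, 2, 2, 4, 1], [3, 4, 6, 7], [0, 3, 2, 7], [1, 7, 1, 6], [7, 7, 4, 2], [3, 4, 2, 7], [7, 6, 2, 5], [7, 1, 6], [5, 2, 1, 4], [1, 5, 1, 3, 5],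
  [5, 1, 3, 5], [5, 6, 7, 0], [7, 7, 3, 6], [0, 0, 4, 7, 6], [4, 4, 0, 1], [5, 3, 6], [2, 3, 4, 1], [6, 4], [3, 2, 0, 0], [6, 2, 7],
  [1, 4, 6, 0], [4, 2, 0, 0], [0, 1, 6, 3], [5, 0, 5], [3, 4, 2, 3], [1, 1, 0, 1], [1, 2, 0, 1], [1, 1, 6, 6], [2, 1, 3, 2], [1, 1, 0, 6, 6],
  [0, 1, 4, 3], [1, 5, 1, 5, 7], [2, 1, 6, 4], [3, 5, 1], [2, 0, 5, 6], [2, 2, 5, 1], [2, 5, 5, 0], [7, 0, 4, 0], [3, 6, 5, 1], [0, 3, 3, 3],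
  [1, 4, 2, 5], [4, 2, 5], [4, 0, 3, 5], [0, 7, 2, 6, 6], [1, 3, 5, 7], [1, 2], [6, 7, 4, 5], [0, 2, 4, 0, 7], [1, 4, 2, 4, 6], [6, 7],
  [4, 7, 1, 7, 1], [2, 7, 5, 1], [3, 6, 6, 0], [0, 5, 2, 0], [4, 4, 1, 7], [5, 1, 1, 6], [0, 0, 4, 4], [7, 2, 6], [0, 3, 7, 0], [5, 2, 5, 7],
  [5, 5, 3, 3], [1, 7, 0, 1], [1, 3, 7, 2, 3], [0, 1, 4, 4, 1], [3, 0, 3, 1, 2], [1, 7, 6, 7], [2, 3, 3, 3], [1, 3, 3, 4], [7, 7, 1, 6], [5, 4, 4],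
  [6, 2, 0, 1], [1, 0, 0, 4], [0, 5, 1, 7, 0], [0, 4, 3, 5], [1, 2, 6, 5], [1, 0, 4, 0], [0, 2, 2, 3, 3], [2, 6, 5], [0, 0, 4, 1, 5], [4, 4, 5],
  [6, 7, 1, 0], [2, 0, 4], [7, 0, 2], [0, 1, 5, 3, 6], [0, 4, 0, 1], [3, 4, 5, 1], [4, 4, 5, 1], [2, 6, 5, 1], [1, 0, 0, 4, 1], [0, 0, 0, 7],
  [2, 4, 4, 7], [6, 6, 2, 2], [0, 5, 2, 2], [7, 4, 7, 3], [7, 1, 7, 6], [0, 0, 4], [0, 5, 5, 4], [4, 7, 5, 0], [1, 4, 5, 1], [4, 1, 7, 4],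
  [3, 2, 4, 2], [3, 3, 0, 3], [0, 6, 3, 1], [7, 4, 5, 2], [0, 7, 2, 4], [4, 5, 1], [2, 6, 0, 7], [6, 6, 5, 6], [7, 4, 4, 1], [0, 2, 2, 6, 5],
  [0, 7, 2, 6], [6, 0, 5, 6], [0, 5, 5, 6], [2, 0, 0, 1], [2, 4, 6, 7], [0, 4, 5, 5], [0, 0, 6], [4, 1, 7, 6], [0, 4, 2, 2, 5], [3, 0, 6],
  [0, 0, 4, 1, 2], [0, 5, 6, 5], [0, 7, 1, 4, 2], [3, 2, 7, 4, 3], [0, 6, 2, 5, 3], [3, 0, 0], [1, 5, 6, 0], [1, 6, 2, 4, 7], [1, 3, 0, 6], [5, 4, 1, 7],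
  [2, 4, 1, 2], [1, 3, 6, 4], [0, 5, 5, 5, 7], [0, 5, 0, 6, 3], [0, 4, 3, 1], [0, 3, 6, 2, 3], [3, 2, 7, 2], [0, 4, 4, 7, 6], [1, 7, 1, 5], [0, 3, 3, 5, 0],
  [1, 3, 2, 7, 0], [0, 5, 3, 3, 1], [3, 5, 7, 3, 1], [7, 3, 2], [2, 5, 7, 7], [0, 1, 7, 3, 5], [1, 0, 0, 0, 5], [5, 2, 0], [0, 2, 4, 4, 5], [5, 3, 0, 3, 7],
  [1, 2, 7, 2, 5], [6, 3, 6], [0, 3, 5, 6, 4], [0, 7, 0, 3, 3], [3, 3, 1, 7], [0, 3, 0, 4, 4], [0, 2, 7, 1, 0], [3, 2, 0, 3], [0, 3, 4, 0, 0], [3, 4, 5, 2],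
  [0, 3, 5, 2], [7, 2, 3, 6], [1, 3, 1, 2, 1], [4, 1, 4, 1], [5, 2, 1, 7], [7, 7, 2], [1, 0, 3, 5, 2], [4, 3, 3, 3], [3, 0, 5, 7], [5, 7, 3, 6],
  [3, 3, 3, 3], [0, 5, 1, 3], [0, 6, 3, 5], [2, 1, 5, 2], [7, 3, 0], [5, 2, 6, 3], [3, 3, 4, 2], [2, 3, 6, 4, 6], [5, 5, 5, 2], [4, 2, 1, 0],
  [1, 2, 7, 6, 2], [2, 1, 7, 0, 2], [2, 5, 2, 5], [3, 3, 7], [0, 2, 5, 6, 4], [0, 0, 0, 1, 7], [0, 4, 3, 6, 6], [0, 0, 2, 4, 6], [6, 6, 4, 7], [0, 6, 5, 0, 1],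
  [7, 1, 3], [0, 2, 0, 3, 4], [3, 5, 6], [6, 5, 3], [6, 6, 0], [0, 3, 6, 1, 0], [1, 7, 1, 6, 0], [0, 7, 2, 7, 0], [1, 7, 3, 5, 1], [5, 7, 5, 1],
  [0, 3, 0, 7, 6], [0, 2, 4, 1, 1], [0, 1, 5, 4, 4], [2, 1], [0, 0, 3, 0, 2], [6, 4, 5], [1, 2, 1], [7, 1, 6, 0], [1, 0, 7, 7, 0], [1, 6, 2, 6],
  [1, 1, 2, 1], [5, 3, 6, 5], [0, 7, 7, 0], [0, 1, 0, 2, 0], [4, 1, 0, 2], [5, 0, 6, 6], [1, 6, 5, 5], [4, 7, 3, 6], [4, 0, 7], [6, 5, 5],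
  [2, 4, 0, 2], [3, 6, 0, 6], [3, 0, 1, 3, 5], [2, 2, 0, 6], [0, 7, 4, 2, 6], [5, 0, 1, 6], [0, 5, 4, 1], [1, 5, 5, 0], [1, 5, 1, 1], [0, 7, 1, 3],
  [0, 0], [2, 3, 3, 2], [0, 0, 1, 4, 4], [3, 5, 5, 1, 2], [0, 6, 4, 0, 0], [0, 5, 2, 4, 6], [3, 2, 6], [2, 0, 6, 3], [2], [3, 5, 0, 2],
  [0, 3, 4, 7, 3], [4, 5, 7, 4], [1, 3, 0, 4, 5], [0, 4, 0, 2], [7, 3, 2, 7], [5, 2, 0, 7], [4, 7, 6, 5], [0, 4, 5, 6, 1], [1, 0, 7, 3, 0], [0, 0, 5, 0],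
  [2, 5, 5, 1], [1, 4, 2, 4], [2, 3, 0, 4], [4, 0, 3, 4], [4, 2, 4], [6, 7, 4, 4], [0, 0, 7, 6, 6], [5, 3, 2, 7], [0, 0, 6, 0], [2, 6, 0],
  [6, 6, 6, 6], [0, 6, 7, 5], [0, 5, 6, 6], [2, 2, 6, 5], [3, 4, 0, 1], [0, 4, 0, 7], [7, 4, 5], [0, 1, 5, 2], [5, 1, 2], [1, 7, 4, 5],
  [1, 6, 5, 0, 5], [0, 4, 1, 6, 5], [0, 4, 7, 0, 7], [2, 0, 1, 3], [5, 6, 0, 0], [2, 7, 6, 7], [5, 4, 0, 4], [6, 2, 5, 4], [5, 0, 7, 5], [2, 3, 4, 6],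
  [1, 5, 6, 0, 5], [6, 2, 2, 3], [3, 0, 2], [5, 3, 0, 0], [0, 6, 5, 6], [1, 5, 5, 7], [0, 6, 6, 2, 5], [3, 7, 2, 0], [7, 6, 1], [5, 3, 0],
  [1, 6, 5, 3], [0, 4, 1, 2], [3, 4, 6, 4], [1, 1, 4, 0], [7, 7, 3, 0], [0, 4, 6, 5], [0, 3, 1, 6], [0, 0, 2, 2], [0, 4, 2, 4, 4], [1, 6, 1, 0],
  [0, 4, 3, 2], [0, 7, 5, 0], [4, 1, 1, 5], [0, 5, 0, 1, 2], [6, 0, 5, 3], [0, 0, 6, 4, 3], [1, 5, 7, 6, 5], [6, 3, 1], [2, 6, 4, 3], [2, 5, 0],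
  [0, 1, 0, 5, 1], [1, 2, 3, 2], [6, 1, 1], [0, 3, 0, 3], [6, 5, 4, 3], [2, 6, 7, 2], [0, 0, 1, 0, 4], [0, 4, 4, 7], [1, 0, 4, 4, 7], [7, 6, 0, 0],
  [0, 6, 2, 7, 6], [3, 0, 2, 1], [1, 1, 5], [3, 4, 2], [0, 1, 6, 0], [1, 1, 3, 6], [4, 1, 7], [0, 3, 4, 5], [1, 3, 4, 2], [0, 3, 2],
  [3, 4, 6], [2, 0, 7, 6], [6, 7, 6, 0], [1, 2, 3, 6], [0, 2, 1, 6], [4, 3, 7, 6], [0, 2, 4, 4], [2, 7, 4, 6], [0, 2, 3, 6], [0, 6, 2, 1],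
  [0, 0, 6, 6, 3], [0, 5, 6, 7, 5], [3, 3, 7, 6], [3, 3, 4, 5, 5], [0, 6, 7, 1, 5], [2, 4, 0, 6], [7, 4, 4, 5], [4, 2, 4, 6], [1, 2, 5, 3], [0, 1, 3, 3, 3],
  [0, 6, 6, 0], [2, 2, 1, 1], [2, 0, 0, 6], [0, 3, 3, 1], [7, 5, 7, 1], [1, 0, 6, 6, 0], [0, 2, 2, 3], [1, 3, 0, 2, 1], [4, 5, 6, 5], [1, 1, 6, 2, 3],
  [2, 3, 7, 7], [0, 6, 2, 6], [0, 2, 4, 3, 6], [0, 1, 0, 5, 7], [1, 6, 2, 3], [0, 2, 2, 7, 2], [0, 1, 3, 0, 3], [0, 1, 0, 6, 4], [0, 6, 5, 7, 3], [0, 5, 0, 2, 6],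
  [1, 2, 5, 0], [1, 0, 6, 4, 2], [0, 3, 3, 3, 2], [1, 1, 6, 7], [2, 2, 3, 6], [7, 5, 1, 0], [0, 1, 6, 5], [1, 2, 4, 0], [2, 0, 5, 7], [4, 3, 4, 4],
  [0, 6, 4, 2], [4, 7, 5, 1], [1, 6, 1, 5], [7, 3, 7], [4, 4, 6, 7], [1, 2, 4, 7], [0, 6, 7, 6, 4], [0, 3, 5, 1, 3], [6, 6, 5, 3], [2, 0, 7, 0, 6],
  [6, 1, 1, 6], [1, 2, 4, 7, 1], [2, 5, 2], [1, 1, 4, 7], [1, 0, 5, 2], [4, 4, 3, 0], [6, 5, 5, 2], [4, 2, 6, 1], [2, 2, 4, 0], [1, 4, 2, 7],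
  [0, 1, 3, 5, 4], [0, 7, 1, 4, 5], [0, 4, 1, 7, 0], [1, 4, 3, 3], [2, 1, 4, 5], [4, 1, 3, 0], [3, 1, 0, 4], [2, 6, 3, 0], [6, 5, 3, 6], [1, 2, 1, 6],
  [1, 1, 0, 1, 6], [3, 3, 1], [5, 3, 0, 3], [0, 5, 2, 6, 3], [0, 2, 0, 6, 2], [5, 1, 2, 2], [7, 1, 4], [6, 6, 4, 1], [7, 0, 5, 6], [3, 6, 5, 5],
  [5, 3, 0, 7], [2, 1, 6, 6], [3, 5, 2, 5], [0, 6, 7], [2, 2, 2, 3], [2, 2, 2, 7], [5, 5, 6, 6], [3, 0, 5, 6], [6, 1, 3], [3, 6, 2, 3],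
  [6, 1, 1, 4], [1, 2, 2, 5, 1], [2, 0, 2, 0, 1], [2, 1, 6, 5], [0, 5, 0, 1, 4], [2, 4, 1, 5], [0, 6, 2, 0], [3, 6, 5, 4], [2, 0, 2], [0, 2, 0, 5, 6],
  [0, 1, 6, 6], [6, 5, 4, 0], [0, 7, 0, 2], [7, 4, 5, 0], [4, 3, 1, 2], [3, 0, 4, 4], [0, 5, 6, 2], [6, 6, 2, 0], [4, 2, 7], [3, 3, 1, 2],
  [5, 4, 5], [5, 3, 2, 3], [2, 2, 6, 6], [6, 4, 2], [1, 5, 4, 5], [5, 7, 4], [2, 3, 7, 2], [7, 1, 2], [0, 6, 0, 2, 2], [4, 5, 1, 6],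
  [2, 4, 1, 3], [1, 5, 7, 4], [1, 5, 3, 3], [0, 1, 7, 4], [1, 3, 3, 6], [2, 2, 4, 1], [1, 3], [2, 7, 7, 2], [0, 3, 4, 7, 4], [2, 2, 7, 1],
  [0, 1, 0, 2], [5, 5, 3, 0], [0, 6, 2, 6, 4], [1, 5, 2, 7], [1, 0, 3, 3, 0], [1, 4, 0, 1], [0, 2, 7, 3, 0], [3, 1, 7, 1], [3, 2, 7, 0], [6, 2, 2],
  [2, 4, 2, 2, 6], [0, 0, 3, 0, 7], [6, 3, 7, 4], [0, 2, 5, 2, 6], [0, 5, 6, 1], [5, 0, 0, 0], [2, 0, 3, 6], [2, 5, 1, 4], [3, 4, 7, 4], [6, 5, 7],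
  [6, 4, 0, 4], [0, 3, 1, 5], [0, 1, 4, 1], [5, 4, 7, 2], [2, 4, 0, 0], [3, 1, 5, 3], [5, 6, 4, 7], [2, 6, 5, 0], [5, 6, 1], [7, 0, 4, 4],
  [1, 3, 1, 7, 5], [6, 4, 1, 3], [1, 4, 0, 5], [7, 5, 4, 1], [1, 3, 2, 2, 4], [3, 2, 5, 2], [0, 1, 0, 5], [1, 1, 3, 2], [0, 7, 3, 4], [3, 5, 2, 1, 6],
  [2, 0, 7, 2], [4, 4, 6, 2], [0, 7, 0, 1, 1], [1, 1, 4, 2], [2, 2, 2, 5], [0, 6, 5], [2, 5, 0, 5, 1], [1, 7, 3, 2], [1, 2, 4, 2], [0, 4, 1, 0, 7],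
  [5, 0, 4], [1, 2, 2, 4, 1], [0, 1, 2, 6, 2], [0, 0, 3, 1, 2], [4, 1, 1, 2], [0, 2, 2, 0, 6], [0, 1, 2, 4, 2], [0, 5, 2, 6, 1], [1, 3, 0, 4, 4], [2, 1, 1, 4, 6],
  [0], [4, 7, 6, 4], [2, 2, 4], [1, 7, 5, 5], [6, 4, 7], [3, 4, 6, 2], [2, 0, 1, 1], [3, 5, 6, 6], [1, 6, 2, 5], [6, 0, 0, 6],
  [0, 5, 0, 6], [1, 3, 0, 7], [5, 5, 6, 3], [0, 1, 0, 7, 1], [2, 3, 1], [2, 4, 7, 7], [4, 0, 7, 7, 5], [2, 2, 6, 1], [2, 3, 2, 4], [1, 2, 3, 1],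
  [6, 0, 6, 2], [2, 4, 1, 6], [5, 6, 0], [3, 0, 5, 5], [1, 0, 7, 3], [2, 3, 4], [0, 3, 4, 2, 1], [0, 4, 0, 4, 7], [0, 0, 4, 3, 3], [6, 7, 3],
  [5, 2, 7, 1], [3, 3, 6], [6, 6, 4, 6], [0, 0, 6, 5, 5], [2, 4], [4, 5, 2, 6], [2, 6, 5, 5], [2, 4, 1, 4, 0], [0, 3, 6], [0, 7, 1, 2],
  [1, 5, 0, 7, 7], [0, 2, 3, 1], [5, 1, 6], [1, 0, 7, 6, 6], [7, 2, 4], [0, 3, 2, 0, 7], [6, 6, 2, 7], [5, 7, 7, 3], [0, 4, 4, 4], [1, 7, 0, 0, 4],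
  [0, 0, 1, 3, 3], [2, 1, 7, 6, 5], [5, 6, 1, 3], [0, 1, 3, 0, 2], [4, 5, 6, 7], [4, 2, 3, 2], [1, 4, 2, 3, 0], [2, 7, 6, 2], [2, 1, 2, 2], [4, 5, 3, 6],
  [2, 1, 2, 4], [0, 4, 2, 6], [1, 6, 3, 3, 3], [3, 6, 1], [0, 2, 4, 4, 7], [0, 7, 2, 1], [3, 6, 5, 6], [0, 1, 3, 6, 0], [3, 5, 2, 6], [3, 3, 0, 4],
  [0, 2, 0, 4, 5], [2, 7, 3], [6, 6, 6], [0, 0, 5, 2, 1], [6, 6, 5, 0], [3, 5, 7], [0, 0, 2, 4], [0, 4, 7, 2, 7], [7, 6, 3, 3], [5, 2, 2, 1],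
  [4, 1, 6, 7], [2, 6, 0, 6], [0, 6, 0, 6, 7], [3, 2, 5, 1], [3, 0, 1, 5], [6, 1, 3, 0], [3, 1, 2, 7], [4, 4, 4, 5], [0, 6, 7, 0], [4, 1, 2, 6],
  [2, 5, 3], [0, 7, 7, 6], [1, 7, 5, 6], [0, 3, 0], [6, 2, 0, 3], [0, 6, 0, 1, 7], [2, 1, 2, 3, 3], [1, 3, 6, 3], [1, 0, 0, 6], [0, 2, 0, 4, 1],
  [5, 1, 1, 4], [4, 2, 2, 1], [0, 1, 3], [6, 4, 5, 6], [0, 2, 1, 4], [0, 7, 7, 0, 6], [0, 6, 7, 5, 0], [7, 3, 0, 2], [1, 5, 4, 4], [1, 7, 3, 4],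
  [4, 2, 2, 5], [7, 7, 4], [0, 5, 7], [7, 4, 7, 2], [2, 1, 5, 6], [4, 3, 2, 2], [3, 2, 4, 7], [4, 1, 7, 3], [1, 5, 5, 0, 1], [0, 3, 2, 3],
  [5, 5], [0, 0, 1], [2, 5, 6], [3, 4, 6, 3], [7, 2, 3, 2], [0, 5, 0, 6, 0], [0, 3, 4, 3], [5, 3, 5], [0, 1, 4, 1, 0], [7, 4, 2, 0],
  [3, 6, 4], [1, 0, 3, 6, 3], [0, 3, 4, 1], [5, 4, 3, 4], [3, 3, 3, 4], [7, 3, 6, 6], [6, 3, 5, 2], [7, 5, 1, 7], [4, 3, 2, 6], [0, 6, 3, 7, 7],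
  [4, 7, 0, 1], [4, 5, 5, 4], [5, 1, 0, 7], [0, 3, 0, 7], [0, 3, 3, 4, 7], [0, 0, 3, 6, 0], [0, 0, 5, 1, 5], [1, 4, 7, 5], [1, 3, 0], [2, 2, 0, 7],
  [0, 1, 4, 3, 6], [4], [1, 1, 6, 6, 6], [3, 5, 1, 6], [1, 1, 1, 4], [0, 6, 4, 4], [1, 4], [1, 3, 3, 1], [6, 5, 2], [1, 7, 6, 2, 3],
  [2, 4, 0, 2, 5], [1, 5, 2, 4], [1, 2, 6, 2, 2], [0, 4, 4, 2, 7], [0, 1, 7, 3, 1], [0, 5, 3, 0, 5], [0, 3, 2, 0, 1], [5, 7, 4, 7], [7, 1, 2, 7], [0, 4, 6],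
  [0, 5, 5, 4, 4], [4, 3], [0, 4, 0, 5], [0, 0, 2, 4, 0], [6, 6, 1, 4], [0, 6, 1, 0, 7], [6, 6, 7], [5, 0, 7, 4], [6, 2, 4, 2], [0, 4, 1, 4, 0],
  [7, 0, 6, 6], [0, 5, 0, 7], [0, 5, 1, 4], [3, 1, 5, 2], [6, 4, 5, 3], [0, 1, 7, 7], [0, 7, 5, 6], [0, 6, 2, 1, 1], [5, 7, 1, 2], [0, 4, 2, 4, 2],
  [5, 4, 1, 6], [0, 0, 7, 6, 4], [5, 3, 2], [6, 6, 6, 4], [4, 7, 4, 6], [0, 2, 0, 6, 1], [5, 6], [5, 4, 2, 2], [1, 3, 6], [5, 1, 6, 4],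
  [7, 0, 3, 2], [1, 1, 6, 0], [4, 3, 1, 1], [1, 6, 7, 7], [0, 3, 0, 0, 4], [3, 1, 1, 0], [0, 6, 5, 0, 2], [4, 5, 3, 3], [6, 7, 5, 5], [0, 4, 5, 4, 5],
  [0, 3, 0, 1], [0, 2, 0, 2, 2], [0, 7, 6, 6], [0, 3, 7, 6], [1, 3, 0, 6, 4], [3, 4, 7, 6], [5, 3, 2, 2], [2, 7], [1, 1, 2, 7], [0, 1, 4, 6, 0],
  [1, 6, 7, 5, 0], [1, 6, 2, 1, 4], [5, 3, 2, 6], [3], [6, 7, 0], [7, 0, 3, 6], [0, 4, 1, 7], [7, 2, 6, 0], [0, 0, 3, 2, 5], [0, 5, 2, 6],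
  [2, 0, 2, 2], [3, 7, 7, 7], [3, 7, 7, 5], [0, 2, 3, 2, 7], [0, 5, 6, 2, 1], [2, 4, 1, 5, 2], [0, 0, 6, 3], [7, 3, 7, 0], [1, 6, 0, 2, 3], [1, 0, 5, 2, 0],
  [4, 3, 6], [1, 7, 5, 4], [0, 5, 5, 6, 1], [2, 3, 7, 3], [6, 7, 2, 4], [4, 4, 7], [0, 6, 0, 4], [0, 4, 5, 1, 3], [0, 2, 0, 6, 3], [7, 1, 1, 6],
  [3, 1, 7], [4, 2, 7, 0], [4, 4, 4], [1, 3, 0, 2, 4], [2, 2, 2, 2], [1, 1, 3], [0, 5, 4, 6], [6, 4, 5, 0], [6, 5, 7, 3], [1, 5, 2, 5],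
  [0, 4, 1, 2, 2], [0, 6, 6, 1, 7], [1, 5, 3, 6], [1, 0, 1, 2], [1, 7, 6, 5], [1, 6, 2, 4], [5, 1, 5, 7], [4, 3, 0, 2], [6, 4, 3, 2], [1, 7, 5, 3],
  [7, 1, 1, 5], [0, 7, 7, 3], [7, 4, 0, 3], [2, 5, 1, 6, 4], [1, 6, 3, 0, 5], [4, 1, 2, 3], [1, 5, 7, 3, 6], [0, 3, 7, 4], [0, 5, 2, 4], [6, 0, 1, 6],
  [0, 3, 4, 7, 2], [0, 2, 7, 7, 6], [2, 0, 6, 3, 6], [3, 1, 1, 5], [7, 4, 0, 5], [1, 0, 1, 3], [1, 0, 5, 1, 1], [2, 1, 3], [6, 2, 6, 0], [3, 0, 1, 0],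
  [6, 2, 5, 7], [3, 0, 7], [2, 1, 3, 2, 4], [1, 3, 3, 5], [3, 5, 0, 7], [1, 0, 6, 1, 1], [1, 5, 6, 1], [1, 5, 4, 7], [0, 6, 0, 1, 2], [1, 7, 6, 2, 7],
  [0, 4, 5, 6], [5, 2, 0, 4], [1, 5, 5], [2, 5, 0, 2], [0, 1, 0, 0], [4, 2, 1], [2, 5, 2, 6], [3, 2, 4], [6, 7, 4, 1], [2, 3, 6, 6],
  [2, 5, 4, 4], [0, 1, 6, 2, 6], [6, 4, 1, 2], [5, 7, 4, 5], [1, 1, 4, 7, 6], [2, 3, 6, 3], [3, 5, 5, 6], [0, 3, 1, 0], [5, 6, 7, 7], [1, 6, 0, 1],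
  [4, 1, 5, 6], [0, 6, 0, 3], [1, 6, 3, 2], [4, 2, 0, 7], [1, 3, 2, 7], [0, 0, 7, 2, 6], [0, 2, 0, 7, 7], [7, 6, 5], [0, 0, 5, 2, 5], [6, 4, 0, 5],
  [2, 5, 0, 6], [0, 0, 7, 4, 1], [5, 4, 4, 6], [0, 5, 7, 6], [3, 1, 6, 5, 0], [3, 3, 1, 3], [1, 7, 6, 0], [7, 1, 4, 3], [0, 5, 3, 4], [3, 4, 1],
  [1, 2, 6, 1], [0, 1, 3, 3, 5], [0, 3, 5, 4], [2, 6, 7, 4], [6, 3, 2, 5], [6, 0, 3, 2], [0, 4, 7, 2], [2, 7, 7, 3], [0, 4, 1, 4], [1, 2, 5, 5],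
  [1, 0, 3, 0, 7], [0, 5, 4, 0, 1], [2, 5, 5, 2], [7, 0, 4], [0, 1, 6, 6, 6], [0, 2, 4], [2, 5, 5], [5, 7, 3], [7, 7, 7, 3], [0, 1, 0, 4],
  [5, 7, 1, 3], [0, 5, 3, 3, 5], [6, 2, 3, 3], [2, 6, 0, 0], [4, 5, 5, 3], [4, 2, 0, 4], [6, 2, 0], [0, 1], [5, 5, 1], [1, 3, 2, 4],
  [4, 3, 6, 1], [0, 5, 2, 3, 4], [1, 4, 6, 4], [4, 0, 3, 0], [0, 5, 0, 3, 6], [0, 3, 0, 1, 4], [1, 4, 2, 0], [0, 1, 3, 6, 2], [0, 3, 2, 3, 0], [1, 2, 3, 0, 0],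
  [7, 5, 7, 2], [1, 5, 0, 6], [4, 2], [4, 0, 6, 1], [0, 2, 7, 1], [0, 2, 7, 5, 1], [3, 1, 0, 1], [2, 0, 5, 4], [0, 2, 6, 6, 5], [3, 6, 6],
  [7, 5, 0, 2], [0, 4, 4, 1, 6], [0, 3, 2, 1, 1], [0, 2, 5, 2, 2], [1, 5, 3, 7], [2, 3, 2, 7, 6], [0, 1, 0, 0, 7], [6, 2, 4, 3], [0, 3, 4, 5, 1], [0, 3, 6, 7],
  [2, 1, 0, 3], [1, 6, 0], [0, 1, 7, 0, 4], [0, 3, 2, 1], [7, 4, 2], [4, 1, 1, 6], [3, 7], [5, 5, 1, 2], [0, 2, 3, 6, 7], [7, 4, 5, 1],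
  [0, 0, 3, 1, 6], [5, 1, 2, 1], [7, 7, 3, 7], [0, 3, 1, 6, 3], [0, 3, 5, 6, 2], [4, 1, 5, 1], [2, 5, 6, 1], [4, 5, 3, 0], [0, 4, 4, 2, 2], [4, 3, 1, 7],
  [5, 4, 7, 7], [0, 3, 3, 4], [6, 5, 4, 2], [6, 6, 7, 4], [1, 3, 2, 6, 3], [0, 5, 0, 2, 2], [0, 6, 2, 2], [7, 5, 6, 7], [0, 1, 5, 6], [3, 1, 4, 5],
  [0, 0, 6, 4, 2], [7, 5], [2, 4, 3, 2, 0], [0, 0, 0, 3, 2], [0, 4, 3, 0, 6], [3, 1, 2, 3], [0, 3, 0, 0], [4, 0, 0, 2], [0, 0, 7, 1, 3], [3, 3, 2, 1, 0],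
  [0, 6, 7, 6, 0], [1, 6, 3, 4], [3, 0, 6, 7, 1], [7, 3, 3, 3], [2, 0, 6], [1, 4, 2], [6, 3, 7], [0, 6, 0, 6, 2], [0, 1, 6, 5, 4], [0, 6, 4, 2, 4],
  [0, 5, 1, 5], [7, 3, 0, 3], [0, 0, 3, 3, 1], [6, 7, 4], [0, 1, 3, 0, 5], [0, 4, 1, 6, 0], [2, 1, 2, 5], [0, 2, 5, 1], [1, 0, 0, 7], [2, 7, 6, 5],
  [0, 1, 6, 2], [1, 5, 3, 5], [3, 2, 1, 1], [0, 1, 6, 0, 2], [0, 7, 3, 4, 4], [0, 1, 0, 5, 4], [4, 2, 3, 1], [0, 0, 5, 3], [3, 3, 4, 6], [0, 1, 5, 3, 1],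
  [6, 0, 7], [2, 0, 2, 5, 6], [1, 3, 3, 1, 3], [6, 6, 5, 1], [6, 2, 4], [4, 3, 7, 1], [2, 1, 0], [5, 4, 6], [0, 7, 6, 6, 1], [1, 6, 2, 2, 4],
  [0, 3, 4, 0, 5], [3, 0, 7, 1], [0, 6, 6, 5], [0, 7, 5, 5], [1, 5, 4, 6], [7, 6, 2, 0], [0, 1, 4, 4], [3, 0, 1], [0, 2, 2, 4, 2], [1, 4, 3, 1],
  [0, 1, 3, 0, 4], [4, 0, 1], [1, 4, 3, 3, 7], [0, 2, 3], [7, 0, 0], [4, 4, 1, 3], [7, 6, 0, 3], [0, 0, 5, 2], [5, 2, 5, 6], [3, 4, 1, 3],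
  [0, 7, 7, 3, 2], [1, 5, 6, 6, 7], [7, 5, 2, 2], [7, 1, 3, 3], [1, 5, 3], [1, 4, 1, 3, 7], [0, 2, 4, 5, 5], [2, 7, 2, 4], [0, 6, 0, 6], [1, 1, 1, 3],
  [0, 1, 0, 1, 5], [0, 6, 2, 7, 1], [0, 6, 5, 1], [0, 4, 6, 4, 4], [3, 2, 1], [2, 2, 1, 2], [4, 1, 6], [7, 6, 5, 6], [0, 0, 6, 2, 5], [1, 3, 7, 0],
  [0, 3, 7, 4, 3], [2, 1, 1, 6], [0, 5, 2, 4, 3], [6, 3, 3, 0], [3, 2, 4, 3, 6], [0, 0, 6, 1, 5], [0, 7, 4, 2], [0, 0, 3, 4, 4], [6, 3], [4, 3, 7, 0],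
  [2, 4, 2], [4, 3, 2, 3], [0, 5, 5, 3, 0], [4, 0, 0, 4], [0, 2, 4, 5, 0], [0, 0, 0, 2, 1], [0, 2, 3, 5], [0, 3, 0, 5, 3], [2, 4, 0, 5], [5, 3, 7],
  [0, 2, 1, 1, 7], [0, 1, 6, 5, 7], [2, 6, 6, 1], [6, 2, 0, 0], [1, 7, 0, 0], [0, 4, 4], [1, 1, 1, 2], [5, 3, 7, 3], [1, 2, 1, 2], [2, 5, 2, 4],
  [0, 0, 2, 1, 1], [0, 5, 6, 4, 2], [4, 0, 0, 6], [6, 4, 4, 2], [2, 4, 0, 1], [5, 0, 3, 0], [0, 3, 3, 7, 5], [1, 1, 5, 5], [6, 5, 1, 7], [0, 4, 3, 7],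
  [0, 3, 2, 4], [1, 7, 1, 0], [7, 5, 4], [0, 5, 3, 3, 7], [0, 2, 4, 6, 1], [0, 3, 7], [5, 6, 6], [0, 0, 2, 4, 4], [4, 1, 3], [0, 6, 3, 0, 3],
  [0, 0, 6, 4, 5], [3, 0, 7, 3], [0, 3, 5, 0, 2], [0, 7, 4], [0, 4, 7, 6], [2, 7, 3, 4], [7, 4, 2, 2], [1, 5, 3, 6, 0], [0, 4, 6, 0, 4], [0, 0, 5, 4],
  [1, 6, 0, 2], [0, 7, 2, 3], [2, 7, 4], [0, 7, 7, 4], [0, 2, 1, 4, 1], [7, 1, 6, 4], [5, 0, 4, 7], [0, 4, 2, 6, 7], [3, 2, 2, 0], [3, 4, 7],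
  [1, 1, 3, 7], [1, 0, 7, 5, 3], [4, 1, 5], [5, 3, 6, 0], [3, 2, 5, 7], [6, 4, 0], [1, 2, 3, 7], [7, 5, 0, 6], [0, 3, 1, 0, 1], [3, 7, 7, 4],
  [1, 5, 2, 2], [0, 6, 0, 4, 1], [1, 3, 3, 5, 1], [5, 2, 2], [2, 7, 7, 6, 2], [0, 7, 2, 0], [3, 7, 5], [0, 0, 1, 7], [1, 4, 0, 0, 7], [4, 5],
  [4, 7, 5], [0, 2, 3, 0], [4, 3, 1, 0, 4], [0, 0, 5, 2, 3], [5, 6, 0, 4], [2, 5, 2, 3], [0, 1, 5, 5, 7], [2, 2, 0, 5, 0], [5, 1, 4, 2], [3, 2, 3, 2],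
  [7, 6, 3], [6, 1, 7], [3, 2], [2, 3, 7, 6], [0, 2, 3, 6, 2], [0, 6, 5, 6, 7], [3, 0, 2, 7], [0, 2, 4, 1], [0, 5, 6, 0, 4], [3, 4, 7, 2],
  [1, 3, 7], [0, 0, 6, 0, 1], [2, 3, 6, 7], [4, 1, 5, 2], [0, 1, 7, 4, 4], [1, 4, 2, 4, 1], [0, 0, 3, 6, 7], [3, 6, 0, 7], [0, 7, 7, 2], [7, 6, 2, 1],
  [1, 2, 4, 5], [0, 7, 6, 2], [0, 2, 0, 7], [1, 7, 3, 5], [7, 3, 5], [0, 5, 5, 0], [0, 2, 6, 2], [1, 6, 5, 5, 3], [7, 2, 3, 4], [6, 5, 4, 1, 0],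
  [0, 6, 6, 7, 6], [1, 1, 2], [3, 1, 5, 3, 7], [0, 2, 5, 1, 4], [2, 1, 1, 3], [1, 6, 0, 7], [0, 6, 4, 4, 4], [0, 0, 6, 5], [0, 3, 6, 7, 7], [4, 3, 1, 0],
  [0, 3, 1], [1, 4, 0, 0], [7, 5, 0], [1, 0, 3, 6], [4, 0, 0], [0, 1, 4, 7], [2, 4, 5, 3], [2, 0, 7, 4], [2, 3, 6], [0, 0, 7, 4],
  [0, 0, 1, 2, 6], [0, 5, 4], [2, 1, 4, 1, 0], [4, 3, 3, 5], [5, 3, 5, 6], [1, 1, 6, 6, 4], [6, 0, 4], [1, 0, 3, 4], [2, 5, 4, 3], [0, 6, 0, 5],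
  [0, 3, 4], [3, 3, 3, 5], [1, 3, 4, 4], [6, 1, 6, 1], [0, 7, 3], [0, 6, 2, 7], [7, 0, 5, 3], [4, 1, 6, 2], [0, 1, 5, 5, 0], [0, 5, 6, 3],
  [6, 5, 4, 7], [0, 0, 4, 5], [0, 0, 3, 6], [2, 2, 7], [1, 4, 0], [3, 6, 4, 5], [1, 2, 2, 7], [0, 4, 0, 6, 5], [7, 4, 4, 3], [7, 3, 1, 7],
  [0, 2, 4, 5], [0, 0, 7, 2, 1], [7, 0, 4, 6], [3, 4, 2, 2], [0, 1, 0, 5, 2], [2, 6, 4, 5], [2, 7, 6], [0, 0, 7, 6], [1, 4, 6, 4, 1], [6, 6, 6, 0],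
  [2, 7, 2], [6, 6, 3], [0, 2, 3, 7, 0], [0, 3, 4, 6], [2, 0, 7], [0, 5, 6, 0], [5, 7, 6, 4], [6, 4, 1], [1, 7, 4, 3, 3], [5, 3, 7, 7],
  [1, 2, 2, 7, 2], [3, 2, 5], [5, 3, 6, 1], [1, 4, 0, 2], [0, 5, 0, 5, 5], [1, 4, 2, 3], [6, 7, 7, 6], [1, 5, 0, 1, 7], [0, 1, 7, 6], [4, 2, 3],
  [0, 3, 2, 3, 3], [6, 7, 4, 3], [3, 3, 5, 1], [2, 2, 3, 0, 6], [6, 5, 4, 4], [0, 2, 5, 1, 1], [0, 3, 4, 7, 0], [0, 2, 4, 3, 4], [5, 3, 5, 2], [0, 6, 4, 4, 1],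
  [0, 1, 7, 0], [1, 5, 6, 3], [2, 2, 0], [4, 7, 6, 0], [1, 5, 0, 4], [1, 3, 0, 5], [2, 0, 1, 6], [3, 1, 1, 4], [1, 2, 2, 0], [0, 1, 5, 4],
  [6, 0, 0, 4], [5, 1, 4], [0, 0, 2, 7], [7, 4, 7, 5], [3, 2, 3], [0, 6, 5, 3], [0, 2, 6, 5], [5, 4, 1], [4, 4, 2, 6], [0, 1, 4, 2],
  [0, 4, 7], [0, 1, 4, 6], [0, 4, 7, 7], [2, 2, 3, 4], [1, 3, 6, 0, 1], [0, 3, 6, 7, 5], [0, 1, 2, 3, 3], [0, 2, 5, 6, 2], [0, 1, 0, 4, 7], [6, 0, 1],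
  [1, 3, 5, 4], [4, 3, 0, 4], [3, 5, 4, 5], [3, 3, 1, 1], [4, 4, 3], [0, 0, 4, 1, 3], [0, 6, 7, 3, 6], [3, 5, 0, 3], [2, 6, 3], [6, 0, 7, 0],
  [1, 5, 0, 7], [6, 5, 4, 1], [7, 4, 0, 1], [1, 1, 4, 4], [7, 2, 3, 5], [1, 0, 5, 5], [7, 7, 3, 4], [0, 0, 1, 2], [2, 1, 2], [6, 5, 5, 1],
  [1, 0, 4, 7], [4, 0, 7, 1], [0, 1, 7, 4, 6], [3, 7, 0, 2], [1, 3, 4, 6], [4, 0, 2], [5, 4, 7, 0], [4, 2, 1, 1], [2, 0, 1, 3, 7], [0, 3, 6, 3],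
  [0, 1, 0, 2, 6], [1, 4, 5, 0], [0, 1, 5, 2, 7], [0, 6, 3, 0], [2, 4, 5], [7, 3, 4], [2, 0, 3, 2], [5, 6, 1, 0], [0, 1, 7, 0, 1], [1, 3, 0, 1],
  [3, 5, 4], [0, 0, 5, 3, 1], [0, 7, 3, 1], [7, 5, 0, 4], [5, 6, 6, 4], [2, 7, 7, 7], [5, 1, 6, 5], [5, 0, 2, 5], [0, 3, 0, 0, 5], [0, 0, 4, 4, 3],
  [5, 6, 6, 0], [0, 6, 3, 3], [0, 0, 4, 1, 7], [2, 4, 1, 7], [1, 7, 2], [7, 1, 4, 5], [0, 7, 1, 4, 7], [2, 5, 7, 5], [1, 0, 3, 1], [2, 1, 0, 7],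
  [0, 6, 3], [2, 7, 6, 6], [0, 4, 5, 0, 5], [0, 3, 2, 2], [0, 0, 6, 4, 1], [0, 2, 5, 1, 5], [0, 1, 2, 2, 3], [5, 4, 3, 7], [1, 2, 7, 7], [0, 3, 7, 6, 4],
  [0, 0, 1, 3, 0], [6, 6, 1], [3, 7, 7, 0], [1, 0, 5, 1, 7], [5, 0, 7], [2, 6, 4, 6], [3, 3, 5], [4, 7, 3], [2, 4, 6, 2], [0, 5, 0, 3, 0],
  [1, 1, 7, 2, 0], [3, 4, 6, 6], [7, 3, 6, 0], [6, 6, 6, 3], [7, 6, 1, 3], [4, 5, 0, 7], [1, 3, 6, 6], [7, 6, 3, 1], [2, 6, 4], [7, 3, 2, 0],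
  [2, 4, 5, 7], [1, 4, 6, 3, 7], [1, 5, 7, 5], [3, 5, 6, 6, 0], [5, 7, 5], [1, 3, 5, 1, 4], [7, 6, 4, 5], [6, 4, 4, 6], [0, 6, 6, 7], [6, 5, 7, 1],
  [1, 2, 4, 7, 4], [1, 2, 5, 5, 1], [5, 7, 7, 2], [0, 3, 3, 5], [7, 7, 1, 4], [0, 3, 0, 3, 4], [0, 5, 4, 5, 6], [6, 7, 5, 0], [0, 0, 7, 2], [3, 1, 7, 7],
  [5, 1, 0], [0, 5, 2], [0, 6, 2, 6, 6], [6, 0, 2], [6, 0, 1, 3]]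

def m24tr_dod_W : List (List ℕ) := [
  [], [1, 3, 0, 1], [6, 3, 4], [5, 4, 0], [5, 2, 0, 3], [2, 1, 3, 1], [3, 2, 2, 5], [1, 1], [0, 1, 3, 3, 3], [1, 3, 5, 2],
  [1, 2, 6, 7], [5, 2, 1, 5], [0, 1, 4, 5], [1, 7, 1, 5], [2, 2, 6], [2, 1, 1, 1], [3, 3, 2, 0], [2, 5, 2, 0], [1, 7, 7], [1, 4, 5, 7],
  [4, 6, 7, 6], [1, 5, 5, 5], [6, 5, 4], [1, 6, 4, 0], [2, 0, 6], [4, 2, 0, 6], [1, 3, 5, 3], [1, 2, 2, 2], [6, 6, 4, 0], [0, 3, 0, 6, 3],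
  [2, 1, 6], [2, 3, 5], [2, 7, 6, 4], [0, 7, 0, 3], [1, 1, 2, 6], [0, 2, 1, 7, 5], [3, 5, 7, 5], [6, 4, 7, 6], [0, 0, 7, 0, 3], [4, 5],
  [0, 7, 2, 4], [7, 3, 6, 2], [2, 2, 6, 5], [0, 7, 7, 6], [2, 7, 6, 0], [4, 4, 7, 2], [6, 5, 6, 6], [2, 3, 3, 7], [2, 4, 4, 1], [1, 2, 2, 0, 7],
  [0, 0, 1, 7, 5], [0, 0, 7, 6, 3], [0, 2, 5], [2, 4, 6, 3], [3, 4, 4, 4], [0, 5, 2, 3], [0, 5, 4], [0, 6, 0, 0], [0, 7, 6, 1, 5], [4, 1, 6, 6],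
  [5, 6, 5], [1, 6], [7, 0, 5, 0], [2, 1, 1], [0, 7, 3, 3], [1, 0, 7, 5, 1], [3, 1, 6, 0], [5, 3, 5, 2], [0, 1, 4, 5, 6], [0, 5, 4, 5],
  [2, 5, 2, 3], [4, 6, 3], [3, 7, 2, 4], [0, 4, 6, 3], [4, 2, 7, 3], [3, 1, 3, 3], [0, 7, 6, 3], [3, 3, 0, 0], [0, 4, 5, 3, 2], [7, 7, 0, 1],
  [0, 2, 1, 2, 1], [0, 2, 2, 0, 2], [3, 3, 2, 5], [6, 4, 0, 4], [7, 5, 0], [0, 6, 2, 2], [1, 0, 1], [1, 1, 5, 4], [7, 4, 7], [0, 1, 7, 5, 1],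
  [0, 1, 2, 0], [0, 1, 1, 0], [0, 2, 6, 7], [6, 3, 2, 7], [0, 6, 3, 4, 6], [2, 4, 7, 4], [0, 7, 5, 0], [0, 6, 7, 3, 7], [0, 6, 6, 6], [0, 0, 1],
  [4, 4, 3, 7], [2, 4, 4, 6], [0, 6, 6, 1], [0, 0, 4, 7], [0, 1, 7, 0], [0, 1, 7, 1, 0], [0, 3, 0, 0], [4, 1, 7, 7], [3, 0, 5, 1], [5, 0, 7, 1],
  [3, 5, 5, 6], [4, 5, 7, 7], [2, 7, 7, 0], [0, 0, 4, 7, 1], [0, 0, 6, 2], [0, 5, 6, 0], [0, 0, 1, 7, 0], [5, 1, 5, 3], [6, 6, 2, 3], [4, 7, 5, 5],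
  [0, 7, 5, 1, 3], [3, 1, 0, 3], [0, 7, 7, 1], [3, 6, 1, 4], [1, 2, 6, 5], [3, 3, 2, 3], [0, 0, 4, 2], [1, 6, 1, 1], [7, 6, 6], [1, 5, 5, 6, 0],
  [4, 1, 6, 0], [1, 0, 7, 2], [0, 1, 6, 6, 3], [7, 7], [0, 1, 1, 1], [4, 1, 0], [6, 7, 4, 6], [1, 6, 1], [0, 5, 1, 4], [1, 5, 5, 0],
  [1, 2, 7, 4], [2, 1, 4, 2], [5, 6, 0, 7], [3, 6, 2, 6], [5, 3, 0, 2], [1, 2, 2, 5], [3], [0, 2, 1, 5, 7], [0, 4, 4, 6, 5], [1, 6, 5, 2],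
  [0, 5, 1, 3, 5], [4, 4, 4, 4], [1, 6, 7, 7], [5, 6, 2, 0], [0, 5, 2, 4, 5], [0, 3, 2, 5], [5, 2, 2, 1], [1, 0], [3, 2, 5], [1, 6, 5, 3, 5],
  [5, 1, 7, 3], [6, 2, 6], [3, 7, 2], [0, 0, 5], [0, 4, 3, 1, 4], [0, 0, 3, 2, 7], [1, 5, 0, 2], [0, 0, 1, 3], [0, 7, 1, 7], [2, 6, 2, 5],
  [6, 4, 3, 2], [5, 2, 2], [2, 5, 2, 2], [0, 4, 0, 4, 2], [3, 3, 0, 4], [2, 3, 7, 2], [5, 5, 6], [3, 7, 4, 3], [2, 2, 4, 4, 7], [2, 2, 2, 0],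
  [1, 4, 2], [2, 7, 5, 4], [4, 1, 1, 2], [7, 5, 0, 5], [0, 1, 1, 3, 0], [7, 0, 2], [5, 6, 7], [0, 7, 4, 4], [0, 2, 6], [0, 5, 6, 6],
  [0, 1, 0, 0, 0], [1, 3, 4, 2], [1, 5, 5, 6], [2, 1, 0, 1], [0, 4, 6, 2], [0, 1, 1, 1, 1], [0, 0, 2, 6, 4], [1, 4, 4, 3], [0, 1, 1, 5, 6], [2, 4, 3],
  [2, 4, 3, 1], [3, 5, 3, 4], [2, 2], [1, 5, 4, 7], [0, 1, 0, 1], [3, 0, 2, 7], [0, 3, 4, 7, 3], [0, 0, 6, 4, 3], [1, 1, 1], [0, 1, 5, 6, 2],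
  [3, 6, 5, 0], [2, 2, 7, 7], [0, 6, 2, 5], [1], [1, 3, 0], [5, 1, 5, 2], [2, 4, 2, 3], [2, 7, 0, 3], [7, 7, 1], [2, 4, 2, 4],
  [3, 4, 2, 6], [0, 1, 3], [4, 3, 6], [1, 2, 0, 2], [3, 1, 6, 3], [6, 6, 4], [2, 3, 4, 4], [0, 0, 7, 3, 3], [4, 1, 6], [0, 5, 0, 3],
  [4, 2, 4], [0, 1, 5, 6, 7], [5, 6, 0, 5], [5, 4, 2, 2], [2, 4, 1, 0], [0, 3, 0, 6], [0, 7, 6, 7], [3, 0, 5], [4, 3, 0, 1], [0, 4, 4, 6],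
  [0, 0, 1, 1], [3, 2, 3, 4], [6, 7, 6], [1, 4, 2, 5], [4, 6, 5, 7], [0, 6, 3, 3], [1, 2, 6, 3, 3], [6, 1, 1, 0], [1, 2, 5, 4], [3, 3, 1, 4],
  [0, 5, 3, 3], [1, 2, 0, 0], [2, 4, 4, 0], [1, 3, 2, 1, 1], [0, 3, 5, 3], [7, 1, 2], [4, 2, 2, 4], [4, 5, 3, 2], [0, 7, 6, 7, 1], [4, 6, 2],
  [3, 3, 3, 2], [2, 7, 3], [7, 0, 5, 4], [1, 2, 1, 3], [0, 7, 6, 1, 0], [1, 6, 2, 2], [1, 0, 4, 0], [5, 3, 1, 1], [2, 1, 6, 1], [0, 7, 4, 6],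
  [0, 3, 0, 4], [2, 0, 7, 2], [0, 1, 2, 2], [2, 3, 3, 0], [5, 5, 0], [0, 2, 0], [2, 4, 5, 2], [6, 1, 7, 3], [3, 3, 0, 6], [2, 0, 1, 3],
  [4, 6, 2, 4], [6, 7, 6, 2], [2, 6, 5, 0], [2, 2, 1, 4], [3, 6], [5, 6, 5, 5], [1, 4, 2, 0], [0, 3, 2, 5, 2], [0, 1, 7, 4, 2], [4, 2, 4, 1],
  [1, 6, 4], [3, 0, 5, 6], [0, 0, 7, 2, 0], [1, 4], [0, 6, 7, 3], [2, 4, 7, 0], [7, 6, 6, 6], [4, 7, 7], [6, 2, 6, 4], [1, 0, 1, 4],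
  [2, 4, 3, 2], [2, 5, 0, 3], [1, 4, 1, 5], [0, 1, 5, 7], [1, 1, 5, 0], [4, 2, 4, 5], [1, 6, 6, 0, 5], [0, 5, 4, 0, 7], [0, 6, 4, 0, 2], [0, 3, 2, 1, 2],
  [2, 0, 2, 0, 3], [1, 0, 3, 6], [3, 3, 7, 6], [0, 1, 2, 6, 3], [0, 1, 4, 7, 7], [4, 7, 6, 5], [6, 5, 5, 0], [0, 6, 1], [1, 4, 0, 3], [7, 1, 2, 1],
  [3, 5, 2, 6], [0, 1, 4, 2], [0, 0, 1, 5, 4], [0, 4, 2, 5], [0, 2, 2, 0, 7], [3, 1, 7, 5], [4, 3, 2, 7], [0, 6, 5, 4], [1, 0, 5, 7], [2, 1, 5],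
  [0, 5, 1, 4, 2], [1, 0, 1, 1], [0, 2, 5, 4, 5], [7, 0], [0, 7, 4, 3], [1, 1, 2, 1], [0, 1, 2, 2, 1], [4, 1, 0, 5], [0, 5, 0, 3, 5], [6, 7, 0, 1],
  [7, 7, 1, 2], [0, 1, 6, 5, 0], [0, 5, 0, 4, 7], [0, 0, 5, 1], [1, 5, 1, 0], [0, 0, 6, 6, 1], [0, 3, 5, 1, 6], [7, 4, 3], [1, 6, 5, 0], [0, 3, 6, 2, 5],
  [1, 6, 0, 5], [2, 7, 1, 6], [0, 1, 3, 6], [7, 5, 1], [1, 7, 2, 4], [1, 0, 6], [2, 0, 4, 7], [4, 3, 6, 1], [3, 5, 3, 0], [0, 0, 3, 4, 4],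
  [1, 1, 1, 1], [6, 6, 0], [2, 4, 3, 6], [1, 4, 2, 0, 4], [5, 6, 2], [1, 5, 7, 7], [3, 3, 0, 0, 1], [2, 0, 6, 4], [3, 6, 2, 5], [1, 6, 1, 6],
  [0, 4, 7, 4], [2, 2, 5], [1, 7, 5, 5], [1, 1, 1, 7, 7], [6, 3, 4, 1], [0, 1, 1, 7, 0], [0, 4, 6, 6, 0], [1, 1, 6, 3], [1, 3, 6, 2], [0, 7, 5, 0, 4],
  [3, 3, 1, 3], [1, 2, 7, 2, 3], [7, 1, 5, 5], [1, 1, 1, 6], [4, 1, 6, 4], [0, 4, 7], [1, 4, 0, 0], [5, 4], [0, 5, 3, 4, 2], [4, 1, 7, 5],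
  [0, 2, 1, 2, 2], [0, 0, 1, 1, 6], [1, 0, 3, 0, 0], [2, 1, 1, 1, 6], [0, 1, 1, 7, 3], [0, 5, 1, 0], [0, 0, 6, 7, 3], [7, 3, 5, 0], [0, 0, 7, 7, 5], [1, 4, 7, 6],
  [4, 3, 4], [1, 4, 1, 7], [7, 6, 5], [5, 0, 2, 5], [3, 3, 1, 7], [7, 6, 0, 6], [1, 6, 7, 3], [0, 5], [5], [7, 7, 5],
  [1, 2, 3], [0, 7, 7, 5], [1, 4, 7, 1], [0, 5, 7, 5], [4, 4, 2, 6], [4, 3, 5], [5, 0, 7, 6], [0, 0, 3, 1, 4], [1, 2, 6, 0], [4, 6, 7, 1],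
  [1, 7, 6, 3], [1, 2, 0, 7, 6], [2, 7, 5, 0], [0, 2, 3, 0, 1], [3, 5], [2, 7], [4, 5, 1], [7, 1, 0], [0, 1, 2, 3, 4], [0, 4, 6, 0, 2],
  [4, 7, 5, 6], [7, 1, 6, 7], [1, 2, 5, 0, 6], [2, 7, 4, 2], [1, 1, 5, 3], [7, 7, 2, 7], [0, 3, 2, 3, 2], [1, 2, 2, 6, 7], [1, 1, 7, 0], [0, 2, 0, 1],
  [0, 4, 4, 5], [5, 1, 4], [0, 7, 6, 2], [0, 7, 7, 4], [4, 3, 5, 7], [0, 3, 7, 6], [5, 4, 6, 6], [5, 7, 7, 3], [6, 7, 0, 4], [4, 5, 2, 6],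
  [2, 3, 0, 6], [0, 0, 3, 0, 4], [2, 0, 6, 5], [5, 0], [1, 1, 2, 4], [0, 0, 5, 2, 3], [6, 2, 1, 6], [6, 1, 1, 4], [0, 1, 2, 2, 7], [3, 7, 7, 0],
  [3, 2, 2, 7], [0, 0, 6, 4], [1, 3, 6, 4], [5, 4, 6, 3], [7, 1, 7], [5, 3, 7], [1, 2, 2, 6], [0, 6, 1, 2], [2, 4, 1, 1], [5, 5, 5, 6],
  [2, 4, 1, 4], [1, 0, 7, 7], [4, 7, 5, 3], [6, 3], [0, 3, 3, 2, 3], [2, 1, 7, 2], [0, 3, 4, 4], [0, 4, 3, 1, 3], [7, 7, 6, 4], [0, 0, 1, 5, 7],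
  [0, 5, 7, 3], [0, 1, 4, 7], [0, 6, 2, 7], [1, 1, 4, 6], [6, 3, 2, 4], [0, 0, 0, 1, 1], [4, 3, 7, 2], [4, 4, 6], [1, 0, 5, 2], [2, 3, 6],
  [1, 7, 2, 0], [2, 7, 3, 5], [1, 7, 7, 0], [4, 5, 0], [3, 7, 1, 6], [5, 2, 1, 7], [1, 0, 0, 4], [0, 6, 2, 6], [4, 6, 1, 7], [2, 7, 1, 1],
  [1, 4, 5, 4], [0, 2, 6, 1], [0, 2, 3, 4], [0, 1, 1, 6, 1], [1, 1, 7, 7], [6, 2, 4], [0, 0, 3, 4], [0, 3, 2, 4, 0], [4, 4, 5], [2, 3, 2, 3],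
  [4, 7, 0], [0, 4, 0, 4], [0, 6, 7, 1, 7], [3, 5, 5, 1], [0, 3, 5, 3, 5], [0, 2, 7], [0, 0, 0, 6, 4], [1, 0, 5], [0, 0, 6, 6, 5], [3, 5, 1, 1],
  [1, 4, 2, 3], [0, 5, 4, 7], [1, 3, 4, 0], [0, 2, 7, 2], [7, 0, 2, 1], [3, 7, 2, 3], [6, 5, 1, 2], [1, 5, 4, 1], [2, 2, 1], [0, 0, 7, 6, 7],
  [5, 0, 5, 3], [7, 4, 5, 3], [0, 1], [4, 1, 3, 3], [0, 7, 0, 1, 6], [1, 3, 6, 0], [2, 4], [3, 3, 4, 0], [4, 7, 5, 1], [2, 1, 2, 5],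
  [5, 5, 2, 7], [0, 5, 4, 1], [1, 2, 4, 6], [3, 1], [3, 4, 6, 5], [0, 4, 4, 3, 2], [5, 3, 2], [4, 5, 4, 3], [6, 1], [1, 7, 5, 1],
  [0, 4, 5, 6, 0], [0, 2, 4, 1, 0], [0, 4, 1, 3], [2, 5, 4, 3], [7, 0, 3, 5], [4, 4, 3, 6], [2, 5, 6, 6], [4, 7, 3, 0], [5, 3, 5, 4], [3, 1, 3],
  [0, 2, 6, 5], [0, 2, 7, 0, 2], [7, 6, 2, 0], [1, 5, 4, 5], [0, 1, 4, 1, 6], [2, 5, 0, 1], [7, 4, 5], [6, 2, 3, 0], [1, 5, 6], [0, 6, 4],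
  [7, 7, 7, 6], [2, 5, 4], [2, 6, 6, 4], [6, 6, 0, 3], [6, 5, 5], [3, 0, 4], [2, 0, 1], [0, 0, 7, 2, 3], [0, 3, 4, 0], [4, 2, 0, 5],
  [1, 7, 2], [4, 5, 1, 7], [5, 3, 0], [0, 3, 3, 5, 6], [5, 2, 2, 5], [5, 4, 7, 5], [0, 0, 0], [2, 2, 7], [0, 2, 6, 7, 7], [6, 3, 7, 5],
  [0, 4, 5, 3, 7], [1, 1, 2, 0], [2, 6, 5, 3], [2, 3, 5, 5], [0, 4, 1, 3, 7], [1, 3, 2, 2], [5, 4, 5, 0], [0, 0, 6, 0, 0], [3, 7, 7], [6, 6, 3],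
  [3, 0, 0], [1, 7, 4, 6], [5, 4, 2, 4], [0, 5, 3, 4, 4], [1, 4, 2, 1], [0, 2, 4, 3], [5, 5, 4], [0, 5, 3], [2, 6, 5], [3, 7, 5, 2],
  [2, 1, 2, 7], [3, 4, 4], [2, 4, 0, 6], [5, 7, 3], [0, 5, 1, 2], [3, 6, 5, 4], [2, 2, 2], [0, 2, 6, 7, 2], [1, 5, 3, 7], [2, 5, 4, 0],
  [4, 6, 0, 5], [6, 5, 5, 6], [0, 1, 7, 1, 3], [3, 6, 2, 3], [0, 1, 4, 1], [6, 1, 0], [6, 6, 0, 6], [1, 4, 4, 4, 5], [5, 5, 1], [7, 3, 6, 3],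
  [1, 2, 4, 0], [3, 7, 7, 6], [6, 4, 5], [7, 3, 6, 1], [5, 5, 5, 2], [4, 4, 1, 2], [2, 0, 2, 5], [0, 0, 3, 4, 6], [0, 5, 2, 3, 2], [3, 5, 7, 0],
  [2, 6, 0, 7], [3, 0, 4, 6], [0, 0, 5, 2], [3, 0, 7], [5, 1, 6, 2], [0, 3, 2, 4, 7], [5, 4, 0, 0], [6, 5, 7, 2], [2, 3, 4, 6], [0, 3, 0, 5],
  [1, 3, 5], [0, 2, 6, 2], [7, 5, 5], [0, 6, 4, 0], [0, 6, 3, 7], [2, 6, 0, 7, 5], [0, 1, 6, 5], [0, 2, 0, 2], [0, 5, 4, 0], [5, 5, 5],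
  [7, 4], [5, 6, 0, 2], [1, 5], [1, 5, 1, 4], [1, 1, 5, 6, 7], [0, 1, 7, 4, 1], [3, 5, 0, 0], [0, 0, 7, 0], [2, 6, 6, 6], [5, 4, 4, 0],
  [0, 1, 6, 4], [4, 3, 1, 4], [0, 1, 6, 6, 5], [1, 6, 2, 6], [0, 3, 7, 1], [1, 7, 4, 1], [0, 1, 7, 6, 4], [1, 0, 2, 7], [6, 7, 7, 6], [0, 4, 5, 7, 5],
  [0, 6, 5, 6, 2], [0, 6, 0, 6], [2, 6], [4, 5, 2], [1, 1, 1, 5], [3, 2, 7], [6, 1, 1, 7], [0, 7, 0, 1], [0, 0, 4, 1, 2], [1, 7, 0, 5],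
  [5, 6, 2, 6], [4], [0, 1, 7, 1, 5], [0, 1, 6, 1], [2, 0, 7, 3], [0, 6, 5, 7], [0, 0, 1, 3, 7], [0, 1, 2, 3], [0, 2, 2], [5, 7, 7],
  [2, 2, 2, 5], [3, 3, 0, 5], [0, 2, 7, 7, 0], [5, 4, 4], [2, 6, 7], [0, 1, 6, 6, 0], [2, 5, 0, 2], [0, 2, 5, 3, 7], [0, 1, 6], [2, 1, 7, 3],
  [0, 0, 6, 4, 4], [0, 0, 1, 4], [6, 3, 6, 0], [0, 4, 3, 0, 5], [1, 2, 4, 5], [5, 5, 1, 1], [1, 3, 1], [0, 1, 4], [0, 0, 2, 2], [6, 5, 6, 2],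
  [2, 7, 4, 5], [4, 1], [1, 7, 0], [0, 2, 5, 4], [2, 0, 2], [5, 4, 6], [1, 1, 3, 7], [5, 1, 4, 6], [0, 1, 3, 6, 6], [7, 7, 7],
  [1, 7, 5, 2], [0, 2, 4, 7], [2, 4, 1, 5], [0, 0, 2, 4, 2], [0, 3, 2, 1], [3, 5, 4, 0], [0, 3, 7], [1, 3, 2, 3], [0, 1, 7, 7, 5], [6, 6, 6],
  [4, 1, 5], [5, 3, 6], [6, 3, 7], [4, 4, 1], [7, 1, 3], [0, 1, 1, 5], [1, 6, 5, 3], [4, 4, 2, 0], [5, 1, 6], [2, 5, 3, 0],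
  [4, 5, 3, 3], [0, 3, 3, 0], [3, 7, 5, 6], [3, 2, 5, 7], [3, 0, 1, 4], [5, 4, 7, 7], [4, 4, 2, 5], [6, 4, 0], [2, 5, 2, 4], [5, 1, 7],
  [7, 0, 3], [1, 4, 3, 0], [0, 4, 1, 1, 0], [2, 3, 5, 7], [1, 6, 0, 7], [2, 5, 6], [1, 7, 0, 4], [0, 5, 1, 3], [2, 7, 4, 0], [2, 6, 2, 1],
  [6, 5], [0, 0, 4, 3, 2], [0, 4, 2, 7], [2, 7, 1, 2], [0, 7, 1, 0], [0, 1, 3, 7, 0], [4, 3, 1], [4, 5, 5], [4, 3], [1, 1, 4, 3],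
  [1, 3, 2, 4], [1, 3, 1, 3], [0, 4, 1, 7], [3, 5, 3, 7], [2, 0, 4, 6], [0, 4, 2], [7, 1, 1, 7], [3, 1, 2, 3], [1, 1, 3], [0, 4, 7, 3, 7],
  [3, 5, 7], [0, 0, 1, 5, 2], [7, 0, 7, 4], [2, 7, 4, 1], [5, 0, 2], [3, 6, 2], [0, 1, 7, 7], [4, 5, 5, 1], [7, 4, 6, 7], [2, 2, 4, 0],
  [1, 5, 1, 6], [3, 3, 0, 1], [0, 1, 0, 2, 7], [1, 3, 4, 6], [0, 3, 6, 2], [3, 1, 2, 1], [0, 2, 1, 6], [2, 4, 7, 6], [7, 5, 4], [0, 5, 3, 6, 2],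
  [0, 1, 1, 3], [1, 4, 3, 3], [4, 2, 3, 0], [0, 0, 1, 6, 4], [7, 1, 2, 5], [1, 0, 6, 2, 4], [1, 6, 5, 6], [1, 2, 4], [0, 0, 3, 1], [5, 4, 7],
  [0, 3, 5, 7, 3], [1, 2, 1, 7], [3, 4, 6], [1, 0, 6, 0], [0, 3, 5, 7, 5], [2, 7, 7, 4], [1, 7, 6, 2], [2, 4, 3, 0], [0, 0, 5, 0, 4], [7, 1, 4],
  [0, 6, 6, 5], [0, 6, 4, 1, 7], [3, 3, 2, 7], [0, 4, 1, 4], [2, 3, 2, 5], [6, 6, 6, 3], [0, 6, 2, 0, 2], [2, 2, 5, 0], [0, 4, 1, 5, 3], [0, 3, 2, 7],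
  [5, 3, 1, 3], [0, 2, 0, 4, 6], [2, 5, 3, 7], [7, 4, 0, 6], [0, 4, 1, 6, 1], [3, 4, 5, 6], [3, 0, 1], [6, 6, 7, 4], [6, 2, 1], [0, 1, 4, 0],
  [4, 2, 7, 4], [0, 0, 0, 6, 6], [4, 4, 3], [0, 2, 3, 3, 7], [7, 1, 6], [0, 6, 4, 2], [6, 7, 4], [0, 1, 6, 4, 5], [2, 7, 1, 2, 5], [1, 7, 4, 5],
  [6, 7, 1, 7], [2, 0, 2, 0], [2, 2, 5, 7], [2, 1, 4, 0], [5, 3, 1, 4], [0, 4, 5, 0], [2, 2, 2, 1], [2, 5, 3, 3], [2, 7, 7, 1], [5, 1, 2, 2],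
  [7, 7, 0, 4], [2, 1, 2, 4], [0, 5, 6, 1], [1, 6, 7, 2], [0, 7, 2, 6], [0, 2, 1, 7], [0, 1, 0, 0], [1, 2, 5, 7], [0, 5, 7], [0, 0, 7, 0, 5],
  [5, 6, 1], [1, 6, 6, 0], [5, 1, 4, 3], [5, 5, 2, 4], [1, 4, 0, 5], [2, 7, 6, 6], [4, 6, 1, 0], [0, 0, 0, 7], [7, 3, 6], [4, 7, 6],
  [3, 6, 7, 7], [3, 2, 1, 6], [3, 3, 2], [7, 2, 3, 0], [3, 6, 2, 1], [3, 3, 2, 1], [2, 0, 5, 3], [2, 5, 0, 7, 4], [0, 3, 3, 2], [6, 5, 7],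
  [7, 6], [0, 6, 5, 6], [2, 7, 6, 3], [3, 4, 2], [1, 5, 5], [0, 7, 6, 6], [3, 4, 3, 0], [6, 4, 5, 1], [2, 6, 4, 2], [0, 2, 2, 2, 6],
  [3, 1, 5, 3], [0, 2, 6, 6, 0], [6, 2, 5], [0, 4, 7, 7, 7], [0, 3, 5, 7], [0, 1, 7, 4], [1, 7, 7, 5], [4, 7, 1, 3], [1, 1, 7, 6], [0, 2, 7, 0, 6],
  [2, 6, 0, 4], [0, 4, 6, 4], [0, 1, 7, 6], [2, 0, 1, 7], [7, 4, 0, 2], [0, 7, 1, 2], [2, 1, 6, 5], [1, 2, 3, 7], [2, 7, 2, 3], [3, 2, 3, 3],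
  [3, 1, 7, 4], [1, 3, 0, 7], [1, 6, 4, 7, 3], [4, 4, 7], [5, 2, 0, 4], [7, 6, 7], [5, 7, 0, 6], [0, 2, 7, 0, 4], [0, 1, 1, 7, 6], [0, 5, 6, 4],
  [1, 2, 2], [5, 5, 4, 7], [0, 2, 3, 6], [1, 7, 1, 0], [1, 3, 7, 0], [2, 6, 6, 2], [1, 3, 5, 1], [6, 5, 5, 3], [7, 5, 7, 2], [5, 6, 0],
  [2, 3, 0], [3, 0, 0, 3], [4, 4, 5, 4], [4, 7, 5, 7], [4, 6, 0, 1], [6, 7, 3], [2, 7, 0], [7, 4, 2], [1, 0, 3, 6, 4], [0, 5, 3, 0],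
  [0, 5, 4, 2], [6, 4, 7, 5], [2, 6, 7, 2], [0, 2, 2, 5], [5, 6, 1, 2], [1, 2, 5, 4, 2], [3, 2, 5, 4], [2, 0, 6, 2], [2, 3, 1], [4, 1, 3, 3, 6],
  [5, 7, 3, 0], [5, 3, 5, 5], [6, 4, 3], [0, 0, 5, 3, 0], [0, 6, 7, 5], [0, 4, 2, 1], [3, 2, 2, 3], [0, 0, 2, 2, 1], [0, 3, 0, 1], [4, 4, 6, 6],
  [0, 0, 3, 4, 7], [1, 7, 6, 0], [0, 0, 2, 5], [0, 2, 5, 2, 3], [0, 2, 2, 2], [0, 5, 4, 3], [1, 7, 0, 3], [7, 1, 2, 2], [6, 2, 6, 2], [5, 1, 7, 0],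
  [4, 3, 6, 4], [4, 6, 3, 3], [7, 1, 5, 3], [1, 5, 2], [1, 4, 2, 7], [5, 0, 2, 4], [5, 1, 3, 3], [1, 5, 0, 4], [0, 7, 1, 0, 3], [6, 7, 4, 1],
  [0, 7, 4, 1], [2, 4, 5, 6], [0, 7, 0, 1, 2], [0, 2, 4, 3, 0], [5, 3, 6, 4], [2, 7, 5, 3], [0, 0, 2, 2, 5], [3, 5, 7, 7], [2, 7, 2, 6], [0, 2, 5, 5],
  [4, 2, 5], [5, 0, 4, 7], [4, 3, 6, 5], [2, 2, 6, 7], [7, 2, 2, 4], [4, 3, 1, 5], [6, 5, 0, 6], [1, 5, 0], [1, 2, 6, 3], [1, 1, 4, 5],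
  [3, 4, 7, 6], [3, 4, 2, 2], [1, 2, 4, 2], [4, 5, 7, 3], [0, 1, 3, 5], [0, 0, 5, 3], [2, 1, 3, 5], [1, 1, 2, 7], [7, 1, 6, 1], [1, 2, 6, 1],
  [3, 1, 0, 5], [1, 5, 3], [0, 5, 0, 6], [5, 4, 1, 6], [1, 7, 0, 2], [4, 1, 4], [6, 5, 4, 3], [0, 2, 2, 4], [7, 6, 6, 5], [3, 2, 7, 2],
  [0, 2, 2, 1], [0, 0, 7, 3], [5, 2, 0, 5], [1, 5, 5, 1], [3, 4, 2, 1], [0, 4, 3], [0, 7, 3], [0, 0, 2, 7, 3], [2, 1, 7], [3, 1, 4, 1],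
  [0, 5, 3, 6], [1, 6, 3, 2], [0, 2, 6, 0, 3], [3, 1, 3, 6], [0, 6, 4, 3], [0, 6, 3, 0], [0, 6, 7, 1], [6, 3, 5, 0], [1, 3, 3, 5], [2, 2, 4],
  [1, 2, 1, 0], [2, 0, 2, 1], [1, 6, 6, 2], [0, 2, 3, 4, 6], [6, 7, 1], [2, 7, 6], [0, 2, 7, 6], [0, 0, 4, 1, 1], [4, 7, 0, 4], [3, 5, 1, 2],
  [3, 7], [4, 4, 0, 0], [0, 6, 1, 6], [4, 3, 7], [4, 5, 4], [7, 5, 5, 7], [3, 2, 2, 1], [6, 7, 2], [3, 5, 7, 1], [4, 6, 0, 2],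
  [2, 3, 0, 6, 4], [0, 1, 2, 0, 4], [5, 4, 6, 1], [0, 6, 2, 0], [0, 7], [3, 6, 4], [7, 6, 7, 4], [1, 6, 5], [0, 4, 4, 1], [6, 7, 1, 4],
  [1, 1, 7, 3], [0, 6, 1, 2, 7], [3, 2, 1], [2, 5, 3, 6], [3, 4, 6, 4], [1, 0, 7], [0, 1, 2, 6, 2], [0, 2, 1, 4], [0, 4, 6, 6, 1], [6, 4, 4, 1],
  [2, 6, 4, 3], [0, 2, 7, 2, 7], [1, 5, 5, 4], [7], [5, 1, 3, 1], [0, 4, 1, 7, 5], [3, 5, 5, 2], [2, 7, 1, 0], [1, 5, 3, 4], [1, 2, 6, 2],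
  [4, 1, 4, 3], [2, 6, 4, 0], [3, 1, 5, 0], [6, 4, 5, 5], [0, 6, 4, 4, 2], [1, 2, 1, 6], [0, 4, 4, 3, 6], [2, 2, 2, 4], [0, 7, 4, 2], [0, 2, 3, 7],
  [0, 0, 1, 6, 2], [0, 3, 3, 0, 1], [1, 1, 5], [7, 3], [7, 3, 2, 0], [0, 5, 6, 2, 2], [2, 7, 5, 2], [0, 1, 2, 6, 1], [0, 5, 3, 7], [4, 3, 0, 4],
  [7, 2, 5, 7], [0, 3, 0, 3], [2, 4, 7, 7], [3, 7, 6], [7, 6, 1], [3, 5, 0], [0, 0, 4], [0, 1, 0, 2, 4], [2, 3, 7, 6], [3, 1, 7, 3],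
  [4, 4, 0, 7], [2, 4, 0, 1], [6, 6, 4, 3], [0, 7, 4, 5], [1, 0, 5, 0], [0, 0, 4, 6], [0, 4], [0, 3, 0, 4, 5], [7, 2], [2, 0, 6, 0, 4],
  [0, 4, 5, 7, 3], [6, 1, 2], [5, 2, 6], [7, 5, 3], [0, 3, 6, 6], [0, 0, 3, 5, 6], [0, 1, 1, 3, 1], [5, 2], [4, 2, 3], [1, 6, 2, 4],
  [1, 0, 3, 5], [0, 2, 5, 3], [6, 2, 2, 5], [0, 2, 3, 0, 4], [6, 3, 6, 1], [2, 0, 4], [1, 1, 3, 1], [7, 2, 2], [4, 4, 2, 3], [7, 7, 7, 1],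
  [1, 7, 2, 7], [3, 0, 7, 1], [0, 0, 5, 5], [0, 0, 7], [1, 4, 7, 7], [0, 3, 2, 4], [0, 6, 6, 5, 1], [0, 6, 0, 7], [3, 7, 4, 5], [0, 0, 5, 1, 2],
  [0, 2, 0, 1, 2], [3, 4, 4, 2], [0, 0, 4, 7, 0], [0, 7, 1, 4, 5], [7, 1, 2, 0], [2, 7, 5, 1], [1, 5, 1], [0, 6, 5, 4, 0], [3, 1, 4, 4], [7, 6, 0, 3],
  [6, 7, 2, 2], [0, 6, 5], [2, 6, 4, 6], [7, 0, 2, 3], [0, 5, 1, 3, 7], [0, 2, 4], [0, 3, 6], [4, 7, 2], [7, 2, 5, 6], [0, 5, 4, 0, 0],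
  [0, 5, 0, 0, 4], [1, 3, 4], [0, 3, 2, 7, 0], [4, 1, 2, 4], [7, 2, 3, 6], [2, 3, 7], [1, 3, 4, 0, 2], [6, 5, 1], [5, 1, 6, 1], [6, 4, 4, 4],
  [0, 7, 2], [4, 7], [0, 0, 7, 2], [2, 3, 0, 1], [1, 6, 7, 6], [1, 2, 2, 0], [0, 4, 1, 7, 1], [3, 0, 2, 2], [2, 1, 0, 4], [0, 5, 7, 1],
  [7, 3, 7], [0, 7, 6], [0, 0, 5, 5, 6], [3, 6, 3, 7], [2, 0, 5], [2, 1, 4], [1, 2, 7, 3], [1, 5, 6, 3], [0, 4, 0, 5], [4, 3, 7, 6],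
  [2, 7, 3, 7], [6, 5, 1, 6], [0, 2, 3, 7, 6], [6, 5, 4, 5], [7, 2, 6], [0, 3, 2, 3, 5], [7, 4, 2, 6], [2, 1, 0, 7], [6, 2, 5, 5], [0, 1, 5, 2],
  [5, 6, 1, 1], [2, 5, 2], [0, 2, 1], [3, 7, 5, 4], [5, 0, 3, 3], [2, 6, 1, 6], [3, 1, 7, 7], [4, 1, 1], [2, 0, 1, 3, 5], [5, 5, 6, 5],
  [0, 4, 7, 7], [7, 1, 4, 5], [5, 1, 6, 5], [6, 1, 0, 1], [1, 3, 5, 5], [1, 2, 4, 1], [3, 5, 1, 5], [4, 7, 6, 7], [1, 5, 1, 3], [0, 4, 1, 5, 5],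
  [1, 4, 0, 1], [3, 6, 1, 7], [1, 4, 5, 2], [0, 7, 2, 3], [0, 0, 3, 5], [0, 2, 3, 4, 3], [0, 1, 5, 3, 4], [2, 0, 3, 6], [0, 0, 1, 5], [2, 4, 7],
  [2, 4, 5, 0], [6, 6, 7, 5], [0, 4, 3, 5, 2], [3, 2, 4], [2, 6, 1], [3, 7, 2, 5], [1, 1, 6, 2], [0, 1, 5, 0], [4, 6, 6, 6], [5, 2, 5, 2],
  [0, 3, 0, 5, 5], [3, 4, 3, 6], [2, 5, 7, 5], [0, 7, 7, 7], [0, 0, 2, 7, 2], [2, 6, 2, 0], [0, 0, 6, 3, 0], [1, 7, 6], [1, 0, 1, 6], [0, 1, 0],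
  [0, 2, 4, 7, 2], [4, 5, 6], [0], [7, 0, 5, 7], [4, 2], [1, 3, 3, 3], [3, 4, 7, 1], [1, 4, 1], [6, 3, 1, 1], [2, 5, 4, 4],
  [0, 1, 7, 0, 4], [3, 6, 4, 5], [2, 4, 2, 1], [5, 6, 5, 6], [3, 2, 5, 6], [0, 5, 7, 0], [5, 3, 7, 4], [0, 2, 5, 6], [4, 6, 3, 4], [6, 4, 7],
  [4, 3, 1, 2], [2, 4, 1], [0, 0, 7, 7], [4, 5, 4, 0], [0, 3, 2, 7, 7], [0, 7, 6, 0], [0, 3, 0, 5, 2], [2, 0, 7, 1], [0, 4, 1, 5], [5, 0, 2, 2],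
  [0, 4, 6, 4, 3], [0, 0, 2, 0, 3], [1, 5, 6, 0], [1, 2, 0, 2, 0], [4, 1, 0, 2], [1, 2, 1, 1], [5, 1, 4, 0], [4, 7, 6, 2], [0, 2, 2, 5, 5], [7, 4, 4],
  [2, 6, 0, 5], [3, 4, 6, 3], [2, 3, 5, 2], [3, 4, 0, 3], [0, 0, 6, 6], [6, 2, 7, 7], [0, 0, 6], [2, 1, 1, 2], [4, 1, 4, 7], [5, 5, 1, 2],
  [0, 6, 6], [3, 7, 5, 7], [2, 1, 6, 2], [1, 0, 6, 7, 5], [4, 2, 3, 5], [1, 3, 7, 7], [7, 6, 7, 3], [1, 3, 4, 7], [1, 1, 2], [0, 6],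
  [0, 4, 2, 0], [1, 3, 6, 3], [2, 0, 0, 1], [4, 5, 7], [0, 1, 5, 2, 5], [6, 5, 0, 1], [2, 4, 5, 1], [0, 1, 1, 6], [1, 3, 3, 6], [7, 6, 0],
  [0, 1, 1], [4, 1, 3, 0], [2, 4, 4], [4, 2, 0, 2], [0, 5, 4, 5, 6], [5, 5, 2, 0], [0, 5, 2, 5, 3], [7, 1, 1, 2], [4, 3, 2, 5], [1, 0, 6, 1],
  [1, 0, 5, 7, 4], [0, 0, 2], [0, 2, 7, 4, 3], [3, 3, 7], [2, 1, 5, 7], [1, 6, 6], [4, 4, 2], [6, 2, 6, 6], [7, 5, 7, 7], [0, 7, 1, 5],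
  [0, 4, 6, 0], [1, 4, 4, 0, 2], [1, 2, 0, 1], [1, 3, 0, 6], [1, 0, 3, 7], [2, 0, 6, 6], [1, 2, 5, 0], [6, 6, 7, 2], [0, 2, 7, 7], [6, 3, 4, 6],
  [7, 7, 6], [3, 4, 1, 0], [3, 0, 1, 7], [0, 0, 1, 6], [0, 1, 3, 6, 3], [5, 5, 2], [0, 0, 0, 2, 1], [6], [1, 7, 5], [2, 5, 3, 1],
  [0, 4, 5, 1], [6, 1, 4], [4, 2, 0], [2, 1, 2], [1, 0, 5, 3], [0, 2, 5, 3, 4], [3, 7, 4], [2, 0, 3, 7], [2, 3, 6, 3], [6, 7, 0, 6],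
  [1, 6, 2, 7], [0, 1, 7, 5], [5, 0, 7], [0, 0, 2, 7, 0], [0, 7, 0, 7], [4, 6, 7], [1, 0, 4, 5], [0, 0, 0, 1], [5, 4, 5], [0, 0, 3, 7, 3],
  [1, 4, 3, 2], [1, 2, 7, 0], [2, 3, 6, 7], [0, 6, 0, 5], [6, 5, 6, 0], [5, 2, 6, 5], [1, 3, 1, 4], [2, 1, 3, 2], [4, 7, 0, 3], [0, 3, 7, 7, 3],
  [7, 5, 7, 0], [1, 6, 2, 3], [2, 3, 7, 3], [1, 6, 2, 1], [3, 1, 7, 0], [1, 3, 2, 1], [2, 2, 7, 1], [0, 7, 1, 0, 4], [1, 5, 2, 5], [7, 2, 1, 0],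
  [6, 7, 0], [1, 1, 4, 2], [0, 5, 6, 2], [2, 7, 1], [4, 5, 1, 1], [1, 5, 4], [1, 4, 7], [6, 2, 2], [1, 3, 3], [1, 1, 7, 5],
  [3, 7, 6, 2], [3, 3, 4, 5], [2, 0, 1, 2], [2, 2, 1, 0], [0, 1, 3, 3], [0, 1, 2, 1], [0, 4, 4, 5, 2], [0, 1, 1, 1, 3], [5, 7, 2, 3], [2, 0, 5, 2],
  [0, 5, 3, 7, 2], [5, 0, 2, 6], [1, 6, 0], [1, 6, 3], [4, 7, 5], [2, 1, 0, 3], [5, 1, 4, 1], [2, 1], [2, 2, 1, 1], [2, 7, 0, 2],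
  [2, 0, 4, 0], [2, 0, 0, 5], [2, 1, 3], [7, 3, 6, 6], [5, 5, 1, 6], [0, 2, 1, 0], [1, 0, 6, 2], [0, 1, 0, 3], [3, 6, 6, 3], [1, 2, 6, 1, 5],
  [7, 5, 2, 7], [4, 1, 5, 6], [3, 5, 0, 2], [3, 1, 3, 1], [5, 0, 2, 3], [2, 7, 1, 4], [1, 0, 5, 5], [1, 1, 6, 4], [0, 3, 3, 4], [6, 5, 7, 0],
  [1, 0, 6, 0, 3], [5, 1, 5, 1], [1, 7, 4, 3], [7, 7, 0], [0, 2, 1, 2], [3, 0, 0, 1], [1, 7, 4, 6, 1], [4, 1, 6, 7], [3, 5, 2], [0, 5, 0, 0, 6],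
  [1, 0, 0, 3, 7], [0, 3, 7, 3], [4, 4, 4, 6], [3, 5, 2, 3], [5, 3, 0, 1], [1, 5, 3, 5], [4, 4, 0, 4], [0, 7, 4, 3, 2], [0, 0, 3, 3], [1, 5, 1, 5],
  [3, 3, 6, 5], [3, 5, 1], [1, 6, 7, 4], [3, 7, 7, 5], [6, 1, 7, 1], [0, 0, 6, 4, 2], [0, 3, 2, 3], [4, 3, 0], [6, 1, 2, 2], [2, 7, 4, 4],
  [0, 2, 2, 0], [0, 5, 1, 1], [1, 0, 3], [5, 6, 1, 0], [0, 6, 3, 2, 3], [4, 7, 6, 0], [0, 7, 4, 3, 5], [2, 1, 6, 3], [1, 6, 4, 2], [6, 3, 5, 1],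
  [0, 4, 1, 7, 0], [0, 3, 3, 7], [7, 3, 6, 7], [1, 2, 0, 7], [1, 2, 1, 5], [0, 6, 3, 1], [5, 3, 5], [3, 0, 1, 6], [0, 6, 3, 4], [1, 5, 0, 5],
  [2, 1, 0], [1, 4, 6, 3], [0, 0, 1, 5, 5], [3, 7, 5, 1], [5, 6, 4, 2], [1, 2, 1, 4], [0, 3, 0, 2, 7], [6, 5, 6], [1, 0, 2, 2], [7, 5],
  [1, 3, 3, 0], [1, 7, 0, 6], [1, 0, 2, 1], [2, 5, 0], [0, 6, 4, 3, 7], [7, 1, 5], [4, 7, 1, 2], [4, 7, 7, 1], [0, 2, 1, 3], [4, 6, 1],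
  [0, 7, 7], [0, 4, 5, 3], [0, 6, 0, 1], [2, 0, 7, 4], [1, 0, 7, 5], [6, 4, 0, 6], [0, 4, 2, 6], [0, 3, 6, 7, 3], [0, 1, 6, 6], [5, 1, 6, 7],
  [1, 5, 7, 1], [7, 1, 3, 6], [4, 4, 2, 4], [0, 2, 0, 4, 0], [0, 5, 0, 1], [0, 0, 0, 1, 7], [3, 4, 5, 2], [1, 6, 7, 5], [3, 4, 6, 6], [4, 7, 2, 5],
  [1, 2, 5, 2, 0], [2, 2, 1, 3], [1, 4, 3, 4], [0, 0], [3, 3, 6, 3], [4, 7, 3, 3], [1, 3, 6], [7, 2, 5, 2], [3, 4, 1, 2], [0, 3, 2, 6],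
  [3, 4, 0, 7], [0, 6, 3, 2], [2, 5, 7], [5, 3, 5, 0], [0, 7, 5, 5, 6], [2, 0], [6, 4, 7, 0], [0, 4, 7, 5, 5], [2, 6, 0, 2], [0, 5, 3, 1],
  [6, 5, 0, 2], [0, 3, 5, 1], [5, 2, 0, 6], [0, 7, 7, 0], [0, 7, 0, 4], [3, 0, 4, 1], [5, 3, 1], [7, 6, 5, 5], [3, 7, 7, 3], [6, 5, 6, 7],
  [0, 5, 2, 4], [1, 2, 6, 0, 1], [3, 4, 0], [0, 5, 3, 5], [4, 7, 3, 2], [4, 6, 0, 6], [4, 6, 3, 7], [0, 2, 3, 0], [0, 7, 0, 6, 1], [3, 5, 5],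
  [3, 5, 3], [2, 7, 7, 6], [2, 7, 2, 2], [6, 3, 6, 4], [2], [1, 1, 4, 6, 0], [3, 3, 1, 5], [0, 5, 0], [1, 0, 2], [0, 0, 3, 0, 1],
  [0, 2, 6, 5, 4], [0, 3, 6, 7], [0, 5, 0, 3, 4], [1, 2, 3, 4], [2, 2, 5, 1], [5, 4, 0, 6], [4, 3, 2], [0, 2, 4, 1, 7], [2, 2, 3, 1], [0, 2, 6, 6],
  [2, 0, 1, 0], [1, 7, 5, 3], [4, 6, 3, 6], [3, 4, 4, 0], [1, 6, 1, 4], [0, 5, 1, 7], [1, 5, 7], [0, 0, 5, 6], [3, 7, 5], [1, 4, 1, 3],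
  [2, 6, 6, 1], [0, 4, 5], [0, 2, 7, 4], [0, 7, 7, 6, 6], [0, 7, 3, 5, 7], [3, 0, 7, 3], [2, 7, 5, 7], [0, 1, 6, 1, 2], [0, 7, 3, 5], [6, 3, 7, 0],
  [5, 0, 3, 1], [1, 7, 7, 2], [1, 1, 6], [5, 0, 4], [1, 1, 6, 1], [2, 2, 3], [6, 2, 3, 3], [1, 3, 0, 2], [0, 0, 6, 0, 1], [5, 7, 1, 1],
  [1, 4, 0, 7], [2, 7, 3, 2], [1, 5, 6, 5], [1, 2, 2, 4], [6, 2, 2, 3], [2, 1, 3, 6], [2, 5, 6, 2], [0, 4, 4, 3], [0, 2, 3, 4, 1], [7, 7, 2],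
  [0, 2, 3, 5], [3, 6, 1, 5], [0, 4, 7, 5], [1, 6, 0, 5, 1], [4, 1, 3, 5], [1, 7, 5, 6], [2, 4, 2, 1, 7], [7, 4, 7, 3], [1, 6, 2], [0, 1, 3, 2],
  [0, 1, 1, 1, 2], [0, 5, 1], [5, 1], [0, 0, 2, 6], [2, 3, 7, 4], [2, 4, 5, 7], [6, 5, 0], [2, 4, 5], [6, 2, 5, 0], [0, 1, 3, 5, 4],
  [1, 2], [1, 6, 1, 2], [1, 5, 4, 6], [3, 6, 7, 5], [0, 0, 5, 5, 4], [6, 6], [7, 2, 4], [5, 1, 6, 4], [0, 1, 7, 0, 2], [0, 2, 6, 3],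
  [2, 0, 5, 5], [0, 0, 0, 5, 1], [0, 1, 2, 1, 2], [1, 2, 0], [5, 5, 4, 4], [1, 5, 7, 5], [0, 1, 3, 0, 2], [3, 7, 0, 7], [5, 0, 7, 2], [3, 5, 4],
  [3, 0, 2, 3], [1, 0, 5, 4], [5, 2, 5, 3], [0, 2, 6, 4], [2, 4, 4, 2], [4, 2, 2, 5], [1, 2, 7], [1, 3, 5, 7], [2, 5], [3, 7, 4, 0],
  [5, 5, 6, 7], [3, 6, 7], [0, 7, 6, 5], [3, 0, 2], [4, 6, 5, 5], [0, 1, 0, 2], [3, 6, 1], [4, 1, 3, 1], [7, 1, 2, 6], [0, 2, 2, 7, 5],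
  [2, 5, 7, 2], [3, 3, 3], [3, 6, 3], [1, 4, 4], [0, 0, 3, 2], [2, 5, 3], [7, 0, 7], [0, 0, 5, 0, 0], [0, 2, 6, 6, 1], [0, 7, 4, 0],
  [3, 1, 1], [0, 3, 5, 4, 2], [3, 0, 2, 1], [5, 0, 3], [0, 2, 0, 4, 3], [0, 5, 4, 6], [2, 0, 4, 3], [2, 1, 5, 4], [0, 1, 7, 5, 6], [0, 3, 6, 3],
  [0, 6, 1, 7], [0, 7, 4, 7], [5, 3], [2, 0, 3, 3], [1, 2, 5, 5], [0, 1, 4, 4], [2, 3, 7, 7], [6, 3, 5], [2, 0, 3, 6, 4], [3, 3, 4, 1],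
  [4, 3, 5, 1], [2, 3, 0, 4], [0, 1, 3, 2, 0], [1, 6, 3, 6], [7, 0, 6, 5], [6, 4, 3, 7], [2, 2, 4, 4], [0, 2, 1, 5], [2, 1, 5, 3], [0, 7, 7, 6, 7],
  [0, 1, 0, 6], [1, 3, 3, 7], [0, 1, 5, 1, 0], [4, 7, 7, 5], [0, 3, 7, 4], [6, 7, 7], [1, 3, 2], [7, 4, 2, 5], [2, 1, 4, 4], [0, 3, 5],
  [0, 1, 2, 1, 6], [5, 1, 2, 3], [4, 4, 4, 0], [0, 4, 3, 4], [0, 4, 2, 5, 1], [0, 2, 1, 0, 2], [3, 2, 3, 0], [0, 0, 6, 7], [0, 6, 6, 2], [0, 3, 6, 4],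
  [2, 4, 2], [2, 0, 0, 4], [0, 1, 7, 2, 1], [0, 0, 0, 2], [4, 4, 1, 7], [1, 4, 0, 5, 6], [4, 4, 5, 5], [4, 3, 6, 3], [0, 2, 0, 2, 6], [3, 1, 1, 1],
  [1, 3, 2, 5], [6, 1, 1], [1, 1, 3, 6], [4, 1, 3], [7, 3, 7, 2], [5, 0, 4, 4], [0, 3, 2, 7, 6], [0, 0, 6, 6, 4], [7, 6, 5, 2], [1, 3, 6, 7],
  [0, 1, 5, 7, 1], [5, 5, 0, 0], [3, 4, 0, 4], [0, 1, 2], [2, 2, 6, 3], [0, 6, 5, 0], [0, 0, 1, 4, 7], [6, 1, 4, 3], [1, 5, 5, 3], [4, 6],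
  [0, 2, 1, 4, 7], [2, 4, 3, 7], [5, 1, 2, 5], [6, 3, 1], [5, 4, 1, 7], [2, 0, 2, 6], [5, 0, 1], [0, 6, 4, 7], [2, 6, 6], [1, 3, 5, 6],
  [3, 0, 7, 6], [1, 6, 6, 4], [0, 2, 0, 0, 5], [4, 4, 7, 7], [5, 1, 7, 6], [7, 1, 2, 7], [0, 1, 5, 1, 5], [2, 5, 0, 7], [2, 5, 2, 7], [0, 2, 7, 3, 6],
  [5, 2, 6, 2], [6, 1, 7], [3, 3, 0, 7], [1, 0, 1, 0], [5, 1, 3, 6], [0, 5, 3, 2], [0, 7, 0, 6], [0, 3, 5, 5, 1], [1, 4, 3, 6], [2, 0, 6, 0],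
  [7, 3, 5], [2, 1, 5, 1], [0, 3, 4], [5, 7, 1], [0, 2, 3, 5, 5], [5, 7], [3, 0, 0, 2], [0, 0, 6, 3, 6], [3, 0, 4, 0], [0, 2, 6, 3, 1],
  [2, 0, 0, 3, 7], [5, 2, 4, 4], [1, 7, 1, 6], [2, 7, 1, 7], [1, 6, 5, 7], [2, 7, 2], [1, 7, 4, 4], [0, 6, 3], [0, 1, 7, 4, 0], [0, 2, 4, 5],
  [7, 1, 1, 6], [0, 5, 3, 6, 7], [4, 7, 1, 5], [2, 0, 3, 4], [1, 2, 3, 1], [0, 0, 0, 5], [1, 0, 1, 0, 5], [2, 1, 4, 7], [7, 2, 2, 3], [5, 0, 4, 3],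
  [0, 6, 0], [4, 5, 3, 5], [1, 5, 3, 1, 7], [3, 6, 3, 4], [3, 2, 7, 6], [0, 3, 5, 5, 5], [5, 4, 1], [1, 2, 1, 2], [2, 6, 7, 6], [1, 3, 1, 6],
  [0, 4, 3, 7], [3, 0, 5, 7], [1, 6, 2, 0], [1, 5, 2, 3], [6, 4, 5, 6], [7, 0, 6, 2], [0, 1, 7, 2], [0, 3, 3], [1, 6, 0, 4], [2, 3, 1, 3],
  [4, 5, 0, 5], [0, 6, 4, 1], [0, 0, 5, 5, 3], [0, 1, 4, 6], [0, 4, 0, 0], [2, 1, 3, 4], [0, 0, 0, 0, 2], [2, 4, 5, 4], [2, 2, 4, 3], [3, 4, 7],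
  [2, 0, 7], [0, 2, 2, 7], [0, 4, 7, 4, 7], [1, 0, 0, 3], [0, 0, 2, 7], [0, 0, 3, 0], [6, 4, 4, 0], [0, 4, 4, 0], [7, 4, 6], [5, 3, 5, 7],
  [5, 1, 5], [0, 1, 2, 6, 6], [1, 4, 6, 2], [0, 4, 4, 1, 5], [5, 1, 5, 7], [0, 5, 0, 4, 6], [6, 7, 7, 0], [2, 0, 0], [1, 2, 1], [6, 1, 7, 5],
  [0, 1, 2, 5, 4], [7, 7, 2, 0], [2, 3, 4], [0, 0, 6, 0], [0, 1, 5, 4], [0, 6, 5, 3], [5, 1, 2], [1, 2, 3, 3], [1, 2, 3, 5], [0, 4, 2, 5, 3],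
  [1, 5, 3, 3], [4, 1, 2, 0], [0, 0, 3, 7, 4], [3, 2, 4, 5], [4, 2, 5, 3], [2, 6, 5, 1], [0, 3, 5, 5], [3, 7, 0, 4], [3, 3, 4], [5, 7, 5],
  [0, 7, 3, 5, 5], [0, 5, 3, 6, 5], [2, 3, 3, 1], [3, 2, 5, 2], [0, 4, 5, 6, 7], [2, 1, 1, 0], [3, 1, 0], [3, 1, 3, 0], [1, 2, 0, 5], [2, 0, 5, 1],
  [1, 1, 3, 2], [5, 6, 3], [0, 0, 0, 0, 7], [0, 4, 5, 7], [0, 5, 4, 4], [0, 3, 0, 3, 5], [2, 4, 0], [7, 4, 3, 4], [6, 4, 5, 0], [5, 2, 0],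
  [3, 6, 6], [0, 7, 3, 0], [1, 1, 4], [2, 1, 4, 5], [2, 7, 4], [4, 4, 6, 4], [6, 3, 1, 5], [5, 3, 5, 3], [2, 2, 1, 6], [0, 2, 5, 2],
  [2, 2, 2, 3], [3, 7, 6, 0], [3, 1, 4], [5, 3, 7, 7], [0, 6, 4, 4], [1, 0, 1, 2], [3, 7, 1], [4, 5, 0, 6], [0, 3, 3, 5], [4, 1, 5, 2],
  [0, 4, 7, 7, 0], [6, 2, 7, 1], [6, 6, 7], [2, 2, 6, 2], [0, 2, 1, 2, 3], [1, 2, 2, 3], [7, 0, 0, 1], [7, 1, 7, 5], [7, 4, 5, 5], [1, 4, 2, 2],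
  [0, 1, 3, 2, 6], [2, 6, 2], [0, 7, 3, 4], [2, 3, 0, 2], [3, 6, 5, 5], [5, 7, 0, 5], [3, 2], [0, 2, 5, 4, 2], [3, 2, 4, 4], [4, 1, 0, 0],
  [7, 6, 2], [2, 3, 7, 1], [4, 6, 3, 0], [0, 3, 3, 6, 1], [1, 3, 0, 2, 6], [4, 2, 4, 0], [4, 3, 6, 2], [0, 1, 4, 1, 0], [0, 3, 7, 3, 3], [2, 3, 7, 3, 3],
  [0, 4, 0], [5, 0, 3, 5], [1, 1, 1, 6, 5], [3, 5, 6, 7], [0, 7, 0], [5, 0, 1, 6], [2, 0, 5, 0], [1, 2, 0, 6], [5, 0, 5, 5], [2, 4, 3, 0, 3],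
  [0, 6, 0, 6, 4], [0, 7, 4], [1, 2, 6], [0, 0, 6, 3], [1, 3, 1, 0], [3, 7, 0], [0, 1, 2, 6], [3, 1, 5, 1], [0, 5, 0, 0], [1, 1, 6, 0],
  [2, 2, 7, 4], [1, 2, 0, 3], [0, 5, 3, 4], [2, 3, 1, 7], [1, 4, 4, 0], [0, 2, 1, 3, 0], [2, 4, 0, 7], [5, 6], [7, 5, 2, 5], [0, 2],
  [1, 6, 0, 2], [0, 2, 3, 3, 1], [2, 7, 0, 1], [4, 6, 0], [0, 6, 5, 2, 1], [1, 0, 0, 3, 5], [0, 4, 7, 7, 1], [6, 3, 6], [0, 1, 2, 5], [0, 6, 7],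
  [0, 2, 7, 6, 3], [3, 2, 2], [5, 2, 5, 5], [6, 3, 1, 3], [0, 5, 6], [0, 4, 1, 1, 5], [3, 5, 4, 5], [7, 7, 3, 0], [6, 3, 6, 2], [2, 2, 3, 7],
  [1, 4, 3], [0, 2, 1, 1, 0], [3, 4, 5, 7], [2, 6, 0, 1], [1, 3, 7, 5], [2, 4, 6, 5], [0, 7, 3, 1], [0, 5, 2, 0], [0, 0, 2, 4, 0], [5, 2, 1],
  [4, 2, 3, 1], [0, 0, 4, 3], [2, 3], [0, 2, 7, 5, 5], [1, 3, 4, 3], [2, 4, 5, 3], [2, 0, 0, 3], [3, 7, 1, 2], [0, 7, 5, 5], [0, 2, 7, 3],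
  [0, 0, 2, 0], [4, 4], [0, 3, 6, 2, 4], [7, 1, 5, 0], [1, 2, 7, 6], [4, 3, 4, 3], [4, 5, 2, 4], [1, 5, 7, 6], [6, 6, 7, 7], [2, 3, 2],
  [0, 4, 4], [1, 1, 2, 2], [1, 0, 6, 6, 7], [3, 0, 4, 3], [5, 5, 1, 7], [3, 1, 1, 6], [1, 3, 2, 6], [6, 2], [4, 1, 3, 6], [0, 7, 2, 7],
  [0, 3, 0, 1, 4], [0, 2, 1, 4, 3], [2, 7, 0, 4], [4, 4, 5, 3], [0, 6, 2], [2, 1, 7, 4], [5, 2, 4], [3, 5, 0, 4], [5, 4, 6, 4], [1, 5, 0, 3],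
  [0, 3, 3, 5, 0], [1, 2, 4, 4], [0, 7, 2, 3, 1], [0, 0, 2, 6, 6], [3, 5, 0, 5], [5, 3, 0, 3], [5, 5], [2, 7, 7], [2, 3, 2, 7], [1, 0, 4, 1],
  [1, 3, 5, 5, 6], [1, 2, 3, 2], [0, 2, 3, 0, 7], [0, 7, 3, 3, 0], [0, 3, 5, 4], [4, 1, 7], [0, 1, 3, 0], [1, 7, 4, 7], [0, 4, 3, 1], [1, 4, 7, 4],
  [0, 0, 1, 5, 6], [6, 7], [0, 0, 7, 3, 7], [7, 7, 3], [1, 3, 4, 5], [1, 1, 5, 6], [1, 5, 1, 2], [0, 7, 7, 3], [4, 5, 4, 6], [5, 7, 1, 5],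
  [3, 1, 2], [0, 7, 6, 1], [0, 3, 0, 7], [3, 5, 4, 4], [1, 3], [1, 4, 4, 4], [2, 3, 1, 2], [5, 6, 2, 7], [0, 4, 3, 0], [0, 7, 1, 2, 7],
  [6, 4, 3, 1], [0, 5, 0, 4], [7, 4, 2, 0], [0, 1, 7, 7, 3], [0, 5, 2, 1], [4, 1, 4, 5], [5, 4, 4, 7], [6, 4], [0, 0, 2, 4], [4, 3, 3],
  [6, 4, 3, 6], [4, 6, 5, 1], [2, 6, 2, 3], [0, 6, 6, 3], [3, 2, 3, 1], [0, 0, 3], [3, 0], [0, 2, 7, 2, 2], [2, 6, 5, 2], [0, 3, 4, 5],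
  [5, 3, 2, 0], [1, 1, 1, 7], [4, 5, 3, 6], [1, 4, 0], [5, 1, 3, 4], [0, 7, 1, 4], [6, 2, 3], [1, 6, 1, 0], [0, 3, 6, 3, 5], [0, 2, 3, 7, 1],
  [6, 3, 2, 6], [6, 6, 2, 1], [0, 0, 7, 1, 4], [0, 3, 4, 2, 4], [2, 6, 0, 6], [1, 6, 5, 1], [0, 2, 7, 3, 4], [1, 1, 3, 0], [7, 2, 0], [0, 4, 2, 5, 5],
  [6, 3, 2, 1], [0, 1, 5, 0, 1], [5, 7, 3, 2], [0, 0, 3, 1, 3], [7, 0, 0, 6], [2, 4, 6, 4], [0, 4, 6, 6], [6, 4, 4], [1, 7, 7, 3], [2, 7, 5],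
  [2, 6, 4, 4], [0, 0, 5, 3, 1], [2, 6, 7, 0], [2, 3, 5, 3], [0, 2, 2, 1, 1], [0, 1, 7, 1], [2, 5, 3, 4], [0, 4, 6, 1], [1, 2, 5, 2], [0, 2, 1, 1],
  [5, 7, 2], [0, 1, 3, 7], [3, 6, 3, 0], [1, 0, 2, 4], [0, 7, 5, 1], [5, 4, 2, 5], [3, 5, 0, 1], [0, 0, 4, 1], [3, 1, 7], [1, 6, 5, 5],
  [0, 0, 1, 7], [0, 5, 1, 5], [1, 0, 4, 3], [7, 3, 7, 6], [1, 7, 1], [7, 3, 7, 3], [2, 4, 0, 0], [0, 0, 3, 7, 5], [1, 4, 6, 0], [7, 2, 6, 6],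
  [3, 3, 0], [1, 0, 6, 3], [6, 7, 1, 3], [5, 2, 6, 1], [7, 5, 3, 1], [3, 4, 5, 3], [3, 4, 1, 1], [6, 5, 1, 5], [1, 2, 7, 3, 1], [0, 1, 3, 5, 5],
  [7, 6, 1, 1], [3, 7, 6, 1], [0, 3, 0], [4, 3, 7, 1], [2, 3, 4, 2], [0, 3, 0, 1, 1], [4, 4, 4], [0, 0, 4, 4, 6], [0, 4, 1, 6], [0, 1, 5, 3, 1],
  [0, 3, 2, 4, 1], [0, 3, 2], [0, 3, 0, 2, 6], [7, 1, 1, 4], [7, 1, 1], [0, 3, 6, 1, 2], [1, 7, 4], [5, 5, 4, 3], [7, 0, 7, 2], [4, 5, 4, 7],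
  [3, 2, 2, 4], [1, 0, 0, 6], [1, 0, 7, 1], [5, 1, 3], [1, 1, 7, 1, 1], [7, 1, 3, 7], [1, 1, 4, 4], [0, 0, 5, 0, 1], [1, 7, 2, 3], [2, 3, 4, 5, 3],
  [1, 5, 0, 1], [5, 7, 3, 5], [1, 2, 7, 7], [1, 3, 1, 7], [0, 2, 5, 7], [5, 7, 6, 2], [0, 0, 5, 3, 7], [3, 4, 5], [7, 0, 6], [0, 5, 7, 2],
  [3, 1, 6], [3, 5, 2, 7], [6, 4, 7, 3], [0, 7, 4, 3, 4], [0, 0, 0, 4], [1, 1, 3, 1, 5], [0, 2, 0, 4], [0, 0, 4, 2, 2], [0, 2, 3], [3, 3, 1],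
  [3, 6, 5], [0, 0, 6, 2, 4], [0, 2, 6, 7, 0], [0, 0, 2, 7, 5], [1, 3, 7], [0, 0, 7, 1], [5, 6, 1, 3], [6, 1, 2, 7], [0, 7, 5], [1, 3, 5, 0],
  [3, 4, 1], [5, 5, 6, 4], [1, 0, 6, 6], [3, 6, 5, 1], [3, 3, 1, 1], [1, 2, 0, 5, 3], [2, 0, 7, 5], [0, 3, 4, 7], [3, 0, 5, 4], [2, 6, 1, 0],
  [1, 4, 6], [1, 0, 6, 4], [7, 4, 0], [3, 5, 6], [6, 7, 3, 5], [0, 1, 4, 5, 3], [0, 2, 4, 0], [1, 4, 5], [6, 2, 1, 0], [0, 0, 5, 5, 1],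
  [1, 1, 1, 4], [5, 2, 5], [1, 2, 7, 5], [7, 0, 0], [0, 0, 5, 0], [0, 4, 5, 6], [1, 5, 5, 2], [4, 7, 1], [0, 7, 2, 1], [5, 7, 6, 1],
  [1, 0, 0, 1, 5], [0, 2, 0, 3], [1, 5, 0, 3, 3], [0, 0, 6, 7, 6], [2, 6, 1, 1], [1, 5, 6, 5, 6], [0, 3, 2, 7, 3], [0, 4, 4, 0, 6], [3, 5, 5, 3], [3, 4, 5, 5],
  [0, 1, 5, 1], [2, 6, 4], [0, 5, 4, 0, 4], [4, 6, 6], [2, 0, 3], [0, 1, 5], [2, 2, 3, 5], [4, 5, 3], [1, 6, 4, 7], [4, 1, 2],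
  [2, 7, 0, 5], [1, 7, 7, 7], [1, 1, 7, 1], [3, 1, 5], [0, 3, 3, 6], [5, 5, 7], [0, 3, 6, 1], [0, 2, 4, 1], [5, 7, 6], [2, 0, 3, 1],
  [4, 4, 3, 0], [1, 0, 2, 6], [4, 1, 4, 1], [3, 4, 7, 5], [0, 2, 4, 0, 7], [0, 0, 4, 7, 4], [1, 0, 4], [5, 7, 0], [3, 5, 1, 0], [0, 2, 0, 4, 5],
  [7, 2, 1, 1], [2, 4, 6], [4, 2, 5, 7], [1, 5, 4, 0], [2, 5, 7, 0], [7, 2, 2, 1], [5, 3, 2, 3], [3, 4, 3], [0, 0, 4, 6, 1], [1, 3, 7, 3],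
  [3, 4], [4, 2, 7, 5], [6, 4, 3, 5], [0, 0, 6, 6, 2], [7, 2, 3], [0, 3, 5, 0], [3, 6, 4, 1], [4, 3, 5, 4], [0, 0, 0, 6], [2, 5, 4, 6],
  [2, 4, 3, 4], [4, 2, 7], [2, 3, 6, 4], [1, 0, 5, 6], [7, 2, 5], [0, 5, 2, 5], [4, 6, 5], [0, 4, 1, 1], [7, 5, 2], [4, 2, 2],
  [4, 4, 2, 2], [0, 4, 1], [0, 4, 3, 5], [0, 7, 1], [5, 0, 5], [5, 3, 2, 4], [4, 5, 4, 5], [6, 1, 4, 2], [0, 1, 5, 3], [1, 4, 4, 6],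
  [0, 0, 4, 4], [7, 6, 6, 7], [2, 7, 2, 0], [7, 3, 1], [2, 0, 0, 6], [0, 0, 3, 7], [0, 1, 6, 7, 3], [2, 7, 0, 7], [4, 5, 7, 0], [3, 5, 4, 6],
  [3, 1, 0, 7], [1, 2, 2, 0, 1], [2, 1, 3, 7], [7, 6, 0, 2], [2, 0, 5, 5, 3], [4, 7, 3], [0, 1, 5, 1, 1], [1, 1, 1, 7, 0], [1, 1, 6, 6], [1, 5, 3, 1],
  [0, 0, 3, 2, 6], [0, 1, 1, 7, 1], [2, 4, 1, 2], [1, 1, 7], [0, 3, 0, 2], [4, 4, 0], [2, 1, 5, 0], [6, 3, 4, 3], [0, 4, 6], [2, 2, 4, 6],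
  [6, 3, 6, 7], [1, 0, 0, 1], [2, 3, 3], [0, 5, 2], [4, 2, 2, 1], [0, 0, 0, 0], [0, 6, 5, 2], [0, 1, 0, 1, 3], [7, 2, 1], [3, 2, 1, 5],
  [1, 7, 5, 4], [1, 3, 7, 1], [1, 6, 2, 5], [1, 0, 0], [0, 2, 6, 0], [1, 2, 3, 0], [1, 2, 4, 5, 7], [1, 4, 1, 4], [3, 3], [0, 2, 1, 5, 4],
  [2, 0, 3, 5], [2, 6, 0], [7, 1, 4, 0], [5, 7, 0, 7], [7, 0, 5], [2, 0, 4, 1], [6, 2, 7], [1, 6, 0, 3], [1, 4, 5, 1], [1, 7],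
  [2, 4, 1, 3], [7, 5, 7], [4, 1, 5, 7], [0, 7, 6, 5, 4], [0, 6, 1, 5], [0, 2, 7, 5], [0, 3], [1, 0, 6, 7], [2, 4, 7, 1], [6, 3, 2],
  [3, 2, 3], [5, 4, 2], [7, 2, 2, 2], [0, 2, 7, 0], [3, 3, 6], [0, 7, 2, 5], [4, 3, 4, 0], [7, 3, 2], [2, 3, 4, 5], [0, 2, 0, 0],
  [1, 4, 0, 3, 5], [1, 5, 6, 2], [0, 1, 6, 7], [0, 1, 1, 0, 0], [1, 5, 1, 3, 5], [4, 4, 0, 1], [0, 6, 5, 1], [1, 1, 2, 3], [3, 2, 7, 0], [0, 4, 3, 0, 4],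
  [0, 0, 1, 5, 1], [5, 1, 6, 0], [0, 3, 2, 6, 7], [1, 0, 1, 3], [7, 5, 1, 7], [1, 6, 7, 1], [0, 1, 1, 7], [0, 7, 2, 2], [3, 5, 6, 3], [0, 6, 4, 1, 2],
  [0, 2, 0, 4, 1], [1, 0, 0, 2], [0, 1, 7], [3, 3, 7, 7], [0, 2, 3, 3], [2, 2, 3, 3], [4, 6, 6, 2], [4, 5, 4, 1], [1, 4, 4, 7], [5, 7, 7, 7],
  [1, 2, 5], [0, 2, 3, 2], [0, 5, 3, 0, 6], [0, 7, 1, 1], [5, 1, 2, 0], [3, 4, 0, 0], [0, 7, 3, 6], [1, 0, 3, 4], [3, 5, 2, 4], [0, 4, 5, 4],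
  [0, 0, 7, 6], [0, 1, 0, 6, 2], [5, 3, 0, 5], [0, 4, 7, 3], [1, 2, 7, 2], [2, 1, 5, 5], [3, 3, 7, 4], [0, 3, 4, 2], [5, 6, 4], [0, 3, 4, 3],
  [0, 1, 5, 6], [0, 4, 1, 2], [1, 0, 3, 0], [5, 7, 5, 2], [0, 3, 7, 7], [0, 7, 2, 2, 6], [3, 2, 4, 1], [4, 7, 2, 1], [5, 2, 5, 6], [1, 6, 7],
  [7, 1], [5, 0, 5, 2], [0, 0, 2, 2, 7], [6, 6, 2], [2, 2, 3, 2], [4, 3, 3, 4]]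


end Cfsg.Agent.Lib.Helper9.M24
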