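import Mathlib
import Cfsg.Prelude.Def_Sporadic_a
import Cfsg.Prelude.Def_SporadicCombinatorics
import Cfsg.Agent.Lib.Helper9.OrbitInst

set_option autoImplicit false
open Cfsg

/-! Orbit lower bounds on dodecads; transitivity from a full-size orbit. -/

namespace Cfsg.Agent.Lib.Helper9.M24

open scoped Pointwise
open Cfsg.Agent.Lib.Helper1 (gIdx ofMask cw popcN)

section

variable {α : Type*} [MulAction (Equiv.Perm GolayPt) α]

/-- Combined Boolean certificate for an orbit on dodecads. -/
def orbChkDod (gens : List (List ℕ)) (root n : ℕ) (L : List ℕ) (W : List (List ℕ)) : Bool :=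
  decide (root < 16777216) && lenB n L && L.isSublist dodLit &&
    certB (fun j z => pmaskF (gens.getD j idt) z) sameSet root L W

theorem orbit_lower_dod (X : α) (fix : List ℕ → Bool)
    (hfix : ∀ a, tabOK a = true → tperm a ∈ M24 → fix a = true → tperm a • X = X)
    (gens : List (List ℕ)) (hgens : (idt :: gens).all (genOK fix) = true)
    (root n : ℕ) (L : List ℕ) (W : List (List ℕ)) (h : orbChkDod gens root n L W = true) :
    n ≤ (stabOrbit X (mset root)).ncard := by
  unfold orbChkDod at h
  simp only [Bool.and_eq_true, decide_eq_true_eq] at h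
  obtain ⟨⟨⟨h1, h2⟩, h3⟩, h4⟩ := h
  have hsub : L.Sublist dodLit := List.isSublist_iff_sublist.mp h3
  rw [← length_of_lenB n L h2]
  apply orbit_lower_of_cert X mset (fun z => z < 2 ^ 24) (fun a z => pmaskF a z) hact_set gens idt
    (gens_spec X fix hfix gens hgens) root h1 mset sameSet L W
  · intro z b _ _ hs
    exact sameSet_spec hs
  · exact hsub.nodup (nodup_of_chainB dodLit_chain)
  · intro a ha b hb hab
    exact mset_injOn (dodLit_spec (hsub.subset ha)).1 (dodLit_spec (hsub.subset hb)).1 hab
  · exact h4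

end

/-- The fixing test that always succeeds, for the whole group. -/
theorem hfix_all : ∀ a, tabOK a = true → tperm a ∈ M24 → (fun _ : List ℕ => true) a = true →
    tperm a • (∅ : Finset GolayPt) = ∅ :=
  fun _ _ _ _ => Finset.smul_finset_empty _

/-- If the orbit of `y` under the whole group is as large as the invariant family containing it, the group
is transitive on the family. -/
theorem transitive_of_lower {β : Type*} [MulAction (Equiv.Perm GolayPt) β] {𝒴 : Set β} (hfin : 𝒴.Finite)
    (h𝒴 : ∀ g ∈ M24, ∀ y ∈ 𝒴, g • y ∈ 𝒴) {y : β} (hy : y ∈ 𝒴)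
    (hlow : 𝒴.ncard ≤ (stabOrbit (∅ : Finset GolayPt) y).ncard) {z : β} (hz : z ∈ 𝒴) :
    ∃ g ∈ M24, g • y = z := by
  have hsub : stabOrbit (∅ : Finset GolayPt) y ⊆ 𝒴 := stabOrbit_subset h𝒴 hy
  have heq := Set.eq_of_subset_of_ncard_le hsub hlow hfin
  rw [← heq] at hz
  obtain ⟨g, hg, -, hgy⟩ := hz
  exact ⟨g, hg, hgy⟩

end Cfsg.Agent.Lib.Helper9.M24
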