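import Mathlib
import Cfsg.Prelude.Def_Sporadic_a
import Cfsg.Prelude.Def_SporadicCombinatorics
import Cfsg.Agent.Lib.Helper9.OrbitInst2
import Cfsg.Agent.Lib.Helper9.M24TransData

set_option autoImplicit false
open Cfsg

/-! Transitivity of the group of the code on trios and on dodecads, by orbit certificates. -/

namespace Cfsg.Agent.Lib.Helper9.M24

open scoped Pointwise

theorem m24tr_gens_ok : (idt :: m24tr_gens).all (genOK (fun _ => true)) = true := by
  decide +kernel

theorem m24tr_trio_chk : orbChkTrio m24tr_gens (5279, 1009728) 3795 trioLit m24tr_trio_W = true := by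
  decide +kernel

theorem m24tr_dod_chk : orbChkDod m24tr_gens 28637 2576 dodLit m24tr_dod_W = true := by
  decide +kernel

/-- The reference trio. -/
def refTrio : ℕ × ℕ := (5279, 1009728)

theorem refTrio_valid : VTrio refTrio := vTrio_of_B (by decide +kernel)

theorem refTrio_mem : trioF refTrio ∈ trios := trioF_mem_trios refTrio_valid

/-- Every trio is an image of the reference trio. -/
theorem exists_smul_refTrio {T : Finset (Finset GolayPt)} (hT : T ∈ trios) :
    ∃ g ∈ M24, g • trioF refTrio = T := by
  apply transitive_of_lower (Set.toFinite _) (fun g hg y hy => trios_smul hg hy) refTrio_mem _ hT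
  rw [ncard_trios]
  exact orbit_lower_trio _ _ hfix_all _ m24tr_gens_ok _ _ _ _ m24tr_trio_chk

/-- The reference dodecad. -/
def refDod : ℕ := 28637

theorem refDod_lt : refDod < 2 ^ 24 := by decide

theorem refDod_mem : mset refDod ∈ dodecads := (mset_mem_dodecads_iff refDod_lt).mpr (by decide +kernel)

/-- Every dodecad is an image of the reference dodecad. -/
theorem exists_smul_refDod {d : Finset GolayPt} (hd : d ∈ dodecads) :
    ∃ g ∈ M24, g • mset refDod = d := by
  apply transitive_of_lower (Set.toFinite _) (fun g hg y hy => dodecads_smul hg hy) refDod_mem _ hd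
  rw [Cfsg.Agent.Lib.Helper1.ncard_dodecads]
  exact orbit_lower_dod _ _ hfix_all _ m24tr_gens_ok _ _ _ _ m24tr_dod_chk

end Cfsg.Agent.Lib.Helper9.M24
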