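import Mathlib
import Cfsg.Prelude
import Cfsg.Agent.Lib.Helper9.SimpCrit4
import Cfsg.Agent.Lib.Helper9.FusionNormal3
import Cfsg.Agent.Lib.Helper9.Grun6
import Cfsg.Agent.Lib.Helper9.GroupFusion3

set_option autoImplicit false

/-!
# A group with self-normalising Sylow `2`-subgroups and no proper nontrivial strongly closed subgroup
has a simple `2`-fusion system
-/

namespace Cfsg.Agent.H9MF

open Cfsg Cfsg.FusionSystem Cfsg.Agent.Lib.Helper9

variable {G : Type*} [Group G] [Finite G]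

theorem simple_of_selfnorm (S : Sylow 2 G)
    (hS1 : (S : Subgroup G) ≠ ⊥)
    (hN : Subgroup.normalizer ((S : Subgroup G) : Set G) = (S : Subgroup G))
    (hsc : ∀ T : Subgroup G, T ≤ (S : Subgroup G) → T ≠ ⊥ →
      (∀ t ∈ T, ∀ g : G, g * t * g⁻¹ ∈ (S : Subgroup G) → g * t * g⁻¹ ∈ T) →
      (S : Subgroup G) ≤ T) :
    (groupFusionSystem (S : Subgroup G)).IsSimple 2 := by
  haveI : Fact (Nat.Prime 2) := ⟨Nat.prime_two⟩
  have hsat : (groupFusionSystem (S : Subgroup G)).IsSaturated 2 := Cfsg.Agent.S5076.result 2 S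
  apply H9SC.simple_of_criterion 2 S hS1
  · intro T hT
    by_cases hTb : T = ⊥
    · left; exact hTb
    right
    obtain ⟨hTS, hcl⟩ := hT
    apply le_antisymm hTS
    apply hsc T hTS hTb
    intro t ht g hg
    have hR : Subgroup.zpowers (t : G) ≤ T := Subgroup.zpowers_le.mpr ht
    obtain ⟨φ, hφdef⟩ : ∃ φ : Subgroup.zpowers (t : G) →* G,
      φ = (MulAut.conj g).toMonoidHom.comp (Subgroup.zpowers (t : G)).subtype := ⟨_, rfl⟩
    have hφa : ∀ x : Subgroup.zpowers (t : G), φ x = g * (x : G) * g⁻¹ := by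
      intro x; rw [hφdef]; rfl
    have hφ : φ ∈ (groupFusionSystem (S : Subgroup G)).Hom (Subgroup.zpowers (t : G)) := by
      refine ⟨hR.trans hTS, ?_, g, hφa⟩
      intro x
      obtain ⟨k, hk⟩ := Subgroup.mem_zpowers_iff.mp x.2
      rw [hφa, ← hk]
      have : g * (t : G) ^ k * g⁻¹ = (g * t * g⁻¹) ^ k := by rw [conj_zpow]
      rw [this]
      exact Subgroup.zpow_mem _ hg k
    have h3 := hcl _ hR φ hφ ⟨(t : G), Subgroup.mem_zpowers _⟩
    rw [hφa] at h3
    exact h3
  · apply le_antisymm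
    · have hterm : autInducedBy ⊤ (S : Subgroup G) ≤
          autInducedBy (Subgroup.closure {g : G | g ∈ Subgroup.normalizer ((S : Subgroup G) : Set G) ∧
            ∃ k : ℕ, orderOf g = 2 ^ k}) (S : Subgroup G) := by
        intro α hα
        rw [mem_autInducedBy_iff] at hα ⊢
        obtain ⟨g, -, hg⟩ := hα
        have hgN : g ∈ Subgroup.normalizer ((S : Subgroup G) : Set G) := by
          rw [Subgroup.mem_normalizer_iff]
          intro h
          constructor
          · intro hh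
            rw [← hg ⟨h, hh⟩]
            exact (α ⟨h, hh⟩).2
          · intro hh
            obtain ⟨x, hx⟩ := α.surjective ⟨g * h * g⁻¹, hh⟩
            have h1 : g * (x : G) * g⁻¹ = g * h * g⁻¹ := by rw [← hg x, hx]
            have h2 : (x : G) = h := mul_left_cancel (mul_right_cancel h1)
            rw [← h2]; exact x.2
        have hgS : g ∈ (S : Subgroup G) := by rw [← hN]; exact hgN
        obtain ⟨k, hk⟩ := (IsPGroup.iff_orderOf.mp S.isPGroup') ⟨g, hgS⟩
        refine ⟨g, Subgroup.subset_closure ⟨hgN, k, ?_⟩, hg⟩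
        rw [← hk, Subgroup.orderOf_mk]
      exact le_trans hterm (le_iSup₂_of_le (S : Subgroup G)
        ⟨isFullyNormalized_self _, fs_top_radical 2 S.isPGroup' _ hsat, fs_top_centric _⟩ le_rfl)
    · apply iSup_le
      intro R
      apply iSup_le
      intro _
      intro α hα
      rw [mem_autInducedBy_iff] at hα ⊢
      obtain ⟨g, -, hg⟩ := hα
      exact ⟨g, Subgroup.mem_top g, hg⟩

/-- a Sylow `2`-subgroup is self-normalising if its normaliser has no nontrivial element of odd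
prime order -/
theorem normalizer_eq_of_odd (S : Sylow 2 G)
    (hodd : ∀ u ∈ Subgroup.normalizer ((S : Subgroup G) : Set G), ∀ r : ℕ, r.Prime → r ≠ 2 →
      u ^ r = 1 → u = 1) :
    Subgroup.normalizer ((S : Subgroup G) : Set G) = (S : Subgroup G) := by
  haveI : Fact (Nat.Prime 2) := ⟨Nat.prime_two⟩
  apply le_antisymm _ Subgroup.le_normalizer
  intro g hg
  -- the image of `g` in `N/S` has odd order and order a power of two
  by_contra hgS
  have hn : orderOf g ≠ 0 := (orderOf_pos g).ne'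
  obtain ⟨a, m, hm, hnam⟩ := Nat.exists_eq_two_pow_mul_odd hn
  obtain ⟨u, hu⟩ : ∃ u, u = g ^ 2 ^ a := ⟨_, rfl⟩
  have huN : u ∈ Subgroup.normalizer ((S : Subgroup G) : Set G) := by
    rw [hu]; exact Subgroup.pow_mem _ hg _
  have hum : u ^ m = 1 := by
    rw [hu, ← pow_mul, ← hnam, pow_orderOf_eq_one]
  have hu1 : u = 1 := by
    by_contra hne
    have h1 : orderOf u ∣ m := orderOf_dvd_of_pow_eq_one hum
    have h2 : orderOf u ≠ 1 := fun h => hne (orderOf_eq_one_iff.mp h)
    obtain ⟨r, hr⟩ : ∃ r, r = (orderOf u).minFac := ⟨_, rfl⟩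
    have hrp : r.Prime := hr ▸ Nat.minFac_prime h2
    have hrd : r ∣ orderOf u := hr ▸ Nat.minFac_dvd _
    have hr2 : r ≠ 2 := by
      intro h
      have : 2 ∣ m := h ▸ hrd.trans h1
      exact (Nat.not_even_iff_odd.mpr hm) (even_iff_two_dvd.mpr this)
    have h3 := hodd (u ^ (orderOf u / r)) (Subgroup.pow_mem _ huN _) r hrp hr2
      (by rw [← pow_mul, Nat.div_mul_cancel hrd, pow_orderOf_eq_one])
    have h4 : u ^ (orderOf u / r) ≠ 1 := by
      apply pow_ne_one_of_lt_orderOf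
      · exact (Nat.div_pos (Nat.le_of_dvd (orderOf_pos u) hrd) hrp.pos).ne'
      · exact Nat.div_lt_self (orderOf_pos u) hrp.one_lt
    exact h4 h3
  -- so `g` is a `2`-element of the normaliser, hence lies in `S`
  have hz : IsPGroup 2 (Subgroup.zpowers g) := by
    rintro ⟨x, hx⟩
    obtain ⟨k, rfl⟩ := Subgroup.mem_zpowers_iff.mp hx
    refine ⟨a, Subtype.ext ?_⟩
    rw [Subgroup.coe_pow, Subgroup.coe_one]
    show (g ^ k) ^ 2 ^ a = 1
    rw [← zpow_natCast, ← zpow_mul, mul_comm, zpow_mul, zpow_natCast, ← hu, hu1, one_zpow]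
  have hle : Subgroup.zpowers g ≤ Subgroup.normalizer ((S : Subgroup G) : Set G) := by
    rw [Subgroup.zpowers_le]
    exact hg
  have h5 := S.is_maximal' (hz.to_sup_of_normal_right' S.isPGroup' hle) le_sup_right
  apply hgS
  rw [← h5]
  exact (le_sup_left : Subgroup.zpowers g ≤ _) (Subgroup.mem_zpowers g)

/-- simplicity of the `2`-fusion system on every Sylow `2`-subgroup from data on one of them -/
theorem simple_of_sylow_conj (P₀ : Sylow 2 G)
    (hP1 : (P₀ : Subgroup G) ≠ ⊥)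
    (hN : ∀ u ∈ Subgroup.normalizer ((P₀ : Subgroup G) : Set G), ∀ r : ℕ, r.Prime → r ≠ 2 →
      u ^ r = 1 → u = 1)
    (hsc : ∀ T : Subgroup G, T ≤ (P₀ : Subgroup G) → T ≠ ⊥ →
      (∀ t ∈ T, ∀ g : G, g * t * g⁻¹ ∈ (P₀ : Subgroup G) → g * t * g⁻¹ ∈ T) →
      (P₀ : Subgroup G) ≤ T) (S : Sylow 2 G) :
    (groupFusionSystem (S : Subgroup G)).IsSimple 2 := by
  haveI : Fact (Nat.Prime 2) := ⟨Nat.prime_two⟩
  obtain ⟨h, rfl⟩ := MulAction.exists_smul_eq G P₀ S
  have hmem : ∀ x : G, x ∈ ((h • P₀ : Sylow 2 G) : Subgroup G) ↔ h⁻¹ * x * h ∈ (P₀ : Subgroup G) := by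
    intro x
    rw [Sylow.coe_subgroup_smul, Subgroup.mem_pointwise_smul_iff_inv_smul_mem]
    simp [MulAut.smul_def, MulAut.conj_apply]
  apply simple_of_selfnorm
  · intro hb
    apply hP1
    rw [Subgroup.eq_bot_iff_forall] at hb ⊢
    intro x hx
    have h1 : h * x * h⁻¹ ∈ ((h • P₀ : Sylow 2 G) : Subgroup G) := by
      rw [hmem]
      have : h⁻¹ * (h * x * h⁻¹) * h = x := by group
      rw [this]; exact hx
    have h2 := hb _ h1
    have : x = h⁻¹ * (h * x * h⁻¹) * h := by group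
    rw [this, h2]; group
  · apply normalizer_eq_of_odd
    intro u hu r hr hr2 hur
    have h1 : (h⁻¹ * u * h) • P₀ = P₀ := by
      have := Sylow.smul_eq_iff_mem_normalizer.mpr hu
      rw [mul_smul, mul_smul, this, inv_smul_smul]
    have h2 : h⁻¹ * u * h ∈ Subgroup.normalizer ((P₀ : Subgroup G) : Set G) :=
      Sylow.smul_eq_iff_mem_normalizer.mp h1
    have h4 : (h⁻¹ * u * h) ^ r = 1 := by
      have e : h⁻¹ * u * h = h⁻¹ * u * (h⁻¹)⁻¹ := by rw [inv_inv]
      rw [e, conj_pow, hur, mul_one, mul_inv_cancel]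
    have h7 := hN _ h2 r hr hr2 h4
    have h8 : u = h * (h⁻¹ * u * h) * h⁻¹ := by group
    rw [h8, h7]
    group
  · intro T hTS hTb hcl
    -- transport `T` back
    obtain ⟨T₀, hT₀⟩ : ∃ T₀ : Subgroup G, T₀ = T.map (MulAut.conj h⁻¹).toMonoidHom := ⟨_, rfl⟩
    have hmemT : ∀ x : G, x ∈ T₀ ↔ h * x * h⁻¹ ∈ T := by
      intro x
      rw [hT₀, Subgroup.mem_map]
      constructor
      · rintro ⟨y, hy, rfl⟩
        have : h * ((MulAut.conj h⁻¹).toMonoidHom y) * h⁻¹ = y := by
          simp [MulAut.conj_apply]; group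
        rw [this]; exact hy
      · intro hx
        refine ⟨h * x * h⁻¹, hx, ?_⟩
        simp [MulAut.conj_apply]; group
    have h1 : T₀ ≤ (P₀ : Subgroup G) := by
      intro x hx
      have := (hmem _).mp (hTS ((hmemT x).mp hx))
      have e : h⁻¹ * (h * x * h⁻¹) * h = x := by group
      rwa [e] at this
    have h2 : T₀ ≠ ⊥ := by
      intro hb
      apply hTb
      rw [Subgroup.eq_bot_iff_forall] at hb ⊢
      intro x hx
      have hx' : h⁻¹ * x * h ∈ T₀ := by
        rw [hmemT]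
        have : h * (h⁻¹ * x * h) * h⁻¹ = x := by group
        rw [this]; exact hx
      have := hb _ hx'
      have e : x = h * (h⁻¹ * x * h) * h⁻¹ := by group
      rw [e, this]; group
    have h3 : ∀ t ∈ T₀, ∀ g : G, g * t * g⁻¹ ∈ (P₀ : Subgroup G) → g * t * g⁻¹ ∈ T₀ := by
      intro t ht g hg
      rw [hmemT]
      have e : h * (g * t * g⁻¹) * h⁻¹ = (h * g * h⁻¹) * (h * t * h⁻¹) * (h * g * h⁻¹)⁻¹ := by group
      rw [e]
      apply hcl _ ((hmemT t).mp ht)
      rw [← e, hmem]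
      have e2 : h⁻¹ * (h * (g * t * g⁻¹) * h⁻¹) * h = g * t * g⁻¹ := by group
      rw [e2]; exact hg
    have h4 := hsc T₀ h1 h2 h3
    intro x hx
    have h5 := h4 ((hmem x).mp hx)
    have h6 := (hmemT _).mp h5
    have e : h * (h⁻¹ * x * h) * h⁻¹ = x := by group
    rwa [e] at h6

end Cfsg.Agent.H9MF
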