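import Mathlib
import Cfsg.Prelude
import Cfsg.Agent.Lib.Helper9.MatFusA

set_option autoImplicit false

/-!
# Transport of the simplicity criterion to a subgroup `H` of an ambient group, with a concrete
Sylow `2`-subgroup `S₀ ≤ H` given in the ambient group
-/

namespace Cfsg.Agent.H9MF

open Cfsg Cfsg.FusionSystem

variable {Γ : Type*} [Group Γ]

theorem normalizer_coe {M Q : Subgroup Γ} (hQ : Q ≤ M) (u : M)
    (hu : u ∈ Subgroup.normalizer ((Q.subgroupOf M : Subgroup M) : Set M)) :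
    (u : Γ) ∈ Subgroup.normalizer ((Q : Subgroup Γ) : Set Γ) := by
  rw [Subgroup.mem_normalizer_iff]
  intro s
  by_cases hs : s ∈ M
  · have := Subgroup.mem_normalizer_iff.mp hu ⟨s, hs⟩
    simpa [Subgroup.mem_subgroupOf] using this
  · constructor
    · intro h
      exact absurd (hQ h) hs
    · intro h
      exfalso
      apply hs
      have h1 := hQ h
      have h2 : s = (u : Γ)⁻¹ * ((u : Γ) * s * (u : Γ)⁻¹) * (u : Γ) := by group
      rw [h2]
      exact M.mul_mem (M.mul_mem (M.inv_mem u.2) h1) u.2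

theorem simple_of_concrete (H S₀ : Subgroup Γ) [Finite H] (hle : S₀ ≤ H) (n : ℕ) (hn : n ≠ 0)
    (hcard : Nat.card S₀ = 2 ^ n) (hfac : (Nat.card H).factorization 2 = n)
    (hN₀ : ∀ γ ∈ H, γ ∈ Subgroup.normalizer ((S₀ : Subgroup Γ) : Set Γ) → ∀ r : ℕ, r.Prime → r ≠ 2 →
      γ ^ r = 1 → γ = 1)
    (hsc₀ : ∀ T : Subgroup Γ, T ≤ S₀ → T ≠ ⊥ →
      (∀ t ∈ T, ∀ g ∈ H, g * t * g⁻¹ ∈ S₀ → g * t * g⁻¹ ∈ T) → S₀ ≤ T)
    (S : Sylow 2 ↥H) : (groupFusionSystem (S : Subgroup ↥H)).IsSimple 2 := by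
  haveI : Fact (Nat.Prime 2) := ⟨Nat.prime_two⟩
  have hc : Nat.card (S₀.subgroupOf H) = 2 ^ (Nat.card H).factorization 2 := by
    rw [hfac, Nat.card_congr (Subgroup.subgroupOfEquivOfLe hle).toEquiv, hcard]
  obtain ⟨P₀, hP₀⟩ : ∃ P₀ : Sylow 2 H, (P₀ : Subgroup H) = S₀.subgroupOf H :=
    ⟨Sylow.ofCard _ hc, rfl⟩
  apply simple_of_sylow_conj P₀
  · intro hb
    have h1 : Nat.card (P₀ : Subgroup H) = 1 := by rw [hb, Subgroup.card_bot]
    rw [hP₀, Nat.card_congr (Subgroup.subgroupOfEquivOfLe hle).toEquiv, hcard] at h1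
    have : 2 ≤ 2 ^ n := by
      calc 2 = 2 ^ 1 := (pow_one 2).symm
        _ ≤ 2 ^ n := Nat.pow_le_pow_right (by norm_num) (Nat.one_le_iff_ne_zero.mpr hn)
    omega
  · intro u hu r hr hr2 hur
    rw [hP₀] at hu
    have h1 := normalizer_coe hle u hu
    have h2 : (u : Γ) ^ r = 1 := by rw [← Subgroup.coe_pow, hur, Subgroup.coe_one]
    exact Subtype.ext (hN₀ _ u.2 h1 r hr hr2 h2)
  · intro T hT hTb hcl
    rw [hP₀] at hT hcl ⊢
    have h1 : T.map H.subtype ≤ S₀ := by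
      rintro _ ⟨t, ht, rfl⟩
      exact Subgroup.mem_subgroupOf.mp (hT ht)
    have h2 : T.map H.subtype ≠ ⊥ := by
      intro hb
      apply hTb
      rw [Subgroup.eq_bot_iff_forall] at hb ⊢
      intro t ht
      exact Subtype.ext (hb _ ⟨t, ht, rfl⟩)
    have h3 : ∀ t ∈ T.map H.subtype, ∀ g ∈ H, g * t * g⁻¹ ∈ S₀ → g * t * g⁻¹ ∈ T.map H.subtype := by
      rintro _ ⟨t, ht, rfl⟩ g hg hgt
      have := hcl t ht ⟨g, hg⟩ (Subgroup.mem_subgroupOf.mpr hgt)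
      exact ⟨_, this, rfl⟩
    have h4 := hsc₀ _ h1 h2 h3
    intro x hx
    obtain ⟨t, ht, htx⟩ := h4 (Subgroup.mem_subgroupOf.mp hx)
    have : t = x := Subtype.ext htx
    rw [← this]; exact ht

end Cfsg.Agent.H9MF
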