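import Mathlib
import Cfsg.Prelude.Def_Sporadic_a
import Cfsg.Agent.Lib.Helper9.MatFusC
import Cfsg.Agent.Lib.Helper9.MaskSet
import Cfsg.Agent.Lib.Helper9.M24Norm
import Cfsg.Agent.Lib.Helper6.M24Syl4

set_option autoImplicit false

/-!
# Elements of odd prime order normalising a polycyclic `2`-group of permutations of the 24 points:
orbit certificates and the octad argument
-/

namespace Cfsg.Agent.H9MF

open Cfsg
open Cfsg.Agent.Lib.Helper9.M24 (tperm tabOK tabM24 tget natOfPt ptOfNat natOfPt_tperm natOfPt_lt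
  natOfPt_injective natOfPt_ptOfNat ptOfNat_natOfPt tperm_mem exists_fixed_of_prime_pow
  eq_one_of_fixes mset mem_mset mset_mem_octads_iff isOct)
open Cfsg.Agent.Lib.Helper6.M24Syl (C gen_mem_C C_mono C_le wp wp_nil wp_cons wp_append wp_mem
  perm_ext Rel card_fiber_eq fix_of_card_lt)

section
variable {tabs : List (List ℕ)}

/-- orbit certificate -/
def orbOK (tabs : List (List ℕ)) (n : ℕ) (labL : List ℕ) (twL : List (List ℕ)) : Bool :=
  ((List.range n).all fun k => (List.range 24).all fun i =>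
    labL.getD (tget (Tb tabs k) i) 0 == labL.getD i 0) &&
  ((List.range 24).all fun i => decide (labL.getD i 0 < 24) &&
    (twL.getD i []).all (fun k => decide (k < n)) && (ev tabs (twL.getD i []) (labL.getD i 0) == i))

theorem label_inv (h : tabsOK tabs = true) (n : ℕ) (f : ℕ → ℕ)
    (hinv : ∀ k < n, ∀ i < 24, f (tget (Tb tabs k) i) = f i) :
    ∀ s ∈ C (gn tabs) 0 n, ∀ x : GolayPt, f (natOfPt (s x)) = f (natOfPt x) := by
  intro s hs
  unfold C at hs
  induction hs using Subgroup.closure_induction with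
  | mem g hg =>
    obtain ⟨k, ⟨-, hk2⟩, rfl⟩ := hg
    intro x
    rw [natOfPt_gn h]
    exact hinv k hk2 _ (natOfPt_lt x)
  | one => intro x; rfl
  | mul g g' _ _ ihg ihh =>
    intro x
    rw [Equiv.Perm.mul_apply, ihg, ihh]
  | inv g _ ih =>
    intro x
    have := ih (g⁻¹ x)
    rw [show g (g⁻¹ x) = x from by simp] at this
    exact this.symm

theorem rel_iff_of_cert (h : tabsOK tabs = true) (n : ℕ) (labL : List ℕ) (twL : List (List ℕ))
    (hc : orbOK tabs n labL twL = true) (x y : GolayPt) :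
    Rel (C (gn tabs) 0 n) x y ↔ labL.getD (natOfPt x) 0 = labL.getD (natOfPt y) 0 := by
  unfold orbOK at hc
  simp only [Bool.and_eq_true, List.all_eq_true, List.mem_range, beq_iff_eq, decide_eq_true_eq] at hc
  obtain ⟨hinv, hconn⟩ := hc
  constructor
  · rintro ⟨s, hs, rfl⟩
    exact (label_inv h n (fun i => labL.getD i 0) hinv s hs x).symm
  · intro hh
    have key : ∀ z : GolayPt, Rel (C (gn tabs) 0 n) (ptOfNat (labL.getD (natOfPt z) 0)) z := by
      intro z
      obtain ⟨⟨h1, h2⟩, h3⟩ := hconn _ (natOfPt_lt z)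
      refine ⟨wp (gn tabs) (twL.getD (natOfPt z) []), wp_mem_S _ h2, ?_⟩
      apply natOfPt_injective
      rw [natOfPt_wp h, natOfPt_ptOfNat _ h1, h3]
    have h1 := key x
    have h2 := key y
    rw [hh] at h1
    exact h1.symm.trans h2

/-- pair labels -/
def pl (PL : List (List ℕ)) (x y : ℕ) : ℕ := (PL.getD x []).getD y 0

/-- pair orbit certificate -/
def pairOK (tabs : List (List ℕ)) (n : ℕ) (PL : List (List ℕ)) (twP : List (List (List ℕ))) : Bool :=
  ((List.range n).all fun k => (List.range 24).all fun i => (List.range 24).all fun j =>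
    pl PL (tget (Tb tabs k) i) (tget (Tb tabs k) j) == pl PL i j) &&
  ((List.range 24).all fun i => (List.range 24).all fun j =>
    decide (pl PL i j / 24 < 24) && ((twP.getD i []).getD j []).all (fun k => decide (k < n)) &&
    (ev tabs ((twP.getD i []).getD j []) (pl PL i j / 24) == i) &&
    (ev tabs ((twP.getD i []).getD j []) (pl PL i j % 24) == j))

theorem pair_inv (h : tabsOK tabs = true) (n : ℕ) (PL : List (List ℕ))
    (hinv : ∀ k < n, ∀ i < 24, ∀ j < 24,
      pl PL (tget (Tb tabs k) i) (tget (Tb tabs k) j) = pl PL i j) :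
    ∀ s ∈ C (gn tabs) 0 n, ∀ x y : GolayPt,
      pl PL (natOfPt (s x)) (natOfPt (s y)) = pl PL (natOfPt x) (natOfPt y) := by
  intro s hs
  unfold C at hs
  induction hs using Subgroup.closure_induction with
  | mem g hg =>
    obtain ⟨k, ⟨-, hk2⟩, rfl⟩ := hg
    intro x y
    rw [natOfPt_gn h, natOfPt_gn h]
    exact hinv k hk2 _ (natOfPt_lt x) _ (natOfPt_lt y)
  | one => intro x y; rfl
  | mul g g' _ _ ihg ihh =>
    intro x y
    rw [Equiv.Perm.mul_apply, Equiv.Perm.mul_apply, ihg, ihh]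
  | inv g _ ih =>
    intro x y
    have := ih (g⁻¹ x) (g⁻¹ y)
    rw [show g (g⁻¹ x) = x from by simp, show g (g⁻¹ y) = y from by simp] at this
    exact this.symm

theorem relV_iff_of_cert (h : tabsOK tabs = true) (n : ℕ) (PL : List (List ℕ))
    (twP : List (List (List ℕ))) (hc : pairOK tabs n PL twP = true) (v y y' : GolayPt) :
    Rel (C (gn tabs) 0 n ⊓ MulAction.stabilizer (Equiv.Perm GolayPt) v) y y' ↔
      pl PL (natOfPt v) (natOfPt y) = pl PL (natOfPt v) (natOfPt y') := by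
  unfold pairOK at hc
  simp only [Bool.and_eq_true, List.all_eq_true, List.mem_range, beq_iff_eq, decide_eq_true_eq] at hc
  obtain ⟨hinv, hconn⟩ := hc
  constructor
  · rintro ⟨s, hs, rfl⟩
    obtain ⟨hs1, hs2⟩ := Subgroup.mem_inf.mp hs
    rw [MulAction.mem_stabilizer_iff, Equiv.Perm.smul_def] at hs2
    have := pair_inv h n PL hinv s hs1 v y
    rw [hs2] at this
    exact this.symm
  · intro hh
    obtain ⟨⟨⟨h1, h2⟩, h3⟩, h4⟩ := hconn _ (natOfPt_lt v) _ (natOfPt_lt y)
    obtain ⟨⟨⟨h1', h2'⟩, h3'⟩, h4'⟩ := hconn _ (natOfPt_lt v) _ (natOfPt_lt y')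
    rw [← hh] at h1' h3' h4'
    obtain ⟨w, hw⟩ : ∃ w, w = (twP.getD (natOfPt v) []).getD (natOfPt y) [] := ⟨_, rfl⟩
    obtain ⟨w', hw'⟩ : ∃ w', w' = (twP.getD (natOfPt v) []).getD (natOfPt y') [] := ⟨_, rfl⟩
    obtain ⟨r, hr⟩ : ∃ r, r = pl PL (natOfPt v) (natOfPt y) := ⟨_, rfl⟩
    rw [← hw] at h2
    rw [← hw, ← hr] at h3 h4
    rw [← hw'] at h2'
    rw [← hw', ← hr] at h3' h4'
    rw [← hr] at h1
    have hr2 : r % 24 < 24 := Nat.mod_lt _ (by norm_num)
    have e1 : wp (gn tabs) w (ptOfNat (r / 24)) = v := by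
      apply natOfPt_injective
      rw [natOfPt_wp h, natOfPt_ptOfNat _ h1, h3]
    have e2 : wp (gn tabs) w (ptOfNat (r % 24)) = y := by
      apply natOfPt_injective
      rw [natOfPt_wp h, natOfPt_ptOfNat _ hr2, h4]
    have e1' : wp (gn tabs) w' (ptOfNat (r / 24)) = v := by
      apply natOfPt_injective
      rw [natOfPt_wp h, natOfPt_ptOfNat _ h1, h3']
    have e2' : wp (gn tabs) w' (ptOfNat (r % 24)) = y' := by
      apply natOfPt_injective
      rw [natOfPt_wp h, natOfPt_ptOfNat _ hr2, h4']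
    refine ⟨wp (gn tabs) w' * (wp (gn tabs) w)⁻¹, Subgroup.mem_inf.mpr ⟨?_, ?_⟩, ?_⟩
    · exact Subgroup.mul_mem _ (wp_mem_S _ h2') (Subgroup.inv_mem _ (wp_mem_S _ h2))
    · rw [MulAction.mem_stabilizer_iff, Equiv.Perm.smul_def, Equiv.Perm.mul_apply]
      rw [Equiv.Perm.inv_eq_iff_eq.mpr e1.symm, e1']
    · rw [Equiv.Perm.mul_apply, Equiv.Perm.inv_eq_iff_eq.mpr e2.symm, e2']

end

theorem normalizer_stab {X : Type*} {H : Subgroup (Equiv.Perm X)} {γ : Equiv.Perm X}
    (hγ : γ ∈ Subgroup.normalizer ((H : Subgroup (Equiv.Perm X)) : Set (Equiv.Perm X))) {v : X}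
    (hv : γ v = v) :
    γ ∈ Subgroup.normalizer (((H ⊓ MulAction.stabilizer (Equiv.Perm X) v :
      Subgroup (Equiv.Perm X))) : Set (Equiv.Perm X)) := by
  have hv' : γ⁻¹ v = v := by rw [Equiv.Perm.inv_eq_iff_eq, hv]
  rw [Subgroup.mem_normalizer_iff]
  intro s
  rw [Subgroup.mem_inf, Subgroup.mem_inf, ← Subgroup.mem_normalizer_iff.mp hγ s]
  apply and_congr_right
  intro _
  rw [MulAction.mem_stabilizer_iff, MulAction.mem_stabilizer_iff, Equiv.Perm.smul_def,
    Equiv.Perm.smul_def, Equiv.Perm.mul_apply, Equiv.Perm.mul_apply, hv']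
  constructor
  · intro h; rw [h, hv]
  · intro h
    apply γ.injective
    rw [h, hv]

/-- the size of the orbit of a point, from labels -/
def szf (labL : List ℕ) (x : GolayPt) : ℕ :=
  (Finset.univ.filter fun y : GolayPt => labL.getD (natOfPt y) 0 = labL.getD (natOfPt x) 0).card

/-- the size of the orbit of `y` under the stabiliser of `v`, from pair labels -/
def cVf (PL : List (List ℕ)) (v y : GolayPt) : ℕ :=
  (Finset.univ.filter fun y' : GolayPt =>
    pl PL (natOfPt v) (natOfPt y') = pl PL (natOfPt v) (natOfPt y)).card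

theorem sz_inv {tabs : List (List ℕ)} (h : tabsOK tabs = true) (n : ℕ) (labL : List ℕ)
    (twL : List (List ℕ)) (hc : orbOK tabs n labL twL = true) (γ : Equiv.Perm GolayPt)
    (hN : γ ∈ Subgroup.normalizer ((C (gn tabs) 0 n : Subgroup (Equiv.Perm GolayPt)) :
      Set (Equiv.Perm GolayPt))) (x : GolayPt) : szf labL (γ x) = szf labL x :=
  card_fiber_eq hN (fun y => labL.getD (natOfPt y) 0) (rel_iff_of_cert h n labL twL hc) x

theorem cV_inv {tabs : List (List ℕ)} (h : tabsOK tabs = true) (n : ℕ) (PL : List (List ℕ))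
    (twP : List (List (List ℕ))) (hc : pairOK tabs n PL twP = true) (γ : Equiv.Perm GolayPt)
    (hN : γ ∈ Subgroup.normalizer ((C (gn tabs) 0 n : Subgroup (Equiv.Perm GolayPt)) :
      Set (Equiv.Perm GolayPt))) (v : GolayPt) (hv : γ v = v) (y : GolayPt) :
    cVf PL v (γ y) = cVf PL v y :=
  card_fiber_eq (normalizer_stab hN hv) (fun y => pl PL (natOfPt v) (natOfPt y))
    (relV_iff_of_cert h n PL twP hc v) y

/-- the class of a point under a labelling -/
def clsSet (cls : GolayPt → ℕ) (x : GolayPt) : Finset GolayPt :=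
  Finset.univ.filter fun y => cls y = cls x

/-- the octad argument -/
theorem norm_trivial (γ : Equiv.Perm GolayPt) (hγ : γ ∈ M24) (r : ℕ) (hr : r.Prime) (hr2 : r ≠ 2)
    (hpow : γ ^ r = 1)
    (cls : GolayPt → ℕ) (hcls : ∀ x, cls (γ x) = cls x)
    (cV : GolayPt → GolayPt → ℕ) (hcV : ∀ v, γ v = v → ∀ y, cV v (γ y) = cV v y)
    (Om : ℕ) (hOm : Om < 2 ^ 24) (hO : isOct Om = true)
    (h1 : ∀ x ∈ mset Om, (clsSet cls x).card ≤ 2 ∨
      ((clsSet cls x).card = 4 ∧ ∀ v ∈ clsSet cls x, ∀ y ∈ clsSet cls x,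
        ((clsSet cls x).filter fun y' => cV v y' = cV v y).card ≤ 2))
    (h2 : ∃ x₀, (∀ y ∈ clsSet cls x₀, y ∉ mset Om) ∧
      ((clsSet cls x₀).card = 8 ∨ (clsSet cls x₀).card = 16)) : γ = 1 := by
  haveI : Fact r.Prime := ⟨hr⟩
  have hpow' : γ ^ r ^ 1 = 1 := by rwa [pow_one]
  have hr3 : 3 ≤ r := by
    have := hr.two_le
    omega
  have hr_pow : ∀ k, ¬ r ∣ 2 ^ k := by
    intro k h
    exact hr2 ((Nat.prime_dvd_prime_iff_eq hr Nat.prime_two).mp (hr.dvd_of_dvd_pow h))
  have hinv : ∀ x y, γ y ∈ clsSet cls x ↔ y ∈ clsSet cls x := by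
    intro x y
    unfold clsSet
    simp only [Finset.mem_filter, Finset.mem_univ, true_and]
    rw [hcls]
  -- the octad is fixed pointwise
  have hfixO : ∀ x ∈ mset Om, γ x = x := by
    intro x hx
    have hxx : x ∈ clsSet cls x := by
      unfold clsSet
      simp
    rcases h1 x hx with h | ⟨h4, h⟩
    · exact fix_of_card_lt γ r hr hpow (clsSet cls x) (hinv x) (by omega) x hxx
    · obtain ⟨v, hv, hvf⟩ := exists_fixed_of_prime_pow γ r 1 hpow' (clsSet cls x) (hinv x)
        (by rw [h4]; exact hr_pow 2)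
      have hlt := h v hv x hxx
      apply fix_of_card_lt γ r hr hpow ((clsSet cls x).filter fun y' => cV v y' = cV v x) _
        (by omega) x
      · simp [hxx]
      · intro y
        simp only [Finset.mem_filter]
        rw [hinv x y, hcV v hvf y]
  obtain ⟨x₀, hx₀, hcard⟩ := h2
  obtain ⟨w, hw, hwf⟩ := exists_fixed_of_prime_pow γ r 1 hpow' (clsSet cls x₀) (hinv x₀)
    (by
      rcases hcard with h | h
      · rw [h]; exact hr_pow 3
      · rw [h]; exact hr_pow 4)
  have hOct : mset Om ∈ octads := (mset_mem_octads_iff hOm).mpr hO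
  have hcardO : (mset Om).card = 8 :=
    Cfsg.Agent.Lib.Helper9.M24.octads_isOctadSystem.card_eq hOct
  obtain ⟨P, hPO, hP⟩ := Finset.exists_subset_card_eq (show 6 ≤ (mset Om).card by omega)
  exact eq_one_of_fixes hγ hOct hPO hP (fun p hp => hfixO p (hPO hp)) (hx₀ w hw) hwf

end Cfsg.Agent.H9MF
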