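import Mathlib
import Cfsg.Prelude
import Cfsg.Agent.Lib.Helper9.MatFusB
import Cfsg.Agent.Lib.Helper9.MatFusD
import Cfsg.Agent.Lib.Helper1.MathieuMem

set_option autoImplicit false
set_option maxRecDepth 1000000

/-!
# Certificate data for a Sylow `2`-subgroup of the Mathieu group M11
-/

namespace Cfsg.Agent.H9MF.M11

open Cfsg
open Cfsg.Agent.Lib.Helper9.M24 (tperm tabOK tabM24 tget natOfPt ptOfNat)
open Cfsg.Agent.Lib.Helper6.M24Q (subl)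

def tabs : List (List ℕ) :=
  [[0, 12, 8, 3, 9, 7, 6, 5, 2, 4, 20, 11, 1, 16, 19, 22, 13, 17, 18, 14, 10, 21, 15, 23], [0, 2, 12, 3, 13, 19, 6, 14, 1, 16, 22, 23, 8, 9, 5, 10, 4, 21, 18, 7, 15, 17, 20, 11], [0, 1, 8, 6, 16, 5, 3, 7, 2, 13, 22, 23, 12, 9, 19, 20, 4, 17, 18, 14, 15, 21, 10, 11], [0, 4, 16, 3, 12, 15, 6, 22, 13, 1, 19, 21, 9, 2, 10, 7, 8, 23, 18, 20, 14, 11, 5, 17]]

def Sq : List (List ℕ) :=
  [[], [0], [], [0]]

def Wl : List (List (List ℕ)) :=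
  [[], [[0]], [[0], [0, 1]], [[0], [0, 1], [1, 2]]]

def labL : List ℕ :=
  [0, 1, 1, 3, 1, 5, 3, 5, 1, 1, 5, 11, 1, 1, 5, 5, 1, 11, 18, 5, 5, 11, 5, 11]

def twL : List (List ℕ) :=
  [[], [], [1], [], [3], [], [2], [0], [1, 0], [3, 0], [1, 3], [], [0], [1, 3], [1, 0], [3], [3, 1], [3, 1], [], [1], [3, 1], [3], [3, 0], [1]]

def PL : List (List ℕ) :=
  [[0, 1, 1, 3, 1, 5, 3, 5, 1, 1, 5, 11, 1, 1, 5, 5, 1, 11, 18, 5, 5, 11, 5, 11], [24, 25, 26, 27, 28, 29, 27, 31, 26, 33, 34, 35, 36, 33, 38, 39, 28, 41, 42, 38, 39, 45, 34, 35], [24, 26, 25, 27, 28, 38, 27, 38, 36, 33, 39, 35, 26, 28, 31, 39, 33, 45, 42, 29, 34, 41, 34, 35], [72, 73, 73, 75, 73, 77, 78, 77, 73, 73, 77, 83, 73, 73, 77, 77, 73, 83, 90, 77, 77, 83, 77, 83], [24, 33, 33, 27, 25, 34, 27, 39, 28, 36, 38, 45, 28, 26, 39, 29, 26, 35, 42, 34, 38, 35, 31, 41], [120, 121, 122, 123, 124, 125, 123, 127, 122, 129, 130, 131,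 132, 129, 134, 135, 124, 137, 138, 134, 135, 141, 130, 131], [72, 73, 73, 78, 73, 77, 75, 77, 73, 73, 77, 83, 73, 73, 77, 77, 73, 83, 90, 77, 77, 83, 77, 83], [120, 132, 122, 123, 129, 127, 123, 125, 122, 124, 135, 131, 121, 124, 134, 130, 129, 137, 138, 134, 130, 141, 135, 131], [24, 26, 36, 27, 33, 38, 27, 38, 25, 28, 34, 35, 26, 33, 29, 34, 28, 45, 42, 31, 39, 41, 39, 35], [24, 28, 28, 27, 36, 39, 27, 34, 33, 25, 38, 45, 33, 26, 34, 31, 26, 35, 42, 39, 38, 35, 29, 41], [120, 124, 129, 123, 122, 135, 123, 130, 124, 122, 125, 137, 129, 121, 135, 134, 132, 131, 138, 130, 127, 131, 134, 141], [264, 265, 265, 267, 268, 269, 267, 269, 265, 268, 274, 275, 265, 277, 269, 279, 277, 281, 282, 269, 274, 281, 279, 287], [24, 36, 26, 27, 33, 31, 27, 29, 26, 28, 39, 35, 25, 28, 38, 34, 33, 41, 42, 38, 34, 45, 39, 35], [24, 28, 33, 27, 26, 39, 27, 34, 28, 26, 29, 41, 33, 25, 39, 38, 36,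 35, 42, 34, 31, 35, 38, 45], [120, 122, 132, 123, 129, 134, 123, 134, 121, 124, 130, 131, 122, 129, 125, 130, 124, 141, 138, 127, 135, 137, 135, 131], [120, 129, 129, 123, 121, 130, 123, 135, 124, 132, 134, 141, 124, 122, 135, 125, 122, 131, 138, 130, 134, 131, 127, 137], [24, 33, 28, 27, 26, 34, 27, 39, 33, 26, 31, 41, 28, 36, 34, 38, 25, 35, 42, 39, 29, 35, 38, 45], [264, 277, 268, 267, 265, 274, 267, 274, 268, 265, 269, 281, 277, 265, 279, 269, 265, 275, 282, 279, 269, 287, 269, 281], [432, 433, 433, 435, 433, 437, 435, 437, 433, 433, 437, 443, 433, 433, 437, 437, 433, 443, 450, 437, 437, 443, 437, 443], [120, 122, 121, 123, 124, 134, 123, 134, 132, 129, 135, 131, 122, 124, 127, 135, 129, 141, 138, 125, 130, 137, 130, 131], [120, 129, 124, 123, 122, 130, 123, 135, 129, 122, 127, 137, 124, 132, 130, 134, 121, 131, 138, 135, 125, 131, 134, 141], [264, 268, 277, 267, 265,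 279, 267, 279, 277, 265, 269, 281, 268, 265, 274, 269, 265, 287, 282, 274, 269, 275, 269, 281], [120, 124, 124, 123, 132, 135, 123, 130, 129, 121, 134, 141, 129, 122, 130, 127, 122, 131, 138, 135, 134, 131, 125, 137], [264, 265, 265, 267, 277, 269, 267, 269, 265, 277, 279, 287, 265, 268, 269, 274, 268, 281, 282, 269, 279, 281, 274, 275]]

def twP : List (List (List ℕ)) :=
  [[[], [], [1], [], [3], [], [2], [0], [1, 0], [3, 0], [1, 3], [], [0], [1, 3], [1, 0], [3], [3, 1], [3, 1], [], [1], [3, 1], [3], [3, 0], [1]], [[], [], [], [], [], [], [2], [], [2], [], [], [], [], [2], [], [], [2], [], [], [2], [2], [], [2], [2]], [[1], [1, 2], [1], [1], [1, 2], [1], [1, 2], [1, 2], [1], [1, 2], [1], [1, 2], [1], [1], [1], [1, 2], [1], [1], [1], [1], [1, 2], [1], [1], [1]], [[], [], [1], [], [3], [], [], [0], [1, 0], [3, 0], [1, 3], [], [0], [1, 3], [1, 0], [3], [3, 1], [3, 1], [], [1],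 [3, 1], [3], [3, 0], [1]], [[3], [3], [3, 2], [3], [3], [3, 2], [3, 2], [3], [3, 2], [3], [3], [3], [3], [3, 2], [3, 2], [3], [3], [3, 2], [3], [3], [3, 2], [3], [3], [3]], [[], [], [], [], [], [], [2], [], [2], [], [], [], [], [2], [], [], [2], [], [], [2], [2], [], [2], [2]], [[2], [2], [1, 2], [2], [3, 2], [2], [2], [2, 0], [2, 1], [3, 2, 0], [2, 3, 0], [2, 1], [2, 0], [2, 3, 0], [2, 1], [3, 2], [2, 3], [3, 2], [2], [1, 2], [2, 3], [2, 3], [3, 2, 0], [2]], [[0], [0], [2, 0], [0], [0], [0], [2, 0], [0], [0], [0], [2, 0], [0], [0], [2, 0], [2, 0], [2, 0], [2, 0], [0], [0], [0], [0], [0], [0], [2, 0]], [[1, 0], [1, 0], [1, 0], [1, 0], [2, 1], [2, 1], [2, 1], [1, 0], [1, 0], [2, 1], [2, 1], [2, 1], [2, 1], [1, 0], [1, 0], [1, 0], [1, 0], [1, 0], [1, 0], [1, 0], [1, 0], [1, 0], [2, 1], [1, 0]], [[3, 0], [3, 0], [3, 2, 0], [3, 0], [3, 0], [3, 0], [3, 2, 0], [3, 2, 0], [3, 2,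 0], [3, 0], [3, 2, 0], [3, 0], [3, 0], [3, 0], [3, 0], [3, 0], [3, 2, 0], [3, 2, 0], [3, 0], [3, 2, 0], [3, 0], [3, 0], [3, 0], [3, 0]], [[1, 3], [2, 3, 0], [1, 3], [1, 3], [1, 3], [2, 3, 0], [2, 3, 0], [1, 3], [1, 3], [2, 3, 0], [1, 3], [1, 3], [2, 3, 0], [1, 3], [1, 3], [2, 3, 0], [1, 3], [1, 3], [1, 3], [2, 3, 0], [1, 3], [2, 3, 0], [1, 3], [1, 3]], [[], [], [1, 2], [], [], [], [2, 1], [0], [2, 1], [0], [], [], [0], [], [2, 1], [], [0], [], [], [1, 2], [0], [2, 1], [0], []], [[0], [0], [2, 0], [0], [0], [0], [2, 0], [0], [0], [0], [2, 0], [0], [0], [2, 0], [2, 0], [2, 0], [2, 0], [0], [0], [0], [0], [0], [0], [2, 0]], [[1, 3], [2, 3, 0], [1, 3], [1, 3], [1, 3], [2, 3, 0], [2, 3, 0], [1, 3], [1, 3], [2, 3, 0], [1, 3], [1, 3], [2, 3, 0], [1, 3], [1, 3], [2, 3, 0], [1, 3], [1, 3], [1, 3], [2, 3, 0], [1, 3], [2, 3, 0], [1, 3], [1, 3]], [[1, 0], [1, 0], [1, 0], [1, 0], [2, 1],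 [2, 1], [2, 1], [1, 0], [1, 0], [2, 1], [2, 1], [2, 1], [2, 1], [1, 0], [1, 0], [1, 0], [1, 0], [1, 0], [1, 0], [1, 0], [1, 0], [1, 0], [2, 1], [1, 0]], [[3], [3], [3, 2], [3], [3], [3, 2], [3, 2], [3], [3, 2], [3], [3], [3], [3], [3, 2], [3, 2], [3], [3], [3, 2], [3], [3], [3, 2], [3], [3], [3]], [[3, 1], [2, 3], [3, 1], [3, 1], [2, 3], [3, 1], [2, 3], [2, 3], [3, 1], [3, 1], [3, 1], [3, 1], [2, 3], [3, 1], [2, 3], [3, 1], [3, 1], [3, 1], [3, 1], [3, 1], [3, 1], [2, 3], [2, 3], [3, 1]], [[3, 1], [3, 1], [3, 1], [3, 1], [3, 2], [3, 1], [3, 2], [1, 3], [3, 2], [3, 2, 0], [1, 3], [3, 1], [1, 3], [1, 3], [3, 2], [3, 2], [3, 1], [3, 1], [3, 1], [3, 1], [3, 1], [3, 1], [3, 2, 0], [3, 2]], [[], [], [1], [], [3], [], [2], [0], [1, 0], [3, 0], [1, 3], [], [0], [1, 3], [1, 0], [3], [3, 1], [3, 1], [], [1], [3, 1], [3], [3, 0], [1]], [[1], [1, 2], [1], [1], [1, 2], [1], [1, 2], [1,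 2], [1], [1, 2], [1], [1, 2], [1], [1], [1], [1, 2], [1], [1], [1], [1], [1, 2], [1], [1], [1]], [[3, 1], [2, 3], [3, 1], [3, 1], [2, 3], [3, 1], [2, 3], [2, 3], [3, 1], [3, 1], [3, 1], [3, 1], [2, 3], [3, 1], [2, 3], [3, 1], [3, 1], [3, 1], [3, 1], [3, 1], [3, 1], [2, 3], [2, 3], [3, 1]], [[3], [3, 0], [3], [3], [3], [3, 0], [2, 3], [3], [3, 0], [3, 0], [2, 3, 0], [2, 3], [3], [2, 3, 0], [3, 0], [3], [2, 3], [3], [3], [3], [2, 3], [3], [3, 0], [3]], [[3, 0], [3, 0], [3, 2, 0], [3, 0], [3, 0], [3, 0], [3, 2, 0], [3, 2, 0], [3, 2, 0], [3, 0], [3, 2, 0], [3, 0], [3, 0], [3, 0], [3, 0], [3, 0], [3, 2, 0], [3, 2, 0], [3, 0], [3, 2, 0], [3, 0], [3, 0], [3, 0], [3, 0]], [[1], [2], [1], [1], [1, 0], [2], [2], [2, 0], [1, 0], [1], [1], [1], [2, 0], [1], [1, 0], [1, 0], [2], [2], [1], [1], [2], [1], [1], [1]]]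

def steps : List (List ℕ × List ℕ × List ℕ) :=
  [([0], [0, 2, 16, 9, 12, 17, 18, 21, 13, 8, 14, 22, 1, 6, 19, 10, 3, 11, 4, 5, 7, 15, 20, 23], [1, 2]),
   ([0], [0, 13, 6, 1, 16, 14, 18, 19, 3, 4, 20, 7, 9, 2, 22, 23, 8, 17, 12, 10, 15, 5, 11, 21], [2]),
   ([1, 2], [0, 12, 13, 6, 2, 22, 18, 15, 16, 8, 5, 17, 1, 9, 19, 10, 4, 23, 3, 14, 7, 21, 20, 11], [0, 1, 3])]

def Fin : List (List ℕ) :=
  [[0], [1, 2], [2], [1, 2, 3]]

def Om : ℕ := 10881097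

def n : ℕ := 4

theorem hok : tabsOK tabs = true := by decide +kernel

theorem hpc : pcOK tabs n Sq Wl = true := by decide +kernel

theorem hnd : ((subl (List.range n)).map (enc tabs)).Nodup := by decide +kernel

theorem hlen : (subl (List.range n)).length = 2 ^ n := by decide +kernel

theorem hcen : centerOK tabs n = true := by decide +kernel

theorem horb : orbOK tabs n labL twL = true := by decide +kernel

theorem hpair : pairOK tabs n PL twP = true := by decide +kernel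

theorem hchain : chainOK tabs n Fin steps [[0]] = true := by decide +kernel

end Cfsg.Agent.H9MF.M11
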