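import Mathlib
import Cfsg.Prelude
import Cfsg.Agent.Lib.Helper9.MatFusB
import Cfsg.Agent.Lib.Helper9.MatFusD
import Cfsg.Agent.Lib.Helper1.MathieuMem

set_option autoImplicit false
set_option maxRecDepth 1000000

/-!
# Certificate data for a Sylow `2`-subgroup of the Mathieu group M22
-/

namespace Cfsg.Agent.H9MF.M22

open Cfsg
open Cfsg.Agent.Lib.Helper9.M24 (tperm tabOK tabM24 tget natOfPt ptOfNat)
open Cfsg.Agent.Lib.Helper6.M24Q (subl)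

def tabs : List (List ℕ) :=
  [[0, 1, 17, 3, 19, 14, 6, 9, 8, 7, 10, 20, 21, 13, 5, 22, 18, 2, 16, 4, 11, 12, 15, 23], [0, 1, 5, 3, 11, 2, 6, 18, 8, 16, 10, 4, 15, 13, 17, 12, 9, 14, 7, 20, 19, 22, 21, 23], [0, 1, 2, 3, 20, 5, 8, 18, 6, 16, 13, 19, 21, 10, 14, 22, 9, 17, 7, 11, 4, 12, 15, 23], [0, 1, 2, 3, 11, 5, 10, 9, 13, 7, 6, 4, 22, 8, 14, 21, 18, 17, 16, 20, 19, 15, 12, 23], [0, 1, 12, 3, 7, 15, 6, 4, 8, 19, 10, 18, 2, 13, 22, 5, 20, 21, 11, 9, 16, 17, 14, 23], [0, 1, 4, 3, 2, 11, 6, 12, 8, 21, 10, 5, 7, 13, 20, 18, 22, 19, 15, 17, 14, 9, 16, 23], [0, 3, 2, 1, 7, 14, 8, 4, 6, 19, 10, 16, 12, 13, 5, 22, 11, 17, 20, 9, 18, 21, 15, 23]]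

def Sq : List (List ℕ) :=
  [[], [], [], [], [], [], []]

def Wl : List (List (List ℕ)) :=
  [[], [[0]], [[0], [1]], [[0], [1], [2]], [[0], [1], [0, 2], [0, 1, 3]], [[0], [1], [0, 1, 2], [1, 3], [4]], [[0], [0, 1], [2], [2, 3], [4], [4, 5]]]

def labL : List ℕ :=
  [0, 1, 2, 1, 2, 2, 6, 2, 6, 2, 6, 2, 2, 6, 2, 2, 2, 2, 2, 2, 2, 2, 2, 23]

def twL : List (List ℕ) :=
  [[], [], [], [6], [5], [1], [], [5, 4], [2], [5, 4, 0], [3], [5, 1], [4], [3, 2], [1, 0], [4, 1], [6, 5, 1], [0], [5, 4, 1], [5, 0], [2, 5], [4, 0], [3, 4], []]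

def PL : List (List ℕ) :=
  [[0, 1, 2, 1, 2, 2, 6, 2, 6, 2, 6, 2, 2, 6, 2, 2, 2, 2, 2, 2, 2, 2, 2, 23], [24, 25, 26, 27, 26, 26, 30, 26, 30, 26, 30, 26, 26, 30, 26, 26, 26, 26, 26, 26, 26, 26, 26, 47], [48, 49, 50, 49, 52, 53, 54, 52, 54, 52, 54, 52, 60, 54, 53, 60, 52, 65, 52, 52, 52, 60, 60, 71], [24, 27, 26, 25, 26, 26, 30, 26, 30, 26, 30, 26, 26, 30, 26, 26, 26, 26, 26, 26, 26, 26, 26, 47], [48, 49, 52, 49, 50, 52, 54, 60, 54, 60, 54, 53, 52, 54, 52, 52, 60, 52, 60, 65, 53, 52, 52, 71], [48, 49, 53, 49, 52, 50, 54, 52, 54, 52, 54, 52, 60, 54, 65, 60, 52, 53, 52, 52, 52, 60, 60, 71], [144, 145, 146, 145, 146, 146, 150, 146, 152, 146, 154, 146, 146, 154, 146, 146, 146, 146, 146, 146, 146, 146, 146, 167], [48, 49, 52, 49, 60, 52, 54, 50, 54, 65, 54, 60, 52, 54, 52, 52, 53, 52, 53, 60, 60, 52, 52, 71], [144,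 145, 146, 145, 146, 146, 152, 146, 150, 146, 154, 146, 146, 154, 146, 146, 146, 146, 146, 146, 146, 146, 146, 167], [48, 49, 52, 49, 60, 52, 54, 65, 54, 50, 54, 60, 52, 54, 52, 52, 53, 52, 53, 60, 60, 52, 52, 71], [144, 145, 146, 145, 146, 146, 154, 146, 154, 146, 150, 146, 146, 152, 146, 146, 146, 146, 146, 146, 146, 146, 146, 167], [48, 49, 52, 49, 53, 52, 54, 60, 54, 60, 54, 50, 52, 54, 52, 52, 60, 52, 60, 53, 65, 52, 52, 71], [48, 49, 60, 49, 52, 60, 54, 52, 54, 52, 54, 52, 50, 54, 60, 53, 52, 60, 52, 52, 52, 65, 53, 71], [144, 145, 146, 145, 146, 146, 154, 146, 154, 146, 152, 146, 146, 150, 146, 146, 146, 146, 146, 146, 146, 146, 146, 167], [48, 49, 53, 49, 52, 65, 54, 52, 54, 52, 54, 52, 60, 54, 50, 60, 52, 53, 52, 52, 52, 60, 60, 71], [48, 49, 60, 49, 52, 60, 54, 52, 54, 52, 54, 52, 53, 54, 60, 50, 52,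 60, 52, 52, 52, 53, 65, 71], [48, 49, 52, 49, 60, 52, 54, 53, 54, 53, 54, 60, 52, 54, 52, 52, 50, 52, 65, 60, 60, 52, 52, 71], [48, 49, 65, 49, 52, 53, 54, 52, 54, 52, 54, 52, 60, 54, 53, 60, 52, 50, 52, 52, 52, 60, 60, 71], [48, 49, 52, 49, 60, 52, 54, 53, 54, 53, 54, 60, 52, 54, 52, 52, 65, 52, 50, 60, 60, 52, 52, 71], [48, 49, 52, 49, 65, 52, 54, 60, 54, 60, 54, 53, 52, 54, 52, 52, 60, 52, 60, 50, 53, 52, 52, 71], [48, 49, 52, 49, 53, 52, 54, 60, 54, 60, 54, 65, 52, 54, 52, 52, 60, 52, 60, 53, 50, 52, 52, 71], [48, 49, 60, 49, 52, 60, 54, 52, 54, 52, 54, 52, 65, 54, 60, 53, 52, 60, 52, 52, 52, 50, 53, 71], [48, 49, 60, 49, 52, 60, 54, 52, 54, 52, 54, 52, 53, 54, 60, 65, 52, 60, 52, 52, 52, 53, 50, 71], [552, 553, 554, 553, 554, 554, 558, 554, 558, 554, 558, 554, 554, 558, 554, 554, 554, 554, 554, 554, 554,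 554, 554, 575]]

def twP : List (List (List ℕ)) :=
  [[[], [], [], [6], [5], [1], [], [5, 4], [2], [5, 4, 0], [3], [5, 1], [4], [3, 2], [1, 0], [4, 1], [6, 5, 1], [0], [5, 4, 1], [5, 0], [2, 5], [4, 0], [3, 4], []], [[], [], [], [], [5], [1], [], [5, 4], [2], [5, 4, 0], [3], [5, 1], [4], [3, 2], [1, 0], [4, 1], [5, 3, 4], [0], [5, 4, 1], [5, 0], [2, 5], [4, 0], [3, 4], []], [[], [], [], [6], [], [], [], [6], [2], [3, 6], [3], [3], [], [3, 2], [6], [3, 2], [6, 3], [], [6, 2], [3, 2], [2], [2], [3], []], [[6], [6], [6], [6], [5, 6], [1, 6], [6, 2], [6, 5], [6], [6, 5, 0], [6, 3], [5, 1, 6], [6, 4], [3, 6], [6, 1], [6, 3, 4], [6, 5, 1], [6, 0], [6, 2, 5], [5, 6, 0], [5, 6, 1], [6, 4, 0], [6, 4, 1], [6]], [[5], [5], [5], [5, 6], [5], [5, 3], [5], [5], [5, 2], [5, 2], [5, 3], [5], [5, 6], [5, 3, 2], [5, 2], [5, 6,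 2], [5, 3], [5, 3, 2], [5, 3, 2], [5], [5, 6], [5, 3, 6], [5, 6, 3], [5]], [[1], [1], [1], [1, 6], [3, 1], [1], [1], [1, 6, 2], [2, 1], [1, 6, 3], [3, 1], [1], [3, 2, 1], [3, 2, 1], [1], [1], [3, 1, 6], [1, 6], [1, 6], [2, 1], [3, 2, 1], [3, 1], [2, 1], [1]], [[], [], [], [6, 2], [5], [1], [], [5, 4], [], [5, 4, 0], [], [5, 1], [4], [6, 2], [1, 0], [4, 1], [5, 4, 1, 0], [0], [5, 4, 1], [5, 0], [5, 1, 0], [4, 0], [4, 1, 0], []], [[5, 4], [5, 4], [6, 5], [6, 5], [5, 4], [6, 5, 2], [5, 4], [5, 4], [6, 5], [5, 4], [5, 4, 3], [6, 5, 3], [5, 4], [3, 6, 5, 0], [6, 5, 3], [5, 4, 3], [6, 5], [3, 6, 5, 0], [5, 4], [5, 4, 2], [5, 4, 3], [5, 4, 3, 2], [5, 4, 2], [5, 4]], [[2], [2], [2], [6], [5, 2], [2, 1], [2], [6, 5], [2], [6, 5, 0], [6], [2, 5, 0], [4, 2], [2], [6, 1], [4, 2, 1], [6, 5, 1], [2, 0], [2, 5, 4], [5, 2, 0],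 [2, 5], [2, 4], [2, 4, 1], [2]], [[5, 4, 0], [5, 4, 0], [3, 6, 5], [6, 5, 0], [5, 2, 4], [6, 5, 3, 0], [5, 4, 0], [5, 4, 0], [6, 5, 0], [5, 4, 0], [3, 5, 4], [3, 5, 4], [3, 5, 4, 2], [3, 6, 5], [6, 5, 2, 0], [5, 2, 4], [5, 4, 0], [6, 5, 0], [6, 5, 0], [5, 4, 0], [6, 5, 3, 0], [5, 4, 0], [3, 5, 4], [5, 4, 0]], [[3], [3], [3], [6, 3], [5, 3], [3, 1], [3], [5, 4, 3], [6, 3], [3, 5, 4], [3], [3, 5], [4, 3], [3], [3, 1, 0], [3, 4, 0], [5, 3, 4], [3, 0], [4, 3, 5], [5, 3, 0], [3, 5, 0], [4, 3, 0], [3, 4], [3]], [[5, 1], [5, 1], [3, 5], [5, 1, 6], [5, 1], [5, 1], [5, 1], [3, 5, 2], [2, 5, 0], [3, 5], [3, 5], [5, 1], [2, 5, 6, 0], [3, 5, 2], [3, 5, 2], [5, 1, 6], [2, 5, 0], [2, 5, 0], [5, 1], [5, 1, 6], [5, 1], [3, 5, 6, 2], [3, 5, 6], [5, 1]], [[4], [4], [4], [6, 4], [6, 4], [4, 3, 2], [4], [4], [4, 2], [4, 3, 2], [4,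 3], [6, 4, 2], [4], [4, 3, 2], [4, 3], [4], [4, 2], [4, 2], [4, 3], [4, 3, 6], [6, 4, 3], [4], [6, 4], [4]], [[3, 2], [3, 2], [3, 2], [3, 6], [5, 3, 2], [3, 2, 1], [3, 6], [3, 6, 5, 0], [3, 2], [3, 6, 5], [3, 2], [3, 5, 2], [4, 3, 2], [3, 2], [3, 6, 1], [3, 2, 4], [5, 3, 4, 2], [3, 2, 0], [3, 6, 5, 1], [3, 2, 5], [2, 5, 3], [2, 4, 3], [3, 4, 2], [3, 2]], [[1, 0], [1, 0], [6, 1], [6, 1], [2, 1, 0], [1, 0], [1, 0], [6, 3, 1], [6, 1], [6, 2, 1], [3, 1, 0], [3, 2, 1, 0], [3, 1, 0], [3, 6, 1], [1, 0], [2, 1, 0], [6, 1], [1, 0], [3, 6, 1], [3, 1, 0], [1, 0], [6, 3, 1], [1, 0], [1, 0]], [[4, 1], [4, 1], [3, 2, 4], [6, 3, 4], [6, 2, 4, 1], [4, 1], [4, 1], [3, 4, 0], [4, 2, 1], [4, 2, 1], [3, 4, 0], [1, 6, 4], [4, 1], [3, 2, 4], [4, 2, 1], [4, 1], [3, 2, 4], [3, 4, 0], [4, 1], [6, 3, 4], [3, 6, 4, 0], [6, 3, 4], [4, 1],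 [4, 1]], [[6, 5, 1], [5, 3, 4], [6, 3, 5], [6, 5, 1], [5, 3, 4], [6, 3, 5, 2], [5, 4, 1, 0], [6, 5, 1], [6, 5, 1], [5, 3, 4], [5, 3, 4], [4, 2, 5], [4, 2, 5], [5, 3, 4, 2], [6, 5, 1], [5, 3, 4, 2], [6, 5, 1], [6, 2, 5, 0], [6, 5, 1], [6, 3, 5], [6, 5, 1], [5, 3, 4], [5, 4, 1, 0], [6, 5, 1]], [[0], [0], [0], [6, 0], [3, 2, 0], [6, 0], [0], [3, 6, 0], [2, 0], [6, 0], [3, 0], [2, 0], [2, 0], [3, 2, 0], [0], [3, 0], [6, 2, 0], [0], [6, 3, 0], [0], [3, 0], [0], [3, 2, 0], [0]], [[5, 4, 1], [5, 4, 1], [6, 2, 5], [6, 2, 5], [6, 3, 5, 0], [1, 6, 5], [5, 4, 1], [5, 4, 1], [2, 5, 4], [6, 2, 5], [4, 3, 5], [5, 4, 1], [4, 3, 5], [3, 6, 5, 1], [3, 6, 5, 1], [5, 4, 1], [5, 4, 1], [6, 3, 5, 0], [5, 4, 1], [4, 3, 5], [2, 5, 4], [2, 5, 4], [4, 3, 5, 2], [5, 4, 1]], [[5, 0], [5, 0], [3, 2, 5], [5, 6, 0], [5, 0], [5, 2, 0], [5,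 0], [5, 2, 0], [5, 2, 0], [5, 0], [5, 3, 0], [5, 6, 0], [5, 3, 6, 0], [3, 2, 5], [5, 3, 0], [5, 6, 3, 0], [3, 2, 5], [5, 0], [5, 3, 0], [5, 0], [5, 0], [5, 6, 0], [5, 6, 2, 0], [5, 0]], [[2, 5], [2, 5], [2, 5], [5, 6, 1], [5, 6, 1], [2, 5, 3], [5, 1, 0], [3, 5, 0], [2, 5], [2, 5, 3], [3, 5, 0], [2, 5], [5, 6, 3, 1], [2, 5, 3], [5, 1, 0], [3, 5, 6, 0], [5, 1, 0], [3, 5, 0], [2, 5], [2, 5], [2, 5], [2, 5, 6], [5, 6, 1], [2, 5]], [[4, 0], [4, 0], [2, 4], [6, 4, 0], [4, 3, 6, 0], [4, 3, 0], [4, 0], [2, 4, 3], [2, 4], [4, 0], [4, 3, 0], [6, 4, 3, 0], [4, 0], [2, 4, 3], [2, 4, 3], [6, 4, 0], [4, 3, 0], [4, 0], [2, 4], [6, 4, 0], [6, 2, 4], [4, 0], [4, 0], [4, 0]], [[3, 4], [3, 4], [3, 4], [6, 4, 1], [6, 3, 4, 0], [2, 4, 1], [4, 1, 0], [2, 4, 1], [2, 4, 1], [3, 4], [3, 4], [3, 6, 4], [6, 4, 1], [3, 4, 2], [4, 1, 0],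 [3, 4], [4, 1, 0], [3, 4, 2], [3, 4, 2], [6, 4, 2, 1], [6, 4, 1], [3, 4], [3, 4], [3, 4]], [[], [], [], [6], [5], [1], [], [5, 4], [2], [5, 4, 0], [3], [5, 1], [4], [3, 2], [1, 0], [4, 1], [6, 5, 1], [0], [5, 4, 1], [5, 0], [2, 5], [4, 0], [3, 4], []]]

def steps : List (List ℕ × List ℕ × List ℕ) :=
  [([0], [0, 1, 21, 13, 14, 5, 8, 17, 3, 19, 6, 12, 22, 10, 11, 2, 18, 9, 15, 20, 7, 16, 4, 23], [5]),
   ([1], [0, 2, 5, 10, 14, 6, 21, 18, 13, 22, 12, 8, 20, 17, 4, 9, 3, 11, 19, 16, 7, 15, 1, 23], [6]),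
   ([2], [0, 7, 1, 9, 4, 18, 14, 20, 17, 6, 21, 10, 22, 15, 16, 2, 8, 3, 11, 13, 19, 12, 5, 23], [1, 2, 3])]

def Fin : List (List ℕ) :=
  [[0], [1, 2, 3, 2, 1, 2, 3, 2], [0, 2, 3, 2, 3], [0, 1, 2, 3, 2, 1], [1, 2, 1, 2], [1], [2]]

def Om : ℕ := 8398155

def n : ℕ := 7

theorem hok : tabsOK tabs = true := by decide +kernel

theorem hpc : pcOK tabs n Sq Wl = true := by decide +kernel

theorem hnd : ((subl (List.range n)).map (enc tabs)).Nodup := by decide +kernel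

theorem hlen : (subl (List.range n)).length = 2 ^ n := by decide +kernel

theorem hcen : centerOK tabs n = true := by decide +kernel

theorem horb : orbOK tabs n labL twL = true := by decide +kernel

theorem hpair : pairOK tabs n PL twP = true := by decide +kernel

theorem hchain : chainOK tabs n Fin steps [[0]] = true := by decide +kernel

end Cfsg.Agent.H9MF.M22
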