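import Mathlib
import Cfsg.Prelude
import Cfsg.Agent.Lib.Helper9.MatFusB
import Cfsg.Agent.Lib.Helper9.MatFusD
import Cfsg.Agent.Lib.Helper1.MathieuMem

set_option autoImplicit false
set_option maxRecDepth 1000000

/-!
# Certificate data for a Sylow `2`-subgroup of the Mathieu group M12
-/

namespace Cfsg.Agent.H9MF.M12

open Cfsg
open Cfsg.Agent.Lib.Helper9.M24 (tperm tabOK tabM24 tget natOfPt ptOfNat)
open Cfsg.Agent.Lib.Helper6.M24Q (subl)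

def tabs : List (List ℕ) :=
  [[1, 0, 13, 18, 4, 15, 12, 7, 8, 9, 11, 10, 6, 2, 19, 5, 16, 17, 3, 14, 21, 20, 22, 23], [0, 1, 13, 3, 8, 5, 12, 23, 4, 16, 10, 11, 6, 2, 19, 15, 9, 22, 18, 14, 21, 20, 17, 7], [0, 1, 2, 18, 16, 15, 12, 17, 9, 8, 10, 11, 6, 13, 14, 5, 4, 7, 3, 19, 21, 20, 23, 22], [3, 18, 6, 0, 16, 11, 2, 22, 9, 8, 15, 5, 13, 12, 21, 10, 4, 23, 1, 20, 19, 14, 7, 17], [0, 1, 6, 18, 4, 5, 2, 7, 8, 16, 11, 10, 13, 12, 20, 15, 9, 22, 3, 21, 14, 19, 17, 23], [2, 13, 0, 6, 9, 20, 3, 23, 16, 4, 14, 19, 18, 1, 10, 21, 8, 22, 12, 11, 5, 15, 17, 7]]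

def Sq : List (List ℕ) :=
  [[], [], [], [], [], []]

def Wl : List (List (List ℕ)) :=
  [[], [[0]], [[0], [1]], [[0], [1], [0, 2]], [[0], [1], [1, 2], [0, 1, 3]], [[0], [0, 1], [2], [3], [0, 1, 2, 3, 4]]]

def labL : List ℕ :=
  [0, 0, 0, 0, 4, 5, 0, 7, 4, 4, 5, 5, 0, 0, 5, 5, 4, 7, 0, 5, 5, 5, 7, 7]

def twL : List (List ℕ) :=
  [[], [0], [5], [3], [], [], [5, 3], [], [1], [5], [3, 0], [3], [5, 3, 0], [5, 0], [4, 5], [0], [2], [2], [3, 0], [5, 3], [5], [5, 0], [3], [1]]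

def PL : List (List ℕ) :=
  [[0, 1, 2, 3, 4, 5, 2, 7, 4, 4, 10, 10, 2, 2, 14, 5, 4, 7, 3, 14, 14, 14, 7, 7], [1, 0, 2, 3, 4, 5, 2, 7, 4, 4, 10, 10, 2, 2, 14, 5, 4, 7, 3, 14, 14, 14, 7, 7], [2, 2, 0, 2, 4, 14, 3, 7, 4, 4, 14, 14, 3, 1, 10, 14, 4, 7, 2, 10, 5, 5, 7, 7], [3, 3, 2, 0, 4, 10, 2, 7, 4, 4, 5, 5, 2, 2, 14, 10, 4, 7, 1, 14, 14, 14, 7, 7], [96, 96, 96, 96, 100, 101, 96, 103, 104, 105, 101, 101, 96, 96, 101, 101, 105, 103, 96, 101, 101, 101, 103, 103], [120, 120, 122, 123, 124, 125, 122, 127, 124, 124, 130, 130, 122, 122, 134, 135, 124, 127, 123, 134, 134, 134, 127, 127], [2, 2, 3, 2, 4, 14, 0, 7, 4, 4, 14, 14, 1, 3, 5, 14, 4, 7, 2, 5, 10, 10, 7, 7], [168, 168, 168, 168, 172, 173, 168, 175, 172, 172, 173, 173, 168, 168, 173, 173, 172, 185, 168, 173, 173, 173, 185, 191], [96, 96, 96, 96, 104, 101, 96, 103, 100, 105, 101, 101,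 96, 96, 101, 101, 105, 103, 96, 101, 101, 101, 103, 103], [96, 96, 96, 96, 105, 101, 96, 103, 105, 100, 101, 101, 96, 96, 101, 101, 104, 103, 96, 101, 101, 101, 103, 103], [123, 123, 122, 120, 124, 130, 122, 127, 124, 124, 125, 135, 122, 122, 134, 130, 124, 127, 120, 134, 134, 134, 127, 127], [123, 123, 122, 120, 124, 130, 122, 127, 124, 124, 135, 125, 122, 122, 134, 130, 124, 127, 120, 134, 134, 134, 127, 127], [2, 2, 3, 2, 4, 14, 1, 7, 4, 4, 14, 14, 0, 3, 5, 14, 4, 7, 2, 5, 10, 10, 7, 7], [2, 2, 1, 2, 4, 14, 3, 7, 4, 4, 14, 14, 3, 0, 10, 14, 4, 7, 2, 10, 5, 5, 7, 7], [122, 122, 123, 122, 124, 134, 120, 127, 124, 124, 134, 134, 120, 123, 125, 134, 124, 127, 122, 135, 130, 130, 127, 127], [120, 120, 122, 123, 124, 135, 122, 127, 124, 124, 130, 130, 122, 122, 134, 125, 124, 127, 123, 134, 134, 134, 127, 127], [96, 96, 96, 96, 105, 101,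 96, 103, 105, 104, 101, 101, 96, 96, 101, 101, 100, 103, 96, 101, 101, 101, 103, 103], [168, 168, 168, 168, 172, 173, 168, 185, 172, 172, 173, 173, 168, 168, 173, 173, 172, 175, 168, 173, 173, 173, 191, 185], [3, 3, 2, 1, 4, 10, 2, 7, 4, 4, 5, 5, 2, 2, 14, 10, 4, 7, 0, 14, 14, 14, 7, 7], [122, 122, 123, 122, 124, 134, 120, 127, 124, 124, 134, 134, 120, 123, 135, 134, 124, 127, 122, 125, 130, 130, 127, 127], [122, 122, 120, 122, 124, 134, 123, 127, 124, 124, 134, 134, 123, 120, 130, 134, 124, 127, 122, 130, 125, 135, 127, 127], [122, 122, 120, 122, 124, 134, 123, 127, 124, 124, 134, 134, 123, 120, 130, 134, 124, 127, 122, 130, 135, 125, 127, 127], [168, 168, 168, 168, 172, 173, 168, 185, 172, 172, 173, 173, 168, 168, 173, 173, 172, 191, 168, 173, 173, 173, 175, 185], [168, 168, 168, 168, 172, 173, 168, 191, 172, 172, 173, 173, 168, 168,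 173, 173, 172, 185, 168, 173, 173, 173, 185, 175]]

def twP : List (List (List ℕ)) :=
  [[[], [], [], [], [], [], [4], [], [1], [2, 1], [], [4], [4, 1], [1], [], [2], [2], [2], [2], [1], [4], [4, 1], [2, 1], [1]], [[0], [0], [1, 0], [2, 0], [0], [2, 0], [4, 1, 0], [0], [1, 0], [2, 1, 0], [4, 0], [0], [4, 0], [0], [1, 0], [0], [2, 0], [2, 0], [0], [0], [4, 1, 0], [4, 0], [2, 1, 0], [1, 0]], [[5], [5, 1], [5], [5, 4], [5, 2, 1], [5, 4], [5], [5, 1], [5, 2], [5], [5], [5, 1], [5, 2], [5], [5], [5, 4, 1], [5, 1], [5, 2, 1], [5, 4, 1], [5, 4], [5], [5, 2], [5, 2], [5]], [[3], [3, 2], [3, 4], [3], [3, 2], [3, 4], [3], [3, 2, 1], [3, 2, 1], [3, 1], [3, 2], [3], [3, 1], [4, 3, 0], [4, 3, 0], [3], [3], [3, 1], [3], [3, 4], [3, 1], [3], [3], [3, 2]], [[], [0], [5, 2, 1], [3, 2], [], [], [5, 3, 1], [], [], [], [3, 2], [2, 3], [5, 4, 3], [1, 5,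 2], [5, 4, 3], [0], [4], [5, 2, 1], [2, 3], [5, 3, 1], [1, 5, 2], [5, 2, 1], [5, 3, 1], [3, 2]], [[], [2, 0], [], [], [], [], [4], [], [1], [2, 1, 0], [], [4], [4, 1], [1], [], [], [2, 0], [2, 0], [4], [1], [4], [4, 1], [2, 1, 0], [1]], [[4, 5], [4, 5, 1], [5, 3], [5, 3], [5, 3, 1], [5, 3, 1], [5, 3], [4, 5, 1], [5, 3], [4, 5, 1], [4, 5, 1], [4, 5], [5, 3], [5, 3, 2], [4, 5], [5, 3], [4, 5], [5, 3], [5, 3, 1], [5, 3], [4, 5], [5, 3], [5, 3, 1], [4, 5]], [[], [0], [5, 1], [3, 2, 1], [], [], [4, 5, 1], [], [3, 2, 1], [4, 5, 1], [3, 2, 1], [2, 3, 1], [5, 2, 3], [1, 5], [4, 5, 1], [0], [5, 1], [], [2, 3, 1], [5, 2, 3], [5, 1], [1, 5], [4], []], [[1], [1, 0], [5, 2], [3, 2, 1], [1], [1], [5, 3], [3, 2, 1], [1], [4, 1], [3, 2, 1], [2, 3, 1], [5, 3, 0], [5, 2, 0], [5, 3, 0], [1, 0], [1], [5, 3], [2, 3, 1], [5, 3], [5, 2, 0], [5, 2], [5, 2],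 [1]], [[2, 1], [2, 1, 0], [5], [3, 1], [5], [2, 1, 0], [4, 5, 1], [4, 5, 1], [4, 2], [5], [4, 3], [3, 1], [5, 2, 3], [5, 0], [4, 5, 1], [2, 1], [5], [3, 1], [4, 3], [5, 2, 3], [5], [5, 0], [2, 1], [5]], [[4, 3], [3, 0], [4, 3], [3, 2], [3, 2], [3, 0], [3, 2], [3, 2, 1], [3, 2, 1], [4, 3], [3, 0], [3, 0], [3, 0], [3, 4, 0], [3, 4, 0], [3, 2], [3, 0], [4, 3], [3, 0], [4, 3], [3, 0], [3, 2], [3, 0], [3, 2]], [[3], [3, 4], [3, 4], [3], [2, 3], [2, 3], [3], [2, 3, 1], [2, 3, 1], [3, 1], [3], [3], [3, 1], [4, 3, 0], [4, 3, 0], [3], [3], [3, 1], [2, 3], [3, 4], [3, 1], [3], [3], [2, 3]], [[5, 4, 3], [4, 5, 0], [5, 2, 3], [1, 5, 3], [5, 4, 3], [5, 3, 0], [5, 3, 0], [5, 2, 3], [5, 3, 0], [5, 2, 3], [4, 5, 0], [5, 4, 3], [5, 3, 0], [5, 3, 0], [5, 3, 0], [1, 5, 3], [4, 5, 0], [5, 3, 0], [5, 3, 0], [4, 5, 0], [5, 3, 0], [4, 5, 0], [5, 4, 3], [4,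 5, 0]], [[1, 5], [5, 0], [5, 0], [1, 5, 4], [1, 5, 2], [1, 5, 4], [5, 2, 0], [1, 5], [5, 2, 0], [5, 0], [1, 5], [5, 0], [5, 0], [5, 0], [5, 4, 0], [5, 4, 0], [1, 5], [1, 5, 2], [5, 4, 0], [5, 0], [5, 2, 0], [5, 0], [5, 2, 0], [5, 0]], [[4, 5], [4, 5, 1], [4, 5], [5, 3, 2], [5, 4, 3], [5, 3, 0], [4, 5], [4, 5, 1], [5, 3, 0], [4, 5, 1], [4, 5, 1], [4, 5], [5, 3, 0], [5, 3, 0], [4, 5], [5, 3, 2], [4, 5], [5, 3, 0], [5, 3, 0], [4, 5], [4, 5], [5, 3, 2], [5, 4, 3], [4, 5]], [[2], [0], [2], [4, 0], [0], [0], [4, 2], [0], [1, 0], [2, 1], [2], [0], [4, 0], [0], [2], [0], [2], [2], [0], [0], [4, 2], [4, 0], [2, 1], [1, 0]], [[2], [2, 0], [5, 1], [3], [2, 4], [2, 0], [4, 5], [5, 1], [2], [2], [3, 0], [3], [4, 5, 0], [1, 5], [4, 5], [2], [2], [2], [3, 0], [4, 5, 0], [5, 1], [1, 5], [3], [4, 5]], [[2], [2, 0], [5, 2, 1], [3, 1], [5, 2, 1], [2,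 0], [5, 3], [2], [5, 3], [3, 1], [4, 3], [3, 1], [5, 3, 0], [1, 5, 2], [5, 3, 0], [2], [2], [2], [4, 3], [5, 3], [1, 5, 2], [5, 2, 1], [2], [4, 3]], [[2, 3], [3, 0], [4, 3], [3, 0], [2, 3], [3, 0], [3, 1, 0], [2, 3, 1], [2, 3, 1], [4, 3], [3, 0], [2, 3], [3, 0], [3, 4, 0], [3, 4, 0], [4, 3], [3, 0], [4, 3], [3, 0], [4, 3], [3, 0], [3, 1, 0], [3, 0], [2, 3]], [[4, 5, 2], [4, 5, 0], [5, 3], [5, 3], [5, 3, 1], [5, 3, 1], [5, 3], [5, 2, 3], [5, 3], [5, 2, 3], [4, 5, 0], [4, 5, 2], [4, 5, 0], [4, 5, 0], [5, 3], [5, 3], [4, 5, 0], [5, 3], [5, 3, 1], [5, 3], [4, 5, 2], [5, 3], [5, 3, 1], [4, 5, 0]], [[5], [5, 1], [5], [5, 4], [1, 5, 2], [5, 4], [5], [5, 1], [5, 2, 0], [5], [5], [5, 1], [5, 4], [5, 2, 0], [5], [5, 4, 1], [5, 1], [1, 5, 2], [5, 4, 1], [5, 4], [5], [5], [5, 2, 0], [5]], [[5, 2], [5, 0], [5, 2], [5, 4, 2], [5, 2, 1], [5, 4, 2],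 [5, 4, 0], [1, 5], [5, 2], [5, 0], [5, 2], [5, 0], [5, 0], [5, 0], [5, 2], [5, 4, 0], [1, 5], [5, 2, 1], [5, 4, 0], [5, 0], [5, 0], [5, 0], [5, 2], [5, 0]], [[2, 1], [2, 1, 0], [5, 2], [3], [5, 3, 1], [2, 1, 0], [5, 3, 1], [4, 2], [5, 2], [2, 1], [3, 0], [3], [5, 4, 3], [5, 2, 0], [5, 4, 3], [2, 1], [3], [3], [3, 0], [5, 3, 1], [5, 2, 0], [5, 2], [3], [3]], [[1], [1, 0], [5], [3, 2], [3, 2], [1], [4, 5], [1], [1], [5], [3, 2], [2, 3], [4, 5, 0], [5, 0], [4, 5], [1, 0], [4, 5], [4, 1], [2, 3], [4, 5, 0], [5], [5, 0], [1], [1]]]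

def steps : List (List ℕ × List ℕ × List ℕ) :=
  [([0], [16, 9, 13, 18, 1, 22, 6, 15, 0, 8, 11, 10, 2, 12, 19, 17, 4, 23, 3, 21, 20, 14, 7, 5], [4]),
   ([1], [0, 1, 16, 18, 13, 11, 4, 14, 2, 12, 5, 15, 8, 9, 22, 10, 6, 21, 3, 17, 23, 7, 20, 19], [2]),
   ([1], [9, 2, 4, 1, 16, 23, 8, 20, 13, 12, 17, 22, 3, 0, 14, 21, 6, 11, 18, 10, 19, 5, 15, 7], [0, 1, 2, 3, 4]),
   ([1, 3, 2], [3, 0, 9, 12, 6, 11, 8, 7, 16, 1, 21, 5, 13, 18, 14, 19, 4, 23, 2, 22, 17, 15, 20, 10], [0, 1, 2, 3, 5])]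

def Fin : List (List ℕ) :=
  [[0], [1, 2, 1, 2], [2], [1, 2, 3], [1], [1, 3, 4]]

def Om : ℕ := 12780432

def n : ℕ := 6

theorem hok : tabsOK tabs = true := by decide +kernel

theorem hpc : pcOK tabs n Sq Wl = true := by decide +kernel

theorem hnd : ((subl (List.range n)).map (enc tabs)).Nodup := by decide +kernel

theorem hlen : (subl (List.range n)).length = 2 ^ n := by decide +kernel

theorem hcen : centerOK tabs n = true := by decide +kernel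

theorem horb : orbOK tabs n labL twL = true := by decide +kernel

theorem hpair : pairOK tabs n PL twP = true := by decide +kernel

theorem hchain : chainOK tabs n Fin steps [[0]] = true := by decide +kernel

end Cfsg.Agent.H9MF.M12
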