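import Mathlib
import Cfsg.Prelude
import Cfsg.Agent.Lib.Helper9.MatFusM12Data
import Cfsg.Agent.Lib.Helper9.MatFusM22

set_option autoImplicit false
set_option maxRecDepth 1000000

/-!
# The `2`-fusion system of the Mathieu group `M12` is simple
-/

namespace Cfsg.Agent.H9MF.M12

open Cfsg
open Cfsg.Agent.Lib.Helper9.M24 (tperm tabOK tabM24 tget natOfPt ptOfNat mset mem_mset isOct pmaskF
  squareDodecad_eq)
open Cfsg.Agent.Lib.Helper6.M24Syl (C C_le)
open Cfsg.Agent.Lib.Helper1.PermCode (mem_M12_tperm card_M12)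
open scoped Pointwise

theorem htabs : ∀ t ∈ List.range 24 :: tabs, tabM24 t = true ∧ pmaskF t 340831 = 340831 := by
  decide +kernel

theorem S₀_le : C (gn tabs) 0 n ≤ Cfsg.Spor.M12 := by
  apply C_le
  intro k _ _
  have h1 := htabs _ (Tb_mem k)
  exact mem_M12_tperm (Tb_ok hok k) h1.1 h1.2

theorem hks0 : ∀ s ∈ steps, tabOK s.2.1 = true ∧ tabM24 s.2.1 = true ∧
    pmaskF s.2.1 340831 = 340831 ∧ ∀ k ∈ s.2.2, k < n := by decide +kernel

theorem hks : ∀ s ∈ steps, tabOK s.2.1 = true ∧ tperm s.2.1 ∈ Cfsg.Spor.M12 ∧ ∀ k ∈ s.2.2, k < n := by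
  intro s hs
  obtain ⟨h1, h2, h3, h5⟩ := hks0 s hs
  exact ⟨h1, mem_M12_tperm h1 h2 h3, h5⟩

theorem card_S₀ : Nat.card (C (gn tabs) 0 n) = 2 ^ n := by rw [card_S hok hpc hnd, hlen]

theorem hfac : (Nat.card Cfsg.Spor.M12).factorization 2 = n := by
  rw [card_M12]
  exact fac_two 95040 6 1485 (by norm_num) (by norm_num)

/-- the invariant classes -/
def cls (x : GolayPt) : ℕ := 2 * szf labL x + (if (340831 : ℕ).testBit (natOfPt x) = true then 1 else 0)

theorem hcert1 : ∀ x ∈ mset Om, (clsSet cls x).card ≤ 2 ∨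
    ((clsSet cls x).card = 4 ∧ ∀ v ∈ clsSet cls x, ∀ y ∈ clsSet cls x,
      ((clsSet cls x).filter fun y' => cVf PL v y' = cVf PL v y).card ≤ 2) := by
  decide +kernel

theorem hcert2 : ∃ x₀, (∀ y ∈ clsSet cls x₀, y ∉ mset Om) ∧
    ((clsSet cls x₀).card = 8 ∨ (clsSet cls x₀).card = 16) := by
  decide +kernel

theorem hN₀ : ∀ γ ∈ Cfsg.Spor.M12,
    γ ∈ Subgroup.normalizer ((C (gn tabs) 0 n : Subgroup (Equiv.Perm GolayPt)) :
      Set (Equiv.Perm GolayPt)) →
    ∀ r : ℕ, r.Prime → r ≠ 2 → γ ^ r = 1 → γ = 1 := by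
  intro γ hγ hN r hr hr2 hpow
  have hγ24 : γ ∈ M24 := hγ.1
  have hQ : γ • mset 340831 = mset 340831 := by
    have h : γ ∈ MulAction.stabilizer (Equiv.Perm GolayPt) Cfsg.Spor.squareDodecad := hγ.2
    rw [MulAction.mem_stabilizer_iff, squareDodecad_eq] at h
    exact h
  apply norm_trivial γ hγ24 r hr hr2 hpow cls ?_ (cVf PL) (cV_inv hok n PL twP hpair γ hN)
    Om (by decide) (by decide +kernel) hcert1 hcert2
  intro x
  unfold cls
  rw [sz_inv hok n labL twL horb γ hN x]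
  have : (340831 : ℕ).testBit (natOfPt (γ x)) = true ↔ (340831 : ℕ).testBit (natOfPt x) = true := by
    rw [← mem_mset, ← mem_mset]
    conv_lhs => rw [← hQ]
    rw [← Equiv.Perm.smul_def, Finset.smul_mem_smul_finset_iff]
  simp only [this]

theorem main (S : Sylow 2 ↥Cfsg.Spor.M12) :
    (groupFusionSystem (S : Subgroup ↥Cfsg.Spor.M12)).IsSimple 2 :=
  simple_of_concrete Cfsg.Spor.M12 (C (gn tabs) 0 n) S₀_le n (by decide) card_S₀ hfac hN₀
    (fun T hT hTb hcl => sc_of_cert hok hpc hcen Cfsg.Spor.M12 S₀_le Fin steps hks hchain T hT hTb hcl) S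

end Cfsg.Agent.H9MF.M12
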