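import Mathlib
import Cfsg.Prelude
import Cfsg.Agent.Lib.Helper9.MatFusM22

set_option autoImplicit false
set_option maxRecDepth 1000000

/-!
# The `2`-fusion system of the Mathieu group `M23` is simple
(the Sylow `2`-subgroup is the one of `M22`)
-/

namespace Cfsg.Agent.H9MF.M23

open Cfsg
open Cfsg.Agent.Lib.Helper9.M24 (tperm tabOK tabM24 tget natOfPt ptOfNat mset isOct)
open Cfsg.Agent.Lib.Helper6.M24Syl (C C_le)
open Cfsg.Agent.Lib.Helper1.PermCode (mem_M22_tperm mem_M23_tperm card_M22 card_M23)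
open Cfsg.Agent.H9MF.M22

theorem M22_le : Cfsg.Spor.M22 ≤ Cfsg.Spor.M23 := inf_le_left

theorem S₀_le : C (gn tabs) 0 n ≤ Cfsg.Spor.M23 := M22.S₀_le.trans M22_le

theorem hks : ∀ s ∈ steps, tabOK s.2.1 = true ∧ tperm s.2.1 ∈ Cfsg.Spor.M23 ∧ ∀ k ∈ s.2.2, k < n := by
  intro s hs
  obtain ⟨h1, h2, h3⟩ := M22.hks s hs
  exact ⟨h1, M22_le h2, h3⟩

theorem hfac : (Nat.card Cfsg.Spor.M23).factorization 2 = n := by
  rw [card_M23]
  exact fac_two 10200960 7 79695 (by norm_num) (by norm_num)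

theorem hN₀ : ∀ γ ∈ Cfsg.Spor.M23,
    γ ∈ Subgroup.normalizer ((C (gn tabs) 0 n : Subgroup (Equiv.Perm GolayPt)) :
      Set (Equiv.Perm GolayPt)) →
    ∀ r : ℕ, r.Prime → r ≠ 2 → γ ^ r = 1 → γ = 1 := by
  intro γ hγ hN r hr hr2 hpow
  have hγ24 : γ ∈ M24 := hγ.1
  have hnone : γ none = none := by
    have h : γ ∈ MulAction.stabilizer (Equiv.Perm GolayPt) (none : GolayPt) := hγ.2
    rwa [MulAction.mem_stabilizer_iff, Equiv.Perm.smul_def] at h
  apply norm_trivial γ hγ24 r hr hr2 hpow cls ?_ (cVf PL) (cV_inv hok n PL twP hpair γ hN)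
    Om (by decide) (by decide +kernel) hcert1 hcert2
  intro x
  unfold cls
  rw [sz_inv hok n labL twL horb γ hN x]
  have : γ x = none ↔ x = none := by
    constructor
    · intro h
      rw [← hnone] at h
      exact γ.injective h
    · intro h; rw [h, hnone]
  simp only [this]

theorem main (S : Sylow 2 ↥Cfsg.Spor.M23) :
    (groupFusionSystem (S : Subgroup ↥Cfsg.Spor.M23)).IsSimple 2 :=
  simple_of_concrete Cfsg.Spor.M23 (C (gn tabs) 0 n) S₀_le n (by decide) card_S₀ hfac hN₀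
    (fun T hT hTb hcl => sc_of_cert hok hpc hcen Cfsg.Spor.M23 S₀_le Fin steps hks hchain T hT hTb hcl) S

end Cfsg.Agent.H9MF.M23
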