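import Mathlib
import Cfsg.Prelude
import Cfsg.Agent.Lib.Helper9.MatFusB
import Cfsg.Agent.Lib.Helper9.MatFusD
import Cfsg.Agent.Lib.Helper1.MathieuMem

set_option autoImplicit false
set_option maxRecDepth 1000000

/-!
# Certificate data for a Sylow `2`-subgroup of the Mathieu group M24
-/

namespace Cfsg.Agent.H9MF.M24

open Cfsg
open Cfsg.Agent.Lib.Helper9.M24 (tperm tabOK tabM24 tget natOfPt ptOfNat)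
open Cfsg.Agent.Lib.Helper6.M24Q (subl)

def tabs : List (List ℕ) :=
  [[0, 1, 2, 3, 13, 5, 19, 21, 11, 15, 20, 8, 18, 4, 14, 9, 22, 17, 12, 6, 10, 7, 16, 23], [0, 1, 2, 3, 6, 5, 4, 22, 20, 12, 11, 10, 9, 19, 14, 18, 21, 17, 15, 13, 8, 16, 7, 23], [0, 1, 2, 3, 7, 5, 22, 4, 15, 11, 12, 9, 10, 21, 14, 8, 19, 17, 20, 16, 18, 13, 6, 23], [0, 1, 2, 3, 8, 5, 20, 15, 4, 21, 19, 13, 16, 11, 14, 7, 12, 17, 22, 10, 6, 9, 18, 23], [1, 0, 23, 14, 4, 17, 19, 21, 11, 9, 10, 8, 18, 13, 3, 15, 16, 5, 12, 6, 20, 7, 22, 2], [2, 23, 0, 17, 4, 14, 6, 7, 11, 15, 20, 8, 18, 13, 5, 9, 16, 3, 12, 19, 10, 21, 22, 1], [3, 14, 17, 0, 4, 23, 6, 21, 11, 9, 20, 8, 12, 13, 1, 15, 22, 2, 18, 19, 10, 7, 16, 5], [0, 1, 2, 5, 4, 3, 21, 19, 11, 10, 9, 8, 18, 13, 17, 20, 16, 14, 12, 7, 15, 6, 22, 23], [0, 1, 2, 14, 4, 17, 7,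 6, 12, 15, 20, 18, 8, 13, 3, 9, 16, 5, 11, 21, 10, 19, 22, 23], [0, 2, 1, 3, 4, 5, 15, 10, 11, 19, 7, 8, 12, 13, 17, 6, 22, 14, 18, 9, 21, 20, 16, 23]]

def Sq : List (List ℕ) :=
  [[], [], [], [], [], [], [], [], [], []]

def Wl : List (List (List ℕ)) :=
  [[], [[0]], [[0], [1]], [[0], [1], [2]], [[0], [0, 1], [0, 2], [0, 3]], [[0], [1], [2], [0, 3], [4]], [[0], [1], [0, 2], [0, 3], [4], [5]], [[0], [0, 2], [0, 1], [0, 3], [4], [5], [4, 5, 6]], [[0], [2], [1], [0, 1, 2, 3], [4], [5], [4, 6], [7]], [[0], [2, 3], [0, 1, 3], [0, 3], [5], [4], [6], [7], [7, 8]]]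

def labL : List ℕ :=
  [0, 0, 0, 0, 4, 0, 4, 4, 4, 4, 4, 4, 4, 4, 0, 4, 4, 0, 4, 4, 4, 4, 4, 0]

def twL : List (List ℕ) :=
  [[], [4], [5], [6], [], [7, 6], [1], [2], [3], [9, 1, 0], [9, 2], [3, 0], [8, 3], [0], [6, 4], [9, 1], [2, 1, 0], [6, 5], [8, 3, 0], [1, 0], [3, 1], [2, 0], [2, 1], [5, 4]]

def PL : List (List ℕ) :=
  [[0, 1, 1, 3, 4, 3, 4, 4, 4, 4, 4, 4, 4, 4, 3, 4, 4, 3, 4, 4, 4, 4, 4, 23], [1, 0, 23, 3, 4, 3, 4, 4, 4, 4, 4, 4, 4, 4, 3, 4, 4, 3, 4, 4, 4, 4, 4, 1], [1, 23, 0, 3, 4, 3, 4, 4, 4, 4, 4, 4, 4, 4, 3, 4, 4, 3, 4, 4, 4, 4, 4, 1], [3, 3, 3, 0, 4, 23, 4, 4, 4, 4, 4, 4, 4, 4, 1, 4, 4, 1, 4, 4, 4, 4, 4, 3], [96, 96, 96, 96, 100, 96, 102, 102, 104, 102, 102, 104, 104, 109, 96, 102, 112, 96, 104, 102, 102, 102, 112, 96], [3, 3, 3, 23, 4, 0, 4, 4, 4, 4, 4, 4, 4, 4, 1, 4, 4, 1,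 4, 4, 4, 4, 4, 3], [96, 96, 96, 96, 102, 96, 100, 112, 102, 104, 104, 102, 102, 102, 96, 104, 102, 96, 102, 109, 104, 112, 102, 96], [96, 96, 96, 96, 102, 96, 112, 100, 102, 104, 104, 102, 102, 102, 96, 104, 102, 96, 102, 112, 104, 109, 102, 96], [96, 96, 96, 96, 104, 96, 102, 102, 100, 102, 102, 109, 112, 104, 96, 102, 104, 96, 112, 102, 102, 102, 104, 96], [96, 96, 96, 96, 102, 96, 104, 104, 102, 100, 112, 102, 102, 102, 96, 109, 102, 96, 102, 104, 112, 104, 102, 96], [96, 96, 96, 96, 102, 96, 104, 104, 102, 112, 100, 102, 102, 102, 96, 112, 102, 96, 102, 104, 109, 104, 102, 96], [96, 96, 96, 96, 104, 96, 102, 102, 109, 102, 102, 100, 112, 104, 96, 102, 104, 96, 112, 102, 102, 102, 104, 96], [96, 96, 96, 96, 104, 96, 102, 102, 112, 102, 102, 112, 100, 104, 96, 102, 104, 96, 109, 102, 102,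 102, 104, 96], [96, 96, 96, 96, 109, 96, 102, 102, 104, 102, 102, 104, 104, 100, 96, 102, 112, 96, 104, 102, 102, 102, 112, 96], [3, 3, 3, 1, 4, 1, 4, 4, 4, 4, 4, 4, 4, 4, 0, 4, 4, 23, 4, 4, 4, 4, 4, 3], [96, 96, 96, 96, 102, 96, 104, 104, 102, 109, 112, 102, 102, 102, 96, 100, 102, 96, 102, 104, 112, 104, 102, 96], [96, 96, 96, 96, 112, 96, 102, 102, 104, 102, 102, 104, 104, 112, 96, 102, 100, 96, 104, 102, 102, 102, 109, 96], [3, 3, 3, 1, 4, 1, 4, 4, 4, 4, 4, 4, 4, 4, 23, 4, 4, 0, 4, 4, 4, 4, 4, 3], [96, 96, 96, 96, 104, 96, 102, 102, 112, 102, 102, 112, 109, 104, 96, 102, 104, 96, 100, 102, 102, 102, 104, 96], [96, 96, 96, 96, 102, 96, 109, 112, 102, 104, 104, 102, 102, 102, 96, 104, 102, 96, 102, 100, 104, 112, 102, 96], [96, 96, 96, 96, 102, 96, 104, 104, 102, 112, 109, 102, 102, 102,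 96, 112, 102, 96, 102, 104, 100, 104, 102, 96], [96, 96, 96, 96, 102, 96, 112, 109, 102, 104, 104, 102, 102, 102, 96, 104, 102, 96, 102, 112, 104, 100, 102, 96], [96, 96, 96, 96, 112, 96, 102, 102, 104, 102, 102, 104, 104, 112, 96, 102, 109, 96, 104, 102, 102, 102, 100, 96], [23, 1, 1, 3, 4, 3, 4, 4, 4, 4, 4, 4, 4, 4, 3, 4, 4, 3, 4, 4, 4, 4, 4, 0]]

def twP : List (List (List ℕ)) :=
  [[[], [], [9], [], [], [7], [1], [2], [3], [9, 1, 0], [9, 2], [3, 0], [8, 3], [0], [8], [9, 1], [2, 1, 0], [8, 7], [8, 3, 0], [1, 0], [3, 1], [2, 0], [2, 1], []], [[4], [4], [4], [8, 4], [4], [8, 7, 4], [1, 4], [2, 4], [3, 4], [3, 4, 2], [3, 4, 1], [4, 3], [8, 3, 4], [4, 0], [4], [9, 5, 1], [2, 4, 1], [7, 4], [8, 4, 3], [4, 1], [4, 3, 1], [4, 2], [4, 2, 1], [9, 5]], [[9, 4], [5], [5], [9, 8, 4], [5], [8, 5],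 [5, 1], [5, 2], [3, 5], [9, 4, 1], [5, 3, 1], [5, 3], [8, 3, 5], [5, 0], [7, 5], [3, 5, 2], [5, 2, 1, 0], [5], [8, 5, 3], [5, 1, 0], [3, 5, 1], [5, 2, 0], [5, 2, 1], [5]], [[6], [6, 8], [6, 8, 7], [6], [6], [6], [6, 1], [2, 6], [3, 6], [3, 6, 2], [6, 3, 1], [6, 3], [6, 8, 3], [6, 0], [6], [9, 6, 1], [6, 2, 1], [9, 6], [6, 8, 3, 0], [6, 1, 0], [3, 6, 1], [6, 2], [2, 6, 1], [6, 7]], [[], [4], [5], [6], [], [7, 6], [], [8], [], [9, 4], [9, 8], [4], [8], [], [6, 4], [9], [], [6, 5], [8, 4], [4], [9, 7], [7], [6], [5, 4]], [[7, 6], [7, 6, 8], [8, 6, 5], [7, 6], [7, 6], [7, 6], [7, 6, 2], [2, 7, 6], [7, 6, 3], [7, 6, 3, 1], [7, 3, 6, 2], [7, 3, 6], [8, 6, 5, 3], [7, 6, 0], [9, 7, 6], [7, 3, 6, 1], [7, 6, 2, 1], [7, 6], [7, 6, 8, 3], [7, 2, 6], [9, 7, 6, 1], [7, 6, 1], [7, 2, 6, 1], [6, 5, 4]],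 [[1], [1, 4], [5, 1], [6, 1], [1], [7, 6, 2], [1], [6, 1], [1, 9, 7], [8, 2], [5, 1], [1, 9, 8], [1, 9, 4], [1, 4], [6, 1, 4], [8, 5, 2], [1, 7], [6, 5, 1], [1, 9], [1], [1], [1], [8, 2], [5, 1, 4]], [[2], [2, 4], [5, 2], [2, 6], [8, 1], [2, 7, 6], [2, 6], [2], [2, 9], [5, 2], [8, 1], [2, 9, 4], [2, 9, 8], [2, 7], [8, 6, 1], [2], [2, 4], [2, 6, 5], [2, 9, 7], [2], [8, 5, 1], [2], [2], [5, 2, 4]], [[3], [3, 4], [3, 5], [3, 6], [3], [7, 6, 3], [9, 7, 3], [3, 9], [3], [3, 7], [3, 4], [3], [3], [3, 4], [6, 4, 3], [3, 8], [3, 8], [6, 5, 3], [3, 6], [3, 9, 8], [3], [9, 4, 3], [3, 8, 4], [5, 4, 3]], [[9, 1, 0], [3, 4, 2], [9, 4, 1], [3, 6, 2], [9, 4, 1], [7, 6, 3, 1], [8, 3, 2], [9, 1, 0], [3, 7, 1], [9, 1, 0], [9, 1, 0], [8, 3, 2], [3, 2, 0], [9, 1, 0], [8, 9, 6, 1], [9, 1, 0], [9, 7, 2], [9, 6,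 4, 1], [3, 4, 2], [8, 9, 1], [3, 2, 0], [3, 2, 0], [9, 8, 2, 0], [9, 5, 4, 1]], [[9, 2], [3, 4, 1], [5, 3, 1], [6, 3, 1], [9, 8, 1], [7, 3, 6, 2], [9, 2], [8, 3, 1], [3, 4, 1], [9, 2], [9, 2], [3, 1, 0], [8, 3, 1], [9, 2, 7], [6, 4, 3, 1], [3, 1, 0], [9, 2], [6, 3, 5, 1], [3, 7, 2], [3, 1, 0], [9, 2], [8, 9, 2, 0], [9, 2, 4], [5, 4, 3, 1]], [[3, 0], [4, 3], [5, 3], [6, 3], [4, 3], [7, 3, 6], [9, 3, 8], [9, 3, 4], [3, 0], [3, 8, 0], [3, 0], [3, 0], [6, 3], [3, 0], [6, 3, 4], [7, 3], [4, 3, 8], [6, 3, 5], [3, 0], [9, 3, 7], [4, 3], [9, 3], [3, 8, 0], [5, 3, 4]], [[8, 3], [8, 3, 4], [8, 3, 5], [6, 8, 3], [8, 3], [8, 6, 5, 3], [8, 3, 9], [9, 8, 3], [8, 3], [8, 3, 8], [8, 3], [2, 9, 2], [8, 3], [8, 3, 4], [8, 3, 6], [8, 3, 7], [8, 3, 8], [8, 7, 6, 3], [8, 3], [2, 9, 2], [6, 8, 3], [7, 1, 9, 1],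 [2, 9, 2], [8, 5, 4, 3]], [[0], [4, 0], [5, 0], [6, 0], [0], [7, 6, 0], [4, 0], [7, 0], [4, 0], [9, 0], [9, 7, 0], [0], [8, 4, 0], [0], [6, 4, 0], [9, 4, 0], [6, 0], [6, 5, 0], [8, 0], [0], [9, 8, 0], [8, 0], [0], [5, 4, 0]], [[8, 6], [6, 4], [6, 7, 4], [6, 4], [6, 4], [9, 6, 5], [6, 1, 4], [8, 6, 1], [6, 4, 3], [8, 9, 6, 1], [6, 4, 3, 1], [6, 3, 4], [8, 3, 6], [6, 4, 0], [6, 4], [9, 6, 5, 1], [6, 4, 2, 1], [6, 4], [8, 6, 3], [6, 4, 1], [8, 6, 3, 1], [6, 2, 4], [6, 2, 4, 1], [8, 6, 7]], [[9, 1], [9, 5, 1], [3, 5, 2], [9, 6, 1], [9, 1], [7, 3, 6, 1], [8, 9, 1, 0], [3, 2], [3, 8, 1], [9, 1], [3, 2], [7, 3, 1], [4, 3, 2], [9, 1, 4], [9, 6, 5, 1], [9, 1], [9, 8, 2], [6, 3, 5, 2], [3, 2], [3, 8, 1], [9, 1], [9, 1], [9, 1, 7], [5, 3, 4, 2]], [[2, 1, 0], [2, 4, 1], [5, 2, 1, 0], [6, 2, 1], [2, 1,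 0], [7, 6, 2, 1], [1, 7, 1], [2, 4, 1], [3, 8, 3], [9, 7, 2, 1], [9, 2, 1], [8, 6, 2, 1], [2, 1, 0], [6, 2, 1], [6, 4, 2, 1], [9, 8, 2, 1], [2, 1, 0], [6, 5, 2, 1], [6, 2, 1], [3, 8, 3], [9, 4, 2, 1], [2, 1, 0], [2, 1, 0], [5, 2, 4, 1]], [[8, 7, 6], [7, 6, 4], [6, 5], [9, 6, 4], [6, 5], [6, 5], [6, 5, 1], [2, 6, 5], [6, 5, 3], [9, 6, 4, 1], [6, 3, 5, 1], [6, 3, 5], [8, 7, 6, 3], [6, 5, 0], [6, 5], [6, 3, 5, 2], [6, 5, 2, 1], [6, 5], [6, 8, 5, 3], [6, 5, 1, 0], [6, 5, 3, 1], [6, 5, 2], [2, 6, 5, 1], [6, 8, 5]], [[8, 3, 0], [8, 4, 3], [8, 5, 3], [6, 8, 3, 0], [8, 4, 3], [7, 6, 8, 3], [1, 9, 1], [2, 9, 7, 1], [1, 9, 1], [8, 7, 3], [8, 4, 3], [8, 3, 0], [8, 3, 0], [8, 3, 0], [8, 6, 3], [3, 2, 1], [1, 9, 1], [6, 8, 5, 3], [8, 3, 0], [8, 9, 3], [8, 3, 0], [9, 8, 3, 0], [3, 2, 1], [8, 5, 3, 4]],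 [[1, 0], [4, 1], [5, 1, 0], [6, 1, 0], [4, 1], [7, 2, 6], [1, 0], [1, 0], [1, 9, 8, 0], [8, 7, 1], [1, 0], [7, 2, 9], [1, 9, 0], [1, 0], [6, 4, 1], [8, 2, 0], [8, 2, 0], [6, 5, 1, 0], [1, 9, 4, 0], [1, 0], [4, 1], [6, 1, 0], [7, 2], [5, 4, 1]], [[3, 1], [4, 3, 1], [3, 5, 1], [3, 6, 1], [9, 7, 1], [9, 7, 6, 1], [3, 1], [8, 9, 2], [3, 1], [3, 1], [3, 1], [4, 3, 1], [7, 3, 2], [9, 8, 1, 0], [8, 6, 3, 1], [9, 2, 0], [9, 4, 2], [6, 5, 3, 1], [3, 8, 2], [9, 2, 0], [3, 1], [3, 8, 2], [9, 2, 0], [5, 3, 4, 1]], [[2, 0], [4, 2], [5, 2, 0], [6, 2], [7, 1], [7, 6, 1], [2, 0], [2, 0], [2, 9, 4, 0], [2, 0], [8, 4, 1], [2, 9, 0], [7, 1, 9], [8, 1, 0], [6, 2, 4], [7, 1], [2, 0], [6, 5, 2], [2, 9, 8, 0], [6, 2], [8, 1, 0], [2, 0], [4, 2], [5, 4, 2]], [[2, 1], [4, 2, 1], [5, 2, 1], [2, 6, 1], [2, 6, 1], [7,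 2, 6, 1], [8, 2, 1], [2, 1], [8, 4, 2, 1], [9, 3, 8, 3], [9, 2, 4, 1], [8, 2, 1], [4, 2, 1], [2, 1], [6, 2, 4, 1], [9, 1, 7, 1], [2, 1], [2, 6, 5, 1], [2, 1], [7, 2, 1], [2, 1, 9], [4, 2, 1], [2, 1], [5, 4, 2, 1]], [[5, 4], [9, 5, 4], [5, 4], [7, 5, 4], [5, 4], [5, 4], [5, 1, 4], [5, 2, 4], [5, 4, 3], [9, 5, 4, 1], [5, 4, 3, 1], [5, 3, 4], [8, 5, 4, 3], [5, 4, 0], [8, 7, 5, 4], [5, 3, 4, 2], [5, 2, 4, 1], [8, 5, 4], [8, 5, 3, 4], [5, 4, 1], [5, 3, 4, 1], [5, 4, 2], [5, 4, 2, 1], [5, 4]]]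

def steps : List (List ℕ × List ℕ × List ℕ) :=
  [([0], [23, 5, 1, 0, 16, 14, 4, 10, 18, 7, 12, 8, 19, 13, 17, 6, 20, 2, 21, 22, 11, 9, 15, 3], [1, 2]),
   ([0], [16, 8, 11, 18, 10, 12, 21, 2, 20, 23, 19, 9, 5, 15, 22, 1, 3, 4, 17, 6, 7, 0, 14, 13], [5, 7]),
   ([2], [15, 17, 6, 11, 3, 21, 10, 16, 18, 9, 2, 0, 5, 23, 8, 1, 12, 20, 4, 22, 19, 7, 13, 14], [9]),
   ([1], [13, 22, 20, 15, 1, 16, 12, 11, 6, 18, 8, 2, 0, 21, 4, 5, 19, 9, 7, 17, 3, 14, 23, 10], [5, 8]),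
   ([1], [17, 23, 1, 14, 10, 3, 21, 16, 15, 12, 9, 19, 13, 7, 5, 4, 22, 2, 18, 20, 6, 8, 11, 0], [1]),
   ([1], [22, 9, 12, 7, 14, 15, 5, 1, 10, 0, 17, 2, 3, 13, 16, 11, 4, 18, 20, 6, 8, 19, 23, 21], [0, 5, 6])]

def Fin : List (List ℕ) :=
  [[0], [5], [1, 5], [1, 3, 5, 3, 5], [4, 6, 4, 6], [3, 2, 4, 3, 4], [0, 2, 4, 6, 2, 4], [4, 6, 2, 4, 6], [3, 2, 4, 3], [3]]

def n : ℕ := 10

theorem hok : tabsOK tabs = true := by decide +kernel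

theorem hpc : pcOK tabs n Sq Wl = true := by decide +kernel

theorem hnd : ((subl (List.range n)).map (enc tabs)).Nodup := by decide +kernel

theorem hlen : (subl (List.range n)).length = 2 ^ n := by decide +kernel

theorem hcen : centerOK tabs n = true := by decide +kernel

theorem horb : orbOK tabs n labL twL = true := by decide +kernel

theorem hpair : pairOK tabs n PL twP = true := by decide +kernel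

theorem hchain : chainOK tabs n Fin steps [[0]] = true := by decide +kernel

end Cfsg.Agent.H9MF.M24
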