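import Mathlib
import Cfsg.Prelude
import Cfsg.Agent.Lib.Helper9.MatFusM24Data
import Cfsg.Agent.Lib.Helper9.MatFusM22
import Cfsg.Agent.S2882

set_option autoImplicit false
set_option maxRecDepth 1000000

/-!
# The `2`-fusion system of the Mathieu group `M24` is simple
-/

namespace Cfsg.Agent.H9MF.M24

open Cfsg
open Cfsg.Agent.Lib.Helper9.M24 (tperm tabOK tabM24 tget natOfPt ptOfNat tperm_mem card_M24)
open Cfsg.Agent.Lib.Helper6.M24Syl (C C_le)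

theorem htabs : ∀ t ∈ List.range 24 :: tabs, tabM24 t = true := by
  decide +kernel

theorem S₀_le : C (gn tabs) 0 n ≤ Cfsg.M24 := by
  apply C_le
  intro k _ _
  exact tperm_mem (Tb_ok hok k) (htabs _ (Tb_mem k))

theorem hks0 : ∀ s ∈ steps, tabOK s.2.1 = true ∧ tabM24 s.2.1 = true ∧ ∀ k ∈ s.2.2, k < n := by
  decide +kernel

theorem hks : ∀ s ∈ steps, tabOK s.2.1 = true ∧ tperm s.2.1 ∈ Cfsg.M24 ∧ ∀ k ∈ s.2.2, k < n := by
  intro s hs
  obtain ⟨h1, h2, h5⟩ := hks0 s hs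
  exact ⟨h1, tperm_mem h1 h2, h5⟩

theorem card_S₀ : Nat.card (C (gn tabs) 0 n) = 2 ^ n := by rw [card_S hok hpc hnd, hlen]

theorem hfac : (Nat.card Cfsg.M24).factorization 2 = n := by
  rw [card_M24]
  exact fac_two 244823040 10 239085 (by norm_num) (by norm_num)

theorem hN₀ : ∀ γ ∈ Cfsg.M24,
    γ ∈ Subgroup.normalizer ((C (gn tabs) 0 n : Subgroup (Equiv.Perm GolayPt)) :
      Set (Equiv.Perm GolayPt)) →
    ∀ r : ℕ, r.Prime → r ≠ 2 → γ ^ r = 1 → γ = 1 := by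
  intro γ hγ hN r hr hr2 hpow
  haveI : Fact (Nat.Prime 2) := ⟨Nat.prime_two⟩
  have hc : Nat.card ((C (gn tabs) 0 n).subgroupOf Cfsg.M24) = 2 ^ (Nat.card Cfsg.M24).factorization 2 := by
    rw [hfac, Nat.card_congr (Subgroup.subgroupOfEquivOfLe S₀_le).toEquiv, card_S₀]
  obtain ⟨P₀, hP₀⟩ : ∃ P₀ : Sylow 2 Cfsg.M24, (P₀ : Subgroup Cfsg.M24) = (C (gn tabs) 0 n).subgroupOf Cfsg.M24 :=
    ⟨Sylow.ofCard _ hc, rfl⟩
  have hself := Cfsg.Agent.S2882.result P₀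
  have h1 : (⟨γ, hγ⟩ : Cfsg.M24) ∈ Subgroup.normalizer ((P₀ : Subgroup Cfsg.M24) : Set Cfsg.M24) := by
    rw [hP₀, Subgroup.mem_normalizer_iff]
    intro s
    rw [Subgroup.mem_subgroupOf, Subgroup.mem_subgroupOf]
    exact Subgroup.mem_normalizer_iff.mp hN s.1
  rw [hself, hP₀, Subgroup.mem_subgroupOf] at h1
  have h2 : γ ∈ C (gn tabs) 0 n := h1
  obtain ⟨k, hk⟩ := (IsPGroup.iff_orderOf.mp (S_isPGroup hok hpc)) ⟨γ, h2⟩
  rw [Subgroup.orderOf_mk] at hk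
  have h3 : orderOf γ ∣ r := orderOf_dvd_of_pow_eq_one hpow
  rw [hk] at h3
  have h4 : k = 0 := by
    by_contra hk0
    have : 2 ∣ r := (dvd_pow_self 2 hk0).trans h3
    exact hr2 ((Nat.prime_dvd_prime_iff_eq Nat.prime_two hr).mp this).symm
  rw [h4, pow_zero] at hk
  exact orderOf_eq_one_iff.mp hk

theorem main (S : Sylow 2 ↥Cfsg.M24) :
    (groupFusionSystem (S : Subgroup ↥Cfsg.M24)).IsSimple 2 :=
  simple_of_concrete Cfsg.M24 (C (gn tabs) 0 n) S₀_le n (by decide) card_S₀ hfac hN₀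
    (fun T hT hTb hcl => sc_of_cert hok hpc hcen Cfsg.M24 S₀_le Fin steps hks hchain T hT hTb hcl) S

end Cfsg.Agent.H9MF.M24
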