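import Mathlib
import Cfsg.Agent.Lib.Lead.MaxClass3
import Cfsg.Agent.Lib.Lead.MaxClass8

set_option autoImplicit false

namespace Cfsg.Agent.Lib.Helper9.H9MaxClass

open Cfsg.Agent.Lib.Lead

universe u

variable {G : Type u} [Group G] [Finite G] {p : ℕ} [hp : Fact p.Prime]

/-- Maximal class from the lower central series. -/
theorem nilpotencyClass_of_lower (n : ℕ) (hn : 2 ≤ n) (hG : Nat.card G = p ^ n)
    (hmax : Subgroup.lowerCentralSeries (⊤ : Subgroup G) (n - 2) ≠ ⊥) :
    Group.nilpotencyClass G = n - 1 := by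
  have hGp : IsPGroup p G := IsPGroup.of_card hG
  haveI : Group.IsNilpotent G := hGp.isNilpotent
  have h1 := nilpotencyClass_le_of_card (p := p) n G hG hn
  have h2 : ¬ Group.nilpotencyClass G ≤ n - 2 := by
    intro h
    exact hmax (Subgroup.lowerCentralSeries_eq_bot_iff_nilpotencyClass_le.mpr h)
  omega

/-- In a `p`-group of maximal class of order at least `p⁴`, the centre has order `p` and the second centre order
`p²`. -/
theorem card_center_and_second (n : ℕ) (hn : 4 ≤ n) (hG : Nat.card G = p ^ n)
    (hc : Group.nilpotencyClass G = n - 1) :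
    Nat.card (Subgroup.center G) = p ∧ Nat.card (Subgroup.upperCentralSeries G 2) = p ^ 2 := by
  obtain ⟨h1, h2, h3⟩ := card_center_of_maximal_class (p := p) n (by omega) hG hc
  have hc' : Group.nilpotencyClass (G ⧸ Subgroup.center G) = (n - 1) - 1 := by rw [h3]; omega
  obtain ⟨h4, -, -⟩ := card_center_of_maximal_class (p := p) (X := G ⧸ Subgroup.center G) (n - 1)
    (by omega) h2 hc'
  refine ⟨h1, ?_⟩
  have h5 := Subgroup.comap_upperCentralSeries_quotient_center (G := G) 1
  rw [Subgroup.upperCentralSeries_one] at h5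
  rw [← h5, card_comap_mk', h4, h1, sq]

end Cfsg.Agent.Lib.Helper9.H9MaxClass
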