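import Mathlib
import Cfsg.Agent.Lib.Helper9.MaxClassFus1

set_option autoImplicit false

namespace Cfsg.Agent.Lib.Helper9.H9MaxClass

open Cfsg.Agent.Lib.Lead

universe u

variable {G : Type u} [Group G] [Finite G] {p : ℕ} [hp : Fact p.Prime]

/-- Data on the second centre of a `p`-group of maximal class of order at least `p⁴`. -/
theorem second_center_data (n : ℕ) (hn : 4 ≤ n) (hG : Nat.card G = p ^ n)
    (hc : Group.nilpotencyClass G = n - 1) :
    (∀ a ∈ Subgroup.upperCentralSeries G 2, ∀ b ∈ Subgroup.upperCentralSeries G 2, a * b = b * a) ∧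
    (¬ Subgroup.upperCentralSeries G 2 ≤ Subgroup.center G) ∧
    p ^ n ≤ Nat.card (Subgroup.centralizer ((Subgroup.upperCentralSeries G 2 : Subgroup G) : Set G)) * p := by
  obtain ⟨hZ1, hZ2⟩ := card_center_and_second (p := p) n hn hG hc
  have hp1 : 1 < p := hp.out.one_lt
  have hle : Subgroup.center G ≤ Subgroup.upperCentralSeries G 2 := by
    rw [← Subgroup.upperCentralSeries_one]
    exact Subgroup.upperCentralSeries_mono G (by norm_num)
  have hcomm : ∀ a ∈ Subgroup.upperCentralSeries G 2, ∀ b ∈ Subgroup.upperCentralSeries G 2, a * b = b * a := by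
    intro a ha b hb
    have := IsPGroup.commutative_of_card_eq_prime_sq (p := p) (G := ↥(Subgroup.upperCentralSeries G 2)) hZ2
      ⟨a, ha⟩ ⟨b, hb⟩
    exact congrArg Subtype.val this
  have hnle : ¬ Subgroup.upperCentralSeries G 2 ≤ Subgroup.center G := by
    intro h
    have := Subgroup.card_le_of_le h
    rw [hZ1, hZ2] at this
    have : p * p ≤ p * 1 := by rw [← sq, mul_one]; exact this
    have := Nat.le_of_mul_le_mul_left this (by omega)
    omega
  refine ⟨hcomm, hnle, ?_⟩
  obtain ⟨v₀, hv₀, hv₀Z⟩ := SetLike.not_le_iff_exists.mp hnle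
  -- Z₂ = Z ⊔ ⟨v₀⟩
  have hsup : Subgroup.center G ⊔ Subgroup.zpowers v₀ = Subgroup.upperCentralSeries G 2 := by
    have hle' : Subgroup.center G ⊔ Subgroup.zpowers v₀ ≤ Subgroup.upperCentralSeries G 2 :=
      sup_le hle (by rw [Subgroup.zpowers_le]; exact hv₀)
    apply Subgroup.eq_of_le_of_card_ge hle'
    have hlt : Subgroup.center G < Subgroup.center G ⊔ Subgroup.zpowers v₀ := by
      refine lt_of_le_of_ne le_sup_left ?_
      intro h
      apply hv₀Z
      rw [h]
      exact (le_sup_right : Subgroup.zpowers v₀ ≤ _) (Subgroup.mem_zpowers v₀)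
    have hdvd : Nat.card (Subgroup.center G ⊔ Subgroup.zpowers v₀ : Subgroup G) ∣ p ^ 2 := by
      rw [← hZ2]; exact Subgroup.card_dvd_of_le hle'
    obtain ⟨k, hk, hkc⟩ := (Nat.dvd_prime_pow hp.out).mp hdvd
    have hlt' : Nat.card (Subgroup.center G) < Nat.card (Subgroup.center G ⊔ Subgroup.zpowers v₀ : Subgroup G) := by
      by_contra hcon
      push Not at hcon
      exact hlt.ne (Subgroup.eq_of_le_of_card_ge hlt.le hcon)
    rw [hZ1, hkc] at hlt'
    have hk2 : k = 2 := by
      have : 1 < k := by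
        by_contra h
        push Not at h
        have : p ^ k ≤ p ^ 1 := Nat.pow_le_pow_right (by omega) h
        rw [pow_one] at this
        omega
      omega
    rw [hZ2, hkc, hk2]
  have hA : ∀ x ∈ (⊤ : Subgroup G), x * v₀ = v₀ * x →
      x ∈ Subgroup.centralizer ((Subgroup.upperCentralSeries G 2 : Subgroup G) : Set G) := by
    intro x _ hx
    have h1 : Subgroup.center G ⊔ Subgroup.zpowers v₀ ≤ Subgroup.centralizer ({x} : Set G) := by
      apply sup_le
      · intro z hz
        rw [Subgroup.mem_centralizer_iff]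
        intro y hy
        rw [Set.mem_singleton_iff] at hy
        rw [hy]
        exact (Subgroup.mem_center_iff.mp hz x)
      · rw [Subgroup.zpowers_le, Subgroup.mem_centralizer_iff]
        intro y hy
        rw [Set.mem_singleton_iff] at hy
        rw [hy]
        exact hx
    rw [hsup] at h1
    rw [Subgroup.mem_centralizer_iff]
    intro v hv
    have := h1 hv
    rw [Subgroup.mem_centralizer_iff] at this
    exact (this x rfl).symm
  have hD : ∀ x ∈ (⊤ : Subgroup G), x * v₀ * x⁻¹ * v₀⁻¹ ∈ Subgroup.center G := by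
    intro x _
    have h1 := (Subgroup.mem_upperCentralSeries_succ_iff (n := 1)).mp hv₀ x
    rw [Subgroup.upperCentralSeries_one] at h1
    have h2 : x * v₀ * x⁻¹ * v₀⁻¹ = (v₀ * x * v₀⁻¹ * x⁻¹)⁻¹ := by group
    rw [h2]
    exact Subgroup.inv_mem _ h1
  have h := card_le_of_commutator_mem_central' (Subgroup.center G) le_rfl
    (Subgroup.centralizer ((Subgroup.upperCentralSeries G 2 : Subgroup G) : Set G)) ⊤ v₀ hA hD
  rw [Subgroup.card_top, hG, hZ1] at h
  exact h

end Cfsg.Agent.Lib.Helper9.H9MaxClass
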