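import Mathlib
import Cfsg.Prelude.Def_FusionSystem
import Cfsg.Agent.S5081
import Cfsg.Agent.Lib.Helper9.MaxClassFus2
import Cfsg.Agent.Lib.Helper9.Radical3
import Cfsg.Agent.Lib.Helper9.FusionSat3

set_option autoImplicit false
set_option maxHeartbeats 1000000

namespace Cfsg.Agent.Lib.Helper9.H9MaxClass

open Cfsg Cfsg.FusionSystem Cfsg.Agent.Lib.Helper9

variable {Ω : Type*} [Group Ω] {S : Subgroup Ω}

theorem mem_centerMap_iff (y : Ω) :
    y ∈ (Subgroup.center ↥S).map S.subtype ↔ y ∈ S ∧ ∀ s ∈ S, s * y = y * s := by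
  constructor
  · rintro ⟨a, ha, rfl⟩
    refine ⟨a.2, fun s hs => ?_⟩
    have := Subgroup.mem_center_iff.mp ha ⟨s, hs⟩
    exact congrArg Subtype.val this
  · rintro ⟨hy, h⟩
    refine ⟨⟨y, hy⟩, ?_, rfl⟩
    show (⟨y, hy⟩ : S) ∈ Subgroup.center ↥S
    rw [Subgroup.mem_center_iff]
    intro s
    exact Subtype.ext (h s s.2)

/-- A map of the system defined on all of `S` preserves and reflects the centre of `S`. -/
theorem center_iff_of_hom_top [Finite S] (F : FusionSystem S) {χ : S →* Ω} (hχ : χ ∈ F.Hom S) (s : S) :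
    (s : Ω) ∈ (Subgroup.center ↥S).map S.subtype ↔ χ s ∈ (Subgroup.center ↥S).map S.subtype := by
  have hval : ∀ x : S, χ x ∈ S := (F.le_of_mem hχ).2
  have hinj := F.injective_of_mem hχ
  have hinj' : Function.Injective (χ.codRestrict S hval) := by
    intro a b hab
    exact hinj (congrArg Subtype.val hab)
  have hsurj : Function.Surjective (χ.codRestrict S hval) := Finite.injective_iff_surjective.mp hinj'
  rw [mem_centerMap_iff, mem_centerMap_iff]
  constructor
  · rintro ⟨-, h⟩
    refine ⟨hval s, fun t ht => ?_⟩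
    obtain ⟨t', ht'⟩ := hsurj ⟨t, ht⟩
    have ht'' : χ t' = t := congrArg Subtype.val ht'
    rw [← ht'', ← map_mul, ← map_mul]
    congr 1
    exact Subtype.ext (h t' t'.2)
  · rintro ⟨-, h⟩
    refine ⟨s.2, fun t ht => ?_⟩
    have h1 := h (χ ⟨t, ht⟩) (hval _)
    rw [← map_mul, ← map_mul] at h1
    exact congrArg Subtype.val (hinj h1)

/-- The subgroup of automorphisms of `E` preserving and reflecting a given subgroup. -/
def presSub (E Z : Subgroup Ω) : Subgroup (MulAut E) where
  carrier := {β | ∀ x : E, (x : Ω) ∈ Z ↔ ((β x : E) : Ω) ∈ Z}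
  one_mem' := fun _ => Iff.rfl
  mul_mem' := by
    intro a b ha hb x
    rw [MulAut.mul_apply]
    exact (hb x).trans (ha (b x))
  inv_mem' := by
    intro a ha x
    have := ha (a⁻¹ x)
    rw [MulAut.apply_inv_self] at this
    exact this.symm

end Cfsg.Agent.Lib.Helper9.H9MaxClass
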