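import Mathlib
import Cfsg.Prelude.Def_FusionSystem
import Cfsg.Agent.Lib.Helper9.MaxClassFus3

set_option autoImplicit false
set_option maxHeartbeats 1000000

namespace Cfsg.Agent.Lib.Helper9.H9MaxClass

open Cfsg Cfsg.FusionSystem Cfsg.Agent.Lib.Helper9

variable {Ω : Type*} [Group Ω] {S : Subgroup Ω}

theorem centralizer_essential_aux [Finite S] (p : ℕ) [Fact p.Prime] (hS : IsPGroup p S) (n : ℕ)
    (hn : Nat.card S = p ^ n)
    (F : FusionSystem S) (hF : F.IsSaturated p)
    (Z2 : Subgroup S) [hZ2n : Z2.Normal]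
    (hcomm : ∀ a ∈ Z2, ∀ b ∈ Z2, a * b = b * a)
    (hnle : ¬ Z2 ≤ Subgroup.center S)
    (hidx : p ^ n ≤ Nat.card (Subgroup.centralizer ((Z2 : Subgroup S) : Set S)) * p)
    (V : Subgroup Ω) (hV : V = Z2.map S.subtype)
    (φ : V →* Ω)
    (hφ : φ ∈ F.Hom V)
    (hφZ : φ.range = V)
    (hmove : ∃ (z : Ω) (hz : z ∈ V),
      z ∈ ((Subgroup.center ↥S).map S.subtype) ∧ φ ⟨z, hz⟩ ∉ ((Subgroup.center ↥S).map S.subtype)) :
    F.IsEssential p (centralizerIn S V) := by
  have hp1 : 1 < p := (Fact.out : p.Prime).one_lt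
  have hVS : V ≤ S := by rw [hV]; exact Subgroup.map_subtype_le Z2
  have hVmem : ∀ v, v ∈ V ↔ ∃ a : S, a ∈ Z2 ∧ (a : Ω) = v := by
    intro v; rw [hV]; exact Subgroup.mem_map
  -- V is abelian, so V ≤ E
  have hVab : ∀ v ∈ V, ∀ w ∈ V, w * v = v * w := by
    intro v hv w hw
    obtain ⟨a, ha, rfl⟩ := (hVmem v).mp hv
    obtain ⟨b, hb, rfl⟩ := (hVmem w).mp hw
    exact congrArg Subtype.val (hcomm b hb a ha)
  have hVE : V ≤ centralizerIn S V := by
    intro v hv
    refine ⟨hVS hv, ?_⟩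
    show v ∈ Subgroup.centralizer (V : Set Ω)
    rw [Subgroup.mem_centralizer_iff]
    exact fun w hw => hVab v hv w hw
  have hEle : centralizerIn S V ≤ S := inf_le_left
  -- E is the image of C_S(Z2)
  have hEmap : centralizerIn S V = (Subgroup.centralizer (Z2 : Set S)).map S.subtype := by
    ext x
    constructor
    · intro hx
      have hxS : x ∈ S := hx.1
      have hxC : x ∈ Subgroup.centralizer (V : Set Ω) := hx.2
      refine Subgroup.mem_map.mpr ⟨⟨x, hxS⟩, ?_, rfl⟩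
      rw [Subgroup.mem_centralizer_iff] at hxC ⊢
      intro a ha
      apply Subtype.ext
      exact hxC a ((hVmem _).mpr ⟨a, ha, rfl⟩)
    · intro hx
      obtain ⟨s, hs, rfl⟩ := Subgroup.mem_map.mp hx
      refine ⟨s.2, ?_⟩
      show (s : Ω) ∈ Subgroup.centralizer (V : Set Ω)
      rw [Subgroup.mem_centralizer_iff] at hs ⊢
      intro w hw
      obtain ⟨a, ha, rfl⟩ := (hVmem w).mp hw
      exact congrArg Subtype.val (hs a ha)
  have hEcard : p ^ n ≤ Nat.card (centralizerIn S V) * p := by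
    rw [hEmap, Subgroup.card_map_of_injective (Subgroup.subtype_injective S)]
    exact hidx
  -- E < S
  have hElt : centralizerIn S V < S := by
    refine lt_of_le_of_ne hEle ?_
    intro heq
    apply hnle
    intro a ha
    rw [Subgroup.mem_center_iff]
    intro s
    have hs : (s : Ω) ∈ centralizerIn S V := by rw [heq]; exact s.2
    have hsC : (s : Ω) ∈ Subgroup.centralizer (V : Set Ω) := hs.2
    rw [Subgroup.mem_centralizer_iff] at hsC
    exact Subtype.ext (hsC a ((hVmem _).mpr ⟨a, ha, rfl⟩)).symm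
  -- E has index p
  have hmaxl : ∀ Q : Subgroup Ω, centralizerIn S V < Q → Q ≤ S → Q = S := by
    intro Q hlt hQS
    haveI : Finite Q := fs_finite_of_le hQS
    apply Subgroup.eq_of_le_of_card_ge hQS
    have hdvd : Nat.card Q ∣ p ^ n := by rw [← hn]; exact Subgroup.card_dvd_of_le hQS
    obtain ⟨k, hk, hkc⟩ := (Nat.dvd_prime_pow (Fact.out : p.Prime)).mp hdvd
    have h1 : Nat.card (centralizerIn S V) < Nat.card Q := by
      by_contra hcon
      push Not at hcon
      exact hlt.ne (Subgroup.eq_of_le_of_card_ge hlt.le hcon)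
    have h2 : p ^ n < p ^ (k + 1) := by
      calc p ^ n ≤ Nat.card (centralizerIn S V) * p := hEcard
        _ < Nat.card Q * p := Nat.mul_lt_mul_of_pos_right h1 (by omega)
        _ = p ^ (k + 1) := by rw [hkc, pow_succ]
    have h3 : n < k + 1 := (Nat.pow_lt_pow_iff_right hp1).mp h2
    have hkn : k = n := by omega
    rw [hn, hkc, hkn]
  -- V is normal in S, fully normalized, receptive
  have hSNV : S ≤ Subgroup.normalizer (V : Set Ω) := by
    have key : ∀ s ∈ S, ∀ v ∈ V, s * v * s⁻¹ ∈ V := by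
      intro s hs v hv
      obtain ⟨a, ha, rfl⟩ := (hVmem v).mp hv
      exact (hVmem _).mpr ⟨⟨s, hs⟩ * a * ⟨s, hs⟩⁻¹, hZ2n.conj_mem a ha ⟨s, hs⟩, rfl⟩
    intro s hs
    rw [Subgroup.mem_normalizer_iff]
    intro v
    refine ⟨key s hs v, fun h => ?_⟩
    have := key s⁻¹ (S.inv_mem hs) _ h
    have h2 : s⁻¹ * (s * v * s⁻¹) * s⁻¹⁻¹ = v := by group
    rwa [h2] at this
  have hNV : normalizerIn S V = S := le_antisymm inf_le_left (le_inf le_rfl hSNV)
  have hVn : F.IsFullyNormalized V := by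
    refine ⟨hVS, fun Q _ => ?_⟩
    rw [hNV]
    exact fs_card_le_of_le (fs_normalizerIn_le S Q)
  obtain ⟨hVc, -⟩ := fs_sylow_axiom p hS F hF hVn
  have hVr := fs_extension_axiom p hS F hF hVc
  obtain ⟨ψ, hψ, Hψ⟩ := hVr.2 V φ hφ hφZ
  have hEN : centralizerIn S V ≤ extender S V φ := fs_centralizerIn_le_extender V φ
  have hψE := fs_restrict_mem F hψ hEN
  have hψEV : ∀ (v : Ω) (hv : v ∈ V),
      (ψ.comp (Subgroup.inclusion hEN)) ⟨v, hVE hv⟩ = φ ⟨v, hv⟩ := fun v hv => Hψ v hv (hEN (hVE hv))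
  have hval : ∀ y : centralizerIn S V, (ψ.comp (Subgroup.inclusion hEN)) y ∈ centralizerIn S V := by
    intro y
    refine ⟨(F.le_of_mem hψE).2 y, ?_⟩
    show _ ∈ Subgroup.centralizer (V : Set Ω)
    rw [Subgroup.mem_centralizer_iff]
    intro w hw
    have hw' : w ∈ φ.range := by rw [hφZ]; exact hw
    obtain ⟨⟨v', hv'⟩, rfl⟩ := hw'
    rw [← hψEV v' hv', ← map_mul, ← map_mul]
    congr 1
    apply Subtype.ext
    have hyC : (y : Ω) ∈ Subgroup.centralizer (V : Set Ω) := y.2.2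
    rw [Subgroup.mem_centralizer_iff] at hyC
    exact hyC v' hv'
  obtain ⟨α, hα, Hα⟩ := fs_hom_to_aut F hψE hval
  -- E is normal in S, fully normalized
  have hSNE : S ≤ Subgroup.normalizer ((centralizerIn S V : Subgroup Ω) : Set Ω) := by
    intro s hs
    exact mem_normalizer_inf (Subgroup.le_normalizer hs) (mem_normalizer_centralizer (hSNV hs))
  have hNE : normalizerIn S (centralizerIn S V) = S := le_antisymm inf_le_left (le_inf le_rfl hSNE)
  have hEn : F.IsFullyNormalized (centralizerIn S V) := by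
    refine ⟨hEle, fun Q _ => ?_⟩
    rw [hNE]
    exact fs_card_le_of_le (fs_normalizerIn_le S Q)
  -- the subgroup H of automorphisms extending to larger subgroups preserves Z(S)
  obtain ⟨H, hH⟩ : ∃ H : Subgroup (MulAut (centralizerIn S V)),
      H = Subgroup.closure {β : MulAut (centralizerIn S V) | ∃ (Q : Subgroup Ω) (hPQ : centralizerIn S V < Q)
        (χ : Q →* Ω), χ ∈ F.Hom Q ∧ ∀ x : centralizerIn S V, χ (Subgroup.inclusion hPQ.le x) = β x} := ⟨_, rfl⟩
  have hHK : H ≤ presSub (centralizerIn S V) ((Subgroup.center ↥S).map S.subtype) := by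
    rw [hH, Subgroup.closure_le]
    rintro β ⟨Q, hPQ, χ, hχ, Hχ⟩
    have hQS : Q ≤ S := (F.le_of_mem hχ).1
    have hQeq : Q = S := hmaxl Q hPQ hQS
    subst hQeq
    intro x
    rw [← Hχ x]
    exact center_iff_of_hom_top F hχ (Subgroup.inclusion hPQ.le x)
  have hαK : α ∉ presSub (centralizerIn S V) ((Subgroup.center ↥S).map S.subtype) := by
    intro hK
    obtain ⟨z, hzV, hzZ, hφz⟩ := hmove
    have h1 := (hK ⟨z, hVE hzV⟩).mp hzZ
    rw [Hα, hψEV z hzV] at h1
    exact hφz h1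
  rcases Cfsg.Agent.S5081.result p hS F hF (centralizerIn S V) hElt hEn H hH with ⟨-, hHeq⟩ | ⟨hess, -⟩
  · exfalso
    apply hαK
    apply hHK
    rw [hHeq]
    exact hα
  · exact hess

theorem centralizer_second_center_essential [Finite S] (p : ℕ) [Fact p.Prime] (hS : IsPGroup p S) (n : ℕ)
    (hn : Nat.card S = p ^ n) (h4 : 4 ≤ n) (hmax : Subgroup.lowerCentralSeries S (n - 2) ≠ ⊥)
    (F : FusionSystem S) (hF : F.IsSaturated p)
    (φ : ↥((Subgroup.upperCentralSeries ↥S 2).map S.subtype) →* Ω)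
    (hφ : φ ∈ F.Hom ((Subgroup.upperCentralSeries ↥S 2).map S.subtype))
    (hφZ : φ.range = ((Subgroup.upperCentralSeries ↥S 2).map S.subtype))
    (hmove : ∃ (z : Ω) (hz : z ∈ ((Subgroup.upperCentralSeries ↥S 2).map S.subtype)),
      z ∈ ((Subgroup.center ↥S).map S.subtype) ∧ φ ⟨z, hz⟩ ∉ ((Subgroup.center ↥S).map S.subtype)) :
    F.IsEssential p (S ⊓ Subgroup.centralizer (((Subgroup.upperCentralSeries ↥S 2).map S.subtype) : Set Ω)) := by
  have hmax' : Subgroup.lowerCentralSeries (⊤ : Subgroup S) (n - 2) ≠ ⊥ := by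
    intro h
    apply hmax
    rw [← Subgroup.top_subtype_lowerCentralSeries, h, Subgroup.map_bot]
  have hc := nilpotencyClass_of_lower (p := p) n (by omega) hn hmax'
  obtain ⟨hcomm, hnle, hidx⟩ := second_center_data (p := p) n h4 hn hc
  exact centralizer_essential_aux p hS n hn F hF (Subgroup.upperCentralSeries ↥S 2) hcomm hnle hidx _ rfl φ hφ hφZ hmove

end Cfsg.Agent.Lib.Helper9.H9MaxClass
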