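import Mathlib
import Cfsg.Prelude
import Cfsg.Agent.Lib.Lead.CyclicMaxTwoB
import Cfsg.Agent.Lib.Lead.QuatRecog
import Cfsg.Agent.Lib.Helper1.DihedralIso

set_option autoImplicit false

/-!
# A metacyclic `2`-group with a non-abelian subgroup of order `8` is dihedral, semidihedral or
generalised quaternion
-/

namespace Cfsg.Agent.H9MSC2

open Cfsg

variable {P : Type*} [Group P]

/-- conjugation acts on a cyclic normal subgroup by a power map -/
theorem exists_pow_of_normal_zpowers (a : P) (hn : (Subgroup.zpowers a).Normal) (g : P) :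
    ∃ s : ℤ, ∀ c ∈ Subgroup.zpowers a, g * c * g⁻¹ = c ^ s := by
  have h1 : g * a * g⁻¹ ∈ Subgroup.zpowers a := hn.conj_mem a (Subgroup.mem_zpowers a) g
  obtain ⟨s, hs⟩ := Subgroup.mem_zpowers_iff.mp h1
  refine ⟨s, fun c hc => ?_⟩
  obtain ⟨j, rfl⟩ := Subgroup.mem_zpowers_iff.mp hc
  rw [← conj_zpow, ← hs, ← zpow_mul, ← zpow_mul, mul_comm]

/-- an element of order four of a cyclic normal subgroup is centralised or inverted -/
theorem conj_eq_or_inv (a : P) (hn : (Subgroup.zpowers a).Normal) {c : P}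
    (hc : c ∈ Subgroup.zpowers a) (hc4 : orderOf c = 4) (g : P) :
    g * c * g⁻¹ = c ∨ g * c * g⁻¹ = c⁻¹ := by
  obtain ⟨s, hs⟩ := exists_pow_of_normal_zpowers a hn g
  have h1 := hs c hc
  have hc4' : c ^ (4 : ℕ) = 1 := by rw [← hc4]; exact pow_orderOf_eq_one c
  have hc2 : c ^ (2 : ℕ) ≠ 1 := by
    intro h
    have := orderOf_dvd_of_pow_eq_one h
    rw [hc4] at this
    omega
  have hc1 : c ≠ 1 := by
    intro h
    rw [h, orderOf_one] at hc4
    omega
  have h2 : c ^ s = c ^ (s % 4) := by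
    have := zpow_mod_orderOf c s
    rw [hc4] at this
    exact this.symm
  have h3 : 0 ≤ s % 4 := Int.emod_nonneg s (by norm_num)
  have h4 : s % 4 < 4 := Int.emod_lt_of_pos s (by norm_num)
  have h5 : s % 4 = 0 ∨ s % 4 = 1 ∨ s % 4 = 2 ∨ s % 4 = 3 := by omega
  rcases h5 with h5 | h5 | h5 | h5
  · exfalso
    rw [h2, h5, zpow_zero] at h1
    apply hc1
    have h6 : c = g⁻¹ * (g * c * g⁻¹) * g := by group
    rw [h6, h1]; group
  · left
    rw [h1, h2, h5, zpow_one]
  · exfalso
    rw [h2, h5] at h1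
    apply hc2
    have h6 : (g * c * g⁻¹) ^ (2 : ℕ) = 1 := by
      rw [h1]
      have h7 : (c ^ (2 : ℤ)) ^ (2 : ℕ) = c ^ (4 : ℕ) := by
        rw [← zpow_natCast, ← zpow_mul, ← zpow_natCast]; norm_num
      rw [h7, hc4']
    rw [conj_pow] at h6
    have h8 : c ^ (2 : ℕ) = g⁻¹ * (g * c ^ (2 : ℕ) * g⁻¹) * g := by group
    rw [h8, h6]; group
  · right
    rw [h1, h2, h5]
    have h7 : c ^ (3 : ℤ) * c = 1 := by
      have : c ^ (3 : ℤ) * c = c ^ (4 : ℕ) := by
        rw [← zpow_natCast]
        have : c ^ (3 : ℤ) * c = c ^ (3 : ℤ) * c ^ (1 : ℤ) := by rw [zpow_one]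
        rw [this, ← zpow_add]; norm_num
      rw [this, hc4']
    exact eq_inv_of_mul_eq_one_left h7

/-- squares centralise an element of order four of a cyclic normal subgroup -/
theorem sq_conj_eq (a : P) (hn : (Subgroup.zpowers a).Normal) {c : P}
    (hc : c ∈ Subgroup.zpowers a) (hc4 : orderOf c = 4) (g : P) :
    (g * g) * c * (g * g)⁻¹ = c := by
  have h0 : (g * g) * c * (g * g)⁻¹ = g * (g * c * g⁻¹) * g⁻¹ := by group
  rw [h0]
  rcases conj_eq_or_inv a hn hc hc4 g with h | h
  · rw [h, h]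
  · rw [h]
    have h1 : g * c⁻¹ * g⁻¹ = (g * c * g⁻¹)⁻¹ := by group
    rw [h1, h, inv_inv]

/-- **A metacyclic `2`-group with a non-abelian subgroup of order `8`.** -/
theorem dsq_of_nonabelian_eight [Finite P] (hP : IsPGroup 2 P) (hm : Cfsg.IsMetacyclic P)
    (B : Subgroup P) (hB : Nat.card B = 8) (hBna : ∃ x ∈ B, ∃ y ∈ B, x * y ≠ y * x) :
    (∃ m : ℕ, Nonempty (P ≃* DihedralGroup m)) ∨ (∃ m : ℕ, Nonempty (P ≃* QuaternionGroup m)) ∨
      Cfsg.IsQuasiDihedral P := by
  classical
  haveI : Fact (Nat.Prime 2) := ⟨Nat.prime_two⟩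
  obtain ⟨N, hNn, hNc, hQc⟩ := hm
  haveI := hNn
  haveI := hNc
  haveI := hQc
  obtain ⟨g, hg⟩ := IsCyclic.exists_generator (α := N)
  obtain ⟨a, ha⟩ : ∃ a : P, a = (g : P) := ⟨_, rfl⟩
  have hNa : N = Subgroup.zpowers a := by
    ext x
    constructor
    · intro hx
      obtain ⟨j, hj⟩ := Subgroup.mem_zpowers_iff.mp (hg ⟨x, hx⟩)
      rw [ha]
      refine Subgroup.mem_zpowers_iff.mpr ⟨j, ?_⟩
      have := congrArg Subtype.val hj
      simpa using this
    · intro hx
      obtain ⟨j, rfl⟩ := Subgroup.mem_zpowers_iff.mp hx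
      rw [ha]; exact N.zpow_mem g.2 j
  have hzn : (Subgroup.zpowers a).Normal := hNa ▸ hNn
  have hNcomm : ∀ x ∈ N, ∀ y ∈ N, x * y = y * x := by
    intro x hx y hy
    rw [hNa] at hx hy
    obtain ⟨i, rfl⟩ := Subgroup.mem_zpowers_iff.mp hx
    obtain ⟨j, rfl⟩ := Subgroup.mem_zpowers_iff.mp hy
    exact (Commute.zpow_zpow (Commute.refl a) i j).eq
  -- Step 1: a non-central element of `B ∩ N`
  have h1 : ∃ c ∈ B ⊓ N, ∃ u ∈ B, u * c ≠ c * u := by
    by_contra hno
    push Not at hno
    obtain ⟨x, hx, y, hy, hxy⟩ := hBna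
    let f : B →* P ⧸ N := (QuotientGroup.mk' N).comp B.subtype
    have hker : f.ker ≤ Subgroup.center B := by
      intro c hc
      rw [Subgroup.mem_center_iff]
      intro u
      have hcN : (c : P) ∈ N := by
        have : (QuotientGroup.mk' N) (c : P) = 1 := hc
        exact (QuotientGroup.eq_one_iff _).mp this
      apply Subtype.ext
      exact hno c ⟨c.2, hcN⟩ u u.2
    have hcomm := MonoidHom.isMulCommutative_of_isCyclic_of_ker_le_center f hker
    have := hcomm.is_comm.comm (⟨x, hx⟩ : B) ⟨y, hy⟩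
    exact hxy (congrArg Subtype.val this)
  obtain ⟨c, hc, u, hu, huc⟩ := h1
  have hcN : c ∈ N := hc.2
  have hcB : c ∈ B := hc.1
  have hcz : c ∈ Subgroup.zpowers a := hNa ▸ hcN
  -- the order of `c` is four
  have hord : orderOf c = 4 := by
    have hdvd : orderOf c ∣ 2 ^ 3 := by
      have := Subgroup.orderOf_dvd_natCard B hcB
      rw [hB] at this
      exact this
    obtain ⟨k, hk3, hk⟩ := (Nat.dvd_prime_pow Nat.prime_two).mp hdvd
    obtain ⟨s, hs⟩ := exists_pow_of_normal_zpowers a hzn u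
    have hs' := hs c hcz
    have hk' : k = 0 ∨ k = 1 ∨ k = 2 ∨ k = 3 := by omega
    rcases hk' with rfl | rfl | rfl | rfl
    · exfalso
      rw [pow_zero, orderOf_eq_one_iff] at hk
      apply huc
      rw [hk, mul_one, one_mul]
    · exfalso
      rw [pow_one] at hk
      have hc2 : c ^ (2 : ℤ) = 1 := by
        have := pow_orderOf_eq_one c
        rw [hk] at this
        rw [← this]
        exact zpow_natCast c 2
      rcases Int.even_or_odd s with ⟨t, ht⟩ | ⟨t, ht⟩
      · have h2 : c ^ s = 1 := by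
          rw [ht, ← two_mul, zpow_mul, hc2, one_zpow]
        rw [h2] at hs'
        have h3 : c = 1 := by
          have h6 : c = u⁻¹ * (u * c * u⁻¹) * u := by group
          rw [h6, hs']; group
        apply huc
        rw [h3, mul_one, one_mul]
      · have h2 : c ^ s = c := by
          rw [ht, zpow_add, zpow_mul, hc2, one_zpow, one_mul, zpow_one]
        rw [h2] at hs'
        apply huc
        calc u * c = (u * c * u⁻¹) * u := by group
          _ = c * u := by rw [hs']
    · rw [hk]; norm_num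
    · exfalso
      have hzc : Subgroup.zpowers c = B := by
        apply Subgroup.eq_of_le_of_card_ge (Subgroup.zpowers_le.mpr hcB)
        rw [Nat.card_zpowers, hk, hB]; norm_num
      rw [← hzc] at hu
      obtain ⟨j, rfl⟩ := Subgroup.mem_zpowers_iff.mp hu
      apply huc
      rw [← zpow_one_add, ← zpow_add_one, add_comm]
  -- `u` inverts `c`
  have hinv : u * c * u⁻¹ = c⁻¹ := by
    rcases conj_eq_or_inv a hzn hcz hord u with h | h
    · exfalso
      apply huc
      calc u * c = (u * c * u⁻¹) * u := by group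
        _ = c * u := by rw [h]
    · exact h
  have hcc : c ≠ c⁻¹ := by
    intro h
    have h2 : c ^ 2 = 1 := by
      rw [pow_two]
      nth_rewrite 2 [h]
      exact mul_inv_cancel c
    have := orderOf_dvd_of_pow_eq_one h2
    rw [hord] at this
    omega
  have huN : u ∉ N := by
    intro h
    apply huc
    exact hNcomm u h c hcN
  -- `u² ∈ N`
  have hu2 : u * u ∈ N := by
    have hle : Subgroup.zpowers c ≤ B := Subgroup.zpowers_le.mpr hcB
    have hcard : Nat.card ((Subgroup.zpowers c).subgroupOf B) = 4 := by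
      rw [Nat.card_congr (Subgroup.subgroupOfEquivOfLe hle).toEquiv, Nat.card_zpowers, hord]
    have hidx : ((Subgroup.zpowers c).subgroupOf B).index = 2 := by
      have := Subgroup.card_mul_index ((Subgroup.zpowers c).subgroupOf B)
      rw [hcard, hB] at this
      omega
    have h2 := Subgroup.mul_self_mem_of_index_two hidx (⟨u, hu⟩ : B)
    have h3 : u * u ∈ Subgroup.zpowers c := h2
    exact (Subgroup.zpowers_le.mpr hcN) h3
  -- Step 2: `N` has index two
  have hNidx : N.index = 2 := by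
    obtain ⟨q, hq⟩ := IsCyclic.exists_generator (α := P ⧸ N)
    obtain ⟨x, rfl⟩ := QuotientGroup.mk_surjective q
    obtain ⟨i, hi⟩ := Subgroup.mem_zpowers_iff.mp (hq (QuotientGroup.mk u))
    have hiodd : i % 2 = 1 := by
      by_contra hev
      have hev' : i % 2 = 0 := by omega
      obtain ⟨t, ht⟩ : ∃ t, i = 2 * t := ⟨i / 2, by omega⟩
      -- `u = (x^t)² n`
      have h2 : ((x ^ t * x ^ t)⁻¹ * u) ∈ N := by
        rw [← QuotientGroup.eq]
        rw [← hi, ht]
        show (QuotientGroup.mk (x ^ t * x ^ t) : P ⧸ N) = (QuotientGroup.mk x : P ⧸ N) ^ (2 * t)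
        rw [QuotientGroup.mk_mul, QuotientGroup.mk_zpow, two_mul, zpow_add]
      obtain ⟨n, hn⟩ : ∃ n : P, n = (x ^ t * x ^ t)⁻¹ * u := ⟨_, rfl⟩
      have hnN : n ∈ N := hn ▸ h2
      have hun : u = (x ^ t * x ^ t) * n := by rw [hn]; group
      have h3 : n * c * n⁻¹ = c := by
        rw [hNcomm n hnN c hcN, mul_inv_cancel_right]
      have h4 : u * c * u⁻¹ = c := by
        rw [hun]
        have : (x ^ t * x ^ t * n) * c * (x ^ t * x ^ t * n)⁻¹ =
            (x ^ t * x ^ t) * (n * c * n⁻¹) * (x ^ t * x ^ t)⁻¹ := by group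
        rw [this, h3]
        exact sq_conj_eq a hzn hcz hord (x ^ t)
      rw [hinv] at h4
      exact hcc h4.symm
    -- the order of the quotient
    have hord_q : orderOf (QuotientGroup.mk x : P ⧸ N) = N.index := by
      rw [orderOf_eq_card_of_forall_mem_zpowers hq, Subgroup.index_eq_card]
    obtain ⟨m, hm⟩ := hP.index N
    have hq2 : (QuotientGroup.mk x : P ⧸ N) ^ (2 * i) = 1 := by
      rw [mul_comm, zpow_mul, hi, zpow_ofNat, pow_two, ← QuotientGroup.mk_mul]
      exact (QuotientGroup.eq_one_iff _).mpr hu2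
    have hdvd : ((N.index : ℕ) : ℤ) ∣ 2 * i := by
      rw [← hord_q]
      exact orderOf_dvd_iff_zpow_eq_one.mpr hq2
    rw [hm] at hdvd ⊢
    have hm1 : m ≤ 1 := by
      by_contra hlt
      have h4 : (4 : ℤ) ∣ ((2 ^ m : ℕ) : ℤ) := by
        have : (2 : ℕ) ^ 2 ∣ 2 ^ m := pow_dvd_pow 2 (by omega)
        exact_mod_cast this
      have h5 := h4.trans hdvd
      omega
    have hm0 : m ≠ 0 := by
      intro h0
      rw [h0, pow_zero] at hm
      apply huN
      rw [Subgroup.index_eq_one.mp hm]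
      trivial
    have : m = 1 := by omega
    rw [this, pow_one]
  -- Step 3: the classification of groups with a cyclic maximal subgroup
  obtain ⟨n, hn⟩ := IsPGroup.iff_card.mp hP
  have hNcard : Nat.card N * 2 = 2 ^ n := by
    rw [← hn, ← hNidx]; exact Subgroup.card_mul_index N
  have h4N : 4 ∣ Nat.card N := by
    have := Subgroup.orderOf_dvd_natCard N hcN
    rwa [hord] at this
  have hn3 : 3 ≤ n := by
    by_contra hlt
    have hn' : n = 0 ∨ n = 1 ∨ n = 2 := by omega
    obtain ⟨d, hd⟩ := h4N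
    rcases hn' with rfl | rfl | rfl <;> omega
  have hna : ∃ x y : P, x * y ≠ y * x := ⟨u, c, huc⟩
  obtain ⟨a', b, hCa, hao, hbN, hcases⟩ :=
    Cfsg.Agent.Lib.Lead.exists_generators_of_cyclic_maximal_two' n hn3 hn N hNc hNidx hna
  have hbN' : b ∉ N := by rw [← hCa]; exact hbN
  have ha'N : a' ∈ N := by rw [← hCa]; exact Subgroup.mem_zpowers a'
  have hb1 : b ≠ 1 := by
    intro h
    apply hbN'
    rw [h]; exact N.one_mem
  have hgen : ∀ z : P, z ∈ N ∨ b⁻¹ * z ∈ N := by
    intro z
    by_cases hz : z ∈ N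
    · left; exact hz
    · right
      rw [Subgroup.mul_mem_iff_of_index_two hNidx]
      constructor
      · intro h
        exact absurd ((Subgroup.inv_mem_iff N).mp h) hbN'
      · intro h
        exact absurd h hz
  rcases hcases with ⟨hb2, hba⟩ | ⟨hb2, hba⟩ | ⟨hn4, hb2, hba⟩ | ⟨hn4, hb2, hba⟩
  · -- dihedral
    left
    have hbo : orderOf b = 2 := orderOf_eq_prime hb2 hb1
    have hbb : b * b = 1 := by rw [← pow_two]; exact hb2
    have hbinv : b⁻¹ = b := inv_eq_of_mul_eq_one_left hbb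
    have hy2 : (b * a') ^ 2 = 1 := by
      rw [pow_two]
      have : b * a' * (b * a') = (b * a' * b⁻¹) * (b * b) * a' := by group
      rw [this, hba, hbb, mul_one, inv_mul_cancel]
    have hy1 : b * a' ≠ 1 := by
      intro h
      apply hbN'
      have : b = a'⁻¹ := eq_inv_of_mul_eq_one_left h
      rw [this]; exact N.inv_mem ha'N
    have hyo : orderOf (b * a') = 2 := orderOf_eq_prime hy2 hy1
    have hxy : b * (b * a') = a' := by rw [← mul_assoc, hbb, one_mul]
    have hno : orderOf (b * (b * a')) ≠ 0 := by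
      rw [hxy, hao]; positivity
    obtain ⟨e⟩ := Cfsg.Agent.Lib.Helper1.DihedralIso.closure_equiv_dihedral b (b * a') hbo hyo hno
    have htop : Subgroup.closure ({b, b * a'} : Set P) = ⊤ := by
      rw [eq_top_iff]
      intro z _
      have hbm : b ∈ Subgroup.closure ({b, b * a'} : Set P) := Subgroup.subset_closure (by simp)
      have ham : a' ∈ Subgroup.closure ({b, b * a'} : Set P) := by
        have h2 : b * a' ∈ Subgroup.closure ({b, b * a'} : Set P) :=
          Subgroup.subset_closure (by simp)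
        have h3 := Subgroup.mul_mem _ (Subgroup.inv_mem _ hbm) h2
        rwa [inv_mul_cancel_left] at h3
      have hNle : N ≤ Subgroup.closure ({b, b * a'} : Set P) := by
        rw [← hCa]; exact Subgroup.zpowers_le.mpr ham
      rcases hgen z with hz | hz
      · exact hNle hz
      · have h3 := Subgroup.mul_mem _ hbm (hNle hz)
        rwa [mul_inv_cancel_left] at h3
    exact ⟨_, ⟨(Subgroup.topEquiv.symm.trans (MulEquiv.subgroupCongr htop.symm)).trans e⟩⟩
  · -- quaternion
    right; left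
    have hn2 : n - 1 = (n - 2) + 1 := by omega
    haveI : NeZero (2 ^ (n - 2)) := ⟨by positivity⟩
    refine ⟨2 ^ (n - 2), Cfsg.Agent.Lib.Lead.quaternion_recognition (2 ^ (n - 2)) a' b ?_ hb2 hba
      (by rw [hCa]; exact hbN') ?_⟩
    · rw [hao, hn2, pow_succ, mul_comm]
    · rw [hn]
      have : n = (n - 2) + 2 := by omega
      rw [this, pow_add]
      norm_num
      ring
  · -- modular: impossible
    exfalso
    have hcz' : c ∈ Subgroup.zpowers a' := by rw [hCa]; exact hcN
    obtain ⟨j, hj⟩ := Subgroup.mem_zpowers_iff.mp hcz'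
    have hbc : b * c * b⁻¹ = c := by
      rw [← hj, ← conj_zpow, hba, ← zpow_natCast, ← zpow_mul, mul_comm, zpow_mul, hj]
      have hc4 : c ^ (4 : ℕ) = 1 := by rw [← hord]; exact pow_orderOf_eq_one c
      obtain ⟨r, hr⟩ : ∃ r, 2 ^ (n - 2) = 4 * r := by
        have : (2 : ℕ) ^ 2 ∣ 2 ^ (n - 2) := pow_dvd_pow 2 (by omega)
        obtain ⟨r, hr⟩ := this
        exact ⟨r, by rw [hr]; norm_num⟩
      rw [zpow_natCast, pow_add, pow_one, hr, pow_mul, hc4, one_pow, mul_one]
    rcases hgen u with hz | hz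
    · exact huN hz
    · obtain ⟨w, hw⟩ : ∃ w : P, w = b⁻¹ * u := ⟨_, rfl⟩
      have hwN : w ∈ N := hw ▸ hz
      have huw : u = b * w := by rw [hw]; group
      have h3 : w * c * w⁻¹ = c := by
        rw [hNcomm w hwN c hcN, mul_inv_cancel_right]
      have h4 : u * c * u⁻¹ = c := by
        rw [huw]
        have : (b * w) * c * (b * w)⁻¹ = b * (w * c * w⁻¹) * b⁻¹ := by group
        rw [this, h3, hbc]
      rw [hinv] at h4
      exact hcc h4.symm
  · -- semidihedral
    right; right
    refine ⟨n - 1, by omega, ?_, a', b, hao, orderOf_eq_prime hb2 hb1, ?_⟩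
    · rw [hn]
      congr 1
      omega
    · rw [hba]
      have h5 : n - 1 - 1 = n - 2 := by omega
      rw [h5]

end Cfsg.Agent.H9MSC2
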