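import Mathlib
import Cfsg.Prelude
import Cfsg.Agent.Lib.Helper9.MetaSC4

set_option autoImplicit false

/-!
# A homocyclic normal subgroup of rank two of a metacyclic group
-/

namespace Cfsg.Agent.H9MSC2

open Cfsg

/-- properties of a homocyclic subgroup of rank two and exponent `2 ^ n` -/
structure Homocyc2 {G : Type*} [Group G] (R : Subgroup G) (n : ℕ) : Prop where
  comm : ∀ x ∈ R, ∀ y ∈ R, x * y = y * x
  exp : ∀ x ∈ R, x ^ 2 ^ n = 1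
  surj : ∀ v ∈ R, v ^ 2 = 1 → ∃ d ∈ R, d ^ 2 ^ (n - 1) = v
  four : ∀ z ∈ R, ∀ v ∈ R, ∀ w ∈ R, z ^ 2 = 1 → v ^ 2 = 1 → w ^ 2 = 1 → z ≠ 1 → v ≠ 1 → v ≠ z →
    w = 1 ∨ w = z ∨ w = v ∨ w = v * z

variable {Q : Type*} [Group Q]

theorem homocyclic_index_two [Finite Q] (hm : Cfsg.IsMetacyclic Q) (R : Subgroup Q)
    (hRn : R.Normal) (n : ℕ) (hn : 1 ≤ n) (hR : Homocyc2 R n) (hlt : ∃ y, y ∉ R)
    (hact : ∀ y, y ∉ R → ∃ v ∈ R, v ^ 2 = 1 ∧ y * v * y⁻¹ ≠ v) : n = 1 ∧ R.index = 2 := by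
  classical
  haveI : Fact (Nat.Prime 2) := ⟨Nat.prime_two⟩
  obtain ⟨N, hNn, hNc, hQc⟩ := hm
  haveI := hNn
  haveI := hNc
  haveI := hQc
  -- `N` is commutative
  have hNcomm : ∀ x ∈ N, ∀ y ∈ N, x * y = y * x := by
    intro x hx y hy
    have := (IsCyclic.isMulCommutative (α := N)).is_comm.comm (⟨x, hx⟩ : N) ⟨y, hy⟩
    exact congrArg Subtype.val this
  -- commutators lie in `N`
  have hcommN : ∀ x y : Q, x * y * x⁻¹ * y⁻¹ ∈ N := by
    intro x y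
    rw [← QuotientGroup.eq_one_iff]
    have hc := (IsCyclic.isMulCommutative (α := Q ⧸ N)).is_comm.comm
      (QuotientGroup.mk x : Q ⧸ N) (QuotientGroup.mk y)
    rw [QuotientGroup.mk_mul, QuotientGroup.mk_mul, QuotientGroup.mk_mul, QuotientGroup.mk_inv,
      QuotientGroup.mk_inv, hc, mul_inv_cancel_right, mul_inv_cancel]
  -- Step 1: the involution `z`
  obtain ⟨y₀, hy₀⟩ := hlt
  obtain ⟨v₀, hv₀R, hv₀2, hv₀y⟩ := hact y₀ hy₀
  obtain ⟨z, hz⟩ : ∃ z : Q, z = y₀ * v₀ * y₀⁻¹ * v₀⁻¹ := ⟨_, rfl⟩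
  have hzN : z ∈ N := hz ▸ hcommN y₀ v₀
  have hconjR : ∀ (g : Q) (x : Q), x ∈ R → g * x * g⁻¹ ∈ R := fun g x hx => hRn.conj_mem x hx g
  have hzR : z ∈ R := by
    rw [hz]
    exact R.mul_mem (hconjR y₀ v₀ hv₀R) (R.inv_mem hv₀R)
  have hsq_comm : ∀ (g : Q) (w : Q), w ∈ R → w ^ 2 = 1 → (g * w * g⁻¹ * w⁻¹) ^ 2 = 1 := by
    intro g w hw hw2
    have h1 : (g * w * g⁻¹) ^ 2 = 1 := by rw [conj_pow, hw2, mul_one, mul_inv_cancel]
    have h2 : (w⁻¹) ^ 2 = 1 := by rw [inv_pow, hw2, inv_one]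
    have hcm : Commute (g * w * g⁻¹) w⁻¹ :=
      hR.comm _ (hconjR g w hw) _ (R.inv_mem hw)
    rw [hcm.mul_pow, h1, h2, mul_one]
  have hz2 : z ^ 2 = 1 := by rw [hz]; exact hsq_comm y₀ v₀ hv₀R hv₀2
  have hz1 : z ≠ 1 := by
    intro h
    apply hv₀y
    rw [hz] at h
    exact mul_inv_eq_one.mp h
  -- Step 2: `z` is the only involution of `N`
  have hU : ∀ w ∈ N, w ^ 2 = 1 → w = 1 ∨ w = z := by
    intro w hw hw2
    have h1 : (⟨w, hw⟩ : N) ∈ Subgroup.zpowers (⟨z, hzN⟩ : N) := by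
      apply Cfsg.Agent.H9MSC.mem_zpowers_of_cyclic (p := 2)
      · exact Subtype.ext hw2
      · exact Subtype.ext hz2
      · intro h
        exact hz1 (congrArg Subtype.val h)
    obtain ⟨k, hk⟩ := Subgroup.mem_zpowers_iff.mp h1
    have hk' : z ^ k = w := by
      have := congrArg Subtype.val hk
      simpa using this
    rcases Int.even_or_odd k with ⟨t, ht⟩ | ⟨t, ht⟩
    · left
      rw [← hk', ht, ← two_mul, zpow_mul, zpow_ofNat, hz2, one_zpow]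
    · right
      rw [← hk', ht, zpow_add, zpow_mul, zpow_ofNat, hz2, one_zpow, one_mul, zpow_one]
  -- Step 3: `z` is central
  have hzc : ∀ g : Q, g * z * g⁻¹ = z := by
    intro g
    have h1 : g * z * g⁻¹ ∈ N := hNn.conj_mem z hzN g
    have h2 : (g * z * g⁻¹) ^ 2 = 1 := by rw [conj_pow, hz2, mul_one, mul_inv_cancel]
    rcases hU _ h1 h2 with h | h
    · exfalso
      apply hz1
      have h3 : z = g⁻¹ * (g * z * g⁻¹) * g := by group
      rw [h3, h]; group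
    · exact h
  -- Step 4: involutions of `R` are fixed or multiplied by `z`
  have h4 : ∀ (g : Q) (w : Q), w ∈ R → w ^ 2 = 1 → g * w * g⁻¹ = w ∨ g * w * g⁻¹ = w * z := by
    intro g w hw hw2
    rcases hU _ (hcommN g w) (hsq_comm g w hw hw2) with h | h
    · left
      exact mul_inv_eq_one.mp h
    · right
      rw [hR.comm w hw z hzR, ← h, inv_mul_cancel_right]
  -- Step 5
  have hv₀1 : v₀ ≠ 1 := by
    intro h
    apply hv₀y
    rw [h, mul_one, mul_inv_cancel]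
  have hv₀z : v₀ ≠ z := by
    intro h
    apply hv₀y
    rw [h]; exact hzc y₀
  have hzz : z * z = 1 := by rw [← pow_two]; exact hz2
  -- Step 6
  have h6 : ∀ y, y ∉ R → y * v₀ * y⁻¹ = v₀ * z := by
    intro y hy
    obtain ⟨w, hwR, hw2, hwy⟩ := hact y hy
    rcases h4 y v₀ hv₀R hv₀2 with h | h
    · exfalso
      rcases hR.four z hzR v₀ hv₀R w hwR hz2 hv₀2 hw2 hz1 hv₀1 hv₀z with rfl | rfl | rfl | rfl
      · apply hwy
        rw [mul_one, mul_inv_cancel]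
      · exact hwy (hzc y)
      · exact hwy h
      · apply hwy
        have : y * (v₀ * z) * y⁻¹ = (y * v₀ * y⁻¹) * (y * z * y⁻¹) := by group
        rw [this, h, hzc y]
    · exact h
  -- Step 7: index two
  have h7 : ∀ y₁ y₂ : Q, y₁ ∉ R → y₂ ∉ R → y₁ * y₂ ∈ R := by
    intro y₁ y₂ h1 h2
    by_contra h3
    have e1 := h6 (y₁ * y₂) h3
    have e2 : (y₁ * y₂) * v₀ * (y₁ * y₂)⁻¹ = y₁ * (y₂ * v₀ * y₂⁻¹) * y₁⁻¹ := by group
    rw [e2, h6 y₂ h2] at e1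
    have e3 : y₁ * (v₀ * z) * y₁⁻¹ = (y₁ * v₀ * y₁⁻¹) * (y₁ * z * y₁⁻¹) := by group
    rw [e3, h6 y₁ h1, hzc y₁, mul_assoc, hzz, mul_one] at e1
    apply hz1
    have e4 : v₀ * 1 = v₀ * z := by rw [mul_one]; exact e1
    exact (mul_left_cancel e4).symm
  have hidx : R.index = 2 := by
    rw [Subgroup.index_eq_two_iff]
    refine ⟨y₀, fun b => ?_⟩
    by_cases hb : b ∈ R
    · right
      refine ⟨hb, ?_⟩
      intro h
      apply hy₀
      have := R.mul_mem (R.inv_mem hb) h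
      rwa [inv_mul_cancel_left] at this
    · left
      exact ⟨h7 b y₀ hb hy₀, hb⟩
  refine ⟨?_, hidx⟩
  -- Step 8
  obtain ⟨d, hdR, hdv⟩ := hR.surj v₀ hv₀R hv₀2
  by_cases hNR : N ≤ R
  · -- Case (b)
    exfalso
    obtain ⟨q, hq⟩ := IsCyclic.exists_generator (α := Q ⧸ N)
    obtain ⟨x₀, rfl⟩ := QuotientGroup.mk_surjective q
    have hdecomp : ∀ g : Q, ∃ (i : ℤ) (n' : Q), n' ∈ N ∧ g = x₀ ^ i * n' := by
      intro g
      obtain ⟨i, hi⟩ := Subgroup.mem_zpowers_iff.mp (hq (QuotientGroup.mk g))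
      refine ⟨i, (x₀ ^ i)⁻¹ * g, ?_, by group⟩
      rw [← QuotientGroup.eq, ← hi, QuotientGroup.mk_zpow]
    have hx₀ : x₀ ∉ R := by
      intro h
      apply hy₀
      obtain ⟨i, n', hn', rfl⟩ := hdecomp y₀
      exact R.mul_mem (R.zpow_mem h i) (hNR hn')
    have hx₀2 : x₀ * x₀ ∈ R := Subgroup.mul_self_mem_of_index_two hidx x₀
    obtain ⟨i, n', hn', hdi⟩ := hdecomp d
    have hieven : Even i := by
      rcases Int.even_or_odd i with h | ⟨t, ht⟩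
      · exact h
      · exfalso
        apply hx₀
        have h1 : x₀ ^ i ∈ R := by
          have : x₀ ^ i = d * n'⁻¹ := by rw [hdi]; group
          rw [this]
          exact R.mul_mem hdR (R.inv_mem (hNR hn'))
        have h2 : x₀ = x₀ ^ i * ((x₀ * x₀) ^ t)⁻¹ := by
          rw [ht, ← pow_two, ← zpow_natCast x₀ 2, ← zpow_mul, ← zpow_neg, ← zpow_add]
          have : 2 * t + 1 + -(((2 : ℕ) : ℤ) * t) = 1 := by push_cast; ring
          rw [this, zpow_one]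
        rw [h2]
        exact R.mul_mem h1 (R.inv_mem (R.zpow_mem hx₀2 t))
    obtain ⟨t, ht⟩ := hieven
    -- `d = (x₀²)^t n'`
    have hd' : d = (x₀ * x₀) ^ t * n' := by
      rw [hdi, ht, ← pow_two, ← zpow_natCast x₀ 2, ← zpow_mul]
      congr 2
      push_cast; ring
    have hn'R : n' ∈ R := hNR hn'
    have hxtR : (x₀ * x₀) ^ t ∈ R := R.zpow_mem hx₀2 t
    have hv₀eq : v₀ = ((x₀ * x₀) ^ t) ^ 2 ^ (n - 1) * n' ^ 2 ^ (n - 1) := by
      rw [← hdv, hd']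
      exact (Commute.mul_pow (hR.comm _ hxtR _ hn'R) _)
    have hπn : n' ^ 2 ^ (n - 1) = 1 ∨ n' ^ 2 ^ (n - 1) = z := by
      apply hU _ (N.pow_mem hn' _)
      rw [← pow_mul, ← pow_succ]
      have : n - 1 + 1 = n := by omega
      rw [this]
      exact hR.exp n' hn'R
    have hfix1 : x₀ * (((x₀ * x₀) ^ t) ^ 2 ^ (n - 1)) * x₀⁻¹ = ((x₀ * x₀) ^ t) ^ 2 ^ (n - 1) := by
      rw [← conj_pow, ← conj_zpow]
      have : x₀ * (x₀ * x₀) * x₀⁻¹ = x₀ * x₀ := by group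
      rw [this]
    have hfix2 : x₀ * (n' ^ 2 ^ (n - 1)) * x₀⁻¹ = n' ^ 2 ^ (n - 1) := by
      rcases hπn with h | h
      · rw [h, mul_one, mul_inv_cancel]
      · rw [h]; exact hzc x₀
    have hfix : x₀ * v₀ * x₀⁻¹ = v₀ := by
      have e : x₀ * v₀ * x₀⁻¹ = (x₀ * (((x₀ * x₀) ^ t) ^ 2 ^ (n - 1)) * x₀⁻¹) *
          (x₀ * (n' ^ 2 ^ (n - 1)) * x₀⁻¹) := by
        rw [hv₀eq]; group
      rw [e, hfix1, hfix2, ← hv₀eq]
    have h8 := h6 x₀ hx₀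
    rw [hfix] at h8
    apply hz1
    have e4 : v₀ * 1 = v₀ * z := by rw [mul_one]; exact h8
    exact (mul_left_cancel e4).symm
  · -- Case (c)
    by_contra hn1
    have hn2 : 2 ≤ n := by omega
    obtain ⟨a₁, ha₁N, ha₁R⟩ := SetLike.not_le_iff_exists.mp hNR
    have ha₁2 : a₁ * a₁ ∈ R := Subgroup.mul_self_mem_of_index_two hidx a₁
    obtain ⟨t, ht⟩ : ∃ t : Q, t = a₁ * d * a₁⁻¹ * d⁻¹ := ⟨_, rfl⟩
    have htN : t ∈ N := ht ▸ hcommN a₁ d
    have hcdR : a₁ * d * a₁⁻¹ ∈ R := hconjR a₁ d hdR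
    have htpow : t ^ 2 ^ (n - 1) = z := by
      rw [ht, (Commute.mul_pow (hR.comm _ hcdR _ (R.inv_mem hdR)) _), conj_pow, inv_pow, hdv,
        h6 a₁ ha₁R, hR.comm v₀ hv₀R z hzR, mul_inv_cancel_right]
    have hda : d * a₁ * d⁻¹ = t⁻¹ * a₁ := by rw [ht]; group
    have hda2 : d * (a₁ * a₁) * d⁻¹ = t⁻¹ * t⁻¹ * (a₁ * a₁) := by
      have e : d * (a₁ * a₁) * d⁻¹ = (d * a₁ * d⁻¹) * (d * a₁ * d⁻¹) := by group
      rw [e, hda]
      have hc : a₁ * t⁻¹ = t⁻¹ * a₁ := hNcomm a₁ ha₁N t⁻¹ (N.inv_mem htN)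
      calc t⁻¹ * a₁ * (t⁻¹ * a₁) = t⁻¹ * (a₁ * t⁻¹) * a₁ := by group
        _ = t⁻¹ * (t⁻¹ * a₁) * a₁ := by rw [hc]
        _ = t⁻¹ * t⁻¹ * (a₁ * a₁) := by group
    have hda2' : d * (a₁ * a₁) * d⁻¹ = a₁ * a₁ := by
      rw [hR.comm d hdR _ ha₁2, mul_inv_cancel_right]
    have ht2 : t ^ 2 = 1 := by
      rw [hda2'] at hda2
      have h1 : t⁻¹ * t⁻¹ = 1 := by
        have h2 : 1 * (a₁ * a₁) = t⁻¹ * t⁻¹ * (a₁ * a₁) := by rw [one_mul]; exact hda2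
        exact (mul_right_cancel h2).symm
      rw [pow_two]
      have h3 : (t * t)⁻¹ = 1 := by rw [mul_inv_rev]; exact h1
      exact inv_eq_one.mp h3
    apply hz1
    rw [← htpow]
    have : n - 1 = (n - 2) + 1 := by omega
    rw [this, pow_succ', pow_mul, ht2, one_pow]

end Cfsg.Agent.H9MSC2
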