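import Mathlib
import Cfsg.Prelude
import Cfsg.Agent.Lib.Helper9.MetaTwoSC2

set_option autoImplicit false

/-!
# The model homocyclic group `C_{2^n} × C_{2^n}`
-/

namespace Cfsg.Agent.H9MSC2

open Cfsg

theorem four_aux {A : Type*} [CommGroup A] (h : A) (hh1 : h ≠ 1) (hhh : h * h = 1)
    (z v w : A × A) (hz : (z.1 = 1 ∨ z.1 = h) ∧ (z.2 = 1 ∨ z.2 = h))
    (hv : (v.1 = 1 ∨ v.1 = h) ∧ (v.2 = 1 ∨ v.2 = h))
    (hw : (w.1 = 1 ∨ w.1 = h) ∧ (w.2 = 1 ∨ w.2 = h))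
    (hz1 : z ≠ 1) (hv1 : v ≠ 1) (hvz : v ≠ z) : w = 1 ∨ w = z ∨ w = v ∨ w = v * z := by
  obtain ⟨z1, z2⟩ := z
  obtain ⟨v1, v2⟩ := v
  obtain ⟨w1, w2⟩ := w
  have hh1' : (1 : A) ≠ h := fun e => hh1 e.symm
  simp only [Prod.mk_eq_one, Prod.mk.injEq, Prod.mk_mul_mk, ne_eq] at *
  obtain ⟨hz1' | hz1', hz2' | hz2'⟩ := hz <;> obtain ⟨hv1' | hv1', hv2' | hv2'⟩ := hv <;>
    obtain ⟨hw1' | hw1', hw2' | hw2'⟩ := hw <;> subst_vars <;> simp_all

/-- the involution of `Multiplicative (ZMod (2 ^ n))` -/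
def hh (n : ℕ) : Multiplicative (ZMod (2 ^ n)) :=
  Multiplicative.ofAdd (((2 ^ (n - 1) : ℕ) : ZMod (2 ^ n)))

theorem hh_ne_one (n : ℕ) (hn : 1 ≤ n) : hh n ≠ 1 := by
  intro h
  have h1 : (((2 ^ (n - 1) : ℕ) : ZMod (2 ^ n))) = 0 := by
    have := congrArg Multiplicative.toAdd h
    simpa [hh] using this
  rw [ZMod.natCast_eq_zero_iff] at h1
  have h2 : 2 ^ n ≤ 2 ^ (n - 1) := Nat.le_of_dvd (by positivity) h1
  have h3 : 2 ^ (n - 1) < 2 ^ n := Nat.pow_lt_pow_right (by norm_num) (by omega)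
  omega

theorem hh_mul_self (n : ℕ) (hn : 1 ≤ n) : hh n * hh n = 1 := by
  unfold hh
  rw [← ofAdd_add, ← Nat.cast_add, ← two_mul, ← pow_succ']
  have : n - 1 + 1 = n := by omega
  rw [this, ZMod.natCast_self]
  rfl

theorem sq_eq_one_imp (n : ℕ) (hn : 1 ≤ n) (μ : Multiplicative (ZMod (2 ^ n))) (h : μ ^ 2 = 1) :
    μ = 1 ∨ μ = hh n := by
  haveI : NeZero (2 ^ n) := ⟨by positivity⟩
  obtain ⟨x, hx⟩ : ∃ x : ZMod (2 ^ n), x = Multiplicative.toAdd μ := ⟨_, rfl⟩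
  have hμ : μ = Multiplicative.ofAdd x := by rw [hx]; rfl
  have h1 : (2 : ℕ) • x = 0 := by
    have := congrArg Multiplicative.toAdd h
    rw [toAdd_pow, ← hx] at this
    exact this
  have h2 : ((2 * x.val : ℕ) : ZMod (2 ^ n)) = 0 := by
    rw [Nat.cast_mul, ZMod.natCast_zmod_val, ← h1, nsmul_eq_mul]
  rw [ZMod.natCast_eq_zero_iff] at h2
  have h3 : x.val < 2 ^ n := ZMod.val_lt x
  have hpow : 2 ^ n = 2 * 2 ^ (n - 1) := by
    rw [← pow_succ']
    congr 1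
    omega
  have h2' : 2 * 2 ^ (n - 1) ∣ 2 * x.val := by rw [← hpow]; exact h2
  have h3' : x.val < 2 * 2 ^ (n - 1) := by rw [← hpow]; exact h3
  have h4 : 2 ^ (n - 1) ∣ x.val := Nat.dvd_of_mul_dvd_mul_left (by norm_num) h2'
  obtain ⟨k, hk⟩ := h4
  have hpos : 0 < 2 ^ (n - 1) := by positivity
  have hk2 : k < 2 := by
    by_contra hge
    have : 2 * 2 ^ (n - 1) ≤ 2 ^ (n - 1) * k := by
      calc 2 * 2 ^ (n - 1) = 2 ^ (n - 1) * 2 := by ring
        _ ≤ 2 ^ (n - 1) * k := Nat.mul_le_mul_left _ (by omega)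
    omega
  have hxv : x = ((x.val : ℕ) : ZMod (2 ^ n)) := (ZMod.natCast_zmod_val x).symm
  interval_cases k
  · left
    rw [hμ, hxv, hk]
    simp
  · right
    rw [hμ, hxv, hk, mul_one]
    rfl

theorem pow_card_eq_one_model (n : ℕ) (μ : Multiplicative (ZMod (2 ^ n))) : μ ^ 2 ^ n = 1 := by
  have h1 : Multiplicative.toAdd (μ ^ 2 ^ n) = 0 := by
    rw [toAdd_pow, nsmul_eq_mul, ZMod.natCast_self, zero_mul]
  exact Multiplicative.toAdd.injective h1

theorem exists_root_model (n : ℕ) (hn : 1 ≤ n) (μ : Multiplicative (ZMod (2 ^ n))) (h : μ ^ 2 = 1) :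
    ∃ δ : Multiplicative (ZMod (2 ^ n)), δ ^ 2 ^ (n - 1) = μ := by
  rcases sq_eq_one_imp n hn μ h with rfl | rfl
  · exact ⟨1, one_pow _⟩
  · refine ⟨Multiplicative.ofAdd 1, ?_⟩
    apply Multiplicative.toAdd.injective
    rw [toAdd_pow]
    simp [hh]

/-- a subgroup isomorphic to `C_{2^n} × C_{2^n}` is homocyclic of rank two -/
theorem homocyc2_of_equiv {G : Type*} [Group G] (R : Subgroup G) (n : ℕ) (hn : 1 ≤ n)
    (e : ↥R ≃* Multiplicative (ZMod (2 ^ n)) × Multiplicative (ZMod (2 ^ n))) :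
    Homocyc2 R n := by
  have hcomp : ∀ (x : G) (hx : x ∈ R), x ^ 2 = 1 →
      ((e ⟨x, hx⟩).1 = 1 ∨ (e ⟨x, hx⟩).1 = hh n) ∧ ((e ⟨x, hx⟩).2 = 1 ∨ (e ⟨x, hx⟩).2 = hh n) := by
    intro x hx hx2
    have h1 : (e ⟨x, hx⟩) ^ 2 = 1 := by
      rw [← map_pow]
      have : (⟨x, hx⟩ : R) ^ 2 = 1 := Subtype.ext hx2
      rw [this, map_one]
    have h2 : (e ⟨x, hx⟩).1 ^ 2 = 1 := by
      have := congrArg Prod.fst h1
      simpa using this
    have h3 : (e ⟨x, hx⟩).2 ^ 2 = 1 := by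
      have := congrArg Prod.snd h1
      simpa using this
    exact ⟨sq_eq_one_imp n hn _ h2, sq_eq_one_imp n hn _ h3⟩
  refine ⟨?_, ?_, ?_, ?_⟩
  · intro x hx y hy
    have h1 : e (⟨x, hx⟩ * ⟨y, hy⟩) = e (⟨y, hy⟩ * ⟨x, hx⟩) := by
      rw [map_mul, map_mul, mul_comm]
    exact congrArg Subtype.val (e.injective h1)
  · intro x hx
    have h1 : e (⟨x, hx⟩ ^ 2 ^ n) = e 1 := by
      rw [map_pow, map_one]
      apply Prod.ext
      · exact pow_card_eq_one_model n _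
      · exact pow_card_eq_one_model n _
    exact congrArg Subtype.val (e.injective h1)
  · intro v hv hv2
    obtain ⟨h1, h2⟩ := hcomp v hv hv2
    have h1' : (e ⟨v, hv⟩).1 ^ 2 = 1 := by
      rcases h1 with h | h
      · rw [h, one_pow]
      · rw [h, pow_two, hh_mul_self n hn]
    have h2' : (e ⟨v, hv⟩).2 ^ 2 = 1 := by
      rcases h2 with h | h
      · rw [h, one_pow]
      · rw [h, pow_two, hh_mul_self n hn]
    obtain ⟨δ₁, hδ₁⟩ := exists_root_model n hn _ h1'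
    obtain ⟨δ₂, hδ₂⟩ := exists_root_model n hn _ h2'
    refine ⟨(e.symm (δ₁, δ₂) : R), (e.symm (δ₁, δ₂)).2, ?_⟩
    have h3 : e ((e.symm (δ₁, δ₂)) ^ 2 ^ (n - 1)) = e ⟨v, hv⟩ := by
      rw [map_pow, MulEquiv.apply_symm_apply]
      apply Prod.ext
      · exact hδ₁
      · exact hδ₂
    have h4 := congrArg Subtype.val (e.injective h3)
    simpa using h4
  · intro z hz v hv w hw hz2 hv2 hw2 hz1 hv1 hvz
    have h := four_aux (hh n) (hh_ne_one n hn) (hh_mul_self n hn) (e ⟨z, hz⟩) (e ⟨v, hv⟩) (e ⟨w, hw⟩)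
      (hcomp z hz hz2) (hcomp v hv hv2) (hcomp w hw hw2)
      (by
        intro h0
        apply hz1
        have : e ⟨z, hz⟩ = e 1 := by rw [h0, map_one]
        exact congrArg Subtype.val (e.injective this))
      (by
        intro h0
        apply hv1
        have : e ⟨v, hv⟩ = e 1 := by rw [h0, map_one]
        exact congrArg Subtype.val (e.injective this))
      (by
        intro h0
        apply hvz
        exact congrArg Subtype.val (e.injective h0))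
    rcases h with h | h | h | h
    · left
      have : e ⟨w, hw⟩ = e 1 := by rw [h, map_one]
      exact congrArg Subtype.val (e.injective this)
    · right; left
      exact congrArg Subtype.val (e.injective h)
    · right; right; left
      exact congrArg Subtype.val (e.injective h)
    · right; right; right
      have : e ⟨w, hw⟩ = e (⟨v, hv⟩ * ⟨z, hz⟩) := by rw [h, map_mul]
      exact congrArg Subtype.val (e.injective this)

end Cfsg.Agent.H9MSC2
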