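import Mathlib
import Cfsg.Prelude
import Cfsg.Agent.Lib.Helper9.MetaSC3

set_option autoImplicit false

/-!
# A group acting on a `p`-group with an invariant subgroup: the general chain step
-/

namespace Cfsg.Agent.H9MSC2

open Cfsg Cfsg.Agent.Lib.Helper9 Cfsg.Agent.H9MSC

section

variable {E : Type*} [Group E]

/-- `Ω_i` of a commutative subgroup -/
def omegaI (R : Subgroup E) (hc : ∀ x ∈ R, ∀ y ∈ R, x * y = y * x) (p i : ℕ) : Subgroup E where
  carrier := {x | x ∈ R ∧ x ^ p ^ i = 1}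
  one_mem' := ⟨R.one_mem, one_pow _⟩
  mul_mem' := by
    rintro x y ⟨hx, hx'⟩ ⟨hy, hy'⟩
    refine ⟨R.mul_mem hx hy, ?_⟩
    have hcm : Commute x y := hc x hx y hy
    rw [hcm.mul_pow, hx', hy', one_mul]
  inv_mem' := by
    rintro x ⟨hx, hx'⟩
    exact ⟨R.inv_mem hx, by rw [inv_pow, hx', inv_one]⟩

theorem mem_omegaI (R : Subgroup E) (hc : ∀ x ∈ R, ∀ y ∈ R, x * y = y * x) (p i : ℕ) (x : E) :
    x ∈ omegaI R hc p i ↔ x ∈ R ∧ x ^ p ^ i = 1 := Iff.rfl

end

section pfacts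

variable {B E : Type*} [Group B] [Group E] [Finite E] {p : ℕ} [hp : Fact p.Prime]
  (ρ : B →* MulAut E)

/-- an element acting trivially modulo the commutative subgroup `R` and on `Ω₁(R)` has `p`-power
order -/
theorem pow_eq_one_of_modStab_fixer_omegaI (hE : IsPGroup p E) (hρ : Function.Injective ρ)
    (R : Subgroup E) (hR : ∀ g : B, ∀ x ∈ R, ρ g x ∈ R)
    (hc : ∀ x ∈ R, ∀ y ∈ R, x * y = y * x) {g : B}
    (hg1 : g ∈ modStab ρ R hR) (hg2 : g ∈ fixer ρ (omegaI R hc p 1)) :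
    ∃ k : ℕ, g ^ p ^ k = 1 := by
  obtain ⟨e, he⟩ := IsPGroup.iff_card.mp hE
  have key : ∀ i : ℕ, ∃ k : ℕ, ∀ x ∈ omegaI R hc p i, (ρ g ^ p ^ k) x = x := by
    intro i
    induction i with
    | zero =>
      refine ⟨0, fun x hx => ?_⟩
      have hx1 : x = 1 := by
        have := hx.2
        rwa [pow_zero, pow_one] at this
      rw [hx1, map_one]
    | succ i ih =>
      obtain ⟨k, hk⟩ := ih
      refine ⟨k + e, ?_⟩
      have hβR : ∀ x ∈ R, (ρ g ^ p ^ k) x ∈ R := by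
        intro x hx
        rw [← map_pow]
        exact hR _ x hx
      have hβ1 : ∀ x ∈ omegaI R hc p 1, (ρ g ^ p ^ k) x = x := by
        intro x hx
        rw [← map_pow]
        exact (Subgroup.pow_mem _ hg2 _) x hx
      have hstep := stab_step (A := omegaI R hc p (i + 1)) (B := omegaI R hc p i) (ρ g ^ p ^ k) hk
        (by
          intro x hx
          refine ⟨R.mul_mem (R.inv_mem hx.1) (hβR x hx.1), ?_⟩
          have hcm : Commute x⁻¹ ((ρ g ^ p ^ k) x) := hc _ (R.inv_mem hx.1) _ (hβR x hx.1)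
          rw [hcm.mul_pow, ← map_pow]
          have h1 : x ^ p ^ i ∈ omegaI R hc p 1 := by
            refine ⟨R.pow_mem hx.1 _, ?_⟩
            rw [pow_one, ← pow_mul, ← pow_succ]
            exact hx.2
          rw [hβ1 _ h1, inv_pow, inv_mul_cancel])
      intro x hx
      have := hstep x hx
      rw [he, ← pow_mul, ← pow_add] at this
      exact this
  obtain ⟨k, hk⟩ := key e
  have hfix : g ^ p ^ k ∈ fixer ρ R := by
    intro x hx
    rw [map_pow]
    apply hk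
    refine ⟨hx, ?_⟩
    rw [← he]
    exact pow_card_eq_one'
  obtain ⟨k', hk'⟩ := pow_eq_one_of_modStab_fixer ρ hE hρ R hR (Subgroup.pow_mem _ hg1 _) hfix
  exact ⟨k + k', by rw [pow_add, pow_mul]; exact hk'⟩

/-- **Main group-theoretic step, general prime.** -/
theorem partA_general (hE : IsPGroup p E) (hρ : Function.Injective ρ)
    (R : Subgroup E) (hR : ∀ g : B, ∀ x ∈ R, ρ g x ∈ R)
    (I X : Subgroup B)
    (hrad : ∀ N : Subgroup B, N.Normal → IsPGroup p N → N ≤ I)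
    (hXp : IsPGroup p X) (hXK : ∀ g ∈ X, ∀ e : E, e⁻¹ * ρ g e ∈ R) (hXI : ¬ X ≤ I) :
    ¬ IsPGroup p (MulAut ↥R) ∧
      ((∀ x ∈ R, ∀ y ∈ R, x * y = y * x) → ∀ g ∈ X, g ∉ I → ∃ v ∈ R, v ^ p = 1 ∧ ρ g v ≠ v) := by
  haveI hKn : (modStab ρ R hR).Normal := modStab_normal ρ R hR
  constructor
  · intro hAut
    apply hXI
    have hKp : IsPGroup p (modStab ρ R hR) := by
      rintro ⟨κ, hκ⟩
      obtain ⟨k, hk⟩ := hAut (resAct ρ R hR κ)
      have h1 : κ ^ p ^ k ∈ fixer ρ R := by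
        intro x hx
        have h2 : resAct ρ R hR (κ ^ p ^ k) = 1 := by rw [map_pow, hk]
        have h3 := congrArg (fun f : MulAut ↥R => ((f ⟨x, hx⟩ : ↥R) : E)) h2
        exact h3
      obtain ⟨k', hk'⟩ := pow_eq_one_of_modStab_fixer ρ hE hρ R hR (Subgroup.pow_mem _ hκ _) h1
      exact ⟨k + k', Subtype.ext (by
        show κ ^ p ^ (k + k') = 1
        rw [pow_add, pow_mul]; exact hk')⟩
    have hKI := hrad _ hKn hKp
    intro g hg
    exact hKI (hXK g hg)
  · intro hc g hg hgI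
    by_contra hno
    push Not at hno
    apply hgI
    have hΩinv : ∀ b : B, ∀ x ∈ omegaI R hc p 1, ρ b x ∈ omegaI R hc p 1 := by
      intro b x hx
      refine ⟨hR b x hx.1, ?_⟩
      rw [← map_pow, hx.2, map_one]
    haveI hFn : (fixer ρ (omegaI R hc p 1)).Normal := fixer_normal ρ _ hΩinv
    have hKΩ : modStab ρ R hR ⊓ fixer ρ (omegaI R hc p 1) ≤ I := by
      apply hrad _ inferInstance
      rintro ⟨κ, hκ⟩
      obtain ⟨k, hk⟩ := pow_eq_one_of_modStab_fixer_omegaI ρ hE hρ R hR hc hκ.1 hκ.2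
      exact ⟨k, Subtype.ext hk⟩
    apply hKΩ
    refine ⟨hXK g hg, ?_⟩
    intro x hx
    apply hno x hx.1
    have := hx.2
    rwa [pow_one] at this

end pfacts

end Cfsg.Agent.H9MSC2
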