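import Mathlib
import Cfsg.Prelude
import Cfsg.Agent.Lib.Helper4.MetaTwo5
import Cfsg.Agent.Lib.Helper9.MetaTwoSC1
import Cfsg.Agent.Lib.Helper9.MetaTwoSC3
import Cfsg.Agent.Lib.Helper9.MetaTwoSC4
import Cfsg.Agent.Lib.Helper9.MetaTwoSC5

set_option autoImplicit false

/-!
# A strongly closed metacyclic `2`-subgroup lies in every essential subgroup unless it is dihedral,
semidihedral or generalised quaternion
-/

namespace Cfsg.Agent.H9MSC2

open Cfsg Cfsg.FusionSystem Cfsg.Agent.Lib.Helper9 Cfsg.Agent.H9MSC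

variable {Ω : Type*} [Group Ω] {S : Subgroup Ω}

theorem le_essential_two [Finite S] (hS : IsPGroup 2 S) (F : FusionSystem S)
    (hF : F.IsSaturated 2) (P : Subgroup Ω) (hP : F.StronglyClosed P)
    (hm : Cfsg.IsMetacyclic ↥P) (hd : ¬ ∃ m : ℕ, Nonempty (↥P ≃* DihedralGroup m))
    (hq : ¬ ∃ m : ℕ, Nonempty (↥P ≃* QuaternionGroup m)) (hsd : ¬ Cfsg.IsQuasiDihedral ↥P)
    (E : Subgroup Ω) (hE : F.IsEssential 2 E) : P ≤ E := by
  classical
  haveI : Fact (Nat.Prime 2) := ⟨Nat.prime_two⟩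
  by_contra hPE
  have hES : E ≤ S := hE.1.1
  have hPS : P ≤ S := hP.1
  haveI : Finite E := fs_finite_of_le hES
  haveI : Finite P := fs_finite_of_le hPS
  have hEp : IsPGroup 2 E := hS.to_le hES
  have hPp : IsPGroup 2 P := hS.to_le hPS
  obtain ⟨R, I, X, hmemR, hR, hrad, hXp, hXK, hXI, hXform, hlast⟩ :=
    essential_setup 2 hS F hF P hP E hE hPE
  obtain ⟨hAut, hΩ⟩ := partA_general (F.autGroup E).subtype hEp (Subgroup.subtype_injective _) R hR
    I X hrad hXp hXK hXI
  -- `R` as a subgroup of `P`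
  let f : ↥R →* ↥P :=
    { toFun := fun x => ⟨(x.1 : Ω), (hmemR x.1).mp x.2⟩
      map_one' := rfl
      map_mul' := fun _ _ => rfl }
  have hf : Function.Injective f := by
    intro x y hxy
    apply Subtype.ext
    apply Subtype.ext
    exact congrArg (fun z : ↥P => (z : Ω)) hxy
  have hRm : Cfsg.IsMetacyclic ↥R :=
    Cfsg.Agent.Lib.Lead.MetaAut.isMetacyclic_of_mulEquiv (MonoidHom.ofInjective hf).symm
      (Cfsg.Agent.Lib.Helper7.Meta.isMetacyclic_subgroup hm f.range)
  have hRp : IsPGroup 2 ↥R := hEp.to_subgroup R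
  -- the final contradiction from a non-abelian subgroup of order eight
  have hfinal : ∀ B : Subgroup ↥P, Nat.card B = 8 → (∃ x ∈ B, ∃ y ∈ B, x * y ≠ y * x) → False := by
    intro B hB hBna
    rcases dsq_of_nonabelian_eight hPp hm B hB hBna with h | h | h
    · exact hd h
    · exact hq h
    · exact hsd h
  rcases Cfsg.Agent.Lib.Helper4.MetaTwo.main hRp hRm hAut with ⟨⟨e⟩⟩ | ⟨n, ⟨e⟩⟩
  · -- quaternion of order eight
    apply hfinal f.range
    · rw [← Nat.card_congr (MonoidHom.ofInjective hf).toEquiv, Nat.card_congr e.toEquiv,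
        Nat.card_eq_fintype_card, QuaternionGroup.card]
    · refine ⟨f (e.symm (QuaternionGroup.a 1)), ⟨_, rfl⟩, f (e.symm (QuaternionGroup.xa 0)), ⟨_, rfl⟩, ?_⟩
      intro h
      have h' : f (e.symm (QuaternionGroup.a 1) * e.symm (QuaternionGroup.xa 0)) =
          f (e.symm (QuaternionGroup.xa 0) * e.symm (QuaternionGroup.a 1)) := by
        rw [map_mul, map_mul]; exact h
      have h1 := hf h'
      have h2 : e.symm ((QuaternionGroup.a 1 : QuaternionGroup 2) * QuaternionGroup.xa 0) =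
          e.symm (QuaternionGroup.xa 0 * QuaternionGroup.a 1) := by
        rw [map_mul, map_mul]; exact h1
      have h3 := e.symm.injective h2
      revert h3
      decide
  · -- homocyclic
    rcases Nat.eq_zero_or_pos n with rfl | hn
    · -- trivial group
      apply hAut
      haveI : Subsingleton (Multiplicative (ZMod (2 ^ 0)) × Multiplicative (ZMod (2 ^ 0))) := by
        have : Subsingleton (ZMod (2 ^ 0)) := by
          rw [pow_zero]; infer_instance
        have : Subsingleton (Multiplicative (ZMod (2 ^ 0))) := this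
        infer_instance
      haveI : Subsingleton ↥R := e.toEquiv.subsingleton
      intro g
      refine ⟨0, ?_⟩
      apply MulEquiv.ext
      intro x
      exact Subsingleton.elim _ _
    · have hRcomm : ∀ x ∈ R, ∀ y ∈ R, x * y = y * x := by
        intro x hx y hy
        have h1 : e (⟨x, hx⟩ * ⟨y, hy⟩) = e (⟨y, hy⟩ * ⟨x, hx⟩) := by
          rw [map_mul, map_mul, mul_comm]
        exact congrArg Subtype.val (e.injective h1)
      -- the normalizer of `E` in `P`
      obtain ⟨P₁, hP₁def⟩ : ∃ P₁ : Subgroup Ω, P₁ = P ⊓ normalizerIn S E := ⟨_, rfl⟩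
      have hP₁P : P₁ ≤ P := by rw [hP₁def]; exact inf_le_left
      have hP₁S : P₁ ≤ S := hP₁P.trans hPS
      have hP₁N : P₁ ≤ Subgroup.normalizer (E : Set Ω) := by
        rw [hP₁def]; exact fun x hx => hx.2.2
      have hmemP₁ : ∀ y, y ∈ P → y ∈ S → y ∈ Subgroup.normalizer (E : Set Ω) → y ∈ P₁ := by
        intro y h1 h2 h3
        rw [hP₁def]; exact ⟨h1, h2, h3⟩
      have hREP₁ : ∀ x : E, x ∈ R → (x : Ω) ∈ P₁ := fun x hx =>
        hmemP₁ _ ((hmemR x).mp hx) (hES x.2) (Subgroup.le_normalizer x.2)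
      haveI : Finite P₁ := fs_finite_of_le hP₁S
      have hP₁m : Cfsg.IsMetacyclic ↥P₁ :=
        Cfsg.Agent.Lib.Lead.MetaAut.isMetacyclic_of_mulEquiv (Subgroup.subgroupOfEquivOfLe hP₁P)
          (Cfsg.Agent.Lib.Helper7.Meta.isMetacyclic_subgroup hm (P₁.subgroupOf P))
      obtain ⟨R₁, hR₁def⟩ : ∃ R₁ : Subgroup ↥P₁, R₁ = (P ⊓ E).subgroupOf P₁ := ⟨_, rfl⟩
      have hmemR₁ : ∀ y : P₁, y ∈ R₁ ↔ (y : Ω) ∈ E := by
        intro y
        rw [hR₁def, Subgroup.mem_subgroupOf]
        exact ⟨fun h => h.2, fun h => ⟨hP₁P y.2, h⟩⟩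
      -- the isomorphism `R₁ ≃* R`
      let iso : ↥R₁ ≃* ↥R :=
        { toFun := fun y => ⟨⟨(y.1 : Ω), (hmemR₁ y.1).mp y.2⟩, (hmemR _).mpr (hP₁P y.1.2)⟩
          invFun := fun x => ⟨⟨(x.1 : Ω), hREP₁ x.1 x.2⟩, (hmemR₁ _).mpr x.1.2⟩
          left_inv := fun y => rfl
          right_inv := fun x => rfl
          map_mul' := fun _ _ => rfl }
      have hHom : Homocyc2 R₁ n := homocyc2_of_equiv R₁ n hn (iso.trans e)
      have hR₁n : R₁.Normal := by
        constructor
        intro y hy g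
        rw [hmemR₁] at hy ⊢
        exact (Subgroup.mem_normalizer_iff.mp (hP₁N g.2) _).mp hy
      have hlt : ∃ y : P₁, y ∉ R₁ := by
        obtain ⟨y, hyP, hyN, hyE⟩ := exists_normalizing_not_mem 2 hS F hP hES hPE
        refine ⟨⟨y, hmemP₁ y hyP (hPS hyP) hyN⟩, ?_⟩
        rw [hmemR₁]
        exact hyE
      have hact : ∀ y : P₁, y ∉ R₁ → ∃ v ∈ R₁, v ^ 2 = 1 ∧ y * v * y⁻¹ ≠ v := by
        intro y hy
        rw [hmemR₁] at hy
        obtain ⟨g, hgX, hgI, Hg⟩ := hlast y.1 (hP₁P y.2) (hP₁N y.2) hy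
        obtain ⟨v, hvR, hv2, hgv⟩ := hΩ hRcomm g hgX hgI
        refine ⟨⟨(v : Ω), hREP₁ v hvR⟩, (hmemR₁ _).mpr v.2, ?_, ?_⟩
        · apply Subtype.ext
          have := congrArg (fun z : E => (z : Ω)) hv2
          simpa using this
        · intro h
          apply hgv
          apply Subtype.ext
          show (((g : MulAut E) v : E) : Ω) = v
          rw [Hg]
          exact congrArg (fun z : P₁ => (z : Ω)) h
      obtain ⟨hn1, hidx⟩ := homocyclic_index_two hP₁m R₁ hR₁n n hn hHom hlt hact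
      subst hn1
      have hR₁card : Nat.card R₁ = 4 := by
        rw [Nat.card_congr (iso.trans e).toEquiv, Nat.card_prod]
        have : Nat.card (Multiplicative (ZMod (2 ^ 1))) = 2 := by
          rw [pow_one]
          exact Nat.card_zmod 2
        rw [this]
      have hP₁card : Nat.card P₁ = 8 := by
        rw [← Subgroup.card_mul_index R₁, hR₁card, hidx]
      apply hfinal (P₁.subgroupOf P)
      · rw [Nat.card_congr (Subgroup.subgroupOfEquivOfLe hP₁P).toEquiv, hP₁card]
      · obtain ⟨y, hy⟩ := hlt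
        obtain ⟨v, -, -, hyv⟩ := hact y hy
        refine ⟨⟨y.1, hP₁P y.2⟩, Subgroup.mem_subgroupOf.mpr y.2, ⟨v.1, hP₁P v.2⟩,
          Subgroup.mem_subgroupOf.mpr v.2, ?_⟩
        intro h
        apply hyv
        have h1 : (y : Ω) * v = v * y := congrArg (fun z : P => (z : Ω)) h
        apply Subtype.ext
        show (y : Ω) * v * (y : Ω)⁻¹ = v
        rw [h1, mul_inv_cancel_right]

end Cfsg.Agent.H9MSC2
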