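import Mathlib

/-!
# Minimal degree of primitive groups: distinguishing numbers (part 1)

Basic definitions: `Same u v z` (the point `z` does not distinguish `u` and `v`),
the distinguishing set `T u v`, its size `D u v`, and the (undirected) orbital graph
`Adj x y`.  Connectivity of the orbital graphs of a primitive group.
-/

set_option autoImplicit false

namespace Cfsg.Agent.Lib.Helper9.MinDeg

open Classical

variable (G : Type*) {Ω : Type*} [Group G] [MulAction G Ω]

/-- `z` does not distinguish `u` and `v`: some element fixing `z` maps `u` to `v`. -/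
def Same (u v z : Ω) : Prop := ∃ h : G, h • u = v ∧ h • z = z

/-- adjacency in the undirected orbital graph of the pair `(x, y)` -/
def Adj (x y u v : Ω) : Prop := ∃ h : G, (h • x = u ∧ h • y = v) ∨ (h • x = v ∧ h • y = u)

variable {G}

theorem same_refl (u z : Ω) : Same G u u z := ⟨1, one_smul _ _, one_smul _ _⟩

theorem same_symm {u v z : Ω} (h : Same G u v z) : Same G v u z := by
  obtain ⟨k, h1, h2⟩ := h
  refine ⟨k⁻¹, ?_, ?_⟩
  · rw [← h1, inv_smul_smul]
  · conv_lhs => rw [← h2]
    rw [inv_smul_smul]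

theorem same_trans {u v w z : Ω} (h : Same G u v z) (h' : Same G v w z) : Same G u w z := by
  obtain ⟨k, h1, h2⟩ := h
  obtain ⟨k', h1', h2'⟩ := h'
  refine ⟨k' * k, ?_, ?_⟩
  · rw [mul_smul, h1, h1']
  · rw [mul_smul, h2, h2']

theorem same_smul_iff (k : G) (u v z : Ω) : Same G (k • u) (k • v) (k • z) ↔ Same G u v z := by
  constructor
  · rintro ⟨h, h1, h2⟩
    refine ⟨k⁻¹ * h * k, ?_, ?_⟩
    · rw [mul_smul, mul_smul, h1, inv_smul_smul]
    · rw [mul_smul, mul_smul, h2, inv_smul_smul]
  · rintro ⟨h, h1, h2⟩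
    refine ⟨k * h * k⁻¹, ?_, ?_⟩
    · rw [mul_smul, mul_smul, inv_smul_smul, h1]
    · rw [mul_smul, mul_smul, inv_smul_smul, h2]

theorem not_same_left {u v : Ω} (h : u ≠ v) : ¬ Same G u v u := by
  rintro ⟨k, h1, h2⟩
  exact h (h2.symm.trans h1)

theorem not_same_right {u v : Ω} (h : u ≠ v) : ¬ Same G u v v := by
  intro h'
  exact not_same_left (Ne.symm h) (same_symm h')

theorem adj_symm {x y u v : Ω} (h : Adj G x y u v) : Adj G x y v u := by
  obtain ⟨k, h1 | h1⟩ := h
  · exact ⟨k, Or.inr h1⟩
  · exact ⟨k, Or.inl h1⟩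

theorem adj_base (x y : Ω) : Adj G x y x y := ⟨1, Or.inl ⟨one_smul _ _, one_smul _ _⟩⟩

theorem adj_smul {x y u v : Ω} (k : G) (h : Adj G x y u v) : Adj G x y (k • u) (k • v) := by
  obtain ⟨h0, ⟨h1, h2⟩ | ⟨h1, h2⟩⟩ := h
  · exact ⟨k * h0, Or.inl ⟨by rw [mul_smul, h1], by rw [mul_smul, h2]⟩⟩
  · exact ⟨k * h0, Or.inr ⟨by rw [mul_smul, h1], by rw [mul_smul, h2]⟩⟩

theorem adj_smul_iff {x y u v : Ω} (k : G) : Adj G x y (k • u) (k • v) ↔ Adj G x y u v := by
  constructor
  · intro h
    have := adj_smul k⁻¹ h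
    rwa [inv_smul_smul, inv_smul_smul] at this
  · exact adj_smul k

theorem adj_ne {x y u v : Ω} (hxy : x ≠ y) (h : Adj G x y u v) : u ≠ v := by
  obtain ⟨h0, ⟨h1, h2⟩ | ⟨h1, h2⟩⟩ := h
  · intro huv
    apply hxy
    have : h0 • x = h0 • y := by rw [h1, h2, huv]
    exact MulAction.injective h0 this
  · intro huv
    apply hxy
    have : h0 • x = h0 • y := by rw [h1, h2, huv]
    exact MulAction.injective h0 this

/-- a non-distinguishing point sees `u` and `v` in the same way -/
theorem adj_iff_of_same {x y u v z : Ω} (h : Same G u v z) : Adj G x y u z ↔ Adj G x y v z := by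
  obtain ⟨k, h1, h2⟩ := h
  rw [← adj_smul_iff (x := x) (y := y) k (u := u) (v := z), h1, h2]

/-- Connectivity of orbital graphs of a primitive group: a nonempty set closed under adjacency
is everything. -/
theorem closed_eq_univ [MulAction.IsPreprimitive G Ω] {x y : Ω} (hxy : x ≠ y) (C : Set Ω)
    (hne : C.Nonempty) (hcl : ∀ u v, u ∈ C → Adj G x y u v → v ∈ C) : C = Set.univ := by
  obtain ⟨u0, hu0⟩ := hne
  -- move to a base point `x`
  obtain ⟨k0, hk0⟩ := MulAction.exists_smul_eq G x u0
  let R : Ω → Ω → Prop := Relation.EqvGen (Adj G x y)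
  have hRsmul : ∀ (k : G) (a b : Ω), R a b → R (k • a) (k • b) := by
    intro k a b hab
    induction hab with
    | rel a b h => exact Relation.EqvGen.rel _ _ (adj_smul k h)
    | refl a => exact Relation.EqvGen.refl _
    | symm a b _ ih => exact Relation.EqvGen.symm _ _ ih
    | trans a b c _ _ ih1 ih2 => exact Relation.EqvGen.trans _ _ _ ih1 ih2
  let B : Set Ω := {v | R x v}
  have hB : MulAction.IsBlock G B := by
    rw [MulAction.isBlock_iff_smul_eq_of_mem]
    intro k a ha hka
    have h1 : R (k • x) (k • a) := hRsmul k _ _ ha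
    have h2 : R (k • x) x := Relation.EqvGen.trans _ _ _ h1 (Relation.EqvGen.symm _ _ hka)
    ext v
    rw [Set.mem_smul_set_iff_inv_smul_mem]
    constructor
    · intro hv
      have h3 : R (k • x) v := by
        have := hRsmul k _ _ hv
        rwa [smul_inv_smul] at this
      exact Relation.EqvGen.trans _ _ _ (Relation.EqvGen.symm _ _ h2) h3
    · intro hv
      have h3 : R (k • x) v := Relation.EqvGen.trans _ _ _ h2 hv
      have := hRsmul k⁻¹ _ _ h3
      rwa [inv_smul_smul] at this
  have hBuniv : B = Set.univ := by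
    rcases hB.subsingleton_or_eq_univ with hs | hu
    · exfalso
      have hx : x ∈ B := Relation.EqvGen.refl _
      have hy : y ∈ B := Relation.EqvGen.rel _ _ (adj_base x y)
      exact hxy (hs hx hy)
    · exact hu
  -- every point is related to `u0`
  have hall : ∀ v, R u0 v := by
    intro v
    have h1 : R x (k0⁻¹ • v) := by
      have : k0⁻¹ • v ∈ B := by rw [hBuniv]; trivial
      exact this
    have := hRsmul k0 _ _ h1
    rwa [hk0, smul_inv_smul] at this
  have hcl' : ∀ a b, R a b → (a ∈ C ↔ b ∈ C) := by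
    intro a b hab
    induction hab with
    | rel a b h => exact ⟨fun ha => hcl a b ha h, fun hb => hcl b a hb (adj_symm h)⟩
    | refl a => exact Iff.rfl
    | symm a b _ ih => exact ih.symm
    | trans a b c _ _ ih1 ih2 => exact ih1.trans ih2
  ext v
  simp only [Set.mem_univ, iff_true]
  exact (hcl' u0 v (hall v)).mp hu0

end Cfsg.Agent.Lib.Helper9.MinDeg
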