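import Cfsg.Agent.Lib.Helper9.MinDeg1

/-!
# Minimal degree of primitive groups: distinguishing numbers (part 2)

Finite counting: the distinguishing number `D`, the valency of orbital graphs and the
"cut" inequality `n - 1 + k ≤ k * D x y`.
-/

set_option autoImplicit false

namespace Cfsg.Agent.Lib.Helper9.MinDeg

open Classical

variable (G : Type*) {Ω : Type*} [Group G] [MulAction G Ω] [Fintype Ω]

/-- the set of points distinguishing `u` and `v` -/
noncomputable def T (u v : Ω) : Finset Ω := Finset.univ.filter (fun z => ¬ Same G u v z)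

/-- the distinguishing number -/
noncomputable def D (u v : Ω) : ℕ := (T G u v).card

/-- neighbours in the orbital graph of `(x,y)` -/
noncomputable def Nb (x y u : Ω) : Finset Ω := Finset.univ.filter (fun v => Adj G x y u v)

variable {G}

theorem mem_T {u v z : Ω} : z ∈ T G u v ↔ ¬ Same G u v z := by
  simp [T]

theorem mem_Nb {x y u v : Ω} : v ∈ Nb G x y u ↔ Adj G x y u v := by
  simp [Nb]

theorem T_symm (u v : Ω) : T G u v = T G v u := by
  ext z
  rw [mem_T, mem_T]
  exact not_congr ⟨same_symm, same_symm⟩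

theorem D_symm (u v : Ω) : D G u v = D G v u := by
  unfold D
  rw [T_symm]

theorem T_smul (k : G) (u v : Ω) : T G (k • u) (k • v) = (T G u v).image (fun z => k • z) := by
  ext z
  rw [mem_T, Finset.mem_image]
  constructor
  · intro h
    refine ⟨k⁻¹ • z, ?_, smul_inv_smul _ _⟩
    rw [mem_T]
    intro h'
    apply h
    have := (same_smul_iff k u v (k⁻¹ • z)).mpr h'
    rwa [smul_inv_smul] at this
  · rintro ⟨w, hw, rfl⟩
    rw [mem_T] at hw
    intro h'
    exact hw ((same_smul_iff k u v w).mp h')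

theorem D_smul (k : G) (u v : Ω) : D G (k • u) (k • v) = D G u v := by
  unfold D
  rw [T_smul, Finset.card_image_of_injective _ (MulAction.injective k)]

theorem T_subset_union (u v w : Ω) : T G u w ⊆ T G u v ∪ T G v w := by
  intro z hz
  rw [mem_T] at hz
  rw [Finset.mem_union, mem_T, mem_T]
  by_contra hcon
  push Not at hcon
  exact hz (same_trans hcon.1 hcon.2)

theorem D_triangle (u v w : Ω) : D G u w ≤ D G u v + D G v w := by
  unfold D
  exact (Finset.card_le_card (T_subset_union u v w)).trans (Finset.card_union_le _ _)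

theorem D_adj {x y u v : Ω} (h : Adj G x y u v) : D G u v = D G x y := by
  obtain ⟨k, ⟨h1, h2⟩ | ⟨h1, h2⟩⟩ := h
  · rw [← h1, ← h2, D_smul]
  · rw [← h1, ← h2, D_symm, D_smul]

theorem left_mem_T {u v : Ω} (h : u ≠ v) : u ∈ T G u v := mem_T.mpr (not_same_left h)

theorem right_mem_T {u v : Ω} (h : u ≠ v) : v ∈ T G u v := mem_T.mpr (not_same_right h)

theorem Nb_smul (k : G) (x y u : Ω) : Nb G x y (k • u) = (Nb G x y u).image (fun z => k • z) := by
  ext z
  rw [mem_Nb, Finset.mem_image]
  constructor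
  · intro h
    refine ⟨k⁻¹ • z, ?_, smul_inv_smul _ _⟩
    rw [mem_Nb]
    have := adj_smul k⁻¹ h
    rwa [inv_smul_smul] at this
  · rintro ⟨w, hw, rfl⟩
    exact adj_smul k (mem_Nb.mp hw)

theorem card_Nb_smul (k : G) (x y u : Ω) : (Nb G x y (k • u)).card = (Nb G x y u).card := by
  rw [Nb_smul, Finset.card_image_of_injective _ (MulAction.injective k)]

theorem card_Nb_eq [MulAction.IsPretransitive G Ω] (x y u : Ω) :
    (Nb G x y u).card = (Nb G x y x).card := by
  obtain ⟨k, hk⟩ := MulAction.exists_smul_eq G x u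
  rw [← hk, card_Nb_smul]

/-- neighbours of `u` that are not neighbours of `v` distinguish `u` and `v` -/
theorem Nb_subset (x y u v : Ω) : Nb G x y u ⊆ Nb G x y v ∪ T G u v := by
  intro z hz
  rw [Finset.mem_union, mem_Nb, mem_T]
  by_cases h : Same G u v z
  · left
    exact (adj_iff_of_same h).mp (mem_Nb.mp hz)
  · right
    exact h

/-- number of neighbours `v` of `u` such that `z` distinguishes `u` and `v` -/
noncomputable def cutN (x y z u : Ω) : ℕ :=
  (Finset.univ.filter (fun v => Adj G x y u v ∧ ¬ Same G u v z)).card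

theorem cutN_self {x y : Ω} (hxy : x ≠ y) (z : Ω) : cutN (G := G) x y z z = (Nb G x y z).card := by
  unfold cutN Nb
  congr 1
  ext v
  simp only [Finset.mem_filter, Finset.mem_univ, true_and, and_iff_left_iff_imp]
  intro h
  exact not_same_left (adj_ne hxy h)

theorem cutN_pos [MulAction.IsPreprimitive G Ω] {x y : Ω} (hxy : x ≠ y) {z u : Ω} (hu : u ≠ z) :
    1 ≤ cutN (G := G) x y z u := by
  -- the cell of `u` with respect to `z`
  let C : Set Ω := {v | Same G u v z}
  have hzC : z ∉ C := by
    intro h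
    exact not_same_right hu h
  have hCne : C.Nonempty := ⟨u, same_refl u z⟩
  have hC : C ≠ Set.univ := by
    intro h
    apply hzC
    rw [h]; trivial
  have hex : ∃ a b, a ∈ C ∧ Adj G x y a b ∧ b ∉ C := by
    by_contra hcon
    push Not at hcon
    exact hC (closed_eq_univ hxy C hCne (fun a b ha hab => hcon a b ha hab))
  obtain ⟨a, b, ha, hab, hb⟩ := hex
  obtain ⟨k, hk1, hk2⟩ := ha
  -- `k • u = a`, `k • z = z`
  unfold cutN
  rw [Nat.succ_le_iff, Finset.card_pos]
  refine ⟨k⁻¹ • b, ?_⟩
  simp only [Finset.mem_filter, Finset.mem_univ, true_and]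
  constructor
  · have := adj_smul k⁻¹ hab
    rwa [← hk1, inv_smul_smul] at this
  · intro hs
    apply hb
    -- Same u (k⁻¹ b) z → Same (k u) b (k z)
    have h1 := (same_smul_iff k u (k⁻¹ • b) z).mpr hs
    rw [smul_inv_smul, hk1, hk2] at h1
    exact same_trans ⟨k, hk1, hk2⟩ h1

theorem sum_cutN_ge [MulAction.IsPreprimitive G Ω] {x y : Ω} (hxy : x ≠ y) (z : Ω) :
    Fintype.card Ω - 1 + (Nb G x y z).card ≤ ∑ u, cutN (G := G) x y z u := by
  rw [← Finset.add_sum_erase Finset.univ _ (Finset.mem_univ z), cutN_self hxy, add_comm]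
  apply Nat.add_le_add_left
  have : ∑ u ∈ Finset.univ.erase z, 1 ≤ ∑ u ∈ Finset.univ.erase z, cutN (G := G) x y z u := by
    apply Finset.sum_le_sum
    intro u hu
    exact cutN_pos hxy (Finset.ne_of_mem_erase hu)
  simpa [Finset.card_erase_of_mem, Finset.card_univ] using this

/-- double counting -/
theorem sum_D_eq_sum_cutN (x y : Ω) :
    ∑ u, ∑ v ∈ Nb G x y u, D G u v = ∑ z, ∑ u, cutN (G := G) x y z u := by
  have h1 : ∀ u, ∑ v ∈ Nb G x y u, D G u v
      = ∑ v, ∑ z, (if Adj G x y u v ∧ ¬ Same G u v z then 1 else 0) := by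
    intro u
    unfold Nb
    rw [Finset.sum_filter]
    apply Finset.sum_congr rfl
    intro v _
    by_cases h : Adj G x y u v
    · simp only [h, if_true, true_and]
      unfold D T
      rw [Finset.card_filter]
    · simp [h]
  have h2 : ∀ z u, cutN (G := G) x y z u
      = ∑ v, (if Adj G x y u v ∧ ¬ Same G u v z then 1 else 0) := by
    intro z u
    unfold cutN
    rw [Finset.card_filter]
  simp_rw [h1, h2]
  conv_rhs => rw [Finset.sum_comm]
  apply Finset.sum_congr rfl
  intro u _
  rw [Finset.sum_comm]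

/-- The cut inequality: `n - 1 + k ≤ k * D x y`. -/
theorem cut_bound [MulAction.IsPreprimitive G Ω] {x y : Ω} (hxy : x ≠ y) :
    Fintype.card Ω - 1 + (Nb G x y x).card ≤ (Nb G x y x).card * D G x y := by
  have hpos : 0 < Fintype.card Ω := Fintype.card_pos_iff.mpr ⟨x⟩
  have hL : ∑ u, ∑ v ∈ Nb G x y u, D G u v
      = Fintype.card Ω * ((Nb G x y x).card * D G x y) := by
    have : ∀ u, ∑ v ∈ Nb G x y u, D G u v = (Nb G x y x).card * D G x y := by
      intro u
      rw [Finset.sum_congr rfl (fun v hv => D_adj (mem_Nb.mp hv)), Finset.sum_const,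
        smul_eq_mul, card_Nb_eq]
    rw [Finset.sum_congr rfl (fun u _ => this u), Finset.sum_const, smul_eq_mul, Finset.card_univ]
  have hR : Fintype.card Ω * (Fintype.card Ω - 1 + (Nb G x y x).card)
      ≤ ∑ z, ∑ u, cutN (G := G) x y z u := by
    have : ∑ z : Ω, (Fintype.card Ω - 1 + (Nb G x y x).card) ≤ ∑ z, ∑ u, cutN (G := G) x y z u := by
      apply Finset.sum_le_sum
      intro z _
      have := sum_cutN_ge (G := G) hxy z
      rwa [card_Nb_eq] at this
    simpa [Finset.card_univ] using this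
  rw [← sum_D_eq_sum_cutN, hL] at hR
  exact Nat.le_of_mul_le_mul_left hR hpos

end Cfsg.Agent.Lib.Helper9.MinDeg
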