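import Cfsg.Agent.Lib.Helper9.MinDeg2

/-!
# Minimal degree of primitive groups: distinguishing numbers (part 3)

The two cases: an orbital graph of diameter at least three, or of diameter at most two.
-/

set_option autoImplicit false

namespace Cfsg.Agent.Lib.Helper9.MinDeg

open Classical

variable {G : Type*} {Ω : Type*} [Group G] [MulAction G Ω] [Fintype Ω]

theorem D_self (u : Ω) : D G u u = 0 := by
  unfold D
  rw [Finset.card_eq_zero]
  ext z
  simp [mem_T, same_refl]

theorem Nb_pos (x y : Ω) : 1 ≤ (Nb G x y x).card := by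
  rw [Nat.succ_le_iff, Finset.card_pos]
  exact ⟨y, mem_Nb.mpr (adj_base x y)⟩

theorem two_le_D {x y : Ω} (hxy : x ≠ y) : 2 ≤ D G x y := by
  unfold D
  have : ({x, y} : Finset Ω) ⊆ T G x y := by
    intro z hz
    rw [Finset.mem_insert, Finset.mem_singleton] at hz
    rcases hz with rfl | rfl
    · exact left_mem_T hxy
    · exact right_mem_T hxy
  calc 2 = ({x, y} : Finset Ω).card := (Finset.card_pair hxy).symm
    _ ≤ _ := Finset.card_le_card this

/-- Case (b): a chain of length three whose ends have no common neighbour. -/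
theorem caseB_valency [MulAction.IsPretransitive G Ω] {x y u0 u1 u2 u3 : Ω}
    (h01 : Adj G x y u0 u1) (h12 : Adj G x y u1 u2) (h23 : Adj G x y u2 u3)
    (hdisj : ∀ w, Adj G x y u0 w → ¬ Adj G x y w u3) :
    (Nb G x y x).card ≤ 3 * D G x y := by
  have hsub : Nb G x y u0 ⊆ T G u0 u1 ∪ T G u1 u2 ∪ T G u2 u3 := by
    intro z hz
    have h1 := Nb_subset x y u0 u1 hz
    rw [Finset.mem_union] at h1
    rw [Finset.mem_union, Finset.mem_union]
    rcases h1 with h1 | h1
    · have h2 := Nb_subset x y u1 u2 h1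
      rw [Finset.mem_union] at h2
      rcases h2 with h2 | h2
      · have h3 := Nb_subset x y u2 u3 h2
        rw [Finset.mem_union] at h3
        rcases h3 with h3 | h3
        · exfalso
          exact hdisj z (mem_Nb.mp hz) (adj_symm (mem_Nb.mp h3))
        · exact Or.inr h3
      · exact Or.inl (Or.inr h2)
    · exact Or.inl (Or.inl h1)
  have hc := Finset.card_le_card hsub
  have h1 : (T G u0 u1 ∪ T G u1 u2 ∪ T G u2 u3).card
      ≤ (T G u0 u1).card + (T G u1 u2).card + (T G u2 u3).card :=
    (Finset.card_union_le _ _).trans (Nat.add_le_add_right (Finset.card_union_le _ _) _)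
  have e1 : (T G u0 u1).card = D G x y := D_adj h01
  have e2 : (T G u1 u2).card = D G x y := D_adj h12
  have e3 : (T G u2 u3).card = D G x y := D_adj h23
  rw [e1, e2, e3] at h1
  rw [← card_Nb_eq x y u0]
  omega

theorem caseB [MulAction.IsPreprimitive G Ω] {x y u0 u1 u2 u3 : Ω} (hxy : x ≠ y)
    (h01 : Adj G x y u0 u1) (h12 : Adj G x y u1 u2) (h23 : Adj G x y u2 u3)
    (hdisj : ∀ w, Adj G x y u0 w → ¬ Adj G x y w u3) :
    Fintype.card Ω ≤ (2 * D G x y + 1) ^ 2 := by
  have h1 := caseB_valency h01 h12 h23 hdisj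
  have h2 := cut_bound (G := G) hxy
  have h3 := Nb_pos (G := G) x y
  have h4 := two_le_D (G := G) hxy
  have hn : 1 ≤ Fintype.card Ω := Fintype.card_pos_iff.mpr ⟨x⟩
  generalize (Nb G x y x).card = k at *
  generalize D G x y = d at *
  generalize Fintype.card Ω = n at *
  have h5 : k * d ≤ 3 * d * d := by nlinarith
  have : n + k ≤ k * d + 1 := by omega
  nlinarith

/-- If every chain of length three can be shortened, all distinguishing numbers are at most
twice the one of `(x,y)`. -/
theorem diam_two [MulAction.IsPreprimitive G Ω] {x y : Ω} (hxy : x ≠ y)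
    (hneg : ∀ u0 u1 u2 u3, Adj G x y u0 u1 → Adj G x y u1 u2 → Adj G x y u2 u3 →
      ∃ w, Adj G x y u0 w ∧ Adj G x y w u3) (u v : Ω) (huv : u ≠ v) :
    D G u v ≤ 2 * D G x y := by
  let C : Set Ω := {v | v = u ∨ Adj G x y u v ∨ ∃ w, Adj G x y u w ∧ Adj G x y w v}
  have hC : C = Set.univ := by
    apply closed_eq_univ (G := G) hxy C ⟨u, Or.inl rfl⟩
    intro a b ha hab
    rcases ha with rfl | ha | ⟨w, hw1, hw2⟩
    · exact Or.inr (Or.inl hab)
    · exact Or.inr (Or.inr ⟨a, ha, hab⟩)
    · exact Or.inr (Or.inr (hneg u w a b hw1 hw2 hab))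
  have hv : v ∈ C := by rw [hC]; trivial
  rcases hv with rfl | hv | ⟨w, hw1, hw2⟩
  · exact absurd rfl huv
  · rw [D_adj hv]; omega
  · have := D_triangle (G := G) u w v
    rw [D_adj hw1, D_adj hw2] at this
    omega

/-- the cell of `u` with respect to `z` -/
noncomputable def cell (G : Type*) {Ω : Type*} [Group G] [MulAction G Ω] [Fintype Ω]
    (z u : Ω) : Finset Ω := Finset.univ.filter (fun v => Same G u v z)

theorem mem_cell {z u v : Ω} : v ∈ cell G z u ↔ Same G u v z := by
  simp [cell]

theorem self_mem_cell (z u : Ω) : u ∈ cell G z u := mem_cell.mpr (same_refl u z)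

theorem cell_self (z : Ω) : cell G z z = {z} := by
  ext v
  rw [mem_cell, Finset.mem_singleton]
  constructor
  · rintro ⟨k, h1, h2⟩
    exact h1.symm.trans h2
  · rintro rfl
    exact same_refl _ _

theorem cell_eq_of_same {z u v : Ω} (h : Same G u v z) : cell G z u = cell G z v := by
  ext w
  rw [mem_cell, mem_cell]
  exact ⟨fun h' => same_trans (same_symm h) h', fun h' => same_trans h h'⟩

theorem card_T_add_card_cell (z u : Ω) :
    (Finset.univ.filter (fun v => ¬ Same G u v z)).card + (cell G z u).card = Fintype.card Ω := by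
  unfold cell
  rw [add_comm, Finset.card_filter_add_card_filter_not, Finset.card_univ]

/-- double counting for the average distinguishing number -/
theorem sum_D_eq (G : Type*) {Ω : Type*} [Group G] [MulAction G Ω] [Fintype Ω] :
    ∑ u : Ω, ∑ v : Ω, D G u v
      = ∑ z : Ω, ∑ u : Ω, (Fintype.card Ω - (cell G z u).card) := by
  have h1 : ∀ u v : Ω, D G u v = ∑ z : Ω, (if ¬ Same G u v z then 1 else 0) := by
    intro u v
    unfold D T
    rw [Finset.card_filter]
  have h2 : ∀ z u : Ω, Fintype.card Ω - (cell G z u).card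
      = ∑ v : Ω, (if ¬ Same G u v z then 1 else 0) := by
    intro z u
    rw [← Finset.card_filter, ← card_T_add_card_cell (G := G) z u, Nat.add_sub_cancel]
  simp_rw [h1, h2]
  conv_rhs => rw [Finset.sum_comm]
  apply Finset.sum_congr rfl
  intro u _
  rw [Finset.sum_comm]

/-- pairing of suborbits preserves sizes -/
theorem pairing [MulAction.IsPretransitive G Ω] (z w : Ω) :
    (Finset.univ.filter (fun v => ∃ h : G, h • z = z ∧ h • w = v)).card
      = (Finset.univ.filter (fun v => ∃ h : G, h • z = v ∧ h • w = z)).card := by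
  let Oout : Ω → Finset Ω := fun a => Finset.univ.filter (fun b => ∃ h : G, h • z = a ∧ h • w = b)
  let Oin : Ω → Finset Ω := fun b => Finset.univ.filter (fun a => ∃ h : G, h • z = a ∧ h • w = b)
  have hpos : 0 < Fintype.card Ω := Fintype.card_pos_iff.mpr ⟨z⟩
  have hout : ∀ (k : G) (a : Ω), (Oout (k • a)).card = (Oout a).card := by
    intro k a
    have : Oout (k • a) = (Oout a).image (fun b => k • b) := by
      ext b
      simp only [Oout, Finset.mem_filter, Finset.mem_univ, true_and, Finset.mem_image]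
      constructor
      · rintro ⟨h, h1, h2⟩
        refine ⟨k⁻¹ • b, ⟨k⁻¹ * h, ?_, ?_⟩, smul_inv_smul _ _⟩
        · rw [mul_smul, h1, inv_smul_smul]
        · rw [mul_smul, h2]
      · rintro ⟨b', ⟨h, h1, h2⟩, rfl⟩
        exact ⟨k * h, by rw [mul_smul, h1], by rw [mul_smul, h2]⟩
    rw [this, Finset.card_image_of_injective _ (MulAction.injective k)]
  have hin : ∀ (k : G) (b : Ω), (Oin (k • b)).card = (Oin b).card := by
    intro k b
    have : Oin (k • b) = (Oin b).image (fun a => k • a) := by
      ext a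
      simp only [Oin, Finset.mem_filter, Finset.mem_univ, true_and, Finset.mem_image]
      constructor
      · rintro ⟨h, h1, h2⟩
        refine ⟨k⁻¹ • a, ⟨k⁻¹ * h, ?_, ?_⟩, smul_inv_smul _ _⟩
        · rw [mul_smul, h1]
        · rw [mul_smul, h2, inv_smul_smul]
      · rintro ⟨a', ⟨h, h1, h2⟩, rfl⟩
        exact ⟨k * h, by rw [mul_smul, h1], by rw [mul_smul, h2]⟩
    rw [this, Finset.card_image_of_injective _ (MulAction.injective k)]
  have hout' : ∀ a, (Oout a).card = (Oout z).card := by
    intro a
    obtain ⟨k, hk⟩ := MulAction.exists_smul_eq G z a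
    rw [← hk, hout]
  have hin' : ∀ b, (Oin b).card = (Oin z).card := by
    intro b
    obtain ⟨k, hk⟩ := MulAction.exists_smul_eq G z b
    rw [← hk, hin]
  have hsum : ∑ a, (Oout a).card = ∑ b, (Oin b).card := by
    have e1 : ∀ a, (Oout a).card = ∑ b, (if ∃ h : G, h • z = a ∧ h • w = b then 1 else 0) := by
      intro a
      simp only [Oout]
      rw [Finset.card_filter]
    have e2 : ∀ b, (Oin b).card = ∑ a, (if ∃ h : G, h • z = a ∧ h • w = b then 1 else 0) := by
      intro b
      simp only [Oin]
      rw [Finset.card_filter]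
    simp_rw [e1, e2]
    rw [Finset.sum_comm]
  rw [Finset.sum_congr rfl (fun a _ => hout' a), Finset.sum_congr rfl (fun b _ => hin' b),
    Finset.sum_const, Finset.sum_const, smul_eq_mul, smul_eq_mul, Finset.card_univ] at hsum
  exact Nat.eq_of_mul_eq_mul_left hpos hsum

end Cfsg.Agent.Lib.Helper9.MinDeg
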