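import Cfsg.Agent.Lib.Helper9.MinDeg3

/-!
# Minimal degree of primitive groups: distinguishing numbers (part 4)

The diameter-two case and the final bound `n ≤ (2 D + 1)^2` for uniprimitive groups.
-/

set_option autoImplicit false

namespace Cfsg.Agent.Lib.Helper9.MinDeg

open Classical

variable {G : Type*} {Ω : Type*} [Group G] [MulAction G Ω] [Fintype Ω]

theorem cell_subset_erase {z u : Ω} (hu : u ≠ z) : cell G z u ⊆ Finset.univ.erase z := by
  intro v hv
  rw [Finset.mem_erase]
  refine ⟨?_, Finset.mem_univ _⟩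
  rintro rfl
  exact not_same_right hu (mem_cell.mp hv)

theorem cell_disjoint {z u w : Ω} (h : ¬ Same G u w z) : Disjoint (cell G z u) (cell G z w) := by
  rw [Finset.disjoint_left]
  intro v hv hv'
  exact h (same_trans (mem_cell.mp hv) (same_symm (mem_cell.mp hv')))

/-- the set `B` of in-neighbours is a cell of the same size as the out-neighbour cell -/
theorem inNb_eq_cell [MulAction.IsPretransitive G Ω] {z w v : Ω}
    (hv : ∃ h : G, h • z = v ∧ h • w = z) :
    (cell G z v).card = (cell G z w).card := by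
  have h1 : cell G z w = Finset.univ.filter (fun v => ∃ h : G, h • z = z ∧ h • w = v) := by
    ext v'
    rw [mem_cell]
    simp only [Finset.mem_filter, Finset.mem_univ, true_and]
    constructor
    · rintro ⟨h, h1, h2⟩; exact ⟨h, h2, h1⟩
    · rintro ⟨h, h1, h2⟩; exact ⟨h, h2, h1⟩
  have h2 : cell G z v = Finset.univ.filter (fun v' => ∃ h : G, h • z = v' ∧ h • w = z) := by
    ext v'
    rw [mem_cell]
    simp only [Finset.mem_filter, Finset.mem_univ, true_and]
    obtain ⟨h, hh1, hh2⟩ := hv
    constructor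
    · rintro ⟨k, k1, k2⟩
      exact ⟨k * h, by rw [mul_smul, hh1, k1], by rw [mul_smul, hh2, k2]⟩
    · rintro ⟨h', h1', h2'⟩
      refine ⟨h' * h⁻¹, ?_, ?_⟩
      · rw [mul_smul, ← hh1, inv_smul_smul, h1']
      · rw [mul_smul]
        conv_lhs => rw [← hh2, inv_smul_smul]
        exact h2'
  rw [h1, h2, pairing]

theorem caseA [MulAction.IsPreprimitive G Ω] {x y : Ω} (hxy : x ≠ y)
    (hD2 : ∀ u v : Ω, u ≠ v → D G u v ≤ 2 * D G x y)
    (h2t : ∃ z a b : Ω, a ≠ z ∧ b ≠ z ∧ ¬ Same G a b z) :
    Fintype.card Ω ≤ (2 * D G x y + 1) ^ 2 := by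
  have hn2 : 2 ≤ Fintype.card Ω := by
    calc 2 = ({x, y} : Finset Ω).card := (Finset.card_pair hxy).symm
      _ ≤ _ := Finset.card_le_univ _
  -- the total sum
  have hQ : ∀ u : Ω, ∑ v : Ω, D G u v ≤ (Fintype.card Ω - 1) * (2 * D G x y) := by
    intro u
    rw [← Finset.add_sum_erase Finset.univ _ (Finset.mem_univ u), D_self, zero_add]
    have : ∑ v ∈ Finset.univ.erase u, D G u v ≤ ∑ v ∈ Finset.univ.erase u, 2 * D G x y := by
      apply Finset.sum_le_sum
      intro v hv
      exact hD2 u v (Finset.ne_of_mem_erase hv).symm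
    simpa [Finset.card_erase_of_mem, Finset.card_univ] using this
  have hQ2 : ∑ z : Ω, ∑ u : Ω, (Fintype.card Ω - (cell G z u).card)
      ≤ ∑ z : Ω, (Fintype.card Ω - 1) * (2 * D G x y) := by
    rw [← sum_D_eq]
    exact Finset.sum_le_sum (fun u _ => hQ u)
  obtain ⟨z, -, hz⟩ := Finset.exists_le_of_sum_le (Finset.univ_nonempty_iff.mpr ⟨x⟩) hQ2
  -- non 2-transitivity at `z`
  obtain ⟨z0, a0, b0, ha0, hb0, hab0⟩ := h2t
  obtain ⟨k, hk⟩ := MulAction.exists_smul_eq G z0 z
  have ha : k • a0 ≠ z := by
    rw [← hk]; exact fun h => ha0 (MulAction.injective k h)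
  have hb : k • b0 ≠ z := by
    rw [← hk]; exact fun h => hb0 (MulAction.injective k h)
  have hab : ¬ Same G (k • a0) (k • b0) z := by
    rw [← hk, same_smul_iff]; exact hab0
  -- the biggest cell
  have hne : (Finset.univ.erase z).Nonempty := ⟨k • a0, Finset.mem_erase.mpr ⟨ha, Finset.mem_univ _⟩⟩
  obtain ⟨u0, hu0, hmax⟩ := Finset.exists_max_image (Finset.univ.erase z)
    (fun u => (cell G z u).card) hne
  have hu0z : u0 ≠ z := Finset.ne_of_mem_erase hu0
  have hM1 : (cell G z u0).card + 1 ≤ Fintype.card Ω := by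
    have := Finset.card_le_card (cell_subset_erase (G := G) hu0z)
    rw [Finset.card_erase_of_mem (Finset.mem_univ _), Finset.card_univ] at this
    omega
  -- lower bound for the sum at `z`
  have hlow : (Fintype.card Ω - 1) + (Fintype.card Ω - 1) * (Fintype.card Ω - (cell G z u0).card)
      ≤ ∑ u : Ω, (Fintype.card Ω - (cell G z u).card) := by
    rw [← Finset.add_sum_erase Finset.univ _ (Finset.mem_univ z), cell_self,
      Finset.card_singleton]
    apply Nat.add_le_add_left
    have : ∑ u ∈ Finset.univ.erase z, (Fintype.card Ω - (cell G z u0).card)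
        ≤ ∑ u ∈ Finset.univ.erase z, (Fintype.card Ω - (cell G z u).card) := by
      apply Finset.sum_le_sum
      intro u hu
      have := hmax u hu
      omega
    simpa [Finset.card_erase_of_mem, Finset.card_univ] using this
  have hkey : 1 + (Fintype.card Ω - (cell G z u0).card) ≤ 2 * D G x y := by
    have h1 := hlow.trans hz
    have h2 : (Fintype.card Ω - 1) * (1 + (Fintype.card Ω - (cell G z u0).card))
        ≤ (Fintype.card Ω - 1) * (2 * D G x y) := by
      rw [mul_add, mul_one]; exact h1
    exact Nat.le_of_mul_le_mul_left h2 (by omega)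
  by_cases hcase : 2 * (cell G z u0).card ≤ Fintype.card Ω - 1
  · -- all cells small
    generalize (cell G z u0).card = M at *
    generalize D G x y = d at *
    generalize Fintype.card Ω = n at *
    have : n + 3 ≤ 4 * d := by omega
    nlinarith
  · push Not at hcase
    -- a point outside the biggest cell
    have hw : ∃ w : Ω, w ≠ z ∧ ¬ Same G u0 w z := by
      by_cases h1 : Same G u0 (k • a0) z
      · refine ⟨k • b0, hb, fun h2 => hab (same_trans (same_symm h1) h2)⟩
      · exact ⟨k • a0, ha, h1⟩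
    obtain ⟨w, hwz, hw⟩ := hw
    have hzw : z ≠ w := Ne.symm hwz
    -- neighbours of `z` in the graph of `(z,w)` avoid the biggest cell
    have hsub : Nb G z w z ⊆ (Finset.univ.erase z) \ cell G z u0 := by
      intro v hv
      have hadj := mem_Nb.mp hv
      rw [Finset.mem_sdiff, Finset.mem_erase]
      refine ⟨⟨(adj_ne hzw hadj).symm, Finset.mem_univ _⟩, ?_⟩
      intro hvc
      have hvs : Same G u0 v z := mem_cell.mp hvc
      obtain ⟨h, ⟨h1, h2⟩ | ⟨h1, h2⟩⟩ := hadj
      · exact hw (same_trans hvs (same_symm ⟨h, h2, h1⟩))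
      · have e1 : (cell G z v).card = (cell G z w).card := inNb_eq_cell ⟨h, h1, h2⟩
        have e2 : cell G z u0 = cell G z v := cell_eq_of_same hvs
        have hdis := cell_disjoint (G := G) hw
        have hunion : cell G z u0 ∪ cell G z w ⊆ Finset.univ.erase z :=
          Finset.union_subset (cell_subset_erase hu0z) (cell_subset_erase hwz)
        have hc := Finset.card_le_card hunion
        rw [Finset.card_union_of_disjoint hdis, Finset.card_erase_of_mem (Finset.mem_univ _),
          Finset.card_univ, ← e1, ← e2] at hc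
        omega
    have hk' := Finset.card_le_card hsub
    rw [Finset.card_sdiff_of_subset (cell_subset_erase hu0z),
      Finset.card_erase_of_mem (Finset.mem_univ _), Finset.card_univ] at hk'
    have hcut := cut_bound (G := G) hzw
    have hDzw := hD2 z w hzw
    have hpos := Nb_pos (G := G) z w
    generalize (Nb G z w z).card = k' at *
    generalize (cell G z u0).card = M at *
    generalize D G z w = d' at *
    generalize D G x y = d at *
    generalize Fintype.card Ω = n at *
    have h5 : k' * d' ≤ k' * (2 * d) := Nat.mul_le_mul_left _ hDzw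
    have h6 : k' ≤ 2 * d - 2 := by omega
    have h7 : n + k' ≤ k' * (2 * d) + 1 := by omega
    have h8 : 2 ≤ 2 * d := by omega
    obtain ⟨e, he⟩ : ∃ e, 2 * d = e + 2 := ⟨2 * d - 2, by omega⟩
    rw [he] at h7 h6
    have h9 : k' ≤ e := by omega
    have : k' * (e + 2) ≤ e * (e + 2) := Nat.mul_le_mul_right _ h9
    have h10 : 2 * d + 1 = e + 3 := by omega
    rw [h10]
    nlinarith

/-- **Babai-type bound**: in a primitive, not 2-transitive group every pair of distinct points is
distinguished by at least `(√n - 1)/2` points. -/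
theorem uniprim_bound [MulAction.IsPreprimitive G Ω] {x y : Ω} (hxy : x ≠ y)
    (h2t : ∃ z a b : Ω, a ≠ z ∧ b ≠ z ∧ ¬ Same G a b z) :
    Fintype.card Ω ≤ (2 * D G x y + 1) ^ 2 := by
  by_cases hb : ∃ u0 u1 u2 u3 : Ω, Adj G x y u0 u1 ∧ Adj G x y u1 u2 ∧ Adj G x y u2 u3 ∧
      ∀ w, Adj G x y u0 w → ¬ Adj G x y w u3
  · obtain ⟨u0, u1, u2, u3, h01, h12, h23, hdisj⟩ := hb
    exact caseB hxy h01 h12 h23 hdisj
  · push Not at hb
    apply caseA hxy _ h2t
    apply diam_two hxy
    intro u0 u1 u2 u3 h01 h12 h23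
    obtain ⟨w, hw1, hw2⟩ := hb u0 u1 u2 u3 h01 h12 h23
    exact ⟨w, hw1, hw2⟩

end Cfsg.Agent.Lib.Helper9.MinDeg
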