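import Cfsg.Agent.Lib.Helper9.MinDeg4

/-!
# Minimal degree of primitive groups (part 5): the 2-transitive case

A separation lemma for 2-transitive groups, and the commutator of two permutations whose
supports meet in exactly one point is a 3-cycle.
-/

set_option autoImplicit false

namespace Cfsg.Agent.Lib.Helper9.MinDeg

open Classical

section ThreeCycle

variable {Ω : Type*} [Fintype Ω] [DecidableEq Ω]

open Equiv Equiv.Perm

omit [Fintype Ω] [DecidableEq Ω] in
theorem p_apply_inv (f : Perm Ω) (x : Ω) : f (f⁻¹ x) = x := f.apply_symm_apply x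

omit [Fintype Ω] [DecidableEq Ω] in
theorem p_inv_apply (f : Perm Ω) (x : Ω) : f⁻¹ (f x) = x := f.symm_apply_apply x

/-- two permutations whose supports meet in exactly one point have a 3-cycle as commutator -/
theorem isThreeCycle_comm {σ τ : Perm Ω} {a : Ω}
    (h : ∀ z, (σ z ≠ z ∧ τ z ≠ z) ↔ z = a) : IsThreeCycle (σ * τ * σ⁻¹ * τ⁻¹) := by
  have hσa : σ a ≠ a := ((h a).mpr rfl).1
  have hτa : τ a ≠ a := ((h a).mpr rfl).2
  have L1 : ∀ w, w ≠ a → σ w ≠ w → τ w = w := by
    intro w hw hσ
    by_contra hτ
    exact hw ((h w).mp ⟨hσ, hτ⟩)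
  have L2 : ∀ w, w ≠ a → τ w ≠ w → σ w = w := by
    intro w hw hτ
    by_contra hσ
    exact hw ((h w).mp ⟨hσ, hτ⟩)
  have hσσa : σ (σ a) ≠ σ a := fun e => hσa (σ.injective e)
  have hττa : τ (τ a) ≠ τ a := fun e => hτa (τ.injective e)
  have hτσa : τ (σ a) = σ a := L1 _ hσa hσσa
  have hστa : σ (τ a) = τ a := L2 _ hτa hττa
  have hne : τ a ≠ σ a := by
    intro e
    rw [← e] at hτσa
    exact hττa hτσa
  have key : σ * τ * σ⁻¹ * τ⁻¹ = swap a (τ a) * swap a (σ a) := by
    ext z
    simp only [Perm.mul_apply]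
    by_cases hza : z = a
    · subst hza
      -- τ⁻¹ z is moved by τ
      have h1 : τ (τ⁻¹ z) ≠ τ⁻¹ z := by
        rw [p_apply_inv]
        intro e
        apply hτa
        conv_lhs => rw [e]
        rw [p_apply_inv]
      have h2 : τ⁻¹ z ≠ z := by
        intro e
        apply hτa
        conv_lhs => rw [← e]
        rw [p_apply_inv]
      have h3 : σ (τ⁻¹ z) = τ⁻¹ z := L2 _ h2 h1
      have h4 : σ⁻¹ (τ⁻¹ z) = τ⁻¹ z := by
        rw [Perm.inv_eq_iff_eq]; exact h3.symm
      rw [h4, p_apply_inv, swap_apply_left, swap_apply_of_ne_of_ne hσa (Ne.symm hne)]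
    · by_cases hzσ : z = σ a
      · subst hzσ
        have h1 : τ⁻¹ (σ a) = σ a := by
          rw [Perm.inv_eq_iff_eq]; exact hτσa.symm
        rw [h1, p_inv_apply, hστa, swap_apply_right, swap_apply_left]
      · by_cases hzτ : z = τ a
        · subst hzτ
          rw [p_inv_apply]
          have h1 : σ (σ⁻¹ a) ≠ σ⁻¹ a := by
            rw [p_apply_inv]
            intro e
            apply hσa
            conv_lhs => rw [e]
            rw [p_apply_inv]
          have h2 : σ⁻¹ a ≠ a := by
            intro e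
            apply hσa
            conv_lhs => rw [← e]
            rw [p_apply_inv]
          have h3 : τ (σ⁻¹ a) = σ⁻¹ a := L1 _ h2 h1
          rw [h3, p_apply_inv, swap_apply_of_ne_of_ne hτa hne, swap_apply_right]
        · rw [swap_apply_of_ne_of_ne hza hzσ, swap_apply_of_ne_of_ne hza hzτ]
          by_cases hτz : τ z = z
          · have h1 : τ⁻¹ z = z := by
              rw [Perm.inv_eq_iff_eq]; exact hτz.symm
            rw [h1]
            by_cases hσz : σ z = z
            · have h2 : σ⁻¹ z = z := by
                rw [Perm.inv_eq_iff_eq]; exact hσz.symm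
              rw [h2, hτz, hσz]
            · have h2 : σ (σ⁻¹ z) ≠ σ⁻¹ z := by
                rw [p_apply_inv]
                intro e
                apply hσz
                conv_lhs => rw [e]
                rw [p_apply_inv]
              have h3 : σ⁻¹ z ≠ a := by
                intro e
                apply hzσ
                rw [← e, p_apply_inv]
              rw [L1 _ h3 h2, p_apply_inv]
          · have hσz : σ z = z := L2 _ hza hτz
            have h2 : τ (τ⁻¹ z) ≠ τ⁻¹ z := by
              rw [p_apply_inv]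
              intro e
              apply hτz
              conv_lhs => rw [e]
              rw [p_apply_inv]
            have h3 : τ⁻¹ z ≠ a := by
              intro e
              apply hzτ
              rw [← e, p_apply_inv]
            have h4 : σ (τ⁻¹ z) = τ⁻¹ z := L2 _ h3 h2
            have h5 : σ⁻¹ (τ⁻¹ z) = τ⁻¹ z := by
              rw [Perm.inv_eq_iff_eq]; exact h4.symm
            rw [h5, p_apply_inv, hσz]
  rw [key]
  exact isThreeCycle_swap_mul_swap_same (Ne.symm hτa) (Ne.symm hσa) hne

end ThreeCycle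

section Separation

variable {G : Type*} {Ω : Type*} [Group G] [Fintype G] [MulAction G Ω] [Fintype Ω]

/-- elements fixing `a` and mapping `b` to `c` -/
noncomputable def Fab (G : Type*) {Ω : Type*} [Group G] [Fintype G] [MulAction G Ω]
    (a b c : Ω) : Finset G := Finset.univ.filter (fun h : G => h • a = a ∧ h • b = c)

/-- elements fixing `a` -/
noncomputable def Fa (G : Type*) {Ω : Type*} [Group G] [Fintype G] [MulAction G Ω]
    (a : Ω) : Finset G := Finset.univ.filter (fun h : G => h • a = a)

theorem card_Fab_le (h2t : ∀ z a b : Ω, a ≠ z → b ≠ z → Same G a b z) {a b c c' : Ω}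
    (hc : c ≠ a) (hc' : c' ≠ a) : (Fab G a b c).card ≤ (Fab G a b c').card := by
  obtain ⟨k, hk1, hk2⟩ := h2t a c c' hc hc'
  apply Finset.card_le_card_of_injOn (fun h => k * h)
  · intro h hh
    simp only [Fab, Finset.coe_filter, Finset.mem_univ, true_and, Set.mem_setOf_eq] at hh ⊢
    exact ⟨by rw [mul_smul, hh.1, hk2], by rw [mul_smul, hh.2, hk1]⟩
  · intro h _ h' _ e
    exact mul_left_cancel e

theorem card_Fa_eq (h2t : ∀ z a b : Ω, a ≠ z → b ≠ z → Same G a b z) {a b c : Ω}
    (hb : b ≠ a) (hc : c ≠ a) : (Fa G a).card = (Fintype.card Ω - 1) * (Fab G a b c).card := by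
  have hmap : ∀ h ∈ Fa G a, h • b ∈ Finset.univ.erase a := by
    intro h hh
    simp only [Fa, Finset.mem_filter, Finset.mem_univ, true_and] at hh
    rw [Finset.mem_erase]
    refine ⟨?_, Finset.mem_univ _⟩
    intro e
    rw [← hh] at e
    exact hb (MulAction.injective h e)
  rw [Finset.card_eq_sum_card_fiberwise hmap]
  have : ∀ c' ∈ Finset.univ.erase a,
      ((Fa G a).filter (fun h => h • b = c')).card = (Fab G a b c).card := by
    intro c' hc'
    have hc'a : c' ≠ a := Finset.ne_of_mem_erase hc'
    have e : (Fa G a).filter (fun h => h • b = c') = Fab G a b c' := by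
      ext h
      simp [Fa, Fab]
    rw [e]
    exact le_antisymm (card_Fab_le h2t hc'a hc) (card_Fab_le h2t hc hc'a)
  rw [Finset.sum_congr rfl this, Finset.sum_const, smul_eq_mul,
    Finset.card_erase_of_mem (Finset.mem_univ _), Finset.card_univ]

/-- Separation: in a 2-transitive group, a small set avoiding `a` can be moved off itself by an
element fixing `a`. -/
theorem exists_separating (h2t : ∀ z a b : Ω, a ≠ z → b ≠ z → Same G a b z) (a : Ω)
    (S' : Finset Ω) (haS : a ∉ S') (hsmall : S'.card * S'.card < Fintype.card Ω - 1) :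
    ∃ h : G, h • a = a ∧ ∀ b ∈ S', h • b ∉ S' := by
  by_contra hcon
  push Not at hcon
  -- every element of `Fa` is bad
  have hsub : Fa G a ⊆ S'.biUnion (fun b => S'.biUnion (fun c => Fab G a b c)) := by
    intro h hh
    have hha : h • a = a := by
      simpa [Fa] using hh
    obtain ⟨b, hb, hb'⟩ := hcon h hha
    rw [Finset.mem_biUnion]
    refine ⟨b, hb, ?_⟩
    rw [Finset.mem_biUnion]
    refine ⟨h • b, hb', ?_⟩
    simp [Fab, hha]
  have hFa_pos : 1 ≤ (Fa G a).card := by
    rw [Nat.succ_le_iff, Finset.card_pos]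
    exact ⟨1, by simp [Fa]⟩
  by_cases hS : S' = ∅
  · subst hS
    simp at hsub
    rw [hsub] at hFa_pos
    simp at hFa_pos
  obtain ⟨b0, hb0⟩ := Finset.nonempty_iff_ne_empty.mpr hS
  have hb0a : b0 ≠ a := fun e => haS (e ▸ hb0)
  -- the common value
  have hcommon : ∀ b ∈ S', ∀ c ∈ S', (Fintype.card Ω - 1) * (Fab G a b c).card = (Fa G a).card := by
    intro b hb c hc
    have hba : b ≠ a := fun e => haS (e ▸ hb)
    have hca : c ≠ a := fun e => haS (e ▸ hc)
    exact (card_Fa_eq h2t hba hca).symm
  have h1 : (Fa G a).card ≤ ∑ b ∈ S', ∑ c ∈ S', (Fab G a b c).card := by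
    refine (Finset.card_le_card hsub).trans ?_
    refine Finset.card_biUnion_le.trans ?_
    exact Finset.sum_le_sum (fun b _ => Finset.card_biUnion_le)
  have h2 : (Fintype.card Ω - 1) * ∑ b ∈ S', ∑ c ∈ S', (Fab G a b c).card
      = S'.card * S'.card * (Fa G a).card := by
    rw [Finset.mul_sum]
    have : ∀ b ∈ S', (Fintype.card Ω - 1) * ∑ c ∈ S', (Fab G a b c).card
        = S'.card * (Fa G a).card := by
      intro b hb
      rw [Finset.mul_sum, Finset.sum_congr rfl (fun c hc => hcommon b hb c hc), Finset.sum_const,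
        smul_eq_mul]
    rw [Finset.sum_congr rfl this, Finset.sum_const, smul_eq_mul, mul_assoc]
  have h3 : (Fintype.card Ω - 1) * (Fa G a).card ≤ S'.card * S'.card * (Fa G a).card := by
    rw [← h2]
    exact Nat.mul_le_mul_left _ h1
  have h4 : (Fintype.card Ω - 1) ≤ S'.card * S'.card :=
    Nat.le_of_mul_le_mul_right h3 (by omega)
  omega

end Separation

end Cfsg.Agent.Lib.Helper9.MinDeg
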