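import Mathlib
import Cfsg.Agent.Lib.Helper9.UPol1

/-!
# S5954, `r = 2`: abstract lemmas on isometries `T` with `T² = z • 1` of a Hermitian space

Every nonzero invariant nondegenerate subspace contains an invariant nondegenerate block of
dimension 1 or 2; hence invariant nondegenerate subspaces of every admissible dimension.
-/

set_option autoImplicit false

namespace Cfsg.Agent.Lib.Helper9.NDU2

open Module Cfsg.Agent.Lib.Helper2 Cfsg.Agent.Lib.Helper2.IsomDecomp
  Cfsg.Agent.Lib.Helper2.HermDecomp Cfsg.Agent.Lib.Helper2.HermFrames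
  Cfsg.Agent.Lib.Helper5.PSLCoset Cfsg.Agent.Lib.Helper9.UPol

variable {F : Type*} [Field F] {σ : F ≃+* F} {V : Type*} [AddCommGroup V] [Module F V]
  {H : V → V → F}

/-- invariance under a linear map -/
def InvS (S : V →ₗ[F] V) (W : Submodule F V) : Prop := ∀ w ∈ W, S w ∈ W

theorem invS_bot (S : V →ₗ[F] V) : InvS S ⊥ := by
  intro w hw
  rw [Submodule.mem_bot] at hw
  rw [hw, map_zero]
  exact Submodule.zero_mem _

theorem nd_bot : ND H (⊥ : Submodule F V) := by
  intro u hu _
  exact (Submodule.mem_bot F).1 hu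

theorem invS_sup {S : V →ₗ[F] V} {A B : Submodule F V} (hA : InvS S A) (hB : InvS S B) :
    InvS S (A ⊔ B) := by
  intro w hw
  obtain ⟨a, ha, b, hb, rfl⟩ := Submodule.mem_sup.1 hw
  rw [map_add]
  exact Submodule.add_mem_sup (hA a ha) (hB b hb)

/-- splitting off an invariant nondegenerate subspace -/
theorem split [FiniteDimensional F V] [Finite F] (hσ : orderOf σ = 2) (h : IsHerm σ H)
    (S : V →ₗ[F] V) (hSS : ∀ v, S (S v) = v) (c : F) (hS : ∀ u v, H (S u) (S v) = c * H u v)
    {U D : Submodule F V} (hDU : D ≤ U) (hU : ND H U) (hD : ND H D)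
    (hUi : InvS S U) (hDi : InvS S D) :
    ∃ U' : Submodule F V, U' ≤ U ∧ ND H U' ∧ InvS S U' ∧
      finrank F D + finrank F U' = finrank F U ∧ (∀ d ∈ D, ∀ u ∈ U', H d u = 0) ∧
      D ⊓ U' = ⊥ ∧ D ⊔ U' = U := by
  have hdec := orthoDecomp hσ h D hD
  have hsplit : ∀ y ∈ U, ∃ d ∈ D, ∃ y' ∈ U ⊓ orthoCompl h D, y = d + y' := by
    intro y hy
    obtain ⟨w, w', hww⟩ := exists_decomp hdec y
    refine ⟨w, w.2, w', ⟨?_, w'.2⟩, hww⟩
    have : (w' : V) = y - w := by rw [hww]; abel
    rw [this]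
    exact U.sub_mem hy (hDU w.2)
  have h1 : D ⊔ (U ⊓ orthoCompl h D) = U := by
    apply le_antisymm
    · exact sup_le hDU inf_le_left
    · intro y hy
      obtain ⟨d, hd, y', hy', rfl⟩ := hsplit y hy
      exact Submodule.add_mem_sup hd hy'
  have h2 : D ⊓ (U ⊓ orthoCompl h D) = ⊥ := by
    rw [eq_bot_iff]
    rintro x ⟨hx1, hx2⟩
    rw [Submodule.mem_bot]
    apply hD x hx1
    intro v hv
    exact eq_zero_of_symm h (hx2.2 v hv)
  refine ⟨U ⊓ orthoCompl h D, inf_le_left, ?_, ?_, ?_, ?_, h2, h1⟩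
  · intro u hu hu'
    apply hU u hu.1
    intro y hy
    obtain ⟨d, hd, y', hy', rfl⟩ := hsplit y hy
    rw [h.add_right, hu' y' hy', add_zero]
    exact eq_zero_of_symm h (hu.2 d hd)
  · intro u hu
    refine ⟨hUi u hu.1, ?_⟩
    intro d hd
    have h1 := hS (S d) u
    rw [hSS] at h1
    rw [h1, hu.2 (S d) (hDi d hd), mul_zero]
  · have h3 := Submodule.finrank_sup_add_finrank_inf_eq D (U ⊓ orthoCompl h D)
    rw [h1, h2, finrank_bot, add_zero] at h3
    exact h3.symm
  · intro d hd u hu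
    exact hu.2 d hd

/-- joining two orthogonal invariant nondegenerate subspaces -/
theorem join [FiniteDimensional F V] (h : IsHerm σ H) (S : V →ₗ[F] V)
    {D W : Submodule F V} (hD : ND H D) (hW : ND H W) (hDi : InvS S D) (hWi : InvS S W)
    (horth : ∀ d ∈ D, ∀ w ∈ W, H d w = 0) :
    ND H (D ⊔ W) ∧ InvS S (D ⊔ W) ∧ finrank F ↥(D ⊔ W) = finrank F D + finrank F W := by
  refine ⟨?_, invS_sup hDi hWi, ?_⟩
  · intro x hx hx'
    obtain ⟨d, hd, w, hw, rfl⟩ := Submodule.mem_sup.1 hx
    have hd0 : d = 0 := by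
      apply hD d hd
      intro d' hd'
      have := hx' d' (Submodule.mem_sup_left hd')
      rw [h.add_left, eq_zero_of_symm h (horth d' hd' w hw), add_zero] at this
      exact this
    have hw0 : w = 0 := by
      apply hW w hw
      intro w' hw'
      have := hx' w' (Submodule.mem_sup_right hw')
      rw [h.add_left, horth d hd w' hw', zero_add] at this
      exact this
    rw [hd0, hw0, add_zero]
  · have h2 : D ⊓ W = ⊥ := by
      rw [eq_bot_iff]
      rintro x ⟨hx1, hx2⟩
      rw [Submodule.mem_bot]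
      apply hD x hx1
      intro v hv
      exact eq_zero_of_symm h (horth v hv x hx2)
    have h3 := Submodule.finrank_sup_add_finrank_inf_eq D W
    rw [h2, finrank_bot, add_zero] at h3
    exact h3

/-- blocks of dimension 1 or 2 give invariant nondegenerate subspaces of every dimension `m`
with `Odd k ∨ Even m` -/
theorem gen [FiniteDimensional F V] [Finite F] (hσ : orderOf σ = 2) (h : IsHerm σ H)
    (S : V →ₗ[F] V) (hSS : ∀ v, S (S v) = v) (c : F) (hS : ∀ u v, H (S u) (S v) = c * H u v)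
    (hblock : ∀ U : Submodule F V, U ≠ ⊥ → ND H U → InvS S U →
      ∃ D : Submodule F V, D ≤ U ∧ ND H D ∧ InvS S D ∧ (finrank F D = 1 ∨ finrank F D = 2)) :
    ∀ (k : ℕ) (U : Submodule F V), finrank F U = k → ND H U → InvS S U →
      ∀ m, m ≤ k → (Odd k ∨ Even m) →
      ∃ W : Submodule F V, W ≤ U ∧ ND H W ∧ InvS S W ∧ finrank F W = m := by
  intro k
  induction k using Nat.strong_induction_on with
  | _ k ih =>
    intro U hk hU hUi m hm hpar
    rcases Nat.eq_zero_or_pos m with rfl | hm0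
    · exact ⟨⊥, bot_le, nd_bot, invS_bot S, finrank_bot F V⟩
    have hU0 : U ≠ ⊥ := by
      rintro rfl
      rw [finrank_bot] at hk
      omega
    obtain ⟨D, hDU, hD, hDi, hdim⟩ := hblock U hU0 hU hUi
    obtain ⟨U', hU'U, hU', hU'i, hfr, horth, -, -⟩ := split hσ h S hSS c hS hDU hU hD hUi hDi
    have hjoin : ∀ W' : Submodule F V, W' ≤ U' → ND H W' → InvS S W' →
        finrank F D + finrank F W' = m →
        ∃ W : Submodule F V, W ≤ U ∧ ND H W ∧ InvS S W ∧ finrank F W = m := by
      intro W' hW'U hW' hW'i hfr'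
      obtain ⟨j1, j2, j3⟩ := join h S hD hW' hDi hW'i (fun d hd w hw => horth d hd w (hW'U hw))
      exact ⟨D ⊔ W', sup_le hDU (hW'U.trans hU'U), j1, j2, by rw [j3, hfr']⟩
    have hsub : ∀ W' : Submodule F V, W' ≤ U' → ND H W' → InvS S W' → finrank F W' = m →
        ∃ W : Submodule F V, W ≤ U ∧ ND H W ∧ InvS S W ∧ finrank F W = m := by
      intro W' hW'U hW' hW'i hfr'
      exact ⟨W', hW'U.trans hU'U, hW', hW'i, hfr'⟩
    have hpar' : k % 2 = 1 ∨ m % 2 = 0 := by
      rcases hpar with h | h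
      · exact Or.inl (Nat.odd_iff.1 h)
      · exact Or.inr (Nat.even_iff.1 h)
    have mkpar : ∀ k' m' : ℕ, (k' % 2 = 1 ∨ m' % 2 = 0) → (Odd k' ∨ Even m') := by
      intro k' m' h
      rcases h with h | h
      · exact Or.inl (Nat.odd_iff.2 h)
      · exact Or.inr (Nat.even_iff.2 h)
    rcases hdim with h1 | h2
    · have hk' : finrank F U' = k - 1 := by omega
      by_cases hmk : m ≤ k - 1 ∧ ((k - 1) % 2 = 1 ∨ m % 2 = 0)
      · obtain ⟨W', hW'U, hW', hW'i, hfr'⟩ :=
          ih (k - 1) (by omega) U' hk' hU' hU'i m hmk.1 (mkpar _ _ hmk.2)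
        exact hsub W' hW'U hW' hW'i hfr'
      · obtain ⟨W', hW'U, hW', hW'i, hfr'⟩ :=
          ih (k - 1) (by omega) U' hk' hU' hU'i (m - 1) (by omega) (mkpar _ _ (by omega))
        exact hjoin W' hW'U hW' hW'i (by omega)
    · have hk' : finrank F U' = k - 2 := by omega
      by_cases hm2 : 2 ≤ m
      · obtain ⟨W', hW'U, hW', hW'i, hfr'⟩ :=
          ih (k - 2) (by omega) U' hk' hU' hU'i (m - 2) (by omega) (mkpar _ _ (by omega))
        exact hjoin W' hW'U hW' hW'i (by omega)
      · obtain ⟨W', hW'U, hW', hW'i, hfr'⟩ :=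
          ih (k - 2) (by omega) U' hk' hU' hU'i m (by omega) (mkpar _ _ (by omega))
        exact hsub W' hW'U hW' hW'i hfr'

/-- blocks of dimension 1 give invariant nondegenerate subspaces of every dimension -/
theorem gen1 [FiniteDimensional F V] [Finite F] (hσ : orderOf σ = 2) (h : IsHerm σ H)
    (S : V →ₗ[F] V) (hSS : ∀ v, S (S v) = v) (c : F) (hS : ∀ u v, H (S u) (S v) = c * H u v)
    (hblock : ∀ U : Submodule F V, U ≠ ⊥ → ND H U → InvS S U →
      ∃ D : Submodule F V, D ≤ U ∧ ND H D ∧ InvS S D ∧ finrank F D = 1) :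
    ∀ (k : ℕ) (U : Submodule F V), finrank F U = k → ND H U → InvS S U →
      ∀ m, m ≤ k →
      ∃ W : Submodule F V, W ≤ U ∧ ND H W ∧ InvS S W ∧ finrank F W = m := by
  intro k
  induction k with
  | zero =>
    intro U _ _ _ m hm
    have : m = 0 := by omega
    subst this
    exact ⟨⊥, bot_le, nd_bot, invS_bot S, finrank_bot F V⟩
  | succ k ih =>
    intro U hk hU hUi m hm
    rcases Nat.eq_zero_or_pos m with rfl | hm0
    · exact ⟨⊥, bot_le, nd_bot, invS_bot S, finrank_bot F V⟩
    have hU0 : U ≠ ⊥ := by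
      rintro rfl
      rw [finrank_bot] at hk
      omega
    obtain ⟨D, hDU, hD, hDi, hdim⟩ := hblock U hU0 hU hUi
    obtain ⟨U', hU'U, hU', hU'i, hfr, horth, -, -⟩ := split hσ h S hSS c hS hDU hU hD hUi hDi
    obtain ⟨W', hW'U, hW', hW'i, hfr'⟩ := ih U' (by omega) hU' hU'i (m - 1) (by omega)
    obtain ⟨j1, j2, j3⟩ := join h S hD hW' hDi hW'i (fun d hd w hw => horth d hd w (hW'U hw))
    exact ⟨D ⊔ W', sup_le hDU (hW'U.trans hU'U), j1, j2, by rw [j3, hfr', hdim]; omega⟩

theorem sigma_ne_one (hσ : orderOf σ = 2) : σ ≠ 1 := by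
  rintro rfl
  rw [orderOf_one] at hσ
  omega

/-- a one-dimensional block -/
theorem block_one (h : IsHerm σ H) (S : V →ₗ[F] V) {e : V} {ε : F} (hSe : S e = ε • e)
    (hee : H e e ≠ 0) :
    ND H (Submodule.span F {e}) ∧ InvS S (Submodule.span F {e}) ∧
      finrank F (Submodule.span F {e}) = 1 := by
  have he0 : e ≠ 0 := by
    rintro rfl
    exact hee (h.zero_left 0)
  refine ⟨?_, ?_, finrank_span_singleton he0⟩
  · intro u hu hu'
    obtain ⟨a, rfl⟩ := Submodule.mem_span_singleton.1 hu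
    have h1 := hu' e (Submodule.mem_span_singleton_self e)
    rw [h.smul_left] at h1
    have ha : a = 0 := (mul_eq_zero.1 h1).resolve_right hee
    rw [ha, zero_smul]
  · intro u hu
    obtain ⟨a, rfl⟩ := Submodule.mem_span_singleton.1 hu
    rw [map_smul, hSe]
    exact Submodule.smul_mem _ _ (Submodule.smul_mem _ _ (Submodule.mem_span_singleton_self e))

/-- a two-dimensional block -/
theorem block_two (h : IsHerm σ H) (S : V →ₗ[F] V) {e f : V} (hff : H f f = 0)
    (hef : H e f ≠ 0)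
    (hSe : S e ∈ Submodule.span F {e, f}) (hSf : S f ∈ Submodule.span F {e, f}) :
    ND H (Submodule.span F {e, f}) ∧ InvS S (Submodule.span F {e, f}) ∧
      finrank F (Submodule.span F {e, f}) = 2 := by
  have hfe : H f e ≠ 0 := by
    intro h0
    exact hef (eq_zero_of_symm h h0)
  refine ⟨?_, ?_, ?_⟩
  · intro u hu hu'
    obtain ⟨a, b, rfl⟩ := Submodule.mem_span_pair.1 hu
    have h1 := hu' f (Submodule.subset_span (by simp))
    rw [h.add_left, h.smul_left, h.smul_left, hff, mul_zero, add_zero] at h1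
    have ha : a = 0 := (mul_eq_zero.1 h1).resolve_right hef
    have h2 := hu' e (Submodule.subset_span (by simp))
    rw [ha, zero_smul, zero_add, h.smul_left] at h2
    have hb : b = 0 := (mul_eq_zero.1 h2).resolve_right hfe
    rw [ha, hb, zero_smul, zero_smul, add_zero]
  · intro u hu
    obtain ⟨a, b, rfl⟩ := Submodule.mem_span_pair.1 hu
    rw [map_add, map_smul, map_smul]
    exact Submodule.add_mem _ (Submodule.smul_mem _ _ hSe) (Submodule.smul_mem _ _ hSf)
  · have hli : LinearIndependent F ![e, f] := by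
      rw [LinearIndependent.pair_iff]
      intro s t hst
      have h1 : H (s • e + t • f) f = 0 := by rw [hst]; exact h.zero_left f
      rw [h.add_left, h.smul_left, h.smul_left, hff, mul_zero, add_zero] at h1
      have hs : s = 0 := (mul_eq_zero.1 h1).resolve_right hef
      have h2 : H (s • e + t • f) e = 0 := by rw [hst]; exact h.zero_left e
      rw [hs, zero_smul, zero_add, h.smul_left] at h2
      exact ⟨hs, (mul_eq_zero.1 h2).resolve_right hfe⟩
    have h3 := finrank_span_eq_card hli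
    rw [Fintype.card_fin] at h3
    have h4 : Set.range ![e, f] = {e, f} := by
      ext x
      simp only [Set.mem_range, Set.mem_insert_iff, Set.mem_singleton_iff]
      constructor
      · rintro ⟨i, rfl⟩
        fin_cases i
        · left; rfl
        · right; rfl
      · rintro (rfl | rfl)
        · exact ⟨0, rfl⟩
        · exact ⟨1, rfl⟩
    rw [h4] at h3
    exact h3

/-- two eigenvectors for the same eigenvalue with nonzero product give a one-dimensional block -/
theorem block_of_eigen [Finite F] (hσ : orderOf σ = 2) (h : IsHerm σ H) (S : V →ₗ[F] V)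
    {U : Submodule F V} (ε : F) {a b : V} (ha : a ∈ U) (hb : b ∈ U) (hSa : S a = ε • a)
    (hSb : S b = ε • b) (hab : H a b ≠ 0) :
    ∃ D : Submodule F V, D ≤ U ∧ ND H D ∧ InvS S D ∧ finrank F D = 1 := by
  set A : Submodule F V := U ⊓ LinearMap.ker (S - ε • LinearMap.id) with hA
  have hmem : ∀ x, x ∈ A ↔ x ∈ U ∧ S x = ε • x := by
    intro x
    rw [hA, Submodule.mem_inf, LinearMap.mem_ker, LinearMap.sub_apply, LinearMap.smul_apply,
      LinearMap.id_apply, sub_eq_zero]
  have haA : a ∈ A := (hmem a).2 ⟨ha, hSa⟩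
  have hbA : b ∈ A := (hmem b).2 ⟨hb, hSb⟩
  obtain ⟨u, hu⟩ := exists_norm_ne_zero (sigma_ne_one hσ) (isHerm_restrict h A)
    (v := ⟨a, haA⟩) (w := ⟨b, hbA⟩) hab
  have hu2 := (hmem u).1 u.2
  obtain ⟨j1, j2, j3⟩ := block_one h S hu2.2 hu
  refine ⟨Submodule.span F {(u : V)}, ?_, j1, j2, j3⟩
  rw [Submodule.span_singleton_le_iff_mem]
  exact hu2.1

/-- eigenvectors for the same eigenvalue `ε` with `ε σ(ε) = 1` are orthogonal when `c = -1` -/
theorem iso_of_neg (h2 : (2 : F) ≠ 0) (h : IsHerm σ H) (S : V →ₗ[F] V)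
    (hS : ∀ u v, H (S u) (S v) = -1 * H u v) (ε : F) (hε : ε * σ ε = 1) {a b : V}
    (hSa : S a = ε • a) (hSb : S b = ε • b) : H a b = 0 := by
  have h1 := hS a b
  rw [hSa, hSb, h.smul_left, h.smul_right, ← mul_assoc, hε, one_mul] at h1
  have h3 : (2 : F) * H a b = 0 := by linear_combination h1
  exact (mul_eq_zero.1 h3).resolve_left h2

/-- eigenvectors for the eigenvalues `ε` and `-ε` are orthogonal when `c = 1` -/
theorem orth_of_pos (h2 : (2 : F) ≠ 0) (h : IsHerm σ H) (S : V →ₗ[F] V)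
    (hS : ∀ u v, H (S u) (S v) = 1 * H u v) (ε : F) (hε : ε * σ ε = 1) {a b : V}
    (hSa : S a = ε • a) (hSb : S b = (-ε) • b) : H a b = 0 := by
  have h1 := hS a b
  rw [hSa, hSb, h.smul_left, h.smul_right, map_neg, ← mul_assoc, mul_neg, hε] at h1
  have h3 : (2 : F) * H a b = 0 := by linear_combination -h1
  exact (mul_eq_zero.1 h3).resolve_left h2

/-- contrapositive form of nondegeneracy -/
theorem nd_exists {U : Submodule F V} (hU : ND H U) {u : V} (hu : u ∈ U) (hu0 : u ≠ 0) :
    ∃ v ∈ U, H u v ≠ 0 := by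
  by_contra hcon
  push Not at hcon
  exact hu0 (hU u hu hcon)

/-- block existence, `c = 1`, characteristic not 2 -/
theorem blk_pos [Finite F] (h2 : (2 : F) ≠ 0) (hσ : orderOf σ = 2) (h : IsHerm σ H)
    (S : V →ₗ[F] V) (hSS : ∀ v, S (S v) = v) (hS : ∀ u v, H (S u) (S v) = 1 * H u v)
    (U : Submodule F V) (hU0 : U ≠ ⊥) (hU : ND H U) (hUi : InvS S U) :
    ∃ D : Submodule F V, D ≤ U ∧ ND H D ∧ InvS S D ∧ finrank F D = 1 := by
  obtain ⟨u, hu, hu0⟩ := Submodule.exists_mem_ne_zero_of_ne_bot hU0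
  obtain ⟨v, hv, huv⟩ := nd_exists hU hu hu0
  have hσ1 : σ (1 : F) = 1 := map_one σ
  have hσ2 : σ (2 : F) = 2 := map_ofNat σ 2
  have e1 : ∀ x : V, S (x + S x) = (1 : F) • (x + S x) := by
    intro x; rw [map_add, hSS, one_smul, add_comm]
  have e2 : ∀ x : V, S (x - S x) = (-1 : F) • (x - S x) := by
    intro x; rw [map_sub, hSS, neg_one_smul, neg_sub]
  have m1 : ∀ x ∈ U, x + S x ∈ U := fun x hx => U.add_mem hx (hUi x hx)
  have m2 : ∀ x ∈ U, x - S x ∈ U := fun x hx => U.sub_mem hx (hUi x hx)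
  have c1 : H (u + S u) (v - S v) = 0 :=
    orth_of_pos h2 h S hS 1 (by rw [hσ1, one_mul]) (e1 u) (e2 v)
  have c2 : H (u - S u) (v + S v) = 0 := by
    apply eq_zero_of_symm h
    exact orth_of_pos h2 h S hS 1 (by rw [hσ1, one_mul]) (e1 v) (e2 u)
  have hsum : H (u + S u) (v + S v) + H (u - S u) (v - S v) = 2 * 2 * H u v := by
    have t1 : H ((u + S u) + (u - S u)) ((v + S v) + (v - S v)) =
        H (u + S u) (v + S v) + H (u - S u) (v - S v) := by
      rw [h.add_left, h.add_right (u + S u) (v + S v) (v - S v),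
        h.add_right (u - S u) (v + S v) (v - S v), c1, c2]
      ring
    have t2 : (u + S u) + (u - S u) = (2 : F) • u := by rw [two_smul]; abel
    have t3 : (v + S v) + (v - S v) = (2 : F) • v := by rw [two_smul]; abel
    rw [t2, t3, h.smul_left, h.smul_right, hσ2] at t1
    rw [← t1]; ring
  by_cases hp : H (u + S u) (v + S v) = 0
  · have hm : H (u - S u) (v - S v) ≠ 0 := by
      intro h0
      rw [hp, h0, add_zero] at hsum
      have : (2 : F) * 2 * H u v ≠ 0 := mul_ne_zero (mul_ne_zero h2 h2) huv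
      exact this hsum.symm
    exact block_of_eigen hσ h S (-1) (m2 u hu) (m2 v hv) (e2 u) (e2 v) hm
  · exact block_of_eigen hσ h S 1 (m1 u hu) (m1 v hv) (e1 u) (e1 v) hp

/-- block existence, `c = -1`, characteristic not 2 -/
theorem blk_neg (h2 : (2 : F) ≠ 0) (h : IsHerm σ H)
    (S : V →ₗ[F] V) (hSS : ∀ v, S (S v) = v) (hS : ∀ u v, H (S u) (S v) = -1 * H u v)
    (U : Submodule F V) (hU0 : U ≠ ⊥) (hU : ND H U) (hUi : InvS S U) :
    ∃ D : Submodule F V, D ≤ U ∧ ND H D ∧ InvS S D ∧ finrank F D = 2 := by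
  have hσ2 : σ (2 : F) = 2 := map_ofNat σ 2
  -- the construction from an eigenvector
  have key : ∀ ε : F, ε * ε = 1 → σ ε = ε → ∀ e ∈ U, e ≠ 0 → S e = ε • e →
      ∃ D : Submodule F V, D ≤ U ∧ ND H D ∧ InvS S D ∧ finrank F D = 2 := by
    intro ε hεε hσε e he he0 hSe
    obtain ⟨v, hv, hev⟩ := nd_exists hU he he0
    have hε1 : ε * σ ε = 1 := by rw [hσε, hεε]
    have hε2 : (-ε) * σ (-ε) = 1 := by rw [map_neg, hσε]; linear_combination hεε
    have hSg : S (v + ε • S v) = ε • (v + ε • S v) := by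
      rw [map_add, map_smul, hSS, smul_add, smul_smul, hεε, one_smul, add_comm]
    have hSf : S (v - ε • S v) = (-ε) • (v - ε • S v) := by
      rw [map_sub, map_smul, hSS, smul_sub, smul_smul, neg_mul, hεε, neg_smul, neg_smul,
        one_smul]
      abel
    have hg : H e (v + ε • S v) = 0 := iso_of_neg h2 h S hS ε hε1 hSe hSg
    have hff : H (v - ε • S v) (v - ε • S v) = 0 := iso_of_neg h2 h S hS (-ε) hε2 hSf hSf
    have hef : H e (v - ε • S v) ≠ 0 := by
      have t1 : H e ((v + ε • S v) + (v - ε • S v)) = H e (v - ε • S v) := by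
        rw [h.add_right, hg, zero_add]
      have t2 : (v + ε • S v) + (v - ε • S v) = (2 : F) • v := by rw [two_smul]; abel
      rw [t2, h.smul_right, hσ2] at t1
      rw [← t1]
      exact mul_ne_zero h2 hev
    have hfU : v - ε • S v ∈ U := U.sub_mem hv (U.smul_mem _ (hUi v hv))
    obtain ⟨j1, j2, j3⟩ := block_two h S hff hef
      (by rw [hSe]; exact Submodule.smul_mem _ _ (Submodule.subset_span (by simp)))
      (by rw [hSf]; exact Submodule.smul_mem _ _ (Submodule.subset_span (by simp)))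
    refine ⟨_, ?_, j1, j2, j3⟩
    rw [Submodule.span_le]
    intro x hx
    rcases hx with rfl | rfl
    · exact he
    · exact hfU
  obtain ⟨u, hu, hu0⟩ := Submodule.exists_mem_ne_zero_of_ne_bot hU0
  by_cases hp : u + S u = 0
  · have hm : u - S u ≠ 0 := by
      intro h0
      have : (2 : F) • u = 0 := by
        rw [two_smul]
        calc u + u = (u + S u) + (u - S u) := by abel
          _ = 0 := by rw [hp, h0, add_zero]
      rcases smul_eq_zero.1 this with h' | h'
      · exact h2 h'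
      · exact hu0 h'
    refine key (-1) (by ring) (by rw [map_neg, map_one]) (u - S u)
      (U.sub_mem hu (hUi u hu)) hm ?_
    rw [map_sub, hSS, neg_one_smul, neg_sub]
  · refine key 1 (by ring) (map_one σ) (u + S u) (U.add_mem hu (hUi u hu)) hp ?_
    rw [map_add, hSS, one_smul, add_comm]

/-- block existence in characteristic 2 (`c = 1`) -/
theorem blk_two [Finite F] (h2 : (2 : F) = 0) (hσ : orderOf σ = 2) (h : IsHerm σ H)
    (S : V →ₗ[F] V) (hSS : ∀ v, S (S v) = v) (hS : ∀ u v, H (S u) (S v) = 1 * H u v)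
    (U : Submodule F V) (hU0 : U ≠ ⊥) (hU : ND H U) (hUi : InvS S U) :
    ∃ D : Submodule F V, D ≤ U ∧ ND H D ∧ InvS S D ∧ (finrank F D = 1 ∨ finrank F D = 2) := by
  have hneg : ∀ x : V, -x = x := by
    intro x
    have : (2 : F) • x = 0 := by rw [h2, zero_smul]
    rw [two_smul] at this
    exact neg_eq_of_add_eq_zero_left this
  have hadj : ∀ u v : V, H (S u - u) v = H u (S v - v) := by
    intro u v
    have h1 := hS u (S v)
    rw [hSS, one_mul] at h1
    rw [h.sub_left, h.sub_right, h1]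
  have hNN : ∀ v : V, S (S v - v) - (S v - v) = 0 := by
    intro v
    rw [map_sub, hSS]
    have := hneg (S v - v)
    rw [neg_sub] at this
    rw [this, sub_self]
  by_cases hcase : ∃ v ∈ U, H v (S v - v) ≠ 0
  · obtain ⟨v, hv, hvN⟩ := hcase
    have hff : H (S v - v) (S v - v) = 0 := by
      rw [hadj, hNN]
      exact h.zero_right _
    have hSf : S (S v - v) = S v - v := sub_eq_zero.1 (hNN v)
    obtain ⟨j1, j2, j3⟩ := block_two h S hff hvN
      (by
        have : S v = v + (S v - v) := by abel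
        rw [this]
        exact Submodule.add_mem _ (Submodule.subset_span (by simp))
          (Submodule.subset_span (by simp)))
      (by rw [hSf]; exact Submodule.subset_span (by simp))
    refine ⟨_, ?_, j1, j2, Or.inr j3⟩
    rw [Submodule.span_le]
    intro x hx
    rcases hx with rfl | rfl
    · exact hv
    · exact U.sub_mem (hUi _ hv) hv
  · push Not at hcase
    -- polarisation
    have hpol : ∀ u ∈ U, ∀ v ∈ U, H u (S v - v) + σ (H u (S v - v)) = 0 := by
      intro u hu v hv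
      have t := hcase (u + v) (U.add_mem hu hv)
      have e : S (u + v) - (u + v) = (S u - u) + (S v - v) := by rw [map_add]; abel
      rw [e, h.add_left, h.add_right u, h.add_right v, hcase u hu, hcase v hv, zero_add,
        add_zero] at t
      rw [← hadj v u, h.symm u (S v - v)] at t
      exact t
    obtain ⟨t₀, ht₀⟩ : ∃ t : F, σ t ≠ t := by
      by_contra hcon
      push Not at hcon
      exact sigma_ne_one hσ (RingEquiv.ext hcon)
    have hzero : ∀ u ∈ U, ∀ v ∈ U, H u (S v - v) = 0 := by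
      intro u hu v hv
      have a1 := hpol u hu v hv
      have a2 := hpol (t₀ • u) (U.smul_mem _ hu) v hv
      rw [h.smul_left, map_mul] at a2
      have a3 : (t₀ - σ t₀) * H u (S v - v) = 0 := by linear_combination a2 - σ t₀ * a1
      rcases mul_eq_zero.1 a3 with h' | h'
      · exact absurd (sub_eq_zero.1 h').symm ht₀
      · exact h'
    have hfix : ∀ v ∈ U, S v = v := by
      intro v hv
      have hNU : S v - v ∈ U := U.sub_mem (hUi v hv) hv
      have := hU (S v - v) hNU (fun y hy => eq_zero_of_symm h (hzero y hy v hv))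
      exact sub_eq_zero.1 this
    obtain ⟨u, hu, hu0⟩ := Submodule.exists_mem_ne_zero_of_ne_bot hU0
    obtain ⟨v, hv, huv⟩ := nd_exists hU hu hu0
    obtain ⟨D, d1, d2, d3, d4⟩ := block_of_eigen hσ h S 1 hu hv
      (by rw [one_smul]; exact hfix u hu) (by rw [one_smul]; exact hfix v hv) huv
    exact ⟨D, d1, d2, d3, Or.inl d4⟩

theorem nd_of_frozen {W : Submodule F V} (hW : ∀ u ∈ W, u ≠ 0 → ∃ v ∈ W, H u v ≠ 0) :
    ND H W := by
  intro u hu hu'
  by_contra hu0
  obtain ⟨v, hv, huv⟩ := hW u hu hu0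
  exact huv (hu' v hv)

theorem invS_iff_map_le (T : V →ₗ[F] V) (W : Submodule F V) : InvS T W ↔ W.map T ≤ W := by
  rw [Submodule.map_le_iff_le_comap]
  exact Iff.rfl

/-- the scaled involution `S = w⁻¹ T` -/
theorem scaled (h : IsHerm σ H) (T : V →ₗ[F] V) (hT : ∀ u v, H (T u) (T v) = H u v)
    (w : F) (hw : w ≠ 0) (hT2 : ∀ v, T (T v) = (w * w) • v) :
    (∀ v, (w⁻¹ • T) ((w⁻¹ • T) v) = v) ∧
    (∀ u v, H ((w⁻¹ • T) u) ((w⁻¹ • T) v) = (w * σ w)⁻¹ * H u v) ∧
    (∀ W : Submodule F V, InvS (w⁻¹ • T) W ↔ InvS T W) := by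
  refine ⟨?_, ?_, ?_⟩
  · intro v
    rw [LinearMap.smul_apply, LinearMap.smul_apply, map_smul, hT2, smul_smul, smul_smul]
    have : w⁻¹ * w⁻¹ * (w * w) = 1 := by field_simp
    rw [this, one_smul]
  · intro u v
    rw [LinearMap.smul_apply, LinearMap.smul_apply, h.smul_left, h.smul_right, hT, map_inv₀,
      mul_inv, mul_assoc]
  · intro W
    constructor
    · intro hW x hx
      have := W.smul_mem w (hW x hx)
      rwa [LinearMap.smul_apply, smul_smul, mul_inv_cancel₀ hw, one_smul] at this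
    · intro hW x hx
      rw [LinearMap.smul_apply]
      exact W.smul_mem _ (hW x hx)

/-- `w σ(w) = ± 1` -/
theorem norm_sq [FiniteDimensional F V] (h : IsHerm σ H)
    (hnd : ∀ v, (∀ w, H v w = 0) → v = 0) (T : V →ₗ[F] V) (hT : ∀ u v, H (T u) (T v) = H u v)
    (w : F) (hT2 : ∀ v, T (T v) = (w * w) • v) (hpos : 0 < finrank F V) :
    w ≠ 0 ∧ (w * σ w = 1 ∨ w * σ w = -1) := by
  obtain ⟨u, hu0⟩ := Module.finrank_pos_iff_exists_ne_zero.1 hpos
  obtain ⟨v, huv⟩ : ∃ v, H u v ≠ 0 := by
    by_contra hcon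
    push Not at hcon
    exact hu0 (hnd u hcon)
  have h1 : H (T (T u)) (T (T v)) = H u v := by rw [hT, hT]
  rw [hT2, hT2, h.smul_left, h.smul_right, map_mul] at h1
  have h3 : (w * σ w) * (w * σ w) = 1 := by
    have : ((w * σ w) * (w * σ w) - 1) * H u v = 0 := by linear_combination h1
    rcases mul_eq_zero.1 this with h' | h'
    · exact sub_eq_zero.1 h'
    · exact absurd h' huv
  refine ⟨?_, mul_self_eq_one_iff.1 h3⟩
  rintro rfl
  rw [zero_mul, zero_mul] at h3
  exact zero_ne_one h3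

/-- an isometry with `T² = w² • 1` fixes nondegenerate subspaces of every dimension `m` with
`Odd (dim V) ∨ Even m` -/
theorem fixNDH_of_sq [FiniteDimensional F V] [Finite F] (hσ : orderOf σ = 2) (h : IsHerm σ H)
    (hnd : ∀ v, (∀ w, H v w = 0) → v = 0) (T : V →ₗ[F] V) (hT : ∀ u v, H (T u) (T v) = H u v)
    (w : F) (hT2 : ∀ v, T (T v) = (w * w) • v) (m : ℕ) (hm : m ≤ finrank F V)
    (hpar : Odd (finrank F V) ∨ Even m) :
    ∃ W : Submodule F V, finrank F W = m ∧ (∀ u ∈ W, u ≠ 0 → ∃ v ∈ W, H u v ≠ 0) ∧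
      W.map T ≤ W := by
  rcases Nat.eq_zero_or_pos m with rfl | hm0
  · refine ⟨⊥, finrank_bot F V, ?_, by rw [Submodule.map_bot]⟩
    intro u hu hu0
    exact absurd ((Submodule.mem_bot F).1 hu) hu0
  obtain ⟨hw, hc⟩ := norm_sq h hnd T hT w hT2 (by omega)
  obtain ⟨hSS, hS, hinv⟩ := scaled h T hT w hw hT2
  set S := w⁻¹ • T with hSdef
  have hblock : ∀ U : Submodule F V, U ≠ ⊥ → ND H U → InvS S U →
      ∃ D : Submodule F V, D ≤ U ∧ ND H D ∧ InvS S D ∧
        (finrank F D = 1 ∨ finrank F D = 2) := by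
    intro U hU0 hU hUi
    by_cases h2 : (2 : F) = 0
    · have hS1 : ∀ u v, H (S u) (S v) = 1 * H u v := by
        intro u v
        rw [hS]
        rcases hc with hc | hc
        · rw [hc, inv_one]
        · rw [hc]
          have : (-1 : F) = 1 := by linear_combination -h2
          rw [this, inv_one]
      exact blk_two h2 hσ h S hSS hS1 U hU0 hU hUi
    · rcases hc with hc | hc
      · have hS1 : ∀ u v, H (S u) (S v) = 1 * H u v := by
          intro u v
          rw [hS, hc, inv_one]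
        obtain ⟨D, d1, d2, d3, d4⟩ := blk_pos h2 hσ h S hSS hS1 U hU0 hU hUi
        exact ⟨D, d1, d2, d3, Or.inl d4⟩
      · have hS1 : ∀ u v, H (S u) (S v) = -1 * H u v := by
          intro u v
          rw [hS, hc, inv_neg, inv_one]
        obtain ⟨D, d1, d2, d3, d4⟩ := blk_neg h2 h S hSS hS1 U hU0 hU hUi
        exact ⟨D, d1, d2, d3, Or.inr d4⟩
  obtain ⟨W, -, hW, hWi, hWm⟩ := gen hσ h S hSS _ hS hblock (finrank F V) ⊤ (finrank_top F V)
    (nd_top hnd) (fun _ _ => Submodule.mem_top) m hm hpar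
  exact ⟨W, hWm, fun u hu hu0 => nd_exists hW hu hu0,
    (invS_iff_map_le T W).1 ((hinv W).1 hWi)⟩

/-- when `w σ(w) = 1` and the characteristic is not 2 every dimension occurs -/
theorem fixNDH_of_sq_pos [FiniteDimensional F V] [Finite F] (h2 : (2 : F) ≠ 0)
    (hσ : orderOf σ = 2) (h : IsHerm σ H)
    (hnd : ∀ v, (∀ w, H v w = 0) → v = 0) (T : V →ₗ[F] V) (hT : ∀ u v, H (T u) (T v) = H u v)
    (w : F) (hw1 : w * σ w = 1) (hT2 : ∀ v, T (T v) = (w * w) • v) (m : ℕ)
    (hm : m ≤ finrank F V) :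
    ∃ W : Submodule F V, finrank F W = m ∧ (∀ u ∈ W, u ≠ 0 → ∃ v ∈ W, H u v ≠ 0) ∧
      W.map T ≤ W := by
  have hw : w ≠ 0 := by
    rintro rfl
    rw [zero_mul] at hw1
    exact zero_ne_one hw1
  obtain ⟨hSS, hS, hinv⟩ := scaled h T hT w hw hT2
  set S := w⁻¹ • T with hSdef
  have hS1 : ∀ u v, H (S u) (S v) = 1 * H u v := by
    intro u v
    rw [hS, hw1, inv_one]
  obtain ⟨W, -, hW, hWi, hWm⟩ := gen1 hσ h S hSS 1 hS1
    (fun U hU0 hU hUi => blk_pos h2 hσ h S hSS hS1 U hU0 hU hUi) (finrank F V) ⊤ (finrank_top F V)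
    (nd_top hnd) (fun _ _ => Submodule.mem_top) m hm
  exact ⟨W, hWm, fun u hu hu0 => nd_exists hW hu hu0,
    (invS_iff_map_le T W).1 ((hinv W).1 hWi)⟩

/-- eigenspaces of `T` for `w` and `-w` when `w σ(w) = -1`: totally isotropic and complementary -/
theorem eig_of_neg (h2 : (2 : F) ≠ 0) (h : IsHerm σ H) (T : V →ₗ[F] V)
    (hT : ∀ u v, H (T u) (T v) = H u v) (w : F) (hw : w ≠ 0)
    (hT2 : ∀ v, T (T v) = (w * w) • v) (hneg : w * σ w = -1) :
    TS H (LinearMap.ker (T - w • LinearMap.id)) ∧ TS H (LinearMap.ker (T + w • LinearMap.id)) ∧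
      IsCompl (LinearMap.ker (T - w • LinearMap.id)) (LinearMap.ker (T + w • LinearMap.id)) := by
  have mA : ∀ x, x ∈ LinearMap.ker (T - w • LinearMap.id) ↔ T x = w • x := by
    intro x
    rw [LinearMap.mem_ker, LinearMap.sub_apply, LinearMap.smul_apply, LinearMap.id_apply,
      sub_eq_zero]
  have mB : ∀ x, x ∈ LinearMap.ker (T + w • LinearMap.id) ↔ T x = (-w) • x := by
    intro x
    rw [LinearMap.mem_ker, LinearMap.add_apply, LinearMap.smul_apply, LinearMap.id_apply,
      neg_smul, add_eq_zero_iff_eq_neg]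
  refine ⟨?_, ?_, ?_⟩
  · intro u hu v hv
    have h1 := hT u v
    rw [(mA u).1 hu, (mA v).1 hv, h.smul_left, h.smul_right, ← mul_assoc, hneg] at h1
    have h3 : (2 : F) * H u v = 0 := by linear_combination -h1
    exact (mul_eq_zero.1 h3).resolve_left h2
  · intro u hu v hv
    have h1 := hT u v
    rw [(mB u).1 hu, (mB v).1 hv, h.smul_left, h.smul_right, map_neg, ← mul_assoc] at h1
    have h3 : (2 : F) * H u v = 0 := by linear_combination -h1 + hneg * H u v
    exact (mul_eq_zero.1 h3).resolve_left h2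
  · constructor
    · rw [Submodule.disjoint_def]
      intro x hx hx'
      have h1 := (mA x).1 hx
      have h3 := (mB x).1 hx'
      have h4 : ((2 : F) * w) • x = 0 := by
        have : w • x = (-w) • x := by rw [← h1, h3]
        rw [neg_smul] at this
        rw [mul_smul, two_smul]
        nth_rewrite 2 [this]
        exact add_neg_cancel _
      rcases smul_eq_zero.1 h4 with h' | h'
      · exact absurd h' (mul_ne_zero h2 hw)
      · exact h'
    · rw [codisjoint_iff, Submodule.eq_top_iff']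
      intro v
      have hv : v = ((2 : F) * w)⁻¹ • (w • v + T v) + ((2 : F) * w)⁻¹ • (w • v - T v) := by
        rw [← smul_add]
        have : (w • v + T v) + (w • v - T v) = ((2 : F) * w) • v := by
          rw [mul_smul, two_smul]; abel
        rw [this, smul_smul, inv_mul_cancel₀ (mul_ne_zero h2 hw), one_smul]
      rw [hv]
      apply Submodule.add_mem_sup
      · apply Submodule.smul_mem
        rw [mA, map_add, map_smul, hT2, smul_add, mul_smul, add_comm]
      · apply Submodule.smul_mem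
        rw [mB, map_sub, map_smul, hT2, neg_smul, smul_sub, mul_smul, neg_sub]

/-- when `w σ(w) = -1` the dimension is even, `= 2k`, and `det T = (-(w w))^k` -/
theorem det_of_neg [FiniteDimensional F V] [Finite F] (h2 : (2 : F) ≠ 0)
    (hσ : orderOf σ = 2) (h : IsHerm σ H)
    (hnd : ∀ v, (∀ w, H v w = 0) → v = 0) (T : V →ₗ[F] V) (hT : ∀ u v, H (T u) (T v) = H u v)
    (w : F) (hw : w ≠ 0) (hT2 : ∀ v, T (T v) = (w * w) • v) (hneg : w * σ w = -1) :
    ∃ k : ℕ, finrank F V = 2 * k ∧ LinearMap.det T = (-(w * w)) ^ k := by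
  obtain ⟨hA, hB, hc⟩ := eig_of_neg h2 h T hT w hw hT2 hneg
  set A := LinearMap.ker (T - w • LinearMap.id) with hAdef
  set B := LinearMap.ker (T + w • LinearMap.id) with hBdef
  have mA : ∀ x, x ∈ A ↔ T x = w • x := by
    intro x
    rw [hAdef, LinearMap.mem_ker, LinearMap.sub_apply, LinearMap.smul_apply, LinearMap.id_apply,
      sub_eq_zero]
  have mB : ∀ x, x ∈ B ↔ T x = (-w) • x := by
    intro x
    rw [hBdef, LinearMap.mem_ker, LinearMap.add_apply, LinearMap.smul_apply, LinearMap.id_apply,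
      neg_smul, add_eq_zero_iff_eq_neg]
  have d1 := ts_finrank_le hσ h hnd (nd_top hnd) (le_top : A ≤ ⊤) hA
  have d2 := ts_finrank_le hσ h hnd (nd_top hnd) (le_top : B ≤ ⊤) hB
  have d3 := Submodule.finrank_sup_add_finrank_inf_eq A B
  rw [hc.sup_eq_top, hc.inf_eq_bot, finrank_bot, add_zero, finrank_top] at d3
  rw [finrank_top] at d1 d2
  refine ⟨finrank F A, by omega, ?_⟩
  have hAB : finrank F B = finrank F A := by omega
  set e := Submodule.prodEquivOfIsCompl A B hc with he
  have hTe : T = (e : (A × B) →ₗ[F] V) ∘ₗ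
      (LinearMap.prodMap (w • (LinearMap.id : A →ₗ[F] A)) ((-w) • (LinearMap.id : B →ₗ[F] B))) ∘ₗ
      (e.symm : V →ₗ[F] (A × B)) := by
    apply LinearMap.ext
    intro v
    obtain ⟨p, rfl⟩ := e.surjective v
    rw [LinearMap.comp_apply, LinearMap.comp_apply, LinearEquiv.coe_coe, LinearEquiv.coe_coe,
      LinearEquiv.symm_apply_apply, LinearMap.prodMap_apply, he,
      Submodule.coe_prodEquivOfIsCompl', Submodule.coe_prodEquivOfIsCompl', map_add,
      (mA p.1).1 p.1.2, (mB p.2).1 p.2.2]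
    simp
  rw [hTe, LinearMap.det_conj, LinearMap.det_prodMap, LinearMap.det_smul, LinearMap.det_smul]
  simp only [LinearMap.det_id, mul_one]
  rw [hAB, ← mul_pow, mul_neg]

/-- when `w σ(w) = -1` every invariant nondegenerate subspace has even dimension -/
theorem even_of_neg [FiniteDimensional F V] [Finite F] (h2 : (2 : F) ≠ 0)
    (hσ : orderOf σ = 2) (h : IsHerm σ H)
    (hnd : ∀ v, (∀ w, H v w = 0) → v = 0) (T : V →ₗ[F] V) (hT : ∀ u v, H (T u) (T v) = H u v)
    (w : F) (hw : w ≠ 0) (hT2 : ∀ v, T (T v) = (w * w) • v) (hneg : w * σ w = -1)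
    {W : Submodule F V} (hW : ND H W) (hWi : InvS T W) : Even (finrank F W) := by
  obtain ⟨hA, hB, hc⟩ := eig_of_neg h2 h T hT w hw hT2 hneg
  set A := LinearMap.ker (T - w • LinearMap.id) with hAdef
  set B := LinearMap.ker (T + w • LinearMap.id) with hBdef
  have mA : ∀ x, x ∈ A ↔ T x = w • x := by
    intro x
    rw [hAdef, LinearMap.mem_ker, LinearMap.sub_apply, LinearMap.smul_apply, LinearMap.id_apply,
      sub_eq_zero]
  have mB : ∀ x, x ∈ B ↔ T x = (-w) • x := by
    intro x
    rw [hBdef, LinearMap.mem_ker, LinearMap.add_apply, LinearMap.smul_apply, LinearMap.id_apply,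
      neg_smul, add_eq_zero_iff_eq_neg]
  have d1 := ts_finrank_le hσ h hnd hW (inf_le_left : W ⊓ A ≤ W)
    (fun u hu v hv => hA u hu.2 v hv.2)
  have d2 := ts_finrank_le hσ h hnd hW (inf_le_left : W ⊓ B ≤ W)
    (fun u hu v hv => hB u hu.2 v hv.2)
  have hsup : (W ⊓ A) ⊔ (W ⊓ B) = W := by
    apply le_antisymm (sup_le inf_le_left inf_le_left)
    intro v hv
    have hv' : v = ((2 : F) * w)⁻¹ • (w • v + T v) + ((2 : F) * w)⁻¹ • (w • v - T v) := by
      rw [← smul_add]
      have : (w • v + T v) + (w • v - T v) = ((2 : F) * w) • v := by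
        rw [mul_smul, two_smul]; abel
      rw [this, smul_smul, inv_mul_cancel₀ (mul_ne_zero h2 hw), one_smul]
    rw [hv']
    apply Submodule.add_mem_sup
    · apply Submodule.smul_mem
      refine ⟨W.add_mem (W.smul_mem _ hv) (hWi v hv), ?_⟩
      apply (mA _).2
      rw [map_add, map_smul, hT2, smul_add, mul_smul, add_comm]
    · apply Submodule.smul_mem
      refine ⟨W.sub_mem (W.smul_mem _ hv) (hWi v hv), ?_⟩
      apply (mB _).2
      rw [map_sub, map_smul, hT2, neg_smul, smul_sub, mul_smul, neg_sub]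
  have hinf : (W ⊓ A) ⊓ (W ⊓ B) = ⊥ := by
    rw [eq_bot_iff, ← hc.inf_eq_bot]
    exact inf_le_inf inf_le_right inf_le_right
  have d3 := Submodule.finrank_sup_add_finrank_inf_eq (W ⊓ A) (W ⊓ B)
  rw [hsup, hinf, finrank_bot, add_zero] at d3
  exact ⟨finrank F ↥(W ⊓ A), by omega⟩

/-- characteristic 2: if the fixed vectors of the involution `S` all lie in the range of `S - 1`
then every invariant subspace with an invariant complement has even dimension -/
theorem even_of_fix_le_range [FiniteDimensional F V] (h2 : (2 : F) = 0) (S : V →ₗ[F] V)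
    (hSS : ∀ v, S (S v) = v) (hkr : ∀ v, S v = v → ∃ u, v = S u - u)
    {W W' : Submodule F V} (hWi : InvS S W) (hW'i : InvS S W') (hc : IsCompl W W') :
    Even (finrank F W) := by
  have hneg : ∀ x : V, -x = x := by
    intro x
    have : (2 : F) • x = 0 := by rw [h2, zero_smul]
    rw [two_smul] at this
    exact neg_eq_of_add_eq_zero_left this
  have hNW : ∀ x ∈ W, (S - (LinearMap.id : V →ₗ[F] V)) x ∈ W := by
    intro x hx
    rw [LinearMap.sub_apply, LinearMap.id_apply]
    exact W.sub_mem (hWi x hx) hx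
  set N : W →ₗ[F] W := (S - (LinearMap.id : V →ₗ[F] V)).restrict hNW with hN
  have hNapp : ∀ x : W, ((N x : W) : V) = S x - x := by
    intro x
    rw [hN, LinearMap.coe_restrict_apply, LinearMap.sub_apply, LinearMap.id_apply]
  have hker : LinearMap.ker N = LinearMap.range N := by
    apply le_antisymm
    · intro x hx
      rw [LinearMap.mem_ker] at hx
      have hx' : S (x : V) = x := by
        have := congrArg (fun y : W => (y : V)) hx
        simp only [hNapp, ZeroMemClass.coe_zero] at this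
        exact sub_eq_zero.1 this
      obtain ⟨u, hu⟩ := hkr x hx'
      have hu' : u ∈ W ⊔ W' := by rw [hc.sup_eq_top]; trivial
      obtain ⟨u₁, hu₁, u₂, hu₂, rfl⟩ := Submodule.mem_sup.1 hu'
      have h0 : S u₂ - u₂ ∈ W ⊓ W' := by
        refine ⟨?_, W'.sub_mem (hW'i u₂ hu₂) hu₂⟩
        have : S u₂ - u₂ = (x : V) - (S u₁ - u₁) := by rw [hu, map_add]; abel
        rw [this]
        exact W.sub_mem x.2 (W.sub_mem (hWi u₁ hu₁) hu₁)
      rw [hc.inf_eq_bot, Submodule.mem_bot] at h0
      rw [LinearMap.mem_range]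
      refine ⟨⟨u₁, hu₁⟩, ?_⟩
      apply Subtype.ext
      rw [hNapp, hu, map_add]
      have : S u₁ + S u₂ - (u₁ + u₂) = (S u₁ - u₁) + (S u₂ - u₂) := by abel
      rw [this, h0, add_zero]
    · rintro x ⟨y, rfl⟩
      rw [LinearMap.mem_ker]
      apply Subtype.ext
      rw [hNapp, hNapp, ZeroMemClass.coe_zero, map_sub, hSS]
      have := hneg (S (y : V) - y)
      rw [neg_sub] at this
      rw [this, sub_self]
  have d := LinearMap.finrank_range_add_finrank_ker N
  rw [hker] at d
  exact ⟨finrank F (LinearMap.range N), d.symm⟩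

end Cfsg.Agent.Lib.Helper9.NDU2
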