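import Mathlib
import Cfsg.Agent.Lib.Helper9.NDU2_A

/-!
# S5954, `r = 2`: the positive directions in the frozen shape
-/

set_option autoImplicit false

namespace Cfsg.Agent.Lib.Helper9.NDU2

open Module Cfsg.Agent.Lib.Helper2 Cfsg.Agent.Lib.Helper2.HermDecomp
  Cfsg.Agent.Lib.Helper2.HermFrames Cfsg.Agent.Lib.Helper5.PSLCoset Cfsg.Agent.Lib.Helper9.UPol

section abstract

variable {F : Type*} [Field F] {σ : F ≃+* F} {V : Type*} [AddCommGroup V] [Module F V]
  {H : V → V → F}

/-- the scalar `z` of an isometry with `T² = z • 1` has norm one -/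
theorem norm_z [FiniteDimensional F V] (h : IsHerm σ H)
    (hnd : ∀ v, (∀ w, H v w = 0) → v = 0) (T : V →ₗ[F] V) (hT : ∀ u v, H (T u) (T v) = H u v)
    (z : F) (hT2 : ∀ v, T (T v) = z • v) (hpos : 0 < finrank F V) : z * σ z = 1 := by
  obtain ⟨u, hu0⟩ := Module.finrank_pos_iff_exists_ne_zero.1 hpos
  obtain ⟨v, huv⟩ : ∃ v, H u v ≠ 0 := by
    by_contra hcon
    push Not at hcon
    exact hu0 (hnd u hcon)
  have h1 : H (T (T u)) (T (T v)) = H u v := by rw [hT, hT]
  rw [hT2, hT2, h.smul_left, h.smul_right] at h1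
  have : (z * σ z - 1) * H u v = 0 := by linear_combination h1
  rcases mul_eq_zero.1 this with h' | h'
  · exact sub_eq_zero.1 h'
  · exact absurd h' huv

end abstract

section finite

variable {F : Type*} [Field F] [Fintype F] {q : ℕ}

theorem q_odd (hq : Fintype.card F = q ^ 2) (h2 : (2 : F) ≠ 0) : q % 2 = 1 := by
  have hch : ringChar F ≠ 2 := by
    intro h
    apply h2
    have := ringChar.Nat.cast_ringChar (R := F)
    rw [h] at this
    exact_mod_cast this
  have h1 := FiniteField.odd_card_of_char_ne_two hch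
  rw [hq] at h1
  rcases Nat.even_or_odd q with h | h
  · exfalso
    have : Even (q ^ 2) := (Nat.even_pow' (by norm_num)).2 h
    rw [Nat.even_iff] at this
    omega
  · exact Nat.odd_iff.1 h

/-- an element of norm one is a square -/
theorem exists_sqrt_of_norm_one (hq : Fintype.card F = q ^ 2) {σ : F ≃+* F}
    (hσq : ∀ a : F, σ a = a ^ q) (z : F) (hz : z * σ z = 1) : ∃ w : F, z = w * w := by
  by_cases h2 : (2 : F) = 0
  · have hch : ringChar F = 2 :=
      CharP.ringChar_of_prime_eq_zero Nat.prime_two (by exact_mod_cast h2)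
    exact FiniteField.isSquare_of_char_two hch z
  · have hch : ringChar F ≠ 2 := by
      intro h
      apply h2
      have := ringChar.Nat.cast_ringChar (R := F)
      rw [h] at this
      exact_mod_cast this
    have hz0 : z ≠ 0 := by
      rintro rfl
      rw [zero_mul] at hz
      exact zero_ne_one hz
    have hqo := q_odd hq h2
    have hz1 : z ^ (q + 1) = 1 := by
      rw [pow_succ', ← hσq]; exact hz
    have : IsSquare z := by
      rw [FiniteField.isSquare_iff hch hz0, hq]
      have e : q ^ 2 / 2 = (q + 1) * ((q - 1) / 2) := by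
        obtain ⟨t, ht⟩ : ∃ t, q = 2 * t + 1 := ⟨q / 2, by omega⟩
        subst ht
        have e1 : (2 * t + 1) ^ 2 = 2 * ((2 * t + 1 + 1) * t) + 1 := by ring
        have e2 : (2 * t + 1 - 1) / 2 = t := by omega
        rw [e1, e2]
        omega
      rw [e, pow_mul, hz1, one_pow]
    exact this

end finite

section frozen

variable {F : Type*} [Field F] [Fintype F] {p : ℕ} [Fact p.Prime] [CharP F p] {q : ℕ}

omit [Fact p.Prime] [CharP F p] in
/-- `r = 2`, any characteristic: an element of `SU_n(q)` with scalar square fixes a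
nondegenerate `m`-space when `n` is odd or `m` is even -/
theorem su_sq_fix (hq : Fintype.card F = q ^ 2) (n m : ℕ) (hm : m ≤ n)
    (x : Matrix.SpecialLinearGroup (Fin n) F) (hx : x ∈ Cfsg.SU n F q) (z : F)
    (hx2 : ((x ^ 2 : Matrix.SpecialLinearGroup (Fin n) F) : Matrix (Fin n) (Fin n) F) =
      z • (1 : Matrix (Fin n) (Fin n) F))
    (hpar : Odd n ∨ Even m) :
    ∃ W : Submodule F (Fin n → F), Module.finrank F ↥W = m ∧
      (∀ u ∈ W, u ≠ 0 → ∃ v ∈ W, Cfsg.hermForm n F q u v ≠ 0) ∧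
      W.map (Matrix.toLin' (x : Matrix (Fin n) (Fin n) F)) ≤ W := by
  rcases Nat.eq_zero_or_pos m with rfl | hm0
  · refine ⟨⊥, finrank_bot F _, ?_, by rw [Submodule.map_bot]⟩
    intro u hu hu0
    exact absurd ((Submodule.mem_bot F).1 hu) hu0
  obtain ⟨σ, hσ, hσq, h, hnd⟩ := exists_data hq n
  have hfr : finrank F (Fin n → F) = n := Module.finrank_fin_fun F
  have hT : ∀ u v : Fin n → F, Cfsg.hermForm n F q
      (Matrix.toLin' (x : Matrix (Fin n) (Fin n) F) u)
      (Matrix.toLin' (x : Matrix (Fin n) (Fin n) F) v) = Cfsg.hermForm n F q u v := by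
    intro u v
    rw [Matrix.toLin'_apply, Matrix.toLin'_apply]
    exact hx u v
  have hT2 : ∀ v : Fin n → F, Matrix.toLin' (x : Matrix (Fin n) (Fin n) F)
      (Matrix.toLin' (x : Matrix (Fin n) (Fin n) F) v) = z • v := by
    intro v
    rw [Matrix.toLin'_apply, Matrix.toLin'_apply, Matrix.mulVec_mulVec, ← pow_two,
      ← Matrix.SpecialLinearGroup.coe_pow, hx2, Matrix.smul_mulVec, Matrix.one_mulVec]
  have hz := norm_z h hnd _ hT z hT2 (by rw [hfr]; omega)
  obtain ⟨w, rfl⟩ := exists_sqrt_of_norm_one hq hσq z hz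
  have := fixNDH_of_sq hσ h hnd _ hT w hT2 m (by rw [hfr]; exact hm) (by rw [hfr]; exact hpar)
  exact this

/-- the arithmetic obstruction to `w σ(w) = -1` -/
theorem arith_false {K : Type*} [Field K] {Q : ℕ} {w : K} (h2 : (2 : K) ≠ 0)
    (hw : w ^ (Q + 1) = -1) (k : ℕ) (hk0 : 0 < k) (hk : (-(w * w)) ^ k = 1)
    (hval : padicValNat 2 (2 * k) ≤ padicValNat 2 (Q + 1)) (hq4 : Q % 4 = 3) : False := by
  obtain ⟨e, n', hn'odd, hn⟩ := Nat.exists_eq_two_pow_mul_odd (n := 2 * k) (by omega)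
  have hn'0 : n' ≠ 0 := by
    rintro rfl
    simp at hn'odd
  have hn'2 : ¬ 2 ∣ n' := by
    rw [← even_iff_two_dvd, Nat.not_even_iff_odd]
    exact hn'odd
  have hpv : padicValNat 2 (2 * k) = e := by
    rw [hn, padicValNat.mul (by positivity) hn'0, padicValNat.prime_pow,
      padicValNat.eq_zero_of_not_dvd hn'2, add_zero]
  have hdvd : 2 ^ e ∣ Q + 1 := by
    rw [hpv] at hval
    exact (pow_dvd_pow 2 hval).trans pow_padicValNat_dvd
  obtain ⟨t, ht⟩ := hdvd
  have he1 : 1 ≤ e := by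
    by_contra hcon
    have : e = 0 := by omega
    rw [this, pow_zero, one_mul] at hn
    obtain ⟨j, hj⟩ := hn'odd
    omega
  have hkt : Even (k * t) := by
    rcases Nat.lt_or_ge e 2 with he | he
    · have : e = 1 := by omega
      rw [this, pow_one] at ht
      have : Even t := by
        rw [Nat.even_iff]; omega
      exact this.mul_left k
    · obtain ⟨e', rfl⟩ : ∃ e', e = e' + 2 := ⟨e - 2, by omega⟩
      have : Even k := by
        refine ⟨2 ^ e' * n', ?_⟩
        have e1 : 2 ^ (e' + 2) * n' = 2 * (2 * (2 ^ e' * n')) := by ring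
        rw [e1] at hn
        omega
      exact this.mul_right t
  have h3 : w ^ (2 * k * t) = -1 := by
    have : 2 * k * t = (Q + 1) * n' := by rw [hn, ht]; ring
    rw [this, pow_mul, hw, hn'odd.neg_one_pow]
  have h4 : w ^ (2 * k * t) = 1 := by
    have e1 : (w * w) ^ k = (-1) ^ k := by
      have h5 := hk
      rw [neg_pow] at h5
      calc (w * w) ^ k = ((-1) ^ k * (-1) ^ k) * (w * w) ^ k := by
            rw [← mul_pow]; norm_num
        _ = (-1) ^ k * ((-1) ^ k * (w * w) ^ k) := by ring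
        _ = (-1) ^ k := by rw [h5, mul_one]
    calc w ^ (2 * k * t) = ((w * w) ^ k) ^ t := by rw [← pow_two, ← pow_mul, ← pow_mul, mul_assoc]
      _ = ((-1) ^ k) ^ t := by rw [e1]
      _ = (-1) ^ (k * t) := by rw [← pow_mul]
      _ = 1 := hkt.neg_one_pow
  rw [h3] at h4
  apply h2
  linear_combination (-1 : K) * h4

/-- `r = 2 ≠ p`: an element of `SU_n(q)` with scalar square fixes nondegenerate subspaces of
every dimension when `(n)_2 ≤ (q+1)_2` and `q ≡ 3 (mod 4)` -/
theorem su_sq_fix_of_val (hq : Fintype.card F = q ^ 2) (hp2 : p ≠ 2) (n m : ℕ) (hm : m ≤ n)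
    (x : Matrix.SpecialLinearGroup (Fin n) F) (hx : x ∈ Cfsg.SU n F q) (z : F)
    (hx2 : ((x ^ 2 : Matrix.SpecialLinearGroup (Fin n) F) : Matrix (Fin n) (Fin n) F) =
      z • (1 : Matrix (Fin n) (Fin n) F))
    (hval : padicValNat 2 n ≤ padicValNat 2 (q + 1)) (hq4 : q % 4 = 3) :
    ∃ W : Submodule F (Fin n → F), Module.finrank F ↥W = m ∧
      (∀ u ∈ W, u ≠ 0 → ∃ v ∈ W, Cfsg.hermForm n F q u v ≠ 0) ∧
      W.map (Matrix.toLin' (x : Matrix (Fin n) (Fin n) F)) ≤ W := by
  rcases Nat.eq_zero_or_pos m with rfl | hm0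
  · refine ⟨⊥, finrank_bot F _, ?_, by rw [Submodule.map_bot]⟩
    intro u hu hu0
    exact absurd ((Submodule.mem_bot F).1 hu) hu0
  have h2 : (2 : F) ≠ 0 := by
    intro h
    have h' : ((2 : ℕ) : F) = 0 := by exact_mod_cast h
    rw [CharP.cast_eq_zero_iff F p 2] at h'
    exact hp2 ((Nat.prime_dvd_prime_iff_eq (Fact.out : p.Prime) Nat.prime_two).1 h')
  obtain ⟨σ, hσ, hσq, h, hnd⟩ := exists_data hq n
  have hfr : finrank F (Fin n → F) = n := Module.finrank_fin_fun F
  have hT : ∀ u v : Fin n → F, Cfsg.hermForm n F q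
      (Matrix.toLin' (x : Matrix (Fin n) (Fin n) F) u)
      (Matrix.toLin' (x : Matrix (Fin n) (Fin n) F) v) = Cfsg.hermForm n F q u v := by
    intro u v
    rw [Matrix.toLin'_apply, Matrix.toLin'_apply]
    exact hx u v
  have hT2 : ∀ v : Fin n → F, Matrix.toLin' (x : Matrix (Fin n) (Fin n) F)
      (Matrix.toLin' (x : Matrix (Fin n) (Fin n) F) v) = z • v := by
    intro v
    rw [Matrix.toLin'_apply, Matrix.toLin'_apply, Matrix.mulVec_mulVec, ← pow_two,
      ← Matrix.SpecialLinearGroup.coe_pow, hx2, Matrix.smul_mulVec, Matrix.one_mulVec]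
  have hz := norm_z h hnd _ hT z hT2 (by rw [hfr]; omega)
  obtain ⟨w, rfl⟩ := exists_sqrt_of_norm_one hq hσq z hz
  obtain ⟨hw0, hc⟩ := norm_sq h hnd _ hT w hT2 (by rw [hfr]; omega)
  rcases hc with hc | hc
  · exact fixNDH_of_sq_pos h2 hσ h hnd _ hT w hc hT2 m (by rw [hfr]; exact hm)
  · exfalso
    obtain ⟨k, hk, hdet⟩ := det_of_neg h2 hσ h hnd _ hT w hw0 hT2 hc
    rw [LinearMap.det_toLin', x.det_coe] at hdet
    rw [hfr] at hk
    subst hk
    refine arith_false h2 ?_ k (by omega) hdet.symm hval hq4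
    rw [pow_succ', ← hσq]
    exact hc

end frozen

end Cfsg.Agent.Lib.Helper9.NDU2
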