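import Mathlib
import Cfsg.Agent.Lib.Helper9.NDU2_B
import Cfsg.Agent.Lib.Helper9.L3Fus19

/-!
# S5954, `r = 2`: the derangements (block diagonal models)
-/

set_option autoImplicit false

namespace Cfsg.Agent.Lib.Helper9.NDU2

open Matrix Module Cfsg.Agent.Lib.Helper2 Cfsg.Agent.Lib.Helper2.HermDecomp
  Cfsg.Agent.Lib.Helper2.HermFrames Cfsg.Agent.Lib.Helper5.PSLCoset Cfsg.Agent.Lib.Helper9.UPol

section phi

variable {F : Type*} [Field F] (k : ℕ)

/-- the block diagonal matrix with `k` copies of a `2 × 2` block -/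
noncomputable def phi (A : Matrix (Fin 2) (Fin 2) F) : Matrix (Fin (2 * k)) (Fin (2 * k)) F :=
  Matrix.reindex finProdFinEquiv finProdFinEquiv (Matrix.blockDiagonal fun _ : Fin k => A)

theorem phi_mul (A B : Matrix (Fin 2) (Fin 2) F) : phi k (A * B) = phi k A * phi k B := by
  unfold phi
  rw [Matrix.blockDiagonal_mul, Matrix.reindex_apply, Matrix.reindex_apply, Matrix.reindex_apply,
    Matrix.submatrix_mul_equiv]

theorem phi_one : phi k (1 : Matrix (Fin 2) (Fin 2) F) = 1 := by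
  unfold phi
  have : (fun _ : Fin k => (1 : Matrix (Fin 2) (Fin 2) F)) = 1 := rfl
  rw [this, Matrix.blockDiagonal_one, Matrix.reindex_apply, Matrix.submatrix_one_equiv]

theorem phi_add (A B : Matrix (Fin 2) (Fin 2) F) : phi k (A + B) = phi k A + phi k B := by
  unfold phi
  have : (fun _ : Fin k => A + B) = (fun _ : Fin k => A) + (fun _ : Fin k => B) := rfl
  rw [this, Matrix.blockDiagonal_add]
  rfl

theorem phi_sub (A B : Matrix (Fin 2) (Fin 2) F) : phi k (A - B) = phi k A - phi k B := by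
  unfold phi
  have : (fun _ : Fin k => A - B) = (fun _ : Fin k => A) - (fun _ : Fin k => B) := rfl
  rw [this, Matrix.blockDiagonal_sub]
  rfl

theorem phi_smul (c : F) (A : Matrix (Fin 2) (Fin 2) F) : phi k (c • A) = c • phi k A := by
  unfold phi
  have : (fun _ : Fin k => c • A) = c • (fun _ : Fin k => A) := rfl
  rw [this, Matrix.blockDiagonal_smul]
  rfl

theorem phi_transpose (A : Matrix (Fin 2) (Fin 2) F) : (phi k A)ᵀ = phi k Aᵀ := by
  unfold phi
  rw [Matrix.reindex_apply, Matrix.reindex_apply, Matrix.transpose_submatrix,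
    Matrix.blockDiagonal_transpose]

theorem phi_map (σ : F ≃+* F) (A : Matrix (Fin 2) (Fin 2) F) :
    (phi k A).map σ = phi k (A.map σ) := by
  unfold phi
  rw [Matrix.reindex_apply, Matrix.reindex_apply, ← Matrix.submatrix_map,
    Matrix.blockDiagonal_map _ _ (map_zero σ)]

theorem phi_det (A : Matrix (Fin 2) (Fin 2) F) : (phi k A).det = A.det ^ k := by
  unfold phi
  rw [Matrix.det_reindex_self, Matrix.det_blockDiagonal, Finset.prod_const, Finset.card_univ,
    Fintype.card_fin]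

theorem phi_apply (A : Matrix (Fin 2) (Fin 2) F) (a b : Fin 2) (j : Fin k) :
    phi k A (finProdFinEquiv (a, j)) (finProdFinEquiv (b, j)) = A a b := by
  unfold phi
  rw [Matrix.reindex_apply, Matrix.submatrix_apply, Equiv.symm_apply_apply,
    Equiv.symm_apply_apply, Matrix.blockDiagonal_apply_eq]

end phi

section model

variable {F : Type*} [Field F] [Fintype F] {q : ℕ}

omit [Fintype F] in
/-- the model: `k` copies of the companion matrix of `X² - z` -/
theorem exists_model (σ : F ≃+* F) (hσq : ∀ a : F, σ a = a ^ q) (k : ℕ) (hk : 0 < k) (z : F)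
    (hz : z * σ z = 1) (hdet : (-z) ^ k = 1) :
    ∃ x : Matrix.SpecialLinearGroup (Fin (2 * k)) F, x ∈ Cfsg.SU (2 * k) F q ∧
      ((x ^ 2 : Matrix.SpecialLinearGroup (Fin (2 * k)) F) :
        Matrix (Fin (2 * k)) (Fin (2 * k)) F) = z • (1 : Matrix (Fin (2 * k)) (Fin (2 * k)) F) ∧
      (∀ c : F, (x : Matrix (Fin (2 * k)) (Fin (2 * k)) F) ≠
        c • (1 : Matrix (Fin (2 * k)) (Fin (2 * k)) F)) ∧
      (x : Matrix (Fin (2 * k)) (Fin (2 * k)) F) = phi k !![0, 1; z, 0] := by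
  have hd : (phi k (!![0, 1; z, 0] : Matrix (Fin 2) (Fin 2) F)).det = 1 := by
    rw [phi_det, Matrix.det_fin_two_of, zero_mul, zero_sub, one_mul, hdet]
  obtain ⟨x, hx⟩ : ∃ x : Matrix.SpecialLinearGroup (Fin (2 * k)) F,
      (x : Matrix (Fin (2 * k)) (Fin (2 * k)) F) = phi k !![0, 1; z, 0] := ⟨⟨_, hd⟩, rfl⟩
  refine ⟨x, ?_, ?_, ?_, hx⟩
  · rw [Cfsg.Agent.H9L3.mem_SU_iff_mat σ hσq, hx]
    rw [phi_transpose, phi_map, ← phi_mul]
    have : (!![0, 1; z, 0] : Matrix (Fin 2) (Fin 2) F)ᵀ *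
        (!![0, 1; z, 0] : Matrix (Fin 2) (Fin 2) F).map σ = 1 := by
      ext i j
      fin_cases i <;> fin_cases j <;> simp [Matrix.mul_apply, Fin.sum_univ_two, hz]
    rw [this, phi_one]
  · rw [Matrix.SpecialLinearGroup.coe_pow, hx]
    rw [pow_two, ← phi_mul]
    have : (!![0, 1; z, 0] : Matrix (Fin 2) (Fin 2) F) * !![0, 1; z, 0] =
        z • (1 : Matrix (Fin 2) (Fin 2) F) := by
      ext i j
      fin_cases i <;> fin_cases j <;> simp [Matrix.mul_apply, Fin.sum_univ_two]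
    rw [this, phi_smul, phi_one]
  · intro c hc
    have hc' : phi k (!![0, 1; z, 0] : Matrix (Fin 2) (Fin 2) F) =
        c • (1 : Matrix (Fin (2 * k)) (Fin (2 * k)) F) := by rw [← hx]; exact hc
    have h1 := phi_apply k (!![0, 1; z, 0] : Matrix (Fin 2) (Fin 2) F) 0 1 ⟨0, hk⟩
    rw [hc', Matrix.smul_apply, Matrix.one_apply_ne, smul_zero] at h1
    · simp at h1
    · intro h
      have := finProdFinEquiv.injective h
      simp at this

/-- the scalar `z`: a generator of the Sylow 2-subgroup of the norm-one group -/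
theorem exists_z (hq : Fintype.card F = q ^ 2) (h2 : (2 : F) ≠ 0) (k : ℕ)
    (hcond : ¬ (padicValNat 2 (2 * k) ≤ padicValNat 2 (q + 1) ∧ q % 4 = 3)) :
    ∃ z : F, z ^ (q + 1) = 1 ∧ (-z) ^ k = 1 ∧ ∀ w : F, w * w = z → w ^ (q + 1) ≠ 1 := by
  have hch : ringChar F ≠ 2 := by
    intro h
    apply h2
    have := ringChar.Nat.cast_ringChar (R := F)
    rw [h] at this
    exact_mod_cast this
  have hqo := q_odd hq h2
  obtain ⟨t, rfl⟩ : ∃ t, q = 2 * t + 1 := ⟨q / 2, by omega⟩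
  obtain ⟨g, hg⟩ := FiniteField.exists_nonsquare hch
  have hg0 : g ≠ 0 := by
    rintro rfl
    exact hg (IsSquare.zero)
  have hcard : Fintype.card F / 2 = 2 * t * (t + 1) := by
    rw [hq]
    have : (2 * t + 1) ^ 2 = 2 * (2 * t * (t + 1)) + 1 := by ring
    omega
  have hgp : g ^ (2 * t * (t + 1)) = -1 := by
    rcases FiniteField.pow_dichotomy hch hg0 with h | h
    · exact absurd ((FiniteField.isSquare_iff hch hg0).2 h) hg
    · rw [hcard] at h; exact h
  set ξ := g ^ (2 * t) with hξdef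
  have hξ : ξ ^ (t + 1) = -1 := by rw [hξdef, ← pow_mul]; exact hgp
  have hξ2 : ξ ^ (2 * t + 1 + 1) = 1 := by
    have : 2 * t + 1 + 1 = (t + 1) * 2 := by ring
    rw [this, pow_mul, hξ]; norm_num
  obtain ⟨s, u, huodd, hsu⟩ := Nat.exists_eq_two_pow_mul_odd (n := 2 * t + 1 + 1) (by omega)
  have hu0 : u ≠ 0 := by
    rintro rfl
    simp at huodd
  have hu2 : ¬ 2 ∣ u := by
    rw [← even_iff_two_dvd, Nat.not_even_iff_odd]
    exact huodd
  have hpv : padicValNat 2 (2 * t + 1 + 1) = s := by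
    rw [hsu, padicValNat.mul (by positivity) hu0, padicValNat.prime_pow,
      padicValNat.eq_zero_of_not_dvd hu2, add_zero]
  have hs1 : 1 ≤ s := by
    by_contra hcon
    have : s = 0 := by omega
    rw [this, pow_zero, one_mul] at hsu
    obtain ⟨j, hj⟩ := huodd
    omega
  refine ⟨ξ ^ u, ?_, ?_, ?_⟩
  · rw [← pow_mul, mul_comm, pow_mul, hξ2, one_pow]
  · rcases (by omega : (2 * t + 1) % 4 = 1 ∨ (2 * t + 1) % 4 = 3) with h4 | h4
    · have hs : s = 1 := by
        by_contra hcon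
        obtain ⟨s', rfl⟩ : ∃ s', s = s' + 2 := ⟨s - 2, by omega⟩
        have e1 : 2 ^ (s' + 2) * u = 4 * (2 ^ s' * u) := by ring
        rw [e1] at hsu
        omega
      rw [hs, pow_one] at hsu
      have hu : u = t + 1 := by omega
      rw [hu, hξ, neg_neg, one_pow]
    · have hlt : s < padicValNat 2 (2 * k) := by
        by_contra hcon
        exact hcond ⟨by rw [hpv]; omega, h4⟩
      have hd1 : 2 ^ (s + 1) ∣ 2 * k := (pow_dvd_pow 2 hlt).trans pow_padicValNat_dvd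
      have hd2 : 2 ^ s ∣ k := by
        rw [pow_succ, mul_comm 2 k] at hd1
        exact Nat.dvd_of_mul_dvd_mul_right (by norm_num) hd1
      obtain ⟨k', rfl⟩ := hd2
      have hzk : (ξ ^ u) ^ (2 ^ s * k') = 1 := by
        have : (ξ ^ u) ^ (2 ^ s) = 1 := by rw [← pow_mul, mul_comm, ← hsu, hξ2]
        rw [pow_mul, this, one_pow]
      have hev : Even (2 ^ s * k') := by
        apply Even.mul_right
        exact (Nat.even_pow' (by omega)).2 even_two
      rw [neg_pow, hzk, hev.neg_one_pow, one_mul]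
  · intro w hw hw1
    have h3 : (ξ ^ u) ^ (t + 1) = -1 := by
      rw [← pow_mul, mul_comm, pow_mul, hξ, huodd.neg_one_pow]
    have h4 : (ξ ^ u) ^ (t + 1) = 1 := by
      rw [← hw, ← pow_two, ← pow_mul]
      have : 2 * (t + 1) = 2 * t + 1 + 1 := by ring
      rw [this, hw1]
    rw [h3] at h4
    apply h2
    linear_combination (-1 : F) * h4

end model

section frozen

variable {F : Type*} [Field F] [Fintype F] {p : ℕ} [Fact p.Prime] [CharP F p] {q : ℕ}

/-- `r = 2 ≠ p`, `n` even, `m` odd: a derangement in `SU_n(q)` unless `(n)_2 ≤ (q+1)_2` and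
`q ≡ 3 (mod 4)` -/
theorem exists_su_sq_not_fix (hq : Fintype.card F = q ^ 2) (hp2 : p ≠ 2) (n m : ℕ)
    (hn : Even n) (hm : Odd m) (hn2 : 2 ≤ n)
    (hcond : ¬ (padicValNat 2 n ≤ padicValNat 2 (q + 1) ∧ q % 4 = 3)) :
    ∃ x : Matrix.SpecialLinearGroup (Fin n) F, x ∈ Cfsg.SU n F q ∧
      (∃ z : F, ((x ^ 2 : Matrix.SpecialLinearGroup (Fin n) F) : Matrix (Fin n) (Fin n) F) =
        z • (1 : Matrix (Fin n) (Fin n) F)) ∧
      (∀ z : F, (x : Matrix (Fin n) (Fin n) F) ≠ z • (1 : Matrix (Fin n) (Fin n) F)) ∧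
      ¬ ∃ W : Submodule F (Fin n → F), Module.finrank F ↥W = m ∧
        (∀ u ∈ W, u ≠ 0 → ∃ v ∈ W, Cfsg.hermForm n F q u v ≠ 0) ∧
        W.map (Matrix.toLin' (x : Matrix (Fin n) (Fin n) F)) ≤ W := by
  obtain ⟨k, rfl⟩ := even_iff_two_dvd.1 hn
  have h2 : (2 : F) ≠ 0 := by
    intro h
    have h' : ((2 : ℕ) : F) = 0 := by exact_mod_cast h
    rw [CharP.cast_eq_zero_iff F p 2] at h'
    exact hp2 ((Nat.prime_dvd_prime_iff_eq (Fact.out : p.Prime) Nat.prime_two).1 h')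
  obtain ⟨σ, hσ, hσq, h, hnd⟩ := exists_data hq (2 * k)
  obtain ⟨z, hz1, hz2, hz3⟩ := exists_z hq h2 k hcond
  have hzσ : z * σ z = 1 := by rw [hσq, ← pow_succ']; exact hz1
  obtain ⟨x, hxSU, hx2, hxns, -⟩ := exists_model σ hσq k (by omega) z hzσ hz2
  refine ⟨x, hxSU, ⟨z, hx2⟩, hxns, ?_⟩
  rintro ⟨W, hWm, hWnd, hWi⟩
  have hfr : finrank F (Fin (2 * k) → F) = 2 * k := Module.finrank_fin_fun F
  have hT : ∀ u v : Fin (2 * k) → F, Cfsg.hermForm (2 * k) F q
      (Matrix.toLin' (x : Matrix (Fin (2 * k)) (Fin (2 * k)) F) u)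
      (Matrix.toLin' (x : Matrix (Fin (2 * k)) (Fin (2 * k)) F) v) =
      Cfsg.hermForm (2 * k) F q u v := by
    intro u v
    rw [Matrix.toLin'_apply, Matrix.toLin'_apply]
    exact hxSU u v
  have hT2 : ∀ v : Fin (2 * k) → F, Matrix.toLin' (x : Matrix (Fin (2 * k)) (Fin (2 * k)) F)
      (Matrix.toLin' (x : Matrix (Fin (2 * k)) (Fin (2 * k)) F) v) = z • v := by
    intro v
    rw [Matrix.toLin'_apply, Matrix.toLin'_apply, Matrix.mulVec_mulVec, ← pow_two,
      ← Matrix.SpecialLinearGroup.coe_pow, hx2, Matrix.smul_mulVec, Matrix.one_mulVec]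
  obtain ⟨w, rfl⟩ := exists_sqrt_of_norm_one hq hσq z hzσ
  obtain ⟨hw0, hc⟩ := norm_sq h hnd _ hT w hT2 (by rw [hfr]; omega)
  rcases hc with hc | hc
  · apply hz3 w rfl
    rw [pow_succ', ← hσq]
    exact hc
  · have hev := even_of_neg h2 hσ h hnd _ hT w hw0 hT2 hc (nd_of_frozen hWnd)
      ((invS_iff_map_le _ W).2 hWi)
    rw [hWm] at hev
    exact (Nat.not_even_iff_odd.2 hm) hev

/-- `r = p = 2`, `n` even, `m` odd: an involution in `SU_n(q)` fixing no nondegenerate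
`m`-space -/
theorem exists_su_invol_not_fix (hq : Fintype.card F = q ^ 2) (hp2 : p = 2) (n m : ℕ)
    (hn : Even n) (hm : Odd m) (hn2 : 2 ≤ n) :
    ∃ x : Matrix.SpecialLinearGroup (Fin n) F, x ∈ Cfsg.SU n F q ∧
      (∃ z : F, ((x ^ 2 : Matrix.SpecialLinearGroup (Fin n) F) : Matrix (Fin n) (Fin n) F) =
        z • (1 : Matrix (Fin n) (Fin n) F)) ∧
      (∀ z : F, (x : Matrix (Fin n) (Fin n) F) ≠ z • (1 : Matrix (Fin n) (Fin n) F)) ∧
      ¬ ∃ W : Submodule F (Fin n → F), Module.finrank F ↥W = m ∧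
        (∀ u ∈ W, u ≠ 0 → ∃ v ∈ W, Cfsg.hermForm n F q u v ≠ 0) ∧
        W.map (Matrix.toLin' (x : Matrix (Fin n) (Fin n) F)) ≤ W := by
  obtain ⟨k, rfl⟩ := even_iff_two_dvd.1 hn
  have h2 : (2 : F) = 0 := by
    subst hp2
    have := CharP.cast_eq_zero F 2
    exact_mod_cast this
  have hneg1 : (-1 : F) = 1 := by linear_combination -h2
  obtain ⟨σ, hσ, hσq, h, hnd⟩ := exists_data hq (2 * k)
  obtain ⟨x, hxSU, hx2, hxns, hxphi⟩ := exists_model σ hσq k (by omega) (1 : F)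
    (by rw [map_one, one_mul]) (by rw [hneg1, one_pow])
  refine ⟨x, hxSU, ⟨1, hx2⟩, hxns, ?_⟩
  rintro ⟨W, hWm, hWnd, hWi⟩
  have hT : ∀ u v : Fin (2 * k) → F, Cfsg.hermForm (2 * k) F q
      (Matrix.toLin' (x : Matrix (Fin (2 * k)) (Fin (2 * k)) F) u)
      (Matrix.toLin' (x : Matrix (Fin (2 * k)) (Fin (2 * k)) F) v) =
      1 * Cfsg.hermForm (2 * k) F q u v := by
    intro u v
    rw [Matrix.toLin'_apply, Matrix.toLin'_apply, one_mul]
    exact hxSU u v
  have hT2 : ∀ v : Fin (2 * k) → F, Matrix.toLin' (x : Matrix (Fin (2 * k)) (Fin (2 * k)) F)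
      (Matrix.toLin' (x : Matrix (Fin (2 * k)) (Fin (2 * k)) F) v) = v := by
    intro v
    rw [Matrix.toLin'_apply, Matrix.toLin'_apply, Matrix.mulVec_mulVec, ← pow_two,
      ← Matrix.SpecialLinearGroup.coe_pow, hx2, Matrix.smul_mulVec, Matrix.one_mulVec, one_smul]
  have hWi' : InvS (Matrix.toLin' (x : Matrix (Fin (2 * k)) (Fin (2 * k)) F)) W :=
    (invS_iff_map_le _ W).2 hWi
  obtain ⟨U', -, -, hU'i, -, -, hinf, hsup⟩ := split hσ h _ hT2 1 hT (le_top : W ≤ ⊤)
    (nd_top hnd) (nd_of_frozen hWnd) (fun _ _ => Submodule.mem_top) hWi'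
  have hc : IsCompl W U' := ⟨disjoint_iff.2 hinf, codisjoint_iff.2 hsup⟩
  have hkr : ∀ v : Fin (2 * k) → F,
      Matrix.toLin' (x : Matrix (Fin (2 * k)) (Fin (2 * k)) F) v = v →
      ∃ u, v = Matrix.toLin' (x : Matrix (Fin (2 * k)) (Fin (2 * k)) F) u - u := by
    intro v hv
    rw [Matrix.toLin'_apply, hxphi] at hv
    refine ⟨phi k !![1, 0; 0, 0] *ᵥ v, ?_⟩
    rw [Matrix.toLin'_apply, hxphi, Matrix.mulVec_mulVec, ← phi_mul]
    have e1 : (!![0, 1; 1, 0] : Matrix (Fin 2) (Fin 2) F) * !![1, 0; 0, 0] =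
        !![1, 0; 0, 0] + 1 + !![0, 0; 1, 0] * (!![0, 1; 1, 0] - 1) := by
      rw [Matrix.one_fin_two]
      simp only [Matrix.mul_fin_two, Matrix.of_sub_of, Matrix.of_add_of, Matrix.cons_sub_cons,
        Matrix.cons_add_cons, Matrix.empty_sub_empty, Matrix.empty_add_empty]
      ext i j
      fin_cases i <;> fin_cases j <;> simp <;>
        first | linear_combination h2 | linear_combination hneg1
    rw [e1, phi_add, phi_add, phi_one, phi_mul, phi_sub, phi_one, Matrix.add_mulVec,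
      Matrix.add_mulVec, Matrix.one_mulVec, ← Matrix.mulVec_mulVec, Matrix.sub_mulVec,
      Matrix.one_mulVec, hv, sub_self, Matrix.mulVec_zero, add_zero]
    abel
  have hev := even_of_fix_le_range h2 _ hT2 hkr hWi' hU'i hc
  rw [hWm] at hev
  exact (Nat.not_even_iff_odd.2 hm) hev

end frozen

end Cfsg.Agent.Lib.Helper9.NDU2
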