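import Mathlib
import Cfsg.Agent.Lib.Helper8.SmTwoB
import Cfsg.Agent.Lib.Helper4.NgpDefs
import Cfsg.Agent.Lib.Helper6.SmTwoPB
import Cfsg.Agent.Lib.Helper9.ExtraTransport
import Cfsg.Agent.Lib.Lead.Nilpotent
import Cfsg.Prelude.Def_Transfer

set_option autoImplicit false
set_option linter.style.haveILetI false
set_option linter.unusedSectionVars false
set_option linter.deprecated false

/-! S1904, package NBr: the bridge from the internal form (`X A : Subgroup G`, `Hyp X A`) to the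
statement (`X` a type, `A : Subgroup (MulAut X)`) through the semidirect product `X ⋊ A`. -/

namespace Cfsg.Agent.Lib.Helper4.Ngp

open Cfsg.Agent.Lib.Helper8.SmTwo
open scoped commutatorElement

universe u

/-- a normal abelian subgroup lies in a maximal normal abelian subgroup -/
theorem nbr_exists_max_normal_abelian_ge {X : Type u} [Group X] [Finite X] (B : Subgroup X)
    (hBn : B.Normal) (hBc : IsMulCommutative B) :
    ∃ A : Subgroup X, B ≤ A ∧ A.Normal ∧ IsMulCommutative A ∧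
      ∀ M : Subgroup X, M.Normal → IsMulCommutative M → A ≤ M → M = A := by
  classical
  let S := {N : Subgroup X // N.Normal ∧ IsMulCommutative N ∧ B ≤ N}
  have : Nonempty S := ⟨⟨B, hBn, hBc, le_rfl⟩⟩
  obtain ⟨A, hA⟩ := Finite.exists_max (fun N : S => Nat.card N.1)
  refine ⟨A.1, A.2.2.2, A.2.1, A.2.2.1, ?_⟩
  intro M hMn hMc hAM
  have h1 := hA ⟨M, hMn, hMc, A.2.2.2.trans hAM⟩
  exact (Subgroup.eq_of_le_of_card_ge hAM h1).symm

/-- (N) from the hypothesis `hscn` of S1904 -/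
theorem nbr_noNormalE8 {X : Type u} [Group X] [Finite X] (hX : IsPGroup 2 X)
    (hscn : ¬ ∃ A : Subgroup X, A.Normal ∧ Subgroup.centralizer (A : Set X) = A ∧
      ∃ E : Subgroup X, E ≤ A ∧ Cfsg.IsElementaryAbelian 2 E ∧ Nat.card E = 8)
    (E : Subgroup X) (hEn : E.Normal) (hE2 : ∀ e ∈ E, e ^ 2 = 1) : Nat.card E ≤ 4 := by
  by_contra hcard
  push Not at hcard
  haveI : Fact (Nat.Prime 2) := ⟨Nat.prime_two⟩
  haveI : Group.IsNilpotent X := hX.isNilpotent
  -- `E` is abelian
  have hEab : ∀ a ∈ E, ∀ b ∈ E, a * b = b * a := by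
    intro a ha b hb
    have h1 := hE2 a ha
    have h2 := hE2 b hb
    have h3 := hE2 (a * b) (E.mul_mem ha hb)
    have ha' : a⁻¹ = a := by rw [inv_eq_iff_mul_eq_one, ← pow_two, h1]
    have hb' : b⁻¹ = b := by rw [inv_eq_iff_mul_eq_one, ← pow_two, h2]
    have hab' : (a * b)⁻¹ = a * b := by rw [inv_eq_iff_mul_eq_one, ← pow_two, h3]
    rw [mul_inv_rev, ha', hb'] at hab'
    exact hab'.symm
  have hEc : IsMulCommutative E := ⟨⟨fun a b => Subtype.ext (hEab a a.2 b b.2)⟩⟩
  obtain ⟨A, hEA, hAn, hAc, hmax⟩ := nbr_exists_max_normal_abelian_ge E hEn hEc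
  haveI := hAn
  haveI := hAc
  have hCA := Cfsg.Agent.Lib.Lead.centralizer_eq_of_max_abelian_normal A hmax
  -- a subgroup of order `8` of `E`
  have hE2' : IsPGroup 2 E := hX.to_subgroup E
  obtain ⟨n, hn⟩ := IsPGroup.iff_card.1 hE2'
  have hn3 : 3 ≤ n := by
    by_contra h
    push Not at h
    have : 2 ^ n ≤ 2 ^ 2 := Nat.pow_le_pow_right (by norm_num) (by omega)
    rw [hn] at hcard
    omega
  have hdvd : 2 ^ 3 ∣ Nat.card E := by
    rw [hn]; exact pow_dvd_pow 2 hn3
  obtain ⟨K, hK⟩ := Sylow.exists_subgroup_card_pow_prime 2 hdvd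
  apply hscn
  refine ⟨A, hAn, hCA, K.map E.subtype, ?_, ⟨?_, ?_⟩, ?_⟩
  · exact (Subgroup.map_subtype_le K).trans hEA
  · refine ⟨⟨fun a b => ?_⟩⟩
    apply Subtype.ext
    have ha : (a : X) ∈ E := Subgroup.map_subtype_le K a.2
    have hb : (b : X) ∈ E := Subgroup.map_subtype_le K b.2
    exact hEab _ ha _ hb
  · intro a ha
    exact hE2 a (Subgroup.map_subtype_le K ha)
  · rw [Subgroup.card_map_of_injective E.subtype_injective, hK]
    norm_num

theorem s1904_of_main {X : Type u} [Group X] [Finite X]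
    (hmain : ∀ (G : Type u) [Group G] [Finite G] (Y B : Subgroup G), Hyp Y B →
      (Nonempty (↥Y ≃* QuaternionGroup 2) ∨
      (SpecialData Y 4 ∧ Nat.card Y = 64 ∧ Nat.card {t : G // t ∈ Y ∧ orderOf t = 2} = 3 ∧
        ∀ t ∈ Y, orderOf t = 2 → t ∈ Subgroup.centralizer (Y : Set G)) ∨
      (SpecialData Y 2 ∧ Nat.card Y = 32 ∧
        Nat.card {t : G // t ∈ Y ∧ orderOf t = 2} = 11)))
    (hX : IsPGroup 2 X) (hna : ¬ IsMulCommutative X)
    (hscn : ¬ ∃ A : Subgroup X, A.Normal ∧ Subgroup.centralizer (A : Set X) = A ∧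
      ∃ E : Subgroup X, E ≤ A ∧ Cfsg.IsElementaryAbelian 2 E ∧ Nat.card E = 8)
    (A : Subgroup (MulAut X)) (hA : Odd (Nat.card A))
    (hXA : Subgroup.closure {g : X | ∃ φ ∈ A, ∃ x : X, g = x⁻¹ * φ x} = ⊤) :
    Nonempty (X ≃* QuaternionGroup 2) ∨
      (Cfsg.IsSpecial 2 X ∧ Nat.card X = 64 ∧ Nat.card {x : X // orderOf x = 2} = 3 ∧
        ∀ x : X, orderOf x = 2 → x ∈ Subgroup.center X) ∨
      (Cfsg.IsExtraspecial 2 X ∧ Nat.card X = 32 ∧ Nat.card {x : X // orderOf x = 2} = 11) := by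
  classical
  haveI : Finite (MulAut X) := Finite.of_injective (fun f : MulAut X => (f : X → X))
    (fun f g h => MulEquiv.ext (congrFun h))
  -- the semidirect product
  obtain ⟨ι, hι⟩ : ∃ ι : X →* X ⋊[A.subtype] ↥A, ι = SemidirectProduct.inl := ⟨_, rfl⟩
  obtain ⟨κ, hκ⟩ : ∃ κ : ↥A →* X ⋊[A.subtype] ↥A, κ = SemidirectProduct.inr := ⟨_, rfl⟩
  have hιinj : Function.Injective ι := by rw [hι]; exact SemidirectProduct.inl_injective
  have hκinj : Function.Injective κ := by rw [hκ]; exact SemidirectProduct.inr_injective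
  have hconj : ∀ (a : ↥A) (x : X), κ a * ι x * (κ a)⁻¹ = ι ((a : MulAut X) x) := by
    intro a x
    rw [hι, hκ, ← map_inv]
    exact (SemidirectProduct.inl_aut a x).symm
  have hYn : ι.range.Normal := by
    rw [hι, SemidirectProduct.range_inl_eq_ker_rightHom]
    infer_instance
  obtain ⟨e, he⟩ : ∃ e : X ≃* ↥ι.range,
      ∀ x : X, ((e x : ↥ι.range) : X ⋊[A.subtype] ↥A) = ι x :=
    ⟨MonoidHom.ofInjective hιinj, fun x => rfl⟩
  haveI : Finite (X ⋊[A.subtype] ↥A) := Finite.of_equiv _ SemidirectProduct.equivProd.symm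
  have hY2 : IsPGroup 2 ι.range := hX.of_equiv e
  have hyp : Hyp ι.range κ.range := by
    refine ⟨hY2, ?_, ?_, ?_, ?_, ?_, ?_⟩
    · rw [Nat.card_congr (MonoidHom.ofInjective hκinj).symm.toEquiv]
      exact hA
    · rw [Subgroup.normalizer_eq_top_iff.2 hYn]
      exact le_top
    · rw [eq_bot_iff]
      rintro b ⟨⟨a, rfl⟩, hb⟩
      rw [Subgroup.mem_bot]
      have ha : a = 1 := by
        apply Subtype.ext
        apply MulEquiv.ext
        intro x
        have h1 := hconj a x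
        have h2 : ι x * κ a = κ a * ι x :=
          (Subgroup.mem_centralizer_iff.1 hb) (ι x) ⟨x, rfl⟩
        rw [← h2, mul_inv_cancel_right] at h1
        exact (hιinj h1).symm
      rw [ha, map_one]
    · apply le_antisymm
      · exact Subgroup.commutator_le_left _ _
      · have hr : ι.range = Subgroup.closure (ι '' {g : X | ∃ φ ∈ A, ∃ x : X, g = x⁻¹ * φ x}) := by
          rw [MonoidHom.range_eq_map, ← hXA, MonoidHom.map_closure]
        refine le_trans (le_of_eq hr) ?_
        rw [Subgroup.closure_le]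
        rintro _ ⟨_, ⟨φ, hφ, x, rfl⟩, rfl⟩
        have h1 := hconj ⟨φ, hφ⟩ x
        have h2 : ι (x⁻¹ * φ x) = ⁅(ι x)⁻¹, κ ⟨φ, hφ⟩⁆ := by
          rw [commutatorElement_def, inv_inv, map_mul, map_inv, ← h1]
          group
        rw [SetLike.mem_coe, h2]
        exact Subgroup.commutator_mem_commutator (ι.range.inv_mem ⟨x, rfl⟩) ⟨⟨φ, hφ⟩, rfl⟩
    · intro E hEY hYE hE2
      have hEn : (E.comap ι).Normal := by
        refine ⟨fun n hn x => ?_⟩
        rw [Subgroup.mem_comap] at hn ⊢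
        have h1 := hYE (⟨x, rfl⟩ : ι x ∈ ι.range)
        rw [Subgroup.mem_normalizer_iff] at h1
        rw [map_mul, map_mul, map_inv]
        exact (h1 _).1 hn
      have h1 := nbr_noNormalE8 hX hscn (E.comap ι) hEn (by
        intro x hx
        rw [Subgroup.mem_comap] at hx
        apply hιinj
        rw [map_pow, map_one]
        exact hE2 _ hx)
      have h2 : (E.comap ι).map ι = E := by
        rw [Subgroup.map_comap_eq, inf_eq_right.2 hEY]
      rw [← h2, Subgroup.card_map_of_injective hιinj]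
      exact h1
    · intro hab
      apply hna
      refine ⟨⟨fun x y => ?_⟩⟩
      apply hιinj
      rw [map_mul, map_mul]
      exact hab _ ⟨x, rfl⟩ _ ⟨y, rfl⟩
  -- counting involutions
  have hcount : Nat.card {x : X // orderOf x = 2} =
      Nat.card {t : X ⋊[A.subtype] ↥A // t ∈ ι.range ∧ orderOf t = 2} := by
    apply Nat.card_congr
    refine
      { toFun := fun x => ⟨ι x.1, ⟨x.1, rfl⟩, by rw [orderOf_injective ι hιinj]; exact x.2⟩
        invFun := fun t => ⟨e.symm ⟨t.1, t.2.1⟩, ?_⟩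
        left_inv := ?_
        right_inv := ?_ }
    · have h1 : ι (e.symm ⟨t.1, t.2.1⟩) = t.1 := by
        rw [← he, MulEquiv.apply_symm_apply]
      rw [← orderOf_injective ι hιinj, h1]
      exact t.2.2
    · intro x
      apply Subtype.ext
      show e.symm ⟨ι x.1, _⟩ = x.1
      apply e.injective
      rw [MulEquiv.apply_symm_apply]
      exact Subtype.ext (he x.1).symm
    · intro t
      apply Subtype.ext
      show ι (e.symm ⟨t.1, t.2.1⟩) = t.1
      rw [← he, MulEquiv.apply_symm_apply]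
  rcases hmain _ ι.range κ.range hyp with h | ⟨hs, hc, hi, hz⟩ | ⟨hs, hc, hi⟩
  · left
    obtain ⟨f⟩ := h
    exact ⟨e.trans f⟩
  · right; left
    have h1 := isSpecial_of_specialData ι.range hY2 4 hs
    refine ⟨Cfsg.Agent.Lib.Helper9.isSpecial_of_mulEquiv e.symm h1.1, ?_, ?_, ?_⟩
    · rw [Nat.card_congr e.toEquiv, hc]
    · rw [hcount, hi]
    · intro x hx
      rw [Subgroup.mem_center_iff]
      intro y
      apply hιinj
      rw [map_mul, map_mul]
      have h2 := hz (ι x) ⟨x, rfl⟩ (by rw [orderOf_injective ι hιinj]; exact hx)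
      exact (Subgroup.mem_centralizer_iff.1 h2) (ι y) ⟨y, rfl⟩
  · right; right
    have h1 := isSpecial_of_specialData ι.range hY2 2 hs
    refine ⟨Cfsg.Agent.Lib.Helper9.isExtraspecial_of_mulEquiv e.symm ⟨h1.1, h1.2⟩, ?_, ?_⟩
    · rw [Nat.card_congr e.toEquiv, hc]
    · rw [hcount, hi]

end Cfsg.Agent.Lib.Helper4.Ngp
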