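import Mathlib

/-!
# Arithmetic of the numbers of elements of each order: abstract data

`Data s n` packages the facts about the function `m ↦ #{g : o(g) = m}` of a finite group of
order `n` that are used in the `nse` characterizations.
-/

set_option autoImplicit false

namespace Cfsg.Agent.Lib.Helper9.Nse

/-- abstract properties of the counting function of element orders -/
structure Data (s : ℕ → ℕ) (n : ℕ) : Prop where
  one : s 1 = 1
  tot : ∀ m, Nat.totient m ∣ s m
  closed : ∀ m d, 0 < s m → d ∣ m → 0 < s d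
  frob : ∀ d, d ∣ n → d ∣ ∑ m ∈ Nat.divisors d, s m
  dvd : ∀ m, 0 < s m → m ∣ n
  prime : ∀ p, p.Prime → p ∣ n → 0 < s p
  total : ∑ m ∈ Nat.divisors n, s m = n
  pos : 0 < n
  syl : ∀ p, p.Prime → p ∣ n → ¬ p ^ 2 ∣ n → ∃ k, s p = (p - 1) * k ∧ k ∣ n

variable {s : ℕ → ℕ} {n : ℕ}

theorem Data.zero (D : Data s n) : s 0 = 0 := by
  have := D.tot 0
  simpa using this

theorem Data.even (D : Data s n) {m : ℕ} (hm : 2 < m) : 2 ∣ s m :=
  (even_iff_two_dvd.mp (Nat.totient_even hm)).trans (D.tot m)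

theorem Data.eq_zero_of_not_dvd (D : Data s n) {m : ℕ} (h : ¬ m ∣ n) : s m = 0 := by
  by_contra hne
  exact h (D.dvd m (Nat.pos_of_ne_zero hne))

theorem Data.eq_zero_of_dvd (D : Data s n) {m d : ℕ} (hd : s d = 0) (h : d ∣ m) : s m = 0 := by
  by_contra hne
  have := D.closed m d (Nat.pos_of_ne_zero hne) h
  omega

/-- Frobenius at a prime -/
theorem Data.frob_prime (D : Data s n) {p : ℕ} (hp : p.Prime) (h : p ∣ n) : p ∣ 1 + s p := by
  have h1 := D.frob p h
  rw [hp.divisors, Finset.sum_insert (by simp [hp.one_lt.ne]), Finset.sum_singleton, D.one] at h1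
  exact h1

/-- a subset sum is a lower bound for `n` -/
theorem Data.sum_le (D : Data s n) (T : Finset ℕ) (hT : ∀ m ∈ T, 0 < s m) :
    ∑ m ∈ T, s m ≤ n := by
  have hsub : T ⊆ Nat.divisors n := by
    intro m hm
    rw [Nat.mem_divisors]
    exact ⟨D.dvd m (hT m hm), D.pos.ne'⟩
  calc ∑ m ∈ T, s m ≤ ∑ m ∈ Nat.divisors n, s m := Finset.sum_le_sum_of_subset hsub
    _ = n := D.total

/-- if all orders that occur lie in `T` then `n` is the sum over `T` -/
theorem Data.total_eq (D : Data s n) (T : Finset ℕ) (hT : ∀ m, 0 < s m → m ∈ T) :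
    ∑ m ∈ T, s m = n := by
  rw [← D.total]
  have h1 : ∑ m ∈ T, s m = ∑ m ∈ T ∩ Nat.divisors n, s m := by
    symm
    apply Finset.sum_subset Finset.inter_subset_left
    intro m _ hm2
    by_contra hne
    apply hm2
    rw [Finset.mem_inter]
    refine ⟨‹_›, ?_⟩
    rw [Nat.mem_divisors]
    exact ⟨D.dvd m (Nat.pos_of_ne_zero hne), D.pos.ne'⟩
  rw [h1]
  apply Finset.sum_subset Finset.inter_subset_right
  intro m _ hm2
  by_contra hne
  apply hm2
  rw [Finset.mem_inter]
  exact ⟨hT m (Nat.pos_of_ne_zero hne), ‹_›⟩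

/-- splitting off the orders `1` and `2` -/
theorem Data.split (D : Data s n) (h2 : 2 ∣ n) :
    ∃ R, n = s 1 + s 2 + R ∧ ∀ q, (∀ m, 2 < m → q ∣ s m) → q ∣ R := by
  refine ⟨∑ m ∈ (Nat.divisors n).filter (fun m => ¬ m ≤ 2), s m, ?_, ?_⟩
  · have h1 := Finset.sum_filter_add_sum_filter_not (Nat.divisors n) (fun m => m ≤ 2) s
    rw [D.total] at h1
    have h3 : (Nat.divisors n).filter (fun m => m ≤ 2) = {1, 2} := by
      ext m
      simp only [Finset.mem_filter, Nat.mem_divisors, Finset.mem_insert, Finset.mem_singleton]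
      constructor
      · rintro ⟨⟨hm, hn0⟩, hle⟩
        have : m ≠ 0 := by
          rintro rfl
          exact hn0 (Nat.eq_zero_of_zero_dvd hm)
        omega
      · rintro (rfl | rfl)
        · exact ⟨⟨one_dvd _, D.pos.ne'⟩, by norm_num⟩
        · exact ⟨⟨h2, D.pos.ne'⟩, le_refl _⟩
    rw [h3, Finset.sum_insert (by decide), Finset.sum_singleton] at h1
    omega
  · intro q hq
    apply Finset.dvd_sum
    intro m hm
    rw [Finset.mem_filter] at hm
    exact hq m (by omega)

/-- divisibility from a bound on prime powers -/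
theorem dvd_of_prime_pow {n K : ℕ} (h : ∀ p k : ℕ, p.Prime → 0 < k → p ^ k ∣ n → p ^ k ∣ K) :
    n ∣ K := by
  rw [Nat.dvd_iff_prime_pow_dvd_dvd]
  intro p k hp hk
  rcases Nat.eq_zero_or_pos k with h0 | h0
  · rw [h0, pow_zero]; exact one_dvd _
  · exact h p k hp h0 hk

/-- a power of a prime with exponent at least `e` is divisible by `p ^ e` -/
theorem pow_dvd_of_le {p k e : ℕ} (h : e ≤ k) : p ^ e ∣ p ^ k := pow_dvd_pow p h

/-- if `p ^ (e+1) ∤ n` and `p ^ k ∣ n` then `p ^ k ∣ p ^ e` -/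
theorem pow_dvd_pow_of_not_dvd {p k e n : ℕ} (h1 : ¬ p ^ (e + 1) ∣ n) (h2 : p ^ k ∣ n) :
    p ^ k ∣ p ^ e := by
  apply pow_dvd_pow
  by_contra hlt
  push Not at hlt
  exact h1 ((pow_dvd_pow p hlt).trans h2)

end Cfsg.Agent.Lib.Helper9.Nse
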