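import Mathlib
import Cfsg.Agent.Lib.Helper9.Nse1

/-!
# `nse = {1, 3, 8}` forces order `12`
-/

set_option autoImplicit false

namespace Cfsg.Agent.Lib.Helper9.Nse

variable {s : ℕ → ℕ} {n : ℕ}

theorem a4_arith (D : Data s n) (hv : ∀ m, s m = 0 ∨ s m = 1 ∨ s m = 3 ∨ s m = 8)
    (h3 : ∃ m, s m = 3) (h8 : ∃ m, s m = 8) :
    n = 12 ∧ s 2 = 3 ∧ s 3 = 8 ∧ s 6 = 0 := by
  have h0 := D.zero
  have h1 := D.one
  have hge : ∀ m, 2 < m → s m = 0 ∨ s m = 8 := by
    intro m hm
    have := D.even hm
    rcases hv m with h | h | h | h <;> omega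
  obtain ⟨a, ha⟩ := h3
  have ha2 : a = 2 := by
    by_contra hne
    rcases Nat.lt_or_ge 2 a with h | h
    · rcases hge a h with h' | h' <;> omega
    · interval_cases a <;> omega
  rw [ha2] at ha
  have h2n : 2 ∣ n := D.dvd 2 (by omega)
  have hpr : ∀ p, p.Prime → p ∣ n → p = 2 ∨ p = 3 := by
    intro p hp hpn
    by_cases h2 : p = 2
    · left; exact h2
    right
    have hp3 : 2 < p := lt_of_le_of_ne hp.two_le (Ne.symm h2)
    have hpos := D.prime p hp hpn
    have hF := D.frob_prime hp hpn
    rcases hge p hp3 with h | h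
    · omega
    · rw [h] at hF
      have h9 : p ∣ 3 ^ 2 := by norm_num; exact hF
      exact (Nat.prime_dvd_prime_iff_eq hp Nat.prime_three).mp (hp.dvd_of_dvd_pow h9)
  have hs3 : 3 ∣ n → s 3 = 8 := by
    intro h
    have := D.prime 3 Nat.prime_three h
    rcases hge 3 (by norm_num) with h' | h' <;> omega
  obtain ⟨b, hb⟩ := h8
  have hb3 : 2 < b := by
    by_contra hcon
    push Not at hcon
    interval_cases b <;> omega
  have hn12 : 12 ≤ n := by
    have := D.sum_le {1, 2, b} (by
      intro m hm
      simp only [Finset.mem_insert, Finset.mem_singleton] at hm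
      rcases hm with rfl | rfl | rfl <;> omega)
    rw [Finset.sum_insert (by simp; omega), Finset.sum_insert (by simp; omega),
      Finset.sum_singleton] at this
    omega
  have h8n : ¬ 8 ∣ n := by
    intro h
    have hF := D.frob 8 h
    simp only [Nat.divisors_ofNat] at hF
    simp (decide := true) only [Finset.sum_insert, Finset.mem_insert, Finset.mem_singleton,
      Finset.sum_singleton, not_false_eq_true] at hF
    rcases hge 4 (by norm_num) with h4 | h4 <;> rcases hge 8 (by norm_num) with h8 | h8 <;> omega
  have h9 : s 9 = 0 := by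
    have t9 : 6 ∣ s 9 := by
      have := D.tot 9
      rwa [show Nat.totient 9 = 6 by decide] at this
    rcases hge 9 (by norm_num) with h' | h' <;> omega
  have h27 : ¬ 27 ∣ n := by
    intro h
    have h3n : 3 ∣ n := Dvd.dvd.trans (by norm_num) h
    have hF := D.frob 27 h
    simp only [Nat.divisors_ofNat] at hF
    simp (decide := true) only [Finset.sum_insert, Finset.mem_insert, Finset.mem_singleton,
      Finset.sum_singleton, not_false_eq_true] at hF
    have t27 : 18 ∣ s 27 := by
      have := D.tot 27
      rwa [show Nat.totient 27 = 18 by decide] at this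
    have := hs3 h3n
    rcases hge 27 (by norm_num) with h' | h' <;> omega
  have hn36 : n ∣ 36 := by
    apply dvd_of_prime_pow
    intro p k hp hk hpk
    have hpn : p ∣ n := (dvd_pow_self p hk.ne').trans hpk
    rcases hpr p hp hpn with rfl | rfl
    · exact (pow_dvd_pow_of_not_dvd (e := 2) (by norm_num; exact h8n) hpk).trans (by norm_num)
    · exact (pow_dvd_pow_of_not_dvd (e := 2) (by norm_num; exact h27) hpk).trans (by norm_num)
  have hle : n ≤ 36 := Nat.le_of_dvd (by norm_num) hn36
  have h9n : ¬ 9 ∣ n := by
    intro h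
    have h18 : 18 ∣ n := Nat.Coprime.mul_dvd_of_dvd_of_dvd (by norm_num : Nat.Coprime 2 9) h2n h
    have h3n : 3 ∣ n := Dvd.dvd.trans (by norm_num) h
    have hF := D.frob 18 h18
    simp only [Nat.divisors_ofNat] at hF
    simp (decide := true) only [Finset.sum_insert, Finset.mem_insert, Finset.mem_singleton,
      Finset.sum_singleton, not_false_eq_true] at hF
    have h18' : s 18 = 0 := D.eq_zero_of_dvd h9 (by norm_num)
    have := hs3 h3n
    rcases hge 6 (by norm_num) with h' | h' <;> omega
  have hn : n = 12 := by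
    interval_cases n <;> omega
  have h3n : 3 ∣ n := by rw [hn]; norm_num
  have hs3' := hs3 h3n
  refine ⟨hn, ha, hs3', ?_⟩
  by_contra hne
  have := D.sum_le {1, 2, 3, 6} (by
    intro m hm
    simp only [Finset.mem_insert, Finset.mem_singleton] at hm
    rcases hm with rfl | rfl | rfl | rfl <;> omega)
  simp (decide := true) only [Finset.sum_insert, Finset.mem_insert, Finset.mem_singleton,
    Finset.sum_singleton, not_false_eq_true] at this
  omega

end Cfsg.Agent.Lib.Helper9.Nse
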