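import Mathlib
import Cfsg.Agent.Lib.Helper9.Nse1

/-!
# `nse = {1, 15, 20, 24}` forces order `60`
-/

set_option autoImplicit false

namespace Cfsg.Agent.Lib.Helper9.Nse

variable {s : ℕ → ℕ} {n : ℕ}

set_option maxHeartbeats 1600000 in
theorem a5_arith (D : Data s n)
    (hv : ∀ m, s m = 0 ∨ s m = 1 ∨ s m = 15 ∨ s m = 20 ∨ s m = 24)
    (h15 : ∃ m, s m = 15) (h20 : ∃ m, s m = 20) (h24 : ∃ m, s m = 24) :
    n = 60 ∧ s 2 = 15 ∧ s 3 = 20 ∧ s 5 = 24 ∧ s 10 = 0 := by
  have h0 := D.zero
  have h1 := D.one
  have hge : ∀ m, 2 < m → s m = 0 ∨ s m = 20 ∨ s m = 24 := by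
    intro m hm
    have := D.even hm
    rcases hv m with h | h | h | h | h <;> omega
  obtain ⟨a, ha⟩ := h15
  have ha2 : a = 2 := by
    by_contra hne
    rcases Nat.lt_or_ge 2 a with h | h
    · rcases hge a h with h' | h' | h' <;> omega
    · interval_cases a <;> omega
  rw [ha2] at ha
  have h2n : 2 ∣ n := D.dvd 2 (by omega)
  have hpr : ∀ p, p.Prime → p ∣ n → p = 2 ∨ (p = 3 ∧ s 3 = 20) ∨ (p = 5 ∧ s 5 = 24) := by
    intro p hp hpn
    by_cases h2 : p = 2
    · left; exact h2
    right
    have hp3 : 2 < p := lt_of_le_of_ne hp.two_le (Ne.symm h2)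
    have hpos := D.prime p hp hpn
    have hF := D.frob_prime hp hpn
    have ht := D.tot p
    rw [Nat.totient_prime hp] at ht
    rcases hge p hp3 with h | h | h
    · omega
    · rw [h] at hF ht
      have h21 : p ∣ 3 * 7 := by norm_num; exact hF
      rcases (Nat.Prime.dvd_mul hp).mp h21 with h' | h'
      · have := (Nat.prime_dvd_prime_iff_eq hp Nat.prime_three).mp h'
        left; exact ⟨this, this ▸ h⟩
      · have := (Nat.prime_dvd_prime_iff_eq hp (by norm_num : Nat.Prime 7)).mp h'
        rw [this] at ht
        omega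
    · rw [h] at hF
      have h25 : p ∣ 5 ^ 2 := by norm_num; exact hF
      have := (Nat.prime_dvd_prime_iff_eq hp Nat.prime_five).mp (hp.dvd_of_dvd_pow h25)
      right; exact ⟨this, this ▸ h⟩
  have hs3 : 3 ∣ n → s 3 = 20 := by
    intro h
    rcases hpr 3 Nat.prime_three h with h' | h' | h'
    · omega
    · exact h'.2
    · omega
  have hs5 : 5 ∣ n → s 5 = 24 := by
    intro h
    rcases hpr 5 Nat.prime_five h with h' | h' | h'
    · omega
    · omega
    · exact h'.2
  have h4n : 4 ∣ n := by
    obtain ⟨R, hR, hq⟩ := D.split h2n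
    have := hq 4 (by
      intro m hm
      rcases hge m hm with h | h | h <;> omega)
    omega
  obtain ⟨a', ha'⟩ := h20
  obtain ⟨b, hb⟩ := h24
  have ha3 : 2 < a' := by
    by_contra hcon
    push Not at hcon
    interval_cases a' <;> omega
  have hb3 : 2 < b := by
    by_contra hcon
    push Not at hcon
    interval_cases b <;> omega
  have hab : a' ≠ b := by
    rintro rfl
    omega
  have hn60 : 60 ≤ n := by
    have := D.sum_le {1, 2, a', b} (by
      intro m hm
      simp only [Finset.mem_insert, Finset.mem_singleton] at hm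
      rcases hm with rfl | rfl | rfl | rfl <;> omega)
    rw [Finset.sum_insert (by simp; omega), Finset.sum_insert (by simp; omega),
      Finset.sum_insert (by simp; omega), Finset.sum_singleton] at this
    omega
  -- 3 ∣ n → ¬ 8 ∣ n
  have h8n : 3 ∣ n → ¬ 8 ∣ n := by
    intro h3 h8
    have s3 := hs3 h3
    have h6 : 6 ∣ n := Nat.Coprime.mul_dvd_of_dvd_of_dvd (by norm_num : Nat.Coprime 2 3) h2n h3
    have h12 : 12 ∣ n := Nat.Coprime.mul_dvd_of_dvd_of_dvd (by norm_num : Nat.Coprime 4 3) h4n h3
    have h24' : 24 ∣ n := Nat.Coprime.mul_dvd_of_dvd_of_dvd (by norm_num : Nat.Coprime 8 3) h8 h3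
    have hF6 := D.frob 6 h6
    have hF12 := D.frob 12 h12
    have hF8 := D.frob 8 h8
    have hF24 := D.frob 24 h24'
    simp only [Nat.divisors_ofNat] at hF6 hF12 hF8 hF24
    simp (decide := true) only [Finset.sum_insert, Finset.mem_insert, Finset.mem_singleton,
      Finset.sum_singleton, not_false_eq_true] at hF6 hF12 hF8 hF24
    have t24 : 8 ∣ s 24 := by
      have := D.tot 24
      rwa [show Nat.totient 24 = 8 by decide] at this
    have c6 : s 6 = 0 ∨ s 6 = 24 := by
      rcases hge 6 (by norm_num) with h | h | h <;> omega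
    have c4 : s 4 = 0 ∨ s 4 = 24 := by
      rcases hge 4 (by norm_num) with h | h | h <;> rcases hge 12 (by norm_num) with h' | h' | h' <;>
        rcases c6 with h'' | h'' <;> omega
    have c12 : s 12 = 0 ∨ s 12 = 24 := by
      rcases hge 12 (by norm_num) with h' | h' | h' <;> rcases c4 with h | h <;>
        rcases c6 with h'' | h'' <;> omega
    have c8 : s 8 = 0 ∨ s 8 = 24 := by
      rcases hge 8 (by norm_num) with h' | h' | h' <;> rcases c4 with h | h <;> omega
    have c24 : s 24 = 0 ∨ s 24 = 24 := by
      rcases hge 24 (by norm_num) with h' | h' | h' <;> omega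
    rcases c4 with h4 | h4 <;> rcases c6 with h6' | h6' <;> rcases c8 with h8' | h8' <;>
      rcases c12 with h12' | h12' <;> rcases c24 with h24'' | h24'' <;> omega
  -- ¬ 25 ∣ n
  have h25n : ¬ 25 ∣ n := by
    intro h
    have h5 : 5 ∣ n := Dvd.dvd.trans (by norm_num) h
    have s5 := hs5 h5
    have h50 : 50 ∣ n := Nat.Coprime.mul_dvd_of_dvd_of_dvd (by norm_num : Nat.Coprime 2 25) h2n h
    have hF25 := D.frob 25 h
    have hF50 := D.frob 50 h50
    simp only [Nat.divisors_ofNat] at hF25 hF50
    simp (decide := true) only [Finset.sum_insert, Finset.mem_insert, Finset.mem_singleton,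
      Finset.sum_singleton, not_false_eq_true] at hF25 hF50
    have t25 : 20 ∣ s 25 := by
      have := D.tot 25
      rwa [show Nat.totient 25 = 20 by decide] at this
    have z25 : s 25 = 0 := by
      rcases hge 25 (by norm_num) with h' | h' | h' <;> omega
    have z50 : s 50 = 0 := D.eq_zero_of_dvd z25 (by norm_num)
    rcases hge 10 (by norm_num) with h' | h' | h' <;> omega
  -- ¬ 27 ∣ n
  have h27n : ¬ 27 ∣ n := by
    intro h
    have h3 : 3 ∣ n := Dvd.dvd.trans (by norm_num) h
    have h9 : 9 ∣ n := Dvd.dvd.trans (by norm_num) h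
    have s3 := hs3 h3
    have hF9 := D.frob 9 h9
    have hF27 := D.frob 27 h
    simp only [Nat.divisors_ofNat] at hF9 hF27
    simp (decide := true) only [Finset.sum_insert, Finset.mem_insert, Finset.mem_singleton,
      Finset.sum_singleton, not_false_eq_true] at hF9 hF27
    have t9 : 6 ∣ s 9 := by
      have := D.tot 9
      rwa [show Nat.totient 9 = 6 by decide] at this
    have t27 : 18 ∣ s 27 := by
      have := D.tot 27
      rwa [show Nat.totient 27 = 18 by decide] at this
    rcases hge 9 (by norm_num) with h' | h' | h' <;> rcases hge 27 (by norm_num) with h'' | h'' | h'' <;>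
      omega
  -- the main case
  have key : 3 ∣ n → 5 ∣ n → n = 60 ∧ s 10 = 0 := by
    intro h3 h5
    have s3 := hs3 h3
    have s5 := hs5 h5
    have h6 : 6 ∣ n := Nat.Coprime.mul_dvd_of_dvd_of_dvd (by norm_num : Nat.Coprime 2 3) h2n h3
    have h10 : 10 ∣ n := Nat.Coprime.mul_dvd_of_dvd_of_dvd (by norm_num : Nat.Coprime 2 5) h2n h5
    have h15' : 15 ∣ n := Nat.Coprime.mul_dvd_of_dvd_of_dvd (by norm_num : Nat.Coprime 3 5) h3 h5
    have h30 : 30 ∣ n := Nat.Coprime.mul_dvd_of_dvd_of_dvd (by norm_num : Nat.Coprime 2 15) h2n h15'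
    have h12 : 12 ∣ n := Nat.Coprime.mul_dvd_of_dvd_of_dvd (by norm_num : Nat.Coprime 4 3) h4n h3
    have h20' : 20 ∣ n := Nat.Coprime.mul_dvd_of_dvd_of_dvd (by norm_num : Nat.Coprime 4 5) h4n h5
    have hF6 := D.frob 6 h6
    have hF10 := D.frob 10 h10
    have hF15 := D.frob 15 h15'
    have hF30 := D.frob 30 h30
    have hF12 := D.frob 12 h12
    have hF20 := D.frob 20 h20'
    simp only [Nat.divisors_ofNat] at hF6 hF10 hF15 hF30 hF12 hF20
    simp (decide := true) only [Finset.sum_insert, Finset.mem_insert, Finset.mem_singleton,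
      Finset.sum_singleton, not_false_eq_true] at hF6 hF10 hF15 hF30 hF12 hF20
    have t15 : 8 ∣ s 15 := by
      have := D.tot 15
      rwa [show Nat.totient 15 = 8 by decide] at this
    have z15 : s 15 = 0 := by
      rcases hge 15 (by norm_num) with h' | h' | h' <;> omega
    have z30 : s 30 = 0 := D.eq_zero_of_dvd z15 (by norm_num)
    have z6 : s 6 = 0 := by
      rcases hge 6 (by norm_num) with h' | h' | h' <;> rcases hge 10 (by norm_num) with h'' | h'' | h'' <;>
        omega
    have z10 : s 10 = 0 := by
      rcases hge 10 (by norm_num) with h'' | h'' | h'' <;> omega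
    have z12 : s 12 = 0 := D.eq_zero_of_dvd z6 (by norm_num)
    have z20 : s 20 = 0 := D.eq_zero_of_dvd z10 (by norm_num)
    have z4 : s 4 = 0 := by
      rcases hge 4 (by norm_num) with h' | h' | h' <;> omega
    have z9 : s 9 = 0 := by
      by_contra hne
      have h9 : 9 ∣ n := D.dvd 9 (Nat.pos_of_ne_zero hne)
      have h18 : 18 ∣ n := Nat.Coprime.mul_dvd_of_dvd_of_dvd (by norm_num : Nat.Coprime 2 9) h2n h9
      have hF9 := D.frob 9 h9
      have hF18 := D.frob 18 h18
      simp only [Nat.divisors_ofNat] at hF9 hF18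
      simp (decide := true) only [Finset.sum_insert, Finset.mem_insert, Finset.mem_singleton,
        Finset.sum_singleton, not_false_eq_true] at hF9 hF18
      have t9 : 6 ∣ s 9 := by
        have := D.tot 9
        rwa [show Nat.totient 9 = 6 by decide] at this
      have z18 : s 18 = 0 := D.eq_zero_of_dvd z6 (by norm_num)
      rcases hge 9 (by norm_num) with h' | h' | h' <;> omega
    have z25 : s 25 = 0 := by
      by_contra hne
      exact h25n (D.dvd 25 (Nat.pos_of_ne_zero hne))
    have hall : ∀ m, 0 < s m → m ∈ ({1, 2, 3, 5} : Finset ℕ) := by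
      intro m hm
      by_contra hnot
      simp only [Finset.mem_insert, Finset.mem_singleton, not_or] at hnot
      obtain ⟨hm1, hm2, hm3, hm5⟩ := hnot
      have hm0 : m ≠ 0 := by
        rintro rfl
        omega
      have hp : m.minFac.Prime := Nat.minFac_prime hm1
      have hpm : m.minFac ∣ m := Nat.minFac_dvd m
      have hsp : 0 < s m.minFac := D.closed m _ hm hpm
      have hpn : m.minFac ∣ n := D.dvd _ hsp
      obtain ⟨k, hk⟩ := hpm
      have hk1 : k ≠ 1 := by
        rintro rfl
        rw [mul_one] at hk
        rcases hpr _ hp hpn with h' | h' | h' <;> omega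
      have hk0 : k ≠ 0 := by
        rintro rfl
        rw [mul_zero] at hk
        exact hm0 hk
      have hq : k.minFac.Prime := Nat.minFac_prime hk1
      have hqk : k.minFac ∣ k := Nat.minFac_dvd k
      have hpq : m.minFac * k.minFac ∣ m := by
        conv_rhs => rw [hk]
        exact Nat.mul_dvd_mul_left _ hqk
      have hspq : 0 < s (m.minFac * k.minFac) := D.closed m _ hm hpq
      have hsq : 0 < s k.minFac := D.closed m _ hm (Dvd.dvd.trans (Dvd.intro_left _ rfl) hpq)
      have hqn : k.minFac ∣ n := D.dvd _ hsq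
      rcases hpr _ hp hpn with h' | h' | h' <;> rcases hpr _ hq hqn with h'' | h'' | h'' <;>
        simp only [h', h''] at hspq <;> norm_num at hspq <;> omega
    have htot := D.total_eq {1, 2, 3, 5} hall
    simp (decide := true) only [Finset.sum_insert, Finset.mem_insert, Finset.mem_singleton,
      Finset.sum_singleton, not_false_eq_true] at htot
    exact ⟨by omega, z10⟩
  by_cases h3 : 3 ∣ n
  · by_cases h5 : 5 ∣ n
    · obtain ⟨hn, z10⟩ := key h3 h5
      exact ⟨hn, ha, hs3 h3, hs5 h5, z10⟩
    · exfalso
      have hn36 : n ∣ 36 := by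
        apply dvd_of_prime_pow
        intro p k hp hk hpk
        have hpn : p ∣ n := (dvd_pow_self p hk.ne').trans hpk
        rcases hpr p hp hpn with rfl | ⟨rfl, -⟩ | ⟨rfl, -⟩
        · exact (pow_dvd_pow_of_not_dvd (e := 2) (by norm_num; exact h8n h3) hpk).trans
            (by norm_num)
        · exact (pow_dvd_pow_of_not_dvd (e := 2) (by norm_num; exact h27n) hpk).trans
            (by norm_num)
        · exact absurd hpn h5
      have := Nat.le_of_dvd (by norm_num) hn36
      omega
  · by_cases h5 : 5 ∣ n
    · exfalso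
      obtain ⟨k, hk, hkn⟩ := D.syl 5 Nat.prime_five h5 (by norm_num; exact h25n)
      rw [hs5 h5] at hk
      have hk6 : k = 6 := by omega
      rw [hk6] at hkn
      exact h3 (Dvd.dvd.trans (by norm_num) hkn)
    · exfalso
      have hpow : n = 2 ^ n.primeFactorsList.length := by
        apply Nat.eq_prime_pow_of_unique_prime_dvd D.pos.ne'
        intro d hd hdn
        rcases hpr d hd hdn with h' | ⟨rfl, -⟩ | ⟨rfl, -⟩
        · exact h'
        · exact absurd hdn h3
        · exact absurd hdn h5
      set t := n.primeFactorsList.length with ht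
      have ht6 : 6 ≤ t := by
        by_contra hcon
        push Not at hcon
        have : 2 ^ t ≤ 2 ^ 5 := Nat.pow_le_pow_right (by norm_num) (by omega)
        rw [← hpow] at this
        omega
      have h64 : 64 ∣ n := by
        rw [hpow]
        exact pow_dvd_pow 2 ht6
      have hF := D.frob 64 h64
      simp only [Nat.divisors_ofNat] at hF
      simp (decide := true) only [Finset.sum_insert, Finset.mem_insert, Finset.mem_singleton,
        Finset.sum_singleton, not_false_eq_true] at hF
      have t16 : 8 ∣ s 16 := by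
        have := D.tot 16
        rwa [show Nat.totient 16 = 8 by decide] at this
      have t32 : 16 ∣ s 32 := by
        have := D.tot 32
        rwa [show Nat.totient 32 = 16 by decide] at this
      have t64 : 32 ∣ s 64 := by
        have := D.tot 64
        rwa [show Nat.totient 64 = 32 by decide] at this
      have z32 : s 32 = 0 := by
        rcases hge 32 (by norm_num) with h' | h' | h' <;> omega
      have z64 : s 64 = 0 := by
        rcases hge 64 (by norm_num) with h' | h' | h' <;> omega
      have hadvd : a' ∣ 2 ^ t := by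
        rw [← hpow]
        exact D.dvd a' (by omega)
      obtain ⟨j, hj, rfl⟩ := (Nat.dvd_prime_pow Nat.prime_two).mp hadvd
      rcases Nat.lt_or_ge j 5 with hj5 | hj5
      · interval_cases j
        · norm_num at ha3
        · norm_num at ha3
        · norm_num at ha'
          rcases hge 8 (by norm_num) with h' | h' | h' <;>
            rcases hge 16 (by norm_num) with h'' | h'' | h'' <;> omega
        · norm_num at ha'
          rcases hge 4 (by norm_num) with h' | h' | h' <;>
            rcases hge 16 (by norm_num) with h'' | h'' | h'' <;> omega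
        · norm_num at ha'
          omega
      · have : 0 < s 32 := D.closed (2 ^ j) 32 (by rw [ha']; norm_num) (by
          have : (32 : ℕ) = 2 ^ 5 := by norm_num
          rw [this]
          exact pow_dvd_pow 2 hj5)
        omega

end Cfsg.Agent.Lib.Helper9.Nse
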