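import Mathlib
import Cfsg.Agent.Lib.Helper9.Nse1

/-!
# `nse = {1, 45, 80, 90, 144}` forces order `360`
-/

set_option autoImplicit false

namespace Cfsg.Agent.Lib.Helper9.Nse

variable {s : ℕ → ℕ} {n : ℕ}

/-- the common context of the `A₆` computation -/
structure A6Ctx (s : ℕ → ℕ) (n : ℕ) : Prop where
  D : Data s n
  hge : ∀ m, 2 < m → s m = 0 ∨ s m = 80 ∨ s m = 90 ∨ s m = 144
  ha : s 2 = 45
  h2n : 2 ∣ n
  hpr : ∀ p, p.Prime → p ∣ n →
      p = 2 ∨ (p = 3 ∧ s 3 = 80) ∨ (p = 5 ∧ s 5 = 144) ∨ (p = 7 ∧ s 7 = 90)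
  hs3 : 3 ∣ n → s 3 = 80
  hs5 : 5 ∣ n → s 5 = 144
  hs7 : 7 ∣ n → s 7 = 90
  hn360 : 360 ≤ n

set_option maxHeartbeats 1600000 in
theorem A6Ctx.hs4 (C : A6Ctx s n) : 4 ∣ n → s 4 = 90 := by
  have D := C.D
  have hge := C.hge
  have ha := C.ha
  have h2n := C.h2n
  have hpr := C.hpr
  have hs3 := C.hs3
  have hs5 := C.hs5
  have hs7 := C.hs7
  have hn360 := C.hn360
  have h0 := D.zero
  have h1 := D.one
  intro h
  have hF := D.frob 4 h
  simp only [Nat.divisors_ofNat] at hF
  simp (decide := true) only [Finset.sum_insert, Finset.mem_insert, Finset.mem_singleton,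
    Finset.sum_singleton, not_false_eq_true] at hF
  rcases hge 4 (by norm_num) with h' | h' | h' | h' <;> omega

set_option maxHeartbeats 1600000 in
theorem A6Ctx.h16 (C : A6Ctx s n) : ¬ 16 ∣ n := by
  have D := C.D
  have hge := C.hge
  have ha := C.ha
  have h2n := C.h2n
  have hpr := C.hpr
  have hs3 := C.hs3
  have hs5 := C.hs5
  have hs7 := C.hs7
  have hn360 := C.hn360
  have h0 := D.zero
  have h1 := D.one
  have hs4 := C.hs4
  intro h
  have h4 : 4 ∣ n := Dvd.dvd.trans (by norm_num) h
  have s4 := hs4 h4
  have hF := D.frob 16 h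
  simp only [Nat.divisors_ofNat] at hF
  simp (decide := true) only [Finset.sum_insert, Finset.mem_insert, Finset.mem_singleton,
    Finset.sum_singleton, not_false_eq_true] at hF
  have t8 : 4 ∣ s 8 := by
    have := D.tot 8
    rwa [show Nat.totient 8 = 4 by decide] at this
  have t16 : 8 ∣ s 16 := by
    have := D.tot 16
    rwa [show Nat.totient 16 = 8 by decide] at this
  rcases hge 8 (by norm_num) with h' | h' | h' | h' <;>
    rcases hge 16 (by norm_num) with h'' | h'' | h'' | h'' <;> omega

set_option maxHeartbeats 1600000 in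
theorem A6Ctx.h7 (C : A6Ctx s n) : ¬ 7 ∣ n := by
  have D := C.D
  have hge := C.hge
  have ha := C.ha
  have h2n := C.h2n
  have hpr := C.hpr
  have hs3 := C.hs3
  have hs5 := C.hs5
  have hs7 := C.hs7
  have hn360 := C.hn360
  have h0 := D.zero
  have h1 := D.one
  intro h
  have s7 := hs7 h
  have h49 : ¬ 49 ∣ n := by
    intro h49
    have hF := D.frob 49 h49
    simp only [Nat.divisors_ofNat] at hF
    simp (decide := true) only [Finset.sum_insert, Finset.mem_insert, Finset.mem_singleton,
      Finset.sum_singleton, not_false_eq_true] at hF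
    have t49 : 42 ∣ s 49 := by
      have := D.tot 49
      rwa [show Nat.totient 49 = 42 by decide] at this
    rcases hge 49 (by norm_num) with h' | h' | h' | h' <;> omega
  obtain ⟨k, hk, hkn⟩ := D.syl 7 (by norm_num) h (by norm_num; exact h49)
  rw [s7] at hk
  have hk15 : k = 15 := by omega
  rw [hk15] at hkn
  have h5 : 5 ∣ n := Dvd.dvd.trans (by norm_num) hkn
  have s5 := hs5 h5
  have h35 : 35 ∣ n := Nat.Coprime.mul_dvd_of_dvd_of_dvd (by norm_num : Nat.Coprime 5 7) h5 h
  have hF := D.frob 35 h35
  simp only [Nat.divisors_ofNat] at hF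
  simp (decide := true) only [Finset.sum_insert, Finset.mem_insert, Finset.mem_singleton,
    Finset.sum_singleton, not_false_eq_true] at hF
  have t35 : 24 ∣ s 35 := by
    have := D.tot 35
    rwa [show Nat.totient 35 = 24 by decide] at this
  rcases hge 35 (by norm_num) with h' | h' | h' | h' <;> omega

set_option maxHeartbeats 1600000 in
theorem A6Ctx.h25 (C : A6Ctx s n) : ¬ 25 ∣ n := by
  have D := C.D
  have hge := C.hge
  have ha := C.ha
  have h2n := C.h2n
  have hpr := C.hpr
  have hs3 := C.hs3
  have hs5 := C.hs5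
  have hs7 := C.hs7
  have hn360 := C.hn360
  have h0 := D.zero
  have h1 := D.one
  have hs4 := C.hs4
  have h7 := C.h7
  intro h
  have h5 : 5 ∣ n := Dvd.dvd.trans (by norm_num) h
  have s5 := hs5 h5
  have h50 : 50 ∣ n := Nat.Coprime.mul_dvd_of_dvd_of_dvd (by norm_num : Nat.Coprime 2 25) h2n h
  have hF25 := D.frob 25 h
  have hF50 := D.frob 50 h50
  simp only [Nat.divisors_ofNat] at hF25 hF50
  simp (decide := true) only [Finset.sum_insert, Finset.mem_insert, Finset.mem_singleton,
    Finset.sum_singleton, not_false_eq_true] at hF25 hF50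
  have t25 : 20 ∣ s 25 := by
    have := D.tot 25
    rwa [show Nat.totient 25 = 20 by decide] at this
  have t10 : 4 ∣ s 10 := by
    have := D.tot 10
    rwa [show Nat.totient 10 = 4 by decide] at this
  have t50 : 20 ∣ s 50 := by
    have := D.tot 50
    rwa [show Nat.totient 50 = 20 by decide] at this
  have s25 : s 25 = 80 := by
    have k := hge 25 (by norm_num)
    clear * - k hF25 t25 h1 s5
    rcases k with h' | h' | h' | h' <;> omega
  have c50 : 0 < s 50 → 0 < s 10 := fun hh => D.closed 50 10 hh (by norm_num)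
  have s10 : s 10 = 80 ∧ s 50 = 0 := by
    have k := hge 10 (by norm_num)
    have k' := hge 50 (by norm_num)
    clear * - k k' hF50 t10 t50 h1 s5 ha s25 c50
    rcases k with h' | h' | h' | h' <;>
      rcases k' with h'' | h'' | h'' | h'' <;> omega
  by_cases h4 : 4 ∣ n
  · have s4 := hs4 h4
    have h100 : 100 ∣ n :=
      Nat.Coprime.mul_dvd_of_dvd_of_dvd (by norm_num : Nat.Coprime 4 25) h4 h
    have hF := D.frob 100 h100
    simp only [Nat.divisors_ofNat] at hF
    simp (decide := true) only [Finset.sum_insert, Finset.mem_insert, Finset.mem_singleton,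
      Finset.sum_singleton, not_false_eq_true] at hF
    have z100 : s 100 = 0 := D.eq_zero_of_dvd s10.2 (by norm_num)
    have t20 : 8 ∣ s 20 := by
      have := D.tot 20
      rwa [show Nat.totient 20 = 8 by decide] at this
    have k := hge 20 (by norm_num)
    clear * - k hF h1 ha s4 s5 s10 s25 z100 t20
    rcases k with h' | h' | h' | h' <;> omega
  · have h125 : ¬ 125 ∣ n := by
      intro h125
      have hF := D.frob 125 h125
      simp only [Nat.divisors_ofNat] at hF
      simp (decide := true) only [Finset.sum_insert, Finset.mem_insert, Finset.mem_singleton,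
        Finset.sum_singleton, not_false_eq_true] at hF
      have t125 : 100 ∣ s 125 := by
        have := D.tot 125
        rwa [show Nat.totient 125 = 100 by
          rw [show (125:ℕ) = 5 ^ 3 by norm_num,
            Nat.totient_prime_pow Nat.prime_five (by norm_num)]; norm_num] at this
      have k := hge 125 (by norm_num)
      clear * - k hF h1 s5 s25 t125
      rcases k with h' | h' | h' | h' <;> omega
    have h9 : 9 ∣ n := by
      by_contra h9
      have hn150 : n ∣ 150 := by
        apply dvd_of_prime_pow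
        intro p k hp hk hpk
        have hpn : p ∣ n := (dvd_pow_self p hk.ne').trans hpk
        rcases hpr p hp hpn with rfl | ⟨rfl, -⟩ | ⟨rfl, -⟩ | ⟨rfl, -⟩
        · exact (pow_dvd_pow_of_not_dvd (e := 1) (by norm_num; exact h4) hpk).trans
            (by norm_num)
        · exact (pow_dvd_pow_of_not_dvd (e := 1) (by norm_num; exact h9) hpk).trans
            (by norm_num)
        · exact (pow_dvd_pow_of_not_dvd (e := 2) (by norm_num; exact h125) hpk).trans
            (by norm_num)
        · exact absurd hpn h7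
      have := Nat.le_of_dvd (by norm_num) hn150
      clear * - this hn360
      omega
    have h3 : 3 ∣ n := Dvd.dvd.trans (by norm_num) h9
    have s3 := hs3 h3
    have h15 : 15 ∣ n := Nat.Coprime.mul_dvd_of_dvd_of_dvd (by norm_num : Nat.Coprime 3 5) h3 h5
    have h225 : 225 ∣ n :=
      Nat.Coprime.mul_dvd_of_dvd_of_dvd (by norm_num : Nat.Coprime 9 25) h9 h
    have hF15 := D.frob 15 h15
    have hF225 := D.frob 225 h225
    simp only [Nat.divisors_ofNat] at hF15 hF225
    simp (decide := true) only [Finset.sum_insert, Finset.mem_insert, Finset.mem_singleton,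
      Finset.sum_singleton, not_false_eq_true] at hF15 hF225
    have t15 : 8 ∣ s 15 := by
      have := D.tot 15
      rwa [show Nat.totient 15 = 8 by decide] at this
    have z15 : s 15 = 0 := by
      have k := hge 15 (by norm_num)
      clear * - k hF15 h1 s3 s5 t15
      rcases k with h' | h' | h' | h' <;> omega
    have z45 : s 45 = 0 := D.eq_zero_of_dvd z15 (by norm_num)
    have z75 : s 75 = 0 := D.eq_zero_of_dvd z15 (by norm_num)
    have z225 : s 225 = 0 := D.eq_zero_of_dvd z15 (by norm_num)
    have t9 : 6 ∣ s 9 := by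
      have := D.tot 9
      rwa [show Nat.totient 9 = 6 by decide] at this
    have k := hge 9 (by norm_num)
    clear * - k hF225 h1 s3 s5 s25 z15 z45 z75 z225 t9
    rcases k with h' | h' | h' | h' <;> omega

set_option maxHeartbeats 1600000 in
theorem A6Ctx.h27 (C : A6Ctx s n) (a90 a144 : ℕ) (ha90 : s a90 = 90) (ha144 : s a144 = 144)
    (g90 : 2 < a90) (g144 : 2 < a144) : ¬ 27 ∣ n := by
  have D := C.D
  have hge := C.hge
  have ha := C.ha
  have h2n := C.h2n
  have hpr := C.hpr
  have hs3 := C.hs3
  have hs5 := C.hs5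
  have hs7 := C.hs7
  have hn360 := C.hn360
  have h0 := D.zero
  have h1 := D.one
  have hs4 := C.hs4
  have h7 := C.h7
  intro h
  have h3 : 3 ∣ n := Dvd.dvd.trans (by norm_num) h
  have s3 := hs3 h3
  have hF27 := D.frob 27 h
  simp only [Nat.divisors_ofNat] at hF27
  simp (decide := true) only [Finset.sum_insert, Finset.mem_insert, Finset.mem_singleton,
    Finset.sum_singleton, not_false_eq_true] at hF27
  have t9 : 6 ∣ s 9 := by
    have := D.tot 9
    rwa [show Nat.totient 9 = 6 by decide] at this
  have t27 : 18 ∣ s 27 := by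
    have := D.tot 27
    rwa [show Nat.totient 27 = 18 by decide] at this
  have z9 : s 9 = 0 := by
    rcases hge 9 (by norm_num) with h' | h' | h' | h' <;>
      rcases hge 27 (by norm_num) with h'' | h'' | h'' | h'' <;> omega
  have z27 : s 27 = 0 := D.eq_zero_of_dvd z9 (by norm_num)
  have h5 : ¬ 5 ∣ n := by
    intro h5
    have s5 := hs5 h5
    have h135 : 135 ∣ n :=
      Nat.Coprime.mul_dvd_of_dvd_of_dvd (by norm_num : Nat.Coprime 27 5) h h5
    have hF := D.frob 135 h135
    simp only [Nat.divisors_ofNat] at hF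
    simp (decide := true) only [Finset.sum_insert, Finset.mem_insert, Finset.mem_singleton,
      Finset.sum_singleton, not_false_eq_true] at hF
    have z45 : s 45 = 0 := D.eq_zero_of_dvd z9 (by norm_num)
    have z135 : s 135 = 0 := D.eq_zero_of_dvd z9 (by norm_num)
    have t15 : 8 ∣ s 15 := by
      have := D.tot 15
      rwa [show Nat.totient 15 = 8 by decide] at this
    rcases hge 15 (by norm_num) with h' | h' | h' | h' <;> omega
  have h54 : 54 ∣ n := Nat.Coprime.mul_dvd_of_dvd_of_dvd (by norm_num : Nat.Coprime 2 27) h2n h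
  have hF54 := D.frob 54 h54
  simp only [Nat.divisors_ofNat] at hF54
  simp (decide := true) only [Finset.sum_insert, Finset.mem_insert, Finset.mem_singleton,
    Finset.sum_singleton, not_false_eq_true] at hF54
  have z18 : s 18 = 0 := D.eq_zero_of_dvd z9 (by norm_num)
  have z54 : s 54 = 0 := D.eq_zero_of_dvd z9 (by norm_num)
  have c6 : s 6 = 90 ∨ s 6 = 144 := by
    rcases hge 6 (by norm_num) with h' | h' | h' | h' <;> omega
  by_cases h4 : 4 ∣ n
  · have s4 := hs4 h4
    have h12 : 12 ∣ n := Nat.Coprime.mul_dvd_of_dvd_of_dvd (by norm_num : Nat.Coprime 4 3) h4 h3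
    have h108 : 108 ∣ n :=
      Nat.Coprime.mul_dvd_of_dvd_of_dvd (by norm_num : Nat.Coprime 4 27) h4 h
    have hF12 := D.frob 12 h12
    have hF108 := D.frob 108 h108
    simp only [Nat.divisors_ofNat] at hF12 hF108
    simp (decide := true) only [Finset.sum_insert, Finset.mem_insert, Finset.mem_singleton,
      Finset.sum_singleton, not_false_eq_true] at hF12 hF108
    have z36 : s 36 = 0 := D.eq_zero_of_dvd z9 (by norm_num)
    have z108 : s 108 = 0 := D.eq_zero_of_dvd z9 (by norm_num)
    have t12 : 4 ∣ s 12 := by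
      have := D.tot 12
      rwa [show Nat.totient 12 = 4 by decide] at this
    rcases c6 with h6 | h6 <;> rcases hge 12 (by norm_num) with h' | h' | h' | h' <;> omega
  · -- every order that occurs divides 6
    have hsix : ∀ m, 0 < s m → m ∣ 6 := by
      intro m hm
      apply dvd_of_prime_pow
      intro p k hp hk hpk
      have hmn : m ∣ n := D.dvd m hm
      have hpkn : p ^ k ∣ n := hpk.trans hmn
      have hpn : p ∣ n := (dvd_pow_self p hk.ne').trans hpkn
      rcases hpr p hp hpn with rfl | ⟨rfl, -⟩ | ⟨rfl, -⟩ | ⟨rfl, -⟩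
      · exact (pow_dvd_pow_of_not_dvd (e := 1) (by norm_num; exact h4) hpkn).trans
          (by norm_num)
      · have h9m : ¬ 3 ^ (1 + 1) ∣ m := by
          intro h9m
          have : s m = 0 := D.eq_zero_of_dvd z9 (by norm_num at h9m; exact h9m)
          omega
        exact (pow_dvd_pow_of_not_dvd (e := 1) h9m hpk).trans (by norm_num)
      · exact absurd hpn h5
      · exact absurd hpn h7
    have e90 : a90 = 6 := by
      have hd := hsix a90 (by omega)
      have hle := Nat.le_of_dvd (by norm_num) hd
      interval_cases a90 <;> omega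
    have e144 : a144 = 6 := by
      have hd := hsix a144 (by omega)
      have hle := Nat.le_of_dvd (by norm_num) hd
      interval_cases a144 <;> omega
    subst e90
    subst e144
    rw [ha90] at ha144
    exact absurd ha144 (by norm_num)

set_option maxHeartbeats 1600000 in
theorem a6_arith (D : Data s n)
    (hv : ∀ m, s m = 0 ∨ s m = 1 ∨ s m = 45 ∨ s m = 80 ∨ s m = 90 ∨ s m = 144)
    (h45 : ∃ m, s m = 45) (h80 : ∃ m, s m = 80) (h90 : ∃ m, s m = 90) (h144 : ∃ m, s m = 144) :
    n = 360 ∧ s 2 = 45 ∧ s 3 = 80 ∧ s 5 = 144 ∧ s 10 = 0 ∧ s 15 = 0 := by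
  have h0 := D.zero
  have h1 := D.one
  have hge : ∀ m, 2 < m → s m = 0 ∨ s m = 80 ∨ s m = 90 ∨ s m = 144 := by
    intro m hm
    have := D.even hm
    rcases hv m with h | h | h | h | h | h <;> omega
  obtain ⟨a, ha⟩ := h45
  have ha2 : a = 2 := by
    by_contra hne
    rcases Nat.lt_or_ge 2 a with h | h
    · rcases hge a h with h' | h' | h' | h' <;> omega
    · interval_cases a <;> omega
  rw [ha2] at ha
  have h2n : 2 ∣ n := D.dvd 2 (by omega)
  have hpr : ∀ p, p.Prime → p ∣ n →
      p = 2 ∨ (p = 3 ∧ s 3 = 80) ∨ (p = 5 ∧ s 5 = 144) ∨ (p = 7 ∧ s 7 = 90) := by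
    intro p hp hpn
    by_cases h2 : p = 2
    · left; exact h2
    right
    have hp3 : 2 < p := lt_of_le_of_ne hp.two_le (Ne.symm h2)
    have hpos := D.prime p hp hpn
    have hF := D.frob_prime hp hpn
    have ht := D.tot p
    rw [Nat.totient_prime hp] at ht
    rcases hge p hp3 with h | h | h | h
    · omega
    · rw [h] at hF
      have h81 : p ∣ 3 ^ 4 := by norm_num; exact hF
      have := (Nat.prime_dvd_prime_iff_eq hp Nat.prime_three).mp (hp.dvd_of_dvd_pow h81)
      left; exact ⟨this, this ▸ h⟩
    · rw [h] at hF ht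
      have h91 : p ∣ 7 * 13 := by norm_num; exact hF
      rcases (Nat.Prime.dvd_mul hp).mp h91 with h' | h'
      · have := (Nat.prime_dvd_prime_iff_eq hp (by norm_num : Nat.Prime 7)).mp h'
        right; right; exact ⟨this, this ▸ h⟩
      · have := (Nat.prime_dvd_prime_iff_eq hp (by norm_num : Nat.Prime 13)).mp h'
        rw [this] at ht
        omega
    · rw [h] at hF ht
      have h145 : p ∣ 5 * 29 := by norm_num; exact hF
      rcases (Nat.Prime.dvd_mul hp).mp h145 with h' | h'
      · have := (Nat.prime_dvd_prime_iff_eq hp Nat.prime_five).mp h'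
        right; left; exact ⟨this, this ▸ h⟩
      · have := (Nat.prime_dvd_prime_iff_eq hp (by norm_num : Nat.Prime 29)).mp h'
        rw [this] at ht
        omega
  have hs3 : 3 ∣ n → s 3 = 80 := by
    intro h
    rcases hpr 3 Nat.prime_three h with h' | h' | h' | h'
    · omega
    · exact h'.2
    · omega
    · omega
  have hs5 : 5 ∣ n → s 5 = 144 := by
    intro h
    rcases hpr 5 Nat.prime_five h with h' | h' | h' | h'
    · omega
    · omega
    · exact h'.2
    · omega
  have hs7 : 7 ∣ n → s 7 = 90 := by
    intro h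
    rcases hpr 7 (by norm_num) h with h' | h' | h' | h'
    · omega
    · omega
    · omega
    · exact h'.2
  obtain ⟨a80, ha80⟩ := h80
  obtain ⟨a90, ha90⟩ := h90
  obtain ⟨a144, ha144⟩ := h144
  have g80 : 2 < a80 := by
    by_contra hcon
    push Not at hcon
    interval_cases a80 <;> omega
  have g90 : 2 < a90 := by
    by_contra hcon
    push Not at hcon
    interval_cases a90 <;> omega
  have g144 : 2 < a144 := by
    by_contra hcon
    push Not at hcon
    interval_cases a144 <;> omega
  have d1 : a80 ≠ a90 := by rintro rfl; omega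
  have d2 : a80 ≠ a144 := by rintro rfl; omega
  have d3 : a90 ≠ a144 := by rintro rfl; omega
  have hn360 : 360 ≤ n := by
    have := D.sum_le {1, 2, a80, a90, a144} (by
      intro m hm
      simp only [Finset.mem_insert, Finset.mem_singleton] at hm
      rcases hm with rfl | rfl | rfl | rfl | rfl <;> omega)
    rw [Finset.sum_insert (by simp; omega), Finset.sum_insert (by simp; omega),
      Finset.sum_insert (by simp; omega), Finset.sum_insert (by simp; omega),
      Finset.sum_singleton] at this
    omega
  have C : A6Ctx s n := ⟨D, hge, ha, h2n, hpr, hs3, hs5, hs7, hn360⟩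
  have hs4 := C.hs4
  have h16 := C.h16
  have h7 := C.h7
  have h25 := C.h25
  have h27 := C.h27 a90 a144 ha90 ha144 g90 g144
  have hn360' : n ∣ 360 := by
    apply dvd_of_prime_pow
    intro p k hp hk hpk
    have hpn : p ∣ n := (dvd_pow_self p hk.ne').trans hpk
    rcases hpr p hp hpn with rfl | ⟨rfl, -⟩ | ⟨rfl, -⟩ | ⟨rfl, -⟩
    · exact (pow_dvd_pow_of_not_dvd (e := 3) (by norm_num; exact h16) hpk).trans (by norm_num)
    · exact (pow_dvd_pow_of_not_dvd (e := 2) (by norm_num; exact h27) hpk).trans (by norm_num)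
    · exact (pow_dvd_pow_of_not_dvd (e := 1) (by norm_num; exact h25) hpk).trans (by norm_num)
    · exact absurd hpn h7
  have hn : n = 360 := by
    have := Nat.le_of_dvd (by norm_num) hn360'
    omega
  have s3 := hs3 (by rw [hn]; norm_num)
  have s4 := hs4 (by rw [hn]; norm_num)
  have s5 := hs5 (by rw [hn]; norm_num)
  refine ⟨hn, ha, s3, s5, ?_, ?_⟩
  · by_contra hne
    have := D.sum_le {1, 2, 3, 4, 5, 10} (by
      intro m hm
      simp only [Finset.mem_insert, Finset.mem_singleton] at hm
      rcases hm with rfl | rfl | rfl | rfl | rfl | rfl <;> omega)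
    simp (decide := true) only [Finset.sum_insert, Finset.mem_insert, Finset.mem_singleton,
      Finset.sum_singleton, not_false_eq_true] at this
    omega
  · by_contra hne
    have := D.sum_le {1, 2, 3, 4, 5, 15} (by
      intro m hm
      simp only [Finset.mem_insert, Finset.mem_singleton] at hm
      rcases hm with rfl | rfl | rfl | rfl | rfl | rfl <;> omega)
    simp (decide := true) only [Finset.sum_insert, Finset.mem_insert, Finset.mem_singleton,
      Finset.sum_singleton, not_false_eq_true] at this
    omega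

end Cfsg.Agent.Lib.Helper9.Nse
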