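import Mathlib
import Cfsg.Agent.Lib.Helper7.SameOrd2

/-!
# The multiset of "same-order class sizes" of `A₄`, `A₅`, `A₆`
-/

set_option autoImplicit false

namespace Cfsg.Agent.Lib.Helper9.Nse

open Cfsg.Agent.Lib.Helper7.SameOrd

/-- the set of numbers of elements of each order -/
def nse (G : Type*) [Group G] : Set ℕ :=
  (fun m : ℕ => Nat.card {g : G // orderOf g = m}) '' Set.range (orderOf : G → ℕ)

theorem s_prime_eq {H : Type*} [Group H] [Finite H] {p : ℕ} (hp : p.Prime) {c : ℕ}
    (hc : Nat.card {g : H // g ^ p = 1} = c) : s H p = c - 1 := by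
  have h1 := card_pow_eq_one (G := H) p hp.pos {1, p} (dvd_sets_prime hp)
  rw [Finset.sum_insert (by simp [hp.one_lt.ne]), Finset.sum_singleton, s_one, hc] at h1
  omega

theorem s_four_eq {H : Type*} [Group H] [Finite H] {c2 c4 : ℕ}
    (hc2 : Nat.card {g : H // g ^ 2 = 1} = c2) (hc4 : Nat.card {g : H // g ^ 4 = 1} = c4) :
    s H 4 = c4 - c2 := by
  have h1 := card_pow_eq_one (G := H) 4 (by norm_num) {1, 2, 4} dvd_sets_four
  have h2 := card_pow_eq_one (G := H) 2 (by norm_num) {1, 2} (dvd_sets_prime Nat.prime_two)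
  rw [Finset.sum_insert (by decide), Finset.sum_insert (by decide), Finset.sum_singleton, hc4] at h1
  rw [Finset.sum_insert (by decide), Finset.sum_singleton, hc2] at h2
  omega

/-! ### `A₄` -/

set_option maxRecDepth 1000000 in
theorem a4_counts : Fintype.card {g : alternatingGroup (Fin 4) // g ^ 2 = 1} = 4 ∧
    Fintype.card {g : alternatingGroup (Fin 4) // g ^ 3 = 1} = 9 := by
  decide

set_option maxRecDepth 1000000 in
theorem a4_pow : ∀ g : alternatingGroup (Fin 4), g ^ 2 = 1 ∨ g ^ 3 = 1 := by
  decide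

theorem a4_s2 : s (alternatingGroup (Fin 4)) 2 = 3 := by
  have hc : Nat.card {g : alternatingGroup (Fin 4) // g ^ 2 = 1} = 4 := by
    rw [Nat.card_eq_fintype_card]; exact a4_counts.1
  have := s_prime_eq (H := alternatingGroup (Fin 4)) Nat.prime_two hc
  simpa using this

theorem a4_s3 : s (alternatingGroup (Fin 4)) 3 = 8 := by
  have hc : Nat.card {g : alternatingGroup (Fin 4) // g ^ 3 = 1} = 9 := by
    rw [Nat.card_eq_fintype_card]; exact a4_counts.2
  have := s_prime_eq (H := alternatingGroup (Fin 4)) Nat.prime_three hc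
  simpa using this

theorem a4_range : Set.range (orderOf : alternatingGroup (Fin 4) → ℕ) = {1, 2, 3} := by
  ext k
  simp only [Set.mem_range, Set.mem_insert_iff, Set.mem_singleton_iff]
  constructor
  · rintro ⟨g, rfl⟩
    rcases a4_pow g with h | h
    · rcases (Nat.dvd_prime Nat.prime_two).mp (orderOf_dvd_of_pow_eq_one h) with h1 | h1
      · exact Or.inl h1
      · exact Or.inr (Or.inl h1)
    · rcases (Nat.dvd_prime Nat.prime_three).mp (orderOf_dvd_of_pow_eq_one h) with h1 | h1
      · exact Or.inl h1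
      · exact Or.inr (Or.inr h1)
  · rintro (rfl | rfl | rfl)
    · exact ⟨1, orderOf_one⟩
    · exact (s_pos_iff 2).mp (by rw [a4_s2]; norm_num)
    · exact (s_pos_iff 3).mp (by rw [a4_s3]; norm_num)

theorem nse_a4 : nse (alternatingGroup (Fin 4)) = {1, 3, 8} := by
  unfold nse
  rw [a4_range, Set.image_insert_eq, Set.image_insert_eq, Set.image_singleton]
  have h1 := s_one (G := alternatingGroup (Fin 4))
  have h2 := a4_s2
  have h3 := a4_s3
  unfold s at h1 h2 h3
  rw [h1, h2, h3]

/-! ### `A₅` -/

set_option maxRecDepth 1000000 in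
theorem a5_counts : Fintype.card {g : alternatingGroup (Fin 5) // g ^ 2 = 1} = 16 ∧
    Fintype.card {g : alternatingGroup (Fin 5) // g ^ 3 = 1} = 21 ∧
    Fintype.card {g : alternatingGroup (Fin 5) // g ^ 5 = 1} = 25 := by
  decide

set_option maxRecDepth 1000000 in
theorem a5_pow : ∀ g : alternatingGroup (Fin 5), g ^ 2 = 1 ∨ g ^ 3 = 1 ∨ g ^ 5 = 1 := by
  decide

theorem a5_s2 : s (alternatingGroup (Fin 5)) 2 = 15 := by
  have hc : Nat.card {g : alternatingGroup (Fin 5) // g ^ 2 = 1} = 16 := by
    rw [Nat.card_eq_fintype_card]; exact a5_counts.1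
  have := s_prime_eq (H := alternatingGroup (Fin 5)) Nat.prime_two hc
  simpa using this

theorem a5_s3 : s (alternatingGroup (Fin 5)) 3 = 20 := by
  have hc : Nat.card {g : alternatingGroup (Fin 5) // g ^ 3 = 1} = 21 := by
    rw [Nat.card_eq_fintype_card]; exact a5_counts.2.1
  have := s_prime_eq (H := alternatingGroup (Fin 5)) Nat.prime_three hc
  simpa using this

theorem a5_s5 : s (alternatingGroup (Fin 5)) 5 = 24 := by
  have hc : Nat.card {g : alternatingGroup (Fin 5) // g ^ 5 = 1} = 25 := by
    rw [Nat.card_eq_fintype_card]; exact a5_counts.2.2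
  have := s_prime_eq (H := alternatingGroup (Fin 5)) Nat.prime_five hc
  simpa using this

theorem a5_range : Set.range (orderOf : alternatingGroup (Fin 5) → ℕ) = {1, 2, 3, 5} := by
  ext k
  simp only [Set.mem_range, Set.mem_insert_iff, Set.mem_singleton_iff]
  constructor
  · rintro ⟨g, rfl⟩
    rcases a5_pow g with h | h | h
    · rcases (Nat.dvd_prime Nat.prime_two).mp (orderOf_dvd_of_pow_eq_one h) with h1 | h1
      · exact Or.inl h1
      · exact Or.inr (Or.inl h1)
    · rcases (Nat.dvd_prime Nat.prime_three).mp (orderOf_dvd_of_pow_eq_one h) with h1 | h1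
      · exact Or.inl h1
      · exact Or.inr (Or.inr (Or.inl h1))
    · rcases (Nat.dvd_prime Nat.prime_five).mp (orderOf_dvd_of_pow_eq_one h) with h1 | h1
      · exact Or.inl h1
      · exact Or.inr (Or.inr (Or.inr h1))
  · rintro (rfl | rfl | rfl | rfl)
    · exact ⟨1, orderOf_one⟩
    · exact (s_pos_iff 2).mp (by rw [a5_s2]; norm_num)
    · exact (s_pos_iff 3).mp (by rw [a5_s3]; norm_num)
    · exact (s_pos_iff 5).mp (by rw [a5_s5]; norm_num)

theorem nse_a5 : nse (alternatingGroup (Fin 5)) = {1, 15, 20, 24} := by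
  unfold nse
  rw [a5_range, Set.image_insert_eq, Set.image_insert_eq, Set.image_insert_eq, Set.image_singleton]
  have h1 := s_one (G := alternatingGroup (Fin 5))
  have h2 := a5_s2
  have h3 := a5_s3
  have h5 := a5_s5
  unfold s at h1 h2 h3 h5
  rw [h1, h2, h3, h5]

/-! ### `A₆` -/

set_option maxRecDepth 1000000 in
theorem a6_count2 : Fintype.card {g : alternatingGroup (Fin 6) // g ^ 2 = 1} = 46 := by
  decide

set_option maxRecDepth 1000000 in
theorem a6_count3 : Fintype.card {g : alternatingGroup (Fin 6) // g ^ 3 = 1} = 81 := by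
  decide

set_option maxRecDepth 1000000 in
theorem a6_count4 : Fintype.card {g : alternatingGroup (Fin 6) // g ^ 4 = 1} = 136 := by
  decide

set_option maxRecDepth 1000000 in
theorem a6_count5 : Fintype.card {g : alternatingGroup (Fin 6) // g ^ 5 = 1} = 145 := by
  decide

set_option maxRecDepth 1000000 in
theorem a6_pow : ∀ g : alternatingGroup (Fin 6), g ^ 3 = 1 ∨ g ^ 4 = 1 ∨ g ^ 5 = 1 := by
  decide

theorem a6_s2 : s (alternatingGroup (Fin 6)) 2 = 45 := by
  have hc : Nat.card {g : alternatingGroup (Fin 6) // g ^ 2 = 1} = 46 := by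
    rw [Nat.card_eq_fintype_card]; exact a6_count2
  have := s_prime_eq (H := alternatingGroup (Fin 6)) Nat.prime_two hc
  simpa using this

theorem a6_s3 : s (alternatingGroup (Fin 6)) 3 = 80 := by
  have hc : Nat.card {g : alternatingGroup (Fin 6) // g ^ 3 = 1} = 81 := by
    rw [Nat.card_eq_fintype_card]; exact a6_count3
  have := s_prime_eq (H := alternatingGroup (Fin 6)) Nat.prime_three hc
  simpa using this

theorem a6_s5 : s (alternatingGroup (Fin 6)) 5 = 144 := by
  have hc : Nat.card {g : alternatingGroup (Fin 6) // g ^ 5 = 1} = 145 := by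
    rw [Nat.card_eq_fintype_card]; exact a6_count5
  have := s_prime_eq (H := alternatingGroup (Fin 6)) Nat.prime_five hc
  simpa using this

theorem a6_s4 : s (alternatingGroup (Fin 6)) 4 = 90 := by
  have hc2 : Nat.card {g : alternatingGroup (Fin 6) // g ^ 2 = 1} = 46 := by
    rw [Nat.card_eq_fintype_card]; exact a6_count2
  have hc4 : Nat.card {g : alternatingGroup (Fin 6) // g ^ 4 = 1} = 136 := by
    rw [Nat.card_eq_fintype_card]; exact a6_count4
  have := s_four_eq (H := alternatingGroup (Fin 6)) hc2 hc4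
  simpa using this

theorem a6_range : Set.range (orderOf : alternatingGroup (Fin 6) → ℕ) = {1, 2, 3, 4, 5} := by
  ext k
  simp only [Set.mem_range, Set.mem_insert_iff, Set.mem_singleton_iff]
  constructor
  · rintro ⟨g, rfl⟩
    rcases a6_pow g with h | h | h
    · rcases (Nat.dvd_prime Nat.prime_three).mp (orderOf_dvd_of_pow_eq_one h) with h1 | h1
      · exact Or.inl h1
      · exact Or.inr (Or.inr (Or.inl h1))
    · have h2 : orderOf g ∣ 2 ^ 2 := orderOf_dvd_of_pow_eq_one h
      obtain ⟨j, hj, hj2⟩ := (Nat.dvd_prime_pow Nat.prime_two).mp h2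
      interval_cases j
      · left; simpa using hj2
      · right; left; simpa using hj2
      · right; right; right; left; simpa using hj2
    · rcases (Nat.dvd_prime Nat.prime_five).mp (orderOf_dvd_of_pow_eq_one h) with h1 | h1
      · exact Or.inl h1
      · exact Or.inr (Or.inr (Or.inr (Or.inr h1)))
  · rintro (rfl | rfl | rfl | rfl | rfl)
    · exact ⟨1, orderOf_one⟩
    · exact (s_pos_iff 2).mp (by rw [a6_s2]; norm_num)
    · exact (s_pos_iff 3).mp (by rw [a6_s3]; norm_num)
    · exact (s_pos_iff 4).mp (by rw [a6_s4]; norm_num)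
    · exact (s_pos_iff 5).mp (by rw [a6_s5]; norm_num)

theorem nse_a6 : nse (alternatingGroup (Fin 6)) = {1, 45, 80, 90, 144} := by
  unfold nse
  rw [a6_range, Set.image_insert_eq, Set.image_insert_eq, Set.image_insert_eq,
    Set.image_insert_eq, Set.image_singleton]
  have h1 := s_one (G := alternatingGroup (Fin 6))
  have h2 := a6_s2
  have h3 := a6_s3
  have h4 := a6_s4
  have h5 := a6_s5
  unfold s at h1 h2 h3 h4 h5
  rw [h1, h2, h3, h4, h5]

end Cfsg.Agent.Lib.Helper9.Nse
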