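import Mathlib
import Cfsg.Agent.Lib.Helper9.Nse1
import Cfsg.Agent.Lib.Helper9.Nse6
import Cfsg.Agent.Lib.Helper7.SameOrd4
import Cfsg.Agent.Lib.Helper1.PrimSimple7

/-!
# The counting function of a finite group satisfies `Data`
-/

set_option autoImplicit false

namespace Cfsg.Agent.Lib.Helper9.Nse

open Cfsg.Agent.Lib.Helper7.SameOrd

variable {G : Type*} [Group G] [Finite G]

theorem data_of_group : Data (s G) (Nat.card G) where
  one := s_one
  tot := totient_dvd_s
  closed := by
    intro m d hm hd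
    obtain ⟨x, hx⟩ := (s_pos_iff m).mp hm
    exact s_pos_of_dvd_orderOf (x := x) (hx ▸ hd)
  frob := by
    intro d hd
    have hpos : 0 < d := Nat.pos_of_dvd_of_pos hd Nat.card_pos
    exact frobenius_sum d hd (Nat.divisors d) (fun m => by
      rw [Nat.mem_divisors]
      exact ⟨fun h => ⟨h, hpos.ne'⟩, fun h => h.1⟩)
  dvd := fun m hm => dvd_card_of_s_pos hm
  prime := fun p hp hpn => s_prime_pos hp hpn
  total := by
    have hpos : 0 < Nat.card G := Nat.card_pos
    have h := card_pow_eq_one (G := G) (Nat.card G) hpos (Nat.divisors (Nat.card G)) (fun m => by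
      rw [Nat.mem_divisors]
      exact ⟨fun h => ⟨h, hpos.ne'⟩, fun h => h.1⟩)
    rw [← h]
    have : ∀ g : G, g ^ Nat.card G = 1 := fun g => pow_card_eq_one'
    exact Nat.card_congr (Equiv.subtypeUnivEquiv this)
  pos := Nat.card_pos
  syl := by
    intro p hp hpn hp2
    haveI := Fact.mk hp
    refine ⟨Nat.card (Sylow p G), ?_, ?_⟩
    · exact Cfsg.Agent.Lib.Helper1.PrimSimple.card_orderOf_eq_prime_sylow G p hpn hp2
    · have P : Sylow p G := default
      exact (Sylow.card_dvd_index P).trans (Subgroup.index_dvd_card _)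

/-- the values of `s G` all lie in `nse G ∪ {0}` -/
theorem s_mem_nse_or (m : ℕ) : s G m = 0 ∨ s G m ∈ nse G := by
  by_cases h : m ∈ Set.range (orderOf : G → ℕ)
  · right
    exact ⟨m, h, rfl⟩
  · left
    exact (s_eq_zero_iff m).mpr h

/-- every member of `nse G` is a value -/
theorem exists_of_mem_nse {c : ℕ} (h : c ∈ nse G) : ∃ m, s G m = c := by
  obtain ⟨m, -, hm⟩ := h
  exact ⟨m, hm⟩

end Cfsg.Agent.Lib.Helper9.Nse
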