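import Mathlib
import Cfsg.Agent.Lib.Helper9.Nse5

/-!
# Group-theoretic tools for the `nse` characterizations
-/

set_option autoImplicit false

namespace Cfsg.Agent.Lib.Helper9.Nse

open Cfsg.Agent.Lib.Helper7.SameOrd

variable {G : Type*} [Group G]

/-- an element of prime order acting by conjugation on a conjugation-invariant family whose size
is prime to `p` commutes with a member of the family -/
theorem exists_commute_of_not_dvd (P : G → Prop) [Finite {g // P g}]
    (hP : ∀ y g : G, P g → P (y * g * y⁻¹)) (x : G) (p : ℕ) [Fact p.Prime] (hx : x ^ p = 1)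
    (hcard : ¬ p ∣ Nat.card {g // P g}) : ∃ g, P g ∧ Commute x g := by
  classical
  haveI := Fintype.ofFinite {g // P g}
  have hiff : ∀ a : G, P a ↔ P ((MulAut.conj x).toEquiv a) := by
    intro a
    constructor
    · intro h
      exact hP x a h
    · intro h
      have := hP x⁻¹ _ h
      simpa [MulAut.conj_apply, mul_assoc] using this
  let σ : Equiv.Perm {g // P g} := Equiv.subtypeEquiv (MulAut.conj x).toEquiv hiff
  have hσ : ∀ t : {g // P g}, ((σ t : {g // P g}) : G) = x * t.1 * x⁻¹ := fun t => rfl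
  have hit : ∀ k (t : {g // P g}), (((σ ^ k) t : {g // P g}) : G) = x ^ k * t.1 * (x ^ k)⁻¹ := by
    intro k
    induction k with
    | zero => intro t; simp
    | succ k ih =>
      intro t
      rw [pow_succ', Equiv.Perm.mul_apply, hσ, ih, pow_succ']
      group
  have hσp : σ ^ p ^ 1 = 1 := by
    ext t
    rw [pow_one, hit, hx]
    simp
  rw [Nat.card_eq_fintype_card] at hcard
  obtain ⟨t, ht⟩ := Equiv.Perm.exists_fixed_point_of_prime hcard hσp
  refine ⟨t.1, t.2, ?_⟩
  have h1 := hσ t
  rw [ht] at h1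
  have : x * t.1 = t.1 * x := by
    calc x * t.1 = (x * t.1 * x⁻¹) * x := by group
      _ = t.1 * x := by rw [← h1]
  exact this

variable [Finite G]

/-- elements of prime order `p` lie in every normal subgroup of index prime to `p` -/
theorem mem_of_orderOf_prime (N : Subgroup G) [N.Normal] {p : ℕ} (hp : p.Prime)
    (hpi : ¬ p ∣ N.index) {g : G} (hg : orderOf g = p) : g ∈ N := by
  rw [← QuotientGroup.eq_one_iff]
  have h1 : orderOf (g : G ⧸ N) ∣ p := by
    apply orderOf_dvd_of_pow_eq_one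
    rw [← QuotientGroup.mk_pow, ← hg, pow_orderOf_eq_one]
    rfl
  have h2 : orderOf (g : G ⧸ N) ∣ N.index := by
    rw [Subgroup.index_eq_card]
    exact orderOf_dvd_natCard _
  rcases (Nat.dvd_prime hp).mp h1 with h | h
  · exact orderOf_eq_one_iff.mp h
  · rw [h] at h2
    exact absurd h2 hpi

/-- a subgroup containing all elements of order `m` has the same count -/
theorem s_subgroup_eq (N : Subgroup G) (m : ℕ) (h : ∀ g : G, orderOf g = m → g ∈ N) :
    s N m = s G m := by
  unfold s
  refine Nat.card_congr ⟨fun g => ⟨g.1.1, (Subgroup.orderOf_coe g.1).trans g.2⟩,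
    fun g => ⟨⟨g.1, h g.1 g.2⟩, (Subgroup.orderOf_mk g.1 (h g.1 g.2)).trans g.2⟩, ?_, ?_⟩
  · intro g; rfl
  · intro g; rfl

theorem s_subgroup_eq_of_index (N : Subgroup G) [N.Normal] {p : ℕ} (hp : p.Prime)
    (hpi : ¬ p ∣ N.index) : s N p = s G p :=
  s_subgroup_eq N p (fun _ hg => mem_of_orderOf_prime N hp hpi hg)

/-- commuting elements of distinct prime orders give an element of composite order -/
theorem s_pos_of_commute {x t : G} {p q : ℕ} (hx : orderOf x = p) (ht : orderOf t = q)
    (hpq : Nat.Coprime p q) (hc : Commute x t) : 0 < s G (p * q) := by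
  rw [s_pos_iff]
  refine ⟨x * t, ?_⟩
  rw [hc.orderOf_mul_eq_mul_orderOf_of_coprime (by rw [hx, ht]; exact hpq), hx, ht]

/-- an element of prime order `p` and a normal subgroup `N` with `|N| ≢ 0, 1 (mod p)`:
there is an element of order `p q` for a prime `q` dividing `|N|` -/
theorem exists_prime_mul (N : Subgroup G) [N.Normal] (x : G) (p : ℕ) [hp : Fact p.Prime]
    (hx : orderOf x = p) (hpN : ¬ p ∣ Nat.card N) (hN1 : ¬ p ∣ Nat.card N - 1) :
    ∃ q, q.Prime ∧ q ∣ Nat.card N ∧ 0 < s G (p * q) := by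
  classical
  have hcard : Nat.card {g : G // g ∈ N ∧ g ≠ 1} = Nat.card N - 1 := by
    have e : {g : G // g ∈ N ∧ g ≠ 1} ≃ {n : N // n ≠ 1} :=
      ⟨fun g => ⟨⟨g.1, g.2.1⟩, fun h => g.2.2 (by simpa using congrArg Subtype.val h)⟩,
       fun n => ⟨n.1.1, n.1.2, fun h => n.2 (Subtype.ext h)⟩, fun g => rfl, fun n => rfl⟩
    rw [Nat.card_congr e]
    haveI := Fintype.ofFinite N
    rw [Nat.card_eq_fintype_card, Nat.card_eq_fintype_card]
    simp [Fintype.card_subtype_compl]
  obtain ⟨t, ⟨htN, ht1⟩, hc⟩ := exists_commute_of_not_dvd (fun g : G => g ∈ N ∧ g ≠ 1)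
    (by
      rintro y g ⟨hg, hg1⟩
      refine ⟨‹N.Normal›.conj_mem g hg y, ?_⟩
      intro h
      apply hg1
      have : g = y⁻¹ * (y * g * y⁻¹) * y := by group
      rw [this, h]; group) x p (by rw [← hx, pow_orderOf_eq_one]) (by rw [hcard]; exact hN1)
  have hot : orderOf t ≠ 1 := fun h => ht1 (orderOf_eq_one_iff.mp h)
  obtain ⟨q, hq, hqt⟩ := Nat.exists_prime_and_dvd hot
  have htc : orderOf t ∣ Nat.card N := by
    have := orderOf_dvd_natCard (⟨t, htN⟩ : N)
    rwa [Subgroup.orderOf_mk] at this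
  have hqN : q ∣ Nat.card N := hqt.trans htc
  refine ⟨q, hq, hqN, ?_⟩
  have ho : orderOf (t ^ (orderOf t / q)) = q :=
    orderOf_pow_orderOf_div (orderOf_pos t).ne' hqt
  have hpq : Nat.Coprime p q := by
    rw [Nat.coprime_primes hp.out hq]
    rintro rfl
    exact hpN hqN
  exact s_pos_of_commute hx ho hpq (hc.pow_right _)

end Cfsg.Agent.Lib.Helper9.Nse
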