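import Mathlib
import Cfsg.Agent.Lib.Helper9.Nse7
import Cfsg.Agent.S0228
import Cfsg.Agent.S0494
import Cfsg.Agent.S0497

/-!
# Identification of `A₄`, `A₅`, `A₆` from the numbers of elements of each order
-/

set_option autoImplicit false

namespace Cfsg.Agent.Lib.Helper9.Nse

open Cfsg.Agent.Lib.Helper7.SameOrd

variable {G : Type*} [Group G] [Finite G]

theorem a4_of_counts (hn : Nat.card G = 12) (h3 : 0 < s G 3) (h6 : s G 6 = 0) :
    Nonempty (G ≃* alternatingGroup (Fin 4)) := by
  apply Cfsg.Agent.S0228.result hn
  intro z hz hzc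
  obtain ⟨x, hx⟩ := (s_pos_iff 3).mp h3
  have hc : Commute z x := (Subgroup.mem_center_iff.mp hzc x).symm
  have := s_pos_of_commute hz hx (by norm_num) hc
  norm_num at this
  omega

theorem orderOf_conj' (y g : G) : orderOf (y * g * y⁻¹) = orderOf g := by
  have := (MulAut.conj y).orderOf_eq g
  rwa [MulAut.conj_apply] at this

set_option maxHeartbeats 800000 in
theorem simple60 (hn : Nat.card G = 60) (h3 : s G 3 = 20) (h5 : s G 5 = 24)
    (h10 : s G 10 = 0) : IsSimpleGroup G := by
  haveI : Nontrivial G := (Finite.one_lt_card_iff_nontrivial).mp (by rw [hn]; norm_num)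
  refine ⟨fun N hN => ?_⟩
  by_contra hcon
  push Not at hcon
  obtain ⟨hbot, htop⟩ := hcon
  have hck : Nat.card N * N.index = 60 := by rw [Subgroup.card_mul_index, hn]
  have hc1 : Nat.card N ≠ 1 := fun h => hbot (Subgroup.card_eq_one.mp h)
  have hk1 : N.index ≠ 1 := fun h => htop (Subgroup.index_eq_one.mp h)
  have hk0 : N.index ≠ 0 := by
    intro h
    rw [h] at hck
    omega
  have DN := data_of_group (G := N)
  have hN1 := DN.one
  by_cases h5c : 5 ∣ Nat.card N
  · have h5k : ¬ 5 ∣ N.index := by
      intro h
      have : 5 * 5 ∣ 60 := by rw [← hck]; exact Nat.mul_dvd_mul h5c h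
      norm_num at this
    have e5 : s N 5 = 24 := (s_subgroup_eq_of_index N Nat.prime_five h5k).trans h5
    have le1 := DN.sum_le {1, 5} (by
      intro m hm
      simp only [Finset.mem_insert, Finset.mem_singleton] at hm
      rcases hm with rfl | rfl <;> omega)
    rw [Finset.sum_insert (by norm_num), Finset.sum_singleton, DN.one, e5] at le1
    have hk2 : N.index = 2 := by
      have : N.index ≤ 2 := by
        by_contra h
        push Not at h
        have : 25 * 3 ≤ Nat.card N * N.index := Nat.mul_le_mul le1 h
        omega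
      omega
    have h3k : ¬ 3 ∣ N.index := by rw [hk2]; norm_num
    have e3 : s N 3 = 20 := (s_subgroup_eq_of_index N Nat.prime_three h3k).trans h3
    have le2 := DN.sum_le {1, 3, 5} (by
      intro m hm
      simp only [Finset.mem_insert, Finset.mem_singleton] at hm
      rcases hm with rfl | rfl | rfl <;> omega)
    rw [Finset.sum_insert (by norm_num), Finset.sum_insert (by norm_num), Finset.sum_singleton,
      DN.one, e5, e3] at le2
    rw [hk2] at hck
    omega
  · have hc12 : Nat.card N ∣ 12 := by
      have : Nat.card N ∣ 12 * 5 := ⟨N.index, by omega⟩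
      exact Nat.Coprime.dvd_of_dvd_mul_right
        ((Nat.Prime.coprime_iff_not_dvd Nat.prime_five).mpr h5c).symm this
    by_cases h3c : 3 ∣ Nat.card N
    · have h3k : ¬ 3 ∣ N.index := by
        intro h
        have : 3 * 3 ∣ 60 := by rw [← hck]; exact Nat.mul_dvd_mul h3c h
        norm_num at this
      have e3 : s N 3 = 20 := (s_subgroup_eq_of_index N Nat.prime_three h3k).trans h3
      have le1 := DN.sum_le {1, 3} (by
        intro m hm
        simp only [Finset.mem_insert, Finset.mem_singleton] at hm
        rcases hm with rfl | rfl <;> omega)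
      rw [Finset.sum_insert (by norm_num), Finset.sum_singleton, DN.one, e3] at le1
      have := Nat.le_of_dvd (by norm_num) hc12
      omega
    · have hc4 : Nat.card N ∣ 4 := by
        have : Nat.card N ∣ 4 * 3 := hc12
        exact Nat.Coprime.dvd_of_dvd_mul_right
          ((Nat.Prime.coprime_iff_not_dvd Nat.prime_three).mpr h3c).symm this
      obtain ⟨x, hx⟩ := (s_pos_iff (G := G) 5).mp (by rw [h5]; norm_num)
      haveI : Fact (Nat.Prime 5) := ⟨Nat.prime_five⟩
      have hle := Nat.le_of_dvd (by norm_num) hc4
      have h51 : ¬ 5 ∣ Nat.card N - 1 := by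
        generalize Nat.card N = c at *
        interval_cases c <;> omega
      obtain ⟨q, hq, hqc, hpos⟩ := exists_prime_mul N x 5 hx h5c h51
      have hq2 : q = 2 := by
        have : q ∣ 2 ^ 2 := hqc.trans (by norm_num; exact hc4)
        exact (Nat.prime_dvd_prime_iff_eq hq Nat.prime_two).mp (hq.dvd_of_dvd_pow this)
      rw [hq2] at hpos
      norm_num at hpos
      omega

set_option maxHeartbeats 1600000 in
theorem simple360 (hn : Nat.card G = 360) (h3 : s G 3 = 80) (h5 : s G 5 = 144)
    (h10 : s G 10 = 0) (h15 : s G 15 = 0) : IsSimpleGroup G := by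
  haveI : Nontrivial G := (Finite.one_lt_card_iff_nontrivial).mp (by rw [hn]; norm_num)
  refine ⟨fun N hN => ?_⟩
  by_contra hcon
  push Not at hcon
  obtain ⟨hbot, htop⟩ := hcon
  have hck : Nat.card N * N.index = 360 := by rw [Subgroup.card_mul_index, hn]
  have hc1 : Nat.card N ≠ 1 := fun h => hbot (Subgroup.card_eq_one.mp h)
  have hk1 : N.index ≠ 1 := fun h => htop (Subgroup.index_eq_one.mp h)
  have hk0 : N.index ≠ 0 := by
    intro h
    rw [h] at hck
    omega
  have DN := data_of_group (G := N)
  have hN1 := DN.one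
  by_cases h5c : 5 ∣ Nat.card N
  · have h5k : ¬ 5 ∣ N.index := by
      intro h
      have : 5 * 5 ∣ 360 := by rw [← hck]; exact Nat.mul_dvd_mul h5c h
      norm_num at this
    have e5 : s N 5 = 144 := (s_subgroup_eq_of_index N Nat.prime_five h5k).trans h5
    have le1 := DN.sum_le {1, 5} (by
      intro m hm
      simp only [Finset.mem_insert, Finset.mem_singleton] at hm
      rcases hm with rfl | rfl <;> omega)
    rw [Finset.sum_insert (by norm_num), Finset.sum_singleton, DN.one, e5] at le1
    have hk2 : N.index = 2 := by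
      have : N.index ≤ 2 := by
        by_contra h
        push Not at h
        have : 145 * 3 ≤ Nat.card N * N.index := Nat.mul_le_mul le1 h
        omega
      omega
    have h3k : ¬ 3 ∣ N.index := by rw [hk2]; norm_num
    have e3 : s N 3 = 80 := (s_subgroup_eq_of_index N Nat.prime_three h3k).trans h3
    have le2 := DN.sum_le {1, 3, 5} (by
      intro m hm
      simp only [Finset.mem_insert, Finset.mem_singleton] at hm
      rcases hm with rfl | rfl | rfl <;> omega)
    rw [Finset.sum_insert (by norm_num), Finset.sum_insert (by norm_num), Finset.sum_singleton,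
      DN.one, e5, e3] at le2
    rw [hk2] at hck
    omega
  · have hc72 : Nat.card N ∣ 72 := by
      have : Nat.card N ∣ 72 * 5 := ⟨N.index, by omega⟩
      exact Nat.Coprime.dvd_of_dvd_mul_right
        ((Nat.Prime.coprime_iff_not_dvd Nat.prime_five).mpr h5c).symm this
    obtain ⟨x, hx⟩ := (s_pos_iff (G := G) 5).mp (by rw [h5]; norm_num)
    haveI : Fact (Nat.Prime 5) := ⟨Nat.prime_five⟩
    have h51 : 5 ∣ Nat.card N - 1 := by
      by_contra h51
      obtain ⟨q, hq, hqc, hpos⟩ := exists_prime_mul N x 5 hx h5c h51
      have hq72 : q ∣ 2 ^ 3 * 3 ^ 2 := hqc.trans (by norm_num; exact hc72)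
      rcases (Nat.Prime.dvd_mul hq).mp hq72 with h | h
      · have := (Nat.prime_dvd_prime_iff_eq hq Nat.prime_two).mp (hq.dvd_of_dvd_pow h)
        rw [this] at hpos
        norm_num at hpos
        omega
      · have := (Nat.prime_dvd_prime_iff_eq hq Nat.prime_three).mp (hq.dvd_of_dvd_pow h)
        rw [this] at hpos
        norm_num at hpos
        omega
    have hle := Nat.le_of_dvd (by norm_num) hc72
    have hc6 : Nat.card N = 6 ∨ Nat.card N = 36 := by
      generalize Nat.card N = c at *
      clear * - hc72 h51 hle hc1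
      interval_cases c <;> omega
    rcases hc6 with hc6 | hc36
    · have h2 : 0 < s N 2 := DN.prime 2 Nat.prime_two (by rw [hc6]; norm_num)
      have h3' : 0 < s N 3 := DN.prime 3 Nat.prime_three (by rw [hc6]; norm_num)
      have le1 := DN.sum_le {1, 2, 3} (by
        intro m hm
        simp only [Finset.mem_insert, Finset.mem_singleton] at hm
        rcases hm with rfl | rfl | rfl <;> omega)
      rw [Finset.sum_insert (by norm_num), Finset.sum_insert (by norm_num), Finset.sum_singleton,
        DN.one, hc6] at le1
      have hcard : Nat.card {g : G // g ∈ N ∧ orderOf g = 3} = s N 3 := by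
        unfold s
        exact Nat.card_congr ⟨fun g => ⟨⟨g.1, g.2.1⟩, (Subgroup.orderOf_mk g.1 g.2.1).trans g.2.2⟩,
          fun n => ⟨n.1.1, n.1.2, (Subgroup.orderOf_coe n.1).trans n.2⟩,
          fun g => rfl, fun n => rfl⟩
      obtain ⟨t, ⟨htN, ht3⟩, hc⟩ := exists_commute_of_not_dvd
        (fun g : G => g ∈ N ∧ orderOf g = 3)
        (by
          rintro y g ⟨hg, hg3⟩
          exact ⟨hN.conj_mem g hg y, (orderOf_conj' y g).trans hg3⟩) x 5
        (by rw [← hx, pow_orderOf_eq_one]) (by rw [hcard]; omega)
      have := s_pos_of_commute hx ht3 (by norm_num) hc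
      norm_num at this
      omega
    · have hk10 : N.index = 10 := by
        rw [hc36] at hck
        omega
      have h3k : ¬ 3 ∣ N.index := by rw [hk10]; norm_num
      have e3 : s N 3 = 80 := (s_subgroup_eq_of_index N Nat.prime_three h3k).trans h3
      have le1 := DN.sum_le {1, 3} (by
        intro m hm
        simp only [Finset.mem_insert, Finset.mem_singleton] at hm
        rcases hm with rfl | rfl <;> omega)
      rw [Finset.sum_insert (by norm_num), Finset.sum_singleton, DN.one, e3] at le1
      omega

theorem a5_of_counts (hn : Nat.card G = 60) (h3 : s G 3 = 20) (h5 : s G 5 = 24)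
    (h10 : s G 10 = 0) : Nonempty (G ≃* alternatingGroup (Fin 5)) := by
  haveI := simple60 hn h3 h5 h10
  exact Cfsg.Agent.S0494.result hn

theorem a6_of_counts (hn : Nat.card G = 360) (h3 : s G 3 = 80) (h5 : s G 5 = 144)
    (h10 : s G 10 = 0) (h15 : s G 15 = 0) : Nonempty (G ≃* alternatingGroup (Fin 6)) := by
  haveI := simple360 hn h3 h5 h10 h15
  exact Cfsg.Agent.S0497.result hn

end Cfsg.Agent.Lib.Helper9.Nse
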