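import Mathlib
import Cfsg.Agent.Lib.Helper9.OCf_R2E

/-!
# S5988 / S5990: isometric involutions in characteristic 2 and elliptic subspaces
-/

set_option autoImplicit false

namespace Cfsg.Agent.Lib.Helper2.OrthCf

open Module QuadraticMap
open Cfsg.Agent.Lib.Helper2.MaxTS2 Cfsg.Agent.Lib.Helper2.OrthEl Cfsg.Agent.Lib.Helper2.OrthNd
open Cfsg.Agent.H9SemiInv
open Cfsg.Agent.Lib.Helper5.OrthCls (IsPlus)

section r2e2

variable {F : Type*} [Field F] [Finite F]
variable {V : Type*} [AddCommGroup V] [Module F V] [FiniteDimensional F V]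
variable {Q : QuadraticForm F V} {y : V →ₗ[F] V}

omit [Finite F] in
/-- in characteristic 2 a nondegenerate quadratic space has even dimension -/
theorem r2e_even_finrank (h2 : (2 : F) = 0) (hQ : (polarBilin Q).Nondegenerate) :
    Even (finrank F V) := by
  have halt : (polarBilin Q).IsAlt := fun u => r2e_polar_self h2 u
  have hev := Cfsg.Agent.Lib.Helper9.H9AltForm.even_finrank_sub_ker halt
  have hker : LinearMap.ker (polarBilin Q) = ⊥ := by
    rw [LinearMap.ker_eq_bot']
    intro x hx
    apply hQ.1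
    intro v
    rw [hx]
    rfl
  rw [hker, finrank_bot, Nat.sub_zero] at hev
  exact hev

omit [Finite F] in
/-- global version of `r2e_plus_of_ts` -/
theorem r2e_plus_top (h2 : (2 : F) = 0) (hQ : (polarBilin Q).Nondegenerate)
    (hiso : ∀ v, Q (y v) = Q v) (hy : ∀ v, y (y v) = v) (halt : ∀ u, Q (y u - u) = 0)
    (T : Submodule F V) (hT : IsTS Q T) (hTU : T ≤ LinearMap.ker (y - 1)) (e : ℕ)
    (hTe : finrank F ↥(LinearMap.ker (y - 1)) ≤ finrank F T + e)
    (hcond : e ≤ 1 ∨ (e ≤ 2 ∧ 4 ∣ finrank F V)) : IsPlus Q := by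
  obtain ⟨N, hN⟩ : ∃ N : V →ₗ[F] V, N = y - 1 := ⟨_, rfl⟩
  have hNv : ∀ v, N v = y v - v := fun v => by
    rw [hN, LinearMap.sub_apply, Module.End.one_apply]
  rw [← hN] at hTU hTe
  have hRK : LinearMap.range N ≤ LinearMap.ker N := by
    rintro _ ⟨v, rfl⟩
    rw [LinearMap.mem_ker, hNv, hNv]
    exact r2e_NN h2 hy v
  have d2 := Submodule.finrank_mono hRK
  have d3 := LinearMap.finrank_range_add_finrank_ker N
  have hnev := r2e_even_finrank h2 hQ
  have hR : IsTS Q (LinearMap.range N) := by
    rintro _ ⟨u, rfl⟩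
    rw [hNv]
    exact halt u
  -- the rank of `N` is even
  have hρ : Even (finrank F (LinearMap.range N)) := by
    obtain ⟨β, hβ⟩ : ∃ β : LinearMap.BilinForm F V,
        β = LinearMap.BilinForm.compRight (polarBilin Q) N := ⟨_, rfl⟩
    have hβv : ∀ u v, β u v = polar (⇑Q) u (N v) := fun u v => by rw [hβ]; rfl
    have hβalt : β.IsAlt := by
      intro u
      rw [hβv, hNv, ← r2e_Q_N h2 hiso]
      exact halt u
    have hker : LinearMap.ker β = LinearMap.ker N := by
      ext u
      rw [LinearMap.mem_ker, LinearMap.mem_ker]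
      constructor
      · intro hu
        apply hQ.1
        intro v
        have h1 := LinearMap.congr_fun hu v
        rw [hβv, hNv, ← r2e_adj hiso hy, ← hNv] at h1
        exact h1
      · intro hu
        ext v
        rw [hβv, hNv, ← r2e_adj hiso hy, ← hNv, hu]
        simp
    have hev := Cfsg.Agent.Lib.Helper9.H9AltForm.even_finrank_sub_ker hβalt
    rw [hker] at hev
    have : finrank F V - finrank F (LinearMap.ker N) = finrank F (LinearMap.range N) := by omega
    rwa [this] at hev
  have d1 := two_mul_finrank_le_of_isTS hQ (ndeg_top hQ) hT le_top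
  rw [finrank_top] at d1
  have d4 := Submodule.finrank_mono hTU
  by_cases hc : 2 * finrank F (LinearMap.range N) = finrank F V
  · exact ⟨LinearMap.range N, hR, hc⟩
  · refine ⟨T, hT, ?_⟩
    obtain ⟨a, ha⟩ := hnev
    obtain ⟨b, hb⟩ := hρ
    rcases hcond with h | ⟨h, ⟨c, hc4⟩⟩
    · omega
    · omega

/-- characteristic 2: if the image of `y - 1` is totally singular and `ker (y - 1)` contains a
pointwise fixed totally singular subspace `T` of codimension at most `e`, then an invariant
nondegenerate subspace `W` is of plus type, provided `e ≤ 1`, or `e ≤ 2` and `4 ∣ dim W` -/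
theorem r2e_plus_of_ts (h2 : (2 : F) = 0) (hQ : (polarBilin Q).Nondegenerate)
    (hiso : ∀ v, Q (y v) = Q v) (hy : ∀ v, y (y v) = v) (halt : ∀ u, Q (y u - u) = 0)
    (T : Submodule F V) (hT : IsTS Q T) (hTfix : ∀ x ∈ T, y x = x) (e : ℕ)
    (hTe : finrank F ↥(LinearMap.ker (y - 1)) ≤ finrank F T + e)
    (W : Submodule F V) (hWinv : Inv y W) (hW : NDeg Q W)
    (hcond : e ≤ 1 ∨ (e ≤ 2 ∧ 4 ∣ finrank F W)) : PlusS Q W := by
  have hW' : ∀ x ∈ W, y x ∈ W := hWinv
  rw [plusS_iff_isPlus]
  have hTU : T ≤ LinearMap.ker (y - 1) := by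
    intro x hx
    rw [LinearMap.mem_ker, LinearMap.sub_apply, Module.End.one_apply, hTfix x hx, sub_self]
  have hsub : ∀ u : ↥W, (((y.restrict hW' - 1 : ↥W →ₗ[F] ↥W) u : ↥W) : V) = y (u : V) - (u : V) := by
    intro u
    rw [LinearMap.sub_apply, Module.End.one_apply, Submodule.coe_sub, LinearMap.coe_restrict_apply]
  apply r2e_plus_top (Q := Q.comp W.subtype) (y := y.restrict hW') h2 hW.restrict ?_ ?_ ?_
    (T.comap W.subtype) ?_ ?_ e ?_ hcond
  · intro v
    rw [QuadraticMap.comp_apply, QuadraticMap.comp_apply, Submodule.subtype_apply,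
      Submodule.subtype_apply, LinearMap.coe_restrict_apply]
    exact hiso _
  · intro v
    apply Subtype.ext
    rw [LinearMap.coe_restrict_apply, LinearMap.coe_restrict_apply]
    exact hy _
  · intro u
    rw [QuadraticMap.comp_apply, Submodule.subtype_apply, Submodule.coe_sub,
      LinearMap.coe_restrict_apply]
    exact halt _
  · intro w hw
    rw [QuadraticMap.comp_apply, Submodule.subtype_apply]
    exact hT _ hw
  · intro w hw
    have hw' : (w : V) ∈ T := hw
    rw [LinearMap.mem_ker]
    apply Subtype.ext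
    rw [hsub, hTfix _ hw', sub_self]
    rfl
  · -- dimension count
    obtain ⟨K', hK'⟩ : ∃ K' : Submodule F ↥W, K' = LinearMap.ker (y.restrict hW' - 1) :=
      ⟨_, rfl⟩
    rw [← hK']
    have hTK : T.comap W.subtype ≤ K' := by
      intro w hw
      have hw' : (w : V) ∈ T := hw
      rw [hK', LinearMap.mem_ker]
      apply Subtype.ext
      rw [hsub, hTfix _ hw', sub_self]
      rfl
    have e1 : finrank F ↥(K'.map W.subtype) = finrank F K' :=
      (Submodule.equivSubtypeMap W K').finrank_eq.symm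
    have e2 : finrank F ↥((T.comap W.subtype).map W.subtype) = finrank F ↥(T.comap W.subtype) :=
      (Submodule.equivSubtypeMap W (T.comap W.subtype)).finrank_eq.symm
    have hAU : K'.map W.subtype ≤ LinearMap.ker (y - 1) := by
      rintro _ ⟨w, hw, rfl⟩
      have hw1 : w ∈ K' := hw
      rw [hK', LinearMap.mem_ker] at hw1
      have := congrArg Subtype.val hw1
      rw [hsub] at this
      rw [LinearMap.mem_ker, LinearMap.sub_apply, Module.End.one_apply, Submodule.subtype_apply]
      exact this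
    have hinf : K'.map W.subtype ⊓ T = (T.comap W.subtype).map W.subtype := by
      apply le_antisymm
      · rintro x ⟨⟨w, hw, rfl⟩, hxT⟩
        exact ⟨w, hxT, rfl⟩
      · rintro _ ⟨w, hw, rfl⟩
        exact ⟨⟨w, hTK hw, rfl⟩, hw⟩
    have h5 := Submodule.finrank_sup_add_finrank_inf_eq (K'.map W.subtype) T
    have h6 : finrank F ↥(K'.map W.subtype ⊔ T) ≤ finrank F ↥(LinearMap.ker (y - 1)) :=
      Submodule.finrank_mono (sup_le hAU hTU)
    rw [hinf] at h5
    omega

end r2e2

end Cfsg.Agent.Lib.Helper2.OrthCf
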