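import Mathlib
import Cfsg.Agent.Lib.Helper9.OCf_R2E2

/-!
# S5990, `r = p = 2`: every isometric involution of a minus-type space fixes an elliptic `m`-space
(`d` even or `m ≡ 2 (mod 4)`)
-/

set_option autoImplicit false

namespace Cfsg.Agent.Lib.Helper2.OrthCf

open Module QuadraticMap
open Cfsg.Agent.Lib.Helper2.MaxTS2 Cfsg.Agent.Lib.Helper2.OrthEl Cfsg.Agent.Lib.Helper2.OrthNd
open Cfsg.Agent.H9SemiInv

section r2e3

variable {F : Type*} [Field F] [Finite F]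
variable {V : Type*} [AddCommGroup V] [Module F V] [FiniteDimensional F V]
variable {Q : QuadraticForm F V} {y : V →ₗ[F] V}

omit [Finite F] [FiniteDimensional F V] in
theorem r2e_plusS_zero {W : Submodule F V} (h : finrank F W = 0) : PlusS Q W :=
  ⟨⊥, bot_le, fun w hw => by rw [(Submodule.mem_bot F).1 hw, map_zero], by rw [finrank_bot, h]⟩

omit [Finite F] in
/-- in characteristic 2 a nondegenerate subspace has even dimension -/
theorem r2e_even_sub (h2 : (2 : F) = 0) {W : Submodule F V} (hW : NDeg Q W) :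
    Even (finrank F W) :=
  r2e_even_finrank (Q := Q.comp W.subtype) h2 hW.restrict

/-- trichotomy for an invariant nondegenerate subspace -/
theorem r2e_tri (h2 : (2 : F) = 0) (hiso : ∀ v, Q (y v) = Q v) (hy : ∀ v, y (y v) = v)
    {M : Submodule F V} (hMi : Inv y M) (hM : NDeg Q M) :
    (∀ u ∈ M, y u = u) ∨
    (∃ L : Submodule F V, L ≤ M ∧ Inv y L ∧ NDeg Q L ∧ finrank F L = 4 ∧ PlusS Q L) ∨
    (∃ P : Submodule F V, P ≤ M ∧ Inv y P ∧ NDeg Q P ∧ finrank F P = 2) := by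
  by_cases hA : ∃ u ∈ M, Q (y u - u) ≠ 0
  · obtain ⟨u, hu, hQu⟩ := hA
    exact Or.inr (Or.inr (r2e_blockA h2 hiso hy hMi hu hQu))
  · push Not at hA
    by_cases hB : ∃ u₀ ∈ M, y u₀ - u₀ ≠ 0
    · obtain ⟨u₀, hu₀, hN⟩ := hB
      exact Or.inr (Or.inl (r2e_blockB h2 hiso hy hMi hM hA hu₀ hN))
    · push Not at hB
      exact Or.inl (fun u hu => sub_eq_zero.1 (hB u hu))

/-- the relative orthogonal complement, with its type -/
theorem r2e_compl (h2 : (2 : F) = 0) (hQ : (polarBilin Q).Nondegenerate)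
    (hiso : ∀ v, Q (y v) = Q v) (hy : ∀ v, y (y v) = v) {M W : Submodule F V}
    (hMi : Inv y M) (hM : NDeg Q M) (hWM : W ≤ M) (hWi : Inv y W) (hW : NDeg Q W) :
    Inv y (M ⊓ perp Q W) ∧ NDeg Q (M ⊓ perp Q W) ∧
      finrank F ↥(M ⊓ perp Q W) + finrank F W = finrank F M ∧
      (PlusS Q M ↔ (PlusS Q (M ⊓ perp Q W) ↔ PlusS Q W)) := by
  obtain ⟨g1, g2, g3⟩ := r2e_peel hQ hiso hy hMi hM hWM hWi hW
  refine ⟨g1, g2, g3, ?_⟩
  obtain ⟨k1, k2, k3⟩ := plusS_sup g2 hW inf_le_right (r2e_even_sub h2 g2) (r2e_even_sub h2 hW)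
  have hsup : (M ⊓ perp Q W) ⊔ W = M := by
    apply Submodule.eq_of_le_of_finrank_eq (sup_le inf_le_left hWM)
    rw [k2, g3]
  rw [hsup] at k3
  exact k3

/-- orthogonal sums, with their type -/
theorem r2e_sum (h2 : (2 : F) = 0) {A B : Submodule F V} (hAi : Inv y A) (hBi : Inv y B)
    (hA : NDeg Q A) (hB : NDeg Q B) (horth : A ≤ perp Q B) :
    Inv y (A ⊔ B) ∧ NDeg Q (A ⊔ B) ∧ finrank F ↥(A ⊔ B) = finrank F A + finrank F B ∧
      (PlusS Q (A ⊔ B) ↔ (PlusS Q A ↔ PlusS Q B)) := by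
  obtain ⟨g1, g2, g3⟩ := plusS_sup hA hB horth (r2e_even_sub h2 hA) (r2e_even_sub h2 hB)
  exact ⟨r2e_inv_sup hAi hBi, g1, g2, g3⟩

/-- a pointwise fixed nondegenerate subspace contains nondegenerate subspaces of every smaller
even dimension and type -/
theorem r2e_fixed_sub (h2 : (2 : F) = 0) {M : Submodule F V} (hM : NDeg Q M)
    (hfix : ∀ u ∈ M, y u = u) (b : ℕ) (hb0 : 0 < b) (hbev : Even b) (hbM : b < finrank F M)
    (want : Prop) :
    ∃ W : Submodule F V, W ≤ M ∧ Inv y W ∧ NDeg Q W ∧ finrank F W = b ∧ (PlusS Q W ↔ want) := by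
  obtain ⟨W, hWM, hW, hWd, hWp⟩ := exists_ndeg_sub' hM (r2e_even_sub h2 hM) b hb0 hbev hbM want
  refine ⟨W, hWM, ?_, hW, hWd, hWp⟩
  intro x hx
  rw [hfix x (hWM hx)]
  exact hx

/-- an invariant nondegenerate `4`-space of minus type is the orthogonal sum of an invariant
elliptic plane and an invariant hyperbolic plane -/
theorem r2e_K4 (h2 : (2 : F) = 0) (hQ : (polarBilin Q).Nondegenerate)
    (hiso : ∀ v, Q (y v) = Q v) (hy : ∀ v, y (y v) = v) {M : Submodule F V}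
    (hMi : Inv y M) (hM : NDeg Q M) (hMd : finrank F M = 4) (hMp : ¬ PlusS Q M) :
    ∃ E E' : Submodule F V, E ≤ M ∧ Inv y E ∧ NDeg Q E ∧ finrank F E = 2 ∧ ¬ PlusS Q E ∧
      E' ≤ M ∧ Inv y E' ∧ NDeg Q E' ∧ finrank F E' = 2 ∧ PlusS Q E' := by
  rcases r2e_tri h2 hiso hy hMi hM with hfix | ⟨L, hLM, -, -, hLd, hLp⟩ | ⟨P, hPM, hPi, hP, hPd⟩
  · obtain ⟨E, hEM, hEi, hE, hEd, hEp⟩ := r2e_fixed_sub h2 hM hfix 2 (by norm_num) even_two
      (by omega) False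
    obtain ⟨c1, c2, c3, c4⟩ := r2e_compl h2 hQ hiso hy hMi hM hEM hEi hE
    refine ⟨E, M ⊓ perp Q E, hEM, hEi, hE, hEd, fun h => hEp.1 h, inf_le_left, c1, c2, by omega,
      ?_⟩
    tauto
  · exfalso
    apply hMp
    have : L = M := Submodule.eq_of_le_of_finrank_eq hLM (by rw [hLd, hMd])
    rw [← this]
    exact hLp
  · obtain ⟨c1, c2, c3, c4⟩ := r2e_compl h2 hQ hiso hy hMi hM hPM hPi hP
    by_cases hPp : PlusS Q P
    · refine ⟨M ⊓ perp Q P, P, inf_le_left, c1, c2, by omega, ?_, hPM, hPi, hP, hPd, hPp⟩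
      tauto
    · refine ⟨P, M ⊓ perp Q P, hPM, hPi, hP, hPd, hPp, inf_le_left, c1, c2, by omega, ?_⟩
      tauto

/-- every isometric involution of a minus-type space fixes an elliptic plane -/
theorem r2e_Kminus (h2 : (2 : F) = 0) (hQ : (polarBilin Q).Nondegenerate)
    (hiso : ∀ v, Q (y v) = Q v) (hy : ∀ v, y (y v) = v) :
    ∀ (μ : ℕ) (M : Submodule F V), Inv y M → NDeg Q M → finrank F M = 2 * μ → ¬ PlusS Q M →
      ∃ E : Submodule F V, E ≤ M ∧ Inv y E ∧ NDeg Q E ∧ finrank F E = 2 ∧ ¬ PlusS Q E := by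
  intro μ
  induction μ using Nat.strong_induction_on with
  | _ μ ih =>
    intro M hMi hM hMd hMp
    rcases r2e_tri h2 hiso hy hMi hM with hfix | ⟨L, hLM, hLi, hL, hLd, hLp⟩ |
      ⟨P, hPM, hPi, hP, hPd⟩
    · by_cases h1 : μ ≤ 1
      · have hμ0 : μ ≠ 0 := by
          intro h0
          apply hMp
          apply r2e_plusS_zero
          rw [hMd, h0]
        exact ⟨M, le_rfl, hMi, hM, by omega, hMp⟩
      · obtain ⟨E, hEM, hEi, hE, hEd, hEp⟩ := r2e_fixed_sub h2 hM hfix 2 (by norm_num) even_two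
          (by omega) False
        exact ⟨E, hEM, hEi, hE, hEd, fun h => hEp.1 h⟩
    · obtain ⟨c1, c2, c3, c4⟩ := r2e_compl h2 hQ hiso hy hMi hM hLM hLi hL
      have hM'p : ¬ PlusS Q (M ⊓ perp Q L) := by tauto
      have hμ2 : 2 ≤ μ := by
        have := Submodule.finrank_mono hLM
        omega
      have hne : finrank F ↥(M ⊓ perp Q L) ≠ 0 := fun h0 => hM'p (r2e_plusS_zero h0)
      obtain ⟨E, hEM, hrest⟩ := ih (μ - 2) (by omega) (M ⊓ perp Q L) c1 c2 (by omega) hM'p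
      exact ⟨E, hEM.trans inf_le_left, hrest⟩
    · by_cases hPp : PlusS Q P
      · obtain ⟨c1, c2, c3, c4⟩ := r2e_compl h2 hQ hiso hy hMi hM hPM hPi hP
        have hM'p : ¬ PlusS Q (M ⊓ perp Q P) := by tauto
        have hμ1 : 1 ≤ μ := by
          have := Submodule.finrank_mono hPM
          omega
        obtain ⟨E, hEM, hrest⟩ := ih (μ - 1) (by omega) (M ⊓ perp Q P) c1 c2 (by omega) hM'p
        exact ⟨E, hEM.trans inf_le_left, hrest⟩
      · exact ⟨P, hPM, hPi, hP, hPd, hPp⟩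

/-- an invariant nondegenerate plus-type `6`-space contains an invariant hyperbolic plane -/
theorem r2e_Kplus6 (h2 : (2 : F) = 0) (hQ : (polarBilin Q).Nondegenerate)
    (hiso : ∀ v, Q (y v) = Q v) (hy : ∀ v, y (y v) = v) {M : Submodule F V}
    (hMi : Inv y M) (hM : NDeg Q M) (hMd : finrank F M = 6) (hMp : PlusS Q M) :
    ∃ E : Submodule F V, E ≤ M ∧ Inv y E ∧ NDeg Q E ∧ finrank F E = 2 ∧ PlusS Q E := by
  rcases r2e_tri h2 hiso hy hMi hM with hfix | ⟨L, hLM, hLi, hL, hLd, hLp⟩ |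
    ⟨P, hPM, hPi, hP, hPd⟩
  · obtain ⟨E, hEM, hEi, hE, hEd, hEp⟩ := r2e_fixed_sub h2 hM hfix 2 (by norm_num) even_two
      (by omega) True
    exact ⟨E, hEM, hEi, hE, hEd, hEp.2 trivial⟩
  · obtain ⟨c1, c2, c3, c4⟩ := r2e_compl h2 hQ hiso hy hMi hM hLM hLi hL
    refine ⟨M ⊓ perp Q L, inf_le_left, c1, c2, by omega, ?_⟩
    tauto
  · by_cases hPp : PlusS Q P
    · exact ⟨P, hPM, hPi, hP, hPd, hPp⟩
    · obtain ⟨c1, c2, c3, c4⟩ := r2e_compl h2 hQ hiso hy hMi hM hPM hPi hP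
      have hM'p : ¬ PlusS Q (M ⊓ perp Q P) := by tauto
      obtain ⟨-, E', -, -, -, -, -, hE'M, hE'i, hE', hE'd, hE'p⟩ :=
        r2e_K4 h2 hQ hiso hy c1 c2 (by omega) hM'p
      exact ⟨E', hE'M.trans inf_le_left, hE'i, hE', hE'd, hE'p⟩

/-- an invariant nondegenerate minus-type `8`-space contains an invariant hyperbolic plane -/
theorem r2e_Kplus8 (h2 : (2 : F) = 0) (hQ : (polarBilin Q).Nondegenerate)
    (hiso : ∀ v, Q (y v) = Q v) (hy : ∀ v, y (y v) = v) {M : Submodule F V}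
    (hMi : Inv y M) (hM : NDeg Q M) (hMd : finrank F M = 8) (hMp : ¬ PlusS Q M) :
    ∃ E : Submodule F V, E ≤ M ∧ Inv y E ∧ NDeg Q E ∧ finrank F E = 2 ∧ PlusS Q E := by
  rcases r2e_tri h2 hiso hy hMi hM with hfix | ⟨L, hLM, hLi, hL, hLd, hLp⟩ |
    ⟨P, hPM, hPi, hP, hPd⟩
  · obtain ⟨E, hEM, hEi, hE, hEd, hEp⟩ := r2e_fixed_sub h2 hM hfix 2 (by norm_num) even_two
      (by omega) True
    exact ⟨E, hEM, hEi, hE, hEd, hEp.2 trivial⟩
  · obtain ⟨c1, c2, c3, c4⟩ := r2e_compl h2 hQ hiso hy hMi hM hLM hLi hL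
    have hM'p : ¬ PlusS Q (M ⊓ perp Q L) := by tauto
    obtain ⟨-, E', -, -, -, -, -, hE'M, hE'i, hE', hE'd, hE'p⟩ :=
      r2e_K4 h2 hQ hiso hy c1 c2 (by omega) hM'p
    exact ⟨E', hE'M.trans inf_le_left, hE'i, hE', hE'd, hE'p⟩
  · by_cases hPp : PlusS Q P
    · exact ⟨P, hPM, hPi, hP, hPd, hPp⟩
    · obtain ⟨c1, c2, c3, c4⟩ := r2e_compl h2 hQ hiso hy hMi hM hPM hPi hP
      have hM'p : PlusS Q (M ⊓ perp Q P) := by tauto
      obtain ⟨E, hEM, hrest⟩ := r2e_Kplus6 h2 hQ hiso hy c1 c2 (by omega) hM'p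
      exact ⟨E, hEM.trans inf_le_left, hrest⟩

/-- an invariant nondegenerate subspace of dimension at least `6` contains an invariant
nondegenerate `4`-space -/
theorem r2e_X4 (h2 : (2 : F) = 0) (hQ : (polarBilin Q).Nondegenerate)
    (hiso : ∀ v, Q (y v) = Q v) (hy : ∀ v, y (y v) = v) {M : Submodule F V}
    (hMi : Inv y M) (hM : NDeg Q M) (h6 : 6 ≤ finrank F M) :
    ∃ X : Submodule F V, X ≤ M ∧ Inv y X ∧ NDeg Q X ∧ finrank F X = 4 := by
  rcases r2e_step h2 hiso hy hMi hM (r2e_even_sub h2 hM) h6 with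
    ⟨L, hLM, hLi, hL, hLd, -⟩ | ⟨P, hPM, hPi, hP, hPd⟩
  · exact ⟨L, hLM, hLi, hL, hLd⟩
  obtain ⟨c1, c2, c3, -⟩ := r2e_compl h2 hQ hiso hy hMi hM hPM hPi hP
  rcases r2e_tri h2 hiso hy c1 c2 with hfix | ⟨L, hLM, hLi, hL, hLd, -⟩ |
    ⟨P₂, hP₂M, hP₂i, hP₂, hP₂d⟩
  · obtain ⟨E, hEM, hEi, hE, hEd, -⟩ := r2e_fixed_sub h2 c2 hfix 2 (by norm_num) even_two
      (by omega) True
    obtain ⟨s1, s2, s3, -⟩ := r2e_sum h2 hEi hPi hE hP (hEM.trans inf_le_right)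
    exact ⟨E ⊔ P, sup_le (hEM.trans inf_le_left) hPM, s1, s2, by omega⟩
  · exact ⟨L, hLM.trans inf_le_left, hLi, hL, hLd⟩
  · obtain ⟨s1, s2, s3, -⟩ := r2e_sum h2 hP₂i hPi hP₂ hP (hP₂M.trans inf_le_right)
    exact ⟨P₂ ⊔ P, sup_le (hP₂M.trans inf_le_left) hPM, s1, s2, by omega⟩

/-- the main induction -/
theorem r2e_minus_sub (h2 : (2 : F) = 0) (hQ : (polarBilin Q).Nondegenerate)
    (hiso : ∀ v, Q (y v) = Q v) (hy : ∀ v, y (y v) = v) :
    ∀ (μ : ℕ) (M : Submodule F V), Inv y M → NDeg Q M → finrank F M = 2 * μ → ¬ PlusS Q M →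
      3 ≤ μ → ∀ m : ℕ, 2 ≤ m → m % 2 = 0 → m + 2 ≤ 2 * μ → (μ % 2 = 0 ∨ m % 4 = 2) →
      ∃ W : Submodule F V, W ≤ M ∧ Inv y W ∧ NDeg Q W ∧ finrank F W = m ∧ ¬ PlusS Q W := by
  intro μ
  induction μ using Nat.strong_induction_on with
  | _ μ ih =>
    intro M hMi hM hMd hMp hμ3 m hm2 hmev hmμ hcond
    by_cases h3 : μ = 3
    · -- `m = 2`
      have hm : m = 2 := by omega
      obtain ⟨E, hEM, hEi, hE, hEd, hEp⟩ := r2e_Kminus h2 hQ hiso hy μ M hMi hM hMd hMp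
      exact ⟨E, hEM, hEi, hE, by omega, hEp⟩
    by_cases h4 : μ = 4
    · have hm : m = 2 ∨ m = 4 ∨ m = 6 := by omega
      rcases hm with rfl | rfl | rfl
      · exact r2e_Kminus h2 hQ hiso hy μ M hMi hM hMd hMp
      · obtain ⟨X, hXM, hXi, hX, hXd⟩ := r2e_X4 h2 hQ hiso hy hMi hM (by omega)
        by_cases hXp : PlusS Q X
        · obtain ⟨c1, c2, c3, c4⟩ := r2e_compl h2 hQ hiso hy hMi hM hXM hXi hX
          refine ⟨M ⊓ perp Q X, inf_le_left, c1, c2, by omega, ?_⟩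
          tauto
        · exact ⟨X, hXM, hXi, hX, hXd, hXp⟩
      · obtain ⟨E, hEM, hEi, hE, hEd, hEp⟩ := r2e_Kplus8 h2 hQ hiso hy hMi hM (by omega) hMp
        obtain ⟨c1, c2, c3, c4⟩ := r2e_compl h2 hQ hiso hy hMi hM hEM hEi hE
        refine ⟨M ⊓ perp Q E, inf_le_left, c1, c2, by omega, ?_⟩
        tauto
    -- `μ ≥ 5`
    obtain ⟨L, hLM, hLi, hL, hLd, hLp⟩ := r2e_L4 h2 hQ hiso hy hMi hM (r2e_even_sub h2 hM)
      (by omega)
    obtain ⟨c1, c2, c3, c4⟩ := r2e_compl h2 hQ hiso hy hMi hM hLM hLi hL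
    have hM'p : ¬ PlusS Q (M ⊓ perp Q L) := by tauto
    by_cases hc1 : m + 2 ≤ 2 * (μ - 2)
    · obtain ⟨W, hWM, hrest⟩ := ih (μ - 2) (by omega) (M ⊓ perp Q L) c1 c2 (by omega) hM'p
        (by omega) m hm2 hmev hc1 (by omega)
      exact ⟨W, hWM.trans inf_le_left, hrest⟩
    by_cases hc2 : m = 2 * (μ - 2)
    · exact ⟨M ⊓ perp Q L, inf_le_left, c1, c2, by omega, hM'p⟩
    · obtain ⟨W, hWM, hWi, hW, hWd, hWp⟩ := ih (μ - 2) (by omega) (M ⊓ perp Q L) c1 c2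
        (by omega) hM'p (by omega) (m - 4) (by omega) (by omega) (by omega) (by omega)
      obtain ⟨s1, s2, s3, s4⟩ := r2e_sum h2 hWi hLi hW hL (hWM.trans inf_le_right)
      refine ⟨W ⊔ L, sup_le (hWM.trans inf_le_left) hLM, s1, s2, by omega, ?_⟩
      tauto

/-- characteristic 2: every isometric involution of a minus-type space of dimension `2d` fixes an
elliptic `m`-space, if `d` is even or `m ≡ 2 (mod 4)` -/
theorem r2e_minus_pos (h2 : (2 : F) = 0) (hQ : (polarBilin Q).Nondegenerate)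
    (hiso : ∀ v, Q (y v) = Q v) (hy : ∀ v, y (y v) = v) (d m : ℕ) (hd : 3 ≤ d)
    (hdim : finrank F V = 2 * d) (hV : ¬ PlusS Q ⊤) (hm : 2 ≤ m) (hme : Even m)
    (hmn : m + 2 ≤ 2 * d) (hcond : Even d ∨ m % 4 = 2) :
    ∃ W : Submodule F V, Inv y W ∧ NDeg Q W ∧ finrank F W = m ∧ ¬ PlusS Q W := by
  have hTi : Inv y (⊤ : Submodule F V) := fun x _ => Submodule.mem_top
  obtain ⟨W, -, hrest⟩ := r2e_minus_sub h2 hQ hiso hy d ⊤ hTi (ndeg_top hQ)
    (by rw [finrank_top, hdim]) hV hd m hm (Nat.even_iff.1 hme) hmn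
    (by rcases hcond with h | h
        · exact Or.inl (Nat.even_iff.1 h)
        · exact Or.inr h)
  exact ⟨W, hrest⟩

end r2e3

end Cfsg.Agent.Lib.Helper2.OrthCf
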