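import Mathlib
import Cfsg.Prelude
import Cfsg.Agent.Lib.Helper7.OSubDefs
import Cfsg.Agent.Lib.Helper3.OSub_BCA

set_option autoImplicit false
set_option linter.unusedSectionVars false
set_option linter.unusedVariables false

/-! S5683 / S5702 PK-PROPER : when `F₀` is a proper subfield, some element of `Ω` is not in `N`
(an Eichler element `E(u, a • w)` at a rational totally singular pair with `a ∉ F₀`). -/

namespace Cfsg.Agent.Lib.Helper7.OSub

open Matrix Cfsg.Agent.Lib.Helper7.Subg Cfsg.Agent.Lib.Helper2.LongRoot Cfsg.Agent.Lib.Helper2.OmMin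
  Cfsg.Agent.Lib.Helper2.CDG

variable {F : Type*} [Field F] [Fintype F] {ι : Type} [Fintype ι] [DecidableEq ι]
variable {Q : QuadraticForm F (ι → F)}

namespace PkPROPER

/-- a scalar multiplying a non-zero rational vector into a rational vector is rational -/
theorem mem_of_rat_smul {F₀ : Subfield F} {c : F} {v : ι → F} (hv : Rat F₀ v) (hv0 : v ≠ 0)
    (h : Rat F₀ (c • v)) : c ∈ F₀ := by
  obtain ⟨i, hi⟩ := Function.ne_iff.mp hv0
  have hi' : v i ≠ 0 := hi
  have e : c = (c • v) i * (v i)⁻¹ := by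
    rw [Pi.smul_apply, smul_eq_mul, mul_assoc, mul_inv_cancel₀ hi', mul_one]
  rw [e]
  exact F₀.mul_mem (h i) (F₀.inv_mem (hv i))

/-- a proper subfield misses some element -/
theorem exists_not_mem {F₀ : Subfield F} (hF₀ : F₀ ≠ ⊤) : ∃ a : F, a ∉ F₀ := by
  by_contra hcon
  apply hF₀
  rw [eq_top_iff]
  intro x _
  by_contra hx
  exact hcon ⟨x, hx⟩

end PkPROPER

open PkPROPER

theorem exists_not_inN (hQ : (QuadraticMap.polarBilin Q).Nondegenerate) (F₀ : Subfield F)
    (hR : RatQ F₀ Q) (hn : 7 ≤ Fintype.card ι) (hF₀ : F₀ ≠ ⊤) :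
    ∃ g : ↥(Cfsg.isometryGroup F ⇑Q), g ∈ Cfsg.Omega F ⇑Q ∧ ¬ InN F₀ (mat g) := by
  obtain ⟨a, ha⟩ := exists_not_mem hF₀
  -- a rational hyperbolic pair `(u, u')`
  obtain ⟨u, u', hur, hur', hQu, hQu', huu', -⟩ :=
    rat_hyp_perp hQ F₀ hR (k := 0) (fun i => Fin.elim0 i) (fun i => Fin.elim0 i) (by omega)
  -- a rational hyperbolic pair `(w, w')` orthogonal to `u, u'`
  obtain ⟨w, w', hwr, hwr', hQw, hQw', hww', hperp⟩ :=
    rat_hyp_perp hQ F₀ hR (k := 2) ![u, u'] (by
      intro i; fin_cases i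
      · exact hur
      · exact hur') (by omega)
  have huw : QuadraticMap.polar (⇑Q) u w = 0 := (hperp 0).1
  have hu'w : QuadraticMap.polar (⇑Q) u' w = 0 := (hperp 1).1
  have hu0 : u ≠ 0 := by
    rintro rfl
    rw [QuadraticMap.polar_zero_left] at huu'
    exact zero_ne_one huu'
  have hw0 : w ≠ 0 := by
    rintro rfl
    rw [QuadraticMap.polar_zero_left] at hww'
    exact zero_ne_one hww'
  have huaw : QuadraticMap.polar (⇑Q) u (a • w) = 0 := by
    rw [QuadraticMap.polar_smul_right, huw, smul_zero]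
  refine ⟨eich hQ u (a • w), eich_mem_Omega hQ (by omega) u (a • w), ?_⟩
  rintro ⟨c, hc0, hc⟩
  -- `u` is fixed, so `c` is rational
  have hfix : mat (eich hQ u (a • w)) *ᵥ u = u := by
    apply eich_fix hQ
    · rw [Cfsg.Agent.Lib.Helper2.ReflGen.polar_self, hQu, mul_zero]
    · rw [QuadraticMap.polar_smul_left, QuadraticMap.polar_comm, huw, smul_zero]
  have hcF : c ∈ F₀ := by
    apply mem_of_rat_smul hur hu0
    have := hc.mulVec hur
    rwa [Matrix.smul_mulVec, hfix] at this
  -- the image of `u'`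
  have himg : mat (eich hQ u (a • w)) *ᵥ u' = u' + a • w := by
    rw [eich_mulVec hQ hQu huaw, huu', QuadraticMap.polar_smul_left, QuadraticMap.polar_comm (⇑Q) w u',
      hu'w, QuadraticMap.map_smul, hQw]
    simp
  have h1 : Rat F₀ (c • (u' + a • w)) := by
    have := hc.mulVec hur'
    rwa [Matrix.smul_mulVec, himg] at this
  have h2 : Rat F₀ ((c * a) • w) := by
    have e : (c * a) • w = c • (u' + a • w) - c • u' := by
      rw [smul_add, smul_smul]; abel
    rw [e]
    exact h1.sub (hur'.smul hcF)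
  have h3 : c * a ∈ F₀ := mem_of_rat_smul hwr hw0 h2
  apply ha
  have e : a = c⁻¹ * (c * a) := by
    rw [← mul_assoc, inv_mul_cancel₀ hc0, one_mul]
  rw [e]
  exact F₀.mul_mem (F₀.inv_mem hcF) h3

end Cfsg.Agent.Lib.Helper7.OSub
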