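import Mathlib
import Cfsg.Agent.Lib.Helper9.SpU3

set_option autoImplicit false

/-!
Hermitian geometry over a finite field: the orthogonal complement of a nondegenerate subspace
contains hyperbolic pairs and is spanned by its isotropic vectors.
-/

namespace Cfsg.Agent.H9OU

open Module Cfsg.Agent.Lib.Helper2 Cfsg.Agent.Lib.Helper2.UT Cfsg.Agent.Lib.Helper2.IsomDecomp
  Cfsg.Agent.Lib.Helper2.HermDecomp Cfsg.Agent.Lib.Helper2.HermFrames
  Cfsg.Agent.Lib.Helper5.PSLCoset Cfsg.Agent.H9SUMax Cfsg.Agent.H9SpU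

universe u v

variable {F : Type v} [Field F] {σ : F ≃+* F} {V : Type u} [AddCommGroup V] [Module F V]
  {H : V → V → F}

variable [Finite F] [FiniteDimensional F V]

/-- the geometry of the orthogonal complement of a nondegenerate subspace -/
theorem perp_geom (hσ : orderOf σ = 2) (h : IsHerm σ H)
    (hnd : ∀ v, (∀ w, H v w = 0) → v = 0) (W : Submodule F V)
    (hW : ∀ u ∈ W, (∀ v ∈ W, H u v = 0) → u = 0) (hdim : finrank F W + 2 ≤ finrank F V) :
    (∃ e e', HypPair H e e' ∧ (∀ w ∈ W, H w e = 0) ∧ (∀ w ∈ W, H w e' = 0)) ∧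
    (∀ x, (∀ w ∈ W, H w x = 0) → ∃ x₁ x₂ x₃, (∀ w ∈ W, H w x₁ = 0) ∧ (∀ w ∈ W, H w x₂ = 0) ∧
      (∀ w ∈ W, H w x₃ = 0) ∧ H x₁ x₁ = 0 ∧ H x₂ x₂ = 0 ∧ H x₃ x₃ = 0 ∧ x = x₁ + x₂ + x₃) := by
  obtain ⟨O, hO⟩ : ∃ O, O = orthoCompl h W := ⟨_, rfl⟩
  have hd := orthoDecomp hσ h W hW
  have hOnd := nondeg_orthoCompl h W hd hnd
  rw [← hO] at hOnd
  have hfr := finrank_orthoCompl hσ h hnd W
  rw [← hO] at hfr
  have hOdim : 2 ≤ finrank F O := by omega
  constructor
  · obtain ⟨u, v, hp⟩ := exists_hypPair (V := ↥O) (H := res H O)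
      hσ (isHerm_restrict h _) (nondeg_res hOnd) hOdim
    refine ⟨(u : V), (v : V), ⟨hp.uu, hp.vv, hp.uv⟩, ?_, ?_⟩
    · have hu : (u : V) ∈ orthoCompl h W := by rw [← hO]; exact u.2
      exact hu
    · have hv : (v : V) ∈ orthoCompl h W := by rw [← hO]; exact v.2
      exact hv
  · intro x hx
    have hxO : x ∈ O := by rw [hO]; exact hx
    obtain ⟨x₁, x₂, x₃, h1, h2, h3, hsum⟩ := exists_iso_decomp (V := ↥O) (H := res H O)
      hσ (isHerm_restrict h _) (nondeg_res hOnd) hOdim ⟨x, hxO⟩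
    have hm : ∀ y : ↥O, ∀ w ∈ W, H w (y : V) = 0 := by
      intro y
      have hy : (y : V) ∈ orthoCompl h W := by rw [← hO]; exact y.2
      exact hy
    refine ⟨(x₁ : V), (x₂ : V), (x₃ : V), hm x₁, hm x₂, hm x₃, h1, h2, h3, ?_⟩
    have := congrArg Subtype.val hsum
    exact this

/-- a hyperbolic partner inside the orthogonal complement of a nondegenerate subspace -/
theorem perp_partner (hσ : orderOf σ = 2) (h : IsHerm σ H)
    (hnd : ∀ v, (∀ w, H v w = 0) → v = 0) (W : Submodule F V)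
    (hW : ∀ u ∈ W, (∀ v ∈ W, H u v = 0) → u = 0) {u : V} (hu0 : u ≠ 0) (huu : H u u = 0)
    (huW : ∀ w ∈ W, H w u = 0) :
    ∃ v, H v v = 0 ∧ H u v = 1 ∧ ∀ w ∈ W, H w v = 0 := by
  obtain ⟨O, hO⟩ : ∃ O, O = orthoCompl h W := ⟨_, rfl⟩
  have hd := orthoDecomp hσ h W hW
  have hOnd := nondeg_orthoCompl h W hd hnd
  rw [← hO] at hOnd
  have huO : u ∈ O := by rw [hO]; exact huW
  obtain ⟨v, hvv, huv⟩ := exists_hyp_partner (V := ↥O) (H := res H O)
    hσ (isHerm_restrict h _) (nondeg_res hOnd) ⟨u, huO⟩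
    (by intro h0; exact hu0 (congrArg Subtype.val h0)) huu
  refine ⟨(v : V), hvv, huv, ?_⟩
  have hv : (v : V) ∈ orthoCompl h W := by rw [← hO]; exact v.2
  exact hv

omit [Finite F] [FiniteDimensional F V] in
theorem nondeg_span_pair (h : IsHerm σ H) {a a' : V} (hp : HypPair H a a') :
    ∀ u ∈ Submodule.span F {a, a'}, (∀ v ∈ Submodule.span F {a, a'}, H u v = 0) → u = 0 := by
  intro u hu hperp
  obtain ⟨s, t, rfl⟩ := Submodule.mem_span_pair.1 hu
  have h1 := hperp a (Submodule.subset_span (by simp))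
  have h2 := hperp a' (Submodule.subset_span (by simp))
  rw [h.add_left, h.smul_left, h.smul_left, hp.uu, hp.vu h, mul_zero, zero_add, mul_one] at h1
  rw [h.add_left, h.smul_left, h.smul_left, hp.uv, hp.vv, mul_zero, add_zero, mul_one] at h2
  rw [h1, h2, zero_smul, zero_smul, add_zero]

omit [Finite F] [FiniteDimensional F V] in
theorem perp_span_pair (h : IsHerm σ H) {a a' x : V} (h1 : H a x = 0) (h2 : H a' x = 0) :
    ∀ w ∈ Submodule.span F {a, a'}, H w x = 0 := by
  intro w hw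
  obtain ⟨s, t, rfl⟩ := Submodule.mem_span_pair.1 hw
  rw [h.add_left, h.smul_left, h.smul_left, h1, h2, mul_zero, mul_zero, add_zero]

omit [Finite F] [FiniteDimensional F V] in
theorem mem_span_four {a b c d x : V} :
    x ∈ Submodule.span F {a, b, c, d} ↔ ∃ s t p q : F, x = s • a + t • b + p • c + q • d := by
  constructor
  · intro hx
    rw [Submodule.mem_span_insert] at hx
    obtain ⟨s, y, hy, rfl⟩ := hx
    rw [Submodule.mem_span_insert] at hy
    obtain ⟨t, z, hz, rfl⟩ := hy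
    obtain ⟨p, q, rfl⟩ := Submodule.mem_span_pair.1 hz
    exact ⟨s, t, p, q, by abel⟩
  · rintro ⟨s, t, p, q, rfl⟩
    apply Submodule.add_mem
    · apply Submodule.add_mem
      · apply Submodule.add_mem
        · exact Submodule.smul_mem _ _ (Submodule.subset_span (by simp))
        · exact Submodule.smul_mem _ _ (Submodule.subset_span (by simp))
      · exact Submodule.smul_mem _ _ (Submodule.subset_span (by simp))
    · exact Submodule.smul_mem _ _ (Submodule.subset_span (by simp))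

omit [Finite F] [FiniteDimensional F V] in
theorem nondeg_span_four (h : IsHerm σ H) {a a' b b' : V} (hp : HypPair H a a')
    (hq : HypPair H b b') (h1 : H a b = 0) (h2 : H a b' = 0) (h3 : H a' b = 0)
    (h4 : H a' b' = 0) :
    ∀ u ∈ Submodule.span F {a, a', b, b'},
      (∀ v ∈ Submodule.span F {a, a', b, b'}, H u v = 0) → u = 0 := by
  intro u hu hperp
  obtain ⟨s, t, p, q, rfl⟩ := mem_span_four.1 hu
  have e1 := hperp a (Submodule.subset_span (by simp))
  have e2 := hperp a' (Submodule.subset_span (by simp))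
  have e3 := hperp b (Submodule.subset_span (by simp))
  have e4 := hperp b' (Submodule.subset_span (by simp))
  have h1' := eq_zero_of_symm h h1
  have h2' := eq_zero_of_symm h h2
  have h3' := eq_zero_of_symm h h3
  have h4' := eq_zero_of_symm h h4
  simp only [h.add_left, h.smul_left, hp.uu, hp.vv, hp.uv, hp.vu h, hq.uu, hq.vv, hq.uv, hq.vu h,
    h1, h2, h3, h4, h1', h2', h3', h4', mul_zero, mul_one, add_zero, zero_add] at e1 e2 e3 e4
  rw [e1, e2, e3, e4, zero_smul, zero_smul, zero_smul, zero_smul, add_zero, add_zero, add_zero]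

omit [Finite F] [FiniteDimensional F V] in
theorem perp_span_four (h : IsHerm σ H) {a b c d x : V} (h1 : H a x = 0) (h2 : H b x = 0)
    (h3 : H c x = 0) (h4 : H d x = 0) :
    ∀ w ∈ Submodule.span F {a, b, c, d}, H w x = 0 := by
  intro w hw
  obtain ⟨s, t, p, q, rfl⟩ := mem_span_four.1 hw
  simp only [h.add_left, h.smul_left, h1, h2, h3, h4, mul_zero, add_zero]

omit [Finite F] [FiniteDimensional F V] in
theorem finrank_span_four_le (a b c d : V) :
    finrank F ↥(Submodule.span F {a, b, c, d}) ≤ 4 := by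
  classical
  have h := finrank_span_le_card (R := F) ({a, b, c, d} : Set V)
  have h2 : ({a, b, c, d} : Set V).toFinset.card ≤ 4 := by
    have : ({a, b, c, d} : Set V).toFinset = {a, b, c, d} := by ext; simp
    rw [this]
    exact Finset.card_le_four
  exact h.trans h2

/-- an additive map scaling every isotropic vector is a scalar -/
theorem scalar_of_iso_eigen (hσ : orderOf σ = 2) (h : IsHerm σ H)
    (hnd : ∀ v, (∀ w, H v w = 0) → v = 0) (hfr : 6 ≤ finrank F V)
    (Φ : V →+ V) (hΦ : ∀ w₁, H w₁ w₁ = 0 → ∃ κ : F, Φ w₁ = κ • w₁) :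
    ∃ κ₀ : F, ∀ x, Φ x = κ₀ • x := by
  -- the pair lemma
  have hpair : ∀ (κ : F) (x z : V), H x x = 0 → H z z = 0 → H x z = 0 →
      (∀ s t : F, s • x + t • z = 0 → s = 0 ∧ t = 0) → Φ x = κ • x → Φ z = κ • z := by
    intro κ x z hx hz hxz hind hκ
    obtain ⟨κz, hκz⟩ := hΦ z hz
    have hzx : H z x = 0 := eq_zero_of_symm h hxz
    have hsum : H (x + z) (x + z) = 0 := by
      rw [h.add_left, h.add_right, h.add_right, hx, hz, hxz, hzx]; ring
    obtain ⟨κ', hκ'⟩ := hΦ (x + z) hsum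
    rw [map_add, hκ, hκz, smul_add] at hκ'
    have h1 : (κ - κ') • x + (κz - κ') • z = 0 := by
      rw [sub_smul, sub_smul]
      have : κ • x - κ' • x + (κz • z - κ' • z) = (κ • x + κz • z) - (κ' • x + κ' • z) := by abel
      rw [this, hκ', sub_self]
    obtain ⟨h2, h3⟩ := hind _ _ h1
    rw [hκz, sub_eq_zero.1 h3, ← sub_eq_zero.1 h2]
  obtain ⟨p₀, p₀s, hp₀⟩ := exists_hypPair hσ h hnd (by omega)
  have hp₀0 : p₀ ≠ 0 := by
    intro h0
    have := hp₀.uv
    rw [h0, h.zero_left] at this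
    exact zero_ne_one this
  obtain ⟨κ₀, hκ₀⟩ := hΦ p₀ hp₀.uu
  refine ⟨κ₀, ?_⟩
  have hindep : ∀ (u p ps : V), u ≠ 0 → H u ps = 0 → H p ps = 1 →
      ∀ s t : F, s • u + t • p = 0 → s = 0 ∧ t = 0 := by
    intro u p ps hu0 hups hpps s t hst
    have h1 : H (s • u + t • p) ps = 0 := by rw [hst, h.zero_left]
    rw [h.add_left, h.smul_left, h.smul_left, hups, hpps, mul_zero, zero_add, mul_one] at h1
    rw [h1, zero_smul, add_zero] at hst
    exact ⟨(smul_eq_zero.1 hst).resolve_right hu0, h1⟩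
  have hiso : ∀ u, H u u = 0 → Φ u = κ₀ • u := by
    intro u hu
    by_cases hu0 : u = 0
    · rw [hu0, map_zero, smul_zero]
    obtain ⟨p, ps, hp, hX⟩ := exists_hypPair_perp hσ h hnd (Submodule.span F {p₀, u}) (by
      have := finrank_span_pair_le' (K := F) p₀ u
      omega)
    have h1 := hX p₀ (Submodule.subset_span (by simp))
    have h2 := hX u (Submodule.subset_span (by simp))
    have hΦp := hpair κ₀ p₀ p hp₀.uu hp.uu h1.1 (hindep p₀ p ps hp₀0 h1.2 hp.uv) hκ₀
    apply hpair κ₀ p u hp.uu hu (eq_zero_of_symm h h2.1) _ hΦp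
    intro s t hst
    have := hindep u p ps hu0 h2.2 hp.uv t s (by rw [add_comm]; exact hst)
    exact ⟨this.2, this.1⟩
  intro x
  obtain ⟨x₁, x₂, x₃, h1, h2, h3, hsum⟩ := exists_iso_decomp hσ h hnd (by omega) x
  rw [hsum, map_add, map_add, hiso x₁ h1, hiso x₂ h2, hiso x₃ h3, smul_add, smul_add]

end Cfsg.Agent.H9OU
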