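import Mathlib
import Cfsg.Prelude
import Cfsg.Agent.Lib.Helper9.OU1
import Cfsg.Agent.Lib.Helper9.OrthMax3
import Cfsg.Agent.Lib.Helper9.FieldSub3

set_option autoImplicit false

/-!
A unitary structure on a quadratic space: a quadratic extension field `L` acting on `F^ι` and an
`L`-Hermitian form `H` with `Q(v) = H(v,v)` and `B(u,v) = Tr H(u,v)`.  The Eichler transformations
`E_{u,ku}` are `L`-linear.
-/

namespace Cfsg.Agent.H9OU

open Module Matrix Cfsg.Agent.Lib.Helper2 Cfsg.Agent.Lib.Helper2.UT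
  Cfsg.Agent.Lib.Helper2.IsomDecomp
  Cfsg.Agent.Lib.Helper2.HermDecomp Cfsg.Agent.Lib.Helper2.HermFrames
  Cfsg.Agent.Lib.Helper5.PSLCoset Cfsg.Agent.H9SUMax Cfsg.Agent.H9SpU
  Cfsg.Agent.H9Orth Cfsg.Agent.Lib.Helper2.ReflGen Cfsg.Agent.Lib.Helper2.CDG

variable {F : Type*} [Field F] {ι : Type} [Fintype ι] [DecidableEq ι]
  {L : Type*} [Field L] [Algebra F L] [Module L (ι → F)] [IsScalarTower F L (ι → F)]
  {τ : L ≃+* L} {H : (ι → F) → (ι → F) → L} {Q : QuadraticForm F (ι → F)}

/-- a unitary structure on the quadratic space -/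
structure QData (τ : L ≃+* L) (H : (ι → F) → (ι → F) → L) (Q : QuadraticForm F (ι → F)) :
    Prop where
  herm : IsHerm τ H
  ord : orderOf τ = 2
  nd : ∀ v, (∀ w, H v w = 0) → v = 0
  tau_alg : ∀ a : F, τ (algebraMap F L a) = algebraMap F L a
  trace : ∀ u v, H u v + τ (H u v) = algebraMap F L (QuadraticMap.polar (⇑Q) u v)
  diag : ∀ v, H v v = algebraMap F L (Q v)

namespace QData

variable (R : QData τ H Q)
include R

theorem iso_iff (v : ι → F) : H v v = 0 ↔ Q v = 0 := by
  rw [R.diag]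
  exact map_eq_zero_iff _ (algebraMap F L).injective

theorem Q_smul (k : L) {u : ι → F} (hu : Q u = 0) : Q (k • u) = 0 := by
  rw [← R.iso_iff, R.herm.smul_left, R.herm.smul_right, (R.iso_iff u).2 hu, mul_zero, mul_zero]

theorem polar_of_H {u v : ι → F} (h : H u v = 0) : QuadraticMap.polar (⇑Q) u v = 0 := by
  have h1 := R.trace u v
  rw [h, map_zero, add_zero] at h1
  exact (map_eq_zero_iff _ (algebraMap F L).injective).1 h1.symm

theorem polar_smul_self (k : L) {u : ι → F} (hu : Q u = 0) :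
    QuadraticMap.polar (⇑Q) u (k • u) = 0 := by
  apply R.polar_of_H
  rw [R.herm.smul_right, (R.iso_iff u).2 hu, mul_zero]

theorem tau_tau (l : L) : τ (τ l) = l := WittHerm.sigma_sigma R.ord l

/-- the `L`-linear Eichler transformation `x ↦ x + (k - τ k) H(x,u) u` -/
theorem ueich_mulVec (hQ : (QuadraticMap.polarBilin Q).Nondegenerate) (k : L) {u : ι → F}
    (hu : Q u = 0) (x : ι → F) :
    ((eich hQ u (k • u) hu (R.polar_smul_self k hu) : Matrix.GeneralLinearGroup ι F) :
      Matrix ι ι F) *ᵥ x = x + ((k - τ k) * H x u) • u := by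
  rw [eich_mulVec, R.Q_smul k hu, zero_mul, zero_smul, sub_zero]
  have h1 := R.trace u x
  have h2 := R.trace (k • u) x
  rw [R.herm.smul_left] at h2
  rw [← algebraMap_smul L (QuadraticMap.polar (⇑Q) u x) (k • u),
    ← algebraMap_smul L (QuadraticMap.polar (⇑Q) (k • u) x) u, ← h1, ← h2, smul_smul,
    add_sub_assoc, ← sub_smul, R.herm.symm x u, map_mul, R.tau_tau]
  congr 2
  ring

end QData

end Cfsg.Agent.H9OU
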