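import Mathlib
import Cfsg.Prelude
import Cfsg.Agent.Lib.Helper9.OU2

set_option autoImplicit false

/-!
Long root elements `E_{u,v}` in a subgroup: closure properties and the commutator relation.
-/

namespace Cfsg.Agent.H9OU

open Module Matrix Cfsg.Agent.Lib.Helper2 Cfsg.Agent.Lib.Helper2.UT
  Cfsg.Agent.Lib.Helper2.IsomDecomp
  Cfsg.Agent.Lib.Helper2.HermDecomp Cfsg.Agent.Lib.Helper2.HermFrames
  Cfsg.Agent.Lib.Helper5.PSLCoset Cfsg.Agent.H9SUMax Cfsg.Agent.H9SpU
  Cfsg.Agent.H9Orth Cfsg.Agent.Lib.Helper2.ReflGen Cfsg.Agent.Lib.Helper2.CDG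

variable {F : Type*} [Field F] {ι : Type} [Fintype ι] [DecidableEq ι]
  {Q : QuadraticForm F (ι → F)}

/-- the Eichler transformation `E_{u,v}` lies in `M` -/
def Lin (hQ : (QuadraticMap.polarBilin Q).Nondegenerate)
    (M : Subgroup (Matrix.GeneralLinearGroup ι F)) (u v : ι → F) : Prop :=
  ∃ (hu : Q u = 0) (huv : QuadraticMap.polar (⇑Q) u v = 0),
    ((eich hQ u v hu huv : ↥(Cfsg.isometryGroup F ⇑Q)) : Matrix.GeneralLinearGroup ι F) ∈ M

variable (hQ : (QuadraticMap.polarBilin Q).Nondegenerate)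
  {M : Subgroup (Matrix.GeneralLinearGroup ι F)}

theorem Lin.add {u v v' : ι → F} (h : Lin hQ M u v) (h' : Lin hQ M u v') :
    Lin hQ M u (v + v') := by
  obtain ⟨hu, huv, hm⟩ := h
  obtain ⟨_, huv', hm'⟩ := h'
  refine ⟨hu, by rw [QuadraticMap.polar_add_right, huv, huv', add_zero], ?_⟩
  rw [← eich_mul hQ u v v' hu huv huv']
  exact M.mul_mem hm hm'

theorem Lin.neg {u v : ι → F} (h : Lin hQ M u v) : Lin hQ M u (-v) := by
  obtain ⟨hu, huv, hm⟩ := h
  refine ⟨hu, by rw [QuadraticMap.polar_neg_right, huv, neg_zero], ?_⟩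
  rw [← eich_inv hQ u v hu huv]
  exact M.inv_mem hm

theorem Lin.sub {u v v' : ι → F} (h : Lin hQ M u v) (h' : Lin hQ M u v') :
    Lin hQ M u (v - v') := by
  rw [sub_eq_add_neg]
  exact h.add hQ (h'.neg hQ)

theorem Lin.congr {u v v' : ι → F} (h : Lin hQ M u v) (e : v = v') : Lin hQ M u v' := by
  rw [← e]; exact h

theorem Lin.map {u v : ι → F} (h : Lin hQ M u v) (g : ↥(Cfsg.isometryGroup F ⇑Q))
    (hg : (g : Matrix.GeneralLinearGroup ι F) ∈ M) :
    Lin hQ M (((g : Matrix.GeneralLinearGroup ι F) : Matrix ι ι F) *ᵥ u)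
      (((g : Matrix.GeneralLinearGroup ι F) : Matrix ι ι F) *ᵥ v) := by
  obtain ⟨hu, huv, hm⟩ := h
  refine ⟨by rw [iso_Q]; exact hu, by rw [iso_polar]; exact huv, ?_⟩
  rw [← conj_eich hQ g u v hu huv]
  exact M.mul_mem (M.mul_mem hg hm) (M.inv_mem hg)

theorem Lin.symm {u v : ι → F} (h : Lin hQ M u v) (hv : Q v = 0) : Lin hQ M v (-u) := by
  obtain ⟨hu, huv, hm⟩ := h
  have hvu : QuadraticMap.polar (⇑Q) v (-u) = 0 := by
    rw [QuadraticMap.polar_neg_right, QuadraticMap.polar_comm, huv, neg_zero]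
  refine ⟨hv, hvu, ?_⟩
  have e : eich hQ v (-u) hv hvu = eich hQ u v hu huv := by
    apply iso_ext
    intro x
    rw [eich_mulVec, eich_mulVec, hv, QuadraticMap.map_neg, hu, QuadraticMap.polar_neg_left]
    module
  rw [e]
  exact hm

/-- the commutator of two long root elements in special position -/
theorem eich_comm (u v u' v' : ι → F) (hu : Q u = 0) (hv : Q v = 0) (hu' : Q u' = 0)
    (hv' : Q v' = 0) (huv : QuadraticMap.polar (⇑Q) u v = 0)
    (hu'v' : QuadraticMap.polar (⇑Q) u' v' = 0) (huu' : QuadraticMap.polar (⇑Q) u u' = 0)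
    (huv' : QuadraticMap.polar (⇑Q) u v' = 0) (hvu' : QuadraticMap.polar (⇑Q) v u' = 0) :
    eich hQ u v hu huv * eich hQ u' v' hu' hu'v' * (eich hQ u v hu huv)⁻¹ *
      (eich hQ u' v' hu' hu'v')⁻¹ =
    eich hQ u (QuadraticMap.polar (⇑Q) v v' • u') hu
      (by rw [QuadraticMap.polar_smul_right, huu', smul_zero]) := by
  apply iso_ext
  intro x
  have hvu : QuadraticMap.polar (⇑Q) v u = 0 := by rw [QuadraticMap.polar_comm]; exact huv
  have hv'u' : QuadraticMap.polar (⇑Q) v' u' = 0 := by rw [QuadraticMap.polar_comm]; exact hu'v'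
  have hu'u : QuadraticMap.polar (⇑Q) u' u = 0 := by rw [QuadraticMap.polar_comm]; exact huu'
  have hv'u : QuadraticMap.polar (⇑Q) v' u = 0 := by rw [QuadraticMap.polar_comm]; exact huv'
  have hu'v : QuadraticMap.polar (⇑Q) u' v = 0 := by rw [QuadraticMap.polar_comm]; exact hvu'
  have hv'v : QuadraticMap.polar (⇑Q) v' v = QuadraticMap.polar (⇑Q) v v' :=
    QuadraticMap.polar_comm _ _ _
  have huu : QuadraticMap.polar (⇑Q) u u = 0 := by rw [polar_self, hu, mul_zero]
  have hvv : QuadraticMap.polar (⇑Q) v v = 0 := by rw [polar_self, hv, mul_zero]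
  have hu'u'' : QuadraticMap.polar (⇑Q) u' u' = 0 := by rw [polar_self, hu', mul_zero]
  have hv'v'' : QuadraticMap.polar (⇑Q) v' v' = 0 := by rw [polar_self, hv', mul_zero]
  rw [eich_inv, eich_inv, mul_mulVec, mul_mulVec, mul_mulVec, eich_mulVec, eich_mulVec,
    eich_mulVec, eich_mulVec, eich_mulVec]
  simp only [QuadraticMap.map_neg, QuadraticMap.map_smul, hv, hu', hv',
    QuadraticMap.polar_add_right, QuadraticMap.polar_smul_right, QuadraticMap.polar_sub_right,
    QuadraticMap.polar_neg_right, QuadraticMap.polar_neg_left, QuadraticMap.polar_smul_left,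
    huu, hvv, hu'u'', hv'v'', huv, hvu, hu'v', hv'u', huu', hu'u, huv', hv'u, hvu', hu'v, hv'v,
    smul_eq_mul, mul_zero, zero_mul, sub_zero, add_zero, zero_smul, neg_zero, smul_neg]
  module

end Cfsg.Agent.H9OU
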