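import Mathlib
import Cfsg.Prelude
import Cfsg.Agent.Lib.Helper9.OU3

set_option autoImplicit false

/-!
Overgroups of the unitary group in the orthogonal group: spreading long root elements.
-/

namespace Cfsg.Agent.H9OU

open Module Matrix Cfsg.Agent.Lib.Helper2 Cfsg.Agent.Lib.Helper2.UT
  Cfsg.Agent.Lib.Helper2.IsomDecomp
  Cfsg.Agent.Lib.Helper2.HermDecomp Cfsg.Agent.Lib.Helper2.HermFrames
  Cfsg.Agent.Lib.Helper5.PSLCoset Cfsg.Agent.H9SUMax Cfsg.Agent.H9SpU
  Cfsg.Agent.H9Orth Cfsg.Agent.Lib.Helper2.ReflGen Cfsg.Agent.Lib.Helper2.CDG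

variable {F : Type*} [Field F] {ι : Type} [Fintype ι] [DecidableEq ι]
  {L : Type*} [Field L] [Algebra F L] [Module L (ι → F)] [IsScalarTower F L (ι → F)]
  {τ : L ≃+* L} {H : (ι → F) → (ι → F) → L} {Q : QuadraticForm F (ι → F)}

namespace QData

variable (R : QData τ H Q) (hQ : (QuadraticMap.polarBilin Q).Nondegenerate)
  {M : Subgroup (Matrix.GeneralLinearGroup ι F)}

/-- `M` contains the `L`-linear Eichler transformations -/
def HasU (M : Subgroup (Matrix.GeneralLinearGroup ι F)) : Prop :=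
  ∀ (u : ι → F) (hu : Q u = 0) (k : L),
    ((eich hQ u (k • u) hu (R.polar_smul_self k hu) : ↥(Cfsg.isometryGroup F ⇑Q)) :
      Matrix.GeneralLinearGroup ι F) ∈ M

include R

theorem exists_d0 : ∃ k0 : L, k0 - τ k0 ≠ 0 := by
  by_contra hcon
  push Not at hcon
  have h1 : τ = 1 := by
    apply RingEquiv.ext
    intro k
    have := hcon k
    exact (sub_eq_zero.1 this).symm
  have h2 := R.ord
  rw [h1, orderOf_one] at h2
  omega

theorem tau_d0 (k0 : L) : τ (k0 - τ k0) = -(k0 - τ k0) := by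
  rw [map_sub, R.tau_tau]; ring

variable {hQ}

theorem lin_smul_self (hN : R.HasU hQ M) {u : ι → F} (hu : Q u = 0) (k : L) :
    Lin hQ M u (k • u) :=
  ⟨hu, R.polar_smul_self k hu, hN u hu k⟩

theorem lin_step (hN : R.HasU hQ M) {u v z : ι → F} (h : Lin hQ M u v) (hz : Q z = 0)
    (huz : H u z = 0) (k : L) : Lin hQ M u (((k - τ k) * H v z) • z) := by
  have h1 := h.map hQ (eich hQ z (k • z) hz (R.polar_smul_self k hz)) (hN z hz k)
  rw [R.ueich_mulVec hQ k hz, R.ueich_mulVec hQ k hz, huz, mul_zero, zero_smul, add_zero] at h1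
  have h2 := h1.sub hQ h
  rwa [add_sub_cancel_left] at h2

variable [Finite L] [FiniteDimensional L (ι → F)]

/-- spreading inside the complement of two hyperbolic planes -/
theorem claimC (hfr : 6 ≤ finrank L (ι → F)) (hN : R.HasU hQ M) {a a' p p₁ : ι → F}
    (hp : HypPair H a a') (hq : HypPair H p p₁) (h1 : H a p = 0) (h2 : H a p₁ = 0)
    (h3 : H a' p = 0) (h4 : H a' p₁ = 0) (hap : Lin hQ M a p) :
    ∀ x, H a x = 0 → H a' x = 0 → H p x = 0 → H p₁ x = 0 → Lin hQ M a x := by
  have h := R.herm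
  obtain ⟨k0, hk0⟩ := R.exists_d0
  obtain ⟨d0, hd0⟩ : ∃ d0, d0 = k0 - τ k0 := ⟨_, rfl⟩
  rw [← hd0] at hk0
  have hτd0 : τ d0 = -d0 := by rw [hd0]; exact R.tau_d0 k0
  have hτinv : τ (d0⁻¹) = -d0⁻¹ := by rw [map_inv₀, hτd0, inv_neg]
  obtain ⟨z, hz⟩ : ∃ z, z = (-d0⁻¹) • p₁ := ⟨_, rfl⟩
  have hpz : H p z = d0⁻¹ := by
    rw [hz, h.smul_right, hq.uv, mul_one, map_neg, hτinv, neg_neg]
  have hzQ : Q z = 0 := by
    rw [hz]; exact R.Q_smul _ ((R.iso_iff p₁).1 hq.vv)
  have haz : H a z = 0 := by rw [hz, h.smul_right, h2, mul_zero]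
  have hLz : Lin hQ M a z := by
    have := R.lin_step hN hap hzQ haz k0
    rw [← hd0, hpz, mul_inv_cancel₀ hk0, one_smul] at this
    exact this
  have hiso : ∀ y, H y y = 0 → H a y = 0 → H p y = 0 → H p₁ y = 0 → Lin hQ M a y := by
    intro y hyy hay hpy hp₁y
    have hyp : H y p = 0 := eq_zero_of_symm h hpy
    have hwQ : Q (p + y) = 0 := by
      rw [← R.iso_iff, h.add_left, h.add_right, h.add_right, hq.uu, hyy, hpy, hyp]
      ring
    have haw : H a (p + y) = 0 := by rw [h.add_right, h1, hay, add_zero]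
    have hzy : H z y = 0 := by rw [hz, h.smul_left, hp₁y, mul_zero]
    have hzp : H z p = -d0⁻¹ := by rw [h.symm p z, hpz, hτinv]
    have := R.lin_step hN (hLz.neg hQ) hwQ haw k0
    rw [← hd0, h.neg_left, h.add_right, hzy, hzp, add_zero, neg_neg, mul_inv_cancel₀ hk0,
      one_smul] at this
    have h5 := this.sub hQ hap
    rwa [add_sub_cancel_left] at h5
  intro x hax ha'x hpx hp₁x
  have hWnd := nondeg_span_four h hp hq h1 h2 h3 h4
  have hWdim := finrank_span_four_le (F := L) a a' p p₁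
  obtain ⟨-, hdec⟩ := perp_geom R.ord h R.nd (Submodule.span L {a, a', p, p₁}) hWnd (by omega)
  obtain ⟨x₁, x₂, x₃, hx₁, hx₂, hx₃, hi₁, hi₂, hi₃, hsum⟩ :=
    hdec x (perp_span_four h hax ha'x hpx hp₁x)
  have hmem : ∀ y, (∀ w ∈ Submodule.span L {a, a', p, p₁}, H w y = 0) → H y y = 0 →
      Lin hQ M a y := by
    intro y hy hyy
    exact hiso y hyy (hy a (Submodule.subset_span (by simp)))
      (hy p (Submodule.subset_span (by simp))) (hy p₁ (Submodule.subset_span (by simp)))
  rw [hsum]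
  exact ((hmem x₁ hx₁ hi₁).add hQ (hmem x₂ hx₂ hi₂)).add hQ (hmem x₃ hx₃ hi₃)

/-- one isotropic direction in the complement of a hyperbolic plane gives the whole complement -/
theorem claimA (hfr : 6 ≤ finrank L (ι → F)) (hN : R.HasU hQ M) {a a' b₁ : ι → F}
    (hp : HypPair H a a') (hb0 : b₁ ≠ 0) (hbb : H b₁ b₁ = 0) (h1 : H a b₁ = 0)
    (h3 : H a' b₁ = 0) (hab : Lin hQ M a b₁) :
    ∀ v, H a v = 0 → H a' v = 0 → Lin hQ M a v := by
  have h := R.herm
  have hP := nondeg_span_pair h hp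
  obtain ⟨z₁, hz₁z₁, hbz₁, hz₁P⟩ := perp_partner R.ord h R.nd (Submodule.span L {a, a'}) hP hb0 hbb
    (perp_span_pair h h1 h3)
  have hq : HypPair H b₁ z₁ := ⟨hbb, hz₁z₁, hbz₁⟩
  have h2 : H a z₁ = 0 := hz₁P a (Submodule.subset_span (by simp))
  have h4 : H a' z₁ = 0 := hz₁P a' (Submodule.subset_span (by simp))
  have hC1 := R.claimC hfr hN hp hq h1 h2 h3 h4 hab
  have hWnd := nondeg_span_four h hp hq h1 h2 h3 h4
  have hWdim := finrank_span_four_le (F := L) a a' b₁ z₁
  obtain ⟨⟨y, y', hyy', hyW, hy'W⟩, -⟩ :=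
    perp_geom R.ord h R.nd (Submodule.span L {a, a', b₁, z₁}) hWnd (by omega)
  have hay : H a y = 0 := hyW a (Submodule.subset_span (by simp))
  have ha'y : H a' y = 0 := hyW a' (Submodule.subset_span (by simp))
  have hby : H b₁ y = 0 := hyW b₁ (Submodule.subset_span (by simp))
  have hzy : H z₁ y = 0 := hyW z₁ (Submodule.subset_span (by simp))
  have hay' : H a y' = 0 := hy'W a (Submodule.subset_span (by simp))
  have ha'y' : H a' y' = 0 := hy'W a' (Submodule.subset_span (by simp))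
  have hby' : H b₁ y' = 0 := hy'W b₁ (Submodule.subset_span (by simp))
  have hzy' : H z₁ y' = 0 := hy'W z₁ (Submodule.subset_span (by simp))
  have hLy : Lin hQ M a y := hC1 y hay ha'y hby hzy
  have hC2 := R.claimC hfr hN hp hyy' hay hay' ha'y ha'y' hLy
  intro v hav ha'v
  obtain ⟨vP, hvP⟩ : ∃ vP, vP = H v z₁ • b₁ + H v b₁ • z₁ := ⟨_, rfl⟩
  have hz₁b : H z₁ b₁ = 1 := hq.vu h
  have e1 : H (v - vP) b₁ = 0 := by
    rw [h.sub_left, hvP, h.add_left, h.smul_left, h.smul_left, hbb, hz₁b]; ring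
  have e2 : H (v - vP) z₁ = 0 := by
    rw [h.sub_left, hvP, h.add_left, h.smul_left, h.smul_left, hbz₁, hz₁z₁]; ring
  have haP : H a vP = 0 := by
    rw [hvP, h.add_right, h.smul_right, h.smul_right, h1, h2, mul_zero, mul_zero, add_zero]
  have ha'P : H a' vP = 0 := by
    rw [hvP, h.add_right, h.smul_right, h.smul_right, h3, h4, mul_zero, mul_zero, add_zero]
  have hyP : H y vP = 0 := by
    rw [hvP, h.add_right, h.smul_right, h.smul_right, eq_zero_of_symm h hby,
      eq_zero_of_symm h hzy, mul_zero, mul_zero, add_zero]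
  have hy'P : H y' vP = 0 := by
    rw [hvP, h.add_right, h.smul_right, h.smul_right, eq_zero_of_symm h hby',
      eq_zero_of_symm h hzy', mul_zero, mul_zero, add_zero]
  have hL1 : Lin hQ M a (v - vP) :=
    hC1 (v - vP) (by rw [h.sub_right, hav, haP, sub_zero])
      (by rw [h.sub_right, ha'v, ha'P, sub_zero]) (eq_zero_of_symm h e1) (eq_zero_of_symm h e2)
  have hL2 : Lin hQ M a vP := hC2 vP haP ha'P hyP hy'P
  have := hL1.add hQ hL2
  rwa [sub_add_cancel] at this

/-- **spreading at a point**: a long root element through `a` whose line is not an `L`-line gives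
all long root elements through `a` whose line lies in an isotropic `L`-plane -/
theorem star (hfr : 6 ≤ finrank L (ι → F)) (hN : R.HasU hQ M) {a b : ι → F} (ha0 : a ≠ 0)
    (hb : Q b = 0) (hbLa : ∀ k : L, b ≠ k • a) (hab : Lin hQ M a b) :
    ∀ v, H v a = 0 → Lin hQ M a v := by
  have h := R.herm
  have ha : Q a = 0 := by
    obtain ⟨ha, _, _⟩ := hab
    exact ha
  have haa : H a a = 0 := (R.iso_iff a).2 ha
  have hbb : H b b = 0 := (R.iso_iff b).2 hb
  obtain ⟨a', ha'a', haa'⟩ := exists_hyp_partner R.ord h R.nd a ha0 haa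
  have hp : HypPair H a a' := ⟨haa, ha'a', haa'⟩
  have ha'a : H a' a = 1 := hp.vu h
  have key : ∃ b₁, b₁ ≠ 0 ∧ H b₁ b₁ = 0 ∧ H a b₁ = 0 ∧ H a' b₁ = 0 ∧ Lin hQ M a b₁ := by
    by_cases hHab : H a b = 0
    · have hba : H b a = 0 := eq_zero_of_symm h hHab
      refine ⟨b - H b a' • a, ?_, ?_, ?_, ?_, hab.sub hQ (R.lin_smul_self hN ha _)⟩
      · intro h0
        exact hbLa _ (sub_eq_zero.1 h0)
      · rw [h.sub_left, h.sub_right, h.sub_right, h.smul_left, h.smul_left, h.smul_right,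
          h.smul_right, hbb, haa, hHab, hba]
        ring
      · rw [h.sub_right, h.smul_right, haa, hHab]; ring
      · rw [h.sub_right, h.smul_right, ha'a, h.symm b a']; ring
    · have hba : H b a ≠ 0 := fun h0 => hHab (eq_zero_of_symm h h0)
      have hP := nondeg_span_pair h hp
      have hPdim := finrank_span_pair_le' (K := L) a a'
      obtain ⟨⟨e, e', hee', heP, -⟩, -⟩ :=
        perp_geom R.ord h R.nd (Submodule.span L {a, a'}) hP (by omega)
      have hae : H a e = 0 := heP a (Submodule.subset_span (by simp))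
      have ha'e : H a' e = 0 := heP a' (Submodule.subset_span (by simp))
      have hea : H e a = 0 := eq_zero_of_symm h hae
      have he0 : e ≠ 0 := by
        intro h0
        have := hee'.uv
        rw [h0, h.zero_left] at this
        exact zero_ne_one this
      obtain ⟨k0, hk0⟩ := R.exists_d0
      by_cases hbe : H b e = 0
      · have hzQ : Q (e + a) = 0 := by
          rw [← R.iso_iff, h.add_left, h.add_right, h.add_right, hee'.uu, haa, hae, hea]
          ring
        have haz : H a (e + a) = 0 := by rw [h.add_right, hae, haa, add_zero]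
        have h5 := R.lin_step hN hab hzQ haz k0
        rw [h.add_right, hbe, zero_add] at h5
        have hc : (k0 - τ k0) * H b a ≠ 0 := mul_ne_zero hk0 hba
        refine ⟨((k0 - τ k0) * H b a) • e, smul_ne_zero hc he0, ?_, ?_, ?_, ?_⟩
        · rw [h.smul_left, h.smul_right, hee'.uu, mul_zero, mul_zero]
        · rw [h.smul_right, hae, mul_zero]
        · rw [h.smul_right, ha'e, mul_zero]
        · have h6 := h5.sub hQ (R.lin_smul_self hN ha ((k0 - τ k0) * H b a))
          rwa [smul_add, add_sub_cancel_right] at h6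
      · have heQ : Q e = 0 := (R.iso_iff e).1 hee'.uu
        have h5 := R.lin_step hN hab heQ hae k0
        have hc : (k0 - τ k0) * H b e ≠ 0 := mul_ne_zero hk0 hbe
        refine ⟨((k0 - τ k0) * H b e) • e, smul_ne_zero hc he0, ?_, ?_, ?_, h5⟩
        · rw [h.smul_left, h.smul_right, hee'.uu, mul_zero, mul_zero]
        · rw [h.smul_right, hae, mul_zero]
        · rw [h.smul_right, ha'e, mul_zero]
  obtain ⟨b₁, hb₁0, hb₁b₁, hab₁, ha'b₁, hLb₁⟩ := key
  have hA := R.claimA hfr hN hp hb₁0 hb₁b₁ hab₁ ha'b₁ hLb₁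
  intro v hva
  have hav : H a v = 0 := eq_zero_of_symm h hva
  have h7 := hA (v - H v a' • a) (by rw [h.sub_right, h.smul_right, haa, hav]; ring)
    (by rw [h.sub_right, h.smul_right, ha'a, h.symm v a']; ring)
  have h8 := h7.add hQ (R.lin_smul_self hN ha (H v a'))
  rwa [sub_add_cancel] at h8

end QData

end Cfsg.Agent.H9OU
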