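import Mathlib
import Cfsg.Prelude
import Cfsg.Agent.Lib.Helper9.OU4

set_option autoImplicit false

/-!
Overgroups of the unitary group in the orthogonal group: the overgroup theorem.
-/

namespace Cfsg.Agent.H9OU

open Module Matrix Cfsg.Agent.Lib.Helper2 Cfsg.Agent.Lib.Helper2.UT
  Cfsg.Agent.Lib.Helper2.IsomDecomp
  Cfsg.Agent.Lib.Helper2.HermDecomp Cfsg.Agent.Lib.Helper2.HermFrames
  Cfsg.Agent.Lib.Helper5.PSLCoset Cfsg.Agent.H9SUMax Cfsg.Agent.H9SpU
  Cfsg.Agent.H9Orth Cfsg.Agent.Lib.Helper2.ReflGen Cfsg.Agent.Lib.Helper2.CDG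
  Cfsg.Agent.Lib.Helper2.Siegel Cfsg.Agent.Lib.Helper2.LongRoot

variable {F : Type*} [Field F] {ι : Type} [Fintype ι] [DecidableEq ι]
  {L : Type*} [Field L] [Algebra F L] [Module L (ι → F)] [IsScalarTower F L (ι → F)]
  {τ : L ≃+* L} {H : (ι → F) → (ι → F) → L} {Q : QuadraticForm F (ι → F)}

/-- a subgroup containing all long root elements contains `Ω` -/
theorem omegaGL_le_of_lines [Fintype F] (hQ : (QuadraticMap.polarBilin Q).Nondegenerate)
    {M : Subgroup (Matrix.GeneralLinearGroup ι F)} (hn : 7 ≤ Fintype.card ι)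
    (h : ∀ u v : ι → F, Q u = 0 → Q v = 0 → QuadraticMap.polar (⇑Q) u v = 0 → Lin hQ M u v) :
    Cfsg.Geo.omegaGL ⇑Q ≤ M := by
  have hT : LongRoot.T Q ≤ M.comap (Cfsg.isometryGroup F ⇑Q).subtype := by
    unfold LongRoot.T
    rw [Subgroup.closure_le]
    rintro g ⟨u, v, c, hu, hv, huv, hg⟩
    have hcv : QuadraticMap.polar (⇑Q) u (c • v) = 0 := by
      rw [QuadraticMap.polar_smul_right, huv, smul_zero]
    have hcvQ : Q (c • v) = 0 := by rw [QuadraticMap.map_smul, hv, smul_zero]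
    have e : g = eich hQ u (c • v) hu hcv := by
      apply iso_ext
      intro x
      rw [hg, siegelMatrix_mulVec, eich_mulVec, QuadraticMap.map_smul, hv,
        QuadraticMap.polar_smul_left]
      simp only [smul_eq_mul, mul_zero, zero_mul, zero_smul, sub_zero]
      module
    show (g : Matrix.GeneralLinearGroup ι F) ∈ M
    rw [e]
    obtain ⟨_, _, hm⟩ := h u (c • v) hu hcvQ hcv
    exact hm
  rintro _ ⟨g, hg, rfl⟩
  have hg' : g ∈ LongRoot.T Q := by rw [T_eq_Omega hQ hn]; exact hg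
  exact hT hg'

namespace QData

variable (R : QData τ H Q) {hQ : (QuadraticMap.polarBilin Q).Nondegenerate}
  {M : Subgroup (Matrix.GeneralLinearGroup ι F)}

/-- all long root elements through `y` whose line lies in an isotropic `L`-plane lie in `M` -/
def Good (_R : QData τ H Q) (hQ : (QuadraticMap.polarBilin Q).Nondegenerate)
    (M : Subgroup (Matrix.GeneralLinearGroup ι F)) (y : ι → F) : Prop :=
  y ≠ 0 ∧ ∀ v, H v y = 0 → Lin hQ M y v

variable [Finite L] [FiniteDimensional L (ι → F)]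

include R

theorem good_step (hfr : 6 ≤ finrank L (ι → F)) (hN : R.HasU hQ M) {y v : ι → F}
    (hy : R.Good hQ M y) (hvv : H v v = 0) (hvy : H v y = 0) (hvLy : ∀ k : L, v ≠ k • y) :
    R.Good hQ M v := by
  have h := R.herm
  have hv0 : v ≠ 0 := by
    intro h0
    apply hvLy 0
    rw [h0, zero_smul]
  have hvQ : Q v = 0 := (R.iso_iff v).1 hvv
  have h1 : Lin hQ M v (-y) := (hy.2 v hvy).symm hQ hvQ
  have hyQ : Q y = 0 := by
    obtain ⟨hu, _, _⟩ := hy.2 v hvy
    exact hu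
  refine ⟨hv0, R.star hfr hN hv0 (by rw [QuadraticMap.map_neg, hyQ]) ?_ h1⟩
  intro k hk
  have hk0 : k ≠ 0 := by
    intro h0
    rw [h0, zero_smul, neg_eq_zero] at hk
    exact hy.1 hk
  apply hvLy (-k⁻¹)
  have : v = k⁻¹ • (k • v) := by rw [smul_smul, inv_mul_cancel₀ hk0, one_smul]
  rw [this, ← hk, smul_neg, neg_smul]

theorem good_all (hfr : 6 ≤ finrank L (ι → F)) (hN : R.HasU hQ M) {a : ι → F}
    (ha : R.Good hQ M a) {y : ι → F} (hy0 : y ≠ 0) (hyy : H y y = 0) : R.Good hQ M y := by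
  have h := R.herm
  obtain ⟨e, e', hee', hX⟩ := exists_hypPair_perp R.ord h R.nd (Submodule.span L {a, y}) (by
    have := finrank_span_pair_le' (K := L) a y
    omega)
  have hae := hX a (Submodule.subset_span (by simp))
  have hye := hX y (Submodule.subset_span (by simp))
  have hge : R.Good hQ M e := by
    apply R.good_step hfr hN ha hee'.uu (eq_zero_of_symm h hae.1)
    intro k hk
    have := hee'.uv
    rw [hk, h.smul_left, hae.2, mul_zero] at this
    exact zero_ne_one this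
  apply R.good_step hfr hN hge hyy hye.1
  intro k hk
  have h1 := hye.2
  rw [hk, h.smul_left, hee'.uv, mul_one] at h1
  rw [h1, zero_smul] at hk
  exact hy0 hk

/-- all long root elements -/
theorem lin_all (hfr : 6 ≤ finrank L (ι → F))
    (hgood : ∀ y : ι → F, y ≠ 0 → H y y = 0 → R.Good hQ M y) {u b : ι → F}
    (hu : Q u = 0) (hb : Q b = 0) (hub : QuadraticMap.polar (⇑Q) u b = 0) : Lin hQ M u b := by
  have h := R.herm
  by_cases hu0 : u = 0
  · refine ⟨hu, hub, ?_⟩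
    have e : eich hQ u b hu hub = 1 := by
      apply iso_ext
      intro x
      rw [eich_mulVec, one_mulVec', hu0]
      simp [QuadraticMap.polar]
    rw [e]
    exact M.one_mem
  by_cases hb0 : b = 0
  · refine ⟨hu, hub, ?_⟩
    have e : eich hQ u b hu hub = 1 := by
      apply iso_ext
      intro x
      rw [eich_mulVec, one_mulVec', hb0]
      simp [QuadraticMap.polar]
    rw [e]
    exact M.one_mem
  have huu : H u u = 0 := (R.iso_iff u).2 hu
  have hbb : H b b = 0 := (R.iso_iff b).2 hb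
  by_cases hH : H b u = 0
  · exact (hgood u hu0 huu).2 b hH
  obtain ⟨e, e', hee', hX⟩ := exists_hypPair_perp R.ord h R.nd (Submodule.span L {u, b}) (by
    have := finrank_span_pair_le' (K := L) u b
    omega)
  have hue := hX u (Submodule.subset_span (by simp))
  have hbe := hX b (Submodule.subset_span (by simp))
  obtain ⟨k, hk⟩ := WittHerm.exists_trace R.ord (1 : L) (map_one τ)
  have heQ : Q e = 0 := (R.iso_iff e).1 hee'.uu
  have he'Q : Q (k • e') = 0 := R.Q_smul k ((R.iso_iff e').1 hee'.vv)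
  have hL1 : Lin hQ M u e := (hgood u hu0 huu).2 e (eq_zero_of_symm h hue.1)
  have hL2 : Lin hQ M b (k • e') := (hgood b hb0 hbb).2 (k • e') (by
    rw [h.smul_left, eq_zero_of_symm h hbe.2, mul_zero])
  obtain ⟨_, hue0, hm1⟩ := hL1
  obtain ⟨_, hbe0, hm2⟩ := hL2
  have huke' : QuadraticMap.polar (⇑Q) u (k • e') = 0 := by
    apply R.polar_of_H
    rw [h.smul_right, hue.2, mul_zero]
  have heb : QuadraticMap.polar (⇑Q) e b = 0 := by
    apply R.polar_of_H
    exact eq_zero_of_symm h hbe.1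
  have hone : QuadraticMap.polar (⇑Q) e (k • e') = 1 := by
    have h1 := R.trace e (k • e')
    rw [h.smul_right, hee'.uv, mul_one, R.tau_tau, add_comm, hk] at h1
    have h2 : algebraMap F L (QuadraticMap.polar (⇑Q) e (k • e')) = algebraMap F L 1 := by
      rw [← h1, map_one]
    exact (algebraMap F L).injective h2
  have hcomm := eich_comm hQ u e b (k • e') hu heQ hb he'Q hue0 hbe0 hub huke' heb
  refine ⟨hu, hub, ?_⟩
  have e2 : eich hQ u b hu hub = eich hQ u (QuadraticMap.polar (⇑Q) e (k • e') • b) hu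
      (by rw [QuadraticMap.polar_smul_right, hub, smul_zero]) := by
    apply eich_congr hQ rfl
    rw [hone, one_smul]
  rw [e2, ← hcomm]
  have : ((eich hQ u e hu hue0 * eich hQ b (k • e') hb hbe0 * (eich hQ u e hu hue0)⁻¹ *
      (eich hQ b (k • e') hb hbe0)⁻¹ : ↥(Cfsg.isometryGroup F ⇑Q)) :
      Matrix.GeneralLinearGroup ι F) =
      (eich hQ u e hu hue0 : Matrix.GeneralLinearGroup ι F) *
        (eich hQ b (k • e') hb hbe0 : Matrix.GeneralLinearGroup ι F) *
        ((eich hQ u e hu hue0 : Matrix.GeneralLinearGroup ι F))⁻¹ *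
        ((eich hQ b (k • e') hb hbe0 : Matrix.GeneralLinearGroup ι F))⁻¹ := by
    simp only [Subgroup.coe_mul, Subgroup.coe_inv]
  rw [this]
  exact M.mul_mem (M.mul_mem (M.mul_mem hm1 hm2) (M.inv_mem hm1)) (M.inv_mem hm2)

/-- **Overgroups**: a subgroup containing the `L`-linear Eichler transformations and an isometry
not normalising `L` contains `Ω` -/
theorem main [Fintype F] (hfr : 6 ≤ finrank L (ι → F)) (hn : 7 ≤ Fintype.card ι)
    (hN : R.HasU hQ M) (g₀ : ↥(Cfsg.isometryGroup F ⇑Q))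
    (hg₀ : (g₀ : Matrix.GeneralLinearGroup ι F) ∈ M) (J : L)
    (hbad : ¬ ∃ κ : L, ∀ x, ((g₀ : Matrix.GeneralLinearGroup ι F) : Matrix ι ι F) *ᵥ
      (J • (((g₀⁻¹ : ↥(Cfsg.isometryGroup F ⇑Q)) : Matrix.GeneralLinearGroup ι F) :
        Matrix ι ι F) *ᵥ x) = κ • x) :
    Cfsg.Geo.omegaGL ⇑Q ≤ M := by
  have h := R.herm
  obtain ⟨Φ, hΦ⟩ : ∃ Φ : (ι → F) →+ (ι → F), ∀ x, Φ x =
      ((g₀ : Matrix.GeneralLinearGroup ι F) : Matrix ι ι F) *ᵥ
      (J • (((g₀⁻¹ : ↥(Cfsg.isometryGroup F ⇑Q)) : Matrix.GeneralLinearGroup ι F) :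
        Matrix ι ι F) *ᵥ x) :=
    ⟨AddMonoidHom.mk' (fun x => ((g₀ : Matrix.GeneralLinearGroup ι F) : Matrix ι ι F) *ᵥ
      (J • (((g₀⁻¹ : ↥(Cfsg.isometryGroup F ⇑Q)) : Matrix.GeneralLinearGroup ι F) :
        Matrix ι ι F) *ᵥ x)) (by
        intro x y
        rw [Matrix.mulVec_add, smul_add, Matrix.mulVec_add]), fun x => rfl⟩
  have hex : ∃ w, H w w = 0 ∧ ∀ κ : L, Φ w ≠ κ • w := by
    by_contra hcon
    push Not at hcon
    apply hbad
    obtain ⟨κ₀, hκ₀⟩ := scalar_of_iso_eigen R.ord h R.nd hfr Φ hcon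
    exact ⟨κ₀, fun x => by rw [← hΦ]; exact hκ₀ x⟩
  obtain ⟨w, hww, hw⟩ := hex
  obtain ⟨u₀, hu₀⟩ : ∃ u₀, u₀ = (((g₀⁻¹ : ↥(Cfsg.isometryGroup F ⇑Q)) :
      Matrix.GeneralLinearGroup ι F) : Matrix ι ι F) *ᵥ w := ⟨_, rfl⟩
  have hu₀Q : Q u₀ = 0 := by rw [hu₀, iso_Q]; exact (R.iso_iff w).1 hww
  have hgu₀ : ((g₀ : Matrix.GeneralLinearGroup ι F) : Matrix ι ι F) *ᵥ u₀ = w := by
    rw [hu₀, ← mul_mulVec, mul_inv_cancel, one_mulVec']
  have hL := (R.lin_smul_self hN hu₀Q J).map hQ g₀ hg₀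
  rw [hgu₀, hu₀, ← hΦ] at hL
  have hw0 : w ≠ 0 := by
    intro h0
    apply hw 0
    rw [h0, map_zero, smul_zero]
  have hbQ : Q (Φ w) = 0 := by
    rw [hΦ, iso_Q]
    apply R.Q_smul
    rw [← hu₀]
    exact hu₀Q
  have hgw : R.Good hQ M w := ⟨hw0, R.star hfr hN hw0 hbQ hw hL⟩
  apply omegaGL_le_of_lines hQ hn
  intro u v hu hv huv
  exact R.lin_all hfr (fun y hy0 hyy => R.good_all hfr hN hgw hy0 hyy) hu hv huv

end QData

end Cfsg.Agent.H9OU
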