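import Mathlib
import Cfsg.Prelude
import Cfsg.Agent.Lib.Helper9.OU5

set_option autoImplicit false

/-!
The unitary structure on a quadratic space defined by an adjoint-closed, not self-adjoint
quadratic field subalgebra whose elements rescale the quadratic form (all characteristics).
-/

namespace Cfsg.Agent.H9OU

open Module Matrix Cfsg.Agent.Lib.Helper2 Cfsg.Agent.Lib.Helper2.UT
  Cfsg.Agent.Lib.Helper2.IsomDecomp
  Cfsg.Agent.Lib.Helper2.HermDecomp Cfsg.Agent.Lib.Helper2.HermFrames
  Cfsg.Agent.Lib.Helper5.PSLCoset Cfsg.Agent.H9SUMax Cfsg.Agent.H9SpU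
  Cfsg.Agent.H9Orth Cfsg.Agent.Lib.Helper2.ReflGen Cfsg.Agent.Lib.Helper2.CDG
  Cfsg.Agent.H9FK

variable {F : Type*} [Field F] {ι : Type} [Fintype ι] [DecidableEq ι]
  {Q : QuadraticForm F (ι → F)}

theorem rform_polar (hQ : (QuadraticMap.polarBilin Q).Nondegenerate) :
    RForm (QuadraticMap.polar (⇑Q)) 1 where
  bil := ⟨fun x y v => QuadraticMap.polar_add_left _ _ _ _,
    fun c x v => by rw [QuadraticMap.polar_smul_left, smul_eq_mul],
    fun v x y => QuadraticMap.polar_add_right _ _ _ _,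
    fun c v x => by rw [QuadraticMap.polar_smul_right, smul_eq_mul]⟩
  nd := by
    intro v hv
    apply hQ.2
    intro u
    exact hv u
  swap := by
    intro u v
    rw [one_mul, QuadraticMap.polar_comm]
  sq := by ring

variable {K : Subalgebra F (Matrix ι ι F)} {hK : Cfsg.Geo.IsFieldSubalgebra 2 K}

/-- the Hermitian form attached to a generator `J` with conjugate `J'` -/
noncomputable def qForm (Q : QuadraticForm F (ι → F)) (J J' : FK K hK) (u v : ι → F) : FK K hK :=
  (J - J')⁻¹ * (algebraMap F (FK K hK) (QuadraticMap.polar (⇑Q) (J • u) v) -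
    J' * algebraMap F (FK K hK) (QuadraticMap.polar (⇑Q) u v))

/-- **existence of the unitary structure** -/
theorem exists_qdata (hQ : (QuadraticMap.polarBilin Q).Nondegenerate)
    (hne : ∃ u v : ι → F, QuadraticMap.polar (⇑Q) u v ≠ 0)
    (hac : Cfsg.Geo.IsAdjointClosedFor (QuadraticMap.polar (⇑Q)) K)
    (hnsa : ¬ Cfsg.Geo.IsSelfAdjointFor (QuadraticMap.polar (⇑Q)) K)
    (hsc : ∀ k ∈ K, ∃ c : F, ∀ v : ι → F, Q (k *ᵥ v) = c * Q v) :
    ∃ (τ : FK K hK ≃+* FK K hK) (H : (ι → F) → (ι → F) → FK K hK) (J : FK K hK),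
      QData τ H Q ∧ (∀ c : F, J ≠ algebraMap F (FK K hK) c) ∧
      (∀ l : FK K hK, ∃ a b : F, l = algebraMap F (FK K hK) a + b • J) := by
  have hf := rform_polar hQ
  obtain ⟨τ, hτ⟩ : ∃ τ : FK K hK ≃+* FK K hK, τ = tau hf hac := ⟨_, rfl⟩
  have hspec : ∀ (k : FK K hK) (u v : ι → F),
      QuadraticMap.polar (⇑Q) (k • u) v = QuadraticMap.polar (⇑Q) u (τ k • v) := by
    intro k u v; rw [hτ]; exact tau_spec hf hac k u v
  have hττ : ∀ k, τ (τ k) = k := by
    intro k; rw [hτ]; exact tau_tau hf hac k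
  have hτalg : ∀ c : F, τ (algebraMap F (FK K hK) c) = algebraMap F (FK K hK) c := by
    intro c; rw [hτ]; exact tau_algebraMap hf hac c
  have hτsmul : ∀ (c : F) (l : FK K hK), τ (c • l) = c • τ l := by
    intro c l
    rw [Algebra.smul_def, map_mul, hτalg, ← Algebra.smul_def]
  obtain ⟨J, hJne⟩ : ∃ J : FK K hK, τ J ≠ J := by
    rw [hτ]; exact exists_tau_ne hf hac hnsa
  have hJalg : ∀ c : F, J ≠ algebraMap F (FK K hK) c := by
    intro c hc
    apply hJne
    rw [hc, hτalg]
  have hdecomp := fun l => exists_coord hJalg l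
  have hindep : ∀ a b : F, algebraMap F (FK K hK) a + b • J = 0 → a = 0 ∧ b = 0 :=
    fun a b h => coord_indep hJalg h
  have hδ : J - τ J ≠ 0 := fun h0 => hJne (sub_eq_zero.1 h0).symm
  have hfix : ∀ x : FK K hK, τ x = x → ∃ a : F, x = algebraMap F (FK K hK) a := by
    intro x hx
    obtain ⟨a, b, hab⟩ := hdecomp x
    have h1 : b • (J - τ J) = 0 := by
      have h2 := hx
      rw [hab, map_add, hτalg, hτsmul] at h2
      rw [smul_sub]
      linear_combination -h2
    rcases smul_eq_zero.1 h1 with h3 | h3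
    · exact ⟨a, by rw [hab, h3, zero_smul, add_zero]⟩
    · exact absurd h3 hδ
  obtain ⟨t0, ht0⟩ : ∃ t0 : F, J + τ J = algebraMap F (FK K hK) t0 :=
    hfix _ (by rw [map_add, hττ, add_comm])
  obtain ⟨n0, hn0⟩ : ∃ n0 : F, J * τ J = algebraMap F (FK K hK) n0 :=
    hfix _ (by rw [map_mul, hττ, mul_comm])
  have hτJu : ∀ u : ι → F, τ J • u = t0 • u - J • u := by
    intro u
    rw [← algebraMap_smul (FK K hK) t0 u, ← ht0, add_smul, add_sub_cancel_left]
  have hJJ : ∀ u : ι → F, J • J • u = t0 • J • u - n0 • u := by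
    intro u
    rw [← algebraMap_smul (FK K hK) t0 (J • u), ← algebraMap_smul (FK K hK) n0 u, ← ht0, ← hn0,
      smul_smul, smul_smul, ← sub_smul]
    congr 1
    ring
  -- the norm scaling
  have hnorm : ∀ (k : FK K hK) (nk : F), τ k * k = algebraMap F (FK K hK) nk →
      ∀ v : ι → F, Q (k • v) = nk * Q v := by
    intro k nk hk
    obtain ⟨c, hc⟩ := hsc k.val k.mem
    have hc' : ∀ v : ι → F, Q (k • v) = c * Q v := hc
    obtain ⟨u, v, huv⟩ := hne
    have h1 : QuadraticMap.polar (⇑Q) (k • u) (k • v) = c * QuadraticMap.polar (⇑Q) u v := by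
      unfold QuadraticMap.polar
      rw [← smul_add, hc', hc', hc']
      ring
    have h2 : QuadraticMap.polar (⇑Q) (k • u) (k • v) = nk * QuadraticMap.polar (⇑Q) u v := by
      rw [hspec, smul_smul, hk, algebraMap_smul, QuadraticMap.polar_smul_right, smul_eq_mul]
    have h3 : c = nk := by
      have h4 : (c - nk) * QuadraticMap.polar (⇑Q) u v = 0 := by
        rw [sub_mul, ← h1, ← h2, sub_self]
      rcases mul_eq_zero.1 h4 with h5 | h5
      · exact sub_eq_zero.1 h5
      · exact absurd h5 huv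
    intro w
    rw [hc', h3]
  have hJv : ∀ v : ι → F, QuadraticMap.polar (⇑Q) (J • v) v = t0 * Q v := by
    intro v
    have h1 := hnorm J n0 (by rw [mul_comm]; exact hn0) v
    have h2 := hnorm (1 + J) (1 + t0 + n0) (by
      rw [map_add, map_one, map_add, map_add, map_one, ← ht0, ← hn0]; ring) v
    rw [add_smul, one_smul] at h2
    have h3 : QuadraticMap.polar (⇑Q) v (J • v) = Q (v + J • v) - Q v - Q (J • v) := rfl
    rw [QuadraticMap.polar_comm, h3, h2, h1]
    ring
  have hD : (J - τ J)⁻¹ * (J - τ J) = 1 := inv_mul_cancel₀ hδ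
  have hτD : τ ((J - τ J)⁻¹) = -(J - τ J)⁻¹ := by
    rw [map_inv₀, map_sub, hττ, ← neg_sub, inv_neg]
  refine ⟨τ, qForm Q J (τ J), J, ⟨⟨?_, ?_, ?_⟩, ?_, ?_, hτalg, ?_, ?_⟩, hJalg, hdecomp⟩
  · -- additivity
    intro u v w
    unfold qForm
    rw [smul_add, QuadraticMap.polar_add_left, QuadraticMap.polar_add_left, map_add, map_add]
    ring
  · -- linearity
    intro l u v
    obtain ⟨a, b, hab⟩ := hdecomp l
    unfold qForm
    have e1 : l • u = a • u + b • (J • u) := by
      rw [hab, add_smul, algebraMap_smul, smul_assoc]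
    have e2 : J • (l • u) = a • (J • u) + b • (t0 • J • u - n0 • u) := by
      rw [e1, smul_add, smul_comm J a u, smul_comm J b (J • u), hJJ]
    rw [e2, e1, hab]
    simp only [QuadraticMap.polar_add_left, QuadraticMap.polar_smul_left,
      QuadraticMap.polar_sub_left, smul_eq_mul, map_add, map_mul, map_sub]
    rw [Algebra.smul_def b J]
    linear_combination (-((J - τ J)⁻¹ * algebraMap F (FK K hK) b *
      algebraMap F (FK K hK) (QuadraticMap.polar (⇑Q) (J • u) v))) * ht0 +
      ((J - τ J)⁻¹ * algebraMap F (FK K hK) b *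
      algebraMap F (FK K hK) (QuadraticMap.polar (⇑Q) u v)) * hn0
  · -- symmetry
    intro v w
    unfold qForm
    rw [map_mul, hτD, map_sub, map_mul, hττ, hτalg, hτalg, hspec J w v, hτJu,
      QuadraticMap.polar_sub_right, QuadraticMap.polar_smul_right, smul_eq_mul,
      QuadraticMap.polar_comm (⇑Q) w v, QuadraticMap.polar_comm (⇑Q) w (J • v)]
    simp only [map_sub, map_mul]
    linear_combination (-((J - τ J)⁻¹ *
      algebraMap F (FK K hK) (QuadraticMap.polar (⇑Q) v w))) * ht0
  · rw [hτ]; exact orderOf_tau hf hac hnsa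
  · -- nondegeneracy
    intro v hv
    apply hf.nd
    intro u
    rw [QuadraticMap.polar_comm]
    have h1 := hv u
    unfold qForm at h1
    rcases mul_eq_zero.1 h1 with h2 | h2
    · exact absurd h2 (inv_ne_zero hδ)
    · have h3 : algebraMap F (FK K hK) (QuadraticMap.polar (⇑Q) (J • v) u -
          t0 * QuadraticMap.polar (⇑Q) v u) + QuadraticMap.polar (⇑Q) v u • J = 0 := by
        rw [Algebra.smul_def, map_sub, map_mul, ← ht0]
        linear_combination h2
      exact (hindep _ _ h3).2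
  · -- trace
    intro u v
    unfold qForm
    rw [map_mul, hτD, map_sub, map_mul, hττ, hτalg, hτalg]
    linear_combination (algebraMap F (FK K hK) (QuadraticMap.polar (⇑Q) u v)) * hD
  · -- diagonal
    intro v
    unfold qForm
    rw [hJv, polar_self, map_mul, map_mul, map_ofNat, ← ht0]
    linear_combination (algebraMap F (FK K hK) (Q v)) * hD

end Cfsg.Agent.H9OU
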