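import Mathlib
import Cfsg.Prelude
import Cfsg.Agent.Lib.Helper9.OU6
import Cfsg.Agent.Lib.Helper9.OrthNM1

set_option autoImplicit false

/-!
The normaliser of a quadratic, adjoint-closed, not self-adjoint field subalgebra (whose elements
rescale the quadratic form) in `Ω` is maximal.
-/

namespace Cfsg.Agent.H9OU

open Module Matrix Cfsg.Agent.Lib.Helper2 Cfsg.Agent.Lib.Helper2.UT
  Cfsg.Agent.Lib.Helper2.IsomDecomp
  Cfsg.Agent.Lib.Helper2.HermDecomp Cfsg.Agent.Lib.Helper2.HermFrames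
  Cfsg.Agent.Lib.Helper5.PSLCoset Cfsg.Agent.H9SUMax Cfsg.Agent.H9SpU
  Cfsg.Agent.H9Orth Cfsg.Agent.Lib.Helper2.ReflGen Cfsg.Agent.Lib.Helper2.CDG
  Cfsg.Agent.H9FK

variable {F : Type*} [Field F] {ι : Type} [Fintype ι] [DecidableEq ι]
  {K : Subalgebra F (Matrix ι ι F)}

theorem gl_mul_inv_coe (g : Matrix.GeneralLinearGroup ι F) :
    (g : Matrix ι ι F) * ((g⁻¹ : Matrix.GeneralLinearGroup ι F) : Matrix ι ι F) = 1 := by
  rw [← Units.val_mul, mul_inv_cancel, Units.val_one]

theorem gl_inv_mul_coe (g : Matrix.GeneralLinearGroup ι F) :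
    ((g⁻¹ : Matrix.GeneralLinearGroup ι F) : Matrix ι ι F) * (g : Matrix ι ι F) = 1 := by
  rw [← Units.val_mul, inv_mul_cancel, Units.val_one]

theorem gl_mem_norm_iff (g : Matrix.GeneralLinearGroup ι F) :
    g ∈ Cfsg.Geo.subalgebraNormalizer K ↔
      ∀ k : Matrix ι ι F, k ∈ K ↔
        (g : Matrix ι ι F) * k * ((g⁻¹ : Matrix.GeneralLinearGroup ι F) : Matrix ι ι F) ∈ K :=
  Iff.rfl

/-- an invertible matrix commuting with the subalgebra normalises it -/
theorem gl_mem_norm_of_comm (g : Matrix.GeneralLinearGroup ι F)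
    (hc : ∀ k ∈ K, (g : Matrix ι ι F) * k = k * (g : Matrix ι ι F)) :
    g ∈ Cfsg.Geo.subalgebraNormalizer K := by
  rw [gl_mem_norm_iff]
  intro k
  have hconj : ∀ k ∈ K, (g : Matrix ι ι F) * k *
      ((g⁻¹ : Matrix.GeneralLinearGroup ι F) : Matrix ι ι F) = k := by
    intro k hk
    rw [hc k hk, Matrix.mul_assoc, gl_mul_inv_coe, Matrix.mul_one]
  constructor
  · intro hk
    rw [hconj k hk]; exact hk
  · intro hk
    have h1 := hc _ hk
    have h2 : k = (g : Matrix ι ι F) * k *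
        ((g⁻¹ : Matrix.GeneralLinearGroup ι F) : Matrix ι ι F) := by
      have h4 : (g : Matrix ι ι F) * k *
          ((g⁻¹ : Matrix.GeneralLinearGroup ι F) : Matrix ι ι F) * (g : Matrix ι ι F) =
          (g : Matrix ι ι F) * k := by
        rw [Matrix.mul_assoc, gl_inv_mul_coe, Matrix.mul_one]
      rw [h4] at h1
      have h5 := congrArg (fun M => ((g⁻¹ : Matrix.GeneralLinearGroup ι F) : Matrix ι ι F) * M) h1
      beta_reduce at h5
      rw [← Matrix.mul_assoc, ← Matrix.mul_assoc _ _ k, gl_inv_mul_coe, Matrix.one_mul,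
        Matrix.one_mul] at h5
      exact h5.symm
    rw [h2]; exact hk

variable {hK : Cfsg.Geo.IsFieldSubalgebra 2 K}

/-- an element of the normaliser conjugates `J` into the field -/
theorem gl_conj_of_mem_norm (J : FK K hK) (g : Matrix.GeneralLinearGroup ι F)
    (hg : g ∈ Cfsg.Geo.subalgebraNormalizer K) :
    ∃ κ : FK K hK, ∀ x, ((g⁻¹ : Matrix.GeneralLinearGroup ι F) : Matrix ι ι F) *ᵥ
        (J • ((g : Matrix ι ι F) *ᵥ x)) = κ • x := by
  have h1 : g⁻¹ ∈ Cfsg.Geo.subalgebraNormalizer K := inv_mem hg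
  rw [gl_mem_norm_iff] at h1
  have h2 := (h1 J.val).1 J.mem
  rw [inv_inv] at h2
  refine ⟨⟨_, h2⟩, ?_⟩
  intro x
  rw [FK.smul_def, FK.smul_def, Matrix.mulVec_mulVec, Matrix.mulVec_mulVec]

theorem val_coord' (a b : F) (κ : FK K hK) :
    (algebraMap F (FK K hK) a + b • κ).val =
      a • (1 : Matrix ι ι F) + b • κ.val := by
  rw [FK.val_add, FK.val_algebraMap, FK.val_smul]

theorem conj_coord' (g : Matrix.GeneralLinearGroup ι F) (a b : F) (A : Matrix ι ι F) :
    (g : Matrix ι ι F) * (a • (1 : Matrix ι ι F) + b • A) *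
        ((g⁻¹ : Matrix.GeneralLinearGroup ι F) : Matrix ι ι F) =
      a • (1 : Matrix ι ι F) +
        b • ((g : Matrix ι ι F) * A * ((g⁻¹ : Matrix.GeneralLinearGroup ι F) : Matrix ι ι F)) := by
  rw [Matrix.mul_add, Matrix.add_mul, Matrix.mul_smul, Matrix.smul_mul, Matrix.mul_one,
    gl_mul_inv_coe, Matrix.mul_smul, Matrix.smul_mul]

/-- an element conjugating `J` into the field normalises the field -/
theorem gl_mem_norm_of_conj {J : FK K hK}
    (hdecomp : ∀ l : FK K hK, ∃ a b : F, l = algebraMap F (FK K hK) a + b • J)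
    (hJalg : ∀ c : F, J ≠ algebraMap F (FK K hK) c)
    (g : Matrix.GeneralLinearGroup ι F) (κ : FK K hK)
    (hκ : ∀ x, ((g⁻¹ : Matrix.GeneralLinearGroup ι F) : Matrix ι ι F) *ᵥ
        (J • ((g : Matrix ι ι F) *ᵥ x)) = κ • x) :
    g ∈ Cfsg.Geo.subalgebraNormalizer K := by
  have hmat : ((g⁻¹ : Matrix.GeneralLinearGroup ι F) : Matrix ι ι F) * J.val *
      (g : Matrix ι ι F) = κ.val := by
    apply Matrix.mulVec_injective
    funext x
    have h1 := hκ x
    rw [FK.smul_def, FK.smul_def, Matrix.mulVec_mulVec, Matrix.mulVec_mulVec] at h1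
    exact h1
  have hJ' : (g : Matrix ι ι F) * κ.val *
      ((g⁻¹ : Matrix.GeneralLinearGroup ι F) : Matrix ι ι F) = J.val := by
    rw [← hmat, ← Matrix.mul_assoc, ← Matrix.mul_assoc, gl_mul_inv_coe, Matrix.one_mul,
      Matrix.mul_assoc, gl_mul_inv_coe, Matrix.mul_one]
  have hκ' : ((g⁻¹ : Matrix.GeneralLinearGroup ι F) : Matrix ι ι F) * J.val *
      (((g⁻¹)⁻¹ : Matrix.GeneralLinearGroup ι F) : Matrix ι ι F) = κ.val := by
    rw [inv_inv]; exact hmat
  have hκalg : ∀ c : F, κ ≠ algebraMap F (FK K hK) c := by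
    intro c hc
    apply hJalg c
    apply FK.val_injective
    rw [← hJ', hc, FK.val_algebraMap, Matrix.mul_smul, Matrix.smul_mul, Matrix.mul_one,
      gl_mul_inv_coe]
  rw [gl_mem_norm_iff]
  intro k
  constructor
  · intro hk
    obtain ⟨a, b, hab⟩ := exists_coord hκalg (⟨k, hk⟩ : FK K hK)
    have h1 : k = a • (1 : Matrix ι ι F) + b • κ.val := by
      rw [← val_coord', ← hab]
    rw [h1, conj_coord', hJ', ← val_coord']
    exact (algebraMap F (FK K hK) a + b • J).mem
  · intro hk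
    obtain ⟨a, b, hab⟩ := hdecomp (⟨_, hk⟩ : FK K hK)
    have h1 : (g : Matrix ι ι F) * k *
          ((g⁻¹ : Matrix.GeneralLinearGroup ι F) : Matrix ι ι F) =
        a • (1 : Matrix ι ι F) + b • J.val := by
      rw [← val_coord', ← hab]
    have h2 : k = ((g⁻¹ : Matrix.GeneralLinearGroup ι F) : Matrix ι ι F) *
        ((g : Matrix ι ι F) * k *
          ((g⁻¹ : Matrix.GeneralLinearGroup ι F) : Matrix ι ι F)) *
        (((g⁻¹)⁻¹ : Matrix.GeneralLinearGroup ι F) : Matrix ι ι F) := by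
      rw [inv_inv, ← Matrix.mul_assoc, ← Matrix.mul_assoc, gl_inv_mul_coe, Matrix.one_mul,
        Matrix.mul_assoc, gl_inv_mul_coe, Matrix.mul_one]
    rw [h2, h1, conj_coord', hκ', ← val_coord']
    exact (algebraMap F (FK K hK) a + b • κ).mem

/-- **the unitary normaliser is maximal in `Ω`** -/
theorem gu_maximal_omega [Fintype F] (Q : QuadraticForm F (ι → F))
    (hnd : (QuadraticMap.polarBilin Q).Nondegenerate) (hcard : 14 ≤ Fintype.card ι)
    (hK : Cfsg.Geo.IsFieldSubalgebra 2 K)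
    (hac : Cfsg.Geo.IsAdjointClosedFor (QuadraticMap.polar (⇑Q)) K)
    (hnsa : ¬ Cfsg.Geo.IsSelfAdjointFor (QuadraticMap.polar (⇑Q)) K)
    (hsc : ∀ k ∈ K, ∃ c : F, ∀ v : ι → F, Q (k *ᵥ v) = c * Q v) :
    Cfsg.Geo.IsMaximalIn (Cfsg.Geo.omegaGL ⇑Q)
      (Cfsg.Geo.subalgebraNormalizer K ⊓ Cfsg.Geo.omegaGL ⇑Q) := by
  classical
  haveI : NeZero (2 : ℕ) := ⟨by norm_num⟩
  haveI : Finite F := Finite.of_fintype F
  have hne : ∃ u v : ι → F, QuadraticMap.polar (⇑Q) u v ≠ 0 := by
    have hpos : 0 < Fintype.card ι := by omega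
    obtain ⟨i⟩ := Fintype.card_pos_iff.1 hpos
    by_contra hcon
    push Not at hcon
    have h0 : (Pi.single i 1 : ι → F) = 0 := hnd.2 _ (fun u => hcon u _)
    have := congrFun h0 i
    rw [Pi.single_eq_same] at this
    exact one_ne_zero this
  obtain ⟨τ, H, J, R, hJalg, hdecomp⟩ := exists_qdata (hK := hK) hnd hne hac hnsa hsc
  haveI : FiniteDimensional (FK K hK) (ι → F) :=
    Module.Finite.of_restrictScalars_finite F (FK K hK) (ι → F)
  have hfr : 7 ≤ finrank (FK K hK) (ι → F) := by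
    have h1 := Module.finrank_mul_finrank F (FK K hK) (ι → F)
    rw [FK.finrank_eq, Module.finrank_pi] at h1
    omega
  have hn7 : 7 ≤ Fintype.card ι := by omega
  have h := R.herm
  -- the `L`-linear Eichler transformations lie in the normaliser
  have hU : ∀ (u : ι → F) (hu : Q u = 0) (k : FK K hK),
      ((eich hnd u (k • u) hu (R.polar_smul_self k hu) : ↥(Cfsg.isometryGroup F ⇑Q)) :
        Matrix.GeneralLinearGroup ι F) ∈
      Cfsg.Geo.subalgebraNormalizer K ⊓ Cfsg.Geo.omegaGL ⇑Q := by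
    intro u hu k
    refine ⟨?_, eich_mem_omegaGL hnd hn7 u _ hu _⟩
    apply gl_mem_norm_of_comm
    intro k' hk'
    apply Matrix.mulVec_injective
    funext x
    rw [← Matrix.mulVec_mulVec, ← Matrix.mulVec_mulVec]
    have h1 : k' *ᵥ x = (⟨k', hk'⟩ : FK K hK) • x := rfl
    rw [h1, R.ueich_mulVec hnd k hu, R.ueich_mulVec hnd k hu]
    have h2 : k' *ᵥ (x + ((k - τ k) * H x u) • u) =
        (⟨k', hk'⟩ : FK K hK) • (x + ((k - τ k) * H x u) • u) := rfl
    rw [h2, smul_add, smul_smul, h.smul_left]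
    congr 2
    ring
  constructor
  · -- properness
    apply lt_of_le_of_ne inf_le_right
    intro heq
    obtain ⟨e, e', hee'⟩ := exists_hypPair R.ord h R.nd (by omega)
    obtain ⟨v, v', hvv', hX⟩ := exists_hypPair_perp R.ord h R.nd (Submodule.span (FK K hK) {e, e'})
      (by
        have := finrank_span_pair_le' (K := FK K hK) e e'
        omega)
    have hev : H e v = 0 := (hX e (Submodule.subset_span (by simp))).1
    have he'v : H e' v = 0 := (hX e' (Submodule.subset_span (by simp))).1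
    have hve : H v e = 0 := eq_zero_of_symm h hev
    have hve' : H v e' = 0 := eq_zero_of_symm h he'v
    have heQ : Q e = 0 := (R.iso_iff e).1 hee'.uu
    have hvQ : Q v = 0 := (R.iso_iff v).1 hvv'.uu
    have hpev : QuadraticMap.polar (⇑Q) e v = 0 := R.polar_of_H hev
    have hpve : QuadraticMap.polar (⇑Q) v e = 0 := R.polar_of_H hve
    have hpee : QuadraticMap.polar (⇑Q) e e = 0 := by rw [polar_self, heQ, mul_zero]
    have he0 : e ≠ 0 := by
      intro h0
      have := hee'.uv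
      rw [h0, h.zero_left] at this
      exact zero_ne_one this
    have hv0 : v ≠ 0 := by
      intro h0
      have := hvv'.uv
      rw [h0, h.zero_left] at this
      exact zero_ne_one this
    obtain ⟨g, hg⟩ : ∃ g : ↥(Cfsg.isometryGroup F ⇑Q), g = eich hnd e v heQ hpev := ⟨_, rfl⟩
    have hgΩ : (g : Matrix.GeneralLinearGroup ι F) ∈ Cfsg.Geo.omegaGL ⇑Q := by
      rw [hg]; exact eich_mem_omegaGL hnd hn7 e v heQ hpev
    rw [← heq] at hgΩ
    have hgN := hgΩ.1
    obtain ⟨κ, hκ⟩ := gl_conj_of_mem_norm J _ hgN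
    have hgx : ∀ x, ((g : Matrix.GeneralLinearGroup ι F) : Matrix ι ι F) *ᵥ x =
        x + QuadraticMap.polar (⇑Q) e x • v - QuadraticMap.polar (⇑Q) v x • e := by
      intro x
      rw [hg, eich_mulVec, hvQ, zero_mul, zero_smul, sub_zero]
    have key : ∀ x, J • (((g : Matrix.GeneralLinearGroup ι F) : Matrix ι ι F) *ᵥ x) =
        ((g : Matrix.GeneralLinearGroup ι F) : Matrix ι ι F) *ᵥ (κ • x) := by
      intro x
      rw [← hκ x, Matrix.mulVec_mulVec, gl_mul_inv_coe, Matrix.one_mulVec]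
    have hκJ : κ = J := by
      have h1 := key e
      rw [hgx, hgx, hpee, hpve, zero_smul, zero_smul, add_zero, sub_zero,
        R.polar_smul_self κ heQ, R.polar_of_H (show H v (κ • e) = 0 by
          rw [h.smul_right, hve, mul_zero]), zero_smul, zero_smul, add_zero, sub_zero] at h1
      have h2 : (J - κ) • e = 0 := by rw [sub_smul, h1, sub_self]
      rcases smul_eq_zero.1 h2 with h3 | h3
      · exact (sub_eq_zero.1 h3).symm
      · exact absurd h3 he0
    rw [hκJ] at key
    obtain ⟨k, hk⟩ := WittHerm.exists_trace R.ord (1 : FK K hK) (map_one τ)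
    obtain ⟨x, hx⟩ : ∃ x, x = k • e' := ⟨_, rfl⟩
    have hex : QuadraticMap.polar (⇑Q) e x = 1 := by
      have h1 := R.trace e x
      rw [hx, h.smul_right, hee'.uv, mul_one, R.tau_tau, add_comm, hk] at h1
      have h2 : algebraMap F (FK K hK) (QuadraticMap.polar (⇑Q) e (k • e')) =
          algebraMap F (FK K hK) 1 := by rw [← h1, map_one]
      rw [hx]
      exact (algebraMap F (FK K hK)).injective h2
    have hvx : QuadraticMap.polar (⇑Q) v x = 0 := by
      apply R.polar_of_H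
      rw [hx, h.smul_right, hve', mul_zero]
    have hvJx : QuadraticMap.polar (⇑Q) v (J • x) = 0 := by
      apply R.polar_of_H
      rw [hx, h.smul_right, h.smul_right, hve', mul_zero, mul_zero]
    have h1 := key x
    rw [hgx, hgx, hex, hvx, hvJx, one_smul, zero_smul, sub_zero, sub_zero,
      smul_add] at h1
    have h2 : J • v = QuadraticMap.polar (⇑Q) e (J • x) • v := add_left_cancel h1
    have h3 : (J - algebraMap F (FK K hK) (QuadraticMap.polar (⇑Q) e (J • x))) • v = 0 := by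
      rw [sub_smul, algebraMap_smul, h2, sub_self]
    rcases smul_eq_zero.1 h3 with h4 | h4
    · exact hJalg _ (sub_eq_zero.1 h4)
    · exact hv0 h4
  · intro M hNM hMΩ
    by_cases hMN : M ≤ Cfsg.Geo.subalgebraNormalizer K
    · left
      exact le_antisymm (le_inf hMN hMΩ) hNM
    · right
      apply le_antisymm hMΩ
      obtain ⟨g, hgM, hgN⟩ := SetLike.not_le_iff_exists.1 hMN
      obtain ⟨g₀, -, rfl⟩ := hMΩ hgM
      apply R.main (by omega) hn7 (fun u hu k => hNM (hU u hu k)) g₀ hgM J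
      rintro ⟨κ, hκ⟩
      apply hgN
      have e : ((((g₀⁻¹ : ↥(Cfsg.isometryGroup F ⇑Q)) : Matrix.GeneralLinearGroup ι F))⁻¹ :
          Matrix.GeneralLinearGroup ι F) = (g₀ : Matrix.GeneralLinearGroup ι F) := by
        rw [Subgroup.coe_inv, inv_inv]
      have h3 := gl_mem_norm_of_conj hdecomp hJalg
        ((g₀⁻¹ : ↥(Cfsg.isometryGroup F ⇑Q)) : Matrix.GeneralLinearGroup ι F) κ (by
          intro x
          rw [e]
          exact hκ x)
      have h4 := inv_mem h3
      rwa [e] at h4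

end Cfsg.Agent.H9OU
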