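import Mathlib

/-!
# Odd order of permutations: pointwise criterion and the insertion lemma
-/

set_option autoImplicit false

namespace Cfsg.Agent.Lib.Helper9.OddG

open Equiv Equiv.Perm

variable {α : Type*} [DecidableEq α] [Fintype α]

/-- if every point has an odd period then the permutation has odd order -/
theorem odd_orderOf_of_pointwise (u : Perm α) (h : ∀ d, ∃ p, Odd p ∧ (u ^ p) d = d) :
    Odd (orderOf u) := by
  choose p hp using h
  have hM : Odd (∏ d, p d) := by
    apply Finset.prod_induction _ Odd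
    · intro a b ha hb; exact ha.mul hb
    · exact odd_one
    · intro d _; exact (hp d).1
  have h1 : u ^ (∏ d, p d) = 1 := by
    ext d
    obtain ⟨j, hj⟩ := Finset.dvd_prod_of_mem p (Finset.mem_univ d)
    rw [hj, pow_mul, Equiv.Perm.one_apply]
    exact Equiv.Perm.pow_apply_eq_self_of_apply_eq_self (hp d).2 j
  exact Odd.of_dvd_nat hM (orderOf_dvd_of_pow_eq_one h1)

/-- the 3-cycle `a → b → c → a` -/
def cyc3 (a b c : α) : Perm α := swap a b * swap b c

omit [Fintype α] in
theorem cyc3_fst {a b c : α} (hab : a ≠ b) (hca : c ≠ a) : cyc3 a b c a = b := by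
  unfold cyc3
  rw [Perm.mul_apply, swap_apply_of_ne_of_ne hab hca.symm, swap_apply_left]

omit [Fintype α] in
theorem cyc3_snd {a b c : α} (hca : c ≠ a) (hcb : c ≠ b) : cyc3 a b c b = c := by
  unfold cyc3
  rw [Perm.mul_apply, swap_apply_left, swap_apply_of_ne_of_ne hca hcb]

omit [Fintype α] in
theorem cyc3_thd {a b c : α} : cyc3 a b c c = a := by
  unfold cyc3
  rw [Perm.mul_apply, swap_apply_right, swap_apply_right]

omit [Fintype α] in
theorem cyc3_of_ne {a b c d : α} (ha : d ≠ a) (hb : d ≠ b) (hc : d ≠ c) : cyc3 a b c d = d := by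
  unfold cyc3
  rw [Perm.mul_apply, swap_apply_of_ne_of_ne hb hc, swap_apply_of_ne_of_ne ha hb]

/-- **Insertion lemma**: inserting two fixed points `a`, `b` into the cycle of `c` preserves odd
order. -/
theorem insertion (w : Perm α) (hw : Odd (orderOf w)) {a b c : α} (hab : a ≠ b) (hca : c ≠ a)
    (hcb : c ≠ b) (ha : w a = a) (hb : w b = b) : Odd (orderOf (w * cyc3 a b c)) := by
  obtain ⟨u, hu⟩ : ∃ u, u = w * cyc3 a b c := ⟨_, rfl⟩
  rw [← hu]
  have ua : u a = b := by rw [hu, Perm.mul_apply, cyc3_fst hab hca, hb]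
  have ub : u b = w c := by rw [hu, Perm.mul_apply, cyc3_snd hca hcb]
  have uc : u c = a := by rw [hu, Perm.mul_apply, cyc3_thd, ha]
  have ud : ∀ d, d ≠ a → d ≠ b → d ≠ c → u d = w d := by
    intro d h1 h2 h3
    rw [hu, Perm.mul_apply, cyc3_of_ne h1 h2 h3]
  have wa : ∀ j : ℕ, (w ^ j) a = a := pow_apply_eq_self_of_apply_eq_self ha
  have wb : ∀ j : ℕ, (w ^ j) b = b := pow_apply_eq_self_of_apply_eq_self hb
  have hca' : ∀ j : ℕ, (w ^ j) c ≠ a := by
    intro j h
    apply hca
    have : (w ^ j) c = (w ^ j) a := by rw [h, wa]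
    exact (w ^ j).injective this
  have hcb' : ∀ j : ℕ, (w ^ j) c ≠ b := by
    intro j h
    apply hcb
    have : (w ^ j) c = (w ^ j) b := by rw [h, wb]
    exact (w ^ j).injective this
  obtain ⟨N, hNdef⟩ : ∃ N, N = orderOf w := ⟨_, rfl⟩
  rw [← hNdef] at hw
  have hN : w ^ N = 1 := by rw [hNdef]; exact pow_orderOf_eq_one w
  have hNpos : 0 < N := by rw [hNdef]; exact orderOf_pos w
  have hper : ∃ j, 0 < j ∧ (w ^ j) c = c := ⟨N, hNpos, by rw [hN]; rfl⟩
  classical
  let ℓ := Nat.find hper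
  have hℓ : 0 < ℓ ∧ (w ^ ℓ) c = c := Nat.find_spec hper
  have hmin : ∀ j, 0 < j → j < ℓ → (w ^ j) c ≠ c :=
    fun j h0 hlt h => Nat.find_min hper hlt ⟨h0, h⟩
  have hmod : ∀ j : ℕ, (w ^ j) c = (w ^ (j % ℓ)) c := by
    intro j
    conv_lhs => rw [← Nat.div_add_mod j ℓ, add_comm, pow_add, Perm.mul_apply, pow_mul]
    rw [pow_apply_eq_self_of_apply_eq_self hℓ.2]
  have hℓN : ℓ ∣ N := by
    have h1 : (w ^ (N % ℓ)) c = c := by
      rw [← hmod, hN]; rfl
    rcases Nat.eq_zero_or_pos (N % ℓ) with h0 | h0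
    · exact Nat.dvd_of_mod_eq_zero h0
    · exact absurd h1 (hmin _ h0 (Nat.mod_lt _ hℓ.1))
  have hℓodd : Odd ℓ := Odd.of_dvd_nat hw hℓN
  have key : ∀ j, 1 ≤ j → j ≤ ℓ → (u ^ (j + 2)) c = (w ^ j) c := by
    intro j h1
    induction j, h1 using Nat.le_induction with
    | base =>
      intro _
      rw [show (1 + 2) = 3 from rfl, pow_succ', pow_succ', pow_one, Perm.mul_apply,
        Perm.mul_apply, uc, ua, ub, pow_one]
    | succ j hj ih =>
      intro hle
      have hjl : j < ℓ := by omega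
      rw [show j + 1 + 2 = (j + 2) + 1 by ring, pow_succ', Perm.mul_apply, ih (by omega),
        ud _ (hca' j) (hcb' j) (hmin j (by omega) hjl), pow_succ', Perm.mul_apply]
  have hperiod_c : (u ^ (ℓ + 2)) c = c := by rw [key ℓ hℓ.1 le_rfl, hℓ.2]
  have hodd2 : Odd (ℓ + 2) := by
    obtain ⟨k, hk⟩ := hℓodd
    exact ⟨k + 1, by omega⟩
  have hperiod_orbit : ∀ i : ℕ, (u ^ (ℓ + 2)) ((u ^ i) c) = (u ^ i) c := by
    intro i
    rw [← Perm.mul_apply, ← pow_add, add_comm, pow_add, Perm.mul_apply, hperiod_c]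
  apply odd_orderOf_of_pointwise
  intro d
  by_cases hda : d = a
  · refine ⟨ℓ + 2, hodd2, ?_⟩
    have := hperiod_orbit 1
    rw [pow_one, uc] at this
    rw [hda]; exact this
  by_cases hdb : d = b
  · refine ⟨ℓ + 2, hodd2, ?_⟩
    have h2 : (u ^ 2) c = b := by rw [pow_two, Perm.mul_apply, uc, ua]
    have := hperiod_orbit 2
    rw [h2] at this
    rw [hdb]; exact this
  by_cases horb : ∃ j : ℕ, (w ^ j) c = d
  · obtain ⟨j, rfl⟩ := horb
    refine ⟨ℓ + 2, hodd2, ?_⟩
    rw [hmod j]
    rcases Nat.eq_zero_or_pos (j % ℓ) with h0 | h0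
    · rw [h0, pow_zero, Perm.one_apply]; exact hperiod_c
    · rw [← key (j % ℓ) h0 (Nat.mod_lt _ hℓ.1).le]; exact hperiod_orbit _
  · push Not at horb
    refine ⟨N, hw, ?_⟩
    have hoff : ∀ i : ℕ, (u ^ i) d = (w ^ i) d := by
      intro i
      induction i with
      | zero => simp
      | succ i ih =>
        rw [pow_succ', Perm.mul_apply, ih, pow_succ', Perm.mul_apply]
        apply ud
        · intro h
          apply hda
          exact (w ^ i).injective (by rw [h, wa])
        · intro h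
          apply hdb
          exact (w ^ i).injective (by rw [h, wb])
        · intro h
          apply horb (i * (N - 1))
          rw [← h, ← Perm.mul_apply, ← pow_add]
          have : i * (N - 1) + i = N * i := by
            obtain ⟨M, hM⟩ : ∃ M, N = M + 1 := ⟨N - 1, by omega⟩
            rw [hM]; simp; ring
          rw [this, pow_mul, hN, one_pow, Perm.one_apply]
    rw [hoff, hN, Perm.one_apply]

omit [DecidableEq α] [Fintype α] in
theorem odd_mul_of_commute {g h : Perm α} (hc : Commute g h) (hg : Odd (orderOf g))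
    (hh : Odd (orderOf h)) : Odd (orderOf (g * h)) := by
  have h1 : (g * h) ^ (orderOf g * orderOf h) = 1 := by
    rw [hc.mul_pow, pow_mul, pow_orderOf_eq_one, one_pow, mul_comm (orderOf g), pow_mul,
      pow_orderOf_eq_one, one_pow, one_mul]
  exact Odd.of_dvd_nat (hg.mul hh) (orderOf_dvd_of_pow_eq_one h1)

omit [DecidableEq α] [Fintype α] in
/-- for involutions `x z`, `z x` is the inverse of `x z` -/
theorem odd_swap_of_inv {x z : Perm α} (hx : x * x = 1) (hz : z * z = 1)
    (h : Odd (orderOf (x * z))) : Odd (orderOf (z * x)) := by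
  have : z * x = (x * z)⁻¹ := by
    rw [eq_inv_iff_mul_eq_one]
    calc z * x * (x * z) = z * (x * x) * z := by group
      _ = 1 := by rw [hx, mul_one, hz]
  rw [this, orderOf_inv]; exact h

omit [DecidableEq α] [Fintype α] in
theorem odd_conj {g : Perm α} (k : Perm α) (h : Odd (orderOf (k * g * k⁻¹))) :
    Odd (orderOf g) := by
  have : orderOf (k * g * k⁻¹) = orderOf g := by
    have := (MulAut.conj k).orderOf_eq g
    rwa [MulAut.conj_apply] at this
  rwa [this] at h

end Cfsg.Agent.Lib.Helper9.OddG
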