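import Mathlib
import Cfsg.Agent.Lib.Helper9.OddG1

/-!
# Involutions of a symmetric group: removing and adding a 2-cycle
-/

set_option autoImplicit false

namespace Cfsg.Agent.Lib.Helper9.OddG

open Equiv Equiv.Perm

variable {α : Type*} [DecidableEq α] [Fintype α]

omit [Fintype α] in
/-- a permutation fixing `a` and `b` commutes with `swap a b` -/
theorem swap_comm_of_fixed (π : Perm α) {a b : α} (ha : π a = a) (hb : π b = b) :
    swap a b * π = π * swap a b := by
  rw [Equiv.mul_swap_eq_swap_mul, ha, hb]

omit [DecidableEq α] [Fintype α] in
theorem inv_apply {x : Perm α} (hx : x * x = 1) (a : α) : x (x a) = a := by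
  have := congrArg (fun f : Perm α => f a) hx
  simpa using this

omit [Fintype α] in
theorem mul_swap_apply_left (π : Perm α) (a b : α) : (π * swap a b) a = π b := by
  rw [Perm.mul_apply, swap_apply_left]

omit [Fintype α] in
theorem mul_swap_apply_right (π : Perm α) (a b : α) : (π * swap a b) b = π a := by
  rw [Perm.mul_apply, swap_apply_right]

omit [Fintype α] in
theorem mul_swap_apply_of_ne (π : Perm α) {a b d : α} (ha : d ≠ a) (hb : d ≠ b) :
    (π * swap a b) d = π d := by
  rw [Perm.mul_apply, swap_apply_of_ne_of_ne ha hb]

/-! ### removing a 2-cycle -/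

section rem

variable {x : Perm α} (hx : x * x = 1) {a b : α} (hab : a ≠ b) (h : x a = b)

omit [DecidableEq α] [Fintype α] in
include hx h in
theorem rem_back : x b = a := by rw [← h, inv_apply hx]

omit [Fintype α] in
include hx h in
theorem rem_apply_left : (x * swap a b) a = a := by
  rw [mul_swap_apply_left, rem_back hx h]

omit [Fintype α] in
include h in
theorem rem_apply_right : (x * swap a b) b = b := by
  rw [mul_swap_apply_right, h]

omit [Fintype α] in
include hx h in
theorem rem_sq : (x * swap a b) * (x * swap a b) = 1 := by
  have hc : x * swap a b = swap a b * x := by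
    rw [Equiv.mul_swap_eq_swap_mul, h, rem_back hx h, swap_comm]
  calc x * swap a b * (x * swap a b) = x * swap a b * (swap a b * x) := by rw [← hc]
    _ = x * (swap a b * swap a b) * x := by group
    _ = 1 := by rw [swap_mul_self, mul_one, hx]

include hx hab h in
theorem rem_support : (x * swap a b).support = x.support \ {a, b} := by
  ext d
  rw [Finset.mem_sdiff, Perm.mem_support, Perm.mem_support, Finset.mem_insert,
    Finset.mem_singleton]
  by_cases hda : d = a
  · rw [hda, rem_apply_left hx h]
    simp
  by_cases hdb : d = b
  · rw [hdb, rem_apply_right h]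
    simp
  rw [mul_swap_apply_of_ne _ hda hdb]
  simp [hda, hdb]

include hx hab h in
theorem rem_card : (x * swap a b).support.card + 2 = x.support.card := by
  rw [rem_support hx hab h]
  have hsub : ({a, b} : Finset α) ⊆ x.support := by
    intro d hd
    rw [Finset.mem_insert, Finset.mem_singleton] at hd
    rw [Perm.mem_support]
    rcases hd with rfl | rfl
    · rw [h]; exact hab.symm
    · rw [rem_back hx h]; exact hab
  rw [Finset.card_sdiff_of_subset hsub, Finset.card_pair hab]
  have := Finset.card_le_card hsub
  rw [Finset.card_pair hab] at this
  omega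

end rem

/-! ### adding a 2-cycle -/

section add

variable {z : Perm α} (hz : z * z = 1) {u v : α} (huv : u ≠ v) (hu : z u = u) (hv : z v = v)

omit [Fintype α] in
include hv in
theorem add_apply_left : (z * swap u v) u = v := by
  rw [mul_swap_apply_left, hv]

omit [Fintype α] in
include hu in
theorem add_apply_right : (z * swap u v) v = u := by
  rw [mul_swap_apply_right, hu]

omit [Fintype α] in
include hz hu hv in
theorem add_sq : (z * swap u v) * (z * swap u v) = 1 := by
  have hc : swap u v * z = z * swap u v := swap_comm_of_fixed z hu hv
  calc z * swap u v * (z * swap u v) = z * (swap u v * z) * swap u v := by group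
    _ = z * (z * swap u v) * swap u v := by rw [hc]
    _ = (z * z) * (swap u v * swap u v) := by group
    _ = 1 := by rw [hz, swap_mul_self, mul_one]

include huv hu hv in
theorem add_support : (z * swap u v).support = z.support ∪ {u, v} := by
  ext d
  rw [Finset.mem_union, Perm.mem_support, Perm.mem_support, Finset.mem_insert,
    Finset.mem_singleton]
  by_cases hda : d = u
  · rw [hda, add_apply_left hv]
    simp [huv.symm]
  by_cases hdb : d = v
  · rw [hdb, add_apply_right hu]
    simp [huv]
  rw [mul_swap_apply_of_ne _ hda hdb]
  simp [hda, hdb]

include huv hu hv in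
theorem add_card : (z * swap u v).support.card = z.support.card + 2 := by
  rw [add_support huv hu hv]
  have hdisj : Disjoint z.support ({u, v} : Finset α) := by
    rw [Finset.disjoint_right]
    intro d hd
    rw [Finset.mem_insert, Finset.mem_singleton] at hd
    rw [Perm.mem_support, not_not]
    rcases hd with rfl | rfl
    · exact hu
    · exact hv
  rw [Finset.card_union_of_disjoint hdisj, Finset.card_pair huv]

end add

end Cfsg.Agent.Lib.Helper9.OddG
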