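import Mathlib
import Cfsg.Agent.Lib.Helper9.OddG2

/-!
# The odd-product graph on a class of involutions of a symmetric group: small moves
-/

set_option autoImplicit false

namespace Cfsg.Agent.Lib.Helper9.OddG

open Equiv Equiv.Perm

variable {α : Type*} [DecidableEq α] [Fintype α]

/-- there is an involution `z` supported in `S`, with as many 2-cycles as `x`, such that `x z` and
`z y` have odd order -/
def Good (S : Finset α) (x y : Perm α) : Prop :=
  ∃ z : Perm α, z * z = 1 ∧ z.support ⊆ S ∧ z.support.card = x.support.card ∧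
    Odd (orderOf (x * z)) ∧ Odd (orderOf (z * y))

/-- the exceptional configuration: two distinct fixed-point-free involutions of a 4-set -/
def Exc (S : Finset α) (x y : Perm α) : Prop :=
  x ≠ y ∧ S.card = 4 ∧ x.support = S ∧ y.support = S

theorem fixed_of_subset {z : Perm α} {S : Finset α} (hz : z.support ⊆ S) {a : α} (ha : a ∉ S) :
    z a = a := Perm.notMem_support.mp (fun h => ha (hz h))

theorem good_refl {S : Finset α} {x : Perm α} (hx : x * x = 1) (hS : x.support ⊆ S) :
    Good S x x :=
  ⟨x, hx, hS, rfl, by rw [hx, orderOf_one]; exact odd_one, by rw [hx, orderOf_one]; exact odd_one⟩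

theorem Good.symm {S : Finset α} {x y : Perm α} (hx : x * x = 1) (hy : y * y = 1)
    (hc : x.support.card = y.support.card) (h : Good S x y) : Good S y x := by
  obtain ⟨z, hz, hzS, hzc, h1, h2⟩ := h
  exact ⟨z, hz, hzS, hzc.trans hc, odd_swap_of_inv hz hy h2, odd_swap_of_inv hx hz h1⟩

/-- **Move B**: a common 2-cycle -/
theorem moveB {S : Finset α} {x y : Perm α} (hx : x * x = 1) (hy : y * y = 1) {p q : α}
    (hpq : p ≠ q) (hxp : x p = q) (hyp : y p = q) (hpS : p ∈ S) (hqS : q ∈ S)
    (h : Good (S \ {p, q}) (x * swap p q) (y * swap p q)) : Good S x y := by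
  obtain ⟨z', hz', hz'S, hz'c, h1, h2⟩ := h
  have hp' : z' p = p := fixed_of_subset hz'S (by simp)
  have hq' : z' q = q := fixed_of_subset hz'S (by simp)
  have hcz : swap p q * z' = z' * swap p q := swap_comm_of_fixed z' hp' hq'
  have hcy : swap p q * y = y * swap p q := by
    rw [Equiv.mul_swap_eq_swap_mul, hyp, rem_back hy hyp, swap_comm]
  refine ⟨z' * swap p q, add_sq hz' hp' hq', ?_, ?_, ?_, ?_⟩
  · rw [add_support hpq hp' hq']
    apply Finset.union_subset (hz'S.trans Finset.sdiff_subset)
    intro d hd
    rw [Finset.mem_insert, Finset.mem_singleton] at hd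
    rcases hd with rfl | rfl <;> assumption
  · rw [add_card hpq hp' hq', hz'c, rem_card hx hpq hxp]
  · have : x * (z' * swap p q) = x * swap p q * z' := by
      rw [← hcz]; group
    rw [this]; exact h1
  · have : z' * swap p q * y = z' * (y * swap p q) := by
      rw [mul_assoc, hcy]
    rw [this]; exact h2

/-- **Move C**: a point `a` fixed by `y` with `x a = b` and `y b = c ≠ b` -/
theorem moveC {S : Finset α} {x y : Perm α} (hx : x * x = 1) (hy : y * y = 1) {a b c : α}
    (hab : a ≠ b) (hbc : b ≠ c) (hxa : x a = b) (hya : y a = a) (hyb : y b = c)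
    (haS : a ∈ S) (hbS : b ∈ S)
    (h : Good (S \ {a, b}) (x * swap a b) (y * swap b c)) : Good S x y := by
  obtain ⟨z', hz', hz'S, hz'c, h1, h2⟩ := h
  have hca : c ≠ a := by
    rintro rfl
    -- y b = a, so b = y a = a
    apply hab
    have := rem_back hy hyb
    rw [hya] at this
    exact this
  have ha' : z' a = a := fixed_of_subset hz'S (by simp)
  have hb' : z' b = b := fixed_of_subset hz'S (by simp)
  have hcz : swap a b * z' = z' * swap a b := swap_comm_of_fixed z' ha' hb'
  -- `y' = y * swap b c` fixes `a` and `b`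
  have hy'a : (y * swap b c) a = a := by
    rw [mul_swap_apply_of_ne _ hab hca.symm, hya]
  have hy'b : (y * swap b c) b = b := rem_apply_left hy hyb
  have hcy : swap a b * (y * swap b c) = (y * swap b c) * swap a b :=
    swap_comm_of_fixed _ hy'a hy'b
  refine ⟨z' * swap a b, add_sq hz' ha' hb', ?_, ?_, ?_, ?_⟩
  · rw [add_support hab ha' hb']
    apply Finset.union_subset (hz'S.trans Finset.sdiff_subset)
    intro d hd
    rw [Finset.mem_insert, Finset.mem_singleton] at hd
    rcases hd with rfl | rfl <;> assumption
  · rw [add_card hab ha' hb', hz'c, rem_card hx hab hxa]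
  · have : x * (z' * swap a b) = x * swap a b * z' := by
      rw [← hcz]; group
    rw [this]; exact h1
  · have hyy : y = (y * swap b c) * swap b c := by
      rw [mul_assoc, swap_mul_self, mul_one]
    have : z' * swap a b * y = (z' * (y * swap b c)) * cyc3 a b c := by
      unfold cyc3
      calc z' * swap a b * y = z' * swap a b * ((y * swap b c) * swap b c) := by rw [← hyy]
        _ = z' * (swap a b * (y * swap b c)) * swap b c := by group
        _ = z' * ((y * swap b c) * swap a b) * swap b c := by rw [hcy]
        _ = z' * (y * swap b c) * (swap a b * swap b c) := by group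
    rw [this]
    apply insertion _ h2 hab hca hbc.symm
    · rw [Perm.mul_apply, hy'a, ha']
    · rw [Perm.mul_apply, hy'b, hb']

/-- rotation of a 3-cycle -/
theorem cyc3_rot {a b c : α} (hab : a ≠ b) (hbc : b ≠ c) (hca : c ≠ a) :
    cyc3 a b c = cyc3 b c a := by
  ext d
  by_cases h1 : d = a
  · rw [h1, cyc3_fst hab hca, cyc3_thd]
  by_cases h2 : d = b
  · rw [h2, cyc3_snd hca hbc.symm, cyc3_fst hbc hab]
  by_cases h3 : d = c
  · rw [h3, cyc3_thd, cyc3_snd hab hca.symm]
  rw [cyc3_of_ne h1 h2 h3, cyc3_of_ne h2 h3 h1]

/-- **Move D1**: an isolated 2-cycle `(a b)` of `x` and an isolated 2-cycle `(c d)` of `y` -/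
theorem moveD1 {S : Finset α} {x y : Perm α} (hx : x * x = 1) (hy : y * y = 1) {a b c d : α}
    (hab : a ≠ b) (hcd : c ≠ d) (hxa : x a = b) (hyb : y b = b)
    (hyc : y c = d) (hxc : x c = c) (hxd : x d = d) (hbS : b ∈ S) (hcS : c ∈ S)
    (h : Good (S \ {b, c}) (x * swap a b) (y * swap c d)) : Good S x y := by
  obtain ⟨z', hz', hz'S, hz'c, h1, h2⟩ := h
  have hxb : x b = a := rem_back hx hxa
  have hyd : y d = c := rem_back hy hyc
  have hac : a ≠ c := by rintro rfl; rw [hxc] at hxa; exact hab hxa
  have hbc : b ≠ c := by rintro rfl; rw [hxc] at hxb; exact hab hxb.symm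
  have had : a ≠ d := by rintro rfl; rw [hxd] at hxa; exact hab hxa
  have hbd : b ≠ d := by rintro rfl; rw [hxd] at hxb; exact hab hxb.symm
  have hb' : z' b = b := fixed_of_subset hz'S (by simp)
  have hc' : z' c = c := fixed_of_subset hz'S (by simp)
  have hcz : swap b c * z' = z' * swap b c := swap_comm_of_fixed z' hb' hc'
  -- `x' = x * swap a b` fixes `b` and `c`
  have hx'b : (x * swap a b) b = b := rem_apply_right hxa
  have hx'c : (x * swap a b) c = c := by
    rw [mul_swap_apply_of_ne _ hac.symm hbc.symm, hxc]
  -- `y' = y * swap c d` fixes `b` and `c`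
  have hy'b : (y * swap c d) b = b := by
    rw [mul_swap_apply_of_ne _ hbc hbd, hyb]
  have hy'c : (y * swap c d) c = c := rem_apply_left hy hyc
  have hcy : swap b c * (y * swap c d) = (y * swap c d) * swap b c :=
    swap_comm_of_fixed _ hy'b hy'c
  have hz'x' : Odd (orderOf (z' * (x * swap a b))) :=
    odd_swap_of_inv (rem_sq hx hxa) hz' h1
  refine ⟨z' * swap b c, add_sq hz' hb' hc', ?_, ?_, ?_, ?_⟩
  · rw [add_support hbc hb' hc']
    apply Finset.union_subset (hz'S.trans Finset.sdiff_subset)
    intro e he
    rw [Finset.mem_insert, Finset.mem_singleton] at he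
    rcases he with rfl | rfl <;> assumption
  · rw [add_card hbc hb' hc', hz'c, rem_card hx hab hxa]
  · -- conjugate by `z'`
    apply odd_conj z'
    have hz'inv : z'⁻¹ = z' := inv_eq_of_mul_eq_one_left hz'
    have hxx : x = (x * swap a b) * swap a b := by
      rw [mul_assoc, swap_mul_self, mul_one]
    have : z' * (x * (z' * swap b c)) * z'⁻¹ = (z' * (x * swap a b)) * cyc3 b c a := by
      rw [← cyc3_rot hab hbc hac.symm]
      unfold cyc3
      rw [hz'inv]
      calc z' * (x * (z' * swap b c)) * z' = z' * x * (z' * swap b c) * z' := by group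
        _ = z' * x * (swap b c * z') * z' := by rw [hcz]
        _ = z' * x * swap b c * (z' * z') := by group
        _ = z' * x * swap b c := by rw [hz', mul_one]
        _ = z' * ((x * swap a b) * swap a b) * swap b c := by rw [← hxx]
        _ = z' * (x * swap a b) * (swap a b * swap b c) := by group
    rw [this]
    apply insertion _ hz'x' hbc hab hac
    · rw [Perm.mul_apply, hx'b, hb']
    · rw [Perm.mul_apply, hx'c, hc']
  · have hyy : y = (y * swap c d) * swap c d := by
      rw [mul_assoc, swap_mul_self, mul_one]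
    have : z' * swap b c * y = (z' * (y * swap c d)) * cyc3 b c d := by
      unfold cyc3
      calc z' * swap b c * y = z' * swap b c * ((y * swap c d) * swap c d) := by rw [← hyy]
        _ = z' * (swap b c * (y * swap c d)) * swap c d := by group
        _ = z' * ((y * swap c d) * swap b c) * swap c d := by rw [hcy]
        _ = z' * (y * swap c d) * (swap b c * swap c d) := by group
    rw [this]
    apply insertion _ h2 hbc hbd.symm hcd.symm
    · rw [Perm.mul_apply, hy'b, hb']
    · rw [Perm.mul_apply, hy'c, hc']

end Cfsg.Agent.Lib.Helper9.OddG
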