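import Mathlib
import Cfsg.Agent.Lib.Helper9.OddG3

/-!
# The odd-product graph on involutions: transport from `Fin n`, and the two long moves
-/

set_option autoImplicit false

namespace Cfsg.Agent.Lib.Helper9.OddG

open Equiv Equiv.Perm

variable {α : Type*} [DecidableEq α] [Fintype α]

/-- transport of permutations along an embedding -/
noncomputable def emb {n : ℕ} (f : Fin n ↪ α) : Perm (Fin n) →* Perm α :=
  Equiv.Perm.viaEmbeddingHom f

omit [Fintype α] in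
theorem emb_swap {n : ℕ} (f : Fin n ↪ α) (i j : Fin n) :
    emb f (swap i j) = swap (f i) (f j) := by
  ext d
  unfold emb
  rw [viaEmbeddingHom_apply]
  by_cases hd : d ∈ Set.range f
  · obtain ⟨k, rfl⟩ := hd
    rw [viaEmbedding_apply, f.injective.swap_apply]
  · rw [viaEmbedding_apply_of_notMem _ _ _ hd]
    have h1 : d ≠ f i := fun h => hd ⟨i, h.symm⟩
    have h2 : d ≠ f j := fun h => hd ⟨j, h.symm⟩
    rw [swap_apply_of_ne_of_ne h1 h2]

omit [DecidableEq α] [Fintype α] in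
theorem odd_of_emb {n : ℕ} (f : Fin n ↪ α) (g : Perm (Fin n)) (m : ℕ) (hm : Odd m)
    (h : g ^ m = 1) : Odd (orderOf (emb f g)) := by
  have : (emb f g) ^ m = 1 := by rw [← map_pow, h, map_one]
  exact Odd.of_dvd_nat hm (orderOf_dvd_of_pow_eq_one this)

/-- the embedding `Fin l.length ↪ α` of a duplicate-free list -/
def embOfList (l : List α) (h : l.Nodup) : Fin l.length ↪ α :=
  ⟨l.get, List.nodup_iff_injective_get.mp h⟩

omit [Fintype α] in
theorem idD2b_aux (f : Fin 6 ↪ α) :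
    swap (f 1) (f 2) * swap (f 3) (f 4) * (swap (f 0) (f 5) * swap (f 4) (f 5) * swap (f 2) (f 3)
      * swap (f 0) (f 1)) = cyc3 (f 2) (f 4) (f 0) * cyc3 (f 3) (f 1) (f 5) := by
  unfold cyc3
  simp only [← emb_swap, ← map_mul]
  congr 1
  decide

omit [Fintype α] in
theorem idD2b {a0 a1 a2 a3 a4 a5 : α} (hnd : [a0, a1, a2, a3, a4, a5].Nodup) :
    swap a1 a2 * swap a3 a4 * (swap a0 a5 * swap a4 a5 * swap a2 a3 * swap a0 a1)
      = cyc3 a2 a4 a0 * cyc3 a3 a1 a5 :=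
  idD2b_aux (embOfList _ hnd)

omit [Fintype α] in
theorem idD2a1_aux (f : Fin 6 ↪ α) :
    swap (f 2) (f 3) * swap (f 0) (f 1) * (swap (f 4) (f 5) * swap (f 4) (f 0) * swap (f 1) (f 3)
      * swap (f 2) (f 5)) = cyc3 (f 1) (f 2) (f 4) * cyc3 (f 3) (f 0) (f 5) := by
  unfold cyc3
  simp only [← emb_swap, ← map_mul]
  congr 1
  decide

omit [Fintype α] in
theorem idD2a1 {a0 a1 a2 a3 p q : α} (hnd : [a0, a1, a2, a3, p, q].Nodup) :
    swap a2 a3 * swap a0 a1 * (swap p q * swap p a0 * swap a1 a3 * swap a2 q)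
      = cyc3 a1 a2 p * cyc3 a3 a0 q :=
  idD2a1_aux (embOfList _ hnd)

omit [Fintype α] in
theorem idD2a2_aux (f : Fin 6 ↪ α) :
    swap (f 3) (f 0) * swap (f 1) (f 2) * (swap (f 4) (f 5) * swap (f 4) (f 0) * swap (f 1) (f 3)
      * swap (f 2) (f 5)) = cyc3 (f 3) (f 2) (f 4) * cyc3 (f 1) (f 0) (f 5) := by
  unfold cyc3
  simp only [← emb_swap, ← map_mul]
  congr 1
  decide

omit [Fintype α] in
theorem idD2a2 {a0 a1 a2 a3 p q : α} (hnd : [a0, a1, a2, a3, p, q].Nodup) :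
    swap a3 a0 * swap a1 a2 * (swap p q * swap p a0 * swap a1 a3 * swap a2 q)
      = cyc3 a3 a2 p * cyc3 a1 a0 q :=
  idD2a2_aux (embOfList _ hnd)

theorem pull_two {G : Type*} [Group G] (z' s t x' R : G) (hs : s * x' = x' * s)
    (ht : t * x' = x' * t) : z' * s * t * (x' * R) = z' * x' * (s * t * R) := by
  calc z' * s * t * (x' * R) = z' * s * (t * x') * R := by group
    _ = z' * s * (x' * t) * R := by rw [ht]
    _ = z' * (s * x') * t * R := by group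
    _ = z' * (x' * s) * t * R := by rw [hs]
    _ = z' * x' * (s * t * R) := by group

/-- **Move D2b**: an alternating path `a0 -x- a1 -y- a2 -x- a3 -y- a4 -x- a5` -/
theorem moveD2b {S : Finset α} {x y : Perm α} (hx : x * x = 1) (hy : y * y = 1)
    {a0 a1 a2 a3 a4 a5 : α} (hnd : [a0, a1, a2, a3, a4, a5].Nodup)
    (hx0 : x a0 = a1) (hx2 : x a2 = a3) (hx4 : x a4 = a5) (hy1 : y a1 = a2) (hy3 : y a3 = a4)
    (h1S : a1 ∈ S) (h2S : a2 ∈ S) (h3S : a3 ∈ S) (h4S : a4 ∈ S)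
    (h : Good (S \ {a1, a2, a3, a4})
      (x * swap a0 a1 * swap a2 a3 * swap a4 a5 * swap a0 a5) (y * swap a1 a2 * swap a3 a4)) :
    Good S x y := by
  obtain ⟨z', hz', hz'S, hz'c, h1, h2⟩ := h
  have h01 : a0 ≠ a1 := by rintro rfl; simp at hnd
  have h02 : a0 ≠ a2 := by rintro rfl; simp at hnd
  have h03 : a0 ≠ a3 := by rintro rfl; simp at hnd
  have h04 : a0 ≠ a4 := by rintro rfl; simp at hnd
  have h05 : a0 ≠ a5 := by rintro rfl; simp at hnd
  have h12 : a1 ≠ a2 := by rintro rfl; simp at hnd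
  have h13 : a1 ≠ a3 := by rintro rfl; simp at hnd
  have h14 : a1 ≠ a4 := by rintro rfl; simp at hnd
  have h15 : a1 ≠ a5 := by rintro rfl; simp at hnd
  have h23 : a2 ≠ a3 := by rintro rfl; simp at hnd
  have h24 : a2 ≠ a4 := by rintro rfl; simp at hnd
  have h25 : a2 ≠ a5 := by rintro rfl; simp at hnd
  have h34 : a3 ≠ a4 := by rintro rfl; simp at hnd
  have h35 : a3 ≠ a5 := by rintro rfl; simp at hnd
  have h45 : a4 ≠ a5 := by rintro rfl; simp at hnd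
  -- the successive modifications of `x`
  obtain ⟨x1, hx1d⟩ : ∃ x1, x1 = x * swap a0 a1 := ⟨_, rfl⟩
  obtain ⟨x2, hx2d⟩ : ∃ x2, x2 = x1 * swap a2 a3 := ⟨_, rfl⟩
  obtain ⟨x3, hx3d⟩ : ∃ x3, x3 = x2 * swap a4 a5 := ⟨_, rfl⟩
  obtain ⟨x', hx'd⟩ : ∃ x', x' = x3 * swap a0 a5 := ⟨_, rfl⟩
  rw [← hx1d, ← hx2d, ← hx3d, ← hx'd] at hz'c h1
  have hx1 : x1 * x1 = 1 := by rw [hx1d]; exact rem_sq hx hx0
  have hx1_0 : x1 a0 = a0 := by rw [hx1d]; exact rem_apply_left hx hx0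
  have hx1_1 : x1 a1 = a1 := by rw [hx1d]; exact rem_apply_right hx0
  have hx1_2 : x1 a2 = a3 := by rw [hx1d, mul_swap_apply_of_ne _ h02.symm h12.symm, hx2]
  have hx1_4 : x1 a4 = a5 := by rw [hx1d, mul_swap_apply_of_ne _ h04.symm h14.symm, hx4]
  have hx2s : x2 * x2 = 1 := by rw [hx2d]; exact rem_sq hx1 hx1_2
  have hx2_0 : x2 a0 = a0 := by rw [hx2d, mul_swap_apply_of_ne _ h02 h03, hx1_0]
  have hx2_1 : x2 a1 = a1 := by rw [hx2d, mul_swap_apply_of_ne _ h12 h13, hx1_1]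
  have hx2_2 : x2 a2 = a2 := by rw [hx2d]; exact rem_apply_left hx1 hx1_2
  have hx2_3 : x2 a3 = a3 := by rw [hx2d]; exact rem_apply_right hx1_2
  have hx2_4 : x2 a4 = a5 := by rw [hx2d, mul_swap_apply_of_ne _ h24.symm h34.symm, hx1_4]
  have hx3s : x3 * x3 = 1 := by rw [hx3d]; exact rem_sq hx2s hx2_4
  have hx3_0 : x3 a0 = a0 := by rw [hx3d, mul_swap_apply_of_ne _ h04 h05, hx2_0]
  have hx3_1 : x3 a1 = a1 := by rw [hx3d, mul_swap_apply_of_ne _ h14 h15, hx2_1]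
  have hx3_2 : x3 a2 = a2 := by rw [hx3d, mul_swap_apply_of_ne _ h24 h25, hx2_2]
  have hx3_3 : x3 a3 = a3 := by rw [hx3d, mul_swap_apply_of_ne _ h34 h35, hx2_3]
  have hx3_4 : x3 a4 = a4 := by rw [hx3d]; exact rem_apply_left hx2s hx2_4
  have hx3_5 : x3 a5 = a5 := by rw [hx3d]; exact rem_apply_right hx2_4
  have hx's : x' * x' = 1 := by rw [hx'd]; exact add_sq hx3s hx3_0 hx3_5
  have hx'_1 : x' a1 = a1 := by rw [hx'd, mul_swap_apply_of_ne _ h01.symm h15, hx3_1]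
  have hx'_2 : x' a2 = a2 := by rw [hx'd, mul_swap_apply_of_ne _ h02.symm h25, hx3_2]
  have hx'_3 : x' a3 = a3 := by rw [hx'd, mul_swap_apply_of_ne _ h03.symm h35, hx3_3]
  have hx'_4 : x' a4 = a4 := by rw [hx'd, mul_swap_apply_of_ne _ h04.symm h45, hx3_4]
  have hcx : x'.support.card + 4 = x.support.card := by
    have e1 := rem_card hx h01 hx0
    have e2 := rem_card hx1 h23 hx1_2
    have e3 := rem_card hx2s h45 hx2_4
    have e4 := add_card h05 hx3_0 hx3_5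
    rw [← hx1d] at e1
    rw [← hx2d] at e2
    rw [← hx3d] at e3
    rw [← hx'd] at e4
    omega
  have hxx : x = x' * (swap a0 a5 * swap a4 a5 * swap a2 a3 * swap a0 a1) := by
    rw [hx'd, hx3d, hx2d, hx1d]
    simp [mul_assoc]
  -- the successive modifications of `y`
  obtain ⟨y1, hy1d⟩ : ∃ y1, y1 = y * swap a1 a2 := ⟨_, rfl⟩
  obtain ⟨y', hy'd⟩ : ∃ y', y' = y1 * swap a3 a4 := ⟨_, rfl⟩
  rw [← hy1d, ← hy'd] at h2
  have hy1s : y1 * y1 = 1 := by rw [hy1d]; exact rem_sq hy hy1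
  have hy1_1 : y1 a1 = a1 := by rw [hy1d]; exact rem_apply_left hy hy1
  have hy1_2 : y1 a2 = a2 := by rw [hy1d]; exact rem_apply_right hy1
  have hy1_3 : y1 a3 = a4 := by rw [hy1d, mul_swap_apply_of_ne _ h13.symm h23.symm, hy3]
  have hy'_1 : y' a1 = a1 := by rw [hy'd, mul_swap_apply_of_ne _ h13 h14, hy1_1]
  have hy'_2 : y' a2 = a2 := by rw [hy'd, mul_swap_apply_of_ne _ h23 h24, hy1_2]
  have hy'_3 : y' a3 = a3 := by rw [hy'd]; exact rem_apply_left hy1s hy1_3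
  have hy'_4 : y' a4 = a4 := by rw [hy'd]; exact rem_apply_right hy1_3
  have hyy : y = y' * (swap a3 a4 * swap a1 a2) := by
    rw [hy'd, hy1d]
    simp [mul_assoc]
  -- `z'` fixes `a1 .. a4`
  have hz'_1 : z' a1 = a1 := fixed_of_subset hz'S (by simp)
  have hz'_2 : z' a2 = a2 := fixed_of_subset hz'S (by simp)
  have hz'_3 : z' a3 = a3 := fixed_of_subset hz'S (by simp)
  have hz'_4 : z' a4 = a4 := fixed_of_subset hz'S (by simp)
  obtain ⟨z1, hz1d⟩ : ∃ z1, z1 = z' * swap a1 a2 := ⟨_, rfl⟩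
  have hz1s : z1 * z1 = 1 := by rw [hz1d]; exact add_sq hz' hz'_1 hz'_2
  have hz1_3 : z1 a3 = a3 := by rw [hz1d, mul_swap_apply_of_ne _ h13.symm h23.symm, hz'_3]
  have hz1_4 : z1 a4 = a4 := by rw [hz1d, mul_swap_apply_of_ne _ h14.symm h24.symm, hz'_4]
  have hzs : (z1 * swap a3 a4) * (z1 * swap a3 a4) = 1 := add_sq hz1s hz1_3 hz1_4
  have hzsupp : (z1 * swap a3 a4).support ⊆ S := by
    rw [add_support h34 hz1_3 hz1_4, hz1d, add_support h12 hz'_1 hz'_2]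
    intro d hd
    simp only [Finset.mem_union, Finset.mem_insert, Finset.mem_singleton] at hd
    rcases hd with (hd | rfl | rfl) | rfl | rfl
    · exact (Finset.mem_sdiff.mp (hz'S hd)).1
    all_goals assumption
  have hzcard : (z1 * swap a3 a4).support.card = x.support.card := by
    rw [add_card h34 hz1_3 hz1_4, hz1d, add_card h12 hz'_1 hz'_2, hz'c]
    omega
  have hzx : Odd (orderOf (z1 * swap a3 a4 * x)) := by
    have hc1 : swap a1 a2 * x' = x' * swap a1 a2 := swap_comm_of_fixed x' hx'_1 hx'_2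
    have hc2 : swap a3 a4 * x' = x' * swap a3 a4 := swap_comm_of_fixed x' hx'_3 hx'_4
    have e : z1 * swap a3 a4 * x = z' * x' * cyc3 a2 a4 a0 * cyc3 a3 a1 a5 := by
      rw [hz1d, hxx, pull_two _ _ _ _ _ hc1 hc2, idD2b hnd]
      simp only [mul_assoc]
    rw [e]
    have hw : Odd (orderOf (z' * x')) := odd_swap_of_inv hx's hz' h1
    have hw1 : Odd (orderOf (z' * x' * cyc3 a2 a4 a0)) := by
      apply insertion _ hw h24 h02 h04
      · rw [Perm.mul_apply, hx'_2, hz'_2]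
      · rw [Perm.mul_apply, hx'_4, hz'_4]
    apply insertion _ hw1 h13.symm h35.symm h15.symm
    · rw [Perm.mul_apply, cyc3_of_ne h23.symm h34 h03.symm, Perm.mul_apply, hx'_3, hz'_3]
    · rw [Perm.mul_apply, cyc3_of_ne h12 h14 h01.symm, Perm.mul_apply, hx'_1, hz'_1]
  refine ⟨z1 * swap a3 a4, hzs, hzsupp, hzcard, odd_swap_of_inv hzs hx hzx, ?_⟩
  have hc1 : swap a1 a2 * y' = y' * swap a1 a2 := swap_comm_of_fixed y' hy'_1 hy'_2
  have hc2 : swap a3 a4 * y' = y' * swap a3 a4 := swap_comm_of_fixed y' hy'_3 hy'_4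
  have e : z1 * swap a3 a4 * y = z' * y' := by
    rw [hz1d, hyy, pull_two _ _ _ _ _ hc1 hc2]
    simp [mul_assoc]
  rw [e]
  exact h2

/-- **Move D2a**: an alternating 4-cycle `a0 -x- a1 -y- a2 -x- a3 -y- a0`, rerouted through a
2-cycle `(p q)` of the solution of the rest -/
theorem moveD2a {S : Finset α} {x y : Perm α} (hx : x * x = 1) (hy : y * y = 1)
    {a0 a1 a2 a3 : α} (hnd : [a0, a1, a2, a3].Nodup)
    (hx0 : x a0 = a1) (hx2 : x a2 = a3) (hy1 : y a1 = a2) (hy3 : y a3 = a0)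
    (h0S : a0 ∈ S) (h1S : a1 ∈ S) (h2S : a2 ∈ S) (h3S : a3 ∈ S)
    (hne : x * swap a0 a1 * swap a2 a3 ≠ 1)
    (h : Good (S \ {a0, a1, a2, a3})
      (x * swap a0 a1 * swap a2 a3) (y * swap a1 a2 * swap a3 a0)) :
    Good S x y := by
  obtain ⟨z', hz', hz'S, hz'c, h1, h2⟩ := h
  have h01 : a0 ≠ a1 := by rintro rfl; simp at hnd
  have h02 : a0 ≠ a2 := by rintro rfl; simp at hnd
  have h03 : a0 ≠ a3 := by rintro rfl; simp at hnd
  have h12 : a1 ≠ a2 := by rintro rfl; simp at hnd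
  have h13 : a1 ≠ a3 := by rintro rfl; simp at hnd
  have h23 : a2 ≠ a3 := by rintro rfl; simp at hnd
  -- the successive modifications of `x`
  obtain ⟨x1, hx1d⟩ : ∃ x1, x1 = x * swap a0 a1 := ⟨_, rfl⟩
  obtain ⟨x', hx'd⟩ : ∃ x', x' = x1 * swap a2 a3 := ⟨_, rfl⟩
  rw [← hx1d, ← hx'd] at hz'c h1 hne
  have hx1 : x1 * x1 = 1 := by rw [hx1d]; exact rem_sq hx hx0
  have hx1_0 : x1 a0 = a0 := by rw [hx1d]; exact rem_apply_left hx hx0
  have hx1_1 : x1 a1 = a1 := by rw [hx1d]; exact rem_apply_right hx0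
  have hx1_2 : x1 a2 = a3 := by rw [hx1d, mul_swap_apply_of_ne _ h02.symm h12.symm, hx2]
  have hx's : x' * x' = 1 := by rw [hx'd]; exact rem_sq hx1 hx1_2
  have hx'_0 : x' a0 = a0 := by rw [hx'd, mul_swap_apply_of_ne _ h02 h03, hx1_0]
  have hx'_1 : x' a1 = a1 := by rw [hx'd, mul_swap_apply_of_ne _ h12 h13, hx1_1]
  have hx'_2 : x' a2 = a2 := by rw [hx'd]; exact rem_apply_left hx1 hx1_2
  have hx'_3 : x' a3 = a3 := by rw [hx'd]; exact rem_apply_right hx1_2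
  have hcx : x'.support.card + 4 = x.support.card := by
    have e1 := rem_card hx h01 hx0
    have e2 := rem_card hx1 h23 hx1_2
    rw [← hx1d] at e1
    rw [← hx'd] at e2
    omega
  have hxx : x = x' * swap a2 a3 * swap a0 a1 := by
    rw [hx'd, hx1d]
    simp [mul_assoc]
  -- the successive modifications of `y`
  obtain ⟨y1, hy1d⟩ : ∃ y1, y1 = y * swap a1 a2 := ⟨_, rfl⟩
  obtain ⟨y', hy'd⟩ : ∃ y', y' = y1 * swap a3 a0 := ⟨_, rfl⟩
  rw [← hy1d, ← hy'd] at h2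
  have hy1s : y1 * y1 = 1 := by rw [hy1d]; exact rem_sq hy hy1
  have hy1_1 : y1 a1 = a1 := by rw [hy1d]; exact rem_apply_left hy hy1
  have hy1_2 : y1 a2 = a2 := by rw [hy1d]; exact rem_apply_right hy1
  have hy1_3 : y1 a3 = a0 := by rw [hy1d, mul_swap_apply_of_ne _ h13.symm h23.symm, hy3]
  have hy's : y' * y' = 1 := by rw [hy'd]; exact rem_sq hy1s hy1_3
  have hy'_1 : y' a1 = a1 := by rw [hy'd, mul_swap_apply_of_ne _ h13 h01.symm, hy1_1]
  have hy'_2 : y' a2 = a2 := by rw [hy'd, mul_swap_apply_of_ne _ h23 h02.symm, hy1_2]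
  have hy'_3 : y' a3 = a3 := by rw [hy'd]; exact rem_apply_left hy1s hy1_3
  have hy'_0 : y' a0 = a0 := by rw [hy'd]; exact rem_apply_right hy1_3
  have hyy : y = y' * swap a3 a0 * swap a1 a2 := by
    rw [hy'd, hy1d]
    simp [mul_assoc]
  -- `z'` fixes `a0 .. a3`
  have hz'_0 : z' a0 = a0 := fixed_of_subset hz'S (by simp)
  have hz'_1 : z' a1 = a1 := fixed_of_subset hz'S (by simp)
  have hz'_2 : z' a2 = a2 := fixed_of_subset hz'S (by simp)
  have hz'_3 : z' a3 = a3 := fixed_of_subset hz'S (by simp)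
  -- a 2-cycle `(p q)` of `z'`
  have hsne : z'.support.Nonempty := by
    rw [← Finset.card_pos, hz'c, Finset.card_pos]
    rw [Finset.nonempty_iff_ne_empty, Ne, Perm.support_eq_empty_iff]
    exact hne
  obtain ⟨p, hp⟩ := hsne
  obtain ⟨q, hqd⟩ : ∃ q, z' p = q := ⟨_, rfl⟩
  have hpq : p ≠ q := by
    rw [← hqd]; exact (Perm.mem_support.mp hp).symm
  have hq : q ∈ z'.support := by
    rw [← hqd]; exact Perm.apply_mem_support.mpr hp
  have hpS := hz'S hp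
  have hqS := hz'S hq
  simp only [Finset.mem_sdiff, Finset.mem_insert, Finset.mem_singleton, not_or] at hpS hqS
  obtain ⟨hpS, hp0, hp1, hp2, hp3⟩ := hpS
  obtain ⟨hqS, hq0, hq1, hq2, hq3⟩ := hqS
  have hnd6 : [a0, a1, a2, a3, p, q].Nodup := by
    simp only [List.nodup_cons, List.mem_cons, List.not_mem_nil, or_false, not_or,
      List.nodup_nil, and_true, not_false_eq_true]
    exact ⟨⟨h01, h02, h03, Ne.symm hp0, Ne.symm hq0⟩, ⟨h12, h13, Ne.symm hp1, Ne.symm hq1⟩,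
      ⟨h23, Ne.symm hp2, Ne.symm hq2⟩, ⟨Ne.symm hp3, Ne.symm hq3⟩, hpq⟩
  -- build `z`
  obtain ⟨z0, hz0d⟩ : ∃ z0, z0 = z' * swap p q := ⟨_, rfl⟩
  obtain ⟨z1, hz1d⟩ : ∃ z1, z1 = z0 * swap p a0 := ⟨_, rfl⟩
  obtain ⟨z2, hz2d⟩ : ∃ z2, z2 = z1 * swap a1 a3 := ⟨_, rfl⟩
  obtain ⟨z, hzd⟩ : ∃ z, z = z2 * swap a2 q := ⟨_, rfl⟩
  have hz0s : z0 * z0 = 1 := by rw [hz0d]; exact rem_sq hz' hqd
  have hz0_p : z0 p = p := by rw [hz0d]; exact rem_apply_left hz' hqd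
  have hz0_q : z0 q = q := by rw [hz0d]; exact rem_apply_right hqd
  have hz0_0 : z0 a0 = a0 := by rw [hz0d, mul_swap_apply_of_ne _ (Ne.symm hp0) (Ne.symm hq0), hz'_0]
  have hz0_1 : z0 a1 = a1 := by rw [hz0d, mul_swap_apply_of_ne _ (Ne.symm hp1) (Ne.symm hq1), hz'_1]
  have hz0_2 : z0 a2 = a2 := by rw [hz0d, mul_swap_apply_of_ne _ (Ne.symm hp2) (Ne.symm hq2), hz'_2]
  have hz0_3 : z0 a3 = a3 := by rw [hz0d, mul_swap_apply_of_ne _ (Ne.symm hp3) (Ne.symm hq3), hz'_3]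
  have hz1s : z1 * z1 = 1 := by rw [hz1d]; exact add_sq hz0s hz0_p hz0_0
  have hz1_1 : z1 a1 = a1 := by rw [hz1d, mul_swap_apply_of_ne _ (Ne.symm hp1) h01.symm, hz0_1]
  have hz1_3 : z1 a3 = a3 := by rw [hz1d, mul_swap_apply_of_ne _ (Ne.symm hp3) h03.symm, hz0_3]
  have hz1_2 : z1 a2 = a2 := by rw [hz1d, mul_swap_apply_of_ne _ (Ne.symm hp2) h02.symm, hz0_2]
  have hz1_q : z1 q = q := by rw [hz1d, mul_swap_apply_of_ne _ hpq.symm hq0, hz0_q]
  have hz2s : z2 * z2 = 1 := by rw [hz2d]; exact add_sq hz1s hz1_1 hz1_3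
  have hz2_2 : z2 a2 = a2 := by rw [hz2d, mul_swap_apply_of_ne _ h12.symm h23, hz1_2]
  have hz2_q : z2 q = q := by rw [hz2d, mul_swap_apply_of_ne _ hq1 hq3, hz1_q]
  have hzs : z * z = 1 := by rw [hzd]; exact add_sq hz2s hz2_2 hz2_q
  have hzsupp : z.support ⊆ S := by
    rw [hzd, add_support (Ne.symm hq2) hz2_2 hz2_q, hz2d, add_support h13 hz1_1 hz1_3, hz1d,
      add_support hp0 hz0_p hz0_0, hz0d, rem_support hz' hpq hqd]
    intro d hd
    simp only [Finset.mem_union, Finset.mem_insert, Finset.mem_singleton, Finset.mem_sdiff] at hd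
    rcases hd with ((⟨hd, _⟩ | rfl | rfl) | rfl | rfl) | rfl | rfl
    · exact (Finset.mem_sdiff.mp (hz'S hd)).1
    all_goals assumption
  have hzcard : z.support.card = x.support.card := by
    have e0 := rem_card hz' hpq hqd
    rw [← hz0d] at e0
    rw [hzd, add_card (Ne.symm hq2) hz2_2 hz2_q, hz2d, add_card h13 hz1_1 hz1_3, hz1d,
      add_card hp0 hz0_p hz0_0]
    omega
  have hzz : z = z' * (swap p q * swap p a0 * swap a1 a3 * swap a2 q) := by
    rw [hzd, hz2d, hz1d, hz0d]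
    simp only [mul_assoc]
  have hcz1 : swap a2 a3 * z' = z' * swap a2 a3 := swap_comm_of_fixed z' hz'_2 hz'_3
  have hcz2 : swap a0 a1 * z' = z' * swap a0 a1 := swap_comm_of_fixed z' hz'_0 hz'_1
  have hcz3 : swap a3 a0 * z' = z' * swap a3 a0 := swap_comm_of_fixed z' hz'_3 hz'_0
  have hcz4 : swap a1 a2 * z' = z' * swap a1 a2 := swap_comm_of_fixed z' hz'_1 hz'_2
  have hxz : Odd (orderOf (x * z)) := by
    have e : x * z = x' * z' * cyc3 a1 a2 p * cyc3 a3 a0 q := by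
      rw [hzz, hxx, pull_two _ _ _ _ _ hcz1 hcz2, idD2a1 hnd6]
      simp only [mul_assoc]
    rw [e]
    have hw1 : Odd (orderOf (x' * z' * cyc3 a1 a2 p)) := by
      apply insertion _ h1 h12 hp1 hp2
      · rw [Perm.mul_apply, hz'_1, hx'_1]
      · rw [Perm.mul_apply, hz'_2, hx'_2]
    apply insertion _ hw1 h03.symm hq3 hq0
    · rw [Perm.mul_apply, cyc3_of_ne h13.symm h23.symm (Ne.symm hp3), Perm.mul_apply, hz'_3, hx'_3]
    · rw [Perm.mul_apply, cyc3_of_ne h01 h02 (Ne.symm hp0), Perm.mul_apply, hz'_0, hx'_0]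
  have hyz : Odd (orderOf (y * z)) := by
    have e : y * z = y' * z' * cyc3 a3 a2 p * cyc3 a1 a0 q := by
      rw [hzz, hyy, pull_two _ _ _ _ _ hcz3 hcz4, idD2a2 hnd6]
      simp only [mul_assoc]
    rw [e]
    have hw : Odd (orderOf (y' * z')) := odd_swap_of_inv hz' hy's h2
    have hw1 : Odd (orderOf (y' * z' * cyc3 a3 a2 p)) := by
      apply insertion _ hw h23.symm hp3 hp2
      · rw [Perm.mul_apply, hz'_3, hy'_3]
      · rw [Perm.mul_apply, hz'_2, hy'_2]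
    apply insertion _ hw1 h01.symm hq1 hq0
    · rw [Perm.mul_apply, cyc3_of_ne h13 h12 (Ne.symm hp1), Perm.mul_apply, hz'_1, hy'_1]
    · rw [Perm.mul_apply, cyc3_of_ne h03 h02 (Ne.symm hp0), Perm.mul_apply, hz'_0, hy'_0]
  exact ⟨z, hzs, hzsupp, hzcard, hxz, odd_swap_of_inv hy hzs hyz⟩

end Cfsg.Agent.Lib.Helper9.OddG
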