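import Mathlib
import Cfsg.Agent.Lib.Helper9.OddG4

/-!
# The odd-product graph on involutions: the exceptional configurations
-/

set_option autoImplicit false

namespace Cfsg.Agent.Lib.Helper9.OddG

open Equiv Equiv.Perm

variable {α : Type*} [DecidableEq α] [Fintype α]

theorem emb_apply {n : ℕ} (f : Fin n ↪ α) (g : Perm (Fin n)) (i : Fin n) :
    emb f g (f i) = f (g i) := by
  unfold emb
  rw [viaEmbeddingHom_apply, viaEmbedding_apply]

theorem emb_apply_of_notMem {n : ℕ} (f : Fin n ↪ α) (g : Perm (Fin n)) {d : α}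
    (hd : d ∉ Set.range f) : emb f g d = d := by
  unfold emb
  rw [viaEmbeddingHom_apply, viaEmbedding_apply_of_notMem _ _ _ hd]

theorem emb_support {n : ℕ} (f : Fin n ↪ α) (g : Perm (Fin n)) :
    (emb f g).support = g.support.map f := by
  ext d
  rw [Perm.mem_support, Finset.mem_map]
  by_cases hd : d ∈ Set.range f
  · obtain ⟨i, rfl⟩ := hd
    rw [emb_apply]
    constructor
    · intro h
      exact ⟨i, Perm.mem_support.mpr (fun h' => h (by rw [h'])), rfl⟩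
    · rintro ⟨j, hj, hji⟩
      have := f.injective hji
      subst this
      exact fun h => (Perm.mem_support.mp hj) (f.injective h)
  · rw [emb_apply_of_notMem f g hd]
    constructor
    · intro h; exact absurd rfl h
    · rintro ⟨j, _, hj⟩
      exact absurd ⟨j, hj⟩ hd

/-- a solution in `Fin n` transports to a solution in `α` -/
theorem good_of_emb {n : ℕ} (f : Fin n ↪ α) {S : Finset α} (hS : ∀ i, f i ∈ S)
    (x₀ y₀ z₀ : Perm (Fin n)) (hz₀ : z₀ * z₀ = 1)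
    (hcard : z₀.support.card = x₀.support.card) (m1 m2 : ℕ) (hm1 : Odd m1) (hm2 : Odd m2)
    (h1 : (x₀ * z₀) ^ m1 = 1) (h2 : (z₀ * y₀) ^ m2 = 1) :
    Good S (emb f x₀) (emb f y₀) := by
  refine ⟨emb f z₀, ?_, ?_, ?_, ?_, ?_⟩
  · rw [← map_mul, hz₀, map_one]
  · rw [emb_support]
    intro d hd
    obtain ⟨i, _, rfl⟩ := Finset.mem_map.mp hd
    exact hS i
  · rw [emb_support, emb_support, Finset.card_map, Finset.card_map, hcard]
  · rw [← map_mul]; exact odd_of_emb f _ m1 hm1 h1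
  · rw [← map_mul]; exact odd_of_emb f _ m2 hm2 h2

theorem good_of_list (l : List α) (hnd : l.Nodup) {S : Finset α} (hS : ∀ d ∈ l, d ∈ S)
    (x₀ y₀ z₀ : Perm (Fin l.length)) (hz₀ : z₀ * z₀ = 1)
    (hcard : z₀.support.card = x₀.support.card) (m1 m2 : ℕ) (hm1 : Odd m1) (hm2 : Odd m2)
    (h1 : (x₀ * z₀) ^ m1 = 1) (h2 : (z₀ * y₀) ^ m2 = 1) :
    Good S (emb (embOfList l hnd) x₀) (emb (embOfList l hnd) y₀) :=
  good_of_emb _ (fun i => hS _ (List.get_mem l i)) x₀ y₀ z₀ hz₀ hcard m1 m2 hm1 hm2 h1 h2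

/-- **Handler E1**: an alternating 4-cycle and a free point -/
theorem handlerE1 {S : Finset α} {x y : Perm α} {a0 a1 a2 a3 p : α}
    (hnd : [a0, a1, a2, a3, p].Nodup) (hxe : x = swap a2 a3 * swap a0 a1)
    (hye : y = swap a3 a0 * swap a1 a2) (hS : ∀ d ∈ [a0, a1, a2, a3, p], d ∈ S) :
    Good S x y := by
  have d1 : (swap (0 : Fin 5) 1 * swap 2 4) * (swap (0 : Fin 5) 1 * swap 2 4) = 1 := by decide
  have d2 : (swap (0 : Fin 5) 1 * swap 2 4).support.card
      = (swap (2 : Fin 5) 3 * swap 0 1).support.card := by decide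
  have d3 : ((swap (2 : Fin 5) 3 * swap 0 1) * (swap (0 : Fin 5) 1 * swap 2 4)) ^ 3 = 1 := by
    decide
  have d4 : ((swap (0 : Fin 5) 1 * swap 2 4) * (swap (3 : Fin 5) 0 * swap 1 2)) ^ 5 = 1 := by
    decide
  have h := good_of_list _ hnd hS (swap (2 : Fin 5) 3 * swap 0 1) (swap (3 : Fin 5) 0 * swap 1 2)
    (swap (0 : Fin 5) 1 * swap 2 4) d1 d2 3 5 (by decide) (by decide) d3 d4
  have ex : x = emb (embOfList _ hnd) (swap (2 : Fin 5) 3 * swap 0 1) := by
    rw [hxe, map_mul, emb_swap, emb_swap]; rfl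
  have ey : y = emb (embOfList _ hnd) (swap (3 : Fin 5) 0 * swap 1 2) := by
    rw [hye, map_mul, emb_swap, emb_swap]; rfl
  rw [ex, ey]
  exact h

set_option maxRecDepth 20000 in
/-- **Handler E3**: an alternating 8-cycle -/
theorem handlerE3 {S : Finset α} {x y : Perm α} {a0 a1 a2 a3 a4 a5 a6 a7 : α}
    (hnd : [a0, a1, a2, a3, a4, a5, a6, a7].Nodup)
    (hxe : x = (swap a0 a5 * swap a6 a7) *
      (swap a0 a5 * swap a4 a5 * swap a2 a3 * swap a0 a1))
    (hye : y = (swap a5 a6 * swap a7 a0) * (swap a3 a4 * swap a1 a2))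
    (hS : ∀ d ∈ [a0, a1, a2, a3, a4, a5, a6, a7], d ∈ S) :
    Good S x y := by
  obtain ⟨x₀, hx₀⟩ : ∃ x₀ : Perm (Fin 8), x₀ = (swap 0 5 * swap 6 7) *
      (swap 0 5 * swap 4 5 * swap 2 3 * swap 0 1) := ⟨_, rfl⟩
  obtain ⟨y₀, hy₀⟩ : ∃ y₀ : Perm (Fin 8), y₀ = (swap 5 6 * swap 7 0) *
      (swap 3 4 * swap 1 2) := ⟨_, rfl⟩
  obtain ⟨z₀, hz₀⟩ : ∃ z₀ : Perm (Fin 8), z₀ = swap 0 1 * swap 3 4 * swap 2 6 * swap 5 7 :=
    ⟨_, rfl⟩
  have d1 : z₀ * z₀ = 1 := by rw [hz₀]; decide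
  have d2 : z₀.support.card = x₀.support.card := by rw [hz₀, hx₀]; decide
  have d3 : (x₀ * z₀) ^ 3 = 1 := by rw [hz₀, hx₀]; decide
  have d4 : (z₀ * y₀) ^ 3 = 1 := by rw [hz₀, hy₀]; decide
  have h := good_of_list _ hnd hS x₀ y₀ z₀ d1 d2 3 3 (by decide) (by decide) d3 d4
  have ex : x = emb (embOfList _ hnd) x₀ := by
    rw [hxe, hx₀]; simp only [map_mul, emb_swap]; rfl
  have ey : y = emb (embOfList _ hnd) y₀ := by
    rw [hye, hy₀]; simp only [map_mul, emb_swap]; rfl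
  rw [ex, ey]
  exact h

set_option maxRecDepth 20000 in
/-- **Handler E4**: two alternating 4-cycles -/
theorem handlerE4 {S : Finset α} {x y : Perm α} {a0 a1 a2 a3 b0 b1 b2 b3 : α}
    (hnd : [a0, a1, a2, a3, b0, b1, b2, b3].Nodup)
    (hxe : x = (swap b0 b1 * swap b2 b3) * swap a2 a3 * swap a0 a1)
    (hye : y = (swap b1 b2 * swap b3 b0) * swap a3 a0 * swap a1 a2)
    (hS : ∀ d ∈ [a0, a1, a2, a3, b0, b1, b2, b3], d ∈ S) :
    Good S x y := by
  obtain ⟨x₀, hx₀⟩ : ∃ x₀ : Perm (Fin 8), x₀ = (swap 4 5 * swap 6 7) * swap 2 3 * swap 0 1 :=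
    ⟨_, rfl⟩
  obtain ⟨y₀, hy₀⟩ : ∃ y₀ : Perm (Fin 8), y₀ = (swap 5 6 * swap 7 4) * swap 3 0 * swap 1 2 :=
    ⟨_, rfl⟩
  obtain ⟨z₀, hz₀⟩ : ∃ z₀ : Perm (Fin 8), z₀ = swap 0 1 * swap 5 6 * swap 3 4 * swap 2 7 :=
    ⟨_, rfl⟩
  have d1 : z₀ * z₀ = 1 := by rw [hz₀]; decide
  have d2 : z₀.support.card = x₀.support.card := by rw [hz₀, hx₀]; decide
  have d3 : (x₀ * z₀) ^ 3 = 1 := by rw [hz₀, hx₀]; decide
  have d4 : (z₀ * y₀) ^ 3 = 1 := by rw [hz₀, hy₀]; decide
  have h := good_of_list _ hnd hS x₀ y₀ z₀ d1 d2 3 3 (by decide) (by decide) d3 d4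
  have ex : x = emb (embOfList _ hnd) x₀ := by
    rw [hxe, hx₀]; simp only [map_mul, emb_swap]; rfl
  have ey : y = emb (embOfList _ hnd) y₀ := by
    rw [hye, hy₀]; simp only [map_mul, emb_swap]; rfl
  rw [ex, ey]
  exact h

omit [Fintype α] in
/-- an involution moving at most `b0 .. b3`, with `b0 ↦ b1` and `b2 ↦ b3` -/
theorem eq_two_swaps {x : Perm α} {b0 b1 b2 b3 : α} (hnd : [b0, b1, b2, b3].Nodup)
    (hx : x * x = 1) (hsupp : ∀ d, x d ≠ d → d = b0 ∨ d = b1 ∨ d = b2 ∨ d = b3)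
    (h0 : x b0 = b1) (h2 : x b2 = b3) : x = swap b0 b1 * swap b2 b3 := by
  have h01 : b0 ≠ b1 := by rintro rfl; simp at hnd
  have h02 : b0 ≠ b2 := by rintro rfl; simp at hnd
  have h03 : b0 ≠ b3 := by rintro rfl; simp at hnd
  have h12 : b1 ≠ b2 := by rintro rfl; simp at hnd
  have h13 : b1 ≠ b3 := by rintro rfl; simp at hnd
  have h23 : b2 ≠ b3 := by rintro rfl; simp at hnd
  ext d
  rw [Perm.mul_apply]
  by_cases d0 : d = b0
  · rw [d0, h0, swap_apply_of_ne_of_ne h02 h03, swap_apply_left]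
  by_cases d1 : d = b1
  · rw [d1, rem_back hx h0, swap_apply_of_ne_of_ne h12 h13, swap_apply_right]
  by_cases d2 : d = b2
  · rw [d2, h2, swap_apply_left, swap_apply_of_ne_of_ne h03.symm h13.symm]
  by_cases d3 : d = b3
  · rw [d3, rem_back hx h2, swap_apply_right, swap_apply_of_ne_of_ne h02.symm h12.symm]
  rw [swap_apply_of_ne_of_ne d2 d3, swap_apply_of_ne_of_ne d0 d1]
  by_contra h
  rcases hsupp d h with h | h | h | h <;> contradiction

/-- `a0` starts an alternating 4-cycle `a0 -x- a1 -y- a2 -x- a3 -y- a0` -/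
def Bad (x y : Perm α) (a0 : α) : Prop :=
  x a0 ≠ a0 ∧ y (x a0) ≠ x a0 ∧ y (x a0) ≠ a0 ∧ y (x (y (x a0))) = a0

omit [DecidableEq α] [Fintype α] in
theorem bad_nodup {x y : Perm α} (hx : x * x = 1) (hy : y * y = 1) {a0 : α} (h : Bad x y a0) :
    [a0, x a0, y (x a0), x (y (x a0))].Nodup := by
  obtain ⟨h1, h2, h3, h4⟩ := h
  have h01 : a0 ≠ x a0 := Ne.symm h1
  have h12 : x a0 ≠ y (x a0) := Ne.symm h2
  have h02 : a0 ≠ y (x a0) := Ne.symm h3
  have h23 : y (x a0) ≠ x (y (x a0)) := by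
    intro h
    rw [← h] at h4
    -- `y (y (x a0)) = a0`, so `x a0 = a0`
    rw [inv_apply hy] at h4
    exact h1 h4
  have h13 : x a0 ≠ x (y (x a0)) := fun h => h02 (x.injective h)
  have h03 : a0 ≠ x (y (x a0)) := by
    intro h
    have := congrArg x h
    rw [inv_apply hx] at this
    exact h12 this
  simp only [List.nodup_cons, List.mem_cons, List.not_mem_nil, or_false, not_or,
    List.nodup_nil, and_true, not_false_eq_true]
  exact ⟨⟨h01, h02, h03⟩, ⟨h12, h13⟩, h23⟩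

/-- in the exceptional configuration every point with `x b0 ≠ y b0` starts an alternating 4-cycle
exhausting `S` -/
theorem exc_cycle_of_ne {S : Finset α} {x y : Perm α} (hx : x * x = 1) (hy : y * y = 1)
    (hE : Exc S x y) {b0 : α} (hb : x b0 ≠ y b0) :
    [b0, x b0, y (x b0), x (y (x b0))].Nodup ∧ y (x (y (x b0))) = b0 ∧
      S = {b0, x b0, y (x b0), x (y (x b0))} := by
  obtain ⟨_, hcard, hxS, hyS⟩ := hE
  have memx : ∀ d, d ∈ S ↔ x d ≠ d := by
    intro d; rw [← hxS, Perm.mem_support]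
  have memy : ∀ d, d ∈ S ↔ y d ≠ d := by
    intro d; rw [← hyS, Perm.mem_support]
  have imgx : ∀ d, d ∈ S → x d ∈ S := by
    intro d hd
    rw [← hxS] at hd ⊢
    exact Perm.apply_mem_support.mpr hd
  have imgy : ∀ d, d ∈ S → y d ∈ S := by
    intro d hd
    rw [← hyS] at hd ⊢
    exact Perm.apply_mem_support.mpr hd
  have hb0 : b0 ∈ S := by
    by_contra h
    have e1 : x b0 = b0 := by
      by_contra h'; exact h ((memx b0).mpr h')
    have e2 : y b0 = b0 := by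
      by_contra h'; exact h ((memy b0).mpr h')
    exact hb (e1.trans e2.symm)
  obtain ⟨b1, hb1⟩ : ∃ b1, x b0 = b1 := ⟨_, rfl⟩
  obtain ⟨b2, hb2⟩ : ∃ b2, y b1 = b2 := ⟨_, rfl⟩
  obtain ⟨b3, hb3⟩ : ∃ b3, x b2 = b3 := ⟨_, rfl⟩
  obtain ⟨b4, hb4⟩ : ∃ b4, y b3 = b4 := ⟨_, rfl⟩
  rw [hb1, hb2, hb3, hb4]
  rw [hb1] at hb
  have hb1S : b1 ∈ S := hb1 ▸ imgx _ hb0
  have hb2S : b2 ∈ S := hb2 ▸ imgy _ hb1S
  have hb3S : b3 ∈ S := hb3 ▸ imgx _ hb2S
  have hb4S : b4 ∈ S := hb4 ▸ imgy _ hb3S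
  have h01 : b0 ≠ b1 := by
    rw [← hb1]; exact ((memx b0).mp hb0).symm
  have h12 : b1 ≠ b2 := by
    rw [← hb2]; exact ((memy b1).mp hb1S).symm
  have h02 : b0 ≠ b2 := by
    intro h
    rw [← h] at hb2
    exact hb (rem_back hy hb2).symm
  have h23 : b2 ≠ b3 := by
    rw [← hb3]; exact ((memx b2).mp hb2S).symm
  have h13 : b1 ≠ b3 := by
    intro h
    rw [← h, ← hb1] at hb3
    exact h02 (x.injective hb3).symm
  have h03 : b0 ≠ b3 := by
    intro h
    rw [← h] at hb3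
    have := rem_back hx hb3
    rw [hb1] at this
    exact h12 this
  have h34 : b3 ≠ b4 := by
    rw [← hb4]; exact ((memy b3).mp hb3S).symm
  have h24 : b2 ≠ b4 := by
    intro h
    rw [← h, ← hb2] at hb4
    exact h13 (y.injective hb4).symm
  have h14 : b1 ≠ b4 := by
    intro h
    rw [← h] at hb4
    have := rem_back hy hb4
    rw [hb2] at this
    exact h23 this
  have hnd : [b0, b1, b2, b3].Nodup := by
    simp only [List.nodup_cons, List.mem_cons, List.not_mem_nil, or_false, not_or,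
      List.nodup_nil, and_true, not_false_eq_true]
    exact ⟨⟨h01, h02, h03⟩, ⟨h12, h13⟩, h23⟩
  have hSeq : S = {b0, b1, b2, b3} := by
    symm
    apply Finset.eq_of_subset_of_card_le
    · intro d hd
      simp only [Finset.mem_insert, Finset.mem_singleton] at hd
      rcases hd with rfl | rfl | rfl | rfl <;> assumption
    · rw [hcard]
      have : ({b0, b1, b2, b3} : Finset α) = [b0, b1, b2, b3].toFinset := by
        ext d; simp
      rw [this, List.toFinset_card_of_nodup hnd]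
      simp
  refine ⟨hnd, ?_, hSeq⟩
  rw [hSeq] at hb4S
  simp only [Finset.mem_insert, Finset.mem_singleton] at hb4S
  rcases hb4S with h | h | h | h
  · exact h
  · exact absurd h.symm h14
  · exact absurd h.symm h24
  · exact absurd h.symm h34

/-- in the exceptional configuration `x` and `y` differ at every point of `S` -/
theorem exc_ne {S : Finset α} {x y : Perm α} (hx : x * x = 1) (hy : y * y = 1)
    (hE : Exc S x y) {v : α} (hv : v ∈ S) : x v ≠ y v := by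
  have hne : ∃ c0, x c0 ≠ y c0 := by
    by_contra h
    push Not at h
    exact hE.1 (Perm.ext h)
  obtain ⟨c0, hc0⟩ := hne
  obtain ⟨hnd, h4, hS⟩ := exc_cycle_of_ne hx hy hE hc0
  obtain ⟨c1, hc1⟩ : ∃ c1, x c0 = c1 := ⟨_, rfl⟩
  obtain ⟨c2, hc2⟩ : ∃ c2, y c1 = c2 := ⟨_, rfl⟩
  obtain ⟨c3, hc3⟩ : ∃ c3, x c2 = c3 := ⟨_, rfl⟩
  rw [hc1, hc2, hc3] at hnd h4 hS
  have h02 : c0 ≠ c2 := by rintro rfl; simp at hnd
  have h13 : c1 ≠ c3 := by rintro rfl; simp at hnd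
  rw [hS] at hv
  simp only [Finset.mem_insert, Finset.mem_singleton] at hv
  rcases hv with rfl | rfl | rfl | rfl
  · exact hc0
  · rw [rem_back hx hc1, hc2]; exact h02
  · rw [hc3, rem_back hy hc2]; exact h13.symm
  · rw [rem_back hx hc3, h4]; exact h02.symm

theorem exc_cycle {S : Finset α} {x y : Perm α} (hx : x * x = 1) (hy : y * y = 1)
    (hE : Exc S x y) {b0 : α} (hb : b0 ∈ S) :
    [b0, x b0, y (x b0), x (y (x b0))].Nodup ∧ y (x (y (x b0))) = b0 ∧
      S = {b0, x b0, y (x b0), x (y (x b0))} :=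
  exc_cycle_of_ne hx hy hE (exc_ne hx hy hE hb)

end Cfsg.Agent.Lib.Helper9.OddG
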