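import Mathlib
import Cfsg.Agent.Lib.Helper9.OddG5

/-!
# The odd-product graph on involutions: the cases with a short reduction, and the alternating 4-cycle
-/

set_option autoImplicit false

namespace Cfsg.Agent.Lib.Helper9.OddG

open Equiv Equiv.Perm

variable {α : Type*} [DecidableEq α] [Fintype α]

/-- the induction hypothesis -/
def IHyp (α : Type*) [DecidableEq α] [Fintype α] (n : ℕ) : Prop :=
  ∀ (S' : Finset α) (x' y' : Perm α), S'.card < n → x' * x' = 1 → y' * y' = 1 →
    x'.support ⊆ S' → y'.support ⊆ S' → x'.support.card = y'.support.card →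
    ¬Exc S' x' y' → Good S' x' y'

theorem mem_of_moved {x : Perm α} {S : Finset α} (hS : x.support ⊆ S) {a : α} (h : x a ≠ a) :
    a ∈ S := hS (Perm.mem_support.mpr h)

theorem rem_subset {x : Perm α} (hx : x * x = 1) {a b : α} (hab : a ≠ b) (h : x a = b)
    {S : Finset α} (hS : x.support ⊆ S) (T : Finset α)
    (hT : ∀ d ∈ T, d = a ∨ d = b ∨ x d = d) : (x * swap a b).support ⊆ S \ T := by
  rw [rem_support hx hab h]
  intro d hd
  rw [Finset.mem_sdiff] at hd ⊢
  refine ⟨hS hd.1, fun hdT => ?_⟩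
  rcases hT d hdT with rfl | rfl | h'
  · exact hd.2 (by simp)
  · exact hd.2 (by simp)
  · exact (Perm.mem_support.mp hd.1) h'

theorem card_sdiff_lt {S T : Finset α} (hT : T ⊆ S) (hne : T.Nonempty) :
    (S \ T).card < S.card :=
  Finset.card_lt_card (Finset.sdiff_ssubset hT hne)

section cases

variable {S : Finset α} {x y : Perm α} (hx : x * x = 1) (hy : y * y = 1)
  (hxS : x.support ⊆ S) (hyS : y.support ⊆ S) (hc : x.support.card = y.support.card)
  (IH : IHyp α S.card)

include hx hy hxS hyS hc IH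

theorem caseC {a : α} (hya : y a = a) (hxa : x a ≠ a) (hyb : y (x a) ≠ x a) : Good S x y := by
  obtain ⟨b, hb⟩ : ∃ b, x a = b := ⟨_, rfl⟩
  obtain ⟨c, hcd⟩ : ∃ c, y b = c := ⟨_, rfl⟩
  rw [hb] at hxa hyb
  rw [hcd] at hyb
  have hab : a ≠ b := hxa.symm
  have hbc : b ≠ c := hyb.symm
  have hxb : x b = a := rem_back hx hb
  have hyc : y c = b := rem_back hy hcd
  have hca : c ≠ a := by
    rintro rfl
    rw [hya] at hyc
    exact hbc hyc.symm
  have haS : a ∈ S := mem_of_moved hxS (by rw [hb]; exact hxa)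
  have hbS : b ∈ S := mem_of_moved hxS (by rw [hxb]; exact hab)
  have hcS : c ∈ S := mem_of_moved hyS (by rw [hyc]; exact hbc)
  apply moveC hx hy hab hbc hb hya hcd haS hbS
  apply IH
  · apply card_sdiff_lt
    · intro d hd
      simp only [Finset.mem_insert, Finset.mem_singleton] at hd
      rcases hd with rfl | rfl <;> assumption
    · exact ⟨a, by simp⟩
  · exact rem_sq hx hb
  · exact rem_sq hy hcd
  · apply rem_subset hx hab hb hxS
    intro d hd
    simp only [Finset.mem_insert, Finset.mem_singleton] at hd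
    rcases hd with rfl | rfl
    · left; rfl
    · right; left; rfl
  · apply rem_subset hy hbc hcd hyS
    intro d hd
    simp only [Finset.mem_insert, Finset.mem_singleton] at hd
    rcases hd with rfl | rfl
    · right; right; exact hya
    · left; rfl
  · have e1 := rem_card hx hab hb
    have e2 := rem_card hy hbc hcd
    omega
  · intro hE
    have hcS' : c ∈ S \ {a, b} := by
      simp only [Finset.mem_sdiff, Finset.mem_insert, Finset.mem_singleton, not_or]
      exact ⟨hcS, hca, hbc.symm⟩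
    rw [← hE.2.2.2, Perm.mem_support] at hcS'
    exact hcS' (rem_apply_right hcd)

theorem caseD1 {a c : α} (hxa : x a ≠ a) (hyb : y (x a) = x a) (hxc : x c = c) (hyc : y c ≠ c)
    (hxd : x (y c) = y c) : Good S x y := by
  obtain ⟨b, hb⟩ : ∃ b, x a = b := ⟨_, rfl⟩
  obtain ⟨d, hd⟩ : ∃ d, y c = d := ⟨_, rfl⟩
  rw [hb] at hxa hyb
  rw [hd] at hyc hxd
  have hab : a ≠ b := hxa.symm
  have hcd : c ≠ d := hyc.symm
  have hxb : x b = a := rem_back hx hb
  have hac : a ≠ c := by
    rintro rfl
    rw [hxc] at hb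
    exact hab hb
  have haS : a ∈ S := mem_of_moved hxS (by rw [hb]; exact hxa)
  have hbS : b ∈ S := mem_of_moved hxS (by rw [hxb]; exact hab)
  have hcS : c ∈ S := mem_of_moved hyS (by rw [hd]; exact hyc)
  apply moveD1 hx hy hab hcd hb hyb hd hxc hxd hbS hcS
  apply IH
  · apply card_sdiff_lt
    · intro e he
      simp only [Finset.mem_insert, Finset.mem_singleton] at he
      rcases he with rfl | rfl <;> assumption
    · exact ⟨b, by simp⟩
  · exact rem_sq hx hb
  · exact rem_sq hy hd
  · apply rem_subset hx hab hb hxS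
    intro e he
    simp only [Finset.mem_insert, Finset.mem_singleton] at he
    rcases he with rfl | rfl
    · right; left; rfl
    · right; right; exact hxc
  · apply rem_subset hy hcd hd hyS
    intro e he
    simp only [Finset.mem_insert, Finset.mem_singleton] at he
    rcases he with rfl | rfl
    · right; right; exact hyb
    · left; rfl
  · have e1 := rem_card hx hab hb
    have e2 := rem_card hy hcd hd
    omega
  · intro hE
    have haS' : a ∈ S \ {b, c} := by
      simp only [Finset.mem_sdiff, Finset.mem_insert, Finset.mem_singleton, not_or]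
      exact ⟨haS, hab, hac⟩
    rw [← hE.2.2.1, Perm.mem_support] at haS'
    exact haS' (rem_apply_left hx hb)

end cases


/-- removing two 2-cycles -/
theorem rem2_facts {x : Perm α} (hx : x * x = 1) {a b c d : α} (hab : a ≠ b) (hcd : c ≠ d)
    (hca : c ≠ a) (hcb : c ≠ b) (h1 : x a = b) (h2 : x c = d) :
    (x * swap a b * swap c d) * (x * swap a b * swap c d) = 1 ∧
    (x * swap a b * swap c d).support = (x.support \ {a, b}) \ {c, d} ∧
    (x * swap a b * swap c d).support.card + 4 = x.support.card ∧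
    x = (x * swap a b * swap c d) * swap c d * swap a b ∧
    ∀ e, e ≠ a → e ≠ b → e ≠ c → e ≠ d → (x * swap a b * swap c d) e = x e := by
  have hx1 : (x * swap a b) * (x * swap a b) = 1 := rem_sq hx h1
  have hx1c : (x * swap a b) c = d := by rw [mul_swap_apply_of_ne _ hca hcb, h2]
  refine ⟨rem_sq hx1 hx1c, ?_, ?_, ?_, ?_⟩
  · rw [rem_support hx1 hcd hx1c, rem_support hx hab h1]
  · have e1 := rem_card hx hab h1
    have e2 := rem_card hx1 hcd hx1c
    omega
  · simp [mul_assoc]
  · intro e ha hb hc hd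
    rw [mul_swap_apply_of_ne _ hc hd, mul_swap_apply_of_ne _ ha hb]

theorem nodup4 {a0 a1 a2 a3 : α} (h01 : a0 ≠ a1) (h02 : a0 ≠ a2) (h03 : a0 ≠ a3) (h12 : a1 ≠ a2)
    (h13 : a1 ≠ a3) (h23 : a2 ≠ a3) : [a0, a1, a2, a3].Nodup := by
  simp only [List.nodup_cons, List.mem_cons, List.not_mem_nil, or_false, not_or,
    List.nodup_nil, and_true, not_false_eq_true]
  exact ⟨⟨h01, h02, h03⟩, ⟨h12, h13⟩, h23⟩

section cases

variable {S : Finset α} {x y : Perm α} (hx : x * x = 1) (hy : y * y = 1)
  (hxS : x.support ⊆ S) (hyS : y.support ⊆ S) (hc : x.support.card = y.support.card)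
  (IH : IHyp α S.card)

include hx hy hxS hyS hc IH

theorem case1 (hE : ¬Exc S x y) {a0 : α} (hbad : Bad x y a0) : Good S x y := by
  have hnd := bad_nodup hx hy hbad
  have hy3 := hbad.2.2.2
  obtain ⟨a1, hx0⟩ : ∃ a1, x a0 = a1 := ⟨_, rfl⟩
  obtain ⟨a2, hy1⟩ : ∃ a2, y a1 = a2 := ⟨_, rfl⟩
  obtain ⟨a3, hx2⟩ : ∃ a3, x a2 = a3 := ⟨_, rfl⟩
  rw [hx0, hy1, hx2] at hnd hy3
  clear hbad
  have h01 : a0 ≠ a1 := by rintro rfl; simp at hnd
  have h02 : a0 ≠ a2 := by rintro rfl; simp at hnd
  have h03 : a0 ≠ a3 := by rintro rfl; simp at hnd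
  have h12 : a1 ≠ a2 := by rintro rfl; simp at hnd
  have h13 : a1 ≠ a3 := by rintro rfl; simp at hnd
  have h23 : a2 ≠ a3 := by rintro rfl; simp at hnd
  have hx1 : x a1 = a0 := rem_back hx hx0
  have hx3 : x a3 = a2 := rem_back hx hx2
  have hy2 : y a2 = a1 := rem_back hy hy1
  have hy0 : y a0 = a3 := rem_back hy hy3
  have h0S : a0 ∈ S := mem_of_moved hxS (by rw [hx0]; exact h01.symm)
  have h1S : a1 ∈ S := mem_of_moved hxS (by rw [hx1]; exact h01)
  have h2S : a2 ∈ S := mem_of_moved hxS (by rw [hx2]; exact h23.symm)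
  have h3S : a3 ∈ S := mem_of_moved hxS (by rw [hx3]; exact h23)
  obtain ⟨hx's, hx'supp, hx'card, hxx, hx'e⟩ :=
    rem2_facts hx h01 h23 h02.symm h12.symm hx0 hx2
  obtain ⟨hy's, hy'supp, hy'card, hyy, hy'e⟩ :=
    rem2_facts hy h12 h03.symm h13.symm h23.symm hy1 hy3
  obtain ⟨x', hx'd⟩ : ∃ x', x' = x * swap a0 a1 * swap a2 a3 := ⟨_, rfl⟩
  obtain ⟨y', hy'd⟩ : ∃ y', y' = y * swap a1 a2 * swap a3 a0 := ⟨_, rfl⟩
  rw [← hx'd] at hx's hx'supp hx'card hxx hx'e
  rw [← hy'd] at hy's hy'supp hy'card hyy hy'e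
  have hx'S : x'.support ⊆ S \ {a0, a1, a2, a3} := by
    rw [hx'supp]
    intro e he
    simp only [Finset.mem_sdiff, Finset.mem_insert, Finset.mem_singleton, not_or] at he ⊢
    exact ⟨hxS he.1.1, he.1.2.1, he.1.2.2, he.2.1, he.2.2⟩
  have hy'S : y'.support ⊆ S \ {a0, a1, a2, a3} := by
    rw [hy'supp]
    intro e he
    simp only [Finset.mem_sdiff, Finset.mem_insert, Finset.mem_singleton, not_or] at he ⊢
    exact ⟨hyS he.1.1, he.2.2, he.1.2.1, he.1.2.2, he.2.1⟩
  have hcard' : x'.support.card = y'.support.card := by omega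
  by_cases hx'1 : x' = 1
  · -- handler E1
    have hy'1 : y' = 1 := by
      rw [← Perm.support_eq_empty_iff, ← Finset.card_eq_zero, ← hcard', hx'1]
      simp
    rw [hx'1, one_mul] at hxx
    rw [hy'1, one_mul] at hyy
    -- a free point
    have hfree : ∃ p ∈ S, p ∉ ({a0, a1, a2, a3} : Finset α) := by
      by_contra hno
      push Not at hno
      apply hE
      have hSeq : S = {a0, a1, a2, a3} := by
        apply Finset.Subset.antisymm hno
        intro e he
        simp only [Finset.mem_insert, Finset.mem_singleton] at he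
        rcases he with rfl | rfl | rfl | rfl <;> assumption
      refine ⟨?_, ?_, ?_, ?_⟩
      · intro hxy
        rw [← hxy, hx0] at hy0
        exact h13 hy0
      · rw [hSeq]
        have : ({a0, a1, a2, a3} : Finset α) = [a0, a1, a2, a3].toFinset := by
          ext d; simp
        rw [this, List.toFinset_card_of_nodup hnd]
        simp
      · apply Finset.Subset.antisymm hxS
        rw [hSeq]
        intro e he
        simp only [Finset.mem_insert, Finset.mem_singleton] at he
        rw [Perm.mem_support]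
        rcases he with rfl | rfl | rfl | rfl
        · rw [hx0]; exact h01.symm
        · rw [hx1]; exact h01
        · rw [hx2]; exact h23.symm
        · rw [hx3]; exact h23
      · apply Finset.Subset.antisymm hyS
        rw [hSeq]
        intro e he
        simp only [Finset.mem_insert, Finset.mem_singleton] at he
        rw [Perm.mem_support]
        rcases he with rfl | rfl | rfl | rfl
        · rw [hy0]; exact h03.symm
        · rw [hy1]; exact h12.symm
        · rw [hy2]; exact h12
        · rw [hy3]; exact h03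
    obtain ⟨p, hpS, hp⟩ := hfree
    simp only [Finset.mem_insert, Finset.mem_singleton, not_or] at hp
    obtain ⟨hp0, hp1, hp2, hp3⟩ := hp
    have hnd5 : [a0, a1, a2, a3, p].Nodup := by
      simp only [List.nodup_cons, List.mem_cons, List.not_mem_nil, or_false, not_or,
        List.nodup_nil, and_true, not_false_eq_true]
      exact ⟨⟨h01, h02, h03, Ne.symm hp0⟩, ⟨h12, h13, Ne.symm hp1⟩, ⟨h23, Ne.symm hp2⟩,
        Ne.symm hp3⟩
    apply handlerE1 hnd5 hxx hyy
    intro d hd
    simp only [List.mem_cons, List.not_mem_nil, or_false] at hd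
    rcases hd with rfl | rfl | rfl | rfl | rfl <;> assumption
  by_cases hE' : Exc (S \ {a0, a1, a2, a3}) x' y'
  · -- handler E4
    have hne : (S \ {a0, a1, a2, a3}).Nonempty := by
      rw [← Finset.card_pos, hE'.2.1]; norm_num
    obtain ⟨b0, hb0⟩ := hne
    obtain ⟨hndb, hb4, hS'⟩ := exc_cycle hx's hy's hE' hb0
    obtain ⟨b1, hxb0⟩ : ∃ b1, x' b0 = b1 := ⟨_, rfl⟩
    obtain ⟨b2, hyb1⟩ : ∃ b2, y' b1 = b2 := ⟨_, rfl⟩
    obtain ⟨b3, hxb2⟩ : ∃ b3, x' b2 = b3 := ⟨_, rfl⟩
    rw [hxb0, hyb1, hxb2] at hndb hb4 hS'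
    have g01 : b0 ≠ b1 := by rintro rfl; simp at hndb
    have g02 : b0 ≠ b2 := by rintro rfl; simp at hndb
    have g03 : b0 ≠ b3 := by rintro rfl; simp at hndb
    have g12 : b1 ≠ b2 := by rintro rfl; simp at hndb
    have g13 : b1 ≠ b3 := by rintro rfl; simp at hndb
    have g23 : b2 ≠ b3 := by rintro rfl; simp at hndb
    have hmem : ∀ e ∈ ({b0, b1, b2, b3} : Finset α),
        e ∈ S ∧ e ≠ a0 ∧ e ≠ a1 ∧ e ≠ a2 ∧ e ≠ a3 := by
      intro e he
      rw [← hS'] at he
      simpa only [Finset.mem_sdiff, Finset.mem_insert, Finset.mem_singleton, not_or] using he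
    obtain ⟨m0S, m00, m01, m02, m03⟩ := hmem b0 (by simp)
    obtain ⟨m1S, m10, m11, m12, m13⟩ := hmem b1 (by simp)
    obtain ⟨m2S, m20, m21, m22, m23⟩ := hmem b2 (by simp)
    obtain ⟨m3S, m30, m31, m32, m33⟩ := hmem b3 (by simp)
    have ex' : x' = swap b0 b1 * swap b2 b3 := by
      apply eq_two_swaps hndb hx's _ hxb0 hxb2
      intro d hd
      have : d ∈ x'.support := Perm.mem_support.mpr hd
      rw [hE'.2.2.1, hS'] at this
      simpa only [Finset.mem_insert, Finset.mem_singleton] using this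
    have ey' : y' = swap b1 b2 * swap b3 b0 := by
      apply eq_two_swaps (nodup4 g12 g13 g01.symm g23 g02.symm g03.symm) hy's _ hyb1 hb4
      intro d hd
      have : d ∈ y'.support := Perm.mem_support.mpr hd
      rw [hE'.2.2.2, hS'] at this
      simp only [Finset.mem_insert, Finset.mem_singleton] at this
      tauto
    rw [ex'] at hxx
    rw [ey'] at hyy
    have hnd8 : [a0, a1, a2, a3, b0, b1, b2, b3].Nodup := by
      simp only [List.nodup_cons, List.mem_cons, List.not_mem_nil, or_false, not_or,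
        List.nodup_nil, and_true, not_false_eq_true]
      exact ⟨⟨h01, h02, h03, Ne.symm m00, Ne.symm m10, Ne.symm m20, Ne.symm m30⟩,
        ⟨h12, h13, Ne.symm m01, Ne.symm m11, Ne.symm m21, Ne.symm m31⟩,
        ⟨h23, Ne.symm m02, Ne.symm m12, Ne.symm m22, Ne.symm m32⟩,
        ⟨Ne.symm m03, Ne.symm m13, Ne.symm m23, Ne.symm m33⟩,
        ⟨g01, g02, g03⟩, ⟨g12, g13⟩, g23⟩
    apply handlerE4 hnd8 hxx hyy
    intro d hd
    simp only [List.mem_cons, List.not_mem_nil, or_false] at hd
    rcases hd with rfl | rfl | rfl | rfl | rfl | rfl | rfl | rfl <;> assumption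
  · -- the generic case
    have hlt : (S \ {a0, a1, a2, a3}).card < S.card := by
      apply card_sdiff_lt
      · intro e he
        simp only [Finset.mem_insert, Finset.mem_singleton] at he
        rcases he with rfl | rfl | rfl | rfl <;> assumption
      · exact ⟨a0, by simp⟩
    have hg := IH _ x' y' hlt hx's hy's hx'S hy'S hcard' hE'
    rw [hx'd] at hx'1
    rw [hx'd, hy'd] at hg
    exact moveD2a hx hy hnd hx0 hx2 hy1 hy3 h0S h1S h2S h3S hx'1 hg

end cases

end Cfsg.Agent.Lib.Helper9.OddG
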