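import Mathlib
import Cfsg.Agent.Lib.Helper9.OddG6

/-!
# The odd-product graph on involutions: the long alternating path, and the main theorem
-/

set_option autoImplicit false

namespace Cfsg.Agent.Lib.Helper9.OddG

open Equiv Equiv.Perm

variable {α : Type*} [DecidableEq α] [Fintype α]

/-- removing three 2-cycles `(a0 a1)`, `(a2 a3)`, `(a4 a5)` and adding `(a0 a5)` -/
theorem chain_facts {x : Perm α} (hx : x * x = 1) {a0 a1 a2 a3 a4 a5 : α}
    (hnd : [a0, a1, a2, a3, a4, a5].Nodup) (hx0 : x a0 = a1) (hx2 : x a2 = a3)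
    (hx4 : x a4 = a5) :
    (x * swap a0 a1 * swap a2 a3 * swap a4 a5 * swap a0 a5) *
      (x * swap a0 a1 * swap a2 a3 * swap a4 a5 * swap a0 a5) = 1 ∧
    (x * swap a0 a1 * swap a2 a3 * swap a4 a5 * swap a0 a5).support =
      (((x.support \ {a0, a1}) \ {a2, a3}) \ {a4, a5}) ∪ {a0, a5} ∧
    (x * swap a0 a1 * swap a2 a3 * swap a4 a5 * swap a0 a5).support.card + 4 = x.support.card ∧
    x = (x * swap a0 a1 * swap a2 a3 * swap a4 a5 * swap a0 a5) *
      (swap a0 a5 * swap a4 a5 * swap a2 a3 * swap a0 a1) ∧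
    (x * swap a0 a1 * swap a2 a3 * swap a4 a5 * swap a0 a5) a0 = a5 ∧
    ∀ e, e ≠ a0 → e ≠ a1 → e ≠ a2 → e ≠ a3 → e ≠ a4 → e ≠ a5 →
      (x * swap a0 a1 * swap a2 a3 * swap a4 a5 * swap a0 a5) e = x e := by
  have h01 : a0 ≠ a1 := by rintro rfl; simp at hnd
  have h02 : a0 ≠ a2 := by rintro rfl; simp at hnd
  have h03 : a0 ≠ a3 := by rintro rfl; simp at hnd
  have h04 : a0 ≠ a4 := by rintro rfl; simp at hnd
  have h05 : a0 ≠ a5 := by rintro rfl; simp at hnd
  have h12 : a1 ≠ a2 := by rintro rfl; simp at hnd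
  have h14 : a1 ≠ a4 := by rintro rfl; simp at hnd
  have h23 : a2 ≠ a3 := by rintro rfl; simp at hnd
  have h24 : a2 ≠ a4 := by rintro rfl; simp at hnd
  have h34 : a3 ≠ a4 := by rintro rfl; simp at hnd
  have h45 : a4 ≠ a5 := by rintro rfl; simp at hnd
  obtain ⟨x1, hx1d⟩ : ∃ x1, x1 = x * swap a0 a1 := ⟨_, rfl⟩
  obtain ⟨x2, hx2d⟩ : ∃ x2, x2 = x1 * swap a2 a3 := ⟨_, rfl⟩
  obtain ⟨x3, hx3d⟩ : ∃ x3, x3 = x2 * swap a4 a5 := ⟨_, rfl⟩
  obtain ⟨x', hx'd⟩ : ∃ x', x' = x3 * swap a0 a5 := ⟨_, rfl⟩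
  have hx1 : x1 * x1 = 1 := by rw [hx1d]; exact rem_sq hx hx0
  have hx1_0 : x1 a0 = a0 := by rw [hx1d]; exact rem_apply_left hx hx0
  have hx1_2 : x1 a2 = a3 := by rw [hx1d, mul_swap_apply_of_ne _ h02.symm h12.symm, hx2]
  have hx1_4 : x1 a4 = a5 := by rw [hx1d, mul_swap_apply_of_ne _ h04.symm h14.symm, hx4]
  have hx2s : x2 * x2 = 1 := by rw [hx2d]; exact rem_sq hx1 hx1_2
  have hx2_0 : x2 a0 = a0 := by rw [hx2d, mul_swap_apply_of_ne _ h02 h03, hx1_0]
  have hx2_4 : x2 a4 = a5 := by rw [hx2d, mul_swap_apply_of_ne _ h24.symm h34.symm, hx1_4]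
  have hx3s : x3 * x3 = 1 := by rw [hx3d]; exact rem_sq hx2s hx2_4
  have hx3_0 : x3 a0 = a0 := by rw [hx3d, mul_swap_apply_of_ne _ h04 h05, hx2_0]
  have hx3_5 : x3 a5 = a5 := by rw [hx3d]; exact rem_apply_right hx2_4
  have hx's : x' * x' = 1 := by rw [hx'd]; exact add_sq hx3s hx3_0 hx3_5
  have e1 := rem_card hx h01 hx0
  have e2 := rem_card hx1 h23 hx1_2
  have e3 := rem_card hx2s h45 hx2_4
  have e4 := add_card h05 hx3_0 hx3_5
  have s1 := rem_support hx h01 hx0
  have s2 := rem_support hx1 h23 hx1_2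
  have s3 := rem_support hx2s h45 hx2_4
  have s4 := add_support h05 hx3_0 hx3_5
  rw [← hx1d] at e1 s1
  rw [← hx2d] at e2 s2
  rw [← hx3d] at e3 s3
  rw [← hx'd] at e4 s4
  rw [← hx1d, ← hx2d, ← hx3d, ← hx'd]
  refine ⟨hx's, ?_, by omega, ?_, ?_, ?_⟩
  · rw [s4, s3, s2, s1]
  · rw [hx'd, hx3d, hx2d, hx1d]
    simp [mul_assoc]
  · rw [hx'd, mul_swap_apply_left, hx3_5]
  · intro e g0 g1 g2 g3 g4 g5
    rw [hx'd, mul_swap_apply_of_ne _ g0 g5, hx3d, mul_swap_apply_of_ne _ g4 g5, hx2d,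
      mul_swap_apply_of_ne _ g2 g3, hx1d, mul_swap_apply_of_ne _ g0 g1]

section cases

variable {S : Finset α} {x y : Perm α} (hx : x * x = 1) (hy : y * y = 1)
  (hxS : x.support ⊆ S) (hyS : y.support ⊆ S) (hc : x.support.card = y.support.card)
  (IH : IHyp α S.card)

include hx hy hxS hyS hc IH

theorem case5 (hnb : ∀ a, ¬Bad x y a) (hsupp : x.support = y.support) {a0 : α}
    (hne : x a0 ≠ y a0) : Good S x y := by
  have memxy : ∀ d, x d ≠ d ↔ y d ≠ d := by
    intro d
    rw [← Perm.mem_support, ← Perm.mem_support, hsupp]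
  obtain ⟨a1, hx0⟩ : ∃ a1, x a0 = a1 := ⟨_, rfl⟩
  obtain ⟨a2, hy1⟩ : ∃ a2, y a1 = a2 := ⟨_, rfl⟩
  obtain ⟨a3, hx2⟩ : ∃ a3, x a2 = a3 := ⟨_, rfl⟩
  obtain ⟨a4, hy3⟩ : ∃ a4, y a3 = a4 := ⟨_, rfl⟩
  obtain ⟨a5, hx4⟩ : ∃ a5, x a4 = a5 := ⟨_, rfl⟩
  have hx1 : x a1 = a0 := rem_back hx hx0
  have hy2 : y a2 = a1 := rem_back hy hy1
  have hx3 : x a3 = a2 := rem_back hx hx2
  have hy4 : y a4 = a3 := rem_back hy hy3
  have hx5 : x a5 = a4 := rem_back hx hx4
  have h01 : a0 ≠ a1 := by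
    intro h
    have h1 : x a0 = a0 := by rw [hx0]; exact h.symm
    have h2 : y a0 = a0 := by
      by_contra h'; exact ((memxy a0).mpr h') h1
    exact hne (h1.trans h2.symm)
  have h12 : a1 ≠ a2 := by
    have : x a1 ≠ a1 := by rw [hx1]; exact h01
    have := (memxy a1).mp this
    rw [hy1] at this
    exact this.symm
  have h02 : a0 ≠ a2 := by
    intro h
    rw [← h] at hy1
    have := rem_back hy hy1
    rw [hx0] at hne
    exact hne this.symm
  have h23 : a2 ≠ a3 := by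
    have : y a2 ≠ a2 := by rw [hy2]; exact h12
    have := (memxy a2).mpr this
    rw [hx2] at this
    exact this.symm
  have h13 : a1 ≠ a3 := by
    intro h
    rw [← h, ← hx0] at hx2
    exact h02 (x.injective hx2).symm
  have h03 : a0 ≠ a3 := by
    intro h
    rw [← h] at hx2
    have := rem_back hx hx2
    rw [hx0] at this
    exact h12 this
  have h34 : a3 ≠ a4 := by
    have : x a3 ≠ a3 := by rw [hx3]; exact h23
    have := (memxy a3).mp this
    rw [hy3] at this
    exact this.symm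
  have h24 : a2 ≠ a4 := by
    intro h
    rw [← h, ← hy1] at hy3
    exact h13 (y.injective hy3).symm
  have h14 : a1 ≠ a4 := by
    intro h
    rw [← h] at hy3
    have := rem_back hy hy3
    rw [hy1] at this
    exact h23 this
  have h04 : a0 ≠ a4 := by
    intro h
    apply hnb a0
    refine ⟨?_, ?_, ?_, ?_⟩
    · rw [hx0]; exact h01.symm
    · rw [hx0, hy1]; exact h12.symm
    · rw [hx0, hy1]; exact h02.symm
    · rw [hx0, hy1, hx2, hy3]; exact h.symm
  have h45 : a4 ≠ a5 := by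
    have : y a4 ≠ a4 := by rw [hy4]; exact h34
    have := (memxy a4).mpr this
    rw [hx4] at this
    exact this.symm
  have h35 : a3 ≠ a5 := by
    intro h
    rw [← h, ← hx2] at hx4
    exact h24 (x.injective hx4).symm
  have h25 : a2 ≠ a5 := by
    intro h
    rw [← h] at hx4
    have := rem_back hx hx4
    rw [hx2] at this
    exact h34 this
  have h15 : a1 ≠ a5 := by
    intro h
    rw [← h, ← hx0] at hx4
    exact h04 (x.injective hx4).symm
  have h05 : a0 ≠ a5 := by
    intro h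
    rw [← h] at hx4
    have := rem_back hx hx4
    rw [hx0] at this
    exact h14 this
  have hnd : [a0, a1, a2, a3, a4, a5].Nodup := by
    simp only [List.nodup_cons, List.mem_cons, List.not_mem_nil, or_false, not_or,
      List.nodup_nil, and_true, not_false_eq_true]
    exact ⟨⟨h01, h02, h03, h04, h05⟩, ⟨h12, h13, h14, h15⟩, ⟨h23, h24, h25⟩, ⟨h34, h35⟩, h45⟩
  have h0S : a0 ∈ S := mem_of_moved hxS (by rw [hx0]; exact h01.symm)
  have h1S : a1 ∈ S := mem_of_moved hxS (by rw [hx1]; exact h01)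
  have h2S : a2 ∈ S := mem_of_moved hxS (by rw [hx2]; exact h23.symm)
  have h3S : a3 ∈ S := mem_of_moved hxS (by rw [hx3]; exact h23)
  have h4S : a4 ∈ S := mem_of_moved hxS (by rw [hx4]; exact h45.symm)
  have h5S : a5 ∈ S := mem_of_moved hxS (by rw [hx5]; exact h45)
  obtain ⟨hx's, hx'supp, hx'card, hxx, hx'0, hx'e⟩ := chain_facts hx hnd hx0 hx2 hx4
  obtain ⟨hy's, hy'supp, hy'card, hyy, hy'e⟩ :=
    rem2_facts hy h12 h34 h13.symm h23.symm hy1 hy3
  obtain ⟨x', hx'd⟩ : ∃ x', x' = x * swap a0 a1 * swap a2 a3 * swap a4 a5 * swap a0 a5 :=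
    ⟨_, rfl⟩
  obtain ⟨y', hy'd⟩ : ∃ y', y' = y * swap a1 a2 * swap a3 a4 := ⟨_, rfl⟩
  rw [← hx'd] at hx's hx'supp hx'card hxx hx'0 hx'e
  rw [← hy'd] at hy's hy'supp hy'card hyy hy'e
  have hx'S : x'.support ⊆ S \ {a1, a2, a3, a4} := by
    rw [hx'supp]
    intro e he
    simp only [Finset.mem_union, Finset.mem_sdiff, Finset.mem_insert, Finset.mem_singleton,
      not_or] at he ⊢
    rcases he with he | rfl | rfl
    · exact ⟨hxS he.1.1.1, he.1.1.2.2, he.1.2.1, he.1.2.2, he.2.1⟩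
    · exact ⟨h0S, h01, h02, h03, h04⟩
    · exact ⟨h5S, h15.symm, h25.symm, h35.symm, h45.symm⟩
  have hy'S : y'.support ⊆ S \ {a1, a2, a3, a4} := by
    rw [hy'supp]
    intro e he
    simp only [Finset.mem_sdiff, Finset.mem_insert, Finset.mem_singleton, not_or] at he ⊢
    exact ⟨hyS he.1.1, he.1.2.1, he.1.2.2, he.2.1, he.2.2⟩
  have hcard' : x'.support.card = y'.support.card := by omega
  by_cases hE' : Exc (S \ {a1, a2, a3, a4}) x' y'
  · -- handler E3
    have h0S' : a0 ∈ S \ {a1, a2, a3, a4} := by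
      simp only [Finset.mem_sdiff, Finset.mem_insert, Finset.mem_singleton, not_or]
      exact ⟨h0S, h01, h02, h03, h04⟩
    obtain ⟨hndb, hb4, hS'⟩ := exc_cycle hx's hy's hE' h0S'
    rw [hx'0] at hndb hb4 hS'
    have hy'5 : y' a5 = y a5 := hy'e a5 h15.symm h25.symm h35.symm h45.symm
    obtain ⟨a6, hy5⟩ : ∃ a6, y a5 = a6 := ⟨_, rfl⟩
    rw [hy5] at hy'5
    rw [hy'5] at hndb hb4 hS'
    have hmem : ∀ e ∈ ({a0, a5, a6, x' a6} : Finset α),
        e ∈ S ∧ e ≠ a1 ∧ e ≠ a2 ∧ e ≠ a3 ∧ e ≠ a4 := by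
      intro e he
      rw [← hS'] at he
      simpa only [Finset.mem_sdiff, Finset.mem_insert, Finset.mem_singleton, not_or] using he
    obtain ⟨h6S, h61, h62, h63, h64⟩ := hmem a6 (by simp)
    have h06 : a0 ≠ a6 := by
      intro h; rw [← h] at hndb; simp at hndb
    have h56 : a5 ≠ a6 := by
      intro h; rw [← h] at hndb; simp at hndb
    have hx'6 : x' a6 = x a6 := hx'e a6 h06.symm h61 h62 h63 h64 h56.symm
    obtain ⟨a7, hx6⟩ : ∃ a7, x a6 = a7 := ⟨_, rfl⟩
    rw [hx6] at hx'6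
    rw [hx'6] at hndb hb4 hS' hmem
    obtain ⟨h7S, h71, h72, h73, h74⟩ := hmem a7 (by simp)
    have h07 : a0 ≠ a7 := by rintro rfl; simp at hndb
    have h57 : a5 ≠ a7 := by rintro rfl; simp at hndb
    have h67 : a6 ≠ a7 := by rintro rfl; simp at hndb
    have ex' : x' = swap a0 a5 * swap a6 a7 := by
      apply eq_two_swaps hndb hx's _ hx'0 hx'6
      intro d hd
      have : d ∈ x'.support := Perm.mem_support.mpr hd
      rw [hE'.2.2.1, hS'] at this
      simpa only [Finset.mem_insert, Finset.mem_singleton] using this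
    have ey' : y' = swap a5 a6 * swap a7 a0 := by
      apply eq_two_swaps (nodup4 h56 h57 h05.symm h67 h06.symm h07.symm) hy's _ hy'5 hb4
      intro d hd
      have : d ∈ y'.support := Perm.mem_support.mpr hd
      rw [hE'.2.2.2, hS'] at this
      simp only [Finset.mem_insert, Finset.mem_singleton] at this
      tauto
    rw [ex'] at hxx
    rw [ey', mul_assoc] at hyy
    have hnd8 : [a0, a1, a2, a3, a4, a5, a6, a7].Nodup := by
      simp only [List.nodup_cons, List.mem_cons, List.not_mem_nil, or_false, not_or,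
        List.nodup_nil, and_true, not_false_eq_true]
      exact ⟨⟨h01, h02, h03, h04, h05, h06, h07⟩, ⟨h12, h13, h14, h15, Ne.symm h61, Ne.symm h71⟩,
        ⟨h23, h24, h25, Ne.symm h62, Ne.symm h72⟩, ⟨h34, h35, Ne.symm h63, Ne.symm h73⟩,
        ⟨h45, Ne.symm h64, Ne.symm h74⟩, ⟨h56, h57⟩, h67⟩
    apply handlerE3 hnd8 hxx hyy
    intro d hd
    simp only [List.mem_cons, List.not_mem_nil, or_false] at hd
    rcases hd with rfl | rfl | rfl | rfl | rfl | rfl | rfl | rfl <;> assumption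
  · have hlt : (S \ {a1, a2, a3, a4}).card < S.card := by
      apply card_sdiff_lt
      · intro e he
        simp only [Finset.mem_insert, Finset.mem_singleton] at he
        rcases he with rfl | rfl | rfl | rfl <;> assumption
      · exact ⟨a1, by simp⟩
    have hg := IH _ x' y' hlt hx's hy's hx'S hy'S hcard' hE'
    rw [hx'd, hy'd] at hg
    exact moveD2b hx hy hnd hx0 hx2 hx4 hy1 hy3 h1S h2S h3S h4S hg

end cases


theorem step {S : Finset α} {x y : Perm α} (hx : x * x = 1) (hy : y * y = 1)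
    (hxS : x.support ⊆ S) (hyS : y.support ⊆ S) (hc : x.support.card = y.support.card)
    (IH : IHyp α S.card) (hE : ¬Exc S x y) : Good S x y := by
  by_cases hxy : x = y
  · subst hxy; exact good_refl hx hxS
  by_cases h1 : ∃ a, Bad x y a
  · obtain ⟨a, ha⟩ := h1
    exact case1 hx hy hxS hyS hc IH hE ha
  push Not at h1
  by_cases h2 : ∃ a, y a = a ∧ x a ≠ a ∧ y (x a) ≠ x a
  · obtain ⟨a, h21, h22, h23⟩ := h2
    exact caseC hx hy hxS hyS hc IH h21 h22 h23
  by_cases h2' : ∃ a, x a = a ∧ y a ≠ a ∧ x (y a) ≠ y a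
  · obtain ⟨a, h21, h22, h23⟩ := h2'
    exact Good.symm hy hx hc.symm (caseC hy hx hyS hxS hc.symm IH h21 h22 h23)
  by_cases h3 : ∃ a, y a = a ∧ x a ≠ a
  · obtain ⟨a, hya, hxa⟩ := h3
    have hyb : y (x a) = x a := by
      by_contra h; exact h2 ⟨a, hya, hxa, h⟩
    have hex : ∃ c, x c = c ∧ y c ≠ c := by
      by_contra hno
      push Not at hno
      have hsub : y.support ⊆ x.support := by
        intro d hd
        rw [Perm.mem_support] at hd ⊢
        exact fun h => hd (hno d h)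
      have heq : y.support = x.support :=
        Finset.eq_of_subset_of_card_le hsub (le_of_eq hc)
      have : a ∈ y.support := by rw [heq]; exact Perm.mem_support.mpr hxa
      exact (Perm.mem_support.mp this) hya
    obtain ⟨c, hxc, hyc⟩ := hex
    have hxd : x (y c) = y c := by
      by_contra h; exact h2' ⟨c, hxc, hyc, h⟩
    exact caseD1 hx hy hxS hyS hc IH hxa hyb hxc hyc hxd
  push Not at h3
  have hsub : x.support ⊆ y.support := by
    intro d hd
    rw [Perm.mem_support] at hd ⊢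
    exact fun h => hd (h3 d h)
  have heq : x.support = y.support :=
    Finset.eq_of_subset_of_card_le hsub (le_of_eq hc.symm)
  have hne : ∃ a0, x a0 ≠ y a0 := by
    by_contra h
    push Not at h
    exact hxy (Perm.ext h)
  obtain ⟨a0, ha0⟩ := hne
  exact case5 hx hy hxS hyS hc IH h1 heq ha0

theorem main_aux : ∀ n : ℕ, IHyp α n := by
  intro n
  induction n with
  | zero =>
    intro S' x' y' h
    exact absurd h (Nat.not_lt_zero _)
  | succ n ih =>
    intro S x y hlt hx hy hxS hyS hc hE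
    apply step hx hy hxS hyS hc _ hE
    intro S' x' y' hlt'
    exact ih S' x' y' (by omega)

/-- **Main theorem**: two involutions `x y` with the same number of 2-cycles, moving only points
of `S`, are joined by a path of length two in the odd-product graph, unless they are the two
fixed-point-free involutions of a 4-set. -/
theorem main {S : Finset α} {x y : Perm α} (hx : x * x = 1) (hy : y * y = 1)
    (hxS : x.support ⊆ S) (hyS : y.support ⊆ S) (hc : x.support.card = y.support.card)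
    (hE : ¬Exc S x y) : Good S x y :=
  main_aux (S.card + 1) S x y (Nat.lt_succ_self _) hx hy hxS hyS hc hE

end Cfsg.Agent.Lib.Helper9.OddG
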