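import Mathlib
import Cfsg.Agent.Lib.Helper9.OddG7

/-!
# The odd-product graph on a class of involutions of a symmetric group: the class, and a
non-adjacent pair
-/

set_option autoImplicit false

namespace Cfsg.Agent.Lib.Helper9.OddG

open Equiv Equiv.Perm

variable {α : Type*} [DecidableEq α] [Fintype α]

/-- the cycle type of an involution -/
theorem cycleType_of_sq {z : Perm α} (hz : z * z = 1) :
    z.cycleType = Multiset.replicate (z.support.card / 2) 2 := by
  have h2 : ∀ n ∈ z.cycleType, n = 2 := by
    intro n hn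
    have h1 : n ∣ orderOf z := dvd_of_mem_cycleType hn
    have h3 : orderOf z ∣ 2 := orderOf_dvd_of_pow_eq_one (by rw [pow_two, hz])
    have h4 : n ≤ 2 := Nat.le_of_dvd (by norm_num) (h1.trans h3)
    have h5 : 2 ≤ n := two_le_of_mem_cycleType hn
    omega
  have h3 : z.cycleType = Multiset.replicate (Multiset.card z.cycleType) 2 :=
    Multiset.eq_replicate_card.mpr h2
  have h4 : z.cycleType.sum = z.support.card := sum_cycleType z
  rw [h3, Multiset.sum_replicate, smul_eq_mul] at h4
  rw [h3]
  congr 1
  omega

/-- the class of an involution `t`: the involutions with as many 2-cycles -/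
theorem isConj_iff_of_sq {t z : Perm α} (ht : t * t = 1) :
    IsConj t z ↔ z * z = 1 ∧ z.support.card = t.support.card := by
  constructor
  · intro h
    obtain ⟨c, rfl⟩ := isConj_iff.mp h
    refine ⟨?_, card_support_conj⟩
    calc c * t * c⁻¹ * (c * t * c⁻¹) = c * (t * t) * c⁻¹ := by group
      _ = 1 := by rw [ht]; group
  · rintro ⟨hz, hc⟩
    rw [isConj_iff_cycleType_eq, cycleType_of_sq ht, cycleType_of_sq hz, hc]

omit [Fintype α] in
/-- the product of two disjoint transpositions does not have odd order -/
theorem not_odd_two_swaps {p q r s : α} (hpq : p ≠ q) (hrp : r ≠ p) (hrq : r ≠ q) (hsp : s ≠ p)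
    (hsq : s ≠ q) : ¬Odd (orderOf (swap p q * swap r s)) := by
  intro hodd
  have hsqr : (swap p q * swap r s) * (swap p q * swap r s) = 1 :=
    add_sq (swap_mul_self p q) (swap_apply_of_ne_of_ne hrp hrq) (swap_apply_of_ne_of_ne hsp hsq)
  have h2 : orderOf (swap p q * swap r s) ∣ 2 :=
    orderOf_dvd_of_pow_eq_one (by rw [pow_two, hsqr])
  have h1 : orderOf (swap p q * swap r s) = 1 := by
    rcases (Nat.dvd_prime Nat.prime_two).mp h2 with h | h
    · exact h
    · rw [h] at hodd
      exact absurd hodd (by decide)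
  rw [orderOf_eq_one_iff] at h1
  have := congrArg (fun f : Perm α => f p) h1
  simp only [Perm.mul_apply, Perm.one_apply] at this
  rw [swap_apply_of_ne_of_ne hrp.symm hsp.symm, swap_apply_left] at this
  exact hpq this.symm

/-- a conjugate `t'` of the involution `t`, with `t t'` not of odd order -/
theorem exists_nonadj (hcard : 5 ≤ Fintype.card α) {t : Perm α} (ht : t * t = 1) (ht1 : t ≠ 1) :
    ∃ t' : Perm α, IsConj t t' ∧ ¬Odd (orderOf (t * t')) := by
  have hex : ∃ a, t a ≠ a := by
    by_contra h
    push Not at h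
    exact ht1 (Perm.ext h)
  obtain ⟨a, ha⟩ := hex
  obtain ⟨b, hb⟩ : ∃ b, t a = b := ⟨_, rfl⟩
  rw [hb] at ha
  have htb : t b = a := rem_back ht hb
  have htinv : t⁻¹ = t := inv_eq_of_mul_eq_one_left ht
  by_cases hc : ∃ c, t c ≠ c ∧ c ≠ a ∧ c ≠ b
  · obtain ⟨c, hc, hca, hcb⟩ := hc
    obtain ⟨d, hd⟩ : ∃ d, t c = d := ⟨_, rfl⟩
    rw [hd] at hc
    have hda : d ≠ a := by
      intro h
      rw [h] at hd
      have := rem_back ht hd
      rw [hb] at this
      exact hcb this.symm
    have hdb : d ≠ b := by
      intro h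
      rw [h, ← hb] at hd
      exact hca (t.injective hd)
    refine ⟨swap b c * t * (swap b c)⁻¹, isConj_iff.mpr ⟨_, rfl⟩, ?_⟩
    have e : t * (swap b c * t * (swap b c)⁻¹) = swap a d * swap b c := by
      have := swap_apply_apply t b c
      rw [htb, hd, htinv] at this
      rw [this, swap_inv]
      group
    rw [e]
    exact not_odd_two_swaps hda.symm ha hdb.symm hca hc.symm
  · push Not at hc
    have e : t = swap a b := by
      ext e
      by_cases h1 : e = a
      · rw [h1, hb, swap_apply_left]
      by_cases h2 : e = b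
      · rw [h2, htb, swap_apply_right]
      rw [swap_apply_of_ne_of_ne h1 h2]
      by_contra h
      exact h2 (hc e h h1)
    have hbig : 1 < (Finset.univ \ ({a, b} : Finset α)).card := by
      have h1 : ({a, b} : Finset α).card ≤ 2 := Finset.card_le_two
      have h2 := Finset.card_sdiff_add_card_eq_card (Finset.subset_univ ({a, b} : Finset α))
      rw [Finset.card_univ] at h2
      omega
    obtain ⟨c, hc', d, hd', hcd⟩ := Finset.one_lt_card.mp hbig
    simp only [Finset.mem_sdiff, Finset.mem_univ, Finset.mem_insert, Finset.mem_singleton,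
      true_and, not_or] at hc' hd'
    refine ⟨swap c d, ?_, ?_⟩
    · rw [e]; exact isConj_swap ha.symm hcd
    · rw [e]
      exact not_odd_two_swaps ha.symm hc'.1 hc'.2 hd'.1 hd'.2

end Cfsg.Agent.Lib.Helper9.OddG
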