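import Mathlib
import Cfsg.Agent.Lib.Helper9.Solv1

set_option autoImplicit false
open Cfsg Cfsg.FusionSystem
open scoped commutatorElement

namespace Cfsg.Agent.Lib.Helper9

variable {Ω : Type*} [Group Ω] {S : Subgroup Ω}

/-- A strongly closed subgroup `D` of class at most two relative to a strongly closed central subgroup `D₀`
(`[D, D] ≤ D₀ ≤ Z(D)`), with `D₀ ≤ P`, lies in every centric radical subgroup `P`. -/
theorem le_of_centric_radical_of_chain [Finite S] (p : ℕ) [Fact p.Prime] (hS : IsPGroup p S)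
    (F : FusionSystem S) {P : Subgroup Ω} (hPc : F.IsCentric P) (hPr : F.IsRadical p P)
    {D D₀ : Subgroup Ω} (hD : F.StronglyClosed D) (hD₀ : F.StronglyClosed D₀) (hD₀D : D₀ ≤ D)
    (hD₀P : D₀ ≤ P) (hcomm : ⁅D, D⁆ ≤ D₀) (hcent : ∀ d ∈ D, ∀ z ∈ D₀, d * z = z * d) : D ≤ P := by
  by_contra hle
  have hPS : P ≤ S := hPc.1
  have hDS : D ≤ S := hD.1
  have hSND : S ≤ Subgroup.normalizer (D : Set Ω) := fs_stronglyClosed_le_normalizer F hD
  haveI : Finite P := fs_finite_of_le hPS
  have hPN : P ≤ Subgroup.normalizer (D : Set Ω) := hPS.trans hSND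
  have hMS : D ⊔ P ≤ S := sup_le hDS hPS
  haveI : Finite (D ⊔ P : Subgroup Ω) := fs_finite_of_le hMS
  have hlt : P < D ⊔ P := by
    refine lt_of_le_of_ne le_sup_right ?_
    intro heq
    apply hle
    rw [heq]
    exact le_sup_left
  have hlt' := fs_lt_normalizerIn p (hS.to_le hMS) hlt
  obtain ⟨y, hyN, hyP⟩ := SetLike.exists_of_lt hlt'
  obtain ⟨u, hu, c, hc, huc⟩ := mem_sup_of_le_normalizer' hPN (by rw [sup_comm]; exact hyN.1 : y ∈ P ⊔ D)
  have hcy : c = u⁻¹ * y := by rw [← huc]; group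
  have hcN : c ∈ Subgroup.normalizer (P : Set Ω) := by
    rw [hcy]
    exact Subgroup.mul_mem _ (Subgroup.inv_mem _ (Subgroup.le_normalizer hu)) hyN.2
  have hcP : c ∉ P := by
    intro h
    apply hyP
    rw [← huc]
    exact P.mul_mem hu h
  have hcS : c ∈ S := hDS hc
  apply hcP
  have hC : centralizerIn S P ≤ P := hPc.2 _ (fs_isConj_refl F hPS)
  have hαF : conjAut P c hcN ∈ F.autGroup P :=
    autInducedBy_le_autGroup F hPS ((mem_autInducedBy_iff S P _).mpr ⟨c, hcS, fun y => rfl⟩)
  have hαI : conjAut P c hcN ∈ Inn P := by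
    rw [← hPr.2]
    -- the chain `1 ≤ D₀ ≤ P ∩ D ≤ P`
    let Ps : ℕ → Subgroup P := fun i =>
      if i = 0 then ⊥ else if i = 1 then D₀.subgroupOf P else if i = 2 then (P ⊓ D).subgroupOf P else ⊤
    have hP0 : Ps 0 = ⊥ := by simp [Ps]
    have hP1 : Ps 1 = D₀.subgroupOf P := by simp [Ps]
    have hP2 : Ps 2 = (P ⊓ D).subgroupOf P := by simp [Ps]
    have hP3 : Ps 3 = ⊤ := by simp [Ps]
    have hPge : ∀ i, 3 ≤ i → Ps i = ⊤ := by
      intro i hi
      have h0 : i ≠ 0 := by omega
      have h1 : i ≠ 1 := by omega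
      have h2 : i ≠ 2 := by omega
      simp [Ps, h0, h1, h2]
    have hmono : Monotone Ps := by
      apply monotone_nat_of_le_succ
      intro i
      rcases Nat.lt_or_ge i 3 with hi | hi
      · interval_cases i
        · rw [hP0]; exact bot_le
        · rw [hP1, hP2]
          intro x hx
          rw [Subgroup.mem_subgroupOf] at hx ⊢
          exact ⟨x.2, hD₀D hx⟩
        · rw [hP3]; exact le_top
      · rw [hPge (i + 1) (by omega)]; exact le_top
    apply chainStab_le_pCore p hS F hPS Ps hmono hP0 3 hP3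
    · -- invariance of the chain
      intro γ hγ i y hy
      have hγF : P.subtype.comp γ.toMonoidHom ∈ F.Hom P := (mem_autGroup_iff F hPS γ).mp hγ
      rcases Nat.lt_or_ge i 3 with hi | hi
      · interval_cases i
        · rw [hP0, Subgroup.mem_bot] at hy ⊢
          rw [hy, map_one]
        · rw [hP1, Subgroup.mem_subgroupOf] at hy ⊢
          have hres := fs_restrict_mem F hγF hD₀P
          exact hD₀.2 D₀ le_rfl _ hres ⟨y, hy⟩
        · rw [hP2, Subgroup.mem_subgroupOf] at hy ⊢
          have hres := fs_restrict_mem F hγF (inf_le_left : P ⊓ D ≤ P)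
          have h2 := hD.2 (P ⊓ D) inf_le_right _ hres ⟨y, hy⟩
          exact ⟨(γ y).2, h2⟩
      · rw [hPge i hi]; trivial
    · refine ⟨?_, hαF⟩
      intro i x hx
      rcases Nat.lt_or_ge i 3 with hi | hi
      · interval_cases i
        · -- `x ∈ D₀`
          have hx' : (x : Ω) ∈ D₀ := by
            have hx1 : x ∈ Ps 1 := hx
            rw [hP1, Subgroup.mem_subgroupOf] at hx1
            exact hx1
          rw [hP0, Subgroup.mem_bot]
          apply Subtype.ext
          rw [Subgroup.coe_mul, Subgroup.coe_inv, conjAut_apply, Subgroup.coe_one]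
          have := hcent c hc x hx'
          calc (x : Ω)⁻¹ * (c * x * c⁻¹) = (x : Ω)⁻¹ * ((c * x) * c⁻¹) := by group
            _ = (x : Ω)⁻¹ * ((x * c) * c⁻¹) := by rw [this]
            _ = 1 := by group
        · -- `x ∈ P ∩ D`
          have hx' : (x : Ω) ∈ P ⊓ D := by
            have hx1 : x ∈ Ps 2 := hx
            rw [hP2, Subgroup.mem_subgroupOf] at hx1
            exact hx1
          show x⁻¹ * conjAut P c hcN x ∈ Ps 1
          rw [hP1, Subgroup.mem_subgroupOf, Subgroup.coe_mul, Subgroup.coe_inv, conjAut_apply]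
          apply hcomm
          have h1 : (x : Ω)⁻¹ * (c * x * c⁻¹) = ⁅(x : Ω)⁻¹, c⁆ := by
            rw [commutatorElement_def, inv_inv]
            group
          rw [h1]
          exact Subgroup.commutator_mem_commutator (D.inv_mem hx'.2) hc
        · -- `x ∈ P`
          show x⁻¹ * conjAut P c hcN x ∈ Ps 2
          rw [hP2, Subgroup.mem_subgroupOf]
          refine ⟨(x⁻¹ * conjAut P c hcN x).2, ?_⟩
          rw [Subgroup.coe_mul, Subgroup.coe_inv, conjAut_apply]
          have hxN : (x : Ω)⁻¹ ∈ Subgroup.normalizer (D : Set Ω) := Subgroup.inv_mem _ (hSND (hPS x.2))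
          have h2 : (x : Ω)⁻¹ * c * ((x : Ω)⁻¹)⁻¹ ∈ D := (Subgroup.mem_normalizer_iff.mp hxN c).mp hc
          have h3 : (x : Ω)⁻¹ * (c * x * c⁻¹) = ((x : Ω)⁻¹ * c * ((x : Ω)⁻¹)⁻¹) * c⁻¹ := by group
          rw [h3]
          exact D.mul_mem h2 (D.inv_mem hc)
      · rw [hPge i hi]; trivial
  exact mem_of_induces_inner hC hαI hcS hPS (fun y => rfl)

end Cfsg.Agent.Lib.Helper9
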