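import Mathlib
import Cfsg.Agent.Lib.Helper9.Omega1
import Cfsg.Agent.Lib.Helper9.Solv5
import Cfsg.Prelude.Def_PLocal

set_option autoImplicit false
open Cfsg Cfsg.FusionSystem
open scoped commutatorElement

namespace Cfsg.Agent.Lib.Helper9

variable {Ω : Type*} [Group Ω] {S : Subgroup Ω}

/-- Automorphisms in the system preserve strongly closed subgroups. -/
theorem aut_invariant_of_stronglyClosed (F : FusionSystem S) {R X : Subgroup Ω} (hRS : R ≤ S)
    (hX : F.StronglyClosed X) : ∀ χ ∈ F.autGroup R, ∀ x ∈ X.subgroupOf R, χ x ∈ X.subgroupOf R := by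
  intro χ hχ x hx
  rw [Subgroup.mem_subgroupOf] at hx ⊢
  have hχF : R.subtype.comp χ.toMonoidHom ∈ F.Hom R := (mem_autGroup_iff F hRS χ).mp hχ
  have hres := fs_restrict_mem F hχF (inf_le_left : R ⊓ X ≤ R)
  exact hX.2 (R ⊓ X) inf_le_right _ hres ⟨x, ⟨x.2, hx⟩⟩

/-- **Key step for odd `p`.** If `Ω₁(P)` has a series of strongly closed subgroups centralized stepwise by the strongly
closed subgroup `P`, then `P` lies in every centric radical subgroup. -/
theorem le_of_centric_radical_omega [Finite S] (p : ℕ) [Fact p.Prime] (hp2 : p ≠ 2) (hS : IsPGroup p S)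
    (F : FusionSystem S) {R : Subgroup Ω} (hRc : F.IsCentric R) (hRr : F.IsRadical p R)
    {P : Subgroup Ω} (hP : F.StronglyClosed P) (Q' : ℕ → Subgroup Ω) (n : ℕ) (h0 : Q' 0 = ⊥)
    (hn : Q' n = omegaOne p P) (hsc : ∀ k, F.StronglyClosed (Q' k))
    (hcomm : ∀ k, ⁅Q' (k + 1), P⁆ ≤ Q' k) : P ≤ R := by
  have hRS : R ≤ S := hRc.1
  have hPS : P ≤ S := hP.1
  haveI : Finite R := fs_finite_of_le hRS
  haveI : Finite (MulAut R) := inferInstanceAs (Finite (R ≃* R))
  have hRp : IsPGroup p R := hS.to_le hRS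
  have hSNP : S ≤ Subgroup.normalizer (P : Set Ω) := fs_stronglyClosed_le_normalizer F hP
  have hC : centralizerIn S R ≤ R := hRc.2 _ (fs_isConj_refl F hRS)
  -- the invariant subgroups of `R`
  have hBinv : ∀ k, ∀ χ ∈ F.autGroup R, ∀ x ∈ (Q' k).subgroupOf R, χ x ∈ (Q' k).subgroupOf R :=
    fun k => aut_invariant_of_stronglyClosed F hRS (hsc k)
  have hPinv : ∀ χ ∈ F.autGroup R, ∀ x ∈ P.subgroupOf R, χ x ∈ P.subgroupOf R :=
    aut_invariant_of_stronglyClosed F hRS hP
  -- the normal subgroup `Y`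
  let Y : Subgroup (F.autGroup R) :=
    (⨅ k : ℕ, relStab (F.autGroup R) ((Q' k).subgroupOf R) ((Q' (k + 1)).subgroupOf R) (hBinv k)) ⊓
      relStab (F.autGroup R) (P.subgroupOf R) ⊤ hPinv
  have hYmem : ∀ y : F.autGroup R, y ∈ Y ↔
      (∀ k, ∀ x ∈ (Q' (k + 1)).subgroupOf R, x⁻¹ * (y : MulAut R) x ∈ (Q' k).subgroupOf R) ∧
        ∀ x : R, x⁻¹ * (y : MulAut R) x ∈ P.subgroupOf R := by
    intro y
    show y ∈ (⨅ k : ℕ, relStab (F.autGroup R) ((Q' k).subgroupOf R) ((Q' (k + 1)).subgroupOf R) (hBinv k)) ⊓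
      relStab (F.autGroup R) (P.subgroupOf R) ⊤ hPinv ↔ _
    rw [Subgroup.mem_inf, Subgroup.mem_iInf]
    constructor
    · rintro ⟨h1, h2⟩
      exact ⟨fun k => h1 k, fun x => h2 x (Subgroup.mem_top _)⟩
    · rintro ⟨h1, h2⟩
      exact ⟨fun k => h1 k, fun x _ => h2 x⟩
  have hYn : Y.Normal := by
    haveI h1 : (⨅ k : ℕ, relStab (F.autGroup R) ((Q' k).subgroupOf R) ((Q' (k + 1)).subgroupOf R)
        (hBinv k)).Normal :=
      Subgroup.normal_iInf_normal (fun k => relStab_normal _ _ _ (hBinv k) (hBinv (k + 1)))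
    haveI h2 : (relStab (F.autGroup R) (P.subgroupOf R) ⊤ hPinv).Normal :=
      relStab_normal _ _ _ hPinv (fun _ _ _ _ => Subgroup.mem_top _)
    exact Subgroup.normal_inf_normal _ _
  have hYp : IsPGroup p Y := by
    apply isPGroup_of_coprime_trivial p
    intro y hy
    obtain ⟨hy1, hy2⟩ := (hYmem y.1).mp y.2
    have hχm : ((y : F.autGroup R) : MulAut R) ^ orderOf y = 1 := by
      have h1 := pow_orderOf_eq_one y
      have h2 := congrArg (fun w : Y => ((w : F.autGroup R) : MulAut R)) h1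
      exact h2
    -- `χ` fixes every `Q' k ∩ R` pointwise
    have hfixQ : ∀ k, ∀ x ∈ (Q' k).subgroupOf R, ((y : F.autGroup R) : MulAut R) x = x := by
      intro k
      induction k with
      | zero =>
        intro x hx
        rw [Subgroup.mem_subgroupOf, h0, Subgroup.mem_bot] at hx
        have : x = 1 := Subtype.ext hx
        rw [this, map_one]
      | succ k ih =>
        intro x hx
        have hc := hy1 k x hx
        have h1 := ih _ hc
        have h2 : ((y : F.autGroup R) : MulAut R) x = x * (x⁻¹ * ((y : F.autGroup R) : MulAut R) x) := by group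
        have h3 := Cfsg.Agent.Lib.Lead.eq_one_of_aut_pow (p := p) _ _ hχm hy x _ h2 h1 (hRp _)
        rw [h2, h3, mul_one]
    -- `χ` fixes `P ∩ R` pointwise
    have hinv1 : ∀ x ∈ P.subgroupOf R, ((y : F.autGroup R) : MulAut R) x ∈ P.subgroupOf R :=
      hPinv _ (y : F.autGroup R).2
    have hinv2 : ∀ x ∈ P.subgroupOf R, ((y : F.autGroup R) : MulAut R).symm x ∈ P.subgroupOf R := by
      intro x hx
      exact hPinv _ (Subgroup.inv_mem _ (y : F.autGroup R).2) x hx
    have hfixP : ∀ x ∈ P.subgroupOf R, ((y : F.autGroup R) : MulAut R) x = x := by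
      intro x hx
      have ham : Cfsg.Agent.Lib.Lead.restrictAut ((y : F.autGroup R) : MulAut R) (P.subgroupOf R) hinv1 hinv2 ^
          orderOf y = 1 := by
        apply MulEquiv.ext
        intro z
        apply Subtype.ext
        rw [Cfsg.Agent.Lib.Lead.restrictAut_pow_apply, hχm]
        rfl
      have hfix : ∀ z : P.subgroupOf R, z ^ p = 1 →
          Cfsg.Agent.Lib.Lead.restrictAut ((y : F.autGroup R) : MulAut R) (P.subgroupOf R) hinv1 hinv2 z = z := by
        intro z hz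
        apply Subtype.ext
        rw [Cfsg.Agent.Lib.Lead.restrictAut_apply]
        apply hfixQ n
        rw [Subgroup.mem_subgroupOf, hn]
        apply Subgroup.subset_closure
        refine ⟨z.2, ?_⟩
        have h1 := congrArg (fun w : P.subgroupOf R => (((w : R)) : Ω)) hz
        simpa using h1
      have := Cfsg.Agent.Lib.Lead.omegaAut_all hp2 _ (P.subgroupOf R) rfl
        (hRp.to_subgroup (P.subgroupOf R)) _ (orderOf y) ham hy hfix ⟨x, hx⟩
      exact congrArg Subtype.val this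
    -- `χ` is trivial
    have htriv : ∀ x : R, ((y : F.autGroup R) : MulAut R) x = x := by
      intro x
      have hc := hy2 x
      have h1 := hfixP _ hc
      have h2 : ((y : F.autGroup R) : MulAut R) x = x * (x⁻¹ * ((y : F.autGroup R) : MulAut R) x) := by group
      have h3 := Cfsg.Agent.Lib.Lead.eq_one_of_aut_pow (p := p) _ _ hχm hy x _ h2 h1 (hRp _)
      rw [h2, h3, mul_one]
    apply Subtype.ext
    apply Subtype.ext
    apply MulEquiv.ext
    exact htriv
  have hYle : Y ≤ pCore p (F.autGroup R) := le_pCore hYn hYp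
  -- elements of `N_P(R)` lie in `R`
  have hNP : ∀ c ∈ P, c ∈ Subgroup.normalizer (R : Set Ω) → c ∈ R := by
    intro c hcP hcN
    have hcS : c ∈ S := hPS hcP
    have hαF : conjAut R c hcN ∈ F.autGroup R :=
      autInducedBy_le_autGroup F hRS ((mem_autInducedBy_iff S R _).mpr ⟨c, hcS, fun y => rfl⟩)
    have hαY : (⟨conjAut R c hcN, hαF⟩ : F.autGroup R) ∈ Y := by
      rw [hYmem]
      refine ⟨fun k x hx => ?_, fun x => ?_⟩
      · rw [Subgroup.mem_subgroupOf] at hx ⊢
        rw [Subgroup.coe_mul, Subgroup.coe_inv, conjAut_apply]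
        apply hcomm k
        have h1 : (x : Ω)⁻¹ * (c * x * c⁻¹) = ⁅(x : Ω)⁻¹, c⁆ := by
          rw [commutatorElement_def, inv_inv]
          group
        rw [h1]
        exact Subgroup.commutator_mem_commutator (Subgroup.inv_mem _ hx) hcP
      · rw [Subgroup.mem_subgroupOf, Subgroup.coe_mul, Subgroup.coe_inv, conjAut_apply]
        have hxN : (x : Ω)⁻¹ ∈ Subgroup.normalizer (P : Set Ω) := Subgroup.inv_mem _ (hSNP (hRS x.2))
        have h2 : (x : Ω)⁻¹ * c * ((x : Ω)⁻¹)⁻¹ ∈ P := (Subgroup.mem_normalizer_iff.mp hxN c).mp hcP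
        have h3 : (x : Ω)⁻¹ * (c * x * c⁻¹) = ((x : Ω)⁻¹ * c * ((x : Ω)⁻¹)⁻¹) * c⁻¹ := by group
        rw [h3]
        exact P.mul_mem h2 (P.inv_mem hcP)
    have hαI : conjAut R c hcN ∈ Inn R := by
      rw [← hRr.2]
      exact ⟨⟨conjAut R c hcN, hαF⟩, hYle hαY, rfl⟩
    exact mem_of_induces_inner hC hαI hcS hRS (fun y => rfl)
  -- normalizers grow
  by_contra hle
  have hRN : R ≤ Subgroup.normalizer (P : Set Ω) := hRS.trans hSNP
  have hMS : P ⊔ R ≤ S := sup_le hPS hRS
  haveI : Finite (P ⊔ R : Subgroup Ω) := fs_finite_of_le hMS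
  have hlt : R < P ⊔ R := by
    refine lt_of_le_of_ne le_sup_right ?_
    intro heq
    apply hle
    rw [heq]
    exact le_sup_left
  have hlt' := fs_lt_normalizerIn p (hS.to_le hMS) hlt
  obtain ⟨y, hyN, hyR⟩ := SetLike.exists_of_lt hlt'
  obtain ⟨u, hu, c, hc, huc⟩ := mem_sup_of_le_normalizer' hRN (by rw [sup_comm]; exact hyN.1 : y ∈ R ⊔ P)
  have hcy : c = u⁻¹ * y := by rw [← huc]; group
  have hcN : c ∈ Subgroup.normalizer (R : Set Ω) := by
    rw [hcy]
    exact Subgroup.mul_mem _ (Subgroup.inv_mem _ (Subgroup.le_normalizer hu)) hyN.2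
  apply hyR
  rw [← huc]
  exact R.mul_mem hu (hNP c hc hcN)

end Cfsg.Agent.Lib.Helper9
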