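import Mathlib
import Cfsg.Prelude.Def_Sporadic_a
import Cfsg.Prelude.Def_SporadicCombinatorics
import Cfsg.Agent.Lib.Helper9.OrbitCert

set_option autoImplicit false
open Cfsg

/-! The orbits of the stabilizer subgroup (as a group acting) are the orbits `stabOrbit`. -/

namespace Cfsg.Agent.Lib.Helper9.M24

open scoped Pointwise

theorem orbit_stab_SF (o : Finset GolayPt) (X : Finset (Finset GolayPt)) :
    MulAction.orbit ↥(MulAction.stabilizer Cfsg.M24 o) X = stabOrbit o X := by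
  ext z
  constructor
  · rintro ⟨⟨⟨g, hg⟩, hs⟩, rfl⟩
    exact ⟨g, hg, by rw [MulAction.mem_stabilizer_iff] at hs; exact hs, rfl⟩
  · rintro ⟨g, hg, hX, rfl⟩
    exact ⟨⟨⟨g, hg⟩, MulAction.mem_stabilizer_iff.mpr hX⟩, rfl⟩

theorem orbit_stab_FS (S : Finset (Finset GolayPt)) (x : Finset GolayPt) :
    MulAction.orbit ↥(MulAction.stabilizer Cfsg.M24 S) x = stabOrbit S x := by
  ext z
  constructor
  · rintro ⟨⟨⟨g, hg⟩, hs⟩, rfl⟩
    exact ⟨g, hg, by rw [MulAction.mem_stabilizer_iff] at hs; exact hs, rfl⟩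
  · rintro ⟨g, hg, hX, rfl⟩
    exact ⟨⟨⟨g, hg⟩, MulAction.mem_stabilizer_iff.mpr hX⟩, rfl⟩

theorem orbit_stab_FF (S : Finset (Finset GolayPt)) (X : Finset (Finset GolayPt)) :
    MulAction.orbit ↥(MulAction.stabilizer Cfsg.M24 S) X = stabOrbit S X := by
  ext z
  constructor
  · rintro ⟨⟨⟨g, hg⟩, hs⟩, rfl⟩
    exact ⟨g, hg, by rw [MulAction.mem_stabilizer_iff] at hs; exact hs, rfl⟩
  · rintro ⟨g, hg, hX, rfl⟩
    exact ⟨⟨⟨g, hg⟩, MulAction.mem_stabilizer_iff.mpr hX⟩, rfl⟩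

theorem orbit_stab_SS (o : Finset GolayPt) (x : Finset GolayPt) :
    MulAction.orbit ↥(MulAction.stabilizer Cfsg.M24 o) x = stabOrbit o x := by
  ext z
  constructor
  · rintro ⟨⟨⟨g, hg⟩, hs⟩, rfl⟩
    exact ⟨g, hg, by rw [MulAction.mem_stabilizer_iff] at hs; exact hs, rfl⟩
  · rintro ⟨g, hg, hX, rfl⟩
    exact ⟨⟨⟨g, hg⟩, MulAction.mem_stabilizer_iff.mpr hX⟩, rfl⟩

end Cfsg.Agent.Lib.Helper9.M24
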