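import Mathlib
import Cfsg.Agent.Lib.Helper4.Ore_K2a
import Cfsg.Agent.Lib.Helper4.Ore_K2b
import Cfsg.Agent.Lib.Lead.Ore_K2d

/-!
# S2493 (refined Ore for `A_n`), package K2e: the main cases `T = |supp ι₁| ≥ 4`.
See `notes/S2493_paper_lead.md`.
-/

set_option autoImplicit false

namespace Cfsg.Agent.Lib.Lead.Ore

open Equiv Equiv.Perm

variable {α : Type*} [Fintype α] [DecidableEq α]

omit [Fintype α] in
/-- two finsets of equal cardinality that differ each have a point outside the other -/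
theorem k2e_exists_sdiff {s t : Finset α} (hc : s.card = t.card) (hne : s ≠ t) :
    (∃ p, p ∈ t ∧ p ∉ s) ∧ ∃ q, q ∈ s ∧ q ∉ t := by
  constructor
  · by_contra hcon
    push Not at hcon
    exact hne (Finset.eq_of_subset_of_card_le hcon (le_of_eq hc)).symm
  · by_contra hcon
    push Not at hcon
    exact hne (Finset.eq_of_subset_of_card_le hcon (le_of_eq hc.symm))

/-- **K2e**. the main cases: `T = |supp ι₁| ≥ 4`. -/
theorem oreConcl_of_decomp (σ ι₁ ι₂ : Perm α) (h1 : ι₁ * ι₁ = 1) (h2 : ι₂ * ι₂ = 1)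
    (hprod : ι₁ * ι₂ = σ) (hcard : ι₁.support.card = ι₂.support.card)
    (hne : ι₁.support ≠ ι₂.support) (hT : 4 ≤ ι₁.support.card) : OreConcl σ := by
  obtain ⟨hct1, hev1, hsg1⟩ := cycleType_of_mul_self ι₁ h1
  obtain ⟨hct2, hev2, hsg2⟩ := cycleType_of_mul_self ι₂ h2
  rcases Nat.even_or_odd (ι₁.support.card / 2) with he | ho
  · -- `T / 2` even
    obtain ⟨a, b, c, d, hab, hac, had, hbc, hbd, hcd, e1, e2, e3, e4⟩ :=
      exists_two_swaps ι₂ h2 (by omega)
    refine oreConcl_of_prod σ ι₁ ι₂ hprod ?_ ?_ a b c d hab hac had hbc hbd hcd e1 e2 e3 e4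
    · rw [hct1, hct2, hcard]
    · rw [hsg2, ← hcard]
      exact he.neg_one_pow
  · -- `T / 2` odd, so `T ≥ 6`
    have hT6 : 6 ≤ ι₁.support.card := by
      obtain ⟨m, hm⟩ := ho
      obtain ⟨j, hj⟩ := hev1
      omega
    obtain ⟨⟨p, hp2, hp1⟩, ⟨q, hq1, hq2⟩⟩ := k2e_exists_sdiff hcard hne
    have hp1' : ι₁ p = p := Perm.notMem_support.mp hp1
    have hq1' : ι₁ q ≠ q := Perm.mem_support.mp hq1
    have hq2' : ι₂ q = q := Perm.notMem_support.mp hq2
    have hp2' : ι₂ p ≠ p := Perm.mem_support.mp hp2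
    obtain ⟨hctA, hsgA⟩ := cycleType_mul_swap ι₁ h1 p q hp1' hq1'
    obtain ⟨hctB, hsgB⟩ := cycleType_mul_swap ι₂ h2 q p hq2' hp2'
    obtain ⟨a, b, c, d, hab, hac, had, hbc, hbd, hcd, e1, e2, e3, e4⟩ :=
      exists_two_swaps_mul_swap ι₂ h2 q p hq2' hp2' (by omega)
    -- `β₂ = swap p q * ι₂` is the inverse of `ι₂ * swap q p`
    have hinv : (ι₂ * swap q p)⁻¹ = swap p q * ι₂ := by
      have hi2 : ι₂⁻¹ = ι₂ := inv_eq_of_mul_eq_one_right h2
      rw [mul_inv_rev, swap_inv, hi2, swap_comm]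
    have hodd : Even (ι₁.support.card / 2 - 1) := by
      obtain ⟨m, hm⟩ := ho
      exact ⟨m, by omega⟩
    have hfix : ∀ {x y : α}, (ι₂ * swap q p) x = y → (swap p q * ι₂) y = x := by
      intro x y hxy
      rw [← hinv, ← hxy]
      simp
    refine oreConcl_of_prod σ (ι₁ * swap p q) (swap p q * ι₂) ?_ ?_ ?_ a b c d
      hab hac had hbc hbd hcd (hfix e2) (hfix e1) (hfix e4) (hfix e3)
    · rw [← hprod]
      calc ι₁ * swap p q * (swap p q * ι₂) = ι₁ * (swap p q * swap p q) * ι₂ := by group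
        _ = ι₁ * ι₂ := by rw [swap_mul_self, mul_one]
    · rw [← hinv, Perm.cycleType_inv, hctA, hctB, hcard]
    · rw [← hinv, Perm.sign_inv, hsgB, ← hcard]
      exact hodd.neg_one_pow

end Cfsg.Agent.Lib.Lead.Ore
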