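import Mathlib
import Cfsg.Prelude
import Cfsg.Agent.Lib.Helper9.OrthDk3

set_option autoImplicit false

namespace Cfsg.Agent.H9Orth

open Matrix Cfsg.Agent.Lib.Helper2.ReflGen Cfsg.Agent.Lib.Helper2.CDG
  Cfsg.Agent.Lib.Helper2

variable {F : Type*} [Field F] {ι : Type} [Fintype ι] [DecidableEq ι]
variable {Q : QuadraticForm F (ι → F)}

theorem perm_fin_two (σ : Equiv.Perm (Fin 2)) (h : σ 0 ≠ 0) : σ 0 = 1 ∧ σ 1 = 0 := by
  revert h
  revert σ
  decide

theorem perm_fin_two' (σ : Equiv.Perm (Fin 2)) (h : σ 0 = 0) : σ 1 = 1 := by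
  revert h
  revert σ
  decide

/-- the stabilizer of a pair of complementary totally singular subspaces of odd dimension is not
maximal in `Ω` -/
theorem ts_pair_not_max [Fintype F] (hQ : (QuadraticMap.polarBilin Q).Nondegenerate)
    (hcard : 5 ≤ Fintype.card ι) {k : ℕ} (hk3 : 3 ≤ k) (hko : Odd k)
    (D : Fin 2 → Submodule F (ι → F)) (hD : Cfsg.Geo.IsMDecomposition k D)
    (hts : ∀ i, Cfsg.Geo.IsTotallySingularQuad ⇑Q (D i)) :
    ∃ K : Subgroup (Matrix.GeneralLinearGroup ι F),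
      Cfsg.Geo.decompositionStabilizer D ⊓ Cfsg.Geo.omegaGL ⇑Q < K ∧
        K < Cfsg.Geo.omegaGL ⇑Q := by
  have hdisj : D 0 ⊓ D 1 = ⊥ := by
    have := hD.indep.pairwiseDisjoint (show (0 : Fin 2) ≠ 1 by decide)
    exact disjoint_iff.1 this
  have hsup : D 0 ⊔ D 1 = ⊤ := by
    rw [← hD.iSup_eq_top]
    apply le_antisymm
    · exact sup_le (le_iSup D 0) (le_iSup D 1)
    · apply iSup_le
      intro i
      fin_cases i
      · exact le_sup_left
      · exact le_sup_right
  have hdisj' : D 1 ⊓ D 0 = ⊥ := by rw [inf_comm]; exact hdisj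
  have hsup' : D 1 ⊔ D 0 = ⊤ := by rw [sup_comm]; exact hsup
  have hf0 := hD.finrank_eq 0
  have hf1 := hD.finrank_eq 1
  have hne01 : D 0 ≠ D 1 := by
    intro h
    rw [← h, inf_idem] at hdisj
    rw [hdisj, finrank_bot] at hf0
    omega
  refine ⟨Cfsg.Geo.subspaceStabilizer (D 0) ⊓ Cfsg.Geo.omegaGL ⇑Q, ?_, ?_⟩
  · apply lt_of_le_of_ne
    · intro g hg
      obtain ⟨hgD, hgΩ⟩ := Subgroup.mem_inf.1 hg
      refine Subgroup.mem_inf.2 ⟨?_, hgΩ⟩
      obtain ⟨σ, hσ⟩ := hgD
      by_cases h00 : σ 0 = 0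
      · apply mem_subspaceStabilizer_of_map_eq
        rw [hσ 0, h00]
      · exfalso
        obtain ⟨s0, s1⟩ := perm_fin_two σ h00
        obtain ⟨h, hhΩ, rfl⟩ := hgΩ
        have hd0 := dfun_eq_zero_of_mem_commutator hQ hcard h hhΩ
        have hd1 := dfun_swap hQ (D 0) (D 1) (hts 0) (hts 1) hdisj hsup (by rw [hf0]; exact hko)
          (by rw [hf0, hf1]) h
          (by
            intro u hu
            have : (D 0).map (Matrix.toLin' ((h : Matrix.GeneralLinearGroup ι F) :
                Matrix ι ι F)) = D 1 := by rw [← s0]; exact hσ 0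
            rw [← this]
            exact ⟨u, hu, Matrix.toLin'_apply _ _⟩)
          (by
            intro u hu
            have : (D 1).map (Matrix.toLin' ((h : Matrix.GeneralLinearGroup ι F) :
                Matrix ι ι F)) = D 0 := by rw [← s1]; exact hσ 1
            rw [← this]
            exact ⟨u, hu, Matrix.toLin'_apply _ _⟩)
        rw [hd0] at hd1
        exact zero_ne_one hd1
    · intro heq
      obtain ⟨g, hgΩ, hfix, w, hw, hgw⟩ := siegel_move hQ (D 0) (D 1) (hts 0) (hts 1) hdisj hsup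
        (by rw [hf0]; exact hk3)
      have hgK : g ∈ Cfsg.Geo.subspaceStabilizer (D 0) ⊓ Cfsg.Geo.omegaGL ⇑Q :=
        Subgroup.mem_inf.2 ⟨mem_subspaceStabilizer_of_fix _ g hfix, hgΩ⟩
      rw [← heq] at hgK
      obtain ⟨σ, hσ⟩ := (Subgroup.mem_inf.1 hgK).1
      have hmap0 : (D 0).map (Matrix.toLin' (g : Matrix ι ι F)) = D 0 := by
        ext x
        constructor
        · rintro ⟨y, hy, rfl⟩
          rw [Matrix.toLin'_apply, hfix y hy]; exact hy
        · intro hx
          exact ⟨x, hx, by rw [Matrix.toLin'_apply, hfix x hx]⟩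
      have h00 : σ 0 = 0 := by
        by_contra h00
        obtain ⟨s0, -⟩ := perm_fin_two σ h00
        have := hσ 0
        rw [hmap0, s0] at this
        exact hne01 this
      have h11 := perm_fin_two' σ h00
      apply hgw
      have := hσ 1
      rw [h11] at this
      rw [← this]
      exact ⟨w, hw, Matrix.toLin'_apply _ _⟩
  · apply lt_of_le_of_ne inf_le_right
    intro heq
    obtain ⟨g, hgΩ, -, w, hw, hgw⟩ := siegel_move hQ (D 1) (D 0) (hts 1) (hts 0) hdisj' hsup'
      (by rw [hf1]; exact hk3)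
    rw [← heq] at hgΩ
    exact hgw (((Subgroup.mem_inf.1 hgΩ).1 w).1 hw)

end Cfsg.Agent.H9Orth
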