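import Mathlib
import Cfsg.Prelude
import Cfsg.Agent.Lib.Helper9.OrthPair1

set_option autoImplicit false
set_option maxHeartbeats 800000

/-! Pairs of complementary totally singular subspaces: the dichotomy for root subspaces. -/

namespace Cfsg.Agent.H9Orth

open Matrix Module Cfsg.Agent.Lib.Helper2.MaxTS2 Cfsg.Agent.Lib.Helper2.ReflGen
  Cfsg.Agent.Lib.Helper2.CDG Cfsg.Agent.Lib.Helper2.LongRoot

variable {F : Type*} [Field F] {ι : Type} [Fintype ι] [DecidableEq ι]
variable {Q : QuadraticForm F (ι → F)}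

/-- `M` contains the Eichler transformations `E_{a,b}` with `a ∈ A`, `b ∈ B` -/
def HasPairElts (hQ : (QuadraticMap.polarBilin Q).Nondegenerate)
    (M : Subgroup (Matrix.GeneralLinearGroup ι F)) (A B : Submodule F (ι → F)) : Prop :=
  ∀ a b : ι → F, a ∈ A → b ∈ B → ∀ (hu : Q a = 0) (hab : QuadraticMap.polar (⇑Q) a b = 0),
    ((eich hQ a b hu hab : ↥(Cfsg.isometryGroup F ⇑Q)) : Matrix.GeneralLinearGroup ι F) ∈ M

theorem HasPairElts.symm {hQ : (QuadraticMap.polarBilin Q).Nondegenerate}
    {M : Subgroup (Matrix.GeneralLinearGroup ι F)} {A B : Submodule F (ι → F)}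
    (h : TSPair Q A B) (hH : HasPairElts hQ M A B) : HasPairElts hQ M B A := by
  intro b a hb ha hu hba
  rw [eich_swap hQ b a hu (h.tsA a ha) hba]
  exact hH a (-b) ha (B.neg_mem hb) _ _

namespace TSPair

variable {A B : Submodule F (ι → F)}

/-- **Dichotomy**: a root subspace at a point of `A` containing a vector whose `A`-component is
off the point makes the point full. -/
theorem full_of_extra (h : TSPair Q A B) (hQ : (QuadraticMap.polarBilin Q).Nondegenerate)
    (hk : 3 ≤ finrank F A) {M : Subgroup (Matrix.GeneralLinearGroup ι F)}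
    (hH : HasPairElts hQ M A B) {w : ι → F} (hwA : w ∈ A) (hw : Q w = 0) {v₁ v₂ : ι → F}
    (hv₁ : v₁ ∈ A) (hv₂ : v₂ ∈ B) (hv : v₁ + v₂ ∈ rootSub hQ M ⊤ w hw)
    (hne : v₁ ∉ Submodule.span F {w}) : Full hQ M w := by
  obtain ⟨R, hR⟩ : ∃ R, R = rootSub hQ M ⊤ w hw := ⟨_, rfl⟩
  rw [← hR] at hv
  have hBR : ∀ b ∈ B, QuadraticMap.polar (⇑Q) w b = 0 → b ∈ R := by
    intro b hb hwb
    rw [hR]
    exact ⟨Submodule.mem_top, hwb, fun c hd => hH w (c • b) hwA (B.smul_mem c hb) hw hd⟩
  have hwv : QuadraticMap.polar (⇑Q) w (v₁ + v₂) = 0 := by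
    rw [hR] at hv; exact hv.2.1
  have hwv₂ : QuadraticMap.polar (⇑Q) w v₂ = 0 := by
    rw [QuadraticMap.polar_add_right, h.polarA hwA hv₁, zero_add] at hwv
    exact hwv
  have hv₂R := hBR v₂ hv₂ hwv₂
  have hv₁R : v₁ ∈ R := by
    have := R.sub_mem hv hv₂R
    rwa [add_sub_cancel_right] at this
  -- good vectors of `A`
  have hG : ∀ a ∈ A, v₁ ∉ Submodule.span F {a, w} → a ∈ R := by
    intro a ha hva
    have hXA : Submodule.span F {a, w} ≤ A := by
      rw [Submodule.span_le]
      rintro x hx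
      rcases hx with rfl | rfl
      · exact ha
      · exact hwA
    obtain ⟨b, hb, hbX, hbv⟩ := h.sep hQ _ hXA hv₁ hva
    have hab : QuadraticMap.polar (⇑Q) a b = 0 := hbX a (Submodule.subset_span (by simp))
    have hwb : QuadraticMap.polar (⇑Q) w b = 0 := hbX w (Submodule.subset_span (by simp))
    have hρM := hH a b ha hb (h.tsA a ha) hab
    have hρw : ((eich hQ a b (h.tsA a ha) hab : Matrix.GeneralLinearGroup ι F) :
        Matrix ι ι F) *ᵥ w = w := by
      rw [eich_mulVec, h.polarA ha hwA, QuadraticMap.polar_comm (⇑Q) b w, hwb]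
      simp
    have h1 := rootSub_map hQ hw (eich hQ a b (h.tsA a ha) hab) hρM hρw
      (fun _ _ => Submodule.mem_top) (hR ▸ hv₁R)
    rw [eich_mulVec, h.polarA ha hv₁, zero_smul, add_zero, mul_zero, zero_smul, sub_zero,
      ← hR] at h1
    have h2 := R.sub_mem hv₁R h1
    rw [sub_sub_cancel] at h2
    have hbv' : QuadraticMap.polar (⇑Q) b v₁ ≠ 0 := by
      rw [QuadraticMap.polar_comm]; exact hbv
    have := R.smul_mem (QuadraticMap.polar (⇑Q) b v₁)⁻¹ h2
    rwa [smul_smul, inv_mul_cancel₀ hbv', one_smul] at this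
  -- a vector of `A` outside the plane `⟨v₁, w⟩`
  obtain ⟨a₀, ha₀A, ha₀P⟩ : ∃ a₀ ∈ A, a₀ ∉ Submodule.span F {v₁, w} := by
    by_contra hcon
    push Not at hcon
    have hle : A ≤ Submodule.span F {v₁, w} := hcon
    have h1 := Submodule.finrank_mono hle
    have h2 := finrank_span_pair_le v₁ w
    omega
  have hnotP : ∀ a ∈ A, a ∉ Submodule.span F {v₁, w} → v₁ ∉ Submodule.span F {a, w} := by
    intro a _ haP hmem
    rw [Submodule.mem_span_pair] at hmem
    obtain ⟨s, t, hst⟩ := hmem
    by_cases hs : s = 0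
    · apply hne
      rw [hs, zero_smul, zero_add] at hst
      rw [← hst]
      exact Submodule.smul_mem _ _ (Submodule.subset_span rfl)
    · apply haP
      have : a = s⁻¹ • v₁ + (-(s⁻¹ * t)) • w := by
        rw [← hst, smul_add, smul_smul, inv_mul_cancel₀ hs, one_smul, smul_smul, neg_smul]
        abel
      rw [this]
      exact Submodule.add_mem _
        (Submodule.smul_mem _ _ (Submodule.subset_span (by simp)))
        (Submodule.smul_mem _ _ (Submodule.subset_span (by simp)))
  have ha₀R := hG a₀ ha₀A (hnotP a₀ ha₀A ha₀P)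
  have hAR : ∀ a ∈ A, a ∈ R := by
    intro a ha
    by_cases haP : a ∈ Submodule.span F {v₁, w}
    · have h1 : a + a₀ ∉ Submodule.span F {v₁, w} := by
        intro hmem
        apply ha₀P
        have := Submodule.sub_mem _ hmem haP
        rwa [add_sub_cancel_left] at this
      have h2 := hG (a + a₀) (A.add_mem ha ha₀A) (hnotP _ (A.add_mem ha ha₀A) h1)
      have := R.sub_mem h2 ha₀R
      rwa [add_sub_cancel_right] at this
    · exact hG a ha (hnotP a ha haP)
  intro hu' v' huv'
  obtain ⟨a', ha', b', hb', rfl⟩ := h.sum v'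
  have hwb' : QuadraticMap.polar (⇑Q) w b' = 0 := by
    rw [QuadraticMap.polar_add_right, h.polarA hwA ha', zero_add] at huv'
    exact huv'
  have hmem : a' + b' ∈ R := R.add_mem (hAR a' ha') (hBR b' hb' hwb')
  rw [hR] at hmem
  have h1 := hmem.2.2 1 (by rw [one_smul]; exact huv')
  have e : eich hQ w ((1 : F) • (a' + b')) hw (by rw [one_smul]; exact huv') =
      eich hQ w (a' + b') hu' huv' := eich_congr hQ rfl (one_smul F _) _ _ _ _
  rw [e] at h1
  exact h1

end TSPair

end Cfsg.Agent.H9Orth
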