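import Mathlib
import Cfsg.Prelude
import Cfsg.Agent.Lib.Helper9.OrthPair2

set_option autoImplicit false
set_option maxHeartbeats 800000

/-! Pairs of complementary totally singular subspaces: an overgroup moving a point of
`A ∪ B` off `A ∪ B` has a full point. -/

namespace Cfsg.Agent.H9Orth

open Matrix Module Cfsg.Agent.Lib.Helper2.MaxTS2 Cfsg.Agent.Lib.Helper2.ReflGen
  Cfsg.Agent.Lib.Helper2.CDG Cfsg.Agent.Lib.Helper2.LongRoot

variable {F : Type*} [Field F] {ι : Type} [Fintype ι] [DecidableEq ι]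
variable {Q : QuadraticForm F (ι → F)}

namespace TSPair

variable {A B : Submodule F (ι → F)}

theorem finrank_span_triple_le (x y z : ι → F) :
    finrank F ↥(Submodule.span F ({x, y, z} : Set (ι → F))) ≤ 3 := by
  classical
  have h : finrank F ↥(Submodule.span F ((({x, y, z} : Finset (ι → F)) : Set (ι → F)))) ≤ 3 :=
    (finrank_span_finset_le_card ({x, y, z} : Finset (ι → F))).trans Finset.card_le_three
  have e : ((({x, y, z} : Finset (ι → F)) : Set (ι → F))) = {x, y, z} := by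
    ext; simp
  rw [e] at h
  exact h

/-- the key step: a root vector at `z = z₁ + z₂` whose `A`-component is off `⟨z₁⟩` produces
a vector of `A` off `⟨z₁⟩` in the root subspace -/
theorem step_false (h : TSPair Q A B) (hQ : (QuadraticMap.polarBilin Q).Nondegenerate)
    (hk : 5 ≤ finrank F A) {M : Subgroup (Matrix.GeneralLinearGroup ι F)}
    (hH : HasPairElts hQ M A B) {z z₁ z₂ r r₁ r₂ : ι → F} (hz₁ : z₁ ∈ A) (hz₂ : z₂ ∈ B)
    (hr₁ : r₁ ∈ A) (hr₂ : r₂ ∈ B) (hzdec : z = z₁ + z₂) (hrdec : r = r₁ + r₂) (hz : Q z = 0)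
    (hr : r ∈ rootSub hQ M ⊤ z hz) (hne : r₁ ∉ Submodule.span F {z₁})
    (hA : ∀ y ∈ A, y ≠ 0 → y ∈ rootSub hQ M ⊤ z hz → y ∈ Submodule.span F {z₁}) : False := by
  have hXA : Submodule.span F {z₁} ≤ A := by
    rw [Submodule.span_le]
    rintro _ rfl
    exact hz₁
  obtain ⟨b, hb, hbX, hbr⟩ := h.sep hQ _ hXA hr₁ hne
  have hz₁b : QuadraticMap.polar (⇑Q) z₁ b = 0 := hbX z₁ (Submodule.subset_span rfl)
  have hSB : Submodule.span F ({r₂, z₂, b} : Set (ι → F)) ≤ B := by
    rw [Submodule.span_le]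
    rintro x hx
    rcases hx with rfl | rfl | rfl
    · exact hr₂
    · exact hz₂
    · exact hb
  obtain ⟨a, ha, haS, haL⟩ := h.exists_in_perp hQ _ hSB (Submodule.span F {z₁}) (by
    have h1 := finrank_span_triple_le r₂ z₂ b
    have h2 : finrank F ↥(Submodule.span F {z₁}) ≤ 1 := by
      have := finrank_span_le_card (R := F) ({z₁} : Set (ι → F))
      simpa using this
    omega)
  have har₂ : QuadraticMap.polar (⇑Q) a r₂ = 0 := by
    rw [QuadraticMap.polar_comm]; exact haS r₂ (Submodule.subset_span (by simp))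
  have haz₂ : QuadraticMap.polar (⇑Q) a z₂ = 0 := by
    rw [QuadraticMap.polar_comm]; exact haS z₂ (Submodule.subset_span (by simp))
  have hab : QuadraticMap.polar (⇑Q) a b = 0 := by
    rw [QuadraticMap.polar_comm]; exact haS b (Submodule.subset_span (by simp))
  have ha0 : a ≠ 0 := by
    rintro rfl
    exact haL (Submodule.zero_mem _)
  have hρM := hH a b ha hb (h.tsA a ha) hab
  have hρz : ((eich hQ a b (h.tsA a ha) hab : Matrix.GeneralLinearGroup ι F) :
      Matrix ι ι F) *ᵥ z = z := by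
    rw [eich_mulVec, hzdec, QuadraticMap.polar_add_right, QuadraticMap.polar_add_right,
      h.polarA ha hz₁, haz₂, QuadraticMap.polar_comm (⇑Q) b z₁, hz₁b, h.polarB hb hz₂]
    simp
  have h1 := rootSub_map hQ hz (eich hQ a b (h.tsA a ha) hab) hρM hρz
    (fun _ _ => Submodule.mem_top) hr
  have hρr : ((eich hQ a b (h.tsA a ha) hab : Matrix.GeneralLinearGroup ι F) :
      Matrix ι ι F) *ᵥ r = r - QuadraticMap.polar (⇑Q) b r₁ • a := by
    rw [eich_mulVec, hrdec, QuadraticMap.polar_add_right, QuadraticMap.polar_add_right,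
      h.polarA ha hr₁, har₂, h.polarB hb hr₂]
    simp
  rw [hρr] at h1
  have h2 := (rootSub hQ M ⊤ z hz).sub_mem hr h1
  rw [sub_sub_cancel] at h2
  have hbr' : QuadraticMap.polar (⇑Q) b r₁ ≠ 0 := by
    rw [QuadraticMap.polar_comm]; exact hbr
  have h3 := (rootSub hQ M ⊤ z hz).smul_mem (QuadraticMap.polar (⇑Q) b r₁)⁻¹ h2
  rw [smul_smul, inv_mul_cancel₀ hbr', one_smul] at h3
  exact haL (hA a ha ha0 h3)

/-- points of `A` in the root subspace at `z₁ + z₂` lie on `⟨z₁⟩`, if no point of `A` is full -/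
theorem claimA (h : TSPair Q A B) (hQ : (QuadraticMap.polarBilin Q).Nondegenerate)
    (hk : 3 ≤ finrank F A) {M : Subgroup (Matrix.GeneralLinearGroup ι F)}
    (hH : HasPairElts hQ M A B) {z z₁ z₂ : ι → F} (hz₁ : z₁ ∈ A) (hz₂ : z₂ ∈ B)
    (hz₁0 : z₁ ≠ 0) (hzdec : z = z₁ + z₂) (hz : Q z = 0)
    (hNA : ∀ y ∈ A, y ≠ 0 → ¬ Full hQ M y) :
    ∀ y ∈ A, y ≠ 0 → y ∈ rootSub hQ M ⊤ z hz → y ∈ Submodule.span F {z₁} := by
  intro y hy hy0 hyR
  have hyQ : Q y = 0 := h.tsA y hy
  have hzy := rootSub_symm hQ M hyQ hz hyR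
  have hmem : z₁ ∈ Submodule.span F {y} := by
    by_contra hne
    apply hNA y hy hy0
    exact h.full_of_extra hQ hk hH hy hyQ hz₁ hz₂ (hzdec ▸ hzy) hne
  obtain ⟨c, hc⟩ := Submodule.mem_span_singleton.1 hmem
  have hc0 : c ≠ 0 := by
    rintro rfl
    rw [zero_smul] at hc
    exact hz₁0 hc.symm
  have : y = c⁻¹ • z₁ := by rw [← hc, smul_smul, inv_mul_cancel₀ hc0, one_smul]
  rw [this]
  exact Submodule.smul_mem _ _ (Submodule.subset_span rfl)

/-- **Existence of a full point** for a group containing the pair elements and an element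
moving a point of `A` off `A ∪ B`. -/
theorem exists_full (h : TSPair Q A B) (hQ : (QuadraticMap.polarBilin Q).Nondegenerate)
    (hk : 5 ≤ finrank F A) {M : Subgroup (Matrix.GeneralLinearGroup ι F)}
    (hH : HasPairElts hQ M A B) (γ : ↥(Cfsg.isometryGroup F ⇑Q))
    (hγM : (γ : Matrix.GeneralLinearGroup ι F) ∈ M) {w z₁ z₂ : ι → F} (hwA : w ∈ A)
    (hz₁ : z₁ ∈ A) (hz₂ : z₂ ∈ B) (hz₁0 : z₁ ≠ 0) (hz₂0 : z₂ ≠ 0)
    (hγw : ((γ : Matrix.GeneralLinearGroup ι F) : Matrix ι ι F) *ᵥ w = z₁ + z₂) :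
    (∃ y ∈ A, y ≠ 0 ∧ Full hQ M y) ∨ (∃ y ∈ B, y ≠ 0 ∧ Full hQ M y) := by
  by_contra hcon
  push Not at hcon
  obtain ⟨hNA, hNB⟩ := hcon
  have hkB : finrank F B = finrank F A := by
    have h1 := h.finrank_left hQ
    have h2 := h.finrank_right hQ
    omega
  obtain ⟨z, hzdec⟩ : ∃ z, z = z₁ + z₂ := ⟨_, rfl⟩
  rw [← hzdec] at hγw
  have hw : Q w = 0 := h.tsA w hwA
  have hz : Q z = 0 := by rw [← hγw, iso_Q]; exact hw
  have hHs := hH.symm h
  have hcA := h.claimA hQ (by omega) hH hz₁ hz₂ hz₁0 hzdec hz hNA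
  have hcB := h.symm.claimA hQ (by omega) hHs hz₂ hz₁ hz₂0 (hzdec.trans (add_comm _ _)) hz hNB
  -- elements of the root subspace at `z`
  have hR : ∀ b ∈ B, QuadraticMap.polar (⇑Q) w b = 0 →
      ((γ : Matrix.GeneralLinearGroup ι F) : Matrix ι ι F) *ᵥ b ∈ rootSub hQ M ⊤ z hz := by
    intro b hb hwb
    have hzb : QuadraticMap.polar (⇑Q) z
        (((γ : Matrix.GeneralLinearGroup ι F) : Matrix ι ι F) *ᵥ b) = 0 := by
      rw [← hγw, iso_polar]; exact hwb
    refine ⟨Submodule.mem_top, hzb, fun c hd => ?_⟩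
    have h1 : QuadraticMap.polar (⇑Q) w (c • b) = 0 := by
      rw [QuadraticMap.polar_smul_right, hwb, smul_zero]
    have e := conj_eich hQ γ w (c • b) hw h1
    have e' : eich hQ z (c • ((γ : Matrix.GeneralLinearGroup ι F) : Matrix ι ι F) *ᵥ b) hz hd =
        γ * eich hQ w (c • b) hw h1 * γ⁻¹ := by
      rw [e]
      apply eich_congr hQ hγw.symm
      rw [Matrix.mulVec_smul]
    rw [e']
    have h2 : ((γ * eich hQ w (c • b) hw h1 * γ⁻¹ : ↥(Cfsg.isometryGroup F ⇑Q)) :
        Matrix.GeneralLinearGroup ι F) =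
        (γ : Matrix.GeneralLinearGroup ι F) *
          ((eich hQ w (c • b) hw h1 : ↥(Cfsg.isometryGroup F ⇑Q)) :
            Matrix.GeneralLinearGroup ι F) *
          (γ : Matrix.GeneralLinearGroup ι F)⁻¹ := rfl
    rw [h2]
    exact M.mul_mem (M.mul_mem hγM (hH w (c • b) hwA (B.smul_mem c hb) hw h1)) (M.inv_mem hγM)
  -- a root vector off the plane `⟨z₁, z₂⟩`
  obtain ⟨r, hrR, hrP⟩ : ∃ r ∈ rootSub hQ M ⊤ z hz, r ∉ Submodule.span F {z₁, z₂} := by
    obtain ⟨k, hk'⟩ : ∃ k, k = finrank F B := ⟨_, rfl⟩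
    have hV : finrank F (ι → F) = 2 * k := by
      rw [Module.finrank_fintype_fun_eq_card, hk', h.finrank_right hQ]
    have hBts : IsTS Q B := h.tsB
    have f1 := finrank_inf_orthogonal hQ hV hBts hk'.symm (Submodule.span F {w})
    have hsp : finrank F ↥(Submodule.span F {w}) ≤ 1 := by
      have := finrank_span_le_card (R := F) ({w} : Set (ι → F))
      simpa using this
    by_contra hcon
    push Not at hcon
    have hle : gmap γ (B ⊓ perp Q (Submodule.span F {w})) ≤ Submodule.span F {z₁, z₂} := by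
      intro x hx
      obtain ⟨b, hb, rfl⟩ := (mem_gmap γ _ x).1 hx
      apply hcon
      exact hR b hb.1 (hb.2 w (Submodule.subset_span rfl))
    have h1 := Submodule.finrank_mono hle
    rw [finrank_gmap] at h1
    have h2 := finrank_span_pair_le z₁ z₂
    omega
  obtain ⟨r₁, hr₁, r₂, hr₂, hrdec⟩ := h.sum r
  by_cases hcase : r₁ ∈ Submodule.span F {z₁}
  · have hne : r₂ ∉ Submodule.span F {z₂} := by
      intro hmem
      apply hrP
      rw [hrdec]
      obtain ⟨c, hc⟩ := Submodule.mem_span_singleton.1 hcase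
      obtain ⟨d, hd⟩ := Submodule.mem_span_singleton.1 hmem
      rw [← hc, ← hd]
      exact Submodule.add_mem _
        (Submodule.smul_mem _ _ (Submodule.subset_span (by simp)))
        (Submodule.smul_mem _ _ (Submodule.subset_span (by simp)))
    exact h.symm.step_false hQ (by omega) hHs hz₂ hz₁ hr₂ hr₁ (hzdec.trans (add_comm _ _))
      (hrdec.trans (add_comm _ _)) hz hrR hne hcB
  · exact h.step_false hQ hk hH hz₁ hz₂ hr₁ hr₂ hzdec hrdec hz hrR hcase hcA

end TSPair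

end Cfsg.Agent.H9Orth
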