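import Mathlib
import Cfsg.Prelude
import Cfsg.Agent.Lib.Helper9.OrthPair3

set_option autoImplicit false
set_option maxHeartbeats 800000

/-! Pairs of complementary totally singular subspaces of even dimension: an element of `Ω`
interchanging them. -/

namespace Cfsg.Agent.H9Orth

open Matrix Module Cfsg.Agent.Lib.Helper2.MaxTS2 Cfsg.Agent.Lib.Helper2.ReflGen
  Cfsg.Agent.Lib.Helper2.CDG Cfsg.Agent.Lib.Helper2.LongRoot

variable {F : Type*} [Field F] {ι : Type} [Fintype ι] [DecidableEq ι]
variable {Q : QuadraticForm F (ι → F)}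

/-- the product of the first `j` reflections of a family -/
noncomputable def prodRefl {k : ℕ} (v : Fin k → ι → F) (hv : ∀ i, Q (v i) ≠ 0) :
    ℕ → ↥(Cfsg.isometryGroup F ⇑Q)
  | 0 => 1
  | (j + 1) => prodRefl v hv j * (if hj : j < k then refl Q (v ⟨j, hj⟩) (hv _) else 1)

theorem prodRefl_zero {k : ℕ} (v : Fin k → ι → F) (hv : ∀ i, Q (v i) ≠ 0) :
    prodRefl v hv 0 = 1 := rfl

theorem prodRefl_succ {k : ℕ} (v : Fin k → ι → F) (hv : ∀ i, Q (v i) ≠ 0) (j : ℕ)
    (hj : j < k) : prodRefl v hv (j + 1) = prodRefl v hv j * refl Q (v ⟨j, hj⟩) (hv _) := by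
  show prodRefl v hv j * (if hj : j < k then refl Q (v ⟨j, hj⟩) (hv _) else 1) = _
  rw [dif_pos hj]

/-- products of an even number of reflections in vectors of the same norm lie in `T` -/
theorem prodRefl_mem_T [Finite F] (hQ : (QuadraticMap.polarBilin Q).Nondegenerate)
    (hn : 5 ≤ Fintype.card ι) {k : ℕ} (v : Fin k → ι → F) (hv : ∀ i, Q (v i) ≠ 0)
    (hc : ∀ i j, Q (v i) = Q (v j)) (m : ℕ) (hm : 2 * m ≤ k) :
    prodRefl v hv (2 * m) ∈ T Q := by
  induction m with
  | zero => exact (T Q).one_mem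
  | succ m ih =>
    have h1 : 2 * (m + 1) = 2 * m + 1 + 1 := by ring
    rw [h1, prodRefl_succ v hv (2 * m + 1) (by omega), prodRefl_succ v hv (2 * m) (by omega),
      mul_assoc]
    exact (T Q).mul_mem (ih (by omega))
      (refl_mul_refl_mem_T hQ hn _ _ (hv _) (hv _) (hc _ _))

namespace TSPair

variable {A B : Submodule F (ι → F)}

/-- **an element of `T = Ω` interchanging `A` and `B`** -/
theorem exists_swap [Finite F] (h : TSPair Q A B)
    (hQ : (QuadraticMap.polarBilin Q).Nondegenerate) (hn : 5 ≤ Fintype.card ι)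
    (hev : Even (finrank F A)) :
    ∃ s : ↥(Cfsg.isometryGroup F ⇑Q), s ∈ T Q ∧
      (∀ a ∈ A, ((s : Matrix.GeneralLinearGroup ι F) : Matrix ι ι F) *ᵥ a ∈ B) ∧
      (∀ b ∈ B, ((s : Matrix.GeneralLinearGroup ι F) : Matrix ι ι F) *ᵥ b ∈ A) := by
  classical
  obtain ⟨k, hk⟩ : ∃ k, k = finrank F A := ⟨_, rfl⟩
  have e : Basis (Fin k) F ↥A := Module.finBasisOfFinrankEq F ↥A hk.symm
  -- the pairing map
  let Φ : ↥B →ₗ[F] Module.Dual F ↥A :=
    ((QuadraticMap.polarBilin Q).compl₁₂ A.subtype B.subtype).flip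
  have hΦ : ∀ (b : ↥B) (a : ↥A), Φ b a = QuadraticMap.polar (⇑Q) (a : ι → F) (b : ι → F) := by
    intro b a
    rfl
  have hΦinj : Function.Injective Φ := by
    rw [← LinearMap.ker_eq_bot, LinearMap.ker_eq_bot']
    intro b hb
    apply Subtype.ext
    apply h.symm.pairing hQ b.2
    intro a ha
    have := LinearMap.congr_fun hb ⟨a, ha⟩
    rw [hΦ] at this
    rw [QuadraticMap.polar_comm]
    exact this
  have hfin : finrank F ↥B = finrank F (Module.Dual F ↥A) := by
    rw [Subspace.dual_finrank_eq]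
    have h1 := h.finrank_left hQ
    have h2 := h.finrank_right hQ
    omega
  have hΦsurj : Function.Surjective Φ :=
    (LinearMap.injective_iff_surjective_of_finrank_eq_finrank hfin).1 hΦinj
  choose f' hf' using fun j : Fin k => hΦsurj (e.coord j)
  obtain ⟨E, hE⟩ : ∃ E : Fin k → ι → F, ∀ i, E i = ((e i : ↥A) : ι → F) := ⟨_, fun _ => rfl⟩
  obtain ⟨fv, hfv⟩ : ∃ fv : Fin k → ι → F, ∀ j, fv j = ((f' j : ↥B) : ι → F) :=
    ⟨_, fun _ => rfl⟩
  have hEA : ∀ i, E i ∈ A := fun i => by rw [hE]; exact (e i).2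
  have hfB : ∀ j, fv j ∈ B := fun j => by rw [hfv]; exact (f' j).2
  have hEf : ∀ i j, QuadraticMap.polar (⇑Q) (E i) (fv j) = if i = j then 1 else 0 := by
    intro i j
    rw [hE, hfv, ← hΦ, hf', Basis.coord_apply, Basis.repr_self, Finsupp.single_apply]
  have hfE : ∀ i j, QuadraticMap.polar (⇑Q) (fv j) (E i) = if i = j then 1 else 0 := by
    intro i j
    rw [QuadraticMap.polar_comm]; exact hEf i j
  have hEE : ∀ i j, QuadraticMap.polar (⇑Q) (E i) (E j) = 0 := fun i j =>
    h.polarA (hEA i) (hEA j)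
  have hff : ∀ i j, QuadraticMap.polar (⇑Q) (fv i) (fv j) = 0 := fun i j =>
    h.polarB (hfB i) (hfB j)
  -- the reflection vectors
  obtain ⟨v, hvdef⟩ : ∃ v : Fin k → ι → F, ∀ i, v i = E i - fv i := ⟨_, fun _ => rfl⟩
  have hvQ : ∀ i, Q (v i) = -1 := by
    intro i
    rw [hvdef, sub_eq_add_neg, QuadraticMap.map_add Q, QuadraticMap.map_neg, h.tsA _ (hEA i),
      h.tsB _ (hfB i), QuadraticMap.polar_neg_right, hEf, if_pos rfl]
    ring
  have hv : ∀ i, Q (v i) ≠ 0 := fun i => by rw [hvQ]; exact neg_ne_zero.2 one_ne_zero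
  have hrE : ∀ i j, ((refl Q (v i) (hv i) : Matrix.GeneralLinearGroup ι F) : Matrix ι ι F) *ᵥ
      E j = if i = j then fv j else E j := by
    intro i j
    rw [refl_mulVec, hvQ, hvdef, QuadraticMap.polar_sub_left, hEE, hfE]
    by_cases hij : i = j
    · subst hij
      rw [if_pos rfl, if_pos rfl]
      simp only [zero_sub, mul_neg, mul_one]
      rw [show ((-1 : F))⁻¹ = -1 by norm_num]
      module
    · rw [if_neg hij, if_neg (fun h' => hij h'.symm)]
      simp
  have hrf : ∀ i j, ((refl Q (v i) (hv i) : Matrix.GeneralLinearGroup ι F) : Matrix ι ι F) *ᵥ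
      fv j = if i = j then E j else fv j := by
    intro i j
    rw [refl_mulVec, hvQ, hvdef, QuadraticMap.polar_sub_left, hEf, hff]
    by_cases hij : i = j
    · subst hij
      rw [if_pos rfl, if_pos rfl]
      simp only [sub_zero, mul_one]
      rw [show ((-1 : F))⁻¹ = -1 by norm_num]
      module
    · rw [if_neg hij, if_neg hij]
      simp
  -- the action of the partial products
  have hP : ∀ j : ℕ, j ≤ k → ∀ i : Fin k,
      (i.val < j →
        ((prodRefl v hv j : Matrix.GeneralLinearGroup ι F) : Matrix ι ι F) *ᵥ E i = fv i ∧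
        ((prodRefl v hv j : Matrix.GeneralLinearGroup ι F) : Matrix ι ι F) *ᵥ fv i = E i) ∧
      (j ≤ i.val →
        ((prodRefl v hv j : Matrix.GeneralLinearGroup ι F) : Matrix ι ι F) *ᵥ E i = E i ∧
        ((prodRefl v hv j : Matrix.GeneralLinearGroup ι F) : Matrix ι ι F) *ᵥ fv i = fv i) := by
    intro j
    induction j with
    | zero =>
      intro _ i
      refine ⟨fun hi => absurd hi (Nat.not_lt_zero _), fun _ => ?_⟩
      rw [prodRefl_zero]
      exact ⟨one_mulVec' _, one_mulVec' _⟩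
    | succ j ih =>
      intro hj i
      have hjk : j < k := by omega
      have ih' := ih (by omega)
      rw [prodRefl_succ v hv j hjk]
      constructor
      · intro hi
        by_cases hij : i.val = j
        · have e1 : (⟨j, hjk⟩ : Fin k) = i := Fin.ext hij.symm
          rw [mul_mulVec, mul_mulVec, hrE, hrf, if_pos e1, if_pos e1]
          exact ⟨((ih' i).2 (by omega)).2, ((ih' i).2 (by omega)).1⟩
        · have e1 : (⟨j, hjk⟩ : Fin k) ≠ i := fun h' => hij (by rw [← h'])
          rw [mul_mulVec, mul_mulVec, hrE, hrf, if_neg e1, if_neg e1]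
          exact (ih' i).1 (by omega)
      · intro hi
        have e1 : (⟨j, hjk⟩ : Fin k) ≠ i := fun h' => by
          have : j = i.val := by rw [← h']
          omega
        rw [mul_mulVec, mul_mulVec, hrE, hrf, if_neg e1, if_neg e1]
        exact (ih' i).2 (by omega)
  obtain ⟨m, hm⟩ := hev
  have hkm : k = 2 * m := by omega
  obtain ⟨s, hs⟩ : ∃ s, s = prodRefl v hv k := ⟨_, rfl⟩
  have hsT : s ∈ T Q := by
    have h2 := prodRefl_mem_T hQ hn v hv (fun i j => by rw [hvQ, hvQ]) m (by omega)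
    have e2 : prodRefl v hv (2 * m) = prodRefl v hv k := congrArg (prodRefl v hv) hkm.symm
    rw [hs, ← e2]
    exact h2
  have hsE : ∀ i, ((s : Matrix.GeneralLinearGroup ι F) : Matrix ι ι F) *ᵥ E i = fv i :=
    fun i => by rw [hs]; exact ((hP k le_rfl i).1 i.2).1
  have hsf : ∀ i, ((s : Matrix.GeneralLinearGroup ι F) : Matrix ι ι F) *ᵥ fv i = E i :=
    fun i => by rw [hs]; exact ((hP k le_rfl i).1 i.2).2
  refine ⟨s, hsT, ?_, ?_⟩
  · intro a ha
    have h1 : a = ∑ i, (e.repr ⟨a, ha⟩ i) • E i := by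
      have h2 := e.sum_repr ⟨a, ha⟩
      have h3 := congrArg (fun x : ↥A => (x : ι → F)) h2
      simp only [Submodule.coe_sum, Submodule.coe_smul] at h3
      refine h3.symm.trans ?_
      apply Finset.sum_congr rfl
      intro i _
      rw [hE]
    rw [h1, ← Matrix.toLin'_apply, map_sum]
    apply B.sum_mem
    intro i _
    rw [map_smul, Matrix.toLin'_apply, hsE]
    exact B.smul_mem _ (hfB i)
  · intro b hb
    have h1 : b = ∑ j, QuadraticMap.polar (⇑Q) (E j) b • fv j := by
      have hmem : ∑ j, QuadraticMap.polar (⇑Q) (E j) b • fv j ∈ B :=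
        B.sum_mem (fun j _ => B.smul_mem _ (hfB j))
      have h2 : Φ ⟨b, hb⟩ = Φ ⟨_, hmem⟩ := by
        apply e.ext
        intro i
        rw [hΦ, hΦ]
        show QuadraticMap.polar (⇑Q) ((e i : ↥A) : ι → F) b =
          QuadraticMap.polar (⇑Q) ((e i : ↥A) : ι → F)
            (∑ j, QuadraticMap.polar (⇑Q) (E j) b • fv j)
        rw [← hE]
        have hlin : QuadraticMap.polar (⇑Q) (E i)
            (∑ j, QuadraticMap.polar (⇑Q) (E j) b • fv j) =
            ∑ j, QuadraticMap.polar (⇑Q) (E j) b * QuadraticMap.polar (⇑Q) (E i) (fv j) := by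
          have := map_sum (QuadraticMap.polarBilin Q (E i))
            (fun j => QuadraticMap.polar (⇑Q) (E j) b • fv j) Finset.univ
          rw [show QuadraticMap.polar (⇑Q) (E i)
            (∑ j, QuadraticMap.polar (⇑Q) (E j) b • fv j) =
            QuadraticMap.polarBilin Q (E i) (∑ j, QuadraticMap.polar (⇑Q) (E j) b • fv j)
            from rfl, this]
          apply Finset.sum_congr rfl
          intro j _
          rw [map_smul, smul_eq_mul]
          rfl
        rw [hlin]
        simp only [hEf, mul_ite, mul_one, mul_zero]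
        rw [Finset.sum_ite_eq Finset.univ i]
        simp
      exact congrArg (fun x : ↥B => (x : ι → F)) (hΦinj h2)
    rw [h1, ← Matrix.toLin'_apply, map_sum]
    apply A.sum_mem
    intro j _
    rw [map_smul, Matrix.toLin'_apply, hsf]
    exact A.smul_mem _ (hEA j)

end TSPair

end Cfsg.Agent.H9Orth
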