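import Mathlib
import Cfsg.Prelude
import Cfsg.Agent.Lib.Helper9.OrthPair4
import Cfsg.Agent.Lib.Helper9.OrthMax15

set_option autoImplicit false
set_option maxHeartbeats 800000

/-! The stabiliser of a pair of complementary totally singular subspaces of even dimension is
maximal in `Ω`. -/

namespace Cfsg.Agent.H9Orth

open Matrix Module Cfsg.Agent.Lib.Helper2.MaxTS2 Cfsg.Agent.Lib.Helper2.ReflGen
  Cfsg.Agent.Lib.Helper2.CDG Cfsg.Agent.Lib.Helper2.LongRoot

variable {F : Type*} [Field F] {ι : Type} [Fintype ι] [DecidableEq ι]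
variable {Q : QuadraticForm F (ι → F)}

/-- a subspace contained in the union of two subspaces lies in one of them -/
theorem le_or_le_of_subset_union (X A B : Submodule F (ι → F))
    (h : ∀ x ∈ X, x ∈ A ∨ x ∈ B) : X ≤ A ∨ X ≤ B := by
  by_contra hcon
  push Not at hcon
  obtain ⟨hA, hB⟩ := hcon
  rw [SetLike.not_le_iff_exists] at hA hB
  obtain ⟨x, hx, hxA⟩ := hA
  obtain ⟨y, hy, hyB⟩ := hB
  have hxB : x ∈ B := (h x hx).resolve_left hxA
  have hyA : y ∈ A := (h y hy).resolve_right hyB
  rcases h (x + y) (X.add_mem hx hy) with h1 | h1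
  · apply hxA
    have := A.sub_mem h1 hyA
    rwa [add_sub_cancel_right] at this
  · apply hyB
    have := B.sub_mem h1 hxB
    rwa [add_sub_cancel_left] at this

namespace TSPair

variable {A B : Submodule F (ι → F)}

/-- if one point of `A` is full, all are -/
theorem all_full (h : TSPair Q A B) (hQ : (QuadraticMap.polarBilin Q).Nondegenerate)
    (hk : 3 ≤ finrank F A) {M : Subgroup (Matrix.GeneralLinearGroup ι F)}
    (hH : HasPairElts hQ M A B) {y : ι → F} (hy : y ∈ A) (hy0 : y ≠ 0) (hfy : Full hQ M y) :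
    ∀ a ∈ A, Full hQ M a := by
  intro a ha
  by_cases hay : a ∈ Submodule.span F {y}
  · obtain ⟨c, rfl⟩ := Submodule.mem_span_singleton.1 hay
    exact full_smul hQ hfy c
  · have hyQ : Q y = 0 := h.tsA y hy
    have haQ : Q a = 0 := h.tsA a ha
    have hya : QuadraticMap.polar (⇑Q) y a = 0 := h.polarA hy ha
    have h1 : a ∈ rootSub hQ M ⊤ y hyQ :=
      ⟨Submodule.mem_top, hya, fun c hd => hfy hyQ (c • a) hd⟩
    have h2 := rootSub_symm hQ M haQ hyQ h1
    have hne : y ∉ Submodule.span F {a} := by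
      intro hmem
      obtain ⟨c, hc⟩ := Submodule.mem_span_singleton.1 hmem
      have hc0 : c ≠ 0 := by
        rintro rfl
        rw [zero_smul] at hc
        exact hy0 hc.symm
      apply hay
      have : a = c⁻¹ • y := by rw [← hc, smul_smul, inv_mul_cancel₀ hc0, one_smul]
      rw [this]
      exact Submodule.smul_mem _ _ (Submodule.subset_span rfl)
    have h3 : y + 0 ∈ rootSub hQ M ⊤ a haQ := by rw [add_zero]; exact h2
    exact h.full_of_extra hQ hk hH ha haQ hy B.zero_mem h3 hne

end TSPair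

/-- **Maximality of the stabiliser of a pair of complementary totally singular subspaces.** -/
theorem ts_pair_stab_maximal [Fintype F] (hQ : (QuadraticMap.polarBilin Q).Nondegenerate)
    (hn : 13 ≤ Fintype.card ι) (k : ℕ) (hk2 : 2 * k = Fintype.card ι) (hke : Even k)
    (D : Fin 2 → Submodule F (ι → F)) (hD : Cfsg.Geo.IsMDecomposition k D)
    (hts : ∀ i, Cfsg.Geo.IsTotallySingularQuad (⇑Q) (D i)) :
    Cfsg.Geo.IsMaximalIn (Cfsg.Geo.omegaGL ⇑Q)
      (Cfsg.Geo.decompositionStabilizer D ⊓ Cfsg.Geo.omegaGL ⇑Q) := by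
  classical
  have : Finite F := Finite.of_fintype F
  obtain ⟨A, hA⟩ : ∃ A, A = D 0 := ⟨_, rfl⟩
  obtain ⟨B, hB⟩ : ∃ B, B = D 1 := ⟨_, rfl⟩
  have hsup : A ⊔ B = ⊤ := by
    rw [hA, hB, ← hD.iSup_eq_top]
    apply le_antisymm
    · exact sup_le (le_iSup D 0) (le_iSup D 1)
    · apply iSup_le
      intro i
      fin_cases i
      · exact le_sup_left
      · exact le_sup_right
  have h : TSPair Q A B := by
    refine ⟨hA ▸ hts 0, hB ▸ hts 1, fun x => ?_⟩
    have hx : x ∈ A ⊔ B := by rw [hsup]; trivial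
    obtain ⟨a, ha, b, hb, hab⟩ := Submodule.mem_sup.1 hx
    exact ⟨a, ha, b, hb, hab.symm⟩
  have hAk : finrank F A = k := hA ▸ hD.finrank_eq 0
  have hBk : finrank F B = k := hB ▸ hD.finrank_eq 1
  have hk7 : 7 ≤ k := by omega
  have hA0 : A ≠ ⊥ := by
    intro h0
    rw [h0, finrank_bot] at hAk
    omega
  have hAB : A ≠ B := by
    intro heq
    apply hA0
    have := h.inf_eq_bot hQ
    rwa [← heq, inf_idem] at this
  -- membership in the decomposition stabiliser
  have hstab : ∀ g : Matrix.GeneralLinearGroup ι F,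
      (∀ a ∈ A, (g : Matrix ι ι F) *ᵥ a ∈ A) → (∀ b ∈ B, (g : Matrix ι ι F) *ᵥ b ∈ B) →
      g ∈ Cfsg.Geo.decompositionStabilizer D := by
    intro g hgA hgB
    refine ⟨1, fun i => ?_⟩
    fin_cases i
    · exact map_eq_of_mem_stab (D 0) g (mem_subspaceStabilizer_of_mapsTo _ g (hA ▸ hgA))
    · exact map_eq_of_mem_stab (D 1) g (mem_subspaceStabilizer_of_mapsTo _ g (hB ▸ hgB))
  have hswapmem : ∀ g : ↥(Cfsg.isometryGroup F ⇑Q),
      (∀ a ∈ A, ((g : Matrix.GeneralLinearGroup ι F) : Matrix ι ι F) *ᵥ a ∈ B) →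
      (∀ b ∈ B, ((g : Matrix.GeneralLinearGroup ι F) : Matrix ι ι F) *ᵥ b ∈ A) →
      (g : Matrix.GeneralLinearGroup ι F) ∈ Cfsg.Geo.decompositionStabilizer D := by
    intro g hgA hgB
    have h1 : gmap g A = B := by
      apply Submodule.eq_of_le_of_finrank_eq
      · intro x hx
        obtain ⟨a, ha, rfl⟩ := (mem_gmap g A x).1 hx
        exact hgA a ha
      · rw [finrank_gmap, hAk, hBk]
    have h2 : gmap g B = A := by
      apply Submodule.eq_of_le_of_finrank_eq
      · intro x hx
        obtain ⟨b, hb, rfl⟩ := (mem_gmap g B x).1 hx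
        exact hgB b hb
      · rw [finrank_gmap, hAk, hBk]
    refine ⟨Equiv.swap 0 1, fun i => ?_⟩
    fin_cases i
    · show (D 0).map _ = D (Equiv.swap 0 1 0)
      rw [Equiv.swap_apply_left, ← hA, ← hB]
      exact h1
    · show (D 1).map _ = D (Equiv.swap 0 1 1)
      rw [Equiv.swap_apply_right, ← hA, ← hB]
      exact h2
  -- the pair elements lie in the stabiliser
  have hHH : HasPairElts hQ (Cfsg.Geo.decompositionStabilizer D ⊓ Cfsg.Geo.omegaGL ⇑Q) A B := by
    intro a b ha hb hu hab
    refine Subgroup.mem_inf.2 ⟨?_, eich_mem_omegaGL hQ (by omega) a b hu hab⟩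
    apply hstab
    · intro x hx
      rw [eich_mulVec, h.polarA ha hx, zero_smul, add_zero, mul_zero, zero_smul, sub_zero]
      exact A.sub_mem hx (A.smul_mem _ ha)
    · intro x hx
      rw [eich_mulVec, h.polarB hb hx, zero_smul, sub_zero, h.tsB b hb, zero_mul, zero_smul,
        sub_zero]
      exact B.add_mem hx (B.smul_mem _ hb)
  constructor
  · -- properness
    apply lt_of_le_of_ne inf_le_right
    intro heq
    obtain ⟨a, haA, ha0⟩ := Submodule.exists_mem_ne_zero_of_ne_bot hA0
    obtain ⟨a', ha'A, ha'⟩ : ∃ a' ∈ A, a' ∉ Submodule.span F {a} := by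
      by_contra hcon
      push Not at hcon
      have hle : A ≤ Submodule.span F {a} := hcon
      have h1 := Submodule.finrank_mono hle
      rw [finrank_span_singleton ha0] at h1
      omega
    obtain ⟨b, hbB, hab⟩ : ∃ b ∈ B, QuadraticMap.polar (⇑Q) a b ≠ 0 := by
      by_contra hcon
      push Not at hcon
      exact ha0 (h.pairing hQ haA hcon)
    have haa' : QuadraticMap.polar (⇑Q) a a' = 0 := h.polarA haA ha'A
    have hE := eich_mem_omegaGL hQ (by omega) a a' (h.tsA a haA) haa'
    rw [← heq] at hE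
    obtain ⟨σ, hσ⟩ := (Subgroup.mem_inf.1 hE).1
    have hfix : ∀ x ∈ A, ((eich hQ a a' (h.tsA a haA) haa' : Matrix.GeneralLinearGroup ι F) :
        Matrix ι ι F) *ᵥ x = x := by
      intro x hx
      rw [eich_mulVec, h.polarA haA hx, h.polarA ha'A hx]
      simp
    have h0 : D (σ 0) = D 0 := by
      rw [← hσ 0, ← hA]
      apply le_antisymm
      · rintro _ ⟨x, hx, rfl⟩
        rw [Matrix.toLin'_apply, hfix x hx]
        exact hx
      · intro x hx
        exact ⟨x, hx, by rw [Matrix.toLin'_apply, hfix x hx]⟩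
    have hσ0 : σ 0 = 0 := by
      by_contra hne
      have : σ 0 = 1 := by
        have : ∀ j : Fin 2, j ≠ 0 → j = 1 := by decide
        exact this _ hne
      rw [this, ← hA, ← hB] at h0
      exact hAB h0.symm
    have hσ1 : σ 1 = 1 := by
      by_contra hne
      have h1 : σ 1 = 0 := by
        have : ∀ j : Fin 2, j ≠ 1 → j = 0 := by decide
        exact this _ hne
      have := σ.injective (h1.trans hσ0.symm)
      exact absurd this (by decide)
    have hEb : ((eich hQ a a' (h.tsA a haA) haa' : Matrix.GeneralLinearGroup ι F) :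
        Matrix ι ι F) *ᵥ b ∈ B := by
      have h1 := hσ 1
      rw [hσ1, ← hB] at h1
      have hmem : ((eich hQ a a' (h.tsA a haA) haa' : Matrix.GeneralLinearGroup ι F) :
          Matrix ι ι F) *ᵥ b ∈ B.map (Matrix.toLin'
            ((eich hQ a a' (h.tsA a haA) haa' : Matrix.GeneralLinearGroup ι F) :
              Matrix ι ι F)) := ⟨b, hbB, by rw [Matrix.toLin'_apply]⟩
      rw [h1] at hmem
      exact hmem
    rw [eich_mulVec, h.tsA a' ha'A, zero_mul, zero_smul, sub_zero] at hEb
    have h2 : QuadraticMap.polar (⇑Q) a b • a' - QuadraticMap.polar (⇑Q) a' b • a ∈ B := by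
      have := B.sub_mem hEb hbB
      have e : b + QuadraticMap.polar (⇑Q) a b • a' - QuadraticMap.polar (⇑Q) a' b • a - b =
          QuadraticMap.polar (⇑Q) a b • a' - QuadraticMap.polar (⇑Q) a' b • a := by abel
      rwa [e] at this
    have h3 : QuadraticMap.polar (⇑Q) a b • a' - QuadraticMap.polar (⇑Q) a' b • a ∈ A :=
      A.sub_mem (A.smul_mem _ ha'A) (A.smul_mem _ haA)
    have h4 := h.disj hQ h3 h2
    apply ha'
    have h5 : a' = ((QuadraticMap.polar (⇑Q) a b)⁻¹ * QuadraticMap.polar (⇑Q) a' b) • a := by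
      have h6 : QuadraticMap.polar (⇑Q) a b • a' = QuadraticMap.polar (⇑Q) a' b • a :=
        sub_eq_zero.1 h4
      rw [← smul_smul, ← h6, smul_smul, inv_mul_cancel₀ hab, one_smul]
    rw [h5]
    exact Submodule.smul_mem _ _ (Submodule.subset_span rfl)
  · intro M hHM hMK
    by_cases hMH : M ≤ Cfsg.Geo.decompositionStabilizer D ⊓ Cfsg.Geo.omegaGL ⇑Q
    · left
      exact le_antisymm hMH hHM
    · right
      apply le_antisymm hMK
      rw [SetLike.not_le_iff_exists] at hMH
      obtain ⟨g₀, hg₀M, hg₀H⟩ := hMH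
      obtain ⟨γ, hγ⟩ := exists_iso_of_mem_omegaGL (hMK hg₀M)
      rw [← hγ] at hg₀M hg₀H
      have hH : HasPairElts hQ M A B := fun a b ha hb hu hab => hHM (hHH a b ha hb hu hab)
      have hHs := hH.symm h
      -- a point of `A ∪ B` moved off `A ∪ B`
      have hmove : (∃ w ∈ A, ((γ : Matrix.GeneralLinearGroup ι F) : Matrix ι ι F) *ᵥ w ∉ A ∧
          ((γ : Matrix.GeneralLinearGroup ι F) : Matrix ι ι F) *ᵥ w ∉ B) ∨
          (∃ w ∈ B, ((γ : Matrix.GeneralLinearGroup ι F) : Matrix ι ι F) *ᵥ w ∉ A ∧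
          ((γ : Matrix.GeneralLinearGroup ι F) : Matrix ι ι F) *ᵥ w ∉ B) := by
        by_contra hcon
        push Not at hcon
        obtain ⟨hcA, hcB⟩ := hcon
        apply hg₀H
        refine Subgroup.mem_inf.2 ⟨?_, hMK hg₀M⟩
        have hA' : gmap γ A ≤ A ∨ gmap γ A ≤ B := by
          apply le_or_le_of_subset_union
          intro x hx
          obtain ⟨a, ha, rfl⟩ := (mem_gmap γ A x).1 hx
          by_cases h1 : ((γ : Matrix.GeneralLinearGroup ι F) : Matrix ι ι F) *ᵥ a ∈ A
          · left; exact h1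
          · right; exact hcA a ha h1
        have hB' : gmap γ B ≤ A ∨ gmap γ B ≤ B := by
          apply le_or_le_of_subset_union
          intro x hx
          obtain ⟨b, hb, rfl⟩ := (mem_gmap γ B x).1 hx
          by_cases h1 : ((γ : Matrix.GeneralLinearGroup ι F) : Matrix ι ι F) *ᵥ b ∈ A
          · left; exact h1
          · right; exact hcB b hb h1
        have hne : gmap γ A ≠ gmap γ B := by
          intro heq
          apply hAB
          exact Submodule.map_injective_of_injective (toLin_inj γ) heq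
        have eqA : ∀ X : Submodule F (ι → F), finrank F X = k → gmap γ X ≤ A → gmap γ X = A :=
          fun X hX hle => Submodule.eq_of_le_of_finrank_eq hle (by rw [finrank_gmap, hX, hAk])
        have eqB : ∀ X : Submodule F (ι → F), finrank F X = k → gmap γ X ≤ B → gmap γ X = B :=
          fun X hX hle => Submodule.eq_of_le_of_finrank_eq hle (by rw [finrank_gmap, hX, hBk])
        rcases hA' with h1 | h1 <;> rcases hB' with h2 | h2
        · exact absurd ((eqA A hAk h1).trans (eqA B hBk h2).symm) hne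
        · apply hstab
          · intro a ha
            exact h1 ((mem_gmap γ A _).2 ⟨a, ha, rfl⟩)
          · intro b hb
            exact h2 ((mem_gmap γ B _).2 ⟨b, hb, rfl⟩)
        · apply hswapmem
          · intro a ha
            exact h1 ((mem_gmap γ A _).2 ⟨a, ha, rfl⟩)
          · intro b hb
            exact h2 ((mem_gmap γ B _).2 ⟨b, hb, rfl⟩)
        · exact absurd ((eqB A hAk h1).trans (eqB B hBk h2).symm) hne
      -- a full point
      have hfull : (∃ y ∈ A, y ≠ 0 ∧ Full hQ M y) ∨ (∃ y ∈ B, y ≠ 0 ∧ Full hQ M y) := by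
        rcases hmove with ⟨w, hwA, hγwA, hγwB⟩ | ⟨w, hwB, hγwA, hγwB⟩
        · obtain ⟨z₁, hz₁, z₂, hz₂, hdec⟩ :=
            h.sum (((γ : Matrix.GeneralLinearGroup ι F) : Matrix ι ι F) *ᵥ w)
          have hz₁0 : z₁ ≠ 0 := by
            rintro rfl
            rw [zero_add] at hdec
            exact hγwB (hdec ▸ hz₂)
          have hz₂0 : z₂ ≠ 0 := by
            rintro rfl
            rw [add_zero] at hdec
            exact hγwA (hdec ▸ hz₁)
          exact h.exists_full hQ (by omega) hH γ hg₀M hwA hz₁ hz₂ hz₁0 hz₂0 hdec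
        · obtain ⟨z₁, hz₁, z₂, hz₂, hdec⟩ :=
            h.sum (((γ : Matrix.GeneralLinearGroup ι F) : Matrix ι ι F) *ᵥ w)
          have hz₁0 : z₁ ≠ 0 := by
            rintro rfl
            rw [zero_add] at hdec
            exact hγwB (hdec ▸ hz₂)
          have hz₂0 : z₂ ≠ 0 := by
            rintro rfl
            rw [add_zero] at hdec
            exact hγwA (hdec ▸ hz₁)
          exact (h.symm.exists_full hQ (by omega) hHs γ hg₀M hwB hz₂ hz₁ hz₂0 hz₁0
            (hdec.trans (add_comm _ _))).symm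
      -- the swap
      obtain ⟨s, hsT, hsA, hsB⟩ := h.exists_swap hQ (by omega) (hAk ▸ hke)
      have hsM : (s : Matrix.GeneralLinearGroup ι F) ∈ M := by
        apply hHM
        refine Subgroup.mem_inf.2 ⟨hswapmem s hsA hsB, ⟨s, ?_, rfl⟩⟩
        rw [← T_eq_Omega hQ (by omega)]
        exact hsT
      -- all points of `A` and of `B` are full
      have hboth : (∀ a ∈ A, Full hQ M a) ∧ (∀ b ∈ B, Full hQ M b) := by
        rcases hfull with ⟨y, hy, hy0, hfy⟩ | ⟨y, hy, hy0, hfy⟩
        · have hallA := h.all_full hQ (by omega) hH hy hy0 hfy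
          have hsy0 : ((s : Matrix.GeneralLinearGroup ι F) : Matrix ι ι F) *ᵥ y ≠ 0 := by
            intro h0
            apply hy0
            have := inv_mulVec_mulVec (s⁻¹) y
            rw [inv_inv] at this
            rw [← this, h0, Matrix.mulVec_zero]
          exact ⟨hallA, h.symm.all_full hQ (by omega) hHs (hsA y hy) hsy0 (full_map hQ hfy s hsM)⟩
        · have hallB := h.symm.all_full hQ (by omega) hHs hy hy0 hfy
          have hsy0 : ((s : Matrix.GeneralLinearGroup ι F) : Matrix ι ι F) *ᵥ y ≠ 0 := by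
            intro h0
            apply hy0
            have := inv_mulVec_mulVec (s⁻¹) y
            rw [inv_inv] at this
            rw [← this, h0, Matrix.mulVec_zero]
          exact ⟨h.all_full hQ (by omega) hH (hsB y hy) hsy0 (full_map hQ hfy s hsM), hallB⟩
      obtain ⟨a, haA, ha0⟩ := Submodule.exists_mem_ne_zero_of_ne_bot hA0
      obtain ⟨b, hbB, hab⟩ : ∃ b ∈ B, QuadraticMap.polar (⇑Q) a b ≠ 0 := by
        by_contra hcon
        push Not at hcon
        exact ha0 (h.pairing hQ haA hcon)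
      apply omegaGL_le_of_full hQ (by omega)
      intro x hx
      exact full_all hQ (hboth.1 a haA) (hboth.2 b hbB) (h.tsA a haA) (h.tsB b hbB) hab x hx

end Cfsg.Agent.H9Orth
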