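import Mathlib
import Cfsg.Prelude
import Cfsg.Agent.Lib.Helper9.OrthPar1
import Cfsg.Agent.Lib.Helper9.OrthMax5

set_option autoImplicit false
set_option maxHeartbeats 800000

/-! The stabiliser of a submaximal totally singular subspace of a plus-type form is not
maximal in `Ω`. -/

namespace Cfsg.Agent.H9Orth

open Matrix Module Cfsg.Agent.Lib.Helper2.MaxTS2 Cfsg.Agent.Lib.Helper2.ReflGen
  Cfsg.Agent.Lib.Helper2.CDG Cfsg.Agent.Lib.Helper2.LongRoot

variable {F : Type*} [Field F] {ι : Type} [Fintype ι] [DecidableEq ι]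
variable {Q : QuadraticForm F (ι → F)}

/-- a vector orthogonal to `x` but not to `w`, for `w` outside the line of `x` -/
theorem exists_perp_not_perp (hQ : (QuadraticMap.polarBilin Q).Nondegenerate) (x w : ι → F)
    (hw : w ∉ Submodule.span F {x}) :
    ∃ b : ι → F, QuadraticMap.polar (⇑Q) x b = 0 ∧ QuadraticMap.polar (⇑Q) w b ≠ 0 := by
  by_contra hcon
  push Not at hcon
  have hle : Submodule.span F {x} ≤ Submodule.span F {x, w} :=
    Submodule.span_mono (by simp)
  have h1 : perp Q (Submodule.span F {x}) ≤ perp Q (Submodule.span F {x, w}) := by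
    intro b hb
    have hxb : QuadraticMap.polar (⇑Q) x b = 0 := hb x (Submodule.subset_span rfl)
    have hwb := hcon b hxb
    intro y hy
    rw [Submodule.mem_span_pair] at hy
    obtain ⟨s, t, rfl⟩ := hy
    show QuadraticMap.polar (⇑Q) (s • x + t • w) b = 0
    rw [QuadraticMap.polar_add_left, QuadraticMap.polar_smul_left, QuadraticMap.polar_smul_left,
      hxb, hwb, smul_zero, smul_zero, add_zero]
  have h2 := Submodule.finrank_mono h1
  rw [LinearMap.BilinForm.finrank_orthogonal hQ, LinearMap.BilinForm.finrank_orthogonal hQ] at h2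
  have h3 : finrank F ↥(Submodule.span F {x, w}) ≤ finrank F (ι → F) := Submodule.finrank_le _
  have h4 := Submodule.finrank_mono hle
  have h5 : Submodule.span F {x} = Submodule.span F {x, w} :=
    Submodule.eq_of_le_of_finrank_eq hle (by omega)
  apply hw
  rw [h5]
  exact Submodule.subset_span (by simp)

/-- **The stabiliser of a submaximal totally singular subspace is not maximal** (plus type). -/
theorem submax_ts_not_maximal [Fintype F] (hQ : (QuadraticMap.polarBilin Q).Nondegenerate)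
    (hn : 13 ≤ Fintype.card ι) {m : ℕ} (hV : Fintype.card ι = 2 * m)
    (hplus : Cfsg.Geo.IsPlusTypeOn (⇑Q) ⊤) (W : Submodule F (ι → F))
    (hW : Cfsg.Geo.IsTotallySingularQuad (⇑Q) W) (hdim : finrank F W + 1 = m) :
    ∃ K : Subgroup (Matrix.GeneralLinearGroup ι F),
      Cfsg.Geo.subspaceStabilizer W ⊓ Cfsg.Geo.omegaGL ⇑Q < K ∧ K < Cfsg.Geo.omegaGL ⇑Q := by
  have : Finite F := Finite.of_fintype F
  have hV' : finrank F (ι → F) = 2 * m := by rw [Module.finrank_fintype_fun_eq_card, hV]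
  obtain ⟨T, -, hT, hTdim⟩ := hplus
  rw [finrank_top, hV'] at hTdim
  have hTm : finrank F T = m := by omega
  have hWts : IsTS Q W := hW
  have hTts : IsTS Q T := hT
  -- a singular vector orthogonal to `W` outside `W`
  obtain ⟨x, hxT, hxW, hxnW⟩ : ∃ x ∈ T, x ∈ perp Q W ∧ x ∉ W := by
    have h1 := finrank_inf_orthogonal hQ hV' hTts hTm W
    by_contra hcon
    push Not at hcon
    have hle : T ⊓ perp Q W ≤ T ⊓ W := by
      intro y hy
      exact ⟨hy.1, hcon y hy.1 hy.2⟩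
    have h2 := Submodule.finrank_mono hle
    omega
  have hxQ : Q x = 0 := hT x hxT
  have hx0 : x ≠ 0 := by
    rintro rfl
    exact hxnW W.zero_mem
  have hWx : ∀ w ∈ W, QuadraticMap.polar (⇑Q) w x = 0 := fun w hw => hxW w hw
  obtain ⟨U₁, hU₁⟩ : ∃ U₁, U₁ = W ⊔ Submodule.span F {x} := ⟨_, rfl⟩
  have hWU : W ≤ U₁ := hU₁ ▸ le_sup_left
  have hxU : x ∈ U₁ := by
    rw [hU₁]; exact le_sup_right (a := W) (Submodule.subset_span rfl)
  have hspts : IsTS Q (Submodule.span F {x}) := by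
    intro y hy
    obtain ⟨c, rfl⟩ := Submodule.mem_span_singleton.1 hy
    rw [QuadraticMap.map_smul, hxQ, smul_zero]
  have hU₁ts : IsTS Q U₁ := by
    rw [hU₁]
    apply isTS_sup hWts hspts
    intro w hw y hy
    obtain ⟨c, rfl⟩ := Submodule.mem_span_singleton.1 hy
    show QuadraticMap.polar (⇑Q) (c • x) w = 0
    rw [QuadraticMap.polar_smul_left, QuadraticMap.polar_comm, hWx w hw, smul_zero]
  have hU₁m : finrank F U₁ = m := by
    have h2 := Submodule.finrank_sup_add_finrank_inf_eq W (Submodule.span F {x})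
    have h3 : W ⊓ Submodule.span F {x} = ⊥ := by
      rw [← disjoint_iff, Submodule.disjoint_span_singleton' hx0]
      exact hxnW
    rw [h3, finrank_bot, finrank_span_singleton hx0, ← hU₁] at h2
    omega
  have hU₁0 : U₁ ≠ ⊥ := by
    intro h0
    rw [h0, finrank_bot] at hU₁m
    omega
  have hmax := ts_stab_maximal' hQ (by omega) U₁ hU₁0 hU₁ts (Or.inr (fun U hU hle => by
    have := ts_finrank_le hQ U hU
    omega))
  refine ⟨Cfsg.Geo.subspaceStabilizer U₁ ⊓ Cfsg.Geo.omegaGL ⇑Q, ?_, hmax.1⟩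
  -- the stabiliser of `W` stabilises `U₁`
  have hle : Cfsg.Geo.subspaceStabilizer W ⊓ Cfsg.Geo.omegaGL ⇑Q ≤
      Cfsg.Geo.subspaceStabilizer U₁ ⊓ Cfsg.Geo.omegaGL ⇑Q := by
    intro g hg
    obtain ⟨hgW, hgΩ⟩ := Subgroup.mem_inf.1 hg
    refine Subgroup.mem_inf.2 ⟨?_, hgΩ⟩
    obtain ⟨γ, hγΩ, rfl⟩ := hgΩ
    have hpar := omega_parity hQ hV U₁ hU₁ts hU₁m γ hγΩ
    have hWg : W ≤ gmap γ U₁ := by
      intro w hw
      rw [mem_gmap]
      refine ⟨(((γ⁻¹ : ↥(Cfsg.isometryGroup F ⇑Q)) : Matrix.GeneralLinearGroup ι F) :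
        Matrix ι ι F) *ᵥ w, hWU ?_, inv_mulVec_mulVec γ w⟩
      apply (hgW _).2
      show ((γ : Matrix.GeneralLinearGroup ι F) : Matrix ι ι F) *ᵥ _ ∈ W
      rw [inv_mulVec_mulVec]
      exact hw
    have h1 : finrank F W ≤ finrank F ↥(U₁ ⊓ gmap γ U₁) :=
      Submodule.finrank_mono (le_inf hWU hWg)
    have h2 : finrank F ↥(U₁ ⊓ gmap γ U₁) ≤ finrank F U₁ := Submodule.finrank_mono inf_le_left
    have h3 : finrank F ↥(U₁ ⊓ gmap γ U₁) = m := by
      rcases hpar with ⟨r, hr⟩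
      omega
    have h4 : U₁ ⊓ gmap γ U₁ = U₁ :=
      Submodule.eq_of_le_of_finrank_eq inf_le_left (by rw [h3, hU₁m])
    have h5 : U₁ ≤ gmap γ U₁ := inf_eq_left.1 h4
    have h6 : U₁ = gmap γ U₁ :=
      Submodule.eq_of_le_of_finrank_eq h5 (by rw [finrank_gmap])
    apply mem_subspaceStabilizer_of_mapsTo
    intro u hu
    rw [h6, mem_gmap]
    exact ⟨u, hu, rfl⟩
  apply lt_of_le_of_ne hle
  intro heq
  -- an Eichler transformation stabilising `U₁` but not `W`
  have hW0 : W ≠ ⊥ := by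
    intro h0
    rw [h0, finrank_bot] at hdim
    omega
  obtain ⟨w, hwW, hw0⟩ := Submodule.exists_mem_ne_zero_of_ne_bot hW0
  have hwx : w ∉ Submodule.span F {x} := by
    intro hmem
    obtain ⟨c, hc⟩ := Submodule.mem_span_singleton.1 hmem
    have hc0 : c ≠ 0 := by
      rintro rfl
      rw [zero_smul] at hc
      exact hw0 hc.symm
    apply hxnW
    have : x = c⁻¹ • w := by rw [← hc, smul_smul, inv_mul_cancel₀ hc0, one_smul]
    rw [this]
    exact W.smul_mem _ hwW
  obtain ⟨b, hxb, hwb⟩ := exists_perp_not_perp hQ x w hwx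
  have hE : ((eich hQ x b hxQ hxb : ↥(Cfsg.isometryGroup F ⇑Q)) :
      Matrix.GeneralLinearGroup ι F) ∈
      Cfsg.Geo.subspaceStabilizer U₁ ⊓ Cfsg.Geo.omegaGL ⇑Q := by
    refine Subgroup.mem_inf.2 ⟨?_, eich_mem_omegaGL hQ (by omega) x b hxQ hxb⟩
    apply mem_subspaceStabilizer_of_mapsTo
    intro y hy
    rw [eich_mulVec, polar_eq_zero_of_isTS hU₁ts hxU hy, zero_smul, add_zero, mul_zero,
      zero_smul, sub_zero]
    exact U₁.sub_mem hy (U₁.smul_mem _ hxU)
  rw [← heq] at hE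
  have hEw := ((Subgroup.mem_inf.1 hE).1 w).1 hwW
  have hEw' : ((eich hQ x b hxQ hxb : Matrix.GeneralLinearGroup ι F) : Matrix ι ι F) *ᵥ w ∈ W :=
    hEw
  rw [eich_mulVec, QuadraticMap.polar_comm (⇑Q) x w, hWx w hwW, zero_smul, add_zero, mul_zero,
    zero_smul, sub_zero] at hEw'
  have h7 : QuadraticMap.polar (⇑Q) b w • x ∈ W := by
    have := W.sub_mem hwW hEw'
    rwa [sub_sub_cancel] at this
  have hbw : QuadraticMap.polar (⇑Q) b w ≠ 0 := by
    rw [QuadraticMap.polar_comm]; exact hwb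
  apply hxnW
  have := W.smul_mem (QuadraticMap.polar (⇑Q) b w)⁻¹ h7
  rwa [smul_smul, inv_mul_cancel₀ hbw, one_smul] at this

end Cfsg.Agent.H9Orth
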