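import Mathlib
import Cfsg.Prelude
import Cfsg.Agent.Lib.Lead.ExtraModel4
import Cfsg.Agent.Lib.Helper9.OutEx1

set_option autoImplicit false

/-!
# Automorphisms of the model extraspecial 2-group: the action on the quotient by the centre
-/

namespace Cfsg.Agent.H9Out

open Cfsg Cfsg.Agent.Lib.Lead.Extra

variable {n : ℕ} {ε : ZMod 2}

theorem MG_mk_zero_c (c : ZMod 2) : (⟨0, c⟩ : MG n ε) = 1 ∨ (⟨0, c⟩ : MG n ε) = MG.zz :=
  MG.eq_one_or_zz _ rfl

theorem aut_zz (α : MulAut (MG n ε)) : α MG.zz = MG.zz := by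
  have h1 : α MG.zz ∈ Subgroup.center (MG n ε) := by
    rw [Subgroup.mem_center_iff]
    intro g
    have h2 := Subgroup.mem_center_iff.mp (MG.zz_central (n := n) (ε := ε)) (α.symm g)
    have h3 := congrArg α h2
    rw [map_mul, map_mul, MulEquiv.apply_symm_apply] at h3
    exact h3
  rcases (MG.isES (n := n) (ε := ε)).cen _ h1 with h | h
  · exfalso
    have : α MG.zz = α 1 := by rw [h, map_one]
    exact (MG.isES (n := n) (ε := ε)).z_ne (α.injective this)
  · exact h

theorem aut_mk_zero (α : MulAut (MG n ε)) (c : ZMod 2) : α ⟨0, c⟩ = ⟨0, c⟩ := by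
  rcases MG_mk_zero_c (n := n) (ε := ε) c with h | h
  · rw [h, map_one]
  · rw [h, aut_zz]

theorem MG_split (g : MG n ε) : g = ⟨g.v, 0⟩ * ⟨0, g.c⟩ := by
  ext1
  · simp
  · simp [bet_zero_right]

/-- the induced map on the quotient by the centre -/
def bar (α : MulAut (MG n ε)) (x : V2 n) : V2 n := (α ⟨x, 0⟩).v

theorem aut_v (α : MulAut (MG n ε)) (g : MG n ε) : (α g).v = bar α g.v := by
  conv_lhs => rw [MG_split g, map_mul, aut_mk_zero]
  simp [bar]

theorem bar_add (α : MulAut (MG n ε)) (x y : V2 n) : bar α (x + y) = bar α x + bar α y := by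
  have h1 : ((⟨x, 0⟩ : MG n ε) * ⟨y, 0⟩).v = x + y := rfl
  have h2 := aut_v α ((⟨x, 0⟩ : MG n ε) * ⟨y, 0⟩)
  rw [h1, map_mul, MG.mul_v] at h2
  rw [← h2]
  rfl

theorem bar_mul (α β : MulAut (MG n ε)) (x : V2 n) : bar (α * β) x = bar α (bar β x) := by
  show (α (β ⟨x, 0⟩)).v = _
  rw [aut_v]
  rfl

theorem bar_one (x : V2 n) : bar (1 : MulAut (MG n ε)) x = x := rfl

theorem bar_q (α : MulAut (MG n ε)) (x : V2 n) : bet ε (bar α x) (bar α x) = bet ε x x := by
  have h1 : ((⟨x, 0⟩ : MG n ε)) ^ 2 = ⟨0, bet ε x x⟩ := by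
    ext1
    · exact MG.sq_v _
    · exact MG.sq_c _
  have h2 := congrArg α h1
  rw [map_pow, aut_mk_zero] at h2
  have h3 := congrArg MG.c h2
  rw [MG.sq_c] at h3
  exact h3

/-- the induced additive map -/
def barAdd (α : MulAut (MG n ε)) : V2 n →+ V2 n := AddMonoidHom.mk' (bar α) (bar_add α)

/-- the induced linear equivalence -/
def barLin (α : MulAut (MG n ε)) : V2 n ≃ₗ[ZMod 2] V2 n :=
  LinearEquiv.ofLinear ((barAdd α).toZModLinearMap 2) ((barAdd α⁻¹).toZModLinearMap 2)
    (by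
      apply LinearMap.ext
      intro x
      show bar α (bar α⁻¹ x) = x
      rw [← bar_mul, mul_inv_cancel, bar_one])
    (by
      apply LinearMap.ext
      intro x
      show bar α⁻¹ (bar α x) = x
      rw [← bar_mul, inv_mul_cancel, bar_one])

theorem barLin_apply (α : MulAut (MG n ε)) (x : V2 n) : barLin α x = bar α x := rfl

/-- the homomorphism from the automorphism group to the linear group of the central quotient -/
def Theta (n : ℕ) (ε : ZMod 2) : MulAut (MG n ε) →* (V2 n ≃ₗ[ZMod 2] V2 n) where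
  toFun := barLin
  map_one' := by
    apply LinearEquiv.ext
    intro x
    rfl
  map_mul' := by
    intro α β
    apply LinearEquiv.ext
    intro x
    show bar (α * β) x = bar α (bar β x)
    exact bar_mul α β x

theorem Theta_apply (α : MulAut (MG n ε)) (x : V2 n) : Theta n ε α x = bar α x := rfl

/-- the subgroup of linear equivalences preserving the quadratic form `x ↦ bet ε x x` -/
def Oq (n : ℕ) (ε : ZMod 2) : Subgroup (V2 n ≃ₗ[ZMod 2] V2 n) where
  carrier := {T | ∀ x, bet ε (T x) (T x) = bet ε x x}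
  one_mem' := fun x => rfl
  mul_mem' := by
    intro S T hS hT x
    show bet ε (S (T x)) (S (T x)) = _
    rw [hS, hT]
  inv_mem' := by
    intro T hT x
    have := hT (T⁻¹ x)
    have h2 : T (T⁻¹ x) = x := T.apply_symm_apply x
    rw [h2] at this
    exact this.symm

theorem mem_Oq (T : V2 n ≃ₗ[ZMod 2] V2 n) : T ∈ Oq n ε ↔ ∀ x, bet ε (T x) (T x) = bet ε x x :=
  Iff.rfl

theorem Theta_mem_Oq (α : MulAut (MG n ε)) : Theta n ε α ∈ Oq n ε := fun x => bar_q α x

/-- the symmetrised form -/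
theorem bet_symm_e1 (w : V2 n) (i : Fin n) :
    bet ε w (MG.e1 i) + bet ε (MG.e1 i) w = (w i).2 := by
  rw [MG.bet_e1_right, MG.bet_e1_left, add_assoc, z2_add_self, add_zero]

theorem bet_symm_e2 (w : V2 n) (i : Fin n) :
    bet ε w (MG.e2 i) + bet ε (MG.e2 i) w = (w i).1 := by
  rw [MG.bet_e2_right, MG.bet_e2_left]
  have : wt n ε i * (w i).2 + ((w i).1 + wt n ε i * (w i).2) =
      (w i).1 + (wt n ε i * (w i).2 + wt n ε i * (w i).2) := by ring
  rw [this, z2_add_self, add_zero]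

end Cfsg.Agent.H9Out
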