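import Mathlib
import Cfsg.Prelude
import Cfsg.Agent.Lib.Helper9.OutEx2

set_option autoImplicit false

/-!
# Automorphisms of the model extraspecial 2-group: the kernel is the inner automorphisms
-/

namespace Cfsg.Agent.H9Out

open Cfsg Cfsg.Agent.Lib.Lead.Extra

variable {n : ℕ} {ε : ZMod 2}

/-- additive functions on `V2 n` agreeing on the basis vectors are equal -/
theorem addHom_ext_basis (f g : V2 n →+ ZMod 2) (h1 : ∀ i, f (MG.e1 i) = g (MG.e1 i))
    (h2 : ∀ i, f (MG.e2 i) = g (MG.e2 i)) : f = g := by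
  apply AddMonoidHom.functions_ext
  intro i x
  obtain ⟨a, b⟩ := x
  have hsplit : (Pi.single i (a, b) : V2 n) = Pi.single i (a, 0) + Pi.single i (0, b) := by
    rw [← Pi.single_add]
    simp
  rw [hsplit, map_add, map_add]
  congr 1
  · rcases z2_cases a with h | h
    · subst h
      have : (Pi.single i ((0 : ZMod 2), (0 : ZMod 2)) : V2 n) = 0 := by
        rw [Prod.mk_zero_zero, Pi.single_zero]
      rw [this, map_zero, map_zero]
    · subst h
      exact h1 i
  · rcases z2_cases b with h | h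
    · subst h
      have : (Pi.single i ((0 : ZMod 2), (0 : ZMod 2)) : V2 n) = 0 := by
        rw [Prod.mk_zero_zero, Pi.single_zero]
      rw [this, map_zero, map_zero]
    · subst h
      exact h2 i

/-- conjugation in the model group -/
theorem conj_mk (w : V2 n) (h : MG n ε) :
    (⟨w, 0⟩ : MG n ε) * h * (⟨w, 0⟩ : MG n ε)⁻¹ = ⟨h.v, h.c + (bet ε w h.v + bet ε h.v w)⟩ := by
  ext1
  · simp only [MG.mul_v, MG.inv_v]
    have : w + h.v + w = h.v + (w + w) := by abel
    rw [this, v2_add_self, add_zero]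
  · simp only [MG.mul_c, MG.mul_v, MG.inv_c, MG.inv_v, bet_add_left]
    have : 0 + h.c + bet ε w h.v + (0 + bet ε w w) + (bet ε w w + bet ε h.v w) =
        h.c + (bet ε w h.v + bet ε h.v w) + (bet ε w w + bet ε w w) := by ring
    rw [this, z2_add_self, add_zero]

theorem inner_bar (g : MG n ε) (x : V2 n) : bar (MulAut.conj g) x = x := by
  show (g * ⟨x, 0⟩ * g⁻¹).v = x
  simp only [MG.mul_v, MG.inv_v]
  have : g.v + x + g.v = x + (g.v + g.v) := by abel
  rw [this, v2_add_self, add_zero]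

theorem Inn_le_ker : Cfsg.Inn (MG n ε) ≤ (Theta n ε).ker := by
  rintro α ⟨g, rfl⟩
  rw [MonoidHom.mem_ker]
  apply LinearEquiv.ext
  intro x
  exact inner_bar g x

theorem ker_le_Inn : (Theta n ε).ker ≤ Cfsg.Inn (MG n ε) := by
  intro α hα
  rw [MonoidHom.mem_ker] at hα
  have hbar : ∀ x, bar α x = x := by
    intro x
    have h1 : Theta n ε α x = x := by rw [hα]; rfl
    exact h1
  obtain ⟨f, hf⟩ : ∃ f : V2 n → ZMod 2, ∀ x, f x = (α ⟨x, 0⟩).c := ⟨_, fun _ => rfl⟩
  have hα1 : ∀ x, α ⟨x, 0⟩ = ⟨x, f x⟩ := by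
    intro x
    ext1
    · exact hbar x
    · exact (hf x).symm
  have hαg : ∀ g : MG n ε, α g = ⟨g.v, g.c + f g.v⟩ := by
    intro g
    conv_lhs => rw [MG_split g, map_mul, aut_mk_zero, hα1]
    ext1
    · simp
    · simp only [MG.mul_c, bet_zero_right, add_zero]
      exact add_comm _ _
  have hfadd : ∀ x y, f (x + y) = f x + f y := by
    intro x y
    have h1 : (⟨x, 0⟩ : MG n ε) * ⟨y, 0⟩ = ⟨x + y, bet ε x y⟩ := by
      ext1
      · simp
      · simp
    have h2 := congrArg α h1
    rw [map_mul, hα1, hα1, hαg] at h2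
    have h3 := congrArg MG.c h2
    simp only [MG.mul_c] at h3
    have h4 : bet ε x y + (f x + f y) = bet ε x y + f (x + y) := by
      rw [← h3]; ring
    exact (add_left_cancel h4).symm
  let w : V2 n := fun i => (f (MG.e2 i), f (MG.e1 i))
  have hB : ∀ x, bet ε w x + bet ε x w = f x := by
    let F : V2 n →+ ZMod 2 := AddMonoidHom.mk' f hfadd
    let B : V2 n →+ ZMod 2 := AddMonoidHom.mk' (fun x => bet ε w x + bet ε x w) (by
      intro x y
      rw [bet_add_left, bet_add_right]; ring)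
    have hFB : B = F := by
      apply addHom_ext_basis
      · intro i
        show bet ε w (MG.e1 i) + bet ε (MG.e1 i) w = f (MG.e1 i)
        rw [bet_symm_e1]
      · intro i
        show bet ε w (MG.e2 i) + bet ε (MG.e2 i) w = f (MG.e2 i)
        rw [bet_symm_e2]
    intro x
    have := congrArg (fun φ : V2 n →+ ZMod 2 => φ x) hFB
    exact this
  refine ⟨⟨w, 0⟩, ?_⟩
  ext h : 1
  rw [MulAut.conj_apply, conj_mk, hαg, hB]

theorem ker_Theta : (Theta n ε).ker = Cfsg.Inn (MG n ε) := le_antisymm ker_le_Inn Inn_le_ker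

end Cfsg.Agent.H9Out
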