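import Mathlib
import Cfsg.Prelude
import Cfsg.Agent.Lib.Helper9.OutEx3

set_option autoImplicit false

/-!
# Automorphisms of the model extraspecial 2-group: every isometry lifts
-/

namespace Cfsg.Agent.H9Out

open Cfsg Cfsg.Agent.Lib.Lead.Extra

variable {n : ℕ} {ε : ZMod 2}

/-- coordinates (plus type) -/
def cP (n : ℕ) : V2 n ≃ₗ[ZMod 2] (Fin n ⊕ Fin n → ZMod 2) where
  toFun x := Sum.elim (fun i => (x i).2) (fun i => (x i).1)
  invFun u := fun i => (u (Sum.inr i), u (Sum.inl i))
  map_add' := by
    intro x y
    funext j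
    rcases j with j | j <;> rfl
  map_smul' := by
    intro a x
    funext j
    rcases j with j | j <;> rfl
  left_inv := by
    intro x
    funext i
    rfl
  right_inv := by
    intro u
    funext j
    rcases j with j | j <;> rfl

theorem cP_inl (x : V2 n) (i : Fin n) : cP n x (Sum.inl i) = (x i).2 := rfl
theorem cP_inr (x : V2 n) (i : Fin n) : cP n x (Sum.inr i) = (x i).1 := rfl

/-- quadratic refinement on `V2 n` -/
theorem exists_quadratic_V2 (γ : V2 n → V2 n → ZMod 2)
    (hl : ∀ x x' y, γ (x + x') y = γ x y + γ x' y)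
    (hr : ∀ x y y', γ x (y + y') = γ x y + γ x y')
    (halt : ∀ x, γ x x = 0) :
    ∃ f : V2 n → ZMod 2, ∀ x y, f (x + y) = f x + f y + γ x y := by
  obtain ⟨f', hf'⟩ := exists_quadratic_of_alternating
    (fun u v => γ ((cP n).symm u) ((cP n).symm v))
    (by intro x x' y; simp only [map_add]; exact hl _ _ _)
    (by intro x y y'; simp only [map_add]; exact hr _ _ _)
    (by intro x; exact halt _)
  refine ⟨fun x => f' (cP n x), ?_⟩
  intro x y
  show f' (cP n (x + y)) = f' (cP n x) + f' (cP n y) + γ x y
  rw [map_add, hf']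
  simp only [LinearEquiv.symm_apply_apply]

/-- every isometry lifts to an automorphism -/
theorem exists_lift (T : V2 n ≃ₗ[ZMod 2] V2 n) (hT : T ∈ Oq n ε) :
    ∃ α : MulAut (MG n ε), Theta n ε α = T := by
  rw [mem_Oq] at hT
  obtain ⟨f, hf⟩ := exists_quadratic_V2 (fun x y => bet ε (T x) (T y) + bet ε x y)
    (by
      intro x x' y
      simp only [map_add, bet_add_left]
      ring)
    (by
      intro x y y'
      simp only [map_add, bet_add_right]
      ring)
    (by
      intro x
      show bet ε (T x) (T x) + bet ε x x = 0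
      rw [hT, z2_add_self])
  let φ : MG n ε →* MG n ε := MonoidHom.mk' (fun g => ⟨T g.v, g.c + f g.v⟩) (by
    intro g h
    ext1
    · simp only [MG.mul_v, map_add]
    · simp only [MG.mul_c, MG.mul_v]
      rw [hf]
      have : bet ε g.v h.v + bet ε g.v h.v = 0 := z2_add_self _
      calc g.c + h.c + bet ε g.v h.v + (f g.v + f h.v + (bet ε (T g.v) (T h.v) + bet ε g.v h.v))
          = g.c + f g.v + (h.c + f h.v) + bet ε (T g.v) (T h.v) +
            (bet ε g.v h.v + bet ε g.v h.v) := by ring
        _ = g.c + f g.v + (h.c + f h.v) + bet ε (T g.v) (T h.v) := by rw [this, add_zero])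
  have hφ : ∀ g, φ g = ⟨T g.v, g.c + f g.v⟩ := fun g => rfl
  have hinj : Function.Injective φ := by
    intro g h hgh
    rw [hφ, hφ] at hgh
    have h1 : T g.v = T h.v := congrArg MG.v hgh
    have h2 : g.c + f g.v = h.c + f h.v := congrArg MG.c hgh
    have h3 : g.v = h.v := T.injective h1
    rw [h3] at h2
    ext1
    · exact h3
    · exact add_right_cancel h2
  have hbij : Function.Bijective φ := Finite.injective_iff_bijective.mp hinj
  refine ⟨MulEquiv.ofBijective φ hbij, ?_⟩
  apply LinearEquiv.ext
  intro x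
  rfl

theorem range_Theta : (Theta n ε).range = Oq n ε := by
  apply le_antisymm
  · rintro T ⟨α, rfl⟩
    exact Theta_mem_Oq α
  · intro T hT
    exact exists_lift T hT

/-- the outer automorphism group of the model is the isometry group of the squaring form -/
noncomputable def outModelEquiv (n : ℕ) (ε : ZMod 2) : Cfsg.Out (MG n ε) ≃* Oq n ε :=
  ((QuotientGroup.quotientMulEquivOfEq (ker_Theta (n := n) (ε := ε)).symm).trans
    (QuotientGroup.quotientKerEquivRange (Theta n ε))).trans
    (MulEquiv.subgroupCongr (range_Theta (n := n) (ε := ε)))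

end Cfsg.Agent.H9Out
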