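import Mathlib
import Cfsg.Prelude
import Cfsg.Agent.Lib.Helper9.OutEx4

set_option autoImplicit false

/-!
# From isometries of the squaring form to the matrix isometry group
-/

namespace Cfsg.Agent.H9Out

open Cfsg Cfsg.Agent.Lib.Lead.Extra

variable {n : ℕ} {ε : ZMod 2}

/-- conjugation of linear automorphisms by a linear equivalence -/
def linConj {V W : Type*} [AddCommGroup V] [AddCommGroup W] [Module (ZMod 2) V]
    [Module (ZMod 2) W] (c : V ≃ₗ[ZMod 2] W) : (V ≃ₗ[ZMod 2] V) ≃* (W ≃ₗ[ZMod 2] W) where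
  toFun T := (c.symm.trans T).trans c
  invFun S := (c.trans S).trans c.symm
  left_inv T := by
    apply LinearEquiv.ext
    intro x
    simp
  right_inv S := by
    apply LinearEquiv.ext
    intro x
    simp
  map_mul' S T := by
    apply LinearEquiv.ext
    intro x
    simp [LinearEquiv.mul_apply]

theorem linConj_symm_apply {V W : Type*} [AddCommGroup V] [AddCommGroup W] [Module (ZMod 2) V]
    [Module (ZMod 2) W] (c : V ≃ₗ[ZMod 2] W) (S : W ≃ₗ[ZMod 2] W) (x : V) :
    (linConj c).symm S x = c.symm (S (c x)) := rfl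

/-- the isomorphism from linear automorphisms to invertible matrices in given coordinates -/
noncomputable def PhiGL {ι' : Type} [Fintype ι'] [DecidableEq ι']
    (c : V2 n ≃ₗ[ZMod 2] (ι' → ZMod 2)) :
    (V2 n ≃ₗ[ZMod 2] V2 n) ≃* Matrix.GeneralLinearGroup ι' (ZMod 2) :=
  (linConj c).trans
    ((LinearMap.GeneralLinearGroup.generalLinearEquiv (ZMod 2) (ι' → ZMod 2)).symm.trans
      Matrix.GeneralLinearGroup.toLin.symm)

theorem PhiGL_symm_apply {ι' : Type} [Fintype ι'] [DecidableEq ι']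
    (c : V2 n ≃ₗ[ZMod 2] (ι' → ZMod 2)) (g : Matrix.GeneralLinearGroup ι' (ZMod 2)) (x : V2 n) :
    (PhiGL c).symm g x = c.symm ((g : Matrix ι' ι' (ZMod 2)).mulVec (c x)) := rfl

theorem map_Oq_eq {ι' : Type} [Fintype ι'] [DecidableEq ι']
    (c : V2 n ≃ₗ[ZMod 2] (ι' → ZMod 2)) (Q : (ι' → ZMod 2) → ZMod 2)
    (hQ : ∀ x, Q (c x) = bet ε x x) :
    (Oq n ε).map (PhiGL c).toMonoidHom = Cfsg.isometryGroup (ZMod 2) Q := by
  ext g
  rw [Subgroup.mem_map_equiv, mem_Oq]
  have hQ' : ∀ u, bet ε (c.symm u) (c.symm u) = Q u := by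
    intro u
    rw [← hQ, LinearEquiv.apply_symm_apply]
  constructor
  · intro h u v
    show Q ((g : Matrix ι' ι' (ZMod 2)).mulVec u) = Q u
    have h1 := h (c.symm u)
    rw [PhiGL_symm_apply, LinearEquiv.apply_symm_apply, hQ', hQ'] at h1
    exact h1
  · intro h x
    have h1 : Q ((g : Matrix ι' ι' (ZMod 2)).mulVec (c x)) = Q (c x) := h (c x) (c x)
    rw [PhiGL_symm_apply, hQ', h1, hQ]

/-- isometries of the squaring form as a matrix group -/
noncomputable def oqEquiv {ι' : Type} [Fintype ι'] [DecidableEq ι']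
    (c : V2 n ≃ₗ[ZMod 2] (ι' → ZMod 2)) (Q : (ι' → ZMod 2) → ZMod 2)
    (hQ : ∀ x, Q (c x) = bet ε x x) :
    Oq n ε ≃* Cfsg.isometryGroup (ZMod 2) Q :=
  ((PhiGL c).subgroupMap (Oq n ε)).trans (MulEquiv.subgroupCongr (map_Oq_eq c Q hQ))

theorem quadFormPlus_cP (x : V2 n) : Cfsg.quadFormPlus n (ZMod 2) (cP n x) = bet 0 x x := by
  unfold Cfsg.quadFormPlus bet
  apply Finset.sum_congr rfl
  intro i _
  rw [cP_inl, cP_inr]
  simp [wt]

/-- coordinates (minus type) -/
def cM (m : ℕ) : V2 (m + 1) ≃ₗ[ZMod 2] ((Fin m ⊕ Fin m) ⊕ Fin 2 → ZMod 2) where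
  toFun x := Sum.elim (Sum.elim (fun i => (x i.succ).2) (fun i => (x i.succ).1))
    (fun j => if j = 0 then (x 0).1 else (x 0).2)
  invFun u := Fin.cons (u (Sum.inr 0), u (Sum.inr 1))
    (fun i => (u (Sum.inl (Sum.inr i)), u (Sum.inl (Sum.inl i))))
  map_add' := by
    intro x y
    funext j
    rcases j with (j | j) | j
    · rfl
    · rfl
    · show (if j = 0 then ((x + y) 0).1 else ((x + y) 0).2) =
        (if j = 0 then (x 0).1 else (x 0).2) + (if j = 0 then (y 0).1 else (y 0).2)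
      split_ifs <;> rfl
  map_smul' := by
    intro a x
    funext j
    rcases j with (j | j) | j
    · rfl
    · rfl
    · show (if j = 0 then ((a • x) 0).1 else ((a • x) 0).2) =
        a • (if j = 0 then (x 0).1 else (x 0).2)
      split_ifs <;> rfl
  left_inv := by
    intro x
    funext i
    refine Fin.cases ?_ (fun i => ?_) i
    · rfl
    · rfl
  right_inv := by
    intro u
    funext j
    rcases j with (j | j) | j
    · rfl
    · rfl
    · fin_cases j
      · rfl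
      · rfl

theorem cM_inl_inl {m : ℕ} (x : V2 (m + 1)) (i : Fin m) :
    cM m x (Sum.inl (Sum.inl i)) = (x i.succ).2 := rfl
theorem cM_inl_inr {m : ℕ} (x : V2 (m + 1)) (i : Fin m) :
    cM m x (Sum.inl (Sum.inr i)) = (x i.succ).1 := rfl
theorem cM_inr_zero {m : ℕ} (x : V2 (m + 1)) : cM m x (Sum.inr 0) = (x 0).1 := rfl
theorem cM_inr_one {m : ℕ} (x : V2 (m + 1)) : cM m x (Sum.inr 1) = (x 0).2 := rfl

theorem quadFormMinus_cM {m : ℕ} (x : V2 (m + 1)) :
    Cfsg.quadFormMinus m (ZMod 2) 1 1 (cM m x) = bet 1 x x := by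
  unfold Cfsg.quadFormMinus bet
  rw [Fin.sum_univ_succ, cM_inr_zero, cM_inr_one]
  have h0 : wt (m + 1) 1 (0 : Fin (m + 1)) = 1 := by simp [wt]
  have hs : ∀ i : Fin m, wt (m + 1) 1 i.succ = 0 := by
    intro i
    simp [wt]
  rw [h0]
  have hsum : (∑ i : Fin m, cM m x (Sum.inl (Sum.inl i)) * cM m x (Sum.inl (Sum.inr i))) =
      ∑ i : Fin m, ((x i.succ).2 * (x i.succ).1 +
        wt (m + 1) 1 i.succ * ((x i.succ).1 * (x i.succ).1 + (x i.succ).2 * (x i.succ).2)) := by
    apply Finset.sum_congr rfl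
    intro i _
    rw [hs, cM_inl_inl, cM_inl_inr, zero_mul, add_zero]
  rw [hsum]
  ring

end Cfsg.Agent.H9Out
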