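import Mathlib
import Cfsg.Prelude
import Cfsg.Agent.Lib.Helper9.P3Class2
import Cfsg.Agent.Lib.Helper9.EssP2

set_option autoImplicit false

/-!
# Groups of order `p ^ 3` whose automizer has a strongly `p`-embedded subgroup modulo inner automorphisms
-/

namespace Cfsg.Agent.H9P3

open Cfsg
open scoped commutatorElement

variable {H : Type*} [Group H] [Finite H]

theorem aut_p3 (p : ℕ) [Fact p.Prime] (hcard : Nat.card H = p ^ 3)
    (A : Subgroup (MulAut H)) (hN : ((Inn H).subgroupOf A).Normal)
    (E : Subgroup (A ⧸ (Inn H).subgroupOf A)) (hE : IsStronglyPEmbedded p E) :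
    ((∀ a b : H, a * b = b * a) ∧ ∀ a : H, a ^ p = 1) ∨
      (Odd p ∧ Cfsg.IsExtraspecial p H ∧ ∀ x : H, x ^ p = 1) ∨
      (p = 2 ∧ Nonempty (H ≃* QuaternionGroup 2)) := by
  have hpp : p.Prime := Fact.out
  have hH : IsPGroup p H := IsPGroup.of_card hcard
  haveI : Finite (MulAut H) :=
    Finite.of_injective (fun f : MulAut H => (f : H → H)) DFunLike.coe_injective
  have hncyc : ¬ IsCyclic H := by
    intro hc
    haveI := hN
    refine H9CS.contra_of_comm p ?_ ((Inn H).subgroupOf A) (H9CS.inn_isPGroup p hH A) E hE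
    intro a b
    apply Subtype.ext
    exact H9EP2.comm_of_cyclic (a : MulAut H) (b : MulAut H)
  have hsq := pow_sq_of_not_cyclic p hcard hncyc
  by_cases hab : ∀ a b : H, a * b = b * a
  · by_cases hexp : ∀ a : H, a ^ p = 1
    · left
      exact ⟨hab, hexp⟩
    · exfalso
      push Not at hexp
      have hmul : ∀ x y : H, (x * y) ^ p = x ^ p * y ^ p := by
        intro x y
        exact (Commute.mul_pow (hab x y) p)
      exact contra_of_powHom p hcard hmul hsq hexp A hN E hE
  · right
    obtain ⟨hZ, hc, hpow⟩ := nonab_center p hcard hab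
    by_cases hp2 : p = 2
    · right
      subst hp2
      exact ⟨rfl, two_case hcard hab A hN E hE⟩
    · by_cases hexp : ∀ a : H, a ^ p = 1
      · left
        exact ⟨hpp.odd_of_ne_two hp2, isExtraspecial_of_nonab p hcard hab, hexp⟩
      · exfalso
        push Not at hexp
        have hmul : ∀ x y : H, (x * y) ^ p = x ^ p * y ^ p :=
          Cfsg.Agent.Lib.Lead.mul_pow_of_class_two_odd hp2 hc hpow
        exact contra_of_powHom p hcard hmul hsq hexp A hN E hE

end Cfsg.Agent.H9P3
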