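import Mathlib
import Cfsg.Prelude
import Cfsg.Agent.Lib.Helper9.ChainStab3
import Cfsg.Agent.Lib.Lead.Frattini
import Cfsg.Agent.Lib.Lead.Frattini2
import Cfsg.Agent.Lib.Lead.QuatRecog
import Cfsg.Agent.Lib.Lead.ExtraspecialCentral

set_option autoImplicit false

/-!
# Groups of order `p ^ 4`: basic tools
-/

namespace Cfsg.Agent.H9P4

open Cfsg
open scoped commutatorElement

variable {H : Type*} [Group H]

theorem card_sub [Finite H] (p : ℕ) [Fact p.Prime] (hcard : Nat.card H = p ^ 4) (K : Subgroup H) :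
    ∃ k, k ≤ 4 ∧ Nat.card K = p ^ k ∧ K.index = p ^ (4 - k) := by
  have hpp : p.Prime := Fact.out
  have hdvd : Nat.card K ∣ p ^ 4 := hcard ▸ Subgroup.card_subgroup_dvd_card K
  obtain ⟨k, hk, hk'⟩ := (Nat.dvd_prime_pow hpp).mp hdvd
  refine ⟨k, hk, hk', ?_⟩
  have h := Subgroup.card_mul_index K
  rw [hk', hcard] at h
  have h2 : p ^ k * K.index = p ^ k * p ^ (4 - k) := by
    rw [h, ← pow_add]; congr 1; omega
  exact Nat.eq_of_mul_eq_mul_left (pow_pos hpp.pos k) h2

/-- the chain `Φ(H) ≤ K₁ ≤ K₂ ≤ H` -/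
def chain3F (K₁ K₂ : Subgroup H) : ℕ → Subgroup H
  | 0 => frattini H
  | 1 => K₁
  | 2 => K₂
  | _ => ⊤

theorem chain3F_contra [Finite H] (p : ℕ) [Fact p.Prime] (hH : IsPGroup p H)
    (A : Subgroup (MulAut H)) (hN : ((Inn H).subgroupOf A).Normal)
    (E : Subgroup (A ⧸ (Inn H).subgroupOf A)) (hE : IsStronglyPEmbedded p E)
    (K₁ K₂ : Subgroup H) (hchar₁ : ∀ α : MulAut H, ∀ h ∈ K₁, α h ∈ K₁)
    (hchar₂ : ∀ α : MulAut H, ∀ h ∈ K₂, α h ∈ K₂)
    (hc1 : (frattini H).relIndex K₁ ∣ p) (hc2 : K₁.relIndex K₂ ∣ p) (hc3 : K₂.index ∣ p) :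
    False := by
  refine H9CS.chain_contra_frattini p hH A ((Inn H).subgroupOf A) (H9CS.inn_isPGroup p hH A) E hE
    (chain3F K₁ K₂) ?_ rfl 3 rfl ?_
  · intro i α h hh
    rcases i with _ | _ | _ | i
    · exact H9CS.map_mem_frattini α hh
    · exact hchar₁ α h hh
    · exact hchar₂ α h hh
    · exact Subgroup.mem_top _
  · intro i
    rcases i with _ | _ | _ | i
    · exact hc1
    · exact hc2
    · show K₂.relIndex ⊤ ∣ p
      rw [Subgroup.relIndex_top_right]
      exact hc3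
    · show (⊤ : Subgroup H).relIndex ⊤ ∣ p
      rw [Subgroup.relIndex_top_right, Subgroup.index_top]
      exact one_dvd p

theorem map_mem_center (α : MulAut H) {z : H} (hz : z ∈ Subgroup.center H) :
    α z ∈ Subgroup.center H := by
  rw [Subgroup.mem_center_iff] at hz ⊢
  intro g
  have h1 := hz (α.symm g)
  have h2 := congrArg α h1
  rw [map_mul, map_mul, MulEquiv.apply_symm_apply] at h2
  exact h2

theorem map_mem_commutator (α : MulAut H) {h : H} (hh : h ∈ commutator H) :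
    α h ∈ commutator H := by
  have hc : (commutator H).Characteristic := by rw [commutator_def]; infer_instance
  have h1 : (commutator H).comap α.toMonoidHom = commutator H := hc.fixed α
  have h2 : h ∈ (commutator H).comap α.toMonoidHom := by rw [h1]; exact hh
  exact h2

/-- if `z ^ p` and `z ^ k` lie in `K` with `p ∤ k` then `z ∈ K` -/
theorem mem_of_zpow_mem (p : ℕ) [Fact p.Prime] (K : Subgroup H) (z : H) (hzp : z ^ p ∈ K) (k : ℤ)
    (hk : ¬ (p : ℤ) ∣ k) (hzk : z ^ k ∈ K) : z ∈ K := by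
  have hpp : p.Prime := Fact.out
  have hcop : IsCoprime k (p : ℤ) := by
    rw [isCoprime_comm]
    exact (Prime.coprime_iff_not_dvd (Nat.prime_iff_prime_int.mp hpp)).mpr hk
  obtain ⟨s, t, hst⟩ := hcop
  have h1 : z = (z ^ k) ^ s * (z ^ p) ^ t := by
    rw [← zpow_mul, ← zpow_natCast z p, ← zpow_mul, ← zpow_add, mul_comm k s, mul_comm (p : ℤ) t,
      hst, zpow_one]
  rw [h1]
  exact Subgroup.mul_mem _ (Subgroup.zpow_mem _ hzk s) (Subgroup.zpow_mem _ hzp t)

/-- the centraliser of `a` has index dividing `p` when all commutators with `a` lie in a central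
subgroup of order `p` -/
theorem index_centralizer_dvd (p : ℕ) (N : Subgroup H) (hN : Nat.card N = p)
    (hNZ : N ≤ Subgroup.center H) (a : H) (ha : ∀ h : H, ⁅h, a⁆ ∈ N) :
    (Subgroup.centralizer ({a} : Set H)).index ∣ p := by
  obtain ⟨φ, hφ⟩ : ∃ φ : H →* N, φ = Cfsg.Agent.Lib.Lead.commutatorHom N hNZ a ha := ⟨_, rfl⟩
  have hker : φ.ker = Subgroup.centralizer ({a} : Set H) := by
    ext h
    rw [MonoidHom.mem_ker, Subgroup.mem_centralizer_singleton_iff, hφ]
    have h1 : (Cfsg.Agent.Lib.Lead.commutatorHom N hNZ a ha h : H) = ⁅h, a⁆ := rfl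
    rw [← Subtype.coe_inj, h1, Subgroup.coe_one, commutatorElement_eq_one_iff_mul_comm]
  rw [← hker, Subgroup.index_ker, ← hN]
  exact Subgroup.card_subgroup_dvd_card _

theorem index_centralizer_eq (p : ℕ) [Fact p.Prime] (N : Subgroup H) (hN : Nat.card N = p)
    (hNZ : N ≤ Subgroup.center H) (a : H) (ha : ∀ h : H, ⁅h, a⁆ ∈ N)
    (haZ : a ∉ Subgroup.center H) : (Subgroup.centralizer ({a} : Set H)).index = p := by
  have hpp : p.Prime := Fact.out
  rcases (Nat.dvd_prime hpp).mp (index_centralizer_dvd p N hN hNZ a ha) with h | h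
  · exfalso
    apply haZ
    rw [Subgroup.index_eq_one] at h
    rw [Subgroup.mem_center_iff]
    intro g
    have : g ∈ Subgroup.centralizer ({a} : Set H) := by rw [h]; exact Subgroup.mem_top g
    exact Subgroup.mem_centralizer_singleton_iff.mp this
  · exact h

/-- a subgroup of prime index is normal in a `p`-group (via coatoms) and contains `Φ` -/
theorem frattini_le_of_index [Finite H] (p : ℕ) [Fact p.Prime] {K : Subgroup H} (hK : K.index = p) :
    frattini H ≤ K := by
  have hpp : p.Prime := Fact.out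
  exact frattini_le_coatom (Cfsg.Agent.Lib.Lead.isCoatom_of_index_prime (hK ▸ hpp))

/-- `z ∉ Φ(H)` is avoided by some subgroup of index `p` -/
theorem exists_index_p_not_mem [Finite H] (p : ℕ) [Fact p.Prime] (hH : IsPGroup p H) {z : H}
    (hz : z ∉ frattini H) : ∃ M : Subgroup H, M.Normal ∧ M.index = p ∧ z ∉ M := by
  rw [Cfsg.Agent.Lib.Lead.mem_frattini_iff] at hz
  push Not at hz
  obtain ⟨M, hM, hzM⟩ := hz
  obtain ⟨h1, h2⟩ := Cfsg.Agent.Lib.Lead.coatom_normal_index_of_isPGroup hH hM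
  exact ⟨M, h1, h2, hzM⟩

end Cfsg.Agent.H9P4
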