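import Mathlib
import Cfsg.Prelude
import Cfsg.Agent.Lib.Helper9.P4Class1
import Cfsg.Agent.Lib.Helper6.Frattini
import Cfsg.Agent.Lib.Lead.BurnsideBasis

set_option autoImplicit false

/-!
# Groups of order `p ^ 4`: direct factors of order `p`, and the abelian groups of rank three
-/

namespace Cfsg.Agent.H9P4

open Cfsg Cfsg.Agent.Lib.Lead
open scoped commutatorElement

section prod

variable {H : Type*} [Group H]

theorem zmodPow_mem_center (n : ℕ) (z : H) (hz : z ∈ Subgroup.center H) (hzn : z ^ n = 1)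
    (i : ZMod n) : (zmodPow n z hzn i).toMul ∈ Subgroup.center H :=
  (Subgroup.zpowers_le.mpr hz) (zmodPow_mem_zpowers n z hzn i)

/-- the homomorphism `(m, i) ↦ m * z ^ i` -/
noncomputable def prodHom (M : Subgroup H) (z : H) (n : ℕ) (hz : z ∈ Subgroup.center H)
    (hzn : z ^ n = 1) : M × Multiplicative (ZMod n) →* H where
  toFun x := (x.1 : H) * (zmodPow n z hzn x.2.toAdd).toMul
  map_one' := by
    show ((1 : M) : H) * (zmodPow n z hzn 0).toMul = 1
    have h1 : zmodPow n z hzn 0 = 0 := map_zero _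
    rw [h1, Subgroup.coe_one, one_mul]
    rfl
  map_mul' := by
    intro a b
    show ((a.1 * b.1 : M) : H) * (zmodPow n z hzn (a.2.toAdd + b.2.toAdd)).toMul =
      (a.1 : H) * (zmodPow n z hzn a.2.toAdd).toMul * ((b.1 : H) * (zmodPow n z hzn b.2.toAdd).toMul)
    rw [zmodPow_add, Subgroup.coe_mul]
    have hc := Subgroup.mem_center_iff.mp (zmodPow_mem_center n z hz hzn a.2.toAdd) (b.1 : H)
    calc (a.1 : H) * (b.1 : H) * ((zmodPow n z hzn a.2.toAdd).toMul * (zmodPow n z hzn b.2.toAdd).toMul)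
        = (a.1 : H) * ((b.1 : H) * (zmodPow n z hzn a.2.toAdd).toMul) *
          (zmodPow n z hzn b.2.toAdd).toMul := by simp only [mul_assoc]
      _ = (a.1 : H) * ((zmodPow n z hzn a.2.toAdd).toMul * (b.1 : H)) *
          (zmodPow n z hzn b.2.toAdd).toMul := by rw [hc]
      _ = _ := by simp only [mul_assoc]

/-- a central element of order `p` outside a subgroup `M` of index `p` splits off as a direct factor -/
theorem prod_iso [Finite H] (p : ℕ) [Fact p.Prime] (M : Subgroup H) (z : H)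
    (hz : z ∈ Subgroup.center H) (hzp : z ^ p = 1) (hzM : z ∉ M)
    (hcard : Nat.card M * p = Nat.card H) : Nonempty (H ≃* M × Multiplicative (ZMod p)) := by
  have hpp : p.Prime := Fact.out
  haveI : NeZero p := ⟨hpp.ne_zero⟩
  obtain ⟨f, hf⟩ : ∃ f, f = prodHom M z p hz hzp := ⟨_, rfl⟩
  have hinj : Function.Injective f := by
    rw [injective_iff_map_eq_one]
    rintro ⟨m, i⟩ hmi
    obtain ⟨k, hk⟩ := ZMod.intCast_surjective i.toAdd
    have h1 : f (m, i) = (m : H) * z ^ k := by
      rw [hf]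
      show (m : H) * (zmodPow p z hzp i.toAdd).toMul = _
      rw [← hk, zmodPow_intCast]
    rw [h1] at hmi
    have h2 : z ^ k ∈ M := by
      have : z ^ k = (m : H)⁻¹ := eq_inv_of_mul_eq_one_right hmi
      rw [this]; exact M.inv_mem m.2
    have h3 : (p : ℤ) ∣ k := by
      by_contra hk'
      exact hzM (mem_of_zpow_mem p M z (by rw [hzp]; exact M.one_mem) k hk' h2)
    have h4 : i = 1 := by
      have h5 : i.toAdd = 0 := by
        rw [← hk]; exact (ZMod.intCast_zmod_eq_zero_iff_dvd k p).mpr h3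
      show Multiplicative.ofAdd i.toAdd = Multiplicative.ofAdd 0
      rw [h5]
    have h5 : z ^ k = 1 := by
      obtain ⟨j, rfl⟩ := h3
      rw [zpow_mul, zpow_natCast, hzp, one_zpow]
    rw [h5, mul_one] at hmi
    exact Prod.ext (Subtype.ext hmi) h4
  have hbij : Function.Bijective f := by
    rw [Nat.bijective_iff_injective_and_card]
    refine ⟨hinj, ?_⟩
    rw [← hcard]
    show Nat.card (↥M × ZMod p) = _
    rw [Nat.card_prod, Nat.card_zmod]
  exact ⟨(MulEquiv.ofBijective f hbij).symm⟩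

end prod

section abelian

variable {H : Type*} [CommGroup H]

/-- the homomorphism `(i, j, k) ↦ x ^ i * y ^ j * z ^ k` -/
noncomputable def hom3 (p : ℕ) (x y z : H) (hx : x ^ (p ^ 2) = 1) (hy : y ^ p = 1) (hz : z ^ p = 1) :
    Multiplicative (ZMod (p ^ 2) × ZMod p × ZMod p) →* H where
  toFun w := (zmodPow (p ^ 2) x hx w.toAdd.1).toMul *
    ((zmodPow p y hy w.toAdd.2.1).toMul * (zmodPow p z hz w.toAdd.2.2).toMul)
  map_one' := by
    show (zmodPow (p ^ 2) x hx 0).toMul * ((zmodPow p y hy 0).toMul * (zmodPow p z hz 0).toMul) = 1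
    have h1 : zmodPow (p ^ 2) x hx 0 = 0 := map_zero _
    have h2 : zmodPow p y hy 0 = 0 := map_zero _
    have h3 : zmodPow p z hz 0 = 0 := map_zero _
    rw [h1, h2, h3]
    show (1 : H) * (1 * 1) = 1
    rw [mul_one, mul_one]
  map_mul' := by
    intro a b
    show (zmodPow (p ^ 2) x hx (a.toAdd.1 + b.toAdd.1)).toMul *
      ((zmodPow p y hy (a.toAdd.2.1 + b.toAdd.2.1)).toMul *
        (zmodPow p z hz (a.toAdd.2.2 + b.toAdd.2.2)).toMul) = _
    rw [zmodPow_add, zmodPow_add, zmodPow_add, mul_mul_mul_comm (zmodPow p y hy a.toAdd.2.1).toMul,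
      mul_mul_mul_comm (zmodPow (p ^ 2) x hx a.toAdd.1).toMul]

theorem hom3_intCast (p : ℕ) (x y z : H) (hx : x ^ (p ^ 2) = 1) (hy : y ^ p = 1) (hz : z ^ p = 1)
    (i j k : ℤ) :
    hom3 p x y z hx hy hz (Multiplicative.ofAdd ((i : ZMod (p ^ 2)), (j : ZMod p), (k : ZMod p))) =
      x ^ i * (y ^ j * z ^ k) := by
  show (zmodPow (p ^ 2) x hx (i : ZMod (p ^ 2))).toMul *
    ((zmodPow p y hy (j : ZMod p)).toMul * (zmodPow p z hz (k : ZMod p)).toMul) = _
  rw [zmodPow_intCast, zmodPow_intCast, zmodPow_intCast]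

theorem zpow_eq_one_of_dvd (p : ℕ) (y : H) (hy : y ^ p = 1) (j : ℤ) (hj : (p : ℤ) ∣ j) : y ^ j = 1 := by
  obtain ⟨j', rfl⟩ := hj
  rw [zpow_mul, zpow_natCast, hy, one_zpow]

theorem abelian_d3 [Finite H] (p : ℕ) [Fact p.Prime] (hcard : Nat.card H = p ^ 4)
    (hΦ : Nat.card (frattini H) = p) :
    Nonempty (H ≃* Multiplicative (ZMod (p ^ 2) × ZMod p × ZMod p)) := by
  have hpp : p.Prime := Fact.out
  haveI : NeZero p := ⟨hpp.ne_zero⟩
  have hH : IsPGroup p H := IsPGroup.of_card hcard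
  obtain ⟨π, hπ⟩ : ∃ π : H →* H, π = powMonoidHom p := ⟨_, rfl⟩
  have hπa : ∀ x, π x = x ^ p := by intro x; rw [hπ]; rfl
  have hΦpow : ∀ w ∈ frattini H, w ^ p = 1 := by
    intro w hw
    have h1 : (⟨w, hw⟩ : frattini H) ^ Nat.card (frattini H) = 1 := pow_card_eq_one'
    rw [hΦ] at h1
    exact congrArg Subtype.val h1
  have hrange : π.range = frattini H := by
    apply le_antisymm
    · rintro _ ⟨x, rfl⟩
      rw [hπa]
      exact pow_mem_frattini_of_isPGroup hH x
    · apply Cfsg.Agent.Lib.Helper6.frattini_le_of_elemAb (p := p)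
      · intro x y
        rw [commutatorElement_eq_one_iff_mul_comm.mpr (mul_comm x y)]
        exact one_mem _
      · intro x
        exact ⟨x, hπa x⟩
  have hker : Nat.card π.ker = p ^ 3 := by
    have h1 := Subgroup.card_mul_index π.ker
    rw [Subgroup.index_ker, hrange, hΦ, hcard] at h1
    have h2 : Nat.card π.ker * p = p ^ 3 * p := by rw [h1]; ring
    exact Nat.eq_of_mul_eq_mul_right hpp.pos h2
  have hΦker : frattini H ≤ π.ker := by
    intro w hw
    rw [MonoidHom.mem_ker, hπa]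
    exact hΦpow w hw
  obtain ⟨x, hx⟩ : ∃ x : H, x ^ p ≠ 1 := by
    by_contra hcon
    push Not at hcon
    have h1 : frattini H ≤ ⊥ := by
      apply Cfsg.Agent.Lib.Helper6.frattini_le_of_elemAb (p := p)
      · intro x y
        rw [commutatorElement_eq_one_iff_mul_comm.mpr (mul_comm x y)]
        exact one_mem _
      · intro x
        rw [hcon x]; exact one_mem _
    have h2 : frattini H = ⊥ := le_bot_iff.mp h1
    rw [h2, Subgroup.card_bot] at hΦ
    exact hpp.one_lt.ne hΦ
  have hx2 : x ^ (p ^ 2) = 1 := by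
    rw [pow_two, pow_mul]
    exact hΦpow _ (pow_mem_frattini_of_isPGroup hH x)
  have hxord : orderOf x = p ^ 2 := by
    apply orderOf_eq_prime_pow (n := 1)
    · rw [pow_one]; exact hx
    · exact hx2
  obtain ⟨y, hyker, hyΦ⟩ : ∃ y ∈ π.ker, y ∉ frattini H := by
    apply SetLike.exists_of_lt
    apply lt_of_le_of_ne hΦker
    intro h
    rw [h, hker] at hΦ
    have : p ^ 3 = p ^ 1 := by rw [hΦ, pow_one]
    have := Nat.pow_right_injective hpp.two_le this
    omega
  have hy : y ^ p = 1 := by rw [← hπa]; exact hyker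
  obtain ⟨K₂, hK₂⟩ : ∃ K₂ : Subgroup H, K₂ = Subgroup.zpowers y ⊔ frattini H := ⟨_, rfl⟩
  have hK₂card : Nat.card K₂ ≤ p * p := by
    have := card_zpowers_sup_le hH (frattini H) le_rfl y
    rw [hΦ, ← hK₂] at this
    exact this
  have hK₂ker : K₂ ≤ π.ker := by
    rw [hK₂]
    exact sup_le (Subgroup.zpowers_le.mpr hyker) hΦker
  obtain ⟨z, hzker, hzK⟩ : ∃ z ∈ π.ker, z ∉ K₂ := by
    apply SetLike.exists_of_lt
    apply lt_of_le_of_ne hK₂ker
    intro h
    rw [h, hker] at hK₂card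
    have h1 : p ^ 3 = p * p * p := by ring
    rw [h1] at hK₂card
    have h2 : p * p * 1 < p * p * p := Nat.mul_lt_mul_of_pos_left hpp.one_lt (Nat.mul_pos hpp.pos hpp.pos)
    omega
  have hz : z ^ p = 1 := by rw [← hπa]; exact hzker
  have hΦK : frattini H ≤ K₂ := by rw [hK₂]; exact le_sup_right
  have hyK : Subgroup.zpowers y ≤ K₂ := by rw [hK₂]; exact le_sup_left
  obtain ⟨f, hf⟩ : ∃ f, f = hom3 p x y z hx2 hy hz := ⟨_, rfl⟩
  have hinj : Function.Injective f := by
    rw [injective_iff_map_eq_one]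
    intro w hw
    obtain ⟨i, hi⟩ := ZMod.intCast_surjective w.toAdd.1
    obtain ⟨j, hj⟩ := ZMod.intCast_surjective w.toAdd.2.1
    obtain ⟨k, hk⟩ := ZMod.intCast_surjective w.toAdd.2.2
    have hw' : w = Multiplicative.ofAdd ((i : ZMod (p ^ 2)), (j : ZMod p), (k : ZMod p)) := by
      rw [hi, hj, hk]
      rfl
    rw [hw', hf, hom3_intCast] at hw
    -- step 1
    have h1 : (p : ℤ) ∣ i := by
      have h2 : (x ^ i * (y ^ j * z ^ k)) ^ p = 1 := by rw [hw, one_pow]
      rw [mul_pow, mul_pow, ← zpow_natCast (y ^ j), ← zpow_natCast (z ^ k), ← zpow_mul, ← zpow_mul,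
        mul_comm j, mul_comm k, zpow_mul, zpow_mul, zpow_natCast, zpow_natCast, hy, hz, one_zpow,
        one_zpow, mul_one, mul_one, ← zpow_natCast (x ^ i), ← zpow_mul] at h2
      have h3 := (orderOf_dvd_iff_zpow_eq_one).mpr h2
      rw [hxord] at h3
      have h4 : (p : ℤ) * p ∣ i * p := by
        have : ((p ^ 2 : ℕ) : ℤ) = (p : ℤ) * p := by push_cast; ring
        rw [← this]; exact h3
      exact Int.dvd_of_mul_dvd_mul_right (by exact_mod_cast hpp.ne_zero) h4
    have hxi : x ^ i ∈ frattini H := by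
      obtain ⟨i', rfl⟩ := h1
      rw [zpow_mul, zpow_natCast]
      exact Subgroup.zpow_mem _ (pow_mem_frattini_of_isPGroup hH x) i'
    -- step 2
    have hzk : z ^ k = 1 := by
      apply zpow_eq_one_of_dvd p z hz
      by_contra hk'
      apply hzK
      apply mem_of_zpow_mem p K₂ z (by rw [hz]; exact K₂.one_mem) k hk'
      have : z ^ k = (x ^ i * y ^ j)⁻¹ := by
        apply eq_inv_of_mul_eq_one_right
        rw [mul_assoc]; exact hw
      rw [this]
      exact K₂.inv_mem (K₂.mul_mem (hΦK hxi) (hyK (Subgroup.zpow_mem_zpowers y j)))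
    rw [hzk, mul_one] at hw
    -- step 3
    have hyj : y ^ j = 1 := by
      apply zpow_eq_one_of_dvd p y hy
      by_contra hj'
      apply hyΦ
      apply mem_of_zpow_mem p (frattini H) y (by rw [hy]; exact Subgroup.one_mem _) j hj'
      have : y ^ j = (x ^ i)⁻¹ := eq_inv_of_mul_eq_one_right hw
      rw [this]
      exact Subgroup.inv_mem _ hxi
    rw [hyj, mul_one] at hw
    -- step 4
    have h5 := (orderOf_dvd_iff_zpow_eq_one).mpr hw
    rw [hxord] at h5
    have e1 : (i : ZMod (p ^ 2)) = 0 := (ZMod.intCast_zmod_eq_zero_iff_dvd i _).mpr h5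
    have e2 : (j : ZMod p) = 0 := by
      apply (ZMod.intCast_zmod_eq_zero_iff_dvd j _).mpr
      by_contra hj'
      apply hyΦ
      exact mem_of_zpow_mem p (frattini H) y (by rw [hy]; exact Subgroup.one_mem _) j hj'
        (by rw [hyj]; exact Subgroup.one_mem _)
    have e3 : (k : ZMod p) = 0 := by
      apply (ZMod.intCast_zmod_eq_zero_iff_dvd k _).mpr
      by_contra hk'
      apply hzK
      exact mem_of_zpow_mem p K₂ z (by rw [hz]; exact K₂.one_mem) k hk'
        (by rw [hzk]; exact K₂.one_mem)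
    rw [hw', e1, e2, e3]
    rfl
  have hbij : Function.Bijective f := by
    rw [Nat.bijective_iff_injective_and_card]
    refine ⟨hinj, ?_⟩
    rw [hcard]
    show Nat.card (ZMod (p ^ 2) × ZMod p × ZMod p) = _
    rw [Nat.card_prod, Nat.card_prod, Nat.card_zmod, Nat.card_zmod]
    ring
  exact ⟨(MulEquiv.ofBijective f hbij).symm⟩

end abelian

end Cfsg.Agent.H9P4
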