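import Mathlib
import Cfsg.Prelude
import Cfsg.Agent.Lib.Helper9.P4Class1
import Cfsg.Agent.Lib.Lead.Nilpotent
import Cfsg.Agent.Lib.Lead.MaxClass1
import Cfsg.Agent.Lib.Lead.BurnsideBasis

set_option autoImplicit false

/-!
# Groups of order `p ^ 4` whose Frattini subgroup (of order `p ^ 2`) is not central
-/

namespace Cfsg.Agent.H9P4

open Cfsg Cfsg.Agent.Lib.Lead
open scoped commutatorElement

variable {H : Type*} [Group H]

theorem contra_not_le_center [Finite H] (p : ℕ) [Fact p.Prime] (hcard : Nat.card H = p ^ 4)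
    (hΦ : Nat.card (frattini H) = p ^ 2) (hΦZ : ¬ frattini H ≤ Subgroup.center H)
    (A : Subgroup (MulAut H)) (hN : ((Inn H).subgroupOf A).Normal)
    (E : Subgroup (A ⧸ (Inn H).subgroupOf A)) (hE : IsStronglyPEmbedded p E) : False := by
  have hpp : p.Prime := Fact.out
  have hH : IsPGroup p H := IsPGroup.of_card hcard
  haveI : Group.IsNilpotent H := hH.isNilpotent
  obtain ⟨Φ, hΦdef⟩ : ∃ Φ : Subgroup H, Φ = frattini H := ⟨_, rfl⟩
  haveI hΦn : Φ.Normal := by rw [hΦdef]; infer_instance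
  have hΦcard : Nat.card Φ = p ^ 2 := by rw [hΦdef]; exact hΦ
  have hΦab : ∀ a ∈ Φ, ∀ b ∈ Φ, a * b = b * a := by
    intro a ha b hb
    have := IsPGroup.commutative_of_card_eq_prime_sq (G := Φ) hΦcard ⟨a, ha⟩ ⟨b, hb⟩
    exact congrArg Subtype.val this
  obtain ⟨N, hNdef⟩ : ∃ N : Subgroup H, N = Φ ⊓ Subgroup.center H := ⟨_, rfl⟩
  haveI hNn : N.Normal := by rw [hNdef]; infer_instance
  have hNΦ : N ≤ Φ := by rw [hNdef]; exact inf_le_left
  have hNZ : N ≤ Subgroup.center H := by rw [hNdef]; exact inf_le_right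
  have hNne : N ≠ ⊥ := by
    rw [hNdef]
    apply inf_center_ne_bot Φ
    intro h
    apply hΦZ
    rw [← hΦdef, h]
    exact bot_le
  have hNcard : Nat.card N = p := by
    have hd : Nat.card N ∣ p ^ 2 := by rw [← hΦcard]; exact Subgroup.card_dvd_of_le hNΦ
    obtain ⟨k, hk, hk'⟩ := (Nat.dvd_prime_pow hpp).mp hd
    interval_cases k
    · exfalso
      rw [pow_zero] at hk'
      exact hNne (Subgroup.card_eq_one.mp hk')
    · rw [hk', pow_one]
    · exfalso
      apply hΦZ
      have : N = Φ := Subgroup.eq_of_le_of_card_ge hNΦ (by rw [hk', hΦcard])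
      rw [← hΦdef, ← this]
      exact hNZ
  have hcomm : ∀ c ∈ Φ, ∀ h : H, ⁅h, c⁆ ∈ N := by
    intro c hc h
    obtain ⟨B, hB⟩ : ∃ B : Subgroup (H ⧸ N), B = Φ.map (QuotientGroup.mk' N) := ⟨_, rfl⟩
    haveI : B.Normal := by rw [hB]; exact hΦn.map _ (QuotientGroup.mk'_surjective N)
    have hBcard : Nat.card B = p := by
      have h1 := card_map_mk'_mul N Φ hNΦ
      rw [← hB, hNcard, hΦcard] at h1
      have : Nat.card B * p = p * p := by rw [h1]; ring
      exact Nat.eq_of_mul_eq_mul_right hpp.pos this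
    have hQ : IsPGroup p (H ⧸ N) := hH.to_quotient N
    have hle := le_center_of_normal_of_card_prime hQ B hBcard
    have hcB : (QuotientGroup.mk' N c) ∈ B := by rw [hB]; exact Subgroup.mem_map_of_mem _ hc
    have h2 := Subgroup.mem_center_iff.mp (hle hcB) (QuotientGroup.mk' N h)
    rw [← QuotientGroup.eq_one_iff]
    have h3 : ((⁅h, c⁆ : H) : H ⧸ N) = ⁅(QuotientGroup.mk' N h), (QuotientGroup.mk' N c)⁆ :=
      map_commutatorElement (QuotientGroup.mk' N) h c
    rw [h3, commutatorElement_eq_one_iff_mul_comm]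
    exact h2
  obtain ⟨c, hcΦ, hcZ⟩ : ∃ c ∈ Φ, c ∉ Subgroup.center H := by
    by_contra hcon
    push Not at hcon
    apply hΦZ
    rw [← hΦdef]
    exact hcon
  have hidx : (Subgroup.centralizer ({c} : Set H)).index = p :=
    index_centralizer_eq p N hNcard hNZ c (hcomm c hcΦ) hcZ
  obtain ⟨K₁, hK₁⟩ : ∃ K₁ : Subgroup H, K₁ = Subgroup.centralizer (Φ : Set H) := ⟨_, rfl⟩
  have hΦeq : Subgroup.zpowers c ⊔ N = Φ := by
    apply Subgroup.eq_of_le_of_card_ge (sup_le (Subgroup.zpowers_le.mpr hcΦ) hNΦ)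
    have hlt : N < Subgroup.zpowers c ⊔ N := by
      apply lt_of_le_of_ne le_sup_right
      intro h
      apply hcZ
      apply hNZ
      rw [h]
      exact Subgroup.mem_sup_left (Subgroup.mem_zpowers c)
    have := card_mul_le_of_lt hH hlt
    rw [hNcard] at this
    rw [hΦcard, pow_two]
    exact this
  have hle : Subgroup.centralizer ({c} : Set H) ≤ K₁ := by
    intro x hx
    rw [hK₁, Subgroup.mem_centralizer_iff]
    intro y hy
    have h1 : Subgroup.zpowers c ⊔ N ≤ Subgroup.centralizer ({x} : Set H) := by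
      apply sup_le
      · rw [Subgroup.zpowers_le, Subgroup.mem_centralizer_singleton_iff]
        exact (Subgroup.mem_centralizer_singleton_iff.mp hx).symm
      · intro n hn
        rw [Subgroup.mem_centralizer_singleton_iff]
        exact (Subgroup.mem_center_iff.mp (hNZ hn) x).symm
    rw [hΦeq] at h1
    exact Subgroup.mem_centralizer_singleton_iff.mp (h1 hy)
  have hK₁dvd : K₁.index ∣ p := by rw [← hidx]; exact Subgroup.index_dvd_of_le hle
  have hK₁ne : K₁ ≠ ⊤ := by
    intro h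
    apply hcZ
    rw [Subgroup.mem_center_iff]
    intro g
    have : g ∈ K₁ := by rw [h]; exact Subgroup.mem_top g
    rw [hK₁, Subgroup.mem_centralizer_iff] at this
    exact (this c hcΦ).symm
  have hK₁idx : K₁.index = p := by
    rcases (Nat.dvd_prime hpp).mp hK₁dvd with h | h
    · exact absurd (Subgroup.index_eq_one.mp h) hK₁ne
    · exact h
  have hΦK₁ : Φ ≤ K₁ := by
    intro a ha
    rw [hK₁, Subgroup.mem_centralizer_iff]
    intro b hb
    exact hΦab b hb a ha
  have hrel : Φ.relIndex K₁ = p := by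
    have h1 := Subgroup.relIndex_mul_index hΦK₁
    have h2 : Φ.index = p ^ 2 := by
      have := Subgroup.card_mul_index Φ
      rw [hΦcard, hcard] at this
      have h3 : p ^ 2 * Φ.index = p ^ 2 * p ^ 2 := by rw [this]; ring
      exact Nat.eq_of_mul_eq_mul_left (pow_pos hpp.pos 2) h3
    rw [hK₁idx, h2] at h1
    have : Φ.relIndex K₁ * p = p * p := by rw [h1]; ring
    exact Nat.eq_of_mul_eq_mul_right hpp.pos this
  refine H9CS.chain2F_contra p hH A hN E hE K₁ ?_ ?_ ?_
  · intro α h hh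
    rw [hK₁, Subgroup.mem_centralizer_iff] at hh ⊢
    intro y hy
    have h1 : α.symm y ∈ Φ := by
      rw [hΦdef] at hy ⊢
      exact H9CS.map_mem_frattini α.symm hy
    have h2 := hh _ h1
    have h3 := congrArg α h2
    rw [map_mul, map_mul, MulEquiv.apply_symm_apply] at h3
    exact h3
  · rw [← hΦdef, hrel]
  · rw [hK₁idx]

end Cfsg.Agent.H9P4
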