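import Mathlib
import Cfsg.Prelude
import Cfsg.Agent.Lib.Helper9.P4Class1
import Cfsg.Agent.Lib.Helper9.C2a
import Cfsg.Agent.Lib.Lead.BurnsideBasis

set_option autoImplicit false

/-!
# Nonabelian groups of order `p ^ 4` with central Frattini subgroup: the centre has order `p ^ 2`
-/

namespace Cfsg.Agent.H9P4

open Cfsg Cfsg.Agent.Lib.Lead
open scoped commutatorElement

variable {H : Type*} [Group H]

/-- a nonabelian group of order `p ^ 4` all of whose commutators lie in a central subgroup of order
`p` has a centre of order at least `p ^ 2` -/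
theorem sq_le_card_center [Finite H] (p : ℕ) [Fact p.Prime] (hcard : Nat.card H = p ^ 4)
    (N : Subgroup H) (hN : Nat.card N = p) (hNZ : N ≤ Subgroup.center H)
    (hcomm : ∀ x y : H, ⁅x, y⁆ ∈ N) (hna : ¬ ∀ a b : H, a * b = b * a) :
    p ^ 2 ≤ Nat.card (Subgroup.center H) := by
  have hpp : p.Prime := Fact.out
  have hH : IsPGroup p H := IsPGroup.of_card hcard
  push Not at hna
  obtain ⟨a, b, hab⟩ := hna
  have haZ : a ∉ Subgroup.center H := fun h => hab ((Subgroup.mem_center_iff.mp h b).symm)
  have hbZ : b ∉ Subgroup.center H := fun h => hab (Subgroup.mem_center_iff.mp h a)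
  obtain ⟨Ca, hCa⟩ : ∃ C : Subgroup H, C = Subgroup.centralizer ({a} : Set H) := ⟨_, rfl⟩
  obtain ⟨Cb, hCb⟩ : ∃ C : Subgroup H, C = Subgroup.centralizer ({b} : Set H) := ⟨_, rfl⟩
  have hCai : Ca.index = p := by
    rw [hCa]; exact index_centralizer_eq p N hN hNZ a (fun h => hcomm h a) haZ
  have hCbi : Cb.index = p := by
    rw [hCb]; exact index_centralizer_eq p N hN hNZ b (fun h => hcomm h b) hbZ
  have hCacard : Nat.card Ca = p ^ 3 := by
    have h1 := Subgroup.card_mul_index Ca
    rw [hCai, hcard] at h1
    have h2 : Nat.card Ca * p = p ^ 3 * p := by rw [h1]; ring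
    exact Nat.eq_of_mul_eq_mul_right hpp.pos h2
  obtain ⟨D, hD⟩ : ∃ D : Subgroup H, D = Ca ⊓ Cb := ⟨_, rfl⟩
  have hDi : D.index ≤ p * p := by
    calc D.index ≤ Ca.index * Cb.index := by rw [hD]; exact Subgroup.index_inf_le
      _ = p * p := by rw [hCai, hCbi]
  have hDge : p ^ 2 ≤ Nat.card D := by
    have h1 := Subgroup.card_mul_index D
    rw [hcard] at h1
    have h2 : p ^ 2 * (p * p) ≤ Nat.card D * (p * p) := by
      calc p ^ 2 * (p * p) = p ^ 4 := by ring
        _ = Nat.card D * D.index := h1.symm
        _ ≤ Nat.card D * (p * p) := Nat.mul_le_mul_left _ hDi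
    exact Nat.le_of_mul_le_mul_right h2 (Nat.mul_pos hpp.pos hpp.pos)
  have haD : a ∉ D := by
    intro h
    rw [hD, hCb] at h
    exact hab (Subgroup.mem_centralizer_singleton_iff.mp h.2)
  have haCa : a ∈ Ca := by rw [hCa]; exact Subgroup.mem_centralizer_singleton_iff.mpr rfl
  have hDCa : D ≤ Ca := by rw [hD]; exact inf_le_left
  have hDCb : D ≤ Cb := by rw [hD]; exact inf_le_right
  obtain ⟨D1, hD1⟩ : ∃ D1 : Subgroup H, D1 = D ⊔ Subgroup.zpowers a := ⟨_, rfl⟩
  have hD1Ca : D1 ≤ Ca := by rw [hD1]; exact sup_le hDCa (Subgroup.zpowers_le.mpr haCa)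
  have hlt : D < D1 := by
    apply lt_of_le_of_ne (by rw [hD1]; exact le_sup_left)
    intro h
    apply haD
    rw [h, hD1]
    exact Subgroup.mem_sup_right (Subgroup.mem_zpowers a)
  have h1 := card_mul_le_of_lt hH hlt
  have h2 : Nat.card D1 ≤ Nat.card Ca := Subgroup.card_le_of_le hD1Ca
  have hDle : Nat.card D ≤ p ^ 2 := by
    have h3 : p * Nat.card D ≤ p * p ^ 2 := by
      calc p * Nat.card D ≤ Nat.card D1 := h1
        _ ≤ Nat.card Ca := h2
        _ = p * p ^ 2 := by rw [hCacard]; ring
    exact Nat.le_of_mul_le_mul_left h3 hpp.pos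
  have hDcard : Nat.card D = p ^ 2 := le_antisymm hDle hDge
  have hD1eq : D1 = Ca := by
    apply Subgroup.eq_of_le_of_card_ge hD1Ca
    rw [hCacard]
    calc p ^ 3 = p * p ^ 2 := by ring
      _ = p * Nat.card D := by rw [hDcard]
      _ ≤ Nat.card D1 := h1
  have hDab : ∀ x ∈ D, ∀ y ∈ D, x * y = y * x := by
    intro x hx y hy
    have := IsPGroup.commutative_of_card_eq_prime_sq (G := D) hDcard ⟨x, hx⟩ ⟨y, hy⟩
    exact congrArg Subtype.val this
  have hDZ : D ≤ Subgroup.center H := by
    intro x hx
    have hxa : x * a = a * x := by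
      have := hDCa hx
      rw [hCa] at this
      exact Subgroup.mem_centralizer_singleton_iff.mp this
    have hxb : x * b = b * x := by
      have := hDCb hx
      rw [hCb] at this
      exact Subgroup.mem_centralizer_singleton_iff.mp this
    have hle : Ca ≤ Subgroup.centralizer ({x} : Set H) := by
      rw [← hD1eq, hD1]
      apply sup_le
      · intro d hd
        rw [Subgroup.mem_centralizer_singleton_iff]
        exact hDab d hd x hx
      · rw [Subgroup.zpowers_le, Subgroup.mem_centralizer_singleton_iff]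
        exact hxa.symm
    have hbx : b ∈ Subgroup.centralizer ({x} : Set H) := by
      rw [Subgroup.mem_centralizer_singleton_iff]
      exact hxb.symm
    have hbCa : b ∉ Ca := by
      intro h
      rw [hCa] at h
      exact hab (Subgroup.mem_centralizer_singleton_iff.mp h).symm
    have htop : Subgroup.centralizer ({x} : Set H) = ⊤ := by
      apply (isCoatom_of_index_prime (hCai ▸ hpp)).2
      apply lt_of_le_of_ne hle
      intro h
      apply hbCa
      rw [h]
      exact hbx
    rw [Subgroup.mem_center_iff]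
    intro g
    have : g ∈ Subgroup.centralizer ({x} : Set H) := by rw [htop]; exact Subgroup.mem_top g
    exact Subgroup.mem_centralizer_singleton_iff.mp this
  rw [← hDcard]
  exact Subgroup.card_le_of_le hDZ

theorem commutator_mem_frattini [Finite H] (p : ℕ) [Fact p.Prime] (hH : IsPGroup p H) (x y : H) :
    ⁅x, y⁆ ∈ frattini H := by
  apply commutator_le_frattini_of_isPGroup hH
  rw [commutator_def]
  exact Subgroup.commutator_mem_commutator (Subgroup.mem_top x) (Subgroup.mem_top y)

theorem card_center_of_frattini_le [Finite H] (p : ℕ) [Fact p.Prime] (hcard : Nat.card H = p ^ 4)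
    (hna : ¬ ∀ a b : H, a * b = b * a) (hΦZ : frattini H ≤ Subgroup.center H) :
    Nat.card (Subgroup.center H) = p ^ 2 := by
  have hpp : p.Prime := Fact.out
  have hH : IsPGroup p H := IsPGroup.of_card hcard
  obtain ⟨k, hk4, hk, hidx⟩ := card_sub p hcard (Subgroup.center H)
  interval_cases k
  · exfalso
    apply hna
    intro a b
    have h1 : Subgroup.center H = ⊥ := Subgroup.card_eq_one.mp (by rw [hk, pow_zero])
    have h2 : ⁅a, b⁆ ∈ Subgroup.center H := hΦZ (commutator_mem_frattini p hH a b)
    rw [h1, Subgroup.mem_bot, commutatorElement_eq_one_iff_mul_comm] at h2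
    exact h2
  · exfalso
    have h1 := sq_le_card_center p hcard (Subgroup.center H) (by rw [hk, pow_one]) le_rfl
      (fun x y => hΦZ (commutator_mem_frattini p hH x y)) hna
    rw [hk] at h1
    have := (Nat.pow_le_pow_iff_right hpp.one_lt).mp h1
    omega
  · exact hk
  · exfalso
    apply hna
    have hq : Nat.card (H ⧸ Subgroup.center H) = p := by
      rw [← Subgroup.index_eq_card, hidx]; exact pow_one p
    haveI : IsCyclic (H ⧸ Subgroup.center H) := isCyclic_of_prime_card hq
    have := isMulCommutative_of_isCyclic_quotient_center_self (G := H)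
    exact this.is_comm.comm
  · exfalso
    apply hna
    have htop : Subgroup.center H = ⊤ := by
      apply (Subgroup.card_eq_iff_eq_top _).mp
      rw [hk, hcard]
    intro a b
    have : a ∈ Subgroup.center H := by rw [htop]; exact Subgroup.mem_top a
    exact (Subgroup.mem_center_iff.mp this b).symm

open Cfsg.Agent.Lib.Helper9.H9AbIdx Cfsg.Agent.Lib.Helper9.H9C2 in
/-- the commutator subgroup has order `p` when the centre has index `p ^ 2` -/
theorem card_commutator_of_center [Finite H] (p : ℕ) [Fact p.Prime] (hH : IsPGroup p H)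
    (hna : ¬ ∀ a b : H, a * b = b * a) (hZ : (Subgroup.center H).index = p ^ 2) :
    Nat.card (commutator H) = p := by
  have hZS : ZS (⊤ : Subgroup H) = Subgroup.center H := by
    ext z
    rw [mem_ZS_iff, Subgroup.mem_center_iff]
    constructor
    · rintro ⟨-, h⟩ g
      exact h g (Subgroup.mem_top g)
    · intro h
      exact ⟨Subgroup.mem_top z, fun g _ => h g⟩
  have D : C2 p (⊤ : Subgroup H) := by
    refine ⟨hH.to_subgroup ⊤, ?_, ?_⟩
    · push Not at hna
      obtain ⟨a, b, hab⟩ := hna
      exact ⟨a, Subgroup.mem_top a, b, Subgroup.mem_top b, hab⟩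
    · rw [hZS, Subgroup.relIndex_top_right]
      exact hZ
  have h1 := D.card_commutator
  have h2 : (commutator ↥(⊤ : Subgroup H)).map (⊤ : Subgroup H).subtype = commutator H := by
    rw [commutator_def, commutator_def, Subgroup.map_commutator]
    have : (⊤ : Subgroup ↥(⊤ : Subgroup H)).map (⊤ : Subgroup H).subtype = ⊤ := by
      rw [← MonoidHom.range_eq_map, Subgroup.range_subtype]
    rw [this]
  rw [h2] at h1
  exact h1

end Cfsg.Agent.H9P4
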