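import Mathlib
import Cfsg.Prelude
import Cfsg.Agent.Lib.Helper9.P4Class4
import Cfsg.Agent.Lib.Helper9.P3Class1
import Cfsg.Agent.Lib.Lead.MaxClass1

set_option autoImplicit false

/-!
# Groups of order `p ^ 4` whose Frattini subgroup is the centre (of order `p ^ 2`)
-/

namespace Cfsg.Agent.H9P4

open Cfsg Cfsg.Agent.Lib.Lead
open scoped commutatorElement

variable {H : Type*} [Group H]

theorem contra_frattini_eq_center [Finite H] (p : ℕ) [Fact p.Prime] (hcard : Nat.card H = p ^ 4)
    (hna : ¬ ∀ a b : H, a * b = b * a)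
    (hΦ : Nat.card (frattini H) = p ^ 2) (hΦZ : frattini H ≤ Subgroup.center H)
    (A : Subgroup (MulAut H)) (hN : ((Inn H).subgroupOf A).Normal)
    (E : Subgroup (A ⧸ (Inn H).subgroupOf A)) (hE : IsStronglyPEmbedded p E) : False := by
  have hpp : p.Prime := Fact.out
  have hH : IsPGroup p H := IsPGroup.of_card hcard
  have hZcard := card_center_of_frattini_le p hcard hna hΦZ
  have hZidx : (Subgroup.center H).index = p ^ 2 := by
    have := Subgroup.card_mul_index (Subgroup.center H)
    rw [hZcard, hcard] at this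
    have h3 : p ^ 2 * (Subgroup.center H).index = p ^ 2 * p ^ 2 := by rw [this]; ring
    exact Nat.eq_of_mul_eq_mul_left (pow_pos hpp.pos 2) h3
  have hΦidx : (frattini H).index = p ^ 2 := by
    have := Subgroup.card_mul_index (frattini H)
    rw [hΦ, hcard] at this
    have h3 : p ^ 2 * (frattini H).index = p ^ 2 * p ^ 2 := by rw [this]; ring
    exact Nat.eq_of_mul_eq_mul_left (pow_pos hpp.pos 2) h3
  have hC := card_commutator_of_center p hH hna hZidx
  obtain ⟨C, hCdef⟩ : ∃ C : Subgroup H, C = commutator H := ⟨_, rfl⟩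
  haveI : C.Normal := by rw [hCdef]; infer_instance
  have hCcard : Nat.card C = p := by rw [hCdef]; exact hC
  have hCΦ : C ≤ frattini H := by rw [hCdef]; exact commutator_le_frattini_of_isPGroup hH
  have hQc : ∀ u v : H ⧸ C, u * v = v * u := by
    intro u v
    obtain ⟨x, rfl⟩ := QuotientGroup.mk_surjective u
    obtain ⟨y, rfl⟩ := QuotientGroup.mk_surjective v
    rw [← QuotientGroup.mk_mul, ← QuotientGroup.mk_mul, QuotientGroup.eq]
    have h1 : (x * y)⁻¹ * (y * x) = ⁅y⁻¹, x⁻¹⁆ := by rw [commutatorElement_def]; group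
    rw [h1, hCdef, commutator_def]
    exact Subgroup.commutator_mem_commutator (Subgroup.mem_top _) (Subgroup.mem_top _)
  obtain ⟨π, hπ⟩ : ∃ π : (H ⧸ C) →* (H ⧸ C),
    π = H9P3.powHom p (fun x y => Commute.mul_pow (hQc x y) p) := ⟨_, rfl⟩
  have hπa : ∀ u, π u = u ^ p := by intro u; rw [hπ]; rfl
  obtain ⟨K₁, hK₁⟩ : ∃ K₁ : Subgroup H, K₁ = π.ker.comap (QuotientGroup.mk' C) := ⟨_, rfl⟩
  have hmemK : ∀ x : H, x ∈ K₁ ↔ x ^ p ∈ C := by
    intro x
    rw [hK₁, Subgroup.mem_comap, MonoidHom.mem_ker, hπa, QuotientGroup.mk'_apply,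
      ← QuotientGroup.mk_pow, QuotientGroup.eq_one_iff]
  have hidx1 : K₁.index = Nat.card π.range := by
    rw [hK₁, Subgroup.index_comap_of_surjective _ (QuotientGroup.mk'_surjective C),
      Subgroup.index_ker]
  have hBcard : Nat.card ((frattini H).map (QuotientGroup.mk' C)) = p := by
    have h1 := card_map_mk'_mul C (frattini H) hCΦ
    rw [hCcard, hΦ] at h1
    exact Nat.eq_of_mul_eq_mul_right hpp.pos (by rw [h1]; ring)
  have hrange : π.range ≤ (frattini H).map (QuotientGroup.mk' C) := by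
    rintro _ ⟨u, rfl⟩
    obtain ⟨x, rfl⟩ := QuotientGroup.mk_surjective u
    rw [hπa]
    exact ⟨x ^ p, pow_mem_frattini_of_isPGroup hH x, by
      rw [QuotientGroup.mk'_apply, QuotientGroup.mk_pow]⟩
  have hdvd : Nat.card π.range ∣ p := by rw [← hBcard]; exact Subgroup.card_dvd_of_le hrange
  have hne1 : Nat.card π.range ≠ 1 := by
    intro h1
    have hbot : π.range = ⊥ := Subgroup.card_eq_one.mp h1
    have hall : ∀ x : H, x ^ p ∈ C := by
      intro x
      rw [← hmemK, hK₁, Subgroup.mem_comap, MonoidHom.mem_ker]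
      have : π (QuotientGroup.mk' C x) ∈ π.range := ⟨_, rfl⟩
      rw [hbot, Subgroup.mem_bot] at this
      exact this
    have hle : frattini H ≤ C :=
      frattini_le_of_elementary_quotient (p := p) C (by rw [hCdef]) hall
    have := Subgroup.card_le_of_le hle
    rw [hΦ, hCcard] at this
    have h2 : p * p ≤ p * 1 := by rw [mul_one, ← pow_two]; exact this
    have h3 := Nat.le_of_mul_le_mul_left h2 hpp.pos
    have := hpp.one_lt
    omega
  have hK₁idx : K₁.index = p := by
    rw [hidx1]
    rcases (Nat.dvd_prime hpp).mp hdvd with h | h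
    · exact absurd h hne1
    · exact h
  have hΦK₁ : frattini H ≤ K₁ := frattini_le_of_index p hK₁idx
  have hrel : (frattini H).relIndex K₁ = p := by
    have h1 := Subgroup.relIndex_mul_index hΦK₁
    rw [hK₁idx, hΦidx] at h1
    have : (frattini H).relIndex K₁ * p = p * p := by rw [h1]; ring
    exact Nat.eq_of_mul_eq_mul_right hpp.pos this
  refine H9CS.chain2F_contra p hH A hN E hE K₁ ?_ ?_ ?_
  · intro α h hh
    rw [hmemK] at hh ⊢
    rw [← map_pow]
    rw [hCdef] at hh ⊢
    exact map_mem_commutator α hh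
  · rw [hrel]
  · rw [hK₁idx]

end Cfsg.Agent.H9P4
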