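import Mathlib
import Cfsg.Prelude
import Cfsg.Agent.Lib.Helper9.P4Class4
import Cfsg.Agent.Lib.Helper9.P4Class2
import Cfsg.Agent.Lib.Helper9.P3Class2
import Cfsg.Agent.Lib.Helper9.ExtraTransport
import Cfsg.Agent.Lib.Lead.OmegaAut

set_option autoImplicit false

/-!
# Nonabelian groups of order `p ^ 4` with Frattini subgroup of order `p` and noncyclic centre
-/

namespace Cfsg.Agent.H9P4

open Cfsg Cfsg.Agent.Lib.Lead Cfsg.Agent.Lib.Helper9
open scoped commutatorElement

/-- the standing assumptions -/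
structure D3 (p : ℕ) (H : Type*) [Group H] : Prop where
  hcard : Nat.card H = p ^ 4
  hna : ¬ ∀ a b : H, a * b = b * a
  hΦ : Nat.card (frattini H) = p
  hZexp : ∀ z ∈ Subgroup.center H, z ^ p = 1

namespace D3

variable {H : Type*} [Group H] [Finite H] {p : ℕ} [Fact p.Prime]

theorem hH (X : D3 p H) : IsPGroup p H := IsPGroup.of_card X.hcard

theorem hΦZ (X : D3 p H) : frattini H ≤ Subgroup.center H :=
  le_center_of_normal_of_card_prime X.hH (frattini H) X.hΦ

theorem hZcard (X : D3 p H) : Nat.card (Subgroup.center H) = p ^ 2 :=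
  card_center_of_frattini_le p X.hcard X.hna X.hΦZ

theorem hcomm (X : D3 p H) (x y : H) : ⁅x, y⁆ ∈ frattini H := commutator_mem_frattini p X.hH x y

theorem hpow (X : D3 p H) (x : H) : x ^ p ∈ frattini H := pow_mem_frattini_of_isPGroup X.hH x

theorem hΦpow (X : D3 p H) {w : H} (hw : w ∈ frattini H) : w ^ p = 1 := by
  have h1 : (⟨w, hw⟩ : frattini H) ^ Nat.card (frattini H) = 1 := pow_card_eq_one'
  rw [X.hΦ] at h1
  exact congrArg Subtype.val h1

theorem pow_sq (X : D3 p H) (x : H) : x ^ (p ^ 2) = 1 := by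
  rw [pow_two, pow_mul]
  exact X.hΦpow (X.hpow x)

theorem hZidx (X : D3 p H) : (Subgroup.center H).index = p ^ 2 := by
  have hpp : p.Prime := Fact.out
  have := Subgroup.card_mul_index (Subgroup.center H)
  rw [X.hZcard, X.hcard] at this
  have h3 : p ^ 2 * (Subgroup.center H).index = p ^ 2 * p ^ 2 := by rw [this]; ring
  exact Nat.eq_of_mul_eq_mul_left (pow_pos hpp.pos 2) h3

theorem hΦidx (X : D3 p H) : (frattini H).index = p ^ 3 := by
  have hpp : p.Prime := Fact.out
  have := Subgroup.card_mul_index (frattini H)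
  rw [X.hΦ, X.hcard] at this
  have h3 : p * (frattini H).index = p * p ^ 3 := by rw [this]; ring
  exact Nat.eq_of_mul_eq_mul_left hpp.pos h3

theorem relIndex_ΦZ (X : D3 p H) : (frattini H).relIndex (Subgroup.center H) = p := by
  have hpp : p.Prime := Fact.out
  have h1 := Subgroup.relIndex_mul_index X.hΦZ
  rw [X.hZidx, X.hΦidx] at h1
  have : (frattini H).relIndex (Subgroup.center H) * p ^ 2 = p * p ^ 2 := by rw [h1]; ring
  exact Nat.eq_of_mul_eq_mul_right (pow_pos hpp.pos 2) this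

theorem exists_z' (X : D3 p H) : ∃ z ∈ Subgroup.center H, z ∉ frattini H := by
  have hpp : p.Prime := Fact.out
  apply SetLike.exists_of_lt
  apply lt_of_le_of_ne X.hΦZ
  intro h
  have h1 := X.hZcard
  rw [← h, X.hΦ] at h1
  have : p ^ 1 = p ^ 2 := by rw [pow_one]; exact h1
  have := Nat.pow_right_injective hpp.two_le this
  omega

theorem split (X : D3 p H) {z' : H} (hzZ : z' ∈ Subgroup.center H) (hzΦ : z' ∉ frattini H) :
    ∃ M : Subgroup H, M.Normal ∧ M.index = p ∧ z' ∉ M ∧ Nat.card M = p ^ 3 ∧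
      (¬ ∀ a b : M, a * b = b * a) ∧ Nonempty (H ≃* M × Multiplicative (ZMod p)) := by
  have hpp : p.Prime := Fact.out
  obtain ⟨M, hMn, hMi, hzM⟩ := exists_index_p_not_mem p X.hH hzΦ
  have hMcard : Nat.card M = p ^ 3 := by
    have h1 := Subgroup.card_mul_index M
    rw [hMi, X.hcard] at h1
    have h2 : Nat.card M * p = p ^ 3 * p := by rw [h1]; ring
    exact Nat.eq_of_mul_eq_mul_right hpp.pos h2
  have iso := prod_iso p M z' hzZ (X.hZexp z' hzZ) hzM (by rw [hMcard, X.hcard]; ring)
  refine ⟨M, hMn, hMi, hzM, hMcard, ?_, iso⟩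
  obtain ⟨e⟩ := iso
  intro hM
  apply X.hna
  intro a b
  have h1 : e (a * b) = e (b * a) := by
    rw [map_mul, map_mul]
    exact Prod.ext (hM _ _) (mul_comm _ _)
  exact e.injective h1

theorem odd (X : D3 p H) (hp2 : p ≠ 2)
    (A : Subgroup (MulAut H)) (hN : ((Inn H).subgroupOf A).Normal)
    (E : Subgroup (A ⧸ (Inn H).subgroupOf A)) (hE : IsStronglyPEmbedded p E) :
    ∃ (E₀ : Type) (_ : Group E₀) (_ : Finite E₀), Cfsg.IsExtraspecial p E₀ ∧ Nat.card E₀ = p ^ 3 ∧
      (∀ x : E₀, x ^ p = 1) ∧ Nonempty (H ≃* E₀ × Multiplicative (ZMod p)) := by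
  have hpp : p.Prime := Fact.out
  have hmul : ∀ x y : H, (x * y) ^ p = x ^ p * y ^ p :=
    mul_pow_of_class_two_odd hp2 (fun a b => X.hΦZ (X.hcomm a b)) (fun a => X.hΦZ (X.hpow a))
  by_cases hexp : ∀ x : H, x ^ p = 1
  · obtain ⟨z', hz'Z, hz'Φ⟩ := X.exists_z'
    obtain ⟨M, hMn, hMi, hzM, hMcard, hMna, ⟨iso⟩⟩ := X.split hz'Z hz'Φ
    have hMes : IsExtraspecial p M := H9P3.isExtraspecial_of_nonab p hMcard hMna
    obtain ⟨e'⟩ : Nonempty (Shrink.{0} ↥M ≃* ↥M) := ⟨Shrink.mulEquiv⟩
    haveI : Finite (Shrink.{0} ↥M) := Finite.of_equiv _ e'.symm.toEquiv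
    refine ⟨Shrink.{0} ↥M, inferInstance, inferInstance, ?_, ?_, ?_, ?_⟩
    · exact isExtraspecial_of_mulEquiv e'.symm hMes
    · rw [Nat.card_congr e'.toEquiv]; exact hMcard
    · intro x
      apply e'.injective
      rw [map_pow, map_one]
      apply Subtype.ext
      rw [Subgroup.coe_pow, Subgroup.coe_one]
      exact hexp _
    · exact ⟨iso.trans (MulEquiv.prodCongr e'.symm (MulEquiv.refl _))⟩
  · exfalso
    push Not at hexp
    obtain ⟨π, hπ⟩ : ∃ π : H →* H, π = H9P3.powHom p hmul := ⟨_, rfl⟩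
    have hπa : ∀ x, π x = x ^ p := by intro x; rw [hπ]; rfl
    have hrange : π.range ≤ frattini H := by
      rintro _ ⟨x, rfl⟩
      rw [hπa]
      exact X.hpow x
    have hrcard : Nat.card π.range = p := by
      have hd : Nat.card π.range ∣ p := by
        have := Subgroup.card_dvd_of_le hrange
        rw [X.hΦ] at this
        exact this
      rcases (Nat.dvd_prime hpp).mp hd with h | h
      · exfalso
        obtain ⟨x, hx⟩ := hexp
        apply hx
        have hbot := Subgroup.card_eq_one.mp h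
        have hm : π x ∈ π.range := ⟨x, rfl⟩
        rw [hbot, Subgroup.mem_bot, hπa] at hm
        exact hm
      · exact h
    have hkidx : π.ker.index = p := by rw [Subgroup.index_ker, hrcard]
    have hZker : Subgroup.center H ≤ π.ker := by
      intro z hz
      rw [MonoidHom.mem_ker, hπa]
      exact X.hZexp z hz
    refine chain3F_contra p X.hH A hN E hE (Subgroup.center H) π.ker ?_ ?_ ?_ ?_ ?_
    · intro α z hz
      exact map_mem_center α hz
    · intro α x hx
      rw [MonoidHom.mem_ker, hπa] at hx ⊢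
      rw [← map_pow, hx, map_one]
    · rw [X.relIndex_ΦZ]
    · have h1 := Subgroup.relIndex_mul_index hZker
      rw [hkidx, X.hZidx] at h1
      have : (Subgroup.center H).relIndex π.ker * p = p * p := by rw [h1]; ring
      rw [Nat.eq_of_mul_eq_mul_right hpp.pos this]
    · rw [hkidx]

end D3

end Cfsg.Agent.H9P4
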