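import Mathlib
import Cfsg.Prelude
import Cfsg.Agent.Lib.Helper9.P4Class6

set_option autoImplicit false

/-!
# Nonabelian groups of order `2 ^ 4` with Frattini subgroup of order `2` and noncyclic centre
-/

namespace Cfsg.Agent.H9P4

open Cfsg Cfsg.Agent.Lib.Lead Cfsg.Agent.Lib.Helper9
open scoped commutatorElement

namespace D3

variable {H : Type*} [Group H] [Finite H]

theorem two [Fact (Nat.Prime 2)] (X : D3 2 H)
    (A : Subgroup (MulAut H)) (hN : ((Inn H).subgroupOf A).Normal)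
    (E : Subgroup (A ⧸ (Inn H).subgroupOf A)) (hE : IsStronglyPEmbedded 2 E) :
    Nonempty (H ≃* QuaternionGroup 2 × Multiplicative (ZMod 2)) := by
  have huniq : ∀ u ∈ frattini H, ∀ v ∈ frattini H, u ≠ 1 → v ≠ 1 → u = v := by
    intro u hu v hv hu1 hv1
    have h1 := (Nat.card_eq_two_iff' (1 : frattini H)).mp X.hΦ
    have h2 : (⟨u, hu⟩ : frattini H) ≠ 1 := fun h => hu1 (congrArg Subtype.val h)
    have h3 : (⟨v, hv⟩ : frattini H) ≠ 1 := fun h => hv1 (congrArg Subtype.val h)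
    exact congrArg Subtype.val (h1.unique h2 h3)
  obtain ⟨a, ha2⟩ : ∃ a : H, a ^ 2 ≠ 1 := by
    by_contra hcon
    push Not at hcon
    exact X.hna (H9P3.comm_of_sq hcon)
  have ha4 : a ^ 4 = 1 := X.pow_sq a
  have haZ : a ∉ Subgroup.center H := fun h => ha2 (X.hZexp a h)
  obtain ⟨M, hM⟩ : ∃ M : Subgroup H, M = Subgroup.centralizer ({a} : Set H) := ⟨_, rfl⟩
  have hMmem : ∀ x : H, x ∈ M ↔ x * a = a * x := by
    intro x
    rw [hM, Subgroup.mem_centralizer_singleton_iff]
  have hMi : M.index = 2 := by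
    rw [hM]
    exact index_centralizer_eq 2 (frattini H) X.hΦ X.hΦZ a (fun h => X.hcomm h a) haZ
  have ha3 : a ^ 3 = a⁻¹ := by
    rw [eq_inv_iff_mul_eq_one, ← pow_succ]
    exact ha4
  have hconj : ∀ x : H, x ∉ M → x * a * x⁻¹ = a⁻¹ := by
    intro x hx
    have h1 : ⁅x, a⁆ ≠ 1 := by
      intro h
      rw [commutatorElement_eq_one_iff_mul_comm] at h
      exact hx ((hMmem x).mpr h)
    have h2 := huniq _ (X.hcomm x a) _ (X.hpow a) h1 ha2
    rw [commutatorElement_def] at h2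
    calc x * a * x⁻¹ = (x * a * x⁻¹ * a⁻¹) * a := by group
      _ = a ^ 2 * a := by rw [h2]
      _ = a ^ 3 := by rw [← pow_succ]
      _ = a⁻¹ := ha3
  have hsqM : ∀ x : H, x ^ 2 = 1 ∨ x ^ 2 = a ^ 2 := by
    intro x
    by_cases h : x ^ 2 = 1
    · left; exact h
    · right; exact huniq _ (X.hpow x) _ (X.hpow a) h ha2
  have hZM : Subgroup.center H ≤ M := by
    intro z hz
    rw [hMmem]
    exact (Subgroup.mem_center_iff.mp hz a).symm
  by_cases hQ : ∃ b : H, b ∉ M ∧ b ^ 2 = a ^ 2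
  · obtain ⟨b, hbM, hb2⟩ := hQ
    obtain ⟨z', hz'Z, hz'Φ⟩ := X.exists_z'
    obtain ⟨M₀, hM₀n, hM₀i, hzM₀, hM₀card, hM₀na, ⟨iso⟩⟩ := X.split hz'Z hz'Φ
    have adj : ∀ g : H, ∃ ζ ∈ Subgroup.center H, ζ * ζ = 1 ∧ g * ζ ∈ M₀ := by
      intro g
      by_cases hg : g ∈ M₀
      · exact ⟨1, Subgroup.one_mem _, mul_one 1, by rw [mul_one]; exact hg⟩
      · refine ⟨z', hz'Z, ?_, ?_⟩
        · rw [← pow_two]; exact X.hZexp z' hz'Z
        · rw [Subgroup.mul_mem_iff_of_index_two hM₀i]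
          exact ⟨fun h => absurd h hg, fun h => absurd h hzM₀⟩
    obtain ⟨ζ, hζZ, hζ2, haM₀⟩ := adj a
    obtain ⟨η, hηZ, hη2, hbM₀⟩ := adj b
    have hζ : ∀ g : H, g * ζ = ζ * g := Subgroup.mem_center_iff.mp hζZ
    have hη : ∀ g : H, g * η = η * g := Subgroup.mem_center_iff.mp hηZ
    have hζinv : ζ⁻¹ = ζ := inv_eq_of_mul_eq_one_right hζ2
    have ha₀2 : (a * ζ) ^ 2 = a ^ 2 := by
      rw [Commute.mul_pow (hζ a) 2, pow_two ζ, hζ2, mul_one]
    have hb₀2 : (b * η) ^ 2 = (a * ζ) ^ 2 := by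
      rw [ha₀2, Commute.mul_pow (hη b) 2, pow_two η, hη2, mul_one, hb2]
    have ha₀ord : orderOf (a * ζ) = 2 * 2 := by
      have := orderOf_eq_prime_pow (p := 2) (n := 1) (x := a * ζ)
        (by rw [pow_one, ha₀2]; exact ha2) (X.pow_sq _)
      rw [this]
      norm_num
    have hconj₀ : (b * η) * (a * ζ) * (b * η)⁻¹ = (a * ζ)⁻¹ := by
      calc b * η * (a * ζ) * (b * η)⁻¹ = b * (η * (a * ζ) * η⁻¹) * b⁻¹ := by group
        _ = b * (a * ζ) * b⁻¹ := by rw [← hη (a * ζ), mul_inv_cancel_right]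
        _ = b * a * (ζ * b⁻¹) := by group
        _ = b * a * (b⁻¹ * ζ) := by rw [hζ b⁻¹]
        _ = (b * a * b⁻¹) * ζ := by group
        _ = a⁻¹ * ζ := by rw [hconj b hbM]
        _ = ζ * a⁻¹ := hζ a⁻¹
        _ = (a * ζ)⁻¹ := by rw [mul_inv_rev, hζinv]
    have hnot : b * η ∉ Subgroup.zpowers (a * ζ) := by
      intro h
      obtain ⟨k, hk⟩ := Subgroup.mem_zpowers_iff.mp h
      have hc : Commute (b * η) (a * ζ) := by
        rw [← hk]
        exact (Commute.refl (a * ζ)).zpow_left k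
      have h1 : (b * η) * (a * ζ) * (b * η)⁻¹ = a * ζ := by
        rw [hc.eq, mul_inv_cancel_right]
      rw [hconj₀] at h1
      apply ha2
      rw [← ha₀2, pow_two]
      nth_rewrite 1 [← h1]
      exact inv_mul_cancel _
    have hQ8 : Nonempty (↥M₀ ≃* QuaternionGroup 2) := by
      refine quaternion_recognition 2 (⟨a * ζ, haM₀⟩ : M₀) (⟨b * η, hbM₀⟩ : M₀) ?_ ?_ ?_ ?_ ?_
      · rw [Subgroup.orderOf_mk]; exact ha₀ord
      · apply Subtype.ext
        rw [Subgroup.coe_pow, Subgroup.coe_pow]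
        exact hb₀2
      · apply Subtype.ext
        rw [Subgroup.coe_mul, Subgroup.coe_mul, Subgroup.coe_inv, Subgroup.coe_inv]
        exact hconj₀
      · intro h
        apply hnot
        obtain ⟨k, hk⟩ := Subgroup.mem_zpowers_iff.mp h
        have := congrArg Subtype.val hk
        rw [Subgroup.coe_zpow] at this
        exact Subgroup.mem_zpowers_iff.mpr ⟨k, this⟩
      · rw [hM₀card]; norm_num
    obtain ⟨eQ⟩ := hQ8
    exact ⟨iso.trans (MulEquiv.prodCongr eQ (MulEquiv.refl _))⟩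
  · exfalso
    push Not at hQ
    have hD : ∀ x : H, x ∉ M → x ^ 2 = 1 := by
      intro x hx
      rcases hsqM x with h | h
      · exact h
      · exact absurd h (hQ x hx)
    have hmemM : ∀ y : H, y ^ 2 ≠ 1 → y ∈ M := by
      intro y hy
      by_contra hyM
      exact hy (hD y hyM)
    refine chain3F_contra 2 X.hH A hN E hE (Subgroup.center H) M ?_ ?_ ?_ ?_ ?_
    · intro α z hz
      exact map_mem_center α hz
    · intro α h hh
      by_contra hn
      have h1 : (α a) ^ 2 ≠ 1 := by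
        rw [← map_pow]
        intro h0
        apply ha2
        exact α.injective (h0.trans (map_one α).symm)
      have h2 : α a ∈ M := hmemM _ h1
      have h3 : α h * α a ∉ M := by
        intro h4
        apply hn
        have : α h = (α h * α a) * (α a)⁻¹ := by group
        rw [this]
        exact M.mul_mem h4 (M.inv_mem h2)
      have hc : Commute (α h) (α a) := by
        have := (hMmem h).mp hh
        show α h * α a = α a * α h
        rw [← map_mul, ← map_mul, this]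
      have h5 := hD _ h3
      rw [hc.mul_pow, hD _ hn, one_mul] at h5
      exact h1 h5
    · rw [X.relIndex_ΦZ]
    · have h1 := Subgroup.relIndex_mul_index hZM
      rw [hMi, X.hZidx] at h1
      have : (Subgroup.center H).relIndex M = 2 := by omega
      rw [this]
    · rw [hMi]

end D3

end Cfsg.Agent.H9P4
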