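import Mathlib
import Cfsg.Prelude
import Cfsg.Agent.Lib.Helper9.P4Class3
import Cfsg.Agent.Lib.Helper9.P4Class5
import Cfsg.Agent.Lib.Helper9.P4Class7
import Cfsg.Agent.Lib.Helper9.AbelP5

set_option autoImplicit false

/-!
# Groups of order `p ^ 4` whose automizer has a strongly `p`-embedded subgroup modulo inner automorphisms
-/

namespace Cfsg.Agent.H9P4

open Cfsg Cfsg.Agent.Lib.Lead Cfsg.Agent.Lib.Helper9
open scoped commutatorElement

variable {H : Type*} [Group H] [Finite H]

theorem pow_sq_of_frattini (p : ℕ) [Fact p.Prime] (hH : IsPGroup p H)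
    (hΦ : Nat.card (frattini H) = p) (x : H) : x ^ (p ^ 2) = 1 := by
  rw [pow_two, pow_mul]
  have hw := pow_mem_frattini_of_isPGroup hH x
  have h1 : (⟨x ^ p, hw⟩ : frattini H) ^ Nat.card (frattini H) = 1 := pow_card_eq_one'
  rw [hΦ] at h1
  exact congrArg Subtype.val h1

theorem aut_p4 (p : ℕ) [Fact p.Prime] (hcard : Nat.card H = p ^ 4)
    (A : Subgroup (MulAut H)) (hN : ((Inn H).subgroupOf A).Normal)
    (E : Subgroup (A ⧸ (Inn H).subgroupOf A)) (hE : IsStronglyPEmbedded p E) :
    ((∀ a b : H, a * b = b * a) ∧ ∀ a : H, a ^ p = 1) ∨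
      Nonempty (H ≃* Multiplicative (ZMod (p ^ 2) × ZMod p × ZMod p)) ∨
      ((p = 2 ∨ p = 3) ∧ Nonempty (H ≃* Multiplicative (ZMod (p ^ 2) × ZMod (p ^ 2)))) ∨
      (Odd p ∧ ∃ (E₀ : Type) (_ : Group E₀) (_ : Finite E₀), Cfsg.IsExtraspecial p E₀ ∧
        Nat.card E₀ = p ^ 3 ∧ (∀ x : E₀, x ^ p = 1) ∧
        Nonempty (H ≃* E₀ × Multiplicative (ZMod p))) ∨
      (p = 2 ∧ Nonempty (H ≃* QuaternionGroup 2 × Multiplicative (ZMod 2))) ∨
      ((¬ ∀ a b : H, a * b = b * a) ∧ (∀ x : H, x ^ (p ^ 2) = 1) ∧
        IsCyclic (Subgroup.center H) ∧ Nat.card (Subgroup.center H) = p ^ 2) := by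
  have hpp : p.Prime := Fact.out
  have hH : IsPGroup p H := IsPGroup.of_card hcard
  obtain ⟨k, hk4, hΦcard, hΦidx⟩ := card_sub p hcard (frattini H)
  by_cases hk3 : 3 ≤ k
  · exfalso
    refine H9CS.chain2F_contra p hH A hN E hE ⊤ (fun _ _ _ => Subgroup.mem_top _) ?_ ?_
    · rw [Subgroup.relIndex_top_right, hΦidx]
      calc p ^ (4 - k) ∣ p ^ 1 := pow_dvd_pow p (by omega)
        _ = p := pow_one p
    · rw [Subgroup.index_top]; exact one_dvd p
  by_cases hab : ∀ a b : H, a * b = b * a
  · interval_cases k
    · left
      refine ⟨hab, ?_⟩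
      intro a
      have hbot : frattini H = ⊥ := Subgroup.card_eq_one.mp (by rw [hΦcard, pow_zero])
      have := pow_mem_frattini_of_isPGroup hH a
      rw [hbot, Subgroup.mem_bot] at this
      exact this
    · right; left
      letI : CommGroup H := { (inferInstance : Group H) with mul_comm := hab }
      exact abelian_d3 p hcard (by rw [hΦcard, pow_one])
    · right; right; left
      letI : CommGroup H := { (inferInstance : Group H) with mul_comm := hab }
      have hidx2 : (frattini H).index ≤ p ^ 2 := by rw [hΦidx]
      rcases H9AbP.aut_abelian_rank2 p hH hidx2 A hN E hE with ⟨_, hc⟩ | ⟨h3, j, ⟨iso⟩⟩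
      · exfalso
        rw [hcard] at hc
        have := Nat.pow_right_injective hpp.two_le hc
        omega
      · have hj : j = 2 := by
          have h1 := Nat.card_congr iso.toEquiv
          rw [hcard] at h1
          have h2 : Nat.card (Multiplicative (ZMod (p ^ j) × ZMod (p ^ j))) = p ^ j * p ^ j := by
            show Nat.card (ZMod (p ^ j) × ZMod (p ^ j)) = _
            rw [Nat.card_prod, Nat.card_zmod]
          rw [h2, ← pow_add] at h1
          have := Nat.pow_right_injective hpp.two_le h1
          omega
        subst hj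
        refine ⟨?_, ⟨iso⟩⟩
        have h2 := hpp.two_le
        omega
  · by_cases hΦZ : frattini H ≤ Subgroup.center H
    · interval_cases k
      · exfalso
        apply hab
        intro a b
        have hbot : frattini H = ⊥ := Subgroup.card_eq_one.mp (by rw [hΦcard, pow_zero])
        have := commutator_mem_frattini p hH a b
        rw [hbot, Subgroup.mem_bot, commutatorElement_eq_one_iff_mul_comm] at this
        exact this
      · have hΦ1 : Nat.card (frattini H) = p := by rw [hΦcard, pow_one]
        have hZcard := card_center_of_frattini_le p hcard hab hΦZ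
        by_cases hcyc : IsCyclic (Subgroup.center H)
        · right; right; right; right; right
          exact ⟨hab, pow_sq_of_frattini p hH hΦ1, hcyc, hZcard⟩
        · have hZexp : ∀ z ∈ Subgroup.center H, z ^ p = 1 := by
            intro z hz
            have hd : orderOf (⟨z, hz⟩ : Subgroup.center H) ∣ p ^ 2 :=
              hZcard ▸ orderOf_dvd_natCard _
            obtain ⟨j, hj, hj'⟩ := (Nat.dvd_prime_pow hpp).mp hd
            have hj2 : j ≠ 2 := by
              rintro rfl
              exact hcyc (isCyclic_of_orderOf_eq_card _ (by rw [hj', hZcard]))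
            have : (⟨z, hz⟩ : Subgroup.center H) ^ p = 1 := by
              apply orderOf_dvd_iff_pow_eq_one.mp
              rw [hj']
              calc p ^ j ∣ p ^ 1 := pow_dvd_pow p (by omega)
                _ = p := pow_one p
            exact congrArg Subtype.val this
          have X : D3 p H := ⟨hcard, hab, hΦ1, hZexp⟩
          by_cases hp2 : p = 2
          · subst hp2
            right; right; right; right; left
            exact ⟨rfl, X.two A hN E hE⟩
          · right; right; right; left
            exact ⟨hpp.odd_of_ne_two hp2, X.odd hp2 A hN E hE⟩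
      · exfalso
        exact contra_frattini_eq_center p hcard hab hΦcard hΦZ A hN E hE
    · exfalso
      interval_cases k
      · apply hΦZ
        have hbot : frattini H = ⊥ := Subgroup.card_eq_one.mp (by rw [hΦcard, pow_zero])
        rw [hbot]
        exact bot_le
      · apply hΦZ
        exact le_center_of_normal_of_card_prime hH (frattini H) (by rw [hΦcard, pow_one])
      · exact contra_not_le_center p hcard hΦcard hΦZ A hN E hE

end Cfsg.Agent.H9P4
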