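import Mathlib
import Cfsg.Prelude.Def_Solvable
import Cfsg.Prelude.Def_Transfer
import Cfsg.Agent.Lib.Helper9.CharSimple2
import Cfsg.Agent.S5913

/-!
# S4587 swarm, package P7: structure of a nonabelian non-simple minimal normal subgroup
-/

set_option autoImplicit false

namespace Cfsg.Agent.Lib.Helper2.PAb

namespace P7

section pi

variable {T : Type*} [Group T] (m : ℕ)

/-- the `i`-th factor of the power. -/
def factor (i : Fin m) : Subgroup (Fin m → T) := (MonoidHom.mulSingle (fun _ : Fin m => T) i).range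

theorem mem_factor_iff (i : Fin m) (x : Fin m → T) :
    x ∈ factor m i ↔ ∀ j, j ≠ i → x j = 1 := by
  constructor
  · rintro ⟨t, rfl⟩ j hj
    simp [Pi.mulSingle_eq_of_ne hj]
  · intro h
    refine ⟨x i, ?_⟩
    funext j
    by_cases hj : j = i
    · subst hj; simp
    · simp [Pi.mulSingle_eq_of_ne hj, h j hj]

theorem card_factor [Finite T] (i : Fin m) : Nat.card (factor (T := T) m i) = Nat.card T := by
  classical
  unfold factor
  exact Nat.card_congr (Equiv.ofInjective _ (Pi.mulSingle_injective i)).symm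

/-- an automorphism of a power of a nonabelian simple group permutes the factors. -/
theorem exists_map_factor [Finite T] [IsSimpleGroup T] (hT : ¬ IsMulCommutative T)
    (α : (Fin m → T) ≃* (Fin m → T)) (i : Fin m) :
    ∃ j, (factor m i).map α.toMonoidHom = factor m j := by
  classical
  have hnorm : ((factor (T := T) m i).map α.toMonoidHom).Normal := by
    have h1 : (factor (T := T) m i).Normal := by
      unfold factor
      refine ⟨?_⟩
      rintro _ ⟨t, rfl⟩ g
      refine ⟨g i * t * (g i)⁻¹, ?_⟩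
      funext j
      by_cases hj : j = i
      · subst hj; simp
      · simp [Pi.mulSingle_eq_of_ne hj]
    exact h1.map _ α.surjective
  obtain ⟨t₁, ht₁⟩ : ∃ t : T, t ≠ 1 := exists_ne 1
  let x := α (Pi.mulSingle i t₁)
  have hx : x ∈ (factor (T := T) m i).map α.toMonoidHom := ⟨_, ⟨t₁, rfl⟩, rfl⟩
  have hx1 : x ≠ 1 := by
    intro h
    have h2 : Pi.mulSingle i t₁ = (1 : Fin m → T) := α.injective (by rw [map_one]; exact h)
    have := congrFun h2 i
    simp at this
    exact ht₁ this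
  obtain ⟨j, hj⟩ : ∃ j, x j ≠ 1 := by
    by_contra hcon
    push Not at hcon
    exact hx1 (funext hcon)
  refine ⟨j, ?_⟩
  have hle : factor m j ≤ (factor (T := T) m i).map α.toMonoidHom := by
    rintro _ ⟨t, rfl⟩
    have := hnorm
    exact Cfsg.Agent.S5913.mulSingle_mem hT m _ j x hx hj t
  symm
  apply Subgroup.eq_of_le_of_card_ge hle
  rw [card_factor, Subgroup.card_map_of_injective α.injective, card_factor]

end pi

end P7

open P7

variable {G : Type*} [Group G]

/-- **P7 (structure of a nonabelian non-simple minimal normal subgroup)**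
(via `Cfsg.Agent.H9CharSimple.exists_power_of_char_simple`). -/
theorem exists_simple_factor [Finite G] (N : Subgroup G) [N.Normal] (hN1 : N ≠ ⊥)
    (hmin : ∀ M : Subgroup G, M.Normal → M ≠ ⊥ → M ≤ N → M = N)
    (hnab : ¬ ∀ a ∈ N, ∀ b ∈ N, a * b = b * a) (hns : ¬ IsSimpleGroup N) :
    ∃ (S V : Subgroup G) (k : ℕ), 2 ≤ k ∧ S ≤ N ∧ V ≤ N ∧ S ⊓ V = ⊥ ∧ S ⊔ V = N ∧
      N ≤ Subgroup.normalizer (S : Set G) ∧ N ≤ Subgroup.normalizer (V : Set G) ∧ (∀ s ∈ S, ∀ v ∈ V, s * v = v * s) ∧
      Nat.card N = Nat.card S ^ k ∧ Nat.card V = Nat.card S ^ (k - 1) ∧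
      (∀ g : G, g ∈ Subgroup.normalizer (S : Set G) ∨ ∀ s ∈ S, g * s * g⁻¹ ∈ V) ∧
      Subgroup.normalizer (S : Set G) ≤ Subgroup.normalizer (V : Set G) ∧
      (∀ (p : ℕ) [Fact p.Prime], ¬ p ^ 2 ∣ Nat.card S → ∀ Q : Subgroup G, Q ≤ N → IsPGroup p Q →
        ∀ a ∈ Q, ∀ b ∈ Q, a * b = b * a) := by
  classical
  have : Nontrivial ↥N := (Subgroup.nontrivial_iff_ne_bot N).mpr hN1
  -- `N` is characteristically simple
  have hchar : ∀ H : Subgroup ↥N, H.Characteristic → H = ⊥ ∨ H = ⊤ := by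
    intro H hH
    have hn : (H.map N.subtype).Normal := by
      refine ⟨?_⟩
      rintro _ ⟨a, ha, rfl⟩ g
      refine ⟨MulAut.conjNormal g a, ?_, ?_⟩
      · have := (Subgroup.characteristic_iff_map_le.mp hH) (MulAut.conjNormal g)
        exact this ⟨a, ha, rfl⟩
      · simp [MulAut.conjNormal_apply]
    by_cases hb : H.map N.subtype = ⊥
    · left; exact (Subgroup.map_eq_bot_iff_of_injective H N.subtype_injective).mp hb
    · right
      have h1 := hmin _ hn hb (by rintro _ ⟨a, _, rfl⟩; exact a.2)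
      rw [eq_top_iff]
      intro n _
      have hn' : (n : G) ∈ H.map N.subtype := by rw [h1]; exact n.2
      obtain ⟨a, ha, hna⟩ := hn'
      have : a = n := Subtype.ext hna
      rw [← this]; exact ha
  obtain ⟨S₀, hS₀, k, hk1, ⟨e⟩⟩ := Cfsg.Agent.H9CharSimple.exists_power_of_char_simple hchar
  have := hS₀
  -- `S₀` is nonabelian
  have hT : ¬ IsMulCommutative ↥S₀ := by
    intro hc
    apply hnab
    intro a ha b hb
    have h1 : e ⟨a, ha⟩ * e ⟨b, hb⟩ = e ⟨b, hb⟩ * e ⟨a, ha⟩ := by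
      funext i
      exact mul_comm' _ _
    rw [← map_mul, ← map_mul] at h1
    have h2 := e.injective h1
    exact congrArg Subtype.val h2
  -- `k ≥ 2`
  have hk2 : 2 ≤ k := by
    by_contra hlt
    have hk : k = 1 := by omega
    subst hk
    apply hns
    exact (e.trans (MulEquiv.funUnique (Fin 1) ↥S₀)).isSimpleGroup
  let i0 : Fin k := ⟨0, by omega⟩
  let ι : (Fin k → ↥S₀) →* G := N.subtype.comp e.symm.toMonoidHom
  have hι : Function.Injective ι := N.subtype_injective.comp e.symm.injective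
  have hιN : ∀ x, ι x ∈ N := fun x => (e.symm x).2
  have hιsurj : ∀ n ∈ N, ∃ x, ι x = n := by
    intro n hn
    refine ⟨e ⟨n, hn⟩, ?_⟩
    show ((e.symm (e ⟨n, hn⟩) : ↥N) : G) = n
    rw [MulEquiv.symm_apply_apply]
  let Vπ : Subgroup (Fin k → ↥S₀) := (Pi.evalMonoidHom (fun _ : Fin k => ↥S₀) i0).ker
  have hVπ : ∀ x : Fin k → ↥S₀, x ∈ Vπ ↔ x i0 = 1 := fun x => Iff.rfl
  have hfac_normal : (factor (T := ↥S₀) k i0).Normal := by
    refine ⟨?_⟩
    intro x hx g
    rw [mem_factor_iff] at hx ⊢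
    intro j hj
    simp [hx j hj]
  refine ⟨(factor k i0).map ι, Vπ.map ι, k, hk2, ?_, ?_, ?_, ?_, ?_, ?_, ?_, ?_, ?_, ?_, ?_, ?_⟩
  · rintro _ ⟨x, -, rfl⟩; exact hιN x
  · rintro _ ⟨x, -, rfl⟩; exact hιN x
  · -- `S ⊓ V = ⊥`
    rw [← Subgroup.map_inf _ _ ι hι]
    have : factor (T := ↥S₀) k i0 ⊓ Vπ = ⊥ := by
      rw [eq_bot_iff]
      rintro x ⟨hx1, hx2⟩
      replace hx1 : x ∈ factor (T := ↥S₀) k i0 := hx1
      replace hx2 : x ∈ Vπ := hx2
      rw [mem_factor_iff] at hx1
      rw [hVπ] at hx2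
      rw [Subgroup.mem_bot]
      funext j
      by_cases hj : j = i0
      · rw [hj]; exact hx2
      · exact hx1 j hj
    rw [this, Subgroup.map_bot]
  · -- `S ⊔ V = N`
    rw [← Subgroup.map_sup]
    have : factor (T := ↥S₀) k i0 ⊔ Vπ = ⊤ := by
      rw [eq_top_iff]
      intro x _
      have hx : x = Pi.mulSingle i0 (x i0) * (Function.update x i0 1) := by
        funext j
        by_cases hj : j = i0
        · subst hj; simp
        · simp [Pi.mulSingle_eq_of_ne hj, Function.update_of_ne hj]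
      rw [hx]
      apply Subgroup.mul_mem
      · exact Subgroup.mem_sup_left ⟨x i0, rfl⟩
      · apply Subgroup.mem_sup_right
        rw [hVπ]
        simp
    rw [this]
    ext n
    constructor
    · rintro ⟨x, -, rfl⟩; exact hιN x
    · intro hn
      obtain ⟨x, rfl⟩ := hιsurj n hn
      exact ⟨x, Subgroup.mem_top _, rfl⟩
  · -- `N` normalizes `S`
    intro n hn
    obtain ⟨y, rfl⟩ := hιsurj n hn
    rw [Subgroup.mem_normalizer_iff]
    intro h
    constructor
    · rintro ⟨x, hx, rfl⟩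
      refine ⟨y * x * y⁻¹, hfac_normal.conj_mem x hx y, ?_⟩
      simp
    · rintro ⟨x, hx, hxe⟩
      refine ⟨y⁻¹ * x * y, ?_, ?_⟩
      · have := hfac_normal.conj_mem x hx y⁻¹
        simpa using this
      · rw [map_mul, map_mul, hxe, map_inv]
        group
  · -- `N` normalizes `V`
    have hVn : Vπ.Normal := MonoidHom.normal_ker _
    intro n hn
    obtain ⟨y, rfl⟩ := hιsurj n hn
    rw [Subgroup.mem_normalizer_iff]
    intro h
    constructor
    · rintro ⟨x, hx, rfl⟩
      refine ⟨y * x * y⁻¹, hVn.conj_mem x hx y, ?_⟩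
      simp
    · rintro ⟨x, hx, hxe⟩
      refine ⟨y⁻¹ * x * y, ?_, ?_⟩
      · have := hVn.conj_mem x hx y⁻¹
        simpa using this
      · rw [map_mul, map_mul, hxe, map_inv]
        group
  · -- commute
    rintro _ ⟨x, hx, rfl⟩ _ ⟨y, hy, rfl⟩
    rw [← map_mul, ← map_mul]
    congr 1
    replace hx : x ∈ factor (T := ↥S₀) k i0 := hx
    replace hy : y ∈ Vπ := hy
    rw [mem_factor_iff] at hx
    rw [hVπ] at hy
    funext j
    by_cases hj : j = i0
    · rw [hj, Pi.mul_apply, Pi.mul_apply, hy, mul_one, one_mul]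
    · rw [Pi.mul_apply, Pi.mul_apply, hx j hj, mul_one, one_mul]
  · -- `|N| = |S| ^ k`
    rw [Subgroup.card_map_of_injective hι, card_factor]
    have h1 : Nat.card ↥N = Nat.card (Fin k → ↥S₀) := Nat.card_congr e.toEquiv
    rw [h1, Nat.card_fun, Nat.card_fin]
  · -- `|V| = |S| ^ (k - 1)`
    rw [Subgroup.card_map_of_injective hι, Subgroup.card_map_of_injective hι, card_factor]
    have h1 : Nat.card ↥Vπ * Nat.card ↥S₀ = Nat.card ↥S₀ ^ k := by
      have h2 := Subgroup.card_mul_index Vπ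
      rw [Subgroup.index_ker] at h2
      have h3 : (Pi.evalMonoidHom (fun _ : Fin k => ↥S₀) i0).range = ⊤ := by
        rw [MonoidHom.range_eq_top]
        intro t
        exact ⟨fun _ => t, rfl⟩
      rw [h3, Subgroup.card_top, Nat.card_fun, Nat.card_fin] at h2
      exact h2
    have hpos : 0 < Nat.card ↥S₀ := Nat.card_pos
    have h4 : Nat.card ↥S₀ ^ k = Nat.card ↥S₀ ^ (k - 1) * Nat.card ↥S₀ := by
      rw [← pow_succ]; congr 1; omega
    rw [h4] at h1
    exact Nat.eq_of_mul_eq_mul_right hpos h1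
  · -- dichotomy
    intro g
    let αg : ↥N ≃* ↥N := MulAut.conjNormal g
    let α : (Fin k → ↥S₀) ≃* (Fin k → ↥S₀) := (e.symm.trans αg).trans e
    have hα : ∀ x, ι (α x) = g * ι x * g⁻¹ := by
      intro x
      show ((e.symm (e (αg (e.symm x))) : ↥N) : G) = g * ((e.symm x : ↥N) : G) * g⁻¹
      rw [MulEquiv.symm_apply_apply]
      exact MulAut.conjNormal_apply g (e.symm x)
    obtain ⟨j, hj⟩ := exists_map_factor k hT α i0
    by_cases hj0 : j = i0
    · left
      rw [hj0] at hj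
      rw [Subgroup.mem_normalizer_iff]
      intro h
      constructor
      · rintro ⟨x, hx, rfl⟩
        refine ⟨α x, ?_, hα x⟩
        rw [← hj]
        exact ⟨x, hx, rfl⟩
      · rintro ⟨x, hx, hxe⟩
        rw [← hj] at hx
        obtain ⟨x', hx', rfl⟩ := hx
        refine ⟨x', hx', ?_⟩
        have h1 : ι (α x') = g * h * g⁻¹ := hxe
        rw [hα] at h1
        have h2 : g⁻¹ * (g * ι x' * g⁻¹) * g = g⁻¹ * (g * h * g⁻¹) * g := by rw [h1]
        simpa [mul_assoc] using h2
    · right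
      rintro _ ⟨x, hx, rfl⟩
      refine ⟨α x, ?_, hα x⟩
      have h1 : α x ∈ factor (T := ↥S₀) k j := by
        rw [← hj]; exact ⟨x, hx, rfl⟩
      rw [mem_factor_iff] at h1
      show α x ∈ Vπ
      rw [hVπ]
      exact h1 i0 (fun h => hj0 h.symm)
  · -- `N_G(S) ≤ N_G(V)`
    have hVchar : ∀ z : G, z ∈ Vπ.map ι ↔ z ∈ N ∧ ∀ s ∈ (factor (T := ↥S₀) k i0).map ι, z * s = s * z := by
      intro z
      constructor
      · rintro ⟨y, hy, rfl⟩
        refine ⟨hιN y, ?_⟩
        rintro _ ⟨x, hx, rfl⟩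
        rw [← map_mul, ← map_mul]
        congr 1
        replace hx : x ∈ factor (T := ↥S₀) k i0 := hx
        replace hy : y ∈ Vπ := hy
        rw [mem_factor_iff] at hx
        rw [hVπ] at hy
        funext j
        by_cases hj : j = i0
        · rw [hj, Pi.mul_apply, Pi.mul_apply, hy, mul_one, one_mul]
        · rw [Pi.mul_apply, Pi.mul_apply, hx j hj, mul_one, one_mul]
      · rintro ⟨hz, hc⟩
        obtain ⟨y, rfl⟩ := hιsurj z hz
        refine ⟨y, ?_, rfl⟩
        show y ∈ Vπ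
        rw [hVπ]
        have hcen : y i0 ∈ Subgroup.center ↥S₀ := by
          rw [Subgroup.mem_center_iff]
          intro t
          have h1 := hc (ι (Pi.mulSingle i0 t)) ⟨_, ⟨t, rfl⟩, rfl⟩
          rw [← map_mul, ← map_mul] at h1
          have h2 := congrFun (hι h1) i0
          simp only [Pi.mul_apply, Pi.mulSingle_eq_same] at h2
          exact h2.symm
        rw [Cfsg.Agent.S5913.center_eq_bot_of_simple hT, Subgroup.mem_bot] at hcen
        exact hcen
    intro g hg
    rw [Subgroup.mem_normalizer_iff] at hg ⊢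
    intro h
    rw [hVchar, hVchar]
    constructor
    · rintro ⟨hN, hc⟩
      refine ⟨‹N.Normal›.conj_mem h hN g, ?_⟩
      intro s hs
      have hs' : g⁻¹ * s * g ∈ (factor (T := ↥S₀) k i0).map ι := by
        rw [hg]
        have : g * (g⁻¹ * s * g) * g⁻¹ = s := by group
        rw [this]; exact hs
      have h1 := hc _ hs'
      calc g * h * g⁻¹ * s = g * (h * (g⁻¹ * s * g)) * g⁻¹ := by group
        _ = g * ((g⁻¹ * s * g) * h) * g⁻¹ := by rw [h1]
        _ = s * (g * h * g⁻¹) := by group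
    · rintro ⟨hN, hc⟩
      refine ⟨?_, ?_⟩
      · have := ‹N.Normal›.conj_mem _ hN g⁻¹
        have e1 : g⁻¹ * (g * h * g⁻¹) * g⁻¹⁻¹ = h := by group
        rwa [e1] at this
      · intro s hs
        have hs' : g * s * g⁻¹ ∈ (factor (T := ↥S₀) k i0).map ι := (hg s).mp hs
        have h1 := hc _ hs'
        have h2 : g⁻¹ * (g * h * g⁻¹ * (g * s * g⁻¹)) * g = g⁻¹ * (g * s * g⁻¹ * (g * h * g⁻¹)) * g := by
          rw [h1]
        have e1 : g⁻¹ * (g * h * g⁻¹ * (g * s * g⁻¹)) * g = h * s := by group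
        have e2 : g⁻¹ * (g * s * g⁻¹ * (g * h * g⁻¹)) * g = s * h := by group
        rw [e1, e2] at h2
        exact h2
  · -- `p`-subgroups are abelian when `p² ∤ |S|`
    intro p _ hp2 Q hQN hQ a ha b hb
    rw [Subgroup.card_map_of_injective hι, card_factor] at hp2
    obtain ⟨x, rfl⟩ := hιsurj a (hQN ha)
    obtain ⟨y, rfl⟩ := hιsurj b (hQN hb)
    rw [← map_mul, ← map_mul]
    congr 1
    funext i
    let Qi : Subgroup ↥S₀ := (Q.comap ι).map (Pi.evalMonoidHom (fun _ : Fin k => ↥S₀) i)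
    have hQi : IsPGroup p Qi := (hQ.comap_of_injective ι hι).map _
    have hxi : x i ∈ Qi := ⟨x, ha, rfl⟩
    have hyi : y i ∈ Qi := ⟨y, hb, rfl⟩
    obtain ⟨n, hn⟩ := IsPGroup.iff_card.mp hQi
    have hdvd : Nat.card Qi ∣ Nat.card ↥S₀ := Subgroup.card_subgroup_dvd_card Qi
    have hn1 : n ≤ 1 := by
      by_contra hlt
      apply hp2
      have : p ^ 2 ∣ p ^ n := pow_dvd_pow p (by omega)
      rw [← hn] at this
      exact this.trans hdvd
    have hQip : Nat.card Qi ∣ p := by
      rw [hn]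
      calc p ^ n ∣ p ^ 1 := pow_dvd_pow p hn1
        _ = p := pow_one p
    have : IsCyclic Qi := isCyclic_of_card_dvd_prime hQip
    let _ := IsCyclic.commGroup (α := ↥Qi)
    have h1 : (⟨x i, hxi⟩ : ↥Qi) * ⟨y i, hyi⟩ = ⟨y i, hyi⟩ * ⟨x i, hxi⟩ := mul_comm _ _
    exact congrArg Subtype.val h1

end Cfsg.Agent.Lib.Helper2.PAb
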