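import Mathlib

set_option autoImplicit false

namespace Cfsg.Agent.H9PCls

variable {G : Type*} [Group G]

/-- property (C): every `p`-element has class size prime to `p`. -/
def PC (p : ℕ) (G : Type*) [Group G] : Prop :=
  ∀ x : G, (∃ k : ℕ, orderOf x = p ^ k) →
    ¬ p ∣ (Subgroup.centralizer ({x} : Set G)).index

theorem centralizer_subgroupOf (N : Subgroup G) (x : N) :
    Subgroup.centralizer ({x} : Set N) =
      (Subgroup.centralizer ({(x : G)} : Set G)).subgroupOf N := by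
  ext y
  rw [Subgroup.mem_subgroupOf, Subgroup.mem_centralizer_singleton_iff,
    Subgroup.mem_centralizer_singleton_iff]
  constructor
  · intro h; exact congrArg (fun s : N => (s : G)) h
  · intro h; exact Subtype.ext h

theorem relIndex_dvd_index_of_normal_right [Finite G] (N C : Subgroup G) [N.Normal] :
    C.relIndex N ∣ C.index := by
  have h1 : (C ⊓ N).relIndex C * C.index = (C ⊓ N).index :=
    Subgroup.relIndex_mul_index inf_le_left
  have h2 : (C ⊓ N).relIndex N * N.index = (C ⊓ N).index :=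
    Subgroup.relIndex_mul_index inf_le_right
  have h3 : N.relIndex (C ⊔ N) * (C ⊔ N).index = N.index :=
    Subgroup.relIndex_mul_index le_sup_right
  rw [Subgroup.relIndex_sup_right] at h3
  rw [Subgroup.inf_relIndex_left] at h1
  rw [Subgroup.inf_relIndex_right] at h2
  have ha : N.relIndex C ≠ 0 :=
    show (N.subgroupOf C).index ≠ 0 from Subgroup.index_ne_zero_of_finite
  refine ⟨(C ⊔ N).index, ?_⟩
  apply Nat.eq_of_mul_eq_mul_left (Nat.pos_of_ne_zero ha)
  rw [h1, ← h2, ← h3]; ring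

theorem PC.normal [Finite G] {p : ℕ} (h : PC p G) (N : Subgroup G) [N.Normal] : PC p N := by
  rintro x ⟨k, hk⟩ hdvd
  rw [centralizer_subgroupOf] at hdvd
  have h1 := h (x : G) ⟨k, by rw [Subgroup.orderOf_coe]; exact hk⟩
  exact h1 (Dvd.dvd.trans hdvd (relIndex_dvd_index_of_normal_right N _))

theorem exists_pelt_lift {p : ℕ} [Fact p.Prime] [Finite G] (N : Subgroup G) [N.Normal]
    (xb : G ⧸ N) (k : ℕ) (hk : orderOf xb = p ^ k) :
    ∃ y : G, (y : G ⧸ N) = xb ∧ ∃ j, orderOf y = p ^ j := by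
  obtain ⟨g, rfl⟩ := QuotientGroup.mk_surjective xb
  have hp := (Fact.out : p.Prime)
  have hn : orderOf g ≠ 0 := (orderOf_pos g).ne'
  obtain ⟨a, m, hm, hnm⟩ := Nat.exists_eq_pow_mul_and_not_dvd hn p hp.ne_one
  have hcop : m.Coprime (orderOf (g : G ⧸ N)) := by
    rw [hk]; exact Nat.Coprime.pow_right _ ((Nat.Prime.coprime_iff_not_dvd hp).2 hm).symm
  obtain ⟨m', hm'⟩ := exists_pow_eq_self_of_coprime hcop
  refine ⟨(g ^ m) ^ m', ?_, ?_⟩
  · rw [QuotientGroup.mk_pow, QuotientGroup.mk_pow]; exact hm'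
  · have h1 : ((g ^ m) ^ m') ^ (p ^ a) = 1 := by
      rw [← pow_mul, ← pow_mul, show m * (m' * p ^ a) = (p ^ a * m) * m' by ring, ← hnm, pow_mul,
        pow_orderOf_eq_one, one_pow]
    have h2 := orderOf_dvd_of_pow_eq_one h1
    obtain ⟨j, _, hj⟩ := (Nat.dvd_prime_pow hp).1 h2
    exact ⟨j, hj⟩

theorem PC.quotient [Finite G] {p : ℕ} [Fact p.Prime] (h : PC p G) (N : Subgroup G)
    [N.Normal] : PC p (G ⧸ N) := by
  rintro xb ⟨k, hk⟩ hdvd
  obtain ⟨y, rfl, j, hj⟩ := exists_pelt_lift N xb k hk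
  apply h y ⟨j, hj⟩
  have hle : (Subgroup.centralizer ({y} : Set G)).map (QuotientGroup.mk' N) ≤
      Subgroup.centralizer ({(y : G ⧸ N)} : Set (G ⧸ N)) := by
    rintro _ ⟨c, hc, rfl⟩
    rw [SetLike.mem_coe, Subgroup.mem_centralizer_singleton_iff] at hc
    rw [Subgroup.mem_centralizer_singleton_iff]
    show (c : G ⧸ N) * (y : G ⧸ N) = (y : G ⧸ N) * (c : G ⧸ N)
    rw [← QuotientGroup.mk_mul, ← QuotientGroup.mk_mul, hc]
  exact Dvd.dvd.trans hdvd ((Subgroup.index_dvd_of_le hle).trans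
    (Subgroup.index_map_dvd _ (QuotientGroup.mk'_surjective N)))

theorem allab_of {p : ℕ} {H : Type*} [Group H]
    (hn : ¬ ((∃ P : Sylow p H, ¬ IsMulCommutative P) ∧ PC p H)) (hpc : PC p H)
    (Q : Sylow p H) : IsMulCommutative Q := by
  by_contra hQ; exact hn ⟨⟨Q, hQ⟩, hpc⟩

theorem four_comm (b z b' z' : G) (h1 : z * b' = b' * z) (h2 : z' * b = b * z')
    (h3 : b * b' = b' * b) (h4 : z * z' = z' * z) :
    (b * z) * (b' * z') = (b' * z') * (b * z) := by
  calc (b * z) * (b' * z') = b * (z * b') * z' := by group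
    _ = b * (b' * z) * z' := by rw [h1]
    _ = (b * b') * (z * z') := by group
    _ = (b' * b) * (z' * z) := by rw [h3, h4]
    _ = b' * (b * z') * z := by group
    _ = b' * (z' * b) * z := by rw [h2]
    _ = (b' * z') * (b * z) := by group

end Cfsg.Agent.H9PCls
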