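import Mathlib
import Cfsg.Agent.Lib.Helper9.PCls1

set_option autoImplicit false

namespace Cfsg.Agent.H9PCls

variable {G : Type*} [Group G]

theorem key_central [Finite G] {p : ℕ} [Fact p.Prime] (hpc : PC p G) (N : Subgroup G)
    [N.Normal] (hQ : ∀ Q : Sylow p (G ⧸ N), IsMulCommutative Q) (P : Sylow p G)
    (x : G) (hx : x ∈ P) :
    ∃ z ∈ P, (∀ y ∈ P, z * y = y * z) ∧ z * x⁻¹ ∈ N := by
  have hp := (Fact.out : p.Prime)
  -- quotient commutation
  have hB : ∀ y y' : G, y ∈ P → y' ∈ P →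
      (y : G ⧸ N) * (y' : G ⧸ N) = (y' : G ⧸ N) * (y : G ⧸ N) := by
    intro y y' hy hy'
    have hpg : IsPGroup p ((P : Subgroup G).map (QuotientGroup.mk' N)) := P.2.map _
    obtain ⟨Q, hQle⟩ := hpg.exists_le_sylow
    have h1 : (y : G ⧸ N) ∈ Q := hQle (Subgroup.mem_map_of_mem _ hy)
    have h2 : (y' : G ⧸ N) ∈ Q := hQle (Subgroup.mem_map_of_mem _ hy')
    have h3 := isMulCommutative_iff.1 (hQ Q) ⟨_, h1⟩ ⟨_, h2⟩
    exact congrArg (fun s : Q => (s : G ⧸ N)) h3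
  obtain ⟨k, hk⟩ : ∃ k, orderOf x = p ^ k := by
    obtain ⟨k, hk⟩ := P.2 ⟨x, hx⟩
    have h1 : x ^ (p ^ k) = 1 := congrArg (fun s : P => (s : G)) hk
    obtain ⟨j, _, hj⟩ := (Nat.dvd_prime_pow hp).1 (orderOf_dvd_of_pow_eq_one h1)
    exact ⟨j, hj⟩
  set C := Subgroup.centralizer ({x} : Set G) with hC
  have hCi : ¬ p ∣ C.index := hpc x ⟨k, hk⟩
  set D : Subgroup G :=
    (Subgroup.centralizer ({(x : G ⧸ N)} : Set (G ⧸ N))).comap (QuotientGroup.mk' N) with hD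
  have hmemD : ∀ g : G, g ∈ D ↔ (g : G ⧸ N) * (x : G ⧸ N) = (x : G ⧸ N) * (g : G ⧸ N) := by
    intro g
    rw [hD, Subgroup.mem_comap, Subgroup.mem_centralizer_singleton_iff]
    rfl
  have hmemC : ∀ g : G, g ∈ C ↔ g * x = x * g := by
    intro g
    rw [hC, Subgroup.mem_centralizer_singleton_iff]
  have hCD : C ≤ D := by
    intro c hc
    rw [hmemC] at hc
    rw [hmemD, ← QuotientGroup.mk_mul, ← QuotientGroup.mk_mul, hc]
  have hPD : (P : Subgroup G) ≤ D := by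
    intro y hy
    rw [hmemD]
    exact hB y x hy hx
  have hpg : IsPGroup p ((P : Subgroup G).subgroupOf D) := P.2.comap_subtype
  have hcard : ¬ p ∣ Nat.card (D ⧸ C.subgroupOf D) := by
    intro hd
    apply hCi
    have h2 : C.relIndex D * D.index = C.index := Subgroup.relIndex_mul_index hCD
    rw [← h2]
    exact Dvd.dvd.mul_right hd _
  obtain ⟨q, hq⟩ := hpg.nonempty_fixed_point_of_prime_not_dvd_card (D ⧸ C.subgroupOf D) hcard
  obtain ⟨d, rfl⟩ := QuotientGroup.mk_surjective q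
  have hfix : ∀ y ∈ P, (d : G)⁻¹ * y * d ∈ C := by
    intro y hy
    have h1 := hq ⟨⟨y, hPD hy⟩, Subgroup.mem_subgroupOf.2 hy⟩
    have h2 : (((⟨y, hPD hy⟩ : D) * d : D) : D ⧸ C.subgroupOf D) = (d : D ⧸ C.subgroupOf D) := h1
    rw [eq_comm, QuotientGroup.eq, Subgroup.mem_subgroupOf] at h2
    simpa [mul_assoc] using h2
  refine ⟨d * x * (d : G)⁻¹, ?_, ?_, ?_⟩
  · -- membership in P
    set z := (d : G) * x * (d : G)⁻¹ with hz
    have hzc : ∀ y ∈ P, z * y = y * z := by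
      intro y hy
      have h1 := (hmemC _).1 (hfix y hy)
      rw [hz]
      calc (d : G) * x * (d : G)⁻¹ * y = d * (x * ((d : G)⁻¹ * y * d)) * (d : G)⁻¹ := by group
        _ = d * (((d : G)⁻¹ * y * d) * x) * (d : G)⁻¹ := by rw [h1]
        _ = y * (d * x * (d : G)⁻¹) := by group
    have hzk : z ^ (p ^ k) = 1 := by
      rw [hz, conj_pow, ← hk, pow_orderOf_eq_one, mul_one, mul_inv_cancel]
    have hpz : IsPGroup p (Subgroup.zpowers z) := by
      rintro ⟨w, hw⟩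
      obtain ⟨i, rfl⟩ := Subgroup.mem_zpowers_iff.1 hw
      refine ⟨k, Subtype.ext ?_⟩
      show (z ^ i) ^ (p ^ k) = 1
      rw [← zpow_natCast, ← zpow_mul, mul_comm, zpow_mul, zpow_natCast, hzk, one_zpow]
    have hmem : z ∈ Subgroup.zpowers z ⊓ Subgroup.normalizer ((P : Subgroup G) : Set G) := by
      refine ⟨Subgroup.mem_zpowers z, ?_⟩
      apply Subgroup.centralizer_le_normalizer
      rw [Subgroup.mem_centralizer_iff]
      intro y hy
      exact (hzc y hy).symm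
    have hmem2 : z ∈ Subgroup.zpowers z ⊓ (P : Subgroup G) := by
      rw [← hpz.inf_normalizer_sylow P]; exact hmem
    exact hmem2.2
  · intro y hy
    have h1 := (hmemC _).1 (hfix y hy)
    calc (d : G) * x * (d : G)⁻¹ * y = d * (x * ((d : G)⁻¹ * y * d)) * (d : G)⁻¹ := by group
      _ = d * (((d : G)⁻¹ * y * d) * x) * (d : G)⁻¹ := by rw [h1]
      _ = y * (d * x * (d : G)⁻¹) := by group
  · have hdD := (hmemD _).1 d.2
    rw [← QuotientGroup.eq_one_iff]
    rw [QuotientGroup.mk_mul, QuotientGroup.mk_mul, QuotientGroup.mk_mul, hdD,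
      QuotientGroup.mk_inv, QuotientGroup.mk_inv]
    group

theorem key [Finite G] {p : ℕ} [Fact p.Prime] (hpc : PC p G) (N : Subgroup G) [N.Normal]
    (hN : ∀ Q : Sylow p N, IsMulCommutative Q)
    (hQ : ∀ Q : Sylow p (G ⧸ N), IsMulCommutative Q) (P : Sylow p G) :
    IsMulCommutative P := by
  have hA : ∀ a b : G, a ∈ P → a ∈ N → b ∈ P → b ∈ N → a * b = b * a := by
    intro a b haP haN hbP hbN
    have hpg : IsPGroup p ((P : Subgroup G).subgroupOf N) := P.2.comap_subtype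
    obtain ⟨Q, hQle⟩ := hpg.exists_le_sylow
    have h1 : (⟨a, haN⟩ : N) ∈ Q := hQle (Subgroup.mem_subgroupOf.2 haP)
    have h2 : (⟨b, hbN⟩ : N) ∈ Q := hQle (Subgroup.mem_subgroupOf.2 hbP)
    have h3 := isMulCommutative_iff.1 (hN Q) ⟨_, h1⟩ ⟨_, h2⟩
    exact congrArg (fun s : Q => ((s : N) : G)) h3
  have hcomm : ∀ x x' : G, x ∈ P → x' ∈ P → x * x' = x' * x := by
    intro x x' hx hx'
    obtain ⟨z, hzP, hzc, hzN⟩ := key_central hpc N hQ P x hx
    obtain ⟨z', hzP', hzc', hzN'⟩ := key_central hpc N hQ P x' hx'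
    -- b = x z⁻¹
    have hbP : x * z⁻¹ ∈ P := mul_mem hx (inv_mem hzP)
    have hbN : x * z⁻¹ ∈ N := by
      have := inv_mem hzN
      simpa [mul_inv_rev] using this
    have hbP' : x' * z'⁻¹ ∈ P := mul_mem hx' (inv_mem hzP')
    have hbN' : x' * z'⁻¹ ∈ N := by
      have := inv_mem hzN'
      simpa [mul_inv_rev] using this
    have e1 : x = (x * z⁻¹) * z := by group
    have e2 : x' = (x' * z'⁻¹) * z' := by group
    rw [e1, e2]
    exact four_comm _ _ _ _ (hzc _ hbP') (hzc' _ hbP) (hA _ _ hbP hbN hbP' hbN') (hzc _ hzP')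
  exact ⟨⟨fun a b => Subtype.ext (hcomm a b a.2 b.2)⟩⟩

end Cfsg.Agent.H9PCls
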