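import Mathlib
import Cfsg.Prelude
import Cfsg.Agent.Lib.Helper9.FieldSub1

set_option autoImplicit false

/-!
A field subalgebra `K` of the `n × n` matrices of degree `n` over the base field: the space of
column vectors is a one-dimensional `K`-space, and the Frobenius map of `K` gives a linear map
`σ` of the column vectors which normalises `K`.
-/

namespace Cfsg.Agent.Lib.Helper9.H9PExt

open Module Matrix Cfsg.Agent.H9FK

variable {F : Type*} [Field F] {n : ℕ} [NeZero n]
variable {K : Subalgebra F (Matrix (Fin n) (Fin n) F)} {hK : Cfsg.Geo.IsFieldSubalgebra n K}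

instance instFiniteFK : Module.Finite F (FK K hK) :=
  Module.finite_of_finrank_pos (by rw [FK.finrank_eq]; exact Nat.pos_of_ne_zero (NeZero.ne n))

/-- the orbit map `k ↦ k • v₀` -/
noncomputable def orbitMap (v₀ : Fin n → F) : FK K hK →ₗ[F] (Fin n → F) :=
  (LinearMap.toSpanSingleton (FK K hK) (Fin n → F) v₀).restrictScalars F

theorem orbitMap_apply (v₀ : Fin n → F) (k : FK K hK) : orbitMap v₀ k = k • v₀ := rfl

theorem orbitMap_injective (v₀ : Fin n → F) (hv₀ : v₀ ≠ 0) :
    Function.Injective (orbitMap (K := K) (hK := hK) v₀) := by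
  rw [← LinearMap.ker_eq_bot, LinearMap.ker_eq_bot']
  intro k hk
  rw [orbitMap_apply] at hk
  exact (smul_eq_zero.mp hk).resolve_right hv₀

/-- the orbit map as a linear equivalence -/
noncomputable def orbitEquiv (v₀ : Fin n → F) (hv₀ : v₀ ≠ 0) : FK K hK ≃ₗ[F] (Fin n → F) :=
  LinearMap.linearEquivOfInjective (orbitMap v₀) (orbitMap_injective v₀ hv₀)
    (by rw [FK.finrank_eq, Module.finrank_fintype_fun_eq_card, Fintype.card_fin])

theorem orbitEquiv_apply (v₀ : Fin n → F) (hv₀ : v₀ ≠ 0) (k : FK K hK) :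
    orbitEquiv v₀ hv₀ k = k • v₀ := rfl

theorem exists_smul_eq (v₀ : Fin n → F) (hv₀ : v₀ ≠ 0) (v : Fin n → F) :
    ∃ k : FK K hK, k • v₀ = v :=
  ⟨(orbitEquiv v₀ hv₀).symm v, by
    rw [← orbitEquiv_apply v₀ hv₀, LinearEquiv.apply_symm_apply]⟩

end Cfsg.Agent.Lib.Helper9.H9PExt
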