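import Mathlib
import Cfsg.Prelude
import Cfsg.Agent.Lib.Helper9.PExt1

set_option autoImplicit false

/-! The Frobenius map of a field subalgebra of degree `n` as a linear map of column vectors. -/

namespace Cfsg.Agent.Lib.Helper9.H9PExt

open Module Matrix Cfsg.Agent.H9FK

variable {F : Type*} [Field F] [Fintype F] {n : ℕ} [NeZero n]
variable {K : Subalgebra F (Matrix (Fin n) (Fin n) F)} {hK : Cfsg.Geo.IsFieldSubalgebra n K}

theorem add_pow_card (x y : FK K hK) :
    (x + y) ^ Fintype.card F = x ^ Fintype.card F + y ^ Fintype.card F := by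
  obtain ⟨p, hp⟩ := CharP.exists F
  haveI : Fact p.Prime := ⟨CharP.char_is_prime F p⟩
  obtain ⟨f, _, hq⟩ := FiniteField.card F p
  haveI : CharP (FK K hK) p :=
    charP_of_injective_algebraMap (algebraMap F (FK K hK)).injective p
  rw [hq]
  exact add_pow_char_pow x y p _

/-- the Frobenius map of the field subalgebra -/
noncomputable def frobK : FK K hK →ₗ[F] FK K hK where
  toFun k := k ^ Fintype.card F
  map_add' := add_pow_card
  map_smul' c k := by
    rw [RingHom.id_apply, Algebra.smul_def, mul_pow, ← map_pow, FiniteField.pow_card,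
      ← Algebra.smul_def]

theorem frobK_apply (k : FK K hK) : frobK k = k ^ Fintype.card F := rfl

theorem card_FK : Nat.card (FK K hK) = Fintype.card F ^ n := by
  rw [Module.natCard_eq_pow_finrank (K := F) (V := FK K hK), FK.finrank_eq,
    Nat.card_eq_fintype_card]

theorem frobK_pow (j : ℕ) (k : FK K hK) : (frobK ^ j) k = k ^ Fintype.card F ^ j := by
  induction j generalizing k with
  | zero => simp
  | succ j ih =>
    rw [pow_succ, Module.End.mul_apply, ih, frobK_apply, ← pow_mul, pow_succ, mul_comm]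

theorem pow_card_pow_eq (k : FK K hK) : k ^ Fintype.card F ^ n = k := by
  letI : Fintype (FK K hK) := Fintype.ofFinite _
  have h := FiniteField.pow_card k
  rwa [← Nat.card_eq_fintype_card, card_FK] at h

theorem frobK_pow_n : (frobK : FK K hK →ₗ[F] FK K hK) ^ n = 1 := by
  apply LinearMap.ext
  intro k
  rw [frobK_pow, pow_card_pow_eq, Module.End.one_apply]

theorem exists_pow_card_ne (hn : 2 ≤ n) : ∃ k : FK K hK, k ^ Fintype.card F ≠ k := by
  by_contra hcon
  push Not at hcon
  letI : Fintype (FK K hK) := Fintype.ofFinite _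
  obtain ⟨ω, hω⟩ := IsCyclic.exists_generator (α := (FK K hK)ˣ)
  have h1 : orderOf ω = Fintype.card F ^ n - 1 := by
    rw [orderOf_eq_card_of_forall_mem_zpowers hω, Nat.card_units, card_FK]
  have h2 : ω ^ (Fintype.card F - 1) = 1 := by
    have h3 := hcon (ω : FK K hK)
    have hq : 1 ≤ Fintype.card F := Fintype.card_pos
    apply Units.ext
    rw [Units.val_pow_eq_pow_val, Units.val_one]
    have h4 : (ω : FK K hK) ^ (Fintype.card F - 1) * (ω : FK K hK) = 1 * (ω : FK K hK) := by
      rw [← pow_succ, Nat.sub_add_cancel hq, h3, one_mul]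
    exact mul_right_cancel₀ ω.ne_zero h4
  have h5 := orderOf_dvd_of_pow_eq_one h2
  rw [h1] at h5
  have hq2 : 2 ≤ Fintype.card F := Fintype.one_lt_card
  have h6 : Fintype.card F ^ 2 ≤ Fintype.card F ^ n := Nat.pow_le_pow_right (by omega) hn
  have h7 : Fintype.card F ^ n - 1 ≤ Fintype.card F - 1 := Nat.le_of_dvd (by omega) h5
  have h8 : Fintype.card F * 2 ≤ Fintype.card F ^ 2 := by
    rw [pow_two]; exact Nat.mul_le_mul_left _ hq2
  omega

end Cfsg.Agent.Lib.Helper9.H9PExt
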