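import Mathlib
import Cfsg.Prelude
import Cfsg.Agent.Lib.Helper9.PExt2

set_option autoImplicit false

/-! The Frobenius map on column vectors and its relation with the field subalgebra. -/

namespace Cfsg.Agent.Lib.Helper9.H9PExt

open Module Matrix Cfsg.Agent.H9FK

variable {F : Type*} [Field F] [Fintype F] {n : ℕ} [NeZero n]
variable (K : Subalgebra F (Matrix (Fin n) (Fin n) F)) (hK : Cfsg.Geo.IsFieldSubalgebra n K)

/-- the Frobenius map on column vectors -/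
noncomputable def sigma (v₀ : Fin n → F) (hv₀ : v₀ ≠ 0) : (Fin n → F) →ₗ[F] (Fin n → F) :=
  ((orbitEquiv (K := K) (hK := hK) v₀ hv₀ : FK K hK →ₗ[F] (Fin n → F)) ∘ₗ frobK) ∘ₗ
    ((orbitEquiv (K := K) (hK := hK) v₀ hv₀).symm : (Fin n → F) →ₗ[F] FK K hK)

variable {K hK}

theorem sigma_smul (v₀ : Fin n → F) (hv₀ : v₀ ≠ 0) (k : FK K hK) :
    sigma K hK v₀ hv₀ (k • v₀) = k ^ Fintype.card F • v₀ := by
  unfold sigma
  rw [LinearMap.comp_apply, LinearMap.comp_apply, ← orbitEquiv_apply v₀ hv₀ k]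
  simp only [LinearEquiv.coe_coe, LinearEquiv.symm_apply_apply]
  rw [frobK_apply, orbitEquiv_apply]

theorem sigma_smul' (v₀ : Fin n → F) (hv₀ : v₀ ≠ 0) (θ : FK K hK) (w : Fin n → F) :
    sigma K hK v₀ hv₀ (θ • w) = θ ^ Fintype.card F • sigma K hK v₀ hv₀ w := by
  obtain ⟨k, rfl⟩ := exists_smul_eq (K := K) (hK := hK) v₀ hv₀ w
  rw [← mul_smul, sigma_smul, sigma_smul, mul_pow, mul_smul]

theorem sigma_pow_apply (v₀ : Fin n → F) (hv₀ : v₀ ≠ 0) (j : ℕ) (k : FK K hK) :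
    (sigma K hK v₀ hv₀ ^ j) (k • v₀) = k ^ Fintype.card F ^ j • v₀ := by
  induction j generalizing k with
  | zero => simp
  | succ j ih =>
    rw [pow_succ, Module.End.mul_apply, sigma_smul, ih, ← pow_mul, pow_succ, mul_comm]

theorem sigma_pow_n (v₀ : Fin n → F) (hv₀ : v₀ ≠ 0) : sigma K hK v₀ hv₀ ^ n = 1 := by
  apply LinearMap.ext
  intro w
  obtain ⟨k, rfl⟩ := exists_smul_eq (K := K) (hK := hK) v₀ hv₀ w
  rw [sigma_pow_apply, pow_card_pow_eq, Module.End.one_apply]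

theorem sigma_ne_one (hn : 2 ≤ n) (v₀ : Fin n → F) (hv₀ : v₀ ≠ 0) : sigma K hK v₀ hv₀ ≠ 1 := by
  intro h
  obtain ⟨k, hk⟩ := exists_pow_card_ne (K := K) (hK := hK) hn
  apply hk
  have h1 := sigma_smul v₀ hv₀ k
  rw [h, Module.End.one_apply] at h1
  exact ((orbitMap_injective (K := K) (hK := hK) v₀ hv₀) h1).symm

theorem sigma_mul (v₀ : Fin n → F) (hv₀ : v₀ ≠ 0) (θ : Matrix (Fin n) (Fin n) F) (hθ : θ ∈ K) :
    LinearMap.toMatrix' (sigma K hK v₀ hv₀) * θ =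
      θ ^ Fintype.card F * LinearMap.toMatrix' (sigma K hK v₀ hv₀) := by
  apply Matrix.toLin'.injective
  apply LinearMap.ext
  intro w
  rw [Matrix.toLin'_mul, Matrix.toLin'_mul, Matrix.toLin'_toMatrix', LinearMap.comp_apply,
    LinearMap.comp_apply, Matrix.toLin'_apply, Matrix.toLin'_apply]
  exact sigma_smul' v₀ hv₀ (FK.mk' (hK := hK) θ hθ) w

end Cfsg.Agent.Lib.Helper9.H9PExt
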