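import Mathlib
import Cfsg.Prelude
import Cfsg.Agent.Lib.Helper9.PExt1

set_option autoImplicit false

/-! Membership and non-membership in the normaliser of a field subalgebra. -/

namespace Cfsg.Agent.Lib.Helper9.H9PExt

open Module Matrix Cfsg.Agent.H9FK

section general
variable {F : Type*} [Field F] {n : ℕ}

local notation "Mat" => Matrix (Fin n) (Fin n) F

theorem GL_mul_inv (Y : GL (Fin n) F) : (Y : Mat) * ((Y⁻¹ : GL (Fin n) F) : Mat) = 1 := by
  rw [← Units.val_mul, mul_inv_cancel, Units.val_one]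

theorem GL_inv_mul (Y : GL (Fin n) F) : ((Y⁻¹ : GL (Fin n) F) : Mat) * (Y : Mat) = 1 := by
  rw [← Units.val_mul, inv_mul_cancel, Units.val_one]

/-- An invertible matrix conjugating a subalgebra into itself normalises it. -/
theorem mem_normalizer_of_conj_mem (K : Subalgebra F Mat) (Y : GL (Fin n) F)
    (h : ∀ θ ∈ K, (Y : Mat) * θ * ((Y⁻¹ : GL (Fin n) F) : Mat) ∈ K) :
    Y ∈ Cfsg.Geo.subalgebraNormalizer K := by
  show ∀ k : Mat, k ∈ K ↔ (Y : Mat) * k * ((Y⁻¹ : GL (Fin n) F) : Mat) ∈ K
  let c : ↥K →ₗ[F] ↥K :=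
    { toFun := fun θ => ⟨(Y : Mat) * θ.1 * ((Y⁻¹ : GL (Fin n) F) : Mat), h θ.1 θ.2⟩
      map_add' := by
        intro a b
        apply Subtype.ext
        show (Y : Mat) * (a.1 + b.1) * ((Y⁻¹ : GL (Fin n) F) : Mat) = _
        rw [Matrix.mul_add, Matrix.add_mul]
        rfl
      map_smul' := by
        intro a b
        apply Subtype.ext
        show (Y : Mat) * (a • b.1) * ((Y⁻¹ : GL (Fin n) F) : Mat) = _
        rw [Matrix.mul_smul, Matrix.smul_mul]
        rfl }
  have hcancel : ∀ a b : Mat, (Y : Mat) * a * ((Y⁻¹ : GL (Fin n) F) : Mat)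
      = (Y : Mat) * b * ((Y⁻¹ : GL (Fin n) F) : Mat) → a = b := by
    intro a b hab
    have h1 := congrArg (fun M : Mat => ((Y⁻¹ : GL (Fin n) F) : Mat) * M * (Y : Mat)) hab
    simp only [Matrix.mul_assoc, GL_inv_mul, Matrix.mul_one] at h1
    simp only [← Matrix.mul_assoc, GL_inv_mul, Matrix.one_mul] at h1
    exact h1
  have hinj : Function.Injective c := by
    intro a b hab
    apply Subtype.ext
    exact hcancel _ _ (congrArg Subtype.val hab)
  have hsurj : Function.Surjective c := LinearMap.surjective_of_injective hinj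
  intro k
  constructor
  · exact h k
  · intro hk
    obtain ⟨θ, hθ⟩ := hsurj ⟨_, hk⟩
    have h1 := hcancel _ _ (congrArg Subtype.val hθ)
    rw [← h1]
    exact θ.2

end general

section field
variable {F : Type*} [Field F] {n : ℕ} [NeZero n]
variable {K : Subalgebra F (Matrix (Fin n) (Fin n) F)}

local notation "Mat" => Matrix (Fin n) (Fin n) F

theorem eq_zero_of_mem_of_mulVec_eq_zero (hK : Cfsg.Geo.IsFieldSubalgebra n K) (θ : Mat) (hθ : θ ∈ K)
    (hθ0 : θ ≠ 0) (v : Fin n → F) (hv : θ *ᵥ v = 0) : v = 0 := by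
  have h1 : (FK.mk' (hK := hK) θ hθ) • v = 0 := hv
  have h2 : FK.mk' (hK := hK) θ hθ ≠ 0 := by
    intro h0
    exact hθ0 (congrArg FK.val h0)
  exact (smul_eq_zero.mp h1).resolve_left h2

/-- A rank perturbation of a scalar of small rank does not normalise the field subalgebra. -/
theorem not_mem_normalizer_of_rank (hK : Cfsg.Geo.IsFieldSubalgebra n K) (Y : GL (Fin n) F) (d : F)
    (R : Mat) (hY : (Y : Mat) = d • (1 : Mat) + R) (hR : R ≠ 0) (hrank : 2 * R.rank < n) :
    Y ∉ Cfsg.Geo.subalgebraNormalizer K := by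
  intro hmem
  have hmem' : ∀ k : Mat, k ∈ K ↔ (Y : Mat) * k * ((Y⁻¹ : GL (Fin n) F) : Mat) ∈ K := hmem
  have hd : d ≠ 0 := by
    intro hd0
    rw [hd0, zero_smul, zero_add] at hY
    have h1 : R.rank = n := by
      rw [← hY, Matrix.rank_of_isUnit _ ((Matrix.isUnit_iff_isUnit_det _).mpr
        (Matrix.isUnits_det_units Y)), Fintype.card_fin]
    omega
  have hrn : finrank F (LinearMap.ker R.mulVecLin) + R.rank = n := by
    have := LinearMap.finrank_range_add_finrank_ker R.mulVecLin
    rw [Module.finrank_fintype_fun_eq_card, Fintype.card_fin] at this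
    unfold Matrix.rank
    omega
  by_cases hall : ∀ θ ∈ K, (Y : Mat) * θ = θ * (Y : Mat)
  · -- `R` commutes with `K`
    have hRc : ∀ θ ∈ K, R * θ = θ * R := by
      intro θ hθ
      have h1 := hall θ hθ
      rw [hY, Matrix.add_mul, Matrix.mul_add, Matrix.smul_mul, Matrix.one_mul, Matrix.mul_smul,
        Matrix.mul_one] at h1
      exact add_left_cancel h1
    have hker : LinearMap.ker R.mulVecLin ≠ ⊥ := by
      intro hbot
      rw [hbot, finrank_bot] at hrn
      omega
    obtain ⟨v, hv, hv0⟩ := Submodule.exists_mem_ne_zero_of_ne_bot hker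
    rw [LinearMap.mem_ker, Matrix.mulVecLin_apply] at hv
    apply hR
    apply Matrix.toLin'.injective
    apply LinearMap.ext
    intro w
    obtain ⟨k, rfl⟩ := exists_smul_eq (K := K) (hK := hK) v hv0 w
    rw [Matrix.toLin'_apply, FK.smul_def, Matrix.mulVec_mulVec, hRc k.val k.mem,
      ← Matrix.mulVec_mulVec, hv, Matrix.mulVec_zero, map_zero, LinearMap.zero_apply]
  · push Not at hall
    obtain ⟨θ, hθ, hne⟩ := hall
    set θ' : Mat := (Y : Mat) * θ * ((Y⁻¹ : GL (Fin n) F) : Mat) with hθ'def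
    have hθ' : θ' ∈ K := (hmem' θ).mp hθ
    have hrel : (Y : Mat) * θ = θ' * (Y : Mat) := by
      rw [hθ'def, Matrix.mul_assoc, GL_inv_mul, Matrix.mul_one]
    have hθθ' : θ - θ' ≠ 0 := by
      intro h0
      apply hne
      rw [hrel, ← sub_eq_zero.mp h0]
    -- the key identity
    have hkey : d • (θ - θ') = θ' * R - R * θ := by
      rw [hY, Matrix.add_mul, Matrix.mul_add, Matrix.smul_mul, Matrix.one_mul, Matrix.mul_smul,
        Matrix.mul_one] at hrel
      rw [smul_sub]
      rw [sub_eq_sub_iff_add_eq_add]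
      rw [add_comm (θ' * R)]
      exact hrel
    -- a common kernel vector
    have hrank2 : (R * θ).rank ≤ R.rank := Matrix.rank_mul_le_left R θ
    have hrn2 : finrank F (LinearMap.ker (R * θ).mulVecLin) + (R * θ).rank = n := by
      have := LinearMap.finrank_range_add_finrank_ker (R * θ).mulVecLin
      rw [Module.finrank_fintype_fun_eq_card, Fintype.card_fin] at this
      unfold Matrix.rank
      omega
    have hinf : LinearMap.ker R.mulVecLin ⊓ LinearMap.ker (R * θ).mulVecLin ≠ ⊥ := by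
      intro hbot
      have h1 := Submodule.finrank_sup_add_finrank_inf_eq (LinearMap.ker R.mulVecLin)
        (LinearMap.ker (R * θ).mulVecLin)
      rw [hbot, finrank_bot, add_zero] at h1
      have h2 : finrank F ↥(LinearMap.ker R.mulVecLin ⊔ LinearMap.ker (R * θ).mulVecLin) ≤ n := by
        have := Submodule.finrank_le (LinearMap.ker R.mulVecLin ⊔ LinearMap.ker (R * θ).mulVecLin)
        rwa [Module.finrank_fintype_fun_eq_card, Fintype.card_fin] at this
      omega
    obtain ⟨v, hv, hv0⟩ := Submodule.exists_mem_ne_zero_of_ne_bot hinf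
    obtain ⟨hv1, hv2⟩ := Submodule.mem_inf.mp hv
    rw [LinearMap.mem_ker, Matrix.mulVecLin_apply] at hv1 hv2
    apply hv0
    apply eq_zero_of_mem_of_mulVec_eq_zero hK (θ - θ') (K.sub_mem hθ hθ') hθθ' v
    have h1 := congrArg (fun M : Mat => M *ᵥ v) hkey
    simp only [Matrix.smul_mulVec, Matrix.sub_mulVec, ← Matrix.mulVec_mulVec] at h1
    rw [hv1, Matrix.mulVec_zero, Matrix.mulVec_mulVec, hv2, sub_zero] at h1
    have h2 := congrArg (fun u : Fin n → F => d⁻¹ • u) h1
    simp only [smul_smul, inv_mul_cancel₀ hd, one_smul, smul_zero] at h2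
    rw [Matrix.sub_mulVec]
    exact h2

end field

end Cfsg.Agent.Lib.Helper9.H9PExt
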