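import Mathlib
import Cfsg.Prelude
import Cfsg.Agent.Lib.Helper9.Elus3

set_option autoImplicit false

/-! Maps of prime order `n` on an `n`-dimensional space when `q` is a primitive root modulo `n`:
the fixed space is a line and there is a cyclic vector. -/

namespace Cfsg.Agent.Lib.Helper9.H9PExt

open Module Polynomial
open Cfsg.Agent.Lib.Helper9.H9Elus

section
variable {F : Type*} [Field F] [Fintype F] {p : ℕ} [Fact p.Prime] [CharP F p]

theorem irreducible_cyclotomic (n : ℕ) [hn : Fact n.Prime] (hnp : n ≠ p)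
    (hord : orderOf ((Fintype.card F : ℕ) : ZMod n) = n - 1) :
    Irreducible (cyclotomic n F) := by
  have hdeg : (cyclotomic n F).natDegree = n - 1 := by
    rw [natDegree_cyclotomic, Nat.totient_prime hn.out]
  have hn2 : 2 ≤ n := hn.out.two_le
  have hnu : ¬ IsUnit (cyclotomic n F) := by
    intro hu
    have := natDegree_eq_zero_of_isUnit hu
    omega
  obtain ⟨g, hg, hgd⟩ := WfDvdMonoid.exists_irreducible_factor hnu (cyclotomic_ne_zero n F)
  have hgdeg := natDegree_of_dvd_cyclotomic (F := F) n hnp g hg hgd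
  rw [hord] at hgdeg
  have hassoc : Associated g (cyclotomic n F) :=
    associated_of_dvd_of_natDegree_le hgd (cyclotomic_ne_zero n F) (by rw [hdeg, hgdeg])
  exact hassoc.irreducible hg

end

section
variable {F V : Type*} [Field F] [Fintype F] {p : ℕ} [Fact p.Prime] [CharP F p]
  [AddCommGroup V] [Module F V] [FiniteDimensional F V]

theorem finrank_ker_eq (n : ℕ) [hn : Fact n.Prime] (hnp : n ≠ p) (hn3 : 2 < n)
    (hord : orderOf ((Fintype.card F : ℕ) : ZMod n) = n - 1) (hdim : finrank F V = n)
    (t : V →ₗ[F] V) (ht : t ^ n = 1) (ht1 : t ≠ 1) :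
    finrank F (LinearMap.ker (aeval t (X - 1 : F[X]))) = 1 ∧
      finrank F (LinearMap.ker (aeval t (cyclotomic n F))) = n - 1 := by
  have hc := isCompl_ker n hnp t ht
  have h2 := Submodule.finrank_add_eq_of_isCompl hc
  rw [hdim] at h2
  obtain ⟨k, hk⟩ := order_dvd_finrank_ker n hnp t ht
  rw [hord] at hk
  have hW : LinearMap.ker (aeval t (cyclotomic n F)) ≠ ⊥ := by
    intro hbot
    apply ht1
    have htop : LinearMap.ker (aeval t (X - 1 : F[X])) = ⊤ := by
      have := hc.sup_eq_top
      rwa [hbot, sup_bot_eq] at this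
    apply LinearMap.ext
    intro v
    have hv : v ∈ LinearMap.ker (aeval t (X - 1 : F[X])) := by rw [htop]; trivial
    rw [LinearMap.mem_ker, map_sub, aeval_X, map_one, LinearMap.sub_apply, Module.End.one_apply,
      sub_eq_zero] at hv
    rw [hv, Module.End.one_apply]
  have hpos : 0 < finrank F (LinearMap.ker (aeval t (cyclotomic n F))) := by
    rw [Module.finrank_pos_iff_exists_ne_zero]
    obtain ⟨w, hw, hw0⟩ := Submodule.exists_mem_ne_zero_of_ne_bot hW
    exact ⟨⟨w, hw⟩, fun h => hw0 (congrArg Subtype.val h)⟩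
  have hk1 : k = 1 := by
    rcases Nat.lt_or_ge k 1 with h | h
    · interval_cases k
      omega
    · rcases Nat.lt_or_ge k 2 with h' | h'
      · omega
      · have : (n - 1) * 2 ≤ (n - 1) * k := Nat.mul_le_mul_left _ h'
        omega
  rw [hk1, mul_one] at hk
  constructor <;> omega

/-- the existence of a cyclic vector -/
theorem exists_cyclic_vector (n : ℕ) [hn : Fact n.Prime] (hnp : n ≠ p) (hn3 : 2 < n)
    (hord : orderOf ((Fintype.card F : ℕ) : ZMod n) = n - 1) (hdim : finrank F V = n)
    (t : V →ₗ[F] V) (ht : t ^ n = 1) (ht1 : t ≠ 1) :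
    ∃ v : V, LinearIndependent F (fun i : Fin n => (t ^ (i : ℕ)) v) := by
  obtain ⟨hE, hW⟩ := finrank_ker_eq n hnp hn3 hord hdim t ht ht1
  have hc := isCompl_ker n hnp t ht
  have hirr := irreducible_cyclotomic (F := F) n hnp hord
  obtain ⟨⟨u, hu⟩, hu0⟩ := (Module.finrank_pos_iff_exists_ne_zero (R := F)
    (M := LinearMap.ker (aeval t (X - 1 : F[X])))).mp (by omega)
  obtain ⟨⟨w, hw⟩, hw0⟩ := (Module.finrank_pos_iff_exists_ne_zero (R := F)
    (M := LinearMap.ker (aeval t (cyclotomic n F)))).mp (by omega)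
  have hu0' : u ≠ 0 := fun h => hu0 (Subtype.ext h)
  have hw0' : w ≠ 0 := fun h => hw0 (Subtype.ext h)
  have htu : t u = u := by
    rw [LinearMap.mem_ker, map_sub, aeval_X, map_one, LinearMap.sub_apply, Module.End.one_apply,
      sub_eq_zero] at hu
    exact hu
  have hev : Module.End.HasEigenvector t 1 u := by
    refine ⟨?_, hu0'⟩
    rw [Module.End.mem_eigenspace_iff, htu, one_smul]
  refine ⟨u + w, ?_⟩
  rw [Fintype.linearIndependent_iff]
  intro a ha
  set A : F[X] := ∑ i : Fin n, C (a i) * X ^ (i : ℕ) with hA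
  have hAv : aeval t A (u + w) = 0 := by
    rw [hA, map_sum, LinearMap.sum_apply, ← ha]
    apply Finset.sum_congr rfl
    intro i _
    rw [map_mul, aeval_C, map_pow, aeval_X, Module.End.mul_apply, Module.algebraMap_end_apply]
  have hAdeg : A.degree < n := degree_sum_fin_lt a
  -- split
  have hAu : aeval t A u ∈ LinearMap.ker (aeval t (X - 1 : F[X])) :=
    Inv.aeval (inv_ker_aeval t (X - 1 : F[X])) A u hu
  have hAw : aeval t A w ∈ LinearMap.ker (aeval t (cyclotomic n F)) :=
    Inv.aeval (inv_ker_aeval t (cyclotomic n F)) A w hw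
  rw [map_add] at hAv
  have hAu0 : aeval t A u = 0 := by
    have h1 : aeval t A u = -aeval t A w := eq_neg_of_add_eq_zero_left hAv
    have h2 : aeval t A u ∈ LinearMap.ker (aeval t (cyclotomic n F)) := by
      rw [h1]; exact Submodule.neg_mem _ hAw
    exact (Submodule.disjoint_def.mp hc.disjoint) _ hAu h2
  have hAw0 : aeval t A w = 0 := by rwa [hAu0, zero_add] at hAv
  -- `X - 1` divides `A`
  have hd1 : (X - C (1 : F)) ∣ A := by
    rw [dvd_iff_isRoot, IsRoot.def]
    rw [Module.End.aeval_apply_of_hasEigenvector hev] at hAu0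
    exact (smul_eq_zero.mp hAu0).resolve_right hu0'
  -- the cyclotomic polynomial divides `A`
  have hd2 : cyclotomic n F ∣ A := by
    by_contra hnd
    have hcop : IsCoprime (cyclotomic n F) A := (hirr.coprime_iff_not_dvd).mpr hnd
    obtain ⟨r, s, hrs⟩ := hcop
    have h1 := congrArg (fun f : F[X] => aeval t f w) hrs
    simp only [map_add, map_mul, map_one, LinearMap.add_apply, Module.End.mul_apply,
      Module.End.one_apply] at h1
    rw [hAw0, map_zero, add_zero, LinearMap.mem_ker.mp hw, map_zero] at h1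
    exact hw0' h1.symm
  have hcop := isCoprime_X_sub_one_cyclotomic (F := F) n hnp
  have h1 : (X - 1 : F[X]) = X - C 1 := by simp
  rw [h1] at hcop
  have hd3 : (X - C (1 : F)) * cyclotomic n F ∣ A := hcop.mul_dvd hd1 hd2
  have hA0 : A = 0 := by
    apply eq_zero_of_dvd_of_degree_lt hd3
    have h2 : ((X - C (1 : F)) * cyclotomic n F).degree = ((n : ℕ) : WithBot ℕ) := by
      rw [degree_mul, degree_X_sub_C, degree_cyclotomic, Nat.totient_prime hn.out]
      have hn1 : 1 ≤ n := hn.out.one_le
      norm_cast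
      omega
    rw [h2]
    exact hAdeg
  intro i
  have h3 := congrArg (fun f : F[X] => f.coeff (i : ℕ)) hA0
  simp only [hA, finset_sum_coeff, coeff_C_mul_X_pow, coeff_zero] at h3
  rw [Finset.sum_eq_single i] at h3
  · simpa using h3
  · intro j _ hji
    rw [if_neg]
    intro h
    exact hji (Fin.ext h.symm)
  · intro h
    exact absurd (Finset.mem_univ i) h

end

end Cfsg.Agent.Lib.Helper9.H9PExt
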