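import Mathlib
import Cfsg.Prelude
import Cfsg.Agent.Lib.Helper9.PExt8
import Cfsg.Agent.Lib.Helper9.GSpInv3

set_option autoImplicit false

/-! Conjugacy of maps of order `n` with cyclic vectors, and their centralisers. -/

namespace Cfsg.Agent.Lib.Helper9.H9PExt

open Module Polynomial
open Cfsg.Agent.Lib.Helper9.H9Elus
open Cfsg.Agent.Lib.Helper9.H9GSpInv

section conj
universe u v
variable {F : Type v} [Field F]

theorem conj_of_cyclic {V V' : Type u} [AddCommGroup V] [Module F V] [FiniteDimensional F V]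
    [AddCommGroup V'] [Module F V'] [FiniteDimensional F V'] (n : ℕ) (hn : 0 < n)
    (hV : finrank F V = n) (hV' : finrank F V' = n)
    (t : V →ₗ[F] V) (t' : V' →ₗ[F] V') (ht : t ^ n = 1) (ht' : t' ^ n = 1)
    (v : V) (hv : LinearIndependent F (fun i : Fin n => (t ^ (i : ℕ)) v))
    (v' : V') (hv' : LinearIndependent F (fun i : Fin n => (t' ^ (i : ℕ)) v')) :
    ∃ g : V ≃ₗ[F] V', ∀ w, g (t w) = t' (g w) := by
  haveI : Nonempty (Fin n) := ⟨⟨0, hn⟩⟩
  let b := basisOfLinearIndependentOfCardEqFinrank hv (by rw [Fintype.card_fin, hV])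
  let b' := basisOfLinearIndependentOfCardEqFinrank hv' (by rw [Fintype.card_fin, hV'])
  have hb : ∀ i : Fin n, b i = (t ^ (i : ℕ)) v := fun i => by
    simp [b]
  have hb' : ∀ i : Fin n, b' i = (t' ^ (i : ℕ)) v' := fun i => by
    simp [b']
  let g := b.equiv b' (Equiv.refl _)
  have hgb : ∀ i : Fin n, g (b i) = b' i := fun i => by
    rw [Basis.equiv_apply, Equiv.refl_apply]
  have hgk : ∀ k : ℕ, g ((t ^ k) v) = (t' ^ k) v' := by
    intro k
    rw [pow_eq_pow_mod k ht, pow_eq_pow_mod k ht']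
    have hlt : k % n < n := Nat.mod_lt k hn
    have h1 := hgb ⟨k % n, hlt⟩
    rwa [hb, hb'] at h1
  refine ⟨g, ?_⟩
  have hcomp : (g : V →ₗ[F] V') ∘ₗ t = t' ∘ₗ (g : V →ₗ[F] V') := by
    apply b.ext
    intro i
    show g (t (b i)) = t' (g (b i))
    rw [hb, hgk, ← Module.End.mul_apply, ← pow_succ', hgk, pow_succ', Module.End.mul_apply]
  intro w
  exact congrArg (fun f : V →ₗ[F] V' => f w) hcomp

end conj

section cent
variable {F V : Type*} [Field F] [Fintype F] {p : ℕ} [Fact p.Prime] [CharP F p]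
  [AddCommGroup V] [Module F V] [FiniteDimensional F V]

theorem exists_cent_det (n : ℕ) [hn : Fact n.Prime] (hnp : n ≠ p) (hn3 : 2 < n)
    (hord : orderOf ((Fintype.card F : ℕ) : ZMod n) = n - 1) (hdim : finrank F V = n)
    (t : V →ₗ[F] V) (ht : t ^ n = 1) (ht1 : t ≠ 1) (δ : F) :
    ∃ c : V →ₗ[F] V, LinearMap.det c = δ ∧ ∀ v, c (t v) = t (c v) := by
  obtain ⟨hE, -⟩ := finrank_ker_eq n hnp hn3 hord hdim t ht ht1
  have hc := isCompl_ker n hnp t ht
  refine ⟨blockMap _ _ hc (δ • 1), ?_, ?_⟩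
  · rw [det_blockMap, det_smul_one, hE, pow_one]
  · apply blockMap_comm _ _ hc (δ • 1) t (inv_ker_aeval t _) (inv_ker_aeval t _)
    intro a
    rw [LinearMap.smul_apply, LinearMap.smul_apply, Module.End.one_apply, Module.End.one_apply,
      map_smul]

end cent

end Cfsg.Agent.Lib.Helper9.H9PExt
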