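import Mathlib
import Cfsg.Prelude
import Cfsg.Agent.Lib.Helper9.PExt3
import Cfsg.Agent.Lib.Helper9.PExt4
import Cfsg.Agent.Lib.Helper9.PExt9
import Cfsg.Agent.Lib.Helper9.GConj1

set_option autoImplicit false

/-! Elements of order `n` of `SL_n` are conjugate into the normaliser of a field subalgebra of
degree `n`, when `q` is a primitive root modulo `n`. -/

namespace Cfsg.Agent.Lib.Helper9.H9PExt

open Module Matrix
open Cfsg.Agent.Lib.Helper9.H9GConj

variable {F : Type*} [Field F] [Fintype F] {p : ℕ} [Fact p.Prime] [CharP F p] {n : ℕ}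
variable {K : Subalgebra F (Matrix (Fin n) (Fin n) F)}

local notation "Mat" => Matrix (Fin n) (Fin n) F

theorem conj_mem_of_order [hn : Fact n.Prime] (hK : Cfsg.Geo.IsFieldSubalgebra n K) (hnp : n ≠ p)
    (hn3 : 2 < n) (hord : orderOf ((Fintype.card F : ℕ) : ZMod n) = n - 1)
    (x : Matrix.SpecialLinearGroup (Fin n) F) (hxn : (x : Mat) ^ n = 1) (hx1 : (x : Mat) ≠ 1) :
    ∃ P : Matrix.SpecialLinearGroup (Fin n) F,
      P⁻¹ * x * P ∈ (Cfsg.Geo.subalgebraNormalizer K).comap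
        (Matrix.SpecialLinearGroup.toGL :
          Matrix.SpecialLinearGroup (Fin n) F →* GL (Fin n) F) := by
  haveI : NeZero n := ⟨by omega⟩
  have hdim : finrank F (Fin n → F) = n := by
    rw [Module.finrank_fintype_fun_eq_card, Fintype.card_fin]
  set t := Matrix.toLin' (x : Mat) with ht
  have htn : t ^ n = 1 := by
    rw [ht, ← Matrix.toLin'_pow, hxn, Matrix.toLin'_one]
    rfl
  have ht1 : t ≠ 1 := by
    intro h1
    apply hx1
    apply Matrix.toLin'.injective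
    rw [← ht, h1, Matrix.toLin'_one]
    rfl
  -- the Frobenius map
  set v₀ : Fin n → F := Pi.single 0 1 with hv₀def
  have hv₀ : v₀ ≠ 0 := by
    intro h
    have := congrFun h 0
    simp [hv₀def] at this
  set σ := sigma K hK v₀ hv₀ with hσ
  have hσn : σ ^ n = 1 := sigma_pow_n v₀ hv₀
  have hσ1 : σ ≠ 1 := sigma_ne_one (by omega) v₀ hv₀
  obtain ⟨v, hv⟩ := exists_cyclic_vector n hnp hn3 hord hdim t htn ht1
  obtain ⟨v', hv'⟩ := exists_cyclic_vector n hnp hn3 hord hdim σ hσn hσ1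
  obtain ⟨g, hg⟩ := conj_of_cyclic n (by omega) hdim hdim t σ htn hσn v hv v' hv'
  have hcent : ∀ δ : F, δ ≠ 0 → ∃ c : (Fin n → F) →ₗ[F] (Fin n → F), LinearMap.det c = δ ∧
      ∀ v, c (Matrix.toLin' (x : Mat) v) = Matrix.toLin' (x : Mat) (c v) := by
    intro δ _
    exact exists_cent_det n hnp hn3 hord hdim t htn ht1 δ
  obtain ⟨P, hP⟩ := exists_SL_conj x σ g hg hcent
  refine ⟨P, ?_⟩
  rw [Subgroup.mem_comap]
  apply mem_normalizer_of_conj_mem
  intro θ hθ
  rw [Matrix.SpecialLinearGroup.coe_GL_coe_matrix, hP, sigma_mul v₀ hv₀ θ hθ, Matrix.mul_assoc]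
  have h1 : LinearMap.toMatrix' σ *
      (((Matrix.SpecialLinearGroup.toGL (P⁻¹ * x * P) : GL (Fin n) F)⁻¹ : GL (Fin n) F) : Mat)
      = 1 := by
    have h2 := GL_mul_inv (Matrix.SpecialLinearGroup.toGL (P⁻¹ * x * P) : GL (Fin n) F)
    rwa [Matrix.SpecialLinearGroup.coe_GL_coe_matrix, hP] at h2
  rw [h1, Matrix.mul_one]
  exact K.pow_mem hθ _

end Cfsg.Agent.Lib.Helper9.H9PExt
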