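import Mathlib
import Cfsg.Prelude

set_option autoImplicit false

/-! The block embedding `A ↦ diag(A, 1)` of `m × m` matrices into `n × n` matrices. -/

namespace Cfsg.Agent.Lib.Helper9.H9PExt

open Module Matrix

variable {F : Type*} [Field F]

/-- the index equivalence -/
def blockEquiv (m n : ℕ) (h : m ≤ n) : Fin m ⊕ Fin (n - m) ≃ Fin n :=
  finSumFinEquiv.trans (finCongr (Nat.add_sub_cancel' h))

/-- the block matrix `diag(A, 1)` -/
def blockOne (m n : ℕ) (h : m ≤ n) (A : Matrix (Fin m) (Fin m) F) : Matrix (Fin n) (Fin n) F :=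
  (Matrix.fromBlocks A (0 : Matrix (Fin m) (Fin (n - m)) F) (0 : Matrix (Fin (n - m)) (Fin m) F)
    (1 : Matrix (Fin (n - m)) (Fin (n - m)) F)).submatrix (blockEquiv m n h).symm
      (blockEquiv m n h).symm

theorem blockOne_one (m n : ℕ) (h : m ≤ n) :
    blockOne m n h (1 : Matrix (Fin m) (Fin m) F) = 1 := by
  unfold blockOne
  rw [Matrix.fromBlocks_one, Matrix.submatrix_one_equiv]

theorem blockOne_mul (m n : ℕ) (h : m ≤ n) (A B : Matrix (Fin m) (Fin m) F) :
    blockOne m n h (A * B) = blockOne m n h A * blockOne m n h B := by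
  unfold blockOne
  rw [Matrix.submatrix_mul_equiv, Matrix.fromBlocks_multiply]
  simp

theorem blockOne_pow (m n : ℕ) (h : m ≤ n) (A : Matrix (Fin m) (Fin m) F) (k : ℕ) :
    blockOne m n h (A ^ k) = blockOne m n h A ^ k := by
  induction k with
  | zero => rw [pow_zero, pow_zero, blockOne_one]
  | succ k ih => rw [pow_succ, pow_succ, blockOne_mul, ih]

theorem det_blockOne (m n : ℕ) (h : m ≤ n) (A : Matrix (Fin m) (Fin m) F) :
    (blockOne m n h A).det = A.det := by
  unfold blockOne
  rw [Matrix.det_submatrix_equiv_self, Matrix.det_fromBlocks_zero₂₁, Matrix.det_one, mul_one]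

theorem blockOne_apply_inl (m n : ℕ) (h : m ≤ n) (A : Matrix (Fin m) (Fin m) F) (i j : Fin m) :
    blockOne m n h A (blockEquiv m n h (Sum.inl i)) (blockEquiv m n h (Sum.inl j)) = A i j := by
  unfold blockOne
  rw [Matrix.submatrix_apply, Equiv.symm_apply_apply, Equiv.symm_apply_apply,
    Matrix.fromBlocks_apply₁₁]

theorem blockOne_injective (m n : ℕ) (h : m ≤ n) :
    Function.Injective (blockOne (F := F) m n h) := by
  intro A B hAB
  ext i j
  rw [← blockOne_apply_inl m n h A, ← blockOne_apply_inl m n h B, hAB]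

theorem blockOne_sub_one (m n : ℕ) (h : m ≤ n) (A : Matrix (Fin m) (Fin m) F) :
    blockOne m n h A - 1 =
      (Matrix.fromBlocks (A - 1) (0 : Matrix (Fin m) (Fin (n - m)) F)
        (0 : Matrix (Fin (n - m)) (Fin m) F)
        (0 : Matrix (Fin (n - m)) (Fin (n - m)) F)).submatrix (blockEquiv m n h).symm
          (blockEquiv m n h).symm := by
  rw [← blockOne_one (F := F) m n h]
  unfold blockOne
  show ((Matrix.fromBlocks A (0 : Matrix (Fin m) (Fin (n - m)) F)
      (0 : Matrix (Fin (n - m)) (Fin m) F) (1 : Matrix (Fin (n - m)) (Fin (n - m)) F)) -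
    (Matrix.fromBlocks (1 : Matrix (Fin m) (Fin m) F) (0 : Matrix (Fin m) (Fin (n - m)) F)
      (0 : Matrix (Fin (n - m)) (Fin m) F) (1 : Matrix (Fin (n - m)) (Fin (n - m)) F))).submatrix
        (blockEquiv m n h).symm (blockEquiv m n h).symm = _
  congr 1
  ext (i | i) (j | j) <;> simp [Matrix.one_apply]

theorem rank_blockOne_sub_one_le (m n : ℕ) (h : m ≤ n) (A : Matrix (Fin m) (Fin m) F) :
    (blockOne m n h A - 1).rank ≤ m := by
  rw [blockOne_sub_one, Matrix.rank_submatrix]
  have h1 : Matrix.fromBlocks (A - 1) (0 : Matrix (Fin m) (Fin (n - m)) F)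
      (0 : Matrix (Fin (n - m)) (Fin m) F) (0 : Matrix (Fin (n - m)) (Fin (n - m)) F)
      = (Matrix.fromRows (A - 1) (0 : Matrix (Fin (n - m)) (Fin m) F) :
          Matrix (Fin m ⊕ Fin (n - m)) (Fin m) F) *
        (Matrix.fromCols (1 : Matrix (Fin m) (Fin m) F) (0 : Matrix (Fin m) (Fin (n - m)) F) :
          Matrix (Fin m) (Fin m ⊕ Fin (n - m)) F) := by
    rw [Matrix.fromRows_mul_fromCols]
    simp
  rw [h1]
  refine le_trans (Matrix.rank_mul_le_right _ _) ?_
  refine le_trans (Matrix.rank_le_card_height _) ?_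
  rw [Fintype.card_fin]

end Cfsg.Agent.Lib.Helper9.H9PExt
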