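import Mathlib
import Cfsg.Prelude
import Cfsg.Agent.Lib.Helper1.SLCard

set_option autoImplicit false

/-! Elements of prime order `n` in a small special linear group. -/

namespace Cfsg.Agent.Lib.Helper9.H9PExt

open Module Matrix

variable {F : Type*} [Field F] [Fintype F]

theorem order_arith (n : ℕ) [hn : Fact n.Prime]
    (hq0 : ((Fintype.card F : ℕ) : ZMod n) ≠ 0)
    (hc : orderOf ((Fintype.card F : ℕ) : ZMod n) ≠ n - 1) :
    1 ≤ orderOf ((Fintype.card F : ℕ) : ZMod n) ∧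
      2 * orderOf ((Fintype.card F : ℕ) : ZMod n) < n ∧
      n ∣ Fintype.card F ^ orderOf ((Fintype.card F : ℕ) : ZMod n) - 1 := by
  set c := orderOf ((Fintype.card F : ℕ) : ZMod n) with hcdef
  have hn2 : 2 ≤ n := hn.out.two_le
  have h1 : ((Fintype.card F : ℕ) : ZMod n) ^ (n - 1) = 1 := ZMod.pow_card_sub_one_eq_one hq0
  have hdvd : c ∣ n - 1 := orderOf_dvd_of_pow_eq_one h1
  have hpos : 0 < c := by
    apply Nat.pos_of_ne_zero
    intro h0
    rw [h0, zero_dvd_iff] at hdvd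
    omega
  refine ⟨hpos, ?_, ?_⟩
  · obtain ⟨k, hk⟩ := hdvd
    have hk2 : 2 ≤ k := by
      rcases Nat.lt_or_ge k 2 with h | h
      · interval_cases k
        · omega
        · rw [mul_one] at hk; exact absurd hk.symm hc
      · exact h
    have : c * 2 ≤ c * k := Nat.mul_le_mul_left c hk2
    omega
  · have h2 : ((Fintype.card F : ℕ) : ZMod n) ^ c = 1 := pow_orderOf_eq_one _
    have h3 : 1 ≤ Fintype.card F ^ c := Nat.one_le_pow _ _ Fintype.card_pos
    rw [← ZMod.natCast_eq_zero_iff, Nat.cast_sub h3, Nat.cast_pow, h2, Nat.cast_one, sub_self]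

theorem exists_diag_elt (n : ℕ) [hn : Fact n.Prime] (hdvd : n ∣ Fintype.card F - 1) :
    ∃ A : Matrix.SpecialLinearGroup (Fin 2) F, A ^ n = 1 ∧ A ≠ 1 := by
  classical
  have hcard : Fintype.card Fˣ = Fintype.card F - 1 := Fintype.card_units F
  obtain ⟨ω, hω⟩ := exists_prime_orderOf_dvd_card n (by rw [hcard]; exact hdvd)
  have hωn : ω ^ n = 1 := by rw [← hω]; exact pow_orderOf_eq_one ω
  have hω1 : ω ≠ 1 := by
    intro h1
    rw [h1, orderOf_one] at hω
    exact hn.out.one_lt.ne hω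
  have hdet : (Matrix.diagonal ![(ω : F), ((ω⁻¹ : Fˣ) : F)]).det = 1 := by
    rw [Matrix.det_diagonal, Fin.prod_univ_two]
    simp
  let A : Matrix.SpecialLinearGroup (Fin 2) F :=
    ⟨Matrix.diagonal ![(ω : F), ((ω⁻¹ : Fˣ) : F)], hdet⟩
  refine ⟨A, ?_, ?_⟩
  · apply Subtype.ext
    rw [Matrix.SpecialLinearGroup.coe_pow, Matrix.SpecialLinearGroup.coe_one]
    show (Matrix.diagonal ![(ω : F), ((ω⁻¹ : Fˣ) : F)]) ^ n = 1
    rw [Matrix.diagonal_pow, ← Matrix.diagonal_one]
    congr 1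
    ext i
    fin_cases i
    · show (ω : F) ^ n = 1
      rw [← Units.val_pow_eq_pow_val, hωn, Units.val_one]
    · show ((ω⁻¹ : Fˣ) : F) ^ n = 1
      rw [← Units.val_pow_eq_pow_val, inv_pow, hωn, inv_one, Units.val_one]
  · intro h1
    have h2 := congrArg (fun B : Matrix.SpecialLinearGroup (Fin 2) F =>
      (B : Matrix (Fin 2) (Fin 2) F) 0 0) h1
    simp only [Matrix.SpecialLinearGroup.coe_one, Matrix.one_apply_eq] at h2
    change (Matrix.diagonal ![(ω : F), ((ω⁻¹ : Fˣ) : F)]) 0 0 = 1 at h2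
    rw [Matrix.diagonal_apply_eq] at h2
    exact hω1 (Units.ext h2)

theorem exists_small_order_elt (n : ℕ) [hn : Fact n.Prime] (hn3 : 3 < n)
    (hq0 : ((Fintype.card F : ℕ) : ZMod n) ≠ 0)
    (hc : orderOf ((Fintype.card F : ℕ) : ZMod n) ≠ n - 1) :
    ∃ m, 2 * m < n ∧ ∃ A : Matrix.SpecialLinearGroup (Fin m) F, A ^ n = 1 ∧ A ≠ 1 := by
  classical
  obtain ⟨hc1, hc2, hcd⟩ := order_arith (F := F) n hq0 hc
  set c := orderOf ((Fintype.card F : ℕ) : ZMod n) with hcdef
  have hq2 : 2 ≤ Fintype.card F := Fintype.one_lt_card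
  by_cases hc1' : c = 1
  · have hn4 : n ≠ 4 := by
      intro h4
      have := hn.out
      rw [h4] at this
      exact absurd this (by norm_num)
    refine ⟨2, by omega, ?_⟩
    apply exists_diag_elt n
    rw [hc1', pow_one] at hcd
    exact hcd
  · refine ⟨c, hc2, ?_⟩
    have hnq : ¬ n ∣ Fintype.card F - 1 := by
      intro hd
      apply hc1'
      have h1 : ((Fintype.card F : ℕ) : ZMod n) ^ 1 = 1 := by
        rw [pow_one]
        have h2 := (ZMod.natCast_eq_zero_iff (Fintype.card F - 1) n).mpr hd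
        rw [Nat.cast_sub (by omega), Nat.cast_one, sub_eq_zero] at h2
        exact h2
      have h3 := orderOf_dvd_of_pow_eq_one h1
      exact Nat.dvd_one.mp h3
    have hcardSL := Cfsg.Agent.Lib.Helper1.card_SL_field (F := F) c hc1
    have hdvd1 : n ∣ ∏ i : Fin c, (Fintype.card F ^ c - Fintype.card F ^ (i : ℕ)) := by
      apply Dvd.dvd.trans _ (Finset.dvd_prod_of_mem _ (Finset.mem_univ (⟨0, hc1⟩ : Fin c)))
      simpa using hcd
    rw [← hcardSL] at hdvd1
    have hdvd2 : n ∣ Nat.card (Matrix.SpecialLinearGroup (Fin c) F) :=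
      (hn.out.dvd_mul.mp hdvd1).resolve_left hnq
    obtain ⟨A, hA⟩ := exists_prime_orderOf_dvd_card' n hdvd2
    refine ⟨A, ?_, ?_⟩
    · rw [← hA]; exact pow_orderOf_eq_one A
    · intro h1
      rw [h1, orderOf_one] at hA
      exact hn.out.one_lt.ne hA

end Cfsg.Agent.Lib.Helper9.H9PExt
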