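import Mathlib
import Cfsg.Prelude
import Cfsg.Agent.Lib.Helper9.PExt4
import Cfsg.Agent.Lib.Helper9.PExt5
import Cfsg.Agent.Lib.Helper9.PExt6

set_option autoImplicit false

/-! An element of order `n` of `SL_n` with no conjugate normalising the field subalgebra. -/

namespace Cfsg.Agent.Lib.Helper9.H9PExt

open Module Matrix

variable {F : Type*} [Field F] [Fintype F] {n : ℕ}
variable {K : Subalgebra F (Matrix (Fin n) (Fin n) F)}

local notation "Mat" => Matrix (Fin n) (Fin n) F

theorem rank_smul_one (c : F) (hc : c ≠ 0) : (c • (1 : Mat)).rank = n := by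
  have h1 : (c • (1 : Mat)) * (c⁻¹ • (1 : Mat)) = 1 := by
    rw [Matrix.smul_mul, Matrix.mul_smul, Matrix.one_mul, smul_smul, mul_inv_cancel₀ hc, one_smul]
  rw [Matrix.rank_of_isUnit _ ((Matrix.isUnit_iff_isUnit_det _).mpr
    (Matrix.isUnit_det_of_right_inverse h1)), Fintype.card_fin]

theorem exists_not_conj [hn : Fact n.Prime] (hK : Cfsg.Geo.IsFieldSubalgebra n K) (hn3 : 3 < n)
    (hq0 : ((Fintype.card F : ℕ) : ZMod n) ≠ 0)
    (hc : orderOf ((Fintype.card F : ℕ) : ZMod n) ≠ n - 1) :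
    ∃ x : Matrix.SpecialLinearGroup (Fin n) F,
      ((x ^ n : Matrix.SpecialLinearGroup (Fin n) F) : Mat) = (1 : F) • (1 : Mat) ∧
      (∀ z : F, (x : Mat) ≠ z • (1 : Mat)) ∧
      ∀ P : Matrix.SpecialLinearGroup (Fin n) F,
        P⁻¹ * x * P ∉ (Cfsg.Geo.subalgebraNormalizer K).comap
          (Matrix.SpecialLinearGroup.toGL :
            Matrix.SpecialLinearGroup (Fin n) F →* GL (Fin n) F) := by
  have : NeZero n := ⟨by omega⟩
  obtain ⟨m, hm2, A, hAn, hA1⟩ := exists_small_order_elt (F := F) n hn3 hq0 hc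
  have hm : m ≤ n := by omega
  set X : Mat := blockOne m n hm (A : Matrix (Fin m) (Fin m) F) with hX
  have hdet : X.det = 1 := by rw [hX, det_blockOne]; exact A.2
  have hXn : X ^ n = 1 := by
    rw [hX, ← blockOne_pow, ← Matrix.SpecialLinearGroup.coe_pow, hAn,
      Matrix.SpecialLinearGroup.coe_one, blockOne_one]
  have hR0 : X - 1 ≠ 0 := by
    intro h0
    apply hA1
    apply Subtype.ext
    apply blockOne_injective m n hm
    rw [Matrix.SpecialLinearGroup.coe_one, blockOne_one]
    exact sub_eq_zero.mp h0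
  have hrank : (X - 1).rank ≤ m := rank_blockOne_sub_one_le m n hm _
  let x : Matrix.SpecialLinearGroup (Fin n) F := ⟨X, hdet⟩
  have hxX : (x : Mat) = X := rfl
  refine ⟨x, ?_, ?_, ?_⟩
  · rw [Matrix.SpecialLinearGroup.coe_pow, hxX, hXn, one_smul]
  · intro z hz
    rw [hxX] at hz
    by_cases hz1 : z = 1
    · apply hR0
      rw [hz, hz1, one_smul, sub_self]
    · have h1 : X - 1 = (z - 1) • (1 : Mat) := by rw [hz, sub_smul, one_smul]
      rw [h1, rank_smul_one _ (sub_ne_zero.mpr hz1)] at hrank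
      omega
  · intro P hmem
    rw [Subgroup.mem_comap] at hmem
    set Pi : Mat := ((P⁻¹ : Matrix.SpecialLinearGroup (Fin n) F) : Mat) with hPi
    set Pm : Mat := (P : Mat) with hPm
    have hPP : Pm * Pi = 1 := by
      rw [hPm, hPi, ← Matrix.SpecialLinearGroup.coe_mul, mul_inv_cancel,
        Matrix.SpecialLinearGroup.coe_one]
    have hPP' : Pi * Pm = 1 := by
      rw [hPm, hPi, ← Matrix.SpecialLinearGroup.coe_mul, inv_mul_cancel,
        Matrix.SpecialLinearGroup.coe_one]
    have hPidet : IsUnit Pi.det := by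
      rw [hPi, (P⁻¹).2]; exact isUnit_one
    have hPmdet : IsUnit Pm.det := by
      rw [hPm, P.2]; exact isUnit_one
    set R : Mat := Pi * (X - 1) * Pm with hRdef
    have hY : ((Matrix.SpecialLinearGroup.toGL (P⁻¹ * x * P) : GL (Fin n) F) : Mat)
        = (1 : F) • (1 : Mat) + R := by
      rw [Matrix.SpecialLinearGroup.coe_GL_coe_matrix, Matrix.SpecialLinearGroup.coe_mul,
        Matrix.SpecialLinearGroup.coe_mul, hxX, one_smul, hRdef, Matrix.mul_sub, Matrix.sub_mul,
        Matrix.mul_one, hPP']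
      abel
    have hRrank : R.rank = (X - 1).rank := by
      rw [hRdef, Matrix.rank_mul_eq_left_of_isUnit_det _ _ hPmdet,
        Matrix.rank_mul_eq_right_of_isUnit_det _ _ hPidet]
    have hRne : R ≠ 0 := by
      intro h0
      apply hR0
      have h1 : Pm * R * Pi = X - 1 := by
        rw [hRdef]
        simp only [← Matrix.mul_assoc, hPP, Matrix.one_mul]
        rw [Matrix.mul_assoc, hPP, Matrix.mul_one]
      rw [← h1, h0, Matrix.mul_zero, Matrix.zero_mul]
    exact not_mem_normalizer_of_rank hK _ 1 R hY hRne (by rw [hRrank]; omega) hmem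

end Cfsg.Agent.Lib.Helper9.H9PExt
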