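import Mathlib
import Cfsg.Prelude
import Cfsg.Agent.Lib.Helper9.PExt7

set_option autoImplicit false

/-! Elements `d + R` with `R` of small rank have no conjugate normalising the field subalgebra;
examples in dimension three. -/

namespace Cfsg.Agent.Lib.Helper9.H9PExt

open Module Matrix

section general
variable {F : Type*} [Field F] {n : ℕ}
variable {K : Subalgebra F (Matrix (Fin n) (Fin n) F)}

local notation "Mat" => Matrix (Fin n) (Fin n) F

theorem rank_smul_one' (c : F) (hc : c ≠ 0) : (c • (1 : Mat)).rank = n := by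
  have h1 : (c • (1 : Mat)) * (c⁻¹ • (1 : Mat)) = 1 := by
    rw [Matrix.smul_mul, Matrix.mul_smul, Matrix.one_mul, smul_smul, mul_inv_cancel₀ hc, one_smul]
  rw [Matrix.rank_of_isUnit _ ((Matrix.isUnit_iff_isUnit_det _).mpr
    (Matrix.isUnit_det_of_right_inverse h1)), Fintype.card_fin]

theorem not_smul_of_rank (X : Mat) (d : F) (R : Mat) (hX : X = d • (1 : Mat) + R) (hR : R ≠ 0)
    (hrank : R.rank < n) (z : F) : X ≠ z • (1 : Mat) := by
  intro hz
  have h1 : R = (z - d) • (1 : Mat) := by
    rw [sub_smul, ← hz, hX]; abel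
  by_cases hzd : z = d
  · apply hR
    rw [h1, hzd, sub_self, zero_smul]
  · rw [h1, rank_smul_one' _ (sub_ne_zero.mpr hzd)] at hrank
    omega

theorem not_conj_of_rank [NeZero n] (hK : Cfsg.Geo.IsFieldSubalgebra n K)
    (x : Matrix.SpecialLinearGroup (Fin n) F) (d : F) (R : Mat)
    (hx : (x : Mat) = d • (1 : Mat) + R) (hR : R ≠ 0) (hrank : 2 * R.rank < n)
    (P : Matrix.SpecialLinearGroup (Fin n) F) :
    P⁻¹ * x * P ∉ (Cfsg.Geo.subalgebraNormalizer K).comap
      (Matrix.SpecialLinearGroup.toGL :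
        Matrix.SpecialLinearGroup (Fin n) F →* GL (Fin n) F) := by
  intro hmem
  rw [Subgroup.mem_comap] at hmem
  set Pi : Mat := ((P⁻¹ : Matrix.SpecialLinearGroup (Fin n) F) : Mat) with hPi
  set Pm : Mat := (P : Mat) with hPm
  have hPP : Pm * Pi = 1 := by
    rw [hPm, hPi, ← Matrix.SpecialLinearGroup.coe_mul, mul_inv_cancel,
      Matrix.SpecialLinearGroup.coe_one]
  have hPP' : Pi * Pm = 1 := by
    rw [hPm, hPi, ← Matrix.SpecialLinearGroup.coe_mul, inv_mul_cancel,
      Matrix.SpecialLinearGroup.coe_one]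
  have hPidet : IsUnit Pi.det := by
    rw [hPi, (P⁻¹).2]; exact isUnit_one
  have hPmdet : IsUnit Pm.det := by
    rw [hPm, P.2]; exact isUnit_one
  set R' : Mat := Pi * R * Pm with hRdef
  have hY : ((Matrix.SpecialLinearGroup.toGL (P⁻¹ * x * P) : GL (Fin n) F) : Mat)
      = d • (1 : Mat) + R' := by
    rw [Matrix.SpecialLinearGroup.coe_GL_coe_matrix, Matrix.SpecialLinearGroup.coe_mul,
      Matrix.SpecialLinearGroup.coe_mul, hx, hRdef, Matrix.mul_add, Matrix.add_mul,
      Matrix.mul_smul, Matrix.smul_mul, Matrix.mul_one, hPP']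
  have hRrank : R'.rank = R.rank := by
    rw [hRdef, Matrix.rank_mul_eq_left_of_isUnit_det _ _ hPmdet,
      Matrix.rank_mul_eq_right_of_isUnit_det _ _ hPidet]
  have hRne : R' ≠ 0 := by
    intro h0
    apply hR
    have h1 : Pm * R' * Pi = R := by
      rw [hRdef]
      simp only [← Matrix.mul_assoc, hPP, Matrix.one_mul]
      rw [Matrix.mul_assoc, hPP, Matrix.mul_one]
    rw [← h1, h0, Matrix.mul_zero, Matrix.zero_mul]
  exact not_mem_normalizer_of_rank hK _ d R' hY hRne (by rw [hRrank]; exact hrank) hmem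

theorem rank_single_le (i j : Fin n) (c : F) : (Matrix.single i j c : Mat).rank ≤ 1 := by
  have h1 : (Matrix.single i j c : Mat) = Matrix.vecMulVec (Pi.single i c) (Pi.single j 1) := by
    ext a b
    simp only [Matrix.vecMulVec_apply, Matrix.single_apply, Pi.single_apply]
    by_cases ha : a = i
    · by_cases hb : b = j
      · subst ha hb; simp
      · subst ha; simp [hb, Ne.symm hb]
    · simp [ha, Ne.symm ha]
  rw [h1]
  exact Matrix.rank_vecMulVec_le _ _

end general

section three
variable {F : Type*} [Field F]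

local notation "Mat3" => Matrix (Fin 3) (Fin 3) F

/-- a transvection of order three in characteristic three -/
theorem exists_transvection_elt [CharP F 3] :
    ∃ x : Matrix.SpecialLinearGroup (Fin 3) F,
      ((x ^ 3 : Matrix.SpecialLinearGroup (Fin 3) F) : Mat3) = (1 : F) • (1 : Mat3) ∧
      ∃ R : Mat3, (x : Mat3) = (1 : F) • (1 : Mat3) + R ∧ R ≠ 0 ∧ R.rank ≤ 1 := by
  have h01 : (0 : Fin 3) ≠ 1 := by decide
  let x : Matrix.SpecialLinearGroup (Fin 3) F :=
    ⟨Matrix.transvection 0 1 (1 : F), Matrix.det_transvection_of_ne 0 1 h01 1⟩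
  have hx : (x : Mat3) = Matrix.transvection 0 1 (1 : F) := rfl
  refine ⟨x, ?_, Matrix.single 0 1 1, ?_, ?_, rank_single_le 0 1 1⟩
  · rw [Matrix.SpecialLinearGroup.coe_pow, hx, pow_succ, pow_two,
      Matrix.transvection_mul_transvection_same 0 1 h01,
      Matrix.transvection_mul_transvection_same 0 1 h01, one_smul]
    have h3 : (1 + 1 + 1 : F) = 0 := by
      have := CharP.cast_eq_zero F 3
      norm_num at this
      linear_combination this
    rw [h3, Matrix.transvection_zero]
  · rw [hx, one_smul]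
    rfl
  · intro h0
    have := congrFun (congrFun h0 0) 1
    simp at this

/-- a diagonal element with scalar cube when `F` has an element of order nine -/
theorem exists_diag_elt_nine (d : F) (hd9 : d ^ 9 = 1) (hd3 : d ^ 3 ≠ 1) :
    ∃ x : Matrix.SpecialLinearGroup (Fin 3) F,
      ((x ^ 3 : Matrix.SpecialLinearGroup (Fin 3) F) : Mat3) = (d ^ 3) • (1 : Mat3) ∧
      ∃ R : Mat3, (x : Mat3) = d • (1 : Mat3) + R ∧ R ≠ 0 ∧ R.rank ≤ 1 := by
  have hd0 : d ≠ 0 := by
    intro h0
    rw [h0] at hd9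
    norm_num at hd9
  set ω : F := (d ^ 3)⁻¹ with hω
  have hω1 : ω ≠ 1 := by
    intro h1
    apply hd3
    rw [hω, inv_eq_one] at h1
    exact h1
  have hω3 : ω ^ 3 = 1 := by
    rw [hω, inv_pow, ← pow_mul, hd9, inv_one]
  have hdω : d ^ 3 * ω = 1 := by
    rw [hω, mul_inv_cancel₀ (pow_ne_zero 3 hd0)]
  have hdet : (Matrix.diagonal ![d, d, d * ω] : Mat3).det = 1 := by
    rw [Matrix.det_diagonal, Fin.prod_univ_three]
    show d * d * (d * ω) = 1
    linear_combination hdω
  let x : Matrix.SpecialLinearGroup (Fin 3) F := ⟨Matrix.diagonal ![d, d, d * ω], hdet⟩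
  have hx : (x : Mat3) = Matrix.diagonal ![d, d, d * ω] := rfl
  refine ⟨x, ?_, Matrix.single 2 2 (d * ω - d), ?_, ?_, rank_single_le 2 2 _⟩
  · rw [Matrix.SpecialLinearGroup.coe_pow, hx, Matrix.diagonal_pow, Matrix.smul_one_eq_diagonal]
    congr 1
    ext i
    fin_cases i
    · simp
    · simp
    · show (d * ω) ^ 3 = d ^ 3
      rw [mul_pow, hω3, mul_one]
  · rw [hx]
    ext i j
    fin_cases i <;> fin_cases j <;> simp
  · intro h0
    have h1 := congrFun (congrFun h0 2) 2
    simp only [Matrix.single_apply_same, Matrix.zero_apply] at h1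
    apply hω1
    have h2 : d * (ω - 1) = 0 := by linear_combination h1
    rcases mul_eq_zero.mp h2 with h | h
    · exact absurd h hd0
    · exact sub_eq_zero.mp h

end three

end Cfsg.Agent.Lib.Helper9.H9PExt
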