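import Mathlib
import Cfsg.Prelude
import Cfsg.Agent.Lib.Helper9.PExt3
import Cfsg.Agent.Lib.Helper9.PExt4
import Cfsg.Agent.Lib.Helper1.SLCard

set_option autoImplicit false

/-! The normaliser of a cubic field subalgebra in `SL_3(q)` has order divisible by three; the
index for `q ≡ 2, 5 (mod 9)`. -/

namespace Cfsg.Agent.Lib.Helper9.H9PExt

open Module Matrix

variable {F : Type*} [Field F] [Fintype F] {n : ℕ} [NeZero n]
variable {K : Subalgebra F (Matrix (Fin n) (Fin n) F)} {hK : Cfsg.Geo.IsFieldSubalgebra n K}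

local notation "Mat" => Matrix (Fin n) (Fin n) F

theorem mem_normalizer_of_eq_sigma (v₀ : Fin n → F) (hv₀ : v₀ ≠ 0) (Y : GL (Fin n) F)
    (hY : (Y : Mat) = LinearMap.toMatrix' (sigma K hK v₀ hv₀)) :
    Y ∈ Cfsg.Geo.subalgebraNormalizer K := by
  apply mem_normalizer_of_conj_mem
  intro θ hθ
  rw [hY, sigma_mul v₀ hv₀ θ hθ, Matrix.mul_assoc, ← hY, GL_mul_inv, Matrix.mul_one]
  exact K.pow_mem hθ _

theorem toMatrix'_pow (f : (Fin n → F) →ₗ[F] (Fin n → F)) (k : ℕ) :
    LinearMap.toMatrix' (f ^ k) = LinearMap.toMatrix' f ^ k := by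
  induction k with
  | zero => rw [pow_zero, pow_zero]; exact LinearMap.toMatrix'_one
  | succ k ih => rw [pow_succ, pow_succ, ← ih]; exact LinearMap.toMatrix'_mul _ _

end Cfsg.Agent.Lib.Helper9.H9PExt

namespace Cfsg.Agent.Lib.Helper9.H9PExt

open Module Matrix

variable {F : Type*} [Field F] [Fintype F]
variable {K : Subalgebra F (Matrix (Fin 3) (Fin 3) F)}

local notation "Mat3" => Matrix (Fin 3) (Fin 3) F

theorem cube_eq_one_of_mod (hq : Fintype.card F % 3 = 2) (c : F) (hc : c ^ 3 = 1) : c = 1 := by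
  classical
  by_contra hne
  have hc0 : c ≠ 0 := by
    intro h0
    rw [h0] at hc
    norm_num at hc
  have h2 : orderOf (Units.mk0 c hc0) = 3 := by
    haveI : Fact (Nat.Prime 3) := ⟨Nat.prime_three⟩
    apply orderOf_eq_prime
    · apply Units.ext
      rw [Units.val_pow_eq_pow_val, Units.val_mk0, hc, Units.val_one]
    · intro h1
      apply hne
      have := congrArg Units.val h1
      simpa using this
  have h3 : 3 ∣ Fintype.card F - 1 := by
    rw [← h2, ← Fintype.card_units F]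
    exact orderOf_dvd_card
  have : 1 ≤ Fintype.card F := Fintype.card_pos
  omega

theorem three_dvd_card_normalizer (hK : Cfsg.Geo.IsFieldSubalgebra 3 K)
    (hq : Fintype.card F % 3 = 2) :
    3 ∣ Nat.card ↥((Cfsg.Geo.subalgebraNormalizer K).comap
      (Matrix.SpecialLinearGroup.toGL :
        Matrix.SpecialLinearGroup (Fin 3) F →* GL (Fin 3) F)) := by
  classical
  set v₀ : Fin 3 → F := Pi.single 0 1 with hv₀def
  have hv₀ : v₀ ≠ 0 := by
    intro h
    have := congrFun h 0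
    simp [hv₀def] at this
  set σ := sigma K hK v₀ hv₀ with hσ
  have hσn : σ ^ 3 = 1 := sigma_pow_n v₀ hv₀
  have hσ1 : σ ≠ 1 := sigma_ne_one (by omega) v₀ hv₀
  have hdet : (LinearMap.toMatrix' σ).det = 1 := by
    apply cube_eq_one_of_mod hq
    rw [← Matrix.det_pow, ← toMatrix'_pow, hσn, LinearMap.toMatrix'_one, Matrix.det_one]
  let s : Matrix.SpecialLinearGroup (Fin 3) F := ⟨LinearMap.toMatrix' σ, hdet⟩
  have hs : (s : Mat3) = LinearMap.toMatrix' σ := rfl
  have hsmem : s ∈ (Cfsg.Geo.subalgebraNormalizer K).comap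
      (Matrix.SpecialLinearGroup.toGL :
        Matrix.SpecialLinearGroup (Fin 3) F →* GL (Fin 3) F) := by
    rw [Subgroup.mem_comap]
    apply mem_normalizer_of_eq_sigma v₀ hv₀
    rw [Matrix.SpecialLinearGroup.coe_GL_coe_matrix, hs]
  have hs3 : s ^ 3 = 1 := by
    apply Subtype.ext
    rw [Matrix.SpecialLinearGroup.coe_pow, hs, ← toMatrix'_pow, hσn, LinearMap.toMatrix'_one,
      Matrix.SpecialLinearGroup.coe_one]
  have hs1 : s ≠ 1 := by
    intro h1
    apply hσ1
    have h2 := congrArg (fun B : Matrix.SpecialLinearGroup (Fin 3) F => (B : Mat3)) h1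
    simp only [Matrix.SpecialLinearGroup.coe_one] at h2
    rw [hs] at h2
    apply LinearMap.toMatrix'.injective
    rw [h2, LinearMap.toMatrix'_one]
  haveI : Fact (Nat.Prime 3) := ⟨Nat.prime_three⟩
  have hord : orderOf s = 3 := orderOf_eq_prime hs3 hs1
  have hord' : orderOf (⟨s, hsmem⟩ : ↥((Cfsg.Geo.subalgebraNormalizer K).comap
      (Matrix.SpecialLinearGroup.toGL :
        Matrix.SpecialLinearGroup (Fin 3) F →* GL (Fin 3) F))) = 3 :=
    (Subgroup.orderOf_mk s hsmem).trans hord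
  have hfin := orderOf_dvd_natCard (⟨s, hsmem⟩ : ↥((Cfsg.Geo.subalgebraNormalizer K).comap
      (Matrix.SpecialLinearGroup.toGL :
        Matrix.SpecialLinearGroup (Fin 3) F →* GL (Fin 3) F)))
  rwa [hord'] at hfin

theorem not_nine_dvd_card_SL (hq : Fintype.card F % 9 = 2 ∨ Fintype.card F % 9 = 5) :
    ¬ 9 ∣ Nat.card (Matrix.SpecialLinearGroup (Fin 3) F) := by
  intro h9
  have hcard := Cfsg.Agent.Lib.Helper1.card_SL_field (F := F) 3 (by norm_num)
  have h1 : 9 ∣ ∏ i : Fin 3, (Fintype.card F ^ 3 - Fintype.card F ^ (i : ℕ)) := by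
    rw [← hcard]
    exact Dvd.dvd.mul_left h9 _
  rw [Fin.prod_univ_three] at h1
  set q := Fintype.card F with hqdef
  have hq1 : 1 ≤ q := Fintype.card_pos
  have hle0 : q ^ 0 ≤ q ^ 3 := Nat.pow_le_pow_right hq1 (by norm_num)
  have hle1 : q ^ 1 ≤ q ^ 3 := Nat.pow_le_pow_right hq1 (by norm_num)
  have hle2 : q ^ 2 ≤ q ^ 3 := Nat.pow_le_pow_right hq1 (by norm_num)
  have h2 := (ZMod.natCast_eq_zero_iff _ 9).mpr h1
  simp only [Fin.val_zero, Fin.val_one, Fin.val_two] at h2
  rw [Nat.cast_mul, Nat.cast_mul, Nat.cast_sub hle0, Nat.cast_sub hle1, Nat.cast_sub hle2,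
    Nat.cast_pow, Nat.cast_pow, Nat.cast_pow, Nat.cast_pow] at h2
  have hqz : (q : ZMod 9) = 2 ∨ (q : ZMod 9) = 5 := by
    rcases hq with h | h
    · left
      rw [← ZMod.natCast_mod q 9, h]; rfl
    · right
      rw [← ZMod.natCast_mod q 9, h]; rfl
  rcases hqz with h | h <;> rw [h] at h2 <;> revert h2 <;> decide

theorem not_three_dvd_index (hK : Cfsg.Geo.IsFieldSubalgebra 3 K)
    (hq : Fintype.card F % 9 = 2 ∨ Fintype.card F % 9 = 5) :
    ¬ 3 ∣ ((Cfsg.Geo.subalgebraNormalizer K).comap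
      (Matrix.SpecialLinearGroup.toGL :
        Matrix.SpecialLinearGroup (Fin 3) F →* GL (Fin 3) F)).index := by
  intro h3
  have hq3 : Fintype.card F % 3 = 2 := by omega
  have h1 := three_dvd_card_normalizer hK hq3
  have h2 := Subgroup.index_mul_card ((Cfsg.Geo.subalgebraNormalizer K).comap
      (Matrix.SpecialLinearGroup.toGL :
        Matrix.SpecialLinearGroup (Fin 3) F →* GL (Fin 3) F))
  apply not_nine_dvd_card_SL hq
  rw [← h2]
  exact Nat.mul_dvd_mul h3 h1

end Cfsg.Agent.Lib.Helper9.H9PExt
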