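import Mathlib
import Cfsg.Agent.Lib.Helper9.GSpInv3

set_option autoImplicit false

/-! Maps of order three on a three-dimensional space over a field with a primitive cube root of
unity: eigenbases, conjugacy and centralisers. -/

namespace Cfsg.Agent.Lib.Helper9.H9PExt

open Module
open Cfsg.Agent.Lib.Helper9.H9GSpInv

section cube
variable {F : Type*} [Field F] {V : Type*} [AddCommGroup V] [Module F V]
variable (t : V →ₗ[F] V)

theorem isCompl_two (a b : F) (hab : a ≠ b)
    (ht : ∀ v, t (t v) = (a + b) • t v - (a * b) • v) :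
    IsCompl (LinearMap.ker (t - a • 1)) (LinearMap.ker (t - b • 1)) := by
  constructor
  · rw [Submodule.disjoint_def]
    intro v h1 h2
    rw [LinearMap.mem_ker, LinearMap.sub_apply, LinearMap.smul_apply, Module.End.one_apply,
      sub_eq_zero] at h1 h2
    have h3 : (a - b) • v = 0 := by rw [sub_smul, ← h1, ← h2, sub_self]
    exact (smul_eq_zero.mp h3).resolve_left (sub_ne_zero.mpr hab)
  · rw [codisjoint_iff, eq_top_iff]
    intro v _
    have hv : v = (a - b)⁻¹ • (t v - b • v) + (-(a - b)⁻¹) • (t v - a • v) := by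
      have h3 : (t v - b • v) - (t v - a • v) = (a - b) • v := by
        rw [sub_smul]; abel
      rw [neg_smul, ← sub_eq_add_neg, ← smul_sub, h3, smul_smul,
        inv_mul_cancel₀ (sub_ne_zero.mpr hab), one_smul]
    rw [hv]
    apply Submodule.add_mem_sup
    · apply Submodule.smul_mem
      rw [LinearMap.mem_ker, LinearMap.sub_apply, LinearMap.smul_apply, Module.End.one_apply,
        map_sub, map_smul, ht, sub_eq_zero]
      module
    · apply Submodule.smul_mem
      rw [LinearMap.mem_ker, LinearMap.sub_apply, LinearMap.smul_apply, Module.End.one_apply,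
        map_sub, map_smul, ht, sub_eq_zero]
      module

theorem quad_of_no_eigvec (a b c : F) (h1 : c + a + b = 0) (h2 : c * a + c * b + a * b = 0)
    (h3 : c * a * b = 1) (ht : ∀ v, t (t (t v)) = v) (hc : ∀ v, t v = c • v → v = 0) :
    ∀ v, t (t v) = (a + b) • t v - (a * b) • v := by
  intro v
  have hw : t (t v) - (a + b) • t v + (a * b) • v = 0 := by
    apply hc
    rw [map_add, map_sub, map_smul, map_smul, ht]
    have e : c • (t (t v) - (a + b) • t v + (a * b) • v) - (v - (a + b) • t (t v) + (a * b) • t v)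
        = (c + a + b) • t (t v) - (c * a + c * b + a * b) • t v + (c * a * b - 1) • v := by
      module
    rw [h1, h2, h3, sub_self, zero_smul, zero_smul, zero_smul, sub_zero, add_zero] at e
    exact (sub_eq_zero.mp e).symm
  have e2 : t (t v) = (t (t v) - (a + b) • t v + (a * b) • v) + ((a + b) • t v - (a * b) • v) := by
    abel
  rw [e2, hw, zero_add]

end cube

section cube3
variable {F : Type*} [Field F] {V : Type*} [AddCommGroup V] [Module F V] [FiniteDimensional F V]
variable (t : V →ₗ[F] V)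

theorem det_of_quad (a b : F) (hab : a ≠ b)
    (ht : ∀ v, t (t v) = (a + b) • t v - (a * b) • v) :
    LinearMap.det t = a ^ finrank F (LinearMap.ker (t - a • 1)) *
      b ^ finrank F (LinearMap.ker (t - b • 1)) := by
  rw [det_eq_of_isCompl t _ _ (isCompl_two t a b hab ht) (inv_ker_sub t a) (inv_ker_sub t b),
    restrict_ker_sub, restrict_ker_sub, det_smul_one, det_smul_one]

theorem eq_smul_of_ker_eq_top (a : F) (h : LinearMap.ker (t - a • 1) = ⊤) : t = a • 1 := by
  rw [LinearMap.ker_eq_top, sub_eq_zero] at h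
  exact h

/-- A quadratic relation with two distinct cube roots of unity is impossible for a non-scalar
map of determinant one in dimension three. -/
theorem not_quad_of_det (hV : finrank F V = 3) (hdet : LinearMap.det t = 1)
    (hns : ∀ d : F, t ≠ d • 1) (a b : F) (hab : a ≠ b) (ha : a ^ 3 = 1) (hb : b ^ 3 = 1) :
    ¬ ∀ v, t (t v) = (a + b) • t v - (a * b) • v := by
  intro ht
  have hc := isCompl_two t a b hab ht
  have hfr := Submodule.finrank_add_eq_of_isCompl hc
  have hd := det_of_quad t a b hab ht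
  rw [hdet] at hd
  set i := finrank F (LinearMap.ker (t - a • 1)) with hi
  set j := finrank F (LinearMap.ker (t - b • 1)) with hj
  rw [hV] at hfr
  have hi0 : i ≠ 0 := by
    intro h0
    have hbot : LinearMap.ker (t - a • 1) = ⊥ := Submodule.finrank_eq_zero.mp (hi ▸ h0)
    have htop := hc.sup_eq_top
    rw [hbot, bot_sup_eq] at htop
    exact hns b (eq_smul_of_ker_eq_top t b htop)
  have hj0 : j ≠ 0 := by
    intro h0
    have hbot : LinearMap.ker (t - b • 1) = ⊥ := Submodule.finrank_eq_zero.mp (hj ▸ h0)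
    have htop := hc.sup_eq_top
    rw [hbot, sup_bot_eq] at htop
    exact hns a (eq_smul_of_ker_eq_top t a htop)
  have hcases : (i = 1 ∧ j = 2) ∨ (i = 2 ∧ j = 1) := by omega
  rcases hcases with ⟨h1, h2⟩ | ⟨h1, h2⟩
  · rw [h1, h2] at hd
    apply hab
    calc a = a * b ^ 3 := by rw [hb, mul_one]
      _ = (a ^ 1 * b ^ 2) * b := by ring
      _ = b := by rw [← hd, one_mul]
  · rw [h1, h2] at hd
    apply hab
    calc a = a * (a ^ 2 * b ^ 1) := by rw [← hd, mul_one]
      _ = a ^ 3 * b := by ring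
      _ = b := by rw [ha, one_mul]

theorem not_quad_of_finrank_le (hV : finrank F V = 3)
    (hle : ∀ d : F, finrank F (LinearMap.ker (t - d • 1)) ≤ 1) (a b : F) (hab : a ≠ b) :
    ¬ ∀ v, t (t v) = (a + b) • t v - (a * b) • v := by
  intro ht
  have hc := isCompl_two t a b hab ht
  have hfr := Submodule.finrank_add_eq_of_isCompl hc
  have h1 := hle a
  have h2 := hle b
  omega

end cube3

section eig
variable {F : Type*} [Field F] {V : Type*} [AddCommGroup V] [Module F V]

/-- an eigenbasis with eigenvalues `1, ω, ω ^ 2` -/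
def HasEig3 (ω : F) (t : V →ₗ[F] V) : Prop :=
  ∃ b : Basis (Fin 3) F V, ∀ i, t (b i) = ω ^ (i : ℕ) • b i

theorem pow_injective_of_cube (ω : F) (h1 : ω ≠ 1) (h3 : ω ^ 3 = 1) :
    Function.Injective (fun i : Fin 3 => ω ^ (i : ℕ)) := by
  have h0 : ω ≠ 0 := by
    intro h0
    rw [h0] at h3
    norm_num at h3
  have h2 : ω ^ 2 ≠ 1 := by
    intro h2
    apply h1
    calc ω = ω ^ 3 * ω := by rw [h3, one_mul]
      _ = (ω ^ 2) ^ 2 := by ring
      _ = 1 := by rw [h2, one_pow]
  have h12 : ω ≠ ω ^ 2 := by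
    intro h
    apply h1
    have h4 : ω * (ω - 1) = 0 := by linear_combination -h
    rcases mul_eq_zero.mp h4 with h5 | h5
    · exact absurd h5 h0
    · exact sub_eq_zero.mp h5
  have key : ∀ i j : Fin 3, i < j → ω ^ (i : ℕ) ≠ ω ^ (j : ℕ) := by
    intro i j hlt
    fin_cases i <;> fin_cases j <;>
      first
        | exact absurd hlt (by decide)
        | skip
    · show ω ^ 0 ≠ ω ^ 1
      rw [pow_zero, pow_one]; exact Ne.symm h1
    · show ω ^ 0 ≠ ω ^ 2
      rw [pow_zero]; exact Ne.symm h2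
    · show ω ^ 1 ≠ ω ^ 2
      rw [pow_one]; exact h12
  intro i j hij
  rcases lt_trichotomy i j with h | h | h
  · exact absurd hij (key i j h)
  · exact h
  · exact absurd hij.symm (key j i h)

theorem hasEig3_of_eigvecs [FiniteDimensional F V] (hV : finrank F V = 3) (ω : F) (h1 : ω ≠ 1)
    (h3 : ω ^ 3 = 1) (t : V →ₗ[F] V)
    (h : ∀ i : Fin 3, ∃ v : V, v ≠ 0 ∧ t v = ω ^ (i : ℕ) • v) : HasEig3 ω t := by
  choose v hv0 hv using h
  have hli : LinearIndependent F v := by
    apply Module.End.eigenvectors_linearIndependent' t (fun i : Fin 3 => ω ^ (i : ℕ))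
      (pow_injective_of_cube ω h1 h3) v
    intro i
    rw [Module.End.hasEigenvector_iff]
    exact ⟨Module.End.mem_eigenspace_iff.mpr (hv i), hv0 i⟩
  let b := basisOfLinearIndependentOfCardEqFinrank hli (by rw [hV]; rfl)
  refine ⟨b, ?_⟩
  intro i
  have hb : b i = v i := by simp [b]
  rw [hb, hv i]

theorem conj_of_hasEig3 {V' : Type*} [AddCommGroup V'] [Module F V'] (ω : F) (t : V →ₗ[F] V)
    (t' : V' →ₗ[F] V') (h : HasEig3 ω t) (h' : HasEig3 ω t') :
    ∃ g : V ≃ₗ[F] V', ∀ v, g (t v) = t' (g v) := by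
  obtain ⟨b, hb⟩ := h
  obtain ⟨b', hb'⟩ := h'
  let g := b.equiv b' (Equiv.refl _)
  refine ⟨g, ?_⟩
  have hcomp : (g : V →ₗ[F] V') ∘ₗ t = t' ∘ₗ (g : V →ₗ[F] V') := by
    apply b.ext
    intro i
    show g (t (b i)) = t' (g (b i))
    rw [hb, map_smul, Basis.equiv_apply, Equiv.refl_apply, hb']
  intro w
  exact congrArg (fun f : V →ₗ[F] V' => f w) hcomp

theorem cent_of_hasEig3 (ω : F) (t : V →ₗ[F] V) (h : HasEig3 ω t) (δ : F) :
    ∃ c : V →ₗ[F] V, LinearMap.det c = δ ∧ ∀ v, c (t v) = t (c v) := by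
  classical
  obtain ⟨b, hb⟩ := h
  let d : Fin 3 → F := ![δ, 1, 1]
  let c : V →ₗ[F] V := Matrix.toLin b b (Matrix.diagonal d)
  have hc : ∀ i, c (b i) = d i • b i := by
    intro i
    show Matrix.toLin b b (Matrix.diagonal d) (b i) = d i • b i
    rw [Matrix.toLin_self]
    rw [Finset.sum_eq_single i]
    · rw [Matrix.diagonal_apply_eq]
    · intro j _ hji
      rw [Matrix.diagonal_apply_ne _ hji, zero_smul]
    · intro hi
      exact absurd (Finset.mem_univ i) hi
  refine ⟨c, ?_, ?_⟩
  · show LinearMap.det (Matrix.toLin b b (Matrix.diagonal d)) = δ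
    rw [LinearMap.det_toLin, Matrix.det_diagonal, Fin.prod_univ_three]
    simp [d]
  · have hcomp : c ∘ₗ t = t ∘ₗ c := by
      apply b.ext
      intro i
      show c (t (b i)) = t (c (b i))
      rw [hb, map_smul, hc, map_smul, hb, smul_comm]
    intro w
    exact congrArg (fun f : V →ₗ[F] V => f w) hcomp

/-- A map of order three without quadratic relations has an eigenbasis. -/
theorem hasEig3_of_no_quad [FiniteDimensional F V] (hV : finrank F V = 3) (ω : F) (h1 : ω ≠ 1)
    (hω : ω ^ 2 + ω + 1 = 0) (t : V →ₗ[F] V) (ht : t ^ 3 = 1)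
    (hq : ∀ a b : F, a ≠ b → a ^ 3 = 1 → b ^ 3 = 1 →
      ¬ ∀ v, t (t v) = (a + b) • t v - (a * b) • v) : HasEig3 ω t := by
  have h3 : ω ^ 3 = 1 := by linear_combination (ω - 1) * hω
  have hinj := pow_injective_of_cube ω h1 h3
  have htt : ∀ v, t (t (t v)) = v := by
    intro v
    have := congrArg (fun g : V →ₗ[F] V => g v) ht
    simpa [pow_succ, Module.End.mul_apply] using this
  have h12 : ω ≠ ω ^ 2 := by
    intro h
    have := @hinj 1 2 (by simpa using h)
    exact absurd this (by decide)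
  have h02 : (1 : F) ≠ ω ^ 2 := by
    intro h
    have := @hinj 0 2 (by simpa using h)
    exact absurd this (by decide)
  have h6 : (ω ^ 2) ^ 3 = 1 := by rw [← pow_mul, mul_comm, pow_mul, h3, one_pow]
  apply hasEig3_of_eigvecs hV ω h1 h3 t
  intro i
  by_contra hcon
  push Not at hcon
  have hc : ∀ v, t v = ω ^ (i : ℕ) • v → v = 0 := by
    intro v hv
    by_contra hv0
    exact hcon v hv0 hv
  fin_cases i
  · -- eigenvalue `1`
    refine hq ω (ω ^ 2) h12 h3 h6 (quad_of_no_eigvec t ω (ω ^ 2) 1 ?_ ?_ ?_ htt ?_)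
    · linear_combination hω
    · linear_combination ω * hω
    · linear_combination h3
    · simpa using hc
  · -- eigenvalue `ω`
    refine hq 1 (ω ^ 2) h02 (one_pow 3) h6 (quad_of_no_eigvec t 1 (ω ^ 2) ω ?_ ?_ ?_ htt ?_)
    · linear_combination hω
    · linear_combination ω * hω
    · linear_combination h3
    · simpa using hc
  · -- eigenvalue `ω ^ 2`
    refine hq 1 ω (Ne.symm h1) (one_pow 3) h3 (quad_of_no_eigvec t 1 ω (ω ^ 2) ?_ ?_ ?_ htt ?_)
    · linear_combination hω
    · linear_combination ω * hω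
    · linear_combination h3
    · simpa using hc

theorem hasEig3_of_det [FiniteDimensional F V] (hV : finrank F V = 3) (ω : F) (h1 : ω ≠ 1)
    (hω : ω ^ 2 + ω + 1 = 0) (t : V →ₗ[F] V) (ht : t ^ 3 = 1) (hdet : LinearMap.det t = 1)
    (hns : ∀ d : F, t ≠ d • 1) : HasEig3 ω t :=
  hasEig3_of_no_quad hV ω h1 hω t ht (fun a b hab ha hb => not_quad_of_det t hV hdet hns a b hab ha hb)

theorem hasEig3_of_finrank_le [FiniteDimensional F V] (hV : finrank F V = 3) (ω : F) (h1 : ω ≠ 1)
    (hω : ω ^ 2 + ω + 1 = 0) (t : V →ₗ[F] V) (ht : t ^ 3 = 1)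
    (hle : ∀ d : F, finrank F (LinearMap.ker (t - d • 1)) ≤ 1) : HasEig3 ω t :=
  hasEig3_of_no_quad hV ω h1 hω t ht (fun a b hab _ _ => not_quad_of_finrank_le t hV hle a b hab)

end eig

end Cfsg.Agent.Lib.Helper9.H9PExt
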