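import Mathlib
import Cfsg.Prelude
import Cfsg.Agent.Lib.Helper9.PExt3
import Cfsg.Agent.Lib.Helper9.PExt13

set_option autoImplicit false

/-! The eigenspaces of the Frobenius map of a field subalgebra are at most one-dimensional. -/

namespace Cfsg.Agent.Lib.Helper9.H9PExt

open Module Matrix Polynomial Cfsg.Agent.H9FK

section fixed
variable {F : Type*} [Field F] [Fintype F] {n : ℕ} [NeZero n]
variable {K : Subalgebra F (Matrix (Fin n) (Fin n) F)} {hK : Cfsg.Geo.IsFieldSubalgebra n K}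

/-- the fixed field of the Frobenius map of `K` is the base field -/
theorem fixed_of_pow_card (k : FK K hK) (hk : k ^ Fintype.card F = k) :
    ∃ c : F, k = algebraMap F (FK K hK) c := by
  classical
  set q := Fintype.card F with hqdef
  have hq1 : 1 < q := Fintype.one_lt_card
  have hp : (X ^ q - X : (FK K hK)[X]) ≠ 0 := FiniteField.X_pow_card_sub_X_ne_zero (FK K hK) hq1
  have hdeg : (X ^ q - X : (FK K hK)[X]).natDegree = q :=
    FiniteField.X_pow_card_sub_X_natDegree_eq (FK K hK) hq1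
  have hroots : ∀ b : FK K hK, b ^ q = b → b ∈ (X ^ q - X : (FK K hK)[X]).roots.toFinset := by
    intro b hb
    rw [Multiset.mem_toFinset, mem_roots hp, IsRoot, eval_sub, eval_pow, eval_X, hb, sub_self]
  set S : Finset (FK K hK) := Finset.univ.image (fun x : F => algebraMap F (FK K hK) x) with hS
  have hScard : S.card = q := by
    rw [hS, Finset.card_image_of_injective _ (algebraMap F (FK K hK)).injective, Finset.card_univ]
  have hSsub : S ⊆ (X ^ q - X : (FK K hK)[X]).roots.toFinset := by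
    intro b hb
    rw [hS, Finset.mem_image] at hb
    obtain ⟨x, -, rfl⟩ := hb
    apply hroots
    rw [← map_pow, FiniteField.pow_card]
  have hle : (X ^ q - X : (FK K hK)[X]).roots.toFinset.card ≤ S.card := by
    rw [hScard]
    calc _ ≤ Multiset.card (X ^ q - X : (FK K hK)[X]).roots := Multiset.toFinset_card_le _
      _ ≤ (X ^ q - X : (FK K hK)[X]).natDegree := card_roots' _
      _ = q := hdeg
  have heq := Finset.eq_of_subset_of_card_le hSsub hle
  have := hroots k hk
  rw [← heq, hS, Finset.mem_image] at this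
  obtain ⟨x, -, hx⟩ := this
  exact ⟨x, hx.symm⟩

theorem finrank_ker_sigma_le (v₀ : Fin n → F) (hv₀ : v₀ ≠ 0) (d : F) :
    finrank F (LinearMap.ker (sigma K hK v₀ hv₀ - d • 1)) ≤ 1 := by
  classical
  set σ := sigma K hK v₀ hv₀ with hσ
  by_cases hbot : LinearMap.ker (σ - d • 1) = ⊥
  · rw [hbot, finrank_bot]
    exact Nat.zero_le 1
  obtain ⟨w, hwE, hw0⟩ := Submodule.exists_mem_ne_zero_of_ne_bot hbot
  have hmem : ∀ u, u ∈ LinearMap.ker (σ - d • 1) ↔ σ u = d • u := by
    intro u
    rw [LinearMap.mem_ker, LinearMap.sub_apply, LinearMap.smul_apply, Module.End.one_apply,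
      sub_eq_zero]
  have hpow : ∀ k : FK K hK, σ (k • v₀) = d • (k • v₀) → k ^ Fintype.card F = d • k := by
    intro k hk
    rw [hσ, sigma_smul, ← smul_assoc] at hk
    exact orbitMap_injective (K := K) (hK := hK) v₀ hv₀ hk
  obtain ⟨k₂, hk₂⟩ := exists_smul_eq (K := K) (hK := hK) v₀ hv₀ w
  have hk₂0 : k₂ ≠ 0 := by
    intro h0
    apply hw0
    rw [← hk₂, h0, zero_smul]
  have h2 : k₂ ^ Fintype.card F = d • k₂ := by
    apply hpow
    rw [hk₂]
    exact (hmem w).mp hwE
  have hd0 : d ≠ 0 := by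
    intro h0
    rw [h0, zero_smul] at h2
    exact hk₂0 (pow_eq_zero_iff (Fintype.card_ne_zero) |>.mp h2)
  have hle : LinearMap.ker (σ - d • 1) ≤ Submodule.span F {w} := by
    intro u hu
    obtain ⟨k₁, hk₁⟩ := exists_smul_eq (K := K) (hK := hK) v₀ hv₀ u
    have h1 : k₁ ^ Fintype.card F = d • k₁ := by
      apply hpow
      rw [hk₁]
      exact (hmem u).mp hu
    have hr : (k₁ * k₂⁻¹) ^ Fintype.card F = k₁ * k₂⁻¹ := by
      rw [mul_pow, inv_pow, h1, h2, Algebra.smul_def, Algebra.smul_def, mul_inv]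
      have hd' : algebraMap F (FK K hK) d ≠ 0 := by
        rw [Ne, map_eq_zero_iff _ (algebraMap F (FK K hK)).injective]
        exact hd0
      field_simp
    obtain ⟨c, hc⟩ := fixed_of_pow_card (k₁ * k₂⁻¹) hr
    rw [Submodule.mem_span_singleton]
    refine ⟨c, ?_⟩
    rw [← hk₁, ← hk₂, ← algebraMap_smul (FK K hK) c (k₂ • v₀), ← hc, ← mul_smul,
      inv_mul_cancel_right₀ hk₂0]
  calc finrank F (LinearMap.ker (σ - d • 1)) ≤ finrank F (Submodule.span F {w}) :=
        Submodule.finrank_mono hle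
    _ ≤ 1 := by rw [finrank_span_singleton hw0]

end fixed

section three
variable {F : Type*} [Field F] [Fintype F]
variable {K : Subalgebra F (Matrix (Fin 3) (Fin 3) F)} {hK : Cfsg.Geo.IsFieldSubalgebra 3 K}

theorem hasEig3_sigma (ω : F) (h1 : ω ≠ 1) (hω : ω ^ 2 + ω + 1 = 0) (v₀ : Fin 3 → F)
    (hv₀ : v₀ ≠ 0) : HasEig3 ω (sigma K hK v₀ hv₀) := by
  apply hasEig3_of_finrank_le (by rw [Module.finrank_fintype_fun_eq_card, Fintype.card_fin]) ω h1
    hω _ (sigma_pow_n v₀ hv₀)
  intro d
  exact finrank_ker_sigma_le v₀ hv₀ d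

end three

end Cfsg.Agent.Lib.Helper9.H9PExt
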