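import Mathlib
import Cfsg.Prelude
import Cfsg.Agent.Lib.Helper9.PExt12
import Cfsg.Agent.Lib.Helper9.PExt14
import Cfsg.Agent.Lib.Helper9.GConj1

set_option autoImplicit false

/-! Elements of order three of `SL_3(q)`, `q ≡ 1 (mod 3)`, and the normaliser of a cubic field
subalgebra. -/

namespace Cfsg.Agent.Lib.Helper9.H9PExt

open Module Matrix Polynomial Cfsg.Agent.H9FK
open Cfsg.Agent.Lib.Helper9.H9GConj

section roots
variable {F : Type*} [Field F] [Fintype F]

theorem exists_prim_cube_root (h : 3 ∣ Fintype.card F - 1) :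
    ∃ ω : F, ω ≠ 1 ∧ ω ^ 2 + ω + 1 = 0 := by
  classical
  haveI : Fact (Nat.Prime 3) := ⟨Nat.prime_three⟩
  have h3 : 3 ∣ Fintype.card Fˣ := by rw [Fintype.card_units F]; exact h
  obtain ⟨u, hu⟩ := exists_prime_orderOf_dvd_card 3 h3
  have hu3 : u ^ 3 = 1 := by rw [← hu]; exact pow_orderOf_eq_one u
  have hu1 : u ≠ 1 := by
    intro h1
    rw [h1, orderOf_one] at hu
    norm_num at hu
  refine ⟨(u : F), ?_, ?_⟩
  · intro h1
    apply hu1
    exact Units.ext h1
  · have h4 : ((u : F)) ^ 3 = 1 := by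
      rw [← Units.val_pow_eq_pow_val, hu3, Units.val_one]
    have h5 : ((u : F) - 1) * ((u : F) ^ 2 + (u : F) + 1) = 0 := by linear_combination h4
    rcases mul_eq_zero.mp h5 with h6 | h6
    · exfalso
      apply hu1
      exact Units.ext (sub_eq_zero.mp h6)
    · exact h6

theorem exists_order_nine (h : 9 ∣ Fintype.card F - 1) :
    ∃ d : F, d ^ 9 = 1 ∧ d ^ 3 ≠ 1 := by
  classical
  obtain ⟨g, hg⟩ := IsCyclic.exists_generator (α := Fˣ)
  have hord : orderOf g = Fintype.card F - 1 := by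
    rw [orderOf_eq_card_of_forall_mem_zpowers hg, Nat.card_eq_fintype_card, Fintype.card_units F]
  obtain ⟨m, hm⟩ := h
  have hq : 2 ≤ Fintype.card F := Fintype.one_lt_card
  have hm0 : 0 < m := by
    rcases Nat.eq_zero_or_pos m with h0 | h0
    · rw [h0] at hm; omega
    · exact h0
  refine ⟨((g ^ m : Fˣ) : F), ?_, ?_⟩
  · rw [← Units.val_pow_eq_pow_val, ← pow_mul, mul_comm, ← hm, ← hord, pow_orderOf_eq_one,
      Units.val_one]
  · intro h1
    have h2 : (g ^ m) ^ 3 = 1 := by
      apply Units.ext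
      rw [Units.val_pow_eq_pow_val, h1, Units.val_one]
    rw [← pow_mul] at h2
    have h3 := orderOf_dvd_of_pow_eq_one h2
    rw [hord, hm] at h3
    have h4 := Nat.le_of_dvd (by omega) h3
    omega

theorem not_cube_of_not_nine (h9 : ¬ 9 ∣ Fintype.card F - 1) (z : F) (hz3 : z ^ 3 = 1)
    (hz1 : z ≠ 1) (b : F) : b ^ 3 ≠ z := by
  classical
  intro hb
  have hb0 : b ≠ 0 := by
    intro h0
    rw [h0] at hb
    rw [← hb] at hz3
    norm_num at hz3
  haveI : Fact (Nat.Prime 3) := ⟨Nat.prime_three⟩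
  have hord : orderOf (Units.mk0 b hb0) = 3 ^ (1 + 1) := by
    apply orderOf_eq_prime_pow
    · intro h1
      apply hz1
      have h2 := congrArg Units.val h1
      rw [Units.val_pow_eq_pow_val, Units.val_mk0, Units.val_one, pow_one, hb] at h2
      exact h2
    · apply Units.ext
      rw [Units.val_pow_eq_pow_val, Units.val_mk0, Units.val_one]
      show b ^ 9 = 1
      calc b ^ 9 = (b ^ 3) ^ 3 := by ring
        _ = 1 := by rw [hb, hz3]
  apply h9
  have h1 : orderOf (Units.mk0 b hb0) ∣ Fintype.card Fˣ := orderOf_dvd_card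
  rw [hord, Fintype.card_units F] at h1
  exact h1

end roots

section det
variable {F : Type*} [Field F]

local notation "Mat3" => Matrix (Fin 3) (Fin 3) F

/-- A matrix whose cube is a non-cube scalar has that scalar as determinant. -/
theorem det_of_cube_eq (X : Mat3) (z : F) (hz : ∀ b : F, b ^ 3 ≠ z)
    (hX : X ^ 3 = z • (1 : Mat3)) : X.det = z := by
  have hirr : Irreducible (Polynomial.X ^ 3 - Polynomial.C z : F[X]) :=
    X_pow_sub_C_irreducible_of_prime Nat.prime_three hz
  have hmonic : (Polynomial.X ^ 3 - Polynomial.C z : F[X]).Monic :=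
    Polynomial.monic_X_pow_sub_C z (by norm_num)
  have hdeg : (Polynomial.X ^ 3 - Polynomial.C z : F[X]).natDegree = 3 :=
    Polynomial.natDegree_X_pow_sub_C
  have hae : Polynomial.aeval X (Polynomial.X ^ 3 - Polynomial.C z : F[X]) = 0 := by
    rw [map_sub, map_pow, Polynomial.aeval_X, Polynomial.aeval_C, hX,
      Algebra.algebraMap_eq_smul_one, sub_self]
  have hint : IsIntegral F X := ⟨_, hmonic, hae⟩
  have hdvd : minpoly F X ∣ (Polynomial.X ^ 3 - Polynomial.C z : F[X]) := minpoly.dvd F X hae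
  have hassoc : Associated (minpoly F X) (Polynomial.X ^ 3 - Polynomial.C z : F[X]) := by
    obtain ⟨r, hr⟩ := hdvd
    rcases hirr.isUnit_or_isUnit hr with h | h
    · exact absurd h (minpoly.not_isUnit F X)
    · rw [hr]
      exact associated_mul_unit_right _ _ h
  have hmin : minpoly F X = Polynomial.X ^ 3 - Polynomial.C z :=
    Polynomial.eq_of_monic_of_associated (minpoly.monic hint) hmonic hassoc
  have hchar : X.charpoly = Polynomial.X ^ 3 - Polynomial.C z := by
    rw [← hmin]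
    apply Polynomial.eq_of_monic_of_dvd_of_natDegree_le (minpoly.monic hint)
      (Matrix.charpoly_monic X) (Matrix.minpoly_dvd_charpoly X)
    rw [Matrix.charpoly_natDegree_eq_dim, Fintype.card_fin, hmin, hdeg]
  rw [Matrix.det_eq_sign_charpoly_coeff, hchar, Fintype.card_fin]
  simp
  ring

end det

section main
variable {F : Type*} [Field F] [Fintype F]
variable {K : Subalgebra F (Matrix (Fin 3) (Fin 3) F)}

local notation "Mat3" => Matrix (Fin 3) (Fin 3) F

/-- Elements of order three of `SL_3(q)`, `q ≡ 1 (mod 3)`, are conjugate into the normaliser. -/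
theorem conj_mem_of_cube (hK : Cfsg.Geo.IsFieldSubalgebra 3 K) (ω : F) (h1 : ω ≠ 1)
    (hω : ω ^ 2 + ω + 1 = 0) (x : Matrix.SpecialLinearGroup (Fin 3) F)
    (hx3 : (x : Mat3) ^ 3 = 1) (hns : ∀ z : F, (x : Mat3) ≠ z • (1 : Mat3)) :
    ∃ P : Matrix.SpecialLinearGroup (Fin 3) F,
      P⁻¹ * x * P ∈ (Cfsg.Geo.subalgebraNormalizer K).comap
        (Matrix.SpecialLinearGroup.toGL :
          Matrix.SpecialLinearGroup (Fin 3) F →* GL (Fin 3) F) := by
  classical
  set v₀ : Fin 3 → F := Pi.single 0 1 with hv₀def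
  have hv₀ : v₀ ≠ 0 := by
    intro h
    have := congrFun h 0
    simp [hv₀def] at this
  set σ := sigma K hK v₀ hv₀ with hσ
  have hσe : HasEig3 ω σ := hasEig3_sigma ω h1 hω v₀ hv₀
  set t : (Fin 3 → F) →ₗ[F] (Fin 3 → F) := Matrix.toLin' (x : Mat3) with ht
  have hV : finrank F (Fin 3 → F) = 3 := by
    rw [Module.finrank_fintype_fun_eq_card, Fintype.card_fin]
  have ht3 : t ^ 3 = 1 := by
    apply LinearMap.toMatrix'.injective
    rw [toMatrix'_pow, ht, LinearMap.toMatrix'_toLin', hx3, LinearMap.toMatrix'_one]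
  have htdet : LinearMap.det t = 1 := by
    rw [ht, LinearMap.det_toLin', x.2]
  have htns : ∀ d : F, t ≠ d • 1 := by
    intro d hd
    apply hns d
    apply Matrix.toLin'.injective
    rw [← ht, hd, map_smul, Matrix.toLin'_one]
    rfl
  have hte : HasEig3 ω t := hasEig3_of_det hV ω h1 hω t ht3 htdet htns
  obtain ⟨g, hg⟩ := conj_of_hasEig3 ω t σ hte hσe
  obtain ⟨P, hP⟩ := exists_SL_conj x σ g hg (fun δ _ => cent_of_hasEig3 ω t hte δ)
  refine ⟨P, ?_⟩
  rw [Subgroup.mem_comap]
  apply mem_normalizer_of_eq_sigma v₀ hv₀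
  rw [Matrix.SpecialLinearGroup.coe_GL_coe_matrix]
  exact hP

end main

end Cfsg.Agent.Lib.Helper9.H9PExt
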