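import Mathlib
import Cfsg.Agent.Lib.Helper8.CB9

set_option autoImplicit false

/-!
# Subsystems of `p`-power index (part 1): gradings and the transfer of a free permutation action
-/

namespace Cfsg.Agent.H9PI

open MulAction
open Cfsg.Agent.Lib.Helper8.CB

/-- A homomorphism which is trivial on all point stabilizers yields an equivariant function. -/
theorem exists_equivariant {H : Type*} [Group H] {X : Type*} [MulAction H X] {A : Type*} [Group A]
    (κ : H →* A) (hκ : ∀ (x : X) (g : H), g • x = x → κ g = 1) :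
    ∃ d : X → A, ∀ (g : H) (x : X), d (g • x) = κ g * d x := by
  classical
  let r : X → X := fun x => (Quotient.mk (MulAction.orbitRel H X) x).out
  have hr : ∀ x, ∃ g : H, g • r x = x := by
    intro x
    have h1 : (MulAction.orbitRel H X).r (r x) x := Quotient.exact (Quotient.out_eq _)
    rw [MulAction.orbitRel_apply] at h1
    obtain ⟨g, hg⟩ := h1
    refine ⟨g⁻¹, ?_⟩
    rw [← hg, inv_smul_smul]
  have hrg : ∀ (g : H) (x : X), r (g • x) = r x := by
    intro g x
    have : Quotient.mk (MulAction.orbitRel H X) (g • x) = Quotient.mk (MulAction.orbitRel H X) x := by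
      apply Quotient.sound
      show (MulAction.orbitRel H X).r (g • x) x
      rw [MulAction.orbitRel_apply]
      exact ⟨g, rfl⟩
    show (Quotient.mk (MulAction.orbitRel H X) (g • x)).out = _
    rw [this]
  refine ⟨fun x => κ (Classical.choose (hr x)), ?_⟩
  intro g x
  obtain ⟨g', hg'⟩ : ∃ g', g' = Classical.choose (hr (g • x)) := ⟨_, rfl⟩
  obtain ⟨g₀, hg₀⟩ : ∃ g₀, g₀ = Classical.choose (hr x) := ⟨_, rfl⟩
  have h1 : g' • r x = g • x := by
    rw [← hrg g x, hg']
    exact Classical.choose_spec (hr (g • x))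
  have h2 : g₀ • r x = x := by
    rw [hg₀]
    exact Classical.choose_spec (hr x)
  have h3 : ((g * g₀)⁻¹ * g') • r x = r x := by
    rw [mul_smul, h1, mul_inv_rev, mul_smul, inv_smul_smul]
    nth_rewrite 1 [← h2]
    rw [inv_smul_smul]
  have h4 := hκ _ _ h3
  rw [map_mul, map_inv, inv_mul_eq_one] at h4
  show κ (Classical.choose (hr (g • x))) = κ g * κ (Classical.choose (hr x))
  rw [← hg', ← hg₀, ← h4, map_mul]

section
variable {R X : Type*} [Group R] [Finite X] (ρ : R →* Equiv.Perm X)
variable {A : Type*} [CommGroup A] (π : R →* A)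

/-- The shift of `g` at the orbit `y`, with respect to the grading `d`. -/
noncomputable def shift (d : X → A) (g : commSub ρ) (y : Orb ρ) : A :=
  d ((g : Equiv.Perm X) (sec ρ y)) * (d (sec ρ y))⁻¹

omit [Finite X] in
theorem shift_eq (d : X → A) (hd : ∀ (r : R) (x : X), d (ρ r x) = (π r)⁻¹ * d x) (g : commSub ρ) (x : X) :
    d ((g : Equiv.Perm X) x) * (d x)⁻¹ = shift ρ d g (Quotient.mk (orbSetoid ρ) x) := by
  unfold shift
  have key : ∀ (c : R) (x₀ : X), d ((g : Equiv.Perm X) (ρ c x₀)) * (d (ρ c x₀))⁻¹ =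
      d ((g : Equiv.Perm X) x₀) * (d x₀)⁻¹ := by
    intro c x₀
    rw [(mem_commSub ρ).mp g.2, hd, hd, mul_inv_rev, inv_inv]
    calc (π c)⁻¹ * d ((g : Equiv.Perm X) x₀) * ((d x₀)⁻¹ * π c)
        = d ((g : Equiv.Perm X) x₀) * (d x₀)⁻¹ * ((π c)⁻¹ * π c) := by
          simp only [mul_comm, mul_left_comm, mul_assoc]
      _ = _ := by rw [inv_mul_cancel, mul_one]
  have h1 := coord_spec ρ x
  have h2 := key (coord ρ x) (sec ρ (Quotient.mk (orbSetoid ρ) x))
  rw [h1] at h2
  exact h2

variable (hfree : ∀ (r : R) (x : X), ρ r x = x → r = 1)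
include hfree

open Classical in
/-- The transfer is the inverse of the product of the shifts. -/
theorem tr_eq_prod_shift (d : X → A) (hd : ∀ (r : R) (x : X), d (ρ r x) = (π r)⁻¹ * d x) (g : commSub ρ) :
    letI : Fintype (Orb ρ) := Fintype.ofFinite _
    tr ρ π hfree g = (∏ y : Orb ρ, shift ρ d g y)⁻¹ := by
  letI : Fintype (Orb ρ) := Fintype.ofFinite _
  rw [tr_apply]
  unfold trFun
  have h1 : ∀ y : Orb ρ, π (tc ρ g y) = d (sec ρ (barMap ρ g y)) * (d (sec ρ y))⁻¹ * (shift ρ d g y)⁻¹ := by
    intro y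
    unfold shift
    have h2 := apply_sec ρ g y
    rw [h2, hd]
    rw [mul_inv_rev, mul_inv_rev, inv_inv, inv_inv]
    calc π (tc ρ g y) = π (tc ρ g y) * (d (sec ρ (barMap ρ g y)) * (d (sec ρ (barMap ρ g y)))⁻¹) *
          ((d (sec ρ y))⁻¹ * d (sec ρ y)) := by rw [mul_inv_cancel, inv_mul_cancel, mul_one, mul_one]
      _ = _ := by simp only [mul_comm, mul_left_comm, mul_assoc]
  have h3 : ∏ y : Orb ρ, π (tc ρ g y) =
      (∏ y : Orb ρ, d (sec ρ (barMap ρ g y))) * (∏ y : Orb ρ, (d (sec ρ y))⁻¹) *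
        ∏ y : Orb ρ, (shift ρ d g y)⁻¹ := by
    rw [← Finset.prod_mul_distrib, ← Finset.prod_mul_distrib]
    exact Finset.prod_congr rfl (fun y _ => h1 y)
  have h4 : ∏ y : Orb ρ, d (sec ρ (barMap ρ g y)) = ∏ y : Orb ρ, d (sec ρ y) :=
    Fintype.prod_bijective (barMap ρ g) (barMap_bijective ρ g) _ _ (fun _ => rfl)
  convert h3 using 1
  rw [h4, Finset.prod_inv_distrib, mul_inv_cancel, one_mul, Finset.prod_inv_distrib]

end

/-- The action on an invariant subset. -/
def subAction {W : Type*} [Group W] {Y : Type*} [MulAction W Y] (Z : Set Y)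
    (hZ : ∀ (w : W) (y : Y), y ∈ Z → w • y ∈ Z) : MulAction W Z where
  smul w y := ⟨w • (y : Y), hZ w y y.2⟩
  one_smul y := Subtype.ext (one_smul W (y : Y))
  mul_smul w w' y := Subtype.ext (mul_smul w w' (y : Y))

/-- An invariant subset without fixed points of a `p`-group action has size divisible by `p`. -/
theorem dvd_card_of_no_fixedPoints {W : Type*} [Group W] {p : ℕ} [Fact p.Prime] (hW : IsPGroup p W)
    {Y : Type*} [Finite Y] [MulAction W Y] (Z : Set Y) (hZ : ∀ (w : W) (y : Y), y ∈ Z → w • y ∈ Z)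
    (hfix : ∀ y ∈ Z, y ∉ fixedPoints W Y) : p ∣ Nat.card Z := by
  letI : MulAction W Z := subAction Z hZ
  have h1 := hW.card_modEq_card_fixedPoints Z
  have h2 : IsEmpty (fixedPoints W Z) := by
    constructor
    rintro ⟨y, hy⟩
    apply hfix y y.2
    intro w
    have := hy w
    exact congrArg Subtype.val this
  have h3 : Nat.card (fixedPoints W Z) = 0 := Nat.card_of_isEmpty
  rw [h3] at h1
  exact (Nat.modEq_zero_iff_dvd).mp h1

open Classical in
/-- A product of an invariant function with values in a commutative group of exponent `p`, over a set on which a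
`p`-group acts, reduces to the product over the fixed points. -/
theorem prod_eq_prod_fixedPoints {W : Type*} [Group W] {p : ℕ} [Fact p.Prime] (hW : IsPGroup p W)
    {Y : Type*} [Fintype Y] [MulAction W Y] {A : Type*} [CommGroup A] (hA : ∀ a : A, a ^ p = 1)
    (f : Y → A) (hf : ∀ (w : W) (y : Y), f (w • y) = f y) :
    ∏ y, f y = ∏ y ∈ Finset.univ.filter (fun y => y ∈ fixedPoints W Y), f y := by
  rw [← Finset.prod_filter_mul_prod_filter_not Finset.univ (fun y => y ∈ fixedPoints W Y)]
  suffices h : ∏ y ∈ Finset.univ.filter (fun y => ¬ y ∈ fixedPoints W Y), f y = 1 by rw [h, mul_one]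
  have h1 := Finset.prod_comp (s := Finset.univ.filter (fun y => ¬ y ∈ fixedPoints W Y)) (fun a : A => a) f
  rw [h1]
  apply Finset.prod_eq_one
  intro b _
  have hdvd : p ∣ ((Finset.univ.filter (fun y => ¬ y ∈ fixedPoints W Y)).filter (fun a => f a = b)).card := by
    have h2 := dvd_card_of_no_fixedPoints hW {y : Y | y ∉ fixedPoints W Y ∧ f y = b}
      (by
        rintro w y ⟨hy1, hy2⟩
        refine ⟨?_, by rw [hf]; exact hy2⟩
        intro h
        apply hy1
        intro w'
        have := h (w * w' * w⁻¹)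
        rw [mul_smul, mul_smul, inv_smul_smul] at this
        exact smul_left_cancel w this)
      (fun y hy => hy.1)
    rw [Nat.card_eq_fintype_card, Fintype.card_subtype] at h2
    convert h2 using 2
    ext y
    simp
  obtain ⟨m, hm⟩ := hdvd
  rw [hm, pow_mul, hA, one_pow]

end Cfsg.Agent.H9PI
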