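import Mathlib
import Cfsg.Prelude
import Cfsg.Agent.Lib.Helper8.CB10
import Cfsg.Agent.Lib.Helper9.PI1

set_option autoImplicit false

/-!
# Subsystems of `p`-power index (part 2): the transfer of a characteristic biset; centralizers of rigid subgroups
-/

namespace Cfsg.Agent.H9PI

open MulAction Cfsg Cfsg.FusionSystem Cfsg.Agent.Lib.Helper9 Cfsg.Agent.Lib.Helper8.BM
  Cfsg.Agent.Lib.Helper8.CB

universe u v

variable {Ω : Type u} [Group Ω] {S : Subgroup Ω}

/-- `π` is invariant under the maps of the system. -/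
def FInv (F : FusionSystem S) {A : Type v} [CommGroup A] (π : S →* A) : Prop :=
  ∀ (P : Subgroup Ω) (φ : P →* Ω) (hφ : φ ∈ F.Hom P) (a : P),
    π ⟨φ a, (F.le_of_mem hφ).2 a⟩ = π ⟨a, (F.le_of_mem hφ).1 a.2⟩

theorem FInv.apply {F : FusionSystem S} {A : Type v} [CommGroup A] {π : S →* A} (hπ : FInv F π)
    {P : Subgroup Ω} {φ : P →* Ω} (hφ : φ ∈ F.Hom P) (a : P) (h1 : φ a ∈ S) (h2 : (a : Ω) ∈ S) :
    π ⟨φ a, h1⟩ = π ⟨a, h2⟩ := hπ P φ hφ a

/-- A grading of a biset whose point stabilizers are graphs of maps of the system. -/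
theorem exists_grading (F : FusionSystem S) {X : Type*} [MulAction (S × S) X]
    (hstab : ∀ x : X, stabilizer (S × S) x ∈ graphs F) {A : Type v} [CommGroup A] (π : S →* A)
    (hπ : FInv F π) :
    ∃ d : X → A, ∀ (a b : S) (x : X), d (((a, b) : S × S) • x) = π a * (π b)⁻¹ * d x := by
  obtain ⟨d, hd⟩ := exists_equivariant (H := S × S) (X := X)
    ((π.comp (MonoidHom.fst S S)) * (π.comp (MonoidHom.snd S S))⁻¹) (by
      intro x g hg
      have hg' : g ∈ stabilizer (S × S) x := hg
      obtain ⟨P, φ, hφ, hK⟩ := hstab x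
      rw [hK] at hg'
      obtain ⟨w, hw1, hw2⟩ := (mem_gr _ _ g).mp hg'
      rw [MonoidHom.mul_apply, MonoidHom.inv_apply, MonoidHom.comp_apply, MonoidHom.comp_apply,
        MonoidHom.coe_fst, MonoidHom.coe_snd]
      have h1 : g.1 = ⟨w, (F.le_of_mem hφ).1 w.2⟩ := Subtype.ext hw1.symm
      have h2 : g.2 = ⟨φ w, (F.le_of_mem hφ).2 w⟩ := Subtype.ext hw2.symm
      rw [h1, h2, hπ P φ hφ w, mul_inv_cancel])
  refine ⟨d, fun a b x => ?_⟩
  rw [hd]
  rfl

/-- The action of the centralizer of a free action on the orbit space. -/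
def orbAction {R X : Type*} [Group R] (ρ : R →* Equiv.Perm X) : MulAction (commSub ρ) (Orb ρ) where
  smul g y := barMap ρ g y
  one_smul := barMap_one ρ
  mul_smul g g' y := barMap_mul ρ g' g y

section
variable (F : FusionSystem S) {X : Type*} [Finite X] [MulAction (S × S) X]
  (hstab : ∀ x : X, stabilizer (S × S) x ∈ graphs F) {A : Type v} [CommGroup A] (π : S →* A)

/-- The transfer of a left multiplication. -/
theorem tr_leftHom (hπ : FInv F π) (s : S) :
    tr (rightHom S X) π (rightHom_free F hstab) (leftHom S X s) =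
      ((π s) ^ Nat.card (Orb (rightHom S X)))⁻¹ := by
  classical
  letI : Fintype (Orb (rightHom S X)) := Fintype.ofFinite _
  obtain ⟨d, hd⟩ := exists_grading F hstab π hπ
  have hd' : ∀ (r : S) (x : X), d (rightHom S X r x) = (π r)⁻¹ * d x := by
    intro r x
    rw [rightHom_apply, hd, map_one, one_mul]
  rw [tr_eq_prod_shift (rightHom S X) π (rightHom_free F hstab) d hd']
  have h1 : ∀ y : Orb (rightHom S X), shift (rightHom S X) d (leftHom S X s) y = π s := by
    intro y
    unfold shift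
    rw [leftHom_apply, hd, map_one, inv_one, mul_one, mul_assoc, mul_inv_cancel, mul_one]
  simp only [h1, Finset.prod_const, Finset.card_univ]
  rw [Nat.card_eq_fintype_card]

end

end Cfsg.Agent.H9PI
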