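import Mathlib
import Cfsg.Prelude
import Cfsg.Agent.Lib.Helper9.PI2

set_option autoImplicit false

/-!
# Subsystems of `p`-power index (part 3): the transfer vanishes on the centralizer of a rigid subgroup
-/

namespace Cfsg.Agent.H9PI

open MulAction Cfsg Cfsg.FusionSystem Cfsg.Agent.Lib.Helper9 Cfsg.Agent.Lib.Helper8.BM
  Cfsg.Agent.Lib.Helper8.CB

universe u v

variable {Ω : Type u} [Group Ω] {S : Subgroup Ω}

/-- The graphs with domain `P` fixing a point of the right orbit `y`. -/
def typeSet (F : FusionSystem S) (X : Type*) [MulAction (S × S) X] (P : Subgroup Ω)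
    (y : Orb (rightHom S X)) : Set (Subgroup (S × S)) :=
  {K | K ∈ graphs F ∧ dom K = P ∧
    ∃ x : X, Quotient.mk (orbSetoid (rightHom S X)) x = y ∧ K ≤ stabilizer (S × S) x}

open Classical in
/-- A chosen element of a set of subgroups. -/
noncomputable def pick {G : Type*} [Group G] (T : Set (Subgroup G)) : Subgroup G :=
  if h : T.Nonempty then h.some else ⊥

theorem pick_mem {G : Type*} [Group G] {T : Set (Subgroup G)} (h : T.Nonempty) : pick T ∈ T := by
  unfold pick
  rw [dif_pos h]
  exact h.some_mem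

section
variable (F : FusionSystem S) {X : Type*} [MulAction (S × S) X]

omit [MulAction (S × S) X] in
theorem smul_eq_left_right [MulAction (S × S) X] (a b : S) (x : X) :
    ((a, b) : S × S) • x = leftHom₀ S X a (rightHom S X b x) := by
  rw [leftHom₀_apply, rightHom_apply, ← mul_smul]
  congr 1
  simp

/-- A permutation commuting with the right action and with the left action of `P` preserves the points fixed by a
graph with domain `P`. -/
theorem stab_le_of_comm {P : Subgroup Ω} (hPS : P ≤ S) (z : commSub (rightHom S X))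
    (hz : ∀ u : P, z * leftHom S X ⟨u, hPS u.2⟩ = leftHom S X ⟨u, hPS u.2⟩ * z)
    {K : Subgroup (S × S)} (hdom : dom K = P) {x : X} (hK : K ≤ stabilizer (S × S) x) :
    K ≤ stabilizer (S × S) ((z : Equiv.Perm X) x) := by
  intro k hk
  have hk1 : ((k.1 : S) : Ω) ∈ P := by
    rw [← hdom]
    exact mem_dom.mpr ⟨k, hk, rfl⟩
  have h1 : k • x = x := hK hk
  show k • ((z : Equiv.Perm X) x) = (z : Equiv.Perm X) x
  have h2 : k = ((k.1, k.2) : S × S) := rfl
  rw [h2, smul_eq_left_right, ← (mem_commSub _).mp z.2]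
  have h3 := congrArg (fun g : commSub (rightHom S X) => (g : Equiv.Perm X) (rightHom S X k.2 x))
    (hz ⟨k.1, hk1⟩)
  simp only [Subgroup.coe_mul, Equiv.Perm.mul_apply] at h3
  have h4 : ((leftHom S X ⟨((⟨k.1, hk1⟩ : P) : Ω), hPS hk1⟩ : commSub (rightHom S X)) : Equiv.Perm X) =
      leftHom₀ S X k.1 := rfl
  rw [h4] at h3
  rw [← h3, ← smul_eq_left_right, ← h2, h1]

end

section
variable (F : FusionSystem S) {X : Type*} [Finite X] [MulAction (S × S) X]
  (hstab : ∀ x : X, stabilizer (S × S) x ∈ graphs F) {A : Type v} [CommGroup A] (π : S →* A)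

include hstab in
/-- Rigidity: two points of one right orbit fixed by the same graph with domain `P` have the same degree. -/
theorem grading_eq_of_rigid {P : Subgroup Ω}
    (hrig : ∀ K ∈ graphs F, dom K = P → ∀ t : S, (∀ k ∈ K, t * k.2 = k.2 * t) → π t = 1)
    (d : X → A) (hd : ∀ (a b : S) (x : X), d (((a, b) : S × S) • x) = π a * (π b)⁻¹ * d x)
    {K : Subgroup (S × S)} (hK : K ∈ graphs F) (hdom : dom K = P) {x x' : X}
    (hxx' : Quotient.mk (orbSetoid (rightHom S X)) x = Quotient.mk (orbSetoid (rightHom S X)) x')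
    (h1 : K ≤ stabilizer (S × S) x) (h2 : K ≤ stabilizer (S × S) x') : d x = d x' := by
  obtain ⟨t, ht⟩ : ∃ t : S, rightHom S X t x = x' := Quotient.exact hxx'
  rw [rightHom_apply] at ht
  have hπt : π t = 1 := by
    apply hrig K hK hdom t
    intro k hk
    have e1 : k • x = x := h1 hk
    have e2 : k • x' = x' := h2 hk
    have e3 : ((((1 : S), t) : S × S)⁻¹ * k * ((1 : S), t)) • x = x := by
      rw [mul_smul, mul_smul, ht, e2, ← ht, inv_smul_smul]
    have e4 : (((1 : S), t) : S × S)⁻¹ * k * ((1 : S), t) = ((k.1, t⁻¹ * k.2 * t) : S × S) := by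
      apply Prod.ext <;> simp
    rw [e4] at e3
    have e5 : ((k.1, k.2) : S × S) ∈ stabilizer (S × S) x := e1
    have e6 := graphs_functional F (hstab x) k.1 _ _ e3 e5
    calc t * k.2 = t * (t⁻¹ * k.2 * t) := by rw [e6]
      _ = k.2 * t := by group
  rw [← ht, hd, hπt, map_one, inv_one, mul_one, one_mul]

include hstab in
/-- A right orbit fixed by the left action of `P` carries a graph with domain `P`. -/
theorem typeSet_nonempty {P : Subgroup Ω} (hPS : P ≤ S) (y : Orb (rightHom S X))
    (hy : ∀ u : P, barMap (rightHom S X) (leftHom S X ⟨u, hPS u.2⟩) y = y) :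
    (typeSet F X P y).Nonempty := by
  obtain ⟨x, rfl⟩ : ∃ x, Quotient.mk (orbSetoid (rightHom S X)) x = y := ⟨_, mk_sec _ y⟩
  refine ⟨stabilizer (S × S) x ⊓ (P.subgroupOf S).prod ⊤, graphs_le F (hstab x) inf_le_left, ?_,
    x, rfl, inf_le_left⟩
  ext a
  rw [mem_dom]
  constructor
  · rintro ⟨k, hk, rfl⟩
    exact (Subgroup.mem_prod.mp hk.2).1
  · intro ha
    have h1 := hy ⟨a, ha⟩
    rw [barMap_mk] at h1
    obtain ⟨r, hr⟩ : ∃ r : S, rightHom S X r
        (((leftHom S X ⟨a, hPS ha⟩ : commSub (rightHom S X)) : Equiv.Perm X) x) = x :=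
      Quotient.exact h1
    rw [rightHom_apply, leftHom_apply, ← mul_smul] at hr
    refine ⟨((⟨a, hPS ha⟩ : S), r), ⟨?_, ?_⟩, rfl⟩
    · show (((⟨a, hPS ha⟩ : S), r) : S × S) • x = x
      convert hr using 2
      simp
    · exact Subgroup.mem_prod.mpr ⟨ha, Subgroup.mem_top _⟩

end

end Cfsg.Agent.H9PI
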