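import Mathlib
import Cfsg.Prelude
import Cfsg.Agent.Lib.Helper9.PI3

set_option autoImplicit false

/-!
# Subsystems of `p`-power index (part 4): the transfer vanishes on the centralizer of a rigid subgroup
-/

namespace Cfsg.Agent.H9PI

open MulAction Cfsg Cfsg.FusionSystem Cfsg.Agent.Lib.Helper9 Cfsg.Agent.Lib.Helper8.BM
  Cfsg.Agent.Lib.Helper8.CB

universe u v

variable {Ω : Type u} [Group Ω] {S : Subgroup Ω}

section
variable (F : FusionSystem S) {X : Type*} [MulAction (S × S) X]

/-- Commuting with the left action of `P` passes to the inverse. -/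
theorem comm_inv {P : Subgroup Ω} (hPS : P ≤ S) (z : commSub (rightHom S X))
    (hz : ∀ u : P, z * leftHom S X ⟨u, hPS u.2⟩ = leftHom S X ⟨u, hPS u.2⟩ * z) (u : P) :
    z⁻¹ * leftHom S X ⟨u, hPS u.2⟩ = leftHom S X ⟨u, hPS u.2⟩ * z⁻¹ := by
  have h := hz u
  calc z⁻¹ * leftHom S X ⟨u, hPS u.2⟩ = z⁻¹ * (leftHom S X ⟨u, hPS u.2⟩ * z) * z⁻¹ := by group
    _ = z⁻¹ * (z * leftHom S X ⟨u, hPS u.2⟩) * z⁻¹ := by rw [h]
    _ = _ := by group

/-- The fixed orbits of `P` are permuted by the permutations commuting with `P`. -/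
theorem fixed_barMap {P : Subgroup Ω} (hPS : P ≤ S) (z : commSub (rightHom S X))
    (hz : ∀ u : P, z * leftHom S X ⟨u, hPS u.2⟩ = leftHom S X ⟨u, hPS u.2⟩ * z)
    (y : Orb (rightHom S X))
    (hy : ∀ u : P, barMap (rightHom S X) (leftHom S X ⟨u, hPS u.2⟩) y = y) (u : P) :
    barMap (rightHom S X) (leftHom S X ⟨u, hPS u.2⟩) (barMap (rightHom S X) z y) =
      barMap (rightHom S X) z y := by
  rw [← barMap_mul, ← hz u, barMap_mul, hy u]

/-- The type set is invariant under the permutations commuting with `P`. -/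
theorem typeSet_barMap {P : Subgroup Ω} (hPS : P ≤ S) (z : commSub (rightHom S X))
    (hz : ∀ u : P, z * leftHom S X ⟨u, hPS u.2⟩ = leftHom S X ⟨u, hPS u.2⟩ * z)
    (y : Orb (rightHom S X)) :
    typeSet F X P (barMap (rightHom S X) z y) = typeSet F X P y := by
  ext K
  constructor
  · rintro ⟨hKg, hKdom, x, hx, hKx⟩
    refine ⟨hKg, hKdom, ((z⁻¹ : commSub (rightHom S X)) : Equiv.Perm X) x, ?_, ?_⟩
    · rw [← barMap_mk, hx, ← barMap_mul, inv_mul_cancel, barMap_one]
    · exact stab_le_of_comm hPS z⁻¹ (comm_inv hPS z hz) hKdom hKx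
  · rintro ⟨hKg, hKdom, x, hx, hKx⟩
    refine ⟨hKg, hKdom, (z : Equiv.Perm X) x, ?_, ?_⟩
    · rw [← barMap_mk, hx]
    · exact stab_le_of_comm hPS z hz hKdom hKx

end

/-- **The transfer vanishes on the centralizer of a rigid subgroup of the kernel.** -/
theorem tr_centralizer_eq_one [Finite S] {p : ℕ} [Fact p.Prime] (hS : IsPGroup p S) (F : FusionSystem S)
    {X : Type*} [Finite X] [MulAction (S × S) X] (hstab : ∀ x : X, stabilizer (S × S) x ∈ graphs F)
    {A : Type v} [CommGroup A] (π : S →* A) (hπ : FInv F π) (hA : ∀ a : A, a ^ p = 1)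
    {P : Subgroup Ω} (hPS : P ≤ S) (hPM : ∀ u : P, π ⟨u, hPS u.2⟩ = 1)
    (hrig : ∀ K ∈ graphs F, dom K = P → ∀ t : S, (∀ k ∈ K, t * k.2 = k.2 * t) → π t = 1)
    (z : commSub (rightHom S X))
    (hz : ∀ u : P, z * leftHom S X ⟨u, hPS u.2⟩ = leftHom S X ⟨u, hPS u.2⟩ * z) :
    tr (rightHom S X) π (rightHom_free F hstab) z = 1 := by
  classical
  letI : Fintype (Orb (rightHom S X)) := Fintype.ofFinite _
  obtain ⟨d, hd⟩ := exists_grading F hstab π hπ
  have hd' : ∀ (r : S) (x : X), d (rightHom S X r x) = (π r)⁻¹ * d x := by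
    intro r x
    rw [rightHom_apply, hd, map_one, one_mul]
  rw [tr_eq_prod_shift (rightHom S X) π (rightHom_free F hstab) d hd', inv_eq_one]
  letI actG : MulAction (commSub (rightHom S X)) (Orb (rightHom S X)) := orbAction (rightHom S X)
  letI actP : MulAction ↥P (Orb (rightHom S X)) :=
    MulAction.compHom (Orb (rightHom S X)) ((leftHom S X).comp (Subgroup.inclusion hPS))
  have hsmul : ∀ (w : P) (y : Orb (rightHom S X)),
      w • y = barMap (rightHom S X) (leftHom S X ⟨w, hPS w.2⟩) y := fun w y => rfl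
  have hP : IsPGroup p ↥P := hS.to_le hPS
  have hinv : ∀ (w : P) (y : Orb (rightHom S X)),
      shift (rightHom S X) d z (w • y) = shift (rightHom S X) d z y := by
    intro w y
    rw [hsmul]
    induction y using Quotient.inductionOn with
    | h x =>
      rw [barMap_mk, ← shift_eq (rightHom S X) π d hd' z, ← shift_eq (rightHom S X) π d hd' z]
      have h1 := congrArg (fun g : commSub (rightHom S X) => (g : Equiv.Perm X) x) (hz w)
      simp only [Subgroup.coe_mul, Equiv.Perm.mul_apply] at h1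
      rw [h1, leftHom_apply, leftHom_apply, hd, hd, hPM w, map_one, inv_one, mul_one, one_mul, one_mul]
  rw [prod_eq_prod_fixedPoints hP hA (shift (rightHom S X) d z) hinv]
  -- the function `b`
  obtain ⟨b, hbdef⟩ : ∃ b : Orb (rightHom S X) → A, ∀ y, b y =
      if h : ∃ x : X, Quotient.mk (orbSetoid (rightHom S X)) x = y ∧
        pick (typeSet F X P y) ≤ stabilizer (S × S) x then d (Classical.choose h) else 1 := ⟨_, fun _ => rfl⟩
  have hfix_iff : ∀ y : Orb (rightHom S X), y ∈ fixedPoints ↥P (Orb (rightHom S X)) ↔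
      ∀ u : P, barMap (rightHom S X) (leftHom S X ⟨u, hPS u.2⟩) y = y := by
    intro y
    rw [MulAction.mem_fixedPoints]
    exact Iff.rfl
  have hb : ∀ y : Orb (rightHom S X),
      (∀ u : P, barMap (rightHom S X) (leftHom S X ⟨u, hPS u.2⟩) y = y) →
      ∀ x : X, Quotient.mk (orbSetoid (rightHom S X)) x = y →
        pick (typeSet F X P y) ≤ stabilizer (S × S) x → b y = d x := by
    intro y hy x hx hKx
    have hpick := pick_mem (typeSet_nonempty F hstab hPS y hy)
    have hex : ∃ x : X, Quotient.mk (orbSetoid (rightHom S X)) x = y ∧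
        pick (typeSet F X P y) ≤ stabilizer (S × S) x := ⟨x, hx, hKx⟩
    rw [hbdef, dif_pos hex]
    have hc := Classical.choose_spec hex
    exact grading_eq_of_rigid F hstab π hrig d hd hpick.1 hpick.2.1 (hc.1.trans hx.symm) hc.2 hKx
  have key : ∀ y ∈ Finset.univ.filter (fun y => y ∈ fixedPoints ↥P (Orb (rightHom S X))),
      shift (rightHom S X) d z y = b (barMap (rightHom S X) z y) * (b y)⁻¹ := by
    intro y hy
    have hy' := (hfix_iff y).mp (Finset.mem_filter.mp hy).2
    have hpick := pick_mem (typeSet_nonempty F hstab hPS y hy')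
    obtain ⟨hKg, hKdom, x, hx, hKx⟩ := hpick
    rw [hb y hy' x hx hKx]
    have hy'' := fixed_barMap hPS z hz y hy'
    have h2 : pick (typeSet F X P (barMap (rightHom S X) z y)) ≤
        stabilizer (S × S) ((z : Equiv.Perm X) x) := by
      rw [typeSet_barMap F hPS z hz y]
      exact stab_le_of_comm hPS z hz hKdom hKx
    rw [hb _ hy'' ((z : Equiv.Perm X) x) (by rw [← barMap_mk, hx]) h2, ← hx]
    exact (shift_eq (rightHom S X) π d hd' z x).symm
  rw [Finset.prod_congr rfl key, Finset.prod_mul_distrib, Finset.prod_inv_distrib]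
  have hperm : ∏ y ∈ Finset.univ.filter (fun y => y ∈ fixedPoints ↥P (Orb (rightHom S X))),
      b (barMap (rightHom S X) z y) =
      ∏ y ∈ Finset.univ.filter (fun y => y ∈ fixedPoints ↥P (Orb (rightHom S X))), b y := by
    apply Finset.prod_nbij' (fun y => barMap (rightHom S X) z y) (fun y => barMap (rightHom S X) z⁻¹ y)
    · intro y hy
      rw [Finset.mem_filter] at hy ⊢
      exact ⟨Finset.mem_univ _, (hfix_iff _).mpr (fixed_barMap hPS z hz y ((hfix_iff y).mp hy.2))⟩
    · intro y hy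
      rw [Finset.mem_filter] at hy ⊢
      exact ⟨Finset.mem_univ _, (hfix_iff _).mpr
        (fixed_barMap hPS z⁻¹ (comm_inv hPS z hz) y ((hfix_iff y).mp hy.2))⟩
    · intro y _
      show barMap (rightHom S X) z⁻¹ (barMap (rightHom S X) z y) = y
      rw [← barMap_mul, inv_mul_cancel, barMap_one]
    · intro y _
      show barMap (rightHom S X) z (barMap (rightHom S X) z⁻¹ y) = y
      rw [← barMap_mul, mul_inv_cancel, barMap_one]
    · intro y _
      rfl
  rw [hperm, mul_inv_cancel]

end Cfsg.Agent.H9PI
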