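import Mathlib
import Cfsg.Prelude
import Cfsg.Agent.Lib.Helper9.PI4

set_option autoImplicit false

/-!
# Subsystems of `p`-power index (part 5): the context, realizers, and the subsystem over the kernel
-/

namespace Cfsg.Agent.H9PI

open MulAction Cfsg Cfsg.FusionSystem Cfsg.Agent.Lib.Helper9 Cfsg.Agent.Lib.Helper8.BM
  Cfsg.Agent.Lib.Helper8.CB

universe u v

variable {Ω : Type u} [Group Ω] {S : Subgroup Ω}

/-- The data of the construction: a characteristic biset `X` of `F` and an invariant surjection `π` of `S` onto a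
group of order `p` (described by its properties). -/
structure Ctx (F : FusionSystem S) (p : ℕ) (X : Type u) [Finite X] [MulAction (S × S) X]
    {A : Type v} [CommGroup A] (π : S →* A) : Prop where
  hstab : ∀ x : X, stabilizer (S × S) x ∈ graphs F
  hst : ∀ K K', frel F K K' → Nat.card (fixedPoints K X) = Nat.card (fixedPoints K' X)
  hcard : ∃ k, Nat.card X = k * Nat.card S ∧ ¬ p ∣ k
  hπ : FInv F π
  hA : ∀ a : A, a ^ p = 1
  hsurj : Function.Surjective π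
  hcyc : ∀ a b : A, a ≠ 1 → ∃ j : ℕ, a ^ j = b

/-- In a group of exponent `p`, an element killed by an exponent prime to `p` is trivial. -/
theorem eq_one_of_pow_eq_one {A : Type*} [Group A] {p : ℕ} [hp : Fact p.Prime] {a : A} (h1 : a ^ p = 1)
    {k : ℕ} (h2 : a ^ k = 1) (hk : ¬ p ∣ k) : a = 1 := by
  have h3 : orderOf a ∣ p := orderOf_dvd_of_pow_eq_one h1
  have h4 : orderOf a ∣ k := orderOf_dvd_of_pow_eq_one h2
  rcases (Nat.dvd_prime hp.out).mp h3 with h | h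
  · exact orderOf_eq_one_iff.mp h
  · rw [h] at h4
    exact absurd h4 hk

/-- In a commutative group of exponent `p`, taking `k`-th powers is surjective for `k` prime to `p`. -/
theorem exists_pow_eq {A : Type*} [Group A] {p : ℕ} [hp : Fact p.Prime] (hA : ∀ a : A, a ^ p = 1)
    {k : ℕ} (hk : ¬ p ∣ k) (a : A) : ∃ b : A, b ^ k = a := by
  have hcop : Nat.Coprime k p := ((Nat.Prime.coprime_iff_not_dvd hp.out).mpr hk).symm
  obtain ⟨m, -, hm⟩ := Nat.exists_mul_mod_eq_one_of_coprime hcop hp.out.one_lt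
  refine ⟨a ^ m, ?_⟩
  rw [← pow_mul, mul_comm]
  have h1 : k * m = p * (k * m / p) + 1 := by
    have := Nat.div_add_mod (k * m) p
    omega
  rw [h1, pow_succ, pow_mul, hA, one_pow, one_mul]

section
variable {F : FusionSystem S} {p : ℕ} {X : Type u} [Finite X] [MulAction (S × S) X]
  {A : Type v} [CommGroup A] {π : S →* A}

/-- The transfer of the context. -/
noncomputable def Ctx.Θ (ctx : Ctx F p X π) : commSub (rightHom S X) →* A :=
  tr (rightHom S X) π (rightHom_free F ctx.hstab)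

theorem Ctx.card_orb [Finite S] (ctx : Ctx F p X π) : ¬ p ∣ Nat.card (Orb (rightHom S X)) := by
  obtain ⟨k, hk, hpk⟩ := ctx.hcard
  have h1 := card_orb_mul (rightHom S X) (rightHom_free F ctx.hstab)
  rw [hk] at h1
  have h2 : Nat.card (Orb (rightHom S X)) = k := Nat.eq_of_mul_eq_mul_right Nat.card_pos h1
  rw [h2]
  exact hpk

theorem Ctx.Θ_leftHom (ctx : Ctx F p X π) (s : S) :
    ctx.Θ (leftHom S X s) = ((π s) ^ Nat.card (Orb (rightHom S X)))⁻¹ :=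
  tr_leftHom F ctx.hstab π ctx.hπ s

theorem Ctx.Θ_leftHom_eq_one (ctx : Ctx F p X π) {s : S} (hs : π s = 1) : ctx.Θ (leftHom S X s) = 1 := by
  rw [ctx.Θ_leftHom, hs, one_pow, inv_one]

theorem Ctx.eq_one_of_Θ_leftHom [Finite S] [Fact p.Prime] (ctx : Ctx F p X π) {s : S}
    (hs : ctx.Θ (leftHom S X s) = 1) : π s = 1 := by
  rw [ctx.Θ_leftHom, inv_eq_one] at hs
  exact eq_one_of_pow_eq_one (ctx.hA _) hs ctx.card_orb

theorem Ctx.exists_Θ_leftHom [Finite S] [Fact p.Prime] (ctx : Ctx F p X π) (a : A) :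
    ∃ s : S, ctx.Θ (leftHom S X s) = a := by
  obtain ⟨b, hb⟩ := exists_pow_eq ctx.hA ctx.card_orb a⁻¹
  obtain ⟨s, hs⟩ := ctx.hsurj b
  refine ⟨s, ?_⟩
  rw [ctx.Θ_leftHom, hs, hb, inv_inv]

end

/-- The kernel of `π`, as a subgroup of the ambient group. -/
def kerSub {A : Type v} [Group A] (π : S →* A) : Subgroup Ω := π.ker.map S.subtype

theorem mem_kerSub {A : Type v} [Group A] (π : S →* A) (x : Ω) :
    x ∈ kerSub π ↔ ∃ hx : x ∈ S, π ⟨x, hx⟩ = 1 := by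
  constructor
  · rintro ⟨s, hs, rfl⟩
    exact ⟨s.2, hs⟩
  · rintro ⟨hx, h⟩
    exact ⟨⟨x, hx⟩, h, rfl⟩

theorem kerSub_le {A : Type v} [Group A] (π : S →* A) : kerSub π ≤ S := by
  intro x hx
  exact ((mem_kerSub π x).mp hx).1

/-- `g` realizes the homomorphism `φ`. -/
def Real {X : Type*} [MulAction (S × S) X] (g : commSub (rightHom S X)) {P : Subgroup Ω} (φ : P →* Ω) :
    Prop :=
  ∀ (w : P) (hw : (w : Ω) ∈ S) (hφw : φ w ∈ S), g * leftHom S X ⟨w, hw⟩ * g⁻¹ = leftHom S X ⟨φ w, hφw⟩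

section
variable {X : Type*} [MulAction (S × S) X]

theorem real_conj {P : Subgroup Ω} (s : S) : Real (leftHom S X s) (conjHom P (s : Ω)) := by
  intro w hw hφw
  rw [← map_inv, ← map_mul, ← map_mul]
  congr 1

theorem Real.comp {P Q : Subgroup Ω} {g h : commSub (rightHom S X)} {φ : P →* Ω} {ψ : Q →* Ω}
    (hg : Real g φ) (hh : Real h ψ) (hφQ : ∀ x : P, φ x ∈ Q) (hQS : Q ≤ S) :
    Real (h * g) (ψ.comp (φ.codRestrict Q hφQ)) := by
  intro w hw hφw
  have h1 := hg w hw (hQS (hφQ w))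
  have h2 := hh ⟨φ w, hφQ w⟩ (hQS (hφQ w)) hφw
  change h * g * leftHom S X ⟨w, hw⟩ * (h * g)⁻¹ = leftHom S X ⟨ψ ⟨φ w, hφQ w⟩, hφw⟩
  rw [← h2, ← h1]
  group

theorem Real.mul_right {P : Subgroup Ω} {g z : commSub (rightHom S X)} {φ : P →* Ω} (hg : Real g φ)
    (hz : ∀ (w : P) (hw : (w : Ω) ∈ S), z * leftHom S X ⟨w, hw⟩ = leftHom S X ⟨w, hw⟩ * z) :
    Real (g * z) φ := by
  intro w hw hφw
  rw [← hg w hw hφw]
  calc g * z * leftHom S X ⟨w, hw⟩ * (g * z)⁻¹ = g * (z * leftHom S X ⟨w, hw⟩) * z⁻¹ * g⁻¹ := by group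
    _ = g * (leftHom S X ⟨w, hw⟩ * z) * z⁻¹ * g⁻¹ := by rw [hz w hw]
    _ = _ := by group

theorem Real.comm_of_real {P : Subgroup Ω} {g h : commSub (rightHom S X)} {φ : P →* Ω} (hg : Real g φ)
    (hh : Real h φ) (hφS : ∀ x : P, φ x ∈ S) (w : P) (hw : (w : Ω) ∈ S) :
    (g⁻¹ * h) * leftHom S X ⟨w, hw⟩ = leftHom S X ⟨w, hw⟩ * (g⁻¹ * h) := by
  have h1 := hg w hw (hφS w)
  have h2 := hh w hw (hφS w)
  have h3 : h * leftHom S X ⟨w, hw⟩ = g * leftHom S X ⟨w, hw⟩ * g⁻¹ * h := by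
    rw [h1, ← h2]; group
  calc g⁻¹ * h * leftHom S X ⟨w, hw⟩ = g⁻¹ * (h * leftHom S X ⟨w, hw⟩) := by group
    _ = g⁻¹ * (g * leftHom S X ⟨w, hw⟩ * g⁻¹ * h) := by rw [h3]
    _ = _ := by group

theorem Real.restrict {P R : Subgroup Ω} {g : commSub (rightHom S X)} {φ : P →* Ω} (hg : Real g φ)
    (h : R ≤ P) : Real g (φ.comp (Subgroup.inclusion h)) := by
  intro w hw hφw
  exact hg (Subgroup.inclusion h w) hw hφw

/-- A realizer of a map also realizes the inverse map, inverted. -/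
theorem Real.inv {P : Subgroup Ω} {g : commSub (rightHom S X)} {φ : P →* Ω} (hg : Real g φ)
    (hPS : P ≤ S) {ψ : φ.range →* Ω} (hψ : ∀ x : P, ψ ⟨φ x, ⟨x, rfl⟩⟩ = (x : Ω)) : Real g⁻¹ ψ := by
  rintro ⟨_, x, rfl⟩ hw hφw
  have h1 := hg x (hPS x.2) hw
  have h2 : ψ ⟨φ x, ⟨x, rfl⟩⟩ = (x : Ω) := hψ x
  have h3 : (⟨ψ ⟨φ x, ⟨x, rfl⟩⟩, hφw⟩ : S) = ⟨x, hPS x.2⟩ := Subtype.ext h2
  rw [h3, ← h1]
  group

end

end Cfsg.Agent.H9PI
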