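import Mathlib
import Cfsg.Prelude
import Cfsg.Agent.Lib.Helper9.PI5
import Cfsg.Agent.Lib.Helper9.FusionAut
import Cfsg.Agent.Lib.Helper9.FusionBasic
import Cfsg.Agent.Lib.Helper9.FusionTransport
import Cfsg.Agent.Lib.Helper6.PRes

set_option autoImplicit false

/-!
# Subsystems of `p`-power index (part 6): the subsystem over the kernel and its index
-/

namespace Cfsg.Agent.H9PI

open MulAction Cfsg Cfsg.FusionSystem Cfsg.Agent.Lib.Helper9 Cfsg.Agent.Lib.Helper8.BM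
  Cfsg.Agent.Lib.Helper8.CB

universe u v

variable {Ω : Type u} [Group Ω] {S : Subgroup Ω}

section
variable {X : Type*} [MulAction (S × S) X]

theorem Real.aut_mul {P : Subgroup Ω} {g h : commSub (rightHom S X)} {α β : MulAut P}
    (hg : Real g (P.subtype.comp α.toMonoidHom)) (hh : Real h (P.subtype.comp β.toMonoidHom))
    (hPS : P ≤ S) : Real (g * h) (P.subtype.comp (α * β).toMonoidHom) := by
  intro w hw hφw
  have h1 := hh w hw (hPS (β w).2)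
  have h2 := hg (β w) (hPS (β w).2) hφw
  change g * h * leftHom S X ⟨w, hw⟩ * (g * h)⁻¹ = leftHom S X ⟨((α (β w) : P) : Ω), hφw⟩
  change h * leftHom S X ⟨w, hw⟩ * h⁻¹ = leftHom S X ⟨((β w : P) : Ω), hPS (β w).2⟩ at h1
  change g * leftHom S X ⟨((β w : P) : Ω), hPS (β w).2⟩ * g⁻¹ =
    leftHom S X ⟨((α (β w) : P) : Ω), hφw⟩ at h2
  rw [← h2, ← h1]
  group

theorem Real.aut_one {P : Subgroup Ω} : Real (1 : commSub (rightHom S X))
    (P.subtype.comp (1 : MulAut P).toMonoidHom) := by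
  intro w hw hφw
  change 1 * leftHom S X ⟨w, hw⟩ * 1⁻¹ = leftHom S X ⟨(w : Ω), hφw⟩
  simp

theorem Real.aut_inv {P : Subgroup Ω} {g : commSub (rightHom S X)} {α : MulAut P}
    (hg : Real g (P.subtype.comp α.toMonoidHom)) (hPS : P ≤ S) :
    Real g⁻¹ (P.subtype.comp (α⁻¹).toMonoidHom) := by
  intro w hw hφw
  have h1 := hg (α⁻¹ w) (hPS (α⁻¹ w).2) (by
    change ((α (α⁻¹ w) : P) : Ω) ∈ S
    rw [MulAut.apply_inv_self]; exact hw)
  change g⁻¹ * leftHom S X ⟨w, hw⟩ * g⁻¹⁻¹ = leftHom S X ⟨((α⁻¹ w : P) : Ω), hφw⟩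
  change g * leftHom S X ⟨((α⁻¹ w : P) : Ω), hPS (α⁻¹ w).2⟩ * g⁻¹ =
    leftHom S X ⟨((α (α⁻¹ w) : P) : Ω), _⟩ at h1
  have h2 : (⟨((α (α⁻¹ w) : P) : Ω), by rw [MulAut.apply_inv_self]; exact hw⟩ : S) = ⟨w, hw⟩ := by
    apply Subtype.ext
    show ((α (α⁻¹ w) : P) : Ω) = w
    rw [MulAut.apply_inv_self]
  rw [h2] at h1
  rw [← h1]
  group

theorem Real.aut_pow {P : Subgroup Ω} {g : commSub (rightHom S X)} {α : MulAut P}
    (hg : Real g (P.subtype.comp α.toMonoidHom)) (hPS : P ≤ S) (n : ℕ) :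
    Real (g ^ n) (P.subtype.comp (α ^ n).toMonoidHom) := by
  induction n with
  | zero =>
    rw [pow_zero, pow_zero]
    exact Real.aut_one
  | succ n ih =>
    rw [pow_succ, pow_succ]
    exact ih.aut_mul hg hPS

/-- Two realizers of the same map differ by an element commuting with the image. -/
theorem Real.comm_image {P : Subgroup Ω} {g h : commSub (rightHom S X)} {φ : P →* Ω} (hg : Real g φ)
    (hh : Real h φ) (w : P) (hw : (w : Ω) ∈ S) (hφw : φ w ∈ S) :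
    (h * g⁻¹) * leftHom S X ⟨φ w, hφw⟩ = leftHom S X ⟨φ w, hφw⟩ * (h * g⁻¹) := by
  have h1 := hg w hw hφw
  have h2 := hh w hw hφw
  calc h * g⁻¹ * leftHom S X ⟨φ w, hφw⟩ = h * g⁻¹ * (g * leftHom S X ⟨w, hw⟩ * g⁻¹) := by rw [h1]
    _ = (h * leftHom S X ⟨w, hw⟩ * h⁻¹) * (h * g⁻¹) := by group
    _ = _ := by rw [h2]

end

section
variable {F : FusionSystem S} {p : ℕ} {X : Type u} [Finite X] [MulAction (S × S) X]
  {A : Type v} [CommGroup A] {π : S →* A}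

theorem Ctx.real_exists [Finite S] (ctx : Ctx F p X π) {P : Subgroup Ω} {φ : P →* Ω} (hφ : φ ∈ F.Hom P) :
    ∃ g : commSub (rightHom S X), Real g φ := by
  obtain ⟨e, he⟩ := exists_intertwining F ctx.hstab ctx.hst hφ
  exact ⟨e, fun w _ _ => he w⟩

theorem Ctx.map_mem_kerSub (ctx : Ctx F p X π) {P : Subgroup Ω} {φ : P →* Ω} (hφ : φ ∈ F.Hom P)
    (hPM : P ≤ kerSub π) (x : P) : φ x ∈ kerSub π := by
  rw [mem_kerSub]
  refine ⟨(F.le_of_mem hφ).2 x, ?_⟩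
  rw [ctx.hπ.apply hφ x _ ((F.le_of_mem hφ).1 x.2)]
  exact ((mem_kerSub π _).mp (hPM x.2)).2

/-- The subsystem over the kernel of `π`: the maps of `F` between subgroups of the kernel having a realizer of
trivial transfer. -/
def Ctx.sub (ctx : Ctx F p X π) : FusionSystem (kerSub π) where
  Hom P := {φ | φ ∈ F.Hom P ∧ P ≤ kerSub π ∧ ∃ g : commSub (rightHom S X), ctx.Θ g = 1 ∧ Real g φ}
  le_of_mem := by
    rintro P φ ⟨hφ, hPM, -⟩
    exact ⟨hPM, fun x => ctx.map_mem_kerSub hφ hPM x⟩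
  injective_of_mem := by
    rintro P φ ⟨hφ, -, -⟩
    exact F.injective_of_mem hφ
  conj_mem := by
    intro P g hP hg
    have hgS : g ∈ S := kerSub_le π hg
    refine ⟨F.conj_mem (hP.trans (kerSub_le π)) hgS, hP, leftHom S X ⟨g, hgS⟩, ?_, real_conj ⟨g, hgS⟩⟩
    exact ctx.Θ_leftHom_eq_one ((mem_kerSub π g).mp hg).2
  comp_mem := by
    rintro P Q φ ψ ⟨hφ, hPM, g, hg1, hg⟩ ⟨hψ, hQM, h, hh1, hh⟩ hval
    refine ⟨F.comp_mem hφ hψ hval, hPM, h * g, ?_, hg.comp hh hval (hQM.trans (kerSub_le π))⟩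
    rw [map_mul, hg1, hh1, one_mul]
  inv_mem := by
    rintro P φ ⟨hφ, hPM, g, hg1, hg⟩
    obtain ⟨ψ, hψ, hψφ⟩ := F.inv_mem hφ
    refine ⟨ψ, ⟨hψ, ?_, g⁻¹, ?_, hg.inv (hPM.trans (kerSub_le π)) hψφ⟩, hψφ⟩
    · rintro _ ⟨x, rfl⟩
      exact ctx.map_mem_kerSub hφ hPM x
    · rw [map_inv, hg1, inv_one]

theorem Ctx.mem_sub_iff (ctx : Ctx F p X π) {P : Subgroup Ω} (φ : P →* Ω) :
    φ ∈ ctx.sub.Hom P ↔
      φ ∈ F.Hom P ∧ P ≤ kerSub π ∧ ∃ g : commSub (rightHom S X), ctx.Θ g = 1 ∧ Real g φ := Iff.rfl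

theorem Ctx.sub_isSubsystemOf (ctx : Ctx F p X π) : ctx.sub.IsSubsystemOf F := fun _ _ h => h.1

/-- **Frattini property**: every map of `F` between subgroups of the kernel is a map of the subsystem followed by
a conjugation by an element of `S`. -/
theorem Ctx.frattini [Finite S] [Fact p.Prime] (ctx : Ctx F p X π) {P : Subgroup Ω} {ψ : P →* Ω}
    (hψ : ψ ∈ F.Hom P) (hPM : P ≤ kerSub π) :
    ∃ s : S, (conjHom ψ.range (s : Ω)).comp (ψ.codRestrict ψ.range (fun x => ⟨x, rfl⟩)) ∈ ctx.sub.Hom P := by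
  obtain ⟨g, hg⟩ := ctx.real_exists hψ
  obtain ⟨s, hs⟩ := ctx.exists_Θ_leftHom (ctx.Θ g)⁻¹
  refine ⟨s, ?_, hPM, leftHom S X s * g, ?_, ?_⟩
  · exact F.comp_mem hψ (F.conj_mem (fs_range_le F hψ) s.2) _
  · rw [map_mul, hs, inv_mul_cancel]
  · exact hg.comp (real_conj s) _ (fs_range_le F hψ)

end

end Cfsg.Agent.H9PI
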