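import Mathlib
import Cfsg.Prelude
import Cfsg.Agent.Lib.Helper9.PI6
import Cfsg.Agent.Lib.Helper9.FusionReceptive

set_option autoImplicit false

/-!
# Subsystems of `p`-power index (part 7): the index of the subsystem over the kernel; tight subgroups
-/

namespace Cfsg.Agent.H9PI

open MulAction Cfsg Cfsg.FusionSystem Cfsg.Agent.Lib.Helper9 Cfsg.Agent.Lib.Helper8.BM
  Cfsg.Agent.Lib.Helper8.CB

universe u v

variable {Ω : Type u} [Group Ω] {S : Subgroup Ω}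

variable {F : FusionSystem S} {p : ℕ} {X : Type u} [Finite X] [MulAction (S × S) X]
  {A : Type v} [CommGroup A] {π : S →* A}

theorem Ctx.hyperfocal_le (ctx : Ctx F p X π) : F.hyperfocalSubgroup p ≤ kerSub π := by
  unfold FusionSystem.hyperfocalSubgroup
  rw [Subgroup.closure_le]
  rintro _ ⟨P, α, x, hPS, -, rfl⟩
  have hα := (mem_autGroup_iff F hPS (α : MulAut P)).mp α.2
  rw [SetLike.mem_coe, mem_kerSub]
  refine ⟨S.mul_mem (S.inv_mem (hPS x.2)) (hPS ((α : MulAut P) x).2), ?_⟩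
  have h1 := ctx.hπ.apply hα x (hPS ((α : MulAut P) x).2) (hPS x.2)
  have h2 : (⟨(x : Ω)⁻¹ * (((α : MulAut P) x : P) : Ω),
      S.mul_mem (S.inv_mem (hPS x.2)) (hPS ((α : MulAut P) x).2)⟩ : S) =
      (⟨x, hPS x.2⟩ : S)⁻¹ * ⟨(((α : MulAut P) x : P) : Ω), hPS ((α : MulAut P) x).2⟩ := rfl
  rw [h2, map_mul, map_inv]
  change (π ⟨x, hPS x.2⟩)⁻¹ * π ⟨(P.subtype.comp (α : MulAut P).toMonoidHom) x, _⟩ = 1
  rw [h1, inv_mul_cancel]

theorem Ctx.residual_le [Finite S] [Fact p.Prime] (ctx : Ctx F p X π) {P : Subgroup Ω}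
    (hPM : P ≤ kerSub π) :
    (pResidual p (F.autGroup P)).map (F.autGroup P).subtype ≤ ctx.sub.autGroup P := by
  have hPS : P ≤ S := hPM.trans (kerSub_le π)
  rw [Subgroup.map_le_iff_le_comap]
  apply Cfsg.Agent.Lib.Helper6.pResidual_le_of_forall
  intro α hα
  rw [Subgroup.mem_comap]
  show (α : MulAut P) ∈ ctx.sub.autGroup P
  rw [mem_autGroup_iff ctx.sub hPM]
  have hαF := (mem_autGroup_iff F hPS _).mp α.2
  obtain ⟨g, hg⟩ := ctx.real_exists hαF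
  have hcop : Nat.Coprime (orderOf (α : MulAut P)) p := by
    rw [Subgroup.orderOf_coe]; exact hα
  obtain ⟨m, hm⟩ := exists_pow_eq_self_of_coprime (x := (α : MulAut P)) (n := p) hcop.symm
  have hreal := (hg.aut_pow hPS p).aut_pow hPS m
  rw [hm] at hreal
  refine ⟨hαF, hPM, (g ^ p) ^ m, ?_, hreal⟩
  rw [map_pow, map_pow, ctx.hA, one_pow]

/-- The subsystem over the kernel has `p`-power index. -/
theorem Ctx.sub_ppowerIndex [Finite S] [Fact p.Prime] (ctx : Ctx F p X π) :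
    ctx.sub.HasPPowerIndexIn F p :=
  ⟨ctx.sub_isSubsystemOf, ctx.hyperfocal_le, fun _ hP => ctx.residual_le hP⟩

/-- **Dichotomy**: a receptive subgroup of the kernel is tight (the transfer vanishes on the centralizer of its
image) or it is centralized by an element of `S` outside the kernel. -/
theorem Ctx.tight_or_central [Finite S] [Fact p.Prime] (hS : IsPGroup p S) (ctx : Ctx F p X π)
    {Q : Subgroup Ω} (hQM : Q ≤ kerSub π) (hQr : F.IsReceptive Q) :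
    (∀ z : commSub (rightHom S X),
      (∀ (w : Q) (hw : (w : Ω) ∈ S), z * leftHom S X ⟨w, hw⟩ = leftHom S X ⟨w, hw⟩ * z) → ctx.Θ z = 1) ∨
    ∃ c : S, (c : Ω) ∈ centralizerIn S Q ∧ π c ≠ 1 := by
  by_cases h : ∃ c : S, (c : Ω) ∈ centralizerIn S Q ∧ π c ≠ 1
  · exact Or.inr h
  left
  push Not at h
  intro z hz
  have hQS : Q ≤ S := hQM.trans (kerSub_le π)
  refine tr_centralizer_eq_one hS F ctx.hstab π ctx.hπ ctx.hA hQS
    (fun u => ((mem_kerSub π _).mp (hQM u.2)).2) ?_ z (fun u => hz u (hQS u.2))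
  rintro K ⟨P', φ, hφ, rfl⟩ hdom t ht
  rw [dom_gr] at hdom
  subst hdom
  have hφS : ∀ x : P', φ x ∈ S := (F.le_of_mem hφ).2
  have htφ : ∀ x : P', (t : Ω) * φ x = φ x * t := by
    intro x
    have hk : ((⟨x, hQS x.2⟩, ⟨φ x, hφS x⟩) : S × S) ∈ gr (F.le_of_mem hφ).1 (F.le_of_mem hφ).2 :=
      (mem_gr _ _ _).mpr ⟨x, rfl, rfl⟩
    exact congrArg Subtype.val (ht _ hk)
  obtain ⟨ψ, hψ, hψφ⟩ := F.inv_mem hφ
  have hψr : ψ.range = P' := by
    ext y
    constructor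
    · rintro ⟨⟨_, x, rfl⟩, rfl⟩
      rw [hψφ]; exact x.2
    · intro hy
      exact ⟨⟨φ ⟨y, hy⟩, ⟨⟨y, hy⟩, rfl⟩⟩, hψφ ⟨y, hy⟩⟩
  obtain ⟨χ, hχ, hQN, hCN, hχψ, hχC⟩ := fs_receptive_extend F hQr hψ hψr
  have htC : (t : Ω) ∈ centralizerIn S φ.range := by
    refine ⟨t.2, Subgroup.mem_centralizer_iff.mpr ?_⟩
    rintro _ ⟨x, rfl⟩
    exact (htφ x).symm
  have h1 := hχC ⟨t, htC⟩
  have h2 := h ⟨χ ⟨t, hCN htC⟩, (F.le_of_mem hχ).2 _⟩ h1
  rw [← h2]
  exact (ctx.hπ.apply hχ ⟨t, hCN htC⟩ _ t.2).symm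

end Cfsg.Agent.H9PI
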