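import Mathlib
import Cfsg.Prelude
import Cfsg.Agent.Lib.Helper9.PI7
import Cfsg.Agent.Lib.Helper9.KNorm1
import Cfsg.Agent.Lib.Helper9.DirProd1
import Cfsg.Agent.Lib.Helper9.PPowerIndex1
import Cfsg.Agent.Lib.Helper9.FusionSat1
import Cfsg.Agent.Lib.Helper9.FusionSat2
import Cfsg.Agent.Lib.Helper9.FusionSat3

set_option autoImplicit false

/-!
# Subsystems of `p`-power index (part 8): the subsystem over the kernel is saturated
-/

namespace Cfsg.Agent.H9PI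

open MulAction Cfsg Cfsg.FusionSystem Cfsg.Agent.Lib.Helper9 Cfsg.Agent.Lib.Helper8.BM
  Cfsg.Agent.Lib.Helper8.CB

universe u v

variable {Ω : Type u} [Group Ω] {S : Subgroup Ω}

theorem conjHom_apply' (P : Subgroup Ω) (g : Ω) (x : P) : conjHom P g x = g * (x : Ω) * g⁻¹ := rfl

theorem mem_conjHom_range (Q : Subgroup Ω) (s y : Ω) : y ∈ (conjHom Q s).range ↔ s⁻¹ * y * s ∈ Q := by
  constructor
  · rintro ⟨x, rfl⟩
    rw [conjHom_apply']
    have : s⁻¹ * (s * (x : Ω) * s⁻¹) * s = x := by group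
    rw [this]; exact x.2
  · intro h
    refine ⟨⟨s⁻¹ * y * s, h⟩, ?_⟩
    rw [conjHom_apply']
    show s * (s⁻¹ * y * s) * s⁻¹ = y
    group

/-- A conjugate under `S` of a fully normalized subgroup is fully normalized. -/
theorem fullyNormalized_conj [Finite S] (F : FusionSystem S) {Q : Subgroup Ω} (hQ : F.IsFullyNormalized Q)
    {s : Ω} (hs : s ∈ S) : F.IsFullyNormalized (conjHom Q s).range := by
  have hQS : Q ≤ S := hQ.1
  have hc : conjHom Q s ∈ F.Hom Q := F.conj_mem hQS hs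
  have hconj : F.IsConj Q (conjHom Q s).range := ⟨_, hc, rfl⟩
  refine ⟨fs_range_le F hc, fun R hR => ?_⟩
  have h1 := hQ.2 R (fs_isConj_trans F hconj hR)
  refine h1.trans ?_
  haveI : Finite (normalizerIn S (conjHom Q s).range) :=
    fs_finite_of_le (inf_le_left : normalizerIn S (conjHom Q s).range ≤ S)
  have hmem : ∀ x : normalizerIn S Q, s * (x : Ω) * s⁻¹ ∈ normalizerIn S (conjHom Q s).range := by
    intro x
    refine ⟨S.mul_mem (S.mul_mem hs x.2.1) (S.inv_mem hs), ?_⟩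
    show s * (x : Ω) * s⁻¹ ∈ Subgroup.normalizer (((conjHom Q s).range : Subgroup Ω) : Set Ω)
    rw [Subgroup.mem_normalizer_iff]
    intro y
    rw [mem_conjHom_range, mem_conjHom_range]
    have h2 := (Subgroup.mem_normalizer_iff.mp x.2.2) (s⁻¹ * y * s)
    have h3 : s⁻¹ * (s * (x : Ω) * s⁻¹ * y * (s * (x : Ω) * s⁻¹)⁻¹) * s =
        (x : Ω) * (s⁻¹ * y * s) * (x : Ω)⁻¹ := by group
    rw [h3]
    exact h2
  apply Nat.card_le_card_of_injective (fun x : normalizerIn S Q =>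
    (⟨s * (x : Ω) * s⁻¹, hmem x⟩ : normalizerIn S (conjHom Q s).range))
  intro x y hxy
  have h4 : s * (x : Ω) * s⁻¹ = s * (y : Ω) * s⁻¹ := congrArg Subtype.val hxy
  apply Subtype.ext
  have h5 : (x : Ω) = s⁻¹ * (s * (x : Ω) * s⁻¹) * s := by group
  rw [h5, h4]
  group

variable {F : FusionSystem S} {p : ℕ} {X : Type u} [Finite X] [MulAction (S × S) X]
  {A : Type v} [CommGroup A] {π : S →* A}

/-- A receptive subgroup of the kernel is receptive in the subsystem. -/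
theorem Ctx.sub_receptive [Finite S] [Fact p.Prime] (hS : IsPGroup p S) (ctx : Ctx F p X π)
    {Q : Subgroup Ω} (hQM : Q ≤ kerSub π) (hQr : F.IsReceptive Q) : ctx.sub.IsReceptive Q := by
  refine ⟨hQM, ?_⟩
  rintro R φ ⟨hφ, hRM, gφ, hgφ1, hgφ⟩ hφr
  subst hφr
  have hRS : R ≤ S := hRM.trans (kerSub_le π)
  have hφS : ∀ x : R, φ x ∈ S := (F.le_of_mem hφ).2
  obtain ⟨ψ, hψ, hψφ⟩ := hQr.2 R φ hφ rfl
  have hNN : extender (kerSub π) R φ ≤ extender S R φ := H9DirProd.extender_mono (kerSub_le π) R φ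
  have hNM : extender (kerSub π) R φ ≤ kerSub π := H9DirProd.extender_le _ R φ
  have hRN : R ≤ extender (kerSub π) R φ :=
    fs_le_extender R φ hRM (fun x => ctx.map_mem_kerSub hφ hRM x)
  have hψ' : ψ.comp (Subgroup.inclusion hNN) ∈ F.Hom (extender (kerSub π) R φ) :=
    fs_restrict_mem F hψ hNN
  obtain ⟨ψ', hψ'def⟩ : ∃ ψ' : extender (kerSub π) R φ →* Ω, ψ' = ψ.comp (Subgroup.inclusion hNN) :=
    ⟨_, rfl⟩
  rw [← hψ'def] at hψ'
  have hψ'φ : ∀ (x : Ω) (hP : x ∈ R) (hN : x ∈ extender (kerSub π) R φ), ψ' ⟨x, hN⟩ = φ ⟨x, hP⟩ := by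
    intro x hP hN
    rw [hψ'def]
    exact hψφ x hP (hNN hN)
  obtain ⟨g, hg⟩ := ctx.real_exists hψ'
  have hgφ' : Real g φ := by
    intro w hw hφw
    have h1 := hg ⟨w, hRN w.2⟩ hw (by rw [hψ'φ w w.2]; exact hφw)
    rw [h1]
    congr 2
    exact hψ'φ w w.2 _
  rcases ctx.tight_or_central hS hQM hQr with ht | ⟨c, hcC, hcπ⟩
  · -- tight
    have hz : ctx.Θ (g * gφ⁻¹) = 1 := by
      apply ht
      rintro ⟨_, r, rfl⟩ hw
      exact hgφ.comm_image hgφ' r (hRS r.2) hw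
    rw [map_mul, map_inv, hgφ1, inv_one, mul_one] at hz
    exact ⟨ψ', ⟨hψ', hNM, g, hz, hg⟩, hψ'φ⟩
  · -- centralized by an element outside the kernel
    have hne : ctx.Θ (leftHom S X c) ≠ 1 := fun h => hcπ (ctx.eq_one_of_Θ_leftHom h)
    obtain ⟨j, hj⟩ := ctx.hcyc (ctx.Θ (leftHom S X c)) (ctx.Θ g)⁻¹ hne
    have hrS : ψ'.range ≤ S := fs_range_le F hψ'
    have hψ'' : (conjHom ψ'.range ((c ^ j : S) : Ω)).comp (ψ'.codRestrict ψ'.range (fun x => ⟨x, rfl⟩)) ∈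
        F.Hom (extender (kerSub π) R φ) := F.comp_mem hψ' (F.conj_mem hrS (c ^ j).2) _
    refine ⟨_, ⟨hψ'', hNM, leftHom S X (c ^ j) * g, ?_, hg.comp (real_conj (c ^ j)) _ hrS⟩, ?_⟩
    · rw [map_mul, map_pow, map_pow, hj, inv_mul_cancel]
    · intro x hP hN
      show ((c ^ j : S) : Ω) * ψ' ⟨x, hN⟩ * ((c ^ j : S) : Ω)⁻¹ = φ ⟨x, hP⟩
      rw [hψ'φ x hP hN]
      have hcj : ((c ^ j : S) : Ω) ∈ Subgroup.centralizer ((φ.range : Subgroup Ω) : Set Ω) := by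
        rw [Subgroup.coe_pow]
        exact Subgroup.pow_mem _ hcC.2 j
      have h1 := (Subgroup.mem_centralizer_iff.mp hcj) (φ ⟨x, hP⟩) ⟨_, rfl⟩
      rw [← h1]
      group

end Cfsg.Agent.H9PI
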