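import Mathlib
import Cfsg.Prelude
import Cfsg.Agent.Lib.Helper9.PI8

set_option autoImplicit false

/-!
# Subsystems of `p`-power index (part 9): fully automized subgroups and saturation of the subsystem over the kernel
-/

namespace Cfsg.Agent.H9PI

open MulAction Cfsg Cfsg.FusionSystem Cfsg.Agent.Lib.Helper9 Cfsg.Agent.Lib.Helper8.BM
  Cfsg.Agent.Lib.Helper8.CB

universe u v

variable {Ω : Type u} [Group Ω] {S : Subgroup Ω}

variable {F : FusionSystem S} {p : ℕ} {X : Type u} [Finite X] [MulAction (S × S) X]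
  {A : Type v} [CommGroup A] {π : S →* A}

/-- `Aut_E(Q)` is normalized by `Aut_F(Q)`. -/
theorem Ctx.sub_aut_conj [Finite S] (ctx : Ctx F p X π) {Q : Subgroup Ω} (hQM : Q ≤ kerSub π)
    {β α : MulAut Q} (hβ : β ∈ F.autGroup Q) (hα : α ∈ ctx.sub.autGroup Q) :
    β * α * β⁻¹ ∈ ctx.sub.autGroup Q := by
  have hQS : Q ≤ S := hQM.trans (kerSub_le π)
  rw [mem_autGroup_iff ctx.sub hQM] at hα ⊢
  obtain ⟨hαF, -, g, hg1, hg⟩ := hα
  have hβF := (mem_autGroup_iff F hQS β).mp hβ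
  obtain ⟨h, hh⟩ := ctx.real_exists hβF
  have hαF' : α ∈ F.autGroup Q := (mem_autGroup_iff F hQS α).mpr hαF
  have hmem : β * α * β⁻¹ ∈ F.autGroup Q :=
    (F.autGroup Q).mul_mem ((F.autGroup Q).mul_mem hβ hαF') ((F.autGroup Q).inv_mem hβ)
  refine ⟨(mem_autGroup_iff F hQS _).mp hmem, hQM, h * g * h⁻¹, ?_,
    (hh.aut_mul hg hQS).aut_mul (hh.aut_inv hQS) hQS⟩
  rw [map_mul, map_mul, map_inv, hg1, mul_one, mul_inv_cancel]

/-- A fully automized, receptive subgroup of the kernel is fully automized in the subsystem. -/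
theorem Ctx.sub_fullyAutomized [Finite S] [Fact p.Prime] (hS : IsPGroup p S) (ctx : Ctx F p X π)
    {Q : Subgroup Ω} (hQM : Q ≤ kerSub π) (hQa : F.IsFullyAutomized p Q) (hQr : F.IsReceptive Q) :
    ctx.sub.IsFullyAutomized p Q := by
  have hQS : Q ≤ S := hQa.1
  haveI : Finite Q := fs_finite_of_le hQS
  haveI : Finite (F.autGroup Q) := inferInstance
  refine ⟨hQM, ?_⟩
  have hT : IsSylIn p (autInducedBy S Q) (F.autGroup Q) :=
    isSylIn_of_sylow (autInducedBy_le_autGroup F hQS) hQa.2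
  have hNB : ctx.sub.autGroup Q ≤ F.autGroup Q :=
    autGroup_le_of_subsystem ctx.sub F ctx.sub_isSubsystemOf hQM (kerSub_le π)
  obtain ⟨β, hβ, hsyl⟩ := hT.exists_conj_inf hNB
  have hnorm : (ctx.sub.autGroup Q).map (MulAut.conj β).toMonoidHom = ctx.sub.autGroup Q := by
    apply le_antisymm
    · rintro _ ⟨α, hα, rfl⟩
      exact ctx.sub_aut_conj hQM hβ hα
    · intro α hα
      refine ⟨β⁻¹ * α * β, ?_, ?_⟩
      · have := ctx.sub_aut_conj hQM ((F.autGroup Q).inv_mem hβ) hα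
        rwa [inv_inv] at this
      · show β * (β⁻¹ * α * β) * β⁻¹ = α
        group
  rw [hnorm] at hsyl
  have heq : autInducedBy S Q ⊓ ctx.sub.autGroup Q = autInducedBy (kerSub π) Q := by
    apply le_antisymm
    · intro α hα
      rw [Subgroup.mem_inf] at hα
      obtain ⟨hαT, hαN⟩ := hα
      rw [mem_autInducedBy_iff] at hαT
      obtain ⟨s, hs, hαs⟩ := hαT
      rw [mem_autGroup_iff ctx.sub hQM] at hαN
      obtain ⟨hαF, -, g, hg1, hg⟩ := hαN
      have hcs : Q.subtype.comp α.toMonoidHom = conjHom Q s := by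
        ext x
        exact hαs x
      have hιs : Real (leftHom S X ⟨s, hs⟩) (Q.subtype.comp α.toMonoidHom) := by
        rw [hcs]
        exact real_conj ⟨s, hs⟩
      rw [mem_autInducedBy_iff]
      rcases ctx.tight_or_central hS hQM hQr with ht | ⟨c, hcC, hcπ⟩
      · have hz : ctx.Θ (leftHom S X ⟨s, hs⟩ * g⁻¹) = 1 := by
          apply ht
          intro w hw
          have h1 := hg.comm_image hιs (α⁻¹ w) (hQS (α⁻¹ w).2) (by
            show ((α (α⁻¹ w) : Q) : Ω) ∈ S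
            rw [MulAut.apply_inv_self]; exact hw)
          have h2 : (⟨(Q.subtype.comp α.toMonoidHom) (α⁻¹ w), by
              show ((α (α⁻¹ w) : Q) : Ω) ∈ S
              rw [MulAut.apply_inv_self]; exact hw⟩ : S) = ⟨w, hw⟩ := by
            apply Subtype.ext
            show ((α (α⁻¹ w) : Q) : Ω) = w
            rw [MulAut.apply_inv_self]
          rw [h2] at h1
          exact h1
        rw [map_mul, map_inv, hg1, inv_one, mul_one] at hz
        have hπs := ctx.eq_one_of_Θ_leftHom hz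
        exact ⟨s, (mem_kerSub π s).mpr ⟨hs, hπs⟩, hαs⟩
      · obtain ⟨j, hj⟩ := ctx.hcyc (π c) (π ⟨s, hs⟩)⁻¹ hcπ
        refine ⟨s * ((c ^ j : S) : Ω), (mem_kerSub π _).mpr ⟨S.mul_mem hs (c ^ j).2, ?_⟩, fun x => ?_⟩
        · have h1 : (⟨s * ((c ^ j : S) : Ω), S.mul_mem hs (c ^ j).2⟩ : S) = ⟨s, hs⟩ * c ^ j := rfl
          rw [h1, map_mul, map_pow, hj, mul_inv_cancel]
        · rw [hαs x]
          have hcj : ((c ^ j : S) : Ω) ∈ Subgroup.centralizer ((Q : Subgroup Ω) : Set Ω) := by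
            rw [Subgroup.coe_pow]
            exact Subgroup.pow_mem _ hcC.2 j
          have h1 := (Subgroup.mem_centralizer_iff.mp hcj) (x : Ω) x.2
          have h2 : s * ((c ^ j : S) : Ω) * (x : Ω) * (s * ((c ^ j : S) : Ω))⁻¹ =
              s * (((c ^ j : S) : Ω) * (x : Ω)) * ((c ^ j : S) : Ω)⁻¹ * s⁻¹ := by group
          rw [h2, ← h1]
          group
    · intro α hα
      rw [mem_autInducedBy_iff] at hα
      obtain ⟨m, hm, hαm⟩ := hα
      rw [Subgroup.mem_inf]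
      refine ⟨?_, ?_⟩
      · rw [mem_autInducedBy_iff]
        exact ⟨m, kerSub_le π hm, hαm⟩
      · rw [mem_autGroup_iff ctx.sub hQM]
        have hcs : Q.subtype.comp α.toMonoidHom = conjHom Q m := by
          ext x
          exact hαm x
        rw [hcs]
        exact ctx.sub.conj_mem hQM hm
  rw [heq] at hsyl
  exact hsyl.exists_sylow

/-- **The subsystem over the kernel is saturated.** -/
theorem Ctx.sub_saturated [Finite S] [Fact p.Prime] (hS : IsPGroup p S) (hF : F.IsSaturated p)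
    (ctx : Ctx F p X π) : ctx.sub.IsSaturated p := by
  intro P hPM
  have hPS : P ≤ S := hPM.trans (kerSub_le π)
  obtain ⟨Q', ⟨ψ, hψ, rfl⟩, hQ'n⟩ := fs_exists_fullyNormalized F hPS
  obtain ⟨s, hs⟩ := ctx.frattini hψ hPM
  obtain ⟨χ, hχ⟩ : ∃ χ : P →* Ω,
      χ = (conjHom ψ.range (s : Ω)).comp (ψ.codRestrict ψ.range (fun x => ⟨x, rfl⟩)) := ⟨_, rfl⟩
  rw [← hχ] at hs
  have hrange : χ.range = (conjHom ψ.range (s : Ω)).range := by
    rw [hχ]
    ext y
    constructor
    · rintro ⟨x, rfl⟩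
      exact ⟨_, rfl⟩
    · rintro ⟨⟨_, x, rfl⟩, rfl⟩
      exact ⟨x, rfl⟩
  have hQn : F.IsFullyNormalized χ.range := by
    rw [hrange]
    exact fullyNormalized_conj F hQ'n s.2
  have hQM : χ.range ≤ kerSub π := by
    rintro _ ⟨x, rfl⟩
    exact (ctx.sub.le_of_mem hs).2 x
  obtain ⟨hfc, hfa⟩ := fs_sylow_axiom p hS F hF hQn
  have hrec := fs_extension_axiom p hS F hF hfc
  exact ⟨χ.range, ⟨χ, hs, rfl⟩, ctx.sub_fullyAutomized hS hQM hfa hrec, ctx.sub_receptive hS hQM hrec⟩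

end Cfsg.Agent.H9PI
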