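import Mathlib
import Cfsg.Prelude.Def_FusionSystem
import Cfsg.Agent.Lib.Helper9.InvTransport1
import Cfsg.Agent.Lib.Helper9.FusionAut

set_option autoImplicit false

/-! The subsystem of the maps of `E` all of whose transports under `Aut_F(T)` lie in `E`. -/

namespace Cfsg.Agent.Lib.Helper9.H9PPI

open Cfsg Cfsg.FusionSystem Cfsg.Agent.Lib.Helper9

variable {Ω : Type*} [Group Ω] {S T : Subgroup Ω}

/-- `χ` is the transport of `φ` along the automorphism `α` of `T`. -/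
def IsTransport (α : MulAut T) {P Q : Subgroup Ω} (φ : P →* Ω) (χ : Q →* Ω) : Prop :=
  ∀ (x : P) (hxT : (x : Ω) ∈ T) (hφx : φ x ∈ T) (hαx : ((α ⟨x, hxT⟩ : T) : Ω) ∈ Q),
    χ ⟨(α ⟨x, hxT⟩ : T), hαx⟩ = ((α ⟨φ x, hφx⟩ : T) : Ω)

/-- The transport of `φ` along `α` is a map of `E`. -/
def TransIn (E : FusionSystem T) (α : MulAut T) (P : Subgroup Ω) (φ : P →* Ω) : Prop :=
  ∃ χ ∈ E.Hom (imgT α P), IsTransport α φ χ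

theorem transIn_conj (E : FusionSystem T) (α : MulAut T) {P : Subgroup Ω} {g : Ω} (hg : g ∈ T) :
    TransIn E α P (conjHom P g) := by
  refine ⟨conjHom (imgT α P) ((α ⟨g, hg⟩ : T) : Ω), E.conj_mem (imgT_le α P) (α ⟨g, hg⟩).2, ?_⟩
  intro x hxT hφx hαx
  show ((α ⟨g, hg⟩ : T) : Ω) * ((α ⟨x, hxT⟩ : T) : Ω) * ((α ⟨g, hg⟩ : T) : Ω)⁻¹ = _
  have h1 : (⟨conjHom P g x, hφx⟩ : T) = ⟨g, hg⟩ * ⟨x, hxT⟩ * (⟨g, hg⟩ : T)⁻¹ := by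
    apply Subtype.ext
    rfl
  rw [h1, map_mul, map_mul, map_inv]
  rfl

theorem transIn_comp (E : FusionSystem T) (α : MulAut T) {P Q : Subgroup Ω} {φ : P →* Ω} {ψ : Q →* Ω}
    (hPT : P ≤ T) (hφT : ∀ x : P, φ x ∈ T) (hψT : ∀ x : Q, ψ x ∈ T)
    (h : ∀ x : P, φ x ∈ Q) (h₁ : TransIn E α P φ) (h₂ : TransIn E α Q ψ) :
    TransIn E α P (ψ.comp (φ.codRestrict Q h)) := by
  obtain ⟨χ₁, hχ₁, H₁⟩ := h₁
  obtain ⟨χ₂, hχ₂, H₂⟩ := h₂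
  have hval : ∀ y : imgT α P, χ₁ y ∈ imgT α Q := by
    rintro ⟨y, hy⟩
    obtain ⟨x, hx, rfl⟩ := (mem_imgT_iff α P y).mp hy
    have := H₁ ⟨x, hx⟩ x.2 (hφT _) hy
    rw [this]
    exact apply_mem_imgT α (h ⟨x, hx⟩)
  refine ⟨χ₂.comp (χ₁.codRestrict _ hval), E.comp_mem hχ₁ hχ₂ hval, ?_⟩
  intro x hxT hφx hαx
  have h1 := H₁ x hxT (hφT x) hαx
  have hmem : ((α ⟨φ x, hφT x⟩ : T) : Ω) ∈ imgT α Q := apply_mem_imgT α (h x)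
  have h2 : χ₁.codRestrict _ hval ⟨(α ⟨x, hxT⟩ : T), hαx⟩ = ⟨(α ⟨φ x, hφT x⟩ : T), hmem⟩ :=
    Subtype.ext h1
  show χ₂ (χ₁.codRestrict _ hval ⟨(α ⟨x, hxT⟩ : T), hαx⟩) = _
  rw [h2]
  exact H₂ ⟨φ x, h x⟩ (hφT x) hφx hmem

theorem transIn_inv (E : FusionSystem T) (α : MulAut T) {P : Subgroup Ω} {φ : P →* Ω}
    (hPT : P ≤ T) (hφT : ∀ x : P, φ x ∈ T) {ψ : φ.range →* Ω}
    (hψ : ∀ x : P, ψ ⟨φ x, ⟨x, rfl⟩⟩ = (x : Ω)) (h₁ : TransIn E α P φ) :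
    TransIn E α φ.range ψ := by
  obtain ⟨χ₁, hχ₁, H₁⟩ := h₁
  obtain ⟨χ', hχ', Hχ'⟩ := E.inv_mem hχ₁
  have hrT : φ.range ≤ T := by
    rintro _ ⟨x, rfl⟩
    exact hφT x
  have heq : χ₁.range = imgT α φ.range := by
    ext z
    constructor
    · rintro ⟨⟨y, hy⟩, rfl⟩
      obtain ⟨x, hx, rfl⟩ := (mem_imgT_iff α P y).mp hy
      have := H₁ ⟨x, hx⟩ x.2 (hφT _) hy
      rw [this]
      exact apply_mem_imgT α (⟨⟨x, hx⟩, rfl⟩ : φ ⟨x, hx⟩ ∈ φ.range)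
    · intro hz
      obtain ⟨w, hw, rfl⟩ := (mem_imgT_iff α φ.range z).mp hz
      obtain ⟨x, hx⟩ := hw
      have hmem : ((α ⟨x, hPT x.2⟩ : T) : Ω) ∈ imgT α P := apply_mem_imgT α x.2
      refine ⟨⟨_, hmem⟩, ?_⟩
      rw [H₁ x (hPT x.2) (hφT x) hmem]
      congr 2
      exact Subtype.ext hx
  obtain ⟨χ'', hχ'', Hχ''⟩ := hom_cast E heq hχ'
  refine ⟨χ'', hχ'', ?_⟩
  rintro ⟨_, x, rfl⟩ hxT hφx hαx
  have hmem : ((α ⟨x, hPT x.2⟩ : T) : Ω) ∈ imgT α P := apply_mem_imgT α x.2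
  have h1 := H₁ x (hPT x.2) (hφT x) hmem
  have hαx' : ((α ⟨φ x, hxT⟩ : T) : Ω) ∈ χ₁.range := by rw [heq]; exact hαx
  rw [Hχ'' _ hαx' hαx]
  have h2 : (⟨((α ⟨φ x, hxT⟩ : T) : Ω), hαx'⟩ : χ₁.range) =
      ⟨χ₁ ⟨(α ⟨x, hPT x.2⟩ : T), hmem⟩, ⟨_, rfl⟩⟩ := Subtype.ext h1.symm
  rw [h2, Hχ']
  have h3 : (⟨ψ ⟨φ x, ⟨x, rfl⟩⟩, hφx⟩ : T) = ⟨x, hPT x.2⟩ := Subtype.ext (hψ x)
  rw [h3]

/-- The subsystem of the maps of `E` whose transports under all elements of `Aut_F(T)` are maps of `E`. -/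
def invSystem (F : FusionSystem S) (E : FusionSystem T) : FusionSystem T where
  Hom P := {φ | φ ∈ E.Hom P ∧ ∀ α ∈ F.autGroup T, TransIn E α P φ}
  le_of_mem h := E.le_of_mem h.1
  injective_of_mem h := E.injective_of_mem h.1
  conj_mem := by
    intro P g hP hg
    exact ⟨E.conj_mem hP hg, fun α _ => transIn_conj E α hg⟩
  comp_mem := by
    rintro P Q φ ψ ⟨hφ, Hφ⟩ ⟨hψ, Hψ⟩ h
    refine ⟨E.comp_mem hφ hψ h, fun α hα => ?_⟩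
    exact transIn_comp E α (E.le_of_mem hφ).1 (E.le_of_mem hφ).2 (E.le_of_mem hψ).2 h (Hφ α hα) (Hψ α hα)
  inv_mem := by
    rintro P φ ⟨hφ, Hφ⟩
    obtain ⟨ψ, hψ, Hψ⟩ := E.inv_mem hφ
    refine ⟨ψ, ⟨hψ, fun α hα => ?_⟩, Hψ⟩
    exact transIn_inv E α (E.le_of_mem hφ).1 (E.le_of_mem hφ).2 Hψ (Hφ α hα)

theorem mem_invSystem_iff (F : FusionSystem S) (E : FusionSystem T) {P : Subgroup Ω} (φ : P →* Ω) :
    φ ∈ (invSystem F E).Hom P ↔ φ ∈ E.Hom P ∧ ∀ α ∈ F.autGroup T, TransIn E α P φ := Iff.rfl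

end Cfsg.Agent.Lib.Helper9.H9PPI
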