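import Mathlib
import Cfsg.Prelude.Def_FusionSystem
import Cfsg.Agent.Lib.Helper9.PPINormal2
import Cfsg.Agent.Lib.Helper9.PPowerIndex1
import Cfsg.Agent.Lib.Helper9.FusionInvariant1
import Cfsg.Agent.Lib.Helper9.FusionTransport

set_option autoImplicit false
set_option maxHeartbeats 1000000

/-! A saturated subsystem of `p`-power index is invariant under `Aut_F(T)`. -/

namespace Cfsg.Agent.Lib.Helper9.H9PPI

open Cfsg Cfsg.FusionSystem Cfsg.Agent.Lib.Helper9

variable {Ω : Type*} [Group Ω] {S T : Subgroup Ω}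

/-- The transport of a `p'`-automorphism of `E` along an element of `Aut_F(T)` is a map of `E`. -/
theorem transIn_of_coprime (p : ℕ) (F : FusionSystem S) (hTS : T ≤ S) (E : FusionSystem T)
    (hEi : E.HasPPowerIndexIn F p) {R : Subgroup Ω} (hRT : R ≤ T) (g : E.autGroup R)
    (hg : Nat.Coprime (orderOf g) p) {α : MulAut T} (hα : α ∈ F.autGroup T) :
    TransIn E α R (R.subtype.comp (g : MulAut R).toMonoidHom) := by
  have hα' := (mem_autGroup_iff F hTS α).mp hα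
  have hρ := fs_restrict_mem F hα' hRT
  obtain ⟨ρ, hρdef⟩ : ∃ ρ : R →* Ω, ρ = (T.subtype.comp α.toMonoidHom).comp (Subgroup.inclusion hRT) := ⟨_, rfl⟩
  rw [← hρdef] at hρ
  have hρx : ∀ x : R, ρ x = ((α ⟨x, hRT x.2⟩ : T) : Ω) := by
    intro x; rw [hρdef]; rfl
  have hrange : ρ.range = imgT α R := by
    ext z
    constructor
    · rintro ⟨x, rfl⟩
      rw [hρx]
      exact apply_mem_imgT α x.2
    · intro hz
      obtain ⟨y, hy, rfl⟩ := (mem_imgT_iff α R z).mp hz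
      exact ⟨⟨y, hy⟩, hρx _⟩
  have hrT : ρ.range ≤ T := by rw [hrange]; exact imgT_le α R
  have hgF : (g : MulAut R) ∈ F.autGroup R := autGroup_le_of_subsystem E F hEi.1 hRT hTS g.2
  have hg'F := congr_mem_autGroup F hρ (g : MulAut R) hgF
  have hord : orderOf (⟨MulAut.congr (fsEquiv F hρ) (g : MulAut R), hg'F⟩ : F.autGroup ρ.range) = orderOf g := by
    rw [Subgroup.orderOf_mk, MulEquiv.orderOf_eq, Subgroup.orderOf_coe]
  have hmem : (⟨MulAut.congr (fsEquiv F hρ) (g : MulAut R), hg'F⟩ : F.autGroup ρ.range) ∈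
      pResidual p (F.autGroup ρ.range) :=
    Cfsg.Agent.Lib.Helper6.mem_pResidual_of_coprime' (hord ▸ hg)
  have hg'E : MulAut.congr (fsEquiv F hρ) (g : MulAut R) ∈ E.autGroup ρ.range :=
    hEi.2.2 ρ.range hrT ⟨_, hmem, rfl⟩
  rw [mem_autGroup_iff E hrT] at hg'E
  obtain ⟨χ, hχ, Hχ⟩ := hom_cast E hrange hg'E
  refine ⟨χ, hχ, ?_⟩
  intro x hxT hφx hαx
  have hαx' : ((α ⟨x, hxT⟩ : T) : Ω) ∈ ρ.range := by rw [hrange]; exact hαx
  rw [Hχ _ hαx' hαx]
  show (((MulAut.congr (fsEquiv F hρ) (g : MulAut R)) ⟨((α ⟨x, hxT⟩ : T) : Ω), hαx'⟩ : ρ.range) : Ω) = _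
  have h1 : (⟨((α ⟨x, hxT⟩ : T) : Ω), hαx'⟩ : ρ.range) = ⟨ρ x, ⟨x, rfl⟩⟩ := Subtype.ext (hρx x).symm
  rw [h1]
  show ((fsEquiv F hρ ((g : MulAut R) ((fsEquiv F hρ).symm ⟨ρ x, ⟨x, rfl⟩⟩)) : ρ.range) : Ω) = _
  rw [fsEquiv_symm_apply F hρ x ⟨x, rfl⟩, fsEquiv_apply, hρx]
  rfl

/-- A saturated subsystem of `p`-power index is invariant under `Aut_F(T)`. -/
theorem autInv_of_ppowerIndex [Finite S] (p : ℕ) [Fact p.Prime] (hS : IsPGroup p S) (F : FusionSystem S)
    (hTS : T ≤ S) (E : FusionSystem T) (hEs : E.IsSaturated p) (hEi : E.HasPPowerIndexIn F p) :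
    AutInv F E := by
  haveI hTfin : Finite T := Finite.of_injective (Subgroup.inclusion hTS) (Subgroup.inclusion_injective hTS)
  have hTp : IsPGroup p T := hS.to_le hTS
  have key : ∀ (k : ℕ) (P : Subgroup Ω) (φ : P →* Ω), φ ∈ E.Hom P → Nat.card T - Nat.card P = k →
      φ ∈ (invSystem F E).Hom P := by
    refine fs_le_of_autGroup_le p hTp E (invSystem F E) hEs ?_
    intro R hRn _
    have hRT : R ≤ T := hRn.1
    haveI : Finite R := fs_finite_of_le hRT
    haveI : Finite (E.autGroup R) := inferInstance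
    obtain ⟨_, Rs, hRs⟩ := (fs_sylow_axiom p hTp E hEs hRn).2
    have htop := Cfsg.Agent.Lib.Helper6.pResidual_sup_sylow Rs
    have hle : pResidual p (E.autGroup R) ⊔ (Rs : Subgroup (E.autGroup R)) ≤
        ((invSystem F E).autGroup R).subgroupOf (E.autGroup R) := by
      apply sup_le
      · apply Cfsg.Agent.Lib.Helper6.pResidual_le_of_forall
        intro g hg
        rw [Subgroup.mem_subgroupOf, mem_autGroup_iff _ hRT]
        exact ⟨(mem_autGroup_iff E hRT _).mp g.2, fun α hα => transIn_of_coprime p F hTS E hEi hRT g hg hα⟩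
      · rw [hRs]
        intro g hg
        rw [Subgroup.mem_subgroupOf] at hg ⊢
        exact autInducedBy_le_autGroup (invSystem F E) hRT hg
    intro α hα
    have h1 : (⟨α, hα⟩ : E.autGroup R) ∈ (⊤ : Subgroup (E.autGroup R)) := Subgroup.mem_top _
    rw [← htop] at h1
    have h2 := hle h1
    rw [Subgroup.mem_subgroupOf] at h2
    exact h2
  intro P hPT φ hφ α hα
  obtain ⟨χ, hχ, Hχ⟩ := (key _ P φ hφ rfl).2 α hα
  exact ⟨χ, hχ, fun x hφx hαx => Hχ x (hPT x.2) hφx hαx⟩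

end Cfsg.Agent.Lib.Helper9.H9PPI
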