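import Mathlib
import Cfsg.Prelude.Def_FusionSystem
import Cfsg.Agent.Lib.Helper9.FusionRestrict
import Cfsg.Agent.Lib.Helper9.FusionInvariant1
import Cfsg.Agent.Lib.Helper9.FusionStrongly

set_option autoImplicit false

/-! Restriction of automorphisms to an invariant subgroup; the system of the maps with a Frattini factorization. -/

namespace Cfsg.Agent.Lib.Helper9.H9PPI

open Cfsg Cfsg.FusionSystem Cfsg.Agent.Lib.Helper9

variable {Ω : Type*} [Group Ω] {S T : Subgroup Ω}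

theorem exists_isRestrictAut_to [Finite S] (F : FusionSystem S) {A R : Subgroup Ω} (hAR : A ≤ R) (hRS : R ≤ S)
    (hA : ∀ a ∈ F.autGroup R, ∀ x : R, (x : Ω) ∈ A → ((a x : R) : Ω) ∈ A)
    {a : MulAut R} (ha : a ∈ F.autGroup R) :
    ∃ b ∈ F.autGroup A, IsRestrictAut hAR a b := by
  have ha' := (mem_autGroup_iff F hRS a).mp ha
  have hρ := fs_restrict_mem F ha' hAR
  have hval : ∀ y : A, ((R.subtype.comp a.toMonoidHom).comp (Subgroup.inclusion hAR)) y ∈ A :=
    fun y => hA a ha ⟨y, hAR y.2⟩ y.2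
  obtain ⟨b, hb, Hb⟩ := fs_hom_to_aut F hρ hval
  exact ⟨b, hb, fun t => Hb t⟩

/-- Restriction `Aut_F(R) → Aut_F(A)` for a subgroup `A ≤ R` invariant under `Aut_F(R)`. -/
noncomputable def restrictAutTo [Finite S] (F : FusionSystem S) {A R : Subgroup Ω} (hAR : A ≤ R) (hRS : R ≤ S)
    (hA : ∀ a ∈ F.autGroup R, ∀ x : R, (x : Ω) ∈ A → ((a x : R) : Ω) ∈ A) : F.autGroup R →* F.autGroup A :=
  MonoidHom.mk' (fun a => ⟨Classical.choose (exists_isRestrictAut_to F hAR hRS hA a.2),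
      (Classical.choose_spec (exists_isRestrictAut_to F hAR hRS hA a.2)).1⟩) (by
    intro a₁ a₂
    apply Subtype.ext
    have h₁ := (Classical.choose_spec (exists_isRestrictAut_to F hAR hRS hA a₁.2)).2
    have h₂ := (Classical.choose_spec (exists_isRestrictAut_to F hAR hRS hA a₂.2)).2
    have h₁₂ := (Classical.choose_spec (exists_isRestrictAut_to F hAR hRS hA (a₁ * a₂).2)).2
    exact isRestrictAut_unique hAR h₁₂ (isRestrictAut_mul hAR h₁ h₂))

theorem restrictAutTo_spec [Finite S] (F : FusionSystem S) {A R : Subgroup Ω} (hAR : A ≤ R) (hRS : R ≤ S)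
    (hA : ∀ a ∈ F.autGroup R, ∀ x : R, (x : Ω) ∈ A → ((a x : R) : Ω) ∈ A) (a : F.autGroup R) :
    IsRestrictAut hAR (a : MulAut R) ((restrictAutTo F hAR hRS hA a : F.autGroup A) : MulAut A) :=
  (Classical.choose_spec (exists_isRestrictAut_to F hAR hRS hA a.2)).2

/-- Transport of a Frattini factorization along an equality of sources. -/
theorem frattiniFact_cast (F : FusionSystem S) (E : FusionSystem T) {A B : Subgroup Ω} (h : A = B)
    {φ : A →* Ω} {φ' : B →* Ω} (hφ : FrattiniFact F E A φ)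
    (H : ∀ (x : Ω) (hxA : x ∈ A) (hxB : x ∈ B), φ' ⟨x, hxB⟩ = φ ⟨x, hxA⟩) : FrattiniFact F E B φ' := by
  subst h
  have : φ' = φ := by
    ext x
    exact H x x.2 x.2
  rw [this]
  exact hφ

/-- The system of the maps of `F` whose restriction to the part of the source in `T` has a Frattini factorization. -/
def fratSystem [Finite S] (F : FusionSystem S) (E : FusionSystem T) (hT : F.StronglyClosed T) (hinv : AutInv F E)
    (hTn : S ≤ Subgroup.normalizer (T : Set Ω)) : FusionSystem S where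
  Hom P := {φ | φ ∈ F.Hom P ∧ FrattiniFact F E (P ⊓ T) (φ.comp (Subgroup.inclusion inf_le_left))}
  le_of_mem h := F.le_of_mem h.1
  injective_of_mem h := F.injective_of_mem h.1
  conj_mem := by
    intro P g hP hg
    refine ⟨F.conj_mem hP hg, ?_⟩
    have hval : ∀ y : T, conjHom T g y ∈ T := by
      intro y
      exact (Subgroup.mem_normalizer_iff.mp (hTn hg) y).mp y.2
    obtain ⟨α, hα, Hα⟩ := fs_hom_to_aut F (F.conj_mem hT.1 hg) hval
    refine ⟨α, hα, (P ⊓ T).subtype, fs_subtype_mem E inf_le_right, ?_⟩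
    intro x hx
    rw [Hα]
    rfl
  comp_mem := by
    rintro P Q φ ψ ⟨hφ, Hφ⟩ ⟨hψ, Hψ⟩ h
    refine ⟨F.comp_mem hφ hψ h, ?_⟩
    have h1 : ∀ x : ↥(P ⊓ T), (φ.comp (Subgroup.inclusion inf_le_left)) x ∈ Q ⊓ T := by
      intro x
      exact ⟨h _, fs_stronglyClosed_mem F hT hφ _ x.2.2⟩
    have h2 := frattiniFact_comp F E hinv h1 Hφ Hψ
    have h3 : (ψ.comp (Subgroup.inclusion inf_le_left)).comp
        ((φ.comp (Subgroup.inclusion inf_le_left)).codRestrict (Q ⊓ T) h1) =
        (ψ.comp (φ.codRestrict Q h)).comp (Subgroup.inclusion inf_le_left) := by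
      ext x
      rfl
    rw [← h3]
    exact h2
  inv_mem := by
    rintro P φ ⟨hφ, Hφ⟩
    obtain ⟨ψ, hψ, Hψ⟩ := F.inv_mem hφ
    refine ⟨ψ, ⟨hψ, ?_⟩, Hψ⟩
    have hle : (φ.comp (Subgroup.inclusion (inf_le_left : P ⊓ T ≤ P))).range ≤ φ.range := by
      rintro _ ⟨x, rfl⟩
      exact ⟨_, rfl⟩
    have h1 : FrattiniFact F E (φ.comp (Subgroup.inclusion (inf_le_left : P ⊓ T ≤ P))).range
        (ψ.comp (Subgroup.inclusion hle)) := by
      apply frattiniFact_inv F E hinv Hφ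
      intro x
      exact Hψ _
    have heq : (φ.comp (Subgroup.inclusion (inf_le_left : P ⊓ T ≤ P))).range = φ.range ⊓ T := by
      ext z
      constructor
      · rintro ⟨x, rfl⟩
        exact ⟨⟨_, rfl⟩, fs_stronglyClosed_mem F hT hφ _ x.2.2⟩
      · rintro ⟨⟨x, rfl⟩, hzT⟩
        have hx : (x : Ω) ∈ T := by
          have := fs_stronglyClosed_mem F hT hψ ⟨φ x, ⟨x, rfl⟩⟩ hzT
          rwa [Hψ] at this
        exact ⟨⟨x, x.2, hx⟩, rfl⟩
    exact frattiniFact_cast F E heq h1 (fun _ _ _ => rfl)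

end Cfsg.Agent.Lib.Helper9.H9PPI
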