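import Mathlib
import Cfsg.Prelude.Def_FusionSystem
import Cfsg.Agent.Lib.Helper9.PPINormal1
import Cfsg.Agent.Lib.Helper9.PPINormal3
import Cfsg.Agent.Lib.Helper9.PPINormal4

set_option autoImplicit false
set_option maxHeartbeats 1000000

/-! A saturated subsystem of `p`-power index over a normal subgroup is invariant. -/

namespace Cfsg.Agent.Lib.Helper9.H9PPI

open Cfsg Cfsg.FusionSystem Cfsg.Agent.Lib.Helper9

variable {Ω : Type*} [Group Ω] {S T : Subgroup Ω}

theorem frattini_of_ppowerIndex [Finite S] (p : ℕ) [Fact p.Prime] (hS : IsPGroup p S) (F : FusionSystem S)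
    (hF : F.IsSaturated p) (hTS : T ≤ S) (hTn : S ≤ Subgroup.normalizer (T : Set Ω))
    (hsc : F.StronglyClosed T) (E : FusionSystem T) (hinv : AutInv F E)
    (hEi : E.HasPPowerIndexIn F p) :
    ∀ (P : Subgroup Ω), P ≤ T → ∀ (φ : P →* Ω), φ ∈ F.Hom P → FrattiniFact F E P φ := by
  have key : ∀ (k : ℕ) (P : Subgroup Ω) (φ : P →* Ω), φ ∈ F.Hom P → Nat.card S - Nat.card P = k →
      φ ∈ (fratSystem F E hsc hinv hTn).Hom P := by
    refine fs_le_of_autGroup_le p hS F (fratSystem F E hsc hinv hTn) hF ?_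
    intro R hRn _
    have hRS := hRn.1
    intro a ha
    obtain ⟨β, hβ, s, hs, γ, Hγ, haβγ⟩ := fs_aut_decomp p hS F hF hRn ⟨a, ha⟩
    have h1 : a = (β : MulAut R) * (γ : MulAut R) := by
      have := congrArg (fun a : F.autGroup R => (a : MulAut R)) haβγ
      simpa using this
    rw [h1]
    apply Subgroup.mul_mem
    · -- the residual part
      rw [mem_autGroup_iff _ hRS]
      refine ⟨(mem_autGroup_iff F hRS _).mp β.2, ?_⟩
      apply frattiniFact_of_mem
      have hA : ∀ a ∈ F.autGroup R, ∀ x : R, (x : Ω) ∈ R ⊓ T → ((a x : R) : Ω) ∈ R ⊓ T := by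
        intro a ha x hx
        refine ⟨(a x).2, ?_⟩
        exact fs_stronglyClosed_mem F hsc ((mem_autGroup_iff F hRS a).mp ha) x hx.2
      have hres := Cfsg.Agent.Lib.Helper6.pResidual_map_le p (restrictAutTo F (inf_le_left : R ⊓ T ≤ R) hRS hA)
        ⟨β, hβ, rfl⟩
      have hE := hEi.2.2 (R ⊓ T) inf_le_right ⟨_, hres, rfl⟩
      rw [mem_autGroup_iff E inf_le_right] at hE
      have heq : (R ⊓ T).subtype.comp
          (((restrictAutTo F (inf_le_left : R ⊓ T ≤ R) hRS hA β : F.autGroup (R ⊓ T)) : MulAut ↥(R ⊓ T))).toMonoidHom =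
          (R.subtype.comp (β : MulAut R).toMonoidHom).comp (Subgroup.inclusion inf_le_left) := by
        ext x
        exact restrictAutTo_spec F (inf_le_left : R ⊓ T ≤ R) hRS hA β x
      rw [← heq]
      exact hE
    · apply autInducedBy_le_autGroup (fratSystem F E hsc hinv hTn) hRS
      rw [mem_autInducedBy_iff]
      exact ⟨s, hs, Hγ⟩
  intro P hPT φ hφ
  have h1 := (key _ P φ hφ rfl).2
  have heq : P ⊓ T = P := inf_eq_left.mpr hPT
  exact frattiniFact_cast F E heq h1 (fun _ _ _ => rfl)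

/-- A saturated subsystem of `p`-power index over a subgroup normal in `S` is invariant. -/
theorem invariant_of_ppowerIndex [Finite S] (p : ℕ) [Fact p.Prime] (hS : IsPGroup p S) (F : FusionSystem S)
    (hF : F.IsSaturated p) (hTS : T ≤ S) (hTn : S ≤ Subgroup.normalizer (T : Set Ω))
    (hT : F.hyperfocalSubgroup p ≤ T) (E : FusionSystem T) (hEs : E.IsSaturated p)
    (hEi : E.HasPPowerIndexIn F p) : E.IsInvariantIn F := by
  have hsc := stronglyClosed_of_hyperfocal_le p hS F hF T hTS hTn hT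
  have hinv := autInv_of_ppowerIndex p hS F hTS E hEs hEi
  exact ⟨hEi.1, hsc, hinv, frattini_of_ppowerIndex p hS F hF hTS hTn hsc E hinv hEi⟩

end Cfsg.Agent.Lib.Helper9.H9PPI
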