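import Mathlib

set_option autoImplicit false

/-! A relative stability lemma: a `p'`-automorphism of a `p`-group acting trivially on the factors of a chain `P ≥ M ≥ L`
acts trivially on `P/L`. -/

namespace Cfsg.Agent.Lib.Helper9.H9ResLim

theorem quot_mem_of_rel_chain {P : Type*} [Group P] (p : ℕ) [Fact p.Prime] (hP : IsPGroup p P)
    (α : MulAut P) (hα : Nat.Coprime (orderOf α) p) (M L : Subgroup P) [L.Normal] (hLM : L ≤ M)
    (h1 : ∀ x : P, x⁻¹ * α x ∈ M) (h2 : ∀ z ∈ M, z⁻¹ * α z ∈ L) : ∀ x : P, x⁻¹ * α x ∈ L := by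
  have hπα : ∀ u v : P, (QuotientGroup.mk' L) u = (QuotientGroup.mk' L) v →
      (QuotientGroup.mk' L) (α u) = (QuotientGroup.mk' L) (α v) := by
    intro u v huv
    have h3 : u⁻¹ * v ∈ L := QuotientGroup.eq.mp huv
    apply QuotientGroup.eq.mpr
    have h4 : (α u)⁻¹ * α v = (u⁻¹ * v) * ((u⁻¹ * v)⁻¹ * α (u⁻¹ * v)) := by
      rw [map_mul, map_inv]; group
    rw [h4]
    exact L.mul_mem h3 (h2 _ (hLM h3))
  intro x
  obtain ⟨c, hc⟩ : ∃ c : P, c = x⁻¹ * α x := ⟨_, rfl⟩
  rw [← hc]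
  have hcM : c ∈ M := by rw [hc]; exact h1 x
  have hαx : α x = x * c := by rw [hc]; group
  have hπc : (QuotientGroup.mk' L) (α c) = (QuotientGroup.mk' L) c := by
    symm
    apply QuotientGroup.eq.mpr
    exact h2 c hcM
  have key : ∀ n : ℕ, (QuotientGroup.mk' L) ((α ^ n) x) =
      (QuotientGroup.mk' L) x * ((QuotientGroup.mk' L) c) ^ n := by
    intro n
    induction n with
    | zero => simp
    | succ n ih =>
      rw [pow_succ', MulAut.mul_apply]
      have h3 : (QuotientGroup.mk' L) ((α ^ n) x) = (QuotientGroup.mk' L) (x * c ^ n) := by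
        rw [ih, map_mul, map_pow]
      rw [hπα _ _ h3, map_mul, map_pow, map_mul, map_pow, hπc, hαx, map_mul, pow_succ', mul_assoc]
  have h5 := key (orderOf α)
  rw [pow_orderOf_eq_one, MulAut.one_apply] at h5
  have h6 : ((QuotientGroup.mk' L) c) ^ orderOf α = 1 := by
    have := congrArg (fun t => ((QuotientGroup.mk' L) x)⁻¹ * t) h5
    simpa using this.symm
  obtain ⟨k, hk⟩ := hP c
  have h7 : ((QuotientGroup.mk' L) c) ^ p ^ k = 1 := by
    rw [← map_pow, hk, map_one]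
  have h8 : orderOf ((QuotientGroup.mk' L) c) ∣ orderOf α := orderOf_dvd_of_pow_eq_one h6
  have h9 : orderOf ((QuotientGroup.mk' L) c) ∣ p ^ k := orderOf_dvd_of_pow_eq_one h7
  have h10 : orderOf ((QuotientGroup.mk' L) c) = 1 :=
    Nat.eq_one_of_dvd_coprimes (Nat.Coprime.pow_right k hα) h8 h9
  rw [orderOf_eq_one_iff] at h10
  exact (QuotientGroup.eq_one_iff c).mp h10

end Cfsg.Agent.Lib.Helper9.H9ResLim
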