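import Mathlib
import Cfsg.Prelude.Def_FusionSystem
import Cfsg.Agent.Lib.Helper9.ResLim1
import Cfsg.Agent.Lib.Helper9.PPINormal5

set_option autoImplicit false
set_option maxHeartbeats 1000000

/-! The hyperfocal subgroup is generated by the contributions of the subgroups of any subgroup `T ⊴ S` containing it. -/

namespace Cfsg.Agent.Lib.Helper9.H9ResLim

open Cfsg Cfsg.FusionSystem Cfsg.Agent.Lib.Helper9 Cfsg.Agent.Lib.Helper9.H9PPI

variable {Ω : Type*} [Group Ω] {S : Subgroup Ω}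

/-- The part of the hyperfocal subgroup generated by the subgroups of `T`. -/
def hyperfocalOn (F : FusionSystem S) (p : ℕ) (T : Subgroup Ω) : Subgroup Ω :=
  Subgroup.closure {y : Ω | ∃ (P : Subgroup Ω) (α : F.autGroup P) (x : P), P ≤ T ∧
    α ∈ pResidual p (F.autGroup P) ∧ y = (x : Ω)⁻¹ * ((α : MulAut P) x : P)}

theorem hyperfocalOn_le (F : FusionSystem S) (p : ℕ) (T : Subgroup Ω) : hyperfocalOn F p T ≤ T := by
  unfold hyperfocalOn
  rw [Subgroup.closure_le]
  rintro _ ⟨P, α, x, hPT, -, rfl⟩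
  exact T.mul_mem (T.inv_mem (hPT x.2)) (hPT ((α : MulAut P) x).2)

theorem hyperfocalOn_normalized (F : FusionSystem S) (p : ℕ) (T : Subgroup Ω) (hTS : T ≤ S)
    (hTn : S ≤ Subgroup.normalizer (T : Set Ω)) :
    S ≤ Subgroup.normalizer (hyperfocalOn F p T : Set Ω) := by
  have key : ∀ s ∈ S, ∀ y ∈ hyperfocalOn F p T, s * y * s⁻¹ ∈ hyperfocalOn F p T := by
    intro s hs y hy
    unfold hyperfocalOn at hy ⊢
    induction hy using Subgroup.closure_induction with
    | mem y hy =>
      obtain ⟨P, α, x, hPT, hα, rfl⟩ := hy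
      apply Subgroup.subset_closure
      have hPS : P ≤ S := hPT.trans hTS
      have hφ : conjHom P s ∈ F.Hom P := F.conj_mem hPS hs
      have hα' := congr_mem_autGroup F hφ (α : MulAut P) α.2
      let f : F.autGroup P →* F.autGroup (conjHom P s).range :=
        ((MulAut.congr (fsEquiv F hφ)).toMonoidHom.comp (F.autGroup P).subtype).codRestrict
          (F.autGroup (conjHom P s).range) (fun a => congr_mem_autGroup F hφ (a : MulAut P) a.2)
      have hfα : f α ∈ pResidual p (F.autGroup (conjHom P s).range) :=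
        Cfsg.Agent.Lib.Helper6.pResidual_map_le p f ⟨α, hα, rfl⟩
      have hrT : (conjHom P s).range ≤ T := by
        rintro _ ⟨z, rfl⟩
        exact (Subgroup.mem_normalizer_iff.mp (hTn hs) z).mp (hPT z.2)
      refine ⟨(conjHom P s).range, f α, fsEquiv F hφ x, hrT, hfα, ?_⟩
      have h1 : (((f α : F.autGroup (conjHom P s).range) : MulAut (conjHom P s).range)
          (fsEquiv F hφ x)) = fsEquiv F hφ ((α : MulAut P) x) := by
        show (fsEquiv F hφ) ((α : MulAut P) ((fsEquiv F hφ).symm (fsEquiv F hφ x))) = _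
        rw [MulEquiv.symm_apply_apply]
      rw [h1, fsEquiv_apply, fsEquiv_apply]
      show s * ((x : Ω)⁻¹ * (((α : MulAut P) x : P) : Ω)) * s⁻¹
        = (s * (x : Ω) * s⁻¹)⁻¹ * (s * (((α : MulAut P) x : P) : Ω) * s⁻¹)
      group
    | one => simp
    | mul a b _ _ ha hb =>
      have : s * (a * b) * s⁻¹ = (s * a * s⁻¹) * (s * b * s⁻¹) := by group
      rw [this]; exact Subgroup.mul_mem _ ha hb
    | inv a _ ha =>
      have : s * a⁻¹ * s⁻¹ = (s * a * s⁻¹)⁻¹ := by group
      rw [this]; exact Subgroup.inv_mem _ ha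
  intro s hs
  rw [Subgroup.mem_normalizer_iff]
  intro y
  refine ⟨key s hs y, fun hy => ?_⟩
  have h1 := key s⁻¹ (S.inv_mem hs) _ hy
  have h2 : s⁻¹ * (s * y * s⁻¹) * s⁻¹⁻¹ = y := by group
  rwa [h2] at h1

/-- The automorphisms all of whose quotients `x⁻¹ α(x)` lie in a given subgroup. -/
def quotStab {P : Subgroup Ω} (A : Subgroup (MulAut P)) (H : Subgroup Ω) : Subgroup A where
  carrier := {α | ∀ x : P, (x : Ω)⁻¹ * (((α : MulAut P) x : P) : Ω) ∈ H}
  one_mem' := by
    intro x
    simp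
  mul_mem' := by
    intro a b ha hb x
    have h1 : (x : Ω)⁻¹ * ((((a * b : A) : MulAut P) x : P) : Ω) =
        ((x : Ω)⁻¹ * (((b : MulAut P) x : P) : Ω)) *
          ((((b : MulAut P) x : P) : Ω)⁻¹ * (((a : MulAut P) ((b : MulAut P) x) : P) : Ω)) := by
      rw [Subgroup.coe_mul, MulAut.mul_apply]; group
    rw [h1]
    exact H.mul_mem (hb x) (ha _)
  inv_mem' := by
    intro a ha x
    have h1 := ha ((a : MulAut P)⁻¹ x)
    rw [MulAut.apply_inv_self] at h1
    have h2 : (x : Ω)⁻¹ * ((((a⁻¹ : A) : MulAut P) x : P) : Ω) =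
        (((((a : MulAut P)⁻¹ x : P) : Ω))⁻¹ * (x : Ω))⁻¹ := by
      rw [Subgroup.coe_inv]; group
    rw [h2]
    exact H.inv_mem h1

theorem hyperfocal_le_hyperfocalOn [Finite S] (p : ℕ) [Fact p.Prime] (hS : IsPGroup p S)
    (F : FusionSystem S) (hF : F.IsSaturated p) (T : Subgroup Ω) (hTS : T ≤ S)
    (hTn : S ≤ Subgroup.normalizer (T : Set Ω)) (hT : F.hyperfocalSubgroup p ≤ T) :
    F.hyperfocalSubgroup p ≤ hyperfocalOn F p T := by
  have hsc := stronglyClosed_of_hyperfocal_le p hS F hF T hTS hTn hT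
  have hHn := hyperfocalOn_normalized F p T hTS hTn
  conv_lhs => unfold FusionSystem.hyperfocalSubgroup
  rw [Subgroup.closure_le]
  rintro _ ⟨P, α, x, hPS, hα, rfl⟩
  haveI : Finite P := fs_finite_of_le hPS
  have hPp : IsPGroup p P := hS.to_le hPS
  have hle : pResidual p (F.autGroup P) ≤ quotStab (F.autGroup P) (hyperfocalOn F p T) := by
    apply Cfsg.Agent.Lib.Helper6.pResidual_le_of_forall
    intro g hg
    have hgres : g ∈ pResidual p (F.autGroup P) := Cfsg.Agent.Lib.Helper6.mem_pResidual_of_coprime' hg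
    haveI : ((hyperfocalOn F p T).subgroupOf P).Normal :=
      Subgroup.normal_subgroupOf_of_le_normalizer (hPS.trans hHn)
    have hA : ∀ a ∈ F.autGroup P, ∀ x : P, (x : Ω) ∈ P ⊓ T → ((a x : P) : Ω) ∈ P ⊓ T := by
      intro a ha x hx
      refine ⟨(a x).2, ?_⟩
      exact fs_stronglyClosed_mem F hsc ((mem_autGroup_iff F hPS a).mp ha) x hx.2
    have hres := Cfsg.Agent.Lib.Helper6.pResidual_map_le p (restrictAutTo F (inf_le_left : P ⊓ T ≤ P) hPS hA)
      ⟨g, hgres, rfl⟩
    have hord : Nat.Coprime (orderOf (g : MulAut P)) p := by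
      rw [Subgroup.orderOf_coe]; exact hg
    have := quot_mem_of_rel_chain p hPp (g : MulAut P) hord (T.subgroupOf P)
      ((hyperfocalOn F p T).subgroupOf P) (Subgroup.subgroupOf_mono P (hyperfocalOn_le F p T)) ?_ ?_
    · intro x
      have h1 := this x
      rw [Subgroup.mem_subgroupOf] at h1
      exact h1
    · intro x
      rw [Subgroup.mem_subgroupOf]
      exact hT (residual_quot_mem_hyperfocal F p hPS g hgres x)
    · intro z hz
      rw [Subgroup.mem_subgroupOf] at hz ⊢
      apply Subgroup.subset_closure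
      refine ⟨P ⊓ T, restrictAutTo F (inf_le_left : P ⊓ T ≤ P) hPS hA g, ⟨z, z.2, hz⟩, inf_le_right, hres, ?_⟩
      have hspec := restrictAutTo_spec F (inf_le_left : P ⊓ T ≤ P) hPS hA g ⟨z, z.2, hz⟩
      rw [hspec]
      rfl
  exact hle hα x

end Cfsg.Agent.Lib.Helper9.H9ResLim
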