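import Mathlib
import Cfsg.Prelude.Def_FusionComponents
import Cfsg.Agent.Lib.Helper9.ResLim2
import Cfsg.Agent.Lib.Helper9.PPowerIndex1

set_option autoImplicit false
set_option maxHeartbeats 1000000

/-! A subsystem of `p`-power index has the same hyperfocal subgroup and the same `p`-residual subsystem. -/

namespace Cfsg.Agent.Lib.Helper9.H9ResLim

open Cfsg Cfsg.FusionSystem Cfsg.Agent.Lib.Helper9 Cfsg.Agent.Lib.Helper9.H9PPI

variable {Ω : Type*} [Group Ω] {S T : Subgroup Ω}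

theorem residual_le_residual (p : ℕ) (F : FusionSystem S) (E : FusionSystem T)
    (hEi : E.HasPPowerIndexIn F p) {P : Subgroup Ω} (hPT : P ≤ T)
    (α : F.autGroup P) (hα : α ∈ pResidual p (F.autGroup P)) :
    ∃ β : E.autGroup P, β ∈ pResidual p (E.autGroup P) ∧ (β : MulAut P) = (α : MulAut P) := by
  have hle : pResidual p (F.autGroup P) ≤
      ((pResidual p (E.autGroup P)).map (E.autGroup P).subtype).comap (F.autGroup P).subtype := by
    apply Cfsg.Agent.Lib.Helper6.pResidual_le_of_forall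
    intro g hg
    have hgres : g ∈ pResidual p (F.autGroup P) := Cfsg.Agent.Lib.Helper6.mem_pResidual_of_coprime' hg
    have hgE : (g : MulAut P) ∈ E.autGroup P := hEi.2.2 P hPT ⟨g, hgres, rfl⟩
    rw [Subgroup.mem_comap]
    refine ⟨⟨(g : MulAut P), hgE⟩, ?_, rfl⟩
    apply Cfsg.Agent.Lib.Helper6.mem_pResidual_of_coprime'
    rw [Subgroup.orderOf_mk, Subgroup.orderOf_coe]
    exact hg
  obtain ⟨β, hβ, hβα⟩ := hle hα
  exact ⟨β, hβ, hβα⟩

theorem hyperfocal_eq_of_ppowerIndex [Finite S] (p : ℕ) [Fact p.Prime] (hS : IsPGroup p S)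
    (F : FusionSystem S) (hF : F.IsSaturated p) (hTS : T ≤ S)
    (hTn : S ≤ Subgroup.normalizer (T : Set Ω)) (E : FusionSystem T) (hEi : E.HasPPowerIndexIn F p) :
    E.hyperfocalSubgroup p = F.hyperfocalSubgroup p := by
  apply le_antisymm
  · conv_lhs => unfold FusionSystem.hyperfocalSubgroup
    rw [Subgroup.closure_le]
    rintro _ ⟨P, α, x, hPT, hα, rfl⟩
    have hle : E.autGroup P ≤ F.autGroup P := autGroup_le_of_subsystem E F hEi.1 hPT hTS
    have h1 : Subgroup.inclusion hle α ∈ pResidual p (F.autGroup P) :=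
      Cfsg.Agent.Lib.Helper6.pResidual_map_le p (Subgroup.inclusion hle) ⟨α, hα, rfl⟩
    exact residual_quot_mem_hyperfocal F p (hPT.trans hTS) _ h1 x
  · refine le_trans (hyperfocal_le_hyperfocalOn p hS F hF T hTS hTn hEi.2.1) ?_
    unfold hyperfocalOn
    rw [Subgroup.closure_le]
    rintro _ ⟨P, α, x, hPT, hα, rfl⟩
    obtain ⟨β, hβ, hβα⟩ := residual_le_residual p F E hEi hPT α hα
    apply Subgroup.subset_closure
    exact ⟨P, β, x, hPT, hβ, by rw [hβα]⟩

theorem pResidual_sameMaps [Finite S] (p : ℕ) [Fact p.Prime] (hS : IsPGroup p S)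
    (F : FusionSystem S) (hF : F.IsSaturated p) (hTS : T ≤ S)
    (hTn : S ≤ Subgroup.normalizer (T : Set Ω)) (E : FusionSystem T) (hEi : E.HasPPowerIndexIn F p)
    (DE : FusionSystem (E.hyperfocalSubgroup p)) (hDE : E.IsPResidual p DE)
    (DF : FusionSystem (F.hyperfocalSubgroup p)) (hDF : F.IsPResidual p DF) (P : Subgroup Ω) :
    DE.Hom P = DF.Hom P := by
  have heq := hyperfocal_eq_of_ppowerIndex p hS F hF hTS hTn E hEi
  have hHT : E.hyperfocalSubgroup p ≤ T := hyperfocalSubgroup_le E p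
  have h₁ : DE.HasPPowerIndexIn F p := by
    refine ⟨fun P φ h => hEi.1 P (hDE.2.1 P h), heq.ge, ?_⟩
    rintro P hP _ ⟨α, hα, rfl⟩
    obtain ⟨β, hβ, hβα⟩ := residual_le_residual p F E hEi (hP.trans hHT) α hα
    have := hDE.2.2.2 P hP ⟨β, hβ, rfl⟩
    have h2 : (F.autGroup P).subtype α = (E.autGroup P).subtype β := hβα.symm
    rw [h2]
    exact this
  exact ppowerIndex_unique p hS F heq (hHT.trans hTS) DE DF hDE.1 hDF.1 h₁ hDF.2 P

end Cfsg.Agent.Lib.Helper9.H9ResLim
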