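import Mathlib
import Cfsg.Prelude.Def_FusionReduction
import Cfsg.Agent.Lib.Helper9.PPowerIndex1
import Cfsg.Agent.Lib.Helper9.FusionAut2
import Cfsg.Agent.Lib.Helper9.FusionFocal

set_option autoImplicit false
set_option maxHeartbeats 1000000

/-! Residual limits are unique up to equality of the sets of maps. -/

namespace Cfsg.Agent.Lib.Helper9.H9ResLim

open Cfsg Cfsg.FusionSystem Cfsg.Agent.Lib.Helper9

universe u

variable {Ω : Type u} [Group Ω]

/-- Two systems are over the same subgroup and have the same maps. -/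
def SameMaps {S₁ S₂ : Subgroup Ω} (F₁ : FusionSystem S₁) (F₂ : FusionSystem S₂) : Prop :=
  S₁ = S₂ ∧ ∀ P : Subgroup Ω, F₁.Hom P = F₂.Hom P

theorem SameMaps.refl {S : Subgroup Ω} (F : FusionSystem S) : SameMaps F F := ⟨rfl, fun _ => rfl⟩

theorem SameMaps.symm {S₁ S₂ : Subgroup Ω} {F₁ : FusionSystem S₁} {F₂ : FusionSystem S₂}
    (h : SameMaps F₁ F₂) : SameMaps F₂ F₁ := ⟨h.1.symm, fun P => (h.2 P).symm⟩

theorem SameMaps.trans {S₁ S₂ S₃ : Subgroup Ω} {F₁ : FusionSystem S₁} {F₂ : FusionSystem S₂}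
    {F₃ : FusionSystem S₃} (h : SameMaps F₁ F₂) (h' : SameMaps F₂ F₃) : SameMaps F₁ F₃ :=
  ⟨h.1.trans h'.1, fun P => (h.2 P).trans (h'.2 P)⟩

/-- A system which is its own `p`-residual and `p'`-residual. -/
def Stable {S : Subgroup Ω} (F : FusionSystem S) (p : ℕ) : Prop :=
  F.hyperfocalSubgroup p = S ∧ F.IsPPrimeResidual p F

theorem stable_congr {S₁ S₂ : Subgroup Ω} {F₁ : FusionSystem S₁} {F₂ : FusionSystem S₂} {p : ℕ}
    (h : SameMaps F₁ F₂) (h₁ : Stable F₁ p) : Stable F₂ p := by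
  obtain ⟨hS, hH⟩ := h
  subst hS
  have := fs_ext hH
  subst this
  exact h₁

theorem pPrime_unique {S₁ S₂ : Subgroup Ω} {F₁ : FusionSystem S₁} {F₂ : FusionSystem S₂} {p : ℕ}
    (h : SameMaps F₁ F₂) (D₁ : FusionSystem S₁) (D₂ : FusionSystem S₂)
    (h₁ : F₁.IsPPrimeResidual p D₁) (h₂ : F₂.IsPPrimeResidual p D₂) : SameMaps D₁ D₂ := by
  obtain ⟨hS, hH⟩ := h
  subst hS
  have := fs_ext hH
  subst this
  exact ⟨rfl, fun P => Set.Subset.antisymm (h₁.2.2 D₂ h₂.1 h₂.2.1 P) (h₂.2.2 D₁ h₁.1 h₁.2.1 P)⟩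

theorem pRes_unique {S₁ S₂ : Subgroup Ω} [Finite S₁] {p : ℕ} [Fact p.Prime] (hS₁ : IsPGroup p S₁)
    {F₁ : FusionSystem S₁} {F₂ : FusionSystem S₂}
    (h : SameMaps F₁ F₂) (D₁ : FusionSystem (F₁.hyperfocalSubgroup p)) (D₂ : FusionSystem (F₂.hyperfocalSubgroup p))
    (h₁ : F₁.IsPResidual p D₁) (h₂ : F₂.IsPResidual p D₂) : SameMaps D₁ D₂ := by
  obtain ⟨hS, hH⟩ := h
  subst hS
  have := fs_ext hH
  subst this
  exact ⟨rfl, ppowerIndex_unique p hS₁ F₁ rfl (hyperfocalSubgroup_le F₁ p) D₁ D₂ h₁.1 h₂.1 h₁.2 h₂.2⟩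

theorem self_ppowerIndex {S : Subgroup Ω} (F : FusionSystem S) (p : ℕ) : F.HasPPowerIndexIn F p :=
  ⟨fun _ => subset_rfl, hyperfocalSubgroup_le F p, fun P _ => Subgroup.map_subtype_le _⟩

/-- For a stable system the two residual steps do not change the maps. -/
theorem step_of_stable {S : Subgroup Ω} [Finite S] {p : ℕ} [Fact p.Prime] (hS : IsPGroup p S)
    {F : FusionSystem S} (hst : Stable F p) (D D' : FusionSystem (F.hyperfocalSubgroup p))
    (hD : F.IsPResidual p D) (hD' : D.IsPPrimeResidual p D') : SameMaps D' F := by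
  have h1 : SameMaps D F :=
    ⟨hst.1, ppowerIndex_unique p hS F hst.1 (hyperfocalSubgroup_le F p) D F hD.1 hst.2.1 hD.2
      (self_ppowerIndex F p)⟩
  exact pPrime_unique h1 D' F hD' hst.2

theorem finite_of_le' {S T : Subgroup Ω} [Finite S] (h : T ≤ S) : Finite T :=
  Finite.of_injective (Subgroup.inclusion h) (Subgroup.inclusion_injective h)

/-- A residual limit of a stable system has the same maps. -/
theorem resLimit_of_stable : ∀ {T₁ : Subgroup Ω} {E : FusionSystem T₁} {S₁ : Subgroup Ω} {F' : FusionSystem S₁}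
    {p : ℕ}, IsResidualLimitOf E F' p → Fact p.Prime → Finite S₁ → IsPGroup p S₁ → Stable F' p → SameMaps E F' := by
  intro T₁ E S₁ F' p h
  induction h with
  | stable F p h1 h2 =>
    intro _ _ _ _
    exact SameMaps.refl F
  | step F p D D' hD hD' hlim ih =>
    intro hp hfin hS hst
    haveI := hp
    haveI := hfin
    have hle := hyperfocalSubgroup_le F p
    have h1 : SameMaps D' F := step_of_stable hS hst D D' hD hD'
    have h2 : Stable D' p := stable_congr h1.symm hst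
    exact (ih hp (finite_of_le' hle) (hS.to_le hle) h2).trans h1

/-- Residual limits of systems with the same maps have the same maps. -/
theorem resLimit_unique : ∀ {T₁ : Subgroup Ω} {E₁ : FusionSystem T₁} {S₁ : Subgroup Ω} {F₁ : FusionSystem S₁}
    {p : ℕ}, IsResidualLimitOf E₁ F₁ p → Fact p.Prime → Finite S₁ → IsPGroup p S₁ →
    ∀ {T₂ : Subgroup Ω} {E₂ : FusionSystem T₂} {S₂ : Subgroup Ω} {F₂ : FusionSystem S₂},
      IsResidualLimitOf E₂ F₂ p → SameMaps F₁ F₂ → SameMaps E₁ E₂ := by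
  intro T₁ E₁ S₁ F₁ p h
  induction h with
  | stable F p h1 h2 =>
    intro hp hfin hS T₂ E₂ S₂ F₂ h' hsm
    have hst₂ : Stable F₂ p := stable_congr hsm ⟨h1, h2⟩
    have hS₂ : _ = S₂ := hsm.1
    subst hS₂
    exact hsm.trans (resLimit_of_stable h' hp hfin hS hst₂).symm
  | step F p D D' hD hD' hlim ih =>
    intro hp hfin hS T₂ E₂ S₂ F₂ h' hsm
    haveI := hp
    haveI := hfin
    have hle := hyperfocalSubgroup_le F p
    cases h' with
    | stable _ _ h1 h2 =>
      have hst : Stable F p := stable_congr hsm.symm ⟨h1, h2⟩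
      exact (resLimit_of_stable (IsResidualLimitOf.step F p D D' hD hD' hlim) hp hfin hS hst).trans hsm
    | step _ _ D₂ D'₂ hD₂ hD'₂ hlim₂ =>
      have h1 : SameMaps D D₂ := pRes_unique hS hsm D D₂ hD hD₂
      have h2 : SameMaps D' D'₂ := pPrime_unique h1 D' D'₂ hD' hD'₂
      exact ih hp (finite_of_le' hle) (hS.to_le hle) hlim₂ h2

end Cfsg.Agent.Lib.Helper9.H9ResLim
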