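import Mathlib
import Cfsg.Prelude
import Cfsg.Agent.Lib.Helper9.PI9
import Cfsg.Agent.Lib.Helper9.ResLim3
import Cfsg.Agent.Lib.Helper9.ResLim4
import Cfsg.Agent.Lib.Helper8.CB8
import Cfsg.Agent.S5092

set_option autoImplicit false

/-!
# Subsystems of `p`-power index (part 10): existence over every subgroup containing the hyperfocal subgroup
-/

namespace Cfsg.Agent.H9PI

open MulAction Cfsg Cfsg.FusionSystem Cfsg.Agent.Lib.Helper9 Cfsg.Agent.Lib.Helper8.BM
  Cfsg.Agent.Lib.Helper8.CB Cfsg.Agent.Lib.Helper9.H9ResLim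
open scoped commutatorElement

universe u v

/-- In a finite `p`-group a proper subgroup lies in a normal subgroup of index `p`. -/
theorem exists_index_p_normal {Q : Type*} [Group Q] [Finite Q] (p : ℕ) [hp : Fact p.Prime]
    (hQ : IsPGroup p Q) (H : Subgroup Q) (hH : H ≠ ⊤) :
    ∃ K : Subgroup Q, K.index = p ∧ H ≤ K ∧ K.Normal := by
  obtain ⟨N, hN⟩ := IsPGroup.iff_card.1 hQ
  obtain ⟨n, hn⟩ := IsPGroup.iff_card.1 (hQ.to_subgroup H)
  have hnN : n < N := by
    have h1 : Nat.card H < Nat.card Q := by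
      rcases lt_or_eq_of_le (Subgroup.card_le_card_group H) with h | h
      · exact h
      · exact absurd ((Subgroup.card_eq_iff_eq_top H).1 h) hH
    rw [hn, hN] at h1
    exact (Nat.pow_lt_pow_iff_right hp.out.one_lt).1 h1
  have hdvd : p ^ (N - 1) ∣ Nat.card Q := by rw [hN]; exact pow_dvd_pow p (Nat.sub_le N 1)
  obtain ⟨K, hK, hHK⟩ := Sylow.exists_subgroup_card_pow_prime_le p hdvd H hn (by omega)
  have hKidx : K.index = p := by
    have h1 := K.card_mul_index
    rw [hK, hN] at h1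
    have h2 : p ^ N = p ^ (N - 1) * p := by
      rw [← pow_succ]; congr 1; omega
    rw [h2] at h1
    exact Nat.eq_of_mul_eq_mul_left (pow_pos hp.out.pos _) h1
  refine ⟨K, hKidx, hHK, ?_⟩
  apply Subgroup.normal_of_index_eq_minFac_card
  have hN0 : N ≠ 0 := by omega
  rw [hKidx, hN, Nat.Prime.pow_minFac hp.out hN0]

variable {Ω : Type u} [Group Ω] {S : Subgroup Ω}

theorem kerSub_normalized {A : Type v} [CommGroup A] (π : S →* A) :
    S ≤ Subgroup.normalizer ((kerSub π : Subgroup Ω) : Set Ω) := by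
  have key : ∀ s ∈ S, ∀ x ∈ kerSub π, s * x * s⁻¹ ∈ kerSub π := by
    intro s hs x hx
    obtain ⟨hxS, hπx⟩ := (mem_kerSub π x).mp hx
    refine (mem_kerSub π _).mpr ⟨S.mul_mem (S.mul_mem hs hxS) (S.inv_mem hs), ?_⟩
    have h1 : (⟨s * x * s⁻¹, S.mul_mem (S.mul_mem hs hxS) (S.inv_mem hs)⟩ : S) =
        ⟨s, hs⟩ * ⟨x, hxS⟩ * ⟨s, hs⟩⁻¹ := rfl
    rw [h1, map_mul, map_mul, map_inv, hπx, mul_one, mul_inv_cancel]
  intro s hs
  rw [Subgroup.mem_normalizer_iff]
  intro x
  refine ⟨key s hs x, fun h => ?_⟩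
  have h1 := key s⁻¹ (S.inv_mem hs) _ h
  have h2 : s⁻¹ * (s * x * s⁻¹) * s⁻¹⁻¹ = x := by group
  rwa [h2] at h1

/-- The subsystem of `p`-power index over the kernel of an invariant surjection onto a group of order `p`. -/
theorem exists_kernel_system [Finite S] (p : ℕ) [Fact p.Prime] (hS : IsPGroup p S) (F : FusionSystem S)
    (hF : F.IsSaturated p) {A : Type v} [CommGroup A] (π : S →* A) (hπ : FInv F π)
    (hA : ∀ a : A, a ^ p = 1) (hsurj : Function.Surjective π)
    (hcyc : ∀ a b : A, a ≠ 1 → ∃ j : ℕ, a ^ j = b) :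
    ∃ E : FusionSystem (kerSub π), E.IsSaturated p ∧ E.HasPPowerIndexIn F p := by
  obtain ⟨X, hXfin, hXact, hstab, hst, hcard⟩ := exists_char_biset p hS F hF
  have ctx : Ctx F p X π := ⟨hstab, hst, hcard, hπ, hA, hsurj, hcyc⟩
  exact ⟨ctx.sub, ctx.sub_saturated hS hF, ctx.sub_ppowerIndex⟩

/-- One step down: a proper subgroup containing the hyperfocal subgroup lies in a proper subgroup carrying a
saturated subsystem of `p`-power index. -/
theorem exists_step [Finite S] (p : ℕ) [hp : Fact p.Prime] (hS : IsPGroup p S) (F : FusionSystem S)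
    (hF : F.IsSaturated p) {T : Subgroup Ω} (hTS : T ≤ S) (hT : F.hyperfocalSubgroup p ≤ T) (hne : T ≠ S) :
    ∃ (M : Subgroup Ω) (E : FusionSystem M), T ≤ M ∧ M ≤ S ∧
      S ≤ Subgroup.normalizer ((M : Subgroup Ω) : Set Ω) ∧ Nat.card M < Nat.card S ∧
      E.IsSaturated p ∧ E.HasPPowerIndexIn F p := by
  have hH : T.subgroupOf S ≠ ⊤ := by
    intro h
    apply hne
    apply le_antisymm hTS
    intro x hx
    have : (⟨x, hx⟩ : S) ∈ T.subgroupOf S := by rw [h]; exact Subgroup.mem_top _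
    exact this
  obtain ⟨K, hKidx, hHK, hKn⟩ := exists_index_p_normal p hS (T.subgroupOf S) hH
  have hcardA : Nat.card (S ⧸ K) = p := hKidx
  haveI : IsCyclic (S ⧸ K) := isCyclic_of_prime_card hcardA
  letI : CommGroup (S ⧸ K) := IsCyclic.commGroup
  have hTK : ∀ x (hx : x ∈ T), (⟨x, hTS hx⟩ : S) ∈ K := fun x hx => hHK (Subgroup.mem_subgroupOf.mpr hx)
  have hcomm : ∀ a b : S, ⁅a, b⁆ ∈ K := by
    intro a b
    rw [← QuotientGroup.eq_one_iff]
    have : ((⁅a, b⁆ : S) : S ⧸ K) = ⁅(a : S ⧸ K), (b : S ⧸ K)⁆ := rfl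
    rw [this, commutatorElement_eq_one_iff_commute]
    exact Commute.all _ _
  have hfoc : F.focalSubgroup ≤ K.map S.subtype := by
    rw [Cfsg.Agent.S5092.result p hS F hF]
    apply sup_le
    · intro x hx
      exact ⟨⟨x, hTS (hT hx)⟩, hTK x (hT hx), rfl⟩
    · rw [Subgroup.commutator_le]
      intro a ha b hb
      exact ⟨⁅(⟨a, ha⟩ : S), ⟨b, hb⟩⁆, hcomm _ _, rfl⟩
  have hπ : FInv F (QuotientGroup.mk' K) := by
    intro P φ hφ a
    symm
    rw [QuotientGroup.mk'_apply, QuotientGroup.mk'_apply, QuotientGroup.eq]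
    have h1 : (a : Ω)⁻¹ * φ a ∈ F.focalSubgroup := Subgroup.subset_closure ⟨P, φ, a, hφ, rfl⟩
    obtain ⟨k, hk, hkeq⟩ := hfoc h1
    have h2 : k = (⟨a, (F.le_of_mem hφ).1 a.2⟩ : S)⁻¹ * ⟨φ a, (F.le_of_mem hφ).2 a⟩ := Subtype.ext hkeq
    rw [← h2]
    exact hk
  have hA : ∀ a : S ⧸ K, a ^ p = 1 := by
    intro a
    have := pow_card_eq_one' (G := S ⧸ K) (x := a)
    rwa [hcardA] at this
  have hcyc : ∀ a b : S ⧸ K, a ≠ 1 → ∃ j : ℕ, a ^ j = b := by
    intro a b ha
    exact mem_powers_of_prime_card hcardA ha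
  obtain ⟨E, hEs, hEi⟩ := exists_kernel_system p hS F hF (QuotientGroup.mk' K) hπ hA
    (QuotientGroup.mk'_surjective K) hcyc
  refine ⟨kerSub (QuotientGroup.mk' K), E, ?_, kerSub_le _, kerSub_normalized _, ?_, hEs, hEi⟩
  · intro x hx
    refine (mem_kerSub _ x).mpr ⟨hTS hx, ?_⟩
    rw [QuotientGroup.mk'_apply, QuotientGroup.eq_one_iff]
    exact hTK x hx
  · by_contra hge
    have heq : kerSub (QuotientGroup.mk' K) = S :=
      Subgroup.eq_of_le_of_card_ge (kerSub_le _) (not_lt.mp hge)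
    have hall : ∀ a : S ⧸ K, a = 1 := by
      intro a
      obtain ⟨s, rfl⟩ := QuotientGroup.mk'_surjective K a
      have hs : (s : Ω) ∈ kerSub (QuotientGroup.mk' K) := by rw [heq]; exact s.2
      exact ((mem_kerSub _ _).mp hs).2
    have h1 : Nat.card (S ⧸ K) = 1 := by
      haveI : Subsingleton (S ⧸ K) := ⟨fun a b => by rw [hall a, hall b]⟩
      exact Nat.card_unique
    rw [hcardA] at h1
    exact hp.out.one_lt.ne' h1

/-- **Existence of saturated subsystems of `p`-power index.** -/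
theorem exists_ppowerIndex (p : ℕ) [Fact p.Prime] : ∀ n : ℕ, ∀ (S : Subgroup Ω) [Finite S],
    Nat.card S = n → IsPGroup p S → ∀ F : FusionSystem S, F.IsSaturated p → ∀ T : Subgroup Ω, T ≤ S →
    F.hyperfocalSubgroup p ≤ T → ∃ E : FusionSystem T, E.IsSaturated p ∧ E.HasPPowerIndexIn F p := by
  intro n
  induction n using Nat.strong_induction_on with
  | _ n ih =>
    intro S _ hn hS F hF T hTS hT
    by_cases hne : T = S
    · subst hne
      exact ⟨F, hF, self_ppowerIndex F p⟩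
    · obtain ⟨M, E₁, hTM, hMS, hMn, hlt, hE₁s, hE₁i⟩ := exists_step p hS F hF hTS hT hne
      haveI : Finite M := fs_finite_of_le hMS
      have hhyp := hyperfocal_eq_of_ppowerIndex p hS F hF hMS hMn E₁ hE₁i
      obtain ⟨E, hEs, hEi⟩ := ih (Nat.card M) (hn ▸ hlt) M rfl (hS.to_le hMS) E₁ hE₁s T hTM
        (hhyp ▸ hT)
      refine ⟨E, hEs, ?_, hT, ?_⟩
      · exact fun P φ h => hE₁i.1 P (hEi.1 P h)
      · intro P hPT
        rintro _ ⟨α, hα, rfl⟩
        obtain ⟨β, hβ, hβα⟩ := residual_le_residual p F E₁ hE₁i (hPT.trans hTM) α hα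
        have := hEi.2.2 P hPT ⟨β, hβ, rfl⟩
        show (α : MulAut P) ∈ E.autGroup P
        rw [← hβα]
        exact this

end Cfsg.Agent.H9PI
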