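import Mathlib
import Cfsg.Agent.Lib.Helper2.SL2Klein3
import Cfsg.Agent.Lib.Helper2.SL2A5a
import Cfsg.Agent.Lib.Helper5.PSL2Aut7

set_option autoImplicit false
set_option linter.unusedSectionVars false

/-!
# Quaternion subgroups of `SL₂(F)`: a normal form under `GL₂(F)`-conjugation
-/

namespace Cfsg.Agent.Lib.Helper9.PO

open Cfsg.Agent.Lib.Helper2 Cfsg.Agent.Lib.Helper5.PSL2Aut

variable {F : Type*} [Field F]

local notation "SL" => Matrix.SpecialLinearGroup (Fin 2) F

/-- the standard element of order four -/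
abbrev Jm : SL := SL2Four.J

/-- the standard element `(a b; b -a)` -/
def Yab (a b : F) (h : a ^ 2 + b ^ 2 = -1) : SL :=
  mk2 a b b (-a) (by linear_combination -h)

theorem Yab_coe (a b : F) (h : a ^ 2 + b ^ 2 = -1) :
    ((Yab a b h : SL) : Matrix (Fin 2) (Fin 2) F) = !![a, b; b, -a] := rfl

theorem Jm_coe : ((Jm : SL) : Matrix (Fin 2) (Fin 2) F) = !![0, 1; -1, 0] := rfl

/-- an element anticommuting with `J` -/
theorem anti_form {y : SL} (hy : y * Jm = -(Jm * y)) :
    ∃ (a b : F) (h : a ^ 2 + b ^ 2 = -1), y = Yab a b h := by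
  obtain ⟨a, b, c, d, h, rfl⟩ := exists_mk2 y
  have e2 := congrArg (fun m : SL => (m : Matrix (Fin 2) (Fin 2) F)) hy
  simp only [Matrix.SpecialLinearGroup.coe_mul, Matrix.SpecialLinearGroup.coe_neg, mk2_coe,
    Jm_coe] at e2
  have b00 := congrFun (congrFun e2 0) 0
  have b01 := congrFun (congrFun e2 0) 1
  simp only [Matrix.mul_apply, Fin.sum_univ_two, Matrix.neg_apply,
    Matrix.of_apply, Matrix.cons_val_zero, Matrix.cons_val_one, Matrix.cons_val',
    Matrix.empty_val', Matrix.cons_val_fin_one] at b00 b01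
  have k3 : c = b := by linear_combination b00
  have k4 : d = -a := by linear_combination b01
  have hh : a ^ 2 + b ^ 2 = -1 := by
    rw [k3, k4] at h
    linear_combination -h
  refine ⟨a, b, hh, ?_⟩
  unfold Yab
  exact mk2_congr rfl rfl k3 k4

theorem glConj_eq_of_mul_eq (c : GL (Fin 2) F) (x y : SL)
    (h : (c : Matrix (Fin 2) (Fin 2) F) * (x : Matrix (Fin 2) (Fin 2) F) =
      (y : Matrix (Fin 2) (Fin 2) F) * (c : Matrix (Fin 2) (Fin 2) F)) :
    glConj c x = y := by
  apply Subtype.ext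
  rw [glConj_apply, glConjFun_coe, h, Matrix.mul_assoc, ← Units.val_mul, mul_inv_cancel,
    Units.val_one, Matrix.mul_one]

/-- conjugating one standard pair to another inside the centraliser of `J` -/
theorem conj_std (h2 : (2 : F) ≠ 0) (a b a₀ b₀ : F) (h : a ^ 2 + b ^ 2 = -1)
    (h₀ : a₀ ^ 2 + b₀ ^ 2 = -1) :
    ∃ c : GL (Fin 2) F, glConj c Jm = Jm ∧ glConj c (Yab a b h) = Yab a₀ b₀ h₀ := by
  have e : (1 - (a₀ * a + b₀ * b)) * (1 - (a₀ * a + b₀ * b)) -
      (b₀ * a - a₀ * b) * -(b₀ * a - a₀ * b) = 2 * (1 - (a₀ * a + b₀ * b)) := by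
    linear_combination (a₀ ^ 2 + b₀ ^ 2) * h - h₀
  by_cases hd : 1 - (a₀ * a + b₀ * b) = 0
  · -- then `(a₀, b₀) = (-a, -b)`
    have hw1 : b₀ * a - a₀ * b = 0 := by
      have : (b₀ * a - a₀ * b) ^ 2 = 0 := by
        rw [hd] at e
        linear_combination e
      exact (pow_eq_zero_iff two_ne_zero).mp this
    have ha : a₀ = -a := by
      linear_combination a * hd + b * hw1 + a₀ * h
    have hb : b₀ = -b := by
      linear_combination b * hd + (-a) * hw1 + b₀ * h
    subst ha hb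
    refine ⟨Matrix.SpecialLinearGroup.toGL Jm, ?_, ?_⟩
    · apply glConj_eq_of_mul_eq
      rfl
    · apply glConj_eq_of_mul_eq
      rw [Matrix.SpecialLinearGroup.coe_GL_coe_matrix, Jm_coe, Yab_coe, Yab_coe]
      ext i j
      fin_cases i <;> fin_cases j <;> simp [Matrix.mul_apply, Fin.sum_univ_two]
  · have hdet : (!![1 - (a₀ * a + b₀ * b), b₀ * a - a₀ * b;
        -(b₀ * a - a₀ * b), 1 - (a₀ * a + b₀ * b)] : Matrix (Fin 2) (Fin 2) F).det ≠ 0 := by
      rw [Matrix.det_fin_two_of, e]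
      exact mul_ne_zero h2 hd
    refine ⟨Matrix.GeneralLinearGroup.mkOfDetNeZero _ hdet, ?_, ?_⟩
    · apply glConj_eq_of_mul_eq
      show !![1 - (a₀ * a + b₀ * b), b₀ * a - a₀ * b;
        -(b₀ * a - a₀ * b), 1 - (a₀ * a + b₀ * b)] * _ = _ * !![1 - (a₀ * a + b₀ * b),
          b₀ * a - a₀ * b; -(b₀ * a - a₀ * b), 1 - (a₀ * a + b₀ * b)]
      rw [Jm_coe]
      ext i j
      fin_cases i <;> fin_cases j <;> simp [Matrix.mul_apply, Fin.sum_univ_two]
    · apply glConj_eq_of_mul_eq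
      show !![1 - (a₀ * a + b₀ * b), b₀ * a - a₀ * b;
        -(b₀ * a - a₀ * b), 1 - (a₀ * a + b₀ * b)] * _ = _ * !![1 - (a₀ * a + b₀ * b),
          b₀ * a - a₀ * b; -(b₀ * a - a₀ * b), 1 - (a₀ * a + b₀ * b)]
      rw [Yab_coe, Yab_coe]
      ext i j
      fin_cases i <;> fin_cases j <;>
        simp only [Matrix.mul_apply, Fin.sum_univ_two, Matrix.of_apply, Matrix.cons_val_zero,
          Matrix.cons_val_one, Matrix.cons_val', Matrix.empty_val', Matrix.cons_val_fin_one,
          Fin.zero_eta, Fin.mk_one, Fin.isValue]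
      · linear_combination (-a₀) * h + a * h₀
      · linear_combination (-b₀) * h + b * h₀
      · linear_combination (-b₀) * h + b * h₀
      · linear_combination a₀ * h - a * h₀

end Cfsg.Agent.Lib.Helper9.PO
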