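import Mathlib
import Cfsg.Agent.Lib.Helper9.PO1

set_option autoImplicit false
set_option linter.unusedSectionVars false

/-!
# Moving a four-group of `PSL₂(F)` to standard position by an automorphism
-/

namespace Cfsg.Agent.Lib.Helper9.PO

open Cfsg.Agent.Lib.Helper2 Cfsg.Agent.Lib.Helper2.SL2Four Cfsg.Agent.Lib.Helper2.KleinCount
  Cfsg.Agent.Lib.Helper5.PSL2Aut

variable {F : Type*} [Field F] [Fintype F] [DecidableEq F]

local notation "SL" => Matrix.SpecialLinearGroup (Fin 2) F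
local notation "PSL" => Matrix.ProjectiveSpecialLinearGroup (Fin 2) F

/-- normal form of an anticommuting pair -/
theorem normal_form (h2 : (2 : F) ≠ 0) {x y : SL} (hx : x * x = -1)
    (hyx : y * x = -(x * y)) (a₀ b₀ : F) (h₀ : a₀ ^ 2 + b₀ ^ 2 = -1) :
    ∃ c : GL (Fin 2) F, glConj c x = Jm ∧ glConj c y = Yab a₀ b₀ h₀ := by
  obtain ⟨c₁, hc₁⟩ := isConj_iff.1 (isConj_of_sq h2 hx J_sq)
  have hanti : (c₁ * y * c₁⁻¹) * Jm = -(Jm * (c₁ * y * c₁⁻¹)) := by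
    show (c₁ * y * c₁⁻¹) * SL2Four.J = -(SL2Four.J * (c₁ * y * c₁⁻¹))
    rw [← hc₁]
    have e1 : c₁ * y * c₁⁻¹ * (c₁ * x * c₁⁻¹) = c₁ * (y * x) * c₁⁻¹ := by group
    have e2 : c₁ * x * c₁⁻¹ * (c₁ * y * c₁⁻¹) = c₁ * (x * y) * c₁⁻¹ := by group
    rw [e1, e2, hyx, mul_neg, neg_mul]
  obtain ⟨a, b, h, hy₁⟩ := anti_form hanti
  obtain ⟨c₂, hc₂J, hc₂Y⟩ := conj_std h2 a b a₀ b₀ h h₀
  refine ⟨c₂ * Matrix.SpecialLinearGroup.toGL c₁, ?_, ?_⟩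
  · rw [map_mul, MulAut.mul_apply, glConj_toGL, hc₁]
    exact hc₂J
  · rw [map_mul, MulAut.mul_apply, glConj_toGL, hy₁]
    exact hc₂Y

/-- lifts of two distinct commuting involutions anticommute -/
theorem exists_lifts (h2 : (2 : F) ≠ 0) {xb yb : PSL} (hxx : xb * xb = 1) (hyy : yb * yb = 1)
    (hc : xb * yb = yb * xb) (hx1 : xb ≠ 1) (hy1 : yb ≠ 1) (hxy : xb ≠ yb) :
    ∃ x y : SL, x * x = -1 ∧ y * y = -1 ∧ y * x = -(x * y) ∧ pi x = xb ∧ pi y = yb := by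
  obtain ⟨x, hx, rfl⟩ := exists_lift h2 xb (orderOf_of_sq hxx hx1)
  obtain ⟨y, hy, rfl⟩ := exists_lift h2 yb (orderOf_of_sq hyy hy1)
  refine ⟨x, y, hx, hy, ?_, rfl, rfl⟩
  rw [← QuotientGroup.mk_mul, ← QuotientGroup.mk_mul, mk_eq_mk_iff] at hc
  rcases hc with h | h
  · exfalso
    rcases eq_or_eq_inv h2 hx hy (h : Commute y x) with e | e
    · exact hxy (by rw [e])
    · apply hxy
      rw [e, QuotientGroup.mk_inv]
      exact (inv_eq_of_mul_eq_one_left hxx).symm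
  · exact h

/-- two distinct commuting involutions can be moved to the standard ones by an automorphism -/
theorem exists_aut_std_eq (h2 : (2 : F) ≠ 0) {xb yb : PSL} (hxx : xb * xb = 1) (hyy : yb * yb = 1)
    (hc : xb * yb = yb * xb) (hx1 : xb ≠ 1) (hy1 : yb ≠ 1) (hxy : xb ≠ yb)
    (a₀ b₀ : F) (h₀ : a₀ ^ 2 + b₀ ^ 2 = -1) :
    ∃ α : MulAut PSL, α xb = pi (Jm : SL) ∧ α yb = pi (Yab a₀ b₀ h₀) := by
  obtain ⟨x, y, hx, -, hyx, rfl, rfl⟩ := exists_lifts h2 hxx hyy hc hx1 hy1 hxy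
  obtain ⟨c, hcx, hcy⟩ := normal_form h2 hx hyx a₀ b₀ h₀
  refine ⟨quotAut (glConj c), ?_, ?_⟩
  · rw [quotAut_pi, hcx]
  · rw [quotAut_pi, hcy]

/-- a subgroup with two distinct commuting involutions can be moved by an automorphism so as to
contain the standard four-group -/
theorem exists_aut_std (h2 : (2 : F) ≠ 0) (M : Subgroup PSL) {xb yb : PSL} (hxM : xb ∈ M)
    (hyM : yb ∈ M) (hxx : xb * xb = 1) (hyy : yb * yb = 1)
    (hc : xb * yb = yb * xb) (hx1 : xb ≠ 1) (hy1 : yb ≠ 1) (hxy : xb ≠ yb)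
    (a₀ b₀ : F) (h₀ : a₀ ^ 2 + b₀ ^ 2 = -1) :
    ∃ α : MulAut PSL, pi (Jm : SL) ∈ M.map α.toMonoidHom ∧
      pi (Yab a₀ b₀ h₀) ∈ M.map α.toMonoidHom := by
  obtain ⟨α, hJ, hY⟩ := exists_aut_std_eq h2 hxx hyy hc hx1 hy1 hxy a₀ b₀ h₀
  exact ⟨α, ⟨xb, hxM, hJ⟩, ⟨yb, hyM, hY⟩⟩

end Cfsg.Agent.Lib.Helper9.PO
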