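import Mathlib
import Cfsg.Agent.Lib.Helper9.PO2

set_option autoImplicit false
set_option linter.unusedSectionVars false

/-!
# Traces of elements of `SL₂(F)` of small projective order
-/

namespace Cfsg.Agent.Lib.Helper9.PO

open Cfsg.Agent.Lib.Helper2 Cfsg.Agent.Lib.Helper2.SL2Four Cfsg.Agent.Lib.Helper2.SL2A5
  Cfsg.Agent.Lib.Helper5.PSL2Aut

variable {F : Type*} [Field F]

local notation "SL" => Matrix.SpecialLinearGroup (Fin 2) F
local notation "PSL" => Matrix.ProjectiveSpecialLinearGroup (Fin 2) F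

theorem pi_eq_one_iff (g : SL) : pi g = 1 ↔ g = 1 ∨ g = -1 := by
  show (QuotientGroup.mk g : PSL) = 1 ↔ _
  rw [QuotientGroup.eq_one_iff, mem_center_iff']

theorem pi_neg_one : pi (-1 : SL) = 1 := (pi_eq_one_iff _).mpr (Or.inr rfl)

/-- a non-central element is not a scalar matrix -/
theorem pi_eq_one_of_smul (g : SL) (c d : F) (hc : c ≠ 0)
    (h : c • (g : Matrix (Fin 2) (Fin 2) F) = d • (1 : Matrix (Fin 2) (Fin 2) F)) :
    pi g = 1 := by
  obtain ⟨x, y, z, w, hdet, rfl⟩ := exists_mk2 g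
  show (QuotientGroup.mk (mk2 x y z w hdet) : PSL) = 1
  rw [QuotientGroup.eq_one_iff, mem_center_mk2_iff]
  rw [mk2_coe] at h
  have e00 := congrFun (congrFun h 0) 0
  have e01 := congrFun (congrFun h 0) 1
  have e10 := congrFun (congrFun h 1) 0
  have e11 := congrFun (congrFun h 1) 1
  simp only [Matrix.smul_apply, Matrix.of_apply, Matrix.cons_val_zero, Matrix.cons_val_one,
    Matrix.cons_val', Matrix.empty_val', Matrix.cons_val_fin_one, Matrix.one_apply_eq,
    smul_eq_mul, mul_one, Matrix.one_apply_ne, ne_eq, zero_ne_one, one_ne_zero,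
    not_false_eq_true, mul_zero] at e00 e01 e10 e11
  have hy : y = 0 := (mul_eq_zero.mp e01).resolve_left hc
  have hz : z = 0 := (mul_eq_zero.mp e10).resolve_left hc
  have hxw : x = w := by
    have : c * (x - w) = 0 := by linear_combination e00 - e11
    have := (mul_eq_zero.mp this).resolve_left hc
    linear_combination this
  refine ⟨hy, hz, hxw, ?_⟩
  subst hy hz hxw
  have : (x - 1) * (x + 1) = 0 := by linear_combination hdet
  rcases mul_eq_zero.mp this with h1 | h1
  · left; linear_combination h1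
  · right; linear_combination h1

theorem pow_mem_center {g : SL} {n : ℕ} (h : (pi g) ^ n = 1) :
    ((g : Matrix (Fin 2) (Fin 2) F)) ^ n = 1 ∨ ((g : Matrix (Fin 2) (Fin 2) F)) ^ n = -1 := by
  rw [← map_pow, pi_eq_one_iff] at h
  rcases h with h | h
  · left
    rw [← Matrix.SpecialLinearGroup.coe_pow, h, Matrix.SpecialLinearGroup.coe_one]
  · right
    rw [← Matrix.SpecialLinearGroup.coe_pow, h, Matrix.SpecialLinearGroup.coe_neg,
      Matrix.SpecialLinearGroup.coe_one]

/-- projective order two: trace zero -/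
theorem trace_of_sq (g : SL) (h1 : pi g ≠ 1) (h : (pi g) ^ 2 = 1) :
    (g : Matrix (Fin 2) (Fin 2) F).trace = 0 := by
  by_contra ht
  apply h1
  have hs := sq_eq g
  rcases pow_mem_center h with h | h
  · apply pi_eq_one_of_smul g _ 2 ht
    rw [pow_two, hs] at h
    rw [two_smul]
    nth_rewrite 1 [← h]
    abel
  · apply pi_eq_one_of_smul g _ 0 ht
    rw [pow_two, hs] at h
    rw [zero_smul]
    have : (g : Matrix (Fin 2) (Fin 2) F).trace • (g : Matrix (Fin 2) (Fin 2) F) =
        ((g : Matrix (Fin 2) (Fin 2) F).trace • (g : Matrix (Fin 2) (Fin 2) F) - 1) + 1 := by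
      abel
    rw [this, h]
    abel

/-- projective order three: trace `±1` -/
theorem trace_of_cube (g : SL) (h1 : pi g ≠ 1) (h : (pi g) ^ 3 = 1) :
    (g : Matrix (Fin 2) (Fin 2) F).trace = 1 ∨ (g : Matrix (Fin 2) (Fin 2) F).trace = -1 := by
  obtain ⟨t, ht⟩ : ∃ t : F, t = (g : Matrix (Fin 2) (Fin 2) F).trace := ⟨_, rfl⟩
  have hs := sq_eq g
  rw [← ht] at hs ⊢
  have h3 := pow3 hs
  have key : t ^ 2 - 1 = 0 := by
    by_contra hne
    apply h1
    rcases pow_mem_center h with h | h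
    · apply pi_eq_one_of_smul g _ (t + 1) hne
      rw [h3] at h
      have : (t ^ 2 - 1) • (g : Matrix (Fin 2) (Fin 2) F) =
          ((t ^ 2 - 1) • (g : Matrix (Fin 2) (Fin 2) F) - t • 1) + t • 1 := by abel
      rw [this, h]
      module
    · apply pi_eq_one_of_smul g _ (t - 1) hne
      rw [h3] at h
      have : (t ^ 2 - 1) • (g : Matrix (Fin 2) (Fin 2) F) =
          ((t ^ 2 - 1) • (g : Matrix (Fin 2) (Fin 2) F) - t • 1) + t • 1 := by abel
      rw [this, h]
      module
  have : (t - 1) * (t + 1) = 0 := by linear_combination key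
  rcases mul_eq_zero.mp this with h1 | h1
  · left; linear_combination h1
  · right; linear_combination h1

/-- projective order four: the square of the trace is `2` -/
theorem trace_of_fourth (g : SL) (h1 : (pi g) ^ 2 ≠ 1) (h : (pi g) ^ 4 = 1) :
    (g : Matrix (Fin 2) (Fin 2) F).trace ^ 2 = 2 := by
  obtain ⟨t, ht⟩ : ∃ t : F, t = (g : Matrix (Fin 2) (Fin 2) F).trace := ⟨_, rfl⟩
  have hs := sq_eq g
  have hg1 : pi g ≠ 1 := by
    intro h0
    apply h1
    rw [h0, one_pow]
  rw [← ht] at hs ⊢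
  have h4 := pow4 hs
  have key : t ^ 3 - 2 * t = 0 := by
    by_contra hne
    apply hg1
    rcases pow_mem_center h with h | h
    · apply pi_eq_one_of_smul g _ (t ^ 2 - 1 + 1) hne
      rw [h4] at h
      have : (t ^ 3 - 2 * t) • (g : Matrix (Fin 2) (Fin 2) F) =
          ((t ^ 3 - 2 * t) • (g : Matrix (Fin 2) (Fin 2) F) - (t ^ 2 - 1) • 1) +
            (t ^ 2 - 1) • 1 := by abel
      rw [this, h]
      module
    · apply pi_eq_one_of_smul g _ (t ^ 2 - 1 - 1) hne
      rw [h4] at h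
      have : (t ^ 3 - 2 * t) • (g : Matrix (Fin 2) (Fin 2) F) =
          ((t ^ 3 - 2 * t) • (g : Matrix (Fin 2) (Fin 2) F) - (t ^ 2 - 1) • 1) +
            (t ^ 2 - 1) • 1 := by abel
      rw [this, h]
      module
  have : t * (t ^ 2 - 2) = 0 := by linear_combination key
  rcases mul_eq_zero.mp this with h0 | h0
  · exfalso
    apply h1
    have : g * g = -1 := sq_of_trace_zero (by rw [← ht]; exact h0)
    rw [pow_two, ← map_mul, this, pi_neg_one]
  · linear_combination h0

/-- projective order five: the trace is a root of `t² ∓ t - 1` -/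
theorem trace_of_fifth (g : SL) (h1 : pi g ≠ 1) (h : (pi g) ^ 5 = 1) :
    (g : Matrix (Fin 2) (Fin 2) F).trace ^ 2 = (g : Matrix (Fin 2) (Fin 2) F).trace + 1 ∨
      (g : Matrix (Fin 2) (Fin 2) F).trace ^ 2 = -(g : Matrix (Fin 2) (Fin 2) F).trace + 1 := by
  obtain ⟨t, ht⟩ : ∃ t : F, t = (g : Matrix (Fin 2) (Fin 2) F).trace := ⟨_, rfl⟩
  have hs := sq_eq g
  rw [← ht] at hs ⊢
  have h5 := pow5 hs
  have key : t ^ 4 - 3 * t ^ 2 + 1 = 0 := by
    by_contra hne
    apply h1
    rcases pow_mem_center h with h | h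
    · apply pi_eq_one_of_smul g _ (t ^ 3 - 2 * t + 1) hne
      rw [h5] at h
      have : (t ^ 4 - 3 * t ^ 2 + 1) • (g : Matrix (Fin 2) (Fin 2) F) =
          ((t ^ 4 - 3 * t ^ 2 + 1) • (g : Matrix (Fin 2) (Fin 2) F) - (t ^ 3 - 2 * t) • 1) +
            (t ^ 3 - 2 * t) • 1 := by abel
      rw [this, h]
      module
    · apply pi_eq_one_of_smul g _ (t ^ 3 - 2 * t - 1) hne
      rw [h5] at h
      have : (t ^ 4 - 3 * t ^ 2 + 1) • (g : Matrix (Fin 2) (Fin 2) F) =
          ((t ^ 4 - 3 * t ^ 2 + 1) • (g : Matrix (Fin 2) (Fin 2) F) - (t ^ 3 - 2 * t) • 1) +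
            (t ^ 3 - 2 * t) • 1 := by abel
      rw [this, h]
      module
  have : (t ^ 2 - t - 1) * (t ^ 2 + t - 1) = 0 := by linear_combination key
  rcases mul_eq_zero.mp this with h0 | h0
  · left; linear_combination h0
  · right; linear_combination h0

end Cfsg.Agent.Lib.Helper9.PO
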