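import Mathlib
import Cfsg.Agent.Lib.Helper9.PO3
import Cfsg.Agent.Lib.Helper2.PGLsub4

set_option autoImplicit false
set_option linter.unusedSectionVars false

/-!
# Entries from traces: the position of a subgroup containing the standard four-group
-/

namespace Cfsg.Agent.Lib.Helper9.PO

open Cfsg.Agent.Lib.Helper2 Cfsg.Agent.Lib.Helper2.SL2Four Cfsg.Agent.Lib.Helper2.SL2A5
  Cfsg.Agent.Lib.Helper5.PSL2Aut

variable {F : Type*} [Field F]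

local notation "SL" => Matrix.SpecialLinearGroup (Fin 2) F
local notation "PSL" => Matrix.ProjectiveSpecialLinearGroup (Fin 2) F

/-- the entries of a matrix are determined by four traces -/
theorem entries_of_traces (h2 : (2 : F) ≠ 0) (F₁ : Subfield F) (a₀ b₀ : F) (ha₀ : a₀ ∈ F₁)
    (hb₀ : b₀ ∈ F₁) (h₀ : a₀ ^ 2 + b₀ ^ 2 = -1) (s : F) (N : Matrix (Fin 2) (Fin 2) F)
    (hT0 : ∃ t ∈ F₁, N.trace = s * t)
    (hT1 : ∃ t ∈ F₁, (N * !![0, 1; -1, 0]).trace = s * t)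
    (hT2 : ∃ t ∈ F₁, (N * !![a₀, b₀; b₀, -a₀]).trace = s * t)
    (hT3 : ∃ t ∈ F₁, (N * !![0, 1; -1, 0] * !![a₀, b₀; b₀, -a₀]).trace = s * t) :
    ∀ i j, ∃ t ∈ F₁, N i j = s * t := by
  obtain ⟨t₀, ht₀, hT0⟩ := hT0
  obtain ⟨t₁, ht₁, hT1⟩ := hT1
  obtain ⟨t₂, ht₂, hT2⟩ := hT2
  obtain ⟨t₃, ht₃, hT3⟩ := hT3
  obtain ⟨x, hx⟩ : ∃ x, x = N 0 0 := ⟨_, rfl⟩
  obtain ⟨y, hy⟩ : ∃ x, x = N 0 1 := ⟨_, rfl⟩
  obtain ⟨z, hz⟩ : ∃ x, x = N 1 0 := ⟨_, rfl⟩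
  obtain ⟨w, hw⟩ : ∃ x, x = N 1 1 := ⟨_, rfl⟩
  have hN : N = !![x, y; z, w] := by
    rw [hx, hy, hz, hw]
    exact Matrix.eta_fin_two N
  rw [hN] at hT0 hT1 hT2 hT3
  simp only [Matrix.trace_fin_two, Matrix.mul_apply, Fin.sum_univ_two, Matrix.of_apply,
    Matrix.cons_val_zero, Matrix.cons_val_one, Matrix.cons_val', Matrix.empty_val',
    Matrix.cons_val_fin_one] at hT0 hT1 hT2 hT3
  have h2mem : (2 : F) ∈ F₁ := by
    have : (2 : F) = 1 + 1 := by norm_num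
    rw [this]
    exact F₁.add_mem F₁.one_mem F₁.one_mem
  have hi2 : (2 : F)⁻¹ ∈ F₁ := F₁.inv_mem h2mem
  have hu : a₀ * t₂ + b₀ * t₃ ∈ F₁ :=
    F₁.add_mem (F₁.mul_mem ha₀ ht₂) (F₁.mul_mem hb₀ ht₃)
  have hv : b₀ * t₂ - a₀ * t₃ ∈ F₁ :=
    F₁.sub_mem (F₁.mul_mem hb₀ ht₂) (F₁.mul_mem ha₀ ht₃)
  have e2x : 2 * x = s * (t₀ - (a₀ * t₂ + b₀ * t₃)) := by
    linear_combination hT0 - a₀ * hT2 - b₀ * hT3 + (x - w) * h₀
  have e2w : 2 * w = s * (t₀ + (a₀ * t₂ + b₀ * t₃)) := by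
    linear_combination hT0 + a₀ * hT2 + b₀ * hT3 - (x - w) * h₀
  have e2y : 2 * y = s * (-(b₀ * t₂ - a₀ * t₃) - t₁) := by
    linear_combination -hT1 - b₀ * hT2 + a₀ * hT3 + (y + z) * h₀
  have e2z : 2 * z = s * (-(b₀ * t₂ - a₀ * t₃) + t₁) := by
    linear_combination hT1 - b₀ * hT2 + a₀ * hT3 + (y + z) * h₀
  have half : ∀ (e u : F), 2 * e = s * u → e = s * (u * 2⁻¹) := by
    intro e u h
    have : s * (u * 2⁻¹) = (s * u) * 2⁻¹ := by ring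
    rw [this, ← h]
    field_simp
  intro i j
  rw [hN]
  fin_cases i <;> fin_cases j
  · exact ⟨_, F₁.mul_mem (F₁.sub_mem ht₀ hu) hi2, half _ _ e2x⟩
  · exact ⟨_, F₁.mul_mem (F₁.sub_mem (F₁.neg_mem hv) ht₁) hi2, half _ _ e2y⟩
  · exact ⟨_, F₁.mul_mem (F₁.add_mem (F₁.neg_mem hv) ht₁) hi2, half _ _ e2z⟩
  · exact ⟨_, F₁.mul_mem (F₁.add_mem ht₀ hu) hi2, half _ _ e2w⟩

/-- the position lemma: a set of elements of `PSL₂(F)` closed under right multiplication by the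
standard four-group, whose lifts have traces in `s F₁`, has lifts with entries in `s F₁` -/
theorem entries_of_closed (h2 : (2 : F) ≠ 0) (F₁ : Subfield F) (a₀ b₀ : F) (ha₀ : a₀ ∈ F₁)
    (hb₀ : b₀ ∈ F₁) (h₀ : a₀ ^ 2 + b₀ ^ 2 = -1) (s : F) (X : Set PSL)
    (hXJ : ∀ m ∈ X, m * pi (Jm : SL) ∈ X) (hXY : ∀ m ∈ X, m * pi (Yab a₀ b₀ h₀) ∈ X)
    (htr : ∀ m ∈ X, ∀ g : SL, pi g = m →
      ∃ t ∈ F₁, (g : Matrix (Fin 2) (Fin 2) F).trace = s * t)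
    (m : PSL) (hm : m ∈ X) (g : SL) (hg : pi g = m) :
    ∀ i j, ∃ t ∈ F₁, (g : Matrix (Fin 2) (Fin 2) F) i j = s * t := by
  apply entries_of_traces h2 F₁ a₀ b₀ ha₀ hb₀ h₀ s
  · exact htr m hm g hg
  · have := htr _ (hXJ m hm) (g * Jm) (by rw [map_mul, hg])
    rwa [Matrix.SpecialLinearGroup.coe_mul, Jm_coe] at this
  · have := htr _ (hXY m hm) (g * Yab a₀ b₀ h₀) (by rw [map_mul, hg])
    rwa [Matrix.SpecialLinearGroup.coe_mul, Yab_coe] at this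
  · have := htr _ (hXY _ (hXJ m hm)) (g * Jm * Yab a₀ b₀ h₀) (by rw [map_mul, map_mul, hg])
    rwa [Matrix.SpecialLinearGroup.coe_mul, Matrix.SpecialLinearGroup.coe_mul, Jm_coe,
      Yab_coe] at this

/-- a matrix of `SL₂(F)` with entries in a subfield comes from the subfield -/
theorem exists_map_eq (F₁ : Subfield F) (g : SL)
    (h : ∀ i j, (g : Matrix (Fin 2) (Fin 2) F) i j ∈ F₁) :
    ∃ g₁ : Matrix.SpecialLinearGroup (Fin 2) ↥F₁,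
      Matrix.SpecialLinearGroup.map F₁.subtype g₁ = g := by
  have hmap : F₁.subtype.mapMatrix (Matrix.of fun i j => (⟨(g : Matrix (Fin 2) (Fin 2) F) i j,
      h i j⟩ : ↥F₁)) = (g : Matrix (Fin 2) (Fin 2) F) := by
    ext i j
    rfl
  refine ⟨⟨Matrix.of fun i j => ⟨(g : Matrix (Fin 2) (Fin 2) F) i j, h i j⟩, ?_⟩, ?_⟩
  · apply F₁.subtype.injective
    rw [RingHom.map_det, hmap, map_one]
    exact g.2
  · apply Subtype.ext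
    exact hmap

/-- the subfield subgroup -/
noncomputable def KF (F₁ : Subfield F) : Subgroup PSL := (PGLsub.φ₁ F₁.subtype).range

theorem mem_KF (F₁ : Subfield F) (g : SL)
    (h : ∀ i j, (g : Matrix (Fin 2) (Fin 2) F) i j ∈ F₁) : pi g ∈ KF F₁ := by
  obtain ⟨g₁, hg₁⟩ := exists_map_eq F₁ g h
  refine ⟨g₁, ?_⟩
  show pi (Matrix.SpecialLinearGroup.map F₁.subtype g₁) = pi g
  rw [hg₁]

theorem KF_iso (F₁ : Subfield F) :
    Nonempty (KF F₁ ≃* Matrix.ProjectiveSpecialLinearGroup (Fin 2) ↥F₁) :=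
  ⟨(QuotientGroup.quotientKerEquivRange (PGLsub.φ₁ F₁.subtype)).symm.trans
    (QuotientGroup.quotientMulEquivOfEq (PGLsub.ker_φ₁ F₁.subtype))⟩

/-- the position lemma, subgroup form -/
theorem le_KF (h2 : (2 : F) ≠ 0) (F₁ : Subfield F) (a₀ b₀ : F) (ha₀ : a₀ ∈ F₁)
    (hb₀ : b₀ ∈ F₁) (h₀ : a₀ ^ 2 + b₀ ^ 2 = -1) (M : Subgroup PSL)
    (hJ : pi (Jm : SL) ∈ M) (hY : pi (Yab a₀ b₀ h₀) ∈ M)
    (htr : ∀ m ∈ M, ∀ g : SL, pi g = m → (g : Matrix (Fin 2) (Fin 2) F).trace ∈ F₁) :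
    M ≤ KF F₁ := by
  intro m hm
  obtain ⟨g, rfl⟩ := pi_surjective m
  apply mem_KF
  intro i j
  obtain ⟨t, ht, e⟩ := entries_of_closed h2 F₁ a₀ b₀ ha₀ hb₀ h₀ 1 (M : Set PSL)
    (fun m hm => M.mul_mem hm hJ) (fun m hm => M.mul_mem hm hY)
    (fun m hm g hg => ⟨_, htr m hm g hg, (one_mul _).symm⟩) _ hm g rfl i j
  rw [e, one_mul]
  exact ht

end Cfsg.Agent.Lib.Helper9.PO
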