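import Mathlib

set_option autoImplicit false
set_option linter.unusedSectionVars false

/-!
# Small subfields of a finite field: the prime field and a quadratic extension of it
-/

namespace Cfsg.Agent.Lib.Helper9.PO

variable {F : Type*} [Field F] (p : ℕ) [Fact p.Prime] [CharP F p]

/-- the embedding of the prime field -/
noncomputable abbrev iot : ZMod p →+* F := ZMod.castHom (dvd_refl p) F

/-- the prime subfield -/
noncomputable def primeSub : Subfield F := (iot (F := F) p).fieldRange

theorem mem_primeSub (x : F) : x ∈ primeSub (F := F) p ↔ ∃ a : ZMod p, iot p a = x :=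
  RingHom.mem_fieldRange

theorem iot_mem (a : ZMod p) : iot (F := F) p a ∈ primeSub (F := F) p :=
  (mem_primeSub p _).mpr ⟨a, rfl⟩

theorem card_primeSub : Nat.card (primeSub (F := F) p) = p := by
  have h : ((primeSub (F := F) p : Subfield F) : Set F) = Set.range (iot (F := F) p) :=
    RingHom.coe_fieldRange _
  have e : ↥(primeSub (F := F) p) ≃ Set.range (iot (F := F) p) := Equiv.setCongr h
  rw [Nat.card_congr e, Nat.card_range_of_injective (RingHom.injective _), Nat.card_zmod]

variable [Fintype F]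

/-- the subfield generated over the prime field by a root of a monic quadratic -/
noncomputable def quadSub (u v : ZMod p) (φ : F) (hφ : φ ^ 2 = iot p u * φ + iot p v) :
    Subfield F where
  carrier := {x | ∃ a b : ZMod p, x = iot p a + iot p b * φ}
  mul_mem' := by
    rintro _ _ ⟨a, b, rfl⟩ ⟨c, d, rfl⟩
    refine ⟨a * c + b * d * v, a * d + b * c + b * d * u, ?_⟩
    simp only [map_add, map_mul]
    linear_combination (iot p b * iot p d) * hφ
  one_mem' := ⟨1, 0, by simp⟩
  add_mem' := by
    rintro _ _ ⟨a, b, rfl⟩ ⟨c, d, rfl⟩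
    refine ⟨a + c, b + d, ?_⟩
    simp only [map_add]
    ring
  zero_mem' := ⟨0, 0, by simp⟩
  neg_mem' := by
    rintro _ ⟨a, b, rfl⟩
    refine ⟨-a, -b, ?_⟩
    simp only [map_neg]
    ring
  inv_mem' := by
    intro x hx
    have hmul : ∀ y z : F, (∃ a b : ZMod p, y = iot p a + iot p b * φ) →
        (∃ a b : ZMod p, z = iot p a + iot p b * φ) →
        ∃ a b : ZMod p, y * z = iot p a + iot p b * φ := by
      rintro _ _ ⟨a, b, rfl⟩ ⟨c, d, rfl⟩
      refine ⟨a * c + b * d * v, a * d + b * c + b * d * u, ?_⟩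
      simp only [map_add, map_mul]
      linear_combination (iot p b * iot p d) * hφ
    have hpow : ∀ n : ℕ, ∃ a b : ZMod p, x ^ n = iot p a + iot p b * φ := by
      intro n
      induction n with
      | zero => exact ⟨1, 0, by simp⟩
      | succ n ih =>
        rw [pow_succ]
        exact hmul _ _ ih hx
    by_cases hx0 : x = 0
    · rw [hx0, inv_zero]
      exact ⟨0, 0, by simp⟩
    · have h1 := FiniteField.pow_card_sub_one_eq_one x hx0
      have hq : 2 ≤ Fintype.card F := Fintype.one_lt_card
      have h2 : x⁻¹ = x ^ (Fintype.card F - 2) := by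
        have e : Fintype.card F - 1 = (Fintype.card F - 2) + 1 := by omega
        rw [e, pow_succ] at h1
        exact inv_eq_of_mul_eq_one_left h1
      show ∃ a b : ZMod p, x⁻¹ = iot p a + iot p b * φ
      rw [h2]
      exact hpow _

theorem mem_quadSub (u v : ZMod p) (φ : F) (hφ : φ ^ 2 = iot p u * φ + iot p v) (x : F) :
    x ∈ quadSub p u v φ hφ ↔ ∃ a b : ZMod p, x = iot p a + iot p b * φ := Iff.rfl

theorem root_mem_quadSub (u v : ZMod p) (φ : F) (hφ : φ ^ 2 = iot p u * φ + iot p v) :
    φ ∈ quadSub p u v φ hφ := ⟨0, 1, by simp⟩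

theorem iot_mem_quadSub (u v : ZMod p) (φ : F) (hφ : φ ^ 2 = iot p u * φ + iot p v)
    (a : ZMod p) : iot p a ∈ quadSub p u v φ hφ := ⟨a, 0, by simp⟩

theorem card_quadSub_le (u v : ZMod p) (φ : F) (hφ : φ ^ 2 = iot p u * φ + iot p v) :
    Nat.card (quadSub p u v φ hφ) ≤ p ^ 2 := by
  have hs : Function.Surjective (fun ab : ZMod p × ZMod p =>
      (⟨iot p ab.1 + iot p ab.2 * φ, ab.1, ab.2, rfl⟩ : quadSub p u v φ hφ)) := by
    rintro ⟨x, a, b, rfl⟩
    exact ⟨(a, b), rfl⟩
  have := Nat.card_le_card_of_surjective _ hs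
  rw [Nat.card_prod, Nat.card_zmod] at this
  rw [pow_two]
  exact this

end Cfsg.Agent.Lib.Helper9.PO
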