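import Mathlib
import Cfsg.Agent.Lib.Helper2.DSubC1

set_option autoImplicit false
set_option linter.unusedSectionVars false

/-!
# `PSL₂(F) ≃* PGL₂(F)` for finite fields of characteristic `2`
-/

namespace Cfsg.Agent.Lib.Helper9.H9PM

open Matrix
open scoped MatrixGroups

variable {F : Type*} [Field F] [Finite F]

theorem toPGL_bijective_of_char_two (h2 : (2 : F) = 0) :
    Function.Bijective (ProjectiveSpecialLinearGroup.toPGL (n := Fin 2) (R := F)) := by
  refine ⟨ProjectiveSpecialLinearGroup.toPGL_injective, ?_⟩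
  apply ProjectiveSpecialLinearGroup.toPGL_surj_of_roots
  intro r
  have hch : ringChar F = 2 :=
    CharP.ringChar_of_prime_eq_zero Nat.prime_two (by exact_mod_cast h2)
  obtain ⟨k, hk⟩ := FiniteField.isSquare_of_char_two hch (r : F)
  have hk0 : k ≠ 0 := by
    rintro rfl
    rw [mul_zero] at hk
    exact r.ne_zero hk
  refine ⟨Units.mk0 k hk0, ?_⟩
  apply Units.ext
  rw [Fintype.card_fin, Units.val_pow_eq_pow_val, Units.val_mk0, pow_two, ← hk]

/-- `PSL₂(F) ≃* PGL₂(F)` in characteristic `2` -/
noncomputable def pslEquivPGL (h2 : (2 : F) = 0) :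
    ProjectiveSpecialLinearGroup (Fin 2) F ≃* PGL(Fin 2, F) :=
  MulEquiv.ofBijective _ (toPGL_bijective_of_char_two h2)

theorem finite_pgl : Finite (PGL(Fin 2, F)) := by
  unfold ProjGenLinGroup
  infer_instance

end Cfsg.Agent.Lib.Helper9.H9PM
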