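import Mathlib
import Cfsg.Agent.Lib.Helper2.DSubF4
import Cfsg.Agent.Lib.Helper2.DSub3
import Cfsg.Agent.Lib.Helper9.PSLMax4

set_option autoImplicit false
set_option linter.unusedSectionVars false

/-!
# Subgroups of `PGL₂(F)`, `F` of characteristic `2`, with a self-normalising-type `2`-subgroup
-/

namespace Cfsg.Agent.Lib.Helper9.H9PM

open Matrix OnePoint MulAction Cfsg.Agent.Lib.Helper2 Cfsg.Agent.Lib.Helper2.DSub
open scoped MatrixGroups

variable {F : Type*} [Field F] [DecidableEq F]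

attribute [local instance] pglAct

theorem affA_pow (g : PGL(Fin 2, F)) (hg : g • (∞ : OnePoint F) = ∞) (n : ℕ) :
    affA (g ^ n) = affA g ^ n ∧ (g ^ n) • (∞ : OnePoint F) = ∞ := by
  induction n with
  | zero =>
    rw [pow_zero, pow_zero]
    exact ⟨affA_one, one_smul _ _⟩
  | succ n ih =>
    constructor
    · rw [pow_succ, affA_mul _ _ ih.2 hg, ih.1, pow_succ]
    · rw [pow_succ, mul_smul, hg, ih.2]

theorem eq_one_of_pow_two_pow [CharP F 2] (a : F) (j : ℕ) (h : a ^ (2 ^ j) = 1) : a = 1 := by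
  have h1 : (a - 1) ^ (2 ^ j) = 0 := by
    rw [sub_pow_char_pow, h, one_pow, sub_self]
  exact sub_eq_zero.mp ((pow_eq_zero_iff (pow_ne_zero j two_ne_zero)).mp h1)

variable (S : Subgroup (PGL(Fin 2, F)))

theorem US_sq [CharP F 2] (u : PGL(Fin 2, F)) (hu : u ∈ US S) : u * u = 1 := by
  apply eq_of_smul_eq
  intro x
  cases x with
  | infty => rw [mul_smul, hu.2.1, hu.2.1, one_smul]
  | coe c =>
    rw [mul_smul, US_smul S u hu, US_smul S u hu, one_smul]
    congr 1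
    rw [add_assoc, CharTwo.add_self_eq_zero, add_zero]

theorem isPGroup_US [CharP F 2] : IsPGroup 2 (US S) := by
  intro u
  refine ⟨1, ?_⟩
  apply Subtype.ext
  rw [pow_one, pow_two]
  exact US_sq S u.1 u.2

theorem conj_mem_US (t : PGL(Fin 2, F)) (ht : t ∈ S) (ht' : t • (∞ : OnePoint F) = ∞)
    (u : PGL(Fin 2, F)) (hu : u ∈ US S) : t * u * t⁻¹ ∈ US S := by
  have hti : t⁻¹ • (∞ : OnePoint F) = ∞ := by rw [inv_smul_eq_iff, ht']
  refine ⟨S.mul_mem (S.mul_mem ht hu.1) (S.inv_mem ht), ?_, ?_⟩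
  · rw [mul_smul, mul_smul, hti, hu.2.1, ht']
  · have h1 : (t * u) • (∞ : OnePoint F) = ∞ := by rw [mul_smul, hu.2.1, ht']
    rw [affA_mul _ _ h1 hti, affA_mul _ _ ht' hu.2.1, hu.2.2, mul_one, ← affA_mul _ _ ht' hti,
      mul_inv_cancel, affA_one]

theorem mem_normalizer_US_iff (hU : US S ≠ ⊥) (s : PGL(Fin 2, F)) (hs : s ∈ S) :
    s • (∞ : OnePoint F) = ∞ ↔ s ∈ Subgroup.normalizer ((US S : Subgroup (PGL(Fin 2, F))) :
      Set (PGL(Fin 2, F))) := by
  constructor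
  · intro h
    rw [Subgroup.mem_normalizer_iff]
    intro u
    constructor
    · exact conj_mem_US S s hs h u
    · intro hu
      have hsi : s⁻¹ • (∞ : OnePoint F) = ∞ := by rw [inv_smul_eq_iff, h]
      have := conj_mem_US S s⁻¹ (S.inv_mem hs) hsi _ hu
      have e1 : s⁻¹ * (s * u * s⁻¹) * s⁻¹⁻¹ = u := by group
      rw [e1] at this
      exact this
  · intro h
    obtain ⟨u, hu, hu1⟩ := (Subgroup.ne_bot_iff_exists_ne_one.mp hU) |> fun ⟨u, hu⟩ =>
      (⟨u.1, u.2, fun h' => hu (Subtype.ext h')⟩ : ∃ u : PGL(Fin 2, F), u ∈ US S ∧ u ≠ 1)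
    rw [Subgroup.mem_normalizer_iff] at h
    have h1 := (h u).mp hu
    have hpar : IsPar u (∞ : OnePoint F) := (isPar_infty_iff u).mpr ⟨hu1, hu.2.1, hu.2.2⟩
    have h2 : u • (s⁻¹ • (∞ : OnePoint F)) = s⁻¹ • (∞ : OnePoint F) := by
      have h3 := h1.2.1
      rw [mul_smul, mul_smul, smul_eq_iff_eq_inv_smul] at h3
      exact h3
    have h4 := hpar.2.2 _ h2
    rw [inv_smul_eq_iff] at h4
    exact h4.symm

/-- the data of a subgroup of order `q₀ (q₀² - 1)` with a subgroup of order `q₀` whose normaliser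
has order `q₀ (q₀ - 1)` -/
structure SFData (S P : Subgroup (PGL(Fin 2, F))) (q₀ : ℕ) : Prop where
  hPS : P ≤ S
  cardS : Nat.card S = q₀ * (q₀ - 1) * (q₀ + 1)
  cardP : Nat.card P = q₀
  cardN : Nat.card (S ⊓ Subgroup.normalizer (P : Set (PGL(Fin 2, F))) :
    Subgroup (PGL(Fin 2, F))) = q₀ * (q₀ - 1)

variable {S}

theorem SFData.map {P : Subgroup (PGL(Fin 2, F))} {q₀ : ℕ} (h : SFData S P q₀)
    (ψ : PGL(Fin 2, F) ≃* PGL(Fin 2, F)) :
    SFData (S.map ψ.toMonoidHom) (P.map ψ.toMonoidHom) q₀ where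
  hPS := Subgroup.map_mono h.hPS
  cardS := by rw [Subgroup.card_map_of_injective ψ.injective]; exact h.cardS
  cardP := by rw [Subgroup.card_map_of_injective ψ.injective]; exact h.cardP
  cardN := by
    rw [← Subgroup.map_equiv_normalizer_eq, ← Subgroup.map_inf _ _ _ ψ.injective,
      Subgroup.card_map_of_injective ψ.injective]
    exact h.cardN

variable [Fintype F] [CharP F 2]

theorem exists_fixed_of_two_group (P : Subgroup (PGL(Fin 2, F))) (hP : IsPGroup 2 P) :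
    ∃ x : OnePoint F, ∀ g ∈ P, g • x = x := by
  haveI : Finite (OnePoint F) := inferInstanceAs (Finite (Option F))
  have hcard : Nat.card (OnePoint F) = Fintype.card F + 1 := by
    show Nat.card (Option F) = _
    rw [Finite.card_option, Nat.card_eq_fintype_card]
  have hev : Fintype.card F % 2 = 0 :=
    FiniteField.even_card_of_char_two ((ringChar.eq F 2))
  have hnd : ¬ 2 ∣ Nat.card (OnePoint F) := by
    rw [hcard]; omega
  obtain ⟨x, hx⟩ := hP.nonempty_fixed_point_of_prime_not_dvd_card (OnePoint F) hnd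
  refine ⟨x, fun g hg => ?_⟩
  exact (MulAction.mem_fixedPoints.mp hx) ⟨g, hg⟩

theorem SFData.US_eq {P : Subgroup (PGL(Fin 2, F))} {q₀ j : ℕ} (h : SFData S P q₀)
    (hq : q₀ = 2 ^ j) (hj : 1 ≤ j) (hfix : ∀ g ∈ P, g • (∞ : OnePoint F) = ∞) : US S = P := by
  haveI := finite_pgl (F := F)
  have hle : P ≤ US S := by
    intro g hg
    refine ⟨h.hPS hg, hfix g hg, ?_⟩
    have hpow : g ^ q₀ = 1 := by
      have := pow_card_eq_one' (G := P) (x := ⟨g, hg⟩)
      rw [h.cardP] at this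
      exact congrArg Subtype.val this
    have h1 := (affA_pow g (hfix g hg) q₀).1
    rw [hpow, affA_one, hq] at h1
    exact eq_one_of_pow_two_pow _ j h1.symm
  obtain ⟨a, ha⟩ := (IsPGroup.iff_card (p := 2)).mp (isPGroup_US S)
  have hdvd : Nat.card (US S) ∣ Nat.card S := Subgroup.card_dvd_of_le (US_le S)
  rw [ha, h.cardS, hq, mul_assoc] at hdvd
  have hcop : Nat.Coprime (2 ^ a) ((2 ^ j - 1) * (2 ^ j + 1)) := by
    apply Nat.Coprime.pow_left
    rw [Nat.Prime.coprime_iff_not_dvd Nat.prime_two]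
    intro hd
    obtain ⟨s, hs⟩ : 2 ∣ 2 ^ j := dvd_pow_self 2 (by omega)
    have hpos : 0 < 2 ^ j := by positivity
    rcases (Nat.Prime.dvd_mul Nat.prime_two).mp hd with ⟨w, hw⟩ | ⟨w, hw⟩ <;> omega
  have h2 : 2 ^ a ∣ 2 ^ j := hcop.dvd_of_dvd_mul_right hdvd
  have h3 : Nat.card (US S) ≤ Nat.card P := by
    rw [ha, h.cardP, hq]
    exact Nat.le_of_dvd (by positivity) h2
  exact (Subgroup.eq_of_le_of_card_ge hle h3).symm

theorem SFData.card_stab {P : Subgroup (PGL(Fin 2, F))} {q₀ j : ℕ} (h : SFData S P q₀)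
    (hq : q₀ = 2 ^ j) (hj : 1 ≤ j) (hfix : ∀ g ∈ P, g • (∞ : OnePoint F) = ∞) :
    Nat.card (stabilizer S (∞ : OnePoint F)) = q₀ * (q₀ - 1) := by
  have hUS := h.US_eq hq hj hfix
  have hUne : US S ≠ ⊥ := by
    intro hb
    have h1 : Nat.card (US S) = 1 := by rw [hb]; exact Subgroup.card_bot
    rw [hUS, h.cardP, hq] at h1
    have : 2 ^ 1 ≤ 2 ^ j := Nat.pow_le_pow_right (by norm_num) hj
    omega
  have hmap : (stabilizer S (∞ : OnePoint F)).map S.subtype =
      S ⊓ Subgroup.normalizer (P : Set (PGL(Fin 2, F))) := by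
    ext g
    constructor
    · rintro ⟨s, hs, rfl⟩
      refine ⟨s.2, ?_⟩
      rw [← hUS]
      exact (mem_normalizer_US_iff S hUne s.1 s.2).mp (mem_stabilizer_iff.mp hs)
    · rintro ⟨hg, hn⟩
      have hn' : g ∈ Subgroup.normalizer ((US S : Subgroup (PGL(Fin 2, F))) :
          Set (PGL(Fin 2, F))) := by
        rw [hUS]; exact hn
      refine ⟨⟨g, hg⟩, ?_, rfl⟩
      show (⟨g, hg⟩ : S) • (∞ : OnePoint F) = ∞
      exact (mem_normalizer_US_iff S hUne g hg).mpr hn'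
  rw [← Subgroup.card_map_of_injective S.subtype_injective, hmap]
  exact h.cardN

theorem SFData.card_orbit {P : Subgroup (PGL(Fin 2, F))} {q₀ j : ℕ} (h : SFData S P q₀)
    (hq : q₀ = 2 ^ j) (hj : 1 ≤ j) (hfix : ∀ g ∈ P, g • (∞ : OnePoint F) = ∞) :
    Nat.card (orbit S (∞ : OnePoint F)) = q₀ + 1 := by
  have h1 := card_orbit_mul_card_stabilizer (G := S) (∞ : OnePoint F)
  rw [h.card_stab hq hj hfix, h.cardS] at h1
  have h2 : 2 ≤ q₀ := by
    rw [hq]
    calc 2 = 2 ^ 1 := by norm_num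
      _ ≤ 2 ^ j := Nat.pow_le_pow_right (by norm_num) hj
  have hpos : 0 < q₀ * (q₀ - 1) := Nat.mul_pos (by omega) (by omega)
  have h3 : Nat.card (orbit S (∞ : OnePoint F)) * (q₀ * (q₀ - 1)) =
      (q₀ + 1) * (q₀ * (q₀ - 1)) := by
    rw [h1]; ring
  exact Nat.eq_of_mul_eq_mul_right hpos h3

end Cfsg.Agent.Lib.Helper9.H9PM
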