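import Mathlib

set_option autoImplicit false
set_option linter.unusedSectionVars false

/-!
# Intermediate subfields of finite fields of characteristic `2`
-/

namespace Cfsg.Agent.Lib.Helper9.H9PM

theorem natCard_lt_of_injective_not_surjective {α β : Type*} [Finite β] (f : α → β)
    (hf : Function.Injective f) (hs : ¬ Function.Surjective f) : Nat.card α < Nat.card β := by
  haveI : Finite α := Finite.of_injective f hf
  haveI := Fintype.ofFinite α
  haveI := Fintype.ofFinite β
  rw [Nat.card_eq_fintype_card, Nat.card_eq_fintype_card]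
  exact Fintype.card_lt_of_injective_not_surjective f hf hs

variable {F : Type*} [Field F] [CharP F 2]

/-- the fixed field of a power of the Frobenius -/
def frobFix (i : ℕ) : Subfield F where
  carrier := {x | x ^ (2 ^ i) = x}
  mul_mem' := by
    intro a b ha hb
    show (a * b) ^ (2 ^ i) = a * b
    rw [mul_pow, ha, hb]
  one_mem' := one_pow _
  add_mem' := by
    intro a b ha hb
    show (a + b) ^ (2 ^ i) = a + b
    rw [add_pow_char_pow, ha, hb]
  zero_mem' := zero_pow (pow_ne_zero i two_ne_zero)
  neg_mem' := by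
    intro a ha
    show (-a) ^ (2 ^ i) = -a
    rw [CharTwo.neg_eq, ha]
  inv_mem' := by
    intro a ha
    show (a⁻¹) ^ (2 ^ i) = a⁻¹
    rw [inv_pow, ha]

theorem mem_frobFix (i : ℕ) (x : F) : x ∈ frobFix (F := F) i ↔ x ^ (2 ^ i) = x := Iff.rfl

theorem pow_pow_eq_self (x : F) (n a : ℕ) (h : x ^ n = x) : x ^ (n ^ a) = x := by
  induction a with
  | zero => rw [pow_zero, pow_one]
  | succ a ih => rw [pow_succ, pow_mul, ih, h]

variable [Fintype F]

/-- the arithmetic of intermediate subfields: between a subfield of order `q₀ = 2 ^ j` and `F`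
of order `q₀ ^ (a b)` with `a, b ≥ 2` lies a subfield of order strictly in between -/
theorem exists_intermediate (K₀ : Subfield F) (q₀ j a m : ℕ) (hq : q₀ = 2 ^ j) (hj : 1 ≤ j)
    (hK₀ : Nat.card K₀ = q₀) (hF : Fintype.card F = q₀ ^ m) (ha2 : 2 ≤ a) (ham : a < m)
    (hdvd : a ∣ m) :
    ∃ K₁ : Subfield F, K₀ ≤ K₁ ∧ Nat.card K₀ < Nat.card K₁ ∧ Nat.card K₁ < Fintype.card F := by
  classical
  haveI : Finite ↥K₀ := Finite.of_injective _ Subtype.val_injective
  haveI : Fintype ↥K₀ := Fintype.ofFinite _
  have hK₀' : Fintype.card ↥K₀ = q₀ := by rw [← Nat.card_eq_fintype_card]; exact hK₀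
  have hq2 : 2 ≤ q₀ := by
    rw [hq]
    calc 2 = 2 ^ 1 := by norm_num
      _ ≤ 2 ^ j := Nat.pow_le_pow_right (by norm_num) hj
  set i := j * a with hi
  have h2i : 2 ^ i = q₀ ^ a := by rw [hi, pow_mul, ← hq]
  refine ⟨frobFix i, ?_, ?_, ?_⟩
  · intro x hx
    rw [mem_frobFix, h2i]
    apply pow_pow_eq_self
    have := FiniteField.pow_card (⟨x, hx⟩ : ↥K₀)
    rw [hK₀'] at this
    exact congrArg Subtype.val this
  all_goals
    obtain ⟨g, hg⟩ := IsCyclic.exists_generator (α := Fˣ)
    have hgord : orderOf g = Fintype.card F - 1 := by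
      rw [orderOf_eq_card_of_forall_mem_zpowers hg, Nat.card_units, Nat.card_eq_fintype_card]
    have hqa_lt : q₀ ^ a < q₀ ^ m := Nat.pow_lt_pow_right (by omega) ham
    have hqa_gt : q₀ < q₀ ^ a := by
      calc q₀ = q₀ ^ 1 := (pow_one _).symm
        _ < q₀ ^ a := Nat.pow_lt_pow_right (by omega) (by omega)
  · -- an element of `K₁` outside `K₀`
    obtain ⟨b, rfl⟩ := hdvd
    have hd : 2 ^ i - 1 ∣ Fintype.card F - 1 := by
      have e1 : q₀ ^ (a * b) = (2 ^ i) ^ b := by rw [pow_mul, h2i]
      rw [hF, e1]
      simpa only [one_pow] using Nat.sub_dvd_pow_sub_pow (2 ^ i) 1 b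
    set d := 2 ^ i - 1 with hd_def
    have hd1 : 2 ^ i = d + 1 := by
      have : 0 < 2 ^ i := by positivity
      omega
    have hq1 : 1 < Fintype.card F := Fintype.one_lt_card
    have hk0 : (Fintype.card F - 1) / d ≠ 0 := by
      intro h0
      have hdpos : 0 < d := by omega
      have := Nat.div_mul_cancel hd
      rw [h0, zero_mul] at this
      omega
    set h : Fˣ := g ^ ((Fintype.card F - 1) / d) with hh
    have hord : orderOf h = d := by
      rw [hh, orderOf_pow_of_dvd hk0 (by rw [hgord]; exact Nat.div_dvd_of_dvd hd), hgord,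
        Nat.div_div_self hd (by omega)]
    have hmem : (h : F) ∈ frobFix (F := F) i := by
      rw [mem_frobFix, hd1, pow_succ]
      have : h ^ d = 1 := by rw [← hord]; exact pow_orderOf_eq_one h
      have h' : (h : F) ^ d = 1 := by
        rw [← Units.val_pow_eq_pow_val, this, Units.val_one]
      rw [h', one_mul]
    have hnot : (h : F) ∉ K₀ := by
      intro hx
      have h1 := FiniteField.pow_card_sub_one_eq_one (⟨(h : F), hx⟩ : ↥K₀) (by
        intro h0
        exact h.ne_zero (congrArg Subtype.val h0))
      rw [hK₀'] at h1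
      have h2 : (h : F) ^ (q₀ - 1) = 1 := congrArg Subtype.val h1
      have h3 : h ^ (q₀ - 1) = 1 := by
        apply Units.ext
        rw [Units.val_pow_eq_pow_val, h2, Units.val_one]
      have h4 : d ∣ q₀ - 1 := by rw [← hord]; exact orderOf_dvd_of_pow_eq_one h3
      have h5 := Nat.le_of_dvd (by omega) h4
      omega
    have hle : K₀ ≤ frobFix (F := F) i := by
      intro x hx
      rw [mem_frobFix, h2i]
      apply pow_pow_eq_self
      have := FiniteField.pow_card (⟨x, hx⟩ : ↥K₀)
      rw [hK₀'] at this
      exact congrArg Subtype.val this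
    haveI : Finite ↥(frobFix (F := F) i) := Finite.of_injective _ Subtype.val_injective
    apply natCard_lt_of_injective_not_surjective (Subfield.inclusion hle)
      (fun x y hxy => Subtype.ext (congrArg (fun z : ↥(frobFix (F := F) i) => (z : F)) hxy))
    intro hsurj
    obtain ⟨y, hy⟩ := hsurj ⟨(h : F), hmem⟩
    apply hnot
    have : (y : F) = (h : F) := congrArg Subtype.val hy
    rw [← this]
    exact y.2
  · -- the generator is outside `K₁`
    have hgnot : (g : F) ∉ frobFix (F := F) i := by
      intro hx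
      rw [mem_frobFix] at hx
      have hpos : 0 < 2 ^ i := by positivity
      have h1 : g ^ (2 ^ i - 1) = 1 := by
        have h2 : g ^ (2 ^ i) = g := by
          apply Units.ext
          rw [Units.val_pow_eq_pow_val, hx]
        have h3 : g ^ (2 ^ i - 1) * g = 1 * g := by
          rw [← pow_succ, Nat.sub_add_cancel hpos, h2, one_mul]
        exact mul_right_cancel h3
      have h4 : Fintype.card F - 1 ∣ 2 ^ i - 1 := by
        rw [← hgord]; exact orderOf_dvd_of_pow_eq_one h1
      have h5 := Nat.le_of_dvd (by omega) h4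
      rw [hF, h2i] at h5
      omega
    rw [← Nat.card_eq_fintype_card]
    haveI : Finite ↥(frobFix (F := F) i) := Finite.of_injective _ Subtype.val_injective
    apply natCard_lt_of_injective_not_surjective (frobFix (F := F) i).subtype
      Subtype.val_injective
    intro hsurj
    obtain ⟨y, hy⟩ := hsurj (g : F)
    apply hgnot
    rw [← hy]
    exact y.2

end Cfsg.Agent.Lib.Helper9.H9PM
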