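import Mathlib
import Cfsg.Agent.Lib.Helper2.DSubF6
import Cfsg.Agent.Lib.Helper9.PSLMax5
import Cfsg.Agent.Lib.Helper9.PSLMax6

set_option autoImplicit false
set_option linter.unusedSectionVars false

/-!
# Maximal subgroups of `PGL₂(F)` inside subfield subgroups, characteristic `2`
-/

namespace Cfsg.Agent.Lib.Helper9.H9PM

open Matrix OnePoint MulAction Cfsg.Agent.Lib.Helper2 Cfsg.Agent.Lib.Helper2.DSub
open scoped MatrixGroups

theorem card_f_lt {s t : ℕ} (hs : 1 ≤ s) (h : s < t) :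
    s * (s - 1) * (s + 1) < t * (t - 1) * (t + 1) := by
  obtain ⟨s', rfl⟩ : ∃ s', s = s' + 1 := ⟨s - 1, by omega⟩
  obtain ⟨t', rfl⟩ : ∃ t', t = t' + 1 := ⟨t - 1, by omega⟩
  rw [Nat.add_sub_cancel, Nat.add_sub_cancel]
  have h1 : s' < t' := by omega
  have h2 : (s' + 1) * s' ≤ (t' + 1) * t' := Nat.mul_le_mul (by omega) (by omega)
  have h3 : (s' + 1) * s' * (s' + 1 + 1) ≤ (t' + 1) * t' * (s' + 1 + 1) :=
    Nat.mul_le_mul_right _ h2
  have h4 : (t' + 1) * t' * (s' + 1 + 1) < (t' + 1) * t' * (t' + 1 + 1) := by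
    apply Nat.mul_lt_mul_of_pos_left (by omega)
    exact Nat.mul_pos (by omega) (by omega)
  omega

variable {F : Type*} [Field F] [Fintype F] [DecidableEq F] [CharP F 2]

theorem card_range_map (K₁ : Subfield F) :
    Nat.card (ProjGenLinGroup.map (n := Fin 2) K₁.subtype).range =
      Nat.card K₁ * (Nat.card K₁ - 1) * (Nat.card K₁ + 1) := by
  classical
  haveI : Finite ↥K₁ := Finite.of_injective _ Subtype.val_injective
  haveI : Fintype ↥K₁ := Fintype.ofFinite _
  have hinj := pgl_map_injective (K₀ := ↥K₁) (L := F) K₁.subtype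
  rw [← Nat.card_congr (MonoidHom.ofInjective hinj).toEquiv, card_pgl_two,
    Nat.card_eq_fintype_card]

theorem range_map_mono {K₀ K₁ : Subfield F} (h : K₀ ≤ K₁) :
    (ProjGenLinGroup.map (n := Fin 2) K₀.subtype).range ≤
      (ProjGenLinGroup.map (n := Fin 2) K₁.subtype).range := by
  have e : K₀.subtype = K₁.subtype.comp (Subfield.inclusion h) := by
    ext x
    rfl
  rw [e, ProjGenLinGroup.map_comp, MonoidHom.range_comp]
  exact Subgroup.map_le_range _ _

/-- a maximal subgroup of order `q₀ (q₀² - 1)` inside the subfield subgroup over a subfield of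
order `q₀` forces `|F| = q₀ ^ r` with `r` prime -/
theorem tower (S : Subgroup (PGL(Fin 2, F))) (hS : IsCoatom S) (q₀ j : ℕ) (hq : q₀ = 2 ^ j)
    (hj : 1 ≤ j) (hcard : Nat.card S = q₀ * (q₀ - 1) * (q₀ + 1)) (K₀ : Subfield F)
    (hK₀ : Nat.card K₀ = q₀)
    (hle : S ≤ (ProjGenLinGroup.map (n := Fin 2) K₀.subtype).range) :
    ∃ r : ℕ, r.Prime ∧ Fintype.card F = q₀ ^ r := by
  classical
  haveI := finite_pgl (F := F)
  haveI : Finite ↥K₀ := Finite.of_injective _ Subtype.val_injective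
  haveI : Fintype ↥K₀ := Fintype.ofFinite _
  have hK₀' : Fintype.card ↥K₀ = q₀ := by rw [← Nat.card_eq_fintype_card]; exact hK₀
  have hq2 : 2 ≤ q₀ := by
    rw [hq]
    calc 2 = 2 ^ 1 := by norm_num
      _ ≤ 2 ^ j := Nat.pow_le_pow_right (by norm_num) hj
  set m := Module.finrank ↥K₀ F with hm
  have hqm : Fintype.card F = q₀ ^ m := by
    rw [Module.card_eq_pow_finrank (K := ↥K₀) (V := F), hK₀']
  have hF1 : 1 < Fintype.card F := Fintype.one_lt_card
  refine ⟨m, ?_, hqm⟩
  by_contra hnp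
  have hm0 : m ≠ 0 := by
    intro h0
    rw [h0, pow_zero] at hqm
    omega
  have hm1 : m ≠ 1 := by
    intro h1
    rw [h1, pow_one] at hqm
    apply hS.1
    rw [← Subgroup.card_eq_iff_eq_top, hcard, card_pgl_two, hqm]
  obtain ⟨a, hdvd, ha2, ham⟩ := Nat.exists_dvd_of_not_prime2 (by omega) hnp
  obtain ⟨K₁, hK01, hlt1, hlt2⟩ := exists_intermediate K₀ q₀ j a m hq hj hK₀ hqm ha2 ham hdvd
  have hle1 : S ≤ (ProjGenLinGroup.map (n := Fin 2) K₁.subtype).range :=
    hle.trans (range_map_mono hK01)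
  have hc1 := card_range_map K₁
  rcases hS.le_iff.mp hle1 with h | h
  · have h1 : Nat.card (ProjGenLinGroup.map (n := Fin 2) K₁.subtype).range =
        Nat.card (PGL(Fin 2, F)) := by rw [h, Subgroup.card_top]
    rw [hc1, card_pgl_two] at h1
    have h2 := card_f_lt (by rw [hK₀] at hlt1; omega) hlt2
    omega
  · have h1 : Nat.card (ProjGenLinGroup.map (n := Fin 2) K₁.subtype).range = Nat.card S := by
      rw [h]
    rw [hc1, hcard] at h1
    rw [hK₀] at hlt1
    have h2 := card_f_lt (by omega) hlt1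
    omega

end Cfsg.Agent.Lib.Helper9.H9PM
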