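import Mathlib
import Cfsg.Agent.Lib.Helper2.DSubP9
import Cfsg.Agent.Lib.Helper9.PSLMax7

set_option autoImplicit false
set_option linter.unusedSectionVars false

/-!
# Maximal subgroups of `PGL₂(F)` isomorphic to `PSL₂(K)`, characteristic `2`
-/

namespace Cfsg.Agent.Lib.Helper9.H9PM

open Matrix OnePoint MulAction Cfsg.Agent.Lib.Helper2 Cfsg.Agent.Lib.Helper2.DSub
open scoped MatrixGroups

theorem isCoatom_map_equiv {G H : Type*} [Group G] [Group H] (ψ : G ≃* H) (M : Subgroup G)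
    (hM : IsCoatom M) : IsCoatom (M.map ψ.toMonoidHom) :=
  (OrderIso.isCoatom_iff ψ.mapSubgroup M).mpr hM

variable {F : Type*} [Field F] [Fintype F] [DecidableEq F] [CharP F 2]

attribute [local instance] pglAct

theorem conj_inv_smul (δ g : PGL(Fin 2, F)) (z : OnePoint F) :
    ((MulAut.conj δ⁻¹ : PGL(Fin 2, F) ≃* PGL(Fin 2, F)) g) • z = δ⁻¹ • (g • (δ • z)) := by
  rw [MulAut.conj_apply, inv_inv, mul_smul, mul_smul]

/-- after two conjugations the subgroup lies in the subfield subgroup of a subfield of order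
`q₀` -/
theorem exists_subfield {S P : Subgroup (PGL(Fin 2, F))} {q₀ j : ℕ} (h : SFData S P q₀)
    (hq : q₀ = 2 ^ j) (hj : 1 ≤ j) :
    ∃ (ψ₁ ψ₂ : PGL(Fin 2, F) ≃* PGL(Fin 2, F)) (K₀ : Subfield F), Nat.card K₀ = q₀ ∧
      (S.map ψ₁.toMonoidHom).map ψ₂.toMonoidHom ≤
        (ProjGenLinGroup.map (n := Fin 2) K₀.subtype).range := by
  haveI := finite_pgl (F := F)
  have hq2 : 2 ≤ q₀ := by
    rw [hq]
    calc 2 = 2 ^ 1 := by norm_num
      _ ≤ 2 ^ j := Nat.pow_le_pow_right (by norm_num) hj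
  have hP2 : IsPGroup 2 P := IsPGroup.of_card (n := j) (by rw [h.cardP, hq])
  obtain ⟨x, hx⟩ := exists_fixed_of_two_group P hP2
  obtain ⟨δ₁, hδ₁⟩ := exists_smul_infty_eq x
  set ψ₁ : PGL(Fin 2, F) ≃* PGL(Fin 2, F) := MulAut.conj δ₁⁻¹ with hψ₁
  have h₁ := h.map ψ₁
  have hfix₁ : ∀ g ∈ P.map ψ₁.toMonoidHom, g • (∞ : OnePoint F) = ∞ := by
    rintro _ ⟨g, hg, rfl⟩
    show (ψ₁ g) • (∞ : OnePoint F) = ∞
    rw [hψ₁, conj_inv_smul, hδ₁, hx g hg, ← hδ₁, inv_smul_smul]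
  have hO₁ := h₁.card_orbit hq hj hfix₁
  set S₁ := S.map ψ₁.toMonoidHom with hS₁
  have hfin : (orbit S₁ (∞ : OnePoint F)).Finite := Set.toFinite _
  have hcard : (orbit S₁ (∞ : OnePoint F)).ncard = q₀ + 1 := by
    rw [← Nat.card_coe_set_eq]; exact hO₁
  have hmem : (∞ : OnePoint F) ∈ orbit S₁ (∞ : OnePoint F) := mem_orbit_self _
  have h2 : 1 < ((orbit S₁ (∞ : OnePoint F)) \ {∞}).ncard := by
    rw [Set.ncard_sdiff_singleton_of_mem hmem, hcard]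
    omega
  obtain ⟨y, y', hy, hy', hyy'⟩ := (Set.one_lt_ncard_iff (hfin.subset Set.sdiff_subset)).mp h2
  have hyx : (∞ : OnePoint F) ≠ y := fun hh => hy.2 (by rw [← hh]; rfl)
  have hy'x : (∞ : OnePoint F) ≠ y' := fun hh => hy'.2 (by rw [← hh]; rfl)
  obtain ⟨δ₂, hδ₂, h0, h1⟩ := exists_std (∞ : OnePoint F) y y' hyx hy'x hyy'
  set ψ₂ : PGL(Fin 2, F) ≃* PGL(Fin 2, F) := MulAut.conj δ₂⁻¹ with hψ₂
  have h₂ := h₁.map ψ₂
  have hfix₂ : ∀ g ∈ (P.map ψ₁.toMonoidHom).map ψ₂.toMonoidHom, g • (∞ : OnePoint F) = ∞ := by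
    rintro _ ⟨g, hg, rfl⟩
    show (ψ₂ g) • (∞ : OnePoint F) = ∞
    rw [hψ₂, conj_inv_smul, hδ₂, hfix₁ g hg, inv_smul_eq_iff, hδ₂]
  set S₂ := S₁.map ψ₂.toMonoidHom with hS₂
  have hO₂ := h₂.card_orbit hq hj hfix₂
  have hst₂ := h₂.card_stab hq hj hfix₂
  have hU₂ : Nat.card (US S₂) = q₀ := by
    rw [h₂.US_eq hq hj hfix₂]; exact h₂.cardP
  have key : ∀ w z : OnePoint F, δ₂ • z = w → w ∈ orbit S₁ (∞ : OnePoint F) →
      z ∈ orbit S₂ (∞ : OnePoint F) := by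
    intro w z hzw hw
    obtain ⟨s, hs⟩ := hw
    refine ⟨⟨ψ₂ s.1, Subgroup.mem_map_of_mem _ s.2⟩, ?_⟩
    show (ψ₂ s.1) • (∞ : OnePoint F) = z
    rw [hψ₂, conj_inv_smul, hδ₂, inv_smul_eq_iff, hzw]
    exact hs
  have h0' : ((0 : F) : OnePoint F) ∈ orbit S₂ (∞ : OnePoint F) := key y _ h0 hy.1
  have h1' : ((1 : F) : OnePoint F) ∈ orbit S₂ (∞ : OnePoint F) := key y' _ h1 hy'.1
  have hk : q₀ ≤ 2 * (q₀ - 1) + 1 := by omega
  have hle := le_range_map S₂ q₀ (q₀ - 1) hq2 hk hO₂ h0' h1' hU₂ hst₂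
  obtain ⟨-, hK0⟩ := orbit_eq_K0 S₂ q₀ (q₀ - 1) hq2 hk hO₂ h0' h1' hU₂ hst₂
  exact ⟨ψ₁, ψ₂, K0 S₂, hK0, hle⟩

/-- a maximal subgroup of `PGL₂(F)` isomorphic to `PSL₂(K)` in characteristic `2`: the degree of
`F` over `K` is prime -/
theorem subfield_coatom_pgl (S₀ : Subgroup (PGL(Fin 2, F))) (hS₀ : IsCoatom S₀)
    {K : Type*} [Field K] [Fintype K] [CharP K 2]
    (e : S₀ ≃* ProjectiveSpecialLinearGroup (Fin 2) K) :
    ∃ r : ℕ, r.Prime ∧ Fintype.card F = Fintype.card K ^ r := by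
  haveI := finite_pgl (F := F)
  haveI := finite_psl (F := K)
  obtain ⟨⟨j, hj0⟩, -, hqj⟩ := FiniteField.card K 2
  have hq : Fintype.card K = 2 ^ j := hqj
  have hj : 1 ≤ j := hj0
  set q₀ := Fintype.card K with hq₀
  have h2K : (2 : K) = 0 := CharTwo.two_eq_zero
  have hgcd := gcd_two_of_even (F := K) h2K
  have hcardPSL : Nat.card (ProjectiveSpecialLinearGroup (Fin 2) K) =
      q₀ * (q₀ - 1) * (q₀ + 1) := by
    have := card_psl_two (F := K)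
    rw [hgcd, one_mul] at this
    exact this
  obtain ⟨P_K⟩ : Nonempty (Sylow 2 (ProjectiveSpecialLinearGroup (Fin 2) K)) := inferInstance
  have hcardPK : Nat.card (P_K : Subgroup (ProjectiveSpecialLinearGroup (Fin 2) K)) = q₀ :=
    card_sylow_psl 2 P_K
  obtain ⟨-, -, hNK, -⟩ := sylow_psl_facts 2 P_K
  rw [hgcd, one_mul] at hNK
  set P₁ : Subgroup ↥S₀ :=
    (P_K : Subgroup (ProjectiveSpecialLinearGroup (Fin 2) K)).map e.symm.toMonoidHom with hP₁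
  set P : Subgroup (PGL(Fin 2, F)) := P₁.map S₀.subtype with hP
  have hPS : P ≤ S₀ := by
    rintro _ ⟨x, -, rfl⟩
    exact x.2
  have hN₁ : Nat.card (Subgroup.normalizer (P₁ : Set ↥S₀)) = q₀ * (q₀ - 1) := by
    rw [hP₁, ← Subgroup.map_equiv_normalizer_eq, Subgroup.card_map_of_injective e.symm.injective]
    exact hNK
  have hsub : P.subgroupOf S₀ = P₁ := by
    rw [hP]
    exact Subgroup.comap_map_eq_self_of_injective S₀.subtype_injective P₁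
  have hdata : SFData S₀ P q₀ := by
    refine ⟨hPS, ?_, ?_, ?_⟩
    · rw [Nat.card_congr e.toEquiv]; exact hcardPSL
    · rw [hP, Subgroup.card_map_of_injective S₀.subtype_injective, hP₁,
        Subgroup.card_map_of_injective e.symm.injective]
      exact hcardPK
    · rw [inf_comm, ← Subgroup.subgroupOf_map_subtype,
        Subgroup.card_map_of_injective S₀.subtype_injective, Subgroup.subgroupOf_normalizer_eq hPS,
        hsub]
      exact hN₁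
  obtain ⟨ψ₁, ψ₂, K₀, hK₀, hle⟩ := exists_subfield hdata hq hj
  have hco : IsCoatom ((S₀.map ψ₁.toMonoidHom).map ψ₂.toMonoidHom) :=
    isCoatom_map_equiv ψ₂ _ (isCoatom_map_equiv ψ₁ _ hS₀)
  have hcard := ((hdata.map ψ₁).map ψ₂).cardS
  exact tower _ hco q₀ j hq hj hcard K₀ hK₀ hle

end Cfsg.Agent.Lib.Helper9.H9PM
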