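import Mathlib
import Cfsg.Agent.Lib.Helper9.PO4
import Cfsg.Agent.Lib.Helper9.PO5
import Cfsg.Agent.Lib.Helper9.PSLMax8

set_option autoImplicit false
set_option linter.unusedSectionVars false

/-!
# Position of subgroups of `PSL₂(F)` with elements of orders `2`, `3`, `5`
-/

namespace Cfsg.Agent.Lib.Helper9.PO

open Cfsg.Agent.Lib.Helper2 Cfsg.Agent.Lib.Helper2.SL2Four Cfsg.Agent.Lib.Helper2.SL2A5
  Cfsg.Agent.Lib.Helper5.PSL2Aut Cfsg.Agent.Lib.Helper2.DSub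

variable {F : Type*} [Field F]

local notation "SL" => Matrix.SpecialLinearGroup (Fin 2) F
local notation "PSL" => Matrix.ProjectiveSpecialLinearGroup (Fin 2) F

theorem two_mem (F₁ : Subfield F) : (2 : F) ∈ F₁ := by
  have : (2 : F) = 1 + 1 := by norm_num
  rw [this]
  exact F₁.add_mem F₁.one_mem F₁.one_mem

/-- traces of elements of projective order `2`, `3` or `5` -/
theorem trace_mem (F₁ : Subfield F) (g : SL)
    (h : (pi g) ^ 2 = 1 ∨ (pi g) ^ 3 = 1 ∨
      ((pi g) ^ 5 = 1 ∧ ∀ t : F, t ^ 2 = t + 1 → t ∈ F₁)) :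
    (g : Matrix (Fin 2) (Fin 2) F).trace ∈ F₁ := by
  by_cases h1 : pi g = 1
  · rw [pi_eq_one_iff] at h1
    rcases h1 with rfl | rfl
    · rw [Matrix.SpecialLinearGroup.coe_one, Matrix.trace_one, Fintype.card_fin]
      exact_mod_cast two_mem F₁
    · rw [Matrix.SpecialLinearGroup.coe_neg, Matrix.SpecialLinearGroup.coe_one,
        Matrix.trace_neg, Matrix.trace_one, Fintype.card_fin]
      exact F₁.neg_mem (by exact_mod_cast two_mem F₁)
  · rcases h with h | h | ⟨h, h5⟩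
    · rw [trace_of_sq g h1 h]
      exact F₁.zero_mem
    · rcases trace_of_cube g h1 h with e | e <;> rw [e]
      · exact F₁.one_mem
      · exact F₁.neg_mem F₁.one_mem
    · rcases trace_of_fifth g h1 h with e | e
      · exact h5 _ e
      · have := h5 (-(g : Matrix (Fin 2) (Fin 2) F).trace) (by linear_combination e)
        have h' := F₁.neg_mem this
        rwa [neg_neg] at h'

variable [Fintype F] [DecidableEq F]

/-- a subgroup whose elements have orders `2`, `3`, `5` and which contains two distinct commuting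
involutions lies, up to an automorphism, in a subfield subgroup -/
theorem exists_aut_le_KF (h2 : (2 : F) ≠ 0) (M : Subgroup PSL) {xb yb : PSL} (hxM : xb ∈ M)
    (hyM : yb ∈ M) (hxx : xb * xb = 1) (hyy : yb * yb = 1)
    (hc : xb * yb = yb * xb) (hx1 : xb ≠ 1) (hy1 : yb ≠ 1) (hxy : xb ≠ yb)
    (F₁ : Subfield F) (a₀ b₀ : F) (ha₀ : a₀ ∈ F₁) (hb₀ : b₀ ∈ F₁) (h₀ : a₀ ^ 2 + b₀ ^ 2 = -1)
    (hord : ∀ m ∈ M, m ^ 2 = 1 ∨ m ^ 3 = 1 ∨ (m ^ 5 = 1 ∧ ∀ t : F, t ^ 2 = t + 1 → t ∈ F₁)) :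
    ∃ α : MulAut PSL, M.map α.toMonoidHom ≤ KF F₁ := by
  obtain ⟨α, hJ, hY⟩ := exists_aut_std h2 M hxM hyM hxx hyy hc hx1 hy1 hxy a₀ b₀ h₀
  refine ⟨α, ?_⟩
  apply le_KF h2 F₁ a₀ b₀ ha₀ hb₀ h₀ _ hJ hY
  rintro _ ⟨m, hm, rfl⟩ g hg
  apply trace_mem F₁ g
  rw [hg]
  show (α m) ^ 2 = 1 ∨ (α m) ^ 3 = 1 ∨ ((α m) ^ 5 = 1 ∧ _)
  rcases hord m hm with h | h | ⟨h, h5⟩
  · left; rw [← map_pow, h, map_one]
  · right; left; rw [← map_pow, h, map_one]
  · right; right
    exact ⟨by rw [← map_pow, h, map_one], h5⟩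

/-- the order of a subfield subgroup in odd characteristic -/
theorem card_KF (h2 : (2 : F) ≠ 0) (F₁ : Subfield F) :
    2 * Nat.card (KF F₁) = Nat.card F₁ * (Nat.card F₁ - 1) * (Nat.card F₁ + 1) := by
  classical
  haveI : Fintype ↥F₁ := Fintype.ofFinite _
  obtain ⟨e⟩ := KF_iso F₁
  have h2' : (2 : ↥F₁) ≠ 0 := by
    intro h
    apply h2
    have := congrArg F₁.subtype h
    rw [map_ofNat, map_zero] at this
    exact this
  have h1 := card_psl_two (F := ↥F₁)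
  rw [(gcd_two_of_odd h2').1] at h1
  rw [Nat.card_congr e.toEquiv, h1, Nat.card_eq_fintype_card]

end Cfsg.Agent.Lib.Helper9.PO
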