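import Mathlib
import Cfsg.Agent.Lib.Helper9.PO6

set_option autoImplicit false
set_option linter.unusedSectionVars false

/-!
# Position of subgroups of `PSL₂(F)` isomorphic to `S₄`
-/

namespace Cfsg.Agent.Lib.Helper9.PO

open Cfsg.Agent.Lib.Helper2 Cfsg.Agent.Lib.Helper2.SL2Four Cfsg.Agent.Lib.Helper2.SL2A5
  Cfsg.Agent.Lib.Helper5.PSL2Aut Cfsg.Agent.Lib.Helper2.DSub

set_option maxRecDepth 100000 in
theorem S4_orders : ∀ σ : Equiv.Perm (Fin 4),
    (Equiv.Perm.sign σ = 1 → σ ^ 2 = 1 ∨ σ ^ 3 = 1) ∧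
    (Equiv.Perm.sign σ = -1 → σ ≠ 1 ∧ (σ ^ 2 = 1 ∨ σ ^ 4 = 1)) := by decide

variable {F : Type*} [Field F]

local notation "SL" => Matrix.SpecialLinearGroup (Fin 2) F
local notation "PSL" => Matrix.ProjectiveSpecialLinearGroup (Fin 2) F

/-- entries of the lifts of the elements of a subgroup `S₄` containing the standard four-group
in its even part -/
theorem S4_entries (h2 : (2 : F) ≠ 0) (M : Subgroup PSL) (e : M ≃* Equiv.Perm (Fin 4))
    (F₁ : Subfield F) (a₀ b₀ : F) (ha₀ : a₀ ∈ F₁) (hb₀ : b₀ ∈ F₁) (h₀ : a₀ ^ 2 + b₀ ^ 2 = -1)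
    (s : F) (hs : s ^ 2 = 2)
    (hJ : ∃ h : pi (Jm : SL) ∈ M, Equiv.Perm.sign (e ⟨_, h⟩) = 1)
    (hY : ∃ h : pi (Yab a₀ b₀ h₀) ∈ M, Equiv.Perm.sign (e ⟨_, h⟩) = 1)
    (m : PSL) (hm : m ∈ M) (g : SL) (hg : pi g = m) :
    (∀ i j, (g : Matrix (Fin 2) (Fin 2) F) i j ∈ F₁) ∨
      (∀ i j, ∃ t ∈ F₁, (g : Matrix (Fin 2) (Fin 2) F) i j = s * t) := by
  obtain ⟨hJM, hJs⟩ := hJ
  obtain ⟨hYM, hYs⟩ := hY
  have hpow : ∀ (m : PSL) (hm : m ∈ M) (n : ℕ), (e ⟨m, hm⟩) ^ n = 1 → m ^ n = 1 := by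
    intro m hm n h
    rw [← map_pow] at h
    have := e.injective (h.trans (map_one e).symm)
    exact congrArg Subtype.val this
  have hsign_mul : ∀ (m m' : PSL) (hm : m ∈ M) (hm' : m' ∈ M),
      Equiv.Perm.sign (e ⟨m * m', M.mul_mem hm hm'⟩) =
        Equiv.Perm.sign (e ⟨m, hm⟩) * Equiv.Perm.sign (e ⟨m', hm'⟩) := by
    intro m m' hm hm'
    rw [← map_mul, ← map_mul]
    rfl
  rcases Int.units_eq_one_or (Equiv.Perm.sign (e ⟨m, hm⟩)) with hsg | hsg
  · left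
    intro i j
    obtain ⟨t, ht, e1⟩ := entries_of_closed h2 F₁ a₀ b₀ ha₀ hb₀ h₀ 1
      {m | ∃ h : m ∈ M, Equiv.Perm.sign (e ⟨m, h⟩) = 1}
      (by
        rintro m ⟨hm, hs⟩
        exact ⟨M.mul_mem hm hJM, by rw [hsign_mul m _ hm hJM, hs, hJs, one_mul]⟩)
      (by
        rintro m ⟨hm, hs⟩
        exact ⟨M.mul_mem hm hYM, by rw [hsign_mul m _ hm hYM, hs, hYs, one_mul]⟩)
      (by
        rintro m ⟨hm, hs⟩ g hg
        refine ⟨_, ?_, (one_mul _).symm⟩
        apply trace_mem F₁ g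
        rw [hg]
        rcases (S4_orders (e ⟨m, hm⟩)).1 hs with h | h
        · left; exact hpow m hm 2 h
        · right; left; exact hpow m hm 3 h)
      m ⟨hm, hsg⟩ g hg i j
    rw [e1, one_mul]
    exact ht
  · right
    apply entries_of_closed h2 F₁ a₀ b₀ ha₀ hb₀ h₀ s
      {m | ∃ h : m ∈ M, Equiv.Perm.sign (e ⟨m, h⟩) = -1}
      (by
        rintro m ⟨hm, hs⟩
        exact ⟨M.mul_mem hm hJM, by rw [hsign_mul m _ hm hJM, hs, hJs, mul_one]⟩)
      (by
        rintro m ⟨hm, hs⟩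
        exact ⟨M.mul_mem hm hYM, by rw [hsign_mul m _ hm hYM, hs, hYs, mul_one]⟩)
      (by
        rintro m ⟨hm, hs'⟩ g hg
        obtain ⟨hne, hord⟩ := (S4_orders (e ⟨m, hm⟩)).2 hs'
        have hm1 : pi g ≠ 1 := by
          rw [hg]
          intro h1
          apply hne
          have : (⟨m, hm⟩ : M) = 1 := Subtype.ext h1
          rw [this, map_one]
        by_cases hsq : m ^ 2 = 1
        · refine ⟨0, F₁.zero_mem, ?_⟩
          rw [mul_zero]
          exact trace_of_sq g hm1 (by rw [hg]; exact hsq)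
        · have h4 : m ^ 4 = 1 := by
            rcases hord with h | h
            · exact absurd (hpow m hm 2 h) hsq
            · exact hpow m hm 4 h
          have ht := trace_of_fourth g (by rw [hg]; exact hsq) (by rw [hg]; exact h4)
          have : ((g : Matrix (Fin 2) (Fin 2) F).trace - s) *
              ((g : Matrix (Fin 2) (Fin 2) F).trace + s) = 0 := by
            linear_combination ht - hs
          rcases mul_eq_zero.mp this with h | h
          · exact ⟨1, F₁.one_mem, by linear_combination h⟩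
          · exact ⟨-1, F₁.neg_mem F₁.one_mem, by linear_combination h⟩)
      m ⟨hm, hsg⟩ g hg

end Cfsg.Agent.Lib.Helper9.PO
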