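import Mathlib
import Cfsg.Agent.Lib.Helper9.PO7

set_option autoImplicit false
set_option linter.unusedSectionVars false

/-!
# The subgroup `PGL₂(p)` of `PSL₂(F)` when all elements of the prime field are squares
-/

namespace Cfsg.Agent.Lib.Helper9.PO

open Cfsg.Agent.Lib.Helper2 Cfsg.Agent.Lib.Helper2.SL2Four Cfsg.Agent.Lib.Helper2.SL2A5
  Cfsg.Agent.Lib.Helper5.PSL2Aut Cfsg.Agent.Lib.Helper2.DSub

variable {F : Type*} [Field F] (p : ℕ) [Fact p.Prime] [CharP F p]

local notation "SL" => Matrix.SpecialLinearGroup (Fin 2) F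
local notation "PSL" => Matrix.ProjectiveSpecialLinearGroup (Fin 2) F

/-- if `2` has a square root outside the prime field, all elements of the prime field are
squares -/
theorem hsq_of_sqrt_two (hp2 : p ≠ 2) (s : F) (hs : s ^ 2 = 2) (hns : s ∉ primeSub (F := F) p) :
    ∀ d : ZMod p, d ≠ 0 → ∃ r : F, r * r = iot p d := by
  classical
  have h2F : (2 : F) ≠ 0 := by
    intro h
    have h1 : ((2 : ℕ) : F) = 0 := by exact_mod_cast h
    rw [CharP.cast_eq_zero_iff F p] at h1
    exact hp2 ((Nat.prime_dvd_prime_iff_eq (Fact.out : p.Prime) Nat.prime_two).mp h1)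
  have hs0 : s ≠ 0 := by
    rintro rfl
    apply h2F
    rw [← hs]
    ring
  have h2ns : ¬ IsSquare (2 : ZMod p) := by
    rintro ⟨t, ht⟩
    have e : iot (F := F) p t * iot p t = s ^ 2 := by
      rw [← map_mul, ← ht, hs, map_ofNat]
    have : (s - iot p t) * (s + iot p t) = 0 := by linear_combination -e
    rcases mul_eq_zero.mp this with h | h
    · apply hns
      have : s = iot p t := by linear_combination h
      rw [this]
      exact iot_mem p t
    · apply hns
      have : s = iot p (-t) := by rw [map_neg]; linear_combination h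
      rw [this]
      exact iot_mem p _
  intro d hd
  by_cases hdsq : IsSquare d
  · obtain ⟨t, ht⟩ := hdsq
    exact ⟨iot p t, by rw [← map_mul, ← ht]⟩
  · have h1 : quadraticChar (ZMod p) d = -1 := quadraticChar_neg_one_iff_not_isSquare.mpr hdsq
    have h2 : quadraticChar (ZMod p) 2 = -1 := quadraticChar_neg_one_iff_not_isSquare.mpr h2ns
    have h20 : (2 : ZMod p) ≠ 0 := by
      intro h
      apply h2ns
      rw [h]
      exact IsSquare.zero
    have h3 : quadraticChar (ZMod p) (d * 2) = 1 := by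
      rw [map_mul, h1, h2]
      norm_num
    obtain ⟨t, ht⟩ := (quadraticChar_one_iff_isSquare (mul_ne_zero hd h20)).mp h3
    refine ⟨iot p t / s, ?_⟩
    have e : iot (F := F) p t * iot p t = iot p d * 2 := by
      rw [← map_mul, ← ht, map_mul, map_ofNat]
    field_simp
    rw [hs]
    linear_combination e

variable [Fintype F] [DecidableEq F]

/-- an element of `SL₂(F)` which is a scalar multiple of a matrix over the prime field lies in
the image of `GL₂(p)` -/
theorem mem_range_psi (hsq : ∀ d : ZMod p, d ≠ 0 → ∃ r : F, r * r = iot p d) (s : F)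
    (c : ZMod p) (hsc : s * s = iot p c) (g : SL)
    (h : ∀ i j, ∃ t ∈ primeSub (F := F) p, (g : Matrix (Fin 2) (Fin 2) F) i j = s * t) :
    pi g ∈ (PGLsub.ψ (iot (F := F) p) hsq).range := by
  choose t ht hgt using h
  choose u hu using fun i j => (mem_primeSub p _).mp (ht i j)
  set T : Matrix (Fin 2) (Fin 2) (ZMod p) := Matrix.of u with hT
  have hmap : (iot (F := F) p).mapMatrix T = Matrix.of t := by
    ext i j
    exact hu i j
  have hgmat : (g : Matrix (Fin 2) (Fin 2) F) = s • (iot (F := F) p).mapMatrix T := by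
    rw [hmap]
    ext i j
    rw [hgt i j]
    rfl
  have hdet : iot (F := F) p (c * T.det) = 1 := by
    have h1 := g.2
    rw [hgmat, Matrix.det_smul, Fintype.card_fin, ← RingHom.map_det] at h1
    rw [map_mul, ← hsc, ← pow_two]
    exact h1
  have hcd : c * T.det = 1 := by
    apply (iot (F := F) p).injective
    rw [hdet, map_one]
  have hT0 : T.det ≠ 0 := by
    intro h0
    rw [h0, mul_zero] at hcd
    exact zero_ne_one hcd
  have hs0 : s ≠ 0 := by
    rintro rfl
    rw [mul_zero] at hsc
    have : c = 0 := (iot (F := F) p).injective (by rw [← hsc, map_zero])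
    rw [this, zero_mul] at hcd
    exact zero_ne_one hcd
  set g₀ : GL (Fin 2) (ZMod p) := Matrix.GeneralLinearGroup.mkOfDetNeZero T hT0 with hg₀
  have hr : s⁻¹ * s⁻¹ = iot (F := F) p ((g₀ : Matrix (Fin 2) (Fin 2) (ZMod p)).det) := by
    show s⁻¹ * s⁻¹ = iot (F := F) p T.det
    have h1 : iot (F := F) p c * iot p T.det = 1 := by rw [← map_mul, hdet]
    rw [← hsc] at h1
    field_simp
    linear_combination -h1
  refine ⟨g₀, ?_⟩
  show PGLsub.ψfun (iot (F := F) p) hsq g₀ = pi g
  rw [PGLsub.ψfun_eq (iot (F := F) p) hsq g₀ s⁻¹ hr]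
  show pi _ = pi g
  congr 1
  apply Subtype.ext
  show (s⁻¹)⁻¹ • (iot (F := F) p).mapMatrix T = _
  rw [inv_inv, hgmat]

theorem range_psi_iso (hsq : ∀ d : ZMod p, d ≠ 0 → ∃ r : F, r * r = iot p d) :
    Nonempty ((PGLsub.ψ (iot (F := F) p) hsq).range ≃* Matrix.ProjGenLinGroup (Fin 2) (ZMod p)) :=
  ⟨(QuotientGroup.quotientKerEquivRange (PGLsub.ψ (iot (F := F) p) hsq)).symm.trans
    (QuotientGroup.quotientMulEquivOfEq (PGLsub.ker_ψ (iot (F := F) p) hsq))⟩

theorem card_range_psi (hsq : ∀ d : ZMod p, d ≠ 0 → ∃ r : F, r * r = iot p d) :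
    Nat.card (PGLsub.ψ (iot (F := F) p) hsq).range = p * (p - 1) * (p + 1) := by
  obtain ⟨e⟩ := range_psi_iso p hsq
  rw [Nat.card_congr e.toEquiv, card_pgl_two, ZMod.card]

end Cfsg.Agent.Lib.Helper9.PO
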