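import Mathlib
import Cfsg.Agent.Lib.Helper9.PO8

set_option autoImplicit false
set_option linter.unusedSectionVars false

/-!
# Maximal subgroups of `PSL₂(q)`, `q` odd: general set-up and the case `A₅`
-/

namespace Cfsg.Agent.Lib.Helper9.PO

open Cfsg.Agent.Lib.Helper2 Cfsg.Agent.Lib.Helper2.SL2Four Cfsg.Agent.Lib.Helper2.SL2A5
  Cfsg.Agent.Lib.Helper5.PSL2Aut Cfsg.Agent.Lib.Helper2.DSub Cfsg.Agent.Lib.Helper9.H9PM

theorem card_f_inj {s t : ℕ} (hs : 1 ≤ s) (ht : 1 ≤ t)
    (h : s * (s - 1) * (s + 1) = t * (t - 1) * (t + 1)) : s = t := by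
  rcases Nat.lt_trichotomy s t with h1 | h1 | h1
  · have := card_f_lt hs h1; omega
  · exact h1
  · have := card_f_lt ht h1; omega

theorem card_f_mono {s t : ℕ} (hs : 1 ≤ s) (h : s ≤ t) :
    s * (s - 1) * (s + 1) ≤ t * (t - 1) * (t + 1) := by
  rcases Nat.eq_or_lt_of_le h with h1 | h1
  · rw [h1]
  · exact (card_f_lt hs h1).le

variable {F : Type*} [Field F] [Fintype F] (p : ℕ) [Fact p.Prime] [CharP F p]

local notation "SL" => Matrix.SpecialLinearGroup (Fin 2) F
local notation "PSL" => Matrix.ProjectiveSpecialLinearGroup (Fin 2) F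

theorem exists_std_pair :
    ∃ a₀ b₀ : F, a₀ ∈ primeSub (F := F) p ∧ b₀ ∈ primeSub (F := F) p ∧
      a₀ ^ 2 + b₀ ^ 2 = -1 := by
  obtain ⟨a, b, hab⟩ := exists_sq_add_sq' (K := ZMod p) (-1)
  refine ⟨iot p a, iot p b, iot_mem p a, iot_mem p b, ?_⟩
  rw [← map_pow, ← map_pow, ← map_add, hab, map_neg, map_one]

theorem card_G (h2 : (2 : F) ≠ 0) :
    2 * Nat.card PSL = Fintype.card F * (Fintype.card F - 1) * (Fintype.card F + 1) := by
  have h1 := card_psl_two (F := F)
  rw [(gcd_two_of_odd h2).1] at h1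
  exact h1

theorem card_sub_pos (F₁ : Subfield F) : 2 ≤ Nat.card F₁ := by
  haveI : Fintype ↥F₁ := Fintype.ofFinite _
  rw [Nat.card_eq_fintype_card]
  exact Fintype.one_lt_card

/-- a maximal subgroup inside a subfield subgroup -/
theorem coatom_KF_cases (h2 : (2 : F) ≠ 0) (M : Subgroup PSL) (hM : IsCoatom M)
    (F₁ : Subfield F) (hle : M ≤ KF F₁) :
    Nat.card F₁ = Fintype.card F ∨
      2 * Nat.card M = Nat.card F₁ * (Nat.card F₁ - 1) * (Nat.card F₁ + 1) := by
  classical
  have hc := card_KF h2 F₁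
  rcases hM.le_iff.mp hle with h | h
  · left
    rw [h, Subgroup.card_top, card_G h2] at hc
    have hq : 2 ≤ Fintype.card F := Fintype.one_lt_card
    have := card_sub_pos F₁
    exact (card_f_inj (by omega) (by omega) hc).symm
  · right
    rw [h] at hc
    exact hc

theorem primeSub_le (F₁ : Subfield F) : primeSub (F := F) p ≤ F₁ := by
  intro x hx
  obtain ⟨a, rfl⟩ := (mem_primeSub p x).mp hx
  have : iot (F := F) p a = ((a.val : ℕ) : F) := by
    rw [← map_natCast (iot (F := F) p), ZMod.natCast_zmod_val]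
  rw [this]
  exact natCast_mem F₁ _

/-- the characteristic divides the order of a subfield -/
theorem char_dvd_card_sub (F₁ : Subfield F) : p ∣ Nat.card F₁ := by
  haveI : Fintype ↥F₁ := Fintype.ofFinite _
  have h := Nat.cast_card_eq_zero (R := ↥F₁)
  have h' : ((Nat.card ↥F₁ : ℕ) : F) = 0 := by
    have := congrArg F₁.subtype h
    rw [map_natCast, map_zero] at this
    rw [Nat.card_eq_fintype_card]
    exact this
  exact (CharP.cast_eq_zero_iff F p _).mp h'

end Cfsg.Agent.Lib.Helper9.PO
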