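import Mathlib
import Cfsg.Agent.Lib.Helper9.PO9

set_option autoImplicit false
set_option linter.unusedSectionVars false

/-!
# Maximal subgroups of `PSL₂(q)`, `q` odd, isomorphic to `A₅` (characteristic not `5`)
-/

namespace Cfsg.Agent.Lib.Helper9.PO

open Cfsg.Agent.Lib.Helper2 Cfsg.Agent.Lib.Helper2.SL2Four Cfsg.Agent.Lib.Helper2.SL2A5
  Cfsg.Agent.Lib.Helper5.PSL2Aut Cfsg.Agent.Lib.Helper2.DSub Cfsg.Agent.Lib.Helper9.H9PM

set_option maxRecDepth 100000 in
theorem A5_invols : ∃ a b : alternatingGroup (Fin 5),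
    a * a = 1 ∧ b * b = 1 ∧ a * b = b * a ∧ a ≠ 1 ∧ b ≠ 1 ∧ a ≠ b :=
  ⟨⟨Equiv.swap 0 1 * Equiv.swap 2 3, Equiv.Perm.mem_alternatingGroup.mpr (by decide)⟩,
    ⟨Equiv.swap 0 2 * Equiv.swap 1 3, Equiv.Perm.mem_alternatingGroup.mpr (by decide)⟩,
    by decide⟩

set_option maxRecDepth 100000 in
theorem A5_orders : ∀ σ : alternatingGroup (Fin 5), σ ^ 2 = 1 ∨ σ ^ 3 = 1 ∨ σ ^ 5 = 1 := by
  decide

set_option maxRecDepth 100000 in
theorem A5_five : ∃ σ : alternatingGroup (Fin 5), σ ≠ 1 ∧ σ ^ 5 = 1 :=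
  ⟨⟨finRotate 5, Equiv.Perm.mem_alternatingGroup.mpr (by decide)⟩, by decide⟩

/-- the golden ratio modulo `p` -/
theorem exists_golden (p : ℕ) [Fact p.Prime] (hp : p % 10 = 1 ∨ p % 10 = 9) :
    ∃ r : ZMod p, r ^ 2 = r + 1 := by
  haveI : Fact (Nat.Prime 5) := ⟨Nat.prime_five⟩
  have hp2 : p ≠ 2 := by rintro rfl; omega
  have hsq5 : IsSquare ((p : ℕ) : ZMod 5) := by
    rw [← ZMod.natCast_mod p 5]
    have : p % 5 = 1 ∨ p % 5 = 4 := by omega
    rcases this with h | h <;> rw [h]
    · exact ⟨1, by norm_num⟩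
    · exact ⟨2, by norm_num⟩
  obtain ⟨t, ht⟩ := (ZMod.exists_sq_eq_prime_iff_of_mod_four_eq_one (p := 5) (q := p)
    (by norm_num) hp2).mp hsq5
  have h20 : (2 : ZMod p) ≠ 0 := by
    intro h
    have h1 : ((2 : ℕ) : ZMod p) = 0 := by exact_mod_cast h
    rw [ZMod.natCast_eq_zero_iff] at h1
    exact hp2 ((Nat.prime_dvd_prime_iff_eq (Fact.out : p.Prime) Nat.prime_two).mp h1)
  refine ⟨(1 + t) / 2, ?_⟩
  have ht' : t * t = 5 := by rw [← ht]; norm_num
  field_simp
  linear_combination ht'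

variable {F : Type*} [Field F] [Fintype F] (p : ℕ) [Fact p.Prime] [CharP F p]

local notation "SL" => Matrix.SpecialLinearGroup (Fin 2) F
local notation "PSL" => Matrix.ProjectiveSpecialLinearGroup (Fin 2) F

theorem A5_case (hodd : Odd (Fintype.card F)) (hp5 : p ≠ 5) (M : Subgroup PSL)
    (hM : IsCoatom M) (e : M ≃* alternatingGroup (Fin 5)) :
    (Fintype.card F % 10 = 1 ∨ Fintype.card F % 10 = 9) ∧
      (Fintype.card F = p ∨ (Fintype.card F = p ^ 2 ∧ (p % 10 = 3 ∨ p % 10 = 7))) := by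
  classical
  have hpp : p.Prime := Fact.out
  have h2 : (2 : F) ≠ 0 := Cfsg.Agent.Lib.Helper1.two_ne_zero_of_odd_card hodd
  obtain ⟨⟨f, hf0⟩, -, hqf⟩ := FiniteField.card F p
  have hqf' : Fintype.card F = p ^ f := hqf
  have hf1 : 1 ≤ f := hf0
  haveI := finite_psl (F := F)
  have hp2 : p ≠ 2 := by
    rintro rfl
    rw [hqf'] at hodd
    have : Even (2 ^ f) := (Nat.even_pow).mpr ⟨even_two, by omega⟩
    exact (Nat.not_odd_iff_even.mpr this) hodd
  have hcardM : Nat.card M = 60 := by rw [Nat.card_congr e.toEquiv, card_A5]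
  -- transport of elements
  have hmem : ∀ σ : alternatingGroup (Fin 5), ((e.symm σ : M) : PSL) ∈ M := fun σ => (e.symm σ).2
  obtain ⟨a, b, haa, hbb, hab, ha1, hb1, hne⟩ := A5_invols
  have hval : ∀ σ τ : alternatingGroup (Fin 5), ((e.symm σ : M) : PSL) = ((e.symm τ : M) : PSL) →
      σ = τ := fun σ τ h => e.symm.injective (Subtype.ext h)
  have hxx : ((e.symm a : M) : PSL) * ((e.symm a : M) : PSL) = 1 := by
    rw [← Subgroup.coe_mul, ← map_mul, haa, map_one]; rfl
  have hyy : ((e.symm b : M) : PSL) * ((e.symm b : M) : PSL) = 1 := by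
    rw [← Subgroup.coe_mul, ← map_mul, hbb, map_one]; rfl
  have hc : ((e.symm a : M) : PSL) * ((e.symm b : M) : PSL) =
      ((e.symm b : M) : PSL) * ((e.symm a : M) : PSL) := by
    rw [← Subgroup.coe_mul, ← map_mul, hab, map_mul, Subgroup.coe_mul]
  have hx1 : ((e.symm a : M) : PSL) ≠ 1 := by
    intro h
    apply ha1
    apply hval
    rw [h, map_one]; rfl
  have hy1 : ((e.symm b : M) : PSL) ≠ 1 := by
    intro h
    apply hb1
    apply hval
    rw [h, map_one]; rfl
  have hxy : ((e.symm a : M) : PSL) ≠ ((e.symm b : M) : PSL) := fun h => hne (hval _ _ h)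
  -- the golden ratio in `F`
  obtain ⟨σ, hσ1, hσ5⟩ := A5_five
  obtain ⟨τ, hτ⟩ : ∃ τ : F, τ ^ 2 = τ + 1 := by
    obtain ⟨g, hg⟩ := pi_surjective ((e.symm σ : M) : PSL)
    have h1 : pi g ≠ 1 := by
      rw [hg]
      intro h
      apply hσ1
      apply hval
      rw [h, map_one]; rfl
    have h5 : (pi g) ^ 5 = 1 := by
      rw [hg, ← Subgroup.coe_pow, ← map_pow, hσ5, map_one]; rfl
    rcases trace_of_fifth g h1 h5 with ht | ht
    · exact ⟨_, ht⟩
    · exact ⟨-(g : Matrix (Fin 2) (Fin 2) F).trace, by linear_combination ht⟩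
  have hτ' : τ ^ 2 = iot p 1 * τ + iot p 1 := by rw [map_one, one_mul]; exact hτ
  set F₁ := quadSub p 1 1 τ hτ' with hF₁
  have hroots : ∀ t : F, t ^ 2 = t + 1 → t ∈ F₁ := by
    intro t ht
    have : (t - τ) * (t - (1 - τ)) = 0 := by linear_combination ht - hτ
    rcases mul_eq_zero.mp this with h | h
    · have : t = τ := by linear_combination h
      rw [this]
      exact root_mem_quadSub p 1 1 τ hτ'
    · have : t = 1 - τ := by linear_combination h
      rw [this]
      exact F₁.sub_mem F₁.one_mem (root_mem_quadSub p 1 1 τ hτ')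
  obtain ⟨a₀, b₀, ha₀, hb₀, h₀⟩ := exists_std_pair (F := F) p
  have hord : ∀ m ∈ M, m ^ 2 = 1 ∨ m ^ 3 = 1 ∨
      (m ^ 5 = 1 ∧ ∀ t : F, t ^ 2 = t + 1 → t ∈ F₁) := by
    intro m hm
    have key : ∀ n : ℕ, (e ⟨m, hm⟩) ^ n = 1 → m ^ n = 1 := by
      intro n h
      rw [← map_pow] at h
      have := e.injective (h.trans (map_one e).symm)
      exact congrArg Subtype.val this
    rcases A5_orders (e ⟨m, hm⟩) with h | h | h
    · left; exact key 2 h
    · right; left; exact key 3 h
    · right; right; exact ⟨key 5 h, hroots⟩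
  obtain ⟨α, hle⟩ := exists_aut_le_KF h2 M (hmem a) (hmem b) hxx hyy hc hx1 hy1 hxy F₁ a₀ b₀
    (primeSub_le p F₁ ha₀) (primeSub_le p F₁ hb₀) h₀ hord
  have hM' := isCoatom_map_equiv α M hM
  have hcardM' : Nat.card (M.map α.toMonoidHom) = 60 := by
    rw [Subgroup.card_map_of_injective α.injective, hcardM]
  have hq1 : 2 ≤ Fintype.card F := Fintype.one_lt_card
  -- `5` divides the order
  have h5G : 5 ∣ Fintype.card F * (Fintype.card F - 1) * (Fintype.card F + 1) := by
    rw [← card_G h2]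
    have : 5 ∣ Nat.card M := by rw [hcardM]; norm_num
    exact Dvd.dvd.mul_left (this.trans (Subgroup.card_subgroup_dvd_card M)) 2
  have h5q : ¬ 5 ∣ Fintype.card F := by
    rw [hqf']
    intro h
    have := Nat.Prime.dvd_of_dvd_pow Nat.prime_five h
    exact hp5 ((Nat.prime_dvd_prime_iff_eq Nat.prime_five hpp).mp this).symm
  have hmod10 : Fintype.card F % 10 = 1 ∨ Fintype.card F % 10 = 9 := by
    have hoddq : Fintype.card F % 2 = 1 := Nat.odd_iff.mp hodd
    rcases (Nat.Prime.dvd_mul Nat.prime_five).mp h5G with h | h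
    · rcases (Nat.Prime.dvd_mul Nat.prime_five).mp h with h | h
      · exact absurd h h5q
      · obtain ⟨w, hw⟩ := h; omega
    · obtain ⟨w, hw⟩ := h; omega
  refine ⟨hmod10, ?_⟩
  rcases coatom_KF_cases h2 _ hM' F₁ hle with hq | hq
  · -- `|F₁| = q`
    have hle2 := card_quadSub_le p 1 1 τ hτ'
    rw [hq, hqf'] at hle2
    have hf2 : f ≤ 2 := (Nat.pow_le_pow_iff_right hpp.one_lt).mp hle2
    rcases Nat.eq_or_lt_of_le hf2 with hf | hf
    · right
      subst hf
      refine ⟨hqf', ?_⟩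
      by_contra hcon
      have hp10 : p % 10 = 1 ∨ p % 10 = 9 := by
        have hpodd : p % 2 = 1 := by
          rcases hpp.eq_two_or_odd with h | h
          · exact absurd h hp2
          · exact h
        have : p % 5 ≠ 0 := by
          intro h
          exact hp5 ((Nat.prime_dvd_prime_iff_eq Nat.prime_five hpp).mp
            (Nat.dvd_of_mod_eq_zero h)).symm
        omega
      obtain ⟨r, hr⟩ := exists_golden p hp10
      have hr' : (iot (F := F) p r) ^ 2 = iot p r + 1 := by
        rw [← map_pow, hr, map_add, map_one]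
      have hτmem : τ ∈ primeSub (F := F) p := by
        have : (τ - iot p r) * (τ - (1 - iot p r)) = 0 := by linear_combination hτ - hr'
        rcases mul_eq_zero.mp this with h | h
        · have : τ = iot p r := by linear_combination h
          rw [this]
          exact iot_mem p r
        · have : τ = iot p (1 - r) := by rw [map_sub, map_one]; linear_combination h
          rw [this]
          exact iot_mem p _
      have hsub : (F₁ : Set F) ⊆ (primeSub (F := F) p : Set F) := by
        rintro x ⟨c, d, rfl⟩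
        exact (primeSub (F := F) p).add_mem (iot_mem p c)
          ((primeSub (F := F) p).mul_mem (iot_mem p d) hτmem)
      have hcard := Nat.card_mono (Set.toFinite _) hsub
      have e1 : Nat.card (F₁ : Set F) = p ^ 2 := by rw [← hqf']; exact hq
      have e2 : Nat.card ((primeSub (F := F) p : Subfield F) : Set F) = p := card_primeSub p
      rw [e1, e2] at hcard
      have := hpp.one_lt
      nlinarith
    · left
      have : f = 1 := by omega
      rw [hqf', this, pow_one]
  · -- `|F₁| (|F₁|² - 1) = 120`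
    exfalso
    rw [hcardM'] at hq
    have hF5 : Nat.card F₁ = 5 := by
      have h1 := card_sub_pos F₁
      exact (card_f_inj (by norm_num) (by omega) (by rw [← hq])).symm
    have := char_dvd_card_sub p F₁
    rw [hF5] at this
    exact hp5 ((Nat.prime_dvd_prime_iff_eq hpp Nat.prime_five).mp this)

end Cfsg.Agent.Lib.Helper9.PO
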