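import Mathlib
import Cfsg.Agent.Lib.Helper9.PO10
import Cfsg.Agent.Lib.Helper2.SL2Klein5

set_option autoImplicit false
set_option linter.unusedSectionVars false

/-!
# Maximal subgroups of `PSL₂(q)`, `q` odd, isomorphic to `A₄` or `S₄`: the field is prime
-/

namespace Cfsg.Agent.Lib.Helper9.PO

open Cfsg.Agent.Lib.Helper2 Cfsg.Agent.Lib.Helper2.SL2Four Cfsg.Agent.Lib.Helper2.SL2A5
  Cfsg.Agent.Lib.Helper5.PSL2Aut Cfsg.Agent.Lib.Helper2.DSub Cfsg.Agent.Lib.Helper9.H9PM

set_option maxRecDepth 100000 in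
theorem A4_invols : ∃ a b : alternatingGroup (Fin 4),
    a * a = 1 ∧ b * b = 1 ∧ a * b = b * a ∧ a ≠ 1 ∧ b ≠ 1 ∧ a ≠ b :=
  ⟨⟨Equiv.swap 0 1 * Equiv.swap 2 3, Equiv.Perm.mem_alternatingGroup.mpr (by decide)⟩,
    ⟨Equiv.swap 0 2 * Equiv.swap 1 3, Equiv.Perm.mem_alternatingGroup.mpr (by decide)⟩,
    by decide⟩

set_option maxRecDepth 100000 in
theorem A4_orders : ∀ σ : alternatingGroup (Fin 4), σ ^ 2 = 1 ∨ σ ^ 3 = 1 := by
  decide

set_option maxRecDepth 100000 in
theorem S4_invols : ∃ a b : Equiv.Perm (Fin 4),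
    a * a = 1 ∧ b * b = 1 ∧ a * b = b * a ∧ a ≠ 1 ∧ b ≠ 1 ∧ a ≠ b ∧
      Equiv.Perm.sign a = 1 ∧ Equiv.Perm.sign b = 1 :=
  ⟨Equiv.swap 0 1 * Equiv.swap 2 3, Equiv.swap 0 2 * Equiv.swap 1 3, by decide⟩

theorem card_f_sq_gt (p : ℕ) (hp : 2 ≤ p) :
    2 * (p * (p - 1) * (p + 1)) < p ^ 2 * (p ^ 2 - 1) * (p ^ 2 + 1) := by
  obtain ⟨n, rfl⟩ : ∃ n, p = n + 2 := ⟨p - 2, by omega⟩
  have e1 : n + 2 - 1 = n + 1 := by omega
  have e2 : (n + 2) ^ 2 - 1 = n ^ 2 + 4 * n + 3 := by
    have : (n + 2) ^ 2 = n ^ 2 + 4 * n + 3 + 1 := by ring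
    omega
  rw [e1, e2]
  nlinarith [Nat.zero_le n, Nat.zero_le (n ^ 2), Nat.zero_le (n ^ 3)]

variable {F : Type*} [Field F] [Fintype F] (p : ℕ) [Fact p.Prime] [CharP F p]

local notation "SL" => Matrix.SpecialLinearGroup (Fin 2) F
local notation "PSL" => Matrix.ProjectiveSpecialLinearGroup (Fin 2) F

/-- transport of a pair of commuting involutions along an isomorphism onto a subgroup -/
theorem transport_invols {G : Type*} [Group G] (M : Subgroup G) {A : Type*} [Group A]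
    (e : M ≃* A) {a b : A} (haa : a * a = 1) (hbb : b * b = 1) (hab : a * b = b * a)
    (ha1 : a ≠ 1) (hb1 : b ≠ 1) (hne : a ≠ b) :
    ((e.symm a : M) : G) * ((e.symm a : M) : G) = 1 ∧
    ((e.symm b : M) : G) * ((e.symm b : M) : G) = 1 ∧
    ((e.symm a : M) : G) * ((e.symm b : M) : G) = ((e.symm b : M) : G) * ((e.symm a : M) : G) ∧
    ((e.symm a : M) : G) ≠ 1 ∧ ((e.symm b : M) : G) ≠ 1 ∧
    ((e.symm a : M) : G) ≠ ((e.symm b : M) : G) := by
  have hval : ∀ σ τ : A, ((e.symm σ : M) : G) = ((e.symm τ : M) : G) → σ = τ :=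
    fun σ τ h => e.symm.injective (Subtype.ext h)
  refine ⟨?_, ?_, ?_, ?_, ?_, ?_⟩
  · rw [← Subgroup.coe_mul, ← map_mul, haa, map_one]; rfl
  · rw [← Subgroup.coe_mul, ← map_mul, hbb, map_one]; rfl
  · rw [← Subgroup.coe_mul, ← map_mul, hab, map_mul, Subgroup.coe_mul]
  · intro h
    apply ha1
    apply hval
    rw [h, map_one]; rfl
  · intro h
    apply hb1
    apply hval
    rw [h, map_one]; rfl
  · exact fun h => hne (hval _ _ h)

theorem pow_eq_one_of_iso {G : Type*} [Group G] (M : Subgroup G) {A : Type*} [Group A]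
    (e : M ≃* A) (m : G) (hm : m ∈ M) (n : ℕ) (h : (e ⟨m, hm⟩) ^ n = 1) : m ^ n = 1 := by
  rw [← map_pow] at h
  have := e.injective (h.trans (map_one e).symm)
  exact congrArg Subtype.val this

/-- transport of an isomorphism along an automorphism -/
theorem exists_iso_map {G : Type*} [Group G] (α : MulAut G) (M : Subgroup G) {A : Type*} [Group A]
    (e : M ≃* A) :
    ∃ e' : (M.map α.toMonoidHom) ≃* A, ∀ (x : G) (hx : x ∈ M),
      e' ⟨α x, Subgroup.mem_map_of_mem _ hx⟩ = e ⟨x, hx⟩ := by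
  refine ⟨(M.equivMapOfInjective α.toMonoidHom α.injective).symm.trans e, ?_⟩
  intro x hx
  rw [MulEquiv.trans_apply]
  congr 1
  rw [MulEquiv.symm_apply_eq]
  exact Subtype.ext rfl

theorem A4_case_field (hodd : Odd (Fintype.card F)) (hp3 : p ≠ 3) (M : Subgroup PSL)
    (hM : IsCoatom M) (e : M ≃* alternatingGroup (Fin 4)) : Fintype.card F = p := by
  classical
  have hpp : p.Prime := Fact.out
  have h2 : (2 : F) ≠ 0 := Cfsg.Agent.Lib.Helper1.two_ne_zero_of_odd_card hodd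
  haveI := finite_psl (F := F)
  have hcardM : Nat.card M = 12 := by
    rw [Nat.card_congr e.toEquiv, nat_card_alternatingGroup, Nat.card_eq_fintype_card,
      Fintype.card_fin]
    rfl
  obtain ⟨a, b, haa, hbb, hab, ha1, hb1, hne⟩ := A4_invols
  obtain ⟨hxx, hyy, hc, hx1, hy1, hxy⟩ := transport_invols M e haa hbb hab ha1 hb1 hne
  obtain ⟨a₀, b₀, ha₀, hb₀, h₀⟩ := exists_std_pair (F := F) p
  have hord : ∀ m ∈ M, m ^ 2 = 1 ∨ m ^ 3 = 1 ∨
      (m ^ 5 = 1 ∧ ∀ t : F, t ^ 2 = t + 1 → t ∈ primeSub (F := F) p) := by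
    intro m hm
    rcases A4_orders (e ⟨m, hm⟩) with h | h
    · left; exact pow_eq_one_of_iso M e m hm 2 h
    · right; left; exact pow_eq_one_of_iso M e m hm 3 h
  obtain ⟨α, hle⟩ := exists_aut_le_KF h2 M (e.symm a).2 (e.symm b).2 hxx hyy hc hx1 hy1 hxy
    (primeSub (F := F) p) a₀ b₀ ha₀ hb₀ h₀ hord
  have hM' := isCoatom_map_equiv α M hM
  have hcardM' : Nat.card (M.map α.toMonoidHom) = 12 := by
    rw [Subgroup.card_map_of_injective α.injective, hcardM]
  rcases coatom_KF_cases h2 _ hM' _ hle with hq | hq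
  · rw [← hq, card_primeSub]
  · exfalso
    rw [hcardM', card_primeSub] at hq
    have : p = 3 := (card_f_inj (by norm_num) hpp.one_lt.le (by rw [← hq])).symm
    exact hp3 this

theorem S4_case_field (hodd : Odd (Fintype.card F)) (hp3 : p ≠ 3) (M : Subgroup PSL)
    (hM : IsCoatom M) (e : M ≃* Equiv.Perm (Fin 4)) : Fintype.card F = p := by
  classical
  have hpp : p.Prime := Fact.out
  have h2 : (2 : F) ≠ 0 := Cfsg.Agent.Lib.Helper1.two_ne_zero_of_odd_card hodd
  haveI := finite_psl (F := F)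
  obtain ⟨⟨f, hf0⟩, -, hqf⟩ := FiniteField.card F p
  have hqf' : Fintype.card F = p ^ f := hqf
  have hf1 : 1 ≤ f := hf0
  have hp2 : p ≠ 2 := by
    rintro rfl
    rw [hqf'] at hodd
    have : Even (2 ^ f) := (Nat.even_pow).mpr ⟨even_two, by omega⟩
    exact (Nat.not_odd_iff_even.mpr this) hodd
  have hp5 : 5 ≤ p := by
    have := hpp.two_le
    by_contra hlt
    have h4 : p ≠ 4 := by
      rintro rfl
      exact absurd hpp (by norm_num)
    omega
  have hcardM : Nat.card M = 24 := by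
    rw [Nat.card_congr e.toEquiv, Nat.card_eq_fintype_card, Fintype.card_perm, Fintype.card_fin]
    rfl
  -- a square root of `2`
  have h8 : 8 ∣ Nat.card PSL := by
    have : 8 ∣ Nat.card M := by rw [hcardM]; norm_num
    exact this.trans (Subgroup.card_subgroup_dvd_card M)
  have hq8 : Fintype.card F % 8 ≠ 3 ∧ Fintype.card F % 8 ≠ 5 := by
    constructor
    · intro h
      exact SL2Klein.not_eight_dvd (SL2Klein.two_mul_card_PSL2 hodd) (Or.inl h) h8
    · intro h
      exact SL2Klein.not_eight_dvd (SL2Klein.two_mul_card_PSL2 hodd) (Or.inr h) h8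
  obtain ⟨s, hs⟩ := FiniteField.isSquare_two_iff.mpr hq8
  have hs' : s ^ 2 = 2 := by rw [pow_two, ← hs]
  obtain ⟨a, b, haa, hbb, hab, ha1, hb1, hne, hsa, hsb⟩ := S4_invols
  obtain ⟨hxx, hyy, hc, hx1, hy1, hxy⟩ := transport_invols M e haa hbb hab ha1 hb1 hne
  obtain ⟨a₀, b₀, ha₀, hb₀, h₀⟩ := exists_std_pair (F := F) p
  obtain ⟨α, hαJ, hαY⟩ := exists_aut_std_eq h2 hxx hyy hc hx1 hy1 hxy a₀ b₀ h₀
  have hMp : IsCoatom (M.map α.toMonoidHom) := isCoatom_map_equiv α M hM
  have hcardMp : Nat.card (M.map α.toMonoidHom) = 24 := by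
    rw [Subgroup.card_map_of_injective α.injective, hcardM]
  obtain ⟨e', he'⟩ := exists_iso_map α M e
  have hJ : ∃ h : pi (Jm : SL) ∈ (M.map α.toMonoidHom), Equiv.Perm.sign (e' ⟨_, h⟩) = 1 := by
    have hmem : pi (Jm : SL) ∈ (M.map α.toMonoidHom) := ⟨_, (e.symm a).2, hαJ⟩
    refine ⟨hmem, ?_⟩
    have h1 := he' _ (e.symm a).2
    have h3 : (⟨pi (Jm : SL), hmem⟩ : (M.map α.toMonoidHom)) =
        ⟨α ((e.symm a : M) : PSL), Subgroup.mem_map_of_mem _ (e.symm a).2⟩ :=
      Subtype.ext hαJ.symm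
    rw [h3, h1]
    have : (⟨((e.symm a : M) : PSL), (e.symm a).2⟩ : M) = e.symm a := rfl
    rw [this, MulEquiv.apply_symm_apply]
    exact hsa
  have hY : ∃ h : pi (Yab a₀ b₀ h₀) ∈ (M.map α.toMonoidHom),
      Equiv.Perm.sign (e' ⟨_, h⟩) = 1 := by
    have hmem : pi (Yab a₀ b₀ h₀) ∈ (M.map α.toMonoidHom) := ⟨_, (e.symm b).2, hαY⟩
    refine ⟨hmem, ?_⟩
    have h1 := he' _ (e.symm b).2
    have h3 : (⟨pi (Yab a₀ b₀ h₀), hmem⟩ : (M.map α.toMonoidHom)) =
        ⟨α ((e.symm b : M) : PSL), Subgroup.mem_map_of_mem _ (e.symm b).2⟩ :=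
      Subtype.ext hαY.symm
    rw [h3, h1]
    have : (⟨((e.symm b : M) : PSL), (e.symm b).2⟩ : M) = e.symm b := rfl
    rw [this, MulEquiv.apply_symm_apply]
    exact hsb
  have hent := S4_entries h2 (M.map α.toMonoidHom) e' (primeSub (F := F) p) a₀ b₀ ha₀ hb₀ h₀ s hs' hJ hY
  by_cases hsmem : s ∈ primeSub (F := F) p
  · -- all entries in the prime field
    have hle : (M.map α.toMonoidHom) ≤ KF (primeSub (F := F) p) := by
      intro m hm
      obtain ⟨g, rfl⟩ := pi_surjective m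
      apply mem_KF
      rcases hent _ hm g rfl with h | h
      · exact h
      · intro i j
        obtain ⟨t, ht, e1⟩ := h i j
        rw [e1]
        exact (primeSub (F := F) p).mul_mem hsmem ht
    rcases coatom_KF_cases h2 _ hMp _ hle with hq | hq
    · rw [← hq, card_primeSub]
    · exfalso
      rw [hcardMp, card_primeSub] at hq
      have := card_f_mono (s := 5) (t := p) (by norm_num) hp5
      omega
  · -- the subgroup `PGL₂(p)`
    exfalso
    have hsq := hsq_of_sqrt_two p hp2 s hs' hsmem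
    have hle : (M.map α.toMonoidHom) ≤ (PGLsub.ψ (iot (F := F) p) hsq).range := by
      intro m hm
      obtain ⟨g, rfl⟩ := pi_surjective m
      rcases hent _ hm g rfl with h | h
      · apply mem_range_psi p hsq 1 1 (by rw [map_one, one_mul]) g
        intro i j
        exact ⟨_, h i j, (one_mul _).symm⟩
      · apply mem_range_psi p hsq s 2 (by rw [map_ofNat, ← pow_two, hs']) g h
    have hcr := card_range_psi (F := F) p hsq
    rcases hMp.le_iff.mp hle with h | h
    · rw [h, Subgroup.card_top] at hcr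
      have hG := card_G h2
      rw [hcr] at hG
      rcases Nat.eq_or_lt_of_le hf1 with hf | hf
      · rw [hqf', ← hf, pow_one] at hG
        have : 0 < p * (p - 1) * (p + 1) :=
          Nat.mul_pos (Nat.mul_pos (by omega) (by omega)) (by omega)
        omega
      · have hle2 : p ^ 2 ≤ Fintype.card F := by
          rw [hqf']
          exact Nat.pow_le_pow_right (by omega) hf
        have h1 := card_f_mono (s := p ^ 2) (t := Fintype.card F)
          (Nat.one_le_pow _ _ (by omega)) hle2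
        have h3 := card_f_sq_gt p (by omega)
        omega
    · rw [h, hcardMp] at hcr
      have := card_f_mono (s := 5) (t := p) (by norm_num) hp5
      omega

end Cfsg.Agent.Lib.Helper9.PO
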