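import Mathlib

set_option autoImplicit false

/-!
# Maximal subgroups of simple groups: general lemmas
-/

namespace Cfsg.Agent.Lib.Helper9.H9PM

open Subgroup

/-- in a simple group, a nontrivial subgroup normalised by a maximal subgroup containing it has
that maximal subgroup as normaliser -/
theorem coatom_normalizer {G : Type*} [Group G] [IsSimpleGroup G] (M : Subgroup G)
    (hM : IsCoatom M) (N : Subgroup G) (hN1 : N ≠ ⊥) (hNM : N ≤ M)
    (hnorm : M ≤ Subgroup.normalizer (N : Set G)) :
    Subgroup.normalizer (N : Set G) = M := by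
  rcases hM.le_iff.mp hnorm with h | h
  · exfalso
    have hn : N.Normal := Subgroup.normalizer_eq_top_iff.mp h
    rcases hn.eq_bot_or_eq_top with h1 | h1
    · exact hN1 h1
    · apply hM.1
      rw [eq_top_iff, ← h1]
      exact hNM
  · exact h

/-- a finite nonabelian simple group has no abelian maximal subgroup -/
theorem no_abelian_coatom {G : Type*} [Group G] [Finite G] [IsSimpleGroup G]
    (hG : ∃ a b : G, a * b ≠ b * a) (M : Subgroup G) (hM : IsCoatom M)
    (hab : ∀ a ∈ M, ∀ b ∈ M, a * b = b * a) : False := by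
  obtain ⟨a, b, hne⟩ := hG
  by_cases hbot : M = ⊥
  · subst hbot
    have ha1 : a ≠ 1 := by
      rintro rfl
      apply hne
      rw [one_mul, mul_one]
    have hz : Subgroup.zpowers a = ⊤ := by
      apply hM.2
      rw [bot_lt_iff_ne_bot]
      intro h
      exact ha1 (Subgroup.zpowers_eq_bot.mp h)
    have hb : b ∈ Subgroup.zpowers a := by rw [hz]; trivial
    obtain ⟨k, rfl⟩ := Subgroup.mem_zpowers_iff.mp hb
    apply hne
    exact ((Commute.refl a).zpow_right k).eq
  · -- a prime dividing the order of `M`
    have hc1 : Nat.card M ≠ 1 := by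
      intro h
      exact hbot (Subgroup.card_eq_one.mp h)
    obtain ⟨p, hp, hpd⟩ := Nat.exists_prime_and_dvd hc1
    haveI : Fact p.Prime := ⟨hp⟩
    obtain ⟨P₀⟩ : Nonempty (Sylow p M) := inferInstance
    have hP₀ne : (P₀ : Subgroup M) ≠ ⊥ := P₀.ne_bot_of_dvd_card hpd
    set P' : Subgroup G := (P₀ : Subgroup M).map M.subtype with hP'
    have hP'M : P' ≤ M := by
      rintro _ ⟨x, -, rfl⟩
      exact x.2
    have hP'ne : P' ≠ ⊥ := by
      intro h
      apply hP₀ne
      rw [hP'] at h
      exact (Subgroup.map_eq_bot_iff_of_injective _ M.subtype_injective).mp h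
    have hMN : M ≤ Subgroup.normalizer (P' : Set G) := by
      intro m hm
      rw [Subgroup.mem_normalizer_iff]
      intro h
      constructor
      · intro hh
        have : m * h * m⁻¹ = h := by
          rw [hab m hm h (hP'M hh), mul_inv_cancel_right]
        rw [this]; exact hh
      · intro hh
        have h1 : m * h * m⁻¹ ∈ M := hP'M hh
        have h2 : h ∈ M := by
          have : h = m⁻¹ * (m * h * m⁻¹) * m := by group
          rw [this]
          exact M.mul_mem (M.mul_mem (M.inv_mem hm) h1) hm
        have : m * h * m⁻¹ = h := by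
          rw [hab m hm h h2, mul_inv_cancel_right]
        rw [this] at hh; exact hh
    have hN := coatom_normalizer M hM P' hP'ne hP'M hMN
    have hP'p : IsPGroup p P' := P₀.2.map M.subtype
    -- `P'` is a Sylow subgroup of `G`
    have hmax : ∀ Q : Subgroup G, IsPGroup p Q → P' ≤ Q → Q = P' := by
      intro Q hQ hle
      by_contra hne'
      have hlt : P'.subgroupOf Q < ⊤ := by
        rw [lt_top_iff_ne_top]
        intro h
        apply hne'
        exact le_antisymm (Subgroup.subgroupOf_eq_top.mp h) hle
      haveI : Group.IsNilpotent Q := hQ.isNilpotent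
      have hnc := normalizerCondition_of_isNilpotent (G := Q) (P'.subgroupOf Q) hlt
      obtain ⟨x, hxN, hxP⟩ := SetLike.exists_of_lt hnc
      have hxP' : (x : G) ∉ P' := fun h => hxP (Subgroup.mem_subgroupOf.mpr h)
      have hxN' : (x : G) ∈ Subgroup.normalizer (P' : Set G) := by
        rw [Subgroup.mem_normalizer_iff] at hxN ⊢
        intro h
        constructor
        · intro hh
          have := (hxN ⟨h, hle hh⟩).mp (Subgroup.mem_subgroupOf.mpr hh)
          exact Subgroup.mem_subgroupOf.mp this
        · intro hh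
          have hQ1 : (x : G) * h * (x : G)⁻¹ ∈ Q := hle hh
          have hQ2 : h ∈ Q := by
            have : h = (x : G)⁻¹ * ((x : G) * h * (x : G)⁻¹) * (x : G) := by group
            rw [this]
            exact Q.mul_mem (Q.mul_mem (Q.inv_mem x.2) hQ1) x.2
          have := (hxN ⟨h, hQ2⟩).mpr (Subgroup.mem_subgroupOf.mpr hh)
          exact Subgroup.mem_subgroupOf.mp this
      rw [hN] at hxN'
      -- `Q ⊓ M` is a `p`-subgroup of `M` containing `P'`
      have hR : IsPGroup p ((Q ⊓ M).subgroupOf M) :=
        (hQ.to_le inf_le_left).comap_subtype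
      have hle2 : (P₀ : Subgroup M) ≤ (Q ⊓ M).subgroupOf M := by
        intro y hy
        rw [Subgroup.mem_subgroupOf]
        exact ⟨hle ⟨y, hy, rfl⟩, y.2⟩
      have heq := P₀.3 hR hle2
      have hx2 : (⟨(x : G), hxN'⟩ : M) ∈ (Q ⊓ M).subgroupOf M := by
        rw [Subgroup.mem_subgroupOf]
        exact ⟨x.2, hxN'⟩
      rw [heq] at hx2
      exact hxP' ⟨_, hx2, rfl⟩
    let P : Sylow p G := ⟨P', hP'p, fun {Q} hQ hle => hmax Q hQ hle⟩
    have hPcoe : (P : Subgroup G) = P' := rfl
    have hcen : Subgroup.normalizer ((P : Subgroup G) : Set G) ≤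
        Subgroup.centralizer ((P : Subgroup G) : Set G) := by
      rw [hPcoe, hN]
      intro m hm
      rw [Subgroup.mem_centralizer_iff]
      intro h hh
      exact (hab m hm h (hP'M hh)).symm
    have hcomp := MonoidHom.ker_transferSylow_isComplement' P hcen
    rcases (MonoidHom.normal_ker (MonoidHom.transferSylow P hcen)).eq_bot_or_eq_top with h | h
    · rw [h, Subgroup.isComplement'_bot_left] at hcomp
      apply hM.1
      rw [eq_top_iff, ← hcomp]
      exact hP'M
    · rw [h, Subgroup.isComplement'_top_left] at hcomp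
      exact hP'ne hcomp

end Cfsg.Agent.Lib.Helper9.H9PM
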