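import Mathlib
import Cfsg.Agent.Lib.Helper9.PSLMax1

set_option autoImplicit false

/-!
# Maximal dihedral subgroups of simple groups
-/

namespace Cfsg.Agent.Lib.Helper9.H9PM

open Subgroup DihedralGroup

theorem dihedral_conj_r (k : ℕ) (x : DihedralGroup k) (i : ZMod k) :
    x * r i * x⁻¹ = r i ∨ x * r i * x⁻¹ = r (-i) := by
  cases x with
  | r j =>
    left
    rw [inv_r, r_mul_r, r_mul_r]
    congr 1
    ring
  | sr j =>
    right
    rw [inv_sr, sr_mul_r, sr_mul_sr]
    congr 1
    ring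

theorem r_one_zpow' (k : ℕ) (z : ℤ) : (r (1 : ZMod k)) ^ z = r (z : ZMod k) := by
  rw [DihedralGroup.r_one_zpow]

/-- an abelian subgroup `T` whose index is prime to a prime divisor `r` of `k` has order dividing
the order of a maximal subgroup `M ≅ D_k` of a simple group -/
theorem dihedral_coatom_dvd {G : Type*} [Group G] [Finite G] [IsSimpleGroup G]
    (M : Subgroup G) (hM : IsCoatom M) (k : ℕ) (e : M ≃* DihedralGroup k)
    (r₀ : ℕ) [hr : Fact r₀.Prime] (hrk : r₀ ∣ k) (T : Subgroup G)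
    (hTab : ∀ a ∈ T, ∀ b ∈ T, a * b = b * a) (hTr : ¬ r₀ ∣ T.index) :
    Nat.card T ∣ Nat.card M := by
  have hk0 : k ≠ 0 := by
    rintro rfl
    have h1 : Nat.card M = 0 := by
      rw [Nat.card_congr e.toEquiv, DihedralGroup.nat_card, mul_zero]
    exact Nat.card_pos.ne' h1
  set ρ : M := e.symm (r 1) with hρ
  have hρord : orderOf ρ = k := by
    have h1 := orderOf_injective e.symm.toMonoidHom e.symm.injective (r (1 : ZMod k))
    rw [DihedralGroup.orderOf_r_one] at h1
    exact h1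
  have hkr0 : k / r₀ ≠ 0 := by
    obtain ⟨t, rfl⟩ := hrk
    rw [Nat.mul_div_cancel_left _ hr.out.pos]
    rintro rfl
    exact hk0 (mul_zero _)
  have hkrd : k / r₀ ∣ k := Nat.div_dvd_of_dvd hrk
  set c' : M := ρ ^ (k / r₀) with hc'
  have hc'ord : orderOf c' = r₀ := by
    rw [hc', orderOf_pow_of_dvd hkr0 (by rw [hρord]; exact hkrd), hρord,
      Nat.div_div_self hrk hk0]
  set c : G := (c' : G) with hc
  have hcord : orderOf c = r₀ := by
    rw [hc, Subgroup.orderOf_coe, hc'ord]
  -- conjugation in `M`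
  have hconj : ∀ m : M, m * c' * m⁻¹ = c' ∨ m * c' * m⁻¹ = c'⁻¹ := by
    intro m
    have hec : e c' = r ((k / r₀ : ℕ) : ZMod k) := by
      rw [hc', map_pow, hρ, MulEquiv.apply_symm_apply, DihedralGroup.r_one_pow]
    rcases dihedral_conj_r k (e m) ((k / r₀ : ℕ) : ZMod k) with h | h
    · left
      apply e.injective
      rw [map_mul, map_mul, map_inv, hec, h]
    · right
      apply e.injective
      rw [map_mul, map_mul, map_inv, map_inv, hec, h, inv_r]
  set N : Subgroup G := Subgroup.zpowers c with hN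
  have hNM : N ≤ M := by
    rw [hN, Subgroup.zpowers_le]
    exact c'.2
  have hN1 : N ≠ ⊥ := by
    intro h
    have : c = 1 := Subgroup.zpowers_eq_bot.mp h
    rw [this, orderOf_one] at hcord
    exact hr.out.one_lt.ne hcord
  have hfwd : ∀ m ∈ M, ∀ h ∈ N, m * h * m⁻¹ ∈ N := by
    intro m hm h hh
    obtain ⟨z, rfl⟩ := Subgroup.mem_zpowers_iff.mp hh
    have h1 : m * c ^ z * m⁻¹ = (m * c * m⁻¹) ^ z := by
      rw [conj_zpow]
    rw [h1]
    apply N.zpow_mem
    rcases hconj ⟨m, hm⟩ with h2 | h2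
    · have h3 : m * c * m⁻¹ = c := congrArg Subtype.val h2
      rw [h3]
      exact Subgroup.mem_zpowers c
    · have h3 : m * c * m⁻¹ = c⁻¹ := congrArg Subtype.val h2
      rw [h3]
      exact N.inv_mem (Subgroup.mem_zpowers c)
  have hMN : M ≤ Subgroup.normalizer (N : Set G) := by
    intro m hm
    rw [Subgroup.mem_normalizer_iff]
    intro h
    constructor
    · exact hfwd m hm h
    · intro hh
      have := hfwd m⁻¹ (M.inv_mem hm) _ hh
      have e1 : m⁻¹ * (m * h * m⁻¹) * m⁻¹⁻¹ = h := by group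
      rw [e1] at this
      exact this
  have hNorm := coatom_normalizer M hM N hN1 hNM hMN
  -- the centralizer of `c` lies in `M`
  have hcent : ∀ g : G, g * c = c * g → g ∈ M := by
    intro g hg
    rw [← hNorm, Subgroup.mem_normalizer_iff]
    have hfw : ∀ g : G, g * c = c * g → ∀ h ∈ N, g * h * g⁻¹ ∈ N := by
      intro g hg h hh
      obtain ⟨z, rfl⟩ := Subgroup.mem_zpowers_iff.mp hh
      have h1 : g * c ^ z * g⁻¹ = (g * c * g⁻¹) ^ z := by
        rw [conj_zpow]
      rw [h1, hg, mul_inv_cancel_right]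
      exact Subgroup.zpow_mem_zpowers c z
    intro h
    constructor
    · exact hfw g hg h
    · intro hh
      have hg' : g⁻¹ * c = c * g⁻¹ := by
        calc g⁻¹ * c = g⁻¹ * (c * g) * g⁻¹ := by group
          _ = g⁻¹ * (g * c) * g⁻¹ := by rw [hg]
          _ = c * g⁻¹ := by group
      have := hfw g⁻¹ hg' _ hh
      have e1 : g⁻¹ * (g * h * g⁻¹) * g⁻¹⁻¹ = h := by group
      rw [e1] at this
      exact this
  -- a Sylow subgroup of `G` inside `T`
  obtain ⟨R_T⟩ : Nonempty (Sylow r₀ T) := inferInstance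
  obtain ⟨Q', hQ'⟩ := Sylow.exists_comap_subtype_eq R_T
  have hQ'T : (Q' : Subgroup G) ≤ T := by
    have h1 : Nat.card (Q' : Subgroup G) = r₀ ^ (Nat.card G).factorization r₀ :=
      Q'.card_eq_multiplicity
    have h2 : Nat.card (R_T : Subgroup T) = r₀ ^ (Nat.card T).factorization r₀ :=
      R_T.card_eq_multiplicity
    have h3 : (Nat.card G).factorization r₀ = (Nat.card T).factorization r₀ := by
      rw [← Subgroup.card_mul_index T, Nat.factorization_mul Nat.card_pos.ne'
        (Subgroup.index_ne_zero_of_finite), Finsupp.add_apply,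
        Nat.factorization_eq_zero_of_not_dvd hTr, add_zero]
    have h4 : Nat.card ((Q' : Subgroup G) ⊓ T : Subgroup G) = Nat.card (Q' : Subgroup G) := by
      rw [h1, h3, ← h2]
      have h5 : (R_T : Subgroup T) = (Q' : Subgroup G).subgroupOf T := by
        rw [← hQ']
        rfl
      rw [h5]
      exact (Nat.card_congr (Subgroup.subgroupOfEquivOfLe
        (inf_le_right : (Q' : Subgroup G) ⊓ T ≤ T)).toEquiv).symm.trans (by
          rw [Subgroup.inf_subgroupOf_right])
    have h6 : (Q' : Subgroup G) ⊓ T = (Q' : Subgroup G) :=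
      Subgroup.eq_of_le_of_card_ge inf_le_left h4.ge
    rw [← h6]
    exact inf_le_right
  have hzp : IsPGroup r₀ (Subgroup.zpowers c) := by
    rw [IsPGroup.iff_card, Nat.card_zpowers, hcord]
    exact ⟨1, (pow_one _).symm⟩
  obtain ⟨Q, hQ⟩ := hzp.exists_le_sylow
  obtain ⟨g, hg⟩ := MulAction.exists_smul_eq G Q Q'
  have hgc : g * c * g⁻¹ ∈ T := by
    apply hQ'T
    have : g * c * g⁻¹ ∈ (g • Q : Sylow r₀ G) := by
      have h0 : g * c * g⁻¹ ∈ ((g • Q : Sylow r₀ G) : Subgroup G) := by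
        rw [Sylow.coe_subgroup_smul]
        exact ⟨c, hQ (Subgroup.mem_zpowers c), rfl⟩
      exact h0
    rw [hg] at this
    exact this
  -- the conjugate of `T` lies in `M`
  have hle : T.map (MulAut.conj g⁻¹).toMonoidHom ≤ M := by
    rintro _ ⟨t, ht, rfl⟩
    apply hcent
    change g⁻¹ * t * g⁻¹⁻¹ * c = c * (g⁻¹ * t * g⁻¹⁻¹)
    have h1 := hTab t ht _ hgc
    rw [inv_inv]
    calc g⁻¹ * t * g * c = g⁻¹ * (t * (g * c * g⁻¹)) * g := by group
      _ = g⁻¹ * ((g * c * g⁻¹) * t) * g := by rw [h1]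
      _ = c * (g⁻¹ * t * g) := by group
  have hcard : Nat.card (T.map (MulAut.conj g⁻¹).toMonoidHom) = Nat.card T :=
    Subgroup.card_map_of_injective (MulAut.conj g⁻¹).injective
  rw [← hcard]
  exact Subgroup.card_dvd_of_le hle

end Cfsg.Agent.Lib.Helper9.H9PM
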