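import Mathlib
import Cfsg.Agent.Lib.Helper1.DihedralIso

set_option autoImplicit false
set_option linter.unusedSectionVars false

/-!
# Small lemmas: nonabelian groups of order `6`, abelian subgroups of dihedral groups, normal
`2`-subgroups of `A₄` and `S₄`
-/

namespace Cfsg.Agent.Lib.Helper9.H9PM

open Subgroup

/-- a nonabelian group of order `6` is dihedral -/
theorem nonabelian_six_dihedral {G : Type*} [Group G] [Finite G] (h6 : Nat.card G = 6)
    (hna : ∃ a b : G, a * b ≠ b * a) : Nonempty (G ≃* DihedralGroup 3) := by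
  classical
  haveI : Fact (Nat.Prime 2) := ⟨Nat.prime_two⟩
  haveI : Fact (Nat.Prime 3) := ⟨Nat.prime_three⟩
  obtain ⟨a, ha⟩ := exists_prime_orderOf_dvd_card' (G := G) 3 (by rw [h6]; norm_num)
  obtain ⟨x, hx⟩ := exists_prime_orderOf_dvd_card' (G := G) 2 (by rw [h6]; norm_num)
  have hx2 : x * x = 1 := by
    rw [← pow_two, ← hx]; exact pow_orderOf_eq_one x
  have hxinv : x⁻¹ = x := inv_eq_of_mul_eq_one_right hx2
  have ha3 : a ^ 3 = 1 := by rw [← ha]; exact pow_orderOf_eq_one a
  have hnotcyc : ∀ g : G, orderOf g ≠ 6 := by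
    intro g hg
    haveI : IsCyclic G := isCyclic_of_orderOf_eq_card g (by rw [hg, h6])
    obtain ⟨u, v, huv⟩ := hna
    letI := IsCyclic.commGroup (α := G)
    exact huv (mul_comm u v)
  -- `⟨a⟩` is normal
  have hAcard : Nat.card (zpowers a) = 3 := by rw [Nat.card_zpowers, ha]
  have hAidx : (zpowers a).index = 2 := by
    have := (zpowers a).card_mul_index
    rw [hAcard, h6] at this
    omega
  haveI hAn : (zpowers a).Normal := Subgroup.normal_of_index_eq_two hAidx
  have hconj : x * a * x⁻¹ ∈ zpowers a := hAn.conj_mem a (mem_zpowers a) x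
  rw [mem_zpowers_iff_mem_range_orderOf, ha] at hconj
  have hcases : x * a * x⁻¹ = 1 ∨ x * a * x⁻¹ = a ∨ x * a * x⁻¹ = a ^ 2 := by
    simp only [Finset.mem_image, Finset.mem_range] at hconj
    obtain ⟨k, hk, hk'⟩ := hconj
    interval_cases k
    · left; rw [← hk', pow_zero]
    · right; left; rw [← hk', pow_one]
    · right; right; rw [← hk']
  have ha1 : a ≠ 1 := by
    rintro rfl
    rw [orderOf_one] at ha
    norm_num at ha
  have hinvcase : x * a * x⁻¹ = a ^ 2 := by
    rcases hcases with h | h | h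
    · exfalso
      apply ha1
      have : a = x⁻¹ * (x * a * x⁻¹) * x := by group
      rw [this, h]; group
    · exfalso
      have hcomm : Commute x a := by
        show x * a = a * x
        calc x * a = (x * a * x⁻¹) * x := by group
          _ = a * x := by rw [h]
      have := hcomm.orderOf_mul_eq_mul_orderOf_of_coprime (by rw [hx, ha]; norm_num)
      rw [hx, ha] at this
      exact hnotcyc _ this
    · exact h
  set y := x * a with hy
  have hy2 : y * y = 1 := by
    have e1 : y * y = (x * a * x⁻¹) * a := by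
      rw [hy, hxinv]; group
    rw [e1, hinvcase, ← pow_succ]
    exact ha3
  have hy1 : y ≠ 1 := by
    intro h
    have h1 : a = x⁻¹ := by
      have : a = x⁻¹ * y := by rw [hy]; group
      rw [this, h, mul_one]
    rw [h1, orderOf_inv, hx] at ha
    norm_num at ha
  have hyord : orderOf y = 2 := orderOf_eq_prime (by rw [pow_two]; exact hy2) hy1
  have hxy : x * y = a := by
    rw [hy, ← mul_assoc, hx2, one_mul]
  have hxyord : orderOf (x * y) = 3 := by rw [hxy, ha]
  obtain ⟨φ⟩ := Cfsg.Agent.Lib.Helper1.DihedralIso.closure_equiv_dihedral x y hx hyord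
    (by rw [hxyord]; norm_num)
  rw [hxyord] at φ
  have hcl : Subgroup.closure ({x, y} : Set G) = ⊤ := by
    rw [← Subgroup.card_eq_iff_eq_top, Nat.card_congr φ.toEquiv, DihedralGroup.nat_card, h6]
  exact ⟨(Subgroup.topEquiv.symm.trans (MulEquiv.subgroupCongr hcl.symm)).trans φ⟩

/-- the image of the rotation subgroup -/
theorem exists_abelian_of_dihedral {G : Type*} [Group G] (H : Subgroup G) (n : ℕ)
    (e : H ≃* DihedralGroup n) :
    ∃ T : Subgroup G, (∀ a ∈ T, ∀ b ∈ T, a * b = b * a) ∧ Nat.card T = n := by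
  set f : DihedralGroup n →* G := H.subtype.comp e.symm.toMonoidHom with hf
  have hinj : Function.Injective f := H.subtype_injective.comp e.symm.injective
  refine ⟨(zpowers (DihedralGroup.r (1 : ZMod n))).map f, ?_, ?_⟩
  · rintro _ ⟨a, ha, rfl⟩ _ ⟨b, hb, rfl⟩
    obtain ⟨i, rfl⟩ := mem_zpowers_iff.mp ha
    obtain ⟨k, rfl⟩ := mem_zpowers_iff.mp hb
    rw [← map_mul, ← map_mul]
    congr 1
    exact ((Commute.refl _).zpow_zpow i k).eq
  · rw [Subgroup.card_map_of_injective hinj, Nat.card_zpowers, DihedralGroup.orderOf_r_one]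

theorem A4_sq_mul : ∀ a b : alternatingGroup (Fin 4), a * a = 1 → b * b = 1 →
    (a * b) * (a * b) = 1 := by decide

theorem A4_exists_invol : ∃ a : alternatingGroup (Fin 4), a ≠ 1 ∧ a * a = 1 := by decide

set_option maxRecDepth 1000000 in
theorem S4_sq_mul : ∀ a b : Equiv.Perm (Fin 4), (a * a = 1 ∧ Equiv.Perm.sign a = 1) →
    (b * b = 1 ∧ Equiv.Perm.sign b = 1) →
    ((a * b) * (a * b) = 1 ∧ Equiv.Perm.sign (a * b) = 1) := by decide

theorem S4_exists_invol : ∃ a : Equiv.Perm (Fin 4), a ≠ 1 ∧ a * a = 1 ∧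
    Equiv.Perm.sign a = 1 := by decide

/-- a group isomorphic to `A₄` has a nontrivial normal `2`-subgroup -/
theorem exists_normal_two_of_A4 {M : Type*} [Group M] (e : M ≃* alternatingGroup (Fin 4)) :
    ∃ V : Subgroup M, V.Normal ∧ IsPGroup 2 V ∧ V ≠ ⊥ := by
  let V₀ : Subgroup (alternatingGroup (Fin 4)) :=
    { carrier := {g | g * g = 1}
      mul_mem' := fun {a b} ha hb => A4_sq_mul a b ha hb
      one_mem' := mul_one 1
      inv_mem' := fun {a} ha => by
        show a⁻¹ * a⁻¹ = 1
        rw [← mul_inv_rev, ha, inv_one] }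
  have hV₀n : V₀.Normal := by
    constructor
    intro a ha g
    show (g * a * g⁻¹) * (g * a * g⁻¹) = 1
    have ha' : a * a = 1 := ha
    calc (g * a * g⁻¹) * (g * a * g⁻¹) = g * (a * a) * g⁻¹ := by group
      _ = 1 := by rw [ha']; group
  refine ⟨V₀.comap e.toMonoidHom, hV₀n.comap _, ?_, ?_⟩
  · intro v
    refine ⟨1, ?_⟩
    apply Subtype.ext
    apply e.injective
    have hv : e v.1 * e v.1 = 1 := v.2
    show e ((v.1) ^ (2 ^ 1)) = e 1
    rw [pow_one, pow_two, map_mul, hv, map_one]
  · obtain ⟨a, ha1, ha2⟩ := A4_exists_invol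
    intro hbot
    have hmem : e.symm a ∈ V₀.comap e.toMonoidHom := by
      show e (e.symm a) * e (e.symm a) = 1
      rw [MulEquiv.apply_symm_apply]; exact ha2
    rw [hbot, Subgroup.mem_bot] at hmem
    apply ha1
    have := congrArg e hmem
    rwa [MulEquiv.apply_symm_apply, map_one] at this

/-- a group isomorphic to `S₄` has a nontrivial normal `2`-subgroup -/
theorem exists_normal_two_of_S4 {M : Type*} [Group M] (e : M ≃* Equiv.Perm (Fin 4)) :
    ∃ V : Subgroup M, V.Normal ∧ IsPGroup 2 V ∧ V ≠ ⊥ := by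
  let V₀ : Subgroup (Equiv.Perm (Fin 4)) :=
    { carrier := {g | g * g = 1 ∧ Equiv.Perm.sign g = 1}
      mul_mem' := fun {a b} ha hb => S4_sq_mul a b ha hb
      one_mem' := ⟨mul_one 1, map_one _⟩
      inv_mem' := fun {a} ha => by
        refine ⟨?_, ?_⟩
        · rw [← mul_inv_rev, ha.1, inv_one]
        · rw [map_inv, ha.2, inv_one] }
  have hV₀n : V₀.Normal := by
    constructor
    intro a ha g
    have ha' : a * a = 1 := ha.1
    refine ⟨?_, ?_⟩
    · calc (g * a * g⁻¹) * (g * a * g⁻¹) = g * (a * a) * g⁻¹ := by group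
        _ = 1 := by rw [ha']; group
    · rw [map_mul, map_mul, map_inv, mul_comm, ← mul_assoc, inv_mul_cancel, one_mul]
      exact ha.2
  refine ⟨V₀.comap e.toMonoidHom, hV₀n.comap _, ?_, ?_⟩
  · intro v
    refine ⟨1, ?_⟩
    apply Subtype.ext
    apply e.injective
    have hv : e v.1 * e v.1 = 1 := v.2.1
    show e ((v.1) ^ (2 ^ 1)) = e 1
    rw [pow_one, pow_two, map_mul, hv, map_one]
  · obtain ⟨a, ha1, ha2, ha3⟩ := S4_exists_invol
    intro hbot
    have hmem : e.symm a ∈ V₀.comap e.toMonoidHom := by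
      show e (e.symm a) * e (e.symm a) = 1 ∧ Equiv.Perm.sign (e (e.symm a)) = 1
      rw [MulEquiv.apply_symm_apply]; exact ⟨ha2, ha3⟩
    rw [hbot, Subgroup.mem_bot] at hmem
    apply ha1
    have := congrArg e hmem
    rwa [MulEquiv.apply_symm_apply, map_one] at this

end Cfsg.Agent.Lib.Helper9.H9PM
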