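import Mathlib
import Cfsg.Agent.Lib.Helper9.PSLMax2
import Cfsg.Agent.Lib.Helper9.PSLMax8
import Cfsg.Agent.Lib.Helper9.PSLMax9

set_option autoImplicit false
set_option linter.unusedSectionVars false

/-!
# Maximal subgroups of simple groups: dihedral and `p`-group maximal subgroups
-/

namespace Cfsg.Agent.Lib.Helper9.PO

open Cfsg.Agent.Lib.Helper9.H9PM DihedralGroup

/-- an element commuting with `c` normalises the subgroup generated by `c` -/
theorem mem_normalizer_zpowers_of_comm {G : Type*} [Group G] (c g : G) (hg : g * c = c * g) :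
    g ∈ Subgroup.normalizer ((Subgroup.zpowers c : Subgroup G) : Set G) := by
  rw [Subgroup.mem_normalizer_iff]
  have hfw : ∀ g : G, g * c = c * g → ∀ h ∈ Subgroup.zpowers c, g * h * g⁻¹ ∈ Subgroup.zpowers c := by
    intro g hg h hh
    obtain ⟨z, rfl⟩ := Subgroup.mem_zpowers_iff.mp hh
    have h1 : g * c ^ z * g⁻¹ = (g * c * g⁻¹) ^ z := by
      rw [conj_zpow]
    rw [h1, hg, mul_inv_cancel_right]
    exact Subgroup.zpow_mem_zpowers c z
  intro h
  constructor
  · exact hfw g hg h
  · intro hh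
    have hg' : g⁻¹ * c = c * g⁻¹ := by
      calc g⁻¹ * c = g⁻¹ * (c * g) * g⁻¹ := by group
        _ = g⁻¹ * (g * c) * g⁻¹ := by rw [hg]
        _ = c * g⁻¹ := by group
    have := hfw g⁻¹ hg' _ hh
    have e1 : g⁻¹ * (g * h * g⁻¹) * g⁻¹⁻¹ = h := by group
    rw [e1] at this
    exact this

/-- a maximal subgroup `M ≅ D_k` of a simple group is the normaliser of a subgroup of prime
order `r₀`, for every prime divisor `r₀` of `k` -/
theorem dihedral_coatom_normalizer {G : Type*} [Group G] [Finite G] [IsSimpleGroup G]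
    (M : Subgroup G) (hM : IsCoatom M) (k : ℕ) (e : M ≃* DihedralGroup k)
    (r₀ : ℕ) [hr : Fact r₀.Prime] (hrk : r₀ ∣ k) :
    ∃ c : G, c ∈ M ∧ orderOf c = r₀ ∧
      Subgroup.normalizer ((Subgroup.zpowers c : Subgroup G) : Set G) = M := by
  have hk0 : k ≠ 0 := by
    rintro rfl
    have h1 : Nat.card M = 0 := by
      rw [Nat.card_congr e.toEquiv, DihedralGroup.nat_card, mul_zero]
    exact Nat.card_pos.ne' h1
  set ρ : M := e.symm (r 1) with hρ
  have hρord : orderOf ρ = k := by
    have h1 := orderOf_injective e.symm.toMonoidHom e.symm.injective (r (1 : ZMod k))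
    rw [DihedralGroup.orderOf_r_one] at h1
    exact h1
  have hkr0 : k / r₀ ≠ 0 := by
    obtain ⟨t, rfl⟩ := hrk
    rw [Nat.mul_div_cancel_left _ hr.out.pos]
    rintro rfl
    exact hk0 (mul_zero _)
  have hkrd : k / r₀ ∣ k := Nat.div_dvd_of_dvd hrk
  set c' : M := ρ ^ (k / r₀) with hc'
  have hc'ord : orderOf c' = r₀ := by
    rw [hc', orderOf_pow_of_dvd hkr0 (by rw [hρord]; exact hkrd), hρord,
      Nat.div_div_self hrk hk0]
  set c : G := (c' : G) with hc
  have hcord : orderOf c = r₀ := by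
    rw [hc, Subgroup.orderOf_coe, hc'ord]
  -- conjugation in `M`
  have hconj : ∀ m : M, m * c' * m⁻¹ = c' ∨ m * c' * m⁻¹ = c'⁻¹ := by
    intro m
    have hec : e c' = r ((k / r₀ : ℕ) : ZMod k) := by
      rw [hc', map_pow, hρ, MulEquiv.apply_symm_apply, DihedralGroup.r_one_pow]
    rcases dihedral_conj_r k (e m) ((k / r₀ : ℕ) : ZMod k) with h | h
    · left
      apply e.injective
      rw [map_mul, map_mul, map_inv, hec, h]
    · right
      apply e.injective
      rw [map_mul, map_mul, map_inv, map_inv, hec, h, inv_r]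
  set N : Subgroup G := Subgroup.zpowers c with hN
  have hNM : N ≤ M := by
    rw [hN, Subgroup.zpowers_le]
    exact c'.2
  have hN1 : N ≠ ⊥ := by
    intro h
    have : c = 1 := Subgroup.zpowers_eq_bot.mp h
    rw [this, orderOf_one] at hcord
    exact hr.out.one_lt.ne hcord
  have hfwd : ∀ m ∈ M, ∀ h ∈ N, m * h * m⁻¹ ∈ N := by
    intro m hm h hh
    obtain ⟨z, rfl⟩ := Subgroup.mem_zpowers_iff.mp hh
    have h1 : m * c ^ z * m⁻¹ = (m * c * m⁻¹) ^ z := by
      rw [conj_zpow]
    rw [h1]
    apply N.zpow_mem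
    rcases hconj ⟨m, hm⟩ with h2 | h2
    · have h3 : m * c * m⁻¹ = c := congrArg Subtype.val h2
      rw [h3]
      exact Subgroup.mem_zpowers c
    · have h3 : m * c * m⁻¹ = c⁻¹ := congrArg Subtype.val h2
      rw [h3]
      exact N.inv_mem (Subgroup.mem_zpowers c)
  have hMN : M ≤ Subgroup.normalizer (N : Set G) := by
    intro m hm
    rw [Subgroup.mem_normalizer_iff]
    intro h
    constructor
    · exact hfwd m hm h
    · intro hh
      have := hfwd m⁻¹ (M.inv_mem hm) _ hh
      have e1 : m⁻¹ * (m * h * m⁻¹) * m⁻¹⁻¹ = h := by group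
      rw [e1] at this
      exact this
  exact ⟨c, c'.2, hcord, coatom_normalizer M hM N hN1 hNM hMN⟩

/-- an abelian subgroup `T` whose index is prime to a prime divisor `r` of `k` has a conjugate
inside a maximal subgroup `M ≅ D_k` of a simple group -/
theorem dihedral_coatom_conj_le {G : Type*} [Group G] [Finite G] [IsSimpleGroup G]
    (M : Subgroup G) (hM : IsCoatom M) (k : ℕ) (e : M ≃* DihedralGroup k)
    (r₀ : ℕ) [hr : Fact r₀.Prime] (hrk : r₀ ∣ k) (T : Subgroup G)
    (hTab : ∀ a ∈ T, ∀ b ∈ T, a * b = b * a) (hTr : ¬ r₀ ∣ T.index) :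
    ∃ g : G, T.map (MulAut.conj g).toMonoidHom ≤ M := by
  obtain ⟨c, hcM, hcord, hNorm⟩ := dihedral_coatom_normalizer M hM k e r₀ hrk
  have hcent : ∀ g : G, g * c = c * g → g ∈ M := by
    intro g hg
    rw [← hNorm]
    exact mem_normalizer_zpowers_of_comm c g hg
  -- a Sylow subgroup of `G` inside `T`
  obtain ⟨R_T⟩ : Nonempty (Sylow r₀ T) := inferInstance
  obtain ⟨Q', hQ'⟩ := Sylow.exists_comap_subtype_eq R_T
  have hQ'T : (Q' : Subgroup G) ≤ T := by
    have h1 : Nat.card (Q' : Subgroup G) = r₀ ^ (Nat.card G).factorization r₀ :=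
      Q'.card_eq_multiplicity
    have h2 : Nat.card (R_T : Subgroup T) = r₀ ^ (Nat.card T).factorization r₀ :=
      R_T.card_eq_multiplicity
    have h3 : (Nat.card G).factorization r₀ = (Nat.card T).factorization r₀ := by
      rw [← Subgroup.card_mul_index T, Nat.factorization_mul Nat.card_pos.ne'
        (Subgroup.index_ne_zero_of_finite), Finsupp.add_apply,
        Nat.factorization_eq_zero_of_not_dvd hTr, add_zero]
    have h4 : Nat.card ((Q' : Subgroup G) ⊓ T : Subgroup G) = Nat.card (Q' : Subgroup G) := by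
      rw [h1, h3, ← h2]
      have h5 : (R_T : Subgroup T) = (Q' : Subgroup G).subgroupOf T := by
        rw [← hQ']
        rfl
      rw [h5]
      exact (Nat.card_congr (Subgroup.subgroupOfEquivOfLe
        (inf_le_right : (Q' : Subgroup G) ⊓ T ≤ T)).toEquiv).symm.trans (by
          rw [Subgroup.inf_subgroupOf_right])
    have h6 : (Q' : Subgroup G) ⊓ T = (Q' : Subgroup G) :=
      Subgroup.eq_of_le_of_card_ge inf_le_left h4.ge
    rw [← h6]
    exact inf_le_right
  have hzp : IsPGroup r₀ (Subgroup.zpowers c) := by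
    rw [IsPGroup.iff_card, Nat.card_zpowers, hcord]
    exact ⟨1, (pow_one _).symm⟩
  obtain ⟨Q, hQ⟩ := hzp.exists_le_sylow
  obtain ⟨g, hg⟩ := MulAction.exists_smul_eq G Q Q'
  have hgc : g * c * g⁻¹ ∈ T := by
    apply hQ'T
    have : g * c * g⁻¹ ∈ (g • Q : Sylow r₀ G) := by
      have h0 : g * c * g⁻¹ ∈ ((g • Q : Sylow r₀ G) : Subgroup G) := by
        rw [Sylow.coe_subgroup_smul]
        exact ⟨c, hQ (Subgroup.mem_zpowers c), rfl⟩
      exact h0
    rw [hg] at this
    exact this
  refine ⟨g⁻¹, ?_⟩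
  rintro _ ⟨t, ht, rfl⟩
  apply hcent
  change g⁻¹ * t * g⁻¹⁻¹ * c = c * (g⁻¹ * t * g⁻¹⁻¹)
  have h1 := hTab t ht _ hgc
  rw [inv_inv]
  calc g⁻¹ * t * g * c = g⁻¹ * (t * (g * c * g⁻¹)) * g := by group
    _ = g⁻¹ * ((g * c * g⁻¹) * t) * g := by rw [h1]
    _ = c * (g⁻¹ * t * g) := by group

/-- a conjugate of a maximal subgroup inside a proper subgroup equals it -/
theorem coatom_conj_card {G : Type*} [Group G] [Finite G] (M : Subgroup G) (hM : IsCoatom M)
    (g : G) (H : Subgroup G) (hH : H ≠ ⊤) (hle : M.map (MulAut.conj g).toMonoidHom ≤ H) :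
    Nat.card M = Nat.card H := by
  have hco := isCoatom_map_equiv (MulAut.conj g) M hM
  rcases hco.le_iff.mp hle with h | h
  · exact absurd h hH
  · rw [h, Subgroup.card_map_of_injective (MulAut.conj g).injective]

/-- a maximal subgroup which is a `p`-group has the order of any proper subgroup containing a
Sylow `p`-subgroup -/
theorem pgroup_coatom_card {G : Type*} [Group G] [Finite G] (p : ℕ) [hp : Fact p.Prime]
    (M : Subgroup G) (hM : IsCoatom M) (hMp : IsPGroup p M) (hG : ¬ IsPGroup p G)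
    (H : Subgroup G) (hH : H ≠ ⊤)
    (hHp : (Nat.card H).factorization p = (Nat.card G).factorization p) :
    Nat.card M = Nat.card H := by
  obtain ⟨P, hP⟩ := hMp.exists_le_sylow
  have hMP : M = P := by
    rcases hM.le_iff.mp hP with h | h
    · exfalso
      apply hG
      have h1 : IsPGroup p (⊤ : Subgroup G) := h ▸ P.2
      exact h1.of_equiv Subgroup.topEquiv
    · exact h.symm
  obtain ⟨Q⟩ : Nonempty (Sylow p H) := inferInstance
  have hQcard : Nat.card ((Q : Subgroup H).map H.subtype) = p ^ (Nat.card G).factorization p := by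
    rw [Subgroup.card_map_of_injective H.subtype_injective, Q.card_eq_multiplicity, hHp]
  set Q' : Sylow p G := Sylow.ofCard _ hQcard with hQ'
  obtain ⟨g, hg⟩ := MulAction.exists_smul_eq G P Q'
  apply coatom_conj_card M hM g H hH
  rintro _ ⟨m, hm, rfl⟩
  have h0 : (MulAut.conj g) m ∈ ((g • P : Sylow p G) : Subgroup G) := by
    rw [Sylow.coe_subgroup_smul]
    exact ⟨m, hMP ▸ hm, rfl⟩
  rw [hg] at h0
  obtain ⟨h, -, hh⟩ := h0
  have : (MulAut.conj g).toMonoidHom m = (h : G) := hh.symm
  rw [this]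
  exact h.2

/-- a maximal subgroup which is a `p`-group has the order of any proper subgroup of index prime
to `p` -/
theorem pgroup_coatom_card_of_index {G : Type*} [Group G] [Finite G] (p : ℕ) [hp : Fact p.Prime]
    (M : Subgroup G) (hM : IsCoatom M) (hMp : IsPGroup p M) (hG : ¬ IsPGroup p G)
    (H : Subgroup G) (hH : H ≠ ⊤) (hidx : ¬ p ∣ H.index) :
    Nat.card M = Nat.card H := by
  apply pgroup_coatom_card p M hM hMp hG H hH
  rw [← Subgroup.card_mul_index H, Nat.factorization_mul Nat.card_pos.ne'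
    (Subgroup.index_ne_zero_of_finite), Finsupp.add_apply,
    Nat.factorization_eq_zero_of_not_dvd hidx, add_zero]

/-- comparing a dihedral maximal subgroup with a dihedral subgroup of the generic order -/
theorem dihedral_compare {G : Type*} [Group G] [Finite G] [IsSimpleGroup G]
    (hna : ∃ a b : G, a * b ≠ b * a) (hG2 : ¬ IsPGroup 2 G)
    (M : Subgroup G) (hM : IsCoatom M) (k : ℕ) (hk3 : 3 ≤ k) (e : M ≃* DihedralGroup k)
    (H : Subgroup G) (hH : H ≠ ⊤) (n m : ℕ) (eH : H ≃* DihedralGroup n) (hkn : k ∣ n)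
    (hGm : Nat.card G = m * (2 * n))
    (hprimes : ∀ r₀ : ℕ, r₀.Prime → r₀ ≠ 2 → r₀ ∣ n → ¬ r₀ ∣ m)
    (h2 : 4 ∣ n → ¬ 2 ∣ m) : k = n := by
  have hcardM : Nat.card M = 2 * k := by
    rw [Nat.card_congr e.toEquiv, DihedralGroup.nat_card]
  have hcardH : Nat.card H = 2 * n := by
    rw [Nat.card_congr eH.toEquiv, DihedralGroup.nat_card]
  have hn0 : n ≠ 0 := by
    rintro rfl
    rw [mul_zero] at hcardH
    exact Nat.card_pos.ne' hcardH
  by_cases hodd : ∃ r₀ : ℕ, r₀.Prime ∧ r₀ ≠ 2 ∧ r₀ ∣ k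
  · obtain ⟨r₀, hr₀, hr₀2, hr₀k⟩ := hodd
    haveI : Fact r₀.Prime := ⟨hr₀⟩
    obtain ⟨T, hTab, hTcard⟩ := exists_abelian_of_dihedral H n eH
    have hTidx : T.index = 2 * m := by
      have := T.card_mul_index
      rw [hTcard, hGm] at this
      have h5 : n * T.index = n * (2 * m) := by rw [this]; ring
      exact Nat.eq_of_mul_eq_mul_left (Nat.pos_of_ne_zero hn0) h5
    have hTr : ¬ r₀ ∣ T.index := by
      rw [hTidx]
      intro hd
      rcases (Nat.Prime.dvd_mul hr₀).mp hd with h | h
      · exact hr₀2 ((Nat.prime_dvd_prime_iff_eq hr₀ Nat.prime_two).mp h)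
      · exact hprimes r₀ hr₀ hr₀2 (hr₀k.trans hkn) h
    obtain ⟨g, hg⟩ := dihedral_coatom_conj_le M hM k e r₀ hr₀k T hTab hTr
    have hcard : Nat.card (T.map (MulAut.conj g).toMonoidHom) = n := by
      rw [Subgroup.card_map_of_injective (MulAut.conj g).injective, hTcard]
    have hdvd : n ∣ 2 * k := by
      rw [← hcard, ← hcardM]
      exact Subgroup.card_dvd_of_le hg
    obtain ⟨c, hc⟩ := hkn
    have hc2 : c ∣ 2 := by
      rw [hc] at hdvd
      have hk0 : 0 < k := by omega
      have : k * c ∣ k * 2 := by rw [mul_comm k 2]; exact hdvd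
      exact (Nat.mul_dvd_mul_iff_left hk0).mp this
    have hc12 : c = 1 ∨ c = 2 := by
      have := Nat.le_of_dvd (by norm_num) hc2
      have hc0 : c ≠ 0 := by
        rintro rfl
        rw [mul_zero] at hc
        exact hn0 hc
      omega
    rcases hc12 with h | h
    · rw [hc, h, mul_one]
    · exfalso
      have hnk : n = 2 * k := by rw [hc, h, mul_comm]
      have heq : T.map (MulAut.conj g).toMonoidHom = M :=
        Subgroup.eq_of_le_of_card_ge hg (by rw [hcard, hcardM, hnk])
      apply no_abelian_coatom hna M hM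
      intro a ha b hb
      rw [← heq] at ha hb
      obtain ⟨a', ha', rfl⟩ := ha
      obtain ⟨b', hb', rfl⟩ := hb
      rw [← map_mul, ← map_mul, hTab a' ha' b' hb']
  · -- `k` is a power of two
    push Not at hodd
    have hk2 : ∃ a : ℕ, k = 2 ^ a := by
      obtain ⟨a, t, ht, hkt⟩ := Nat.exists_eq_two_pow_mul_odd (n := k) (by omega)
      refine ⟨a, ?_⟩
      by_cases ht1 : t = 1
      · rw [hkt, ht1, mul_one]
      · exfalso
        obtain ⟨r₀, hr₀, hr₀t⟩ := Nat.exists_prime_and_dvd ht1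
        have hr₀2 : r₀ ≠ 2 := by
          rintro rfl
          obtain ⟨w, hw⟩ := hr₀t
          rw [Nat.odd_iff] at ht
          omega
        have := hodd r₀ hr₀ hr₀2
        apply this
        rw [hkt]
        exact hr₀t.mul_left _
    obtain ⟨a, ha⟩ := hk2
    have ha2 : 2 ≤ a := by
      by_contra hcon
      have : a = 0 ∨ a = 1 := by omega
      rcases this with h | h <;> rw [h] at ha <;> omega
    have h4k : 4 ∣ k := by
      rw [ha]
      exact pow_dvd_pow 2 ha2
    haveI : Fact (Nat.Prime 2) := ⟨Nat.prime_two⟩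
    have hMp : IsPGroup 2 M := IsPGroup.of_card (n := a + 1) (by rw [hcardM, ha, pow_succ]; ring)
    have hidx : H.index = m := by
      have := H.card_mul_index
      rw [hcardH, hGm] at this
      have h5 : (2 * n) * H.index = (2 * n) * m := by rw [this]; ring
      exact Nat.eq_of_mul_eq_mul_left (by omega) h5
    have := pgroup_coatom_card_of_index 2 M hM hMp hG2 H hH (by
      rw [hidx]; exact h2 (h4k.trans hkn))
    rw [hcardM, hcardH] at this
    omega

/-- a maximal subgroup `M ≅ D_r`, `r` a prime dividing the group order only once, cannot occur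
if some proper subgroup contains a subgroup of order `r` with normaliser of order `2r` in it -/
theorem dihedral_prime_coatom_false {G : Type*} [Group G] [Finite G] [IsSimpleGroup G]
    (M : Subgroup G) (hM : IsCoatom M) (r₀ : ℕ) [hr : Fact r₀.Prime]
    (e : M ≃* DihedralGroup r₀) (hG : ¬ r₀ ^ 2 ∣ Nat.card G)
    (H : Subgroup G) (hH : H ≠ ⊤) (Q : Subgroup G) (hQH : Q ≤ H) (hQ : Nat.card Q = r₀)
    (hN : Nat.card (H ⊓ Subgroup.normalizer (Q : Set G) : Subgroup G) = 2 * r₀)
    (hHc : Nat.card H ≠ 2 * r₀) : False := by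
  obtain ⟨c, hcM, hcord, hNorm⟩ := dihedral_coatom_normalizer M hM r₀ e r₀ dvd_rfl
  have hcardM : Nat.card M = 2 * r₀ := by
    rw [Nat.card_congr e.toEquiv, DihedralGroup.nat_card]
  have hfac : (Nat.card G).factorization r₀ = 1 := by
    have h1 : r₀ ∣ Nat.card G := by
      rw [← hQ]; exact Subgroup.card_subgroup_dvd_card Q
    have h2 : 1 ≤ (Nat.card G).factorization r₀ :=
      (hr.out.dvd_iff_one_le_factorization Nat.card_pos.ne').mp h1
    have h3 : ¬ 2 ≤ (Nat.card G).factorization r₀ := by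
      intro h
      apply hG
      exact (hr.out.pow_dvd_iff_le_factorization Nat.card_pos.ne').mpr h
    omega
  have hc1 : Nat.card (Subgroup.zpowers c) = r₀ ^ (Nat.card G).factorization r₀ := by
    rw [Nat.card_zpowers, hcord, hfac, pow_one]
  have hc2 : Nat.card Q = r₀ ^ (Nat.card G).factorization r₀ := by
    rw [hQ, hfac, pow_one]
  set N' : Sylow r₀ G := Sylow.ofCard _ hc1 with hN'
  set Q' : Sylow r₀ G := Sylow.ofCard _ hc2 with hQ'
  obtain ⟨g, hg⟩ := MulAction.exists_smul_eq G N' Q'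
  have hQeq : Q = (Subgroup.zpowers c).map (MulAut.conj g).toMonoidHom := by
    have h1 : ((g • N' : Sylow r₀ G) : Subgroup G) = Q := by rw [hg]; rfl
    rw [← h1, Sylow.coe_subgroup_smul]
    rfl
  set M' := M.map (MulAut.conj g).toMonoidHom with hM'
  have hM'co := isCoatom_map_equiv (MulAut.conj g) M hM
  have hQ1 : Q ≠ ⊥ := by
    intro h
    rw [h, Subgroup.card_bot] at hQ
    exact hr.out.one_lt.ne hQ
  have hQM' : Q ≤ M' := by
    rw [hQeq]
    apply Subgroup.map_mono
    rw [Subgroup.zpowers_le]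
    exact hcM
  have hM'N : M' ≤ Subgroup.normalizer (Q : Set G) := by
    rw [hQeq, ← Subgroup.map_equiv_normalizer_eq, hNorm]
  have hNQ := coatom_normalizer M' hM'co Q hQ1 hQM' hM'N
  rw [hNQ] at hN
  have hcardM' : Nat.card M' = 2 * r₀ := by
    rw [hM', Subgroup.card_map_of_injective (MulAut.conj g).injective, hcardM]
  have hle : M' ≤ H := by
    have h1 : H ⊓ M' = M' := Subgroup.eq_of_le_of_card_ge inf_le_right (by rw [hN, hcardM'])
    rw [← h1]
    exact inf_le_left
  have := coatom_conj_card M hM g H hH hle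
  rw [hcardM] at this
  exact hHc this.symm

end Cfsg.Agent.Lib.Helper9.PO
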