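import Mathlib
import Cfsg.Agent.Lib.Helper9.PSLMax5

set_option autoImplicit false
set_option linter.unusedSectionVars false

/-!
# Subgroups of `PGL₂(F)`, `F` of characteristic `p`, with a Sylow-normaliser of Borel type
-/

namespace Cfsg.Agent.Lib.Helper9.PO

open Matrix OnePoint MulAction Cfsg.Agent.Lib.Helper2 Cfsg.Agent.Lib.Helper2.DSub
  Cfsg.Agent.Lib.Helper9.H9PM
open scoped MatrixGroups

variable {F : Type*} [Field F] [DecidableEq F]

attribute [local instance] pglAct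

theorem eq_one_of_pow_p_pow (p : ℕ) [Fact p.Prime] [CharP F p] (a : F) (j : ℕ)
    (h : a ^ (p ^ j) = 1) : a = 1 := by
  have h1 : (a - 1) ^ (p ^ j) = 0 := by
    rw [sub_pow_char_pow, h, one_pow, sub_self]
  exact sub_eq_zero.mp ((pow_eq_zero_iff (pow_ne_zero j (Fact.out : p.Prime).ne_zero)).mp h1)

variable (S : Subgroup (PGL(Fin 2, F)))

theorem US_pow_affB (u : PGL(Fin 2, F)) (hu : u ∈ US S) (n : ℕ) :
    affB (u ^ n) = n • affB u := by
  induction n with
  | zero => rw [pow_zero, affB_one, zero_smul]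
  | succ n ih =>
    rw [pow_succ, affB_mul_US S _ _ ((US S).pow_mem hu n) hu, ih, succ_nsmul]

theorem US_pow_p (p : ℕ) [Fact p.Prime] [CharP F p] (u : PGL(Fin 2, F)) (hu : u ∈ US S) :
    u ^ p = 1 := by
  apply eq_of_affB_eq S _ _ ((US S).pow_mem hu p) (US S).one_mem
  rw [US_pow_affB S u hu, affB_one, nsmul_eq_mul, CharP.cast_eq_zero F p, zero_mul]

theorem isPGroup_US_p (p : ℕ) [Fact p.Prime] [CharP F p] : IsPGroup p (US S) := by
  intro u
  refine ⟨1, ?_⟩
  apply Subtype.ext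
  rw [pow_one, Subgroup.coe_pow, Subgroup.coe_one]
  exact US_pow_p S p u.1 u.2

/-- the data of a subgroup of order `q₀ k (q₀ + 1)` with a subgroup of order `q₀` whose
normaliser has order `q₀ k` -/
structure SFD (S P : Subgroup (PGL(Fin 2, F))) (q₀ k : ℕ) : Prop where
  hPS : P ≤ S
  cardS : Nat.card S = q₀ * k * (q₀ + 1)
  cardP : Nat.card P = q₀
  cardN : Nat.card (S ⊓ Subgroup.normalizer (P : Set (PGL(Fin 2, F))) :
    Subgroup (PGL(Fin 2, F))) = q₀ * k

variable {S}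

theorem SFD.map {P : Subgroup (PGL(Fin 2, F))} {q₀ k : ℕ} (h : SFD S P q₀ k)
    (ψ : PGL(Fin 2, F) ≃* PGL(Fin 2, F)) :
    SFD (S.map ψ.toMonoidHom) (P.map ψ.toMonoidHom) q₀ k where
  hPS := Subgroup.map_mono h.hPS
  cardS := by rw [Subgroup.card_map_of_injective ψ.injective]; exact h.cardS
  cardP := by rw [Subgroup.card_map_of_injective ψ.injective]; exact h.cardP
  cardN := by
    rw [← Subgroup.map_equiv_normalizer_eq, ← Subgroup.map_inf _ _ _ ψ.injective,
      Subgroup.card_map_of_injective ψ.injective]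
    exact h.cardN

variable [Fintype F] (p : ℕ) [Fact p.Prime] [CharP F p]

theorem exists_fixed_of_p_group (P : Subgroup (PGL(Fin 2, F))) (hP : IsPGroup p P) :
    ∃ x : OnePoint F, ∀ g ∈ P, g • x = x := by
  haveI : Finite (OnePoint F) := inferInstanceAs (Finite (Option F))
  have hcard : Nat.card (OnePoint F) = Fintype.card F + 1 := by
    show Nat.card (Option F) = _
    rw [Finite.card_option, Nat.card_eq_fintype_card]
  have hpq : p ∣ Fintype.card F := by
    obtain ⟨n, -, hn⟩ := FiniteField.card F p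
    rw [hn]
    exact dvd_pow_self p n.ne_zero
  have hnd : ¬ p ∣ Nat.card (OnePoint F) := by
    rw [hcard]
    intro h
    have := (Nat.dvd_add_right hpq).mp h
    exact (Fact.out : p.Prime).one_lt.ne' (Nat.dvd_one.mp this)
  obtain ⟨x, hx⟩ := hP.nonempty_fixed_point_of_prime_not_dvd_card (OnePoint F) hnd
  refine ⟨x, fun g hg => ?_⟩
  exact (MulAction.mem_fixedPoints.mp hx) ⟨g, hg⟩

theorem SFD.US_eq {P : Subgroup (PGL(Fin 2, F))} {q₀ k j : ℕ} (h : SFD S P q₀ k)
    (hq : q₀ = p ^ j) (hj : 1 ≤ j) (hk : k ∣ q₀ - 1)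
    (hfix : ∀ g ∈ P, g • (∞ : OnePoint F) = ∞) : US S = P := by
  haveI := finite_pgl (F := F)
  have hpp : p.Prime := Fact.out
  have hle : P ≤ US S := by
    intro g hg
    refine ⟨h.hPS hg, hfix g hg, ?_⟩
    have hpow : g ^ q₀ = 1 := by
      have := pow_card_eq_one' (G := P) (x := ⟨g, hg⟩)
      rw [h.cardP] at this
      exact congrArg Subtype.val this
    have h1 := (affA_pow g (hfix g hg) q₀).1
    rw [hpow, affA_one, hq] at h1
    exact eq_one_of_pow_p_pow p _ j h1.symm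
  obtain ⟨a, ha⟩ := (IsPGroup.iff_card (p := p)).mp (isPGroup_US_p S p)
  have hdvd : Nat.card (US S) ∣ Nat.card S := Subgroup.card_dvd_of_le (US_le S)
  rw [ha, h.cardS, mul_assoc] at hdvd
  have hq2 : 2 ≤ q₀ := by
    rw [hq]
    calc 2 ≤ p := hpp.two_le
      _ = p ^ 1 := (pow_one p).symm
      _ ≤ p ^ j := Nat.pow_le_pow_right hpp.pos hj
  have hpq : p ∣ q₀ := by rw [hq]; exact dvd_pow_self p (by omega)
  have hcop : Nat.Coprime (p ^ a) (k * (q₀ + 1)) := by
    apply Nat.Coprime.pow_left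
    rw [Nat.Prime.coprime_iff_not_dvd hpp]
    intro hd
    rcases (Nat.Prime.dvd_mul hpp).mp hd with h1 | h1
    · have h2 : p ∣ q₀ - 1 := h1.trans hk
      have h3 : p ∣ q₀ - (q₀ - 1) := Nat.dvd_sub hpq h2
      have e : q₀ - (q₀ - 1) = 1 := by omega
      rw [e] at h3
      exact hpp.one_lt.ne' (Nat.dvd_one.mp h3)
    · have h3 := (Nat.dvd_add_right hpq).mp h1
      exact hpp.one_lt.ne' (Nat.dvd_one.mp h3)
  have h2 : p ^ a ∣ q₀ := hcop.dvd_of_dvd_mul_right hdvd
  have h3 : Nat.card (US S) ≤ Nat.card P := by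
    rw [ha, h.cardP]
    exact Nat.le_of_dvd (by omega) h2
  exact (Subgroup.eq_of_le_of_card_ge hle h3).symm

theorem SFD.card_stab {P : Subgroup (PGL(Fin 2, F))} {q₀ k j : ℕ} (h : SFD S P q₀ k)
    (hq : q₀ = p ^ j) (hj : 1 ≤ j) (hk : k ∣ q₀ - 1)
    (hfix : ∀ g ∈ P, g • (∞ : OnePoint F) = ∞) :
    Nat.card (stabilizer S (∞ : OnePoint F)) = q₀ * k := by
  have hpp : p.Prime := Fact.out
  have hUS := h.US_eq p hq hj hk hfix
  have hUne : US S ≠ ⊥ := by
    intro hb
    have h1 : Nat.card (US S) = 1 := by rw [hb]; exact Subgroup.card_bot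
    rw [hUS, h.cardP, hq] at h1
    have h5 : p ^ 1 ≤ p ^ j := Nat.pow_le_pow_right hpp.pos hj
    rw [pow_one] at h5
    have := hpp.two_le
    omega
  have hmap : (stabilizer S (∞ : OnePoint F)).map S.subtype =
      S ⊓ Subgroup.normalizer (P : Set (PGL(Fin 2, F))) := by
    ext g
    constructor
    · rintro ⟨s, hs, rfl⟩
      refine ⟨s.2, ?_⟩
      rw [← hUS]
      exact (mem_normalizer_US_iff S hUne s.1 s.2).mp (mem_stabilizer_iff.mp hs)
    · rintro ⟨hg, hn⟩
      have hn' : g ∈ Subgroup.normalizer ((US S : Subgroup (PGL(Fin 2, F))) :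
          Set (PGL(Fin 2, F))) := by
        rw [hUS]; exact hn
      refine ⟨⟨g, hg⟩, ?_, rfl⟩
      show (⟨g, hg⟩ : S) • (∞ : OnePoint F) = ∞
      exact (mem_normalizer_US_iff S hUne g hg).mpr hn'
  rw [← Subgroup.card_map_of_injective S.subtype_injective, hmap]
  exact h.cardN

theorem SFD.card_orbit {P : Subgroup (PGL(Fin 2, F))} {q₀ k j : ℕ} (h : SFD S P q₀ k)
    (hq : q₀ = p ^ j) (hj : 1 ≤ j) (hk : k ∣ q₀ - 1) (hk0 : 0 < k)
    (hfix : ∀ g ∈ P, g • (∞ : OnePoint F) = ∞) :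
    Nat.card (orbit S (∞ : OnePoint F)) = q₀ + 1 := by
  have hpp : p.Prime := Fact.out
  have h1 := card_orbit_mul_card_stabilizer (G := S) (∞ : OnePoint F)
  rw [h.card_stab p hq hj hk hfix, h.cardS] at h1
  have h2 : 2 ≤ q₀ := by
    rw [hq]
    calc 2 ≤ p := hpp.two_le
      _ = p ^ 1 := (pow_one p).symm
      _ ≤ p ^ j := Nat.pow_le_pow_right hpp.pos hj
  have hpos : 0 < q₀ * k := Nat.mul_pos (by omega) hk0
  have h3 : Nat.card (orbit S (∞ : OnePoint F)) * (q₀ * k) =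
      (q₀ + 1) * (q₀ * k) := by
    rw [h1]; ring
  exact Nat.eq_of_mul_eq_mul_right hpos h3

end Cfsg.Agent.Lib.Helper9.PO
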