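import Mathlib
import Cfsg.Agent.Lib.Helper9.PSLMax6

set_option autoImplicit false
set_option linter.unusedSectionVars false

/-!
# Intermediate subfields of finite fields of characteristic `p`
-/

namespace Cfsg.Agent.Lib.Helper9.PO

open Cfsg.Agent.Lib.Helper9.H9PM

variable {F : Type*} [Field F] (p : ℕ) [Fact p.Prime] [CharP F p]

/-- the fixed field of a power of the Frobenius -/
def frobFixP (i : ℕ) : Subfield F := (iterateFrobenius F p i).eqLocusField (RingHom.id F)

theorem mem_frobFixP (i : ℕ) (x : F) : x ∈ frobFixP (F := F) p i ↔ x ^ (p ^ i) = x := Iff.rfl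

theorem pow_pow_eq_self' (x : F) (n a : ℕ) (h : x ^ n = x) : x ^ (n ^ a) = x := by
  induction a with
  | zero => rw [pow_zero, pow_one]
  | succ a ih => rw [pow_succ, pow_mul, ih, h]

variable [Fintype F]

/-- the arithmetic of intermediate subfields: between a subfield of order `q₀ = p ^ j` and `F`
of order `q₀ ^ (a b)` with `a, b ≥ 2` lies a subfield of order strictly in between -/
theorem exists_intermediate_p (K₀ : Subfield F) (q₀ j a m : ℕ) (hq : q₀ = p ^ j) (hj : 1 ≤ j)
    (hK₀ : Nat.card K₀ = q₀) (hF : Fintype.card F = q₀ ^ m) (ha2 : 2 ≤ a) (ham : a < m)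
    (hdvd : a ∣ m) :
    ∃ K₁ : Subfield F, K₀ ≤ K₁ ∧ Nat.card K₀ < Nat.card K₁ ∧ Nat.card K₁ < Fintype.card F := by
  classical
  have hpp : p.Prime := Fact.out
  haveI : Finite ↥K₀ := Finite.of_injective _ Subtype.val_injective
  haveI : Fintype ↥K₀ := Fintype.ofFinite _
  have hK₀' : Fintype.card ↥K₀ = q₀ := by rw [← Nat.card_eq_fintype_card]; exact hK₀
  have hq2 : 2 ≤ q₀ := by
    rw [hq]
    calc 2 ≤ p := hpp.two_le
      _ = p ^ 1 := (pow_one p).symm
      _ ≤ p ^ j := Nat.pow_le_pow_right hpp.pos hj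
  set i := j * a with hi
  have h2i : p ^ i = q₀ ^ a := by rw [hi, pow_mul, ← hq]
  refine ⟨frobFixP p i, ?_, ?_, ?_⟩
  · intro x hx
    rw [mem_frobFixP, h2i]
    apply pow_pow_eq_self'
    have := FiniteField.pow_card (⟨x, hx⟩ : ↥K₀)
    rw [hK₀'] at this
    exact congrArg Subtype.val this
  all_goals
    obtain ⟨g, hg⟩ := IsCyclic.exists_generator (α := Fˣ)
    have hgord : orderOf g = Fintype.card F - 1 := by
      rw [orderOf_eq_card_of_forall_mem_zpowers hg, Nat.card_units, Nat.card_eq_fintype_card]
    have hqa_lt : q₀ ^ a < q₀ ^ m := Nat.pow_lt_pow_right (by omega) ham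
    have hqa_gt : q₀ < q₀ ^ a := by
      calc q₀ = q₀ ^ 1 := (pow_one _).symm
        _ < q₀ ^ a := Nat.pow_lt_pow_right (by omega) (by omega)
  · -- an element of `K₁` outside `K₀`
    obtain ⟨b, rfl⟩ := hdvd
    have hd : p ^ i - 1 ∣ Fintype.card F - 1 := by
      have e1 : q₀ ^ (a * b) = (p ^ i) ^ b := by rw [pow_mul, h2i]
      rw [hF, e1]
      simpa only [one_pow] using Nat.sub_dvd_pow_sub_pow (p ^ i) 1 b
    set d := p ^ i - 1 with hd_def
    have hd1 : p ^ i = d + 1 := by
      have : 0 < p ^ i := Nat.pow_pos hpp.pos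
      omega
    have hq1 : 1 < Fintype.card F := Fintype.one_lt_card
    have hk0 : (Fintype.card F - 1) / d ≠ 0 := by
      intro h0
      have hdpos : 0 < d := by omega
      have := Nat.div_mul_cancel hd
      rw [h0, zero_mul] at this
      omega
    set h : Fˣ := g ^ ((Fintype.card F - 1) / d) with hh
    have hord : orderOf h = d := by
      rw [hh, orderOf_pow_of_dvd hk0 (by rw [hgord]; exact Nat.div_dvd_of_dvd hd), hgord,
        Nat.div_div_self hd (by omega)]
    have hmem : (h : F) ∈ frobFixP (F := F) p i := by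
      rw [mem_frobFixP, hd1, pow_succ]
      have : h ^ d = 1 := by rw [← hord]; exact pow_orderOf_eq_one h
      have h' : (h : F) ^ d = 1 := by
        rw [← Units.val_pow_eq_pow_val, this, Units.val_one]
      rw [h', one_mul]
    have hnot : (h : F) ∉ K₀ := by
      intro hx
      have h1 := FiniteField.pow_card_sub_one_eq_one (⟨(h : F), hx⟩ : ↥K₀) (by
        intro h0
        exact h.ne_zero (congrArg Subtype.val h0))
      rw [hK₀'] at h1
      have h2 : (h : F) ^ (q₀ - 1) = 1 := congrArg Subtype.val h1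
      have h3 : h ^ (q₀ - 1) = 1 := by
        apply Units.ext
        rw [Units.val_pow_eq_pow_val, h2, Units.val_one]
      have h4 : d ∣ q₀ - 1 := by rw [← hord]; exact orderOf_dvd_of_pow_eq_one h3
      have h5 := Nat.le_of_dvd (by omega) h4
      omega
    have hle : K₀ ≤ frobFixP (F := F) p i := by
      intro x hx
      rw [mem_frobFixP, h2i]
      apply pow_pow_eq_self'
      have := FiniteField.pow_card (⟨x, hx⟩ : ↥K₀)
      rw [hK₀'] at this
      exact congrArg Subtype.val this
    haveI : Finite ↥(frobFixP (F := F) p i) := Finite.of_injective _ Subtype.val_injective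
    apply natCard_lt_of_injective_not_surjective (Subfield.inclusion hle)
      (fun x y hxy => Subtype.ext (congrArg (fun z : ↥(frobFixP (F := F) p i) => (z : F)) hxy))
    intro hsurj
    obtain ⟨y, hy⟩ := hsurj ⟨(h : F), hmem⟩
    apply hnot
    have : (y : F) = (h : F) := congrArg Subtype.val hy
    rw [← this]
    exact y.2
  · -- the generator is outside `K₁`
    have hgnot : (g : F) ∉ frobFixP (F := F) p i := by
      intro hx
      rw [mem_frobFixP] at hx
      have hpos : 0 < p ^ i := Nat.pow_pos hpp.pos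
      have h1 : g ^ (p ^ i - 1) = 1 := by
        have h2 : g ^ (p ^ i) = g := by
          apply Units.ext
          rw [Units.val_pow_eq_pow_val, hx]
        have h3 : g ^ (p ^ i - 1) * g = 1 * g := by
          rw [← pow_succ, Nat.sub_add_cancel hpos, h2, one_mul]
        exact mul_right_cancel h3
      have h4 : Fintype.card F - 1 ∣ p ^ i - 1 := by
        rw [← hgord]; exact orderOf_dvd_of_pow_eq_one h1
      have h5 := Nat.le_of_dvd (by omega) h4
      rw [hF, h2i] at h5
      omega
    rw [← Nat.card_eq_fintype_card]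
    haveI : Finite ↥(frobFixP (F := F) p i) := Finite.of_injective _ Subtype.val_injective
    apply natCard_lt_of_injective_not_surjective (frobFixP (F := F) p i).subtype
      Subtype.val_injective
    intro hsurj
    obtain ⟨y, hy⟩ := hsurj (g : F)
    apply hgnot
    rw [← hy]
    exact y.2

/-- the order of a field is a power, with exponent at least `2`, of the order of a proper
subfield -/
theorem sq_le_card_of_lt (K₁ : Subfield F) (h : Nat.card K₁ < Fintype.card F) :
    Nat.card K₁ ^ 2 ≤ Fintype.card F := by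
  classical
  haveI : Fintype ↥K₁ := Fintype.ofFinite _
  have h1 : Fintype.card F = Fintype.card ↥K₁ ^ Module.finrank ↥K₁ F :=
    Module.card_eq_pow_finrank (K := ↥K₁) (V := F)
  rw [Nat.card_eq_fintype_card] at h ⊢
  have hK1 : 2 ≤ Fintype.card ↥K₁ := Fintype.one_lt_card
  set b := Module.finrank ↥K₁ F with hb
  have hb2 : 2 ≤ b := by
    by_contra hlt
    have : b = 0 ∨ b = 1 := by omega
    rcases this with h0 | h0 <;> rw [h0] at h1
    · rw [pow_zero] at h1; omega
    · rw [pow_one] at h1; omega
  rw [h1]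
  exact Nat.pow_le_pow_right (by omega) hb2

/-- the order of a subfield is a power, with exponent at least `2`, of the order of a proper
subfield of it -/
theorem sq_le_card_of_le_of_lt (K₀ K₁ : Subfield F) (hle : K₀ ≤ K₁)
    (h : Nat.card K₀ < Nat.card K₁) : Nat.card K₀ ^ 2 ≤ Nat.card K₁ := by
  classical
  haveI : Fintype ↥K₀ := Fintype.ofFinite _
  haveI : Fintype ↥K₁ := Fintype.ofFinite _
  letI : Algebra ↥K₀ ↥K₁ := (Subfield.inclusion hle).toAlgebra
  have h1 : Fintype.card ↥K₁ = Fintype.card ↥K₀ ^ Module.finrank ↥K₀ ↥K₁ :=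
    Module.card_eq_pow_finrank (K := ↥K₀) (V := ↥K₁)
  rw [Nat.card_eq_fintype_card, Nat.card_eq_fintype_card] at h ⊢
  have hK1 : 2 ≤ Fintype.card ↥K₀ := Fintype.one_lt_card
  set b := Module.finrank ↥K₀ ↥K₁ with hb
  have hb2 : 2 ≤ b := by
    by_contra hlt
    have : b = 0 ∨ b = 1 := by omega
    rcases this with h0 | h0 <;> rw [h0] at h1
    · rw [pow_zero] at h1; omega
    · rw [pow_one] at h1; omega
  rw [h1]
  exact Nat.pow_le_pow_right (by omega) hb2

end Cfsg.Agent.Lib.Helper9.PO
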