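import Mathlib
import Cfsg.Agent.Lib.Helper2.DSubP9
import Cfsg.Agent.Lib.Helper9.POS1
import Cfsg.Agent.Lib.Helper9.POS2
import Cfsg.Agent.Lib.Helper9.PSLMax8

set_option autoImplicit false
set_option linter.unusedSectionVars false

/-!
# Subgroups of `PGL₂(F)` of subfield type lie in subfield subgroups, characteristic `p`
-/

namespace Cfsg.Agent.Lib.Helper9.PO

open Matrix OnePoint MulAction Cfsg.Agent.Lib.Helper2 Cfsg.Agent.Lib.Helper2.DSub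
  Cfsg.Agent.Lib.Helper9.H9PM
open scoped MatrixGroups

variable {F : Type*} [Field F] [Fintype F] [DecidableEq F] (p : ℕ) [Fact p.Prime] [CharP F p]

attribute [local instance] pglAct

omit [Fintype F] in
theorem conj_inv_smul' (δ g : PGL(Fin 2, F)) (z : OnePoint F) :
    ((MulAut.conj δ⁻¹ : PGL(Fin 2, F) ≃* PGL(Fin 2, F)) g) • z = δ⁻¹ • (g • (δ • z)) := by
  rw [MulAut.conj_apply, inv_inv, mul_smul, mul_smul]

/-- after two conjugations the subgroup lies in the subfield subgroup of a subfield of order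
`q₀` -/
theorem exists_subfield_p {S P : Subgroup (PGL(Fin 2, F))} {q₀ k j : ℕ} (h : SFD S P q₀ k)
    (hq : q₀ = p ^ j) (hj : 1 ≤ j) (hk : k = q₀ - 1 ∨ 2 * k = q₀ - 1) (hq3 : 3 ≤ q₀) :
    ∃ (δ₁ δ₂ : PGL(Fin 2, F)) (K₀ : Subfield F), Nat.card K₀ = q₀ ∧
      (S.map (MulAut.conj δ₁⁻¹ : PGL(Fin 2, F) ≃* PGL(Fin 2, F)).toMonoidHom).map
        (MulAut.conj δ₂⁻¹ : PGL(Fin 2, F) ≃* PGL(Fin 2, F)).toMonoidHom ≤
        (ProjGenLinGroup.map (n := Fin 2) K₀.subtype).range := by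
  haveI := finite_pgl (F := F)
  have hq2 : 2 ≤ q₀ := by omega
  have hk0 : 0 < k := by rcases hk with h1 | h1 <;> omega
  have hkd : k ∣ q₀ - 1 := by
    rcases hk with h1 | h1
    · rw [h1]
    · exact ⟨2, by omega⟩
  have hP2 : IsPGroup p P := IsPGroup.of_card (n := j) (by rw [h.cardP, hq])
  obtain ⟨x, hx⟩ := exists_fixed_of_p_group p P hP2
  obtain ⟨δ₁, hδ₁⟩ := exists_smul_infty_eq x
  set ψ₁ : PGL(Fin 2, F) ≃* PGL(Fin 2, F) := MulAut.conj δ₁⁻¹ with hψ₁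
  have h₁ := h.map ψ₁
  have hfix₁ : ∀ g ∈ P.map ψ₁.toMonoidHom, g • (∞ : OnePoint F) = ∞ := by
    rintro _ ⟨g, hg, rfl⟩
    show (ψ₁ g) • (∞ : OnePoint F) = ∞
    rw [hψ₁, conj_inv_smul', hδ₁, hx g hg, ← hδ₁, inv_smul_smul]
  have hO₁ := h₁.card_orbit p hq hj hkd hk0 hfix₁
  set S₁ := S.map ψ₁.toMonoidHom with hS₁
  have hfin : (orbit S₁ (∞ : OnePoint F)).Finite := Set.toFinite _
  have hcard : (orbit S₁ (∞ : OnePoint F)).ncard = q₀ + 1 := by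
    rw [← Nat.card_coe_set_eq]; exact hO₁
  have hmem : (∞ : OnePoint F) ∈ orbit S₁ (∞ : OnePoint F) := mem_orbit_self _
  have h2 : 1 < ((orbit S₁ (∞ : OnePoint F)) \ {∞}).ncard := by
    rw [Set.ncard_sdiff_singleton_of_mem hmem, hcard]
    omega
  obtain ⟨y, y', hy, hy', hyy'⟩ := (Set.one_lt_ncard_iff (hfin.subset Set.sdiff_subset)).mp h2
  have hyx : (∞ : OnePoint F) ≠ y := fun hh => hy.2 (by rw [← hh]; rfl)
  have hy'x : (∞ : OnePoint F) ≠ y' := fun hh => hy'.2 (by rw [← hh]; rfl)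
  obtain ⟨δ₂, hδ₂, h0, h1⟩ := exists_std (∞ : OnePoint F) y y' hyx hy'x hyy'
  set ψ₂ : PGL(Fin 2, F) ≃* PGL(Fin 2, F) := MulAut.conj δ₂⁻¹ with hψ₂
  have h₂ := h₁.map ψ₂
  have hfix₂ : ∀ g ∈ (P.map ψ₁.toMonoidHom).map ψ₂.toMonoidHom, g • (∞ : OnePoint F) = ∞ := by
    rintro _ ⟨g, hg, rfl⟩
    show (ψ₂ g) • (∞ : OnePoint F) = ∞
    rw [hψ₂, conj_inv_smul', hδ₂, hfix₁ g hg, inv_smul_eq_iff, hδ₂]
  set S₂ := S₁.map ψ₂.toMonoidHom with hS₂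
  have hO₂ := h₂.card_orbit p hq hj hkd hk0 hfix₂
  have hst₂ := h₂.card_stab p hq hj hkd hfix₂
  have hU₂ : Nat.card (US S₂) = q₀ := by
    rw [h₂.US_eq p hq hj hkd hfix₂]; exact h₂.cardP
  have key : ∀ w z : OnePoint F, δ₂ • z = w → w ∈ orbit S₁ (∞ : OnePoint F) →
      z ∈ orbit S₂ (∞ : OnePoint F) := by
    intro w z hzw hw
    obtain ⟨s, hs⟩ := hw
    refine ⟨⟨ψ₂ s.1, Subgroup.mem_map_of_mem _ s.2⟩, ?_⟩
    show (ψ₂ s.1) • (∞ : OnePoint F) = z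
    rw [hψ₂, conj_inv_smul', hδ₂, inv_smul_eq_iff, hzw]
    exact hs
  have h0' : ((0 : F) : OnePoint F) ∈ orbit S₂ (∞ : OnePoint F) := key y _ h0 hy.1
  have h1' : ((1 : F) : OnePoint F) ∈ orbit S₂ (∞ : OnePoint F) := key y' _ h1 hy'.1
  have hk' : q₀ ≤ 2 * k + 1 := by rcases hk with h1 | h1 <;> omega
  have hle := le_range_map S₂ q₀ k hq2 hk' hO₂ h0' h1' hU₂ hst₂
  obtain ⟨-, hK0⟩ := orbit_eq_K0 S₂ q₀ k hq2 hk' hO₂ h0' h1' hU₂ hst₂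
  exact ⟨δ₁, δ₂, K0 S₂, hK0, hle⟩

end Cfsg.Agent.Lib.Helper9.PO
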