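import Mathlib
import Cfsg.Agent.Lib.Helper9.POS3
import Cfsg.Agent.Lib.Helper9.PO11

set_option autoImplicit false
set_option linter.unusedSectionVars false

/-!
# The image of `PSL₂(F)` in `PGL₂(F)` and its maximal subgroups inside subfield subgroups
-/

namespace Cfsg.Agent.Lib.Helper9.PO

open Matrix OnePoint MulAction Cfsg.Agent.Lib.Helper2 Cfsg.Agent.Lib.Helper2.DSub
  Cfsg.Agent.Lib.Helper9.H9PM
open scoped MatrixGroups

/-- maximality inside a subgroup -/
def MaxIn {G : Type*} [Group G] (L S : Subgroup G) : Prop :=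
  S ≤ L ∧ ∀ H : Subgroup G, S ≤ H → H ≤ L → H = S ∨ H = L

theorem MaxIn.map {G : Type*} [Group G] {L S : Subgroup G} (h : MaxIn L S) (ψ : G ≃* G)
    (hL : L.map ψ.toMonoidHom = L) : MaxIn L (S.map ψ.toMonoidHom) := by
  refine ⟨?_, ?_⟩
  · rw [← hL]
    exact Subgroup.map_mono h.1
  · intro H hSH hHL
    have h1 : S ≤ H.comap ψ.toMonoidHom := Subgroup.map_le_iff_le_comap.mp hSH
    have h2 : H.comap ψ.toMonoidHom ≤ L := by
      intro x hx
      have hx' : ψ x ∈ L := hHL hx
      rw [← hL] at hx'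
      obtain ⟨l, hl, hlx⟩ := hx'
      have : l = x := ψ.injective hlx
      rw [← this]
      exact hl
    have h3 : (H.comap ψ.toMonoidHom).map ψ.toMonoidHom = H :=
      Subgroup.map_comap_eq_self_of_surjective ψ.surjective H
    rcases h.2 _ h1 h2 with h4 | h4
    · left
      rw [← h3, h4]
    · right
      rw [← h3, h4, hL]

theorem maxIn_of_coatom {G G' : Type*} [Group G] [Group G'] (f : G →* G') (M : Subgroup G)
    (hM : IsCoatom M) : MaxIn f.range (M.map f) := by
  refine ⟨Subgroup.map_le_range f M, ?_⟩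
  intro H hMH hHL
  have h1 : M ≤ H.comap f := Subgroup.map_le_iff_le_comap.mp hMH
  have h3 : (H.comap f).map f = H := Subgroup.map_comap_eq_self hHL
  rcases hM.le_iff.mp h1 with h4 | h4
  · right
    rw [← h3, h4, ← MonoidHom.range_eq_map]
  · left
    rw [← h3, h4]

variable {F : Type*} [Field F] [Fintype F]

/-- the image of `PSL₂(F)` in `PGL₂(F)` -/
noncomputable def Lsub : Subgroup (PGL(Fin 2, F)) :=
  (ProjectiveSpecialLinearGroup.toPGL (n := Fin 2) (R := F)).range

theorem card_Lsub : Nat.card (Lsub (F := F)) =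
    Nat.card (ProjectiveSpecialLinearGroup (Fin 2) F) :=
  (Nat.card_congr (MonoidHom.ofInjective
    (ProjectiveSpecialLinearGroup.toPGL_injective (n := Fin 2) (R := F))).toEquiv).symm

theorem two_mul_card_Lsub (h2 : (2 : F) ≠ 0) : 2 * Nat.card (Lsub (F := F)) =
    Fintype.card F * (Fintype.card F - 1) * (Fintype.card F + 1) := by
  rw [card_Lsub, card_G h2]

theorem index_Lsub (h2 : (2 : F) ≠ 0) : (Lsub (F := F)).index = 2 := by
  haveI := finite_pgl (F := F)
  have h1 := (Lsub (F := F)).card_mul_index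
  rw [card_pgl_two, ← two_mul_card_Lsub h2] at h1
  have hpos : 0 < Nat.card (Lsub (F := F)) := Nat.card_pos
  have : Nat.card (Lsub (F := F)) * (Lsub (F := F)).index = Nat.card (Lsub (F := F)) * 2 := by
    rw [h1]; ring
  exact Nat.eq_of_mul_eq_mul_left hpos this

theorem normal_Lsub (h2 : (2 : F) ≠ 0) : (Lsub (F := F)).Normal :=
  Subgroup.normal_of_index_eq_two (index_Lsub h2)

theorem map_conj_Lsub (h2 : (2 : F) ≠ 0) (δ : PGL(Fin 2, F)) :
    (Lsub (F := F)).map (MulAut.conj δ : PGL(Fin 2, F) ≃* PGL(Fin 2, F)).toMonoidHom = Lsub := by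
  haveI := normal_Lsub (F := F) h2
  exact Subgroup.Normal.map_conj_eq (H := Lsub (F := F)) δ

/-- intersections with the image of `PSL₂(F)` have index at most two -/
theorem card_le_two_mul_inf (h2 : (2 : F) ≠ 0) (R : Subgroup (PGL(Fin 2, F))) :
    Nat.card R ≤ 2 * Nat.card (R ⊓ Lsub : Subgroup (PGL(Fin 2, F))) := by
  haveI := finite_pgl (F := F)
  haveI := normal_Lsub (F := F) h2
  have h1 := ((Lsub (F := F)).subgroupOf R).card_mul_index
  have h3 : Nat.card ((Lsub (F := F)).subgroupOf R) =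
      Nat.card (R ⊓ Lsub : Subgroup (PGL(Fin 2, F))) := by
    rw [← Subgroup.card_map_of_injective R.subtype_injective, Subgroup.subgroupOf_map_subtype,
      inf_comm]
  have h4 : ((Lsub (F := F)).subgroupOf R).index ∣ 2 := by
    have := Subgroup.relIndex_dvd_index_of_normal (H := Lsub (F := F)) (K := R)
    rw [index_Lsub h2] at this
    exact this
  have h5 : ((Lsub (F := F)).subgroupOf R).index ≤ 2 := Nat.le_of_dvd (by norm_num) h4
  rw [h3] at h1
  calc Nat.card R = Nat.card (R ⊓ Lsub : Subgroup (PGL(Fin 2, F))) *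
        ((Lsub (F := F)).subgroupOf R).index := h1.symm
    _ ≤ Nat.card (R ⊓ Lsub : Subgroup (PGL(Fin 2, F))) * 2 := Nat.mul_le_mul_left _ h5
    _ = 2 * Nat.card (R ⊓ Lsub : Subgroup (PGL(Fin 2, F))) := by ring

/-- the subfield subgroup of `PGL₂(F)` -/
noncomputable def RK (K : Subfield F) : Subgroup (PGL(Fin 2, F)) :=
  (ProjGenLinGroup.map (n := Fin 2) K.subtype).range

theorem card_RK (K₁ : Subfield F) :
    Nat.card (RK K₁) = Nat.card K₁ * (Nat.card K₁ - 1) * (Nat.card K₁ + 1) := by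
  classical
  haveI : Finite ↥K₁ := Finite.of_injective _ Subtype.val_injective
  haveI : Fintype ↥K₁ := Fintype.ofFinite _
  have hinj := pgl_map_injective (K₀ := ↥K₁) (L := F) K₁.subtype
  unfold RK
  rw [← Nat.card_congr (MonoidHom.ofInjective hinj).toEquiv, card_pgl_two,
    Nat.card_eq_fintype_card]

theorem RK_mono {K₀ K₁ : Subfield F} (h : K₀ ≤ K₁) : RK K₀ ≤ RK K₁ := by
  have e : K₀.subtype = K₁.subtype.comp (Subfield.inclusion h) := by
    ext x
    rfl
  unfold RK
  rw [e, ProjGenLinGroup.map_comp, MonoidHom.range_comp]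
  exact Subgroup.map_le_range _ _

variable (p : ℕ) [Fact p.Prime] [CharP F p]

/-- a subgroup of subfield type, maximal in the image of `PSL₂(F)` and contained in the subfield
subgroup of a subfield of order `q₀`: the degree is prime -/
theorem tower_p (h2 : (2 : F) ≠ 0) (S : Subgroup (PGL(Fin 2, F))) (hS : MaxIn Lsub S)
    (hne : S ≠ Lsub) (q₀ j k : ℕ) (hq : q₀ = p ^ j) (hj : 1 ≤ j)
    (hk : k = q₀ - 1 ∨ 2 * k = q₀ - 1) (hq3 : 3 ≤ q₀)
    (hcard : Nat.card S = q₀ * k * (q₀ + 1)) (K₀ : Subfield F) (hK₀ : Nat.card K₀ = q₀)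
    (hle : S ≤ RK K₀) :
    ∃ r : ℕ, r.Prime ∧ Fintype.card F = q₀ ^ r ∧ S = RK K₀ ⊓ Lsub := by
  classical
  haveI := finite_pgl (F := F)
  haveI : Finite ↥K₀ := Finite.of_injective _ Subtype.val_injective
  haveI : Fintype ↥K₀ := Fintype.ofFinite _
  have hK₀' : Fintype.card ↥K₀ = q₀ := by rw [← Nat.card_eq_fintype_card]; exact hK₀
  set m := Module.finrank ↥K₀ F with hm
  have hqm : Fintype.card F = q₀ ^ m := by
    rw [Module.card_eq_pow_finrank (K := ↥K₀) (V := F), hK₀']
  have hF1 : 1 < Fintype.card F := Fintype.one_lt_card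
  have hL2 := two_mul_card_Lsub (F := F) h2
  have hkle : k ≤ q₀ - 1 := by rcases hk with h1 | h1 <;> omega
  have hSle : Nat.card S ≤ q₀ * (q₀ - 1) * (q₀ + 1) := by
    rw [hcard]
    exact Nat.mul_le_mul_right _ (Nat.mul_le_mul_left _ hkle)
  have hm0 : m ≠ 0 := by
    intro h0
    rw [h0, pow_zero] at hqm
    omega
  have hm1 : m ≠ 1 := by
    intro h1
    rw [h1, pow_one] at hqm
    rw [hqm] at hL2
    have hSL : Nat.card S ≤ Nat.card (Lsub (F := F)) := Subgroup.card_le_of_le hS.1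
    rcases hk with hk1 | hk1
    · rw [hcard, hk1] at hSL
      have hpos : 0 < q₀ * (q₀ - 1) * (q₀ + 1) :=
        Nat.mul_pos (Nat.mul_pos (by omega) (by omega)) (by omega)
      omega
    · apply hne
      apply Subgroup.eq_of_le_of_card_ge hS.1
      rw [hcard]
      have : 2 * (q₀ * k * (q₀ + 1)) = q₀ * (q₀ - 1) * (q₀ + 1) := by
        rw [← hk1]; ring
      omega
  have hm2 : 2 ≤ m := by omega
  -- the intersection with the image of `PSL₂(F)`
  have key : ∀ K₁ : Subfield F, K₀ ≤ K₁ → Nat.card K₁ < Fintype.card F →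
      S = RK K₁ ⊓ Lsub := by
    intro K₁ hK01 hlt
    have hle1 : S ≤ RK K₁ ⊓ Lsub := le_inf (hle.trans (RK_mono hK01)) hS.1
    rcases hS.2 _ hle1 inf_le_right with h | h
    · exact h.symm
    · exfalso
      have h1 : Nat.card (Lsub (F := F)) ≤ Nat.card (RK K₁) := by
        rw [← h]
        exact Subgroup.card_le_of_le inf_le_left
      rw [card_RK] at h1
      have h3 := sq_le_card_of_lt K₁ hlt
      have h4 := card_sub_pos K₁
      have h5 := card_f_mono (s := Nat.card K₁ ^ 2) (t := Fintype.card F)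
        (Nat.one_le_pow _ _ (by omega)) h3
      have h6 := card_f_sq_gt (Nat.card K₁) h4
      omega
  have hq0lt : q₀ < Fintype.card F := by
    rw [hqm]
    calc q₀ = q₀ ^ 1 := (pow_one _).symm
      _ < q₀ ^ m := Nat.pow_lt_pow_right (by omega) (by omega)
  refine ⟨m, ?_, hqm, key K₀ le_rfl (by rw [hK₀]; exact hq0lt)⟩
  by_contra hnp
  obtain ⟨a, hdvd, ha2, ham⟩ := Nat.exists_dvd_of_not_prime2 (by omega) hnp
  obtain ⟨K₁, hK01, hlt1, hlt2⟩ := exists_intermediate_p p K₀ q₀ j a m hq hj hK₀ hqm ha2 ham hdvd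
  have h1 := key K₁ hK01 hlt2
  have h3 := card_le_two_mul_inf h2 (RK K₁)
  rw [← h1, card_RK] at h3
  have h4 := sq_le_card_of_le_of_lt K₀ K₁ hK01 hlt1
  rw [hK₀] at h4
  have h5 := card_f_mono (s := q₀ ^ 2) (t := Nat.card K₁) (Nat.one_le_pow _ _ (by omega)) h4
  have h6 := card_f_sq_gt q₀ (by omega)
  omega

end Cfsg.Agent.Lib.Helper9.PO
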