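import Mathlib
import Cfsg.Agent.Lib.Helper9.POS4
import Cfsg.Agent.S0805

set_option autoImplicit false
set_option linter.unusedSectionVars false

/-!
# Maximal subgroups of `PSL₂(q)`, `q` odd, of subfield type
-/

namespace Cfsg.Agent.Lib.Helper9.PO

open Matrix OnePoint MulAction Cfsg.Agent.Lib.Helper2 Cfsg.Agent.Lib.Helper2.DSub
  Cfsg.Agent.Lib.Helper9.H9PM
open scoped MatrixGroups

/-- images of normalisers under injective homomorphisms -/
theorem map_inf_normalizer {G G' : Type*} [Group G] [Group G'] (f : G →* G')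
    (hf : Function.Injective f) (M P : Subgroup G) :
    (M ⊓ Subgroup.normalizer (P : Set G)).map f =
      M.map f ⊓ Subgroup.normalizer ((P.map f : Subgroup G') : Set G') := by
  ext y
  rw [Subgroup.mem_map, Subgroup.mem_inf, Subgroup.mem_map]
  constructor
  · rintro ⟨x, hx, rfl⟩
    rw [Subgroup.mem_inf] at hx
    obtain ⟨hxM, hxN⟩ := hx
    refine ⟨⟨x, hxM, rfl⟩, ?_⟩
    rw [Subgroup.mem_normalizer_iff]
    rw [Subgroup.mem_normalizer_iff] at hxN
    intro h
    constructor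
    · rintro ⟨u, hu, rfl⟩
      exact ⟨x * u * x⁻¹, (hxN u).mp hu, by rw [map_mul, map_mul, map_inv]⟩
    · rintro ⟨u, hu, hu'⟩
      refine ⟨x⁻¹ * u * x, ?_, ?_⟩
      · have : x * (x⁻¹ * u * x) * x⁻¹ = u := by group
        refine (hxN (x⁻¹ * u * x)).mpr ?_
        rw [this]
        exact hu
      · rw [map_mul, map_mul, map_inv, hu']
        group
  · rintro ⟨⟨x, hxM, rfl⟩, hN⟩
    refine ⟨x, ?_, rfl⟩
    rw [Subgroup.mem_inf]
    refine ⟨hxM, ?_⟩
    rw [Subgroup.mem_normalizer_iff] at hN ⊢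
    intro h
    constructor
    · intro hh
      obtain ⟨u, hu, hu'⟩ := (hN (f h)).mp ⟨h, hh, rfl⟩
      have : u = x * h * x⁻¹ := hf (by rw [hu', map_mul, map_mul, map_inv])
      rw [← this]
      exact hu
    · intro hh
      have h1 : f x * f h * (f x)⁻¹ ∈ P.map f :=
        ⟨x * h * x⁻¹, hh, by rw [map_mul, map_mul, map_inv]⟩
      obtain ⟨u, hu, hu'⟩ := (hN (f h)).mpr h1
      have : u = h := hf hu'
      rw [← this]
      exact hu

variable {F : Type*} [Field F] [Fintype F]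

/-- if the elements of a subfield are squares, its subgroup lies in the image of `PSL₂(F)` -/
theorem RK_le_Lsub (K : Subfield F)
    (hsq : ∀ d : ↥K, d ≠ 0 → ∃ c : F, c * c = K.subtype d) : RK K ≤ Lsub := by
  rintro _ ⟨x, rfl⟩
  induction x using ProjGenLinGroup.induction_on with | mk γ =>
  obtain ⟨c, hc⟩ := hsq _ (Matrix.GeneralLinearGroup.det_ne_zero γ)
  have hc0 := PGLsub.root_ne_zero K.subtype γ hc
  refine ⟨QuotientGroup.mk (PGLsub.A K.subtype γ c hc), ?_⟩
  rw [ProjectiveSpecialLinearGroup.toPGL_mk, ProjGenLinGroup.map_mk,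
    ProjGenLinGroup.mk_eq_mk_iff]
  refine ⟨Units.mk0 c hc0, ?_⟩
  apply Units.ext
  rw [Units.val_mul, Matrix.SpecialLinearGroup.coe_GL_coe_matrix,
    Matrix.GeneralLinearGroup.coe_scalar]
  show (c⁻¹ • K.subtype.mapMatrix (γ : Matrix (Fin 2) (Fin 2) ↥K)) * _ = _
  rw [Matrix.smul_mul, Units.val_mk0]
  ext i j
  simp only [Matrix.smul_apply, Matrix.mul_apply, Matrix.scalar_apply, Matrix.diagonal_apply,
    Fin.sum_univ_two, smul_eq_mul]
  fin_cases i <;> fin_cases j <;> simp <;> field_simp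

variable (p : ℕ) [Fact p.Prime] [CharP F p]

/-- a maximal subgroup of `PSL₂(F)`, `F` of odd order, with a subgroup of order `q₀` whose
normaliser has the order of a Borel subgroup of `PGL₂(q₀)` or `PSL₂(q₀)`, is a subfield
subgroup over a subfield of prime index -/
theorem subfield_main (hodd : Odd (Fintype.card F))
    (M : Subgroup (ProjectiveSpecialLinearGroup (Fin 2) F)) (hM : IsCoatom M)
    (P : Subgroup (ProjectiveSpecialLinearGroup (Fin 2) F)) (hPM : P ≤ M) (q₀ k j : ℕ)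
    (hq : q₀ = p ^ j) (hj : 1 ≤ j) (hk : k = q₀ - 1 ∨ 2 * k = q₀ - 1) (hq3 : 3 ≤ q₀)
    (hcardM : Nat.card M = q₀ * k * (q₀ + 1)) (hcardP : Nat.card P = q₀)
    (hcardN : Nat.card (M ⊓ Subgroup.normalizer (P : Set (ProjectiveSpecialLinearGroup (Fin 2) F)) :
      Subgroup (ProjectiveSpecialLinearGroup (Fin 2) F)) = q₀ * k) :
    ∃ r : ℕ, r.Prime ∧ Fintype.card F = q₀ ^ r ∧
      ((k = q₀ - 1 ∧ r = 2 ∧ ∃ (F₀ : Type) (_ : Field F₀) (_ : Fintype F₀),
          Fintype.card F₀ = q₀ ∧ Nonempty (M ≃* PGL(Fin 2, F₀))) ∨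
        (2 * k = q₀ - 1 ∧ Odd r ∧ ∃ (F₀ : Type) (_ : Field F₀) (_ : Fintype F₀),
          Fintype.card F₀ = q₀ ∧ Nonempty (M ≃* ProjectiveSpecialLinearGroup (Fin 2) F₀))) := by
  classical
  have h2 : (2 : F) ≠ 0 := Cfsg.Agent.Lib.Helper1.two_ne_zero_of_odd_card hodd
  haveI := finite_pgl (F := F)
  haveI := finite_psl (F := F)
  set f := ProjectiveSpecialLinearGroup.toPGL (n := Fin 2) (R := F) with hf
  have hinj : Function.Injective f := ProjectiveSpecialLinearGroup.toPGL_injective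
  set S := M.map f with hS
  have hdata : SFD S (P.map f) q₀ k := by
    refine ⟨Subgroup.map_mono hPM, ?_, ?_, ?_⟩
    · rw [Subgroup.card_map_of_injective hinj]; exact hcardM
    · rw [Subgroup.card_map_of_injective hinj]; exact hcardP
    · rw [← map_inf_normalizer f hinj, Subgroup.card_map_of_injective hinj]; exact hcardN
  obtain ⟨δ₁, δ₂, K₀, hK₀, hle⟩ := exists_subfield_p p hdata hq hj hk hq3
  set ψ₁ : PGL(Fin 2, F) ≃* PGL(Fin 2, F) := MulAut.conj δ₁⁻¹ with hψ₁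
  set ψ₂ : PGL(Fin 2, F) ≃* PGL(Fin 2, F) := MulAut.conj δ₂⁻¹ with hψ₂
  set S₂ := (S.map ψ₁.toMonoidHom).map ψ₂.toMonoidHom with hS₂
  have hmax : MaxIn Lsub S := maxIn_of_coatom f M hM
  have hmax₂ : MaxIn Lsub S₂ :=
    (hmax.map ψ₁ (map_conj_Lsub h2 _)).map ψ₂ (map_conj_Lsub h2 _)
  have hneS : S ≠ Lsub := by
    intro h
    have h1 : M.map f = (⊤ : Subgroup _).map f := by
      rw [← MonoidHom.range_eq_map]; exact h
    exact hM.1 (Subgroup.map_injective hinj h1)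
  have hne₂ : S₂ ≠ Lsub := by
    intro h
    apply hneS
    have h1 : S₂ = ((Lsub (F := F)).map ψ₁.toMonoidHom).map ψ₂.toMonoidHom := by
      rw [map_conj_Lsub h2, map_conj_Lsub h2]; exact h
    exact Subgroup.map_injective ψ₁.injective (Subgroup.map_injective ψ₂.injective h1)
  have hcardS₂ : Nat.card S₂ = q₀ * k * (q₀ + 1) := ((hdata.map ψ₁).map ψ₂).cardS
  obtain ⟨r, hr, hqr, hS₂eq⟩ := tower_p p h2 S₂ hmax₂ hne₂ q₀ j k hq hj hk hq3 hcardS₂ K₀ hK₀ hle
  refine ⟨r, hr, hqr, ?_⟩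
  -- the isomorphism type
  haveI : Fintype ↥K₀ := Fintype.ofFinite _
  have hK₀' : Fintype.card ↥K₀ = q₀ := by rw [← Nat.card_eq_fintype_card]; exact hK₀
  haveI : CharP ↥K₀ p := (RingHom.charP_iff K₀.subtype K₀.subtype.injective p).mpr inferInstance
  set φ := ProjGenLinGroup.map (n := Fin 2) K₀.subtype with hφ
  have hφinj : Function.Injective φ := pgl_map_injective K₀.subtype
  set T₀ : Subgroup (PGL(Fin 2, ↥K₀)) := S₂.comap φ with hT₀
  have hT₀map : T₀.map φ = S₂ := Subgroup.map_comap_eq_self hle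
  have eT : M ≃* T₀ := by
    have e1 : M ≃* S := M.equivMapOfInjective f hinj
    have e2 : S ≃* S.map ψ₁.toMonoidHom := S.equivMapOfInjective _ ψ₁.injective
    have e3 : (S.map ψ₁.toMonoidHom) ≃* S₂ := (S.map ψ₁.toMonoidHom).equivMapOfInjective _
      ψ₂.injective
    have e4 : T₀ ≃* T₀.map φ := T₀.equivMapOfInjective φ hφinj
    have e5 : T₀.map φ ≃* S₂ := MulEquiv.subgroupCongr hT₀map
    exact ((e1.trans e2).trans e3).trans (e4.trans e5).symm
  have hcardT₀ : Nat.card T₀ = q₀ * k * (q₀ + 1) := by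
    rw [← Nat.card_congr eT.toEquiv, hcardM]
  have hpgl : Nat.card (PGL(Fin 2, ↥K₀)) = q₀ * (q₀ - 1) * (q₀ + 1) := by
    rw [card_pgl_two, hK₀']
  have h2K : (2 : ↥K₀) ≠ 0 := by
    intro h
    apply h2
    have := congrArg K₀.subtype h
    rw [map_ofNat, map_zero] at this
    exact this
  have hpsl : 2 * Nat.card (ProjectiveSpecialLinearGroup (Fin 2) ↥K₀) =
      q₀ * (q₀ - 1) * (q₀ + 1) := by
    have h1 := card_psl_two (F := ↥K₀)
    rw [(gcd_two_of_odd h2K).1, hK₀'] at h1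
    exact h1
  have hpos : 0 < q₀ * (q₀ - 1) * (q₀ + 1) :=
    Nat.mul_pos (Nat.mul_pos (by omega) (by omega)) (by omega)
  obtain ⟨F₀, hF₀f, hF₀fin, hF₀card, ⟨eF⟩⟩ := exists_small_field p (K₀ := ↥K₀)
  rw [hK₀] at hF₀card
  have hiso := iso_PGL_or_PSL T₀ (by
    rcases hk with hk1 | hk1
    · left
      rw [hcardT₀, hpgl, hk1]
    · right
      refine ⟨?_, h2K⟩
      rw [hcardT₀, hpgl, ← hk1]
      ring)
  rcases hk with hk1 | hk1
  · left
    have hTpgl : Nonempty (T₀ ≃* PGL(Fin 2, ↥K₀)) := by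
      rcases hiso with h | ⟨⟨e⟩⟩
      · exact h
      · exfalso
        have := Nat.card_congr e.toEquiv
        rw [hcardT₀, hk1] at this
        omega
    obtain ⟨e⟩ := hTpgl
    refine ⟨hk1, ?_, F₀, hF₀f, hF₀fin, hF₀card, ?_⟩
    · have hev : Even r :=
        (Cfsg.Agent.S0805.result (F := F) (K := ↥K₀) rfl hodd r hr.one_lt.le
          (by rw [hK₀', hqr])).2.mp ⟨M, ⟨eT.trans e⟩⟩
      rcases hr.eq_two_or_odd with h | h
      · exact h
      · rw [Nat.even_iff] at hev; omega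
    · obtain ⟨e'⟩ := pglEquiv (n := Fin 2) eF
      exact ⟨(eT.trans e).trans e'⟩
  · right
    have hTpsl : Nonempty (T₀ ≃* ProjectiveSpecialLinearGroup (Fin 2) ↥K₀) := by
      rcases hiso with ⟨⟨e⟩⟩ | h
      · exfalso
        have := Nat.card_congr e.toEquiv
        rw [hcardT₀, hpgl] at this
        have h3 : 2 * (q₀ * k * (q₀ + 1)) = q₀ * (q₀ - 1) * (q₀ + 1) := by
          rw [← hk1]; ring
        omega
      · exact h
    obtain ⟨e⟩ := hTpsl
    refine ⟨hk1, ?_, F₀, hF₀f, hF₀fin, hF₀card, ?_⟩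
    · rcases hr.eq_two_or_odd with h | h
      · exfalso
        have hsq := PGLsub.exists_sqrt K₀.subtype hodd 2 even_two (by rw [hK₀', hqr, h])
        have hRL := RK_le_Lsub K₀ hsq
        have h3 : S₂ = RK K₀ := by rw [hS₂eq]; exact inf_eq_left.mpr hRL
        have h4 := card_RK K₀
        rw [← h3, hcardS₂, hK₀] at h4
        have h5 : 2 * (q₀ * k * (q₀ + 1)) = q₀ * (q₀ - 1) * (q₀ + 1) := by
          rw [← hk1]; ring
        omega
      · exact Nat.odd_iff.mpr h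
    · obtain ⟨e'⟩ := PSLRingEquiv.pslEquiv (n := Fin 2) eF
      exact ⟨(eT.trans e).trans e'⟩

end Cfsg.Agent.Lib.Helper9.PO
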