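import Mathlib
import Cfsg.Agent.Lib.Helper9.POS5

set_option autoImplicit false
set_option linter.unusedSectionVars false

/-!
# Normalisers of subgroups of prime order in `A₄`, `S₄`, `A₅`; transport of such data
-/

namespace Cfsg.Agent.Lib.Helper9.PO

/-- the order of the normaliser of a cyclic subgroup, as a count -/
theorem card_normalizer_zpowers {X : Type*} [Group X] [Fintype X] [DecidableEq X] (c : X) (r : ℕ)
    (hc : orderOf c = r) :
    Nat.card (Subgroup.normalizer ((Subgroup.zpowers c : Subgroup X) : Set X)) =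
      (Finset.univ.filter (fun g : X => ∃ k : Fin r, g * c * g⁻¹ = c ^ (k : ℕ))).card := by
  classical
  have hr : 0 < r := by rw [← hc]; exact orderOf_pos c
  have key : ∀ g : X, g ∈ Subgroup.normalizer ((Subgroup.zpowers c : Subgroup X) : Set X) ↔
      ∃ k : Fin r, g * c * g⁻¹ = c ^ (k : ℕ) := by
    intro g
    constructor
    · intro hg
      rw [Subgroup.mem_normalizer_iff] at hg
      have h1 := (hg c).mp (Subgroup.mem_zpowers c)
      rw [← mem_powers_iff_mem_zpowers, mem_powers_iff_mem_range_orderOf, hc] at h1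
      obtain ⟨k, hk, hk'⟩ := Finset.mem_image.mp h1
      exact ⟨⟨k, Finset.mem_range.mp hk⟩, hk'.symm⟩
    · rintro ⟨k, hk⟩
      apply Subgroup.mem_normalizer_fintype
      intro n hn
      obtain ⟨z, rfl⟩ := Subgroup.mem_zpowers_iff.mp hn
      have h1 : g * c ^ z * g⁻¹ = (g * c * g⁻¹) ^ z := by rw [conj_zpow]
      rw [h1, hk]
      exact Subgroup.zpow_mem (Subgroup.zpowers c) (Subgroup.pow_mem _ (Subgroup.mem_zpowers c) _) z
  rw [Nat.card_eq_fintype_card, ← Fintype.card_subtype]
  exact Fintype.card_congr (Equiv.subtypeEquivRight key)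

/-- a `3`-cycle in `A₄` -/
def c3A4 : alternatingGroup (Fin 4) :=
  ⟨Equiv.swap 0 1 * Equiv.swap 1 2, Equiv.Perm.mem_alternatingGroup.mpr (by decide)⟩

/-- a `3`-cycle in `S₄` -/
def c3S4 : Equiv.Perm (Fin 4) := Equiv.swap 0 1 * Equiv.swap 1 2

/-- a `5`-cycle in `A₅` -/
def c5A5 : alternatingGroup (Fin 5) :=
  ⟨Equiv.swap 0 1 * Equiv.swap 1 2 * Equiv.swap 2 3 * Equiv.swap 3 4,
    Equiv.Perm.mem_alternatingGroup.mpr (by decide)⟩

/-- `A₄` has a self-normalising subgroup of order `3` -/
theorem A4_sfd : ∃ Q : Subgroup (alternatingGroup (Fin 4)), Nat.card Q = 3 ∧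
    Nat.card (Subgroup.normalizer (Q : Set (alternatingGroup (Fin 4)))) = 3 := by
  have hord : orderOf c3A4 = 3 := by
    haveI : Fact (Nat.Prime 3) := ⟨by norm_num⟩
    exact orderOf_eq_prime (by decide) (by decide)
  refine ⟨Subgroup.zpowers c3A4, ?_, ?_⟩
  · rw [Nat.card_zpowers, hord]
  · rw [card_normalizer_zpowers c3A4 3 hord]
    decide

/-- `S₄` has a subgroup of order `3` with normaliser of order `6` -/
theorem S4_sfd : ∃ Q : Subgroup (Equiv.Perm (Fin 4)), Nat.card Q = 3 ∧
    Nat.card (Subgroup.normalizer (Q : Set (Equiv.Perm (Fin 4)))) = 6 := by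
  have hord : orderOf c3S4 = 3 := by
    haveI : Fact (Nat.Prime 3) := ⟨by norm_num⟩
    exact orderOf_eq_prime (by decide) (by decide)
  refine ⟨Subgroup.zpowers c3S4, ?_, ?_⟩
  · rw [Nat.card_zpowers, hord]
  · rw [card_normalizer_zpowers c3S4 3 hord]
    decide

/-- `A₅` has a subgroup of order `5` with normaliser of order `10` -/
theorem A5_sfd : ∃ Q : Subgroup (alternatingGroup (Fin 5)), Nat.card Q = 5 ∧
    Nat.card (Subgroup.normalizer (Q : Set (alternatingGroup (Fin 5)))) = 10 := by
  have hord : orderOf c5A5 = 5 := by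
    haveI : Fact (Nat.Prime 5) := ⟨by norm_num⟩
    exact orderOf_eq_prime (by decide) (by decide)
  refine ⟨Subgroup.zpowers c5A5, ?_, ?_⟩
  · rw [Nat.card_zpowers, hord]
  · rw [card_normalizer_zpowers c5A5 5 hord]
    decide +kernel

/-- transporting a subgroup with its normaliser along an isomorphism onto a subgroup -/
theorem transport_sfd {G X : Type*} [Group G] [Group X] (M : Subgroup G) (e : M ≃* X)
    (Q : Subgroup X) (m n : ℕ) (hQ : Nat.card Q = m)
    (hN : Nat.card (Subgroup.normalizer (Q : Set X)) = n) :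
    ∃ P : Subgroup G, P ≤ M ∧ Nat.card P = m ∧
      Nat.card (M ⊓ Subgroup.normalizer (P : Set G) : Subgroup G) = n := by
  set f : X →* G := M.subtype.comp e.symm.toMonoidHom with hf
  have hinj : Function.Injective f := M.subtype_injective.comp e.symm.injective
  have hrange : (⊤ : Subgroup X).map f = M := by
    ext y
    constructor
    · rintro ⟨x, -, rfl⟩
      exact (e.symm x).2
    · intro hy
      exact ⟨e ⟨y, hy⟩, trivial, by rw [hf]; simp⟩
  refine ⟨Q.map f, ?_, ?_, ?_⟩
  · rw [← hrange]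
    exact Subgroup.map_mono le_top
  · rw [Subgroup.card_map_of_injective hinj, hQ]
  · have h1 := map_inf_normalizer f hinj ⊤ Q
    rw [hrange, top_inf_eq] at h1
    rw [← h1, Subgroup.card_map_of_injective hinj, hN]

end Cfsg.Agent.Lib.Helper9.PO
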