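import Mathlib
import Cfsg.Agent.Lib.Helper9.POD2

set_option autoImplicit false
set_option linter.unusedSectionVars false

/-!
# Sylow normalisers in `PSL₂(K)` and `PGL₂(K)`; the subfield case
-/

namespace Cfsg.Agent.Lib.Helper9.PO

open Matrix OnePoint MulAction Cfsg.Agent.Lib.Helper2 Cfsg.Agent.Lib.Helper2.DSub
  Cfsg.Agent.Lib.Helper9.H9PM
open scoped MatrixGroups

section sfd

variable {K : Type*} [Field K] [Fintype K]

/-- `PSL₂(K)`, `K` of odd order, has a subgroup of order `|K|` with normaliser of order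
`|K|(|K| - 1)/2` -/
theorem psl_sfd (p : ℕ) [Fact p.Prime] [CharP K p] (h2 : (2 : K) ≠ 0) :
    ∃ Q : Sylow p (ProjectiveSpecialLinearGroup (Fin 2) K),
      Nat.card (Q : Subgroup (ProjectiveSpecialLinearGroup (Fin 2) K)) = Fintype.card K ∧
      2 * Nat.card (Subgroup.normalizer
        ((Q : Subgroup (ProjectiveSpecialLinearGroup (Fin 2) K)) :
          Set (ProjectiveSpecialLinearGroup (Fin 2) K))) =
        Fintype.card K * (Fintype.card K - 1) := by
  haveI := finite_psl (F := K)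
  obtain ⟨Q⟩ : Nonempty (Sylow p (ProjectiveSpecialLinearGroup (Fin 2) K)) := inferInstance
  refine ⟨Q, card_sylow_psl p Q, ?_⟩
  obtain ⟨-, -, hN, -⟩ := sylow_psl_facts p Q
  rw [(gcd_two_of_odd h2).1] at hN
  exact hN

/-- `PGL₂(K)`, `K` of odd order, has a subgroup of order `|K|` with normaliser of order
`|K|(|K| - 1)` -/
theorem pgl_sfd (p : ℕ) [Fact p.Prime] [CharP K p] (h2 : (2 : K) ≠ 0) :
    ∃ Q : Subgroup (PGL(Fin 2, K)), Nat.card Q = Fintype.card K ∧
      Nat.card (Subgroup.normalizer (Q : Set (PGL(Fin 2, K)))) =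
        Fintype.card K * (Fintype.card K - 1) := by
  classical
  haveI := finite_psl (F := K)
  haveI := finite_pgl (F := K)
  obtain ⟨Q₀, hQ₀, hN₀⟩ := psl_sfd p h2
  set f := ProjectiveSpecialLinearGroup.toPGL (n := Fin 2) (R := K) with hf
  have hinj : Function.Injective f := ProjectiveSpecialLinearGroup.toPGL_injective
  set Q : Subgroup (PGL(Fin 2, K)) := (Q₀ : Subgroup _).map f with hQ
  have hQcard : Nat.card Q = Fintype.card K := by
    rw [hQ, Subgroup.card_map_of_injective hinj, hQ₀]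
  refine ⟨Q, hQcard, ?_⟩
  have hQL : Q ≤ Lsub := Subgroup.map_le_range f _
  have hinf : Nat.card (Lsub ⊓ Subgroup.normalizer (Q : Set (PGL(Fin 2, K))) :
      Subgroup (PGL(Fin 2, K))) = Nat.card (Subgroup.normalizer
        ((Q₀ : Subgroup (ProjectiveSpecialLinearGroup (Fin 2) K)) :
          Set (ProjectiveSpecialLinearGroup (Fin 2) K))) := by
    have h1 := map_inf_normalizer f hinj ⊤ (Q₀ : Subgroup _)
    rw [top_inf_eq, ← MonoidHom.range_eq_map] at h1
    have h3 : (Lsub (F := K)) = f.range := rfl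
    rw [h3, ← hQ] at *
    rw [← h1, Subgroup.card_map_of_injective hinj]
  haveI := normal_Lsub (F := K) h2
  -- the Sylow subgroup of `Lsub`
  have hQ'card : Nat.card (Q.subgroupOf Lsub) = p ^ (Nat.card (Lsub (F := K))).factorization p := by
    rw [Nat.card_congr (Subgroup.subgroupOfEquivOfLe hQL).toEquiv, hQ,
      Subgroup.card_map_of_injective hinj, card_Lsub]
    exact Q₀.card_eq_multiplicity
  set Q' : Sylow p ↥(Lsub (F := K)) := Sylow.ofCard _ hQ'card with hQ'
  have hfr := Sylow.normalizer_sup_eq_top Q'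
  have hQ'map : Subgroup.map (Lsub (F := K)).subtype (Q' : Subgroup ↥(Lsub (F := K))) = Q :=
    Subgroup.map_subgroupOf_eq_of_le hQL
  rw [hQ'map] at hfr
  set R := Subgroup.normalizer (Q : Set (PGL(Fin 2, K))) with hR
  have hrel : (Lsub (F := K)).relIndex R = 2 := by
    rw [← Subgroup.relIndex_sup_right, hfr, Subgroup.relIndex_top_right, index_Lsub h2]
  have h1 := ((Lsub (F := K)).subgroupOf R).card_mul_index
  have h3 : Nat.card ((Lsub (F := K)).subgroupOf R) =
      Nat.card (Lsub ⊓ R : Subgroup (PGL(Fin 2, K))) := by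
    rw [← Subgroup.inf_subgroupOf_right]
    exact Nat.card_congr (Subgroup.subgroupOfEquivOfLe inf_le_right).toEquiv
  rw [h3, hinf] at h1
  change _ * (Lsub (F := K)).relIndex R = _ at h1
  rw [hrel] at h1
  rw [← h1, mul_comm, hN₀]

end sfd

variable {F : Type*} [Field F] [Fintype F]

/-- a field whose order is a root of the order of `F` has the same characteristic -/
theorem charP_of_card_pow (p : ℕ) [Fact p.Prime] [CharP F p] {K : Type*} [Field K] [Fintype K] (m : ℕ)
    (hKm : Fintype.card K ^ m = Fintype.card F) : CharP K p := by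
  obtain ⟨p', hp'⟩ := CharP.exists K
  haveI := hp'
  have hp'p : p'.Prime := by
    rcases CharP.char_is_prime_or_zero K p' with h | h
    · exact h
    · exfalso
      subst h
      haveI : CharZero K := CharP.charP_to_charZero K
      exact not_finite K
  haveI : Fact p'.Prime := ⟨hp'p⟩
  obtain ⟨⟨n, hn0⟩, -, hn⟩ := FiniteField.card K p'
  obtain ⟨⟨f, hf0⟩, -, hf⟩ := FiniteField.card F p
  have hn' : Fintype.card K = p' ^ n := hn
  have hf' : Fintype.card F = p ^ f := hf
  have hm0 : m ≠ 0 := by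
    rintro rfl
    rw [pow_zero] at hKm
    have : 1 < Fintype.card F := Fintype.one_lt_card
    omega
  have hd : p' ∣ p ^ f := by
    rw [← hf', ← hKm, hn']
    exact dvd_pow (dvd_pow_self p' (Nat.pos_iff_ne_zero.mp hn0)) hm0
  have : p' = p := (Nat.prime_dvd_prime_iff_eq hp'p Fact.out).mp (hp'p.dvd_of_dvd_pow hd)
  rw [← this]
  exact hp'

/-- the subfield case -/
theorem subfield_case (p : ℕ) [Fact p.Prime] [CharP F p] (hodd : Odd (Fintype.card F))
    (M : Subgroup (ProjectiveSpecialLinearGroup (Fin 2) F)) (hM : IsCoatom M)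
    {K : Type} [Field K] [Fintype K] (m : ℕ) (hKm : Fintype.card K ^ m = Fintype.card F)
    (h : Nonempty (M ≃* ProjectiveSpecialLinearGroup (Fin 2) K) ∨
      Nonempty (M ≃* PGL(Fin 2, K))) :
    (∃ (F₀ : Type) (_ : Field F₀) (_ : Fintype F₀), Fintype.card F = Fintype.card F₀ ^ 2 ∧
        Nonempty (M ≃* Matrix.ProjGenLinGroup (Fin 2) F₀)) ∨
    (∃ (F₀ : Type) (_ : Field F₀) (_ : Fintype F₀) (r : ℕ), r.Prime ∧ Odd r ∧
        Fintype.card F = Fintype.card F₀ ^ r ∧
        Nonempty (M ≃* Matrix.ProjectiveSpecialLinearGroup (Fin 2) F₀)) := by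
  classical
  haveI : CharP K p := charP_of_card_pow (F := F) p m hKm
  have hpp : p.Prime := Fact.out
  have h2 : (2 : F) ≠ 0 := Cfsg.Agent.Lib.Helper1.two_ne_zero_of_odd_card hodd
  obtain ⟨⟨j, hj0⟩, -, hj⟩ := FiniteField.card K p
  have hj' : Fintype.card K = p ^ j := hj
  have hj1 : 1 ≤ j := hj0
  have hp2 : p ≠ 2 := by
    rintro rfl
    apply h2
    exact CharTwo.two_eq_zero
  have hp3 : 3 ≤ p := by
    have := hpp.two_le
    omega
  have h2K : (2 : K) ≠ 0 := by
    intro h0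
    have h1 : ((2 : ℕ) : K) = 0 := by exact_mod_cast h0
    rw [CharP.cast_eq_zero_iff K p] at h1
    have := Nat.le_of_dvd (by norm_num) h1
    omega
  set q₀ := Fintype.card K with hq₀
  have hq3 : 3 ≤ q₀ := by
    rw [hj']
    calc 3 ≤ p := hp3
      _ = p ^ 1 := (pow_one p).symm
      _ ≤ p ^ j := Nat.pow_le_pow_right hpp.pos hj1
  have hq₀odd : q₀ % 2 = 1 := (gcd_two_of_odd h2K).2
  haveI := finite_psl (F := K)
  haveI := finite_pgl (F := K)
  rcases h with ⟨⟨e⟩⟩ | ⟨⟨e⟩⟩
  · right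
    obtain ⟨Q, hQ, hN⟩ := psl_sfd p h2K
    rw [← hq₀] at hQ hN
    set k := (q₀ - 1) / 2 with hk
    have hk2 : 2 * k = q₀ - 1 := by omega
    have hN' : Nat.card (Subgroup.normalizer
        ((Q : Subgroup (ProjectiveSpecialLinearGroup (Fin 2) K)) :
          Set (ProjectiveSpecialLinearGroup (Fin 2) K))) = q₀ * k := by
      have : 2 * (q₀ * k) = q₀ * (q₀ - 1) := by rw [← hk2]; ring
      omega
    obtain ⟨P, hPM, hPcard, hPN⟩ := transport_sfd M e (Q : Subgroup _) q₀ (q₀ * k) hQ hN'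
    have hcardM : Nat.card M = q₀ * k * (q₀ + 1) := by
      rw [Nat.card_congr e.toEquiv]
      have h1 := card_G (F := K) h2K
      rw [← hq₀] at h1
      have : 2 * (q₀ * k * (q₀ + 1)) = q₀ * (q₀ - 1) * (q₀ + 1) := by rw [← hk2]; ring
      omega
    obtain ⟨r, hr, hqr, hcase⟩ := subfield_main p hodd M hM P hPM q₀ k j hj' hj1 (Or.inr hk2) hq3
      hcardM hPcard hPN
    rcases hcase with ⟨hk1, -, -⟩ | ⟨-, hrodd, F₀, i1, i2, hF₀, hiso⟩
    · exfalso; omega
    · refine ⟨F₀, i1, i2, r, hr, hrodd, ?_, hiso⟩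
      rw [hF₀, hqr]
  · left
    obtain ⟨Q, hQ, hN⟩ := pgl_sfd p h2K
    rw [← hq₀] at hQ hN
    obtain ⟨P, hPM, hPcard, hPN⟩ := transport_sfd M e Q q₀ (q₀ * (q₀ - 1)) hQ hN
    have hcardM : Nat.card M = q₀ * (q₀ - 1) * (q₀ + 1) := by
      rw [Nat.card_congr e.toEquiv, card_pgl_two]
    obtain ⟨r, hr, hqr, hcase⟩ := subfield_main p hodd M hM P hPM q₀ (q₀ - 1) j hj' hj1
      (Or.inl rfl) hq3 hcardM hPcard hPN
    rcases hcase with ⟨-, hr2, F₀, i1, i2, hF₀, hiso⟩ | ⟨hk1, -, -⟩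
    · refine ⟨F₀, i1, i2, ?_, hiso⟩
      rw [hF₀, hqr, hr2]
    · exfalso; omega

/-- the Borel case -/
theorem borel_case_odd (p : ℕ) [Fact p.Prime] [CharP F p] (hodd : Odd (Fintype.card F))
    (M : Subgroup (ProjectiveSpecialLinearGroup (Fin 2) F)) (hM : IsCoatom M)
    (P : Sylow p (ProjectiveSpecialLinearGroup (Fin 2) F))
    (hle : M ≤ Subgroup.normalizer ((P : Subgroup (ProjectiveSpecialLinearGroup (Fin 2) F)) :
      Set (ProjectiveSpecialLinearGroup (Fin 2) F))) :
    2 * Nat.card M = Fintype.card F * (Fintype.card F - 1) := by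
  have h2 : (2 : F) ≠ 0 := Cfsg.Agent.Lib.Helper1.two_ne_zero_of_odd_card hodd
  obtain ⟨-, hidx, hN, -⟩ := sylow_psl_facts p P
  rw [(gcd_two_of_odd h2).1] at hN
  rcases hM.le_iff.mp hle with h | h
  · exfalso
    rw [h, Subgroup.index_top] at hidx
    have : 2 ≤ Fintype.card F := Fintype.one_lt_card
    omega
  · rw [← h]; exact hN

end Cfsg.Agent.Lib.Helper9.PO
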