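import Mathlib
import Cfsg.Agent.Lib.Helper9.POD1
import Cfsg.Agent.Lib.Helper9.POD3
import Cfsg.Agent.Lib.Helper9.PO11
import Cfsg.Agent.S0804
import Cfsg.Agent.S0808
import Cfsg.Agent.Lib.Helper2.SL2S4c

set_option autoImplicit false
set_option linter.unusedSectionVars false

/-!
# Maximal subgroups of `PSL₂(q)`, `q` odd: the cases `A₄`, `S₄`, `A₅`
-/

namespace Cfsg.Agent.Lib.Helper9.PO

open Matrix OnePoint MulAction Cfsg.Agent.Lib.Helper2 Cfsg.Agent.Lib.Helper2.DSub
  Cfsg.Agent.Lib.Helper9.H9PM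
open scoped MatrixGroups

/-- Klein four-groups are preserved by isomorphisms -/
theorem isKleinFour_of_equiv {A B : Type*} [Group A] [Group B] (e : A ≃* B) [hA : IsKleinFour A] :
    IsKleinFour B where
  card_four := by rw [← Nat.card_congr e.toEquiv]; exact hA.card_four
  exponent_two := by rw [← Monoid.exponent_eq_of_mulEquiv e]; exact hA.exponent_two

/-- a subgroup isomorphic to `A₄` normalises a four-group inside it -/
theorem A4_klein {G : Type*} [Group G] (K : Subgroup G) (e : K ≃* alternatingGroup (Fin 4)) :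
    ∃ V : Subgroup G, IsKleinFour V ∧ V ≤ K ∧ K ≤ Subgroup.normalizer (V : Set G) := by
  have h4 : Nat.card (Fin 4) = 4 := by simp
  haveI : (alternatingGroup.kleinFour (Fin 4)).Normal := alternatingGroup.normal_kleinFour h4
  haveI := alternatingGroup.kleinFour_isKleinFour h4
  set f : alternatingGroup (Fin 4) →* G := K.subtype.comp e.symm.toMonoidHom with hf
  have hinj : Function.Injective f := K.subtype_injective.comp e.symm.injective
  have hrange : (⊤ : Subgroup (alternatingGroup (Fin 4))).map f = K := by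
    ext y
    constructor
    · rintro ⟨x, -, rfl⟩
      exact (e.symm x).2
    · intro hy
      exact ⟨e ⟨y, hy⟩, trivial, by rw [hf]; simp⟩
  refine ⟨(alternatingGroup.kleinFour (Fin 4)).map f, ?_, ?_, ?_⟩
  · exact isKleinFour_of_equiv ((alternatingGroup.kleinFour (Fin 4)).equivMapOfInjective f hinj)
  · rw [← hrange]
    exact Subgroup.map_mono le_top
  · have h1 := Subgroup.le_normalizer_map (H := alternatingGroup.kleinFour (Fin 4)) f
    rw [Subgroup.normalizer_eq_top_iff.mpr inferInstance, hrange] at h1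
    exact h1

/-- `A₅` contains `A₄` -/
theorem exists_A4_le_of_A5 {G : Type*} [Group G] (H : Subgroup G)
    (e : H ≃* alternatingGroup (Fin 5)) :
    ∃ K : Subgroup G, K ≤ H ∧ Nonempty (K ≃* alternatingGroup (Fin 4)) := by
  classical
  set ι₀ : Equiv.Perm (Fin 4) →* Equiv.Perm (Fin 5) :=
    Equiv.Perm.extendDomainHom (finSuccAboveEquiv (Fin.last 4)) with hι₀
  have hι₀inj : Function.Injective ι₀ := Equiv.Perm.extendDomainHom_injective _
  have hmem : ∀ x : alternatingGroup (Fin 4), ι₀ (x : Equiv.Perm (Fin 4)) ∈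
      alternatingGroup (Fin 5) := by
    intro x
    rw [Equiv.Perm.mem_alternatingGroup, hι₀, Equiv.Perm.extendDomainHom_apply,
      Equiv.Perm.sign_extendDomain]
    exact Equiv.Perm.mem_alternatingGroup.mp x.2
  set ι : alternatingGroup (Fin 4) →* alternatingGroup (Fin 5) :=
    (ι₀.comp (alternatingGroup (Fin 4)).subtype).codRestrict (alternatingGroup (Fin 5)) hmem
    with hι
  have hιinj : Function.Injective ι := by
    intro x y hxy
    have h1 : ι₀ (x : Equiv.Perm (Fin 4)) = ι₀ (y : Equiv.Perm (Fin 4)) :=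
      congrArg Subtype.val hxy
    exact Subtype.ext (hι₀inj h1)
  set f : alternatingGroup (Fin 4) →* G := H.subtype.comp (e.symm.toMonoidHom.comp ι) with hf
  have hinj : Function.Injective f :=
    H.subtype_injective.comp (e.symm.injective.comp hιinj)
  refine ⟨f.range, ?_, ⟨(MonoidHom.ofInjective hinj).symm⟩⟩
  rintro _ ⟨x, rfl⟩
  exact (e.symm (ι x)).2

variable {F : Type*} [Field F] [Fintype F]

local notation "PSL" => Matrix.ProjectiveSpecialLinearGroup (Fin 2) F

theorem simple_psl_odd (h5 : 5 ≤ Fintype.card F) : IsSimpleGroup PSL :=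
  Matrix.ProjectiveSpecialLinearGroup.rank_two_simple
    (by rw [Nat.card_eq_fintype_card]; omega)

theorem card_A4 : Nat.card (alternatingGroup (Fin 4)) = 12 := by
  rw [nat_card_alternatingGroup, Nat.card_eq_fintype_card, Fintype.card_fin]
  rfl

theorem card_S4 : Nat.card (Equiv.Perm (Fin 4)) = 24 := by
  rw [Nat.card_eq_fintype_card, Fintype.card_perm, Fintype.card_fin]
  rfl

/-- a maximal subgroup isomorphic to `A₄` is the normaliser of a four-group -/
theorem A4_coatom_normalizer (h5 : 5 ≤ Fintype.card F) (M : Subgroup PSL) (hM : IsCoatom M)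
    (e : M ≃* alternatingGroup (Fin 4)) :
    ∃ V : Subgroup PSL, IsKleinFour V ∧ Subgroup.normalizer (V : Set PSL) = M := by
  haveI := simple_psl_odd h5
  obtain ⟨V, hV, hVM, hMV⟩ := A4_klein M e
  refine ⟨V, hV, coatom_normalizer M hM V ?_ hVM hMV⟩
  intro h
  have := hV.card_four
  rw [h, Subgroup.card_bot] at this
  omega

/-- a maximal subgroup isomorphic to `A₄` forces `q ≡ ±3 (mod 8)` -/
theorem A4_mod8 (hodd : Odd (Fintype.card F)) (h5 : 5 ≤ Fintype.card F) (M : Subgroup PSL)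
    (hM : IsCoatom M) (e : M ≃* alternatingGroup (Fin 4)) :
    Fintype.card F % 8 = 3 ∨ Fintype.card F % 8 = 5 := by
  classical
  by_contra hcon
  have hq : Fintype.card F % 8 = 1 ∨ Fintype.card F % 8 = 7 := by
    rw [Nat.odd_iff] at hodd
    omega
  obtain ⟨V, hV, hNV⟩ := A4_coatom_normalizer h5 M hM e
  haveI := hV
  have h24 := (SL2S4.card_normalizer hodd V).2 hq
  rw [hNV, Nat.card_congr e.toEquiv, card_A4] at h24
  omega

/-- a maximal subgroup isomorphic to `A₄` forces `q ≢ ±1 (mod 10)` -/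
theorem A4_mod10 (hodd : Odd (Fintype.card F)) (h5 : 5 ≤ Fintype.card F) (M : Subgroup PSL)
    (hM : IsCoatom M) (e : M ≃* alternatingGroup (Fin 4)) :
    ¬ (Fintype.card F % 10 = 1 ∨ Fintype.card F % 10 = 9) := by
  classical
  intro h10
  haveI := finite_psl (F := F)
  have h2 : (2 : F) ≠ 0 := Cfsg.Agent.Lib.Helper1.two_ne_zero_of_odd_card hodd
  have hq8 := A4_mod8 hodd h5 M hM e
  set q := Fintype.card F with hq
  have h5d : 5 ∣ q * (q ^ 2 - 1) := by
    apply Dvd.dvd.mul_left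
    rcases h10 with h | h
    · obtain ⟨t, ht⟩ : ∃ t, q = 10 * t + 1 := ⟨q / 10, by omega⟩
      have : q ^ 2 - 1 = 5 * (20 * t * t + 4 * t) := by
        apply Nat.sub_eq_of_eq_add
        rw [ht]; ring
      rw [this]
      exact dvd_mul_right _ _
    · obtain ⟨t, ht⟩ : ∃ t, q = 10 * t + 9 := ⟨q / 10, by omega⟩
      have : q ^ 2 - 1 = 5 * (20 * t * t + 36 * t + 16) := by
        apply Nat.sub_eq_of_eq_add
        rw [ht]; ring
      rw [this]
      exact dvd_mul_right _ _
  obtain ⟨H, ⟨eH⟩⟩ := (Cfsg.Agent.S0804.result (F := F) (q := q) rfl).mpr h5d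
  obtain ⟨K, hKH, ⟨eK⟩⟩ := exists_A4_le_of_A5 H eH
  obtain ⟨VK, hVK, hVKK, hKVK⟩ := A4_klein K eK
  obtain ⟨V, hV, hNV⟩ := A4_coatom_normalizer h5 M hM e
  have h12 : Nat.card (Subgroup.normalizer (VK : Set PSL)) = 12 := by
    haveI := hVK
    exact (SL2S4.card_normalizer hodd VK).1 hq8
  have hKN : K = Subgroup.normalizer (VK : Set PSL) :=
    Subgroup.eq_of_le_of_card_ge hKVK (by rw [h12, Nat.card_congr eK.toEquiv, card_A4])
  obtain ⟨g, hg⟩ := (Cfsg.Agent.S0808.result (F := F) (q := q) rfl hodd).1 hq8 V VK hV hVK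
  have hMK : M.map (MulAut.conj g).toMonoidHom = K := by
    rw [hKN, hg, ← Subgroup.map_equiv_normalizer_eq, hNV]
  have hHtop : H ≠ ⊤ := by
    intro h
    have h1 : Nat.card H = Nat.card PSL := by rw [h, Subgroup.card_top]
    rw [Nat.card_congr eH.toEquiv, card_A5] at h1
    have h3 := card_G (F := F) h2
    rw [← h1, ← hq] at h3
    have h9 : 9 ≤ q := by omega
    have h4 : 9 * 8 * 10 ≤ q * (q - 1) * (q + 1) :=
      Nat.mul_le_mul (Nat.mul_le_mul h9 (by omega)) (by omega)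
    omega
  have := coatom_conj_card M hM g H hHtop (by rw [hMK]; exact hKH)
  rw [Nat.card_congr e.toEquiv, card_A4, Nat.card_congr eH.toEquiv, card_A5] at this
  omega

/-- a subgroup isomorphic to `S₄` forces `q ≡ ±1 (mod 8)` -/
theorem S4_mod8 (hodd : Odd (Fintype.card F)) (M : Subgroup PSL)
    (e : M ≃* Equiv.Perm (Fin 4)) :
    Fintype.card F % 8 = 1 ∨ Fintype.card F % 8 = 7 := by
  classical
  haveI := finite_psl (F := F)
  have h2 : (2 : F) ≠ 0 := Cfsg.Agent.Lib.Helper1.two_ne_zero_of_odd_card hodd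
  by_contra hcon
  set q := Fintype.card F with hq
  have hq8 : q % 8 = 3 ∨ q % 8 = 5 := by
    rw [Nat.odd_iff] at hodd
    omega
  have hd : 24 ∣ Nat.card PSL := by
    rw [← card_S4, ← Nat.card_congr e.toEquiv]
    exact Subgroup.card_subgroup_dvd_card M
  have h3 := card_G (F := F) h2
  rw [← hq] at h3
  have h16 : 16 ∣ q * (q - 1) * (q + 1) := by
    rw [← h3]
    obtain ⟨w, hw⟩ := hd
    rw [hw]
    exact ⟨3 * w, by ring⟩
  have hq1 : 1 ≤ q := by omega
  have hz : ((q * (q - 1) * (q + 1) : ℕ) : ZMod 16) = 0 :=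
    (ZMod.natCast_eq_zero_iff _ _).mpr h16
  rw [Nat.cast_mul, Nat.cast_mul, Nat.cast_add, Nat.cast_sub hq1, Nat.cast_one] at hz
  have hmod : (q : ZMod 16) = ((q % 16 : ℕ) : ZMod 16) := by
    rw [ZMod.natCast_mod]
  have hcases : q % 16 = 3 ∨ q % 16 = 5 ∨ q % 16 = 11 ∨ q % 16 = 13 := by omega
  rw [hmod] at hz
  rcases hcases with h | h | h | h <;> rw [h] at hz <;> revert hz <;> decide

section cases

variable (p : ℕ) [Fact p.Prime] [CharP F p]

/-- a maximal subgroup with a subgroup of order `q₀` whose normaliser has order `q₀k` -/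
theorem sfd_case (hodd : Odd (Fintype.card F)) (M : Subgroup PSL) (hM : IsCoatom M)
    {X : Type*} [Group X] (e : M ≃* X) (Q : Subgroup X) (q₀ k j : ℕ) (hq : q₀ = p ^ j)
    (hj : 1 ≤ j) (hk : k = q₀ - 1 ∨ 2 * k = q₀ - 1) (hq3 : 3 ≤ q₀)
    (hX : Nat.card X = q₀ * k * (q₀ + 1)) (hQ : Nat.card Q = q₀)
    (hN : Nat.card (Subgroup.normalizer (Q : Set X)) = q₀ * k) :
    (∃ (F₀ : Type) (_ : Field F₀) (_ : Fintype F₀), Fintype.card F = Fintype.card F₀ ^ 2 ∧
        Nonempty (M ≃* Matrix.ProjGenLinGroup (Fin 2) F₀)) ∨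
    (∃ (F₀ : Type) (_ : Field F₀) (_ : Fintype F₀) (r : ℕ), r.Prime ∧ Odd r ∧
        Fintype.card F = Fintype.card F₀ ^ r ∧
        Nonempty (M ≃* Matrix.ProjectiveSpecialLinearGroup (Fin 2) F₀)) := by
  obtain ⟨P, hPM, hPcard, hPN⟩ := transport_sfd M e Q q₀ (q₀ * k) hQ hN
  have hcardM : Nat.card M = q₀ * k * (q₀ + 1) := by
    rw [Nat.card_congr e.toEquiv, hX]
  obtain ⟨r, hr, hqr, hcase⟩ := subfield_main p hodd M hM P hPM q₀ k j hq hj hk hq3
    hcardM hPcard hPN
  rcases hcase with ⟨-, hr2, F₀, i1, i2, hF₀, hiso⟩ | ⟨-, hrodd, F₀, i1, i2, hF₀, hiso⟩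
  · left
    refine ⟨F₀, i1, i2, ?_, hiso⟩
    rw [hF₀, hqr, hr2]
  · right
    refine ⟨F₀, i1, i2, r, hr, hrodd, ?_, hiso⟩
    rw [hF₀, hqr]

end cases

end Cfsg.Agent.Lib.Helper9.PO
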