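import Mathlib
import Cfsg.Agent.Lib.Helper9.POD4
import Cfsg.Agent.S0803
import Cfsg.Agent.S0811
import Cfsg.Agent.S0812
import Cfsg.Agent.Lib.Helper2.DSubM3

set_option autoImplicit false
set_option linter.unusedSectionVars false

/-!
# Maximal subgroups of `PSL₂(q)`, `q` odd: the cyclic and dihedral cases
-/

namespace Cfsg.Agent.Lib.Helper9.PO

open Matrix OnePoint MulAction Cfsg.Agent.Lib.Helper2 Cfsg.Agent.Lib.Helper2.DSub
  Cfsg.Agent.Lib.Helper9.H9PM
open scoped MatrixGroups

theorem dihedral_two_comm : ∀ a b : DihedralGroup 2, a * b = b * a := by decide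

theorem dihedral_one_comm : ∀ a b : DihedralGroup 1, a * b = b * a := by decide

variable {F : Type*} [Field F] [Fintype F]

local notation "PSL" => Matrix.ProjectiveSpecialLinearGroup (Fin 2) F

/-- `PSL₂(q)` is not a `2`-group -/
theorem not_two_group (hodd : Odd (Fintype.card F)) : ¬ IsPGroup 2 PSL := by
  classical
  haveI := finite_psl (F := F)
  have h2 : (2 : F) ≠ 0 := Cfsg.Agent.Lib.Helper1.two_ne_zero_of_odd_card hodd
  intro h
  obtain ⟨n, hn⟩ := IsPGroup.iff_card.mp h
  have h3 := card_G (F := F) h2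
  rw [hn] at h3
  have hd : Fintype.card F ∣ 2 * 2 ^ n := by
    rw [h3, mul_assoc]
    exact dvd_mul_right _ _
  have hcop : Nat.Coprime (Fintype.card F) (2 * 2 ^ n) := by
    rw [← pow_succ']
    apply Nat.Coprime.pow_right
    rw [Nat.coprime_comm, Nat.Prime.coprime_iff_not_dvd Nat.prime_two]
    rintro ⟨w, hw⟩
    rw [Nat.odd_iff] at hodd
    omega
  have h1 := Nat.Coprime.eq_one_of_dvd hcop hd
  have : 1 < Fintype.card F := Fintype.one_lt_card
  omega

/-- `D₄` is not maximal in `PSL₂(7)` or `PSL₂(9)` -/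
theorem special_two (hodd : Odd (Fintype.card F)) (hq : Fintype.card F = 7 ∨ Fintype.card F = 9)
    (M : Subgroup PSL) (hM : IsCoatom M) (e : M ≃* DihedralGroup 4) : False := by
  classical
  haveI := finite_psl (F := F)
  have h2 : (2 : F) ≠ 0 := Cfsg.Agent.Lib.Helper1.two_ne_zero_of_odd_card hodd
  have hG := card_G (F := F) h2
  have hG2 := not_two_group hodd
  obtain ⟨H, ⟨eH⟩⟩ := (Cfsg.Agent.S0803.result (F := F) (q := Fintype.card F) rfl).mpr (by
    rcases hq with h | h <;> rw [h] <;> norm_num)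
  have hcardH : Nat.card H = 24 := by rw [Nat.card_congr eH.toEquiv, card_S4]
  have hcardM : Nat.card M = 8 := by rw [Nat.card_congr e.toEquiv, DihedralGroup.nat_card]
  haveI : Fact (Nat.Prime 2) := ⟨Nat.prime_two⟩
  have hMp : IsPGroup 2 M := IsPGroup.of_card (n := 3) (by rw [hcardM]; norm_num)
  have hmul := H.card_mul_index
  rw [hcardH] at hmul
  have hH : H ≠ ⊤ := by
    intro h
    rw [h, Subgroup.index_top] at hmul
    rcases hq with h | h <;> rw [h] at hG <;> omega
  have hidx : ¬ 2 ∣ H.index := by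
    rintro ⟨w, hw⟩
    rcases hq with h | h <;> rw [h] at hG <;> omega
  have := pgroup_coatom_card_of_index 2 M hM hMp hG2 H hH hidx
  omega

/-- `D₃` is not maximal in `PSL₂(7)` -/
theorem special_three (hodd : Odd (Fintype.card F)) (hq : Fintype.card F = 7)
    (M : Subgroup PSL) (hM : IsCoatom M) (e : M ≃* DihedralGroup 3) : False := by
  classical
  haveI := finite_psl (F := F)
  haveI := simple_psl_odd (F := F) (by omega)
  have h2 : (2 : F) ≠ 0 := Cfsg.Agent.Lib.Helper1.two_ne_zero_of_odd_card hodd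
  have hG := card_G (F := F) h2
  rw [hq] at hG
  obtain ⟨H, ⟨eH⟩⟩ := (Cfsg.Agent.S0803.result (F := F) (q := Fintype.card F) rfl).mpr (by
    rw [hq]; norm_num)
  have hcardH : Nat.card H = 24 := by rw [Nat.card_congr eH.toEquiv, card_S4]
  have hH : H ≠ ⊤ := by
    intro h
    rw [h, Subgroup.card_top] at hcardH
    omega
  obtain ⟨Q₀, hQ₀, hN₀⟩ := S4_sfd
  obtain ⟨Q, hQH, hQ, hN⟩ := transport_sfd H eH Q₀ 3 6 hQ₀ hN₀
  haveI : Fact (Nat.Prime 3) := ⟨by norm_num⟩
  refine dihedral_prime_coatom_false M hM 3 e ?_ H hH Q hQH hQ hN (by rw [hcardH]; norm_num)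
  rintro ⟨w, hw⟩
  omega

/-- `D₅` is not maximal in `PSL₂(9)` or `PSL₂(11)` -/
theorem special_five (hodd : Odd (Fintype.card F))
    (hq : Fintype.card F = 9 ∨ Fintype.card F = 11)
    (M : Subgroup PSL) (hM : IsCoatom M) (e : M ≃* DihedralGroup 5) : False := by
  classical
  haveI := finite_psl (F := F)
  haveI := simple_psl_odd (F := F) (by omega)
  have h2 : (2 : F) ≠ 0 := Cfsg.Agent.Lib.Helper1.two_ne_zero_of_odd_card hodd
  have hG := card_G (F := F) h2
  obtain ⟨H, ⟨eH⟩⟩ := (Cfsg.Agent.S0804.result (F := F) (q := Fintype.card F) rfl).mpr (by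
    rcases hq with h | h <;> rw [h] <;> norm_num)
  have hcardH : Nat.card H = 60 := by rw [Nat.card_congr eH.toEquiv, card_A5]
  have hH : H ≠ ⊤ := by
    intro h
    rw [h, Subgroup.card_top] at hcardH
    rcases hq with h | h <;> rw [h] at hG <;> omega
  obtain ⟨Q₀, hQ₀, hN₀⟩ := A5_sfd
  obtain ⟨Q, hQH, hQ, hN⟩ := transport_sfd H eH Q₀ 5 10 hQ₀ hN₀
  haveI : Fact (Nat.Prime 5) := ⟨by norm_num⟩
  refine dihedral_prime_coatom_false M hM 5 e ?_ H hH Q hQH hQ hN (by rw [hcardH]; norm_num)
  rintro ⟨w, hw⟩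
  rcases hq with h | h <;> rw [h] at hG <;> omega

/-- the cyclic and dihedral cases -/
theorem dihedral_case_odd (hodd : Odd (Fintype.card F)) (h5 : 5 ≤ Fintype.card F)
    (M : Subgroup PSL) (hM : IsCoatom M) (k : ℕ)
    (hk : k ∣ (Fintype.card F + 1) / Nat.gcd 2 (Fintype.card F - 1) ∨
      k ∣ (Fintype.card F - 1) / Nat.gcd 2 (Fintype.card F - 1))
    (h : (IsCyclic M ∧ Nat.card M = k) ∨ Nonempty (M ≃* DihedralGroup k)) :
    (13 ≤ Fintype.card F ∧
      (∃ k : ℕ, 2 * k = Fintype.card F - 1 ∧ Nonempty (M ≃* DihedralGroup k))) ∨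
    (Fintype.card F ≠ 7 ∧ Fintype.card F ≠ 9 ∧
      (∃ k : ℕ, 2 * k = Fintype.card F + 1 ∧ Nonempty (M ≃* DihedralGroup k))) := by
  classical
  haveI := finite_psl (F := F)
  haveI := simple_psl_odd h5
  have hna := psl_not_comm (F := F) (by omega)
  have h2 : (2 : F) ≠ 0 := Cfsg.Agent.Lib.Helper1.two_ne_zero_of_odd_card hodd
  have hgcd := (gcd_two_of_odd h2).1
  have hG := card_G (F := F) h2
  have hG2 := not_two_group hodd
  rw [hgcd] at hk
  set q := Fintype.card F with hq
  have hqodd : q % 2 = 1 := Nat.odd_iff.mp hodd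
  rcases h with ⟨hcyc, -⟩ | ⟨⟨e⟩⟩
  · exfalso
    haveI := hcyc
    letI := IsCyclic.commGroup (α := M)
    apply no_abelian_coatom hna M hM
    intro a ha b hb
    exact congrArg Subtype.val (mul_comm (⟨a, ha⟩ : M) ⟨b, hb⟩)
  have hk3 : 3 ≤ k := by
    by_contra hcon
    have hk012 : k = 0 ∨ k = 1 ∨ k = 2 := by omega
    rcases hk012 with rfl | rfl | rfl
    · rcases hk with h | h <;> rw [zero_dvd_iff] at h <;> omega
    · apply no_abelian_coatom hna M hM
      intro a ha b hb
      have : (⟨a, ha⟩ : M) * ⟨b, hb⟩ = ⟨b, hb⟩ * ⟨a, ha⟩ := by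
        apply e.injective
        rw [map_mul, map_mul]
        exact dihedral_one_comm _ _
      exact congrArg Subtype.val this
    · apply no_abelian_coatom hna M hM
      intro a ha b hb
      have : (⟨a, ha⟩ : M) * ⟨b, hb⟩ = ⟨b, hb⟩ * ⟨a, ha⟩ := by
        apply e.injective
        rw [map_mul, map_mul]
        exact dihedral_two_comm _ _
      exact congrArg Subtype.val this
  set np := (q + 1) / 2 with hnp
  set nm := (q - 1) / 2 with hnm
  have hnp2 : 2 * np = q + 1 := by omega
  have hnm2 : 2 * nm = q - 1 := by omega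
  have hGcard : Nat.card PSL = q * nm * np * 2 := by
    have : 2 * (q * nm * np * 2) = q * (q - 1) * (q + 1) := by
      rw [← hnp2, ← hnm2]; ring
    omega
  rcases hk with hk | hk
  · right
    by_cases h7 : q = 7
    · exfalso
      have hnp4 : np = 4 := by omega
      rw [hnp4] at hk
      have hk4 : k = 4 := by
        have := Nat.le_of_dvd (by norm_num) hk
        interval_cases k
        · norm_num at hk
        · rfl
      subst hk4
      exact special_two hodd (Or.inl h7) M hM e
    by_cases h9 : q = 9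
    · exfalso
      have hnp5 : np = 5 := by omega
      rw [hnp5] at hk
      have hk5 : k = 5 := by
        have := Nat.le_of_dvd (by norm_num) hk
        interval_cases k
        · norm_num at hk
        · norm_num at hk
        · rfl
      subst hk5
      exact special_five hodd (Or.inl h9) M hM e
    obtain ⟨H, hH, ⟨eH⟩⟩ := Cfsg.Agent.S0811.result (F := F) (q := q) rfl (by
      simp only [Finset.mem_insert, Finset.mem_singleton]
      omega)
    rw [hgcd] at eH
    have hkn := dihedral_compare hna hG2 M hM k hk3 e H hH.1 np (q * nm) eH hk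
      (by rw [hGcard]; ring) ?_ ?_
    · refine ⟨h7, h9, k, ?_, ⟨e⟩⟩
      omega
    · intro r₀ hr₀ hr₀2 hr₀n hd
      have hr1 : r₀ ∣ q + 1 := by rw [← hnp2]; exact hr₀n.mul_left 2
      rcases (Nat.Prime.dvd_mul hr₀).mp hd with h | h
      · have := (Nat.dvd_sub hr1 h)
        rw [Nat.add_sub_cancel_left] at this
        exact hr₀.one_lt.ne' (Nat.dvd_one.mp this)
      · have h6 : r₀ ∣ q - 1 := by rw [← hnm2]; exact h.mul_left 2
        have h7 : r₀ ∣ (q + 1) - (q - 1) := Nat.dvd_sub hr1 h6
        have h8 : (q + 1) - (q - 1) = 2 := by omega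
        rw [h8] at h7
        exact hr₀2 ((Nat.prime_dvd_prime_iff_eq hr₀ Nat.prime_two).mp h7)
    · rintro ⟨w, hw⟩ hd
      rcases (Nat.Prime.dvd_mul Nat.prime_two).mp hd with ⟨v, hv⟩ | ⟨v, hv⟩ <;> omega
  · left
    by_cases h5' : q = 5
    · exfalso
      have hnm2' : nm = 2 := by omega
      rw [hnm2'] at hk
      have := Nat.le_of_dvd (by norm_num) hk
      omega
    by_cases h7 : q = 7
    · exfalso
      have hnm3 : nm = 3 := by omega
      rw [hnm3] at hk
      have hk3' : k = 3 := by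
        have := Nat.le_of_dvd (by norm_num) hk
        omega
      subst hk3'
      exact special_three hodd h7 M hM e
    by_cases h9 : q = 9
    · exfalso
      have hnm4 : nm = 4 := by omega
      rw [hnm4] at hk
      have hk4 : k = 4 := by
        have := Nat.le_of_dvd (by norm_num) hk
        interval_cases k
        · norm_num at hk
        · rfl
      subst hk4
      exact special_two hodd (Or.inr h9) M hM e
    by_cases h11 : q = 11
    · exfalso
      have hnm5 : nm = 5 := by omega
      rw [hnm5] at hk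
      have hk5 : k = 5 := by
        have := Nat.le_of_dvd (by norm_num) hk
        interval_cases k
        · norm_num at hk
        · norm_num at hk
        · rfl
      subst hk5
      exact special_five hodd (Or.inr h11) M hM e
    have h13 : 13 ≤ q := by omega
    obtain ⟨H, hH, ⟨eH⟩⟩ := Cfsg.Agent.S0812.result (F := F) (q := q) rfl (by
      simp only [Finset.mem_insert, Finset.mem_singleton]
      omega)
    rw [hgcd] at eH
    have hkn := dihedral_compare hna hG2 M hM k hk3 e H hH.1 nm (q * np) eH hk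
      (by rw [hGcard]; ring) ?_ ?_
    · refine ⟨h13, k, ?_, ⟨e⟩⟩
      omega
    · intro r₀ hr₀ hr₀2 hr₀n hd
      have hr1 : r₀ ∣ q - 1 := by rw [← hnm2]; exact hr₀n.mul_left 2
      rcases (Nat.Prime.dvd_mul hr₀).mp hd with h | h
      · have h6 : r₀ ∣ q - (q - 1) := Nat.dvd_sub h hr1
        have h7 : q - (q - 1) = 1 := by omega
        rw [h7] at h6
        exact hr₀.one_lt.ne' (Nat.dvd_one.mp h6)
      · have h6 : r₀ ∣ q + 1 := by rw [← hnp2]; exact h.mul_left 2
        have h7 : r₀ ∣ (q + 1) - (q - 1) := Nat.dvd_sub h6 hr1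
        have h8 : (q + 1) - (q - 1) = 2 := by omega
        rw [h8] at h7
        exact hr₀2 ((Nat.prime_dvd_prime_iff_eq hr₀ Nat.prime_two).mp h7)
    · rintro ⟨w, hw⟩ hd
      rcases (Nat.Prime.dvd_mul Nat.prime_two).mp hd with ⟨v, hv⟩ | ⟨v, hv⟩ <;> omega

end Cfsg.Agent.Lib.Helper9.PO
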