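import Mathlib
import Cfsg.Agent.Lib.Helper9.POD5

set_option autoImplicit false
set_option linter.unusedSectionVars false

/-!
# Maximal subgroups of `PGL₂(q)`: general lemmas
-/

namespace Cfsg.Agent.Lib.Helper9.PO

open Matrix OnePoint MulAction Cfsg.Agent.Lib.Helper2 Cfsg.Agent.Lib.Helper2.DSub
  Cfsg.Agent.Lib.Helper9.H9PM DihedralGroup
open scoped MatrixGroups

/-- a maximal subgroup normalising a non-normal subgroup is its normaliser -/
theorem coatom_normalizer' {G : Type*} [Group G] (M : Subgroup G) (hM : IsCoatom M)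
    (N : Subgroup G) (hN : ¬ N.Normal) (hnorm : M ≤ Subgroup.normalizer (N : Set G)) :
    Subgroup.normalizer (N : Set G) = M := by
  rcases hM.le_iff.mp hnorm with h | h
  · exact absurd (Subgroup.normalizer_eq_top_iff.mp h) hN
  · exact h

/-- a group `M ≅ D_k` normalises a subgroup of order `r₀` for every prime divisor `r₀` of `k` -/
theorem dihedral_exists_normal_cyclic {G : Type*} [Group G] [Finite G]
    (M : Subgroup G) (k : ℕ) (e : M ≃* DihedralGroup k)
    (r₀ : ℕ) [hr : Fact r₀.Prime] (hrk : r₀ ∣ k) :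
    ∃ c : G, c ∈ M ∧ orderOf c = r₀ ∧
      M ≤ Subgroup.normalizer ((Subgroup.zpowers c : Subgroup G) : Set G) := by
  have hk0 : k ≠ 0 := by
    rintro rfl
    have h1 : Nat.card M = 0 := by
      rw [Nat.card_congr e.toEquiv, DihedralGroup.nat_card, mul_zero]
    exact Nat.card_pos.ne' h1
  set ρ : M := e.symm (r 1) with hρ
  have hρord : orderOf ρ = k := by
    have h1 := orderOf_injective e.symm.toMonoidHom e.symm.injective (r (1 : ZMod k))
    rw [DihedralGroup.orderOf_r_one] at h1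
    exact h1
  have hkr0 : k / r₀ ≠ 0 := by
    obtain ⟨t, rfl⟩ := hrk
    rw [Nat.mul_div_cancel_left _ hr.out.pos]
    rintro rfl
    exact hk0 (mul_zero _)
  have hkrd : k / r₀ ∣ k := Nat.div_dvd_of_dvd hrk
  set c' : M := ρ ^ (k / r₀) with hc'
  have hc'ord : orderOf c' = r₀ := by
    rw [hc', orderOf_pow_of_dvd hkr0 (by rw [hρord]; exact hkrd), hρord,
      Nat.div_div_self hrk hk0]
  set c : G := (c' : G) with hc
  have hcord : orderOf c = r₀ := by
    rw [hc, Subgroup.orderOf_coe, hc'ord]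
  have hconj : ∀ m : M, m * c' * m⁻¹ = c' ∨ m * c' * m⁻¹ = c'⁻¹ := by
    intro m
    have hec : e c' = r ((k / r₀ : ℕ) : ZMod k) := by
      rw [hc', map_pow, hρ, MulEquiv.apply_symm_apply, DihedralGroup.r_one_pow]
    rcases dihedral_conj_r k (e m) ((k / r₀ : ℕ) : ZMod k) with h | h
    · left
      apply e.injective
      rw [map_mul, map_mul, map_inv, hec, h]
    · right
      apply e.injective
      rw [map_mul, map_mul, map_inv, map_inv, hec, h, inv_r]
  set N : Subgroup G := Subgroup.zpowers c with hN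
  have hfwd : ∀ m ∈ M, ∀ h ∈ N, m * h * m⁻¹ ∈ N := by
    intro m hm h hh
    obtain ⟨z, rfl⟩ := Subgroup.mem_zpowers_iff.mp hh
    have h1 : m * c ^ z * m⁻¹ = (m * c * m⁻¹) ^ z := by
      rw [conj_zpow]
    rw [h1]
    apply N.zpow_mem
    rcases hconj ⟨m, hm⟩ with h2 | h2
    · have h3 : m * c * m⁻¹ = c := congrArg Subtype.val h2
      rw [h3]
      exact Subgroup.mem_zpowers c
    · have h3 : m * c * m⁻¹ = c⁻¹ := congrArg Subtype.val h2
      rw [h3]
      exact N.inv_mem (Subgroup.mem_zpowers c)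
  refine ⟨c, c'.2, hcord, ?_⟩
  intro m hm
  rw [Subgroup.mem_normalizer_iff]
  intro h
  constructor
  · exact hfwd m hm h
  · intro hh
    have := hfwd m⁻¹ (M.inv_mem hm) _ hh
    have e1 : m⁻¹ * (m * h * m⁻¹) * m⁻¹⁻¹ = h := by group
    rw [e1] at this
    exact this

/-- an abelian subgroup containing a Sylow `r₀`-subgroup has a conjugate inside any subgroup
containing the centraliser of an element of order `r₀` -/
theorem exists_conj_le_of_centralizer {G : Type*} [Group G] [Finite G] (M : Subgroup G)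
    (r₀ : ℕ) [hr : Fact r₀.Prime] (c : G) (hcord : orderOf c = r₀)
    (hcent : ∀ g : G, g * c = c * g → g ∈ M) (T : Subgroup G)
    (hTab : ∀ a ∈ T, ∀ b ∈ T, a * b = b * a) (hTr : ¬ r₀ ∣ T.index) :
    ∃ g : G, T.map (MulAut.conj g).toMonoidHom ≤ M := by
  obtain ⟨R_T⟩ : Nonempty (Sylow r₀ T) := inferInstance
  obtain ⟨Q', hQ'⟩ := Sylow.exists_comap_subtype_eq R_T
  have hQ'T : (Q' : Subgroup G) ≤ T := by
    have h1 : Nat.card (Q' : Subgroup G) = r₀ ^ (Nat.card G).factorization r₀ :=
      Q'.card_eq_multiplicity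
    have h2 : Nat.card (R_T : Subgroup T) = r₀ ^ (Nat.card T).factorization r₀ :=
      R_T.card_eq_multiplicity
    have h3 : (Nat.card G).factorization r₀ = (Nat.card T).factorization r₀ := by
      rw [← Subgroup.card_mul_index T, Nat.factorization_mul Nat.card_pos.ne'
        (Subgroup.index_ne_zero_of_finite), Finsupp.add_apply,
        Nat.factorization_eq_zero_of_not_dvd hTr, add_zero]
    have h4 : Nat.card ((Q' : Subgroup G) ⊓ T : Subgroup G) = Nat.card (Q' : Subgroup G) := by
      rw [h1, h3, ← h2]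
      have h5 : (R_T : Subgroup T) = (Q' : Subgroup G).subgroupOf T := by
        rw [← hQ']
        rfl
      rw [h5]
      exact (Nat.card_congr (Subgroup.subgroupOfEquivOfLe
        (inf_le_right : (Q' : Subgroup G) ⊓ T ≤ T)).toEquiv).symm.trans (by
          rw [Subgroup.inf_subgroupOf_right])
    have h6 : (Q' : Subgroup G) ⊓ T = (Q' : Subgroup G) :=
      Subgroup.eq_of_le_of_card_ge inf_le_left h4.ge
    rw [← h6]
    exact inf_le_right
  have hzp : IsPGroup r₀ (Subgroup.zpowers c) := by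
    rw [IsPGroup.iff_card, Nat.card_zpowers, hcord]
    exact ⟨1, (pow_one _).symm⟩
  obtain ⟨Q, hQ⟩ := hzp.exists_le_sylow
  obtain ⟨g, hg⟩ := MulAction.exists_smul_eq G Q Q'
  have hgc : g * c * g⁻¹ ∈ T := by
    apply hQ'T
    have : g * c * g⁻¹ ∈ (g • Q : Sylow r₀ G) := by
      have h0 : g * c * g⁻¹ ∈ ((g • Q : Sylow r₀ G) : Subgroup G) := by
        rw [Sylow.coe_subgroup_smul]
        exact ⟨c, hQ (Subgroup.mem_zpowers c), rfl⟩
      exact h0
    rw [hg] at this
    exact this
  refine ⟨g⁻¹, ?_⟩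
  rintro _ ⟨t, ht, rfl⟩
  apply hcent
  change g⁻¹ * t * g⁻¹⁻¹ * c = c * (g⁻¹ * t * g⁻¹⁻¹)
  have h1 := hTab t ht _ hgc
  rw [inv_inv]
  calc g⁻¹ * t * g * c = g⁻¹ * (t * (g * c * g⁻¹)) * g := by group
    _ = g⁻¹ * ((g * c * g⁻¹) * t) * g := by rw [h1]
    _ = c * (g⁻¹ * t * g) := by group

theorem A4_prod_squares : ∀ g : alternatingGroup (Fin 4), ∃ a b : alternatingGroup (Fin 4),
    g = a * a * (b * b) := by decide +kernel

/-- `A₄` has no subgroup of index two -/
theorem no_index_two_A4 (N : Subgroup (alternatingGroup (Fin 4))) : N.index ≠ 2 := by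
  intro h
  have htop : N = ⊤ := by
    rw [eq_top_iff]
    intro g _
    obtain ⟨a, b, rfl⟩ := A4_prod_squares g
    exact N.mul_mem (Subgroup.mul_self_mem_of_index_two h a)
      (Subgroup.mul_self_mem_of_index_two h b)
  rw [htop, Subgroup.index_top] at h
  omega

/-- `A₅` has no subgroup of index two -/
theorem no_index_two_A5 (N : Subgroup (alternatingGroup (Fin 5))) : N.index ≠ 2 := by
  intro h
  haveI := Subgroup.normal_of_index_eq_two h
  haveI : IsSimpleGroup (alternatingGroup (Fin 5)) := alternatingGroup.isSimpleGroup_five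
  rcases Subgroup.Normal.eq_bot_or_eq_top (H := N) inferInstance with h1 | h1
  · rw [h1, Subgroup.index_bot, card_A5] at h
    omega
  · rw [h1, Subgroup.index_top] at h
    omega

variable {F : Type*} [Field F] [Fintype F]

/-- the image of `SL₂(F)` is the image of `PSL₂(F)` -/
theorem range_toPGL_eq_Lsub :
    (ProjGenLinGroup.mk.comp SpecialLinearGroup.toGL : SpecialLinearGroup (Fin 2) F →* _).range =
      Lsub (F := F) := by
  ext g
  constructor
  · rintro ⟨A, rfl⟩
    exact ⟨QuotientGroup.mk A, rfl⟩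
  · rintro ⟨x, rfl⟩
    induction x using QuotientGroup.induction_on with | H A =>
    exact ⟨A, rfl⟩

theorem mul_self_mem_Lsub (h2 : (2 : F) ≠ 0) (g : PGL(Fin 2, F)) : g * g ∈ Lsub (F := F) :=
  Subgroup.mul_self_mem_of_index_two (index_Lsub h2) g

theorem mem_Lsub_of_odd_order (h2 : (2 : F) ≠ 0) (g : PGL(Fin 2, F)) (n : ℕ) (hn : g ^ n = 1)
    (hodd : n % 2 = 1) : g ∈ Lsub (F := F) := by
  have h1 : g = (g * g) ^ ((n + 1) / 2) := by
    rw [← pow_two, ← pow_mul]
    have : 2 * ((n + 1) / 2) = n + 1 := by omega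
    rw [this, pow_succ, hn, one_mul]
  rw [h1]
  exact Subgroup.pow_mem _ (mul_self_mem_Lsub h2 g) _

/-- a nontrivial normal subgroup of `PGL₂(F)` inside the image of `PSL₂(F)` is that image -/
theorem eq_Lsub_of_normal (h4 : 4 ≤ Fintype.card F) (N : Subgroup (PGL(Fin 2, F)))
    (hN : N.Normal) (hN1 : N ≠ ⊥) (hNL : N ≤ Lsub) : N = Lsub := by
  haveI : IsSimpleGroup (ProjectiveSpecialLinearGroup (Fin 2) F) :=
    Matrix.ProjectiveSpecialLinearGroup.rank_two_simple
      (by rw [Nat.card_eq_fintype_card]; exact h4)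
  set f := ProjectiveSpecialLinearGroup.toPGL (n := Fin 2) (R := F) with hf
  have hmap : (N.comap f).map f = N := Subgroup.map_comap_eq_self hNL
  haveI : (N.comap f).Normal := hN.comap f
  rcases Subgroup.Normal.eq_bot_or_eq_top (H := N.comap f) inferInstance with h | h
  · exfalso
    apply hN1
    rw [← hmap, h, Subgroup.map_bot]
  · rw [← hmap, h, ← MonoidHom.range_eq_map]
    rfl

/-- a subgroup of odd prime order of `PGL₂(F)` is not normal -/
theorem not_normal_zpowers (h2 : (2 : F) ≠ 0) (h4 : 4 ≤ Fintype.card F) (c : PGL(Fin 2, F))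
    (r₀ : ℕ) (hr : r₀.Prime) (hr2 : r₀ ≠ 2) (hc : orderOf c = r₀) :
    ¬ (Subgroup.zpowers c).Normal := by
  intro hn
  haveI := finite_pgl (F := F)
  have hodd : r₀ % 2 = 1 := by
    rcases hr.eq_two_or_odd with h | h
    · exact absurd h hr2
    · exact h
  have hcL : c ∈ Lsub (F := F) :=
    mem_Lsub_of_odd_order h2 c r₀ (by rw [← hc]; exact pow_orderOf_eq_one c) hodd
  have hle : Subgroup.zpowers c ≤ Lsub (F := F) := by
    rw [Subgroup.zpowers_le]; exact hcL
  have hne : Subgroup.zpowers c ≠ ⊥ := by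
    intro h
    have : c = 1 := Subgroup.zpowers_eq_bot.mp h
    rw [this, orderOf_one] at hc
    exact hr.one_lt.ne hc
  have heq := eq_Lsub_of_normal h4 _ hn hne hle
  have hcard := two_mul_card_Lsub (F := F) h2
  rw [← heq, Nat.card_zpowers, hc] at hcard
  -- `2 r₀ = q (q - 1) (q + 1)` is impossible
  have hqodd := (gcd_two_of_odd h2).2
  obtain ⟨t, ht⟩ : ∃ t, Fintype.card F = 2 * t + 1 := ⟨Fintype.card F / 2, by omega⟩
  rw [ht] at hcard
  have e1 : 2 * t + 1 - 1 = 2 * t := by omega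
  have e2 : (2 * t + 1) * (2 * t) * (2 * t + 1 + 1) = 4 * ((2 * t + 1) * t * (t + 1)) := by ring
  rw [e1, e2] at hcard
  omega

end Cfsg.Agent.Lib.Helper9.PO
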