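import Mathlib
import Cfsg.Agent.Lib.Helper9.POD5

set_option autoImplicit false
set_option linter.unusedSectionVars false

/-!
# The split and non-split tori of `PGL₂(F)` and their normalisers
-/

namespace Cfsg.Agent.Lib.Helper9.PO

open Matrix
open scoped MatrixGroups

/-- adjoining an involution which normalises a subgroup doubles its order -/
theorem exists_double {G : Type*} [Group G] (T : Subgroup G) (w : G) (hw2 : w * w = 1)
    (hwT : w ∉ T) (hconj : ∀ t ∈ T, w * t * w⁻¹ ∈ T) :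
    ∃ H : Subgroup G, T ≤ H ∧ Nat.card H = 2 * Nat.card T := by
  have hwi : w⁻¹ = w := inv_eq_of_mul_eq_one_right hw2
  let H : Subgroup G :=
    { carrier := {g | g ∈ T ∨ w * g ∈ T}
      one_mem' := Or.inl T.one_mem
      mul_mem' := by
        rintro a b (ha | ha) (hb | hb)
        · exact Or.inl (T.mul_mem ha hb)
        · right
          have : w * (a * b) = (w * a * w⁻¹) * (w * b) := by group
          rw [this]
          exact T.mul_mem (hconj a ha) hb
        · right
          rw [← mul_assoc]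
          exact T.mul_mem ha hb
        · left
          have : a * b = (w * (w * a) * w⁻¹) * (w * b) := by
            rw [hwi]
            calc a * b = (w * w) * a * ((w * w) * b) := by rw [hw2, one_mul, one_mul]
              _ = w * (w * a) * w * (w * b) := by group
          rw [this]
          exact T.mul_mem (hconj _ ha) hb
      inv_mem' := by
        rintro a (ha | ha)
        · exact Or.inl (T.inv_mem ha)
        · right
          have h1 := hconj _ (T.inv_mem ha)
          have : w * (w * a)⁻¹ * w⁻¹ = w * a⁻¹ := by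
            rw [hwi, _root_.mul_inv_rev, hwi]
            calc w * (a⁻¹ * w) * w = w * a⁻¹ * (w * w) := by group
              _ = w * a⁻¹ := by rw [hw2, mul_one]
          rw [this] at h1
          exact h1 }
  have hTH : T ≤ H := fun t ht => Or.inl ht
  refine ⟨H, hTH, ?_⟩
  have hwH : w ∈ H := Or.inr (by rw [hw2]; exact T.one_mem)
  have hidx : (T.subgroupOf H).index = 2 := by
    rw [Subgroup.index_eq_two_iff]
    refine ⟨⟨w, hwH⟩, ?_⟩
    rintro ⟨b, hb⟩
    simp only [Subgroup.mem_subgroupOf, Subgroup.coe_mul]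
    rcases hb with hb | hb
    · right
      refine ⟨hb, ?_⟩
      intro h
      apply hwT
      have : w = b⁻¹ * (b * w) := by group
      rw [this]
      exact T.mul_mem (T.inv_mem hb) h
    · left
      have hbT : b ∉ T := by
        intro h
        apply hwT
        have : w = (w * b) * b⁻¹ := by group
        rw [this]
        exact T.mul_mem hb (T.inv_mem h)
      refine ⟨?_, hbT⟩
      have h1 := hconj _ hb
      have : w * (w * b) * w⁻¹ = b * w := by
        rw [hwi]
        calc w * (w * b) * w = (w * w) * b * w := by group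
          _ = b * w := by rw [hw2, one_mul]
      rw [this] at h1
      exact h1
  have h1 := (T.subgroupOf H).card_mul_index
  rw [hidx, Nat.card_congr (Subgroup.subgroupOfEquivOfLe hTH).toEquiv] at h1
  rw [← h1, mul_comm]

variable {F : Type*} [Field F]

/-- projective equality from proportional matrices -/
theorem mk_eq_mk_of_smul (g₁ g₂ : GL (Fin 2) F) (u : F) (hu : u ≠ 0)
    (h : (g₂ : Matrix (Fin 2) (Fin 2) F) = u • (g₁ : Matrix (Fin 2) (Fin 2) F)) :
    ProjGenLinGroup.mk g₁ = ProjGenLinGroup.mk g₂ := by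
  rw [ProjGenLinGroup.mk_eq_mk_iff]
  refine ⟨Units.mk0 u hu, ?_⟩
  apply Units.ext
  rw [Units.val_mul, Matrix.GeneralLinearGroup.coe_scalar, h, Units.val_mk0]
  ext i j
  simp [Matrix.mul_apply, Matrix.scalar_apply, Matrix.diagonal_apply, mul_comm]

/-- proportional matrices from projective equality -/
theorem exists_smul_of_mk_eq (g₁ g₂ : GL (Fin 2) F)
    (h : ProjGenLinGroup.mk g₁ = ProjGenLinGroup.mk g₂) :
    ∃ u : F, u ≠ 0 ∧ ∀ i j, (g₂ : Matrix (Fin 2) (Fin 2) F) i j =
      u * (g₁ : Matrix (Fin 2) (Fin 2) F) i j := by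
  rw [ProjGenLinGroup.mk_eq_mk_iff] at h
  obtain ⟨u, hu⟩ := h
  refine ⟨(u : F), u.ne_zero, ?_⟩
  intro i j
  have h1 := congrArg (fun m : GL (Fin 2) F => (m : Matrix (Fin 2) (Fin 2) F) i j) hu
  simp only [Units.val_mul, Matrix.GeneralLinearGroup.coe_scalar] at h1
  rw [← h1]
  simp [Matrix.mul_apply, Matrix.scalar_apply, Matrix.diagonal_apply, mul_comm]

section nonsplit

variable (ε : F) (hε : ¬ IsSquare ε)

/-- the matrices of the non-split torus -/
def nsMat (c : F) : Matrix (Fin 2) (Fin 2) F := !![c, ε; 1, c]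

theorem det_nsMat_ne (hε : ¬ IsSquare ε) (c : F) : (nsMat ε c).det ≠ 0 := by
  rw [nsMat, Matrix.det_fin_two_of]
  intro h
  apply hε
  refine ⟨c, ?_⟩
  linear_combination -h

/-- the elements of the non-split torus -/
noncomputable def tau (c : F) : PGL(Fin 2, F) :=
  ProjGenLinGroup.mk (GeneralLinearGroup.mkOfDetNeZero (nsMat ε c) (det_nsMat_ne ε hε c))

theorem tau_mul (c d : F) (h : c + d ≠ 0) :
    tau ε hε c * tau ε hε d = tau ε hε ((c * d + ε) / (c + d)) := by
  unfold tau
  rw [← map_mul]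
  apply mk_eq_mk_of_smul _ _ (c + d)⁻¹ (inv_ne_zero h)
  rw [Units.val_mul]
  show nsMat ε _ = (c + d)⁻¹ • (nsMat ε c * nsMat ε d)
  ext i j
  fin_cases i <;> fin_cases j <;>
    simp [nsMat, Matrix.mul_apply, Fin.sum_univ_two] <;> field_simp <;> ring

theorem tau_mul_neg (c : F) : tau ε hε c * tau ε hε (-c) = 1 := by
  unfold tau
  rw [← map_mul, ← ProjGenLinGroup.mk_one]
  have hne : ε - c * c ≠ 0 := by
    intro h
    apply hε
    exact ⟨c, by linear_combination h⟩
  symm
  apply mk_eq_mk_of_smul _ _ (ε - c * c) hne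
  rw [Units.val_mul]
  show nsMat ε c * nsMat ε (-c) = (ε - c * c) • (1 : Matrix (Fin 2) (Fin 2) F)
  ext i j
  fin_cases i <;> fin_cases j <;>
    simp [nsMat, Matrix.mul_apply, Fin.sum_univ_two] <;> ring

theorem tau_comm (c d : F) : tau ε hε c * tau ε hε d = tau ε hε d * tau ε hε c := by
  unfold tau
  rw [← map_mul, ← map_mul]
  apply mk_eq_mk_of_smul _ _ 1 one_ne_zero
  rw [Units.val_mul, Units.val_mul, one_smul]
  show nsMat ε d * nsMat ε c = nsMat ε c * nsMat ε d
  ext i j
  fin_cases i <;> fin_cases j <;>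
    simp [nsMat, Matrix.mul_apply, Fin.sum_univ_two] <;> ring

theorem tau_injective : Function.Injective (tau ε hε) := by
  intro c d h
  obtain ⟨u, -, hu⟩ := exists_smul_of_mk_eq _ _ h
  have h10 := hu 1 0
  have h00 := hu 0 0
  simp [GeneralLinearGroup.mkOfDetNeZero, nsMat] at h10 h00
  rw [← h10, one_mul] at h00
  exact h00.symm

theorem tau_ne_one (c : F) : tau ε hε c ≠ 1 := by
  intro h
  rw [tau, ← ProjGenLinGroup.mk_one] at h
  obtain ⟨u, hu0, hu⟩ := exists_smul_of_mk_eq _ _ h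
  have h10 := hu 1 0
  simp [GeneralLinearGroup.mkOfDetNeZero, nsMat] at h10
  exact hu0 h10.symm

/-- the non-split torus -/
noncomputable def nsTorus : Subgroup (PGL(Fin 2, F)) where
  carrier := {g | g = 1 ∨ ∃ c, g = tau ε hε c}
  one_mem' := Or.inl rfl
  mul_mem' := by
    rintro a b (rfl | ⟨c, rfl⟩) (rfl | ⟨d, rfl⟩)
    · left; rw [one_mul]
    · right; exact ⟨d, one_mul _⟩
    · right; exact ⟨c, mul_one _⟩
    · by_cases h : c + d = 0
      · left
        have : d = -c := by linear_combination h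
        rw [this]
        exact tau_mul_neg ε hε c
      · right
        exact ⟨_, tau_mul ε hε c d h⟩
  inv_mem' := by
    rintro a (rfl | ⟨c, rfl⟩)
    · left; rw [inv_one]
    · right
      exact ⟨-c, inv_eq_of_mul_eq_one_right (tau_mul_neg ε hε c)⟩

theorem nsTorus_comm (a : PGL(Fin 2, F)) (ha : a ∈ nsTorus ε hε) (b : PGL(Fin 2, F))
    (hb : b ∈ nsTorus ε hε) : a * b = b * a := by
  rcases ha with rfl | ⟨c, rfl⟩ <;> rcases hb with rfl | ⟨d, rfl⟩
  · rfl
  · rw [one_mul, mul_one]
  · rw [one_mul, mul_one]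
  · exact tau_comm ε hε c d

theorem card_nsTorus [Fintype F] : Nat.card (nsTorus ε hε) = Fintype.card F + 1 := by
  classical
  have hset : ((nsTorus ε hε : Subgroup (PGL(Fin 2, F))) : Set (PGL(Fin 2, F))) =
      insert 1 (Set.range (tau ε hε)) := by
    ext g
    constructor
    · rintro (rfl | ⟨c, rfl⟩)
      · exact Set.mem_insert _ _
      · exact Set.mem_insert_of_mem _ ⟨c, rfl⟩
    · rintro (rfl | ⟨c, rfl⟩)
      · exact Or.inl rfl
      · exact Or.inr ⟨c, rfl⟩
  have h1 : (1 : PGL(Fin 2, F)) ∉ Set.range (tau ε hε) := by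
    rintro ⟨c, hc⟩
    exact tau_ne_one ε hε c hc
  have hfin : (Set.range (tau ε hε)).Finite := Set.finite_range _
  have h2 : (Set.range (tau ε hε)).ncard = Fintype.card F := by
    rw [← _root_.Nat.card_coe_set_eq, Nat.card_range_of_injective (tau_injective ε hε),
      Nat.card_eq_fintype_card]
  show Nat.card ((nsTorus ε hε : Subgroup (PGL(Fin 2, F))) : Set (PGL(Fin 2, F))) = _
  rw [_root_.Nat.card_coe_set_eq, hset, Set.ncard_insert_of_notMem h1 hfin, h2]

/-- the reflection -/
def reflMat : Matrix (Fin 2) (Fin 2) F := !![1, 0; 0, -1]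

theorem det_reflMat_ne : (reflMat (F := F)).det ≠ 0 := by
  rw [reflMat, Matrix.det_fin_two_of]
  simp

noncomputable def refl : PGL(Fin 2, F) :=
  ProjGenLinGroup.mk (GeneralLinearGroup.mkOfDetNeZero reflMat det_reflMat_ne)

theorem refl_mul_self : (refl : PGL(Fin 2, F)) * refl = 1 := by
  unfold refl
  rw [← map_mul, ← ProjGenLinGroup.mk_one]
  apply mk_eq_mk_of_smul _ _ 1 one_ne_zero
  rw [Units.val_mul, one_smul]
  show (1 : Matrix (Fin 2) (Fin 2) F) = reflMat * reflMat
  ext i j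
  fin_cases i <;> fin_cases j <;> simp [reflMat, Matrix.mul_apply, Fin.sum_univ_two]

theorem refl_ne_one (h2 : (2 : F) ≠ 0) : (refl : PGL(Fin 2, F)) ≠ 1 := by
  intro h
  rw [refl, ← ProjGenLinGroup.mk_one] at h
  obtain ⟨u, hu0, hu⟩ := exists_smul_of_mk_eq _ _ h
  have h00 := hu 0 0
  have h11 := hu 1 1
  simp [GeneralLinearGroup.mkOfDetNeZero, reflMat] at h00 h11
  apply h2
  rw [← h00] at h11
  linear_combination h11

theorem refl_conj_tau (c : F) : refl * tau ε hε c * refl⁻¹ = tau ε hε (-c) := by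
  rw [mul_inv_eq_iff_eq_mul]
  unfold refl tau
  rw [← map_mul, ← map_mul]
  apply mk_eq_mk_of_smul _ _ (-1) (neg_ne_zero.mpr one_ne_zero)
  rw [Units.val_mul, Units.val_mul]
  show nsMat ε (-c) * reflMat = (-1 : F) • (reflMat * nsMat ε c)
  ext i j
  fin_cases i <;> fin_cases j <;> simp [nsMat, reflMat, Matrix.mul_apply, Fin.sum_univ_two]

theorem refl_ne_tau (c : F) : (refl : PGL(Fin 2, F)) ≠ tau ε hε c := by
  intro h
  obtain ⟨u, hu0, hu⟩ := exists_smul_of_mk_eq _ _ h
  have h10 := hu 1 0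
  simp [GeneralLinearGroup.mkOfDetNeZero, nsMat, reflMat] at h10

end nonsplit

/-- the non-split torus and a subgroup of twice its order -/
theorem exists_nonsplit [Fintype F] (h2 : (2 : F) ≠ 0) :
    ∃ T H : Subgroup (PGL(Fin 2, F)), T ≤ H ∧ (∀ a ∈ T, ∀ b ∈ T, a * b = b * a) ∧
      Nat.card T = Fintype.card F + 1 ∧ Nat.card H = 2 * (Fintype.card F + 1) := by
  have hch : ringChar F ≠ 2 := by
    intro h
    apply h2
    have := ringChar.spec F 2
    rw [h] at this
    have h3 := this.mpr dvd_rfl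
    exact_mod_cast h3
  obtain ⟨ε, hε⟩ := FiniteField.exists_nonsquare hch
  obtain ⟨H, hTH, hH⟩ := exists_double (nsTorus ε hε) refl refl_mul_self (by
    rintro (h | ⟨c, h⟩)
    · exact refl_ne_one h2 h
    · exact refl_ne_tau ε hε c h) (by
    rintro t (rfl | ⟨c, rfl⟩)
    · left
      rw [mul_one, mul_inv_cancel]
    · right
      exact ⟨-c, refl_conj_tau ε hε c⟩)
  refine ⟨nsTorus ε hε, H, hTH, nsTorus_comm ε hε, card_nsTorus ε hε, ?_⟩
  rw [hH, card_nsTorus]


section split

/-- the matrices of the split torus -/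
def dgMat (a : F) : Matrix (Fin 2) (Fin 2) F := !![a, 0; 0, 1]

theorem det_dgMat_ne (a : Fˣ) : (dgMat (a : F)).det ≠ 0 := by
  rw [dgMat, Matrix.det_fin_two_of]
  simp

/-- the elements of the split torus -/
noncomputable def dg (a : Fˣ) : PGL(Fin 2, F) :=
  ProjGenLinGroup.mk (GeneralLinearGroup.mkOfDetNeZero (dgMat (a : F)) (det_dgMat_ne a))

theorem dg_mul (a b : Fˣ) : dg a * dg b = dg (a * b) := by
  unfold dg
  rw [← map_mul]
  apply mk_eq_mk_of_smul _ _ 1 one_ne_zero
  show dgMat ((a * b : Fˣ) : F) = (1 : F) • (dgMat (a : F) * dgMat (b : F))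
  rw [one_smul]
  ext i j
  fin_cases i <;> fin_cases j <;> simp [dgMat, Matrix.mul_apply, Fin.sum_univ_two]

theorem dg_one : dg (1 : Fˣ) = 1 := by
  unfold dg
  rw [← ProjGenLinGroup.mk_one]
  apply mk_eq_mk_of_smul _ _ 1 one_ne_zero
  rw [one_smul]
  show (1 : Matrix (Fin 2) (Fin 2) F) = dgMat ((1 : Fˣ) : F)
  ext i j
  fin_cases i <;> fin_cases j <;> simp [dgMat]

theorem dg_injective : Function.Injective (dg (F := F)) := by
  intro a b h
  obtain ⟨u, -, hu⟩ := exists_smul_of_mk_eq _ _ h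
  have h11 := hu 1 1
  have h00 := hu 0 0
  simp [GeneralLinearGroup.mkOfDetNeZero, dgMat] at h11 h00
  rw [← h11, one_mul] at h00
  exact Units.ext h00.symm

/-- the split torus -/
noncomputable def spTorus : Subgroup (PGL(Fin 2, F)) where
  carrier := Set.range (dg (F := F))
  one_mem' := ⟨1, dg_one⟩
  mul_mem' := by
    rintro _ _ ⟨a, rfl⟩ ⟨b, rfl⟩
    exact ⟨a * b, (dg_mul a b).symm⟩
  inv_mem' := by
    rintro _ ⟨a, rfl⟩
    refine ⟨a⁻¹, ?_⟩
    symm
    apply inv_eq_of_mul_eq_one_right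
    rw [dg_mul, mul_inv_cancel, dg_one]

theorem spTorus_comm (a : PGL(Fin 2, F)) (ha : a ∈ spTorus (F := F)) (b : PGL(Fin 2, F))
    (hb : b ∈ spTorus (F := F)) : a * b = b * a := by
  obtain ⟨c, rfl⟩ := ha
  obtain ⟨d, rfl⟩ := hb
  rw [dg_mul, dg_mul, mul_comm]

theorem card_spTorus [Fintype F] : Nat.card (spTorus (F := F)) = Fintype.card F - 1 := by
  classical
  show Nat.card (Set.range (dg (F := F))) = _
  rw [Nat.card_range_of_injective dg_injective, Nat.card_eq_fintype_card, Fintype.card_units]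

/-- the swap -/
def swMat : Matrix (Fin 2) (Fin 2) F := !![0, 1; 1, 0]

theorem det_swMat_ne : (swMat (F := F)).det ≠ 0 := by
  rw [swMat, Matrix.det_fin_two_of]
  simp

noncomputable def sw : PGL(Fin 2, F) :=
  ProjGenLinGroup.mk (GeneralLinearGroup.mkOfDetNeZero swMat det_swMat_ne)

theorem sw_mul_self : (sw : PGL(Fin 2, F)) * sw = 1 := by
  unfold sw
  rw [← map_mul, ← ProjGenLinGroup.mk_one]
  apply mk_eq_mk_of_smul _ _ 1 one_ne_zero
  rw [Units.val_mul, one_smul]
  show (1 : Matrix (Fin 2) (Fin 2) F) = swMat * swMat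
  ext i j
  fin_cases i <;> fin_cases j <;> simp [swMat, Matrix.mul_apply, Fin.sum_univ_two]

theorem sw_conj_dg (a : Fˣ) : sw * dg a * sw⁻¹ = dg a⁻¹ := by
  rw [mul_inv_eq_iff_eq_mul]
  unfold sw dg
  rw [← map_mul, ← map_mul]
  apply mk_eq_mk_of_smul _ _ ((a⁻¹ : Fˣ) : F) (Units.ne_zero _)
  show dgMat ((a⁻¹ : Fˣ) : F) * swMat = ((a⁻¹ : Fˣ) : F) • (swMat * dgMat (a : F))
  ext i j
  fin_cases i <;> fin_cases j <;> simp [dgMat, swMat, Matrix.mul_apply, Fin.sum_univ_two]

theorem sw_ne_dg (a : Fˣ) : (sw : PGL(Fin 2, F)) ≠ dg a := by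
  intro h
  obtain ⟨u, hu0, hu⟩ := exists_smul_of_mk_eq _ _ h
  have h00 := hu 0 0
  simp [GeneralLinearGroup.mkOfDetNeZero, dgMat, swMat] at h00

end split

/-- the split torus and a subgroup of twice its order -/
theorem exists_split [Fintype F] :
    ∃ T H : Subgroup (PGL(Fin 2, F)), T ≤ H ∧ (∀ a ∈ T, ∀ b ∈ T, a * b = b * a) ∧
      Nat.card T = Fintype.card F - 1 ∧ Nat.card H = 2 * (Fintype.card F - 1) := by
  obtain ⟨H, hTH, hH⟩ := exists_double (spTorus (F := F)) sw sw_mul_self (by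
    rintro ⟨a, h⟩
    exact sw_ne_dg a h.symm) (by
    rintro t ⟨a, rfl⟩
    exact ⟨a⁻¹, (sw_conj_dg a).symm⟩)
  refine ⟨spTorus, H, hTH, spTorus_comm, card_spTorus, ?_⟩
  rw [hH, card_spTorus]


end Cfsg.Agent.Lib.Helper9.PO
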