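import Mathlib
import Cfsg.Agent.Lib.Helper9.POG1

set_option autoImplicit false
set_option linter.unusedSectionVars false

/-!
# Four-groups in `PGL₂(q)` and maximal subgroups isomorphic to `S₄`
-/

namespace Cfsg.Agent.Lib.Helper9.PO

open Matrix OnePoint MulAction Cfsg.Agent.Lib.Helper2 Cfsg.Agent.Lib.Helper2.DSub
  Cfsg.Agent.Lib.Helper9.H9PM
open scoped MatrixGroups

variable {F : Type*} [Field F] [Fintype F]

local notation "PSL" => Matrix.ProjectiveSpecialLinearGroup (Fin 2) F

/-- a subgroup generating `PGL₂(F)` together with the image of `PSL₂(F)` meets it in a subgroup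
of index two -/
theorem card_eq_two_mul_inf_of_sup (h2 : (2 : F) ≠ 0) (R : Subgroup (PGL(Fin 2, F)))
    (hsup : R ⊔ Lsub = ⊤) :
    Nat.card R = 2 * Nat.card (R ⊓ Lsub : Subgroup (PGL(Fin 2, F))) ∧
      ((Lsub (F := F)).subgroupOf R).index = 2 := by
  haveI := finite_pgl (F := F)
  haveI := normal_Lsub (F := F) h2
  have hrel : (Lsub (F := F)).relIndex R = 2 := by
    rw [← Subgroup.relIndex_sup_right, hsup, Subgroup.relIndex_top_right, index_Lsub h2]
  have h1 := ((Lsub (F := F)).subgroupOf R).card_mul_index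
  have h3 : Nat.card ((Lsub (F := F)).subgroupOf R) =
      Nat.card (R ⊓ Lsub : Subgroup (PGL(Fin 2, F))) := by
    rw [inf_comm, ← Subgroup.inf_subgroupOf_right]
    exact Nat.card_congr (Subgroup.subgroupOfEquivOfLe inf_le_right).toEquiv
  have hrel' : ((Lsub (F := F)).subgroupOf R).index = 2 := hrel
  rw [h3, hrel'] at h1
  exact ⟨by rw [← h1, mul_comm], hrel'⟩

/-- a maximal subgroup not containing the image of `PSL₂(F)` -/
theorem coatom_sup_Lsub (M : Subgroup (PGL(Fin 2, F))) (hM : IsCoatom M)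
    (hML : ¬ Lsub ≤ M) : M ⊔ Lsub = ⊤ := by
  rcases hM.le_iff.mp (le_sup_left : M ≤ M ⊔ Lsub) with h | h
  · exact h
  · exact absurd (h ▸ le_sup_right : Lsub ≤ M) hML

section klein

variable [DecidableEq F]

/-- pulling a four-group back to `PSL₂(F)` -/
theorem klein_pullback (V : Subgroup (PGL(Fin 2, F))) (hV : IsKleinFour V) (hVL : V ≤ Lsub) :
    IsKleinFour (V.comap (ProjectiveSpecialLinearGroup.toPGL (n := Fin 2) (R := F))) ∧
      (V.comap (ProjectiveSpecialLinearGroup.toPGL (n := Fin 2) (R := F))).map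
        (ProjectiveSpecialLinearGroup.toPGL (n := Fin 2) (R := F)) = V := by
  set f := ProjectiveSpecialLinearGroup.toPGL (n := Fin 2) (R := F) with hf
  have hinj : Function.Injective f := ProjectiveSpecialLinearGroup.toPGL_injective
  have hmap : (V.comap f).map f = V := Subgroup.map_comap_eq_self hVL
  refine ⟨?_, hmap⟩
  have e1 : (V.comap f) ≃* (V.comap f).map f := (V.comap f).equivMapOfInjective f hinj
  have e2 : ((V.comap f).map f : Subgroup _) ≃* V := MulEquiv.subgroupCongr hmap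
  haveI := hV
  exact isKleinFour_of_equiv (e1.trans e2).symm

/-- the normaliser in the image of `PSL₂(F)` of a four-group -/
theorem card_inf_normalizer_klein (hodd : Odd (Fintype.card F)) (V : Subgroup (PGL(Fin 2, F)))
    (hV : IsKleinFour V) (hVL : V ≤ Lsub) :
    ((Fintype.card F % 8 = 3 ∨ Fintype.card F % 8 = 5) →
      Nat.card (Lsub ⊓ Subgroup.normalizer (V : Set (PGL(Fin 2, F))) :
        Subgroup (PGL(Fin 2, F))) = 12) ∧
    ((Fintype.card F % 8 = 1 ∨ Fintype.card F % 8 = 7) →
      Nat.card (Lsub ⊓ Subgroup.normalizer (V : Set (PGL(Fin 2, F))) :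
        Subgroup (PGL(Fin 2, F))) = 24) := by
  set f := ProjectiveSpecialLinearGroup.toPGL (n := Fin 2) (R := F) with hf
  have hinj : Function.Injective f := ProjectiveSpecialLinearGroup.toPGL_injective
  obtain ⟨hV₀, hmap⟩ := klein_pullback V hV hVL
  haveI := hV₀
  have h1 := map_inf_normalizer f hinj ⊤ (V.comap f)
  rw [top_inf_eq, ← MonoidHom.range_eq_map, hmap] at h1
  have h3 : (Lsub (F := F)) = f.range := rfl
  have hcard : Nat.card (Lsub ⊓ Subgroup.normalizer (V : Set (PGL(Fin 2, F))) :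
        Subgroup (PGL(Fin 2, F))) = Nat.card (Subgroup.normalizer ((V.comap f : Subgroup PSL) :
          Set PSL)) := by
    rw [h3, ← h1, Subgroup.card_map_of_injective hinj]
  rw [hcard]
  exact SL2S4.card_normalizer hodd (V.comap f)

/-- four-groups in the image of `PSL₂(F)` are conjugate if `q ≡ ±3 (mod 8)` -/
theorem klein_conj (hodd : Odd (Fintype.card F))
    (hq8 : Fintype.card F % 8 = 3 ∨ Fintype.card F % 8 = 5) (V W : Subgroup (PGL(Fin 2, F)))
    (hV : IsKleinFour V) (hVL : V ≤ Lsub) (hW : IsKleinFour W) (hWL : W ≤ Lsub) :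
    ∃ g : PGL(Fin 2, F), g ∈ Lsub (F := F) ∧
      W = V.map (MulAut.conj g : PGL(Fin 2, F) ≃* PGL(Fin 2, F)).toMonoidHom := by
  set f := ProjectiveSpecialLinearGroup.toPGL (n := Fin 2) (R := F) with hf
  obtain ⟨hV₀, hVmap⟩ := klein_pullback V hV hVL
  obtain ⟨hW₀, hWmap⟩ := klein_pullback W hW hWL
  obtain ⟨g₀, hg₀⟩ := (Cfsg.Agent.S0808.result (F := F) (q := Fintype.card F) rfl hodd).1 hq8
    (V.comap f) (W.comap f) hV₀ hW₀
  refine ⟨f g₀, ⟨g₀, rfl⟩, ?_⟩
  have hcomp : f.comp (MulAut.conj g₀ : PSL ≃* PSL).toMonoidHom =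
      (MulAut.conj (f g₀) : PGL(Fin 2, F) ≃* PGL(Fin 2, F)).toMonoidHom.comp f := by
    apply MonoidHom.ext
    intro x
    simp only [MonoidHom.coe_comp, MulEquiv.coe_toMonoidHom, Function.comp_apply,
      MulAut.conj_apply, map_mul, map_inv]
  rw [← hWmap, hg₀, Subgroup.map_map, hcomp, ← Subgroup.map_map, hVmap]

/-- the normaliser in `PGL₂(F)` of a four-group, `q ≡ ±3 (mod 8)` -/
theorem klein_normalizer_pgl (hodd : Odd (Fintype.card F))
    (hq8 : Fintype.card F % 8 = 3 ∨ Fintype.card F % 8 = 5) (V : Subgroup (PGL(Fin 2, F)))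
    (hV : IsKleinFour V) (hVL : V ≤ Lsub) :
    Nat.card (Subgroup.normalizer (V : Set (PGL(Fin 2, F)))) = 24 := by
  have h2 : (2 : F) ≠ 0 := Cfsg.Agent.Lib.Helper1.two_ne_zero_of_odd_card hodd
  haveI := normal_Lsub (F := F) h2
  have hsup : Subgroup.normalizer (V : Set (PGL(Fin 2, F))) ⊔ Lsub = ⊤ := by
    rw [eq_top_iff]
    intro g _
    set W := V.map (MulAut.conj g : PGL(Fin 2, F) ≃* PGL(Fin 2, F)).toMonoidHom with hW
    have hWL : W ≤ Lsub := by
      rw [← map_conj_Lsub h2 g]
      exact Subgroup.map_mono hVL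
    have hWk : IsKleinFour W := by
      haveI := hV
      exact isKleinFour_of_equiv (V.equivMapOfInjective _ (MulAut.conj g).injective)
    obtain ⟨l, hl, hlW⟩ := klein_conj hodd hq8 V W hV hVL hWk hWL
    have hmem : l⁻¹ * g ∈ Subgroup.normalizer (V : Set (PGL(Fin 2, F))) := by
      rw [Subgroup.mem_normalizer_iff_map_conj_eq]
      have h1 : V.map (MulAut.conj (l⁻¹ * g) : PGL(Fin 2, F) ≃* PGL(Fin 2, F)).toMonoidHom =
          (V.map (MulAut.conj g : PGL(Fin 2, F) ≃* PGL(Fin 2, F)).toMonoidHom).map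
            (MulAut.conj l⁻¹ : PGL(Fin 2, F) ≃* PGL(Fin 2, F)).toMonoidHom := by
        rw [Subgroup.map_map]
        congr 1
        ext x
        simp only [MonoidHom.coe_comp, MulEquiv.coe_toMonoidHom, Function.comp_apply,
          MulAut.conj_apply]
        group
      have h1' : V.map ((MulAut.conj (l⁻¹ * g) : PGL(Fin 2, F) ≃* PGL(Fin 2, F)) :
          PGL(Fin 2, F) →* PGL(Fin 2, F)) =
          V.map (MulAut.conj (l⁻¹ * g) : PGL(Fin 2, F) ≃* PGL(Fin 2, F)).toMonoidHom := rfl
      rw [h1', h1, ← hW, hlW, Subgroup.map_map]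
      have h3 : ((MulAut.conj l⁻¹ : PGL(Fin 2, F) ≃* PGL(Fin 2, F)).toMonoidHom.comp
          (MulAut.conj l : PGL(Fin 2, F) ≃* PGL(Fin 2, F)).toMonoidHom) =
          MonoidHom.id _ := by
        ext x
        simp only [MonoidHom.coe_comp, MulEquiv.coe_toMonoidHom, Function.comp_apply,
          MulAut.conj_apply, MonoidHom.id_apply]
        group
      rw [h3, Subgroup.map_id]
    have : g = l * (l⁻¹ * g) := by group
    rw [this]
    exact Subgroup.mul_mem _ (Subgroup.mem_sup_right hl) (Subgroup.mem_sup_left hmem)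
  have h1 := (card_eq_two_mul_inf_of_sup h2 _ hsup).1
  rw [inf_comm, (card_inf_normalizer_klein hodd V hV hVL).1 hq8] at h1
  rw [h1]

end klein

/-- the normal four-group of `S₄` -/
def V4 : Subgroup (Equiv.Perm (Fin 4)) where
  carrier := {g | g * g = 1 ∧ Equiv.Perm.sign g = 1}
  mul_mem' := fun {a b} ha hb => S4_sq_mul a b ha hb
  one_mem' := ⟨mul_one 1, map_one _⟩
  inv_mem' := fun {a} ha => by
    refine ⟨?_, ?_⟩
    · rw [← _root_.mul_inv_rev, ha.1, inv_one]
    · rw [map_inv, ha.2, inv_one]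

theorem V4_normal : V4.Normal := by
  constructor
  intro a ha g
  have ha' : a * a = 1 := ha.1
  refine ⟨?_, ?_⟩
  · calc (g * a * g⁻¹) * (g * a * g⁻¹) = g * (a * a) * g⁻¹ := by group
      _ = 1 := by rw [ha']; group
  · rw [map_mul, map_mul, map_inv, mul_comm, ← mul_assoc, inv_mul_cancel, one_mul]
    exact ha.2

theorem V4_card_aux : Fintype.card {g : Equiv.Perm (Fin 4) // g * g = 1 ∧
    Equiv.Perm.sign g = 1} = 4 := by decide +kernel

theorem card_V4 : Nat.card V4 = 4 := by
  have : Nat.card V4 = Fintype.card {g : Equiv.Perm (Fin 4) // g * g = 1 ∧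
      Equiv.Perm.sign g = 1} := by
    rw [← Nat.card_eq_fintype_card]
    rfl
  rw [this, V4_card_aux]

theorem isKleinFour_V4 : IsKleinFour V4 := by
  refine ⟨card_V4, ?_⟩
  have hsq : ∀ k : V4, k ^ 2 = 1 := by
    intro k
    apply Subtype.ext
    rw [pow_two]
    exact k.2.1
  have h1 : Monoid.exponent V4 ∣ 2 := Monoid.exponent_dvd_of_forall_pow_eq_one hsq
  rcases (Nat.dvd_prime Nat.prime_two).mp h1 with h | h
  · exfalso
    rw [Monoid.exp_eq_one_iff] at h
    have := Nat.card_eq_one_iff_unique.mpr ⟨h, ⟨1⟩⟩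
    rw [card_V4] at this
    omega
  · exact h

theorem V4_sq : ∀ g : Equiv.Perm (Fin 4), g * g = 1 ∧ Equiv.Perm.sign g = 1 →
    ∃ s : Equiv.Perm (Fin 4), g = s * s := by decide +kernel

theorem pow_mod_eight (p f : ℕ) (hp : p % 8 = 1 ∨ p % 8 = 7) :
    p ^ f % 8 = 1 ∨ p ^ f % 8 = 7 := by
  induction f with
  | zero => left; simp
  | succ n ih =>
    rw [pow_succ, Nat.mul_mod]
    rcases ih with h | h <;> rcases hp with h' | h' <;> rw [h, h'] <;> simp

/-- the subfield subgroups respect the images of the special linear groups -/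
theorem map_Lsub_le (K : Subfield F) [Fintype ↥K] :
    (Lsub (F := ↥K)).map (ProjGenLinGroup.map (n := Fin 2) K.subtype) ≤ Lsub (F := F) := by
  rintro _ ⟨_, ⟨x, rfl⟩, rfl⟩
  induction x using QuotientGroup.induction_on with | H A =>
  refine ⟨QuotientGroup.mk (SpecialLinearGroup.map K.subtype A), ?_⟩
  rw [ProjectiveSpecialLinearGroup.toPGL_mk, ProjectiveSpecialLinearGroup.toPGL_mk,
    ProjGenLinGroup.map_mk]
  congr 1
  apply Units.ext
  ext i j
  rfl

section S4

variable (p : ℕ) [Fact p.Prime] [CharP F p]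

/-- a maximal subgroup of `PGL₂(F)` isomorphic to `S₄`, in characteristic not three -/
theorem S4_case_pgl (hodd : Odd (Fintype.card F)) (h3 : 3 < Fintype.card F) (hp3 : p ≠ 3)
    (M : Subgroup (PGL(Fin 2, F))) (hM : IsCoatom M) (hML : ¬ Lsub ≤ M)
    (e : M ≃* Equiv.Perm (Fin 4)) :
    (Fintype.card F).Prime ∧ (Fintype.card F % 8 = 3 ∨ Fintype.card F % 8 = 5) := by
  classical
  have hpp : p.Prime := Fact.out
  have h2 : (2 : F) ≠ 0 := Cfsg.Agent.Lib.Helper1.two_ne_zero_of_odd_card hodd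
  haveI := finite_pgl (F := F)
  set q := Fintype.card F with hq
  have hqodd : q % 2 = 1 := Nat.odd_iff.mp hodd
  have hq5 : 5 ≤ q := by omega
  have hLcard := two_mul_card_Lsub (F := F) h2
  rw [← hq] at hLcard
  have hLbig : 60 ≤ Nat.card (Lsub (F := F)) := by
    have : 5 * 4 * 6 ≤ q * (q - 1) * (q + 1) :=
      Nat.mul_le_mul (Nat.mul_le_mul hq5 (by omega)) (by omega)
    omega
  -- the four-group
  set f : Equiv.Perm (Fin 4) →* PGL(Fin 2, F) := M.subtype.comp e.symm.toMonoidHom with hf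
  have hinj : Function.Injective f := M.subtype_injective.comp e.symm.injective
  have hrange : (⊤ : Subgroup (Equiv.Perm (Fin 4))).map f = M := by
    ext y
    constructor
    · rintro ⟨x, -, rfl⟩
      exact (e.symm x).2
    · intro hy
      exact ⟨e ⟨y, hy⟩, trivial, by rw [hf]; simp⟩
  set V := V4.map f with hV
  have hVk : IsKleinFour V := by
    haveI := isKleinFour_V4
    exact isKleinFour_of_equiv (V4.equivMapOfInjective f hinj)
  have hMV : M ≤ Subgroup.normalizer (V : Set (PGL(Fin 2, F))) := by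
    have h1 := Subgroup.le_normalizer_map (H := V4) f
    haveI := V4_normal
    rw [Subgroup.normalizer_eq_top_iff.mpr inferInstance, hrange] at h1
    exact h1
  have hVL : V ≤ Lsub := by
    rintro _ ⟨v, hv, rfl⟩
    obtain ⟨s, rfl⟩ := V4_sq v hv
    rw [map_mul]
    exact mul_self_mem_Lsub h2 _
  have hVnn : ¬ V.Normal := by
    intro hn
    have hne : V ≠ ⊥ := by
      intro h
      have := hVk.card_four
      rw [h, Subgroup.card_bot] at this
      omega
    have := eq_Lsub_of_normal (by omega) V hn hne hVL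
    have h4 := hVk.card_four
    rw [this] at h4
    omega
  have hNV := coatom_normalizer' M hM V hVnn hMV
  have hcardM : Nat.card M = 24 := by rw [Nat.card_congr e.toEquiv, card_S4]
  have hinf := (card_eq_two_mul_inf_of_sup h2 M (coatom_sup_Lsub M hM hML)).1
  rw [hcardM] at hinf
  have hq8 : q % 8 = 3 ∨ q % 8 = 5 := by
    by_contra hcon
    have h17 : q % 8 = 1 ∨ q % 8 = 7 := by omega
    have := (card_inf_normalizer_klein hodd V hVk hVL).2 h17
    rw [hNV, inf_comm] at this
    omega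
  refine ⟨?_, hq8⟩
  by_contra hnp
  obtain ⟨⟨n, hn0⟩, -, hqn⟩ := FiniteField.card F p
  have hqn' : q = p ^ n := hqn
  have hp8 : p % 8 = 3 ∨ p % 8 = 5 := by
    by_contra hcon
    have hpodd : p % 2 = 1 := by
      rcases hpp.eq_two_or_odd with h | h
      · exfalso
        rw [hqn', h] at hqodd
        have : 2 ^ n % 2 = 0 := by
          obtain ⟨m, rfl⟩ : ∃ m, n = m + 1 := ⟨n - 1, by omega⟩
          rw [pow_succ]; omega
        omega
      · exact h
    have h17 : p % 8 = 1 ∨ p % 8 = 7 := by omega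
    have := pow_mod_eight p n h17
    rw [← hqn'] at this
    omega
  have hpq : p < q := by
    rcases Nat.lt_or_ge p q with h | h
    · exact h
    · exfalso
      apply hnp
      have hn1 : 1 ≤ n := hn0
      have : p ^ 1 ≤ p ^ n := Nat.pow_le_pow_right hpp.pos hn1
      rw [pow_one, ← hqn'] at this
      have : q = p := by omega
      rw [this]
      exact hpp
  -- the prime subfield
  set K₀ := primeSub (F := F) p with hK₀
  haveI : Fintype ↥K₀ := Fintype.ofFinite _
  have hK₀card : Fintype.card ↥K₀ = p := by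
    rw [← Nat.card_eq_fintype_card]; exact card_primeSub p
  have hodd' : Odd (Fintype.card ↥K₀) := by
    rw [hK₀card, Nat.odd_iff]; omega
  have hq8' : Fintype.card ↥K₀ % 8 = 3 ∨ Fintype.card ↥K₀ % 8 = 5 := by rw [hK₀card]; exact hp8
  obtain ⟨V₀', hV₀'⟩ := SL2S4.exists_klein (F := ↥K₀) hodd'
  set f' := ProjectiveSpecialLinearGroup.toPGL (n := Fin 2) (R := ↥K₀) with hf'
  have hinj' : Function.Injective f' := ProjectiveSpecialLinearGroup.toPGL_injective
  set V' := V₀'.map f' with hV'
  have hV'k : IsKleinFour V' := by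
    haveI := hV₀'
    exact isKleinFour_of_equiv (V₀'.equivMapOfInjective f' hinj')
  have hV'L : V' ≤ Lsub := Subgroup.map_le_range _ _
  have h24 := klein_normalizer_pgl hodd' hq8' V' hV'k hV'L
  set ψ := ProjGenLinGroup.map (n := Fin 2) K₀.subtype with hψ
  have hψinj : Function.Injective ψ := pgl_map_injective K₀.subtype
  set V'' := V'.map ψ with hV''
  set S'' := (Subgroup.normalizer (V' : Set (PGL(Fin 2, ↥K₀)))).map ψ with hS''
  have hV''k : IsKleinFour V'' := by
    haveI := hV'k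
    exact isKleinFour_of_equiv (V'.equivMapOfInjective ψ hψinj)
  have hV''L : V'' ≤ Lsub := (Subgroup.map_mono hV'L).trans (map_Lsub_le K₀)
  have hS''card : Nat.card S'' = 24 := by
    rw [hS'', Subgroup.card_map_of_injective hψinj, h24]
  have hS''N : S'' ≤ Subgroup.normalizer (V'' : Set (PGL(Fin 2, F))) :=
    Subgroup.le_normalizer_map ψ
  have hS''R : S'' ≤ RK K₀ := Subgroup.map_le_range _ _
  obtain ⟨g, -, hg⟩ := klein_conj hodd hq8 V V'' hVk hVL hV''k hV''L
  have hNV'' : Subgroup.normalizer (V'' : Set (PGL(Fin 2, F))) =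
      M.map (MulAut.conj g : PGL(Fin 2, F) ≃* PGL(Fin 2, F)).toMonoidHom := by
    rw [hg, ← Subgroup.map_equiv_normalizer_eq, hNV]
  have hMg : M.map (MulAut.conj g : PGL(Fin 2, F) ≃* PGL(Fin 2, F)).toMonoidHom = S'' := by
    symm
    apply Subgroup.eq_of_le_of_card_ge
    · rw [← hNV'']; exact hS''N
    · rw [Subgroup.card_map_of_injective (MulAut.conj g).injective, hcardM, hS''card]
  have hRK := card_RK K₀
  rw [card_primeSub p] at hRK
  have hRtop : RK K₀ ≠ ⊤ := by
    intro h
    rw [h, Subgroup.card_top, card_pgl_two, ← hq] at hRK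
    have := card_f_inj (s := q) (t := p) (by omega) hpp.pos hRK
    omega
  have := coatom_conj_card M hM g (RK K₀) hRtop (by rw [hMg]; exact hS''R)
  rw [hcardM, hRK] at this
  -- `p (p - 1) (p + 1) = 24` forces `p = 3`
  have hp5 : 5 ≤ p := by
    have := hpp.two_le
    rcases hp8 with h | h
    · by_contra hc
      have : p = 3 := by omega
      exact hp3 this
    · omega
  have : 5 * 4 * 6 ≤ p * (p - 1) * (p + 1) :=
    Nat.mul_le_mul (Nat.mul_le_mul hp5 (by omega)) (by omega)
  omega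

end S4

end Cfsg.Agent.Lib.Helper9.PO
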