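import Mathlib
import Cfsg.Agent.Lib.Helper9.POG3

set_option autoImplicit false
set_option linter.unusedSectionVars false

/-!
# Maximal subgroups of `PGL₂(q)`: the parabolic and the subfield cases
-/

namespace Cfsg.Agent.Lib.Helper9.PO

open Matrix OnePoint MulAction Cfsg.Agent.Lib.Helper2 Cfsg.Agent.Lib.Helper2.DSub
  Cfsg.Agent.Lib.Helper9.H9PM
open scoped MatrixGroups

variable {F : Type*} [Field F] [Fintype F] [DecidableEq F]

attribute [local instance] pglAct

/-- point stabilisers in `PGL₂(F)` -/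
theorem card_stabilizer_pgl (z : OnePoint F) :
    Nat.card (stabilizer (PGL(Fin 2, F)) z) = Fintype.card F * (Fintype.card F - 1) := by
  haveI := finite_pgl (F := F)
  haveI : Finite (OnePoint F) := inferInstanceAs (Finite (Option F))
  have hcard : Nat.card (OnePoint F) = Fintype.card F + 1 := by
    show Nat.card (Option F) = _
    rw [Finite.card_option, Nat.card_eq_fintype_card]
  have horb : orbit (PGL(Fin 2, F)) z = Set.univ := by
    rw [Set.eq_univ_iff_forall]
    intro y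
    obtain ⟨δy, hδy⟩ := exists_smul_infty_eq y
    obtain ⟨δz, hδz⟩ := exists_smul_infty_eq z
    refine ⟨δy * δz⁻¹, ?_⟩
    show (δy * δz⁻¹) • z = y
    rw [mul_smul, ← hδz, inv_smul_smul, hδy]
  have h1 := card_orbit_mul_card_stabilizer (G := PGL(Fin 2, F)) z
  rw [horb, Nat.card_coe_set_eq, Set.ncard_univ, hcard, card_pgl_two] at h1
  have hpos : 0 < Fintype.card F + 1 := by omega
  have h3 : (Fintype.card F + 1) * Nat.card (stabilizer (PGL(Fin 2, F)) z) =
      (Fintype.card F + 1) * (Fintype.card F * (Fintype.card F - 1)) := by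
    rw [h1]; ring
  exact Nat.eq_of_mul_eq_mul_left hpos h3

/-- a maximal subgroup of `PGL₂(F)` normalising a nontrivial `p`-subgroup is a point
stabiliser -/
theorem coatom_of_normal_p (p : ℕ) [Fact p.Prime] [CharP F p] (M : Subgroup (PGL(Fin 2, F)))
    (hM : IsCoatom M) (V : Subgroup (PGL(Fin 2, F))) (hVp : IsPGroup p V) (hV1 : V ≠ ⊥)
    (hMV : M ≤ Subgroup.normalizer (V : Set (PGL(Fin 2, F)))) :
    Nat.card M = Fintype.card F * (Fintype.card F - 1) := by
  haveI := finite_pgl (F := F)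
  obtain ⟨z, hz⟩ := exists_fixed_of_p_group p V hVp
  obtain ⟨v, hv, hv1⟩ : ∃ v : PGL(Fin 2, F), v ∈ V ∧ v ≠ 1 := by
    obtain ⟨u, hu⟩ := Subgroup.ne_bot_iff_exists_ne_one.mp hV1
    exact ⟨u.1, u.2, fun h' => hu (Subtype.ext h')⟩
  obtain ⟨δ, hδ⟩ := exists_smul_infty_eq z
  set v' := δ⁻¹ * v * δ with hv'
  have hv'fix : v' • (∞ : OnePoint F) = ∞ := by
    rw [hv', mul_smul, mul_smul, hδ, hz v hv, ← hδ, inv_smul_smul]
  have hv'1 : v' ≠ 1 := by
    intro h
    apply hv1
    have : v = δ * v' * δ⁻¹ := by rw [hv']; group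
    rw [this, h]; group
  obtain ⟨k, hk⟩ := hVp ⟨v, hv⟩
  have hvk : v ^ (p ^ k) = 1 := congrArg Subtype.val hk
  have hv'k : v' ^ (p ^ k) = 1 := by
    have : v' ^ (p ^ k) = δ⁻¹ * v ^ (p ^ k) * δ := by
      rw [hv']
      have := conj_pow (a := δ⁻¹) (b := v) (i := p ^ k)
      rw [inv_inv] at this
      exact this
    rw [this, hvk]; group
  have hA : affA v' = 1 := by
    have h1 := (affA_pow v' hv'fix (p ^ k)).1
    rw [hv'k, affA_one] at h1
    exact eq_one_of_pow_p_pow p _ k h1.symm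
  have hpar' : IsPar v' (∞ : OnePoint F) := (isPar_infty_iff v').mpr ⟨hv'1, hv'fix, hA⟩
  have hpar : IsPar v z := by
    have := hpar'.conj δ
    rw [hδ] at this
    have e : δ * v' * δ⁻¹ = v := by rw [hv']; group
    rw [e] at this
    exact this
  have hfix : ∀ m ∈ M, m • z = z := by
    intro m hm
    have h1 := hMV (M.inv_mem hm)
    rw [Subgroup.mem_normalizer_iff] at h1
    have h2 := (h1 v).mp hv
    rw [inv_inv] at h2
    have h3 := hz _ h2
    rw [mul_smul, mul_smul, inv_smul_eq_iff] at h3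
    exact hpar.2.2 _ h3
  have hle : M ≤ stabilizer (PGL(Fin 2, F)) z := fun m hm => mem_stabilizer_iff.mpr (hfix m hm)
  have hB := card_stabilizer_pgl z
  rcases hM.le_iff.mp hle with h | h
  · exfalso
    rw [h, Subgroup.card_top, card_pgl_two] at hB
    have hq : 2 ≤ Fintype.card F := Fintype.one_lt_card
    have hpos : 0 < Fintype.card F * (Fintype.card F - 1) := Nat.mul_pos (by omega) (by omega)
    have : Fintype.card F * (Fintype.card F - 1) * (Fintype.card F + 1) =
        Fintype.card F * (Fintype.card F - 1) * 1 := by rw [hB, mul_one]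
    have := Nat.eq_of_mul_eq_mul_left hpos this
    omega
  · rw [← h]; exact hB

/-- a maximal subgroup of `PGL₂(F)` of subfield type, not containing the image of `PSL₂(F)` -/
theorem subfield_case_pgl (p : ℕ) [Fact p.Prime] [CharP F p] (hodd : Odd (Fintype.card F))
    (h3 : 3 < Fintype.card F) (M : Subgroup (PGL(Fin 2, F))) (hM : IsCoatom M)
    (hML : ¬ Lsub ≤ M) (P : Subgroup (PGL(Fin 2, F))) (q₀ k j : ℕ) (hdata : SFD M P q₀ k)
    (hq : q₀ = p ^ j) (hj : 1 ≤ j) (hk : k = q₀ - 1 ∨ 2 * k = q₀ - 1) (hq3 : 3 ≤ q₀) :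
    ∃ (F₀ : Type) (_ : Field F₀) (_ : Fintype F₀) (r : ℕ), r.Prime ∧ Odd r ∧
      Fintype.card F = Fintype.card F₀ ^ r ∧ Nonempty (M ≃* Matrix.ProjGenLinGroup (Fin 2) F₀) := by
  classical
  have hpp : p.Prime := Fact.out
  have h2 : (2 : F) ≠ 0 := Cfsg.Agent.Lib.Helper1.two_ne_zero_of_odd_card hodd
  haveI := finite_pgl (F := F)
  obtain ⟨δ₁, δ₂, K₀, hK₀, hle⟩ := exists_subfield_p p hdata hq hj hk hq3
  set ψ₁ : PGL(Fin 2, F) ≃* PGL(Fin 2, F) := MulAut.conj δ₁⁻¹ with hψ₁
  set ψ₂ : PGL(Fin 2, F) ≃* PGL(Fin 2, F) := MulAut.conj δ₂⁻¹ with hψ₂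
  set S₂ := (M.map ψ₁.toMonoidHom).map ψ₂.toMonoidHom with hS₂
  have hle' : S₂ ≤ RK K₀ := hle
  have hS₂co : IsCoatom S₂ := isCoatom_map_equiv ψ₂ _ (isCoatom_map_equiv ψ₁ M hM)
  have hS₂L : ¬ Lsub ≤ S₂ := by
    intro h
    apply hML
    have h1 : ((Lsub (F := F)).map ψ₁.toMonoidHom).map ψ₂.toMonoidHom ≤ S₂ := by
      rw [map_conj_Lsub h2, map_conj_Lsub h2]; exact h
    exact (Subgroup.map_le_map_iff_of_injective ψ₁.injective).mp
      ((Subgroup.map_le_map_iff_of_injective ψ₂.injective).mp h1)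
  have hS₂card : Nat.card S₂ = q₀ * k * (q₀ + 1) := ((hdata.map ψ₁).map ψ₂).cardS
  haveI : Finite ↥K₀ := Finite.of_injective _ Subtype.val_injective
  haveI : Fintype ↥K₀ := Fintype.ofFinite _
  have hK₀' : Fintype.card ↥K₀ = q₀ := by rw [← Nat.card_eq_fintype_card]; exact hK₀
  set m := Module.finrank ↥K₀ F with hm
  have hqm : Fintype.card F = q₀ ^ m := by
    rw [Module.card_eq_pow_finrank (K := ↥K₀) (V := F), hK₀']
  have hRK := card_RK K₀
  rw [hK₀] at hRK
  have hposq : 0 < q₀ * (q₀ + 1) := Nat.mul_pos (by omega) (by omega)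
  have hkpos : 0 < k := by rcases hk with h | h <;> omega
  have hL2 := two_mul_card_Lsub (F := F) h2
  -- the subgroup is the full subfield subgroup
  have hS₂eq : S₂ = RK K₀ := by
    rcases hS₂co.le_iff.mp hle' with h | h
    · exfalso
      rw [h, Subgroup.card_top, card_pgl_two] at hRK
      have hqq : Fintype.card F = q₀ :=
        card_f_inj (by omega) (by omega) hRK
      -- then the index is two
      have hk2 : 2 * k = q₀ - 1 := by
        rcases hk with hk1 | hk1
        · exfalso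
          apply hS₂co.1
          apply Subgroup.eq_top_of_card_eq
          rw [hS₂card, card_pgl_two, hqq, hk1]
        · exact hk1
      have hidx : S₂.index = 2 := by
        have h5 := S₂.card_mul_index
        rw [hS₂card, card_pgl_two, hqq] at h5
        have h6 : q₀ * k * (q₀ + 1) * S₂.index = q₀ * k * (q₀ + 1) * 2 := by
          rw [h5, ← hk2]; ring
        exact Nat.eq_of_mul_eq_mul_left (Nat.mul_pos (Nat.mul_pos (by omega) hkpos) (by omega)) h6
      haveI hn : S₂.Normal := Subgroup.normal_of_index_eq_two hidx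
      haveI := normal_Lsub (F := F) h2
      have hnn : (S₂ ⊓ Lsub : Subgroup (PGL(Fin 2, F))).Normal := inferInstance
      have hne : (S₂ ⊓ Lsub : Subgroup (PGL(Fin 2, F))) ≠ ⊥ := by
        intro hb
        have h7 := card_le_two_mul_inf h2 S₂
        rw [hb, Subgroup.card_bot, hS₂card] at h7
        have : 3 * 1 * 4 ≤ q₀ * k * (q₀ + 1) :=
          Nat.mul_le_mul (Nat.mul_le_mul hq3 hkpos) (by omega)
        omega
      have := eq_Lsub_of_normal (by omega) _ hnn hne inf_le_right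
      apply hS₂L
      rw [← this]
      exact inf_le_left
    · exact h.symm
  have hk1 : k = q₀ - 1 := by
    have h5 : q₀ * k * (q₀ + 1) = q₀ * (q₀ - 1) * (q₀ + 1) := by
      rw [← hS₂card, ← hRK, hS₂eq]
    have h6 : q₀ * (q₀ + 1) * k = q₀ * (q₀ + 1) * (q₀ - 1) := by
      rw [mul_right_comm, h5]; ring
    exact Nat.eq_of_mul_eq_mul_left hposq h6
  have hF1 : 1 < Fintype.card F := Fintype.one_lt_card
  have hm0 : m ≠ 0 := by
    intro h0
    rw [h0, pow_zero] at hqm
    omega
  have hm1 : m ≠ 1 := by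
    intro h1
    rw [h1, pow_one] at hqm
    apply hS₂co.1
    apply Subgroup.eq_top_of_card_eq
    rw [hS₂eq, hRK, card_pgl_two, hqm]
  have hmprime : m.Prime := by
    by_contra hnp
    obtain ⟨a, hdvd, ha2, ham⟩ := Nat.exists_dvd_of_not_prime2 (by omega) hnp
    obtain ⟨K₁, hK01, hlt1, hlt2⟩ :=
      exists_intermediate_p p K₀ q₀ j a m hq hj hK₀ hqm ha2 ham hdvd
    have hle1 : S₂ ≤ RK K₁ := by rw [hS₂eq]; exact RK_mono hK01
    have hRK1 := card_RK K₁
    have hK1pos := card_sub_pos K₁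
    rcases hS₂co.le_iff.mp hle1 with h | h
    · rw [h, Subgroup.card_top, card_pgl_two] at hRK1
      have := card_f_inj (by omega) (by omega) hRK1
      omega
    · rw [h, hS₂eq, hRK] at hRK1
      have := card_f_inj (by omega) (by omega) hRK1
      rw [hK₀] at hlt1
      omega
  have hmodd : Odd m := by
    rcases hmprime.eq_two_or_odd with h | h
    · exfalso
      have hsq := PGLsub.exists_sqrt K₀.subtype hodd 2 even_two (by rw [hK₀', hqm, h])
      have hRL := RK_le_Lsub K₀ hsq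
      have hle2 : S₂ ≤ Lsub := by rw [hS₂eq]; exact hRL
      rcases hS₂co.le_iff.mp hle2 with h5 | h5
      · have h6 := index_Lsub (F := F) h2
        rw [h5, Subgroup.index_top] at h6
        omega
      · exact hS₂L (le_of_eq h5)
    · exact Nat.odd_iff.mpr h
  -- the isomorphism type
  haveI : CharP ↥K₀ p := (RingHom.charP_iff K₀.subtype K₀.subtype.injective p).mpr inferInstance
  set φ := ProjGenLinGroup.map (n := Fin 2) K₀.subtype with hφ
  have hφinj : Function.Injective φ := pgl_map_injective K₀.subtype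
  obtain ⟨F₀, hF₀f, hF₀fin, hF₀card, ⟨eF⟩⟩ := exists_small_field p (K₀ := ↥K₀)
  rw [hK₀] at hF₀card
  have eM : M ≃* PGL(Fin 2, ↥K₀) := by
    have e1 : M ≃* M.map ψ₁.toMonoidHom := M.equivMapOfInjective _ ψ₁.injective
    have e2 : (M.map ψ₁.toMonoidHom) ≃* S₂ := (M.map ψ₁.toMonoidHom).equivMapOfInjective _
      ψ₂.injective
    have e3 : S₂ ≃* φ.range := MulEquiv.subgroupCongr hS₂eq
    have e4 : PGL(Fin 2, ↥K₀) ≃* φ.range := MonoidHom.ofInjective hφinj
    exact ((e1.trans e2).trans e3).trans e4.symm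
  obtain ⟨e'⟩ := pglEquiv (n := Fin 2) eF
  refine ⟨F₀, hF₀f, hF₀fin, m, hmprime, hmodd, ?_, ⟨eM.trans e'⟩⟩
  rw [hF₀card, hqm]

end Cfsg.Agent.Lib.Helper9.PO
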