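import Mathlib
import Cfsg.Agent.Lib.Helper9.POG2
import Cfsg.Agent.Lib.Helper9.POG4

set_option autoImplicit false
set_option linter.unusedSectionVars false

/-!
# Maximal subgroups of `PGL₂(q)`: the cyclic and dihedral cases
-/

namespace Cfsg.Agent.Lib.Helper9.PO

open Matrix OnePoint MulAction Cfsg.Agent.Lib.Helper2 Cfsg.Agent.Lib.Helper2.DSub
  Cfsg.Agent.Lib.Helper9.H9PM
open scoped MatrixGroups

theorem dihedral_not_comm (n : ℕ) (hn : 3 ≤ n) :
    ∃ a b : DihedralGroup n, a * b ≠ b * a := by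
  refine ⟨DihedralGroup.r 1, DihedralGroup.sr 0, ?_⟩
  rw [DihedralGroup.r_mul_sr, DihedralGroup.sr_mul_r]
  intro h
  have h1 : (0 : ZMod n) - 1 = 0 + 1 := DihedralGroup.sr.inj h
  have h2 : ((2 : ℕ) : ZMod n) = 0 := by
    have : (2 : ZMod n) = 0 := by linear_combination -h1
    exact_mod_cast this
  rw [ZMod.natCast_eq_zero_iff] at h2
  have := Nat.le_of_dvd (by norm_num) h2
  omega

variable {F : Type*} [Field F] [Fintype F]

/-- `PGL₂(q)`, `q` odd, is not a `2`-group -/
theorem not_two_group_pgl (hodd : Odd (Fintype.card F)) : ¬ IsPGroup 2 (PGL(Fin 2, F)) := by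
  classical
  haveI := finite_pgl (F := F)
  intro h
  obtain ⟨n, hn⟩ := IsPGroup.iff_card.mp h
  have h3 := card_pgl_two (K := F)
  rw [hn] at h3
  have hd : Fintype.card F ∣ 2 ^ n := by
    rw [h3, mul_assoc]
    exact dvd_mul_right _ _
  have hcop : Nat.Coprime (Fintype.card F) (2 ^ n) := by
    apply Nat.Coprime.pow_right
    rw [Nat.coprime_comm, Nat.Prime.coprime_iff_not_dvd Nat.prime_two]
    rintro ⟨w, hw⟩
    rw [Nat.odd_iff] at hodd
    omega
  have h1 := Nat.Coprime.eq_one_of_dvd hcop hd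
  have : 1 < Fintype.card F := Fintype.one_lt_card
  omega

/-- the case of an odd prime divisor -/
theorem cyc_dih_core_odd (h2 : (2 : F) ≠ 0) (h4 : 4 ≤ Fintype.card F)
    (M : Subgroup (PGL(Fin 2, F))) (hM : IsCoatom M) (n m : ℕ) (hnm : n ∣ m)
    (h : (IsCyclic M ∧ Nat.card M = n) ∨ Nonempty (M ≃* DihedralGroup n))
    (T H : Subgroup (PGL(Fin 2, F))) (hTH : T ≤ H) (hTab : ∀ a ∈ T, ∀ b ∈ T, a * b = b * a)
    (hT : Nat.card T = m) (hH : Nat.card H = 2 * m) (hHtop : H ≠ ⊤)
    (r₀ : ℕ) (hr : r₀.Prime) (hr2 : r₀ ≠ 2) (hrn : r₀ ∣ n) (hTr : ¬ r₀ ∣ T.index) :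
    n = m ∧ Nonempty (M ≃* DihedralGroup n) := by
  classical
  haveI := finite_pgl (F := F)
  haveI : Fact r₀.Prime := ⟨hr⟩
  have hmpos : 0 < m := by rw [← hT]; exact Nat.card_pos
  have hnpos : 0 < n := Nat.pos_of_dvd_of_pos hnm hmpos
  have hr3 : 3 ≤ r₀ := by
    have := hr.two_le
    omega
  have hn3 : 3 ≤ n := le_trans hr3 (Nat.le_of_dvd hnpos hrn)
  -- an element of order `r₀` generating a subgroup normalised by `M`
  obtain ⟨c, hcM, hcord, hnorm⟩ : ∃ c : PGL(Fin 2, F), c ∈ M ∧ orderOf c = r₀ ∧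
      M ≤ Subgroup.normalizer ((Subgroup.zpowers c : Subgroup (PGL(Fin 2, F))) :
        Set (PGL(Fin 2, F))) := by
    rcases h with ⟨hcyc, hcard⟩ | ⟨⟨e⟩⟩
    · haveI := hcyc
      obtain ⟨c', hc'⟩ := exists_prime_orderOf_dvd_card' (G := M) r₀ (by rw [hcard]; exact hrn)
      refine ⟨(c' : PGL(Fin 2, F)), c'.2, by rw [Subgroup.orderOf_coe, hc'], ?_⟩
      intro g hg
      apply mem_normalizer_zpowers_of_comm
      letI := IsCyclic.commGroup (α := M)
      exact congrArg Subtype.val (mul_comm (⟨g, hg⟩ : M) c')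
    · exact dihedral_exists_normal_cyclic M n e r₀ hrn
  have hNM := coatom_normalizer' M hM _ (not_normal_zpowers h2 h4 c r₀ hr hr2 hcord) hnorm
  have hcent : ∀ g : PGL(Fin 2, F), g * c = c * g → g ∈ M := by
    intro g hg
    rw [← hNM]
    exact mem_normalizer_zpowers_of_comm c g hg
  obtain ⟨g, hg⟩ := exists_conj_le_of_centralizer M r₀ c hcord hcent T hTab hTr
  set Tg := T.map (MulAut.conj g : PGL(Fin 2, F) ≃* PGL(Fin 2, F)).toMonoidHom with hTg
  have hTgcard : Nat.card Tg = m := by
    rw [hTg, Subgroup.card_map_of_injective (MulAut.conj g).injective, hT]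
  have hdvd : m ∣ Nat.card M := by
    rw [← hTgcard]
    exact Subgroup.card_dvd_of_le hg
  set Hg := H.map (MulAut.conj g : PGL(Fin 2, F) ≃* PGL(Fin 2, F)).toMonoidHom with hHg
  have hHgcard : Nat.card Hg = 2 * m := by
    rw [hHg, Subgroup.card_map_of_injective (MulAut.conj g).injective, hH]
  have hHgtop : Hg ≠ ⊤ := by
    intro htop
    apply hHtop
    have h1 : Nat.card H = Nat.card (PGL(Fin 2, F)) := by
      rw [hH, ← hHgcard, htop, Subgroup.card_top]
    exact (Subgroup.card_eq_iff_eq_top H).mp h1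
  rcases h with ⟨hcyc, hcard⟩ | ⟨⟨e⟩⟩
  · exfalso
    rw [hcard] at hdvd
    have hnm' : n = m := Nat.dvd_antisymm hnm hdvd
    have hTgM : Tg = M := Subgroup.eq_of_le_of_card_ge hg (by rw [hTgcard, hcard, hnm'])
    have hMHg : M ≤ Hg := by
      rw [← hTgM]
      exact Subgroup.map_mono hTH
    rcases hM.le_iff.mp hMHg with h5 | h5
    · exact hHgtop h5
    · rw [h5, hcard] at hHgcard
      omega
  · have hcardM : Nat.card M = 2 * n := by
      rw [Nat.card_congr e.toEquiv, DihedralGroup.nat_card]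
    rw [hcardM] at hdvd
    obtain ⟨a, ha⟩ := hnm
    obtain ⟨b, hb⟩ := hdvd
    have hab : a * b = 2 := by
      have : n * (a * b) = n * 2 := by
        rw [← mul_assoc, ← ha, ← hb]; ring
      exact Nat.eq_of_mul_eq_mul_left hnpos this
    have ha12 : a = 1 ∨ a = 2 := by
      have hd : a ∣ 2 := ⟨b, hab.symm⟩
      have := Nat.le_of_dvd (by norm_num) hd
      have ha0 : a ≠ 0 := by
        rintro rfl
        omega
      omega
    rcases ha12 with rfl | rfl
    · rw [mul_one] at ha
      exact ⟨ha.symm, ⟨e⟩⟩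
    · exfalso
      have hTgM : Tg = M :=
        Subgroup.eq_of_le_of_card_ge hg (by rw [hTgcard, hcardM, ha]; exact (mul_comm _ _).le)
      obtain ⟨x, y, hxy⟩ := dihedral_not_comm n hn3
      apply hxy
      have hab' : ∀ u v : M, u * v = v * u := by
        rintro ⟨u, hu⟩ ⟨v, hv⟩
        rw [← hTgM] at hu hv
        obtain ⟨u', hu', rfl⟩ := hu
        obtain ⟨v', hv', rfl⟩ := hv
        apply Subtype.ext
        show (MulAut.conj g : PGL(Fin 2, F) ≃* PGL(Fin 2, F)).toMonoidHom u' *
          (MulAut.conj g : PGL(Fin 2, F) ≃* PGL(Fin 2, F)).toMonoidHom v' = _ * _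
        rw [← map_mul, ← map_mul, hTab u' hu' v' hv']
      have := hab' (e.symm x) (e.symm y)
      have h6 := congrArg e this
      rw [map_mul, map_mul, MulEquiv.apply_symm_apply, MulEquiv.apply_symm_apply] at h6
      exact h6

/-- the cyclic and dihedral cases for `PGL₂(q)` -/
theorem cyc_dih_case (hodd : Odd (Fintype.card F)) (h3 : 3 < Fintype.card F)
    (M : Subgroup (PGL(Fin 2, F))) (hM : IsCoatom M) (n : ℕ)
    (hn : n ∣ Fintype.card F + 1 ∨ n ∣ Fintype.card F - 1)
    (h : (IsCyclic M ∧ Nat.card M = n) ∨ Nonempty (M ≃* DihedralGroup n)) :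
    (Fintype.card F ≠ 5 ∧ Nonempty (M ≃* DihedralGroup (Fintype.card F - 1))) ∨
      Nonempty (M ≃* DihedralGroup (Fintype.card F + 1)) := by
  classical
  haveI := finite_pgl (F := F)
  have h2 : (2 : F) ≠ 0 := Cfsg.Agent.Lib.Helper1.two_ne_zero_of_odd_card hodd
  have hG := card_pgl_two (K := F)
  have hG2 := not_two_group_pgl hodd
  set q := Fintype.card F with hq
  have hqodd : q % 2 = 1 := Nat.odd_iff.mp hodd
  have hq5 : 5 ≤ q := by omega
  obtain ⟨Tp, Hp, hTHp, hTpab, hTpcard, hHpcard⟩ := exists_nonsplit (F := F) h2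
  obtain ⟨Tm, Hm, hTHm, hTmab, hTmcard, hHmcard⟩ := exists_split (F := F)
  rw [← hq] at hTpcard hHpcard hTmcard hHmcard
  have hqq : 20 ≤ q * (q - 1) := by
    have : 5 * 4 ≤ q * (q - 1) := Nat.mul_le_mul hq5 (by omega)
    omega
  have hHptop : Hp ≠ ⊤ := by
    intro htop
    rw [htop, Subgroup.card_top, hG] at hHpcard
    have : q * (q - 1) * (q + 1) = 2 * (q + 1) := hHpcard
    have h5 : 20 * (q + 1) ≤ q * (q - 1) * (q + 1) := Nat.mul_le_mul_right _ hqq
    omega
  have hHmtop : Hm ≠ ⊤ := by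
    intro htop
    rw [htop, Subgroup.card_top, hG] at hHmcard
    have h5 : q * (q - 1) * 1 ≤ q * (q - 1) * (q + 1) := Nat.mul_le_mul_left _ (by omega)
    have h6 : q * (q - 1) = (q - 1) * q := mul_comm _ _
    have h7 : (q - 1) * 5 ≤ (q - 1) * q := Nat.mul_le_mul_left _ hq5
    omega
  have hTpidx : Tp.index = q * (q - 1) := by
    have h1 := Tp.card_mul_index
    rw [hTpcard, hG] at h1
    have : (q + 1) * Tp.index = (q + 1) * (q * (q - 1)) := by rw [h1]; ring
    exact Nat.eq_of_mul_eq_mul_left (by omega) this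
  have hTmidx : Tm.index = q * (q + 1) := by
    have h1 := Tm.card_mul_index
    rw [hTmcard, hG] at h1
    have : (q - 1) * Tm.index = (q - 1) * (q * (q + 1)) := by rw [h1]; ring
    exact Nat.eq_of_mul_eq_mul_left (by omega) this
  have hnle : n ≤ q + 1 := by
    rcases hn with hn | hn
    · exact Nat.le_of_dvd (by omega) hn
    · have := Nat.le_of_dvd (by omega) hn
      omega
  rcases Nat.eq_two_pow_or_exists_odd_prime_and_dvd n with ⟨a, ha⟩ | ⟨r₀, hr, hrn, hrodd⟩
  · -- `M` is a `2`-group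
    haveI : Fact (Nat.Prime 2) := ⟨Nat.prime_two⟩
    have hMp : IsPGroup 2 M := by
      rcases h with ⟨-, hcard⟩ | ⟨⟨e⟩⟩
      · exact IsPGroup.of_card (n := a) (by rw [hcard, ha])
      · exact IsPGroup.of_card (n := a + 1) (by
          rw [Nat.card_congr e.toEquiv, DihedralGroup.nat_card, ha, pow_succ, mul_comm])
    by_cases hq5' : q = 5
    · exfalso
      obtain ⟨V₀, hV₀⟩ := SL2S4.exists_klein (F := F) hodd
      set V := V₀.map (ProjectiveSpecialLinearGroup.toPGL (n := Fin 2) (R := F)) with hV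
      have hVk : IsKleinFour V := by
        haveI := hV₀
        exact isKleinFour_of_equiv (V₀.equivMapOfInjective _
          (ProjectiveSpecialLinearGroup.toPGL_injective (n := Fin 2) (R := F)))
      have hVL : V ≤ Lsub := by
        rintro _ ⟨x, -, rfl⟩
        exact ⟨x, rfl⟩
      have h24 := klein_normalizer_pgl hodd (by rw [← hq, hq5']; right; rfl) V hVk hVL
      set N := Subgroup.normalizer (V : Set (PGL(Fin 2, F))) with hN
      have hmul := N.card_mul_index
      rw [h24, hG, hq5'] at hmul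
      have hNtop : N ≠ ⊤ := by
        intro htop
        rw [htop, Subgroup.index_top] at hmul
        omega
      have hidx : ¬ 2 ∣ N.index := by
        rintro ⟨w, hw⟩
        omega
      have hcard := pgroup_coatom_card_of_index 2 M hM hMp hG2 N hNtop hidx
      rw [h24] at hcard
      obtain ⟨b, hb⟩ := IsPGroup.iff_card.mp hMp
      rw [hcard] at hb
      have h3' : 3 ∣ 2 ^ b := by rw [← hb]; norm_num
      have := (Nat.Prime.dvd_of_dvd_pow (by norm_num : Nat.Prime 3) h3')
      omega
    have hq4 : q % 4 = 3 ∨ q % 4 = 1 := by omega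
    rcases hq4 with hq4 | hq4
    · right
      have hidx : ¬ 2 ∣ Hp.index := by
        rintro ⟨w, hw⟩
        have h1 := Hp.card_mul_index
        rw [hHpcard, hG, hw] at h1
        obtain ⟨t, ht⟩ : ∃ t, q = 4 * t + 3 := ⟨q / 4, by omega⟩
        have h5 : (q + 1) * (4 * w) = (q + 1) * (q * (q - 1)) := by
          calc (q + 1) * (4 * w) = 2 * (q + 1) * (2 * w) := by ring
            _ = q * (q - 1) * (q + 1) := h1
            _ = (q + 1) * (q * (q - 1)) := by ring
        have h6 := Nat.eq_of_mul_eq_mul_left (by omega : 0 < q + 1) h5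
        have h7 : q * (q - 1) = 4 * (4 * t * t + 5 * t + 1) + 2 := by
          rw [ht]
          have : 4 * t + 3 - 1 = 4 * t + 2 := by omega
          rw [this]; ring
        omega
      have hcard := pgroup_coatom_card_of_index 2 M hM hMp hG2 Hp hHptop hidx
      rw [hHpcard] at hcard
      rcases h with ⟨-, hcard'⟩ | ⟨⟨e⟩⟩
      · exfalso
        omega
      · have : n = q + 1 := by
          rw [Nat.card_congr e.toEquiv, DihedralGroup.nat_card] at hcard
          omega
        rw [← this]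
        exact ⟨e⟩
    · left
      have hidx : ¬ 2 ∣ Hm.index := by
        rintro ⟨w, hw⟩
        have h1 := Hm.card_mul_index
        rw [hHmcard, hG, hw] at h1
        obtain ⟨t, ht⟩ : ∃ t, q = 4 * t + 1 := ⟨q / 4, by omega⟩
        have h5 : (q - 1) * (4 * w) = (q - 1) * (q * (q + 1)) := by
          calc (q - 1) * (4 * w) = 2 * (q - 1) * (2 * w) := by ring
            _ = q * (q - 1) * (q + 1) := h1
            _ = (q - 1) * (q * (q + 1)) := by ring
        have h6 := Nat.eq_of_mul_eq_mul_left (by omega : 0 < q - 1) h5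
        have h7 : q * (q + 1) = 4 * (4 * t * t + 3 * t) + 2 := by
          rw [ht]; ring
        omega
      have hcard := pgroup_coatom_card_of_index 2 M hM hMp hG2 Hm hHmtop hidx
      rw [hHmcard] at hcard
      rcases h with ⟨-, hcard'⟩ | ⟨⟨e⟩⟩
      · exfalso
        omega
      · have : n = q - 1 := by
          rw [Nat.card_congr e.toEquiv, DihedralGroup.nat_card] at hcard
          omega
        rw [← this]
        exact ⟨hq5', ⟨e⟩⟩
  · -- an odd prime divisor
    have hr2 : r₀ ≠ 2 := by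
      rintro rfl
      exact absurd hrodd (by decide)
    have hr3 : 3 ≤ r₀ := by
      have := hr.two_le
      omega
    have hno2 : ¬ r₀ ∣ 2 := by
      intro hd
      have := Nat.le_of_dvd (by norm_num) hd
      omega
    have hno1 : ¬ r₀ ∣ 1 := by
      intro hd
      have := Nat.le_of_dvd (by norm_num) hd
      omega
    rcases hn with hn | hn
    · right
      have hrq : r₀ ∣ q + 1 := hrn.trans hn
      have hTr : ¬ r₀ ∣ Tp.index := by
        rw [hTpidx]
        intro hd
        rcases (Nat.Prime.dvd_mul hr).mp hd with h5 | h5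
        · have h6 := Nat.dvd_sub hrq h5
          rw [Nat.add_sub_cancel_left] at h6
          exact hno1 h6
        · have h6 := Nat.dvd_sub hrq h5
          have h7 : q + 1 - (q - 1) = 2 := by omega
          rw [h7] at h6
          exact hno2 h6
      obtain ⟨hnm, ⟨e⟩⟩ := cyc_dih_core_odd h2 (by omega) M hM n (q + 1) hn h Tp Hp hTHp hTpab
        hTpcard hHpcard hHptop r₀ hr hr2 hrn hTr
      rw [← hnm]
      exact ⟨e⟩
    · left
      have hrq : r₀ ∣ q - 1 := hrn.trans hn
      have hTr : ¬ r₀ ∣ Tm.index := by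
        rw [hTmidx]
        intro hd
        rcases (Nat.Prime.dvd_mul hr).mp hd with h5 | h5
        · have h6 := Nat.dvd_sub h5 hrq
          have h7 : q - (q - 1) = 1 := by omega
          rw [h7] at h6
          exact hno1 h6
        · have h6 := Nat.dvd_sub h5 hrq
          have h7 : q + 1 - (q - 1) = 2 := by omega
          rw [h7] at h6
          exact hno2 h6
      obtain ⟨hnm, ⟨e⟩⟩ := cyc_dih_core_odd h2 (by omega) M hM n (q - 1) hn h Tm Hm hTHm hTmab
        hTmcard hHmcard hHmtop r₀ hr hr2 hrn hTr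
      refine ⟨?_, ?_⟩
      · intro h5
        rw [h5] at hrq
        have h6 : r₀ ∣ 2 ^ 2 := by
          have : 5 - 1 = 2 ^ 2 := by norm_num
          rw [← this]; exact hrq
        exact hno2 (hr.dvd_of_dvd_pow h6)
      · rw [← hnm]
        exact ⟨e⟩

end Cfsg.Agent.Lib.Helper9.PO
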