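import Mathlib
import Cfsg.Agent.Lib.Helper9.POG5

set_option autoImplicit false
set_option linter.unusedSectionVars false
set_option linter.style.haveILetI false

/-!
# Maximal subgroups of `PGL₂(q)`, `q` odd: assembling the cases
-/

namespace Cfsg.Agent.Lib.Helper9.PO

open Matrix OnePoint MulAction Cfsg.Agent.Lib.Helper2 Cfsg.Agent.Lib.Helper2.DSub
  Cfsg.Agent.Lib.Helper9.H9PM
open scoped MatrixGroups

section abstract

variable {G : Type*} [Group G] {X : Type*}

/-- the subfield data from the orbit data of a parabolic point -/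
theorem sfd_of_mob (M : Subgroup G) [Finite M] [MulAction ↥M X] (MH : Mob ↥M X) (x : X) (k : ℕ)
    (hq : 3 ≤ Nat.card (Q MH x)) (hO : Nat.card (orbit ↥M x) = Nat.card (Q MH x) + 1)
    (hst : Nat.card (stabilizer ↥M x) = Nat.card (Q MH x) * k) :
    ∃ P : Subgroup G, P ≤ M ∧ Nat.card P = Nat.card (Q MH x) ∧
      Nat.card (M ⊓ Subgroup.normalizer (P : Set G) : Subgroup G) = Nat.card (Q MH x) * k ∧
      Nat.card M = Nat.card (Q MH x) * k * (Nat.card (Q MH x) + 1) := by
  have hNS : Subgroup.normalizer ((Q MH x : Subgroup ↥M) : Set ↥M) = stabilizer ↥M x := by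
    apply le_antisymm
    · intro n hn
      obtain ⟨g, hg1⟩ : ∃ g : Q MH x, g ≠ 1 := by
        haveI : Nontrivial (Q MH x) := by
          rw [← Finite.one_lt_card_iff_nontrivial]
          omega
        exact exists_ne 1
      have hgQ : (g : ↥M) ∈ Q MH x := g.2
      have hg1' : (g : ↥M) ≠ 1 := fun h => hg1 (Subtype.ext h)
      have hpar : IsPar (g : ↥M) x := by
        rcases (mem_Q MH x _).mp hgQ with h | h
        · exact absurd h hg1'
        · exact h
      have hconj : n * (g : ↥M) * n⁻¹ ∈ Q MH x :=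
        (Subgroup.mem_normalizer_iff.mp hn (g : ↥M)).mp hgQ
      have hpar' : IsPar (n * (g : ↥M) * n⁻¹) x := by
        rcases (mem_Q MH x _).mp hconj with h | h
        · exfalso
          apply hg1'
          have : (g : ↥M) = n⁻¹ * (n * (g : ↥M) * n⁻¹) * n := by group
          rw [this, h]; group
        · exact h
      have hpar'' := hpar.conj n
      exact mem_stabilizer_iff.mpr (hpar''.unique hpar')
    · exact stabilizer_le_normalizer_Q MH x
  obtain ⟨P, hPM, hPcard, hPN⟩ := transport_sfd M (MulEquiv.refl ↥M) (Q MH x)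
    (Nat.card (Q MH x)) (Nat.card (Q MH x) * k) rfl (by rw [hNS, hst])
  refine ⟨P, hPM, hPcard, hPN, ?_⟩
  have h1 := card_orbit_mul_card_stabilizer (G := ↥M) x
  rw [hO, hst] at h1
  rw [← h1]; ring

end abstract

section order

variable {F : Type*} [Field F] [Fintype F] {L : Type*} [Field L] [DecidableEq L] [Algebra F L]
  [IsAlgClosed L]

attribute [local instance] pglAct pslAct finite_psl

/-- orders of nonparabolic elements of `PGL₂(q)` -/
theorem orderOf_dvd_pgl (p : ℕ) [Fact p.Prime] [CharP L p] [CharP F p] (h2 : (2 : F) ≠ 0)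
    (g : PGL(Fin 2, F)) (y : OnePoint L)
    (hfix : (ProjGenLinGroup.map (n := Fin 2) (algebraMap F L) g) • y = y)
    (hnp : ¬ IsPar (ProjGenLinGroup.map (n := Fin 2) (algebraMap F L) (g * g)) y) :
    orderOf g ∣ Fintype.card F + 1 ∨ orderOf g ∣ Fintype.card F - 1 := by
  obtain ⟨h, hh⟩ := mul_self_mem_Lsub h2 g
  have hrho : (rho (F := F) (L := L) h : PGL(Fin 2, L)) =
      ProjGenLinGroup.map (n := Fin 2) (algebraMap F L) (g * g) := by
    rw [← hh]; rfl
  have hfix' : h • y = y := by
    rw [psl_smul, hrho, map_mul, mul_smul, hfix, hfix]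
  have hnp' : ¬ IsPar h y := by
    rw [isPar_map_iff rho rho_injective psl_smul, hrho]
    exact hnp
  have hd := orderOf_dvd_of_not_isPar (L := L) p h y hfix' hnp'
  rw [(gcd_two_of_odd h2).1] at hd
  have ho : orderOf (g * g) = orderOf h := by
    rw [← hh]
    exact orderOf_injective _ (ProjectiveSpecialLinearGroup.toPGL_injective (n := Fin 2) (R := F)) h
  have hg2 : orderOf g ∣ 2 * orderOf (g * g) := by
    apply orderOf_dvd_of_pow_eq_one
    rw [pow_mul, pow_two, pow_orderOf_eq_one]
  have hqodd := (gcd_two_of_odd h2).2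
  have hq1 : 1 < Fintype.card F := Fintype.one_lt_card
  rw [← ho] at hd
  rcases hd with hd | hd
  · left
    have e1 : 2 * ((Fintype.card F + 1) / 2) = Fintype.card F + 1 := by omega
    rw [← e1]
    exact hg2.trans (Nat.mul_dvd_mul_left 2 hd)
  · right
    have e1 : 2 * ((Fintype.card F - 1) / 2) = Fintype.card F - 1 := by omega
    rw [← e1]
    exact hg2.trans (Nat.mul_dvd_mul_left 2 hd)

end order

section main

variable {F : Type*} [Field F] [Fintype F] (L : Type*) [Field L] [DecidableEq L] [Algebra F L]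
  [IsAlgClosed L]

attribute [local instance] pglAct

theorem main_pgl_aux (p : ℕ) [Fact p.Prime] [CharP L p] [CharP F p]
    (hodd : Odd (Fintype.card F)) (h3 : 3 < Fintype.card F)
    (M : Subgroup (PGL(Fin 2, F))) (hM : IsCoatom M) (hML : ¬ Lsub ≤ M) :
    Nat.card M = Fintype.card F * (Fintype.card F - 1) ∨
    (Fintype.card F ≠ 5 ∧ Nonempty (M ≃* DihedralGroup (Fintype.card F - 1))) ∨
    Nonempty (M ≃* DihedralGroup (Fintype.card F + 1)) ∨
    ((Fintype.card F).Prime ∧ (Fintype.card F % 8 = 3 ∨ Fintype.card F % 8 = 5) ∧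
        Nonempty (M ≃* Equiv.Perm (Fin 4))) ∨
    (∃ (F₀ : Type) (_ : Field F₀) (_ : Fintype F₀) (r : ℕ), r.Prime ∧ Odd r ∧
        Fintype.card F = Fintype.card F₀ ^ r ∧
        Nonempty (M ≃* Matrix.ProjGenLinGroup (Fin 2) F₀)) := by
  classical
  have hpp : p.Prime := Fact.out
  haveI := finite_pgl (F := F)
  have h2 : (2 : F) ≠ 0 := Cfsg.Agent.Lib.Helper1.two_ne_zero_of_odd_card hodd
  set φ : ↥M →* PGL(Fin 2, L) :=
    (ProjGenLinGroup.map (n := Fin 2) (algebraMap F L)).comp M.subtype with hφ
  have hinj : Function.Injective φ :=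
    (pgl_map_injective (algebraMap F L)).comp M.subtype_injective
  letI : MulAction ↥M (OnePoint L) := MulAction.compHom (OnePoint L) φ
  have hact : ∀ (k : ↥M) (x : OnePoint L), k • x = φ k • x := fun _ _ => rfl
  have MH : Mob ↥M (OnePoint L) := mob_of_hom φ hinj hact
  have hp1 : ∀ (g : ↥M) (x : OnePoint L), IsPar g x → g ^ p = 1 := by
    intro g x hg
    rw [isPar_map_iff φ hinj hact] at hg
    apply hinj
    rw [map_pow, map_one]
    exact pow_char_of_isPar p x _ hg
  -- orders of generators of cyclic stabilisers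
  have hord : ∀ (y : OnePoint L) (c : ↥M), c • y = y → (∀ g : ↥M, ¬ IsPar g y) →
      orderOf c ∣ Fintype.card F + 1 ∨ orderOf c ∣ Fintype.card F - 1 := by
    intro y c hc hnp
    rw [← Subgroup.orderOf_coe]
    apply orderOf_dvd_pgl (L := L) p h2 (c : PGL(Fin 2, F)) y
    · exact hc
    · have := hnp (c * c)
      rw [isPar_map_iff φ hinj hact] at this
      exact this
  rcases classify MH with ⟨x, hx⟩ | ⟨y, hnp, ⟨e⟩⟩ | ⟨⟨e⟩⟩ | ⟨⟨e⟩⟩ | ⟨⟨e⟩⟩ |
    ⟨x, hq, hO, k, hst, hk⟩
  · -- `M` fixes a point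
    have htop : stabilizer ↥M x = ⊤ := by
      rw [eq_top_iff]
      intro h _
      exact mem_stabilizer_iff.mpr (hx h)
    by_cases hnp : ∀ g : ↥M, ¬ IsPar g x
    · right
      have hcyc := MH.cyc x hnp
      rw [htop] at hcyc
      have hcycM : IsCyclic ↥M :=
        isCyclic_of_surjective (Subgroup.topEquiv (G := ↥M)).toMonoidHom
          (Subgroup.topEquiv (G := ↥M)).surjective
      obtain ⟨c, hc⟩ := hcycM.exists_generator
      have h1 : orderOf c = Nat.card ↥M := orderOf_eq_card_of_forall_mem_zpowers hc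
      have hd := hord x c (hx c) hnp
      rw [h1] at hd
      rcases cyc_dih_case hodd h3 M hM (Nat.card ↥M) hd (Or.inl ⟨hcycM, rfl⟩) with h | h
      · left; exact h
      · right; left; exact h
    · left
      push Not at hnp
      obtain ⟨g, hg⟩ := hnp
      set V : Subgroup ↥M := Q MH x with hV
      have hVp : IsPGroup p V := isPGroup_Q MH p hp1 x
      have hVnorm : Subgroup.normalizer ((V : Subgroup ↥M) : Set ↥M) = ⊤ := by
        rw [eq_top_iff, ← htop]
        exact stabilizer_le_normalizer_Q MH x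
      set VG : Subgroup (PGL(Fin 2, F)) := V.map M.subtype with hVG
      have hVGp : IsPGroup p VG := hVp.map M.subtype
      have hVG1 : VG ≠ ⊥ := by
        intro h
        have hgV : (g : PGL(Fin 2, F)) ∈ VG := ⟨g, (mem_Q MH x g).mpr (Or.inr hg), rfl⟩
        rw [h, Subgroup.mem_bot] at hgV
        exact hg.1 (Subtype.ext hgV)
      have hMV : M ≤ Subgroup.normalizer (VG : Set (PGL(Fin 2, F))) := by
        have h5 := Subgroup.le_normalizer_map (H := V) M.subtype
        rw [hVnorm, ← MonoidHom.range_eq_map, Subgroup.range_subtype] at h5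
        exact h5
      exact coatom_of_normal_p p M hM VG hVGp hVG1 hMV
  · -- dihedral
    right
    have hcyc := MH.cyc y hnp
    obtain ⟨c, hc⟩ := hcyc.exists_generator
    have h1 : orderOf c = Nat.card (stabilizer ↥M y) := orderOf_eq_card_of_forall_mem_zpowers hc
    have hd := hord y (c : ↥M) (mem_stabilizer_iff.mp c.2) hnp
    rw [Subgroup.orderOf_coe, h1] at hd
    rcases cyc_dih_case hodd h3 M hM _ hd (Or.inr ⟨e⟩) with h | h
    · left; exact h
    · right; left; exact h
  · -- `A₄`
    exfalso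
    have hidx := (card_eq_two_mul_inf_of_sup h2 M (coatom_sup_Lsub M hM hML)).2
    apply no_index_two_A4 (((Lsub (F := F)).subgroupOf M).map e.toMonoidHom)
    rw [Subgroup.index_map_of_bijective e.bijective]
    exact hidx
  · -- `S₄`
    by_cases hp3 : p = 3
    · right; right; right; right
      obtain ⟨Q₀, hQ₀, hN₀⟩ := S4_sfd
      obtain ⟨P, hPM, hPcard, hPN⟩ := transport_sfd M e Q₀ 3 6 hQ₀ hN₀
      have hdata : SFD M P 3 2 :=
        { hPS := hPM
          cardS := by rw [Nat.card_congr e.toEquiv, Cfsg.Agent.Lib.Helper9.PO.card_S4]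
          cardP := hPcard
          cardN := hPN }
      exact subfield_case_pgl p hodd h3 M hM hML P 3 2 1 hdata (by rw [hp3]; norm_num) le_rfl
        (Or.inl rfl) le_rfl
    · right; right; right; left
      obtain ⟨h5, h6⟩ := S4_case_pgl p hodd h3 hp3 M hM hML e
      exact ⟨h5, h6, ⟨e⟩⟩
  · -- `A₅`
    exfalso
    have hidx := (card_eq_two_mul_inf_of_sup h2 M (coatom_sup_Lsub M hM hML)).2
    apply no_index_two_A5 (((Lsub (F := F)).subgroupOf M).map e.toMonoidHom)
    rw [Subgroup.index_map_of_bijective e.bijective]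
    exact hidx
  · -- subfield type
    right; right; right; right
    obtain ⟨P, hPM, hPcard, hPN, hMcard⟩ := sfd_of_mob M MH x k hq hO hst
    have hQp : IsPGroup p (Q MH x) := isPGroup_Q MH p hp1 x
    obtain ⟨j, hj⟩ := IsPGroup.iff_card.mp hQp
    have hj1 : 1 ≤ j := by
      by_contra hcon
      have : j = 0 := by omega
      rw [this, pow_zero] at hj
      omega
    have hdata : SFD M P (Nat.card (Q MH x)) k :=
      { hPS := hPM
        cardS := hMcard
        cardP := hPcard
        cardN := hPN }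
    exact subfield_case_pgl p hodd h3 M hM hML P _ k j hdata hj hj1 hk hq

end main

variable {F : Type*} [Field F] [Fintype F]

/-- the maximal subgroups of `PGL₂(q)`, `q` odd, not containing the image of `SL₂(q)` -/
theorem main_pgl (hodd : Odd (Fintype.card F)) (h3 : 3 < Fintype.card F)
    (M : Subgroup (PGL(Fin 2, F))) (hM : IsCoatom M) (hML : ¬ Lsub ≤ M) :
    Nat.card M = Fintype.card F * (Fintype.card F - 1) ∨
    (Fintype.card F ≠ 5 ∧ Nonempty (M ≃* DihedralGroup (Fintype.card F - 1))) ∨
    Nonempty (M ≃* DihedralGroup (Fintype.card F + 1)) ∨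
    ((Fintype.card F).Prime ∧ (Fintype.card F % 8 = 3 ∨ Fintype.card F % 8 = 5) ∧
        Nonempty (M ≃* Equiv.Perm (Fin 4))) ∨
    (∃ (F₀ : Type) (_ : Field F₀) (_ : Fintype F₀) (r : ℕ), r.Prime ∧ Odd r ∧
        Fintype.card F = Fintype.card F₀ ^ r ∧
        Nonempty (M ≃* Matrix.ProjGenLinGroup (Fin 2) F₀)) := by
  classical
  obtain ⟨p, hp⟩ := CharP.exists F
  haveI := hp
  haveI : Fact p.Prime := ⟨CharP.char_is_prime F p⟩
  haveI : CharP (AlgebraicClosure F) p :=
    charP_of_injective_algebraMap (algebraMap F (AlgebraicClosure F)).injective p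
  exact main_pgl_aux (AlgebraicClosure F) p hodd h3 M hM hML

end Cfsg.Agent.Lib.Helper9.PO
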