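import Mathlib
import Cfsg.Agent.Lib.Helper9.POG6

set_option autoImplicit false
set_option linter.unusedSectionVars false

/-!
# Intersections of maximal subgroups of `PGL₂(q)` with `PSL₂(q)`: general lemmas
-/

namespace Cfsg.Agent.Lib.Helper9.PO

open Matrix Cfsg.Agent.Lib.Helper2 Cfsg.Agent.Lib.Helper2.DSub Cfsg.Agent.Lib.Helper9.H9PM
open scoped MatrixGroups

theorem isCoatom_subgroupOf_of_comap {P G : Type*} [Group P] [Group G] (φ : P →* G)
    (hφ : Function.Injective φ) (M : Subgroup G) (h : IsCoatom (M.comap φ)) :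
    IsCoatom ((M ⊓ φ.range).subgroupOf φ.range) := by
  have key : (M.comap φ).map (MonoidHom.ofInjective hφ).toMonoidHom =
      (M ⊓ φ.range).subgroupOf φ.range := by
    ext ⟨y, hy⟩
    rw [Subgroup.mem_subgroupOf]
    constructor
    · rintro ⟨x, hx, hxy⟩
      have h1 : φ x = y := congrArg Subtype.val hxy
      refine ⟨?_, hy⟩
      show y ∈ M
      rw [← h1]
      exact hx
    · rintro ⟨hyM, -⟩
      obtain ⟨x, rfl⟩ := hy
      exact ⟨x, hyM, Subtype.ext rfl⟩
  rw [← key]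
  exact isCoatom_map_equiv _ _ h

theorem exists_coatom_ge {P : Type*} [Group P] [Finite P] (M₀ : Subgroup P) (h : M₀ ≠ ⊤) :
    ∃ K₀ : Subgroup P, IsCoatom K₀ ∧ M₀ ≤ K₀ :=
  (eq_top_or_exists_le_coatom M₀).resolve_left h

theorem dihedral_sq_comm (k : ℕ) (a b : DihedralGroup k) :
    (a * a) * (b * b) = (b * b) * (a * a) := by
  rcases a with i | i <;> rcases b with j | j <;>
    simp only [DihedralGroup.r_mul_r, DihedralGroup.sr_mul_sr, DihedralGroup.r_mul_sr,
      DihedralGroup.sr_mul_r, sub_self, add_comm]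

theorem S4_orders_all : ∀ g : Equiv.Perm (Fin 4), g ^ 2 = 1 ∨ g ^ 3 = 1 ∨ g ^ 4 = 1 := by
  decide +kernel

theorem S4_sq_not_comm : ∃ x y : Equiv.Perm (Fin 4), x * y ≠ y * x ∧
    x = (x * x) * (x * x) ∧ y = (y * y) * (y * y) :=
  ⟨c[0, 1, 2], c[0, 1, 3], by decide +kernel⟩

theorem orderOf_le_of_pow {G : Type*} [Group G] (g : G) (n : ℕ) (hn : 0 < n) (h : g ^ n = 1) :
    orderOf g ≤ n := Nat.le_of_dvd hn (orderOf_dvd_of_pow_eq_one h)

end Cfsg.Agent.Lib.Helper9.PO
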