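import Mathlib

set_option autoImplicit false

/-!
# Arithmetic lemmas for the maximal subgroups of `PGL₂(q)` and `PSL₂(q)`
-/

namespace Cfsg.Agent.Lib.Helper9.PO

theorem sq_sub_one_eq (b : ℕ) (hb : 1 ≤ b) : b ^ 2 - 1 = (b - 1) * (b + 1) := by
  obtain ⟨c, rfl⟩ : ∃ c, b = c + 1 := ⟨b - 1, by omega⟩
  apply Nat.sub_eq_of_eq_add
  rw [Nat.add_sub_cancel]
  ring

theorem prod_three_le_cube (b : ℕ) : b * (b - 1) * (b + 1) ≤ b ^ 3 := by
  rcases Nat.eq_zero_or_pos b with rfl | hb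
  · simp
  obtain ⟨c, rfl⟩ : ∃ c, b = c + 1 := ⟨b - 1, by omega⟩
  rw [Nat.add_sub_cancel]
  nlinarith [sq_nonneg c]

theorem prod_three_eq (b : ℕ) (hb : 1 ≤ b) : b * (b - 1) * (b + 1) = b * (b ^ 2 - 1) := by
  rw [sq_sub_one_eq b hb, mul_assoc]

/-- `(a + 1) ∤ a ^ r (a ^ r - 1)` for odd `r` -/
theorem arith_5a (a r : ℕ) (ha : 2 ≤ a) (hr : Odd r)
    (h : a * (a - 1) * (a + 1) ∣ a ^ r * (a ^ r - 1)) : False := by
  have h1 : a + 1 ∣ a ^ r * (a ^ r - 1) := (Dvd.intro_left _ rfl).trans h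
  have hcop : Nat.Coprime (a + 1) (a ^ r) := by
    apply Nat.Coprime.pow_right
    rw [Nat.coprime_comm]
    simp
  have h2 : a + 1 ∣ a ^ r - 1 := hcop.dvd_of_dvd_mul_left h1
  have h3 : a + 1 ∣ a ^ r + 1 := by
    have := Odd.nat_add_dvd_pow_add_pow a 1 hr
    rwa [one_pow] at this
  have hpos : 1 ≤ a ^ r := Nat.one_le_pow _ _ (by omega)
  have h4 : a + 1 ∣ (a ^ r + 1) - (a ^ r - 1) := Nat.dvd_sub h3 h2
  have h5 : (a ^ r + 1) - (a ^ r - 1) = 2 := by omega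
  rw [h5] at h4
  have := Nat.le_of_dvd (by norm_num) h4
  omega

/-- the case of a subgroup `PGL₂(b)`, `b ^ 2 = a ^ r` -/
theorem arith_5d (a b r : ℕ) (ha : 2 ≤ a) (hr : Odd r) (hq : a ^ r = b ^ 2)
    (h : a * (a - 1) * (a + 1) ∣ 2 * (b * (b - 1) * (b + 1))) : False := by
  have ha1 : 1 ≤ a := by omega
  have hb1 : 1 ≤ b := by
    by_contra hcon
    have : b = 0 := by omega
    rw [this] at hq
    have : 1 ≤ a ^ r := Nat.one_le_pow _ _ (by omega)
    omega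
  rw [prod_three_eq b hb1, ← hq] at h
  have h1 : a ^ 2 - 1 ∣ 2 * (b * (a ^ r - 1)) := by
    rw [prod_three_eq a ha1] at h
    exact (Dvd.intro_left _ rfl).trans h
  have hcopa : Nat.Coprime (a ^ 2 - 1) a := by
    have h0 : Nat.Coprime (a ^ 2 - 1) (a ^ 2) := by
      have : a ^ 2 = (a ^ 2 - 1) + 1 := by
        have : 1 ≤ a ^ 2 := Nat.one_le_pow _ _ (by omega)
        omega
      rw [this]
      simp
    exact Nat.Coprime.coprime_dvd_right (dvd_pow_self a (by norm_num)) h0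
  have hcop : Nat.Coprime (a ^ 2 - 1) b := by
    have h0 : Nat.Coprime (a ^ 2 - 1) (b ^ 2) := by
      rw [← hq]
      exact Nat.Coprime.pow_right r hcopa
    exact Nat.Coprime.coprime_dvd_right (dvd_pow_self b (by norm_num)) h0
  have h2 : a ^ 2 - 1 ∣ 2 * (a ^ r - 1) := by
    have : 2 * (b * (a ^ r - 1)) = b * (2 * (a ^ r - 1)) := by ring
    rw [this] at h1
    exact hcop.dvd_of_dvd_mul_left h1
  obtain ⟨t, ht⟩ := hr
  have h3 : a ^ 2 - 1 ∣ a ^ (2 * t) - 1 := Nat.pow_sub_one_dvd_pow_sub_one a (Dvd.intro t rfl)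
  have hpos : 1 ≤ a ^ (2 * t) := Nat.one_le_pow _ _ (by omega)
  have h4 : a ^ r - 1 = a * (a ^ (2 * t) - 1) + (a - 1) := by
    rw [ht, pow_succ, Nat.mul_sub, mul_one]
    have : a ≤ a * a ^ (2 * t) := Nat.le_mul_of_pos_right a (by omega)
    have h5 : a ^ (2 * t) * a = a * a ^ (2 * t) := mul_comm _ _
    omega
  have h5 : a ^ 2 - 1 ∣ 2 * (a - 1) := by
    rw [h4, mul_add] at h2
    have h6 : a ^ 2 - 1 ∣ 2 * (a * (a ^ (2 * t) - 1)) :=
      (h3.mul_left a).mul_left 2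
    exact (Nat.dvd_add_right h6).mp h2
  rw [sq_sub_one_eq a ha1] at h5
  have h6 : (a - 1) * (a + 1) ≤ 2 * (a - 1) := Nat.le_of_dvd (by omega) h5
  have h7 : (a - 1) * 3 ≤ (a - 1) * (a + 1) := Nat.mul_le_mul_left _ (by omega)
  omega

/-- the case of a subgroup `PSL₂(b)`, `b ^ s = a ^ r` -/
theorem arith_5e (p a b r s : ℕ) (hp : p.Prime) (ha : 2 ≤ a) (hr : r.Prime) (hs : s.Prime)
    (hq : a ^ r = b ^ s) (f : ℕ) (hpf : a ^ r = p ^ f)
    (h : a * (a - 1) * (a + 1) ∣ b * (b - 1) * (b + 1)) : a = b := by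
  have ha1 : 1 ≤ a := by omega
  have hb1 : 1 ≤ b := by
    by_contra hcon
    have : b = 0 := by omega
    rw [this, zero_pow hs.ne_zero] at hq
    have : 1 ≤ a ^ r := Nat.one_le_pow _ _ (by omega)
    omega
  obtain ⟨n, -, han⟩ := (Nat.dvd_prime_pow hp).mp
    (show a ∣ p ^ f by rw [← hpf]; exact dvd_pow_self a hr.ne_zero)
  obtain ⟨m, -, hbm⟩ := (Nat.dvd_prime_pow hp).mp
    (show b ∣ p ^ f by rw [← hpf, hq]; exact dvd_pow_self b hs.ne_zero)
  have hn1 : 1 ≤ n := by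
    by_contra hcon
    have : n = 0 := by omega
    rw [this, pow_zero] at han
    omega
  have hexp : n * r = m * s := by
    have : p ^ (n * r) = p ^ (m * s) := by
      rw [pow_mul, pow_mul, ← han, ← hbm, hq]
    exact Nat.pow_right_injective hp.two_le this
  rw [prod_three_eq a ha1, prod_three_eq b hb1] at h
  have h1 : a ^ 2 - 1 ∣ b * (b ^ 2 - 1) := (Dvd.intro_left _ rfl).trans h
  have hcop : Nat.Coprime (a ^ 2 - 1) b := by
    rw [han, hbm]
    apply Nat.Coprime.pow_right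
    have h0 : Nat.Coprime ((p ^ n) ^ 2 - 1) ((p ^ n) ^ 2) := by
      have : (p ^ n) ^ 2 = ((p ^ n) ^ 2 - 1) + 1 := by
        have : 1 ≤ (p ^ n) ^ 2 := Nat.one_le_pow _ _ (Nat.one_le_pow _ _ hp.pos)
        omega
      rw [this]
      simp
    have hd : p ∣ (p ^ n) ^ 2 := by
      rw [← pow_mul]
      exact dvd_pow_self p (by omega)
    exact Nat.Coprime.coprime_dvd_right hd h0
  have h2 : a ^ 2 - 1 ∣ b ^ 2 - 1 := hcop.dvd_of_dvd_mul_left h1
  rw [han, hbm, ← pow_mul, ← pow_mul] at h2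
  have h3 : Nat.gcd (p ^ (n * 2) - 1) (p ^ (m * 2) - 1) = p ^ (n * 2) - 1 :=
    Nat.gcd_eq_left h2
  rw [Nat.pow_sub_one_gcd_pow_sub_one] at h3
  have h4 : p ^ Nat.gcd (n * 2) (m * 2) = p ^ (n * 2) := by
    have e1 : 1 ≤ p ^ Nat.gcd (n * 2) (m * 2) := Nat.one_le_pow _ _ hp.pos
    have e2 : 1 ≤ p ^ (n * 2) := Nat.one_le_pow _ _ hp.pos
    omega
  have h5 : Nat.gcd (n * 2) (m * 2) = n * 2 := Nat.pow_right_injective hp.two_le h4
  have h6 : n * 2 ∣ m * 2 := by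
    rw [← h5]
    exact Nat.gcd_dvd_right _ _
  have h7 : n ∣ m := (Nat.mul_dvd_mul_iff_right (by norm_num)).mp h6
  obtain ⟨u, hu⟩ := h7
  have h8 : r = u * s := by
    have : n * r = n * (u * s) := by rw [hexp, hu]; ring
    exact Nat.eq_of_mul_eq_mul_left (by omega) this
  have h9 : s ∣ r := Dvd.intro_left u h8.symm
  have h10 : s = r := (Nat.prime_dvd_prime_iff_eq hs hr).mp h9
  rw [h10] at hq
  exact Nat.pow_left_injective hr.ne_zero hq

/-- `q = a ^ r` with `r` an odd prime is not the square of a prime -/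
theorem arith_5f (a r p : ℕ) (hp : p.Prime) (ha : 2 ≤ a) (hr : r.Prime) (hodd : Odd r)
    (hq : a ^ r = p ^ 2) : False := by
  obtain ⟨n, -, han⟩ := (Nat.dvd_prime_pow hp).mp
    (show a ∣ p ^ 2 by rw [← hq]; exact dvd_pow_self a hr.ne_zero)
  have hexp : n * r = 2 := by
    have : p ^ (n * r) = p ^ 2 := by rw [pow_mul, ← han, hq]
    exact Nat.pow_right_injective hp.two_le this
  have h1 : r ∣ 2 := Dvd.intro_left n hexp
  have h2 : r = 2 := (Nat.prime_dvd_prime_iff_eq hr Nat.prime_two).mp h1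
  rw [h2] at hodd
  exact absurd hodd (by decide)

theorem mod8_35_mul (q : ℕ) (h : q % 8 = 3 ∨ q % 8 = 5) (t : ℕ) (ht : q * (q - 1) = 24 * t) :
    False := by
  rcases h with h | h
  · obtain ⟨u, hu⟩ : ∃ u, q = 8 * u + 3 := ⟨q / 8, by omega⟩
    rw [hu] at ht
    have : (8 * u + 3) * (8 * u + 3 - 1) = 8 * (8 * u * u + 5 * u) + 6 := by
      have : 8 * u + 3 - 1 = 8 * u + 2 := by omega
      rw [this]; ring
    omega
  · obtain ⟨u, hu⟩ : ∃ u, q = 8 * u + 5 := ⟨q / 8, by omega⟩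
    rw [hu] at ht
    have : (8 * u + 5) * (8 * u + 5 - 1) = 8 * (8 * u * u + 9 * u + 2) + 4 := by
      have : 8 * u + 5 - 1 = 8 * u + 4 := by omega
      rw [this]; ring
    omega

end Cfsg.Agent.Lib.Helper9.PO
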