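import Mathlib
import Cfsg.Agent.Lib.Helper9.POH2

set_option autoImplicit false
set_option linter.unusedSectionVars false
set_option linter.unusedVariables false

/-!
# Comparing the profiles of a maximal subgroup of `PSL₂(q)` and of the intersection with
`PSL₂(q)` of a maximal subgroup of `PGL₂(q)`
-/

namespace Cfsg.Agent.Lib.Helper9.PO

variable {P : Type*} [Group P]

/-- the numerical profile of a maximal subgroup of `PSL₂(q)` -/
def KP (q : ℕ) (K₀ : Subgroup P) : Prop :=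
  2 * Nat.card K₀ = q * (q - 1) ∨
  (13 ≤ q ∧ Nat.card K₀ = q - 1 ∧
    ∀ x ∈ K₀, ∀ y ∈ K₀, (x * x) * (y * y) = (y * y) * (x * x)) ∨
  (q ≠ 7 ∧ q ≠ 9 ∧ Nat.card K₀ = q + 1 ∧
    ∀ x ∈ K₀, ∀ y ∈ K₀, (x * x) * (y * y) = (y * y) * (x * x)) ∨
  (∃ b : ℕ, q = b ^ 2 ∧ Nat.card K₀ = b * (b - 1) * (b + 1) ∧ ∀ x ∈ K₀, orderOf x ≤ b + 1) ∨
  (∃ b s : ℕ, s.Prime ∧ Odd s ∧ q = b ^ s ∧ 2 * Nat.card K₀ = b * (b - 1) * (b + 1) ∧
    ∀ x ∈ K₀, orderOf x ≤ b + 1) ∨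
  ((q % 10 = 1 ∨ q % 10 = 9) ∧ (q.Prime ∨ ∃ p : ℕ, p.Prime ∧ q = p ^ 2) ∧ Nat.card K₀ = 60 ∧
    ∀ x ∈ K₀, orderOf x ≤ 5) ∨
  (q.Prime ∧ (q % 8 = 3 ∨ q % 8 = 5) ∧ ¬ (q % 10 = 1 ∨ q % 10 = 9) ∧ Nat.card K₀ = 12 ∧
    (∀ x ∈ K₀, orderOf x ≤ 3) ∧ ∀ N : Subgroup P, N ≤ K₀ → 2 * Nat.card N ≠ 12) ∨
  (q.Prime ∧ (q % 8 = 1 ∨ q % 8 = 7) ∧ Nat.card K₀ = 24 ∧ ∀ x ∈ K₀, orderOf x ≤ 4)

/-- the numerical profile of the intersection with `PSL₂(q)` of a maximal subgroup of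
`PGL₂(q)` -/
def MP (q : ℕ) (M₀ : Subgroup P) : Prop :=
  2 * Nat.card M₀ = q * (q - 1) ∨
  (q ≠ 5 ∧ Nat.card M₀ = q - 1 ∧ ∃ x ∈ M₀, 2 * orderOf x = q - 1) ∨
  (Nat.card M₀ = q + 1 ∧ ∃ x ∈ M₀, 2 * orderOf x = q + 1) ∨
  (q.Prime ∧ (q % 8 = 3 ∨ q % 8 = 5) ∧ Nat.card M₀ = 12 ∧
    ∃ x ∈ M₀, ∃ y ∈ M₀, x * y ≠ y * x ∧ ∃ x' ∈ M₀, ∃ y' ∈ M₀, x = x' * x' ∧ y = y' * y') ∨
  (∃ a r : ℕ, r.Prime ∧ Odd r ∧ q = a ^ r ∧ 2 * Nat.card M₀ = a * (a - 1) * (a + 1))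

variable [Finite P] (q : ℕ) (hqodd : q % 2 = 1) (h5 : 5 ≤ q) (h7 : q ≠ 7) (h9 : q ≠ 9)
  (h11 : q ≠ 11)

include hqodd h5 h7 h9 h11

theorem profile_case1 (M₀ K₀ : Subgroup P) (hle : M₀ ≤ K₀)
    (hM : 2 * Nat.card M₀ = q * (q - 1)) (hK : KP q K₀) : Nat.card M₀ = Nat.card K₀ := by
  have hdvd : Nat.card M₀ ∣ Nat.card K₀ := Subgroup.card_dvd_of_le hle
  have hKpos : 0 < Nat.card K₀ := Nat.card_pos
  have hmle : Nat.card M₀ ≤ Nat.card K₀ := Nat.le_of_dvd hKpos hdvd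
  have hq5 : 5 * (q - 1) ≤ q * (q - 1) := Nat.mul_le_mul_right _ h5
  rcases hK with hK | ⟨-, hK, -⟩ | ⟨-, -, hK, -⟩ | ⟨b, hqb, hK, -⟩ | ⟨b, s, hs, hsodd, hqb, hK, -⟩ |
    ⟨h10, -, hK, -⟩ | ⟨-, -, -, hK, -, -⟩ | ⟨-, h8, hK, -⟩
  · omega
  · exfalso; omega
  · exfalso; omega
  · exfalso
    have hb3 : 3 ≤ b := by
      by_contra hcon
      have : b ≤ 2 := by omega
      have : b ^ 2 ≤ 2 ^ 2 := Nat.pow_le_pow_left this 2
      omega
    rw [prod_three_eq b (by omega), ← hqb] at hK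
    rw [hK] at hmle
    -- `q (q - 1) ≤ 2 b (q - 1)` so `q ≤ 2 b`
    have h1 : q * (q - 1) ≤ (2 * b) * (q - 1) := by
      rw [← hM, mul_assoc]
      exact Nat.mul_le_mul_left 2 hmle
    have h2 : q ≤ 2 * b := Nat.le_of_mul_le_mul_right h1 (by omega)
    have h3 : 3 * b ≤ b ^ 2 := by
      rw [pow_two]
      exact Nat.mul_le_mul_right b hb3
    omega
  · exfalso
    have hs3 : 3 ≤ s := by
      rcases hs.eq_two_or_odd with h | h
      · rw [h] at hsodd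
        exact absurd hsodd (by decide)
      · have := hs.two_le
        omega
    have hb1 : 1 ≤ b := by
      by_contra hcon
      have : b = 0 := by omega
      rw [this, zero_pow hs.ne_zero] at hqb
      omega
    have h1 : b ^ 3 ≤ q := by
      rw [hqb]
      exact Nat.pow_le_pow_right hb1 hs3
    have h2 := prod_three_le_cube b
    have h3 : q * 4 ≤ q * (q - 1) := Nat.mul_le_mul_left _ (by omega)
    omega
  · exfalso
    have hq19 : 19 ≤ q := by omega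
    have h1 : 19 * 18 ≤ q * (q - 1) := Nat.mul_le_mul hq19 (by omega)
    omega
  · exfalso
    by_cases hq5 : q = 5
    · rw [hq5] at hM
      rw [hK] at hdvd
      have hm : Nat.card M₀ = 10 := by omega
      rw [hm] at hdvd
      omega
    · have hq13 : 13 ≤ q := by omega
      have h1 : 13 * 12 ≤ q * (q - 1) := Nat.mul_le_mul hq13 (by omega)
      omega
  · exfalso
    have hq15 : 15 ≤ q := by omega
    have h1 : 15 * 14 ≤ q * (q - 1) := Nat.mul_le_mul hq15 (by omega)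
    omega

theorem profile_case2 (M₀ K₀ : Subgroup P) (hle : M₀ ≤ K₀) (hq5 : q ≠ 5)
    (hM : Nat.card M₀ = q - 1) (x : P) (hx : x ∈ M₀) (hxo : 2 * orderOf x = q - 1)
    (hK : KP q K₀) : Nat.card M₀ = Nat.card K₀ := by
  have hdvd : Nat.card M₀ ∣ Nat.card K₀ := Subgroup.card_dvd_of_le hle
  have hKpos : 0 < Nat.card K₀ := Nat.card_pos
  have hxK : x ∈ K₀ := hle hx
  have hq13 : 13 ≤ q := by omega
  rcases hK with hK | ⟨-, hK, -⟩ | ⟨-, -, hK, -⟩ | ⟨b, hqb, -, hK⟩ | ⟨b, s, hs, hsodd, hqb, -, hK⟩ |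
    ⟨-, -, -, hK⟩ | ⟨-, -, -, -, hK, -⟩ | ⟨-, -, -, hK⟩
  · exfalso
    obtain ⟨t, ht⟩ := hdvd
    rw [ht, hM] at hK
    have h1 : (q - 1) * (2 * t) = (q - 1) * q := by
      rw [mul_comm (q - 1) q, ← hK]; ring
    have h2 := Nat.eq_of_mul_eq_mul_left (by omega : 0 < q - 1) h1
    omega
  · omega
  · exfalso
    rw [hM, hK] at hdvd
    have h1 : q - 1 ∣ (q + 1) - (q - 1) := Nat.dvd_sub hdvd dvd_rfl
    have h2 : (q + 1) - (q - 1) = 2 := by omega
    rw [h2] at h1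
    have := Nat.le_of_dvd (by norm_num) h1
    omega
  · exfalso
    have := hK x hxK
    have hb4 : 4 ≤ b := by
      by_contra hcon
      have : b ≤ 3 := by omega
      have : b ^ 2 ≤ 3 ^ 2 := Nat.pow_le_pow_left this 2
      omega
    have h3 : 4 * b ≤ b ^ 2 := by
      rw [pow_two]
      exact Nat.mul_le_mul_right b hb4
    omega
  · exfalso
    have := hK x hxK
    have hs3 : 3 ≤ s := by
      rcases hs.eq_two_or_odd with h | h
      · rw [h] at hsodd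
        exact absurd hsodd (by decide)
      · have := hs.two_le
        omega
    have hb2 : 2 ≤ b := by
      by_contra hcon
      have hb01 : b = 0 ∨ b = 1 := by omega
      rcases hb01 with rfl | rfl
      · rw [zero_pow hs.ne_zero] at hqb
        omega
      · rw [one_pow] at hqb
        omega
    have h1 : b ^ 3 ≤ q := by
      rw [hqb]
      exact Nat.pow_le_pow_right (by omega) hs3
    have h2 : 4 * b ≤ b ^ 3 := by
      have : 2 * 2 ≤ b * b := Nat.mul_le_mul hb2 hb2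
      calc 4 * b = (2 * 2) * b := by ring
        _ ≤ (b * b) * b := Nat.mul_le_mul_right b this
        _ = b ^ 3 := by ring
    omega
  · exfalso
    have := hK x hxK
    omega
  · exfalso
    have := hK x hxK
    omega
  · exfalso
    have := hK x hxK
    omega

theorem profile_case3 (M₀ K₀ : Subgroup P) (hle : M₀ ≤ K₀)
    (hM : Nat.card M₀ = q + 1) (x : P) (hx : x ∈ M₀) (hxo : 2 * orderOf x = q + 1)
    (hK : KP q K₀) : Nat.card M₀ = Nat.card K₀ := by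
  have hdvd : Nat.card M₀ ∣ Nat.card K₀ := Subgroup.card_dvd_of_le hle
  have hKpos : 0 < Nat.card K₀ := Nat.card_pos
  have hxK : x ∈ K₀ := hle hx
  rcases hK with hK | ⟨-, hK, -⟩ | ⟨-, -, hK, -⟩ | ⟨b, hqb, -, hK⟩ | ⟨b, s, hs, hsodd, hqb, -, hK⟩ |
    ⟨h10, -, -, hK⟩ | ⟨-, -, -, hK12, hK, hN⟩ | ⟨-, h8, -, hK⟩
  · exfalso
    obtain ⟨t, ht⟩ := hdvd
    rw [ht, hM] at hK
    obtain ⟨c, hc⟩ : ∃ c, q = c + 2 := ⟨q - 2, by omega⟩
    have h1 : q * (q - 1) = (q + 1) * c + 2 := by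
      rw [hc]
      have : c + 2 - 1 = c + 1 := by omega
      rw [this]; ring
    have h2 : q + 1 ∣ (q + 1) * c + 2 := by
      rw [← h1, ← hK]
      exact ⟨2 * t, by ring⟩
    have h3 : q + 1 ∣ 2 := (Nat.dvd_add_right (Dvd.intro _ rfl)).mp h2
    have := Nat.le_of_dvd (by norm_num) h3
    omega
  · exfalso
    rw [hM, hK] at hdvd
    have := Nat.le_of_dvd (by omega) hdvd
    omega
  · omega
  · exfalso
    have := hK x hxK
    have hb3 : 3 ≤ b := by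
      by_contra hcon
      have : b ≤ 2 := by omega
      have : b ^ 2 ≤ 2 ^ 2 := Nat.pow_le_pow_left this 2
      omega
    have h3 : 3 * b ≤ b ^ 2 := by
      rw [pow_two]
      exact Nat.mul_le_mul_right b hb3
    omega
  · exfalso
    have := hK x hxK
    have hs3 : 3 ≤ s := by
      rcases hs.eq_two_or_odd with h | h
      · rw [h] at hsodd
        exact absurd hsodd (by decide)
      · have := hs.two_le
        omega
    have hb2 : 2 ≤ b := by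
      by_contra hcon
      have hb01 : b = 0 ∨ b = 1 := by omega
      rcases hb01 with rfl | rfl
      · rw [zero_pow hs.ne_zero] at hqb
        omega
      · rw [one_pow] at hqb
        omega
    have h1 : b ^ 3 ≤ q := by
      rw [hqb]
      exact Nat.pow_le_pow_right (by omega) hs3
    have h2 : 4 * b ≤ b ^ 3 := by
      have : 2 * 2 ≤ b * b := Nat.mul_le_mul hb2 hb2
      calc 4 * b = (2 * 2) * b := by ring
        _ ≤ (b * b) * b := Nat.mul_le_mul_right b this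
        _ = b ^ 3 := by ring
    omega
  · exfalso
    have := hK x hxK
    omega
  · exfalso
    have := hK x hxK
    have hq5 : q = 5 := by omega
    apply hN M₀ hle
    rw [hM, hq5]
  · exfalso
    have := hK x hxK
    omega

omit hqodd h5 h7 h9 h11 in
theorem profile_case4 (hqodd : q % 2 = 1)
    (h40 : q.Prime → q % 40 ∉ ({11, 19, 21, 29} : Finset ℕ))
    (M₀ K₀ : Subgroup P) (hle : M₀ ≤ K₀) (hqp : q.Prime) (hq8 : q % 8 = 3 ∨ q % 8 = 5)
    (hM : Nat.card M₀ = 12) (x : P) (hx : x ∈ M₀) (y : P) (hy : y ∈ M₀) (hxy : x * y ≠ y * x)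
    (x' : P) (hx' : x' ∈ M₀) (y' : P) (hy' : y' ∈ M₀) (hxx : x = x' * x') (hyy : y = y' * y')
    (hK : KP q K₀) : Nat.card M₀ = Nat.card K₀ := by
  have hdvd : Nat.card M₀ ∣ Nat.card K₀ := Subgroup.card_dvd_of_le hle
  have h40' := h40 hqp
  simp only [Finset.mem_insert, Finset.mem_singleton, not_or] at h40'
  rcases hK with hK | ⟨-, -, hK⟩ | ⟨-, -, -, hK⟩ | ⟨b, hqb, -, -⟩ | ⟨b, s, hs, hsodd, hqb, -, -⟩ |
    ⟨h10, -, -, -⟩ | ⟨-, -, -, hK, -, -⟩ | ⟨-, h8, -, -⟩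
  · exfalso
    obtain ⟨t, ht⟩ := hdvd
    rw [ht, hM] at hK
    exact mod8_35_mul q hq8 t (by rw [← hK]; ring)
  · exfalso
    apply hxy
    rw [hxx, hyy]
    exact hK x' (hle hx') y' (hle hy')
  · exfalso
    apply hxy
    rw [hxx, hyy]
    exact hK x' (hle hx') y' (hle hy')
  · exfalso
    rw [hqb] at hqp
    have := Nat.Prime.eq_one_of_pow hqp
    omega
  · exfalso
    rw [hqb] at hqp
    have := Nat.Prime.eq_one_of_pow hqp
    rw [this] at hs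
    exact Nat.not_prime_one hs
  · exfalso
    omega
  · omega
  · exfalso
    omega

omit h7 h9 h11 in
theorem profile_case5 (hpp : ∃ p f : ℕ, p.Prime ∧ q = p ^ f)
    (M₀ K₀ : Subgroup P) (hle : M₀ ≤ K₀) (a r : ℕ) (hr : r.Prime) (hrodd : Odd r)
    (hqa : q = a ^ r) (hM : 2 * Nat.card M₀ = a * (a - 1) * (a + 1))
    (hK : KP q K₀) : Nat.card M₀ = Nat.card K₀ := by
  have hdvd : Nat.card M₀ ∣ Nat.card K₀ := Subgroup.card_dvd_of_le hle
  have hdvd2 : 2 * Nat.card M₀ ∣ 2 * Nat.card K₀ := Nat.mul_dvd_mul_left 2 hdvd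
  have ha3 : 3 ≤ a := by
    by_contra hcon
    have ha012 : a = 0 ∨ a = 1 ∨ a = 2 := by omega
    rcases ha012 with rfl | rfl | rfl
    · rw [zero_pow hr.ne_zero] at hqa
      omega
    · rw [one_pow] at hqa
      omega
    · have : 2 ∣ q := by
        rw [hqa]
        exact dvd_pow_self 2 hr.ne_zero
      omega
  have hnotprime : ¬ q.Prime := by
    intro hqp
    rw [hqa] at hqp
    have := Nat.Prime.eq_one_of_pow hqp
    rw [this] at hr
    exact Nat.not_prime_one hr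
  have haq : a ∣ q := by
    rw [hqa]
    exact dvd_pow_self a hr.ne_zero
  have ha2M : a ∣ 2 * Nat.card M₀ := by
    rw [hM, mul_assoc]
    exact Dvd.intro _ rfl
  rcases hK with hK | ⟨-, hK, -⟩ | ⟨-, -, hK, -⟩ | ⟨b, hqb, hK, -⟩ | ⟨b, s, hs, hsodd, hqb, hK, -⟩ |
    ⟨-, hK, -, -⟩ | ⟨hK, -⟩ | ⟨hK, -⟩
  · exfalso
    rw [hM, hK, hqa] at hdvd2
    exact arith_5a a r (by omega) hrodd hdvd2
  · exfalso
    rw [hK] at hdvd2
    have h1 : a ∣ 2 * (q - 1) := ha2M.trans hdvd2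
    have h2 : a ∣ 2 * q := haq.mul_left 2
    have h3 : a ∣ 2 * q - 2 * (q - 1) := Nat.dvd_sub h2 h1
    have h4 : 2 * q - 2 * (q - 1) = 2 := by omega
    rw [h4] at h3
    have := Nat.le_of_dvd (by norm_num) h3
    omega
  · exfalso
    rw [hK] at hdvd2
    have h1 : a ∣ 2 * (q + 1) := ha2M.trans hdvd2
    have h2 : a ∣ 2 * q := haq.mul_left 2
    have h3 : a ∣ 2 * (q + 1) - 2 * q := Nat.dvd_sub h1 h2
    have h4 : 2 * (q + 1) - 2 * q = 2 := by omega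
    rw [h4] at h3
    have := Nat.le_of_dvd (by norm_num) h3
    omega
  · exfalso
    rw [hM, hK] at hdvd2
    exact arith_5d a b r (by omega) hrodd (by rw [← hqa, hqb]) hdvd2
  · obtain ⟨p, f, hp, hpf⟩ := hpp
    rw [hM, hK] at hdvd2
    have hab := arith_5e p a b r s hp (by omega) hr hs (by rw [← hqa, hqb]) f
      (by rw [← hqa, hpf]) hdvd2
    rw [← hab] at hK
    omega
  · exfalso
    rcases hK with hK | ⟨p, hp, hK⟩
    · exact hnotprime hK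
    · exact arith_5f a r p hp (by omega) hr hrodd (by rw [← hqa, hK])
  · exact absurd hK hnotprime
  · exact absurd hK hnotprime

omit hqodd h5 h7 h9 h11 in
/-- comparing the profiles -/
theorem card_eq_of_profiles (hqodd : q % 2 = 1) (h5 : 5 ≤ q) (h7 : q ≠ 7) (h9 : q ≠ 9)
    (h11 : q ≠ 11) (h40 : q.Prime → q % 40 ∉ ({11, 19, 21, 29} : Finset ℕ))
    (hpp : ∃ p f : ℕ, p.Prime ∧ q = p ^ f)
    (M₀ K₀ : Subgroup P) (hle : M₀ ≤ K₀) (hM : MP q M₀) (hK : KP q K₀) :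
    Nat.card M₀ = Nat.card K₀ := by
  rcases hM with hM | ⟨hq5, hM, x, hx, hxo⟩ | ⟨hM, x, hx, hxo⟩ |
    ⟨hqp, hq8, hM, x, hx, y, hy, hxy, x', hx', y', hy', hxx, hyy⟩ | ⟨a, r, hr, hrodd, hqa, hM⟩
  · exact profile_case1 q hqodd h5 h7 h9 h11 M₀ K₀ hle hM hK
  · exact profile_case2 q hqodd h5 h7 h9 h11 M₀ K₀ hle hq5 hM x hx hxo hK
  · exact profile_case3 q hqodd h5 h7 h9 h11 M₀ K₀ hle hM x hx hxo hK
  · exact profile_case4 q hqodd h40 M₀ K₀ hle hqp hq8 hM x hx y hy hxy x' hx' y' hy' hxx hyy hK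
  · exact profile_case5 q hqodd h5 hpp M₀ K₀ hle a r hr hrodd hqa hM hK

end Cfsg.Agent.Lib.Helper9.PO
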