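import Mathlib
import Cfsg.Agent.Lib.Helper9.POH1
import Cfsg.Agent.Lib.Helper9.POH3
import Cfsg.Agent.S5892

set_option autoImplicit false
set_option linter.unusedSectionVars false

/-!
# The profiles of maximal subgroups of `PSL₂(q)` and `PGL₂(q)`
-/

namespace Cfsg.Agent.Lib.Helper9.PO

open Matrix Cfsg.Agent.Lib.Helper2 Cfsg.Agent.Lib.Helper2.DSub Cfsg.Agent.Lib.Helper9.H9PM
open scoped MatrixGroups

section transfer

variable {P X : Type*} [Group P] [Group X]

theorem orderOf_le_of_equiv (K₀ : Subgroup P) (e : K₀ ≃* X) (n : ℕ)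
    (h : ∀ g : X, orderOf g ≤ n) : ∀ x ∈ K₀, orderOf x ≤ n := by
  intro x hx
  have := h (e ⟨x, hx⟩)
  rwa [MulEquiv.orderOf_eq, Subgroup.orderOf_mk] at this

theorem sq_comm_of_equiv (K₀ : Subgroup P) (k : ℕ) (e : K₀ ≃* DihedralGroup k) :
    ∀ x ∈ K₀, ∀ y ∈ K₀, (x * x) * (y * y) = (y * y) * (x * x) := by
  intro x hx y hy
  have h1 := dihedral_sq_comm k (e ⟨x, hx⟩) (e ⟨y, hy⟩)
  rw [← map_mul, ← map_mul, ← map_mul, ← map_mul] at h1
  exact congrArg Subtype.val (e.injective h1)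

theorem no_index_two_of_equiv (K₀ : Subgroup P) (e : K₀ ≃* alternatingGroup (Fin 4)) :
    ∀ N : Subgroup P, N ≤ K₀ → 2 * Nat.card N ≠ 12 := by
  intro N hN h
  set N' : Subgroup (alternatingGroup (Fin 4)) := (N.subgroupOf K₀).map e.toMonoidHom with hN'
  have h1 : Nat.card N' = Nat.card N := by
    rw [hN', Subgroup.card_map_of_injective e.injective]
    exact Nat.card_congr (Subgroup.subgroupOfEquivOfLe hN).toEquiv
  have h2 := N'.card_mul_index
  rw [h1, Cfsg.Agent.Lib.Helper9.PO.card_A4] at h2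
  apply no_index_two_A4 N'
  have : Nat.card N * N'.index = Nat.card N * 2 := by rw [h2]; omega
  exact Nat.eq_of_mul_eq_mul_left (by omega) this

end transfer

variable {F : Type*} [Field F] [Fintype F]

local notation "PSL" => Matrix.ProjectiveSpecialLinearGroup (Fin 2) F

/-- the profile of a maximal subgroup of `PSL₂(q)` -/
theorem kp_of_coatom (p : ℕ) [Fact p.Prime] [CharP F p] (hodd : Odd (Fintype.card F))
    (h5 : 5 ≤ Fintype.card F) (K₀ : Subgroup PSL) (hK₀ : IsCoatom K₀) :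
    KP (Fintype.card F) K₀ := by
  classical
  have hpp : p.Prime := Fact.out
  rcases Cfsg.Agent.S5892.result p hodd h5 K₀ hK₀ with h | ⟨h13, k, hk, ⟨e⟩⟩ |
    ⟨h7, h9, k, hk, ⟨e⟩⟩ | ⟨F₀, i1, i2, hq, ⟨e⟩⟩ | ⟨F₀, i1, i2, r, hr, hrodd, hq, ⟨e⟩⟩ |
    ⟨h10, hqp, ⟨e⟩⟩ | ⟨hqp, h8, h10, ⟨e⟩⟩ | ⟨hqp, h8, ⟨e⟩⟩
  · exact Or.inl h
  · right; left
    refine ⟨h13, ?_, sq_comm_of_equiv K₀ k e⟩
    rw [Nat.card_congr e.toEquiv, DihedralGroup.nat_card, hk]
  · right; right; left
    refine ⟨h7, h9, ?_, sq_comm_of_equiv K₀ k e⟩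
    rw [Nat.card_congr e.toEquiv, DihedralGroup.nat_card, hk]
  · right; right; right; left
    refine ⟨Fintype.card F₀, hq, ?_, orderOf_le_of_equiv K₀ e _ (fun g => orderOf_le_pgl g)⟩
    rw [Nat.card_congr e.toEquiv, card_pgl_two]
  · right; right; right; right; left
    refine ⟨Fintype.card F₀, r, hr, hrodd, hq, ?_,
      orderOf_le_of_equiv K₀ e _ (fun g => orderOf_le_psl g)⟩
    have hodd₀ : Odd (Fintype.card F₀) := by
      rw [hq] at hodd
      exact (Nat.odd_pow_iff hr.ne_zero).mp hodd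
    have h2 : (2 : F₀) ≠ 0 := Cfsg.Agent.Lib.Helper1.two_ne_zero_of_odd_card hodd₀
    rw [Nat.card_congr e.toEquiv]
    exact card_G (F := F₀) h2
  · right; right; right; right; right; left
    refine ⟨h10, ?_, ?_, orderOf_le_of_equiv K₀ e 5 ?_⟩
    · rcases hqp with h | ⟨h, -⟩
      · left; rw [h]; exact hpp
      · right; exact ⟨p, hpp, h⟩
    · rw [Nat.card_congr e.toEquiv, card_A5]
    · intro g
      rcases A5_orders g with h | h | h
      · exact (orderOf_le_of_pow g 2 (by norm_num) h).trans (by norm_num)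
      · exact (orderOf_le_of_pow g 3 (by norm_num) h).trans (by norm_num)
      · exact orderOf_le_of_pow g 5 (by norm_num) h
  · right; right; right; right; right; right; left
    rw [← hqp] at h8 h10
    refine ⟨by rw [hqp]; exact hpp, h8, h10, ?_, orderOf_le_of_equiv K₀ e 3 ?_,
      no_index_two_of_equiv K₀ e⟩
    · rw [Nat.card_congr e.toEquiv, Cfsg.Agent.Lib.Helper9.PO.card_A4]
    · intro g
      rcases A4_orders g with h | h
      · exact (orderOf_le_of_pow g 2 (by norm_num) h).trans (by norm_num)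
      · exact orderOf_le_of_pow g 3 (by norm_num) h
  · right; right; right; right; right; right; right
    rw [← hqp] at h8
    refine ⟨by rw [hqp]; exact hpp, h8, ?_, orderOf_le_of_equiv K₀ e 4 ?_⟩
    · rw [Nat.card_congr e.toEquiv, Cfsg.Agent.Lib.Helper9.PO.card_S4]
    · intro g
      rcases S4_orders_all g with h | h | h
      · exact (orderOf_le_of_pow g 2 (by norm_num) h).trans (by norm_num)
      · exact (orderOf_le_of_pow g 3 (by norm_num) h).trans (by norm_num)
      · exact orderOf_le_of_pow g 4 (by norm_num) h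

end Cfsg.Agent.Lib.Helper9.PO
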