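import Mathlib
import Cfsg.Agent.Lib.Helper9.POH4

set_option autoImplicit false
set_option linter.unusedSectionVars false

/-!
# Intersections of maximal subgroups of `PGL₂(q)` with `PSL₂(q)`
-/

namespace Cfsg.Agent.Lib.Helper9.PO

open Matrix Cfsg.Agent.Lib.Helper2 Cfsg.Agent.Lib.Helper2.DSub Cfsg.Agent.Lib.Helper9.H9PM
open scoped MatrixGroups

variable {F : Type*} [Field F] [Fintype F]

local notation "PSL" => Matrix.ProjectiveSpecialLinearGroup (Fin 2) F

local notation "φ" => (ProjectiveSpecialLinearGroup.toPGL (n := Fin 2) (R := F))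

theorem two_mul_card_comap (h2 : (2 : F) ≠ 0) (M : Subgroup (PGL(Fin 2, F))) (hM : IsCoatom M)
    (hML : ¬ Lsub ≤ M) : 2 * Nat.card (M.comap φ) = Nat.card M := by
  have h1 := (card_eq_two_mul_inf_of_sup h2 M (coatom_sup_Lsub M hM hML)).1
  have h3 : Nat.card (M.comap φ) = Nat.card (M ⊓ Lsub : Subgroup (PGL(Fin 2, F))) := by
    rw [← Subgroup.card_map_of_injective
      (ProjectiveSpecialLinearGroup.toPGL_injective (n := Fin 2) (R := F)),
      Subgroup.map_comap_eq, inf_comm]
    rfl
  rw [h3, ← h1]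

/-- a square of an element of `M` comes from the preimage of `M` -/
theorem exists_sq_preimage (h2 : (2 : F) ≠ 0) (M : Subgroup (PGL(Fin 2, F)))
    (c : PGL(Fin 2, F)) (hc : c ∈ M) : ∃ x : PSL, x ∈ M.comap φ ∧ φ x = c * c := by
  obtain ⟨x, hx⟩ := mul_self_mem_Lsub h2 c
  refine ⟨x, ?_, hx⟩
  rw [Subgroup.mem_comap, hx]
  exact M.mul_mem hc hc

/-- the profile of the intersection with `PSL₂(q)` of a maximal subgroup of `PGL₂(q)` -/
theorem mp_of_coatom (hodd : Odd (Fintype.card F)) (h3 : 3 < Fintype.card F)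
    (M : Subgroup (PGL(Fin 2, F))) (hM : IsCoatom M) (hML : ¬ Lsub ≤ M) :
    MP (Fintype.card F) (M.comap φ) := by
  classical
  have h2 : (2 : F) ≠ 0 := Cfsg.Agent.Lib.Helper1.two_ne_zero_of_odd_card hodd
  have hinj := ProjectiveSpecialLinearGroup.toPGL_injective (n := Fin 2) (R := F)
  have hcard := two_mul_card_comap h2 M hM hML
  have hqodd : Fintype.card F % 2 = 1 := Nat.odd_iff.mp hodd
  -- elements of order `n / 2` from `M ≅ D_n`
  have hdih : ∀ n : ℕ, n % 2 = 0 → 0 < n → (M ≃* DihedralGroup n) →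
      Nat.card (M.comap φ) = n ∧ ∃ x ∈ M.comap φ, 2 * orderOf x = n := by
    intro n hn hn0 e
    constructor
    · rw [Nat.card_congr e.toEquiv, DihedralGroup.nat_card] at hcard
      omega
    · set c : M := e.symm (DihedralGroup.r 1) with hc
      have hcord : orderOf (c : PGL(Fin 2, F)) = n := by
        rw [Subgroup.orderOf_coe, hc, MulEquiv.orderOf_eq, DihedralGroup.orderOf_r_one]
      obtain ⟨x, hxM, hx⟩ := exists_sq_preimage h2 M (c : PGL(Fin 2, F)) c.2
      refine ⟨x, hxM, ?_⟩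
      rw [← orderOf_injective φ hinj x, hx, ← pow_two,
        orderOf_pow_of_dvd (by norm_num) (by rw [hcord]; exact Nat.dvd_of_mod_eq_zero hn), hcord]
      omega
  rcases main_pgl hodd h3 M hM hML with h | ⟨hq5, ⟨e⟩⟩ | ⟨⟨e⟩⟩ | ⟨hqp, hq8, ⟨e⟩⟩ |
    ⟨F₀, i1, i2, r, hr, hrodd, hq, ⟨e⟩⟩
  · left
    rw [hcard, h]
  · right; left
    obtain ⟨h5, h6⟩ := hdih (Fintype.card F - 1) (by omega) (by omega) e
    exact ⟨hq5, h5, h6⟩
  · right; right; left
    exact hdih (Fintype.card F + 1) (by omega) (by omega) e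
  · right; right; right; left
    refine ⟨hqp, hq8, ?_, ?_⟩
    · rw [Nat.card_congr e.toEquiv, Cfsg.Agent.Lib.Helper9.PO.card_S4] at hcard
      omega
    · obtain ⟨X, Y, hXY, hXX, hYY⟩ := S4_sq_not_comm
      obtain ⟨x', hx'M, hx'⟩ := exists_sq_preimage h2 M (e.symm X : PGL(Fin 2, F)) (e.symm X).2
      obtain ⟨y', hy'M, hy'⟩ := exists_sq_preimage h2 M (e.symm Y : PGL(Fin 2, F)) (e.symm Y).2
      have hφx : φ (x' * x') = (e.symm X : PGL(Fin 2, F)) := by
        rw [map_mul, hx']
        have : e.symm X = (e.symm X * e.symm X) * (e.symm X * e.symm X) := by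
          rw [← map_mul, ← map_mul, ← hXX]
        exact (congrArg Subtype.val this).symm
      have hφy : φ (y' * y') = (e.symm Y : PGL(Fin 2, F)) := by
        rw [map_mul, hy']
        have : e.symm Y = (e.symm Y * e.symm Y) * (e.symm Y * e.symm Y) := by
          rw [← map_mul, ← map_mul, ← hYY]
        exact (congrArg Subtype.val this).symm
      refine ⟨x' * x', Subgroup.mul_mem _ hx'M hx'M, y' * y', Subgroup.mul_mem _ hy'M hy'M, ?_,
        x', hx'M, y', hy'M, rfl, rfl⟩
      intro hcomm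
      apply hXY
      have h5 := congrArg φ hcomm
      rw [map_mul φ (x' * x') (y' * y'), map_mul φ (y' * y') (x' * x'), hφx, hφy] at h5
      have h6 : e.symm X * e.symm Y = e.symm Y * e.symm X := Subtype.ext h5
      rw [← map_mul, ← map_mul] at h6
      exact e.symm.injective h6
  · right; right; right; right
    refine ⟨Fintype.card F₀, r, hr, hrodd, hq, ?_⟩
    rw [hcard, Nat.card_congr e.toEquiv, card_pgl_two]

/-- the intersection with `PSL₂(q)` of a maximal subgroup of `PGL₂(q)` not containing it,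
`q` odd -/
theorem inter_coatom_odd (hodd : Odd (Fintype.card F)) (h5 : 5 ≤ Fintype.card F)
    (h7 : Fintype.card F ≠ 7) (h9 : Fintype.card F ≠ 9) (h11 : Fintype.card F ≠ 11)
    (h40 : (Fintype.card F).Prime → Fintype.card F % 40 ∉ ({11, 19, 21, 29} : Finset ℕ))
    (M : Subgroup (PGL(Fin 2, F))) (hM : IsCoatom M) (hML : ¬ Lsub ≤ M) :
    IsCoatom (M.comap φ) := by
  classical
  haveI := finite_psl (F := F)
  obtain ⟨p, hp⟩ := CharP.exists F
  haveI := hp
  haveI : Fact p.Prime := ⟨CharP.char_is_prime F p⟩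
  have hne : M.comap φ ≠ ⊤ := by
    intro h
    apply hML
    rintro _ ⟨x, rfl⟩
    have : x ∈ M.comap φ := by rw [h]; trivial
    exact this
  obtain ⟨K₀, hK₀, hle⟩ := exists_coatom_ge (M.comap φ) hne
  have hKP := kp_of_coatom p hodd h5 K₀ hK₀
  have hMP := mp_of_coatom hodd (by omega) M hM hML
  have hpp : ∃ p f : ℕ, p.Prime ∧ Fintype.card F = p ^ f := by
    obtain ⟨n, hn1, hn2⟩ := FiniteField.card F p
    exact ⟨p, n, hn1, hn2⟩
  have hcard := card_eq_of_profiles (Fintype.card F) (Nat.odd_iff.mp hodd) h5 h7 h9 h11 h40 hpp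
    (M.comap φ) K₀ hle hMP hKP
  have heq : M.comap φ = K₀ := Subgroup.eq_of_le_of_card_ge hle hcard.ge
  rw [heq]
  exact hK₀

/-- in even characteristic `PSL₂(q)` is all of `PGL₂(q)` -/
theorem inter_coatom_even (heven : ¬ Odd (Fintype.card F))
    (M : Subgroup (PGL(Fin 2, F))) (hM : IsCoatom M) : IsCoatom (M.comap φ) := by
  classical
  haveI := finite_psl (F := F)
  haveI := finite_pgl (F := F)
  have hinj := ProjectiveSpecialLinearGroup.toPGL_injective (n := Fin 2) (R := F)
  have h2 : (2 : F) = 0 := by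
    have hch : ringChar F = 2 :=
      FiniteField.even_card_iff_char_two.mpr (by
        rcases Nat.even_or_odd (Fintype.card F) with h | h
        · exact Nat.even_iff.mp h
        · exact absurd h heven)
    have := ringChar.spec F 2
    rw [hch] at this
    have h3 := this.mpr dvd_rfl
    exact_mod_cast h3
  have hcardL : Nat.card (Lsub (F := F)) = Nat.card (PGL(Fin 2, F)) := by
    have h1 := card_psl_two (F := F)
    rw [gcd_two_of_even h2, one_mul] at h1
    rw [card_Lsub, h1, card_pgl_two]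
  have hLtop : Lsub (F := F) = ⊤ := (Subgroup.card_eq_iff_eq_top _).mp hcardL
  have hsurj : Function.Surjective φ := by
    intro g
    have : g ∈ Lsub (F := F) := by rw [hLtop]; trivial
    exact this
  set ψ : PSL ≃* PGL(Fin 2, F) := MulEquiv.ofBijective φ ⟨hinj, hsurj⟩ with hψ
  have h5 : M.comap φ = M.map ψ.symm.toMonoidHom := by
    have := Subgroup.comap_equiv_eq_map_symm ψ M
    exact this
  rw [h5]
  exact isCoatom_map_equiv ψ.symm M hM

/-- the intersection with the image of `SL₂(q)` of a maximal subgroup of `PGL₂(q)` -/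
theorem inter_coatom (h4 : 4 ≤ Fintype.card F)
    (h7 : Fintype.card F ≠ 7) (h9 : Fintype.card F ≠ 9) (h11 : Fintype.card F ≠ 11)
    (h40 : (Fintype.card F).Prime → Fintype.card F % 40 ∉ ({11, 19, 21, 29} : Finset ℕ))
    (M : Subgroup (PGL(Fin 2, F))) (hM : IsCoatom M) (hML : ¬ Lsub ≤ M) :
    IsCoatom ((M ⊓ Lsub).subgroupOf (Lsub (F := F))) := by
  have hinj := ProjectiveSpecialLinearGroup.toPGL_injective (n := Fin 2) (R := F)
  apply isCoatom_subgroupOf_of_comap φ hinj M
  by_cases hodd : Odd (Fintype.card F)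
  · have h5 : 5 ≤ Fintype.card F := by
      rcases hodd with ⟨t, ht⟩
      omega
    exact inter_coatom_odd hodd h5 h7 h9 h11 h40 M hM hML
  · exact inter_coatom_even hodd M hM

end Cfsg.Agent.Lib.Helper9.PO
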