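import Mathlib
import Cfsg.Prelude.Def_FusionSystem
import Cfsg.Agent.Lib.Helper9.PPINormal5
import Cfsg.Agent.Lib.Helper9.FusionReceptive
import Cfsg.Agent.Lib.Helper9.FusionSat3
import Cfsg.Agent.Lib.Helper9.FusionSat1

set_option autoImplicit false
set_option maxHeartbeats 1000000

/-! The extension condition for a saturated subsystem of `p`-power index over a normal subgroup. -/

namespace Cfsg.Agent.Lib.Helper9.H9PPI

open Cfsg Cfsg.FusionSystem Cfsg.Agent.Lib.Helper9

variable {Ω : Type*} [Group Ω] {S T : Subgroup Ω}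

/-- Every element of `Aut_F(T)` extends to `T C_S(T)`, for `T` strongly closed. -/
theorem restrictAut_surjective [Finite S] (p : ℕ) [Fact p.Prime] (hS : IsPGroup p S) (F : FusionSystem S)
    (hF : F.IsSaturated p) (hsc : F.StronglyClosed T) (hTn : S ≤ Subgroup.normalizer (T : Set Ω))
    (hUS : T ⊔ centralizerIn S T ≤ S) :
    Function.Surjective (restrictAut F hsc (le_sup_left : T ≤ T ⊔ centralizerIn S T) hUS) := by
  have hTS : T ≤ S := hsc.1
  have hNT : normalizerIn S T = S := le_antisymm inf_le_left (le_inf le_rfl hTn)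
  have hTfn : F.IsFullyNormalized T := by
    refine ⟨hTS, fun Q _ => ?_⟩
    rw [hNT]
    exact fs_card_le_of_le (fs_normalizerIn_le S Q)
  obtain ⟨hTc, -⟩ := fs_sylow_axiom p hS F hF hTfn
  have hTr := fs_extension_axiom p hS F hF hTc
  intro a
  have ha' := (mem_autGroup_iff F hTS (a : MulAut T)).mp a.2
  have hrange : (T.subtype.comp (a : MulAut T).toMonoidHom).range = T := by
    ext z
    constructor
    · rintro ⟨x, rfl⟩
      exact ((a : MulAut T) x).2
    · intro hz
      refine ⟨(a : MulAut T)⁻¹ ⟨z, hz⟩, ?_⟩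
      show ((((a : MulAut T)) ((a : MulAut T)⁻¹ ⟨z, hz⟩) : T) : Ω) = z
      rw [MulAut.apply_inv_self]
  obtain ⟨χ, hχ, hQN, hCN, Hχ, HχC⟩ := fs_receptive_extend F hTr ha' hrange
  have hUext : T ⊔ centralizerIn S T ≤ extender S T (T.subtype.comp (a : MulAut T).toMonoidHom) :=
    sup_le hQN hCN
  have hχU := fs_restrict_mem F hχ hUext
  have hval : ∀ y : ↥(T ⊔ centralizerIn S T), (χ.comp (Subgroup.inclusion hUext)) y ∈ T ⊔ centralizerIn S T := by
    have h1 : (T ⊔ centralizerIn S T).subgroupOf (extender S T (T.subtype.comp (a : MulAut T).toMonoidHom)) ≤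
        (T ⊔ centralizerIn S T).comap χ := by
      rw [Subgroup.subgroupOf_sup hQN hCN]
      apply sup_le
      · intro y hy
        rw [Subgroup.mem_subgroupOf] at hy
        rw [Subgroup.mem_comap]
        have := Hχ ⟨y, hy⟩
        have h2 : (⟨((⟨y, hy⟩ : T) : Ω), hQN hy⟩ : extender S T (T.subtype.comp (a : MulAut T).toMonoidHom)) = y :=
          Subtype.ext rfl
        rw [h2] at this
        rw [this]
        exact Subgroup.mem_sup_left ((a : MulAut T) ⟨y, hy⟩).2
      · intro y hy
        rw [Subgroup.mem_subgroupOf] at hy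
        rw [Subgroup.mem_comap]
        have := HχC ⟨y, hy⟩
        have h2 : (⟨((⟨y, hy⟩ : centralizerIn S T) : Ω), hCN hy⟩ :
            extender S T (T.subtype.comp (a : MulAut T).toMonoidHom)) = y := Subtype.ext rfl
        rw [h2] at this
        exact Subgroup.mem_sup_right this
    intro y
    have h2 : Subgroup.inclusion hUext y ∈
        (T ⊔ centralizerIn S T).subgroupOf (extender S T (T.subtype.comp (a : MulAut T).toMonoidHom)) := by
      rw [Subgroup.mem_subgroupOf]
      exact y.2
    exact h1 h2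
  obtain ⟨b, hb, Hb⟩ := fs_hom_to_aut F hχU hval
  refine ⟨⟨b, hb⟩, ?_⟩
  apply Subtype.ext
  have h1 := restrictAut_spec F hsc (le_sup_left : T ≤ T ⊔ centralizerIn S T) hUS ⟨b, hb⟩
  have h2 : IsRestrictAut (le_sup_left : T ≤ T ⊔ centralizerIn S T) b (a : MulAut T) := by
    intro t
    rw [Hb]
    exact (Hχ t).symm
  exact isRestrictAut_unique _ h1 h2

end Cfsg.Agent.Lib.Helper9.H9PPI
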