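import Mathlib
import Cfsg.Prelude.Def_FusionSystem
import Cfsg.Agent.Lib.Helper9.PPINormal6

set_option autoImplicit false
set_option maxHeartbeats 1000000

/-! A saturated subsystem of `p`-power index over a normal subgroup is normal. -/

namespace Cfsg.Agent.Lib.Helper9.H9PPI

open Cfsg Cfsg.FusionSystem Cfsg.Agent.Lib.Helper9

variable {Ω : Type*} [Group Ω] {S T : Subgroup Ω}

theorem extension_of_ppowerIndex [Finite S] (p : ℕ) [Fact p.Prime] (hS : IsPGroup p S) (F : FusionSystem S)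
    (hF : F.IsSaturated p) (hTS : T ≤ S) (hTn : S ≤ Subgroup.normalizer (T : Set Ω))
    (hT : F.hyperfocalSubgroup p ≤ T) (E : FusionSystem T) (hEs : E.IsSaturated p)
    (hEi : E.HasPPowerIndexIn F p) :
    ∀ α ∈ E.autGroup T, ∃ β ∈ F.autGroup (T ⊔ centralizerIn S T),
      (∀ x : T, ((β (Subgroup.inclusion le_sup_left x) : ↥(T ⊔ centralizerIn S T)) : Ω) = ((α x : T) : Ω)) ∧
      ∀ c : ↥(T ⊔ centralizerIn S T), (c : Ω) ∈ centralizerIn S T →
        (c : Ω)⁻¹ * ((β c : ↥(T ⊔ centralizerIn S T)) : Ω) ∈ T ⊓ Subgroup.centralizer (T : Set Ω) := by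
  have hsc := stronglyClosed_of_hyperfocal_le p hS F hF T hTS hTn hT
  have hUS : T ⊔ centralizerIn S T ≤ S := sup_le hTS inf_le_left
  have hTU : T ≤ T ⊔ centralizerIn S T := le_sup_left
  haveI hTfin : Finite T := fs_finite_of_le hTS
  haveI hUfin : Finite ↥(T ⊔ centralizerIn S T) := fs_finite_of_le hUS
  have hTp : IsPGroup p T := hS.to_le hTS
  have hsurj := restrictAut_surjective p hS F hF hsc hTn hUS
  have hresid := Cfsg.Agent.Lib.Helper6.pResidual_map_of_surjective (p := p) _ hsurj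
  have hNT : normalizerIn T T = T := le_antisymm inf_le_left (le_inf le_rfl Subgroup.le_normalizer)
  have hTfn : E.IsFullyNormalized T := by
    refine ⟨le_rfl, fun Q _ => ?_⟩
    rw [hNT]
    exact fs_card_le_of_le (fs_normalizerIn_le T Q)
  intro α hα
  obtain ⟨α₁, hα₁, s, hs, γ, Hγ, hαdec⟩ := fs_aut_decomp p hTp E hEs hTfn ⟨α, hα⟩
  have hle : E.autGroup T ≤ F.autGroup T := autGroup_le_of_subsystem E F hEi.1 le_rfl hTS
  have h1 : Subgroup.inclusion hle α₁ ∈ pResidual p (F.autGroup T) :=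
    Cfsg.Agent.Lib.Helper6.pResidual_map_le p (Subgroup.inclusion hle) ⟨α₁, hα₁, rfl⟩
  rw [← hresid] at h1
  obtain ⟨β₁, hβ₁, Hβ₁⟩ := h1
  -- conjugation by `s` on `U`
  have hsU : s ∈ T ⊔ centralizerIn S T := hTU hs
  have hvalδ : ∀ y : ↥(T ⊔ centralizerIn S T), conjHom (T ⊔ centralizerIn S T) s y ∈ T ⊔ centralizerIn S T := by
    intro y
    exact Subgroup.mul_mem _ (Subgroup.mul_mem _ hsU y.2) (Subgroup.inv_mem _ hsU)
  obtain ⟨δ, hδ, Hδ⟩ := fs_hom_to_aut F (F.conj_mem hUS (hTS hs)) hvalδ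
  have Hδ' : ∀ y : ↥(T ⊔ centralizerIn S T), ((δ y : ↥(T ⊔ centralizerIn S T)) : Ω) = s * (y : Ω) * s⁻¹ :=
    fun y => Hδ y
  have hspec := restrictAut_spec F hsc hTU hUS β₁
  rw [Hβ₁] at hspec
  have hαx : ∀ x : T, α x = (α₁ : MulAut T) ((γ : MulAut T) x) := by
    intro x
    have := congrArg (fun a : E.autGroup T => (a : MulAut T) x) hαdec
    simpa using this
  refine ⟨(β₁ : MulAut ↥(T ⊔ centralizerIn S T)) * δ, Subgroup.mul_mem _ β₁.2 hδ, ?_, ?_⟩
  · intro x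
    rw [MulAut.mul_apply]
    have h2 : δ (Subgroup.inclusion le_sup_left x) = ⟨(((γ : MulAut T) x : T) : Ω), hTU ((γ : MulAut T) x).2⟩ := by
      apply Subtype.ext
      rw [Hδ', Hγ]
      rfl
    rw [h2, ← hspec ((γ : MulAut T) x), hαx]
    rfl
  · intro c hc
    rw [MulAut.mul_apply]
    have hcs : s * (c : Ω) * s⁻¹ = c := by
      have := (Subgroup.mem_centralizer_iff.mp hc.2) s hs
      rw [this]; group
    have h2 : δ c = c := by
      apply Subtype.ext
      rw [Hδ', hcs]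
    rw [h2]
    refine ⟨hT (residual_quot_mem_hyperfocal F p hUS β₁ hβ₁ c), ?_⟩
    have hβc : (((β₁ : MulAut ↥(T ⊔ centralizerIn S T)) c : ↥(T ⊔ centralizerIn S T)) : Ω) ∈
        Subgroup.centralizer (T : Set Ω) := by
      rw [Subgroup.mem_centralizer_iff]
      intro t ht
      -- t = β₁ (t') with t' ∈ T
      have hinv : (β₁ : MulAut ↥(T ⊔ centralizerIn S T))⁻¹ ∈ F.autGroup (T ⊔ centralizerIn S T) :=
        Subgroup.inv_mem _ β₁.2
      have ht' : ((((β₁ : MulAut ↥(T ⊔ centralizerIn S T))⁻¹ ⟨t, hTU ht⟩ : ↥(T ⊔ centralizerIn S T))) : Ω) ∈ T :=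
        fs_stronglyClosed_mem F hsc ((mem_autGroup_iff F hUS _).mp hinv) ⟨t, hTU ht⟩ ht
      have hcomm : (β₁ : MulAut ↥(T ⊔ centralizerIn S T))⁻¹ ⟨t, hTU ht⟩ * c =
          c * (β₁ : MulAut ↥(T ⊔ centralizerIn S T))⁻¹ ⟨t, hTU ht⟩ := by
        apply Subtype.ext
        exact (Subgroup.mem_centralizer_iff.mp hc.2) _ ht'
      have h3 := congrArg (fun z => (((β₁ : MulAut ↥(T ⊔ centralizerIn S T)) z : ↥(T ⊔ centralizerIn S T)) : Ω)) hcomm
      simp only [map_mul, MulAut.apply_inv_self, Subgroup.coe_mul] at h3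
      exact h3
    exact Subgroup.mul_mem _ (Subgroup.inv_mem _ hc.2) hβc

/-- A saturated subsystem of `p`-power index over a subgroup normal in `S` is a normal subsystem. -/
theorem normal_of_ppowerIndex [Finite S] (p : ℕ) [Fact p.Prime] (hS : IsPGroup p S) (F : FusionSystem S)
    (hF : F.IsSaturated p) (hTS : T ≤ S) (hTn : S ≤ Subgroup.normalizer (T : Set Ω))
    (hT : F.hyperfocalSubgroup p ≤ T) (E : FusionSystem T) (hEs : E.IsSaturated p)
    (hEi : E.HasPPowerIndexIn F p) : E.IsNormalIn F p :=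
  ⟨⟨hEs, hF, invariant_of_ppowerIndex p hS F hF hTS hTn hT E hEs hEi⟩,
    extension_of_ppowerIndex p hS F hF hTS hTn hT E hEs hEi⟩

end Cfsg.Agent.Lib.Helper9.H9PPI
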