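import Mathlib
import Cfsg.Agent.Lib.Helper9.PPMA

set_option autoImplicit false

/-! S3795 package PPMA2: sharpened forms of the Hall–Higman inequalities of `Helper9.PPMA`
(second inequality as an equality, `dim Y ≤ dim End_x(Y)`, the arithmetic of the sharp
per-weight lemma, and the spectrum in the case of equality). -/

namespace Cfsg.Agent.Lib.Helper9.PPMA2

open Module Cfsg.Agent.Lib.Helper4.FM Cfsg.Agent.Lib.Helper4.HH

open scoped commutatorElement

variable {K : Type*} [Field K] [IsAlgClosed K] {G : Type*} [Group G] {Y : Type*} [AddCommGroup Y]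
  [Module K Y] [FiniteDimensional K Y] (ρ : Representation K G Y) (Q : Subgroup G)
  [hQn : Q.Normal] [Finite Q]

/-- the second Hall–Higman inequality, as the equality it really is. -/
theorem second_eq_pp (hQ : (Nat.card Q : K) ≠ 0)
    (H1 : ∀ u ∈ Q, ∀ v ∈ Q, ∃ c : K, ρ ⁅u, v⁆ = c • 1)
    (Z₁ : Subgroup G) (hZQ : Z₁ ≤ Q) (Hs : ∀ n ∈ Z₁, ∃ c : K, ρ n = c • 1)
    (x : G) (hfin : IsOfFinOrder x)
    (Hgen : ∀ e ∈ Subgroup.zpowers x, e ≠ 1 → ∀ S : Subgroup G,
      (∀ m ∈ Q, m⁻¹ * e⁻¹ * m * e ∈ S) → Z₁ ≤ S → Q ≤ S) :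
    orderOf x * finrank K (inv (ad ρ) (Subgroup.zpowers x)) + finrank K (inv (ad ρ) Q) =
      orderOf x * finrank K ↥(inv (ad ρ) (Subgroup.zpowers x) ⊓ inv (ad ρ) Q) +
        finrank K Y * finrank K Y := by
  classical
  let _ : Fintype Q := Fintype.ofFinite Q
  have hcard : Nat.card (Subgroup.zpowers x) = orderOf x := Nat.card_zpowers x
  have : Finite (Subgroup.zpowers x) := by
    apply Nat.finite_of_card_ne_zero
    rw [hcard]
    exact (orderOf_pos_iff.mpr hfin).ne'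
  have hc : IsCompl (inv (ad ρ) Q) (ycomp (ad ρ) Q) := isCompl_inv_ycomp (ad ρ) Q hQ
  have hZ : ∀ g, inv (ad ρ) Q ≤ (inv (ad ρ) Q).comap (ad ρ g) := inv_invariant (ad ρ) Q
  have hY : ∀ g, ycomp (ad ρ) Q ≤ (ycomp (ad ρ) Q).comap (ad ρ g) := ycomp_invariant (ad ρ) Q
  have hadd := finrank_inv_add (ad ρ) _ _ hZ hY hc (Subgroup.zpowers x)
  have hsub := finrank_inv_sub (ad ρ) _ hZ (Subgroup.zpowers x)
  have hcomm' : ∀ a b : Q, Commute ((ad ρ).subrepresentation _ hY (a : G))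
      ((ad ρ).subrepresentation _ hY (b : G)) :=
    fun a b => sub_commute (ad ρ) _ hY _ _ (ad_commute ρ Q H1 a b)
  have hindep := iSupIndep_wt ((ad ρ).subrepresentation _ hY) Q hcomm'
  have hspan := iSup_wt_eq_top ((ad ρ).subrepresentation _ hY) Q hcomm' hQ
  have hinv' : inv ((ad ρ).subrepresentation _ hY) Q = ⊥ :=
    inv_sub_eq_bot (ad ρ) _ hY Q hc.inf_eq_bot
  have hfree : ∀ e ∈ Subgroup.zpowers x, e ≠ 1 →
      ∀ χ : Q → K, wt ((ad ρ).subrepresentation _ hY) Q χ ≠ ⊥ → conjWt Q e χ ≠ χ := by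
    intro e he he1
    apply free_of_gen _ Q e _ hinv'
    intro S hS hn
    apply Hgen e he he1 S hS
    intro n hnZ
    apply hn n (hZQ hnZ)
    obtain ⟨c, hc'⟩ := Hs n hnZ
    have h1 : ad ρ n = ad ρ 1 := by
      rw [ad_eq_one_of_scalar ρ n c hc', map_one]
    rw [sub_eq_of_eq (ad ρ) _ hY n 1 h1, map_one]
  obtain ⟨h1, h2⟩ := finrank_eq_of_free _ Q (Subgroup.zpowers x) hindep hspan hfree
  have h3 := finrank_add_of_isCompl _ _ hc
  rw [Module.finrank_linearMap] at h3
  rw [hcard] at h1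
  rw [hadd, h2, h3, h1, mul_add, hsub]
  omega

omit [hQn : Q.Normal] [Finite Q] in
/-- `dim Y ≤ dim End_x(Y)` for a semisimple `x`. -/
theorem finrank_le_inv_ad (x : G) (r : ℕ) (hr : 0 < r) (hx : x ^ r = 1) (hrK : (r : K) ≠ 0) :
    finrank K Y ≤ finrank K (inv (ad ρ) (Subgroup.zpowers x)) := by
  classical
  set S : Finset K := Polynomial.nthRootsFinset r (1 : K) with hS
  have hout : ∀ μ : K, μ ∉ S → Module.End.eigenspace (ρ x) μ = ⊥ := by
    intro μ hμ
    rw [Submodule.eq_bot_iff]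
    intro v hv
    by_contra hv0
    apply hμ
    rw [Module.End.mem_eigenspace_iff] at hv
    have hpow : ∀ n : ℕ, ρ (x ^ n) v = μ ^ n • v := by
      intro n
      induction n with
      | zero => simp
      | succ n ih => rw [pow_succ, rho_mul_apply, hv, map_smul, ih, smul_smul, pow_succ, mul_comm]
    have h1 := hpow r
    rw [hx, map_one, Module.End.one_apply] at h1
    have h2 : (μ ^ r - 1) • v = 0 := by rw [sub_smul, one_smul, ← h1, sub_self]
    have h3 : μ ^ r = 1 := by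
      rcases smul_eq_zero.1 h2 with h | h
      · exact sub_eq_zero.1 h
      · exact absurd h hv0
    rw [hS, Polynomial.mem_nthRootsFinset hr]
    exact h3
  have htop : ⨆ μ ∈ S, Module.End.eigenspace (ρ x) μ = ⊤ := by
    rw [eq_top_iff, ← iSup_eigenspace_eq_top ρ x r hrK hx]
    apply iSup_le
    intro μ
    by_cases hμ : μ ∈ S
    · exact le_biSup (fun μ => Module.End.eigenspace (ρ x) μ) hμ
    · rw [hout μ hμ]
      exact bot_le
  have hD := sum_finrank_eq_of_indep _ (Module.End.eigenspaces_iSupIndep (ρ x)) S htop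
  have hE : ∑ μ ∈ S, finrank K (emu (ρ x) μ) ≤
      finrank K (inv (ad ρ) (Subgroup.zpowers x)) := by
    rw [← finrank_biSup_of_indep _ (emu_indep (ρ x)) S]
    apply Submodule.finrank_mono
    apply iSup₂_le
    intro μ _
    exact emu_le_inv ρ x μ
  rw [← hD]
  refine le_trans ?_ hE
  apply Finset.sum_le_sum
  intro μ _
  refine le_trans ?_ (finrank_emu_ge (ρ x) μ)
  exact Nat.le_mul_self _

/-- the arithmetic of the sharp per-weight lemma. -/
theorem pw2_arith (o d c D : ℕ) (hc : 1 ≤ c) (hd : 2 ≤ d) (F1 : o * D + c = o + d * d)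
    (F2 : d ≤ D) (F3 : d * d ≤ (o - 1) * D) : c = 1 ∧ d = o - 1 ∧ D = o - 1 := by
  rcases Nat.eq_zero_or_pos o with ho | ho
  · subst ho
    simp at F3
    omega
  obtain ⟨s, rfl⟩ : ∃ s, o = s + 1 := ⟨o - 1, by omega⟩
  rw [Nat.add_sub_cancel] at F3 ⊢
  -- d² ≤ s (s + 1 - c)
  have h1 : (s + 1) * (d * d) + s * c ≤ s * (s + 1) + s * (d * d) := by
    have := Nat.mul_le_mul_left (s + 1) F3
    nlinarith
  have h2 : (s + 1) * d + c ≤ (s + 1) + d * d := by
    have := Nat.mul_le_mul_left (s + 1) F2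
    nlinarith
  have hc1 : c = 1 := by
    by_contra hne
    have hc2 : 2 ≤ c := by omega
    -- d ≤ s - 1 from h1, then h2 contradiction
    have hds : d < s := by
      by_contra hge
      have hge' : s ≤ d := by omega
      nlinarith
    nlinarith
  subst hc1
  have hds : d = s := by
    have hle : d ≤ s := by
      by_contra hge
      have hge' : s + 1 ≤ d := by omega
      nlinarith
    have hge : s ≤ d := by
      by_contra hlt
      have hlt' : d + 1 ≤ s := by omega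
      nlinarith
    omega
  subst hds
  refine ⟨rfl, rfl, ?_⟩
  nlinarith

omit [hQn : Q.Normal] [Finite Q] in
/-- in the case of equality `dim Y = r - 1 = dim End_x(Y)`, every `r`-th root of unity other than
`1` is an eigenvalue of `x` of multiplicity one. -/
theorem finrank_eigenspace_of_eq (x : G) (r : ℕ) (hr : 0 < r) (hx : x ^ r = 1)
    (hrK : (r : K) ≠ 0) (H4 : inv ρ (Subgroup.zpowers x) = ⊥) (hd : finrank K Y = r - 1)
    (hD : finrank K (inv (ad ρ) (Subgroup.zpowers x)) ≤ r - 1) (μ : K) (hμ : μ ^ r = 1)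
    (hμ1 : μ ≠ 1) : finrank K (Module.End.eigenspace (ρ x) μ) = 1 := by
  classical
  set S : Finset K := (Polynomial.nthRootsFinset r (1 : K)).erase 1 with hS
  have hout : ∀ μ : K, μ ∉ S → Module.End.eigenspace (ρ x) μ = ⊥ := by
    intro μ hμ
    rw [Submodule.eq_bot_iff]
    intro v hv
    by_contra hv0
    apply hμ
    rw [Module.End.mem_eigenspace_iff] at hv
    have hpow : ∀ n : ℕ, ρ (x ^ n) v = μ ^ n • v := by
      intro n
      induction n with
      | zero => simp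
      | succ n ih => rw [pow_succ, rho_mul_apply, hv, map_smul, ih, smul_smul, pow_succ, mul_comm]
    have h1 := hpow r
    rw [hx, map_one, Module.End.one_apply] at h1
    have h2 : (μ ^ r - 1) • v = 0 := by rw [sub_smul, one_smul, ← h1, sub_self]
    have h3 : μ ^ r = 1 := by
      rcases smul_eq_zero.1 h2 with h | h
      · exact sub_eq_zero.1 h
      · exact absurd h hv0
    rw [hS, Finset.mem_erase, Polynomial.mem_nthRootsFinset hr]
    refine ⟨?_, h3⟩
    rintro rfl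
    rw [one_smul] at hv
    have hxf : x ∈ fixer ρ v := hv
    have hle : Subgroup.zpowers x ≤ fixer ρ v := (Subgroup.zpowers_le).2 hxf
    have hvi : v ∈ inv ρ (Subgroup.zpowers x) := fun s hs => hle hs
    rw [H4] at hvi
    exact hv0 ((Submodule.mem_bot K).1 hvi)
  have htop : ⨆ μ ∈ S, Module.End.eigenspace (ρ x) μ = ⊤ := by
    rw [eq_top_iff, ← iSup_eigenspace_eq_top ρ x r hrK hx]
    apply iSup_le
    intro μ
    by_cases hμ : μ ∈ S
    · exact le_biSup (fun μ => Module.End.eigenspace (ρ x) μ) hμ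
    · rw [hout μ hμ]
      exact bot_le
  have hsum := sum_finrank_eq_of_indep _ (Module.End.eigenspaces_iSupIndep (ρ x)) S htop
  have hE : ∑ μ ∈ S, finrank K (emu (ρ x) μ) ≤
      finrank K (inv (ad ρ) (Subgroup.zpowers x)) := by
    rw [← finrank_biSup_of_indep _ (emu_indep (ρ x)) S]
    apply Submodule.finrank_mono
    apply iSup₂_le
    intro μ _
    exact emu_le_inv ρ x μ
  have hcard : S.card ≤ r - 1 := by
    have h1 : (1 : K) ∈ Polynomial.nthRootsFinset r (1 : K) := by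
      rw [Polynomial.mem_nthRootsFinset hr, one_pow]
    rw [hS, Finset.card_erase_of_mem h1]
    apply Nat.sub_le_sub_right
    rw [Polynomial.nthRootsFinset_def]
    exact le_trans (Multiset.toFinset_card_le _) (Polynomial.card_nthRoots r 1)
  set m : K → ℕ := fun μ => finrank K (Module.End.eigenspace (ρ x) μ) with hm
  have hsq : ∑ ν ∈ S, m ν * m ν ≤ ∑ ν ∈ S, m ν := by
    rw [hsum, hd]
    refine le_trans ?_ (le_trans hE hD)
    apply Finset.sum_le_sum
    intro ν _
    exact finrank_emu_ge (ρ x) ν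
  -- termwise `m ≤ m * m`, so equality termwise
  have hle1 : ∀ ν ∈ S, m ν ≤ 1 := by
    intro ν hν
    by_contra hgt
    have hgt' : 2 ≤ m ν := by omega
    have hlt : ∑ ν ∈ S, m ν < ∑ ν ∈ S, m ν * m ν := by
      apply Finset.sum_lt_sum
      · intro i _
        exact Nat.le_mul_self _
      · exact ⟨ν, hν, by nlinarith⟩
    omega
  have hμS : μ ∈ S := by
    rw [hS, Finset.mem_erase, Polynomial.mem_nthRootsFinset hr]
    exact ⟨hμ1, hμ⟩
  have hμle := hle1 μ hμS
  by_contra hne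
  have h0 : m μ = 0 := by
    have : m μ ≠ 1 := hne
    omega
  have hlt : ∑ ν ∈ S, m ν < ∑ ν ∈ S, 1 := by
    apply Finset.sum_lt_sum
    · exact hle1
    · exact ⟨μ, hμS, by omega⟩
  rw [Finset.sum_const, smul_eq_mul, mul_one, hsum, hd] at hlt
  omega

omit [hQn : Q.Normal] [Finite Q] in
theorem eigenspace_ne_bot_of_eq (x : G) (r : ℕ) (hr : 0 < r) (hx : x ^ r = 1)
    (hrK : (r : K) ≠ 0) (H4 : inv ρ (Subgroup.zpowers x) = ⊥) (hd : finrank K Y = r - 1)
    (hD : finrank K (inv (ad ρ) (Subgroup.zpowers x)) ≤ r - 1) (μ : K) (hμ : μ ^ r = 1)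
    (hμ1 : μ ≠ 1) : Module.End.eigenspace (ρ x) μ ≠ ⊥ := by
  intro h
  have h1 := finrank_eigenspace_of_eq ρ x r hr hx hrK H4 hd hD μ hμ hμ1
  rw [h, finrank_bot] at h1
  omega

/-- the sharp per-weight claim: if the only endomorphisms commuting with `Q` and `x` are the
scalars (Schur), then `Y` is `Q`-irreducible (`dim End_Q(Y) = 1`), `dim Y = o - 1` and every
`o`-th root of unity other than `1` is an eigenvalue of `x` of multiplicity one (`o = |x|`). -/
theorem pw2_claim (hQ : (Nat.card Q : K) ≠ 0)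
    (H1 : ∀ u ∈ Q, ∀ v ∈ Q, ∃ c : K, ρ ⁅u, v⁆ = c • 1)
    (Z₁ : Subgroup G) (hZQ : Z₁ ≤ Q) (Hs : ∀ n ∈ Z₁, ∃ c : K, ρ n = c • 1)
    (x : G) (hfin : IsOfFinOrder x) (hrK : (orderOf x : K) ≠ 0)
    (Hgen : ∀ e ∈ Subgroup.zpowers x, e ≠ 1 → ∀ S : Subgroup G,
      (∀ m ∈ Q, m⁻¹ * e⁻¹ * m * e ∈ S) → Z₁ ≤ S → Q ≤ S)
    (H4 : inv ρ (Subgroup.zpowers x) = ⊥)
    (hSchur : finrank K ↥(inv (ad ρ) (Subgroup.zpowers x) ⊓ inv (ad ρ) Q) = 1)
    (hd2 : 2 ≤ finrank K Y) :
    finrank K (inv (ad ρ) Q) = 1 ∧ finrank K Y = orderOf x - 1 ∧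
      ∀ μ : K, μ ^ orderOf x = 1 → μ ≠ 1 →
        finrank K (Module.End.eigenspace (ρ x) μ) = 1 := by
  have hpos : 0 < orderOf x := orderOf_pos_iff.mpr hfin
  have h2 := second_eq_pp ρ Q hQ H1 Z₁ hZQ Hs x hfin Hgen
  have h3 := PPMA.third_ineq_pp ρ x (orderOf x) hpos (pow_orderOf_eq_one x) hrK H4
  have hF2 := finrank_le_inv_ad ρ x (orderOf x) hpos (pow_orderOf_eq_one x) hrK
  have hc : 1 ≤ finrank K (inv (ad ρ) Q) := by
    rw [Nat.one_le_iff_ne_zero]
    intro h0
    have hbot := Submodule.finrank_eq_zero.1 h0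
    have h1m := one_mem_inv_ad ρ Q
    rw [hbot, Submodule.mem_bot] at h1m
    have hY0 : finrank K Y = 0 := by
      rw [Module.finrank_zero_iff]
      refine ⟨fun a b => ?_⟩
      have ha := LinearMap.congr_fun h1m a
      have hb := LinearMap.congr_fun h1m b
      rw [Module.End.one_apply, LinearMap.zero_apply] at ha hb
      rw [ha, hb]
    omega
  rw [hSchur, mul_one] at h2
  obtain ⟨hc1, hd, hD⟩ := pw2_arith _ _ _ _ hc hd2 h2 hF2 h3
  refine ⟨hc1, hd, ?_⟩
  intro μ hμ hμ1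
  exact finrank_eigenspace_of_eq ρ x (orderOf x) hpos (pow_orderOf_eq_one x) hrK H4 hd hD.le
    μ hμ hμ1

end Cfsg.Agent.Lib.Helper9.PPMA2
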