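import Mathlib
import Cfsg.Agent.Lib.Helper4.PPDefs
import Cfsg.Agent.Lib.Helper4.HH13
import Cfsg.Agent.Lib.Helper4.PPD

set_option autoImplicit false

namespace Cfsg.Agent.Lib.Helper9.PPMD2

open Module Cfsg.Agent.Lib.Helper4.FM Cfsg.Agent.Lib.Helper4.HH Cfsg.Agent.Lib.Helper4.PP
open Cfsg.Agent.Lib.Helper4.PPD

open scoped commutatorElement

universe u

variable {K : Type*} [Field K] [IsAlgClosed K] {G : Type u} [Group G] [Finite G] {W : Type*}
  [AddCommGroup W] [Module K W] [FiniteDimensional K W] (σ : Representation K G W)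
  (Q : Subgroup G) [hQn : Q.Normal]

omit [IsAlgClosed K] [FiniteDimensional K W] [Finite G] hQn in
/-- the stabilizer of a submodule contains a finite-order element as soon as the element maps the
submodule into itself. -/
theorem stable_pow (Y : Submodule K W) (g : G) (hg : Y ≤ Y.comap (σ g)) (n : ℕ) :
    Y ≤ Y.comap (σ (g ^ n)) := by
  induction n with
  | zero => intro v hv; simpa using hv
  | succ n ih =>
    intro v hv
    rw [pow_succ, Submodule.mem_comap, map_mul, Module.End.mul_apply]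
    exact ih (hg hv)

omit [IsAlgClosed K] [FiniteDimensional K W] hQn in
theorem stable_sup (Y : Submodule K W) (y : G) (hYQ : ∀ m ∈ Q, Y ≤ Y.comap (σ m))
    (hYy : Y ≤ Y.comap (σ y)) : ∀ g ∈ Q ⊔ Subgroup.zpowers y, Y ≤ Y.comap (σ g) := by
  -- the set of elements mapping `Y` into itself, together with their inverses
  let S : Subgroup G :=
    { carrier := {g | Y ≤ Y.comap (σ g) ∧ Y ≤ Y.comap (σ g⁻¹)}
      mul_mem' := by
        rintro a b ⟨ha, ha'⟩ ⟨hb, hb'⟩
        refine ⟨?_, ?_⟩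
        · intro v hv
          rw [Submodule.mem_comap, map_mul, Module.End.mul_apply]
          exact ha (hb hv)
        · intro v hv
          rw [Submodule.mem_comap, mul_inv_rev, map_mul, Module.End.mul_apply]
          exact hb' (ha' hv)
      one_mem' := by
        refine ⟨?_, ?_⟩
        · intro v hv; simpa using hv
        · intro v hv; simpa using hv
      inv_mem' := by
        rintro a ⟨ha, ha'⟩
        exact ⟨ha', by rwa [inv_inv]⟩ }
  have hQS : Q ≤ S := fun m hm => ⟨hYQ m hm, hYQ m⁻¹ (Q.inv_mem hm)⟩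
  have hyS : y ∈ S := by
    refine ⟨hYy, ?_⟩
    have h1 : y⁻¹ = y ^ (orderOf y - 1) := by
      have hpos : 0 < orderOf y := orderOf_pos y
      rw [inv_eq_iff_mul_eq_one, ← pow_succ', Nat.sub_add_cancel hpos, pow_orderOf_eq_one]
    rw [h1]
    exact stable_pow σ Y y hYy _
  have hle : Q ⊔ Subgroup.zpowers y ≤ S := sup_le hQS ((Subgroup.zpowers_le).mpr hyS)
  intro g hg
  exact (hle hg).1

theorem pp_weight' (q : ℕ) (hq : q.Prime) (hQ : IsPGroup q Q) (hqK : (q : K) ≠ 0)
    (Z : Subgroup G) (hZQ : Z ≤ Q)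
    (hZc : ∀ z ∈ Z, ∀ m ∈ Q, m * z = z * m)
    (hder : ∀ u ∈ Q, ∀ v ∈ Q, ⁅u, v⁆ ∈ Z) (hpow : ∀ m ∈ Q, m ^ q ∈ Z)
    (y τ : G) (p a : ℕ) (hp : p.Prime) (hp2 : p ≠ 2) (hqp : q ≠ p) (hy : orderOf y = p ^ a)
    (hpK : (p : K) ≠ 0)
    (hcyc : ∀ e ∈ Subgroup.zpowers y, e ≠ 1 → τ ∈ Subgroup.zpowers e)
    (hτy : τ ∈ Subgroup.zpowers y)
    (hZτ : ∀ m ∈ Q, τ * m = m * τ → m ∈ Z)
    (Hgenτ : ∀ S : Subgroup G, (∀ m ∈ Q, m⁻¹ * τ⁻¹ * m * τ ∈ S) → Q ≤ S)
    (Y : Submodule K W) (hYQ : ∀ m ∈ Q, Y ≤ Y.comap (σ m)) (hYy : Y ≤ Y.comap (σ y))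
    (hY : Y ≠ ⊥)
    (hZs : ∀ z ∈ Z, ∃ c : K, ∀ v ∈ Y, σ z v = c • v)
    (H4 : ∀ v ∈ Y, σ y v = v → v = 0) :
    (∀ m ∈ Q, ∀ v ∈ Y, σ m v = v) ∨
    (q = 2 ∧ ∃ j : ℕ, p ^ a = 2 ^ j + 1 ∧
      ((zkerOn σ Q Y hYQ).subgroupOf Q).index = 2 ^ (2 * j)) := by
  classical
  set H : Subgroup G := Q ⊔ Subgroup.zpowers y with hH
  have hQH : Q ≤ H := le_sup_left
  have hyH : y ∈ H := (le_sup_right : Subgroup.zpowers y ≤ H) (Subgroup.mem_zpowers y)
  have hτH : τ ∈ H := (le_sup_right : Subgroup.zpowers y ≤ H) hτy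
  set σ' : Representation K H W := σ.comp H.subtype with hσ'
  have hσ'app : ∀ g : H, σ' g = σ (g : G) := fun g => rfl
  have hYinv : ∀ g : H, Y ≤ Y.comap (σ' g) := fun g => stable_sup σ Q Y y hYQ hYy g g.2
  have hzp : ∀ (g : H) (e : H), e ∈ Subgroup.zpowers g ↔ (e : G) ∈ Subgroup.zpowers (g : G) := by
    intro g e
    rw [Subgroup.mem_zpowers_iff, Subgroup.mem_zpowers_iff]
    constructor
    · rintro ⟨k, hk⟩
      exact ⟨k, by rw [← hk]; simp⟩
    · rintro ⟨k, hk⟩
      exact ⟨k, Subtype.ext (by rw [← hk]; simp)⟩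
  have key := pp_weight σ' (Q.subgroupOf H) q hq hQ.comap_subtype hqK (Z.subgroupOf H)
    (by intro z hz; exact hZQ hz)
    (by
      intro z hz m hm
      apply Subtype.ext
      exact hZc z hz m hm)
    (by
      intro u hu v hv
      have := hder u hu v hv
      rw [Subgroup.mem_subgroupOf]
      simpa [commutatorElement_def] using this)
    (by
      intro m hm
      have := hpow m hm
      rw [Subgroup.mem_subgroupOf]
      simpa using this)
    ⟨y, hyH⟩ ⟨τ, hτH⟩ p a hp hp2 hqp (by rw [Subgroup.orderOf_mk]; exact hy) hpK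
    (by
      intro e he he1
      rw [hzp] at he ⊢
      exact hcyc e he (fun h => he1 (Subtype.ext h)))
    (by rw [hzp]; exact hτy)
    (by
      intro m hm hcomm
      exact hZτ m hm (congrArg Subtype.val hcomm))
    (by
      intro S hS
      have h1 : Q ≤ S.map H.subtype := by
        apply Hgenτ
        intro m hm
        refine ⟨(⟨m, hQH hm⟩ : H)⁻¹ * (⟨τ, hτH⟩ : H)⁻¹ * ⟨m, hQH hm⟩ * ⟨τ, hτH⟩, hS _ hm, ?_⟩
        simp
      intro m hm
      obtain ⟨s, hs, hsm⟩ := h1 hm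
      have : s = m := Subtype.ext hsm
      exact this ▸ hs)
    Y hYinv hY
    (by
      intro z hz
      exact hZs z hz)
    (by
      intro v hv hfix
      exact H4 v hv hfix)
  rcases key with h1 | ⟨hq2, j, hj, hidx⟩
  · left
    intro m hm v hv
    exact h1 ⟨m, hQH hm⟩ hm v hv
  · right
    refine ⟨hq2, j, hj, ?_⟩
    rw [← hidx]
    -- identify the two kernels
    have hker : zker (σ'.subrepresentation Y hYinv) (Q.subgroupOf H) =
        (zkerOn σ Q Y hYQ).subgroupOf H := by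
      ext m
      constructor
      · intro hm'
        rw [mem_zker] at hm'
        obtain ⟨hm, hc⟩ := hm'
        rw [Subgroup.mem_subgroupOf] at hm
        rw [Subgroup.mem_subgroupOf, mem_zkerOn]
        refine ⟨hm, ?_⟩
        intro u hu v hv
        have h2 := hc ⟨u, hQH hu⟩ hu
        have h3 := LinearMap.congr_fun h2.eq ⟨v, hv⟩
        have h4 := congrArg Subtype.val h3
        rw [map_mul, map_mul, Module.End.mul_apply, Module.End.mul_apply]
        exact h4.symm
      · intro hm'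
        rw [Subgroup.mem_subgroupOf, mem_zkerOn] at hm'
        obtain ⟨hm, hc⟩ := hm'
        rw [mem_zker]
        refine ⟨Subgroup.mem_subgroupOf.mpr hm, ?_⟩
        intro u hu
        apply LinearMap.ext
        rintro ⟨v, hv⟩
        apply Subtype.ext
        have h2 := hc (u : G) hu v hv
        rw [map_mul, map_mul, Module.End.mul_apply, Module.End.mul_apply] at h2
        exact h2.symm
    rw [hker]
    have h5 := Subgroup.relIndex_subgroupOf (H := zkerOn σ Q Y hYQ) (K := Q) (L := H) hQH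
    exact h5.symm

end Cfsg.Agent.Lib.Helper9.PPMD2
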