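import Mathlib
import Cfsg.Prelude.Def_FusionComponents
import Cfsg.Agent.Lib.Helper9.PPowerIndex1

set_option autoImplicit false
open Cfsg
open Cfsg.FusionSystem

/-! The full subsystem on a subgroup, and containment of saturated subsystems in subsystems of `p`-power index. -/

namespace Cfsg.Agent.Lib.Helper9

variable {Ω : Type*} [Group Ω] {S : Subgroup Ω}

/-- The full subsystem of `F` on a subgroup `T ≤ S`: all maps of `F` between subgroups of `T`. -/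
def fullSub (F : FusionSystem S) (T : Subgroup Ω) (hTS : T ≤ S) : FusionSystem T where
  Hom P := {φ | φ ∈ F.Hom P ∧ P ≤ T ∧ ∀ x : P, φ x ∈ T}
  le_of_mem h := h.2
  injective_of_mem h := F.injective_of_mem h.1
  conj_mem := by
    intro P g hP hg
    refine ⟨F.conj_mem (hP.trans hTS) (hTS hg), hP, fun x => ?_⟩
    show g * (x : Ω) * g⁻¹ ∈ T
    exact Subgroup.mul_mem _ (Subgroup.mul_mem _ hg (hP x.2)) (Subgroup.inv_mem _ hg)
  comp_mem := by
    rintro P Q φ ψ ⟨hφ, hP, hφT⟩ ⟨hψ, hQ, hψT⟩ h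
    exact ⟨F.comp_mem hφ hψ h, hP, fun x => hψT _⟩
  inv_mem := by
    rintro P φ ⟨hφ, hP, hφT⟩
    obtain ⟨ψ, hψ, Hψ⟩ := F.inv_mem hφ
    refine ⟨ψ, ⟨hψ, ?_, ?_⟩, Hψ⟩
    · rintro _ ⟨x, rfl⟩
      exact hφT x
    · rintro ⟨_, x, rfl⟩
      rw [Hψ x]
      exact hP x.2

theorem mem_fullSub_iff (F : FusionSystem S) (T : Subgroup Ω) (hTS : T ≤ S) {P : Subgroup Ω} (φ : P →* Ω) :
    φ ∈ (fullSub F T hTS).Hom P ↔ φ ∈ F.Hom P ∧ P ≤ T ∧ ∀ x : P, φ x ∈ T := Iff.rfl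

/-- A saturated subsystem of `F` over `T₁` is contained in any system over `T₂ ≥ T₁` whose automizers contain the
`p`-residuals of the automizers of `F`. -/
theorem saturated_le_of_ppowerIndex [Finite S] (p : ℕ) [Fact p.Prime] (hS : IsPGroup p S) (F : FusionSystem S)
    {T₁ T₂ : Subgroup Ω} (hT₁₂ : T₁ ≤ T₂) (hT₂S : T₂ ≤ S) (E₁ : FusionSystem T₁) (E₂ : FusionSystem T₂)
    (h₁s : E₁.IsSaturated p) (h₁ : E₁.IsSubsystemOf F)
    (h₂ : ∀ P : Subgroup Ω, P ≤ T₂ → (pResidual p (F.autGroup P)).map (F.autGroup P).subtype ≤ E₂.autGroup P)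
    (P : Subgroup Ω) : E₁.Hom P ⊆ E₂.Hom P := by
  have hT₁S : T₁ ≤ S := hT₁₂.trans hT₂S
  haveI hTfin : Finite T₁ := Finite.of_injective (Subgroup.inclusion hT₁S) (Subgroup.inclusion_injective hT₁S)
  have hTp : IsPGroup p T₁ := hS.to_le hT₁S
  intro φ hφ
  refine (fs_le_of_autGroup_le p hTp E₁ (fullSub E₂ T₁ hT₁₂) h₁s ?_ _ P φ hφ rfl).1
  intro R hRn _
  have hRT : R ≤ T₁ := hRn.1
  haveI : Finite R := fs_finite_of_le hRT
  haveI : Finite (E₁.autGroup R) := inferInstance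
  obtain ⟨_, Rs, hRs⟩ := (fs_sylow_axiom p hTp E₁ h₁s hRn).2
  have htop := Cfsg.Agent.Lib.Helper6.pResidual_sup_sylow Rs
  have hfull : ∀ g : MulAut R, g ∈ E₂.autGroup R → g ∈ (fullSub E₂ T₁ hT₁₂).autGroup R := by
    intro g hg
    rw [mem_autGroup_iff _ (hRT.trans hT₁₂)] at hg
    rw [mem_autGroup_iff _ hRT]
    exact ⟨hg, hRT, fun x => hRT (g x).2⟩
  have hle : pResidual p (E₁.autGroup R) ⊔ (Rs : Subgroup (E₁.autGroup R)) ≤
      ((fullSub E₂ T₁ hT₁₂).autGroup R).subgroupOf (E₁.autGroup R) := by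
    apply sup_le
    · apply Cfsg.Agent.Lib.Helper6.pResidual_le_of_forall
      intro g hg
      rw [Subgroup.mem_subgroupOf]
      have hgF : (g : MulAut R) ∈ F.autGroup R := autGroup_le_of_subsystem E₁ F h₁ hRT hT₁S g.2
      have hord : orderOf (⟨(g : MulAut R), hgF⟩ : F.autGroup R) = orderOf g := by
        rw [Subgroup.orderOf_mk, Subgroup.orderOf_coe]
      have hmem : (⟨(g : MulAut R), hgF⟩ : F.autGroup R) ∈ pResidual p (F.autGroup R) :=
        Cfsg.Agent.Lib.Helper6.mem_pResidual_of_coprime' (hord ▸ hg)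
      exact hfull _ (h₂ R (hRT.trans hT₁₂) ⟨_, hmem, rfl⟩)
    · rw [hRs]
      intro g hg
      rw [Subgroup.mem_subgroupOf] at hg ⊢
      exact autInducedBy_le_autGroup (fullSub E₂ T₁ hT₁₂) hRT hg
  intro α hα
  have h1 : (⟨α, hα⟩ : E₁.autGroup R) ∈ (⊤ : Subgroup (E₁.autGroup R)) := Subgroup.mem_top _
  rw [← htop] at h1
  have h2 := hle h1
  rw [Subgroup.mem_subgroupOf] at h2
  exact h2

end Cfsg.Agent.Lib.Helper9
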