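import Mathlib
import Cfsg.Agent.Lib.Helper7.MaxCls4
import Cfsg.Agent.Lib.Lead.BurnsideBasis

set_option autoImplicit false

/-!
# Pearls: general counting lemmas

Fibre counting for the commutator map `k ↦ ⁅k, s⁆`, commutation modulo a normal subgroup, the
homomorphism `a ↦ ⁅a, x⁆ N`, and index bounds for intersections.
-/

namespace Cfsg.Agent.H9PRL

open scoped commutatorElement
open Cfsg.Agent.Lib.Helper7.MaxCls

variable {G : Type*} [Group G]

/-- the injection behind fibre counting -/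
theorem exists_inj_of_fibre [Finite G] (K C : Subgroup G) {Y : Type*} (f : ↥K → Y)
    (hf : ∀ k k' : ↥K, f k = f k' → (k : G)⁻¹ * k' ∈ C) :
    ∃ g : ↥K → Y × ↥(K ⊓ C), Function.Injective g ∧ (∀ k, (g k).1 = f k) ∧
      ∀ y, (∃ k, f k = y) → ∃ k, g k = (y, 1) := by
  classical
  have hex : ∀ k : ↥K, f (Function.invFun f (f k)) = f k := fun k => Function.invFun_eq ⟨k, rfl⟩
  have hmem : ∀ k : ↥K, ((Function.invFun f (f k) : ↥K) : G)⁻¹ * (k : G) ∈ K ⊓ C := fun k =>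
    ⟨K.mul_mem (K.inv_mem (Function.invFun f (f k)).2) k.2, hf _ _ (hex k)⟩
  refine ⟨fun k => (f k, ⟨((Function.invFun f (f k) : ↥K) : G)⁻¹ * (k : G), hmem k⟩), ?_,
    fun k => rfl, ?_⟩
  · intro k k' h
    have h1 : f k = f k' := congrArg Prod.fst h
    have h2 := congrArg (fun t : Y × ↥(K ⊓ C) => ((t.2 : ↥(K ⊓ C)) : G)) h
    simp only at h2
    rw [h1] at h2
    exact Subtype.ext (mul_left_cancel h2)
  · rintro y ⟨k, rfl⟩
    refine ⟨Function.invFun f (f k), ?_⟩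
    apply Prod.ext
    · exact hex k
    · apply Subtype.ext
      show ((Function.invFun f (f (Function.invFun f (f k))) : ↥K) : G)⁻¹ *
        ((Function.invFun f (f k) : ↥K) : G) = 1
      rw [hex k, inv_mul_cancel]

/-- fibre counting -/
theorem card_le_of_fibre [Finite G] (K C : Subgroup G) {Y : Type*} [Finite Y] (f : ↥K → Y)
    (hf : ∀ k k' : ↥K, f k = f k' → (k : G)⁻¹ * k' ∈ C) :
    Nat.card K ≤ Nat.card Y * Nat.card ↥(K ⊓ C) := by
  obtain ⟨g, hg, -, -⟩ := exists_inj_of_fibre K C f hf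
  calc Nat.card K ≤ Nat.card (Y × ↥(K ⊓ C)) := Nat.card_le_card_of_injective g hg
    _ = _ := Nat.card_prod _ _

/-- fibre counting: equality forces surjectivity -/
theorem surj_of_fibre [Finite G] (K C : Subgroup G) {Y : Type*} [Finite Y] (f : ↥K → Y)
    (hf : ∀ k k' : ↥K, f k = f k' → (k : G)⁻¹ * k' ∈ C)
    (hcard : Nat.card Y * Nat.card ↥(K ⊓ C) ≤ Nat.card K) : Function.Surjective f := by
  obtain ⟨g, hg, hg1, -⟩ := exists_inj_of_fibre K C f hf
  have hbij : Function.Bijective g := hg.bijective_of_nat_card_le (by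
    rw [Nat.card_prod]; exact hcard)
  intro y
  obtain ⟨k, hk⟩ := hbij.2 (y, 1)
  exact ⟨k, by rw [← hg1 k, hk]⟩

theorem comm_eq_imp {s k k' : G} (h : ⁅k, s⁆ = ⁅k', s⁆) :
    k⁻¹ * k' ∈ Subgroup.centralizer ({s} : Set G) := by
  rw [Subgroup.mem_centralizer_singleton_iff]
  have h1 : k * s * k⁻¹ = k' * s * k'⁻¹ := by
    have := congrArg (fun t => t * s) h
    simpa [commutatorElement_def] using this
  calc k⁻¹ * k' * s = k⁻¹ * (k' * s * k'⁻¹) * k' := by group
    _ = k⁻¹ * (k * s * k⁻¹) * k' := by rw [h1]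
    _ = s * (k⁻¹ * k') := by group

/-- `|K| ≤ |N| |C(s)|` when all `⁅k, s⁆`, `k ∈ K`, lie in `N` -/
theorem card_le_of_comm_mem [Finite G] (K N : Subgroup G) (s : G) (h : ∀ k ∈ K, ⁅k, s⁆ ∈ N) :
    Nat.card K ≤ Nat.card N * Nat.card (Subgroup.centralizer ({s} : Set G)) := by
  have h1 := card_le_of_fibre K (Subgroup.centralizer ({s} : Set G))
    (fun k : ↥K => (⟨⁅(k : G), s⁆, h k k.2⟩ : ↥N)) (fun k k' hk =>
      comm_eq_imp (congrArg (fun t : ↥N => (t : G)) hk))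
  refine le_trans h1 (Nat.mul_le_mul_left _ ?_)
  exact Subgroup.card_le_of_le inf_le_right

/-- in case of equality every element of `N` is a commutator with `s` -/
theorem exists_comm_eq [Finite G] (N : Subgroup G) (s : G) (h : ∀ k : G, ⁅k, s⁆ ∈ N)
    (hcard : Nat.card N * Nat.card (Subgroup.centralizer ({s} : Set G)) ≤ Nat.card G) :
    ∀ v ∈ N, ∃ k : G, ⁅k, s⁆ = v := by
  have h1 := surj_of_fibre (⊤ : Subgroup G) (Subgroup.centralizer ({s} : Set G))
    (fun k : ↥(⊤ : Subgroup G) => (⟨⁅(k : G), s⁆, h k⟩ : ↥N)) (fun k k' hk =>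
      comm_eq_imp (congrArg (fun t : ↥N => (t : G)) hk)) (by
      rw [top_inf_eq, Subgroup.card_top]; exact hcard)
  intro v hv
  obtain ⟨k, hk⟩ := h1 ⟨v, hv⟩
  exact ⟨k, congrArg (fun t : ↥N => (t : G)) hk⟩

/-- commutators modulo a normal subgroup, as commutation in the quotient -/
theorem comm_mem_iff (N : Subgroup G) [N.Normal] (a b : G) :
    ⁅a, b⁆ ∈ N ↔ Commute (QuotientGroup.mk' N a) (QuotientGroup.mk' N b) := by
  rw [← commutatorElement_eq_one_iff_commute, ← map_commutatorElement]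
  exact (QuotientGroup.eq_one_iff _).symm

theorem comm_mem_symm (N : Subgroup G) [N.Normal] {a b : G} (h : ⁅a, b⁆ ∈ N) : ⁅b, a⁆ ∈ N := by
  rw [comm_mem_iff] at h ⊢
  exact h.symm

/-- if `t` commutes mod `N` with `g` and with `e`, it commutes mod `N` with `g ^ a * e` -/
theorem comm_mem_zpow_mul (N : Subgroup G) [N.Normal] {t g e : G}
    (htg : ⁅t, g⁆ ∈ N) (hte : ⁅t, e⁆ ∈ N) (a : ℤ) : ⁅t, g ^ a * e⁆ ∈ N := by
  rw [comm_mem_iff] at htg hte ⊢
  rw [map_mul, map_zpow]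
  exact (htg.zpow_right a).mul_right hte

/-- a subgroup `⟨g⟩E` is abelian mod `N` if `E` is and `g` centralizes `E` mod `N` -/
theorem comm_le_of_gen (D E N : Subgroup G) [N.Normal] (hEE : ⁅E, E⁆ ≤ N) (g : G)
    (hgE : ∀ e ∈ E, ⁅g, e⁆ ∈ N)
    (hgen : ∀ d ∈ D, ∃ a : ℤ, ∃ e ∈ E, d = g ^ a * e) : ⁅D, D⁆ ≤ N := by
  rw [Subgroup.commutator_le]
  intro d₁ h₁ d₂ h₂
  obtain ⟨a, e₁, he₁, rfl⟩ := hgen d₁ h₁
  obtain ⟨b, e₂, he₂, rfl⟩ := hgen d₂ h₂
  have hee : ⁅e₁, e₂⁆ ∈ N := hEE (Subgroup.commutator_mem_commutator he₁ he₂)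
  have h1 := hgE e₁ he₁
  have h2 := hgE e₂ he₂
  rw [comm_mem_iff] at hee h1 h2 ⊢
  simp only [map_mul, map_zpow]
  have hgg : Commute (QuotientGroup.mk' N g ^ a) (QuotientGroup.mk' N g ^ b) :=
    (Commute.refl _).zpow_zpow a b
  exact (hgg.mul_right (h2.zpow_left a)).mul_left ((h1.zpow_left b).symm.mul_right hee)

/-- the homomorphism `a ↦ ⁅a, x⁆ N`, when these commutators are central modulo `N` -/
def commHom (N : Subgroup G) [N.Normal] (x : G) (h : ∀ a b : G, ⁅⁅a, x⁆, b⁆ ∈ N) : G →* G ⧸ N where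
  toFun a := QuotientGroup.mk' N ⁅a, x⁆
  map_one' := by simp
  map_mul' a b := by
    have h1 : ⁅a * b, x⁆ = a * ⁅b, x⁆ * a⁻¹ * ⁅a, x⁆ := by
      simp only [commutatorElement_def]; group
    have h2 : Commute (QuotientGroup.mk' N ⁅b, x⁆) (QuotientGroup.mk' N a) :=
      (comm_mem_iff N _ _).1 (h b a)
    have h3 : Commute (QuotientGroup.mk' N ⁅b, x⁆) (QuotientGroup.mk' N ⁅a, x⁆) :=
      (comm_mem_iff N _ _).1 (h b ⁅a, x⁆)
    rw [h1, map_mul, map_mul, map_mul, map_inv, ← h2.eq, mul_inv_cancel_right]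
    exact h3.eq

theorem commHom_apply (N : Subgroup G) [N.Normal] (x : G) (h : ∀ a b : G, ⁅⁅a, x⁆, b⁆ ∈ N)
    (a : G) : commHom N x h a = QuotientGroup.mk' N ⁅a, x⁆ := rfl

theorem mem_ker_commHom (N : Subgroup G) [N.Normal] (x : G) (h : ∀ a b : G, ⁅⁅a, x⁆, b⁆ ∈ N)
    (a : G) : a ∈ (commHom N x h).ker ↔ ⁅a, x⁆ ∈ N := by
  rw [MonoidHom.mem_ker, commHom_apply]
  exact QuotientGroup.eq_one_iff _

/-- `|HN/N| |N| = |H|` for `N ≤ H` -/
theorem card_map_mk_mul_card [Finite G] (N H : Subgroup G) [N.Normal] (h : N ≤ H) :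
    Nat.card (H.map (QuotientGroup.mk' N)) * Nat.card N = Nat.card H := by
  have h1 := Subgroup.relIndex_ker (QuotientGroup.mk' N) (K := H)
  rw [QuotientGroup.ker_mk'] at h1
  rw [← h1]
  have h2 := Subgroup.relIndex_mul_relIndex ⊥ N H bot_le h
  rw [Subgroup.relIndex_bot_left, Subgroup.relIndex_bot_left] at h2
  rw [mul_comm]; exact h2

/-- `|K ∩ B| ≤ |B : A| |K ∩ A|` for `A ≤ B` -/
theorem card_inf_le_mul [Finite G] (K A B : Subgroup G) (hAB : A ≤ B) (m : ℕ)
    (hm : Nat.card B = m * Nat.card A) :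
    Nat.card ↥(K ⊓ B) ≤ m * Nat.card ↥(K ⊓ A) := by
  have h1 := Subgroup.relIndex_mul_relIndex ⊥ (K ⊓ A) (K ⊓ B) bot_le
    (inf_le_inf_left K hAB)
  rw [Subgroup.relIndex_bot_left, Subgroup.relIndex_bot_left] at h1
  have h2 : (K ⊓ A).relIndex (K ⊓ B) = A.relIndex (K ⊓ B) := by
    have : K ⊓ A = A ⊓ (K ⊓ B) := by
      apply le_antisymm
      · exact le_inf inf_le_right (inf_le_inf_left K hAB)
      · exact le_inf (inf_le_right.trans inf_le_left) inf_le_left
    rw [this, Subgroup.inf_relIndex_right]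
  have h3 : A.relIndex (K ⊓ B) ≤ A.relIndex B :=
    Subgroup.relIndex_le_of_le_right inf_le_right
      (show (A.subgroupOf B).index ≠ 0 from Subgroup.index_ne_zero_of_finite)
  have h4 := Subgroup.relIndex_mul_relIndex ⊥ A B bot_le hAB
  rw [Subgroup.relIndex_bot_left, Subgroup.relIndex_bot_left, hm] at h4
  have hApos : 0 < Nat.card A := Nat.card_pos
  have h5 : A.relIndex B = m := by
    have : Nat.card A * A.relIndex B = Nat.card A * m := by rw [h4, mul_comm]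
    exact Nat.eq_of_mul_eq_mul_left hApos this
  rw [← h1, h2, mul_comm]
  exact Nat.mul_le_mul_right _ (h5 ▸ h3)

/-- three subgroups lemma modulo a normal subgroup -/
theorem three_subgroups_mod (H₁ H₂ H₃ N : Subgroup G) [hN : N.Normal] (h1 : ⁅⁅H₂, H₃⁆, H₁⁆ ≤ N)
    (h2 : ⁅⁅H₃, H₁⁆, H₂⁆ ≤ N) : ⁅⁅H₁, H₂⁆, H₃⁆ ≤ N := by
  have hker : (QuotientGroup.mk' N).ker = N := QuotientGroup.ker_mk' N
  have e1 : ⁅⁅H₂.map (QuotientGroup.mk' N), H₃.map (QuotientGroup.mk' N)⁆,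
      H₁.map (QuotientGroup.mk' N)⁆ = ⊥ := by
    rw [← Subgroup.map_commutator, ← Subgroup.map_commutator, Subgroup.map_eq_bot_iff, hker]
    exact h1
  have e2 : ⁅⁅H₃.map (QuotientGroup.mk' N), H₁.map (QuotientGroup.mk' N)⁆,
      H₂.map (QuotientGroup.mk' N)⁆ = ⊥ := by
    rw [← Subgroup.map_commutator, ← Subgroup.map_commutator, Subgroup.map_eq_bot_iff, hker]
    exact h2
  have e3 := Subgroup.commutator_commutator_eq_bot_of_rotate e1 e2
  rw [← Subgroup.map_commutator, ← Subgroup.map_commutator, Subgroup.map_eq_bot_iff, hker] at e3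
  exact e3

/-- no subgroup of order `9 |N|` avoiding `s` can centralize `s` modulo `N` -/
theorem no_big_centMod [Finite G] (N A : Subgroup G) [N.Normal] (s : G) (hs : s ∉ A)
    (hA : ∀ a ∈ A, ⁅a, s⁆ ∈ N) (hc : Nat.card (Subgroup.centralizer ({s} : Set G)) ≤ 9)
    (hcard : 9 * Nat.card N ≤ Nat.card A) : False := by
  have hAK : A ≤ centMod N s := fun a ha => mem_centMod.2 (hA a ha)
  have hsK : s ∈ centMod N s := by
    rw [mem_centMod, commutatorElement_self]; exact N.one_mem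
  have hlt : A < centMod N s := lt_of_le_of_ne hAK (fun h => hs (h ▸ hsK))
  have h1 : Nat.card (centMod N s) ≤ Nat.card N * Nat.card (Subgroup.centralizer ({s} : Set G)) :=
    card_le_of_comm_mem _ N s (fun k hk => mem_centMod.1 hk)
  have h2 : Nat.card A ∣ Nat.card (centMod N s) := Subgroup.card_dvd_of_le hAK
  have h3 : Nat.card A < Nat.card (centMod N s) := by
    rcases lt_or_eq_of_le (Subgroup.card_le_of_le hAK) with h | h
    · exact h
    · exact absurd (Subgroup.eq_of_le_of_card_ge hAK h.ge) hlt.ne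
  obtain ⟨t, ht⟩ := h2
  have hApos : 0 < Nat.card A := Nat.card_pos
  have hNpos : 0 < Nat.card N := Nat.card_pos
  have ht2 : 2 ≤ t := by
    by_contra hcon
    have : t = 0 ∨ t = 1 := by omega
    rcases this with rfl | rfl
    · rw [mul_zero] at ht; omega
    · rw [mul_one] at ht; omega
  have h4 : 2 * Nat.card A ≤ Nat.card (centMod N s) := by
    rw [ht, mul_comm]; exact Nat.mul_le_mul_left _ ht2
  have h5 : Nat.card N * Nat.card (Subgroup.centralizer ({s} : Set G)) ≤ Nat.card N * 9 :=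
    Nat.mul_le_mul_left _ hc
  nlinarith

end Cfsg.Agent.H9PRL
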