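import Mathlib
import Cfsg.Agent.Lib.Helper9.PRL1

set_option autoImplicit false

/-!
# Pearls: a `3`-group with an element whose centralizer has order `9` has maximal class
-/

namespace Cfsg.Agent.H9PRL

open scoped commutatorElement
open Cfsg.Agent.Lib.Helper7.MaxCls Cfsg.Agent.Lib.Lead

variable {G : Type*} [Group G]

local notation "Γ" => Subgroup.lowerCentralSeries (⊤ : Subgroup G)

theorem lcs_stable {j : ℕ} (h : Γ (j + 1) = Γ j) : ∀ m, Γ (j + m) = Γ j := by
  intro m
  induction m with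
  | zero => rfl
  | succ m ih =>
    rw [← add_assoc, Subgroup.lowerCentralSeries_succ, ih, ← Subgroup.lowerCentralSeries_succ, h]

theorem lcs_eq_bot_of_stable (hnil : ∃ k, Γ k = ⊥) {j : ℕ} (h : Γ (j + 1) = Γ j) : Γ j = ⊥ := by
  obtain ⟨k, hk⟩ := hnil
  rw [eq_bot_iff, ← lcs_stable h k, ← hk]
  exact Subgroup.lowerCentralSeries_antitone _ (Nat.le_add_left k j)

theorem comm_mem_lcs_succ (j : ℕ) {a : G} (ha : a ∈ Γ j) (b : G) : ⁅a, b⁆ ∈ Γ (j + 1) := by
  rw [Subgroup.lowerCentralSeries_succ]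
  exact Subgroup.commutator_mem_commutator ha (Subgroup.mem_top b)

theorem comm_mem_lcs_succ' (j : ℕ) {a : G} (ha : a ∈ Γ j) (b : G) : ⁅b, a⁆ ∈ Γ (j + 1) := by
  rw [← commutatorElement_inv]
  exact Subgroup.inv_mem _ (comm_mem_lcs_succ j ha b)

theorem pow_eq_of_le {a b : ℕ} (h1 : 3 ^ (b + 1) ≤ 3 ^ a) (h2 : 3 ^ a < 3 ^ (b + 2)) :
    a = b + 1 := by
  have h3 : b + 1 ≤ a := (Nat.pow_le_pow_iff_right (by norm_num)).1 h1
  have h4 : a < b + 2 := (Nat.pow_lt_pow_iff_right (by norm_num)).1 h2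
  omega

variable [Finite G]

/-- a `3`-group of order `3 ^ n`, `n ≥ 3`, with an element `s` such that `|C(s)| = 9` has maximal
class, and `s` lies outside the commutator subgroup -/
theorem isMC_of_cent [Fact (Nat.Prime 3)] (n : ℕ) (hn : 3 ≤ n) (hcard : Nat.card G = 3 ^ n) (s : G)
    (hs : Nat.card (Subgroup.centralizer ({s} : Set G)) = 9) :
    IsMC 3 n G ∧ s ∉ Γ 1 := by
  have hG : IsPGroup 3 G := IsPGroup.of_card hcard
  have hnil : ∃ k, Γ k = ⊥ := Subgroup.nilpotent_iff_lowerCentralSeries.1 hG.isNilpotent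
  have h27 : 27 ≤ Nat.card G := by
    rw [hcard]
    calc 27 = 3 ^ 3 := by norm_num
      _ ≤ 3 ^ n := Nat.pow_le_pow_right (by norm_num) hn
  -- `G` is not abelian
  have h1ne : Γ 1 ≠ ⊥ := by
    intro h
    have htop : Subgroup.centralizer ({s} : Set G) = ⊤ := by
      rw [eq_top_iff]
      intro g _
      rw [Subgroup.mem_centralizer_singleton_iff]
      have h1 : ⁅g, s⁆ ∈ Γ 1 := comm_mem_lcs_succ 0 (Subgroup.mem_top g) s
      rw [h, Subgroup.mem_bot, commutatorElement_eq_one_iff_mul_comm] at h1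
      exact h1
    rw [htop, Subgroup.card_top] at hs
    omega
  have h1top : Γ 1 ≠ ⊤ := by
    intro h
    have h2 : Γ 0 = ⊥ := lcs_eq_bot_of_stable hnil (j := 0) h
    apply h1ne
    rw [eq_bot_iff, ← h2]
    exact Subgroup.lowerCentralSeries_antitone _ (Nat.zero_le 1)
  have hA : Nat.card G ≤ 9 * Nat.card (Γ 1) := by
    have := card_le_of_comm_mem (⊤ : Subgroup G) (Γ 1) s
      (fun k _ => comm_mem_lcs_succ 0 (Subgroup.mem_top k) s)
    rw [Subgroup.card_top, hs, mul_comm] at this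
    exact this
  obtain ⟨e₁, he₁⟩ := (hG.to_subgroup (Γ 1)).exists_card_eq
  have hdvd : Nat.card (Γ 1) ∣ Nat.card G := Subgroup.card_subgroup_dvd_card _
  rw [he₁, hcard] at hdvd
  have hle : e₁ ≤ n := (Nat.pow_dvd_pow_iff_le_right (by norm_num)).1 hdvd
  have hge : n ≤ e₁ + 2 := by
    rw [hcard, he₁] at hA
    have : 3 ^ n ≤ 3 ^ (e₁ + 2) := by
      calc 3 ^ n ≤ 9 * 3 ^ e₁ := hA
        _ = 3 ^ (e₁ + 2) := by rw [pow_add]; ring
    exact (Nat.pow_le_pow_iff_right (by norm_num)).1 this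
  have hne0 : e₁ ≠ n := by
    intro h
    apply h1top
    apply Subgroup.eq_top_of_card_eq
    rw [he₁, h, hcard]
  have hne1 : e₁ + 1 ≠ n := by
    intro h
    have hc : Nat.card (⊤ : Subgroup G) = 3 * Nat.card (Γ 1) := by
      rw [Subgroup.card_top, hcard, he₁, ← h, pow_succ, mul_comm]
    obtain ⟨g, hg⟩ : ∃ g : G, g ∉ Γ 1 := by
      by_contra hcon
      push Not at hcon
      exact h1top (eq_top_iff.2 fun x _ => hcon x)
    have hgen := exists_zpow_mul (p := 3) ⊤ (Γ 1) le_top hc g (Subgroup.mem_top g) hg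
    have h1 : ⁅(⊤ : Subgroup G), (⊤ : Subgroup G)⁆ ≤ Γ 2 := by
      apply comm_le_of_cyclic ⊤ (Γ 1) (Γ 2) le_top _ g (Subgroup.mem_top g) hgen
      rw [Subgroup.commutator_comm]
      exact le_of_eq (Subgroup.lowerCentralSeries_succ _ 1).symm
    have h2 : Γ 2 = Γ 1 := by
      apply le_antisymm (Subgroup.lowerCentralSeries_antitone _ (by norm_num))
      have : Γ 1 = ⁅(⊤ : Subgroup G), (⊤ : Subgroup G)⁆ := by
        rw [Subgroup.lowerCentralSeries_succ, Subgroup.lowerCentralSeries_zero]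
      rw [this]; exact h1
    exact h1ne (lcs_eq_bot_of_stable hnil (j := 1) h2)
  have he₁' : e₁ + 2 = n := by omega
  have hc1 : 9 * Nat.card (Γ 1) = Nat.card G := by
    rw [he₁, hcard, ← he₁', pow_add]; ring
  -- `s` lies outside the commutator subgroup
  have hs1 : s ∉ Γ 1 := by
    intro hs1
    have h1 := card_le_of_comm_mem (⊤ : Subgroup G) (Γ 2) s
      (fun k _ => comm_mem_lcs_succ' 1 hs1 k)
    rw [Subgroup.card_top, hs, ← hc1] at h1
    have h2 : Γ 2 = Γ 1 := by
      apply Subgroup.eq_of_le_of_card_ge (Subgroup.lowerCentralSeries_antitone _ (by norm_num))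
      omega
    exact h1ne (lcs_eq_bot_of_stable hnil (j := 1) h2)
  have hsj : ∀ j, 1 ≤ j → s ∉ Γ j := fun j hj hsj =>
    hs1 (Subgroup.lowerCentralSeries_antitone _ hj hsj)
  -- each step has index `3`
  have hstep : ∀ j, 1 ≤ j → Γ j ≠ ⊥ → Nat.card (Γ j) = 3 * Nat.card (Γ (j + 1)) := by
    intro j hj hjne
    have hlt : Γ (j + 1) < Γ j := by
      refine lt_of_le_of_ne (Subgroup.lowerCentralSeries_antitone _ (Nat.le_succ j)) ?_
      intro h
      exact hjne (lcs_eq_bot_of_stable hnil h)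
    have h1 : 3 * Nat.card (Γ (j + 1)) ≤ Nat.card (Γ j) := card_mul_le_of_lt hG hlt
    have h2 : Nat.card (Γ j) < 9 * Nat.card (Γ (j + 1)) := by
      by_contra hcon
      push Not at hcon
      exact no_big_centMod (Γ (j + 1)) (Γ j) s (hsj j hj)
        (fun a ha => comm_mem_lcs_succ j ha s) hs.le hcon
    obtain ⟨a, ha⟩ := (hG.to_subgroup (Γ j)).exists_card_eq
    obtain ⟨b, hb⟩ := (hG.to_subgroup (Γ (j + 1))).exists_card_eq
    rw [ha, hb] at h1 h2 ⊢
    have h3 : a = b + 1 := by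
      apply pow_eq_of_le
      · rw [pow_succ, mul_comm]; exact h1
      · calc 3 ^ a < 9 * 3 ^ b := h2
          _ = 3 ^ (b + 2) := by rw [pow_add]; ring
    rw [h3, pow_succ, mul_comm]
  have hcardj : ∀ j, 1 ≤ j → j ≤ n - 1 → Nat.card (Γ j) = 3 ^ (n - 1 - j) := by
    intro j hj
    induction j, hj using Nat.le_induction with
    | base =>
      intro _
      rw [he₁]; congr 1; omega
    | succ j hj ih =>
      intro hjn
      have h1 := ih (by omega)
      have hjne : Γ j ≠ ⊥ := by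
        intro h
        rw [h, Subgroup.card_bot] at h1
        have : 3 ^ 1 ≤ 3 ^ (n - 1 - j) := Nat.pow_le_pow_right (by norm_num) (by omega)
        omega
      have h2 := hstep j hj hjne
      rw [h1] at h2
      have h3 : 3 ^ (n - 1 - j) = 3 * 3 ^ (n - 1 - (j + 1)) := by
        rw [← pow_succ']; congr 1; omega
      rw [h3] at h2
      exact (Nat.eq_of_mul_eq_mul_left (by norm_num) h2).symm
  refine ⟨⟨hG, hn, hcard, ?_, ?_⟩, hs1⟩
  · have := hcardj (n - 1) (by omega) le_rfl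
    rw [Nat.sub_self, pow_zero] at this
    exact Subgroup.card_eq_one.1 this
  · intro h
    have := hcardj (n - 2) (by omega) (by omega)
    rw [h, Subgroup.card_bot] at this
    have h2 : n - 1 - (n - 2) = 1 := by omega
    rw [h2] at this
    omega

end Cfsg.Agent.H9PRL
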