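import Mathlib
import Cfsg.Agent.Lib.Helper9.PRL2

set_option autoImplicit false

/-!
# Pearls: uniformity of `s`, the subgroup `L₁ = C_G(γ₂/γ₄)`, the norm identity and cubes
-/

namespace Cfsg.Agent.H9PRL

open scoped commutatorElement
open Cfsg.Agent.Lib.Helper7.MaxCls Cfsg.Agent.Lib.Lead

variable {G : Type*} [Group G]

local notation "Γ" => Subgroup.lowerCentralSeries (⊤ : Subgroup G)

/-- the standing hypotheses: maximal class `3`-group of order `3 ^ n ≥ 81` with an element `s`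
outside the commutator subgroup with centralizer of order `9` and central cube -/
structure Ctx (G : Type*) [Group G] (n : ℕ) (s : G) : Prop where
  mc : IsMC 3 n G
  four : 4 ≤ n
  cent : Nat.card (Subgroup.centralizer ({s} : Set G)) = 9
  s1 : s ∉ (⊤ : Subgroup G).lowerCentralSeries 1
  cube : ∀ g : G, s ^ 3 * g = g * s ^ 3

/-- a commutative-monoid computation with three pairwise commuting elements -/
theorem comm_expand {M : Type*} [Group M] {a b e : M} (hab : a * b = b * a) (hae : a * e = e * a)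
    (hbe : b * e = e * b) : a * (b * a) * (e * b * (b * a)) = a ^ 3 * b ^ 3 * e := by
  calc a * (b * a) * (e * b * (b * a))
      = a * (a * b) * (e * b * (a * b)) := by rw [← hab]
    _ = a * a * b * (e * (b * a) * b) := by group
    _ = a * a * b * (e * (a * b) * b) := by rw [← hab]
    _ = a * a * (b * e) * a * b * b := by group
    _ = a * a * (e * b) * a * b * b := by rw [hbe]
    _ = a * a * e * (b * a) * b * b := by group
    _ = a * a * e * (a * b) * b * b := by rw [← hab]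
    _ = a * a * (e * a) * b * b * b := by group
    _ = a * a * (a * e) * b * b * b := by rw [← hae]
    _ = a * a * a * (e * b) * b * b := by group
    _ = a * a * a * (b * e) * b * b := by rw [← hbe]
    _ = a * a * a * b * (e * b) * b := by group
    _ = a * a * a * b * (b * e) * b := by rw [← hbe]
    _ = a * a * a * b * b * (e * b) := by group
    _ = a * a * a * b * b * (b * e) := by rw [← hbe]
    _ = a ^ 3 * b ^ 3 * e := by simp only [pow_succ, pow_zero, one_mul, mul_assoc]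

/-- the expansion of `g τ(g) τ²(g)` modulo `N` -/
theorem cube_expand (N : Subgroup G) [N.Normal] (s g : G)
    (h1 : ⁅g, ⁅s, g⁆⁆ ∈ N) (h2 : ⁅g, ⁅s, ⁅s, g⁆⁆⁆ ∈ N) (h3 : ⁅⁅s, g⁆, ⁅s, ⁅s, g⁆⁆⁆ ∈ N)
    (hc3 : ⁅s, g⁆ ^ 3 ∈ N) (hnorm : g * (s * g * s⁻¹) * (s ^ 2 * g * (s ^ 2)⁻¹) ∈ N) :
    g ^ 3 * ⁅s, ⁅s, g⁆⁆ ∈ N := by
  have hprod : g * (s * g * s⁻¹) * (s ^ 2 * g * (s ^ 2)⁻¹) =
      g * (⁅s, g⁆ * g) * (⁅s, ⁅s, g⁆⁆ * ⁅s, g⁆ * (⁅s, g⁆ * g)) := by
    simp only [commutatorElement_def]; group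
  rw [hprod] at hnorm
  rw [comm_mem_iff] at h1 h2 h3
  have e1 := (QuotientGroup.eq_one_iff (N := N) _).2 hnorm
  have e2 := (QuotientGroup.eq_one_iff (N := N) _).2 hc3
  rw [← QuotientGroup.eq_one_iff]
  change QuotientGroup.mk' N _ = 1 at e1 e2 ⊢
  simp only [map_mul, map_pow] at e1 e2 ⊢
  rw [comm_expand h1.eq h2.eq h3.eq, e2, mul_one] at e1
  exact e1

namespace Ctx

variable {n : ℕ} {s : G} [Finite G] [Fact (Nat.Prime 3)]

theorem s_not_mem (C : Ctx G n s) {j : ℕ} (hj : 1 ≤ j) : s ∉ Γ j := fun h =>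
  C.s1 (Subgroup.lowerCentralSeries_antitone _ hj h)

theorem card_G (C : Ctx G n s) : Nat.card G = 3 ^ n := C.mc.card

theorem card_lcs' (C : Ctx G n s) {i : ℕ} (hi1 : 1 ≤ i) (hin : i + 2 ≤ n - 1) :
    Nat.card (Γ i) = 9 * Nat.card (Γ (i + 2)) := by
  rw [C.mc.card_lcs i hi1 (by omega), C.mc.card_lcs (i + 2) (by omega) hin]
  have : n - 1 - i = (n - 1 - (i + 2)) + 2 := by omega
  rw [this, pow_add]; ring

/-- uniformity of `s` -/
theorem unif (C : Ctx G n s) {k : ℕ} (hk : 1 ≤ k) (hkn : k + 3 ≤ n) {g : G} (hg : g ∈ Γ k)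
    (hg' : g ∉ Γ (k + 1)) : ⁅s, g⁆ ∉ Γ (k + 2) := by
  intro h
  obtain ⟨B, hB⟩ : ∃ B : Subgroup G, B = centMod (Γ (k + 2)) s ⊓ Γ k := ⟨_, rfl⟩
  have hE1 : Γ (k + 1) ≤ B := by
    rw [hB]
    refine le_inf ?_ (Subgroup.lowerCentralSeries_antitone _ (Nat.le_succ k))
    intro y hy
    rw [mem_centMod]
    exact comm_mem_lcs_succ (k + 1) hy s
  have hgB : g ∈ B := by
    rw [hB]
    refine ⟨?_, hg⟩
    show g ∈ centMod (Γ (k + 2)) s
    rw [mem_centMod]
    exact comm_mem_symm _ h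
  have hne : B ≠ Γ (k + 1) := fun he => hg' (he ▸ hgB)
  have hBeq : B = Γ k := eq_of_index_prime (p := 3) (Γ (k + 1)) B (Γ k) hE1
    (by rw [hB]; exact inf_le_right) (C.mc.card_succ k hk (by omega)) hne
  apply no_big_centMod (Γ (k + 2)) (Γ k) s (C.s_not_mem hk) _ C.cent.le
    (C.card_lcs' hk (by omega)).ge
  intro a ha
  have : a ∈ B := hBeq ▸ ha
  rw [hB] at this
  exact mem_centMod.1 this.1

theorem gamma1_le_L (_C : Ctx G n s) : Γ 1 ≤ Cc G 1 := by
  intro u hu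
  rw [mem_Cc]
  intro g hg
  exact lcs_comm 1 1 (Subgroup.commutator_mem_commutator hu hg)

theorem exists_x2 (C : Ctx G n s) : ∃ x : G, x ∈ Γ 1 ∧ x ∉ Γ 2 := by
  have h := C.mc.strict 1 (by have := C.four; omega)
  obtain ⟨x, hx, hx'⟩ := SetLike.exists_of_lt h
  exact ⟨x, hx, hx'⟩

theorem exists_level (C : Ctx G n s) (i : ℕ) (hi : i < n - 1) :
    ∃ x : G, x ∈ Γ i ∧ x ∉ Γ (i + 1) := by
  obtain ⟨x, hx, hx'⟩ := SetLike.exists_of_lt (C.mc.strict i hi)
  exact ⟨x, hx, hx'⟩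

theorem s_not_mem_L (C : Ctx G n s) : s ∉ Cc G 1 := by
  intro hs
  obtain ⟨x, hx, hx'⟩ := C.exists_x2
  have := C.four
  exact C.unif le_rfl (by omega) hx hx' (mem_Cc.1 hs x hx)

theorem L_normal (C : Ctx G n s) : (Cc G 1).Normal :=
  normal_of_commutator_le C.gamma1_le_L

theorem card_L (C : Ctx G n s) : Nat.card (Cc G 1) = 3 ^ (n - 1) := by
  have hn := C.four
  obtain ⟨x, hx, hx'⟩ := C.exists_x2
  have hcen : ∀ a b : G, ⁅⁅a, x⁆, b⁆ ∈ Γ 3 := fun a b =>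
    comm_mem_lcs_succ 2 (comm_mem_lcs_succ' 1 hx a) b
  have hgen := exists_zpow_mul (p := 3) (Γ 1) (Γ 2)
    (Subgroup.lowerCentralSeries_antitone _ (by norm_num))
    (C.mc.card_succ 1 le_rfl (by omega)) x hx hx'
  have hker : (commHom (Γ 3) x hcen).ker ≤ Cc G 1 := by
    intro a ha
    rw [mem_ker_commHom] at ha
    rw [mem_Cc]
    intro y hy
    obtain ⟨k, w, hw, rfl⟩ := hgen y hy
    exact comm_mem_zpow_mul (Γ 3) ha (comm_mem_lcs_succ' 2 hw a) k
  have hrange : (commHom (Γ 3) x hcen).range ≤ (Γ 2).map (QuotientGroup.mk' (Γ 3)) := by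
    rintro _ ⟨a, rfl⟩
    exact ⟨⁅a, x⁆, comm_mem_lcs_succ' 1 hx a, rfl⟩
  have h1 := Subgroup.card_eq_card_quotient_mul_card_subgroup (commHom (Γ 3) x hcen).ker
  rw [Nat.card_congr (QuotientGroup.quotientKerEquivRange (commHom (Γ 3) x hcen)).toEquiv] at h1
  have h2 := card_map_mk_mul_card (Γ 3) (Γ 2)
    (Subgroup.lowerCentralSeries_antitone _ (by norm_num))
  rw [C.mc.card_lcs 2 (by norm_num) (by omega), C.mc.card_lcs 3 (by norm_num) (by omega)] at h2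
  have h3 : Nat.card ((Γ 2).map (QuotientGroup.mk' (Γ 3))) = 3 := by
    have h4 : 3 ^ (n - 1 - 2) = 3 * 3 ^ (n - 1 - 3) := by
      rw [← pow_succ']; congr 1; omega
    rw [h4] at h2
    exact Nat.eq_of_mul_eq_mul_right (pow_pos (by norm_num) _) h2
  have h5 : Nat.card (commHom (Γ 3) x hcen).range ≤ 3 :=
    le_trans (Subgroup.card_le_of_le hrange) h3.le
  have h6 : Nat.card (commHom (Γ 3) x hcen).ker ≤ Nat.card (Cc G 1) := Subgroup.card_le_of_le hker
  have h7 : 3 ^ n ≤ 3 * Nat.card (Cc G 1) := by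
    rw [← C.card_G, h1]
    exact Nat.mul_le_mul h5 h6
  have h8 := C.mc.card_le_of_ne_top (Cc G 1) (fun h => C.s_not_mem_L (h ▸ Subgroup.mem_top s))
  have h9 : 3 ^ n = 3 * 3 ^ (n - 1) := by rw [← pow_succ']; congr 1; omega
  rw [h9] at h7 h8
  omega

theorem card_top_L (C : Ctx G n s) :
    Nat.card (⊤ : Subgroup G) = 3 * Nat.card (Cc G 1) := by
  have := C.four
  rw [Subgroup.card_top, C.card_G, C.card_L, ← pow_succ']
  congr 1; omega

theorem card_L_gamma1 (C : Ctx G n s) : Nat.card (Cc G 1) = 3 * Nat.card (Γ 1) := by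
  have := C.four
  rw [C.card_L, C.mc.card_lcs 1 le_rfl (by omega), ← pow_succ']
  congr 1; omega

/-- the norm identity for elements of the commutator subgroup -/
theorem norm_id (C : Ctx G n s) {g : G} (hg : g ∈ Γ 1) :
    g * (s * g * s⁻¹) * (s ^ 2 * g * (s ^ 2)⁻¹) = 1 := by
  have hn := C.four
  have hcard : Nat.card (Γ 1) * Nat.card (Subgroup.centralizer ({s} : Set G)) ≤ Nat.card G := by
    rw [C.cent, C.card_G, C.mc.card_lcs 1 le_rfl (by omega)]
    have : 3 ^ n = 3 ^ (n - 1 - 1) * 9 := by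
      have h2 : n = (n - 1 - 1) + 2 := by omega
      conv_lhs => rw [h2, pow_add]
      norm_num
    rw [this]
  obtain ⟨k, hk⟩ := exists_comm_eq (Γ 1) s
    (fun k => comm_mem_lcs_succ 0 (Subgroup.mem_top k) s) hcard g hg
  have h1 : g * s = k * s * k⁻¹ := by
    rw [← hk, commutatorElement_def]; group
  have h2 : (g * s) ^ 3 = s ^ 3 := by
    rw [h1, conj_pow, ← C.cube k, mul_inv_cancel_right]
  have h3 : (g * s) ^ 3 = g * (s * g * s⁻¹) * (s ^ 2 * g * (s ^ 2)⁻¹) * s ^ 3 := by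
    simp only [pow_succ, pow_zero, one_mul]; group
  rw [h3] at h2
  exact mul_right_cancel (h2.trans (one_mul _).symm)

theorem QQ2 (C : Ctx G n s) : QQ 3 2 G := C.mc.QQ_all 2 (by norm_num) (by norm_num)

/-- cubes two levels down, precisely -/
theorem cube_level (C : Ctx G n s) {i : ℕ} (hi : 1 ≤ i) {g : G} (hg : g ∈ Γ i) :
    g ^ 3 * ⁅s, ⁅s, g⁆⁆ ∈ Γ (i + 3) := by
  have hc : ⁅s, g⁆ ∈ Γ (i + 1) := comm_mem_lcs_succ' i hg s
  have hd : ⁅s, ⁅s, g⁆⁆ ∈ Γ (i + 2) := comm_mem_lcs_succ' (i + 1) hc s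
  apply cube_expand (Γ (i + 3)) s g
  · exact Subgroup.lowerCentralSeries_antitone _ (by omega)
      (lcs_comm i (i + 1) (Subgroup.commutator_mem_commutator hg hc))
  · exact Subgroup.lowerCentralSeries_antitone _ (by omega)
      (lcs_comm i (i + 2) (Subgroup.commutator_mem_commutator hg hd))
  · exact Subgroup.lowerCentralSeries_antitone _ (by omega)
      (lcs_comm (i + 1) (i + 2) (Subgroup.commutator_mem_commutator hc hd))
  · exact C.QQ2 (i + 1) (by omega) _ hc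
  · rw [C.norm_id (Subgroup.lowerCentralSeries_antitone _ hi hg)]
    exact Subgroup.one_mem _

theorem cube_mem (C : Ctx G n s) {i : ℕ} (hi : 1 ≤ i) {g : G} (hg : g ∈ Γ i) :
    g ^ 3 ∈ Γ (i + 2) := C.QQ2 i hi g hg

theorem cube_not_mem (C : Ctx G n s) {i : ℕ} (hi : 1 ≤ i) (hin : i + 4 ≤ n) {g : G}
    (hg : g ∈ Γ i) (hg' : g ∉ Γ (i + 1)) : g ^ 3 ∉ Γ (i + 3) := by
  intro h
  have hc : ⁅s, g⁆ ∈ Γ (i + 1) := comm_mem_lcs_succ' i hg s
  have hc' : ⁅s, g⁆ ∉ Γ (i + 2) := C.unif hi (by omega) hg hg'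
  have hd' : ⁅s, ⁅s, g⁆⁆ ∉ Γ (i + 1 + 2) := C.unif (by omega) (by omega) hc hc'
  apply hd'
  have h1 := C.cube_level hi hg
  have h2 : ⁅s, ⁅s, g⁆⁆ = (g ^ 3)⁻¹ * (g ^ 3 * ⁅s, ⁅s, g⁆⁆) := by group
  rw [h2]
  exact Subgroup.mul_mem _ (Subgroup.inv_mem _ h) h1

end Ctx

end Cfsg.Agent.H9PRL
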