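import Mathlib
import Cfsg.Agent.Lib.Helper9.PRL3

set_option autoImplicit false

/-!
# Pearls: all two-step centralizers coincide with `L₁`; centralizers of elements outside `L₁`
-/

namespace Cfsg.Agent.H9PRL

open scoped commutatorElement
open Cfsg.Agent.Lib.Helper7.MaxCls Cfsg.Agent.Lib.Lead

variable {G : Type*} [Group G]

local notation "Γ" => Subgroup.lowerCentralSeries (⊤ : Subgroup G)

namespace Ctx

variable {n : ℕ} {s : G} [Finite G] [Fact (Nat.Prime 3)]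

theorem comm_gamma1 (C : Ctx G n s) : ⁅Γ 1, Γ 1⁆ ≤ Γ 4 := by
  have hn := C.four
  obtain ⟨x, hx, hx'⟩ := C.exists_x2
  have hgen := exists_zpow_mul (p := 3) (Γ 1) (Γ 2)
    (Subgroup.lowerCentralSeries_antitone _ (by norm_num))
    (C.mc.card_succ 1 le_rfl (by omega)) x hx hx'
  exact comm_le_of_cyclic (Γ 1) (Γ 2) (Γ 4) (Subgroup.lowerCentralSeries_antitone _ (by norm_num))
    (lcs_comm 1 2) x hx hgen

theorem Q_two (C : Ctx G n s) : Cc G 1 ≤ Cc G 2 := by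
  have h1 : ⁅⁅(⊤ : Subgroup G), Cc G 1⁆, Γ 1⁆ ≤ Γ 4 := by
    refine le_trans (Subgroup.commutator_mono ?_ le_rfl) C.comm_gamma1
    have : Γ 1 = ⁅(⊤ : Subgroup G), (⊤ : Subgroup G)⁆ := by
      rw [Subgroup.lowerCentralSeries_succ, Subgroup.lowerCentralSeries_zero]
    rw [this]
    exact Subgroup.commutator_mono le_rfl le_top
  have h2 : ⁅⁅Cc G 1, Γ 1⁆, (⊤ : Subgroup G)⁆ ≤ Γ 4 := by
    have h3 : ⁅Cc G 1, Γ 1⁆ ≤ Γ 3 := by
      rw [Subgroup.commutator_le]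
      intro m hm y hy
      exact mem_Cc.1 hm y hy
    have : Γ 4 = ⁅Γ 3, (⊤ : Subgroup G)⁆ := Subgroup.lowerCentralSeries_succ _ 3
    rw [this]
    exact Subgroup.commutator_mono h3 le_rfl
  have h3 := three_subgroups_mod (Γ 1) ⊤ (Cc G 1) (Γ 4) h1 h2
  intro m hm
  rw [mem_Cc]
  intro g hg
  apply comm_mem_symm
  apply h3
  have : Γ 2 = ⁅Γ 1, (⊤ : Subgroup G)⁆ := Subgroup.lowerCentralSeries_succ _ 1
  rw [this] at hg
  exact Subgroup.commutator_mem_commutator hg hm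

theorem Q_step (C : Ctx G n s) {i : ℕ} (hi : 1 ≤ i) (hQ : Cc G 1 ≤ Cc G i) :
    Cc G 1 ≤ Cc G (i + 2) := by
  intro m hm
  rw [mem_Cc]
  intro y hy
  rcases Nat.lt_or_ge n (i + 5) with hlt | hge
  · have hb : Γ (i + 3) = ⊥ := C.mc.lcs_eq_bot (i + 3) (by omega)
    have h1 : ⁅m, y⁆ ∈ Γ (i + 3) := comm_mem_lcs_succ' (i + 2) hy m
    rw [hb, Subgroup.mem_bot] at h1
    rw [h1]; exact Subgroup.one_mem _
  · obtain ⟨g, hg, hg'⟩ := C.exists_level i (by omega)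
    have hg3 : g ^ 3 ∈ Γ (i + 2) := C.cube_mem hi hg
    have hg3' : g ^ 3 ∉ Γ (i + 3) := C.cube_not_mem hi (by omega) hg hg'
    have hgen := exists_zpow_mul (p := 3) (Γ (i + 2)) (Γ (i + 3))
      (Subgroup.lowerCentralSeries_antitone _ (Nat.le_succ _))
      (C.mc.card_succ (i + 2) (by omega) (by omega)) (g ^ 3) hg3 hg3'
    obtain ⟨a, w, hw, rfl⟩ := hgen y hy
    apply comm_mem_zpow_mul (Γ (i + 2 + 2)) _ (comm_mem_lcs_succ' (i + 3) hw m) a
    -- `m` commutes with `g ^ 3` modulo `γ (i + 4)`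
    have hu : ⁅m, g⁆ ∈ Γ (i + 2) := mem_Cc.1 (hQ hm) g hg
    have hug : ⁅⁅m, g⁆, g⁆ ∈ Γ (i + 2 + 2) :=
      Subgroup.lowerCentralSeries_antitone _ (by omega)
        (lcs_comm (i + 2) i (Subgroup.commutator_mem_commutator hu hg))
    have hu3 : ⁅m, g⁆ ^ 3 ∈ Γ (i + 2 + 2) := C.QQ2 (i + 2) (by omega) _ hu
    rw [comm_mem_iff] at hug ⊢
    have e3 := (QuotientGroup.eq_one_iff (N := Γ (i + 2 + 2)) _).2 hu3
    change QuotientGroup.mk' (Γ (i + 2 + 2)) _ = 1 at e3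
    rw [map_pow] at e3 ⊢
    have hconj : QuotientGroup.mk' (Γ (i + 2 + 2)) m * QuotientGroup.mk' (Γ (i + 2 + 2)) g *
        (QuotientGroup.mk' (Γ (i + 2 + 2)) m)⁻¹ =
        QuotientGroup.mk' (Γ (i + 2 + 2)) ⁅m, g⁆ * QuotientGroup.mk' (Γ (i + 2 + 2)) g := by
      rw [← map_inv, ← map_mul, ← map_mul, ← map_mul]
      congr 1
      rw [commutatorElement_def]; group
    have h4 : QuotientGroup.mk' (Γ (i + 2 + 2)) m * QuotientGroup.mk' (Γ (i + 2 + 2)) g ^ 3 *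
        (QuotientGroup.mk' (Γ (i + 2 + 2)) m)⁻¹ = QuotientGroup.mk' (Γ (i + 2 + 2)) g ^ 3 := by
      rw [← conj_pow, hconj, hug.mul_pow, e3, one_mul]
    exact mul_inv_eq_iff_eq_mul.1 h4

theorem Q_all (C : Ctx G n s) : ∀ i, 1 ≤ i → Cc G 1 ≤ Cc G i := by
  intro i
  induction i using Nat.strong_induction_on with
  | _ i ih =>
    intro hi
    rcases Nat.lt_or_ge i 3 with h3 | h3
    · interval_cases i
      · exact le_rfl
      · exact C.Q_two
    · have := C.Q_step (i := i - 2) (by omega) (ih (i - 2) (by omega) (by omega))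
      have e : i - 2 + 2 = i := by omega
      rw [e] at this
      exact this

/-- the two-step centralizers all equal `L₁` -/
theorem two_step (C : Ctx G n s) {t : G} (ht : t ∉ Cc G 1) {i : ℕ} (hi : 1 ≤ i) (hin : i + 3 ≤ n)
    {g : G} (hg : g ∈ Γ i) (hg' : g ∉ Γ (i + 1)) : ⁅t, g⁆ ∉ Γ (i + 2) := by
  intro h
  have hgen := exists_zpow_mul (p := 3) (Γ i) (Γ (i + 1))
    (Subgroup.lowerCentralSeries_antitone _ (Nat.le_succ _))
    (C.mc.card_succ i hi (by omega)) g hg hg'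
  have htC : t ∈ Cc G i := by
    rw [mem_Cc]
    intro y hy
    obtain ⟨a, w, hw, rfl⟩ := hgen y hy
    exact comm_mem_zpow_mul (Γ (i + 2)) h (comm_mem_lcs_succ' (i + 1) hw t) a
  have hne : Cc G i ≠ Cc G 1 := fun he => ht (he ▸ htC)
  have htop : Cc G i = ⊤ := eq_of_index_prime (p := 3) (Cc G 1) (Cc G i) ⊤ (C.Q_all i hi) le_top
    C.card_top_L hne
  exact C.mc.Cc_ne_top i hin htop

theorem two_step_zero (C : Ctx G n s) {t : G} (ht : t ∉ Cc G 1) {a : G} (ha : a ∈ Cc G 1)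
    (ha' : a ∉ Γ 1) : ⁅t, a⁆ ∉ Γ 2 := by
  intro h
  have hn := C.four
  haveI := C.L_normal
  have hgenL := exists_zpow_mul (p := 3) (Cc G 1) (Γ 1) C.gamma1_le_L C.card_L_gamma1 a ha ha'
  have h11 : ⁅Γ 1, Γ 1⁆ ≤ Γ 2 :=
    le_trans (lcs_comm 1 1) (Subgroup.lowerCentralSeries_antitone _ (by norm_num))
  have hL : ⁅Cc G 1, Cc G 1⁆ ≤ Γ 2 :=
    comm_le_of_gen (Cc G 1) (Γ 1) (Γ 2) h11 a (fun e he => comm_mem_lcs_succ' 1 he a) hgenL
  have htL : ∀ l ∈ Cc G 1, ⁅t, l⁆ ∈ Γ 2 := by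
    intro l hl
    obtain ⟨j, w, hw, rfl⟩ := hgenL l hl
    exact comm_mem_zpow_mul (Γ 2) h (comm_mem_lcs_succ' 1 hw t) j
  have hgenT := exists_zpow_mul (p := 3) ⊤ (Cc G 1) le_top C.card_top_L t (Subgroup.mem_top t) ht
  have hall : ⁅(⊤ : Subgroup G), (⊤ : Subgroup G)⁆ ≤ Γ 2 :=
    comm_le_of_gen ⊤ (Cc G 1) (Γ 2) hL t htL hgenT
  have h12 : Γ 1 ≤ Γ 2 := by
    have : Γ 1 = ⁅(⊤ : Subgroup G), (⊤ : Subgroup G)⁆ := by
      rw [Subgroup.lowerCentralSeries_succ, Subgroup.lowerCentralSeries_zero]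
    rw [this]; exact hall
  exact absurd h12 (not_le_of_gt (C.mc.strict 1 (by omega)))

/-- the centralizer of an element outside `L₁` meets `L₁` in the centre `γ_{n-1}` -/
theorem cent_inf_le (C : Ctx G n s) {t : G} (ht : t ∉ Cc G 1) :
    Subgroup.centralizer ({t} : Set G) ⊓ Cc G 1 ≤ Γ (n - 2) := by
  have hn := C.four
  rintro y ⟨hy, hyL⟩
  have hty : ⁅t, y⁆ = 1 := by
    rw [commutatorElement_eq_one_iff_mul_comm]
    exact ((Subgroup.mem_centralizer_singleton_iff).1 hy).symm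
  have hy1 : y ∈ Γ 1 := by
    by_contra hy1
    apply C.two_step_zero ht hyL hy1
    rw [hty]; exact Subgroup.one_mem _
  have hall : ∀ j, 1 ≤ j → j ≤ n - 2 → y ∈ Γ j := by
    intro j hj
    induction j, hj using Nat.le_induction with
    | base => intro _; exact hy1
    | succ j hj ih =>
      intro hjn
      by_contra hcon
      apply C.two_step ht hj (by omega) (ih (by omega)) hcon
      rw [hty]; exact Subgroup.one_mem _
  exact hall (n - 2) (by omega) le_rfl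

theorem card_cent_le (C : Ctx G n s) {t : G} (ht : t ∉ Cc G 1) :
    Nat.card (Subgroup.centralizer ({t} : Set G)) ≤ 9 := by
  have hn := C.four
  have h1 := card_inf_le_mul (Subgroup.centralizer ({t} : Set G)) (Cc G 1) ⊤ le_top 3 C.card_top_L
  rw [inf_top_eq] at h1
  have h2 : Nat.card ↥(Subgroup.centralizer ({t} : Set G) ⊓ Cc G 1) ≤ 3 := by
    have h3 := Subgroup.card_le_of_le (C.cent_inf_le ht)
    rw [C.mc.card_lcs (n - 2) (by omega) (by omega)] at h3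
    have h4 : n - 1 - (n - 2) = 1 := by omega
    rw [h4, pow_one] at h3
    exact h3
  omega

theorem pow_three_mem (C : Ctx G n s) {t : G} (ht : t ∉ Cc G 1) : t ^ 3 ∈ Γ (n - 2) := by
  apply C.cent_inf_le ht
  refine ⟨?_, C.gamma1_le_L (C.mc.pow_mem_one t)⟩
  show t ^ 3 ∈ Subgroup.centralizer ({t} : Set G)
  rw [Subgroup.mem_centralizer_singleton_iff]
  exact ((Commute.refl t).pow_left 3).eq

end Ctx

end Cfsg.Agent.H9PRL
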