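import Mathlib
import Cfsg.Agent.Lib.Helper9.PRL4

set_option autoImplicit false

/-!
# Pearls: the level filtration and the Frattini bound `|H| ≤ 9 |Φ(H)|`
-/

namespace Cfsg.Agent.H9PRL

open scoped commutatorElement
open Cfsg.Agent.Lib.Helper7.MaxCls Cfsg.Agent.Lib.Lead

variable {G : Type*} [Group G]

local notation "Γ" => Subgroup.lowerCentralSeries (⊤ : Subgroup G)

/-- the level filtration `L₁ > γ₂ > γ₃ > ⋯` -/
def Lv (G : Type*) [Group G] : ℕ → Subgroup G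
  | 0 => Cc G 1
  | (j + 1) => (⊤ : Subgroup G).lowerCentralSeries (j + 1)

theorem Lv_zero : Lv G 0 = Cc G 1 := rfl

theorem Lv_of_pos {j : ℕ} (hj : 1 ≤ j) : Lv G j = Γ j := by
  cases j with
  | zero => omega
  | succ j => rfl

/-- a generating pair from a Frattini bound -/
theorem exists_two_gen [Finite G] [Fact (Nat.Prime 3)] (hG : IsPGroup 3 G) (H : Subgroup G)
    (h : Nat.card H ≤ 9 * Nat.card (frattini ↥H)) :
    ∃ T : Finset G, T.card ≤ 2 ∧ Subgroup.closure (T : Set G) = H := by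
  classical
  have hHp : IsPGroup 3 ↥H := hG.to_subgroup H
  obtain ⟨k, hk⟩ := hHp.index (frattini ↥H)
  have h1 := (frattini ↥H).card_mul_index
  have hpos : 0 < Nat.card (frattini ↥H) := Nat.card_pos
  have h2 : (frattini ↥H).index ≤ 9 := by
    have : Nat.card (frattini ↥H) * (frattini ↥H).index ≤ Nat.card (frattini ↥H) * 9 := by
      rw [h1, mul_comm]; exact h
    exact Nat.le_of_mul_le_mul_left this hpos
  have hk2 : k ≤ 2 := by
    rw [hk] at h2
    have : 3 ^ k ≤ 3 ^ 2 := by norm_num; exact h2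
    exact (Nat.pow_le_pow_iff_right (by norm_num)).1 this
  haveI := Fintype.ofFinite ↥H
  obtain ⟨T', -, hT'c, hT'⟩ := (burnside_basis 3 k hHp hk).1 (Finset.univ : Finset ↥H) (by
    rw [Finset.coe_univ, Subgroup.closure_univ])
  refine ⟨T'.image Subtype.val, ?_, ?_⟩
  · exact le_trans Finset.card_image_le (hT'c ▸ hk2)
  · rw [Finset.coe_image]
    have h3 : (Subtype.val : ↥H → G) = H.subtype := rfl
    rw [h3, ← MonoidHom.map_closure, hT', ← MonoidHom.range_eq_map, Subgroup.range_subtype]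

namespace Ctx

variable {n : ℕ} {s : G} [Finite G] [Fact (Nat.Prime 3)]

theorem Lv_anti (C : Ctx G n s) (j : ℕ) : Lv G (j + 1) ≤ Lv G j := by
  cases j with
  | zero => exact C.gamma1_le_L
  | succ j => exact Subgroup.lowerCentralSeries_antitone _ (Nat.le_succ _)

theorem card_Lv (C : Ctx G n s) {j : ℕ} (hj : j ≤ n - 1) : Nat.card (Lv G j) = 3 ^ (n - 1 - j) := by
  cases j with
  | zero => exact C.card_L
  | succ j => exact C.mc.card_lcs (j + 1) (by omega) hj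

theorem card_Lv_succ (C : Ctx G n s) {j : ℕ} (hj : j + 1 ≤ n - 1) :
    Nat.card (Lv G j) = 3 * Nat.card (Lv G (j + 1)) := by
  rw [C.card_Lv (by omega), C.card_Lv hj, ← pow_succ']
  congr 1; omega

theorem Lv_eq_bot (C : Ctx G n s) {j : ℕ} (hj : n - 1 ≤ j) : Lv G j = ⊥ := by
  have := C.four
  rw [Lv_of_pos (by omega)]
  exact C.mc.lcs_eq_bot j hj

/-- cubes of elements of `L₁`, for `n ≥ 5` -/
theorem cube_level_zero (C : Ctx G n s) (hn5 : 5 ≤ n) {g : G} (hg : g ∈ Cc G 1) :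
    g ^ 3 * ⁅s, ⁅s, g⁆⁆ ∈ Γ 3 := by
  have hc : ⁅s, g⁆ ∈ Γ 1 := comm_mem_lcs_succ' 0 (Subgroup.mem_top g) s
  have hd : ⁅s, ⁅s, g⁆⁆ ∈ Γ 2 := comm_mem_lcs_succ' 1 hc s
  apply cube_expand (Γ 3) s g
  · exact mem_Cc.1 hg _ hc
  · exact comm_mem_lcs_succ' 2 hd g
  · exact comm_mem_lcs_succ' 2 hd _
  · exact C.QQ2 1 le_rfl _ hc
  · have ht : g * s ∉ Cc G 1 := by
      intro h
      apply C.s_not_mem_L
      have : s = g⁻¹ * (g * s) := by group
      rw [this]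
      exact Subgroup.mul_mem _ (Subgroup.inv_mem _ hg) h
    have h1 : (g * s) ^ 3 ∈ Γ 3 :=
      Subgroup.lowerCentralSeries_antitone _ (by omega) (C.pow_three_mem ht)
    have h2 : s ^ 3 ∈ Γ 3 :=
      Subgroup.lowerCentralSeries_antitone _ (by omega) (C.pow_three_mem C.s_not_mem_L)
    have h3 : g * (s * g * s⁻¹) * (s ^ 2 * g * (s ^ 2)⁻¹) = (g * s) ^ 3 * (s ^ 3)⁻¹ := by
      simp only [pow_succ, pow_zero, one_mul]; group
    rw [h3]
    exact Subgroup.mul_mem _ h1 (Subgroup.inv_mem _ h2)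

theorem Lv_cube_mem (C : Ctx G n s) (hn5 : 5 ≤ n) {j : ℕ} {g : G} (hg : g ∈ Lv G j) :
    g ^ 3 ∈ Lv G (j + 2) := by
  cases j with
  | zero =>
    show g ^ 3 ∈ Γ 2
    have hc : ⁅s, g⁆ ∈ Γ 1 := comm_mem_lcs_succ' 0 (Subgroup.mem_top g) s
    have hd : ⁅s, ⁅s, g⁆⁆ ∈ Γ 2 := comm_mem_lcs_succ' 1 hc s
    have h1 := Subgroup.lowerCentralSeries_antitone (⊤ : Subgroup G) (by norm_num : 2 ≤ 3)
      (C.cube_level_zero hn5 hg)
    have h2 : g ^ 3 = (g ^ 3 * ⁅s, ⁅s, g⁆⁆) * (⁅s, ⁅s, g⁆⁆)⁻¹ := by group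
    rw [h2]
    exact Subgroup.mul_mem _ h1 (Subgroup.inv_mem _ hd)
  | succ j => exact C.cube_mem (by omega) hg

theorem Lv_cube_not_mem (C : Ctx G n s) (hn5 : 5 ≤ n) {j : ℕ} (hj : j + 4 ≤ n) {g : G}
    (hg : g ∈ Lv G j) (hg' : g ∉ Lv G (j + 1)) : g ^ 3 ∉ Lv G (j + 3) := by
  cases j with
  | zero =>
    show g ^ 3 ∉ Γ 3
    intro h
    have hc : ⁅s, g⁆ ∈ Γ 1 := comm_mem_lcs_succ' 0 (Subgroup.mem_top g) s
    have hc' : ⁅s, g⁆ ∉ Γ 2 := C.two_step_zero C.s_not_mem_L hg hg'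
    have hd' : ⁅s, ⁅s, g⁆⁆ ∉ Γ (1 + 2) := C.unif le_rfl (by omega) hc hc'
    apply hd'
    have h1 := C.cube_level_zero hn5 hg
    have h2 : ⁅s, ⁅s, g⁆⁆ = (g ^ 3)⁻¹ * (g ^ 3 * ⁅s, ⁅s, g⁆⁆) := by group
    rw [h2]
    exact Subgroup.mul_mem _ (Subgroup.inv_mem _ h) h1
  | succ j => exact C.cube_not_mem (by omega) (by omega) hg hg'

/-- the Frattini bound for subgroups of `L₁`, `n ≥ 5` -/
theorem card_le_frattini_of_le_L (C : Ctx G n s) (hn5 : 5 ≤ n) (H : Subgroup G)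
    (hH : H ≤ Cc G 1) : Nat.card H ≤ 9 * Nat.card (frattini ↥H) := by
  have hG : IsPGroup 3 G := C.mc.pgrp
  have hHp : IsPGroup 3 ↥H := hG.to_subgroup H
  obtain ⟨V, hV⟩ : ∃ V : Subgroup G, V = (frattini ↥H).map H.subtype := ⟨_, rfl⟩
  have hVcard : Nat.card V = Nat.card (frattini ↥H) := by
    rw [hV]; exact Subgroup.card_subtype _ _
  have hcube : ∀ h ∈ H, h ^ 3 ∈ V := by
    intro h hh
    rw [hV]
    exact ⟨⟨h, hh⟩ ^ 3, pow_mem_frattini_of_isPGroup hHp _, rfl⟩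
  have key : ∀ m j : ℕ, j + m = n - 1 →
      Nat.card ↥(H ⊓ Lv G j) ≤ 9 * Nat.card ↥(V ⊓ Lv G (j + 2)) := by
    intro m
    induction m with
    | zero =>
      intro j hj
      rw [C.Lv_eq_bot (by omega : n - 1 ≤ j), inf_bot_eq, Subgroup.card_bot]
      have : 0 < Nat.card ↥(V ⊓ Lv G (j + 2)) := Nat.card_pos
      omega
    | succ m ih =>
      intro j hj
      have IH := ih (j + 1) (by omega)
      have hVanti : Nat.card ↥(V ⊓ Lv G (j + 3)) ≤ Nat.card ↥(V ⊓ Lv G (j + 2)) :=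
        Subgroup.card_le_of_le (inf_le_inf_left V (C.Lv_anti (j + 2)))
      by_cases hex : ∃ h, h ∈ H ⊓ Lv G j ∧ h ∉ Lv G (j + 1)
      · obtain ⟨h, ⟨hhH, hhL⟩, hh'⟩ := hex
        have h1 : Nat.card ↥(H ⊓ Lv G j) ≤ 3 * Nat.card ↥(H ⊓ Lv G (j + 1)) :=
          card_inf_le_mul H (Lv G (j + 1)) (Lv G j) (C.Lv_anti j) 3 (C.card_Lv_succ (by omega))
        by_cases hj4 : j + 4 ≤ n
        · have hlt : V ⊓ Lv G (j + 3) < V ⊓ Lv G (j + 2) := by
            refine lt_of_le_of_ne (inf_le_inf_left V (C.Lv_anti (j + 2))) ?_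
            intro he
            have h2 : h ^ 3 ∈ V ⊓ Lv G (j + 2) := ⟨hcube h hhH, C.Lv_cube_mem hn5 hhL⟩
            rw [← he] at h2
            exact C.Lv_cube_not_mem hn5 hj4 hhL hh' h2.2
          have h3 : 3 * Nat.card ↥(V ⊓ Lv G (j + 3)) ≤ Nat.card ↥(V ⊓ Lv G (j + 2)) :=
            card_mul_le_of_lt hG hlt
          have IH' : Nat.card ↥(H ⊓ Lv G (j + 1)) ≤ 9 * Nat.card ↥(V ⊓ Lv G (j + 3)) := IH
          omega
        · have h2 : Nat.card ↥(H ⊓ Lv G j) ≤ Nat.card (Lv G j) :=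
            Subgroup.card_le_of_le inf_le_right
          rw [C.card_Lv (by omega)] at h2
          have h3 : 3 ^ (n - 1 - j) ≤ 3 ^ 2 := Nat.pow_le_pow_right (by norm_num) (by omega)
          have : 0 < Nat.card ↥(V ⊓ Lv G (j + 2)) := Nat.card_pos
          omega
      · push Not at hex
        have hle : H ⊓ Lv G j ≤ H ⊓ Lv G (j + 1) := by
          intro x hx
          exact ⟨hx.1, hex x hx⟩
        have h1 : Nat.card ↥(H ⊓ Lv G j) ≤ Nat.card ↥(H ⊓ Lv G (j + 1)) :=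
          Subgroup.card_le_of_le hle
        have IH' : Nat.card ↥(H ⊓ Lv G (j + 1)) ≤ 9 * Nat.card ↥(V ⊓ Lv G (j + 3)) := IH
        omega
  have h0 := key (n - 1) 0 (by omega)
  have e0 : H ⊓ Lv G 0 = H := inf_eq_left.2 hH
  rw [e0] at h0
  have h1 : Nat.card ↥(V ⊓ Lv G (0 + 2)) ≤ Nat.card V := Subgroup.card_le_of_le inf_le_left
  rw [← hVcard]
  omega

/-- the Frattini bound for subgroups not contained in `L₁` -/
theorem card_le_frattini_of_not_le_L (C : Ctx G n s) (H : Subgroup G)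
    (hH : ¬ H ≤ Cc G 1) : Nat.card H ≤ 9 * Nat.card (frattini ↥H) := by
  have hG : IsPGroup 3 G := C.mc.pgrp
  have hHp : IsPGroup 3 ↥H := hG.to_subgroup H
  obtain ⟨t, htH, htL⟩ : ∃ t ∈ H, t ∉ Cc G 1 := by
    by_contra hcon
    push Not at hcon
    exact hH hcon
  have h1 := card_le_of_comm_mem (⊤ : Subgroup ↥H) (commutator ↥H) (⟨t, htH⟩ : ↥H)
    (fun k _ => by
      rw [commutator_def]
      exact Subgroup.commutator_mem_commutator (Subgroup.mem_top _) (Subgroup.mem_top _))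
  rw [Subgroup.card_top] at h1
  have h2 : Nat.card (Subgroup.centralizer ({(⟨t, htH⟩ : ↥H)} : Set ↥H)) ≤
      Nat.card (Subgroup.centralizer ({t} : Set G)) := by
    apply Nat.card_le_card_of_injective
      (fun x : Subgroup.centralizer ({(⟨t, htH⟩ : ↥H)} : Set ↥H) =>
        (⟨((x : ↥H) : G), by
          have hx := x.2
          rw [Subgroup.mem_centralizer_singleton_iff] at hx ⊢
          exact congrArg (fun y : ↥H => (y : G)) hx⟩ : Subgroup.centralizer ({t} : Set G)))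
    intro x y hxy
    have := congrArg (fun z : Subgroup.centralizer ({t} : Set G) => (z : G)) hxy
    exact Subtype.ext (Subtype.ext this)
  have h3 := C.card_cent_le htL
  have h4 : Nat.card (commutator ↥H) ≤ Nat.card (frattini ↥H) :=
    Subgroup.card_le_of_le (commutator_le_frattini_of_isPGroup hHp)
  calc Nat.card H ≤ Nat.card (commutator ↥H) *
        Nat.card (Subgroup.centralizer ({(⟨t, htH⟩ : ↥H)} : Set ↥H)) := h1
    _ ≤ Nat.card (frattini ↥H) * 9 := Nat.mul_le_mul h4 (le_trans h2 h3)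
    _ = 9 * Nat.card (frattini ↥H) := mul_comm _ _

end Ctx

end Cfsg.Agent.H9PRL
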