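import Mathlib
import Cfsg.Prelude
import Cfsg.Agent.Lib.Helper9.AbIdx4
import Cfsg.Agent.Lib.Lead.BurnsideBasis

set_option autoImplicit false

/-!
# Generic lemmas for the rank two theorem: an additive computation, counting, two-generated groups
-/

namespace Cfsg.Agent.H9RK2

open Cfsg.Agent.Lib.Helper9.H9AbIdx Cfsg.Agent.Lib.Lead

theorem iter_formula {M : Type*} [AddCommGroup M] (c : M →+ M) (a w v : M)
    (h1 : c a = a + w) (h2 : c w = w + v) (h3 : c v = v) (r : ℕ) :
    (⇑c)^[r] a = a + r • w + (r.choose 2) • v := by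
  have hv : ∀ k : ℕ, (⇑c)^[k] v = v := by
    intro k
    induction k with
    | zero => rfl
    | succ k ih => rw [Function.iterate_succ_apply', ih, h3]
  have hw : ∀ k : ℕ, (⇑c)^[k] w = w + k • v := by
    intro k
    induction k with
    | zero => simp
    | succ k ih =>
      rw [Function.iterate_succ_apply', ih, map_add, map_nsmul, h2, h3]
      module
  induction r with
  | zero => simp
  | succ k ih =>
    rw [Function.iterate_succ_apply', ih, map_add, map_add, map_nsmul, map_nsmul, h1, h2, h3]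
    have : (k + 1).choose 2 = k + k.choose 2 := by
      rw [Nat.choose_succ_succ' k 1, Nat.choose_one_right]
    rw [this]
    module

theorem core {M : Type*} [AddCommGroup M] (c B : M →+ M) (z y ζ : M) (s q ρ : ℕ) (b e : ℤ)
    (hcz : c z = z + y) (hcy : c y = y + s • ζ) (hcζ : c ζ = ζ)
    (hBz : B z = b • z + e • y) (hqz : q • z = ζ) (hqy : q • y = 0)
    (hint : ∀ m, B (c m) = (⇑c)^[ρ] (B m)) :
    B ζ = b • ζ ∧ (s * b) • ζ = (s * b * ρ ^ 2) • ζ := by
  have hsζ : c (s • ζ) = s • ζ := by rw [map_nsmul, hcζ]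
  have itz := iter_formula c z y (s • ζ) hcz hcy hsζ ρ
  have ity : (⇑c)^[ρ] y = y + ρ • (s • ζ) := by
    have := iter_formula c y (s • ζ) 0 (by rw [hcy]) (by rw [hsζ, add_zero]) (map_zero c) ρ
    rw [this, smul_zero, add_zero]
  have itζ : ∀ k : ℕ, (⇑c)^[k] ζ = ζ := by
    intro k
    induction k with
    | zero => rfl
    | succ k ih => rw [Function.iterate_succ_apply', ih, hcζ]
  have hadd : ∀ (k : ℕ) (u v : M), (⇑c)^[k] (u + v) = (⇑c)^[k] u + (⇑c)^[k] v := by
    intro k
    induction k with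
    | zero => intro u v; rfl
    | succ k ih => intro u v; rw [Function.iterate_succ_apply', ih, map_add,
        ← Function.iterate_succ_apply' (⇑c), ← Function.iterate_succ_apply' (⇑c)]
  have hzs : ∀ (k : ℕ) (j : ℤ) (u : M), (⇑c)^[k] (j • u) = j • (⇑c)^[k] u := by
    intro k
    induction k with
    | zero => intro j u; rfl
    | succ k ih => intro j u; rw [Function.iterate_succ_apply', ih, map_zsmul,
        ← Function.iterate_succ_apply' (⇑c)]
  -- B y
  have hBy : B y = (b * ρ) • y + (b * (s * ρ.choose 2) + e * (s * ρ)) • ζ := by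
    have h1 : B y = B (c z) - B z := by rw [hcz, map_add]; abel
    rw [h1, hint, hBz, hadd, hzs, hzs, itz, ity]
    module
  have hBsζ : B (s • ζ) = (s * b * ρ ^ 2) • ζ := by
    have h1 : B (s • ζ) = B (c y) - B y := by rw [hcy, map_add]; abel
    rw [h1, hint, hBy, hadd, hzs, hzs, ity, itζ]
    module
  have hBζ : B ζ = b • ζ := by
    rw [← hqz, map_nsmul, hBz]
    have : q • (b • z + e • y) = b • (q • z) + e • (q • y) := by module
    rw [this, hqy, smul_zero, add_zero]
  refine ⟨hBζ, ?_⟩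
  rw [← hBsζ, map_nsmul, hBζ]
  module

section grp

variable {Ω : Type*} [Group Ω]

theorem exists_zpow_of_mem_closure_pair {y z : Ω} (hyz : y * z = z * y) {a : Ω}
    (ha : a ∈ Subgroup.closure ({y, z} : Set Ω)) : ∃ i j : ℤ, a = y ^ i * z ^ j := by
  have hc : Commute y z := hyz
  induction ha using Subgroup.closure_induction with
  | mem g hg =>
    rcases hg with rfl | hg
    · exact ⟨1, 0, by simp⟩
    · rw [Set.mem_singleton_iff] at hg
      subst hg
      exact ⟨0, 1, by simp⟩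
  | one => exact ⟨0, 0, by simp⟩
  | mul g h _ _ ihg ihh =>
    obtain ⟨i, j, rfl⟩ := ihg
    obtain ⟨i', j', rfl⟩ := ihh
    refine ⟨i + i', j + j', ?_⟩
    rw [zpow_add, zpow_add]
    have h1 : z ^ j * y ^ i' = y ^ i' * z ^ j := ((hc.zpow_zpow i' j).eq).symm
    calc y ^ i * z ^ j * (y ^ i' * z ^ j') = y ^ i * (z ^ j * y ^ i') * z ^ j' := by group
      _ = y ^ i * (y ^ i' * z ^ j) * z ^ j' := by rw [h1]
      _ = y ^ i * y ^ i' * (z ^ j * z ^ j') := by group
  | inv g _ ihg =>
    obtain ⟨i, j, rfl⟩ := ihg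
    refine ⟨-i, -j, ?_⟩
    rw [mul_inv_rev, zpow_neg, zpow_neg]
    exact ((hc.zpow_zpow i j).inv_inv.eq).symm

/-- `|⟨g⟩ : ⟨g⟩ ∩ K|` divides `m` when `g ^ m ∈ K` -/
theorem relIndex_zpowers_dvd {K : Subgroup Ω} {g : Ω} {m : ℕ} (hm : g ^ m ∈ K) :
    K.relIndex (Subgroup.zpowers g) ∣ m := by
  obtain ⟨Z, hZ⟩ : ∃ Z : Subgroup Ω, Z = Subgroup.zpowers g := ⟨_, rfl⟩
  rw [← hZ]
  have hgZ : g ∈ Z := by rw [hZ]; exact Subgroup.mem_zpowers g
  haveI : IsMulCommutative Z := by
    rw [hZ]; infer_instance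
  haveI : (K.subgroupOf Z).Normal := inferInstance
  show (K.subgroupOf Z).index ∣ m
  rw [Subgroup.index_eq_card]
  have htop : Subgroup.zpowers (QuotientGroup.mk (s := K.subgroupOf Z) ⟨g, hgZ⟩) = ⊤ := by
    rw [Subgroup.eq_top_iff']
    intro q
    obtain ⟨⟨w, hw⟩, rfl⟩ := QuotientGroup.mk_surjective q
    have hw' := hw
    rw [hZ] at hw'
    obtain ⟨k, hk⟩ := Subgroup.mem_zpowers_iff.mp hw'
    refine Subgroup.mem_zpowers_iff.mpr ⟨k, ?_⟩
    rw [← QuotientGroup.mk_zpow]
    congr 1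
    exact Subtype.ext hk
  have h1 : Nat.card (↥Z ⧸ K.subgroupOf Z) =
      orderOf (QuotientGroup.mk (s := K.subgroupOf Z) ⟨g, hgZ⟩) := by
    rw [← Nat.card_zpowers, htop, Subgroup.card_top]
  rw [h1]
  apply orderOf_dvd_of_pow_eq_one
  rw [← QuotientGroup.mk_pow, QuotientGroup.eq_one_iff, Subgroup.mem_subgroupOf]
  exact hm

/-- `|⟨g⟩K : K|` divides `m` when `g` normalizes `K` and `g ^ m ∈ K` -/
theorem relIndex_sup_zpowers_dvd {K : Subgroup Ω} {g : Ω}
    (hg : g ∈ Subgroup.normalizer (K : Set Ω)) {m : ℕ} (hm : g ^ m ∈ K) :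
    K.relIndex (Subgroup.zpowers g ⊔ K) ∣ m := by
  rw [Cfsg.Agent.Lib.Helper9.H9AbIdx.relIndex_sup_of_le_normalizer (by rw [Subgroup.zpowers_le]; exact hg)]
  exact relIndex_zpowers_dvd hm

end grp

/-- a `p`-group generated by two elements has Frattini quotient of order at most `p²` -/
theorem frattini_index_le_of_two_gen {H : Type*} [Group H] [Finite H] {p : ℕ} [Fact p.Prime]
    (hH : IsPGroup p H) (a b : H) (hab : Subgroup.closure ({a, b} : Set H) = ⊤) :
    (frattini H).index ≤ p ^ 2 := by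
  classical
  have hpos : 0 < Nat.card (frattini H) := Nat.card_pos
  have h1 := card_closure_sup_frattini_le hH ({a, b} : Finset H)
  have h2 : ((({a, b} : Finset H) : Set H)) = ({a, b} : Set H) := by
    rw [Finset.coe_insert, Finset.coe_singleton]
  rw [h2, hab, top_sup_eq, Subgroup.card_top] at h1
  have h3 : ({a, b} : Finset H).card ≤ 2 := Finset.card_le_two
  have h4 : p ^ ({a, b} : Finset H).card ≤ p ^ 2 :=
    Nat.pow_le_pow_right (Fact.out : p.Prime).pos h3
  have h5 := (frattini H).card_mul_index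
  have h6 : Nat.card (frattini H) * (frattini H).index ≤ Nat.card (frattini H) * p ^ 2 := by
    rw [h5]
    calc Nat.card H ≤ p ^ ({a, b} : Finset H).card * Nat.card (frattini H) := h1
      _ ≤ p ^ 2 * Nat.card (frattini H) := Nat.mul_le_mul_right _ h4
      _ = Nat.card (frattini H) * p ^ 2 := mul_comm _ _
  exact Nat.le_of_mul_le_mul_left h6 hpos

/-- the subgroup-level version -/
theorem frattini_index_le_of_closure_pair {Ω : Type*} [Group Ω] {p : ℕ} [Fact p.Prime]
    (K : Subgroup Ω) [Finite K] (hK : IsPGroup p K) (a b : Ω)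
    (h : K = Subgroup.closure ({a, b} : Set Ω)) : (frattini ↥K).index ≤ p ^ 2 := by
  have haK : a ∈ K := by rw [h]; exact Subgroup.subset_closure (by simp)
  have hbK : b ∈ K := by rw [h]; exact Subgroup.subset_closure (by simp)
  apply frattini_index_le_of_two_gen hK ⟨a, haK⟩ ⟨b, hbK⟩
  rw [Subgroup.eq_top_iff']
  intro g
  have hg : (g : Ω) ∈ Subgroup.closure ({a, b} : Set Ω) := by rw [← h]; exact g.2
  have key : ∀ w (hw : w ∈ Subgroup.closure ({a, b} : Set Ω)),
      ∃ hwK : w ∈ K, (⟨w, hwK⟩ : K) ∈ Subgroup.closure ({⟨a, haK⟩, ⟨b, hbK⟩} : Set K) := by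
    intro w hw
    induction hw using Subgroup.closure_induction with
    | mem x hx =>
      rcases hx with rfl | hx
      · exact ⟨haK, Subgroup.subset_closure (by simp)⟩
      · rw [Set.mem_singleton_iff] at hx
        subst hx
        exact ⟨hbK, Subgroup.subset_closure (by simp)⟩
    | one => exact ⟨K.one_mem, Subgroup.one_mem _⟩
    | mul x y _ _ ihx ihy =>
      obtain ⟨hx, hx'⟩ := ihx
      obtain ⟨hy, hy'⟩ := ihy
      exact ⟨K.mul_mem hx hy, Subgroup.mul_mem _ hx' hy'⟩
    | inv x _ ihx =>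
      obtain ⟨hx, hx'⟩ := ihx
      exact ⟨K.inv_mem hx, Subgroup.inv_mem _ hx'⟩
  obtain ⟨_, h2⟩ := key g hg
  exact h2

end Cfsg.Agent.H9RK2
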