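import Mathlib
import Cfsg.Agent.Lib.Helper9.PRL5
import Cfsg.Agent.Lib.Helper9.RK2b

set_option autoImplicit false

/-!
# Pearls: groups of order `81`
-/

namespace Cfsg.Agent.H9PRL

open scoped commutatorElement
open Cfsg.Agent.Lib.Helper7.MaxCls Cfsg.Agent.Lib.Lead

variable {G : Type*} [Group G]

local notation "Γ" => Subgroup.lowerCentralSeries (⊤ : Subgroup G)

/-- a power of an element of order three outside a subgroup lies in it only if trivial -/
theorem zpow_eq_one_of_mem (N : Subgroup G) {a : G} (ha3 : a ^ 3 = 1) (ha : a ∉ N) (i : ℤ)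
    (h : a ^ i ∈ N) : a ^ i = 1 := by
  have h1 : a ^ i = a ^ (i % 3) := by
    have h2 : i = i % 3 + 3 * (i / 3) := (Int.emod_add_mul_ediv i 3).symm
    calc a ^ i = a ^ (i % 3 + 3 * (i / 3)) := by rw [← h2]
      _ = a ^ (i % 3) * (a ^ (3 : ℤ)) ^ (i / 3) := by rw [zpow_add, zpow_mul]
      _ = a ^ (i % 3) := by
        have : a ^ (3 : ℤ) = 1 := by
          have := zpow_natCast a 3
          rw [ha3] at this
          exact_mod_cast this
        rw [this, one_zpow, mul_one]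
  have h3 : 0 ≤ i % 3 := Int.emod_nonneg _ (by norm_num)
  have h4 : i % 3 < 3 := Int.emod_lt_of_pos _ (by norm_num)
  rw [h1] at h ⊢
  have h5 : i % 3 = 0 ∨ i % 3 = 1 ∨ i % 3 = 2 := by omega
  rcases h5 with h5 | h5 | h5
  · rw [h5, zpow_zero]
  · rw [h5, zpow_one] at h
    exact absurd h ha
  · rw [h5] at h
    exfalso
    apply ha
    have h6 : a = (a ^ (2 : ℤ)) ^ 2 * (a ^ 3)⁻¹ := by
      have : (a ^ (2 : ℤ)) = a ^ 2 := by exact_mod_cast zpow_natCast a 2
      rw [this]; group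
    rw [h6, ha3, inv_one, mul_one]
    exact N.pow_mem h 2

/-- divisibility bound for the order of a Sylow `3`-subgroup of `S₉` -/
theorem card_sylow_perm_nine_le [Fact (Nat.Prime 3)] (W : Sylow 3 (Equiv.Perm (Fin 9))) :
    Nat.card (W : Subgroup (Equiv.Perm (Fin 9))) ≤ 81 := by
  obtain ⟨k, hk⟩ := W.isPGroup'.exists_card_eq
  have hdvd : Nat.card (W : Subgroup (Equiv.Perm (Fin 9))) ∣ Nat.card (Equiv.Perm (Fin 9)) :=
    Subgroup.card_subgroup_dvd_card _
  have hperm : Nat.card (Equiv.Perm (Fin 9)) = 362880 := by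
    rw [Nat.card_eq_fintype_card, Fintype.card_perm, Fintype.card_fin]
    rfl
  rw [hk, hperm] at hdvd
  rw [hk]
  by_contra hcon
  push Not at hcon
  have hk5 : 5 ≤ k := by
    by_contra h5
    have : k ≤ 4 := by omega
    have : 3 ^ k ≤ 3 ^ 4 := Nat.pow_le_pow_right (by norm_num) this
    omega
  have h243 : 3 ^ 5 ∣ 362880 := dvd_trans (pow_dvd_pow 3 hk5) hdvd
  norm_num at h243

namespace Ctx

variable {s : G} [Finite G] [Fact (Nat.Prime 3)]

theorem gamma3_eq_bot (C : Ctx G 4 s) : Γ 3 = ⊥ := C.mc.lcs_eq_bot 3 (by norm_num)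

/-- the case where `L₁` has an element of order `9` -/
theorem four_of_exists (C : Ctx G 4 s) (hex : ∃ a ∈ Cc G 1, a ^ 3 ≠ 1) (H : Subgroup G) :
    Nat.card H ≤ 9 * Nat.card (frattini ↥H) := by
  by_cases hH : H ≤ Cc G 1
  · have hG : IsPGroup 3 G := C.mc.pgrp
    have hHp : IsPGroup 3 ↥H := hG.to_subgroup H
    have hpos : 0 < Nat.card (frattini ↥H) := Nat.card_pos
    have hL : Nat.card (Cc G 1) = 27 := by rw [C.card_L]; norm_num
    have hdvd : Nat.card H ∣ 3 ^ 3 := by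
      have := Subgroup.card_dvd_of_le hH
      rw [hL] at this
      exact this
    obtain ⟨k, hk, hk'⟩ := (Nat.dvd_prime_pow Nat.prime_three).1 hdvd
    have hk3 : k = 3 ∨ k ≤ 2 := by omega
    rcases hk3 with rfl | hk2
    · have hHL : H = Cc G 1 := Subgroup.eq_of_le_of_card_ge hH (by rw [hL, hk']; norm_num)
      obtain ⟨a, haL, ha3⟩ := hex
      have haH : a ∈ H := hHL ▸ haL
      have hne : frattini ↥H ≠ ⊥ := by
        intro hb
        have h1 := pow_mem_frattini_of_isPGroup hHp (⟨a, haH⟩ : ↥H)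
        rw [hb, Subgroup.mem_bot] at h1
        apply ha3
        exact congrArg (fun y : ↥H => (y : G)) h1
      have h3 : 3 * Nat.card (⊥ : Subgroup ↥H) ≤ Nat.card (frattini ↥H) :=
        card_mul_le_of_lt hHp (bot_lt_iff_ne_bot.2 hne)
      rw [Subgroup.card_bot] at h3
      rw [hk']
      omega
    · have : 3 ^ k ≤ 3 ^ 2 := Nat.pow_le_pow_right (by norm_num) hk2
      rw [hk']
      omega
  · exact C.card_le_frattini_of_not_le_L H hH

/-- a subgroup of `L₁` avoiding the centre is core-free -/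
theorem core_free (C : Ctx G 4 s) (K : Subgroup G) (hKL : K ≤ Cc G 1) (hK2 : K ⊓ Γ 2 = ⊥) :
    K.normalCore = ⊥ := by
  have hcomm : ∀ c ∈ K.normalCore, ⁅s, c⁆ ∈ K.normalCore := by
    intro c hc
    have h1 : ⁅s, c⁆ = (s * c * s⁻¹) * c⁻¹ := by rw [commutatorElement_def]
    rw [h1]
    exact Subgroup.mul_mem _ (Subgroup.Normal.conj_mem inferInstance c hc s)
      (Subgroup.inv_mem _ hc)
  have hA : ∀ c ∈ K.normalCore, c ∈ Γ 1 → c = 1 := by
    intro c hc hc1
    have hc2 : c ∈ Γ 2 := by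
      by_contra hc2
      have h1 : ⁅s, c⁆ ∉ Γ (1 + 2) := C.unif le_rfl (by norm_num) hc1 hc2
      apply h1
      have h2 : ⁅s, c⁆ ∈ K ⊓ Γ 2 :=
        ⟨Subgroup.normalCore_le K (hcomm c hc), comm_mem_lcs_succ' 1 hc1 s⟩
      rw [hK2, Subgroup.mem_bot] at h2
      rw [h2]; exact Subgroup.one_mem _
    have h3 : c ∈ K ⊓ Γ 2 := ⟨Subgroup.normalCore_le K hc, hc2⟩
    rw [hK2, Subgroup.mem_bot] at h3
    exact h3
  rw [eq_bot_iff]
  intro c hc
  rw [Subgroup.mem_bot]
  apply hA c hc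
  by_contra hc1
  have h1 : ⁅s, c⁆ ∉ Γ 2 := C.two_step_zero C.s_not_mem_L (hKL (Subgroup.normalCore_le K hc)) hc1
  apply h1
  have h2 := hA _ (hcomm c hc) (comm_mem_lcs_succ' 0 (Subgroup.mem_top c) s)
  rw [h2]; exact Subgroup.one_mem _

/-- the case where `L₁` has exponent three: `G` is a Sylow `3`-subgroup of `S₉` -/
theorem four_of_forall (C : Ctx G 4 s) (hall : ∀ a ∈ Cc G 1, a ^ 3 = 1) :
    ∃ W : Sylow 3 (Equiv.Perm (Fin 9)),
      Nonempty (G ≃* ↥(W : Subgroup (Equiv.Perm (Fin 9)))) := by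
  have hG : IsPGroup 3 G := C.mc.pgrp
  have hL : Nat.card (Cc G 1) = 27 := by rw [C.card_L]; norm_num
  have h1c : Nat.card (Γ 1) = 9 := by rw [C.mc.card_lcs 1 le_rfl (by norm_num)]; norm_num
  have h2c : Nat.card (Γ 2) = 3 := by rw [C.mc.card_lcs 2 (by norm_num) (by norm_num)]; norm_num
  obtain ⟨x, hx, hx'⟩ := C.exists_x2
  obtain ⟨a, ha, ha'⟩ : ∃ a, a ∈ Cc G 1 ∧ a ∉ Γ 1 := by
    have hlt : Γ 1 < Cc G 1 := by
      refine lt_of_le_of_ne C.gamma1_le_L ?_
      intro h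
      rw [h] at h1c
      omega
    obtain ⟨a, ha, ha'⟩ := SetLike.exists_of_lt hlt
    exact ⟨a, ha, ha'⟩
  have hxL : x ∈ Cc G 1 := C.gamma1_le_L hx
  have hax : a * x = x * a := by
    have h1 := mem_Cc.1 ha x hx
    rw [C.gamma3_eq_bot, Subgroup.mem_bot, commutatorElement_eq_one_iff_mul_comm] at h1
    exact h1
  obtain ⟨K, hK⟩ : ∃ K : Subgroup G, K = Subgroup.closure ({a, x} : Set G) := ⟨_, rfl⟩
  have haK : a ∈ K := by rw [hK]; exact Subgroup.subset_closure (by simp)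
  have hxK : x ∈ K := by rw [hK]; exact Subgroup.subset_closure (by simp)
  have hKL : K ≤ Cc G 1 := by
    rw [hK, Subgroup.closure_le]
    rintro y (rfl | hy)
    · exact ha
    · rw [Set.mem_singleton_iff] at hy
      rw [hy]; exact hxL
  have hK2 : K ⊓ Γ 2 = ⊥ := by
    rw [eq_bot_iff]
    rintro y ⟨hyK, hy2⟩
    rw [Subgroup.mem_bot]
    have hyK' : y ∈ Subgroup.closure ({a, x} : Set G) := hK ▸ hyK
    obtain ⟨i, j, rfl⟩ := Cfsg.Agent.H9RK2.exists_zpow_of_mem_closure_pair hax hyK'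
    have hy1 : a ^ i * x ^ j ∈ Γ 1 := Subgroup.lowerCentralSeries_antitone _ (by norm_num) hy2
    have hai : a ^ i ∈ Γ 1 := by
      have : a ^ i = (a ^ i * x ^ j) * (x ^ j)⁻¹ := by group
      rw [this]
      exact Subgroup.mul_mem _ hy1 (Subgroup.inv_mem _ (Subgroup.zpow_mem _ hx j))
    have hai1 : a ^ i = 1 := zpow_eq_one_of_mem (Γ 1) (hall a ha) ha' i hai
    rw [hai1, one_mul] at hy2 ⊢
    exact zpow_eq_one_of_mem (Γ 2) (hall x hxL) hx' j hy2
  -- the order of `K`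
  have hKup : Nat.card K * 3 ≤ 27 := by
    rw [← h2c, ← hL, ← Nat.card_prod]
    apply Nat.card_le_card_of_injective
      (fun p : ↥K × ↥(Γ 2) => (⟨(p.1 : G) * (p.2 : G),
        Subgroup.mul_mem _ (hKL p.1.2) (C.gamma1_le_L
          (Subgroup.lowerCentralSeries_antitone _ (by norm_num) p.2.2))⟩ : ↥(Cc G 1)))
    rintro ⟨k, z⟩ ⟨k', z'⟩ h
    have h1 : (k : G) * (z : G) = (k' : G) * (z' : G) :=
      congrArg (fun t : ↥(Cc G 1) => (t : G)) h
    have h2 : (k' : G)⁻¹ * (k : G) = (z' : G) * (z : G)⁻¹ := by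
      calc (k' : G)⁻¹ * (k : G) = (k' : G)⁻¹ * ((k : G) * (z : G)) * (z : G)⁻¹ := by group
        _ = (k' : G)⁻¹ * ((k' : G) * (z' : G)) * (z : G)⁻¹ := by rw [h1]
        _ = (z' : G) * (z : G)⁻¹ := by group
    have h3 : (k' : G)⁻¹ * (k : G) ∈ K ⊓ Γ 2 :=
      ⟨K.mul_mem (K.inv_mem k'.2) k.2, by
        rw [h2]; exact Subgroup.mul_mem _ z'.2 (Subgroup.inv_mem _ z.2)⟩
    rw [hK2, Subgroup.mem_bot] at h3
    have h4 : (k : G) = (k' : G) := by
      have := inv_mul_eq_one.1 h3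
      exact this.symm
    have h5 : (z : G) = (z' : G) := by
      rw [h4] at h1
      exact mul_left_cancel h1
    exact Prod.ext (Subtype.ext h4) (Subtype.ext h5)
  have hKlow : 9 ≤ Nat.card K := by
    have hlt : Subgroup.zpowers x < K := by
      refine lt_of_le_of_ne ((Subgroup.zpowers_le).2 hxK) ?_
      intro h
      apply ha'
      have : a ∈ Subgroup.zpowers x := h ▸ haK
      exact (Subgroup.zpowers_le.2 hx) this
    have h1 := card_mul_le_of_lt hG hlt
    have hx1 : x ≠ 1 := fun h => hx' (h ▸ Subgroup.one_mem _)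
    have h2 : orderOf x = 3 := orderOf_eq_prime (hall x hxL) hx1
    rw [Nat.card_zpowers, h2] at h1
    exact h1
  have hKc : Nat.card K = 9 := by omega
  -- the action on the cosets of `K`
  have hcore := C.core_free K hKL hK2
  have hQ : Nat.card (G ⧸ K) = 9 := by
    have h1 := Subgroup.card_eq_card_quotient_mul_card_subgroup K
    rw [C.card_G, hKc] at h1
    omega
  obtain ⟨e⟩ : Nonempty ((G ⧸ K) ≃ Fin 9) := ⟨(Finite.equivFin (G ⧸ K)).trans (finCongr hQ)⟩
  obtain ⟨f, hf⟩ : ∃ f : G →* Equiv.Perm (Fin 9),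
      f = e.permCongrHom.toMonoidHom.comp (MulAction.toPermHom G (G ⧸ K)) := ⟨_, rfl⟩
  have hinj : Function.Injective f := by
    rw [← MonoidHom.ker_eq_bot_iff, eq_bot_iff]
    intro g hg
    rw [MonoidHom.mem_ker, hf] at hg
    have h1 : MulAction.toPermHom G (G ⧸ K) g = 1 := by
      apply e.permCongrHom.injective
      rw [map_one]
      exact hg
    have h2 : g ∈ (MulAction.toPermHom G (G ⧸ K)).ker := h1
    rw [← Subgroup.normalCore_eq_ker, hcore] at h2
    exact h2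
  have hRcard : Nat.card f.range = 81 := by
    rw [← Nat.card_congr (MonoidHom.ofInjective hinj).toEquiv, C.card_G]
    norm_num
  have hRp : IsPGroup 3 f.range := IsPGroup.of_card (n := 4) (by rw [hRcard]; norm_num)
  obtain ⟨W, hW⟩ := hRp.exists_le_sylow
  have hRW : f.range = (W : Subgroup (Equiv.Perm (Fin 9))) :=
    Subgroup.eq_of_le_of_card_ge hW (by rw [hRcard]; exact card_sylow_perm_nine_le W)
  exact ⟨W, ⟨(MonoidHom.ofInjective hinj).trans (MulEquiv.subgroupCongr hRW)⟩⟩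

theorem four_main (C : Ctx G 4 s) :
    (∀ H : Subgroup G, Nat.card H ≤ 9 * Nat.card (frattini ↥H)) ∨
    ∃ W : Sylow 3 (Equiv.Perm (Fin 9)),
      Nonempty (G ≃* ↥(W : Subgroup (Equiv.Perm (Fin 9)))) := by
  by_cases hex : ∃ a ∈ Cc G 1, a ^ 3 ≠ 1
  · exact Or.inl (C.four_of_exists hex)
  · push Not at hex
    exact Or.inr (C.four_of_forall hex)

end Ctx

end Cfsg.Agent.H9PRL
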