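import Mathlib
import Cfsg.Agent.Lib.Helper9.PRL6

set_option autoImplicit false

/-!
# Pearls: the group-theoretic main theorem
-/

namespace Cfsg.Agent.H9PRL

open scoped commutatorElement
open Cfsg.Agent.Lib.Helper7.MaxCls Cfsg.Agent.Lib.Lead

variable {G : Type*} [Group G]

/-- a `3`-group of order at least `81` with an element `s` whose centralizer has order `9` and
whose cube is central: every subgroup is generated by two elements, or the group is a Sylow
`3`-subgroup of `S₉` -/
theorem main_group [Finite G] [Fact (Nat.Prime 3)] (n : ℕ) (hn : 4 ≤ n)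
    (hcard : Nat.card G = 3 ^ n) (s : G)
    (hs : Nat.card (Subgroup.centralizer ({s} : Set G)) = 9)
    (hcube : ∀ g : G, s ^ 3 * g = g * s ^ 3) :
    (∀ H : Subgroup G, ∃ T : Finset G, T.card ≤ 2 ∧ Subgroup.closure (T : Set G) = H) ∨
    ∃ W : Sylow 3 (Equiv.Perm (Fin 9)),
      Nonempty (G ≃* ↥(W : Subgroup (Equiv.Perm (Fin 9)))) := by
  obtain ⟨hmc, hs1⟩ := isMC_of_cent n (by omega) hcard s hs
  have C : Ctx G n s := ⟨hmc, hn, hs, hs1, hcube⟩
  rcases Nat.lt_or_ge n 5 with h5 | h5
  · have h4 : n = 4 := by omega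
    subst h4
    rcases C.four_main with h | h
    · exact Or.inl (fun H => exists_two_gen hmc.pgrp H (h H))
    · exact Or.inr h
  · refine Or.inl (fun H => exists_two_gen hmc.pgrp H ?_)
    by_cases hH : H ≤ Cc G 1
    · exact C.card_le_frattini_of_le_L h5 H hH
    · exact C.card_le_frattini_of_not_le_L H hH

end Cfsg.Agent.H9PRL
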