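import Mathlib
import Cfsg.Agent.Lib.Helper9.PRL7
import Cfsg.Agent.Lib.Helper9.P3Class2
import Cfsg.Agent.Lib.Lead.ClassTwo

set_option autoImplicit false

/-!
# Pearls: abstract group theory of a pearl inside a `3`-group
-/

namespace Cfsg.Agent.H9PRL

open scoped commutatorElement
open Cfsg.Agent.Lib.Helper7.MaxCls Cfsg.Agent.Lib.Lead

variable {P : Type*} [Group P]

theorem card_eq_pow_of_dvd {m k : ℕ} (h : m ∣ 3 ^ k) : ∃ j ≤ k, m = 3 ^ j :=
  (Nat.dvd_prime_pow Nat.prime_three).1 h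

theorem card_lt_of_lt [Finite P] {A B : Subgroup P} (h : A < B) : Nat.card A < Nat.card B := by
  rcases lt_or_eq_of_le (Subgroup.card_le_of_le h.le) with h1 | h1
  · exact h1
  · exact absurd (Subgroup.eq_of_le_of_card_ge h.le h1.ge) h.ne

theorem mem_Z2_iff' {x : P} :
    x ∈ Subgroup.upperCentralSeries P 2 ↔ ∀ y : P, ⁅x, y⁆ ∈ Subgroup.center P := by
  rw [show (2 : ℕ) = 1 + 1 from rfl, Subgroup.mem_upperCentralSeries_succ_iff,
    Subgroup.upperCentralSeries_one]

/-- an abelian pearl gives an element with centralizer of order nine -/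
theorem exists_of_abelian_pearl [Finite P] [Fact (Nat.Prime 3)] (hP : IsPGroup 3 P)
    (E : Subgroup P) (hcard : Nat.card E = 9) (hab : ∀ a ∈ E, ∀ b ∈ E, a * b = b * a)
    (hexp : ∀ a ∈ E, a ^ 3 = 1) (hcen : ∀ x : P, (∀ g ∈ E, x * g = g * x) → x ∈ E)
    (hne : E ≠ ⊤) :
    ∃ s : P, Nat.card (Subgroup.centralizer ({s} : Set P)) = 9 ∧
      ∀ g : P, s ^ 3 * g = g * s ^ 3 := by
  have hZE : Subgroup.center P ≤ E := fun z hz =>
    hcen z (fun g _ => (Subgroup.mem_center_iff.1 hz g).symm)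
  haveI : Nontrivial P := by
    rw [← Finite.one_lt_card_iff_nontrivial]
    have := Subgroup.card_le_card_group (H := E)
    omega
  have hZne : Subgroup.center P ≠ ⊥ :=
    (Subgroup.nontrivial_iff_ne_bot _).1 hP.center_nontrivial
  obtain ⟨s, hsE, hsZ⟩ : ∃ s ∈ E, s ∉ Subgroup.center P := by
    by_contra hcon
    push Not at hcon
    apply hne
    rw [eq_top_iff]
    intro x _
    exact hcen x (fun g hg => Subgroup.mem_center_iff.1 (hcon g hg) x)
  obtain ⟨M, hM⟩ : ∃ M : Subgroup P, M = Subgroup.zpowers s ⊔ Subgroup.center P := ⟨_, rfl⟩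
  have hME : M ≤ E := by
    rw [hM]; exact sup_le (Subgroup.zpowers_le.2 hsE) hZE
  have hZM : Subgroup.center P < M := by
    rw [hM]
    refine lt_of_le_of_ne le_sup_right ?_
    intro h
    apply hsZ
    rw [h]
    exact Subgroup.mem_sup_left (Subgroup.mem_zpowers s)
  have hMeq : M = E := by
    apply Subgroup.eq_of_le_of_card_ge hME
    have hd2 : Nat.card M ∣ 3 ^ 2 := by
      have := Subgroup.card_dvd_of_le hME
      rw [hcard] at this
      exact this
    have hd1 : Nat.card (Subgroup.center P) ∣ 3 ^ 2 :=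
      dvd_trans (Subgroup.card_dvd_of_le hZM.le) hd2
    obtain ⟨k, hk, hk'⟩ := card_eq_pow_of_dvd hd2
    obtain ⟨j, hj, hj'⟩ := card_eq_pow_of_dvd hd1
    have hj0 : j ≠ 0 := by
      rintro rfl
      rw [pow_zero] at hj'
      exact hZne (Subgroup.card_eq_one.1 hj')
    have hlt := card_lt_of_lt hZM
    rw [hk', hj'] at hlt
    have hjk : j < k := (Nat.pow_lt_pow_iff_right (by norm_num)).1 hlt
    have hk2 : k = 2 := by omega
    rw [hcard, hk', hk2]
    norm_num
  have hkey : ∀ x : P, x * s = s * x → x ∈ E := by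
    intro x hx
    apply hcen
    intro g hg
    have hle : M ≤ Subgroup.centralizer ({x} : Set P) := by
      rw [hM]
      apply sup_le
      · rw [Subgroup.zpowers_le, Subgroup.mem_centralizer_singleton_iff]
        exact hx.symm
      · intro z hz
        rw [Subgroup.mem_centralizer_singleton_iff]
        exact (Subgroup.mem_center_iff.1 hz x).symm
    have := hle (hMeq ▸ hg)
    rw [Subgroup.mem_centralizer_singleton_iff] at this
    exact this.symm
  have hC : Subgroup.centralizer ({s} : Set P) = E := by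
    apply le_antisymm
    · intro x hx
      rw [Subgroup.mem_centralizer_singleton_iff] at hx
      exact hkey x hx
    · intro e he
      rw [Subgroup.mem_centralizer_singleton_iff]
      exact hab e he s hsE
  refine ⟨s, by rw [hC, hcard], fun g => ?_⟩
  rw [hexp s hsE, one_mul, mul_one]

/-- a nonabelian pearl gives an element with centralizer of order nine -/
theorem exists_of_nonabelian_pearl [Finite P] [Fact (Nat.Prime 3)] (hP : IsPGroup 3 P)
    (E : Subgroup P) (hcard : Nat.card E = 27) (hna : ¬ ∀ a ∈ E, ∀ b ∈ E, a * b = b * a)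
    (hcen : ∀ x : P, (∀ g ∈ E, x * g = g * x) → x ∈ E) (hne : E ≠ ⊤)
    (hR : ∀ n : P, (∀ g ∈ E, n * g * n⁻¹ ∈ E) →
      (∀ w ∈ E ⊓ Subgroup.centralizer (E : Set P), n * w * n⁻¹ = w) →
      (∀ g ∈ E, g⁻¹ * (n * g * n⁻¹) ∈ E ⊓ Subgroup.centralizer (E : Set P)) → n ∈ E) :
    ∃ s : P, Nat.card (Subgroup.centralizer ({s} : Set P)) = 9 ∧
      ∀ g : P, s ^ 3 * g = g * s ^ 3 := by
  have hZE : Subgroup.center P ≤ E := fun z hz =>
    hcen z (fun g _ => (Subgroup.mem_center_iff.1 hz g).symm)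
  haveI : Nontrivial P := by
    rw [← Finite.one_lt_card_iff_nontrivial]
    have := Subgroup.card_le_card_group (H := E)
    omega
  have hZne : Subgroup.center P ≠ ⊥ :=
    (Subgroup.nontrivial_iff_ne_bot _).1 hP.center_nontrivial
  have hna' : ¬ ∀ a b : ↥E, a * b = b * a := fun h =>
    hna (fun a ha b hb => congrArg (fun t : ↥E => (t : P)) (h ⟨a, ha⟩ ⟨b, hb⟩))
  obtain ⟨hcZ, hcomm, hpow⟩ := Cfsg.Agent.H9P3.nonab_center 3
    (show Nat.card ↥E = 3 ^ 3 by rw [hcard]; norm_num) hna'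
  -- the centre of `P` is the centre of `E`
  have hZsub : (Subgroup.center P).subgroupOf E ≤ Subgroup.center ↥E := by
    intro e he
    rw [Subgroup.mem_subgroupOf] at he
    rw [Subgroup.mem_center_iff]
    intro g
    exact Subtype.ext (Subgroup.mem_center_iff.1 he (g : P))
  have hcardsub : Nat.card ((Subgroup.center P).subgroupOf E) = Nat.card (Subgroup.center P) :=
    Nat.card_congr (Subgroup.subgroupOfEquivOfLe hZE).toEquiv
  have hZ3 : Nat.card (Subgroup.center P) = 3 := by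
    have hd := Subgroup.card_dvd_of_le hZsub
    rw [hcardsub, hcZ] at hd
    rcases (Nat.dvd_prime Nat.prime_three).1 hd with h | h
    · exact absurd (Subgroup.card_eq_one.1 h) hZne
    · exact h
  have hZeq : (Subgroup.center P).subgroupOf E = Subgroup.center ↥E :=
    Subgroup.eq_of_le_of_card_ge hZsub (by rw [hcardsub, hcZ, hZ3])
  have hmemZ : ∀ e : ↥E, e ∈ Subgroup.center ↥E → (e : P) ∈ Subgroup.center P := by
    intro e he
    rw [← hZeq, Subgroup.mem_subgroupOf] at he
    exact he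
  have hpowZ : ∀ a ∈ E, a ^ 3 ∈ Subgroup.center P := fun a ha => hmemZ _ (hpow ⟨a, ha⟩)
  have hcenmul : ∀ z ∈ Subgroup.center P, ∀ g : P, g * z * g⁻¹ = z := by
    intro z hz g
    rw [Subgroup.mem_center_iff.1 hz g, mul_inv_cancel_right]
  have hWZ : ∀ w ∈ E ⊓ Subgroup.centralizer (E : Set P), w ∈ Subgroup.center P := by
    intro w hw
    apply hmemZ ⟨w, hw.1⟩
    rw [Subgroup.mem_center_iff]
    intro g
    exact Subtype.ext (Subgroup.mem_centralizer_iff.1 hw.2 (g : P) g.2)
  have hZW : Subgroup.center P ≤ E ⊓ Subgroup.centralizer (E : Set P) := by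
    intro z hz
    refine ⟨hZE hz, ?_⟩
    show z ∈ Subgroup.centralizer (E : Set P)
    rw [Subgroup.mem_centralizer_iff]
    intro g _
    exact Subgroup.mem_center_iff.1 hz g
  -- the radical property in commutator form
  have hR' : ∀ x : P, (∀ g ∈ E, x * g * x⁻¹ * g⁻¹ ∈ Subgroup.center P) → x ∈ E := by
    intro x hx
    apply hR x
    · intro g hg
      have : x * g * x⁻¹ = (x * g * x⁻¹ * g⁻¹) * g := by group
      rw [this]
      exact E.mul_mem (hZE (hx g hg)) hg
    · intro w hw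
      exact hcenmul w (hWZ w hw) x
    · intro g hg
      apply hZW
      have h1 : g⁻¹ * (x * g * x⁻¹) = g⁻¹ * (x * g * x⁻¹ * g⁻¹) * g⁻¹⁻¹ := by group
      rw [h1, hcenmul _ (hx g hg)]
      exact hx g hg
  have hZ2E : Subgroup.upperCentralSeries P 2 ≤ E := by
    intro x hx
    apply hR' x
    intro g _
    have := mem_Z2_iff'.1 hx g
    rwa [commutatorElement_def] at this
  have hZle : Subgroup.center P ≤ Subgroup.upperCentralSeries P 2 := by
    rw [← Subgroup.upperCentralSeries_one]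
    exact Subgroup.upperCentralSeries_mono P (by norm_num)
  have hZtop : Subgroup.center P ≠ ⊤ := by
    intro h
    apply hna
    intro a _ b _
    have : b ∈ Subgroup.center P := h ▸ Subgroup.mem_top b
    exact Subgroup.mem_center_iff.1 this a
  have hZZ2 : Subgroup.center P < Subgroup.upperCentralSeries P 2 := by
    refine lt_of_le_of_ne hZle ?_
    intro heq
    haveI : Nontrivial (P ⧸ Subgroup.center P) := by
      rw [← Finite.one_lt_card_iff_nontrivial, ← Subgroup.index_eq_card]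
      have h1 : (Subgroup.center P).index ≠ 1 := fun h => hZtop (Subgroup.index_eq_one.1 h)
      have h2 : (Subgroup.center P).index ≠ 0 := Subgroup.index_ne_zero_of_finite
      omega
    have hQ : IsPGroup 3 (P ⧸ Subgroup.center P) := hP.to_quotient _
    have hnt := hQ.center_nontrivial
    obtain ⟨q, hq, hq1⟩ := (Subgroup.nontrivial_iff_exists_ne_one _).1 hnt
    obtain ⟨x, rfl⟩ := QuotientGroup.mk_surjective q
    have hx2 : x ∈ Subgroup.upperCentralSeries P 2 := by
      rw [mem_Z2_iff']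
      intro y
      rw [comm_mem_iff]
      exact (Subgroup.mem_center_iff.1 hq _).symm
    rw [← heq] at hx2
    exact hq1 ((QuotientGroup.eq_one_iff x).2 hx2)
  have hZ2ne : Subgroup.upperCentralSeries P 2 ≠ E := by
    intro h
    apply hne
    rw [eq_top_iff]
    intro n _
    apply hR' n
    intro g hg
    have hg2 : g ∈ Subgroup.upperCentralSeries P 2 := h ▸ hg
    have h1 := mem_Z2_iff'.1 hg2 n
    have h2 : n * g * n⁻¹ * g⁻¹ = ⁅g, n⁆⁻¹ := by rw [commutatorElement_def]; group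
    rw [h2]
    exact Subgroup.inv_mem _ h1
  have hZ2card : Nat.card (Subgroup.upperCentralSeries P 2) = 9 := by
    have hd : Nat.card (Subgroup.upperCentralSeries P 2) ∣ 3 ^ 3 := by
      have := Subgroup.card_dvd_of_le hZ2E
      rw [hcard] at this
      exact this
    obtain ⟨k, hk, hk'⟩ := card_eq_pow_of_dvd hd
    have hlt := card_lt_of_lt hZZ2
    rw [hZ3, hk'] at hlt
    have hk1 : 1 < k := by
      have : 3 ^ 1 < 3 ^ k := by rw [pow_one]; exact hlt
      exact (Nat.pow_lt_pow_iff_right (by norm_num)).1 this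
    have hk3 : k ≠ 3 := by
      rintro rfl
      apply hZ2ne
      apply Subgroup.eq_of_le_of_card_ge hZ2E
      rw [hcard, hk']; norm_num
    have hk2 : k = 2 := by omega
    rw [hk', hk2]; norm_num
  obtain ⟨s, hsE, hs2⟩ : ∃ s ∈ E, s ∉ Subgroup.upperCentralSeries P 2 := by
    have hlt : Subgroup.upperCentralSeries P 2 < E := lt_of_le_of_ne hZ2E hZ2ne
    obtain ⟨s, hs, hs'⟩ := SetLike.exists_of_lt hlt
    exact ⟨s, hs, hs'⟩
  have hsZ : s ∉ Subgroup.center P := fun h => hs2 (hZle h)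
  -- elements commuting with `s` lie in `E`
  have hkey : ∀ x : P, x * s = s * x → x ∈ E := by
    intro x hx
    let Y : Subgroup P :=
      { carrier := {g | g ∈ E ∧ x * g * x⁻¹ * g⁻¹ ∈ Subgroup.center P}
        one_mem' := ⟨E.one_mem, by simp⟩
        mul_mem' := by
          rintro g h ⟨hg, hg'⟩ ⟨hh, hh'⟩
          refine ⟨E.mul_mem hg hh, ?_⟩
          have h1 : x * (g * h) * x⁻¹ * (g * h)⁻¹ =
              (x * g * x⁻¹ * g⁻¹) * (g * (x * h * x⁻¹ * h⁻¹) * g⁻¹) := by group
          rw [h1, hcenmul _ hh']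
          exact Subgroup.mul_mem _ hg' hh'
        inv_mem' := by
          rintro g ⟨hg, hg'⟩
          refine ⟨E.inv_mem hg, ?_⟩
          have h1 : x * g⁻¹ * x⁻¹ * g⁻¹⁻¹ = g⁻¹ * (x * g * x⁻¹ * g⁻¹)⁻¹ * g⁻¹⁻¹ := by group
          rw [h1, hcenmul _ (Subgroup.inv_mem _ hg')]
          exact Subgroup.inv_mem _ hg' }
    have hYE : Y ≤ E := fun g hg => hg.1
    have hsY : s ∈ Y := by
      refine ⟨hsE, ?_⟩
      rw [hx]
      simp
    have hZ2Y : Subgroup.upperCentralSeries P 2 ≤ Y := by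
      intro w hw
      refine ⟨hZ2E hw, ?_⟩
      have h1 := mem_Z2_iff'.1 hw x
      have h2 : x * w * x⁻¹ * w⁻¹ = ⁅w, x⁆⁻¹ := by rw [commutatorElement_def]; group
      rw [h2]
      exact Subgroup.inv_mem _ h1
    have hlt : Subgroup.upperCentralSeries P 2 < Y :=
      lt_of_le_of_ne hZ2Y (fun h => hs2 (h ▸ hsY))
    have hYeq : Y = E := by
      apply Subgroup.eq_of_le_of_card_ge hYE
      have hd : Nat.card Y ∣ 3 ^ 3 := by
        have := Subgroup.card_dvd_of_le hYE
        rw [hcard] at this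
        exact this
      obtain ⟨k, hk, hk'⟩ := card_eq_pow_of_dvd hd
      have h1 := card_lt_of_lt hlt
      rw [hZ2card, hk'] at h1
      have hk2 : 2 < k := by
        have : 3 ^ 2 < 3 ^ k := by norm_num; exact h1
        exact (Nat.pow_lt_pow_iff_right (by norm_num)).1 this
      have hk3 : k = 3 := by omega
      rw [hcard, hk', hk3]; norm_num
    apply hR' x
    intro g hg
    have : g ∈ Y := hYeq ▸ hg
    exact this.2
  have hCE : Subgroup.centralizer ({s} : Set P) ≤ E := by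
    intro x hx
    rw [Subgroup.mem_centralizer_singleton_iff] at hx
    exact hkey x hx
  have hCne : Subgroup.centralizer ({s} : Set P) ≠ E := by
    intro h
    apply hsZ
    apply hmemZ ⟨s, hsE⟩
    rw [Subgroup.mem_center_iff]
    intro g
    have hg : (g : P) ∈ Subgroup.centralizer ({s} : Set P) := h ▸ g.2
    rw [Subgroup.mem_centralizer_singleton_iff] at hg
    exact Subtype.ext hg
  have hlow : Subgroup.center P < Subgroup.centralizer ({s} : Set P) := by
    refine lt_of_le_of_ne ?_ ?_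
    · intro z hz
      rw [Subgroup.mem_centralizer_singleton_iff]
      exact (Subgroup.mem_center_iff.1 hz s).symm
    · intro h
      apply hsZ
      rw [h, Subgroup.mem_centralizer_singleton_iff]
  have hCcard : Nat.card (Subgroup.centralizer ({s} : Set P)) = 9 := by
    have hd : Nat.card (Subgroup.centralizer ({s} : Set P)) ∣ 3 ^ 3 := by
      have := Subgroup.card_dvd_of_le hCE
      rw [hcard] at this
      exact this
    obtain ⟨k, hk, hk'⟩ := card_eq_pow_of_dvd hd
    have h1 := card_lt_of_lt hlow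
    rw [hZ3, hk'] at h1
    have hk1 : 1 < k := by
      have : 3 ^ 1 < 3 ^ k := by rw [pow_one]; exact h1
      exact (Nat.pow_lt_pow_iff_right (by norm_num)).1 this
    have hk3 : k ≠ 3 := by
      rintro rfl
      apply hCne
      apply Subgroup.eq_of_le_of_card_ge hCE
      rw [hcard, hk']; norm_num
    have hk2 : k = 2 := by omega
    rw [hk', hk2]; norm_num
  refine ⟨s, hCcard, fun g => ?_⟩
  exact (Subgroup.mem_center_iff.1 (hpowZ s hsE) g).symm

/-- the commutator homomorphism in a group of class two -/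
def commHom2 (hc : ∀ a b : P, ⁅a, b⁆ ∈ Subgroup.center P) (y : P) : P →* P where
  toFun a := ⁅a, y⁆
  map_one' := by simp
  map_mul' a b := by
    have h1 : ⁅a * b, y⁆ = a * ⁅b, y⁆ * a⁻¹ * ⁅a, y⁆ := by
      simp only [commutatorElement_def]; group
    have h2 : a * ⁅b, y⁆ = ⁅b, y⁆ * a := Subgroup.mem_center_iff.1 (hc b y) a
    have h3 : ⁅a, y⁆ * ⁅b, y⁆ = ⁅b, y⁆ * ⁅a, y⁆ := Subgroup.mem_center_iff.1 (hc b y) _
    rw [h1, h2, mul_inv_cancel_right, h3]

theorem commHom2_apply (hc : ∀ a b : P, ⁅a, b⁆ ∈ Subgroup.center P) (y a : P) :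
    commHom2 hc y a = ⁅a, y⁆ := rfl

/-- an endomorphism inverting an abelian pearl of a group of order `27` forces exponent three -/
theorem cube_eq_one_of_inverting [Finite P] [Fact (Nat.Prime 3)] (hcardP : Nat.card P = 27)
    (E : Subgroup P) (hcard : Nat.card E = 9) (hab : ∀ a ∈ E, ∀ b ∈ E, a * b = b * a)
    (hexp : ∀ a ∈ E, a ^ 3 = 1) (hcen : ∀ x : P, (∀ g ∈ E, x * g = g * x) → x ∈ E)
    (β : P →* P) (hβ : ∀ e ∈ E, β e = e⁻¹) : ∀ x : P, x ^ 3 = 1 := by
  have hna : ¬ ∀ a b : P, a * b = b * a := by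
    intro h
    have : E = ⊤ := eq_top_iff.2 (fun x _ => hcen x (fun g _ => h x g))
    rw [this, Subgroup.card_top, hcardP] at hcard
    omega
  obtain ⟨hcZ, hc, hpow⟩ := Cfsg.Agent.H9P3.nonab_center 3
    (show Nat.card P = 3 ^ 3 by rw [hcardP]; norm_num) hna
  have hZE : Subgroup.center P ≤ E := fun z hz =>
    hcen z (fun g _ => (Subgroup.mem_center_iff.1 hz g).symm)
  haveI hEn : E.Normal := by
    apply normal_of_commutator_le
    rw [commutator_def, Subgroup.commutator_le]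
    intro a _ b _
    exact hZE (hc a b)
  intro x
  by_cases hx : x ∈ E
  · exact hexp x hx
  obtain ⟨e', he', hxe⟩ : ∃ e' ∈ E, x * e' ≠ e' * x := by
    by_contra hcon
    push Not at hcon
    exact hx (hcen x hcon)
  have hzZ : ⁅x, e'⁆ ∈ Subgroup.center P := hc x e'
  have hzE : ⁅x, e'⁆ ∈ E := hZE hzZ
  have hz1 : ⁅x, e'⁆ ≠ 1 := by
    rw [Ne, commutatorElement_eq_one_iff_mul_comm]
    exact hxe
  have hctop : Nat.card (⊤ : Subgroup P) = 3 * Nat.card E := by
    rw [Subgroup.card_top, hcardP, hcard]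
  obtain ⟨a, e₀, he₀, hβx⟩ := exists_zpow_mul (p := 3) ⊤ E le_top hctop x (Subgroup.mem_top x) hx
    (β x) (Subgroup.mem_top _)
  -- `β` inverts the commutator `⁅x, e'⁆`
  have h1 : β ⁅x, e'⁆ = (⁅x, e'⁆)⁻¹ := hβ _ hzE
  have h2 : β ⁅x, e'⁆ = commHom2 hc e'⁻¹ (x ^ a * e₀) := by
    rw [map_commutatorElement, hβ e' he', hβx, commHom2_apply]
  have h3 : commHom2 hc e'⁻¹ e₀ = 1 := by
    rw [commHom2_apply, commutatorElement_eq_one_iff_mul_comm]
    exact hab e₀ he₀ e'⁻¹ (E.inv_mem he')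
  have h4 : commHom2 hc e'⁻¹ x = (⁅x, e'⁆)⁻¹ := by
    rw [commHom2_apply]
    have h5 : ⁅x, e'⁻¹⁆ = e'⁻¹ * (⁅x, e'⁆)⁻¹ * e'⁻¹⁻¹ := by
      simp only [commutatorElement_def]; group
    rw [h5, Subgroup.mem_center_iff.1 (Subgroup.inv_mem _ hzZ) e'⁻¹, mul_inv_cancel_right]
  rw [map_mul, map_zpow, h3, mul_one, h4, h1, inv_zpow] at h2
  have h6 : ⁅x, e'⁆ ^ (a - 1) = 1 := by
    rw [zpow_sub_one, ← inv_inj.1 h2, mul_inv_cancel]
  have hord : orderOf ⁅x, e'⁆ = 3 := orderOf_eq_prime (hexp _ hzE) hz1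
  have hdvd : (3 : ℤ) ∣ a - 1 := by
    have := orderOf_dvd_iff_zpow_eq_one.2 h6
    rw [hord] at this
    exact_mod_cast this
  obtain ⟨k, hk⟩ := hdvd
  have ha : a = 1 + 3 * k := by omega
  have hx3E : x ^ 3 ∈ E := hZE (hpow x)
  obtain ⟨e₁, he₁⟩ : ∃ e₁ : P, e₁ = (x ^ 3) ^ k * e₀ := ⟨_, rfl⟩
  have he₁E : e₁ ∈ E := by
    rw [he₁]; exact E.mul_mem (E.zpow_mem hx3E k) he₀
  have h3z : x ^ (3 : ℤ) = x ^ 3 := by exact_mod_cast zpow_natCast x 3
  have hβx' : β x = x * e₁ := by
    rw [hβx, ha, he₁, zpow_add, zpow_one, zpow_mul, h3z, mul_assoc]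
  have h7 : β (x ^ 3) = x ^ 3 := by
    rw [map_pow, hβx', mul_pow_of_class_two hc x e₁ 3, hexp e₁ he₁E, mul_one]
    have h8 : Nat.choose 3 2 = 3 := by decide
    rw [h8, hexp _ (hZE (hc e₁ x)), mul_one]
  have h8 : β (x ^ 3) = (x ^ 3)⁻¹ := hβ _ hx3E
  have h9 : x ^ 3 * x ^ 3 = 1 := by
    have : x ^ 3 = (x ^ 3)⁻¹ := h7.symm.trans h8
    calc x ^ 3 * x ^ 3 = x ^ 3 * (x ^ 3)⁻¹ := by rw [← this]
      _ = 1 := mul_inv_cancel _
  have h10 : (x ^ 3) ^ 3 = 1 := hexp _ hx3E
  calc x ^ 3 = (x ^ 3) ^ 3 * (x ^ 3 * x ^ 3)⁻¹ := by group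
    _ = 1 := by rw [h10, h9, inv_one, mul_one]

end Cfsg.Agent.H9PRL
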