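import Mathlib
import Cfsg.Prelude
import Cfsg.Agent.Lib.Helper9.SL2Gen3
import Cfsg.Agent.Lib.Helper9.ElemAbAut1

set_option autoImplicit false

/-!
# Diagonal elements in a group of automorphisms of `C_p × C_p` with two Sylow `p`-subgroups
-/

namespace Cfsg.Agent.H9RK2

open Matrix Cfsg.Agent

theorem zmod_smul_ofMul {V : Type*} [CommGroup V] (p : ℕ) [Fact p.Prime]
    [Module (ZMod p) (Additive V)] (c : ZMod p) (v : V) :
    c • Additive.ofMul v = Additive.ofMul (v ^ c.val) := by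
  have h1 : ((c.val : ℕ) : ZMod p) = c := ZMod.natCast_zmod_val c
  calc c • Additive.ofMul v = ((c.val : ℕ) : ZMod p) • Additive.ofMul v := by rw [h1]
    _ = c.val • Additive.ofMul v := Nat.cast_smul_eq_nsmul (ZMod p) c.val _
    _ = Additive.ofMul (v ^ c.val) := (ofMul_pow c.val v).symm

theorem mulVec_diag_single (p : ℕ) [Fact p.Prime] (a d : ZMod p) :
    (!![a, 0; 0, d] *ᵥ (Finsupp.single (0 : Fin 2) (1 : ZMod p))) 0 = a ∧
    (!![a, 0; 0, d] *ᵥ (Finsupp.single (0 : Fin 2) (1 : ZMod p))) 1 = 0 ∧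
    (!![a, 0; 0, d] *ᵥ (Finsupp.single (1 : Fin 2) (1 : ZMod p))) 0 = 0 ∧
    (!![a, 0; 0, d] *ᵥ (Finsupp.single (1 : Fin 2) (1 : ZMod p))) 1 = d := by
  refine ⟨?_, ?_, ?_, ?_⟩ <;>
  · rw [Matrix.mulVec, dotProduct, Fin.sum_univ_two]
    simp

theorem det_diag_unit (p : ℕ) [Fact p.Prime] (u : (ZMod p)ˣ) :
    (!![(u : ZMod p), 0; 0, ((u⁻¹ : (ZMod p)ˣ) : ZMod p)]).det = 1 := by
  rw [Matrix.det_fin_two_of, mul_zero, sub_zero]
  exact Units.mul_inv u

theorem exists_diag_aux {V : Type*} [CommGroup V] [Finite V] (p : ℕ) [Fact p.Prime]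
    [Module (ZMod p) (Additive V)] (hcard : Nat.card V = p ^ 2)
    (G₀ : Subgroup (MulAut V)) (P₁ P₂ : Subgroup G₀) (h₁ : IsPGroup p P₁) (h₂ : IsPGroup p P₂)
    (hb₁ : P₁ ≠ ⊥) (hb₂ : P₂ ≠ ⊥) (hne : P₁ ≠ P₂)
    (ℓ m : V) (hℓ : ℓ ≠ 1) (hm : m ∉ Subgroup.zpowers ℓ) (u : (ZMod p)ˣ) :
    ∃ δ ∈ G₀, δ ℓ = ℓ ^ ((u : ZMod p).val) ∧ δ m = m ^ (((u⁻¹ : (ZMod p)ˣ) : ZMod p).val) := by
  have hpp : p.Prime := Fact.out
  haveI : Finite (Additive V) := ‹Finite V›
  haveI : Module.Finite (ZMod p) (Additive V) := Module.Finite.of_finite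
  have hfr : Module.finrank (ZMod p) (Additive V) = 2 := by
    have h1 := Module.natCard_eq_pow_finrank (K := ZMod p) (V := Additive V)
    have h2 : Nat.card (Additive V) = p ^ 2 := hcard
    rw [Nat.card_zmod, h2] at h1
    exact (Nat.pow_right_injective hpp.two_le h1).symm
  -- the basis
  have hli : LinearIndependent (ZMod p) ![Additive.ofMul ℓ, Additive.ofMul m] := by
    rw [LinearIndependent.pair_iff]
    intro s t hst
    have ht : t = 0 := by
      by_contra ht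
      apply hm
      have h1 : t • Additive.ofMul m = (-s) • Additive.ofMul ℓ := by
        rw [neg_smul]
        exact eq_neg_of_add_eq_zero_right hst
      have h2 : Additive.ofMul m = (t⁻¹ * (-s)) • Additive.ofMul ℓ := by
        rw [mul_smul, ← h1, smul_smul, inv_mul_cancel₀ ht, one_smul]
      rw [zmod_smul_ofMul] at h2
      have h3 : m = ℓ ^ (t⁻¹ * (-s)).val := Additive.ofMul.injective h2
      rw [h3]
      exact Subgroup.pow_mem _ (Subgroup.mem_zpowers ℓ) _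
    refine ⟨?_, ht⟩
    rw [ht, zero_smul, add_zero] at hst
    rcases smul_eq_zero.mp hst with h | h
    · exact h
    · exfalso
      apply hℓ
      exact Additive.ofMul.injective h
  let b : Module.Basis (Fin 2) (ZMod p) (Additive V) :=
    basisOfLinearIndependentOfCardEqFinrank hli (by rw [hfr]; rfl)
  have hb0 : b 0 = Additive.ofMul ℓ := by
    show (basisOfLinearIndependentOfCardEqFinrank hli _) 0 = _
    rw [coe_basisOfLinearIndependentOfCardEqFinrank]
    rfl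
  have hb1 : b 1 = Additive.ofMul m := by
    show (basisOfLinearIndependentOfCardEqFinrank hli _) 1 = _
    rw [coe_basisOfLinearIndependentOfCardEqFinrank]
    rfl
  -- the isomorphism with `GL₂(p)`
  let Φ : MulAut V ≃* GL (Fin 2) (ZMod p) := (H9EA.mulAutEquivLin p).trans
    ((LinearMap.GeneralLinearGroup.generalLinearEquiv (ZMod p) (Additive V)).symm.trans
      (Matrix.GeneralLinearGroup.toLin' b).symm)
  have hι : Function.Injective (Φ.toMonoidHom.comp G₀.subtype) :=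
    Φ.injective.comp G₀.subtype_injective
  have hle := H9SL2G.range_toGL_le (Φ.toMonoidHom.comp G₀.subtype) hι P₁ P₂ h₁ h₂ hb₁ hb₂ hne
  -- the diagonal matrix
  let Ds : Matrix.SpecialLinearGroup (Fin 2) (ZMod p) :=
    ⟨!![(u : ZMod p), 0; 0, ((u⁻¹ : (ZMod p)ˣ) : ZMod p)], det_diag_unit p u⟩
  have hDs : (Ds : Matrix (Fin 2) (Fin 2) (ZMod p)) =
    !![(u : ZMod p), 0; 0, ((u⁻¹ : (ZMod p)ˣ) : ZMod p)] := rfl
  obtain ⟨d00, d01, d10, d11⟩ := mulVec_diag_single p (u : ZMod p) ((u⁻¹ : (ZMod p)ˣ) : ZMod p)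
  obtain ⟨δ, hδ⟩ := hle ⟨Ds, rfl⟩
  refine ⟨δ, δ.2, ?_, ?_⟩
  all_goals
    have hΦ : Φ (δ : MulAut V) = Matrix.SpecialLinearGroup.toGL Ds := hδ
    have h1 : (H9EA.mulAutEquivLin p) (δ : MulAut V) =
        (LinearMap.GeneralLinearGroup.generalLinearEquiv (ZMod p) (Additive V))
          ((Matrix.GeneralLinearGroup.toLin' b) (Matrix.SpecialLinearGroup.toGL Ds)) := by
      rw [← hΦ]
      show _ = (LinearMap.GeneralLinearGroup.generalLinearEquiv (ZMod p) (Additive V))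
        ((Matrix.GeneralLinearGroup.toLin' b) ((Matrix.GeneralLinearGroup.toLin' b).symm
          ((LinearMap.GeneralLinearGroup.generalLinearEquiv (ZMod p) (Additive V)).symm
            ((H9EA.mulAutEquivLin p) (δ : MulAut V)))))
      rw [MulEquiv.apply_symm_apply, MulEquiv.apply_symm_apply]
    have h2 : ∀ w : Additive V, ((H9EA.mulAutEquivLin p) (δ : MulAut V)) w =
        Fintype.linearCombination (ZMod p) ⇑b
          ((Ds : Matrix (Fin 2) (Fin 2) (ZMod p)) *ᵥ (b.repr w)) := by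
      intro w
      rw [h1]
      have := Matrix.GeneralLinearGroup.toLin'_apply b (Matrix.SpecialLinearGroup.toGL Ds) w
      exact this
  · have h3 := h2 (b 0)
    rw [Module.Basis.repr_self, Fintype.linearCombination_apply, Fin.sum_univ_two] at h3
    have e0 : ((Ds : Matrix (Fin 2) (Fin 2) (ZMod p)) *ᵥ (Finsupp.single (0 : Fin 2) (1 : ZMod p))) 0
        = (u : ZMod p) := by rw [hDs]; exact d00
    have e1 : ((Ds : Matrix (Fin 2) (Fin 2) (ZMod p)) *ᵥ (Finsupp.single (0 : Fin 2) (1 : ZMod p))) 1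
        = 0 := by rw [hDs]; exact d01
    rw [e0, e1, zero_smul, add_zero, hb0, zmod_smul_ofMul] at h3
    exact Additive.ofMul.injective h3
  · have h3 := h2 (b 1)
    rw [Module.Basis.repr_self, Fintype.linearCombination_apply, Fin.sum_univ_two] at h3
    have e0 : ((Ds : Matrix (Fin 2) (Fin 2) (ZMod p)) *ᵥ (Finsupp.single (1 : Fin 2) (1 : ZMod p))) 0
        = 0 := by rw [hDs]; exact d10
    have e1 : ((Ds : Matrix (Fin 2) (Fin 2) (ZMod p)) *ᵥ (Finsupp.single (1 : Fin 2) (1 : ZMod p))) 1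
        = ((u⁻¹ : (ZMod p)ˣ) : ZMod p) := by rw [hDs]; exact d11
    rw [e0, e1, zero_smul, zero_add, hb1, zmod_smul_ofMul] at h3
    exact Additive.ofMul.injective h3

/-- in a group of automorphisms of `C_p × C_p` with two distinct nontrivial `p`-subgroups, every
diagonal matrix of determinant one with respect to any basis occurs -/
theorem exists_diag {V : Type*} [Group V] [Finite V] (p : ℕ) [Fact p.Prime]
    (hc : ∀ a b : V, a * b = b * a) (hexp : ∀ a : V, a ^ p = 1) (hcard : Nat.card V = p ^ 2)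
    (G₀ : Subgroup (MulAut V)) (P₁ P₂ : Subgroup G₀) (h₁ : IsPGroup p P₁) (h₂ : IsPGroup p P₂)
    (hb₁ : P₁ ≠ ⊥) (hb₂ : P₂ ≠ ⊥) (hne : P₁ ≠ P₂)
    (ℓ m : V) (hℓ : ℓ ≠ 1) (hm : m ∉ Subgroup.zpowers ℓ) (u : (ZMod p)ˣ) :
    ∃ δ ∈ G₀, δ ℓ = ℓ ^ ((u : ZMod p).val) ∧ δ m = m ^ (((u⁻¹ : (ZMod p)ˣ) : ZMod p).val) := by
  letI : CommGroup V := { ‹Group V› with mul_comm := hc }
  letI : Module (ZMod p) (Additive V) := AddCommGroup.zmodModule (n := p) (fun x => by
    show Additive.ofMul (x.toMul ^ p) = 0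
    rw [hexp]
    rfl)
  exact exists_diag_aux p hcard G₀ P₁ P₂ h₁ h₂ hb₁ hb₂ hne ℓ m hℓ hm u

end Cfsg.Agent.H9RK2
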