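import Mathlib
import Cfsg.Prelude
import Cfsg.Agent.Lib.Helper9.PRL8
import Cfsg.Agent.Lib.Helper9.AbIdx5
import Cfsg.Agent.Lib.Helper9.EssP2
import Cfsg.Agent.Lib.Helper9.RK2a
import Cfsg.Agent.Lib.Helper9.FusionSat3
import Cfsg.Agent.Lib.Helper9.FusionAut2

set_option autoImplicit false

/-!
# Pearls: from the fusion system to the group theory
-/

namespace Cfsg.Agent.H9PRL

open Cfsg Cfsg.FusionSystem Cfsg.Agent.Lib.Helper9 Cfsg.Agent.Lib.Helper9.H9AbIdx

variable {Ω : Type*} [Group Ω] {S : Subgroup Ω}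

theorem exists_neg_one_unit : ∃ u : (ZMod 3)ˣ, (u : ZMod 3).val = 2 ∧
    ((u⁻¹ : (ZMod 3)ˣ) : ZMod 3).val = 2 := ⟨-1, by decide, by decide⟩

theorem pearl_centric (F : FusionSystem S) {E : Subgroup Ω} (hE : F.IsEssential 3 E) :
    ∀ x : ↥S, (∀ g ∈ E.subgroupOf S, x * g = g * x) → x ∈ E.subgroupOf S := by
  intro x hx
  rw [Subgroup.mem_subgroupOf]
  apply ess_centric F hE x.2
  intro g hg
  have := hx ⟨g, ess_le F hE hg⟩ (by rw [Subgroup.mem_subgroupOf]; exact hg)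
  exact congrArg (fun t : ↥S => (t : Ω)) this

theorem pearl_ne_top [Finite S] [Fact (Nat.Prime 3)] (hS : IsPGroup 3 S) (F : FusionSystem S)
    (hF : F.IsSaturated 3) {E : Subgroup Ω} (hE : F.IsEssential 3 E) : E.subgroupOf S ≠ ⊤ := by
  intro h
  rw [Subgroup.subgroupOf_eq_top] at h
  exact ess_ne 3 hS F hF hE (le_antisymm (ess_le F hE) h)

theorem pearl_card (F : FusionSystem S) {E : Subgroup Ω} (hE : F.IsEssential 3 E) :
    Nat.card (E.subgroupOf S) = Nat.card E :=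
  Nat.card_congr (Subgroup.subgroupOfEquivOfLe (ess_le F hE)).toEquiv

/-- membership in the centre of the pearl, in `S` and in `Ω` -/
theorem mem_center_pearl_iff {E : Subgroup Ω} (hES : E ≤ S) (x : ↥S) :
    x ∈ E.subgroupOf S ⊓ Subgroup.centralizer ((E.subgroupOf S : Subgroup ↥S) : Set ↥S) ↔
      (x : Ω) ∈ ZS E := by
  rw [Subgroup.mem_inf, Subgroup.mem_subgroupOf, Subgroup.mem_centralizer_iff, mem_ZS_iff]
  constructor
  · rintro ⟨h1, h2⟩
    refine ⟨h1, fun s hs => ?_⟩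
    have := h2 ⟨s, hES hs⟩ (by
      show (⟨s, hES hs⟩ : ↥S) ∈ E.subgroupOf S
      rw [Subgroup.mem_subgroupOf]; exact hs)
    exact congrArg (fun t : ↥S => (t : Ω)) this
  · rintro ⟨h1, h2⟩
    refine ⟨h1, fun g hg => ?_⟩
    have hg' : (g : Ω) ∈ E := by
      have : g ∈ E.subgroupOf S := hg
      rwa [Subgroup.mem_subgroupOf] at this
    exact Subtype.ext (h2 g hg')

/-- the radical property of an essential subgroup, in the form used for nonabelian pearls -/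
theorem pearl_rad [Finite S] [Fact (Nat.Prime 3)] (hS : IsPGroup 3 S) (F : FusionSystem S)
    {E : Subgroup Ω} (hE : F.IsEssential 3 E) :
    ∀ n : ↥S, (∀ g ∈ E.subgroupOf S, n * g * n⁻¹ ∈ E.subgroupOf S) →
      (∀ w ∈ E.subgroupOf S ⊓ Subgroup.centralizer ((E.subgroupOf S : Subgroup ↥S) : Set ↥S),
        n * w * n⁻¹ = w) →
      (∀ g ∈ E.subgroupOf S, g⁻¹ * (n * g * n⁻¹) ∈
        E.subgroupOf S ⊓ Subgroup.centralizer ((E.subgroupOf S : Subgroup ↥S) : Set ↥S)) →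
      n ∈ E.subgroupOf S := by
  intro n h1 h2 h3
  have hES := ess_le F hE
  haveI : Finite E := fs_finite_of_le hES
  rw [Subgroup.mem_subgroupOf]
  have hconj : ∀ g ∈ E, (n : Ω) * g * (n : Ω)⁻¹ ∈ E := by
    intro g hg
    have := h1 ⟨g, hES hg⟩ (by rw [Subgroup.mem_subgroupOf]; exact hg)
    rw [Subgroup.mem_subgroupOf] at this
    exact this
  have hnN : (n : Ω) ∈ Subgroup.normalizer (E : Set Ω) := by
    rw [Subgroup.mem_normalizer_iff]
    intro g
    refine ⟨hconj g, fun hg => ?_⟩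
    have hinj : Function.Injective (fun e : ↥E => (⟨(n : Ω) * e * (n : Ω)⁻¹, hconj e e.2⟩ : ↥E)) := by
      intro a b hab
      have h4 : (n : Ω) * a * (n : Ω)⁻¹ = (n : Ω) * b * (n : Ω)⁻¹ :=
        congrArg (fun t : ↥E => (t : Ω)) hab
      exact Subtype.ext (mul_left_cancel (mul_right_cancel h4))
    obtain ⟨e, he⟩ := (Finite.injective_iff_surjective.1 hinj) ⟨_, hg⟩
    have h4 : (n : Ω) * e * (n : Ω)⁻¹ = (n : Ω) * g * (n : Ω)⁻¹ :=
      congrArg (fun t : ↥E => (t : Ω)) he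
    have h5 : (e : Ω) = g := mul_left_cancel (mul_right_cancel h4)
    rw [← h5]; exact e.2
  apply ess_rad 3 hS F hE (ZS E) ?_ n.2 hnN ?_ ?_
  · intro α _ w hw
    rw [mem_ZS_iff] at hw ⊢
    refine ⟨(α w).2, fun s hs => ?_⟩
    have h4 : α.symm ⟨s, hs⟩ * w = w * α.symm ⟨s, hs⟩ :=
      Subtype.ext (hw.2 _ (α.symm ⟨s, hs⟩).2)
    have h5 := congrArg α h4
    rw [map_mul, map_mul, MulEquiv.apply_symm_apply] at h5
    exact congrArg (fun t : ↥E => (t : Ω)) h5
  · intro w hw hwE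
    have := h2 ⟨w, hES hwE⟩ ((mem_center_pearl_iff hES _).2 hw)
    exact congrArg (fun t : ↥S => (t : Ω)) this
  · intro g hg
    have := h3 ⟨g, hES hg⟩ (by rw [Subgroup.mem_subgroupOf]; exact hg)
    exact (mem_center_pearl_iff hES _).1 this

/-- for an abelian pearl of index three, inversion on the pearl extends to `S` -/
theorem exists_inverting [Finite S] [Fact (Nat.Prime 3)] (hS : IsPGroup 3 S) (F : FusionSystem S)
    (hF : F.IsSaturated 3) {E : Subgroup Ω} (hE : F.IsEssential 3 E) (hcard : Nat.card E = 9)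
    (hab : ∀ a ∈ E, ∀ b ∈ E, a * b = b * a) (hexp : ∀ a ∈ E, a ^ 3 = 1)
    (hcardS : Nat.card S = 27) :
    ∃ β : ↥S →* ↥S, ∀ e ∈ E.subgroupOf S, β e = e⁻¹ := by
  have hES := ess_le F hE
  haveI : Finite E := fs_finite_of_le hES
  obtain ⟨-, hEn, hN, E₀, hE₀⟩ := id hE
  have hcomm : ∀ a b : ↥E, a * b = b * a := fun a b => Subtype.ext (hab a a.2 b b.2)
  have hexp' : ∀ a : ↥E, a ^ 3 = 1 := fun a => Subtype.ext (hexp a a.2)
  have hcardE : Nat.card ↥E = 3 ^ 2 := by rw [hcard]; norm_num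
  have hInn : (Inn ↥E).subgroupOf (F.autGroup E) = ⊥ := by
    have : Inn ↥E = ⊥ := by
      rw [eq_bot_iff]
      rintro f ⟨h, rfl⟩
      rw [Subgroup.mem_bot]
      ext x
      rw [MulAut.conj_apply, hcomm h x, mul_inv_cancel_right]
      rfl
    rw [this, Subgroup.bot_subgroupOf]
  haveI : Finite (MulAut ↥E) :=
    Finite.of_injective (fun f : MulAut ↥E => (f : ↥E → ↥E)) DFunLike.coe_injective
  haveI := hN
  obtain ⟨P₁, P₂, h₁, h₂, hb₁, hb₂, hne⟩ :=
    Cfsg.Agent.H9EP2.exists_two_pgroups 3 ((Inn ↥E).subgroupOf (F.autGroup E)) hInn hE₀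
  -- a basis of the pearl
  haveI : Nontrivial ↥E := by
    rw [← Finite.one_lt_card_iff_nontrivial, hcard]; norm_num
  obtain ⟨ℓ, hℓ⟩ := exists_ne (1 : ↥E)
  have hordℓ : orderOf ℓ = 3 := orderOf_eq_prime (hexp' ℓ) hℓ
  obtain ⟨m, hm⟩ : ∃ m : ↥E, m ∉ Subgroup.zpowers ℓ := by
    by_contra hcon
    push Not at hcon
    have htop : Subgroup.zpowers ℓ = ⊤ := eq_top_iff.2 (fun x _ => hcon x)
    have := Nat.card_zpowers ℓ
    rw [htop, Subgroup.card_top, hcard, hordℓ] at this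
    omega
  obtain ⟨u, hval, hval'⟩ := exists_neg_one_unit
  obtain ⟨δ, hδA, hδℓ, hδm⟩ := Cfsg.Agent.H9RK2.exists_diag 3 hcomm hexp' hcardE (F.autGroup E)
    P₁ P₂ h₁ h₂ hb₁ hb₂ hne ℓ m hℓ hm u
  rw [hval] at hδℓ
  rw [hval'] at hδm
  have hsq : ∀ a : ↥E, a ^ 2 = a⁻¹ := by
    intro a
    apply eq_inv_of_mul_eq_one_left
    rw [← pow_succ, hexp' a]
  -- `δ` is inversion
  have hδ : ∀ e : ↥E, δ e = e⁻¹ := by
    let Y : Subgroup ↥E :=
      { carrier := {e | δ e = e⁻¹}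
        one_mem' := by simp
        mul_mem' := by
          intro a b ha hb
          show δ (a * b) = (a * b)⁻¹
          rw [map_mul, show δ a = a⁻¹ from ha, show δ b = b⁻¹ from hb, mul_inv_rev,
            hcomm b⁻¹ a⁻¹]
        inv_mem' := by
          intro a ha
          show δ a⁻¹ = a⁻¹⁻¹
          rw [map_inv, show δ a = a⁻¹ from ha] }
    have hℓY : ℓ ∈ Y := by
      show δ ℓ = ℓ⁻¹
      rw [hδℓ, hsq]
    have hmY : m ∈ Y := by
      show δ m = m⁻¹
      rw [hδm, hsq]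
    have hlt : Subgroup.zpowers ℓ < Y :=
      lt_of_le_of_ne (Subgroup.zpowers_le.2 hℓY) (fun h => hm (h ▸ hmY))
    have hYtop : Y = ⊤ := by
      apply Subgroup.eq_top_of_card_eq
      have hd : Nat.card Y ∣ 3 ^ 2 := by
        have := Subgroup.card_subgroup_dvd_card Y
        rw [hcardE] at this
        exact this
      obtain ⟨k, hk, hk'⟩ := card_eq_pow_of_dvd hd
      have h1 := card_lt_of_lt hlt
      rw [Nat.card_zpowers, hordℓ, hk'] at h1
      have hk1 : 1 < k := by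
        have : 3 ^ 1 < 3 ^ k := by rw [pow_one]; exact h1
        exact (Nat.pow_lt_pow_iff_right (by norm_num)).1 this
      have hk2 : k = 2 := by omega
      rw [hk', hk2, hcardE]
    intro e
    have : e ∈ Y := hYtop ▸ Subgroup.mem_top e
    exact this
  -- the extension
  obtain ⟨φ, hφdef⟩ : ∃ φ : ↥E →* Ω, φ = E.subtype.comp δ.toMonoidHom := ⟨_, rfl⟩
  have hφ : φ ∈ F.Hom E := by
    rw [hφdef]; exact (mem_autGroup_iff F hES δ).1 hδA
  have hφapp : ∀ x : ↥E, φ x = (x : Ω)⁻¹ := by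
    intro x
    rw [hφdef]
    show ((δ x : ↥E) : Ω) = (x : Ω)⁻¹
    rw [hδ x]; rfl
  have hrange : φ.range = E := by
    ext y
    constructor
    · rintro ⟨x, rfl⟩
      rw [hφapp]; exact E.inv_mem x.2
    · intro hy
      refine ⟨⟨y⁻¹, E.inv_mem hy⟩, ?_⟩
      rw [hφapp]; simp
  have hrec : F.IsReceptive E := fs_extension_axiom 3 hS F hF (fs_sylow_axiom 3 hS F hF hEn).1
  obtain ⟨ψ, hψ, hψφ⟩ := hrec.2 E φ hφ hrange
  -- `E` is normal in `S`
  haveI hnorm : (E.subgroupOf S).Normal := by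
    apply Subgroup.normal_of_index_eq_minFac_card
    have h1 := (E.subgroupOf S).card_mul_index
    rw [pearl_card F hE, hcard, hcardS] at h1
    have h2 : (E.subgroupOf S).index = 3 := by omega
    rw [h2, hcardS]
    norm_num
  have hconj : ∀ g ∈ S, ∀ x ∈ E, g * x * g⁻¹ ∈ E := by
    intro g hg x hx
    have := hnorm.conj_mem ⟨x, hES hx⟩ (by rw [Subgroup.mem_subgroupOf]; exact hx) ⟨g, hg⟩
    rw [Subgroup.mem_subgroupOf] at this
    exact this
  have hNS : ∀ g ∈ S, g ∈ Subgroup.normalizer (E : Set Ω) := by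
    intro g hg
    rw [Subgroup.mem_normalizer_iff]
    intro x
    refine ⟨hconj g hg x, fun hx => ?_⟩
    have := hconj g⁻¹ (S.inv_mem hg) _ hx
    have h2 : g⁻¹ * (g * x * g⁻¹) * g⁻¹⁻¹ = x := by group
    rwa [h2] at this
  have hext : S ≤ extender S E φ := by
    intro g hg
    rw [mem_extender_iff]
    refine ⟨hg, hNS g hg, g, hg, fun x hx => ?_⟩
    rw [hφapp, hφapp]
    show (g * (x : Ω) * g⁻¹)⁻¹ = g * (x : Ω)⁻¹ * g⁻¹
    group
  refine ⟨(ψ.comp (Subgroup.inclusion hext)).codRestrict S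
    (fun x => (F.le_of_mem hψ).2 _), ?_⟩
  intro e he
  rw [Subgroup.mem_subgroupOf] at he
  apply Subtype.ext
  show ψ (Subgroup.inclusion hext e) = ((e⁻¹ : ↥S) : Ω)
  have h1 := hψφ (e : Ω) he (hext e.2)
  have h2 : (Subgroup.inclusion hext e) = ⟨(e : Ω), hext e.2⟩ := rfl
  rw [h2, h1, hφapp]
  rfl

end Cfsg.Agent.H9PRL
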