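import Mathlib
import Cfsg.Prelude
import Cfsg.Agent.Lib.Helper9.SimpCrit4
import Cfsg.Agent.Lib.Helper9.FusionNormal3
import Cfsg.Agent.Lib.Helper9.Grun6
import Cfsg.Agent.Lib.Helper9.GroupFusion3
import Cfsg.Agent.Lib.Helper7.PByCyc6

set_option autoImplicit false

/-!
# The fusion system of a group with dihedral Sylow `2`-subgroups and one class of involutions is simple
-/

namespace Cfsg.Agent.H9PF

open Cfsg Cfsg.FusionSystem Cfsg.Agent.Lib.Helper9

variable {G : Type*} [Group G] [Finite G]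

/-- an element of `N_G(S)` of odd order centralises the dihedral `2`-group `S` -/
theorem odd_centralizes (S : Subgroup G) (j : ℕ) (hj : 2 ≤ j) (e : S ≃* DihedralGroup (2 ^ j))
    (g : G) (hg : g ∈ Subgroup.normalizer (S : Set G)) (m : ℕ) (hm : Odd m) (hgm : g ^ m = 1) :
    ∀ x ∈ S, g * x * g⁻¹ = x := by
  obtain ⟨β, hβ⟩ : ∃ β : MulAut S, β = S.normalizerMonoidHom ⟨g, hg⟩ := ⟨_, rfl⟩
  have hβm : β ^ m = 1 := by
    rw [hβ, ← map_pow]
    have : (⟨g, hg⟩ : Subgroup.normalizer (S : Set G)) ^ m = 1 := by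
      apply Subtype.ext
      rw [Subgroup.coe_pow, Subgroup.coe_one]
      exact hgm
    rw [this, map_one]
  have h1 : MulAut.congr e β = 1 := by
    apply Cfsg.Agent.Lib.Helper7.PByCyc.aut_dihedral_odd hj _ m hm
    rw [← map_pow, hβm, map_one]
  have hβ1 : β = 1 := (MulAut.congr e).injective (h1.trans (map_one _).symm)
  intro x hx
  have h2 : ((β ⟨x, hx⟩ : S) : G) = g * x * g⁻¹ := by rw [hβ]; rfl
  rw [hβ1, MulAut.one_apply] at h2
  exact h2.symm

/-- the `2`-part and the odd part of an element -/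
theorem exists_two_part (g : G) : ∃ g₁ g₂ : G, g = g₁ * g₂ ∧ (∃ k : ℕ, orderOf g₁ = 2 ^ k) ∧
    (∃ m : ℕ, Odd m ∧ g₂ ^ m = 1) ∧ g₁ ∈ Subgroup.zpowers g ∧ g₂ ∈ Subgroup.zpowers g := by
  have hn : orderOf g ≠ 0 := (orderOf_pos g).ne'
  obtain ⟨k, m, hm, hkm⟩ := Nat.exists_eq_two_pow_mul_odd hn
  have hcop : Nat.Coprime (2 ^ k) m := Nat.Coprime.pow_left k (Nat.coprime_two_left.mpr hm)
  obtain ⟨a, b, hab⟩ := Nat.isCoprime_iff_coprime.mpr hcop
  refine ⟨g ^ (b * (m : ℤ)), g ^ (a * ((2 ^ k : ℕ) : ℤ)), ?_, ?_, ⟨m, hm, ?_⟩, ?_, ?_⟩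
  · rw [← zpow_add, add_comm, hab, zpow_one]
  · have h1 : (g ^ (b * (m : ℤ))) ^ (2 ^ k) = 1 := by
      rw [← zpow_natCast, ← zpow_mul, mul_assoc, mul_comm (m : ℤ), ← Nat.cast_mul, ← hkm,
        mul_comm, zpow_mul, zpow_natCast, pow_orderOf_eq_one, one_zpow]
    obtain ⟨i, -, hi⟩ := (Nat.dvd_prime_pow Nat.prime_two).mp (orderOf_dvd_of_pow_eq_one h1)
    exact ⟨i, hi⟩
  · rw [← zpow_natCast, ← zpow_mul, mul_assoc, ← Nat.cast_mul, ← hkm, mul_comm, zpow_mul,
      zpow_natCast, pow_orderOf_eq_one, one_zpow]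
  · exact Subgroup.zpow_mem_zpowers g _
  · exact Subgroup.zpow_mem_zpowers g _

theorem simple_of_dihedral_sylow (S : Sylow 2 G) (j : ℕ) (hj : 2 ≤ j)
    (e : (S : Subgroup G) ≃* DihedralGroup (2 ^ j))
    (hconj : ∀ x y : G, orderOf x = 2 → orderOf y = 2 → ∃ g : G, g * x * g⁻¹ = y) :
    (groupFusionSystem (S : Subgroup G)).IsSimple 2 := by
  haveI : Fact (Nat.Prime 2) := ⟨Nat.prime_two⟩
  haveI : NeZero (2 ^ j) := ⟨by positivity⟩
  have hsat : (groupFusionSystem (S : Subgroup G)).IsSaturated 2 := Cfsg.Agent.S5076.result 2 S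
  apply H9SC.simple_of_criterion 2 S
  · intro h
    have h1 : Nat.card (S : Subgroup G) = 1 := by rw [h, Subgroup.card_bot]
    rw [Nat.card_congr e.toEquiv, Nat.card_eq_fintype_card, DihedralGroup.card] at h1
    have : 0 < 2 ^ j := by positivity
    omega
  · intro T hT
    by_cases hTb : T = ⊥
    · left; exact hTb
    right
    obtain ⟨hTS, hcl⟩ := hT
    apply le_antisymm hTS
    have hT2 : IsPGroup 2 T := S.isPGroup'.to_le hTS
    haveI : Nontrivial T := (Subgroup.nontrivial_iff_ne_bot T).mpr hTb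
    have h2 : 2 ∣ Nat.card T := by
      obtain ⟨n, hn⟩ := IsPGroup.iff_card.mp hT2
      have h1 : 1 < Nat.card T := Finite.one_lt_card
      rw [hn] at h1 ⊢
      have hn0 : n ≠ 0 := by
        rintro rfl
        rw [pow_zero] at h1
        exact lt_irrefl _ h1
      exact dvd_pow_self 2 hn0
    obtain ⟨t, ht⟩ := exists_prime_orderOf_dvd_card' 2 h2
    have hgen : ∀ s ∈ (S : Subgroup G), orderOf s = 2 → s ∈ T := by
      intro s hs hs2
      obtain ⟨g, hg⟩ := hconj (t : G) s (by rw [Subgroup.orderOf_coe]; exact ht) hs2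
      have hR : Subgroup.zpowers (t : G) ≤ T := Subgroup.zpowers_le.mpr t.2
      obtain ⟨φ, hφdef⟩ : ∃ φ : Subgroup.zpowers (t : G) →* G,
        φ = (MulAut.conj g).toMonoidHom.comp (Subgroup.zpowers (t : G)).subtype := ⟨_, rfl⟩
      have hφa : ∀ x : Subgroup.zpowers (t : G), φ x = g * (x : G) * g⁻¹ := by
        intro x; rw [hφdef]; rfl
      have hφ : φ ∈ (groupFusionSystem (S : Subgroup G)).Hom (Subgroup.zpowers (t : G)) := by
        refine ⟨hR.trans hTS, ?_, g, hφa⟩
        intro x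
        obtain ⟨k, hk⟩ := Subgroup.mem_zpowers_iff.mp x.2
        rw [hφa, ← hk]
        have : g * (t : G) ^ k * g⁻¹ = s ^ k := by rw [← hg, conj_zpow]
        rw [this]
        exact Subgroup.zpow_mem _ hs k
      have h3 := hcl _ hR φ hφ ⟨(t : G), Subgroup.mem_zpowers _⟩
      rw [hφa] at h3
      rw [← hg]
      exact h3
    have hsr : ∀ i : ZMod (2 ^ j), ((e.symm (DihedralGroup.sr i) : (S : Subgroup G)) : G) ∈ T := by
      intro i
      apply hgen _ (e.symm (DihedralGroup.sr i)).2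
      rw [Subgroup.orderOf_coe, MulEquiv.orderOf_eq, DihedralGroup.orderOf_sr]
    intro x hx
    have hx' : x = ((e.symm (e ⟨x, hx⟩) : (S : Subgroup G)) : G) := by
      rw [MulEquiv.symm_apply_apply]
    rw [hx']
    rcases e ⟨x, hx⟩ with i | i
    · have : (DihedralGroup.r i : DihedralGroup (2 ^ j)) = DihedralGroup.sr 0 * DihedralGroup.sr i := by
        rw [DihedralGroup.sr_mul_sr, sub_zero]
      rw [this, map_mul, Subgroup.coe_mul]
      exact T.mul_mem (hsr 0) (hsr i)
    · exact hsr i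
  · apply le_antisymm
    · have hterm : autInducedBy ⊤ (S : Subgroup G) ≤
          autInducedBy (Subgroup.closure {g : G | g ∈ Subgroup.normalizer ((S : Subgroup G) : Set G) ∧
            ∃ k : ℕ, orderOf g = 2 ^ k}) (S : Subgroup G) := by
        intro α hα
        rw [mem_autInducedBy_iff] at hα ⊢
        obtain ⟨g, -, hg⟩ := hα
        have hgN : g ∈ Subgroup.normalizer ((S : Subgroup G) : Set G) := by
          rw [Subgroup.mem_normalizer_iff]
          intro h
          constructor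
          · intro hh
            rw [← hg ⟨h, hh⟩]
            exact (α ⟨h, hh⟩).2
          · intro hh
            obtain ⟨x, hx⟩ := α.surjective ⟨g * h * g⁻¹, hh⟩
            have h1 : g * (x : G) * g⁻¹ = g * h * g⁻¹ := by rw [← hg x, hx]
            have h2 : (x : G) = h := mul_left_cancel (mul_right_cancel h1)
            rw [← h2]; exact x.2
        obtain ⟨g₁, g₂, hgg, ⟨k, hk⟩, ⟨m, hm, hg₂m⟩, hg₁z, hg₂z⟩ := exists_two_part g
        have hzN : Subgroup.zpowers g ≤ Subgroup.normalizer ((S : Subgroup G) : Set G) :=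
          Subgroup.zpowers_le.mpr hgN
        have hcent := odd_centralizes (S : Subgroup G) j hj e g₂ (hzN hg₂z) m hm hg₂m
        refine ⟨g₁, Subgroup.subset_closure ⟨hzN hg₁z, k, hk⟩, ?_⟩
        intro x
        rw [hg x, hgg]
        have := hcent (x : G) x.2
        calc g₁ * g₂ * (x : G) * (g₁ * g₂)⁻¹ = g₁ * (g₂ * (x : G) * g₂⁻¹) * g₁⁻¹ := by group
          _ = g₁ * (x : G) * g₁⁻¹ := by rw [this]
      exact le_trans hterm (le_iSup₂_of_le (S : Subgroup G)
        ⟨isFullyNormalized_self _, fs_top_radical 2 S.isPGroup' _ hsat, fs_top_centric _⟩ le_rfl)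
    · apply iSup_le
      intro R
      apply iSup_le
      intro _
      intro α hα
      rw [mem_autInducedBy_iff] at hα ⊢
      obtain ⟨g, -, hg⟩ := hα
      exact ⟨g, Subgroup.mem_top g, hg⟩

end Cfsg.Agent.H9PF
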