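import Mathlib
import Cfsg.Agent.Lib.Helper2.DSubM3

set_option autoImplicit false
set_option linter.unusedSectionVars false
set_option linter.style.haveILetI false

/-!
# Maximal subgroups of `PSL₂(q)`: generic tools on top of Dickson's list
-/

namespace Cfsg.Agent.H9PSL2

open Matrix Cfsg.Agent.Lib.Helper2.DSub
open scoped MatrixGroups commutatorElement

/-- squares in a dihedral group commute -/
theorem dihedral_sq_comm {k : ℕ} (a b : DihedralGroup k) : a ^ 2 * b ^ 2 = b ^ 2 * a ^ 2 := by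
  rcases a with i | i <;> rcases b with j | j <;>
    simp only [pow_two, DihedralGroup.r_mul_r, DihedralGroup.sr_mul_self, mul_one, one_mul] <;>
    rw [add_comm]

theorem sq_comm_of_embeds_dihedral {X : Type*} [Group X] {k : ℕ} (φ : X →* DihedralGroup k)
    (hφ : Function.Injective φ) (g h : X) : g ^ 2 * h ^ 2 = h ^ 2 * g ^ 2 := by
  apply hφ
  simp only [map_mul, map_pow]
  exact dihedral_sq_comm _ _

theorem S4_sq_not_comm : ∃ g h : Equiv.Perm (Fin 4), g ^ 2 * h ^ 2 ≠ h ^ 2 * g ^ 2 :=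
  ⟨Equiv.swap 0 1 * Equiv.swap 1 2, Equiv.swap 0 1 * Equiv.swap 1 3, by decide⟩

theorem A4_sq_not_comm : ∃ g h : alternatingGroup (Fin 4), g ^ 2 * h ^ 2 ≠ h ^ 2 * g ^ 2 := by
  refine ⟨⟨Equiv.swap 0 1 * Equiv.swap 1 2, ?_⟩, ⟨Equiv.swap 0 1 * Equiv.swap 1 3, ?_⟩, ?_⟩
  · rw [Equiv.Perm.mem_alternatingGroup]; decide
  · rw [Equiv.Perm.mem_alternatingGroup]; decide
  · intro h
    have h2 := congrArg Subtype.val h
    simp only [Subgroup.coe_mul, Subgroup.coe_pow] at h2
    revert h2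
    decide

set_option maxRecDepth 100000 in
theorem S4_not_metabelian : ∃ x y z w : Equiv.Perm (Fin 4), ⁅⁅x, y⁆, ⁅z, w⁆⁆ ≠ 1 :=
  ⟨Equiv.swap 0 1, Equiv.swap 0 1 * Equiv.swap 1 2, Equiv.swap 0 1, Equiv.swap 0 1 * Equiv.swap 1 3,
    by decide⟩

section frame

variable {G : Type*} [Group G]

theorem coatom_frame (N : Subgroup G) (hN : N ≠ ⊤) (h : ∀ M, N < M → M ≠ ⊤ → False) :
    IsCoatom N :=
  ⟨hN, fun M hNM => by_contra fun hM => h M hNM hM⟩

/-- the embedding of a subgroup into an overgroup, both identified with abstract groups -/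
theorem exists_embedding' {X Y : Type*} [Group X] [Group Y] (N M : Subgroup G) (hNM : N ≤ M)
    (eN : N ≃* X) (eM : M ≃* Y) :
    ∃ φ : X →* Y, Function.Injective φ :=
  ⟨(eM.toMonoidHom.comp (Subgroup.inclusion hNM)).comp eN.symm.toMonoidHom,
    (eM.injective.comp (Subgroup.inclusion_injective hNM)).comp eN.symm.injective⟩

end frame

section borel

variable {F : Type*} [Field F] [Fintype F]

/-- subgroups of the normalizer of a Sylow `p`-subgroup of `PSL₂(q)` are metabelian -/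
theorem metabelian_of_le_normalizer (p : ℕ) [hp : Fact p.Prime] [CharP F p]
    (P : Sylow p (ProjectiveSpecialLinearGroup (Fin 2) F))
    (M : Subgroup (ProjectiveSpecialLinearGroup (Fin 2) F))
    (hM : M ≤ Subgroup.normalizer ((P : Subgroup (ProjectiveSpecialLinearGroup (Fin 2) F)) :
      Set (ProjectiveSpecialLinearGroup (Fin 2) F)))
    {X : Type*} [Group X] (φ : X →* M) (hφ : Function.Injective φ) (x y z w : X) :
    ⁅⁅x, y⁆, ⁅z, w⁆⁆ = 1 := by
  obtain ⟨h1, -, -, h4⟩ := sylow_psl_facts p P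
  apply hφ
  apply Subtype.ext
  rw [map_one, Subgroup.coe_one]
  simp only [map_commutatorElement]
  have hc : ∀ a b : M, ((⁅a, b⁆ : M) : ProjectiveSpecialLinearGroup (Fin 2) F) ∈ P := by
    intro a b
    have := h4 _ (hM a.2) _ (hM b.2)
    simpa [commutatorElement_def] using this
  have h5 := h1 _ (hc (φ x) (φ y)) _ (hc (φ z) (φ w))
  have : ((⁅⁅φ x, φ y⁆, ⁅φ z, φ w⁆⁆ : M) : ProjectiveSpecialLinearGroup (Fin 2) F) =
      ⁅((⁅φ x, φ y⁆ : M) : ProjectiveSpecialLinearGroup (Fin 2) F),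
        ((⁅φ z, φ w⁆ : M) : ProjectiveSpecialLinearGroup (Fin 2) F)⁆ := by
    simp [commutatorElement_def]
  rw [this, commutatorElement_eq_one_iff_mul_comm]
  exact h5

/-- the characteristic of a field of prime order -/
theorem charP_of_card_prime (p : ℕ) [hp : Fact p.Prime] (hF : Fintype.card F = p) : CharP F p := by
  obtain ⟨p', hchar⟩ := CharP.exists F
  haveI : Fact p'.Prime := ⟨CharP.char_is_prime F p'⟩
  obtain ⟨n0, hp', hn0⟩ := FiniteField.card F p'
  have h1 : p' ∣ p := by rw [← hF, hn0]; exact dvd_pow_self p' n0.ne_zero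
  have : p' = p := (Nat.prime_dvd_prime_iff_eq hp' hp.out).mp h1
  rw [← this]
  exact hchar

end borel

end Cfsg.Agent.H9PSL2
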