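import Mathlib
import Cfsg.Agent.Lib.Helper9.PSL2Max1

set_option autoImplicit false
set_option linter.unusedSectionVars false
set_option linter.style.haveILetI false

/-!
# Maximal subgroups of `PSL₂(q)`: more generic tools
-/

namespace Cfsg.Agent.H9PSL2

open Matrix Cfsg.Agent.Lib.Helper2.DSub
open scoped MatrixGroups commutatorElement

variable {F : Type*} [Field F] [Fintype F]

/-- a subgroup isomorphic to `PSL₂` or `PGL₂` over a field of the same order is everything -/
theorem card_ge_of_card_field_eq {K : Type*} [Field K] [Fintype K]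
    (hK : Fintype.card K = Fintype.card F)
    (M : Subgroup (ProjectiveSpecialLinearGroup (Fin 2) F))
    (hiso : Nonempty (M ≃* ProjectiveSpecialLinearGroup (Fin 2) K) ∨
      Nonempty (M ≃* Matrix.ProjGenLinGroup (Fin 2) K)) :
    Nat.card (ProjectiveSpecialLinearGroup (Fin 2) F) ≤ Nat.card M := by
  have hG := card_psl_two (F := F)
  have hK1 := card_psl_two (F := K)
  have hK2 := card_pgl_two (K := K)
  rw [hK] at hK1 hK2
  have hd : 0 < Nat.gcd 2 (Fintype.card F - 1) := Nat.gcd_pos_of_pos_left _ (by norm_num)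
  rcases hiso with ⟨⟨e⟩⟩ | ⟨⟨e⟩⟩
  · rw [← Nat.card_congr e.toEquiv, ← hG] at hK1
    exact (Nat.eq_of_mul_eq_mul_left hd hK1).ge
  · rw [← Nat.card_congr e.toEquiv, ← hG] at hK2
    rw [hK2]
    exact Nat.le_mul_of_pos_left _ hd

/-- a proper subgroup cannot be a full-field `PSL₂` or `PGL₂` -/
theorem not_full_field {K : Type*} [Field K] [Fintype K]
    (hK : Fintype.card K = Fintype.card F)
    (M : Subgroup (ProjectiveSpecialLinearGroup (Fin 2) F))
    (hlt : Nat.card M < Nat.card (ProjectiveSpecialLinearGroup (Fin 2) F))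
    (hiso : Nonempty (M ≃* ProjectiveSpecialLinearGroup (Fin 2) K) ∨
      Nonempty (M ≃* Matrix.ProjGenLinGroup (Fin 2) K)) : False := by
  have := card_ge_of_card_field_eq hK M hiso
  omega

/-- the order of a subgroup isomorphic to `PSL₂(K)` or `PGL₂(K)` divides `q₀ (q₀ - 1) (q₀ + 1)` -/
theorem card_dvd_of_iso {K : Type*} [Field K] [Fintype K] {M : Type*} [Group M]
    (hiso : Nonempty (M ≃* ProjectiveSpecialLinearGroup (Fin 2) K) ∨
      Nonempty (M ≃* Matrix.ProjGenLinGroup (Fin 2) K)) :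
    Nat.card M ∣ Fintype.card K * (Fintype.card K - 1) * (Fintype.card K + 1) := by
  have hK1 := card_psl_two (F := K)
  have hK2 := card_pgl_two (K := K)
  rcases hiso with ⟨⟨e⟩⟩ | ⟨⟨e⟩⟩
  · rw [← Nat.card_congr e.toEquiv] at hK1
    exact Dvd.intro_left _ hK1
  · rw [← Nat.card_congr e.toEquiv] at hK2
    rw [hK2]

/-- a group embedding in a cyclic group has commuting elements -/
theorem comm_of_embeds_cyclic {X Y : Type*} [Group X] [Group Y] [hcyc : IsCyclic Y] (φ : X →* Y)
    (hφ : Function.Injective φ) (g h : X) : g * h = h * g := by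
  apply hφ
  obtain ⟨c, hc⟩ := hcyc.exists_generator
  obtain ⟨i, hi⟩ := Subgroup.mem_zpowers_iff.mp (hc (φ g))
  obtain ⟨j, hj⟩ := Subgroup.mem_zpowers_iff.mp (hc (φ h))
  rw [map_mul, map_mul, ← hi, ← hj, ← _root_.zpow_add, ← _root_.zpow_add, add_comm]

/-- the order of a subgroup of the normalizer of a Sylow `p`-subgroup -/
theorem card_dvd_of_le_normalizer (p : ℕ) [hp : Fact p.Prime] [CharP F p]
    (P : Sylow p (ProjectiveSpecialLinearGroup (Fin 2) F))
    (M : Subgroup (ProjectiveSpecialLinearGroup (Fin 2) F))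
    (hM : M ≤ Subgroup.normalizer ((P : Subgroup (ProjectiveSpecialLinearGroup (Fin 2) F)) :
      Set (ProjectiveSpecialLinearGroup (Fin 2) F))) :
    Nat.gcd 2 (Fintype.card F - 1) * Nat.card M ∣ Fintype.card F * (Fintype.card F - 1) := by
  obtain ⟨-, -, h3, -⟩ := sylow_psl_facts p P
  rw [← h3]
  exact Nat.mul_dvd_mul_left _ (Subgroup.card_dvd_of_le hM)

end Cfsg.Agent.H9PSL2
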