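import Mathlib

set_option autoImplicit false

/-!
# Maximal subgroups of `PSL₂(q)`: arithmetic for subfield subgroups
-/

namespace Cfsg.Agent.H9PSL2

theorem sub_one_mul_add_one (x : ℕ) (hx : 1 ≤ x) : (x - 1) * (x + 1) = x ^ 2 - 1 := by
  obtain ⟨t, rfl⟩ : ∃ t, x = t + 1 := ⟨x - 1, by omega⟩
  rw [Nat.add_sub_cancel]
  have : (t + 1) ^ 2 = t * (t + 1 + 1) + 1 := by ring
  rw [this, Nat.add_sub_cancel]

theorem cube_strictMono {x y : ℕ} (hx : 1 ≤ x) (hxy : x < y) :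
    x * (x - 1) * (x + 1) < y * (y - 1) * (y + 1) := by
  have h1 : x * (x - 1) ≤ y * (y - 1) := Nat.mul_le_mul hxy.le (by omega)
  have h2 : 0 < y * (y - 1) := Nat.mul_pos (by omega) (by omega)
  calc x * (x - 1) * (x + 1) ≤ y * (y - 1) * (x + 1) := Nat.mul_le_mul_right _ h1
    _ < y * (y - 1) * (y + 1) := Nat.mul_lt_mul_of_pos_left (by omega) h2

theorem three_pow_odd_mod (t : ℕ) : 3 ^ (2 * t + 1) % 80 = 3 ∨ 3 ^ (2 * t + 1) % 80 = 27 := by
  induction t with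
  | zero => left; norm_num
  | succ t ih =>
    have e : 3 ^ (2 * (t + 1) + 1) = 3 ^ (2 * t + 1) * 9 := by ring
    rw [e, Nat.mul_mod]
    rcases ih with h | h <;> rw [h] <;> norm_num

theorem not_dvd_pow_sub_one {p : ℕ} (hp : p.Prime) (k : ℕ) (hk : 1 ≤ k) : ¬ p ∣ p ^ k - 1 := by
  intro h
  have h1 : p ∣ p ^ k := dvd_pow_self p (by omega)
  have h2 : 1 ≤ p ^ k := Nat.one_le_pow _ _ hp.pos
  have h3 : p ∣ p ^ k - (p ^ k - 1) := Nat.dvd_sub h1 h
  have h4 : p ^ k - (p ^ k - 1) = 1 := by omega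
  rw [h4] at h3
  exact hp.one_lt.ne' (Nat.dvd_one.mp h3)

/-- the arithmetic behind "a subfield subgroup containing a subfield subgroup" -/
theorem subfield_arith (p a b r m : ℕ) (hp : p.Prime) (hr : r.Prime) (ha : 1 ≤ a)
    (hab : a * r = b * m)
    (hdvd : p ^ a * (p ^ a - 1) * (p ^ a + 1) ∣ 2 * (p ^ b * (p ^ b - 1) * (p ^ b + 1))) :
    b = a ∨ b = a * r := by
  have hb : 1 ≤ b := by
    rcases Nat.eq_zero_or_pos b with rfl | h
    · rw [zero_mul] at hab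
      have := hr.two_le
      rcases Nat.mul_eq_zero.mp hab with h | h <;> omega
    · exact h
  have hy1 : 1 ≤ p ^ a := Nat.one_le_pow _ _ hp.pos
  have hz1 : 1 ≤ p ^ b := Nat.one_le_pow _ _ hp.pos
  have e1 : p ^ a * (p ^ a - 1) * (p ^ a + 1) = p ^ a * (p ^ (2 * a) - 1) := by
    rw [mul_assoc, sub_one_mul_add_one _ hy1, ← pow_mul, mul_comm a 2]
  have e2 : 2 * (p ^ b * (p ^ b - 1) * (p ^ b + 1)) = p ^ b * (2 * (p ^ (2 * b) - 1)) := by
    rw [mul_assoc (p ^ b), sub_one_mul_add_one _ hz1, ← pow_mul, mul_comm b 2]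
    ring
  rw [e1, e2] at hdvd
  have h1 : p ^ (2 * a) - 1 ∣ p ^ b * (2 * (p ^ (2 * b) - 1)) := (Dvd.intro_left _ rfl).trans hdvd
  have h2 : Nat.Coprime (p ^ (2 * a) - 1) (p ^ b) := by
    apply Nat.Coprime.pow_right
    exact ((Nat.Prime.coprime_iff_not_dvd hp).mpr (not_dvd_pow_sub_one hp (2 * a) (by omega))).symm
  have h3 : p ^ (2 * a) - 1 ∣ 2 * (p ^ (2 * b) - 1) := h2.dvd_of_dvd_mul_left h1
  have h4 : p ^ (2 * a) - 1 ∣ 2 * (p ^ (2 * a) - 1) := Dvd.intro_left _ rfl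
  have h5 := Nat.dvd_gcd h4 h3
  rw [Nat.gcd_mul_left, Nat.pow_sub_one_gcd_pow_sub_one, Nat.gcd_mul_left] at h5
  obtain ⟨g, hg⟩ : ∃ g, g = Nat.gcd a b := ⟨_, rfl⟩
  rw [← hg] at h5
  have hga : g ∣ a := hg ▸ Nat.gcd_dvd_left a b
  have hg1 : 1 ≤ g := by rw [hg]; exact Nat.gcd_pos_of_pos_left _ (by omega)
  have hgeq : g = a := by
    by_contra hne
    obtain ⟨t, ht⟩ := hga
    have ht2 : 2 ≤ t := by
      rcases Nat.lt_or_ge t 2 with h | h
      · have : t = 0 ∨ t = 1 := by omega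
        rcases this with rfl | rfl
        · rw [mul_zero] at ht; omega
        · rw [mul_one] at ht; exact absurd ht.symm hne
      · exact h
    have h2g : 2 * g ≤ a := by
      rw [ht]
      calc 2 * g = g * 2 := mul_comm _ _
        _ ≤ g * t := Nat.mul_le_mul_left _ ht2
    have hw : p ^ (2 * g) ≤ p ^ a := Nat.pow_le_pow_right hp.pos h2g
    have hw4 : 4 ≤ p ^ (2 * g) := by
      have h1 : p ^ 2 ≤ p ^ (2 * g) := Nat.pow_le_pow_right hp.pos (by omega)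
      have h2 : 2 ^ 2 ≤ p ^ 2 := Nat.pow_le_pow_left hp.two_le 2
      omega
    have hle : p ^ (2 * a) - 1 ≤ 2 * (p ^ (2 * g) - 1) := Nat.le_of_dvd (by omega) h5
    have e3 : p ^ (2 * a) = p ^ a * p ^ a := by rw [← pow_add]; congr 1; omega
    rw [e3] at hle
    have hy4 : 4 ≤ p ^ a := hw4.trans hw
    have : 4 * p ^ a ≤ p ^ a * p ^ a := Nat.mul_le_mul_right _ hy4
    omega
  have hab' : a ∣ b := by
    rw [← hgeq, hg]; exact Nat.gcd_dvd_right a b
  obtain ⟨c, hc⟩ := hab'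
  rw [hc, mul_assoc] at hab
  have hrc : r = c * m := Nat.eq_of_mul_eq_mul_left (by omega) hab
  have hcr : c ∣ r := Dvd.intro _ hrc.symm
  rcases (Nat.dvd_prime hr).mp hcr with h | h
  · left; rw [hc, h, mul_one]
  · right; rw [hc, h]

end Cfsg.Agent.H9PSL2
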