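import Mathlib
import Cfsg.Prelude
import Cfsg.Agent.Lib.Helper9.PSL2Fus1
import Cfsg.Agent.Lib.Helper9.PSL2Max2
import Cfsg.Agent.Lib.Helper9.PSL2Max3
import Cfsg.Agent.Lib.Lead.Residual
import Cfsg.Agent.Lib.Helper2.DSubC1
import Cfsg.Agent.S0107

set_option autoImplicit false
set_option linter.unusedSectionVars false

/-!
# The `2`-fusion system of `PSL₂(q)`, `q` odd with `16 ∣ q² - 1`, is simple
-/

namespace Cfsg.Agent.H9PF

open Matrix Cfsg Cfsg.Agent.Lib.Helper2 Cfsg.Agent.Lib.Helper2.DSub Cfsg.Agent.H9PSL2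
open scoped MatrixGroups

theorem arith1 (q k g : ℕ) (hodd : q % 2 = 1) (hG : 2 * g = q * (q - 1) * (q + 1))
    (hk : k ∣ (q + 1) / 2 ∨ k ∣ (q - 1) / 2) : 2 * k ∣ g := by
  obtain ⟨c, rfl⟩ : ∃ c, q = 2 * c + 1 := ⟨q / 2, by omega⟩
  have h1 : (2 * c + 1 + 1) / 2 = c + 1 := by omega
  have h2 : (2 * c + 1 - 1) / 2 = c := by omega
  rw [h1, h2] at hk
  have h3 : 2 * c + 1 - 1 = 2 * c := by omega
  rw [h3] at hG
  have hg : g = 2 * c * (c + 1) * (2 * c + 1) := by
    have : 2 * g = 2 * (2 * c * (c + 1) * (2 * c + 1)) := by rw [hG]; ring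
    exact Nat.eq_of_mul_eq_mul_left (by norm_num) this
  rw [hg]
  rcases hk with hk | hk
  · obtain ⟨d, hd⟩ := hk
    exact ⟨c * d * (2 * c + 1), by rw [hd]; ring⟩
  · obtain ⟨d, hd⟩ := hk
    refine ⟨d * (c + 1) * (2 * c + 1), ?_⟩
    nth_rewrite 1 [hd]
    ring

theorem arith2 (q s g : ℕ) (hodd : q % 2 = 1) (hG : 2 * g = q * (q - 1) * (q + 1))
    (h : 2 * s ∣ q * (q - 1)) : 2 * s ∣ g := by
  obtain ⟨c, rfl⟩ : ∃ c, q = 2 * c + 1 := ⟨q / 2, by omega⟩
  have h3 : 2 * c + 1 - 1 = 2 * c := by omega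
  rw [h3] at hG h
  have hg : g = (2 * c + 1) * (2 * c) * (c + 1) := by
    have : 2 * g = 2 * ((2 * c + 1) * (2 * c) * (c + 1)) := by rw [hG]; ring
    exact Nat.eq_of_mul_eq_mul_left (by norm_num) this
  rw [hg]
  exact Dvd.dvd.mul_right h _

variable {F : Type*} [Field F] [Fintype F]

theorem sylow_two_dihedral (hodd : Fintype.card F % 2 = 1) (h16 : 16 ∣ Fintype.card F ^ 2 - 1)
    (S : Sylow 2 (ProjectiveSpecialLinearGroup (Fin 2) F)) :
    ∃ j : ℕ, 2 ≤ j ∧
      Nonempty ((S : Subgroup (ProjectiveSpecialLinearGroup (Fin 2) F)) ≃* DihedralGroup (2 ^ j)) := by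
  classical
  haveI := finite_psl (F := F)
  haveI : Fact (Nat.Prime 2) := ⟨Nat.prime_two⟩
  have hq1 : 1 < Fintype.card F := Fintype.one_lt_card
  obtain ⟨p, hp⟩ := CharP.exists F
  haveI := hp
  haveI : Fact p.Prime := ⟨CharP.char_is_prime F p⟩
  have h2F : (2 : F) ≠ 0 := by
    intro h
    have hch : ringChar F = 2 :=
      CharP.ringChar_of_prime_eq_zero Nat.prime_two (by exact_mod_cast h)
    have := FiniteField.even_card_of_char_two hch
    omega
  obtain ⟨hgcd, -⟩ := gcd_two_of_odd (F := F) h2F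
  have hG := card_psl_two (F := F)
  rw [hgcd] at hG
  have hSidx : ¬ 2 ∣ (S : Subgroup (ProjectiveSpecialLinearGroup (Fin 2) F)).index :=
    Sylow.not_dvd_index S
  have hScard := Subgroup.card_mul_index (S : Subgroup (ProjectiveSpecialLinearGroup (Fin 2) F))
  have hmax : ¬ 2 * Nat.card S ∣ Nat.card (ProjectiveSpecialLinearGroup (Fin 2) F) := by
    intro h
    rw [← hScard, mul_comm 2] at h
    exact hSidx ((Nat.mul_dvd_mul_iff_left Nat.card_pos).mp h)
  obtain ⟨n, hn⟩ := IsPGroup.iff_card.mp S.isPGroup'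
  have h8 : 3 ≤ n := by
    have h1 : (Fintype.card F - 1) * (Fintype.card F + 1) = Fintype.card F ^ 2 - 1 :=
      sub_one_mul_add_one _ hq1.le
    have h2 : 16 ∣ 2 * Nat.card (ProjectiveSpecialLinearGroup (Fin 2) F) := by
      rw [hG, mul_assoc, h1]
      exact Dvd.dvd.mul_left h16 _
    have h3 : 8 ∣ Nat.card (ProjectiveSpecialLinearGroup (Fin 2) F) := by
      have : (2 : ℕ) * 8 ∣ 2 * Nat.card (ProjectiveSpecialLinearGroup (Fin 2) F) := h2
      exact (Nat.mul_dvd_mul_iff_left (by norm_num)).mp this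
    rw [← hScard, hn] at h3
    have hcop : Nat.Coprime 8 (S : Subgroup (ProjectiveSpecialLinearGroup (Fin 2) F)).index := by
      have : Nat.Coprime 2 (S : Subgroup (ProjectiveSpecialLinearGroup (Fin 2) F)).index :=
        (Nat.Prime.coprime_iff_not_dvd Nat.prime_two).mpr hSidx
      exact Nat.Coprime.pow_left 3 this
    have h4 : 2 ^ 3 ∣ 2 ^ n := hcop.dvd_of_dvd_mul_right h3
    exact (Nat.pow_dvd_pow_iff_le_right (by norm_num)).mp h4
  rcases dickson_psl_concrete p (S : Subgroup (ProjectiveSpecialLinearGroup (Fin 2) F)) with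
    ⟨k, hk, ⟨-, hcyc⟩ | ⟨⟨e⟩⟩⟩ | ⟨P, hP⟩ | ⟨⟨e⟩⟩ | ⟨⟨e⟩⟩ | ⟨⟨e⟩⟩ | ⟨K, _, _, m, hKm, hiso⟩
  · exfalso
    rw [hgcd] at hk
    apply hmax
    rw [hcyc]
    exact arith1 _ k _ hodd hG hk
  · have hc := Nat.card_congr e.toEquiv
    rw [DihedralGroup.nat_card, hn] at hc
    have hk2 : k = 2 ^ (n - 1) := by
      have : 2 ^ n = 2 * 2 ^ (n - 1) := by
        rw [← pow_succ']; congr 1; omega
      rw [this] at hc
      exact (Nat.eq_of_mul_eq_mul_left (by norm_num) hc).symm
    subst hk2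
    exact ⟨n - 1, by omega, ⟨e⟩⟩
  · exfalso
    apply hmax
    have := card_dvd_of_le_normalizer p P _ hP
    rw [hgcd] at this
    exact arith2 _ _ _ hodd hG this
  · exfalso
    have hc := Nat.card_congr e.toEquiv
    rw [card_A4, hn] at hc
    have : 3 ∣ 2 ^ n := by rw [hc]; norm_num
    have := Nat.Prime.dvd_of_dvd_pow Nat.prime_three this
    omega
  · exfalso
    have hc := Nat.card_congr e.toEquiv
    rw [card_S4, hn] at hc
    have : 3 ∣ 2 ^ n := by rw [hc]; norm_num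
    have := Nat.Prime.dvd_of_dvd_pow Nat.prime_three this
    omega
  · exfalso
    have hc := Nat.card_congr e.toEquiv
    rw [card_A5, hn] at hc
    have : 3 ∣ 2 ^ n := by rw [hc]; norm_num
    have := Nat.Prime.dvd_of_dvd_pow Nat.prime_three this
    omega
  · exfalso
    have hK1 : 1 < Fintype.card K := Fintype.one_lt_card
    have hm0 : m ≠ 0 := by
      rintro rfl
      rw [pow_zero] at hKm
      omega
    have hKodd : ¬ 2 ∣ Fintype.card K := by
      intro h
      have : 2 ∣ Fintype.card F := by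
        rw [← hKm]
        exact Dvd.dvd.pow h hm0
      omega
    have hdvd : Fintype.card K ∣ 2 ^ (n + 1) := by
      rcases hiso with ⟨⟨e⟩⟩ | ⟨⟨e⟩⟩
      · have h1 := card_psl_two (F := K)
        rw [← Nat.card_congr e.toEquiv, hn] at h1
        have h2 : Fintype.card K ∣ Nat.gcd 2 (Fintype.card K - 1) * 2 ^ n := by
          rw [h1, mul_assoc]
          exact Dvd.intro _ rfl
        have h3 : Nat.gcd 2 (Fintype.card K - 1) * 2 ^ n ∣ 2 * 2 ^ n :=
          Nat.mul_dvd_mul_right (Nat.gcd_dvd_left _ _) _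
        rw [pow_succ']
        exact h2.trans h3
      · have h1 := card_pgl_two (K := K)
        rw [← Nat.card_congr e.toEquiv, hn] at h1
        have h2 : Fintype.card K ∣ 2 ^ n := by
          rw [h1, mul_assoc]
          exact Dvd.intro _ rfl
        exact h2.trans (pow_dvd_pow 2 (Nat.le_succ n))
    have hcop : Nat.Coprime (Fintype.card K) (2 ^ (n + 1)) := by
      apply Nat.Coprime.pow_right
      exact ((Nat.Prime.coprime_iff_not_dvd Nat.prime_two).mpr hKodd).symm
    have := Nat.Coprime.eq_one_of_dvd hcop hdvd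
    omega

theorem pResidual_eq_top (hodd : Fintype.card F % 2 = 1) (h7 : 4 ≤ Fintype.card F) :
    Cfsg.pResidual 2 (ProjectiveSpecialLinearGroup (Fin 2) F) = ⊤ := by
  classical
  haveI := finite_psl (F := F)
  haveI : IsSimpleGroup (ProjectiveSpecialLinearGroup (Fin 2) F) :=
    Matrix.ProjectiveSpecialLinearGroup.rank_two_simple
      (by rw [Nat.card_eq_fintype_card]; exact h7)
  have hnorm : (Cfsg.pResidual 2 (ProjectiveSpecialLinearGroup (Fin 2) F)).Normal :=
    Cfsg.Agent.Lib.Lead.pResidual_normal 2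
  rcases hnorm.eq_bot_or_eq_top with h | h
  · exfalso
    have hq1 : 1 < Fintype.card F := Fintype.one_lt_card
    have h2F : (2 : F) ≠ 0 := by
      intro h
      have hch : ringChar F = 2 :=
        CharP.ringChar_of_prime_eq_zero Nat.prime_two (by exact_mod_cast h)
      have := FiniteField.even_card_of_char_two hch
      omega
    obtain ⟨hgcd, -⟩ := gcd_two_of_odd (F := F) h2F
    have hG := card_psl_two (F := F)
    rw [hgcd] at hG
    have h3 : 3 ∣ Fintype.card F * (Fintype.card F - 1) * (Fintype.card F + 1) := by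
      have hc : Fintype.card F % 3 = 0 ∨ Fintype.card F % 3 = 1 ∨ Fintype.card F % 3 = 2 := by
        omega
      rcases hc with hc | hc | hc
      · exact Dvd.dvd.mul_right (Dvd.dvd.mul_right (Nat.dvd_of_mod_eq_zero hc) _) _
      · exact Dvd.dvd.mul_right (Dvd.dvd.mul_left (Nat.dvd_of_mod_eq_zero (by omega)) _) _
      · exact Dvd.dvd.mul_left (Nat.dvd_of_mod_eq_zero (by omega)) _
    rw [← hG] at h3
    have h3' : 3 ∣ Nat.card (ProjectiveSpecialLinearGroup (Fin 2) F) :=
      (Nat.Coprime.dvd_of_dvd_mul_left (by norm_num) h3)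
    haveI : Fact (Nat.Prime 3) := ⟨Nat.prime_three⟩
    obtain ⟨x, hx⟩ := exists_prime_orderOf_dvd_card' 3 h3'
    have hxm : x ∈ Cfsg.pResidual 2 (ProjectiveSpecialLinearGroup (Fin 2) F) :=
      Cfsg.Agent.Lib.Lead.mem_pResidual_of_coprime (by rw [hx]; norm_num)
    rw [h, Subgroup.mem_bot] at hxm
    rw [hxm, orderOf_one] at hx
    omega
  · exact h

end Cfsg.Agent.H9PF
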