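import Mathlib
import Cfsg.Agent.Lib.Helper9.PSL2Max2
import Cfsg.Agent.Lib.Helper9.PSL2Max3

set_option autoImplicit false
set_option linter.unusedSectionVars false
set_option linter.style.haveILetI false

/-!
# Maximal subgroups of `PSL₂(q)`: subfield subgroups containing subfield subgroups
-/

namespace Cfsg.Agent.H9PSL2

open Matrix Cfsg.Agent.Lib.Helper2.DSub
open scoped MatrixGroups commutatorElement

variable {F : Type*} [Field F] [Fintype F]

/-- an overgroup `M ≅ PSL₂(K')` or `PGL₂(K')` of a subfield subgroup `N ≅ PSL₂(K)`,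
`|F| = |K| ^ r` with `r` prime: then `|K'| = |F|` or `|K'| = |K|` -/
theorem subfield_case {K : Type*} [Field K] [Fintype K] (Q r : ℕ)
    (hK : Fintype.card K = Q) (hF : Fintype.card F = Q ^ r) (hr : r.Prime)
    (N M : Subgroup (ProjectiveSpecialLinearGroup (Fin 2) F))
    (eN : N ≃* ProjectiveSpecialLinearGroup (Fin 2) K) (hNM : N ≤ M)
    {K' : Type} [Field K'] [Fintype K'] (m : ℕ) (hm : Fintype.card K' ^ m = Fintype.card F)
    (hiso : Nonempty (M ≃* ProjectiveSpecialLinearGroup (Fin 2) K') ∨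
      Nonempty (M ≃* Matrix.ProjGenLinGroup (Fin 2) K')) :
    Fintype.card K' = Fintype.card F ∨ (Fintype.card K' = Q ∧ m = r) := by
  classical
  haveI := finite_psl (F := F)
  obtain ⟨p, hchar⟩ := CharP.exists F
  haveI : Fact p.Prime := ⟨CharP.char_is_prime F p⟩
  obtain ⟨⟨n, hn0⟩, hpp, hn⟩ := FiniteField.card F p
  have hn' : Fintype.card F = p ^ n := hn
  have hQ2 : 2 ≤ Q := by rw [← hK]; exact Fintype.one_lt_card
  have hq'2 : 2 ≤ Fintype.card K' := Fintype.one_lt_card
  have hq2 : 2 ≤ Fintype.card F := Fintype.one_lt_card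
  have hr0 : r ≠ 0 := hr.ne_zero
  have hm0 : m ≠ 0 := by
    rintro rfl
    rw [pow_zero] at hm; omega
  -- exponents
  have hQdvd : Q ∣ p ^ n := by rw [← hn', hF]; exact dvd_pow_self _ hr0
  obtain ⟨a, -, ha⟩ := (Nat.dvd_prime_pow hpp).mp hQdvd
  have hq'dvd : Fintype.card K' ∣ p ^ n := by rw [← hn', ← hm]; exact dvd_pow_self _ hm0
  obtain ⟨b, -, hb⟩ := (Nat.dvd_prime_pow hpp).mp hq'dvd
  have ha1 : 1 ≤ a := by
    rcases Nat.eq_zero_or_pos a with rfl | h
    · rw [pow_zero] at ha; omega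
    · exact h
  have har : a * r = n := by
    have : p ^ (a * r) = p ^ n := by rw [pow_mul, ← ha, ← hF, hn']
    exact Nat.pow_right_injective hpp.two_le this
  have hbm : b * m = n := by
    have : p ^ (b * m) = p ^ n := by rw [pow_mul, ← hb, hm, hn']
    exact Nat.pow_right_injective hpp.two_le this
  -- orders
  have hNc := card_psl_two (F := K)
  rw [← Nat.card_congr eN.toEquiv, hK, ha] at hNc
  have hMc := card_dvd_of_iso hiso
  rw [hb] at hMc
  have hd2 : Nat.gcd 2 (p ^ a - 1) ∣ 2 := Nat.gcd_dvd_left _ _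
  have hdvd : p ^ a * (p ^ a - 1) * (p ^ a + 1) ∣ 2 * (p ^ b * (p ^ b - 1) * (p ^ b + 1)) := by
    rw [← hNc]
    exact Nat.mul_dvd_mul hd2 ((Subgroup.card_dvd_of_le hNM).trans hMc)
  rcases subfield_arith p a b r m hpp hr ha1 (by rw [har, hbm]) hdvd with h | h
  · right
    refine ⟨by rw [hb, h, ha], ?_⟩
    rw [h] at hbm
    have : a * m = a * r := by rw [hbm, har]
    exact Nat.eq_of_mul_eq_mul_left (by omega) this
  · left
    rw [hb, h, har, hn']

end Cfsg.Agent.H9PSL2
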