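import Mathlib
import Cfsg.Agent.Lib.Helper5.SLnPar1
import Cfsg.Agent.Lib.Helper9.PSLFus2

set_option autoImplicit false

/-!
# Unipotent radicals of block triangular subgroups of `SL_n(F)`
-/

namespace Cfsg.Agent.H9PF

open Matrix Matrix.SpecialLinearGroup Cfsg.Agent.Lib.Helper5.SLnBN Cfsg.Agent.Lib.Helper5.SLnAut

variable {n : ℕ} {F : Type*} [Field F]

/-- strictly block upper triangular matrices -/
def SBU (b : Fin n → ℕ) (M : Matrix (Fin n) (Fin n) F) : Prop := ∀ k l, b l ≤ b k → M k l = 0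

/-- block upper triangular matrices -/
def BU (b : Fin n → ℕ) (M : Matrix (Fin n) (Fin n) F) : Prop := ∀ k l, b l < b k → M k l = 0

theorem SBU.toBU {b : Fin n → ℕ} {M : Matrix (Fin n) (Fin n) F} (h : SBU b M) : BU b M :=
  fun k l hkl => h k l hkl.le

theorem SBU.add {b : Fin n → ℕ} {M N : Matrix (Fin n) (Fin n) F} (hM : SBU b M) (hN : SBU b N) :
    SBU b (M + N) := by
  intro k l hkl
  rw [Matrix.add_apply, hM k l hkl, hN k l hkl, add_zero]

theorem SBU.neg {b : Fin n → ℕ} {M : Matrix (Fin n) (Fin n) F} (hM : SBU b M) : SBU b (-M) := by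
  intro k l hkl
  rw [Matrix.neg_apply, hM k l hkl, neg_zero]

theorem SBU.mul_BU {b : Fin n → ℕ} {M N : Matrix (Fin n) (Fin n) F} (hM : SBU b M) (hN : BU b N) :
    SBU b (M * N) := by
  intro k l hkl
  rw [Matrix.mul_apply]
  apply Finset.sum_eq_zero
  intro a _
  by_cases h1 : b a ≤ b k
  · rw [hM k a h1, zero_mul]
  · rw [hN a l (by omega), mul_zero]

theorem BU.mul_SBU {b : Fin n → ℕ} {M N : Matrix (Fin n) (Fin n) F} (hM : BU b M) (hN : SBU b N) :
    SBU b (M * N) := by
  intro k l hkl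
  rw [Matrix.mul_apply]
  apply Finset.sum_eq_zero
  intro a _
  by_cases h1 : b a < b k
  · rw [hM k a h1, zero_mul]
  · rw [hN a l (by omega), mul_zero]

theorem BU_of_mem_btSub {b : Fin n → ℕ} {g : SpecialLinearGroup (Fin n) F} (hg : g ∈ btSub F b) :
    BU b (g : Matrix (Fin n) (Fin n) F) := (mem_btSub b g).mp hg

theorem BU_of_SBU_sub_one {b : Fin n → ℕ} {M : Matrix (Fin n) (Fin n) F} (h : SBU b (M - 1)) :
    BU b M := by
  intro k l hkl
  have h1 := h k l hkl.le
  have hne : k ≠ l := by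
    rintro rfl
    exact lt_irrefl _ hkl
  rwa [Matrix.sub_apply, Matrix.one_apply_ne hne, sub_zero] at h1

theorem coe_mul_inv_self (g : SpecialLinearGroup (Fin n) F) :
    (g : Matrix (Fin n) (Fin n) F) * ((g⁻¹ : SpecialLinearGroup (Fin n) F) : Matrix (Fin n) (Fin n) F) = 1 := by
  rw [← Matrix.SpecialLinearGroup.coe_mul, mul_inv_cancel, Matrix.SpecialLinearGroup.coe_one]

theorem coe_inv_mul_self (g : SpecialLinearGroup (Fin n) F) :
    ((g⁻¹ : SpecialLinearGroup (Fin n) F) : Matrix (Fin n) (Fin n) F) * (g : Matrix (Fin n) (Fin n) F) = 1 := by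
  rw [← Matrix.SpecialLinearGroup.coe_mul, inv_mul_cancel, Matrix.SpecialLinearGroup.coe_one]

/-- the unipotent radical of the block triangular subgroup -/
def radSub (F : Type*) [Field F] (b : Fin n → ℕ) : Subgroup (SpecialLinearGroup (Fin n) F) where
  carrier := {g | SBU b ((g : Matrix (Fin n) (Fin n) F) - 1)}
  one_mem' := by
    show SBU b (((1 : SpecialLinearGroup (Fin n) F) : Matrix (Fin n) (Fin n) F) - 1)
    rw [Matrix.SpecialLinearGroup.coe_one, sub_self]
    intro k l _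
    rfl
  mul_mem' := by
    intro g h hg hh
    show SBU b (((g * h : SpecialLinearGroup (Fin n) F) : Matrix (Fin n) (Fin n) F) - 1)
    have e : ((g * h : SpecialLinearGroup (Fin n) F) : Matrix (Fin n) (Fin n) F) - 1
        = ((g : Matrix (Fin n) (Fin n) F) - 1) * ((h : Matrix (Fin n) (Fin n) F) - 1)
          + (((g : Matrix (Fin n) (Fin n) F) - 1) + ((h : Matrix (Fin n) (Fin n) F) - 1)) := by
      rw [Matrix.SpecialLinearGroup.coe_mul]
      noncomm_ring
    rw [e]
    exact (SBU.mul_BU hg (SBU.toBU hh)).add (hg.add hh)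
  inv_mem' := by
    intro g hg
    show SBU b (((g⁻¹ : SpecialLinearGroup (Fin n) F) : Matrix (Fin n) (Fin n) F) - 1)
    have hgb : g ∈ btSub F b := (mem_btSub b g).mpr (BU_of_SBU_sub_one hg)
    have hgi : g⁻¹ ∈ btSub F b := (btSub F b).inv_mem hgb
    have e : ((g⁻¹ : SpecialLinearGroup (Fin n) F) : Matrix (Fin n) (Fin n) F) - 1
        = -(((g⁻¹ : SpecialLinearGroup (Fin n) F) : Matrix (Fin n) (Fin n) F)
            * ((g : Matrix (Fin n) (Fin n) F) - 1)) := by
      rw [mul_sub, coe_inv_mul_self, mul_one]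
      abel
    rw [e]
    exact (BU.mul_SBU (BU_of_mem_btSub hgi) hg).neg

theorem mem_radSub (b : Fin n → ℕ) (g : SpecialLinearGroup (Fin n) F) :
    g ∈ radSub F b ↔ SBU b ((g : Matrix (Fin n) (Fin n) F) - 1) := Iff.rfl

theorem mem_radSub_iff (b : Fin n → ℕ) (g : SpecialLinearGroup (Fin n) F) :
    g ∈ radSub F b ↔ ∀ k l, b l ≤ b k →
      (g : Matrix (Fin n) (Fin n) F) k l = if k = l then 1 else 0 := by
  rw [mem_radSub]
  constructor
  · intro h k l hkl
    have := h k l hkl
    rw [Matrix.sub_apply, Matrix.one_apply, sub_eq_zero] at this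
    exact this
  · intro h k l hkl
    rw [Matrix.sub_apply, Matrix.one_apply, h k l hkl, sub_self]

theorem radSub_le_btSub (b : Fin n → ℕ) : radSub F b ≤ btSub F b :=
  fun g hg => (mem_btSub b g).mpr (BU_of_SBU_sub_one hg)

/-- the block triangular subgroup normalises its unipotent radical -/
theorem conj_mem_radSub {b : Fin n → ℕ} {p g : SpecialLinearGroup (Fin n) F}
    (hp : p ∈ btSub F b) (hg : g ∈ radSub F b) : p * g * p⁻¹ ∈ radSub F b := by
  show SBU b (((p * g * p⁻¹ : SpecialLinearGroup (Fin n) F) : Matrix (Fin n) (Fin n) F) - 1)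
  have e : ((p * g * p⁻¹ : SpecialLinearGroup (Fin n) F) : Matrix (Fin n) (Fin n) F) - 1
      = (p : Matrix (Fin n) (Fin n) F) * ((g : Matrix (Fin n) (Fin n) F) - 1)
        * ((p⁻¹ : SpecialLinearGroup (Fin n) F) : Matrix (Fin n) (Fin n) F) := by
    rw [Matrix.SpecialLinearGroup.coe_mul, Matrix.SpecialLinearGroup.coe_mul, mul_sub, mul_one, sub_mul,
      coe_mul_inv_self]
  rw [e]
  exact SBU.mul_BU (BU.mul_SBU (BU_of_mem_btSub hp) hg) (BU_of_mem_btSub ((btSub F b).inv_mem hp))

theorem btSub_le_normalizer (b : Fin n → ℕ) :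
    btSub F b ≤ Subgroup.normalizer (radSub F b : Set (SpecialLinearGroup (Fin n) F)) := by
  intro p hp
  rw [Subgroup.mem_normalizer_iff]
  intro g
  constructor
  · intro hg
    exact conj_mem_radSub hp hg
  · intro hg
    have := conj_mem_radSub ((btSub F b).inv_mem hp) hg
    have e : p⁻¹ * (p * g * p⁻¹) * p⁻¹⁻¹ = g := by group
    rwa [e] at this

end Cfsg.Agent.H9PF
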