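import Mathlib
import Cfsg.Agent.Lib.Helper9.PSLFus3

set_option autoImplicit false

/-!
# The radicals of the minimal parabolic subgroups of `SL_n(F)` and their centralisers
-/

namespace Cfsg.Agent.H9PF

open Matrix Matrix.SpecialLinearGroup Cfsg.Agent.Lib.Helper5.SLnBN Cfsg.Agent.Lib.Helper5.SLnAut

variable {n m : ℕ} {F : Type*} [Field F]

theorem commute_single_of_commute {g : SpecialLinearGroup (Fin n) F} {a b : Fin n} (hab : a ≠ b)
    (h : g * transvection hab 1 = transvection hab 1 * g) :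
    Commute (Matrix.single a b (1 : F)) (g : Matrix (Fin n) (Fin n) F) := by
  have h1 := congrArg (fun x : SpecialLinearGroup (Fin n) F => (x : Matrix (Fin n) (Fin n) F)) h
  simp only [Matrix.SpecialLinearGroup.coe_mul, transvection_coe] at h1
  rw [mul_add, add_mul, mul_one, one_mul] at h1
  exact (add_left_cancel h1).symm

/-- the radical of the `i`-th minimal parabolic subgroup -/
def Rsub (F : Type*) [Field F] (i : Fin m) : Subgroup (SpecialLinearGroup (Fin (m + 1)) F) :=
  radSub F (blk i)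

theorem blk_mono (i : Fin m) {k l : Fin (m + 1)} (h : l ≤ k) : blk i l ≤ blk i k := by
  unfold blk
  rw [Fin.le_def] at h
  split_ifs <;> omega

theorem blk_castSucc (i : Fin m) : blk i i.castSucc = i.val := by
  unfold blk
  simp

theorem blk_succ (i : Fin m) : blk i i.succ = i.val := by
  unfold blk
  simp

theorem Rsub_le_unip (i : Fin m) : Rsub F i ≤ unip (m + 1) F := by
  intro g hg
  rw [Rsub, mem_radSub_iff] at hg
  refine ⟨fun k l hlk => ?_, fun k => ?_⟩
  · rw [hg k l (blk_mono i hlk.le), if_neg (ne_of_gt hlk)]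
  · rw [hg k k le_rfl, if_pos rfl]

theorem transvection_mem_Rsub (i : Fin m) {j k : Fin (m + 1)} (hjk : j < k)
    (hne : ¬ (k = i.succ ∧ j = i.castSucc)) (t : F) :
    (transvection (ne_of_lt hjk) t : SpecialLinearGroup (Fin (m + 1)) F) ∈ Rsub F i := by
  rw [Rsub, mem_radSub_iff]
  intro k' l' hkl
  have h : ¬ (j = k' ∧ k = l') := by
    rintro ⟨rfl, rfl⟩
    have := blk_lt_of_lt i k j hjk hne
    omega
  rw [transvection_apply, if_neg h, add_zero]

theorem x_mem_btSub (i : Fin m) (t : F) :
    (transvection (castSucc_ne_succ i) t : SpecialLinearGroup (Fin (m + 1)) F) ∈ btSub F (blk i) :=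
  borel_le_btSub i (transvection_mem_borel Fin.castSucc_lt_succ t)

theorem y_mem_btSub (i : Fin m) (t : F) :
    (transvection (castSucc_ne_succ i).symm t : SpecialLinearGroup (Fin (m + 1)) F)
      ∈ btSub F (blk i) := by
  rw [mem_btSub]
  intro k l hkl
  have hne : k ≠ l := by
    rintro rfl
    exact lt_irrefl _ hkl
  have h : ¬ (i.succ = k ∧ i.castSucc = l) := by
    rintro ⟨rfl, rfl⟩
    rw [blk_castSucc, blk_succ] at hkl
    exact lt_irrefl _ hkl
  rw [transvection_apply, if_neg hne, zero_add, if_neg h]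

/-- an element of the unitriangular group commuting with all positive root elements is a root
element for the highest root -/
theorem eq_transvection_of_commute (hm : 1 ≤ m) {u : SpecialLinearGroup (Fin (m + 1)) F}
    (hu : u ∈ unip (m + 1) F)
    (hc : ∀ (j k : Fin (m + 1)) (hjk : j < k),
      u * transvection (ne_of_lt hjk) 1 = transvection (ne_of_lt hjk) 1 * u)
    (h0 : (0 : Fin (m + 1)) ≠ Fin.last m) :
    u = transvection h0 ((u : Matrix (Fin (m + 1)) (Fin (m + 1)) F) 0 (Fin.last m)) := by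
  apply Subtype.ext
  ext a b
  show (u : Matrix (Fin (m + 1)) (Fin (m + 1)) F) a b = _
  rw [transvection_apply]
  by_cases hab : a = b
  · subst hab
    rw [if_pos rfl, hu.2 a, if_neg, add_zero]
    rintro ⟨h1, h2⟩
    exact h0 (h1.trans h2.symm)
  · rw [if_neg hab, zero_add]
    by_cases hb : b = Fin.last m
    · by_cases ha : a = 0
      · subst ha; subst hb
        rw [if_pos ⟨rfl, rfl⟩]
      · rw [if_neg (fun h => ha h.1.symm)]
        have h0a : (0 : Fin (m + 1)) < a := Fin.pos_of_ne_zero ha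
        exact Matrix.row_eq_zero_of_commute_single
          (commute_single_of_commute (ne_of_lt h0a) (hc 0 a h0a)) (Ne.symm hab)
    · rw [if_neg (fun h => hb h.2.symm)]
      have hbl : b < Fin.last m := Fin.lt_last_iff_ne_last.mpr hb
      exact Matrix.col_eq_zero_of_commute_single
        (commute_single_of_commute (ne_of_lt hbl) (hc b _ hbl)) hab

/-- the scalar matrix of a root of unity -/
def scalarSL (c : F) (hc : c ^ (m + 1) = 1) : SpecialLinearGroup (Fin (m + 1)) F :=
  ⟨Matrix.scalar (Fin (m + 1)) c, by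
    rw [Matrix.scalar_apply, Matrix.det_diagonal, Finset.prod_const, Finset.card_univ,
      Fintype.card_fin, hc]⟩

theorem scalarSL_mem_center (c : F) (hc : c ^ (m + 1) = 1) :
    scalarSL c hc ∈ Subgroup.center (SpecialLinearGroup (Fin (m + 1)) F) := by
  rw [Matrix.SpecialLinearGroup.mem_center_iff]
  exact ⟨c, by rw [Fintype.card_fin]; exact hc, rfl⟩

/-- the centraliser of the radical of a minimal parabolic -/
theorem cent_Rsub (hm : 2 ≤ m) (i : Fin m) {y : SpecialLinearGroup (Fin (m + 1)) F}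
    (hc : ∀ r ∈ Rsub F i, y * r = r * y) :
    ∃ z ∈ Subgroup.center (SpecialLinearGroup (Fin (m + 1)) F), ∃ u ∈ Rsub F i, y = u * z := by
  have hcomm : ∀ (j k : Fin (m + 1)) (hjk : j < k), ¬ (k = i.succ ∧ j = i.castSucc) →
      Commute (Matrix.single j k (1 : F)) (y : Matrix (Fin (m + 1)) (Fin (m + 1)) F) :=
    fun j k hjk hne => commute_single_of_commute (ne_of_lt hjk)
      (hc _ (transvection_mem_Rsub i hjk hne 1))
  have hcol : ∀ (j k : Fin (m + 1)), j < k → ¬ (k = i.succ ∧ j = i.castSucc) →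
      ∀ a, a ≠ j → (y : Matrix (Fin (m + 1)) (Fin (m + 1)) F) a j = 0 :=
    fun j k hjk hne a ha => Matrix.col_eq_zero_of_commute_single (hcomm j k hjk hne) ha
  have hrow : ∀ (j k : Fin (m + 1)), j < k → ¬ (k = i.succ ∧ j = i.castSucc) →
      ∀ b, b ≠ k → (y : Matrix (Fin (m + 1)) (Fin (m + 1)) F) k b = 0 :=
    fun j k hjk hne b hb => Matrix.row_eq_zero_of_commute_single (hcomm j k hjk hne) hb
  have hdiag : ∀ (j k : Fin (m + 1)), j < k → ¬ (k = i.succ ∧ j = i.castSucc) →
      (y : Matrix (Fin (m + 1)) (Fin (m + 1)) F) j j = (y : Matrix (Fin (m + 1)) (Fin (m + 1)) F) k k :=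
    fun j k hjk hne => Matrix.diag_eq_of_commute_single (hcomm j k hjk hne)
  have hthird : (∃ c : Fin (m + 1), i.succ < c) ∨ (∃ c : Fin (m + 1), c < i.castSucc) := by
    by_cases h : i.val + 1 < m
    · left
      refine ⟨Fin.last m, ?_⟩
      rw [Fin.lt_def]
      simp
      omega
    · right
      refine ⟨0, ?_⟩
      rw [Fin.lt_def]
      simp
      have := i.2
      omega
  have hcs : i.castSucc < i.succ := Fin.castSucc_lt_succ
  -- the entries below the block diagonal vanish
  have hoff : ∀ a' b' : Fin (m + 1), a' ≠ b' → blk i b' ≤ blk i a' →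
      (y : Matrix (Fin (m + 1)) (Fin (m + 1)) F) a' b' = 0 := by
    intro a' b' hab hblk
    by_cases hspecial : (a' = i.castSucc ∧ b' = i.succ) ∨ (a' = i.succ ∧ b' = i.castSucc)
    · rcases hthird with ⟨c, hc'⟩ | ⟨c, hc'⟩
      · -- column `b'` via the pair `(b', c)`
        have hb'c : b' < c := by
          rcases hspecial with ⟨-, rfl⟩ | ⟨-, rfl⟩
          · exact hc'
          · exact hcs.trans hc'
        apply hcol b' c hb'c _ a' hab
        rintro ⟨rfl, h2⟩
        exact lt_irrefl _ hc'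
      · -- row `a'` via the pair `(c, a')`
        have hca' : c < a' := by
          rcases hspecial with ⟨rfl, -⟩ | ⟨rfl, -⟩
          · exact hc'
          · exact hc'.trans hcs
        apply hrow c a' hca' _ b' (Ne.symm hab)
        rintro ⟨h1, rfl⟩
        exact lt_irrefl _ hc'
    · push Not at hspecial
      have hlt : b' < a' := by
        by_contra hnot
        have h1 : a' < b' := lt_of_le_of_ne (not_lt.mp hnot) hab
        have h2 := blk_lt_of_lt i b' a' h1 (fun h => hspecial.1 h.2 h.1)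
        omega
      apply hcol b' a' hlt _ a' hab
      rintro ⟨h1, h2⟩
      exact hspecial.2 h1 h2
  -- all the diagonal entries agree
  have hd : ∀ j k : Fin (m + 1), j < k →
      (y : Matrix (Fin (m + 1)) (Fin (m + 1)) F) j j = (y : Matrix (Fin (m + 1)) (Fin (m + 1)) F) k k := by
    intro j k hjk
    by_cases hne : k = i.succ ∧ j = i.castSucc
    · obtain ⟨rfl, rfl⟩ := hne
      rcases hthird with ⟨c, hc'⟩ | ⟨c, hc'⟩
      · have h1 := hdiag i.castSucc c (hcs.trans hc') (by
          rintro ⟨rfl, -⟩; exact lt_irrefl _ hc')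
        have h2 := hdiag i.succ c hc' (by
          rintro ⟨rfl, -⟩; exact lt_irrefl _ hc')
        rw [h1, h2]
      · have h1 := hdiag c i.castSucc hc' (by
          rintro ⟨h, -⟩; exact (ne_of_lt hcs) h)
        have h2 := hdiag c i.succ (hc'.trans hcs) (by
          rintro ⟨-, rfl⟩; exact lt_irrefl _ hc')
        rw [← h1, h2]
    · exact hdiag j k hjk hne
  obtain ⟨lam, hlam⟩ : ∃ lam : F, lam = (y : Matrix (Fin (m + 1)) (Fin (m + 1)) F) 0 0 := ⟨_, rfl⟩
  have hdl : ∀ k : Fin (m + 1), (y : Matrix (Fin (m + 1)) (Fin (m + 1)) F) k k = lam := by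
    intro k
    by_cases hk : k = 0
    · rw [hk, hlam]
    · rw [hlam, hd 0 k (Fin.pos_of_ne_zero hk)]
  have hyb : y ∈ borel (m + 1) F := by
    intro a' b' hba
    exact hoff a' b' (ne_of_gt hba) (blk_mono i hba.le)
  have hlam0 : lam ≠ 0 := by
    rw [← hdl 0]
    exact diag_ne_zero_of_mem_borel hyb 0
  have hdet : lam ^ (m + 1) = 1 := by
    have h1 : (y : Matrix (Fin (m + 1)) (Fin (m + 1)) F).IsUpperTriangular := fun a b hab => hyb a b hab
    have h2 := Matrix.det_of_isUpperTriangular h1
    rw [y.2] at h2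
    rw [h2]
    simp only [hdl]
    rw [Finset.prod_const, Finset.card_univ, Fintype.card_fin]
  have hdet' : lam⁻¹ ^ (m + 1) = 1 := by rw [inv_pow, hdet, inv_one]
  refine ⟨(scalarSL lam⁻¹ hdet')⁻¹, Subgroup.inv_mem _ (scalarSL_mem_center _ _),
    y * scalarSL lam⁻¹ hdet', ?_, by group⟩
  rw [Rsub, mem_radSub_iff]
  intro k l hkl
  have e : ((y * scalarSL lam⁻¹ hdet' : SpecialLinearGroup (Fin (m + 1)) F) :
      Matrix (Fin (m + 1)) (Fin (m + 1)) F) k l
      = (y : Matrix (Fin (m + 1)) (Fin (m + 1)) F) k l * lam⁻¹ := by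
    show ((y : Matrix (Fin (m + 1)) (Fin (m + 1)) F) * Matrix.scalar (Fin (m + 1)) lam⁻¹) k l = _
    rw [Matrix.scalar_apply, Matrix.mul_diagonal]
  rw [e]
  by_cases hkl' : k = l
  · subst hkl'
    rw [if_pos rfl, hdl, mul_inv_cancel₀ hlam0]
  · rw [if_neg hkl', hoff k l hkl' hkl, zero_mul]

end Cfsg.Agent.H9PF
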