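import Mathlib
import Cfsg.Agent.Lib.Helper9.PSLFus4

set_option autoImplicit false

/-!
# The Borel subgroup of `SL_n(F)` is generated by the unitriangular subgroup and the rank one tori
-/

namespace Cfsg.Agent.H9PF

open Matrix Matrix.SpecialLinearGroup Cfsg.Agent.Lib.Helper5.SLnBN Cfsg.Agent.Lib.Helper5.SLnAut
  Cfsg.Agent.Lib.Helper5.PSL2Aut

variable {m : ℕ} {F : Type*} [Field F]

/-- the torus element `h_i(t)` -/
def hEl (i : Fin m) (t : Fˣ) : SpecialLinearGroup (Fin (m + 1)) F :=
  blockEmb i.castSucc i.succ (castSucc_ne_succ i) (hm t)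

theorem hEl_eq (i : Fin m) (t : Fˣ) :
    (hEl i t : SpecialLinearGroup (Fin (m + 1)) F)
      = transvection (castSucc_ne_succ i) (t : F)
        * transvection (castSucc_ne_succ i).symm (-((t⁻¹ : Fˣ) : F))
        * transvection (castSucc_ne_succ i) (t : F)
        * (transvection (castSucc_ne_succ i) ((1 : Fˣ) : F)
          * transvection (castSucc_ne_succ i).symm (-(((1 : Fˣ)⁻¹ : Fˣ) : F))
          * transvection (castSucc_ne_succ i) ((1 : Fˣ) : F))⁻¹ := by
  unfold hEl
  rw [← wm_mul_wm_one_inv, ← xm_ym_xm, ← xm_ym_xm, map_mul, map_inv, map_mul, map_mul, map_mul,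
    map_mul, blockEmb_xm, blockEmb_ym, blockEmb_xm, blockEmb_ym]

theorem hEl_coe (i : Fin m) (t : Fˣ) :
    ((hEl i t : SpecialLinearGroup (Fin (m + 1)) F) : Matrix (Fin (m + 1)) (Fin (m + 1)) F)
      = blockMat i.castSucc i.succ (castSucc_ne_succ i) !![(t : F), 0; 0, ((t⁻¹ : Fˣ) : F)] := rfl

theorem hEl_mem_borel (i : Fin m) (t : Fˣ) :
    (hEl i t : SpecialLinearGroup (Fin (m + 1)) F) ∈ borel (m + 1) F := by
  intro k l hlk
  rw [hEl_coe]
  exact blockMat_upper_triangular i.castSucc i.succ Fin.castSucc_lt_succ _ _ _ k l hlk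

theorem hEl_diag_succ (i : Fin m) (t : Fˣ) :
    ((hEl i t : SpecialLinearGroup (Fin (m + 1)) F) : Matrix (Fin (m + 1)) (Fin (m + 1)) F)
      i.succ i.succ = ((t⁻¹ : Fˣ) : F) := by
  rw [hEl_coe, blockMat_apply_bb]
  rfl

theorem hEl_diag_other (i : Fin m) (t : Fˣ) (k : Fin (m + 1)) (h1 : k ≠ i.castSucc)
    (h2 : k ≠ i.succ) :
    ((hEl i t : SpecialLinearGroup (Fin (m + 1)) F) : Matrix (Fin (m + 1)) (Fin (m + 1)) F)
      k k = 1 := by
  rw [hEl_coe, blockMat_apply_other_left _ _ _ _ k k h1 h2, if_pos rfl]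

/-- generators of the Borel subgroup -/
def borelGens (m : ℕ) (F : Type*) [Field F] : Set (SpecialLinearGroup (Fin (m + 1)) F) :=
  (unip (m + 1) F : Set (SpecialLinearGroup (Fin (m + 1)) F)) ∪ {g | ∃ (i : Fin m) (t : Fˣ), g = hEl i t}

theorem borel_le_closure_aux (K : ℕ) : ∀ b ∈ borel (m + 1) F,
    (∀ j : Fin (m + 1), K < j.val → (b : Matrix (Fin (m + 1)) (Fin (m + 1)) F) j j = 1) →
    b ∈ Subgroup.closure (borelGens m F) := by
  induction K with
  | zero =>
    intro b hb h
    apply Subgroup.subset_closure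
    left
    refine ⟨hb, ?_⟩
    have h1 : (b : Matrix (Fin (m + 1)) (Fin (m + 1)) F).IsUpperTriangular := fun a c hac => hb a c hac
    have h2 := Matrix.det_of_isUpperTriangular h1
    rw [b.2] at h2
    have h3 : ∏ j : Fin (m + 1), (b : Matrix (Fin (m + 1)) (Fin (m + 1)) F) j j
        = (b : Matrix (Fin (m + 1)) (Fin (m + 1)) F) 0 0 := by
      apply Finset.prod_eq_single
      · intro j _ hj
        apply h
        exact Nat.pos_of_ne_zero (fun h0 => hj (Fin.ext h0))
      · intro h0
        exact absurd (Finset.mem_univ _) h0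
    intro j
    by_cases hj : j = 0
    · rw [hj, ← h3, ← h2]
    · exact h j (Nat.pos_of_ne_zero (fun h0 => hj (Fin.ext h0)))
  | succ K ih =>
    intro b hb h
    by_cases hK : K + 1 ≤ m
    · obtain ⟨i, hi⟩ : ∃ i : Fin m, i = ⟨K, by omega⟩ := ⟨_, rfl⟩
      have hne : (b : Matrix (Fin (m + 1)) (Fin (m + 1)) F) i.succ i.succ ≠ 0 :=
        diag_ne_zero_of_mem_borel hb _
      obtain ⟨t, ht⟩ : ∃ t : Fˣ, t = Units.mk0 _ hne := ⟨_, rfl⟩
      have hb' : b * hEl i t ∈ borel (m + 1) F := (borel (m + 1) F).mul_mem hb (hEl_mem_borel i t)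
      have h1 : b * hEl i t ∈ Subgroup.closure (borelGens m F) := by
        apply ih _ hb'
        intro j hj
        rw [borel_mul_diag hb (hEl_mem_borel i t)]
        by_cases hj' : j = i.succ
        · rw [hj', hEl_diag_succ, ht, Units.val_inv_eq_inv_val, Units.val_mk0, mul_inv_cancel₀ hne]
        · have h2 : j ≠ i.castSucc := by
            intro h3
            rw [h3, hi] at hj
            simp at hj
          rw [hEl_diag_other i t j h2 hj', mul_one]
          apply h
          have h4 : j.val ≠ K + 1 := by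
            intro h5
            apply hj'
            apply Fin.ext
            rw [hi]
            simpa using h5
          omega
      have h2 : b = b * hEl i t * (hEl i t)⁻¹ := by group
      rw [h2]
      exact Subgroup.mul_mem _ h1 (Subgroup.inv_mem _ (Subgroup.subset_closure (Or.inr ⟨i, t, rfl⟩)))
    · apply ih b hb
      intro j hj
      have := j.2
      omega

theorem borel_le_closure : borel (m + 1) F ≤ Subgroup.closure (borelGens m F) := by
  intro b hb
  apply borel_le_closure_aux m b hb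
  intro j hj
  have := j.2
  omega

end Cfsg.Agent.H9PF
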