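import Mathlib
import Cfsg.Agent.Lib.Helper5.SLnAutMain2
import Cfsg.Agent.Lib.Lead.Nilpotent
import Cfsg.Agent.Lib.Helper9.PSLFus5

set_option autoImplicit false

/-!
# Strongly closed subgroups of the unitriangular subgroup of `PSL_n(F)`, `n ≥ 3`
-/

namespace Cfsg.Agent.H9PF

open Matrix Matrix.SpecialLinearGroup Cfsg.Agent.Lib.Helper5.SLnBN Cfsg.Agent.Lib.Helper5.SLnAut
open scoped commutatorElement

variable {m : ℕ} {F : Type*} [Field F]

theorem rootBar_mem_unipBar {a b : Fin (m + 1)} (hab : a < b) (t : F) :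
    rootBar (ne_of_lt hab) t ∈ unipBar (m + 1) F :=
  piN_mem_unipBar (transvection_mem_unip hab t)

/-- conjugating a root element by a monomial element -/
theorem conj_rootBar {w : SpecialLinearGroup (Fin (m + 1)) F} {σ : Equiv.Perm (Fin (m + 1))}
    (hw : IsMono (w : Matrix (Fin (m + 1)) (Fin (m + 1)) F) σ) {k l : Fin (m + 1)} (hkl : k ≠ l)
    (t : F) :
    piN w * rootBar hkl t * (piN w)⁻¹ = rootBar (fun e => hkl (σ.injective e))
      (t * (w : Matrix (Fin (m + 1)) (Fin (m + 1)) F) (σ k) k *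
        ((w⁻¹ : SpecialLinearGroup (Fin (m + 1)) F) : Matrix (Fin (m + 1)) (Fin (m + 1)) F) l (σ l)) := by
  unfold rootBar
  rw [← map_inv, ← map_mul, ← map_mul, mono_conj_transvection hw hkl t]

section closed

variable (T : Subgroup (ProjectiveSpecialLinearGroup (Fin (m + 1)) F))
  (hcl : ∀ t ∈ T, ∀ g : ProjectiveSpecialLinearGroup (Fin (m + 1)) F,
    g * t * g⁻¹ ∈ unipBar (m + 1) F → g * t * g⁻¹ ∈ T)

include hcl

theorem move_partial {k l : Fin (m + 1)} (hkl : k ≠ l) {c : F} (hc : c ≠ 0)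
    (h : rootBar hkl c ∈ T) (σ : Equiv.Perm (Fin (m + 1))) (hσ : σ k < σ l) :
    ∃ c' : F, c' ≠ 0 ∧ rootBar (ne_of_lt hσ) c' ∈ T := by
  obtain ⟨w, hw⟩ := exists_mono_perm (F := F) σ
  refine ⟨_, mono_conj_coeff_ne_zero hw k l hc, ?_⟩
  have h1 := conj_rootBar hw hkl c
  have h2 := hcl _ h (piN w)
  rw [h1] at h2
  exact h2 (rootBar_mem_unipBar hσ _)

theorem move_full {k l : Fin (m + 1)} (hkl : k ≠ l)
    (h : ∀ t : F, rootBar hkl t ∈ T) (σ : Equiv.Perm (Fin (m + 1))) (hσ : σ k < σ l) (t : F) :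
    rootBar (ne_of_lt hσ) t ∈ T := by
  obtain ⟨w, hw⟩ := exists_mono_perm (F := F) σ
  have hne := mono_conj_coeff_ne_zero hw k l (one_ne_zero (α := F))
  rw [one_mul] at hne
  obtain ⟨κ, hκ⟩ : ∃ κ : F, κ = (w : Matrix (Fin (m + 1)) (Fin (m + 1)) F) (σ k) k *
      ((w⁻¹ : SpecialLinearGroup (Fin (m + 1)) F) : Matrix (Fin (m + 1)) (Fin (m + 1)) F) l (σ l) :=
    ⟨_, rfl⟩
  rw [← hκ] at hne
  have h1 := conj_rootBar hw hkl (t * κ⁻¹)
  have h2 := hcl _ (h (t * κ⁻¹)) (piN w)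
  rw [h1] at h2
  have h3 := h2 (rootBar_mem_unipBar hσ _)
  have e : t * κ⁻¹ * (w : Matrix (Fin (m + 1)) (Fin (m + 1)) F) (σ k) k *
      ((w⁻¹ : SpecialLinearGroup (Fin (m + 1)) F) : Matrix (Fin (m + 1)) (Fin (m + 1)) F) l (σ l) = t := by
    rw [mul_assoc, ← hκ, mul_assoc, inv_mul_cancel₀ hne, mul_one]
  rw [e] at h3
  exact h3

theorem comm_mem {x y : ProjectiveSpecialLinearGroup (Fin (m + 1)) F} (hx : x ∈ T)
    (hxS : x ∈ unipBar (m + 1) F) (hy : y ∈ unipBar (m + 1) F) : ⁅x, y⁆ ∈ T := by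
  rw [commutatorElement_def]
  have h1 : y * x⁻¹ * y⁻¹ ∈ T :=
    hcl _ (T.inv_mem hx) y ((unipBar (m + 1) F).mul_mem ((unipBar (m + 1) F).mul_mem hy
      ((unipBar (m + 1) F).inv_mem hxS)) ((unipBar (m + 1) F).inv_mem hy))
  have e : x * y * x⁻¹ * y⁻¹ = x * (y * x⁻¹ * y⁻¹) := by group
  rw [e]
  exact T.mul_mem hx h1

theorem full_of_partial_left {a b d : Fin (m + 1)} (hab : a < b) (hbd : b < d) {c : F}
    (hc : c ≠ 0) (h : rootBar (ne_of_lt hab) c ∈ T) (t : F) :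
    rootBar (ne_of_lt (hab.trans hbd)) t ∈ T := by
  have h1 := rootBar_commutator (ne_of_lt hab) (ne_of_lt hbd) (ne_of_lt (hab.trans hbd)) c (c⁻¹ * t)
  rw [← mul_assoc, mul_inv_cancel₀ hc, one_mul] at h1
  rw [← h1]
  exact comm_mem T hcl h (rootBar_mem_unipBar hab c) (rootBar_mem_unipBar hbd _)

end closed

/-- a nontrivial subgroup of the unitriangular subgroup of `PSL_n(F)`, `n ≥ 3`, closed under
conjugation into the unitriangular subgroup, is the whole unitriangular subgroup -/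
theorem unipBar_le_of_closed [Fintype F] (hm : 2 ≤ m) {p f : ℕ} [Fact p.Prime]
    (hF : Fintype.card F = p ^ f)
    (T : Subgroup (ProjectiveSpecialLinearGroup (Fin (m + 1)) F))
    (hT : T ≤ unipBar (m + 1) F) (hTb : T ≠ ⊥)
    (hcl : ∀ t ∈ T, ∀ g : ProjectiveSpecialLinearGroup (Fin (m + 1)) F,
      g * t * g⁻¹ ∈ unipBar (m + 1) F → g * t * g⁻¹ ∈ T) :
    unipBar (m + 1) F ≤ T := by
  obtain ⟨S₀, hS₀⟩ : ∃ S₀, S₀ = unipBar (m + 1) F := ⟨_, rfl⟩
  have hP : IsPGroup p S₀ := hS₀ ▸ isPGroup_unipBar hF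
  haveI : Group.IsNilpotent S₀ := hP.isNilpotent
  haveI : (T.subgroupOf S₀).Normal := by
    constructor
    intro t ht s
    rw [Subgroup.mem_subgroupOf] at ht ⊢
    have := hcl _ ht (s : ProjectiveSpecialLinearGroup (Fin (m + 1)) F)
      (hS₀ ▸ (S₀.mul_mem (S₀.mul_mem s.2 t.2) (S₀.inv_mem s.2)))
    simpa using this
  have hne : T.subgroupOf S₀ ≠ ⊥ := by
    intro hb
    apply hTb
    rw [Subgroup.eq_bot_iff_forall] at hb ⊢
    intro t ht
    have := hb ⟨t, hS₀ ▸ hT ht⟩ (Subgroup.mem_subgroupOf.mpr ht)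
    exact congrArg Subtype.val this
  obtain ⟨y, hy1⟩ := (Subgroup.ne_bot_iff_exists_ne_one).mp
    (Cfsg.Agent.Lib.Lead.inf_center_ne_bot (T.subgroupOf S₀) hne)
  obtain ⟨hyT, hyZ⟩ := Subgroup.mem_inf.mp y.2
  rw [Subgroup.mem_subgroupOf] at hyT
  rw [Subgroup.mem_center_iff] at hyZ
  have hyS : ((y : S₀) : ProjectiveSpecialLinearGroup (Fin (m + 1)) F) ∈ unipBar (m + 1) F :=
    hS₀ ▸ (y : S₀).2
  obtain ⟨u, hu, huy⟩ := hyS
  -- `u` commutes with the unitriangular subgroup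
  have hcomm : ∀ v ∈ unip (m + 1) F, u * v = v * u := by
    intro v hv
    have hv' : piN v ∈ S₀ := hS₀ ▸ piN_mem_unipBar hv
    have h1 := hyZ ⟨piN v, hv'⟩
    have h2 := congrArg Subtype.val h1
    simp only [Subgroup.coe_mul] at h2
    rw [← huy] at h2
    change piN v * piN u = piN u * piN v at h2
    rw [← map_mul, ← map_mul, piN_eq_iff] at h2
    have h3 : (v * u)⁻¹ * (u * v) ∈ unip (m + 1) F :=
      (unip (m + 1) F).mul_mem ((unip (m + 1) F).inv_mem ((unip (m + 1) F).mul_mem hv hu))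
        ((unip (m + 1) F).mul_mem hu hv)
    have h4 := eq_one_of_mem_unip_of_mem_center h3 h2
    have h5 : u * v = (v * u) * ((v * u)⁻¹ * (u * v)) := by group
    rw [h5, h4, mul_one]
  have h0l : (0 : Fin (m + 1)) < Fin.last m := by
    rw [Fin.lt_def]; simp; omega
  have hu' := eq_transvection_of_commute (by omega) hu
    (fun j k hjk => hcomm _ (transvection_mem_unip hjk 1)) (ne_of_lt h0l)
  obtain ⟨c, hc⟩ : ∃ c : F, c = (u : Matrix (Fin (m + 1)) (Fin (m + 1)) F) 0 (Fin.last m) := ⟨_, rfl⟩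
  rw [← hc] at hu'
  have hc0 : c ≠ 0 := by
    intro h0
    apply hy1
    apply Subtype.ext
    apply Subtype.ext
    show ((y : S₀) : ProjectiveSpecialLinearGroup (Fin (m + 1)) F) = 1
    rw [← huy, hu', h0, transvection_coeff_zero, map_one]
  have hroot : rootBar (ne_of_lt h0l) c ∈ T := by
    have : rootBar (ne_of_lt h0l) c = ((y : S₀) : ProjectiveSpecialLinearGroup (Fin (m + 1)) F) := by
      rw [← huy, hu']; rfl
    rw [this]
    exact hyT
  -- the index `1`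
  obtain ⟨one, hone⟩ : ∃ one : Fin (m + 1), one = ⟨1, by omega⟩ := ⟨_, rfl⟩
  have h01 : (0 : Fin (m + 1)) < one := by rw [hone, Fin.lt_def]; simp
  have h1l : one < Fin.last m := by rw [hone, Fin.lt_def]; simp; omega
  -- the root `(0, 1)` is partially in `T`
  have hσ1 : (Equiv.swap (Fin.last m) one) 0 < (Equiv.swap (Fin.last m) one) (Fin.last m) := by
    rw [Equiv.swap_apply_left, Equiv.swap_apply_of_ne_of_ne (ne_of_lt h0l) (ne_of_lt h01)]
    exact h01
  obtain ⟨c', hc', hc'T⟩ := move_partial T hcl (ne_of_lt h0l) hc0 hroot _ hσ1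
  have hc'T' : rootBar (ne_of_lt h01) c' ∈ T := by
    rw [rootBar_congr (by rw [Equiv.swap_apply_of_ne_of_ne (ne_of_lt h0l) (ne_of_lt h01)])
      (by rw [Equiv.swap_apply_left]) (ne_of_lt h01) (ne_of_lt hσ1)]
    exact hc'T
  -- the highest root is fully in `T`
  have hfull0 : ∀ t : F, rootBar (ne_of_lt h0l) t ∈ T := fun t =>
    full_of_partial_left T hcl h01 h1l hc' hc'T' t
  -- all positive roots are in `T`
  have hall : ∀ (a b : Fin (m + 1)) (hab : a < b) (t : F), rootBar (ne_of_lt hab) t ∈ T := by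
    intro a b hab t
    have hal : a < Fin.last m := lt_of_lt_of_le hab (Fin.le_last b)
    have hσ2 : (Equiv.swap 0 a) 0 < (Equiv.swap 0 a) (Fin.last m) := by
      rw [Equiv.swap_apply_left, Equiv.swap_apply_of_ne_of_ne (ne_of_gt h0l) (ne_of_gt hal)]
      exact hal
    have h1 : ∀ t : F, rootBar (ne_of_lt hal) t ∈ T := by
      intro t
      have := move_full T hcl (ne_of_lt h0l) hfull0 _ hσ2 t
      rw [rootBar_congr (by rw [Equiv.swap_apply_left])
        (by rw [Equiv.swap_apply_of_ne_of_ne (ne_of_gt h0l) (ne_of_gt hal)])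
        (ne_of_lt hσ2) (ne_of_lt hal)] at this
      exact this
    have hσ3 : (Equiv.swap (Fin.last m) b) a < (Equiv.swap (Fin.last m) b) (Fin.last m) := by
      rw [Equiv.swap_apply_left, Equiv.swap_apply_of_ne_of_ne (ne_of_lt hal) (ne_of_lt hab)]
      exact hab
    have := move_full T hcl (ne_of_lt hal) h1 _ hσ3 t
    rw [rootBar_congr (by rw [Equiv.swap_apply_of_ne_of_ne (ne_of_lt hal) (ne_of_lt hab)])
      (by rw [Equiv.swap_apply_left]) (ne_of_lt hσ3) (ne_of_lt hab)] at this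
    exact this
  -- conclusion
  have hle : Subgroup.closure (posRoots (m + 1) F) ≤ T.comap piN := by
    rw [Subgroup.closure_le]
    rintro g ⟨a, b, hab, t, rfl⟩
    exact hall a b hab t
  rintro q ⟨v, hv, rfl⟩
  exact hle (unip_le_closure hv)

end Cfsg.Agent.H9PF
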