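import Mathlib
import Cfsg.Prelude
import Cfsg.Agent.Lib.Helper5.SLnNorm
import Cfsg.Agent.Lib.Helper9.PSLFus6
import Cfsg.Agent.Lib.Helper9.PSLFus7

set_option autoImplicit false

/-!
# The fusion system of `PSL_n(F)`, `n ≥ 3`, in the defining characteristic is simple
-/

namespace Cfsg.Agent.H9PF

open Matrix Matrix.SpecialLinearGroup Cfsg.Agent.Lib.Helper5.SLnBN Cfsg.Agent.Lib.Helper5.SLnAut

variable {m : ℕ} {F : Type*} [Field F]

theorem transvection_pow {a b : Fin (m + 1)} (hab : a ≠ b) (s : F) (k : ℕ) :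
    (transvection hab s : SpecialLinearGroup (Fin (m + 1)) F) ^ k = transvection hab (k • s) := by
  induction k with
  | zero => rw [pow_zero, zero_nsmul, transvection_coeff_zero]
  | succ k ih => rw [pow_succ, ih, ← transvection_add, succ_nsmul]

theorem orderOf_piN_transvection (p : ℕ) [Fact p.Prime] [CharP F p] {a b : Fin (m + 1)}
    (hab : a ≠ b) (s : F) :
    ∃ j : ℕ, orderOf (piN (transvection hab s : SpecialLinearGroup (Fin (m + 1)) F)) = p ^ j := by
  have h1 : (piN (transvection hab s : SpecialLinearGroup (Fin (m + 1)) F)) ^ p = 1 := by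
    rw [← map_pow, transvection_pow, nsmul_eq_mul, CharP.cast_eq_zero, zero_mul,
      transvection_coeff_zero, map_one]
  have h2 := orderOf_dvd_of_pow_eq_one h1
  rcases (Nat.dvd_prime (Fact.out : p.Prime)).mp h2 with h3 | h3
  · exact ⟨0, by rw [h3, pow_zero]⟩
  · exact ⟨1, by rw [h3, pow_one]⟩

theorem central_eq_one (p : ℕ) [Fact p.Prime] [CharP F p]
    {c : SpecialLinearGroup (Fin (m + 1)) F}
    (hc : c ∈ Subgroup.center (SpecialLinearGroup (Fin (m + 1)) F)) {k : ℕ}
    (hk : c ^ (p ^ k) = 1) : c = 1 := by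
  rw [Matrix.SpecialLinearGroup.mem_center_iff] at hc
  obtain ⟨μ, -, hμ⟩ := hc
  have h1 := congrArg (fun x : SpecialLinearGroup (Fin (m + 1)) F =>
    (x : Matrix (Fin (m + 1)) (Fin (m + 1)) F) 0 0) hk
  simp only [Matrix.SpecialLinearGroup.coe_pow, Matrix.SpecialLinearGroup.coe_one] at h1
  rw [← hμ, ← map_pow, Matrix.scalar_apply, Matrix.diagonal_apply_eq, Matrix.one_apply_eq] at h1
  have h2 : (μ - 1) ^ (p ^ k) = 0 := by
    rw [sub_pow_char_pow, h1, one_pow, sub_self]
  have h3 : μ = 1 := sub_eq_zero.mp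
    ((pow_eq_zero_iff (pow_ne_zero k (Fact.out : p.Prime).ne_zero)).mp h2)
  apply Subtype.ext
  rw [← hμ, h3, Matrix.SpecialLinearGroup.coe_one, map_one]

section fin

variable [Fintype F]

theorem isPGroup_unip {p f : ℕ} [Fact p.Prime] (hF : Fintype.card F = p ^ f) :
    IsPGroup p (unip (m + 1) F) :=
  IsPGroup.of_card (n := f * ((m + 1) * (m + 1 - 1) / 2)) (by rw [card_unip, hF, pow_mul])

/-- the image in `PSL_n(F)` of the radical of a minimal parabolic subgroup contains its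
centraliser -/
theorem cent_Rbar {p f : ℕ} [Fact p.Prime] [CharP F p] (hF : Fintype.card F = p ^ f)
    (hm : 2 ≤ m) (i : Fin m) (x : ProjectiveSpecialLinearGroup (Fin (m + 1)) F)
    (hx : ∀ r ∈ (Rsub F i).map piN, x * r = r * x) : x ∈ (Rsub F i).map piN := by
  obtain ⟨y, rfl⟩ := piN_surjective x
  have hcomm : ∀ r₀ ∈ Rsub F i, y * r₀ = r₀ * y := by
    intro r₀ hr₀
    have h1 := hx (piN r₀) (Subgroup.mem_map_of_mem _ hr₀)
    rw [← map_mul, ← map_mul, piN_eq_iff] at h1
    obtain ⟨c, hc⟩ : ∃ c, c = (y * r₀)⁻¹ * (r₀ * y) := ⟨_, rfl⟩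
    rw [← hc] at h1
    have h2 : y⁻¹ * r₀ * y = r₀ * c := by rw [hc]; group
    obtain ⟨k, hk⟩ := (isPGroup_unip (m := m) hF) ⟨r₀, Rsub_le_unip i hr₀⟩
    have hk' : r₀ ^ (p ^ k) = 1 := by
      have := congrArg Subtype.val hk
      simpa using this
    have h3 : (y⁻¹ * r₀ * y) ^ (p ^ k) = 1 := by
      have e : y⁻¹ * r₀ * y = y⁻¹ * r₀ * y⁻¹⁻¹ := by rw [inv_inv]
      rw [e, conj_pow, hk', mul_one, mul_inv_cancel]
    have h4 : Commute r₀ c := Subgroup.mem_center_iff.mp h1 r₀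
    rw [h2, h4.mul_pow, hk', one_mul] at h3
    have h5 := central_eq_one p h1 h3
    rw [h5, mul_one] at h2
    calc y * r₀ = y * (y⁻¹ * r₀ * y) := by rw [h2]
      _ = r₀ * y := by group
  obtain ⟨z, hz, u, hu, rfl⟩ := cent_Rsub hm i hcomm
  refine ⟨u, hu, ?_⟩
  rw [map_mul, (piN_eq_one_iff z).mpr hz, mul_one]

theorem psl_simple {p f : ℕ} [Fact p.Prime] [CharP F p] (hf : 1 ≤ f)
    (hF : Fintype.card F = p ^ f) (hm : 2 ≤ m)
    (S : Sylow p (ProjectiveSpecialLinearGroup (Fin (m + 1)) F)) :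
    (Cfsg.groupFusionSystem (S : Subgroup (ProjectiveSpecialLinearGroup (Fin (m + 1)) F))).IsSimple p := by
  obtain ⟨P₀, hP₀⟩ : ∃ P₀ : Sylow p (ProjectiveSpecialLinearGroup (Fin (m + 1)) F),
      (P₀ : Subgroup (ProjectiveSpecialLinearGroup (Fin (m + 1)) F)) = unipBar (m + 1) F :=
    ⟨(isPGroup_unipBar hF).toSylow (not_dvd_index_unipBar hf hF (by omega)),
      IsPGroup.toSylow_coe _ _⟩
  obtain ⟨i₀, hi₀⟩ : ∃ i₀ : Fin m, i₀ = ⟨0, by omega⟩ := ⟨_, rfl⟩
  have hRle : ∀ i : Fin m, (Rsub F i).map piN ≤ unipBar (m + 1) F := fun i =>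
    Subgroup.map_mono (Rsub_le_unip i)
  apply simple_of_data p P₀ _ _ (piN '' borelGens m F) _ _ S
  · rw [hP₀]
    intro hb
    have h1 : rootBar (castSucc_ne_succ i₀) (1 : F) ∈ unipBar (m + 1) F :=
      rootBar_mem_unipBar Fin.castSucc_lt_succ 1
    rw [hb, Subgroup.mem_bot, rootBar_eq_one_iff] at h1
    exact one_ne_zero h1
  · rw [hP₀]
    exact unipBar_le_of_closed hm hF
  · rw [hP₀, normalizer_unipBar (by omega)]
    unfold borelBar
    rw [← MonoidHom.map_closure]
    exact Subgroup.map_mono borel_le_closure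
  · rintro _ ⟨g, hg, rfl⟩
    rw [hP₀]
    rcases hg with hg | ⟨i, t, rfl⟩
    · have hgS : piN g ∈ unipBar (m + 1) F := piN_mem_unipBar hg
      refine ⟨Subgroup.le_normalizer hgS, unipBar (m + 1) F, le_rfl, ?_, ?_⟩
      · intro x hx
        apply hRle i₀
        apply cent_Rbar hF hm i₀ x
        intro r hr
        exact hx r (hRle i₀ hr)
      · apply Subgroup.subset_closure
        refine ⟨Subgroup.le_normalizer hgS, ?_⟩
        obtain ⟨k, hk⟩ := (IsPGroup.iff_orderOf.mp (isPGroup_unipBar hF)) ⟨piN g, hgS⟩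
        exact ⟨k, by rw [← hk, Subgroup.orderOf_mk]⟩
    · refine ⟨borelBar_le_normalizer (piN_mem_borelBar.mpr (hEl_mem_borel i t)),
        (Rsub F i).map piN, hRle i, cent_Rbar hF hm i, ?_⟩
      have hgen : ∀ {a b : Fin (m + 1)} (hab : a ≠ b) (s : F),
          (transvection hab s : SpecialLinearGroup (Fin (m + 1)) F) ∈ btSub F (blk i) →
          piN (transvection hab s : SpecialLinearGroup (Fin (m + 1)) F) ∈
            Subgroup.closure {k : ProjectiveSpecialLinearGroup (Fin (m + 1)) F |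
              k ∈ Subgroup.normalizer (((Rsub F i).map piN : Subgroup _) : Set _) ∧
              ∃ j : ℕ, orderOf k = p ^ j} := by
        intro a b hab s hmem
        apply Subgroup.subset_closure
        refine ⟨?_, orderOf_piN_transvection p hab s⟩
        apply Subgroup.le_normalizer_map piN
        exact Subgroup.mem_map_of_mem _ (btSub_le_normalizer (blk i) hmem)
      rw [hEl_eq]
      simp only [map_mul, map_inv]
      have hx := fun s => hgen (castSucc_ne_succ i) s (x_mem_btSub i s)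
      have hy := fun s => hgen (castSucc_ne_succ i).symm s (y_mem_btSub i s)
      exact Subgroup.mul_mem _ (Subgroup.mul_mem _ (Subgroup.mul_mem _ (hx _) (hy _)) (hx _))
        (Subgroup.inv_mem _ (Subgroup.mul_mem _ (Subgroup.mul_mem _ (hx _) (hy _)) (hx _)))

end fin

end Cfsg.Agent.H9PF
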