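import Mathlib
import Cfsg.Agent.Lib.Helper2.DSubP9
import Cfsg.Agent.Lib.Helper9.PSLMax1

set_option autoImplicit false
set_option linter.unusedSectionVars false

/-!
# Sylow `p`-subgroups of `PSL₂(q)` are TI; maximal subgroups with a normal `p`-subgroup
-/

namespace Cfsg.Agent.Lib.Helper9.H9PM

open Matrix OnePoint MulAction Cfsg.Agent.Lib.Helper2 Cfsg.Agent.Lib.Helper2.DSub
open scoped MatrixGroups

section aux

variable {F : Type*} [Field F] (L : Type*) [Field L] [DecidableEq L] [Algebra F L]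

attribute [local instance] pglAct pslAct finite_psl

variable [IsAlgClosed L] [Fintype F]

theorem sylow_TI_aux (p : ℕ) [hp : Fact p.Prime] [CharP L p] [CharP F p]
    (P P' : Sylow p (ProjectiveSpecialLinearGroup (Fin 2) F))
    (g : ProjectiveSpecialLinearGroup (Fin 2) F) (hg1 : g ≠ 1) (hg : g ∈ P) (hg' : g ∈ P') :
    P = P' := by
  obtain ⟨x, g₀, -, hPQ, -⟩ := sylow_eq_Q (L := L) p P
  obtain ⟨x', g₀', -, hPQ', -⟩ := sylow_eq_Q (L := L) p P'
  have h1 : g ∈ Q (mobG (F := F) (L := L)) x := by rw [← hPQ]; exact hg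
  have h2 : g ∈ Q (mobG (F := F) (L := L)) x' := by rw [← hPQ']; exact hg'
  have h1' : IsPar g x := by
    rcases h1 with h | h
    · exact absurd h hg1
    · exact h
  have h2' : IsPar g x' := by
    rcases h2 with h | h
    · exact absurd h hg1
    · exact h
  have hxx : x = x' := h1'.unique h2'
  apply Sylow.ext
  rw [hPQ, hPQ', hxx]

end aux

variable {F : Type*} [Field F] [Fintype F]

/-- distinct Sylow `p`-subgroups of `PSL₂(q)` intersect trivially -/
theorem sylow_TI (p : ℕ) [hp : Fact p.Prime] [CharP F p]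
    (P P' : Sylow p (ProjectiveSpecialLinearGroup (Fin 2) F))
    (g : ProjectiveSpecialLinearGroup (Fin 2) F) (hg1 : g ≠ 1) (hg : g ∈ P) (hg' : g ∈ P') :
    P = P' := by
  classical
  haveI : CharP (AlgebraicClosure F) p :=
    charP_of_injective_algebraMap (algebraMap F (AlgebraicClosure F)).injective p
  exact sylow_TI_aux (AlgebraicClosure F) p P P' g hg1 hg hg'

/-- a maximal subgroup normalising a nontrivial `p`-subgroup is a Sylow normaliser -/
theorem coatom_eq_normalizer_sylow (p : ℕ) [hp : Fact p.Prime] [CharP F p]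
    (M : Subgroup (ProjectiveSpecialLinearGroup (Fin 2) F)) (hM : IsCoatom M)
    (V : Subgroup (ProjectiveSpecialLinearGroup (Fin 2) F)) (hV : IsPGroup p V) (hV1 : V ≠ ⊥)
    (hMV : M ≤ Subgroup.normalizer (V : Set (ProjectiveSpecialLinearGroup (Fin 2) F))) :
    ∃ P : Sylow p (ProjectiveSpecialLinearGroup (Fin 2) F),
      M = Subgroup.normalizer ((P : Subgroup (ProjectiveSpecialLinearGroup (Fin 2) F)) :
        Set (ProjectiveSpecialLinearGroup (Fin 2) F)) := by
  haveI := finite_psl (F := F)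
  obtain ⟨P, hP⟩ := hV.exists_le_sylow
  refine ⟨P, ?_⟩
  obtain ⟨v, hv, hv1⟩ := (Subgroup.ne_bot_iff_exists_ne_one).mp hV1 |>.choose_spec |> fun h =>
    (⟨_, (Subgroup.ne_bot_iff_exists_ne_one.mp hV1).choose.2, fun h' =>
      (Subgroup.ne_bot_iff_exists_ne_one.mp hV1).choose_spec (Subtype.ext h')⟩ :
      ∃ v : ProjectiveSpecialLinearGroup (Fin 2) F, v ∈ V ∧ v ≠ 1)
  have hle : M ≤ Subgroup.normalizer ((P : Subgroup (ProjectiveSpecialLinearGroup (Fin 2) F)) :
        Set (ProjectiveSpecialLinearGroup (Fin 2) F)) := by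
    intro m hm
    refine Sylow.smul_eq_iff_mem_normalizer.mp ?_
    have hmv : m⁻¹ * v * m ∈ V := by
      have := hMV (M.inv_mem hm)
      rw [Subgroup.mem_normalizer_iff] at this
      have h2 := (this v).mp hv
      rwa [inv_inv] at h2
    symm
    apply sylow_TI p P (m • P) v hv1 (hP hv)
    have h0 : v ∈ ((m • P : Sylow p (ProjectiveSpecialLinearGroup (Fin 2) F)) :
        Subgroup (ProjectiveSpecialLinearGroup (Fin 2) F)) := by
      rw [Sylow.coe_subgroup_smul]
      refine ⟨m⁻¹ * v * m, hP hmv, ?_⟩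
      change m * (m⁻¹ * v * m) * m⁻¹ = v
      group
    exact h0
  rcases hM.le_iff.mp hle with h | h
  · exfalso
    obtain ⟨-, hidx, -, -⟩ := sylow_psl_facts p P
    rw [h, Subgroup.index_top] at hidx
    have : 2 ≤ Fintype.card F := Fintype.one_lt_card
    omega
  · exact h.symm

end Cfsg.Agent.Lib.Helper9.H9PM
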