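import Mathlib
import Cfsg.Agent.S0811
import Cfsg.Agent.S0812
import Cfsg.Agent.Lib.Helper2.DSubM3
import Cfsg.Agent.Lib.Helper9.PSLMax2
import Cfsg.Agent.Lib.Helper9.PSLMax3
import Cfsg.Agent.Lib.Helper9.PSLMax8
import Cfsg.Agent.Lib.Helper9.PSLMax9

set_option autoImplicit false
set_option linter.unusedSectionVars false

/-!
# Maximal subgroups of `PSL₂(2ⁿ)`: the cases
-/

namespace Cfsg.Agent.Lib.Helper9.H9PM

open Matrix Cfsg.Agent.Lib.Helper2 Cfsg.Agent.Lib.Helper2.DSub
open scoped MatrixGroups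

variable {F : Type*} [Field F] [Fintype F] [CharP F 2]

theorem card_psl_even :
    Nat.card (ProjectiveSpecialLinearGroup (Fin 2) F) =
      Fintype.card F * (Fintype.card F - 1) * (Fintype.card F + 1) := by
  have := card_psl_two (F := F)
  rw [gcd_two_of_even (F := F) CharTwo.two_eq_zero, one_mul] at this
  exact this

theorem simple_psl (h4 : 4 ≤ Fintype.card F) :
    IsSimpleGroup (ProjectiveSpecialLinearGroup (Fin 2) F) :=
  Matrix.ProjectiveSpecialLinearGroup.rank_two_simple
    (by rw [Nat.card_eq_fintype_card]; exact h4)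

/-- a maximal subgroup inside a Sylow normaliser -/
theorem borel_case (M : Subgroup (ProjectiveSpecialLinearGroup (Fin 2) F)) (hM : IsCoatom M)
    (P : Sylow 2 (ProjectiveSpecialLinearGroup (Fin 2) F))
    (hle : M ≤ Subgroup.normalizer ((P : Subgroup (ProjectiveSpecialLinearGroup (Fin 2) F)) :
      Set (ProjectiveSpecialLinearGroup (Fin 2) F))) :
    Nat.card M = Fintype.card F * (Fintype.card F - 1) := by
  obtain ⟨-, hidx, hN, -⟩ := sylow_psl_facts 2 P
  rw [gcd_two_of_even (F := F) CharTwo.two_eq_zero, one_mul] at hN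
  rcases hM.le_iff.mp hle with h | h
  · exfalso
    rw [h, Subgroup.index_top] at hidx
    have : 2 ≤ Fintype.card F := Fintype.one_lt_card
    omega
  · rw [← h]; exact hN

/-- a maximal subgroup with a nontrivial normal `2`-subgroup -/
theorem normal_two_case (M : Subgroup (ProjectiveSpecialLinearGroup (Fin 2) F))
    (hM : IsCoatom M) (V : Subgroup M) (hVn : V.Normal) (hV2 : IsPGroup 2 V) (hV1 : V ≠ ⊥) :
    Nat.card M = Fintype.card F * (Fintype.card F - 1) := by
  set VG : Subgroup (ProjectiveSpecialLinearGroup (Fin 2) F) := V.map M.subtype with hVG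
  have h1 : IsPGroup 2 VG := hV2.map M.subtype
  have h2 : VG ≠ ⊥ := by
    intro h
    apply hV1
    rw [hVG] at h
    exact (Subgroup.map_eq_bot_iff_of_injective _ M.subtype_injective).mp h
  have h3 : M ≤ Subgroup.normalizer (VG : Set (ProjectiveSpecialLinearGroup (Fin 2) F)) := by
    intro m hm
    rw [Subgroup.mem_normalizer_iff]
    intro h
    constructor
    · rintro ⟨v, hv, rfl⟩
      exact ⟨⟨m, hm⟩ * v * ⟨m, hm⟩⁻¹, hVn.conj_mem v hv ⟨m, hm⟩, rfl⟩
    · rintro ⟨w, hw, hw'⟩
      refine ⟨⟨m, hm⟩⁻¹ * w * ⟨m, hm⟩, ?_, ?_⟩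
      · have := hVn.conj_mem w hw ⟨m, hm⟩⁻¹
        rwa [inv_inv] at this
      · show m⁻¹ * (M.subtype w) * m = h
        rw [hw']
        group
  obtain ⟨P, hP⟩ := coatom_eq_normalizer_sylow 2 M hM VG h1 h2 h3
  exact borel_case M hM P (le_of_eq hP)

/-- the dihedral case -/
theorem dihedral_case (h4 : 4 ≤ Fintype.card F)
    (M : Subgroup (ProjectiveSpecialLinearGroup (Fin 2) F)) (hM : IsCoatom M) (k : ℕ)
    (hk : k ∣ Fintype.card F + 1 ∨ k ∣ Fintype.card F - 1) (e : M ≃* DihedralGroup k) :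
    Nonempty (M ≃* DihedralGroup (Fintype.card F - 1)) ∨
      Nonempty (M ≃* DihedralGroup (Fintype.card F + 1)) := by
  classical
  haveI := finite_psl (F := F)
  haveI := simple_psl h4
  have hna := psl_not_comm h4
  set q := Fintype.card F with hq
  have hev : q % 2 = 0 := FiniteField.even_card_of_char_two (ringChar.eq F 2)
  have hgcd := gcd_two_of_even (F := F) CharTwo.two_eq_zero
  have hk0 : k ≠ 0 := by
    rintro rfl
    rcases hk with h | h <;> rw [zero_dvd_iff] at h <;> omega
  have hkodd : k % 2 = 1 := by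
    by_contra hcon
    have h2 : 2 ∣ k := Nat.dvd_of_mod_eq_zero (by omega)
    rcases hk with h | h
    · obtain ⟨w, hw⟩ := h2.trans h; omega
    · obtain ⟨w, hw⟩ := h2.trans h; omega
  have hcardM : Nat.card M = 2 * k := by
    rw [Nat.card_congr e.toEquiv, DihedralGroup.nat_card]
  by_cases hk1 : k = 1
  · exfalso
    subst hk1
    haveI : Fact (Nat.Prime 2) := ⟨Nat.prime_two⟩
    haveI : IsCyclic M := isCyclic_of_prime_card (p := 2) (by rw [hcardM])
    letI := IsCyclic.commGroup (α := M)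
    apply no_abelian_coatom hna M hM
    intro a ha b hb
    exact congrArg Subtype.val (mul_comm (⟨a, ha⟩ : M) ⟨b, hb⟩)
  have hk3 : 3 ≤ k := by omega
  set r₀ := k.minFac with hr₀
  have hr₀p : r₀.Prime := Nat.minFac_prime hk1
  haveI : Fact r₀.Prime := ⟨hr₀p⟩
  have hr₀k : r₀ ∣ k := Nat.minFac_dvd k
  have hr₀2 : r₀ ≠ 2 := by
    intro h
    rw [h] at hr₀k
    obtain ⟨w, hw⟩ := hr₀k
    omega
  have hG := card_psl_even (F := F)
  have hq1 : 1 ≤ q - 1 := by omega
  rcases hk with hk | hk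
  · right
    obtain ⟨H, -, ⟨eH⟩⟩ := Cfsg.Agent.S0811.result (F := F) (q := q) rfl (by
      simp only [Finset.mem_insert, Finset.mem_singleton]
      omega)
    rw [hgcd, Nat.div_one] at eH
    obtain ⟨T, hTab, hTcard⟩ := exists_abelian_of_dihedral H (q + 1) eH
    have hTidx : T.index = q * (q - 1) := by
      have := T.card_mul_index
      rw [hTcard, hG] at this
      have h5 : (q + 1) * T.index = (q + 1) * (q * (q - 1)) := by rw [this]; ring
      exact Nat.eq_of_mul_eq_mul_left (by omega) h5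
    have hTr : ¬ r₀ ∣ T.index := by
      rw [hTidx]
      intro hd
      have hr1 : r₀ ∣ q + 1 := hr₀k.trans hk
      rcases (Nat.Prime.dvd_mul hr₀p).mp hd with h | h
      · have := (Nat.dvd_sub hr1 h)
        rw [Nat.add_sub_cancel_left] at this
        exact hr₀p.one_lt.ne' (Nat.dvd_one.mp this)
      · have h6 : r₀ ∣ (q + 1) - (q - 1) := Nat.dvd_sub hr1 h
        have h7 : (q + 1) - (q - 1) = 2 := by omega
        rw [h7] at h6
        exact hr₀2 ((Nat.prime_dvd_prime_iff_eq hr₀p Nat.prime_two).mp h6)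
    have hdvd := dihedral_coatom_dvd M hM k e r₀ hr₀k T hTab hTr
    rw [hTcard, hcardM] at hdvd
    have hcop : Nat.Coprime (q + 1) 2 := by
      rw [Nat.coprime_comm, Nat.Prime.coprime_iff_not_dvd Nat.prime_two]
      rintro ⟨w, hw⟩
      omega
    have hkq : k = q + 1 := Nat.dvd_antisymm hk (hcop.dvd_of_dvd_mul_left hdvd)
    subst hkq
    exact ⟨e⟩
  · left
    obtain ⟨H, -, ⟨eH⟩⟩ := Cfsg.Agent.S0812.result (F := F) (q := q) rfl (by
      simp only [Finset.mem_insert, Finset.mem_singleton]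
      omega)
    rw [hgcd, Nat.div_one] at eH
    obtain ⟨T, hTab, hTcard⟩ := exists_abelian_of_dihedral H (q - 1) eH
    have hTidx : T.index = q * (q + 1) := by
      have := T.card_mul_index
      rw [hTcard, hG] at this
      have h5 : (q - 1) * T.index = (q - 1) * (q * (q + 1)) := by rw [this]; ring
      exact Nat.eq_of_mul_eq_mul_left (by omega) h5
    have hTr : ¬ r₀ ∣ T.index := by
      rw [hTidx]
      intro hd
      have hr1 : r₀ ∣ q - 1 := hr₀k.trans hk
      rcases (Nat.Prime.dvd_mul hr₀p).mp hd with h | h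
      · have h6 : r₀ ∣ q - (q - 1) := Nat.dvd_sub h hr1
        have h7 : q - (q - 1) = 1 := by omega
        rw [h7] at h6
        exact hr₀p.one_lt.ne' (Nat.dvd_one.mp h6)
      · have h6 : r₀ ∣ (q + 1) - (q - 1) := Nat.dvd_sub h hr1
        have h7 : (q + 1) - (q - 1) = 2 := by omega
        rw [h7] at h6
        exact hr₀2 ((Nat.prime_dvd_prime_iff_eq hr₀p Nat.prime_two).mp h6)
    have hdvd := dihedral_coatom_dvd M hM k e r₀ hr₀k T hTab hTr
    rw [hTcard, hcardM] at hdvd
    have hcop : Nat.Coprime (q - 1) 2 := by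
      rw [Nat.coprime_comm, Nat.Prime.coprime_iff_not_dvd Nat.prime_two]
      rintro ⟨w, hw⟩
      omega
    have hkq : k = q - 1 := Nat.dvd_antisymm hk (hcop.dvd_of_dvd_mul_left hdvd)
    subst hkq
    exact ⟨e⟩

/-- the subfield case -/
theorem subfield_case_psl (M : Subgroup (ProjectiveSpecialLinearGroup (Fin 2) F))
    (hM : IsCoatom M) {K : Type*} [Field K] [Fintype K] [CharP K 2]
    (e : M ≃* ProjectiveSpecialLinearGroup (Fin 2) K) :
    ∃ r : ℕ, r.Prime ∧ Fintype.card F = Fintype.card K ^ r := by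
  classical
  have h2F : (2 : F) = 0 := CharTwo.two_eq_zero
  set ψ := pslEquivPGL (F := F) h2F with hψ
  have hS₀ := isCoatom_map_equiv ψ M hM
  have e₀ : ↥(M.map ψ.toMonoidHom) ≃* M :=
    (M.equivMapOfInjective ψ.toMonoidHom ψ.injective).symm
  exact subfield_coatom_pgl (M.map ψ.toMonoidHom) hS₀ (e₀.trans e)

end Cfsg.Agent.Lib.Helper9.H9PM
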