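import Mathlib
import Cfsg.Prelude.Def_FusionSystem
import Cfsg.Prelude.Def_Local
import Cfsg.Agent.Lib.Helper9.PSolvReal1
import Cfsg.Agent.Lib.Helper9.ModelUniq3
import Cfsg.Agent.Lib.Helper9.Realize4
import Cfsg.Agent.S5103
import Cfsg.Agent.Lib.Helper4.HallHigman
import Cfsg.Agent.Lib.Helper4.SolvBalance
import Cfsg.Agent.Lib.Helper7.PSolvable
import Cfsg.Agent.Lib.Helper2.SL2PSolv
import Cfsg.Agent.Lib.Lead.SolvPSolv
import Cfsg.Agent.Lib.Helper6.PPrimeCore

set_option autoImplicit false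

/-!
# Realizability by `p`-solvable groups
-/

namespace Cfsg.Agent.H9PSR

open Cfsg Cfsg.FusionSystem Cfsg.Agent.Lib.Helper9 Cfsg.Agent.H9MT

universe u
variable {Ω : Type u} [Group Ω] {S : Subgroup Ω}

/-- In a model, `Aut_F(O_p(F))` is `p`-solvable iff the model is. -/
theorem model_psolv_iff [Finite S] (p : ℕ) [Fact p.Prime] (hS : IsPGroup p S) (F : FusionSystem S)
    {G : Type u} [Group G] (ι : S →* G) (hG : F.IsModel p G ι) :
    IsPSolvable p G ↔ IsPSolvable p (F.autGroup F.core) := by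
  obtain ⟨hfin, hι, ⟨T, hT⟩, hcent⟩ := hG
  haveI := hfin
  obtain ⟨hnorm, hcentR⟩ := Cfsg.Agent.H9MU.core_image_facts p F ι hι T hT hcent
  haveI := hnorm
  have hcoreS : F.core ≤ S := (Cfsg.Agent.S5145.result F).1
  have hrange := actHom_range F ι hι hcoreS
  have hker := actHom_ker ι hι.1 hcoreS
  obtain ⟨f, hf⟩ : ∃ f, f = actHom ι hι.1 hcoreS := ⟨_, rfl⟩
  rw [← hf] at hrange hker
  rw [← hrange]
  constructor
  · intro h
    exact Cfsg.Agent.Lib.Helper2.SL2Sections.isPSolvable_of_surj f.rangeRestrict f.rangeRestrict_surjective h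
  · intro h
    have hq : IsPSolvable p (G ⧸ f.ker) :=
      Cfsg.Agent.Lib.Helper2.SL2Sections.isPSolvable_of_surj
        (QuotientGroup.quotientKerEquivRange f).symm.toMonoidHom
        (QuotientGroup.quotientKerEquivRange f).symm.surjective h
    have hkp : IsPGroup p f.ker := by
      rw [hker]
      exact ((hS.to_subgroup _).map ι).to_le hcentR
    refine Cfsg.Agent.Lib.Lead.SolvPSolv.isPSolvable_of_quotient f.ker (Or.inl ?_) hq
    exact (IsPGroup.iff_card.mp hkp)

end Cfsg.Agent.H9PSR
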