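import Mathlib
import Cfsg.Prelude.Def_FusionSystem
import Cfsg.Prelude.Def_Local
import Cfsg.Prelude.Def_CaseTheorems
import Cfsg.Agent.Lib.Helper9.PSolvReal2

set_option autoImplicit false

/-!
# Realizability by `p`-solvable groups (main equivalence, modulo existence of models)
-/

namespace Cfsg.Agent.H9PSR

open Cfsg Cfsg.FusionSystem Cfsg.Agent.Lib.Helper9 Cfsg.Agent.H9MT

universe u
variable {Ω : Type u} [Group Ω] {S : Subgroup Ω}

theorem psolv_realizable_iff [Finite S] (p : ℕ) [Fact p.Prime] (hS : IsPGroup p S) (F : FusionSystem S)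
    (hmodel : F.IsConstrained p → ∃ (G : Type u) (_ : Group G) (ι : S →* G), F.IsModel p G ι) :
    (∃ (G : Type u) (_ : Group G) (_ : Finite G) (ι : S →* G), Cfsg.IsPSolvable p G ∧ F.IsRealizedBy ι ∧
        ∃ T : Sylow p G, (T : Subgroup G) = ι.range) ↔
      (F.IsConstrained p ∧ Cfsg.IsPSolvable p ↥(F.autGroup F.core)) := by
  constructor
  · rintro ⟨G, hG, hfin, ι, hsolv, hι, T, hT⟩
    obtain ⟨hι', T', hT'⟩ := realized_quotient F ι hι T hT (pPrimeCore p G)
      (Cfsg.Agent.Lib.Helper6.pPrimeCore_coprime p)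
    have hsolv' : IsPSolvable p (G ⧸ pPrimeCore p G) :=
      Cfsg.Agent.Lib.Helper7.isPSolvable_quotient hsolv _
    have hcent := Cfsg.Agent.Lib.Helper4.centralizer_pCore_le_of_isPSolvable hsolv'
      (Cfsg.Agent.Lib.Helper4.pPrimeCore_quotient_self p)
    have hmod : F.IsModel p (G ⧸ pPrimeCore p G) ((QuotientGroup.mk' (pPrimeCore p G)).comp ι) :=
      ⟨inferInstance, hι', ⟨T', hT'⟩, hcent⟩
    exact ⟨Cfsg.Agent.S5103.result p hS F _ hmod, (model_psolv_iff p hS F _ hmod).mp hsolv'⟩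
  · rintro ⟨hc, hsolv⟩
    obtain ⟨G, hG, ι, hmod⟩ := hmodel hc
    have := (model_psolv_iff p hS F ι hmod).mpr hsolv
    exact ⟨G, hG, hmod.1, ι, this, hmod.2.1, hmod.2.2.1⟩

end Cfsg.Agent.H9PSR
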