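import Mathlib
import Cfsg.Prelude.Def_FusionSystem
import Cfsg.Agent.Lib.Helper9.NormSys1
import Cfsg.Agent.Lib.Helper9.Radical1
import Cfsg.Agent.Lib.Helper9.LargeExtra13
import Cfsg.Agent.Lib.Helper9.FusionSat1

set_option autoImplicit false

namespace Cfsg.Agent.H9PS

open Cfsg Cfsg.FusionSystem Cfsg.Agent.Lib.Helper9 Cfsg.Agent.Lib.Helper9.LargeExtra

variable {Ω : Type*} [Group Ω] {S : Subgroup Ω}

/-- The quadratic-action condition used in the definition of `p`-stability. -/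
def Quad {Q : Type*} [Group Q] (χ : MulAut Q) : Prop :=
  ∀ a : Q, (χ a⁻¹) * a * (χ a⁻¹) * (χ (χ a)) = 1

/-- The `p`-stability condition for a fusion system, as used in the statements. -/
def PStable (p : ℕ) {T : Subgroup Ω} (E : FusionSystem T) : Prop :=
  ∀ Q : Subgroup Ω, E.IsFullyNormalized Q → ∀ χ : MulAut ↥Q, χ ∈ E.autGroup Q → Quad χ →
    χ ∈ ((Cfsg.pCore p ↥(E.autGroup Q)).map (E.autGroup Q).subtype : Subgroup (MulAut ↥Q))

theorem quad_pow_apply {Q : Type*} [Group Q] (hc : ∀ a b : Q, a * b = b * a) (χ : MulAut Q) (hχ : Quad χ)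
    (a : Q) (k : ℕ) : (χ ^ k) a = a * (χ a * a⁻¹) ^ k := by
  have hfix : χ (χ a * a⁻¹) = χ a * a⁻¹ := by
    have h := hχ a
    rw [map_mul, map_inv]
    have h2 : χ (χ a) = χ a * a⁻¹ * χ a := by
      have h3 : (χ a⁻¹) * a * (χ a⁻¹) * (χ (χ a)) = 1 := h
      rw [map_inv] at h3
      have h4 : χ (χ a) = ((χ a)⁻¹ * a * (χ a)⁻¹)⁻¹ := by
        rw [eq_comm, inv_eq_iff_mul_eq_one]
        exact h3
      rw [h4]
      rw [mul_inv_rev, mul_inv_rev, inv_inv]
      rw [mul_assoc]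
    rw [h2]
    rw [mul_assoc, mul_inv_cancel, mul_one]
  induction k with
  | zero => simp
  | succ k ih =>
    rw [pow_succ', MulAut.mul_apply, ih, map_mul, map_pow, hfix, pow_succ]
    rw [hc (χ a) a⁻¹, ← mul_assoc, ← mul_assoc]
    have : χ a * (a⁻¹ * χ a) ^ k = a * (a⁻¹ * χ a) ^ k * a⁻¹ * χ a := by
      rw [hc (a * (a⁻¹ * χ a) ^ k) a⁻¹, ← mul_assoc, inv_mul_cancel, one_mul, hc]
    rw [this]

theorem quad_pow_card {Q : Type*} [Group Q] [Finite Q] (hc : ∀ a b : Q, a * b = b * a) (χ : MulAut Q)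
    (hχ : Quad χ) : χ ^ Nat.card Q = 1 := by
  ext a
  rw [quad_pow_apply hc χ hχ, pow_card_eq_one', mul_one]
  rfl

/-- In a commutative subgroup, `p`-elements lie in the `p`-core. -/
theorem mem_pCoreMap_of_comm {G : Type*} [Group G] (p : ℕ) [Fact p.Prime] (A : Subgroup G)
    (hA : ∀ a ∈ A, ∀ b ∈ A, a * b = b * a) {x : G} (hx : x ∈ A) {n : ℕ} (hxn : x ^ (p ^ n) = 1) :
    x ∈ (Cfsg.pCore p ↥A).map A.subtype := by
  have hle : Subgroup.zpowers x ≤ A := by
    rw [Subgroup.zpowers_le]; exact hx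
  have hp : IsPGroup p (Subgroup.zpowers x) := by
    rintro ⟨_, ⟨k, rfl⟩⟩
    refine ⟨n, ?_⟩
    apply Subtype.ext
    show (x ^ k) ^ (p ^ n) = 1
    rw [← zpow_natCast, ← zpow_mul, mul_comm, zpow_mul, zpow_natCast, hxn, one_zpow]
  refine le_pCoreMap p A (Subgroup.zpowers x) hle hp ?_ (Subgroup.mem_zpowers x)
  intro h hh y hy
  have := hA h hh y (hle hy)
  rw [this, mul_assoc, mul_inv_cancel, mul_one]
  exact hy

theorem mulAut_comm_of_isCyclic {Q : Type*} [Group Q] [IsCyclic Q] (α β : MulAut Q) : α * β = β * α := by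
  apply (IsCyclic.mulAutMulEquiv Q).injective
  rw [map_mul, map_mul, mul_comm]

/-- `O_p(K) ∩ H ≤ O_p(H)` for `H ≤ K`. -/
theorem pCoreMap_inf_le {G : Type*} [Group G] [Finite G] (p : ℕ) [Fact p.Prime] {H K : Subgroup G} (hHK : H ≤ K) :
    (Cfsg.pCore p ↥K).map K.subtype ⊓ H ≤ (Cfsg.pCore p ↥H).map H.subtype := by
  apply le_pCoreMap p H _ inf_le_right
  · have h1 : IsPGroup p ((Cfsg.pCore p ↥K).map K.subtype) := (pCore_isPGroup' p).map _
    exact h1.to_le inf_le_left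
  · intro h hh x hx
    exact ⟨pCoreMap_conj_mem p K (hHK hh) hx.1, H.mul_mem (H.mul_mem hh hx.2) (H.inv_mem hh)⟩

/-- `p`-stability passes from fully normalized subgroups to all subgroups of `S`. -/
theorem PStable.all [Finite S] (p : ℕ) [Fact p.Prime] {F : FusionSystem S} (h : PStable p F) {Q : Subgroup Ω}
    (hQ : Q ≤ S) {χ : MulAut Q} (hχ : χ ∈ F.autGroup Q) (hq : Quad χ) :
    χ ∈ ((Cfsg.pCore p ↥(F.autGroup Q)).map (F.autGroup Q).subtype : Subgroup (MulAut ↥Q)) := by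
  obtain ⟨Q', hconj, hfn⟩ := fs_exists_fullyNormalized F hQ
  obtain ⟨e, he⟩ := exists_isFIso_of_isConj F hconj
  have h1 := h Q' hfn (MulAut.congr e χ) (he.congr_mem_autGroup hχ) ?_
  · rw [pCore_autGroup_transport F p e he, mem_trAut_iff] at h1
    have : MulAut.congr e.symm (MulAut.congr e χ) = χ := by
      ext x; simp [MulAut.congr]
    rwa [this] at h1
  · intro a
    have := hq (e.symm a)
    simp only [congr_apply]
    have h2 := congrArg e this
    simp only [map_mul, map_one, map_inv, MulEquiv.apply_symm_apply, MulEquiv.symm_apply_apply] at h2 ⊢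
    exact h2

theorem normalizerSystem_autGroup_le (F : FusionSystem S) {R : Subgroup Ω}
    (N : FusionSystem (normalizerIn S R)) (hN : F.IsNormalizerSystem R N) {Q : Subgroup Ω}
    (hQ : Q ≤ normalizerIn S R) : N.autGroup Q ≤ F.autGroup Q := by
  intro α hα
  rw [mem_autGroup_iff N hQ, hN] at hα
  rw [mem_autGroup_iff F (hQ.trans inf_le_left)]
  exact hα.1

end Cfsg.Agent.H9PS
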