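import Mathlib
import Cfsg.Prelude.Def_FusionSystem
import Cfsg.Agent.Lib.Helper9.PStab1
import Cfsg.Agent.Lib.Helper9.KNorm13
import Cfsg.Agent.Lib.Helper9.FusionAut2
import Cfsg.Agent.Lib.Helper9.FusionCentric
import Cfsg.Agent.Lib.Helper9.SatCrit13

set_option autoImplicit false

namespace Cfsg.Agent.H9PS

open Cfsg Cfsg.FusionSystem Cfsg.Agent.Lib.Helper9 Cfsg.Agent.Lib.Helper9.LargeExtra

variable {Ω : Type*} [Group Ω] {S : Subgroup Ω}

/-- Every automorphism of `Q` in the system extends to an automorphism of `P` in the system. -/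
def ExtProp (F : FusionSystem S) (Q P : Subgroup Ω) : Prop :=
  ∃ hQP : Q ≤ P, ∀ α ∈ F.autGroup Q, ∃ β ∈ F.autGroup P,
    ∀ x : Q, ((β ⟨x, hQP x.2⟩ : P) : Ω) = ((α x : Q) : Ω)

theorem ExtProp.trans {F : FusionSystem S} {Q P P' : Subgroup Ω} (h1 : ExtProp F Q P) (h2 : ExtProp F P P') :
    ExtProp F Q P' := by
  obtain ⟨hQP, H1⟩ := h1
  obtain ⟨hPP', H2⟩ := h2
  refine ⟨hQP.trans hPP', fun α hα => ?_⟩
  obtain ⟨β, hβ, Hβ⟩ := H1 α hα
  obtain ⟨γ, hγ, Hγ⟩ := H2 β hβ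
  refine ⟨γ, hγ, fun x => ?_⟩
  rw [← Hβ x, ← Hγ ⟨x, hQP x.2⟩]

theorem le_normK_of_inn_le {P : Subgroup Ω} (hPS : P ≤ S) (K : Subgroup (MulAut P)) (hInn : Inn P ≤ K) :
    P ≤ normK S P K := by
  intro x hx
  refine ⟨hPS hx, MulAut.conj (⟨x, hx⟩ : P), hInn ⟨_, rfl⟩, fun y => ?_⟩
  simp [MulAut.conj_apply]

/-- Extension of automorphisms of a receptive subgroup to its `K`-normalizer, for `K` normal in `Aut_F(P)`
and contained in `Aut_S(P)`. -/
theorem extProp_normK [Finite S] (F : FusionSystem S) {P : Subgroup Ω} (hPr : F.IsReceptive P)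
    (K : Subgroup (MulAut P)) (hInn : Inn P ≤ K) (hKS : K ≤ autInducedBy S P)
    (hKn : ∀ α ∈ F.autGroup P, ∀ κ ∈ K, α * κ * α⁻¹ ∈ K) : ExtProp F P (normK S P K) := by
  have hPS : P ≤ S := hPr.1
  have hPle : P ≤ normK S P K := le_normK_of_inn_le hPS K hInn
  refine ⟨hPle, fun α hα => ?_⟩
  have hαmem := hα
  rw [mem_autGroup_iff F hPS] at hα
  obtain ⟨φ, hφdef⟩ : ∃ φ : P →* Ω, φ = P.subtype.comp α.toMonoidHom := ⟨_, rfl⟩
  have hφapp : ∀ x : P, φ x = α x := by intro x; rw [hφdef]; rfl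
  rw [← hφdef] at hα
  have hrange : φ.range = P := by
    rw [hφdef]
    ext y
    constructor
    · rintro ⟨x, rfl⟩
      exact (α x).2
    · intro hy
      refine ⟨α.symm ⟨y, hy⟩, ?_⟩
      simp
  obtain ⟨ψ, hψ, Hψ⟩ := hPr.2 P φ hα hrange
  have hle : normK S P K ≤ extender S P φ := by
    rintro g ⟨hgS, κ, hκ, Hκ⟩
    rw [mem_extender_iff]
    refine ⟨hgS, mem_normalizer_of_induces κ g Hκ, ?_⟩
    have h1 := hKS (hKn α hαmem κ hκ)
    rw [mem_autInducedBy_iff] at h1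
    obtain ⟨h, hhS, Hh⟩ := h1
    refine ⟨h, hhS, fun x hx => ?_⟩
    have h2 := Hh (α x)
    simp only [MulAut.mul_apply, MulAut.inv_apply_self] at h2
    have h3 : (⟨g * (x : Ω) * g⁻¹, hx⟩ : P) = κ x := Subtype.ext (Hκ x).symm
    rw [h3, hφapp, hφapp]
    exact h2
  have hρ : ψ.comp (Subgroup.inclusion hle) ∈ F.Hom (normK S P K) := fs_restrict_mem F hψ hle
  have hψP : ∀ x : P, ψ ⟨x, hle (hPle x.2)⟩ = α x := by
    intro x
    rw [Hψ x x.2 (hle (hPle x.2)), hφapp]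
  have hval : ∀ y : normK S P K, ψ.comp (Subgroup.inclusion hle) y ∈ normK S P K := by
    rintro ⟨y, hy⟩
    obtain ⟨hyS, κ, hκ, Hκ⟩ := hy
    refine ⟨(F.le_of_mem hρ).2 _, α * κ * α⁻¹, hKn α hαmem κ hκ, fun x => ?_⟩
    simp only [MulAut.mul_apply]
    show (((α (κ (α⁻¹ x)) : P)) : Ω) = ψ ⟨y, _⟩ * x * (ψ ⟨y, _⟩)⁻¹
    have hx0 : ((x : P) : Ω) = ψ ⟨((α⁻¹ x : P) : Ω), hle (hPle (α⁻¹ x).2)⟩ := by
      rw [hψP, MulAut.apply_inv_self]
    rw [hx0, ← map_inv, ← map_mul, ← map_mul, ← hψP]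
    congr 1
    apply Subtype.ext
    exact Hκ (α⁻¹ x)
  obtain ⟨β, hβ, Hβ⟩ := fs_hom_to_aut F hρ hval
  refine ⟨β, hβ, fun x => ?_⟩
  rw [Hβ]
  exact hψP x

/-- For a fully centralized `Q`, the subgroup `Q C_S(Q)` (written as the `Inn(Q)`-normalizer) is centric. -/
theorem centric_normK_inn [Finite S] (F : FusionSystem S) {Q : Subgroup Ω} (hQc : F.IsFullyCentralized Q) :
    F.IsCentric (normK S Q (Inn Q)) := by
  have hQS : Q ≤ S := hQc.1
  have hQP : Q ≤ normK S Q (Inn Q) := le_normK_of_inn_le hQS _ le_rfl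
  have hCP : centralizerIn S Q ≤ normK S Q (Inn Q) := centralizerIn_le_normK S Q _
  refine ⟨normK_le S Q _, ?_⟩
  rintro P' ⟨χ, hχ, rfl⟩
  obtain ⟨Q', hQ'def⟩ : ∃ Q' : Subgroup Ω, Q' = (χ.comp (Subgroup.inclusion hQP)).range := ⟨_, rfl⟩
  have hconj : F.IsConj Q Q' := ⟨_, fs_restrict_mem F hχ hQP, hQ'def.symm⟩
  have hcard := hQc.2 Q' hconj
  haveI : Finite (centralizerIn S Q') := fs_finite_of_le (fs_centralizerIn_le S Q')
  haveI : Finite (centralizerIn S Q) := fs_finite_of_le (fs_centralizerIn_le S Q)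
  have hmem : ∀ c : centralizerIn S Q, χ ⟨c, hCP c.2⟩ ∈ centralizerIn S Q' := by
    intro c
    refine ⟨(F.le_of_mem hχ).2 _, ?_⟩
    show χ ⟨c, hCP c.2⟩ ∈ Subgroup.centralizer (Q' : Set Ω)
    rw [Subgroup.mem_centralizer_iff]
    intro y hy
    rw [hQ'def] at hy
    obtain ⟨x, rfl⟩ := hy
    show χ (Subgroup.inclusion hQP x) * χ ⟨c, hCP c.2⟩ = χ ⟨c, hCP c.2⟩ * χ (Subgroup.inclusion hQP x)
    rw [← map_mul, ← map_mul]
    congr 1
    apply Subtype.ext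
    have hc : (c : Ω) ∈ Subgroup.centralizer (Q : Set Ω) := c.2.2
    rw [Subgroup.mem_centralizer_iff] at hc
    exact hc x x.2
  let f : centralizerIn S Q → centralizerIn S Q' := fun c => ⟨χ ⟨c, hCP c.2⟩, hmem c⟩
  have hfinj : Function.Injective f := by
    intro c c' hcc
    have h1 : χ ⟨c, hCP c.2⟩ = χ ⟨c', hCP c'.2⟩ := congrArg Subtype.val hcc
    have h2 := F.injective_of_mem hχ h1
    exact Subtype.ext (congrArg (fun z : normK S Q (Inn Q) => (z : Ω)) h2)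
  have hfsurj : Function.Surjective f := by
    have hbij : Function.Bijective f := by
      rw [Nat.bijective_iff_injective_and_card]
      exact ⟨hfinj, le_antisymm (Nat.card_le_card_of_injective f hfinj) hcard⟩
    exact hbij.2
  intro x hx
  have hxQ' : x ∈ centralizerIn S Q' := by
    refine ⟨hx.1, ?_⟩
    have hle : (Q' : Set Ω) ⊆ (χ.range : Set Ω) := by
      rw [hQ'def]
      rintro _ ⟨y, rfl⟩
      exact ⟨_, rfl⟩
    exact Subgroup.centralizer_le hle hx.2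
  obtain ⟨c, hc⟩ := hfsurj ⟨x, hxQ'⟩
  have : χ ⟨c, hCP c.2⟩ = x := congrArg Subtype.val hc
  rw [← this]
  exact ⟨_, rfl⟩

end Cfsg.Agent.H9PS
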