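import Mathlib
import Cfsg.Prelude.Def_FusionSystem
import Cfsg.Agent.Lib.Helper9.PStab2
import Cfsg.Agent.Lib.Helper9.KL10
import Cfsg.Agent.Lib.Helper9.KNorm12
import Cfsg.Agent.Lib.Helper9.FusionSat3
import Cfsg.Agent.Lib.Helper9.FusionAG3
import Cfsg.Agent.S5096

set_option autoImplicit false

namespace Cfsg.Agent.H9PS

open Cfsg Cfsg.FusionSystem Cfsg.Agent.Lib.Helper9 Cfsg.Agent.Lib.Helper9.LargeExtra

variable {Ω : Type*} [Group Ω] {S : Subgroup Ω}

/-- The `p`-stability condition at a single subgroup. -/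
def StabAt (p : ℕ) (F : FusionSystem S) (Q : Subgroup Ω) : Prop :=
  ∀ χ : MulAut ↥Q, χ ∈ F.autGroup Q → Quad χ →
    χ ∈ ((Cfsg.pCore p ↥(F.autGroup Q)).map (F.autGroup Q).subtype : Subgroup (MulAut ↥Q))

theorem StabAt.of_iso (p : ℕ) {F : FusionSystem S} {Q Q' : Subgroup Ω} (e : Q ≃* Q') (he : IsFIso F e)
    (h : StabAt p F Q') : StabAt p F Q := by
  intro χ hχ hq
  have h1 := h (MulAut.congr e χ) (he.congr_mem_autGroup hχ) ?_
  · rw [pCore_autGroup_transport F p e he, mem_trAut_iff] at h1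
    have : MulAut.congr e.symm (MulAut.congr e χ) = χ := by
      ext x; simp [MulAut.congr]
    rwa [this] at h1
  · intro a
    have := hq (e.symm a)
    simp only [congr_apply]
    have h2 := congrArg e this
    simp only [map_mul, map_one, map_inv, MulEquiv.apply_symm_apply, MulEquiv.symm_apply_apply] at h2 ⊢
    exact h2

/-- Transport of the extension property along an isomorphism of the system. -/
theorem ExtProp.transport {F : FusionSystem S} {Q P P' : Subgroup Ω} (h : ExtProp F Q P) (eP : P ≃* P')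
    (heP : IsFIso F eP) : ∃ (Q₁ : Subgroup Ω) (eQ : Q ≃* Q₁), IsFIso F eQ ∧ ExtProp F Q₁ P' := by
  obtain ⟨hQP, H⟩ := h
  obtain ⟨Q₁, eQ, heQ, hQ₁P', HeQ⟩ := exists_restrict_iso F hQP eP heP
  refine ⟨Q₁, eQ, heQ, hQ₁P', fun α' hα' => ?_⟩
  obtain ⟨β, hβ, Hβ⟩ := H (MulAut.congr eQ.symm α') (heQ.symm.congr_mem_autGroup hα')
  refine ⟨MulAut.congr eP β, heP.congr_mem_autGroup hβ, fun x => ?_⟩
  rw [congr_apply]
  have h1 : eP.symm ⟨x, hQ₁P' x.2⟩ = ⟨eQ.symm x, hQP (eQ.symm x).2⟩ := by
    rw [MulEquiv.symm_apply_eq]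
    apply Subtype.ext
    rw [← HeQ, MulEquiv.apply_symm_apply]
  rw [h1]
  have h2 := Hβ (eQ.symm x)
  rw [congr_apply] at h2
  simp only [MulEquiv.symm_symm, MulEquiv.apply_symm_apply] at h2
  have h3 : β ⟨eQ.symm x, hQP (eQ.symm x).2⟩ = ⟨eQ.symm (α' x), hQP (eQ.symm (α' x)).2⟩ := Subtype.ext h2
  rw [h3, ← HeQ, MulEquiv.apply_symm_apply]

theorem inn_conj_mem {P : Type*} [Group P] (α : MulAut P) {κ : MulAut P} (hκ : κ ∈ Inn P) :
    α * κ * α⁻¹ ∈ Inn P := by
  obtain ⟨x, rfl⟩ := hκ
  refine ⟨α x, ?_⟩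
  ext y
  simp [MulAut.conj_apply]

theorem inn_le_pCoreMap [Finite S] (p : ℕ) [Fact p.Prime] (hS : IsPGroup p S) (F : FusionSystem S)
    {P : Subgroup Ω} (hPS : P ≤ S) :
    Inn P ≤ (Cfsg.pCore p ↥(F.autGroup P)).map (F.autGroup P).subtype := by
  apply le_pCoreMap p _ _ (H9Sat.inn_le_autGroup F hPS)
  · have h1 : IsPGroup p P := hS.to_le hPS
    exact h1.of_surjective (MulAut.conj : P →* MulAut P).rangeRestrict
      (MonoidHom.rangeRestrict_surjective _)
  · intro h _ x hx
    exact inn_conj_mem h hx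

theorem pCoreMap_le_autInducedBy (p : ℕ) [Fact p.Prime] (F : FusionSystem S) {P : Subgroup Ω}
    (hPa : F.IsFullyAutomized p P) :
    (Cfsg.pCore p ↥(F.autGroup P)).map (F.autGroup P).subtype ≤ autInducedBy S P := by
  obtain ⟨-, R, hR⟩ := hPa
  rintro _ ⟨y, hy, rfl⟩
  have h1 : y ∈ (R : Subgroup (F.autGroup P)) := pCore_le_sylow R hy
  rw [hR, Subgroup.mem_subgroupOf] at h1
  exact h1

/-- Automorphisms of `Q₁` in `F` that extend to the centric subgroup `P'` lie in the normalizer system of `P'`. -/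
theorem autGroup_normalizerSystem_eq_of_extProp (F : FusionSystem S) {Q₁ P' : Subgroup Ω} (hP'S : P' ≤ S)
    (hext : ExtProp F Q₁ P') (N : FusionSystem (normalizerIn S P')) (hN : F.IsNormalizerSystem P' N) :
    N.autGroup Q₁ = F.autGroup Q₁ := by
  obtain ⟨hQP, Hext⟩ := hext
  have hP'N : P' ≤ normalizerIn S P' := le_normalizerIn_self hP'S
  have hQN : Q₁ ≤ normalizerIn S P' := hQP.trans hP'N
  apply le_antisymm (normalizerSystem_autGroup_le F N hN hQN)
  intro α hα
  obtain ⟨β, hβ, Hβ⟩ := Hext α hα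
  rw [mem_autGroup_iff N hQN, hN]
  rw [mem_autGroup_iff F hP'S] at hβ
  refine Cfsg.Agent.H9KL.mem_normalizerHom_of_extension F hQP le_rfl hQN (fun x => hQN (α x).2) hβ (fun x => Hβ x) ?_
  ext y
  constructor
  · rintro ⟨x, -, rfl⟩
    exact (β x).2
  · intro hy
    refine ⟨β⁻¹ ⟨y, hy⟩, ?_, ?_⟩
    · show ((β⁻¹ ⟨y, hy⟩ : P') : Ω) ∈ P'
      exact (β⁻¹ ⟨y, hy⟩).2
    · show ((β (β⁻¹ ⟨y, hy⟩) : P') : Ω) = y
      rw [MulAut.apply_inv_self]

/-- The main induction: a subgroup whose automorphisms all extend to a centric subgroup is `p`-stable as soon as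
the normalizer systems of centric radical fully normalized subgroups are. -/
theorem stabAt_of_extProp [Finite S] (p : ℕ) [Fact p.Prime] (hS : IsPGroup p S) (F : FusionSystem S)
    (hF : F.IsSaturated p)
    (H : ∀ R : Subgroup Ω, F.IsFullyNormalized R → F.IsCentric R → F.IsRadical p R →
      ∀ N : FusionSystem (normalizerIn S R), F.IsNormalizerSystem R N → PStable p N) :
    ∀ n : ℕ, ∀ Q P : Subgroup Ω, ExtProp F Q P → F.IsCentric P → Nat.card S - Nat.card P = n →
      StabAt p F Q := by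
  intro n
  induction n using Nat.strong_induction_on with
  | _ n ih =>
    intro Q P hext hPc hn
    have hPS : P ≤ S := hPc.1
    obtain ⟨P', hconj, hfn⟩ := fs_exists_fullyNormalized F hPS
    obtain ⟨eP, heP⟩ := exists_isFIso_of_isConj F hconj
    obtain ⟨Q₁, eQ, heQ, hext'⟩ := hext.transport eP heP
    apply StabAt.of_iso p eQ heQ
    have hP'c : F.IsCentric P' := centric_of_isConj F hconj hPc
    have hP'S : P' ≤ S := hfn.1
    have hcard : Nat.card P' = Nat.card P := (Nat.card_congr eP.toEquiv).symm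
    by_cases hrad : F.IsRadical p P'
    · -- radical case: use the hypothesis
      obtain ⟨N, hN⟩ := Cfsg.Agent.S5096.result F P' hP'S
      have hNst := H P' hfn hP'c hrad N hN
      have heq := autGroup_normalizerSystem_eq_of_extProp F hP'S hext' N hN
      have hQN : Q₁ ≤ normalizerIn S P' := hext'.1.trans (le_normalizerIn_self hP'S)
      haveI : Finite (normalizerIn S P') := fs_finite_of_le (fs_normalizerIn_le S P')
      intro χ hχ hq
      have h1 := PStable.all p hNst hQN (heq ▸ hχ) hq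
      rw [heq] at h1
      exact h1
    · -- non-radical case: enlarge `P'`
      obtain ⟨hfc, hfa⟩ := fs_sylow_axiom p hS F hF hfn
      have hrec := fs_extension_axiom p hS F hF hfc
      obtain ⟨K, hKdef⟩ : ∃ K : Subgroup (MulAut P'),
          K = (Cfsg.pCore p ↥(F.autGroup P')).map (F.autGroup P').subtype := ⟨_, rfl⟩
      have hInn : Inn P' ≤ K := by rw [hKdef]; exact inn_le_pCoreMap p hS F hP'S
      have hKS : K ≤ autInducedBy S P' := by rw [hKdef]; exact pCoreMap_le_autInducedBy p F hfa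
      have hKn : ∀ α ∈ F.autGroup P', ∀ κ ∈ K, α * κ * α⁻¹ ∈ K := by
        intro α hα κ hκ
        rw [hKdef] at hκ ⊢
        exact pCoreMap_conj_mem p _ hα hκ
      have hext2 := extProp_normK F hrec K hInn hKS hKn
      have hlt : P' < normK S P' K := by
        refine lt_of_le_of_ne hext2.1 ?_
        intro heq
        apply hrad
        refine ⟨hP'S, ?_⟩
        rw [← hKdef]
        apply le_antisymm _ hInn
        intro κ hκ
        have h1 := hKS hκ
        rw [mem_autInducedBy_iff] at h1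
        obtain ⟨g, hgS, Hg⟩ := h1
        have hg : g ∈ normK S P' K := ⟨hgS, κ, hκ, Hg⟩
        rw [← heq] at hg
        refine ⟨⟨g, hg⟩, ?_⟩
        ext x
        rw [Hg x]
        simp [MulAut.conj_apply]
      have hP2S : normK S P' K ≤ S := normK_le S P' K
      have hclt := fs_card_lt_of_lt hlt hP2S
      have hcle : Nat.card (normK S P' K) ≤ Nat.card S := fs_card_le_of_le hP2S
      have hP2c : F.IsCentric (normK S P' K) := fs_centric_of_le F hP'c hext2.1 hP2S
      exact ih (Nat.card S - Nat.card (normK S P' K)) (by omega) Q₁ (normK S P' K) (hext'.trans hext2) hP2c rfl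

/-- If the normalizer systems of all fully normalized centric radical subgroups are `p`-stable, so is `F`. -/
theorem pStable_of_frc [Finite S] (p : ℕ) [Fact p.Prime] (hS : IsPGroup p S) (F : FusionSystem S)
    (hF : F.IsSaturated p)
    (H : ∀ R : Subgroup Ω, F.IsFullyNormalized R → F.IsCentric R → F.IsRadical p R →
      ∀ N : FusionSystem (normalizerIn S R), F.IsNormalizerSystem R N → PStable p N) :
    PStable p F := by
  intro Q hQfn
  have hQS : Q ≤ S := hQfn.1
  obtain ⟨hfc, -⟩ := fs_sylow_axiom p hS F hF hQfn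
  have hrec := fs_extension_axiom p hS F hF hfc
  have hext := extProp_normK F hrec (Inn Q) le_rfl (inn_le_autInducedBy hQS)
    (fun α _ κ hκ => inn_conj_mem α hκ)
  have hc := centric_normK_inn F hfc
  exact stabAt_of_extProp p hS F hF H _ Q _ hext hc rfl

/-- A `p`-stable system has `p`-stable normalizer systems. -/
theorem pStable_normalizerSystem [Finite S] (p : ℕ) [Fact p.Prime] (F : FusionSystem S) (hF : PStable p F)
    {R : Subgroup Ω} (N : FusionSystem (normalizerIn S R)) (hN : F.IsNormalizerSystem R N) : PStable p N := by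
  intro Q hQfn χ hχ hq
  have hQN : Q ≤ normalizerIn S R := hQfn.1
  have hQS : Q ≤ S := hQN.trans inf_le_left
  have hle := normalizerSystem_autGroup_le F N hN hQN
  have h1 := PStable.all p hF hQS (hle hχ) hq
  haveI : Finite ↥Q := fs_finite_of_le hQS
  exact pCoreMap_inf_le p hle ⟨h1, hχ⟩

end Cfsg.Agent.H9PS
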