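import Mathlib
import Cfsg.Agent.Lib.Helper9.POH5
import Cfsg.Agent.S0809
import Cfsg.Agent.S0811
import Cfsg.Agent.S0812
import Cfsg.Agent.S5892

set_option autoImplicit false
set_option linter.unusedSectionVars false

/-!
# Normalisers of subgroups of `PSL₂(13)` are maximal
-/

namespace Cfsg.Agent.Lib.Helper9.PT

open Matrix Cfsg.Agent.Lib.Helper2 Cfsg.Agent.Lib.Helper2.DSub Cfsg.Agent.Lib.Helper9.H9PM
  Cfsg.Agent.Lib.Helper9.PO
open scoped MatrixGroups

section general

variable {G : Type*} [Group G]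

/-- a subgroup of index two of a subgroup `M` is normalised by `M` -/
theorem le_normalizer_of_two_mul_card [Finite G] (A M : Subgroup G) (hAM : A ≤ M)
    (hcard : Nat.card M = 2 * Nat.card A) : M ≤ Subgroup.normalizer (A : Set G) := by
  rw [← Subgroup.normal_subgroupOf_iff_le_normalizer hAM]
  apply Subgroup.normal_of_index_eq_two
  have h1 := (A.subgroupOf M).card_mul_index
  have h2 : Nat.card (A.subgroupOf M) = Nat.card A :=
    Nat.card_congr (Subgroup.subgroupOfEquivOfLe hAM).toEquiv
  rw [h2, hcard] at h1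
  have hpos : 0 < Nat.card A := Nat.card_pos
  have : Nat.card A * (A.subgroupOf M).index = Nat.card A * 2 := by rw [h1]; ring
  exact Nat.eq_of_mul_eq_mul_left hpos this

/-- a maximal subgroup which is not normal is its own normaliser -/
theorem coatom_self_normalizer (A : Subgroup G) (hA : IsCoatom A) (hn : ¬ A.Normal) :
    IsCoatom (Subgroup.normalizer (A : Set G)) := by
  rw [coatom_normalizer' A hA A hn Subgroup.le_normalizer]
  exact hA

/-- a non-normal subgroup normalised by a maximal subgroup -/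
theorem normalizer_coatom_of_le (A M : Subgroup G) (hM : IsCoatom M) (hn : ¬ A.Normal)
    (h : M ≤ Subgroup.normalizer (A : Set G)) : IsCoatom (Subgroup.normalizer (A : Set G)) := by
  rw [coatom_normalizer' M hM A hn h]
  exact hM

/-- a non-normal subgroup of index one or two in a maximal subgroup -/
theorem normalizer_coatom_of_card [Finite G] (A M : Subgroup G) (hM : IsCoatom M)
    (hn : ¬ A.Normal) (hAM : A ≤ M) (hcard : Nat.card M = Nat.card A ∨
      Nat.card M = 2 * Nat.card A) : IsCoatom (Subgroup.normalizer (A : Set G)) := by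
  rcases hcard with h | h
  · have : A = M := Subgroup.eq_of_le_of_card_ge hAM h.le
    rw [this] at hn ⊢
    exact coatom_self_normalizer M hM hn
  · exact normalizer_coatom_of_le A M hM hn (le_normalizer_of_two_mul_card A M hAM h)

/-- subgroups of prime order `r` are conjugate when `r ^ 2` does not divide the group order -/
theorem exists_conj_of_card_prime [Finite G] (r : ℕ) [hr : Fact r.Prime]
    (hr2 : ¬ r ^ 2 ∣ Nat.card G) (A B : Subgroup G) (hA : Nat.card A = r) (hB : Nat.card B = r) :
    ∃ g : G, A = B.map (MulAut.conj g).toMonoidHom := by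
  have key : ∀ C : Subgroup G, Nat.card C = r → ∃ P : Sylow r G, (P : Subgroup G) = C := by
    intro C hC
    have hCp : IsPGroup r C := IsPGroup.of_card (n := 1) (by rw [hC, pow_one])
    obtain ⟨P, hP⟩ := hCp.exists_le_sylow
    refine ⟨P, ?_⟩
    obtain ⟨n, hn⟩ := IsPGroup.iff_card.mp P.2
    have hdvd : r ^ n ∣ Nat.card G := by
      rw [← hn]
      exact Subgroup.card_subgroup_dvd_card _
    have hn1 : n ≤ 1 := by
      by_contra hcon
      apply hr2
      exact (pow_dvd_pow r (by omega : 2 ≤ n)).trans hdvd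
    have hle : Nat.card (P : Subgroup G) ≤ Nat.card C := by
      rw [hn, hC]
      calc r ^ n ≤ r ^ 1 := Nat.pow_le_pow_right hr.out.pos hn1
        _ = r := pow_one r
    exact (Subgroup.eq_of_le_of_card_ge hP hle).symm
  obtain ⟨P, hP⟩ := key A hA
  obtain ⟨Q, hQ⟩ := key B hB
  obtain ⟨g, hg⟩ := MulAction.exists_smul_eq G Q P
  refine ⟨g, ?_⟩
  rw [← hP, ← hg, Sylow.coe_subgroup_smul, hQ, Subgroup.pointwise_smul_def]
  rfl

end general

section psl13

theorem fact_prime_13 : Fact (Nat.Prime 13) := ⟨by norm_num⟩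
theorem fact_prime_3 : Fact (Nat.Prime 3) := ⟨by norm_num⟩
theorem fact_prime_7 : Fact (Nat.Prime 7) := ⟨by norm_num⟩

attribute [local instance] fact_prime_13 fact_prime_3 fact_prime_7

theorem dihedral6_central : ∀ x : DihedralGroup 6, x * DihedralGroup.r 3 = DihedralGroup.r 3 * x := by
  decide

variable {F : Type*} [Field F] [Fintype F] [CharP F 13]

local notation "G₀" => Matrix.ProjectiveSpecialLinearGroup (Fin 2) F

variable (h13 : Fintype.card F = 13)

include h13

theorem odd_13 : Odd (Fintype.card F) := by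
  rw [h13]; decide

theorem card_psl13 : Nat.card G₀ = 1092 := by
  have h2 : (2 : F) ≠ 0 := Cfsg.Agent.Lib.Helper1.two_ne_zero_of_odd_card (odd_13 h13)
  have := card_G (F := F) h2
  rw [h13] at this
  omega

theorem simple_psl13 : IsSimpleGroup G₀ := simple_psl_odd (by rw [h13]; norm_num)

/-- subgroups of order other than `1` and `1092` are not normal -/
theorem not_normal_of_card (A : Subgroup G₀) (h1 : Nat.card A ≠ 1) (h2 : Nat.card A ≠ 1092) :
    ¬ A.Normal := by
  intro hn
  haveI := simple_psl13 h13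
  rcases Subgroup.Normal.eq_bot_or_eq_top hn with h | h
  · apply h1
    rw [h, Subgroup.card_bot]
  · apply h2
    rw [h, Subgroup.card_top, card_psl13 h13]

/-- the orders of the maximal subgroups of `PSL₂(13)` -/
theorem coatom_card_13 (M : Subgroup G₀) (hM : IsCoatom M) :
    Nat.card M = 78 ∨ Nat.card M = 12 ∨ Nat.card M = 14 := by
  have hodd := odd_13 h13
  rcases Cfsg.Agent.S5892.result 13 hodd (by rw [h13]; norm_num) M hM with h | ⟨-, k, hk, ⟨e⟩⟩ |
    ⟨-, -, k, hk, ⟨e⟩⟩ | ⟨F₀, i1, i2, hq, -⟩ | ⟨F₀, i1, i2, r, hr, hrodd, hq, -⟩ |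
    ⟨h10, -, -⟩ | ⟨-, -, -, ⟨e⟩⟩ | ⟨-, h8, -⟩
  · left
    rw [h13] at h
    omega
  · right; left
    rw [Nat.card_congr e.toEquiv, DihedralGroup.nat_card, hk, h13]
  · right; right
    rw [Nat.card_congr e.toEquiv, DihedralGroup.nat_card, hk, h13]
  · exfalso
    rw [h13] at hq
    have hp : Nat.Prime (Fintype.card F₀ ^ 2) := by rw [← hq]; norm_num
    have := Nat.Prime.eq_one_of_pow hp
    omega
  · exfalso
    rw [h13] at hq
    have hp : Nat.Prime (Fintype.card F₀ ^ r) := by rw [← hq]; norm_num
    have := Nat.Prime.eq_one_of_pow hp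
    rw [this] at hr
    exact Nat.not_prime_one hr
  · exfalso
    rw [h13] at h10
    omega
  · right; left
    rw [Nat.card_congr e.toEquiv, Cfsg.Agent.Lib.Helper9.PO.card_A4]
  · exfalso
    omega

/-- a subgroup whose normaliser has order `12`, `14` or `78` has a maximal normaliser -/
theorem normalizer_coatom_of_normalizer_card (A : Subgroup G₀) (hn : ¬ A.Normal)
    (hc : Nat.card (Subgroup.normalizer (A : Set G₀)) = 12 ∨
      Nat.card (Subgroup.normalizer (A : Set G₀)) = 78) :
    IsCoatom (Subgroup.normalizer (A : Set G₀)) := by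
  haveI := finite_psl (F := F)
  have hne : Subgroup.normalizer (A : Set G₀) ≠ ⊤ := by
    intro h
    exact hn (Subgroup.normalizer_eq_top_iff.mp h)
  obtain ⟨M, hM, hle⟩ := exists_coatom_ge _ hne
  have hd := Subgroup.card_dvd_of_le hle
  have heq : Nat.card (Subgroup.normalizer (A : Set G₀)) = Nat.card M := by
    rcases coatom_card_13 h13 M hM with h | h | h <;> rcases hc with h' | h' <;>
      rw [h, h'] at hd <;> rw [h, h'] <;> omega
  rw [Subgroup.eq_of_le_of_card_ge hle heq.ge]
  exact hM

/-- a maximal subgroup isomorphic to the dihedral group of order `12` -/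
theorem exists_D6 : ∃ M : Subgroup G₀, IsCoatom M ∧ Nonempty (M ≃* DihedralGroup 6) := by
  obtain ⟨M, hM, ⟨e⟩⟩ := Cfsg.Agent.S0812.result (F := F) (q := 13) h13 (by decide)
  have : (13 - 1) / Nat.gcd 2 (13 - 1) = 6 := by norm_num
  rw [this] at e
  exact ⟨M, hM, ⟨e⟩⟩

/-- a maximal subgroup isomorphic to the dihedral group of order `14` -/
theorem exists_D7 : ∃ M : Subgroup G₀, IsCoatom M ∧ Nonempty (M ≃* DihedralGroup 7) := by
  obtain ⟨M, hM, ⟨e⟩⟩ := Cfsg.Agent.S0811.result (F := F) (q := 13) h13 (by decide)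
  have : (13 + 1) / Nat.gcd 2 (13 - 1) = 7 := by norm_num
  rw [this] at e
  exact ⟨M, hM, ⟨e⟩⟩

end psl13

end Cfsg.Agent.Lib.Helper9.PT
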