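import Mathlib
import Cfsg.Agent.Lib.Helper9.PT1

set_option autoImplicit false
set_option linter.unusedSectionVars false

/-!
# Normalisers of subgroups of `PSL₂(13)` are maximal: the cases
-/

namespace Cfsg.Agent.Lib.Helper9.PT

open Matrix Cfsg.Agent.Lib.Helper2 Cfsg.Agent.Lib.Helper2.DSub Cfsg.Agent.Lib.Helper9.H9PM
  Cfsg.Agent.Lib.Helper9.PO
open scoped MatrixGroups

attribute [local instance] fact_prime_13 fact_prime_3 fact_prime_7

variable {F : Type*} [Field F] [Fintype F] [CharP F 13]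

local notation "G₀" => Matrix.ProjectiveSpecialLinearGroup (Fin 2) F

variable (h13 : Fintype.card F = 13)

include h13

/-- the normaliser of the subgroup generated by an involution -/
theorem invol_normalizer (t : G₀) (ht : orderOf t = 2) :
    ∃ M : Subgroup G₀, IsCoatom M ∧ Nat.card M = 12 ∧
      Subgroup.normalizer ((Subgroup.zpowers t : Subgroup G₀) : Set G₀) = M := by
  classical
  haveI := finite_psl (F := F)
  obtain ⟨M₆, hM₆, ⟨e⟩⟩ := exists_D6 h13
  set z : G₀ := ((e.symm (DihedralGroup.r 3) : M₆) : G₀) with hz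
  have hzord : orderOf z = 2 := by
    rw [hz, Subgroup.orderOf_coe, MulEquiv.orderOf_eq]
    have h1 := DihedralGroup.orderOf_r (n := 6) 3
    rw [h1]
    decide
  have hzc : ∀ m ∈ M₆, m * z = z * m := by
    intro m hm
    have h1 : (⟨m, hm⟩ : M₆) * e.symm (DihedralGroup.r 3) =
        e.symm (DihedralGroup.r 3) * ⟨m, hm⟩ := by
      apply e.injective
      rw [map_mul, map_mul, MulEquiv.apply_symm_apply]
      exact dihedral6_central _
    exact congrArg Subtype.val h1
  -- all involutions are conjugate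
  obtain ⟨A4, hA4⟩ : ∃ A : Subgroup (SpecialLinearGroup (Fin 2) F), Nat.card A = 4 := by
    haveI : Fact (Nat.Prime 2) := ⟨Nat.prime_two⟩
    have hcard : Nat.card (SpecialLinearGroup (Fin 2) F) = 2184 := by
      have := Cfsg.Agent.Lib.Helper5.card_SL2 (F := F)
      rw [h13] at this
      rw [this]
    haveI : Finite (SpecialLinearGroup (Fin 2) F) := Nat.finite_of_card_ne_zero (by rw [hcard]; norm_num)
    have := Sylow.exists_subgroup_card_pow_prime (G := SpecialLinearGroup (Fin 2) F) 2 (n := 2)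
      (by rw [hcard]; norm_num)
    simpa using this
  have hconj := (Cfsg.Agent.S0809.result (F := F) (q := 13) h13 (by decide) A4 hA4).2.2.2 z t
    hzord ht
  obtain ⟨g, hg⟩ := isConj_iff.mp hconj
  set M := M₆.map (MulAut.conj g : G₀ ≃* G₀).toMonoidHom with hM
  have hMco : IsCoatom M := isCoatom_map_equiv _ M₆ hM₆
  have hMcard : Nat.card M = 12 := by
    rw [hM, Subgroup.card_map_of_injective (MulAut.conj g).injective, Nat.card_congr e.toEquiv,
      DihedralGroup.nat_card]
  have hMt : ∀ m ∈ M, m * t = t * m := by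
    rintro _ ⟨m, hm, rfl⟩
    show g * m * g⁻¹ * t = t * (g * m * g⁻¹)
    rw [← hg]
    have := hzc m hm
    calc g * m * g⁻¹ * (g * z * g⁻¹) = g * (m * z) * g⁻¹ := by group
      _ = g * (z * m) * g⁻¹ := by rw [this]
      _ = g * z * g⁻¹ * (g * m * g⁻¹) := by group
  have hle : M ≤ Subgroup.normalizer ((Subgroup.zpowers t : Subgroup G₀) : Set G₀) := by
    intro m hm
    exact mem_normalizer_zpowers_of_comm t m (hMt m hm)
  have hnn : ¬ (Subgroup.zpowers t).Normal := by
    apply not_normal_of_card h13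
    · rw [Nat.card_zpowers, ht]; norm_num
    · rw [Nat.card_zpowers, ht]; norm_num
  exact ⟨M, hMco, hMcard, coatom_normalizer' M hMco _ hnn hle⟩

/-- subgroups of order two -/
theorem case_ord2 (A : Subgroup G₀) (hA : Nat.card A = 2) :
    IsCoatom (Subgroup.normalizer (A : Set G₀)) := by
  haveI := finite_psl (F := F)
  haveI : Fact (Nat.Prime 2) := ⟨Nat.prime_two⟩
  obtain ⟨t, ht⟩ := exists_prime_orderOf_dvd_card' (G := A) 2 (by rw [hA])
  have hto : orderOf (t : G₀) = 2 := by rw [Subgroup.orderOf_coe, ht]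
  have hAz : A = Subgroup.zpowers (t : G₀) := by
    symm
    apply Subgroup.eq_of_le_of_card_ge
    · rw [Subgroup.zpowers_le]; exact t.2
    · rw [Nat.card_zpowers, hto, hA]
  obtain ⟨M, hM, -, hN⟩ := invol_normalizer h13 (t : G₀) hto
  rw [hAz, hN]
  exact hM

/-- subgroups of order three -/
theorem case_ord3 (A : Subgroup G₀) (hA : Nat.card A = 3) :
    ∃ M : Subgroup G₀, IsCoatom M ∧ Nat.card M = 12 ∧
      Subgroup.normalizer (A : Set G₀) = M := by
  haveI := finite_psl (F := F)
  obtain ⟨M₆, hM₆, ⟨e⟩⟩ := exists_D6 h13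
  obtain ⟨c, hcM, hcord, hnorm⟩ := dihedral_exists_normal_cyclic M₆ 6 e 3 (by norm_num)
  obtain ⟨g, hg⟩ := exists_conj_of_card_prime 3 (by rw [card_psl13 h13]; norm_num) A
    (Subgroup.zpowers c) hA (by rw [Nat.card_zpowers, hcord])
  set M := M₆.map (MulAut.conj g : G₀ ≃* G₀).toMonoidHom with hM
  have hMco : IsCoatom M := isCoatom_map_equiv _ M₆ hM₆
  have hMcard : Nat.card M = 12 := by
    rw [hM, Subgroup.card_map_of_injective (MulAut.conj g).injective, Nat.card_congr e.toEquiv,
      DihedralGroup.nat_card]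
  have hle : M ≤ Subgroup.normalizer (A : Set G₀) := by
    rw [hg, ← Subgroup.map_equiv_normalizer_eq]
    exact Subgroup.map_mono hnorm
  have hnn : ¬ A.Normal := not_normal_of_card h13 A (by rw [hA]; norm_num) (by rw [hA]; norm_num)
  exact ⟨M, hMco, hMcard, coatom_normalizer' M hMco _ hnn hle⟩

/-- subgroups of order seven -/
theorem case_ord7 (A : Subgroup G₀) (hA : Nat.card A = 7) :
    ∃ M : Subgroup G₀, IsCoatom M ∧ Nat.card M = 14 ∧
      Subgroup.normalizer (A : Set G₀) = M := by
  haveI := finite_psl (F := F)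
  obtain ⟨M₇, hM₇, ⟨e⟩⟩ := exists_D7 h13
  obtain ⟨c, hcM, hcord, hnorm⟩ := dihedral_exists_normal_cyclic M₇ 7 e 7 (by norm_num)
  obtain ⟨g, hg⟩ := exists_conj_of_card_prime 7 (by rw [card_psl13 h13]; norm_num) A
    (Subgroup.zpowers c) hA (by rw [Nat.card_zpowers, hcord])
  set M := M₇.map (MulAut.conj g : G₀ ≃* G₀).toMonoidHom with hM
  have hMco : IsCoatom M := isCoatom_map_equiv _ M₇ hM₇
  have hMcard : Nat.card M = 14 := by
    rw [hM, Subgroup.card_map_of_injective (MulAut.conj g).injective, Nat.card_congr e.toEquiv,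
      DihedralGroup.nat_card]
  have hle : M ≤ Subgroup.normalizer (A : Set G₀) := by
    rw [hg, ← Subgroup.map_equiv_normalizer_eq]
    exact Subgroup.map_mono hnorm
  have hnn : ¬ A.Normal := not_normal_of_card h13 A (by rw [hA]; norm_num) (by rw [hA]; norm_num)
  exact ⟨M, hMco, hMcard, coatom_normalizer' M hMco _ hnn hle⟩

end Cfsg.Agent.Lib.Helper9.PT
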