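import Mathlib
import Cfsg.Agent.Lib.Helper9.PT2

set_option autoImplicit false
set_option linter.unusedSectionVars false

/-!
# Normalisers of subgroups of `PSL₂(13)` are maximal: conclusion
-/

namespace Cfsg.Agent.Lib.Helper9.PT

open Matrix Cfsg.Agent.Lib.Helper2 Cfsg.Agent.Lib.Helper2.DSub Cfsg.Agent.Lib.Helper9.H9PM
  Cfsg.Agent.Lib.Helper9.PO
open scoped MatrixGroups commutatorElement

attribute [local instance] fact_prime_13 fact_prime_3 fact_prime_7

variable {F : Type*} [Field F] [Fintype F] [CharP F 13]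

local notation "G₀" => Matrix.ProjectiveSpecialLinearGroup (Fin 2) F

variable (h13 : Fintype.card F = 13)

include h13

/-- subgroups of order six -/
theorem case_ord6 (A : Subgroup G₀) (hA : Nat.card A = 6) :
    IsCoatom (Subgroup.normalizer (A : Set G₀)) := by
  haveI := finite_psl (F := F)
  obtain ⟨C, hC⟩ := Sylow.exists_subgroup_card_pow_prime (G := A) 3 (n := 1)
    (by rw [hA]; norm_num)
  rw [pow_one] at hC
  have hCn : C.Normal := by
    apply Subgroup.normal_of_index_eq_two
    have h1 := C.card_mul_index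
    rw [hC, hA] at h1
    omega
  set C' : Subgroup G₀ := C.map A.subtype with hC'
  have hC'card : Nat.card C' = 3 := by
    rw [hC', Subgroup.card_map_of_injective A.subtype_injective, hC]
  have hAC : A ≤ Subgroup.normalizer (C' : Set G₀) := by
    have h5 := Subgroup.le_normalizer_map (H := C) A.subtype
    rw [Subgroup.normalizer_eq_top_iff.mpr hCn, ← MonoidHom.range_eq_map,
      Subgroup.range_subtype] at h5
    exact h5
  obtain ⟨M, hM, hMcard, hN⟩ := case_ord3 h13 C' hC'card
  rw [hN] at hAC
  have hnn : ¬ A.Normal := not_normal_of_card h13 A (by rw [hA]; norm_num) (by rw [hA]; norm_num)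
  exact normalizer_coatom_of_card A M hM hnn hAC (Or.inr (by rw [hMcard, hA]))

/-- four-groups -/
theorem case_klein (A : Subgroup G₀) (hA : IsKleinFour A) :
    IsCoatom (Subgroup.normalizer (A : Set G₀)) ∧
      Nat.card (Subgroup.normalizer (A : Set G₀)) = 12 := by
  classical
  haveI := hA
  have h12 := (SL2S4.card_normalizer (odd_13 h13) A).1 (by rw [h13]; right; rfl)
  have hcard : Nat.card A = 4 := hA.card_four
  have hnn : ¬ A.Normal :=
    not_normal_of_card h13 A (by rw [hcard]; norm_num) (by rw [hcard]; norm_num)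
  exact ⟨normalizer_coatom_of_normalizer_card h13 A hnn (Or.inl h12), h12⟩

/-- dihedral subgroups of order twelve -/
theorem case_D6 (A : Subgroup G₀) (e : A ≃* DihedralGroup 6) :
    IsCoatom (Subgroup.normalizer (A : Set G₀)) := by
  haveI := finite_psl (F := F)
  have hA : Nat.card A = 12 := by rw [Nat.card_congr e.toEquiv, DihedralGroup.nat_card]
  set z : G₀ := ((e.symm (DihedralGroup.r 3) : A) : G₀) with hz
  have hzord : orderOf z = 2 := by
    rw [hz, Subgroup.orderOf_coe, MulEquiv.orderOf_eq]
    have h1 := DihedralGroup.orderOf_r (n := 6) 3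
    rw [h1]
    decide
  have hzc : ∀ m ∈ A, m * z = z * m := by
    intro m hm
    have h1 : (⟨m, hm⟩ : A) * e.symm (DihedralGroup.r 3) =
        e.symm (DihedralGroup.r 3) * ⟨m, hm⟩ := by
      apply e.injective
      rw [map_mul, map_mul, MulEquiv.apply_symm_apply]
      exact dihedral6_central _
    exact congrArg Subtype.val h1
  obtain ⟨M, hM, hMcard, hN⟩ := invol_normalizer h13 z hzord
  have hAM : A ≤ M := by
    rw [← hN]
    intro m hm
    exact mem_normalizer_zpowers_of_comm z m (hzc m hm)
  have hnn : ¬ A.Normal := not_normal_of_card h13 A (by rw [hA]; norm_num) (by rw [hA]; norm_num)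
  exact normalizer_coatom_of_card A M hM hnn hAM (Or.inl (by rw [hMcard, hA]))

/-- subgroups isomorphic to `A₄` -/
theorem case_A4 (A : Subgroup G₀) (e : A ≃* alternatingGroup (Fin 4)) :
    IsCoatom (Subgroup.normalizer (A : Set G₀)) := by
  haveI := finite_psl (F := F)
  have hA : Nat.card A = 12 := by
    rw [Nat.card_congr e.toEquiv, Cfsg.Agent.Lib.Helper9.PO.card_A4]
  obtain ⟨V, hV, hVA, hAV⟩ := A4_klein A e
  obtain ⟨hco, hcard⟩ := case_klein h13 V hV
  have hnn : ¬ A.Normal := not_normal_of_card h13 A (by rw [hA]; norm_num) (by rw [hA]; norm_num)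
  exact normalizer_coatom_of_card A _ hco hnn hAV (Or.inl (by rw [hcard, hA]))

/-- dihedral subgroups of order fourteen -/
theorem case_D7 (A : Subgroup G₀) (e : A ≃* DihedralGroup 7) :
    IsCoatom (Subgroup.normalizer (A : Set G₀)) := by
  haveI := finite_psl (F := F)
  have hA : Nat.card A = 14 := by rw [Nat.card_congr e.toEquiv, DihedralGroup.nat_card]
  obtain ⟨c, hcA, hcord, hnorm⟩ := dihedral_exists_normal_cyclic A 7 e 7 (by norm_num)
  obtain ⟨M, hM, hMcard, hN⟩ := case_ord7 h13 (Subgroup.zpowers c)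
    (by rw [Nat.card_zpowers, hcord])
  rw [hN] at hnorm
  have hnn : ¬ A.Normal := not_normal_of_card h13 A (by rw [hA]; norm_num) (by rw [hA]; norm_num)
  exact normalizer_coatom_of_card A M hM hnn hnorm (Or.inl (by rw [hMcard, hA]))

/-- subgroups of the normaliser of a Sylow `13`-subgroup containing it -/
theorem case_borel (A : Subgroup G₀) (hnn : ¬ A.Normal) (P : Sylow 13 G₀)
    (hle : A ≤ Subgroup.normalizer ((P : Subgroup G₀) : Set G₀)) (h13d : 13 ∣ Nat.card A) :
    IsCoatom (Subgroup.normalizer (A : Set G₀)) := by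
  haveI := finite_psl (F := F)
  have hp : Nat.Prime 13 := by norm_num
  obtain ⟨-, -, hNcard, hcomm⟩ := sylow_psl_facts 13 P
  rw [h13] at hNcard
  have hN78 : Nat.card (Subgroup.normalizer ((P : Subgroup G₀) : Set G₀)) = 78 := by
    have : Nat.gcd 2 (13 - 1) = 2 := by norm_num
    rw [this] at hNcard
    omega
  have hPcard : Nat.card (P : Subgroup G₀) = 13 := by
    rw [P.card_eq_multiplicity, card_psl13 h13]
    have h1 : 0 < (1092).factorization 13 :=
      Nat.Prime.factorization_pos_of_dvd hp (by norm_num) (by norm_num)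
    have h2 : ¬ 2 ≤ (1092).factorization 13 := by
      rw [← Nat.Prime.pow_dvd_iff_le_factorization hp (by norm_num)]
      norm_num
    have h3 : (1092).factorization 13 = 1 := by omega
    rw [h3, pow_one]
  have hPnn : ¬ (P : Subgroup G₀).Normal :=
    not_normal_of_card h13 _ (by rw [hPcard]; norm_num) (by rw [hPcard]; norm_num)
  have hNco := normalizer_coatom_of_normalizer_card h13 (P : Subgroup G₀) hPnn (Or.inr hN78)
  -- `P ≤ A`
  obtain ⟨a, ha⟩ := exists_prime_orderOf_dvd_card' (G := A) 13 h13d
  have hao : orderOf (a : G₀) = 13 := by rw [Subgroup.orderOf_coe, ha]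
  have haP : (a : G₀) ∈ P := by
    apply mem_sylow_of_mem_normalizer 13 P (a : G₀) (hle a.2) 1
    rw [pow_one, ← hao]
    exact pow_orderOf_eq_one _
  have hPz : (P : Subgroup G₀) = Subgroup.zpowers (a : G₀) := by
    symm
    apply Subgroup.eq_of_le_of_card_ge
    · rw [Subgroup.zpowers_le]; exact haP
    · rw [Nat.card_zpowers, hao, hPcard]
  have hPA : (P : Subgroup G₀) ≤ A := by
    rw [hPz, Subgroup.zpowers_le]
    exact a.2
  have hfw : ∀ n ∈ Subgroup.normalizer ((P : Subgroup G₀) : Set G₀), ∀ x ∈ A,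
      n * x * n⁻¹ ∈ A := by
    intro n hn x hx
    have h1 : ⁅n, x⁆ ∈ P := hcomm n hn x (hle hx)
    have h2 : n * x * n⁻¹ = ⁅n, x⁆ * x := by
      rw [commutatorElement_def]; group
    rw [h2]
    exact A.mul_mem (hPA h1) hx
  have hNA : Subgroup.normalizer ((P : Subgroup G₀) : Set G₀) ≤
      Subgroup.normalizer (A : Set G₀) := by
    intro n hn
    rw [Subgroup.mem_normalizer_iff]
    intro x
    constructor
    · exact hfw n hn x
    · intro hx
      have := hfw n⁻¹ (Subgroup.inv_mem _ hn) _ hx
      have e1 : n⁻¹ * (n * x * n⁻¹) * n⁻¹⁻¹ = x := by group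
      rw [e1] at this
      exact this
  exact normalizer_coatom_of_le A _ hNco hnn hNA

end Cfsg.Agent.Lib.Helper9.PT
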