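import Mathlib
import Cfsg.Agent.Lib.Helper9.PT3

set_option autoImplicit false
set_option linter.unusedSectionVars false

/-!
# Normalisers of non-normal subgroups of `PSL₂(13)` are maximal
-/

namespace Cfsg.Agent.Lib.Helper9.PT

open Matrix Cfsg.Agent.Lib.Helper2 Cfsg.Agent.Lib.Helper2.DSub Cfsg.Agent.Lib.Helper9.H9PM
  Cfsg.Agent.Lib.Helper9.PO
open scoped MatrixGroups

attribute [local instance] fact_prime_13 fact_prime_3 fact_prime_7

variable {F : Type*} [Field F] [Fintype F] [CharP F 13]

local notation "G₀" => Matrix.ProjectiveSpecialLinearGroup (Fin 2) F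

variable (h13 : Fintype.card F = 13)

include h13

/-- subgroups of order `1`, `2`, `3`, `6`, `7` -/
theorem case_small (A : Subgroup G₀) (hnn : ¬ A.Normal)
    (hA : Nat.card A = 1 ∨ Nat.card A = 2 ∨ Nat.card A = 3 ∨ Nat.card A = 6 ∨ Nat.card A = 7) :
    IsCoatom (Subgroup.normalizer (A : Set G₀)) := by
  rcases hA with h | h | h | h | h
  · exfalso
    apply hnn
    rw [Subgroup.eq_bot_of_card_eq A h]
    infer_instance
  · exact case_ord2 h13 A h
  · obtain ⟨M, hM, -, hN⟩ := case_ord3 h13 A h
    rw [hN]; exact hM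
  · exact case_ord6 h13 A h
  · obtain ⟨M, hM, -, hN⟩ := case_ord7 h13 A h
    rw [hN]; exact hM

theorem main13 (A : Subgroup G₀) (hnn : ¬ A.Normal) :
    IsCoatom (Subgroup.normalizer (A : Set G₀)) := by
  classical
  haveI := finite_psl (F := F)
  have hG := card_psl13 h13
  have hAdvd : Nat.card A ∣ 1092 := by
    rw [← hG]
    exact Subgroup.card_subgroup_dvd_card A
  rcases dickson_psl_concrete 13 A with ⟨k, hk, ⟨hcyc, hcard⟩ | ⟨⟨e⟩⟩⟩ | ⟨P, hle⟩ | ⟨⟨e⟩⟩ |
    ⟨⟨e⟩⟩ | ⟨⟨e⟩⟩ | ⟨K', i1, i2, m, hKm, hiso⟩
  · -- cyclic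
    rw [h13] at hk
    have e1 : (13 + 1) / Nat.gcd 2 (13 - 1) = 7 := by norm_num
    have e2 : (13 - 1) / Nat.gcd 2 (13 - 1) = 6 := by norm_num
    rw [e1, e2] at hk
    have hk' : k = 1 ∨ k = 2 ∨ k = 3 ∨ k = 6 ∨ k = 7 := by
      rcases hk with hk | hk
      · have := Nat.le_of_dvd (by norm_num) hk
        interval_cases k <;> first | omega | (exfalso; revert hk; decide)
      · have := Nat.le_of_dvd (by norm_num) hk
        interval_cases k <;> first | omega | (exfalso; revert hk; decide)
    rw [← hcard] at hk'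
    exact case_small h13 A hnn hk'
  · -- dihedral
    rw [h13] at hk
    have e1 : (13 + 1) / Nat.gcd 2 (13 - 1) = 7 := by norm_num
    have e2 : (13 - 1) / Nat.gcd 2 (13 - 1) = 6 := by norm_num
    rw [e1, e2] at hk
    have hk' : k = 1 ∨ k = 2 ∨ k = 3 ∨ k = 6 ∨ k = 7 := by
      rcases hk with hk | hk
      · have := Nat.le_of_dvd (by norm_num) hk
        interval_cases k <;> first | omega | (exfalso; revert hk; decide)
      · have := Nat.le_of_dvd (by norm_num) hk
        interval_cases k <;> first | omega | (exfalso; revert hk; decide)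
    have hcard : Nat.card A = 2 * k := by
      rw [Nat.card_congr e.toEquiv, DihedralGroup.nat_card]
    rcases hk' with rfl | rfl | rfl | rfl | rfl
    · exact case_small h13 A hnn (Or.inr (Or.inl hcard))
    · have hK : IsKleinFour A := isKleinFour_of_equiv e.symm
      exact (case_klein h13 A hK).1
    · exact case_small h13 A hnn (Or.inr (Or.inr (Or.inr (Or.inl hcard))))
    · exact case_D6 h13 A e
    · exact case_D7 h13 A e
  · -- inside the normaliser of a Sylow subgroup
    by_cases h13d : 13 ∣ Nat.card A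
    · exact case_borel h13 A hnn P hle h13d
    · obtain ⟨-, -, hNcard, -⟩ := sylow_psl_facts 13 P
      rw [h13] at hNcard
      have hN78 : Nat.card (Subgroup.normalizer ((P : Subgroup G₀) : Set G₀)) = 78 := by
        have : Nat.gcd 2 (13 - 1) = 2 := by norm_num
        rw [this] at hNcard
        omega
      have hd : Nat.card A ∣ 78 := by
        rw [← hN78]
        exact Subgroup.card_dvd_of_le hle
      have hd6 : Nat.card A ∣ 6 := by
        have hcop : Nat.Coprime (Nat.card A) 13 :=
          (Nat.Coprime.symm ((Nat.Prime.coprime_iff_not_dvd (by norm_num)).mpr h13d))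
        have : (78 : ℕ) = 13 * 6 := by norm_num
        rw [this] at hd
        exact hcop.dvd_of_dvd_mul_left hd
      have hA' : Nat.card A = 1 ∨ Nat.card A = 2 ∨ Nat.card A = 3 ∨ Nat.card A = 6 ∨
          Nat.card A = 7 := by
        have := Nat.le_of_dvd (by norm_num) hd6
        have hpos : 0 < Nat.card A := Nat.card_pos
        interval_cases (Nat.card A) <;> first | omega | (exfalso; revert hd6; decide)
      exact case_small h13 A hnn hA'
  · exact case_A4 h13 A e
  · exfalso
    rw [Nat.card_congr e.toEquiv, Cfsg.Agent.Lib.Helper9.PO.card_S4] at hAdvd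
    revert hAdvd; decide
  · exfalso
    rw [Nat.card_congr e.toEquiv, card_A5] at hAdvd
    revert hAdvd; decide
  · exfalso
    rw [h13] at hKm
    have hp : Nat.Prime (Fintype.card K' ^ m) := by rw [hKm]; norm_num
    have hm1 := Nat.Prime.eq_one_of_pow hp
    rw [hm1, pow_one] at hKm
    have hodd' : Odd (Fintype.card K') := by rw [hKm]; decide
    have h2 : (2 : K') ≠ 0 := Cfsg.Agent.Lib.Helper1.two_ne_zero_of_odd_card hodd'
    rcases hiso with ⟨⟨e⟩⟩ | ⟨⟨e⟩⟩
    · have hcard : Nat.card A = 1092 := by
        have := card_G (F := K') h2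
        rw [hKm] at this
        rw [Nat.card_congr e.toEquiv]
        omega
      apply hnn
      have : A = ⊤ := by
        apply Subgroup.eq_top_of_card_eq
        rw [hcard, hG]
      rw [this]
      infer_instance
    · have hcard : Nat.card A = 2184 := by
        rw [Nat.card_congr e.toEquiv, card_pgl_two, hKm]
      have := Subgroup.card_le_card_group A
      rw [hcard, hG] at this
      omega

end Cfsg.Agent.Lib.Helper9.PT
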