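import Mathlib
import Cfsg.Agent.Lib.Helper9.PT4

set_option autoImplicit false
set_option linter.unusedSectionVars false

/-!
# Groups all of whose non-normal subgroups have maximal normalisers

Abstract closure properties: isomorphisms, central extensions by a unique involution, and direct
products with abelian groups of coprime order.
-/

namespace Cfsg.Agent.Lib.Helper9.PT

/-- every non-normal subgroup has a maximal normaliser -/
def NMax (G : Type*) [Group G] : Prop :=
  ∀ A : Subgroup G, ¬ A.Normal → IsCoatom (Subgroup.normalizer (A : Set G))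

/-- the preimage of a maximal subgroup under a surjection is maximal -/
theorem isCoatom_comap_of_surjective {G Q : Type*} [Group G] [Group Q] (f : G →* Q)
    (hf : Function.Surjective f) (M : Subgroup Q) (hM : IsCoatom M) : IsCoatom (M.comap f) := by
  constructor
  · intro h
    apply hM.1
    rw [← Subgroup.map_comap_eq_self_of_surjective hf M, h, ← MonoidHom.range_eq_map,
      MonoidHom.range_eq_top.mpr hf]
  · intro L hL
    have hker : f.ker ≤ L := le_trans (Subgroup.ker_le_comap f M) hL.le
    have hLL : (L.map f).comap f = L := Subgroup.comap_map_eq_self hker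
    have hle : M ≤ L.map f := by
      rw [← Subgroup.map_comap_eq_self_of_surjective hf M]
      exact Subgroup.map_mono hL.le
    have hne : M ≠ L.map f := by
      intro h
      apply hL.ne
      rw [h, hLL]
    have htop := hM.2 _ (lt_of_le_of_ne hle hne)
    rw [← hLL, htop, Subgroup.comap_top]

theorem NMax.of_equiv {K G : Type*} [Group K] [Group G] (e : K ≃* G) (h : NMax G) : NMax K := by
  intro A hA
  have hA' : ¬ (A.map e.toMonoidHom).Normal := by
    intro hn
    apply hA
    have : A = (A.map e.toMonoidHom).comap e.toMonoidHom :=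
      (Subgroup.comap_map_eq_self_of_injective e.injective A).symm
    rw [this]
    exact hn.comap _
  have h1 := h _ hA'
  rw [← Subgroup.map_equiv_normalizer_eq] at h1
  exact (OrderIso.isCoatom_iff e.mapSubgroup _).mp h1

/-- a central extension by a group of order two generated by the unique involution -/
theorem NMax.of_central_invol {G Q : Type*} [Group G] [Group Q] [Finite G] (f : G →* Q)
    (hf : Function.Surjective f) (w : G) (hwc : ∀ g : G, g * w = w * g) (hww : w * w = 1)
    (hker : ∀ g : G, f g = 1 → g = 1 ∨ g = w)
    (huniq : ∀ t : G, t * t = 1 → t ≠ 1 → t = w) (h : NMax Q) : NMax G := by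
  intro A hA
  -- the key inclusion
  have key : ∀ g : G, f g ∈ Subgroup.normalizer ((A.map f : Subgroup Q) : Set Q) →
      ∀ a ∈ A, g * a * g⁻¹ ∈ A := by
    intro g hg a ha
    have h1 : f (g * a * g⁻¹) ∈ A.map f := by
      rw [map_mul, map_mul, map_inv]
      exact (Subgroup.mem_normalizer_iff.mp hg (f a)).mp (Subgroup.mem_map_of_mem f ha)
    obtain ⟨a', ha', hfa'⟩ := Subgroup.mem_map.mp h1
    have h2 : f (a'⁻¹ * (g * a * g⁻¹)) = 1 := by
      rw [map_mul, map_inv, hfa', inv_mul_cancel]
    rcases hker _ h2 with h3 | h3
    · have : g * a * g⁻¹ = a' := by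
        rw [← mul_one a', ← h3, mul_inv_cancel_left]
      rw [this]; exact ha'
    · have hx : g * a * g⁻¹ = a' * w := by
        rw [← h3, mul_inv_cancel_left]
      by_cases hwA : w ∈ A
      · rw [hx]; exact A.mul_mem ha' hwA
      · exfalso
        -- `A` has odd order
        have hodd : ¬ 2 ∣ Nat.card A := by
          intro h2
          haveI : Fact (Nat.Prime 2) := ⟨Nat.prime_two⟩
          obtain ⟨t, ht⟩ := exists_prime_orderOf_dvd_card' 2 h2
          have htt : (t : G) * (t : G) = 1 := by
            have := pow_orderOf_eq_one t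
            rw [ht, pow_two] at this
            have h' := congrArg Subtype.val this
            simpa using h'
          have hne : (t : G) ≠ 1 := by
            intro h1
            have : t = 1 := Subtype.ext h1
            rw [this, orderOf_one] at ht
            norm_num at ht
          apply hwA
          rw [← huniq _ htt hne]
          exact t.2
        set n := Nat.card A with hn
        have hnodd : Odd n := Nat.odd_iff.mpr (by omega)
        have han : a ^ n = 1 := by
          have h0 : (⟨a, ha⟩ : A) ^ n = 1 := pow_card_eq_one'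
          have h' := congrArg Subtype.val h0
          rw [Subgroup.coe_pow, Subgroup.coe_one] at h'
          exact h'
        have ha'n : a' ^ n = 1 := by
          have h0 : (⟨a', ha'⟩ : A) ^ n = 1 := pow_card_eq_one'
          have h' := congrArg Subtype.val h0
          rw [Subgroup.coe_pow, Subgroup.coe_one] at h'
          exact h'
        have hwn : w ^ n = w := by
          obtain ⟨k, hk⟩ := hnodd
          rw [hk, pow_succ, pow_mul, pow_two, hww, one_pow, one_mul]
        have hcomm : Commute a' w := hwc a'
        have e1 : (g * a * g⁻¹) ^ n = 1 := by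
          rw [conj_pow, han, mul_one, mul_inv_cancel]
        rw [hx, hcomm.mul_pow, ha'n, hwn, one_mul] at e1
        apply hwA
        rw [e1]; exact A.one_mem
  have hN : Subgroup.normalizer (A : Set G) =
      (Subgroup.normalizer ((A.map f : Subgroup Q) : Set Q)).comap f := by
    apply le_antisymm
    · rw [← Subgroup.map_le_iff_le_comap]
      exact Subgroup.le_normalizer_map f
    · intro g hg
      rw [Subgroup.mem_comap] at hg
      rw [Subgroup.mem_normalizer_iff]
      intro a
      constructor
      · exact key g hg a
      · intro ha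
        have hg' : f g⁻¹ ∈ Subgroup.normalizer ((A.map f : Subgroup Q) : Set Q) := by
          rw [map_inv]; exact Subgroup.inv_mem _ hg
        have := key g⁻¹ hg' _ ha
        rw [inv_inv] at this
        have e : g⁻¹ * (g * a * g⁻¹) * g = a := by group
        rw [e] at this
        exact this
  have hnn : ¬ (A.map f).Normal := by
    intro hn
    apply hA
    rw [← Subgroup.normalizer_eq_top_iff, hN, Subgroup.normalizer_eq_top_iff.mpr hn,
      Subgroup.comap_top]
  rw [hN]
  exact isCoatom_comap_of_surjective f hf _ (h _ hnn)

section Prod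

variable {K S : Type*} [Group K] [Group S]

theorem mem_inl_of_mem [Finite K] [Finite S] (hKS : (Nat.card K).Coprime (Nat.card S))
    (H : Subgroup (K × S)) (k : K) (s : S) (h : (k, s) ∈ H) : (k, 1) ∈ H := by
  have hb := Nat.gcd_eq_gcd_ab (Nat.card K) (Nat.card S)
  rw [Nat.Coprime] at hKS
  rw [hKS] at hb
  have h1 : ((k, s) ^ (Nat.card S)) ^ (Nat.gcdB (Nat.card K) (Nat.card S)) ∈ H :=
    H.zpow_mem (H.pow_mem h _) _
  have e : ((k, s) ^ (Nat.card S)) ^ (Nat.gcdB (Nat.card K) (Nat.card S)) = (k, (1 : S)) := by
    refine Prod.ext ?_ ?_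
    · show (k ^ (Nat.card S)) ^ (Nat.gcdB (Nat.card K) (Nat.card S)) = k
      have hk : k = k ^ ((Nat.card K : ℤ) * Nat.gcdA (Nat.card K) (Nat.card S) +
          (Nat.card S : ℤ) * Nat.gcdB (Nat.card K) (Nat.card S)) := by
        rw [← hb]; simp
      conv_rhs => rw [hk]
      rw [zpow_add, zpow_mul, zpow_mul, zpow_natCast, zpow_natCast, pow_card_eq_one', one_zpow,
        one_mul]
    · show (s ^ (Nat.card S)) ^ (Nat.gcdB (Nat.card K) (Nat.card S)) = 1
      rw [pow_card_eq_one', one_zpow]
  rw [e] at h1
  exact h1

theorem mem_inr_of_mem [Finite K] [Finite S] (hKS : (Nat.card K).Coprime (Nat.card S))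
    (H : Subgroup (K × S)) (k : K) (s : S) (h : (k, s) ∈ H) : (1, s) ∈ H := by
  have h1 := mem_inl_of_mem hKS H k s h
  have h2 := H.mul_mem (H.inv_mem h1) h
  have e : (k, (1 : S))⁻¹ * (k, s) = (1, s) := by
    refine Prod.ext ?_ ?_
    · show k⁻¹ * k = 1
      exact inv_mul_cancel k
    · show (1 : S)⁻¹ * s = s
      rw [inv_one, one_mul]
  rw [e] at h2
  exact h2

theorem eq_prod_of_coprime [Finite K] [Finite S] (hKS : (Nat.card K).Coprime (Nat.card S))
    (H : Subgroup (K × S)) :
    H = (H.comap (MonoidHom.inl K S)).prod (H.comap (MonoidHom.inr K S)) := by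
  ext ⟨k, s⟩
  rw [Subgroup.mem_prod, Subgroup.mem_comap, Subgroup.mem_comap]
  show (k, s) ∈ H ↔ (k, 1) ∈ H ∧ (1, s) ∈ H
  constructor
  · intro h
    exact ⟨mem_inl_of_mem hKS H k s h, mem_inr_of_mem hKS H k s h⟩
  · rintro ⟨h1, h2⟩
    have := H.mul_mem h1 h2
    have e : (k, (1 : S)) * ((1 : K), s) = (k, s) := by
      refine Prod.ext ?_ ?_
      · show k * 1 = k
        exact mul_one k
      · show 1 * s = s
        exact one_mul s
    rw [e] at this
    exact this

theorem normalizer_prod (A : Subgroup K) (B : Subgroup S) :
    Subgroup.normalizer ((A.prod B : Subgroup (K × S)) : Set (K × S)) =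
      (Subgroup.normalizer (A : Set K)).prod (Subgroup.normalizer (B : Set S)) := by
  ext ⟨k, s⟩
  rw [Subgroup.mem_prod, Subgroup.mem_normalizer_iff, Subgroup.mem_normalizer_iff,
    Subgroup.mem_normalizer_iff]
  constructor
  · intro h
    constructor
    · intro a
      have := h (a, 1)
      rw [Subgroup.mem_prod, Subgroup.mem_prod] at this
      simp only [Prod.mk_mul_mk, Prod.inv_mk] at this
      constructor
      · intro ha
        exact (this.mp ⟨ha, B.one_mem⟩).1
      · intro ha
        refine (this.mpr ⟨ha, ?_⟩).1
        rw [mul_one, mul_inv_cancel]; exact B.one_mem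
    · intro b
      have := h (1, b)
      rw [Subgroup.mem_prod, Subgroup.mem_prod] at this
      simp only [Prod.mk_mul_mk, Prod.inv_mk] at this
      constructor
      · intro hb
        exact (this.mp ⟨A.one_mem, hb⟩).2
      · intro hb
        refine (this.mpr ⟨?_, hb⟩).2
        rw [mul_one, mul_inv_cancel]; exact A.one_mem
  · rintro ⟨h1, h2⟩ ⟨a, b⟩
    rw [Subgroup.mem_prod, Subgroup.mem_prod]
    simp only [Prod.mk_mul_mk, Prod.inv_mk]
    rw [← h1 a, ← h2 b]

end Prod

theorem NMax.prod_of_coprime {K S : Type*} [Group K] [CommGroup S] [Finite K] [Finite S]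
    (hKS : (Nat.card K).Coprime (Nat.card S)) (h : NMax K) : NMax (K × S) := by
  intro H hH
  have hdec := eq_prod_of_coprime hKS H
  set A := H.comap (MonoidHom.inl K S) with hAdef
  set B := H.comap (MonoidHom.inr K S) with hBdef
  have hA : ¬ A.Normal := by
    intro hn
    apply hH
    rw [hdec]
    haveI := hn
    infer_instance
  have hB : Subgroup.normalizer (B : Set S) = ⊤ := Subgroup.normalizer_eq_top_iff.mpr inferInstance
  rw [hdec, normalizer_prod, hB, Subgroup.prod_top]
  exact isCoatom_comap_of_surjective _ (fun k => ⟨(k, 1), rfl⟩) _ (h A hA)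

end Cfsg.Agent.Lib.Helper9.PT
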