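import Mathlib

set_option autoImplicit false

/-!
# Solubilizers in `PSL₂(3^p)`: generic group theory
-/

namespace Cfsg.Agent.Lib.Helper9.PU

section grp

variable {G : Type*} [Group G]

/-- in a simple non-commutative group the normalizer of a nontrivial abelian subgroup is proper -/
theorem normalizer_ne_top [IsSimpleGroup G] (hnc : ∃ a b : G, a * b ≠ b * a) (A : Subgroup G)
    (hA : ∀ a ∈ A, ∀ b ∈ A, a * b = b * a) (hne : A ≠ ⊥) :
    Subgroup.normalizer (A : Set G) ≠ ⊤ := by
  intro h
  have hn : A.Normal := Subgroup.normalizer_eq_top_iff.mp h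
  rcases hn.eq_bot_or_eq_top with h1 | h1
  · exact hne h1
  · obtain ⟨a, b, hab⟩ := hnc
    apply hab
    apply hA
    · rw [h1]; exact Subgroup.mem_top a
    · rw [h1]; exact Subgroup.mem_top b

/-- conjugation by `g` maps `closure S` into itself when it maps `S` into `closure S` -/
theorem conj_mem_closure (S : Set G) (g : G)
    (hS : ∀ s ∈ S, g * s * g⁻¹ ∈ Subgroup.closure S) :
    ∀ k ∈ Subgroup.closure S, g * k * g⁻¹ ∈ Subgroup.closure S := by
  intro k hk
  induction hk using Subgroup.closure_induction with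
  | mem x hx => exact hS x hx
  | one => simp
  | mul x y _ _ hx hy =>
    have : g * (x * y) * g⁻¹ = (g * x * g⁻¹) * (g * y * g⁻¹) := by group
    rw [this]
    exact Subgroup.mul_mem _ hx hy
  | inv x _ hx =>
    have : g * x⁻¹ * g⁻¹ = (g * x * g⁻¹)⁻¹ := by group
    rw [this]
    exact Subgroup.inv_mem _ hx

theorem mem_normalizer_closure (S : Set G) (g : G)
    (hS : ∀ s ∈ S, g * s * g⁻¹ ∈ Subgroup.closure S)
    (hS' : ∀ s ∈ S, g⁻¹ * s * g ∈ Subgroup.closure S) :
    g ∈ Subgroup.normalizer ((Subgroup.closure S : Subgroup G) : Set G) := by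
  rw [Subgroup.mem_set_normalizer_iff]
  intro h
  constructor
  · exact conj_mem_closure S g hS h
  · intro hh
    have hS'' : ∀ s ∈ S, g⁻¹ * s * g⁻¹⁻¹ ∈ Subgroup.closure S := by
      intro s hs
      rw [inv_inv]
      exact hS' s hs
    have := conj_mem_closure S g⁻¹ hS'' _ hh
    have e : g⁻¹ * (g * h * g⁻¹) * g⁻¹⁻¹ = h := by group
    rw [e] at this
    exact this

/-- the closure of a set of pairwise commuting elements is commutative -/
theorem closure_comm (S : Set G) (hS : ∀ a ∈ S, ∀ b ∈ S, a * b = b * a) :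
    ∀ a ∈ Subgroup.closure S, ∀ b ∈ Subgroup.closure S, a * b = b * a := by
  have h1 : Subgroup.closure S ≤ Subgroup.centralizer S := by
    rw [Subgroup.closure_le]
    intro a ha
    rw [SetLike.mem_coe, Subgroup.mem_centralizer_iff]
    intro b hb
    exact hS b hb a ha
  have h2 : Subgroup.closure S ≤ Subgroup.centralizer (Subgroup.closure S : Set G) := by
    rw [Subgroup.closure_le]
    intro a ha
    rw [SetLike.mem_coe, Subgroup.mem_centralizer_iff]
    intro b hb
    have := h1 hb
    rw [Subgroup.mem_centralizer_iff] at this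
    exact (this a ha).symm
  intro a ha b hb
  have := h2 ha
  rw [Subgroup.mem_centralizer_iff] at this
  exact (this b hb).symm

/-- an element conjugating `a` to `a` or `a⁻¹` normalizes `⟨a⟩` -/
theorem mem_normalizer_zpowers {a y : G} (h : y * a * y⁻¹ = a ∨ y * a * y⁻¹ = a⁻¹) :
    y ∈ Subgroup.normalizer ((Subgroup.zpowers a : Subgroup G) : Set G) := by
  have hz : Subgroup.zpowers a = Subgroup.closure {a} := (Subgroup.zpowers_eq_closure a)
  rw [hz]
  apply mem_normalizer_closure
  · intro s hs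
    rw [Set.mem_singleton_iff] at hs
    subst hs
    rcases h with h | h
    · rw [h]; exact Subgroup.subset_closure rfl
    · rw [h]; exact Subgroup.inv_mem _ (Subgroup.subset_closure rfl)
  · intro s hs
    rw [Set.mem_singleton_iff] at hs
    subst hs
    rcases h with h | h
    · have : y⁻¹ * s * y = s := by
        calc y⁻¹ * s * y = y⁻¹ * (y * s * y⁻¹) * y := by rw [h]
          _ = s := by group
      rw [this]; exact Subgroup.subset_closure rfl
    · have : y⁻¹ * s * y = s⁻¹ := by
        have h' : s = (y * s * y⁻¹)⁻¹ := by rw [h, inv_inv]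
        calc y⁻¹ * s * y = y⁻¹ * (y * s * y⁻¹)⁻¹ * y := by rw [← h']
          _ = s⁻¹ := by group
      rw [this]; exact Subgroup.inv_mem _ (Subgroup.subset_closure rfl)

theorem zpowers_comm (a : G) : ∀ u ∈ Subgroup.zpowers a, ∀ v ∈ Subgroup.zpowers a, u * v = v * u := by
  intro u hu v hv
  obtain ⟨i, rfl⟩ := Subgroup.mem_zpowers_iff.mp hu
  obtain ⟨j, rfl⟩ := Subgroup.mem_zpowers_iff.mp hv
  rw [← zpow_add, ← zpow_add, add_comm]

theorem zpowers_ne_bot {a : G} (ha : a ≠ 1) : Subgroup.zpowers a ≠ ⊥ := by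
  intro h
  apply ha
  have : a ∈ Subgroup.zpowers a := Subgroup.mem_zpowers a
  rw [h, Subgroup.mem_bot] at this
  exact this

/-- the four-group attached to a `(2,3,3)`-pair -/
def kleinSet (c t : G) : Set G := {t, c * t * c⁻¹, c⁻¹ * t * c}

theorem klein_facts (c t : G) (hc : c ^ 3 = 1) (ht : t ^ 2 = 1) (hct : (c * t) ^ 3 = 1) :
    (∀ a ∈ Subgroup.closure (kleinSet c t), ∀ b ∈ Subgroup.closure (kleinSet c t), a * b = b * a) ∧
    c ∈ Subgroup.normalizer ((Subgroup.closure (kleinSet c t) : Subgroup G) : Set G) ∧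
    t ∈ Subgroup.normalizer ((Subgroup.closure (kleinSet c t) : Subgroup G) : Set G) := by
  have hc' : c * c * c = 1 := by rw [← hc, pow_succ, pow_two]
  have ht' : t * t = 1 := by rw [← ht, pow_two]
  have h1 : c * t * (c * t) * (c * t) = 1 := by rw [← hct, pow_succ, pow_two]
  have hci : c⁻¹ = c * c := by
    apply inv_eq_of_mul_eq_one_right
    rw [← hc', mul_assoc]
  have hcc : c⁻¹ * c⁻¹ = c := by
    have : c⁻¹ * c⁻¹ = (c * c * c) * c⁻¹ * c⁻¹ := by rw [hc', one_mul]
    rw [this]; group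
  have hti : t⁻¹ = t := inv_eq_of_mul_eq_one_right ht'
  -- t c t = c⁻¹ t c⁻¹
  have h2 : t * c * t = c⁻¹ * t * c⁻¹ := by
    have e : t * c * t = c⁻¹ * (c * t * (c * t) * (c * t)) * t⁻¹ * c⁻¹ := by group
    rw [e, h1, hti, mul_one]
  have h3 : t * c⁻¹ * t = c * t * c := by
    have e : t * c⁻¹ * t = (t⁻¹ * c * t⁻¹)⁻¹ := by group
    rw [e, hti, h2]; 
    have e2 : (c⁻¹ * t * c⁻¹)⁻¹ = c * t⁻¹ * c := by group
    rw [e2, hti]
  -- commutation of t with its conjugates
  have k1 : t * (c * t * c⁻¹) = c⁻¹ * t * c := by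
    calc t * (c * t * c⁻¹) = (t * c * t) * c⁻¹ := by group
      _ = c⁻¹ * t * (c⁻¹ * c⁻¹) := by rw [h2]; group
      _ = c⁻¹ * t * c := by rw [hcc]
  have k2 : (c * t * c⁻¹) * t = c⁻¹ * t * c := by
    calc (c * t * c⁻¹) * t = c * (t * c⁻¹ * t) := by group
      _ = c * (c * t * c) := by rw [h3]
      _ = (c * c) * t * c := by group
      _ = c⁻¹ * t * c := by rw [← hci]
  have k3 : t * (c⁻¹ * t * c) = c * t * c⁻¹ := by
    calc t * (c⁻¹ * t * c) = (t * c⁻¹ * t) * c := by group
      _ = c * t * (c * c) := by rw [h3]; group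
      _ = c * t * c⁻¹ := by rw [← hci]
  have k4 : (c⁻¹ * t * c) * t = c * t * c⁻¹ := by
    calc (c⁻¹ * t * c) * t = c⁻¹ * (t * c * t) := by group
      _ = (c⁻¹ * c⁻¹) * t * c⁻¹ := by rw [h2]; group
      _ = c * t * c⁻¹ := by rw [hcc]
  have k5 : (c * t * c⁻¹) * (c⁻¹ * t * c) = (c⁻¹ * t * c) * (c * t * c⁻¹) := by
    have e1 : (c * t * c⁻¹) * (c⁻¹ * t * c) = c * (t * (c⁻¹ * c⁻¹) * t) * c := by group
    have e2 : (c⁻¹ * t * c) * (c * t * c⁻¹) = c⁻¹ * (t * (c * c) * t) * c⁻¹ := by group
    rw [e1, e2, hcc, ← hci, h2, h3]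
    calc c * (c⁻¹ * t * c⁻¹) * c = t := by group
      _ = c⁻¹ * (c * t * c) * c⁻¹ := by group
  have hcomm : ∀ a ∈ kleinSet c t, ∀ b ∈ kleinSet c t, a * b = b * a := by
    intro a ha b hb
    simp only [kleinSet, Set.mem_insert_iff, Set.mem_singleton_iff] at ha hb
    rcases ha with rfl | rfl | rfl <;> rcases hb with rfl | rfl | rfl
    · rfl
    · rw [k1, k2]
    · rw [k3, k4]
    · rw [k1, k2]
    · rfl
    · exact k5
    · rw [k3, k4]
    · exact k5.symm
    · rfl
  have m1 : t ∈ kleinSet c t := by simp [kleinSet]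
  have m2 : c * t * c⁻¹ ∈ kleinSet c t := by simp [kleinSet]
  have m3 : c⁻¹ * t * c ∈ kleinSet c t := by simp [kleinSet]
  refine ⟨closure_comm _ hcomm, ?_, ?_⟩
  · apply mem_normalizer_closure
    · intro s hs
      simp only [kleinSet, Set.mem_insert_iff, Set.mem_singleton_iff] at hs
      apply Subgroup.subset_closure
      rcases hs with hs | hs | hs
      · rw [hs]; exact m2
      · have : c * s * c⁻¹ = c⁻¹ * t * c := by
          rw [hs]
          calc c * (c * t * c⁻¹) * c⁻¹ = (c * c) * t * (c⁻¹ * c⁻¹) := by group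
            _ = c⁻¹ * t * c := by rw [← hci, hcc]
        rw [this]; exact m3
      · have : c * s * c⁻¹ = t := by rw [hs]; group
        rw [this]; exact m1
    · intro s hs
      simp only [kleinSet, Set.mem_insert_iff, Set.mem_singleton_iff] at hs
      apply Subgroup.subset_closure
      rcases hs with hs | hs | hs
      · rw [hs]; exact m3
      · have : c⁻¹ * s * c = t := by rw [hs]; group
        rw [this]; exact m1
      · have : c⁻¹ * s * c = c * t * c⁻¹ := by
          rw [hs]
          calc c⁻¹ * (c⁻¹ * t * c) * c = (c⁻¹ * c⁻¹) * t * (c * c) := by group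
            _ = c * t * c⁻¹ := by rw [← hci, hcc]
        rw [this]; exact m2
  · apply mem_normalizer_closure
    · intro s hs
      have := hcomm t m1 s hs
      have e : t * s * t⁻¹ = s := by rw [this]; group
      rw [e]
      exact Subgroup.subset_closure hs
    · intro s hs
      have := hcomm t m1 s hs
      have e : t⁻¹ * s * t = s := by rw [mul_assoc, ← this]; group
      rw [e]
      exact Subgroup.subset_closure hs

end grp


section small

theorem dihedral_rel {k : ℕ} (a b : DihedralGroup k) :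
    a * b = b * a ∨ b * a * b⁻¹ = a⁻¹ ∨ a * b * a⁻¹ = b⁻¹ ∨ (a ^ 2 = 1 ∧ b ^ 2 = 1) := by
  cases a with
  | r i =>
    cases b with
    | r j =>
      left
      rw [DihedralGroup.r_mul_r, DihedralGroup.r_mul_r, add_comm]
    | sr j =>
      right; left
      rw [DihedralGroup.inv_sr, DihedralGroup.sr_mul_r, DihedralGroup.sr_mul_sr,
        DihedralGroup.inv_r]
      congr 1
      ring
  | sr i =>
    cases b with
    | r j =>
      right; right; left
      rw [DihedralGroup.inv_sr, DihedralGroup.sr_mul_r, DihedralGroup.sr_mul_sr,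
        DihedralGroup.inv_r]
      congr 1
      ring
    | sr j =>
      right; right; right
      constructor
      · rw [pow_two, DihedralGroup.sr_mul_sr, sub_self, DihedralGroup.one_def]
      · rw [pow_two, DihedralGroup.sr_mul_sr, sub_self, DihedralGroup.one_def]

set_option maxRecDepth 1000000 in
theorem A4_rel_sq : ∀ a b : alternatingGroup (Fin 4), a ^ 2 = 1 →
    a * b = b * a ∨ (b ^ 3 = 1 ∧ (a * b) ^ 3 = 1) := by decide

set_option maxRecDepth 1000000 in
theorem A4_rel_cube : ∀ a b : alternatingGroup (Fin 4), a ^ 3 = 1 →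
    a * b = b * a ∨ (b ^ 2 = 1 ∧ (a * b) ^ 3 = 1) ∨ ((a * b) ^ 2 = 1 ∧ (a * a * b) ^ 3 = 1) ∨
      ((a * a * b) ^ 2 = 1 ∧ b ^ 3 = 1) := by decide

set_option maxRecDepth 1000000 in
theorem A4_sq_or_cube : ∀ σ : alternatingGroup (Fin 4), σ ^ 2 = 1 ∨ σ ^ 3 = 1 := by
  decide

end small

end Cfsg.Agent.Lib.Helper9.PU
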