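import Mathlib
import Cfsg.Agent.Lib.Helper9.PU1
import Cfsg.Agent.Lib.Helper5.SL2Char2d
import Cfsg.Agent.Lib.Helper2.DSubM3
import Cfsg.Agent.Lib.Helper9.POD4
import Cfsg.Agent.S0251

set_option autoImplicit false
set_option linter.unusedSectionVars false

/-!
# Solubilizers in `PSL₂(3^p)`: arithmetic and basic facts
-/

namespace Cfsg.Agent.Lib.Helper9.PU

open Matrix Cfsg.Agent.Lib.Helper2 Cfsg.Agent.Lib.Helper2.DSub

section arith

theorem pow3_eq (p : ℕ) (hodd : Odd p) : ∃ k, 3 ^ p = 3 * 9 ^ k := by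
  obtain ⟨k, rfl⟩ := hodd
  refine ⟨k, ?_⟩
  rw [pow_succ, pow_mul, mul_comm]
  norm_num

theorem pow3_mod8 (p : ℕ) (hodd : Odd p) : 3 ^ p % 8 = 3 := by
  obtain ⟨k, hk⟩ := pow3_eq p hodd
  rw [hk, Nat.mul_mod, Nat.pow_mod]
  norm_num

theorem pow3_mod5 (p : ℕ) (hodd : Odd p) : 3 ^ p % 5 = 3 ∨ 3 ^ p % 5 = 2 := by
  obtain ⟨k, hk⟩ := pow3_eq p hodd
  have h9 : ∀ k : ℕ, 9 ^ k % 5 = 1 ∨ 9 ^ k % 5 = 4 := by
    intro k
    induction k with
    | zero => left; norm_num
    | succ n ih =>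
      rw [pow_succ, Nat.mul_mod]
      rcases ih with h | h <;> rw [h] <;> norm_num
  rw [hk, Nat.mul_mod]
  rcases h9 k with h | h <;> rw [h] <;> norm_num

theorem pow3_ge (p : ℕ) (hp : p.Prime) (hodd : Odd p) : 27 ≤ 3 ^ p := by
  have h3 : 3 ≤ p := by
    rcases hp.eq_two_or_odd with h | h
    · exfalso; rw [h] at hodd; exact absurd hodd (by decide)
    · have := hp.two_le
      omega
  calc 27 = 3 ^ 3 := by norm_num
    _ ≤ 3 ^ p := Nat.pow_le_pow_right (by norm_num) h3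

theorem not_five_dvd (q : ℕ) (hq : q % 5 = 3 ∨ q % 5 = 2) : ¬ 5 ∣ q * (q - 1) * (q + 1) := by
  intro h
  have h5 : Nat.Prime 5 := by norm_num
  rcases (Nat.Prime.dvd_mul h5).mp h with h | h
  · rcases (Nat.Prime.dvd_mul h5).mp h with h | h
    · omega
    · omega
  · omega

theorem not_sixteen_dvd (q : ℕ) (hq : q % 8 = 3) : ¬ 16 ∣ q * (q - 1) * (q + 1) := by
  intro h
  obtain ⟨m, hm⟩ : ∃ m, q = 8 * m + 3 := ⟨q / 8, by omega⟩
  subst hm
  have e1 : 8 * m + 3 - 1 = 2 * (4 * m + 1) := by omega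
  have e2 : 8 * m + 3 + 1 = 4 * (2 * m + 1) := by omega
  rw [e1, e2] at h
  have e3 : (8 * m + 3) * (2 * (4 * m + 1)) * (4 * (2 * m + 1)) =
      8 * ((8 * m + 3) * (4 * m + 1) * (2 * m + 1)) := by ring
  rw [e3] at h
  have h2 : 2 ∣ (8 * m + 3) * (4 * m + 1) * (2 * m + 1) := by
    have : 16 = 8 * 2 := by norm_num
    rw [this] at h
    exact Nat.dvd_of_mul_dvd_mul_left (by norm_num) h
  have h2p : Nat.Prime 2 := Nat.prime_two
  rcases (Nat.Prime.dvd_mul h2p).mp h2 with h | h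
  · rcases (Nat.Prime.dvd_mul h2p).mp h with h | h
    · omega
    · omega
  · omega

end arith

section field

variable {F : Type*} [Field F] [Fintype F]

theorem three_eq_zero (p : ℕ) (hp : p.Prime) (hF : Fintype.card F = 3 ^ p) : (3 : F) = 0 := by
  have h := Nat.cast_card_eq_zero F
  rw [hF] at h
  push_cast at h
  exact (pow_eq_zero_iff hp.ne_zero).1 h

theorem charP_three (h3 : (3 : F) = 0) : CharP F 3 := by
  obtain ⟨c, hc⟩ := CharP.exists F
  have hcp : c.Prime := by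
    haveI := hc
    exact CharP.char_is_prime F c
  have : (c : ℕ) ∣ 3 := by
    haveI := hc
    rw [← CharP.cast_eq_zero_iff F c 3]
    exact_mod_cast h3
  have h3p : Nat.Prime 3 := by norm_num
  rcases (Nat.dvd_prime h3p).mp this with h | h
  · exact absurd h hcp.one_lt.ne'
  · rw [h] at hc; exact hc

theorem neg_one_nonsq (p : ℕ) (hodd : Odd p) (hF : Fintype.card F = 3 ^ p) :
    ∀ a : F, a ^ 2 ≠ -1 := by
  intro a ha
  have h : IsSquare (-1 : F) := ⟨a, by rw [← ha, pow_two]⟩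
  rw [FiniteField.isSquare_neg_one_iff, hF] at h
  have h8 := pow3_mod8 p hodd
  omega

theorem two_ne_zero3 (h3 : (3 : F) = 0) : (2 : F) ≠ 0 := by
  intro h
  have : (1 : F) = 0 := by linear_combination h3 - h
  exact one_ne_zero this

end field


section psl

variable {F : Type*} [Field F] [Fintype F]

local notation "PSL" => ProjectiveSpecialLinearGroup (Fin 2) F

/-- the standing hypotheses: `|F| = 3 ^ p` with `p` an odd prime -/
structure Std (F : Type*) [Field F] [Fintype F] (p : ℕ) : Prop where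
  hp : p.Prime
  hodd : Odd p
  hF : Fintype.card F = 3 ^ p

variable {p : ℕ}

theorem Std.h3 (S : Std F p) : (3 : F) = 0 := three_eq_zero p S.hp S.hF

theorem Std.hm1 (S : Std F p) : ∀ a : F, a ^ 2 ≠ -1 := neg_one_nonsq p S.hodd S.hF

theorem Std.h2 (S : Std F p) : (2 : F) ≠ 0 := two_ne_zero3 S.h3

theorem Std.card_ge (S : Std F p) : 27 ≤ Fintype.card F := by
  rw [S.hF]; exact pow3_ge p S.hp S.hodd

theorem Std.simple (S : Std F p) : IsSimpleGroup PSL :=
  Cfsg.Agent.Lib.Helper9.PO.simple_psl_odd (by have := S.card_ge; omega)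

theorem Std.noncomm (S : Std F p) : ∃ a b : PSL, a * b ≠ b * a :=
  psl_not_comm (by have := S.card_ge; omega)

theorem Std.proper_sol (S : Std F p) (K : Subgroup PSL) (hK : K ≠ ⊤) : Group.IsSolvable K := by
  haveI : Fact (Nat.Prime 3) := ⟨by norm_num⟩
  haveI := charP_three S.h3
  apply proper_solvable 3 p S.hF (Or.inr ⟨S.hp, Or.inr rfl⟩) _ K hK
  left
  rw [S.hF]
  exact not_five_dvd _ (pow3_mod5 p S.hodd)

theorem Std.ne_top_of_sol (S : Std F p) (K : Subgroup PSL) (hs : Group.IsSolvable K) : K ≠ ⊤ := by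
  intro h
  subst h
  apply psl_not_solvable (F := F) (by have := S.card_ge; omega)
  exact solvable_of_surjective (f := (Subgroup.topEquiv (G := PSL)).toMonoidHom)
    (Subgroup.topEquiv (G := PSL)).surjective

theorem Std.sol_of_le (S : Std F p) (K : Subgroup PSL) (hK : K ≠ ⊤) (x y : PSL) (hx : x ∈ K)
    (hy : y ∈ K) : Group.IsSolvable (Subgroup.closure ({x, y} : Set PSL)) :=
  Cfsg.Agent.Lib.Helper5.SL2Char2.solvable_closure_of_mem K (S.proper_sol K hK) x y hx hy

/-- two elements normalizing a nontrivial abelian subgroup generate a solvable group -/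
theorem Std.sol_of_normalizes (S : Std F p) (A : Subgroup PSL)
    (hA : ∀ a ∈ A, ∀ b ∈ A, a * b = b * a) (hne : A ≠ ⊥) (x y : PSL)
    (hx : x ∈ Subgroup.normalizer (A : Set PSL)) (hy : y ∈ Subgroup.normalizer (A : Set PSL)) :
    Group.IsSolvable (Subgroup.closure ({x, y} : Set PSL)) := by
  haveI := S.simple
  exact S.sol_of_le _ (normalizer_ne_top S.noncomm A hA hne) x y hx hy

theorem Std.sol_iff (S : Std F p) (x y : PSL) :
    Group.IsSolvable (Subgroup.closure ({x, y} : Set PSL)) ↔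
      Subgroup.closure ({x, y} : Set PSL) ≠ ⊤ :=
  ⟨S.ne_top_of_sol _, S.proper_sol _⟩

theorem Std.not_eight_dvd (S : Std F p) : ¬ 8 ∣ Nat.card PSL := by
  intro h
  have hG := Cfsg.Agent.Lib.Helper9.PO.card_G (F := F) S.h2
  have h16 : 16 ∣ Fintype.card F * (Fintype.card F - 1) * (Fintype.card F + 1) := by
    rw [← hG]
    have : 16 = 2 * 8 := by norm_num
    rw [this]
    exact Nat.mul_dvd_mul_left 2 h
  rw [S.hF] at h16
  exact not_sixteen_dvd _ (pow3_mod8 p S.hodd) h16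

theorem Std.not_five_dvd (S : Std F p) : ¬ 5 ∣ Nat.card PSL := by
  intro h
  have hG := Cfsg.Agent.Lib.Helper9.PO.card_G (F := F) S.h2
  have h5 : 5 ∣ Fintype.card F * (Fintype.card F - 1) * (Fintype.card F + 1) := by
    rw [← hG]
    exact Dvd.dvd.mul_left h 2
  rw [S.hF] at h5
  exact Cfsg.Agent.Lib.Helper9.PU.not_five_dvd _ (pow3_mod5 p S.hodd) h5

end psl

end Cfsg.Agent.Lib.Helper9.PU
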