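import Mathlib
import Cfsg.Agent.Lib.Helper9.PU2
import Cfsg.Agent.Lib.Helper2.SL2Four5

set_option autoImplicit false
set_option linter.unusedSectionVars false

/-!
# Solubilizers in `PSL₂(3^p)`: the relations, and relations imply solvability
-/

namespace Cfsg.Agent.Lib.Helper9.PU

open Matrix Cfsg.Agent.Lib.Helper2 Cfsg.Agent.Lib.Helper2.DSub
  Cfsg.Agent.Lib.Helper5 Cfsg.Agent.Lib.Helper5.PSL2Aut Cfsg.Agent.Lib.Helper5.SL2Char2

section

variable {F : Type*} [Field F]

local notation "SL" => SpecialLinearGroup (Fin 2) F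
local notation "PSL" => ProjectiveSpecialLinearGroup (Fin 2) F

theorem pi_eq_pi_iff (g h : SL) : pi g = pi h ↔ h = g ∨ h = -g :=
  Cfsg.Agent.Lib.Helper2.SL2Four.mk_eq_mk_iff g h

/-- the image of the upper triangular subgroup -/
def BorP : Subgroup PSL := (Bor : Subgroup SL).map pi

theorem pi_mem_BorP (M : SL) : pi M ∈ (BorP : Subgroup PSL) ↔ (M : Matrix (Fin 2) (Fin 2) F) 1 0 = 0 := by
  constructor
  · rintro ⟨M', hM', h⟩
    rw [SetLike.mem_coe, mem_Bor] at hM'
    have h' : pi M' = pi M := h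
    rw [pi_eq_pi_iff] at h'
    rcases h' with h' | h'
    · rw [h']; exact hM'
    · rw [h', Matrix.SpecialLinearGroup.coe_neg, Matrix.neg_apply, hM', neg_zero]
  · intro h
    exact ⟨M, h, rfl⟩

/-- the relations satisfied by a pair generating a proper subgroup -/
def Rel (x y : PSL) : Prop :=
  x * y = y * x ∨ y * x * y⁻¹ = x⁻¹ ∨ x * y * x⁻¹ = y⁻¹ ∨ (x ^ 2 = 1 ∧ y ^ 2 = 1) ∨
  (∃ g : PSL, g * x * g⁻¹ ∈ (BorP : Subgroup PSL) ∧ g * y * g⁻¹ ∈ (BorP : Subgroup PSL)) ∨
  (x ^ 2 = 1 ∧ y ^ 3 = 1 ∧ (x * y) ^ 3 = 1) ∨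
  (x ^ 3 = 1 ∧ ((y ^ 2 = 1 ∧ (x * y) ^ 3 = 1) ∨ ((x * y) ^ 2 = 1 ∧ (x * x * y) ^ 3 = 1) ∨
      ((x * x * y) ^ 2 = 1 ∧ y ^ 3 = 1)))

theorem Uplus_comm : ∀ a ∈ (Uplus : Subgroup PSL), ∀ b ∈ (Uplus : Subgroup PSL), a * b = b * a := by
  rintro _ ⟨t, rfl⟩ _ ⟨t', rfl⟩
  rw [← X_add, ← X_add, add_comm]

theorem Uplus_ne_bot : (Uplus : Subgroup PSL) ≠ ⊥ := by
  intro h
  have h1 : X (1 : F) ∈ (Uplus : Subgroup PSL) := ⟨1, rfl⟩
  rw [h, Subgroup.mem_bot, ← X_zero] at h1
  exact one_ne_zero (X_injective h1)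

theorem BorP_conj_mem (b : PSL) (hb : b ∈ (BorP : Subgroup PSL)) (n : PSL)
    (hn : n ∈ (Uplus : Subgroup PSL)) : b * n * b⁻¹ ∈ (Uplus : Subgroup PSL) := by
  obtain ⟨M, hM, rfl⟩ := hb
  obtain ⟨t, rfl⟩ := hn
  rw [SetLike.mem_coe, mem_Bor] at hM
  obtain ⟨a, b, c, d, h, rfl⟩ := exists_mk2 M
  have hc : c = 0 := by simpa [mk2_coe] using hM
  refine ⟨a ^ 2 * t, ?_⟩
  show X (a ^ 2 * t) = pi (mk2 a b c d h) * pi (xm t) * (pi (mk2 a b c d h))⁻¹
  rw [← map_inv, ← map_mul, ← map_mul, conj_xm_of_eq a b c d h hc t]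
  rfl

theorem BorP_le_normalizer :
    (BorP : Subgroup PSL) ≤ Subgroup.normalizer ((Uplus : Subgroup PSL) : Set PSL) := by
  intro b hb
  rw [Subgroup.mem_set_normalizer_iff]
  intro n
  constructor
  · exact BorP_conj_mem b hb n
  · intro h
    have := BorP_conj_mem b⁻¹ (Subgroup.inv_mem _ hb) _ h
    have e : b⁻¹ * (b * n * b⁻¹) * b⁻¹⁻¹ = n := by group
    rw [e] at this
    exact this

end

section

variable {F : Type*} [Field F] [Fintype F] {p : ℕ}

local notation "SL" => SpecialLinearGroup (Fin 2) F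
local notation "PSL" => ProjectiveSpecialLinearGroup (Fin 2) F

theorem Std.sol_of_comm (S : Std F p) (x y : PSL) (hx : x ≠ 1) (h : x * y = y * x) :
    Group.IsSolvable (Subgroup.closure ({x, y} : Set PSL)) := by
  apply S.sol_of_normalizes (Subgroup.zpowers x) (zpowers_comm x) (zpowers_ne_bot hx)
  · apply mem_normalizer_zpowers
    left; group
  · apply mem_normalizer_zpowers
    left
    rw [← h]; group

theorem Std.sol_of_233 (S : Std F p) (c t : PSL) (hc : c ^ 3 = 1) (ht : t ^ 2 = 1)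
    (hct : (c * t) ^ 3 = 1) (ht1 : t ≠ 1) (x y : PSL)
    (hx : x ∈ Subgroup.closure ({c, t} : Set PSL)) (hy : y ∈ Subgroup.closure ({c, t} : Set PSL)) :
    Group.IsSolvable (Subgroup.closure ({x, y} : Set PSL)) := by
  obtain ⟨h1, h2, h3⟩ := klein_facts c t hc ht hct
  have hle : Subgroup.closure ({c, t} : Set PSL) ≤
      Subgroup.normalizer ((Subgroup.closure (kleinSet c t) : Subgroup PSL) : Set PSL) := by
    rw [Subgroup.closure_le]
    intro z hz
    rcases hz with rfl | rfl
    · exact h2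
    · exact h3
  apply S.sol_of_normalizes _ h1 _ x y (hle hx) (hle hy)
  intro h
  have : t ∈ Subgroup.closure (kleinSet c t) := Subgroup.subset_closure (by simp [kleinSet])
  rw [h, Subgroup.mem_bot] at this
  exact ht1 this

theorem Std.sol_of_rel (S : Std F p) (x y : PSL) (hx : x ≠ 1) (h : Rel x y) :
    Group.IsSolvable (Subgroup.closure ({x, y} : Set PSL)) := by
  rcases h with h | h | h | ⟨h1, h2⟩ | ⟨g, h1, h2⟩ | ⟨h1, h2, h3⟩ | ⟨h1, h⟩
  · exact S.sol_of_comm x y hx h
  · apply S.sol_of_normalizes (Subgroup.zpowers x) (zpowers_comm x) (zpowers_ne_bot hx)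
    · apply mem_normalizer_zpowers
      left; group
    · exact mem_normalizer_zpowers (Or.inr h)
  · by_cases hy : y = 1
    · apply S.sol_of_comm x y hx
      rw [hy, mul_one, one_mul]
    · apply S.sol_of_normalizes (Subgroup.zpowers y) (zpowers_comm y) (zpowers_ne_bot hy)
      · exact mem_normalizer_zpowers (Or.inr h)
      · apply mem_normalizer_zpowers
        left; group
  · have hxi : x⁻¹ = x := by
      apply inv_eq_of_mul_eq_one_right
      rw [← pow_two, h1]
    have hyi : y⁻¹ = y := by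
      apply inv_eq_of_mul_eq_one_right
      rw [← pow_two, h2]
    by_cases ha : x * y = 1
    · apply S.sol_of_comm x y hx
      have : y = x := by
        rw [← hxi]; exact (eq_inv_of_mul_eq_one_right ha)
      rw [this]
    · apply S.sol_of_normalizes (Subgroup.zpowers (x * y)) (zpowers_comm _) (zpowers_ne_bot ha)
      · apply mem_normalizer_zpowers
        right
        rw [_root_.mul_inv_rev, hxi, hyi]
        calc x * (x * y) * x = (x * x) * y * x := by group
          _ = y * x := by rw [← pow_two, h1, one_mul]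
      · apply mem_normalizer_zpowers
        right
        rw [_root_.mul_inv_rev, hxi, hyi]
        calc y * (x * y) * y = y * x * (y * y) := by group
          _ = y * x := by rw [← pow_two, h2, mul_one]
  · rw [solvable_closure_conj g x y]
    exact S.sol_of_normalizes Uplus Uplus_comm Uplus_ne_bot _ _ (BorP_le_normalizer h1)
      (BorP_le_normalizer h2)
  · -- c = y, t = x
    have hyx : (y * x) ^ 3 = 1 := by
      have e : y * x = x⁻¹ * (x * y) * x⁻¹⁻¹ := by group
      rw [e, conj_pow, h3]; group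
    apply S.sol_of_233 y x h2 h1 hyx hx
    · exact Subgroup.subset_closure (by simp)
    · exact Subgroup.subset_closure (by simp)
  · have hxm : ∀ t : PSL, x ∈ Subgroup.closure ({x, t} : Set PSL) :=
      fun t => Subgroup.subset_closure (by simp)
    have htm : ∀ t : PSL, t ∈ Subgroup.closure ({x, t} : Set PSL) :=
      fun t => Subgroup.subset_closure (by simp)
    rcases h with ⟨h2, h3⟩ | ⟨h2, h3⟩ | ⟨h2, h3⟩
    · by_cases hy : y = 1
      · apply S.sol_of_comm x y hx
        rw [hy, mul_one, one_mul]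
      · exact S.sol_of_233 x y h1 h2 h3 hy x y (hxm y) (htm y)
    · by_cases ht : x * y = 1
      · apply S.sol_of_comm x y hx
        have : y = x⁻¹ := eq_inv_of_mul_eq_one_right ht
        rw [this]; group
      · have h3' : (x * (x * y)) ^ 3 = 1 := by rw [← mul_assoc]; exact h3
        apply S.sol_of_233 x (x * y) h1 h2 h3' ht x y (hxm _)
        have hmem : x⁻¹ * (x * y) ∈ Subgroup.closure ({x, x * y} : Set PSL) :=
          Subgroup.mul_mem _ (Subgroup.inv_mem _ (hxm _)) (htm _)
        have e : x⁻¹ * (x * y) = y := by group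
        rw [e] at hmem
        exact hmem
    · by_cases ht : x * x * y = 1
      · apply S.sol_of_comm x y hx
        have : y = (x * x)⁻¹ := eq_inv_of_mul_eq_one_right ht
        rw [this]; group
      · have h3' : (x * (x * x * y)) ^ 3 = 1 := by
          have : x * (x * x * y) = x ^ 3 * y := by
            rw [pow_succ, pow_two]; group
          rw [this, h1, one_mul, h3]
        apply S.sol_of_233 x (x * x * y) h1 h2 h3' ht x y (hxm _)
        have hmem : x⁻¹ * x⁻¹ * (x * x * y) ∈ Subgroup.closure ({x, x * x * y} : Set PSL) :=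
          Subgroup.mul_mem _ (Subgroup.mul_mem _ (Subgroup.inv_mem _ (hxm _))
            (Subgroup.inv_mem _ (hxm _))) (htm _)
        have e : x⁻¹ * x⁻¹ * (x * x * y) = y := by group
        rw [e] at hmem
        exact hmem

end

end Cfsg.Agent.Lib.Helper9.PU
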