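import Mathlib
import Cfsg.Agent.Lib.Helper9.PU3

set_option autoImplicit false
set_option linter.unusedSectionVars false

/-!
# Solubilizers in `PSL₂(3^p)`: solvability implies the relations (via Dickson's theorem)
-/

namespace Cfsg.Agent.Lib.Helper9.PU

open Matrix Cfsg.Agent.Lib.Helper2 Cfsg.Agent.Lib.Helper2.DSub
  Cfsg.Agent.Lib.Helper5 Cfsg.Agent.Lib.Helper5.PSL2Aut Cfsg.Agent.Lib.Helper5.SL2Char2

section

variable {F : Type*} [Field F]

local notation "SL" => SpecialLinearGroup (Fin 2) F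
local notation "PSL" => ProjectiveSpecialLinearGroup (Fin 2) F

theorem mem_BorP_of_conj_X (b : PSL) (t₀ t₁ : F) (ht : t₀ ≠ 0) (h : b * X t₀ * b⁻¹ = X t₁) :
    b ∈ (BorP : Subgroup PSL) := by
  obtain ⟨M, rfl⟩ := pi_surjective b
  rw [pi_mem_BorP]
  have h' : pi (M * xm t₀ * M⁻¹) = pi (xm t₁) := by
    rw [map_mul, map_mul, map_inv]
    exact h
  have h0 : ((M * xm t₀ * M⁻¹ : SL) : Matrix (Fin 2) (Fin 2) F) 1 0 = 0 := by
    rw [pi_eq_pi_iff] at h'
    have hx : ((xm t₁ : SL) : Matrix (Fin 2) (Fin 2) F) 1 0 = 0 := by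
      unfold xm; rw [mk2_coe]; simp
    rcases h' with h' | h'
    · rw [← h']; exact hx
    · rw [h', Matrix.SpecialLinearGroup.coe_neg, Matrix.neg_apply] at hx
      exact neg_eq_zero.mp hx
  rw [conj_lower] at h0
  have e : ((xm t₀ : SL) : Matrix (Fin 2) (Fin 2) F) = !![1, t₀; 0, 1] := by
    unfold xm; rw [mk2_coe]
  rw [e] at h0
  simp at h0
  rcases h0 with h0 | h0
  · exact absurd h0 ht
  · exact h0

theorem rel_of_cyclic (H : Subgroup PSL) (hc : IsCyclic H) (x y : PSL) (hx : x ∈ H) (hy : y ∈ H) :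
    Rel x y := by
  left
  obtain ⟨g, hg⟩ := IsCyclic.exists_generator (α := H)
  obtain ⟨i, hi⟩ := Subgroup.mem_zpowers_iff.mp (hg ⟨x, hx⟩)
  obtain ⟨j, hj⟩ := Subgroup.mem_zpowers_iff.mp (hg ⟨y, hy⟩)
  have : (⟨x, hx⟩ : H) * ⟨y, hy⟩ = ⟨y, hy⟩ * ⟨x, hx⟩ := by
    rw [← hi, ← hj, ← _root_.zpow_add, ← _root_.zpow_add, add_comm]
  exact congrArg Subtype.val this

theorem rel_of_dihedral (H : Subgroup PSL) (k : ℕ) (e : H ≃* DihedralGroup k) (x y : PSL)
    (hx : x ∈ H) (hy : y ∈ H) : Rel x y := by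
  have tr : ∀ a b : H, e a = e b → (a : PSL) = b := fun a b h => congrArg Subtype.val (e.injective h)
  rcases dihedral_rel (e ⟨x, hx⟩) (e ⟨y, hy⟩) with h | h | h | ⟨h1, h2⟩
  · left
    rw [← map_mul, ← map_mul] at h
    exact tr _ _ h
  · right; left
    rw [← map_inv, ← map_inv, ← map_mul, ← map_mul] at h
    exact tr _ _ h
  · right; right; left
    rw [← map_inv, ← map_inv, ← map_mul, ← map_mul] at h
    exact tr _ _ h
  · right; right; right; left
    rw [← map_pow, ← map_one e] at h1 h2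
    exact ⟨tr _ _ h1, tr _ _ h2⟩

theorem rel_of_A4 (H : Subgroup PSL) (e : H ≃* alternatingGroup (Fin 4)) (x y : PSL)
    (hx : x ∈ H) (hy : y ∈ H) : Rel x y := by
  have tr : ∀ a b : H, e a = e b → (a : PSL) = b := fun a b h => congrArg Subtype.val (e.injective h)
  rcases A4_sq_or_cube (e ⟨x, hx⟩) with h | h
  · rcases A4_rel_sq (e ⟨x, hx⟩) (e ⟨y, hy⟩) h with h' | ⟨h1, h2⟩
    · left
      rw [← map_mul, ← map_mul] at h'
      exact tr _ _ h'
    · right; right; right; right; right; left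
      rw [← map_pow, ← map_one e] at h h1
      rw [← map_mul, ← map_pow, ← map_one e] at h2
      exact ⟨tr _ _ h, tr _ _ h1, tr _ _ h2⟩
  · rcases A4_rel_cube (e ⟨x, hx⟩) (e ⟨y, hy⟩) h with h' | ⟨h1, h2⟩ | ⟨h1, h2⟩ | ⟨h1, h2⟩
    · left
      rw [← map_mul, ← map_mul] at h'
      exact tr _ _ h'
    · right; right; right; right; right; right
      rw [← map_pow, ← map_one e] at h h1
      rw [← map_mul, ← map_pow, ← map_one e] at h2
      exact ⟨tr _ _ h, Or.inl ⟨tr _ _ h1, tr _ _ h2⟩⟩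
    · right; right; right; right; right; right
      rw [← map_pow, ← map_one e] at h
      rw [← map_mul, ← map_pow, ← map_one e] at h1
      rw [← map_mul, ← map_mul, ← map_pow, ← map_one e] at h2
      exact ⟨tr _ _ h, Or.inr (Or.inl ⟨tr _ _ h1, tr _ _ h2⟩)⟩
    · right; right; right; right; right; right
      rw [← map_pow, ← map_one e] at h h2
      rw [← map_mul, ← map_mul, ← map_pow, ← map_one e] at h1
      exact ⟨tr _ _ h, Or.inr (Or.inr ⟨tr _ _ h1, tr _ _ h2⟩)⟩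

end

section

variable {F : Type*} [Field F] [Fintype F] {p : ℕ}

local notation "SL" => SpecialLinearGroup (Fin 2) F
local notation "PSL" => ProjectiveSpecialLinearGroup (Fin 2) F

theorem Std.rel_of_sylow (S : Std F p) [Fact (Nat.Prime 3)] [CharP F 3]
    (H : Subgroup PSL) (P : Sylow 3 PSL)
    (hP : H ≤ Subgroup.normalizer ((P : Subgroup PSL) : Set PSL)) (x y : PSL)
    (hx : x ∈ H) (hy : y ∈ H) : Rel x y := by
  haveI := finite_psl (F := F)
  have hf : 1 ≤ p := S.hp.one_lt.le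
  obtain ⟨g, hg⟩ := exists_conj_of_isPGroup hf S.hF (P : Subgroup PSL) P.isPGroup'
  have hne : (P : Subgroup PSL) ≠ ⊥ := by
    intro h
    have h1 := card_sylow_psl (p := 3) P
    have h2 : Nat.card (P : Subgroup PSL) = 1 := by rw [h, Subgroup.card_bot]
    have h3 := S.card_ge
    have h4 : Nat.card (P : Subgroup PSL) = Fintype.card F := h1
    omega
  obtain ⟨⟨k₀, hk₀⟩, hk1⟩ := (Subgroup.ne_bot_iff_exists_ne_one).mp hne
  have hk1' : k₀ ≠ 1 := fun h => hk1 (Subtype.ext h)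
  obtain ⟨t₀, ht₀⟩ := hg k₀ hk₀
  have ht0 : t₀ ≠ 0 := by
    rintro rfl
    apply hk1'
    rw [ht₀, X_zero]; group
  have key : ∀ h ∈ H, g⁻¹ * h * g⁻¹⁻¹ ∈ (BorP : Subgroup PSL) := by
    intro h hh
    have hn := hP hh
    rw [Subgroup.mem_set_normalizer_iff] at hn
    have h1 := (hn k₀).mp hk₀
    obtain ⟨t₁, ht₁⟩ := hg _ h1
    apply mem_BorP_of_conj_X _ t₀ t₁ ht0
    have e : g⁻¹ * h * g⁻¹⁻¹ * X t₀ * (g⁻¹ * h * g⁻¹⁻¹)⁻¹ =
        g⁻¹ * (h * (g * X t₀ * g⁻¹) * h⁻¹) * g := by group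
    rw [e, ← ht₀, ht₁]; group
  right; right; right; right; left
  exact ⟨g⁻¹, key x hx, key y hy⟩

theorem Std.rel_of_ne_top (S : Std F p) (H : Subgroup PSL) (hH : H ≠ ⊤) (x y : PSL)
    (hx : x ∈ H) (hy : y ∈ H) : Rel x y := by
  haveI : Fact (Nat.Prime 3) := ⟨by norm_num⟩
  haveI := charP_three S.h3
  haveI := finite_psl (F := F)
  have hG := Cfsg.Agent.Lib.Helper9.PO.card_G (F := F) S.h2
  have hne : Nat.card H ≠ Nat.card PSL := by
    intro h
    exact hH ((Subgroup.card_eq_iff_eq_top H).mp h)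
  have hq27 := S.card_ge
  rcases dickson_psl_concrete 3 H with ⟨k, hk, hH'⟩ | ⟨P, hP⟩ | ⟨⟨e⟩⟩ | ⟨⟨e⟩⟩ | ⟨⟨e⟩⟩ |
    ⟨K, hKf, hKfin, m, hm, hiso⟩
  · rcases hH' with ⟨hcyc, -⟩ | ⟨⟨e⟩⟩
    · exact rel_of_cyclic H hcyc x y hx hy
    · exact rel_of_dihedral H k e x y hx hy
  · exact S.rel_of_sylow H P hP x y hx hy
  · exact rel_of_A4 H e x y hx hy
  · exfalso
    have h24 : Nat.card H = 24 := by rw [Nat.card_congr e.toEquiv, DSub.card_S4]
    have hdvd : 24 ∣ Nat.card PSL := by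
      rw [← h24]; exact Subgroup.card_subgroup_dvd_card H
    exact S.not_eight_dvd ((Dvd.intro _ rfl : 8 ∣ 8 * 3).trans hdvd)
  · exfalso
    have h60 : Nat.card H = 60 := by rw [Nat.card_congr e.toEquiv, DSub.card_A5]
    have hdvd : 60 ∣ Nat.card PSL := by
      rw [← h60]; exact Subgroup.card_subgroup_dvd_card H
    exact S.not_five_dvd ((Dvd.intro _ rfl : 5 ∣ 5 * 12).trans hdvd)
  · have hq₀ : 2 ≤ Fintype.card K := Fintype.one_lt_card
    have hK := card_psl_two (F := K)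
    have hK' := card_pgl_two (K := K)
    have hm0 : m ≠ 0 := by
      rintro rfl
      rw [pow_zero] at hm; omega
    have hdvd : Fintype.card K ∣ 3 ^ p := by
      rw [← S.hF, ← hm]; exact dvd_pow_self _ hm0
    have h3p : Nat.Prime 3 := by norm_num
    obtain ⟨e, hen, he⟩ := (Nat.dvd_prime_pow h3p).mp hdvd
    have hem : e * m = p := by
      have : 3 ^ (e * m) = 3 ^ p := by rw [pow_mul, ← he, hm, S.hF]
      exact Nat.pow_right_injective (le_refl 2 |>.trans (by norm_num)) this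
    have hcases : m = 1 ∨ e = 1 := by
      have h1 : e ∣ p := Dvd.intro _ hem
      rcases (Nat.dvd_prime S.hp).mp h1 with h | h
      · right; exact h
      · left
        rw [h] at hem
        have : p * m = p * 1 := by rw [hem, mul_one]
        exact Nat.eq_of_mul_eq_mul_left S.hp.pos this
    have hgcd : Nat.gcd 2 (Fintype.card F - 1) = 2 := (gcd_two_of_odd S.h2).1
    rcases hcases with rfl | rfl
    · exfalso
      rw [pow_one] at hm
      rcases hiso with ⟨⟨f⟩⟩ | ⟨⟨f⟩⟩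
      · rw [← Nat.card_congr f.toEquiv, hm, ← hG] at hK
        rw [hgcd] at hK
        exact hne (Nat.eq_of_mul_eq_mul_left (by norm_num) hK)
      · rw [← Nat.card_congr f.toEquiv, hm, ← hG] at hK'
        have hle := Subgroup.card_le_card_group H
        have : 0 < Nat.card PSL := Nat.card_pos
        omega
    · rw [pow_one] at he
      rcases hiso with ⟨⟨f⟩⟩ | ⟨⟨f⟩⟩
      · obtain ⟨f'⟩ := Cfsg.Agent.S0251.result (F := K) he
        exact rel_of_A4 H (f.trans f') x y hx hy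
      · exfalso
        rw [← Nat.card_congr f.toEquiv, he] at hK'
        have h24 : Nat.card H = 24 := by rw [hK']
        have hdvd : 24 ∣ Nat.card PSL := by
          rw [← h24]; exact Subgroup.card_subgroup_dvd_card H
        exact S.not_eight_dvd ((Dvd.intro _ rfl : 8 ∣ 8 * 3).trans hdvd)

theorem Std.rel_of_sol (S : Std F p) (x y : PSL)
    (hs : Group.IsSolvable (Subgroup.closure ({x, y} : Set PSL))) : Rel x y :=
  S.rel_of_ne_top _ (S.ne_top_of_sol _ hs) x y (Subgroup.subset_closure (by simp))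
    (Subgroup.subset_closure (by simp))

theorem Std.sol_iff_rel (S : Std F p) (x y : PSL) (hx : x ≠ 1) :
    Group.IsSolvable (Subgroup.closure ({x, y} : Set PSL)) ↔ Rel x y :=
  ⟨S.rel_of_sol x y, S.sol_of_rel x y hx⟩

end

end Cfsg.Agent.Lib.Helper9.PU
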