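import Mathlib
import Cfsg.Agent.Lib.Helper9.PU4
import Cfsg.Agent.Lib.Helper9.PO3

set_option autoImplicit false
set_option linter.unusedSectionVars false

/-!
# Solubilizers in `PSL₂(3^p)`: matrix translations of the relations
-/

namespace Cfsg.Agent.Lib.Helper9.PU

open Matrix Cfsg.Agent.Lib.Helper2 Cfsg.Agent.Lib.Helper2.DSub Cfsg.Agent.Lib.Helper2.SL2A5
  Cfsg.Agent.Lib.Helper5 Cfsg.Agent.Lib.Helper5.PSL2Aut Cfsg.Agent.Lib.Helper5.SL2Char2

section

variable {F : Type*} [Field F]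

local notation "SL" => SpecialLinearGroup (Fin 2) F
local notation "PSL" => ProjectiveSpecialLinearGroup (Fin 2) F

theorem pi_sq_eq_one_iff (N : SL) :
    (pi N) ^ 2 = 1 ↔ (N : Matrix (Fin 2) (Fin 2) F).trace = 0 ∨ pi N = 1 := by
  constructor
  · intro h
    by_cases h1 : pi N = 1
    · exact Or.inr h1
    · exact Or.inl (Cfsg.Agent.Lib.Helper9.PO.trace_of_sq N h1 h)
  · rintro (h | h)
    · rw [← map_pow, pow_two, sq_of_trace_zero h]
      exact Cfsg.Agent.Lib.Helper9.PO.pi_neg_one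
    · rw [h, one_pow]

theorem pi_cube_eq_one_iff (h3 : (3 : F) = 0) (N : SL) :
    (pi N) ^ 3 = 1 ↔ (N : Matrix (Fin 2) (Fin 2) F).trace ^ 2 = 1 := by
  constructor
  · intro h
    by_cases h1 : pi N = 1
    · rw [Cfsg.Agent.Lib.Helper9.PO.pi_eq_one_iff] at h1
      rcases h1 with rfl | rfl
      · rw [Matrix.SpecialLinearGroup.coe_one, Matrix.trace_one, Fintype.card_fin]
        push_cast
        linear_combination h3
      · rw [Matrix.SpecialLinearGroup.coe_neg, Matrix.SpecialLinearGroup.coe_one, Matrix.trace_neg,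
          Matrix.trace_one, Fintype.card_fin]
        push_cast
        linear_combination h3
    · rcases Cfsg.Agent.Lib.Helper9.PO.trace_of_cube N h1 h with h | h <;> rw [h] <;> ring
  · intro h
    have h2 := sq_eq N
    have hp := pow3 h2
    rw [h, sub_self, zero_smul, zero_sub] at hp
    have hf : ((N : Matrix (Fin 2) (Fin 2) F).trace - 1) *
        ((N : Matrix (Fin 2) (Fin 2) F).trace + 1) = 0 := by linear_combination h
    rw [← map_pow, Cfsg.Agent.Lib.Helper9.PO.pi_eq_one_iff]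
    rcases mul_eq_zero.mp hf with h1 | h1
    · right
      apply Subtype.ext
      rw [Matrix.SpecialLinearGroup.coe_pow, hp, Matrix.SpecialLinearGroup.coe_neg,
        Matrix.SpecialLinearGroup.coe_one]
      have : (N : Matrix (Fin 2) (Fin 2) F).trace = 1 := by linear_combination h1
      rw [this, one_smul]
    · left
      apply Subtype.ext
      rw [Matrix.SpecialLinearGroup.coe_pow, hp, Matrix.SpecialLinearGroup.coe_one]
      have : (N : Matrix (Fin 2) (Fin 2) F).trace = -1 := by linear_combination h1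
      rw [this, neg_smul, one_smul, neg_neg]

theorem borel_clause_iff (M N : SL) :
    (∃ g : PSL, g * pi M * g⁻¹ ∈ (BorP : Subgroup PSL) ∧ g * pi N * g⁻¹ ∈ (BorP : Subgroup PSL)) ↔
    ∃ c : SL, ((c * M * c⁻¹ : SL) : Matrix (Fin 2) (Fin 2) F) 1 0 = 0 ∧
      ((c * N * c⁻¹ : SL) : Matrix (Fin 2) (Fin 2) F) 1 0 = 0 := by
  constructor
  · rintro ⟨g, h1, h2⟩
    obtain ⟨c, rfl⟩ := pi_surjective g
    rw [← map_inv, ← map_mul, ← map_mul, pi_mem_BorP] at h1 h2
    exact ⟨c, h1, h2⟩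
  · rintro ⟨c, h1, h2⟩
    refine ⟨pi c, ?_, ?_⟩
    · rw [← map_inv, ← map_mul, ← map_mul, pi_mem_BorP]; exact h1
    · rw [← map_inv, ← map_mul, ← map_mul, pi_mem_BorP]; exact h2

theorem conj_lower_mk2 (c : SL) (α β γ δ : F) (h : α * δ - β * γ = 1) :
    ((c * mk2 α β γ δ h * c⁻¹ : SL) : Matrix (Fin 2) (Fin 2) F) 1 0 =
      γ * (c : Matrix (Fin 2) (Fin 2) F) 1 1 ^ 2 +
      (α - δ) * (c : Matrix (Fin 2) (Fin 2) F) 1 0 * (c : Matrix (Fin 2) (Fin 2) F) 1 1 -
      β * (c : Matrix (Fin 2) (Fin 2) F) 1 0 ^ 2 := by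
  rw [conj_lower, mk2_coe]
  simp

theorem det_entries (c : SL) :
    (c : Matrix (Fin 2) (Fin 2) F) 0 0 * (c : Matrix (Fin 2) (Fin 2) F) 1 1 -
      (c : Matrix (Fin 2) (Fin 2) F) 0 1 * (c : Matrix (Fin 2) (Fin 2) F) 1 0 = 1 := by
  have := c.det_coe
  rw [Matrix.det_fin_two] at this
  exact this

theorem pi_mk2_eq_one_iff (a b c d : F) (h : a * d - b * c = 1) :
    pi (mk2 a b c d h) = 1 ↔ (a = 1 ∧ b = 0 ∧ c = 0 ∧ d = 1) ∨ (a = -1 ∧ b = 0 ∧ c = 0 ∧ d = -1) := by
  have e : (1 : PSL) = pi (mk2 (1 : F) 0 0 1 (by ring)) := by rw [← mk2_one, map_one]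
  rw [e, pi_mk2_eq_iff]
  simp

end

end Cfsg.Agent.Lib.Helper9.PU
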