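import Mathlib
import Cfsg.Agent.Lib.Helper9.PU5

set_option autoImplicit false
set_option linter.unusedSectionVars false

/-!
# Solubilizers in `PSL₂(3^p)`: the solubilizer of an involution, as a set of matrices
-/

namespace Cfsg.Agent.Lib.Helper9.PU

open Matrix Cfsg.Agent.Lib.Helper2 Cfsg.Agent.Lib.Helper2.DSub Cfsg.Agent.Lib.Helper2.SL2A5
  Cfsg.Agent.Lib.Helper5 Cfsg.Agent.Lib.Helper5.PSL2Aut Cfsg.Agent.Lib.Helper5.SL2Char2

section

variable {F : Type*} [Field F]

local notation "SL" => SpecialLinearGroup (Fin 2) F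
local notation "PSL" => ProjectiveSpecialLinearGroup (Fin 2) F

theorem eq_or_eq_neg_of_sq_one (x : F) (h : x ^ 2 = 1) : x = 1 ∨ x = -1 := by
  have : (x - 1) * (x + 1) = 0 := by linear_combination h
  rcases mul_eq_zero.mp this with h1 | h1
  · left; linear_combination h1
  · right; linear_combination h1

theorem sq_add_sq_eq_zero (hm1 : ∀ a : F, a ^ 2 ≠ -1) (u v : F) (h : u ^ 2 + v ^ 2 = 0) :
    u = 0 ∧ v = 0 := by
  by_cases hv : v = 0
  · subst hv
    refine ⟨?_, rfl⟩
    have : u ^ 2 = 0 := by linear_combination h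
    exact pow_eq_zero_iff (two_ne_zero) |>.mp this
  · exfalso
    apply hm1 (u / v)
    rw [div_pow, div_eq_iff (pow_ne_zero 2 hv)]
    linear_combination h

/-- the standard element of order four of `SL₂` -/
def Jt : SL := mk2 0 1 (-1) 0 (by ring)

theorem pi_Jt_ne_one : pi (Jt : SL) ≠ 1 := by
  unfold Jt
  rw [Ne, pi_mk2_eq_one_iff]
  rintro (⟨-, h, -, -⟩ | ⟨-, h, -, -⟩) <;> exact one_ne_zero h

/-- the solubilizer of `Jt` in terms of entries -/
def SJ (α β γ δ : F) : Prop :=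
  (α = δ ∧ γ = -β) ∨ α + δ = 0 ∨ γ - β = 0 ∨
    ((α + δ = 1 ∨ α + δ = -1) ∧ (γ - β = 1 ∨ γ - β = -1))

theorem rel_J_imp (h3 : (3 : F) = 0) (hm1 : ∀ a : F, a ^ 2 ≠ -1) (α β γ δ : F)
    (hN : α * δ - β * γ = 1) (h : Rel (pi (Jt : SL)) (pi (mk2 α β γ δ hN))) : SJ α β γ δ := by
  rcases h with h | h | h | ⟨h1, h2⟩ | hB | ⟨h1, h2, h3'⟩ | ⟨h1, -⟩
  · rw [← map_mul, ← map_mul] at h
    unfold Jt at h
    rw [mk2_mul, mk2_mul, pi_mk2_eq_iff] at h
    rcases h with ⟨e1, e2, e3, e4⟩ | ⟨e1, e2, e3, e4⟩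
    · left
      exact ⟨by linear_combination -e2, by linear_combination e1⟩
    · right; left
      linear_combination e2
  · rw [mul_inv_eq_iff_eq_mul, ← map_inv, ← map_mul, ← map_mul] at h
    unfold Jt at h
    rw [mk2_inv, mk2_mul, mk2_mul, pi_mk2_eq_iff] at h
    rcases h with ⟨e1, e2, e3, e4⟩ | ⟨e1, e2, e3, e4⟩
    · right; left
      linear_combination e2
    · left
      exact ⟨by linear_combination e2, by linear_combination -e1⟩
  · rw [mul_inv_eq_iff_eq_mul, ← map_inv, ← map_mul, ← map_mul] at h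
    unfold Jt at h
    rw [mk2_inv, mk2_mul, mk2_mul, pi_mk2_eq_iff] at h
    rcases h with ⟨e1, e2, e3, e4⟩ | ⟨e1, e2, e3, e4⟩
    · right; right; left
      linear_combination e1
    · right; left
      linear_combination (α + δ) * h3 - e2 + e3
  · rw [pi_sq_eq_one_iff] at h2
    rcases h2 with h2 | h2
    · right; left
      rw [trace_mk2] at h2
      exact h2
    · left
      rw [pi_mk2_eq_one_iff] at h2
      rcases h2 with ⟨e1, e2, e3, e4⟩ | ⟨e1, e2, e3, e4⟩
      · exact ⟨by rw [e1, e4], by rw [e2, e3, neg_zero]⟩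
      · exact ⟨by rw [e1, e4], by rw [e2, e3, neg_zero]⟩
  · exfalso
    rw [borel_clause_iff] at hB
    obtain ⟨c, hc1, -⟩ := hB
    unfold Jt at hc1
    rw [conj_lower_mk2] at hc1
    have hd := det_entries c
    have hz : (c : Matrix (Fin 2) (Fin 2) F) 1 0 ^ 2 + (c : Matrix (Fin 2) (Fin 2) F) 1 1 ^ 2 = 0 := by
      linear_combination -hc1
    obtain ⟨z1, z2⟩ := sq_add_sq_eq_zero hm1 _ _ hz
    rw [z1, z2] at hd
    simp at hd
  · right; right; right
    rw [pi_cube_eq_one_iff h3, trace_mk2] at h2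
    rw [← map_mul] at h3'
    unfold Jt at h3'
    rw [mk2_mul, pi_cube_eq_one_iff h3, trace_mk2] at h3'
    refine ⟨eq_or_eq_neg_of_sq_one _ h2, eq_or_eq_neg_of_sq_one _ ?_⟩
    linear_combination h3'
  · exfalso
    unfold Jt at h1
    rw [pi_cube_eq_one_iff h3, trace_mk2] at h1
    simp at h1

theorem rel_J_of (h3 : (3 : F) = 0) (α β γ δ : F)
    (hN : α * δ - β * γ = 1) (h : SJ α β γ δ) : Rel (pi (Jt : SL)) (pi (mk2 α β γ δ hN)) := by
  have hJ2 : (pi (Jt : SL)) ^ 2 = 1 := by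
    rw [pi_sq_eq_one_iff]
    left
    unfold Jt
    rw [trace_mk2, add_zero]
  rcases h with ⟨e1, e2⟩ | h | h | ⟨h1, h2⟩
  · left
    rw [← map_mul, ← map_mul]
    congr 1
    unfold Jt
    rw [mk2_mul, mk2_mul]
    apply mk2_congr
    · linear_combination e2
    · linear_combination -e1
    · linear_combination -e1
    · linear_combination -e2
  · right; right; right; left
    refine ⟨hJ2, ?_⟩
    rw [pi_sq_eq_one_iff]
    left
    rw [trace_mk2]
    exact h
  · right; right; left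
    rw [mul_inv_eq_iff_eq_mul, ← map_inv, ← map_mul, ← map_mul]
    congr 1
    unfold Jt
    rw [mk2_inv, mk2_mul, mk2_mul]
    apply mk2_congr
    · linear_combination h
    · ring
    · ring
    · linear_combination h
  · right; right; right; right; right; left
    refine ⟨hJ2, ?_, ?_⟩
    · rw [pi_cube_eq_one_iff h3, trace_mk2]
      rcases h1 with h1 | h1 <;> rw [h1] <;> ring
    · rw [← map_mul]
      unfold Jt
      rw [mk2_mul, pi_cube_eq_one_iff h3, trace_mk2]
      have : (0 * α + 1 * γ + (-1 * β + 0 * δ)) = γ - β := by ring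
      rw [this]
      rcases h2 with h2 | h2 <;> rw [h2] <;> ring

end

section

variable {F : Type*} [Field F] [Fintype F] {p : ℕ}

local notation "SL" => SpecialLinearGroup (Fin 2) F
local notation "PSL" => ProjectiveSpecialLinearGroup (Fin 2) F

theorem Std.sol_J_iff (S : Std F p) (α β γ δ : F) (hN : α * δ - β * γ = 1) :
    Group.IsSolvable (Subgroup.closure ({pi (Jt : SL), pi (mk2 α β γ δ hN)} : Set PSL)) ↔
      SJ α β γ δ := by
  rw [S.sol_iff_rel _ _ pi_Jt_ne_one]
  exact ⟨rel_J_imp S.h3 S.hm1 α β γ δ hN, rel_J_of S.h3 α β γ δ hN⟩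

end

end Cfsg.Agent.Lib.Helper9.PU
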