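import Mathlib
import Cfsg.Agent.Lib.Helper9.PU6

set_option autoImplicit false
set_option linter.unusedSectionVars false

/-!
# Solubilizers in `PSL₂(3^p)`: the solubilizer of an element of order three, as a set of matrices
-/

namespace Cfsg.Agent.Lib.Helper9.PU

open Matrix Cfsg.Agent.Lib.Helper2 Cfsg.Agent.Lib.Helper2.DSub Cfsg.Agent.Lib.Helper2.SL2A5
  Cfsg.Agent.Lib.Helper5 Cfsg.Agent.Lib.Helper5.PSL2Aut Cfsg.Agent.Lib.Helper5.SL2Char2

section

variable {F : Type*} [Field F]

local notation "SL" => SpecialLinearGroup (Fin 2) F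
local notation "PSL" => ProjectiveSpecialLinearGroup (Fin 2) F

theorem pi_xm_ne_one (a : F) (ha : a ≠ 0) : pi (xm a : SL) ≠ 1 := by
  unfold xm
  rw [Ne, pi_mk2_eq_one_iff]
  rintro (⟨-, h, -, -⟩ | ⟨-, h, -, -⟩) <;> exact ha h

theorem pi_xm_sq_ne (h3 : (3 : F) = 0) (a : F) (ha : a ≠ 0) : (pi (xm a : SL)) ^ 2 ≠ 1 := by
  intro h
  rw [pi_sq_eq_one_iff] at h
  rcases h with h | h
  · unfold xm at h
    rw [trace_mk2] at h
    have : (1 : F) = 0 := by linear_combination h3 - h
    exact one_ne_zero this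
  · exact pi_xm_ne_one a ha h

theorem pi_xm_cube (h3 : (3 : F) = 0) (a : F) : (pi (xm a : SL)) ^ 3 = 1 := by
  rw [pi_cube_eq_one_iff h3]
  unfold xm
  rw [trace_mk2]
  linear_combination h3

/-- the solubilizer of `xm a` in terms of entries -/
def SX (a α γ δ : F) : Prop :=
  γ = 0 ∨ ((a * γ = 1 ∨ a * γ = -1) ∧ (α + δ = 0 ∨ α + δ = 1 ∨ α + δ = -1))

theorem rel_X_imp (h3 : (3 : F) = 0) (a : F) (ha : a ≠ 0) (α β γ δ : F)
    (hN : α * δ - β * γ = 1) (h : Rel (pi (xm a : SL)) (pi (mk2 α β γ δ hN))) : SX a α γ δ := by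
  have hg : a * γ = 0 → γ = 0 := fun h => (mul_eq_zero.mp h).resolve_left ha
  rcases h with h | h | h | ⟨h1, -⟩ | hB | ⟨h1, -, -⟩ | ⟨h1, h⟩
  · left
    rw [← map_mul, ← map_mul] at h
    unfold xm at h
    rw [mk2_mul, mk2_mul, pi_mk2_eq_iff] at h
    rcases h with ⟨e1, e2, e3, e4⟩ | ⟨e1, e2, e3, e4⟩
    · apply hg
      linear_combination e1
    · linear_combination γ * h3 - e3
  · left
    rw [mul_inv_eq_iff_eq_mul, ← map_inv, ← map_mul, ← map_mul] at h
    unfold xm at h
    rw [mk2_inv, mk2_mul, mk2_mul, pi_mk2_eq_iff] at h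
    rcases h with ⟨e1, e2, e3, e4⟩ | ⟨e1, e2, e3, e4⟩
    · apply hg
      linear_combination e1
    · linear_combination γ * h3 - e3
  · left
    rw [mul_inv_eq_iff_eq_mul, ← map_inv, ← map_mul, ← map_mul] at h
    unfold xm at h
    rw [mk2_inv, mk2_mul, mk2_mul, pi_mk2_eq_iff] at h
    rcases h with ⟨e1, e2, e3, e4⟩ | ⟨e1, e2, e3, e4⟩
    · linear_combination γ * h3 - e3
    · apply hg
      linear_combination (a * γ) * h3 - e1 + e4
  · exact absurd h1 (pi_xm_sq_ne h3 a ha)
  · left
    rw [borel_clause_iff] at hB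
    obtain ⟨c, hc1, hc2⟩ := hB
    unfold xm at hc1
    rw [conj_lower_mk2] at hc1 hc2
    have hd := det_entries c
    have hc10 : (c : Matrix (Fin 2) (Fin 2) F) 1 0 = 0 := by
      have : a * (c : Matrix (Fin 2) (Fin 2) F) 1 0 ^ 2 = 0 := by linear_combination -hc1
      rcases mul_eq_zero.mp this with h | h
      · exact absurd h ha
      · exact pow_eq_zero_iff (two_ne_zero) |>.mp h
    rw [hc10] at hc2 hd
    have hc11 : (c : Matrix (Fin 2) (Fin 2) F) 1 1 ≠ 0 := by
      intro h
      rw [h] at hd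
      simp at hd
    have : γ * (c : Matrix (Fin 2) (Fin 2) F) 1 1 ^ 2 = 0 := by linear_combination hc2
    rcases mul_eq_zero.mp this with h | h
    · exact h
    · exact absurd (pow_eq_zero_iff (two_ne_zero) |>.mp h) hc11
  · exact absurd h1 (pi_xm_sq_ne h3 a ha)
  · rcases h with ⟨h2, h3'⟩ | ⟨h2, h3'⟩ | ⟨h2, h3'⟩
    · rw [pi_sq_eq_one_iff] at h2
      rcases h2 with h2 | h2
      · right
        rw [trace_mk2] at h2
        rw [← map_mul] at h3'
        unfold xm at h3'
        rw [mk2_mul, pi_cube_eq_one_iff h3, trace_mk2] at h3'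
        refine ⟨eq_or_eq_neg_of_sq_one _ ?_, Or.inl h2⟩
        have e : (1 * α + a * γ + (0 * β + 1 * δ)) = a * γ := by linear_combination h2
        rw [e] at h3'
        exact h3'
      · left
        rw [pi_mk2_eq_one_iff] at h2
        rcases h2 with ⟨-, -, e, -⟩ | ⟨-, -, e, -⟩ <;> exact e
    · rw [← map_mul, ← map_mul] at h3'
      rw [← map_mul] at h2
      unfold xm at h2 h3'
      rw [mk2_mul, mk2_mul] at h3'
      rw [mk2_mul] at h2
      rw [pi_sq_eq_one_iff] at h2
      rcases h2 with h2 | h2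
      · right
        rw [trace_mk2] at h2
        rw [pi_cube_eq_one_iff h3, trace_mk2] at h3'
        have hs : α + δ = -(a * γ) := by linear_combination h2
        have e : ((1 * 1 + a * 0) * α + (1 * a + a * 1) * γ +
            ((0 * 1 + 1 * 0) * β + (0 * a + 1 * 1) * δ)) = a * γ := by linear_combination h2
        rw [e] at h3'
        rcases eq_or_eq_neg_of_sq_one _ h3' with h4 | h4
        · exact ⟨Or.inl h4, Or.inr (Or.inr (by rw [hs, h4]))⟩
        · exact ⟨Or.inr h4, Or.inr (Or.inl (by rw [hs, h4, neg_neg]))⟩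
      · left
        rw [pi_mk2_eq_one_iff] at h2
        rcases h2 with ⟨-, -, e, -⟩ | ⟨-, -, e, -⟩ <;> linear_combination e
    · rw [← map_mul, ← map_mul] at h2
      unfold xm at h2
      rw [mk2_mul, mk2_mul] at h2
      rw [pi_sq_eq_one_iff] at h2
      rcases h2 with h2 | h2
      · right
        rw [trace_mk2] at h2
        rw [pi_cube_eq_one_iff h3, trace_mk2] at h3'
        have hs : α + δ = a * γ := by linear_combination h2 - (a * γ) * h3
        rcases eq_or_eq_neg_of_sq_one _ h3' with h4 | h4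
        · exact ⟨Or.inl (by rw [← hs, h4]), Or.inr (Or.inl h4)⟩
        · exact ⟨Or.inr (by rw [← hs, h4]), Or.inr (Or.inr h4)⟩
      · left
        rw [pi_mk2_eq_one_iff] at h2
        rcases h2 with ⟨-, -, e, -⟩ | ⟨-, -, e, -⟩ <;> linear_combination e

theorem rel_X_of (h3 : (3 : F) = 0) (a : F) (α β γ δ : F)
    (hN : α * δ - β * γ = 1) (h : SX a α γ δ) : Rel (pi (xm a : SL)) (pi (mk2 α β γ δ hN)) := by
  rcases h with h | ⟨h1, h2⟩
  · right; right; right; right; left
    rw [borel_clause_iff]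
    refine ⟨1, ?_, ?_⟩
    · unfold xm
      rw [conj_lower_mk2]
      simp
    · rw [conj_lower_mk2]
      simp [h]
  · right; right; right; right; right; right
    refine ⟨pi_xm_cube h3 a, ?_⟩
    have hag : (a * γ) ^ 2 = 1 := by
      rcases h1 with h1 | h1 <;> rw [h1] <;> ring
    -- the three traces
    have t1 : ((xm a * mk2 α β γ δ hN : SL) : Matrix (Fin 2) (Fin 2) F).trace = α + δ + a * γ := by
      unfold xm
      rw [mk2_mul, trace_mk2]; ring
    have t2 : ((xm a * xm a * mk2 α β γ δ hN : SL) : Matrix (Fin 2) (Fin 2) F).trace =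
        α + δ + 2 * (a * γ) := by
      unfold xm
      rw [mk2_mul, mk2_mul, trace_mk2]; ring
    have t0 : ((mk2 α β γ δ hN : SL) : Matrix (Fin 2) (Fin 2) F).trace = α + δ := trace_mk2 _ _ _ _ _
    have hcases : α + δ = 0 ∨ α + δ = a * γ ∨ α + δ = -(a * γ) := by
      rcases h2 with h2 | h2 | h2
      · exact Or.inl h2
      · rcases h1 with h1 | h1
        · right; left; rw [h1, h2]
        · right; right; rw [h1, h2, neg_neg]
      · rcases h1 with h1 | h1
        · right; right; rw [h1, h2]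
        · right; left; rw [h1, h2]
    rcases hcases with hs | hs | hs
    · left
      refine ⟨?_, ?_⟩
      · rw [pi_sq_eq_one_iff]; left; rw [t0]; exact hs
      · rw [← map_mul, pi_cube_eq_one_iff h3, t1, hs, zero_add]; exact hag
    · right; right
      refine ⟨?_, ?_⟩
      · rw [← map_mul, ← map_mul, pi_sq_eq_one_iff]; left; rw [t2, hs]
        linear_combination (a * γ) * h3
      · rw [pi_cube_eq_one_iff h3, t0, hs]; exact hag
    · right; left
      refine ⟨?_, ?_⟩
      · rw [← map_mul, pi_sq_eq_one_iff]; left; rw [t1, hs]; ring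
      · rw [← map_mul, ← map_mul, pi_cube_eq_one_iff h3, t2, hs]
        linear_combination hag

end

section

variable {F : Type*} [Field F] [Fintype F] {p : ℕ}

local notation "SL" => SpecialLinearGroup (Fin 2) F
local notation "PSL" => ProjectiveSpecialLinearGroup (Fin 2) F

theorem Std.sol_X_iff (S : Std F p) (a : F) (ha : a ≠ 0) (α β γ δ : F)
    (hN : α * δ - β * γ = 1) :
    Group.IsSolvable (Subgroup.closure ({pi (xm a : SL), pi (mk2 α β γ δ hN)} : Set PSL)) ↔
      SX a α γ δ := by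
  rw [S.sol_iff_rel _ _ (pi_xm_ne_one a ha)]
  exact ⟨rel_X_imp S.h3 a ha α β γ δ hN, rel_X_of S.h3 a α β γ δ hN⟩

end

end Cfsg.Agent.Lib.Helper9.PU
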