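import Mathlib
import Cfsg.Agent.Lib.Helper9.PU7

set_option autoImplicit false
set_option linter.unusedSectionVars false

/-!
# Solubilizers in `PSL₂(3^p)`: the solubilizer of a split semisimple element, as a set of matrices
-/

namespace Cfsg.Agent.Lib.Helper9.PU

open Matrix Cfsg.Agent.Lib.Helper2 Cfsg.Agent.Lib.Helper2.DSub Cfsg.Agent.Lib.Helper2.SL2A5
  Cfsg.Agent.Lib.Helper5 Cfsg.Agent.Lib.Helper5.PSL2Aut Cfsg.Agent.Lib.Helper5.SL2Char2

section

variable {F : Type*} [Field F]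

local notation "SL" => SpecialLinearGroup (Fin 2) F
local notation "PSL" => ProjectiveSpecialLinearGroup (Fin 2) F

/-- diagonal elements -/
def dgm (μ ν : F) (h : μ * ν = 1) : SL := mk2 μ 0 0 ν (by linear_combination h)

theorem pi_dgm_ne_one (μ ν : F) (h : μ * ν = 1) (hμ : μ ^ 2 ≠ 1) : pi (dgm μ ν h : SL) ≠ 1 := by
  unfold dgm
  rw [Ne, pi_mk2_eq_one_iff]
  rintro (⟨e, -, -, -⟩ | ⟨e, -, -, -⟩) <;> apply hμ <;> rw [e] <;> ring

theorem pi_dgm_sq_ne (hm1 : ∀ a : F, a ^ 2 ≠ -1) (μ ν : F) (h : μ * ν = 1) (hμ : μ ^ 2 ≠ 1) :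
    (pi (dgm μ ν h : SL)) ^ 2 ≠ 1 := by
  intro h'
  rw [pi_sq_eq_one_iff] at h'
  rcases h' with h' | h'
  · unfold dgm at h'
    rw [trace_mk2] at h'
    apply hm1 μ
    linear_combination μ * h' - h
  · exact pi_dgm_ne_one μ ν h hμ h'

theorem pi_dgm_cube_ne (h3 : (3 : F) = 0) (μ ν : F) (h : μ * ν = 1) (hμ : μ ^ 2 ≠ 1) :
    (pi (dgm μ ν h : SL)) ^ 3 ≠ 1 := by
  intro h'
  rw [pi_cube_eq_one_iff h3] at h'
  unfold dgm at h'
  rw [trace_mk2] at h'
  apply hμ
  have : (μ ^ 2 - 1) ^ 2 = 0 := by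
    linear_combination μ ^ 2 * h' - (2 * μ ^ 2 + μ * ν + 1) * h - μ ^ 2 * h3
  have := pow_eq_zero_iff (two_ne_zero) |>.mp this
  linear_combination this

/-- the solubilizer of a diagonal element in terms of entries -/
def SD (α β γ δ : F) : Prop := γ = 0 ∨ β = 0 ∨ (α = 0 ∧ δ = 0)

theorem rel_D_imp (h3 : (3 : F) = 0) (hm1 : ∀ a : F, a ^ 2 ≠ -1) (μ ν : F) (h : μ * ν = 1)
    (hμ : μ ^ 2 ≠ 1) (α β γ δ : F) (hN : α * δ - β * γ = 1)
    (hr : Rel (pi (dgm μ ν h : SL)) (pi (mk2 α β γ δ hN))) : SD α β γ δ := by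
  have hμ0 : μ ≠ 0 := by
    rintro rfl
    rw [zero_mul] at h
    exact zero_ne_one h
  have hν0 : ν ≠ 0 := by
    rintro rfl
    rw [mul_zero] at h
    exact zero_ne_one h
  have hsub : μ - ν ≠ 0 := by
    intro h'
    apply hμ
    linear_combination μ * h' + h
  have hadd : μ + ν ≠ 0 := by
    intro h'
    apply hm1 μ
    linear_combination μ * h' - h
  have h2 : (2 : F) ≠ 0 := by
    intro h'
    have : (1 : F) = 0 := by linear_combination h3 - h'
    exact one_ne_zero this
  rcases hr with hr | hr | hr | ⟨h1, -⟩ | hB | ⟨h1, -, -⟩ | ⟨h1, -⟩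
  · rw [← map_mul, ← map_mul] at hr
    unfold dgm at hr
    rw [mk2_mul, mk2_mul, pi_mk2_eq_iff] at hr
    rcases hr with ⟨e1, e2, e3, e4⟩ | ⟨e1, e2, e3, e4⟩
    · right; left
      have : (μ - ν) * β = 0 := by linear_combination e2
      exact (mul_eq_zero.mp this).resolve_left hsub
    · right; right
      constructor
      · have : (2 * μ) * α = 0 := by linear_combination e1
        exact (mul_eq_zero.mp this).resolve_left (mul_ne_zero h2 hμ0)
      · have : (2 * ν) * δ = 0 := by linear_combination e4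
        exact (mul_eq_zero.mp this).resolve_left (mul_ne_zero h2 hν0)
  · rw [mul_inv_eq_iff_eq_mul, ← map_inv, ← map_mul, ← map_mul] at hr
    unfold dgm at hr
    rw [mk2_inv, mk2_mul, mk2_mul, pi_mk2_eq_iff] at hr
    rcases hr with ⟨e1, e2, e3, e4⟩ | ⟨e1, e2, e3, e4⟩
    · right; right
      constructor
      · have : (μ - ν) * α = 0 := by linear_combination e1
        exact (mul_eq_zero.mp this).resolve_left hsub
      · have : (μ - ν) * δ = 0 := by linear_combination -e4
        exact (mul_eq_zero.mp this).resolve_left hsub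
    · right; left
      have : (2 * ν) * β = 0 := by linear_combination e2
      exact (mul_eq_zero.mp this).resolve_left (mul_ne_zero h2 hν0)
  · rw [mul_inv_eq_iff_eq_mul, ← map_inv, ← map_mul, ← map_mul] at hr
    unfold dgm at hr
    rw [mk2_inv, mk2_mul, mk2_mul, pi_mk2_eq_iff] at hr
    rcases hr with ⟨e1, e2, e3, e4⟩ | ⟨e1, e2, e3, e4⟩
    · right; left
      have : (μ + ν) * β = 0 := by linear_combination e2
      exact (mul_eq_zero.mp this).resolve_left hadd
    · right; left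
      have : (μ - ν) * β = 0 := by linear_combination e2
      exact (mul_eq_zero.mp this).resolve_left hsub
  · exact absurd h1 (pi_dgm_sq_ne hm1 μ ν h hμ)
  · rw [borel_clause_iff] at hB
    obtain ⟨c, hc1, hc2⟩ := hB
    unfold dgm at hc1
    rw [conj_lower_mk2] at hc1 hc2
    have hd := det_entries c
    have hcc : (c : Matrix (Fin 2) (Fin 2) F) 1 0 * (c : Matrix (Fin 2) (Fin 2) F) 1 1 = 0 := by
      have : (μ - ν) * ((c : Matrix (Fin 2) (Fin 2) F) 1 0 * (c : Matrix (Fin 2) (Fin 2) F) 1 1) = 0 := by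
        linear_combination hc1
      exact (mul_eq_zero.mp this).resolve_left hsub
    rcases mul_eq_zero.mp hcc with hc | hc
    · left
      rw [hc] at hc2 hd
      have hc11 : (c : Matrix (Fin 2) (Fin 2) F) 1 1 ≠ 0 := by
        intro h'
        rw [h'] at hd
        simp at hd
      have : γ * (c : Matrix (Fin 2) (Fin 2) F) 1 1 ^ 2 = 0 := by linear_combination hc2
      rcases mul_eq_zero.mp this with h' | h'
      · exact h'
      · exact absurd (pow_eq_zero_iff (two_ne_zero) |>.mp h') hc11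
    · right; left
      rw [hc] at hc2 hd
      have hc10 : (c : Matrix (Fin 2) (Fin 2) F) 1 0 ≠ 0 := by
        intro h'
        rw [h'] at hd
        simp at hd
      have : β * (c : Matrix (Fin 2) (Fin 2) F) 1 0 ^ 2 = 0 := by linear_combination -hc2
      rcases mul_eq_zero.mp this with h' | h'
      · exact h'
      · exact absurd (pow_eq_zero_iff (two_ne_zero) |>.mp h') hc10
  · exact absurd h1 (pi_dgm_sq_ne hm1 μ ν h hμ)
  · exact absurd h1 (pi_dgm_cube_ne h3 μ ν h hμ)

theorem rel_D_of (μ ν : F) (h : μ * ν = 1) (α β γ δ : F) (hN : α * δ - β * γ = 1)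
    (hs : SD α β γ δ) : Rel (pi (dgm μ ν h : SL)) (pi (mk2 α β γ δ hN)) := by
  rcases hs with hs | hs | ⟨h1, h2⟩
  · right; right; right; right; left
    rw [borel_clause_iff]
    refine ⟨1, ?_, ?_⟩
    · unfold dgm
      rw [conj_lower_mk2]
      simp
    · rw [conj_lower_mk2]
      simp [hs]
  · right; right; right; right; left
    rw [borel_clause_iff]
    refine ⟨Jt, ?_, ?_⟩
    · unfold dgm
      rw [conj_lower_mk2]
      simp [Jt, mk2_coe]
    · rw [conj_lower_mk2]
      simp [Jt, mk2_coe, hs]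
  · right; left
    rw [mul_inv_eq_iff_eq_mul, ← map_inv, ← map_mul, ← map_mul]
    congr 1
    unfold dgm
    rw [mk2_inv, mk2_mul, mk2_mul]
    apply mk2_congr
    · rw [h1]; ring
    · ring
    · ring
    · rw [h2]; ring

end

section

variable {F : Type*} [Field F] [Fintype F] {p : ℕ}

local notation "SL" => SpecialLinearGroup (Fin 2) F
local notation "PSL" => ProjectiveSpecialLinearGroup (Fin 2) F

theorem Std.sol_D_iff (S : Std F p) (μ ν : F) (h : μ * ν = 1) (hμ : μ ^ 2 ≠ 1) (α β γ δ : F)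
    (hN : α * δ - β * γ = 1) :
    Group.IsSolvable (Subgroup.closure ({pi (dgm μ ν h : SL), pi (mk2 α β γ δ hN)} : Set PSL)) ↔
      SD α β γ δ := by
  rw [S.sol_iff_rel _ _ (pi_dgm_ne_one μ ν h hμ)]
  exact ⟨rel_D_imp S.h3 S.hm1 μ ν h hμ α β γ δ hN, rel_D_of μ ν h α β γ δ hN⟩

end

end Cfsg.Agent.Lib.Helper9.PU
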