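import Mathlib
import Cfsg.Agent.Lib.Helper9.PU8

set_option autoImplicit false
set_option linter.unusedSectionVars false

/-!
# Solubilizers in `PSL₂(3^p)`: the solubilizer of a nonsplit semisimple element
-/

namespace Cfsg.Agent.Lib.Helper9.PU

open Matrix Cfsg.Agent.Lib.Helper2 Cfsg.Agent.Lib.Helper2.DSub Cfsg.Agent.Lib.Helper2.SL2A5
  Cfsg.Agent.Lib.Helper5 Cfsg.Agent.Lib.Helper5.PSL2Aut Cfsg.Agent.Lib.Helper5.SL2Char2

section

variable {F : Type*} [Field F]

local notation "SL" => SpecialLinearGroup (Fin 2) F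
local notation "PSL" => ProjectiveSpecialLinearGroup (Fin 2) F

theorem trace_inv_sl (M : SL) :
    ((M⁻¹ : SL) : Matrix (Fin 2) (Fin 2) F).trace = (M : Matrix (Fin 2) (Fin 2) F).trace := by
  rw [Matrix.SpecialLinearGroup.coe_inv, Matrix.adjugate_fin_two, Matrix.trace_fin_two_of,
    Matrix.trace_fin_two, add_comm]

theorem trace_neg_sl (M : SL) :
    ((-M : SL) : Matrix (Fin 2) (Fin 2) F).trace = -(M : Matrix (Fin 2) (Fin 2) F).trace := by
  rw [Matrix.SpecialLinearGroup.coe_neg, Matrix.trace_neg]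

theorem not_scalar_of_pi_ne_one (M : SL) (h : pi M ≠ 1) :
    ¬ ∃ r : F, (M : Matrix (Fin 2) (Fin 2) F) = r • (1 : Matrix (Fin 2) (Fin 2) F) := by
  rintro ⟨r, hr⟩
  apply h
  apply Cfsg.Agent.Lib.Helper9.PO.pi_eq_one_of_smul M 1 r one_ne_zero
  rw [one_smul, hr]

theorem rel_N_imp (h3 : (3 : F) = 0) (M : SL)
    (hτ : (M : Matrix (Fin 2) (Fin 2) F).trace ≠ 0)
    (hroot : ∀ μ : F, μ ^ 2 - (M : Matrix (Fin 2) (Fin 2) F).trace * μ + 1 ≠ 0)
    (hsq : (pi M) ^ 2 ≠ 1) (N : SL) (hr : Rel (pi M) (pi N)) :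
    N * M * N⁻¹ = M ∨ N * M * N⁻¹ = M⁻¹ := by
  have h2 : (2 : F) ≠ 0 := by
    intro h'
    have : (1 : F) = 0 := by linear_combination h3 - h'
    exact one_ne_zero this
  have hneg : ∀ A : SL, (A : Matrix (Fin 2) (Fin 2) F).trace =
      (M : Matrix (Fin 2) (Fin 2) F).trace → (-A : SL) ≠ M ∧ (-A : SL) ≠ M⁻¹ := by
    intro A hA
    constructor
    · intro h'
      apply hτ
      have := congrArg (fun Z : SL => (Z : Matrix (Fin 2) (Fin 2) F).trace) h'
      simp only [trace_neg_sl, hA] at this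
      have h4 : 2 * (M : Matrix (Fin 2) (Fin 2) F).trace = 0 := by linear_combination -this
      exact (mul_eq_zero.mp h4).resolve_left h2
    · intro h'
      apply hτ
      have := congrArg (fun Z : SL => (Z : Matrix (Fin 2) (Fin 2) F).trace) h'
      simp only [trace_neg_sl, hA, trace_inv_sl] at this
      have h4 : 2 * (M : Matrix (Fin 2) (Fin 2) F).trace = 0 := by linear_combination -this
      exact (mul_eq_zero.mp h4).resolve_left h2
  rcases hr with hr | hr | hr | ⟨h1, -⟩ | hB | ⟨h1, -, -⟩ | ⟨h1, -⟩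
  · left
    rw [← map_mul, ← map_mul, pi_eq_pi_iff] at hr
    rcases hr with hr | hr
    · rw [hr]; group
    · exfalso
      have e : -(N * M * N⁻¹) = M := by
        rw [hr]
        rw [neg_mul, neg_neg]; group
      exact (hneg _ (trace_conj N M)).1 e
  · rw [← map_inv, ← map_inv, ← map_mul, ← map_mul, pi_eq_pi_iff] at hr
    rcases hr with hr | hr
    · right; exact hr.symm
    · exfalso
      exact (hneg _ (trace_conj N M)).2 hr.symm
  · left
    rw [← map_inv, ← map_inv, ← map_mul, ← map_mul, pi_eq_pi_iff] at hr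
    have hMM : (M * M) * N = N * (M * M) := by
      rcases hr with hr | hr
      · have e : M * M * N * (M * M)⁻¹ = M * (M * N * M⁻¹) * M⁻¹ := by group
        have e2 : M * M * N * (M * M)⁻¹ = N := by
          rw [e, ← hr]
          have : M * N⁻¹ * M⁻¹ = (M * N * M⁻¹)⁻¹ := by group
          rw [this, ← hr, inv_inv]
        calc (M * M) * N = (M * M * N * (M * M)⁻¹) * (M * M) := by group
          _ = N * (M * M) := by rw [e2]
      · have hr' : M * N * M⁻¹ = -N⁻¹ := by rw [hr, neg_neg]
        have e : M * M * N * (M * M)⁻¹ = M * (M * N * M⁻¹) * M⁻¹ := by group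
        have e2 : M * M * N * (M * M)⁻¹ = N := by
          rw [e, hr', mul_neg, neg_mul]
          have : M * N⁻¹ * M⁻¹ = (M * N * M⁻¹)⁻¹ := by group
          rw [this, hr', inv_neg, inv_inv, neg_neg]
        calc (M * M) * N = (M * M * N * (M * M)⁻¹) * (M * M) := by group
          _ = N * (M * M) := by rw [e2]
    have hM1 : pi M ≠ 1 := by
      intro h'
      apply hsq
      rw [h', one_pow]
    have hMM1 : pi (M * M) ≠ 1 := by
      intro h'
      apply hsq
      rw [pow_two, ← map_mul, h']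
    have hcent := centralizer_eq_of_mem_span M (M * M)
      (by rw [Subgroup.mem_centralizer_singleton_iff]; group)
      (not_scalar_of_pi_ne_one M hM1) (not_scalar_of_pi_ne_one _ hMM1)
    have hN : N ∈ Subgroup.centralizer ({M * M} : Set SL) := by
      rw [Subgroup.mem_centralizer_singleton_iff]
      exact hMM.symm
    rw [hcent, Subgroup.mem_centralizer_singleton_iff] at hN
    rw [hN]; group
  · exact absurd h1 hsq
  · exfalso
    rw [borel_clause_iff] at hB
    obtain ⟨c, hc1, -⟩ := hB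
    have hd := det_entries (c * M * c⁻¹)
    have ht := trace_conj c M
    rw [Matrix.trace_fin_two] at ht
    rw [hc1] at hd
    apply hroot (((c * M * c⁻¹ : SL) : Matrix (Fin 2) (Fin 2) F) 0 0)
    rw [← ht]
    linear_combination -hd
  · exact absurd h1 hsq
  · exfalso
    rw [pi_cube_eq_one_iff h3] at h1
    apply hroot (-(M : Matrix (Fin 2) (Fin 2) F).trace)
    linear_combination 2 * h1 + h3

theorem rel_N_of (M N : SL) (h : N * M * N⁻¹ = M ∨ N * M * N⁻¹ = M⁻¹) : Rel (pi M) (pi N) := by
  rcases h with h | h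
  · left
    rw [← map_mul, ← map_mul]
    congr 1
    calc M * N = (N * M * N⁻¹) * N := by rw [h]
      _ = N * M := by group
  · right; left
    rw [← map_inv, ← map_inv, ← map_mul, ← map_mul, h]

end

section

variable {F : Type*} [Field F] [Fintype F] [DecidableEq F] {p : ℕ}

local notation "SL" => SpecialLinearGroup (Fin 2) F
local notation "PSL" => ProjectiveSpecialLinearGroup (Fin 2) F

/-- the solubilizer of a nonsplit element has `2 (q + 1)` preimages in `SL₂` -/
theorem Std.card_sol_N (S : Std F p) (M : SL)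
    (hτ : (M : Matrix (Fin 2) (Fin 2) F).trace ≠ 0)
    (hroot : ∀ μ : F, μ ^ 2 - (M : Matrix (Fin 2) (Fin 2) F).trace * μ + 1 ≠ 0)
    (hsq : (pi M) ^ 2 ≠ 1) :
    Nat.card {N : SL // Group.IsSolvable (Subgroup.closure ({pi M, pi N} : Set PSL))} =
      2 * (Fintype.card F + 1) := by
  have h3 := S.h3
  have hM1 : pi M ≠ 1 := by
    intro h'
    apply hsq
    rw [h', one_pow]
  have ht4 : (M : Matrix (Fin 2) (Fin 2) F).trace ^ 2 ≠ 4 := by
    intro h'
    apply hroot (-(M : Matrix (Fin 2) (Fin 2) F).trace)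
    linear_combination 2 * h' + 3 * h3
  have key : ∀ N : SL, Group.IsSolvable (Subgroup.closure ({pi M, pi N} : Set PSL)) ↔
      N ∈ Subgroup.normalizer ((Subgroup.centralizer ({M} : Set SL) : Subgroup SL) : Set SL) := by
    intro N
    rw [S.sol_iff_rel _ _ hM1, mem_normalizer_iff_conj S.h2 M ht4]
    exact ⟨rel_N_imp h3 M hτ hroot hsq N, rel_N_of M N⟩
  rw [Nat.card_congr (Equiv.subtypeEquivRight key)]
  have h1 := card_normalizer_centralizer S.h2 M ht4
  have h4 : rootCount (M : Matrix (Fin 2) (Fin 2) F).trace = 0 := by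
    unfold rootCount
    rw [Finset.card_eq_zero, Finset.filter_eq_empty_iff]
    intro μ _
    exact hroot μ
  have h5 := card_centralizer_generic M ht4
  rw [h4, add_zero] at h5
  rw [← h5, ← h1]

end

end Cfsg.Agent.Lib.Helper9.PU
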