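import Mathlib
import Cfsg.Agent.Lib.Helper9.PU9

set_option autoImplicit false
set_option linter.unusedSectionVars false

/-!
# Solubilizers in `PSL₂(3^p)`: counting the solubilizers of split and unipotent elements
-/

namespace Cfsg.Agent.Lib.Helper9.PU

open Matrix Cfsg.Agent.Lib.Helper2 Cfsg.Agent.Lib.Helper2.DSub Cfsg.Agent.Lib.Helper2.SL2A5
  Cfsg.Agent.Lib.Helper5 Cfsg.Agent.Lib.Helper5.PSL2Aut Cfsg.Agent.Lib.Helper5.SL2Char2

theorem card_subtype_eq_one {α : Type*} (P : α → Prop) (x₀ : α) (h : ∀ x, P x ↔ x = x₀) :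
    Nat.card {x // P x} = 1 := by
  rw [Nat.card_eq_one_iff_unique]
  constructor
  · constructor
    intro a b
    apply Subtype.ext
    rw [(h a.1).mp a.2, (h b.1).mp b.2]
  · exact ⟨⟨x₀, (h x₀).mpr rfl⟩⟩

section

variable {F : Type*} [Field F]

local notation "SL" => SpecialLinearGroup (Fin 2) F
local notation "PSL" => ProjectiveSpecialLinearGroup (Fin 2) F

theorem eq_mk2_entries (N : SL) :
    N = mk2 ((N : Matrix (Fin 2) (Fin 2) F) 0 0) ((N : Matrix (Fin 2) (Fin 2) F) 0 1)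
      ((N : Matrix (Fin 2) (Fin 2) F) 1 0) ((N : Matrix (Fin 2) (Fin 2) F) 1 1) (det_entries N) := by
  apply Subtype.ext
  rw [mk2_coe]
  exact Matrix.eta_fin_two _

/-- elements of `SL₂` with lower-left entry and trace restricted -/
noncomputable def lowerTrEquiv (P Q : F → Prop) (hP : ∀ c, P c → c ≠ 0) :
    {N : SL // P ((N : Matrix (Fin 2) (Fin 2) F) 1 0) ∧
      Q ((N : Matrix (Fin 2) (Fin 2) F) 0 0 + (N : Matrix (Fin 2) (Fin 2) F) 1 1)} ≃
      F × {c : F // P c} × {τ : F // Q τ} where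
  toFun N := ((N.1 : Matrix (Fin 2) (Fin 2) F) 0 0, ⟨(N.1 : Matrix (Fin 2) (Fin 2) F) 1 0, N.2.1⟩,
    ⟨(N.1 : Matrix (Fin 2) (Fin 2) F) 0 0 + (N.1 : Matrix (Fin 2) (Fin 2) F) 1 1, N.2.2⟩)
  invFun x := ⟨mk2 x.1 ((x.1 * (x.2.2.1 - x.1) - 1) / x.2.1.1) x.2.1.1 (x.2.2.1 - x.1) (by
      rw [div_mul_cancel₀ _ (hP _ x.2.1.2)]; ring), by
    constructor
    · simpa [mk2_coe] using x.2.1.2
    · have : (mk2 x.1 ((x.1 * (x.2.2.1 - x.1) - 1) / x.2.1.1) x.2.1.1 (x.2.2.1 - x.1) (by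
        rw [div_mul_cancel₀ _ (hP _ x.2.1.2)]; ring) : Matrix (Fin 2) (Fin 2) F) 0 0 +
          (mk2 x.1 ((x.1 * (x.2.2.1 - x.1) - 1) / x.2.1.1) x.2.1.1 (x.2.2.1 - x.1) (by
        rw [div_mul_cancel₀ _ (hP _ x.2.1.2)]; ring) : Matrix (Fin 2) (Fin 2) F) 1 1 = x.2.2.1 := by
        simp [mk2_coe]
      rw [this]
      exact x.2.2.2⟩
  left_inv N := by
    apply Subtype.ext
    apply Subtype.ext
    have hc : (N.1 : Matrix (Fin 2) (Fin 2) F) 1 0 ≠ 0 := hP _ N.2.1
    have hd := det_entries N.1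
    have e1 : ((N.1 : Matrix (Fin 2) (Fin 2) F) 0 0 * ((N.1 : Matrix (Fin 2) (Fin 2) F) 0 0 +
        (N.1 : Matrix (Fin 2) (Fin 2) F) 1 1 - (N.1 : Matrix (Fin 2) (Fin 2) F) 0 0) - 1) /
          (N.1 : Matrix (Fin 2) (Fin 2) F) 1 0 = (N.1 : Matrix (Fin 2) (Fin 2) F) 0 1 := by
      rw [div_eq_iff hc]
      linear_combination hd
    have e2 : (N.1 : Matrix (Fin 2) (Fin 2) F) 0 0 + (N.1 : Matrix (Fin 2) (Fin 2) F) 1 1 -
        (N.1 : Matrix (Fin 2) (Fin 2) F) 0 0 = (N.1 : Matrix (Fin 2) (Fin 2) F) 1 1 := by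
      ring
    show !![(N.1 : Matrix (Fin 2) (Fin 2) F) 0 0,
      ((N.1 : Matrix (Fin 2) (Fin 2) F) 0 0 * ((N.1 : Matrix (Fin 2) (Fin 2) F) 0 0 +
        (N.1 : Matrix (Fin 2) (Fin 2) F) 1 1 - (N.1 : Matrix (Fin 2) (Fin 2) F) 0 0) - 1) /
          (N.1 : Matrix (Fin 2) (Fin 2) F) 1 0; (N.1 : Matrix (Fin 2) (Fin 2) F) 1 0,
      (N.1 : Matrix (Fin 2) (Fin 2) F) 0 0 + (N.1 : Matrix (Fin 2) (Fin 2) F) 1 1 -
        (N.1 : Matrix (Fin 2) (Fin 2) F) 0 0] = (N.1 : Matrix (Fin 2) (Fin 2) F)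
    rw [e1, e2]
    exact (Matrix.eta_fin_two _).symm
  right_inv x := by
    obtain ⟨α, ⟨c, hc⟩, ⟨τ, hτ⟩⟩ := x
    simp [mk2_coe]

end

section

variable {F : Type*} [Field F] [Fintype F] [DecidableEq F] {p : ℕ}

local notation "SL" => SpecialLinearGroup (Fin 2) F
local notation "PSL" => ProjectiveSpecialLinearGroup (Fin 2) F

theorem Std.sol_J_iff' (S : Std F p) (N : SL) :
    Group.IsSolvable (Subgroup.closure ({pi (Jt : SL), pi N} : Set PSL)) ↔
      SJ ((N : Matrix (Fin 2) (Fin 2) F) 0 0) ((N : Matrix (Fin 2) (Fin 2) F) 0 1)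
        ((N : Matrix (Fin 2) (Fin 2) F) 1 0) ((N : Matrix (Fin 2) (Fin 2) F) 1 1) := by
  have := S.sol_J_iff _ _ _ _ (det_entries N)
  rwa [← eq_mk2_entries N] at this

theorem Std.sol_X_iff' (S : Std F p) (a : F) (ha : a ≠ 0) (N : SL) :
    Group.IsSolvable (Subgroup.closure ({pi (xm a : SL), pi N} : Set PSL)) ↔
      SX a ((N : Matrix (Fin 2) (Fin 2) F) 0 0)
        ((N : Matrix (Fin 2) (Fin 2) F) 1 0) ((N : Matrix (Fin 2) (Fin 2) F) 1 1) := by
  have := S.sol_X_iff a ha _ _ _ _ (det_entries N)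
  rwa [← eq_mk2_entries N] at this

theorem Std.sol_D_iff' (S : Std F p) (μ ν : F) (h : μ * ν = 1) (hμ : μ ^ 2 ≠ 1) (N : SL) :
    Group.IsSolvable (Subgroup.closure ({pi (dgm μ ν h : SL), pi N} : Set PSL)) ↔
      SD ((N : Matrix (Fin 2) (Fin 2) F) 0 0) ((N : Matrix (Fin 2) (Fin 2) F) 0 1)
        ((N : Matrix (Fin 2) (Fin 2) F) 1 0) ((N : Matrix (Fin 2) (Fin 2) F) 1 1) := by
  have := S.sol_D_iff μ ν h hμ _ _ _ _ (det_entries N)
  rwa [← eq_mk2_entries N] at this

/-- the solubilizer of a split element has `2 q (q - 1)` preimages in `SL₂` -/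
theorem Std.card_sol_D (S : Std F p) (μ ν : F) (h : μ * ν = 1) (hμ : μ ^ 2 ≠ 1) :
    Nat.card {N : SL // Group.IsSolvable (Subgroup.closure ({pi (dgm μ ν h : SL), pi N} : Set PSL))} =
      2 * Fintype.card F * (Fintype.card F - 1) := by
  have key : ∀ N : SL,
      Group.IsSolvable (Subgroup.closure ({pi (dgm μ ν h : SL), pi N} : Set PSL)) ↔
      ((N : Matrix (Fin 2) (Fin 2) F) 1 0 = 0 ∨
        ((N : Matrix (Fin 2) (Fin 2) F) 1 0 ≠ 0 ∧ (N : Matrix (Fin 2) (Fin 2) F) 1 1 =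
          (fun a _ => a⁻¹) ((N : Matrix (Fin 2) (Fin 2) F) 0 0)
            ((N : Matrix (Fin 2) (Fin 2) F) 1 0))) := by
    intro N
    rw [S.sol_D_iff' μ ν h hμ N]
    have hd := det_entries N
    unfold SD
    constructor
    · rintro (h1 | h1 | ⟨h1, h2⟩)
      · exact Or.inl h1
      · by_cases hc : (N : Matrix (Fin 2) (Fin 2) F) 1 0 = 0
        · exact Or.inl hc
        · right
          refine ⟨hc, ?_⟩
          rw [h1] at hd
          apply eq_inv_of_mul_eq_one_right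
          linear_combination hd
      · right
        constructor
        · intro hc
          rw [h1, hc] at hd
          simp at hd
        · simp only
          rw [h1, h2, _root_.inv_zero]
    · rintro (h1 | ⟨h1, h2⟩)
      · exact Or.inl h1
      · simp only at h2
        by_cases ha : (N : Matrix (Fin 2) (Fin 2) F) 0 0 = 0
        · right; right
          refine ⟨ha, ?_⟩
          rw [h2, ha, _root_.inv_zero]
        · right; left
          have h11 : (N : Matrix (Fin 2) (Fin 2) F) 0 0 * (N : Matrix (Fin 2) (Fin 2) F) 1 1 = 1 := by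
            rw [h2]; exact mul_inv_cancel₀ ha
          have : (N : Matrix (Fin 2) (Fin 2) F) 0 1 * (N : Matrix (Fin 2) (Fin 2) F) 1 0 = 0 := by
            linear_combination h11 - hd
          exact (mul_eq_zero.mp this).resolve_right h1
  rw [Nat.card_congr (Equiv.subtypeEquivRight key), card_or, card_lower_zero,
    card_lower_ne (fun a _ => a⁻¹)]
  · ring
  · rintro y h1 ⟨h3, -⟩
    exact h3 h1

theorem card_PX (a : F) (ha : a ≠ 0) (h2 : (2 : F) ≠ 0) :
    Nat.card {c : F // a * c = 1 ∨ a * c = -1} = 2 := by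
  have e1 : ∀ x : F, a * x = 1 ↔ x = a⁻¹ := by
    intro x
    constructor
    · intro h
      field_simp
      linear_combination h
    · intro h
      rw [h]
      field_simp
  have e2 : ∀ x : F, a * x = -1 ↔ x = -a⁻¹ := by
    intro x
    constructor
    · intro h
      field_simp
      linear_combination h
    · intro h
      rw [h]
      field_simp
  have hd : ∀ x : F, a * x = 1 → ¬ a * x = -1 := by
    intro x h1 h2'
    rw [h1] at h2'
    apply h2
    linear_combination h2'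
  rw [card_or _ _ hd, card_subtype_eq_one _ (a⁻¹) e1, card_subtype_eq_one _ (-a⁻¹) e2]

theorem card_QX (h3 : (3 : F) = 0) :
    Nat.card {τ : F // τ = 0 ∨ τ = 1 ∨ τ = -1} = 3 := by
  have h2 : (2 : F) ≠ 0 := by
    intro h'
    have : (1 : F) = 0 := by linear_combination h3 - h'
    exact one_ne_zero this
  have hd1 : ∀ x : F, x = 0 → ¬ (x = 1 ∨ x = -1) := by
    rintro x h1 (h2' | h2')
    · rw [h1] at h2'
      exact zero_ne_one h2'
    · rw [h1] at h2'
      have : (1 : F) = 0 := by linear_combination h2'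
      exact one_ne_zero this
  have hd2 : ∀ x : F, x = 1 → ¬ x = -1 := by
    intro x h1 h2'
    rw [h1] at h2'
    apply h2
    linear_combination h2'
  rw [card_or _ _ hd1, card_or _ _ hd2, card_subtype_eq_one _ (0 : F) (fun _ => Iff.rfl),
    card_subtype_eq_one _ (1 : F) (fun _ => Iff.rfl),
    card_subtype_eq_one _ (-1 : F) (fun _ => Iff.rfl)]

/-- the solubilizer of an element of order three has `q (q + 5)` preimages in `SL₂` -/
theorem Std.card_sol_X (S : Std F p) (a : F) (ha : a ≠ 0) :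
    Nat.card {N : SL // Group.IsSolvable (Subgroup.closure ({pi (xm a : SL), pi N} : Set PSL))} =
      Fintype.card F * (Fintype.card F + 5) := by
  have hP : ∀ c : F, (a * c = 1 ∨ a * c = -1) → c ≠ 0 := by
    rintro c (h | h) rfl
    · rw [mul_zero] at h; exact zero_ne_one h
    · rw [mul_zero] at h
      have : (1 : F) = 0 := by linear_combination h
      exact one_ne_zero this
  have key : ∀ N : SL,
      Group.IsSolvable (Subgroup.closure ({pi (xm a : SL), pi N} : Set PSL)) ↔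
      ((N : Matrix (Fin 2) (Fin 2) F) 1 0 = 0 ∨
        ((fun c => a * c = 1 ∨ a * c = -1) ((N : Matrix (Fin 2) (Fin 2) F) 1 0) ∧
          (fun τ => τ = 0 ∨ τ = 1 ∨ τ = -1) ((N : Matrix (Fin 2) (Fin 2) F) 0 0 +
            (N : Matrix (Fin 2) (Fin 2) F) 1 1))) := by
    intro N
    rw [S.sol_X_iff' a ha N]
    rfl
  rw [Nat.card_congr (Equiv.subtypeEquivRight key), card_or, card_lower_zero,
    Nat.card_congr (lowerTrEquiv (fun c => a * c = 1 ∨ a * c = -1)
      (fun τ => τ = 0 ∨ τ = 1 ∨ τ = -1) hP), Nat.card_prod, Nat.card_prod, card_PX a ha S.h2,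
    card_QX S.h3, Nat.card_eq_fintype_card]
  · have hq : 1 ≤ Fintype.card F := Fintype.card_pos
    obtain ⟨k, hk⟩ : ∃ k, Fintype.card F = k + 1 := ⟨Fintype.card F - 1, by omega⟩
    rw [hk]
    simp only [Nat.add_sub_cancel]
    ring
  · rintro y h1 ⟨h3, -⟩
    exact hP _ h3 h1

end

end Cfsg.Agent.Lib.Helper9.PU
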