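import Mathlib
import Cfsg.Agent.Lib.Helper9.PU10

set_option autoImplicit false
set_option linter.unusedSectionVars false

/-!
# Solubilizers in `PSL₂(3^p)`: counting the solubilizer of an involution (conics)
-/

namespace Cfsg.Agent.Lib.Helper9.PU

open Matrix Cfsg.Agent.Lib.Helper2 Cfsg.Agent.Lib.Helper2.DSub Cfsg.Agent.Lib.Helper2.SL2A5
  Cfsg.Agent.Lib.Helper5 Cfsg.Agent.Lib.Helper5.PSL2Aut Cfsg.Agent.Lib.Helper5.SL2Char2

theorem card_and_not {α : Type*} [Finite α] (P Q : α → Prop) :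
    Nat.card {a // P a} = Nat.card {a // P a ∧ Q a} + Nat.card {a // P a ∧ ¬ Q a} := by
  rw [← card_or]
  · apply Nat.card_congr
    apply Equiv.subtypeEquivRight
    intro a
    by_cases h : Q a <;> simp [h]
  · rintro a ⟨-, h1⟩ ⟨-, h2⟩
    exact h2 h1

section

variable {F : Type*} [Field F]

local notation "SL" => SpecialLinearGroup (Fin 2) F
local notation "PSL" => ProjectiveSpecialLinearGroup (Fin 2) F

/-- the fibres of `N ↦ (tr N, tr (J N))` are conics -/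
noncomputable def fiberEquiv (h3 : (3 : F) = 0) (σ θ : F) :
    {N : SL // (N : Matrix (Fin 2) (Fin 2) F) 0 0 + (N : Matrix (Fin 2) (Fin 2) F) 1 1 = σ ∧
      (N : Matrix (Fin 2) (Fin 2) F) 1 0 - (N : Matrix (Fin 2) (Fin 2) F) 0 1 = θ} ≃
    {uv : F × F // uv.1 ^ 2 + uv.2 ^ 2 = σ ^ 2 + θ ^ 2 - 1} where
  toFun N := ⟨((N.1 : Matrix (Fin 2) (Fin 2) F) 0 0 + σ, (N.1 : Matrix (Fin 2) (Fin 2) F) 0 1 - θ), by
    have hd := det_entries N.1
    obtain ⟨h1, h2⟩ := N.2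
    show ((N.1 : Matrix (Fin 2) (Fin 2) F) 0 0 + σ) ^ 2 +
      ((N.1 : Matrix (Fin 2) (Fin 2) F) 0 1 - θ) ^ 2 = σ ^ 2 + θ ^ 2 - 1
    have e1 : (N.1 : Matrix (Fin 2) (Fin 2) F) 1 1 = σ - (N.1 : Matrix (Fin 2) (Fin 2) F) 0 0 := by
      linear_combination h1
    have e2 : (N.1 : Matrix (Fin 2) (Fin 2) F) 1 0 = θ + (N.1 : Matrix (Fin 2) (Fin 2) F) 0 1 := by
      linear_combination h2
    rw [e1, e2] at hd
    linear_combination -hd + ((N.1 : Matrix (Fin 2) (Fin 2) F) 0 0 * σ -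
      (N.1 : Matrix (Fin 2) (Fin 2) F) 0 1 * θ) * h3⟩
  invFun uv := ⟨mk2 (uv.1.1 - σ) (uv.1.2 + θ) (uv.1.2 - θ) (-σ - uv.1.1) (by
      linear_combination -uv.2), by
    constructor
    · simp only [mk2_coe, Matrix.of_apply, Matrix.cons_val', Matrix.cons_val_zero,
        Matrix.cons_val_fin_one, Matrix.cons_val_one]
      linear_combination -σ * h3
    · simp only [mk2_coe, Matrix.of_apply, Matrix.cons_val', Matrix.cons_val_zero,
        Matrix.cons_val_fin_one, Matrix.cons_val_one]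
      linear_combination -θ * h3⟩
  left_inv N := by
    apply Subtype.ext
    apply Subtype.ext
    obtain ⟨h1, h2⟩ := N.2
    show !![(N.1 : Matrix (Fin 2) (Fin 2) F) 0 0 + σ - σ,
      (N.1 : Matrix (Fin 2) (Fin 2) F) 0 1 - θ + θ; (N.1 : Matrix (Fin 2) (Fin 2) F) 0 1 - θ - θ,
      -σ - ((N.1 : Matrix (Fin 2) (Fin 2) F) 0 0 + σ)] = (N.1 : Matrix (Fin 2) (Fin 2) F)
    have e1 : (N.1 : Matrix (Fin 2) (Fin 2) F) 0 0 + σ - σ = (N.1 : Matrix (Fin 2) (Fin 2) F) 0 0 := by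
      ring
    have e2 : (N.1 : Matrix (Fin 2) (Fin 2) F) 0 1 - θ + θ = (N.1 : Matrix (Fin 2) (Fin 2) F) 0 1 := by
      ring
    have e3 : (N.1 : Matrix (Fin 2) (Fin 2) F) 0 1 - θ - θ = (N.1 : Matrix (Fin 2) (Fin 2) F) 1 0 := by
      linear_combination -h2 - θ * h3
    have e4 : -σ - ((N.1 : Matrix (Fin 2) (Fin 2) F) 0 0 + σ) =
        (N.1 : Matrix (Fin 2) (Fin 2) F) 1 1 := by
      linear_combination -h1 - σ * h3
    rw [e1, e2, e3, e4]
    exact (Matrix.eta_fin_two _).symm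
  right_inv uv := by
    apply Subtype.ext
    show (uv.1.1 - σ + σ, uv.1.2 + θ - θ) = uv.1
    apply Prod.ext
    · show uv.1.1 - σ + σ = uv.1.1
      ring
    · show uv.1.2 + θ - θ = uv.1.2
      ring

/-- the centralizer of `Jt` as a conic -/
noncomputable def centEquiv :
    {N : SL // (N : Matrix (Fin 2) (Fin 2) F) 0 0 = (N : Matrix (Fin 2) (Fin 2) F) 1 1 ∧
      (N : Matrix (Fin 2) (Fin 2) F) 1 0 = -(N : Matrix (Fin 2) (Fin 2) F) 0 1} ≃
    {uv : F × F // uv.1 ^ 2 + uv.2 ^ 2 = 1} where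
  toFun N := ⟨((N.1 : Matrix (Fin 2) (Fin 2) F) 0 0, (N.1 : Matrix (Fin 2) (Fin 2) F) 0 1), by
    have hd := det_entries N.1
    obtain ⟨h1, h2⟩ := N.2
    show (N.1 : Matrix (Fin 2) (Fin 2) F) 0 0 ^ 2 + (N.1 : Matrix (Fin 2) (Fin 2) F) 0 1 ^ 2 = 1
    rw [← h1, h2] at hd
    linear_combination hd⟩
  invFun uv := ⟨mk2 uv.1.1 uv.1.2 (-uv.1.2) uv.1.1 (by linear_combination uv.2), by
    constructor <;> simp [mk2_coe]⟩
  left_inv N := by
    apply Subtype.ext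
    apply Subtype.ext
    obtain ⟨h1, h2⟩ := N.2
    show !![(N.1 : Matrix (Fin 2) (Fin 2) F) 0 0, (N.1 : Matrix (Fin 2) (Fin 2) F) 0 1;
      -(N.1 : Matrix (Fin 2) (Fin 2) F) 0 1, (N.1 : Matrix (Fin 2) (Fin 2) F) 0 0] =
        (N.1 : Matrix (Fin 2) (Fin 2) F)
    rw [← h2]
    nth_rewrite 2 [h1]
    exact (Matrix.eta_fin_two _).symm
  right_inv uv := by
    apply Subtype.ext
    show (uv.1.1, uv.1.2) = uv.1
    rfl

/-- in characteristic three the conics `u² + v² = ±1` are isomorphic -/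
def conicNeg (h3 : (3 : F) = 0) :
    {uv : F × F // uv.1 ^ 2 + uv.2 ^ 2 = -1} ≃ {uv : F × F // uv.1 ^ 2 + uv.2 ^ 2 = 1} where
  toFun uv := ⟨(uv.1.1 - uv.1.2, uv.1.1 + uv.1.2), by
    show (uv.1.1 - uv.1.2) ^ 2 + (uv.1.1 + uv.1.2) ^ 2 = 1
    linear_combination 2 * uv.2 - h3⟩
  invFun xy := ⟨(-xy.1.1 - xy.1.2, xy.1.1 - xy.1.2), by
    show (-xy.1.1 - xy.1.2) ^ 2 + (xy.1.1 - xy.1.2) ^ 2 = -1
    linear_combination 2 * xy.2 + h3⟩
  left_inv uv := by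
    apply Subtype.ext
    show (-(uv.1.1 - uv.1.2) - (uv.1.1 + uv.1.2), (uv.1.1 - uv.1.2) - (uv.1.1 + uv.1.2)) = uv.1
    apply Prod.ext
    · show -(uv.1.1 - uv.1.2) - (uv.1.1 + uv.1.2) = uv.1.1
      linear_combination -uv.1.1 * h3
    · show (uv.1.1 - uv.1.2) - (uv.1.1 + uv.1.2) = uv.1.2
      linear_combination -uv.1.2 * h3
  right_inv xy := by
    apply Subtype.ext
    show ((-xy.1.1 - xy.1.2) - (xy.1.1 - xy.1.2), (-xy.1.1 - xy.1.2) + (xy.1.1 - xy.1.2)) = xy.1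
    apply Prod.ext
    · show (-xy.1.1 - xy.1.2) - (xy.1.1 - xy.1.2) = xy.1.1
      linear_combination -xy.1.1 * h3
    · show (-xy.1.1 - xy.1.2) + (xy.1.1 - xy.1.2) = xy.1.2
      linear_combination -xy.1.2 * h3

end


section

variable {F : Type*} [Field F] [Fintype F] [DecidableEq F]

local notation "SL" => SpecialLinearGroup (Fin 2) F
local notation "PSL" => ProjectiveSpecialLinearGroup (Fin 2) F

theorem rootCount_zero3 (hm1 : ∀ a : F, a ^ 2 ≠ -1) : rootCount (0 : F) = 0 := by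
  unfold rootCount
  rw [Finset.card_eq_zero, Finset.filter_eq_empty_iff]
  intro μ _ h
  apply hm1 μ
  linear_combination h

theorem card_conic_one (h3 : (3 : F) = 0) (hm1 : ∀ a : F, a ^ 2 ≠ -1) :
    Nat.card {uv : F × F // uv.1 ^ 2 + uv.2 ^ 2 = 1} = Fintype.card F + 1 := by
  have ht : (0 : F) ^ 2 ≠ 4 := by
    intro h
    have : (1 : F) = 0 := by linear_combination -h - h3
    exact one_ne_zero this
  have h1 := card_nform_add_rootCount (0 : F) ht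
  rw [rootCount_zero3 hm1, add_zero] at h1
  rw [Nat.card_eq_fintype_card, Fintype.card_subtype, ← h1]
  congr 1
  apply Finset.filter_congr
  intro x _
  unfold nform
  constructor
  · intro h; linear_combination h
  · intro h; linear_combination h

theorem card_conic_neg_one (h3 : (3 : F) = 0) (hm1 : ∀ a : F, a ^ 2 ≠ -1) :
    Nat.card {uv : F × F // uv.1 ^ 2 + uv.2 ^ 2 = -1} = Fintype.card F + 1 := by
  rw [Nat.card_congr (conicNeg h3), card_conic_one h3 hm1]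

theorem card_fiber (h3 : (3 : F) = 0) (hm1 : ∀ a : F, a ^ 2 ≠ -1) (σ θ : F)
    (h : σ ^ 2 + θ ^ 2 - 1 = 1 ∨ σ ^ 2 + θ ^ 2 - 1 = -1) :
    Nat.card {N : SL // (N : Matrix (Fin 2) (Fin 2) F) 0 0 + (N : Matrix (Fin 2) (Fin 2) F) 1 1 = σ ∧
      (N : Matrix (Fin 2) (Fin 2) F) 1 0 - (N : Matrix (Fin 2) (Fin 2) F) 0 1 = θ} =
      Fintype.card F + 1 := by
  rw [Nat.card_congr (fiberEquiv h3 σ θ)]
  rcases h with h | h
  · rw [h]; exact card_conic_one h3 hm1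
  · rw [h]; exact card_conic_neg_one h3 hm1

theorem card_pA (hm1 : ∀ a : F, a ^ 2 ≠ -1) :
    Nat.card {N : SL // (N : Matrix (Fin 2) (Fin 2) F) 0 0 + (N : Matrix (Fin 2) (Fin 2) F) 1 1 = 0} =
      Fintype.card F * (Fintype.card F - 1) := by
  have h1 := card_trace_eq (0 : F)
  rw [rootCount_zero3 hm1, add_zero] at h1
  rw [← h1]
  apply Nat.card_congr
  apply Equiv.subtypeEquivRight
  intro N
  rw [Matrix.trace_fin_two]

theorem Jt_mul_entries (N : SL) :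
    ((Jt * N : SL) : Matrix (Fin 2) (Fin 2) F) 0 0 + ((Jt * N : SL) : Matrix (Fin 2) (Fin 2) F) 1 1 =
      (N : Matrix (Fin 2) (Fin 2) F) 1 0 - (N : Matrix (Fin 2) (Fin 2) F) 0 1 := by
  rw [Matrix.SpecialLinearGroup.coe_mul]
  unfold Jt
  rw [mk2_coe]
  simp [Matrix.mul_apply, Fin.sum_univ_two]
  ring

theorem card_pB (hm1 : ∀ a : F, a ^ 2 ≠ -1) :
    Nat.card {N : SL // (N : Matrix (Fin 2) (Fin 2) F) 1 0 - (N : Matrix (Fin 2) (Fin 2) F) 0 1 = 0} =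
      Fintype.card F * (Fintype.card F - 1) := by
  rw [← card_pA hm1]
  apply Nat.card_congr
  apply Equiv.subtypeEquiv (Equiv.mulLeft (Jt : SL))
  intro N
  rw [Equiv.coe_mulLeft, Jt_mul_entries]

theorem card_pC (h3 : (3 : F) = 0) (hm1 : ∀ a : F, a ^ 2 ≠ -1) :
    Nat.card {N : SL // (N : Matrix (Fin 2) (Fin 2) F) 0 0 = (N : Matrix (Fin 2) (Fin 2) F) 1 1 ∧
      (N : Matrix (Fin 2) (Fin 2) F) 1 0 = -(N : Matrix (Fin 2) (Fin 2) F) 0 1} =
      Fintype.card F + 1 := by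
  rw [Nat.card_congr centEquiv, card_conic_one h3 hm1]

end


section

variable {F : Type*} [Field F] [Fintype F] [DecidableEq F] {p : ℕ}

local notation "SL" => SpecialLinearGroup (Fin 2) F
local notation "PSL" => ProjectiveSpecialLinearGroup (Fin 2) F

theorem card_axis_points (h3 : (3 : F) = 0) :
    Nat.card {uv : F × F // uv.1 ^ 2 + uv.2 ^ 2 = 1 ∧ (uv.1 = 0 ∨ uv.2 = 0)} = 4 := by
  have h2 : (2 : F) ≠ 0 := by
    intro h'
    have : (1 : F) = 0 := by linear_combination h3 - h'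
    exact one_ne_zero this
  have h11 : (1 : F) ≠ -1 := by
    intro h'
    apply h2
    linear_combination h'
  have key : ∀ uv : F × F, (uv.1 ^ 2 + uv.2 ^ 2 = 1 ∧ (uv.1 = 0 ∨ uv.2 = 0)) ↔
      (uv = (0, 1) ∨ (uv = (0, -1) ∨ (uv = (1, 0) ∨ uv = (-1, 0)))) := by
    rintro ⟨u, v⟩
    simp only [Prod.mk.injEq]
    constructor
    · rintro ⟨h, h0 | h0⟩
      · rw [h0] at h
        have : v ^ 2 = 1 := by linear_combination h
        rcases eq_or_eq_neg_of_sq_one v this with hv | hv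
        · exact Or.inl ⟨h0, hv⟩
        · exact Or.inr (Or.inl ⟨h0, hv⟩)
      · rw [h0] at h
        have : u ^ 2 = 1 := by linear_combination h
        rcases eq_or_eq_neg_of_sq_one u this with hu | hu
        · exact Or.inr (Or.inr (Or.inl ⟨hu, h0⟩))
        · exact Or.inr (Or.inr (Or.inr ⟨hu, h0⟩))
    · rintro (⟨hu, hv⟩ | ⟨hu, hv⟩ | ⟨hu, hv⟩ | ⟨hu, hv⟩)
      · rw [hu, hv]; exact ⟨by ring, Or.inl rfl⟩
      · rw [hu, hv]; exact ⟨by ring, Or.inl rfl⟩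
      · rw [hu, hv]; exact ⟨by ring, Or.inr rfl⟩
      · rw [hu, hv]; exact ⟨by ring, Or.inr rfl⟩
  have hd1 : ∀ x : F × F, x = (0, 1) → ¬ (x = (0, -1) ∨ (x = (1, 0) ∨ x = (-1, 0))) := by
    rintro x h1 (h2' | h2' | h2')
    · rw [h1, Prod.mk.injEq] at h2'
      exact h11 h2'.2
    · rw [h1, Prod.mk.injEq] at h2'
      exact zero_ne_one h2'.1
    · rw [h1, Prod.mk.injEq] at h2'
      exact one_ne_zero h2'.2
  have hd2 : ∀ x : F × F, x = (0, -1) → ¬ (x = (1, 0) ∨ x = (-1, 0)) := by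
    rintro x h1 (h2' | h2')
    · rw [h1, Prod.mk.injEq] at h2'
      exact zero_ne_one h2'.1
    · rw [h1, Prod.mk.injEq] at h2'
      exact one_ne_zero (neg_eq_zero.mp h2'.2)
  have hd3 : ∀ x : F × F, x = (1, 0) → ¬ (x = (-1, 0)) := by
    intro x h1 h2'
    rw [h1, Prod.mk.injEq] at h2'
    exact h11 h2'.1
  rw [Nat.card_congr (Equiv.subtypeEquivRight key), card_or _ _ hd1, card_or _ _ hd2,
    card_or _ _ hd3,
    card_subtype_eq_one _ ((0 : F), (1 : F)) (fun _ => Iff.rfl),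
    card_subtype_eq_one _ ((0 : F), (-1 : F)) (fun _ => Iff.rfl),
    card_subtype_eq_one _ ((1 : F), (0 : F)) (fun _ => Iff.rfl),
    card_subtype_eq_one _ ((-1 : F), (0 : F)) (fun _ => Iff.rfl)]

end


section

variable {F : Type*} [Field F] [Fintype F] [DecidableEq F] {p : ℕ}

local notation "SL" => SpecialLinearGroup (Fin 2) F
local notation "PSL" => ProjectiveSpecialLinearGroup (Fin 2) F

theorem card_pC_axes (h3 : (3 : F) = 0) :
    Nat.card {N : SL // ((N : Matrix (Fin 2) (Fin 2) F) 0 0 = (N : Matrix (Fin 2) (Fin 2) F) 1 1 ∧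
      (N : Matrix (Fin 2) (Fin 2) F) 1 0 = -(N : Matrix (Fin 2) (Fin 2) F) 0 1) ∧
      ((N : Matrix (Fin 2) (Fin 2) F) 0 0 + (N : Matrix (Fin 2) (Fin 2) F) 1 1 = 0 ∨
        (N : Matrix (Fin 2) (Fin 2) F) 1 0 - (N : Matrix (Fin 2) (Fin 2) F) 0 1 = 0)} = 4 := by
  have h2 : (2 : F) ≠ 0 := by
    intro h'
    have : (1 : F) = 0 := by linear_combination h3 - h'
    exact one_ne_zero this
  rw [← card_axis_points h3]
  apply Nat.card_congr
  refine (Equiv.subtypeSubtypeEquivSubtypeInter _ _).symm.trans ?_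
  refine Equiv.trans ?_ (Equiv.subtypeSubtypeEquivSubtypeInter
    (fun uv : F × F => uv.1 ^ 2 + uv.2 ^ 2 = 1) (fun uv => uv.1 = 0 ∨ uv.2 = 0))
  apply Equiv.subtypeEquiv centEquiv
  intro x
  show (_ ∨ _) ↔ ((x.1 : Matrix (Fin 2) (Fin 2) F) 0 0 = 0 ∨ (x.1 : Matrix (Fin 2) (Fin 2) F) 0 1 = 0)
  obtain ⟨h1, h2'⟩ := x.2
  rw [← h1, h2']
  constructor
  · rintro (h | h)
    · left
      have : 2 * (x.1 : Matrix (Fin 2) (Fin 2) F) 0 0 = 0 := by linear_combination h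
      exact (mul_eq_zero.mp this).resolve_left h2
    · right
      have : 2 * (x.1 : Matrix (Fin 2) (Fin 2) F) 0 1 = 0 := by linear_combination -h
      exact (mul_eq_zero.mp this).resolve_left h2
  · rintro (h | h)
    · left; rw [h]; ring
    · right; rw [h]; ring

/-- trace zero -/
def pA (N : SL) : Prop :=
  (N : Matrix (Fin 2) (Fin 2) F) 0 0 + (N : Matrix (Fin 2) (Fin 2) F) 1 1 = 0

/-- symmetric -/
def pB (N : SL) : Prop :=
  (N : Matrix (Fin 2) (Fin 2) F) 1 0 - (N : Matrix (Fin 2) (Fin 2) F) 0 1 = 0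

/-- centralizing `Jt` -/
def pC (N : SL) : Prop :=
  (N : Matrix (Fin 2) (Fin 2) F) 0 0 = (N : Matrix (Fin 2) (Fin 2) F) 1 1 ∧
    (N : Matrix (Fin 2) (Fin 2) F) 1 0 = -(N : Matrix (Fin 2) (Fin 2) F) 0 1

/-- the `A₄` part -/
def pD (N : SL) : Prop :=
  ((N : Matrix (Fin 2) (Fin 2) F) 0 0 + (N : Matrix (Fin 2) (Fin 2) F) 1 1 = 1 ∨
    (N : Matrix (Fin 2) (Fin 2) F) 0 0 + (N : Matrix (Fin 2) (Fin 2) F) 1 1 = -1) ∧
  ((N : Matrix (Fin 2) (Fin 2) F) 1 0 - (N : Matrix (Fin 2) (Fin 2) F) 0 1 = 1 ∨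
    (N : Matrix (Fin 2) (Fin 2) F) 1 0 - (N : Matrix (Fin 2) (Fin 2) F) 0 1 = -1)

theorem card_pD (h3 : (3 : F) = 0) (hm1 : ∀ a : F, a ^ 2 ≠ -1) :
    Nat.card {N : SL // pD N} = 4 * (Fintype.card F + 1) := by
  have h2 : (2 : F) ≠ 0 := by
    intro h'
    have : (1 : F) = 0 := by linear_combination h3 - h'
    exact one_ne_zero this
  have h11 : (1 : F) ≠ -1 := by
    intro h'
    apply h2
    linear_combination h'
  have key : ∀ N : SL, pD N ↔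
      (((N : Matrix (Fin 2) (Fin 2) F) 0 0 + (N : Matrix (Fin 2) (Fin 2) F) 1 1 = 1 ∧
        (N : Matrix (Fin 2) (Fin 2) F) 1 0 - (N : Matrix (Fin 2) (Fin 2) F) 0 1 = 1) ∨
      (((N : Matrix (Fin 2) (Fin 2) F) 0 0 + (N : Matrix (Fin 2) (Fin 2) F) 1 1 = 1 ∧
        (N : Matrix (Fin 2) (Fin 2) F) 1 0 - (N : Matrix (Fin 2) (Fin 2) F) 0 1 = -1) ∨
      (((N : Matrix (Fin 2) (Fin 2) F) 0 0 + (N : Matrix (Fin 2) (Fin 2) F) 1 1 = -1 ∧
        (N : Matrix (Fin 2) (Fin 2) F) 1 0 - (N : Matrix (Fin 2) (Fin 2) F) 0 1 = 1) ∨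
      ((N : Matrix (Fin 2) (Fin 2) F) 0 0 + (N : Matrix (Fin 2) (Fin 2) F) 1 1 = -1 ∧
        (N : Matrix (Fin 2) (Fin 2) F) 1 0 - (N : Matrix (Fin 2) (Fin 2) F) 0 1 = -1)))) := by
    intro N
    unfold pD
    tauto
  have hd1 : ∀ N : SL, ((N : Matrix (Fin 2) (Fin 2) F) 0 0 + (N : Matrix (Fin 2) (Fin 2) F) 1 1 = 1 ∧
        (N : Matrix (Fin 2) (Fin 2) F) 1 0 - (N : Matrix (Fin 2) (Fin 2) F) 0 1 = 1) → ¬
      (((N : Matrix (Fin 2) (Fin 2) F) 0 0 + (N : Matrix (Fin 2) (Fin 2) F) 1 1 = 1 ∧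
        (N : Matrix (Fin 2) (Fin 2) F) 1 0 - (N : Matrix (Fin 2) (Fin 2) F) 0 1 = -1) ∨
      (((N : Matrix (Fin 2) (Fin 2) F) 0 0 + (N : Matrix (Fin 2) (Fin 2) F) 1 1 = -1 ∧
        (N : Matrix (Fin 2) (Fin 2) F) 1 0 - (N : Matrix (Fin 2) (Fin 2) F) 0 1 = 1) ∨
      ((N : Matrix (Fin 2) (Fin 2) F) 0 0 + (N : Matrix (Fin 2) (Fin 2) F) 1 1 = -1 ∧
        (N : Matrix (Fin 2) (Fin 2) F) 1 0 - (N : Matrix (Fin 2) (Fin 2) F) 0 1 = -1))) := by
    rintro N ⟨a1, a2⟩ (⟨b1, b2⟩ | ⟨b1, b2⟩ | ⟨b1, b2⟩)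
    · rw [a2] at b2; exact h11 b2
    · rw [a1] at b1; exact h11 b1
    · rw [a1] at b1; exact h11 b1
  have hd2 : ∀ N : SL, ((N : Matrix (Fin 2) (Fin 2) F) 0 0 + (N : Matrix (Fin 2) (Fin 2) F) 1 1 = 1 ∧
        (N : Matrix (Fin 2) (Fin 2) F) 1 0 - (N : Matrix (Fin 2) (Fin 2) F) 0 1 = -1) → ¬
      (((N : Matrix (Fin 2) (Fin 2) F) 0 0 + (N : Matrix (Fin 2) (Fin 2) F) 1 1 = -1 ∧
        (N : Matrix (Fin 2) (Fin 2) F) 1 0 - (N : Matrix (Fin 2) (Fin 2) F) 0 1 = 1) ∨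
      ((N : Matrix (Fin 2) (Fin 2) F) 0 0 + (N : Matrix (Fin 2) (Fin 2) F) 1 1 = -1 ∧
        (N : Matrix (Fin 2) (Fin 2) F) 1 0 - (N : Matrix (Fin 2) (Fin 2) F) 0 1 = -1)) := by
    rintro N ⟨a1, a2⟩ (⟨b1, b2⟩ | ⟨b1, b2⟩)
    · rw [a1] at b1; exact h11 b1
    · rw [a1] at b1; exact h11 b1
  have hd3 : ∀ N : SL, ((N : Matrix (Fin 2) (Fin 2) F) 0 0 + (N : Matrix (Fin 2) (Fin 2) F) 1 1 = -1 ∧
        (N : Matrix (Fin 2) (Fin 2) F) 1 0 - (N : Matrix (Fin 2) (Fin 2) F) 0 1 = 1) → ¬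
      ((N : Matrix (Fin 2) (Fin 2) F) 0 0 + (N : Matrix (Fin 2) (Fin 2) F) 1 1 = -1 ∧
        (N : Matrix (Fin 2) (Fin 2) F) 1 0 - (N : Matrix (Fin 2) (Fin 2) F) 0 1 = -1) := by
    rintro N ⟨a1, a2⟩ ⟨b1, b2⟩
    rw [a2] at b2; exact h11 b2
  rw [Nat.card_congr (Equiv.subtypeEquivRight key), card_or _ _ hd1, card_or _ _ hd2,
    card_or _ _ hd3, card_fiber h3 hm1 1 1 (Or.inl (by ring)),
    card_fiber h3 hm1 1 (-1) (Or.inl (by ring)), card_fiber h3 hm1 (-1) 1 (Or.inl (by ring)),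
    card_fiber h3 hm1 (-1) (-1) (Or.inl (by ring))]
  ring

/-- the solubilizer of an involution has `2 q (q + 1)` preimages in `SL₂` -/
theorem Std.card_sol_J (S : Std F p) :
    Nat.card {N : SL // Group.IsSolvable (Subgroup.closure ({pi (Jt : SL), pi N} : Set PSL))} =
      2 * (Fintype.card F * (Fintype.card F + 1)) := by
  have h3 := S.h3
  have hm1 := S.hm1
  have h2 := S.h2
  have h11 : (1 : F) ≠ -1 := by
    intro h'
    apply h2
    linear_combination h'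
  have key : ∀ N : SL,
      Group.IsSolvable (Subgroup.closure ({pi (Jt : SL), pi N} : Set PSL)) ↔
        (pA N ∨ ((pB N ∧ ¬ pA N) ∨ ((pC N ∧ ¬ (pA N ∨ pB N)) ∨ pD N))) := by
    intro N
    rw [S.sol_J_iff' N]
    unfold SJ pA pB pC pD
    tauto
  have hd1 : ∀ N : SL, pA N → ¬ ((pB N ∧ ¬ pA N) ∨ ((pC N ∧ ¬ (pA N ∨ pB N)) ∨ pD N)) := by
    rintro N hA (⟨-, h⟩ | ⟨-, h⟩ | ⟨h | h, -⟩)
    · exact h hA
    · exact h (Or.inl hA)
    · unfold pA at hA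
      rw [hA] at h
      exact zero_ne_one h
    · unfold pA at hA
      rw [hA] at h
      have : (1 : F) = 0 := by linear_combination h
      exact one_ne_zero this
  have hd2 : ∀ N : SL, (pB N ∧ ¬ pA N) → ¬ ((pC N ∧ ¬ (pA N ∨ pB N)) ∨ pD N) := by
    rintro N ⟨hB, -⟩ (⟨-, h⟩ | ⟨-, h | h⟩)
    · exact h (Or.inr hB)
    · unfold pB at hB
      rw [hB] at h
      exact zero_ne_one h
    · unfold pB at hB
      rw [hB] at h
      have : (1 : F) = 0 := by linear_combination h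
      exact one_ne_zero this
  have hd3 : ∀ N : SL, (pC N ∧ ¬ (pA N ∨ pB N)) → ¬ pD N := by
    rintro N ⟨⟨c1, c2⟩, -⟩ ⟨hs, ht⟩
    have hd := det_entries N
    have hs2 : ((N : Matrix (Fin 2) (Fin 2) F) 0 0 + (N : Matrix (Fin 2) (Fin 2) F) 1 1) ^ 2 = 1 := by
      rcases hs with h | h <;> rw [h] <;> ring
    have ht2 : ((N : Matrix (Fin 2) (Fin 2) F) 1 0 - (N : Matrix (Fin 2) (Fin 2) F) 0 1) ^ 2 = 1 := by
      rcases ht with h | h <;> rw [h] <;> ring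
    rw [← c1] at hs2 hd
    rw [c2] at ht2 hd
    have : (1 : F) = 0 := by
      linear_combination -hs2 - ht2 + 4 * hd + h3
    exact one_ne_zero this
  rw [Nat.card_congr (Equiv.subtypeEquivRight key), card_or _ _ hd1, card_or _ _ hd2,
    card_or _ _ hd3]
  have c1 : Nat.card {N : SL // pA N} = Fintype.card F * (Fintype.card F - 1) := card_pA hm1
  have c2 := card_and_not (fun N : SL => pB N) (fun N : SL => pA N)
  have c2a : Nat.card {N : SL // pB N} = Fintype.card F * (Fintype.card F - 1) := card_pB hm1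
  have c2b : Nat.card {N : SL // pB N ∧ pA N} = Fintype.card F + 1 := by
    rw [← card_fiber h3 hm1 0 0 (Or.inr (by ring))]
    apply Nat.card_congr
    apply Equiv.subtypeEquivRight
    intro N
    exact and_comm
  have c3 := card_and_not (fun N : SL => pC N) (fun N : SL => pA N ∨ pB N)
  have c3a : Nat.card {N : SL // pC N} = Fintype.card F + 1 := card_pC h3 hm1
  have c3b : Nat.card {N : SL // pC N ∧ (pA N ∨ pB N)} = 4 := card_pC_axes h3
  have c4 := card_pD (F := F) h3 hm1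
  rw [c2a, c2b] at c2
  rw [c3a, c3b] at c3
  rw [c1, c4]
  have hq : 27 ≤ Fintype.card F := S.card_ge
  obtain ⟨k, hk⟩ : ∃ k, Fintype.card F = k + 1 := ⟨Fintype.card F - 1, by omega⟩
  rw [hk] at c2 c3 ⊢
  simp only [Nat.add_sub_cancel] at c2 ⊢
  have e1 : (k + 1) * (k + 1 + 1) = (k + 1) * k + 2 * (k + 1) := by ring
  rw [e1]
  omega

end

end Cfsg.Agent.Lib.Helper9.PU
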