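import Mathlib
import Cfsg.Agent.Lib.Helper9.PU11

set_option autoImplicit false
set_option linter.unusedSectionVars false

/-!
# Solubilizers in `PSL₂(3^p)`: normal forms and the four cardinalities
-/

namespace Cfsg.Agent.Lib.Helper9.PU

open Matrix Cfsg.Agent.Lib.Helper2 Cfsg.Agent.Lib.Helper2.DSub Cfsg.Agent.Lib.Helper2.SL2A5
  Cfsg.Agent.Lib.Helper5 Cfsg.Agent.Lib.Helper5.PSL2Aut Cfsg.Agent.Lib.Helper5.SL2Char2

section

variable {F : Type*} [Field F] [Fintype F] [DecidableEq F] {p : ℕ}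

local notation "SL" => SpecialLinearGroup (Fin 2) F
local notation "PSL" => ProjectiveSpecialLinearGroup (Fin 2) F

/-- fibres of `SL₂ → PSL₂` have two elements -/
theorem card_lift (h2 : (2 : F) ≠ 0) (P : PSL → Prop) :
    Nat.card {N : SL // P (pi N)} = 2 * Nat.card {y : PSL // P y} := by
  have e := QuotientGroup.preimageMkEquivSubgroupProdSet (Subgroup.center SL) {y : PSL | P y}
  have h1 : Nat.card {N : SL // P (pi N)} =
      Nat.card ((QuotientGroup.mk : SL → PSL) ⁻¹' {y : PSL | P y}) := rfl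
  rw [h1, Nat.card_congr e, Nat.card_prod,
    Cfsg.Agent.Lib.Helper1.card_center_SL_field (F := F) 2 (by norm_num), (gcd_two_of_odd h2).1]
  rfl

theorem Std.card_sol_invol (S : Std F p) (x : PSL) (hx : orderOf x = 2) :
    Nat.card {y : PSL // Group.IsSolvable (Subgroup.closure ({x, y} : Set PSL))} =
      Fintype.card F * (Fintype.card F + 1) := by
  obtain ⟨g, hg, hgx⟩ := Cfsg.Agent.Lib.Helper2.SL2Four.exists_lift S.h2 x hx
  have hgx' : pi g = x := hgx
  subst hgx'
  have hJ : (Jt : SL) * Jt = -1 := by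
    rw [Cfsg.Agent.Lib.Helper2.SL2Four.sq_eq_neg_one_iff]
    unfold Jt
    rw [trace_mk2]; ring
  obtain ⟨c, hc⟩ := isConj_iff.1 (Cfsg.Agent.Lib.Helper2.SL2Four.isConj_of_sq S.h2 hg hJ)
  have h1 := card_sol_congr (MulAut.conj (pi c)) (pi g)
  rw [MulAut.conj_apply, ← map_inv, ← map_mul, ← map_mul, hc] at h1
  have h2 := card_lift S.h2
    (fun y : PSL => Group.IsSolvable (Subgroup.closure ({pi (Jt : SL), y} : Set PSL)))
  rw [S.card_sol_J] at h2
  rw [← h1]
  omega

theorem Std.card_sol_three (S : Std F p) (x : PSL) (hx : orderOf x = 3) :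
    2 * Nat.card {y : PSL // Group.IsSolvable (Subgroup.closure ({x, y} : Set PSL))} =
      Fintype.card F * (Fintype.card F + 5) := by
  haveI : Fact (Nat.Prime 3) := ⟨by norm_num⟩
  have hf : 1 ≤ p := S.hp.one_lt.le
  have hK : IsPGroup 3 (Subgroup.zpowers x) := by
    apply IsPGroup.of_card (n := 1)
    rw [Nat.card_zpowers, hx, pow_one]
  obtain ⟨g, hg⟩ := exists_conj_of_isPGroup hf S.hF (Subgroup.zpowers x) hK
  obtain ⟨t, ht⟩ := hg x (Subgroup.mem_zpowers x)
  have ht0 : t ≠ 0 := by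
    rintro rfl
    rw [X_zero, mul_one, mul_inv_cancel] at ht
    rw [ht, orderOf_one] at hx
    omega
  have h1 := card_sol_congr (MulAut.conj g) (X t)
  rw [MulAut.conj_apply, ← ht] at h1
  have h2 := card_lift S.h2
    (fun y : PSL => Group.IsSolvable (Subgroup.closure ({pi (xm t : SL), y} : Set PSL)))
  rw [S.card_sol_X t ht0] at h2
  rw [h1]
  exact h2.symm

end


section

variable {F : Type*} [Field F] [Fintype F] [DecidableEq F] {p : ℕ}

local notation "SL" => SpecialLinearGroup (Fin 2) F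
local notation "PSL" => ProjectiveSpecialLinearGroup (Fin 2) F

theorem Std.three_dvd_card (S : Std F p) : 3 ∣ Fintype.card F := by
  rw [S.hF]
  exact dvd_pow_self 3 S.hp.ne_zero

theorem Std.ss_facts (S : Std F p) (M : SL) (hx1 : pi M ≠ 1) (ho2 : orderOf (pi M) ≠ 2) (n : ℕ)
    (hn : ¬ 3 ∣ n) (hd : orderOf (pi M) ∣ n) :
    (pi M) ^ 2 ≠ 1 ∧ (M : Matrix (Fin 2) (Fin 2) F).trace ^ 2 ≠ 4 ∧
      (M : Matrix (Fin 2) (Fin 2) F).trace ≠ 0 ∧
      (pi M) ^ (Nat.card (Subgroup.centralizer ({M} : Set SL))) = 1 := by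
  have hsq : (pi M) ^ 2 ≠ 1 := by
    intro h
    have h1 := orderOf_dvd_of_pow_eq_one h
    rcases (Nat.dvd_prime Nat.prime_two).mp h1 with h2 | h2
    · exact hx1 (orderOf_eq_one_iff.mp h2)
    · exact ho2 h2
  refine ⟨hsq, ?_, ?_, ?_⟩
  · intro h4
    have h1 : (pi M) ^ 3 = 1 := by
      rw [pi_cube_eq_one_iff S.h3, h4]
      linear_combination S.h3
    have h2 := orderOf_dvd_of_pow_eq_one h1
    have h3p : Nat.Prime 3 := by norm_num
    rcases (Nat.dvd_prime h3p).mp h2 with h5 | h5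
    · exact hx1 (orderOf_eq_one_iff.mp h5)
    · rw [h5] at hd
      exact hn hd
  · intro h0
    apply hsq
    rw [pi_sq_eq_one_iff]
    exact Or.inl h0
  · have hM : M ∈ Subgroup.centralizer ({M} : Set SL) := by
      rw [Subgroup.mem_centralizer_singleton_iff]
    have h0 : (⟨M, hM⟩ : Subgroup.centralizer ({M} : Set SL)) ^
        (Nat.card (Subgroup.centralizer ({M} : Set SL))) = 1 := pow_card_eq_one'
    have h1 := congrArg Subtype.val h0
    rw [Subgroup.coe_pow, Subgroup.coe_one] at h1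
    rw [← map_pow]
    show pi (M ^ Nat.card (Subgroup.centralizer ({M} : Set SL))) = 1
    rw [h1, map_one]

theorem Std.card_sol_split (S : Std F p) (x : PSL) (hx1 : x ≠ 1) (ho2 : orderOf x ≠ 2)
    (hd : orderOf x ∣ Fintype.card F - 1) :
    Nat.card {y : PSL // Group.IsSolvable (Subgroup.closure ({x, y} : Set PSL))} =
      Fintype.card F * (Fintype.card F - 1) := by
  obtain ⟨M, rfl⟩ := pi_surjective x
  have hq := S.card_ge
  have hn : ¬ 3 ∣ Fintype.card F - 1 := by
    have := S.three_dvd_card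
    omega
  obtain ⟨hsq, ht4, hτ, hpow⟩ := S.ss_facts M hx1 ho2 _ hn hd
  have hpow2 : (pi M) ^ (Fintype.card F - 1) = 1 := orderOf_dvd_iff_pow_eq_one.mp hd
  have hc := card_centralizer_generic M ht4
  have hr : rootCount (M : Matrix (Fin 2) (Fin 2) F).trace = 2 := by
    rcases rootCount_eq_zero_or_two _ ht4 with h0 | h0
    · exfalso
      rw [h0, add_zero] at hc
      rw [hc] at hpow
      apply hsq
      have e : Fintype.card F + 1 = (Fintype.card F - 1) + 2 := by omega
      rw [e, pow_add, hpow2, one_mul] at hpow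
      exact hpow
    · exact h0
  obtain ⟨μ, hμ⟩ : ∃ μ : F, μ ^ 2 - (M : Matrix (Fin 2) (Fin 2) F).trace * μ + 1 = 0 := by
    unfold rootCount at hr
    have hpos : 0 < (Finset.univ.filter
      (fun x : F => x ^ 2 - (M : Matrix (Fin 2) (Fin 2) F).trace * x + 1 = 0)).card := by
      rw [hr]; norm_num
    obtain ⟨μ, hμ⟩ := Finset.card_pos.mp hpos
    rw [Finset.mem_filter] at hμ
    exact ⟨μ, hμ.2⟩
  have hμν : μ * ((M : Matrix (Fin 2) (Fin 2) F).trace - μ) = 1 := by linear_combination -hμ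
  have hμ2 : μ ^ 2 ≠ 1 := by
    intro h
    apply ht4
    have h1 : (M : Matrix (Fin 2) (Fin 2) F).trace * μ = 2 := by linear_combination -hμ + h
    have h2 : ((M : Matrix (Fin 2) (Fin 2) F).trace * μ) ^ 2 = 4 := by rw [h1]; norm_num
    rw [mul_pow, h, mul_one] at h2
    exact h2
  have htr : (M : Matrix (Fin 2) (Fin 2) F).trace =
      ((dgm μ ((M : Matrix (Fin 2) (Fin 2) F).trace - μ) hμν : SL) :
        Matrix (Fin 2) (Fin 2) F).trace := by
    unfold dgm
    rw [trace_mk2]; ring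
  obtain ⟨c, hc'⟩ := isConj_iff.1 (isConj_of_trace_eq M _ htr ht4)
  have h1 := card_sol_congr (MulAut.conj (pi c)) (pi M)
  rw [MulAut.conj_apply, ← map_inv, ← map_mul, ← map_mul, hc'] at h1
  have h2 := card_lift S.h2 (fun y : PSL => Group.IsSolvable (Subgroup.closure
    ({pi (dgm μ ((M : Matrix (Fin 2) (Fin 2) F).trace - μ) hμν : SL), y} : Set PSL)))
  rw [S.card_sol_D μ _ hμν hμ2] at h2
  rw [← h1]
  have e : 2 * Fintype.card F * (Fintype.card F - 1) =
      2 * (Fintype.card F * (Fintype.card F - 1)) := by ring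
  rw [e] at h2
  omega

theorem Std.card_sol_nonsplit (S : Std F p) (x : PSL) (hx1 : x ≠ 1) (ho2 : orderOf x ≠ 2)
    (hd : orderOf x ∣ Fintype.card F + 1) :
    Nat.card {y : PSL // Group.IsSolvable (Subgroup.closure ({x, y} : Set PSL))} =
      Fintype.card F + 1 := by
  obtain ⟨M, rfl⟩ := pi_surjective x
  have hq := S.card_ge
  have hn : ¬ 3 ∣ Fintype.card F + 1 := by
    have := S.three_dvd_card
    omega
  obtain ⟨hsq, ht4, hτ, hpow⟩ := S.ss_facts M hx1 ho2 _ hn hd
  have hpow2 : (pi M) ^ (Fintype.card F + 1) = 1 := orderOf_dvd_iff_pow_eq_one.mp hd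
  have hc := card_centralizer_generic M ht4
  have hr : rootCount (M : Matrix (Fin 2) (Fin 2) F).trace = 0 := by
    rcases rootCount_eq_zero_or_two _ ht4 with h0 | h0
    · exact h0
    · exfalso
      rw [h0] at hc
      have hc' : Nat.card (Subgroup.centralizer ({M} : Set SL)) = Fintype.card F - 1 := by omega
      rw [hc'] at hpow
      apply hsq
      have e : Fintype.card F + 1 = (Fintype.card F - 1) + 2 := by omega
      rw [e, pow_add, hpow, one_mul] at hpow2
      exact hpow2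
  have hroot : ∀ μ : F, μ ^ 2 - (M : Matrix (Fin 2) (Fin 2) F).trace * μ + 1 ≠ 0 := by
    intro μ hμ
    unfold rootCount at hr
    rw [Finset.card_eq_zero, Finset.filter_eq_empty_iff] at hr
    exact hr (Finset.mem_univ μ) hμ
  have h2 := card_lift S.h2 (fun y : PSL => Group.IsSolvable (Subgroup.closure
    ({pi M, y} : Set PSL)))
  rw [S.card_sol_N M hτ hroot hsq] at h2
  omega

end

end Cfsg.Agent.Lib.Helper9.PU
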