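import Mathlib
import Cfsg.Prelude.Def_Sporadic_a
import Cfsg.Prelude.Def_SporadicCombinatorics
import Cfsg.Agent.Lib.Helper9.OrbitInst

set_option autoImplicit false
open Cfsg

/-! Boolean-checkable member lists of trios, sextets and complementary pairs, and non-membership in orbits
from the pair invariant computed on such lists. -/

namespace Cfsg.Agent.Lib.Helper9.M24

open scoped Pointwise
open Cfsg.Agent.Lib.Helper1 (gIdx ofMask cw popcN)

/-- A family of point sets is given by a valid list of masks. -/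
def IsList (A : Finset (Finset GolayPt)) (L : List ℕ) : Prop := A = msetsOf L ∧ masksOK L = true

theorem pairInv_eq {A B : Finset (Finset GolayPt)} {LA LB : List ℕ} (hA : IsList A LA) (hB : IsList B LB)
    (j : ℕ) : pairInv j A B = pairInvL j LA LB := by
  rw [hA.1, hB.1, pairInv_msetsOf j hA.2 hB.2]

/-- Member list test for a trio given by a pair of masks. -/
def trioListB (z : ℕ × ℕ) (L : List ℕ) : Bool :=
  masksOK L && lenB 3 L && L.contains z.1 && L.contains z.2 && L.contains (16777215 ^^^ (z.1 ||| z.2)) &&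
    (z.1 != z.2) && (z.1 != 16777215 ^^^ (z.1 ||| z.2)) && (z.2 != 16777215 ^^^ (z.1 ||| z.2))

theorem isList_trioF {z : ℕ × ℕ} {L : List ℕ} (h : trioListB z L = true) : IsList (trioF z) L := by
  unfold trioListB at h
  simp only [Bool.and_eq_true, List.contains_iff_mem, bne_iff_ne] at h
  obtain ⟨⟨⟨⟨⟨⟨⟨h1, h2⟩, h3⟩, h4⟩, h5⟩, h6⟩, h7⟩, h8⟩ := h
  exact ⟨trioOf_eq_msetsOf h1 (length_of_lenB 3 L h2) h3 h4 h5 h6 h7 h8, h1⟩

/-- Member list test for the sextet of a four-point mask. -/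
def sextListB (t : ℕ) (L : List ℕ) : Bool :=
  decide (t < 16777216) && (popcN 24 t == 4) && masksOK L && lenB 6 L &&
    L.all (fun u => (popcN 24 u == 4) && isCodeF (t ^^^ u))

theorem isList_sextOf {t : ℕ} {L : List ℕ} (h : sextListB t L = true) : IsList (sextOf (mset t)) L := by
  unfold sextListB at h
  simp only [Bool.and_eq_true, decide_eq_true_eq, beq_iff_eq] at h
  obtain ⟨⟨⟨⟨h1, h2⟩, h3⟩, h4⟩, h5⟩ := h
  exact ⟨sextOf_eq_msetsOf h1 h2 h3 (length_of_lenB 6 L h4) h5, h3⟩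

/-- Member list test for a complementary pair. -/
def pairListB (d : ℕ) (L : List ℕ) : Bool :=
  masksOK L && lenB 2 L && L.contains d && L.contains (16777215 ^^^ d) && (d != 16777215 ^^^ d)

theorem isList_dodPair {d : ℕ} {L : List ℕ} (h : pairListB d L = true) : IsList (dodPair (mset d)) L := by
  unfold pairListB at h
  simp only [Bool.and_eq_true, List.contains_iff_mem, bne_iff_ne] at h
  obtain ⟨⟨⟨⟨h1, h2⟩, h3⟩, h4⟩, h5⟩ := h
  exact ⟨dodPair_eq_msetsOf h1 (length_of_lenB 2 L h2) h3 h4 h5, h1⟩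

theorem isList_singleton {m : ℕ} (h : masksOK [m] = true) : IsList {mset m} [m] :=
  ⟨singleton_eq_msetsOf m, h⟩

/-! Non-membership in orbits. -/

theorem not_mem_FF {X y₁ y₂ : Finset (Finset GolayPt)} {LX L1 L2 : List ℕ} (hX : IsList X LX)
    (h1 : IsList y₁ L1) (h2 : IsList y₂ L2) (j : ℕ) (hne : pairInvL j LX L1 ≠ pairInvL j LX L2) :
    y₂ ∉ stabOrbit X y₁ := by
  apply not_mem_stabOrbit_of_inv (pairInv j) (pairInv_smul j)
  rw [pairInv_eq hX h1, pairInv_eq hX h2]
  exact hne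

theorem not_mem_SF {o : Finset GolayPt} {y₁ y₂ : Finset (Finset GolayPt)} {LX L1 L2 : List ℕ}
    (hX : IsList {o} LX) (h1 : IsList y₁ L1) (h2 : IsList y₂ L2) (j : ℕ)
    (hne : pairInvL j LX L1 ≠ pairInvL j LX L2) : y₂ ∉ stabOrbit o y₁ := by
  apply not_mem_stabOrbit_of_inv (invSF j) (invSF_smul j)
  unfold invSF
  rw [pairInv_eq hX h1, pairInv_eq hX h2]
  exact hne

theorem not_mem_FS {X : Finset (Finset GolayPt)} {o₁ o₂ : Finset GolayPt} {LX L1 L2 : List ℕ}
    (hX : IsList X LX) (h1 : IsList {o₁} L1) (h2 : IsList {o₂} L2) (j : ℕ)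
    (hne : pairInvL j LX L1 ≠ pairInvL j LX L2) : o₂ ∉ stabOrbit X o₁ := by
  apply not_mem_stabOrbit_of_inv (invFS j) (invFS_smul j)
  unfold invFS
  rw [pairInv_eq hX h1, pairInv_eq hX h2]
  exact hne

end Cfsg.Agent.Lib.Helper9.M24
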