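import Mathlib
import Cfsg.Agent.Lib.Helper9.PerfectSolv1
import Cfsg.Agent.S5895
import Cfsg.Agent.Lib.Helper1.Solv72

set_option autoImplicit false

namespace Cfsg.Agent.H9Perfect

open RegularWreathProduct
open scoped commutatorElement

theorem ofAdd_one_ne : (Multiplicative.ofAdd (1 : ZMod 2)) ≠ 1 := by decide

theorem exists_tower (k : ℕ) :
    ∃ (S : Type) (_ : Group S) (_ : Finite S), IsPGroup 2 S ∧ derivedSeries S k ≠ ⊥ := by
  haveI : Fact (Nat.Prime 2) := ⟨Nat.prime_two⟩
  induction k with
  | zero =>
    refine ⟨Multiplicative (ZMod 2), inferInstance, inferInstance, ?_, ?_⟩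
    · apply IsPGroup.of_card (n := 1)
      simp [Nat.card_eq_fintype_card]
    · rw [derivedSeries_zero]; exact top_ne_bot
  | succ k ih =>
    obtain ⟨S, hSg, hSf, hSp, hSd⟩ := ih
    refine ⟨S ≀ᵣ Multiplicative (ZMod 2), inferInstance, inferInstance, ?_, ?_⟩
    · obtain ⟨m, hm⟩ := IsPGroup.iff_card.mp hSp
      apply IsPGroup.of_card (n := m * 2 + 1)
      rw [RegularWreathProduct.card, hm]
      simp [Nat.card_eq_fintype_card, pow_succ, pow_mul]
    · rw [derivedSeries_succ_eq_map]
      intro h
      rw [Subgroup.map_eq_bot_iff_of_injective _ (Subgroup.subtype_injective _)] at h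
      revert h
      let X : Subgroup (S ≀ᵣ Multiplicative (ZMod 2)) :=
        commutator (S ≀ᵣ Multiplicative (ZMod 2)) ⊓ base S (Multiplicative (ZMod 2))
      apply derivedSeries_ne_bot_of_subquotient (X := X)
        (Subgroup.inclusion inf_le_left) (Subgroup.inclusion_injective _)
        ((baseEval S (Multiplicative (ZMod 2))).comp (Subgroup.inclusion inf_le_right)) ?_ k hSd
      intro s
      obtain ⟨b, hb1, hb2, hb3⟩ := wreath_comm
        (inl (Multiplicative.ofAdd (1 : ZMod 2)) : S ≀ᵣ Multiplicative (ZMod 2))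
        (by rw [right_inl]; exact ofAdd_one_ne) s
      refine ⟨⟨⁅b, inl (Multiplicative.ofAdd (1 : ZMod 2))⁆, ?_, ?_⟩, ?_⟩
      · rw [commutator_def]
        exact Subgroup.commutator_mem_commutator (Subgroup.mem_top _) (Subgroup.mem_top _)
      · exact (mem_base _).mpr hb2
      · exact hb3

theorem alt5_perfect : commutator (alternatingGroup (Fin 5)) = ⊤ := by
  haveI : IsSimpleGroup (alternatingGroup (Fin 5)) :=
    alternatingGroup.isSimpleGroup (by simp)
  rcases (inferInstance : (commutator (alternatingGroup (Fin 5))).Normal).eq_bot_or_eq_top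
    with h | h
  · exfalso
    have hcomm : ∀ a b : alternatingGroup (Fin 5), a * b = b * a := by
      intro a b
      have : ⁅a, b⁆ ∈ commutator (alternatingGroup (Fin 5)) := by
        rw [commutator_def]
        exact Subgroup.commutator_mem_commutator (Subgroup.mem_top _) (Subgroup.mem_top _)
      rw [h, Subgroup.mem_bot] at this
      exact commutatorElement_eq_one_iff_mul_comm.mp this
    let a : alternatingGroup (Fin 5) :=
      ⟨Equiv.swap 0 1 * Equiv.swap 1 2, by rw [Equiv.Perm.mem_alternatingGroup]; decide⟩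
    let b : alternatingGroup (Fin 5) :=
      ⟨Equiv.swap 0 1 * Equiv.swap 2 3, by rw [Equiv.Perm.mem_alternatingGroup]; decide⟩
    have := congrArg (fun g : alternatingGroup (Fin 5) => (g : Equiv.Perm (Fin 5)) 2) (hcomm a b)
    revert this
    simp only [a, b, Subgroup.coe_mul]
    decide
  · exact h

theorem alt5_stab_coatom :
    IsCoatom (MulAction.stabilizer (alternatingGroup (Fin 5)) (0 : Fin 5)) := by
  haveI : MulAction.IsPreprimitive (alternatingGroup (Fin 5)) (Fin 5) :=
    alternatingGroup.isPreprimitive_of_three_le_card (Fin 5) (by simp)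
  exact MulAction.IsPreprimitive.isCoatom_stabilizer_of_isPreprimitive _ (0 : Fin 5)

theorem alt5_stab_solvable :
    Group.IsSolvable (MulAction.stabilizer (alternatingGroup (Fin 5)) (0 : Fin 5)) := by
  haveI : MulAction.IsPreprimitive (alternatingGroup (Fin 5)) (Fin 5) :=
    alternatingGroup.isPreprimitive_of_three_le_card (Fin 5) (by simp)
  apply Cfsg.Agent.Lib.Helper1.Solv72.isSolvable_of_card_dvd_72
  have h1 : (MulAction.stabilizer (alternatingGroup (Fin 5)) (0 : Fin 5)).index = 5 := by
    rw [MulAction.index_stabilizer_of_transitive]; simp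
  have h2 := Subgroup.card_mul_index (MulAction.stabilizer (alternatingGroup (Fin 5)) (0 : Fin 5))
  have h3 : Nat.card (alternatingGroup (Fin 5)) = 60 := by
    have := two_mul_card_alternatingGroup (α := Fin 5)
    rw [Fintype.card_perm, Fintype.card_fin] at this
    rw [Nat.card_eq_fintype_card]
    have h5 : Nat.factorial 5 = 120 := by decide
    omega
  rw [h1, h3] at h2
  have : Nat.card (MulAction.stabilizer (alternatingGroup (Fin 5)) (0 : Fin 5)) = 12 := by omega
  rw [this]; norm_num

end Cfsg.Agent.H9Perfect
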