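import Mathlib

set_option autoImplicit false

/-! Products of a finite family of operators, each acting on one pair of a dual system. -/

namespace Cfsg.Agent.H9Prod

variable {G V : Type*} [Monoid G]

/-- the product of the first `j` members of a family -/
def prodFam {k : ℕ} (r : Fin k → G) : ℕ → G
  | 0 => 1
  | (j + 1) => prodFam r j * (if hj : j < k then r ⟨j, hj⟩ else 1)

theorem prodFam_zero {k : ℕ} (r : Fin k → G) : prodFam r 0 = 1 := rfl

theorem prodFam_succ {k : ℕ} (r : Fin k → G) (j : ℕ) (hj : j < k) :
    prodFam r (j + 1) = prodFam r j * r ⟨j, hj⟩ := by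
  show prodFam r j * (if hj : j < k then r ⟨j, hj⟩ else 1) = _
  rw [dif_pos hj]

/-- membership of the partial products in a submonoid-like predicate -/
theorem prodFam_mem {k : ℕ} (r : Fin k → G) (P : G → Prop) (h1 : P 1)
    (hmul : ∀ g h, P g → P h → P (g * h)) (hr : ∀ i, P (r i)) (j : ℕ) (hj : j ≤ k) :
    P (prodFam r j) := by
  induction j with
  | zero => exact h1
  | succ j ih =>
    rw [prodFam_succ r j (by omega)]
    exact hmul _ _ (ih (by omega)) (hr _)

/-- the action of the full product on a dual system -/
theorem prodFam_act (act : G → V → V) (hmul : ∀ g h x, act (g * h) x = act g (act h x))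
    (hone : ∀ x, act 1 x = x) {k : ℕ} (r : Fin k → G) (E f E' : Fin k → V)
    (hrE : ∀ i j, act (r i) (E j) = if i = j then f j else E j)
    (hrf : ∀ i j, act (r i) (f j) = if i = j then E' j else f j)
    (hrE' : ∀ i j, i ≠ j → act (r i) (E' j) = E' j) (i : Fin k) :
    act (prodFam r k) (E i) = f i ∧ act (prodFam r k) (f i) = E' i := by
  have hP : ∀ j : ℕ, j ≤ k → ∀ i : Fin k,
      (i.val < j → act (prodFam r j) (E i) = f i ∧ act (prodFam r j) (f i) = E' i) ∧
      (j ≤ i.val → act (prodFam r j) (E i) = E i ∧ act (prodFam r j) (f i) = f i ∧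
        act (prodFam r j) (E' i) = E' i) := by
    intro j
    induction j with
    | zero =>
      intro _ i
      refine ⟨fun hi => absurd hi (Nat.not_lt_zero _), fun _ => ?_⟩
      rw [prodFam_zero]
      exact ⟨hone _, hone _, hone _⟩
    | succ j ih =>
      intro hj i
      have hjk : j < k := by omega
      have ih' := ih (by omega)
      rw [prodFam_succ r j hjk]
      constructor
      · intro hi
        by_cases hij : i.val = j
        · have e1 : (⟨j, hjk⟩ : Fin k) = i := Fin.ext hij.symm
          rw [hmul, hmul, hrE, hrf, if_pos e1, if_pos e1]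
          exact ⟨((ih' i).2 (by omega)).2.1, ((ih' i).2 (by omega)).2.2⟩
        · have e1 : (⟨j, hjk⟩ : Fin k) ≠ i := fun h' => hij (by rw [← h'])
          rw [hmul, hmul, hrE, hrf, if_neg e1, if_neg e1]
          exact (ih' i).1 (by omega)
      · intro hi
        have e1 : (⟨j, hjk⟩ : Fin k) ≠ i := fun h' => by
          have : j = i.val := by rw [← h']
          omega
        rw [hmul, hmul, hmul, hrE, hrf, hrE' _ _ e1, if_neg e1, if_neg e1]
        exact (ih' i).2 (by omega)
  exact (hP k le_rfl i).1 i.2

end Cfsg.Agent.H9Prod
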