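import Mathlib
import Cfsg.Prelude.Def_FusionComponents
import Cfsg.Agent.Lib.Helper9.FusionMorph2

set_option autoImplicit false
open Cfsg
open Cfsg.FusionSystem

/-! Product systems: the projections are morphisms; the top group is fully automized. -/

namespace Cfsg.Agent.Lib.Helper9

variable {Ω₁ Ω₂ : Type*} [Group Ω₁] [Group Ω₂] {S₁ : Subgroup Ω₁} {S₂ : Subgroup Ω₂}

theorem prod_fst_mem (P : Subgroup (Ω₁ × Ω₂)) (x : P) : (x : Ω₁ × Ω₂).1 ∈ P.map (MonoidHom.fst Ω₁ Ω₂) :=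
  ⟨x, x.2, rfl⟩

theorem prod_snd_mem (P : Subgroup (Ω₁ × Ω₂)) (x : P) : (x : Ω₁ × Ω₂).2 ∈ P.map (MonoidHom.snd Ω₁ Ω₂) :=
  ⟨x, x.2, rfl⟩

theorem prod_map_fst_le {P : Subgroup (Ω₁ × Ω₂)} (h : P ≤ S₁.prod S₂) : P.map (MonoidHom.fst Ω₁ Ω₂) ≤ S₁ := by
  rintro _ ⟨x, hx, rfl⟩
  exact (h hx).1

theorem prod_map_snd_le {P : Subgroup (Ω₁ × Ω₂)} (h : P ≤ S₁.prod S₂) : P.map (MonoidHom.snd Ω₁ Ω₂) ≤ S₂ := by
  rintro _ ⟨x, hx, rfl⟩
  exact (h hx).2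

/-- The first projection on `S₁ × S₂`. -/
def projFst (S₁ : Subgroup Ω₁) (S₂ : Subgroup Ω₂) : (S₁.prod S₂) →* Ω₁ :=
  (MonoidHom.fst Ω₁ Ω₂).comp (S₁.prod S₂).subtype

/-- The second projection on `S₁ × S₂`. -/
def projSnd (S₁ : Subgroup Ω₁) (S₂ : Subgroup Ω₂) : (S₁.prod S₂) →* Ω₂ :=
  (MonoidHom.snd Ω₁ Ω₂).comp (S₁.prod S₂).subtype

theorem imageAlong_projFst_le (P : Subgroup (Ω₁ × Ω₂)) :
    imageAlong (projFst S₁ S₂) P ≤ P.map (MonoidHom.fst Ω₁ Ω₂) := by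
  rintro _ ⟨s, hs, rfl⟩
  rw [SetLike.mem_coe, Subgroup.mem_subgroupOf] at hs
  exact ⟨s, hs, rfl⟩

theorem imageAlong_projSnd_le (P : Subgroup (Ω₁ × Ω₂)) :
    imageAlong (projSnd S₁ S₂) P ≤ P.map (MonoidHom.snd Ω₁ Ω₂) := by
  rintro _ ⟨s, hs, rfl⟩
  rw [SetLike.mem_coe, Subgroup.mem_subgroupOf] at hs
  exact ⟨s, hs, rfl⟩

theorem imageAlong_projFst_top : imageAlong (projFst S₁ S₂) (S₁.prod S₂) = S₁ := by
  apply le_antisymm
  · exact (imageAlong_projFst_le _).trans (prod_map_fst_le le_rfl)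
  · intro x hx
    refine ⟨⟨(x, 1), ⟨hx, S₂.one_mem⟩⟩, ?_, rfl⟩
    rw [SetLike.mem_coe, Subgroup.mem_subgroupOf]
    exact ⟨hx, S₂.one_mem⟩

theorem imageAlong_projSnd_top : imageAlong (projSnd S₁ S₂) (S₁.prod S₂) = S₂ := by
  apply le_antisymm
  · exact (imageAlong_projSnd_le _).trans (prod_map_snd_le le_rfl)
  · intro x hx
    refine ⟨⟨(1, x), ⟨S₁.one_mem, hx⟩⟩, ?_, rfl⟩
    rw [SetLike.mem_coe, Subgroup.mem_subgroupOf]
    exact ⟨S₁.one_mem, hx⟩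

theorem isMorphism_projFst {F₁ : FusionSystem S₁} {F₂ : FusionSystem S₂} {E : FusionSystem (S₁.prod S₂)}
    (hE : IsProductSystem F₁ F₂ E) : E.IsMorphism F₁ (projFst S₁ S₂) := by
  refine ⟨fun s => s.2.1, ?_⟩
  intro P φ hφ
  obtain ⟨hP, φ₁, hφ₁, φ₂, hφ₂, Hφ⟩ := (hE P φ).mp hφ
  have hφS := (E.le_of_mem hφ).2
  refine ⟨φ₁.comp (Subgroup.inclusion (imageAlong_projFst_le P)),
    fs_restrict_mem F₁ hφ₁ (imageAlong_projFst_le P), hP, hφS, ?_, ?_⟩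
  · intro x
    exact apply_mem_imageAlong _ (hP x.2) x.2
  · intro x
    have := Hφ x (prod_fst_mem P x) (prod_snd_mem P x)
    show φ₁ ⟨(x : Ω₁ × Ω₂).1, _⟩ = (φ x).1
    rw [this]

theorem isMorphism_projSnd {F₁ : FusionSystem S₁} {F₂ : FusionSystem S₂} {E : FusionSystem (S₁.prod S₂)}
    (hE : IsProductSystem F₁ F₂ E) : E.IsMorphism F₂ (projSnd S₁ S₂) := by
  refine ⟨fun s => s.2.2, ?_⟩
  intro P φ hφ
  obtain ⟨hP, φ₁, hφ₁, φ₂, hφ₂, Hφ⟩ := (hE P φ).mp hφ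
  have hφS := (E.le_of_mem hφ).2
  refine ⟨φ₂.comp (Subgroup.inclusion (imageAlong_projSnd_le P)),
    fs_restrict_mem F₂ hφ₂ (imageAlong_projSnd_le P), hP, hφS, ?_, ?_⟩
  · intro x
    exact apply_mem_imageAlong _ (hP x.2) x.2
  · intro x
    have := Hφ x (prod_fst_mem P x) (prod_snd_mem P x)
    show φ₂ ⟨(x : Ω₁ × Ω₂).2, _⟩ = (φ x).2
    rw [this]

variable {Ω : Type*} [Group Ω] {S : Subgroup Ω}

theorem autInducedBy_self_le_inn : autInducedBy S S ≤ Inn S := by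
  intro a ha
  rw [mem_autInducedBy_iff] at ha
  obtain ⟨g, hg, Hg⟩ := ha
  refine ⟨⟨g, hg⟩, ?_⟩
  ext x
  rw [Hg x]
  simp [MulAut.conj_apply]

/-- In a system whose top group is fully automized, every `p`-element of `Aut_F(S)` is inner. -/
theorem p_element_mem_autInducedBy_top [Finite S] {p : ℕ} [Fact p.Prime] (F : FusionSystem S)
    (hfa : F.IsFullyAutomized p S) {R : Subgroup Ω} (hR : R = S) (b : F.autGroup R)
    (hb : ∃ k : ℕ, orderOf b = p ^ k) : (b : MulAut R) ∈ autInducedBy S R := by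
  subst hR
  obtain ⟨-, Sy1, hSy⟩ := hfa
  have heq : (autInducedBy R R).subgroupOf (F.autGroup R) = (Inn R).subgroupOf (F.autGroup R) := by
    apply le_antisymm
    · exact Subgroup.comap_mono autInducedBy_self_le_inn
    · exact Subgroup.comap_mono (inn_le_autInducedBy le_rfl)
  haveI hInorm : ((Inn R).subgroupOf (F.autGroup R)).Normal := inferInstance
  have hSyn : (Sy1 : Subgroup (F.autGroup R)).Normal := by rw [hSy, heq]; exact hInorm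
  haveI : Finite (F.autGroup R) := inferInstance
  obtain ⟨k, hk⟩ := hb
  have hzp : IsPGroup p (Subgroup.zpowers b) := by
    apply IsPGroup.of_card (n := k)
    rw [Nat.card_zpowers, hk]
  obtain ⟨Sy2, hSy2⟩ := hzp.exists_le_sylow
  haveI := Sylow.unique_of_normal Sy1 hSyn
  have : Sy2 = Sy1 := Subsingleton.elim _ _
  rw [this] at hSy2
  have hbSy : b ∈ (Sy1 : Subgroup (F.autGroup R)) := hSy2 (Subgroup.mem_zpowers b)
  rw [hSy, Subgroup.mem_subgroupOf] at hbSy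
  exact hbSy

end Cfsg.Agent.Lib.Helper9
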