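import Mathlib
import Cfsg.Prelude.Def_FusionComponents
import Cfsg.Agent.Lib.Helper9.ProdSat1

set_option autoImplicit false
open Cfsg
open Cfsg.FusionSystem

/-! Product systems: the top group is fully automized. -/

namespace Cfsg.Agent.Lib.Helper9

variable {Ω₁ Ω₂ : Type*} [Group Ω₁] [Group Ω₂] {S₁ : Subgroup Ω₁} {S₂ : Subgroup Ω₂}

instance prod_finite [Finite S₁] [Finite S₂] : Finite (S₁.prod S₂) :=
  Finite.of_equiv _ (Subgroup.prodEquiv S₁ S₂).symm.toEquiv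

theorem prod_isPGroup {p : ℕ} [Fact p.Prime] (h₁ : IsPGroup p S₁) (h₂ : IsPGroup p S₂) :
    IsPGroup p (S₁.prod S₂) := by
  rintro ⟨⟨a, b⟩, ha, hb⟩
  obtain ⟨k₁, hk₁⟩ := h₁ ⟨a, ha⟩
  obtain ⟨k₂, hk₂⟩ := h₂ ⟨b, hb⟩
  have e1 : a ^ p ^ k₁ = 1 := congrArg Subtype.val hk₁
  have e2 : b ^ p ^ k₂ = 1 := congrArg Subtype.val hk₂
  refine ⟨k₁ + k₂, ?_⟩
  apply Subtype.ext
  show ((a, b) : Ω₁ × Ω₂) ^ p ^ (k₁ + k₂) = 1
  rw [Prod.pow_mk, pow_add, pow_mul, e1, one_pow, mul_comm, pow_mul, e2, one_pow]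
  rfl

theorem prod_fullyAutomized_top [Finite S₁] [Finite S₂] {p : ℕ} [Fact p.Prime] (h₁ : IsPGroup p S₁)
    (h₂ : IsPGroup p S₂) {F₁ : FusionSystem S₁} {F₂ : FusionSystem S₂} {E : FusionSystem (S₁.prod S₂)}
    (hE : IsProductSystem F₁ F₂ E) (hf₁ : F₁.IsFullyAutomized p S₁) (hf₂ : F₂.IsFullyAutomized p S₂) :
    E.IsFullyAutomized p (S₁.prod S₂) := by
  have hSp := prod_isPGroup h₁ h₂
  haveI : Finite (E.autGroup (S₁.prod S₂)) := inferInstance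
  obtain ⟨Sy⟩ : Nonempty (Sylow p (E.autGroup (S₁.prod S₂))) := inferInstance
  have hU : IsPGroup p ((autInducedBy (S₁.prod S₂) (S₁.prod S₂)).subgroupOf (E.autGroup (S₁.prod S₂))) :=
    (isPGroup_autInducedBy p hSp _).comap_subtype
  have hα₁ := isMorphism_projFst hE
  have hα₂ := isMorphism_projSnd hE
  have hle : (Sy : Subgroup (E.autGroup (S₁.prod S₂))) ≤
      (autInducedBy (S₁.prod S₂) (S₁.prod S₂)).subgroupOf (E.autGroup (S₁.prod S₂)) := by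
    intro b hb
    rw [Subgroup.mem_subgroupOf]
    obtain ⟨k, hk⟩ := (IsPGroup.iff_orderOf.mp Sy.isPGroup') ⟨b, hb⟩
    rw [Subgroup.orderOf_mk] at hk
    have hp : p.Prime := Fact.out
    have hord₁ : ∃ j, orderOf (inducedAut E F₁ (projFst S₁ S₂) hα₁ le_rfl b) = p ^ j := by
      have := orderOf_map_dvd (inducedAut E F₁ (projFst S₁ S₂) hα₁ le_rfl) b
      rw [hk] at this
      obtain ⟨j, -, hj⟩ := (Nat.dvd_prime_pow hp).mp this
      exact ⟨j, hj⟩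
    have hord₂ : ∃ j, orderOf (inducedAut E F₂ (projSnd S₁ S₂) hα₂ le_rfl b) = p ^ j := by
      have := orderOf_map_dvd (inducedAut E F₂ (projSnd S₁ S₂) hα₂ le_rfl) b
      rw [hk] at this
      obtain ⟨j, -, hj⟩ := (Nat.dvd_prime_pow hp).mp this
      exact ⟨j, hj⟩
    have hm₁ := p_element_mem_autInducedBy_top F₁ hf₁ imageAlong_projFst_top _ hord₁
    have hm₂ := p_element_mem_autInducedBy_top F₂ hf₂ imageAlong_projSnd_top _ hord₂
    rw [mem_autInducedBy_iff] at hm₁ hm₂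
    obtain ⟨g₁, hg₁, Hg₁⟩ := hm₁
    obtain ⟨g₂, hg₂, Hg₂⟩ := hm₂
    have hs₁ := inducedAut_spec E F₁ (projFst S₁ S₂) hα₁ le_rfl b
    have hs₂ := inducedAut_spec E F₂ (projSnd S₁ S₂) hα₂ le_rfl b
    rw [mem_autInducedBy_iff]
    refine ⟨(g₁, g₂), ⟨hg₁, hg₂⟩, fun x => ?_⟩
    apply Prod.ext
    · have e1 := hs₁ x
      rw [Hg₁] at e1
      exact e1.symm
    · have e2 := hs₂ x
      rw [Hg₂] at e2
      exact e2.symm
  exact ⟨le_rfl, Sy, (Sy.is_maximal' hU hle).symm⟩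

end Cfsg.Agent.Lib.Helper9
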