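import Mathlib
import Cfsg.Prelude.Def_FusionComponents
import Cfsg.Agent.Lib.Helper9.ProdSat2
import Cfsg.Agent.Lib.Helper9.FusionMorph5

set_option autoImplicit false
open Cfsg
open Cfsg.FusionSystem

/-! Product systems: a subgroup with receptive projections is receptive. -/

namespace Cfsg.Agent.Lib.Helper9

variable {Ω₁ Ω₂ : Type*} [Group Ω₁] [Group Ω₂] {S₁ : Subgroup Ω₁} {S₂ : Subgroup Ω₂}

theorem extender_le (S P : Subgroup (Ω₁ × Ω₂)) (φ : P →* Ω₁ × Ω₂) : extender S P φ ≤ S := by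
  intro g hg
  rw [mem_extender_iff] at hg
  exact hg.1

theorem prod_receptive [Finite S₁] [Finite S₂] {F₁ : FusionSystem S₁} {F₂ : FusionSystem S₂}
    {E : FusionSystem (S₁.prod S₂)} (hE : IsProductSystem F₁ F₂ E) {Q : Subgroup (Ω₁ × Ω₂)}
    (hQ : Q ≤ S₁.prod S₂) (hr₁ : F₁.IsReceptive (Q.map (MonoidHom.fst Ω₁ Ω₂)))
    (hr₂ : F₂.IsReceptive (Q.map (MonoidHom.snd Ω₁ Ω₂))) : E.IsReceptive Q := by
  refine ⟨hQ, ?_⟩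
  intro R φ hφ hrange
  obtain ⟨hR, φ₁, hφ₁, φ₂, hφ₂, Hφ⟩ := (hE R φ).mp hφ
  have hφ' : ∀ x : R, φ x = (φ₁ ⟨(x : Ω₁ × Ω₂).1, prod_fst_mem R x⟩, φ₂ ⟨(x : Ω₁ × Ω₂).2, prod_snd_mem R x⟩) :=
    fun x => Hφ x _ _
  haveI : Finite (R.map (MonoidHom.fst Ω₁ Ω₂)) := fs_finite_of_le (prod_map_fst_le hR)
  haveI : Finite (R.map (MonoidHom.snd Ω₁ Ω₂)) := fs_finite_of_le (prod_map_snd_le hR)
  have hφ₁r : φ₁.range = Q.map (MonoidHom.fst Ω₁ Ω₂) := by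
    ext y
    constructor
    · rintro ⟨⟨_, x, hx, rfl⟩, rfl⟩
      refine ⟨φ ⟨x, hx⟩, by rw [← hrange]; exact ⟨_, rfl⟩, ?_⟩
      rw [hφ' ⟨x, hx⟩]
      rfl
    · rintro ⟨q, hq, rfl⟩
      rw [← hrange] at hq
      obtain ⟨x, rfl⟩ := hq
      refine ⟨⟨(x : Ω₁ × Ω₂).1, prod_fst_mem R x⟩, ?_⟩
      rw [hφ' x]
      rfl
  have hφ₂r : φ₂.range = Q.map (MonoidHom.snd Ω₁ Ω₂) := by
    ext y
    constructor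
    · rintro ⟨⟨_, x, hx, rfl⟩, rfl⟩
      refine ⟨φ ⟨x, hx⟩, by rw [← hrange]; exact ⟨_, rfl⟩, ?_⟩
      rw [hφ' ⟨x, hx⟩]
      rfl
    · rintro ⟨q, hq, rfl⟩
      rw [← hrange] at hq
      obtain ⟨x, rfl⟩ := hq
      refine ⟨⟨(x : Ω₁ × Ω₂).2, prod_snd_mem R x⟩, ?_⟩
      rw [hφ' x]
      rfl
  obtain ⟨ψ₁, hψ₁, Hψ₁⟩ := hr₁.2 _ φ₁ hφ₁ hφ₁r
  obtain ⟨ψ₂, hψ₂, Hψ₂⟩ := hr₂.2 _ φ₂ hφ₂ hφ₂r
  have hN₁ : (extender (S₁.prod S₂) R φ).map (MonoidHom.fst Ω₁ Ω₂) ≤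
      extender S₁ (R.map (MonoidHom.fst Ω₁ Ω₂)) φ₁ := by
    rintro _ ⟨g, hg, rfl⟩
    rw [SetLike.mem_coe, mem_extender_iff] at hg
    rw [mem_extender_iff]
    obtain ⟨hgS, hgN, h, hhS, Hh⟩ := hg
    have hconj : ∀ x ∈ R, g * x * g⁻¹ ∈ R := fun x hx => (Subgroup.mem_normalizer_iff.mp hgN x).mp hx
    refine ⟨hgS.1, ?_, h.1, hhS.1, ?_⟩
    · apply mem_normalizer_of_conj_mem
      rintro _ ⟨x, hx, rfl⟩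
      exact ⟨g * x * g⁻¹, hconj x hx, rfl⟩
    · rintro ⟨_, x, hx, rfl⟩ hx'
      have e := Hh ⟨x, hx⟩ (hconj x hx)
      rw [hφ' ⟨g * x * g⁻¹, hconj x hx⟩, hφ' ⟨x, hx⟩] at e
      exact congrArg Prod.fst e
  have hN₂ : (extender (S₁.prod S₂) R φ).map (MonoidHom.snd Ω₁ Ω₂) ≤
      extender S₂ (R.map (MonoidHom.snd Ω₁ Ω₂)) φ₂ := by
    rintro _ ⟨g, hg, rfl⟩
    rw [SetLike.mem_coe, mem_extender_iff] at hg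
    rw [mem_extender_iff]
    obtain ⟨hgS, hgN, h, hhS, Hh⟩ := hg
    have hconj : ∀ x ∈ R, g * x * g⁻¹ ∈ R := fun x hx => (Subgroup.mem_normalizer_iff.mp hgN x).mp hx
    refine ⟨hgS.2, ?_, h.2, hhS.2, ?_⟩
    · apply mem_normalizer_of_conj_mem
      rintro _ ⟨x, hx, rfl⟩
      exact ⟨g * x * g⁻¹, hconj x hx, rfl⟩
    · rintro ⟨_, x, hx, rfl⟩ hx'
      have e := Hh ⟨x, hx⟩ (hconj x hx)
      rw [hφ' ⟨g * x * g⁻¹, hconj x hx⟩, hφ' ⟨x, hx⟩] at e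
      exact congrArg Prod.snd e
  refine ⟨((ψ₁.comp (Subgroup.inclusion hN₁)).comp ((MonoidHom.fst Ω₁ Ω₂).subgroupMap _)).prod
      ((ψ₂.comp (Subgroup.inclusion hN₂)).comp ((MonoidHom.snd Ω₁ Ω₂).subgroupMap _)), ?_, ?_⟩
  · rw [hE]
    exact ⟨extender_le _ _ _, _, fs_restrict_mem F₁ hψ₁ hN₁, _, fs_restrict_mem F₂ hψ₂ hN₂,
      fun x h₁ h₂ => rfl⟩
  · intro x hxR hxN
    rw [hφ' ⟨x, hxR⟩]
    apply Prod.ext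
    · exact Hψ₁ x.1 (prod_fst_mem R ⟨x, hxR⟩) (hN₁ ⟨x, hxN, rfl⟩)
    · exact Hψ₂ x.2 (prod_snd_mem R ⟨x, hxR⟩) (hN₂ ⟨x, hxN, rfl⟩)

end Cfsg.Agent.Lib.Helper9
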