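import Mathlib
import Cfsg.Prelude.Def_FusionComponents
import Cfsg.Agent.Lib.Helper9.ProdSat3
import Cfsg.Agent.Lib.Helper9.EssGen2
import Cfsg.Agent.Lib.Helper9.FusionNormMap
import Cfsg.Agent.Lib.Helper9.FusionSat1
import Cfsg.Agent.Lib.Helper9.FusionSat2
import Cfsg.Agent.Lib.Helper9.FusionSat3
import Cfsg.Agent.Lib.Helper9.FusionTransport

set_option autoImplicit false
open Cfsg
open Cfsg.FusionSystem

/-! Product systems: fully normalized subgroups are receptive. -/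

namespace Cfsg.Agent.Lib.Helper9

variable {Ω₁ Ω₂ : Type*} [Group Ω₁] [Group Ω₂] {S₁ : Subgroup Ω₁} {S₂ : Subgroup Ω₂}

theorem prod_receptive_of_fullyNormalized [Finite S₁] [Finite S₂] (p : ℕ) [Fact p.Prime]
    (h₁ : IsPGroup p S₁) (h₂ : IsPGroup p S₂) {F₁ : FusionSystem S₁} {F₂ : FusionSystem S₂}
    {E : FusionSystem (S₁.prod S₂)} (hF₁ : F₁.IsSaturated p) (hF₂ : F₂.IsSaturated p)
    (hE : IsProductSystem F₁ F₂ E) {Q : Subgroup (Ω₁ × Ω₂)} (hQn : E.IsFullyNormalized Q) :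
    E.IsReceptive Q := by
  have hQ : Q ≤ S₁.prod S₂ := hQn.1
  have hQ₁S : Q.map (MonoidHom.fst Ω₁ Ω₂) ≤ S₁ := prod_map_fst_le hQ
  have hQ₂S : Q.map (MonoidHom.snd Ω₁ Ω₂) ≤ S₂ := prod_map_snd_le hQ
  haveI : Finite (Q.map (MonoidHom.fst Ω₁ Ω₂)) := fs_finite_of_le hQ₁S
  haveI : Finite (Q.map (MonoidHom.snd Ω₁ Ω₂)) := fs_finite_of_le hQ₂S
  haveI : Finite Q := fs_finite_of_le hQ
  obtain ⟨Qb₁, hc₁, hn₁⟩ := fs_exists_fullyNormalized F₁ hQ₁S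
  obtain ⟨Qb₂, hc₂, hn₂⟩ := fs_exists_fullyNormalized F₂ hQ₂S
  obtain ⟨hQb₁c, hQb₁a⟩ := fs_sylow_axiom p h₁ F₁ hF₁ hn₁
  obtain ⟨hQb₂c, hQb₂a⟩ := fs_sylow_axiom p h₂ F₂ hF₂ hn₂
  have hQb₁r := fs_extension_axiom p h₁ F₁ hF₁ hQb₁c
  have hQb₂r := fs_extension_axiom p h₂ F₂ hF₂ hQb₂c
  obtain ⟨ν₁, hν₁, -, hν₁Q⟩ := fs_exists_normalizer_map p h₁ F₁ Qb₁ _ hQb₁a hQb₁r hc₁
  obtain ⟨ν₂, hν₂, -, hν₂Q⟩ := fs_exists_normalizer_map p h₂ F₂ Qb₂ _ hQb₂a hQb₂r hc₂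
  -- the normalizer of Q projects into the normalizers of the projections
  have hconjQ : ∀ g ∈ normalizerIn (S₁.prod S₂) Q, ∀ x ∈ Q, g * x * g⁻¹ ∈ Q :=
    fun g hg x hx => (Subgroup.mem_normalizer_iff.mp hg.2 x).mp hx
  have hNfst : (normalizerIn (S₁.prod S₂) Q).map (MonoidHom.fst Ω₁ Ω₂) ≤
      normalizerIn S₁ (Q.map (MonoidHom.fst Ω₁ Ω₂)) := by
    rintro _ ⟨g, hg, rfl⟩
    refine ⟨hg.1.1, ?_⟩
    apply mem_normalizer_of_conj_mem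
    rintro _ ⟨x, hx, rfl⟩
    exact ⟨g * x * g⁻¹, hconjQ g hg x hx, rfl⟩
  have hNsnd : (normalizerIn (S₁.prod S₂) Q).map (MonoidHom.snd Ω₁ Ω₂) ≤
      normalizerIn S₂ (Q.map (MonoidHom.snd Ω₁ Ω₂)) := by
    rintro _ ⟨g, hg, rfl⟩
    refine ⟨hg.1.2, ?_⟩
    apply mem_normalizer_of_conj_mem
    rintro _ ⟨x, hx, rfl⟩
    exact ⟨g * x * g⁻¹, hconjQ g hg x hx, rfl⟩
  obtain ⟨ν, hνdef⟩ : ∃ ν : normalizerIn (S₁.prod S₂) Q →* Ω₁ × Ω₂,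
      ν = ((ν₁.comp (Subgroup.inclusion hNfst)).comp ((MonoidHom.fst Ω₁ Ω₂).subgroupMap _)).prod
        ((ν₂.comp (Subgroup.inclusion hNsnd)).comp ((MonoidHom.snd Ω₁ Ω₂).subgroupMap _)) := ⟨_, rfl⟩
  have hνx : ∀ x : normalizerIn (S₁.prod S₂) Q,
      ν x = (ν₁ ⟨(x : Ω₁ × Ω₂).1, hNfst ⟨x, x.2, rfl⟩⟩, ν₂ ⟨(x : Ω₁ × Ω₂).2, hNsnd ⟨x, x.2, rfl⟩⟩) := by
    intro x; rw [hνdef]; rfl
  have hNS : normalizerIn (S₁.prod S₂) Q ≤ S₁.prod S₂ := fs_normalizerIn_le _ _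
  have hν : ν ∈ E.Hom (normalizerIn (S₁.prod S₂) Q) := by
    rw [hE]
    refine ⟨hNS, _, fs_restrict_mem F₁ hν₁ hNfst, _, fs_restrict_mem F₂ hν₂ hNsnd, fun x h₁ h₂ => ?_⟩
    rw [hνx]
    rfl
  have hνS : ∀ x, ν x ∈ S₁.prod S₂ := (E.le_of_mem hν).2
  have hQN : Q ≤ normalizerIn (S₁.prod S₂) Q := le_normalizerIn_of_le hQ
  obtain ⟨Q', hQ'def⟩ : ∃ Q' : Subgroup (Ω₁ × Ω₂), Q' = (Q.subgroupOf (normalizerIn (S₁.prod S₂) Q)).map ν :=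
    ⟨_, rfl⟩
  have hQ'mem : ∀ (q : Ω₁ × Ω₂) (hq : q ∈ Q), ν ⟨q, hQN hq⟩ ∈ Q' := by
    intro q hq
    rw [hQ'def]
    refine ⟨⟨q, hQN hq⟩, ?_, rfl⟩
    rw [SetLike.mem_coe, Subgroup.mem_subgroupOf]
    exact hq
  have hQ'ex : ∀ y ∈ Q', ∃ (q : Ω₁ × Ω₂) (hq : q ∈ Q), ν ⟨q, hQN hq⟩ = y := by
    intro y hy
    rw [hQ'def] at hy
    obtain ⟨x, hx, rfl⟩ := hy
    rw [SetLike.mem_coe, Subgroup.mem_subgroupOf] at hx
    exact ⟨x, hx, rfl⟩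
  have hQ'S : Q' ≤ S₁.prod S₂ := by
    intro y hy
    obtain ⟨q, hq, rfl⟩ := hQ'ex y hy
    exact hνS _
  haveI : Finite Q' := fs_finite_of_le hQ'S
  have hQ'fst : Q'.map (MonoidHom.fst Ω₁ Ω₂) = Qb₁ := by
    apply le_antisymm
    · rintro _ ⟨y, hy, rfl⟩
      obtain ⟨q, hq, rfl⟩ := hQ'ex y hy
      rw [← hν₁Q]
      refine ⟨⟨q.1, hNfst ⟨q, hQN hq, rfl⟩⟩, ?_, ?_⟩
      · rw [SetLike.mem_coe, Subgroup.mem_subgroupOf]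
        exact ⟨q, hq, rfl⟩
      · rw [hνx]
        rfl
    · intro y hy
      rw [← hν₁Q] at hy
      obtain ⟨z, hz, rfl⟩ := hy
      rw [SetLike.mem_coe, Subgroup.mem_subgroupOf] at hz
      obtain ⟨q, hq, hqz⟩ := hz
      refine ⟨ν ⟨q, hQN hq⟩, hQ'mem q hq, ?_⟩
      rw [hνx]
      show ν₁ _ = ν₁ z
      congr 1
      exact Subtype.ext hqz
  have hQ'snd : Q'.map (MonoidHom.snd Ω₁ Ω₂) = Qb₂ := by
    apply le_antisymm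
    · rintro _ ⟨y, hy, rfl⟩
      obtain ⟨q, hq, rfl⟩ := hQ'ex y hy
      rw [← hν₂Q]
      refine ⟨⟨q.2, hNsnd ⟨q, hQN hq, rfl⟩⟩, ?_, ?_⟩
      · rw [SetLike.mem_coe, Subgroup.mem_subgroupOf]
        exact ⟨q, hq, rfl⟩
      · rw [hνx]
        rfl
    · intro y hy
      rw [← hν₂Q] at hy
      obtain ⟨z, hz, rfl⟩ := hy
      rw [SetLike.mem_coe, Subgroup.mem_subgroupOf] at hz
      obtain ⟨q, hq, hqz⟩ := hz
      refine ⟨ν ⟨q, hQN hq⟩, hQ'mem q hq, ?_⟩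
      rw [hνx]
      show ν₂ _ = ν₂ z
      congr 1
      exact Subtype.ext hqz
  have hQ'r : E.IsReceptive Q' :=
    prod_receptive hE hQ'S (hQ'fst.symm ▸ hQb₁r) (hQ'snd.symm ▸ hQb₂r)
  have hνQ : ν.comp (Subgroup.inclusion hQN) ∈ E.Hom Q := fs_restrict_mem E hν hQN
  have hνQr : (ν.comp (Subgroup.inclusion hQN)).range = Q' := by
    ext y
    constructor
    · rintro ⟨q, rfl⟩
      exact hQ'mem q q.2
    · intro hy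
      obtain ⟨q, hq, rfl⟩ := hQ'ex y hy
      exact ⟨⟨q, hq⟩, rfl⟩
  have hconj : E.IsConj Q Q' := ⟨_, hνQ, hνQr⟩
  have hcard : Nat.card (normalizerIn (S₁.prod S₂) Q') ≤ Nat.card (normalizerIn (S₁.prod S₂) Q) :=
    hQn.2 Q' hconj
  have hνN : ν.range ≤ normalizerIn (S₁.prod S₂) Q' := by
    rintro _ ⟨x, rfl⟩
    refine ⟨hνS x, ?_⟩
    apply mem_normalizer_of_conj_mem
    intro y hy
    obtain ⟨q, hq, rfl⟩ := hQ'ex y hy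
    have e : ν x * ν ⟨q, hQN hq⟩ * (ν x)⁻¹ = ν ⟨x * q * (x : Ω₁ × Ω₂)⁻¹, hQN (hconjQ x x.2 q hq)⟩ := by
      rw [← map_inv, ← map_mul, ← map_mul]
      rfl
    rw [e]
    exact hQ'mem _ (hconjQ x x.2 q hq)
  haveI : Finite (normalizerIn (S₁.prod S₂) Q') := fs_finite_of_le (fs_normalizerIn_le _ _)
  have hνrange : ν.range = normalizerIn (S₁.prod S₂) Q' := by
    apply Subgroup.eq_of_le_of_card_ge hνN
    rw [← Nat.card_congr (fsEquiv E hν).toEquiv]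
    exact hcard
  -- receptivity
  refine ⟨hQ, ?_⟩
  intro R φ hφ hrange
  have hRS : R ≤ S₁.prod S₂ := (E.le_of_mem hφ).1
  have hφS : ∀ x, φ x ∈ S₁.prod S₂ := (E.le_of_mem hφ).2
  have hφQ : ∀ x : R, φ x ∈ Q := by
    intro x; rw [← hrange]; exact ⟨x, rfl⟩
  have hφ' : (ν.comp (Subgroup.inclusion hQN)).comp (φ.codRestrict Q hφQ) ∈ E.Hom R :=
    E.comp_mem hφ hνQ hφQ
  have hφ'x : ∀ x : R, ((ν.comp (Subgroup.inclusion hQN)).comp (φ.codRestrict Q hφQ)) x =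
      ν ⟨φ x, hQN (hφQ x)⟩ := fun x => rfl
  have hφ'r : ((ν.comp (Subgroup.inclusion hQN)).comp (φ.codRestrict Q hφQ)).range = Q' := by
    ext y
    constructor
    · rintro ⟨x, rfl⟩
      exact hQ'mem _ (hφQ x)
    · intro hy
      obtain ⟨q, hq, rfl⟩ := hQ'ex y hy
      rw [← hrange] at hq
      obtain ⟨x, rfl⟩ := hq
      exact ⟨x, rfl⟩
  obtain ⟨θ, hθ, Hθ⟩ := hQ'r.2 R _ hφ' hφ'r
  have hθS : ∀ g, θ g ∈ S₁.prod S₂ := (E.le_of_mem hθ).2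
  have hext : extender (S₁.prod S₂) R φ ≤
      extender (S₁.prod S₂) R ((ν.comp (Subgroup.inclusion hQN)).comp (φ.codRestrict Q hφQ)) := by
    intro g hg
    rw [mem_extender_iff] at hg ⊢
    obtain ⟨hgS, hgN, h, hhS, Hh⟩ := hg
    have hhn : h ∈ Subgroup.normalizer (Q : Set (Ω₁ × Ω₂)) :=
      fs_extender_witness_normalizes φ hrange g h hgN Hh
    refine ⟨hgS, hgN, ν ⟨h, ⟨hhS, hhn⟩⟩, hνS _, ?_⟩
    intro x hx
    rw [hφ'x, hφ'x, ← map_inv, ← map_mul, ← map_mul]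
    congr 1
    apply Subtype.ext
    exact Hh x hx
  have hθ' : θ.comp (Subgroup.inclusion hext) ∈ E.Hom (extender (S₁.prod S₂) R φ) :=
    fs_restrict_mem E hθ hext
  have hRext : R ≤ extender (S₁.prod S₂) R
      ((ν.comp (Subgroup.inclusion hQN)).comp (φ.codRestrict Q hφQ)) :=
    fs_le_extender R _ hRS (E.le_of_mem hφ').2
  have hθ'range : ∀ g : extender (S₁.prod S₂) R φ, (θ.comp (Subgroup.inclusion hext)) g ∈ ν.range := by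
    intro g
    rw [hνrange]
    refine ⟨hθS _, ?_⟩
    have hgN : (g : Ω₁ × Ω₂) ∈ Subgroup.normalizer (R : Set (Ω₁ × Ω₂)) := by
      have := g.2
      rw [mem_extender_iff] at this
      exact this.2.1
    apply mem_normalizer_of_conj_mem
    intro y hy
    rw [← hφ'r] at hy
    obtain ⟨x, rfl⟩ := hy
    have hxc : (g : Ω₁ × Ω₂) * x * (g : Ω₁ × Ω₂)⁻¹ ∈ R := (Subgroup.mem_normalizer_iff.mp hgN x).mp x.2
    have e1 := Hθ x x.2 (hRext x.2)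
    have e2 := Hθ _ hxc (hRext hxc)
    show θ ⟨g, hext g.2⟩ * _ * (θ ⟨g, hext g.2⟩)⁻¹ ∈ Q'
    rw [← e1, ← map_inv, ← map_mul, ← map_mul]
    have e3 : (⟨g, hext g.2⟩ * ⟨x, hRext x.2⟩ * (⟨g, hext g.2⟩)⁻¹ :
        extender (S₁.prod S₂) R ((ν.comp (Subgroup.inclusion hQN)).comp (φ.codRestrict Q hφQ))) =
        ⟨(g : Ω₁ × Ω₂) * x * (g : Ω₁ × Ω₂)⁻¹, hRext hxc⟩ := rfl
    rw [e3, e2, ← hφ'r]
    exact ⟨_, rfl⟩
  obtain ⟨χ, hχ, Hχ⟩ := E.inv_mem hν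
  refine ⟨χ.comp ((θ.comp (Subgroup.inclusion hext)).codRestrict ν.range hθ'range),
    E.comp_mem hθ' hχ hθ'range, ?_⟩
  intro x hxR hxN
  have e1 := Hθ x hxR (hext hxN)
  rw [hφ'x] at e1
  have e2 := Hχ ⟨φ ⟨x, hxR⟩, hQN (hφQ _)⟩
  refine Eq.trans ?_ e2
  show χ _ = χ _
  congr 1
  apply Subtype.ext
  exact e1

end Cfsg.Agent.Lib.Helper9
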