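import Mathlib
import Cfsg.Agent.Lib.Lead.GenCentralizers

set_option autoImplicit false

/-!
# Groups of automorphisms: fixed points, invariant subgroups, generation by fixed points
-/

namespace Cfsg.Agent.H9QA

variable {W : Type*} [Group W]

/-- fixed points of an automorphism -/
def fix (e : MulAut W) : Subgroup W where
  carrier := {x | e x = x}
  one_mem' := map_one e
  mul_mem' := by
    intro a b ha hb
    simp only [Set.mem_setOf_eq] at *
    rw [map_mul, ha, hb]
  inv_mem' := by
    intro a ha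
    simp only [Set.mem_setOf_eq] at *
    rw [map_inv, ha]

theorem mem_fix {e : MulAut W} {x : W} : x ∈ fix e ↔ e x = x := Iff.rfl

/-- common fixed points of a group of automorphisms -/
def fixAll (E : Subgroup (MulAut W)) : Subgroup W where
  carrier := {x | ∀ e ∈ E, e x = x}
  one_mem' := fun e _ => map_one e
  mul_mem' := by
    intro a b ha hb e he
    rw [map_mul, ha e he, hb e he]
  inv_mem' := by
    intro a ha e he
    rw [map_inv, ha e he]

theorem mem_fixAll {E : Subgroup (MulAut W)} {x : W} : x ∈ fixAll E ↔ ∀ e ∈ E, e x = x := Iff.rfl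

theorem fixAll_le_fix {E : Subgroup (MulAut W)} {e : MulAut W} (he : e ∈ E) : fixAll E ≤ fix e :=
  fun _ hx => hx e he

/-- invariant subgroups -/
def Inv (E : Subgroup (MulAut W)) (M : Subgroup W) : Prop := ∀ e ∈ E, ∀ x ∈ M, e x ∈ M

theorem inv_iff_map_le {E : Subgroup (MulAut W)} {M : Subgroup W} :
    Inv E M ↔ ∀ e ∈ E, M.map (e : W ≃* W).toMonoidHom ≤ M := by
  constructor
  · intro h e he y hy
    obtain ⟨x, hx, rfl⟩ := hy
    exact h e he x hx
  · intro h e he x hx
    exact h e he ⟨x, hx, rfl⟩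

theorem Inv.mem_iff {E : Subgroup (MulAut W)} {M : Subgroup W} (h : Inv E M) {e : MulAut W}
    (he : e ∈ E) (x : W) : e x ∈ M ↔ x ∈ M := by
  constructor
  · intro hx
    have := h e⁻¹ (E.inv_mem he) _ hx
    simpa using this
  · exact h e he x

theorem inv_top (E : Subgroup (MulAut W)) : Inv E ⊤ := fun _ _ _ _ => Subgroup.mem_top _

theorem inv_bot (E : Subgroup (MulAut W)) : Inv E ⊥ := by
  intro e _ x hx
  rw [Subgroup.mem_bot] at hx ⊢
  rw [hx, map_one]

theorem Inv.inf {E : Subgroup (MulAut W)} {M N : Subgroup W} (hM : Inv E M) (hN : Inv E N) :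
    Inv E (M ⊓ N) := fun e he x hx => ⟨hM e he x hx.1, hN e he x hx.2⟩

theorem Inv.sup {E : Subgroup (MulAut W)} {M N : Subgroup W} (hM : Inv E M) (hN : Inv E N) :
    Inv E (M ⊔ N) := by
  rw [inv_iff_map_le] at *
  intro e he
  rw [Subgroup.map_sup]
  exact sup_le_sup (hM e he) (hN e he)

theorem Inv.commutator {E : Subgroup (MulAut W)} {M N : Subgroup W} (hM : Inv E M) (hN : Inv E N) :
    Inv E ⁅M, N⁆ := by
  rw [inv_iff_map_le] at *
  intro e he
  rw [Subgroup.map_commutator]
  exact Subgroup.commutator_mono (hM e he) (hN e he)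

theorem Inv.centralizer {E : Subgroup (MulAut W)} {M : Subgroup W} (hM : Inv E M) :
    Inv E (Subgroup.centralizer (M : Set W)) := by
  intro e he x hx
  rw [Subgroup.mem_centralizer_iff] at hx ⊢
  intro m hm
  have hm' : e⁻¹ m ∈ M := hM e⁻¹ (E.inv_mem he) m hm
  have h1 := hx _ hm'
  have h2 := congrArg e h1
  simpa using h2

theorem inv_center (E : Subgroup (MulAut W)) : Inv E (Subgroup.center W) := by
  intro e _ x hx
  rw [Subgroup.mem_center_iff] at hx ⊢
  intro g
  have h1 := hx (e⁻¹ g)
  have h2 := congrArg e h1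
  simpa using h2

theorem inv_fixAll (E : Subgroup (MulAut W)) : Inv E (fixAll E) := by
  intro e he x hx
  rw [hx e he]
  exact hx

theorem inv_fix {E : Subgroup (MulAut W)} (hcomm : ∀ a ∈ E, ∀ b ∈ E, a * b = b * a)
    {a : MulAut W} (ha : a ∈ E) : Inv E (fix a) := by
  intro e he x hx
  rw [mem_fix] at hx ⊢
  have h1 : (a * e) x = (e * a) x := by rw [hcomm a ha e he]
  rw [MulAut.mul_apply, MulAut.mul_apply, hx] at h1
  exact h1

/-- restriction of an automorphism to an invariant subgroup -/
def resAut {E : Subgroup (MulAut W)} {M : Subgroup W} (hM : Inv E M) (e : E) : MulAut M where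
  toFun x := ⟨e.1 x.1, hM e.1 e.2 x.1 x.2⟩
  invFun x := ⟨e.1⁻¹ x.1, hM e.1⁻¹ (E.inv_mem e.2) x.1 x.2⟩
  left_inv x := by
    apply Subtype.ext
    simp
  right_inv x := by
    apply Subtype.ext
    simp
  map_mul' x y := by
    apply Subtype.ext
    simp

theorem resAut_apply {E : Subgroup (MulAut W)} {M : Subgroup W} (hM : Inv E M) (e : E) (x : M) :
    ((resAut hM e x : M) : W) = e.1 x.1 := rfl

/-- the restriction homomorphism -/
def res {E : Subgroup (MulAut W)} {M : Subgroup W} (hM : Inv E M) : E →* MulAut M where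
  toFun := resAut hM
  map_one' := by
    ext x
    rw [resAut_apply]
    simp
  map_mul' a b := by
    ext x
    rw [resAut_apply]
    simp [resAut_apply]

theorem res_apply {E : Subgroup (MulAut W)} {M : Subgroup W} (hM : Inv E M) (e : E) (x : M) :
    ((res hM e x : M) : W) = e.1 x.1 := rfl

theorem mem_ker_res {E : Subgroup (MulAut W)} {M : Subgroup W} (hM : Inv E M) (e : E) :
    e ∈ (res hM).ker ↔ ∀ x ∈ M, e.1 x = x := by
  rw [MonoidHom.mem_ker]
  constructor
  · intro h x hx
    have h1 : (res hM e ⟨x, hx⟩ : M) = (1 : MulAut M) ⟨x, hx⟩ := by rw [h]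
    have h2 := congrArg Subtype.val h1
    rw [res_apply] at h2
    exact h2
  · intro h
    ext x
    rw [res_apply]
    exact h x.1 x.2

end Cfsg.Agent.H9QA
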