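import Mathlib
import Cfsg.Agent.Lib.Lead.GenCentralizers
import Cfsg.Agent.Lib.Helper9.Q8Act1

set_option autoImplicit false

/-!
# Generation by fixed points (transfer through the semidirect product)
-/

namespace Cfsg.Agent.H9QA

open SemidirectProduct

variable {W : Type*} [Group W]

theorem gc [Finite W] (E : Subgroup (MulAut W)) (hcomm : ∀ a ∈ E, ∀ b ∈ E, a * b = b * a)
    (hnc : ¬ IsCyclic E) (M : Subgroup W) (hM : Inv E M)
    (hcop : (Nat.card E).Coprime (Nat.card M)) :
    M ≤ ⨆ e ∈ {e : MulAut W | e ∈ E ∧ e ≠ 1}, M ⊓ fix e := by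
  classical
  let φ : E →* MulAut W := E.subtype
  let G := W ⋊[φ] E
  haveI : Finite G := Finite.of_equiv _ (SemidirectProduct.equivProd (φ := φ)).symm
  let K : Subgroup G := M.map (inl : W →* G)
  let A : Subgroup G := (inr : E →* G).range
  haveI hAc : IsMulCommutative A := by
    refine ⟨⟨?_⟩⟩
    rintro ⟨_, ⟨a, rfl⟩⟩ ⟨_, ⟨b, rfl⟩⟩
    apply Subtype.ext
    change (inr a : G) * inr b = inr b * inr a
    rw [← map_mul, ← map_mul]
    congr 1
    apply Subtype.ext
    exact hcomm a.1 a.2 b.1 b.2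
  have eA : E ≃* A := MonoidHom.ofInjective (f := (inr : E →* G)) inr_injective
  have hA : ¬ IsCyclic A := by
    intro h
    apply hnc
    exact isCyclic_of_surjective eA.symm.toMonoidHom eA.symm.surjective
  have hAK : A ≤ Subgroup.normalizer (K : Set G) := by
    rintro _ ⟨a, rfl⟩
    rw [Subgroup.mem_normalizer_iff]
    intro k
    constructor
    · rintro ⟨m, hm, rfl⟩
      refine ⟨a.1 m, hM a.1 a.2 m hm, ?_⟩
      have h1 := inl_aut (φ := φ) a m
      rw [map_inv] at h1
      exact h1
    · rintro ⟨m, hm, hmk⟩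
      refine ⟨a.1⁻¹ m, hM _ (E.inv_mem a.2) m hm, ?_⟩
      have h1 := inl_aut_inv (φ := φ) a m
      change (inl (a.1⁻¹ m) : G) = _ at h1
      change (inl (a.1⁻¹ m) : G) = k
      rw [h1]
      have h2 : (inl m : G) = inr a * k * (inr a)⁻¹ := hmk
      rw [h2, map_inv]
      group
  have hcop' : (Nat.card A).Coprime (Nat.card K) := by
    rw [← Nat.card_congr eA.toEquiv, Subgroup.card_map_of_injective inl_injective]
    exact hcop
  have key := Cfsg.Agent.Lib.Lead.generated_by_centralizers A K hA hAK hcop'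
  let S : Subgroup W := ⨆ e ∈ {e : MulAut W | e ∈ E ∧ e ≠ 1}, M ⊓ fix e
  have hle : K ≤ S.map (inl : W →* G) := by
    rw [← key]
    apply iSup₂_le
    rintro a ⟨haA, ha1⟩
    obtain ⟨e, rfl⟩ := haA
    have he1 : e.1 ≠ 1 := by
      intro h
      apply ha1
      have : e = 1 := Subtype.ext h
      rw [this, map_one]
    rintro x ⟨hxK, hxC⟩
    obtain ⟨m, hm, rfl⟩ := hxK
    have hcomm' : (inr e : G) * inl m = inl m * inr e := by
      have := Subgroup.mem_centralizer_iff.mp hxC (inr e) (Set.mem_singleton _)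
      exact this
    have hfixm : e.1 m = m := by
      apply inl_injective (φ := φ)
      have h1 := inl_aut (φ := φ) e m
      change (inl (e.1 m) : G) = _ at h1
      rw [h1, hcomm', map_inv]
      group
    refine ⟨m, ?_, rfl⟩
    have h2 : M ⊓ fix e.1 ≤ S :=
      le_iSup₂_of_le (f := fun e _ => M ⊓ fix e) e.1 ⟨e.2, he1⟩ le_rfl
    exact h2 ⟨hm, hfixm⟩
  exact (Subgroup.map_le_map_iff_of_injective inl_injective).mp hle

/-- induction principle: a property that holds for fixed points of nontrivial elements of `E` in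
`M` and is closed under products holds on `M` -/
theorem gc_induction [Finite W] (E : Subgroup (MulAut W))
    (hcomm : ∀ a ∈ E, ∀ b ∈ E, a * b = b * a)
    (hnc : ¬ IsCyclic E) (M : Subgroup W) (hM : Inv E M)
    (hcop : (Nat.card E).Coprime (Nat.card M)) {C : W → Prop} (one : C 1)
    (mul : ∀ x y, C x → C y → C (x * y))
    (mem : ∀ e ∈ E, e ≠ 1 → ∀ x ∈ M, e x = x → C x) : ∀ x ∈ M, C x := by
  intro x hx
  have h1 := gc E hcomm hnc M hM hcop hx
  refine Subgroup.iSup_induction (C := C) _ h1 ?_ one mul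
  intro e y hy
  refine Subgroup.iSup_induction (C := C) _ hy ?_ one mul
  rintro ⟨he, he1⟩ w hw
  exact mem e he he1 w hw.1 hw.2

end Cfsg.Agent.H9QA
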