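import Mathlib
import Cfsg.Agent.Lib.Helper9.Q8Act2
import Cfsg.Agent.Lib.Helper7.SL2N2
import Cfsg.Agent.Lib.Helper2.Zfp54

set_option autoImplicit false

/-!
# Fixed-point subgroups with a unique involution and a nontrivial odd action are quaternion
-/

namespace Cfsg.Agent.H9QA

open Cfsg.Agent.Lib.Lead (UniqueOrderP)
open scoped commutatorElement

variable {W : Type*} [Group W]

theorem eq_zpowers_of_card_two {G : Type*} [Group G] (H : Subgroup G) (hH : Nat.card H = 2) {x : G}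
    (hx : x ∈ H) (hx2 : orderOf x = 2) : H = Subgroup.zpowers x := by
  haveI hfin : Finite H := Nat.finite_of_card_ne_zero (by rw [hH]; norm_num)
  symm
  apply Subgroup.eq_of_le_of_card_ge
  · rw [Subgroup.zpowers_le]; exact hx
  · rw [Nat.card_zpowers, hx2, hH]

theorem exists_involution_of_card_two {G : Type*} [Group G] (H : Subgroup G)
    (hH : Nat.card H = 2) : ∃ x ∈ H, orderOf x = 2 := by
  haveI hfin : Finite H := Nat.finite_of_card_ne_zero (by rw [hH]; norm_num)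
  haveI : Fact (Nat.Prime 2) := ⟨Nat.prime_two⟩
  obtain ⟨x, hx⟩ := exists_prime_orderOf_dvd_card' (G := H) 2 (by rw [hH])
  exact ⟨x.1, x.2, by rw [← hx, Subgroup.orderOf_coe]⟩

theorem uniqueOrderP_fix (E : Subgroup (MulAut W))
    (hfix : ∀ e ∈ E, e ≠ 1 → ∀ x y : W, orderOf x = 2 → orderOf y = 2 → e x = x → e y = y → x = y)
    {a : MulAut W} (ha : a ∈ E) (ha1 : a ≠ 1) : UniqueOrderP 2 (fix a) := by
  intro H K hH hK
  obtain ⟨x, hxH, hx2⟩ := exists_involution_of_card_two H hH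
  obtain ⟨y, hyK, hy2⟩ := exists_involution_of_card_two K hK
  have hxy : x = y := by
    apply Subtype.ext
    apply hfix a ha ha1 x.1 y.1 _ _ x.2 y.2
    · rw [Subgroup.orderOf_coe]; exact hx2
    · rw [Subgroup.orderOf_coe]; exact hy2
  rw [eq_zpowers_of_card_two H hH hxH hx2, eq_zpowers_of_card_two K hK hyK hy2, hxy]

theorem prime_dvd_24 {p : ℕ} (hp : p.Prime) (h : p ∣ 24) : p = 2 ∨ p = 3 := by
  have h24 : (24 : ℕ) = 2 ^ 3 * 3 := by norm_num
  rw [h24] at h
  rcases hp.dvd_mul.mp h with h1 | h1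
  · left
    exact (Nat.prime_dvd_prime_iff_eq hp Nat.prime_two).mp (hp.dvd_of_dvd_pow h1)
  · right
    exact (Nat.prime_dvd_prime_iff_eq hp Nat.prime_three).mp h1

/-- a nontrivially acted-on fixed-point subgroup is quaternion, `p = 3`, and the kernel of the
action has index `3` -/
theorem q8_case [Finite W] (hW : IsPGroup 2 W) {p : ℕ} [hpp : Fact p.Prime] (hp : p ≠ 2)
    (E : Subgroup (MulAut W)) (hE : IsPGroup p E) (hcomm : ∀ a ∈ E, ∀ b ∈ E, a * b = b * a)
    (hfix : ∀ e ∈ E, e ≠ 1 → ∀ x y : W, orderOf x = 2 → orderOf y = 2 → e x = x → e y = y → x = y)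
    {a : MulAut W} (ha : a ∈ E) (ha1 : a ≠ 1)
    (hnt : ∃ b ∈ E, ∃ x ∈ fix a, b x ≠ x) :
    p = 3 ∧ Nonempty (fix a ≃* QuaternionGroup 2) ∧ (res (inv_fix hcomm ha)).ker.index = 3 := by
  classical
  obtain ⟨b, hb, x, hx, hbx⟩ := hnt
  have hD : Inv E (fix a) := inv_fix hcomm ha
  have hD2 : IsPGroup 2 (fix a) := hW.to_subgroup (fix a)
  have hU := uniqueOrderP_fix E hfix ha ha1
  have hc1 : res hD ⟨b, hb⟩ ≠ 1 := by
    intro h
    apply hbx
    have h1 : (⟨b, hb⟩ : E) ∈ (res hD).ker := h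
    exact (mem_ker_res hD _).mp h1 x hx
  obtain ⟨k, hk⟩ := hE ⟨b, hb⟩
  have hodd : Odd (p ^ k) := (Nat.Prime.odd_of_ne_two hpp.out hp).pow
  have hcn : (res hD ⟨b, hb⟩) ^ (p ^ k) = 1 := by rw [← map_pow, hk, map_one]
  obtain ⟨f⟩ := Cfsg.Agent.Lib.Helper7.SL2N.q8_of_unique_involution hD2 hU _ hc1 (p ^ k) hodd hcn
  have hcardAut : Nat.card (MulAut (fix a)) = 24 := by
    rw [Nat.card_congr (MulAut.congr f).toEquiv]
    exact Cfsg.Agent.Lib.Helper2.Zfp.card_mulAut_q8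
  haveI : Finite (MulAut (fix a)) := Nat.finite_of_card_ne_zero (by rw [hcardAut]; norm_num)
  have hrange : IsPGroup p (res hD).range :=
    hE.of_surjective (res hD).rangeRestrict (res hD).rangeRestrict_surjective
  obtain ⟨j, hj⟩ := IsPGroup.iff_card.mp hrange
  have hdvd : Nat.card (res hD).range ∣ 24 := by
    rw [← hcardAut]
    exact Subgroup.card_subgroup_dvd_card _
  have hj0 : j ≠ 0 := by
    intro h0
    rw [h0, pow_zero] at hj
    have hbot : (res hD).range = ⊥ := Subgroup.card_eq_one.mp hj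
    apply hc1
    have h1 : res hD ⟨b, hb⟩ ∈ (res hD).range := ⟨_, rfl⟩
    rw [hbot, Subgroup.mem_bot] at h1
    exact h1
  have hp24 : p ∣ 24 := by
    refine dvd_trans ?_ hdvd
    rw [hj]
    exact dvd_pow_self p hj0
  have hp3 : p = 3 := by
    rcases prime_dvd_24 hpp.out hp24 with h | h
    · exact absurd h hp
    · exact h
  refine ⟨hp3, ⟨f⟩, ?_⟩
  rw [Subgroup.index_ker, hj, hp3]
  rw [hj, hp3] at hdvd
  have hj1 : j = 1 := by
    by_contra hne
    have hj2 : 2 ≤ j := by omega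
    have h9 : 3 ^ 2 ∣ 3 ^ j := pow_dvd_pow 3 hj2
    have := dvd_trans h9 hdvd
    omega
  rw [hj1, pow_one]

/-- consequences of a quaternion structure on a fixed-point subgroup -/
theorem q8_facts {D : Subgroup W} (f : D ≃* QuaternionGroup 2) :
    Nat.card D = 8 ∧ (∃ x ∈ D, ∃ y ∈ D, x * y ≠ y * x) ∧ (∀ x ∈ D, ∀ y ∈ D, ⁅x, y⁆ ^ 2 = 1) ∧
      (∀ x ∈ D, (x ^ 2) ^ 2 = 1) := by
  refine ⟨?_, ?_, ?_, ?_⟩
  · rw [Nat.card_congr f.toEquiv, Nat.card_eq_fintype_card, QuaternionGroup.card]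
  · refine ⟨(f.symm (QuaternionGroup.a 1)).1, (f.symm (QuaternionGroup.a 1)).2,
      (f.symm (QuaternionGroup.xa 0)).1, (f.symm (QuaternionGroup.xa 0)).2, ?_⟩
    intro h
    have h1 : f.symm (QuaternionGroup.a 1) * f.symm (QuaternionGroup.xa 0) =
        f.symm (QuaternionGroup.xa 0) * f.symm (QuaternionGroup.a 1) := Subtype.ext h
    rw [← map_mul, ← map_mul] at h1
    have h2 := f.symm.injective h1
    revert h2
    decide
  · intro x hx y hy
    have h1 : ∀ u v : QuaternionGroup 2, ⁅u, v⁆ ^ 2 = 1 := by decide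
    have h2 := h1 (f ⟨x, hx⟩) (f ⟨y, hy⟩)
    rw [← map_commutatorElement, ← map_pow] at h2
    have h3 : (⁅(⟨x, hx⟩ : D), (⟨y, hy⟩ : D)⁆) ^ 2 = (1 : D) := by
      apply f.injective
      rw [h2, map_one]
    exact congrArg Subtype.val h3
  · intro x hx
    have h1 : ∀ u : QuaternionGroup 2, (u ^ 2) ^ 2 = 1 := by decide
    have h2 := h1 (f ⟨x, hx⟩)
    rw [← map_pow, ← map_pow] at h2
    have h3 : (((⟨x, hx⟩ : D)) ^ 2) ^ 2 = 1 := by
      apply f.injective
      rw [h2, map_one]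
    exact congrArg Subtype.val h3

end Cfsg.Agent.H9QA
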