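import Mathlib
import Cfsg.Agent.Lib.Helper9.Q8Act3

set_option autoImplicit false

/-!
# Phase 1: reduction to the configuration `p = 3`, `|E| = 9`, `|C_W(E)| = 2`
-/

namespace Cfsg.Agent.H9QA

open scoped commutatorElement

variable {W : Type*} [Group W]

theorem commElt_mem_sub (H : Subgroup W) {x y : W} (hx : x ∈ H) (hy : y ∈ H) : ⁅x, y⁆ ∈ H := by
  rw [commutatorElement_def]
  exact H.mul_mem (H.mul_mem (H.mul_mem hx hy) (H.inv_mem hx)) (H.inv_mem hy)

/-- counting fixed points modulo `3` -/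
theorem card_fixAll [Finite W] (E : Subgroup (MulAut W)) (hE : IsPGroup 3 E) {D : Subgroup W}
    (hD : Inv E D) (hcard : Nat.card D = 8) (hle : fixAll E ≤ D)
    (hnt : ∃ b ∈ E, ∃ x ∈ D, b x ≠ x) : Nat.card (fixAll E) = 2 := by
  classical
  haveI : Fact (Nat.Prime 3) := ⟨Nat.prime_three⟩
  letI : MulAction E D := MulAction.compHom D (res hD)
  have hmod := hE.card_modEq_card_fixedPoints D
  have heq : MulAction.fixedPoints E D ≃ fixAll E :=
    { toFun := fun x => ⟨x.1.1, fun e he => by
        have h1 := x.2 ⟨e, he⟩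
        exact congrArg Subtype.val h1⟩
      invFun := fun y => ⟨⟨y.1, hle y.2⟩, fun e => Subtype.ext (y.2 e.1 e.2)⟩
      left_inv := fun x => rfl
      right_inv := fun y => rfl }
  rw [Nat.card_congr heq, hcard] at hmod
  have hdvd : Nat.card (fixAll E) ∣ 8 := by
    rw [← hcard]
    exact Subgroup.card_dvd_of_le hle
  have hle8 : Nat.card (fixAll E) ≤ 8 := Nat.le_of_dvd (by norm_num) hdvd
  have hne8 : Nat.card (fixAll E) ≠ 8 := by
    intro h8
    have heq2 : fixAll E = D := by
      apply Subgroup.eq_of_le_of_card_ge hle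
      rw [hcard, h8]
    obtain ⟨b, hb, x, hx, hbx⟩ := hnt
    rw [← heq2] at hx
    exact hbx (hx b hb)
  unfold Nat.ModEq at hmod
  generalize Nat.card (fixAll E) = c at *
  interval_cases c <;> omega

/-- the configuration reached after phase 1 -/
structure Cfg (W : Type*) [Group W] (E : Subgroup (MulAut W)) (z : W) : Prop where
  two : IsPGroup 2 W
  three : IsPGroup 3 E
  comm : ∀ a ∈ E, ∀ b ∈ E, a * b = b * a
  ncyc : ¬ IsCyclic E
  card : Nat.card E = 9
  hz : orderOf z = 2
  fixAll_eq : fixAll E = Subgroup.zpowers z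
  uniq : ∀ e ∈ E, e ≠ 1 → ∀ x : W, orderOf x = 2 → e x = x → x = z
  dich : ∀ e ∈ E, e ≠ 1 → fix e = Subgroup.zpowers z ∨
    (Nat.card (fix e) = 8 ∧ ∃ x ∈ fix e, ∃ y ∈ fix e, x * y ≠ y * x)
  comm_mem : ∀ e ∈ E, e ≠ 1 → ∀ x ∈ fix e, ∀ y ∈ fix e, ⁅x, y⁆ ∈ Subgroup.zpowers z
  sq_mem : ∀ e ∈ E, e ≠ 1 → ∀ x ∈ fix e, x ^ 2 ∈ Subgroup.zpowers z

theorem mem_zpowers_of_sq_eq_one {E : Subgroup (MulAut W)} {z : W}
    (huniq : ∀ e ∈ E, e ≠ 1 → ∀ x : W, orderOf x = 2 → e x = x → x = z)
    {e : MulAut W} (he : e ∈ E) (he1 : e ≠ 1) {w : W} (hw : w ∈ fix e) (hw2 : w ^ 2 = 1) :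
    w ∈ Subgroup.zpowers z := by
  by_cases h1 : w = 1
  · rw [h1]; exact Subgroup.one_mem _
  · have h2 : orderOf w = 2 := orderOf_eq_prime hw2 h1
    rw [huniq e he he1 w h2 hw]
    exact Subgroup.mem_zpowers z

theorem phase1 [Finite W] (hW : IsPGroup 2 W) {p : ℕ} [hpp : Fact p.Prime] (hp : p ≠ 2)
    (E : Subgroup (MulAut W)) (hE : IsPGroup p E) (hab : IsMulCommutative E)
    (hnc : ¬ IsCyclic E)
    (hfix : ∀ e ∈ E, e ≠ 1 → ∀ x y : W, orderOf x = 2 → orderOf y = 2 → e x = x → e y = y → x = y) :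
    ∃ z : W, Cfg W E z := by
  classical
  have hcomm : ∀ a ∈ E, ∀ b ∈ E, a * b = b * a := by
    intro a ha b hb
    have h1 := hab.is_comm.comm ⟨a, ha⟩ ⟨b, hb⟩
    exact congrArg Subtype.val h1
  haveI : Finite (MulAut W) := inferInstance
  have hcop : ∀ M : Subgroup W, (Nat.card E).Coprime (Nat.card M) := by
    intro M
    obtain ⟨n, hn⟩ := IsPGroup.iff_card.mp hE
    obtain ⟨m, hm⟩ := IsPGroup.iff_card.mp (hW.to_subgroup M)
    rw [hn, hm]
    exact Nat.Coprime.pow _ _ ((Nat.coprime_primes hpp.out Nat.prime_two).mpr hp)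
  -- some fixed-point subgroup is acted on nontrivially
  have hex : ∃ a ∈ E, a ≠ 1 ∧ ∃ b ∈ E, ∃ x ∈ fix a, b x ≠ x := by
    by_contra hcon
    push Not at hcon
    apply hnc
    have hall : ∀ x ∈ (⊤ : Subgroup W), ∀ b ∈ E, b x = x := by
      apply gc_induction E hcomm hnc ⊤ (inv_top E) (hcop ⊤) (C := fun x => ∀ b ∈ E, b x = x)
      · intro b _; exact map_one b
      · intro x y hx hy b hb
        rw [map_mul, hx b hb, hy b hb]
      · intro e he he1 x _ hex b hb
        exact hcon e he he1 b hb x hex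
    have hbot : E = ⊥ := by
      rw [Subgroup.eq_bot_iff_forall]
      intro b hb
      ext x
      exact hall x (Subgroup.mem_top x) b hb
    haveI : Subsingleton E := by
      rw [hbot]
      infer_instance
    exact isCyclic_of_subsingleton
  obtain ⟨a, ha, ha1, hnta⟩ := hex
  obtain ⟨hp3, ⟨fa⟩, hidxa⟩ := q8_case hW hp E hE hcomm hfix ha ha1 hnta
  subst hp3
  obtain ⟨hcarda, -, -, -⟩ := q8_facts fa
  have hDa : Inv E (fix a) := inv_fix hcomm ha
  have hcardZ : Nat.card (fixAll E) = 2 :=
    card_fixAll E hE hDa hcarda (fixAll_le_fix ha) hnta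
  obtain ⟨z, hzZ, hz2⟩ := exists_involution_of_card_two (fixAll E) hcardZ
  have hZeq : fixAll E = Subgroup.zpowers z := eq_zpowers_of_card_two (fixAll E) hcardZ hzZ hz2
  have huniq : ∀ e ∈ E, e ≠ 1 → ∀ x : W, orderOf x = 2 → e x = x → x = z := by
    intro e he he1 x hx hex
    exact hfix e he he1 x z hx hz2 hex (hzZ e he)
  have hZle : ∀ e ∈ E, Subgroup.zpowers z ≤ fix e := by
    intro e he
    rw [← hZeq]
    exact fixAll_le_fix he
  -- the dichotomy with extra facts
  have hdich : ∀ e ∈ E, e ≠ 1 → (fix e = Subgroup.zpowers z ∨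
      (Nat.card (fix e) = 8 ∧ ∃ x ∈ fix e, ∃ y ∈ fix e, x * y ≠ y * x)) ∧
      (∀ x ∈ fix e, ∀ y ∈ fix e, ⁅x, y⁆ ∈ Subgroup.zpowers z) ∧
      (∀ x ∈ fix e, x ^ 2 ∈ Subgroup.zpowers z) := by
    intro e he he1
    by_cases hnt : ∃ b ∈ E, ∃ x ∈ fix e, b x ≠ x
    · obtain ⟨-, ⟨f⟩, -⟩ := q8_case hW hp E hE hcomm hfix he he1 hnt
      obtain ⟨h8, hna, hc, hs⟩ := q8_facts f
      refine ⟨Or.inr ⟨h8, hna⟩, ?_, ?_⟩
      · intro x hx y hy
        exact mem_zpowers_of_sq_eq_one huniq he he1
          (commElt_mem_sub (fix e) hx hy) (hc x hx y hy)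
      · intro x hx
        exact mem_zpowers_of_sq_eq_one huniq he he1 ((fix e).pow_mem hx 2) (hs x hx)
    · push Not at hnt
      have hle : fix e ≤ Subgroup.zpowers z := by
        rw [← hZeq]
        intro x hx b hb
        exact hnt b hb x hx
      have heq : fix e = Subgroup.zpowers z := le_antisymm hle (hZle e he)
      refine ⟨Or.inl heq, ?_, ?_⟩
      · intro x hx y hy
        rw [heq] at hx hy
        exact commElt_mem_sub _ hx hy
      · intro x hx
        rw [heq] at hx
        exact Subgroup.pow_mem _ hx 2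
  -- the order of E
  have hcard9 : Nat.card E = 9 := by
    obtain ⟨n, hn⟩ := IsPGroup.iff_card.mp hE
    match n, hn with
    | 0, hn =>
      exfalso
      apply hnc
      rw [pow_zero] at hn
      haveI : Subsingleton E := (Nat.card_eq_one_iff_unique.mp hn).1
      exact isCyclic_of_subsingleton
    | 1, hn =>
      exfalso
      apply hnc
      rw [pow_one] at hn
      exact isCyclic_of_prime_card hn
    | 2, hn => rw [hn]; norm_num
    | (n + 3), hn =>
      exfalso
      -- kernels
      have hker : ∀ e (he : e ∈ E), e ≠ 1 → fix e ≠ Subgroup.zpowers z →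
          (res (inv_fix hcomm he)).ker.index = 3 ∧ Nat.card (fix e) = 8 := by
        intro e he he1 hne
        have hnt : ∃ b ∈ E, ∃ x ∈ fix e, b x ≠ x := by
          by_contra hcon
          push Not at hcon
          apply hne
          apply le_antisymm _ (hZle e he)
          rw [← hZeq]
          intro x hx b hb
          exact hcon b hb x hx
        obtain ⟨-, ⟨f⟩, hidx⟩ := q8_case hW hp E hE hcomm hfix he he1 hnt
        exact ⟨hidx, (q8_facts f).1⟩
      have hclaimA : ∀ e (he : e ∈ E), e ≠ 1 → fix e ≠ Subgroup.zpowers z →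
          ∀ c : E, c ≠ 1 → c ∈ (res (inv_fix hcomm he)).ker → fix c.1 = fix e := by
        intro e he he1 hne c hc1 hc
        have hle : fix e ≤ fix c.1 := fun x hx => (mem_ker_res _ c).mp hc x hx
        have hc1' : c.1 ≠ 1 := fun h => hc1 (Subtype.ext h)
        have hne' : fix c.1 ≠ Subgroup.zpowers z := by
          intro h
          apply hne
          apply le_antisymm _ (hZle e he)
          rw [← h]
          exact hle
        symm
        apply Subgroup.eq_of_le_of_card_ge hle
        rw [(hker e he he1 hne).2, (hker c.1 c.2 hc1' hne').2]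
      have hclaimB : ∀ e (he : e ∈ E), e ≠ 1 → fix e ≠ Subgroup.zpowers z →
          ∀ e' (he' : e' ∈ E), e' ≠ 1 → fix e' ≠ Subgroup.zpowers z → fix e = fix e' := by
        intro e he he1 hne e' he' he1' hne'
        have h1 := (hker e he he1 hne).1
        have h2 := (hker e' he' he1' hne').1
        have h3 : ((res (inv_fix hcomm he)).ker ⊓ (res (inv_fix hcomm he')).ker).index ≤
            (res (inv_fix hcomm he)).ker.index * (res (inv_fix hcomm he')).ker.index :=
          Subgroup.index_inf_le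
        rw [h1, h2] at h3
        have h4 := Subgroup.card_mul_index
          ((res (inv_fix hcomm he)).ker ⊓ (res (inv_fix hcomm he')).ker)
        rw [hn] at h4
        have hnb : (res (inv_fix hcomm he)).ker ⊓ (res (inv_fix hcomm he')).ker ≠ ⊥ := by
          intro hbot
          rw [hbot] at h3 h4
          rw [Subgroup.card_bot, one_mul] at h4
          rw [h4] at h3
          have h5 : 3 ^ (n + 3) = 27 * 3 ^ n := by ring
          have h6 : 0 < 3 ^ n := Nat.pos_of_ne_zero (by positivity)
          omega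
        obtain ⟨c, hc1⟩ := (Subgroup.ne_bot_iff_exists_ne_one).mp hnb
        have hc1' : c.1 ≠ 1 := fun h => hc1 (Subtype.ext h)
        exact (hclaimA e he he1 hne c.1 hc1' c.2.1).symm.trans
          (hclaimA e' he' he1' hne' c.1 hc1' c.2.2)
      have hane : fix a ≠ Subgroup.zpowers z := by
        intro h
        obtain ⟨b, hb, x, hx, hbx⟩ := hnta
        rw [h, ← hZeq] at hx
        exact hbx (hx b hb)
      have htop : ∀ x ∈ (⊤ : Subgroup W), x ∈ fix a := by
        apply gc_induction E hcomm hnc ⊤ (inv_top E) (hcop ⊤) (C := fun x => x ∈ fix a)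
        · exact Subgroup.one_mem _
        · intro x y hx hy; exact Subgroup.mul_mem _ hx hy
        · intro e he he1 x _ hex
          by_cases hne : fix e = Subgroup.zpowers z
          · apply hZle a ha
            rw [← hne]
            exact hex
          · rw [hclaimB a ha ha1 hane e he he1 hne]
            exact hex
      have hkerbot : (res hDa).ker = ⊥ := by
        rw [Subgroup.eq_bot_iff_forall]
        intro c hc
        apply Subtype.ext
        ext x
        exact (mem_ker_res hDa c).mp hc x (htop x (Subgroup.mem_top x))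
      have h7 := Subgroup.card_mul_index (res hDa).ker
      rw [hkerbot, Subgroup.card_bot, one_mul] at h7
      have h8 : (res hDa).ker.index = 3 := hidxa
      rw [hkerbot] at h8
      rw [h8] at h7
      apply hnc
      exact isCyclic_of_prime_card h7.symm
  exact ⟨z, ⟨hW, hE, hcomm, hnc, hcard9, hz2, hZeq, huniq,
    fun e he he1 => (hdich e he he1).1, fun e he he1 => (hdich e he he1).2.1,
    fun e he he1 => (hdich e he he1).2.2⟩⟩

end Cfsg.Agent.H9QA
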