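import Mathlib
import Cfsg.Agent.Lib.Helper9.Q8Act4

set_option autoImplicit false

/-!
# Phase 2 (basic facts about the configuration)
-/

namespace Cfsg.Agent.H9QA

open scoped commutatorElement

variable {W : Type*} [Group W]

theorem exists_involution_of_ne_bot' [Finite W] (hW : IsPGroup 2 W) (R : Subgroup W)
    (hne : R ≠ ⊥) : ∃ y ∈ R, orderOf y = 2 := by
  haveI : Fact (Nat.Prime 2) := ⟨Nat.prime_two⟩
  have hR2 : IsPGroup 2 R := hW.to_subgroup R
  haveI : Nontrivial R := (Subgroup.nontrivial_iff_ne_bot R).mpr hne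
  obtain ⟨n, hn0, hn⟩ := hR2.nontrivial_iff_card.mp inferInstance
  have hdvd : 2 ∣ Nat.card R := by rw [hn]; exact dvd_pow_self 2 hn0.ne'
  obtain ⟨y, hy⟩ := exists_prime_orderOf_dvd_card' (G := R) 2 hdvd
  exact ⟨y.1, y.2, by rw [← hy, Subgroup.orderOf_coe]⟩

/-- counting fixed points modulo `3` on an invariant subgroup -/
theorem card_modEq_fixAll [Finite W] (E : Subgroup (MulAut W)) (hE : IsPGroup 3 E)
    {D : Subgroup W} (hD : Inv E D) (hle : fixAll E ≤ D) :
    Nat.card D ≡ Nat.card (fixAll E) [MOD 3] := by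
  classical
  haveI : Fact (Nat.Prime 3) := ⟨Nat.prime_three⟩
  letI : MulAction E D := MulAction.compHom D (res hD)
  have hmod := hE.card_modEq_card_fixedPoints D
  have heq : MulAction.fixedPoints E D ≃ fixAll E :=
    { toFun := fun x => ⟨x.1.1, fun e he => by
        have h1 := x.2 ⟨e, he⟩
        exact congrArg Subtype.val h1⟩
      invFun := fun y => ⟨⟨y.1, hle y.2⟩, fun e => Subtype.ext (y.2 e.1 e.2)⟩
      left_inv := fun x => rfl
      right_inv := fun y => rfl }
  rw [Nat.card_congr heq] at hmod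
  exact hmod

theorem mem_zpowers_two {z x : W} (hz : orderOf z = 2) :
    x ∈ Subgroup.zpowers z ↔ x = 1 ∨ x = z := by
  constructor
  · intro hx
    obtain ⟨k, rfl⟩ := Subgroup.mem_zpowers_iff.mp hx
    rw [← zpow_mod_orderOf, hz]
    have h2 : (k % ((2 : ℕ) : ℤ)) = 0 ∨ (k % ((2 : ℕ) : ℤ)) = 1 := by
      push_cast
      omega
    rcases h2 with h2 | h2
    · left; rw [h2, zpow_zero]
    · right; rw [h2, zpow_one]
  · rintro (rfl | rfl)
    · exact Subgroup.one_mem _
    · exact Subgroup.mem_zpowers _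

namespace Cfg

variable [Finite W] {E : Subgroup (MulAut W)} {z : W}

theorem cop (h : Cfg W E z) (M : Subgroup W) : (Nat.card E).Coprime (Nat.card M) := by
  rw [h.card]
  obtain ⟨m, hm⟩ := IsPGroup.iff_card.mp (h.two.to_subgroup M)
  rw [hm]
  exact Nat.Coprime.pow_right m (by norm_num)

theorem ind (h : Cfg W E z) (M : Subgroup W) (hM : Inv E M) {C : W → Prop} (one : C 1)
    (mul : ∀ x y, C x → C y → C (x * y))
    (mem : ∀ e ∈ E, e ≠ 1 → ∀ x ∈ M, e x = x → C x) : ∀ x ∈ M, C x :=
  gc_induction E h.comm h.ncyc M hM (h.cop M) one mul mem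

theorem card_Z (h : Cfg W E z) : Nat.card (Subgroup.zpowers z) = 2 := by
  rw [Nat.card_zpowers, h.hz]

theorem Z_le_fix (h : Cfg W E z) {e : MulAut W} (he : e ∈ E) : Subgroup.zpowers z ≤ fix e := by
  rw [← h.fixAll_eq]
  exact fixAll_le_fix he

theorem z_fixed (h : Cfg W E z) {e : MulAut W} (he : e ∈ E) : e z = z :=
  h.Z_le_fix he (Subgroup.mem_zpowers z)

theorem z_ne_one (h : Cfg W E z) : z ≠ 1 := by
  intro h1
  have := h.hz
  rw [h1, orderOf_one] at this
  omega

theorem z_sq (h : Cfg W E z) : z * z = 1 := by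
  have := pow_orderOf_eq_one z
  rw [h.hz, pow_two] at this
  exact this

theorem inv_Z (h : Cfg W E z) : Inv E (Subgroup.zpowers z) := by
  rw [← h.fixAll_eq]
  exact inv_fixAll E

theorem mem_Z (h : Cfg W E z) {x : W} : x ∈ Subgroup.zpowers z ↔ x = 1 ∨ x = z :=
  mem_zpowers_two h.hz

/-- an invariant nontrivial subgroup contains `z` -/
theorem z_mem (h : Cfg W E z) (R : Subgroup W) (hR : Inv E R) (hne : R ≠ ⊥) : z ∈ R := by
  by_contra hz
  apply hne
  rw [Subgroup.eq_bot_iff_forall]
  apply h.ind R hR (C := fun x => x = 1) rfl (by intro x y hx hy; rw [hx, hy, one_mul])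
  intro e he he1 x hxR hex
  by_contra hx1
  have hne' : R ⊓ fix e ≠ ⊥ := by
    intro hb
    have h2 : x ∈ R ⊓ fix e := ⟨hxR, hex⟩
    rw [hb, Subgroup.mem_bot] at h2
    exact hx1 h2
  obtain ⟨y, hy, hy2⟩ := exists_involution_of_ne_bot' h.two _ hne'
  apply hz
  rw [← h.uniq e he he1 y hy2 hy.2]
  exact hy.1

theorem Z_le (h : Cfg W E z) (R : Subgroup W) (hR : Inv E R) (hne : R ≠ ⊥) :
    Subgroup.zpowers z ≤ R := by
  rw [Subgroup.zpowers_le]
  exact h.z_mem R hR hne

theorem z_central (h : Cfg W E z) : z ∈ Subgroup.center W := by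
  apply h.z_mem _ (inv_center E)
  haveI : Fact (Nat.Prime 2) := ⟨Nat.prime_two⟩
  haveI : Nontrivial W := ⟨⟨z, 1, h.z_ne_one⟩⟩
  have := h.two.center_nontrivial
  exact (Subgroup.nontrivial_iff_ne_bot _).mp this

theorem Z_central (h : Cfg W E z) {x : W} (hx : x ∈ Subgroup.zpowers z) (y : W) :
    x * y = y * x := by
  have hz := Subgroup.mem_center_iff.mp h.z_central
  rcases h.mem_Z.mp hx with rfl | rfl
  · rw [one_mul, mul_one]
  · exact (hz y).symm

theorem orderOf_eq_three (h : Cfg W E z) {e : MulAut W} (he : e ∈ E) (he1 : e ≠ 1) :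
    orderOf e = 3 := by
  have h1 : orderOf (⟨e, he⟩ : E) ∣ 9 := by
    rw [← h.card]
    exact orderOf_dvd_natCard _
  have h2 : orderOf (⟨e, he⟩ : E) = orderOf e := Subgroup.orderOf_mk e he
  rw [h2] at h1
  have h3 : orderOf e ≠ 1 := by
    intro h0
    exact he1 (orderOf_eq_one_iff.mp h0)
  have h4 : orderOf e ≠ 9 := by
    intro h0
    apply h.ncyc
    haveI : Finite E := Nat.finite_of_card_ne_zero (by rw [h.card]; norm_num)
    apply isCyclic_of_orderOf_eq_card ⟨e, he⟩
    rw [h2, h0, h.card]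
  have h5 : orderOf e ≤ 9 := Nat.le_of_dvd (by norm_num) h1
  generalize orderOf e = n at *
  interval_cases n <;> omega

theorem pow_three (h : Cfg W E z) {e : MulAut W} (he : e ∈ E) (x : W) : e (e (e x)) = x := by
  by_cases he1 : e = 1
  · rw [he1]; rfl
  · have h1 : e ^ 3 = 1 := by
      rw [← h.orderOf_eq_three he he1]
      exact pow_orderOf_eq_one e
    have h2 : (e ^ 3) x = x := by rw [h1]; rfl
    rw [pow_succ, pow_succ, pow_one] at h2
    exact h2

theorem card_zpowers (h : Cfg W E z) {e : MulAut W} (he : e ∈ E) (he1 : e ≠ 1) :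
    Nat.card (Subgroup.zpowers e) = 3 := by
  rw [Nat.card_zpowers, h.orderOf_eq_three he he1]

theorem zpowers_le (_h : Cfg W E z) {e : MulAut W} (he : e ∈ E) : Subgroup.zpowers e ≤ E := by
  rw [Subgroup.zpowers_le]
  exact he

/-- two independent elements generate `E` -/
theorem gen2 (h : Cfg W E z) {e e' : MulAut W} (he : e ∈ E) (he1 : e ≠ 1) (he' : e' ∈ E)
    (hne : e' ∉ Subgroup.zpowers e) : Subgroup.zpowers e ⊔ Subgroup.zpowers e' = E := by
  haveI : Finite E := Nat.finite_of_card_ne_zero (by rw [h.card]; norm_num)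
  have hle : Subgroup.zpowers e ⊔ Subgroup.zpowers e' ≤ E :=
    sup_le (h.zpowers_le he) (h.zpowers_le he')
  apply Subgroup.eq_of_le_of_card_ge hle
  have h1 : Nat.card (Subgroup.zpowers e ⊔ Subgroup.zpowers e' : Subgroup (MulAut W)) ∣ 9 := by
    rw [← h.card]
    exact Subgroup.card_dvd_of_le hle
  have h2 : 3 ∣ Nat.card (Subgroup.zpowers e ⊔ Subgroup.zpowers e' : Subgroup (MulAut W)) := by
    rw [← h.card_zpowers he he1]
    exact Subgroup.card_dvd_of_le le_sup_left
  have h3 : Nat.card (Subgroup.zpowers e ⊔ Subgroup.zpowers e' : Subgroup (MulAut W)) ≠ 3 := by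
    intro h0
    apply hne
    have h4 : Subgroup.zpowers e = Subgroup.zpowers e ⊔ Subgroup.zpowers e' := by
      haveI : Finite (Subgroup.zpowers e ⊔ Subgroup.zpowers e' : Subgroup (MulAut W)) :=
        Nat.finite_of_card_ne_zero (by rw [h0]; norm_num)
      apply Subgroup.eq_of_le_of_card_ge le_sup_left
      rw [h0, h.card_zpowers he he1]
    rw [h4]
    exact Subgroup.mem_sup_right (Subgroup.mem_zpowers e')
  rw [h.card]
  have h5 := Nat.le_of_dvd (by norm_num) h1
  generalize Nat.card (Subgroup.zpowers e ⊔ Subgroup.zpowers e' : Subgroup (MulAut W)) = n at *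
  interval_cases n <;> omega

/-- stabilizer of a subgroup, as a subgroup of the automorphism group -/
def stabSub (R : Subgroup W) : Subgroup (MulAut W) where
  carrier := {g | ∀ x, g x ∈ R ↔ x ∈ R}
  one_mem' := fun _ => Iff.rfl
  mul_mem' := by
    intro a b ha hb x
    rw [MulAut.mul_apply, ha, hb]
  inv_mem' := by
    intro a ha x
    have := ha (a⁻¹ x)
    rw [MulAut.apply_inv_self] at this
    exact this.symm

theorem mem_stabSub_of_forall (h : Cfg W E z) {e : MulAut W} (he : e ∈ E) (R : Subgroup W)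
    (h1 : ∀ x ∈ R, e x ∈ R) : e ∈ stabSub R := by
  intro x
  constructor
  · intro hx
    have h2 := h1 _ (h1 _ hx)
    rw [h.pow_three he] at h2
    exact h2
  · exact h1 x

/-- invariance under two independent elements gives invariance under `E` -/
theorem inv_of_gen (h : Cfg W E z) {e e' : MulAut W} (he : e ∈ E) (he1 : e ≠ 1) (he' : e' ∈ E)
    (hne : e' ∉ Subgroup.zpowers e) (R : Subgroup W) (h1 : ∀ x ∈ R, e x ∈ R)
    (h2 : ∀ x ∈ R, e' x ∈ R) : Inv E R := by
  have hle : E ≤ stabSub R := by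
    rw [← h.gen2 he he1 he' hne]
    apply sup_le
    · rw [Subgroup.zpowers_le]; exact h.mem_stabSub_of_forall he R h1
    · rw [Subgroup.zpowers_le]; exact h.mem_stabSub_of_forall he' R h2
  intro g hg x hx
  exact (hle hg x).mpr hx

/-- fixed points of two independent elements -/
theorem fix_inf_fix (h : Cfg W E z) {e e' : MulAut W} (he : e ∈ E) (he1 : e ≠ 1) (he' : e' ∈ E)
    (hne : e' ∉ Subgroup.zpowers e) : fix e ⊓ fix e' ≤ Subgroup.zpowers z := by
  intro x hx
  rw [← h.fixAll_eq]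
  have hle : E ≤ MulAction.stabilizer (MulAut W) x := by
    rw [← h.gen2 he he1 he' hne]
    apply sup_le
    · rw [Subgroup.zpowers_le]; exact hx.1
    · rw [Subgroup.zpowers_le]; exact hx.2
  intro g hg
  exact hle hg

theorem card_fix (h : Cfg W E z) {e : MulAut W} (he : e ∈ E) (he1 : e ≠ 1)
    (hne : fix e ≠ Subgroup.zpowers z) : Nat.card (fix e) = 8 := by
  rcases h.dich e he he1 with h1 | h1
  · exact absurd h1 hne
  · exact h1.1

theorem nonab (h : Cfg W E z) {e : MulAut W} (he : e ∈ E) (he1 : e ≠ 1)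
    (hne : fix e ≠ Subgroup.zpowers z) : ∃ x ∈ fix e, ∃ y ∈ fix e, x * y ≠ y * x := by
  rcases h.dich e he he1 with h1 | h1
  · exact absurd h1 hne
  · exact h1.2

/-- an invariant subgroup of a fixed-point subgroup, not inside `Z`, is everything -/
theorem min_inv (h : Cfg W E z) {e : MulAut W} (he : e ∈ E) (he1 : e ≠ 1) (R : Subgroup W)
    (hR : Inv E R) (hRle : R ≤ fix e) (hRZ : ¬ R ≤ Subgroup.zpowers z) : R = fix e := by
  have hne : fix e ≠ Subgroup.zpowers z := by
    intro h0
    rw [h0] at hRle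
    exact hRZ hRle
  have h8 := h.card_fix he he1 hne
  have hRne : R ≠ ⊥ := by
    intro h0
    apply hRZ
    rw [h0]
    exact bot_le
  have hZR : Subgroup.zpowers z ≤ R := h.Z_le R hR hRne
  have hmod := card_modEq_fixAll E h.three hR (by rw [h.fixAll_eq]; exact hZR)
  rw [h.fixAll_eq, h.card_Z] at hmod
  have hdvd : Nat.card R ∣ 8 := by
    rw [← h8]
    exact Subgroup.card_dvd_of_le hRle
  have hne2 : Nat.card R ≠ 2 := by
    intro h2
    apply hRZ
    have : Subgroup.zpowers z = R := by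
      haveI : Finite R := inferInstance
      apply Subgroup.eq_of_le_of_card_ge hZR
      rw [h2, h.card_Z]
    rw [← this]
  apply Subgroup.eq_of_le_of_card_ge hRle
  rw [h8]
  have hle8 := Nat.le_of_dvd (by norm_num) hdvd
  unfold Nat.ModEq at hmod
  generalize Nat.card R = n at *
  interval_cases n <;> omega

end Cfg

end Cfsg.Agent.H9QA
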