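import Mathlib
import Cfsg.Agent.Lib.Helper9.Q8Act5
import Cfsg.Agent.Lib.Lead.CoprimeAction3

set_option autoImplicit false

/-!
# Phase 2: fixed-point subgroups of independent elements commute
-/

namespace Cfsg.Agent.H9QA

open scoped commutatorElement
open Cfsg.Agent.Lib.Lead (normalizer_inf_le_normalizer_commutator commutator_ne_of_pgroups)

variable {W : Type*} [Group W] [Finite W] {E : Subgroup (MulAut W)} {z : W}

/-- the commuting property for an invariant subgroup -/
def CommProp (E : Subgroup (MulAut W)) (X : Subgroup W) : Prop :=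
  ∀ e ∈ E, e ≠ 1 → ∀ e' ∈ E, e' ∉ Subgroup.zpowers e →
    ∀ x ∈ X ⊓ fix e, ∀ y ∈ X ⊓ fix e', x * y = y * x

theorem zpowers_eq (h : Cfg W E z) {g e : MulAut W} (hg : g ∈ E) (hg1 : g ≠ 1) (he1 : e ≠ 1)
    (heg : e ∈ Subgroup.zpowers g) : Subgroup.zpowers e = Subgroup.zpowers g := by
  have he : e ∈ E := h.zpowers_le hg heg
  haveI : Finite (Subgroup.zpowers g) :=
    Nat.finite_of_card_ne_zero (by rw [h.card_zpowers hg hg1]; norm_num)
  apply Subgroup.eq_of_le_of_card_ge
  · rw [Subgroup.zpowers_le]; exact heg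
  · rw [h.card_zpowers hg hg1, h.card_zpowers he he1]

theorem fix_le_of_mem_zpowers {g e : MulAut W} (heg : e ∈ Subgroup.zpowers g) :
    fix g ≤ fix e := by
  intro x hx
  have hle : Subgroup.zpowers g ≤ MulAction.stabilizer (MulAut W) x := by
    rw [Subgroup.zpowers_le]; exact hx
  exact hle heg

theorem fix_eq_of_mem_zpowers (h : Cfg W E z) {g e : MulAut W} (hg : g ∈ E) (hg1 : g ≠ 1)
    (he1 : e ≠ 1) (heg : e ∈ Subgroup.zpowers g) : fix e = fix g := by
  apply le_antisymm
  · apply fix_le_of_mem_zpowers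
    rw [zpowers_eq h hg hg1 he1 heg]
    exact Subgroup.mem_zpowers g
  · exact fix_le_of_mem_zpowers heg

/-- a quaternion fixed-point subgroup `Q = fix g` with `⁅Q, X⁆ ≤ Z` commutes with the fixed points
in `X` of any element independent of `g` -/
theorem claim (h : Cfg W E z) {g : MulAut W} (hg : g ∈ E) (hg1 : g ≠ 1)
    (hQ : fix g ≠ Subgroup.zpowers z) (X : Subgroup W)
    (hQX : ∀ q ∈ fix g, ∀ x ∈ X, ⁅q, x⁆ ∈ Subgroup.zpowers z) {g' : MulAut W} (hg' : g' ∈ E)
    (hne : g' ∉ Subgroup.zpowers g) (y : W) (hyX : y ∈ X) (hy : g' y = y) :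
    ∀ q ∈ fix g, q * y = y * q := by
  classical
  have hQinv : Inv E (fix g) := inv_fix h.comm hg
  have hRinv : Inv E (fix g ⊓ Subgroup.centralizer {y}) := by
    apply h.inv_of_gen hg hg1 hg' hne
    · intro x hx
      have h0 : g x = x := hx.1
      rw [h0]; exact hx
    · intro x hx
      refine Subgroup.mem_inf.mpr ⟨hQinv g' hg' x hx.1, ?_⟩
      rw [Subgroup.mem_centralizer_iff]
      intro w hw
      rw [Set.mem_singleton_iff] at hw
      subst hw
      have h1 : w * x = x * w := Subgroup.mem_centralizer_iff.mp hx.2 w (Set.mem_singleton w)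
      have h2 := congrArg g' h1
      rw [map_mul, map_mul, hy] at h2
      exact h2
  by_cases hRZ : fix g ⊓ Subgroup.centralizer {y} ≤ Subgroup.zpowers z
  · exfalso
    obtain ⟨q1, hq1, q2, hq2, hq12⟩ := h.nonab hg hg1 hQ
    have hkey : ∀ q ∈ fix g, q ∉ Subgroup.zpowers z → ⁅q, y⁆ = z := by
      intro q hq hqZ
      rcases h.mem_Z.mp (hQX q hq y hyX) with h0 | h0
      · exfalso
        apply hqZ
        apply hRZ
        refine Subgroup.mem_inf.mpr ⟨hq, ?_⟩
        rw [Subgroup.mem_centralizer_iff]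
        intro w hw
        rw [Set.mem_singleton_iff] at hw
        subst hw
        exact (commutatorElement_eq_one_iff_mul_comm.mp h0).symm
      · exact h0
    have hq1Z : q1 ∉ Subgroup.zpowers z := fun hh => hq12 (h.Z_central hh q2)
    have hq2Z : q2 ∉ Subgroup.zpowers z := fun hh => hq12 (h.Z_central hh q1).symm
    have hq12Z : q1 * q2 ∉ Subgroup.zpowers z := by
      intro hh
      apply hq12
      have h3 := h.Z_central hh q1
      have h4 : q1 * (q2 * q1) = q1 * (q1 * q2) := by rw [← mul_assoc]; exact h3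
      exact (mul_left_cancel h4).symm
    have e1 := hkey q1 hq1 hq1Z
    have e2 := hkey q2 hq2 hq2Z
    have e3 := hkey (q1 * q2) ((fix g).mul_mem hq1 hq2) hq12Z
    have hid : ⁅q1 * q2, y⁆ = q1 * ⁅q2, y⁆ * q1⁻¹ * ⁅q1, y⁆ := by
      rw [commutatorElement_def, commutatorElement_def, commutatorElement_def]; group
    rw [e1, e2, e3] at hid
    have hzc : q1 * z = z * q1 := (h.Z_central (Subgroup.mem_zpowers z) q1).symm
    rw [hzc, mul_assoc z, mul_inv_cancel, mul_one, h.z_sq] at hid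
    exact h.z_ne_one hid
  · have hRQ := h.min_inv hg hg1 _ hRinv inf_le_left hRZ
    intro q hq
    rw [← hRQ] at hq
    exact (Subgroup.mem_centralizer_iff.mp hq.2 y (Set.mem_singleton y)).symm

theorem commProp_step (h : Cfg W E z) (X : Subgroup W) (hX : Inv E X)
    (IH : ∀ Y : Subgroup W, Inv E Y → Y < X → CommProp E Y) : CommProp E X := by
  classical
  intro e he he1 e' he' hne x hx y hy
  have he'1 : e' ≠ 1 := by
    rintro rfl
    exact hne (Subgroup.one_mem _)
  by_cases h1 : X ⊓ fix e ≤ Subgroup.zpowers z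
  · exact h.Z_central (h1 hx) y
  by_cases h2 : X ⊓ fix e' ≤ Subgroup.zpowers z
  · exact (h.Z_central (h2 hy) x).symm
  have hinvE := inv_fix h.comm he
  have hinvE' := inv_fix h.comm he'
  have hXZ : ¬ X ≤ Subgroup.zpowers z := fun hh => h1 (inf_le_left.trans hh)
  -- a minimal invariant normal subgroup of `X` not inside `Z`
  let 𝒮 : Set (Subgroup W) := {M | Inv E M ∧ M ≤ X ∧ X ≤ Subgroup.normalizer (M : Set W) ∧
    ¬ M ≤ Subgroup.zpowers z}
  have hXS : X ∈ 𝒮 := ⟨hX, le_rfl, Subgroup.le_normalizer, hXZ⟩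
  obtain ⟨M, hMS, hMmin⟩ :=
    WellFounded.has_min (measure (fun M : Subgroup W => Nat.card M)).wf 𝒮 ⟨X, hXS⟩
  obtain ⟨hMinv, hMX, hXM, hMZ⟩ := hMS
  have hcomm : ⁅M, X⁆ ≤ Subgroup.zpowers z := by
    by_contra hL
    have hLM : ⁅M, X⁆ ≤ M := by
      rw [Subgroup.commutator_le]
      intro m hm x hx
      rw [commutatorElement_def]
      have h3 : x * m⁻¹ * x⁻¹ ∈ M :=
        (Subgroup.mem_normalizer_iff.mp (hXM hx) m⁻¹).mp (M.inv_mem hm)
      have h4 : m * x * m⁻¹ * x⁻¹ = m * (x * m⁻¹ * x⁻¹) := by group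
      rw [h4]
      exact M.mul_mem hm h3
    have hLS : ⁅M, X⁆ ∈ 𝒮 := by
      refine ⟨hMinv.commutator hX, hLM.trans hMX, ?_, hL⟩
      exact (le_inf hXM Subgroup.le_normalizer).trans (normalizer_inf_le_normalizer_commutator M X)
    have hcard := hMmin _ hLS
    have hLeq : ⁅M, X⁆ = M := Subgroup.eq_of_le_of_card_ge hLM (not_lt.mp hcard)
    have hMne : M ≠ ⊥ := by
      intro h0
      apply hMZ
      rw [h0]
      exact bot_le
    haveI : Fact (Nat.Prime 2) := ⟨Nat.prime_two⟩
    exact commutator_ne_of_pgroups 2 M X (h.two.to_subgroup M) (h.two.to_subgroup X) hXM hMne hLeq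
  have hexg : ∃ g ∈ E, g ≠ 1 ∧ ¬ M ⊓ fix g ≤ Subgroup.zpowers z := by
    by_contra hcon
    push Not at hcon
    apply hMZ
    intro m hm
    exact h.ind M hMinv (C := fun x => x ∈ Subgroup.zpowers z) (Subgroup.one_mem _)
      (fun x y hx hy => Subgroup.mul_mem _ hx hy)
      (fun g hg hg1 x hxM hgx => hcon g hg hg1 ⟨hxM, hgx⟩) m hm
  obtain ⟨g, hg, hg1, hgM⟩ := hexg
  have hinvG := inv_fix h.comm hg
  have hMg : M ⊓ fix g = fix g := h.min_inv hg hg1 _ (hMinv.inf hinvG) inf_le_right hgM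
  have hQM : fix g ≤ M := by
    rw [← hMg]; exact inf_le_left
  have hQX : fix g ≤ X := hQM.trans hMX
  have hQZ : fix g ≠ Subgroup.zpowers z := by
    intro h0
    apply hgM
    rw [hMg, h0]
  have hQcomm : ∀ q ∈ fix g, ∀ x ∈ X, ⁅q, x⁆ ∈ Subgroup.zpowers z := by
    intro q hq x hx
    apply hcomm
    exact Subgroup.commutator_mem_commutator (hQM hq) hx
  have hYinv : Inv E (X ⊓ Subgroup.centralizer (fix g : Set W)) := hX.inf hinvG.centralizer
  have hYX : X ⊓ Subgroup.centralizer (fix g : Set W) < X := by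
    refine lt_of_le_of_ne inf_le_left ?_
    intro h0
    obtain ⟨q1, hq1, q2, hq2, hq12⟩ := h.nonab hg hg1 hQZ
    have h3 : q1 ∈ X ⊓ Subgroup.centralizer (fix g : Set W) := by
      rw [h0]; exact hQX hq1
    exact hq12 (Subgroup.mem_centralizer_iff.mp h3.2 q2 hq2).symm
  have hIH := IH _ hYinv hYX
  by_cases heg : e ∈ Subgroup.zpowers g
  · have hfe : fix e = fix g := fix_eq_of_mem_zpowers h hg hg1 he1 heg
    have hne' : e' ∉ Subgroup.zpowers g := by
      rw [← zpowers_eq h hg hg1 he1 heg]; exact hne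
    exact claim h hg hg1 hQZ X hQcomm he' hne' y hy.1 hy.2 x (by rw [← hfe]; exact hx.2)
  · by_cases heg' : e' ∈ Subgroup.zpowers g
    · have hfe' : fix e' = fix g := fix_eq_of_mem_zpowers h hg hg1 he'1 heg'
      exact (claim h hg hg1 hQZ X hQcomm he heg x hx.1 hx.2 y (by rw [← hfe']; exact hy.2)).symm
    · have hxY : x ∈ (X ⊓ Subgroup.centralizer (fix g : Set W)) ⊓ fix e := by
        refine Subgroup.mem_inf.mpr ⟨Subgroup.mem_inf.mpr ⟨hx.1, ?_⟩, hx.2⟩
        rw [Subgroup.mem_centralizer_iff]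
        exact claim h hg hg1 hQZ X hQcomm he heg x hx.1 hx.2
      have hyY : y ∈ (X ⊓ Subgroup.centralizer (fix g : Set W)) ⊓ fix e' := by
        refine Subgroup.mem_inf.mpr ⟨Subgroup.mem_inf.mpr ⟨hy.1, ?_⟩, hy.2⟩
        rw [Subgroup.mem_centralizer_iff]
        exact claim h hg hg1 hQZ X hQcomm he' heg' y hy.1 hy.2
      exact hIH e he he1 e' he' hne x hxY y hyY

theorem commProp (h : Cfg W E z) (X : Subgroup W) (hX : Inv E X) : CommProp E X := by
  revert hX
  refine WellFoundedLT.induction (motive := fun X => Inv E X → CommProp E X) X ?_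
  intro X ih hX
  exact commProp_step h X hX (fun Y hY hYX => ih Y hYX hY)

end Cfsg.Agent.H9QA
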