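import Mathlib
import Cfsg.Prelude
import Cfsg.Agent.Lib.Helper9.Q8Act6
import Cfsg.Agent.Lib.Helper6.Frattini
import Cfsg.Agent.Lib.Lead.Frattini

set_option autoImplicit false

/-!
# Phase 2: the group `W` is extraspecial
-/

namespace Cfsg.Agent.H9QA

open scoped commutatorElement

variable {W : Type*} [Group W] [Finite W] {E : Subgroup (MulAut W)} {z : W}

theorem center_eq (h : Cfg W E z) : Subgroup.center W = Subgroup.zpowers z := by
  apply le_antisymm
  · intro x hx
    refine h.ind (Subgroup.center W) (inv_center E) (C := fun x => x ∈ Subgroup.zpowers z)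
      (Subgroup.one_mem _) (fun x y hx hy => Subgroup.mul_mem _ hx hy) ?_ x hx
    intro e he he1 x hxc hex
    by_contra hxZ
    have hRZ : ¬ Subgroup.center W ⊓ fix e ≤ Subgroup.zpowers z := fun hle => hxZ (hle ⟨hxc, hex⟩)
    have hR := h.min_inv he he1 _ ((inv_center E).inf (inv_fix h.comm he)) inf_le_right hRZ
    have hne : fix e ≠ Subgroup.zpowers z := by
      intro h0
      apply hRZ
      rw [h0]
      exact inf_le_right
    obtain ⟨q1, hq1, q2, hq2, hq12⟩ := h.nonab he he1 hne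
    rw [← hR] at hq1
    exact hq12 ((Subgroup.mem_center_iff.mp hq1.1 q2).symm)
  · rw [Subgroup.zpowers_le]
    exact h.z_central

theorem comm_mem_Z (h : Cfg W E z) (x y : W) : ⁅x, y⁆ ∈ Subgroup.zpowers z := by
  have hC : ∀ w ∈ Subgroup.zpowers z, ∀ g : W, w * g = g * w := fun w hw g => h.Z_central hw g
  have key : ∀ e ∈ E, e ≠ 1 → ∀ x ∈ fix e, ∀ y ∈ (⊤ : Subgroup W), ⁅x, y⁆ ∈ Subgroup.zpowers z := by
    intro e he he1 x hx
    apply h.ind ⊤ (inv_top E) (C := fun y => ⁅x, y⁆ ∈ Subgroup.zpowers z)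
    · rw [commutatorElement_one_right]; exact Subgroup.one_mem _
    · intro y y' hy hy'
      have hid : ⁅x, y * y'⁆ = ⁅x, y⁆ * (y * ⁅x, y'⁆ * y⁻¹) := by
        rw [commutatorElement_def, commutatorElement_def, commutatorElement_def]; group
      rw [hid, ← hC _ hy' y, mul_inv_cancel_right]
      exact Subgroup.mul_mem _ hy hy'
    · intro e' he' he'1 y _ hy
      by_cases hee : e' ∈ Subgroup.zpowers e
      · have hfe : fix e' = fix e := fix_eq_of_mem_zpowers h he he1 he'1 hee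
        have hy' : y ∈ fix e := by rw [← hfe]; exact hy
        exact h.comm_mem e he he1 x hx y hy'
      · have hc := commProp h ⊤ (inv_top E) e he he1 e' he' hee x ⟨Subgroup.mem_top x, hx⟩ y
          ⟨Subgroup.mem_top y, hy⟩
        rw [commutatorElement_eq_one_iff_mul_comm.mpr hc]
        exact Subgroup.one_mem _
  have key2 : ∀ x ∈ (⊤ : Subgroup W), ∀ y : W, ⁅x, y⁆ ∈ Subgroup.zpowers z := by
    apply h.ind ⊤ (inv_top E) (C := fun x => ∀ y : W, ⁅x, y⁆ ∈ Subgroup.zpowers z)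
    · intro y
      rw [commutatorElement_one_left]; exact Subgroup.one_mem _
    · intro x x' hx hx' y
      have hid : ⁅x * x', y⁆ = x * ⁅x', y⁆ * x⁻¹ * ⁅x, y⁆ := by
        rw [commutatorElement_def, commutatorElement_def, commutatorElement_def]; group
      rw [hid, ← hC _ (hx' y) x, mul_inv_cancel_right]
      exact Subgroup.mul_mem _ (hx' y) (hx y)
    · intro e he he1 x _ hx y
      exact key e he he1 x hx y (Subgroup.mem_top y)
  exact key2 x (Subgroup.mem_top x) y

theorem sq_mem_Z (h : Cfg W E z) (x : W) : x ^ 2 ∈ Subgroup.zpowers z := by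
  have hC : ∀ w ∈ Subgroup.zpowers z, ∀ g : W, w * g = g * w := fun w hw g => h.Z_central hw g
  refine h.ind ⊤ (inv_top E) (C := fun x => x ^ 2 ∈ Subgroup.zpowers z) ?_ ?_ ?_ x
    (Subgroup.mem_top x)
  · rw [one_pow]; exact Subgroup.one_mem _
  · intro x y hx hy
    have hc := comm_mem_Z h y⁻¹ x⁻¹
    have hyx : y * x = x * y * ⁅y⁻¹, x⁻¹⁆ := by rw [commutatorElement_def]; group
    have hcy : ⁅y⁻¹, x⁻¹⁆ * y = y * ⁅y⁻¹, x⁻¹⁆ := hC _ hc y
    have hid : (x * y) ^ 2 = x ^ 2 * y ^ 2 * ⁅y⁻¹, x⁻¹⁆ := by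
      calc (x * y) ^ 2 = x * (y * x) * y := by rw [pow_two]; group
        _ = x * (x * y * ⁅y⁻¹, x⁻¹⁆) * y := by rw [← hyx]
        _ = x * x * y * (⁅y⁻¹, x⁻¹⁆ * y) := by simp only [mul_assoc]
        _ = x * x * y * (y * ⁅y⁻¹, x⁻¹⁆) := by rw [hcy]
        _ = x ^ 2 * y ^ 2 * ⁅y⁻¹, x⁻¹⁆ := by rw [pow_two, pow_two]; simp only [mul_assoc]
    rw [hid]
    exact Subgroup.mul_mem _ (Subgroup.mul_mem _ hx hy) hc
  · intro e he he1 x _ hx
    exact h.sq_mem e he he1 x hx

theorem exists_q8 (h : Cfg W E z) : ∃ e ∈ E, e ≠ 1 ∧ fix e ≠ Subgroup.zpowers z := by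
  by_contra hcon
  push Not at hcon
  have hall : ∀ x ∈ (⊤ : Subgroup W), x ∈ Subgroup.zpowers z := by
    apply h.ind ⊤ (inv_top E) (C := fun x => x ∈ Subgroup.zpowers z) (Subgroup.one_mem _)
      (fun x y hx hy => Subgroup.mul_mem _ hx hy)
    intro e he he1 x _ hx
    rw [← hcon e he he1]
    exact hx
  have hbot : E = ⊥ := by
    rw [Subgroup.eq_bot_iff_forall]
    intro g hg
    ext x
    have hx := hall x (Subgroup.mem_top x)
    rw [← h.fixAll_eq] at hx
    exact hx g hg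
  have := h.card
  rw [hbot, Subgroup.card_bot] at this
  omega

theorem commutator_eq (h : Cfg W E z) : commutator W = Subgroup.zpowers z := by
  apply le_antisymm
  · rw [commutator_def, Subgroup.commutator_le]
    intro x _ y _
    exact comm_mem_Z h x y
  · rw [Subgroup.zpowers_le]
    obtain ⟨e, he, he1, hne⟩ := exists_q8 h
    obtain ⟨q1, _, q2, _, hq12⟩ := h.nonab he he1 hne
    have h1 : ⁅q1, q2⁆ ∈ commutator W := by
      rw [commutator_def]
      exact Subgroup.commutator_mem_commutator (Subgroup.mem_top _) (Subgroup.mem_top _)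
    rcases h.mem_Z.mp (comm_mem_Z h q1 q2) with h0 | h0
    · exact absurd (commutatorElement_eq_one_iff_mul_comm.mp h0) hq12
    · rw [← h0]; exact h1

theorem frattini_eq (h : Cfg W E z) : frattini W = Subgroup.zpowers z := by
  haveI : Fact (Nat.Prime 2) := ⟨Nat.prime_two⟩
  apply le_antisymm
  · exact Cfsg.Agent.Lib.Helper6.frattini_le_of_elemAb (p := 2) _ (comm_mem_Z h) (sq_mem_Z h)
  · rw [← commutator_eq h]
    exact Cfsg.Agent.Lib.Lead.commutator_le_frattini_of_isPGroup h.two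

theorem isExtraspecial (h : Cfg W E z) : Cfsg.IsExtraspecial 2 W := by
  refine ⟨⟨h.two, ?_, ?_⟩, ?_⟩
  · rw [frattini_eq h, center_eq h]
  · rw [commutator_eq h, center_eq h]
  · rw [center_eq h, h.card_Z]

theorem fixedSet_eq (h : Cfg W E z) :
    {x : W | ∀ e ∈ E, e x = x} = (Subgroup.center W : Set W) := by
  rw [center_eq h, ← h.fixAll_eq]
  rfl

end Cfsg.Agent.H9QA
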