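import Mathlib
import Cfsg.Prelude
import Cfsg.Agent.Lib.Helper9.Q8Act7

set_option autoImplicit false

/-!
# Phase 2: enumeration of the four cyclic subgroups of `E`
-/

namespace Cfsg.Agent.H9QA

open scoped commutatorElement

variable {W : Type*} [Group W]

/-- the products `a ^ i * b ^ j` of two commuting elements -/
def gridSub (a b : MulAut W) (hab : Commute a b) : Subgroup (MulAut W) where
  carrier := {e | ∃ i j : ℤ, e = a ^ i * b ^ j}
  one_mem' := ⟨0, 0, by simp⟩
  mul_mem' := by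
    rintro _ _ ⟨i, j, rfl⟩ ⟨k, l, rfl⟩
    refine ⟨i + k, j + l, ?_⟩
    rw [zpow_add, zpow_add]
    have h1 : Commute (b ^ j) (a ^ k) := (hab.zpow_zpow k j).symm
    calc a ^ i * b ^ j * (a ^ k * b ^ l) = a ^ i * (b ^ j * a ^ k) * b ^ l := by
          simp only [mul_assoc]
      _ = a ^ i * (a ^ k * b ^ j) * b ^ l := by rw [h1.eq]
      _ = a ^ i * a ^ k * (b ^ j * b ^ l) := by simp only [mul_assoc]
  inv_mem' := by
    rintro _ ⟨i, j, rfl⟩
    refine ⟨-i, -j, ?_⟩
    rw [mul_inv_rev, zpow_neg, zpow_neg]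
    exact ((hab.zpow_zpow i j).inv_inv).symm.eq

variable [Finite W] {E : Subgroup (MulAut W)} {z : W}

theorem exists_ab (h : Cfg W E z) :
    ∃ a ∈ E, a ≠ 1 ∧ ∃ b ∈ E, b ∉ Subgroup.zpowers a := by
  have h1 : ∃ a ∈ E, a ≠ 1 := by
    by_contra hcon
    push Not at hcon
    have hbot : E = ⊥ := (Subgroup.eq_bot_iff_forall E).mpr hcon
    have := h.card
    rw [hbot, Subgroup.card_bot] at this
    omega
  obtain ⟨a, ha, ha1⟩ := h1
  refine ⟨a, ha, ha1, ?_⟩
  by_contra hcon
  push Not at hcon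
  have hle : E ≤ Subgroup.zpowers a := hcon
  haveI : Finite (Subgroup.zpowers a) :=
    Nat.finite_of_card_ne_zero (by rw [h.card_zpowers ha ha1]; norm_num)
  have := Subgroup.card_le_of_le hle
  rw [h.card, h.card_zpowers ha ha1] at this
  omega

theorem grid (h : Cfg W E z) {a b : MulAut W} (ha : a ∈ E) (ha1 : a ≠ 1) (hb : b ∈ E)
    (hne : b ∉ Subgroup.zpowers a) {e : MulAut W} (he : e ∈ E) :
    ∃ i j : ℕ, i < 3 ∧ j < 3 ∧ e = a ^ i * b ^ j := by
  have hb1 : b ≠ 1 := by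
    rintro rfl
    exact hne (Subgroup.one_mem _)
  have hcomm : Commute a b := h.comm a ha b hb
  have hle : E ≤ gridSub a b hcomm := by
    rw [← h.gen2 ha ha1 hb hne]
    apply sup_le
    · rw [Subgroup.zpowers_le]; exact ⟨1, 0, by simp⟩
    · rw [Subgroup.zpowers_le]; exact ⟨0, 1, by simp⟩
  obtain ⟨i, j, rfl⟩ := hle he
  have ha3 := h.orderOf_eq_three ha ha1
  have hb3 := h.orderOf_eq_three hb hb1
  refine ⟨(i % 3).toNat, (j % 3).toNat, by omega, by omega, ?_⟩
  rw [← zpow_natCast, ← zpow_natCast, Int.toNat_of_nonneg (by omega),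
    Int.toNat_of_nonneg (by omega)]
  have e1 := zpow_mod_orderOf a i
  have e2 := zpow_mod_orderOf b j
  rw [ha3] at e1
  rw [hb3] at e2
  push_cast at e1 e2
  rw [e1, e2]

theorem pow_three_eq_one (h : Cfg W E z) {b : MulAut W} (hb : b ∈ E) : b ^ 3 = 1 := by
  by_cases hb1 : b = 1
  · rw [hb1, one_pow]
  · rw [← h.orderOf_eq_three hb hb1]
    exact pow_orderOf_eq_one b

theorem cover (h : Cfg W E z) {a b : MulAut W} (ha : a ∈ E) (ha1 : a ≠ 1) (hb : b ∈ E)
    (hne : b ∉ Subgroup.zpowers a) {e : MulAut W} (he : e ∈ E) (he1 : e ≠ 1) :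
    e ∈ Subgroup.zpowers a ∨ e ∈ Subgroup.zpowers b ∨ e ∈ Subgroup.zpowers (a * b) ∨
      e ∈ Subgroup.zpowers (a * b⁻¹) := by
  have hcomm : Commute a b := h.comm a ha b hb
  have hb3 : b ^ 3 = 1 := pow_three_eq_one h hb
  have hb2 : b ^ 2 = b⁻¹ := by
    apply eq_inv_of_mul_eq_one_left
    rw [← pow_succ]
    exact hb3
  have hbi2 : (b⁻¹) ^ 2 = b := by
    rw [inv_pow, hb2, inv_inv]
  obtain ⟨i, j, hi, hj, rfl⟩ := grid h ha ha1 hb hne he
  interval_cases i <;> interval_cases j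
  · exfalso; apply he1; simp
  · right; left
    rw [pow_zero, one_mul, pow_one]
    exact Subgroup.mem_zpowers b
  · right; left
    rw [pow_zero, one_mul]
    exact Subgroup.pow_mem _ (Subgroup.mem_zpowers b) 2
  · left
    rw [pow_zero, mul_one, pow_one]
    exact Subgroup.mem_zpowers a
  · right; right; left
    rw [pow_one, pow_one]
    exact Subgroup.mem_zpowers _
  · right; right; right
    rw [pow_one, hb2]
    exact Subgroup.mem_zpowers _
  · left
    rw [pow_zero, mul_one]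
    exact Subgroup.pow_mem _ (Subgroup.mem_zpowers a) 2
  · right; right; right
    have h1 : a ^ 2 * b ^ 1 = (a * b⁻¹) ^ 2 := by
      rw [(hcomm.inv_right).mul_pow, hbi2, pow_one]
    rw [h1]
    exact Subgroup.pow_mem _ (Subgroup.mem_zpowers _) 2
  · right; right; left
    rw [← hcomm.mul_pow]
    exact Subgroup.pow_mem _ (Subgroup.mem_zpowers _) 2

/-- independence facts for the four generators -/
theorem indep (h : Cfg W E z) {a b : MulAut W} (ha : a ∈ E) (ha1 : a ≠ 1) (hb : b ∈ E)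
    (hne : b ∉ Subgroup.zpowers a) :
    (a * b ∈ E ∧ a * b ≠ 1 ∧ a * b⁻¹ ∈ E ∧ a * b⁻¹ ≠ 1 ∧ b ≠ 1) ∧
    a * b ∉ Subgroup.zpowers a ∧ a * b⁻¹ ∉ Subgroup.zpowers a ∧
    a * b ∉ Subgroup.zpowers b ∧ a * b⁻¹ ∉ Subgroup.zpowers b ∧
    a * b⁻¹ ∉ Subgroup.zpowers (a * b) := by
  have hb1 : b ≠ 1 := by
    rintro rfl
    exact hne (Subgroup.one_mem _)
  have hcomm : Commute a b := h.comm a ha b hb
  have hA := Subgroup.mem_zpowers a
  have hc1 : a * b ≠ 1 := by
    intro h0
    apply hne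
    have : b = a⁻¹ := eq_inv_of_mul_eq_one_right h0
    rw [this]
    exact Subgroup.inv_mem _ hA
  have hd1 : a * b⁻¹ ≠ 1 := by
    intro h0
    apply hne
    have : b⁻¹ = a⁻¹ := eq_inv_of_mul_eq_one_right h0
    rw [inv_inj] at this
    rw [this]
    exact hA
  have hcE : a * b ∈ E := E.mul_mem ha hb
  have hdE : a * b⁻¹ ∈ E := E.mul_mem ha (E.inv_mem hb)
  -- if `a ∈ zpowers b` then `b ∈ zpowers a`
  have hab' : a ∉ Subgroup.zpowers b := by
    intro h0
    apply hne
    rw [zpowers_eq h hb hb1 ha1 h0]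
    exact Subgroup.mem_zpowers b
  refine ⟨⟨hcE, hc1, hdE, hd1, hb1⟩, ?_, ?_, ?_, ?_, ?_⟩
  · intro h0
    apply hne
    have : b = a⁻¹ * (a * b) := by group
    rw [this]
    exact Subgroup.mul_mem _ (Subgroup.inv_mem _ hA) h0
  · intro h0
    apply hne
    have : b = (a⁻¹ * (a * b⁻¹))⁻¹ := by group
    rw [this]
    exact Subgroup.inv_mem _ (Subgroup.mul_mem _ (Subgroup.inv_mem _ hA) h0)
  · intro h0
    apply hab'
    have : a = (a * b) * b⁻¹ := by group
    rw [this]
    exact Subgroup.mul_mem _ h0 (Subgroup.inv_mem _ (Subgroup.mem_zpowers b))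
  · intro h0
    apply hab'
    have : a = (a * b⁻¹) * b := by group
    rw [this]
    exact Subgroup.mul_mem _ h0 (Subgroup.mem_zpowers b)
  · intro h0
    -- `a ^ 2 = (a b)(a b⁻¹) ∈ zpowers (a b)`, so `a` and then `b` lie in it
    have hC := Subgroup.mem_zpowers (a * b)
    have h2 : a ^ 2 ∈ Subgroup.zpowers (a * b) := by
      have : a ^ 2 = (a * b) * (a * b⁻¹) := by
        rw [pow_two]
        calc a * a = a * (b * a) * b⁻¹ := by rw [← hcomm.eq]; group
          _ = a * b * (a * b⁻¹) := by group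
      rw [this]
      exact Subgroup.mul_mem _ hC h0
    have ha3 : a ^ 3 = 1 := pow_three_eq_one h ha
    have h3 : a ∈ Subgroup.zpowers (a * b) := by
      have h5 : (a ^ 2) ^ 2 = a := by
        rw [← pow_mul]
        have : a ^ (2 * 2) = a ^ 3 * a := by rw [← pow_succ]
        rw [this, ha3, one_mul]
      have h6 := Subgroup.pow_mem _ h2 2
      rw [h5] at h6
      exact h6
    have h4 : b ∈ Subgroup.zpowers (a * b) := by
      have h5 : a⁻¹ * (a * b) = b := by group
      have h6 := Subgroup.mul_mem _ (Subgroup.inv_mem _ h3) hC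
      rw [h5] at h6
      exact h6
    apply hne
    rw [zpowers_eq h hcE hc1 ha1 h3]
    exact h4

end Cfsg.Agent.H9QA
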