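import Mathlib
import Cfsg.Prelude
import Cfsg.Agent.Lib.Helper9.Q8Act8
import Cfsg.Agent.Lib.Lead.CoprimeTools

set_option autoImplicit false

/-!
# Phase 2: the order of `W`, and the final theorem
-/

namespace Cfsg.Agent.H9QA

open scoped commutatorElement

variable {W : Type*} [Group W] [Finite W] {E : Subgroup (MulAut W)} {z : W}

theorem comm_sup {H K S : Subgroup W} (h1 : ∀ x ∈ H, ∀ y ∈ S, x * y = y * x)
    (h2 : ∀ x ∈ K, ∀ y ∈ S, x * y = y * x) : ∀ x ∈ H ⊔ K, ∀ y ∈ S, x * y = y * x := by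
  have hH : H ≤ Subgroup.centralizer (S : Set W) := by
    intro x hx
    rw [Subgroup.mem_centralizer_iff]
    intro y hy
    exact (h1 x hx y hy).symm
  have hK : K ≤ Subgroup.centralizer (S : Set W) := by
    intro x hx
    rw [Subgroup.mem_centralizer_iff]
    intro y hy
    exact (h2 x hx y hy).symm
  intro x hx y hy
  exact (Subgroup.mem_centralizer_iff.mp (sup_le hH hK hx) y hy).symm

theorem step_card (h : Cfg W E z) (P : Subgroup W) (hP : Inv E P)
    (hZP : Subgroup.zpowers z ≤ P) {d : MulAut W} (hd : d ∈ E) (hd1 : d ≠ 1)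
    (hcomm : ∀ x ∈ P, ∀ y ∈ fix d, x * y = y * x) :
    Nat.card (P ⊔ fix d : Subgroup W) * 2 = Nat.card P * Nat.card (fix d) := by
  have hnorm : P ≤ Subgroup.normalizer (fix d : Set W) := by
    intro x hx
    rw [Subgroup.mem_normalizer_iff]
    intro y
    constructor
    · intro hy
      have h1 : x * y * x⁻¹ = y := by rw [hcomm x hx y hy]; group
      rw [h1]; exact hy
    · intro hy
      have h1 := hcomm x hx _ hy
      have h2 : x * (x * y * x⁻¹) = x * y := by rw [h1]; group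
      have h3 := mul_left_cancel h2
      rw [← h3]; exact hy
  have hinf : P ⊓ fix d = Subgroup.zpowers z := by
    apply le_antisymm
    · by_contra hle
      have hR := h.min_inv hd hd1 _ (hP.inf (inv_fix h.comm hd)) inf_le_right hle
      have hne : fix d ≠ Subgroup.zpowers z := by
        intro h0
        apply hle
        rw [h0]
        exact inf_le_right
      obtain ⟨q1, hq1, q2, hq2, hq12⟩ := h.nonab hd hd1 hne
      have hq1P : q1 ∈ P := by
        rw [← hR] at hq1; exact hq1.1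
      exact hq12 (hcomm q1 hq1P q2 hq2)
    · exact le_inf hZP (h.Z_le_fix hd)
  have h4 := Cfsg.Agent.Lib.Lead.card_sup_mul_card_inf P (fix d) hnorm
  rw [hinf, h.card_Z] at h4
  exact h4

theorem fix_ne_top (_h : Cfg W E z) {t : MulAut W} (ht1 : t ≠ 1) : fix t ≠ ⊤ := by
  intro h0
  apply ht1
  ext x
  have : x ∈ fix t := by rw [h0]; exact Subgroup.mem_top x
  exact this

theorem two_mul_card_fix_le (h : Cfg W E z) {t : MulAut W} (ht1 : t ≠ 1) :
    2 * Nat.card (fix t) ≤ Nat.card W := by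
  have h1 := Subgroup.card_mul_index (fix t)
  have h2 : (fix t).index ≠ 1 := fun h0 => fix_ne_top h ht1 (Subgroup.index_eq_one.mp h0)
  have h3 : (fix t).index ≠ 0 := Subgroup.index_ne_zero_of_finite
  have h4 : 2 ≤ (fix t).index := by omega
  calc 2 * Nat.card (fix t) = Nat.card (fix t) * 2 := by ring
    _ ≤ Nat.card (fix t) * (fix t).index := Nat.mul_le_mul_left _ h4
    _ = Nat.card W := h1

theorem card_fix_cases (h : Cfg W E z) {t : MulAut W} (ht : t ∈ E) (ht1 : t ≠ 1) :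
    Nat.card (fix t) = 2 ∨ Nat.card (fix t) = 8 := by
  rcases h.dich t ht ht1 with h1 | h1
  · left; rw [h1, h.card_Z]
  · right; exact h1.1

theorem card_W (h : Cfg W E z) :
    Nat.card W = 2 ^ 5 ∨ Nat.card W = 2 ^ 7 ∨ Nat.card W = 2 ^ 9 := by
  obtain ⟨a, ha, ha1, b, hb, hne⟩ := exists_ab h
  obtain ⟨⟨hc, hc1, hd, hd1, hb1⟩, hca, hda, hcb, hdb, hdc⟩ := indep h ha ha1 hb hne
  have hCP := commProp h ⊤ (inv_top E)
  have hpair : ∀ e ∈ E, e ≠ 1 → ∀ e' ∈ E, e' ∉ Subgroup.zpowers e →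
      ∀ x ∈ fix e, ∀ y ∈ fix e', x * y = y * x := by
    intro e he he1 e' he' hne' x hx y hy
    exact hCP e he he1 e' he' hne' x ⟨Subgroup.mem_top x, hx⟩ y ⟨Subgroup.mem_top y, hy⟩
  have hAB := hpair a ha ha1 b hb hne
  have hAC := hpair a ha ha1 (a * b) hc hca
  have hAD := hpair a ha ha1 (a * b⁻¹) hd hda
  have hBC := hpair b hb hb1 (a * b) hc hcb
  have hBD := hpair b hb hb1 (a * b⁻¹) hd hdb
  have hCD := hpair (a * b) hc hc1 (a * b⁻¹) hd hdc
  have iA := inv_fix h.comm ha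
  have iB := inv_fix h.comm hb
  have iC := inv_fix h.comm hc
  have iD := inv_fix h.comm hd
  have zA := h.Z_le_fix ha
  have s1 := step_card h (fix a) iA zA hb hb1 hAB
  have s2 := step_card h (fix a ⊔ fix b) (iA.sup iB) (zA.trans le_sup_left) hc hc1
    (comm_sup hAC hBC)
  have s3 := step_card h (fix a ⊔ fix b ⊔ fix (a * b)) ((iA.sup iB).sup iC)
    (zA.trans (le_sup_left.trans le_sup_left)) hd hd1 (comm_sup (comm_sup hAD hBD) hCD)
  have htop : fix a ⊔ fix b ⊔ fix (a * b) ⊔ fix (a * b⁻¹) = ⊤ := by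
    rw [eq_top_iff]
    intro x hx
    refine h.ind ⊤ (inv_top E)
      (C := fun x => x ∈ fix a ⊔ fix b ⊔ fix (a * b) ⊔ fix (a * b⁻¹)) (Subgroup.one_mem _)
      (fun x y hx hy => Subgroup.mul_mem _ hx hy) ?_ x hx
    intro e he he1 x _ hex
    rcases cover h ha ha1 hb hne he he1 with h0 | h0 | h0 | h0
    · have := fix_eq_of_mem_zpowers h ha ha1 he1 h0
      exact (le_sup_left.trans (le_sup_left.trans le_sup_left) :
        fix a ≤ fix a ⊔ fix b ⊔ fix (a * b) ⊔ fix (a * b⁻¹)) (this ▸ hex)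
    · have := fix_eq_of_mem_zpowers h hb hb1 he1 h0
      exact (le_sup_right.trans (le_sup_left.trans le_sup_left) :
        fix b ≤ fix a ⊔ fix b ⊔ fix (a * b) ⊔ fix (a * b⁻¹)) (this ▸ hex)
    · have := fix_eq_of_mem_zpowers h hc hc1 he1 h0
      exact (le_sup_right.trans le_sup_left :
        fix (a * b) ≤ fix a ⊔ fix b ⊔ fix (a * b) ⊔ fix (a * b⁻¹)) (this ▸ hex)
    · have := fix_eq_of_mem_zpowers h hd hd1 he1 h0
      exact (le_sup_right :
        fix (a * b⁻¹) ≤ fix a ⊔ fix b ⊔ fix (a * b) ⊔ fix (a * b⁻¹)) (this ▸ hex)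
  rw [htop, Subgroup.card_top] at s3
  have bA := two_mul_card_fix_le h ha1
  have bB := two_mul_card_fix_le h hb1
  have bC := two_mul_card_fix_le h hc1
  have bD := two_mul_card_fix_le h hd1
  have cA := card_fix_cases h ha ha1
  have cB := card_fix_cases h hb hb1
  have cC := card_fix_cases h hc hc1
  have cD := card_fix_cases h hd hd1
  norm_num
  generalize Nat.card (fix a) = nA at *
  generalize Nat.card (fix b) = nB at *
  generalize Nat.card (fix (a * b)) = nC at *
  generalize Nat.card (fix (a * b⁻¹)) = nD at *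
  generalize Nat.card (fix a ⊔ fix b : Subgroup W) = n2 at *
  generalize Nat.card (fix a ⊔ fix b ⊔ fix (a * b) : Subgroup W) = n3 at *
  generalize Nat.card W = nW at *
  rcases cA with rfl | rfl <;> rcases cB with rfl | rfl <;> rcases cC with rfl | rfl <;>
    rcases cD with rfl | rfl <;> omega

/-- the internal form of the theorem -/
theorem main_aux {W : Type*} [Group W] [Finite W] (hW : IsPGroup 2 W) {p : ℕ} [Fact p.Prime]
    (hp : p ≠ 2) (E : Subgroup (MulAut W)) (hE : IsPGroup p ↥E) (hab : IsMulCommutative ↥E)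
    (hnc : ¬ IsCyclic ↥E)
    (hfix : ∀ e ∈ E, e ≠ 1 → ∀ x y : W, orderOf x = 2 → orderOf y = 2 → e x = x → e y = y →
      x = y) :
    Nat.card ↥E = 9 ∧ Cfsg.IsExtraspecial 2 W ∧
      (Nat.card W = 2 ^ 5 ∨ Nat.card W = 2 ^ 7 ∨ Nat.card W = 2 ^ 9) ∧
      {x : W | ∀ e ∈ E, e x = x} = (Subgroup.center W : Set W) := by
  obtain ⟨z, h⟩ := phase1 hW hp E hE hab hnc hfix
  exact ⟨h.card, isExtraspecial h, card_W h, fixedSet_eq h⟩

end Cfsg.Agent.H9QA
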