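import Mathlib
import Cfsg.Prelude.Def_Local
import Cfsg.Agent.Lib.Helper9.QA2
import Cfsg.Agent.Lib.Helper7.PSolvable
import Cfsg.Agent.Lib.Helper7.SylNorm1
import Cfsg.Agent.Lib.Helper2.SL2PSolv
import Cfsg.Agent.Lib.Lead.CoprimeSylow3

set_option autoImplicit false

/-!
# A `{p,q}`-subgroup containing a given Sylow `p`-subgroup of a `p`-solvable group
-/

namespace Cfsg.Agent.H9QA

open Cfsg

universe u

theorem card_comap_mk' {G : Type u} [Group G] [Finite G] (N : Subgroup G) [N.Normal]
    (H : Subgroup (G ⧸ N)) :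
    Nat.card ↥(H.comap (QuotientGroup.mk' N)) = Nat.card N * Nat.card H := by
  have := QuotientGroup.card_preimage_mk N (H : Set (G ⧸ N))
  exact this

theorem card_lt_of_ne_top {G : Type*} [Group G] [Finite G] {H : Subgroup G} (h : H ≠ ⊤) :
    Nat.card H < Nat.card G := by
  by_contra hc
  exact h (Subgroup.eq_top_of_le_card H (not_lt.mp hc))

theorem exists_pq_overgroup (p q : ℕ) [hp : Fact p.Prime] [hq : Fact q.Prime] (hpq : p ≠ q) :
    ∀ n : ℕ, ∀ (G : Type u) [Group G] [Finite G], Nat.card G = n → IsPSolvable p G →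
      ∀ S : Sylow p G, q ∣ Nat.card G →
      ∃ G₁ : Subgroup G, (S : Subgroup G) ≤ G₁ ∧ q ∣ Nat.card G₁ ∧
        ∃ a b : ℕ, Nat.card G₁ = p ^ a * q ^ b := by
  intro n
  induction n using Nat.strong_induction_on with
  | _ n ih =>
  intro G _ _ hn hG S hqG
  have hcop_pq : Nat.Coprime q p := (Nat.coprime_primes hq.out hp.out).mpr (Ne.symm hpq)
  haveI : Nontrivial G := by
    rw [← Finite.one_lt_card_iff_nontrivial]
    exact lt_of_lt_of_le hq.out.one_lt (Nat.le_of_dvd Nat.card_pos hqG)
  obtain ⟨N, hNn, hNne, hNcard⟩ := Cfsg.Agent.Lib.Helper7.exists_normal_of_isPSolvable hG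
  haveI := hNn
  have hcardG : Nat.card G = Nat.card (G ⧸ N) * Nat.card N := Subgroup.card_eq_card_quotient_mul_card_subgroup N
  have hN1 : 1 < Nat.card N := (Subgroup.one_lt_card_iff_ne_bot N).mpr hNne
  have hlt : Nat.card (G ⧸ N) < n := by
    rw [← hn, hcardG]
    have : 0 < Nat.card (G ⧸ N) := Nat.card_pos
    nlinarith
  have hGbar : IsPSolvable p (G ⧸ N) := Cfsg.Agent.Lib.Helper7.isPSolvable_quotient hG N
  let Sbar : Sylow p (G ⧸ N) := S.mapSurjective (QuotientGroup.mk'_surjective N)
  have hSbar : (Sbar : Subgroup (G ⧸ N)) = (S : Subgroup G).map (QuotientGroup.mk' N) :=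
    Sylow.coe_mapSurjective _ _
  have hlift : ∀ G₁bar : Subgroup (G ⧸ N), (Sbar : Subgroup (G ⧸ N)) ≤ G₁bar →
      (S : Subgroup G) ≤ G₁bar.comap (QuotientGroup.mk' N) := by
    intro G₁bar h s hs
    rw [Subgroup.mem_comap]
    apply h
    rw [hSbar]
    exact ⟨s, hs, rfl⟩
  rcases hNcard with ⟨m, hm⟩ | hNcop
  · -- N is a p-group
    have hqbar : q ∣ Nat.card (G ⧸ N) := by
      rw [hcardG, hm] at hqG
      exact (Nat.Coprime.pow_right m hcop_pq).dvd_of_dvd_mul_right hqG
    obtain ⟨G₁bar, hS1, hq1, a, b, hab⟩ := ih _ hlt (G ⧸ N) rfl hGbar Sbar hqbar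
    refine ⟨G₁bar.comap (QuotientGroup.mk' N), hlift _ hS1, ?_, m + a, b, ?_⟩
    · rw [card_comap_mk']
      exact Dvd.dvd.mul_left hq1 _
    · rw [card_comap_mk', hm, hab, pow_add]; ring
  · by_cases hqN : q ∣ Nat.card N
    · -- an S-invariant Sylow q-subgroup of N
      have hSN : (S : Subgroup G) ≤ Subgroup.normalizer (N : Set G) := by
        rw [Subgroup.normalizer_eq_top_iff.mpr hNn]; exact le_top
      obtain ⟨k, hk⟩ := IsPGroup.iff_card.mp S.isPGroup'
      have hcop : (Nat.card (S : Subgroup G)).Coprime (Nat.card N) := by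
        rw [hk]; exact (Nat.Coprime.pow_right k hNcop).symm
      have hsol : Group.IsSolvable (S : Subgroup G) := by
        haveI := S.isPGroup'.isNilpotent
        infer_instance
      obtain ⟨Q, hQ⟩ := Cfsg.Agent.Lib.Lead.coprime_invariant_sylow_exists (S : Subgroup G) N hSN hcop
        (Or.inl hsol) q
      obtain ⟨QG, hQG⟩ : ∃ QG : Subgroup G, QG = (Q : Subgroup N).map N.subtype := ⟨_, rfl⟩
      rw [← hQG] at hQ
      have hQGcard : Nat.card QG = q ^ (Nat.card N).factorization q := by
        rw [hQG, Subgroup.card_map_of_injective N.subtype_injective]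
        exact Q.card_eq_multiplicity
      have hfpos : 0 < (Nat.card N).factorization q :=
        (hq.out.factorization_pos_of_dvd Nat.card_pos.ne' hqN)
      have hinf : (S : Subgroup G) ⊓ QG = ⊥ := by
        apply Subgroup.inf_eq_bot_of_coprime
        rw [hk, hQGcard]
        exact Nat.Coprime.pow _ _ hcop_pq.symm
      have hcard := Cfsg.Agent.Lib.Helper2.card_sup_mul_card_inf (S : Subgroup G) QG hQ
      rw [hinf, Subgroup.card_bot, mul_one, hk, hQGcard] at hcard
      refine ⟨(S : Subgroup G) ⊔ QG, le_sup_left, ?_, k, _, hcard⟩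
      rw [hcard]
      exact Dvd.dvd.mul_left (dvd_pow_self q hfpos.ne') _
    · have hcopN : Nat.Coprime q (Nat.card N) := (Nat.Prime.coprime_iff_not_dvd hq.out).mpr hqN
      have hqbar : q ∣ Nat.card (G ⧸ N) := by
        rw [hcardG] at hqG
        exact hcopN.dvd_of_dvd_mul_right hqG
      obtain ⟨G₁bar, hS1, hq1, a, b, hab⟩ := ih _ hlt (G ⧸ N) rfl hGbar Sbar hqbar
      obtain ⟨G₂, hG₂⟩ : ∃ G₂ : Subgroup G, G₂ = G₁bar.comap (QuotientGroup.mk' N) := ⟨_, rfl⟩
      have hSG₂ : (S : Subgroup G) ≤ G₂ := by rw [hG₂]; exact hlift _ hS1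
      have hcardG₂ : Nat.card G₂ = Nat.card N * Nat.card G₁bar := by rw [hG₂]; exact card_comap_mk' N G₁bar
      by_cases htop : G₁bar = ⊤
      · -- Schur–Zassenhaus
        have hidxN : N.index = p ^ a * q ^ b := by
          rw [Subgroup.index_eq_card, ← hab, htop, Subgroup.card_top]
        have hcopidx : Nat.Coprime (Nat.card N) N.index := by
          rw [hidxN]
          exact Nat.Coprime.mul_right (Nat.Coprime.pow_right a hNcop) (Nat.Coprime.pow_right b hcopN.symm)
        obtain ⟨H, hH⟩ := Subgroup.exists_right_complement'_of_coprime hcopidx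
        have hHidx : H.index = Nat.card N := hH.index_eq_card
        have hHcard : Nat.card H = p ^ a * q ^ b := by
          have h1 := hH.card_mul
          have h2 := N.card_mul_index
          rw [← h2, hidxN] at h1
          exact Nat.eq_of_mul_eq_mul_left Nat.card_pos h1
        have hpH : ¬ p ∣ H.index := by
          rw [hHidx]
          exact (Nat.Prime.coprime_iff_not_dvd hp.out).mp hNcop.symm
        obtain ⟨P, hP⟩ := Cfsg.Agent.Lib.Helper7.SylNorm.exists_sylow_le_of_not_dvd_index H hpH
        obtain ⟨g, hg⟩ := MulAction.exists_smul_eq G P S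
        refine ⟨H.map (MulAut.conj g).toMonoidHom, ?_, ?_, a, b, ?_⟩
        · rw [← hg, Sylow.coe_subgroup_smul]
          intro x hx
          have h1 := Subgroup.mem_pointwise_smul_iff_inv_smul_mem.mp hx
          refine ⟨(MulAut.conj g)⁻¹ • x, hP h1, ?_⟩
          simp only [MulAut.smul_def, MulAut.conj_inv_apply, MulEquiv.coe_toMonoidHom, MulAut.conj_apply]
          group
        · rw [Subgroup.card_map_of_injective (MulAut.conj g).injective, hHcard]
          have hb : b ≠ 0 := by
            rintro rfl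
            rw [pow_zero, mul_one] at hab
            rw [hab] at hq1
            exact hpq ((Nat.prime_dvd_prime_iff_eq hq.out hp.out).mp (hq.out.dvd_of_dvd_pow hq1)).symm
          exact Dvd.dvd.mul_left (dvd_pow_self q hb) _
        · rw [Subgroup.card_map_of_injective (MulAut.conj g).injective, hHcard]
      · -- a proper subgroup; induct
        have hG₂ne : G₂ ≠ ⊤ := by
          intro h
          apply htop
          rw [hG₂] at h
          rw [eq_top_iff]
          intro x _
          obtain ⟨y, rfl⟩ := QuotientGroup.mk'_surjective N x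
          have : y ∈ G₁bar.comap (QuotientGroup.mk' N) := by rw [h]; trivial
          exact this
        have hlt₂ : Nat.card G₂ < n := by
          rw [← hn]
          exact card_lt_of_ne_top hG₂ne
        have hqG₂ : q ∣ Nat.card G₂ := by
          rw [hcardG₂]; exact Dvd.dvd.mul_left hq1 _
        obtain ⟨G₃, hS3, hq3, a', b', hab'⟩ := ih _ hlt₂ ↥G₂ rfl
          (Cfsg.Agent.Lib.Helper2.SL2Sections.isPSolvable_subgroup hG G₂) (S.subtype hSG₂) hqG₂
        refine ⟨G₃.map G₂.subtype, ?_, ?_, a', b', ?_⟩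
        · intro s hs
          refine ⟨⟨s, hSG₂ hs⟩, hS3 ?_, rfl⟩
          rw [Sylow.coe_subtype]
          exact Subgroup.mem_subgroupOf.mpr hs
        · rw [Subgroup.card_map_of_injective G₂.subtype_injective]; exact hq3
        · rw [Subgroup.card_map_of_injective G₂.subtype_injective]; exact hab'

end Cfsg.Agent.H9QA
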