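import Mathlib
import Cfsg.Prelude.Def_Local
import Cfsg.Agent.Lib.Helper9.QA3
import Cfsg.Agent.S0664
import Cfsg.Agent.S4302
import Cfsg.Agent.Lib.Helper4.HallHigman
import Cfsg.Agent.Lib.Helper6.PPrimeCore
import Cfsg.Agent.Lib.Helper6.QdChar3
import Cfsg.Agent.Lib.Lead.Core

set_option autoImplicit false

/-!
# `{p,q}`-groups: solvability, `Qd(p)`-freeness, and a normal characteristic subgroup of a Sylow subgroup
-/

namespace Cfsg.Agent.H9QA

open Cfsg

universe u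

/-- `n` is of the form `p^a q^b` -/
def IsPQ (p q n : ℕ) : Prop := ∃ a b : ℕ, n = p ^ a * q ^ b

theorem IsPQ.of_dvd {p q n d : ℕ} (hp : p.Prime) (hq : q.Prime) (h : IsPQ p q n) (hd : d ∣ n) :
    IsPQ p q d := by
  obtain ⟨a, b, rfl⟩ := h
  obtain ⟨d₁, d₂, h1, h2, rfl⟩ := (Nat.dvd_mul).mp hd
  obtain ⟨i, -, rfl⟩ := (Nat.dvd_prime_pow hp).mp h1
  obtain ⟨j, -, rfl⟩ := (Nat.dvd_prime_pow hq).mp h2
  exact ⟨i, j, rfl⟩

theorem IsPQ.prime_dvd {p q n r : ℕ} (hr : r.Prime) (hp : p.Prime) (hq : q.Prime) (h : IsPQ p q n)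
    (hd : r ∣ n) : r = p ∨ r = q := by
  obtain ⟨a, b, rfl⟩ := h
  rcases (Nat.Prime.dvd_mul hr).mp hd with h1 | h1
  · left; exact (Nat.prime_dvd_prime_iff_eq hr hp).mp (hr.dvd_of_dvd_pow h1)
  · right; exact (Nat.prime_dvd_prime_iff_eq hr hq).mp (hr.dvd_of_dvd_pow h1)

theorem isSolvable_of_pq (p q : ℕ) [hp : Fact p.Prime] [hq : Fact q.Prime] :
    ∀ n : ℕ, ∀ (G : Type u) [Group G] [Finite G], Nat.card G = n → IsPSolvable p G →
      IsPQ p q (Nat.card G) → Group.IsSolvable G := by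
  intro n
  induction n using Nat.strong_induction_on with
  | _ n ih =>
  intro G _ _ hn hG hpq
  by_cases hsub : Subsingleton G
  · infer_instance
  rw [not_subsingleton_iff_nontrivial] at hsub
  obtain ⟨N, hNn, hNne, hNcard⟩ := Cfsg.Agent.Lib.Helper7.exists_normal_of_isPSolvable hG
  haveI := hNn
  have hcardG : Nat.card G = Nat.card (G ⧸ N) * Nat.card N :=
    Subgroup.card_eq_card_quotient_mul_card_subgroup N
  have hN1 : 1 < Nat.card N := (Subgroup.one_lt_card_iff_ne_bot N).mpr hNne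
  have hlt : Nat.card (G ⧸ N) < n := by
    rw [← hn, hcardG]
    have : 0 < Nat.card (G ⧸ N) := Nat.card_pos
    nlinarith
  have hGbar : IsPSolvable p (G ⧸ N) := Cfsg.Agent.Lib.Helper7.isPSolvable_quotient hG N
  have hpqbar : IsPQ p q (Nat.card (G ⧸ N)) :=
    hpq.of_dvd hp.out hq.out (by rw [hcardG]; exact Dvd.intro _ rfl)
  haveI hsolq : Group.IsSolvable (G ⧸ N) := ih _ hlt (G ⧸ N) rfl hGbar hpqbar
  have hNsol : Group.IsSolvable N := by
    rcases hNcard with ⟨m, hm⟩ | hNcop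
    · haveI := (IsPGroup.of_card hm).isNilpotent
      infer_instance
    · obtain ⟨i, j, hij⟩ := hpq.of_dvd hp.out hq.out (Subgroup.card_subgroup_dvd_card N)
      have hi : i = 0 := by
        by_contra hi
        have : p ∣ Nat.card N := by rw [hij]; exact Dvd.dvd.mul_right (dvd_pow_self p hi) _
        exact (Nat.Prime.coprime_iff_not_dvd hp.out).mp hNcop.symm this
      rw [hi, pow_zero, one_mul] at hij
      haveI := (IsPGroup.of_card hij).isNilpotent
      infer_instance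
  haveI := hNsol
  refine Group.isSolvable_of_ker_le_range N.subtype (QuotientGroup.mk' N) ?_
  rw [QuotientGroup.ker_mk', Subgroup.range_subtype]

theorem no_qd_section_of_pq {G : Type u} [Group G] [Finite G] (p q : ℕ) [hp : Fact p.Prime]
    [hq : Fact q.Prime] (hp2 : p ≠ 2) (h32 : ¬ (p = 3 ∧ q = 2)) (hpq : IsPQ p q (Nat.card G)) :
    ¬ ∃ (K R : Subgroup G) (hR : (R.subgroupOf K).Normal),
      Nonempty ((K ⧸ R.subgroupOf K) ≃* ↥(Cfsg.qd p)) := by
  rintro ⟨K, R, hR, ⟨e⟩⟩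
  have h1 : Nat.card (K ⧸ R.subgroupOf K) = p * (p ^ 2 - 1) * p ^ 2 := by
    rw [Nat.card_congr e.toEquiv]
    exact Cfsg.Agent.Lib.Helper6.QdChar.card_qd
  have h2 : Nat.card (K ⧸ R.subgroupOf K) ∣ Nat.card G :=
    (Subgroup.card_quotient_dvd_card _).trans (Subgroup.card_subgroup_dvd_card K)
  rw [h1] at h2
  have h3 : (p ^ 2 - 1) ∣ Nat.card G :=
    (Dvd.dvd.mul_left (dvd_refl _) p).trans ((Dvd.dvd.mul_right (dvd_refl _) (p ^ 2)).trans h2)
  have hpodd : p % 2 = 1 := by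
    rcases hp.out.eq_two_or_odd with h | h
    · exact absurd h hp2
    · exact h
  have hp1 : 1 ≤ p ^ 2 := Nat.one_le_pow _ _ hp.out.pos
  have h2dvd : 2 ∣ p ^ 2 - 1 := by
    have : (p ^ 2 - 1) % 2 = 0 := by
      have h4 : p ^ 2 % 2 = 1 := by rw [Nat.pow_mod, hpodd]
      omega
    exact Nat.dvd_of_mod_eq_zero this
  have hq2 : q = 2 := by
    rcases hpq.prime_dvd Nat.prime_two hp.out hq.out (h2dvd.trans h3) with h | h
    · exact absurd h.symm hp2
    · exact h.symm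
  have hp3 : p ≠ 3 := fun h => h32 ⟨h, hq2⟩
  have h3dvd : 3 ∣ p ^ 2 - 1 := by
    have hmod : p % 3 = 1 ∨ p % 3 = 2 := by
      have : p % 3 ≠ 0 := by
        intro h0
        have : 3 ∣ p := Nat.dvd_of_mod_eq_zero h0
        exact hp3 ((Nat.prime_dvd_prime_iff_eq Nat.prime_three hp.out).mp this).symm
      omega
    have : (p ^ 2 - 1) % 3 = 0 := by
      have h4 : p ^ 2 % 3 = 1 := by
        rw [Nat.pow_mod]
        rcases hmod with h | h <;> rw [h]
      omega
    exact Nat.dvd_of_mod_eq_zero this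
  rcases hpq.prime_dvd Nat.prime_three hp.out hq.out (h3dvd.trans h3) with h | h
  · exact hp3 h.symm
  · rw [hq2] at h; omega

theorem fitting_eq_pCore_of_pPrimeCore {G : Type u} [Group G] [Finite G] (p : ℕ) [hp : Fact p.Prime]
    (hO : pPrimeCore p G = ⊥) : fittingSubgroup G = pCore p G := by
  rw [Cfsg.Agent.Lib.Lead.fittingSubgroup_eq_iSup_pCore]
  apply le_antisymm
  · apply iSup_le
    intro r
    by_cases hr : (r : ℕ) = p
    · rw [hr]
    · haveI : Fact (r : ℕ).Prime := ⟨r.2⟩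
      have h1 : pCore (r : ℕ) G ≤ pPrimeCore p G := by
        apply Cfsg.Agent.Lib.Helper6.le_pPrimeCore (Cfsg.Agent.Lib.Lead.pCore_normal _)
        obtain ⟨k, hk⟩ := IsPGroup.iff_card.mp (Cfsg.Agent.Lib.Lead.pCore_isPGroup (G := G) (r : ℕ))
        rw [hk]
        exact Nat.Coprime.pow_left k ((Nat.coprime_primes r.2 hp.out).mpr hr)
      rw [hO] at h1
      exact h1.trans bot_le
  · exact le_iSup (fun r : Nat.Primes => pCore (r : ℕ) G) ⟨p, hp.out⟩

end Cfsg.Agent.H9QA
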