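import Mathlib
import Cfsg.Prelude.Def_Local
import Cfsg.Agent.Lib.Helper9.QA4

set_option autoImplicit false

/-!
# A nontrivial characteristic subgroup of `S` that is normal in a minimal `{p,q}`-configuration
-/

namespace Cfsg.Agent.H9QA

open Cfsg

universe u

theorem three_dvd_card_pi_perm (n : ℕ) (hn : 1 ≤ n) :
    3 ∣ Nat.card (Fin n → Equiv.Perm (Fin 3)) := by
  rw [Nat.card_fun, Nat.card_perm, Nat.card_fin, Nat.card_fin]
  have : (3 : ℕ).factorial = 6 := by decide
  rw [this]
  exact Dvd.dvd.trans (by norm_num) (dvd_pow_self 6 (by omega))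

theorem center_ne_bot_of_pgroup {G : Type*} [Group G] {p : ℕ} [hp : Fact p.Prime] (S : Subgroup G)
    [Finite S] (hS : IsPGroup p S) (hne : S ≠ ⊥) : S ⊓ Subgroup.centralizer (S : Set G) ≠ ⊥ := by
  haveI : Nontrivial ↥S := (Subgroup.nontrivial_iff_ne_bot _).mpr hne
  haveI := hS.center_nontrivial
  obtain ⟨z, hz⟩ := exists_ne (1 : Subgroup.center ↥S)
  intro hbot
  have hmem : ((z : ↥S) : G) ∈ S ⊓ Subgroup.centralizer (S : Set G) := by
    refine Subgroup.mem_inf.mpr ⟨(z : ↥S).2, ?_⟩
    rw [Subgroup.mem_centralizer_iff]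
    intro s hs
    have h := (Subgroup.mem_center_iff.mp z.2) ⟨s, hs⟩
    exact congrArg Subtype.val h
  rw [hbot, Subgroup.mem_bot] at hmem
  apply hz
  apply Subtype.ext
  apply Subtype.ext
  exact hmem

theorem exists_normal_charIn {G : Type u} [Group G] [Finite G] (p q : ℕ) [hp : Fact p.Prime]
    [hq : Fact q.Prime] (hpq : p ≠ q) (h23 : ¬ ((p = 2 ∧ q = 3) ∨ (p = 3 ∧ q = 2)))
    (hG : IsPSolvable p G) (hO : pPrimeCore p G = ⊥) (S : Sylow p G)
    (hcard : IsPQ p q (Nat.card G)) (hqG : q ∣ Nat.card G)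
    (hmax : ∀ G₁ : Subgroup G, (S : Subgroup G) ≤ G₁ → q ∣ Nat.card G₁ → G₁ = ⊤) :
    ∃ K₀ : Subgroup G, K₀ ≠ ⊥ ∧ K₀.Normal ∧ CharIn K₀ (S : Subgroup G) := by
  have hcop_qp : Nat.Coprime q p := (Nat.coprime_primes hq.out hp.out).mpr (Ne.symm hpq)
  have hSne : (S : Subgroup G) ≠ ⊥ := by
    intro hS
    have hpG : ¬ p ∣ Nat.card G := fun h => S.ne_bot_of_dvd_card h hS
    have h1 : (⊤ : Subgroup G) ≤ pPrimeCore p G := by
      apply Cfsg.Agent.Lib.Helper6.le_pPrimeCore inferInstance
      rw [Subgroup.card_top]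
      exact ((Nat.Prime.coprime_iff_not_dvd hp.out).mpr hpG).symm
    rw [hO] at h1
    have h2 : Nat.card G = 1 := by
      have h3 : (⊤ : Subgroup G) = ⊥ := le_bot_iff.mp h1
      rw [← Subgroup.card_top (G := G), h3]
      exact Subgroup.card_bot
    rw [h2] at hqG
    exact hq.out.one_lt.ne' (Nat.dvd_one.mp hqG)
  have hc := Cfsg.Agent.Lib.Helper4.centralizer_pCore_le_of_isPSolvable hG hO
  by_cases hp2 : p = 2
  · subst hp2
    haveI hsolv : Group.IsSolvable G := isSolvable_of_pq 2 q _ G rfl hG hcard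
    have hF : fittingSubgroup G = pCore 2 G := fitting_eq_pCore_of_pPrimeCore 2 hO
    obtain ⟨h1, h2⟩ := Cfsg.Agent.S4302.result hF S
    obtain ⟨Z, hZ⟩ : ∃ Z : Subgroup G,
      Z = (S : Subgroup G) ⊓ Subgroup.centralizer ((S : Subgroup G) : Set G) := ⟨_, rfl⟩
    obtain ⟨J, hJ⟩ : ∃ J : Subgroup G, J = thompsonSubgroupAOf (S : Subgroup G) := ⟨_, rfl⟩
    rw [← hZ, ← hJ] at h1 h2
    have hZchar : CharIn Z (S : Subgroup G) := by rw [hZ]; exact charIn_center _
    have hJchar : CharIn J (S : Subgroup G) := by rw [hJ]; exact charIn_thompsonAOf _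
    have hYC : Subgroup.normalClosure (J : Set G) ≤ (Subgroup.centralizer (Z : Set G)).normalCore := by
      rcases h2 with h2 | ⟨n, hn, ⟨e⟩⟩
      · exact h2
      · exfalso
        have h3 : 3 ∣ Nat.card G := by
          have h4 := three_dvd_card_pi_perm n hn
          rw [← Nat.card_congr e.toEquiv] at h4
          exact h4.trans ((Subgroup.card_quotient_dvd_card _).trans
            (Subgroup.card_subgroup_dvd_card _))
        rcases hcard.prime_dvd Nat.prime_three hp.out hq.out h3 with h | h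
        · omega
        · exact h23 (Or.inl ⟨rfl, h.symm⟩)
    rw [sup_eq_left.mpr hYC] at h1
    have hSCZ : (S : Subgroup G) ≤ Subgroup.centralizer (Z : Set G) := by
      intro s hs
      rw [Subgroup.mem_centralizer_iff]
      intro z hz
      rw [hZ] at hz
      exact ((Subgroup.mem_centralizer_iff.mp (Subgroup.mem_inf.mp hz).2) s hs).symm
    have hSNJ : (S : Subgroup G) ≤ Subgroup.normalizer (J : Set G) :=
      Subgroup.le_normalizer.trans hJchar.normalizer_le
    by_cases hCZ : Subgroup.centralizer (Z : Set G) = ⊤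
    · refine ⟨Z, ?_, ?_, hZchar⟩
      · rw [hZ]; exact center_ne_bot_of_pgroup _ S.isPGroup' hSne
      · constructor
        intro z hz g
        have hg : g ∈ Subgroup.centralizer (Z : Set G) := by rw [hCZ]; trivial
        have := (Subgroup.mem_centralizer_iff.mp hg) z hz
        have h5 : g * z * g⁻¹ = z := by rw [← this]; group
        rw [h5]; exact hz
    by_cases hNJ : Subgroup.normalizer (J : Set G) = ⊤
    · refine ⟨J, ?_, Subgroup.normalizer_eq_top_iff.mp hNJ, hJchar⟩
      rw [hJ]; exact thompsonAOf_ne_bot _ hSne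
    exfalso
    have hkey : ∀ X : Subgroup G, (S : Subgroup G) ≤ X → X ≠ ⊤ → X = (S : Subgroup G) := by
      intro X hSX hX
      have hqX : ¬ q ∣ Nat.card X := fun h => hX (hmax X hSX h)
      obtain ⟨i, j, hij⟩ := hcard.of_dvd hp.out hq.out (Subgroup.card_subgroup_dvd_card X)
      have hj : j = 0 := by
        by_contra hj
        exact hqX (by rw [hij]; exact Dvd.dvd.mul_left (dvd_pow_self q hj) _)
      rw [hj, pow_zero, mul_one] at hij
      exact S.is_maximal' (IsPGroup.of_card hij) hSX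
    have e1 := hkey _ hSCZ hCZ
    have e2 := hkey _ hSNJ hNJ
    have h6 : (⊤ : Subgroup G) ≤ (S : Subgroup G) := by
      rw [← h1]
      apply sup_le
      · exact (Subgroup.normalCore_le _).trans (le_of_eq e1)
      · exact le_of_eq e2
    obtain ⟨k, hk⟩ := IsPGroup.iff_card.mp S.isPGroup'
    rw [top_le_iff.mp h6, Subgroup.card_top] at hk
    rw [hk] at hqG
    exact hpq ((Nat.prime_dvd_prime_iff_eq hq.out hp.out).mp (hq.out.dvd_of_dvd_pow hqG)).symm
  · have hfree := no_qd_section_of_pq (G := G) p q hp2 (fun h => h23 (Or.inr h)) hcard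
    have hn := Cfsg.Agent.S0664.result hp2 hfree hc S
    exact ⟨_, centerThompsonAOf_ne_bot _ S.isPGroup' hSne, hn, charIn_centerThompsonAOf _⟩

end Cfsg.Agent.H9QA
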