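import Mathlib
import Cfsg.Prelude.Def_Local
import Cfsg.Agent.Lib.Helper9.QA5
import Cfsg.Agent.Lib.Lead.SolvPSolv

set_option autoImplicit false

/-!
# The hypothesis "automizers of `p`-subgroups are `p`-solvable" and its inheritance
-/

namespace Cfsg.Agent.H9QA

open Cfsg

universe u

/-- automizers of `p`-subgroups are `p`-solvable -/
def HSol (p : ℕ) (G : Type*) [Group G] : Prop :=
  ∀ H : Subgroup G, IsPGroup p H →
    IsPSolvable p (↥(Subgroup.normalizer (H : Set G)) ⧸
      (Subgroup.centralizer (H : Set G)).subgroupOf (Subgroup.normalizer (H : Set G)))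

theorem hsol_of_isPSolvable {G : Type*} [Group G] {p : ℕ} [Fact p.Prime] (hG : IsPSolvable p G) :
    HSol p G := fun H _ =>
  Cfsg.Agent.Lib.Helper7.isPSolvable_quotient
    (Cfsg.Agent.Lib.Helper2.SL2Sections.isPSolvable_subgroup hG _) _

theorem hsol_subgroup {G : Type*} [Group G] {p : ℕ} [Fact p.Prime] (hs : HSol p G) (G₁ : Subgroup G) :
    HSol p ↥G₁ := by
  intro P hP
  obtain ⟨P', hP'⟩ : ∃ P' : Subgroup G, P' = P.map G₁.subtype := ⟨_, rfl⟩
  have hP'p : IsPGroup p P' := by rw [hP']; exact hP.map _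
  have hbig := hs P' hP'p
  have hmemP' : ∀ x : ↥G₁, (x : G) ∈ P' ↔ x ∈ P := by
    intro x; rw [hP']; exact Subgroup.mem_map_iff_mem G₁.subtype_injective
  -- the inclusion of normalizers
  have hnorm : ∀ x : ↥G₁, x ∈ Subgroup.normalizer (P : Set ↥G₁) →
      (x : G) ∈ Subgroup.normalizer (P' : Set G) := by
    intro x hx
    rw [Subgroup.mem_normalizer_iff] at hx ⊢
    intro h
    constructor
    · intro hh
      rw [hP'] at hh
      obtain ⟨k, hk, rfl⟩ := hh
      have := (hx k).mp hk
      rw [← hmemP'] at this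
      simpa using this
    · intro hh
      rw [hP'] at hh
      obtain ⟨k, hk, hk'⟩ := hh
      have h1 : h = ((x⁻¹ * k * x : ↥G₁) : G) := by
        have : (k : G) = x * h * (x : G)⁻¹ := hk'
        simp only [Subgroup.coe_mul, Subgroup.coe_inv, this]
        group
      rw [h1, hmemP']
      exact (hx (x⁻¹ * k * x)).mpr (by simpa [mul_assoc] using hk)
  let f : ↥(Subgroup.normalizer (P : Set ↥G₁)) →* ↥(Subgroup.normalizer (P' : Set G)) :=
    { toFun := fun x => ⟨((x : ↥G₁) : G), hnorm x x.2⟩
      map_one' := rfl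
      map_mul' := fun _ _ => rfl }
  let φ : ↥(Subgroup.normalizer (P : Set ↥G₁)) →*
      (↥(Subgroup.normalizer (P' : Set G)) ⧸
        (Subgroup.centralizer (P' : Set G)).subgroupOf (Subgroup.normalizer (P' : Set G))) :=
    (QuotientGroup.mk' _).comp f
  have hker : (Subgroup.centralizer (P : Set ↥G₁)).subgroupOf (Subgroup.normalizer (P : Set ↥G₁)) = φ.ker := by
    ext x
    rw [MonoidHom.mem_ker, Subgroup.mem_subgroupOf]
    show _ ↔ (QuotientGroup.mk' _) (f x) = 1
    rw [QuotientGroup.mk'_apply, QuotientGroup.eq_one_iff, Subgroup.mem_subgroupOf]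
    show _ ↔ ((x : ↥G₁) : G) ∈ Subgroup.centralizer (P' : Set G)
    rw [Subgroup.mem_centralizer_iff, Subgroup.mem_centralizer_iff]
    constructor
    · intro h k hk
      rw [hP'] at hk
      obtain ⟨k', hk', rfl⟩ := hk
      exact congrArg Subtype.val (h k' hk')
    · intro h k hk
      apply Subtype.ext
      exact h k ((hmemP' k).mpr hk)
  let e1 := QuotientGroup.quotientMulEquivOfEq hker
  let e2 := QuotientGroup.quotientKerEquivRange φ
  let e := (e1.trans e2).symm
  exact Cfsg.Agent.Lib.Helper2.SL2Sections.isPSolvable_of_surj e.toMonoidHom e.surjective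
    (Cfsg.Agent.Lib.Helper2.SL2Sections.isPSolvable_subgroup hbig φ.range)

/-- a group with `HSol`, whose normal `p`-subgroup `R` contains its centralizer in a Sylow
`p`-subgroup, is `p`-solvable -/
theorem isPSolvable_of_hsol_normal {G : Type u} [Group G] [Finite G] {p : ℕ} [hp : Fact p.Prime]
    (hs : HSol p G) (R : Subgroup G) [hRn : R.Normal] (hRp : IsPGroup p R) (S : Sylow p G)
    (hRS : R ≤ (S : Subgroup G))
    (hCS : (S : Subgroup G) ⊓ Subgroup.centralizer (R : Set G) ≤ R) : IsPSolvable p G := by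
  -- G ⧸ C is p-solvable
  have h1 : IsPSolvable p (G ⧸ Subgroup.centralizer (R : Set G)) := by
    have hbig := hs R hRp
    have hle : (Subgroup.centralizer (R : Set G)).subgroupOf (Subgroup.normalizer (R : Set G)) ≤
        (Subgroup.centralizer (R : Set G)).comap (Subgroup.normalizer (R : Set G)).subtype := le_refl _
    let ψ : (↥(Subgroup.normalizer (R : Set G)) ⧸
        (Subgroup.centralizer (R : Set G)).subgroupOf (Subgroup.normalizer (R : Set G))) →*
        G ⧸ Subgroup.centralizer (R : Set G) :=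
      QuotientGroup.map _ (Subgroup.centralizer (R : Set G)) (Subgroup.normalizer (R : Set G)).subtype hle
    have hψ : Function.Surjective ψ := by
      intro x
      obtain ⟨g, rfl⟩ := QuotientGroup.mk_surjective x
      have hg : g ∈ Subgroup.normalizer (R : Set G) := by
        rw [Subgroup.normalizer_eq_top_iff.mpr hRn]; trivial
      exact ⟨QuotientGroup.mk ⟨g, hg⟩, rfl⟩
    exact Cfsg.Agent.Lib.Helper2.SL2Sections.isPSolvable_of_surj ψ hψ hbig
  obtain ⟨C, hC, hCn⟩ : ∃ C : Subgroup G, C = Subgroup.centralizer (R : Set G) ∧ C.Normal :=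
    ⟨_, rfl, Subgroup.normal_centralizer⟩
  haveI := hCn
  have h1' : IsPSolvable p (G ⧸ C) := by subst hC; exact h1
  rw [← hC] at hCS
  clear h1
  have h1 := h1'
  -- Z = R ⊓ C
  obtain ⟨Z, hZ⟩ : ∃ Z : Subgroup G, Z = R ⊓ C := ⟨_, rfl⟩
  haveI hZn : Z.Normal := by rw [hZ]; infer_instance
  have hZC : Z ≤ C := by rw [hZ]; exact inf_le_right
  have hZp : IsPGroup p Z := by rw [hZ]; exact hRp.to_le inf_le_left
  have hZeq : Z = (S : Subgroup G) ⊓ C := by
    rw [hZ]
    apply le_antisymm
    · exact inf_le_inf_right _ hRS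
    · exact le_inf hCS inf_le_right
  -- G ⧸ Z is p-solvable
  have h2 : IsPSolvable p (G ⧸ Z) := by
    haveI : (C.map (QuotientGroup.mk' Z)).Normal :=
      Subgroup.Normal.map hCn _ (QuotientGroup.mk'_surjective Z)
    apply Cfsg.Agent.Lib.Lead.SolvPSolv.isPSolvable_of_quotient (C.map (QuotientGroup.mk' Z))
    · right
      have h3 : Nat.card Z * Nat.card (C.map (QuotientGroup.mk' Z)) = Nat.card C := by
        rw [← card_comap_mk', Subgroup.comap_map_eq, QuotientGroup.ker_mk', sup_eq_left.mpr hZC]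
      have h4 : Nat.card Z * Z.relIndex C = Nat.card C := by
        have := Subgroup.relIndex_mul_relIndex ⊥ Z C bot_le hZC
        rwa [Subgroup.relIndex_bot_left, Subgroup.relIndex_bot_left] at this
      have h5 : Nat.card (C.map (QuotientGroup.mk' Z)) = Z.relIndex C :=
        Nat.eq_of_mul_eq_mul_left Nat.card_pos (h3.trans h4.symm)
      rw [h5, hZeq, Subgroup.inf_relIndex_right]
      exact ((Nat.Prime.coprime_iff_not_dvd hp.out).mpr (not_dvd_relIndex_sylow_normal S C)).symm
    · let e := (QuotientGroup.quotientQuotientEquivQuotient Z C hZC).symm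
      exact Cfsg.Agent.Lib.Helper2.SL2Sections.isPSolvable_of_surj e.toMonoidHom e.surjective h1
  apply Cfsg.Agent.Lib.Lead.SolvPSolv.isPSolvable_of_quotient Z
  · left
    exact IsPGroup.iff_card.mp hZp
  · exact h2

end Cfsg.Agent.H9QA
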