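import Mathlib
import Cfsg.Prelude.Def_Local
import Cfsg.Agent.Lib.Helper9.QA6

set_option autoImplicit false

/-!
# Step I: a maximizer `H` with `N_G(H) < G`
-/

namespace Cfsg.Agent.H9QA

open Cfsg

universe u

/-- in a `p`-group `S`, a proper subgroup `T` is properly contained in its normalizer in `S` -/
theorem exists_normalizing_not_mem {G : Type*} [Group G] {p : ℕ} [hp : Fact p.Prime] (S T : Subgroup G)
    [Finite S] (hS : IsPGroup p S) (hTS : T ≤ S) (hne : T ≠ S) :
    ∃ s ∈ S, s ∉ T ∧ s ∈ Subgroup.normalizer (T : Set G) := by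
  haveI := hS.isNilpotent
  have hnc : NormalizerCondition ↥S := normalizerCondition_of_isNilpotent
  rw [normalizerCondition_iff_only_full_group_self_normalizing] at hnc
  by_contra hcon
  push Not at hcon
  apply hne
  have h1 : Subgroup.normalizer ((T.subgroupOf S : Subgroup ↥S) : Set ↥S) = T.subgroupOf S := by
    apply le_antisymm _ Subgroup.le_normalizer
    intro x hx
    by_contra hxT
    have hxT' : (x : G) ∉ T := fun h => hxT (Subgroup.mem_subgroupOf.mpr h)
    apply hcon x x.2 hxT'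
    haveI : Finite ↥T := Finite.of_injective (Subgroup.inclusion hTS) (Subgroup.inclusion_injective hTS)
    apply Subgroup.mem_normalizer_fintype
    intro t ht
    have := (Subgroup.mem_normalizer_iff.mp hx ⟨t, hTS ht⟩).mp (Subgroup.mem_subgroupOf.mpr ht)
    exact Subgroup.mem_subgroupOf.mp this
  have h2 := hnc _ h1
  apply le_antisymm hTS
  intro s hs
  have : (⟨s, hs⟩ : ↥S) ∈ T.subgroupOf S := by rw [h2]; trivial
  exact Subgroup.mem_subgroupOf.mp this

theorem stepI (p q : ℕ) [hp : Fact p.Prime] [hq : Fact q.Prime] {G : Type u} [Group G] [Finite G]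
    (hs : HSol p G) (S : Sylow p G)
    (ih : ∀ (G' : Type u) [Group G'] [Finite G'], Nat.card G' < Nat.card G → HSol p G' →
      ∀ S' : Sylow p G', (∃ H : Subgroup G', IsPGroup p H ∧ QAct q H) →
        ∃ K : Subgroup G', CharIn K (S' : Subgroup G') ∧ QAct q K)
    (H : Subgroup G) (hHS : H ≤ (S : Subgroup G)) (hHQ : QAct q H)
    (hmax : ∀ H' : Subgroup G, H' ≤ (S : Subgroup G) → QAct q H' →
      Nat.card ↥((S : Subgroup G) ⊓ Subgroup.normalizer (H' : Set G)) ≤
        Nat.card ↥((S : Subgroup G) ⊓ Subgroup.normalizer (H : Set G)))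
    (hHn : Subgroup.normalizer (H : Set G) ≠ ⊤) :
    ∃ K : Subgroup G, CharIn K (S : Subgroup G) ∧ QAct q K := by
  obtain ⟨N, hN⟩ : ∃ N : Subgroup G, N = Subgroup.normalizer (H : Set G) := ⟨_, rfl⟩
  obtain ⟨T, hT⟩ : ∃ T : Subgroup G, T = (S : Subgroup G) ⊓ N := ⟨_, rfl⟩
  rw [← hN] at hHn hmax
  rw [← hT] at hmax
  have hHN : H ≤ N := by rw [hN]; exact Subgroup.le_normalizer
  have hTN : T ≤ N := by rw [hT]; exact inf_le_right
  have hTS : T ≤ (S : Subgroup G) := by rw [hT]; exact inf_le_left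
  have hHT : H ≤ T := by rw [hT]; exact le_inf hHS hHN
  have hTp : IsPGroup p T := S.isPGroup'.to_le hTS
  -- a Sylow subgroup of N containing T
  have hTNp : IsPGroup p (T.subgroupOf N) := hTp.comap_subtype
  obtain ⟨T', hT'⟩ := hTNp.exists_le_sylow
  obtain ⟨X, hX⟩ : ∃ X : Subgroup G, X = (T' : Subgroup ↥N).map N.subtype := ⟨_, rfl⟩
  have hXp : IsPGroup p X := by rw [hX]; exact T'.isPGroup'.map _
  have hTX : T ≤ X := by
    intro t ht
    rw [hX]
    exact ⟨⟨t, hTN ht⟩, hT' (Subgroup.mem_subgroupOf.mpr ht), rfl⟩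
  have hXN : X ≤ N := by rw [hX]; exact Subgroup.map_subtype_le _
  obtain ⟨P, hP⟩ := hXp.exists_le_sylow
  obtain ⟨g, hg⟩ := MulAction.exists_smul_eq G S P
  have hcS : ∀ x ∈ X, g⁻¹ * x * g ∈ (S : Subgroup G) := by
    intro x hx
    have h1 : x ∈ ((g • S : Sylow p G) : Subgroup G) := by rw [hg]; exact hP hx
    rw [Sylow.coe_subgroup_smul] at h1
    have h2 := Subgroup.mem_pointwise_smul_iff_inv_smul_mem.mp h1
    simpa [MulAut.smul_def, MulAut.conj_inv_apply] using h2
  -- the conjugate H'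
  obtain ⟨H', hH'⟩ : ∃ H' : Subgroup G, H' = H.map (MulAut.conj g⁻¹).toMonoidHom := ⟨_, rfl⟩
  have hH'S : H' ≤ (S : Subgroup G) := by
    rw [hH']
    rintro _ ⟨h, hh, rfl⟩
    have := hcS h (hTX (hHT hh))
    simpa [MulAut.conj_apply] using this
  have hH'Q : QAct q H' := by rw [hH']; exact hHQ.conj g⁻¹
  have hXmap : X.map (MulAut.conj g⁻¹).toMonoidHom ≤
      (S : Subgroup G) ⊓ Subgroup.normalizer (H' : Set G) := by
    rintro _ ⟨x, hx, rfl⟩
    refine Subgroup.mem_inf.mpr ⟨?_, ?_⟩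
    · have := hcS x hx
      simpa [MulAut.conj_apply] using this
    · rw [hH']
      apply Subgroup.le_normalizer_map
      refine ⟨x, ?_, rfl⟩
      rw [← hN]; exact hXN hx
  have hcard1 : Nat.card X ≤ Nat.card T := by
    calc Nat.card X = Nat.card (X.map (MulAut.conj g⁻¹).toMonoidHom) :=
          (Subgroup.card_map_of_injective (MulAut.conj g⁻¹).injective).symm
      _ ≤ Nat.card ↥((S : Subgroup G) ⊓ Subgroup.normalizer (H' : Set G)) :=
          Subgroup.card_le_of_le hXmap
      _ ≤ Nat.card T := hmax H' hH'S hH'Q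
  have hcT' : Nat.card (T' : Subgroup ↥N) = Nat.card X := by
    rw [hX, Subgroup.card_map_of_injective N.subtype_injective]
  have hcT : Nat.card (T.subgroupOf N) = Nat.card T := by
    rw [← Subgroup.card_map_of_injective N.subtype_injective, Subgroup.subgroupOf_map_subtype,
      inf_eq_left.mpr hTN]
  have hTeq : T.subgroupOf N = (T' : Subgroup ↥N) :=
    Subgroup.eq_of_le_of_card_ge hT' (by rw [hcT', hcT]; exact hcard1)
  -- apply the induction hypothesis to N
  have hNlt : Nat.card ↥N < Nat.card G := card_lt_of_ne_top hHn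
  have hsN : HSol p ↥N := hsol_subgroup hs N
  have hQN : QAct q (H.subgroupOf N) := by
    obtain ⟨y, hy, hyc, e, he⟩ := hHQ
    have hyN : y ∈ N := by rw [hN]; exact hy
    refine ⟨⟨y, hyN⟩, ?_, ?_, e, ?_⟩
    · rw [Subgroup.mem_normalizer_iff]
      intro x
      rw [Subgroup.mem_subgroupOf, Subgroup.mem_subgroupOf]
      exact Subgroup.mem_normalizer_iff.mp hy x
    · intro hc
      apply hyc
      rw [Subgroup.mem_centralizer_iff] at hc ⊢
      intro h hh
      have := hc ⟨h, hHN hh⟩ (Subgroup.mem_subgroupOf.mpr hh)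
      exact congrArg Subtype.val this
    · apply Subtype.ext
      simpa using he
  obtain ⟨K₁, hK₁c, hK₁Q⟩ := ih ↥N hNlt hsN T'
    ⟨H.subgroupOf N, (S.isPGroup'.to_le hHS).comap_subtype, hQN⟩
  obtain ⟨K, hK⟩ : ∃ K : Subgroup G, K = K₁.map N.subtype := ⟨_, rfl⟩
  have hKQ : QAct q K := by rw [hK]; exact hK₁Q.map_subtype
  have hKc : CharIn K T := by
    have h1 := hK₁c.map_subtype
    rw [← hTeq, Subgroup.subgroupOf_map_subtype, inf_eq_left.mpr hTN, ← hK] at h1
    exact h1
  by_cases hTeqS : T = (S : Subgroup G)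
  · rw [hTeqS] at hKc
    exact ⟨K, hKc, hKQ⟩
  · exfalso
    obtain ⟨s, hsS, hsT, hsn⟩ := exists_normalizing_not_mem (S : Subgroup G) T S.isPGroup' hTS hTeqS
    have hsK : s ∈ Subgroup.normalizer (K : Set G) := hKc.normalizer_le hsn
    have hKS : K ≤ (S : Subgroup G) := hKc.1.trans hTS
    have h1 := hmax K hKS hKQ
    have hle : T ≤ (S : Subgroup G) ⊓ Subgroup.normalizer (K : Set G) :=
      le_inf hTS (Subgroup.le_normalizer.trans hKc.normalizer_le)
    have heq := Subgroup.eq_of_le_of_card_ge hle h1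
    apply hsT
    rw [heq]
    exact Subgroup.mem_inf.mpr ⟨hsS, hsK⟩

end Cfsg.Agent.H9QA
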