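import Mathlib
import Cfsg.Prelude.Def_Local
import Cfsg.Agent.Lib.Helper9.QA7

set_option autoImplicit false

/-!
# The main induction: a characteristic subgroup of the Sylow subgroup carries the `q`-action
-/

namespace Cfsg.Agent.H9QA

open Cfsg

universe u

/-- the induction hypothesis in the form used below -/
def IH (p q : ℕ) (G : Type u) [Group G] : Prop :=
  ∀ (G' : Type u) [Group G'] [Finite G'], Nat.card G' < Nat.card G → HSol p G' →
    ∀ S' : Sylow p G', (∃ H : Subgroup G', IsPGroup p H ∧ QAct q H) →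
      ∃ K : Subgroup G', CharIn K (S' : Subgroup G') ∧ QAct q K

theorem quotient_apply (p q : ℕ) [hp : Fact p.Prime] [hq : Fact q.Prime] (hpq : p ≠ q)
    {G : Type u} [Group G] [Finite G] (hG : IsPSolvable p G) (S : Sylow p G) (ih : IH p q G)
    (R : Subgroup G) [hRn : R.Normal] (hRS : R ≤ (S : Subgroup G))
    (y : G) (hyR : y ∉ Subgroup.centralizer (R : Set G)) (e : ℕ) (hye : y ^ (q ^ e) = 1)
    (K₀ Y : Subgroup G) [hYn : Y.Normal] (hK₀ : CharIn K₀ (S : Subgroup G)) (hK₀Y : K₀ ≤ Y)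
    (hSY : (S : Subgroup G) ⊓ Y ≤ K₀) (hY : Y ≠ ⊥)
    (hcent : y ∈ Subgroup.centralizer (K₀ : Set G)) :
    ∃ K : Subgroup G, CharIn K (S : Subgroup G) ∧ QAct q K := by
  have hcop : Nat.Coprime q p := (Nat.coprime_primes hq.out hp.out).mpr (Ne.symm hpq)
  -- the q-action on the image of R
  have hQ : QAct q (R.map (QuotientGroup.mk' Y)) := by
    haveI : (R.map (QuotientGroup.mk' Y)).Normal :=
      Subgroup.Normal.map hRn _ (QuotientGroup.mk'_surjective Y)
    refine ⟨QuotientGroup.mk' Y y, ?_, ?_, e, ?_⟩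
    · rw [Subgroup.normalizer_eq_top_iff.mpr inferInstance]; trivial
    · intro hc
      apply hyR
      rw [Subgroup.mem_centralizer_iff]
      intro r hr
      -- k = y r y⁻¹ r⁻¹
      obtain ⟨k, hk⟩ : ∃ k : G, k = y * r * y⁻¹ * r⁻¹ := ⟨_, rfl⟩
      have hkR : k ∈ R := by
        rw [hk]
        exact R.mul_mem (hRn.conj_mem r hr y) (R.inv_mem hr)
      have hkY : k ∈ Y := by
        rw [← QuotientGroup.eq_one_iff, hk]
        have h1 := (Subgroup.mem_centralizer_iff.mp hc) (QuotientGroup.mk' Y r) ⟨r, hr, rfl⟩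
        have h2 : (QuotientGroup.mk' Y) (y * r * y⁻¹ * r⁻¹) = 1 := by
          rw [map_mul, map_mul, map_mul, map_inv, map_inv, ← h1]
          group
        exact h2
      have hkK₀ : k ∈ K₀ := hSY (Subgroup.mem_inf.mpr ⟨hRS hkR, hkY⟩)
      have hky : k * y = y * k := (Subgroup.mem_centralizer_iff.mp hcent) k hkK₀
      have hyr : y * r * y⁻¹ = k * r := by rw [hk]; group
      have hind : ∀ j : ℕ, y ^ j * r * (y ^ j)⁻¹ = k ^ j * r := by
        intro j
        induction j with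
        | zero => simp
        | succ j ihj =>
          have hkj : y * k ^ j * y⁻¹ = k ^ j := by
            have : y * k ^ j = k ^ j * y := ((Commute.pow_left (show Commute k y from hky) j).eq).symm
            rw [this]; group
          calc y ^ (j + 1) * r * (y ^ (j + 1))⁻¹
              = y * (y ^ j * r * (y ^ j)⁻¹) * y⁻¹ := by rw [pow_succ']; group
            _ = y * (k ^ j * r) * y⁻¹ := by rw [ihj]
            _ = (y * k ^ j * y⁻¹) * (y * r * y⁻¹) := by group
            _ = k ^ j * (k * r) := by rw [hkj, hyr]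
            _ = k ^ (j + 1) * r := by rw [pow_succ]; group
      have h3 := hind (q ^ e)
      rw [hye] at h3
      have hkq : k ^ (q ^ e) = 1 := by
        have : r = k ^ (q ^ e) * r := by simpa using h3
        exact (mul_eq_right.mp this.symm)
      obtain ⟨m, hm⟩ := (IsPGroup.iff_orderOf.mp S.isPGroup') ⟨k, hRS hkR⟩
      rw [Subgroup.orderOf_mk] at hm
      have hk1 : k = 1 := by
        rw [← orderOf_eq_one_iff]
        have h4 : orderOf k ∣ q ^ e := orderOf_dvd_of_pow_eq_one hkq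
        rw [hm] at h4 ⊢
        have h5 : Nat.Coprime (p ^ m) (q ^ e) := Nat.Coprime.pow m e hcop.symm
        exact Nat.eq_one_of_dvd_coprimes h5 (dvd_refl _) h4
      rw [hk1, one_mul] at hyr
      have : y * r = r * y := by
        calc y * r = (y * r * y⁻¹) * y := by group
          _ = r * y := by rw [hyr]
      exact this.symm
    · rw [← map_pow, hye, map_one]
  -- apply the induction hypothesis to G ⧸ Y
  have hlt : Nat.card (G ⧸ Y) < Nat.card G := by
    have h1 : Nat.card G = Nat.card (G ⧸ Y) * Nat.card Y := Subgroup.card_eq_card_quotient_mul_card_subgroup Y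
    have h2 : 1 < Nat.card Y := (Subgroup.one_lt_card_iff_ne_bot Y).mpr hY
    have h3 : 0 < Nat.card (G ⧸ Y) := Nat.card_pos
    rw [h1]; nlinarith
  have hsq : HSol p (G ⧸ Y) :=
    hsol_of_isPSolvable (Cfsg.Agent.Lib.Helper7.isPSolvable_quotient hG Y)
  obtain ⟨Khat, hKc, hKQ⟩ := ih (G ⧸ Y) hlt hsq (S.mapSurjective (QuotientGroup.mk'_surjective Y))
    ⟨R.map (QuotientGroup.mk' Y), (S.isPGroup'.to_le hRS).map _, hQ⟩
  rw [Sylow.coe_mapSurjective] at hKc
  exact quotient_step S K₀ Y hK₀ hK₀Y hSY Khat hKc hKQ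

theorem normalizer_sup_of_normal {G : Type*} [Group G] (A B : Subgroup G) [hA : A.Normal] (g : G)
    (hg : g ∈ Subgroup.normalizer (B : Set G)) : g ∈ Subgroup.normalizer ((A ⊔ B : Subgroup G) : Set G) := by
  rw [Subgroup.mem_normalizer_iff_map_conj_eq] at hg ⊢
  rw [Subgroup.map_sup, hg]
  congr 1
  apply le_antisymm
  · rintro _ ⟨a, ha, rfl⟩
    exact hA.conj_mem a ha g
  · intro a ha
    refine ⟨g⁻¹ * a * g, ?_, ?_⟩
    · have := hA.conj_mem a ha g⁻¹
      simpa using this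
    · simp [MulAut.conj_apply, mul_assoc]

theorem thmA (p q : ℕ) [hp : Fact p.Prime] [hq : Fact q.Prime] (hpq : p ≠ q)
    (h23 : ¬ ((p = 2 ∧ q = 3) ∨ (p = 3 ∧ q = 2))) :
    ∀ n : ℕ, ∀ (G : Type u) [Group G] [Finite G], Nat.card G = n → HSol p G → ∀ S : Sylow p G,
      (∃ H : Subgroup G, IsPGroup p H ∧ QAct q H) →
        ∃ K : Subgroup G, CharIn K (S : Subgroup G) ∧ QAct q K := by
  intro n
  induction n using Nat.strong_induction_on with
  | _ n ihn =>
  intro G _ _ hn hs S hex0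
  obtain ⟨H₀, hH₀p, hH₀Q⟩ := hex0
  have hcop : Nat.Coprime q p := (Nat.coprime_primes hq.out hp.out).mpr (Ne.symm hpq)
  have ih : IH p q G := fun G' _ _ hlt hs' S' h => ihn _ (hn ▸ hlt) G' rfl hs' S' h
  -- Step 0: conjugate into S
  obtain ⟨H₁, hH₁S, hH₁Q⟩ : ∃ H₁ : Subgroup G, H₁ ≤ (S : Subgroup G) ∧ QAct q H₁ := by
    obtain ⟨P, hP⟩ := hH₀p.exists_le_sylow
    obtain ⟨g, hg⟩ := MulAction.exists_smul_eq G P S
    refine ⟨H₀.map (MulAut.conj g).toMonoidHom, ?_, hH₀Q.conj g⟩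
    rw [← hg, Sylow.coe_subgroup_smul]
    rintro _ ⟨h, hh, rfl⟩
    exact Subgroup.smul_mem_pointwise_smul _ _ _ (hP hh)
  -- Step 1: a maximizer
  obtain ⟨H, ⟨hHS, hHQ⟩, hHmax⟩ := Set.exists_max_image
    {H : Subgroup G | H ≤ (S : Subgroup G) ∧ QAct q H}
    (fun H => Nat.card ↥((S : Subgroup G) ⊓ Subgroup.normalizer (H : Set G)))
    (Set.toFinite _) ⟨H₁, hH₁S, hH₁Q⟩
  have hmax : ∀ H' : Subgroup G, H' ≤ (S : Subgroup G) → QAct q H' →
      Nat.card ↥((S : Subgroup G) ⊓ Subgroup.normalizer (H' : Set G)) ≤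
        Nat.card ↥((S : Subgroup G) ⊓ Subgroup.normalizer (H : Set G)) :=
    fun H' h1 h2 => hHmax H' ⟨h1, h2⟩
  by_cases hHn : Subgroup.normalizer (H : Set G) = ⊤
  swap
  · exact stepI p q hs S ih H hHS hHQ hmax hHn
  -- Step II: H is normal
  have hHnormal : H.Normal := Subgroup.normalizer_eq_top_iff.mp hHn
  have hHp : IsPGroup p H := S.isPGroup'.to_le hHS
  obtain ⟨R, hR⟩ : ∃ R : Subgroup G, R = pCore p G := ⟨_, rfl⟩
  haveI hRn : R.Normal := by rw [hR]; exact Cfsg.Agent.Lib.Lead.pCore_normal p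
  have hRp : IsPGroup p R := by rw [hR]; exact Cfsg.Agent.Lib.Lead.pCore_isPGroup p
  have hRS : R ≤ (S : Subgroup G) := by
    rw [hR, Cfsg.Agent.Lib.Lead.pCore_eq_iInf_sylow]; exact iInf_le _ S
  have hHR : H ≤ R := by rw [hR]; exact Cfsg.Agent.Lib.Lead.le_pCore hHnormal hHp
  obtain ⟨y, hy, hyc, e, he⟩ := hHQ
  have hyR : y ∉ Subgroup.centralizer (R : Set G) := fun h => hyc (Subgroup.centralizer_le hHR h)
  obtain ⟨C, hC, hCn⟩ : ∃ C : Subgroup G, C = Subgroup.centralizer (R : Set G) ∧ C.Normal :=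
    ⟨_, rfl, Subgroup.normal_centralizer⟩
  haveI := hCn
  rw [← hC] at hyR
  have hidx : ¬ p ∣ ((S : Subgroup G) ⊓ C).relIndex C := by
    rw [Subgroup.inf_relIndex_right]; exact not_dvd_relIndex_sylow_normal S C
  obtain ⟨l, hlC, hln⟩ := frattini_elem C ((S : Subgroup G) ⊓ C) inf_le_right
    (S.isPGroup'.to_le inf_le_left) hidx y
    (by rw [Subgroup.normalizer_eq_top_iff.mpr hCn]; trivial)
  obtain ⟨n', hn'⟩ : ∃ n' : G, n' = l * y := ⟨_, rfl⟩
  rw [← hn'] at hln
  have hnC : n' ∉ C := by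
    intro h
    apply hyR
    have : y = l⁻¹ * n' := by rw [hn']; group
    rw [this]
    exact C.mul_mem (C.inv_mem hlC) h
  have hnCe : n' ^ (q ^ e) ∈ C := by
    rw [← QuotientGroup.eq_one_iff, QuotientGroup.mk_pow, hn', QuotientGroup.mk_mul,
      (QuotientGroup.eq_one_iff l).mpr hlC, one_mul, ← QuotientGroup.mk_pow, he, QuotientGroup.mk_one]
  obtain ⟨m, e', hm, hm'⟩ := exists_pow_qElement C hnC hnCe
  obtain ⟨R₁, hR₁⟩ : ∃ R₁ : Subgroup G, R₁ = R ⊔ ((S : Subgroup G) ⊓ C) := ⟨_, rfl⟩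
  have hRR₁ : R ≤ R₁ := by rw [hR₁]; exact le_sup_left
  have hR₁S : R₁ ≤ (S : Subgroup G) := by rw [hR₁]; exact sup_le hRS inf_le_left
  have hQR₁ : QAct q R₁ := by
    refine ⟨n' ^ m, Subgroup.pow_mem _ ?_ m, ?_, e', hm'⟩
    · rw [hR₁]; exact normalizer_sup_of_normal R _ n' hln
    · intro h
      apply hm
      rw [hC]
      exact Subgroup.centralizer_le hRR₁ h
  have hSR₁ : (S : Subgroup G) ≤ Subgroup.normalizer (R₁ : Set G) := by
    intro s hs
    rw [hR₁]
    apply normalizer_sup_of_normal R _ s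
    apply Subgroup.mem_normalizer_fintype
    intro x hx
    have hx' := Subgroup.mem_inf.mp hx
    exact Subgroup.mem_inf.mpr ⟨(S : Subgroup G).mul_mem ((S : Subgroup G).mul_mem hs hx'.1)
      ((S : Subgroup G).inv_mem hs), hCn.conj_mem x hx'.2 s⟩
  have hmaxR₁ : ∀ H' : Subgroup G, H' ≤ (S : Subgroup G) → QAct q H' →
      Nat.card ↥((S : Subgroup G) ⊓ Subgroup.normalizer (H' : Set G)) ≤
        Nat.card ↥((S : Subgroup G) ⊓ Subgroup.normalizer (R₁ : Set G)) := by
    intro H' _ _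
    rw [inf_eq_left.mpr hSR₁]
    exact Subgroup.card_le_of_le inf_le_left
  by_cases hR₁n : Subgroup.normalizer (R₁ : Set G) = ⊤
  swap
  · exact stepI p q hs S ih R₁ hR₁S hQR₁ hmaxR₁ hR₁n
  have hCS : (S : Subgroup G) ⊓ C ≤ R := by
    have h1 : R₁ ≤ R := by
      rw [hR]
      exact Cfsg.Agent.Lib.Lead.le_pCore (Subgroup.normalizer_eq_top_iff.mp hR₁n) (S.isPGroup'.to_le hR₁S)
    exact le_trans (by rw [hR₁]; exact le_sup_right) h1
  have hG : IsPSolvable p G := isPSolvable_of_hsol_normal hs R hRp S hRS (by rw [← hC]; exact hCS)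
  have hy1 : y ≠ 1 := by
    rintro rfl
    exact hyR (C.one_mem)
  have hqG : q ∣ Nat.card G := by
    have h1 : orderOf y ∣ q ^ e := orderOf_dvd_of_pow_eq_one he
    obtain ⟨j, -, hj⟩ := (Nat.dvd_prime_pow hq.out).mp h1
    have hj0 : j ≠ 0 := by
      rintro rfl
      rw [pow_zero, orderOf_eq_one_iff] at hj
      exact hy1 hj
    have : q ∣ orderOf y := by rw [hj]; exact dvd_pow_self q hj0
    exact this.trans (orderOf_dvd_natCard y)
  by_cases hO : pPrimeCore p G = ⊥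
  · have hc : Subgroup.centralizer (R : Set G) ≤ R := by
      rw [hR]; exact Cfsg.Agent.Lib.Helper4.centralizer_pCore_le_of_isPSolvable hG hO
    by_cases hex : ∃ G₁ : Subgroup G, (S : Subgroup G) ≤ G₁ ∧ q ∣ Nat.card G₁ ∧ G₁ ≠ ⊤
    · obtain ⟨G₁, hS1, hq1, hne⟩ := hex
      have hlt := card_lt_of_ne_top hne
      have hG₁ : IsPSolvable p ↥G₁ := Cfsg.Agent.Lib.Helper2.SL2Sections.isPSolvable_subgroup hG G₁
      obtain ⟨x₁, hx₁⟩ := exists_prime_orderOf_dvd_card' q hq1
      have hQ1 : QAct q (R.subgroupOf G₁) := by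
        refine ⟨x₁, ?_, ?_, 1, ?_⟩
        · haveI : (R.subgroupOf G₁).Normal := Subgroup.normal_subgroupOf
          rw [Subgroup.normalizer_eq_top_iff.mpr inferInstance]; trivial
        · intro hcx
          have h1 : (x₁ : G) ∈ Subgroup.centralizer (R : Set G) := by
            rw [Subgroup.mem_centralizer_iff] at hcx ⊢
            intro r hr
            have := hcx ⟨r, hS1 (hRS hr)⟩ (Subgroup.mem_subgroupOf.mpr hr)
            exact congrArg Subtype.val this
          have h2 : (x₁ : G) ∈ R := hc h1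
          obtain ⟨k, hk⟩ := (IsPGroup.iff_orderOf.mp hRp) ⟨(x₁ : G), h2⟩
          rw [Subgroup.orderOf_mk, Subgroup.orderOf_coe, hx₁] at hk
          have : q ∣ p ^ k := by rw [← hk]
          exact hpq ((Nat.prime_dvd_prime_iff_eq hq.out hp.out).mp (hq.out.dvd_of_dvd_pow this)).symm
        · rw [pow_one, ← hx₁]; exact pow_orderOf_eq_one _
      obtain ⟨K₁, hK₁c, hK₁Q⟩ := ih ↥G₁ hlt (hsol_of_isPSolvable hG₁) (S.subtype hS1)
        ⟨R.subgroupOf G₁, hRp.comap_subtype, hQ1⟩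
      refine ⟨K₁.map G₁.subtype, ?_, hK₁Q.map_subtype⟩
      have h1 := hK₁c.map_subtype
      rw [Sylow.coe_subtype, Subgroup.subgroupOf_map_subtype, inf_eq_left.mpr hS1] at h1
      exact h1
    · push Not at hex
      obtain ⟨G₁, hS1, hq1, a, b, hab⟩ := exists_pq_overgroup p q hpq _ G rfl hG S hqG
      have hG₁top := hex G₁ hS1 hq1
      have hcard : IsPQ p q (Nat.card G) := ⟨a, b, by rw [← hab, hG₁top, Subgroup.card_top]⟩
      obtain ⟨K₀, hK₀ne, hK₀n, hK₀c⟩ := exists_normal_charIn p q hpq h23 hG hO S hcard hqG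
        (fun G₁ h1 h2 => hex G₁ h1 h2)
      by_cases hK₀Q : QAct q K₀
      · exact ⟨K₀, hK₀c, hK₀Q⟩
      · have hcent : y ∈ Subgroup.centralizer (K₀ : Set G) := by
          by_contra h
          exact hK₀Q ⟨y, by rw [Subgroup.normalizer_eq_top_iff.mpr hK₀n]; trivial, h, e, he⟩
        haveI := hK₀n
        rw [hC] at hyR
        exact quotient_apply p q hpq hG S ih R hRS y hyR e he K₀ K₀ hK₀c le_rfl inf_le_right hK₀ne hcent
  · haveI : (pPrimeCore p G).Normal := Cfsg.Agent.Lib.Helper7.SylNorm.pPrimeCore_normal' p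
    have hSY : (S : Subgroup G) ⊓ pPrimeCore p G ≤ ⊥ :=
      le_of_eq (Cfsg.Agent.Lib.Helper6.isPGroup_inf_coprime_eq_bot
        (Cfsg.Agent.Lib.Helper6.pPrimeCore_coprime p) S.isPGroup')
    rw [hC] at hyR
    exact quotient_apply p q hpq hG S ih R hRS y hyR e he ⊥ (pPrimeCore p G) (charIn_bot _) bot_le hSY hO
      (by rw [Subgroup.mem_centralizer_iff]; intro h hh; rw [Subgroup.mem_bot.mp hh]; simp)

end Cfsg.Agent.H9QA
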