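import Mathlib
import Cfsg.Prelude

set_option autoImplicit false

namespace Cfsg.Agent.H9QD

open Matrix

variable {p : ℕ} [Fact p.Prime]

/-- The affine matrix with linear part `A` and translation part `w`. -/
def affMat (A : Matrix (Fin 2) (Fin 2) (ZMod p)) (w : Fin 2 → ZMod p) : Matrix (Fin 3) (Fin 3) (ZMod p) :=
  !![A 0 0, A 0 1, w 0; A 1 0, A 1 1, w 1; 0, 0, 1]

theorem det_affMat (A : Matrix (Fin 2) (Fin 2) (ZMod p)) (w : Fin 2 → ZMod p) :
    (affMat A w).det = A.det := by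
  rw [Matrix.det_fin_three, Matrix.det_fin_two]
  simp [affMat]

theorem affMat_mul (A A' : Matrix (Fin 2) (Fin 2) (ZMod p)) (w w' : Fin 2 → ZMod p) :
    affMat A w * affMat A' w' = affMat (A * A') (w + A *ᵥ w') := by
  ext i j
  fin_cases i <;> fin_cases j <;>
    simp [affMat, Matrix.mul_apply, Fin.sum_univ_three, Matrix.mulVec, dotProduct, Fin.sum_univ_two] <;> ring

theorem affMat_one : affMat (1 : Matrix (Fin 2) (Fin 2) (ZMod p)) 0 = 1 := by
  ext i j
  fin_cases i <;> fin_cases j <;> simp [affMat]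

/-- The element of `Qd(p)` with linear part `M` and translation part `w`. -/
def qdMk (M : Matrix.SpecialLinearGroup (Fin 2) (ZMod p)) (w : Fin 2 → ZMod p) : ↥(Cfsg.qd p) :=
  ⟨⟨affMat M.1 w, by rw [det_affMat]; exact M.2⟩, Subgroup.subset_closure
    ⟨by simp [affMat], by simp [affMat], by simp [affMat]⟩⟩

theorem qdMk_mul (M M' : Matrix.SpecialLinearGroup (Fin 2) (ZMod p)) (w w' : Fin 2 → ZMod p) :
    qdMk M w * qdMk M' w' = qdMk (M * M') (w + M.1 *ᵥ w') := by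
  apply Subtype.ext
  apply Subtype.ext
  show affMat M.1 w * affMat M'.1 w' = affMat (M * M').1 (w + M.1 *ᵥ w')
  rw [affMat_mul]
  rfl

theorem qdMk_one : qdMk (1 : Matrix.SpecialLinearGroup (Fin 2) (ZMod p)) 0 = 1 := by
  apply Subtype.ext
  apply Subtype.ext
  show affMat (1 : Matrix.SpecialLinearGroup (Fin 2) (ZMod p)).1 0 = 1
  exact affMat_one

/-- The translation part of an element of `Qd(p)`. -/
def trans (x : ↥(Cfsg.qd p)) : Fin 2 → ZMod p := fun i => x.1.1 (Fin.castSucc i) 2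

theorem trans_qdMk (M : Matrix.SpecialLinearGroup (Fin 2) (ZMod p)) (w : Fin 2 → ZMod p) :
    trans (qdMk M w) = w := by
  funext i
  show affMat M.1 w (Fin.castSucc i) 2 = w i
  fin_cases i <;> simp [affMat]

/-- Every element of `Qd(p)` is of the form `qdMk M w`. -/
theorem exists_eq_qdMk (x : ↥(Cfsg.qd p)) :
    ∃ (M : Matrix.SpecialLinearGroup (Fin 2) (ZMod p)) (w : Fin 2 → ZMod p), x = qdMk M w := by
  obtain ⟨x, hx⟩ := x
  suffices h : ∃ (M : Matrix.SpecialLinearGroup (Fin 2) (ZMod p)) (w : Fin 2 → ZMod p),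
      x = (qdMk M w : ↥(Cfsg.qd p)).1 by
    obtain ⟨M, w, h⟩ := h
    exact ⟨M, w, Subtype.ext h⟩
  unfold Cfsg.qd at hx
  induction hx using Subgroup.closure_induction with
  | mem y hy =>
    obtain ⟨h0, h1, h2⟩ := hy
    have hdet := y.2
    rw [Matrix.det_fin_three] at hdet
    rw [h0, h1, h2] at hdet
    have hd : (!![y.1 0 0, y.1 0 1; y.1 1 0, y.1 1 1] : Matrix (Fin 2) (Fin 2) (ZMod p)).det = 1 := by
      rw [Matrix.det_fin_two]
      simp only [Matrix.of_apply, Matrix.cons_val', Matrix.cons_val_zero, Matrix.cons_val_one,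
        Matrix.empty_val', Matrix.cons_val_fin_one]
      linear_combination hdet
    refine ⟨⟨_, hd⟩, fun i => y.1 (Fin.castSucc i) 2, ?_⟩
    apply Subtype.ext
    unfold qdMk
    ext i j
    fin_cases i <;> fin_cases j <;> simp [affMat, h0, h1, h2]
  | one => exact ⟨1, 0, by rw [qdMk_one (p := p)]; rfl⟩
  | mul a b _ _ ha hb =>
    obtain ⟨M, w, rfl⟩ := ha
    obtain ⟨M', w', rfl⟩ := hb
    exact ⟨M * M', w + M.1 *ᵥ w', by rw [← qdMk_mul]; rfl⟩
  | inv a _ ha =>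
    obtain ⟨M, w, rfl⟩ := ha
    refine ⟨M⁻¹, -(M⁻¹.1 *ᵥ w), ?_⟩
    have h1 : qdMk M w * qdMk M⁻¹ (-(M⁻¹.1 *ᵥ w)) = 1 := by
      rw [qdMk_mul, mul_inv_cancel]
      have : w + M.1 *ᵥ (-(M⁻¹.1 *ᵥ w)) = 0 := by
        rw [Matrix.mulVec_neg, Matrix.mulVec_mulVec]
        have h2 : M.1 * M⁻¹.1 = 1 := by
          have := congrArg Subtype.val (mul_inv_cancel M)
          exact this
        rw [h2, Matrix.one_mulVec, add_neg_cancel]
      rw [this, qdMk_one]
    have h2 : (qdMk M w)⁻¹ = qdMk M⁻¹ (-(M⁻¹.1 *ᵥ w)) := inv_eq_of_mul_eq_one_right h1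
    rw [← h2]
    rfl

end Cfsg.Agent.H9QD
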