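import Mathlib
import Cfsg.Prelude
import Cfsg.Agent.Lib.Helper9.QD1
import Cfsg.Agent.Lib.Helper9.Sections

set_option autoImplicit false

namespace Cfsg.Agent.H9QD

open Matrix Cfsg.Agent.Lib.Helper9

variable {p : ℕ} [Fact p.Prime]

theorem sl2_eq_one_of_mulVec (M : Matrix.SpecialLinearGroup (Fin 2) (ZMod p))
    (h : ∀ w : Fin 2 → ZMod p, M.1 *ᵥ w = w) : M = 1 := by
  apply Subtype.ext
  ext i j
  have h1 := congrFun (h (Pi.single j 1)) i
  rw [Matrix.mulVec_single_one] at h1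
  show M.1 i j = (1 : Matrix (Fin 2) (Fin 2) (ZMod p)) i j
  rw [Matrix.one_apply]
  rw [Pi.single_apply] at h1
  simpa [eq_comm] using h1

theorem two_pow_smul_eq_zero (hp : p ≠ 2) (k : ℕ) (w : Fin 2 → ZMod p) (h : (2 ^ k) • w = 0) : w = 0 := by
  have h2 : ((2 ^ k : ℕ) : ZMod p) ≠ 0 := by
    intro h0
    rw [ZMod.natCast_eq_zero_iff] at h0
    have h3 := (Nat.Prime.dvd_of_dvd_pow Fact.out h0)
    exact hp ((Nat.prime_dvd_prime_iff_eq Fact.out Nat.prime_two).mp h3)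
  funext i
  have h1 := congrFun h i
  simp only [Pi.smul_apply, Pi.zero_apply, nsmul_eq_mul] at h1
  rcases mul_eq_zero.mp h1 with h4 | h4
  · exact absurd h4 h2
  · exact h4

end Cfsg.Agent.H9QD

namespace Cfsg.Agent.H9QD

open Matrix Cfsg.Agent.Lib.Helper9

variable {p : ℕ} [Fact p.Prime]

/-- **Abstract recognition of a `Qd(p)` section.** -/
theorem isSectionOf_qd_of_action {N : Type*} [Group N] [Finite N] (hp : p ≠ 2)
    (V : Subgroup N) [hVn : V.Normal]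
    (θ : N → (Fin 2 → ZMod p))
    (hθmul : ∀ a ∈ V, ∀ b ∈ V, θ (a * b) = θ a + θ b)
    (hθsurj : ∀ w, ∃ v ∈ V, θ v = w)
    (ρ : N →* Matrix.SpecialLinearGroup (Fin 2) (ZMod p)) (hρ : Function.Surjective ρ)
    (hact : ∀ (n : N), ∀ v ∈ V, θ (n * v * n⁻¹) = (ρ n).1 *ᵥ θ v) :
    IsSectionOf (↥(Cfsg.qd p)) N := by
  classical
  -- basic facts on θ
  have hθ1 : θ 1 = 0 := by
    have h := hθmul 1 V.one_mem 1 V.one_mem
    rw [mul_one] at h
    have h2 : θ 1 + 0 = θ 1 + θ 1 := by rw [add_zero]; exact h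
    exact (add_left_cancel h2).symm
  have hθinv : ∀ a ∈ V, θ a⁻¹ = - θ a := by
    intro a ha
    have h := hθmul a ha a⁻¹ (V.inv_mem ha)
    rw [mul_inv_cancel, hθ1] at h
    exact (neg_eq_of_add_eq_zero_right h.symm).symm
  have hθpow : ∀ a ∈ V, ∀ k : ℕ, θ (a ^ k) = k • θ a := by
    intro a ha k
    induction k with
    | zero => rw [pow_zero, zero_smul]; exact hθ1
    | succ k ih => rw [pow_succ, hθmul _ (V.pow_mem ha k) _ ha, ih, succ_nsmul]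
  -- `V ≤ ker ρ`
  have hρV : ∀ v ∈ V, ρ v = 1 := by
    intro v hv
    apply sl2_eq_one_of_mulVec
    intro w
    obtain ⟨u, hu, rfl⟩ := hθsurj w
    rw [← hact v u hu, hθmul _ (V.mul_mem hv hu) _ (V.inv_mem hv), hθmul _ hv _ hu, hθinv v hv]
    abel
  -- the central involution
  set negI : Matrix.SpecialLinearGroup (Fin 2) (ZMod p) := -1 with hnegI
  have hcomm : ∀ g : Matrix.SpecialLinearGroup (Fin 2) (ZMod p), g * negI = negI * g := by
    intro g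
    rw [hnegI, mul_neg, mul_one, neg_mul, one_mul]
  have hcommz : ∀ (j : ℤ) (g : Matrix.SpecialLinearGroup (Fin 2) (ZMod p)), g * negI ^ j = negI ^ j * g := by
    intro j g
    exact ((Commute.zpow_right (hcomm g) j)).eq
  haveI hZn : (Subgroup.zpowers negI).Normal := by
    constructor
    intro n hn g
    obtain ⟨j, rfl⟩ := Subgroup.mem_zpowers_iff.mp hn
    rw [hcommz j g, mul_assoc, mul_inv_cancel, mul_one]
    exact Subgroup.zpow_mem_zpowers negI j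
  set D₁ : Subgroup N := (Subgroup.zpowers negI).comap ρ with hD₁
  haveI hD₁n : D₁.Normal := Subgroup.Normal.comap hZn ρ
  -- a 2-element mapping to `-1`
  obtain ⟨t₀, ht₀⟩ := hρ negI
  have hord : orderOf t₀ ≠ 0 := (orderOf_pos t₀).ne'
  obtain ⟨a, m, hm, hord2⟩ := Nat.exists_eq_two_pow_mul_odd hord
  set t₂ : N := t₀ ^ m with ht₂
  have ht₂pow : t₂ ^ (2 ^ a) = 1 := by
    rw [ht₂, ← pow_mul, mul_comm, ← hord2, pow_orderOf_eq_one]
  have hρt₂ : ρ t₂ = negI := by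
    rw [ht₂, map_pow, ht₀, hnegI, hm.neg_one_pow]
  have ht₂D : t₂ ∈ D₁ := by
    rw [hD₁, Subgroup.mem_comap, hρt₂]
    exact Subgroup.mem_zpowers negI
  have hP₂ : IsPGroup 2 (Subgroup.zpowers (⟨t₂, ht₂D⟩ : D₁)) := by
    rintro ⟨g, hg⟩
    obtain ⟨j, rfl⟩ := Subgroup.mem_zpowers_iff.mp hg
    refine ⟨a, ?_⟩
    apply Subtype.ext
    apply Subtype.ext
    simp only [Subgroup.coe_pow, Subgroup.coe_zpow, OneMemClass.coe_one]
    rw [← zpow_natCast, ← _root_.zpow_mul, mul_comm, _root_.zpow_mul, zpow_natCast, ht₂pow, _root_.one_zpow]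
  obtain ⟨T₂, hT₂⟩ := hP₂.exists_le_sylow
  set T : Subgroup N := (T₂ : Subgroup D₁).map D₁.subtype with hT
  have ht₂T : t₂ ∈ T := by
    rw [hT]
    exact ⟨⟨t₂, ht₂D⟩, hT₂ (Subgroup.mem_zpowers _), rfl⟩
  have hT2 : ∀ c ∈ T, ∃ k : ℕ, c ^ (2 ^ k) = 1 := by
    rintro _ ⟨c, hc, rfl⟩
    obtain ⟨k, hk⟩ := T₂.isPGroup' ⟨c, hc⟩
    refine ⟨k, ?_⟩
    have h1 := congrArg Subtype.val hk
    simp only [Subgroup.coe_pow, OneMemClass.coe_one] at h1
    have h2 := congrArg Subtype.val h1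
    simpa using h2
  set Y : Subgroup N := Subgroup.normalizer (T : Set N) with hY
  have hfrat : Y ⊔ D₁ = ⊤ := Sylow.normalizer_sup_eq_top T₂
  have hTY : T ≤ Y := Subgroup.le_normalizer
  -- key: `V ⊓ Y ≤ ker θ`
  have hkey : ∀ u ∈ V, u ∈ Y → θ u = 0 := by
    intro u hu huY
    have hc1 : t₂ * u * t₂⁻¹ * u⁻¹ ∈ T := by
      have h1 : u * t₂⁻¹ * u⁻¹ ∈ T :=
        (Subgroup.mem_normalizer_iff.mp huY t₂⁻¹).mp (T.inv_mem ht₂T)
      have h2 : t₂ * u * t₂⁻¹ * u⁻¹ = t₂ * (u * t₂⁻¹ * u⁻¹) := by group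
      rw [h2]
      exact T.mul_mem ht₂T h1
    have hc2 : t₂ * u * t₂⁻¹ ∈ V := hVn.conj_mem u hu t₂
    obtain ⟨k, hk⟩ := hT2 _ hc1
    have h3 : θ (t₂ * u * t₂⁻¹ * u⁻¹) = 0 := by
      apply two_pow_smul_eq_zero hp k
      rw [← hθpow _ (V.mul_mem hc2 (V.inv_mem hu)), hk, hθ1]
    rw [hθmul _ hc2 _ (V.inv_mem hu), hact t₂ u hu, hρt₂, hθinv u hu] at h3
    have h4 : (negI.1 : Matrix (Fin 2) (Fin 2) (ZMod p)) = -1 := by
      rw [hnegI]; rfl
    rw [h4, Matrix.neg_mulVec, Matrix.one_mulVec] at h3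
    have h5 : (2 ^ 1) • θ u = 0 := by
      rw [pow_one, two_nsmul]
      have h6 : -(- θ u + - θ u) = 0 := by rw [h3, neg_zero]
      rw [neg_add, neg_neg] at h6
      exact h6
    exact two_pow_smul_eq_zero hp 1 _ h5
  -- the subgroup `K = V ⊔ Y` and decomposition
  set K : Subgroup N := V ⊔ Y with hK
  have hdec : ∀ k : K, ∃ v ∈ V, ∃ y ∈ Y, (k : N) = v * y := by
    intro k
    have h1 : (k : N) ∈ ((V ⊔ Y : Subgroup N) : Set N) := k.2
    rw [Subgroup.normal_mul] at h1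
    obtain ⟨v, hv, y, hy, h⟩ := Set.mem_mul.mp h1
    exact ⟨v, hv, y, hy, h.symm⟩
  choose vf hvf yf hyf hvy using hdec
  have hwd : ∀ (k : K), ∀ v ∈ V, ∀ y ∈ Y, (k : N) = v * y → θ (vf k) = θ v := by
    intro k v hv y hy h
    have h1 : v⁻¹ * vf k = y * (yf k)⁻¹ := by
      have h2 : vf k * yf k = v * y := (hvy k).symm.trans h
      have h3 : vf k = v * y * (yf k)⁻¹ := eq_mul_inv_of_mul_eq h2
      rw [h3]; group
    have h2 : θ (v⁻¹ * vf k) = 0 :=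
      hkey _ (V.mul_mem (V.inv_mem hv) (hvf k)) (by rw [h1]; exact Y.mul_mem hy (Y.inv_mem (hyf k)))
    rw [hθmul _ (V.inv_mem hv) _ (hvf k), hθinv v hv] at h2
    have h3 : θ (vf k) = θ v := by
      have := congrArg (fun z => θ v + z) h2
      simp only [add_zero] at this
      rw [← this]; abel
    exact h3
  have hρvy : ∀ k : K, ρ (k : N) = ρ (yf k) := by
    intro k
    rw [hvy k, map_mul, hρV _ (hvf k), one_mul]
  let Φ : K →* ↥(Cfsg.qd p) := MonoidHom.mk' (fun k => qdMk (ρ (k : N)) (θ (vf k))) (by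
    intro k k'
    rw [qdMk_mul]
    have h1 : ((k * k' : K) : N) = (vf k * (yf k * vf k' * (yf k)⁻¹)) * (yf k * yf k') := by
      rw [Subgroup.coe_mul, hvy k, hvy k']
      have := hvy k
      have := hvy k'
      group
    have hc : yf k * vf k' * (yf k)⁻¹ ∈ V := hVn.conj_mem _ (hvf k') _
    have h2 := hwd (k * k') _ (V.mul_mem (hvf k) hc) _ (Y.mul_mem (hyf k) (hyf k')) h1
    rw [h2, hθmul _ (hvf k) _ hc, hact _ _ (hvf k'), ← hρvy k]
    congr 1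
    rw [Subgroup.coe_mul, map_mul])
  refine ⟨K, Φ, ?_⟩
  intro z
  obtain ⟨M, w, rfl⟩ := exists_eq_qdMk z
  obtain ⟨v, hv, rfl⟩ := hθsurj w
  obtain ⟨n, rfl⟩ := hρ M
  have hn : n ∈ ((Y ⊔ D₁ : Subgroup N) : Set N) := by rw [hfrat]; exact Set.mem_univ _
  rw [Subgroup.mul_normal] at hn
  obtain ⟨y, hy, d, hd, rfl⟩ := Set.mem_mul.mp hn
  obtain ⟨j, hj⟩ := Subgroup.mem_zpowers_iff.mp (Subgroup.mem_comap.mp hd)
  have hy' : y * t₂ ^ j ∈ Y := Y.mul_mem hy (Y.zpow_mem (hTY ht₂T) j)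
  have hk : v * (y * t₂ ^ j) ∈ K := Subgroup.mul_mem_sup hv hy'
  refine ⟨⟨v * (y * t₂ ^ j), hk⟩, ?_⟩
  show qdMk (ρ (v * (y * t₂ ^ j))) (θ (vf ⟨v * (y * t₂ ^ j), hk⟩)) = _
  rw [hwd ⟨v * (y * t₂ ^ j), hk⟩ v hv _ hy' rfl]
  congr 1
  rw [map_mul, hρV v hv, one_mul, map_mul, map_mul, map_zpow, hρt₂, hj]

end Cfsg.Agent.H9QD
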