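import Mathlib
import Cfsg.Prelude
import Cfsg.Agent.Lib.Helper9.QD2
import Cfsg.Agent.Lib.Helper9.FusionMorph5

set_option autoImplicit false

namespace Cfsg.Agent.H9QD

open Matrix Cfsg.Agent.Lib.Helper9

variable {p : ℕ} [Fact p.Prime]

/-- A *natural `SL₂(p)`-section datum* at the subgroup `Q` of `X`: a subgroup `Q₁ ≤ Q` with a map `θ` onto
`𝔽_p²`, additive on `Q₁`, such that every matrix of `SL₂(p)` is induced (through `θ`) by conjugation with an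
element of `N_X(Q)` stabilizing `Q₁`. -/
def QdDatum (p : ℕ) {X : Type*} [Group X] (Q : Subgroup X) : Prop :=
  ∃ (Q₁ : Subgroup X) (θ : X → (Fin 2 → ZMod p)), Q₁ ≤ Q ∧
    (∀ a ∈ Q₁, ∀ b ∈ Q₁, θ (a * b) = θ a + θ b) ∧ (∀ w, ∃ v ∈ Q₁, θ v = w) ∧
    ∀ M : Matrix.SpecialLinearGroup (Fin 2) (ZMod p), ∃ g : X, g ∈ Subgroup.normalizer (Q : Set X) ∧
      ∀ v ∈ Q₁, g * v * g⁻¹ ∈ Q₁ ∧ θ (g * v * g⁻¹) = M.1 *ᵥ θ v

theorem sl2_eq_of_mulVec (M M' : Matrix.SpecialLinearGroup (Fin 2) (ZMod p))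
    (h : ∀ w : Fin 2 → ZMod p, M.1 *ᵥ w = M'.1 *ᵥ w) : M = M' := by
  have h1 : M⁻¹ * M' = 1 := by
    apply sl2_eq_one_of_mulVec
    intro w
    show (M⁻¹.1 * M'.1) *ᵥ w = w
    rw [← Matrix.mulVec_mulVec, ← h w, Matrix.mulVec_mulVec]
    have h2 : M⁻¹.1 * M.1 = 1 := congrArg Subtype.val (inv_mul_cancel M)
    rw [h2, Matrix.one_mulVec]
  exact (inv_mul_eq_one.mp h1)

/-- A datum in a finite group gives a `Qd(p)` section. -/
theorem isSectionOf_of_qdDatum {X : Type*} [Group X] [Finite X] (hp : p ≠ 2) {Q : Subgroup X}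
    (h : QdDatum p Q) : IsSectionOf (↥(Cfsg.qd p)) X := by
  classical
  obtain ⟨Q₁, θ, -, hθmul, hθsurj, hact⟩ := h
  have hθ1 : θ 1 = 0 := by
    have h := hθmul 1 Q₁.one_mem 1 Q₁.one_mem
    rw [mul_one] at h
    have h2 : θ 1 + 0 = θ 1 + θ 1 := by rw [add_zero]; exact h
    exact (add_left_cancel h2).symm
  have hθinv : ∀ a ∈ Q₁, θ a⁻¹ = - θ a := by
    intro a ha
    have h := hθmul a ha a⁻¹ (Q₁.inv_mem ha)
    rw [mul_inv_cancel, hθ1] at h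
    exact (neg_eq_of_add_eq_zero_right h.symm).symm
  -- the graph group
  let Nh : Subgroup (X × Matrix.SpecialLinearGroup (Fin 2) (ZMod p)) :=
    { carrier := {z | z.1 ∈ Subgroup.normalizer (Q₁ : Set X) ∧
        ∀ v ∈ Q₁, θ (z.1 * v * z.1⁻¹) = z.2.1 *ᵥ θ v}
      one_mem' := by
        refine ⟨Subgroup.one_mem _, fun v _ => ?_⟩
        show θ (1 * v * 1⁻¹) = (1 : Matrix (Fin 2) (Fin 2) (ZMod p)) *ᵥ θ v
        rw [one_mul, inv_one, mul_one, Matrix.one_mulVec]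
      mul_mem' := by
        rintro ⟨x, M⟩ ⟨x', M'⟩ ⟨hx, hxθ⟩ ⟨hx', hxθ'⟩
        refine ⟨Subgroup.mul_mem _ hx hx', fun v hv => ?_⟩
        show θ (x * x' * v * (x * x')⁻¹) = (M.1 * M'.1) *ᵥ θ v
        have h1 : x' * v * x'⁻¹ ∈ Q₁ := (Subgroup.mem_normalizer_iff.mp hx' v).mp hv
        have h2 : x * x' * v * (x * x')⁻¹ = x * (x' * v * x'⁻¹) * x⁻¹ := by group
        rw [h2, hxθ _ h1, hxθ' v hv, Matrix.mulVec_mulVec]
      inv_mem' := by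
        rintro ⟨x, M⟩ ⟨hx, hxθ⟩
        refine ⟨Subgroup.inv_mem _ hx, fun v hv => ?_⟩
        show θ (x⁻¹ * v * x⁻¹⁻¹) = M⁻¹.1 *ᵥ θ v
        have h1 : x⁻¹ * v * x⁻¹⁻¹ ∈ Q₁ :=
          (Subgroup.mem_normalizer_iff.mp (Subgroup.inv_mem _ hx) v).mp hv
        have h2 := hxθ _ h1
        have h3 : x * (x⁻¹ * v * x⁻¹⁻¹) * x⁻¹ = v := by group
        rw [h3] at h2
        rw [h2, Matrix.mulVec_mulVec]
        have h4 : M⁻¹.1 * M.1 = 1 := congrArg Subtype.val (inv_mul_cancel M)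
        rw [h4, Matrix.one_mulVec] }
  have hNh : ∀ z : X × Matrix.SpecialLinearGroup (Fin 2) (ZMod p), z ∈ Nh ↔
      (z.1 ∈ Subgroup.normalizer (Q₁ : Set X) ∧ ∀ v ∈ Q₁, θ (z.1 * v * z.1⁻¹) = z.2.1 *ᵥ θ v) :=
    fun z => Iff.rfl
  -- `(v, 1) ∈ Nh` for `v ∈ Q₁`
  have hvNh : ∀ v ∈ Q₁, ((v, 1) : X × Matrix.SpecialLinearGroup (Fin 2) (ZMod p)) ∈ Nh := by
    intro v hv
    rw [hNh]
    refine ⟨Subgroup.le_normalizer hv, fun u hu => ?_⟩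
    show θ (v * u * v⁻¹) = (1 : Matrix (Fin 2) (Fin 2) (ZMod p)) *ᵥ θ u
    rw [Matrix.one_mulVec, hθmul _ (Q₁.mul_mem hv hu) _ (Q₁.inv_mem hv), hθmul _ hv _ hu, hθinv v hv]
    abel
  let Vh : Subgroup Nh :=
    { carrier := {z | z.1.1 ∈ Q₁ ∧ z.1.2 = 1}
      one_mem' := ⟨Q₁.one_mem, rfl⟩
      mul_mem' := by
        rintro a b ⟨ha, ha'⟩ ⟨hb, hb'⟩
        refine ⟨Q₁.mul_mem ha hb, ?_⟩
        show a.1.2 * b.1.2 = 1
        rw [ha', hb', one_mul]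
      inv_mem' := by
        rintro a ⟨ha, ha'⟩
        refine ⟨Q₁.inv_mem ha, ?_⟩
        show (a.1.2)⁻¹ = 1
        rw [ha', inv_one] }
  have hVh : ∀ z : Nh, z ∈ Vh ↔ (z.1.1 ∈ Q₁ ∧ z.1.2 = 1) := fun z => Iff.rfl
  haveI hVhn : Vh.Normal := by
    constructor
    intro a ha g
    rw [hVh] at ha ⊢
    obtain ⟨ha1, ha2⟩ := ha
    constructor
    · show g.1.1 * a.1.1 * (g.1.1)⁻¹ ∈ Q₁
      exact (Subgroup.mem_normalizer_iff.mp ((hNh g.1).mp g.2).1 _).mp ha1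
    · show g.1.2 * a.1.2 * (g.1.2)⁻¹ = 1
      rw [ha2, mul_one, mul_inv_cancel]
  let ρh : Nh →* Matrix.SpecialLinearGroup (Fin 2) (ZMod p) :=
    (MonoidHom.snd X _).comp Nh.subtype
  have hsec : IsSectionOf (↥(Cfsg.qd p)) Nh := by
    refine isSectionOf_qd_of_action hp Vh (fun z => θ z.1.1) ?_ ?_ ρh ?_ ?_
    · intro a _ b _
      show θ (a.1.1 * b.1.1) = _
      exact hθmul _ ((hVh a).mp ‹_›).1 _ ((hVh b).mp ‹_›).1
    · intro w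
      obtain ⟨v, hv, hvw⟩ := hθsurj w
      exact ⟨⟨(v, 1), hvNh v hv⟩, ⟨hv, rfl⟩, hvw⟩
    · intro M
      obtain ⟨g, -, hg⟩ := hact M
      have hgn : g ∈ Subgroup.normalizer (Q₁ : Set X) :=
        mem_normalizer_of_conj_mem (fun x hx => (hg x hx).1)
      exact ⟨⟨(g, M), hgn, fun v hv => (hg v hv).2⟩, rfl⟩
    · intro n v hv
      show θ (n.1.1 * v.1.1 * (n.1.1)⁻¹) = n.1.2.1 *ᵥ θ v.1.1
      exact ((hNh n.1).mp n.2).2 _ ((hVh v).mp hv).1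
  refine hsec.of_injective ((MonoidHom.fst X _).comp Nh.subtype) ?_
  intro a b hab
  have h1 : a.1.1 = b.1.1 := hab
  apply Subtype.ext
  refine Prod.ext h1 ?_
  apply sl2_eq_of_mulVec
  intro w
  obtain ⟨v, hv, rfl⟩ := hθsurj w
  rw [← ((hNh a.1).mp a.2).2 v hv, ← ((hNh b.1).mp b.2).2 v hv, h1]

end Cfsg.Agent.H9QD
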