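import Mathlib
import Cfsg.Prelude
import Cfsg.Agent.Lib.Helper9.QD3

set_option autoImplicit false

namespace Cfsg.Agent.H9QD

open Matrix Cfsg.Agent.Lib.Helper9

variable {p : ℕ} [Fact p.Prime]

theorem qdMk_conj (M : Matrix.SpecialLinearGroup (Fin 2) (ZMod p)) (c w : Fin 2 → ZMod p) :
    qdMk M c * qdMk 1 w * (qdMk M c)⁻¹ = qdMk 1 (M.1 *ᵥ w) := by
  rw [mul_inv_eq_iff_eq_mul, qdMk_mul, qdMk_mul, mul_one, one_mul]
  congr 1
  show c + M.1 *ᵥ w = M.1 *ᵥ w + (1 : Matrix (Fin 2) (Fin 2) (ZMod p)) *ᵥ c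
  rw [Matrix.one_mulVec, add_comm]

theorem qdMk_one_mul (w w' : Fin 2 → ZMod p) :
    qdMk (1 : Matrix.SpecialLinearGroup (Fin 2) (ZMod p)) w * qdMk 1 w' = qdMk 1 (w + w') := by
  rw [qdMk_mul, mul_one]
  congr 1
  show w + (1 : Matrix (Fin 2) (Fin 2) (ZMod p)) *ᵥ w' = w + w'
  rw [Matrix.one_mulVec]

theorem qdMk_one_pow (w : Fin 2 → ZMod p) (k : ℕ) :
    (qdMk (1 : Matrix.SpecialLinearGroup (Fin 2) (ZMod p)) w) ^ k = qdMk 1 (k • w) := by
  induction k with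
  | zero => rw [pow_zero, zero_smul, qdMk_one]
  | succ k ih => rw [pow_succ, ih, qdMk_one_mul, succ_nsmul]

/-- The translation subgroup of `Qd(p)`. -/
def transSub (p : ℕ) [Fact p.Prime] : Subgroup ↥(Cfsg.qd p) where
  carrier := {x | ∃ w, x = qdMk 1 w}
  one_mem' := ⟨0, qdMk_one.symm⟩
  mul_mem' := by
    rintro _ _ ⟨w, rfl⟩ ⟨w', rfl⟩
    exact ⟨w + w', qdMk_one_mul w w'⟩
  inv_mem' := by
    rintro _ ⟨w, rfl⟩
    refine ⟨-w, ?_⟩
    apply inv_eq_of_mul_eq_one_right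
    rw [qdMk_one_mul, add_neg_cancel, qdMk_one]

theorem mem_transSub_iff (x : ↥(Cfsg.qd p)) : x ∈ transSub p ↔ ∃ w, x = qdMk 1 w := Iff.rfl

instance transSub_normal : (transSub p).Normal := by
  constructor
  rintro _ ⟨w, rfl⟩ g
  obtain ⟨M, c, rfl⟩ := exists_eq_qdMk g
  exact ⟨_, qdMk_conj M c w⟩

theorem transSub_isPGroup : IsPGroup p (transSub p) := by
  rintro ⟨_, w, rfl⟩
  refine ⟨1, ?_⟩
  apply Subtype.ext
  show (qdMk 1 w) ^ (p ^ 1) = 1
  rw [pow_one, qdMk_one_pow]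
  have : p • w = 0 := by
    funext i
    simp only [Pi.smul_apply, Pi.zero_apply, nsmul_eq_mul]
    rw [ZMod.natCast_self, zero_mul]
  rw [this, qdMk_one]

/-- Pushing a datum forward along an injective homomorphism. -/
theorem QdDatum.map {X X' : Type*} [Group X] [Group X'] {Q : Subgroup X} (h : QdDatum p Q)
    (f : X →* X') (hf : Function.Injective f) : QdDatum p (Q.map f) := by
  classical
  obtain ⟨Q₁, θ, hQ₁, hθmul, hθsurj, hact⟩ := h
  let θ' : X' → (Fin 2 → ZMod p) := fun y => if h : ∃ x, f x = y then θ (Classical.choose h) else 0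
  have hθ' : ∀ x, θ' (f x) = θ x := by
    intro x
    have h : ∃ x', f x' = f x := ⟨x, rfl⟩
    show (if h : ∃ x', f x' = f x then θ (Classical.choose h) else 0) = θ x
    rw [dif_pos h]
    exact congrArg θ (hf (Classical.choose_spec h))
  refine ⟨Q₁.map f, θ', Subgroup.map_mono hQ₁, ?_, ?_, ?_⟩
  · rintro _ ⟨a, ha, rfl⟩ _ ⟨b, hb, rfl⟩
    rw [← map_mul, hθ', hθ', hθ']
    exact hθmul a ha b hb
  · intro w
    obtain ⟨v, hv, rfl⟩ := hθsurj w
    exact ⟨f v, ⟨v, hv, rfl⟩, hθ' v⟩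
  · intro M
    obtain ⟨g, hg, hgv⟩ := hact M
    refine ⟨f g, ?_, ?_⟩
    · rw [Subgroup.mem_normalizer_iff]
      intro y
      constructor
      · rintro ⟨q, hq, rfl⟩
        exact ⟨g * q * g⁻¹, (Subgroup.mem_normalizer_iff.mp hg q).mp hq, by
          rw [map_mul, map_mul, map_inv]⟩
      · rintro ⟨q', hq', hq'y⟩
        refine ⟨g⁻¹ * q' * g, ?_, ?_⟩
        · have h1 := (Subgroup.mem_normalizer_iff.mp hg (g⁻¹ * q' * g)).mpr
          apply h1
          have h2 : g * (g⁻¹ * q' * g) * g⁻¹ = q' := by group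
          rw [h2]; exact hq'
        · rw [map_mul, map_mul, map_inv, hq'y]
          group
    · rintro _ ⟨v, hv, rfl⟩
      have h1 : f g * f v * (f g)⁻¹ = f (g * v * g⁻¹) := by rw [map_mul, map_mul, map_inv]
      rw [h1, hθ', hθ']
      exact ⟨⟨_, (hgv v hv).1, rfl⟩, (hgv v hv).2⟩

/-- A finite group mapping onto `Qd(p)` has a `p`-subgroup carrying a datum. -/
theorem exists_qdDatum_of_surjective {K₀ : Type*} [Group K₀] [Finite K₀] (π : K₀ →* ↥(Cfsg.qd p))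
    (hπ : Function.Surjective π) : ∃ Q₀ : Subgroup K₀, IsPGroup p Q₀ ∧ QdDatum p Q₀ := by
  classical
  set V₁ : Subgroup K₀ := (transSub p).comap π with hV₁
  haveI hV₁n : V₁.Normal := Subgroup.Normal.comap inferInstance π
  obtain ⟨Qs⟩ : Nonempty (Sylow p V₁) := inferInstance
  set Q₀ : Subgroup K₀ := (Qs : Subgroup V₁).map V₁.subtype with hQ₀
  have hQ₀p : IsPGroup p Q₀ := Qs.isPGroup'.map _
  have hQ₀V : ∀ q ∈ Q₀, ∃ w, π q = qdMk 1 w := by
    rintro _ ⟨q, -, rfl⟩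
    exact q.2
  have hfrat : Subgroup.normalizer (Q₀ : Set K₀) ⊔ V₁ = ⊤ := Sylow.normalizer_sup_eq_top Qs
  -- the image of `Q₀` is the whole translation subgroup
  have hsurj : ∀ w : Fin 2 → ZMod p, ∃ q ∈ Q₀, π q = qdMk 1 w := by
    intro w
    have hf : Function.Surjective (π.subgroupComap (transSub p)) := by
      rintro ⟨x, hx⟩
      obtain ⟨k, rfl⟩ := hπ x
      exact ⟨⟨k, hx⟩, rfl⟩
    have h1 : ((Qs.mapSurjective hf : Sylow p (transSub p)) : Subgroup (transSub p)) = ⊤ := by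
      have htop : IsPGroup p (⊤ : Subgroup (transSub p)) := transSub_isPGroup.to_subgroup ⊤
      exact ((Qs.mapSurjective hf).is_maximal' htop le_top).symm
    rw [Sylow.coe_mapSurjective] at h1
    have h2 : (⟨qdMk 1 w, ⟨w, rfl⟩⟩ : transSub p) ∈ (Qs : Subgroup V₁).map (π.subgroupComap (transSub p)) := by
      rw [h1]; exact Subgroup.mem_top _
    obtain ⟨q, hq, hqw⟩ := h2
    refine ⟨q.1, ⟨q, hq, rfl⟩, ?_⟩
    exact congrArg Subtype.val hqw
  refine ⟨Q₀, hQ₀p, Q₀, fun k => trans (π k), le_rfl, ?_, ?_, ?_⟩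
  · intro a ha b hb
    obtain ⟨wa, hwa⟩ := hQ₀V a ha
    obtain ⟨wb, hwb⟩ := hQ₀V b hb
    show trans (π (a * b)) = trans (π a) + trans (π b)
    rw [map_mul, hwa, hwb, qdMk_one_mul, trans_qdMk, trans_qdMk, trans_qdMk]
  · intro w
    obtain ⟨q, hq, hqw⟩ := hsurj w
    refine ⟨q, hq, ?_⟩
    show trans (π q) = w
    rw [hqw, trans_qdMk]
  · intro M
    obtain ⟨k, hk⟩ := hπ (qdMk M 0)
    have hk' : k ∈ ((Subgroup.normalizer (Q₀ : Set K₀) ⊔ V₁ : Subgroup K₀) : Set K₀) := by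
      rw [hfrat]; exact Set.mem_univ _
    rw [Subgroup.mul_normal] at hk'
    obtain ⟨n, hn, u, hu, rfl⟩ := Set.mem_mul.mp hk'
    obtain ⟨wu, hwu⟩ : ∃ w, π u = qdMk 1 w := hu
    have hπn : ∃ c, π n = qdMk M c := by
      have h1 : π n = qdMk M 0 * (qdMk 1 wu)⁻¹ := by
        rw [← hk, ← hwu, map_mul, mul_inv_cancel_right]
      have h2 : (qdMk (1 : Matrix.SpecialLinearGroup (Fin 2) (ZMod p)) wu)⁻¹ = qdMk 1 (-wu) := by
        apply inv_eq_of_mul_eq_one_right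
        rw [qdMk_one_mul, add_neg_cancel, qdMk_one]
      rw [h2, qdMk_mul, mul_one] at h1
      exact ⟨_, h1⟩
    obtain ⟨c, hc⟩ := hπn
    refine ⟨n, hn, fun v hv => ⟨(Subgroup.mem_normalizer_iff.mp hn v).mp hv, ?_⟩⟩
    obtain ⟨wv, hwv⟩ := hQ₀V v hv
    show trans (π (n * v * n⁻¹)) = M.1 *ᵥ trans (π v)
    rw [map_mul, map_mul, map_inv, hc, hwv, qdMk_conj, trans_qdMk, trans_qdMk]

end Cfsg.Agent.H9QD
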