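import Mathlib
import Cfsg.Prelude
import Cfsg.Agent.Lib.Helper9.QD4
import Cfsg.Agent.Lib.Helper9.GroupFusion

set_option autoImplicit false

namespace Cfsg.Agent.H9QD

open Matrix Cfsg.Agent.Lib.Helper9
open scoped Pointwise

variable {p : ℕ} [Fact p.Prime]

/-- Sylow's theorem inside a subgroup `K`: a `p`-subgroup `R` of `K` is conjugate by an element of `K` into a
`p`-subgroup `T ≤ K` of full `p`-power order. -/
theorem exists_conj_mem_of_card_eq {G : Type*} [Group G] [Finite G] {K T R : Subgroup G} (hTK : T ≤ K)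
    (hTcard : Nat.card T = p ^ (Nat.card K).factorization p) (hR : IsPGroup p R) (hRK : R ≤ K) :
    ∃ k ∈ K, ∀ x ∈ R, k * x * k⁻¹ ∈ T := by
  obtain ⟨S, hS⟩ := (exists_sylow_eq_subgroupOf_iff (p := p) hTK).mpr hTcard
  have hR' : IsPGroup p (R.subgroupOf K) := hR.comap_subtype
  obtain ⟨Q, hQ⟩ := hR'.exists_le_sylow
  obtain ⟨k, hk⟩ := MulAction.exists_smul_eq K Q S
  refine ⟨k, k.2, ?_⟩
  intro x hx
  have h1 : (⟨x, hRK hx⟩ : K) ∈ (Q : Subgroup K) := hQ (by simpa [Subgroup.mem_subgroupOf] using hx)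
  have h2 : MulAut.conj k • (⟨x, hRK hx⟩ : K) ∈ MulAut.conj k • (Q : Subgroup K) :=
    Subgroup.smul_mem_pointwise_smul _ _ _ h1
  have h3 : MulAut.conj k • (Q : Subgroup K) = ((k • Q : Sylow p K) : Subgroup K) := rfl
  rw [h3, hk, hS] at h2
  rw [Subgroup.mem_subgroupOf] at h2
  simpa using h2

theorem map_conj_eq_of_mem_normalizer {G : Type*} [Group G] {H : Subgroup G} {g : G}
    (hg : g ∈ Subgroup.normalizer (H : Set G)) : H.map (MulAut.conj g).toMonoidHom = H := by
  ext x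
  rw [mem_map_conj_iff]
  have h1 := Subgroup.mem_normalizer_iff.mp (Subgroup.inv_mem _ hg) x
  rw [inv_inv] at h1
  exact h1.symm

theorem mem_normalizer_sup {G : Type*} [Group G] {A B : Subgroup G} {g : G}
    (hA : g ∈ Subgroup.normalizer (A : Set G)) (hB : g ∈ Subgroup.normalizer (B : Set G)) :
    g ∈ Subgroup.normalizer ((A ⊔ B : Subgroup G) : Set G) := by
  have h1 : (A ⊔ B).map (MulAut.conj g).toMonoidHom = A ⊔ B := by
    rw [Subgroup.map_sup, map_conj_eq_of_mem_normalizer hA, map_conj_eq_of_mem_normalizer hB]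
  have h2 : (A ⊔ B).map (MulAut.conj g⁻¹).toMonoidHom = A ⊔ B := by
    rw [Subgroup.map_sup, map_conj_eq_of_mem_normalizer (Subgroup.inv_mem _ hA),
      map_conj_eq_of_mem_normalizer (Subgroup.inv_mem _ hB)]
  rw [Subgroup.mem_normalizer_iff]
  intro x
  constructor
  · intro hx
    rw [← h1]
    exact conj_mem_map_conj _ g hx
  · intro hx
    have h3 := conj_mem_map_conj _ g⁻¹ hx
    rw [h2] at h3
    have h4 : g⁻¹ * (g * x * g⁻¹) * g⁻¹⁻¹ = x := by group
    rwa [h4] at h3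

/-- **Extension of a datum.** A datum at a `p`-subgroup `Q` extends to a `p`-subgroup containing `Q` and any given
`p`-subgroup of `C_G(Q)`. -/
theorem QdDatum.extend {G : Type*} [Group G] [Finite G] {Q A : Subgroup G} (hQ : IsPGroup p Q)
    (h : QdDatum p Q) (hA : IsPGroup p A) (hAC : A ≤ Subgroup.centralizer (Q : Set G)) :
    ∃ Q' : Subgroup G, IsPGroup p Q' ∧ QdDatum p Q' ∧ Q ≤ Q' ∧ A ≤ Q' := by
  obtain ⟨T, hAT, hTC, hTp, hTcard⟩ := exists_isPGroup_card_eq hA hAC
  have hTN : T ≤ Subgroup.normalizer (Q : Set G) := hTC.trans (Subgroup.centralizer_le_normalizer _)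
  refine ⟨Q ⊔ T, ?_, ?_, le_sup_left, hAT.trans le_sup_right⟩
  · rw [sup_comm]
    exact IsPGroup.to_sup_of_normal_right' hTp hQ hTN
  · obtain ⟨Q₁, θ, hQ₁, hθmul, hθsurj, hact⟩ := h
    refine ⟨Q₁, θ, hQ₁.trans le_sup_left, hθmul, hθsurj, ?_⟩
    intro M
    obtain ⟨g, hg, hgv⟩ := hact M
    -- `g T g⁻¹ ≤ C_G(Q)`
    have hgT : T.map (MulAut.conj g).toMonoidHom ≤ Subgroup.centralizer (Q : Set G) := by
      have h1 : Subgroup.centralizer (Q : Set G) =
          (Subgroup.centralizer (Q : Set G)).map (MulAut.conj g).toMonoidHom := by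
        rw [← centralizer_map_conj, map_conj_eq_of_mem_normalizer hg]
      rw [h1]
      exact Subgroup.map_mono hTC
    obtain ⟨k, hk, hkT⟩ := exists_conj_mem_of_card_eq hTC hTcard (hTp.map _) hgT
    have hkN : k ∈ Subgroup.normalizer (Q : Set G) := Subgroup.centralizer_le_normalizer _ hk
    have hkgT : k * g ∈ Subgroup.normalizer (T : Set G) := by
      apply mem_normalizer_of_conj_mem
      intro x hx
      have h1 := hkT _ (conj_mem_map_conj T g hx)
      have h2 : k * g * x * (k * g)⁻¹ = k * (g * x * g⁻¹) * k⁻¹ := by group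
      rw [h2]; exact h1
    refine ⟨k * g, mem_normalizer_sup (Subgroup.mul_mem _ hkN hg) hkgT, ?_⟩
    intro v hv
    obtain ⟨h1, h2⟩ := hgv v hv
    have h3 : k * g * v * (k * g)⁻¹ = g * v * g⁻¹ := by
      have h4 : k * g * v * (k * g)⁻¹ = k * (g * v * g⁻¹) * k⁻¹ := by group
      rw [h4]
      have h5 := Subgroup.mem_centralizer_iff.mp hk _ (hQ₁ h1)
      rw [← h5, mul_inv_cancel_right]
    rw [h3]
    exact ⟨h1, h2⟩

end Cfsg.Agent.H9QD
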