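import Mathlib
import Cfsg.Prelude
import Cfsg.Agent.Lib.Helper9.QD5
import Cfsg.Agent.Lib.Helper9.KL16
import Cfsg.Agent.Lib.Helper9.KL1
import Cfsg.Agent.S5100

set_option autoImplicit false

namespace Cfsg.Agent.H9QD

open Cfsg Cfsg.FusionSystem Cfsg.Agent.Lib.Helper9

variable {p : ℕ} [Fact p.Prime]

/-- The normalizer system of `Q` in the fusion system of `G` on `P` is realized by `N_G(Q)`. -/
theorem normalizerSystem_gfs_realized {G : Type*} [Group G] [Finite G] (P Q : Subgroup G) (hQ : Q ≤ P)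
    (N : FusionSystem (normalizerIn P Q)) (hN : (groupFusionSystem P).IsNormalizerSystem Q N) :
    N.IsRealizedBy (Subgroup.inclusion
      (inf_le_right : normalizerIn P Q ≤ Subgroup.normalizer (Q : Set G))) := by
  refine ⟨Subgroup.inclusion_injective _, fun R hR φ hφ => ?_⟩
  rw [hN R]
  constructor
  · rintro ⟨-, -, -, ψ, ⟨-, -, g, hg⟩, hψφ, hψQ⟩
    have hgN : g ∈ Subgroup.normalizer (Q : Set G) := by
      apply mem_normalizer_of_conj_mem
      intro q hq
      have h1 : ψ ⟨q, (le_sup_right : Q ≤ R ⊔ Q) hq⟩ ∈ Q :=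
        hψQ.le ⟨⟨q, (le_sup_right : Q ≤ R ⊔ Q) hq⟩, Subgroup.mem_subgroupOf.mpr hq, rfl⟩
      rw [hg] at h1
      exact h1
    refine ⟨⟨g, hgN⟩, fun x => ?_⟩
    apply Subtype.ext
    show φ x = g * (x : G) * g⁻¹
    rw [← hψφ x, hg]
    rfl
  · rintro ⟨m, hm⟩
    have hφg : ∀ x : R, φ x = (m : G) * (x : G) * (m : G)⁻¹ := fun x =>
      congrArg Subtype.val (hm x)
    have hRP : R ≤ P := hR.trans inf_le_left
    have hmQ : ∀ q ∈ Q, (m : G) * q * (m : G)⁻¹ ∈ Q := fun q hq =>
      (Subgroup.mem_normalizer_iff.mp m.2 q).mp hq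
    have hsupP : ∀ y ∈ R ⊔ Q, (m : G) * y * (m : G)⁻¹ ∈ P := by
      intro y hy
      have h1 : (R ⊔ Q).map (MulAut.conj (m : G)).toMonoidHom ≤ P := by
        rw [Subgroup.map_sup]
        refine sup_le ?_ ?_
        · rintro _ ⟨x, hx, rfl⟩
          have := (hφ ⟨x, hx⟩).1
          rw [hφg] at this
          exact this
        · rintro _ ⟨q, hq, rfl⟩
          exact hQ (hmQ q hq)
      exact h1 (conj_mem_map_conj _ _ hy)
    refine ⟨⟨hRP, fun x => (hφ x).1, (m : G), hφg⟩, hR, hφ, conjHom (R ⊔ Q) (m : G),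
      ⟨sup_le hRP hQ, fun y => hsupP y y.2, (m : G), fun y => rfl⟩, ?_, ?_⟩
    · intro x
      rw [hφg]
      rfl
    · ext y
      constructor
      · rintro ⟨q, hq, rfl⟩
        exact hmQ q (Subgroup.mem_subgroupOf.mp hq)
      · intro hy
        have h1 : (m : G)⁻¹ * y * (m : G) ∈ Q := by
          have h2 := (Subgroup.mem_normalizer_iff.mp (Subgroup.inv_mem _ m.2) y).mp hy
          rwa [inv_inv] at h2
        refine ⟨⟨_, (le_sup_right : Q ≤ R ⊔ Q) h1⟩, Subgroup.mem_subgroupOf.mpr h1, ?_⟩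
        show (m : G) * ((m : G)⁻¹ * y * (m : G)) * (m : G)⁻¹ = y
        group

end Cfsg.Agent.H9QD

namespace Cfsg.Agent.H9QD

open Cfsg Cfsg.FusionSystem Cfsg.Agent.Lib.Helper9 Cfsg.Agent.H9KL

universe u

variable {p : ℕ} [Fact p.Prime]

/-- The model of the normalizer system of a fully normalized centric subgroup in a group fusion system. -/
theorem gfs_normalizer_model {G : Type u} [Group G] [Finite G] (P : Sylow p G) {Q : Subgroup G}
    (hQfn : (groupFusionSystem (P : Subgroup G)).IsFullyNormalized Q)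
    (hQc : (groupFusionSystem (P : Subgroup G)).IsCentric Q)
    (N : FusionSystem (normalizerIn (P : Subgroup G) Q))
    (hN : (groupFusionSystem (P : Subgroup G)).IsNormalizerSystem Q N) :
    N.IsModel p (↥(Subgroup.normalizer (Q : Set G)) ⧸ pPrimeCore p ↥(Subgroup.normalizer (Q : Set G)))
      ((QuotientGroup.mk' (pPrimeCore p ↥(Subgroup.normalizer (Q : Set G)))).comp
        (Subgroup.inclusion (inf_le_right : normalizerIn (P : Subgroup G) Q ≤ Subgroup.normalizer (Q : Set G)))) := by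
  have hQP : Q ≤ (P : Subgroup G) := hQfn.1
  obtain ⟨R, hR⟩ := (Cfsg.Agent.S5100.result p P Q hQP).mp hQfn
  have hκ := normalizerSystem_gfs_realized (P : Subgroup G) Q hQP N hN
  haveI : Finite ↥(normalizerIn (P : Subgroup G) Q) := inferInstance
  have hA : IsPGroup p ↥(normalizerIn (P : Subgroup G) Q) := P.isPGroup'.to_le inf_le_left
  have hQA : Q ≤ normalizerIn (P : Subgroup G) Q := fun x hx => ⟨hQP hx, Subgroup.le_normalizer hx⟩
  refine model_of_realized_normal_centric p hA N _ hκ R ?_ hQA ?_ ?_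
  · rw [hR]
    ext x
    rw [Subgroup.mem_subgroupOf]
    constructor
    · intro hx
      exact ⟨⟨x, hx⟩, rfl⟩
    · rintro ⟨y, rfl⟩
      exact y.2
  · have h1 : (Q.subgroupOf (normalizerIn (P : Subgroup G) Q)).map
        (Subgroup.inclusion (inf_le_right : normalizerIn (P : Subgroup G) Q ≤ Subgroup.normalizer (Q : Set G))) =
        Q.subgroupOf (Subgroup.normalizer (Q : Set G)) := by
      ext x
      rw [Subgroup.mem_subgroupOf]
      constructor
      · rintro ⟨y, hy, rfl⟩
        exact Subgroup.mem_subgroupOf.mp hy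
      · intro hx
        exact ⟨⟨x, hQA hx⟩, Subgroup.mem_subgroupOf.mpr hx, rfl⟩
    have h2 : (Q.subgroupOf (Subgroup.normalizer (Q : Set G))).Normal := Subgroup.normal_in_normalizer
    exact h1 ▸ h2
  · intro x hx
    exact hQc.2 Q (fs_isConj_refl _ hQP) ⟨hx.1.1, hx.2⟩

/-- **(⇐)** If `H` is not involved in `G`, the fusion system of `G` is `H`-free. -/
theorem gfs_sectionFree_of_not_involves {G : Type u} [Group G] [Finite G] (P : Sylow p G) {H : Type*} [Group H]
    (hH : ¬ Involves H G) : (groupFusionSystem (P : Subgroup G)).IsSectionFree p H := by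
  intro Q hQfn hQc N hN L _ ι hL
  have hmodel := gfs_normalizer_model P hQfn hQc N hN
  haveI : Finite ↥(normalizerIn (P : Subgroup G) Q) := inferInstance
  have hG : ¬ Involves H ↥(Subgroup.normalizer (Q : Set G)) := by
    intro h
    apply hH
    apply involves_of_isSectionOf
    exact (isSectionOf_of_involves h).of_subgroup
  exact not_involves_of_model_quotient p N _
    (QuotientGroup.mk' (pPrimeCore p ↥(Subgroup.normalizer (Q : Set G)))) (QuotientGroup.mk'_surjective _)
    hmodel hG ι hL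

end Cfsg.Agent.H9QD
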