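import Mathlib
import Cfsg.Prelude
import Cfsg.Agent.Lib.Helper9.QD6
import Cfsg.Agent.Lib.Helper9.KL9
import Cfsg.Agent.S5076
import Cfsg.Agent.S5096

set_option autoImplicit false

namespace Cfsg.Agent.H9QD

open Cfsg Cfsg.FusionSystem Cfsg.Agent.Lib.Helper9 Cfsg.Agent.H9KL

universe u

variable {p : ℕ} [Fact p.Prime]

/-- Transport of a datum to a group realizing the system. -/
theorem QdDatum.transport {Ω : Type*} [Group Ω] {S : Subgroup Ω} (F : FusionSystem S) {L : Type*} [Group L]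
    (ι : S →* L) (hι : F.IsRealizedBy ι) {U : Subgroup Ω} (hU : U ≤ S) (h : QdDatum p U)
    (hconj : ∀ g ∈ Subgroup.normalizer (U : Set Ω), conjHom U g ∈ F.Hom U) :
    QdDatum p (⊤ : Subgroup L) := by
  classical
  obtain ⟨Q₁, θ, hQ₁, hθmul, hθsurj, hact⟩ := h
  let θ' : L → (Fin 2 → ZMod p) := fun y => if h : ∃ x : S, ι x = y then θ (Classical.choose h).1 else 0
  have hθ' : ∀ x : S, θ' (ι x) = θ x.1 := by
    intro x
    have h : ∃ x' : S, ι x' = ι x := ⟨x, rfl⟩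
    show (if h : ∃ x' : S, ι x' = ι x then θ (Classical.choose h).1 else 0) = θ x.1
    rw [dif_pos h]
    exact congrArg (fun z : S => θ z.1) (hι.1 (Classical.choose_spec h))
  have hQ₁S : Q₁ ≤ S := hQ₁.trans hU
  refine ⟨(Q₁.subgroupOf S).map ι, θ', le_top, ?_, ?_, ?_⟩
  · rintro _ ⟨a, ha, rfl⟩ _ ⟨b, hb, rfl⟩
    rw [← map_mul, hθ', hθ', hθ']
    exact hθmul _ (Subgroup.mem_subgroupOf.mp ha) _ (Subgroup.mem_subgroupOf.mp hb)
  · intro w
    obtain ⟨v, hv, rfl⟩ := hθsurj w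
    exact ⟨ι ⟨v, hQ₁S hv⟩, ⟨⟨v, hQ₁S hv⟩, Subgroup.mem_subgroupOf.mpr hv, rfl⟩, hθ' _⟩
  · intro M
    obtain ⟨g, hg, hgv⟩ := hact M
    have hφS : ∀ x : U, conjHom U g x ∈ S := fun x => (F.le_of_mem (hconj g hg)).2 x
    obtain ⟨l, hl⟩ := (hι.2 U hU (conjHom U g) hφS).mp (hconj g hg)
    have hlN : l ∈ Subgroup.normalizer (((⊤ : Subgroup L) : Subgroup L) : Set L) := by
      rw [Subgroup.mem_normalizer_iff]
      intro y
      exact ⟨fun _ => Subgroup.mem_top _, fun _ => Subgroup.mem_top _⟩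
    refine ⟨l, hlN, ?_⟩
    rintro _ ⟨v, hv, rfl⟩
    have hvQ₁ : (v : Ω) ∈ Q₁ := Subgroup.mem_subgroupOf.mp hv
    have h1 := hl ⟨v, hQ₁ hvQ₁⟩
    have h2 : ι v = ι ⟨((⟨v, hQ₁ hvQ₁⟩ : U) : Ω), hU (hQ₁ hvQ₁)⟩ := rfl
    rw [h2, ← h1, hθ', hθ']
    obtain ⟨h3, h4⟩ := hgv v hvQ₁
    refine ⟨⟨⟨conjHom U g ⟨v, hQ₁ hvQ₁⟩, hφS _⟩, Subgroup.mem_subgroupOf.mpr h3, rfl⟩, h4⟩

end Cfsg.Agent.H9QD

namespace Cfsg.Agent.H9QD

open Cfsg Cfsg.FusionSystem Cfsg.Agent.Lib.Helper9 Cfsg.Agent.H9KL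

universe u

variable {p : ℕ} [Fact p.Prime]

/-- Conjugation maps of `N_G(U)` lie in the normalizer system of `U`. -/
theorem conjHom_mem_normalizerSystem {G : Type*} [Group G] (P : Subgroup G) {U : Subgroup G} (hU : U ≤ P)
    (N : FusionSystem (normalizerIn P U)) (hN : (groupFusionSystem P).IsNormalizerSystem U N)
    (g : G) (hg : g ∈ Subgroup.normalizer (U : Set G)) : conjHom U g ∈ N.Hom U := by
  rw [hN U]
  have hgU : ∀ x ∈ U, g * x * g⁻¹ ∈ U := fun x hx => (Subgroup.mem_normalizer_iff.mp hg x).mp hx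
  have hUU : U ⊔ U ≤ U := sup_le le_rfl le_rfl
  refine ⟨⟨hU, fun x => hU (hgU x x.2), g, fun x => rfl⟩, le_normalizerIn_self hU,
    fun x => le_normalizerIn_self hU (hgU x x.2), conjHom (U ⊔ U) g,
    ⟨hUU.trans hU, fun y => hU (hgU y (hUU y.2)), g, fun y => rfl⟩, fun x => rfl, ?_⟩
  ext y
  constructor
  · rintro ⟨q, hq, rfl⟩
    exact hgU q (Subgroup.mem_subgroupOf.mp hq)
  · intro hy
    have h1 : g⁻¹ * y * g ∈ U := by
      have h2 := (Subgroup.mem_normalizer_iff.mp (Subgroup.inv_mem _ hg) y).mp hy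
      rwa [inv_inv] at h2
    refine ⟨⟨_, (le_sup_right : U ≤ U ⊔ U) h1⟩, Subgroup.mem_subgroupOf.mpr h1, ?_⟩
    show g * (g⁻¹ * y * g) * g⁻¹ = y
    group

/-- **(⇒)** If `Qd(p)` is involved in `G` (`p` odd), the fusion system of `G` is not `Qd(p)`-free. -/
theorem gfs_not_sectionFree_of_involves {G : Type u} [Group G] [Finite G] (hp : p ≠ 2) (P : Sylow p G)
    (hinv : Involves ↥(Cfsg.qd p) G) :
    ¬ (groupFusionSystem (P : Subgroup G)).IsSectionFree p ↥(Cfsg.qd p) := by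
  classical
  intro hfree
  set F := groupFusionSystem (P : Subgroup G) with hFdef
  have hS : IsPGroup p ↥(P : Subgroup G) := P.isPGroup'
  have hF : F.IsSaturated p := Cfsg.Agent.S5076.result p P
  -- a first datum
  obtain ⟨K, R, hn, ⟨e⟩⟩ := hinv
  have hπ : Function.Surjective (e.toMonoidHom.comp (QuotientGroup.mk' (R.subgroupOf K))) :=
    e.surjective.comp (QuotientGroup.mk'_surjective _)
  obtain ⟨Q₀, hQ₀p, hQ₀d⟩ := exists_qdDatum_of_surjective _ hπ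
  -- a datum of maximal order
  haveI hne : Nonempty {Q : Subgroup G // IsPGroup p Q ∧ QdDatum p Q} :=
    ⟨⟨Q₀.map K.subtype, hQ₀p.map _, hQ₀d.map K.subtype K.subtype_injective⟩⟩
  obtain ⟨⟨Q, hQp, hQd⟩, hQmax⟩ := Finite.exists_max
    (fun Q : {Q : Subgroup G // IsPGroup p Q ∧ QdDatum p Q} => Nat.card Q.1)
  have hmax : ∀ Q' : Subgroup G, IsPGroup p Q' → QdDatum p Q' → Nat.card Q' ≤ Nat.card Q :=
    fun Q' h1 h2 => hQmax ⟨Q', h1, h2⟩
  -- conjugate into `P`, fully normalized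
  obtain ⟨g, hg⟩ := exists_map_conj_le_sylow P hQp
  obtain ⟨U, hconj, hUfn⟩ := fs_exists_fullyNormalized F hg
  obtain ⟨-, hUP, h, hh⟩ := (gfs_isConj_iff _ _ _).mp hconj
  have hUd : QdDatum p U := by
    rw [← hh]
    exact (hQd.map _ (MulAut.conj g).injective).map _ (MulAut.conj h).injective
  have hUcard : Nat.card U = Nat.card Q := by
    rw [← hh, card_map_conj, card_map_conj]
  -- `U` is centric
  have hUc : F.IsCentric U := by
    refine ⟨hUP, fun U' hU' => ?_⟩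
    obtain ⟨-, hU'P, h', hh'⟩ := (gfs_isConj_iff _ _ _).mp hU'
    have hU'd : QdDatum p U' := by
      rw [← hh']; exact hUd.map _ (MulAut.conj h').injective
    have hU'card : Nat.card U' = Nat.card Q := by
      rw [← hh', card_map_conj, hUcard]
    have hU'p : IsPGroup p U' := hS.to_le hU'P
    have hAp : IsPGroup p (centralizerIn (P : Subgroup G) U') := hS.to_le inf_le_left
    obtain ⟨Q', hQ'p, hQ'd, hU'Q', hAQ'⟩ := hU'd.extend hU'p hAp inf_le_right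
    have h1 : Nat.card Q' ≤ Nat.card U' := by rw [hU'card]; exact hmax Q' hQ'p hQ'd
    have h2 : U' = Q' := Subgroup.eq_of_le_of_card_ge hU'Q' h1
    exact hAQ'.trans h2.ge
  -- the model
  obtain ⟨NU, hNU⟩ := Cfsg.Agent.S5096.result F U hUP
  obtain ⟨-, -, L, _, ι, hL⟩ := exists_model_of_fn_centric p hS F hF hUfn hUc NU hNU
  haveI : Finite L := hL.1
  have hdL : QdDatum p (⊤ : Subgroup L) :=
    hUd.transport NU ι hL.2.1 (le_normalizerIn_self hUP)
      (fun g hg => conjHom_mem_normalizerSystem (P : Subgroup G) hUP NU hNU g hg)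
  exact hfree U hUfn hUc NU hNU L ι hL (involves_of_isSectionOf (isSectionOf_of_qdDatum hp hdL))

end Cfsg.Agent.H9QD
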