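import Mathlib
import Cfsg.Prelude
import Cfsg.Agent.Lib.Helper9.TT9t
import Cfsg.Agent.S5349
import Cfsg.Agent.S5350

set_option autoImplicit false

/-!
# Three-transpositions: the structure of a class with trivial `V`- and `W`-classes and a connected
commuting graph
-/

namespace Cfsg.Agent.H9TT

open Cfsg Cfsg.Agent.Lib.Helper9 Cfsg.Agent.Lib.Helper3
open scoped commutatorElement

variable {G : Type*} [Group G] {D : Set G}

/-- a perfect normal subgroup of index at most two is the commutator subgroup -/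
theorem TC.commutator_eq_of_index_le_two [Finite G] (h : TC D) (hne : D.Nonempty)
    (L : Subgroup G) [L.Normal] (hperf : ⁅L, L⁆ = L) (hidx : L.index ≤ 2) :
    commutator G = L := by
  obtain ⟨a, ha⟩ := hne
  apply le_antisymm
  · apply Subgroup.Normal.commutator_le_of_self_sup_commutative_eq_top
      (H := Subgroup.zpowers a) _ inferInstance
    rw [eq_top_iff]
    intro g _
    rcases h.mem_or_mul_mem L hidx ha g with hg | hg
    · exact Subgroup.mem_sup_left hg
    · have e1 : g = a⁻¹ * (a * g) := by group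
      rw [e1, sup_comm]
      exact Subgroup.mul_mem_sup (Subgroup.inv_mem _ (Subgroup.mem_zpowers a)) hg
  · rw [commutator_def, ← hperf]
    exact Subgroup.commutator_mono le_top le_top

/-- trivial `V`-classes: the `2`-core is central -/
theorem pCore_two_le_center_of_sep [Finite G] (hD : IsThreeTranspositionClass D)
    (hD2 : ∃ a ∈ D, ∃ b ∈ D, a ≠ b)
    (hV : ∀ a ∈ D, ∀ b ∈ D, a ≠ b → ∃ e ∈ D, ¬ (Commute a e ↔ Commute b e)) :
    pCore 2 G ≤ Subgroup.center G := by
  have h := TC.of_class hD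
  obtain ⟨d, hd, -⟩ := id hD2
  haveI := pCore_normal' (G := G) 2
  apply h.le_center_of_commute (pCore 2 G) hd
  intro n hn
  have hS := (Cfsg.Agent.S5349.result hD hD2 hd).2
  have hx : n * d * n⁻¹ ∈ {v : G | ∃ g ∈ Cfsg.pCore 2 G, v = g * d * g⁻¹} := ⟨n, hn, rfl⟩
  rw [← hS] at hx
  have hxd : n * d * n⁻¹ = d := by
    by_contra hne
    obtain ⟨e, he, hnot⟩ := hV _ hx.1 d hd hne
    exact hnot (hx.2 e he)
  show d * n = n * d
  calc d * n = (n * d * n⁻¹) * n := by rw [hxd]
    _ = n * d := by group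

/-- trivial `W`-classes: the `3`-core is central -/
theorem pCore_three_le_center_of_sep [Finite G] (hD : IsThreeTranspositionClass D)
    (hD2 : ∃ a ∈ D, ∃ b ∈ D, a ≠ b)
    (hW : ∀ a ∈ D, ∀ b ∈ D, a ≠ b →
      {y : G | y ∈ D ∧ y ≠ a ∧ Commute a y} ≠ {y : G | y ∈ D ∧ y ≠ b ∧ Commute b y}) :
    pCore 3 G ≤ Subgroup.center G := by
  have h := TC.of_class hD
  obtain ⟨d, hd, -⟩ := id hD2
  haveI := pCore_normal' (G := G) 3
  apply h.le_center_of_commute (pCore 3 G) hd
  intro n hn
  have hS := (Cfsg.Agent.S5350.result hD hD2 hd).2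
  have hx : n * d * n⁻¹ ∈ {w : G | ∃ g ∈ Cfsg.pCore 3 G, w = g * d * g⁻¹} := ⟨n, hn, rfl⟩
  rw [← hS] at hx
  have hxd : n * d * n⁻¹ = d := by
    by_contra hne
    exact hW d hd _ hx.1 (fun e => hne e.symm) hx.2
  show d * n = n * d
  calc d * n = (n * d * n⁻¹) * n := by rw [hxd]
    _ = n * d := by group

/-- the structure of a class with trivial `V`- and `W`-classes and connected commuting graph -/
theorem structure_of_sep [Finite G] (hD : IsThreeTranspositionClass D)
    (hD2 : ∃ a ∈ D, ∃ b ∈ D, a ≠ b)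
    (hV : ∀ a ∈ D, ∀ b ∈ D, a ≠ b → ∃ e ∈ D, ¬ (Commute a e ↔ Commute b e))
    (hW : ∀ a ∈ D, ∀ b ∈ D, a ≠ b →
      {y : G | y ∈ D ∧ y ≠ a ∧ Commute a y} ≠ {y : G | y ∈ D ∧ y ≠ b ∧ Commute b y})
    (hconn : (commutingGraph D).Connected) :
    IsQuasisimple (commutator G) ∧ (commutator G).index ≤ 2 ∧
      generalizedFittingSubgroup G = Subgroup.center G ⊔ commutator G ∧
      IsPrimitiveUnderConj D := by
  have h := TC.of_class hD
  have h2 := pCore_two_le_center_of_sep hD hD2 hV
  have h3 := pCore_three_le_center_of_sep hD hD2 hW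
  obtain ⟨d, hd, -⟩ := id hD2
  have hne : D.Nonempty := ⟨d, hd⟩
  obtain ⟨hcomp, hFs⟩ := h.layer_quasisimple hD2 h2 h3
  haveI := h.component_normal hcomp
  have hidx := h.index_le_two_of_connected (layer G) hcomp.2 hconn
  have e := h.commutator_eq_of_index_le_two hne (layer G) commutator_layer_layer hidx
  rw [e]
  refine ⟨hcomp.2, hidx, ?_, h.primitive hD2 h2 h3 (layer G) hcomp.2 hFs hidx⟩
  rw [hFs, sup_comm]

end Cfsg.Agent.H9TT
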