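import Mathlib
import Cfsg.Prelude
import Cfsg.Agent.Lib.Helper9.TT9u

set_option autoImplicit false

/-!
# Three-transpositions: the image of a class in a quotient, and width one
-/

namespace Cfsg.Agent.H9TT

open Cfsg Cfsg.Agent.Lib.Helper9 Cfsg.Agent.Lib.Helper3
open scoped commutatorElement

variable {G : Type*} [Group G] {D : Set G}

/-- width one from the pairwise statement -/
theorem width_one_of_pairwise [Finite G] {d : G} (hd : d ∈ D)
    (hp : ∀ a ∈ D, ∀ b ∈ D, Commute a b → a = b) : commutingWidth D = 1 := by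
  obtain ⟨S, hS⟩ : ∃ S : Set ℕ, S = {n : ℕ | ∃ E : Set G, E ⊆ D ∧ E.Finite ∧
      (∀ a ∈ E, ∀ b ∈ E, Commute a b) ∧ E.ncard = n} := ⟨_, rfl⟩
  have hbdd : BddAbove S := by
    refine ⟨Nat.card G, ?_⟩
    rw [hS]
    rintro n ⟨E, -, hEf, -, rfl⟩
    exact Set.ncard_le_card E
  have h1S : 1 ∈ S := by
    rw [hS]
    exact ⟨{d}, by simpa using hd, Set.finite_singleton d, by
      intro a ha b hb
      rw [Set.mem_singleton_iff] at ha hb
      rw [ha, hb], Set.ncard_singleton d⟩
  unfold commutingWidth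
  rw [← hS]
  apply le_antisymm
  · apply csSup_le ⟨1, h1S⟩
    rw [hS]
    rintro n ⟨E, hED, hEf, hEc, rfl⟩
    rw [Set.ncard_le_one hEf]
    intro a ha b hb
    exact hp a (hED ha) b (hED hb) (hEc a ha b hb)
  · exact le_csSup hbdd h1S

/-- the image of a generating conjugation-invariant set of `3`-transpositions in a quotient by a
normal subgroup containing none of them -/
theorem TC.quot_group (h : TC D) (V : Subgroup G) [hV : V.Normal] (hnot : ∀ a ∈ D, a ∉ V) :
    IsThreeTranspositionGroup ((QuotientGroup.mk' V) '' D) := by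
  refine ⟨⟨?_, ?_⟩, ?_, ?_⟩
  · rintro x ⟨a, ha, rfl⟩
    haveI : Fact (Nat.Prime 2) := ⟨Nat.prime_two⟩
    apply orderOf_eq_prime
    · rw [← map_pow, pow_two, h.toTT.sq ha, map_one]
    · intro e
      apply hnot a ha
      rwa [QuotientGroup.mk'_apply, QuotientGroup.eq_one_iff] at e
  · rintro x ⟨a, ha, rfl⟩ y ⟨b, hb, rfl⟩
    rcases h.hset.2 a ha b hb with h2 | h3
    · left
      rw [← map_mul, ← map_pow, h2, map_one]
    · right
      rw [← map_mul, ← map_pow, h3, map_one]
  · rintro q x ⟨a, ha, rfl⟩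
    obtain ⟨g, rfl⟩ := QuotientGroup.mk'_surjective V q
    refine ⟨g * a * g⁻¹, h.hconj g a ha, ?_⟩
    rw [map_mul, map_mul, map_inv]
  · rw [← MonoidHom.map_closure, h.hgen, ← MonoidHom.range_eq_map,
      MonoidHom.range_eq_top]
    exact QuotientGroup.mk'_surjective V

/-- commuting images are equal, given that commuting members are congruent -/
theorem TC.quot_pairwise (h : TC D) (V : Subgroup G) [hV : V.Normal]
    (hcomm : ∀ a ∈ D, ∀ b ∈ D, Commute a b → a⁻¹ * b ∈ V) :
    ∀ x ∈ (QuotientGroup.mk' V) '' D, ∀ y ∈ (QuotientGroup.mk' V) '' D, Commute x y → x = y := by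
  rintro x ⟨a, ha, rfl⟩ y ⟨b, hb, rfl⟩ hxy
  by_cases hab : Commute a b
  · have := hcomm a ha b hb hab
    rw [QuotientGroup.mk'_apply, QuotientGroup.mk'_apply, QuotientGroup.eq]
    exact this
  · have h3 : (a * b) ^ 3 = 1 := h.toTT.cube ha hb hab
    have haa : (QuotientGroup.mk' V a) * (QuotientGroup.mk' V a) = 1 := by
      rw [← map_mul, h.toTT.sq ha, map_one]
    have hbb : (QuotientGroup.mk' V b) * (QuotientGroup.mk' V b) = 1 := by
      rw [← map_mul, h.toTT.sq hb, map_one]
    have h2 : ((QuotientGroup.mk' V a) * (QuotientGroup.mk' V b)) ^ 2 = 1 := by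
      rw [pow_two]
      exact sq_of_commute haa hbb hxy
    have h3' : ((QuotientGroup.mk' V a) * (QuotientGroup.mk' V b)) ^ 3 = 1 := by
      rw [← map_mul, ← map_pow, h3, map_one]
    have h1 : (QuotientGroup.mk' V a) * (QuotientGroup.mk' V b) = 1 := by
      have e : ∀ z : G ⧸ V, z ^ 2 = 1 → z ^ 3 = 1 → z = 1 := by
        intro z hz2 hz3
        rw [pow_succ, hz2, one_mul] at hz3
        exact hz3
      exact e _ h2 h3'
    exact (eq_of_mul_eq_one_inv haa h1).symm

end Cfsg.Agent.H9TT
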