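import Mathlib
import Cfsg.Prelude
import Cfsg.Agent.Lib.Helper9.TT9v

set_option autoImplicit false

/-!
# Rank three for 3-transposition groups: the `S_4` identities, the two basic fusion facts
-/

namespace Cfsg.Agent.H9R3

open Cfsg Cfsg.Agent.H9TT

variable {G : Type*} [Group G] {D : Set G}

/-- the members of `D` not commuting with `a` -/
def Ap (D : Set G) (a : G) : Set G := {x | x ∈ D ∧ ¬ Commute a x}

/-- the members of `D` other than `a` commuting with `a` and not with `x` -/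
def Ex (D : Set G) (a x : G) : Set G := {d | d ∈ Dp D a ∧ ¬ Commute d x}

/-! ### more `S_4` identities -/

theorem s4_idB : (Equiv.swap (1 : Fin 4) 2 * ((Equiv.swap 0 1 * Equiv.swap 2 3) * Equiv.swap 1 2 *
    (Equiv.swap 0 1 * Equiv.swap 2 3)⁻¹)) * Equiv.swap 2 3 *
    (Equiv.swap (1 : Fin 4) 2 * ((Equiv.swap 0 1 * Equiv.swap 2 3) * Equiv.swap 1 2 *
    (Equiv.swap 0 1 * Equiv.swap 2 3)⁻¹))⁻¹ = Equiv.swap 0 1 := by
  decide

theorem s4_idB' : (Equiv.swap (1 : Fin 4) 2 * ((Equiv.swap 0 1 * Equiv.swap 2 3) * Equiv.swap 1 2 *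
    (Equiv.swap 0 1 * Equiv.swap 2 3)⁻¹)) * Equiv.swap 0 1 *
    (Equiv.swap (1 : Fin 4) 2 * ((Equiv.swap 0 1 * Equiv.swap 2 3) * Equiv.swap 1 2 *
    (Equiv.swap 0 1 * Equiv.swap 2 3)⁻¹))⁻¹ = Equiv.swap 2 3 := by
  decide

theorem s4_idC : (Equiv.swap (1 : Fin 4) 2 * Equiv.swap 0 1 * (Equiv.swap 1 2)⁻¹) *
    (Equiv.swap 2 3 * Equiv.swap 1 2 * (Equiv.swap 2 3)⁻¹) =
    (Equiv.swap 2 3 * Equiv.swap 1 2 * (Equiv.swap 2 3)⁻¹) *
    (Equiv.swap (1 : Fin 4) 2 * Equiv.swap 0 1 * (Equiv.swap 1 2)⁻¹) := by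
  decide

/-- further consequences of the `S_4` configuration `a - b - c` (with `a`, `c` commuting) -/
theorem s4_more (h : TT D) {a b c : G} (ha : a ∈ D) (hb : b ∈ D) (hc : c ∈ D)
    (hac : a ≠ c) (hac' : Commute a c) (hab : ¬ Commute a b) (hbc : ¬ Commute b c) :
    (b * ((a * c) * b * (a * c)⁻¹)) * c * (b * ((a * c) * b * (a * c)⁻¹))⁻¹ = a ∧
    (b * ((a * c) * b * (a * c)⁻¹)) * a * (b * ((a * c) * b * (a * c)⁻¹))⁻¹ = c ∧
    Commute (b * a * b⁻¹) (c * b * c⁻¹) := by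
  obtain ⟨φ, -, rfl, rfl, rfl⟩ := Cfsg.Agent.S5344.result h.hset ha hb hc hac hac' hab hbc
  refine ⟨?_, ?_, ?_⟩
  · have := congrArg φ s4_idB
    simpa only [map_mul, map_inv] using this
  · have := congrArg φ s4_idB'
    simpa only [map_mul, map_inv] using this
  · have := congrArg φ s4_idC
    show _ * _ = _ * _
    simpa only [map_mul, map_inv] using this

/-! ### transport under conjugation -/

theorem mem_Ap_conj (h : TT D) (g a x : G) : x ∈ Ap D (g * a * g⁻¹) ↔ g⁻¹ * x * g ∈ Ap D a := by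
  unfold Ap
  simp only [Set.mem_setOf_eq]
  constructor
  · rintro ⟨h1, h2⟩
    exact ⟨h.hconj' g x h1, fun hc => h2 ((TT.commute_conj_iff g a x).mpr hc)⟩
  · rintro ⟨h1, h2⟩
    refine ⟨?_, fun hc => h2 ((TT.commute_conj_iff g a x).mp hc)⟩
    have := h.hconj g _ h1
    have e : g * (g⁻¹ * x * g) * g⁻¹ = x := by group
    rwa [e] at this

theorem Ap_conj (h : TT D) (g a : G) : Ap D (g * a * g⁻¹) = cj g (Ap D a) := by
  ext x
  rw [mem_Ap_conj h, mem_cj]

theorem Dp_conj (h : TT D) (g a : G) : Dp D (g * a * g⁻¹) = cj g (Dp D a) := by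
  ext x
  rw [h.mem_Dp_conj, mem_cj]

theorem Ex_conj (h : TT D) (g a x : G) : Ex D (g * a * g⁻¹) (g * x * g⁻¹) = cj g (Ex D a x) := by
  ext d
  rw [mem_cj]
  unfold Ex
  simp only [Set.mem_setOf_eq]
  rw [h.mem_Dp_conj]
  constructor
  · rintro ⟨h1, h2⟩
    refine ⟨h1, fun hc => h2 ?_⟩
    have := (TT.commute_conj_iff g (g⁻¹ * d * g) (g * x * g⁻¹)).mpr (by
      have e : g⁻¹ * (g * x * g⁻¹) * g = x := by group
      rw [e]; exact hc)
    have e : g * (g⁻¹ * d * g) * g⁻¹ = d := by group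
    rwa [e] at this
  · rintro ⟨h1, h2⟩
    refine ⟨h1, fun hc => h2 ?_⟩
    have e : d = g * (g⁻¹ * d * g) * g⁻¹ := by group
    rw [e] at hc
    have := (TT.commute_conj_iff g (g⁻¹ * d * g) (g * x * g⁻¹)).mp hc
    have e2 : g⁻¹ * (g * x * g⁻¹) * g = x := by group
    rwa [e2] at this

/-- conjugation by an element of the centraliser of `a` preserves `Ap D a` -/
theorem conj_mem_Ap (h : TT D) {g a x : G} (hg : Commute g a) (hx : x ∈ Ap D a) :
    g * x * g⁻¹ ∈ Ap D a := by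
  refine ⟨h.hconj g x hx.1, fun hc => hx.2 ?_⟩
  have h1 : Commute g⁻¹ a := hg.inv_left
  have : Commute (g⁻¹ * a * g) x := by
    have := (TT.commute_conj_iff g⁻¹ a x)
    rw [inv_inv] at this
    exact this.mpr hc
  have e : g⁻¹ * a * g = a := by
    rw [h1.eq, mul_assoc, inv_mul_cancel, mul_one]
  rwa [e] at this

/-! ### conjugacy under a subgroup -/

/-- conjugacy under the subgroup `K` -/
def KC (K : Subgroup G) (u v : G) : Prop := ∃ g ∈ K, g * u * g⁻¹ = v

theorem KC.refl (K : Subgroup G) (u : G) : KC K u u := ⟨1, K.one_mem, by group⟩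

theorem KC.symm {K : Subgroup G} {u v : G} (h1 : KC K u v) : KC K v u := by
  obtain ⟨g, hg, rfl⟩ := h1
  exact ⟨g⁻¹, K.inv_mem hg, by group⟩

theorem KC.trans {K : Subgroup G} {u v w : G} (h1 : KC K u v) (h2 : KC K v w) : KC K u w := by
  obtain ⟨g, hg, rfl⟩ := h1
  obtain ⟨k, hk, rfl⟩ := h2
  exact ⟨k * g, K.mul_mem hk hg, by group⟩

/-- the third member of a line is a conjugate of the first by the third -/
theorem conj_third (h : TT D) {u v : G} (hu : u ∈ D) (hv : v ∈ D) (hn : ¬ Commute u v) :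
    (v * u * v⁻¹) * u * (v * u * v⁻¹)⁻¹ = v := by
  have huu := h.sq hu
  have hvv := h.sq hv
  have hui := h.inv hu
  have hvi := h.inv hv
  have hbr := h.braid hu hv hn
  rw [mul_inv_rev, mul_inv_rev, inv_inv, hvi, hui]
  calc v * u * v * u * (v * (u * v)) = (v * u * v) * u * (v * u * v) := by group
    _ = (u * v * u) * u * (u * v * u) := by rw [hbr]
    _ = u * v * (u * u) * (u * v * u) := by group
    _ = u * (v * u * v) * u := by rw [huu]; group
    _ = u * (u * v * u) * u := by rw [hbr]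
    _ = (u * u) * v * (u * u) := by group
    _ = v := by rw [huu, one_mul, mul_one]

theorem conj_symm (h : TT D) {u v : G} (hu : u ∈ D) (hv : v ∈ D) (hn : ¬ Commute u v) :
    v * u * v⁻¹ = u * v * u⁻¹ := by
  rw [h.inv hu, h.inv hv]
  exact (h.braid hu hv hn).symm

section fusion

variable (h : TT D) {a : G} (ha : a ∈ D) (K : Subgroup G)
  (hK1 : ∀ y ∈ D, Commute a y → y ∈ K)
include h ha hK1

/-- two commuting members of `Ap D a` are conjugate under `K` -/
theorem KC_of_commute {u v : G} (hu : u ∈ Ap D a) (hv : v ∈ Ap D a) (hc : Commute u v) :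
    KC K u v := by
  by_cases huv : u = v
  · rw [huv]; exact KC.refl K v
  have hua : ¬ Commute u a := fun hh => hu.2 hh.symm
  have h1 := s4_facts h hu.1 ha hv.1 huv hc hua hv.2
  have h2 := s4_more h hu.1 ha hv.1 huv hc hua hv.2
  have hf : (u * v) * a * (u * v)⁻¹ ∈ K := hK1 _ (h.hconj _ a ha) h1.1
  exact ⟨a * ((u * v) * a * (u * v)⁻¹), K.mul_mem (hK1 a ha (Commute.refl a)) hf, h2.2.1⟩

/-- two members of `Ap D a` spanning a line whose third member commutes with `a` are conjugate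
under `K` -/
theorem KC_of_third {u v : G} (hu : u ∈ Ap D a) (hv : v ∈ Ap D a) (hn : ¬ Commute u v)
    (hc : Commute a (v * u * v⁻¹)) : KC K u v :=
  ⟨v * u * v⁻¹, hK1 _ (h.hconj v u hu.1) hc, conj_third h hu.1 hv.1 hn⟩

/-- members of `Ap D a` not conjugate under `K` do not commute, and the third member of their
line does not commute with `a` -/
theorem not_KC {u v : G} (hu : u ∈ Ap D a) (hv : v ∈ Ap D a) (hn : ¬ KC K u v) :
    ¬ Commute u v ∧ v * u * v⁻¹ ∈ Ap D a := by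
  have h1 : ¬ Commute u v := fun hc => hn (KC_of_commute h ha K hK1 hu hv hc)
  exact ⟨h1, h.hconj v u hu.1, fun hc => hn (KC_of_third h ha K hK1 hu hv h1 hc)⟩

/-- the second fusion fact -/
theorem KC_of_perp {x y d : G} (hx : x ∈ Ap D a) (hy : y ∈ Ap D a) (hd : d ∈ D)
    (hda : Commute a d) (hdx : Commute d x) (hdy : ¬ Commute d y) (hxy : ¬ Commute x y)
    (he : y * x * y⁻¹ ∈ Ap D a) : KC K y (y * x * y⁻¹) := by
  have hdK : d ∈ K := hK1 d hd hda
  have hy' : d * y * d⁻¹ ∈ Ap D a := conj_mem_Ap h hda.symm hy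
  have hxd : x ≠ d := by
    rintro rfl
    exact hx.2 hda
  have h2 := s4_more h hx.1 hy.1 hd hxd hdx.symm hxy (fun hc => hdy hc.symm)
  have h3 : KC K (y * x * y⁻¹) (d * y * d⁻¹) := KC_of_commute h ha K hK1 he hy' h2.2.2
  have h4 : KC K y (d * y * d⁻¹) := ⟨d, hdK, rfl⟩
  exact h4.trans h3.symm

/-- for members `x`, `y` of `Ap D a` not conjugate under `K` the sets `Ex D a x`, `Ex D a y` are
nested -/
theorem Ex_nested {x y : G} (hx : x ∈ Ap D a) (hy : y ∈ Ap D a) (hn : ¬ KC K x y) :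
    Ex D a x ⊆ Ex D a y ∨ Ex D a y ⊆ Ex D a x := by
  by_contra hcon
  push Not at hcon
  obtain ⟨h1, h2⟩ := hcon
  rw [Set.not_subset] at h1 h2
  obtain ⟨d, hd1, hd2⟩ := h1
  obtain ⟨d', hd1', hd2'⟩ := h2
  obtain ⟨hxy, he⟩ := not_KC h ha K hK1 hx hy hn
  have hdy : Commute d y := by
    by_contra hc
    exact hd2 ⟨hd1.1, hc⟩
  have hdx' : Commute d' x := by
    by_contra hc
    exact hd2' ⟨hd1'.1, hc⟩
  have e := conj_symm h hx.1 hy.1 hxy
  have k1 : KC K y (y * x * y⁻¹) :=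
    KC_of_perp h ha K hK1 hx hy hd1'.1.1 hd1'.1.2.2 hdx' hd1'.2 hxy he
  have he' : x * y * x⁻¹ ∈ Ap D a := by rw [← e]; exact he
  have k2 : KC K x (x * y * x⁻¹) :=
    KC_of_perp h ha K hK1 hy hx hd1.1.1 hd1.1.2.2 hdy hd1.2 (fun hc => hxy hc.symm) he'
  rw [← e] at k2
  exact hn (k2.trans k1.symm)

end fusion

end Cfsg.Agent.H9R3
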