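import Mathlib
import Cfsg.Prelude
import Cfsg.Agent.Lib.Helper9.R3a

set_option autoImplicit false

/-!
# Rank three for 3-transposition groups: consequences of primitivity
-/

namespace Cfsg.Agent.H9R3

open Cfsg Cfsg.Agent.H9TT

variable {G : Type*} [Group G] {D : Set G}

/-- the fibre of an equivariant set-valued invariant is a block -/
theorem blk_of_equivariant (h : TT D) (F : G → Set G)
    (hF : ∀ g u : G, F (g * u * g⁻¹) = cj g (F u)) (a : G) :
    Blk {u | u ∈ D ∧ F u = F a} := by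
  intro g
  by_cases hg : F (g * a * g⁻¹) = F a
  · left
    have hfix : cj g (F a) = F a := by rw [← hF, hg]
    ext w
    rw [mem_cj]
    constructor
    · rintro ⟨h1, h2⟩
      have e : g * (g⁻¹ * w * g) * g⁻¹ = w := by group
      refine ⟨?_, ?_⟩
      · have := h.hconj g _ h1
        rwa [e] at this
      · have h3 := hF g (g⁻¹ * w * g)
        rw [e, h2, hfix] at h3
        exact h3
    · rintro ⟨h1, h2⟩
      refine ⟨h.hconj' g w h1, ?_⟩
      have e1 := hF g⁻¹ w
      rw [inv_inv] at e1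
      rw [e1, h2]
      calc cj g⁻¹ (F a) = cj g⁻¹ (cj g (F a)) := by rw [hfix]
        _ = F a := cj_inv_cj g (F a)
  · right
    rw [Set.disjoint_left]
    rintro w hw1 hw2
    rw [mem_cj] at hw1
    apply hg
    have e : g * (g⁻¹ * w * g) * g⁻¹ = w := by group
    have h3 := hF g (g⁻¹ * w * g)
    rw [e, hw1.2] at h3
    rw [hF, ← h3, hw2.2]

/-- an inclusion between the sets of non-commuting partners of two members is an equality -/
theorem Ap_eq_of_subset [Finite G] (h : TC D) {a d : G} (ha : a ∈ D) (hd : d ∈ D)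
    (hsub : Ap D a ⊆ Ap D d) : Ap D a = Ap D d := by
  obtain ⟨g, rfl⟩ := h.hclass a ha d hd
  apply Set.eq_of_subset_of_ncard_le hsub _ (Set.toFinite _)
  rw [Ap_conj h.toTT, cj_ncard]

theorem Dp_eq_of_subset [Finite G] (h : TC D) {a d : G} (ha : a ∈ D) (hd : d ∈ D)
    (hsub : Dp D a ⊆ Dp D d) : Dp D a = Dp D d := by
  obtain ⟨g, rfl⟩ := h.hclass a ha d hd
  apply Set.eq_of_subset_of_ncard_le hsub _ (Set.toFinite _)
  rw [Dp_conj h.toTT, cj_ncard]

/-- trivial `V`-classes -/
theorem V_trivial (h : TC D) (hprim : IsPrimitiveUnderConj D) {a d : G} (ha : a ∈ D) (hd : d ∈ D)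
    (hA : (Ap D a).Nonempty) (hAd : Ap D d = Ap D a) : d = a := by
  by_contra hne
  have hB := blk_of_equivariant h.toTT (fun u => Ap D u) (fun g u => Ap_conj h.toTT g u) a
  have hBD : {u | u ∈ D ∧ Ap D u = Ap D a} ⊆ D := fun u hu => hu.1
  have hBe := eq_of_primitive hprim hBD hB (a := a) (b := d) ⟨ha, rfl⟩ ⟨hd, hAd⟩
    (fun e => hne e.symm)
  obtain ⟨x, hx⟩ := hA
  have hxB : x ∈ {u | u ∈ D ∧ Ap D u = Ap D a} := by rw [hBe]; exact hx.1
  have hxx : x ∈ Ap D x := by rw [hxB.2]; exact hx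
  exact hxx.2 (Commute.refl x)

/-- trivial `W`-classes -/
theorem W_trivial (h : TC D) (hprim : IsPrimitiveUnderConj D) {a d : G} (ha : a ∈ D) (hd : d ∈ D)
    (hA : (Dp D a).Nonempty) (hAd : Dp D d = Dp D a) : d = a := by
  by_contra hne
  have hB := blk_of_equivariant h.toTT (fun u => Dp D u) (fun g u => Dp_conj h.toTT g u) a
  have hBD : {u | u ∈ D ∧ Dp D u = Dp D a} ⊆ D := fun u hu => hu.1
  have hBe := eq_of_primitive hprim hBD hB (a := a) (b := d) ⟨ha, rfl⟩ ⟨hd, hAd⟩
    (fun e => hne e.symm)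
  obtain ⟨x, hx⟩ := hA
  have hxB : x ∈ {u | u ∈ D ∧ Dp D u = Dp D a} := by rw [hBe]; exact hx.1
  have hxx : x ∈ Dp D x := by rw [hxB.2]; exact hx
  exact hxx.2.1 rfl

/-- every member of `Ap D a` fails to commute with some member of `Dp D a` -/
theorem Ex_nonempty [Finite G] (h : TC D) (hprim : IsPrimitiveUnderConj D) {a x : G} (ha : a ∈ D)
    (hA : (Dp D a).Nonempty) (hx : x ∈ Ap D a) : (Ex D a x).Nonempty := by
  by_contra hcon
  rw [Set.not_nonempty_iff_eq_empty] at hcon
  have hsub : Dp D a ⊆ Dp D x := by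
    intro d hd
    have hdx : Commute d x := by
      by_contra hc
      have : d ∈ Ex D a x := ⟨hd, hc⟩
      rw [hcon] at this
      exact this
    refine ⟨hd.1, ?_, hdx.symm⟩
    rintro rfl
    exact hx.2 hd.2.2
  have he := Dp_eq_of_subset h ha hx.1 hsub
  have := W_trivial h hprim ha hx.1 hA he.symm
  rw [this] at hx
  exact hx.2 (Commute.refl a)

end Cfsg.Agent.H9R3
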