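import Mathlib
import Cfsg.Prelude
import Cfsg.Agent.Lib.Helper9.R3b

set_option autoImplicit false

/-!
# Rank three for 3-transposition groups: transitivity on the non-commuting partners
-/

namespace Cfsg.Agent.H9R3

open Cfsg Cfsg.Agent.H9TT

variable {G : Type*} [Group G] {D : Set G}

theorem Ex_ncard_conj [Finite G] (h : TT D) (g a x : G) :
    (Ex D (g * a * g⁻¹) (g * x * g⁻¹)).ncard = (Ex D a x).ncard := by
  rw [Ex_conj h, cj_ncard]

/-- the members of `Ap D u` whose `Ex`-set is not of least size -/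
def Gam (D : Set G) (u : G) : Set G :=
  {y | y ∈ Ap D u ∧ ∃ x ∈ Ap D u, (Ex D u x).ncard < (Ex D u y).ncard}

theorem Gam_conj [Finite G] (h : TT D) (g u : G) : Gam D (g * u * g⁻¹) = cj g (Gam D u) := by
  ext y
  rw [mem_cj]
  have ey : g * (g⁻¹ * y * g) * g⁻¹ = y := by group
  constructor
  · rintro ⟨h1, x, hx, hlt⟩
    refine ⟨(mem_Ap_conj h g u y).mp h1, g⁻¹ * x * g, (mem_Ap_conj h g u x).mp hx, ?_⟩
    have ex : g * (g⁻¹ * x * g) * g⁻¹ = x := by group
    rw [← Ex_ncard_conj h g u (g⁻¹ * x * g), ← Ex_ncard_conj h g u (g⁻¹ * y * g), ex, ey]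
    exact hlt
  · rintro ⟨h1, x, hx, hlt⟩
    refine ⟨(mem_Ap_conj h g u y).mpr h1, g * x * g⁻¹, ?_, ?_⟩
    · rw [mem_Ap_conj h]
      have : g⁻¹ * (g * x * g⁻¹) * g = x := by group
      rw [this]; exact hx
    · rw [Ex_ncard_conj h g u x]
      rw [← Ex_ncard_conj h g u (g⁻¹ * y * g), ey] at hlt
      exact hlt

/-- the sizes of the sets `Ex D a x` do not depend on `x` -/
theorem Ex_ncard_const [Finite G] (h : TC D) (hprim : IsPrimitiveUnderConj D) {a : G} (ha : a ∈ D)
    (hDp : (Dp D a).Nonempty) :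
    ∀ x ∈ Ap D a, ∀ y ∈ Ap D a, (Ex D a x).ncard = (Ex D a y).ncard := by
  have key : Gam D a = ∅ := by
    by_contra hne
    rw [← Ne, ← Set.nonempty_iff_ne_empty] at hne
    obtain ⟨y0, hy0⟩ := hne
    -- a member with least `Ex`-set
    obtain ⟨x1, hx1, hmin⟩ := Set.exists_min_image (Ap D a) (fun x => (Ex D a x).ncard)
      (Set.toFinite _) ⟨y0, hy0.1⟩
    obtain ⟨d, hd⟩ := Ex_nonempty h hprim ha hDp hx1
    have hdD : d ∈ D := hd.1.1
    have hda : Commute a d := hd.1.2.2
    have hdne : d ≠ a := hd.1.2.1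
    -- `d` commutes with no member of `Gam D a`
    have hdG : ∀ y ∈ Gam D a, ¬ Commute d y := by
      rintro y ⟨hy, x, hx, hlt⟩
      have hlt' : (Ex D a x1).ncard < (Ex D a y).ncard := lt_of_le_of_lt (hmin x hx) hlt
      have hnK : ¬ KC (Subgroup.centralizer ({a} : Set G)) x1 y := by
        rintro ⟨g, hg, rfl⟩
        rw [Subgroup.mem_centralizer_singleton_iff] at hg
        have e : g * a * g⁻¹ = a := by rw [hg, mul_assoc, mul_inv_cancel, mul_one]
        have := Ex_ncard_conj h.toTT g a x1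
        rw [e] at this
        omega
      have hK1 : ∀ y ∈ D, Commute a y → y ∈ Subgroup.centralizer ({a} : Set G) := by
        intro y _ hc
        rw [Subgroup.mem_centralizer_singleton_iff]
        exact hc.eq.symm
      rcases Ex_nested h.toTT ha _ hK1 hx1 hy hnK with h1 | h1
      · exact (h1 hd).2
      · exfalso
        have := Set.ncard_le_ncard h1 (Set.toFinite _)
        omega
    -- `Gam D a ⊆ Gam D d`
    have hsub : Gam D a ⊆ Gam D d := by
      intro y hy
      have hdy := hdG y hy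
      have hay : ¬ Commute a y := hy.1.2
      have hyd : ¬ Commute y d := fun hc => hdy hc.symm
      have f1 := s4_facts h.toTT ha hy.1.1 hdD (fun e => hdne e.symm) hda hay hyd
      have f2 := s4_more h.toTT ha hy.1.1 hdD (fun e => hdne e.symm) hda hay hyd
      obtain ⟨g0, hg0⟩ : ∃ g0, g0 = y * ((a * d) * y * (a * d)⁻¹) := ⟨_, rfl⟩
      rw [← hg0] at f2
      have hgy : g0 * y * g0⁻¹ = y := by
        have hc : Commute g0 y := by
          rw [hg0]
          exact (Commute.refl y).mul_left f1.1.symm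
        rw [hc.eq, mul_assoc, mul_inv_cancel, mul_one]
      have : g0 * y * g0⁻¹ ∈ cj g0 (Gam D a) := conj_mem_cj hy
      rw [← Gam_conj h.toTT, f2.2.1, hgy] at this
      exact this
    have heq : Gam D a = Gam D d := by
      obtain ⟨k, rfl⟩ := h.hclass a ha d hdD
      apply Set.eq_of_subset_of_ncard_le hsub _ (Set.toFinite _)
      rw [Gam_conj h.toTT, cj_ncard]
    have hB := blk_of_equivariant h.toTT (fun u => Gam D u) (fun g u => Gam_conj h.toTT g u) a
    have hBD : {u | u ∈ D ∧ Gam D u = Gam D a} ⊆ D := fun u hu => hu.1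
    have hBe := eq_of_primitive hprim hBD hB (a := a) (b := d) ⟨ha, rfl⟩ ⟨hdD, heq.symm⟩
      (fun e => hdne e.symm)
    have hyB : y0 ∈ {u | u ∈ D ∧ Gam D u = Gam D a} := by rw [hBe]; exact hy0.1.1
    have hyy : y0 ∈ Gam D y0 := by rw [hyB.2]; exact hy0
    exact hyy.1.2 (Commute.refl y0)
  intro x hx y hy
  by_contra hne
  rcases lt_or_gt_of_ne hne with h1 | h1
  · have : y ∈ Gam D a := ⟨hy, x, hx, h1⟩
    rw [key] at this
    exact this
  · have : x ∈ Gam D a := ⟨hx, y, hy, h1⟩
    rw [key] at this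
    exact this

/-- **transitivity on the non-commuting partners**: a subgroup containing the members of `D`
commuting with `a` is transitive on `Ap D a` -/
theorem KC_all [Finite G] (h : TC D) (hprim : IsPrimitiveUnderConj D) {a : G} (ha : a ∈ D)
    (hDp : (Dp D a).Nonempty) (K : Subgroup G) (hK1 : ∀ y ∈ D, Commute a y → y ∈ K) :
    ∀ x ∈ Ap D a, ∀ y ∈ Ap D a, KC K x y := by
  intro x0 hx0 y0 hy0
  by_contra hn0
  have hconst := Ex_ncard_const h hprim ha hDp
  -- non-conjugate members have the same `Ex`-set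
  have hE : ∀ x ∈ Ap D a, ∀ y ∈ Ap D a, ¬ KC K x y → Ex D a x = Ex D a y := by
    intro x hx y hy hn
    rcases Ex_nested h.toTT ha K hK1 hx hy hn with h1 | h1
    · exact Set.eq_of_subset_of_ncard_le h1 (hconst x hx y hy).ge (Set.toFinite _)
    · exact (Set.eq_of_subset_of_ncard_le h1 (hconst x hx y hy).le (Set.toFinite _)).symm
  -- hence all `Ex`-sets coincide
  have hE0 : ∀ x ∈ Ap D a, Ex D a x = Ex D a x0 := by
    intro x hx
    by_cases h1 : KC K x x0
    · have h2 : ¬ KC K x y0 := fun hh => hn0 (h1.symm.trans hh)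
      rw [hE x hx y0 hy0 h2, hE x0 hx0 y0 hy0 hn0]
    · exact hE x hx x0 hx0 h1
  obtain ⟨d, hd⟩ := Ex_nonempty h hprim ha hDp hx0
  have hsub : Ap D a ⊆ Ap D d := by
    intro x hx
    have : d ∈ Ex D a x := by rw [hE0 x hx]; exact hd
    exact ⟨hx.1, this.2⟩
  have he := Ap_eq_of_subset h ha hd.1.1 hsub
  exact hd.1.2.1 (V_trivial h hprim ha hd.1.1 ⟨x0, hx0⟩ he.symm)

end Cfsg.Agent.H9R3
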