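import Mathlib
import Cfsg.Prelude
import Cfsg.Agent.Lib.Helper9.R3c

set_option autoImplicit false

/-!
# Rank three for 3-transposition groups: the commuting partners
-/

namespace Cfsg.Agent.H9R3

open Cfsg Cfsg.Agent.H9TT

variable {G : Type*} [Group G] {D : Set G}

/-- the non-commuting partners of `a` generate the group -/
theorem closure_Ap_eq_top (h : TC D) {a : G} (hA : (Ap D a).Nonempty) :
    Subgroup.closure (Ap D a) = ⊤ := by
  obtain ⟨N, hN⟩ : ∃ N : Subgroup G, N = Subgroup.closure (Ap D a) := ⟨_, rfl⟩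
  rw [← hN]
  have hsub : Ap D a ⊆ N := by rw [hN]; exact Subgroup.subset_closure
  have h1 : ∀ q ∈ D, ∀ n ∈ N, q * n * q⁻¹ ∈ N := by
    intro q hq n hn
    rw [hN] at hn
    induction hn using Subgroup.closure_induction with
    | mem x hx =>
      by_cases hc : Commute a q
      · exact hsub (conj_mem_Ap h.toTT hc.symm hx)
      · have hqN : q ∈ N := hsub ⟨hq, hc⟩
        exact N.mul_mem (N.mul_mem hqN (hsub hx)) (N.inv_mem hqN)
    | one => rw [mul_one, mul_inv_cancel]; exact N.one_mem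
    | mul x y _ _ hx hy =>
      have : q * (x * y) * q⁻¹ = (q * x * q⁻¹) * (q * y * q⁻¹) := by group
      rw [this]; exact N.mul_mem hx hy
    | inv x _ hx =>
      have : q * x⁻¹ * q⁻¹ = (q * x * q⁻¹)⁻¹ := by group
      rw [this]; exact N.inv_mem hx
  have h2 : ∀ g : G, (∀ n ∈ N, g * n * g⁻¹ ∈ N) ∧ (∀ n ∈ N, g⁻¹ * n * g ∈ N) := by
    intro g
    have hg : g ∈ Subgroup.closure D := by rw [h.hgen]; exact Subgroup.mem_top g
    induction hg using Subgroup.closure_induction with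
    | mem q hq =>
      refine ⟨h1 q hq, ?_⟩
      intro n hn
      have := h1 q hq n hn
      rwa [h.toTT.inv hq] at this ⊢
    | one =>
      refine ⟨?_, ?_⟩ <;> intro n hn <;> simpa using hn
    | mul x y _ _ hx hy =>
      refine ⟨?_, ?_⟩
      · intro n hn
        have : (x * y) * n * (x * y)⁻¹ = x * (y * n * y⁻¹) * x⁻¹ := by group
        rw [this]; exact hx.1 _ (hy.1 n hn)
      · intro n hn
        have : (x * y)⁻¹ * n * (x * y) = y⁻¹ * (x⁻¹ * n * x) * y := by group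
        rw [this]; exact hy.2 _ (hx.2 n hn)
    | inv x _ hx =>
      refine ⟨?_, ?_⟩
      · intro n hn
        have := hx.2 n hn
        rwa [inv_inv]
      · intro n hn
        have := hx.1 n hn
        rwa [inv_inv]
  obtain ⟨x, hx⟩ := hA
  rw [eq_top_iff, ← h.hgen, Subgroup.closure_le]
  intro e he
  obtain ⟨g, rfl⟩ := h.hclass x hx.1 e he
  exact (h2 g).1 x (hsub hx)

/-- every member of `Dp D a` fails to commute with some member of `Ap D a` -/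
theorem exists_Ap_not_commute (h : TC D) (hD2 : ∃ a ∈ D, ∃ b ∈ D, a ≠ b) {a d : G}
    (hA : (Ap D a).Nonempty) (hd : d ∈ D) : ∃ x ∈ Ap D a, ¬ Commute d x := by
  by_contra hcon
  push Not at hcon
  apply h.not_mem_center hD2 hd
  rw [Subgroup.mem_center_iff]
  have hle : Subgroup.closure (Ap D a) ≤ Subgroup.centralizer ({d} : Set G) := by
    rw [Subgroup.closure_le]
    intro x hx
    rw [SetLike.mem_coe, Subgroup.mem_centralizer_singleton_iff]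
    exact (hcon x hx).eq.symm
  rw [closure_Ap_eq_top h hA] at hle
  intro g
  have := hle (Subgroup.mem_top g)
  rw [Subgroup.mem_centralizer_singleton_iff] at this
  exact this

/-- `Ap D a` is not empty -/
theorem Ap_nonempty (h : TC D) (hD2 : ∃ a ∈ D, ∃ b ∈ D, a ≠ b) {a : G} (ha : a ∈ D) :
    (Ap D a).Nonempty := by
  by_contra hcon
  rw [Set.not_nonempty_iff_eq_empty] at hcon
  apply h.not_mem_center hD2 ha
  apply h.mem_center
  intro e he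
  by_contra hc
  have : e ∈ Ap D a := ⟨he, fun hh => hc hh.symm⟩
  rw [hcon] at this
  exact this

/-- a part of `Dp D a` commuting with the complementary part is invariant under the members of
`D` commuting with `a` -/
theorem conj_mem_part (h : TT D) {a : G} (Φ Ψ : Set G) (hun : Φ ∪ Ψ = Dp D a)
    (hdisj : Disjoint Φ Ψ) (hcomm : ∀ φ ∈ Φ, ∀ ψ ∈ Ψ, Commute φ ψ) {q : G} (hq : q ∈ D)
    (hqa : Commute a q) {φ : G} (hφ : φ ∈ Φ) : q * φ * q⁻¹ ∈ Φ := by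
  have hφD : φ ∈ Dp D a := by rw [← hun]; exact Or.inl hφ
  have h1 : q * φ * q⁻¹ ∈ Dp D a := by
    refine ⟨h.hconj q φ hφD.1, ?_, ?_⟩
    · intro e
      apply hφD.2.1
      calc φ = q⁻¹ * (q * φ * q⁻¹) * q := by group
        _ = q⁻¹ * a * q := by rw [e]
        _ = a := by rw [mul_assoc, hqa.eq, inv_mul_cancel_left]
    · exact (hqa.mul_right hφD.2.2).mul_right hqa.inv_right
  rw [← hun] at h1
  rcases h1 with h1 | h1
  · exact h1
  · by_cases hqa' : q = a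
    · have : q * φ * q⁻¹ = φ := by
        rw [hqa', hφD.2.2.eq, mul_assoc, mul_inv_cancel, mul_one]
      rw [this]; exact hφ
    · have hqD : q ∈ Dp D a := ⟨hq, hqa', hqa⟩
      rw [← hun] at hqD
      rcases hqD with hqΦ | hqΨ
      · exfalso
        have c1 : Commute q (q * φ * q⁻¹) := hcomm q hqΦ _ h1
        have : φ = q * φ * q⁻¹ := by
          calc φ = q⁻¹ * ((q * φ * q⁻¹) * q) := by group
            _ = q⁻¹ * (q * (q * φ * q⁻¹)) := by rw [c1.eq]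
            _ = q * φ * q⁻¹ := by group
        rw [← this] at h1
        exact Set.disjoint_left.mp hdisj hφ h1
      · have c1 : Commute φ q := hcomm φ hφ q hqΨ
        have : q * φ * q⁻¹ = φ := by
          rw [← c1.eq, mul_assoc, mul_inv_cancel, mul_one]
        rw [this]; exact hφ

/-- the fourth member of a frame -/
theorem frame_elt (h : TT D) {a d e x : G} (ha : a ∈ D) (hd : d ∈ D) (he : e ∈ D) (hx : x ∈ D)
    (hde' : d ≠ e) (had : Commute a d) (hae : Commute a e) (hde : Commute d e)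
    (hax : ¬ Commute a x) (hdx : ¬ Commute d x) (hex : ¬ Commute e x) :
    ∃ f ∈ D, f ≠ a ∧ Commute a f ∧ (a * f) * x * (a * f)⁻¹ = (d * e) * x * (d * e)⁻¹ := by
  have f1 := s4_facts h hd hx he hde' hde hdx (fun hc => hex hc.symm)
  obtain ⟨x', hx'⟩ : ∃ x', x' = (d * e) * x * (d * e)⁻¹ := ⟨_, rfl⟩
  rw [← hx'] at f1 ⊢
  have hx'D : x' ∈ D := by rw [hx']; exact h.hconj _ x hx
  have hax' : ¬ Commute a x' := by
    have hc : Commute (d * e) a := (had.mul_right hae).symm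
    have := conj_mem_Ap h hc (⟨hx, hax⟩ : x ∈ Ap D a)
    rw [← hx'] at this
    exact this.2
  have hxa : ¬ Commute x a := fun hc => hax hc.symm
  have f2 := s4_facts h hx ha hx'D (fun e => f1.2.1 e.symm) f1.1 hxa hax'
  have f3 := s4_more h hx ha hx'D (fun e => f1.2.1 e.symm) f1.1 hxa hax'
  exact ⟨(x * x') * a * (x * x')⁻¹, h.hconj _ a ha, f2.2.1, f2.1, f3.2.1⟩

/-- one half of the frame argument -/
theorem frame_half {a d e x f : G} (Ψ : Set G) (hdΨ : ∀ ψ ∈ Ψ, Commute d ψ)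
    (haΨ : ∀ ψ ∈ Ψ, Commute a ψ) (hfΨ : ∀ ψ ∈ Ψ, Commute f ψ) (hee : e * e = 1)
    (hfx : (a * f) * x * (a * f)⁻¹ = (d * e) * x * (d * e)⁻¹) :
    ∀ ψ ∈ Ψ, ¬ Commute ψ x → ¬ Commute (e * ψ * e⁻¹) x := by
  intro ψ hψ hn hc
  apply hn
  have hei : e⁻¹ = e := inv_eq_of_mul_eq_one_right hee
  obtain ⟨g, hg⟩ : ∃ g, g = d⁻¹ * (a * f) := ⟨_, rfl⟩
  have hgx : g * x * g⁻¹ = e * x * e⁻¹ := by
    calc g * x * g⁻¹ = d⁻¹ * ((a * f) * x * (a * f)⁻¹) * d := by rw [hg]; group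
      _ = d⁻¹ * ((d * e) * x * (d * e)⁻¹) * d := by rw [hfx]
      _ = e * x * e⁻¹ := by group
  have hgψ : Commute g ψ := by
    rw [hg]
    exact (hdΨ ψ hψ).inv_left.mul_left ((haΨ ψ hψ).mul_left (hfΨ ψ hψ))
  -- `e ψ e⁻¹` commutes with `x`, so `ψ` commutes with `e⁻¹ x e = e x e⁻¹ = g x g⁻¹`
  have h1 : Commute ψ (e⁻¹ * x * e) := (TT.commute_conj_iff e ψ x).mp hc
  have h2 : e⁻¹ * x * e = g * x * g⁻¹ := by
    rw [hgx, hei]
  rw [h2] at h1
  have h3 : Commute (g⁻¹ * ψ * g) x := by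
    have := (TT.commute_conj_iff g⁻¹ ψ x)
    rw [inv_inv] at this
    exact this.mpr h1
  have h4 : g⁻¹ * ψ * g = ψ := by
    rw [mul_assoc, ← hgψ.eq, inv_mul_cancel_left]
  rwa [h4] at h3

/-- the final step of the connectedness argument -/
theorem part_final [Finite G] (h : TC D) (hprim : IsPrimitiveUnderConj D) {a : G} (ha : a ∈ D)
    (Φ Ψ : Set G) (hΨne : Ψ.Nonempty) (hun : Φ ∪ Ψ = Dp D a) (hdisj : Disjoint Φ Ψ)
    (hcomm : ∀ φ ∈ Φ, ∀ ψ ∈ Ψ, Commute φ ψ) {x : G} (hx : x ∈ Ap D a)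
    (hP : ∃ e ∈ Ψ, ¬ Commute e x)
    (Hn : ∀ e ∈ Ψ, ¬ Commute e x → ∀ ψ ∈ Ψ, ¬ Commute ψ x → ¬ Commute (e * ψ * e⁻¹) x) :
    False := by
  have hDp : (Dp D a).Nonempty := by
    obtain ⟨ψ, hψ⟩ := hΨne
    exact ⟨ψ, by rw [← hun]; exact Or.inr hψ⟩
  have hun' : Ψ ∪ Φ = Dp D a := by rw [Set.union_comm]; exact hun
  have hcomm' : ∀ ψ ∈ Ψ, ∀ φ ∈ Φ, Commute ψ φ := fun ψ hψ φ hφ => (hcomm φ hφ ψ hψ).symm
  -- invariance of the set of members of `Ψ` not commuting with `x` under the generators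
  have h1 : ∀ q ∈ D, Commute a q → ∀ ψ ∈ Ψ, ¬ Commute ψ x →
      q * ψ * q⁻¹ ∈ Ψ ∧ ¬ Commute (q * ψ * q⁻¹) x := by
    intro q hq hqa ψ hψ hψx
    refine ⟨conj_mem_part h.toTT Ψ Φ hun' hdisj.symm hcomm' hq hqa hψ, ?_⟩
    have hψD : ψ ∈ Dp D a := by rw [← hun]; exact Or.inr hψ
    have triv : Commute q ψ → ¬ Commute (q * ψ * q⁻¹) x := by
      intro c
      have : q * ψ * q⁻¹ = ψ := by rw [c.eq, mul_assoc, mul_inv_cancel, mul_one]
      rw [this]; exact hψx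
    by_cases hqa' : q = a
    · apply triv; rw [hqa']; exact hψD.2.2
    · have hqD : q ∈ Dp D a := ⟨hq, hqa', hqa⟩
      rw [← hun] at hqD
      rcases hqD with hqΦ | hqΨ
      · exact triv (hcomm q hqΦ ψ hψ)
      · by_cases hqx : Commute q x
        · intro hc
          apply hψx
          have h2 : Commute ψ (q⁻¹ * x * q) := (TT.commute_conj_iff q ψ x).mp hc
          have h3 : q⁻¹ * x * q = x := by
            rw [mul_assoc, ← hqx.eq, inv_mul_cancel_left]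
          rwa [h3] at h2
        · exact Hn q hqΨ hqx ψ hψ hψx
  obtain ⟨L, hL⟩ : ∃ L : Subgroup G, L = Subgroup.closure {y | y ∈ D ∧ Commute a y} := ⟨_, rfl⟩
  have h2 : ∀ g ∈ L, (∀ ψ ∈ Ψ, ¬ Commute ψ x → g * ψ * g⁻¹ ∈ Ψ ∧ ¬ Commute (g * ψ * g⁻¹) x) ∧
      (∀ ψ ∈ Ψ, ¬ Commute ψ x → g⁻¹ * ψ * g ∈ Ψ ∧ ¬ Commute (g⁻¹ * ψ * g) x) := by
    intro g hg
    rw [hL] at hg
    induction hg using Subgroup.closure_induction with
    | mem q hq =>
      refine ⟨h1 q hq.1 hq.2, ?_⟩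
      intro ψ hψ hψx
      have := h1 q hq.1 hq.2 ψ hψ hψx
      rwa [h.toTT.inv hq.1] at this ⊢
    | one =>
      refine ⟨?_, ?_⟩ <;> intro ψ hψ hψx <;> simpa using ⟨hψ, hψx⟩
    | mul u v _ _ hu hv =>
      refine ⟨?_, ?_⟩
      · intro ψ hψ hψx
        have e : (u * v) * ψ * (u * v)⁻¹ = u * (v * ψ * v⁻¹) * u⁻¹ := by group
        rw [e]
        obtain ⟨k1, k2⟩ := hv.1 ψ hψ hψx
        exact hu.1 _ k1 k2
      · intro ψ hψ hψx
        have e : (u * v)⁻¹ * ψ * (u * v) = v⁻¹ * (u⁻¹ * ψ * u) * v := by group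
        rw [e]
        obtain ⟨k1, k2⟩ := hu.2 ψ hψ hψx
        exact hv.2 _ k1 k2
    | inv u _ hu =>
      refine ⟨?_, ?_⟩
      · intro ψ hψ hψx
        have := hu.2 ψ hψ hψx
        rwa [inv_inv]
      · intro ψ hψ hψx
        have := hu.1 ψ hψ hψx
        rwa [inv_inv]
  obtain ⟨e, heΨ, hex⟩ := hP
  have heD : e ∈ Dp D a := by rw [← hun]; exact Or.inr heΨ
  have hK1 : ∀ y ∈ D, Commute a y → y ∈ L := by
    intro y hy hc
    rw [hL]
    exact Subgroup.subset_closure ⟨hy, hc⟩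
  have hsub : Ap D a ⊆ Ap D e := by
    intro y hy
    refine ⟨hy.1, ?_⟩
    obtain ⟨g, hg, rfl⟩ := KC_all h hprim ha hDp L hK1 x hx y hy
    intro hc
    have h3 : Commute (g⁻¹ * e * g) x := by
      have := (TT.commute_conj_iff g⁻¹ e x)
      rw [inv_inv] at this
      apply this.mpr
      exact hc
    exact ((h2 g hg).2 e heΨ hex).2 h3
  have heq := Ap_eq_of_subset h ha heD.1 hsub
  exact heD.2.1 (V_trivial h hprim ha heD.1 ⟨x, hx⟩ heq.symm)

/-- **connectedness**: `Dp D a` is not the union of two non-empty parts commuting with each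
other -/
theorem Dp_connected [Finite G] (h : TC D) (hprim : IsPrimitiveUnderConj D) {a : G} (ha : a ∈ D)
    (Φ Ψ : Set G) (hΦne : Φ.Nonempty) (hΨne : Ψ.Nonempty) (hun : Φ ∪ Ψ = Dp D a)
    (hdisj : Disjoint Φ Ψ) (hcomm : ∀ φ ∈ Φ, ∀ ψ ∈ Ψ, Commute φ ψ) : False := by
  have hD2 := hprim.2.1
  have hDp : (Dp D a).Nonempty := by
    obtain ⟨ψ, hψ⟩ := hΨne
    exact ⟨ψ, by rw [← hun]; exact Or.inr hψ⟩
  have hun' : Ψ ∪ Φ = Dp D a := by rw [Set.union_comm]; exact hun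
  have hcomm' : ∀ ψ ∈ Ψ, ∀ φ ∈ Φ, Commute ψ φ := fun ψ hψ φ hφ => (hcomm φ hφ ψ hψ).symm
  obtain ⟨x, hx⟩ := Ap_nonempty h hD2 ha
  obtain ⟨L, hL⟩ : ∃ L : Subgroup G, L = Subgroup.closure {y | y ∈ D ∧ Commute a y} := ⟨_, rfl⟩
  have hK1 : ∀ y ∈ D, Commute a y → y ∈ L := by
    intro y hy hc
    rw [hL]
    exact Subgroup.subset_closure ⟨hy, hc⟩
  -- invariance of the parts under `L`
  have hinv : ∀ (Φ' Ψ' : Set G), Φ' ∪ Ψ' = Dp D a → Disjoint Φ' Ψ' →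
      (∀ φ ∈ Φ', ∀ ψ ∈ Ψ', Commute φ ψ) → ∀ g ∈ L, ∀ φ ∈ Φ', g * φ * g⁻¹ ∈ Φ' := by
    intro Φ' Ψ' hu hd hc g hg
    rw [hL] at hg
    have : (∀ φ ∈ Φ', g * φ * g⁻¹ ∈ Φ') ∧ (∀ φ ∈ Φ', g⁻¹ * φ * g ∈ Φ') := by
      induction hg using Subgroup.closure_induction with
      | mem q hq =>
        refine ⟨fun φ hφ => conj_mem_part h.toTT Φ' Ψ' hu hd hc hq.1 hq.2 hφ, ?_⟩
        intro φ hφ
        have := conj_mem_part h.toTT Φ' Ψ' hu hd hc hq.1 hq.2 hφ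
        rwa [h.toTT.inv hq.1] at this ⊢
      | one =>
        refine ⟨?_, ?_⟩ <;> intro φ hφ <;> simpa using hφ
      | mul u v _ _ hu' hv' =>
        refine ⟨?_, ?_⟩
        · intro φ hφ
          have e : (u * v) * φ * (u * v)⁻¹ = u * (v * φ * v⁻¹) * u⁻¹ := by group
          rw [e]; exact hu'.1 _ (hv'.1 φ hφ)
        · intro φ hφ
          have e : (u * v)⁻¹ * φ * (u * v) = v⁻¹ * (u⁻¹ * φ * u) * v := by group
          rw [e]; exact hv'.2 _ (hu'.2 φ hφ)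
      | inv u _ hu' =>
        refine ⟨?_, ?_⟩
        · intro φ hφ
          have := hu'.2 φ hφ
          rwa [inv_inv]
        · intro φ hφ
          have := hu'.1 φ hφ
          rwa [inv_inv]
    exact this.1
  -- every member of `Ap D a` fails to commute with a member of each part
  have hmeet : ∀ (Φ' Ψ' : Set G), Φ'.Nonempty → Φ' ∪ Ψ' = Dp D a → Disjoint Φ' Ψ' →
      (∀ φ ∈ Φ', ∀ ψ ∈ Ψ', Commute φ ψ) → ∃ d ∈ Φ', ¬ Commute d x := by
    intro Φ' Ψ' hne hu hd hc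
    obtain ⟨d0, hd0⟩ := hne
    have hd0D : d0 ∈ Dp D a := by rw [← hu]; exact Or.inl hd0
    obtain ⟨y, hy, hdy⟩ := exists_Ap_not_commute h hD2 ⟨x, hx⟩ hd0D.1
    obtain ⟨g, hg, rfl⟩ := KC_all h hprim ha hDp L hK1 y hy x hx
    refine ⟨g * d0 * g⁻¹, hinv Φ' Ψ' hu hd hc g hg d0 hd0, ?_⟩
    intro hcc
    apply hdy
    have := (TT.commute_conj_iff g d0 (g * y * g⁻¹)).mp hcc
    have e : g⁻¹ * (g * y * g⁻¹) * g = y := by group
    rwa [e] at this
  obtain ⟨d1, hd1, hd1x⟩ := hmeet Φ Ψ hΦne hun hdisj hcomm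
  obtain ⟨e1, he1, he1x⟩ := hmeet Ψ Φ hΨne hun' hdisj.symm hcomm'
  -- the frame dichotomy
  have hframe : ∀ d ∈ Φ, ¬ Commute d x → ∀ e ∈ Ψ, ¬ Commute e x →
      (∀ ψ ∈ Ψ, ¬ Commute ψ x → ¬ Commute (e * ψ * e⁻¹) x) ∨
      (∀ φ ∈ Φ, ¬ Commute φ x → ¬ Commute (d * φ * d⁻¹) x) := by
    intro d hd hdx e he hex
    have hdD : d ∈ Dp D a := by rw [← hun]; exact Or.inl hd
    have heD : e ∈ Dp D a := by rw [← hun]; exact Or.inr he
    have hde' : d ≠ e := by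
      rintro rfl
      exact Set.disjoint_left.mp hdisj hd he
    have hde : Commute d e := hcomm d hd e he
    obtain ⟨f, hfD, hfa, haf, hfx⟩ := frame_elt h.toTT ha hdD.1 heD.1 hx.1 hde' hdD.2.2 heD.2.2
      hde hx.2 hdx hex
    have hfDp : f ∈ Dp D a := ⟨hfD, hfa, haf⟩
    have haΨ : ∀ ψ ∈ Ψ, Commute a ψ := by
      intro ψ hψ
      have : ψ ∈ Dp D a := by rw [← hun]; exact Or.inr hψ
      exact this.2.2
    have haΦ : ∀ φ ∈ Φ, Commute a φ := by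
      intro φ hφ
      have : φ ∈ Dp D a := by rw [← hun]; exact Or.inl hφ
      exact this.2.2
    rw [← hun] at hfDp
    rcases hfDp with hfΦ | hfΨ
    · left
      exact frame_half Ψ (fun ψ hψ => hcomm d hd ψ hψ) haΨ (fun ψ hψ => hcomm f hfΦ ψ hψ)
        (h.toTT.sq heD.1) hfx
    · right
      have hfx' : (a * f) * x * (a * f)⁻¹ = (e * d) * x * (e * d)⁻¹ := by
        rw [hfx, hde.eq]
      exact frame_half Φ (fun φ hφ => (hcomm φ hφ e he).symm) haΦ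
        (fun φ hφ => (hcomm φ hφ f hfΨ).symm) (h.toTT.sq hdD.1) hfx'
  by_cases hall : ∀ e ∈ Ψ, ¬ Commute e x → ∀ ψ ∈ Ψ, ¬ Commute ψ x → ¬ Commute (e * ψ * e⁻¹) x
  · exact part_final h hprim ha Φ Ψ hΨne hun hdisj hcomm hx ⟨e1, he1, he1x⟩ hall
  · push Not at hall
    obtain ⟨e0, he0, he0x, ψ0, hψ0, hψ0x, hbad⟩ := hall
    apply part_final h hprim ha Ψ Φ hΦne hun' hdisj.symm hcomm' hx ⟨d1, hd1, hd1x⟩
    intro d hd hdx
    rcases hframe d hd hdx e0 he0 he0x with h1 | h1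
    · exact absurd hbad (h1 ψ0 hψ0 hψ0x)
    · exact h1

/-- **transitivity on the commuting partners** -/
theorem Dp_transitive [Finite G] (h : TC D) (hprim : IsPrimitiveUnderConj D) {a : G} (ha : a ∈ D)
    {b b' : G} (hb : b ∈ Dp D a) (hb' : b' ∈ Dp D a) : ∃ g : G, Commute g a ∧ g * b * g⁻¹ = b' := by
  by_contra hcon
  obtain ⟨Φ, hΦ⟩ : ∃ Φ : Set G, Φ = {c | c ∈ Dp D a ∧ ∃ g : G, Commute g a ∧ g * b * g⁻¹ = c} :=
    ⟨_, rfl⟩
  obtain ⟨Ψ, hΨ⟩ : ∃ Ψ : Set G, Ψ = {c | c ∈ Dp D a ∧ ¬ ∃ g : G, Commute g a ∧ g * b * g⁻¹ = c} :=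
    ⟨_, rfl⟩
  have hbΦ : b ∈ Φ := by
    rw [hΦ]; exact ⟨hb, 1, Commute.one_left a, by group⟩
  have hb'Ψ : b' ∈ Ψ := by
    rw [hΨ]; exact ⟨hb', hcon⟩
  apply Dp_connected h hprim ha Φ Ψ ⟨b, hbΦ⟩ ⟨b', hb'Ψ⟩
  · ext c
    rw [hΦ, hΨ]
    constructor
    · rintro (hc | hc)
      · exact hc.1
      · exact hc.1
    · intro hc
      by_cases hh : ∃ g : G, Commute g a ∧ g * b * g⁻¹ = c
      · exact Or.inl ⟨hc, hh⟩
      · exact Or.inr ⟨hc, hh⟩
  · rw [Set.disjoint_left, hΦ, hΨ]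
    intro c hc1 hc2
    exact hc2.2 hc1.2
  · intro φ hφ ψ hψ
    rw [hΦ] at hφ
    rw [hΨ] at hψ
    by_contra hn
    apply hψ.2
    obtain ⟨g, hg, rfl⟩ := hφ.2
    refine ⟨(ψ * (g * b * g⁻¹) * ψ⁻¹) * g, ?_, ?_⟩
    · have c1 : Commute ψ a := hψ.1.2.2.symm
      have c2 : Commute (g * b * g⁻¹) a := hφ.1.2.2.symm
      exact ((c1.mul_left c2).mul_left c1.inv_left).mul_left hg
    · have := conj_third h.toTT hφ.1.1 hψ.1.1 hn
      calc (ψ * (g * b * g⁻¹) * ψ⁻¹) * g * b * ((ψ * (g * b * g⁻¹) * ψ⁻¹) * g)⁻¹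
          = (ψ * (g * b * g⁻¹) * ψ⁻¹) * (g * b * g⁻¹) * (ψ * (g * b * g⁻¹) * ψ⁻¹)⁻¹ := by group
        _ = ψ := this

end Cfsg.Agent.H9R3
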