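import Mathlib
import Cfsg.Prelude
import Cfsg.Agent.Lib.Helper9.R3d
import Cfsg.Agent.S5346

set_option autoImplicit false

/-!
# Rank three for 3-transposition groups: primitivity from a simple commutator subgroup
-/

namespace Cfsg.Agent.H9R3

open Cfsg Cfsg.Agent.H9TT Cfsg.Agent.Lib.Helper9 Cfsg.Agent.Lib.Helper3
open scoped commutatorElement

variable {G : Type*} [Group G] {D : Set G}

/-- a normal subgroup of `G` meets a simple non-abelian commutator subgroup trivially or contains
it -/
theorem simple_comm_dichotomy (hsimple : IsSimpleGroup (commutator G)) (N : Subgroup G)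
    [hN : N.Normal] : Disjoint N (commutator G) ∨ commutator G ≤ N := by
  have hn : (N.subgroupOf (commutator G)).Normal := hN.subgroupOf (commutator G)
  rcases hn.eq_bot_or_eq_top with h1 | h1
  · left
    exact Subgroup.subgroupOf_eq_bot.mp h1
  · right
    exact Subgroup.subgroupOf_eq_top.mp h1

/-- a normal subgroup meeting the commutator subgroup trivially is central -/
theorem le_center_of_disjoint_commutator (N : Subgroup G) [hN : N.Normal]
    (hd : Disjoint N (commutator G)) : N ≤ Subgroup.center G := by
  intro n hn
  rw [Subgroup.mem_center_iff]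
  intro g
  have h1 : ⁅g, n⁆ ∈ N := by
    have : ⁅g, n⁆ = (g * n * g⁻¹) * n⁻¹ := by
      rw [commutatorElement_def]
    rw [this]
    exact N.mul_mem (hN.conj_mem n hn g) (N.inv_mem hn)
  have h2 : ⁅g, n⁆ ∈ commutator G := by
    rw [commutator_def]
    exact Subgroup.commutator_mem_commutator (Subgroup.mem_top g) (Subgroup.mem_top n)
  have h3 : ⁅g, n⁆ = 1 := by
    have := Subgroup.disjoint_def.mp hd h1 h2
    exact this
  rw [commutatorElement_eq_one_iff_mul_comm] at h3
  exact h3

/-- a `p`-core is central when the commutator subgroup is simple and not abelian -/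
theorem pCore_le_center_of_simple [Finite G] (hsimple : IsSimpleGroup (commutator G))
    (hnonab : ∃ x y : commutator G, x * y ≠ y * x) (p : ℕ) [Fact p.Prime] :
    pCore p G ≤ Subgroup.center G := by
  haveI := pCore_normal' (G := G) p
  rcases simple_comm_dichotomy hsimple (pCore p G) with h1 | h1
  · exact le_center_of_disjoint_commutator _ h1
  · exfalso
    have hp : IsPGroup p (commutator G) := (pCore_isPGroup' (G := G) p).to_le h1
    haveI : Group.IsNilpotent (commutator G) := hp.isNilpotent
    have hs : Group.IsSolvable (commutator G) := inferInstance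
    have := (IsSimpleGroup.comm_iff_isSolvable (G := commutator G)).mpr hs
    obtain ⟨x, y, hxy⟩ := hnonab
    exact hxy (this x y)

/-- **primitivity** of a class of 3-transpositions generating a group with simple non-abelian
commutator subgroup -/
theorem primitive_of_simple_comm [Finite G] (hD : IsThreeTranspositionClass D)
    (hsimple : IsSimpleGroup (commutator G)) (hnonab : ∃ x y : commutator G, x * y ≠ y * x) :
    IsPrimitiveUnderConj D ∧ pCore 3 G ≤ Subgroup.center G := by
  have h := TC.of_class hD
  haveI : Fact (Nat.Prime 2) := ⟨Nat.prime_two⟩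
  haveI : Fact (Nat.Prime 3) := ⟨Nat.prime_three⟩
  have h2 := pCore_le_center_of_simple hsimple hnonab 2
  have h3 := pCore_le_center_of_simple hsimple hnonab 3
  -- `D` has two members
  have hD2 : ∃ a ∈ D, ∃ b ∈ D, a ≠ b := by
    by_contra hcon
    push Not at hcon
    have hc : Subgroup.center G = ⊤ := by
      rw [eq_top_iff, ← h.hgen, Subgroup.closure_le]
      intro n hn
      apply h.mem_center
      intro e he
      rw [hcon e he n hn]
    obtain ⟨x, y, hxy⟩ := hnonab
    apply hxy
    have hx : (x : G) ∈ Subgroup.center G := by rw [hc]; exact Subgroup.mem_top _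
    rw [Subgroup.mem_center_iff] at hx
    apply Subtype.ext
    rw [Subgroup.coe_mul, Subgroup.coe_mul]
    exact (hx y).symm
  obtain ⟨d, hd, -⟩ := id hD2
  obtain ⟨hcomp, hFs⟩ := h.layer_quasisimple hD2 h2 h3
  haveI := h.component_normal hcomp
  -- the layer is the commutator subgroup
  have hLC : layer G ≤ commutator G := by
    rw [commutator_def, ← commutator_layer_layer (G := G)]
    exact Subgroup.commutator_mono le_top le_top
  have hLne : layer G ≠ ⊥ := by
    intro e
    apply IsQuasisimple.commutator_self_ne_bot hcomp.2
    rw [e]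
    exact Subgroup.commutator_bot_left ⊥
  have hCL : commutator G ≤ layer G := by
    rcases simple_comm_dichotomy hsimple (layer G) with h1 | h1
    · exfalso
      apply hLne
      rw [eq_bot_iff]
      intro x hx
      exact Subgroup.disjoint_def.mp h1 hx (hLC hx)
    · exact h1
  have hidxC : (commutator G).index ≤ 2 := by
    apply h.index_le_two (commutator G) hd
    intro e he
    obtain ⟨g, rfl⟩ := h.hclass d hd e he
    have : d * (g * d * g⁻¹) = ⁅d, g⁆ := by
      rw [commutatorElement_def, h.toTT.inv hd]
      group
    rw [this, commutator_def]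
    exact Subgroup.commutator_mem_commutator (Subgroup.mem_top d) (Subgroup.mem_top g)
  have hidx : (layer G).index ≤ 2 := by
    rw [le_antisymm hLC hCL]
    exact hidxC
  exact ⟨h.primitive hD2 h2 h3 (layer G) hcomp.2 hFs hidx, h3⟩

/-- some member of `D` other than `a` commutes with `a` -/
theorem Dp_nonempty_of_simple_comm [Finite G] (hD : IsThreeTranspositionClass D)
    (hsimple : IsSimpleGroup (commutator G)) (hnonab : ∃ x y : commutator G, x * y ≠ y * x)
    {a : G} (ha : a ∈ D) : (Dp D a).Nonempty := by
  have h := TC.of_class hD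
  obtain ⟨hprim, h3⟩ := primitive_of_simple_comm hD hsimple hnonab
  have hD2 := hprim.2.1
  by_contra hcon
  rw [Set.not_nonempty_iff_eq_empty] at hcon
  have hp : ∀ u ∈ D, ∀ v ∈ D, Commute u v → u = v := by
    intro u hu v hv hc
    obtain ⟨g, rfl⟩ := h.hclass a ha u hu
    have hc' : Commute a (g⁻¹ * v * g) := (TT.commute_conj_iff g a v).mp hc
    have hv' : g⁻¹ * v * g ∈ D := h.toTT.hconj' g v hv
    by_contra hne
    have : g⁻¹ * v * g ∈ Dp D a := by
      refine ⟨hv', ?_, hc'⟩
      intro e
      apply hne
      rw [← e]
      group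
    rw [hcon] at this
    exact this
  have hw := width_one_of_pairwise ha hp
  have htop := (Cfsg.Agent.S5346.result h.group ha).mp hw
  apply h.not_mem_center hD2 ha
  rw [Subgroup.mem_center_iff]
  have hle : Subgroup.zpowers a ⊔ pCore 3 G ≤ Subgroup.centralizer ({a} : Set G) := by
    apply sup_le
    · rw [Subgroup.zpowers_le, Subgroup.mem_centralizer_singleton_iff]
    · exact h3.trans (Subgroup.center_le_centralizer _)
  rw [htop] at hle
  intro g
  have := hle (Subgroup.mem_top g)
  rw [Subgroup.mem_centralizer_singleton_iff] at this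
  exact this

end Cfsg.Agent.H9R3
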