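import Mathlib
import Cfsg.Prelude
import Cfsg.Agent.Lib.Helper9.R3e

set_option autoImplicit false

/-!
# Rank three for 3-transposition groups: Fischer's hypothesis (no solvable normal subgroup,
perfect commutator subgroup) gives primitivity
-/

namespace Cfsg.Agent.H9R3

open Cfsg Cfsg.Agent.H9TT Cfsg.Agent.Lib.Helper9 Cfsg.Agent.Lib.Helper3
open scoped commutatorElement Pointwise

variable {G : Type*} [Group G] {D : Set G}

/-- a group which is the product of a cyclic subgroup and a solvable normal subgroup is solvable -/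
theorem isSolvable_of_zpowers_sup {Q : Type*} [Group Q] (z : Q) (N : Subgroup Q) [hN : N.Normal]
    (hNs : Group.IsSolvable N) (htop : Subgroup.zpowers z ⊔ N = ⊤) : Group.IsSolvable Q := by
  have hq : Group.IsSolvable (Q ⧸ N) := by
    apply Group.isSolvable_of_comm
    have key : ∀ x : Q ⧸ N, ∃ i : ℤ, x = ((z : Q) : Q ⧸ N) ^ i := by
      intro x
      induction x using QuotientGroup.induction_on with
      | H g =>
        have hg : g ∈ Subgroup.zpowers z ⊔ N := by rw [htop]; exact Subgroup.mem_top g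
        rw [← SetLike.mem_coe, Subgroup.mul_normal, Set.mem_mul] at hg
        obtain ⟨u, hu, n, hn, rfl⟩ := hg
        obtain ⟨i, rfl⟩ := Subgroup.mem_zpowers_iff.mp hu
        refine ⟨i, ?_⟩
        rw [QuotientGroup.mk_mul, (QuotientGroup.eq_one_iff n).mpr hn, mul_one,
          QuotientGroup.mk_zpow]
    intro x y
    obtain ⟨i, rfl⟩ := key x
    obtain ⟨j, rfl⟩ := key y
    rw [← zpow_add, ← zpow_add, add_comm]
  apply solvable_of_ker_le_range N.subtype (QuotientGroup.mk' N)
  rw [QuotientGroup.ker_mk', Subgroup.range_subtype]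

/-- a perfect subgroup lies in every normal subgroup with solvable quotient -/
theorem perfect_le_of_solvable_quotient (L : Subgroup G) [hL : L.Normal]
    (hs : Group.IsSolvable (G ⧸ L)) (C : Subgroup G) (hperf : ⁅C, C⁆ = C) : C ≤ L := by
  obtain ⟨H, hH⟩ : ∃ H : Subgroup (G ⧸ L), H = C.map (QuotientGroup.mk' L) := ⟨_, rfl⟩
  have hHH : ⁅H, H⁆ = H := by
    rw [hH, ← Subgroup.map_commutator, hperf]
  have key : ∀ n : ℕ, H ≤ derivedSeries (G ⧸ L) n := by
    intro n
    induction n with
    | zero => exact le_top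
    | succ n ih =>
      rw [derivedSeries_succ, ← hHH]
      exact Subgroup.commutator_mono ih ih
  obtain ⟨n, hn⟩ := hs.solvable
  have hbot : H = ⊥ := by
    rw [eq_bot_iff, ← hn]
    exact key n
  rw [hH, Subgroup.map_eq_bot_iff, QuotientGroup.ker_mk'] at hbot
  exact hbot

/-- **primitivity** under Fischer's hypothesis -/
theorem primitive_of_no_solvable [Finite G] (hD : IsThreeTranspositionClass D)
    (hsol : ∀ N : Subgroup G, N.Normal → Group.IsSolvable ↥N → N = ⊥)
    (hperf : ⁅commutator G, commutator G⁆ = commutator G) : IsPrimitiveUnderConj D := by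
  have h := TC.of_class hD
  haveI : Fact (Nat.Prime 2) := ⟨Nat.prime_two⟩
  haveI : Fact (Nat.Prime 3) := ⟨Nat.prime_three⟩
  have hcore : ∀ p : ℕ, [Fact p.Prime] → pCore p G ≤ Subgroup.center G := by
    intro p _
    have hnil : Group.IsNilpotent ↥(pCore p G) := (pCore_isPGroup' (G := G) p).isNilpotent
    have : pCore p G = ⊥ := hsol _ (pCore_normal' p) inferInstance
    rw [this]
    exact bot_le
  have h2 := hcore 2
  have h3 := hcore 3
  obtain ⟨d, hd, -⟩ := hD.2.1
  -- `D` has two members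
  have hD2 : ∃ a ∈ D, ∃ b ∈ D, a ≠ b := by
    by_contra hcon
    push Not at hcon
    have hc : Subgroup.center G = ⊤ := by
      rw [eq_top_iff, ← h.hgen, Subgroup.closure_le]
      intro n hn
      apply h.mem_center
      intro e he
      rw [hcon e he n hn]
    have hcomm : ∀ x y : G, x * y = y * x := by
      intro x y
      have hx : x ∈ Subgroup.center G := by rw [hc]; exact Subgroup.mem_top _
      rw [Subgroup.mem_center_iff] at hx
      exact (hx y).symm
    have hsolv : Group.IsSolvable ↥(⊤ : Subgroup G) :=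
      Group.isSolvable_of_comm (fun a b => Subtype.ext (hcomm a b))
    have htop := hsol ⊤ inferInstance hsolv
    have hd1 : d = 1 := by
      have : d ∈ (⊤ : Subgroup G) := Subgroup.mem_top d
      rw [htop] at this
      exact this
    have := hD.1.1 d hd
    rw [hd1, orderOf_one] at this
    omega
  obtain ⟨hcomp, hFs⟩ := h.layer_quasisimple hD2 h2 h3
  haveI hLn := h.component_normal hcomp
  have hLC : layer G ≤ commutator G := by
    rw [commutator_def, ← commutator_layer_layer (G := G)]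
    exact Subgroup.commutator_mono le_top le_top
  have hidxC : (commutator G).index ≤ 2 := by
    apply h.index_le_two (commutator G) hd
    intro e he
    obtain ⟨g, rfl⟩ := h.hclass d hd e he
    have : d * (g * d * g⁻¹) = ⁅d, g⁆ := by
      rw [commutatorElement_def, h.toTT.inv hd]
      group
    rw [this, commutator_def]
    exact Subgroup.commutator_mem_commutator (Subgroup.mem_top d) (Subgroup.mem_top g)
  have hidx : (layer G).index ≤ 2 := by
    by_cases hex : ∃ a ∈ D, a ∈ layer G
    · obtain ⟨a, ha, haL⟩ := hex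
      have : layer G = ⊤ := by
        rw [eq_top_iff, ← h.hgen, Subgroup.closure_le]
        intro e he
        obtain ⟨x, rfl⟩ := h.hclass a ha e he
        exact hLn.conj_mem a haL x
      rw [this, Subgroup.index_top]
      omega
    · push Not at hex
      have hq := h.quot_group (layer G) hex
      have hpw := h.quot_pairwise (layer G) (fun a ha b hb hc => by
        rw [h.toTT.inv ha]
        exact h.mul_mem_of_commute (layer G) hcomp.2 ha hb hc)
      have hdq : QuotientGroup.mk' (layer G) d ∈ (QuotientGroup.mk' (layer G)) '' D :=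
        ⟨d, hd, rfl⟩
      have hw := width_one_of_pairwise hdq hpw
      have htop := (Cfsg.Agent.S5346.result hq hdq).mp hw
      haveI := pCore_normal' (G := G ⧸ layer G) 3
      have hnil : Group.IsNilpotent ↥(pCore 3 (G ⧸ layer G)) :=
        (pCore_isPGroup' (G := G ⧸ layer G) 3).isNilpotent
      have hs : Group.IsSolvable (G ⧸ layer G) :=
        isSolvable_of_zpowers_sup _ (pCore 3 (G ⧸ layer G)) inferInstance htop
      have hCL := perfect_le_of_solvable_quotient (layer G) hs (commutator G) hperf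
      rw [le_antisymm hLC hCL]
      exact hidxC
  exact h.primitive hD2 h2 h3 (layer G) hcomp.2 hFs hidx

/-- the commuting partners of `a` form one class of the subgroup they generate -/
theorem Dp_transitive_closure [Finite G] (h : TC D) (hprim : IsPrimitiveUnderConj D) {a : G}
    (ha : a ∈ D) {b b' : G} (hb : b ∈ Dp D a) (hb' : b' ∈ Dp D a) :
    ∃ g ∈ Subgroup.closure (Dp D a), g * b * g⁻¹ = b' := by
  by_contra hcon
  obtain ⟨Φ, hΦ⟩ : ∃ Φ : Set G, Φ = {c | c ∈ Dp D a ∧
      ∃ g ∈ Subgroup.closure (Dp D a), g * b * g⁻¹ = c} := ⟨_, rfl⟩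
  obtain ⟨Ψ, hΨ⟩ : ∃ Ψ : Set G, Ψ = {c | c ∈ Dp D a ∧
      ¬ ∃ g ∈ Subgroup.closure (Dp D a), g * b * g⁻¹ = c} := ⟨_, rfl⟩
  have hbΦ : b ∈ Φ := by
    rw [hΦ]; exact ⟨hb, 1, Subgroup.one_mem _, by group⟩
  have hb'Ψ : b' ∈ Ψ := by
    rw [hΨ]; exact ⟨hb', hcon⟩
  apply Dp_connected h hprim ha Φ Ψ ⟨b, hbΦ⟩ ⟨b', hb'Ψ⟩
  · ext c
    rw [hΦ, hΨ]
    constructor
    · rintro (hc | hc)
      · exact hc.1
      · exact hc.1
    · intro hc
      by_cases hh : ∃ g ∈ Subgroup.closure (Dp D a), g * b * g⁻¹ = c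
      · exact Or.inl ⟨hc, hh⟩
      · exact Or.inr ⟨hc, hh⟩
  · rw [Set.disjoint_left, hΦ, hΨ]
    intro c hc1 hc2
    exact hc2.2 hc1.2
  · intro φ hφ ψ hψ
    rw [hΦ] at hφ
    rw [hΨ] at hψ
    by_contra hn
    apply hψ.2
    obtain ⟨g, hg, rfl⟩ := hφ.2
    have hmem : ψ * (g * b * g⁻¹) * ψ⁻¹ ∈ Dp D a := by
      refine ⟨h.hconj ψ _ hφ.1.1, ?_, ?_⟩
      · intro e
        apply hφ.1.2.1
        have c1 : Commute ψ a := hψ.1.2.2.symm
        calc g * b * g⁻¹ = ψ⁻¹ * (ψ * (g * b * g⁻¹) * ψ⁻¹) * ψ := by group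
          _ = ψ⁻¹ * a * ψ := by rw [e]
          _ = a := by rw [mul_assoc, ← c1.eq, inv_mul_cancel_left]
      · have c1 : Commute a ψ := hψ.1.2.2
        exact (c1.mul_right hφ.1.2.2).mul_right c1.inv_right
    refine ⟨(ψ * (g * b * g⁻¹) * ψ⁻¹) * g,
      Subgroup.mul_mem _ (Subgroup.subset_closure hmem) hg, ?_⟩
    have := conj_third h.toTT hφ.1.1 hψ.1.1 hn
    calc (ψ * (g * b * g⁻¹) * ψ⁻¹) * g * b * ((ψ * (g * b * g⁻¹) * ψ⁻¹) * g)⁻¹
        = (ψ * (g * b * g⁻¹) * ψ⁻¹) * (g * b * g⁻¹) * (ψ * (g * b * g⁻¹) * ψ⁻¹)⁻¹ := by group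
      _ = ψ := this

end Cfsg.Agent.H9R3
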