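import Mathlib
import Cfsg.Prelude
import Cfsg.Agent.Lib.Helper9.R3f

set_option autoImplicit false

/-!
# Commuting sets of 3-transpositions of maximum size and Sylow 2-subgroups
-/

namespace Cfsg.Agent.H9R3

open Cfsg Cfsg.Agent.H9TT
open scoped Pointwise

variable {X : Type*} [Group X] {D : Set X}

/-- two 3-transpositions in a common 2-subgroup commute -/
theorem commute_of_mem_two_group (h : TT D) {S : Subgroup X} (hS : IsPGroup 2 S) {d e : X}
    (hd : d ∈ D) (he : e ∈ D) (hdS : d ∈ S) (heS : e ∈ S) : Commute d e := by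
  by_contra hn
  have h3 : (d * e) ^ 3 = 1 := h.cube hd he hn
  obtain ⟨k, hk⟩ := hS ⟨d * e, S.mul_mem hdS heS⟩
  have hk' : (d * e) ^ (2 ^ k) = 1 := by
    have := congrArg Subtype.val hk
    simpa using this
  have h1 : orderOf (d * e) ∣ 3 := orderOf_dvd_of_pow_eq_one h3
  have h2 : orderOf (d * e) ∣ 2 ^ k := orderOf_dvd_of_pow_eq_one hk'
  have hco : Nat.Coprime 3 (2 ^ k) := Nat.Coprime.pow_right k (by norm_num)
  have h4 : orderOf (d * e) = 1 := Nat.eq_one_of_dvd_coprimes hco h1 h2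
  rw [orderOf_eq_one_iff] at h4
  apply hn
  have hed : e = d := eq_of_mul_eq_one_inv (h.sq hd) h4
  rw [hed]

/-- a set of pairwise commuting involutions generates a 2-group -/
theorem isPGroup_closure_of_commute {E : Set X} (hsq : ∀ a ∈ E, a * a = 1)
    (hEc : ∀ a ∈ E, ∀ b ∈ E, Commute a b) : IsPGroup 2 (Subgroup.closure E) := by
  have h1 : Subgroup.closure E ≤ Subgroup.centralizer E := by
    rw [Subgroup.closure_le]
    intro x hx
    rw [SetLike.mem_coe, Subgroup.mem_centralizer_iff]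
    intro y hy
    exact (hEc y hy x hx).eq
  have h2 : Subgroup.closure E ≤ Subgroup.centralizer (Subgroup.closure E : Set X) := by
    rw [Subgroup.closure_le]
    intro x hx
    rw [SetLike.mem_coe, Subgroup.mem_centralizer_iff]
    intro y hy
    have := h1 hy
    rw [Subgroup.mem_centralizer_iff] at this
    exact (this x hx).symm
  have h3 : ∀ g ∈ Subgroup.closure E, g * g = 1 := by
    intro g hg
    induction hg using Subgroup.closure_induction with
    | mem x hx => exact hsq x hx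
    | one => rw [one_mul]
    | mul x y hx hy ihx ihy =>
      have hc := h2 hy
      rw [Subgroup.mem_centralizer_iff] at hc
      have hxy : x * y = y * x := hc x hx
      calc x * y * (x * y) = x * (y * x) * y := by group
        _ = x * (x * y) * y := by rw [hxy]
        _ = (x * x) * (y * y) := by group
        _ = 1 := by rw [ihx, ihy, one_mul]
    | inv x hx ihx =>
      have : x⁻¹ = x := inv_eq_of_mul_eq_one_right ihx
      rw [this]; exact ihx
  intro g
  refine ⟨1, ?_⟩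
  apply Subtype.ext
  rw [pow_one, pow_two]
  exact h3 g g.2

/-- a commuting set of maximum size is the set of members of `D` in some Sylow 2-subgroup -/
theorem exists_sylow_inter_eq [Finite X] (h : TT D) {E : Set X} (hE : E ⊆ D)
    (hEc : ∀ a ∈ E, ∀ b ∈ E, Commute a b)
    (hmax : ∀ F : Set X, F ⊆ D → (∀ a ∈ F, ∀ b ∈ F, Commute a b) → F.ncard ≤ E.ncard) :
    ∃ P : Sylow 2 X, {x | x ∈ D ∧ x ∈ (P : Subgroup X)} = E := by
  haveI : Fact (Nat.Prime 2) := ⟨Nat.prime_two⟩
  have hp := isPGroup_closure_of_commute (fun a ha => h.sq (hE ha)) hEc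
  obtain ⟨P, hP⟩ := hp.exists_le_sylow
  refine ⟨P, ?_⟩
  have hsub : E ⊆ {x | x ∈ D ∧ x ∈ (P : Subgroup X)} :=
    fun x hx => ⟨hE hx, hP (Subgroup.subset_closure hx)⟩
  have hle := hmax {x | x ∈ D ∧ x ∈ (P : Subgroup X)} (fun x hx => hx.1)
    (fun a ha b hb => commute_of_mem_two_group h P.isPGroup' ha.1 hb.1 ha.2 hb.2)
  exact (Set.eq_of_subset_of_ncard_le hsub hle (Set.toFinite _)).symm

/-- a commuting set of at least the maximum size is the set of members of `D` in some Sylow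
2-subgroup -/
theorem exists_sylow_inter_eq' [Finite X] (h : TT D) {E E' : Set X}
    (hmax : ∀ F : Set X, F ⊆ D → (∀ a ∈ F, ∀ b ∈ F, Commute a b) → F.ncard ≤ E.ncard)
    (hE' : E' ⊆ D) (hEc' : ∀ a ∈ E', ∀ b ∈ E', Commute a b) (hcard : E.ncard ≤ E'.ncard) :
    ∃ P : Sylow 2 X, {x | x ∈ D ∧ x ∈ (P : Subgroup X)} = E' := by
  apply exists_sylow_inter_eq h hE' hEc'
  intro F hF hFc
  exact (hmax F hF hFc).trans hcard

/-- two commuting sets of maximum size are conjugate -/
theorem max_comm_conj [Finite X] (h : TT D) {E E' : Set X} (hE : E ⊆ D)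
    (hEc : ∀ a ∈ E, ∀ b ∈ E, Commute a b)
    (hmax : ∀ F : Set X, F ⊆ D → (∀ a ∈ F, ∀ b ∈ F, Commute a b) → F.ncard ≤ E.ncard)
    (hE' : E' ⊆ D) (hEc' : ∀ a ∈ E', ∀ b ∈ E', Commute a b) (hcard : E.ncard ≤ E'.ncard) :
    ∃ k : X, cj k E = E' := by
  haveI : Fact (Nat.Prime 2) := ⟨Nat.prime_two⟩
  obtain ⟨P, hP⟩ := exists_sylow_inter_eq h hE hEc hmax
  obtain ⟨P', hP'⟩ := exists_sylow_inter_eq' h hmax hE' hEc' hcard
  obtain ⟨k, hk⟩ := MulAction.exists_smul_eq X P P'
  refine ⟨k, ?_⟩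
  rw [← hP, ← hP']
  ext x
  rw [mem_cj]
  have hmem : x ∈ (P' : Subgroup X) ↔ k⁻¹ * x * k ∈ (P : Subgroup X) := by
    rw [← hk, Sylow.coe_subgroup_smul, Subgroup.mem_pointwise_smul_iff_inv_smul_mem,
      MulAut.smul_def, MulAut.conj_inv_apply]
  constructor
  · rintro ⟨h1, h2⟩
    refine ⟨?_, hmem.mpr h2⟩
    have := h.hconj k _ h1
    have e : k * (k⁻¹ * x * k) * k⁻¹ = x := by group
    rwa [e] at this
  · rintro ⟨h1, h2⟩
    exact ⟨h.hconj' k x h1, hmem.mp h2⟩

end Cfsg.Agent.H9R3
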