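import Mathlib
import Cfsg.Prelude
import Cfsg.Agent.Lib.Helper9.RK2a

set_option autoImplicit false

/-!
# Automorphisms modulo a normal subgroup: diagonal elements and a normalizing computation
-/

namespace Cfsg.Agent.H9RK2

theorem exists_pow_eq_zpow {G : Type*} [Group G] {x : G} {p : ℕ} (hp : 0 < p) (hx : x ^ p = 1)
    (j : ℤ) : ∃ k : ℕ, x ^ j = x ^ k := by
  refine ⟨(j % (p : ℤ)).toNat, ?_⟩
  have h1 : 0 ≤ j % (p : ℤ) := Int.emod_nonneg _ (by exact_mod_cast hp.ne')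
  have h2 : j = j % (p : ℤ) + (p : ℤ) * (j / (p : ℤ)) := (Int.emod_add_mul_ediv j p).symm
  calc x ^ j = x ^ (j % (p : ℤ) + (p : ℤ) * (j / (p : ℤ))) := by rw [← h2]
    _ = x ^ (j % (p : ℤ)) * (x ^ (p : ℤ)) ^ (j / (p : ℤ)) := by rw [zpow_add, zpow_mul]
    _ = x ^ (j % (p : ℤ)) := by rw [zpow_natCast, hx, one_zpow, mul_one]
    _ = x ^ (((j % (p : ℤ)).toNat : ℕ) : ℤ) := by rw [Int.toNat_of_nonneg h1]
    _ = x ^ (j % (p : ℤ)).toNat := zpow_natCast _ _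

theorem isPGroup_zpowers_of_pow_eq_one {G : Type*} [Group G] {x : G} {p : ℕ} (hx : x ^ p = 1) :
    IsPGroup p (Subgroup.zpowers x) := by
  rintro ⟨g, hg⟩
  obtain ⟨j, rfl⟩ := Subgroup.mem_zpowers_iff.mp hg
  refine ⟨1, Subtype.ext ?_⟩
  show (x ^ j) ^ p ^ 1 = 1
  rw [pow_one, ← zpow_natCast, ← zpow_mul, mul_comm, zpow_mul, zpow_natCast, hx, one_zpow]

section quot

variable {H : Type*} [Group H]

/-- the automorphism induced on the quotient -/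
noncomputable def qAut (Z : Subgroup H) [Z.Normal] (α : MulAut H) (h1 : ∀ w ∈ Z, α w ∈ Z)
    (h2 : ∀ w ∈ Z, α⁻¹ w ∈ Z) : MulAut (H ⧸ Z) :=
  QuotientGroup.congr Z Z α (by
    ext v
    constructor
    · rintro ⟨w, hw, rfl⟩
      exact h1 w hw
    · intro hv
      exact ⟨α⁻¹ v, h2 v hv, by simp⟩)

theorem qAut_mk (Z : Subgroup H) [Z.Normal] (α : MulAut H) (h1 : ∀ w ∈ Z, α w ∈ Z)
    (h2 : ∀ w ∈ Z, α⁻¹ w ∈ Z) (g : H) :
    qAut Z α h1 h2 (QuotientGroup.mk g) = QuotientGroup.mk (α g) :=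
  QuotientGroup.congr_mk _ _ _ _ _

/-- the image in `Aut(H/Z)` of a group of automorphisms -/
def imgSub (Z : Subgroup H) [Z.Normal] (Γ : Subgroup (MulAut H)) : Subgroup (MulAut (H ⧸ Z)) where
  carrier := {φ | ∃ α ∈ Γ, ∀ g : H, φ (QuotientGroup.mk g) = QuotientGroup.mk (α g)}
  one_mem' := ⟨1, Γ.one_mem, fun _ => rfl⟩
  mul_mem' := by
    rintro φ ψ ⟨α, hα, h1⟩ ⟨β, hβ, h2⟩
    exact ⟨α * β, Γ.mul_mem hα hβ, fun g => by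
      rw [MulAut.mul_apply, h2, h1, MulAut.mul_apply]⟩
  inv_mem' := by
    rintro φ ⟨α, hα, h1⟩
    refine ⟨α⁻¹, Γ.inv_mem hα, fun g => ?_⟩
    show φ.symm _ = _
    rw [MulEquiv.symm_apply_eq, h1, MulAut.apply_inv_self]

theorem mem_imgSub_iff (Z : Subgroup H) [Z.Normal] (Γ : Subgroup (MulAut H))
    (φ : MulAut (H ⧸ Z)) : φ ∈ imgSub Z Γ ↔
      ∃ α ∈ Γ, ∀ g : H, φ (QuotientGroup.mk g) = QuotientGroup.mk (α g) := Iff.rfl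

theorem pow_apply_mk (Z : Subgroup H) [Z.Normal] {φ : MulAut (H ⧸ Z)} {α : MulAut H}
    (h : ∀ g : H, φ (QuotientGroup.mk g) = QuotientGroup.mk (α g)) (k : ℕ) (g : H) :
    (φ ^ k) (QuotientGroup.mk g) = QuotientGroup.mk ((α ^ k) g) := by
  induction k generalizing g with
  | zero => rfl
  | succ k ih =>
    rw [pow_succ, pow_succ, MulAut.mul_apply, MulAut.mul_apply, h, ih]

/-- **diagonal elements modulo `Z`** -/
theorem exists_diag_mod [Finite H] (p : ℕ) [Fact p.Prime] (Z : Subgroup H) [Z.Normal]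
    (hc : ∀ a b : H, (a * b)⁻¹ * (b * a) ∈ Z) (hexp : ∀ a : H, a ^ p ∈ Z)
    (hidx : Z.index = p ^ 2) (Γ : Subgroup (MulAut H)) (hΓ : ∀ α ∈ Γ, ∀ w ∈ Z, α w ∈ Z)
    (a₁ a₂ : MulAut H) (h₁ : a₁ ∈ Γ) (h₂ : a₂ ∈ Γ)
    (h1p : ∀ g, g⁻¹ * (a₁ ^ p) g ∈ Z) (h2p : ∀ g, g⁻¹ * (a₂ ^ p) g ∈ Z)
    (h1n : ¬ ∀ g, g⁻¹ * a₁ g ∈ Z)
    (hne : ∀ j : ℕ, ¬ ∀ g, ((a₁ ^ j) g)⁻¹ * a₂ g ∈ Z)
    (ℓ m : H) (hℓ : ℓ ∉ Z) (hm : ∀ k : ℕ, (ℓ ^ k)⁻¹ * m ∉ Z) (u : (ZMod p)ˣ) :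
    ∃ δ ∈ Γ, (ℓ ^ ((u : ZMod p).val))⁻¹ * δ ℓ ∈ Z ∧
      (m ^ (((u⁻¹ : (ZMod p)ˣ) : ZMod p).val))⁻¹ * δ m ∈ Z := by
  have hpp : p.Prime := Fact.out
  have hΓ' : ∀ α ∈ Γ, ∀ w ∈ Z, α⁻¹ w ∈ Z := fun α hα w hw => hΓ α⁻¹ (Γ.inv_mem hα) w hw
  -- the quotient
  have hcV : ∀ a b : H ⧸ Z, a * b = b * a := by
    intro a b
    obtain ⟨a, rfl⟩ := QuotientGroup.mk_surjective a
    obtain ⟨b, rfl⟩ := QuotientGroup.mk_surjective b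
    rw [← QuotientGroup.mk_mul, ← QuotientGroup.mk_mul, QuotientGroup.eq]
    exact hc a b
  have hexpV : ∀ a : H ⧸ Z, a ^ p = 1 := by
    intro a
    obtain ⟨a, rfl⟩ := QuotientGroup.mk_surjective a
    rw [← QuotientGroup.mk_pow, QuotientGroup.eq_one_iff]
    exact hexp a
  have hcardV : Nat.card (H ⧸ Z) = p ^ 2 := by rw [← Subgroup.index_eq_card]; exact hidx
  -- the induced automorphisms
  obtain ⟨b₁, hb₁⟩ : ∃ b₁ : MulAut (H ⧸ Z), ∀ g : H,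
      b₁ (QuotientGroup.mk g) = QuotientGroup.mk (a₁ g) :=
    ⟨qAut Z a₁ (hΓ a₁ h₁) (hΓ' a₁ h₁), qAut_mk Z a₁ _ _⟩
  obtain ⟨b₂, hb₂⟩ : ∃ b₂ : MulAut (H ⧸ Z), ∀ g : H,
      b₂ (QuotientGroup.mk g) = QuotientGroup.mk (a₂ g) :=
    ⟨qAut Z a₂ (hΓ a₂ h₂) (hΓ' a₂ h₂), qAut_mk Z a₂ _ _⟩
  have hb₁G : b₁ ∈ imgSub Z Γ := ⟨a₁, h₁, hb₁⟩
  have hb₂G : b₂ ∈ imgSub Z Γ := ⟨a₂, h₂, hb₂⟩
  have hb₁p : b₁ ^ p = 1 := by
    ext v
    obtain ⟨g, rfl⟩ := QuotientGroup.mk_surjective v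
    rw [pow_apply_mk Z hb₁, MulAut.one_apply]
    exact (QuotientGroup.eq.mpr (h1p g)).symm
  have hb₂p : b₂ ^ p = 1 := by
    ext v
    obtain ⟨g, rfl⟩ := QuotientGroup.mk_surjective v
    rw [pow_apply_mk Z hb₂, MulAut.one_apply]
    exact (QuotientGroup.eq.mpr (h2p g)).symm
  have hb₁1 : b₁ ≠ 1 := by
    intro h
    apply h1n
    intro g
    rw [← QuotientGroup.eq, ← hb₁, h, MulAut.one_apply]
  have hb₂1 : b₂ ≠ 1 := by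
    intro h
    apply hne 0
    intro g
    rw [pow_zero, MulAut.one_apply, ← QuotientGroup.eq, ← hb₂, h, MulAut.one_apply]
  -- the two `p`-subgroups
  obtain ⟨P₁, hP₁⟩ : ∃ P₁ : Subgroup (imgSub Z Γ), P₁ = Subgroup.zpowers ⟨b₁, hb₁G⟩ := ⟨_, rfl⟩
  obtain ⟨P₂, hP₂⟩ : ∃ P₂ : Subgroup (imgSub Z Γ), P₂ = Subgroup.zpowers ⟨b₂, hb₂G⟩ := ⟨_, rfl⟩
  have hP₁p : IsPGroup p P₁ := by
    rw [hP₁]
    exact isPGroup_zpowers_of_pow_eq_one (Subtype.ext hb₁p)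
  have hP₂p : IsPGroup p P₂ := by
    rw [hP₂]
    exact isPGroup_zpowers_of_pow_eq_one (Subtype.ext hb₂p)
  have hP₁b : P₁ ≠ ⊥ := by
    rw [hP₁]
    intro h
    rw [Subgroup.zpowers_eq_bot] at h
    exact hb₁1 (congrArg Subtype.val h)
  have hP₂b : P₂ ≠ ⊥ := by
    rw [hP₂]
    intro h
    rw [Subgroup.zpowers_eq_bot] at h
    exact hb₂1 (congrArg Subtype.val h)
  have hP₁₂ : P₁ ≠ P₂ := by
    intro h
    have h3 : (⟨b₂, hb₂G⟩ : imgSub Z Γ) ∈ P₁ := by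
      rw [h, hP₂]; exact Subgroup.mem_zpowers _
    rw [hP₁] at h3
    obtain ⟨j, hj⟩ := Subgroup.mem_zpowers_iff.mp h3
    have hj' : b₁ ^ j = b₂ := by
      have := congrArg Subtype.val hj
      rwa [Subgroup.coe_zpow] at this
    obtain ⟨k, hk⟩ := exists_pow_eq_zpow hpp.pos hb₁p j
    rw [hk] at hj'
    apply hne k
    intro g
    rw [← QuotientGroup.eq, ← hb₂, ← hj', pow_apply_mk Z hb₁]
  -- the basis
  have hℓV : (QuotientGroup.mk ℓ : H ⧸ Z) ≠ 1 := by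
    intro h
    rw [QuotientGroup.eq_one_iff] at h
    exact hℓ h
  have hmV : (QuotientGroup.mk m : H ⧸ Z) ∉ Subgroup.zpowers (QuotientGroup.mk ℓ : H ⧸ Z) := by
    intro h
    obtain ⟨j, hj⟩ := Subgroup.mem_zpowers_iff.mp h
    obtain ⟨k, hk⟩ := exists_pow_eq_zpow hpp.pos (hexpV (QuotientGroup.mk ℓ)) j
    rw [hk, ← QuotientGroup.mk_pow, QuotientGroup.eq] at hj
    exact hm k hj
  obtain ⟨δ', hδ'G, hδ'ℓ, hδ'm⟩ := exists_diag p hcV hexpV hcardV (imgSub Z Γ) P₁ P₂ hP₁p hP₂p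
    hP₁b hP₂b hP₁₂ (QuotientGroup.mk ℓ) (QuotientGroup.mk m) hℓV hmV u
  obtain ⟨δ, hδΓ, hδ⟩ := hδ'G
  refine ⟨δ, hδΓ, ?_, ?_⟩
  · rw [← QuotientGroup.eq, QuotientGroup.mk_pow, ← hδ'ℓ, hδ]
  · rw [← QuotientGroup.eq, QuotientGroup.mk_pow, ← hδ'm, hδ]

/-- **the normalizing computation**: a diagonal automorphism normalizes a unipotent one, modulo `Z` -/
theorem diag_normalizes_mod (p : ℕ) (Z : Subgroup H) [Z.Normal]
    (hc : ∀ a b : H, (a * b)⁻¹ * (b * a) ∈ Z) (ℓ m : H) (hℓp : ℓ ^ p ∈ Z)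
    (hgen : ∀ g : H, ∃ i k : ℤ, (m ^ i * ℓ ^ k)⁻¹ * g ∈ Z)
    (δ c : MulAut H) (hδ : ∀ w ∈ Z, δ w ∈ Z) (hδ' : ∀ w ∈ Z, δ⁻¹ w ∈ Z)
    (hcZ : ∀ w ∈ Z, c w ∈ Z) (hcZ' : ∀ w ∈ Z, c⁻¹ w ∈ Z)
    (h t e : ℕ) (hh : 2 * h = 1 + p * e)
    (hδℓ : (ℓ ^ h)⁻¹ * δ ℓ ∈ Z) (hδm : (m ^ 2)⁻¹ * δ m ∈ Z)
    (hcℓ : ℓ⁻¹ * c ℓ ∈ Z) (hcm : (m * ℓ ^ t)⁻¹ * c m ∈ Z) (g : H) :
    ((c ^ (h ^ 2)) (δ g))⁻¹ * δ (c g) ∈ Z := by
  have hcV : ∀ a b : H ⧸ Z, a * b = b * a := by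
    intro a b
    obtain ⟨a, rfl⟩ := QuotientGroup.mk_surjective a
    obtain ⟨b, rfl⟩ := QuotientGroup.mk_surjective b
    rw [← QuotientGroup.mk_mul, ← QuotientGroup.mk_mul, QuotientGroup.eq]
    exact hc a b
  letI : CommGroup (H ⧸ Z) := { (inferInstance : Group (H ⧸ Z)) with mul_comm := hcV }
  obtain ⟨d, hd⟩ : ∃ d : MulAut (H ⧸ Z), ∀ g : H,
      d (QuotientGroup.mk g) = QuotientGroup.mk (δ g) := ⟨qAut Z δ hδ hδ', qAut_mk Z δ _ _⟩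
  obtain ⟨c', hc'⟩ : ∃ c' : MulAut (H ⧸ Z), ∀ g : H,
      c' (QuotientGroup.mk g) = QuotientGroup.mk (c g) := ⟨qAut Z c hcZ hcZ', qAut_mk Z c _ _⟩
  obtain ⟨L, hL⟩ : ∃ L : H ⧸ Z, L = QuotientGroup.mk ℓ := ⟨_, rfl⟩
  obtain ⟨M, hM⟩ : ∃ M : H ⧸ Z, M = QuotientGroup.mk m := ⟨_, rfl⟩
  have hLp : L ^ p = 1 := by
    rw [hL, ← QuotientGroup.mk_pow, QuotientGroup.eq_one_iff]; exact hℓp
  have hdL : d L = L ^ h := by
    rw [hL, hd, ← QuotientGroup.mk_pow]; exact (QuotientGroup.eq.mpr hδℓ).symm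
  have hdM : d M = M ^ 2 := by
    rw [hM, hd, ← QuotientGroup.mk_pow]; exact (QuotientGroup.eq.mpr hδm).symm
  have hcL : c' L = L := by
    rw [hL, hc']; exact (QuotientGroup.eq.mpr hcℓ).symm
  have hcM : c' M = M * L ^ t := by
    rw [hM, hL, hc', ← QuotientGroup.mk_pow, ← QuotientGroup.mk_mul]
    exact (QuotientGroup.eq.mpr hcm).symm
  have hcjL : ∀ j : ℕ, (c' ^ j) L = L := by
    intro j
    induction j with
    | zero => rfl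
    | succ j ih => rw [pow_succ', MulAut.mul_apply, ih, hcL]
  have hcjM : ∀ j : ℕ, (c' ^ j) M = M * L ^ (t * j) := by
    intro j
    induction j with
    | zero => simp
    | succ j ih =>
      rw [pow_succ', MulAut.mul_apply, ih, map_mul, map_pow, hcM, hcL, mul_assoc, ← pow_add,
        Nat.mul_succ, add_comm]
  have key : ∀ v : H ⧸ Z, d (c' v) = (c' ^ (h ^ 2)) (d v) := by
    intro v
    obtain ⟨g, rfl⟩ := QuotientGroup.mk_surjective v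
    obtain ⟨i, k, hik⟩ := hgen g
    have hv : (QuotientGroup.mk g : H ⧸ Z) = M ^ i * L ^ k := by
      rw [hM, hL, ← QuotientGroup.mk_zpow, ← QuotientGroup.mk_zpow, ← QuotientGroup.mk_mul]
      exact (QuotientGroup.eq.mpr hik).symm
    have e1 : d (c' L) = (c' ^ (h ^ 2)) (d L) := by
      rw [hcL, hdL, map_pow, hcjL]
    have e2 : d (c' M) = (c' ^ (h ^ 2)) (d M) := by
      rw [hcM, hdM, map_mul, map_pow, map_pow, hdM, hdL, hcjM, mul_pow, ← pow_mul, ← pow_mul]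
      congr 1
      have h3 : t * h ^ 2 * 2 = h * t + p * (e * h * t) := by
        calc t * h ^ 2 * 2 = (2 * h) * (h * t) := by ring
          _ = (1 + p * e) * (h * t) := by rw [hh]
          _ = h * t + p * (e * h * t) := by ring
      rw [h3, pow_add, pow_mul L p, hLp, one_pow, mul_one]
    rw [hv, map_mul, map_mul, map_zpow, map_zpow, map_zpow, map_zpow, e1, e2, map_mul, map_mul,
      map_zpow, map_zpow, map_zpow, map_zpow]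
  have h5 := key (QuotientGroup.mk g)
  rw [hc', hd, hd, pow_apply_mk Z hc'] at h5
  exact QuotientGroup.eq.mp h5.symm

end quot

end Cfsg.Agent.H9RK2
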