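import Mathlib
import Cfsg.Prelude
import Cfsg.Agent.Lib.Helper9.FusionAG3

set_option autoImplicit false

/-!
# The fusion system generated by `Aut_F(S)`, and extension of automorphisms of a maximal subgroup
-/

namespace Cfsg.Agent.H9RK2

open Cfsg Cfsg.FusionSystem Cfsg.Agent.Lib.Helper9

variable {Ω : Type*} [Group Ω] {S : Subgroup Ω}

/-- restrictions of elements of `Aut_F(S)` -/
def aHom (F : FusionSystem S) (R : Subgroup Ω) : Set (R →* Ω) :=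
  {φ | R ≤ S ∧ ∃ β ∈ F.autGroup S, ∀ (x : Ω) (hxR : x ∈ R) (hxS : x ∈ S),
    φ ⟨x, hxR⟩ = ((β ⟨x, hxS⟩ : S) : Ω)}

/-- the fusion system generated by `Aut_F(S)` -/
def autSys (F : FusionSystem S) : FusionSystem S where
  Hom R := aHom F R
  le_of_mem := by
    rintro R φ ⟨hRS, β, -, hβ⟩
    refine ⟨hRS, fun x => ?_⟩
    have h1 := hβ x x.2 (hRS x.2)
    rw [show (⟨(x : Ω), x.2⟩ : R) = x from rfl] at h1
    rw [h1]
    exact (β _).2
  injective_of_mem := by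
    rintro R φ ⟨hRS, β, -, hβ⟩ a b hab
    have h1 := hβ a a.2 (hRS a.2)
    have h2 := hβ b b.2 (hRS b.2)
    rw [show (⟨(a : Ω), a.2⟩ : R) = a from rfl] at h1
    rw [show (⟨(b : Ω), b.2⟩ : R) = b from rfl] at h2
    rw [h1, h2] at hab
    have h3 : (⟨(a : Ω), hRS a.2⟩ : S) = ⟨(b : Ω), hRS b.2⟩ := β.injective (Subtype.ext hab)
    have h4 : (a : Ω) = (b : Ω) := congrArg (fun s : S => (s : Ω)) h3
    exact Subtype.ext h4
  conj_mem := by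
    intro P g hP hg
    refine ⟨hP, MulAut.conj ⟨g, hg⟩, ?_, fun x hxR hxS => rfl⟩
    apply autInducedBy_le_autGroup F le_rfl
    rw [mem_autInducedBy_iff]
    exact ⟨g, hg, fun x => rfl⟩
  comp_mem := by
    rintro P Q φ ψ ⟨hPS, β, hβF, hβ⟩ ⟨hQS, β', hβ'F, hβ'⟩ h
    refine ⟨hPS, β' * β, Subgroup.mul_mem _ hβ'F hβF, fun x hxR hxS => ?_⟩
    show ψ ⟨φ ⟨x, hxR⟩, h _⟩ = _
    have h1 := hβ x hxR hxS
    have h2 : ((β ⟨x, hxS⟩ : S) : Ω) ∈ Q := by rw [← h1]; exact h _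
    have h3 : (⟨φ ⟨x, hxR⟩, h _⟩ : Q) = ⟨((β ⟨x, hxS⟩ : S) : Ω), h2⟩ := Subtype.ext h1
    rw [h3, hβ' _ h2 (β ⟨x, hxS⟩).2]
    rfl
  inv_mem := by
    rintro P φ ⟨hPS, β, hβF, hβ⟩
    have hrS : φ.range ≤ S := by
      rintro _ ⟨x, rfl⟩
      have h1 := hβ x x.2 (hPS x.2)
      rw [show (⟨(x : Ω), x.2⟩ : P) = x from rfl] at h1
      rw [h1]
      exact (β _).2
    refine ⟨S.subtype.comp (β⁻¹.toMonoidHom.comp (Subgroup.inclusion hrS)),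
      ⟨hrS, β⁻¹, Subgroup.inv_mem _ hβF, fun x hxR hxS => rfl⟩, fun x => ?_⟩
    show ((β⁻¹ ⟨φ x, _⟩ : S) : Ω) = x
    have h1 := hβ x x.2 (hPS x.2)
    rw [show (⟨(x : Ω), x.2⟩ : P) = x from rfl] at h1
    have h2 : (⟨φ x, hrS ⟨x, rfl⟩⟩ : S) = β ⟨x, hPS x.2⟩ := Subtype.ext h1
    rw [h2, MulAut.inv_apply_self]

/-- automorphisms of a fully normalized, centric, non-essential subgroup whose only larger overgroup
in `S` is `S` extend to `S` -/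
theorem ext_top [Finite S] (p : ℕ) [Fact p.Prime] (hS : IsPGroup p S)
    (F : FusionSystem S) (hF : F.IsSaturated p) {R : Subgroup Ω} (hRn : F.IsFullyNormalized R)
    (hRlt : R < S) (hc : F.IsCentric R) (hne : ¬ F.IsEssential p R)
    (hmax : ∀ Q : Subgroup Ω, Q ≤ S → Nat.card R < Nat.card Q → Q = S)
    {α : MulAut R} (hα : α ∈ F.autGroup R) :
    ∃ β ∈ F.autGroup S, ∀ (x : Ω) (hxR : x ∈ R) (hxS : x ∈ S),
      ((α ⟨x, hxR⟩ : R) : Ω) = ((β ⟨x, hxS⟩ : S) : Ω) := by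
  have hRS : R ≤ S := hRn.1
  have IH : ∀ Q : Subgroup Ω, Q ≤ S → Nat.card R < Nat.card Q → F.Hom Q ⊆ (autSys F).Hom Q := by
    intro Q hQS hlt φ hφ
    have hQ := hmax Q hQS hlt
    subst hQ
    obtain ⟨β, hβF, hβ⟩ := fs_hom_to_aut F hφ (fun y => (F.le_of_mem hφ).2 y)
    exact ⟨le_rfl, β, hβF, fun x hxR hxS => (hβ ⟨x, hxR⟩).symm⟩
  have h1 := fs_autGroup_le_of_centric_not_essential p hS F (autSys F) hF hRn hRlt hc hne IH hα
  rw [mem_autGroup_iff (autSys F) hRS] at h1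
  obtain ⟨-, β, hβF, hβ⟩ := h1
  exact ⟨β, hβF, fun x hxR hxS => hβ x hxR hxS⟩

end Cfsg.Agent.H9RK2
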