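import Mathlib
import Cfsg.Prelude
import Cfsg.Agent.Lib.Helper9.RK2b
import Cfsg.Agent.Lib.Helper9.RK2c
import Cfsg.Agent.Lib.Helper9.AbIdx18

set_option autoImplicit false

/-!
# Structure of the rank two groups of type (c)
-/

namespace Cfsg.Agent.H9RK2

open Cfsg Cfsg.FusionSystem Cfsg.Agent.Lib.Helper9 Cfsg.Agent.Lib.Helper9.H9AbIdx

open scoped commutatorElement

variable {Ω : Type*} [Group Ω]

/-- type (c) data -/
structure TC (p n s : ℕ) (S : Subgroup Ω) (x y z : Ω) : Prop where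
  hn : 4 ≤ n
  hcard : Nat.card S = p ^ n
  hs : ¬ p ∣ s
  hgen : Subgroup.closure ({x, y, z} : Set Ω) = S
  hx : x ^ p = 1
  hy : y ^ p = 1
  hz : z ^ p ^ (n - 2) = 1
  hyz : y * z = z * y
  hxy : x⁻¹ * y * x = y * z ^ (s * p ^ (n - 3))
  hxz : x⁻¹ * z * x = y * z

/-- the abelian maximal subgroup -/
def TCA (y z : Ω) : Subgroup Ω := Subgroup.closure ({y, z} : Set Ω)

namespace TC

variable {p n s : ℕ} [hpp : Fact p.Prime] {S : Subgroup Ω} {x y z : Ω}

theorem xS (T : TC p n s S x y z) : x ∈ S := by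
  rw [← T.hgen]; exact Subgroup.subset_closure (by simp)

theorem yS (T : TC p n s S x y z) : y ∈ S := by
  rw [← T.hgen]; exact Subgroup.subset_closure (by simp)

theorem zS (T : TC p n s S x y z) : z ∈ S := by
  rw [← T.hgen]; exact Subgroup.subset_closure (by simp)


theorem yA (T : TC p n s S x y z) : y ∈ (TCA y z) := Subgroup.subset_closure (by simp)

theorem zA (T : TC p n s S x y z) : z ∈ (TCA y z) := Subgroup.subset_closure (by simp)

theorem A_le (T : TC p n s S x y z) : (TCA y z) ≤ S := by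
  rw [TCA, Subgroup.closure_le]
  rintro a (rfl | ha)
  · exact T.yS
  · rw [Set.mem_singleton_iff] at ha; subst ha; exact T.zS

theorem A_comm (T : TC p n s S x y z) : ∀ a ∈ (TCA y z), ∀ b ∈ (TCA y z), a * b = b * a := by
  have hk : ∀ a ∈ ({y, z} : Set Ω), ∀ b ∈ ({y, z} : Set Ω), a * b = b * a := by
    rintro a (rfl | ha) b (rfl | hb)
    · rfl
    · rw [Set.mem_singleton_iff] at hb; subst hb; exact T.hyz
    · rw [Set.mem_singleton_iff] at ha; subst ha; exact T.hyz.symm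
    · rw [Set.mem_singleton_iff] at ha hb; subst ha; subst hb; rfl
  haveI := Subgroup.isMulCommutative_closure hk
  intro a ha b hb
  exact setLike_mul_comm (s := Subgroup.closure ({y, z} : Set Ω)) ha hb

theorem zpow_mem (T : TC p n s S x y z) (k : ℕ) : z ^ k ∈ (TCA y z) := (TCA y z).pow_mem T.zA k

theorem conj_mem (T : TC p n s S x y z) {a : Ω} (ha : a ∈ (TCA y z)) : x⁻¹ * a * x ∈ (TCA y z) := by
  have h1 : (TCA y z) ≤ (TCA y z).comap (MulAut.conj x⁻¹).toMonoidHom := by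
    rw [TCA, Subgroup.closure_le]
    rintro a ha
    have ha' : a = y ∨ a = z := by simpa using ha
    rcases ha' with ha' | ha'
    · show MulAut.conj x⁻¹ a ∈ (TCA y z)
      rw [ha', MulAut.conj_apply, inv_inv, T.hxy]
      exact (TCA y z).mul_mem T.yA (T.zpow_mem _)
    · show MulAut.conj x⁻¹ a ∈ (TCA y z)
      rw [ha', MulAut.conj_apply, inv_inv, T.hxz]
      exact (TCA y z).mul_mem T.yA T.zA
  have h2 := h1 ha
  rw [Subgroup.mem_comap] at h2
  have h3 : (MulAut.conj x⁻¹).toMonoidHom a = x⁻¹ * a * x := by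
    show MulAut.conj x⁻¹ a = _
    rw [MulAut.conj_apply, inv_inv]
  rwa [h3] at h2

theorem conj_pow_mem (T : TC p n s S x y z) (k : ℕ) {a : Ω} (ha : a ∈ (TCA y z)) :
    (x ^ k)⁻¹ * a * x ^ k ∈ (TCA y z) := by
  induction k with
  | zero => simpa using ha
  | succ k ih =>
    have h1 : (x ^ (k + 1))⁻¹ * a * x ^ (k + 1) = x⁻¹ * ((x ^ k)⁻¹ * a * x ^ k) * x := by
      rw [pow_succ]; group
    rw [h1]
    exact T.conj_mem ih

theorem conj_mem' (T : TC p n s S x y z) {a : Ω} (ha : a ∈ (TCA y z)) : x * a * x⁻¹ ∈ (TCA y z) := by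
  have hp : x ^ p = 1 := T.hx
  have hpos : 0 < p := hpp.out.pos
  have h1 := T.conj_pow_mem (p - 1) ha
  have h2 : x ^ (p - 1) = x⁻¹ := by
    have : x ^ (p - 1) * x = 1 := by
      rw [← pow_succ, Nat.sub_add_cancel hpos, hp]
    exact eq_inv_of_mul_eq_one_left this
  rwa [h2, inv_inv] at h1

theorem x_normalizer (T : TC p n s S x y z) : x ∈ Subgroup.normalizer ((TCA y z) : Set Ω) := by
  rw [Subgroup.mem_normalizer_iff]
  intro h
  constructor
  · exact fun hh => T.conj_mem' hh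
  · intro hh
    have := T.conj_mem hh
    have h2 : x⁻¹ * (x * h * x⁻¹) * x = h := by group
    rwa [h2] at this

theorem sup_eq (T : TC p n s S x y z) : Subgroup.zpowers x ⊔ (TCA y z) = S := by
  have h1 : Subgroup.zpowers x ⊔ (TCA y z) = Subgroup.closure ({x, y, z} : Set Ω) := by
    rw [TCA, Subgroup.zpowers_eq_closure, ← Subgroup.closure_union]
    rfl
  rw [h1, T.hgen]

theorem A_eq_sup (T : TC p n s S x y z) : (TCA y z) = Subgroup.zpowers y ⊔ Subgroup.zpowers z := by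
  rw [TCA, Subgroup.zpowers_eq_closure, Subgroup.zpowers_eq_closure, ← Subgroup.closure_union]
  rfl

theorem pow_split (T : TC p n s S x y z) : p ^ n = p ^ (n - 2) * p * p := by
  have h := T.hn
  have : n = (n - 2) + 1 + 1 := by omega
  conv_lhs => rw [this]
  rw [pow_succ, pow_succ]

theorem counting [Finite S] (T : TC p n s S x y z) :
    (TCA y z).relIndex S = p ∧ (Subgroup.zpowers z).relIndex (TCA y z) = p ∧ orderOf z = p ^ (n - 2) := by
  have hpp' := hpp.out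
  have hzA : Subgroup.zpowers z ≤ (TCA y z) := by rw [Subgroup.zpowers_le]; exact T.zA
  have hc : (TCA y z).relIndex S ∣ p := by
    have h := relIndex_sup_zpowers_dvd T.x_normalizer (m := p) (by rw [T.hx]; exact (TCA y z).one_mem)
    rwa [T.sup_eq] at h
  have hb : (Subgroup.zpowers z).relIndex (TCA y z) ∣ p := by
    have hyN : y ∈ Subgroup.normalizer ((Subgroup.zpowers z : Subgroup Ω) : Set Ω) := by
      apply Subgroup.centralizer_le_normalizer
      rw [Subgroup.mem_centralizer_iff]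
      intro h hh
      obtain ⟨k, rfl⟩ := Subgroup.mem_zpowers_iff.mp hh
      have h1 : Commute z y := T.hyz.symm
      exact (h1.zpow_left k).eq
    have h := relIndex_sup_zpowers_dvd hyN (m := p) (by rw [T.hy]; exact Subgroup.one_mem _)
    rwa [← T.A_eq_sup] at h
  have ha : orderOf z ∣ p ^ (n - 2) := orderOf_dvd_of_pow_eq_one T.hz
  have hprod : orderOf z * (Subgroup.zpowers z).relIndex (TCA y z) * (TCA y z).relIndex S =
      p ^ (n - 2) * p * p := by
    rw [← T.pow_split, ← Nat.card_zpowers, ← Subgroup.relIndex_bot_left,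
      Subgroup.relIndex_mul_relIndex _ _ _ bot_le hzA,
      Subgroup.relIndex_mul_relIndex _ _ _ bot_le T.A_le, Subgroup.relIndex_bot_left, T.hcard]
  have hppos : 0 < p := hpp'.pos
  have hpow : 0 < p ^ (n - 2) := pos_of_ne_zero (pow_ne_zero _ hpp'.ne_zero)
  have ha' : orderOf z ≤ p ^ (n - 2) := Nat.le_of_dvd hpow ha
  have hb' : (Subgroup.zpowers z).relIndex (TCA y z) ≤ p := Nat.le_of_dvd hppos hb
  have hc' : (TCA y z).relIndex S ≤ p := Nat.le_of_dvd hppos hc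
  have ha0 : 0 < orderOf z := by
    rcases Nat.eq_zero_or_pos (orderOf z) with h | h
    · rw [h, zero_mul, zero_mul] at hprod
      exact absurd hprod.symm (by positivity)
    · exact h
  have hb0 : 0 < (Subgroup.zpowers z).relIndex (TCA y z) := by
    rcases Nat.eq_zero_or_pos ((Subgroup.zpowers z).relIndex (TCA y z)) with h | h
    · rw [h, mul_zero, zero_mul] at hprod
      exact absurd hprod.symm (by positivity)
    · exact h
  have hceq : (TCA y z).relIndex S = p := by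
    by_contra hne
    have hlt : (TCA y z).relIndex S < p := lt_of_le_of_ne hc' hne
    have h1 : orderOf z * (Subgroup.zpowers z).relIndex (TCA y z) ≤ p ^ (n - 2) * p :=
      Nat.mul_le_mul ha' hb'
    have h2 : orderOf z * (Subgroup.zpowers z).relIndex (TCA y z) * (TCA y z).relIndex S <
        p ^ (n - 2) * p * p :=
      Nat.mul_lt_mul_of_le_of_lt h1 hlt (by positivity)
    rw [hprod] at h2
    exact lt_irrefl _ h2
  have hbeq : (Subgroup.zpowers z).relIndex (TCA y z) = p := by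
    by_contra hne
    have hlt : (Subgroup.zpowers z).relIndex (TCA y z) < p := lt_of_le_of_ne hb' hne
    have h1 : orderOf z * (Subgroup.zpowers z).relIndex (TCA y z) < p ^ (n - 2) * p :=
      Nat.mul_lt_mul_of_le_of_lt ha' hlt hpow
    have h2 : orderOf z * (Subgroup.zpowers z).relIndex (TCA y z) * (TCA y z).relIndex S <
        p ^ (n - 2) * p * p := by
      rw [hceq]
      exact Nat.mul_lt_mul_of_pos_right h1 hppos
    rw [hprod] at h2
    exact lt_irrefl _ h2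
  refine ⟨hceq, hbeq, ?_⟩
  rw [hceq, hbeq] at hprod
  have h3 := Nat.eq_of_mul_eq_mul_right hppos hprod
  exact Nat.eq_of_mul_eq_mul_right hppos h3

theorem orderOf_z [Finite S] (T : TC p n s S x y z) : orderOf z = p ^ (n - 2) := T.counting.2.2

theorem y_facts [Finite S] (T : TC p n s S x y z) :
    orderOf y = p ∧ Subgroup.zpowers z ⊓ Subgroup.zpowers y = ⊥ := by
  have hpp' := hpp.out
  obtain ⟨-, hb, -⟩ := T.counting
  have hyN : Subgroup.zpowers y ≤ Subgroup.normalizer ((Subgroup.zpowers z : Subgroup Ω) : Set Ω) := by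
    rw [Subgroup.zpowers_le]
    apply Subgroup.centralizer_le_normalizer
    rw [Subgroup.mem_centralizer_iff]
    intro h hh
    obtain ⟨k, rfl⟩ := Subgroup.mem_zpowers_iff.mp hh
    have h1 : Commute z y := T.hyz.symm
    exact (h1.zpow_left k).eq
  have h1 : (Subgroup.zpowers z).relIndex (Subgroup.zpowers y) = p := by
    rw [← Cfsg.Agent.Lib.Helper9.H9AbIdx.relIndex_sup_of_le_normalizer hyN, ← T.A_eq_sup]
    exact hb
  have h2 : orderOf y ∣ p := orderOf_dvd_of_pow_eq_one T.hy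
  have h3 : p ∣ orderOf y := by
    rw [← Nat.card_zpowers, ← h1]
    exact Subgroup.relIndex_dvd_card _ _
  have h4 : orderOf y = p := Nat.dvd_antisymm h2 h3
  refine ⟨h4, ?_⟩
  have h5 := Subgroup.relIndex_mul_relIndex ⊥ (Subgroup.zpowers z ⊓ Subgroup.zpowers y)
    (Subgroup.zpowers y) bot_le inf_le_right
  rw [Subgroup.inf_relIndex_right, h1, Subgroup.relIndex_bot_left, Subgroup.relIndex_bot_left,
    Nat.card_zpowers, h4] at h5
  have h6 : Nat.card (Subgroup.zpowers z ⊓ Subgroup.zpowers y : Subgroup Ω) = 1 := by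
    have : Nat.card (Subgroup.zpowers z ⊓ Subgroup.zpowers y : Subgroup Ω) * p = 1 * p := by
      rw [h5, one_mul]
    exact Nat.eq_of_mul_eq_mul_right hpp'.pos this
  exact Subgroup.card_eq_one.mp h6

theorem orderOf_y [Finite S] (T : TC p n s S x y z) : orderOf y = p := T.y_facts.1

theorem y_ne_one [Finite S] (T : TC p n s S x y z) : y ≠ 1 := by
  intro h
  have h1 := T.orderOf_y
  rw [h, orderOf_one] at h1
  exact hpp.out.one_lt.ne h1

theorem card_A [Finite S] (T : TC p n s S x y z) : Nat.card (TCA y z) = p ^ (n - 2) * p := by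
  obtain ⟨-, hb, ha⟩ := T.counting
  have hzA : Subgroup.zpowers z ≤ (TCA y z) := by rw [Subgroup.zpowers_le]; exact T.zA
  have h := Subgroup.relIndex_mul_relIndex ⊥ (Subgroup.zpowers z) (TCA y z) bot_le hzA
  rw [Subgroup.relIndex_bot_left, Subgroup.relIndex_bot_left, Nat.card_zpowers, ha, hb] at h
  exact h.symm

theorem x_not_mem [Finite S] (T : TC p n s S x y z) : x ∉ (TCA y z) := by
  intro hx
  have h1 : Subgroup.zpowers x ⊔ (TCA y z) = (TCA y z) := by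
    rw [sup_eq_right, Subgroup.zpowers_le]; exact hx
  have h2 := T.counting.1
  rw [← T.sup_eq, h1, Subgroup.relIndex_self] at h2
  exact hpp.out.one_lt.ne h2

theorem xz_ne [Finite S] (T : TC p n s S x y z) : x * z ≠ z * x := by
  intro h
  have h1 : x⁻¹ * z * x = z := by
    rw [mul_assoc, ← h, ← mul_assoc, inv_mul_cancel, one_mul]
  rw [T.hxz] at h1
  exact T.y_ne_one (mul_eq_right.mp h1)

theorem ctx [Finite S] (T : TC p n s S x y z) : Ctx p S (TCA y z) where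
  hS := IsPGroup.of_card T.hcard
  hAS := T.A_le
  hcomm := T.A_comm
  hidx := T.counting.1
  hna := ⟨x, T.xS, z, T.zS, T.xz_ne⟩

theorem conj_inv_zpow (x a : Ω) (k : ℤ) : x⁻¹ * a ^ k * x = (x⁻¹ * a * x) ^ k := by
  have h := conj_zpow (a := x⁻¹) (b := a) (i := k)
  rw [inv_inv] at h
  exact h.symm

theorem conj_inv_pow (x a : Ω) (k : ℕ) : x⁻¹ * a ^ k * x = (x⁻¹ * a * x) ^ k := by
  have h := conj_pow (a := x⁻¹) (b := a) (i := k)
  rw [inv_inv] at h
  exact h.symm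

theorem n_sub (T : TC p n s S x y z) : n - 2 = (n - 3) + 1 := by
  have := T.hn; omega

/-- `y ^ k = 1` when `p ∣ k` -/
theorem y_pow_of_dvd (T : TC p n s S x y z) {k : ℕ} (hk : p ∣ k) : y ^ k = 1 := by
  obtain ⟨e, rfl⟩ := hk
  rw [pow_mul, T.hy, one_pow]

theorem dvd_q (T : TC p n s S x y z) : p ∣ p ^ (n - 3) := by
  have := T.hn
  exact dvd_pow_self p (by omega)

theorem conj_z_pow (T : TC p n s S x y z) {k : ℕ} (hk : p ∣ k) : x⁻¹ * z ^ k * x = z ^ k := by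
  have hc : Commute y z := T.hyz
  rw [conj_inv_pow, T.hxz, hc.mul_pow, T.y_pow_of_dvd hk, one_mul]

theorem mem_ZS_of_gens (T : TC p n s S x y z) {w : Ω} (hw : w ∈ S) (h1 : x * w = w * x)
    (h2 : y * w = w * y) (h3 : z * w = w * z) : w ∈ ZS S := by
  rw [mem_ZS_iff]
  refine ⟨hw, ?_⟩
  have hle : S ≤ Subgroup.centralizer ({w} : Set Ω) := by
    rw [← T.hgen, Subgroup.closure_le]
    intro g hg
    have hg' : g = x ∨ g = y ∨ g = z := by simpa using hg
    show g ∈ Subgroup.centralizer ({w} : Set Ω)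
    rw [Subgroup.mem_centralizer_iff]
    intro h hh
    rw [Set.mem_singleton_iff] at hh
    subst hh
    rcases hg' with rfl | rfl | rfl
    · exact h1.symm
    · exact h2.symm
    · exact h3.symm
  intro t ht
  have := hle ht
  rw [Subgroup.mem_centralizer_iff] at this
  exact (this w rfl).symm

theorem z_pow_mem_ZS (T : TC p n s S x y z) {k : ℕ} (hk : p ∣ k) : z ^ k ∈ ZS S := by
  apply T.mem_ZS_of_gens (S.pow_mem T.zS k)
  · have h := T.conj_z_pow hk
    calc x * z ^ k = x * (x⁻¹ * z ^ k * x) := by rw [h]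
      _ = z ^ k * x := by group
  · have hc : Commute y z := T.hyz
    exact (hc.pow_right k).eq
  · exact ((Commute.refl z).pow_right k).eq

/-- the central element of order `p` -/
theorem zeta_facts [Finite S] (T : TC p n s S x y z) :
    (z ^ p ^ (n - 3)) ^ p = 1 ∧ z ^ p ^ (n - 3) ≠ 1 ∧ orderOf (z ^ p ^ (n - 3)) = p := by
  have hpp' := hpp.out
  have h1 : (z ^ p ^ (n - 3)) ^ p = 1 := by
    rw [← pow_mul, ← pow_succ, ← T.n_sub, T.hz]
  have h2 : z ^ p ^ (n - 3) ≠ 1 := by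
    intro h
    have h3 := orderOf_dvd_of_pow_eq_one h
    rw [T.orderOf_z, T.n_sub, pow_succ] at h3
    have h4 : 0 < p ^ (n - 3) := pos_of_ne_zero (pow_ne_zero _ hpp'.ne_zero)
    have h5 := Nat.le_of_dvd h4 h3
    have h6 : p ^ (n - 3) * 1 < p ^ (n - 3) * p := Nat.mul_lt_mul_of_pos_left hpp'.one_lt h4
    omega
  exact ⟨h1, h2, orderOf_eq_prime h1 h2⟩

theorem int_dvd_of_dvd_mul (T : TC p n s S x y z) {i : ℤ} (h : (p : ℤ) ∣ (s : ℤ) * i) :
    (p : ℤ) ∣ i := by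
  have hP : Prime (p : ℤ) := Nat.prime_iff_prime_int.mp hpp.out
  rcases hP.dvd_or_dvd h with h1 | h1
  · exact absurd (Int.natCast_dvd_natCast.mp h1) T.hs
  · exact h1

/-- the conjugate of a general element of `A` -/
theorem conj_general (T : TC p n s S x y z) (i j : ℤ) :
    x⁻¹ * (y ^ i * z ^ j) * x = y ^ i * (z ^ (s * p ^ (n - 3))) ^ i * (y ^ j * z ^ j) := by
  have hc : Commute y z := T.hyz
  have hc2 : Commute y (z ^ (s * p ^ (n - 3))) := hc.pow_right _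
  have h1 : x⁻¹ * (y ^ i * z ^ j) * x = (x⁻¹ * y ^ i * x) * (x⁻¹ * z ^ j * x) := by group
  rw [h1, conj_inv_zpow, conj_inv_zpow, T.hxy, T.hxz, hc2.mul_zpow, hc.mul_zpow]

theorem ZS_le_zpowers [Finite S] (T : TC p n s S x y z) : ZS S ≤ Subgroup.zpowers (z ^ p) := by
  intro w hw
  have C := T.ctx
  have hwA : w ∈ TCA y z := C.ZS_le_A hw
  obtain ⟨i, j, rfl⟩ := exists_zpow_of_mem_closure_pair T.hyz hwA
  have hx := (mem_ZS_iff.mp hw).2 x T.xS
  have h1 : x⁻¹ * (y ^ i * z ^ j) * x = y ^ i * z ^ j := by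
    rw [mul_assoc, ← hx, ← mul_assoc, inv_mul_cancel, one_mul]
  rw [T.conj_general] at h1
  have h2 : (z ^ (s * p ^ (n - 3))) ^ i * y ^ j = 1 := by
    have h3 : y ^ i * ((z ^ (s * p ^ (n - 3))) ^ i * y ^ j) * z ^ j = y ^ i * 1 * z ^ j := by
      rw [mul_one, ← h1]; group
    exact mul_left_cancel (mul_right_cancel h3)
  have h4 : y ^ j ∈ Subgroup.zpowers z ⊓ Subgroup.zpowers y := by
    refine ⟨?_, Subgroup.zpow_mem _ (Subgroup.mem_zpowers y) j⟩
    have h5 : y ^ j = ((z ^ (s * p ^ (n - 3))) ^ i)⁻¹ := eq_inv_of_mul_eq_one_right h2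
    rw [h5]
    exact Subgroup.inv_mem _ (Subgroup.zpow_mem _ (Subgroup.pow_mem _ (Subgroup.mem_zpowers z) _) i)
  rw [T.y_facts.2, Subgroup.mem_bot] at h4
  rw [h4, mul_one] at h2
  have h6 : (z ^ p ^ (n - 3)) ^ ((s : ℤ) * i) = 1 := by
    rw [zpow_mul, zpow_natCast, ← pow_mul, mul_comm (p ^ (n - 3)) s]
    exact h2
  have h7 : (p : ℤ) ∣ (s : ℤ) * i := by
    have := orderOf_dvd_iff_zpow_eq_one.mpr h6
    rwa [T.zeta_facts.2.2] at this
  have h8 : (p : ℤ) ∣ i := T.int_dvd_of_dvd_mul h7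
  have h9 : y ^ i = 1 := by
    apply orderOf_dvd_iff_zpow_eq_one.mp
    rw [T.orderOf_y]; exact h8
  have h10 : (p : ℤ) ∣ j := by
    have := orderOf_dvd_iff_zpow_eq_one.mpr h4
    rwa [T.orderOf_y] at this
  obtain ⟨j', rfl⟩ := h10
  rw [h9, one_mul, zpow_mul, zpow_natCast]
  exact Subgroup.zpow_mem _ (Subgroup.mem_zpowers _) j'

theorem ZS_eq [Finite S] (T : TC p n s S x y z) : ZS S = Subgroup.zpowers (z ^ p) := by
  apply le_antisymm T.ZS_le_zpowers
  rw [Subgroup.zpowers_le]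
  exact T.z_pow_mem_ZS (dvd_refl p)

theorem card_ZS [Finite S] (T : TC p n s S x y z) : Nat.card (ZS S) = p ^ (n - 3) := by
  have hpp' := hpp.out
  rw [T.ZS_eq, Nat.card_zpowers, orderOf_pow_of_dvd hpp'.ne_zero, T.orderOf_z, T.n_sub, pow_succ,
    Nat.mul_div_cancel _ hpp'.pos]
  rw [T.orderOf_z, T.n_sub, pow_succ]
  exact dvd_mul_left _ _

theorem zs_ne [Finite S] (T : TC p n s S x y z) : z ^ (s * p ^ (n - 3)) ≠ 1 := by
  intro h
  rw [mul_comm, pow_mul] at h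
  have h1 := orderOf_dvd_of_pow_eq_one h
  rw [T.zeta_facts.2.2] at h1
  exact T.hs h1

theorem y_not_central [Finite S] (T : TC p n s S x y z) : y ∉ ZS S := by
  intro h
  have h1 := (mem_ZS_iff.mp h).2 x T.xS
  have h2 : x⁻¹ * y * x = y := by
    rw [mul_assoc, ← h1, ← mul_assoc, inv_mul_cancel, one_mul]
  rw [T.hxy] at h2
  exact T.zs_ne (mul_eq_left.mp h2)

theorem commutator_le [Finite S] (T : TC p n s S x y z) :
    commutator ↥S ≤ (TCA y z).subgroupOf S := by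
  have C := T.ctx
  haveI := C.normal_subgroupOf
  apply Subgroup.Normal.commutator_le_of_self_sup_commutative_eq_top
    (H := Subgroup.zpowers (⟨x, T.xS⟩ : S)) _ inferInstance
  rw [Subgroup.eq_top_iff']
  intro g
  obtain ⟨k, a, ha, hg⟩ := C.exists_decomp T.xS T.x_not_mem g.2
  have h1 : g = (⟨x, T.xS⟩ : S) ^ k * ⟨a, C.hAS ha⟩ := by
    apply Subtype.ext
    rw [Subgroup.coe_mul, Subgroup.coe_zpow]
    exact hg
  rw [h1]
  apply Subgroup.mul_mem
  · exact Subgroup.mem_sup_right (Subgroup.zpow_mem _ (Subgroup.mem_zpowers _) k)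
  · apply Subgroup.mem_sup_left
    rw [Subgroup.mem_subgroupOf]
    exact ha

theorem y_mem_commutator (T : TC p n s S x y z) : (⟨y, T.yS⟩ : S) ∈ commutator ↥S := by
  have h1 : (⟨y, T.yS⟩ : S) = ⁅(⟨x, T.xS⟩ : S)⁻¹, (⟨z, T.zS⟩ : S)⁆ := by
    apply Subtype.ext
    rw [commutatorElement_def]
    show y = x⁻¹ * z * x⁻¹⁻¹ * z⁻¹
    rw [inv_inv, T.hxz]
    group
  rw [h1, commutator_def]
  exact Subgroup.commutator_mem_commutator (Subgroup.mem_top _) (Subgroup.mem_top _)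

/-- `A` is characteristic in `S` -/
theorem aut_mem [Finite S] (T : TC p n s S x y z) (β : MulAut S) {a : S}
    (ha : (a : Ω) ∈ TCA y z) : ((β a : S) : Ω) ∈ TCA y z := by
  have C := T.ctx
  by_contra hna
  have hchar : (commutator ↥S).Characteristic := by
    rw [commutator_def]; infer_instance
  have h1 : (commutator ↥S).comap (β⁻¹ : MulAut S).toMonoidHom = commutator ↥S := hchar.fixed β⁻¹
  have h2 : (β⁻¹ : MulAut S) ⟨y, T.yS⟩ ∈ commutator ↥S := by
    have := T.y_mem_commutator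
    rw [← h1, Subgroup.mem_comap] at this
    exact this
  have h3 : (((β⁻¹ : MulAut S) ⟨y, T.yS⟩ : S) : Ω) ∈ TCA y z := by
    have := T.commutator_le h2
    rwa [Subgroup.mem_subgroupOf] at this
  have h4 : a * (β⁻¹ : MulAut S) ⟨y, T.yS⟩ = (β⁻¹ : MulAut S) ⟨y, T.yS⟩ * a :=
    Subtype.ext (C.hcomm _ ha _ h3)
  have h5 := congrArg β h4
  rw [map_mul, map_mul, MulAut.apply_inv_self] at h5
  have h6 : y * ((β a : S) : Ω) = ((β a : S) : Ω) * y := by
    have := congrArg Subtype.val h5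
    rw [Subgroup.coe_mul, Subgroup.coe_mul] at this
    exact this.symm
  exact T.y_not_central (C.mem_ZS_of_comm (β a).2 hna T.yA h6)

set_option maxHeartbeats 800000 in
/-- **automorphisms of `S` act on `S/A` by `±1`** -/
theorem aut_rho [Finite S] (T : TC p n s S x y z) (β : MulAut S) :
    ∃ ρ : ℕ, (∃ a₀ ∈ TCA y z, ((β ⟨x, T.xS⟩ : S) : Ω) = x ^ ρ * a₀) ∧
      (p : ℤ) ∣ (ρ : ℤ) ^ 2 - 1 := by
  have hpp' := hpp.out
  have C := T.ctx
  obtain ⟨k, a₀, ha₀, hk⟩ := C.exists_decomp T.xS T.x_not_mem (β ⟨x, T.xS⟩).2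
  obtain ⟨ρ, hρ⟩ := exists_pow_eq_zpow hpp'.pos T.hx k
  rw [hρ] at hk
  refine ⟨ρ, ⟨a₀, ha₀, hk⟩, ?_⟩
  -- the commutative group `A`
  letI : CommGroup ↥(TCA y z) :=
    { (inferInstance : Group ↥(TCA y z)) with
      mul_comm := fun a b => Subtype.ext (T.A_comm a a.2 b b.2) }
  -- conjugation by `x⁻¹` and the restriction of `β`
  let cA : ↥(TCA y z) →* ↥(TCA y z) :=
    { toFun := fun a => ⟨x⁻¹ * a * x, T.conj_mem a.2⟩
      map_one' := Subtype.ext (by simp)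
      map_mul' := fun a b => Subtype.ext (by
        show x⁻¹ * ((a : Ω) * b) * x = (x⁻¹ * a * x) * (x⁻¹ * b * x)
        group) }
  let βA : ↥(TCA y z) →* ↥(TCA y z) :=
    { toFun := fun a => ⟨((β ⟨a, T.A_le a.2⟩ : S) : Ω), T.aut_mem β a.2⟩
      map_one' := Subtype.ext (by
        show ((β ⟨1, _⟩ : S) : Ω) = 1
        have : (⟨1, T.A_le (Subgroup.one_mem _)⟩ : S) = 1 := rfl
        rw [this, map_one]; rfl)
      map_mul' := fun a b => Subtype.ext (by
        show ((β ⟨(a : Ω) * b, _⟩ : S) : Ω) = ((β ⟨a, _⟩ : S) : Ω) * ((β ⟨b, _⟩ : S) : Ω)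
        have : (⟨(a : Ω) * b, T.A_le (Subgroup.mul_mem _ a.2 b.2)⟩ : S) =
            ⟨a, T.A_le a.2⟩ * ⟨b, T.A_le b.2⟩ := rfl
        rw [this, map_mul]; rfl) }
  have hcA : ∀ a : ↥(TCA y z), ((cA a : ↥(TCA y z)) : Ω) = x⁻¹ * a * x := fun _ => rfl
  have hβA : ∀ a : ↥(TCA y z), ((βA a : ↥(TCA y z)) : Ω) = ((β ⟨a, T.A_le a.2⟩ : S) : Ω) :=
    fun _ => rfl
  -- the iterates of `cA`
  have hiter : ∀ (j : ℕ) (b : ↥(TCA y z)),
      (((⇑(MonoidHom.toAdditive cA))^[j] (Additive.ofMul b)).toMul : Ω) =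
        (x ^ j)⁻¹ * b * x ^ j := by
    intro j
    induction j with
    | zero => intro b; simp
    | succ j ih =>
      intro b
      rw [Function.iterate_succ_apply']
      show x⁻¹ * ((((⇑(MonoidHom.toAdditive cA))^[j] (Additive.ofMul b)).toMul : Ω)) * x = _
      rw [ih, pow_succ]
      group
  -- the elements
  obtain ⟨zA, hzA⟩ : ∃ zA : ↥(TCA y z), (zA : Ω) = z := ⟨⟨z, T.zA⟩, rfl⟩
  obtain ⟨yA, hyA⟩ : ∃ yA : ↥(TCA y z), (yA : Ω) = y := ⟨⟨y, T.yA⟩, rfl⟩
  obtain ⟨ζA, hζA⟩ : ∃ ζA : ↥(TCA y z), (ζA : Ω) = z ^ p ^ (n - 3) := ⟨⟨_, T.zpow_mem _⟩, rfl⟩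
  obtain ⟨i, j, hij⟩ := exists_zpow_of_mem_closure_pair T.hyz (βA zA).2
  have hcomm : Commute y z := T.hyz
  have hcz : MonoidHom.toAdditive cA (Additive.ofMul zA) =
      Additive.ofMul zA + Additive.ofMul yA := by
    show Additive.ofMul (cA zA) = Additive.ofMul (zA * yA)
    congr 1
    apply Subtype.ext
    rw [hcA, Subgroup.coe_mul, hzA, hyA, T.hxz, T.hyz]
  have hcy : MonoidHom.toAdditive cA (Additive.ofMul yA) =
      Additive.ofMul yA + s • Additive.ofMul ζA := by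
    show Additive.ofMul (cA yA) = Additive.ofMul (yA * ζA ^ s)
    congr 1
    apply Subtype.ext
    rw [hcA, Subgroup.coe_mul, Subgroup.coe_pow, hζA, hyA, T.hxy, ← pow_mul, mul_comm s]
  have hcζ : MonoidHom.toAdditive cA (Additive.ofMul ζA) = Additive.ofMul ζA := by
    show Additive.ofMul (cA ζA) = Additive.ofMul ζA
    congr 1
    apply Subtype.ext
    rw [hcA, hζA, T.conj_z_pow T.dvd_q]
  have hBz : MonoidHom.toAdditive βA (Additive.ofMul zA) =
      j • Additive.ofMul zA + i • Additive.ofMul yA := by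
    show Additive.ofMul (βA zA) = Additive.ofMul (zA ^ j * yA ^ i)
    congr 1
    apply Subtype.ext
    rw [hij, Subgroup.coe_mul, Subgroup.coe_zpow, Subgroup.coe_zpow, hzA, hyA]
    exact (hcomm.zpow_zpow i j).eq
  have hqz : (p ^ (n - 3)) • Additive.ofMul zA = Additive.ofMul ζA := by
    show Additive.ofMul (zA ^ p ^ (n - 3)) = Additive.ofMul ζA
    congr 1
    apply Subtype.ext
    rw [Subgroup.coe_pow, hzA, hζA]
  have hqy : (p ^ (n - 3)) • Additive.ofMul yA = 0 := by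
    show Additive.ofMul (yA ^ p ^ (n - 3)) = Additive.ofMul 1
    congr 1
    apply Subtype.ext
    rw [Subgroup.coe_pow, hyA, T.y_pow_of_dvd T.dvd_q]
    rfl
  have hint : ∀ m : Additive ↥(TCA y z), MonoidHom.toAdditive βA (MonoidHom.toAdditive cA m) =
      (⇑(MonoidHom.toAdditive cA))^[ρ] (MonoidHom.toAdditive βA m) := by
    intro m
    obtain ⟨a, ha⟩ : ∃ a : ↥(TCA y z), a = m.toMul := ⟨_, rfl⟩
    have hm : m = Additive.ofMul a := by rw [ha]; rfl
    rw [hm]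
    clear hm ha
    apply Additive.toMul.injective
    apply Subtype.ext
    have h1 := hiter ρ (βA a)
    have h2 : (MonoidHom.toAdditive βA (Additive.ofMul a)) = Additive.ofMul (βA a) := rfl
    rw [h2, h1]
    show ((β ⟨x⁻¹ * a * x, _⟩ : S) : Ω) = (x ^ ρ)⁻¹ * ((β ⟨a, _⟩ : S) : Ω) * x ^ ρ
    have h3 : (⟨x⁻¹ * a * x, T.A_le (T.conj_mem a.2)⟩ : S) =
        (⟨x, T.xS⟩ : S)⁻¹ * ⟨a, T.A_le a.2⟩ * ⟨x, T.xS⟩ := rfl
    rw [h3, map_mul, map_mul, map_inv, Subgroup.coe_mul, Subgroup.coe_mul, Subgroup.coe_inv, hk]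
    have h4 : (x ^ ρ)⁻¹ * ((β ⟨a, T.A_le a.2⟩ : S) : Ω) * x ^ ρ ∈ TCA y z :=
      T.conj_pow_mem ρ (T.aut_mem β a.2)
    have h5 := T.A_comm _ h4 _ ha₀
    calc (x ^ ρ * a₀)⁻¹ * ((β ⟨a, T.A_le a.2⟩ : S) : Ω) * (x ^ ρ * a₀)
        = a₀⁻¹ * ((x ^ ρ)⁻¹ * ((β ⟨a, T.A_le a.2⟩ : S) : Ω) * x ^ ρ * a₀) := by group
      _ = a₀⁻¹ * (a₀ * ((x ^ ρ)⁻¹ * ((β ⟨a, T.A_le a.2⟩ : S) : Ω) * x ^ ρ)) := by rw [h5]
      _ = (x ^ ρ)⁻¹ * ((β ⟨a, T.A_le a.2⟩ : S) : Ω) * x ^ ρ := by group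
  obtain ⟨hBζ, hmain⟩ := core (MonoidHom.toAdditive cA) (MonoidHom.toAdditive βA)
    (Additive.ofMul zA) (Additive.ofMul yA) (Additive.ofMul ζA) s (p ^ (n - 3)) ρ j i
    hcz hcy hcζ hBz hqz hqy hint
  -- back to the group
  have hζ1 : ζA ≠ 1 := by
    intro h
    apply T.zeta_facts.2.1
    rw [← hζA, h]; rfl
  have hζord : orderOf ζA = p := by
    have h1 : (ζA : Ω) ^ p = 1 := by rw [hζA]; exact T.zeta_facts.1
    exact orderOf_eq_prime (Subtype.ext (by rw [Subgroup.coe_pow, h1]; rfl)) hζ1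
  have hj : ¬ (p : ℤ) ∣ j := by
    intro hdvd
    have h1 : βA ζA = ζA ^ j := Additive.ofMul.injective hBζ
    have h2 : ζA ^ j = 1 := by
      apply orderOf_dvd_iff_zpow_eq_one.mp
      rw [hζord]; exact hdvd
    rw [h2] at h1
    apply hζ1
    have h3 : ((β ⟨ζA, T.A_le ζA.2⟩ : S) : Ω) = 1 := by
      rw [← hβA, h1]; rfl
    have h4 : β ⟨ζA, T.A_le ζA.2⟩ = 1 := Subtype.ext h3
    have h5 : (⟨ζA, T.A_le ζA.2⟩ : S) = 1 := by
      rw [← map_one β] at h4
      exact β.injective h4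
    have h5' : (ζA : Ω) = 1 := congrArg (fun t : S => (t : Ω)) h5
    exact Subtype.ext h5'
  have h6 : ζA ^ ((s : ℤ) * j) = ζA ^ ((s : ℤ) * j * (ρ : ℤ) ^ 2) := Additive.ofMul.injective hmain
  have h7 : ζA ^ ((s : ℤ) * j * ((ρ : ℤ) ^ 2 - 1)) = 1 := by
    have : (s : ℤ) * j * ((ρ : ℤ) ^ 2 - 1) = (s : ℤ) * j * (ρ : ℤ) ^ 2 - (s : ℤ) * j := by ring
    rw [this, zpow_sub, ← h6, mul_inv_cancel]
  have h8 : (p : ℤ) ∣ (s : ℤ) * j * ((ρ : ℤ) ^ 2 - 1) := by
    have := orderOf_dvd_iff_zpow_eq_one.mpr h7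
    rwa [hζord] at this
  rw [mul_assoc] at h8
  have h9 := T.int_dvd_of_dvd_mul h8
  have hP : Prime (p : ℤ) := Nat.prime_iff_prime_int.mp hpp'
  rcases hP.dvd_or_dvd h9 with h10 | h10
  · exact absurd h10 hj
  · exact h10

/-- **no automorphism of `S` squares a generator of `S/A`** (for `p ≥ 5`) -/
theorem aut_sq [Finite S] (T : TC p n s S x y z) (hp5 : 5 ≤ p) (β : MulAut S) (m : S)
    (hm : (m : Ω) ∉ TCA y z) (h : ((m : Ω) ^ 2)⁻¹ * ((β m : S) : Ω) ∈ TCA y z) : False := by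
  have hpp' := hpp.out
  have C := T.ctx
  haveI := C.normal_subgroupOf
  obtain ⟨ρ, ⟨a₀, ha₀, hρ⟩, hρ2⟩ := T.aut_rho β
  obtain ⟨π, hπ⟩ : ∃ π : ↥S →* ↥S ⧸ (TCA y z).subgroupOf S,
      π = QuotientGroup.mk' ((TCA y z).subgroupOf S) := ⟨_, rfl⟩
  have hπ1 : ∀ a : S, (a : Ω) ∈ TCA y z → π a = 1 := by
    intro a ha
    rw [hπ, QuotientGroup.mk'_apply, QuotientGroup.eq_one_iff, Subgroup.mem_subgroupOf]
    exact ha
  have hπ1' : ∀ a : S, π a = 1 → (a : Ω) ∈ TCA y z := by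
    intro a ha
    rw [hπ, QuotientGroup.mk'_apply, QuotientGroup.eq_one_iff, Subgroup.mem_subgroupOf] at ha
    exact ha
  obtain ⟨X, hX⟩ : ∃ X, X = π ⟨x, T.xS⟩ := ⟨_, rfl⟩
  have hXp : X ^ p = 1 := by
    rw [hX, ← map_pow]
    apply hπ1
    rw [Subgroup.coe_pow]
    show x ^ p ∈ _
    rw [T.hx]; exact Subgroup.one_mem _
  have hX1 : X ≠ 1 := by
    intro h1
    rw [hX] at h1
    exact T.x_not_mem (hπ1' _ h1)
  have hXord : orderOf X = p := orderOf_eq_prime hXp hX1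
  have hβx : π (β ⟨x, T.xS⟩) = X ^ ρ := by
    have h1 : β ⟨x, T.xS⟩ = (⟨x, T.xS⟩ : S) ^ ρ * ⟨a₀, C.hAS ha₀⟩ := by
      apply Subtype.ext
      rw [Subgroup.coe_mul, Subgroup.coe_pow]
      exact hρ
    rw [h1, map_mul, map_pow, hπ1 ⟨a₀, C.hAS ha₀⟩ ha₀, mul_one, hX]
  obtain ⟨k, a₁, ha₁, hk⟩ := C.exists_decomp T.xS T.x_not_mem m.2
  have hm' : m = (⟨x, T.xS⟩ : S) ^ k * ⟨a₁, C.hAS ha₁⟩ := by
    apply Subtype.ext
    rw [Subgroup.coe_mul, Subgroup.coe_zpow]
    exact hk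
  have hπm : π m = X ^ k := by
    rw [hm', map_mul, map_zpow, hπ1 ⟨a₁, C.hAS ha₁⟩ ha₁, mul_one, hX]
  have hπβm : π (β m) = X ^ ((ρ : ℤ) * k) := by
    rw [hm', map_mul, map_zpow, map_mul, map_zpow, hβx,
      hπ1 (β ⟨a₁, C.hAS ha₁⟩) (T.aut_mem β (a := ⟨a₁, C.hAS ha₁⟩) ha₁), mul_one,
      zpow_mul, zpow_natCast]
  have hsq : π (β m) = π m ^ 2 := by
    rw [← map_pow, hπ, QuotientGroup.mk'_apply, QuotientGroup.mk'_apply]
    symm
    rw [QuotientGroup.eq, Subgroup.mem_subgroupOf]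
    exact h
  rw [hπβm, hπm, ← zpow_natCast, ← zpow_mul] at hsq
  have h1 : X ^ (((ρ : ℤ) - 2) * k) = 1 := by
    have : ((ρ : ℤ) - 2) * k = (ρ : ℤ) * k - k * ((2 : ℕ) : ℤ) := by push_cast; ring
    rw [this, zpow_sub, hsq, mul_inv_cancel]
  have h2 : (p : ℤ) ∣ ((ρ : ℤ) - 2) * k := by
    have := orderOf_dvd_iff_zpow_eq_one.mpr h1
    rwa [hXord] at this
  have hP : Prime (p : ℤ) := Nat.prime_iff_prime_int.mp hpp'
  have hk' : ¬ (p : ℤ) ∣ k := by
    intro hdvd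
    apply hm
    apply hπ1'
    rw [hπm]
    apply orderOf_dvd_iff_zpow_eq_one.mp
    rw [hXord]; exact hdvd
  have h3 : (p : ℤ) ∣ (ρ : ℤ) - 2 := by
    rcases hP.dvd_or_dvd h2 with h | h
    · exact h
    · exact absurd h hk'
  have h4 : (p : ℤ) ∣ 3 := by
    have : (3 : ℤ) = ((ρ : ℤ) ^ 2 - 1) - ((ρ : ℤ) - 2) * ((ρ : ℤ) + 2) := by ring
    rw [this]
    exact dvd_sub hρ2 (Dvd.dvd.mul_right h3 _)
  have h5 : p ∣ 3 := by exact_mod_cast h4
  have h6 := Nat.le_of_dvd (by norm_num) h5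
  omega

end TC

end Cfsg.Agent.H9RK2
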