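import Mathlib
import Cfsg.Prelude
import Cfsg.Agent.Lib.Helper9.RK2c
import Cfsg.Agent.Lib.Helper9.AbIdx18

set_option autoImplicit false

/-!
# A diagonal automorphism of an essential subgroup extending to the normalizer
-/

namespace Cfsg.Agent.H9RK2

open Cfsg Cfsg.FusionSystem Cfsg.Agent.Lib.Helper9 Cfsg.Agent.Lib.Helper9.H9AbIdx Cfsg.Agent.H9CS

open scoped commutatorElement

variable {Ω : Type*} [Group Ω] {S : Subgroup Ω} [Finite S] {p : ℕ} [hp : Fact p.Prime]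
  {A : Subgroup Ω}

/-- commutators of `S` lie in `A` -/
theorem ctx_commutator_le (C : Ctx p S A) : commutator ↥S ≤ A.subgroupOf S := by
  haveI := C.normal_subgroupOf
  obtain ⟨x, hxS, hxA⟩ : ∃ x ∈ S, x ∉ A := by
    by_contra hcon
    push Not at hcon
    have h1 : A.relIndex S = 1 := Subgroup.relIndex_eq_one.mpr hcon
    rw [C.hidx] at h1
    exact hp.out.one_lt.ne' h1
  apply Subgroup.Normal.commutator_le_of_self_sup_commutative_eq_top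
    (H := Subgroup.zpowers (⟨x, hxS⟩ : S)) _ inferInstance
  rw [Subgroup.eq_top_iff']
  intro g
  obtain ⟨k, a, ha, hg⟩ := C.exists_decomp hxS hxA g.2
  have h1 : g = (⟨x, hxS⟩ : S) ^ k * ⟨a, C.hAS ha⟩ := by
    apply Subtype.ext
    rw [Subgroup.coe_mul, Subgroup.coe_zpow]
    exact hg
  rw [h1]
  apply Subgroup.mul_mem
  · exact Subgroup.mem_sup_right (Subgroup.zpow_mem _ (Subgroup.mem_zpowers _) k)
  · apply Subgroup.mem_sup_left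
    rw [Subgroup.mem_subgroupOf]
    exact ha

theorem ctx_comm_mem (C : Ctx p S A) {s t : Ω} (hs : s ∈ S) (ht : t ∈ S) :
    s⁻¹ * (t * s * t⁻¹) ∈ A := by
  have h1 : ⁅(⟨s, hs⟩ : S)⁻¹, (⟨t, ht⟩ : S)⁆ ∈ commutator ↥S := by
    rw [commutator_def]
    exact Subgroup.commutator_mem_commutator (Subgroup.mem_top _) (Subgroup.mem_top _)
  have h2 := ctx_commutator_le C h1
  rw [Subgroup.mem_subgroupOf, commutatorElement_def] at h2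
  have h3 : (((⟨s, hs⟩ : S)⁻¹ * ⟨t, ht⟩ * (⟨s, hs⟩ : S)⁻¹⁻¹ * (⟨t, ht⟩ : S)⁻¹ : S) : Ω) =
      s⁻¹ * (t * s * t⁻¹) := by
    show s⁻¹ * t * s⁻¹⁻¹ * t⁻¹ = _
    group
  rwa [h3] at h2

omit [Finite S] hp in
/-- elements of `⟨ℓ⟩W` for a subgroup `W` centralized by `ℓ` -/
theorem decomp_zpowers_sup {W : Subgroup Ω} {ℓ : Ω} (hℓ : ∀ w ∈ W, ℓ * w * ℓ⁻¹ = w) {g : Ω}
    (hg : g ∈ W ⊔ Subgroup.zpowers ℓ) : ∃ t : ℤ, ∃ w ∈ W, g = ℓ ^ t * w := by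
  have hN : Subgroup.zpowers ℓ ≤ Subgroup.normalizer (W : Set Ω) := by
    rw [Subgroup.zpowers_le, Subgroup.mem_normalizer_iff]
    intro h
    constructor
    · intro hh
      rw [hℓ h hh]; exact hh
    · intro hh
      have h1 := hℓ _ hh
      have h2 : h = ℓ * h * ℓ⁻¹ := by
        have h3 := mul_left_cancel (mul_right_cancel h1)
        exact h3.symm
      rw [h2]; exact hh
  have h1 := Subgroup.coe_mul_of_left_le_normalizer_right (Subgroup.zpowers ℓ) W hN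
  have h2 : g ∈ ((Subgroup.zpowers ℓ ⊔ W : Subgroup Ω) : Set Ω) := by
    rw [sup_comm]; exact hg
  rw [h1, Set.mem_mul] at h2
  obtain ⟨y, hy, a, ha, rfl⟩ := h2
  obtain ⟨k, rfl⟩ := Subgroup.mem_zpowers_iff.mp hy
  exact ⟨k, a, ha, rfl⟩

set_option maxHeartbeats 1600000 in
/-- **a diagonal automorphism extending to the normalizer** -/
theorem ess_diag_extend (hS : IsPGroup p S) (F : FusionSystem S) (hF : F.IsSaturated p)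
    (hp2 : p ≠ 2) {P : Subgroup Ω} (hP : F.IsEssential p P) (W : Subgroup Ω)
    (hWinv : ∀ α ∈ F.autGroup P, ∀ w : P, (w : Ω) ∈ W → ((α w : P) : Ω) ∈ W)
    (hWc : ∀ n ∈ S, n ∈ Subgroup.normalizer (P : Set Ω) → ∀ w ∈ W, n * w * n⁻¹ = w)
    (hc : ∀ a ∈ P, ∀ b ∈ P, (a * b)⁻¹ * (b * a) ∈ W)
    (hexp : ∀ a ∈ P, a ^ p ∈ W)
    (hidx : W.relIndex P = p ^ 2)
    (hNidx : P.relIndex (normalizerIn S P) = p)
    {ℓ m : Ω} (hℓP : ℓ ∈ P) (hmP : m ∈ P) (hℓW : ℓ ∉ W) (hmW : ∀ k : ℕ, (ℓ ^ k)⁻¹ * m ∉ W)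
    (hgen : ∀ g ∈ P, ∃ i k : ℤ, (m ^ i * ℓ ^ k)⁻¹ * g ∈ W)
    (hnℓ : ∀ n ∈ S, n ∈ Subgroup.normalizer (P : Set Ω) → ℓ⁻¹ * (n * ℓ * n⁻¹) ∈ W)
    (hnm : ∀ n ∈ S, n ∈ Subgroup.normalizer (P : Set Ω) →
      ∃ t : ℕ, (m * ℓ ^ t)⁻¹ * (n * m * n⁻¹) ∈ W) :
    ∃ δ ∈ F.autGroup P, (m ^ 2)⁻¹ * ((δ ⟨m, hmP⟩ : P) : Ω) ∈ W ∧
      ∃ ψ ∈ F.Hom (normalizerIn S P), ∀ (x : Ω) (hxR : x ∈ P) (hxN : x ∈ normalizerIn S P),
        ψ ⟨x, hxN⟩ = ((δ ⟨x, hxR⟩ : P) : Ω) := by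
  have hpp := hp.out
  have hPS := ess_le F hP
  have hcen := ess_centralizerIn_le F hP
  haveI : Finite P := fs_finite_of_le hPS
  have hPp : IsPGroup p P := hS.to_le hPS
  obtain ⟨-, hPfn, hInorm, E₀, hE₀⟩ := id hP
  haveI := hInorm
  -- the subgroup `W ∩ P` of `P`
  obtain ⟨W', hW'⟩ : ∃ W' : Subgroup P, W' = W.subgroupOf P := ⟨_, rfl⟩
  have hmemW' : ∀ g : P, g ∈ W' ↔ (g : Ω) ∈ W := fun g => by rw [hW', Subgroup.mem_subgroupOf]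
  haveI hW'n : W'.Normal := ⟨fun w hw g => by
    rw [hmemW'] at hw ⊢
    have h1 := hWc g (hPS g.2) (Subgroup.le_normalizer g.2) w hw
    have h2 : ((g * w * g⁻¹ : P) : Ω) = (g : Ω) * w * (g : Ω)⁻¹ := rfl
    rw [h2, h1]; exact hw⟩
  have hΓ : ∀ α ∈ F.autGroup P, ∀ w ∈ W', α w ∈ W' := fun α hα w hw => by
    rw [hmemW'] at hw ⊢; exact hWinv α hα w hw
  have hc' : ∀ a b : P, (a * b)⁻¹ * (b * a) ∈ W' := fun a b => by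
    rw [hmemW']; exact hc a a.2 b b.2
  have hexp' : ∀ a : P, a ^ p ∈ W' := fun a => by
    rw [hmemW']; exact hexp a a.2
  have hidx' : W'.index = p ^ 2 := by rw [hW']; exact hidx
  -- conjugation automorphisms
  have hcjS : ∀ (n' : Ω) (_ : n' ∈ S) (hn' : n' ∈ Subgroup.normalizer (P : Set Ω)),
      P.normalizerMonoidHom ⟨n', hn'⟩ ∈ F.autGroup P := fun n' hn'S hn' =>
    autInducedBy_le_autGroup F hPS ((mem_autInducedBy_iff _ _ _).mpr ⟨n', hn'S, fun _ => rfl⟩)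
  have hcjpow : ∀ (n' : Ω) (hn' : n' ∈ Subgroup.normalizer (P : Set Ω)) (k : ℕ) (v : P),
      ((((P.normalizerMonoidHom ⟨n', hn'⟩) ^ k) v : P) : Ω) = n' ^ k * v * (n' ^ k)⁻¹ := by
    intro n' hn' k v
    rw [← map_pow]
    rfl
  have hcjW : ∀ (n' : Ω) (_ : n' ∈ S) (hn' : n' ∈ Subgroup.normalizer (P : Set Ω)),
      ∀ w ∈ W', P.normalizerMonoidHom ⟨n', hn'⟩ w = w := fun n' hn'S hn' w hw =>
    Subtype.ext (hWc n' hn'S hn' w ((hmemW' w).mp hw))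
  -- inner automorphisms
  have hinner : ∀ κ ∈ F.autGroup P, (∀ w ∈ W', κ w = w) → (∀ g : P, g⁻¹ * κ g ∈ W') →
      κ ∈ Inn P := by
    intro κ hκ h1 h2
    have key := mem_of_stab_two p hPp (F.autGroup P) ((Inn P).subgroupOf (F.autGroup P))
      (inn_isPGroup p hPp _) E₀ hE₀ W' (fun α hα w hw => hΓ α hα w hw) ⟨κ, hκ⟩ h1 h2
    rwa [Subgroup.mem_subgroupOf] at key
  -- the first element of order `p`
  obtain ⟨n, hnS, hnN, hnP⟩ := ess_exists_normalizing p hS F hF hP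
  obtain ⟨a₁, ha₁⟩ : ∃ a₁ : MulAut P, a₁ = P.normalizerMonoidHom ⟨n, hnN⟩ := ⟨_, rfl⟩
  have ha₁Γ : a₁ ∈ F.autGroup P := ha₁ ▸ hcjS n hnS hnN
  have ha₁v : ∀ v : P, ((a₁ v : P) : Ω) = n * v * n⁻¹ := fun v => by rw [ha₁]; rfl
  have ha₁W : ∀ w ∈ W', a₁ w = w := fun w hw => by rw [ha₁]; exact hcjW n hnS hnN w hw
  have hnpP : n ^ p ∈ P := by
    have hnN' : n ∈ normalizerIn S P := ⟨hnS, hnN⟩
    haveI : (P.subgroupOf (normalizerIn S P)).Normal :=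
      Subgroup.normal_subgroupOf_of_le_normalizer inf_le_right
    have h1 := Subgroup.pow_index_mem (P.subgroupOf (normalizerIn S P)) ⟨n, hnN'⟩
    rw [show (P.subgroupOf (normalizerIn S P)).index = p from hNidx, Subgroup.mem_subgroupOf] at h1
    exact h1
  have h1p : ∀ g : P, g⁻¹ * (a₁ ^ p) g ∈ W' := by
    intro g
    have h1 : (a₁ ^ p) g = ⟨n ^ p, hnpP⟩ * g * (⟨n ^ p, hnpP⟩ : P)⁻¹ := by
      apply Subtype.ext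
      rw [ha₁, hcjpow]
      rfl
    rw [h1]
    have h2 := hc' (⟨n ^ p, hnpP⟩ : P)⁻¹ g
    have h3 : ((⟨n ^ p, hnpP⟩ : P)⁻¹ * g)⁻¹ * (g * (⟨n ^ p, hnpP⟩ : P)⁻¹) =
        g⁻¹ * (⟨n ^ p, hnpP⟩ * g * (⟨n ^ p, hnpP⟩ : P)⁻¹) := by group
    rwa [h3] at h2
  have h1n : ¬ ∀ g : P, g⁻¹ * a₁ g ∈ W' := by
    intro h
    apply hnP
    refine ess_rad p hS F hP W hWinv hnS hnN (fun w hw _ => hWc n hnS hnN w hw) (fun g hg => ?_)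
    have h1 := (hmemW' _).mp (h ⟨g, hg⟩)
    rw [Subgroup.coe_mul, Subgroup.coe_inv, ha₁v] at h1
    exact h1
  -- the second element of order `p`
  obtain ⟨T₀, hT₀, M, hMtop, hMem⟩ := ess_sylow_data p hS F hF hP
  obtain ⟨α, hαM⟩ : ∃ α : F.autGroup P, α ∉ M := by
    by_contra hcon
    push Not at hcon
    exact hMtop (eq_top_iff.mpr fun g _ => hcon g)
  obtain ⟨a₂, ha₂⟩ : ∃ a₂ : MulAut P, a₂ = (α : MulAut P) * a₁ * (α : MulAut P)⁻¹ := ⟨_, rfl⟩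
  have ha₂Γ : a₂ ∈ F.autGroup P := by
    rw [ha₂]; exact mul_mem (mul_mem α.2 ha₁Γ) (inv_mem α.2)
  have h2p : ∀ g : P, g⁻¹ * (a₂ ^ p) g ∈ W' := by
    intro g
    have h1 : a₂ ^ p = (α : MulAut P) * a₁ ^ p * (α : MulAut P)⁻¹ := by rw [ha₂, conj_pow]
    have h2 := hΓ _ α.2 _ (h1p ((α : MulAut P)⁻¹ g))
    rw [map_mul, map_inv, MulAut.apply_inv_self] at h2
    rw [h1]
    exact h2
  have ha₂W : ∀ w ∈ W', a₂ w = w := by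
    intro w hw
    rw [ha₂, MulAut.mul_apply, MulAut.mul_apply, ha₁W _ (hΓ _ (inv_mem α.2) w hw),
      MulAut.apply_inv_self]
  have ha₁S : a₁ ∈ autInducedBy S P := (mem_autInducedBy_iff _ _ _).mpr ⟨n, hnS, ha₁v⟩
  have hne : ∀ j : ℕ, ¬ ∀ g : P, ((a₁ ^ j) g)⁻¹ * a₂ g ∈ W' := by
    intro j hj
    apply hαM
    have ha₁jΓ : a₁ ^ j ∈ F.autGroup P := pow_mem ha₁Γ j
    have hκΓ : (a₁ ^ j)⁻¹ * a₂ ∈ F.autGroup P := mul_mem (inv_mem ha₁jΓ) ha₂Γ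
    have ha₁jW : ∀ w ∈ W', (a₁ ^ j) w = w := fun w hw => pow_fix a₁ (ha₁W w hw) j
    have hκ1 : ∀ w ∈ W', ((a₁ ^ j)⁻¹ * a₂) w = w := by
      intro w hw
      rw [MulAut.mul_apply, ha₂W w hw]
      calc (a₁ ^ j)⁻¹ w = (a₁ ^ j)⁻¹ ((a₁ ^ j) w) := by rw [ha₁jW w hw]
        _ = w := MulAut.inv_apply_self _ _ _
    have hκ2 : ∀ g : P, g⁻¹ * ((a₁ ^ j)⁻¹ * a₂) g ∈ W' := by
      intro g
      have h3 := hΓ _ (inv_mem ha₁jΓ) _ (hj g)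
      rw [map_mul, map_inv, MulAut.inv_apply_self] at h3
      exact h3
    have hκI := hinner _ hκΓ hκ1 hκ2
    have ha₂S : a₂ ∈ autInducedBy S P := by
      have : a₂ = a₁ ^ j * ((a₁ ^ j)⁻¹ * a₂) := by group
      rw [this]
      exact mul_mem (pow_mem ha₁S j) (inn_le_autInducedBy hPS hκI)
    refine hMem α ⟨a₁, ha₁Γ⟩ ?_ ?_ ?_
    · rw [hT₀, Subgroup.mem_subgroupOf]; exact ha₁S
    · intro hI
      exact hnP (mem_of_induces_inner hcen hI hnS hPS ha₁v)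
    · rw [hT₀, Subgroup.mem_subgroupOf]
      have : ((α * ⟨a₁, ha₁Γ⟩ * α⁻¹ : F.autGroup P) : MulAut P) = a₂ := by rw [ha₂]; rfl
      rw [this]; exact ha₂S
  -- the basis
  have hℓ' : (⟨ℓ, hℓP⟩ : P) ∉ W' := by rw [hmemW']; exact hℓW
  have hm' : ∀ k : ℕ, ((⟨ℓ, hℓP⟩ : P) ^ k)⁻¹ * ⟨m, hmP⟩ ∉ W' := fun k => by
    rw [hmemW']; exact hmW k
  -- the unit `1/2`
  have hp2lt : 2 < p := lt_of_le_of_ne hpp.two_le (Ne.symm hp2)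
  have h2ne : (2 : ZMod p) ≠ 0 := by
    intro h
    have h1 : ((2 : ℕ) : ZMod p) = 0 := by exact_mod_cast h
    have h2 := (ZMod.natCast_eq_zero_iff 2 p).mp h1
    have h3 := Nat.le_of_dvd (by norm_num) h2
    omega
  obtain ⟨u, hu⟩ : ∃ u : (ZMod p)ˣ, u = (Units.mk0 (2 : ZMod p) h2ne)⁻¹ := ⟨_, rfl⟩
  have huinv : ((u⁻¹ : (ZMod p)ˣ) : ZMod p) = 2 := by rw [hu, inv_inv]; rfl
  have hval2 : (((u⁻¹ : (ZMod p)ˣ) : ZMod p)).val = 2 := by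
    rw [huinv, ZMod.val_two_eq_two_mod, Nat.mod_eq_of_lt hp2lt]
  obtain ⟨h, hh0⟩ : ∃ h : ℕ, h = (u : ZMod p).val := ⟨_, rfl⟩
  obtain ⟨e, hh⟩ : ∃ e : ℕ, 2 * h = 1 + p * e := by
    have h1 : (2 : ZMod p) * (u : ZMod p) = 1 := by
      rw [← huinv, ← Units.val_mul, inv_mul_cancel, Units.val_one]
    have h2 : ((2 * h : ℕ) : ZMod p) = ((1 : ℕ) : ZMod p) := by
      rw [Nat.cast_mul, hh0, ZMod.natCast_zmod_val, Nat.cast_ofNat, Nat.cast_one]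
      exact h1
    have h3 := (ZMod.natCast_eq_natCast_iff _ _ _).mp h2
    unfold Nat.ModEq at h3
    rw [Nat.mod_eq_of_lt hpp.one_lt] at h3
    refine ⟨2 * h / p, ?_⟩
    have h4 := Nat.div_add_mod (2 * h) p
    omega
  obtain ⟨δ, hδΓ, hδℓ, hδm⟩ := exists_diag_mod p W' hc' hexp' hidx' (F.autGroup P) hΓ a₁ a₂
    ha₁Γ ha₂Γ h1p h2p h1n hne ⟨ℓ, hℓP⟩ ⟨m, hmP⟩ hℓ' hm' u
  rw [hval2] at hδm
  rw [← hh0] at hδℓ
  refine ⟨δ, hδΓ, (hmemW' _).mp hδm, ?_⟩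
  apply ext_normalizer hS F hF hPfn hδΓ
  intro n' hn'S hn'
  obtain ⟨c, hcdef⟩ : ∃ c : MulAut P, c = P.normalizerMonoidHom ⟨n', hn'⟩ := ⟨_, rfl⟩
  rw [← hcdef]
  have hcΓ : c ∈ F.autGroup P := hcdef ▸ hcjS n' hn'S hn'
  have hcv : ∀ v : P, ((c v : P) : Ω) = n' * v * n'⁻¹ := fun v => by rw [hcdef]; rfl
  have hcW : ∀ w ∈ W', c w = w := fun w hw => by rw [hcdef]; exact hcjW n' hn'S hn' w hw
  obtain ⟨t, ht⟩ := hnm n' hn'S hn'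
  have hgen' : ∀ g : P, ∃ i k : ℤ, ((⟨m, hmP⟩ : P) ^ i * (⟨ℓ, hℓP⟩ : P) ^ k)⁻¹ * g ∈ W' := by
    intro g
    obtain ⟨i, k, hik⟩ := hgen g g.2
    exact ⟨i, k, (hmemW' _).mpr hik⟩
  have hcℓ : (⟨ℓ, hℓP⟩ : P)⁻¹ * c ⟨ℓ, hℓP⟩ ∈ W' := by
    rw [hmemW', Subgroup.coe_mul, Subgroup.coe_inv, hcv]
    exact hnℓ n' hn'S hn'
  have hcm : ((⟨m, hmP⟩ : P) * (⟨ℓ, hℓP⟩ : P) ^ t)⁻¹ * c ⟨m, hmP⟩ ∈ W' := by
    rw [hmemW', Subgroup.coe_mul, Subgroup.coe_inv, hcv]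
    exact ht
  have hN := diag_normalizes_mod p W' hc' ⟨ℓ, hℓP⟩ ⟨m, hmP⟩ (hexp' _) hgen' δ c (hΓ δ hδΓ)
    (hΓ δ⁻¹ (inv_mem hδΓ)) (hΓ c hcΓ) (hΓ c⁻¹ (inv_mem hcΓ)) h t e hh hδℓ hδm hcℓ hcm
  -- the inner correction
  obtain ⟨κ, hκdef⟩ : ∃ κ : MulAut P, κ = (c ^ (h ^ 2))⁻¹ * (δ * c * δ⁻¹) := ⟨_, rfl⟩
  have hcjΓ : c ^ (h ^ 2) ∈ F.autGroup P := pow_mem hcΓ _
  have hκΓ : κ ∈ F.autGroup P := by
    rw [hκdef]
    exact mul_mem (inv_mem hcjΓ) (mul_mem (mul_mem hδΓ hcΓ) (inv_mem hδΓ))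
  have hcjW' : ∀ w ∈ W', (c ^ (h ^ 2)) w = w := fun w hw => pow_fix c (hcW w hw) _
  have hκ1 : ∀ w ∈ W', κ w = w := by
    intro w hw
    have h1 : (δ * c * δ⁻¹) w = w := by
      rw [MulAut.mul_apply, MulAut.mul_apply, hcW _ (hΓ _ (inv_mem hδΓ) w hw),
        MulAut.apply_inv_self]
    rw [hκdef, MulAut.mul_apply, h1]
    calc (c ^ (h ^ 2))⁻¹ w = (c ^ (h ^ 2))⁻¹ ((c ^ (h ^ 2)) w) := by rw [hcjW' w hw]
      _ = w := MulAut.inv_apply_self _ _ _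
  have hκ2 : ∀ g : P, g⁻¹ * κ g ∈ W' := by
    intro g
    have h1 := hN (δ⁻¹ g)
    rw [MulAut.apply_inv_self] at h1
    have h3 := hΓ _ (inv_mem hcjΓ) _ h1
    rw [map_mul, map_inv, MulAut.inv_apply_self] at h3
    rw [hκdef]
    exact h3
  obtain ⟨g₀, hg₀⟩ := hinner κ hκΓ hκ1 hκ2
  refine ⟨n' ^ (h ^ 2) * g₀, S.mul_mem (S.pow_mem hn'S _) (hPS g₀.2), fun v => ?_⟩
  have e1 : δ * c * δ⁻¹ = c ^ (h ^ 2) * κ := by rw [hκdef]; group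
  have e2 : δ (c v) = (c ^ (h ^ 2)) (κ (δ v)) := by
    have : δ (c v) = (δ * c * δ⁻¹) (δ v) := by
      rw [MulAut.mul_apply, MulAut.mul_apply, MulAut.inv_apply_self]
    rw [this, e1, MulAut.mul_apply]
  rw [e2, hcdef, hcjpow, ← hg₀]
  show n' ^ (h ^ 2) * ((g₀ : Ω) * (δ v : P) * (g₀ : Ω)⁻¹) * (n' ^ (h ^ 2))⁻¹ = _
  group

end Cfsg.Agent.H9RK2
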