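import Mathlib
import Cfsg.Prelude
import Cfsg.Agent.Lib.Helper9.RK2f

set_option autoImplicit false

/-!
# Essential subgroups outside `A`: an automorphism of `S` squaring a generator of `S/A`
-/

namespace Cfsg.Agent.H9RK2

open Cfsg Cfsg.FusionSystem Cfsg.Agent.Lib.Helper9 Cfsg.Agent.Lib.Helper9.H9AbIdx Cfsg.Agent.H9CS

variable {Ω : Type*} [Group Ω] {S : Subgroup Ω} [Finite S] {p : ℕ} [hp : Fact p.Prime]
  {A : Subgroup Ω}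

omit [Finite S] hp in
theorem zpow_decomp {W : Subgroup Ω} {ℓ : Ω} {q : ℕ} (hq : 0 < q) (hℓ : ℓ ^ q ∈ W) (t' : ℤ) :
    ∃ t : ℕ, ∃ w ∈ W, ℓ ^ t' = ℓ ^ t * w := by
  refine ⟨(t' % (q : ℤ)).toNat, (ℓ ^ q) ^ (t' / (q : ℤ)), W.zpow_mem hℓ _, ?_⟩
  have h1 : 0 ≤ t' % (q : ℤ) := Int.emod_nonneg _ (by exact_mod_cast hq.ne')
  have h2 : t' = t' % (q : ℤ) + (q : ℤ) * (t' / (q : ℤ)) := (Int.emod_add_mul_ediv t' q).symm
  calc ℓ ^ t' = ℓ ^ (t' % (q : ℤ) + (q : ℤ) * (t' / (q : ℤ))) := by rw [← h2]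
    _ = ℓ ^ (t' % (q : ℤ)) * (ℓ ^ (q : ℤ)) ^ (t' / (q : ℤ)) := by rw [zpow_add, zpow_mul]
    _ = ℓ ^ (((t' % (q : ℤ)).toNat : ℕ) : ℤ) * (ℓ ^ (q : ℤ)) ^ (t' / (q : ℤ)) := by
      rw [Int.toNat_of_nonneg h1]
    _ = ℓ ^ (t' % (q : ℤ)).toNat * (ℓ ^ q) ^ (t' / (q : ℤ)) := by
      rw [zpow_natCast, zpow_natCast]

set_option maxHeartbeats 1600000 in
/-- **the nonabelian case**: an essential subgroup `Z₂(S)⟨x⟩` normal in `S` gives an element of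
`Aut_F(S)` squaring `x` modulo `A` -/
theorem nonab_ess_aut (C : Ctx p S A) (hS : IsPGroup p S) (F : FusionSystem S)
    (hF : F.IsSaturated p) (hp2 : p ≠ 2) {P : Subgroup Ω} (hP : F.IsEssential p P) {x' : Ω}
    (hxP : x' ∈ P) (hxA : x' ∉ A) {g₁ : Ω} (hg₁ : g₁ ∈ P) (hne : g₁ * x' ≠ x' * g₁)
    (hNS : normalizerIn S P = S) :
    ∃ β ∈ F.autGroup S, (x' ^ 2)⁻¹ * ((β ⟨x', ess_le F hP hxP⟩ : S) : Ω) ∈ A := by
  have hpp := hp.out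
  have hPS := ess_le F hP
  have hxS := hPS hxP
  have hZP := ess_ZS_le F hP
  haveI : Finite P := fs_finite_of_le hPS
  obtain ⟨hZ2A, hPeq, hPA, hZ2idx, hNidx⟩ := ess_nonabelian_case C hS F hF hP hxP hxA hg₁ hne
  have hna : ∃ a ∈ P, ∃ b ∈ P, a * b ≠ b * a := ⟨g₁, hg₁, x', hxP, hne⟩
  have hZ2P : Z2 S ≤ P := by rw [← hPA]; exact inf_le_left
  have hZcen : ∀ n ∈ S, ∀ w ∈ ZS S, n * w * n⁻¹ = w := by
    intro n hn w hw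
    rw [(mem_ZS_iff.mp hw).2 n hn, mul_inv_cancel_right]
  -- `ℓ`
  obtain ⟨ℓ, hℓZ2, hℓZ⟩ : ∃ ℓ ∈ Z2 S, ℓ ∉ ZS S := by
    by_contra hcon
    push Not at hcon
    have h1 : (ZS S).relIndex (Z2 S) = 1 := Subgroup.relIndex_eq_one.mpr hcon
    rw [hZ2idx] at h1
    exact hpp.one_lt.ne' h1
  have hℓP : ℓ ∈ P := hZ2P hℓZ2
  have hℓA : ℓ ∈ A := hZ2A hℓZ2
  have hℓS : ℓ ∈ S := hPS hℓP
  have hZ2eq : ZS S ⊔ Subgroup.zpowers ℓ = Z2 S :=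
    sup_zpowers_of_prime_relIndex (ZS_le_Z2 S) hZ2idx hℓZ2 hℓZ
  have hdec : ∀ a ∈ Z2 S, ∃ t : ℤ, ∃ w ∈ ZS S, a = ℓ ^ t * w := by
    intro a ha
    rw [← hZ2eq] at ha
    exact decomp_zpowers_sup (fun w hw => hZcen ℓ hℓS w hw) ha
  -- `Z(S)` is normal in `Z₂(S)` of index `p`
  have hpowZ2 : ∀ a ∈ Z2 S, a ^ p ∈ ZS S := by
    intro a ha
    haveI : ((ZS S).subgroupOf (Z2 S)).Normal := ⟨fun w hw g => by
      rw [Subgroup.mem_subgroupOf] at hw ⊢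
      have h1 := hZcen g (Z2_le S g.2) w hw
      have h2 : ((g * w * g⁻¹ : Z2 S) : Ω) = (g : Ω) * w * (g : Ω)⁻¹ := rfl
      rw [h2, h1]; exact hw⟩
    have h1 := Subgroup.pow_index_mem ((ZS S).subgroupOf (Z2 S)) ⟨a, ha⟩
    rw [show ((ZS S).subgroupOf (Z2 S)).index = p from hZ2idx, Subgroup.mem_subgroupOf] at h1
    exact h1
  have hℓp : ℓ ^ p ∈ ZS S := hpowZ2 ℓ hℓZ2
  -- hypotheses of the extension theorem
  have hWinv : ∀ α ∈ F.autGroup P, ∀ w : P, (w : Ω) ∈ ZS S → ((α w : P) : Ω) ∈ ZS S :=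
    fun α _ w hw => C.aut_ZS_mem hPS hna α hw
  have hWc : ∀ n ∈ S, n ∈ Subgroup.normalizer (P : Set Ω) → ∀ w ∈ ZS S, n * w * n⁻¹ = w :=
    fun n hn _ w hw => hZcen n hn w hw
  have hidx : (ZS S).relIndex P = p ^ 2 := by
    have h1 := Subgroup.relIndex_mul_relIndex (ZS S) (Z2 S) P (ZS_le_Z2 S) hZ2P
    have h2 : (Z2 S).relIndex P = p := by
      rw [← hPA, inf_comm, Subgroup.inf_relIndex_right]
      exact C.relIndex_of_not_le hPS hxP hxA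
    rw [hZ2idx, h2] at h1
    rw [← h1, sq]
  have hc : ∀ a ∈ P, ∀ b ∈ P, (a * b)⁻¹ * (b * a) ∈ ZS S := by
    haveI : ((ZS S).subgroupOf P).Normal := ⟨fun w hw g => by
      rw [Subgroup.mem_subgroupOf] at hw ⊢
      have h1 := hZcen g (hPS g.2) w hw
      have h2 : ((g * w * g⁻¹ : P) : Ω) = (g : Ω) * w * (g : Ω)⁻¹ := rfl
      rw [h2, h1]; exact hw⟩
    have hcard : Nat.card (↥P ⧸ (ZS S).subgroupOf P) = p ^ 2 := by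
      rw [← Subgroup.index_eq_card]; exact hidx
    have hcomm := IsPGroup.commutative_of_card_eq_prime_sq hcard
    intro a ha b hb
    have h1 := hcomm (QuotientGroup.mk (⟨a, ha⟩ : P)) (QuotientGroup.mk (⟨b, hb⟩ : P))
    rw [← QuotientGroup.mk_mul, ← QuotientGroup.mk_mul, QuotientGroup.eq,
      Subgroup.mem_subgroupOf] at h1
    exact h1
  have hexp : ∀ a ∈ P, a ^ p ∈ ZS S := by
    intro a ha
    by_cases haA : a ∈ A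
    · exact hpowZ2 a (by rw [← hPA]; exact ⟨ha, haA⟩)
    · apply C.mem_ZS_of_comm (hPS ha) haA (C.pow_mem (hPS ha))
      rw [← pow_succ, ← pow_succ']
  have hmW : ∀ k : ℕ, (ℓ ^ k)⁻¹ * x' ∉ ZS S := by
    intro k hk
    apply hxA
    have h1 : x' = ℓ ^ k * ((ℓ ^ k)⁻¹ * x') := by group
    rw [h1]
    exact A.mul_mem (A.pow_mem hℓA k) (C.ZS_le_A hk)
  have hgen : ∀ g ∈ P, ∃ i k : ℤ, (x' ^ i * ℓ ^ k)⁻¹ * g ∈ ZS S := by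
    intro g hg
    obtain ⟨i, a, haA, haP, rfl⟩ := C.exists_decomp_in hPS hxP hxA hg
    obtain ⟨k, w, hw, rfl⟩ := hdec a (by rw [← hPA]; exact ⟨haP, haA⟩)
    refine ⟨i, k, ?_⟩
    have h1 : (x' ^ i * ℓ ^ k)⁻¹ * (x' ^ i * (ℓ ^ k * w)) = w := by group
    rw [h1]; exact hw
  have hnℓ : ∀ n ∈ S, n ∈ Subgroup.normalizer (P : Set Ω) → ℓ⁻¹ * (n * ℓ * n⁻¹) ∈ ZS S := by
    intro n hn _
    have h1 := (mem_Z2_iff.mp ((Z2 S).inv_mem hℓZ2)).2 n hn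
    have h2 : ℓ⁻¹ * n * ℓ⁻¹⁻¹ * n⁻¹ = ℓ⁻¹ * (n * ℓ * n⁻¹) := by group
    rwa [h2] at h1
  have hnm : ∀ n ∈ S, n ∈ Subgroup.normalizer (P : Set Ω) →
      ∃ t : ℕ, (x' * ℓ ^ t)⁻¹ * (n * x' * n⁻¹) ∈ ZS S := by
    intro n hn hnN
    have h1 : x'⁻¹ * (n * x' * n⁻¹) ∈ Z2 S := by
      rw [← hPA]
      refine ⟨P.mul_mem (P.inv_mem hxP) ((Subgroup.mem_normalizer_iff.mp hnN x').mp hxP), ?_⟩
      exact ctx_comm_mem C hxS hn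
    obtain ⟨t', w, hw, h2⟩ := hdec _ h1
    obtain ⟨t, w', hw', h3⟩ := zpow_decomp hpp.pos hℓp t'
    refine ⟨t, ?_⟩
    have h4 : (x' * ℓ ^ t)⁻¹ * (n * x' * n⁻¹) = (ℓ ^ t)⁻¹ * (x'⁻¹ * (n * x' * n⁻¹)) := by group
    rw [h4, h2, h3]
    have h5 : (ℓ ^ t)⁻¹ * (ℓ ^ t * w' * w) = w' * w := by group
    rw [h5]
    exact (ZS S).mul_mem hw' hw
  obtain ⟨δ, hδΓ, hδm, ψ, hψF, hψ⟩ := ess_diag_extend hS F hF hp2 hP (ZS S) hWinv hWc hc hexp hidx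
    hNidx hℓP hxP hℓZ hmW hgen hnℓ hnm
  -- the automorphism of `S`
  have hle : S ≤ normalizerIn S P := hNS.ge
  have hψ' := fs_restrict_mem F hψF hle
  obtain ⟨β, hβF, hβ⟩ := fs_hom_to_aut F hψ' (fun y => (F.le_of_mem hψ').2 y)
  refine ⟨β, hβF, ?_⟩
  rw [hβ]
  show (x' ^ 2)⁻¹ * ψ ⟨x', hle hxS⟩ ∈ A
  rw [hψ x' hxP (hle hxS)]
  exact C.ZS_le_A hδm

set_option maxHeartbeats 1600000 in
/-- **the abelian case**: for an essential subgroup `P ≅ C_p × C_p` outside `A`, some map of the system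
defined on `N_S(P)` normalizes `P` and squares `x` -/
theorem ab_ess_ext (C : Ctx p S A) (hS : IsPGroup p S) (F : FusionSystem S)
    (hF : F.IsSaturated p) (hp2 : p ≠ 2) {P : Subgroup Ω} (hP : F.IsEssential p P) {x' : Ω}
    (hxP : x' ∈ P) (hxA : x' ∉ A) (hab : ∀ g ∈ P, g * x' = x' * g)
    (hPexp : ∀ g ∈ P, g ^ p = 1) (hPcard : Nat.card P = p ^ 2) :
    ∃ ψ ∈ F.Hom (normalizerIn S P), (P.subgroupOf (normalizerIn S P)).map ψ = P ∧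
      ∀ hxN : x' ∈ normalizerIn S P, ψ ⟨x', hxN⟩ = x' ^ 2 := by
  have hpp := hp.out
  have hPS := ess_le F hP
  have hxS := hPS hxP
  haveI : Finite P := fs_finite_of_le hPS
  obtain ⟨hPeq, hPA, hNidx, hNA⟩ := ess_abelian_case C hS F hF hP hxP hxA hab
  have hcommP : ∀ a ∈ P, ∀ b ∈ P, a * b = b * a := fun a ha b hb =>
    C.comm_of_comm hxS hxA (hPS ha) (hPS hb) (hab a ha) (hab b hb)
  have hZP : ZS S ≤ P := by rw [← hPA]; exact inf_le_left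
  have hZcen : ∀ n ∈ S, ∀ w ∈ ZS S, n * w * n⁻¹ = w := by
    intro n hn w hw
    rw [(mem_ZS_iff.mp hw).2 n hn, mul_inv_cancel_right]
  -- `|Z(S)| = p`
  have hZcard : Nat.card (ZS S) = p := by
    have h1 := Subgroup.relIndex_mul_relIndex ⊥ (ZS S) P bot_le hZP
    have h2 : (ZS S).relIndex P = p := by
      rw [← hPA, inf_comm, Subgroup.inf_relIndex_right]
      exact C.relIndex_of_not_le hPS hxP hxA
    rw [Subgroup.relIndex_bot_left, Subgroup.relIndex_bot_left, h2, hPcard, sq] at h1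
    exact Nat.eq_of_mul_eq_mul_right hpp.pos h1
  obtain ⟨ℓ, hℓZ, hℓ1⟩ : ∃ ℓ ∈ ZS S, ℓ ≠ 1 := by
    by_contra hcon
    push Not at hcon
    have h1 : ZS S = ⊥ := (Subgroup.eq_bot_iff_forall _).mpr hcon
    rw [h1, Subgroup.card_bot] at hZcard
    exact hpp.one_lt.ne hZcard
  have hZeq : ZS S = Subgroup.zpowers ℓ := eq_zpowers_of_card_prime (ZS S) hZcard hℓZ hℓ1
  have hℓP : ℓ ∈ P := hZP hℓZ
  have hℓA : ℓ ∈ A := C.ZS_le_A hℓZ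
  have hℓp : ℓ ^ p = 1 := hPexp ℓ hℓP
  -- hypotheses of the extension theorem
  have hWinv : ∀ α ∈ F.autGroup P, ∀ w : P, (w : Ω) ∈ (⊥ : Subgroup Ω) →
      ((α w : P) : Ω) ∈ (⊥ : Subgroup Ω) := by
    intro α _ w hw
    rw [Subgroup.mem_bot] at hw ⊢
    have h1 : w = 1 := Subtype.ext hw
    rw [h1, map_one]; rfl
  have hWc : ∀ n ∈ S, n ∈ Subgroup.normalizer (P : Set Ω) → ∀ w ∈ (⊥ : Subgroup Ω),
      n * w * n⁻¹ = w := by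
    intro n _ _ w hw
    rw [Subgroup.mem_bot] at hw
    rw [hw, mul_one, mul_inv_cancel]
  have hc : ∀ a ∈ P, ∀ b ∈ P, (a * b)⁻¹ * (b * a) ∈ (⊥ : Subgroup Ω) := by
    intro a ha b hb
    rw [Subgroup.mem_bot, hcommP b hb a ha, inv_mul_cancel]
  have hexp : ∀ a ∈ P, a ^ p ∈ (⊥ : Subgroup Ω) := by
    intro a ha
    rw [Subgroup.mem_bot]; exact hPexp a ha
  have hidx : (⊥ : Subgroup Ω).relIndex P = p ^ 2 := by
    rw [Subgroup.relIndex_bot_left]; exact hPcard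
  have hℓW : ℓ ∉ (⊥ : Subgroup Ω) := by rw [Subgroup.mem_bot]; exact hℓ1
  have hmW : ∀ k : ℕ, (ℓ ^ k)⁻¹ * x' ∉ (⊥ : Subgroup Ω) := by
    intro k hk
    rw [Subgroup.mem_bot] at hk
    apply hxA
    have h1 : x' = ℓ ^ k := by
      calc x' = ℓ ^ k * ((ℓ ^ k)⁻¹ * x') := by group
        _ = ℓ ^ k := by rw [hk, mul_one]
    rw [h1]
    exact A.pow_mem hℓA k
  have hgen : ∀ g ∈ P, ∃ i k : ℤ, (x' ^ i * ℓ ^ k)⁻¹ * g ∈ (⊥ : Subgroup Ω) := by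
    intro g hg
    obtain ⟨i, a, haA, haP, rfl⟩ := C.exists_decomp_in hPS hxP hxA hg
    have haZ : a ∈ ZS S := by rw [← hPA]; exact ⟨haP, haA⟩
    rw [hZeq] at haZ
    obtain ⟨k, rfl⟩ := Subgroup.mem_zpowers_iff.mp haZ
    refine ⟨i, k, ?_⟩
    rw [Subgroup.mem_bot, inv_mul_cancel]
  have hnℓ : ∀ n ∈ S, n ∈ Subgroup.normalizer (P : Set Ω) →
      ℓ⁻¹ * (n * ℓ * n⁻¹) ∈ (⊥ : Subgroup Ω) := by
    intro n hn _
    rw [Subgroup.mem_bot, hZcen n hn ℓ hℓZ, inv_mul_cancel]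
  have hnm : ∀ n ∈ S, n ∈ Subgroup.normalizer (P : Set Ω) →
      ∃ t : ℕ, (x' * ℓ ^ t)⁻¹ * (n * x' * n⁻¹) ∈ (⊥ : Subgroup Ω) := by
    intro n hn hnN
    have h1 : x'⁻¹ * (n * x' * n⁻¹) ∈ ZS S := by
      rw [← hPA]
      refine ⟨P.mul_mem (P.inv_mem hxP) ((Subgroup.mem_normalizer_iff.mp hnN x').mp hxP), ?_⟩
      exact ctx_comm_mem C hxS hn
    rw [hZeq] at h1
    obtain ⟨t', ht'⟩ := Subgroup.mem_zpowers_iff.mp h1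
    obtain ⟨t, ht⟩ := exists_pow_eq_zpow hpp.pos hℓp t'
    refine ⟨t, ?_⟩
    have h4 : (x' * ℓ ^ t)⁻¹ * (n * x' * n⁻¹) = (ℓ ^ t)⁻¹ * (x'⁻¹ * (n * x' * n⁻¹)) := by group
    rw [Subgroup.mem_bot, h4, ← ht', ht, inv_mul_cancel]
  obtain ⟨δ, hδΓ, hδm, ψ, hψF, hψ⟩ := ess_diag_extend hS F hF hp2 hP ⊥ hWinv hWc hc hexp hidx
    hNidx hℓP hxP hℓW hmW hgen hnℓ hnm
  refine ⟨ψ, hψF, ?_, fun hxN => ?_⟩
  · ext v
    constructor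
    · rintro ⟨w, hw, rfl⟩
      have hwP : (w : Ω) ∈ P := hw
      have h1 := hψ w hwP w.2
      rw [show (⟨(w : Ω), w.2⟩ : normalizerIn S P) = w from rfl] at h1
      rw [h1]
      exact (δ _).2
    · intro hv
      have hN : ((δ⁻¹ ⟨v, hv⟩ : P) : Ω) ∈ normalizerIn S P :=
        ⟨hPS (δ⁻¹ ⟨v, hv⟩).2, Subgroup.le_normalizer (δ⁻¹ ⟨v, hv⟩).2⟩
      refine ⟨⟨((δ⁻¹ ⟨v, hv⟩ : P) : Ω), hN⟩, (δ⁻¹ ⟨v, hv⟩).2, ?_⟩
      rw [hψ _ (δ⁻¹ ⟨v, hv⟩).2 hN]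
      rw [show (⟨((δ⁻¹ ⟨v, hv⟩ : P) : Ω), (δ⁻¹ ⟨v, hv⟩).2⟩ : P) = δ⁻¹ ⟨v, hv⟩ from rfl,
        MulAut.apply_inv_self]
  · rw [hψ x' hxP hxN]
    rw [Subgroup.mem_bot] at hδm
    calc ((δ ⟨x', hxP⟩ : P) : Ω) = x' ^ 2 * ((x' ^ 2)⁻¹ * ((δ ⟨x', hxP⟩ : P) : Ω)) := by group
      _ = x' ^ 2 := by rw [hδm, mul_one]

end Cfsg.Agent.H9RK2
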