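import Mathlib
import Cfsg.Prelude
import Cfsg.Agent.Lib.Helper9.RK2d
import Cfsg.Agent.Lib.Helper9.RK2e
import Cfsg.Agent.Lib.Helper9.RK2g
import Cfsg.Agent.Lib.Helper9.ZW3
import Cfsg.Agent.Lib.Helper9.FusionCentric
import Cfsg.Agent.Lib.Helper9.FusionNormMap
import Cfsg.Agent.S5187

set_option autoImplicit false

/-!
# Groups of type (c) have no essential subgroups (`p ≥ 5`)
-/

namespace Cfsg.Agent.H9RK2

open Cfsg Cfsg.FusionSystem Cfsg.Agent.Lib.Helper9 Cfsg.Agent.Lib.Helper9.H9AbIdx Cfsg.Agent.H9CS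

universe u

variable {Ω : Type u} [Group Ω] {S : Subgroup Ω} [Finite S] {p : ℕ} [hp : Fact p.Prime]

/-- a subgroup of index `p` in a `p`-group is normal -/
theorem le_normalizer_of_relIndex_prime (hS : IsPGroup p S) {K : Subgroup Ω} (hKS : K ≤ S)
    (hidx : K.relIndex S = p) : S ≤ Subgroup.normalizer (K : Set Ω) := by
  obtain ⟨n, hn⟩ := IsPGroup.iff_card.mp hS
  have hdvd : p ∣ Nat.card S := by
    have := Subgroup.relIndex_dvd_card K S
    rw [hidx] at this; exact this
  have hn0 : n ≠ 0 := by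
    rintro rfl
    rw [pow_zero] at hn
    rw [hn] at hdvd
    exact hp.out.one_lt.ne' (Nat.dvd_one.mp hdvd)
  have hN : (K.subgroupOf S).Normal := by
    apply Subgroup.normal_of_index_eq_minFac_card
    rw [hn, Nat.Prime.pow_minFac hp.out hn0]
    exact hidx
  exact (Subgroup.normal_subgroupOf_iff_le_normalizer hKS).mp hN

/-- the case of an essential subgroup inside `A` -/
theorem TC.not_ess_A {n s : ℕ} {x y z : Ω} (T : TC p n s S x y z) (hp5 : 5 ≤ p)
    (F : FusionSystem S) (hF : F.IsSaturated p) : ¬ F.IsEssential p (TCA y z) := by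
  intro hA
  have C := T.ctx
  have hpp := hp.out
  haveI : Finite (TCA y z) := fs_finite_of_le T.A_le
  have hab : IsMulCommutative ↥(TCA y z) :=
    ⟨⟨fun a b => Subtype.ext (T.A_comm a a.2 b b.2)⟩⟩
  have hrk : (frattini ↥(TCA y z)).index ≤ p ^ 2 :=
    frattini_index_le_of_closure_pair (TCA y z) (C.hS.to_le T.A_le) y z rfl
  rcases Cfsg.Agent.S5187.result p C.hS F hF (TCA y z) hA hab hrk with ⟨-, h2⟩ | ⟨h3, -⟩
  · rw [T.card_A] at h2
    have h4 : p ^ (n - 2) * p = p ^ ((n - 2) + 1) := (pow_succ p (n - 2)).symm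
    rw [h4] at h2
    have h5 := Nat.pow_right_injective hpp.two_le h2
    have := T.hn
    omega
  · omega

/-- the case of a nonabelian essential subgroup -/
theorem TC.not_ess_nonab {n s : ℕ} {x y z : Ω} (T : TC p n s S x y z) (hp5 : 5 ≤ p)
    (F : FusionSystem S) (hF : F.IsSaturated p) {P : Subgroup Ω} (hP : F.IsEssential p P)
    {x' : Ω} (hxP : x' ∈ P) (hxA : x' ∉ TCA y z) {g₁ : Ω} (hg₁ : g₁ ∈ P)
    (hne : g₁ * x' ≠ x' * g₁) : False := by
  have C := T.ctx
  have hpp := hp.out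
  have hp2 : p ≠ 2 := by omega
  have hPS := ess_le F hP
  obtain ⟨hZ2A, hPeq, hPA, hZ2idx, hNidx⟩ := ess_nonabelian_case C C.hS F hF hP hxP hxA hg₁ hne
  have hZ2P : Z2 S ≤ P := by rw [← hPA]; exact inf_le_left
  have c1 : Nat.card (Z2 S) = p ^ (n - 3) * p := by
    have h1 := Subgroup.relIndex_mul_relIndex ⊥ (ZS S) (Z2 S) bot_le (ZS_le_Z2 S)
    rw [Subgroup.relIndex_bot_left, Subgroup.relIndex_bot_left, hZ2idx, T.card_ZS] at h1
    exact h1.symm
  have c2 : Nat.card P = p ^ (n - 3) * p * p := by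
    have h1 := Subgroup.relIndex_mul_relIndex ⊥ (Z2 S) P bot_le hZ2P
    have h2 : (Z2 S).relIndex P = p := by
      rw [← hPA, inf_comm, Subgroup.inf_relIndex_right]
      exact C.relIndex_of_not_le hPS hxP hxA
    rw [Subgroup.relIndex_bot_left, Subgroup.relIndex_bot_left, h2, c1] at h1
    exact h1.symm
  have hPN : P ≤ normalizerIn S P := fun g hg => ⟨hPS hg, Subgroup.le_normalizer hg⟩
  have c3 : Nat.card (normalizerIn S P) = p ^ (n - 3) * p * p * p := by
    have h1 := Subgroup.relIndex_mul_relIndex ⊥ P (normalizerIn S P) bot_le hPN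
    rw [Subgroup.relIndex_bot_left, Subgroup.relIndex_bot_left, hNidx, c2] at h1
    exact h1.symm
  have hNS : normalizerIn S P = S := by
    apply Subgroup.eq_of_le_of_card_ge (fs_normalizerIn_le S P)
    rw [c3, T.hcard]
    have h1 : n = (n - 3) + 1 + 1 + 1 := by have := T.hn; omega
    conv_lhs => rw [h1]
    rw [pow_succ, pow_succ, pow_succ]
  obtain ⟨β, -, hβ⟩ := nonab_ess_aut C C.hS F hF hp2 hP hxP hxA hg₁ hne hNS
  exact T.aut_sq hp5 β ⟨x', hPS hxP⟩ hxA hβ

set_option maxHeartbeats 1600000 in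
/-- the case of an abelian essential subgroup not inside `A` -/
theorem TC.not_ess_ab {n s : ℕ} {x y z : Ω} (T : TC p n s S x y z) (hp5 : 5 ≤ p)
    (F : FusionSystem S) (hF : F.IsSaturated p) {P : Subgroup Ω} (hP : F.IsEssential p P)
    {x' : Ω} (hxP : x' ∈ P) (hxA : x' ∉ TCA y z) (hab : ∀ g ∈ P, g * x' = x' * g) : False := by
  have C := T.ctx
  have hpp := hp.out
  have hp2 : p ≠ 2 := by omega
  have hPS := ess_le F hP
  have hxS := hPS hxP
  haveI : Finite P := fs_finite_of_le hPS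
  obtain ⟨hPeq, hPA, hNidx, -⟩ := ess_abelian_case C C.hS F hF hP hxP hxA hab
  have hcommP : ∀ a ∈ P, ∀ b ∈ P, a * b = b * a := fun a ha b hb =>
    C.comm_of_comm hxS hxA (hPS ha) (hPS hb) (hab a ha) (hab b hb)
  have hPcl : P = Subgroup.closure ({z ^ p, x'} : Set Ω) := by
    rw [hPeq, T.ZS_eq, Subgroup.zpowers_eq_closure, Subgroup.zpowers_eq_closure,
      ← Subgroup.closure_union]
    rfl
  have habP : IsMulCommutative ↥P := ⟨⟨fun a b => Subtype.ext (hcommP a a.2 b b.2)⟩⟩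
  have hrk : (frattini ↥P).index ≤ p ^ 2 :=
    frattini_index_le_of_closure_pair P (C.hS.to_le hPS) (z ^ p) x' hPcl
  have hZP : ZS S ≤ P := by rw [← hPA]; exact inf_le_left
  rcases Cfsg.Agent.S5187.result p C.hS F hF P hP habP hrk with ⟨hel, hPcard⟩ | ⟨h3, -⟩
  swap
  · omega
  have hPexp : ∀ g ∈ P, g ^ p = 1 := hel.2
  -- `n = 4`
  have hZcard : Nat.card (ZS S) = p := by
    have h1 := Subgroup.relIndex_mul_relIndex ⊥ (ZS S) P bot_le hZP
    have h2 : (ZS S).relIndex P = p := by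
      rw [← hPA, inf_comm, Subgroup.inf_relIndex_right]
      exact C.relIndex_of_not_le hPS hxP hxA
    rw [Subgroup.relIndex_bot_left, Subgroup.relIndex_bot_left, h2, hPcard, sq] at h1
    exact Nat.eq_of_mul_eq_mul_right hpp.pos h1
  have hn4 : n = 4 := by
    have h1 := T.card_ZS
    rw [hZcard] at h1
    have h2 : p ^ 1 = p ^ (n - 3) := by rw [pow_one]; exact h1
    have h3 := Nat.pow_right_injective hpp.two_le h2
    have := T.hn
    omega
  have hScard : Nat.card S = p ^ 4 := by rw [T.hcard, hn4]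
  -- the extension to `N_S(P)`
  obtain ⟨ψ, hψF, hmap, hψx⟩ := ab_ess_ext C C.hS F hF hp2 hP hxP hxA hab hPexp hPcard
  have hP₁S : (normalizerIn S P) ≤ S := fs_normalizerIn_le S P
  have hPP₁ : P ≤ (normalizerIn S P) := fun g hg => ⟨hPS hg, Subgroup.le_normalizer hg⟩
  have hP₁N : (normalizerIn S P) ≤ Subgroup.normalizer (P : Set Ω) := inf_le_right
  have hP₁card : Nat.card (normalizerIn S P) = p ^ 3 := by
    have h1 := Subgroup.relIndex_mul_relIndex ⊥ P (normalizerIn S P) bot_le hPP₁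
    rw [Subgroup.relIndex_bot_left, Subgroup.relIndex_bot_left, hNidx, hPcard] at h1
    rw [← h1]; ring
  have hP₁idx : (normalizerIn S P).relIndex S = p := by
    have h1 := Subgroup.relIndex_mul_relIndex ⊥ (normalizerIn S P) S bot_le hP₁S
    rw [Subgroup.relIndex_bot_left, Subgroup.relIndex_bot_left, hP₁card, hScard] at h1
    have h2 : p ^ 3 * (normalizerIn S P).relIndex S = p ^ 3 * p := by rw [h1]; ring
    exact Nat.eq_of_mul_eq_mul_left (pos_of_ne_zero (pow_ne_zero _ hpp.ne_zero)) h2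
  have hSN : S ≤ Subgroup.normalizer ((normalizerIn S P) : Set Ω) :=
    le_normalizer_of_relIndex_prime C.hS hP₁S hP₁idx
  have hNS₁ : normalizerIn S (normalizerIn S P) = S := le_antisymm inf_le_left (le_inf le_rfl hSN)
  have hval : ∀ v : (normalizerIn S P), ψ v ∈ (normalizerIn S P) := by
    intro v
    have h1 := fs_map_mem_normalizer ψ hPP₁ hP₁N hmap v
    exact ⟨(F.le_of_mem hψF).2 v, h1⟩
  obtain ⟨δ₁, hδ₁F, hδ₁⟩ := fs_hom_to_aut F hψF hval
  have hRn : F.IsFullyNormalized (normalizerIn S P) := Cfsg.Agent.H9ZW.fullyNormalized_of_le_normalizer F hP₁S hSN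
  have hRlt : (normalizerIn S P) < S := by
    refine lt_of_le_of_ne hP₁S (fun h => ?_)
    rw [h, hScard] at hP₁card
    have := Nat.pow_right_injective hpp.two_le hP₁card
    omega
  have hcen : F.IsCentric (normalizerIn S P) := fs_centric_of_le F hP.1 hPP₁ hP₁S
  have hxP₁ : x' ∈ (normalizerIn S P) := hPP₁ hxP
  have hne : ¬ F.IsEssential p (normalizerIn S P) := by
    intro hE
    obtain ⟨g₁, hg₁, hne'⟩ : ∃ g₁ ∈ (normalizerIn S P), g₁ * x' ≠ x' * g₁ := by
      by_contra hcon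
      push Not at hcon
      have hle : (normalizerIn S P) ≤ P := by
        intro g hg
        rw [hPeq]
        exact C.mem_sup_of_comm hxS hxA (hP₁S hg) (hcon g hg)
      haveI : Finite (normalizerIn S P) := fs_finite_of_le hP₁S
      have h1 := Subgroup.card_le_of_le hle
      rw [hP₁card, hPcard] at h1
      have h2 : p ^ 2 < p ^ 3 := Nat.pow_lt_pow_right hpp.one_lt (by norm_num)
      omega
    exact T.not_ess_nonab hp5 F hF hE hxP₁ hxA hg₁ hne'
  have hmax : ∀ Q : Subgroup Ω, Q ≤ S → Nat.card (normalizerIn S P) < Nat.card Q → Q = S := by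
    intro Q hQS hlt
    have h1 : Nat.card Q ∣ p ^ 4 := by rw [← hScard]; exact Subgroup.card_dvd_of_le hQS
    obtain ⟨k, hk4, hk⟩ := (Nat.dvd_prime_pow hpp).mp h1
    rw [hP₁card, hk] at hlt
    have h2 : 3 < k := (Nat.pow_lt_pow_iff_right hpp.one_lt).mp hlt
    have h3 : k = 4 := by omega
    apply Subgroup.eq_of_le_of_card_ge hQS
    rw [hk, h3, hScard]
  obtain ⟨β, -, hβ⟩ := ext_top p C.hS F hF hRn hRlt hcen hne hmax hδ₁F
  have h1 := hβ x' hxP₁ hxS
  rw [hδ₁, hψx hxP₁] at h1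
  apply T.aut_sq hp5 β ⟨x', hxS⟩ hxA
  rw [← h1, inv_mul_cancel]
  exact Subgroup.one_mem _

/-- **groups of type (c) have no essential subgroups** -/
theorem TC.no_essential {n s : ℕ} {x y z : Ω} (T : TC p n s S x y z) (hp5 : 5 ≤ p)
    (F : FusionSystem S) (hF : F.IsSaturated p) {P : Subgroup Ω} (hP : F.IsEssential p P) :
    False := by
  have C := T.ctx
  by_cases hle : P ≤ TCA y z
  · have h1 := ess_eq_of_le C F hP hle
    exact T.not_ess_A hp5 F hF (h1 ▸ hP)
  · obtain ⟨x', hxP, hxA⟩ := SetLike.not_le_iff_exists.mp hle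
    by_cases hab : ∀ g ∈ P, g * x' = x' * g
    · exact T.not_ess_ab hp5 F hF hP hxP hxA hab
    · push Not at hab
      obtain ⟨g₁, hg₁, hne⟩ := hab
      exact T.not_ess_nonab hp5 F hF hP hxP hxA hg₁ hne

end Cfsg.Agent.H9RK2
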