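import Mathlib
import Cfsg.Prelude
import Cfsg.Agent.Lib.Helper9.RK2e
import Cfsg.Agent.Lib.Lead.ClassTwo
import Cfsg.Agent.S5187

set_option autoImplicit false

/-!
# The rank two groups of type (b)
-/

namespace Cfsg.Agent.H9RK2

open Cfsg Cfsg.FusionSystem Cfsg.Agent.Lib.Helper9 Cfsg.Agent.Lib.Helper9.H9AbIdx

open scoped commutatorElement

universe u

variable {Ω : Type u} [Group Ω]

/-- type (b) data -/
structure TB (p n : ℕ) (S : Subgroup Ω) (x y z : Ω) : Prop where
  hn : 3 ≤ n
  hcard : Nat.card S = p ^ n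
  hgen : Subgroup.closure ({x, y, z} : Set Ω) = S
  hx : x ^ p = 1
  hy : y ^ p = 1
  hz : z ^ p ^ (n - 2) = 1
  hxz : x * z = z * x
  hyz : y * z = z * y
  hxy : x⁻¹ * y * x = y * z ^ p ^ (n - 3)

namespace TB

variable {p n : ℕ} [hpp : Fact p.Prime] {S : Subgroup Ω} {x y z : Ω}

theorem xS (T : TB p n S x y z) : x ∈ S := by
  rw [← T.hgen]; exact Subgroup.subset_closure (by simp)

theorem yS (T : TB p n S x y z) : y ∈ S := by
  rw [← T.hgen]; exact Subgroup.subset_closure (by simp)

theorem zS (T : TB p n S x y z) : z ∈ S := by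
  rw [← T.hgen]; exact Subgroup.subset_closure (by simp)

theorem z_central (T : TB p n S x y z) : z ∈ ZS S := by
  rw [mem_ZS_iff]
  refine ⟨T.zS, ?_⟩
  have hle : S ≤ Subgroup.centralizer ({z} : Set Ω) := by
    rw [← T.hgen, Subgroup.closure_le]
    intro g hg
    have hg' : g = x ∨ g = y ∨ g = z := by simpa using hg
    show g ∈ Subgroup.centralizer ({z} : Set Ω)
    rw [Subgroup.mem_centralizer_iff]
    intro h hh
    rw [Set.mem_singleton_iff] at hh
    rw [hh]
    rcases hg' with h1 | h1 | h1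
    · rw [h1]; exact T.hxz.symm
    · rw [h1]; exact T.hyz.symm
    · rw [h1]
  intro t ht
  have := hle ht
  rw [Subgroup.mem_centralizer_iff] at this
  exact (this z rfl).symm

theorem yB (_T : TB p n S x y z) : y ∈ TCA y z := Subgroup.subset_closure (by simp)

theorem zB (_T : TB p n S x y z) : z ∈ TCA y z := Subgroup.subset_closure (by simp)

theorem B_le (T : TB p n S x y z) : TCA y z ≤ S := by
  rw [TCA, Subgroup.closure_le]
  intro a ha
  have ha' : a = y ∨ a = z := by simpa using ha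
  rcases ha' with h | h
  · rw [h]; exact T.yS
  · rw [h]; exact T.zS

theorem conj_mem (T : TB p n S x y z) {a : Ω} (ha : a ∈ TCA y z) : x⁻¹ * a * x ∈ TCA y z := by
  have h1 : TCA y z ≤ (TCA y z).comap (MulAut.conj x⁻¹).toMonoidHom := by
    rw [TCA, Subgroup.closure_le]
    rintro a ha
    have ha' : a = y ∨ a = z := by simpa using ha
    rcases ha' with ha' | ha'
    · show MulAut.conj x⁻¹ a ∈ TCA y z
      rw [ha', MulAut.conj_apply, inv_inv, T.hxy]
      exact (TCA y z).mul_mem T.yB ((TCA y z).pow_mem T.zB _)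
    · show MulAut.conj x⁻¹ a ∈ TCA y z
      rw [ha', MulAut.conj_apply, inv_inv, mul_assoc, ← T.hxz, ← mul_assoc, inv_mul_cancel, one_mul]
      exact T.zB
  have h2 := h1 ha
  rw [Subgroup.mem_comap] at h2
  have h3 : (MulAut.conj x⁻¹).toMonoidHom a = x⁻¹ * a * x := by
    show MulAut.conj x⁻¹ a = _
    rw [MulAut.conj_apply, inv_inv]
  rwa [h3] at h2

theorem conj_pow_mem (T : TB p n S x y z) (k : ℕ) {a : Ω} (ha : a ∈ TCA y z) :
    (x ^ k)⁻¹ * a * x ^ k ∈ TCA y z := by
  induction k with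
  | zero => simpa using ha
  | succ k ih =>
    have h1 : (x ^ (k + 1))⁻¹ * a * x ^ (k + 1) = x⁻¹ * ((x ^ k)⁻¹ * a * x ^ k) * x := by
      rw [pow_succ]; group
    rw [h1]
    exact T.conj_mem ih

theorem conj_mem' (T : TB p n S x y z) {a : Ω} (ha : a ∈ TCA y z) : x * a * x⁻¹ ∈ TCA y z := by
  have hp : x ^ p = 1 := T.hx
  have hpos : 0 < p := hpp.out.pos
  have h1 := T.conj_pow_mem (p - 1) ha
  have h2 : x ^ (p - 1) = x⁻¹ := by
    have : x ^ (p - 1) * x = 1 := by
      rw [← pow_succ, Nat.sub_add_cancel hpos, hp]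
    exact eq_inv_of_mul_eq_one_left this
  rwa [h2, inv_inv] at h1

theorem x_normalizer (T : TB p n S x y z) : x ∈ Subgroup.normalizer ((TCA y z) : Set Ω) := by
  rw [Subgroup.mem_normalizer_iff]
  intro h
  constructor
  · exact fun hh => T.conj_mem' hh
  · intro hh
    have := T.conj_mem hh
    have h2 : x⁻¹ * (x * h * x⁻¹) * x = h := by group
    rwa [h2] at this

theorem sup_eq (T : TB p n S x y z) : Subgroup.zpowers x ⊔ TCA y z = S := by
  have h1 : Subgroup.zpowers x ⊔ TCA y z = Subgroup.closure ({x, y, z} : Set Ω) := by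
    rw [TCA, Subgroup.zpowers_eq_closure, ← Subgroup.closure_union]
    rfl
  rw [h1, T.hgen]

theorem B_eq_sup (_T : TB p n S x y z) :
    TCA y z = Subgroup.zpowers y ⊔ Subgroup.zpowers z := by
  rw [TCA, Subgroup.zpowers_eq_closure, Subgroup.zpowers_eq_closure, ← Subgroup.closure_union]
  rfl

theorem pow_split (T : TB p n S x y z) : p ^ n = p ^ (n - 2) * p * p := by
  have h := T.hn
  have : n = (n - 2) + 1 + 1 := by omega
  conv_lhs => rw [this]
  rw [pow_succ, pow_succ]

theorem counting [Finite S] (T : TB p n S x y z) :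
    (TCA y z).relIndex S = p ∧ (Subgroup.zpowers z).relIndex (TCA y z) = p ∧
      orderOf z = p ^ (n - 2) := by
  have hpp' := hpp.out
  have hzA : Subgroup.zpowers z ≤ TCA y z := by rw [Subgroup.zpowers_le]; exact T.zB
  have hc : (TCA y z).relIndex S ∣ p := by
    have h := relIndex_sup_zpowers_dvd T.x_normalizer (m := p) (by
      rw [T.hx]; exact (TCA y z).one_mem)
    rwa [T.sup_eq] at h
  have hb : (Subgroup.zpowers z).relIndex (TCA y z) ∣ p := by
    have hyN : y ∈ Subgroup.normalizer ((Subgroup.zpowers z : Subgroup Ω) : Set Ω) := by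
      apply Subgroup.centralizer_le_normalizer
      rw [Subgroup.mem_centralizer_iff]
      intro h hh
      obtain ⟨k, rfl⟩ := Subgroup.mem_zpowers_iff.mp hh
      have h1 : Commute z y := T.hyz.symm
      exact (h1.zpow_left k).eq
    have h := relIndex_sup_zpowers_dvd hyN (m := p) (by rw [T.hy]; exact Subgroup.one_mem _)
    rwa [← T.B_eq_sup] at h
  have ha : orderOf z ∣ p ^ (n - 2) := orderOf_dvd_of_pow_eq_one T.hz
  have hprod : orderOf z * (Subgroup.zpowers z).relIndex (TCA y z) * (TCA y z).relIndex S =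
      p ^ (n - 2) * p * p := by
    rw [← T.pow_split, ← Nat.card_zpowers, ← Subgroup.relIndex_bot_left,
      Subgroup.relIndex_mul_relIndex _ _ _ bot_le hzA,
      Subgroup.relIndex_mul_relIndex _ _ _ bot_le T.B_le, Subgroup.relIndex_bot_left, T.hcard]
  have hppos : 0 < p := hpp'.pos
  have hpow : 0 < p ^ (n - 2) := pos_of_ne_zero (pow_ne_zero _ hpp'.ne_zero)
  have ha' : orderOf z ≤ p ^ (n - 2) := Nat.le_of_dvd hpow ha
  have hb' : (Subgroup.zpowers z).relIndex (TCA y z) ≤ p := Nat.le_of_dvd hppos hb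
  have hc' : (TCA y z).relIndex S ≤ p := Nat.le_of_dvd hppos hc
  have hceq : (TCA y z).relIndex S = p := by
    by_contra hne
    have hlt : (TCA y z).relIndex S < p := lt_of_le_of_ne hc' hne
    have h1 : orderOf z * (Subgroup.zpowers z).relIndex (TCA y z) ≤ p ^ (n - 2) * p :=
      Nat.mul_le_mul ha' hb'
    have h2 : orderOf z * (Subgroup.zpowers z).relIndex (TCA y z) * (TCA y z).relIndex S <
        p ^ (n - 2) * p * p :=
      Nat.mul_lt_mul_of_le_of_lt h1 hlt (by positivity)
    rw [hprod] at h2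
    exact lt_irrefl _ h2
  have hbeq : (Subgroup.zpowers z).relIndex (TCA y z) = p := by
    by_contra hne
    have hlt : (Subgroup.zpowers z).relIndex (TCA y z) < p := lt_of_le_of_ne hb' hne
    have h1 : orderOf z * (Subgroup.zpowers z).relIndex (TCA y z) < p ^ (n - 2) * p :=
      Nat.mul_lt_mul_of_le_of_lt ha' hlt hpow
    have h2 : orderOf z * (Subgroup.zpowers z).relIndex (TCA y z) * (TCA y z).relIndex S <
        p ^ (n - 2) * p * p := by
      rw [hceq]
      exact Nat.mul_lt_mul_of_pos_right h1 hppos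
    rw [hprod] at h2
    exact lt_irrefl _ h2
  refine ⟨hceq, hbeq, ?_⟩
  rw [hceq, hbeq] at hprod
  have h3 := Nat.eq_of_mul_eq_mul_right hppos hprod
  exact Nat.eq_of_mul_eq_mul_right hppos h3

theorem relIndex_K [Finite S] (T : TB p n S x y z) : (Subgroup.zpowers z).relIndex S = p * p := by
  obtain ⟨h1, h2, -⟩ := T.counting
  have hzA : Subgroup.zpowers z ≤ TCA y z := by rw [Subgroup.zpowers_le]; exact T.zB
  rw [← Subgroup.relIndex_mul_relIndex _ _ _ hzA T.B_le, h1, h2]

/-- **groups of type (b) of order at least `p⁴` have no essential subgroups** -/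
theorem no_essential [Finite S] (T : TB p n S x y z) (hn4 : 4 ≤ n) (hp5 : 5 ≤ p)
    (F : FusionSystem S) (hF : F.IsSaturated p) {P : Subgroup Ω} (hP : F.IsEssential p P) :
    False := by
  have hpp' := hpp.out
  have hS : IsPGroup p S := IsPGroup.of_card T.hcard
  have hPS := ess_le F hP
  haveI : Finite P := fs_finite_of_le hPS
  have hzP : z ∈ P := ess_ZS_le F hP T.z_central
  have hKP : Subgroup.zpowers z ≤ P := by rw [Subgroup.zpowers_le]; exact hzP
  have hPne : P ≠ S := ess_ne p hS F hF hP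
  have h1 := Subgroup.relIndex_mul_relIndex (Subgroup.zpowers z) P S hKP hPS
  rw [T.relIndex_K] at h1
  have h2 : P.relIndex S ≠ 1 := fun h => hPne (le_antisymm hPS (Subgroup.relIndex_eq_one.mp h))
  have h3 : (Subgroup.zpowers z).relIndex P = 1 ∨ (Subgroup.zpowers z).relIndex P = p := by
    have hd : (Subgroup.zpowers z).relIndex P ∣ p ^ 2 := by rw [sq]; exact Dvd.intro _ h1
    obtain ⟨k, hk2, hk⟩ := (Nat.dvd_prime_pow hpp').mp hd
    interval_cases k
    · left; simpa using hk
    · right; simpa using hk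
    · exfalso
      rw [hk, sq] at h1
      apply h2
      have h4 : p * p * P.relIndex S = p * p * 1 := by rw [h1, mul_one]
      exact Nat.eq_of_mul_eq_mul_left (Nat.mul_pos hpp'.pos hpp'.pos) h4
  obtain ⟨g, hgP, hPeq⟩ : ∃ g ∈ P, Subgroup.zpowers z ⊔ Subgroup.zpowers g = P := by
    rcases h3 with h | h
    · refine ⟨1, P.one_mem, ?_⟩
      rw [Subgroup.zpowers_one_eq_bot, sup_bot_eq]
      exact le_antisymm hKP (Subgroup.relIndex_eq_one.mp h)
    · obtain ⟨g, hgP, hgK⟩ : ∃ g ∈ P, g ∉ Subgroup.zpowers z := by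
        by_contra hcon
        push Not at hcon
        have h4 : (Subgroup.zpowers z).relIndex P = 1 := Subgroup.relIndex_eq_one.mpr hcon
        rw [h] at h4
        exact hpp'.one_lt.ne' h4
      exact ⟨g, hgP, sup_zpowers_of_prime_relIndex hKP h hgP hgK⟩
  have hPcl : P = Subgroup.closure ({z, g} : Set Ω) := by
    rw [← hPeq, Subgroup.zpowers_eq_closure, Subgroup.zpowers_eq_closure,
      ← Subgroup.closure_union]
    rfl
  have hzg : z * g = g * z := ((mem_ZS_iff.mp T.z_central).2 g (hPS hgP)).symm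
  have hk : ∀ a ∈ ({z, g} : Set Ω), ∀ b ∈ ({z, g} : Set Ω), a * b = b * a := by
    intro a ha b hb
    have ha' : a = z ∨ a = g := by simpa using ha
    have hb' : b = z ∨ b = g := by simpa using hb
    rcases ha' with h | h <;> rcases hb' with h' | h' <;> rw [h, h']
    · exact hzg
    · exact hzg.symm
  have hcl := Subgroup.isMulCommutative_closure hk
  have habP : IsMulCommutative ↥P := by rw [hPcl]; exact hcl
  have hrk : (frattini ↥P).index ≤ p ^ 2 :=
    frattini_index_le_of_closure_pair P (hS.to_le hPS) z g hPcl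
  rcases Cfsg.Agent.S5187.result p hS F hF P hP habP hrk with ⟨hel, -⟩ | ⟨h3, -⟩
  · have h4 : z ^ p = 1 := hel.2 z hzP
    have h5 := orderOf_dvd_of_pow_eq_one h4
    rw [T.counting.2.2] at h5
    have h6 : p ^ (n - 2) ∣ p ^ 1 := by rw [pow_one]; exact h5
    have h7 := (Nat.pow_dvd_pow_iff_le_right hpp'.one_lt).mp h6
    omega
  · omega

omit hpp in
theorem closure_subtype_eq_top {S : Subgroup Ω} {k : Set Ω} (h : Subgroup.closure k = S) :
    Subgroup.closure ((Subtype.val : S → Ω) ⁻¹' k) = ⊤ := by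
  subst h
  exact Subgroup.closure_closure_coe_preimage

set_option maxHeartbeats 800000 in
/-- **groups of type (b) of order `p³` have exponent `p`** -/
theorem exponent_eq [Finite S] (T : TB p n S x y z) (hn3 : n = 3) (hp2 : p ≠ 2) :
    Monoid.exponent ↥S = p := by
  have hpp' := hpp.out
  subst hn3
  have hz : z ^ p = 1 := by
    have := T.hz
    simpa using this
  have hxy : x⁻¹ * y * x = y * z := by
    have := T.hxy
    simpa using this
  -- generators of `↥S`
  have hgen : Subgroup.closure ({⟨x, T.xS⟩, ⟨y, T.yS⟩, ⟨z, T.zS⟩} : Set S) = ⊤ := by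
    have h1 := closure_subtype_eq_top T.hgen
    have h2 : (Subtype.val : S → Ω) ⁻¹' ({x, y, z} : Set Ω) =
        ({⟨x, T.xS⟩, ⟨y, T.yS⟩, ⟨z, T.zS⟩} : Set S) := by
      ext g
      simp only [Set.mem_preimage, Set.mem_insert_iff, Set.mem_singleton_iff, Subtype.ext_iff]
    rw [← h2]; exact h1
  have hzc : (⟨z, T.zS⟩ : S) ∈ Subgroup.center ↥S := by
    rw [Subgroup.mem_center_iff]
    intro g
    exact Subtype.ext ((mem_ZS_iff.mp T.z_central).2 g g.2)
  -- the quotient by the centre is commutative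
  have hQ : IsMulCommutative (↥S ⧸ Subgroup.center ↥S) := by
    obtain ⟨π, hπ⟩ : ∃ π : ↥S →* ↥S ⧸ Subgroup.center ↥S,
        π = QuotientGroup.mk' (Subgroup.center ↥S) := ⟨_, rfl⟩
    have hπs : Function.Surjective π := by rw [hπ]; exact QuotientGroup.mk'_surjective _
    have hπz : π ⟨z, T.zS⟩ = 1 := by
      rw [hπ, QuotientGroup.mk'_apply, QuotientGroup.eq_one_iff]; exact hzc
    have hπxy : π ⟨x, T.xS⟩ * π ⟨y, T.yS⟩ = π ⟨y, T.yS⟩ * π ⟨x, T.xS⟩ := by
      have h1 : (⟨y, T.yS⟩ : S) * ⟨x, T.xS⟩ = ⟨x, T.xS⟩ * ⟨y, T.yS⟩ * ⟨z, T.zS⟩ := by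
        apply Subtype.ext
        show y * x = x * y * z
        rw [mul_assoc x, ← hxy]; group
      calc π ⟨x, T.xS⟩ * π ⟨y, T.yS⟩ = π ⟨x, T.xS⟩ * π ⟨y, T.yS⟩ * π ⟨z, T.zS⟩ := by
            rw [hπz, mul_one]
        _ = π (⟨x, T.xS⟩ * ⟨y, T.yS⟩ * ⟨z, T.zS⟩) := by rw [map_mul, map_mul]
        _ = π (⟨y, T.yS⟩ * ⟨x, T.xS⟩) := by rw [h1]
        _ = π ⟨y, T.yS⟩ * π ⟨x, T.xS⟩ := map_mul _ _ _
    have htop : Subgroup.closure ({π ⟨x, T.xS⟩, π ⟨y, T.yS⟩, π ⟨z, T.zS⟩} :
        Set (↥S ⧸ Subgroup.center ↥S)) = ⊤ := by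
      have h1 := congrArg (Subgroup.map π) hgen
      rw [MonoidHom.map_closure, ← MonoidHom.range_eq_map,
        MonoidHom.range_eq_top.mpr hπs] at h1
      rw [← h1]
      congr 1
      ext q
      simp only [Set.mem_image, Set.mem_insert_iff, Set.mem_singleton_iff]
      constructor
      · rintro (h | h | h)
        · exact ⟨_, Or.inl rfl, h.symm⟩
        · exact ⟨_, Or.inr (Or.inl rfl), h.symm⟩
        · exact ⟨_, Or.inr (Or.inr rfl), h.symm⟩
      · rintro ⟨g, (h | h | h), rfl⟩
        · left; rw [h]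
        · right; left; rw [h]
        · right; right; rw [h]
    have hk : ∀ a ∈ ({π ⟨x, T.xS⟩, π ⟨y, T.yS⟩, π ⟨z, T.zS⟩} : Set (↥S ⧸ Subgroup.center ↥S)),
        ∀ b ∈ ({π ⟨x, T.xS⟩, π ⟨y, T.yS⟩, π ⟨z, T.zS⟩} : Set (↥S ⧸ Subgroup.center ↥S)),
        a * b = b * a := by
      intro a ha b hb
      simp only [Set.mem_insert_iff, Set.mem_singleton_iff] at ha hb
      rcases ha with h | h | h <;> rcases hb with h' | h' | h' <;> rw [h, h']
      · exact hπxy
      · rw [hπz, mul_one, one_mul]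
      · exact hπxy.symm
      · rw [hπz, mul_one, one_mul]
      · rw [hπz, mul_one, one_mul]
      · rw [hπz, mul_one, one_mul]
    have hcl := Subgroup.isMulCommutative_closure hk
    rw [htop] at hcl
    exact ⟨⟨fun a b => by
      have := setLike_mul_comm (s := (⊤ : Subgroup (↥S ⧸ Subgroup.center ↥S)))
        (Subgroup.mem_top a) (Subgroup.mem_top b)
      exact this⟩⟩
  have hcomle := Subgroup.Normal.quotient_commutative_iff_commutator_le.mp hQ
  have hc : ∀ a b : S, ⁅a, b⁆ ∈ Subgroup.center ↥S := by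
    intro a b
    apply hcomle
    rw [commutator_def]
    exact Subgroup.commutator_mem_commutator (Subgroup.mem_top _) (Subgroup.mem_top _)
  -- the elements of order dividing `p` form a subgroup
  let E : Subgroup S :=
    { carrier := {g | g ^ p = 1}
      one_mem' := one_pow p
      mul_mem' := fun {a b} ha hb =>
        Cfsg.Agent.Lib.Lead.mul_pow_eq_one_of_class_two hp2 hc a b ha hb
      inv_mem' := fun {a} ha => by
        show a⁻¹ ^ p = 1
        rw [inv_pow, ha, inv_one] }
  have hE : E = ⊤ := by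
    rw [eq_top_iff, ← hgen, Subgroup.closure_le]
    intro g hg
    simp only [Set.mem_insert_iff, Set.mem_singleton_iff] at hg
    show g ^ p = 1
    rcases hg with h | h | h <;> rw [h] <;> apply Subtype.ext
    · exact T.hx
    · exact T.hy
    · exact hz
  have hall : ∀ g : S, g ^ p = 1 := by
    intro g
    have : g ∈ E := by rw [hE]; exact Subgroup.mem_top g
    exact this
  have hdvd : Monoid.exponent ↥S ∣ p := Monoid.exponent_dvd_of_forall_pow_eq_one hall
  rcases (Nat.dvd_prime hpp').mp hdvd with h | h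
  · exfalso
    rw [Monoid.exp_eq_one_iff] at h
    have h1 : Nat.card S = 1 := Nat.card_eq_one_iff_unique.mpr ⟨h, ⟨1⟩⟩
    rw [T.hcard] at h1
    have h2 : 1 < p ^ 3 := Nat.one_lt_pow (by norm_num) hpp'.one_lt
    omega
  · exact h

end TB

end Cfsg.Agent.H9RK2
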