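import Mathlib
import Cfsg.Prelude
import Cfsg.Agent.Lib.Helper8.RS3

set_option autoImplicit false

/-!
# Rank one groups with a faithful quadratic ring representation: the unipotent subgroups are
torsion-free or of prime exponent
-/

namespace Cfsg.Agent.H9RQ

open Cfsg.Agent.Lib.Helper8

variable {X : Type*} [Group X] {A B : Subgroup X} {R : Type*} [Ring R] (ρ : X →* R)

theorem rho_injective (hinj : ∀ x, ρ x = 1 → x = 1) {x y : X} (h : ρ x = ρ y) : x = y := by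
  have h1 : ρ (x * y⁻¹) = 1 := by rw [map_mul, h, rho_mul_inv]
  have := hinj _ h1
  exact mul_inv_eq_one.mp this

theorem rho_pow_sub_one {a : X} (ha : (ρ a - 1) * (ρ a - 1) = 0) (n : ℕ) :
    ρ (a ^ n) - 1 = n • (ρ a - 1) := by
  induction n with
  | zero => rw [pow_zero, map_one, sub_self, zero_smul]
  | succ k ih =>
    have e : ρ (a ^ (k + 1)) - 1 = (ρ (a ^ k) - 1) * (ρ a - 1) + (ρ (a ^ k) - 1) + (ρ a - 1) := by
      rw [pow_succ, map_mul]; noncomm_ring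
    rw [e, ih, smul_mul_assoc, ha, smul_zero, zero_add, succ_nsmul]

/-- elements `1 + α`, `1 + β` with `α β = β α = 0` commute -/
theorem comm_of_mul_zero (hinj : ∀ x, ρ x = 1 → x = 1) {x y : X}
    (h1 : (ρ x - 1) * (ρ y - 1) = 0) (h2 : (ρ y - 1) * (ρ x - 1) = 0) : x * y = y * x := by
  apply rho_injective ρ hinj
  rw [map_mul, map_mul]
  have e1 : ρ x * ρ y = (ρ x - 1) * (ρ y - 1) + ρ x + ρ y - 1 := by noncomm_ring
  have e2 : ρ y * ρ x = (ρ y - 1) * (ρ x - 1) + ρ x + ρ y - 1 := by noncomm_ring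
  rw [e1, e2, h1, h2]

/-- the elements acting trivially modulo `p` -/
def modKer (p : ℕ) : Subgroup X where
  carrier := {x | p • (ρ x - 1) = 0}
  mul_mem' := by
    intro x y hx hy
    show p • (ρ (x * y) - 1) = 0
    have e : ρ (x * y) - 1 = (ρ x - 1) * ρ y + (ρ y - 1) := by rw [map_mul]; noncomm_ring
    rw [e, smul_add, ← smul_mul_assoc, show p • (ρ x - 1) = 0 from hx,
      show p • (ρ y - 1) = 0 from hy, zero_mul, add_zero]
  one_mem' := by
    show p • (ρ 1 - 1) = 0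
    rw [map_one, sub_self, smul_zero]
  inv_mem' := by
    intro x hx
    show p • (ρ x⁻¹ - 1) = 0
    have e : ρ x⁻¹ - 1 = -((ρ x - 1) * ρ x⁻¹) := by
      have : (ρ x - 1) * ρ x⁻¹ = ρ x * ρ x⁻¹ - ρ x⁻¹ := by noncomm_ring
      rw [this, rho_mul_inv]
      noncomm_ring
    rw [e, smul_neg, ← smul_mul_assoc, show p • (ρ x - 1) = 0 from hx, zero_mul, neg_zero]

theorem mem_modKer {p : ℕ} {x : X} : x ∈ modKer ρ p ↔ p • (ρ x - 1) = 0 := Iff.rfl

theorem modKer_normal (p : ℕ) : (modKer ρ p).Normal := by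
  refine ⟨fun x hx g => ?_⟩
  rw [mem_modKer] at hx ⊢
  rw [rho_conj_sub_one]
  calc p • (ρ g * (ρ x - 1) * ρ g⁻¹) = ρ g * (p • (ρ x - 1)) * ρ g⁻¹ := by
        rw [mul_smul_comm, smul_mul_assoc]
    _ = 0 := by rw [hx, mul_zero, zero_mul]

theorem inf_center_eq_bot (h : Cfsg.IsRankOneGroup X A B) : A ⊓ Subgroup.center X = ⊥ := by
  rw [eq_bot_iff, ← rankOnePair_inf_normalizer h.2]
  apply inf_le_inf_left
  intro z hz
  rw [Subgroup.mem_normalizer_iff]
  intro b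
  rw [Subgroup.mem_center_iff] at hz
  rw [← hz b, mul_inv_cancel_right]

theorem exists_not_quadratic (hinj : ∀ x, ρ x = 1 → x = 1) (h : Cfsg.IsRankOneGroup X A B) :
    ∃ x y : X, (ρ y - 1) * (ρ x - 1) ≠ 0 := by
  by_contra hcon
  push Not at hcon
  apply rankOneGroup_center_ne_top h
  rw [eq_top_iff]
  intro z _
  rw [Subgroup.mem_center_iff]
  intro g
  exact comm_of_mul_zero ρ hinj (hcon z g) (hcon g z)

theorem torsion_dichotomy (hinj : ∀ x, ρ x = 1 → x = 1) (h : Cfsg.IsRankOneGroup X A B)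
    (hq : ∀ a ∈ A, ∀ a' ∈ A, (ρ a' - 1) * (ρ a - 1) = 0) :
    (∀ a ∈ A, a ≠ 1 → ¬ IsOfFinOrder a) ∨ ∃ p : ℕ, p.Prime ∧ Cfsg.IsElementaryAbelian p A := by
  by_cases htf : ∀ a ∈ A, a ≠ 1 → ¬ IsOfFinOrder a
  · exact Or.inl htf
  right
  push Not at htf
  obtain ⟨a₁, ha₁, ha₁1, hfin⟩ := htf
  have hAcomm : ∀ a ∈ A, ∀ a' ∈ A, a * a' = a' * a := fun a ha a' ha' =>
    comm_of_mul_zero ρ hinj (hq a' ha' a ha) (hq a ha a' ha')
  have hn0 : orderOf a₁ ≠ 0 := (orderOf_pos_iff.mpr hfin).ne'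
  have hn1 : orderOf a₁ ≠ 1 := fun h1 => ha₁1 (orderOf_eq_one_iff.mp h1)
  obtain ⟨p, hp⟩ : ∃ p, p = (orderOf a₁).minFac := ⟨_, rfl⟩
  have hpp : p.Prime := by rw [hp]; exact Nat.minFac_prime hn1
  have hpd : p ∣ orderOf a₁ := by rw [hp]; exact Nat.minFac_dvd _
  obtain ⟨a₀, ha₀d⟩ : ∃ a₀, a₀ = a₁ ^ (orderOf a₁ / p) := ⟨_, rfl⟩
  have ha₀ : a₀ ∈ A := by rw [ha₀d]; exact A.pow_mem ha₁ _
  have hord : orderOf a₀ = p := by rw [ha₀d]; exact orderOf_pow_orderOf_div hn0 hpd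
  have ha₀1 : a₀ ≠ 1 := by
    intro h1
    rw [h1, orderOf_one] at hord
    exact hpp.one_lt.ne hord
  have ha₀p : a₀ ^ p = 1 := by rw [← hord]; exact pow_orderOf_eq_one a₀
  have hK : a₀ ∈ modKer ρ p := by
    rw [mem_modKer, ← rho_pow_sub_one ρ (hq a₀ ha₀ a₀ ha₀), ha₀p, map_one, sub_self]
  have hcentA : ∀ z ∈ A, z ∈ Subgroup.center X → z = 1 := by
    intro z hz hzc
    have : z ∈ A ⊓ Subgroup.center X := ⟨hz, hzc⟩
    rwa [inf_center_eq_bot h, Subgroup.mem_bot] at this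
  have hKA : modKer ρ p ⊔ A = ⊤ := by
    rcases rankOneGroup_normal_dichotomy h (modKer ρ p) (modKer_normal ρ p) with h1 | h1
    · exact h1
    · exact absurd (hcentA a₀ ha₀ (h1 hK)) ha₀1
  have := modKer_normal ρ p
  -- modulo `p` every element acts like an element of `A`
  have key : ∀ x : X, ∃ a ∈ A, p • (ρ x - 1) = p • (ρ a - 1) := by
    intro x
    have hx : x ∈ modKer ρ p ⊔ A := by rw [hKA]; exact Subgroup.mem_top x
    obtain ⟨k, hk, a, ha, rfl⟩ := Subgroup.mem_sup_of_normal_left.mp hx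
    refine ⟨a, ha, ?_⟩
    have e : ρ (k * a) - 1 = (ρ k - 1) * ρ a + (ρ a - 1) := by rw [map_mul]; noncomm_ring
    rw [e, smul_add, ← smul_mul_assoc, (mem_modKer ρ).mp hk, zero_mul, zero_add]
  have hquad : ∀ x y : X, p • ((ρ x - 1) * (ρ y - 1)) = 0 := by
    intro x y
    obtain ⟨a, ha, hxa⟩ := key x
    obtain ⟨a', ha', hya⟩ := key y
    calc p • ((ρ x - 1) * (ρ y - 1)) = (p • (ρ x - 1)) * (ρ y - 1) := by rw [smul_mul_assoc]
      _ = (ρ a - 1) * (p • (ρ y - 1)) := by rw [hxa, smul_mul_assoc, mul_smul_comm]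
      _ = p • ((ρ a - 1) * (ρ a' - 1)) := by rw [hya, mul_smul_comm]
      _ = 0 := by rw [hq a' ha' a ha, smul_zero]
  have hBq := quadratic_of_mem_unipotentSubgroups ρ hq
    (rankOnePair_right_mem_unipotentSubgroups h.2)
  have hspecial := special_of_ringHom ρ h hq (exists_not_quadratic ρ hinj h)
  refine ⟨p, hpp, ⟨⟨fun a a' => Subtype.ext (hAcomm a a.2 a' a'.2)⟩⟩, ?_⟩
  intro a ha
  by_cases ha1 : a = 1
  · rw [ha1, one_pow]
  obtain ⟨b, hb, hb1, hab⟩ := h.2.cond_left a ha ha1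
  have hrel := hspecial.2 a ha ha1 b hb hb1 hab
  have haa := hq a ha a ha
  have hbb := hBq b hb b hb
  obtain ⟨α, hα⟩ : ∃ α, α = ρ a - 1 := ⟨_, rfl⟩
  obtain ⟨β, hβ⟩ : ∃ β, β = ρ b - 1 := ⟨_, rfl⟩
  rw [← hα] at haa
  rw [← hβ] at hbb
  have hρa : ρ a = 1 + α := by rw [hα]; noncomm_ring
  have hρb : ρ b = 1 + β := by rw [hβ]; noncomm_ring
  have hρa' : ρ a⁻¹ = 1 - α := by rw [hα]; exact rho_inv_of_sq_zero ρ (hα ▸ haa)
  have hρb' : ρ b⁻¹ = 1 - β := by rw [hβ]; exact rho_inv_of_sq_zero ρ (hβ ▸ hbb)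
  have hsum : α + β = α * β * α + β * α * β := by
    have h1 := congrArg ρ hrel
    rw [map_mul, map_mul, map_mul, map_mul, hρa, hρb, hρa', hρb'] at h1
    have e : α + β - (α * β * α + β * α * β) =
        (1 - β) * (1 + α) * (1 + β) - (1 - α) * (1 - β) * (1 + α) + β * β - α * α := by
      noncomm_ring
    rw [← sub_eq_zero, e, h1, haa, hbb]
    noncomm_ring
  have hpab : p • (α * β) = 0 := by rw [hα, hβ]; exact hquad a b
  have hpba : p • (β * α) = 0 := by rw [hα, hβ]; exact hquad b a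
  have hpsum : p • α = -(p • β) := by
    have e1 : p • (α * β * α) = (p • (α * β)) * α := by rw [smul_mul_assoc]
    have e2 : p • (β * α * β) = (p • (β * α)) * β := by rw [smul_mul_assoc]
    rw [eq_neg_iff_add_eq_zero, ← smul_add, hsum, smul_add, e1, e2,
      hpab, hpba, zero_mul, zero_mul, add_zero]
  -- `a ^ p` is central
  have hpow : ρ (a ^ p) - 1 = p • α := by rw [hα]; exact rho_pow_sub_one ρ (hα ▸ haa) p
  have hcB : ∀ b' ∈ B, a ^ p * b' = b' * a ^ p := by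
    intro b' hb'
    apply comm_of_mul_zero ρ hinj
    · rw [hpow, hpsum, neg_mul, smul_mul_assoc, hβ, hBq b' hb' b hb, smul_zero, neg_zero]
    · rw [hpow, hpsum, mul_neg, mul_smul_comm, hβ, hBq b hb b' hb', smul_zero, neg_zero]
  have hcent : a ^ p ∈ Subgroup.center X := by
    have hle : A ⊔ B ≤ Subgroup.centralizer {a ^ p} := by
      apply sup_le
      · intro a' ha'
        rw [Subgroup.mem_centralizer_iff]
        intro z hz
        rw [Set.mem_singleton_iff.mp hz]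
        exact hAcomm _ (A.pow_mem ha p) a' ha'
      · intro b' hb'
        rw [Subgroup.mem_centralizer_iff]
        intro z hz
        rw [Set.mem_singleton_iff.mp hz]
        exact hcB b' hb'
    rw [Subgroup.mem_center_iff]
    intro g
    have hg : g ∈ Subgroup.centralizer {a ^ p} := hle (by rw [h.1]; exact Subgroup.mem_top g)
    rw [Subgroup.mem_centralizer_iff] at hg
    exact (hg _ rfl).symm
  exact hcentA _ (A.pow_mem ha p) hcent

end Cfsg.Agent.H9RQ
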