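import Mathlib
import Cfsg.Agent.Lib.Helper9.OrthMax2
import Cfsg.Agent.Lib.Helper2.Spinor3

set_option autoImplicit false

/-!
# Reflections in orthogonal groups over `𝔽₃`: vectors of a given norm in orthogonal complements
-/

namespace Cfsg.Agent.H9Refl3

open Module Matrix Cfsg.Agent.Lib.Helper2.ReflGen Cfsg.Agent.Lib.Helper2.CDG
  Cfsg.Agent.Lib.Helper2.Spinor

variable {F : Type*} [Field F] {ι : Type} [Fintype ι] [DecidableEq ι]
variable {Q : QuadraticForm F (ι → F)}

/-- the orthogonal complement of a nondegenerate subspace of codimension at least `3` represents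
every scalar -/
theorem exists_norm_perp [Finite F] (hQ : (QuadraticMap.polarBilin Q).Nondegenerate)
    (X : Submodule F (ι → F))
    (hX : ∀ x ∈ X, (∀ y ∈ X, QuadraticMap.polar (⇑Q) x y = 0) → x = 0)
    (hdim : finrank F X + 3 ≤ Fintype.card ι) (a : F) :
    ∃ y : ι → F, (∀ x ∈ X, QuadraticMap.polar (⇑Q) x y = 0) ∧ Q y = a := by
  classical
  have hrefl : (QuadraticMap.polarBilin Q).IsRefl := Cfsg.Agent.Lib.Helper5.polarBilin_isRefl Q
  set O := LinearMap.BilinForm.orthogonal (QuadraticMap.polarBilin Q) X with hO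
  have hn : finrank F (ι → F) = Fintype.card ι := Module.finrank_fintype_fun_eq_card F
  have hOdim : finrank F O = Fintype.card ι - finrank F X := by
    rw [hO, LinearMap.BilinForm.finrank_orthogonal hQ, hn]
  have hO3 : 3 ≤ finrank F O := by omega
  obtain ⟨p', hp'0, hp'⟩ := Cfsg.Agent.Lib.Helper5.exists_singular_of_finrank
    (Q.comp O.subtype) hO3
  obtain ⟨p, hp⟩ : ∃ p : ι → F, p = (p' : ι → F) := ⟨_, rfl⟩
  have hpO : p ∈ O := by rw [hp]; exact p'.2
  have hp0 : p ≠ 0 := by rw [hp]; exact fun h => hp'0 (Subtype.ext h)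
  have hpQ : Q p = 0 := by rw [hp]; exact hp'
  clear_value O
  clear hp hp' hp'0 p'
  have hpX : p ∉ X := by
    intro h
    apply hp0
    apply hX _ h
    intro y hy
    rw [QuadraticMap.polar_comm]
    rw [hO] at hpO
    exact hpO y hy
  obtain ⟨q₀, hq₀O, hq₀⟩ : ∃ q₀ ∈ O, QuadraticMap.polar (⇑Q) q₀ p ≠ 0 := by
    by_contra hcon
    push Not at hcon
    have h1 : p ∈ LinearMap.BilinForm.orthogonal (QuadraticMap.polarBilin Q) O :=
      fun n hn => hcon n hn
    rw [hO, LinearMap.BilinForm.orthogonal_orthogonal hQ hrefl] at h1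
    exact hpX h1
  have hpq₀ : QuadraticMap.polar (⇑Q) p q₀ ≠ 0 := by rwa [QuadraticMap.polar_comm]
  obtain ⟨q₁, hq₁⟩ : ∃ q₁ : ι → F, q₁ = (QuadraticMap.polar (⇑Q) p q₀)⁻¹ • q₀ := ⟨_, rfl⟩
  have hq₁O : q₁ ∈ O := by rw [hq₁]; exact O.smul_mem _ hq₀O
  have hpq₁ : QuadraticMap.polar (⇑Q) p q₁ = 1 := by
    rw [hq₁, QuadraticMap.polar_smul_right, smul_eq_mul, inv_mul_cancel₀ hpq₀]
  obtain ⟨y, hy⟩ : ∃ y : ι → F, y = q₁ + (a - Q q₁) • p := ⟨_, rfl⟩
  have hyO : y ∈ O := by rw [hy]; exact O.add_mem hq₁O (O.smul_mem _ hpO)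
  refine ⟨y, fun x hx => by rw [hO] at hyO; exact hyO x hx, ?_⟩
  rw [hy, map_add_smul, hpQ, QuadraticMap.polar_comm (⇑Q) q₁ p, hpq₁]
  ring

/-- a nondegenerate form in dimension at least `3` over a finite field is universal -/
theorem exists_norm [Finite F] (hQ : (QuadraticMap.polarBilin Q).Nondegenerate)
    (hdim : 3 ≤ Fintype.card ι) (a : F) : ∃ y : ι → F, Q y = a := by
  obtain ⟨y, -, hy⟩ := exists_norm_perp hQ ⊥ (fun x hx _ => (Submodule.mem_bot F).1 hx)
    (by rw [finrank_bot]; omega) a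
  exact ⟨y, hy⟩

/-- the span of two orthogonal anisotropic vectors is nondegenerate -/
theorem nondeg_span_orth (h2 : (2 : F) ≠ 0) {u v : ι → F} (hu : Q u ≠ 0) (hv : Q v ≠ 0)
    (huv : QuadraticMap.polar (⇑Q) u v = 0) :
    ∀ x ∈ Submodule.span F {u, v},
      (∀ y ∈ Submodule.span F {u, v}, QuadraticMap.polar (⇑Q) x y = 0) → x = 0 := by
  intro x hx hall
  obtain ⟨α, β, rfl⟩ := Submodule.mem_span_pair.1 hx
  have h1 := hall u (Submodule.subset_span (by simp))
  have h2' := hall v (Submodule.subset_span (by simp))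
  rw [QuadraticMap.polar_add_left, QuadraticMap.polar_smul_left, QuadraticMap.polar_smul_left,
    polar_self, QuadraticMap.polar_comm (⇑Q) v u, huv, smul_eq_mul, smul_eq_mul, mul_zero,
    add_zero] at h1
  rw [QuadraticMap.polar_add_left, QuadraticMap.polar_smul_left, QuadraticMap.polar_smul_left,
    polar_self, huv, smul_eq_mul, smul_eq_mul, mul_zero, zero_add] at h2'
  have hα : α = 0 := by
    rcases mul_eq_zero.1 h1 with h | h
    · exact h
    · exact absurd h (mul_ne_zero h2 hu)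
  have hβ : β = 0 := by
    rcases mul_eq_zero.1 h2' with h | h
    · exact h
    · exact absurd h (mul_ne_zero h2 hv)
  rw [hα, hβ, zero_smul, zero_smul, add_zero]

/-- a common non-orthogonal neighbour of the same norm for two orthogonal vectors of norm `c` -/
theorem exists_common_neighbour [Finite F] (hQ : (QuadraticMap.polarBilin Q).Nondegenerate)
    (h2 : (2 : F) ≠ 0) (hn : 5 ≤ Fintype.card ι) {c : F} (hc : c ≠ 0)
    {u v : ι → F} (hu : Q u = c) (hv : Q v = c) (huv : QuadraticMap.polar (⇑Q) u v = 0) :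
    ∃ z : ι → F, Q z = c ∧ QuadraticMap.polar (⇑Q) u z ≠ 0 ∧ QuadraticMap.polar (⇑Q) v z ≠ 0 := by
  have hu0 : Q u ≠ 0 := by rw [hu]; exact hc
  have hv0 : Q v ≠ 0 := by rw [hv]; exact hc
  obtain ⟨y, hyX, hy⟩ := exists_norm_perp hQ (Submodule.span F {u, v})
    (nondeg_span_orth h2 hu0 hv0 huv)
    (by have := Cfsg.Agent.H9Orth.finrank_span_pair_le (F := F) u v; omega) (-c)
  have huy := hyX u (Submodule.subset_span (by simp))
  have hvy := hyX v (Submodule.subset_span (by simp))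
  refine ⟨u + v + y, ?_, ?_, ?_⟩
  · rw [QuadraticMap.map_add Q (u + v) y, QuadraticMap.map_add Q u v, hu, hv, hy, huv,
      QuadraticMap.polar_add_left, huy, hvy]
    ring
  · rw [QuadraticMap.polar_add_right, QuadraticMap.polar_add_right, polar_self, huv, huy, hu]
    simpa using mul_ne_zero h2 hc
  · rw [QuadraticMap.polar_add_right, QuadraticMap.polar_add_right, polar_self,
      QuadraticMap.polar_comm (⇑Q) v u, huv, hvy, hv]
    simpa using mul_ne_zero h2 hc

end Cfsg.Agent.H9Refl3
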