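import Mathlib
import Cfsg.Agent.Lib.Helper9.ReflO3a

set_option autoImplicit false

/-!
# Reflections in orthogonal groups over `𝔽₃`: braid and commutation relations
-/

namespace Cfsg.Agent.H9Refl3

open Module Matrix Cfsg.Agent.Lib.Helper2.ReflGen Cfsg.Agent.Lib.Helper2.CDG
  Cfsg.Agent.Lib.Helper2.Spinor

section general

variable {F : Type*} [Field F] {ι : Type} [Fintype ι] [DecidableEq ι]
variable {Q : QuadraticForm F (ι → F)}

theorem refl_congr' {v v' : ι → F} (h : v = v') (hv : Q v ≠ 0) (hv' : Q v' ≠ 0) :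
    refl Q v hv = refl Q v' hv' := by
  subst h; rfl

theorem refl_ne_one (h2 : (2 : F) ≠ 0) (v : ι → F) (hv : Q v ≠ 0) : refl Q v hv ≠ 1 := by
  intro h
  have h1 : ((refl Q v hv : Matrix.GeneralLinearGroup ι F) : Matrix ι ι F) *ᵥ v = -v :=
    (reflection_facts Q v hv).2.1
  rw [h, one_mulVec'] at h1
  have h3 : (2 : F) • v = 0 := by
    rw [two_smul]
    nth_rewrite 1 [h1]
    exact neg_add_cancel v
  have hv0 : v = 0 := by
    rcases smul_eq_zero.1 h3 with h | h
    · exact absurd h h2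
    · exact h
  rw [hv0, map_zero] at hv
  exact hv rfl

theorem refl_comm {u v : ι → F} (hu : Q u ≠ 0) (hv : Q v ≠ 0)
    (huv : QuadraticMap.polar (⇑Q) u v = 0) :
    refl Q u hu * refl Q v hv = refl Q v hv * refl Q u hu := by
  have h1 := conj_refl (refl Q u hu) v hv
  have h2 : refl Q (((refl Q u hu : Matrix.GeneralLinearGroup ι F) : Matrix ι ι F) *ᵥ v)
      (by rw [iso_Q]; exact hv) = refl Q v hv :=
    refl_congr' (refl_fix u hu v huv) _ _
  rw [h2] at h1
  calc refl Q u hu * refl Q v hv = refl Q u hu * refl Q v hv * (refl Q u hu)⁻¹ * refl Q u hu := by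
        group
    _ = refl Q v hv * refl Q u hu := by rw [h1]

/-- the braid relation, when the "angle" `t = Q(u)⁻¹ f(u,v)` has square `1` -/
theorem refl_braid {u v : ι → F} (hu : Q u ≠ 0) (hv : Q v ≠ 0) (huv : Q u = Q v)
    (ht : ((Q u)⁻¹ * QuadraticMap.polar (⇑Q) u v) * ((Q u)⁻¹ * QuadraticMap.polar (⇑Q) u v) = 1) :
    refl Q u hu * refl Q v hv * refl Q u hu = refl Q v hv * refl Q u hu * refl Q v hv := by
  obtain ⟨t, htdef⟩ : ∃ t, t = (Q u)⁻¹ * QuadraticMap.polar (⇑Q) u v := ⟨_, rfl⟩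
  rw [← htdef] at ht
  have ht0 : t ≠ 0 := by
    rintro rfl
    rw [mul_zero] at ht
    exact zero_ne_one ht
  have h1 := conj_refl (refl Q u hu) v hv
  have h2 := conj_refl (refl Q v hv) u hu
  rw [refl_inv] at h1 h2
  rw [h1, h2]
  have e1 : ((refl Q u hu : Matrix.GeneralLinearGroup ι F) : Matrix ι ι F) *ᵥ v = v - t • u := by
    rw [refl_mulVec, htdef]
  have e2 : ((refl Q v hv : Matrix.GeneralLinearGroup ι F) : Matrix ι ι F) *ᵥ u = u - t • v := by
    rw [refl_mulVec, htdef, ← huv, QuadraticMap.polar_comm (⇑Q) v u]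
  have e3 : u - t • v = (-t) • (v - t • u) := by
    rw [smul_sub, smul_smul, neg_mul, ht, neg_smul, neg_smul, one_smul]
    abel
  have hw : Q (v - t • u) ≠ 0 := by rw [← e1, iso_Q]; exact hv
  rw [refl_congr' e1 _ hw, refl_congr' (e2.trans e3) _
    (by rw [map_smul_self]; exact mul_ne_zero (mul_ne_zero (neg_ne_zero.2 ht0) (neg_ne_zero.2 ht0)) hw)]
  exact (refl_smul_eq _ hw (-t) (neg_ne_zero.2 ht0)).symm

end general

section group

variable {G : Type*} [Group G]

theorem cube_of_braid {a b : G} (ha : a * a = 1) (hb : b * b = 1) (h : a * b * a = b * a * b) :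
    (a * b) ^ 3 = 1 := by
  have e : (a * b) ^ 3 = a * (b * a * b) * a * b := by
    rw [pow_succ, pow_two]; group
  rw [e, ← h]
  calc a * (a * b * a) * a * b = (a * a) * b * (a * a) * b := by group
    _ = 1 := by rw [ha, one_mul, mul_one, hb]

theorem conj_of_braid {a b : G} (ha : a * a = 1) (hb : b * b = 1) (h : a * b * a = b * a * b) :
    (a * b) * a * (a * b)⁻¹ = b := by
  have hai : a⁻¹ = a := inv_eq_of_mul_eq_one_left ha
  have hbi : b⁻¹ = b := inv_eq_of_mul_eq_one_left hb
  rw [_root_.mul_inv_rev, hai, hbi]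
  calc a * b * a * (b * a) = a * (b * a * b) * a := by group
    _ = a * (a * b * a) * a := by rw [h]
    _ = (a * a) * b * (a * a) := by group
    _ = b := by rw [ha, one_mul, mul_one]

theorem sq_of_comm {a b : G} (ha : a * a = 1) (hb : b * b = 1) (h : a * b = b * a) :
    (a * b) ^ 2 = 1 := by
  rw [pow_two]
  calc a * b * (a * b) = a * (b * a) * b := by group
    _ = a * (a * b) * b := by rw [h]
    _ = (a * a) * (b * b) := by group
    _ = 1 := by rw [ha, hb, one_mul]

end group

theorem zmod3_sq : ∀ t : ZMod 3, t ≠ 0 → t * t = 1 := by decide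

end Cfsg.Agent.H9Refl3
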