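import Mathlib
import Cfsg.Agent.Lib.Helper2.NormClass7

set_option autoImplicit false

/-!
# The subgroup generated by the reflections of one norm class has index two, in dimension at least
five (all parities).  Adapted from Helper2's `NormClass6`, `NormClass7` (which treat even dimension).
-/

namespace Cfsg.Agent.H9Refl3

open Matrix Cfsg.Agent.Lib.Helper2 Cfsg.Agent.Lib.Helper2.ReflGen Cfsg.Agent.Lib.Helper2.CDG
  Cfsg.Agent.Lib.Helper2.NormClass

section bridge

variable {F : Type*} [Field F] [Fintype F] {ι : Type} [Fintype ι] [DecidableEq ι]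
variable {Q : QuadraticForm F (ι → F)}

/-- bridging vector for a degenerate plane -/
theorem exists_bridge5 (h2 : (2 : F) ≠ 0) (hQ : (QuadraticMap.polarBilin Q).Nondegenerate)
    (hn5 : 5 ≤ Fintype.card ι)
    (u v : ι → F) (hu : Q u ≠ 0) (hv : Q v ≠ 0)
    (hD : QuadraticMap.polar (⇑Q) u v ^ 2 - 4 * Q u * Q v = 0) (hind : ∀ l : F, v ≠ l • u) :
    ∃ (x : ι → F) (ρ : F), ρ ≠ 0 ∧ Q x = Q u * ρ ^ 2 ∧
      QuadraticMap.polar (⇑Q) u x ^ 2 - 4 * Q u * Q x ≠ 0 ∧
      QuadraticMap.polar (⇑Q) x v ^ 2 - 4 * Q x * Q v ≠ 0 := by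
  have h4 : (4 : F) ≠ 0 := by
    have : (4 : F) = 2 * 2 := by norm_num
    rw [this]
    exact mul_ne_zero h2 h2
  obtain ⟨w, α, hα, hvw, hw, huw, hw0⟩ := degenerate_decomp h2 u v hu hv hD hind
  obtain ⟨w', hw', hww', huw'⟩ := exists_partner_perp h2 hQ u w hu hw0 hw huw
  have hww : QuadraticMap.polar (⇑Q) w w = 0 := by rw [polar_self, hw, mul_zero]
  have hw'w' : QuadraticMap.polar (⇑Q) w' w' = 0 := by rw [polar_self, hw', mul_zero]
  have hw'w : QuadraticMap.polar (⇑Q) w' w = 1 := by rw [QuadraticMap.polar_comm]; exact hww'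
  have hwu : QuadraticMap.polar (⇑Q) w u = 0 := by rw [QuadraticMap.polar_comm]; exact huw
  have hw'u : QuadraticMap.polar (⇑Q) w' u = 0 := by rw [QuadraticMap.polar_comm]; exact huw'
  have hQv : Q v = α ^ 2 * Q u := by
    have : v = α • u + (1 : F) • w := by rw [one_smul]; exact hvw
    rw [this, Q_lin2, huw, hw]
    ring
  -- dimension at least three
  have hli : LinearIndependent F ![u, w, w'] := by
    rw [Fintype.linearIndependent_iff]
    intro g hg
    rw [Fin.sum_univ_three] at hg
    simp only [Matrix.cons_val_zero, Matrix.cons_val_one, Matrix.cons_val_two,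
      Matrix.head_cons, Matrix.tail_cons] at hg
    have e1 := congrArg (fun z => QuadraticMap.polar (⇑Q) u z) hg
    have e2 := congrArg (fun z => QuadraticMap.polar (⇑Q) w z) hg
    have e3 := congrArg (fun z => QuadraticMap.polar (⇑Q) w' z) hg
    simp only [QuadraticMap.polar_add_right, QuadraticMap.polar_smul_right, smul_eq_mul, huw, huw',
      hww, hwu, hww', hw'w', hw'u, hw'w, polar_self, QuadraticMap.polar_zero_right, mul_zero,
      add_zero, zero_add, mul_one] at e1 e2 e3
    have g0 : g 0 = 0 := by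
      have : g 0 * (2 * Q u) = 0 := e1
      rcases mul_eq_zero.1 this with h | h
      · exact h
      · exact absurd h (mul_ne_zero h2 hu)
    intro i
    fin_cases i
    · exact g0
    · exact e3
    · exact e2
  have hn3 : 3 ≤ Fintype.card ι := by
    have := hli.fintype_card_le_finrank
    rw [Fintype.card_fin, Module.finrank_fintype_fun_eq_card] at this
    exact this
  by_cases hq : 5 ≤ Fintype.card F
  · obtain ⟨ρ, hρ0, hρ⟩ := exists_rho hq (((2 * Q u * α)⁻¹) ^ 2)
    refine ⟨(1 : F) • w' + (Q u * ρ ^ 2) • w, ρ, hρ0, ?_, ?_, ?_⟩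
    · rw [Q_lin2, hw', hw, hw'w]
      ring
    · have hp : QuadraticMap.polar (⇑Q) u ((1 : F) • w' + (Q u * ρ ^ 2) • w) = 0 := by
        rw [QuadraticMap.polar_add_right, QuadraticMap.polar_smul_right,
          QuadraticMap.polar_smul_right, huw, huw']
        simp
      have hQx : Q ((1 : F) • w' + (Q u * ρ ^ 2) • w) = Q u * ρ ^ 2 := by
        rw [Q_lin2, hw', hw, hw'w]
        ring
      rw [hp, hQx]
      have : 4 * Q u * (Q u * ρ ^ 2) ≠ 0 :=
        mul_ne_zero (mul_ne_zero h4 hu) (mul_ne_zero hu (pow_ne_zero 2 hρ0))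
      intro h
      apply this
      linear_combination -h
    · have hp : QuadraticMap.polar (⇑Q) ((1 : F) • w' + (Q u * ρ ^ 2) • w) v = 1 := by
        rw [hvw, QuadraticMap.polar_add_left, QuadraticMap.polar_smul_left,
          QuadraticMap.polar_smul_left, QuadraticMap.polar_add_right, QuadraticMap.polar_add_right,
          QuadraticMap.polar_smul_right, QuadraticMap.polar_smul_right, hw'u, hw'w, hwu, hww]
        simp
      have hQx : Q ((1 : F) • w' + (Q u * ρ ^ 2) • w) = Q u * ρ ^ 2 := by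
        rw [Q_lin2, hw', hw, hw'w]
        ring
      rw [hp, hQx, hQv]
      intro h
      apply hρ
      have h6 : 2 * Q u * α ≠ 0 := mul_ne_zero (mul_ne_zero h2 hu) hα
      field_simp
      linear_combination -h
  · have hq3 : Fintype.card F = 3 := by
      have h1 := card_mod_two h2
      have h3 := Fintype.one_lt_card (α := F)
      omega
    have hn6 : 5 ≤ Fintype.card ι := hn5
    obtain ⟨y, hy, huy, hwy, -⟩ := exists_perp_value h2 hQ u w w' hu hw hw' hww' huw huw' hn6
      (Q u) hu
    refine ⟨y, 1, one_ne_zero, by rw [hy]; ring, ?_, ?_⟩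
    · rw [huy, hy]
      have : 4 * Q u * Q u ≠ 0 := mul_ne_zero (mul_ne_zero h4 hu) hu
      intro h
      apply this
      linear_combination -h
    · have hp : QuadraticMap.polar (⇑Q) y v = 0 := by
        rw [hvw, QuadraticMap.polar_add_right, QuadraticMap.polar_smul_right,
          QuadraticMap.polar_comm (⇑Q) y u, QuadraticMap.polar_comm (⇑Q) y w, huy, hwy]
        simp
      rw [hp, hy, hQv]
      have : 4 * Q u * (α ^ 2 * Q u) ≠ 0 :=
        mul_ne_zero (mul_ne_zero h4 hu) (mul_ne_zero (pow_ne_zero 2 hα) hu)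
      intro h
      apply this
      linear_combination -h

/-- the product of two reflections in vectors whose norms have a square product lies in `Hc` -/
theorem mul_mem_Hc5 (h2 : (2 : F) ≠ 0) (hQ : (QuadraticMap.polarBilin Q).Nondegenerate)
    (hn5 : 5 ≤ Fintype.card ι)
    {c : F} (hc : c ≠ 0) (u v : ι → F) (hu : Q u ≠ 0) (hv : Q v ≠ 0)
    (τ : F) (hτ : τ ≠ 0) (hsq : Q u * Q v = τ ^ 2) :
    refl Q u hu * refl Q v hv ∈ Hc Q c := by
  by_cases hD : QuadraticMap.polar (⇑Q) u v ^ 2 - 4 * Q u * Q v = 0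
  · by_cases hdep : ∃ l : F, v = l • u
    · obtain ⟨l, rfl⟩ := hdep
      have hl : l ≠ 0 := by
        rintro rfl
        rw [zero_smul, map_zero] at hv
        exact hv rfl
      have : refl Q (l • u) hv = refl Q u hu := Spinor.refl_smul_eq u hu l hl
      rw [this, refl_mul_self]
      exact Subgroup.one_mem _
    · push Not at hdep
      obtain ⟨x, ρ, hρ, hQx, hD1, hD2⟩ := exists_bridge5 h2 hQ hn5 u v hu hv hD hdep
      have hx : Q x ≠ 0 := by
        rw [hQx]
        exact mul_ne_zero hu (pow_ne_zero 2 hρ)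
      have hsplit : refl Q u hu * refl Q v hv =
          (refl Q u hu * refl Q x hx) * (refl Q x hx * refl Q v hv) := by
        rw [mul_assoc, ← mul_assoc (refl Q x hx), refl_mul_self, one_mul]
      rw [hsplit]
      apply Subgroup.mul_mem
      · exact plane_mem h2 hc u x hu hx hD1 (Q u * ρ) (mul_ne_zero hu hρ) (by rw [hQx]; ring)
      · refine plane_mem h2 hc x v hx hv hD2 (ρ * τ) (mul_ne_zero hρ hτ) ?_
        rw [hQx, mul_pow, ← hsq]
        ring
  · exact plane_mem h2 hc u v hu hv hD τ hτ hsq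


end bridge

section index

variable {F : Type*} [Field F] [Fintype F] [DecidableEq F] {ι : Type} [Fintype ι] [DecidableEq ι]
variable {Q : QuadraticForm F (ι → F)}

/-- the subgroup generated by the reflections of one norm class has index two -/
theorem index_Hc5 (h2 : (2 : F) ≠ 0) (hn5 : 5 ≤ Fintype.card ι)
    (hQ : (QuadraticMap.polarBilin Q).Nondegenerate)
    {c : F} (hc : c ≠ 0) : (Hc Q c).index = 2 := by
  have hgen := closure_R_eq_top (Q := Q) h2 hQ
  haveI hnorm := Hc_normal (Q := Q) hc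
  obtain ⟨ν, hν⟩ := Spinor.exists_nonsquare' (F := F) h2
  have hν0 : ν ≠ 0 := by rintro rfl; exact hν ⟨0, by simp⟩
  obtain ⟨u₀, hu₀⟩ := Spinor.exists_value hQ (by omega) (c * ν) (mul_ne_zero hc hν0)
  have hu₀0 : Q u₀ ≠ 0 := by rw [hu₀]; exact mul_ne_zero hc hν0
  -- `u₀` is not of class `c`
  have hnot : ¬ ∃ t : F, t * t * Q u₀ = c := by
    rintro ⟨t, ht⟩
    have ht0 : t ≠ 0 := by
      rintro rfl
      rw [zero_mul, zero_mul] at ht
      exact hc ht.symm
    apply hν
    refine ⟨t⁻¹, ?_⟩
    rw [hu₀] at ht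
    field_simp
    have h5 : c * (t * t * ν - 1) = 0 := by linear_combination ht
    rcases mul_eq_zero.1 h5 with h | h
    · exact absurd h hc
    · linear_combination h
  have hr₀ : refl Q u₀ hu₀0 ∉ Hc Q c := by
    intro h
    have h1 := Hc_le_ker_theta h2 hc h
    rw [MonoidHom.mem_ker, theta_refl h2 hc, if_neg hnot] at h1
    have h3 : ((-1 : Fˣ) : F) = 1 := by rw [h1]; rfl
    rw [Units.val_neg, Units.val_one] at h3
    apply h2
    linear_combination -h3
  -- class dichotomy
  have hdich : ∀ v : ι → F, Q v ≠ 0 → (∃ t : F, t ≠ 0 ∧ Q v = c * t ^ 2) ∨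
      (∃ τ : F, τ ≠ 0 ∧ Q v * Q u₀ = τ ^ 2) := by
    intro v hv
    by_cases hs : IsSquare (Q v * c⁻¹)
    · left
      obtain ⟨t, ht⟩ := hs
      have ht0 : t ≠ 0 := by
        rintro rfl
        rw [mul_zero] at ht
        rcases mul_eq_zero.1 ht with h | h
        · exact hv h
        · exact inv_ne_zero hc h
      refine ⟨t, ht0, ?_⟩
      field_simp at ht
      linear_combination ht
    · right
      obtain ⟨s, hs'⟩ := Spinor.isSquare_mul_inv_of_nonsquare h2 hs hν
      have hs0 : s ≠ 0 := by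
        rintro rfl
        rw [mul_zero] at hs'
        rcases mul_eq_zero.1 hs' with h | h
        · rcases mul_eq_zero.1 h with h | h
          · exact hv h
          · exact inv_ne_zero hc h
        · exact inv_ne_zero hν0 h
      refine ⟨c * ν * s, mul_ne_zero (mul_ne_zero hc hν0) hs0, ?_⟩
      rw [hu₀]
      field_simp at hs'
      linear_combination (c * ν) * hs'
  -- every element lies in `Hc` or in `Hc r₀`
  have hcl : ∀ g : ↥(Cfsg.isometryGroup F ⇑Q), g ∈ Hc Q c ∨ g * refl Q u₀ hu₀0 ∈ Hc Q c := by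
    intro g
    have hg : g ∈ Subgroup.closure (R Q) := by rw [hgen]; trivial
    induction hg using Subgroup.closure_induction with
    | mem x hx =>
      obtain ⟨v, hv, hxv⟩ := hx
      have hx' : x = refl Q v hv := Spinor.eq_refl_of_coe x v hv hxv
      rcases hdich v hv with ⟨t, ht, hvt⟩ | ⟨τ, hτ, hvτ⟩
      · left
        rw [hx']
        exact refl_mem_Hc v hv t ht hvt
      · right
        rw [hx']
        exact mul_mem_Hc5 h2 hQ hn5 hc v u₀ hv hu₀0 τ hτ hvτ
    | one => left; exact Subgroup.one_mem _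
    | mul x y _ _ hx hy =>
      rcases hx with hx | hx <;> rcases hy with hy | hy
      · left; exact Subgroup.mul_mem _ hx hy
      · right
        rw [mul_assoc]
        exact Subgroup.mul_mem _ hx hy
      · right
        have h1 : x * y * refl Q u₀ hu₀0 = (x * refl Q u₀ hu₀0) *
            (refl Q u₀ hu₀0 * y * (refl Q u₀ hu₀0)⁻¹) := by
          rw [refl_inv]
          have := refl_mul_self (Q := Q) u₀ hu₀0
          calc x * y * refl Q u₀ hu₀0 = x * (1 * y) * refl Q u₀ hu₀0 := by rw [one_mul]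
            _ = x * ((refl Q u₀ hu₀0 * refl Q u₀ hu₀0) * y) * refl Q u₀ hu₀0 := by rw [this]
            _ = _ := by simp only [mul_assoc]
        rw [h1]
        exact Subgroup.mul_mem _ hx (hnorm.conj_mem y hy _)
      · left
        have h1 : x * y = (x * refl Q u₀ hu₀0) *
            (refl Q u₀ hu₀0 * (y * refl Q u₀ hu₀0) * (refl Q u₀ hu₀0)⁻¹) := by
          rw [refl_inv]
          have := refl_mul_self (Q := Q) u₀ hu₀0
          calc x * y = x * (1 * (y * 1)) := by rw [one_mul, mul_one]
            _ = x * ((refl Q u₀ hu₀0 * refl Q u₀ hu₀0) *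
                (y * (refl Q u₀ hu₀0 * refl Q u₀ hu₀0))) := by rw [this]
            _ = _ := by simp only [mul_assoc]
        rw [h1]
        exact Subgroup.mul_mem _ hx (hnorm.conj_mem _ hy _)
    | inv x _ hx =>
      rcases hx with hx | hx
      · left; exact Subgroup.inv_mem _ hx
      · right
        have h1 : x⁻¹ * refl Q u₀ hu₀0 =
            refl Q u₀ hu₀0 * (x * refl Q u₀ hu₀0)⁻¹ * (refl Q u₀ hu₀0)⁻¹ := by
          rw [refl_inv, _root_.mul_inv_rev, refl_inv]
          have := refl_mul_self (Q := Q) u₀ hu₀0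
          calc x⁻¹ * refl Q u₀ hu₀0 = 1 * x⁻¹ * refl Q u₀ hu₀0 := by rw [one_mul]
            _ = (refl Q u₀ hu₀0 * refl Q u₀ hu₀0) * x⁻¹ * refl Q u₀ hu₀0 := by rw [this]
            _ = _ := by simp only [mul_assoc]
        rw [h1]
        exact hnorm.conj_mem _ (Subgroup.inv_mem _ hx) _
  rw [Subgroup.index_eq_two_iff]
  refine ⟨refl Q u₀ hu₀0, fun b => ?_⟩
  rcases hcl b with hb | hb
  · right
    refine ⟨hb, fun hb' => hr₀ ?_⟩
    have := Subgroup.mul_mem _ (Subgroup.inv_mem _ hb) hb'
    rwa [inv_mul_cancel_left] at this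
  · left
    refine ⟨hb, fun hb' => hr₀ ?_⟩
    have := Subgroup.mul_mem _ (Subgroup.inv_mem _ hb') hb
    rwa [inv_mul_cancel_left] at this


end index

end Cfsg.Agent.H9Refl3
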