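import Mathlib
import Cfsg.Agent.Lib.Helper9.ReflO3a
import Cfsg.Agent.Lib.Helper2.NormClass4

set_option autoImplicit false

/-!
# Reflections in orthogonal groups over `𝔽₃`: vectors of a given norm orthogonal to two given ones
-/

namespace Cfsg.Agent.H9Refl3

open Module Matrix Cfsg.Agent.Lib.Helper2.ReflGen Cfsg.Agent.Lib.Helper2.CDG
  Cfsg.Agent.Lib.Helper2.Spinor

variable {F : Type*} [Field F] {ι : Type} [Fintype ι] [DecidableEq ι]
variable {Q : QuadraticForm F (ι → F)}

/-- a non-zero singular vector orthogonal to a subspace of codimension at least three -/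
theorem exists_singular_perp [Finite F]
    (X : Submodule F (ι → F)) (hdim : finrank F X + 3 ≤ Fintype.card ι)
    (hQ : (QuadraticMap.polarBilin Q).Nondegenerate) :
    ∃ p : ι → F, p ≠ 0 ∧ (∀ x ∈ X, QuadraticMap.polar (⇑Q) x p = 0) ∧ Q p = 0 := by
  classical
  obtain ⟨O, hO⟩ : ∃ O, O = LinearMap.BilinForm.orthogonal (QuadraticMap.polarBilin Q) X := ⟨_, rfl⟩
  have hn : finrank F (ι → F) = Fintype.card ι := Module.finrank_fintype_fun_eq_card F
  have hOdim : finrank F O = Fintype.card ι - finrank F X := by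
    rw [hO, LinearMap.BilinForm.finrank_orthogonal hQ, hn]
  have hO3 : 3 ≤ finrank F O := by omega
  have hOX : ∀ z ∈ O, ∀ x ∈ X, QuadraticMap.polar (⇑Q) x z = 0 := by
    intro z hz x hx
    rw [hO] at hz
    exact hz x hx
  obtain ⟨p', hp'0, hp'⟩ := Cfsg.Agent.Lib.Helper5.exists_singular_of_finrank
    (Q.comp O.subtype) hO3
  exact ⟨(p' : ι → F), fun h => hp'0 (Subtype.ext h), hOX _ p'.2, hp'⟩

/-- an anisotropic vector orthogonal to a proper nondegenerate subspace -/
theorem exists_aniso_perp (hQ : (QuadraticMap.polarBilin Q).Nondegenerate)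
    (X : Submodule F (ι → F))
    (hX : ∀ x ∈ X, (∀ y ∈ X, QuadraticMap.polar (⇑Q) x y = 0) → x = 0)
    (hdim : finrank F X + 1 ≤ Fintype.card ι) :
    ∃ z : ι → F, (∀ x ∈ X, QuadraticMap.polar (⇑Q) x z = 0) ∧ Q z ≠ 0 := by
  classical
  have hrefl : (QuadraticMap.polarBilin Q).IsRefl := Cfsg.Agent.Lib.Helper5.polarBilin_isRefl Q
  obtain ⟨O, hO⟩ : ∃ O, O = LinearMap.BilinForm.orthogonal (QuadraticMap.polarBilin Q) X := ⟨_, rfl⟩
  have hn : finrank F (ι → F) = Fintype.card ι := Module.finrank_fintype_fun_eq_card F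
  have hOdim : finrank F O = Fintype.card ι - finrank F X := by
    rw [hO, LinearMap.BilinForm.finrank_orthogonal hQ, hn]
  have hO1 : 0 < finrank F O := by omega
  have hOX : ∀ z ∈ O, ∀ x ∈ X, QuadraticMap.polar (⇑Q) x z = 0 := by
    intro z hz x hx
    rw [hO] at hz
    exact hz x hx
  have hOO : LinearMap.BilinForm.orthogonal (QuadraticMap.polarBilin Q) O = X := by
    rw [hO, LinearMap.BilinForm.orthogonal_orthogonal hQ hrefl]
  obtain ⟨p', hp'0⟩ := Module.finrank_pos_iff_exists_ne_zero.mp hO1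
  obtain ⟨p, hp⟩ : ∃ p : ι → F, p = (p' : ι → F) := ⟨_, rfl⟩
  have hpO : p ∈ O := by rw [hp]; exact p'.2
  have hp0 : p ≠ 0 := by rw [hp]; exact fun h => hp'0 (Subtype.ext h)
  clear hp hp'0 p'
  by_contra hcon
  push Not at hcon
  have hOmem : ∀ z : ι → F, z ∈ O → Q z = 0 := fun z hz => hcon z (hOX z hz)
  apply hp0
  have hpX : p ∈ X := by
    rw [← hOO]
    intro y hy
    show QuadraticMap.polar (⇑Q) y p = 0
    unfold QuadraticMap.polar
    rw [hOmem _ (O.add_mem hy hpO), hOmem _ hy, hOmem _ hpO]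
    ring
  apply hX _ hpX
  intro y hy
  rw [QuadraticMap.polar_comm]
  exact hOX p hpO y hy

/-- adjoining an orthogonal anisotropic vector keeps a subspace nondegenerate -/
theorem nondeg_sup_span (h2 : (2 : F) ≠ 0) (X : Submodule F (ι → F))
    (hX : ∀ x ∈ X, (∀ y ∈ X, QuadraticMap.polar (⇑Q) x y = 0) → x = 0)
    {z : ι → F} (hz : ∀ x ∈ X, QuadraticMap.polar (⇑Q) x z = 0) (hQz : Q z ≠ 0) :
    ∀ x ∈ X ⊔ Submodule.span F {z},
      (∀ y ∈ X ⊔ Submodule.span F {z}, QuadraticMap.polar (⇑Q) x y = 0) → x = 0 := by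
  intro x hx hall
  rw [Submodule.mem_sup] at hx
  obtain ⟨x₁, hx₁, x₂, hx₂, rfl⟩ := hx
  rw [Submodule.mem_span_singleton] at hx₂
  obtain ⟨a, rfl⟩ := hx₂
  have hzmem : z ∈ X ⊔ Submodule.span F {z} :=
    Submodule.mem_sup_right (Submodule.mem_span_singleton_self z)
  have h1 := hall z hzmem
  rw [QuadraticMap.polar_add_left, hz x₁ hx₁, QuadraticMap.polar_smul_left, polar_self,
    smul_eq_mul, zero_add] at h1
  have ha : a = 0 := by
    rcases mul_eq_zero.1 h1 with h | h
    · exact h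
    · exact absurd h (mul_ne_zero h2 hQz)
  rw [ha, zero_smul, add_zero]
  apply hX x₁ hx₁
  intro y hy
  have := hall y (Submodule.mem_sup_left hy)
  rwa [ha, zero_smul, add_zero] at this

theorem finrank_sup_span_le (X : Submodule F (ι → F)) (z : ι → F) :
    finrank F ↥(X ⊔ Submodule.span F {z}) ≤ finrank F X + 1 := by
  have h1 := Submodule.finrank_add_le_finrank_add_finrank X (Submodule.span F {z})
  have h2 : finrank F ↥(Submodule.span F {z}) ≤ 1 := by
    classical
    have := finrank_span_finset_le_card (R := F) ({z} : Finset (ι → F))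
    rw [Finset.coe_singleton, Finset.card_singleton] at this
    exact this
  omega

end Cfsg.Agent.H9Refl3
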