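import Mathlib
import Cfsg.Agent.Lib.Helper9.ReflO3d
import Cfsg.Agent.Lib.Helper9.ReflO3b

set_option autoImplicit false

/-!
# Reflections in orthogonal groups over `𝔽₃`: common orthogonal vectors and separating vectors
-/

namespace Cfsg.Agent.H9Refl3

open Module Matrix Cfsg.Agent.Lib.Helper2.ReflGen Cfsg.Agent.Lib.Helper2.CDG
  Cfsg.Agent.Lib.Helper2.Spinor Cfsg.Agent.Lib.Helper2.NormClass

variable {ι : Type} [Fintype ι] [DecidableEq ι]
variable {Q : QuadraticForm (ZMod 3) (ι → ZMod 3)}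

theorem zmod3_eq_or_neg : ∀ a c : ZMod 3, a ≠ 0 → c ≠ 0 → a = c ∨ a = -c := by decide

theorem zmod3_two_ne : (2 : ZMod 3) ≠ 0 := by decide

/-- the orthogonal complement of a nondegenerate subspace of codimension at least `2` represents
every non-zero scalar -/
theorem exists_norm_perp3 (hQ : (QuadraticMap.polarBilin Q).Nondegenerate)
    (X : Submodule (ZMod 3) (ι → ZMod 3))
    (hX : ∀ x ∈ X, (∀ y ∈ X, QuadraticMap.polar (⇑Q) x y = 0) → x = 0)
    (hdim : finrank (ZMod 3) X + 2 ≤ Fintype.card ι) {c : ZMod 3} (hc : c ≠ 0) :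
    ∃ y : ι → ZMod 3, (∀ x ∈ X, QuadraticMap.polar (⇑Q) x y = 0) ∧ Q y = c := by
  obtain ⟨z₁, hz₁X, hz₁⟩ := exists_aniso_perp hQ X hX (by omega)
  have hX₁ := nondeg_sup_span zmod3_two_ne X hX hz₁X hz₁
  have hdim₁ := finrank_sup_span_le X z₁
  obtain ⟨z₂, hz₂X, hz₂⟩ := exists_aniso_perp hQ _ hX₁ (by omega)
  have hz₂X' : ∀ x ∈ X, QuadraticMap.polar (⇑Q) x z₂ = 0 :=
    fun x hx => hz₂X x (Submodule.mem_sup_left hx)
  have hz₁z₂ : QuadraticMap.polar (⇑Q) z₁ z₂ = 0 :=
    hz₂X z₁ (Submodule.mem_sup_right (Submodule.mem_span_singleton_self z₁))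
  rcases zmod3_eq_or_neg (Q z₁) c hz₁ hc with e₁ | e₁
  · exact ⟨z₁, hz₁X, e₁⟩
  rcases zmod3_eq_or_neg (Q z₂) c hz₂ hc with e₂ | e₂
  · exact ⟨z₂, hz₂X', e₂⟩
  refine ⟨z₁ + z₂, ?_, ?_⟩
  · intro x hx
    rw [QuadraticMap.polar_add_right, hz₁X x hx, hz₂X' x hx, add_zero]
  · rw [QuadraticMap.map_add Q z₁ z₂, e₁, e₂, hz₁z₂]
    have : ∀ t : ZMod 3, -t + -t + 0 = t := by decide
    exact this c

/-- nondegeneracy of the span of one anisotropic vector -/
theorem nondeg_span_one {u : ι → ZMod 3} (hu : Q u ≠ 0) :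
    ∀ x ∈ Submodule.span (ZMod 3) {u},
      (∀ y ∈ Submodule.span (ZMod 3) {u}, QuadraticMap.polar (⇑Q) x y = 0) → x = 0 := by
  have h := nondeg_sup_span (Q := Q) zmod3_two_ne ⊥
    (fun x hx _ => (Submodule.mem_bot _).1 hx) (z := u)
    (fun x hx => by rw [(Submodule.mem_bot _).1 hx, QuadraticMap.polar_zero_left]) hu
  rw [bot_sup_eq] at h
  exact h

/-- two vectors of the same non-zero norm have a common orthogonal vector of that norm -/
theorem exists_common_perp (hQ : (QuadraticMap.polarBilin Q).Nondegenerate)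
    (hn : 5 ≤ Fintype.card ι) {c : ZMod 3} (hc : c ≠ 0) {u v : ι → ZMod 3} (hu : Q u = c)
    (hv : Q v = c) :
    ∃ y : ι → ZMod 3, Q y = c ∧ QuadraticMap.polar (⇑Q) u y = 0 ∧
      QuadraticMap.polar (⇑Q) v y = 0 := by
  have hu0 : Q u ≠ 0 := by rw [hu]; exact hc
  have hv0 : Q v ≠ 0 := by rw [hv]; exact hc
  by_cases hdep : ∃ l : ZMod 3, v = l • u
  · obtain ⟨l, rfl⟩ := hdep
    have hd1 : finrank (ZMod 3) ↥(Submodule.span (ZMod 3) {u}) ≤ 1 := by
      have := finrank_sup_span_le (⊥ : Submodule (ZMod 3) (ι → ZMod 3)) u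
      rw [bot_sup_eq, finrank_bot] at this
      exact this
    obtain ⟨y, hyX, hy⟩ := exists_norm_perp3 hQ _ (nondeg_span_one hu0) (by omega) hc
    have h1 := hyX u (Submodule.mem_span_singleton_self u)
    refine ⟨y, hy, h1, ?_⟩
    rw [QuadraticMap.polar_smul_left, h1, smul_zero]
  push Not at hdep
  by_cases huv : QuadraticMap.polar (⇑Q) u v = 0
  · obtain ⟨y, hyX, hy⟩ := exists_norm_perp3 hQ (Submodule.span (ZMod 3) {u, v})
      (nondeg_span_orth zmod3_two_ne hu0 hv0 huv)
      (by have := Cfsg.Agent.H9Orth.finrank_span_pair_le (F := ZMod 3) u v; omega) hc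
    exact ⟨y, hy, hyX u (Submodule.subset_span (by simp)), hyX v (Submodule.subset_span (by simp))⟩
  · -- a degenerate plane
    have hD : QuadraticMap.polar (⇑Q) u v ^ 2 - 4 * Q u * Q v = 0 := by
      rw [hu, hv]
      have : ∀ a c : ZMod 3, a ≠ 0 → c ≠ 0 → a ^ 2 - 4 * c * c = 0 := by decide
      exact this _ c huv hc
    obtain ⟨w, α, hα, hvw, hw, huw, hw0⟩ := degenerate_decomp zmod3_two_ne u v hu0 hv0 hD hdep
    obtain ⟨w', hw', hww', huw'⟩ := exists_partner_perp zmod3_two_ne hQ u w hu0 hw0 hw huw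
    -- two orthogonal anisotropic vectors in the hyperbolic plane of `w`, `w'`
    have hww : QuadraticMap.polar (⇑Q) w w = 0 := by rw [polar_self, hw, mul_zero]
    have hw'w' : QuadraticMap.polar (⇑Q) w' w' = 0 := by rw [polar_self, hw', mul_zero]
    have hw'w : QuadraticMap.polar (⇑Q) w' w = 1 := by rw [QuadraticMap.polar_comm]; exact hww'
    have he₁ : Q (w + w') = 1 := by
      rw [QuadraticMap.map_add Q w w', hw, hw', hww']; ring
    have he₂ : Q (w - w') = -1 := by
      have : w - w' = w + (-1 : ZMod 3) • w' := by rw [neg_one_smul, sub_eq_add_neg]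
      rw [this, map_add_smul, hw, hw', hww']; ring
    have he₁₂ : QuadraticMap.polar (⇑Q) (w + w') (w - w') = 0 := by
      rw [QuadraticMap.polar_add_left, QuadraticMap.polar_sub_right, QuadraticMap.polar_sub_right,
        hww, hww', hw'w, hw'w']
      ring
    have hue₁ : QuadraticMap.polar (⇑Q) u (w + w') = 0 := by
      rw [QuadraticMap.polar_add_right, huw, huw', add_zero]
    have hue₂ : QuadraticMap.polar (⇑Q) u (w - w') = 0 := by
      rw [QuadraticMap.polar_sub_right, huw, huw', sub_zero]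
    have hX₀ := nondeg_span_one hu0
    have hd₀ : finrank (ZMod 3) ↥(Submodule.span (ZMod 3) {u}) ≤ 1 := by
      have := finrank_sup_span_le (⊥ : Submodule (ZMod 3) (ι → ZMod 3)) u
      rw [bot_sup_eq, finrank_bot] at this
      exact this
    have hperp₁ : ∀ x ∈ Submodule.span (ZMod 3) {u}, QuadraticMap.polar (⇑Q) x (w + w') = 0 := by
      intro x hx
      obtain ⟨a, rfl⟩ := Submodule.mem_span_singleton.1 hx
      rw [QuadraticMap.polar_smul_left, hue₁, smul_zero]
    have hX₁ := nondeg_sup_span zmod3_two_ne _ hX₀ hperp₁ (by rw [he₁]; exact one_ne_zero)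
    have hd₁ := finrank_sup_span_le (Submodule.span (ZMod 3) {u}) (w + w')
    have hperp₂ : ∀ x ∈ Submodule.span (ZMod 3) {u} ⊔ Submodule.span (ZMod 3) {w + w'},
        QuadraticMap.polar (⇑Q) x (w - w') = 0 := by
      intro x hx
      rw [Submodule.mem_sup] at hx
      obtain ⟨x₁, hx₁, x₂, hx₂, rfl⟩ := hx
      obtain ⟨a, rfl⟩ := Submodule.mem_span_singleton.1 hx₁
      obtain ⟨b, rfl⟩ := Submodule.mem_span_singleton.1 hx₂
      rw [QuadraticMap.polar_add_left, QuadraticMap.polar_smul_left, QuadraticMap.polar_smul_left,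
        hue₂, he₁₂, smul_zero, smul_zero, add_zero]
    have hX₂ := nondeg_sup_span zmod3_two_ne _ hX₁ hperp₂
      (by rw [he₂]; exact neg_ne_zero.2 one_ne_zero)
    have hd₂ := finrank_sup_span_le
      (Submodule.span (ZMod 3) {u} ⊔ Submodule.span (ZMod 3) {w + w'}) (w - w')
    obtain ⟨y, hyX, hy⟩ := exists_norm_perp3 hQ _ hX₂ (by omega) hc
    have hyu : QuadraticMap.polar (⇑Q) u y = 0 :=
      hyX u (Submodule.mem_sup_left (Submodule.mem_sup_left (Submodule.mem_span_singleton_self u)))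
    have hy₁ : QuadraticMap.polar (⇑Q) (w + w') y = 0 :=
      hyX _ (Submodule.mem_sup_left (Submodule.mem_sup_right
        (Submodule.mem_span_singleton_self _)))
    have hy₂ : QuadraticMap.polar (⇑Q) (w - w') y = 0 :=
      hyX _ (Submodule.mem_sup_right (Submodule.mem_span_singleton_self _))
    have hyw : QuadraticMap.polar (⇑Q) w y = 0 := by
      rw [QuadraticMap.polar_add_left] at hy₁
      rw [QuadraticMap.polar_sub_left] at hy₂
      have : ∀ a b : ZMod 3, a + b = 0 → a - b = 0 → a = 0 := by decide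
      exact this _ _ hy₁ hy₂
    refine ⟨y, hy, hyu, ?_⟩
    rw [hvw, QuadraticMap.polar_add_left, QuadraticMap.polar_smul_left, hyu, hyw, smul_zero,
      add_zero]

/-- equal reflections have proportional centres -/
theorem eq_smul_of_refl_eq {u w : ι → ZMod 3} (hu : Q u ≠ 0) (hw : Q w ≠ 0)
    (h : refl Q u hu = refl Q w hw) : ∃ l : ZMod 3, w = l • u := by
  have h1 := refl_mulVec (Q := Q) u hu w
  have h2 := refl_mulVec (Q := Q) w hw w
  rw [h] at h1
  rw [h1] at h2
  rw [polar_self] at h2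
  have h3 : (Q w)⁻¹ * (2 * Q w) = 2 := by field_simp
  rw [h3] at h2
  refine ⟨2 * ((Q u)⁻¹ * QuadraticMap.polar (⇑Q) u w), ?_⟩
  -- `w - a • u = w - 2 • w`
  have h4 : ((Q u)⁻¹ * QuadraticMap.polar (⇑Q) u w) • u = (2 : ZMod 3) • w := by
    have := sub_right_injective h2
    exact this
  rw [mul_smul, h4, smul_smul]
  have : (2 : ZMod 3) * 2 = 1 := by decide
  rw [this, one_smul]

/-- orthogonal anisotropic vectors give different reflections -/
theorem refl_ne_of_polar_eq_zero {u w : ι → ZMod 3} (hu : Q u ≠ 0) (hw : Q w ≠ 0)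
    (huw : QuadraticMap.polar (⇑Q) u w = 0) : refl Q u hu ≠ refl Q w hw := by
  intro h
  obtain ⟨l, rfl⟩ := eq_smul_of_refl_eq hu hw h
  rw [QuadraticMap.polar_smul_right, polar_self, smul_eq_mul] at huw
  rcases mul_eq_zero.1 huw with h1 | h1
  · apply hw
    rw [h1, zero_smul, map_zero]
  · exact absurd h1 (mul_ne_zero zmod3_two_ne hu)

/-- for orthogonal `v`, `w` of norm `c` a vector `u` of norm `c` orthogonal to `v` but not to `w`,
with a reflection different from that of `w` -/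
theorem exists_sep_orth (hQ : (QuadraticMap.polarBilin Q).Nondegenerate)
    (hn : 5 ≤ Fintype.card ι) {c : ZMod 3} (hc : c ≠ 0) {v w : ι → ZMod 3} (hv : Q v = c)
    (hw : Q w = c) (hvw : QuadraticMap.polar (⇑Q) v w = 0) :
    ∃ (u : ι → ZMod 3) (hu : Q u = c), QuadraticMap.polar (⇑Q) v u = 0 ∧
      QuadraticMap.polar (⇑Q) w u ≠ 0 ∧
      refl Q u (by rw [hu]; exact hc) ≠ refl Q w (by rw [hw]; exact hc) := by
  obtain ⟨p, hp0, hpX, hp⟩ := exists_singular_perp (Q := Q) (Submodule.span (ZMod 3) {v, w})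
    (by have := Cfsg.Agent.H9Orth.finrank_span_pair_le (F := ZMod 3) v w; omega) hQ
  have hvp := hpX v (Submodule.subset_span (by simp))
  have hwp := hpX w (Submodule.subset_span (by simp))
  have hu : Q (w + p) = c := by
    rw [QuadraticMap.map_add Q w p, hw, hp, hwp]; ring
  refine ⟨w + p, hu, ?_, ?_, ?_⟩
  · rw [QuadraticMap.polar_add_right, hvw, hvp, add_zero]
  · rw [QuadraticMap.polar_add_right, polar_self, hwp, hw, add_zero]
    exact mul_ne_zero zmod3_two_ne hc
  · intro h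
    obtain ⟨l, hl⟩ := eq_smul_of_refl_eq _ _ h
    -- `w = l • (w + p)`
    have h1 : QuadraticMap.polar (⇑Q) w w = l * QuadraticMap.polar (⇑Q) w (w + p) := by
      have h0 : QuadraticMap.polar (⇑Q) w w = QuadraticMap.polar (⇑Q) w (l • (w + p)) := by
        rw [← hl]
      rw [h0, QuadraticMap.polar_smul_right, smul_eq_mul]
    rw [QuadraticMap.polar_add_right, hwp, add_zero, polar_self, hw] at h1
    have hl1 : l = 1 := by
      have h2c : (2 : ZMod 3) * c ≠ 0 := mul_ne_zero zmod3_two_ne hc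
      have : (l - 1) * (2 * c) = 0 := by linear_combination -h1
      rcases mul_eq_zero.1 this with h3 | h3
      · exact sub_eq_zero.1 h3
      · exact absurd h3 h2c
    rw [hl1, one_smul] at hl
    apply hp0
    have := congrArg (fun t => t - w) hl
    simpa using this.symm

/-- for non-orthogonal, non-proportional `v`, `w` of norm `c` a vector `u` of norm `c` orthogonal
to `v` but not to `w` -/
theorem exists_sep_nonorth (hQ : (QuadraticMap.polarBilin Q).Nondegenerate)
    {c : ZMod 3} (hc : c ≠ 0) {v w : ι → ZMod 3} (hv : Q v = c)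
    (hw : Q w = c) (hvw : QuadraticMap.polar (⇑Q) v w ≠ 0) (hind : ∀ l : ZMod 3, w ≠ l • v) :
    ∃ u : ι → ZMod 3, Q u = c ∧ QuadraticMap.polar (⇑Q) v u = 0 ∧
      QuadraticMap.polar (⇑Q) w u ≠ 0 := by
  have hv0 : Q v ≠ 0 := by rw [hv]; exact hc
  have hw0 : Q w ≠ 0 := by rw [hw]; exact hc
  have hD : QuadraticMap.polar (⇑Q) v w ^ 2 - 4 * Q v * Q w = 0 := by
    rw [hv, hw]
    have : ∀ a c : ZMod 3, a ≠ 0 → c ≠ 0 → a ^ 2 - 4 * c * c = 0 := by decide
    exact this _ c hvw hc
  obtain ⟨s, α, hα, hws, hs, hvs, hs0⟩ := degenerate_decomp zmod3_two_ne v w hv0 hw0 hD hind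
  obtain ⟨s', hs', hss', hvs'⟩ := exists_partner_perp zmod3_two_ne hQ v s hv0 hs0 hs hvs
  -- `u = s' + c • s`
  refine ⟨s' + c • s, ?_, ?_, ?_⟩
  · rw [map_add_smul, hs', hs, QuadraticMap.polar_comm (⇑Q) s' s, hss']; ring
  · rw [QuadraticMap.polar_add_right, QuadraticMap.polar_smul_right, hvs, hvs', smul_zero, add_zero]
  · rw [hws, QuadraticMap.polar_add_left, QuadraticMap.polar_smul_left,
      QuadraticMap.polar_add_right, QuadraticMap.polar_add_right,
      QuadraticMap.polar_smul_right, QuadraticMap.polar_smul_right, hvs, hvs', hss', polar_self,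
      hs]
    simp

end Cfsg.Agent.H9Refl3
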