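import Mathlib
import Cfsg.Prelude.Def_FusionReduction
import Cfsg.Agent.Lib.Helper9.ResLim3
import Cfsg.Agent.Lib.Helper9.ResLim4
import Cfsg.Agent.Lib.Helper9.FusionNormal4

set_option autoImplicit false
set_option maxHeartbeats 1000000

/-! The residual limit of a normal subsystem of `p`-power index. -/

namespace Cfsg.Agent.Lib.Helper9.H9ResLim

open Cfsg Cfsg.FusionSystem Cfsg.Agent.Lib.Helper9

universe u

variable {Ω : Type u} [Group Ω]

theorem resLimit_ppowerIndex {S : Subgroup Ω} [Finite S] (p : ℕ) [hp : Fact p.Prime] (hS : IsPGroup p S)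
    (F : FusionSystem S) (hF : F.IsSaturated p) {T : Subgroup Ω} (E : FusionSystem T)
    (hEs : E.IsSaturated p) (hsc : F.StronglyClosed T) (hidx : E.HasPPowerIndexIn F p)
    {U V : Subgroup Ω} (Finf : FusionSystem U) (hFinf : Finf.IsResidualLimitOf F p)
    (Einf : FusionSystem V) (hEinf : Einf.IsResidualLimitOf E p) : SameMaps Finf Einf := by
  have hTS : T ≤ S := hsc.1
  have hTn := fs_stronglyClosed_le_normalizer F hsc
  haveI hTfin : Finite T := finite_of_le' hTS
  have hTp : IsPGroup p T := hS.to_le hTS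
  have heq := hyperfocal_eq_of_ppowerIndex p hS F hF hTS hTn E hidx
  have hle := hyperfocalSubgroup_le F p
  cases hFinf with
  | stable _ _ h1 h2 =>
    have hT : T = S := le_antisymm hTS (h1 ▸ hidx.2.1)
    have hsm : SameMaps E F :=
      ⟨hT, ppowerIndex_unique p hS F hT hTS E F hEs hF hidx (self_ppowerIndex F p)⟩
    exact (resLimit_unique hEinf hp hTfin hTp (IsResidualLimitOf.stable F p h1 h2) hsm).symm
  | step _ _ DF DF' hDF hDF' hlimF =>
    haveI : Finite ↥(F.hyperfocalSubgroup p) := finite_of_le' hle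
    cases hEinf with
    | stable _ _ h1 h2 =>
      have hT : T = F.hyperfocalSubgroup p := h1.symm.trans heq
      have hsm : SameMaps E DF :=
        ⟨hT, ppowerIndex_unique p hS F hT hTS E DF hEs hDF.1 hidx hDF.2⟩
      have hsm' : SameMaps DF' E := pPrime_unique hsm.symm DF' E hDF' h2
      exact resLimit_unique hlimF hp inferInstance (hS.to_le hle) (IsResidualLimitOf.stable E p h1 h2) hsm'
    | step _ _ DE DE' hDE hDE' hlimE =>
      have hsm : SameMaps DE DF := ⟨heq, pResidual_sameMaps p hS F hF hTS hTn E hidx DE hDE DF hDF⟩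
      have hsm' : SameMaps DF' DE' := pPrime_unique hsm.symm DF' DE' hDF' hDE'
      exact resLimit_unique hlimF hp inferInstance (hS.to_le hle) hlimE hsm'

end Cfsg.Agent.Lib.Helper9.H9ResLim
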