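import Mathlib
import Cfsg.Agent.Lib.Helper5.S3452_Base

/-!
# S3452 swarm, package MTP2 (helper9): `exists_tangent`

For `t₀² - 4` a non-square in `ZMod p` (`p` odd) there is `B ∈ SL₂(p)` with `tr B = t₀` and
`tr (C B) = t₀² / 2`, `C = !![0, -1; 1, t₀]`.  `B = t₀/2 + Y`, `Y = !![y₁, y₃ + t₀ y₁; y₃, -y₁]` with
`y₁² + t₀ y₁ y₃ + y₃² = (t₀² - 4)/4`: choose `y₃` with `1 + y₃²` a non-square, then
`(t₀² - 4)(1 + y₃²) = W²` and `y₁ = W/2 - t₀ y₃/2`.
Statement exactly as in `notes/S3452_stub.lean.txt` (helper5).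
-/

set_option autoImplicit false
set_option linter.unusedSectionVars false
set_option linter.unusedVariables false

namespace Cfsg.Agent.Lib.S3452

open Matrix

section main
variable (p : ℕ) [Fact p.Prime]

theorem mtp2_two_ne_zero (hp : p ≠ 2) : (2 : ZMod p) ≠ 0 := by
  intro h
  have h2 : ((2 : ℕ) : ZMod p) = 0 := by exact_mod_cast h
  rw [ZMod.natCast_eq_zero_iff] at h2
  exact hp ((Nat.prime_dvd_prime_iff_eq (Fact.out : p.Prime) Nat.prime_two).mp h2)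

/-- if there is a non-square at all, some `1 + y²` is a non-square -/
theorem mtp2_exists_nonsquare (d : ZMod p) (hd : ¬ IsSquare d) : ∃ y : ZMod p, ¬ IsSquare (1 + y ^ 2) := by
  by_contra hcon
  push Not at hcon
  have hall : ∀ n : ℕ, IsSquare ((n : ZMod p)) := by
    intro n
    induction n with
    | zero => exact ⟨0, by simp⟩
    | succ n ih =>
      obtain ⟨z, hz⟩ := ih
      have := hcon z
      rwa [pow_two, ← hz, add_comm, ← Nat.cast_succ] at this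
  apply hd
  have := hall d.val
  rwa [ZMod.natCast_zmod_val] at this

/-- the product of two non-squares of `ZMod p` is a square -/
theorem mtp2_isSquare_mul (a b : ZMod p) (ha : ¬ IsSquare a) (hb : ¬ IsSquare b) : IsSquare (a * b) := by
  have ha0 : a ≠ 0 := by rintro rfl; exact ha ⟨0, by simp⟩
  have hb0 : b ≠ 0 := by rintro rfl; exact hb ⟨0, by simp⟩
  have hab0 : a * b ≠ 0 := mul_ne_zero ha0 hb0
  rw [ZMod.euler_criterion p ha0] at ha
  rw [ZMod.euler_criterion p hb0] at hb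
  rw [ZMod.euler_criterion p hab0, mul_pow]
  rcases ZMod.pow_div_two_eq_neg_one_or_one p ha0 with h | h
  · exact absurd h ha
  rcases ZMod.pow_div_two_eq_neg_one_or_one p hb0 with h' | h'
  · exact absurd h' hb
  rw [h, h']; ring

theorem exists_tangent (hp : p ≠ 2) (t₀ : ZMod p) (hns : ¬ IsSquare (t₀ ^ 2 - 4)) :
    ∃ B : SLp p, (B : Matrix (Fin 2) (Fin 2) (ZMod p)).trace = t₀ ∧
      ((!![0, -1; 1, t₀] : Matrix (Fin 2) (Fin 2) (ZMod p)) * (B : Matrix (Fin 2) (Fin 2) (ZMod p))).trace =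
        t₀ ^ 2 / 2 := by
  have h2 : (2 : ZMod p) ≠ 0 := mtp2_two_ne_zero p hp
  obtain ⟨y₃, hy₃⟩ := mtp2_exists_nonsquare p _ hns
  obtain ⟨W, hW⟩ := mtp2_isSquare_mul p _ _ hns hy₃
  set y₁ : ZMod p := W / 2 - t₀ * y₃ / 2 with hy₁
  have hkey : y₁ ^ 2 + t₀ * y₁ * y₃ + y₃ ^ 2 = (t₀ ^ 2 - 4) / 4 := by
    have h4 : (4 : ZMod p) ≠ 0 := by
      have : (4 : ZMod p) = 2 * 2 := by norm_num
      rw [this]; exact mul_ne_zero h2 h2
    rw [hy₁]
    field_simp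
    linear_combination (-4 : ZMod p) * hW
  have hdet : (!![t₀ / 2 + y₁, y₃ + t₀ * y₁; y₃, t₀ / 2 - y₁] : Matrix (Fin 2) (Fin 2) (ZMod p)).det = 1 := by
    rw [Matrix.det_fin_two_of]
    have h4 : (4 : ZMod p) ≠ 0 := by
      have : (4 : ZMod p) = 2 * 2 := by norm_num
      rw [this]; exact mul_ne_zero h2 h2
    have e : (t₀ / 2 + y₁) * (t₀ / 2 - y₁) - (y₃ + t₀ * y₁) * y₃
        = t₀ ^ 2 / 4 - (y₁ ^ 2 + t₀ * y₁ * y₃ + y₃ ^ 2) := by
      field_simp; ring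
    rw [e, hkey]
    field_simp; ring
  refine ⟨⟨!![t₀ / 2 + y₁, y₃ + t₀ * y₁; y₃, t₀ / 2 - y₁], hdet⟩, ?_, ?_⟩
  · show (!![t₀ / 2 + y₁, y₃ + t₀ * y₁; y₃, t₀ / 2 - y₁] : Matrix (Fin 2) (Fin 2) (ZMod p)).trace = t₀
    rw [Matrix.trace_fin_two_of]
    field_simp; ring
  · show ((!![0, -1; 1, t₀] : Matrix (Fin 2) (Fin 2) (ZMod p)) *
      (!![t₀ / 2 + y₁, y₃ + t₀ * y₁; y₃, t₀ / 2 - y₁] : Matrix (Fin 2) (Fin 2) (ZMod p))).trace = t₀ ^ 2 / 2
    rw [Matrix.mul_fin_two, Matrix.trace_fin_two_of]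
    field_simp; ring

end main

end Cfsg.Agent.Lib.S3452
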