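import Mathlib

set_option autoImplicit false

/-! Some explicit identities in `S₄`. -/

namespace Cfsg.Agent.H9S4

open Equiv

theorem conj03 : ∃ g : Perm (Fin 4), swap (0 : Fin 4) 3 = g * swap 0 1 * g⁻¹ := by decide
theorem conj02 : ∃ g : Perm (Fin 4), swap (0 : Fin 4) 2 = g * swap 0 1 * g⁻¹ := by decide
theorem conj13 : ∃ g : Perm (Fin 4), swap (1 : Fin 4) 3 = g * swap 0 1 * g⁻¹ := by decide

theorem comm_12_03 : swap (1 : Fin 4) 2 * swap 0 3 = swap 0 3 * swap 1 2 := by decide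
theorem ne_12_03 : swap (0 : Fin 4) 3 ≠ swap 1 2 := by decide
theorem comm_02_13 : swap (0 : Fin 4) 2 * swap 1 3 = swap 1 3 * swap 0 2 := by decide
theorem ne_02_13 : swap (1 : Fin 4) 3 ≠ swap 0 2 := by decide
theorem conj_12_01 : swap (1 : Fin 4) 2 * swap 0 1 * (swap 1 2)⁻¹ = swap 0 2 := by decide

/-- `x n_y x⁻¹ = n_y n_x` -/
theorem fact_i : swap (0 : Fin 4) 1 * (swap 1 2 * swap 0 3) * (swap 0 1)⁻¹
    = (swap 1 2 * swap 0 3) * (swap 0 1 * swap 2 3) := by decide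

/-- `n_{y x y⁻¹} = n_x n_y` -/
theorem fact_ii : swap (0 : Fin 4) 2 * swap 1 3 = (swap 0 1 * swap 2 3) * (swap 1 2 * swap 0 3) := by
  decide

/-- `n_x` and `n_y` commute -/
theorem fact_iii : (swap (0 : Fin 4) 1 * swap 2 3) * (swap 1 2 * swap 0 3)
    = (swap 1 2 * swap 0 3) * (swap 0 1 * swap 2 3) := by decide

end Cfsg.Agent.H9S4
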