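import Mathlib
import Cfsg.Prelude.Def_Sporadic_a
import Cfsg.Prelude.Def_SporadicCombinatorics
import Cfsg.Agent.Lib.Helper9.CentTools
import Cfsg.Agent.Lib.Helper9.SextetAct
import Cfsg.Agent.Lib.Helper9.S5607Data

set_option autoImplicit false
open Cfsg

/-! Boolean certificates for the centralizer of a reference fixed-point-free involution. -/

namespace Cfsg.Agent.Lib.Helper9.M24

open scoped Pointwise
open Cfsg.Agent.Lib.Helper1 (gIdx ofMask cw popcN)

/-- The four-point mask whose sextet is fixed by the centralizer. -/
def s5607_m0 : ℕ := 8405001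

/-- The orbit of the point `1` under the stabilizer of the extra point in the centralizer. -/
def s5607_T1 : List ℕ := [1, 2, 4, 5, 6, 7, 8, 9, 10, 11, 12, 13, 15, 16, 17, 18, 19, 20, 21, 22]

/-- Sextet fixing test through the slow mask image (cheaper for a single evaluation). -/
def sextFixS (a : List ℕ) (m : ℕ) : Bool := isCodeF (m ^^^ pmask a m)

theorem sextFixS_eq {a : List ℕ} (h : tabOK a = true) {m : ℕ} (hm : m < 2 ^ 24) :
    sextFixS a m = sextFixB a m := by
  unfold sextFixS sextFixB
  rw [pmaskF_eq h hm]

theorem fpfRef_ok : (tabOK fpfRef && tabM24 fpfRef && isInvol fpfRef && isFpf fpfRef &&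
    sextFixS fpfRef s5607_m0) = true := by decide +kernel

theorem fpfRef_tabOK : tabOK fpfRef = true := by
  have h := fpfRef_ok
  simp only [Bool.and_eq_true] at h
  exact h.1.1.1.1

theorem m0_lt : s5607_m0 < 2 ^ 24 := by decide

theorem m0_card : (mset s5607_m0).card = 4 := by rw [card_mset]; decide +kernel

/-- Test for members of the centralizer fixing the reference sextet. -/
def centOK (a : List ℕ) : Bool := tabOK a && tabM24 a && commOK a fpfRef && sextFixS a s5607_m0

theorem centOK_spec {a : List ℕ} (h : centOK a = true) :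
    tabOK a = true ∧ tperm a ∈ centM (tperm fpfRef) ∧
      tperm a • sextOf (mset s5607_m0) = sextOf (mset s5607_m0) := by
  unfold centOK at h
  simp only [Bool.and_eq_true] at h
  obtain ⟨⟨⟨h1, h2⟩, h3⟩, h4⟩ := h
  have hm := tperm_mem h1 h2
  rw [sextFixS_eq h1 m0_lt] at h4
  exact ⟨h1, ⟨hm, comm_of_commOK h1 fpfRef_tabOK h3⟩, (smul_sextOf_mset_iff h1 hm m0_lt m0_card).mpr h4⟩

theorem D0_ok : (List.range 24).all (fun q => s5607_D0.any (fun a => (tget a 23 == q) && centOK a)) = true := by
  decide +kernel

theorem D1_ok : s5607_T1.all (fun q => s5607_D1.any (fun a => (tget a 23 == 23) &&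
    (tget a 1 == q) && centOK a)) = true := by decide +kernel

theorem C2_ok : s5607_C2.all (fun a => (tget a 23 == 23) && (tget a 1 == 1) && centOK a) = true := by
  decide +kernel

theorem C2_nodup : (s5607_C2.map tkey).Nodup := by decide +kernel

theorem C2_len : s5607_C2.length = 16 := by decide

/-- A pattern table with prescribed values on the base points. -/
def patAt (u : List ℕ) (v0 v1 v2 v3 v4 : ℕ) : Bool :=
  (tget u 23 == v0) && (tget u 0 == v1) && (tget u 1 == v2) && (tget u 2 == v3) && (tget u 3 == v4) && patOK' u

/-- No candidate of the pattern commutes with the reference involution. -/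
def noCand (u : List ℕ) : Bool := F48.all (fun f => !(commOK (tmul u f) fpfRef))

/-- Every commuting candidate of the pattern is in the list. -/
def candIn (u : List ℕ) : Bool :=
  F48.all (fun f => !(commOK (tmul u f) fpfRef) || s5607_C2.contains (tmul u f))

theorem bad_ok : [3, 14].all (fun q1 => (List.range 24).all (fun q3 => (q3 == 23) || (q3 == 0) || (q3 == q1) ||
    (q3 == tget fpfRef q1) ||
    s5607_Ubad.any (fun u => patAt u 23 0 q1 (tget fpfRef q1) q3 && noCand u))) = true := by
  decide +kernel

theorem good_ok : (List.range 24).all (fun q3 => (q3 == 23) || (q3 == 0) || (q3 == 1) || (q3 == 2) ||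
    s5607_Ugood.any (fun u => patAt u 23 0 1 2 q3 && candIn u)) = true := by
  decide +kernel

end Cfsg.Agent.Lib.Helper9.M24
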