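import Mathlib
import Cfsg.Prelude.Def_Sporadic_a
import Cfsg.Prelude.Def_SporadicCombinatorics
import Cfsg.Agent.Lib.Helper9.S5607Chk

set_option autoImplicit false
open Cfsg

/-! The centralizer of a reference fixed-point-free involution in the group of the code. -/

namespace Cfsg.Agent.Lib.Helper9.M24

open scoped Pointwise
open Cfsg.Agent.Lib.Helper1 (gIdx ofMask cw popcN)

theorem perm_inv_apply_self (f : Equiv.Perm GolayPt) (x : GolayPt) : f⁻¹ (f x) = x :=
  Equiv.Perm.inv_eq_iff_eq.mpr rfl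

/-- The index of the image of the `i`-th point. -/
def cN (c : Equiv.Perm GolayPt) (i : ℕ) : ℕ := natOfPt (c (ptOfNat i))

theorem cN_lt (c : Equiv.Perm GolayPt) (i : ℕ) : cN c i < 24 := natOfPt_lt _

theorem ptOfNat_inj {i j : ℕ} (hi : i < 24) (hj : j < 24) (h : ptOfNat i = ptOfNat j) : i = j := by
  rw [← natOfPt_ptOfNat i hi, ← natOfPt_ptOfNat j hj, h]

theorem cN_inj (c : Equiv.Perm GolayPt) {i j : ℕ} (hi : i < 24) (hj : j < 24) (h : cN c i = cN c j) :
    i = j :=
  ptOfNat_inj hi hj (c.injective (natOfPt_injective h))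

theorem cN_comm {c : Equiv.Perm GolayPt} (hc : c ∈ centM (tperm fpfRef)) {i : ℕ} (hi : i < 24) :
    cN c (tget fpfRef i) = tget fpfRef (cN c i) := by
  unfold cN
  rw [← tperm_ptOfNat fpfRef_tabOK hi]
  exact comm_apply fpfRef_tabOK hc.2 _

/-- The levels of the stabilizer chain. -/
def s5607_K1 : Subgroup (Equiv.Perm GolayPt) :=
  centM (tperm fpfRef) ⊓ MulAction.stabilizer (Equiv.Perm GolayPt) (none : GolayPt)

def s5607_K2 : Subgroup (Equiv.Perm GolayPt) :=
  s5607_K1 ⊓ MulAction.stabilizer (Equiv.Perm GolayPt) (some 1 : GolayPt)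

theorem mem_K1 {c : Equiv.Perm GolayPt} : c ∈ s5607_K1 ↔ c ∈ centM (tperm fpfRef) ∧ cN c 23 = 23 := by
  unfold s5607_K1 cN
  rw [Subgroup.mem_inf, MulAction.mem_stabilizer_iff]
  constructor
  · rintro ⟨h1, h2⟩
    refine ⟨h1, ?_⟩
    show natOfPt (c none) = 23
    rw [show c none = c • (none : GolayPt) from rfl, h2]
    rfl
  · rintro ⟨h1, h2⟩
    refine ⟨h1, ?_⟩
    apply natOfPt_injective
    exact h2

theorem mem_K2 {c : Equiv.Perm GolayPt} : c ∈ s5607_K2 ↔ c ∈ s5607_K1 ∧ cN c 1 = 1 := by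
  unfold s5607_K2 cN
  rw [Subgroup.mem_inf, MulAction.mem_stabilizer_iff]
  constructor
  · rintro ⟨h1, h2⟩
    refine ⟨h1, ?_⟩
    show natOfPt (c (some 1)) = 1
    rw [show c (some 1) = c • (some 1 : GolayPt) from rfl, h2]
    rfl
  · rintro ⟨h1, h2⟩
    refine ⟨h1, ?_⟩
    apply natOfPt_injective
    exact h2

theorem cN_tperm {a : List ℕ} (h : tabOK a = true) {i : ℕ} (hi : i < 24) : cN (tperm a) i = tget a i := by
  unfold cN
  rw [natOfPt_tperm h, natOfPt_ptOfNat i hi]

/-- Elements of the centralizer moving the extra point anywhere. -/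
theorem exists_D0 {q : ℕ} (hq : q < 24) : ∃ d ∈ centM (tperm fpfRef), cN d 23 = q ∧
    d • sextOf (mset s5607_m0) = sextOf (mset s5607_m0) := by
  have h := List.all_eq_true.mp D0_ok q (List.mem_range.mpr hq)
  rw [List.any_eq_true] at h
  obtain ⟨a, -, ha⟩ := h
  rw [Bool.and_eq_true, beq_iff_eq] at ha
  obtain ⟨h1, h2, h3⟩ := centOK_spec ha.2
  exact ⟨tperm a, h2, by rw [cN_tperm h1 (by norm_num)]; exact ha.1, h3⟩

theorem exists_D1 {q : ℕ} (hq : q ∈ s5607_T1) : ∃ d ∈ s5607_K1, cN d 1 = q ∧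
    d • sextOf (mset s5607_m0) = sextOf (mset s5607_m0) := by
  have h := List.all_eq_true.mp D1_ok q hq
  rw [List.any_eq_true] at h
  obtain ⟨a, -, ha⟩ := h
  rw [Bool.and_eq_true, Bool.and_eq_true, beq_iff_eq, beq_iff_eq] at ha
  obtain ⟨h1, h2, h3⟩ := centOK_spec ha.2
  refine ⟨tperm a, mem_K1.mpr ⟨h2, by rw [cN_tperm h1 (by norm_num)]; exact ha.1.1⟩, ?_, h3⟩
  rw [cN_tperm h1 (by norm_num)]
  exact ha.1.2

theorem patAt_spec {u : List ℕ} {v0 v1 v2 v3 v4 : ℕ} (h : patAt u v0 v1 v2 v3 v4 = true) :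
    patOK' u = true ∧ tget u 23 = v0 ∧ tget u 0 = v1 ∧ tget u 1 = v2 ∧ tget u 2 = v3 ∧ tget u 3 = v4 := by
  unfold patAt at h
  simp only [Bool.and_eq_true, beq_iff_eq] at h
  obtain ⟨⟨⟨⟨⟨h1, h2⟩, h3⟩, h4⟩, h5⟩, h0⟩ := h
  exact ⟨h0, h1, h2, h3, h4, h5⟩

theorem K1_zero {c : Equiv.Perm GolayPt} (hc : c ∈ s5607_K1) : cN c 0 = 0 := by
  obtain ⟨h1, h2⟩ := mem_K1.mp hc
  have := cN_comm h1 (i := 23) (by norm_num)
  rw [h2] at this
  exact this

theorem T1_cases : ∀ q < 24, q ≠ 23 → q ≠ 0 → q ≠ 3 → q ≠ 14 → q ∈ s5607_T1 := by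
  intro q hq h1 h2 h3 h4
  unfold s5607_T1
  interval_cases q <;> simp_all

/-- The image of the point `1` under an element of the first level lies in the list. -/
theorem K1_image {c : Equiv.Perm GolayPt} (hc : c ∈ s5607_K1) : cN c 1 ∈ s5607_T1 := by
  obtain ⟨hcent, h23⟩ := mem_K1.mp hc
  have h0 := K1_zero hc
  have h2 : cN c 2 = tget fpfRef (cN c 1) := cN_comm hcent (i := 1) (by norm_num)
  have hbad : ∀ q1 ∈ [3, 14], cN c 1 ≠ q1 := by
    intro q1 hq1 heq
    have hb := List.all_eq_true.mp bad_ok q1 hq1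
    have hb3 := List.all_eq_true.mp hb (cN c 3) (List.mem_range.mpr (cN_lt c 3))
    simp only [Bool.or_eq_true, beq_iff_eq, List.any_eq_true, Bool.and_eq_true] at hb3
    rcases hb3 with (((hb3 | hb3) | hb3) | hb3) | hb3
    · rw [← h23] at hb3
      exact absurd (cN_inj c (by norm_num) (by norm_num) hb3) (by norm_num)
    · rw [← h0] at hb3
      exact absurd (cN_inj c (by norm_num) (by norm_num) hb3) (by norm_num)
    · rw [← heq] at hb3
      exact absurd (cN_inj c (by norm_num) (by norm_num) hb3) (by norm_num)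
    · rw [← heq, ← h2] at hb3
      exact absurd (cN_inj c (by norm_num) (by norm_num) hb3) (by norm_num)
    · obtain ⟨u, -, hpat, hno⟩ := hb3
      obtain ⟨hu, e0, e1, e2, e3, e4⟩ := patAt_spec hpat
      obtain ⟨f, hf, hok, hcomm, -⟩ := cent_candidates fpfRef_tabOK hu hcent
        (by rw [e0]; exact h23) (by rw [e1]; exact h0) (by rw [e2]; exact heq)
        (by rw [e3, ← heq]; exact h2) (by rw [e4]; rfl)
      unfold noCand at hno
      have := List.all_eq_true.mp hno f hf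
      rw [hcomm] at this
      simp at this
  apply T1_cases _ (cN_lt c 1)
  · intro h
    rw [← h23] at h
    exact absurd (cN_inj c (by norm_num) (by norm_num) h) (by norm_num)
  · intro h
    rw [← h0] at h
    exact absurd (cN_inj c (by norm_num) (by norm_num) h) (by norm_num)
  · exact hbad 3 (by simp)
  · exact hbad 14 (by simp)

/-- The second level is the explicit list of sixteen elements. -/
theorem K2_cases {c : Equiv.Perm GolayPt} (hc : c ∈ s5607_K2) : ∃ a ∈ s5607_C2, c = tperm a := by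
  obtain ⟨hc1, h1⟩ := mem_K2.mp hc
  obtain ⟨hcent, h23⟩ := mem_K1.mp hc1
  have h0 := K1_zero hc1
  have h2 : cN c 2 = 2 := by
    have := cN_comm hcent (i := 1) (by norm_num)
    rw [h1] at this
    exact this
  have hg := List.all_eq_true.mp good_ok (cN c 3) (List.mem_range.mpr (cN_lt c 3))
  simp only [Bool.or_eq_true, beq_iff_eq, List.any_eq_true, Bool.and_eq_true] at hg
  rcases hg with (((hg | hg) | hg) | hg) | hg
  · rw [← h23] at hg
    exact absurd (cN_inj c (by norm_num) (by norm_num) hg) (by norm_num)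
  · rw [← h0] at hg
    exact absurd (cN_inj c (by norm_num) (by norm_num) hg) (by norm_num)
  · rw [← h1] at hg
    exact absurd (cN_inj c (by norm_num) (by norm_num) hg) (by norm_num)
  · rw [← h2] at hg
    exact absurd (cN_inj c (by norm_num) (by norm_num) hg) (by norm_num)
  · obtain ⟨u, -, hpat, hin⟩ := hg
    obtain ⟨hu, e0, e1, e2, e3, e4⟩ := patAt_spec hpat
    obtain ⟨f, hf, hok, hcomm, hcf⟩ := cent_candidates fpfRef_tabOK hu hcent
      (by rw [e0]; exact h23) (by rw [e1]; exact h0) (by rw [e2]; exact h1)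
      (by rw [e3]; exact h2) (by rw [e4]; rfl)
    unfold candIn at hin
    have := List.all_eq_true.mp hin f hf
    rw [hcomm] at this
    simp only [Bool.not_true, Bool.false_or, List.contains_iff_mem] at this
    exact ⟨_, this, hcf⟩

theorem C2_spec {a : List ℕ} (ha : a ∈ s5607_C2) : tabOK a = true ∧ tperm a ∈ s5607_K2 ∧
    tperm a • sextOf (mset s5607_m0) = sextOf (mset s5607_m0) := by
  have h := List.all_eq_true.mp C2_ok a ha
  rw [Bool.and_eq_true, Bool.and_eq_true, beq_iff_eq, beq_iff_eq] at h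
  obtain ⟨h1, h2, h3⟩ := centOK_spec h.2
  refine ⟨h1, ?_, h3⟩
  rw [mem_K2, mem_K1, cN_tperm h1 (by norm_num), cN_tperm h1 (by norm_num)]
  exact ⟨⟨h2, h.1.1⟩, h.1.2⟩

theorem card_K2 : Nat.card s5607_K2 = 16 := by
  classical
  have hset : (s5607_K2 : Set (Equiv.Perm GolayPt)) = ↑(s5607_C2.toFinset.image tperm) := by
    ext c
    rw [Finset.coe_image, List.coe_toFinset]
    constructor
    · intro hc
      obtain ⟨a, ha, rfl⟩ := K2_cases hc
      exact ⟨a, ha, rfl⟩
    · rintro ⟨a, ha, rfl⟩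
      exact (C2_spec ha).2.1
  have hinj : Set.InjOn tperm (s5607_C2.toFinset : Set (List ℕ)) := by
    intro a ha b hb hab
    rw [List.coe_toFinset] at ha hb
    have hk := tkey_eq_of_tperm_eq (C2_spec ha).1 (C2_spec hb).1 hab
    exact List.inj_on_of_nodup_map C2_nodup ha hb hk
  have hnd : s5607_C2.Nodup := List.Nodup.of_map _ C2_nodup
  show Nat.card (s5607_K2 : Set (Equiv.Perm GolayPt)) = 16
  rw [hset, Nat.card_coe_set_eq, Set.ncard_coe_finset, Finset.card_image_of_injOn hinj,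
    List.toFinset_card_of_nodup hnd, C2_len]

/-- The finite set of points with indices in the list. -/
def s5607_T1set : Finset GolayPt := (s5607_T1.map ptOfNat).toFinset

theorem card_T1set : s5607_T1set.card = 20 := by decide

theorem card_K1 : Nat.card s5607_K1 = 320 := by
  have h := card_eq_orbit_mul s5607_K1 (some 1) s5607_T1set ?_ ?_
  · rw [h, card_T1set]
    show 20 * Nat.card s5607_K2 = 320
    rw [card_K2]
  · intro g hg
    have := K1_image hg
    unfold s5607_T1set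
    rw [List.mem_toFinset, List.mem_map]
    exact ⟨_, this, ptOfNat_natOfPt _⟩
  · intro y hy
    unfold s5607_T1set at hy
    rw [List.mem_toFinset, List.mem_map] at hy
    obtain ⟨q, hq, rfl⟩ := hy
    obtain ⟨d, hd, hdq, -⟩ := exists_D1 hq
    refine ⟨d, hd, ?_⟩
    rw [← hdq]
    exact (ptOfNat_natOfPt _).symm

theorem card_K0 : Nat.card ↥(centM (tperm fpfRef)) = 7680 := by
  have h := card_eq_orbit_mul (centM (tperm fpfRef)) none Finset.univ (fun _ _ => Finset.mem_univ _) ?_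
  · rw [h]
    show Finset.univ.card * Nat.card s5607_K1 = 7680
    rw [card_K1]
    rfl
  · intro y _
    obtain ⟨d, hd, hdq, -⟩ := exists_D0 (natOfPt_lt y)
    refine ⟨d, hd, ?_⟩
    apply natOfPt_injective
    exact hdq

/-- Every element of the centralizer fixes the reference sextet. -/
theorem K0_fix_sext {c : Equiv.Perm GolayPt} (hc : c ∈ centM (tperm fpfRef)) :
    c • sextOf (mset s5607_m0) = sextOf (mset s5607_m0) := by
  obtain ⟨d0, hd0, hd0q, hd0S⟩ := exists_D0 (cN_lt c 23)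
  -- c1 = d0⁻¹ c fixes the extra point
  have hc1 : d0⁻¹ * c ∈ s5607_K1 := by
    rw [mem_K1]
    refine ⟨Subgroup.mul_mem _ (Subgroup.inv_mem _ hd0) hc, ?_⟩
    unfold cN at hd0q ⊢
    rw [Equiv.Perm.mul_apply, ← natOfPt_injective hd0q, perm_inv_apply_self]
    rfl
  obtain ⟨d1, hd1, hd1q, hd1S⟩ := exists_D1 (K1_image hc1)
  have hc2 : d1⁻¹ * (d0⁻¹ * c) ∈ s5607_K2 := by
    rw [mem_K2]
    refine ⟨Subgroup.mul_mem _ (Subgroup.inv_mem _ hd1) hc1, ?_⟩
    unfold cN at hd1q ⊢
    rw [Equiv.Perm.mul_apply, ← natOfPt_injective hd1q, perm_inv_apply_self]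
    rfl
  obtain ⟨a, ha, hca⟩ := K2_cases hc2
  have hS := (C2_spec ha).2.2
  rw [← hca, mul_smul, mul_smul, inv_smul_eq_iff, hd1S, inv_smul_eq_iff, hd0S] at hS
  exact hS

/-- The centralizer is transitive on the points. -/
theorem K0_transitive (p q : GolayPt) : ∃ c ∈ centM (tperm fpfRef), c p = q := by
  obtain ⟨dp, hdp, hdpq, -⟩ := exists_D0 (natOfPt_lt p)
  obtain ⟨dq, hdq, hdqq, -⟩ := exists_D0 (natOfPt_lt q)
  refine ⟨dq * dp⁻¹, Subgroup.mul_mem _ hdq (Subgroup.inv_mem _ hdp), ?_⟩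
  have e1 : dp none = p := natOfPt_injective hdpq
  have e2 : dq none = q := natOfPt_injective hdqq
  rw [Equiv.Perm.mul_apply, ← e1, perm_inv_apply_self, e2]

end Cfsg.Agent.Lib.Helper9.M24
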