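import Mathlib
import Cfsg.Prelude.Def_Sporadic_a
import Cfsg.Prelude.Def_SporadicCombinatorics
import Cfsg.Agent.Lib.Helper9.M24Ord7b
import Cfsg.Agent.Lib.Helper9.S5607Ref
import Cfsg.Agent.Lib.Helper9.OrbitFam

set_option autoImplicit false
open Cfsg

/-! Boolean certificates for the normalizer of the reference subgroup of order 7. -/

namespace Cfsg.Agent.Lib.Helper9.M24

open scoped Pointwise

/-- The table of the `i`-th power of the reference element. -/
def g7p (i : ℕ) : List ℕ := g7pows.getD i []

theorem g7p_ok : (List.range 7).all (fun i => (List.range 24).all fun x => tget (g7p i) x == tpow g7 i x) = true := by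
  decide +kernel

theorem g7p_spec {i x : ℕ} (hi : i ≤ 6) (hx : x < 24) : tget (g7p i) x = tpow g7 i x := by
  have h := List.all_eq_true.mp g7p_ok i (List.mem_range.mpr (by omega))
  have h2 := List.all_eq_true.mp h x (List.mem_range.mpr hx)
  rwa [beq_iff_eq] at h2

/-- Relation test: `n * g = g ^ i * n` on tables. -/
def relOK (n : List ℕ) (i : ℕ) : Bool :=
  (List.range 24).all fun x => tget n (tget g7 x) == tget (g7p i) (tget n x)

/-- The pair of octad masks of the trio fixed by the normalizer. -/
def s5604_trio : ℕ × ℕ := (1584464, 6656640)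

theorem s5604_trio_ok : vTrioB s5604_trio = true := by decide +kernel

/-- Trio fixing test through the slow mask image. -/
def trioFixS (a : List ℕ) (z : ℕ × ℕ) : Bool :=
  (pmask a z.1 == z.1 || pmask a z.1 == z.2 || pmask a z.1 == 16777215 ^^^ (z.1 ||| z.2)) &&
    (pmask a z.2 == z.1 || pmask a z.2 == z.2 || pmask a z.2 == 16777215 ^^^ (z.1 ||| z.2))

/-- The list of normalizing tables with a given exponent. -/
def s5604_N : ℕ → List (List ℕ)
  | 1 => s5604_N1
  | 2 => s5604_N2
  | 4 => s5604_N4
  | _ => []

/-- Membership test for the normalizer with exponent `i`, fixing the reference trio. -/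
def normOK (a : List ℕ) (i : ℕ) : Bool := tabOK a && tabM24 a && relOK a i && trioFixS a s5604_trio

theorem N1_ok : s5604_N1.all (fun a => normOK a 1) = true := by decide +kernel
theorem N2_ok : s5604_N2.all (fun a => normOK a 2) = true := by decide +kernel
theorem N4_ok : s5604_N4.all (fun a => normOK a 4) = true := by decide +kernel

theorem N1_len : s5604_N1.length = 42 := by decide
theorem N2_len : s5604_N2.length = 42 := by decide
theorem N4_len : s5604_N4.length = 42 := by decide

theorem N_nodup : ((s5604_N1 ++ s5604_N2 ++ s5604_N4).map tkey).Nodup := by decide +kernel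

/-- The candidate check for exponent `i`. -/
def normChk (i : ℕ) : Bool := (List.range 24).all fun q =>
  (tget (g7p i) q == q) || s5604_NU.any fun u =>
    patAt u q (tget (g7p i) q) (tget (g7p i) (tget (g7p i) q))
      (tget (g7p i) (tget (g7p i) (tget (g7p i) q)))
      (tget (g7p i) (tget (g7p i) (tget (g7p i) (tget (g7p i) q)))) &&
    F48.all fun f => !(relOK (tmul u f) i) || (s5604_N i).contains (tmul u f)

theorem normChk1 : normChk 1 = true := by decide +kernel
theorem normChk2 : normChk 2 = true := by decide +kernel
theorem normChk3 : normChk 3 = true := by decide +kernel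
theorem normChk4 : normChk 4 = true := by decide +kernel
theorem normChk5 : normChk 5 = true := by decide +kernel
theorem normChk6 : normChk 6 = true := by decide +kernel

/-- A non-commuting pair in the centralizer. -/
def s5604_x : List ℕ := [1, 2, 3, 14, 18, 23, 16, 8, 12, 6, 9, 7, 10, 21, 5, 11, 20, 17, 4, 15, 22, 19, 13, 0]
def s5604_y : List ℕ := [11, 20, 8, 13, 18, 19, 12, 2, 15, 23, 7, 21, 14, 16, 10, 0, 1, 4, 17, 22, 9, 5, 3, 6]

theorem xy_ok : (s5604_N1.contains s5604_x && s5604_N1.contains s5604_y &&
    (List.range 24).any (fun p => tget s5604_x (tget s5604_y p) != tget s5604_y (tget s5604_x p))) = true := by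
  decide +kernel

end Cfsg.Agent.Lib.Helper9.M24
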