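import Mathlib
import Cfsg.Prelude.Def_Sporadic_a
import Cfsg.Prelude.Def_SporadicCombinatorics
import Cfsg.Agent.Lib.Helper9.S5604Chk

set_option autoImplicit false
open Cfsg

/-! The normalizer and centralizer of the reference subgroup of order 7 of the group of the code. -/

namespace Cfsg.Agent.Lib.Helper9.M24

open scoped Pointwise

/-- The relation `n * t = t ^ i * n` read on indices. -/
theorem rel_apply {n : Equiv.Perm GolayPt} {i : ℕ} (hi : i ≤ 6)
    (hrel : n * tperm g7 = tperm g7 ^ i * n) {x : ℕ} (hx : x < 24) :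
    cN n (tget g7 x) = tget (g7p i) (cN n x) := by
  unfold cN
  rw [← tperm_ptOfNat g7_tabOK hx, g7p_spec hi (natOfPt_lt _), ← natOfPt_pow g7_tabOK]
  have := congrArg (fun f : Equiv.Perm GolayPt => natOfPt (f (ptOfNat x))) hrel
  simpa only [Equiv.Perm.mul_apply] using this

theorem rel_of_relOK {a : List ℕ} (ha : tabOK a = true) {i : ℕ} (hi : i ≤ 6) (h : relOK a i = true) :
    tperm a * tperm g7 = tperm g7 ^ i * tperm a := by
  apply Equiv.ext
  intro p
  apply natOfPt_injective
  rw [Equiv.Perm.mul_apply, Equiv.Perm.mul_apply, natOfPt_tperm ha, natOfPt_tperm g7_tabOK,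
    natOfPt_pow g7_tabOK, natOfPt_tperm ha, ← g7p_spec hi (tget_lt ha (natOfPt_lt p))]
  unfold relOK at h
  have := List.all_eq_true.mp h (natOfPt p) (List.mem_range.mpr (natOfPt_lt p))
  rwa [beq_iff_eq] at this

theorem relOK_of_rel {a : List ℕ} (ha : tabOK a = true) {i : ℕ} (hi : i ≤ 6)
    (h : tperm a * tperm g7 = tperm g7 ^ i * tperm a) : relOK a i = true := by
  unfold relOK
  rw [List.all_eq_true]
  intro x hx
  rw [List.mem_range] at hx
  rw [beq_iff_eq]
  have := rel_apply hi h hx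
  rwa [cN_tperm ha (tget_lt g7_tabOK hx), cN_tperm ha hx] at this

theorem trioFixS_eq {a : List ℕ} (h : tabOK a = true) {z : ℕ × ℕ} (h1 : z.1 < 2 ^ 24) (h2 : z.2 < 2 ^ 24) :
    trioFixS a z = trioFixP a z := by
  unfold trioFixS trioFixP
  rw [pmaskF_eq h h1, pmaskF_eq h h2]

theorem s5604_trio_v : VTrio s5604_trio := vTrio_of_B s5604_trio_ok

theorem normOK_spec {a : List ℕ} {i : ℕ} (hi : i ≤ 6) (h : normOK a i = true) :
    tabOK a = true ∧ tperm a ∈ M24 ∧ tperm a * tperm g7 = tperm g7 ^ i * tperm a ∧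
      tperm a • trioF s5604_trio = trioF s5604_trio := by
  unfold normOK at h
  simp only [Bool.and_eq_true] at h
  obtain ⟨⟨⟨h1, h2⟩, h3⟩, h4⟩ := h
  have hm := tperm_mem h1 h2
  rw [trioFixS_eq h1 s5604_trio_v.1 s5604_trio_v.2.1] at h4
  exact ⟨h1, hm, rel_of_relOK h1 hi h3, smul_trioF_of_test h1 hm s5604_trio_v h4⟩

theorem normChk_all {i : ℕ} (h1 : 1 ≤ i) (h6 : i ≤ 6) : normChk i = true := by
  interval_cases i
  · exact normChk1
  · exact normChk2
  · exact normChk3
  · exact normChk4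
  · exact normChk5
  · exact normChk6

/-- Every element satisfying the relation with exponent `i` is in the list. -/
theorem rel_cases {n : Equiv.Perm GolayPt} (hn : n ∈ M24) {i : ℕ} (h1 : 1 ≤ i) (h6 : i ≤ 6)
    (hrel : n * tperm g7 = tperm g7 ^ i * n) : ∃ a ∈ s5604_N i, n = tperm a := by
  have hchk := List.all_eq_true.mp (normChk_all h1 h6) (cN n 23) (List.mem_range.mpr (cN_lt n 23))
  have r0 : cN n 0 = tget (g7p i) (cN n 23) := rel_apply h6 hrel (x := 23) (by norm_num)
  have r1 : cN n 1 = tget (g7p i) (cN n 0) := rel_apply h6 hrel (x := 0) (by norm_num)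
  have r2 : cN n 2 = tget (g7p i) (cN n 1) := rel_apply h6 hrel (x := 1) (by norm_num)
  have r3 : cN n 3 = tget (g7p i) (cN n 2) := rel_apply h6 hrel (x := 2) (by norm_num)
  rw [Bool.or_eq_true, beq_iff_eq, List.any_eq_true] at hchk
  rcases hchk with hq | ⟨u, -, hu⟩
  · exfalso
    rw [← r0] at hq
    exact absurd (cN_inj n (by norm_num) (by norm_num) hq) (by norm_num)
  · rw [Bool.and_eq_true] at hu
    obtain ⟨hpat, hall⟩ := hu
    obtain ⟨hu', e0, e1, e2, e3, e4⟩ := patAt_spec hpat
    obtain ⟨f, hf, hok, hnf⟩ := pattern_cases (patOK_of_patOK' hu') hn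
      (show natOfPt (n none) = tget u 23 by rw [e0]; rfl)
      (show natOfPt (n (some 0)) = tget u 0 by rw [e1, ← r0]; rfl)
      (show natOfPt (n (some 1)) = tget u 1 by rw [e2, ← r0, ← r1]; rfl)
      (show natOfPt (n (some 2)) = tget u 2 by rw [e3, ← r0, ← r1, ← r2]; rfl)
      (show natOfPt (n (some 3)) = tget u 3 by rw [e4, ← r0, ← r1, ← r2, ← r3]; rfl)
    have hr : relOK (tmul u f) i = true := relOK_of_rel hok h6 (by rw [← hnf]; exact hrel)
    have := List.all_eq_true.mp hall f hf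
    rw [hr] at this
    simp only [Bool.not_true, Bool.false_or, List.contains_iff_mem] at this
    exact ⟨_, this, hnf⟩

/-- The combined list of normalizing tables. -/
def s5604_Nall : List (List ℕ) := s5604_N1 ++ s5604_N2 ++ s5604_N4

theorem Nall_len : s5604_Nall.length = 126 := by
  unfold s5604_Nall
  rw [List.length_append, List.length_append, N1_len, N2_len, N4_len]

theorem Nall_spec {a : List ℕ} (ha : a ∈ s5604_Nall) : ∃ i, 1 ≤ i ∧ i ≤ 6 ∧ normOK a i = true := by
  unfold s5604_Nall at ha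
  rw [List.mem_append, List.mem_append] at ha
  rcases ha with (ha | ha) | ha
  · exact ⟨1, by norm_num, by norm_num, List.all_eq_true.mp N1_ok a ha⟩
  · exact ⟨2, by norm_num, by norm_num, List.all_eq_true.mp N2_ok a ha⟩
  · exact ⟨4, by norm_num, by norm_num, List.all_eq_true.mp N4_ok a ha⟩

/-- The normalizer of the reference subgroup, as a set of permutations. -/
def normRef : Set (Equiv.Perm GolayPt) :=
  {n | n ∈ M24 ∧ ∃ i, 1 ≤ i ∧ i ≤ 6 ∧ n * tperm g7 = tperm g7 ^ i * n}

theorem normRef_cases {n : Equiv.Perm GolayPt} (hn : n ∈ normRef) : ∃ a ∈ s5604_Nall, n = tperm a := by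
  obtain ⟨hm, i, h1, h6, hrel⟩ := hn
  obtain ⟨a, ha, hna⟩ := rel_cases hm h1 h6 hrel
  refine ⟨a, ?_, hna⟩
  unfold s5604_Nall
  rw [List.mem_append, List.mem_append]
  interval_cases i
  · exact Or.inl (Or.inl ha)
  · exact Or.inl (Or.inr ha)
  · exact absurd ha (by simp [s5604_N])
  · exact Or.inr ha
  · exact absurd ha (by simp [s5604_N])
  · exact absurd ha (by simp [s5604_N])

theorem card_image_tperm (L : List (List ℕ)) (hok : ∀ a ∈ L, tabOK a = true) (hnd : (L.map tkey).Nodup) :
    (L.toFinset.image tperm).card = L.length := by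
  classical
  have hinj : Set.InjOn tperm (L.toFinset : Set (List ℕ)) := by
    intro a ha b hb hab
    rw [List.coe_toFinset] at ha hb
    have hk := tkey_eq_of_tperm_eq (hok a ha) (hok b hb) hab
    exact List.inj_on_of_nodup_map hnd ha hb hk
  rw [Finset.card_image_of_injOn hinj, List.toFinset_card_of_nodup (List.Nodup.of_map _ hnd)]

theorem card_normRef : Nat.card normRef = 126 := by
  classical
  have hset : normRef = ↑(s5604_Nall.toFinset.image tperm) := by
    ext c
    rw [Finset.coe_image, List.coe_toFinset]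
    constructor
    · intro hc
      obtain ⟨a, ha, rfl⟩ := normRef_cases hc
      exact ⟨a, ha, rfl⟩
    · rintro ⟨a, ha, rfl⟩
      obtain ⟨i, h1, h6, hok⟩ := Nall_spec ha
      obtain ⟨-, hm, hrel, -⟩ := normOK_spec h6 hok
      exact ⟨hm, i, h1, h6, hrel⟩
  have hnd : (s5604_Nall.map tkey).Nodup := N_nodup
  rw [hset, Nat.card_coe_set_eq, Set.ncard_coe_finset, card_image_tperm _ ?_ hnd, Nall_len]
  intro a ha
  obtain ⟨i, h1, h6, hok⟩ := Nall_spec ha
  exact (normOK_spec h6 hok).1

theorem normRef_fix_trio {n : Equiv.Perm GolayPt} (hn : n ∈ normRef) :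
    n • trioF s5604_trio = trioF s5604_trio := by
  obtain ⟨a, ha, rfl⟩ := normRef_cases hn
  obtain ⟨i, h1, h6, hok⟩ := Nall_spec ha
  exact (normOK_spec h6 hok).2.2.2

theorem N1_spec {a : List ℕ} (ha : a ∈ s5604_N1) : tabOK a = true ∧ tperm a ∈ centM (tperm g7) := by
  obtain ⟨h1, hm, hrel, -⟩ := normOK_spec (by norm_num) (List.all_eq_true.mp N1_ok a ha)
  rw [pow_one] at hrel
  exact ⟨h1, hm, hrel⟩

theorem N1_nodup : (s5604_N1.map tkey).Nodup := by
  have := N_nodup
  rw [List.map_append, List.map_append] at this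
  exact (List.nodup_append.mp (List.nodup_append.mp this).1).1

theorem card_cent7 : Nat.card ↥(centM (tperm g7)) = 42 := by
  classical
  have hset : (centM (tperm g7) : Set (Equiv.Perm GolayPt)) = ↑(s5604_N1.toFinset.image tperm) := by
    ext c
    rw [Finset.coe_image, List.coe_toFinset]
    constructor
    · intro hc
      obtain ⟨hm, hcomm⟩ := mem_centM.mp hc
      obtain ⟨a, ha, rfl⟩ := rel_cases hm (i := 1) (by norm_num) (by norm_num) (by rw [pow_one]; exact hcomm)
      exact ⟨a, ha, rfl⟩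
    · rintro ⟨a, ha, rfl⟩
      exact (N1_spec ha).2
  show Nat.card (centM (tperm g7) : Set (Equiv.Perm GolayPt)) = 42
  rw [hset, Nat.card_coe_set_eq, Set.ncard_coe_finset, card_image_tperm _ (fun a ha => (N1_spec ha).1) N1_nodup,
    N1_len]

/-- Two elements of the centralizer that do not commute. -/
theorem cent7_nonabelian : ∃ x ∈ centM (tperm g7), ∃ y ∈ centM (tperm g7), x * y ≠ y * x := by
  have h := xy_ok
  simp only [Bool.and_eq_true, List.contains_iff_mem, List.any_eq_true, bne_iff_ne] at h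
  obtain ⟨⟨hx, hy⟩, p, hp, hne⟩ := h
  rw [List.mem_range] at hp
  obtain ⟨hx1, hx2⟩ := N1_spec hx
  obtain ⟨hy1, hy2⟩ := N1_spec hy
  refine ⟨_, hx2, _, hy2, ?_⟩
  intro heq
  apply hne
  have := congrArg (fun f : Equiv.Perm GolayPt => natOfPt (f (ptOfNat p))) heq
  simp only [Equiv.Perm.mul_apply] at this
  rw [natOfPt_tperm hx1, natOfPt_tperm hy1, natOfPt_tperm hy1, natOfPt_tperm hx1, natOfPt_ptOfNat p hp] at this
  exact this

end Cfsg.Agent.Lib.Helper9.M24
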