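import Mathlib
import Cfsg.Prelude.Def_Sporadic_a
import Cfsg.Prelude.Def_SporadicCombinatorics
import Cfsg.Agent.Lib.Helper9.PairInv2
import Cfsg.Agent.Lib.Helper9.OrbitBridge
import Cfsg.Agent.Lib.Helper9.S5610Data
import Cfsg.Agent.Lib.Helper9.M24H

set_option autoImplicit false
open Cfsg

/-! The orbits of the stabilizer of the reference octad on trios and on sextets. -/

namespace Cfsg.Agent.Lib.Helper9.M24

open scoped Pointwise

/-- The reference octad. -/
def refOct : ℕ := 8536111

theorem refOct_lt : refOct < 2 ^ 24 := by decide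

theorem refOct_mem : mset refOct ∈ octads := (mset_mem_octads_iff refOct_lt).mpr (by decide +kernel)

theorem s5610_gens_ok : (idt :: s5610_gens).all (genOK (fun a => pmaskF a refOct == refOct)) = true := by
  decide +kernel

theorem s5610_tr_chk :
    (orbChkTrio s5610_gens (337856, 7903248) 15 s5610_tr1_L s5610_tr1_W &&
      orbChkTrio s5610_gens (5279, 4038912) 420 s5610_tr2_L s5610_tr2_W &&
      orbChkTrio s5610_gens (5279, 1009728) 3360 s5610_tr3_L s5610_tr3_W) = true := by
  decide +kernel

theorem s5610_sx_chk :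
    (orbChkSext s5610_gens 8536096 35 s5610_sx1_L s5610_sx1_W &&
      orbChkSext s5610_gens 8524288 840 s5610_sx2_L s5610_sx2_W &&
      orbChkSext s5610_gens 12656640 896 s5610_sx3_L s5610_sx3_W) = true := by
  decide +kernel

theorem s5610_tr_lists :
    (trioListB (337856, 7903248) [337856, 7903248, 8536111] &&
      trioListB (5279, 4038912) [5279, 4038912, 12733024] &&
      trioListB (5279, 1009728) [5279, 1009728, 15762208]) = true := by
  decide +kernel

theorem s5610_sx_lists :
    (sextListB 8536096 [15, 5264, 622848, 3416064, 4196928, 8536096] &&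
      sextListB 8524288 [83, 272512, 1065220, 2162728, 4752384, 8524288] &&
      sextListB 12656640 [23, 5256, 786976, 1065280, 2263040, 12656640]) = true := by
  decide +kernel

theorem refOct_isList : IsList {mset refOct} [refOct] := isList_singleton (by decide)

theorem s5610_trios : Decomp3 (mset refOct) trios 15 420 3360 := by
  have hchk := s5610_tr_chk
  rw [Bool.and_eq_true, Bool.and_eq_true] at hchk
  obtain ⟨⟨c1, c2⟩, c3⟩ := hchk
  have hl := s5610_tr_lists
  rw [Bool.and_eq_true, Bool.and_eq_true] at hl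
  obtain ⟨⟨l1, l2⟩, l3⟩ := hl
  have v1 : VTrio (337856, 7903248) := vTrio_of_B (by
    unfold orbChkTrio at c1; simp only [Bool.and_eq_true] at c1; exact c1.1.1.1)
  have v2 : VTrio (5279, 4038912) := vTrio_of_B (by
    unfold orbChkTrio at c2; simp only [Bool.and_eq_true] at c2; exact c2.1.1.1)
  have v3 : VTrio (5279, 1009728) := vTrio_of_B (by
    unfold orbChkTrio at c3; simp only [Bool.and_eq_true] at c3; exact c3.1.1.1)
  have hfix := hfix_set refOct_lt
  apply decomp3_of_lower (Set.toFinite _) (fun g hg y hy => trios_smul hg hy) (trioF_mem_trios v1)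
    (trioF_mem_trios v2) (trioF_mem_trios v3)
    (orbit_lower_trio _ _ hfix _ s5610_gens_ok _ _ _ _ c1)
    (orbit_lower_trio _ _ hfix _ s5610_gens_ok _ _ _ _ c2)
    (orbit_lower_trio _ _ hfix _ s5610_gens_ok _ _ _ _ c3)
  · rw [ncard_trios]
  · exact not_mem_SF refOct_isList (isList_trioF l1) (isList_trioF l2) 0 (by decide +kernel)
  · exact not_mem_SF refOct_isList (isList_trioF l1) (isList_trioF l3) 0 (by decide +kernel)
  · exact not_mem_SF refOct_isList (isList_trioF l2) (isList_trioF l3) 0 (by decide +kernel)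

theorem s5610_sextets : Decomp3 (mset refOct) sextets 35 840 896 := by
  have hchk := s5610_sx_chk
  rw [Bool.and_eq_true, Bool.and_eq_true] at hchk
  obtain ⟨⟨c1, c2⟩, c3⟩ := hchk
  have hl := s5610_sx_lists
  rw [Bool.and_eq_true, Bool.and_eq_true] at hl
  obtain ⟨⟨l1, l2⟩, l3⟩ := hl
  have hfix := hfix_set refOct_lt
  have m1 : sextOf (mset 8536096) ∈ sextets := sextOf_mem_sextets (by rw [card_mset]; decide +kernel)
  have m2 : sextOf (mset 8524288) ∈ sextets := sextOf_mem_sextets (by rw [card_mset]; decide +kernel)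
  have m3 : sextOf (mset 12656640) ∈ sextets := sextOf_mem_sextets (by rw [card_mset]; decide +kernel)
  apply decomp3_of_lower (Set.toFinite _) (fun g hg y hy => sextets_smul hg hy) m1 m2 m3
    (orbit_lower_sext _ _ hfix _ s5610_gens_ok _ _ _ _ c1)
    (orbit_lower_sext _ _ hfix _ s5610_gens_ok _ _ _ _ c2)
    (orbit_lower_sext _ _ hfix _ s5610_gens_ok _ _ _ _ c3)
  · rw [ncard_sextets]
  · exact not_mem_SF refOct_isList (isList_sextOf l1) (isList_sextOf l2) 0 (by decide +kernel)
  · exact not_mem_SF refOct_isList (isList_sextOf l1) (isList_sextOf l3) 0 (by decide +kernel)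
  · exact not_mem_SF refOct_isList (isList_sextOf l2) (isList_sextOf l3) 0 (by decide +kernel)

/-- Every octad is an image of the reference octad. -/
theorem exists_smul_refOct {o : Finset GolayPt} (ho : o ∈ octads) : ∃ k ∈ M24, k • mset refOct = o := by
  obtain ⟨g, hg, hgo⟩ := octad_transitive (mset refOct) o refOct_mem ho
  exact ⟨g, hg, hgo⟩

end Cfsg.Agent.Lib.Helper9.M24
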