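import Mathlib
import Cfsg.Prelude.Def_Sporadic_a
import Cfsg.Prelude.Def_SporadicCombinatorics
import Cfsg.Agent.Lib.Helper9.PairInv2
import Cfsg.Agent.Lib.Helper9.OrbitBridge
import Cfsg.Agent.Lib.Helper9.S5611Data

set_option autoImplicit false
open Cfsg

/-! Generated: the orbits of the stabilizer of a reference object. -/

namespace Cfsg.Agent.Lib.Helper9.M24

open scoped Pointwise

theorem s5611_gens_ok : (idt :: s5611_gens).all (genOK (fun a => sextFixB a 8388615)) = true := by
  decide +kernel

theorem s5611_oc_chk :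
    (orbChkOct s5611_gens 416040 15 s5611_oc1_L s5611_oc1_W &&
      orbChkOct s5611_gens 10558 360 s5611_oc2_L s5611_oc2_W &&
      orbChkOct s5611_gens 5279 384 s5611_oc3_L s5611_oc3_W) = true := by
  decide +kernel

theorem s5611_oc : Decomp3 (sextOf (mset 8388615)) octads 15 360 384 := by
  have hchk := s5611_oc_chk
  rw [Bool.and_eq_true, Bool.and_eq_true] at hchk
  obtain ⟨⟨c1, c2⟩, c3⟩ := hchk
  have hfix := (hfix_sext (m := 8388615) (by decide) (by rw [card_mset]; decide +kernel))
  have hX := (isList_sextOf (t := 8388615) (L := [147496, 268544, 1082880, 2621632, 4268048, 8388615]) (by decide +kernel))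
  have m1 := ((mset_mem_octads_iff (m := 416040) (by decide)).mpr (by decide +kernel))
  have l1 := (isList_singleton (m := 416040) (by decide))
  have m2 := ((mset_mem_octads_iff (m := 10558) (by decide)).mpr (by decide +kernel))
  have l2 := (isList_singleton (m := 10558) (by decide))
  have m3 := ((mset_mem_octads_iff (m := 5279) (by decide)).mpr (by decide +kernel))
  have l3 := (isList_singleton (m := 5279) (by decide))
  apply decomp3_of_lower (Set.toFinite _) (fun g hg y hy => octads_smul hg hy) m1 m2 m3
    (orbit_lower_oct _ _ hfix _ s5611_gens_ok _ _ _ _ c1)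
    (orbit_lower_oct _ _ hfix _ s5611_gens_ok _ _ _ _ c2)
    (orbit_lower_oct _ _ hfix _ s5611_gens_ok _ _ _ _ c3)
  · rw [Cfsg.Agent.Lib.Helper1.ncard_octads]
  · exact not_mem_FS hX l1 l2 0 (by decide +kernel)
  · exact not_mem_FS hX l1 l3 0 (by decide +kernel)
  · exact not_mem_FS hX l2 l3 0 (by decide +kernel)

theorem s5611_tr_chk :
    (orbChkTrio s5611_gens (416040, 3704512) 15 s5611_tr1_L s5611_tr1_W &&
      orbChkTrio s5611_gens (10558, 3704512) 180 s5611_tr2_L s5611_tr2_W &&
      orbChkTrio s5611_gens (10558, 2019456) 720 s5611_tr3_L s5611_tr3_W &&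
      orbChkTrio s5611_gens (5279, 1009728) 2880 s5611_tr4_L s5611_tr4_W) = true := by
  decide +kernel

theorem s5611_tr : Decomp4 (sextOf (mset 8388615)) trios 15 180 720 2880 := by
  have hchk := s5611_tr_chk
  rw [Bool.and_eq_true, Bool.and_eq_true, Bool.and_eq_true] at hchk
  obtain ⟨⟨⟨c1, c2⟩, c3⟩, c4⟩ := hchk
  have hfix := (hfix_sext (m := 8388615) (by decide) (by rw [card_mset]; decide +kernel))
  have hX := (isList_sextOf (t := 8388615) (L := [147496, 268544, 1082880, 2621632, 4268048, 8388615]) (by decide +kernel))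
  have m1 := (trioF_mem_trios (z := (416040, 3704512)) (vTrio_of_B (by decide +kernel)))
  have l1 := (isList_trioF (z := (416040, 3704512)) (L := [416040, 3704512, 12656663]) (by decide +kernel))
  have m2 := (trioF_mem_trios (z := (10558, 3704512)) (vTrio_of_B (by decide +kernel)))
  have l2 := (isList_trioF (z := (10558, 3704512)) (L := [10558, 3704512, 13062145]) (by decide +kernel))
  have m3 := (trioF_mem_trios (z := (10558, 2019456)) (vTrio_of_B (by decide +kernel)))
  have l3 := (isList_trioF (z := (10558, 2019456)) (L := [10558, 2019456, 14747201]) (by decide +kernel))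
  have m4 := (trioF_mem_trios (z := (5279, 1009728)) (vTrio_of_B (by decide +kernel)))
  have l4 := (isList_trioF (z := (5279, 1009728)) (L := [5279, 1009728, 15762208]) (by decide +kernel))
  apply decomp4_of_lower (Set.toFinite _) (fun g hg y hy => trios_smul hg hy) m1 m2 m3 m4
    (orbit_lower_trio _ _ hfix _ s5611_gens_ok _ _ _ _ c1)
    (orbit_lower_trio _ _ hfix _ s5611_gens_ok _ _ _ _ c2)
    (orbit_lower_trio _ _ hfix _ s5611_gens_ok _ _ _ _ c3)
    (orbit_lower_trio _ _ hfix _ s5611_gens_ok _ _ _ _ c4)
  · rw [ncard_trios]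
  · exact not_mem_FF hX l1 l2 0 (by decide +kernel)
  · exact not_mem_FF hX l1 l3 0 (by decide +kernel)
  · exact not_mem_FF hX l1 l4 0 (by decide +kernel)
  · exact not_mem_FF hX l2 l3 0 (by decide +kernel)
  · exact not_mem_FF hX l2 l4 0 (by decide +kernel)
  · exact not_mem_FF hX l3 l4 0 (by decide +kernel)

end Cfsg.Agent.Lib.Helper9.M24
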