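import Mathlib
import Cfsg.Prelude.Def_Sporadic_a
import Cfsg.Prelude.Def_SporadicCombinatorics
import Cfsg.Agent.Lib.Helper9.PairInv2
import Cfsg.Agent.Lib.Helper9.OrbitBridge
import Cfsg.Agent.Lib.Helper9.S5612Data

set_option autoImplicit false
open Cfsg

/-! Generated: the orbits of the stabilizer of a reference object. -/

namespace Cfsg.Agent.Lib.Helper9.M24

open scoped Pointwise

theorem s5612_gens_ok : (idt :: s5612_gens).all (genOK (fun a => trioFixP a (5279, 1009728))) = true := by
  decide +kernel

theorem s5612_oc_chk :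
    (orbChkOct s5612_gens 5279 3 s5612_oc1_L s5612_oc1_W &&
      orbChkOct s5612_gens 90318 84 s5612_oc2_L s5612_oc2_W &&
      orbChkOct s5612_gens 10558 672 s5612_oc3_L s5612_oc3_W) = true := by
  decide +kernel

theorem s5612_oc : Decomp3 (trioF (5279, 1009728)) octads 3 84 672 := by
  have hchk := s5612_oc_chk
  rw [Bool.and_eq_true, Bool.and_eq_true] at hchk
  obtain ⟨⟨c1, c2⟩, c3⟩ := hchk
  have hfix := (hfix_trio (z := (5279, 1009728)) (vTrio_of_B (by decide +kernel)))
  have hX := (isList_trioF (z := (5279, 1009728)) (L := [5279, 1009728, 15762208]) (by decide +kernel))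
  have m1 := ((mset_mem_octads_iff (m := 5279) (by decide)).mpr (by decide +kernel))
  have l1 := (isList_singleton (m := 5279) (by decide))
  have m2 := ((mset_mem_octads_iff (m := 90318) (by decide)).mpr (by decide +kernel))
  have l2 := (isList_singleton (m := 90318) (by decide))
  have m3 := ((mset_mem_octads_iff (m := 10558) (by decide)).mpr (by decide +kernel))
  have l3 := (isList_singleton (m := 10558) (by decide))
  apply decomp3_of_lower (Set.toFinite _) (fun g hg y hy => octads_smul hg hy) m1 m2 m3
    (orbit_lower_oct _ _ hfix _ s5612_gens_ok _ _ _ _ c1)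
    (orbit_lower_oct _ _ hfix _ s5612_gens_ok _ _ _ _ c2)
    (orbit_lower_oct _ _ hfix _ s5612_gens_ok _ _ _ _ c3)
  · rw [Cfsg.Agent.Lib.Helper1.ncard_octads]
  · exact not_mem_FS hX l1 l2 0 (by decide +kernel)
  · exact not_mem_FS hX l1 l3 0 (by decide +kernel)
  · exact not_mem_FS hX l2 l3 0 (by decide +kernel)

theorem s5612_sx_chk :
    (orbChkSext s5612_gens 10486528 7 s5612_sx1_L s5612_sx1_W &&
      orbChkSext s5612_gens 8536096 84 s5612_sx2_L s5612_sx2_W &&
      orbChkSext s5612_gens 9969664 336 s5612_sx3_L s5612_sx3_W &&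
      orbChkSext s5612_gens 8536072 1344 s5612_sx4_L s5612_sx4_W) = true := by
  decide +kernel

theorem s5612_sx : Decomp4 (trioF (5279, 1009728)) sextets 7 84 336 1344 := by
  have hchk := s5612_sx_chk
  rw [Bool.and_eq_true, Bool.and_eq_true, Bool.and_eq_true] at hchk
  obtain ⟨⟨⟨c1, c2⟩, c3⟩, c4⟩ := hchk
  have hfix := (hfix_trio (z := (5279, 1009728)) (vTrio_of_B (by decide +kernel)))
  have hX := (isList_trioF (z := (5279, 1009728)) (L := [5279, 1009728, 15762208]) (by decide +kernel))
  have m1 := (sextOf_mem_sextets (T := mset 10486528) (by rw [card_mset]; decide +kernel))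
  have l1 := (isList_sextOf (t := 10486528) (L := [29, 5250, 346112, 663616, 5275680, 10486528]) (by decide +kernel))
  have m2 := (sextOf_mem_sextets (T := mset 8536096) (by rw [card_mset]; decide +kernel))
  have l2 := (isList_sextOf (t := 8536096) (L := [15, 5264, 622848, 3416064, 4196928, 8536096]) (by decide +kernel))
  have m3 := (sextOf_mem_sextets (T := mset 9969664) (by rw [card_mset]; decide +kernel))
  have l3 := (isList_sextOf (t := 9969664) (L := [293, 51712, 200720, 262344, 6292482, 9969664]) (by decide +kernel))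
  have m4 := (sextOf_mem_sextets (T := mset 8536072) (by rw [card_mset]; decide +kernel))
  have l4 := (isList_sextOf (t := 8536072) (L := [39, 45120, 786960, 1116288, 6292736, 8536072]) (by decide +kernel))
  apply decomp4_of_lower (Set.toFinite _) (fun g hg y hy => sextets_smul hg hy) m1 m2 m3 m4
    (orbit_lower_sext _ _ hfix _ s5612_gens_ok _ _ _ _ c1)
    (orbit_lower_sext _ _ hfix _ s5612_gens_ok _ _ _ _ c2)
    (orbit_lower_sext _ _ hfix _ s5612_gens_ok _ _ _ _ c3)
    (orbit_lower_sext _ _ hfix _ s5612_gens_ok _ _ _ _ c4)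
  · rw [ncard_sextets]
  · exact not_mem_FF hX l1 l2 0 (by decide +kernel)
  · exact not_mem_FF hX l1 l3 0 (by decide +kernel)
  · exact not_mem_FF hX l1 l4 0 (by decide +kernel)
  · exact not_mem_FF hX l2 l3 0 (by decide +kernel)
  · exact not_mem_FF hX l2 l4 0 (by decide +kernel)
  · exact not_mem_FF hX l3 l4 0 (by decide +kernel)

end Cfsg.Agent.Lib.Helper9.M24
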