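import Mathlib
import Cfsg.Prelude.Def_Sporadic_a
import Cfsg.Prelude.Def_SporadicCombinatorics
import Cfsg.Agent.Lib.Helper9.S5607Ref
import Cfsg.Agent.Lib.Helper9.OrbitInst
import Cfsg.Agent.Lib.Helper9.S5615Data

set_option autoImplicit false
open Cfsg

/-! Boolean certificates for the trios through a reference octad. -/

namespace Cfsg.Agent.Lib.Helper9.M24

open scoped Pointwise
open Cfsg.Agent.Lib.Helper1 (gIdx ofMask cw popcN allBelow)

/-- The complementary octad of an octad disjoint from the reference octad. -/
def obar (m : ℕ) : ℕ := 16777215 ^^^ (oct0 ||| m)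

theorem oct0_ok : (isOct oct0 && (oct0 &&& 8388623 == 8388623)) = true := by decide +kernel

theorem L30_enum : allBelow (fun c => !((popcN 24 (cw c) == 8) && (cw c &&& oct0 == 0)) ||
    oct0_L30.contains (cw c)) 4096 = true := by decide +kernel

theorem L30_ok : oct0_L30.all (fun m => isOct m && (oct0 &&& m == 0) && decide (m < 16777216) &&
    oct0_L30.contains (obar m)) = true := by decide +kernel

/-- A valid table in the group fixing the reference octad. -/
def o0stab (a : List ℕ) : Bool := tabOK a && tabM24 a && (pmask a oct0 == oct0)

theorem oct0_A_ok : oct0_L30.all (fun m => oct0_A.any (fun a => o0stab a && (pmask a m == oct0_r1))) = true := by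
  decide +kernel

theorem oct0_B_ok : oct0_L30.all (fun m => (m == oct0_r1) || (m == obar oct0_r1) ||
    oct0_B.any (fun a => o0stab a && (pmask a oct0_r1 == oct0_r1) && (pmask a m == oct0_r2))) = true := by
  decide +kernel

theorem oct0_r_ok : (oct0_L30.contains oct0_r1 && oct0_L30.contains oct0_r2 && (oct0_r2 != oct0_r1) &&
    (oct0_r2 != obar oct0_r1)) = true := by decide +kernel

/-- The table fixes every point of the reference octad. -/
def fixPts (a : List ℕ) : Bool := (List.range 24).all fun i => !(Nat.testBit oct0 i) || (tget a i == i)

/-- The table maps every trio through the reference octad to itself. -/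
def fixTrios (a : List ℕ) : Bool := oct0_L30.all fun m => (pmask a m == m) || (pmask a m == obar m)

theorem oct0_T_ok : (List.range 24).all (fun y => Nat.testBit oct0 y ||
    oct0_T.any (fun a => tabOK a && tabM24 a && fixPts a && (tget a y == oct0_x0) && fixTrios a)) = true := by
  decide +kernel

theorem oct0_KP_ok : F48.all (fun f => !(fixPts (tmul idt f)) || fixTrios (tmul idt f)) = true := by
  decide +kernel

theorem idt_patOK : patOK' idt = true := by decide +kernel

theorem oct0_L15_ok : oct0_L15.all (fun m => oct0_L30.contains m && Nat.testBit m oct0_x0 &&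
    !(Nat.testBit (obar m) oct0_x0)) = true := by decide +kernel

theorem oct0_cap_ok : (List.range 24).all (fun y => Nat.testBit oct0 y || (y == oct0_x0) ||
    (oct0_L15.foldl (fun acc m => if Nat.testBit m y then acc &&& m else acc) 16777215 ==
      (2 ^ oct0_x0 ||| 2 ^ y))) = true := by decide +kernel

theorem oct0_x0_ok : (!(Nat.testBit oct0 oct0_x0) && decide (oct0_x0 < 24)) = true := by decide +kernel

end Cfsg.Agent.Lib.Helper9.M24
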