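import Mathlib
import Cfsg.Prelude.Def_Sporadic_a
import Cfsg.Prelude.Def_SporadicCombinatorics
import Cfsg.Agent.Lib.Helper9.S5615Chk
import Cfsg.Agent.Lib.Helper9.S5604Ref
import Cfsg.Agent.Lib.Helper9.M24E

set_option autoImplicit false
open Cfsg

/-! The trios through a reference octad: count, double transitivity of the octad stabilizer, and the kernel
of the action. -/

namespace Cfsg.Agent.Lib.Helper9.M24

open scoped Pointwise
open Cfsg.Agent.Lib.Helper1 (gIdx ofMask cw popcN allBelow allBelow_iff)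

theorem oct0_lt : oct0 < 2 ^ 24 := by decide

theorem oct0_mem : mset oct0 ∈ octads := by
  have h := oct0_ok
  rw [Bool.and_eq_true] at h
  exact (mset_mem_octads_iff oct0_lt).mpr h.1

theorem obar_lt {m : ℕ} (hm : m < 2 ^ 24) : obar m < 2 ^ 24 :=
  xor_lt (by norm_num) (Nat.or_lt_two_pow oct0_lt hm)

theorem L30_spec {m : ℕ} (hm : m ∈ oct0_L30) :
    m < 2 ^ 24 ∧ mset m ∈ octads ∧ Disjoint (mset oct0) (mset m) ∧ obar m ∈ oct0_L30 := by
  have h := List.all_eq_true.mp L30_ok m hm
  simp only [Bool.and_eq_true, beq_iff_eq, decide_eq_true_eq, List.contains_iff_mem] at h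
  obtain ⟨⟨⟨h1, h2⟩, h3⟩, h4⟩ := h
  have h3' : m < 2 ^ 24 := h3
  exact ⟨h3', (mset_mem_octads_iff h3').mpr h1, (mset_disjoint_iff oct0_lt).mpr h2, h4⟩

theorem L30_vTrio {m : ℕ} (hm : m ∈ oct0_L30) : VTrio (oct0, m) := by
  obtain ⟨h1, h2, h3, -⟩ := L30_spec hm
  exact ⟨oct0_lt, h1, oct0_mem, h2, h3⟩

/-- Every octad disjoint from the reference octad is in the list. -/
theorem mem_L30_of {m : ℕ} (hm : m < 2 ^ 24) (hoct : mset m ∈ octads) (hdis : Disjoint (mset oct0) (mset m)) :
    m ∈ oct0_L30 := by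
  have h1 := (mset_mem_octads_iff hm).mp hoct
  unfold isOct at h1
  rw [Bool.and_eq_true, beq_iff_eq, beq_iff_eq] at h1
  have h2 := (mset_disjoint_iff oct0_lt).mp hdis
  have h3 := (allBelow_iff _ _).mp L30_enum (m >>> 12) (shiftRight_lt hm)
  rw [h1.2, h1.1, Nat.land_comm, h2] at h3
  simpa using h3

theorem mset_obar (m : ℕ) : mset (obar m) = (mset oct0 ∪ mset m)ᶜ := (third_mset oct0 m).symm

/-- The trio through the reference octad attached to an octad of the list. -/
theorem trioF_obar {m : ℕ} (hm : m ∈ oct0_L30) : trioF (oct0, obar m) = trioF (oct0, m) := by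
  have hv := L30_vTrio hm
  have hT := trioF_mem_trios hv
  have h3 : mset (obar m) ∈ trioF (oct0, m) := by
    show mset (obar m) ∈ trioOf (mset oct0) (mset m)
    rw [mem_trioOf_iff, mset_obar]
    exact Or.inr (Or.inr rfl)
  have hne : mset oct0 ≠ mset (obar m) :=
    octad_ne_of_disjoint oct0_mem (L30_spec (L30_spec hm).2.2.2).2.2.1
  exact trio_eq_trioOf hT (mem_trioOf_left _ _) h3 hne

/-- Every trio through the reference octad comes from the list. -/
theorem trio_through_cases {T : Finset (Finset GolayPt)} (hT : T ∈ trios) (ho : mset oct0 ∈ T) :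
    ∃ m ∈ oct0_L30, T = trioF (oct0, m) := by
  obtain ⟨h3, hoct, hdis⟩ := hT
  obtain ⟨a, haT, hane⟩ := Finset.exists_mem_ne (by rw [h3]; norm_num : 1 < T.card) (mset oct0)
  have hd : Disjoint (mset oct0) a := hdis _ ho _ haT (Ne.symm hane)
  have ha : mset (maskOf a) = a := mset_maskOf a
  refine ⟨maskOf a, mem_L30_of (maskOf_lt a) (by rw [ha]; exact hoct a haT) (by rw [ha]; exact hd), ?_⟩
  show T = trioOf (mset oct0) (mset (maskOf a))
  rw [ha]
  exact (trio_eq_trioOf ⟨h3, hoct, hdis⟩ ho haT (Ne.symm hane)).symm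

theorem o0stab_spec {a : List ℕ} (h : o0stab a = true) :
    tabOK a = true ∧ tperm a ∈ M24 ∧ tperm a • mset oct0 = mset oct0 := by
  unfold o0stab at h
  simp only [Bool.and_eq_true, beq_iff_eq] at h
  obtain ⟨⟨h1, h2⟩, h3⟩ := h
  refine ⟨h1, tperm_mem h1 h2, ?_⟩
  rw [smul_mset h1 oct0_lt, pmaskF_eq h1 oct0_lt, h3]

/-- The action of a table fixing the reference octad on the trios through it. -/
theorem smul_trio_through {a : List ℕ} (h : tabOK a = true) (hmem : tperm a ∈ M24)
    (hfix : tperm a • mset oct0 = mset oct0) {m : ℕ} (hm : m ∈ oct0_L30) :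
    pmask a m ∈ oct0_L30 ∧ tperm a • trioF (oct0, m) = trioF (oct0, pmask a m) := by
  obtain ⟨h1, h2, h3, -⟩ := L30_spec hm
  have himg : tperm a • mset m = mset (pmask a m) := by rw [smul_mset h h1, pmaskF_eq h h1]
  constructor
  · apply mem_L30_of (pmask_lt h m)
    · rw [← himg]
      exact octads_smul hmem h2
    · rw [← himg, ← hfix]
      rw [Finset.disjoint_left] at h3 ⊢
      intro x hx hx'
      rw [Finset.mem_smul_finset] at hx hx'
      obtain ⟨y, hy, rfl⟩ := hx
      obtain ⟨y', hy', hyy⟩ := hx'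
      have : y' = y := (tperm a).injective hyy
      rw [this] at hy'
      exact h3 hy hy'
  · show tperm a • trioOf (mset oct0) (mset m) = trioOf (mset oct0) (mset (pmask a m))
    rw [smul_trioOf, hfix, himg]

/-- Double transitivity on the trios through the reference octad, in normal form. -/
theorem two_trans_ref {T₁ T₂ : Finset (Finset GolayPt)} (h1 : T₁ ∈ trios) (h2 : T₂ ∈ trios)
    (ho1 : mset oct0 ∈ T₁) (ho2 : mset oct0 ∈ T₂) (hne : T₁ ≠ T₂) :
    ∃ g ∈ M24, g • mset oct0 = mset oct0 ∧ g • T₁ = trioF (oct0, oct0_r1) ∧ g • T₂ = trioF (oct0, oct0_r2) := by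
  obtain ⟨m₁, hm₁, rfl⟩ := trio_through_cases h1 ho1
  obtain ⟨m₂, hm₂, rfl⟩ := trio_through_cases h2 ho2
  have hr := oct0_r_ok
  simp only [Bool.and_eq_true, List.contains_iff_mem, bne_iff_ne] at hr
  obtain ⟨⟨⟨hr1, hr2⟩, -⟩, -⟩ := hr
  -- first level
  have hA := List.all_eq_true.mp oct0_A_ok m₁ hm₁
  simp only [List.any_eq_true, Bool.and_eq_true, beq_iff_eq] at hA
  obtain ⟨a, -, ha1, ha2⟩ := hA
  obtain ⟨haok, ham, hafix⟩ := o0stab_spec ha1
  obtain ⟨-, haT1⟩ := smul_trio_through haok ham hafix hm₁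
  obtain ⟨hm₂', haT2⟩ := smul_trio_through haok ham hafix hm₂
  rw [ha2] at haT1
  -- the image of the second trio differs from the first reference trio
  have hne' : trioF (oct0, pmask a m₂) ≠ trioF (oct0, oct0_r1) := by
    rw [← haT1, ← haT2]
    exact fun h => hne (smul_left_cancel _ h).symm
  have hB := List.all_eq_true.mp oct0_B_ok (pmask a m₂) hm₂'
  simp only [Bool.or_eq_true, beq_iff_eq, List.any_eq_true, Bool.and_eq_true] at hB
  rcases hB with (hB | hB) | hB
  · exact absurd (by rw [hB]) hne'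
  · exact absurd (by rw [hB, trioF_obar hr1]) hne'
  obtain ⟨b, -, ⟨hb1, hb2⟩, hb3⟩ := hB
  obtain ⟨hbok, hbm, hbfix⟩ := o0stab_spec hb1
  obtain ⟨-, hbT1⟩ := smul_trio_through hbok hbm hbfix hr1
  obtain ⟨-, hbT2⟩ := smul_trio_through hbok hbm hbfix hm₂'
  rw [hb2] at hbT1
  rw [hb3] at hbT2
  refine ⟨tperm b * tperm a, Subgroup.mul_mem _ hbm ham, ?_, ?_, ?_⟩
  · rw [mul_smul, hafix, hbfix]
  · rw [mul_smul, haT1, hbT1]
  · rw [mul_smul, haT2, hbT2]

theorem fixTrios_spec {a : List ℕ} (h : tabOK a = true) (hmem : tperm a ∈ M24)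
    (hfix : tperm a • mset oct0 = mset oct0) (ht : fixTrios a = true) {T : Finset (Finset GolayPt)}
    (hT : T ∈ trios) (ho : mset oct0 ∈ T) : tperm a • T = T := by
  obtain ⟨m, hm, rfl⟩ := trio_through_cases hT ho
  rw [(smul_trio_through h hmem hfix hm).2]
  have := List.all_eq_true.mp ht m hm
  simp only [Bool.or_eq_true, beq_iff_eq] at this
  rcases this with h1 | h1
  · rw [h1]
  · rw [h1, trioF_obar hm]

theorem fixPts_spec {a : List ℕ} (h : tabOK a = true) (hf : fixPts a = true) {p : GolayPt}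
    (hp : p ∈ mset oct0) : tperm a p = p := by
  rw [mem_mset] at hp
  have := List.all_eq_true.mp hf (natOfPt p) (List.mem_range.mpr (natOfPt_lt p))
  rw [hp] at this
  simp only [Bool.not_true, Bool.false_or, beq_iff_eq] at this
  apply natOfPt_injective
  rw [natOfPt_tperm h, this]

theorem smul_eq_of_fixPts {g : Equiv.Perm GolayPt} {s : Finset GolayPt} (h : ∀ p ∈ s, g p = p) :
    g • s = s := by
  rw [smul_finset_eq_image']
  ext x
  rw [Finset.mem_image]
  constructor
  · rintro ⟨y, hy, rfl⟩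
    rw [h y hy]
    exact hy
  · intro hx
    exact ⟨x, hx, h x hx⟩

/-- An element fixing the reference octad pointwise fixes all trios through it. -/
theorem kernel_of_fix {g : Equiv.Perm GolayPt} (hg : g ∈ M24) (hfix : ∀ p ∈ mset oct0, g p = p)
    {T : Finset (Finset GolayPt)} (hT : T ∈ trios) (ho : mset oct0 ∈ T) : g • T = T := by
  have hb := oct0_ok
  rw [Bool.and_eq_true, beq_iff_eq] at hb
  have hbase : ∀ i, Nat.testBit 8388623 i = true → Nat.testBit oct0 i = true := by
    intro i hi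
    have h2 : Nat.testBit (oct0 &&& 8388623) i = true := by rw [hb.2]; exact hi
    rw [Nat.testBit_and, Bool.and_eq_true] at h2
    exact h2.1
  have hpt : ∀ i, i < 24 → Nat.testBit 8388623 i = true → natOfPt (g (ptOfNat i)) = tget idt i := by
    intro i hi hbit
    rw [hfix (ptOfNat i) (by rw [mem_mset, natOfPt_ptOfNat i hi]; exact hbase i hbit), natOfPt_ptOfNat i hi]
    unfold idt tget
    rw [List.getD_eq_getElem _ _ (by rw [List.length_range]; exact hi), List.getElem_range]
  obtain ⟨f, hf, hok, hgf⟩ := pattern_cases (patOK_of_patOK' idt_patOK) hg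
    (hpt 23 (by norm_num) (by decide)) (hpt 0 (by norm_num) (by decide)) (hpt 1 (by norm_num) (by decide))
    (hpt 2 (by norm_num) (by decide)) (hpt 3 (by norm_num) (by decide))
  have hfp : fixPts (tmul idt f) = true := by
    unfold fixPts
    rw [List.all_eq_true]
    intro i hi
    rw [List.mem_range] at hi
    by_cases hbit : Nat.testBit oct0 i = true
    · rw [hbit, Bool.not_true, Bool.false_or, beq_iff_eq]
      have := hfix (ptOfNat i) (by rw [mem_mset, natOfPt_ptOfNat i hi]; exact hbit)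
      rw [hgf] at this
      have h2 := congrArg natOfPt this
      rwa [natOfPt_tperm hok, natOfPt_ptOfNat i hi] at h2
    · rw [Bool.not_eq_true] at hbit
      rw [hbit]
      rfl
  have hft := List.all_eq_true.mp oct0_KP_ok f hf
  rw [hfp] at hft
  simp only [Bool.not_true, Bool.false_or] at hft
  rw [hgf]
  refine fixTrios_spec hok (by rw [← hgf]; exact hg) ?_ hft hT ho
  rw [← hgf]
  exact smul_eq_of_fixPts hfix

end Cfsg.Agent.Lib.Helper9.M24
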