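import Mathlib
import Cfsg.Prelude.Def_Sporadic_a
import Cfsg.Prelude.Def_SporadicCombinatorics
import Cfsg.Agent.Lib.Helper9.S5615Ref
import Cfsg.Agent.Lib.Helper9.EnumTrio

set_option autoImplicit false
open Cfsg

/-! The trios through a reference octad: the count and the kernel of the action. -/

namespace Cfsg.Agent.Lib.Helper9.M24

open scoped Pointwise

/-- Test that a packed trio contains the reference octad. -/
def thruB (n : ℕ) : Bool := (trioM1 n == oct0) || (trioM2 n == oct0) || (trioM3 n == oct0)

theorem thru_count : (trioLit.filter thruB).length = 15 := by decide +kernel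

theorem count_ref : {T : Finset (Finset GolayPt) | T ∈ trios ∧ mset oct0 ∈ T}.ncard = 15 := by
  rw [← thru_count]
  apply enum_count (Set.toFinite _) trioLit (nodup_of_chainB trioLit_chain)
    (fun n => trioOf (mset (trioM1 n)) (mset (trioM2 n)))
  · intro m hm n hn hmn
    exact trioLit_inj hm hn hmn
  · intro n hn
    exact trioLit_mem hn
  · rw [ncard_trios, trioLit_length]
  · intro n hn
    obtain ⟨h1, -, -, -, -, -⟩ := trioLit_spec hn
    rw [mem_trioOf_mset h1 oct0_lt]
    unfold thruB
    simp only [Bool.or_eq_true, beq_iff_eq]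
    constructor
    · rintro (h | h | h)
      · exact Or.inl (Or.inl h.symm)
      · exact Or.inl (Or.inr h.symm)
      · exact Or.inr h.symm
    · rintro ((h | h) | h)
      · exact Or.inl h.symm
      · exact Or.inr (Or.inl h.symm)
      · exact Or.inr (Or.inr h.symm)

theorem foldl_and_testBit (i j : ℕ) : ∀ (L : List ℕ) (acc : ℕ),
    (L.foldl (fun acc m => if Nat.testBit m i then acc &&& m else acc) acc).testBit j = true ↔
      acc.testBit j = true ∧ ∀ m ∈ L, Nat.testBit m i = true → Nat.testBit m j = true := by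
  intro L
  induction L with
  | nil => intro acc; simp
  | cons x L ih =>
    intro acc
    rw [List.foldl_cons, ih]
    by_cases hx : Nat.testBit x i = true
    · rw [if_pos hx, Nat.testBit_and, Bool.and_eq_true]
      constructor
      · rintro ⟨⟨h1, h2⟩, h3⟩
        refine ⟨h1, ?_⟩
        intro m hm
        rw [List.mem_cons] at hm
        rcases hm with rfl | hm
        · exact fun _ => h2
        · exact h3 m hm
      · rintro ⟨h1, h2⟩
        exact ⟨⟨h1, h2 x (List.mem_cons_self) hx⟩, fun m hm => h2 m (List.mem_cons_of_mem _ hm)⟩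
    · rw [if_neg hx]
      constructor
      · rintro ⟨h1, h2⟩
        refine ⟨h1, ?_⟩
        intro m hm
        rw [List.mem_cons] at hm
        rcases hm with rfl | hm
        · exact fun h => absurd h hx
        · exact h2 m hm
      · rintro ⟨h1, h2⟩
        exact ⟨h1, fun m hm => h2 m (List.mem_cons_of_mem _ hm)⟩

theorem L15_spec {m : ℕ} (hm : m ∈ oct0_L15) :
    m ∈ oct0_L30 ∧ Nat.testBit m oct0_x0 = true ∧ Nat.testBit (obar m) oct0_x0 = false := by
  have h := List.all_eq_true.mp oct0_L15_ok m hm
  simp only [Bool.and_eq_true, List.contains_iff_mem, Bool.not_eq_true'] at h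
  exact ⟨h.1.1, h.1.2, h.2⟩

theorem oct0_x0_lt : oct0_x0 < 24 := by decide

theorem x0_not_mem : ptOfNat oct0_x0 ∉ mset oct0 := by
  rw [mem_mset, natOfPt_ptOfNat _ oct0_x0_lt]
  decide

/-- An element fixing the reference octad and all trios through it fixes the octad pointwise. -/
theorem fix_of_kernel {g : Equiv.Perm GolayPt} (hg : g ∈ M24) (hgo : g • mset oct0 = mset oct0)
    (hT : ∀ T ∈ trios, mset oct0 ∈ T → g • T = T) : ∀ p ∈ mset oct0, g p = p := by
  set x₀ := ptOfNat oct0_x0 with hx₀
  have hx₀n : natOfPt x₀ = oct0_x0 := natOfPt_ptOfNat _ oct0_x0_lt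
  -- the image of the reference outside point is outside
  have hy : Nat.testBit oct0 (natOfPt (g x₀)) = false := by
    rw [← Bool.not_eq_true, ← mem_mset]
    intro h
    rw [← hgo] at h
    exact x0_not_mem ((Finset.smul_mem_smul_finset_iff g).mp h)
  have hTr := List.all_eq_true.mp oct0_T_ok (natOfPt (g x₀)) (List.mem_range.mpr (natOfPt_lt _))
  rw [hy] at hTr
  simp only [Bool.false_or, List.any_eq_true, Bool.and_eq_true, beq_iff_eq] at hTr
  obtain ⟨t, -, ⟨⟨⟨ht1, ht2⟩, ht3⟩, ht4⟩, ht5⟩ := hTr
  have htm : tperm t ∈ M24 := tperm_mem ht1 ht2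
  have htfix : ∀ p ∈ mset oct0, tperm t p = p := fun p hp => fixPts_spec ht1 ht3 hp
  have hto : tperm t • mset oct0 = mset oct0 := smul_eq_of_fixPts htfix
  set g' := tperm t * g with hg'def
  have hg' : g' ∈ M24 := Subgroup.mul_mem _ htm hg
  have hg'x : g' x₀ = x₀ := by
    apply natOfPt_injective
    rw [hg'def, Equiv.Perm.mul_apply, natOfPt_tperm ht1, ht4, hx₀n]
  have hg'T : ∀ T ∈ trios, mset oct0 ∈ T → g' • T = T := by
    intro T hTt ho
    rw [hg'def, mul_smul, hT T hTt ho]
    exact fixTrios_spec ht1 htm hto ht5 hTt ho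
  -- the fifteen octads through the outside point are fixed
  have hoct : ∀ m ∈ oct0_L15, g' • mset m = mset m := by
    intro m hm
    obtain ⟨hm30, hb1, hb2⟩ := L15_spec hm
    have hv := L30_vTrio hm30
    have hmem : g' • mset m ∈ trioF (oct0, m) := by
      have h1 := hg'T _ (trioF_mem_trios hv) (mem_trioOf_left _ _)
      have h2 : g' • mset m ∈ g' • trioF (oct0, m) :=
        Finset.smul_mem_smul_finset (mem_trioOf_right (mset oct0) (mset m))
      rwa [h1] at h2
    have hx : x₀ ∈ g' • mset m := by
      rw [← hg'x]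
      apply Finset.smul_mem_smul_finset
      rw [mem_mset, hx₀n]
      exact hb1
    change g' • mset m ∈ trioOf (mset oct0) (mset m) at hmem
    rw [mem_trioOf_iff, ← mset_obar] at hmem
    rcases hmem with h | h | h
    · rw [h] at hx
      exact absurd hx x0_not_mem
    · exact h
    · rw [h, mem_mset, hx₀n, hb2] at hx
      exact absurd hx (by simp)
  -- every outside point is fixed
  have hout : ∀ p, p ∉ mset oct0 → g' p = p := by
    intro p hp
    by_cases hpx : p = x₀
    · rw [hpx]
      exact hg'x
    have hp' : Nat.testBit oct0 (natOfPt p) = false := by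
      rw [← Bool.not_eq_true, ← mem_mset]
      exact hp
    have hpn : natOfPt p ≠ oct0_x0 := by
      intro h
      apply hpx
      rw [hx₀, ← h, ptOfNat_natOfPt]
    have hcap := List.all_eq_true.mp oct0_cap_ok (natOfPt p) (List.mem_range.mpr (natOfPt_lt p))
    rw [hp'] at hcap
    simp only [Bool.false_or, Bool.or_eq_true, beq_iff_eq] at hcap
    rcases hcap with hcap | hcap
    · exact absurd hcap hpn
    have hbit : (oct0_L15.foldl (fun acc m => if Nat.testBit m (natOfPt p) then acc &&& m else acc)
        16777215).testBit (natOfPt (g' p)) = true := by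
      rw [foldl_and_testBit]
      refine ⟨testBit_full (natOfPt_lt _), ?_⟩
      intro m hm hmp
      have h1 : g' p ∈ g' • mset m := Finset.smul_mem_smul_finset (by rw [mem_mset]; exact hmp)
      rw [hoct m hm, mem_mset] at h1
      exact h1
    rw [hcap, Nat.testBit_or, Bool.or_eq_true, Nat.testBit_two_pow, Nat.testBit_two_pow,
      decide_eq_true_eq, decide_eq_true_eq] at hbit
    rcases hbit with h | h
    · exfalso
      apply hpx
      apply g'.injective
      rw [hg'x]
      apply natOfPt_injective
      rw [hx₀n]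
      exact h.symm
    · exact natOfPt_injective h.symm
  -- rigidity
  have hne : oct0_L15 ≠ [] := by decide
  obtain ⟨m₁, hm₁⟩ := List.exists_mem_of_ne_nil _ hne
  obtain ⟨hm30, -, -⟩ := L15_spec hm₁
  obtain ⟨hm₁lt, hm₁oct, hm₁dis, hm₁bar⟩ := L30_spec hm30
  obtain ⟨P, hPO, hP⟩ := Finset.exists_subset_card_eq (s := mset m₁) (n := 6)
    (by rw [octad_card hm₁oct]; norm_num)
  obtain ⟨-, hbaroct, -, -⟩ := L30_spec hm₁bar
  obtain ⟨x, hx⟩ : (mset (obar m₁)).Nonempty := by
    rw [← Finset.card_pos, octad_card hbaroct]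
    norm_num
  rw [mset_obar, Finset.mem_compl, Finset.mem_union, not_or] at hx
  have hone : g' = 1 := eq_one_of_fixes hg' hm₁oct hPO hP
    (fun p hp => hout p (fun h => Finset.disjoint_left.mp hm₁dis h (hPO hp))) hx.2 (hout x hx.1)
  intro p hp
  have h1 : g = (tperm t)⁻¹ := by
    rw [hg'def] at hone
    exact eq_inv_of_mul_eq_one_right hone
  rw [h1, Equiv.Perm.inv_eq_iff_eq, htfix p hp]

end Cfsg.Agent.Lib.Helper9.M24
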