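import Mathlib
import Cfsg.Prelude.Def_Sporadic_a
import Cfsg.Prelude.Def_SporadicCombinatorics
import Cfsg.Agent.Lib.Helper9.PairInv2
import Cfsg.Agent.Lib.Helper9.OrbitBridge
import Cfsg.Agent.Lib.Helper9.S5616Data

set_option autoImplicit false
open Cfsg

/-! Generated: the orbits of the stabilizer of a reference object. -/

namespace Cfsg.Agent.Lib.Helper9.M24

open scoped Pointwise

theorem s5616_gens_ok : (idt :: s5616_gens).all (genOK (fun a => pmaskF a 8388611 == 8388611)) = true := by
  decide +kernel

theorem s5616_sx_chk :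
    (orbChkSext s5616_gens 8421379 21 s5616_sx1_L s5616_sx1_W &&
      orbChkSext s5616_gens 8536096 630 s5616_sx2_L s5616_sx2_W &&
      orbChkSext s5616_gens 10486528 1120 s5616_sx3_L s5616_sx3_W) = true := by
  decide +kernel

theorem s5616_sx : Decomp3 (mset 8388611) sextets 21 630 1120 := by
  have hchk := s5616_sx_chk
  rw [Bool.and_eq_true, Bool.and_eq_true] at hchk
  obtain ⟨⟨c1, c2⟩, c3⟩ := hchk
  have hfix := (hfix_set (m := 8388611) (by decide))
  have hX := (isList_singleton (m := 8388611) (by decide))
  have m1 := (sextOf_mem_sextets (T := mset 8421379) (by rw [card_mset]; decide +kernel))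
  have l1 := (isList_sextOf (t := 8421379) (L := [432, 84032, 925696, 1050116, 6295560, 8421379]) (by decide +kernel))
  have m2 := (sextOf_mem_sextets (T := mset 8536096) (by rw [card_mset]; decide +kernel))
  have l2 := (isList_sextOf (t := 8536096) (L := [15, 5264, 622848, 3416064, 4196928, 8536096]) (by decide +kernel))
  have m3 := (sextOf_mem_sextets (T := mset 10486528) (by rw [card_mset]; decide +kernel))
  have l3 := (isList_sextOf (t := 10486528) (L := [29, 5250, 346112, 663616, 5275680, 10486528]) (by decide +kernel))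
  apply decomp3_of_lower (Set.toFinite _) (fun g hg y hy => sextets_smul hg hy) m1 m2 m3
    (orbit_lower_sext _ _ hfix _ s5616_gens_ok _ _ _ _ c1)
    (orbit_lower_sext _ _ hfix _ s5616_gens_ok _ _ _ _ c2)
    (orbit_lower_sext _ _ hfix _ s5616_gens_ok _ _ _ _ c3)
  · rw [ncard_sextets]
  · exact not_mem_SF hX l1 l2 0 (by decide +kernel)
  · exact not_mem_SF hX l1 l3 0 (by decide +kernel)
  · exact not_mem_SF hX l2 l3 0 (by decide +kernel)

end Cfsg.Agent.Lib.Helper9.M24
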