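import Mathlib
import Cfsg.Prelude.Def_Sporadic_a
import Cfsg.Prelude.Def_SporadicCombinatorics
import Cfsg.Agent.Lib.Helper9.S5616Ref
import Cfsg.Agent.Lib.Helper9.M24Trans

set_option autoImplicit false
open Cfsg

/-! Sextets against a three-point set: the number of tetrads met is a complete invariant for the action of
the stabilizer of the three-point set. -/

namespace Cfsg.Agent.Lib.Helper9.M24

open scoped Pointwise
open Cfsg.Agent.Lib.Helper1 (gIdx ofMask cw popcN)

/-- The number of members of a family meeting a point set. -/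
def hitCount (Y : Finset GolayPt) (S : Finset (Finset GolayPt)) : ℕ :=
  (S.filter fun t => (t ∩ Y).Nonempty).card

theorem nonempty_smul_inter (g : Equiv.Perm GolayPt) (t Y : Finset GolayPt) :
    (g • t ∩ g • Y).Nonempty ↔ (t ∩ Y).Nonempty := by
  rw [← Finset.card_pos, ← Finset.card_pos, card_smul_inter]

theorem hitCount_smul (g : Equiv.Perm GolayPt) (Y : Finset GolayPt) (S : Finset (Finset GolayPt)) :
    hitCount (g • Y) (g • S) = hitCount Y S := by
  unfold hitCount
  rw [smul_family_eq_image, Finset.filter_image, Finset.card_image_of_injective _ (MulAction.injective g)]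
  congr 1
  apply Finset.filter_congr
  intro t _
  exact nonempty_smul_inter g t Y

theorem mset_eq_empty_iff {m : ℕ} (hm : m < 2 ^ 24) : mset m = ∅ ↔ m = 0 := by
  constructor
  · intro h
    rw [← mset_zero] at h
    exact mset_injOn hm (by norm_num) h
  · rintro rfl
    exact mset_zero

/-- The hit count on a family given by a list of masks. -/
theorem hitCount_msetsOf {y : ℕ} {L : List ℕ} (hL : masksOK L = true) :
    hitCount (mset y) (msetsOf L) = (L.map (fun u => if u &&& y = 0 then 0 else 1)).sum := by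
  classical
  unfold hitCount
  rw [Finset.card_filter, sum_msetsOf hL]
  congr 1
  apply List.map_congr_left
  intro u hu
  have hu24 : u < 2 ^ 24 := by
    unfold masksOK at hL
    rw [Bool.and_eq_true] at hL
    have := List.all_eq_true.mp hL.2 u hu
    rwa [decide_eq_true_eq] at this
  have hlt : u &&& y < 2 ^ 24 := lt_of_le_of_lt Nat.and_le_left hu24
  rw [← mset_and]
  have hiff : (mset (u &&& y)).Nonempty ↔ ¬ (u &&& y = 0) := by
    rw [Finset.nonempty_iff_ne_empty, ne_eq, mset_eq_empty_iff hlt]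
  by_cases h : u &&& y = 0
  · rw [if_neg (fun hne => hiff.mp hne h), if_pos h]
  · rw [if_pos (hiff.mpr h), if_neg h]

/-- The decomposition for the reference three-point set, with the hit counts of the representatives. -/
theorem s5616_ref : ∃ r₁ ∈ sextets, ∃ r₂ ∈ sextets, ∃ r₃ ∈ sextets,
    hitCount (mset 8388611) r₁ = 1 ∧ hitCount (mset 8388611) r₂ = 2 ∧ hitCount (mset 8388611) r₃ = 3 ∧
    (stabOrbit (mset 8388611) r₁).ncard = 21 ∧ (stabOrbit (mset 8388611) r₂).ncard = 630 ∧
    (stabOrbit (mset 8388611) r₃).ncard = 1120 ∧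
    sextets = stabOrbit (mset 8388611) r₁ ∪ stabOrbit (mset 8388611) r₂ ∪ stabOrbit (mset 8388611) r₃ := by
  have hchk := s5616_sx_chk
  rw [Bool.and_eq_true, Bool.and_eq_true] at hchk
  obtain ⟨⟨c1, c2⟩, c3⟩ := hchk
  have hfix := (hfix_set (m := 8388611) (by decide))
  have hX := (isList_singleton (m := 8388611) (by decide))
  have m1 := (sextOf_mem_sextets (T := mset 8421379) (by rw [card_mset]; decide +kernel))
  have l1 := (isList_sextOf (t := 8421379) (L := [432, 84032, 925696, 1050116, 6295560, 8421379]) (by decide +kernel))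
  have m2 := (sextOf_mem_sextets (T := mset 8536096) (by rw [card_mset]; decide +kernel))
  have l2 := (isList_sextOf (t := 8536096) (L := [15, 5264, 622848, 3416064, 4196928, 8536096]) (by decide +kernel))
  have m3 := (sextOf_mem_sextets (T := mset 10486528) (by rw [card_mset]; decide +kernel))
  have l3 := (isList_sextOf (t := 10486528) (L := [29, 5250, 346112, 663616, 5275680, 10486528]) (by decide +kernel))
  have h𝒴 : ∀ g ∈ M24, ∀ y ∈ sextets, g • y ∈ sextets := fun g hg y hy => sextets_smul hg hy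
  obtain ⟨e1, e2, e3, e4⟩ := three_partition (Set.toFinite sextets)
    (stabOrbit_subset (X := mset 8388611) h𝒴 m1) (stabOrbit_subset (X := mset 8388611) h𝒴 m2)
    (stabOrbit_subset (X := mset 8388611) h𝒴 m3)
    (stabOrbit_disjoint (not_mem_SF hX l1 l2 0 (by decide +kernel)))
    (stabOrbit_disjoint (not_mem_SF hX l1 l3 0 (by decide +kernel)))
    (stabOrbit_disjoint (not_mem_SF hX l2 l3 0 (by decide +kernel)))
    (orbit_lower_sext _ _ hfix _ s5616_gens_ok _ _ _ _ c1)
    (orbit_lower_sext _ _ hfix _ s5616_gens_ok _ _ _ _ c2)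
    (orbit_lower_sext _ _ hfix _ s5616_gens_ok _ _ _ _ c3) (by rw [ncard_sextets])
  refine ⟨_, m1, _, m2, _, m3, ?_, ?_, ?_, e1, e2, e3, e4⟩
  · rw [l1.1, hitCount_msetsOf l1.2]; decide +kernel
  · rw [l2.1, hitCount_msetsOf l2.2]; decide +kernel
  · rw [l3.1, hitCount_msetsOf l3.2]; decide +kernel

/-- The same for an arbitrary three-point set. -/
theorem s5616_gen {Y : Finset GolayPt} (hY : Y.card = 3) : ∃ r₁ ∈ sextets, ∃ r₂ ∈ sextets, ∃ r₃ ∈ sextets,
    hitCount Y r₁ = 1 ∧ hitCount Y r₂ = 2 ∧ hitCount Y r₃ = 3 ∧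
    (stabOrbit Y r₁).ncard = 21 ∧ (stabOrbit Y r₂).ncard = 630 ∧ (stabOrbit Y r₃).ncard = 1120 ∧
    sextets = stabOrbit Y r₁ ∪ stabOrbit Y r₂ ∪ stabOrbit Y r₃ := by
  obtain ⟨k, hk, rfl⟩ := exists_smul_triple hY
  obtain ⟨r₁, m1, r₂, m2, r₃, m3, i1, i2, i3, e1, e2, e3, e4⟩ := s5616_ref
  have h𝒴 : ∀ g ∈ M24, ∀ y ∈ sextets, g • y ∈ sextets := fun g hg y hy => sextets_smul hg hy
  refine ⟨k • r₁, h𝒴 k hk _ m1, k • r₂, h𝒴 k hk _ m2, k • r₃, h𝒴 k hk _ m3, ?_, ?_, ?_, ?_, ?_, ?_, ?_⟩
  · rw [hitCount_smul, i1]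
  · rw [hitCount_smul, i2]
  · rw [hitCount_smul, i3]
  · rw [ncard_stabOrbit_smul hk, e1]
  · rw [ncard_stabOrbit_smul hk, e2]
  · rw [ncard_stabOrbit_smul hk, e3]
  · rw [stabOrbit_smul hk, stabOrbit_smul hk, stabOrbit_smul hk, ← Set.image_union, ← Set.image_union, ← e4,
      smul_family_eq h𝒴 hk]

theorem hitCount_of_mem_stabOrbit {Y : Finset GolayPt} {r S : Finset (Finset GolayPt)}
    (h : S ∈ stabOrbit Y r) : hitCount Y S = hitCount Y r := by
  obtain ⟨g, -, hgY, rfl⟩ := h
  have := hitCount_smul g Y r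
  rw [hgY] at this
  exact this

/-- The final form: classes of sextets by hit count, and transitivity on each class. -/
theorem s5616_final {Y : Finset GolayPt} (hY : Y.card = 3) :
    {S : Finset (Finset GolayPt) | S ∈ sextets ∧ hitCount Y S = 1}.ncard = 21 ∧
    {S : Finset (Finset GolayPt) | S ∈ sextets ∧ hitCount Y S = 2}.ncard = 630 ∧
    {S : Finset (Finset GolayPt) | S ∈ sextets ∧ hitCount Y S = 3}.ncard = 1120 ∧
    ∀ S S' : Finset (Finset GolayPt), S ∈ sextets → S' ∈ sextets → hitCount Y S = hitCount Y S' →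
      ∃ g ∈ M24, g • Y = Y ∧ g • S = S' := by
  obtain ⟨r₁, m1, r₂, m2, r₃, m3, i1, i2, i3, e1, e2, e3, e4⟩ := s5616_gen hY
  have h𝒴 : ∀ g ∈ M24, ∀ y ∈ sextets, g • y ∈ sextets := fun g hg y hy => sextets_smul hg hy
  have hcls : ∀ S, S ∈ sextets → (S ∈ stabOrbit Y r₁ ∧ hitCount Y S = 1) ∨
      (S ∈ stabOrbit Y r₂ ∧ hitCount Y S = 2) ∨ (S ∈ stabOrbit Y r₃ ∧ hitCount Y S = 3) := by
    intro S hS
    rw [e4] at hS
    rcases hS with (hS | hS) | hS
    · exact Or.inl ⟨hS, by rw [hitCount_of_mem_stabOrbit hS, i1]⟩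
    · exact Or.inr (Or.inl ⟨hS, by rw [hitCount_of_mem_stabOrbit hS, i2]⟩)
    · exact Or.inr (Or.inr ⟨hS, by rw [hitCount_of_mem_stabOrbit hS, i3]⟩)
  have hset1 : {S : Finset (Finset GolayPt) | S ∈ sextets ∧ hitCount Y S = 1} = stabOrbit Y r₁ := by
    ext S
    constructor
    · rintro ⟨hS, hc⟩
      rcases hcls S hS with h | h | h
      · exact h.1
      · rw [h.2] at hc; omega
      · rw [h.2] at hc; omega
    · intro hS
      exact ⟨stabOrbit_subset h𝒴 m1 hS, by rw [hitCount_of_mem_stabOrbit hS, i1]⟩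
  have hset2 : {S : Finset (Finset GolayPt) | S ∈ sextets ∧ hitCount Y S = 2} = stabOrbit Y r₂ := by
    ext S
    constructor
    · rintro ⟨hS, hc⟩
      rcases hcls S hS with h | h | h
      · rw [h.2] at hc; omega
      · exact h.1
      · rw [h.2] at hc; omega
    · intro hS
      exact ⟨stabOrbit_subset h𝒴 m2 hS, by rw [hitCount_of_mem_stabOrbit hS, i2]⟩
  have hset3 : {S : Finset (Finset GolayPt) | S ∈ sextets ∧ hitCount Y S = 3} = stabOrbit Y r₃ := by
    ext S
    constructor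
    · rintro ⟨hS, hc⟩
      rcases hcls S hS with h | h | h
      · rw [h.2] at hc; omega
      · rw [h.2] at hc; omega
      · exact h.1
    · intro hS
      exact ⟨stabOrbit_subset h𝒴 m3 hS, by rw [hitCount_of_mem_stabOrbit hS, i3]⟩
  refine ⟨by rw [hset1, e1], by rw [hset2, e2], by rw [hset3, e3], ?_⟩
  intro S S' hS hS' hc
  have key : ∀ r, S ∈ stabOrbit Y r → S' ∈ stabOrbit Y r → ∃ g ∈ M24, g • Y = Y ∧ g • S = S' := by
    intro r h1 h2
    have : S' ∈ stabOrbit Y S := by
      rw [stabOrbit_eq_of_mem h1]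
      exact h2
    obtain ⟨g, hg, hgY, hgS⟩ := this
    exact ⟨g, hg, hgY, hgS⟩
  rcases hcls S hS with h | h | h <;> rcases hcls S' hS' with h' | h' | h'
  · exact key _ h.1 h'.1
  · rw [h.2, h'.2] at hc; omega
  · rw [h.2, h'.2] at hc; omega
  · rw [h.2, h'.2] at hc; omega
  · exact key _ h.1 h'.1
  · rw [h.2, h'.2] at hc; omega
  · rw [h.2, h'.2] at hc; omega
  · rw [h.2, h'.2] at hc; omega
  · exact key _ h.1 h'.1

end Cfsg.Agent.Lib.Helper9.M24
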