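import Mathlib
import Cfsg.Prelude.Def_Sporadic_a
import Cfsg.Prelude.Def_SporadicCombinatorics
import Cfsg.Agent.Lib.Helper9.PairInv2
import Cfsg.Agent.Lib.Helper9.OrbitBridge
import Cfsg.Agent.Lib.Helper9.S5617Data

set_option autoImplicit false
open Cfsg

/-! Generated: the orbits of the stabilizer of a reference object. -/

namespace Cfsg.Agent.Lib.Helper9.M24

open scoped Pointwise

theorem s5617_gens_ok : (idt :: s5617_gens).all (genOK (fun a => pairFixP a 28637)) = true := by
  decide +kernel

theorem s5617_sx_chk :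
    (orbChkSext s5617_gens 8536072 396 s5617_sx1_L s5617_sx1_W &&
      orbChkSext s5617_gens 10486528 495 s5617_sx2_L s5617_sx2_W &&
      orbChkSext s5617_gens 8536096 880 s5617_sx3_L s5617_sx3_W) = true := by
  decide +kernel

theorem s5617_sx : Decomp3 (dodPair (mset 28637)) sextets 396 495 880 := by
  have hchk := s5617_sx_chk
  rw [Bool.and_eq_true, Bool.and_eq_true] at hchk
  obtain ⟨⟨c1, c2⟩, c3⟩ := hchk
  have hfix := (hfix_pair (d := 28637) (by decide))
  have hX := (isList_dodPair (d := 28637) (L := [28637, 16748578]) (by decide +kernel))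
  have m1 := (sextOf_mem_sextets (T := mset 8536072) (by rw [card_mset]; decide +kernel))
  have l1 := (isList_sextOf (t := 8536072) (L := [39, 45120, 786960, 1116288, 6292736, 8536072]) (by decide +kernel))
  have m2 := (sextOf_mem_sextets (T := mset 10486528) (by rw [card_mset]; decide +kernel))
  have l2 := (isList_sextOf (t := 10486528) (L := [29, 5250, 346112, 663616, 5275680, 10486528]) (by decide +kernel))
  have m3 := (sextOf_mem_sextets (T := mset 8536096) (by rw [card_mset]; decide +kernel))
  have l3 := (isList_sextOf (t := 8536096) (L := [15, 5264, 622848, 3416064, 4196928, 8536096]) (by decide +kernel))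
  apply decomp3_of_lower (Set.toFinite _) (fun g hg y hy => sextets_smul hg hy) m1 m2 m3
    (orbit_lower_sext _ _ hfix _ s5617_gens_ok _ _ _ _ c1)
    (orbit_lower_sext _ _ hfix _ s5617_gens_ok _ _ _ _ c2)
    (orbit_lower_sext _ _ hfix _ s5617_gens_ok _ _ _ _ c3)
  · rw [ncard_sextets]
  · exact not_mem_FF hX l1 l2 2 (by decide +kernel)
  · exact not_mem_FF hX l1 l3 2 (by decide +kernel)
  · exact not_mem_FF hX l2 l3 2 (by decide +kernel)

end Cfsg.Agent.Lib.Helper9.M24
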