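import Mathlib
import Cfsg.Prelude.Def_Sporadic_a
import Cfsg.Prelude.Def_SporadicCombinatorics
import Cfsg.Agent.Lib.Helper9.S5607Ref
import Cfsg.Agent.Lib.Helper9.M24Ord7
import Cfsg.Agent.Lib.Helper9.M24Trans2
import Cfsg.Agent.Lib.Helper9.S5619Data

set_option autoImplicit false
open Cfsg

/-! Boolean certificates for the stabilizer of a dodecad and three of its points. -/

namespace Cfsg.Agent.Lib.Helper9.M24

open scoped Pointwise

/-- A valid table in the group fixing the reference dodecad. -/
def m9stab (a : List ℕ) : Bool := tabOK a && tabM24 a && (pmask a m9_d0 == m9_d0)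

theorem m9_m_ok : (tabOK m9_m && tabM24 m9_m && (pmask m9_m refDod == m9_d0)) = true := by decide +kernel

theorem m9_TA_ok : (List.range 24).all (fun x => !(Nat.testBit m9_d0 x) ||
    m9_TA.any (fun a => m9stab a && (tget a x == 23))) = true := by decide +kernel

theorem m9_TB_ok : (List.range 24).all (fun y => !(Nat.testBit m9_d0 y) || (y == 23) ||
    m9_TB.any (fun a => m9stab a && (tget a 23 == 23) && (tget a y == 0))) = true := by decide +kernel

theorem m9_TC_ok : (List.range 24).all (fun z => !(Nat.testBit m9_d0 z) || (z == 23) || (z == 0) ||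
    m9_TC.any (fun a => m9stab a && (tget a 23 == 23) && (tget a 0 == 0) && (tget a z == 1))) = true := by
  decide +kernel

/-- Membership test for the reference group. -/
def m9mem (a : List ℕ) : Bool := m9stab a && (tget a 23 == 23) && (tget a 0 == 0) && (tget a 1 == 1)

theorem m9_H_ok : m9_H.all m9mem = true := by decide +kernel

theorem m9_H_len : m9_H.length = 72 := by decide

theorem m9_H_nodup : (m9_H.map tkey).Nodup := by decide +kernel

theorem m9_enum : (List.range 24).all (fun a => (List.range 24).all (fun b =>
    !(Nat.testBit m9_d0 a) || !(Nat.testBit m9_d0 b) || (a == 23) || (a == 0) || (a == 1) ||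
    (b == 23) || (b == 0) || (b == 1) || (a == b) ||
    m9_U.any (fun u => patAt u 23 0 1 a b &&
      F48.all (fun f => !(pmask (tmul u f) m9_d0 == m9_d0) || m9_H.contains (tmul u f))))) = true := by
  decide +kernel

/-- The table has order dividing `n`. -/
def isOrdDvd (n : ℕ) (w : List ℕ) : Bool := (List.range 24).all fun i => tpow w n i == i

theorem m9_nine : m9_H.all (fun a => !(isOrdDvd 9 a) || isOrdDvd 3 a) = true := by decide +kernel

theorem m9_T3_eq : m9_H.filter (isOrdDvd 3) = m9_T3 := by decide +kernel

theorem m9_T3_len : m9_T3.length = 9 := by decide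

end Cfsg.Agent.Lib.Helper9.M24
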