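import Mathlib
import Cfsg.Prelude.Def_Sporadic_a
import Cfsg.Agent.Lib.Helper9.S5619Chk

set_option autoImplicit false
open Cfsg

/-! The quaternion subgroup of the reference group of order 72. -/

namespace Cfsg.Agent.Lib.Helper9.M24

open scoped Pointwise

/-- The table attached to an element of the quaternion group. -/
def qtab : QuaternionGroup 2 → List ℕ
  | .a i => m9_Q.getD i.val []
  | .xa i => m9_Q.getD (4 + i.val) []

theorem qtab_mem : ∀ x : QuaternionGroup 2, m9mem (qtab x) = true := by decide +kernel

theorem qtab_mul : ∀ x y : QuaternionGroup 2,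
    (List.range 24).all (fun i => tget (qtab (x * y)) i == tget (qtab x) (tget (qtab y) i)) = true := by
  decide +kernel

theorem qtab_inj : ∀ x y : QuaternionGroup 2, tkey (qtab x) = tkey (qtab y) → x = y := by decide +kernel

end Cfsg.Agent.Lib.Helper9.M24
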