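import Mathlib
import Cfsg.Prelude.Def_Sporadic_a
import Cfsg.Prelude.Def_SporadicCombinatorics
import Cfsg.Agent.Lib.Helper9.S5619Q
import Cfsg.Agent.Lib.Helper9.S5604Ref

set_option autoImplicit false
open Cfsg

/-! The stabilizer of a reference dodecad and three of its points in the group of the code. -/

namespace Cfsg.Agent.Lib.Helper9.M24

open scoped Pointwise

theorem m9_d0_lt : m9_d0 < 2 ^ 24 := by decide

theorem m9stab_spec {a : List ℕ} (h : m9stab a = true) :
    tabOK a = true ∧ tperm a ∈ M24 ∧ tperm a • mset m9_d0 = mset m9_d0 := by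
  unfold m9stab at h
  simp only [Bool.and_eq_true, beq_iff_eq] at h
  obtain ⟨⟨h1, h2⟩, h3⟩ := h
  refine ⟨h1, tperm_mem h1 h2, ?_⟩
  rw [smul_mset h1 m9_d0_lt, pmaskF_eq h1 m9_d0_lt, h3]

/-- The reference group: the stabilizer of the reference dodecad and of three of its points. -/
def m9Ref : Subgroup (Equiv.Perm GolayPt) :=
  M24 ⊓ MulAction.stabilizer (Equiv.Perm GolayPt) (mset m9_d0) ⊓
    MulAction.stabilizer (Equiv.Perm GolayPt) (none : GolayPt) ⊓
    MulAction.stabilizer (Equiv.Perm GolayPt) (some 0 : GolayPt) ⊓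
    MulAction.stabilizer (Equiv.Perm GolayPt) (some 1 : GolayPt)

theorem mem_m9Ref {g : Equiv.Perm GolayPt} : g ∈ m9Ref ↔ g ∈ M24 ∧ g • mset m9_d0 = mset m9_d0 ∧
    g none = none ∧ g (some 0) = some 0 ∧ g (some 1) = some 1 := by
  unfold m9Ref
  simp only [Subgroup.mem_inf, MulAction.mem_stabilizer_iff, Equiv.Perm.smul_def, and_assoc]

theorem m9mem_spec {a : List ℕ} (h : m9mem a = true) : tabOK a = true ∧ tperm a ∈ m9Ref := by
  unfold m9mem at h
  simp only [Bool.and_eq_true, beq_iff_eq] at h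
  obtain ⟨⟨⟨h1, h2⟩, h3⟩, h4⟩ := h
  obtain ⟨hok, hm, hd⟩ := m9stab_spec h1
  refine ⟨hok, mem_m9Ref.mpr ⟨hm, hd, ?_, ?_, ?_⟩⟩
  · apply natOfPt_injective
    rw [natOfPt_tperm hok]
    exact h2
  · apply natOfPt_injective
    rw [natOfPt_tperm hok]
    exact h3
  · apply natOfPt_injective
    rw [natOfPt_tperm hok]
    exact h4

/-- Every dodecad with three of its points can be moved to the reference configuration. -/
theorem exists_to_m9Ref {d : Finset GolayPt} (hd : d ∈ dodecads) {p q r : GolayPt} (hp : p ∈ d) (hq : q ∈ d)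
    (hr : r ∈ d) (hpq : p ≠ q) (hpr : p ≠ r) (hqr : q ≠ r) :
    ∃ k ∈ M24, k • d = mset m9_d0 ∧ k p = none ∧ k q = some 0 ∧ k r = some 1 := by
  -- first move the dodecad
  obtain ⟨g₁, hg₁, hg₁d⟩ := exists_smul_refDod hd
  have hm := m9_m_ok
  simp only [Bool.and_eq_true, beq_iff_eq] at hm
  obtain ⟨⟨hm1, hm2⟩, hm3⟩ := hm
  have hmm : tperm m9_m ∈ M24 := tperm_mem hm1 hm2
  have hk₁ : tperm m9_m * g₁⁻¹ ∈ M24 := Subgroup.mul_mem _ hmm (Subgroup.inv_mem _ hg₁)
  have hk₁d : (tperm m9_m * g₁⁻¹) • d = mset m9_d0 := by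
    rw [mul_smul, ← hg₁d, inv_smul_smul, smul_mset hm1 refDod_lt, pmaskF_eq hm1 refDod_lt, hm3]
  set k₁ := tperm m9_m * g₁⁻¹ with hk₁def
  have hmemd : ∀ {k : Equiv.Perm GolayPt}, k • d = mset m9_d0 → ∀ {x : GolayPt}, x ∈ d →
      Nat.testBit m9_d0 (natOfPt (k x)) = true := by
    intro k hk x hx
    rw [← mem_mset, ← hk]
    exact Finset.smul_mem_smul_finset hx
  -- move p to the extra point
  have hA := List.all_eq_true.mp m9_TA_ok (natOfPt (k₁ p)) (List.mem_range.mpr (natOfPt_lt _))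
  rw [hmemd hk₁d hp] at hA
  simp only [Bool.not_true, Bool.false_or, List.any_eq_true, Bool.and_eq_true, beq_iff_eq] at hA
  obtain ⟨a, -, ha1, ha2⟩ := hA
  obtain ⟨haok, ham, had⟩ := m9stab_spec ha1
  set k₂ := tperm a * k₁ with hk₂def
  have hk₂ : k₂ ∈ M24 := Subgroup.mul_mem _ ham hk₁
  have hk₂d : k₂ • d = mset m9_d0 := by rw [hk₂def, mul_smul, hk₁d, had]
  have hk₂p : natOfPt (k₂ p) = 23 := by
    rw [hk₂def, Equiv.Perm.mul_apply, natOfPt_tperm haok]
    exact ha2
  -- move q to the point 0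
  have hB := List.all_eq_true.mp m9_TB_ok (natOfPt (k₂ q)) (List.mem_range.mpr (natOfPt_lt _))
  rw [hmemd hk₂d hq] at hB
  have hq23 : natOfPt (k₂ q) ≠ 23 := by
    rw [← hk₂p]
    exact fun h => hpq (k₂.injective (natOfPt_injective h)).symm
  simp only [Bool.not_true, Bool.false_or, Bool.or_eq_true, List.any_eq_true, Bool.and_eq_true, beq_iff_eq] at hB
  rcases hB with hB | hB
  · exact absurd hB hq23
  obtain ⟨b, -, ⟨hb1, hb2⟩, hb3⟩ := hB
  obtain ⟨hbok, hbm, hbd⟩ := m9stab_spec hb1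
  set k₃ := tperm b * k₂ with hk₃def
  have hk₃ : k₃ ∈ M24 := Subgroup.mul_mem _ hbm hk₂
  have hk₃d : k₃ • d = mset m9_d0 := by rw [hk₃def, mul_smul, hk₂d, hbd]
  have hk₃p : natOfPt (k₃ p) = 23 := by
    rw [hk₃def, Equiv.Perm.mul_apply, natOfPt_tperm hbok, hk₂p]
    exact hb2
  have hk₃q : natOfPt (k₃ q) = 0 := by
    rw [hk₃def, Equiv.Perm.mul_apply, natOfPt_tperm hbok]
    exact hb3
  -- move r to the point 1
  have hC := List.all_eq_true.mp m9_TC_ok (natOfPt (k₃ r)) (List.mem_range.mpr (natOfPt_lt _))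
  rw [hmemd hk₃d hr] at hC
  have hr23 : natOfPt (k₃ r) ≠ 23 := by
    rw [← hk₃p]
    exact fun h => hpr (k₃.injective (natOfPt_injective h)).symm
  have hr0 : natOfPt (k₃ r) ≠ 0 := by
    rw [← hk₃q]
    exact fun h => hqr (k₃.injective (natOfPt_injective h)).symm
  simp only [Bool.not_true, Bool.false_or, Bool.or_eq_true, List.any_eq_true, Bool.and_eq_true, beq_iff_eq] at hC
  rcases hC with (hC | hC) | hC
  · exact absurd hC hr23
  · exact absurd hC hr0
  obtain ⟨c, -, ⟨⟨hc1, hc2⟩, hc3⟩, hc4⟩ := hC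
  obtain ⟨hcok, hcm, hcd⟩ := m9stab_spec hc1
  refine ⟨tperm c * k₃, Subgroup.mul_mem _ hcm hk₃, ?_, ?_, ?_, ?_⟩
  · rw [mul_smul, hk₃d, hcd]
  · apply natOfPt_injective
    rw [Equiv.Perm.mul_apply, natOfPt_tperm hcok, hk₃p]
    exact hc2
  · apply natOfPt_injective
    rw [Equiv.Perm.mul_apply, natOfPt_tperm hcok, hk₃q]
    exact hc3
  · apply natOfPt_injective
    rw [Equiv.Perm.mul_apply, natOfPt_tperm hcok]
    exact hc4

theorem m9_H_spec {a : List ℕ} (ha : a ∈ m9_H) : tabOK a = true ∧ tperm a ∈ m9Ref :=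
  m9mem_spec (List.all_eq_true.mp m9_H_ok a ha)

/-- Every element of the reference group is in the list. -/
theorem m9Ref_cases {g : Equiv.Perm GolayPt} (hg : g ∈ m9Ref) : ∃ a ∈ m9_H, g = tperm a := by
  obtain ⟨hm, hd, h23, h0, h1⟩ := mem_m9Ref.mp hg
  have hbit : ∀ i, Nat.testBit m9_d0 i = true → i < 24 → Nat.testBit m9_d0 (cN g i) = true := by
    intro i hi hi24
    unfold cN
    rw [← mem_mset, ← hd]
    apply Finset.smul_mem_smul_finset
    rw [mem_mset, natOfPt_ptOfNat i hi24]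
    exact hi
  have e23 : cN g 23 = 23 := by
    show natOfPt (g none) = 23
    rw [h23]
    rfl
  have e0 : cN g 0 = 0 := by
    show natOfPt (g (some 0)) = 0
    rw [h0]
    rfl
  have e1 : cN g 1 = 1 := by
    show natOfPt (g (some 1)) = 1
    rw [h1]
    rfl
  have hchk := List.all_eq_true.mp (List.all_eq_true.mp m9_enum (cN g 2) (List.mem_range.mpr (cN_lt g 2)))
    (cN g 3) (List.mem_range.mpr (cN_lt g 3))
  rw [hbit 2 (by decide) (by norm_num), hbit 3 (by decide) (by norm_num)] at hchk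
  simp only [Bool.not_true, Bool.false_or, Bool.or_eq_true, beq_iff_eq, List.any_eq_true, Bool.and_eq_true] at hchk
  have hne : ∀ {i j : ℕ}, i < 24 → j < 24 → i ≠ j → cN g i ≠ cN g j :=
    fun hi hj hij h => hij (cN_inj g hi hj h)
  rcases hchk with ((((((hc | hc) | hc) | hc) | hc) | hc) | hc) | hc
  · exact absurd (hc.trans e23.symm) (hne (by norm_num) (by norm_num) (by norm_num))
  · exact absurd (hc.trans e0.symm) (hne (by norm_num) (by norm_num) (by norm_num))
  · exact absurd (hc.trans e1.symm) (hne (by norm_num) (by norm_num) (by norm_num))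
  · exact absurd (hc.trans e23.symm) (hne (by norm_num) (by norm_num) (by norm_num))
  · exact absurd (hc.trans e0.symm) (hne (by norm_num) (by norm_num) (by norm_num))
  · exact absurd (hc.trans e1.symm) (hne (by norm_num) (by norm_num) (by norm_num))
  · exact absurd hc (hne (by norm_num) (by norm_num) (by norm_num))
  · obtain ⟨u, -, hpat, hall⟩ := hc
    obtain ⟨hu', u0, u1, u2, u3, u4⟩ := patAt_spec hpat
    obtain ⟨f, hf, hok, hgf⟩ := pattern_cases (patOK_of_patOK' hu') hm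
      (show natOfPt (g none) = tget u 23 by rw [u0]; exact e23)
      (show natOfPt (g (some 0)) = tget u 0 by rw [u1]; exact e0)
      (show natOfPt (g (some 1)) = tget u 1 by rw [u2]; exact e1)
      (show natOfPt (g (some 2)) = tget u 2 by rw [u3]; rfl)
      (show natOfPt (g (some 3)) = tget u 3 by rw [u4]; rfl)
    have hfix : (pmask (tmul u f) m9_d0 == m9_d0) = true := by
      rw [← pmaskF_eq hok m9_d0_lt, ← smul_mset_eq_iff hok m9_d0_lt, ← hgf]
      exact hd
    have := List.all_eq_true.mp hall f hf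
    rw [hfix] at this
    simp only [Bool.not_true, Bool.false_or, List.contains_iff_mem] at this
    exact ⟨_, this, hgf⟩

theorem m9Ref_eq_image : (m9Ref : Set (Equiv.Perm GolayPt)) = ↑(m9_H.toFinset.image tperm) := by
  classical
  ext c
  rw [Finset.coe_image, List.coe_toFinset]
  constructor
  · intro hc
    obtain ⟨a, ha, rfl⟩ := m9Ref_cases hc
    exact ⟨a, ha, rfl⟩
  · rintro ⟨a, ha, rfl⟩
    exact (m9_H_spec ha).2

theorem card_m9Ref : Nat.card ↥m9Ref = 72 := by
  classical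
  show Nat.card (m9Ref : Set (Equiv.Perm GolayPt)) = 72
  rw [m9Ref_eq_image, Nat.card_coe_set_eq, Set.ncard_coe_finset,
    card_image_tperm _ (fun a ha => (m9_H_spec ha).1) m9_H_nodup, m9_H_len]

theorem pow_eq_one_iff_isOrdDvd {a : List ℕ} (h : tabOK a = true) (n : ℕ) :
    tperm a ^ n = 1 ↔ isOrdDvd n a = true := by
  unfold isOrdDvd
  rw [List.all_eq_true]
  constructor
  · intro hn i hi
    rw [List.mem_range] at hi
    rw [beq_iff_eq]
    have := natOfPt_pow h n (ptOfNat i)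
    rw [hn, natOfPt_ptOfNat i hi, Equiv.Perm.one_apply, natOfPt_ptOfNat i hi] at this
    exact this.symm
  · intro hall
    apply Equiv.ext
    intro p
    apply natOfPt_injective
    rw [natOfPt_pow h, Equiv.Perm.one_apply]
    have := hall (natOfPt p) (List.mem_range.mpr (natOfPt_lt p))
    rwa [beq_iff_eq] at this

theorem m9Ref_nine {g : Equiv.Perm GolayPt} (hg : g ∈ m9Ref) (h9 : g ^ 9 = 1) : g ^ 3 = 1 := by
  obtain ⟨a, ha, rfl⟩ := m9Ref_cases hg
  have hok := (m9_H_spec ha).1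
  rw [pow_eq_one_iff_isOrdDvd hok] at h9 ⊢
  have := List.all_eq_true.mp m9_nine a ha
  rw [h9] at this
  simpa using this

theorem m9_cube_set : {g : Equiv.Perm GolayPt | g ∈ m9Ref ∧ g ^ 3 = 1} = ↑(m9_T3.toFinset.image tperm) := by
  classical
  ext c
  rw [Finset.coe_image, List.coe_toFinset, Set.mem_setOf_eq, ← m9_T3_eq]
  constructor
  · rintro ⟨hc, h3⟩
    obtain ⟨a, ha, rfl⟩ := m9Ref_cases hc
    refine ⟨a, ?_, rfl⟩
    rw [Set.mem_setOf_eq, List.mem_filter]
    exact ⟨ha, (pow_eq_one_iff_isOrdDvd (m9_H_spec ha).1 3).mp h3⟩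
  · rintro ⟨a, ha, rfl⟩
    rw [Set.mem_setOf_eq, List.mem_filter] at ha
    exact ⟨(m9_H_spec ha.1).2, (pow_eq_one_iff_isOrdDvd (m9_H_spec ha.1).1 3).mpr ha.2⟩

theorem m9_cube_ncard : {g : Equiv.Perm GolayPt | g ∈ m9Ref ∧ g ^ 3 = 1}.ncard = 9 := by
  classical
  have hsub : ∀ a ∈ m9_T3, a ∈ m9_H := by
    intro a ha
    rw [← m9_T3_eq] at ha
    exact (List.mem_filter.mp ha).1
  have hnd : (m9_T3.map tkey).Nodup := by
    rw [← m9_T3_eq]
    exact (List.Nodup.filter _ (List.Nodup.of_map _ m9_H_nodup)).map_on (fun x hx y hy hxy =>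
      List.inj_on_of_nodup_map m9_H_nodup (List.mem_filter.mp hx).1 (List.mem_filter.mp hy).1 hxy)
  rw [m9_cube_set, Set.ncard_coe_finset, card_image_tperm _ (fun a ha => (m9_H_spec (hsub a ha)).1) hnd,
    m9_T3_len]

/-! ### The quaternion subgroup -/

theorem qtab_spec (x : QuaternionGroup 2) : tabOK (qtab x) = true ∧ tperm (qtab x) ∈ m9Ref :=
  m9mem_spec (qtab_mem x)

theorem tperm_eq_of_agree {a b : List ℕ} (hb : tabOK b = true)
    (h : ∀ p : GolayPt, natOfPt (tperm a p) = tget b (natOfPt p)) : tperm a = tperm b :=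
  eq_tperm_of_apply hb h

/-- The embedding of the quaternion group. -/
def qHom : QuaternionGroup 2 →* Equiv.Perm GolayPt where
  toFun x := tperm (qtab x)
  map_one' := by
    apply Equiv.ext
    intro p
    apply natOfPt_injective
    rw [natOfPt_tperm (qtab_spec 1).1, Equiv.Perm.one_apply]
    have : ∀ i < 24, tget (qtab 1) i = i := by decide +kernel
    exact this _ (natOfPt_lt p)
  map_mul' x y := by
    apply Equiv.ext
    intro p
    apply natOfPt_injective
    rw [Equiv.Perm.mul_apply, natOfPt_tperm (qtab_spec (x * y)).1, natOfPt_tperm (qtab_spec x).1,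
      natOfPt_tperm (qtab_spec y).1]
    have := List.all_eq_true.mp (qtab_mul x y) (natOfPt p) (List.mem_range.mpr (natOfPt_lt p))
    rwa [beq_iff_eq] at this

theorem qHom_mem (x : QuaternionGroup 2) : qHom x ∈ m9Ref := (qtab_spec x).2

theorem qHom_injective : Function.Injective qHom := by
  intro x y hxy
  exact qtab_inj x y (tkey_eq_of_tperm_eq (qtab_spec x).1 (qtab_spec y).1 hxy)

end Cfsg.Agent.Lib.Helper9.M24
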