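import Mathlib
import Cfsg.Prelude
import Cfsg.Agent.Lib.Helper9.QD2
import Cfsg.Agent.Lib.Helper9.Sections
import Cfsg.Agent.Lib.Helper9.ZW1
import Cfsg.Agent.Lib.Lead.ZJFun
import Cfsg.Agent.S0664

set_option autoImplicit false

/-!
# `SL₂(p)`-free systems (part 1): `SL₂(p)` has no normal `p`-subgroup, sections through maps with `p`-group kernel,
`Z(J)` is a Glauberman functor relative to `SL₂(p)`
-/

namespace Cfsg.Agent.H9SF

open Matrix Cfsg Cfsg.Agent.Lib.Helper9 Cfsg.Agent.H9QD Cfsg.Agent.H9ZW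

universe u

/-- The group `SL₂(p)`. -/
abbrev SL2 (p : ℕ) : Type := Matrix.SpecialLinearGroup (Fin 2) (ZMod p)

section sl2
variable {p : ℕ} [hp : Fact p.Prime]

/-- A matrix of `SL₂(p)` with a given nonzero first column. -/
theorem exists_sl2_col (v : Fin 2 → ZMod p) (hv : v ≠ 0) :
    ∃ M : SL2 p, M.1 *ᵥ (Pi.single 0 1) = v := by
  by_cases h0 : v 0 = 0
  · have h1 : v 1 ≠ 0 := by
      intro h1
      apply hv
      funext i
      fin_cases i
      · exact h0
      · exact h1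
    refine ⟨⟨!![v 0, -(v 1)⁻¹; v 1, 0], ?_⟩, ?_⟩
    · rw [Matrix.det_fin_two]
      simp [h1]
    · rw [Matrix.mulVec_single_one]
      funext i
      fin_cases i <;> simp
  · refine ⟨⟨!![v 0, 0; v 1, (v 0)⁻¹], ?_⟩, ?_⟩
    · rw [Matrix.det_fin_two]
      simp [h0]
    · rw [Matrix.mulVec_single_one]
      funext i
      fin_cases i <;> simp

/-- `SL₂(p)` is transitive on the nonzero vectors. -/
theorem exists_sl2_mulVec (v w : Fin 2 → ZMod p) (hv : v ≠ 0) (hw : w ≠ 0) :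
    ∃ M : SL2 p, M.1 *ᵥ v = w := by
  obtain ⟨A, hA⟩ := exists_sl2_col v hv
  obtain ⟨B, hB⟩ := exists_sl2_col w hw
  refine ⟨B * A⁻¹, ?_⟩
  have h1 : (A⁻¹ : SL2 p).1 *ᵥ v = Pi.single 0 1 := by
    rw [← hA, Matrix.mulVec_mulVec]
    have h2 : (A⁻¹ : SL2 p).1 * A.1 = 1 := congrArg Subtype.val (inv_mul_cancel A)
    rw [h2, Matrix.one_mulVec]
  show (B.1 * (A⁻¹ : SL2 p).1) *ᵥ v = w
  rw [← Matrix.mulVec_mulVec, h1, hB]

/-- `SL₂(p)` has no nontrivial normal `p`-subgroup. -/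
theorem sl2_normal_pgroup_eq_bot (N : Subgroup (SL2 p)) (hN : N.Normal) (hNp : IsPGroup p N) : N = ⊥ := by
  classical
  letI act : MulAction N (Fin 2 → ZMod p) :=
    { smul := fun n v => (n : SL2 p).1 *ᵥ v
      one_smul := fun v => by
        show ((1 : N) : SL2 p).1 *ᵥ v = v
        simp
      mul_smul := fun a b v => by
        show ((a * b : N) : SL2 p).1 *ᵥ v = (a : SL2 p).1 *ᵥ ((b : SL2 p).1 *ᵥ v)
        rw [Matrix.mulVec_mulVec]
        rfl }
  have hsmul : ∀ (n : N) (v : Fin 2 → ZMod p), n • v = (n : SL2 p).1 *ᵥ v := fun _ _ => rfl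
  have hmod := hNp.card_modEq_card_fixedPoints (Fin 2 → ZMod p)
  have hV : Nat.card (Fin 2 → ZMod p) = p ^ 2 := by
    rw [Nat.card_eq_fintype_card, Fintype.card_fun, ZMod.card, Fintype.card_fin]
  have hdvd : p ∣ Nat.card (MulAction.fixedPoints N (Fin 2 → ZMod p)) := by
    rw [hV] at hmod
    have h1 : p ^ 2 % p = 0 := Nat.mod_eq_zero_of_dvd (dvd_pow_self p two_ne_zero)
    have h2 : Nat.card (MulAction.fixedPoints N (Fin 2 → ZMod p)) % p = 0 := by
      rw [← hmod]; exact h1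
    exact Nat.dvd_of_mod_eq_zero h2
  have h0fix : (0 : Fin 2 → ZMod p) ∈ MulAction.fixedPoints N (Fin 2 → ZMod p) := by
    intro n
    rw [hsmul, Matrix.mulVec_zero]
  obtain ⟨v, hvfix, hv0⟩ : ∃ v ∈ MulAction.fixedPoints N (Fin 2 → ZMod p), v ≠ 0 := by
    by_contra hcon
    push Not at hcon
    haveI : Subsingleton (MulAction.fixedPoints N (Fin 2 → ZMod p)) := by
      constructor
      rintro ⟨a, ha⟩ ⟨b, hb⟩
      apply Subtype.ext
      show a = b
      rw [hcon a ha, hcon b hb]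
    haveI : Nonempty (MulAction.fixedPoints N (Fin 2 → ZMod p)) := ⟨⟨0, h0fix⟩⟩
    have h1 : Nat.card (MulAction.fixedPoints N (Fin 2 → ZMod p)) = 1 := Nat.card_unique
    rw [h1] at hdvd
    exact hp.out.one_lt.ne' (Nat.dvd_one.mp hdvd)
  rw [eq_bot_iff]
  intro n hn
  rw [Subgroup.mem_bot]
  apply sl2_eq_one_of_mulVec
  intro w
  by_cases hw : w = 0
  · rw [hw, Matrix.mulVec_zero]
  · obtain ⟨M, hM⟩ := exists_sl2_mulVec v w hv0 hw
    have hconj : M⁻¹ * n * M ∈ N := by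
      have := hN.conj_mem n hn M⁻¹
      rwa [inv_inv] at this
    have h1 : (M⁻¹ * n * M : SL2 p).1 *ᵥ v = v := hvfix ⟨_, hconj⟩
    have h2 : n = M * (M⁻¹ * n * M) * M⁻¹ := by group
    rw [h2, ← hM]
    show (M.1 * (M⁻¹ * n * M : SL2 p).1 * (M⁻¹ : SL2 p).1) *ᵥ (M.1 *ᵥ v) = M.1 *ᵥ v
    rw [Matrix.mulVec_mulVec, Matrix.mul_assoc, Matrix.mul_assoc]
    have h3 : (M⁻¹ : SL2 p).1 * M.1 = 1 := congrArg Subtype.val (inv_mul_cancel M)
    rw [h3, Matrix.mul_one, ← Matrix.mulVec_mulVec, h1]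

/-- `SL₂(p)` embeds in `Qd(p)`. -/
def slEmb (p : ℕ) [Fact p.Prime] : SL2 p →* ↥(Cfsg.qd p) where
  toFun M := qdMk M 0
  map_one' := qdMk_one
  map_mul' M M' := by
    rw [qdMk_mul, Matrix.mulVec_zero, add_zero]

theorem slEmb_injective : Function.Injective (slEmb p) := by
  intro M M' h
  have h1 : (qdMk M 0 : ↥(Cfsg.qd p)).1.1 = (qdMk M' 0 : ↥(Cfsg.qd p)).1.1 := by
    show ((slEmb p M : ↥(Cfsg.qd p))).1.1 = ((slEmb p M' : ↥(Cfsg.qd p))).1.1
    rw [h]
  apply Subtype.ext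
  ext i j
  have h2 : ∀ (A : SL2 p), (qdMk A 0 : ↥(Cfsg.qd p)).1.1 (Fin.castSucc i) (Fin.castSucc j) = A.1 i j := by
    intro A
    show affMat A.1 0 (Fin.castSucc i) (Fin.castSucc j) = A.1 i j
    fin_cases i <;> fin_cases j <;> simp [affMat]
  rw [← h2 M, ← h2 M', h1]

theorem isSectionOf_sl2_qd : IsSectionOf (SL2 p) ↥(Cfsg.qd p) :=
  (isSectionOf_of_mulEquiv (MulEquiv.refl (SL2 p))).of_injective (slEmb p) slEmb_injective

end sl2

/-- A surjection gives a section. -/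
theorem isSectionOf_of_surjective {A : Type*} [Group A] {G : Type*} [Group G] (f : G →* A)
    (hf : Function.Surjective f) : IsSectionOf A G :=
  ⟨⊤, f.comp (⊤ : Subgroup G).subtype, fun a => by
    obtain ⟨g, rfl⟩ := hf a
    exact ⟨⟨g, Subgroup.mem_top g⟩, rfl⟩⟩

/-- A section carried by a subgroup of `M` is a section of `M`. -/
theorem isSectionOf_of_le {A : Type*} [Group A] {G : Type*} [Group G] (K M : Subgroup G) (hKM : K ≤ M)
    (h : IsSectionOf A K) : IsSectionOf A M :=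
  h.of_injective (Subgroup.inclusion hKM) (Subgroup.inclusion_injective hKM)

/-- **Sections through a map with `p`-group kernel**: if `H` has no nontrivial normal `p`-subgroup, a surjection
`K → H` factors through every map of `K` whose kernel is a `p`-group. -/
theorem isSectionOf_range_of_ker_isPGroup {p : ℕ} {K H M : Type*} [Group K] [Group H] [Group M] (f : K →* H)
    (hf : Function.Surjective f) (g : K →* M) (hker : IsPGroup p g.ker)
    (hH : ∀ N : Subgroup H, N.Normal → IsPGroup p N → N = ⊥) : IsSectionOf H g.range := by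
  have h1 : g.ker.map f = ⊥ := hH _ (Subgroup.Normal.map inferInstance f hf) (hker.map f)
  have h2 : g.ker ≤ f.ker := (Subgroup.map_eq_bot_iff _).mp h1
  have h3 : g.rangeRestrict.ker ≤ f.ker := by rw [MonoidHom.ker_rangeRestrict]; exact h2
  refine isSectionOf_of_surjective
    (MonoidHom.liftOfSurjective g.rangeRestrict g.rangeRestrict_surjective ⟨f, h3⟩) ?_
  intro a
  obtain ⟨k, rfl⟩ := hf a
  refine ⟨g.rangeRestrict k, ?_⟩
  exact MonoidHom.liftOfRightInverse_comp_apply _ _ _ ⟨f, h3⟩ k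

/-- `Z(J)` is a Glauberman functor relative to `SL₂(p)`, for `p` odd. -/
theorem isGF_WZJ {p : ℕ} [hp : Fact p.Prime] (hp2 : p ≠ 2) :
    IsGF p (SL2 p) (Cfsg.Agent.Lib.Lead.ZJFun.WZJ.{u}) where
  ne_bot := by
    intro Q _ _ hQ hnt
    haveI := hnt
    exact Cfsg.Agent.Lib.Lead.ZJFun.WZJ_ne_bot hQ
  map_eq := by
    intro Q R _ _ _ _ φ
    exact Cfsg.Agent.Lib.Lead.ZJFun.map_WZJ φ
  normal := by
    intro L _ _ P hc hfree
    have hfree' : ¬ ∃ (K R : Subgroup L) (_ : (R.subgroupOf K).Normal),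
        Nonempty ((K ⧸ R.subgroupOf K) ≃* ↥(Cfsg.qd p)) := by
      intro h
      apply hfree
      apply involves_of_isSectionOf
      exact isSectionOf_sl2_qd.trans (isSectionOf_of_involves h)
    have hc' : Subgroup.centralizer (Cfsg.pCore p L : Set L) ≤ Cfsg.pCore p L := by
      rw [hc]; exact inf_le_left
    have h1 := Cfsg.Agent.S0664.result hp2 hfree' hc' P
    rw [← Cfsg.Agent.Lib.Lead.ZJFun.inducedFunctor_WZJ] at h1
    exact h1

end Cfsg.Agent.H9SF
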