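import Mathlib
import Cfsg.Prelude
import Cfsg.Agent.Lib.Helper9.SF1
import Cfsg.Agent.Lib.Helper9.FusionFactor
import Cfsg.Agent.Lib.Helper9.FusionAut2

set_option autoImplicit false

/-!
# `SL₂(p)`-free systems (part 2): the class of systems with `SL₂(p)`-free automizers is closed under factor systems
-/

namespace Cfsg.Agent.H9SF

open Cfsg Cfsg.FusionSystem Cfsg.Agent.Lib.Helper9

variable {Ω : Type*} [Group Ω] {S : Subgroup Ω}

/-- All automizers of the system are `SL₂(p)`-free. -/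
def SLFree (p : ℕ) (F : FusionSystem S) : Prop :=
  ∀ A : Subgroup Ω, A ≤ S → ¬ IsSectionOf (SL2 p) (F.autGroup A)

/-- Subsystems inherit the property. -/
theorem SLFree.subsystem {p : ℕ} {F : FusionSystem S} (h : SLFree p F) {T : Subgroup Ω} (hTS : T ≤ S)
    (E : FusionSystem T) (hle : ∀ A : Subgroup Ω, A ≤ T → E.autGroup A ≤ F.autGroup A) : SLFree p E := by
  intro A hA hsec
  exact h A (hA.trans hTS) (isSectionOf_of_le _ _ (hle A hA) hsec)

variable {Ω' : Type*} [Group Ω'] {S' : Subgroup Ω'}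

/-- The correspondence between automorphisms of the full preimage and of a subgroup of the factor system. -/
def corr (F : FusionSystem S) (E : FusionSystem S') (θ : S →* Ω') (B : Subgroup Ω') :
    Subgroup (F.autGroup (preimageAlong θ B) × E.autGroup B) where
  carrier := {x | ∀ a : preimageAlong θ B,
    θ ⟨(((x.1 : MulAut (preimageAlong θ B)) a : preimageAlong θ B) : Ω), preimageAlong_le θ B (_ : preimageAlong θ B).2⟩ =
      (((x.2 : MulAut B) ⟨θ ⟨a, preimageAlong_le θ B a.2⟩, apply_mem_of_mem_preimageAlong θ B a⟩ : B) : Ω')}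
  one_mem' := by
    intro a
    rfl
  mul_mem' := by
    intro x y hx hy a
    have h1 := hy a
    have h2 := hx ((y.1 : MulAut (preimageAlong θ B)) a)
    show θ ⟨(((x.1 : MulAut (preimageAlong θ B)) ((y.1 : MulAut (preimageAlong θ B)) a) :
      preimageAlong θ B) : Ω), _⟩ = (((x.2 : MulAut B) ((y.2 : MulAut B) _) : B) : Ω')
    rw [h2]
    congr 2
    exact Subtype.ext h1
  inv_mem' := by
    intro x hx a
    have h1 := hx ((x.1 : MulAut (preimageAlong θ B))⁻¹ a)
    show θ ⟨((((x.1 : MulAut (preimageAlong θ B))⁻¹) a : preimageAlong θ B) : Ω), _⟩ =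
      ((((x.2 : MulAut B)⁻¹) _ : B) : Ω')
    have h2 : (x.2 : MulAut B) ⟨θ ⟨(((x.1 : MulAut (preimageAlong θ B))⁻¹ a : preimageAlong θ B) : Ω),
        preimageAlong_le θ B (_ : preimageAlong θ B).2⟩,
        apply_mem_of_mem_preimageAlong θ B _⟩ =
        ⟨θ ⟨a, preimageAlong_le θ B a.2⟩, apply_mem_of_mem_preimageAlong θ B a⟩ := by
      apply Subtype.ext
      rw [← h1]
      simp only [MulAut.apply_inv_self]
    have h3 := congrArg (fun z => ((x.2 : MulAut B)⁻¹ : MulAut B) z) h2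
    simp only [MulAut.inv_apply_self] at h3
    exact congrArg Subtype.val h3

theorem mem_corr (F : FusionSystem S) (E : FusionSystem S') (θ : S →* Ω') (B : Subgroup Ω')
    (x : F.autGroup (preimageAlong θ B) × E.autGroup B) :
    x ∈ corr F E θ B ↔ ∀ a : preimageAlong θ B,
      θ ⟨(((x.1 : MulAut (preimageAlong θ B)) a : preimageAlong θ B) : Ω),
        preimageAlong_le θ B (_ : preimageAlong θ B).2⟩ =
      (((x.2 : MulAut B) ⟨θ ⟨a, preimageAlong_le θ B a.2⟩, apply_mem_of_mem_preimageAlong θ B a⟩ : B) : Ω') :=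
  Iff.rfl

/-- Factor systems inherit the property. -/
theorem SLFree.factor [Finite S] {p : ℕ} {F : FusionSystem S} (h : SLFree p F) (S₀ : Subgroup Ω)
    (θ : S →* Ω') (E : FusionSystem S') (hE : F.IsFactorSystem S₀ θ E) : SLFree p E := by
  intro B hB hsec
  have hAS : preimageAlong θ B ≤ S := preimageAlong_le θ B
  apply h (preimageAlong θ B) hAS
  refine hsec.trans ?_
  have hsurjθ : ∀ b : B, ∃ a : preimageAlong θ B, θ ⟨a, hAS a.2⟩ = b := by
    intro b
    have hb : (b : Ω') ∈ θ.range := by rw [hE.2.2.1]; exact hB b.2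
    obtain ⟨s, hs⟩ := hb
    have hsA : (s : Ω) ∈ preimageAlong θ B := by
      rw [mem_preimageAlong_iff]
      refine ⟨s.2, ?_⟩
      rw [Subtype.coe_eta, hs]
      exact b.2
    refine ⟨⟨s, hsA⟩, ?_⟩
    show θ ⟨(s : Ω), _⟩ = b
    rw [Subtype.coe_eta, hs]
  have h1 : IsSectionOf (E.autGroup B) (corr F E θ B) := by
    apply isSectionOf_of_surjective ((MonoidHom.snd _ _).comp (corr F E θ B).subtype)
    intro β
    have hβ := (mem_autGroup_iff E hB (β : MulAut B)).mp β.2
    obtain ⟨-, φ, hφ, hind⟩ := (hE.2.2.2 B _).mp hβ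
    obtain ⟨hP, hφS, hP', he⟩ := hind
    have hval : ∀ y : preimageAlong θ B, φ y ∈ preimageAlong θ B := by
      intro y
      rw [mem_preimageAlong_iff]
      refine ⟨hφS y, ?_⟩
      rw [← he y]
      exact ((β : MulAut B) _).2
    obtain ⟨α, hα, Hα⟩ := fs_hom_to_aut F hφ hval
    refine ⟨⟨(⟨α, hα⟩, β), ?_⟩, rfl⟩
    intro a
    show θ ⟨((α a : preimageAlong θ B) : Ω), _⟩ = (((β : MulAut B) ⟨θ ⟨a, _⟩, _⟩ : B) : Ω')
    have h3 : θ ⟨((α a : preimageAlong θ B) : Ω), hAS (α a).2⟩ = θ ⟨φ a, hφS a⟩ :=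
      congrArg θ (Subtype.ext (Hα a))
    exact h3.trans (he a).symm
  have h2 : IsSectionOf (corr F E θ B) (F.autGroup (preimageAlong θ B)) := by
    refine (isSectionOf_of_mulEquiv (MulEquiv.refl _)).of_injective
      ((MonoidHom.fst _ _).comp (corr F E θ B).subtype) ?_
    intro x y hxy
    have hxy' : x.1.1 = y.1.1 := hxy
    apply Subtype.ext
    apply Prod.ext hxy'
    apply Subtype.ext
    apply MulEquiv.ext
    intro b
    obtain ⟨a, hab⟩ := hsurjθ b
    apply Subtype.ext
    have hx := (mem_corr F E θ B x.1).mp x.2 a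
    have hy := (mem_corr F E θ B y.1).mp y.2 a
    have h4 : ∀ (z : B), z = ⟨θ ⟨a, hAS a.2⟩, apply_mem_of_mem_preimageAlong θ B a⟩ →
        (((x.1.2 : MulAut B) z : B) : Ω') = (((y.1.2 : MulAut B) z : B) : Ω') := by
      intro z hz
      rw [hz, ← hx, ← hy, hxy']
    exact h4 _ (Subtype.ext hab.symm)
  exact h1.trans h2

end Cfsg.Agent.H9SF
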