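import Mathlib
import Cfsg.Prelude
import Cfsg.Agent.Lib.Helper9.SF2
import Cfsg.Agent.Lib.Helper9.Constr5
import Cfsg.Agent.Lib.Helper9.PStabFus1
import Cfsg.Agent.Lib.Helper9.GroupFusion

set_option autoImplicit false

/-!
# `SL₂(p)`-free systems (part 7): translation for the fusion system of a group (normal subgroups, automizers)
-/

namespace Cfsg.Agent.H9SF

open Cfsg Cfsg.FusionSystem Cfsg.Agent.Lib.Helper9

variable {G : Type*} [Group G]

/-- The fusion system of a group on a subgroup is realized by the inclusion. -/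
theorem gfs_realized (T : Subgroup G) : (groupFusionSystem T).IsRealizedBy T.subtype := by
  refine ⟨Subgroup.subtype_injective T, fun P hP φ hφ => ?_⟩
  constructor
  · rintro ⟨-, -, g, hg⟩
    exact ⟨g, fun x => hg x⟩
  · rintro ⟨g, hg⟩
    exact ⟨hP, hφ, g, fun x => hg x⟩

theorem imageAlong_subtype {T Q : Subgroup G} (hQ : Q ≤ T) : imageAlong T.subtype Q = Q := by
  ext y
  rw [mem_imageAlong_iff]
  constructor
  · rintro ⟨s, hs, rfl⟩
    exact hs
  · intro hy
    exact ⟨⟨y, hQ hy⟩, hy, rfl⟩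

theorem gfs_isNormal_iff (T : Subgroup G) {Q : Subgroup G} (hQ : Q ≤ T) :
    (groupFusionSystem T).IsNormal Q ↔ H9Constr.GNormal T Q := by
  have h := H9Constr.isNormal_iff_gNormal (gfs_realized T) hQ
  rwa [imageAlong_subtype hQ, Subgroup.range_subtype] at h

theorem gfs_isCentric_iff (T : Subgroup G) {Q : Subgroup G} (hQ : Q ≤ T) :
    (groupFusionSystem T).IsCentric Q ↔ H9Constr.GCentric T Q := by
  have h := H9Constr.isCentric_iff_gCentric (gfs_realized T) hQ
  rwa [imageAlong_subtype hQ, Subgroup.range_subtype] at h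

/-- Section data: from a surjection of a subgroup `H` onto `A`, the kernel gives a normal subgroup with quotient `A`. -/
theorem section_data {A : Type*} [Group A] (H : Subgroup G) (f : H →* A) (hf : Function.Surjective f) :
    ∃ _ : ((f.ker.map H.subtype).subgroupOf H).Normal,
      Nonempty ((↥H ⧸ (f.ker.map H.subtype).subgroupOf H) ≃* A) := by
  have hker : (f.ker.map H.subtype).subgroupOf H = f.ker := by
    ext x
    rw [Subgroup.mem_subgroupOf]
    constructor
    · rintro ⟨y, hy, hyx⟩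
      have : y = x := Subtype.ext hyx
      rwa [← this]
    · intro hx
      exact ⟨x, hx, rfl⟩
  have hN : ((f.ker.map H.subtype).subgroupOf H).Normal := by
    rw [hker]; infer_instance
  exact ⟨hN, ⟨(QuotientGroup.quotientMulEquivOfEq hker).trans (QuotientGroup.quotientKerEquivOfSurjective f hf)⟩⟩

/-- The group hypothesis of `SL₂(p)`-free local automizers gives `SL₂(p)`-free automizers in the fusion system. -/
theorem slFree_of_hfree {p : ℕ} (T : Subgroup G) (hT : IsPGroup p T)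
    (hfree : ∀ Q : Subgroup G, IsPGroup p ↥Q → ¬ ∃ (H K : Subgroup G) (_ : (K.subgroupOf H).Normal),
      Subgroup.centralizer (Q : Set G) ≤ K ∧ K ≤ H ∧ H ≤ Subgroup.normalizer (Q : Set G) ∧
      Nonempty ((↥H ⧸ K.subgroupOf H) ≃* Matrix.SpecialLinearGroup (Fin 2) (ZMod p))) :
    SLFree p (groupFusionSystem T) := by
  intro Q hQ hsec
  rw [Cfsg.Agent.H9PStab.autGroup_eq_range T Q hQ] at hsec
  obtain ⟨c, hc⟩ : ∃ c : ↥(Subgroup.normalizer (Q : Set G)) →* MulAut Q, c = Q.normalizerMonoidHom := ⟨_, rfl⟩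
  rw [← hc] at hsec
  obtain ⟨K₀, f₀, hf₀⟩ := hsec
  apply hfree Q (hT.to_le hQ)
  obtain ⟨H, hH⟩ : ∃ H : Subgroup G, H = (K₀.comap c.rangeRestrict).map (Subgroup.normalizer (Q : Set G)).subtype :=
    ⟨_, rfl⟩
  have hHN : H ≤ Subgroup.normalizer (Q : Set G) := by
    rw [hH]; exact Subgroup.map_subtype_le _
  have hmem : ∀ x : H, (c.rangeRestrict.comp (Subgroup.inclusion hHN)) x ∈ K₀ := by
    rintro ⟨x, hx⟩
    rw [hH] at hx
    obtain ⟨n, hn, hnx⟩ := hx
    have : Subgroup.inclusion hHN ⟨x, by rw [hH]; exact ⟨n, hn, hnx⟩⟩ = n := Subtype.ext hnx.symm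
    show c.rangeRestrict (Subgroup.inclusion hHN _) ∈ K₀
    rw [this]
    exact hn
  obtain ⟨f, hfdef⟩ : ∃ f : H →* SL2 p,
      f = f₀.comp ((c.rangeRestrict.comp (Subgroup.inclusion hHN)).codRestrict K₀ hmem) := ⟨_, rfl⟩
  have hfsurj : Function.Surjective f := by
    intro a
    obtain ⟨k, rfl⟩ := hf₀ a
    obtain ⟨n, hn⟩ := MonoidHom.rangeRestrict_surjective c (k : ↥c.range)
    have hnK : n ∈ K₀.comap c.rangeRestrict := by
      rw [Subgroup.mem_comap, hn]; exact k.2
    have hxH : (n : G) ∈ H := by rw [hH]; exact ⟨n, hnK, rfl⟩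
    refine ⟨⟨n, hxH⟩, ?_⟩
    rw [hfdef]
    show f₀ _ = f₀ k
    congr 1
    apply Subtype.ext
    show c.rangeRestrict (Subgroup.inclusion hHN ⟨n, hxH⟩) = k
    rw [← hn]
    congr 1
  obtain ⟨hN, hiso⟩ := section_data H f hfsurj
  refine ⟨H, f.ker.map H.subtype, hN, ?_, Subgroup.map_subtype_le _, hHN, hiso⟩
  intro z hz
  have hzN : z ∈ Subgroup.normalizer (Q : Set G) := Subgroup.centralizer_le_normalizer _ hz
  have hcz : c ⟨z, hzN⟩ = 1 := by
    rw [hc, ← MonoidHom.mem_ker, Subgroup.normalizerMonoidHom_ker, Subgroup.mem_subgroupOf]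
    exact hz
  have hcz' : c.rangeRestrict ⟨z, hzN⟩ = 1 := Subtype.ext hcz
  have hzH : z ∈ H := by
    rw [hH]
    refine ⟨⟨z, hzN⟩, ?_, rfl⟩
    show c.rangeRestrict ⟨z, hzN⟩ ∈ K₀
    rw [hcz']
    exact K₀.one_mem
  refine ⟨⟨z, hzH⟩, ?_, rfl⟩
  show f ⟨z, hzH⟩ = 1
  rw [hfdef]
  show f₀ _ = 1
  have : ((c.rangeRestrict.comp (Subgroup.inclusion hHN)).codRestrict K₀ hmem) ⟨z, hzH⟩ = 1 := by
    apply Subtype.ext
    show c.rangeRestrict (Subgroup.inclusion hHN ⟨z, hzH⟩) = 1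
    exact hcz'
  rw [this, map_one]

end Cfsg.Agent.H9SF
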