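import Mathlib
import Cfsg.Prelude
import Cfsg.Agent.Lib.Helper9.SF7
import Cfsg.Agent.Lib.Helper9.PStab3
import Cfsg.Agent.Lib.Helper9.LargeExtra13

set_option autoImplicit false

/-!
# `SL₂(p)`-free systems (part 9): radical subgroups of the fusion system of a group
-/

namespace Cfsg.Agent.H9SF

open Cfsg Cfsg.FusionSystem Cfsg.Agent.Lib.Helper9

variable {G : Type*} [Group G]

/-- An element of `N_G(Q)` lies in `Q C_G(Q)` iff it induces an inner automorphism of `Q`. -/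
theorem mem_sup_centralizer_iff (Q : Subgroup G) (n : ↥(Subgroup.normalizer (Q : Set G))) :
    (n : G) ∈ Q ⊔ Subgroup.centralizer (Q : Set G) ↔ Q.normalizerMonoidHom n ∈ Inn Q := by
  constructor
  · intro hn
    have hle : Q ⊔ Subgroup.centralizer (Q : Set G) ≤
        ((Inn Q).comap Q.normalizerMonoidHom).map (Subgroup.normalizer (Q : Set G)).subtype := by
      apply sup_le
      · intro q hq
        refine ⟨⟨q, Subgroup.le_normalizer hq⟩, ?_, rfl⟩
        show Q.normalizerMonoidHom _ ∈ Inn Q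
        refine ⟨⟨q, hq⟩, ?_⟩
        ext y
        rfl
      · intro z hz
        refine ⟨⟨z, Subgroup.centralizer_le_normalizer _ hz⟩, ?_, rfl⟩
        show Q.normalizerMonoidHom _ ∈ Inn Q
        have h1 : Q.normalizerMonoidHom ⟨z, Subgroup.centralizer_le_normalizer _ hz⟩ = 1 := by
          rw [← MonoidHom.mem_ker, Subgroup.normalizerMonoidHom_ker, Subgroup.mem_subgroupOf]
          exact hz
        rw [h1]
        exact Subgroup.one_mem _
    obtain ⟨n', hn', hnn'⟩ := hle hn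
    have : n' = n := Subtype.ext hnn'
    rw [← this]
    exact hn'
  · rintro ⟨q, hq⟩
    have hqn : ∀ y : Q, (q : G) * y * (q : G)⁻¹ = (n : G) * y * (n : G)⁻¹ := by
      intro y
      have h1 := congrArg (fun α : MulAut Q => ((α y : Q) : G)) hq
      exact h1
    have hz : (q : G)⁻¹ * (n : G) ∈ Subgroup.centralizer (Q : Set G) := by
      rw [Subgroup.mem_centralizer_iff]
      intro y hy
      have h2 := hqn ⟨y, hy⟩
      simp only at h2
      calc y * ((q : G)⁻¹ * (n : G)) = (q : G)⁻¹ * ((q : G) * y * (q : G)⁻¹) * (n : G) := by group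
        _ = (q : G)⁻¹ * ((n : G) * y * (n : G)⁻¹) * (n : G) := by rw [h2]
        _ = (q : G)⁻¹ * (n : G) * y := by group
    have h3 : (n : G) = (q : G) * ((q : G)⁻¹ * (n : G)) := by group
    rw [h3]
    exact Subgroup.mul_mem _ (Subgroup.mem_sup_left q.2) (Subgroup.mem_sup_right hz)

theorem sup_centralizer_le_normalizer (Q : Subgroup G) :
    Q ⊔ Subgroup.centralizer (Q : Set G) ≤ Subgroup.normalizer (Q : Set G) :=
  sup_le Subgroup.le_normalizer (Subgroup.centralizer_le_normalizer _)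

/-- `N_G(Q)` normalizes `Q C_G(Q)`. -/
theorem conj_mem_sup_centralizer (Q : Subgroup G) {n x : G} (hn : n ∈ Subgroup.normalizer (Q : Set G))
    (hx : x ∈ Q ⊔ Subgroup.centralizer (Q : Set G)) :
    n * x * n⁻¹ ∈ Q ⊔ Subgroup.centralizer (Q : Set G) := by
  have hxN := sup_centralizer_le_normalizer Q hx
  have h1 := (mem_sup_centralizer_iff Q ⟨x, hxN⟩).mp hx
  have h2 : (⟨n * x * n⁻¹, Subgroup.mul_mem _ (Subgroup.mul_mem _ hn hxN) (Subgroup.inv_mem _ hn)⟩ :
      ↥(Subgroup.normalizer (Q : Set G))) = ⟨n, hn⟩ * ⟨x, hxN⟩ * ⟨n, hn⟩⁻¹ := rfl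
  have h3 := (mem_sup_centralizer_iff Q ⟨n * x * n⁻¹,
    Subgroup.mul_mem _ (Subgroup.mul_mem _ hn hxN) (Subgroup.inv_mem _ hn)⟩).mpr (by
      rw [h2, map_mul, map_mul, map_inv]
      exact Cfsg.Agent.H9PS.inn_conj_mem _ h1)
  exact h3

/-- `N_G(Q)` normalizes `C_G(Q)`. -/
theorem conj_mem_centralizer (Q : Subgroup G) {n x : G} (hn : n ∈ Subgroup.normalizer (Q : Set G))
    (hx : x ∈ Subgroup.centralizer (Q : Set G)) :
    n * x * n⁻¹ ∈ Subgroup.centralizer (Q : Set G) := by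
  have hxN := Subgroup.centralizer_le_normalizer _ hx
  have hker : ∀ m : ↥(Subgroup.normalizer (Q : Set G)),
      (m : G) ∈ Subgroup.centralizer (Q : Set G) ↔ Q.normalizerMonoidHom m = 1 := by
    intro m
    rw [← MonoidHom.mem_ker, Subgroup.normalizerMonoidHom_ker, Subgroup.mem_subgroupOf]
  have h1 := (hker ⟨x, hxN⟩).mp hx
  have h2 : (⟨n * x * n⁻¹, Subgroup.mul_mem _ (Subgroup.mul_mem _ hn hxN) (Subgroup.inv_mem _ hn)⟩ :
      ↥(Subgroup.normalizer (Q : Set G))) = ⟨n, hn⟩ * ⟨x, hxN⟩ * ⟨n, hn⟩⁻¹ := rfl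
  have h3 := (hker ⟨n * x * n⁻¹,
    Subgroup.mul_mem _ (Subgroup.mul_mem _ hn hxN) (Subgroup.inv_mem _ hn)⟩).mpr (by
      rw [h2, map_mul, map_mul, map_inv, h1]
      group)
  exact h3

end Cfsg.Agent.H9SF
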