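import Mathlib
import Cfsg.Prelude
import Cfsg.Agent.Lib.Helper9.SF9

set_option autoImplicit false

/-!
# `SL₂(p)`-free systems (part 10): radical subgroups of the fusion system of a group, in terms of `N_G(Q)/Q C_G(Q)`
-/

namespace Cfsg.Agent.H9SF

open Cfsg Cfsg.FusionSystem Cfsg.Agent.Lib.Helper9

variable {G : Type*} [Group G]

theorem xcond_of_radical [Finite G] {p : ℕ} [Fact p.Prime] (T : Subgroup G) (hT : IsPGroup p T)
    {Q : Subgroup G} (hQ : Q ≤ T) (hrad : (groupFusionSystem T).IsRadical p Q) :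
    ∀ X : Subgroup G, X ≤ Subgroup.normalizer (Q : Set G) →
      (∀ n ∈ Subgroup.normalizer (Q : Set G), X.map (MulAut.conj n).toMonoidHom = X) →
      Q ⊔ Subgroup.centralizer (Q : Set G) ≤ X →
      (∃ k : ℕ, (Q ⊔ Subgroup.centralizer (Q : Set G)).relIndex X = p ^ k) →
      X = Q ⊔ Subgroup.centralizer (Q : Set G) := by
  intro X hXN hXinv hle hidx
  obtain ⟨k, hk⟩ := hidx
  have hO := hrad.2
  rw [Cfsg.Agent.H9PStab.autGroup_eq_range T Q hQ] at hO
  have hQp : IsPGroup p Q := hT.to_le hQ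
  have hInnp : IsPGroup p (Inn Q) :=
    hQp.of_surjective (MulAut.conj : Q →* MulAut Q).rangeRestrict (MonoidHom.rangeRestrict_surjective _)
  haveI hnorm : ((Q ⊔ Subgroup.centralizer (Q : Set G)).subgroupOf X).Normal := by
    constructor
    intro a ha b
    rw [Subgroup.mem_subgroupOf] at ha ⊢
    exact conj_mem_sup_centralizer Q (hXN b.2) ha
  have hpow : ∀ x ∈ X, x ^ (p ^ k) ∈ Q ⊔ Subgroup.centralizer (Q : Set G) := by
    intro x hx
    have h1 := Subgroup.pow_index_mem ((Q ⊔ Subgroup.centralizer (Q : Set G)).subgroupOf X) ⟨x, hx⟩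
    rw [Subgroup.mem_subgroupOf] at h1
    have h2 : ((Q ⊔ Subgroup.centralizer (Q : Set G)).subgroupOf X).index = p ^ k := hk
    rw [h2] at h1
    exact h1
  obtain ⟨Y, hY⟩ : ∃ Y : Subgroup (MulAut Q), Y = (X.subgroupOf (Subgroup.normalizer (Q : Set G))).map
      Q.normalizerMonoidHom := ⟨_, rfl⟩
  have hYle : Y ≤ Q.normalizerMonoidHom.range := by
    rw [hY]
    rintro _ ⟨n, -, rfl⟩
    exact ⟨n, rfl⟩
  have hYp : IsPGroup p Y := by
    rintro ⟨y, hy⟩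
    rw [hY] at hy
    obtain ⟨n, hn, rfl⟩ := hy
    have hn' : (n : G) ∈ X := hn
    have h1 := hpow _ hn'
    have h2 : ((n ^ (p ^ k) : ↥(Subgroup.normalizer (Q : Set G))) : G) ∈
        Q ⊔ Subgroup.centralizer (Q : Set G) := h1
    have h3 := (mem_sup_centralizer_iff Q (n ^ (p ^ k))).mp h2
    obtain ⟨m, hm⟩ := hInnp ⟨_, h3⟩
    have hm' : (Q.normalizerMonoidHom (n ^ (p ^ k))) ^ (p ^ m) = 1 := by
      simpa using congrArg Subtype.val hm
    refine ⟨k + m, Subtype.ext ?_⟩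
    show (Q.normalizerMonoidHom n) ^ (p ^ (k + m)) = 1
    rw [pow_add, pow_mul, ← map_pow]
    exact hm'
  have hYinv : ∀ h ∈ Q.normalizerMonoidHom.range, ∀ y ∈ Y, h * y * h⁻¹ ∈ Y := by
    rintro _ ⟨m, rfl⟩ y hy
    rw [hY] at hy ⊢
    obtain ⟨n, hn, rfl⟩ := hy
    refine ⟨m * n * m⁻¹, ?_, by rw [map_mul, map_mul, map_inv]⟩
    have hn' : (n : G) ∈ X := hn
    show ((m * n * m⁻¹ : ↥(Subgroup.normalizer (Q : Set G))) : G) ∈ X
    rw [← hXinv m m.2]
    exact ⟨n, hn', rfl⟩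
  have hYO := Cfsg.Agent.Lib.Helper9.LargeExtra.le_pCoreMap p _ Y hYle hYp hYinv
  rw [hO] at hYO
  apply le_antisymm _ hle
  intro x hx
  have h1 : Q.normalizerMonoidHom ⟨x, hXN hx⟩ ∈ Y := by
    rw [hY]
    exact ⟨⟨x, hXN hx⟩, Subgroup.mem_subgroupOf.mpr hx, rfl⟩
  exact (mem_sup_centralizer_iff Q ⟨x, hXN hx⟩).mpr (hYO h1)

end Cfsg.Agent.H9SF
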