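import Mathlib
import Cfsg.Prelude
import Cfsg.Agent.Lib.Helper9.SF10

set_option autoImplicit false

/-!
# `SL₂(p)`-free systems (part 11): radical subgroups of the fusion system of a group (converse direction)
-/

namespace Cfsg.Agent.H9SF

open Cfsg Cfsg.FusionSystem Cfsg.Agent.Lib.Helper9

variable {G : Type*} [Group G]

theorem radical_of_xcond [Finite G] {p : ℕ} [hp : Fact p.Prime] (T : Subgroup G) (hT : IsPGroup p T)
    {Q : Subgroup G} (hQ : Q ≤ T)
    (hX : ∀ X : Subgroup G, X ≤ Subgroup.normalizer (Q : Set G) →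
      (∀ n ∈ Subgroup.normalizer (Q : Set G), X.map (MulAut.conj n).toMonoidHom = X) →
      Q ⊔ Subgroup.centralizer (Q : Set G) ≤ X →
      (∃ k : ℕ, (Q ⊔ Subgroup.centralizer (Q : Set G)).relIndex X = p ^ k) →
      X = Q ⊔ Subgroup.centralizer (Q : Set G)) :
    (groupFusionSystem T).IsRadical p Q := by
  have hInnO := Cfsg.Agent.H9PS.inn_le_pCoreMap p hT (groupFusionSystem T) hQ
  refine ⟨hQ, le_antisymm ?_ hInnO⟩
  have hA := Cfsg.Agent.H9PStab.autGroup_eq_range T Q hQ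
  rw [hA] at hInnO ⊢
  obtain ⟨c, hc⟩ : ∃ c : ↥(Subgroup.normalizer (Q : Set G)) →* MulAut Q, c = Q.normalizerMonoidHom := ⟨_, rfl⟩
  rw [← hc] at hInnO ⊢
  have hiff : ∀ n : ↥(Subgroup.normalizer (Q : Set G)),
      (n : G) ∈ Q ⊔ Subgroup.centralizer (Q : Set G) ↔ c n ∈ Inn Q := by
    intro n; rw [hc]; exact mem_sup_centralizer_iff Q n
  have hker : ∀ m : ↥(Subgroup.normalizer (Q : Set G)),
      (m : G) ∈ Subgroup.centralizer (Q : Set G) ↔ c m = 1 := by
    intro m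
    rw [hc, ← MonoidHom.mem_ker, Subgroup.normalizerMonoidHom_ker, Subgroup.mem_subgroupOf]
  haveI : Finite Q := inferInstance
  haveI hpn := pCore_normal' (G := ↥c.range) p
  have hpp : IsPGroup p (Cfsg.pCore p ↥c.range) := pCore_isPGroup' p
  obtain ⟨X, hXdef⟩ : ∃ X : Subgroup G, X = ((Cfsg.pCore p ↥c.range).comap c.rangeRestrict).map
      (Subgroup.normalizer (Q : Set G)).subtype := ⟨_, rfl⟩
  have hXN : X ≤ Subgroup.normalizer (Q : Set G) := by
    rw [hXdef]; exact Subgroup.map_subtype_le _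
  have hXmem : ∀ n : ↥(Subgroup.normalizer (Q : Set G)), (n : G) ∈ X ↔ c.rangeRestrict n ∈ Cfsg.pCore p ↥c.range := by
    intro n
    rw [hXdef]
    constructor
    · rintro ⟨n', hn', hnn'⟩
      have : n' = n := Subtype.ext hnn'
      rw [← this]; exact hn'
    · intro hn
      exact ⟨n, hn, rfl⟩
  have hXconj : ∀ n ∈ Subgroup.normalizer (Q : Set G), ∀ x ∈ X, n * x * n⁻¹ ∈ X := by
    intro n hn x hx
    have hxN := hXN hx
    have h1 := (hXmem ⟨x, hxN⟩).mp hx
    have h2 : (⟨n * x * n⁻¹, Subgroup.mul_mem _ (Subgroup.mul_mem _ hn hxN) (Subgroup.inv_mem _ hn)⟩ :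
        ↥(Subgroup.normalizer (Q : Set G))) = ⟨n, hn⟩ * ⟨x, hxN⟩ * ⟨n, hn⟩⁻¹ := rfl
    have h3 := (hXmem ⟨n * x * n⁻¹,
      Subgroup.mul_mem _ (Subgroup.mul_mem _ hn hxN) (Subgroup.inv_mem _ hn)⟩).mpr (by
        rw [h2, map_mul, map_mul, map_inv]
        exact hpn.conj_mem _ h1 _)
    exact h3
  have hXinv : ∀ n ∈ Subgroup.normalizer (Q : Set G), X.map (MulAut.conj n).toMonoidHom = X := by
    intro n hn
    ext y
    constructor
    · rintro ⟨x, hx, rfl⟩
      exact hXconj n hn x hx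
    · intro hy
      refine ⟨n⁻¹ * y * n⁻¹⁻¹, hXconj n⁻¹ (Subgroup.inv_mem _ hn) y hy, ?_⟩
      show n * (n⁻¹ * y * n⁻¹⁻¹) * n⁻¹ = y
      group
  have hle : Q ⊔ Subgroup.centralizer (Q : Set G) ≤ X := by
    intro y hy
    have hyN := sup_centralizer_le_normalizer Q hy
    have h1 := hInnO ((hiff ⟨y, hyN⟩).mp hy)
    obtain ⟨b, hb, hbe⟩ := h1
    have h2 : c.rangeRestrict ⟨y, hyN⟩ = b := Subtype.ext hbe.symm
    apply (hXmem ⟨y, hyN⟩).mpr
    rw [h2]; exact hb
  have hCX : Subgroup.centralizer (Q : Set G) ≤ X := le_trans le_sup_right hle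
  haveI hCn : ((Subgroup.centralizer (Q : Set G)).subgroupOf X).Normal := by
    constructor
    intro a ha b
    rw [Subgroup.mem_subgroupOf] at ha ⊢
    exact conj_mem_centralizer Q (hXN b.2) ha
  have hquot : IsPGroup p (↥X ⧸ (Subgroup.centralizer (Q : Set G)).subgroupOf X) := by
    intro xbar
    induction xbar using QuotientGroup.induction_on with
    | H x =>
      have hxN := hXN x.2
      have h1 := (hXmem ⟨x, hxN⟩).mp x.2
      obtain ⟨m, hm⟩ := hpp ⟨_, h1⟩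
      have hm' : (c ⟨x, hxN⟩) ^ (p ^ m) = 1 := by
        have := congrArg (fun z : ↥(Cfsg.pCore p ↥c.range) => ((z : ↥c.range) : MulAut Q)) hm
        simpa using this
      refine ⟨m, ?_⟩
      rw [← QuotientGroup.mk_pow, QuotientGroup.eq_one_iff, Subgroup.mem_subgroupOf]
      have h2 : (((x ^ (p ^ m) : ↥X)) : G) = ((⟨x, hxN⟩ ^ (p ^ m) : ↥(Subgroup.normalizer (Q : Set G))) : G) := by
        simp
      rw [h2, hker, map_pow]
      exact hm'
  obtain ⟨n, hn⟩ := IsPGroup.iff_card.mp hquot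
  have hrel : (Subgroup.centralizer (Q : Set G)).relIndex X = p ^ n := hn
  have hdvd : (Q ⊔ Subgroup.centralizer (Q : Set G)).relIndex X ∣ p ^ n := by
    rw [← hrel]
    exact Subgroup.relIndex_dvd_of_le_left X le_sup_right
  obtain ⟨k, -, hk⟩ := (Nat.dvd_prime_pow hp.out).mp hdvd
  have hXeq := hX X hXN hXinv hle ⟨k, hk⟩
  rintro a ⟨b, hb, rfl⟩
  obtain ⟨n, rfl⟩ := MonoidHom.rangeRestrict_surjective c b
  have h1 : (n : G) ∈ X := (hXmem n).mpr hb
  rw [hXeq] at h1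
  exact (hiff n).mp h1

/-- Radical subgroups of the fusion system of `G` on a `p`-subgroup `T`, in terms of `N_G(Q) / Q C_G(Q)`. -/
theorem gfs_isRadical_iff [Finite G] {p : ℕ} [hp : Fact p.Prime] (T : Subgroup G) (hT : IsPGroup p T)
    {Q : Subgroup G} (hQ : Q ≤ T) :
    (groupFusionSystem T).IsRadical p Q ↔
      ∀ X : Subgroup G, X ≤ Subgroup.normalizer (Q : Set G) →
        (∀ n ∈ Subgroup.normalizer (Q : Set G), X.map (MulAut.conj n).toMonoidHom = X) →
        Q ⊔ Subgroup.centralizer (Q : Set G) ≤ X →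
        (∃ k : ℕ, (Q ⊔ Subgroup.centralizer (Q : Set G)).relIndex X = p ^ k) →
        X = Q ⊔ Subgroup.centralizer (Q : Set G) :=
  ⟨xcond_of_radical T hT hQ, radical_of_xcond T hT hQ⟩

end Cfsg.Agent.H9SF
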