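import Mathlib
import Cfsg.Prelude
import Cfsg.Agent.Lib.Helper9.SF2
import Cfsg.Agent.Lib.Helper9.PCore
import Cfsg.Agent.Lib.Helper9.FusionReceptive

set_option autoImplicit false

/-!
# `SL₂(p)`-free systems (part 3): systems with `SL₂(p)`-free automizers are `SL₂(p)`-free in the sense of models
-/

namespace Cfsg.Agent.H9SF

open Cfsg Cfsg.FusionSystem Cfsg.Agent.Lib.Helper9

universe u

variable {Ω : Type u} [Group Ω] {S : Subgroup Ω}

/-- The correspondence between automorphisms of a subgroup `A` of `T` and the elements of a subgroup `K` of a group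
`L` into which `T` maps. -/
def corrL (F : FusionSystem S) {T : Subgroup Ω} {L : Type*} [Group L] (ι : T →* L) {A : Subgroup Ω}
    (hAT : A ≤ T) (K : Subgroup L) : Subgroup (F.autGroup A × K) where
  carrier := {x | ∀ a : A, ι ⟨(((x.1 : MulAut A) a : A) : Ω), hAT (_ : A).2⟩ =
    (x.2 : L) * ι ⟨a, hAT a.2⟩ * (x.2 : L)⁻¹}
  one_mem' := by
    intro a
    simp
  mul_mem' := by
    intro x y hx hy a
    have h1 := hy a
    have h2 := hx ((y.1 : MulAut A) a)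
    show ι ⟨(((x.1 : MulAut A) ((y.1 : MulAut A) a) : A) : Ω), _⟩ =
      ((x.2 : L) * (y.2 : L)) * ι ⟨a, hAT a.2⟩ * ((x.2 : L) * (y.2 : L))⁻¹
    rw [h2, h1]
    group
  inv_mem' := by
    intro x hx a
    have h1 := hx ((x.1 : MulAut A)⁻¹ a)
    show ι ⟨((((x.1 : MulAut A)⁻¹) a : A) : Ω), _⟩ = (x.2 : L)⁻¹ * ι ⟨a, hAT a.2⟩ * ((x.2 : L)⁻¹)⁻¹
    have h2 : ι ⟨(((x.1 : MulAut A) ((x.1 : MulAut A)⁻¹ a) : A) : Ω), hAT (_ : A).2⟩ = ι ⟨a, hAT a.2⟩ := by
      congr 2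
      simp only [MulAut.apply_inv_self]
    rw [h2] at h1
    rw [h1]
    group

theorem mem_corrL (F : FusionSystem S) {T : Subgroup Ω} {L : Type*} [Group L] (ι : T →* L) {A : Subgroup Ω}
    (hAT : A ≤ T) (K : Subgroup L) (x : F.autGroup A × K) :
    x ∈ corrL F ι hAT K ↔ ∀ a : A, ι ⟨(((x.1 : MulAut A) a : A) : Ω), hAT (_ : A).2⟩ =
      (x.2 : L) * ι ⟨a, hAT a.2⟩ * (x.2 : L)⁻¹ := Iff.rfl

/-- A system with `SL₂(p)`-free automizers is `SL₂(p)`-free: `SL₂(p)` is not involved in the models of the normalizer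
systems. -/
theorem SLFree.sectionFree [Finite S] {p : ℕ} [hp : Fact p.Prime] {F : FusionSystem S} (h : SLFree p F) :
    F.IsSectionFree p (SL2 p) := by
  intro Q hQfn hQc N hN L _ ι hL
  obtain ⟨hLfin, hι, ⟨T, hT⟩, hcent⟩ := hL
  haveI := hLfin
  intro hinv
  obtain ⟨K, f, hf⟩ := isSectionOf_of_involves hinv
  obtain ⟨R, hR⟩ : ∃ R : Subgroup L, R = Cfsg.pCore p L := ⟨_, rfl⟩
  have hRn : R.Normal := by rw [hR]; exact pCore_normal' p
  have hRp : IsPGroup p R := by rw [hR]; exact pCore_isPGroup' p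
  have hRT : R ≤ ι.range := by rw [hR, ← hT]; exact pCore_le_sylow T
  have hcent' : Subgroup.centralizer (R : Set L) ≤ R := by rw [hR]; exact hcent
  obtain ⟨A, hA⟩ : ∃ A : Subgroup Ω, A = preimageAlong ι R := ⟨_, rfl⟩
  have hmemA : ∀ x : Ω, x ∈ A ↔ x ∈ preimageAlong ι R := fun x => by rw [hA]
  have hAT : A ≤ normalizerIn S Q := by rw [hA]; exact preimageAlong_le ι R
  have hAS : A ≤ S := hAT.trans (fs_normalizerIn_le S Q)
  have hιA : ∀ a : A, ι ⟨a, hAT a.2⟩ ∈ R := by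
    intro a
    have ha : (a : Ω) ∈ preimageAlong ι R := (hmemA _).mp a.2
    exact ((mem_preimageAlong_iff ι R _).mp ha).2
  have hRA : ∀ r ∈ R, ∃ a : A, ι ⟨a, hAT a.2⟩ = r := by
    intro r hr
    obtain ⟨t, rfl⟩ := hRT hr
    have htA : (t : Ω) ∈ A := by
      rw [hmemA, mem_preimageAlong_iff]
      exact ⟨t.2, by rw [Subtype.coe_eta]; exact hr⟩
    exact ⟨⟨t, htA⟩, by show ι ⟨(t : Ω), _⟩ = ι t; rw [Subtype.coe_eta]⟩
  apply h A hAS
  -- every element of `L` induces an automorphism of `A` in the system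
  have hex : ∀ l : L, ∃ α ∈ F.autGroup A, ∀ a : A,
      ι ⟨((α a : A) : Ω), hAT (α a).2⟩ = l * ι ⟨a, hAT a.2⟩ * l⁻¹ := by
    intro l
    let e := MonoidHom.ofInjective hι.1
    let ψ : A →* L := (MulAut.conj l).toMonoidHom.comp (ι.comp (Subgroup.inclusion hAT))
    have hψ : ∀ a : A, ψ a = l * ι ⟨a, hAT a.2⟩ * l⁻¹ := fun a => rfl
    have hψR : ∀ a : A, ψ a ∈ R := by
      intro a
      rw [hψ]
      exact hRn.conj_mem _ (hιA a) l
    have hval : ∀ a : A, ψ a ∈ ι.range := fun a => hRT (hψR a)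
    let φ : A →* Ω := (normalizerIn S Q).subtype.comp
      (e.symm.toMonoidHom.comp (ψ.codRestrict ι.range hval))
    have hφT : ∀ a : A, φ a ∈ normalizerIn S Q := fun a => (e.symm ⟨ψ a, hval a⟩).2
    have hφι : ∀ a : A, ι ⟨φ a, hφT a⟩ = ψ a := by
      intro a
      have h1 : (⟨φ a, hφT a⟩ : normalizerIn S Q) = e.symm ⟨ψ a, hval a⟩ := Subtype.ext rfl
      rw [h1]
      exact MonoidHom.apply_ofInjective_symm hι.1 ⟨ψ a, hval a⟩
    have hφN : φ ∈ N.Hom A := by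
      rw [hι.2 A hAT φ hφT]
      exact ⟨l, fun a => (hφι a).trans (hψ a)⟩
    have hφF : φ ∈ F.Hom A := by
      rw [hN A] at hφN
      exact hφN.1
    have hφA : ∀ a : A, φ a ∈ A := by
      intro a
      rw [hmemA, mem_preimageAlong_iff]
      refine ⟨hφT a, ?_⟩
      rw [hφι]
      exact hψR a
    obtain ⟨α, hα, Hα⟩ := fs_hom_to_aut F hφF hφA
    refine ⟨α, hα, fun a => ?_⟩
    have h2 : (⟨((α a : A) : Ω), hAT (α a).2⟩ : normalizerIn S Q) = ⟨φ a, hφT a⟩ := Subtype.ext (Hα a)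
    rw [h2, hφι, hψ]
  -- the two projections of the correspondence
  let Γ := corrL F ι hAT K
  let ft : Γ →* SL2 p := f.comp ((MonoidHom.snd _ _).comp Γ.subtype)
  have hft : Function.Surjective ft := by
    intro m
    obtain ⟨k, rfl⟩ := hf m
    obtain ⟨α, hα, Hα⟩ := hex (k : L)
    exact ⟨⟨(⟨α, hα⟩, k), Hα⟩, rfl⟩
  let g : Γ →* F.autGroup A := (MonoidHom.fst _ _).comp Γ.subtype
  have hker : IsPGroup p g.ker := by
    intro y
    have hy1 : (y : Γ).1.1 = 1 := y.2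
    have hyk : ((y : Γ).1.2 : L) ∈ R := by
      apply hcent'
      rw [Subgroup.mem_centralizer_iff]
      intro r hr
      obtain ⟨a, rfl⟩ := hRA r hr
      have h3 := (mem_corrL F ι hAT K (y : Γ).1).mp (y : Γ).2 a
      rw [hy1] at h3
      have h4 : ι ⟨a, hAT a.2⟩ = ((y : Γ).1.2 : L) * ι ⟨a, hAT a.2⟩ * ((y : Γ).1.2 : L)⁻¹ := h3
      calc ι ⟨a, hAT a.2⟩ * ((y : Γ).1.2 : L)
          = (((y : Γ).1.2 : L) * ι ⟨a, hAT a.2⟩ * ((y : Γ).1.2 : L)⁻¹) * ((y : Γ).1.2 : L) := by rw [← h4]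
        _ = ((y : Γ).1.2 : L) * ι ⟨a, hAT a.2⟩ := by group
    obtain ⟨n, hn⟩ := hRp ⟨_, hyk⟩
    refine ⟨n, ?_⟩
    apply Subtype.ext
    apply Subtype.ext
    apply Prod.ext
    · show ((y : Γ).1.1) ^ (p ^ n) = 1
      rw [hy1, one_pow]
    · apply Subtype.ext
      show (((y : Γ).1.2 : L)) ^ (p ^ n) = 1
      exact congrArg Subtype.val hn
  exact (isSectionOf_range_of_ker_isPGroup ft hft g hker
    (fun M hM hMp => sl2_normal_pgroup_eq_bot M hM hMp)).of_subgroup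

end Cfsg.Agent.H9SF
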