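import Mathlib
import Cfsg.Prelude.Def_FusionSystem
import Cfsg.Prelude.Def_FusionReduction
import Cfsg.Agent.Lib.Helper9.ZW14
import Cfsg.Agent.Lib.Helper9.FusionAG1
import Cfsg.Agent.Lib.Helper9.FusionNormal1

set_option autoImplicit false

/-!
# Glauberman functors (part 15): `W(S)` is normal in every saturated `H`-free system over `S`
-/

namespace Cfsg.Agent.H9ZW

open Cfsg Cfsg.FusionSystem Cfsg.Agent.Lib.Helper9

universe u w

variable {p : ℕ} {H : Type w} [Group H] {W : ∀ (Q : Type u) [Group Q], Subgroup Q}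

/-- **Glauberman's ZJ-theorem for fusion systems, functor form**: for a Glauberman functor `W` (relative to `H`), the
subgroup `W(S)` is normal in every saturated `H`-free fusion system over `S`. -/
theorem GF_main [hp : Fact p.Prime] (hW : IsGF p H W) : ∀ n : ℕ, GFStatement p H W n := by
  intro n
  induction n using Nat.strong_induction_on with
  | _ n ih =>
  intro Ω _ S _ hS F hF hfree hn
  subst hn
  have hX₀S : Wof W S ≤ S := Wof_le W S
  have hSN : S ≤ Subgroup.normalizer ((Wof W S : Subgroup Ω) : Set Ω) :=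
    (Subgroup.le_normalizer).trans (normalizer_le_normalizer_Wof hW hS)
  obtain ⟨E₀, hE₀⟩ := fs_exists_normalizer_system_top F (Wof W S) hX₀S hSN
  have key := fs_le_of_autGroup_le p hS F E₀ hF
    (fun R hRfn hbig => main_aut hW hS ih F hF hfree E₀ hE₀ R hRfn hbig)
  refine ⟨hX₀S, fun P φ hφ => ?_⟩
  have h1 := key _ P φ hφ rfl
  rw [hE₀] at h1
  obtain ⟨-, -, -, ψ, hψ, hψP, hψX⟩ := h1
  exact ⟨ψ, hψ, hψP, hψX⟩

end Cfsg.Agent.H9ZW
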