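import Mathlib
import Cfsg.Agent.Lib.Helper9.Solv1
import Cfsg.Agent.S5133
import Cfsg.Agent.S5134

set_option autoImplicit false
open Cfsg Cfsg.FusionSystem

namespace Cfsg.Agent.Lib.Helper9

variable {Ω : Type*} [Group Ω] {S : Subgroup Ω}
variable {Ω' : Type*} [Group Ω'] {S' : Subgroup Ω'}

theorem finite_of_range_eq [Finite S] (θ : S →* Ω') (hrange : θ.range = S') : Finite S' := by
  rw [← hrange]
  exact Finite.of_surjective (fun s : S => (⟨θ s, ⟨s, rfl⟩⟩ : θ.range))
    (by rintro ⟨_, s, rfl⟩; exact ⟨s, rfl⟩)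

theorem isPGroup_of_range_eq (p : ℕ) (hS : IsPGroup p S) (θ : S →* Ω') (hrange : θ.range = S') :
    IsPGroup p S' := by
  rw [← hrange]
  exact hS.of_surjective θ.rangeRestrict θ.rangeRestrict_surjective

/-- One step of a strongly closed series with abelian quotient that is not swallowed by `R` gives a nontrivial
normal subgroup of the factor system modulo `R`. -/
theorem core_ne_bot_of_step [Finite S] (p : ℕ) [Fact p.Prime] (hS : IsPGroup p S)
    (F : FusionSystem S) (hF : F.IsSaturated p) {R A B : Subgroup Ω} (hR : F.StronglyClosed R)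
    (hB : F.StronglyClosed B) (hAR : A ≤ R) (hBR : ¬ B ≤ R) (hBA : ⁅B, B⁆ ≤ A)
    (θ : S →* Ω') (E : FusionSystem S') (hE : F.IsFactorSystem R θ E) : E.core ≠ ⊥ := by
  have hθ : F.IsSurjectiveMorphism E θ := Cfsg.Agent.S5134.result p hS F hF R hR θ E hE
  have hEsat : E.IsSaturated p := Cfsg.Agent.S5133.result p hS F hF E θ hθ
  obtain ⟨hRS, hker, hrange, -⟩ := hE
  haveI : Finite S' := finite_of_range_eq θ hrange
  have hS' : IsPGroup p S' := isPGroup_of_range_eq p hS θ hrange
  have hsc : E.StronglyClosed (imageAlong θ B) := stronglyClosed_imageAlong F E θ hθ hB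
  have hab : ∀ x ∈ imageAlong θ B, ∀ y ∈ imageAlong θ B, x * y = y * x := by
    intro x hx y hy
    rw [mem_imageAlong_iff] at hx hy
    obtain ⟨a, ha, rfl⟩ := hx
    obtain ⟨b, hb, rfl⟩ := hy
    have h2 : ((a * b * a⁻¹ * b⁻¹ : S) : Ω) ∈ R := by
      apply hAR
      apply hBA
      exact Subgroup.commutator_mem_commutator ha hb
    have h3 := (hker _).mpr h2
    rw [map_mul, map_mul, map_mul, map_inv, map_inv] at h3
    calc θ a * θ b = (θ a * θ b * (θ a)⁻¹ * (θ b)⁻¹) * (θ b * θ a) := by group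
      _ = θ b * θ a := by rw [h3, one_mul]
  have hN : E.IsNormal (imageAlong θ B) := isNormal_of_abelian_stronglyClosed p hS' E hEsat hsc hab
  intro hcore
  have hle : imageAlong θ B ≤ E.core := le_sSup hN
  rw [hcore] at hle
  apply hBR
  intro x hx
  have hxS : x ∈ S := hB.1 hx
  have h1 : θ ⟨x, hxS⟩ ∈ imageAlong θ B := apply_mem_imageAlong θ hxS hx
  have h2 := hle h1
  rw [Subgroup.mem_bot] at h2
  exact (hker _).mp h2

end Cfsg.Agent.Lib.Helper9
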