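import Mathlib
import Cfsg.Agent.Lib.Helper9.Solv2
import Cfsg.Agent.Lib.Helper9.FusionNormal1
import Cfsg.Agent.S5085
import Cfsg.Agent.S5145

set_option autoImplicit false
open Cfsg Cfsg.FusionSystem

namespace Cfsg.Agent.Lib.Helper9

variable {Ω : Type*} [Group Ω] {S : Subgroup Ω}
variable {Ω' : Type*} [Group Ω'] {S' : Subgroup Ω'}

/-- If the factor system modulo `R` has a nontrivial normal subgroup, there is a strictly larger strongly closed
subgroup with abelian quotient over `R`. -/
theorem exists_next_of_core_ne_bot [Finite S] (p : ℕ) [Fact p.Prime] (hS : IsPGroup p S)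
    (F : FusionSystem S) (hF : F.IsSaturated p) {R : Subgroup Ω} (hR : F.StronglyClosed R)
    (θ : S →* Ω') (E : FusionSystem S') (hE : F.IsFactorSystem R θ E) (hcore : E.core ≠ ⊥) :
    ∃ R₁ : Subgroup Ω, F.StronglyClosed R₁ ∧ R ≤ R₁ ∧ R ≠ R₁ ∧ ⁅R₁, R₁⁆ ≤ R := by
  have hθ : F.IsSurjectiveMorphism E θ := Cfsg.Agent.S5134.result p hS F hF R hR θ E hE
  obtain ⟨hRS, hker, hrange, -⟩ := hE
  haveI : Finite S' := finite_of_range_eq θ hrange
  have hS' : IsPGroup p S' := isPGroup_of_range_eq p hS θ hrange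
  have hQn : E.IsNormal E.core := Cfsg.Agent.S5145.result E
  have hQS' : E.core ≤ S' := hQn.1
  haveI : Finite E.core := fs_finite_of_le hQS'
  have hQp : IsPGroup p E.core := hS'.to_le hQS'
  haveI : Nontrivial E.core := by
    rw [Subgroup.nontrivial_iff_ne_bot]
    exact hcore
  have hZnt : Nontrivial (Subgroup.center E.core) := hQp.center_nontrivial
  have hZle : (Subgroup.center E.core).map E.core.subtype ≤ E.core := by
    rintro _ ⟨z, -, rfl⟩
    exact z.2
  have hZchar : (((Subgroup.center E.core).map E.core.subtype).subgroupOf E.core).Characteristic := by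
    have h1 : ((Subgroup.center E.core).map E.core.subtype).subgroupOf E.core = Subgroup.center E.core := by
      rw [← Subgroup.comap_subtype]
      exact Subgroup.comap_map_eq_self_of_injective (Subgroup.subtype_injective _) _
    rw [h1]
    infer_instance
  have hZn : E.IsNormal ((Subgroup.center E.core).map E.core.subtype) :=
    Cfsg.Agent.S5085.result E _ _ hQn hZle hZchar
  have hZsc := fs_stronglyClosed_of_isNormal E hZn
  refine ⟨preimageAlong θ ((Subgroup.center E.core).map E.core.subtype),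
    stronglyClosed_preimageAlong F E θ hθ.1 hZsc, ker_le_preimageAlong θ _ hRS hker, ?_, ?_⟩
  · intro heq
    obtain ⟨⟨z, hz⟩, hz1⟩ := exists_ne (1 : Subgroup.center E.core)
    have hzS' : (z : Ω') ∈ θ.range := by rw [hrange]; exact hQS' z.2
    obtain ⟨s, hs⟩ := hzS'
    have hsR₁ : (s : Ω) ∈ preimageAlong θ ((Subgroup.center E.core).map E.core.subtype) := by
      rw [mem_preimageAlong_iff]
      refine ⟨s.2, ?_⟩
      rw [Subtype.coe_eta, hs]
      exact ⟨z, hz, rfl⟩
    rw [← heq] at hsR₁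
    have h1 := (hker s).mpr hsR₁
    apply hz1
    apply Subtype.ext
    apply Subtype.ext
    show (z : Ω') = 1
    rw [← hs, h1]
  · rw [Subgroup.commutator_le]
    intro a ha b hb
    rw [mem_preimageAlong_iff] at ha hb
    obtain ⟨haS, ⟨za, hza, hza'⟩⟩ := ha
    obtain ⟨hbS, ⟨zb, hzb, hzb'⟩⟩ := hb
    have hcomm : θ ⟨a, haS⟩ * θ ⟨b, hbS⟩ = θ ⟨b, hbS⟩ * θ ⟨a, haS⟩ := by
      rw [← hza', ← hzb']
      have := Subgroup.mem_center_iff.mp hza zb
      have h2 := congrArg (fun w : E.core => (w : Ω')) this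
      exact h2.symm
    have h3 : θ (⟨a, haS⟩ * ⟨b, hbS⟩ * ⟨a, haS⟩⁻¹ * ⟨b, hbS⟩⁻¹) = 1 := by
      rw [map_mul, map_mul, map_mul, map_inv, map_inv, hcomm]
      group
    exact (hker _).mp h3

end Cfsg.Agent.Lib.Helper9
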