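import Mathlib
import Cfsg.Agent.Lib.Helper9.Solv3
import Cfsg.Agent.S5132

set_option autoImplicit false
open Cfsg Cfsg.FusionSystem

namespace Cfsg.Agent.Lib.Helper9

variable {Ω : Type*} [Group Ω] {S : Subgroup Ω}

theorem stronglyClosed_bot (F : FusionSystem S) : F.StronglyClosed ⊥ := by
  refine ⟨bot_le, fun R hR φ _ x => ?_⟩
  have hx : (x : Ω) = 1 := by
    have := hR x.2
    rwa [Subgroup.mem_bot] at this
  have hx1 : x = 1 := Subtype.ext hx
  rw [hx1, map_one]
  exact Subgroup.one_mem _

theorem subgroupOf_normal_of_stronglyClosed (F : FusionSystem S) {R : Subgroup Ω} (hR : F.StronglyClosed R) :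
    (R.subgroupOf S).Normal := by
  have hN := fs_stronglyClosed_le_normalizer F hR
  constructor
  intro n hn g
  rw [Subgroup.mem_subgroupOf] at hn ⊢
  have := hN g.2
  rw [Subgroup.mem_normalizer_iff] at this
  exact (this _).mp hn

/-- In a solvable saturated system every proper strongly closed subgroup has a strictly larger strongly closed
subgroup with abelian quotient above it. -/
theorem exists_next_of_solvable [Finite S] (p : ℕ) [Fact p.Prime] (hS : IsPGroup p S)
    (F : FusionSystem S) (hF : F.IsSaturated p) (hsolv : F.IsSolvableSystem) {R : Subgroup Ω}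
    (hR : F.StronglyClosed R) (hRS : R ≠ S) :
    ∃ R₁ : Subgroup Ω, F.StronglyClosed R₁ ∧ R ≤ R₁ ∧ R ≠ R₁ ∧ ⁅R₁, R₁⁆ ≤ R := by
  haveI : (R.subgroupOf S).Normal := subgroupOf_normal_of_stronglyClosed F hR
  obtain ⟨E, hE⟩ := Cfsg.Agent.S5132.result p hS F R hR
  have hcore := hsolv R hR hRS E hE
  exact exists_next_of_core_ne_bot p hS F hF hR _ E hE hcore

/-- A solvable saturated system has a series of strongly closed subgroups with abelian quotients. -/
theorem exists_chain_of_solvable [Finite S] (p : ℕ) [Fact p.Prime] (hS : IsPGroup p S)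
    (F : FusionSystem S) (hF : F.IsSaturated p) (hsolv : F.IsSolvableSystem) :
    ∃ T : ℕ → Subgroup Ω, T 0 = ⊥ ∧ T (Nat.card S) = S ∧ (∀ k, T k ≤ T (k + 1)) ∧
      (∀ k, F.StronglyClosed (T k)) ∧ ∀ k, ⁅T (k + 1), T (k + 1)⁆ ≤ T k := by
  classical
  have hnext := fun R hR hRS => exists_next_of_solvable p hS F hF hsolv (R := R) hR hRS
  let next : Subgroup Ω → Subgroup Ω := fun R =>
    if h : F.StronglyClosed R ∧ R ≠ S then Classical.choose (hnext R h.1 h.2) else R
  have hnext_pos : ∀ R (h : F.StronglyClosed R ∧ R ≠ S),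
      F.StronglyClosed (next R) ∧ R ≤ next R ∧ R ≠ next R ∧ ⁅next R, next R⁆ ≤ R := by
    intro R h
    have := Classical.choose_spec (hnext R h.1 h.2)
    simp only [next, dif_pos h]
    exact this
  have hnext_neg : ∀ R, ¬ (F.StronglyClosed R ∧ R ≠ S) → next R = R := by
    intro R h
    simp only [next, dif_neg h]
  let T : ℕ → Subgroup Ω := fun k => next^[k] ⊥
  have hT0 : T 0 = ⊥ := rfl
  have hTs : ∀ k, T (k + 1) = next (T k) := fun k => Function.iterate_succ_apply' next k ⊥
  have hsc : ∀ k, F.StronglyClosed (T k) := by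
    intro k
    induction k with
    | zero => exact stronglyClosed_bot F
    | succ k ih =>
      rw [hTs]
      by_cases h : T k ≠ S
      · exact (hnext_pos _ ⟨ih, h⟩).1
      · rw [hnext_neg _ (fun h' => h h'.2)]
        exact ih
  have hmono : ∀ k, T k ≤ T (k + 1) := by
    intro k
    rw [hTs]
    by_cases h : T k ≠ S
    · exact (hnext_pos _ ⟨hsc k, h⟩).2.1
    · rw [hnext_neg _ (fun h' => h h'.2)]
  have hab : ∀ k, ⁅T (k + 1), T (k + 1)⁆ ≤ T k := by
    intro k
    rw [hTs]
    by_cases h : T k ≠ S
    · exact (hnext_pos _ ⟨hsc k, h⟩).2.2.2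
    · rw [hnext_neg _ (fun h' => h h'.2)]
      rw [Subgroup.commutator_le]
      intro a ha b hb
      exact Subgroup.mul_mem _ (Subgroup.mul_mem _ (Subgroup.mul_mem _ ha hb) (Subgroup.inv_mem _ ha))
        (Subgroup.inv_mem _ hb)
  have hcard : ∀ k, T k = S ∨ k < Nat.card (T k) := by
    intro k
    induction k with
    | zero =>
      right
      rw [hT0]
      simp
    | succ k ih =>
      by_cases h : T k = S
      · left
        rw [hTs, hnext_neg _ (fun h' => h'.2 h)]
        exact h
      · right
        have hk : k < Nat.card (T k) := ih.resolve_left h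
        obtain ⟨h1, h2, h3, -⟩ := hnext_pos _ ⟨hsc k, h⟩
        rw [hTs]
        haveI : Finite (next (T k)) := fs_finite_of_le h1.1
        have hlt : Nat.card (T k) < Nat.card (next (T k)) := by
          by_contra hge
          push Not at hge
          exact h3 (Subgroup.eq_of_le_of_card_ge h2 hge)
        omega
  refine ⟨T, hT0, ?_, hmono, hsc, hab⟩
  rcases hcard (Nat.card S) with h | h
  · exact h
  · exfalso
    have := Subgroup.card_le_of_le (hsc (Nat.card S)).1
    omega

end Cfsg.Agent.Lib.Helper9
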