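import Mathlib
import Cfsg.Agent.Lib.Helper9.Solv5
import Cfsg.Agent.Lib.Helper9.FusionSup
import Cfsg.Agent.Lib.Helper9.FusionNormal6

set_option autoImplicit false
open Cfsg Cfsg.FusionSystem

namespace Cfsg.Agent.Lib.Helper9

variable {Ω : Type*} [Group Ω] {S : Subgroup Ω}

theorem stronglyClosed_inf (F : FusionSystem S) {A B : Subgroup Ω} (hA : F.StronglyClosed A)
    (hB : F.StronglyClosed B) : F.StronglyClosed (A ⊓ B) := by
  refine ⟨inf_le_left.trans hA.1, fun R hR φ hφ x => ?_⟩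
  exact ⟨hA.2 R (hR.trans inf_le_left) φ hφ x, hB.2 R (hR.trans inf_le_right) φ hφ x⟩

/-- The centralizer in `S` of a subgroup normal in the system is strongly closed. -/
theorem stronglyClosed_centralizerIn_of_isNormal (F : FusionSystem S) {Q : Subgroup Ω} (hQ : F.IsNormal Q) :
    F.StronglyClosed (centralizerIn S Q) := by
  refine ⟨inf_le_left, fun R hR φ hφ x => ?_⟩
  obtain ⟨ψ, hψ, hψφ, hψQ⟩ := hQ.2 R φ hφ
  refine ⟨(F.le_of_mem hφ).2 x, ?_⟩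
  apply Subgroup.mem_centralizer_iff.mpr
  intro q hq
  have hq' : q ∈ (Q.subgroupOf (R ⊔ Q)).map ψ := by rw [hψQ]; exact hq
  obtain ⟨q₀, hq₀, rfl⟩ := hq'
  have hq₀Q : (q₀ : Ω) ∈ Q := hq₀
  rw [← hψφ x, ← map_mul, ← map_mul]
  congr 1
  apply Subtype.ext
  show (q₀ : Ω) * (x : Ω) = (x : Ω) * (q₀ : Ω)
  have hxC : (x : Ω) ∈ Subgroup.centralizer (Q : Set Ω) := (hR x.2).2
  rw [Subgroup.mem_centralizer_iff] at hxC
  exact hxC _ hq₀Q

/-- The product of a strongly closed subgroup and a subgroup normal in the system is strongly closed. -/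
theorem stronglyClosed_sup_of_isNormal (F : FusionSystem S) {D Q : Subgroup Ω} (hD : F.StronglyClosed D)
    (hQ : F.IsNormal Q) : F.StronglyClosed (D ⊔ Q) := by
  have hDN : D ≤ Subgroup.normalizer (Q : Set Ω) :=
    hD.1.trans (fs_stronglyClosed_le_normalizer F (fs_stronglyClosed_of_isNormal F hQ))
  refine ⟨sup_le hD.1 hQ.1, fun R hR φ hφ x => ?_⟩
  obtain ⟨ψ, hψ, hψφ, hψQ⟩ := hQ.2 R φ hφ
  obtain ⟨d, hd, q, hq, hdq⟩ := mem_sup_of_le_normalizer' hDN (hR x.2)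
  have hqRQ : q ∈ R ⊔ Q := Subgroup.mem_sup_right hq
  have hxRQ : (x : Ω) ∈ R ⊔ Q := Subgroup.mem_sup_left x.2
  have hdRQ : d ∈ R ⊔ Q := by
    have : d = (x : Ω) * q⁻¹ := by rw [← hdq]; group
    rw [this]
    exact Subgroup.mul_mem _ hxRQ (Subgroup.inv_mem _ hqRQ)
  have h1 : φ x = ψ ⟨d, hdRQ⟩ * ψ ⟨q, hqRQ⟩ := by
    rw [← hψφ x, ← map_mul]
    congr 1
    apply Subtype.ext
    exact hdq.symm
  rw [h1]
  apply Subgroup.mul_mem
  · apply Subgroup.mem_sup_left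
    have hres := fs_restrict_mem F hψ (inf_le_left : (R ⊔ Q) ⊓ D ≤ R ⊔ Q)
    exact hD.2 _ inf_le_right _ hres ⟨d, ⟨hdRQ, hd⟩⟩
  · apply Subgroup.mem_sup_right
    exact (le_of_eq hψQ) ⟨⟨q, hqRQ⟩, hq, rfl⟩

end Cfsg.Agent.Lib.Helper9
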