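import Mathlib
import Cfsg.Agent.Lib.Helper9.Solv6
import Cfsg.Agent.Lib.Helper9.Solv4

set_option autoImplicit false
open Cfsg Cfsg.FusionSystem
open scoped commutatorElement

namespace Cfsg.Agent.Lib.Helper9

variable {Ω : Type*} [Group Ω] {S : Subgroup Ω}

/-- A saturated system with a series of strongly closed subgroups with abelian quotients is constrained. -/
theorem constrained_of_chain [Finite S] (p : ℕ) [Fact p.Prime] (hS : IsPGroup p S)
    (F : FusionSystem S) (hF : F.IsSaturated p) (T : ℕ → Subgroup Ω) (n : ℕ) (h0 : T 0 = ⊥)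
    (hn : T n = S) (hsc : ∀ k, F.StronglyClosed (T k)) (hab : ∀ k, ⁅T (k + 1), T (k + 1)⁆ ≤ T k) :
    F.IsConstrained p := by
  have hQn : F.IsNormal F.core := Cfsg.Agent.S5145.result F
  have hQsc := fs_stronglyClosed_of_isNormal F hQn
  have hCsc := stronglyClosed_centralizerIn_of_isNormal F hQn
  have hcr := ((Cfsg.Agent.S5086.result p hS F hF F.core).mp hQn).2
  -- every `C_S(Q) ∩ T k` lies in `Q`
  have hall : ∀ k, centralizerIn S F.core ⊓ T k ≤ F.core := by
    intro k
    induction k with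
    | zero => rw [h0, inf_bot_eq]; exact bot_le
    | succ k ih =>
      have hDsc : F.StronglyClosed (centralizerIn S F.core ⊓ T (k + 1)) := stronglyClosed_inf F hCsc (hsc _)
      have hD₀sc : F.StronglyClosed ((centralizerIn S F.core ⊓ T (k + 1)) ⊓ F.core) :=
        stronglyClosed_inf F hDsc hQsc
      have hXsc := stronglyClosed_sup_of_isNormal F hDsc hQn
      have hcomm : ⁅centralizerIn S F.core ⊓ T (k + 1), centralizerIn S F.core ⊓ T (k + 1)⁆ ≤
          (centralizerIn S F.core ⊓ T (k + 1)) ⊓ F.core := by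
        rw [Subgroup.commutator_le]
        intro a ha b hb
        have h1 : ⁅a, b⁆ ∈ T k := hab k (Subgroup.commutator_mem_commutator ha.2 hb.2)
        have h2 : ⁅a, b⁆ ∈ centralizerIn S F.core :=
          Subgroup.mul_mem _ (Subgroup.mul_mem _ (Subgroup.mul_mem _ ha.1 hb.1) (Subgroup.inv_mem _ ha.1))
            (Subgroup.inv_mem _ hb.1)
        have h3 : ⁅a, b⁆ ∈ T (k + 1) :=
          Subgroup.mul_mem _ (Subgroup.mul_mem _ (Subgroup.mul_mem _ ha.2 hb.2) (Subgroup.inv_mem _ ha.2))
            (Subgroup.inv_mem _ hb.2)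
        exact ⟨⟨h2, h3⟩, ih ⟨h2, h1⟩⟩
      have hcent : ∀ d ∈ centralizerIn S F.core ⊓ T (k + 1),
          ∀ z ∈ (centralizerIn S F.core ⊓ T (k + 1)) ⊓ F.core, d * z = z * d := by
        intro d hd z hz
        have hdC : d ∈ Subgroup.centralizer (F.core : Set Ω) := hd.1.2
        rw [Subgroup.mem_centralizer_iff] at hdC
        exact (hdC z hz.2).symm
      have hXn : F.IsNormal ((centralizerIn S F.core ⊓ T (k + 1)) ⊔ F.core) := by
        rw [Cfsg.Agent.S5086.result p hS F hF]
        refine ⟨hXsc, fun P hPc hPr => sup_le ?_ (hcr P hPc hPr)⟩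
        exact le_of_centric_radical_of_chain p hS F hPc hPr hDsc hD₀sc inf_le_left
          (inf_le_right.trans (hcr P hPc hPr)) hcomm hcent
      exact le_sup_left.trans (le_sSup hXn)
  have hC : centralizerIn S F.core ≤ F.core := by
    have := hall n
    rw [hn] at this
    intro x hx
    exact this ⟨hx, hx.1⟩
  refine ⟨hF, F.core, hQn, hQn.1, fun Q' hQ' => ?_⟩
  obtain ⟨φ, hφ, hr⟩ := hQ'
  have hwc := (fs_weaklyClosed_of_isNormal F hQn).2 φ hφ
  rw [← hr, hwc]
  exact hC

end Cfsg.Agent.Lib.Helper9
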