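import Mathlib
import Cfsg.Prelude
import Cfsg.Agent.Lib.Helper9.SF3
import Cfsg.Agent.Lib.Helper9.ZW15
import Cfsg.Agent.S5132
import Cfsg.Agent.S5133
import Cfsg.Agent.S5134
import Cfsg.Agent.S5158

set_option autoImplicit false

/-!
# `SL₂(p)`-free systems (part 4): for `p` odd they are solvable, hence constrained
-/

namespace Cfsg.Agent.H9SF

open Cfsg Cfsg.FusionSystem Cfsg.Agent.Lib.Helper9 Cfsg.Agent.H9ZW

universe u

variable {Ω : Type u} [Group Ω] {S : Subgroup Ω}

/-- `Z(J(S))` is normal in a saturated system with `SL₂(p)`-free automizers, `p` odd. -/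
theorem SLFree.zj_normal [Finite S] {p : ℕ} [hp : Fact p.Prime] (hp2 : p ≠ 2) (hS : IsPGroup p S)
    {F : FusionSystem S} (hF : F.IsSaturated p) (h : SLFree p F) :
    F.IsNormal (Wof Cfsg.Agent.Lib.Lead.ZJFun.WZJ S) :=
  GF_main (isGF_WZJ hp2) (Nat.card S) hS F hF h.sectionFree rfl

/-- A saturated system with `SL₂(p)`-free automizers (`p` odd) is solvable. -/
theorem SLFree.solvable [Finite S] {p : ℕ} [hp : Fact p.Prime] (hp2 : p ≠ 2) (hS : IsPGroup p S)
    {F : FusionSystem S} (hF : F.IsSaturated p) (h : SLFree p F) : F.IsSolvableSystem := by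
  intro R hR hRS _ E hE
  have hsm := Cfsg.Agent.S5134.result p hS F hF R hR (QuotientGroup.mk' (R.subgroupOf S)) E hE
  have hEsat := Cfsg.Agent.S5133.result p hS F hF E _ hsm
  have hEfree : SLFree p E := h.factor R _ E hE
  have hTopP : IsPGroup p (⊤ : Subgroup (S ⧸ R.subgroupOf S)) := (hS.to_quotient _).to_subgroup _
  have hnorm := SLFree.zj_normal hp2 hTopP hEsat hEfree
  have hne : (⊤ : Subgroup (S ⧸ R.subgroupOf S)) ≠ ⊥ := by
    intro htop
    apply hRS
    apply le_antisymm hR.1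
    intro s hs
    have h1 : (QuotientGroup.mk' (R.subgroupOf S) ⟨s, hs⟩) ∈ (⊤ : Subgroup (S ⧸ R.subgroupOf S)) :=
      Subgroup.mem_top _
    rw [htop, Subgroup.mem_bot] at h1
    have h2 := (QuotientGroup.eq_one_iff _).mp h1
    exact Subgroup.mem_subgroupOf.mp h2
  have hW := Wof_ne_bot (isGF_WZJ hp2) hTopP hne
  intro hcore
  apply hW
  have h3 : Wof Cfsg.Agent.Lib.Lead.ZJFun.WZJ (⊤ : Subgroup (S ⧸ R.subgroupOf S)) ≤ E.core := le_sSup hnorm
  rw [hcore] at h3
  exact le_bot_iff.mp h3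

/-- A saturated system with `SL₂(p)`-free automizers (`p` odd) is constrained. -/
theorem SLFree.constrained [Finite S] {p : ℕ} [hp : Fact p.Prime] (hp2 : p ≠ 2) (hS : IsPGroup p S)
    {F : FusionSystem S} (hF : F.IsSaturated p) (h : SLFree p F) : F.IsConstrained p :=
  Cfsg.Agent.S5158.result p hS F hF (h.solvable hp2 hS hF)

end Cfsg.Agent.H9SF
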