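import Mathlib
import Cfsg.Prelude.Def_FusionSystem
import Cfsg.Agent.S5145
import Cfsg.Agent.Lib.Helper9.FusionNormal7
import Cfsg.Agent.Lib.Helper9.FusionCentric
import Cfsg.Agent.Lib.Helper9.FusionAG3
import Cfsg.Agent.Lib.Helper9.FusionBasic
import Cfsg.Agent.Lib.Helper9.FusionAut
import Cfsg.Agent.Lib.Helper9.FusionAut2
import Cfsg.Agent.Lib.Helper9.FusionStrongly

set_option autoImplicit false

/-!
# `SL₂(p)`-free systems (part 5): when the core of a saturated system is centric it is radical.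

(Self-contained copy of the restriction-homomorphism / `plusSub` argument, with fresh names so that it can be
imported together with the `ZW` chain.)
-/

namespace Cfsg.Agent.H9SF

open Cfsg Cfsg.FusionSystem Cfsg.Agent.Lib.Helper9

variable {Ω : Type*} [Group Ω] {S : Subgroup Ω}



/-- `b` is the restriction of `a` to `T`. -/
def IsRestrictAutS {T U : Subgroup Ω} (hTU : T ≤ U) (a : MulAut U) (b : MulAut T) : Prop :=
  ∀ t : T, ((b t : T) : Ω) = ((a ⟨t, hTU t.2⟩ : U) : Ω)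

theorem isRestrictAutS_unique {T U : Subgroup Ω} (hTU : T ≤ U) {a : MulAut U} {b b' : MulAut T}
    (h : IsRestrictAutS hTU a b) (h' : IsRestrictAutS hTU a b') : b = b' := by
  apply MulEquiv.ext
  intro t
  apply Subtype.ext
  exact (h t).trans (h' t).symm

theorem isRestrictAutS_mul {T U : Subgroup Ω} (hTU : T ≤ U) {a₁ a₂ : MulAut U} {b₁ b₂ : MulAut T}
    (h₁ : IsRestrictAutS hTU a₁ b₁) (h₂ : IsRestrictAutS hTU a₂ b₂) :
    IsRestrictAutS hTU (a₁ * a₂) (b₁ * b₂) := by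
  intro t
  show ((b₁ (b₂ t) : T) : Ω) = ((a₁ (a₂ ⟨t, hTU t.2⟩) : U) : Ω)
  rw [h₁ (b₂ t)]
  congr 2
  exact Subtype.ext (h₂ t)

theorem exists_isRestrictAutS [Finite S] (F : FusionSystem S) {T U : Subgroup Ω} (hT : F.StronglyClosed T)
    (hTU : T ≤ U) (hUS : U ≤ S) {a : MulAut U} (ha : a ∈ F.autGroup U) :
    ∃ b ∈ F.autGroup T, IsRestrictAutS hTU a b := by
  have ha' := (mem_autGroup_iff F hUS a).mp ha
  have hρ := fs_restrict_mem F ha' hTU
  have hval : ∀ y : T, ((U.subtype.comp a.toMonoidHom).comp (Subgroup.inclusion hTU)) y ∈ T :=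
    fun y => fs_stronglyClosed_mem F hT ha' _ y.2
  obtain ⟨b, hb, Hb⟩ := fs_hom_to_aut F hρ hval
  exact ⟨b, hb, fun t => Hb t⟩

/-- Restriction `Aut_F(U) → Aut_F(T)` for a strongly closed `T ≤ U`. -/
noncomputable def restrictAutS [Finite S] (F : FusionSystem S) {T U : Subgroup Ω} (hT : F.StronglyClosed T)
    (hTU : T ≤ U) (hUS : U ≤ S) : F.autGroup U →* F.autGroup T :=
  MonoidHom.mk' (fun a => ⟨Classical.choose (exists_isRestrictAutS F hT hTU hUS a.2),
      (Classical.choose_spec (exists_isRestrictAutS F hT hTU hUS a.2)).1⟩) (by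
    intro a₁ a₂
    apply Subtype.ext
    have h₁ := (Classical.choose_spec (exists_isRestrictAutS F hT hTU hUS a₁.2)).2
    have h₂ := (Classical.choose_spec (exists_isRestrictAutS F hT hTU hUS a₂.2)).2
    have h₁₂ := (Classical.choose_spec (exists_isRestrictAutS F hT hTU hUS (a₁ * a₂).2)).2
    exact isRestrictAutS_unique hTU h₁₂ (isRestrictAutS_mul hTU h₁ h₂))

theorem restrictAutS_spec [Finite S] (F : FusionSystem S) {T U : Subgroup Ω} (hT : F.StronglyClosed T)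
    (hTU : T ≤ U) (hUS : U ≤ S) (a : F.autGroup U) :
    IsRestrictAutS hTU (a : MulAut U) ((restrictAutS F hT hTU hUS a : F.autGroup T) : MulAut T) :=
  (Classical.choose_spec (exists_isRestrictAutS F hT hTU hUS a.2)).2





/-- `O_p(Aut_F(Q))` as a subgroup of `Aut(Q)`. -/
def opAut (F : FusionSystem S) (p : ℕ) (Q : Subgroup Ω) : Subgroup (MulAut Q) :=
  (Cfsg.pCore p (F.autGroup Q)).map (F.autGroup Q).subtype

/-- The preimage in `S` of `O_p(Aut_F(Q))`. -/
def plusSub (F : FusionSystem S) (p : ℕ) (Q : Subgroup Ω) : Subgroup Ω where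
  carrier := {s | s ∈ S ∧ ∃ α ∈ opAut F p Q, ∀ y : Q, ((α y : Q) : Ω) = s * y * s⁻¹}
  one_mem' := ⟨S.one_mem, 1, Subgroup.one_mem _, fun y => by simp⟩
  mul_mem' := by
    rintro s t ⟨hs, α, hα, Hα⟩ ⟨ht, β, hβ, Hβ⟩
    refine ⟨S.mul_mem hs ht, α * β, Subgroup.mul_mem _ hα hβ, fun y => ?_⟩
    rw [MulAut.mul_apply, Hα, Hβ]
    group
  inv_mem' := by
    rintro s ⟨hs, α, hα, Hα⟩
    refine ⟨S.inv_mem hs, α⁻¹, Subgroup.inv_mem _ hα, fun y => ?_⟩
    have h1 := Hα (α⁻¹ y)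
    rw [MulAut.apply_inv_self] at h1
    rw [h1]
    group

theorem mem_plusSub_iff (F : FusionSystem S) (p : ℕ) (Q : Subgroup Ω) (s : Ω) :
    s ∈ plusSub F p Q ↔ s ∈ S ∧ ∃ α ∈ opAut F p Q, ∀ y : Q, ((α y : Q) : Ω) = s * y * s⁻¹ := Iff.rfl

theorem plusSub_le (F : FusionSystem S) (p : ℕ) (Q : Subgroup Ω) : plusSub F p Q ≤ S :=
  fun _ hs => hs.1

theorem opAut_le (F : FusionSystem S) (p : ℕ) (Q : Subgroup Ω) : opAut F p Q ≤ F.autGroup Q := by
  rintro _ ⟨a, -, rfl⟩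
  exact a.2

theorem opAut_conj (F : FusionSystem S) (p : ℕ) (Q : Subgroup Ω) {α β : MulAut Q} (hα : α ∈ opAut F p Q)
    (hβ : β ∈ F.autGroup Q) : β * α * β⁻¹ ∈ opAut F p Q := by
  obtain ⟨a, ha, rfl⟩ := hα
  haveI := pCore_normal' (G := F.autGroup Q) p
  have := (pCore_normal' (G := F.autGroup Q) p).conj_mem a ha ⟨β, hβ⟩
  exact ⟨_, this, rfl⟩

/-- The preimage of `O_p(Aut_F(Q))` is strongly closed when `Q` is normal in the system. -/
theorem plusSub_stronglyClosed [Finite S] (F : FusionSystem S) (p : ℕ) {Q : Subgroup Ω} (hQ : F.IsNormal Q) :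
    F.StronglyClosed (plusSub F p Q) := by
  refine ⟨plusSub_le F p Q, fun R hR φ hφ x => ?_⟩
  have hQS : Q ≤ S := hQ.1
  obtain ⟨ψ, hψ, hψφ, hψQ⟩ := hQ.2 R φ hφ
  obtain ⟨hxS, α, hα, Hα⟩ := hR x.2
  -- restriction of ψ to Q
  have hres := fs_restrict_mem F hψ (le_sup_right : Q ≤ R ⊔ Q)
  have hval : ∀ y : Q, (ψ.comp (Subgroup.inclusion (le_sup_right : Q ≤ R ⊔ Q))) y ∈ Q := by
    intro y
    have h1 : ψ (Subgroup.inclusion le_sup_right y) ∈ (Q.subgroupOf (R ⊔ Q)).map ψ :=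
      ⟨_, by simp [Subgroup.mem_subgroupOf], rfl⟩
    rw [hψQ] at h1
    exact h1
  obtain ⟨β, hβ, Hβ⟩ := fs_hom_to_aut F hres hval
  refine ⟨(F.le_of_mem hφ).2 x, β * α * β⁻¹, opAut_conj F p Q hα hβ, fun y => ?_⟩
  rw [MulAut.mul_apply, MulAut.mul_apply, Hβ]
  show ψ (Subgroup.inclusion le_sup_right (α (β⁻¹ y))) = _
  have h2 : Subgroup.inclusion (le_sup_right : Q ≤ R ⊔ Q) (α (β⁻¹ y)) =
      Subgroup.inclusion (le_sup_left : R ≤ R ⊔ Q) x * Subgroup.inclusion le_sup_right (β⁻¹ y) *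
        (Subgroup.inclusion (le_sup_left : R ≤ R ⊔ Q) x)⁻¹ := by
    apply Subtype.ext
    show ((α (β⁻¹ y) : Q) : Ω) = (x : Ω) * ((β⁻¹ y : Q) : Ω) * (x : Ω)⁻¹
    exact Hα _
  rw [h2, map_mul, map_mul, map_inv, hψφ]
  have h3 : ψ (Subgroup.inclusion le_sup_right (β⁻¹ y)) = y := by
    have := Hβ (β⁻¹ y)
    rw [MulAut.apply_inv_self] at this
    exact this.symm
  rw [h3]





/-- The kernel of restriction `Aut_F(P) → Aut_F(Q)` to a centric strongly closed `Q ≤ P` is a `p`-group. -/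
theorem ker_restrictAutS_isPGroup [Finite S] (p : ℕ) [Fact p.Prime] (hS : IsPGroup p S) (F : FusionSystem S)
    (hF : F.IsSaturated p) {Q P : Subgroup Ω} (hQsc : F.StronglyClosed Q) (hQc : F.IsCentric Q)
    (hQP : Q ≤ P) (hPS : P ≤ S) : IsPGroup p (restrictAutS F hQsc hQP hPS).ker := by
  have hPN : P ≤ Subgroup.normalizer (Q : Set Ω) :=
    hPS.trans (fs_stronglyClosed_le_normalizer F hQsc)
  have hPp : IsPGroup p P := hS.to_le hPS
  rintro ⟨a, ha⟩
  rw [MonoidHom.mem_ker] at ha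
  have hspec := restrictAutS_spec F hQsc hQP hPS a
  rw [ha] at hspec
  have hfix : ∀ x : P, (x : Ω) ∈ Q → (a : MulAut P) x = x := by
    intro x hx
    have := hspec ⟨x, hx⟩
    apply Subtype.ext
    rw [← this]
    rfl
  obtain ⟨z, -, -, Hz⟩ := fs_aut_eq_conj_of_fix_centric p hS F hF hPS hQP hPN hQc a.2 hfix
  obtain ⟨k, hk⟩ := hPp z
  refine ⟨k, ?_⟩
  apply Subtype.ext
  apply Subtype.ext
  apply MulEquiv.ext
  intro y
  apply Subtype.ext
  have Hz' : ∀ x : P, ((((a : MulAut P) x : P)) : Ω) = (z : Ω) * (x : Ω) * (z : Ω)⁻¹ := by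
    intro x; rw [Hz]; rfl
  have h1 := autInduced_pow (a : MulAut P) (z : Ω) Hz' (p ^ k) y
  have h2 : ((z : Ω)) ^ (p ^ k) = 1 := by
    have := congrArg Subtype.val hk
    simpa using this
  rw [h2] at h1
  simpa using h1

/-- The preimage of `O_p(Aut_F(Q))`, for `Q` normal and centric, lies in every centric radical subgroup. -/
theorem plusSub_le_centric_radical [Finite S] (p : ℕ) [Fact p.Prime] (hS : IsPGroup p S) (F : FusionSystem S)
    (hF : F.IsSaturated p) {Q : Subgroup Ω} (hQ : F.IsNormal Q) (hQc : F.IsCentric Q)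
    {P : Subgroup Ω} (hPc : F.IsCentric P) (hPr : F.IsRadical p P) : plusSub F p Q ≤ P := by
  have hPS : P ≤ S := hPc.1
  have hQS : Q ≤ S := hQ.1
  have hQP : Q ≤ P := fs_le_of_isNormal_of_centric_radical p hS F hQ hPc hPr
  have hQsc := fs_stronglyClosed_of_isNormal F hQ
  have hTsc := plusSub_stronglyClosed F p hQ
  have hCle : centralizerIn S P ≤ P := hPc.2 P (fs_isConj_refl F hPS)
  haveI : Finite P := fs_finite_of_le hPS
  haveI : Finite Q := fs_finite_of_le hQS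
  obtain ⟨ρ, hρ⟩ : ∃ ρ : F.autGroup P →* F.autGroup Q, ρ = restrictAutS F hQsc hQP hPS := ⟨_, rfl⟩
  have hker : IsPGroup p ρ.ker := by
    rw [hρ]; exact ker_restrictAutS_isPGroup p hS F hF hQsc hQc hQP hPS
  have hMp : IsPGroup p ((Cfsg.pCore p (F.autGroup Q)).comap ρ) :=
    IsPGroup.comap_of_ker_isPGroup (pCore_isPGroup' p) ρ hker
  have hMn : ((Cfsg.pCore p (F.autGroup Q)).comap ρ).Normal :=
    (pCore_normal' (G := F.autGroup Q) p).comap ρ
  have hMle := le_pCore hMn hMp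
  -- elements of plusSub normalizing P lie in P
  have key : ∀ g ∈ plusSub F p Q, g ∈ Subgroup.normalizer (P : Set Ω) → g ∈ P := by
    intro g hg hgN
    obtain ⟨hgS, α, hα, Hα⟩ := hg
    obtain ⟨c, hc'⟩ : ∃ c : MulAut P, c = P.normalizerMonoidHom ⟨g, hgN⟩ := ⟨_, rfl⟩
    have hcg : ∀ x : P, ((c x : P) : Ω) = g * x * g⁻¹ := by
      intro x; rw [hc']; rfl
    have hcA : c ∈ F.autGroup P := by
      apply autInducedBy_le_autGroup F hPS
      rw [mem_autInducedBy_iff]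
      exact ⟨g, hgS, hcg⟩
    obtain ⟨a, ha, rfl⟩ := hα
    have hρc : ρ ⟨c, hcA⟩ = a := by
      apply Subtype.ext
      apply MulEquiv.ext
      intro t
      apply Subtype.ext
      have h1 := restrictAutS_spec F hQsc hQP hPS ⟨c, hcA⟩ t
      rw [← hρ] at h1
      rw [h1]
      show ((c ⟨t, hQP t.2⟩ : P) : Ω) = _
      rw [hcg]
      exact (Hα t).symm
    have hcM : (⟨c, hcA⟩ : F.autGroup P) ∈ (Cfsg.pCore p (F.autGroup Q)).comap ρ := by
      rw [Subgroup.mem_comap, hρc]; exact ha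
    have hcI : c ∈ Inn P := by
      rw [← hPr.2]
      exact ⟨⟨c, hcA⟩, hMle hcM, rfl⟩
    exact mem_of_induces_inner hCle hcI hgS hPS hcg
  -- normalizers grow
  have hTS : plusSub F p Q ≤ S := plusSub_le F p Q
  have hKS : P ⊔ plusSub F p Q ≤ S := sup_le hPS hTS
  have hPNT : P ≤ Subgroup.normalizer ((plusSub F p Q : Subgroup Ω) : Set Ω) :=
    hPS.trans (fs_stronglyClosed_le_normalizer F hTsc)
  have hNP : normalizerIn (P ⊔ plusSub F p Q) P ≤ P := by
    intro g hg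
    obtain ⟨h, hh, n, hn, rfl⟩ := mem_sup_of_le_normalizer' hPNT hg.1
    have hnN : n ∈ Subgroup.normalizer (P : Set Ω) := by
      have h1 : h⁻¹ * (h * n) ∈ Subgroup.normalizer (P : Set Ω) :=
        Subgroup.mul_mem _ (Subgroup.inv_mem _ (Subgroup.le_normalizer hh)) hg.2
      simpa using h1
    exact P.mul_mem hh (key n hn hnN)
  have hKP : P ⊔ plusSub F p Q = P := by
    by_contra hne
    have hlt : P < P ⊔ plusSub F p Q := lt_of_le_of_ne le_sup_left (fun h => hne h.symm)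
    haveI : Finite ↥(P ⊔ plusSub F p Q) := fs_finite_of_le hKS
    have h1 := fs_lt_normalizerIn (S := P ⊔ plusSub F p Q) p (hS.to_le hKS) hlt
    exact absurd (lt_of_lt_of_le h1 hNP) (lt_irrefl _)
  rw [← hKP]
  exact le_sup_right

/-- The preimage of `O_p(Aut_F(Q))`, for `Q` normal and centric, is normal in the system. -/
theorem plusSub_isNormal [Finite S] (p : ℕ) [Fact p.Prime] (hS : IsPGroup p S) (F : FusionSystem S)
    (hF : F.IsSaturated p) {Q : Subgroup Ω} (hQ : F.IsNormal Q) (hQc : F.IsCentric Q) :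
    F.IsNormal (plusSub F p Q) := by
  rw [fs_isNormal_iff_centric_radical p hS F hF]
  exact ⟨plusSub_stronglyClosed F p hQ, fun P hPc hPr => plusSub_le_centric_radical p hS F hF hQ hQc hPc hPr⟩

/-- When the core of the system is centric, it is radical: an element of `S` inducing on the core an
automorphism in `O_p(Aut_F(core))` lies in the core. -/
theorem mem_core_of_induces_opAut [Finite S] (p : ℕ) [Fact p.Prime] (hS : IsPGroup p S) (F : FusionSystem S)
    (hF : F.IsSaturated p) (hOc : F.IsCentric F.core) {x : Ω} (hx : x ∈ S) {α : MulAut F.core}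
    (hα : α ∈ ((Cfsg.pCore p (F.autGroup F.core)).map (F.autGroup F.core).subtype : Subgroup (MulAut F.core)))
    (Hα : ∀ y : F.core, ((α y : F.core) : Ω) = x * y * x⁻¹) : x ∈ F.core := by
  have hOn : F.IsNormal F.core := Cfsg.Agent.S5145.result F
  have h1 := plusSub_isNormal p hS F hF hOn hOc
  have h2 : plusSub F p F.core ≤ F.core := le_sSup h1
  exact h2 ⟨hx, α, hα, Hα⟩


end Cfsg.Agent.H9SF
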