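import Mathlib
import Cfsg.Prelude.Def_FusionSystem
import Cfsg.Agent.Lib.Helper9.SF5
import Cfsg.Agent.Lib.Helper9.PStab3
import Cfsg.Agent.Lib.Helper9.FusionNormal6

set_option autoImplicit false

/-!
# `SL₂(p)`-free systems (part 6): a centric core is radical
-/

namespace Cfsg.Agent.H9SF

open Cfsg Cfsg.FusionSystem Cfsg.Agent.Lib.Helper9

variable {Ω : Type*} [Group Ω] {S : Subgroup Ω}

theorem fullyAutomized_of_weaklyClosed (p : ℕ) (F : FusionSystem S) (hF : F.IsSaturated p)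
    {Q : Subgroup Ω} (hQ : F.WeaklyClosed Q) : F.IsFullyAutomized p Q := by
  obtain ⟨Q', ⟨φ, hφ, hφr⟩, hfa, -⟩ := hF Q hQ.1
  have h : Q' = Q := by rw [← hφr]; exact hQ.2 φ hφ
  rwa [h] at hfa

/-- If the core of a saturated system is centric, it is radical. -/
theorem core_isRadical [Finite S] (p : ℕ) [Fact p.Prime] (hS : IsPGroup p S) (F : FusionSystem S)
    (hF : F.IsSaturated p) (hOc : F.IsCentric F.core) : F.IsRadical p F.core := by
  have hOn : F.IsNormal F.core := Cfsg.Agent.S5145.result F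
  have hwc := fs_weaklyClosed_of_isNormal F hOn
  have hfa := fullyAutomized_of_weaklyClosed p F hF hwc
  refine ⟨hOn.1, le_antisymm ?_ (Cfsg.Agent.H9PS.inn_le_pCoreMap p hS F hOn.1)⟩
  intro α hα
  have h1 := Cfsg.Agent.H9PS.pCoreMap_le_autInducedBy p F hfa hα
  rw [mem_autInducedBy_iff] at h1
  obtain ⟨x, hxS, Hx⟩ := h1
  have hx : x ∈ F.core := mem_core_of_induces_opAut p hS F hF hOc hxS hα Hx
  refine ⟨⟨x, hx⟩, ?_⟩
  ext y
  rw [Hx]
  rfl

end Cfsg.Agent.H9SF
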