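import Mathlib
import Cfsg.Prelude
import Cfsg.Agent.Lib.Helper9.SF7

set_option autoImplicit false

/-!
# `SL₂(p)`-free systems (part 8): centric subgroups of the fusion system of a group on a Sylow subgroup
-/

namespace Cfsg.Agent.H9SF

open Cfsg Cfsg.FusionSystem Cfsg.Agent.Lib.Helper9

variable {G : Type*} [Group G]

theorem gCentric_of_sylow [Finite G] {p : ℕ} [Fact p.Prime] (T : Subgroup G) (hT : IsPGroup p T)
    {Q : Subgroup G} (hQ : Q ≤ T)
    (h : ∃ R : Sylow p ↥(Subgroup.centralizer (Q : Set G)),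
      (R : Subgroup ↥(Subgroup.centralizer (Q : Set G))).map (Subgroup.centralizer (Q : Set G)).subtype =
        Q ⊓ Subgroup.centralizer (Q : Set G)) :
    H9Constr.GCentric T Q := by
  obtain ⟨R, hR⟩ := h
  refine ⟨hQ, fun g hg c hcT hcomm => ?_⟩
  have hc'C : g⁻¹ * c * g ∈ Subgroup.centralizer (Q : Set G) := by
    rw [Subgroup.mem_centralizer_iff]
    intro x hx
    have h1 := hcomm x hx
    calc x * (g⁻¹ * c * g) = g⁻¹ * ((g * x * g⁻¹) * c) * g := by group
      _ = g⁻¹ * (c * (g * x * g⁻¹)) * g := by rw [h1]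
      _ = g⁻¹ * c * g * x := by group
  have hRn : (R : Subgroup ↥(Subgroup.centralizer (Q : Set G))).Normal := by
    constructor
    intro r hr n
    have hrQ : ((r : ↥(Subgroup.centralizer (Q : Set G))) : G) ∈ Q ⊓ Subgroup.centralizer (Q : Set G) := by
      rw [← hR]; exact ⟨r, hr, rfl⟩
    have hcomm' : n * r = r * n := by
      apply Subtype.ext
      have h2 := (Subgroup.mem_centralizer_iff.mp n.2) r hrQ.1
      exact h2.symm
    have h3 : n * r * n⁻¹ = r := by rw [hcomm']; group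
    rw [h3]; exact hr
  obtain ⟨k, hk⟩ := hT ⟨c, hcT⟩
  have hk' : c ^ (p ^ k) = 1 := by simpa using congrArg Subtype.val hk
  obtain ⟨c'', hc''⟩ : ∃ c'' : ↥(Subgroup.centralizer (Q : Set G)), c'' = ⟨g⁻¹ * c * g, hc'C⟩ := ⟨_, rfl⟩
  have hc''pow : c'' ^ (p ^ k) = 1 := by
    rw [hc'']
    apply Subtype.ext
    show (g⁻¹ * c * g) ^ (p ^ k) = 1
    have h4 : g⁻¹ * c * g = g⁻¹ * c * g⁻¹⁻¹ := by rw [inv_inv]
    rw [h4, conj_pow, hk']; group
  have hK : IsPGroup p (Subgroup.zpowers c'') := by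
    rintro ⟨y, hy⟩
    obtain ⟨n, rfl⟩ := Subgroup.mem_zpowers_iff.mp hy
    refine ⟨k, Subtype.ext ?_⟩
    show (c'' ^ n) ^ (p ^ k) = 1
    rw [← zpow_natCast, ← zpow_mul, mul_comm, zpow_mul, zpow_natCast, hc''pow, one_zpow]
  obtain ⟨R', hR'⟩ := hK.exists_le_sylow
  haveI := Sylow.unique_of_normal R hRn
  have hRR : R' = R := Subsingleton.elim _ _
  have hc''R : c'' ∈ R := hRR ▸ hR' (Subgroup.mem_zpowers c'')
  have hmem : (g⁻¹ * c * g) ∈ Q ⊓ Subgroup.centralizer (Q : Set G) := by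
    rw [← hR]; exact ⟨c'', hc''R, by rw [hc'']; rfl⟩
  exact ⟨g⁻¹ * c * g, hmem.1, by group⟩

theorem sylow_of_gCentric [Finite G] {p : ℕ} [Fact p.Prime] (P : Sylow p G) {Q : Subgroup G}
    (h : H9Constr.GCentric (P : Subgroup G) Q) :
    ∃ R : Sylow p ↥(Subgroup.centralizer (Q : Set G)),
      (R : Subgroup ↥(Subgroup.centralizer (Q : Set G))).map (Subgroup.centralizer (Q : Set G)).subtype =
        Q ⊓ Subgroup.centralizer (Q : Set G) := by
  obtain ⟨hQ, hcen⟩ := h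
  have hQp : IsPGroup p Q := P.isPGroup'.to_le hQ
  obtain ⟨C, hC⟩ : ∃ C : Subgroup G, C = Subgroup.centralizer (Q : Set G) := ⟨_, rfl⟩
  rw [← hC]
  have hZ : IsPGroup p ((Q ⊓ C).subgroupOf C) := (hQp.to_le inf_le_left).comap_subtype
  obtain ⟨R, hR⟩ := hZ.exists_le_sylow
  refine ⟨R, le_antisymm ?_ ?_⟩
  · have hR₁p : IsPGroup p ((R : Subgroup C).map C.subtype) := R.isPGroup'.map _
    have hR₁C : (R : Subgroup C).map C.subtype ≤ C := Subgroup.map_subtype_le _
    have hQN : Q ≤ Subgroup.normalizer (((R : Subgroup C).map C.subtype : Subgroup G) : Set G) := by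
      refine le_trans ?_ (Subgroup.centralizer_le_normalizer _)
      rw [Subgroup.le_centralizer_iff, ← hC]; exact hR₁C
    have hsup : IsPGroup p (Q ⊔ (R : Subgroup C).map C.subtype : Subgroup G) :=
      IsPGroup.to_sup_of_normal_right' hQp hR₁p hQN
    obtain ⟨g, hg⟩ := exists_map_conj_le_sylow P hsup
    intro r hr
    refine ⟨?_, hR₁C hr⟩
    have hgr : g * r * g⁻¹ ∈ (P : Subgroup G) := hg ⟨r, Subgroup.mem_sup_right hr, rfl⟩
    have hgQ : ∀ x ∈ Q, g * x * g⁻¹ ∈ (P : Subgroup G) := fun x hx => hg ⟨x, Subgroup.mem_sup_left hx, rfl⟩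
    have hcomm : ∀ x ∈ Q, g * r * g⁻¹ * (g * x * g⁻¹) = g * x * g⁻¹ * (g * r * g⁻¹) := by
      intro x hx
      have hrC : r ∈ Subgroup.centralizer (Q : Set G) := by rw [← hC]; exact hR₁C hr
      have hrx : x * r = r * x := (Subgroup.mem_centralizer_iff.mp hrC) x hx
      calc g * r * g⁻¹ * (g * x * g⁻¹) = g * (r * x) * g⁻¹ := by group
        _ = g * (x * r) * g⁻¹ := by rw [hrx]
        _ = g * x * g⁻¹ * (g * r * g⁻¹) := by group
    obtain ⟨x, hx, hxe⟩ := hcen g hgQ (g * r * g⁻¹) hgr hcomm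
    have hrx : r = x := by simpa using hxe
    rw [hrx]; exact hx
  · intro x hx
    exact ⟨⟨x, hx.2⟩, hR (Subgroup.mem_subgroupOf.mpr hx), rfl⟩

/-- Centric subgroups of the fusion system of `G` on a Sylow `p`-subgroup: `Z(Q)` is a Sylow `p`-subgroup of `C_G(Q)`. -/
theorem gfs_isCentric_iff_sylow [Finite G] {p : ℕ} [Fact p.Prime] (P : Sylow p G) {Q : Subgroup G}
    (hQ : Q ≤ (P : Subgroup G)) :
    (groupFusionSystem (P : Subgroup G)).IsCentric Q ↔
      ∃ R : Sylow p ↥(Subgroup.centralizer (Q : Set G)),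
        (R : Subgroup ↥(Subgroup.centralizer (Q : Set G))).map (Subgroup.centralizer (Q : Set G)).subtype =
          Q ⊓ Subgroup.centralizer (Q : Set G) := by
  rw [gfs_isCentric_iff _ hQ]
  exact ⟨sylow_of_gCentric P, gCentric_of_sylow _ P.isPGroup' hQ⟩

end Cfsg.Agent.H9SF
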