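import Mathlib
import Cfsg.Agent.Lib.Helper9.SLP5

set_option autoImplicit false

/-!
# Presentations of `Sp₄(q)`: generic helper lemmas
-/

namespace Cfsg.Agent.Lib.Helper9.SP4P

open Cfsg.Agent.Lib.Helper9.SLP

variable {G : Type*} [Group G]

theorem card_of_forall_exists {X : Type*} [Finite X] (K : Subgroup G) (f : X → G)
    (h : ∀ g ∈ K, ∃ x, f x = g) : Finite K ∧ Nat.card K ≤ Nat.card X := by
  choose s hs using h
  let e : K → X := fun k => s k.1 k.2
  have he : Function.Injective e := by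
    intro k k' hkk'
    apply Subtype.ext
    rw [← hs k.1 k.2, ← hs k'.1 k'.2]
    exact congrArg f hkk'
  exact ⟨Finite.of_injective e he, Nat.card_le_card_of_injective e he⟩

theorem conj_mem_of_gens (S : Set G) (K : Subgroup G) (g : G)
    (h : ∀ s ∈ S, g * s * g⁻¹ ∈ K) : ∀ x ∈ Subgroup.closure S, g * x * g⁻¹ ∈ K := by
  intro x hx
  induction hx using Subgroup.closure_induction with
  | mem x hx => exact h x hx
  | one => simp
  | mul x y _ _ ihx ihy =>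
    have : g * (x * y) * g⁻¹ = (g * x * g⁻¹) * (g * y * g⁻¹) := by group
    rw [this]; exact K.mul_mem ihx ihy
  | inv x _ ih =>
    have : g * x⁻¹ * g⁻¹ = (g * x * g⁻¹)⁻¹ := by group
    rw [this]; exact K.inv_mem ih

theorem card_sup_le (H N : Subgroup G) [Finite H] [Finite N]
    (hnorm : ∀ h ∈ H, ∀ n ∈ N, h * n * h⁻¹ ∈ N) :
    Finite ↥(H ⊔ N) ∧ Nat.card ↥(H ⊔ N) ≤ Nat.card N * Nat.card H := by
  have key : ∀ g ∈ H ⊔ N, ∃ x : N × H, (x.1 : G) * (x.2 : G) = g := by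
    intro g hg
    rw [Subgroup.sup_eq_closure] at hg
    induction hg using Subgroup.closure_induction_right with
    | one => exact ⟨(1, 1), by simp⟩
    | mul_right x hx y hy ih =>
      obtain ⟨⟨n, h⟩, rfl⟩ := ih
      rcases hy with hy | hy
      · exact ⟨(n, h * ⟨y, hy⟩), by simp [mul_assoc]⟩
      · refine ⟨(n * ⟨h * y * h⁻¹, hnorm h h.2 y hy⟩, h), ?_⟩
        simp [mul_assoc]
    | mul_inv_cancel x hx y hy ih =>
      obtain ⟨⟨n, h⟩, rfl⟩ := ih
      rcases hy with hy | hy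
      · exact ⟨(n, h * ⟨y⁻¹, H.inv_mem hy⟩), by simp [mul_assoc]⟩
      · refine ⟨(n * ⟨h * y⁻¹ * h⁻¹, hnorm h h.2 y⁻¹ (N.inv_mem hy)⟩, h), ?_⟩
        simp [mul_assoc]
  have := card_of_forall_exists (H ⊔ N) (fun x : N × H => (x.1 : G) * (x.2 : G)) key
  rw [Nat.card_prod] at this
  exact this

theorem mem_normalizer_of_both (V : Subgroup G) (g : G) (h1 : ∀ v ∈ V, g * v * g⁻¹ ∈ V)
    (h2 : ∀ v ∈ V, g⁻¹ * v * g⁻¹⁻¹ ∈ V) : g ∈ Subgroup.normalizer (V : Set G) := by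
  rw [Subgroup.mem_normalizer_iff]
  intro v
  constructor
  · exact h1 v
  · intro hv
    have := h2 _ hv
    have e : g⁻¹ * (g * v * g⁻¹) * g⁻¹⁻¹ = v := by group
    rwa [e] at this

theorem commute_iff_conj (x y : G) : Commute x y ↔ y * x * y⁻¹ = x :=
  ⟨fun h => by rw [← h.eq, mul_inv_cancel_right], fun h => (mul_inv_eq_iff_eq_mul.mp h).symm⟩

theorem mul6 {x x' y y' z z' : G} (h1 : Commute x' y) (h2 : Commute x' z) (h3 : Commute y' z) :
    x * x' * (y * y') * (z * z') = x * y * z * (x' * y' * z') := by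
  rw [h1.mul_mul_mul_comm, (h2.mul_left h3).mul_mul_mul_comm]

theorem conj_conj' (g k x : G) :
    g * (k * x * k⁻¹) * g⁻¹ = k * ((k⁻¹ * g * k) * x * (k⁻¹ * g * k)⁻¹) * k⁻¹ := by group

variable {F : Type*} [Field F]

theorem conj_add (f : F → G) (hf : ∀ a b, f (a + b) = f a * f b) (g : G) (a b : F) :
    g * f (a + b) * g⁻¹ = (g * f a * g⁻¹) * (g * f b * g⁻¹) := by
  rw [hf]; group

/-- the even powers of `ζ` span the field additively -/
def Spans (ζ : F) : Prop := ∀ K : AddSubgroup F, (∀ i : ℤ, ζ ^ (2 * i) ∈ K) → K = ⊤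

theorem eq_of_span {ζ : F} (hspan : Spans ζ) (f g : F → G)
    (hf : ∀ a b, f (a + b) = f a * f b) (hg : ∀ a b, g (a + b) = g a * g b)
    (h : ∀ i : ℤ, f (ζ ^ (2 * i)) = g (ζ ^ (2 * i))) (s : F) : f s = g s := by
  let K : AddSubgroup F :=
    { carrier := {s | f s = g s}
      zero_mem' := by
        show f 0 = g 0
        rw [psi_zero f hf, psi_zero g hg]
      add_mem' := by
        intro a b ha hb
        have ha' : f a = g a := ha
        have hb' : f b = g b := hb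
        show f (a + b) = g (a + b)
        rw [hf, hg, ha', hb']
      neg_mem' := by
        intro a ha
        have ha' : f a = g a := ha
        show f (-a) = g (-a)
        rw [psi_neg f hf, psi_neg g hg, ha'] }
  have hK : K = ⊤ := hspan K h
  have : s ∈ K := by rw [hK]; trivial
  exact this

theorem commute_of_span {ζ : F} (hspan : Spans ζ) (f g : F → G)
    (hf : ∀ a b, f (a + b) = f a * f b) (hg : ∀ a b, g (a + b) = g a * g b)
    (h : ∀ i j : ℤ, Commute (f (ζ ^ (2 * i))) (g (ζ ^ (2 * j)))) (s t : F) :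
    Commute (f s) (g t) := by
  have h1 : ∀ (j : ℤ) (s : F), Commute (f s) (g (ζ ^ (2 * j))) := by
    intro j s
    rw [commute_iff_conj]
    exact eq_of_span hspan (fun s => g (ζ ^ (2 * j)) * f s * (g (ζ ^ (2 * j)))⁻¹) f
      (conj_add f hf _) hf (fun i => (commute_iff_conj _ _).mp (h i j)) s
  have := eq_of_span hspan (fun t => f s * g t * (f s)⁻¹) g (conj_add g hg _) hg
    (fun j => (commute_iff_conj _ _).mp (h1 j s).symm) t
  exact ((commute_iff_conj _ _).mpr this).symm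

/-- `g` acts on the root map `ψ` through the character value `ζ ^ n` -/
def Scales (ζ : F) (g : G) (ψ : F → G) (n : ℤ) : Prop := ∀ s, g * ψ s * g⁻¹ = ψ (ζ ^ n * s)

theorem Scales.one (ζ : F) (ψ : F → G) : Scales ζ (1 : G) ψ 0 := by
  intro s; simp

theorem Scales.congr {ζ : F} {g : G} {ψ : F → G} {n n' : ℤ} (h : Scales ζ g ψ n) (e : n = n') :
    Scales ζ g ψ n' := e ▸ h

theorem Scales.mul {ζ : F} (hζ : ζ ≠ 0) {g g' : G} {ψ : F → G} {n n' : ℤ}
    (h : Scales ζ g ψ n) (h' : Scales ζ g' ψ n') : Scales ζ (g * g') ψ (n + n') := by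
  intro s
  have : g * g' * ψ s * (g * g')⁻¹ = g * (g' * ψ s * g'⁻¹) * g⁻¹ := by group
  rw [this, h', h, ← mul_assoc, ← zpow_add₀ hζ]

theorem Scales.inv {ζ : F} (hζ : ζ ≠ 0) {g : G} {ψ : F → G} {n : ℤ}
    (h : Scales ζ g ψ n) : Scales ζ g⁻¹ ψ (-n) := by
  intro s
  have := h (ζ ^ (-n) * s)
  rw [← mul_assoc, ← zpow_add₀ hζ, add_neg_cancel, zpow_zero, one_mul] at this
  rw [← this]; group

theorem Scales.zpow {ζ : F} (hζ : ζ ≠ 0) {g : G} {ψ : F → G} {n : ℤ}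
    (h : Scales ζ g ψ n) (k : ℤ) : Scales ζ (g ^ k) ψ (k * n) := by
  induction k using Int.induction_on with
  | zero => rw [zpow_zero, zero_mul]; exact Scales.one ζ ψ
  | succ k ih => rw [zpow_add_one, add_mul, one_mul]; exact ih.mul hζ h
  | pred k ih =>
    rw [zpow_sub_one, sub_mul, one_mul, sub_eq_add_neg]; exact ih.mul hζ (h.inv hζ)

theorem spread_conj {ζ : F} (hζ : ζ ≠ 0) (hspan : Spans ζ) (ψ ψ' : F → G)
    (hψ : ∀ a b, ψ (a + b) = ψ a * ψ b) (hψ' : ∀ a b, ψ' (a + b) = ψ' a * ψ' b)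
    (g h h' : G) (hh : Scales ζ h ψ 2) (hh' : Scales ζ h' ψ' 2)
    (hg : g * h * g⁻¹ = h') (d : F) (h1 : g * ψ 1 * g⁻¹ = ψ' d) (s : F) :
    g * ψ s * g⁻¹ = ψ' (d * s) := by
  refine eq_of_span hspan (fun s => g * ψ s * g⁻¹) (fun s => ψ' (d * s))
    (conj_add ψ hψ g) (fun a b => ?_) (fun i => ?_) s
  · show ψ' (d * (a + b)) = ψ' (d * a) * ψ' (d * b)
    rw [mul_add, hψ']
  · show g * ψ (ζ ^ (2 * i)) * g⁻¹ = ψ' (d * ζ ^ (2 * i))
    have e1 : ψ (ζ ^ (2 * i)) = h ^ i * ψ 1 * (h ^ i)⁻¹ := by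
      rw [(hh.zpow hζ i) 1, mul_one, mul_comm i 2]
    have e2 : g * (h ^ i * ψ 1 * (h ^ i)⁻¹) * g⁻¹ =
        (g * h * g⁻¹) ^ i * (g * ψ 1 * g⁻¹) * ((g * h * g⁻¹) ^ i)⁻¹ := by
      rw [conj_zpow]; group
    rw [e1, e2, hg, h1, (hh'.zpow hζ i) d, mul_comm i 2, mul_comm d]

end Cfsg.Agent.Lib.Helper9.SP4P
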