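import Mathlib
import Cfsg.Agent.Lib.Helper9.SP4P1
import Cfsg.Agent.Lib.Helper9.SLP9

set_option autoImplicit false

/-!
# Presentations of `Sp₄(q)`: abstract rank one data
-/

namespace Cfsg.Agent.Lib.Helper9.SP4P

open Cfsg.Agent.Lib.Helper9.SLP Polynomial

/-- the data of an `SL₂`-type subgroup: an additive root map, a Weyl element and a torus element -/
structure RankOne (F : Type*) [Field F] [Fintype F] (G : Type*) [Group G] (ζ : F) where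
  ψ : F → G
  t : G
  h : G
  hζ : ζ ≠ 0
  add : ∀ a b, ψ (a + b) = ψ a * ψ b
  conj : ∀ a, h * ψ a * h⁻¹ = ψ (ζ ^ 2 * a)
  th : t * h * t⁻¹ = h⁻¹
  weyl : ∀ a : F, a ≠ 0 → ∃ m : ℤ, t * ψ a * t⁻¹ = ψ (-a⁻¹) * h ^ m * t * ψ (-a⁻¹)
  j0 : ℕ
  hj0 : ζ ^ j0 = -1
  tt : t * t = h ^ j0
  hq : h ^ (Fintype.card F - 1) = 1
  mem : ∀ a, ψ a ∈ Subgroup.closure ({ψ 1, t, h} : Set G)

namespace RankOne

variable {F : Type*} [Field F] [Fintype F] {G : Type*} [Group G] {ζ : F} (R : RankOne F G ζ)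

theorem psi_zero : R.ψ 0 = 1 := SLP.psi_zero R.ψ R.add

theorem psi_neg (a : F) : R.ψ (-a) = (R.ψ a)⁻¹ := SLP.psi_neg R.ψ R.add a

theorem scales : Scales ζ R.h R.ψ 2 := by
  intro s
  rw [R.conj, zpow_two, pow_two]

theorem zeta_two_j0 : ζ ^ ((R.j0 : ℤ) * 2) = 1 := by
  rw [zpow_mul, zpow_natCast, R.hj0, zpow_two]; ring

theorem tt_scales {ψ' : F → G} {n : ℤ} (h : Scales ζ R.h ψ' (2 * n)) (s : F) :
    (R.t * R.t) * ψ' s * (R.t * R.t)⁻¹ = ψ' s := by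
  rw [R.tt, ← zpow_natCast]
  have := (h.zpow R.hζ (R.j0 : ℤ)) s
  rw [this]
  have e : ζ ^ ((R.j0 : ℤ) * (2 * n)) = 1 := by
    rw [← mul_assoc, zpow_mul, R.zeta_two_j0, one_zpow]
  rw [e, one_mul]

theorem tinv_conj_of_scales {ψ' : F → G} {n : ℤ} (h : Scales ζ R.h ψ' (2 * n)) (s : F) :
    R.t⁻¹ * ψ' s * R.t = R.t * ψ' s * R.t⁻¹ := by
  have h1 := R.tt_scales h s
  calc R.t⁻¹ * ψ' s * R.t = R.t⁻¹ * ((R.t * R.t) * ψ' s * (R.t * R.t)⁻¹) * R.t := by rw [h1]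
    _ = R.t * ψ' s * R.t⁻¹ := by group

theorem tinv_h : R.t⁻¹ * R.h * R.t = R.h⁻¹ := by
  have h := R.th
  have : R.h = R.t⁻¹ * R.h⁻¹ * R.t := by rw [← h]; group
  calc R.t⁻¹ * R.h * R.t = (R.t⁻¹ * R.h⁻¹ * R.t)⁻¹ := by group
    _ = R.h⁻¹ := by rw [← this]

theorem t_inv_eq : R.t⁻¹ = R.t * (R.h ^ R.j0)⁻¹ := by rw [← R.tt]; group

theorem closure_subset (g : G) (hg : g ∈ Subgroup.closure ({R.ψ 1, R.t, R.h} : Set G)) :
    g ∈ bnS1 R.ψ R.h ∪ bnS2 R.ψ R.t R.h :=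
  bn_closure R.ψ R.t R.h ζ R.hζ R.add R.conj R.th
    ⟨(R.j0 : ℤ), by rw [zpow_natCast]; exact R.tt⟩ R.weyl g hg

theorem orderOf_h_le : orderOf R.h ≤ Fintype.card F - 1 := by
  have hq : 2 ≤ Fintype.card F := Fintype.one_lt_card
  exact Nat.le_of_dvd (by omega) (orderOf_dvd_of_pow_eq_one R.hq)

theorem isOfFinOrder_h : IsOfFinOrder R.h := by
  have hq : 2 ≤ Fintype.card F := Fintype.one_lt_card
  exact isOfFinOrder_iff_pow_eq_one.mpr ⟨_, by omega, R.hq⟩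

theorem card_closure : Finite (Subgroup.closure ({R.ψ 1, R.t, R.h} : Set G)) ∧
    Nat.card (Subgroup.closure ({R.ψ 1, R.t, R.h} : Set G)) ≤
      Fintype.card F * (Fintype.card F - 1) * (Fintype.card F + 1) := by
  haveI : Finite (Subgroup.zpowers R.h) := R.isOfFinOrder_h.finite_zpowers.to_subtype
  let f : (F × Subgroup.zpowers R.h) ⊕ (F × Subgroup.zpowers R.h × F) → G := fun x =>
    match x with
    | Sum.inl (a, T) => R.ψ a * (T : G)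
    | Sum.inr (a, T, b) => R.ψ a * (T : G) * R.t * R.ψ b
  have key : ∀ g ∈ Subgroup.closure ({R.ψ 1, R.t, R.h} : Set G), ∃ x, f x = g := by
    intro g hg
    rcases R.closure_subset g hg with ⟨a, m, rfl⟩ | ⟨a, m, b, rfl⟩
    · exact ⟨Sum.inl (a, ⟨R.h ^ m, Subgroup.zpow_mem_zpowers R.h m⟩), rfl⟩
    · exact ⟨Sum.inr (a, ⟨R.h ^ m, Subgroup.zpow_mem_zpowers R.h m⟩, b), rfl⟩
  obtain ⟨hfin, hcard⟩ := card_of_forall_exists _ f key
  refine ⟨hfin, hcard.trans ?_⟩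
  rw [Nat.card_sum, Nat.card_prod, Nat.card_prod, Nat.card_prod, Nat.card_zpowers,
    Nat.card_eq_fintype_card]
  have := R.orderOf_h_le
  calc Fintype.card F * orderOf R.h + Fintype.card F * (orderOf R.h * Fintype.card F)
      = Fintype.card F * orderOf R.h * (Fintype.card F + 1) := by ring
    _ ≤ _ := Nat.mul_le_mul_right _ (Nat.mul_le_mul_left _ this)

end RankOne

variable {F : Type*} [Field F] [Fintype F] {G : Type*} [Group G]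

theorem exists_rankOne (p : ℕ) [Fact p.Prime]
    (ev : (ZMod p)[X] →+* F) (hsurj : Function.Surjective ev) (m : (ZMod p)[X])
    (hker : ∀ f, ev f = 0 → m ∣ f) (ζ : F) (hζ : ζ ≠ 0)
    (hζgen : ∀ a : F, a ≠ 0 → ∃ j : ℕ, ζ ^ j = a) (hlam : ev X = ζ ^ 2)
    (fz fz' : (ZMod p)[X]) (hfz : ev fz = ζ) (hfz' : ev fz' = -ζ⁻¹)
    (u t h : G) (hR : RelsHold p m fz fz' u t h) :
    ∃ R : RankOne F G ζ, R.t = t ∧ R.h = h ∧ R.ψ 1 = u ∧ ∀ f, R.ψ (ev f) = PW u h f := by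
  obtain ⟨H1, H2, H3, H4, H5, H6⟩ := hR
  obtain ⟨ψ, hadd, hψ, hconj'⟩ := exists_psi u h H1 H2 ev hsurj m hker H3
  have hconj : ∀ a, h * ψ a * h⁻¹ = ψ (ζ ^ 2 * a) := by
    intro a; rw [hconj', hlam]
  have hψ1 : ψ 1 = u := by
    have := hψ 1
    rwa [map_one, PW_one] at this
  have hψm1 : ψ (-1) = u⁻¹ := by rw [SLP.psi_neg ψ hadd, hψ1]
  have hψz : ψ ζ = PW u h fz := by rw [← hfz, hψ]
  have hψz' : ψ (-ζ⁻¹) = PW u h fz' := by rw [← hfz', hψ]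
  have hW1 : t * ψ 1 * t⁻¹ = ψ (-1) * t * ψ (-1) := by rw [hψ1, hψm1, H5]
  have hWz : t * ψ ζ * t⁻¹ = ψ (-ζ⁻¹) * h⁻¹ * t * ψ (-ζ⁻¹) := by rw [hψz, hψz', H6]
  have hall := weyl_all ψ t h ζ hζ hconj H4 hW1 hWz
  have hζq : ζ ^ ((Fintype.card F - 1 : ℕ) : ℤ) = 1 := by
    rw [zpow_natCast]; exact FiniteField.pow_card_sub_one_eq_one ζ hζ
  have hhq : h ^ (Fintype.card F - 1) = 1 := by
    have := h_zpow_eq_one ψ t h ζ hζ hconj H4 hW1 hWz _ hζq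
    rwa [zpow_natCast] at this
  obtain ⟨j0, hj0⟩ := hζgen (-1) (by simp)
  have ht2 : t * t = h ^ (j0 : ℤ) :=
    t_sq_eq ψ t h ζ hζ hconj H4 hW1 hWz hadd j0 (by rw [zpow_natCast]; exact hj0)
  have hW : ∀ a : F, a ≠ 0 → ∃ m : ℤ, t * ψ a * t⁻¹ = ψ (-a⁻¹) * h ^ m * t * ψ (-a⁻¹) := by
    intro a ha
    obtain ⟨j, rfl⟩ := hζgen a ha
    refine ⟨-(j : ℤ), ?_⟩
    have := hall j
    rwa [zpow_natCast] at this
  have hmem : ∀ a, ψ a ∈ Subgroup.closure ({ψ 1, t, h} : Set G) := by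
    intro a
    obtain ⟨f, rfl⟩ := hsurj a
    rw [hψ, hψ1]
    exact PW_mem _ (Subgroup.subset_closure (by simp)) (Subgroup.subset_closure (by simp)) f
  let R : RankOne F G ζ :=
    { ψ := ψ
      t := t
      h := h
      hζ := hζ
      add := hadd
      conj := hconj
      th := H4
      weyl := hW
      j0 := j0
      hj0 := hj0
      tt := by rw [ht2, zpow_natCast]
      hq := hhq
      mem := hmem }
  exact ⟨R, rfl, rfl, hψ1, hψ⟩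

end Cfsg.Agent.Lib.Helper9.SP4P
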