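import Mathlib
import Cfsg.Agent.Lib.Helper9.SP4P2

set_option autoImplicit false

/-!
# Presentations of `SL₃(q)`: generic helper lemmas
-/

namespace Cfsg.Agent.Lib.Helper9.SL3P

open Cfsg.Agent.Lib.Helper9.SLP Cfsg.Agent.Lib.Helper9.SP4P

variable {G : Type*} [Group G]

/-- if `j` inverts `u` and `z` and centralizes `v`, then `[u, v] = z` forces `u` and `z` to
commute -/
theorem commute_of_invert_left {u v z j : G} (h : u * v * u⁻¹ * v⁻¹ = z)
    (hu : j * u * j⁻¹ = u⁻¹) (hv : j * v * j⁻¹ = v) (hz : j * z * j⁻¹ = z⁻¹) : Commute u z := by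
  have h1 : u⁻¹ * v * u * v⁻¹ = z⁻¹ := by
    have e : j * (u * v * u⁻¹ * v⁻¹) * j⁻¹ =
        (j * u * j⁻¹) * (j * v * j⁻¹) * (j * u * j⁻¹)⁻¹ * (j * v * j⁻¹)⁻¹ := by group
    rw [h, hu, hv, hz, inv_inv] at e
    exact e.symm
  have h2 : z = v * u⁻¹ * v⁻¹ * u := by
    have e : z = (z⁻¹)⁻¹ := (inv_inv z).symm
    rw [e, ← h1]; group
  show u * z = z * u
  calc u * z = u * (v * u⁻¹ * v⁻¹ * u) := by rw [← h2]
    _ = (u * v * u⁻¹ * v⁻¹) * u := by group
    _ = z * u := by rw [h]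

/-- if `j` inverts `v` and `z` and centralizes `u`, then `[u, v] = z` forces `v` and `z` to
commute -/
theorem commute_of_invert_right {u v z j : G} (h : u * v * u⁻¹ * v⁻¹ = z)
    (hu : j * u * j⁻¹ = u) (hv : j * v * j⁻¹ = v⁻¹) (hz : j * z * j⁻¹ = z⁻¹) : Commute v z := by
  have h1 : u * v * u⁻¹ = z * v := by rw [← h]; group
  have h2 : u * v⁻¹ * u⁻¹ * v = z⁻¹ := by
    have e : j * (u * v * u⁻¹ * v⁻¹) * j⁻¹ =
        (j * u * j⁻¹) * (j * v * j⁻¹) * (j * u * j⁻¹)⁻¹ * (j * v * j⁻¹)⁻¹ := by group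
    rw [h, hu, hv, hz, inv_inv] at e
    exact e.symm
  have h3 : u * v * u⁻¹ = v * z := by
    have e1 : u * v * u⁻¹ = (u * v⁻¹ * u⁻¹)⁻¹ := by group
    have e2 : u * v⁻¹ * u⁻¹ = z⁻¹ * v⁻¹ := by rw [← h2]; group
    rw [e1, e2]; group
  show v * z = z * v
  rw [← h3, h1]

variable {F : Type*} [Field F]

/-- a set of field elements spanning the field additively -/
def SpanSet (S : Set F) : Prop := ∀ K : AddSubgroup F, (∀ b ∈ S, b ∈ K) → K = ⊤

theorem eq_of_spanSet {S : Set F} (hS : SpanSet S) (f g : F → G)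
    (hf : ∀ a b, f (a + b) = f a * f b) (hg : ∀ a b, g (a + b) = g a * g b)
    (h : ∀ b ∈ S, f b = g b) (s : F) : f s = g s := by
  let K : AddSubgroup F :=
    { carrier := {s | f s = g s}
      zero_mem' := by
        show f 0 = g 0
        rw [psi_zero f hf, psi_zero g hg]
      add_mem' := by
        intro a b ha hb
        have ha' : f a = g a := ha
        have hb' : f b = g b := hb
        show f (a + b) = g (a + b)
        rw [hf, hg, ha', hb']
      neg_mem' := by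
        intro a ha
        have ha' : f a = g a := ha
        show f (-a) = g (-a)
        rw [psi_neg f hf, psi_neg g hg, ha'] }
  have hK : K = ⊤ := hS K h
  have : s ∈ K := by rw [hK]; trivial
  exact this

theorem commute_of_spanSet {S : Set F} (hS : SpanSet S) (x : G) (g : F → G)
    (hg : ∀ a b, g (a + b) = g a * g b) (h : ∀ b ∈ S, Commute x (g b)) (s : F) :
    Commute x (g s) := by
  have := eq_of_spanSet hS (fun t => x * g t * x⁻¹) g (conj_add g hg _) hg
    (fun b hb => (commute_iff_conj _ _).mp (h b hb).symm) s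
  exact ((commute_iff_conj _ _).mpr this).symm

end Cfsg.Agent.Lib.Helper9.SL3P

namespace Cfsg.Agent.Lib.Helper9.SP4P.RankOne

open Cfsg.Agent.Lib.Helper9.SLP Cfsg.Agent.Lib.Helper9.SP4P

variable {F : Type*} [Field F] [Fintype F] {G : Type*} [Group G] {ζ : F}

/-- the conjugate of a rank one datum -/
def conjBy (R : RankOne F G ζ) (g : G) : RankOne F G ζ where
  ψ := fun a => g * R.ψ a * g⁻¹
  t := g * R.t * g⁻¹
  h := g * R.h * g⁻¹
  hζ := R.hζ
  add := by
    intro a b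
    rw [R.add]; group
  conj := by
    intro a
    rw [← R.conj]; group
  th := by
    have := R.th
    calc g * R.t * g⁻¹ * (g * R.h * g⁻¹) * (g * R.t * g⁻¹)⁻¹
        = g * (R.t * R.h * R.t⁻¹) * g⁻¹ := by group
      _ = (g * R.h * g⁻¹)⁻¹ := by rw [this]; group
  weyl := by
    intro a ha
    obtain ⟨m, hm⟩ := R.weyl a ha
    refine ⟨m, ?_⟩
    calc g * R.t * g⁻¹ * (g * R.ψ a * g⁻¹) * (g * R.t * g⁻¹)⁻¹
        = g * (R.t * R.ψ a * R.t⁻¹) * g⁻¹ := by group
      _ = g * (R.ψ (-a⁻¹) * R.h ^ m * R.t * R.ψ (-a⁻¹)) * g⁻¹ := by rw [hm]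
      _ = g * R.ψ (-a⁻¹) * g⁻¹ * (g * R.h * g⁻¹) ^ m * (g * R.t * g⁻¹) *
            (g * R.ψ (-a⁻¹) * g⁻¹) := by rw [conj_zpow]; group
  j0 := R.j0
  hj0 := R.hj0
  tt := by
    rw [conj_pow, ← R.tt]; group
  hq := by
    rw [conj_pow, R.hq]; group
  mem := by
    intro a
    have h1 := R.mem a
    refine conj_mem_of_gens ({R.ψ 1, R.t, R.h} : Set G)
      (Subgroup.closure ({g * R.ψ 1 * g⁻¹, g * R.t * g⁻¹, g * R.h * g⁻¹} : Set G)) g ?_ _ h1
    rintro s (rfl | rfl | rfl)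
    · exact Subgroup.subset_closure (by simp)
    · exact Subgroup.subset_closure (by simp)
    · exact Subgroup.subset_closure (by simp)

theorem conjBy_ψ (R : RankOne F G ζ) (g : G) (a : F) : (R.conjBy g).ψ a = g * R.ψ a * g⁻¹ := rfl

theorem conjBy_t (R : RankOne F G ζ) (g : G) : (R.conjBy g).t = g * R.t * g⁻¹ := rfl

theorem conjBy_h (R : RankOne F G ζ) (g : G) : (R.conjBy g).h = g * R.h * g⁻¹ := rfl

theorem conjBy_j0 (R : RankOne F G ζ) (g : G) : (R.conjBy g).j0 = R.j0 := rfl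

theorem cU_eq (R : RankOne F G ζ) (i : ℕ) : cU (R.ψ 1) R.h i = R.ψ (ζ ^ (2 * (i : ℤ))) := by
  have := (R.scales.zpow R.hζ (i : ℤ)) 1
  rw [mul_one, zpow_natCast, mul_comm (i : ℤ) 2] at this
  rw [cU, this]

end Cfsg.Agent.Lib.Helper9.SP4P.RankOne
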