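import Mathlib
import Cfsg.Agent.Lib.Helper9.SL3P1

set_option autoImplicit false

/-!
# Presentations of `SL₃(q)`: two rank one data with the torus and Weyl relations of type `A₂`
-/

namespace Cfsg.Agent.Lib.Helper9.SL3P

open Cfsg.Agent.Lib.Helper9.SLP Cfsg.Agent.Lib.Helper9.SP4P

/-- two rank one data (`A` for the root `α`, `B` for the root `β`) with the torus and Weyl
relations of `SL₃` -/
structure A2Tor (F : Type*) [Field F] [Fintype F] (G : Type*) [Group G] (ζ : F) where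
  A : RankOne F G ζ
  B : RankOne F G ζ
  T0 : Commute A.h B.h
  sAb : Scales ζ A.h B.ψ (-1)
  sBa : Scales ζ B.h A.ψ (-1)
  T3 : B.t * A.h * B.t⁻¹ = A.h * B.h
  T4 : A.t * B.h * A.t⁻¹ = B.h * A.h
  W : ∀ s, B.t * A.ψ s * B.t⁻¹ = A.t * B.ψ (-s) * A.t⁻¹
  Br : A.t * B.t * A.t = B.t * A.t * B.t

namespace A2Tor

variable {F : Type*} [Field F] [Fintype F] {G : Type*} [Group G] {ζ : F} (D : A2Tor F G ζ)

/-- the root map for `α + β` -/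
def y (s : F) : G := D.A.t * D.B.ψ s * D.A.t⁻¹

include D in
theorem hζ : ζ ≠ 0 := D.A.hζ

theorem y_add (a b : F) : D.y (a + b) = D.y a * D.y b := by
  unfold y; rw [D.B.add]; group

theorem y_zero : D.y 0 = 1 := SLP.psi_zero D.y D.y_add

theorem y_neg (a : F) : D.y (-a) = (D.y a)⁻¹ := SLP.psi_neg D.y D.y_add a

theorem sAa : Scales ζ D.A.h D.A.ψ 2 := D.A.scales

theorem sBb : Scales ζ D.B.h D.B.ψ 2 := D.B.scales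

theorem tAinv_hB : D.A.t⁻¹ * D.B.h * D.A.t = D.B.h * D.A.h := by
  have c1 : Commute (D.A.h ^ D.A.j0) (D.B.h * D.A.h) :=
    (D.T0.mul_right (Commute.refl D.A.h)).pow_left _
  calc D.A.t⁻¹ * D.B.h * D.A.t
      = (D.A.t * D.A.t)⁻¹ * (D.A.t * D.B.h * D.A.t⁻¹) * (D.A.t * D.A.t) := by group
    _ = (D.A.h ^ D.A.j0)⁻¹ * (D.B.h * D.A.h) * D.A.h ^ D.A.j0 := by rw [D.A.tt, D.T4]
    _ = D.B.h * D.A.h := by rw [c1.inv_left.eq, inv_mul_cancel_right]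

theorem tBinv_hA : D.B.t⁻¹ * D.A.h * D.B.t = D.A.h * D.B.h := by
  have c1 : Commute (D.B.h ^ D.B.j0) (D.A.h * D.B.h) :=
    (D.T0.symm.mul_right (Commute.refl D.B.h)).pow_left _
  calc D.B.t⁻¹ * D.A.h * D.B.t
      = (D.B.t * D.B.t)⁻¹ * (D.B.t * D.A.h * D.B.t⁻¹) * (D.B.t * D.B.t) := by group
    _ = (D.B.h ^ D.B.j0)⁻¹ * (D.A.h * D.B.h) * D.B.h ^ D.B.j0 := by rw [D.B.tt, D.T3]
    _ = D.A.h * D.B.h := by rw [c1.inv_left.eq, inv_mul_cancel_right]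

theorem sAy : Scales ζ D.A.h D.y 1 := by
  intro s
  unfold y
  rw [conj_conj', D.A.tinv_h]
  have := (D.sAb.inv D.hζ) s
  rw [this, neg_neg]

theorem sBy : Scales ζ D.B.h D.y 1 := by
  intro s
  unfold y
  rw [conj_conj', D.tAinv_hB]
  have h1 := (D.sBb.mul D.hζ D.sAb) s
  have e : (2 : ℤ) + -1 = 1 := by norm_num
  rw [h1, e]

theorem tor_a (i j : ℤ) : Scales ζ (D.A.h ^ i * D.B.h ^ j) D.A.ψ (i * 2 + j * -1) :=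
  (D.sAa.zpow D.hζ i).mul D.hζ (D.sBa.zpow D.hζ j)

theorem tor_b (i j : ℤ) : Scales ζ (D.A.h ^ i * D.B.h ^ j) D.B.ψ (i * -1 + j * 2) :=
  (D.sAb.zpow D.hζ i).mul D.hζ (D.sBb.zpow D.hζ j)

theorem tor_y (i j : ℤ) : Scales ζ (D.A.h ^ i * D.B.h ^ j) D.y (i * 1 + j * 1) :=
  (D.sAy.zpow D.hζ i).mul D.hζ (D.sBy.zpow D.hζ j)

include D in
theorem zeta_neg_j0 : ζ ^ ((D.A.j0 : ℤ) * -1) = -1 := by
  rw [mul_neg_one, zpow_neg, zpow_natCast, D.A.hj0]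
  simp

include D in
theorem zeta_neg_j0' : ζ ^ ((D.B.j0 : ℤ) * -1) = -1 := by
  rw [mul_neg_one, zpow_neg, zpow_natCast, D.B.hj0]
  simp

theorem tA_y (s : F) : D.A.t * D.y s * D.A.t⁻¹ = D.B.ψ (-s) := by
  unfold y
  have e : D.A.t * (D.A.t * D.B.ψ s * D.A.t⁻¹) * D.A.t⁻¹ =
      (D.A.t * D.A.t) * D.B.ψ s * (D.A.t * D.A.t)⁻¹ := by group
  rw [e, D.A.tt, ← zpow_natCast, (D.sAb.zpow D.hζ (D.A.j0 : ℤ)) s, D.zeta_neg_j0, neg_one_mul]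

theorem tAinv_y (s : F) : D.A.t⁻¹ * D.y s * D.A.t = D.B.ψ s := by
  unfold y; group

theorem tAinv_b (s : F) : D.A.t⁻¹ * D.B.ψ s * D.A.t = D.y (-s) := by
  have := D.tA_y (-s)
  rw [neg_neg] at this
  rw [← this]; group

theorem tB_a (s : F) : D.B.t * D.A.ψ s * D.B.t⁻¹ = D.y (-s) := D.W s

theorem y_eq (s : F) : D.y s = D.B.t * D.A.ψ (-s) * D.B.t⁻¹ := by
  have := D.W (-s)
  rw [neg_neg] at this
  exact this.symm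

theorem tBinv_y (s : F) : D.B.t⁻¹ * D.y s * D.B.t = D.A.ψ (-s) := by
  rw [D.y_eq]; group

theorem tB_y (s : F) : D.B.t * D.y s * D.B.t⁻¹ = D.A.ψ s := by
  rw [D.y_eq]
  have e : D.B.t * (D.B.t * D.A.ψ (-s) * D.B.t⁻¹) * D.B.t⁻¹ =
      (D.B.t * D.B.t) * D.A.ψ (-s) * (D.B.t * D.B.t)⁻¹ := by group
  rw [e, D.B.tt, ← zpow_natCast, (D.sBa.zpow D.hζ (D.B.j0 : ℤ)) (-s), D.zeta_neg_j0', neg_one_mul,
    neg_neg]

theorem tBinv_a (s : F) : D.B.t⁻¹ * D.A.ψ s * D.B.t = D.y s := by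
  rw [← D.tB_y s]; group

/-- the torus -/
def Tor : Subgroup G := Subgroup.closure {D.A.h, D.B.h}

theorem hA_mem_Tor : D.A.h ∈ D.Tor := Subgroup.subset_closure (by simp)

theorem hB_mem_Tor : D.B.h ∈ D.Tor := Subgroup.subset_closure (by simp)

theorem tA_Tor : ∀ g ∈ D.Tor, D.A.t * g * D.A.t⁻¹ ∈ D.Tor := by
  show ∀ g ∈ Subgroup.closure {D.A.h, D.B.h}, D.A.t * g * D.A.t⁻¹ ∈ D.Tor
  apply conj_mem_of_gens
  rintro x (rfl | rfl)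
  · rw [D.A.th]; exact D.Tor.inv_mem D.hA_mem_Tor
  · rw [D.T4]
    exact D.Tor.mul_mem D.hB_mem_Tor D.hA_mem_Tor

theorem tB_Tor : ∀ g ∈ D.Tor, D.B.t * g * D.B.t⁻¹ ∈ D.Tor := by
  show ∀ g ∈ Subgroup.closure {D.A.h, D.B.h}, D.B.t * g * D.B.t⁻¹ ∈ D.Tor
  apply conj_mem_of_gens
  rintro x (rfl | rfl)
  · rw [D.T3]; exact D.Tor.mul_mem D.hA_mem_Tor D.hB_mem_Tor
  · rw [D.B.th]; exact D.Tor.inv_mem D.hB_mem_Tor

theorem Tor_scales : ∀ g ∈ D.Tor, (∃ n, Scales ζ g D.A.ψ n) ∧ (∃ n, Scales ζ g D.B.ψ n) ∧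
    (∃ n, Scales ζ g D.y n) := by
  intro g hg
  have hg' : g ∈ Subgroup.closure {D.A.h, D.B.h} := hg
  induction hg' using Subgroup.closure_induction with
  | mem x hx =>
    rcases hx with rfl | rfl
    · exact ⟨⟨_, D.sAa⟩, ⟨_, D.sAb⟩, ⟨_, D.sAy⟩⟩
    · exact ⟨⟨_, D.sBa⟩, ⟨_, D.sBb⟩, ⟨_, D.sBy⟩⟩
  | one =>
    exact ⟨⟨0, Scales.one ζ _⟩, ⟨0, Scales.one ζ _⟩, ⟨0, Scales.one ζ _⟩⟩
  | mul x y _ _ ihx ihy =>
    obtain ⟨⟨n1, h1⟩, ⟨n2, h2⟩, ⟨n3, h3⟩⟩ := ihx (Subgroup.mem_closure.mpr (fun K hK => by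
      exact (Subgroup.closure_le K).mpr hK ‹_›))
    obtain ⟨⟨m1, k1⟩, ⟨m2, k2⟩, ⟨m3, k3⟩⟩ := ihy (Subgroup.mem_closure.mpr (fun K hK => by
      exact (Subgroup.closure_le K).mpr hK ‹_›))
    exact ⟨⟨_, h1.mul D.hζ k1⟩, ⟨_, h2.mul D.hζ k2⟩, ⟨_, h3.mul D.hζ k3⟩⟩
  | inv x _ ih =>
    obtain ⟨⟨n1, h1⟩, ⟨n2, h2⟩, ⟨n3, h3⟩⟩ := ih (Subgroup.mem_closure.mpr (fun K hK => by
      exact (Subgroup.closure_le K).mpr hK ‹_›))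
    exact ⟨⟨_, h1.inv D.hζ⟩, ⟨_, h2.inv D.hζ⟩, ⟨_, h3.inv D.hζ⟩⟩

end A2Tor

end Cfsg.Agent.Lib.Helper9.SL3P
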