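import Mathlib
import Cfsg.Agent.Lib.Helper9.SL3P2

set_option autoImplicit false

/-!
# Presentations of `SL₃(q)`: the abstract `A₂` data, the parabolic subgroup and its cells
-/

namespace Cfsg.Agent.Lib.Helper9.SL3P

open Cfsg.Agent.Lib.Helper9.SLP Cfsg.Agent.Lib.Helper9.SP4P

/-- the torus and Weyl relations together with the commutator relations -/
structure A2Data (F : Type*) [Field F] [Fintype F] (G : Type*) [Group G] (ζ : F) extends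
    A2Tor F G ζ where
  K1 : ∀ a b, Commute (A.ψ a) (toA2Tor.y b)
  K4 : ∀ a b, Commute (B.ψ a) (toA2Tor.y b)
  K5 : ∀ s a, B.ψ s * A.ψ a * (B.ψ s)⁻¹ = A.ψ a * toA2Tor.y (-(s * a))

namespace A2Data

variable {F : Type*} [Field F] [Fintype F] {G : Type*} [Group G] {ζ : F} (D : A2Data F G ζ)

/-- the elements of the unipotent radical of the parabolic subgroup -/
def Φ (a b : F) : G := D.A.ψ a * D.y b

theorem Φ_congr {a b a' b' : F} (h1 : a = a') (h2 : b = b') : D.Φ a b = D.Φ a' b' := by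
  subst h1 h2; rfl

theorem Φ_mul (a b a' b' : F) : D.Φ a b * D.Φ a' b' = D.Φ (a + a') (b + b') := by
  unfold Φ
  rw [D.A.add, D.y_add]
  exact ((D.K1 a' b).symm.mul_mul_mul_comm _ _)

theorem Φ_zero : D.Φ 0 0 = 1 := by
  unfold Φ; rw [D.A.psi_zero, D.y_zero]; simp

theorem Φ_inv (a b : F) : (D.Φ a b)⁻¹ = D.Φ (-a) (-b) := by
  apply inv_eq_of_mul_eq_one_right
  rw [D.Φ_mul, add_neg_cancel, add_neg_cancel, D.Φ_zero]

theorem Φ_a (a : F) : D.Φ a 0 = D.A.ψ a := by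
  unfold Φ; rw [D.y_zero, mul_one]

theorem Φ_y (b : F) : D.Φ 0 b = D.y b := by
  unfold Φ; rw [D.A.psi_zero, one_mul]

/-- the unipotent radical -/
def V : Subgroup G where
  carrier := {g | ∃ a b, g = D.Φ a b}
  mul_mem' := by
    rintro _ _ ⟨a, b, rfl⟩ ⟨a', b', rfl⟩
    exact ⟨_, _, D.Φ_mul _ _ _ _⟩
  one_mem' := ⟨0, 0, D.Φ_zero.symm⟩
  inv_mem' := by
    rintro _ ⟨a, b, rfl⟩
    exact ⟨_, _, D.Φ_inv a b⟩

theorem Φ_mem_V (a b : F) : D.Φ a b ∈ D.V := ⟨a, b, rfl⟩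

theorem a_mem_V (a : F) : D.A.ψ a ∈ D.V := ⟨a, 0, (D.Φ_a a).symm⟩

theorem y_mem_V (b : F) : D.y b ∈ D.V := ⟨0, b, (D.Φ_y b).symm⟩

theorem card_V : Finite D.V ∧ Nat.card D.V ≤ Fintype.card F ^ 2 := by
  have := card_of_forall_exists D.V (fun x : F × F => D.Φ x.1 x.2)
    (by rintro g ⟨a, b, rfl⟩; exact ⟨(a, b), rfl⟩)
  rw [Nat.card_prod, Nat.card_eq_fintype_card (α := F)] at this
  exact ⟨this.1, this.2.trans (le_of_eq (by ring))⟩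

theorem V_conj (g : G) (ha : ∀ s, g * D.A.ψ s * g⁻¹ ∈ D.V) (hy : ∀ s, g * D.y s * g⁻¹ ∈ D.V) :
    ∀ v ∈ D.V, g * v * g⁻¹ ∈ D.V := by
  rintro _ ⟨a, b, rfl⟩
  have : g * D.Φ a b * g⁻¹ = (g * D.A.ψ a * g⁻¹) * (g * D.y b * g⁻¹) := by
    unfold Φ; group
  rw [this]
  exact D.V.mul_mem (ha a) (hy b)

theorem V_conj_scales (g : G) {n1 n2 : ℤ} (h1 : Scales ζ g D.A.ψ n1)
    (h2 : Scales ζ g D.y n2) : ∀ v ∈ D.V, g * v * g⁻¹ ∈ D.V :=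
  D.V_conj g (fun s => by rw [h1 s]; exact D.a_mem_V _) (fun s => by rw [h2 s]; exact D.y_mem_V _)

theorem V_conj_b (s : F) : ∀ v ∈ D.V, D.B.ψ s * v * (D.B.ψ s)⁻¹ ∈ D.V :=
  D.V_conj _ (fun t => by rw [D.K5]; exact D.Φ_mem_V _ _)
    (fun t => by rw [(commute_iff_conj _ _).mp (D.K4 s t).symm]; exact D.y_mem_V _)

theorem V_conj_binv (s : F) : ∀ v ∈ D.V, (D.B.ψ s)⁻¹ * v * D.B.ψ s ∈ D.V := by
  intro v hv
  have := D.V_conj_b (-s) v hv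
  rwa [D.B.psi_neg, inv_inv] at this

theorem V_conj_tB : ∀ v ∈ D.V, D.B.t * v * D.B.t⁻¹ ∈ D.V :=
  D.V_conj _ (fun s => by rw [D.tB_a]; exact D.y_mem_V _)
    (fun s => by rw [D.tB_y]; exact D.a_mem_V _)

theorem V_conj_tBinv : ∀ v ∈ D.V, D.B.t⁻¹ * v * D.B.t ∈ D.V := by
  have := D.V_conj D.B.t⁻¹ (fun s => by rw [inv_inv, D.tBinv_a]; exact D.y_mem_V _)
    (fun s => by rw [inv_inv, D.tBinv_y]; exact D.a_mem_V _)
  intro v hv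
  have h := this v hv
  rwa [inv_inv] at h

theorem b_mem_norm (s : F) : D.B.ψ s ∈ Subgroup.normalizer (D.V : Set G) :=
  mem_normalizer_of_both _ _ (D.V_conj_b s) (fun v hv => by
    have := D.V_conj_binv s v hv
    rwa [inv_inv])

theorem tB_mem_norm : D.B.t ∈ Subgroup.normalizer (D.V : Set G) :=
  mem_normalizer_of_both _ _ D.V_conj_tB (fun v hv => by
    have := D.V_conj_tBinv v hv
    rwa [inv_inv])

theorem hA_mem_norm : D.A.h ∈ Subgroup.normalizer (D.V : Set G) :=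
  mem_normalizer_of_both _ _ (D.V_conj_scales _ D.sAa D.sAy)
    (D.V_conj_scales _ (D.sAa.inv D.hζ) (D.sAy.inv D.hζ))

theorem hB_mem_norm : D.B.h ∈ Subgroup.normalizer (D.V : Set G) :=
  mem_normalizer_of_both _ _ (D.V_conj_scales _ D.sBa D.sBy)
    (D.V_conj_scales _ (D.sBa.inv D.hζ) (D.sBy.inv D.hζ))

/-- the `SL₂` of the root `β` -/
def L : Subgroup G := Subgroup.closure {D.B.ψ 1, D.B.t, D.B.h}

/-- the Levi factor -/
def M : Subgroup G := Subgroup.zpowers D.A.h ⊔ D.L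

/-- the parabolic subgroup -/
def P : Subgroup G := D.M ⊔ D.V

theorem L_le_norm : D.L ≤ Subgroup.normalizer (D.V : Set G) := by
  unfold L
  rw [Subgroup.closure_le]
  rintro x (rfl | rfl | rfl)
  · exact D.b_mem_norm 1
  · exact D.tB_mem_norm
  · exact D.hB_mem_norm

theorem M_le_norm : D.M ≤ Subgroup.normalizer (D.V : Set G) := by
  unfold M
  exact sup_le ((Subgroup.zpowers_le).mpr D.hA_mem_norm) D.L_le_norm

theorem tB_mem_L : D.B.t ∈ D.L := Subgroup.subset_closure (by simp)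

theorem hB_mem_L : D.B.h ∈ D.L := Subgroup.subset_closure (by simp)

theorem b_mem_L (s : F) : D.B.ψ s ∈ D.L := D.B.mem s

theorem hA_conj_L : ∀ x ∈ D.L, D.A.h * x * D.A.h⁻¹ ∈ D.L := by
  show ∀ x ∈ Subgroup.closure {D.B.ψ 1, D.B.t, D.B.h}, D.A.h * x * D.A.h⁻¹ ∈ D.L
  apply conj_mem_of_gens
  rintro x (rfl | rfl | rfl)
  · rw [D.sAb 1]; exact D.b_mem_L _
  · have e : D.A.h * D.B.t * D.A.h⁻¹ = D.B.t * D.B.h := by
      calc D.A.h * D.B.t * D.A.h⁻¹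
          = D.B.t * (D.B.t⁻¹ * D.A.h * D.B.t) * D.A.h⁻¹ := by group
        _ = D.B.t * (D.A.h * D.B.h) * D.A.h⁻¹ := by rw [D.tBinv_hA]
        _ = D.B.t * (D.B.h * D.A.h) * D.A.h⁻¹ := by rw [D.T0.eq]
        _ = D.B.t * D.B.h := by group
    rw [e]
    exact D.L.mul_mem D.tB_mem_L D.hB_mem_L
  · rw [D.T0.eq, mul_inv_cancel_right]; exact D.hB_mem_L

theorem hAinv_conj_L : ∀ x ∈ D.L, D.A.h⁻¹ * x * D.A.h⁻¹⁻¹ ∈ D.L := by
  show ∀ x ∈ Subgroup.closure {D.B.ψ 1, D.B.t, D.B.h}, D.A.h⁻¹ * x * D.A.h⁻¹⁻¹ ∈ D.L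
  apply conj_mem_of_gens
  rintro x (rfl | rfl | rfl)
  · rw [(D.sAb.inv D.hζ) 1]; exact D.b_mem_L _
  · have e : D.A.h⁻¹ * D.B.t * D.A.h⁻¹⁻¹ = D.B.h * D.B.t := by
      calc D.A.h⁻¹ * D.B.t * D.A.h⁻¹⁻¹
          = D.A.h⁻¹ * (D.B.t * D.A.h * D.B.t⁻¹) * D.B.t := by group
        _ = D.A.h⁻¹ * (D.A.h * D.B.h) * D.B.t := by rw [D.T3]
        _ = D.B.h * D.B.t := by group
    rw [e]
    exact D.L.mul_mem D.hB_mem_L D.tB_mem_L
  · rw [inv_inv, D.T0.inv_left.eq, inv_mul_cancel_right]; exact D.hB_mem_L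

theorem hA_mem_norm_L : D.A.h ∈ Subgroup.normalizer (D.L : Set G) :=
  mem_normalizer_of_both _ _ D.hA_conj_L D.hAinv_conj_L

theorem card_M : Finite D.M ∧ Nat.card D.M ≤
    (Fintype.card F * (Fintype.card F - 1) * (Fintype.card F + 1)) * (Fintype.card F - 1) := by
  obtain ⟨hLfin, hLcard⟩ : Finite D.L ∧ Nat.card D.L ≤
      Fintype.card F * (Fintype.card F - 1) * (Fintype.card F + 1) := D.B.card_closure
  haveI := hLfin
  haveI : Finite (Subgroup.zpowers D.A.h) := D.A.isOfFinOrder_h.finite_zpowers.to_subtype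
  have hnorm : ∀ h ∈ Subgroup.zpowers D.A.h, ∀ n ∈ D.L, h * n * h⁻¹ ∈ D.L := by
    intro h hh n hn
    have : h ∈ Subgroup.normalizer (D.L : Set G) :=
      (Subgroup.zpowers_le.mpr D.hA_mem_norm_L) hh
    exact (Subgroup.mem_normalizer_iff.mp this n).mp hn
  obtain ⟨hfin, hcard⟩ := card_sup_le (Subgroup.zpowers D.A.h) D.L hnorm
  refine ⟨hfin, hcard.trans ?_⟩
  rw [Nat.card_zpowers]
  exact Nat.mul_le_mul hLcard D.A.orderOf_h_le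

theorem card_P : Finite D.P ∧ Nat.card D.P ≤ Fintype.card F ^ 2 *
    ((Fintype.card F * (Fintype.card F - 1) * (Fintype.card F + 1)) * (Fintype.card F - 1)) := by
  obtain ⟨hVfin, hVcard⟩ := D.card_V
  obtain ⟨hMfin, hMcard⟩ := D.card_M
  haveI := hVfin
  haveI := hMfin
  have hnorm : ∀ h ∈ D.M, ∀ n ∈ D.V, h * n * h⁻¹ ∈ D.V := by
    intro h hh n hn
    exact (Subgroup.mem_normalizer_iff.mp (D.M_le_norm hh) n).mp hn
  obtain ⟨hfin, hcard⟩ := card_sup_le D.M D.V hnorm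
  exact ⟨hfin, hcard.trans (Nat.mul_le_mul hVcard hMcard)⟩

theorem V_le_P : D.V ≤ D.P := le_sup_right

theorem M_le_P : D.M ≤ D.P := le_sup_left

theorem L_le_P : D.L ≤ D.P := le_trans le_sup_right D.M_le_P

theorem a_mem_P (s : F) : D.A.ψ s ∈ D.P := D.V_le_P (D.a_mem_V s)

theorem y_mem_P (s : F) : D.y s ∈ D.P := D.V_le_P (D.y_mem_V s)

theorem b_mem_P (s : F) : D.B.ψ s ∈ D.P := D.L_le_P (D.b_mem_L s)

theorem tB_mem_P : D.B.t ∈ D.P := D.L_le_P D.tB_mem_L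

theorem hB_mem_P : D.B.h ∈ D.P := D.L_le_P D.hB_mem_L

theorem hA_mem_P : D.A.h ∈ D.P :=
  D.M_le_P ((le_sup_left : Subgroup.zpowers D.A.h ≤ Subgroup.zpowers D.A.h ⊔ D.L)
    (Subgroup.mem_zpowers D.A.h))

theorem Tor_le_P : D.Tor ≤ D.P := by
  unfold A2Tor.Tor
  rw [Subgroup.closure_le]
  rintro x (rfl | rfl)
  · exact D.hA_mem_P
  · exact D.hB_mem_P

/-! ### the cells -/

/-- the cell of `s₁` -/
def C1 : Set G := {g | ∃ p ∈ D.P, ∃ a, g = p * D.A.t * D.A.ψ a}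

/-- the cell of `s₁ s₂` -/
def C2 : Set G := {g | ∃ p ∈ D.P, ∃ b c, g = p * D.A.t * D.B.t * D.B.ψ b * D.y c}

theorem P_mul_tA {p : G} (hp : p ∈ D.P) : p * D.A.t ∈ D.C1 :=
  ⟨p, hp, 0, by rw [D.A.psi_zero, mul_one]⟩

theorem C1_mul_a {g : G} (hg : g ∈ D.C1) (s : F) : g * D.A.ψ s ∈ D.C1 := by
  obtain ⟨p, hp, a, rfl⟩ := hg
  exact ⟨p, hp, a + s, by rw [D.A.add, ← mul_assoc]⟩

theorem C1_mul_b {g : G} (hg : g ∈ D.C1) (s : F) : g * D.B.ψ s ∈ D.C1 := by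
  obtain ⟨p, hp, a, rfl⟩ := hg
  have h5 := D.K5 (-s) a
  rw [D.B.psi_neg, inv_inv] at h5
  obtain ⟨b, hb⟩ : ∃ b, b = -(-s * a) := ⟨_, rfl⟩
  rw [← hb] at h5
  have h6 : D.A.ψ a * D.B.ψ s = D.B.ψ s * (D.y b * D.A.ψ a) := by
    rw [← (D.K1 a b).eq, ← h5]; group
  refine ⟨p * D.y s * D.B.ψ (-b), ?_, a, ?_⟩
  · exact D.P.mul_mem (D.P.mul_mem hp (D.y_mem_P s)) (D.b_mem_P _)
  · calc p * D.A.t * D.A.ψ a * D.B.ψ s = p * D.A.t * (D.A.ψ a * D.B.ψ s) := by group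
      _ = p * D.A.t * (D.B.ψ s * (D.y b * D.A.ψ a)) := by rw [h6]
      _ = p * (D.A.t * D.B.ψ s * D.A.t⁻¹) * (D.A.t * D.y b * D.A.t⁻¹) * D.A.t * D.A.ψ a := by
          group
      _ = p * D.y s * D.B.ψ (-b) * D.A.t * D.A.ψ a := by
          rw [D.tA_y]; rfl

theorem C1_mul_Tor {g : G} (hg : g ∈ D.C1) {h : G} (hh : h ∈ D.Tor) : g * h ∈ D.C1 := by
  obtain ⟨p, hp, a, rfl⟩ := hg
  obtain ⟨⟨n, hn⟩, -, -⟩ := D.Tor_scales h⁻¹ (D.Tor.inv_mem hh)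
  refine ⟨p * (D.A.t * h * D.A.t⁻¹), D.P.mul_mem hp (D.Tor_le_P (D.tA_Tor h hh)), ζ ^ n * a, ?_⟩
  calc p * D.A.t * D.A.ψ a * h
      = p * (D.A.t * h * D.A.t⁻¹) * D.A.t * (h⁻¹ * D.A.ψ a * h⁻¹⁻¹) := by group
    _ = p * (D.A.t * h * D.A.t⁻¹) * D.A.t * D.A.ψ (ζ ^ n * a) := by rw [hn a]

theorem C1_mul_tB {g : G} (hg : g ∈ D.C1) : g * D.B.t ∈ D.C2 := by
  obtain ⟨p, hp, a, rfl⟩ := hg
  refine ⟨p, hp, 0, a, ?_⟩
  calc p * D.A.t * D.A.ψ a * D.B.t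
      = p * D.A.t * D.B.t * (D.B.t⁻¹ * D.A.ψ a * D.B.t) := by group
    _ = p * D.A.t * D.B.t * D.B.ψ 0 * D.y a := by rw [D.tBinv_a, D.B.psi_zero, mul_one]

theorem C2_mul_a {g : G} (hg : g ∈ D.C2) (s : F) : g * D.A.ψ s ∈ D.C2 := by
  obtain ⟨p, hp, b, c, rfl⟩ := hg
  have h5 := D.K5 b s
  obtain ⟨u, hu⟩ : ∃ u, u = -(b * s) := ⟨_, rfl⟩
  rw [← hu] at h5
  have h6 : D.B.ψ b * D.y c * D.A.ψ s = D.A.ψ s * D.B.ψ b * D.y (u + c) := by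
    calc D.B.ψ b * D.y c * D.A.ψ s = D.B.ψ b * (D.y c * D.A.ψ s) := by group
      _ = D.B.ψ b * (D.A.ψ s * D.y c) := by rw [(D.K1 s c).eq]
      _ = (D.B.ψ b * D.A.ψ s * (D.B.ψ b)⁻¹) * D.B.ψ b * D.y c := by group
      _ = D.A.ψ s * D.y u * D.B.ψ b * D.y c := by rw [h5]
      _ = D.A.ψ s * (D.y u * D.B.ψ b) * D.y c := by group
      _ = D.A.ψ s * (D.B.ψ b * D.y u) * D.y c := by rw [(D.K4 b u).eq]
      _ = D.A.ψ s * D.B.ψ b * D.y (u + c) := by rw [D.y_add]; group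
  refine ⟨p * D.B.ψ s, D.P.mul_mem hp (D.b_mem_P s), b, u + c, ?_⟩
  calc p * D.A.t * D.B.t * D.B.ψ b * D.y c * D.A.ψ s
      = p * D.A.t * D.B.t * (D.B.ψ b * D.y c * D.A.ψ s) := by group
    _ = p * D.A.t * D.B.t * (D.A.ψ s * D.B.ψ b * D.y (u + c)) := by rw [h6]
    _ = p * (D.A.t * (D.B.t * D.A.ψ s * D.B.t⁻¹) * D.A.t⁻¹) * D.A.t * D.B.t * D.B.ψ b *
          D.y (u + c) := by group
    _ = p * D.B.ψ s * D.A.t * D.B.t * D.B.ψ b * D.y (u + c) := by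
        rw [D.tB_a, D.tA_y, neg_neg]

theorem C2_mul_b {g : G} (hg : g ∈ D.C2) (s : F) : g * D.B.ψ s ∈ D.C2 := by
  obtain ⟨p, hp, b, c, rfl⟩ := hg
  refine ⟨p, hp, b + s, c, ?_⟩
  calc p * D.A.t * D.B.t * D.B.ψ b * D.y c * D.B.ψ s
      = p * D.A.t * D.B.t * D.B.ψ b * (D.y c * D.B.ψ s) := by group
    _ = p * D.A.t * D.B.t * D.B.ψ b * (D.B.ψ s * D.y c) := by rw [(D.K4 s c).eq]
    _ = p * D.A.t * D.B.t * D.B.ψ (b + s) * D.y c := by rw [D.B.add]; group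

theorem C2_mul_y {g : G} (hg : g ∈ D.C2) (s : F) : g * D.y s ∈ D.C2 := by
  obtain ⟨p, hp, b, c, rfl⟩ := hg
  exact ⟨p, hp, b, c + s, by rw [D.y_add, ← mul_assoc]⟩

theorem C2_mul_Tor {g : G} (hg : g ∈ D.C2) {h : G} (hh : h ∈ D.Tor) : g * h ∈ D.C2 := by
  obtain ⟨p, hp, b, c, rfl⟩ := hg
  obtain ⟨-, ⟨n, hn⟩, ⟨m, hm⟩⟩ := D.Tor_scales h⁻¹ (D.Tor.inv_mem hh)
  refine ⟨p * (D.A.t * (D.B.t * h * D.B.t⁻¹) * D.A.t⁻¹),
    D.P.mul_mem hp (D.Tor_le_P (D.tA_Tor _ (D.tB_Tor h hh))), ζ ^ n * b, ζ ^ m * c, ?_⟩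
  calc p * D.A.t * D.B.t * D.B.ψ b * D.y c * h
      = p * (D.A.t * (D.B.t * h * D.B.t⁻¹) * D.A.t⁻¹) * D.A.t * D.B.t *
          (h⁻¹ * D.B.ψ b * h⁻¹⁻¹) * (h⁻¹ * D.y c * h⁻¹⁻¹) := by group
    _ = p * (D.A.t * (D.B.t * h * D.B.t⁻¹) * D.A.t⁻¹) * D.A.t * D.B.t *
          D.B.ψ (ζ ^ n * b) * D.y (ζ ^ m * c) := by rw [hn b, hm c]

theorem C2_mul_tA {g : G} (hg : g ∈ D.C2) : g * D.A.t ∈ D.C2 := by
  obtain ⟨p, hp, b, c, rfl⟩ := hg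
  refine ⟨p * D.B.t, D.P.mul_mem hp D.tB_mem_P, c, -b, ?_⟩
  calc p * D.A.t * D.B.t * D.B.ψ b * D.y c * D.A.t
      = p * (D.A.t * D.B.t * D.A.t) *
          ((D.A.t⁻¹ * D.B.ψ b * D.A.t) * (D.A.t⁻¹ * D.y c * D.A.t)) := by group
    _ = p * (D.B.t * D.A.t * D.B.t) * (D.y (-b) * D.B.ψ c) := by
        rw [D.Br, D.tAinv_b, D.tAinv_y]
    _ = p * (D.B.t * D.A.t * D.B.t) * (D.B.ψ c * D.y (-b)) := by rw [(D.K4 c (-b)).eq]
    _ = p * D.B.t * D.A.t * D.B.t * D.B.ψ c * D.y (-b) := by group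

theorem C1_mul_tA {g : G} (hg : g ∈ D.C1) : g * D.A.t ∈ D.P ∨ g * D.A.t ∈ D.C1 := by
  obtain ⟨p, hp, a, rfl⟩ := hg
  by_cases ha : a = 0
  · left
    subst ha
    rw [D.A.psi_zero, mul_one, mul_assoc, D.A.tt]
    exact D.P.mul_mem hp (D.P.pow_mem D.hA_mem_P _)
  · right
    obtain ⟨m, hm⟩ := D.A.weyl a ha
    have e : p * D.A.t * D.A.ψ a * D.A.t =
        p * D.A.ψ (-a⁻¹) * D.A.h ^ m * D.A.t * D.A.ψ (-a⁻¹) * D.A.h ^ D.A.j0 := by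
      calc p * D.A.t * D.A.ψ a * D.A.t
          = p * (D.A.t * D.A.ψ a * D.A.t⁻¹) * (D.A.t * D.A.t) := by group
        _ = p * (D.A.ψ (-a⁻¹) * D.A.h ^ m * D.A.t * D.A.ψ (-a⁻¹)) * D.A.h ^ D.A.j0 := by
            rw [hm, D.A.tt]
        _ = p * D.A.ψ (-a⁻¹) * D.A.h ^ m * D.A.t * D.A.ψ (-a⁻¹) * D.A.h ^ D.A.j0 := by group
    rw [e]
    have hp' : p * D.A.ψ (-a⁻¹) * D.A.h ^ m ∈ D.P :=
      D.P.mul_mem (D.P.mul_mem hp (D.a_mem_P _)) (D.P.zpow_mem D.hA_mem_P m)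
    exact D.C1_mul_Tor (D.C1_mul_a (D.P_mul_tA hp') _) (D.Tor.pow_mem D.hA_mem_Tor _)

theorem C2_mul_tB {g : G} (hg : g ∈ D.C2) : g * D.B.t ∈ D.C1 ∨ g * D.B.t ∈ D.C2 := by
  obtain ⟨p, hp, b, c, rfl⟩ := hg
  have hc1 : p * D.A.t * D.A.ψ c ∈ D.C1 := ⟨p, hp, c, rfl⟩
  by_cases hb : b = 0
  · left
    subst hb
    have e : p * D.A.t * D.B.t * D.B.ψ 0 * D.y c * D.B.t =
        p * D.A.t * D.A.ψ c * D.B.h ^ D.B.j0 := by
      rw [D.B.psi_zero, mul_one]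
      calc p * D.A.t * D.B.t * D.y c * D.B.t
          = p * D.A.t * (D.B.t * D.y c * D.B.t⁻¹) * (D.B.t * D.B.t) := by group
        _ = p * D.A.t * D.A.ψ c * D.B.h ^ D.B.j0 := by rw [D.tB_y, D.B.tt]
    rw [e]
    exact D.C1_mul_Tor hc1 (D.Tor.pow_mem D.hB_mem_Tor _)
  · right
    obtain ⟨m, hm⟩ := D.B.weyl b hb
    have e : p * D.A.t * D.B.t * D.B.ψ b * D.y c * D.B.t =
        p * D.A.t * D.A.ψ c * D.B.ψ (-b⁻¹) * D.B.h ^ m * D.B.t * D.B.ψ (-b⁻¹) *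
          D.B.h ^ D.B.j0 := by
      calc p * D.A.t * D.B.t * D.B.ψ b * D.y c * D.B.t
          = p * D.A.t * D.B.t * (D.B.ψ b * D.y c) * D.B.t := by group
        _ = p * D.A.t * D.B.t * (D.y c * D.B.ψ b) * D.B.t := by rw [(D.K4 b c).eq]
        _ = p * D.A.t * (D.B.t * D.y c * D.B.t⁻¹) * (D.B.t * D.B.ψ b * D.B.t⁻¹) *
              (D.B.t * D.B.t) := by group
        _ = p * D.A.t * D.A.ψ c * (D.B.ψ (-b⁻¹) * D.B.h ^ m * D.B.t * D.B.ψ (-b⁻¹)) *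
              D.B.h ^ D.B.j0 := by rw [D.tB_y, hm, D.B.tt]
        _ = p * D.A.t * D.A.ψ c * D.B.ψ (-b⁻¹) * D.B.h ^ m * D.B.t * D.B.ψ (-b⁻¹) *
              D.B.h ^ D.B.j0 := by group
    rw [e]
    exact D.C2_mul_Tor (D.C2_mul_b (D.C1_mul_tB (D.C1_mul_Tor (D.C1_mul_b hc1 _)
      (D.Tor.zpow_mem D.hB_mem_Tor m))) _) (D.Tor.pow_mem D.hB_mem_Tor _)

/-- the union of the cells -/
def U : Set G := {g | g ∈ D.P ∨ g ∈ D.C1 ∨ g ∈ D.C2}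

theorem U_mul_a {g : G} (hg : g ∈ D.U) (s : F) : g * D.A.ψ s ∈ D.U := by
  rcases hg with h | h | h
  · exact Or.inl (D.P.mul_mem h (D.a_mem_P s))
  · exact Or.inr (Or.inl (D.C1_mul_a h s))
  · exact Or.inr (Or.inr (D.C2_mul_a h s))

theorem U_mul_b {g : G} (hg : g ∈ D.U) (s : F) : g * D.B.ψ s ∈ D.U := by
  rcases hg with h | h | h
  · exact Or.inl (D.P.mul_mem h (D.b_mem_P s))
  · exact Or.inr (Or.inl (D.C1_mul_b h s))
  · exact Or.inr (Or.inr (D.C2_mul_b h s))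

theorem U_mul_Tor {g : G} (hg : g ∈ D.U) {h : G} (hh : h ∈ D.Tor) : g * h ∈ D.U := by
  rcases hg with h' | h' | h'
  · exact Or.inl (D.P.mul_mem h' (D.Tor_le_P hh))
  · exact Or.inr (Or.inl (D.C1_mul_Tor h' hh))
  · exact Or.inr (Or.inr (D.C2_mul_Tor h' hh))

theorem U_mul_tA {g : G} (hg : g ∈ D.U) : g * D.A.t ∈ D.U := by
  rcases hg with h | h | h
  · exact Or.inr (Or.inl (D.P_mul_tA h))
  · rcases D.C1_mul_tA h with h' | h'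
    · exact Or.inl h'
    · exact Or.inr (Or.inl h')
  · exact Or.inr (Or.inr (D.C2_mul_tA h))

theorem U_mul_tB {g : G} (hg : g ∈ D.U) : g * D.B.t ∈ D.U := by
  rcases hg with h | h | h
  · exact Or.inl (D.P.mul_mem h D.tB_mem_P)
  · exact Or.inr (Or.inr (D.C1_mul_tB h))
  · rcases D.C2_mul_tB h with h' | h'
    · exact Or.inr (Or.inl h')
    · exact Or.inr (Or.inr h')

theorem mem_U_of_gen
    (hgen : Subgroup.closure ({D.A.ψ 1, D.A.t, D.A.h, D.B.ψ 1, D.B.t, D.B.h} : Set G) = ⊤)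
    (g : G) : g ∈ D.U := by
  have hg : g ∈ Subgroup.closure ({D.A.ψ 1, D.A.t, D.A.h, D.B.ψ 1, D.B.t, D.B.h} : Set G) := by
    rw [hgen]; trivial
  induction hg using Subgroup.closure_induction_right with
  | one => exact Or.inl D.P.one_mem
  | mul_right x hx y hy ih =>
    rcases hy with rfl | rfl | rfl | rfl | rfl | rfl
    · exact D.U_mul_a ih 1
    · exact D.U_mul_tA ih
    · exact D.U_mul_Tor ih D.hA_mem_Tor
    · exact D.U_mul_b ih 1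
    · exact D.U_mul_tB ih
    · exact D.U_mul_Tor ih D.hB_mem_Tor
  | mul_inv_cancel x hx y hy ih =>
    rcases hy with rfl | rfl | rfl | rfl | rfl | rfl
    · rw [← D.A.psi_neg]; exact D.U_mul_a ih (-1)
    · rw [D.A.t_inv_eq, ← mul_assoc]
      exact D.U_mul_Tor (D.U_mul_tA ih) (D.Tor.inv_mem (D.Tor.pow_mem D.hA_mem_Tor _))
    · exact D.U_mul_Tor ih (D.Tor.inv_mem D.hA_mem_Tor)
    · rw [← D.B.psi_neg]; exact D.U_mul_b ih (-1)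
    · rw [D.B.t_inv_eq, ← mul_assoc]
      exact D.U_mul_Tor (D.U_mul_tB ih) (D.Tor.inv_mem (D.Tor.pow_mem D.hB_mem_Tor _))
    · exact D.U_mul_Tor ih (D.Tor.inv_mem D.hB_mem_Tor)

theorem card_le
    (hgen : Subgroup.closure ({D.A.ψ 1, D.A.t, D.A.h, D.B.ψ 1, D.B.t, D.B.h} : Set G) = ⊤) :
    Finite G ∧ Nat.card G ≤ Nat.card D.P * (1 + (Fintype.card F +
      Fintype.card F * Fintype.card F)) := by
  haveI := D.card_P.1
  let f : D.P × (Unit ⊕ (F ⊕ (F × F))) → G := fun x =>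
    match x with
    | (p, Sum.inl _) => (p : G)
    | (p, Sum.inr (Sum.inl a)) => (p : G) * D.A.t * D.A.ψ a
    | (p, Sum.inr (Sum.inr (b, c))) => (p : G) * D.A.t * D.B.t * D.B.ψ b * D.y c
  have hf : Function.Surjective f := by
    intro g
    rcases D.mem_U_of_gen hgen g with h | ⟨p, hp, a, rfl⟩ | ⟨p, hp, b, c, rfl⟩
    · exact ⟨(⟨g, h⟩, Sum.inl ()), rfl⟩
    · exact ⟨(⟨p, hp⟩, Sum.inr (Sum.inl a)), rfl⟩
    · exact ⟨(⟨p, hp⟩, Sum.inr (Sum.inr (b, c))), rfl⟩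
  refine ⟨Finite.of_surjective f hf, (Nat.card_le_card_of_surjective f hf).trans (le_of_eq ?_)⟩
  rw [Nat.card_prod, Nat.card_sum, Nat.card_sum, Nat.card_prod,
    Nat.card_unique (α := Unit), Nat.card_eq_fintype_card (α := F)]

theorem card_bound
    (hgen : Subgroup.closure ({D.A.ψ 1, D.A.t, D.A.h, D.B.ψ 1, D.B.t, D.B.h} : Set G) = ⊤) :
    Finite G ∧ Nat.card G ≤
      Fintype.card F ^ 3 * ((Fintype.card F ^ 2 - 1) * (Fintype.card F ^ 3 - 1)) := by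
  obtain ⟨hfin, hcard⟩ := D.card_le hgen
  refine ⟨hfin, ?_⟩
  have hP := D.card_P.2
  have hq : 1 ≤ Fintype.card F := Fintype.card_pos
  obtain ⟨r, hr⟩ : ∃ r, Fintype.card F = r + 1 := ⟨Fintype.card F - 1, by omega⟩
  rw [hr] at hcard hP ⊢
  rw [Nat.add_sub_cancel] at hP
  have e1 : (r + 1) ^ 2 - 1 = r * (r + 2) := Nat.sub_eq_of_eq_add (by ring)
  have e2 : (r + 1) ^ 3 - 1 = r * (1 + (r + 1 + (r + 1) * (r + 1))) :=
    Nat.sub_eq_of_eq_add (by ring)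
  rw [e1, e2]
  calc Nat.card G ≤ Nat.card D.P * (1 + (r + 1 + (r + 1) * (r + 1))) := hcard
    _ ≤ ((r + 1) ^ 2 * ((r + 1) * r * (r + 1 + 1) * r)) * (1 + (r + 1 + (r + 1) * (r + 1))) :=
        Nat.mul_le_mul_right _ hP
    _ = _ := by ring

end A2Data

end Cfsg.Agent.Lib.Helper9.SL3P
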