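import Mathlib
import Cfsg.Agent.Lib.Helper9.SL3P3

set_option autoImplicit false

/-!
# Presentations of `SL₃(q)`: the commutator relations from a few instances
-/

namespace Cfsg.Agent.Lib.Helper9.SL3P

open Cfsg.Agent.Lib.Helper9.SLP Cfsg.Agent.Lib.Helper9.SP4P

namespace A2Tor

variable {F : Type*} [Field F] [Fintype F] {G : Type*} [Group G] {ζ : F} (D : A2Tor F G ζ)

/-- one instance of the commutator relation gives two commutations, thanks to the torus -/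
theorem inst_comm (β : F)
    (h : D.A.ψ 1 * D.B.ψ β * (D.A.ψ 1)⁻¹ * (D.B.ψ β)⁻¹ = D.y β) :
    Commute (D.A.ψ 1) (D.y β) ∧ Commute (D.B.ψ β) (D.y β) := by
  constructor
  · refine commute_of_invert_left h (j := D.B.h ^ D.B.j0) ?_ ?_ ?_
    · rw [← zpow_natCast, (D.sBa.zpow D.hζ (D.B.j0 : ℤ)) 1, D.zeta_neg_j0', neg_one_mul,
        D.A.psi_neg]
    · rw [← zpow_natCast, (D.sBb.zpow D.hζ (D.B.j0 : ℤ)) β, D.B.zeta_two_j0, one_mul]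
    · rw [← zpow_natCast, (D.sBy.zpow D.hζ (D.B.j0 : ℤ)) β, mul_one, zpow_natCast, D.B.hj0,
        neg_one_mul, D.y_neg]
  · refine commute_of_invert_right h (j := D.A.h ^ D.A.j0) ?_ ?_ ?_
    · rw [← zpow_natCast, (D.sAa.zpow D.hζ (D.A.j0 : ℤ)) 1, D.A.zeta_two_j0, one_mul]
    · rw [← zpow_natCast, (D.sAb.zpow D.hζ (D.A.j0 : ℤ)) β, D.zeta_neg_j0, neg_one_mul,
        D.B.psi_neg]
    · rw [← zpow_natCast, (D.sAy.zpow D.hζ (D.A.j0 : ℤ)) β, mul_one, zpow_natCast, D.A.hj0,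
        neg_one_mul, D.y_neg]

variable (hspan : Spans ζ) (I : Set ℕ)
  (hI1 : SpanSet {b : F | ∃ i ∈ I, ∃ k : ℤ, b = ζ ^ (3 * k + 2 * (i : ℤ))})
  (hI2 : SpanSet {b : F | ∃ i ∈ I, ∃ k : ℤ, b = ζ ^ (3 * k + 4 * (i : ℤ))})
  (S6 : ∀ i ∈ I, D.A.ψ 1 * D.B.ψ (ζ ^ (2 * (i : ℤ))) * (D.A.ψ 1)⁻¹ *
    (D.B.ψ (ζ ^ (2 * (i : ℤ))))⁻¹ = D.y (ζ ^ (2 * (i : ℤ))))

include hI1 S6 in
theorem K1_one (b : F) : Commute (D.A.ψ 1) (D.y b) := by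
  refine commute_of_spanSet hI1 (D.A.ψ 1) D.y D.y_add ?_ b
  rintro _ ⟨i, hi, k, rfl⟩
  have h0 := (D.inst_comm _ (S6 i hi)).1
  have := (Commute.conj_iff (D.A.h ^ k * D.B.h ^ (2 * k))).mpr h0
  rw [(D.tor_a k (2 * k)) 1, (D.tor_y k (2 * k)) _] at this
  have e1 : k * 2 + 2 * k * -1 = 0 := by ring
  have e2 : k * 1 + 2 * k * 1 = 3 * k := by ring
  rw [e1, e2, zpow_zero, one_mul, ← zpow_add₀ D.hζ] at this
  exact this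

include hspan hI1 S6 in
theorem K1_all (a b : F) : Commute (D.A.ψ a) (D.y b) := by
  rw [commute_iff_conj]
  refine eq_of_span hspan (fun a => D.y b * D.A.ψ a * (D.y b)⁻¹) D.A.ψ
    (conj_add D.A.ψ D.A.add _) D.A.add (fun i => ?_) a
  show D.y b * D.A.ψ (ζ ^ (2 * i)) * (D.y b)⁻¹ = D.A.ψ (ζ ^ (2 * i))
  rw [← commute_iff_conj]
  have h0 := D.K1_one I hI1 S6 (ζ ^ (-i) * b)
  have := (Commute.conj_iff (D.A.h ^ i)).mpr h0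
  rw [(D.sAa.zpow D.hζ i) 1, (D.sAy.zpow D.hζ i) _, mul_one, mul_one, ← mul_assoc,
    ← zpow_add₀ D.hζ, add_neg_cancel, zpow_zero, one_mul, mul_comm i 2] at this
  exact this

include hI2 S6 in
theorem K4_one (c : F) : Commute (D.B.ψ 1) (D.y c) := by
  refine commute_of_spanSet hI2 (D.B.ψ 1) D.y D.y_add ?_ c
  rintro _ ⟨i, hi, k, rfl⟩
  have h0 := (D.inst_comm _ (S6 i hi)).2
  have := (Commute.conj_iff (D.A.h ^ (2 * (i : ℤ) + 2 * k) * D.B.h ^ k)).mpr h0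
  rw [(D.tor_b (2 * (i : ℤ) + 2 * k) k) _, (D.tor_y (2 * (i : ℤ) + 2 * k) k) _,
    ← zpow_add₀ D.hζ, ← zpow_add₀ D.hζ] at this
  have e1 : (2 * (i : ℤ) + 2 * k) * -1 + k * 2 + 2 * (i : ℤ) = 0 := by ring
  have e2 : (2 * (i : ℤ) + 2 * k) * 1 + k * 1 + 2 * (i : ℤ) = 3 * k + 4 * (i : ℤ) := by ring
  rw [e1, e2, zpow_zero] at this
  exact this

include hspan hI2 S6 in
theorem K4_all (a c : F) : Commute (D.B.ψ a) (D.y c) := by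
  rw [commute_iff_conj]
  refine eq_of_span hspan (fun a => D.y c * D.B.ψ a * (D.y c)⁻¹) D.B.ψ
    (conj_add D.B.ψ D.B.add _) D.B.add (fun i => ?_) a
  show D.y c * D.B.ψ (ζ ^ (2 * i)) * (D.y c)⁻¹ = D.B.ψ (ζ ^ (2 * i))
  rw [← commute_iff_conj]
  have h0 := D.K4_one I hI2 S6 (ζ ^ (-i) * c)
  have := (Commute.conj_iff (D.B.h ^ i)).mpr h0
  rw [(D.sBb.zpow D.hζ i) 1, (D.sBy.zpow D.hζ i) _, mul_one, mul_one, ← mul_assoc,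
    ← zpow_add₀ D.hζ, add_neg_cancel, zpow_zero, one_mul, mul_comm i 2] at this
  exact this

include hspan hI1 hI2 S6 in
theorem U6_one (b : F) : D.A.ψ 1 * D.B.ψ b * (D.A.ψ 1)⁻¹ = D.y b * D.B.ψ b := by
  refine eq_of_spanSet hI1 (fun b => D.A.ψ 1 * D.B.ψ b * (D.A.ψ 1)⁻¹)
    (fun b => D.y b * D.B.ψ b) (conj_add D.B.ψ D.B.add _) (fun a b => ?_) ?_ b
  · show D.y (a + b) * D.B.ψ (a + b) = D.y a * D.B.ψ a * (D.y b * D.B.ψ b)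
    rw [D.y_add, D.B.add]
    exact ((D.K4_all hspan I hI2 S6 a b).symm.mul_mul_mul_comm _ _)
  · rintro _ ⟨i, hi, k, rfl⟩
    show D.A.ψ 1 * D.B.ψ (ζ ^ (3 * k + 2 * (i : ℤ))) * (D.A.ψ 1)⁻¹ =
      D.y (ζ ^ (3 * k + 2 * (i : ℤ))) * D.B.ψ (ζ ^ (3 * k + 2 * (i : ℤ)))
    have e0 : D.A.ψ 1 * D.B.ψ (ζ ^ (2 * (i : ℤ))) * (D.A.ψ 1)⁻¹ =
        D.y (ζ ^ (2 * (i : ℤ))) * D.B.ψ (ζ ^ (2 * (i : ℤ))) := by
      rw [← S6 i hi]; group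
    obtain ⟨g, hg⟩ : ∃ g, g = D.A.h ^ k * D.B.h ^ (2 * k) := ⟨_, rfl⟩
    have ha := D.tor_a k (2 * k) 1
    have hb := D.tor_b k (2 * k) (ζ ^ (2 * (i : ℤ)))
    have hy := D.tor_y k (2 * k) (ζ ^ (2 * (i : ℤ)))
    rw [← hg] at ha hb hy
    have e1 : k * 2 + 2 * k * -1 = 0 := by ring
    have e2 : k * -1 + 2 * k * 2 = 3 * k := by ring
    have e3 : k * 1 + 2 * k * 1 = 3 * k := by ring
    rw [e1, zpow_zero, one_mul] at ha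
    rw [e2, ← zpow_add₀ D.hζ] at hb
    rw [e3, ← zpow_add₀ D.hζ] at hy
    have key : g * (D.A.ψ 1 * D.B.ψ (ζ ^ (2 * (i : ℤ))) * (D.A.ψ 1)⁻¹) * g⁻¹ =
        g * (D.y (ζ ^ (2 * (i : ℤ))) * D.B.ψ (ζ ^ (2 * (i : ℤ)))) * g⁻¹ := by rw [e0]
    have l1 : g * (D.A.ψ 1 * D.B.ψ (ζ ^ (2 * (i : ℤ))) * (D.A.ψ 1)⁻¹) * g⁻¹ =
        (g * D.A.ψ 1 * g⁻¹) * (g * D.B.ψ (ζ ^ (2 * (i : ℤ))) * g⁻¹) * (g * D.A.ψ 1 * g⁻¹)⁻¹ := by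
      group
    have l2 : g * (D.y (ζ ^ (2 * (i : ℤ))) * D.B.ψ (ζ ^ (2 * (i : ℤ)))) * g⁻¹ =
        (g * D.y (ζ ^ (2 * (i : ℤ))) * g⁻¹) * (g * D.B.ψ (ζ ^ (2 * (i : ℤ))) * g⁻¹) := by group
    rw [l1, l2, ha, hb, hy] at key
    exact key

include hspan hI1 hI2 S6 in
theorem K5_one (s : F) : D.B.ψ s * D.A.ψ 1 * (D.B.ψ s)⁻¹ = D.A.ψ 1 * D.y (-s) := by
  have e1 := D.U6_one hspan I hI1 hI2 S6 s
  have e2 : D.A.ψ 1 * D.B.ψ s = D.y s * D.B.ψ s * D.A.ψ 1 := by rw [← e1]; group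
  have e3 : D.B.ψ s * D.A.ψ 1 * (D.B.ψ s)⁻¹ = (D.y s)⁻¹ * D.A.ψ 1 := by
    calc D.B.ψ s * D.A.ψ 1 * (D.B.ψ s)⁻¹
        = (D.y s)⁻¹ * (D.y s * D.B.ψ s * D.A.ψ 1) * (D.B.ψ s)⁻¹ := by group
      _ = (D.y s)⁻¹ * (D.A.ψ 1 * D.B.ψ s) * (D.B.ψ s)⁻¹ := by rw [e2]
      _ = (D.y s)⁻¹ * D.A.ψ 1 := by group
  rw [e3, D.y_neg]
  exact ((D.K1_all hspan I hI1 S6 1 s).inv_right.eq).symm

include hspan hI1 hI2 S6 in
theorem K5_all (s a : F) : D.B.ψ s * D.A.ψ a * (D.B.ψ s)⁻¹ = D.A.ψ a * D.y (-(s * a)) := by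
  refine eq_of_span hspan (fun a => D.B.ψ s * D.A.ψ a * (D.B.ψ s)⁻¹)
    (fun a => D.A.ψ a * D.y (-(s * a))) (conj_add D.A.ψ D.A.add _) (fun a b => ?_) (fun i => ?_) a
  · show D.A.ψ (a + b) * D.y (-(s * (a + b))) =
      D.A.ψ a * D.y (-(s * a)) * (D.A.ψ b * D.y (-(s * b)))
    have e : -(s * (a + b)) = -(s * a) + -(s * b) := by ring
    rw [e, D.A.add, D.y_add]
    exact ((D.K1_all hspan I hI1 S6 b (-(s * a))).mul_mul_mul_comm _ _)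
  · show D.B.ψ s * D.A.ψ (ζ ^ (2 * i)) * (D.B.ψ s)⁻¹ =
      D.A.ψ (ζ ^ (2 * i)) * D.y (-(s * ζ ^ (2 * i)))
    have e0 := D.K5_one hspan I hI1 hI2 S6 (ζ ^ i * s)
    obtain ⟨g, hg⟩ : ∃ g, g = D.A.h ^ i := ⟨_, rfl⟩
    have ha := (D.sAa.zpow D.hζ i) 1
    have hb := (D.sAb.zpow D.hζ i) (ζ ^ i * s)
    have hy := (D.sAy.zpow D.hζ i) (-(ζ ^ i * s))
    rw [← hg] at ha hb hy
    rw [mul_one, mul_comm i 2] at ha
    rw [← mul_assoc, ← zpow_add₀ D.hζ] at hb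
    have e1 : i * -1 + i = 0 := by ring
    rw [e1, zpow_zero, one_mul] at hb
    have e2 : ζ ^ (i * 1) * -(ζ ^ i * s) = -(s * ζ ^ (2 * i)) := by
      rw [mul_one, two_mul, zpow_add₀ D.hζ]; ring
    rw [e2] at hy
    have key : g * (D.B.ψ (ζ ^ i * s) * D.A.ψ 1 * (D.B.ψ (ζ ^ i * s))⁻¹) * g⁻¹ =
        g * (D.A.ψ 1 * D.y (-(ζ ^ i * s))) * g⁻¹ := by rw [e0]
    have l1 : g * (D.B.ψ (ζ ^ i * s) * D.A.ψ 1 * (D.B.ψ (ζ ^ i * s))⁻¹) * g⁻¹ =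
        (g * D.B.ψ (ζ ^ i * s) * g⁻¹) * (g * D.A.ψ 1 * g⁻¹) *
          (g * D.B.ψ (ζ ^ i * s) * g⁻¹)⁻¹ := by group
    have l2 : g * (D.A.ψ 1 * D.y (-(ζ ^ i * s))) * g⁻¹ =
        (g * D.A.ψ 1 * g⁻¹) * (g * D.y (-(ζ ^ i * s)) * g⁻¹) := by group
    rw [l1, l2, ha, hb, hy] at key
    exact key

/-- the full data from the torus and Weyl relations and the instances of the commutator
relation -/
def toData : A2Data F G ζ :=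
  { D with
    K1 := D.K1_all hspan I hI1 S6
    K4 := D.K4_all hspan I hI2 S6
    K5 := D.K5_all hspan I hI1 hI2 S6 }

end A2Tor

end Cfsg.Agent.Lib.Helper9.SL3P
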