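import Mathlib
import Cfsg.Agent.Lib.Helper9.SL3P4

set_option autoImplicit false

/-!
# Presentations of `SL₃(q)`: one rank one datum and an element of order three
-/

namespace Cfsg.Agent.Lib.Helper9.SL3P

open Cfsg.Agent.Lib.Helper9.SLP Cfsg.Agent.Lib.Helper9.SP4P

/-- a rank one datum together with an element `c` permuting the three root `SL₂`'s cyclically -/
structure A2Pre (F : Type*) [Field F] [Fintype F] (G : Type*) [Group G] (ζ : F) where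
  A : RankOne F G ζ
  c : G
  hspan : Spans ζ
  C3 : c * c * c = 1
  TC : A.t * c⁻¹ * A.t * c⁻¹ = 1
  HC : Commute A.h (c * A.h * c⁻¹)
  H3 : A.h * (c * A.h * c⁻¹) * (c⁻¹ * A.h * c) = 1
  SC : (c⁻¹ * A.h * c) * A.ψ 1 * (c⁻¹ * A.h * c)⁻¹ = A.ψ ζ⁻¹

namespace A2Pre

variable {F : Type*} [Field F] [Fintype F] {G : Type*} [Group G] {ζ : F} (D : A2Pre F G ζ)

theorem cinv : D.c⁻¹ = D.c * D.c := inv_eq_of_mul_eq_one_left D.C3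

theorem cc_inv : D.c⁻¹ * D.c⁻¹ = D.c := by
  rw [D.cinv]
  calc D.c * D.c * (D.c * D.c) = (D.c * D.c * D.c) * D.c := by group
    _ = D.c := by rw [D.C3, one_mul]

theorem e_tc : D.A.t * D.c⁻¹ = D.c * D.A.t⁻¹ := by
  have h : (D.A.t * D.c⁻¹) * (D.A.t * D.c⁻¹) = 1 := by rw [← mul_assoc]; exact D.TC
  have h1 : D.A.t * D.c⁻¹ = (D.A.t * D.c⁻¹)⁻¹ := eq_inv_of_mul_eq_one_left h
  calc D.A.t * D.c⁻¹ = (D.A.t * D.c⁻¹)⁻¹ := h1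
    _ = D.c * D.A.t⁻¹ := by group

theorem Bt_eq : D.c * D.A.t * D.c⁻¹ = D.c⁻¹ * D.A.t⁻¹ := by
  calc D.c * D.A.t * D.c⁻¹ = D.c * (D.A.t * D.c⁻¹) := by group
    _ = D.c * (D.c * D.A.t⁻¹) := by rw [D.e_tc]
    _ = (D.c * D.c) * D.A.t⁻¹ := by group
    _ = D.c⁻¹ * D.A.t⁻¹ := by rw [← D.cinv]

/-- the second torus element -/
def h2 : G := D.c * D.A.h * D.c⁻¹

/-- the third torus element -/
def h3 : G := D.c⁻¹ * D.A.h * D.c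

theorem comm13 : Commute D.A.h D.h3 := by
  have := D.HC.eq
  show D.A.h * D.h3 = D.h3 * D.A.h
  unfold h3
  symm
  calc D.c⁻¹ * D.A.h * D.c * D.A.h = D.c⁻¹ * (D.A.h * (D.c * D.A.h * D.c⁻¹)) * D.c := by group
    _ = D.c⁻¹ * (D.c * D.A.h * D.c⁻¹ * D.A.h) * D.c := by rw [this]
    _ = D.A.h * (D.c⁻¹ * D.A.h * D.c) := by group

theorem h3_conj : D.c * D.h2 * D.c⁻¹ = D.h3 := by
  unfold h2 h3
  calc D.c * (D.c * D.A.h * D.c⁻¹) * D.c⁻¹ = (D.c * D.c) * D.A.h * (D.c⁻¹ * D.c⁻¹) := by group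
    _ = D.c⁻¹ * D.A.h * D.c := by rw [← D.cinv, D.cc_inv]

theorem sH3 : Scales ζ D.h3 D.A.ψ (-1) := by
  intro s
  have := spread_conj D.A.hζ D.hspan D.A.ψ D.A.ψ D.A.add D.A.add D.h3 D.A.h D.A.h D.A.scales
    D.A.scales ((commute_iff_conj _ _).mp D.comm13) ζ⁻¹ D.SC s
  rw [this, zpow_neg_one]

theorem H3' : D.A.h * D.h2 * D.h3 = 1 := D.H3

theorem h2_eq : D.h2 = D.A.h⁻¹ * D.h3⁻¹ := by
  calc D.h2 = D.A.h⁻¹ * (D.A.h * D.h2 * D.h3) * D.h3⁻¹ := by group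
    _ = D.A.h⁻¹ * D.h3⁻¹ := by rw [D.H3', mul_one]

theorem h3_inv : D.h3⁻¹ = D.A.h * D.h2 := (eq_inv_of_mul_eq_one_left D.H3').symm

theorem sH2 : Scales ζ D.h2 D.A.ψ (-1) := by
  have := ((D.A.scales.inv D.A.hζ).mul D.A.hζ (D.sH3.inv D.A.hζ)).congr
    (by norm_num : (-2 : ℤ) + - -1 = -1)
  rw [← D.h2_eq] at this
  exact this

theorem t_h3 : D.A.t * D.h3 * D.A.t⁻¹ = D.h2⁻¹ := by
  unfold h2 h3
  calc D.A.t * (D.c⁻¹ * D.A.h * D.c) * D.A.t⁻¹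
      = (D.A.t * D.c⁻¹) * D.A.h * (D.A.t * D.c⁻¹)⁻¹ := by group
    _ = (D.c * D.A.t⁻¹) * D.A.h * (D.c * D.A.t⁻¹)⁻¹ := by rw [D.e_tc]
    _ = D.c * (D.A.t⁻¹ * D.A.h * D.A.t) * D.c⁻¹ := by group
    _ = D.c * D.A.h⁻¹ * D.c⁻¹ := by rw [D.A.tinv_h]
    _ = (D.c * D.A.h * D.c⁻¹)⁻¹ := by group

theorem T4 : D.A.t * D.h2 * D.A.t⁻¹ = D.h2 * D.A.h := by
  have e : D.A.t * (D.A.h⁻¹ * D.h3⁻¹) * D.A.t⁻¹ =
      (D.A.t * D.A.h * D.A.t⁻¹)⁻¹ * (D.A.t * D.h3 * D.A.t⁻¹)⁻¹ := by group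
  calc D.A.t * D.h2 * D.A.t⁻¹ = D.A.t * (D.A.h⁻¹ * D.h3⁻¹) * D.A.t⁻¹ := by rw [← D.h2_eq]
    _ = (D.A.t * D.A.h * D.A.t⁻¹)⁻¹ * (D.A.t * D.h3 * D.A.t⁻¹)⁻¹ := e
    _ = D.A.h * D.h2 := by rw [D.A.th, D.t_h3, inv_inv, inv_inv]
    _ = D.h2 * D.A.h := D.HC.eq

theorem T3 : (D.c * D.A.t * D.c⁻¹) * D.A.h * (D.c * D.A.t * D.c⁻¹)⁻¹ = D.A.h * D.h2 := by
  calc (D.c * D.A.t * D.c⁻¹) * D.A.h * (D.c * D.A.t * D.c⁻¹)⁻¹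
      = D.c * (D.A.t * D.h3 * D.A.t⁻¹) * D.c⁻¹ := by unfold h3; group
    _ = D.c * D.h2⁻¹ * D.c⁻¹ := by rw [D.t_h3]
    _ = (D.c * D.h2 * D.c⁻¹)⁻¹ := by group
    _ = D.h3⁻¹ := by rw [D.h3_conj]
    _ = D.A.h * D.h2 := D.h3_inv

theorem zeta_neg_j0 : ζ ^ ((D.A.j0 : ℤ) * -1) = -1 := by
  rw [mul_neg_one, zpow_neg, zpow_natCast, D.A.hj0]
  simp

theorem Bt_eq' : D.c * D.A.t * D.c⁻¹ = D.A.t * D.c * D.h2 ^ D.A.j0 := by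
  have e1 : D.h2 ^ D.A.j0 = D.c * (D.A.t * D.A.t) * D.c⁻¹ := by
    unfold h2
    rw [conj_pow, ← D.A.tt]
  symm
  calc D.A.t * D.c * D.h2 ^ D.A.j0 = D.A.t * D.c * (D.c * (D.A.t * D.A.t) * D.c⁻¹) := by rw [e1]
    _ = D.A.t * (D.c * D.c) * D.A.t * D.A.t * D.c⁻¹ := by group
    _ = (D.A.t * D.c⁻¹) * D.A.t * D.A.t * D.c⁻¹ := by rw [← D.cinv]
    _ = (D.c * D.A.t⁻¹) * D.A.t * D.A.t * D.c⁻¹ := by rw [D.e_tc]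
    _ = D.c * D.A.t * D.c⁻¹ := by group

theorem W (s : F) : (D.c * D.A.t * D.c⁻¹) * D.A.ψ s * (D.c * D.A.t * D.c⁻¹)⁻¹ =
    D.A.t * (D.c * D.A.ψ (-s) * D.c⁻¹) * D.A.t⁻¹ := by
  have hs := (D.sH2.zpow D.A.hζ (D.A.j0 : ℤ)) s
  rw [D.zeta_neg_j0, neg_one_mul, zpow_natCast] at hs
  calc (D.c * D.A.t * D.c⁻¹) * D.A.ψ s * (D.c * D.A.t * D.c⁻¹)⁻¹
      = (D.A.t * D.c * D.h2 ^ D.A.j0) * D.A.ψ s * (D.A.t * D.c * D.h2 ^ D.A.j0)⁻¹ := by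
        rw [D.Bt_eq']
    _ = D.A.t * (D.c * (D.h2 ^ D.A.j0 * D.A.ψ s * (D.h2 ^ D.A.j0)⁻¹) * D.c⁻¹) * D.A.t⁻¹ := by
        group
    _ = D.A.t * (D.c * D.A.ψ (-s) * D.c⁻¹) * D.A.t⁻¹ := by rw [hs]

theorem Br : D.A.t * (D.c * D.A.t * D.c⁻¹) * D.A.t =
    (D.c * D.A.t * D.c⁻¹) * D.A.t * (D.c * D.A.t * D.c⁻¹) := by
  calc D.A.t * (D.c * D.A.t * D.c⁻¹) * D.A.t = D.A.t * (D.c⁻¹ * D.A.t⁻¹) * D.A.t := by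
        rw [D.Bt_eq]
    _ = D.A.t * D.c⁻¹ := by group
    _ = D.c * D.A.t⁻¹ := D.e_tc
    _ = (D.c⁻¹ * D.c⁻¹) * D.A.t⁻¹ := by rw [D.cc_inv]
    _ = (D.c⁻¹ * D.A.t⁻¹) * D.A.t * (D.c⁻¹ * D.A.t⁻¹) := by group
    _ = (D.c * D.A.t * D.c⁻¹) * D.A.t * (D.c * D.A.t * D.c⁻¹) := by rw [D.Bt_eq]

theorem sAb : Scales ζ D.A.h (D.A.conjBy D.c).ψ (-1) := by
  intro s
  show D.A.h * (D.c * D.A.ψ s * D.c⁻¹) * D.A.h⁻¹ = D.c * D.A.ψ (ζ ^ (-1 : ℤ) * s) * D.c⁻¹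
  rw [conj_conj']
  have := D.sH3 s
  unfold h3 at this
  rw [this]

/-- the torus and Weyl data -/
def toTor : A2Tor F G ζ where
  A := D.A
  B := D.A.conjBy D.c
  T0 := D.HC
  sAb := D.sAb
  sBa := D.sH2
  T3 := D.T3
  T4 := D.T4
  W := D.W
  Br := D.Br

variable (I : Set ℕ)
  (hI1 : SpanSet {b : F | ∃ i ∈ I, ∃ k : ℤ, b = ζ ^ (3 * k + 2 * (i : ℤ))})
  (hI2 : SpanSet {b : F | ∃ i ∈ I, ∃ k : ℤ, b = ζ ^ (3 * k + 4 * (i : ℤ))})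
  (S6 : ∀ i ∈ I, D.A.ψ 1 * (D.c * cU (D.A.ψ 1) D.A.h i * D.c⁻¹) * (D.A.ψ 1)⁻¹ *
    (D.c * cU (D.A.ψ 1) D.A.h i * D.c⁻¹)⁻¹ =
      D.A.t * (D.c * cU (D.A.ψ 1) D.A.h i * D.c⁻¹) * D.A.t⁻¹)

include S6 in
theorem S6' : ∀ i ∈ I, D.toTor.A.ψ 1 * D.toTor.B.ψ (ζ ^ (2 * (i : ℤ))) * (D.toTor.A.ψ 1)⁻¹ *
    (D.toTor.B.ψ (ζ ^ (2 * (i : ℤ))))⁻¹ = D.toTor.y (ζ ^ (2 * (i : ℤ))) := by
  intro i hi
  have := S6 i hi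
  rw [D.A.cU_eq] at this
  exact this

/-- the full data -/
def toData : A2Data F G ζ := D.toTor.toData D.hspan I hI1 hI2 (D.S6' I S6)

include hI1 hI2 S6 in
theorem card_bound (hgenG : Subgroup.closure ({D.A.ψ 1, D.A.t, D.A.h, D.c} : Set G) = ⊤) :
    Finite G ∧ Nat.card G ≤
      Fintype.card F ^ 3 * ((Fintype.card F ^ 2 - 1) * (Fintype.card F ^ 3 - 1)) := by
  apply (D.toData I hI1 hI2 S6).card_bound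
  show Subgroup.closure ({D.A.ψ 1, D.A.t, D.A.h, D.c * D.A.ψ 1 * D.c⁻¹, D.c * D.A.t * D.c⁻¹,
    D.c * D.A.h * D.c⁻¹} : Set G) = ⊤
  rw [eq_top_iff, ← hgenG, Subgroup.closure_le]
  rintro x (rfl | rfl | rfl | rfl)
  · exact Subgroup.subset_closure (by simp)
  · exact Subgroup.subset_closure (by simp)
  · exact Subgroup.subset_closure (by simp)
  · have e : D.A.t⁻¹ * (D.c * D.A.t * D.c⁻¹)⁻¹ = D.c := by rw [D.Bt_eq]; group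
    have hc : D.A.t⁻¹ * (D.c * D.A.t * D.c⁻¹)⁻¹ ∈ Subgroup.closure ({D.A.ψ 1, D.A.t, D.A.h,
        D.c * D.A.ψ 1 * D.c⁻¹, D.c * D.A.t * D.c⁻¹, D.c * D.A.h * D.c⁻¹} : Set G) :=
      Subgroup.mul_mem _ (Subgroup.inv_mem _ (Subgroup.subset_closure (by simp)))
        (Subgroup.inv_mem _ (Subgroup.subset_closure (by simp)))
    rw [e] at hc
    exact hc

end A2Pre

end Cfsg.Agent.Lib.Helper9.SL3P
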