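import Mathlib
import Cfsg.Agent.Lib.Helper9.SL3P5

set_option autoImplicit false

/-!
# Presentations of `SL₃(q)`: the relators beyond those of `SL₂`, and the order bound
-/

namespace Cfsg.Agent.Lib.Helper9.SL3P

open Polynomial Cfsg.Agent.Lib.Helper9.SLP Cfsg.Agent.Lib.Helper9.SP4P

/-- the instance of the commutator relation at the parameters `(1, ζ ^ (2 i))` -/
def inst3 {G : Type*} [Group G] (u t h c : G) (i : ℕ) : G :=
  u * (c * cU u h i * c⁻¹) * u⁻¹ * (c * cU u h i * c⁻¹)⁻¹ * (t * (c * cU u h i * c⁻¹) * t⁻¹)⁻¹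

/-- the relators linking the `SL₂` with the element of order three -/
noncomputable def cross3 {G : Type*} [Group G] {p : ℕ} (gz : (ZMod p)[X]) (I : List ℕ)
    (u t h c : G) : List G :=
  [c * c * c,
    t * c⁻¹ * t * c⁻¹,
    h * (c * h * c⁻¹) * (c⁻¹ * h * c),
    h * (c * h * c⁻¹) * h⁻¹ * (c * h * c⁻¹)⁻¹,
    (c⁻¹ * h * c) * u * (c⁻¹ * h * c)⁻¹ * (PW u h gz)⁻¹] ++ I.map (inst3 u t h c)

theorem cross3_length {G : Type*} [Group G] {p : ℕ} (gz : (ZMod p)[X]) (I : List ℕ)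
    (u t h c : G) : (cross3 gz I u t h c).length = 5 + I.length := by
  rw [cross3, List.length_append, List.length_map]
  rfl

theorem map_inst3 {G H : Type*} [Group G] [Group H] (φ : G →* H) (u t h c : G) (i : ℕ) :
    φ (inst3 u t h c i) = inst3 (φ u) (φ t) (φ h) (φ c) i := by
  simp [inst3, map_cU]

theorem map_cross3 {G H : Type*} [Group G] [Group H] (φ : G →* H) {p : ℕ} (gz : (ZMod p)[X])
    (I : List ℕ) (u t h c : G) :
    (cross3 gz I u t h c).map φ = cross3 gz I (φ u) (φ t) (φ h) (φ c) := by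
  rw [cross3, cross3, List.map_append, List.map_map]
  congr 1
  · simp [map_PW]
  · apply List.map_congr_left
    intro i _
    exact map_inst3 φ u t h c i

theorem cross3_iff {G : Type*} [Group G] {p : ℕ} (gz : (ZMod p)[X]) (I : List ℕ)
    (u t h c : G) :
    (∀ r ∈ cross3 gz I u t h c, r = 1) ↔
      (c * c * c = 1 ∧ t * c⁻¹ * t * c⁻¹ = 1 ∧ h * (c * h * c⁻¹) * (c⁻¹ * h * c) = 1 ∧
        h * (c * h * c⁻¹) * h⁻¹ = c * h * c⁻¹ ∧
        (c⁻¹ * h * c) * u * (c⁻¹ * h * c)⁻¹ = PW u h gz ∧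
        ∀ i ∈ I, u * (c * cU u h i * c⁻¹) * u⁻¹ * (c * cU u h i * c⁻¹)⁻¹ =
          t * (c * cU u h i * c⁻¹) * t⁻¹) := by
  rw [cross3, List.forall_mem_append, List.forall_mem_map]
  simp only [List.mem_cons, List.not_mem_nil, or_false, forall_eq_or_imp, forall_eq,
    mul_inv_eq_one, inst3, and_assoc]

variable {F : Type*} [Field F] [Fintype F]

/-- the order bound for a group satisfying the relators -/
theorem card_bound_of_rels3 {G : Type*} [Group G] (p : ℕ) [Fact p.Prime]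
    (ev : (ZMod p)[X] →+* F) (hsurj : Function.Surjective ev) (m : (ZMod p)[X])
    (hker : ∀ f, ev f = 0 → m ∣ f) (ζ : F) (hζ : ζ ≠ 0)
    (hζgen : ∀ a : F, a ≠ 0 → ∃ j : ℕ, ζ ^ j = a) (hlam : ev X = ζ ^ 2)
    (fz fz' gz : (ZMod p)[X]) (hfz : ev fz = ζ) (hfz' : ev fz' = -ζ⁻¹) (hgz : ev gz = ζ⁻¹)
    (hspan : Spans ζ) (I : List ℕ)
    (hI1 : SpanSet {b : F | ∃ i ∈ I, ∃ k : ℤ, b = ζ ^ (3 * k + 2 * (i : ℤ))})
    (hI2 : SpanSet {b : F | ∃ i ∈ I, ∃ k : ℤ, b = ζ ^ (3 * k + 4 * (i : ℤ))})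
    (u t h c : G) (hR : RelsHold p m fz fz' u t h)
    (hcross : ∀ r ∈ cross3 gz I u t h c, r = 1)
    (hgenG : Subgroup.closure ({u, t, h, c} : Set G) = ⊤) :
    Finite G ∧ Nat.card G ≤
      Fintype.card F ^ 3 * ((Fintype.card F ^ 2 - 1) * (Fintype.card F ^ 3 - 1)) := by
  obtain ⟨RA, rfl, rfl, rfl, hψ⟩ :=
    exists_rankOne p ev hsurj m hker ζ hζ hζgen hlam fz fz' hfz hfz' u t h hR
  rw [cross3_iff] at hcross
  obtain ⟨R1, R2, R3, R4, R5, R6⟩ := hcross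
  let D : A2Pre F G ζ :=
    { A := RA
      c := c
      hspan := hspan
      C3 := R1
      TC := R2
      HC := ((commute_iff_conj _ _).mpr R4).symm
      H3 := R3
      SC := by rw [← hgz, hψ]; exact R5 }
  exact D.card_bound {i | i ∈ I} hI1 hI2 R6 hgenG

end Cfsg.Agent.Lib.Helper9.SL3P
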