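import Mathlib
import Cfsg.Agent.Lib.Helper9.SL3P6
import Cfsg.Agent.Lib.Helper9.SLP14
import Cfsg.Agent.Lib.Helper1.SLn

set_option autoImplicit false

/-!
# Presentations of `SL₃(q)`: the matrices
-/

namespace Cfsg.Agent.Lib.Helper9.SL3P

open Matrix Polynomial Cfsg.Agent.Lib.Helper9.SLP

variable {F : Type*} [Field F]

/-- the embedding of `2 × 2` matrices in the upper left corner -/
def eMat (g : Matrix (Fin 2) (Fin 2) F) : Matrix (Fin 3) (Fin 3) F :=
  !![g 0 0, g 0 1, 0; g 1 0, g 1 1, 0; 0, 0, 1]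

theorem eMat_mul (g g' : Matrix (Fin 2) (Fin 2) F) : eMat (g * g') = eMat g * eMat g' := by
  ext i j; fin_cases i <;> fin_cases j <;>
    simp [eMat, Matrix.mul_apply, Fin.sum_univ_two, Fin.sum_univ_three]

theorem eMat_one : eMat (1 : Matrix (Fin 2) (Fin 2) F) = 1 := by
  ext i j; fin_cases i <;> fin_cases j <;> simp [eMat]

theorem det_eMat (g : Matrix (Fin 2) (Fin 2) F) : (eMat g).det = g.det := by
  rw [det_fin_three, det_fin_two]
  simp [eMat]

/-- the embedding of `SL₂` in `SL₃` -/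
def eHom : SpecialLinearGroup (Fin 2) F →* SpecialLinearGroup (Fin 3) F where
  toFun g := ⟨eMat (g : Matrix (Fin 2) (Fin 2) F), by rw [det_eMat]; exact g.2⟩
  map_one' := by
    apply Subtype.ext
    have e : ((1 : SpecialLinearGroup (Fin 2) F) : Matrix (Fin 2) (Fin 2) F) = 1 := rfl
    exact (congrArg eMat e).trans eMat_one
  map_mul' g g' := by
    apply Subtype.ext
    have e : ((g * g' : SpecialLinearGroup (Fin 2) F) : Matrix (Fin 2) (Fin 2) F) =
      (g : Matrix (Fin 2) (Fin 2) F) * (g' : Matrix (Fin 2) (Fin 2) F) := rfl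
    exact (congrArg eMat e).trans (eMat_mul _ _)

theorem eHom_coe (g : SpecialLinearGroup (Fin 2) F) :
    (eHom g : Matrix (Fin 3) (Fin 3) F) = eMat (g : Matrix (Fin 2) (Fin 2) F) := rfl

/-- the cyclic permutation matrix -/
def cM : SpecialLinearGroup (Fin 3) F := ⟨!![0, 0, 1; 1, 0, 0; 0, 1, 0], by simp [det_fin_three]⟩

/-- its inverse -/
def cM' : SpecialLinearGroup (Fin 3) F := ⟨!![0, 1, 0; 0, 0, 1; 1, 0, 0], by simp [det_fin_three]⟩

/-- root elements -/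
def x23 (a : F) : SpecialLinearGroup (Fin 3) F :=
  ⟨!![1, 0, 0; 0, 1, a; 0, 0, 1], by simp [det_fin_three]⟩

/-- root elements -/
def x13 (a : F) : SpecialLinearGroup (Fin 3) F :=
  ⟨!![1, 0, a; 0, 1, 0; 0, 0, 1], by simp [det_fin_three]⟩

/-- root elements -/
def x31 (a : F) : SpecialLinearGroup (Fin 3) F :=
  ⟨!![1, 0, 0; 0, 1, 0; a, 0, 1], by simp [det_fin_three]⟩

/-- root elements -/
def x32 (a : F) : SpecialLinearGroup (Fin 3) F :=
  ⟨!![1, 0, 0; 0, 1, 0; 0, a, 1], by simp [det_fin_three]⟩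

/-- the second torus element -/
def d2 (z : Fˣ) : SpecialLinearGroup (Fin 3) F :=
  ⟨!![1, 0, 0; 0, (z : F), 0; 0, 0, ((z⁻¹ : Fˣ) : F)], by simp [det_fin_three]⟩

/-- the third torus element -/
def d3 (z : Fˣ) : SpecialLinearGroup (Fin 3) F :=
  ⟨!![((z⁻¹ : Fˣ) : F), 0, 0; 0, 1, 0; 0, 0, (z : F)], by simp [det_fin_three]⟩

theorem cM_coe : ((cM : SpecialLinearGroup (Fin 3) F) : Matrix (Fin 3) (Fin 3) F) =
    !![0, 0, 1; 1, 0, 0; 0, 1, 0] := rfl

theorem cM'_coe : ((cM' : SpecialLinearGroup (Fin 3) F) : Matrix (Fin 3) (Fin 3) F) =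
    !![0, 1, 0; 0, 0, 1; 1, 0, 0] := rfl

theorem x23_coe (a : F) : (x23 a : Matrix (Fin 3) (Fin 3) F) = !![1, 0, 0; 0, 1, a; 0, 0, 1] := rfl

theorem x13_coe (a : F) : (x13 a : Matrix (Fin 3) (Fin 3) F) = !![1, 0, a; 0, 1, 0; 0, 0, 1] := rfl

theorem x31_coe (a : F) : (x31 a : Matrix (Fin 3) (Fin 3) F) = !![1, 0, 0; 0, 1, 0; a, 0, 1] := rfl

theorem x32_coe (a : F) : (x32 a : Matrix (Fin 3) (Fin 3) F) = !![1, 0, 0; 0, 1, 0; 0, a, 1] := rfl

theorem d2_coe (z : Fˣ) : (d2 z : Matrix (Fin 3) (Fin 3) F) =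
    !![1, 0, 0; 0, (z : F), 0; 0, 0, ((z⁻¹ : Fˣ) : F)] := rfl

theorem d3_coe (z : Fˣ) : (d3 z : Matrix (Fin 3) (Fin 3) F) =
    !![((z⁻¹ : Fˣ) : F), 0, 0; 0, 1, 0; 0, 0, (z : F)] := rfl

theorem sl3_ext {A B : SpecialLinearGroup (Fin 3) F}
    (h : (A : Matrix (Fin 3) (Fin 3) F) = (B : Matrix (Fin 3) (Fin 3) F)) : A = B :=
  Subtype.ext h

theorem coe_mul' (A B : SpecialLinearGroup (Fin 3) F) :
    ((A * B : SpecialLinearGroup (Fin 3) F) : Matrix (Fin 3) (Fin 3) F) =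
      (A : Matrix (Fin 3) (Fin 3) F) * (B : Matrix (Fin 3) (Fin 3) F) := rfl

theorem coe_one' : ((1 : SpecialLinearGroup (Fin 3) F) : Matrix (Fin 3) (Fin 3) F) = 1 := rfl

theorem cM_mul_cM' : (cM : SpecialLinearGroup (Fin 3) F) * cM' = 1 := by
  apply sl3_ext
  rw [coe_mul', coe_one', cM_coe, cM'_coe]
  ext i j; fin_cases i <;> fin_cases j <;> simp [Matrix.mul_apply, Fin.sum_univ_three]

theorem cM_inv : (cM : SpecialLinearGroup (Fin 3) F)⁻¹ = cM' :=
  inv_eq_of_mul_eq_one_right cM_mul_cM'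

theorem cM_cube : (cM : SpecialLinearGroup (Fin 3) F) * cM * cM = 1 := by
  apply sl3_ext
  rw [coe_mul', coe_mul', coe_one', cM_coe]
  ext i j; fin_cases i <;> fin_cases j <;> simp [Matrix.mul_apply, Fin.sum_univ_three]

theorem cM_x12 (a : F) : cM * eHom (mU a) = x23 a * cM := by
  apply sl3_ext
  rw [coe_mul', coe_mul', cM_coe, x23_coe, eHom_coe, mU_coe]
  ext i j; fin_cases i <;> fin_cases j <;> simp [eMat, Matrix.mul_apply, Fin.sum_univ_three]

theorem cM_x21 (a : F) : cM * eHom (mL a) = x32 a * cM := by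
  apply sl3_ext
  rw [coe_mul', coe_mul', cM_coe, x32_coe, eHom_coe, mL_coe]
  ext i j; fin_cases i <;> fin_cases j <;> simp [eMat, Matrix.mul_apply, Fin.sum_univ_three]

theorem cM_x23 (a : F) : cM * x23 a = x31 a * cM := by
  apply sl3_ext
  rw [coe_mul', coe_mul', cM_coe, x23_coe, x31_coe]
  ext i j; fin_cases i <;> fin_cases j <;> simp [Matrix.mul_apply, Fin.sum_univ_three]

theorem cM_x32 (a : F) : cM * x32 a = x13 a * cM := by
  apply sl3_ext
  rw [coe_mul', coe_mul', cM_coe, x32_coe, x13_coe]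
  ext i j; fin_cases i <;> fin_cases j <;> simp [Matrix.mul_apply, Fin.sum_univ_three]

theorem cM_h (z : Fˣ) : cM * eHom (mH z) = d2 z * cM := by
  apply sl3_ext
  rw [coe_mul', coe_mul', cM_coe, d2_coe, eHom_coe, mH_coe]
  ext i j; fin_cases i <;> fin_cases j <;> simp [eMat, Matrix.mul_apply, Fin.sum_univ_three]

theorem h_cM (z : Fˣ) : eHom (mH z) * cM = cM * d3 z := by
  apply sl3_ext
  rw [coe_mul', coe_mul', cM_coe, d3_coe, eHom_coe, mH_coe]
  ext i j; fin_cases i <;> fin_cases j <;> simp [eMat, Matrix.mul_apply, Fin.sum_univ_three]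

theorem h_d2_d3 (z : Fˣ) : eHom (mH z) * d2 z * d3 z = 1 := by
  apply sl3_ext
  rw [coe_mul', coe_mul', coe_one', d2_coe, d3_coe, eHom_coe, mH_coe]
  ext i j; fin_cases i <;> fin_cases j <;> simp [eMat, Matrix.mul_apply, Fin.sum_univ_three]

theorem h_d2_comm (z : Fˣ) : eHom (mH z) * d2 z = d2 z * eHom (mH z) := by
  apply sl3_ext
  rw [coe_mul', coe_mul', d2_coe, eHom_coe, mH_coe]
  ext i j; fin_cases i <;> fin_cases j <;> simp [eMat, Matrix.mul_apply, Fin.sum_univ_three]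

theorem d3_x12 (z : Fˣ) (a : F) :
    d3 z * eHom (mU a) = eHom (mU (((z⁻¹ : Fˣ) : F) * a)) * d3 z := by
  apply sl3_ext
  rw [coe_mul', coe_mul', d3_coe, eHom_coe, eHom_coe, mU_coe, mU_coe]
  ext i j; fin_cases i <;> fin_cases j <;> simp [eMat, Matrix.mul_apply, Fin.sum_univ_three]

theorem t_c'_t_c' : eHom (mT : SpecialLinearGroup (Fin 2) F) * cM' * eHom mT * cM' = 1 := by
  apply sl3_ext
  rw [coe_mul', coe_mul', coe_mul', coe_one', cM'_coe, eHom_coe, mT_coe]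
  ext i j; fin_cases i <;> fin_cases j <;> simp [eMat, Matrix.mul_apply, Fin.sum_univ_three]

theorem t_x23 (a : F) : eHom (mT : SpecialLinearGroup (Fin 2) F) * x23 a = x13 a * eHom mT := by
  apply sl3_ext
  rw [coe_mul', coe_mul', x23_coe, x13_coe, eHom_coe, mT_coe]
  ext i j; fin_cases i <;> fin_cases j <;> simp [eMat, Matrix.mul_apply, Fin.sum_univ_three]

theorem x12_x23 (a b : F) : eHom (mU a) * x23 b = x13 (a * b) * x23 b * eHom (mU a) := by
  apply sl3_ext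
  rw [coe_mul', coe_mul', coe_mul', x23_coe, x13_coe, eHom_coe, mU_coe]
  ext i j; fin_cases i <;> fin_cases j <;> simp [eMat, Matrix.mul_apply, Fin.sum_univ_three]

end Cfsg.Agent.Lib.Helper9.SL3P
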