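import Mathlib
import Cfsg.Agent.Lib.Helper9.SP4P2

set_option autoImplicit false

/-!
# Presentations of `Sp₄(q)`: the abstract `C₂` data, torus and Weyl actions
-/

namespace Cfsg.Agent.Lib.Helper9.SP4P

open Cfsg.Agent.Lib.Helper9.SLP

/-- two rank one data (`A` for the long simple root, `B` for the short one) with the cross
relations of `Sp₄` -/
structure C2Data (F : Type*) [Field F] [Fintype F] (G : Type*) [Group G] (ζ : F) where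
  A : RankOne F G ζ
  B : RankOne F G ζ
  hgen : ∀ x : F, x ≠ 0 → ∃ j : ℤ, ζ ^ j = x
  hspan : Spans ζ
  T0 : Commute A.h B.h
  T1 : A.h * B.ψ 1 * A.h⁻¹ = B.ψ ζ⁻¹
  T2 : B.h * A.ψ 1 * B.h⁻¹ = A.h⁻¹ * A.ψ 1 * A.h
  T3 : B.t * A.h * B.t⁻¹ = A.h * B.h
  T4 : A.t * B.h * A.t⁻¹ = B.h * (A.h * A.h)
  W1 : A.t * (B.t * A.ψ 1 * B.t⁻¹) * A.t⁻¹ = B.t * A.ψ 1 * B.t⁻¹
  W2 : B.t * (A.t * B.ψ 1 * A.t⁻¹) * B.t⁻¹ = A.t * (B.ψ 1)⁻¹ * A.t⁻¹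
  S1 : B.ψ 1 * A.ψ 1 * (B.ψ 1)⁻¹ =
    (B.t * A.ψ 1 * B.t⁻¹) * (A.t * (B.ψ 1)⁻¹ * A.t⁻¹) * A.ψ 1
  S3 : Commute (A.ψ 1) (B.t * A.ψ 1 * B.t⁻¹)
  S4 : Commute (A.ψ 1) (A.t * B.ψ 1 * A.t⁻¹)
  Br : A.t * B.t * A.t * B.t = B.t * A.t * B.t * A.t

namespace C2Data

variable {F : Type*} [Field F] [Fintype F] {G : Type*} [Group G] {ζ : F} (D : C2Data F G ζ)

/-- the root map for `α + β` -/
def y (s : F) : G := D.A.t * D.B.ψ s * D.A.t⁻¹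

/-- the root map for `α + 2β` -/
def z (s : F) : G := D.B.t * D.A.ψ s * D.B.t⁻¹

include D in
theorem hζ : ζ ≠ 0 := D.A.hζ

theorem y_add (a b : F) : D.y (a + b) = D.y a * D.y b := by
  unfold y; rw [D.B.add]; group

theorem z_add (a b : F) : D.z (a + b) = D.z a * D.z b := by
  unfold z; rw [D.A.add]; group

theorem y_zero : D.y 0 = 1 := SLP.psi_zero D.y D.y_add

theorem z_zero : D.z 0 = 1 := SLP.psi_zero D.z D.z_add

theorem y_neg (a : F) : D.y (-a) = (D.y a)⁻¹ := SLP.psi_neg D.y D.y_add a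

theorem z_neg (a : F) : D.z (-a) = (D.z a)⁻¹ := SLP.psi_neg D.z D.z_add a

theorem tA_b (s : F) : D.A.t * D.B.ψ s * D.A.t⁻¹ = D.y s := rfl

theorem tB_a (s : F) : D.B.t * D.A.ψ s * D.B.t⁻¹ = D.z s := rfl

/-! ### the torus action on the simple root groups -/

theorem sAa : Scales ζ D.A.h D.A.ψ 2 := D.A.scales

theorem sBb : Scales ζ D.B.h D.B.ψ 2 := D.B.scales

theorem sAb : Scales ζ D.A.h D.B.ψ (-1) := by
  intro s
  have := spread_conj D.hζ D.hspan D.B.ψ D.B.ψ D.B.add D.B.add D.A.h D.B.h D.B.h D.sBb D.sBb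
    (by rw [D.T0.eq, mul_inv_cancel_right]) ζ⁻¹ D.T1 s
  rw [this, zpow_neg_one]

theorem sBa : Scales ζ D.B.h D.A.ψ (-2) := by
  intro s
  have h1 : D.B.h * D.A.ψ 1 * D.B.h⁻¹ = D.A.ψ (ζ ^ (-2 : ℤ)) := by
    rw [D.T2]
    have := (D.sAa.inv D.hζ) 1
    rw [inv_inv, mul_one] at this
    exact this
  exact spread_conj D.hζ D.hspan D.A.ψ D.A.ψ D.A.add D.A.add D.B.h D.A.h D.A.h D.sAa D.sAa
    (by rw [← D.T0.eq, mul_inv_cancel_right]) (ζ ^ (-2 : ℤ)) h1 s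

/-! ### Weyl elements and the torus -/

theorem tAinv_hB : D.A.t⁻¹ * D.B.h * D.A.t = D.B.h * (D.A.h * D.A.h) := by
  have c1 : Commute (D.A.h ^ D.A.j0) (D.B.h * (D.A.h * D.A.h)) :=
    (D.T0.mul_right ((Commute.refl D.A.h).mul_right (Commute.refl D.A.h))).pow_left _
  calc D.A.t⁻¹ * D.B.h * D.A.t
      = (D.A.t * D.A.t)⁻¹ * (D.A.t * D.B.h * D.A.t⁻¹) * (D.A.t * D.A.t) := by group
    _ = (D.A.h ^ D.A.j0)⁻¹ * (D.B.h * (D.A.h * D.A.h)) * D.A.h ^ D.A.j0 := by rw [D.A.tt, D.T4]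
    _ = D.B.h * (D.A.h * D.A.h) := by rw [c1.inv_left.eq, inv_mul_cancel_right]

theorem tBinv_hA : D.B.t⁻¹ * D.A.h * D.B.t = D.A.h * D.B.h := by
  have c1 : Commute (D.B.h ^ D.B.j0) (D.A.h * D.B.h) :=
    (D.T0.symm.mul_right (Commute.refl D.B.h)).pow_left _
  calc D.B.t⁻¹ * D.A.h * D.B.t
      = (D.B.t * D.B.t)⁻¹ * (D.B.t * D.A.h * D.B.t⁻¹) * (D.B.t * D.B.t) := by group
    _ = (D.B.h ^ D.B.j0)⁻¹ * (D.A.h * D.B.h) * D.B.h ^ D.B.j0 := by rw [D.B.tt, D.T3]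
    _ = D.A.h * D.B.h := by rw [c1.inv_left.eq, inv_mul_cancel_right]

/-! ### the torus action on the other root groups -/

theorem sAy : Scales ζ D.A.h D.y 1 := by
  intro s
  unfold y
  rw [conj_conj', D.A.tinv_h]
  have := (D.sAb.inv D.hζ) s
  rw [this, neg_neg]

theorem sBy : Scales ζ D.B.h D.y 0 := by
  intro s
  unfold y
  rw [conj_conj', D.tAinv_hB]
  have h1 := (D.sBb.mul D.hζ (D.sAb.mul D.hζ D.sAb)) s
  have e : (2 : ℤ) + (-1 + -1) = 0 := by norm_num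
  rw [h1, e]

theorem sAz : Scales ζ D.A.h D.z 0 := by
  intro s
  unfold z
  rw [conj_conj', D.tBinv_hA]
  have h1 := (D.sAa.mul D.hζ D.sBa) s
  have e : (2 : ℤ) + -2 = 0 := by norm_num
  rw [h1, e]

theorem sBz : Scales ζ D.B.h D.z 2 := by
  intro s
  unfold z
  rw [conj_conj', D.B.tinv_h]
  have := (D.sBa.inv D.hζ) s
  rw [this, neg_neg]

theorem tor_a (i j : ℤ) : Scales ζ (D.A.h ^ i * D.B.h ^ j) D.A.ψ (i * 2 + j * -2) :=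
  (D.sAa.zpow D.hζ i).mul D.hζ (D.sBa.zpow D.hζ j)

theorem tor_b (i j : ℤ) : Scales ζ (D.A.h ^ i * D.B.h ^ j) D.B.ψ (i * -1 + j * 2) :=
  (D.sAb.zpow D.hζ i).mul D.hζ (D.sBb.zpow D.hζ j)

theorem tor_y (i j : ℤ) : Scales ζ (D.A.h ^ i * D.B.h ^ j) D.y (i * 1 + j * 0) :=
  (D.sAy.zpow D.hζ i).mul D.hζ (D.sBy.zpow D.hζ j)

theorem tor_z (i j : ℤ) : Scales ζ (D.A.h ^ i * D.B.h ^ j) D.z (i * 0 + j * 2) :=
  (D.sAz.zpow D.hζ i).mul D.hζ (D.sBz.zpow D.hζ j)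

/-! ### the Weyl elements on the root groups -/

theorem tA_y (s : F) : D.A.t * D.y s * D.A.t⁻¹ = D.B.ψ (-s) := by
  unfold y
  have e : D.A.t * (D.A.t * D.B.ψ s * D.A.t⁻¹) * D.A.t⁻¹ =
      (D.A.t * D.A.t) * D.B.ψ s * (D.A.t * D.A.t)⁻¹ := by group
  rw [e, D.A.tt, ← zpow_natCast, (D.sAb.zpow D.hζ (D.A.j0 : ℤ)) s]
  congr 1
  rw [mul_neg_one, zpow_neg, zpow_natCast, D.A.hj0]
  simp

theorem tAinv_y (s : F) : D.A.t⁻¹ * D.y s * D.A.t = D.B.ψ s := by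
  unfold y; group

theorem tAinv_b (s : F) : D.A.t⁻¹ * D.B.ψ s * D.A.t = D.y (-s) := by
  have := D.tA_y (-s)
  rw [neg_neg] at this
  rw [← this]; group

theorem tA_z (s : F) : D.A.t * D.z s * D.A.t⁻¹ = D.z s := by
  have hh' : Scales ζ (D.B.h * (D.A.h * D.A.h)) D.z 2 :=
    (D.sBz.mul D.hζ (D.sAz.mul D.hζ D.sAz)).congr (by norm_num)
  have := spread_conj D.hζ D.hspan D.z D.z D.z_add D.z_add D.A.t D.B.h _ D.sBz hh' D.T4 1 D.W1 s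
  rw [this, one_mul]

theorem tAinv_z (s : F) : D.A.t⁻¹ * D.z s * D.A.t = D.z s := by
  have := D.tA_z s
  calc D.A.t⁻¹ * D.z s * D.A.t = D.A.t⁻¹ * (D.A.t * D.z s * D.A.t⁻¹) * D.A.t := by rw [this]
    _ = D.z s := by group

theorem tB_z (s : F) : D.B.t * D.z s * D.B.t⁻¹ = D.A.ψ s := by
  unfold z
  have e : D.B.t * (D.B.t * D.A.ψ s * D.B.t⁻¹) * D.B.t⁻¹ =
      (D.B.t * D.B.t) * D.A.ψ s * (D.B.t * D.B.t)⁻¹ := by group
  rw [e]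
  exact D.B.tt_scales (n := -1) (D.sBa.congr (by norm_num)) s

theorem tBinv_a (s : F) : D.B.t⁻¹ * D.A.ψ s * D.B.t = D.z s :=
  D.B.tinv_conj_of_scales (n := -1) (D.sBa.congr (by norm_num)) s

theorem tBinv_z (s : F) : D.B.t⁻¹ * D.z s * D.B.t = D.A.ψ s := by
  rw [D.B.tinv_conj_of_scales (ψ' := D.z) (n := 1) (D.sBz.congr (by norm_num)) s, D.tB_z]

theorem tB_y (s : F) : D.B.t * D.y s * D.B.t⁻¹ = D.y (-s) := by
  have hh : Scales ζ (D.A.h * D.A.h) D.y 2 := (D.sAy.mul D.hζ D.sAy).congr (by norm_num)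
  have hh' : Scales ζ ((D.A.h * D.B.h) * (D.A.h * D.B.h)) D.y 2 :=
    ((D.sAy.mul D.hζ D.sBy).mul D.hζ (D.sAy.mul D.hζ D.sBy)).congr (by norm_num)
  have hg : D.B.t * (D.A.h * D.A.h) * D.B.t⁻¹ = (D.A.h * D.B.h) * (D.A.h * D.B.h) := by
    rw [← D.T3]; group
  have h1 : D.B.t * D.y 1 * D.B.t⁻¹ = D.y (-1) := by
    unfold y
    rw [D.W2, D.B.psi_neg]
  have := spread_conj D.hζ D.hspan D.y D.y D.y_add D.y_add D.B.t _ _ hh hh' hg (-1) h1 s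
  rw [this, neg_one_mul]

theorem tBinv_y (s : F) : D.B.t⁻¹ * D.y s * D.B.t = D.y (-s) := by
  rw [D.B.tinv_conj_of_scales (ψ' := D.y) (n := 0) (D.sBy.congr (by norm_num)) s, D.tB_y]

end C2Data

end Cfsg.Agent.Lib.Helper9.SP4P
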