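import Mathlib
import Cfsg.Agent.Lib.Helper9.SP4P3

set_option autoImplicit false

/-!
# Presentations of `Sp₄(q)`: the commutator relations
-/

namespace Cfsg.Agent.Lib.Helper9.SP4P

open Cfsg.Agent.Lib.Helper9.SLP

namespace C2Data

variable {F : Type*} [Field F] [Fintype F] {G : Type*} [Group G] {ζ : F} (D : C2Data F G ζ)

theorem K1 (s t : F) : Commute (D.A.ψ s) (D.z t) := by
  refine commute_of_span D.hspan D.A.ψ D.z D.A.add D.z_add (fun i j => ?_) s t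
  have h0 : Commute (D.A.ψ 1) (D.z 1) := D.S3
  have ha := D.tor_a (i + j) j 1
  have hz := D.tor_z (i + j) j 1
  have := (Commute.conj_iff (D.A.h ^ (i + j) * D.B.h ^ j)).mpr h0
  rw [ha, hz, mul_one, mul_one] at this
  have e1 : (i + j) * 2 + j * -2 = 2 * i := by ring
  have e2 : (i + j) * 0 + j * 2 = 2 * j := by ring
  rwa [e1, e2] at this

theorem K2 (s t : F) : Commute (D.A.ψ s) (D.y t) := by
  refine commute_of_span D.hspan D.A.ψ D.y D.A.add D.y_add (fun i j => ?_) s t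
  have h0 : Commute (D.A.ψ 1) (D.y 1) := D.S4
  have ha := D.tor_a (2 * j) (2 * j - i) 1
  have hy := D.tor_y (2 * j) (2 * j - i) 1
  have := (Commute.conj_iff (D.A.h ^ (2 * j) * D.B.h ^ (2 * j - i))).mpr h0
  rw [ha, hy, mul_one, mul_one] at this
  have e1 : (2 * j) * 2 + (2 * j - i) * -2 = 2 * i := by ring
  have e2 : (2 * j) * 1 + (2 * j - i) * 0 = 2 * j := by ring
  rwa [e1, e2] at this

theorem K3 (s t : F) : Commute (D.z s) (D.y t) := by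
  have := (Commute.conj_iff D.B.t).mpr (D.K2 s (-t))
  rw [D.tB_y, neg_neg] at this
  exact this

theorem K4 (s t : F) : Commute (D.B.ψ s) (D.z t) := by
  have := (Commute.conj_iff D.A.t).mpr (D.K3 t (-s))
  rw [D.tA_z, D.tA_y, neg_neg] at this
  exact this.symm

/-- the elements of the unipotent radical of the parabolic subgroup -/
def Φ (a b c : F) : G := D.A.ψ a * D.y b * D.z c

theorem Φ_congr {a b c a' b' c' : F} (h1 : a = a') (h2 : b = b') (h3 : c = c') :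
    D.Φ a b c = D.Φ a' b' c' := by
  subst h1 h2 h3; rfl

theorem Φ_mul (a b c a' b' c' : F) :
    D.Φ a b c * D.Φ a' b' c' = D.Φ (a + a') (b + b') (c + c') := by
  unfold Φ
  rw [D.A.add, D.y_add, D.z_add]
  exact (mul6 (D.K2 a' b) (D.K1 a' c) (D.K3 c b').symm).symm

theorem Φ_zero : D.Φ 0 0 0 = 1 := by
  unfold Φ; rw [D.A.psi_zero, D.y_zero, D.z_zero]; simp

theorem Φ_inv (a b c : F) : (D.Φ a b c)⁻¹ = D.Φ (-a) (-b) (-c) := by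
  apply inv_eq_of_mul_eq_one_right
  rw [D.Φ_mul, add_neg_cancel, add_neg_cancel, add_neg_cancel, D.Φ_zero]

theorem Φ_a (a : F) : D.Φ a 0 0 = D.A.ψ a := by
  unfold Φ; rw [D.y_zero, D.z_zero, mul_one, mul_one]

theorem Φ_y (b : F) : D.Φ 0 b 0 = D.y b := by
  unfold Φ; rw [D.A.psi_zero, D.z_zero, mul_one, one_mul]

theorem Φ_z (c : F) : D.Φ 0 0 c = D.z c := by
  unfold Φ; rw [D.A.psi_zero, D.y_zero, mul_one, one_mul]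

theorem S1' : D.B.ψ 1 * D.A.ψ 1 * (D.B.ψ 1)⁻¹ = D.Φ 1 (-1) 1 := by
  rw [D.S1]
  have h1 : D.A.t * (D.B.ψ 1)⁻¹ * D.A.t⁻¹ = D.y (-1) := by
    unfold y; rw [D.B.psi_neg]
  rw [h1, D.tB_a]
  unfold Φ
  have c1 : Commute (D.z 1 * D.y (-1)) (D.A.ψ 1) :=
    (D.K1 1 1).symm.mul_left (D.K2 1 (-1)).symm
  rw [c1.eq, (D.K3 1 (-1)).eq, ← mul_assoc]

theorem K5 (s t : F) : D.B.ψ s * D.A.ψ t * (D.B.ψ s)⁻¹ = D.Φ t (-(s * t)) (s ^ 2 * t) := by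
  by_cases hs : s = 0
  · subst hs
    rw [D.B.psi_zero, zero_mul, neg_zero, zero_pow two_ne_zero, zero_mul, D.Φ_a]
    group
  obtain ⟨a, rfl⟩ := D.hgen s hs
  refine eq_of_span D.hspan (fun t => D.B.ψ (ζ ^ a) * D.A.ψ t * (D.B.ψ (ζ ^ a))⁻¹)
    (fun t => D.Φ t (-(ζ ^ a * t)) ((ζ ^ a) ^ 2 * t)) (conj_add D.A.ψ D.A.add _)
    (fun t t' => ?_) (fun k => ?_) t
  · show D.Φ (t + t') (-(ζ ^ a * (t + t'))) ((ζ ^ a) ^ 2 * (t + t')) =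
      D.Φ t (-(ζ ^ a * t)) ((ζ ^ a) ^ 2 * t) * D.Φ t' (-(ζ ^ a * t')) ((ζ ^ a) ^ 2 * t')
    rw [D.Φ_mul]
    exact D.Φ_congr rfl (by ring) (by ring)
  · show D.B.ψ (ζ ^ a) * D.A.ψ (ζ ^ (2 * k)) * (D.B.ψ (ζ ^ a))⁻¹ =
      D.Φ (ζ ^ (2 * k)) (-(ζ ^ a * ζ ^ (2 * k))) ((ζ ^ a) ^ 2 * ζ ^ (2 * k))
    obtain ⟨g, hg⟩ : ∃ g, g = D.A.h ^ (a + 2 * k) * D.B.h ^ (a + k) := ⟨_, rfl⟩
    have hb := D.tor_b (a + 2 * k) (a + k) 1
    have ha := D.tor_a (a + 2 * k) (a + k) 1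
    have hy := D.tor_y (a + 2 * k) (a + k) (-1)
    have hz := D.tor_z (a + 2 * k) (a + k) 1
    rw [← hg] at hb ha hy hz
    have e1 : (a + 2 * k) * -1 + (a + k) * 2 = a := by ring
    have e2 : (a + 2 * k) * 2 + (a + k) * -2 = 2 * k := by ring
    have e3 : (a + 2 * k) * 1 + (a + k) * 0 = a + 2 * k := by ring
    have e4 : (a + 2 * k) * 0 + (a + k) * 2 = a + a + 2 * k := by ring
    rw [e1, mul_one] at hb
    rw [e2, mul_one] at ha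
    rw [e3, mul_neg_one, zpow_add₀ D.hζ] at hy
    rw [e4, mul_one, zpow_add₀ D.hζ, zpow_add₀ D.hζ, ← pow_two] at hz
    have key : g * (D.B.ψ 1 * D.A.ψ 1 * (D.B.ψ 1)⁻¹) * g⁻¹ = g * D.Φ 1 (-1) 1 * g⁻¹ := by
      rw [D.S1']
    have l1 : g * (D.B.ψ 1 * D.A.ψ 1 * (D.B.ψ 1)⁻¹) * g⁻¹ =
        (g * D.B.ψ 1 * g⁻¹) * (g * D.A.ψ 1 * g⁻¹) * (g * D.B.ψ 1 * g⁻¹)⁻¹ := by group
    have l2 : g * D.Φ 1 (-1) 1 * g⁻¹ =
        (g * D.A.ψ 1 * g⁻¹) * (g * D.y (-1) * g⁻¹) * (g * D.z 1 * g⁻¹) := by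
      unfold Φ; group
    rw [l1, l2, hb, ha, hy, hz] at key
    exact key

theorem K6 (s t : F) : D.B.ψ s * D.y t * (D.B.ψ s)⁻¹ = D.Φ 0 t (-(2 * s * t)) := by
  have e1 := D.K5 (s + 1) (-t)
  have e2 := D.K5 1 (-t)
  have e3 := D.K5 s (-t)
  rw [D.B.add s 1] at e1
  have e4 : D.B.ψ s * D.B.ψ 1 * D.A.ψ (-t) * (D.B.ψ s * D.B.ψ 1)⁻¹ =
      D.B.ψ s * (D.B.ψ 1 * D.A.ψ (-t) * (D.B.ψ 1)⁻¹) * (D.B.ψ s)⁻¹ := by group
  rw [e4, e2] at e1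
  have e5 : D.B.ψ s * D.Φ (-t) (-(1 * -t)) (1 ^ 2 * -t) * (D.B.ψ s)⁻¹ =
      (D.B.ψ s * D.A.ψ (-t) * (D.B.ψ s)⁻¹) * (D.B.ψ s * D.y (-(1 * -t)) * (D.B.ψ s)⁻¹) *
        (D.B.ψ s * D.z (1 ^ 2 * -t) * (D.B.ψ s)⁻¹) := by
    unfold Φ; group
  have e6 : D.B.ψ s * D.z (1 ^ 2 * -t) * (D.B.ψ s)⁻¹ = D.z (1 ^ 2 * -t) :=
    (commute_iff_conj _ _).mp (D.K4 s _).symm
  rw [e5, e3, e6] at e1
  have e7 : (-(1 * -t) : F) = t := by ring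
  rw [e7] at e1
  have e8 : D.B.ψ s * D.y t * (D.B.ψ s)⁻¹ =
      (D.Φ (-t) (-(s * -t)) (s ^ 2 * -t))⁻¹ * D.Φ (-t) (-((s + 1) * -t)) ((s + 1) ^ 2 * -t) *
        (D.z (1 ^ 2 * -t))⁻¹ := by
    rw [← e1]; group
  rw [e8, D.Φ_inv, ← D.z_neg, ← D.Φ_z, D.Φ_mul, D.Φ_mul]
  exact D.Φ_congr (by ring) (by ring) (by ring)

end C2Data

end Cfsg.Agent.Lib.Helper9.SP4P
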