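import Mathlib
import Cfsg.Agent.Lib.Helper9.SP4P4

set_option autoImplicit false

/-!
# Presentations of `Sp₄(q)`: the parabolic subgroup of the abstract group
-/

namespace Cfsg.Agent.Lib.Helper9.SP4P

open Cfsg.Agent.Lib.Helper9.SLP

namespace C2Data

variable {F : Type*} [Field F] [Fintype F] {G : Type*} [Group G] {ζ : F} (D : C2Data F G ζ)

/-- the unipotent radical -/
def V : Subgroup G where
  carrier := {g | ∃ a b c, g = D.Φ a b c}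
  mul_mem' := by
    rintro _ _ ⟨a, b, c, rfl⟩ ⟨a', b', c', rfl⟩
    exact ⟨_, _, _, D.Φ_mul _ _ _ _ _ _⟩
  one_mem' := ⟨0, 0, 0, D.Φ_zero.symm⟩
  inv_mem' := by
    rintro _ ⟨a, b, c, rfl⟩
    exact ⟨_, _, _, D.Φ_inv a b c⟩

theorem Φ_mem_V (a b c : F) : D.Φ a b c ∈ D.V := ⟨a, b, c, rfl⟩

theorem a_mem_V (a : F) : D.A.ψ a ∈ D.V := ⟨a, 0, 0, (D.Φ_a a).symm⟩

theorem y_mem_V (b : F) : D.y b ∈ D.V := ⟨0, b, 0, (D.Φ_y b).symm⟩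

theorem z_mem_V (c : F) : D.z c ∈ D.V := ⟨0, 0, c, (D.Φ_z c).symm⟩

theorem card_V : Finite D.V ∧ Nat.card D.V ≤ Fintype.card F ^ 3 := by
  have := card_of_forall_exists D.V (fun x : F × F × F => D.Φ x.1 x.2.1 x.2.2)
    (by rintro g ⟨a, b, c, rfl⟩; exact ⟨(a, b, c), rfl⟩)
  rw [Nat.card_prod, Nat.card_prod, Nat.card_eq_fintype_card (α := F)] at this
  exact ⟨this.1, this.2.trans (le_of_eq (by ring))⟩

theorem V_conj (g : G) (ha : ∀ s, g * D.A.ψ s * g⁻¹ ∈ D.V) (hy : ∀ s, g * D.y s * g⁻¹ ∈ D.V)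
    (hz : ∀ s, g * D.z s * g⁻¹ ∈ D.V) : ∀ v ∈ D.V, g * v * g⁻¹ ∈ D.V := by
  rintro _ ⟨a, b, c, rfl⟩
  have : g * D.Φ a b c * g⁻¹ =
      (g * D.A.ψ a * g⁻¹) * (g * D.y b * g⁻¹) * (g * D.z c * g⁻¹) := by
    unfold Φ; group
  rw [this]
  exact D.V.mul_mem (D.V.mul_mem (ha a) (hy b)) (hz c)

theorem V_conj_scales (g : G) {n1 n2 n3 : ℤ} (h1 : Scales ζ g D.A.ψ n1)
    (h2 : Scales ζ g D.y n2) (h3 : Scales ζ g D.z n3) : ∀ v ∈ D.V, g * v * g⁻¹ ∈ D.V :=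
  D.V_conj g (fun s => by rw [h1 s]; exact D.a_mem_V _) (fun s => by rw [h2 s]; exact D.y_mem_V _)
    (fun s => by rw [h3 s]; exact D.z_mem_V _)

theorem V_conj_b (s : F) : ∀ v ∈ D.V, D.B.ψ s * v * (D.B.ψ s)⁻¹ ∈ D.V :=
  D.V_conj _ (fun t => by rw [D.K5]; exact D.Φ_mem_V _ _ _)
    (fun t => by rw [D.K6]; exact D.Φ_mem_V _ _ _)
    (fun t => by rw [(commute_iff_conj _ _).mp (D.K4 s t).symm]; exact D.z_mem_V _)

theorem V_conj_binv (s : F) : ∀ v ∈ D.V, (D.B.ψ s)⁻¹ * v * D.B.ψ s ∈ D.V := by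
  intro v hv
  have := D.V_conj_b (-s) v hv
  rwa [D.B.psi_neg, inv_inv] at this

theorem V_conj_tB : ∀ v ∈ D.V, D.B.t * v * D.B.t⁻¹ ∈ D.V :=
  D.V_conj _ (fun s => by rw [D.tB_a]; exact D.z_mem_V _)
    (fun s => by rw [D.tB_y]; exact D.y_mem_V _)
    (fun s => by rw [D.tB_z]; exact D.a_mem_V _)

theorem V_conj_tBinv : ∀ v ∈ D.V, D.B.t⁻¹ * v * D.B.t ∈ D.V := by
  have := D.V_conj D.B.t⁻¹ (fun s => by rw [inv_inv, D.tBinv_a]; exact D.z_mem_V _)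
    (fun s => by rw [inv_inv, D.tBinv_y]; exact D.y_mem_V _)
    (fun s => by rw [inv_inv, D.tBinv_z]; exact D.a_mem_V _)
  intro v hv
  have h := this v hv
  rwa [inv_inv] at h

theorem b_mem_norm (s : F) : D.B.ψ s ∈ Subgroup.normalizer (D.V : Set G) :=
  mem_normalizer_of_both _ _ (D.V_conj_b s) (fun v hv => by
    have := D.V_conj_binv s v hv
    rwa [inv_inv])

theorem tB_mem_norm : D.B.t ∈ Subgroup.normalizer (D.V : Set G) :=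
  mem_normalizer_of_both _ _ D.V_conj_tB (fun v hv => by
    have := D.V_conj_tBinv v hv
    rwa [inv_inv])

theorem hA_mem_norm : D.A.h ∈ Subgroup.normalizer (D.V : Set G) :=
  mem_normalizer_of_both _ _ (D.V_conj_scales _ D.sAa D.sAy D.sAz)
    (D.V_conj_scales _ (D.sAa.inv D.hζ) (D.sAy.inv D.hζ) (D.sAz.inv D.hζ))

theorem hB_mem_norm : D.B.h ∈ Subgroup.normalizer (D.V : Set G) :=
  mem_normalizer_of_both _ _ (D.V_conj_scales _ D.sBa D.sBy D.sBz)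
    (D.V_conj_scales _ (D.sBa.inv D.hζ) (D.sBy.inv D.hζ) (D.sBz.inv D.hζ))

/-- the `SL₂` of the short root -/
def L : Subgroup G := Subgroup.closure {D.B.ψ 1, D.B.t, D.B.h}

/-- the Levi factor -/
def M : Subgroup G := Subgroup.zpowers D.A.h ⊔ D.L

/-- the parabolic subgroup -/
def P : Subgroup G := D.M ⊔ D.V

theorem L_le_norm : D.L ≤ Subgroup.normalizer (D.V : Set G) := by
  unfold L
  rw [Subgroup.closure_le]
  rintro x (rfl | rfl | rfl)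
  · exact D.b_mem_norm 1
  · exact D.tB_mem_norm
  · exact D.hB_mem_norm

theorem M_le_norm : D.M ≤ Subgroup.normalizer (D.V : Set G) := by
  unfold M
  exact sup_le ((Subgroup.zpowers_le).mpr D.hA_mem_norm) D.L_le_norm

theorem tB_mem_L : D.B.t ∈ D.L := Subgroup.subset_closure (by simp)

theorem hB_mem_L : D.B.h ∈ D.L := Subgroup.subset_closure (by simp)

theorem b_mem_L (s : F) : D.B.ψ s ∈ D.L := D.B.mem s

theorem hA_conj_L : ∀ x ∈ D.L, D.A.h * x * D.A.h⁻¹ ∈ D.L := by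
  show ∀ x ∈ Subgroup.closure {D.B.ψ 1, D.B.t, D.B.h}, D.A.h * x * D.A.h⁻¹ ∈ D.L
  apply conj_mem_of_gens
  rintro x (rfl | rfl | rfl)
  · rw [D.sAb 1]; exact D.b_mem_L _
  · have e : D.A.h * D.B.t * D.A.h⁻¹ = D.B.t * D.B.h := by
      calc D.A.h * D.B.t * D.A.h⁻¹
          = D.B.t * (D.B.t⁻¹ * D.A.h * D.B.t) * D.A.h⁻¹ := by group
        _ = D.B.t * (D.A.h * D.B.h) * D.A.h⁻¹ := by rw [D.tBinv_hA]
        _ = D.B.t * (D.B.h * D.A.h) * D.A.h⁻¹ := by rw [D.T0.eq]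
        _ = D.B.t * D.B.h := by group
    rw [e]
    exact D.L.mul_mem D.tB_mem_L D.hB_mem_L
  · rw [D.T0.eq, mul_inv_cancel_right]; exact D.hB_mem_L

theorem hAinv_conj_L : ∀ x ∈ D.L, D.A.h⁻¹ * x * D.A.h⁻¹⁻¹ ∈ D.L := by
  show ∀ x ∈ Subgroup.closure {D.B.ψ 1, D.B.t, D.B.h}, D.A.h⁻¹ * x * D.A.h⁻¹⁻¹ ∈ D.L
  apply conj_mem_of_gens
  rintro x (rfl | rfl | rfl)
  · rw [(D.sAb.inv D.hζ) 1]; exact D.b_mem_L _
  · have e : D.A.h⁻¹ * D.B.t * D.A.h⁻¹⁻¹ = D.B.h * D.B.t := by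
      calc D.A.h⁻¹ * D.B.t * D.A.h⁻¹⁻¹
          = D.A.h⁻¹ * (D.B.t * D.A.h * D.B.t⁻¹) * D.B.t := by group
        _ = D.A.h⁻¹ * (D.A.h * D.B.h) * D.B.t := by rw [D.T3]
        _ = D.B.h * D.B.t := by group
    rw [e]
    exact D.L.mul_mem D.hB_mem_L D.tB_mem_L
  · rw [inv_inv, D.T0.inv_left.eq, inv_mul_cancel_right]; exact D.hB_mem_L

theorem hA_mem_norm_L : D.A.h ∈ Subgroup.normalizer (D.L : Set G) :=
  mem_normalizer_of_both _ _ D.hA_conj_L D.hAinv_conj_L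

theorem card_M : Finite D.M ∧ Nat.card D.M ≤
    (Fintype.card F * (Fintype.card F - 1) * (Fintype.card F + 1)) * (Fintype.card F - 1) := by
  obtain ⟨hLfin, hLcard⟩ : Finite D.L ∧ Nat.card D.L ≤
      Fintype.card F * (Fintype.card F - 1) * (Fintype.card F + 1) := D.B.card_closure
  haveI := hLfin
  haveI : Finite (Subgroup.zpowers D.A.h) := D.A.isOfFinOrder_h.finite_zpowers.to_subtype
  have hnorm : ∀ h ∈ Subgroup.zpowers D.A.h, ∀ n ∈ D.L, h * n * h⁻¹ ∈ D.L := by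
    intro h hh n hn
    have : h ∈ Subgroup.normalizer (D.L : Set G) :=
      (Subgroup.zpowers_le.mpr D.hA_mem_norm_L) hh
    exact (Subgroup.mem_normalizer_iff.mp this n).mp hn
  obtain ⟨hfin, hcard⟩ := card_sup_le (Subgroup.zpowers D.A.h) D.L hnorm
  refine ⟨hfin, hcard.trans ?_⟩
  rw [Nat.card_zpowers]
  exact Nat.mul_le_mul hLcard D.A.orderOf_h_le

theorem card_P : Finite D.P ∧ Nat.card D.P ≤ Fintype.card F ^ 3 *
    ((Fintype.card F * (Fintype.card F - 1) * (Fintype.card F + 1)) * (Fintype.card F - 1)) := by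
  obtain ⟨hVfin, hVcard⟩ := D.card_V
  obtain ⟨hMfin, hMcard⟩ := D.card_M
  haveI := hVfin
  haveI := hMfin
  have hnorm : ∀ h ∈ D.M, ∀ n ∈ D.V, h * n * h⁻¹ ∈ D.V := by
    intro h hh n hn
    exact (Subgroup.mem_normalizer_iff.mp (D.M_le_norm hh) n).mp hn
  obtain ⟨hfin, hcard⟩ := card_sup_le D.M D.V hnorm
  exact ⟨hfin, hcard.trans (Nat.mul_le_mul hVcard hMcard)⟩

theorem V_le_P : D.V ≤ D.P := le_sup_right

theorem M_le_P : D.M ≤ D.P := le_sup_left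

theorem L_le_P : D.L ≤ D.P := le_trans le_sup_right D.M_le_P

theorem a_mem_P (s : F) : D.A.ψ s ∈ D.P := D.V_le_P (D.a_mem_V s)

theorem y_mem_P (s : F) : D.y s ∈ D.P := D.V_le_P (D.y_mem_V s)

theorem z_mem_P (s : F) : D.z s ∈ D.P := D.V_le_P (D.z_mem_V s)

theorem Φ_mem_P (a b c : F) : D.Φ a b c ∈ D.P := D.V_le_P (D.Φ_mem_V a b c)

theorem b_mem_P (s : F) : D.B.ψ s ∈ D.P := D.L_le_P (D.b_mem_L s)

theorem tB_mem_P : D.B.t ∈ D.P := D.L_le_P D.tB_mem_L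

theorem hB_mem_P : D.B.h ∈ D.P := D.L_le_P D.hB_mem_L

theorem hA_mem_P : D.A.h ∈ D.P :=
  D.M_le_P ((le_sup_left : Subgroup.zpowers D.A.h ≤ Subgroup.zpowers D.A.h ⊔ D.L)
    (Subgroup.mem_zpowers D.A.h))

/-- the torus -/
def Tor : Subgroup G := Subgroup.closure {D.A.h, D.B.h}

theorem hA_mem_Tor : D.A.h ∈ D.Tor := Subgroup.subset_closure (by simp)

theorem hB_mem_Tor : D.B.h ∈ D.Tor := Subgroup.subset_closure (by simp)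

theorem Tor_le_P : D.Tor ≤ D.P := by
  unfold Tor
  rw [Subgroup.closure_le]
  rintro x (rfl | rfl)
  · exact D.hA_mem_P
  · exact D.hB_mem_P

theorem tA_Tor : ∀ g ∈ D.Tor, D.A.t * g * D.A.t⁻¹ ∈ D.Tor := by
  show ∀ g ∈ Subgroup.closure {D.A.h, D.B.h}, D.A.t * g * D.A.t⁻¹ ∈ D.Tor
  apply conj_mem_of_gens
  rintro x (rfl | rfl)
  · rw [D.A.th]; exact D.Tor.inv_mem D.hA_mem_Tor
  · rw [D.T4]
    exact D.Tor.mul_mem D.hB_mem_Tor (D.Tor.mul_mem D.hA_mem_Tor D.hA_mem_Tor)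

theorem tB_Tor : ∀ g ∈ D.Tor, D.B.t * g * D.B.t⁻¹ ∈ D.Tor := by
  show ∀ g ∈ Subgroup.closure {D.A.h, D.B.h}, D.B.t * g * D.B.t⁻¹ ∈ D.Tor
  apply conj_mem_of_gens
  rintro x (rfl | rfl)
  · rw [D.T3]; exact D.Tor.mul_mem D.hA_mem_Tor D.hB_mem_Tor
  · rw [D.B.th]; exact D.Tor.inv_mem D.hB_mem_Tor

theorem Tor_scales : ∀ g ∈ D.Tor, (∃ n, Scales ζ g D.A.ψ n) ∧ (∃ n, Scales ζ g D.B.ψ n) ∧
    (∃ n, Scales ζ g D.y n) ∧ (∃ n, Scales ζ g D.z n) := by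
  intro g hg
  have hg' : g ∈ Subgroup.closure {D.A.h, D.B.h} := hg
  induction hg' using Subgroup.closure_induction with
  | mem x hx =>
    rcases hx with rfl | rfl
    · exact ⟨⟨_, D.sAa⟩, ⟨_, D.sAb⟩, ⟨_, D.sAy⟩, ⟨_, D.sAz⟩⟩
    · exact ⟨⟨_, D.sBa⟩, ⟨_, D.sBb⟩, ⟨_, D.sBy⟩, ⟨_, D.sBz⟩⟩
  | one =>
    exact ⟨⟨0, Scales.one ζ _⟩, ⟨0, Scales.one ζ _⟩, ⟨0, Scales.one ζ _⟩, ⟨0, Scales.one ζ _⟩⟩
  | mul x y _ _ ihx ihy =>
    obtain ⟨⟨n1, h1⟩, ⟨n2, h2⟩, ⟨n3, h3⟩, ⟨n4, h4⟩⟩ := ihx (Subgroup.mem_closure.mpr (fun K hK => by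
      exact (Subgroup.closure_le K).mpr hK ‹_›))
    obtain ⟨⟨m1, k1⟩, ⟨m2, k2⟩, ⟨m3, k3⟩, ⟨m4, k4⟩⟩ := ihy (Subgroup.mem_closure.mpr (fun K hK => by
      exact (Subgroup.closure_le K).mpr hK ‹_›))
    exact ⟨⟨_, h1.mul D.hζ k1⟩, ⟨_, h2.mul D.hζ k2⟩, ⟨_, h3.mul D.hζ k3⟩, ⟨_, h4.mul D.hζ k4⟩⟩
  | inv x _ ih =>
    obtain ⟨⟨n1, h1⟩, ⟨n2, h2⟩, ⟨n3, h3⟩, ⟨n4, h4⟩⟩ := ih (Subgroup.mem_closure.mpr (fun K hK => by
      exact (Subgroup.closure_le K).mpr hK ‹_›))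
    exact ⟨⟨_, h1.inv D.hζ⟩, ⟨_, h2.inv D.hζ⟩, ⟨_, h3.inv D.hζ⟩, ⟨_, h4.inv D.hζ⟩⟩

end C2Data

end Cfsg.Agent.Lib.Helper9.SP4P
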