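import Mathlib
import Cfsg.Agent.Lib.Helper9.SP4P5

set_option autoImplicit false

/-!
# Presentations of `Sp₄(q)`: the cells of the abstract group and the order bound
-/

namespace Cfsg.Agent.Lib.Helper9.SP4P

open Cfsg.Agent.Lib.Helper9.SLP

namespace C2Data

variable {F : Type*} [Field F] [Fintype F] {G : Type*} [Group G] {ζ : F} (D : C2Data F G ζ)

/-- the cell of `s₁` -/
def C1 : Set G := {g | ∃ p ∈ D.P, ∃ a, g = p * D.A.t * D.A.ψ a}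

/-- the cell of `s₁ s₂` -/
def C2 : Set G := {g | ∃ p ∈ D.P, ∃ b c, g = p * D.A.t * D.B.t * D.B.ψ b * D.z c}

/-- the cell of `s₁ s₂ s₁` -/
def C3 : Set G := {g | ∃ p ∈ D.P, ∃ a b c, g = p * D.A.t * D.B.t * D.A.t * D.Φ a b c}

theorem P_mul_tA {p : G} (hp : p ∈ D.P) : p * D.A.t ∈ D.C1 :=
  ⟨p, hp, 0, by rw [D.A.psi_zero, mul_one]⟩

theorem C1_mul_a {g : G} (hg : g ∈ D.C1) (s : F) : g * D.A.ψ s ∈ D.C1 := by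
  obtain ⟨p, hp, a, rfl⟩ := hg
  exact ⟨p, hp, a + s, by rw [D.A.add, ← mul_assoc]⟩

theorem C1_mul_b {g : G} (hg : g ∈ D.C1) (s : F) : g * D.B.ψ s ∈ D.C1 := by
  obtain ⟨p, hp, a, rfl⟩ := hg
  have h5 := D.K5 (-s) a
  rw [D.B.psi_neg, inv_inv] at h5
  obtain ⟨b, hb⟩ : ∃ b, b = -(-s * a) := ⟨_, rfl⟩
  obtain ⟨c, hc⟩ : ∃ c, c = (-s) ^ 2 * a := ⟨_, rfl⟩
  rw [← hb, ← hc] at h5
  have h6 : D.A.ψ a * D.B.ψ s = D.B.ψ s * (D.y b * D.z c * D.A.ψ a) := by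
    have e : D.Φ a b c = D.y b * D.z c * D.A.ψ a := by
      unfold Φ
      rw [mul_assoc, ((D.K2 a b).mul_right (D.K1 a c)).eq]
    rw [← e, ← h5]; group
  refine ⟨p * D.y s * D.B.ψ (-b) * D.z c, ?_, a, ?_⟩
  · exact D.P.mul_mem (D.P.mul_mem (D.P.mul_mem hp (D.y_mem_P s)) (D.b_mem_P _)) (D.z_mem_P c)
  · calc p * D.A.t * D.A.ψ a * D.B.ψ s = p * D.A.t * (D.A.ψ a * D.B.ψ s) := by group
      _ = p * D.A.t * (D.B.ψ s * (D.y b * D.z c * D.A.ψ a)) := by rw [h6]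
      _ = p * (D.A.t * D.B.ψ s * D.A.t⁻¹) * (D.A.t * D.y b * D.A.t⁻¹) *
            (D.A.t * D.z c * D.A.t⁻¹) * D.A.t * D.A.ψ a := by group
      _ = p * D.y s * D.B.ψ (-b) * D.z c * D.A.t * D.A.ψ a := by
          rw [D.tA_b, D.tA_y, D.tA_z]

theorem C1_mul_Tor {g : G} (hg : g ∈ D.C1) {h : G} (hh : h ∈ D.Tor) : g * h ∈ D.C1 := by
  obtain ⟨p, hp, a, rfl⟩ := hg
  obtain ⟨⟨n, hn⟩, -, -, -⟩ := D.Tor_scales h⁻¹ (D.Tor.inv_mem hh)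
  refine ⟨p * (D.A.t * h * D.A.t⁻¹), D.P.mul_mem hp (D.Tor_le_P (D.tA_Tor h hh)), ζ ^ n * a, ?_⟩
  calc p * D.A.t * D.A.ψ a * h
      = p * (D.A.t * h * D.A.t⁻¹) * D.A.t * (h⁻¹ * D.A.ψ a * h⁻¹⁻¹) := by group
    _ = p * (D.A.t * h * D.A.t⁻¹) * D.A.t * D.A.ψ (ζ ^ n * a) := by rw [hn a]

theorem C1_mul_tB {g : G} (hg : g ∈ D.C1) : g * D.B.t ∈ D.C2 := by
  obtain ⟨p, hp, a, rfl⟩ := hg
  refine ⟨p, hp, 0, a, ?_⟩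
  calc p * D.A.t * D.A.ψ a * D.B.t
      = p * D.A.t * D.B.t * (D.B.t⁻¹ * D.A.ψ a * D.B.t) := by group
    _ = p * D.A.t * D.B.t * D.B.ψ 0 * D.z a := by rw [D.tBinv_a, D.B.psi_zero, mul_one]

theorem C2_mul_a {g : G} (hg : g ∈ D.C2) (s : F) : g * D.A.ψ s ∈ D.C2 := by
  obtain ⟨p, hp, b, c, rfl⟩ := hg
  have h5 := D.K5 b s
  obtain ⟨u, hu⟩ : ∃ u, u = -(b * s) := ⟨_, rfl⟩
  obtain ⟨v, hv⟩ : ∃ v, v = b ^ 2 * s := ⟨_, rfl⟩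
  rw [← hu, ← hv] at h5
  have h6 : D.B.ψ b * D.z c * D.A.ψ s = D.A.ψ s * D.y u * D.B.ψ b * D.z (v + c) := by
    calc D.B.ψ b * D.z c * D.A.ψ s = D.B.ψ b * (D.z c * D.A.ψ s) := by group
      _ = D.B.ψ b * (D.A.ψ s * D.z c) := by rw [(D.K1 s c).eq]
      _ = (D.B.ψ b * D.A.ψ s * (D.B.ψ b)⁻¹) * D.B.ψ b * D.z c := by group
      _ = D.Φ s u v * D.B.ψ b * D.z c := by rw [h5]
      _ = D.A.ψ s * D.y u * (D.z v * D.B.ψ b) * D.z c := by unfold Φ; group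
      _ = D.A.ψ s * D.y u * (D.B.ψ b * D.z v) * D.z c := by rw [(D.K4 b v).eq]
      _ = D.A.ψ s * D.y u * D.B.ψ b * D.z (v + c) := by rw [D.z_add]; group
  refine ⟨p * D.z s * D.B.ψ u, D.P.mul_mem (D.P.mul_mem hp (D.z_mem_P s)) (D.b_mem_P u),
    b, v + c, ?_⟩
  calc p * D.A.t * D.B.t * D.B.ψ b * D.z c * D.A.ψ s
      = p * D.A.t * D.B.t * (D.B.ψ b * D.z c * D.A.ψ s) := by group
    _ = p * D.A.t * D.B.t * (D.A.ψ s * D.y u * D.B.ψ b * D.z (v + c)) := by rw [h6]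
    _ = p * (D.A.t * (D.B.t * D.A.ψ s * D.B.t⁻¹) * D.A.t⁻¹) *
          (D.A.t * (D.B.t * D.y u * D.B.t⁻¹) * D.A.t⁻¹) * D.A.t * D.B.t * D.B.ψ b *
            D.z (v + c) := by group
    _ = p * D.z s * D.B.ψ u * D.A.t * D.B.t * D.B.ψ b * D.z (v + c) := by
        rw [D.tB_a, D.tA_z, D.tB_y, D.tA_y, neg_neg]

theorem C2_mul_b {g : G} (hg : g ∈ D.C2) (s : F) : g * D.B.ψ s ∈ D.C2 := by
  obtain ⟨p, hp, b, c, rfl⟩ := hg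
  refine ⟨p, hp, b + s, c, ?_⟩
  calc p * D.A.t * D.B.t * D.B.ψ b * D.z c * D.B.ψ s
      = p * D.A.t * D.B.t * D.B.ψ b * (D.z c * D.B.ψ s) := by group
    _ = p * D.A.t * D.B.t * D.B.ψ b * (D.B.ψ s * D.z c) := by rw [(D.K4 s c).eq]
    _ = p * D.A.t * D.B.t * D.B.ψ (b + s) * D.z c := by rw [D.B.add]; group

theorem C2_mul_z {g : G} (hg : g ∈ D.C2) (s : F) : g * D.z s ∈ D.C2 := by
  obtain ⟨p, hp, b, c, rfl⟩ := hg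
  exact ⟨p, hp, b, c + s, by rw [D.z_add, ← mul_assoc]⟩

theorem C2_mul_Tor {g : G} (hg : g ∈ D.C2) {h : G} (hh : h ∈ D.Tor) : g * h ∈ D.C2 := by
  obtain ⟨p, hp, b, c, rfl⟩ := hg
  obtain ⟨-, ⟨n, hn⟩, -, ⟨m, hm⟩⟩ := D.Tor_scales h⁻¹ (D.Tor.inv_mem hh)
  refine ⟨p * (D.A.t * (D.B.t * h * D.B.t⁻¹) * D.A.t⁻¹),
    D.P.mul_mem hp (D.Tor_le_P (D.tA_Tor _ (D.tB_Tor h hh))), ζ ^ n * b, ζ ^ m * c, ?_⟩
  calc p * D.A.t * D.B.t * D.B.ψ b * D.z c * h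
      = p * (D.A.t * (D.B.t * h * D.B.t⁻¹) * D.A.t⁻¹) * D.A.t * D.B.t *
          (h⁻¹ * D.B.ψ b * h⁻¹⁻¹) * (h⁻¹ * D.z c * h⁻¹⁻¹) := by group
    _ = p * (D.A.t * (D.B.t * h * D.B.t⁻¹) * D.A.t⁻¹) * D.A.t * D.B.t *
          D.B.ψ (ζ ^ n * b) * D.z (ζ ^ m * c) := by rw [hn b, hm c]

theorem C2_mul_tA {g : G} (hg : g ∈ D.C2) : g * D.A.t ∈ D.C3 := by
  obtain ⟨p, hp, b, c, rfl⟩ := hg
  refine ⟨p, hp, 0, -b, c, ?_⟩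
  calc p * D.A.t * D.B.t * D.B.ψ b * D.z c * D.A.t
      = p * D.A.t * D.B.t * D.A.t *
          ((D.A.t⁻¹ * D.B.ψ b * D.A.t) * (D.A.t⁻¹ * D.z c * D.A.t)) := by group
    _ = p * D.A.t * D.B.t * D.A.t * D.Φ 0 (-b) c := by
        rw [D.tAinv_b, D.tAinv_z]; unfold Φ; rw [D.A.psi_zero, one_mul]

theorem C3_mul_V {g : G} (hg : g ∈ D.C3) {v : G} (hv : v ∈ D.V) : g * v ∈ D.C3 := by
  obtain ⟨p, hp, a, b, c, rfl⟩ := hg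
  obtain ⟨a', b', c', rfl⟩ := hv
  exact ⟨p, hp, a + a', b + b', c + c', by rw [mul_assoc, D.Φ_mul]⟩

theorem C3_mul_b {g : G} (hg : g ∈ D.C3) (s : F) : g * D.B.ψ s ∈ D.C3 := by
  obtain ⟨p, hp, a, b, c, rfl⟩ := hg
  obtain ⟨a', b', c', hv'⟩ := D.V_conj_binv s _ (D.Φ_mem_V a b c)
  refine ⟨p * D.B.ψ s, D.P.mul_mem hp (D.b_mem_P s), a', b', c', ?_⟩
  calc p * D.A.t * D.B.t * D.A.t * D.Φ a b c * D.B.ψ s
      = p * (D.A.t * (D.B.t * (D.A.t * D.B.ψ s * D.A.t⁻¹) * D.B.t⁻¹) * D.A.t⁻¹) *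
          D.A.t * D.B.t * D.A.t * ((D.B.ψ s)⁻¹ * D.Φ a b c * D.B.ψ s) := by group
    _ = p * D.B.ψ s * D.A.t * D.B.t * D.A.t * D.Φ a' b' c' := by
        rw [D.tA_b, D.tB_y, D.tA_y, neg_neg, hv']

theorem C3_mul_Tor {g : G} (hg : g ∈ D.C3) {h : G} (hh : h ∈ D.Tor) : g * h ∈ D.C3 := by
  obtain ⟨p, hp, a, b, c, rfl⟩ := hg
  obtain ⟨⟨n1, h1⟩, -, ⟨n3, h3⟩, ⟨n4, h4⟩⟩ := D.Tor_scales h⁻¹ (D.Tor.inv_mem hh)
  refine ⟨p * (D.A.t * (D.B.t * (D.A.t * h * D.A.t⁻¹) * D.B.t⁻¹) * D.A.t⁻¹),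
    D.P.mul_mem hp (D.Tor_le_P (D.tA_Tor _ (D.tB_Tor _ (D.tA_Tor h hh)))),
    ζ ^ n1 * a, ζ ^ n3 * b, ζ ^ n4 * c, ?_⟩
  calc p * D.A.t * D.B.t * D.A.t * D.Φ a b c * h
      = p * (D.A.t * (D.B.t * (D.A.t * h * D.A.t⁻¹) * D.B.t⁻¹) * D.A.t⁻¹) * D.A.t * D.B.t *
          D.A.t * ((h⁻¹ * D.A.ψ a * h⁻¹⁻¹) * (h⁻¹ * D.y b * h⁻¹⁻¹) * (h⁻¹ * D.z c * h⁻¹⁻¹)) := by
        unfold Φ; group
    _ = p * (D.A.t * (D.B.t * (D.A.t * h * D.A.t⁻¹) * D.B.t⁻¹) * D.A.t⁻¹) * D.A.t * D.B.t *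
          D.A.t * (D.A.ψ (ζ ^ n1 * a) * D.y (ζ ^ n3 * b) * D.z (ζ ^ n4 * c)) := by
        rw [h1 a, h3 b, h4 c]

theorem C3_mul_tB {g : G} (hg : g ∈ D.C3) : g * D.B.t ∈ D.C3 := by
  obtain ⟨p, hp, a, b, c, rfl⟩ := hg
  obtain ⟨a', b', c', hv'⟩ := D.V_conj_tBinv _ (D.Φ_mem_V a b c)
  refine ⟨p * D.B.t, D.P.mul_mem hp D.tB_mem_P, a', b', c', ?_⟩
  calc p * D.A.t * D.B.t * D.A.t * D.Φ a b c * D.B.t
      = p * (D.A.t * D.B.t * D.A.t * D.B.t) * (D.B.t⁻¹ * D.Φ a b c * D.B.t) := by group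
    _ = p * (D.B.t * D.A.t * D.B.t * D.A.t) * D.Φ a' b' c' := by rw [D.Br, hv']
    _ = p * D.B.t * D.A.t * D.B.t * D.A.t * D.Φ a' b' c' := by group

theorem C1_mul_tA {g : G} (hg : g ∈ D.C1) : g * D.A.t ∈ D.P ∨ g * D.A.t ∈ D.C1 := by
  obtain ⟨p, hp, a, rfl⟩ := hg
  by_cases ha : a = 0
  · left
    subst ha
    rw [D.A.psi_zero, mul_one, mul_assoc, D.A.tt]
    exact D.P.mul_mem hp (D.P.pow_mem D.hA_mem_P _)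
  · right
    obtain ⟨m, hm⟩ := D.A.weyl a ha
    have e : p * D.A.t * D.A.ψ a * D.A.t =
        p * D.A.ψ (-a⁻¹) * D.A.h ^ m * D.A.t * D.A.ψ (-a⁻¹) * D.A.h ^ D.A.j0 := by
      calc p * D.A.t * D.A.ψ a * D.A.t
          = p * (D.A.t * D.A.ψ a * D.A.t⁻¹) * (D.A.t * D.A.t) := by group
        _ = p * (D.A.ψ (-a⁻¹) * D.A.h ^ m * D.A.t * D.A.ψ (-a⁻¹)) * D.A.h ^ D.A.j0 := by
            rw [hm, D.A.tt]
        _ = p * D.A.ψ (-a⁻¹) * D.A.h ^ m * D.A.t * D.A.ψ (-a⁻¹) * D.A.h ^ D.A.j0 := by group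
    rw [e]
    have hp' : p * D.A.ψ (-a⁻¹) * D.A.h ^ m ∈ D.P :=
      D.P.mul_mem (D.P.mul_mem hp (D.a_mem_P _)) (D.P.zpow_mem D.hA_mem_P m)
    exact D.C1_mul_Tor (D.C1_mul_a (D.P_mul_tA hp') _) (D.Tor.pow_mem D.hA_mem_Tor _)

theorem C2_mul_tB {g : G} (hg : g ∈ D.C2) : g * D.B.t ∈ D.C1 ∨ g * D.B.t ∈ D.C2 := by
  obtain ⟨p, hp, b, c, rfl⟩ := hg
  have hc1 : p * D.A.t * D.A.ψ c ∈ D.C1 := ⟨p, hp, c, rfl⟩
  by_cases hb : b = 0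
  · left
    subst hb
    have e : p * D.A.t * D.B.t * D.B.ψ 0 * D.z c * D.B.t =
        p * D.A.t * D.A.ψ c * D.B.h ^ D.B.j0 := by
      rw [D.B.psi_zero, mul_one]
      calc p * D.A.t * D.B.t * D.z c * D.B.t
          = p * D.A.t * (D.B.t * D.z c * D.B.t⁻¹) * (D.B.t * D.B.t) := by group
        _ = p * D.A.t * D.A.ψ c * D.B.h ^ D.B.j0 := by rw [D.tB_z, D.B.tt]
    rw [e]
    exact D.C1_mul_Tor hc1 (D.Tor.pow_mem D.hB_mem_Tor _)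
  · right
    obtain ⟨m, hm⟩ := D.B.weyl b hb
    have e : p * D.A.t * D.B.t * D.B.ψ b * D.z c * D.B.t =
        p * D.A.t * D.A.ψ c * D.B.ψ (-b⁻¹) * D.B.h ^ m * D.B.t * D.B.ψ (-b⁻¹) *
          D.B.h ^ D.B.j0 := by
      calc p * D.A.t * D.B.t * D.B.ψ b * D.z c * D.B.t
          = p * D.A.t * D.B.t * (D.B.ψ b * D.z c) * D.B.t := by group
        _ = p * D.A.t * D.B.t * (D.z c * D.B.ψ b) * D.B.t := by rw [(D.K4 b c).eq]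
        _ = p * D.A.t * (D.B.t * D.z c * D.B.t⁻¹) * (D.B.t * D.B.ψ b * D.B.t⁻¹) *
              (D.B.t * D.B.t) := by group
        _ = p * D.A.t * D.A.ψ c * (D.B.ψ (-b⁻¹) * D.B.h ^ m * D.B.t * D.B.ψ (-b⁻¹)) *
              D.B.h ^ D.B.j0 := by rw [D.tB_z, hm, D.B.tt]
        _ = p * D.A.t * D.A.ψ c * D.B.ψ (-b⁻¹) * D.B.h ^ m * D.B.t * D.B.ψ (-b⁻¹) *
              D.B.h ^ D.B.j0 := by group
    rw [e]
    exact D.C2_mul_Tor (D.C2_mul_b (D.C1_mul_tB (D.C1_mul_Tor (D.C1_mul_b hc1 _)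
      (D.Tor.zpow_mem D.hB_mem_Tor m))) _) (D.Tor.pow_mem D.hB_mem_Tor _)

theorem C3_mul_tA {g : G} (hg : g ∈ D.C3) : g * D.A.t ∈ D.C2 ∨ g * D.A.t ∈ D.C3 := by
  obtain ⟨p, hp, a, b, c, rfl⟩ := hg
  have hc2 : p * D.A.t * D.B.t ∈ D.C2 :=
    ⟨p, hp, 0, 0, by rw [D.B.psi_zero, D.z_zero, mul_one, mul_one]⟩
  have e0 : p * D.A.t * D.B.t * D.A.t * D.Φ a b c * D.A.t =
      p * D.A.t * D.B.t * (D.A.t * D.A.ψ a * D.A.t⁻¹) * (D.A.t * D.A.t) * D.B.ψ b * D.z c := by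
    calc p * D.A.t * D.B.t * D.A.t * D.Φ a b c * D.A.t
        = p * D.A.t * D.B.t * (D.A.t * D.A.ψ a * D.A.t⁻¹) * (D.A.t * D.A.t) *
            (D.A.t⁻¹ * D.y b * D.A.t) * (D.A.t⁻¹ * D.z c * D.A.t) := by unfold Φ; group
      _ = p * D.A.t * D.B.t * (D.A.t * D.A.ψ a * D.A.t⁻¹) * (D.A.t * D.A.t) * D.B.ψ b *
            D.z c := by rw [D.tAinv_y, D.tAinv_z]
  rw [e0, D.A.tt]
  by_cases ha : a = 0
  · left
    subst ha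
    rw [D.A.psi_zero, mul_one, mul_inv_cancel, mul_one]
    exact D.C2_mul_z (D.C2_mul_b (D.C2_mul_Tor hc2 (D.Tor.pow_mem D.hA_mem_Tor _)) _) _
  · right
    obtain ⟨m, hm⟩ := D.A.weyl a ha
    rw [hm]
    have e : p * D.A.t * D.B.t * (D.A.ψ (-a⁻¹) * D.A.h ^ m * D.A.t * D.A.ψ (-a⁻¹)) *
        D.A.h ^ D.A.j0 * D.B.ψ b * D.z c =
        p * D.A.t * D.B.t * D.A.ψ (-a⁻¹) * D.A.h ^ m * D.A.t * D.A.ψ (-a⁻¹) *
          D.A.h ^ D.A.j0 * D.B.ψ b * D.z c := by group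
    rw [e]
    exact D.C3_mul_V (D.C3_mul_b (D.C3_mul_Tor (D.C3_mul_V (D.C2_mul_tA (D.C2_mul_Tor
      (D.C2_mul_a hc2 _) (D.Tor.zpow_mem D.hA_mem_Tor m))) (D.a_mem_V _))
      (D.Tor.pow_mem D.hA_mem_Tor _)) _) (D.z_mem_V _)

/-- the union of the cells -/
def U : Set G := {g | g ∈ D.P ∨ g ∈ D.C1 ∨ g ∈ D.C2 ∨ g ∈ D.C3}

theorem U_mul_a {g : G} (hg : g ∈ D.U) (s : F) : g * D.A.ψ s ∈ D.U := by
  rcases hg with h | h | h | h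
  · exact Or.inl (D.P.mul_mem h (D.a_mem_P s))
  · exact Or.inr (Or.inl (D.C1_mul_a h s))
  · exact Or.inr (Or.inr (Or.inl (D.C2_mul_a h s)))
  · exact Or.inr (Or.inr (Or.inr (D.C3_mul_V h (D.a_mem_V s))))

theorem U_mul_b {g : G} (hg : g ∈ D.U) (s : F) : g * D.B.ψ s ∈ D.U := by
  rcases hg with h | h | h | h
  · exact Or.inl (D.P.mul_mem h (D.b_mem_P s))
  · exact Or.inr (Or.inl (D.C1_mul_b h s))
  · exact Or.inr (Or.inr (Or.inl (D.C2_mul_b h s)))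
  · exact Or.inr (Or.inr (Or.inr (D.C3_mul_b h s)))

theorem U_mul_Tor {g : G} (hg : g ∈ D.U) {h : G} (hh : h ∈ D.Tor) : g * h ∈ D.U := by
  rcases hg with h' | h' | h' | h'
  · exact Or.inl (D.P.mul_mem h' (D.Tor_le_P hh))
  · exact Or.inr (Or.inl (D.C1_mul_Tor h' hh))
  · exact Or.inr (Or.inr (Or.inl (D.C2_mul_Tor h' hh)))
  · exact Or.inr (Or.inr (Or.inr (D.C3_mul_Tor h' hh)))

theorem U_mul_tA {g : G} (hg : g ∈ D.U) : g * D.A.t ∈ D.U := by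
  rcases hg with h | h | h | h
  · exact Or.inr (Or.inl (D.P_mul_tA h))
  · rcases D.C1_mul_tA h with h' | h'
    · exact Or.inl h'
    · exact Or.inr (Or.inl h')
  · exact Or.inr (Or.inr (Or.inr (D.C2_mul_tA h)))
  · rcases D.C3_mul_tA h with h' | h'
    · exact Or.inr (Or.inr (Or.inl h'))
    · exact Or.inr (Or.inr (Or.inr h'))

theorem U_mul_tB {g : G} (hg : g ∈ D.U) : g * D.B.t ∈ D.U := by
  rcases hg with h | h | h | h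
  · exact Or.inl (D.P.mul_mem h D.tB_mem_P)
  · exact Or.inr (Or.inr (Or.inl (D.C1_mul_tB h)))
  · rcases D.C2_mul_tB h with h' | h'
    · exact Or.inr (Or.inl h')
    · exact Or.inr (Or.inr (Or.inl h'))
  · exact Or.inr (Or.inr (Or.inr (D.C3_mul_tB h)))

theorem mem_U_of_gen
    (hgen : Subgroup.closure ({D.A.ψ 1, D.A.t, D.A.h, D.B.ψ 1, D.B.t, D.B.h} : Set G) = ⊤)
    (g : G) : g ∈ D.U := by
  have hg : g ∈ Subgroup.closure ({D.A.ψ 1, D.A.t, D.A.h, D.B.ψ 1, D.B.t, D.B.h} : Set G) := by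
    rw [hgen]; trivial
  induction hg using Subgroup.closure_induction_right with
  | one => exact Or.inl D.P.one_mem
  | mul_right x hx y hy ih =>
    rcases hy with rfl | rfl | rfl | rfl | rfl | rfl
    · exact D.U_mul_a ih 1
    · exact D.U_mul_tA ih
    · exact D.U_mul_Tor ih D.hA_mem_Tor
    · exact D.U_mul_b ih 1
    · exact D.U_mul_tB ih
    · exact D.U_mul_Tor ih D.hB_mem_Tor
  | mul_inv_cancel x hx y hy ih =>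
    rcases hy with rfl | rfl | rfl | rfl | rfl | rfl
    · rw [← D.A.psi_neg]; exact D.U_mul_a ih (-1)
    · rw [D.A.t_inv_eq, ← mul_assoc]
      exact D.U_mul_Tor (D.U_mul_tA ih) (D.Tor.inv_mem (D.Tor.pow_mem D.hA_mem_Tor _))
    · exact D.U_mul_Tor ih (D.Tor.inv_mem D.hA_mem_Tor)
    · rw [← D.B.psi_neg]; exact D.U_mul_b ih (-1)
    · rw [D.B.t_inv_eq, ← mul_assoc]
      exact D.U_mul_Tor (D.U_mul_tB ih) (D.Tor.inv_mem (D.Tor.pow_mem D.hB_mem_Tor _))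
    · exact D.U_mul_Tor ih (D.Tor.inv_mem D.hB_mem_Tor)

end C2Data

end Cfsg.Agent.Lib.Helper9.SP4P
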