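import Mathlib
import Cfsg.Agent.Lib.Helper9.SP4P6

set_option autoImplicit false

/-!
# Presentations of `Sp₄(q)`: the order bound for the abstract group
-/

namespace Cfsg.Agent.Lib.Helper9.SP4P

open Cfsg.Agent.Lib.Helper9.SLP

namespace C2Data

variable {F : Type*} [Field F] [Fintype F] {G : Type*} [Group G] {ζ : F} (D : C2Data F G ζ)

theorem card_le
    (hgen : Subgroup.closure ({D.A.ψ 1, D.A.t, D.A.h, D.B.ψ 1, D.B.t, D.B.h} : Set G) = ⊤) :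
    Finite G ∧ Nat.card G ≤ Nat.card D.P * (1 + (Fintype.card F + (Fintype.card F * Fintype.card F +
      Fintype.card F * (Fintype.card F * Fintype.card F)))) := by
  haveI := D.card_P.1
  let f : D.P × (Unit ⊕ (F ⊕ ((F × F) ⊕ (F × F × F)))) → G := fun x =>
    match x with
    | (p, Sum.inl _) => (p : G)
    | (p, Sum.inr (Sum.inl a)) => (p : G) * D.A.t * D.A.ψ a
    | (p, Sum.inr (Sum.inr (Sum.inl (b, c)))) => (p : G) * D.A.t * D.B.t * D.B.ψ b * D.z c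
    | (p, Sum.inr (Sum.inr (Sum.inr (a, b, c)))) => (p : G) * D.A.t * D.B.t * D.A.t * D.Φ a b c
  have hf : Function.Surjective f := by
    intro g
    rcases D.mem_U_of_gen hgen g with h | ⟨p, hp, a, rfl⟩ | ⟨p, hp, b, c, rfl⟩ |
      ⟨p, hp, a, b, c, rfl⟩
    · exact ⟨(⟨g, h⟩, Sum.inl ()), rfl⟩
    · exact ⟨(⟨p, hp⟩, Sum.inr (Sum.inl a)), rfl⟩
    · exact ⟨(⟨p, hp⟩, Sum.inr (Sum.inr (Sum.inl (b, c)))), rfl⟩
    · exact ⟨(⟨p, hp⟩, Sum.inr (Sum.inr (Sum.inr (a, b, c)))), rfl⟩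
  refine ⟨Finite.of_surjective f hf, (Nat.card_le_card_of_surjective f hf).trans (le_of_eq ?_)⟩
  rw [Nat.card_prod, Nat.card_sum, Nat.card_sum, Nat.card_sum, Nat.card_prod, Nat.card_prod,
    Nat.card_prod, Nat.card_unique (α := Unit), Nat.card_eq_fintype_card (α := F)]

theorem card_bound
    (hgen : Subgroup.closure ({D.A.ψ 1, D.A.t, D.A.h, D.B.ψ 1, D.B.t, D.B.h} : Set G) = ⊤) :
    Finite G ∧ Nat.card G ≤
      Fintype.card F ^ 4 * ((Fintype.card F ^ 2 - 1) * (Fintype.card F ^ 4 - 1)) := by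
  obtain ⟨hfin, hcard⟩ := D.card_le hgen
  refine ⟨hfin, ?_⟩
  have hP := D.card_P.2
  have hq : 1 ≤ Fintype.card F := Fintype.card_pos
  obtain ⟨r, hr⟩ : ∃ r, Fintype.card F = r + 1 := ⟨Fintype.card F - 1, by omega⟩
  rw [hr] at hcard hP ⊢
  rw [Nat.add_sub_cancel] at hP
  have e1 : (r + 1) ^ 2 - 1 = r * (r + 2) := Nat.sub_eq_of_eq_add (by ring)
  have e2 : (r + 1) ^ 4 - 1 =
      r * (1 + (r + 1 + ((r + 1) * (r + 1) + (r + 1) * ((r + 1) * (r + 1))))) :=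
    Nat.sub_eq_of_eq_add (by ring)
  rw [e1, e2]
  calc Nat.card G ≤ Nat.card D.P * (1 + (r + 1 + ((r + 1) * (r + 1) +
        (r + 1) * ((r + 1) * (r + 1))))) := hcard
    _ ≤ ((r + 1) ^ 3 * ((r + 1) * r * (r + 1 + 1) * r)) * (1 + (r + 1 + ((r + 1) * (r + 1) +
        (r + 1) * ((r + 1) * (r + 1))))) := Nat.mul_le_mul_right _ hP
    _ = _ := by ring

end C2Data

end Cfsg.Agent.Lib.Helper9.SP4P
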