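import Mathlib
import Cfsg.Agent.Lib.Helper9.SP4P7
import Cfsg.Agent.Lib.Helper9.SP4P11

set_option autoImplicit false

/-!
# Presentations of `Sp₄(q)`: relator lists and the bound for groups satisfying them
-/

namespace Cfsg.Agent.Lib.Helper9.SP4P

open Matrix Polynomial Cfsg.Agent.Lib.Helper9.SLP

theorem lift_comp_eq' {ι : Type*} {G H : Type*} [Group G] [Group H] (π : G →* H) (f : ι → G)
    (r : FreeGroup ι) : FreeGroup.lift (π ∘ f) r = π (FreeGroup.lift f r) := by
  have : FreeGroup.lift (π ∘ f) = π.comp (FreeGroup.lift f) := by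
    ext i; simp
  rw [this]; rfl

theorem lift_map_eq {ι κ : Type*} {G : Type*} [Group G] (e : ι → κ) (f : κ → G)
    (r : FreeGroup ι) : FreeGroup.lift f (FreeGroup.map e r) = FreeGroup.lift (f ∘ e) r := by
  have : (FreeGroup.lift f).comp (FreeGroup.map e) = FreeGroup.lift (f ∘ e) := by
    ext i; simp
  rw [← this]; rfl

theorem forall_lift_iff' {ι : Type*} {G : Type*} [Group G] (f : ι → G) (L : List (FreeGroup ι))
    (L' : List G) (h : L.map (FreeGroup.lift f) = L') :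
    (∀ r ∈ L, FreeGroup.lift f r = 1) ↔ (∀ r ∈ L', r = 1) := by
  subst h
  simp

theorem lift_of_eq_mk' {ι : Type*} (rels : Set (FreeGroup ι)) :
    FreeGroup.lift (PresentedGroup.of (rels := rels)) = PresentedGroup.mk rels := by
  ext i
  simp [PresentedGroup.of]

theorem rels_hold' {ι : Type*} [DecidableEq ι] (L : List (FreeGroup ι)) :
    ∀ r ∈ L, FreeGroup.lift
      (PresentedGroup.of (rels := (↑L.toFinset : Set (FreeGroup ι)))) r = 1 := by
  intro r hr
  rw [lift_of_eq_mk']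
  exact PresentedGroup.one_of_mem (Finset.mem_coe.mpr (List.mem_toFinset.mpr hr))

theorem exists_mulEquiv_of_bound {ι : Type*} [DecidableEq ι] (L : List (FreeGroup ι))
    {H' : Type*} [Group H'] (f₀ : ι → H') (hrel : ∀ r ∈ L, FreeGroup.lift f₀ r = 1)
    (hgen : Subgroup.closure (Set.range f₀) = ⊤)
    (hfin : Finite (PresentedGroup (↑L.toFinset : Set (FreeGroup ι))))
    (hcard : Nat.card (PresentedGroup (↑L.toFinset : Set (FreeGroup ι))) ≤ Nat.card H') :
    ∃ σ : PresentedGroup (↑L.toFinset : Set (FreeGroup ι)) ≃* H',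
      ∀ i, σ (PresentedGroup.of i) = f₀ i := by
  have hrel' : ∀ r ∈ (↑L.toFinset : Set (FreeGroup ι)), FreeGroup.lift f₀ r = 1 := by
    intro r hr
    exact hrel r (List.mem_toFinset.mp (Finset.mem_coe.mp hr))
  let φ := PresentedGroup.toGroup hrel'
  have hsurj : Function.Surjective φ := by
    rw [← MonoidHom.range_eq_top, eq_top_iff, ← hgen, Subgroup.closure_le]
    rintro _ ⟨i, rfl⟩
    exact ⟨PresentedGroup.of i, PresentedGroup.toGroup.of hrel'⟩
  have hbij : Function.Bijective φ := hsurj.bijective_of_nat_card_le hcard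
  exact ⟨MulEquiv.ofBijective φ hbij, fun i => PresentedGroup.toGroup.of hrel'⟩

variable {F : Type*} [Field F] [Fintype F]

/-- the relators of `SL₂`, together with their two basic properties -/
theorem exists_sl2_rels (p : ℕ) [Fact p.Prime] [CharP F p] (ζ : Fˣ)
    (hgen : ∀ x : Fˣ, x ∈ Subgroup.zpowers ζ) :
    ∃ (m fz fz' : (ZMod p)[X]) (L : List (FreeGroup (Fin 3))), L.length ≤ 8 ∧
      (∀ f, evl p ((ζ : F) ^ 2) f = 0 → m ∣ f) ∧
      evl p ((ζ : F) ^ 2) fz = ζ ∧ evl p ((ζ : F) ^ 2) fz' = -((ζ⁻¹ : Fˣ) : F) ∧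
      (∀ (G : Type) [Group G] (f : Fin 3 → G), (∀ r ∈ L, FreeGroup.lift f r = 1) →
        RelsHold p m fz fz' (f 0) (f 1) (f 2)) ∧
      (∀ r ∈ L, FreeGroup.lift (![mU (1 : F), mT, mH ζ] :
        Fin 3 → SpecialLinearGroup (Fin 2) F) r = 1) := by
  have hsurj := evl_surjective p ζ hgen
  obtain ⟨fz, hfz⟩ := hsurj ζ
  obtain ⟨fz', hfz'⟩ := hsurj (-((ζ⁻¹ : Fˣ) : F))
  by_cases hA : ∃ c : ZMod p, ZMod.castHom (dvd_refl p) F c = (ζ : F) ^ 2
  · obtain ⟨c, hc⟩ := hA
    have hk := ker_linear (F := F) p c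
    rw [hc] at hk
    refine ⟨X - C c, fz, fz',
      schemeA p (X - C c) fz fz' (FreeGroup.of 0) (FreeGroup.of 1) (FreeGroup.of 2), ?_,
      hk.2, hfz, hfz', ?_, ?_⟩
    · rw [schemeA_length]; norm_num
    · intro G _ f hf
      exact relsHold_of_schemeA p c fz fz' _ _ _
        ((forall_lift_iff' f _ (schemeA p (X - C c) fz fz' (f 0) (f 1) (f 2))
          (by rw [map_schemeA]; simp)).mp hf)
    · rw [forall_lift_iff' _ _ (schemeA p (X - C c) fz fz' (mU (1 : F)) mT (mH ζ))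
        (by rw [map_schemeA]; simp)]
      exact schemeA_mat p ζ (X - C c) fz fz' hk.1 hfz hfz'
  · by_cases hp2 : p = 2
    · subst hp2
      obtain ⟨m, hm, hker⟩ := exists_ker_gen 2 ((ζ : F) ^ 2)
      obtain ⟨hl1, -⟩ := lam_ne_of_not_mem 2 _ hA
      obtain ⟨k, hrel⟩ := exists_add_rel_two ζ hgen hl1
      refine ⟨m, fz, fz',
        scheme2 m fz fz' k (FreeGroup.of 0) (FreeGroup.of 1) (FreeGroup.of 2), ?_,
        hker, hfz, hfz', ?_, ?_⟩
      · rw [scheme2_length]; norm_num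
      · intro G _ f hf
        exact (relsHold_of_scheme2 m fz fz' k _ _ _
          ((forall_lift_iff' f _ (scheme2 m fz fz' k (f 0) (f 1) (f 2))
            (by rw [map_scheme2]; simp)).mp hf)).1
      · rw [forall_lift_iff' _ _ (scheme2 m fz fz' k (mU (1 : F)) mT (mH ζ))
          (by rw [map_scheme2]; simp)]
        exact scheme2_mat ζ m fz fz' k hm hfz hfz' hrel
    · obtain ⟨m, hm, hker⟩ := exists_ker_gen p ((ζ : F) ^ 2)
      obtain ⟨hl1, hl2⟩ := lam_ne_of_not_mem p _ hA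
      obtain ⟨a, k, ε, ha, hε, hrel⟩ := exists_add_rel ζ hgen hl1 hl2
      refine ⟨m, fz, fz',
        schemeA p m fz fz' (FreeGroup.of 0) (FreeGroup.of 1) (FreeGroup.of 2) ++
          schemeC k a ε (FreeGroup.of 0) (FreeGroup.of 2), ?_, hker, hfz, hfz', ?_, ?_⟩
      · rw [List.length_append, schemeA_length, schemeC_length]
      · intro G _ f hf
        exact relsHold_of_schemeAC p m fz fz' k a ha ε hε _ _ _
          ((forall_lift_iff' f _
            (schemeA p m fz fz' (f 0) (f 1) (f 2) ++ schemeC k a ε (f 0) (f 2))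
            (by rw [List.map_append, map_schemeA, map_schemeC]; simp)).mp hf)
      · rw [forall_lift_iff' _ _ (schemeA p m fz fz' (mU (1 : F)) mT (mH ζ) ++
            schemeC k a ε (mU (1 : F)) (mH ζ))
          (by rw [List.map_append, map_schemeA, map_schemeC]; simp)]
        intro r hr
        rcases List.mem_append.mp hr with hr | hr
        · exact schemeA_mat p ζ m fz fz' hm hfz hfz' r hr
        · exact schemeC_mat ζ k a ε hrel r hr

theorem spans_of_surj (p : ℕ) [Fact p.Prime] [CharP F p] (ζ : F)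
    (hsurj : Function.Surjective (evl p (ζ ^ 2))) : Spans ζ := by
  intro K hK
  rw [eq_top_iff]
  intro a _
  obtain ⟨f, rfl⟩ := hsurj a
  rw [evl_eq_sum]
  apply K.sum_mem
  intro i _
  have h1 : (ζ ^ 2) ^ i ∈ K := by
    have := hK (i : ℤ)
    rwa [_root_.zpow_mul, _root_.zpow_natCast, _root_.zpow_two, ← pow_two] at this
  have h2 := K.nsmul_mem h1 (f.coeff i).val
  rwa [nsmul_eq_mul] at h2

/-- the order bound for a group satisfying the relators -/
theorem card_bound_of_rels {G : Type*} [Group G] (p : ℕ) [Fact p.Prime]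
    (ev : (ZMod p)[X] →+* F) (hsurj : Function.Surjective ev) (m : (ZMod p)[X])
    (hker : ∀ f, ev f = 0 → m ∣ f) (ζ : F) (hζ : ζ ≠ 0)
    (hζgen : ∀ a : F, a ≠ 0 → ∃ j : ℕ, ζ ^ j = a) (hlam : ev X = ζ ^ 2)
    (fz fz' gz : (ZMod p)[X]) (hfz : ev fz = ζ) (hfz' : ev fz' = -ζ⁻¹) (hgz : ev gz = ζ⁻¹)
    (hspan : Spans ζ) (u₁ t₁ h₁ u₂ t₂ h₂ : G)
    (hR1 : RelsHold p m fz fz' u₁ t₁ h₁) (hR2 : RelsHold p m fz fz' u₂ t₂ h₂)
    (hcross : ∀ r ∈ cross gz u₁ t₁ h₁ u₂ t₂ h₂, r = 1)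
    (hgenG : Subgroup.closure ({u₁, t₁, h₁, u₂, t₂, h₂} : Set G) = ⊤) :
    Finite G ∧ Nat.card G ≤
      Fintype.card F ^ 4 * ((Fintype.card F ^ 2 - 1) * (Fintype.card F ^ 4 - 1)) := by
  obtain ⟨RA, rfl, rfl, rfl, -⟩ :=
    exists_rankOne p ev hsurj m hker ζ hζ hζgen hlam fz fz' hfz hfz' u₁ t₁ h₁ hR1
  obtain ⟨RB, rfl, rfl, rfl, hBψ⟩ :=
    exists_rankOne p ev hsurj m hker ζ hζ hζgen hlam fz fz' hfz hfz' u₂ t₂ h₂ hR2
  rw [cross_iff] at hcross
  obtain ⟨R0, R1, R2, R3, R4, R5, R6, R7, R8, R9, R10⟩ := hcross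
  let D : C2Data F G ζ :=
    { A := RA
      B := RB
      hgen := by
        intro x hx
        obtain ⟨j, hj⟩ := hζgen x hx
        exact ⟨(j : ℤ), by rw [zpow_natCast]; exact hj⟩
      hspan := hspan
      T0 := ((commute_iff_conj _ _).mpr R0).symm
      T1 := by rw [← hgz, hBψ]; exact R1
      T2 := R2
      T3 := R3
      T4 := R4
      W1 := R5
      W2 := R6
      S1 := R7
      S3 := ((commute_iff_conj _ _).mpr R8).symm
      S4 := ((commute_iff_conj _ _).mpr R9).symm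
      Br := R10 }
  exact D.card_bound hgenG

end Cfsg.Agent.Lib.Helper9.SP4P
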