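import Mathlib
import Cfsg.Agent.Lib.Helper9.SL3P7
import Cfsg.Agent.Lib.Helper9.SP4P12
import Cfsg.Agent.S0242

set_option autoImplicit false

/-!
# Presentations of `SL₃(q)`: the relators hold in `SL₃`, generation, order, spanning sets
-/

namespace Cfsg.Agent.Lib.Helper9.SL3P

open Matrix Polynomial Cfsg.Agent.Lib.Helper9.SLP Cfsg.Agent.Lib.Helper9.SP4P

variable {F : Type*} [Field F]

theorem cross3_mat (p : ℕ) [Fact p.Prime] [CharP F p] (z : Fˣ) (gz : (ZMod p)[X])
    (hgz : evl p ((z : F) ^ 2) gz = ((z⁻¹ : Fˣ) : F)) (I : List ℕ) :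
    ∀ r ∈ cross3 gz I (eHom (mU (1 : F))) (eHom mT) (eHom (mH z)) cM, r = 1 := by
  rw [cross3_iff]
  have hc : (cM * eHom (mH z) * cM⁻¹ : SpecialLinearGroup (Fin 3) F) = d2 z := by
    rw [cM_h, mul_inv_cancel_right]
  have hc' : (cM⁻¹ * eHom (mH z) * cM : SpecialLinearGroup (Fin 3) F) = d3 z := by
    rw [mul_assoc, h_cM, inv_mul_cancel_left]
  refine ⟨cM_cube, ?_, ?_, ?_, ?_, ?_⟩
  · rw [cM_inv]; exact t_c'_t_c'
  · rw [hc, hc']; exact h_d2_d3 z
  · rw [hc, h_d2_comm, mul_inv_cancel_right]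
  · rw [hc', ← map_PW, PW_mat p, hgz, d3_x12, mul_one, mul_inv_cancel_right]
  · intro i _
    have e1 : cU (eHom (mU (1 : F))) (eHom (mH z)) i = eHom (mU (((z : F) ^ 2) ^ i)) := by
      rw [← map_cU, cU_mat]
    have e2 : (cM * eHom (mU (((z : F) ^ 2) ^ i)) * cM⁻¹ : SpecialLinearGroup (Fin 3) F) =
        x23 (((z : F) ^ 2) ^ i) := by
      rw [cM_x12, mul_inv_cancel_right]
    rw [e1, e2, x12_x23, one_mul, mul_inv_cancel_right, mul_inv_cancel_right, t_x23,
      mul_inv_cancel_right]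

theorem closure_gens4 (p : ℕ) [Fact p.Prime] [CharP F p] (z : Fˣ)
    (hsurj : Function.Surjective (evl p ((z : F) ^ 2))) :
    Subgroup.closure ({eHom (mU (1 : F)), eHom mT, eHom (mH z), cM} :
      Set (SpecialLinearGroup (Fin 3) F)) = ⊤ := by
  obtain ⟨H, hH⟩ : ∃ H, H = Subgroup.closure ({eHom (mU (1 : F)), eHom mT, eHom (mH z), cM} :
      Set (SpecialLinearGroup (Fin 3) F)) := ⟨_, rfl⟩
  rw [← hH]
  have hSL := closure_gens p z hsurj
  have hE : ∀ g, eHom g ∈ H := by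
    intro g
    have hg : g ∈ Subgroup.closure
        ({mU (1 : F), mT, mH z} : Set (SpecialLinearGroup (Fin 2) F)) := by
      rw [hSL]; trivial
    have hle : Subgroup.closure ({mU (1 : F), mT, mH z} : Set (SpecialLinearGroup (Fin 2) F)) ≤
        H.comap eHom := by
      rw [Subgroup.closure_le]
      rintro x (rfl | rfl | rfl)
      · rw [hH]; exact Subgroup.subset_closure (by simp)
      · rw [hH]; exact Subgroup.subset_closure (by simp)
      · rw [hH]; exact Subgroup.subset_closure (by simp)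
    exact hle hg
  have hc : cM ∈ H := by rw [hH]; exact Subgroup.subset_closure (by simp)
  have h23 : ∀ a : F, x23 a ∈ H := fun a => by
    have : x23 a = cM * eHom (mU a) * cM⁻¹ := by rw [cM_x12, mul_inv_cancel_right]
    rw [this]; exact H.mul_mem (H.mul_mem hc (hE _)) (H.inv_mem hc)
  have h32 : ∀ a : F, x32 a ∈ H := fun a => by
    have : x32 a = cM * eHom (mL a) * cM⁻¹ := by rw [cM_x21, mul_inv_cancel_right]
    rw [this]; exact H.mul_mem (H.mul_mem hc (hE _)) (H.inv_mem hc)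
  have h31 : ∀ a : F, x31 a ∈ H := fun a => by
    have : x31 a = cM * x23 a * cM⁻¹ := by rw [cM_x23, mul_inv_cancel_right]
    rw [this]; exact H.mul_mem (H.mul_mem hc (h23 _)) (H.inv_mem hc)
  have h13 : ∀ a : F, x13 a ∈ H := fun a => by
    have : x13 a = cM * x32 a * cM⁻¹ := by rw [cM_x32, mul_inv_cancel_right]
    rw [this]; exact H.mul_mem (H.mul_mem hc (h32 _)) (H.inv_mem hc)
  have key : ∀ (i j : Fin 3), i ≠ j → ∀ a : F,
      ∃ g ∈ H, (g : Matrix (Fin 3) (Fin 3) F) = 1 + Matrix.single i j a := by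
    intro i j hij a
    fin_cases i <;> fin_cases j
    · exact absurd rfl hij
    · refine ⟨eHom (mU a), hE _, ?_⟩
      rw [eHom_coe, mU_coe]
      ext k l; fin_cases k <;> fin_cases l <;> simp [eMat, Matrix.single_apply]
    · refine ⟨x13 a, h13 _, ?_⟩
      rw [x13_coe]
      ext k l; fin_cases k <;> fin_cases l <;> simp [Matrix.single_apply]
    · refine ⟨eHom (mL a), hE _, ?_⟩
      rw [eHom_coe, mL_coe]
      ext k l; fin_cases k <;> fin_cases l <;> simp [eMat, Matrix.single_apply]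
    · exact absurd rfl hij
    · refine ⟨x23 a, h23 _, ?_⟩
      rw [x23_coe]
      ext k l; fin_cases k <;> fin_cases l <;> simp [Matrix.single_apply]
    · refine ⟨x31 a, h31 _, ?_⟩
      rw [x31_coe]
      ext k l; fin_cases k <;> fin_cases l <;> simp [Matrix.single_apply]
    · refine ⟨x32 a, h32 _, ?_⟩
      rw [x32_coe]
      ext k l; fin_cases k <;> fin_cases l <;> simp [Matrix.single_apply]
    · exact absurd rfl hij
  apply Cfsg.Agent.Lib.Helper1.eq_top_of_transvection_mem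
  intro i j hij a
  obtain ⟨g, hg, hcoe⟩ := key i j hij a
  have : SpecialLinearGroup.transvection hij a = g := by
    apply sl3_ext
    rw [hcoe]; rfl
  rw [this]; exact hg

variable [Fintype F]

theorem card_sl3 : Nat.card (SpecialLinearGroup (Fin 3) F) =
    Fintype.card F ^ 3 * ((Fintype.card F ^ 2 - 1) * (Fintype.card F ^ 3 - 1)) := by
  have h := Cfsg.Agent.S0242.result (F := F) rfl 3 (by norm_num)
  rw [Fin.prod_univ_three] at h
  have hq : 2 ≤ Fintype.card F := Fintype.one_lt_card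
  obtain ⟨r, hr⟩ : ∃ r, Fintype.card F = r + 2 := ⟨Fintype.card F - 2, by omega⟩
  rw [hr] at h ⊢
  simp only [Fin.val_zero, Fin.val_one, Fin.val_two, pow_zero, pow_one] at h
  have e0 : r + 2 - 1 = r + 1 := by omega
  have e1 : (r + 2) ^ 3 - 1 = (r + 1) * ((r + 2) ^ 2 + (r + 2) + 1) :=
    Nat.sub_eq_of_eq_add (by ring)
  have e2 : (r + 2) ^ 3 - (r + 2) = (r + 2) * (r + 1) * (r + 3) :=
    Nat.sub_eq_of_eq_add (by ring)
  have e3 : (r + 2) ^ 3 - (r + 2) ^ 2 = (r + 2) ^ 2 * (r + 1) :=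
    Nat.sub_eq_of_eq_add (by ring)
  have e4 : (r + 2) ^ 2 - 1 = (r + 1) * (r + 3) := Nat.sub_eq_of_eq_add (by ring)
  rw [e0, e1, e2, e3] at h
  rw [e4, e1]
  apply Nat.eq_of_mul_eq_mul_left (show 0 < r + 1 by omega)
  rw [h]; ring

/-- for odd `q` the powers of `ζ ^ 3` span the field additively -/
theorem span_cube_of_odd (ζ : Fˣ) (hgen : ∀ x : Fˣ, x ∈ Subgroup.zpowers ζ)
    (hodd : Fintype.card F % 2 = 1) (K : AddSubgroup F)
    (hK : ∀ k : ℕ, ((ζ : F) ^ 3) ^ k ∈ K) : K = ⊤ := by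
  classical
  set o := orderOf (ζ ^ 3) with ho
  let g : Option (Fin o) → K := fun x =>
    match x with
    | none => ⟨0, K.zero_mem⟩
    | some i => ⟨((ζ : F) ^ 3) ^ (i : ℕ), hK i⟩
  have hlam0 : ((ζ : F) ^ 3) ≠ 0 := pow_ne_zero 3 ζ.ne_zero
  have hg : Function.Injective g := by
    intro x y hxy
    rcases x with _ | i <;> rcases y with _ | j
    · rfl
    · exfalso
      have := congrArg Subtype.val hxy
      exact pow_ne_zero _ hlam0 this.symm
    · exfalso
      have := congrArg Subtype.val hxy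
      exact pow_ne_zero _ hlam0 this
    · have h1 : ((ζ : F) ^ 3) ^ (i : ℕ) = ((ζ : F) ^ 3) ^ (j : ℕ) := congrArg Subtype.val hxy
      have h2 : (ζ ^ 3) ^ (i : ℕ) = (ζ ^ 3) ^ (j : ℕ) := by
        apply Units.ext
        push_cast
        exact h1
      have := pow_injOn_Iio_orderOf (x := ζ ^ 3) (Set.mem_Iio.mpr i.2) (Set.mem_Iio.mpr j.2) h2
      exact congrArg some (Fin.ext this)
  have hcard : o + 1 ≤ Nat.card K := by
    have := Nat.card_le_card_of_injective g hg
    simpa using this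
  have hdvd : Nat.card K ∣ Nat.card F := AddSubgroup.card_addSubgroup_dvd_card K
  rw [Nat.card_eq_fintype_card (α := F)] at hdvd
  have hle : Fintype.card F - 1 ≤ 3 * o := by
    have h1 : ζ ^ (3 * o) = 1 := by rw [pow_mul, pow_orderOf_eq_one]
    have h2 := orderOf_dvd_of_pow_eq_one h1
    rw [orderOf_gen ζ hgen] at h2
    have hpos : 0 < o := orderOf_pos _
    exact Nat.le_of_dvd (by omega) h2
  have hq : 2 ≤ Fintype.card F := Fintype.one_lt_card
  obtain ⟨r, hr⟩ := hdvd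
  have hr1 : r = 1 := by
    rcases Nat.even_or_odd' r with ⟨k, hk | hk⟩
    · exfalso
      have e : Nat.card K * r = 2 * (Nat.card K * k) := by rw [hk]; ring
      omega
    · rcases k with _ | k
      · omega
      · exfalso
        have e : Nat.card K * r = 3 * Nat.card K + 2 * (Nat.card K * k) := by rw [hk]; ring
        omega
  rw [hr1, mul_one] at hr
  exact AddSubgroup.eq_top_of_card_eq K (by rw [Nat.card_eq_fintype_card (α := F), hr])

theorem spanSet_one (ζ : Fˣ) (hgen : ∀ x : Fˣ, x ∈ Subgroup.zpowers ζ)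
    (hodd : Fintype.card F % 2 = 1) (c : ℤ) :
    SpanSet {b : F | ∃ i ∈ ([0] : List ℕ), ∃ k : ℤ, b = (ζ : F) ^ (3 * k + c * (i : ℤ))} := by
  intro K hK
  apply span_cube_of_odd ζ hgen hodd K
  intro k
  have := hK (((ζ : F) ^ 3) ^ k) ⟨0, by simp, (k : ℤ), by
    rw [← pow_mul, ← zpow_natCast]
    congr 1
    push_cast
    ring⟩
  exact this

theorem spanSet_three (ζ : F) (hgen : ∀ x : F, x ≠ 0 → ∃ j : ℤ, ζ ^ j = x) (c : ℤ)
    (hc : c = 2 ∨ c = 4) :
    SpanSet {b : F | ∃ i ∈ ([0, 1, 2] : List ℕ), ∃ k : ℤ, b = ζ ^ (3 * k + c * (i : ℤ))} := by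
  intro K hK
  have hall : ∀ n : ℤ, ζ ^ n ∈ K := by
    intro n
    apply hK
    have h3 : n % 3 = 0 ∨ n % 3 = 1 ∨ n % 3 = 2 := by omega
    rcases hc with rfl | rfl
    · rcases h3 with h | h | h
      · exact ⟨0, by simp, n / 3, congrArg (ζ ^ ·) (by push_cast; omega)⟩
      · exact ⟨2, by simp, (n - 4) / 3, congrArg (ζ ^ ·) (by push_cast; omega)⟩
      · exact ⟨1, by simp, (n - 2) / 3, congrArg (ζ ^ ·) (by push_cast; omega)⟩
    · rcases h3 with h | h | h
      · exact ⟨0, by simp, n / 3, congrArg (ζ ^ ·) (by push_cast; omega)⟩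
      · exact ⟨1, by simp, (n - 4) / 3, congrArg (ζ ^ ·) (by push_cast; omega)⟩
      · exact ⟨2, by simp, (n - 8) / 3, congrArg (ζ ^ ·) (by push_cast; omega)⟩
  rw [eq_top_iff]
  intro x _
  by_cases hx : x = 0
  · rw [hx]; exact K.zero_mem
  · obtain ⟨j, rfl⟩ := hgen x hx
    exact hall j

end Cfsg.Agent.Lib.Helper9.SL3P
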