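import Mathlib
import Cfsg.Agent.Lib.Helper9.SL3P8

set_option autoImplicit false

/-!
# Presentations of `SL₃(q)`: the final assembly
-/

namespace Cfsg.Agent.Lib.Helper9.SL3P

open Matrix Polynomial Cfsg.Agent.Lib.Helper9.SLP Cfsg.Agent.Lib.Helper9.SP4P

variable {F : Type*} [Field F] [Fintype F]

/-- the relators of `SL₂`, with the better length bound in characteristic two -/
theorem exists_sl2_rels' (p : ℕ) [Fact p.Prime] [CharP F p] (ζ : Fˣ)
    (hgen : ∀ x : Fˣ, x ∈ Subgroup.zpowers ζ) :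
    ∃ (m fz fz' : (ZMod p)[X]) (L : List (FreeGroup (Fin 3))),
      (L.length ≤ 8 ∧ (p = 2 → L.length ≤ 5)) ∧
      (∀ f, evl p ((ζ : F) ^ 2) f = 0 → m ∣ f) ∧
      evl p ((ζ : F) ^ 2) fz = ζ ∧ evl p ((ζ : F) ^ 2) fz' = -((ζ⁻¹ : Fˣ) : F) ∧
      (∀ (G : Type) [Group G] (f : Fin 3 → G), (∀ r ∈ L, FreeGroup.lift f r = 1) →
        RelsHold p m fz fz' (f 0) (f 1) (f 2)) ∧
      (∀ r ∈ L, FreeGroup.lift (![mU (1 : F), mT, mH ζ] :
        Fin 3 → SpecialLinearGroup (Fin 2) F) r = 1) := by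
  have hsurj := evl_surjective p ζ hgen
  obtain ⟨fz, hfz⟩ := hsurj ζ
  obtain ⟨fz', hfz'⟩ := hsurj (-((ζ⁻¹ : Fˣ) : F))
  by_cases hA : ∃ c : ZMod p, ZMod.castHom (dvd_refl p) F c = (ζ : F) ^ 2
  · obtain ⟨c, hc⟩ := hA
    have hk := ker_linear (F := F) p c
    rw [hc] at hk
    refine ⟨X - C c, fz, fz',
      schemeA p (X - C c) fz fz' (FreeGroup.of 0) (FreeGroup.of 1) (FreeGroup.of 2), ?_,
      hk.2, hfz, hfz', ?_, ?_⟩
    · rw [schemeA_length]
      exact ⟨by norm_num, fun _ => le_refl _⟩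
    · intro G _ f hf
      exact relsHold_of_schemeA p c fz fz' _ _ _
        ((forall_lift_iff' f _ (schemeA p (X - C c) fz fz' (f 0) (f 1) (f 2))
          (by rw [map_schemeA]; simp)).mp hf)
    · rw [forall_lift_iff' _ _ (schemeA p (X - C c) fz fz' (mU (1 : F)) mT (mH ζ))
        (by rw [map_schemeA]; simp)]
      exact schemeA_mat p ζ (X - C c) fz fz' hk.1 hfz hfz'
  · by_cases hp2 : p = 2
    · subst hp2
      obtain ⟨m, hm, hker⟩ := exists_ker_gen 2 ((ζ : F) ^ 2)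
      obtain ⟨hl1, -⟩ := lam_ne_of_not_mem 2 _ hA
      obtain ⟨k, hrel⟩ := exists_add_rel_two ζ hgen hl1
      refine ⟨m, fz, fz',
        scheme2 m fz fz' k (FreeGroup.of 0) (FreeGroup.of 1) (FreeGroup.of 2), ?_,
        hker, hfz, hfz', ?_, ?_⟩
      · rw [scheme2_length]
        exact ⟨by norm_num, fun _ => le_refl _⟩
      · intro G _ f hf
        exact (relsHold_of_scheme2 m fz fz' k _ _ _
          ((forall_lift_iff' f _ (scheme2 m fz fz' k (f 0) (f 1) (f 2))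
            (by rw [map_scheme2]; simp)).mp hf)).1
      · rw [forall_lift_iff' _ _ (scheme2 m fz fz' k (mU (1 : F)) mT (mH ζ))
          (by rw [map_scheme2]; simp)]
        exact scheme2_mat ζ m fz fz' k hm hfz hfz' hrel
    · obtain ⟨m, hm, hker⟩ := exists_ker_gen p ((ζ : F) ^ 2)
      obtain ⟨hl1, hl2⟩ := lam_ne_of_not_mem p _ hA
      obtain ⟨a, k, ε, ha, hε, hrel⟩ := exists_add_rel ζ hgen hl1 hl2
      refine ⟨m, fz, fz',
        schemeA p m fz fz' (FreeGroup.of 0) (FreeGroup.of 1) (FreeGroup.of 2) ++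
          schemeC k a ε (FreeGroup.of 0) (FreeGroup.of 2), ?_, hker, hfz, hfz', ?_, ?_⟩
      · rw [List.length_append, schemeA_length, schemeC_length]
        exact ⟨le_refl _, fun h => absurd h hp2⟩
      · intro G _ f hf
        exact relsHold_of_schemeAC p m fz fz' k a ha ε hε _ _ _
          ((forall_lift_iff' f _
            (schemeA p m fz fz' (f 0) (f 1) (f 2) ++ schemeC k a ε (f 0) (f 2))
            (by rw [List.map_append, map_schemeA, map_schemeC]; simp)).mp hf)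
      · rw [forall_lift_iff' _ _ (schemeA p m fz fz' (mU (1 : F)) mT (mH ζ) ++
            schemeC k a ε (mU (1 : F)) (mH ζ))
          (by rw [List.map_append, map_schemeA, map_schemeC]; simp)]
        intro r hr
        rcases List.mem_append.mp hr with hr | hr
        · exact schemeA_mat p ζ m fz fz' hm hfz hfz' r hr
        · exact schemeC_mat ζ k a ε hrel r hr

/-- the first three generators -/
def emb3 : Fin 3 → Fin 4 := ![0, 1, 2]

/-- the relator list -/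
noncomputable def relList3 {p : ℕ} (L₃ : List (FreeGroup (Fin 3))) (gz : (ZMod p)[X])
    (I : List ℕ) : List (FreeGroup (Fin 4)) :=
  L₃.map (FreeGroup.map emb3) ++
    cross3 gz I (FreeGroup.of 0) (FreeGroup.of 1) (FreeGroup.of 2) (FreeGroup.of 3)

theorem relList3_length {p : ℕ} (L₃ : List (FreeGroup (Fin 3))) (gz : (ZMod p)[X])
    (I : List ℕ) : (relList3 L₃ gz I).length = L₃.length + (5 + I.length) := by
  rw [relList3, List.length_append, List.length_map, cross3_length]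

/-- the four generators of `SL₃` -/
def gens4 (ζ : Fˣ) : Fin 4 → SpecialLinearGroup (Fin 3) F :=
  ![eHom (mU (1 : F)), eHom mT, eHom (mH ζ), cM]

theorem range_eq_four {G : Type*} (f : Fin 4 → G) :
    Set.range f = {f 0, f 1, f 2, f 3} := by
  ext x
  constructor
  · rintro ⟨i, rfl⟩
    fin_cases i <;> simp
  · intro hx
    simp only [Set.mem_insert_iff, Set.mem_singleton_iff] at hx
    rcases hx with rfl | rfl | rfl | rfl <;> exact Set.mem_range_self _

theorem bound_of_list3 (p : ℕ) [Fact p.Prime] [CharP F p] (ζ : Fˣ)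
    (hgen : ∀ x : Fˣ, x ∈ Subgroup.zpowers ζ)
    (m fz fz' gz : (ZMod p)[X]) (L₃ : List (FreeGroup (Fin 3))) (I : List ℕ)
    (hI1 : SpanSet {b : F | ∃ i ∈ I, ∃ k : ℤ, b = (ζ : F) ^ (3 * k + 2 * (i : ℤ))})
    (hI2 : SpanSet {b : F | ∃ i ∈ I, ∃ k : ℤ, b = (ζ : F) ^ (3 * k + 4 * (i : ℤ))})
    (hker : ∀ f, evl p ((ζ : F) ^ 2) f = 0 → m ∣ f)
    (hfz : evl p ((ζ : F) ^ 2) fz = ζ) (hfz' : evl p ((ζ : F) ^ 2) fz' = -((ζ⁻¹ : Fˣ) : F))
    (hgz : evl p ((ζ : F) ^ 2) gz = ((ζ⁻¹ : Fˣ) : F))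
    (P1 : ∀ (G : Type) [Group G] (f : Fin 3 → G), (∀ r ∈ L₃, FreeGroup.lift f r = 1) →
        RelsHold p m fz fz' (f 0) (f 1) (f 2))
    (G : Type) [Group G] (f : Fin 4 → G)
    (hf : ∀ r ∈ relList3 L₃ gz I, FreeGroup.lift f r = 1)
    (hgenG : Subgroup.closure (Set.range f) = ⊤) :
    Finite G ∧ Nat.card G ≤
      Fintype.card F ^ 3 * ((Fintype.card F ^ 2 - 1) * (Fintype.card F ^ 3 - 1)) := by
  have hsurj := evl_surjective p ζ hgen
  have hR1 : RelsHold p m fz fz' (f 0) (f 1) (f 2) := by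
    have := P1 G (f ∘ emb3) (fun r hr => by
      rw [← lift_map_eq]
      apply hf
      rw [relList3]
      exact List.mem_append_left _ (List.mem_map.mpr ⟨r, hr, rfl⟩))
    exact this
  have hcross : ∀ r ∈ cross3 gz I (f 0) (f 1) (f 2) (f 3), r = 1 := by
    refine (forall_lift_iff' f (cross3 gz I (FreeGroup.of 0) (FreeGroup.of 1) (FreeGroup.of 2)
      (FreeGroup.of 3)) _ ?_).mp ?_
    · rw [map_cross3]; simp
    · intro r hr
      apply hf
      rw [relList3]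
      exact List.mem_append_right _ hr
  have hfz'' : evl p ((ζ : F) ^ 2) fz' = -(ζ : F)⁻¹ := by
    rw [hfz', Units.val_inv_eq_inv_val]
  have hgz' : evl p ((ζ : F) ^ 2) gz = (ζ : F)⁻¹ := by
    rw [hgz, Units.val_inv_eq_inv_val]
  rw [range_eq_four] at hgenG
  exact card_bound_of_rels3 p (evl p ((ζ : F) ^ 2)) hsurj m hker (ζ : F) ζ.ne_zero
    (gen_pow ζ hgen) (evl_X p _) fz fz' gz hfz hfz'' hgz' (spans_of_surj p (ζ : F) hsurj)
    I hI1 hI2 (f 0) (f 1) (f 2) (f 3) hR1 hcross hgenG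

theorem rels_gens4 (p : ℕ) [Fact p.Prime] [CharP F p] (ζ : Fˣ)
    (gz : (ZMod p)[X]) (L₃ : List (FreeGroup (Fin 3))) (I : List ℕ)
    (hgz : evl p ((ζ : F) ^ 2) gz = ((ζ⁻¹ : Fˣ) : F))
    (P2 : ∀ r ∈ L₃, FreeGroup.lift (![mU (1 : F), mT, mH ζ] :
        Fin 3 → SpecialLinearGroup (Fin 2) F) r = 1) :
    ∀ r ∈ relList3 L₃ gz I, FreeGroup.lift (gens4 ζ) r = 1 := by
  intro r hr
  rw [relList3, List.mem_append] at hr
  rcases hr with hr | hr
  · obtain ⟨s, hs, rfl⟩ := List.mem_map.mp hr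
    rw [lift_map_eq]
    have : gens4 ζ ∘ emb3 = eHom ∘ (![mU (1 : F), mT, mH ζ] :
        Fin 3 → SpecialLinearGroup (Fin 2) F) := by
      funext i; fin_cases i <;> rfl
    rw [this, lift_comp_eq', P2 s hs, map_one]
  · refine (forall_lift_iff' (gens4 ζ) _ (cross3 gz I (eHom (mU (1 : F))) (eHom mT)
      (eHom (mH ζ)) cM) ?_).mpr (cross3_mat p ζ gz hgz I) r hr
    rw [map_cross3]
    simp [gens4]

theorem sl3_main : ∃ L : List (FreeGroup (Fin 4)), L.length ≤ 14 ∧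
    Nonempty (PresentedGroup (↑L.toFinset : Set (FreeGroup (Fin 4))) ≃*
      SpecialLinearGroup (Fin 3) F) := by
  obtain ⟨p, hp⟩ := CharP.exists F
  haveI := hp
  haveI : Fact p.Prime := ⟨CharP.char_is_prime F p⟩
  obtain ⟨ζ, hgen⟩ := IsCyclic.exists_generator (α := Fˣ)
  obtain ⟨m, fz, fz', L₃, ⟨hlen, hlen2⟩, hker, hfz, hfz', P1, P2⟩ := exists_sl2_rels' p ζ hgen
  have hsurj := evl_surjective p ζ hgen
  obtain ⟨gz, hgz⟩ := hsurj ((ζ⁻¹ : Fˣ) : F)
  have hgenZ : ∀ x : F, x ≠ 0 → ∃ j : ℤ, (ζ : F) ^ j = x := by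
    intro x hx
    obtain ⟨j, hj⟩ := gen_pow ζ hgen x hx
    exact ⟨(j : ℤ), by rw [zpow_natCast]; exact hj⟩
  -- the instances of the commutator relation
  obtain ⟨I, hIlen, hI1, hI2⟩ : ∃ I : List ℕ, L₃.length + (5 + I.length) ≤ 14 ∧
      SpanSet {b : F | ∃ i ∈ I, ∃ k : ℤ, b = (ζ : F) ^ (3 * k + 2 * (i : ℤ))} ∧
      SpanSet {b : F | ∃ i ∈ I, ∃ k : ℤ, b = (ζ : F) ^ (3 * k + 4 * (i : ℤ))} := by
    by_cases hp2 : p = 2
    · refine ⟨[0, 1, 2], ?_, spanSet_three (ζ : F) hgenZ 2 (Or.inl rfl),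
        spanSet_three (ζ : F) hgenZ 4 (Or.inr rfl)⟩
      have := hlen2 hp2
      simp only [List.length_cons, List.length_nil]
      omega
    · have hodd : Fintype.card F % 2 = 1 := by
        apply FiniteField.odd_card_of_char_ne_two
        rw [ringChar.eq F p]
        exact hp2
      refine ⟨[0], ?_, spanSet_one ζ hgen hodd 2, spanSet_one ζ hgen hodd 4⟩
      simp only [List.length_cons, List.length_nil]
      omega
  have hrel := rels_gens4 p ζ gz L₃ I hgz P2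
  have hb := bound_of_list3 p ζ hgen m fz fz' gz L₃ I hI1 hI2 hker hfz hfz' hgz P1
    (PresentedGroup (↑(relList3 L₃ gz I).toFinset : Set (FreeGroup (Fin 4)))) PresentedGroup.of
    (rels_hold' _) (PresentedGroup.closure_range_of _)
  have hgen4 : Subgroup.closure (Set.range (gens4 ζ)) = ⊤ := by
    rw [range_eq_four]
    exact closure_gens4 p ζ hsurj
  obtain ⟨σ, -⟩ := exists_mulEquiv_of_bound (relList3 L₃ gz I) (gens4 ζ) hrel hgen4 hb.1
    (by rw [card_sl3]; exact hb.2)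
  refine ⟨relList3 L₃ gz I, ?_, ⟨σ⟩⟩
  rw [relList3_length]
  exact hIlen

end Cfsg.Agent.Lib.Helper9.SL3P
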