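import Mathlib
import Cfsg.Prelude.Def_GeometricClasses
import Cfsg.Agent.Lib.Helper9.SLMax1

set_option autoImplicit false

namespace Cfsg.Agent.H9SLSymp

open Matrix Cfsg.Agent.H9SLMax

variable {F : Type*} [Field F] {n : ℕ}

/-- existence of the transvection `x ↦ x + φ x • u` -/
theorem exists_isTransv (φ : (Fin n → F) →ₗ[F] F) (u : Fin n → F) (h : φ u = 0) :
    ∃ g : GL (Fin n) F, IsTransv g φ u := by
  classical
  set c : Fin n → F := fun i => φ (Pi.single i 1) with hc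
  have hφc : ∀ x, φ x = c ⬝ᵥ x := by
    intro x
    rw [LinearMap.pi_apply_eq_sum_univ φ x]
    simp only [dotProduct, hc, smul_eq_mul]
    refine Finset.sum_congr rfl (fun i _ => ?_)
    rw [mul_comm]
    congr 2
    ext j
    simp [Pi.single_apply, eq_comm]
  set M : Matrix (Fin n) (Fin n) F := 1 + vecMulVec u c with hM
  have hdet : M.det = 1 := by
    rw [hM, vecMulVec_eq Unit, det_one_add_replicateCol_mul_replicateRow, ← hφc, h, add_zero]
  have hMx : ∀ x, M *ᵥ x = x + φ x • u := by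
    intro x
    rw [hM, add_mulVec, one_mulVec, vecMulVec_mulVec, ← hφc, op_smul_eq_smul]
  exact ⟨Matrix.GeneralLinearGroup.mkOfDetNeZero M (by rw [hdet]; exact one_ne_zero), h, hMx⟩

theorem _root_.Cfsg.Agent.H9SLMax.IsTransv.unique {g g' : GL (Fin n) F} {φ : (Fin n → F) →ₗ[F] F} {u : Fin n → F}
    (h : IsTransv g φ u) (h' : IsTransv g' φ u) : g = g' :=
  gl_ext fun x => by rw [h.2, h'.2]

theorem _root_.Cfsg.Agent.H9SLMax.IsTransv.mul {g g' : GL (Fin n) F} {φ ψ : (Fin n → F) →ₗ[F] F} {u : Fin n → F}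
    (h : IsTransv g φ u) (h' : IsTransv g' ψ u) : IsTransv (g * g') (φ + ψ) u := by
  refine ⟨by rw [LinearMap.add_apply, h.1, h'.1, add_zero], fun x => ?_⟩
  rw [Units.val_mul, ← Matrix.mulVec_mulVec, h'.2, h.2, map_add, map_smul, h.1, smul_zero,
    add_zero, LinearMap.add_apply, add_smul]
  abel

theorem _root_.Cfsg.Agent.H9SLMax.IsTransv.zero {g : GL (Fin n) F} {u : Fin n → F}
    (h : IsTransv g (0 : (Fin n → F) →ₗ[F] F) u) : g = 1 := by
  apply gl_ext
  intro x
  rw [h.2, LinearMap.zero_apply, zero_smul, add_zero, Units.val_one, Matrix.one_mulVec]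

theorem _root_.Cfsg.Agent.H9SLMax.IsTransv.conj {g : GL (Fin n) F} {φ : (Fin n → F) →ₗ[F] F} {u : Fin n → F}
    (h : IsTransv g φ u) (k : GL (Fin n) F) :
    IsTransv (k * g * k⁻¹)
      (φ.comp (Matrix.toLin' ((k⁻¹ : GL (Fin n) F) : Matrix (Fin n) (Fin n) F)))
      ((k : Matrix (Fin n) (Fin n) F) *ᵥ u) := by
  refine ⟨?_, fun x => ?_⟩
  · rw [LinearMap.comp_apply, Matrix.toLin'_apply, inv_mulVec_mulVec]
    exact h.1
  · rw [Units.val_mul, Units.val_mul, ← Matrix.mulVec_mulVec, ← Matrix.mulVec_mulVec, h.2,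
      Matrix.mulVec_add, Matrix.mulVec_smul, mulVec_inv_mulVec, LinearMap.comp_apply,
      Matrix.toLin'_apply]

/-- The set of functionals `φ` (vanishing at `v`) whose transvection with direction `v` is in `M`. -/
def funSet (M : Subgroup (GL (Fin n) F)) (v : Fin n → F) : Set ((Fin n → F) →ₗ[F] F) :=
  {φ | φ v = 0 ∧ ∀ g : GL (Fin n) F, IsTransv g φ v → g ∈ M}

theorem funSet_add (M : Subgroup (GL (Fin n) F)) {v : Fin n → F} {φ ψ : (Fin n → F) →ₗ[F] F}
    (hφ : φ ∈ funSet M v) (hψ : ψ ∈ funSet M v) : φ + ψ ∈ funSet M v := by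
  refine ⟨by rw [LinearMap.add_apply, hφ.1, hψ.1, add_zero], fun g hg => ?_⟩
  obtain ⟨g₁, hg₁⟩ := exists_isTransv φ v hφ.1
  obtain ⟨g₂, hg₂⟩ := exists_isTransv ψ v hψ.1
  rw [hg.unique (hg₁.mul hg₂)]
  exact M.mul_mem (hφ.2 g₁ hg₁) (hψ.2 g₂ hg₂)

theorem funSet_neg (M : Subgroup (GL (Fin n) F)) {v : Fin n → F} {φ : (Fin n → F) →ₗ[F] F}
    (hφ : φ ∈ funSet M v) : -φ ∈ funSet M v := by
  refine ⟨by rw [LinearMap.neg_apply, hφ.1, neg_zero], fun g hg => ?_⟩
  obtain ⟨g₁, hg₁⟩ := exists_isTransv φ v hφ.1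
  have h1 : IsTransv (g₁ * g) (φ + -φ) v := hg₁.mul hg
  rw [add_neg_cancel] at h1
  have h2 : g = g₁⁻¹ := eq_inv_of_mul_eq_one_right h1.zero
  rw [h2]
  exact M.inv_mem (hφ.2 g₁ hg₁)

theorem funSet_sub (M : Subgroup (GL (Fin n) F)) {v : Fin n → F} {φ ψ : (Fin n → F) →ₗ[F] F}
    (hφ : φ ∈ funSet M v) (hψ : ψ ∈ funSet M v) : φ - ψ ∈ funSet M v := by
  rw [sub_eq_add_neg]
  exact funSet_add M hφ (funSet_neg M hψ)

theorem funSet_conj (M : Subgroup (GL (Fin n) F)) {v : Fin n → F} {φ : (Fin n → F) →ₗ[F] F}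
    (hφ : φ ∈ funSet M v) {k : GL (Fin n) F} (hk : k ∈ M) :
    φ.comp (Matrix.toLin' ((k⁻¹ : GL (Fin n) F) : Matrix (Fin n) (Fin n) F)) ∈
      funSet M ((k : Matrix (Fin n) (Fin n) F) *ᵥ v) := by
  refine ⟨?_, fun g hg => ?_⟩
  · rw [LinearMap.comp_apply, Matrix.toLin'_apply, inv_mulVec_mulVec]
    exact hφ.1
  · obtain ⟨g₁, hg₁⟩ := exists_isTransv φ v hφ.1
    rw [hg.unique (hg₁.conj k)]
    exact M.mul_mem (M.mul_mem hk (hφ.2 g₁ hg₁)) (M.inv_mem hk)

theorem mem_dirSub_of_funSet (M : Subgroup (GL (Fin n) F)) {v : Fin n → F}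
    (h : ∀ ψ : (Fin n → F) →ₗ[F] F, ψ v = 0 → ψ ∈ funSet M v) : v ∈ dirSub M := by
  intro g φ hg
  exact (h φ hg.1).2 g hg

section Form

variable (f : (Fin n → F) → (Fin n → F) → F) (hf : Cfsg.Geo.IsSymplecticForm f)

/-- the functional `x ↦ f x w` -/
def fr (hf : Cfsg.Geo.IsSymplecticForm f) (w : Fin n → F) : (Fin n → F) →ₗ[F] F where
  toFun x := f x w
  map_add' x y := hf.bilinear.add_left x y w
  map_smul' c x := by
    rw [hf.bilinear.smul_left, RingHom.id_apply, smul_eq_mul]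

@[simp] theorem fr_apply (w x : Fin n → F) : fr f hf w x = f x w := rfl

theorem fr_add (w₁ w₂ : Fin n → F) : fr f hf (w₁ + w₂) = fr f hf w₁ + fr f hf w₂ := by
  apply LinearMap.ext
  intro x
  rw [LinearMap.add_apply, fr_apply, fr_apply, fr_apply, hf.bilinear.add_right]

theorem fr_smul (c : F) (w : Fin n → F) : fr f hf (c • w) = c • fr f hf w := by
  apply LinearMap.ext
  intro x
  rw [LinearMap.smul_apply, fr_apply, fr_apply, hf.bilinear.smul_right, smul_eq_mul]

include hf in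
theorem f_zero_right (x : Fin n → F) : f x 0 = 0 := by
  have := hf.bilinear.smul_right 0 x 0
  rwa [zero_smul, zero_mul] at this

include hf in
theorem f_zero_left (x : Fin n → F) : f 0 x = 0 := by
  rw [hf.skew, f_zero_right f hf, neg_zero]

include hf in
theorem f_sub_right (x a b : Fin n → F) : f x (a - b) = f x a - f x b := by
  have h1 : a - b = a + (-1 : F) • b := by rw [neg_one_smul, sub_eq_add_neg]
  rw [h1, hf.bilinear.add_right, hf.bilinear.smul_right]
  ring

include hf in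
theorem f_eq_zero_symm {x y : Fin n → F} (h : f x y = 0) : f y x = 0 := by
  rw [hf.skew, h, neg_zero]

include hf in
/-- Riesz representation -/
theorem exists_fr_eq (ψ : (Fin n → F) →ₗ[F] F) : ∃ w, ψ = fr f hf w := by
  set R : (Fin n → F) →ₗ[F] Module.Dual F (Fin n → F) :=
    { toFun := fun w => fr f hf w
      map_add' := fun a b => fr_add f hf a b
      map_smul' := fun c a => fr_smul f hf c a } with hR
  have hinj : Function.Injective R := by
    rw [← LinearMap.ker_eq_bot, LinearMap.ker_eq_bot']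
    intro w hw
    by_contra hw0
    obtain ⟨⟨x, hx⟩, -⟩ := hf.nondegenerate w hw0
    apply hx
    have := congrArg (fun φ : Module.Dual F (Fin n → F) => φ x) hw
    simpa [hR] using this
  have hsurj : Function.Surjective R := by
    apply (LinearMap.injective_iff_surjective_of_finrank_eq_finrank ?_).mp hinj
    rw [Subspace.dual_finrank_eq]
  obtain ⟨w, hw⟩ := hsurj ψ
  exact ⟨w, hw.symm⟩

/-- the symplectic transvection `x ↦ x + c f(x,w) w` as an element of `GL`, via `IsTransv`. -/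
theorem exists_symp_transv (w : Fin n → F) (c : F) :
    ∃ g : GL (Fin n) F, IsTransv g (c • fr f hf w) w :=
  exists_isTransv _ _ (by rw [LinearMap.smul_apply, fr_apply, hf.alternating, smul_zero])

include hf in
/-- a symplectic transvection preserves `f` -/
theorem symp_transv_preserves {g : GL (Fin n) F} {w : Fin n → F} {c : F}
    (hg : IsTransv g (c • fr f hf w) w) (x y : Fin n → F) :
    f ((g : Matrix (Fin n) (Fin n) F) *ᵥ x) ((g : Matrix (Fin n) (Fin n) F) *ᵥ y) = f x y := by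
  rw [hg.2, hg.2]
  simp only [LinearMap.smul_apply, fr_apply, smul_eq_mul]
  rw [hf.bilinear.add_left, hf.bilinear.add_right, hf.bilinear.add_right, hf.bilinear.smul_left,
    hf.bilinear.smul_left, hf.bilinear.smul_right, hf.bilinear.smul_right, hf.alternating,
    hf.skew w y]
  ring

include hf in
theorem symp_transv_mem {g : GL (Fin n) F} {w : Fin n → F} {c : F}
    (hg : IsTransv g (c • fr f hf w) w) :
    g ∈ Cfsg.Geo.similarityGroup f ⊓ Cfsg.Geo.specialLinear (Fin n) F := by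
  refine ⟨⟨1, fun x y => ?_⟩, hg.mem_specialLinear⟩
  rw [symp_transv_preserves f hf hg, Units.val_one, one_mul]

include hf in
/-- common non-orthogonal vector -/
theorem exists_both_ne (a b : Fin n → F) (ha : a ≠ 0) (hb : b ≠ 0) :
    ∃ s, f a s ≠ 0 ∧ f b s ≠ 0 := by
  obtain ⟨-, s₁, h₁⟩ := hf.nondegenerate a ha
  obtain ⟨-, s₂, h₂⟩ := hf.nondegenerate b hb
  by_cases h3 : f b s₁ = 0
  · by_cases h4 : f a s₂ = 0
    · refine ⟨s₁ + s₂, ?_, ?_⟩
      · rw [hf.bilinear.add_right, h4, add_zero]; exact h₁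
      · rw [hf.bilinear.add_right, h3, zero_add]; exact h₂
    · exact ⟨s₂, h4, h₂⟩
  · exact ⟨s₁, h₁, h3⟩

end Form

end Cfsg.Agent.H9SLSymp
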