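import Mathlib
import Cfsg.Agent.Lib.Helper9.SLSymp1

set_option autoImplicit false

namespace Cfsg.Agent.H9SLSymp

open Matrix Cfsg.Agent.H9SLMax

variable {F : Type*} [Field F] {n : ℕ}

theorem _root_.Cfsg.Agent.H9SLMax.IsTransv.inv {g : GL (Fin n) F} {φ : (Fin n → F) →ₗ[F] F}
    {u : Fin n → F} (h : IsTransv g φ u) : IsTransv g⁻¹ (-φ) u := by
  refine ⟨by rw [LinearMap.neg_apply, h.1, neg_zero], fun x => ?_⟩
  have h1 : (g : Matrix (Fin n) (Fin n) F) *ᵥ (x + (-φ) x • u) = x := by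
    rw [h.2, map_add, map_smul, h.1, smul_zero, add_zero, LinearMap.neg_apply, neg_smul]
    abel
  have h2 := inv_mulVec_mulVec g (x + (-φ) x • u)
  rw [h1] at h2
  exact h2

section Main

variable (f : (Fin n → F) → (Fin n → F) → F) (hf : Cfsg.Geo.IsSymplecticForm f)
  (M : Subgroup (GL (Fin n) F))
  (hNM : Cfsg.Geo.similarityGroup f ⊓ Cfsg.Geo.specialLinear (Fin n) F ≤ M)

include hf hNM in
/-- Key lemma: if `F • φ ⊆ funSet M v` for some `φ` not proportional to `f(·, v)`, then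
`funSet M v` is everything. -/
theorem funSet_eq_of_ne {v : Fin n → F} (φ : (Fin n → F) →ₗ[F] F)
    (hφ : ∀ c : F, c • φ ∈ funSet M v)
    (x₀ : Fin n → F) (hx₀ : f x₀ v = 0) (hφx₀ : φ x₀ ≠ 0) :
    ∀ ψ : (Fin n → F) →ₗ[F] F, ψ v = 0 → ψ ∈ funSet M v := by
  have hφ1 : φ ∈ funSet M v := by
    have := hφ 1
    rwa [one_smul] at this
  have step1 : ∀ w, f w v = 0 → φ w ≠ 0 → ∀ a : F, a • fr f hf w ∈ funSet M v := by
    intro w hwv hφw a
    set d : F := a * (φ w)⁻¹ with hd
    obtain ⟨h, hh⟩ := exists_symp_transv f hf w d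
    have hhM : h ∈ M := hNM (symp_transv_mem f hf hh)
    have hhv : (h : Matrix (Fin n) (Fin n) F) *ᵥ v = v := by
      rw [hh.2, LinearMap.smul_apply, fr_apply, f_eq_zero_symm f hf hwv, smul_zero, zero_smul,
        add_zero]
    have h1 := funSet_conj M hφ1 hhM
    rw [hhv] at h1
    have h2 : φ.comp (Matrix.toLin' ((h⁻¹ : GL (Fin n) F) : Matrix (Fin n) (Fin n) F)) =
        φ - a • fr f hf w := by
      apply LinearMap.ext
      intro x
      rw [LinearMap.comp_apply, Matrix.toLin'_apply, hh.inv.2, map_add, map_smul,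
        LinearMap.sub_apply, LinearMap.smul_apply, LinearMap.neg_apply, LinearMap.smul_apply,
        fr_apply]
      simp only [smul_eq_mul, hd]
      field_simp
      ring
    rw [h2] at h1
    have h3 := funSet_sub M hφ1 h1
    rwa [sub_sub_cancel] at h3
  have step2 : ∀ w, f w v = 0 → ∀ a : F, a • fr f hf w ∈ funSet M v := by
    intro w hwv a
    by_cases hφw : φ w = 0
    · have e : w = x₀ + (w - x₀) := by abel
      rw [e, fr_add, smul_add]
      apply funSet_add M (step1 x₀ hx₀ hφx₀ a)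
      apply step1 (w - x₀) _ _ a
      · have h1 : w - x₀ = w + (-1 : F) • x₀ := by rw [neg_one_smul, sub_eq_add_neg]
        rw [h1, hf.bilinear.add_left, hf.bilinear.smul_left, hwv, hx₀, mul_zero, add_zero]
      · rw [map_sub, hφw, zero_sub, neg_ne_zero]
        exact hφx₀
    · exact step1 w hwv hφw a
  intro ψ hψ
  obtain ⟨w, rfl⟩ := exists_fr_eq f hf ψ
  rw [fr_apply] at hψ
  have := step2 w (f_eq_zero_symm f hf hψ) 1
  rwa [one_smul] at this

include hf in
/-- two forms with the same orthogonality relation are proportional -/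
theorem proportional (hn : 1 ≤ n) (f' : (Fin n → F) → (Fin n → F) → F)
    (hadd : ∀ x y v, f' (x + y) v = f' x v + f' y v)
    (hsmul : ∀ (c : F) x v, f' (c • x) v = c * f' x v)
    (hskew : ∀ v w, f' v w = - f' w v)
    (hne : ∀ v, v ≠ 0 → ∃ x, f' x v ≠ 0)
    (h : ∀ x v, f x v = 0 → f' x v = 0) :
    ∃ c : F, c ≠ 0 ∧ ∀ x v, f' x v = c * f x v := by
  have key : ∀ v, v ≠ 0 → ∃ c : F, ∀ x, f' x v = c * f x v := by
    intro v hv
    obtain ⟨⟨xv, hxv⟩, -⟩ := hf.nondegenerate v hv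
    refine ⟨f' xv v * (f xv v)⁻¹, fun x => ?_⟩
    have h1 : f (x + (-(f x v * (f xv v)⁻¹)) • xv) v = 0 := by
      rw [hf.bilinear.add_left, hf.bilinear.smul_left]
      field_simp
      ring
    have h2 := h _ _ h1
    rw [hadd, hsmul] at h2
    field_simp
    field_simp at h2
    linear_combination h2
  have hconst : ∀ v w (hv : v ≠ 0) (hw : w ≠ 0) (c₁ c₂ : F),
      (∀ x, f' x v = c₁ * f x v) → (∀ x, f' x w = c₂ * f x w) → c₁ = c₂ := by
    intro v w hv hw c₁ c₂ h₁ h₂
    obtain ⟨s, hs1, hs2⟩ := exists_both_ne f hf v w hv hw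
    have hs0 : s ≠ 0 := by
      rintro rfl
      exact hs1 (f_zero_right f hf v)
    obtain ⟨c₃, h₃⟩ := key s hs0
    have e1 : c₃ = c₁ := by
      have a1 := h₃ v
      have a2 := h₁ s
      rw [hskew, a2, hf.skew s v] at a1
      have : (c₃ - c₁) * f v s = 0 := by linear_combination -a1
      rcases mul_eq_zero.mp this with h0 | h0
      · exact sub_eq_zero.mp h0
      · exact absurd h0 hs1
    have e2 : c₃ = c₂ := by
      have a1 := h₃ w
      have a2 := h₂ s
      rw [hskew, a2, hf.skew s w] at a1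
      have : (c₃ - c₂) * f w s = 0 := by linear_combination -a1
      rcases mul_eq_zero.mp this with h0 | h0
      · exact sub_eq_zero.mp h0
      · exact absurd h0 hs2
    rw [← e1, e2]
  have hv₀ : (Pi.single (⟨0, by omega⟩ : Fin n) 1 : Fin n → F) ≠ 0 := by
    intro h0
    have := congrFun h0 ⟨0, by omega⟩
    rw [Pi.single_eq_same] at this
    exact one_ne_zero this
  obtain ⟨c, hc⟩ := key _ hv₀
  refine ⟨c, ?_, fun x v => ?_⟩
  · rintro rfl
    obtain ⟨x, hx⟩ := hne _ hv₀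
    apply hx
    rw [hc, zero_mul]
  · by_cases hv : v = 0
    · have h0 := h x v (by rw [hv, f_zero_right f hf])
      rw [h0, hv, f_zero_right f hf, mul_zero]
    · obtain ⟨c', hc'⟩ := key v hv
      have := hconst v _ hv hv₀ c' c hc' hc
      rw [hc', this]

include hf in
/-- transitivity of the symplectic transvections on nonzero vectors -/
theorem exists_map (a b : Fin n → F) (ha : a ≠ 0) (hb : b ≠ 0) :
    ∃ h ∈ Cfsg.Geo.similarityGroup f ⊓ Cfsg.Geo.specialLinear (Fin n) F,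
      (h : Matrix (Fin n) (Fin n) F) *ᵥ a = b := by
  have step : ∀ a b : Fin n → F, f a b ≠ 0 →
      ∃ h ∈ Cfsg.Geo.similarityGroup f ⊓ Cfsg.Geo.specialLinear (Fin n) F,
        (h : Matrix (Fin n) (Fin n) F) *ᵥ a = b := by
    intro a b hab
    obtain ⟨h, hh⟩ := exists_symp_transv f hf (a - b) (f a b)⁻¹
    refine ⟨h, symp_transv_mem f hf hh, ?_⟩
    rw [hh.2, LinearMap.smul_apply, fr_apply, f_sub_right f hf, hf.alternating, zero_sub,
      smul_eq_mul, mul_neg, inv_mul_cancel₀ hab, neg_smul, one_smul]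
    abel
  by_cases hab : f a b = 0
  · obtain ⟨s, hs1, hs2⟩ := exists_both_ne f hf a b ha hb
    obtain ⟨h₁, hh₁, e₁⟩ := step a s hs1
    obtain ⟨h₂, hh₂, e₂⟩ := step s b (by rw [hf.skew, neg_ne_zero]; exact hs2)
    refine ⟨h₂ * h₁, mul_mem hh₂ hh₁, ?_⟩
    rw [Units.val_mul, ← Matrix.mulVec_mulVec, e₁, e₂]
  · exact step a b hab

include hf hNM in
/-- Main theorem: an overgroup in `SL` of `GSp ∩ SL` which contains a non-similarity is `SL`. -/
theorem eq_specialLinear (hn : 1 ≤ n) (hMS : M ≤ Cfsg.Geo.specialLinear (Fin n) F)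
    (g : GL (Fin n) F) (hgM : g ∈ M) (hg : g ∉ Cfsg.Geo.similarityGroup f) :
    M = Cfsg.Geo.specialLinear (Fin n) F := by
  refine le_antisymm hMS ?_
  apply specialLinear_le_of_dirSub_eq_top
  set f' : (Fin n → F) → (Fin n → F) → F := fun x y =>
    f (((g⁻¹ : GL (Fin n) F) : Matrix (Fin n) (Fin n) F) *ᵥ x)
      (((g⁻¹ : GL (Fin n) F) : Matrix (Fin n) (Fin n) F) *ᵥ y) with hf'
  -- a pair with `f x₀ v = 0` but `f' x₀ v ≠ 0`
  obtain ⟨x₀, v, hx₀, hx₀'⟩ : ∃ x₀ v, f x₀ v = 0 ∧ f' x₀ v ≠ 0 := by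
    by_contra hcon
    push Not at hcon
    obtain ⟨c, hc0, hc⟩ := proportional f hf hn f'
      (fun x y v => by simp only [hf']; rw [Matrix.mulVec_add, hf.bilinear.add_left])
      (fun c x v => by simp only [hf']; rw [Matrix.mulVec_smul, hf.bilinear.smul_left])
      (fun v w => by simp only [hf']; rw [hf.skew])
      (fun v hv => by
        have hv' : ((g⁻¹ : GL (Fin n) F) : Matrix (Fin n) (Fin n) F) *ᵥ v ≠ 0 := by
          intro h0
          apply hv
          have := mulVec_inv_mulVec g v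
          rw [h0, Matrix.mulVec_zero] at this
          exact this.symm
        obtain ⟨⟨x, hx⟩, -⟩ := hf.nondegenerate _ hv'
        refine ⟨(g : Matrix (Fin n) (Fin n) F) *ᵥ x, ?_⟩
        simp only [hf']
        rw [inv_mulVec_mulVec]
        exact hx)
      hcon
    apply hg
    have : g⁻¹ ∈ Cfsg.Geo.similarityGroup f := ⟨Units.mk0 c hc0, fun u v => hc u v⟩
    have h2 := (Cfsg.Geo.similarityGroup f).inv_mem this
    rwa [inv_inv] at h2
  have hv0 : v ≠ 0 := by
    rintro rfl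
    apply hx₀'
    simp only [hf']
    rw [Matrix.mulVec_zero, f_zero_right f hf]
  set w₀ := ((g⁻¹ : GL (Fin n) F) : Matrix (Fin n) (Fin n) F) *ᵥ v with hw₀
  set φ : (Fin n → F) →ₗ[F] F :=
    (fr f hf w₀).comp (Matrix.toLin' ((g⁻¹ : GL (Fin n) F) : Matrix (Fin n) (Fin n) F)) with hφ
  have hφx : ∀ x, φ x = f' x v := fun x => rfl
  have hgw₀ : (g : Matrix (Fin n) (Fin n) F) *ᵥ w₀ = v := mulVec_inv_mulVec g v
  have hφmem : ∀ c : F, c • φ ∈ funSet M v := by
    intro c
    have h1 : c • fr f hf w₀ ∈ funSet M w₀ := by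
      refine ⟨by rw [LinearMap.smul_apply, fr_apply, hf.alternating, smul_zero], fun τ hτ => ?_⟩
      exact hNM (symp_transv_mem f hf hτ)
    have h2 := funSet_conj M h1 hgM
    rw [hgw₀, LinearMap.smul_comp] at h2
    exact h2
  have hv_mem : v ∈ dirSub M := by
    apply mem_dirSub_of_funSet
    exact funSet_eq_of_ne f hf M hNM φ hφmem x₀ hx₀ (by rw [hφx]; exact hx₀')
  rw [eq_top_iff]
  intro u _
  by_cases hu : u = 0
  · rw [hu]; exact (dirSub M).zero_mem
  obtain ⟨h, hh, rfl⟩ := exists_map f hf v u hv0 hu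
  exact dirSet_mulVec M (hNM hh) hv_mem

end Main

end Cfsg.Agent.H9SLSymp
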