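import Mathlib
import Cfsg.Prelude
import Cfsg.Agent.Lib.Helper9.SLSymp2
import Cfsg.Agent.Lib.Helper9.OrthMax2

set_option autoImplicit false
set_option maxHeartbeats 800000

/-! Overgroups of the similarity group of a quadratic form in `SL_n(q)`, `q` odd:
transvections described by pairs of orthogonal vectors. -/

namespace Cfsg.Agent.H9SLOrth

open Matrix Module Cfsg.Agent.H9SLMax Cfsg.Agent.H9SLSymp Cfsg.Agent.H9Orth
  Cfsg.Agent.Lib.Helper2.ReflGen Cfsg.Agent.Lib.Helper2.CDG Cfsg.Agent.Lib.Helper2.Siegel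

variable {F : Type*} [Field F] {n : ℕ} {Q : QuadraticForm F (Fin n → F)}

/-- the functional `x ↦ B(b, x)` -/
def flat (Q : QuadraticForm F (Fin n → F)) (b : Fin n → F) : (Fin n → F) →ₗ[F] F :=
  QuadraticMap.polarBilin Q b

theorem flat_apply (b x : Fin n → F) : flat Q b x = QuadraticMap.polar (⇑Q) b x := rfl

theorem flat_add (b b' : Fin n → F) : flat Q (b + b') = flat Q b + flat Q b' := by
  unfold flat; rw [map_add]

theorem flat_sub (b b' : Fin n → F) : flat Q (b - b') = flat Q b - flat Q b' := by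
  unfold flat; rw [map_sub]

theorem flat_smul (c : F) (b : Fin n → F) : flat Q (c • b) = c • flat Q b := by
  unfold flat; rw [map_smul]

theorem flat_zero : flat Q (0 : Fin n → F) = 0 := by
  unfold flat; rw [map_zero]

/-- every functional is of the form `B(b, ·)` -/
theorem exists_flat_eq (hQ : (QuadraticMap.polarBilin Q).Nondegenerate)
    (φ : (Fin n → F) →ₗ[F] F) : ∃ b, φ = flat Q b := by
  have hinj : Function.Injective (QuadraticMap.polarBilin Q) := by
    rw [← LinearMap.ker_eq_bot, LinearMap.ker_eq_bot']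
    intro x hx
    apply hQ.1 x
    intro y
    rw [hx]
    rfl
  have hsurj : Function.Surjective (QuadraticMap.polarBilin Q) := by
    apply (LinearMap.injective_iff_surjective_of_finrank_eq_finrank ?_).mp hinj
    exact (Subspace.dual_finrank_eq).symm
  obtain ⟨b, hb⟩ := hsurj φ
  exact ⟨b, hb.symm⟩

/-- closure of `funSet` in the direction variable -/
theorem funSet_dir_sub (M : Subgroup (GL (Fin n) F)) {φ : (Fin n → F) →ₗ[F] F}
    {a a' : Fin n → F} (h : φ ∈ funSet M a) (h' : φ ∈ funSet M a') : φ ∈ funSet M (a - a') := by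
  refine ⟨by rw [map_sub, h.1, h'.1, sub_zero], fun g hg => ?_⟩
  obtain ⟨g₁, hg₁⟩ := exists_isTransv φ a h.1
  obtain ⟨g₂, hg₂⟩ := exists_isTransv φ a' h'.1
  have h3 : IsTransv (g₁ * g₂⁻¹) φ (a - a') := by
    refine ⟨hg.1, fun x => ?_⟩
    rw [Units.val_mul, ← Matrix.mulVec_mulVec, hg₂.inv.2, hg₁.2, map_add, map_smul, h'.1,
      LinearMap.neg_apply, smul_zero, add_zero]
    module
  rw [hg.unique h3]
  exact M.mul_mem (h.2 g₁ hg₁) (M.inv_mem (h'.2 g₂ hg₂))

/-- `M` contains the transvection `x ↦ x + B(b,x) a` -/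
def Pair (Q : QuadraticForm F (Fin n → F)) (M : Subgroup (GL (Fin n) F))
    (a b : Fin n → F) : Prop := flat Q b ∈ funSet M a

namespace Pair

variable {M : Subgroup (GL (Fin n) F)} {a a' b b' : Fin n → F}

theorem perp (h : Pair Q M a b) : QuadraticMap.polar (⇑Q) b a = 0 := h.1

theorem sub_right (h : Pair Q M a b) (h' : Pair Q M a b') : Pair Q M a (b - b') := by
  unfold Pair
  rw [flat_sub]
  exact funSet_sub M h h'

theorem sub_left (h : Pair Q M a b) (h' : Pair Q M a' b) : Pair Q M (a - a') b :=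
  funSet_dir_sub M h h'

theorem zero_left (M : Subgroup (GL (Fin n) F)) (b : Fin n → F) : Pair Q M 0 b := by
  refine ⟨map_zero _, fun g hg => ?_⟩
  rw [hg.eq_one]
  exact M.one_mem

theorem zero_right (M : Subgroup (GL (Fin n) F)) (a : Fin n → F) : Pair Q M a 0 := by
  unfold Pair
  rw [flat_zero]
  refine ⟨LinearMap.zero_apply _, fun g hg => ?_⟩
  rw [hg.zero]
  exact M.one_mem

theorem neg_left (h : Pair Q M a b) : Pair Q M (-a) b := by
  have := (zero_left (Q := Q) M b).sub_left h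
  rwa [zero_sub] at this

theorem add_left (h : Pair Q M a b) (h' : Pair Q M a' b) : Pair Q M (a + a') b := by
  have := h.sub_left h'.neg_left
  rwa [sub_neg_eq_add] at this

theorem neg_right (h : Pair Q M a b) : Pair Q M a (-b) := by
  have := (zero_right (Q := Q) M a).sub_right h
  rwa [zero_sub] at this

theorem add_right (h : Pair Q M a b) (h' : Pair Q M a b') : Pair Q M a (b + b') := by
  have := h.sub_right h'.neg_right
  rwa [sub_neg_eq_add] at this

/-- conjugation by an isometry in `M` -/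
theorem conj_iso (h : Pair Q M a b) {ρ : GL (Fin n) F} (hρM : ρ ∈ M)
    (hρ : ∀ x y, QuadraticMap.polar (⇑Q) ((ρ : Matrix (Fin n) (Fin n) F) *ᵥ x)
      ((ρ : Matrix (Fin n) (Fin n) F) *ᵥ y) = QuadraticMap.polar (⇑Q) x y) :
    Pair Q M ((ρ : Matrix (Fin n) (Fin n) F) *ᵥ a) ((ρ : Matrix (Fin n) (Fin n) F) *ᵥ b) := by
  have h1 := funSet_conj M h hρM
  have e : (flat Q b).comp (Matrix.toLin' ((ρ⁻¹ : GL (Fin n) F) : Matrix (Fin n) (Fin n) F)) =
      flat Q ((ρ : Matrix (Fin n) (Fin n) F) *ᵥ b) := by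
    apply LinearMap.ext
    intro x
    rw [LinearMap.comp_apply, Matrix.toLin'_apply, flat_apply, flat_apply, ← hρ,
      mulVec_inv_mulVec]
  unfold Pair
  rw [← e]
  exact h1

end Pair

/-- the Eichler transformation as an element of `GL` -/
theorem eich_polar (hQ : (QuadraticMap.polarBilin Q).Nondegenerate) (u v : Fin n → F)
    (hu : Q u = 0) (huv : QuadraticMap.polar (⇑Q) u v = 0) (x y : Fin n → F) :
    QuadraticMap.polar (⇑Q)
      (((eich hQ u v hu huv : GL (Fin n) F) : Matrix (Fin n) (Fin n) F) *ᵥ x)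
      (((eich hQ u v hu huv : GL (Fin n) F) : Matrix (Fin n) (Fin n) F) *ᵥ y) =
      QuadraticMap.polar (⇑Q) x y := iso_polar _ x y

theorem omegaGL_le_specialLinear (Q : (Fin n → F) → F) :
    Cfsg.Geo.omegaGL Q ≤ Cfsg.Geo.specialLinear (Fin n) F := by
  rintro _ ⟨g, hg, rfl⟩
  have h1 : commutator ↥(Cfsg.isometryGroup F Q) ≤
      ((Matrix.GeneralLinearGroup.det : GL (Fin n) F →* Fˣ).comp
        (Cfsg.isometryGroup F Q).subtype).ker :=
    Abelianization.commutator_subset_ker _
  exact h1 hg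

theorem isometry_mem_quadSimilarity (Q : (Fin n → F) → F) (g : ↥(Cfsg.isometryGroup F Q)) :
    (g : GL (Fin n) F) ∈ Cfsg.Geo.quadSimilarityGroup Q :=
  ⟨1, fun v => by rw [Units.val_one, one_mul]; exact g.2 v v⟩

theorem eich_mem_H [Finite F] (hQ : (QuadraticMap.polarBilin Q).Nondegenerate) (hn : 7 ≤ n)
    (u v : Fin n → F) (hu : Q u = 0) (huv : QuadraticMap.polar (⇑Q) u v = 0) :
    ((eich hQ u v hu huv : ↥(Cfsg.isometryGroup F ⇑Q)) : GL (Fin n) F) ∈
      Cfsg.Geo.quadSimilarityGroup ⇑Q ⊓ Cfsg.Geo.specialLinear (Fin n) F :=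
  ⟨isometry_mem_quadSimilarity _ _, omegaGL_le_specialLinear _
    (eich_mem_omegaGL hQ (by rw [Fintype.card_fin]; exact hn) u v hu huv)⟩

end Cfsg.Agent.H9SLOrth
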