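import Mathlib
import Cfsg.Prelude
import Cfsg.Agent.Lib.Helper9.SLOrth1

set_option autoImplicit false
set_option maxHeartbeats 800000

/-! Spreading a relation invariant under Eichler transformations. -/

namespace Cfsg.Agent.H9SLOrth

open Matrix Module Cfsg.Agent.H9SLMax Cfsg.Agent.H9SLSymp Cfsg.Agent.H9Orth
  Cfsg.Agent.Lib.Helper2.ReflGen Cfsg.Agent.Lib.Helper2.CDG Cfsg.Agent.Lib.Helper2.Siegel

variable {F : Type*} [Field F] {n : ℕ} {Q : QuadraticForm F (Fin n → F)}

/-- a vector orthogonal to a subspace `X` but not to `w ∉ X` -/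
theorem exists_perp_sub_not_perp (hQ : (QuadraticMap.polarBilin Q).Nondegenerate)
    (X : Submodule F (Fin n → F)) (w : Fin n → F) (hw : w ∉ X) :
    ∃ b : Fin n → F, (∀ x ∈ X, QuadraticMap.polar (⇑Q) x b = 0) ∧
      QuadraticMap.polar (⇑Q) w b ≠ 0 := by
  have hrefl : (QuadraticMap.polarBilin Q).IsRefl := Cfsg.Agent.Lib.Helper5.polarBilin_isRefl Q
  by_contra hcon
  push Not at hcon
  apply hw
  rw [← LinearMap.BilinForm.orthogonal_orthogonal hQ hrefl X]
  intro b hb
  show QuadraticMap.polar (⇑Q) b w = 0
  rw [QuadraticMap.polar_comm]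
  exact hcon b (fun x hx => hb x hx)

theorem finrank_span_triple_le (u v w : Fin n → F) :
    finrank F ↥(Submodule.span F {u, v, w}) ≤ 3 := by
  classical
  have h := finrank_span_le_card (R := F) ({u, v, w} : Set (Fin n → F))
  have h2 : ({u, v, w} : Set (Fin n → F)).toFinset.card ≤ 3 := by
    have : ({u, v, w} : Set (Fin n → F)).toFinset = {u, v, w} := by ext; simp
    rw [this]
    exact Finset.card_le_three
  exact h.trans h2

theorem finrank_span_quad_le (u v w z : Fin n → F) :
    finrank F ↥(Submodule.span F {u, v, w, z}) ≤ 4 := by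
  classical
  have h := finrank_span_le_card (R := F) ({u, v, w, z} : Set (Fin n → F))
  have h2 : ({u, v, w, z} : Set (Fin n → F)).toFinset.card ≤ 4 := by
    have : ({u, v, w, z} : Set (Fin n → F)).toFinset = {u, v, w, z} := by ext; simp
    rw [this]
    exact Finset.card_le_four
  exact h.trans h2

/-- the Eichler map as a function -/
def eF (Q : QuadraticForm F (Fin n → F)) (u v x : Fin n → F) : Fin n → F :=
  x + QuadraticMap.polar (⇑Q) u x • v - QuadraticMap.polar (⇑Q) v x • u
    - (Q v * QuadraticMap.polar (⇑Q) u x) • u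

/-- making a vector singular by adding a hyperbolic correction -/
theorem sing_corr {x p q : Fin n → F} (hp : Q p = 0) (hq : Q q = 0)
    (hpq : QuadraticMap.polar (⇑Q) p q = 1) (hxp : QuadraticMap.polar (⇑Q) x p = 0)
    (hxq : QuadraticMap.polar (⇑Q) x q = 0) : Q (x + p - Q x • q) = 0 := by
  have e : x + p - Q x • q = (1 : F) • x + (1 : F) • p + (-Q x) • q := by
    rw [one_smul, one_smul, neg_smul, sub_eq_add_neg]
  rw [e, Cfsg.Agent.Lib.Helper5.map_lin3, hp, hq, hpq, hxp, hxq]
  ring

/-- **Spreading**: a relation closed under subtraction in the first variable and invariant under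
Eichler transformations, holding for one pair `(a₀, b)` of orthogonal independent vectors, holds
for all `(x, b)` with `x ⟂ b`. -/
theorem spread [Finite F] (hQ : (QuadraticMap.polarBilin Q).Nondegenerate) (hn : 13 ≤ n)
    (h2 : (2 : F) ≠ 0) (R : (Fin n → F) → (Fin n → F) → Prop)
    (hsub : ∀ a a' b, R a b → R a' b → R (a - a') b)
    (hE : ∀ u v, Q u = 0 → QuadraticMap.polar (⇑Q) u v = 0 → ∀ a b, R a b →
      R (eF Q u v a) (eF Q u v b))
    {a₀ b : Fin n → F} (h0 : R a₀ b) (hperp : QuadraticMap.polar (⇑Q) a₀ b = 0)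
    (hind : a₀ ∉ Submodule.span F {b}) :
    ∀ x, QuadraticMap.polar (⇑Q) x b = 0 → R x b := by
  have hzero : R 0 b := by
    have := hsub a₀ a₀ b h0 h0
    rwa [sub_self] at this
  have hneg : ∀ a, R a b → R (-a) b := by
    intro a ha
    have := hsub 0 a b hzero ha
    rwa [zero_sub] at this
  have hadd : ∀ a a', R a b → R a' b → R (a + a') b := by
    intro a a' ha ha'
    have := hsub a (-a') b ha (hneg a' ha')
    rwa [sub_neg_eq_add] at this
  have hcard : Fintype.card (Fin n) = n := Fintype.card_fin n
  -- key1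
  have key1 : ∀ u, Q u = 0 → QuadraticMap.polar (⇑Q) u a₀ = 0 →
      QuadraticMap.polar (⇑Q) u b = 0 → u ∉ Submodule.span F {a₀, b} → R u b := by
    intro u hu hua hub hunot
    have ha₀ : a₀ ∉ Submodule.span F {b, u} := by
      intro hmem
      rw [Submodule.mem_span_pair] at hmem
      obtain ⟨β, γ, hβγ⟩ := hmem
      by_cases hγ : γ = 0
      · apply hind
        rw [Submodule.mem_span_singleton]
        exact ⟨β, by rw [← hβγ, hγ, zero_smul, add_zero]⟩
      · apply hunot
        rw [Submodule.mem_span_pair]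
        refine ⟨γ⁻¹, -(γ⁻¹ * β), ?_⟩
        rw [← hβγ, smul_add, smul_smul, smul_smul, inv_mul_cancel₀ hγ, one_smul, neg_smul]
        abel
    obtain ⟨v', hv'X, hv'a⟩ := exists_perp_sub_not_perp hQ _ a₀ ha₀
    obtain ⟨v, hv⟩ : ∃ v, v = (QuadraticMap.polar (⇑Q) a₀ v')⁻¹ • v' := ⟨_, rfl⟩
    have hvb : QuadraticMap.polar (⇑Q) v b = 0 := by
      rw [hv, QuadraticMap.polar_smul_left, QuadraticMap.polar_comm (⇑Q) v' b,
        hv'X b (Submodule.subset_span (by simp)), smul_zero]
    have hvu : QuadraticMap.polar (⇑Q) u v = 0 := by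
      rw [hv, QuadraticMap.polar_smul_right, hv'X u (Submodule.subset_span (by simp)), smul_zero]
    have hva : QuadraticMap.polar (⇑Q) v a₀ = 1 := by
      rw [hv, QuadraticMap.polar_smul_left, QuadraticMap.polar_comm (⇑Q) v' a₀, smul_eq_mul,
        inv_mul_cancel₀ hv'a]
    have h1 := hE u v hu hvu a₀ b h0
    have e1 : eF Q u v a₀ = a₀ - u := by
      unfold eF
      rw [hua, hva, zero_smul, mul_zero, zero_smul, one_smul, add_zero, sub_zero]
    have e2 : eF Q u v b = b := by
      unfold eF
      rw [hub, hvb, zero_smul, mul_zero, zero_smul, add_zero, sub_zero, sub_zero]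
    rw [e1, e2] at h1
    have := hsub a₀ (a₀ - u) b h0 h1
    rwa [sub_sub_cancel] at this
  -- key2
  have key2 : ∀ x, QuadraticMap.polar (⇑Q) x a₀ = 0 → QuadraticMap.polar (⇑Q) x b = 0 →
      R x b := by
    intro x hxa hxb
    obtain ⟨p, q, hp, hq, hpq, hperp'⟩ := exists_hyp_perp hQ (Submodule.span F {a₀, b, x})
      (by have := finrank_span_triple_le a₀ b x; rw [hcard]; omega)
    have hap := (hperp' a₀ (Submodule.subset_span (by simp))).1
    have haq := (hperp' a₀ (Submodule.subset_span (by simp))).2
    have hbp := (hperp' b (Submodule.subset_span (by simp))).1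
    have hbq := (hperp' b (Submodule.subset_span (by simp))).2
    have hxp := (hperp' x (Submodule.subset_span (by simp))).1
    have hxq := (hperp' x (Submodule.subset_span (by simp))).2
    have hspan : ∀ y ∈ Submodule.span F {a₀, b},
        QuadraticMap.polar (⇑Q) y p = 0 ∧ QuadraticMap.polar (⇑Q) y q = 0 := by
      intro y hy
      rw [Submodule.mem_span_pair] at hy
      obtain ⟨s, t, rfl⟩ := hy
      constructor
      · rw [QuadraticMap.polar_add_left, QuadraticMap.polar_smul_left,
          QuadraticMap.polar_smul_left, hap, hbp, smul_zero, smul_zero, add_zero]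
      · rw [QuadraticMap.polar_add_left, QuadraticMap.polar_smul_left,
          QuadraticMap.polar_smul_left, haq, hbq, smul_zero, smul_zero, add_zero]
    have hRp : R p b := by
      apply key1 p hp (by rw [QuadraticMap.polar_comm]; exact hap)
        (by rw [QuadraticMap.polar_comm]; exact hbp)
      intro hmem
      have := (hspan p hmem).2
      rw [hpq] at this
      exact one_ne_zero this
    have hRq : ∀ c : F, R (c • q) b := by
      intro c
      by_cases hc : c = 0
      · rw [hc, zero_smul]; exact hzero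
      · apply key1 (c • q) (by rw [QuadraticMap.map_smul, hq, smul_zero])
          (by rw [QuadraticMap.polar_smul_left, QuadraticMap.polar_comm, haq, smul_zero])
          (by rw [QuadraticMap.polar_smul_left, QuadraticMap.polar_comm, hbq, smul_zero])
        intro hmem
        have := (hspan _ hmem).1
        rw [QuadraticMap.polar_smul_left, QuadraticMap.polar_comm, hpq, smul_eq_mul, mul_one]
          at this
        exact hc this
    have hu₁ : Q (x + p - Q x • q) = 0 := sing_corr hp hq hpq hxp hxq
    have hRu₁ : R (x + p - Q x • q) b := by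
      apply key1 _ hu₁
      · rw [QuadraticMap.polar_sub_left, QuadraticMap.polar_add_left,
          QuadraticMap.polar_smul_left, hxa, QuadraticMap.polar_comm (⇑Q) p, hap,
          QuadraticMap.polar_comm (⇑Q) q, haq, smul_zero, add_zero, sub_zero]
      · rw [QuadraticMap.polar_sub_left, QuadraticMap.polar_add_left,
          QuadraticMap.polar_smul_left, hxb, QuadraticMap.polar_comm (⇑Q) p, hbp,
          QuadraticMap.polar_comm (⇑Q) q, hbq, smul_zero, add_zero, sub_zero]
      · intro hmem
        have := (hspan _ hmem).2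
        rw [QuadraticMap.polar_sub_left, QuadraticMap.polar_add_left,
          QuadraticMap.polar_smul_left, hxq, hpq, QuadraticMap.polar_self, hq, smul_zero,
          smul_zero, zero_add, sub_zero] at this
        exact one_ne_zero this
    have e : x = (x + p - Q x • q) - p + Q x • q := by abel
    rw [e]
    exact hadd _ _ (hsub _ _ b hRu₁ hRp) (hRq (Q x))
  -- a singular vector orthogonal to `b` with nonzero product with `a₀`
  obtain ⟨w, hwX, hwa⟩ := exists_perp_sub_not_perp hQ (Submodule.span F {b}) a₀ hind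
  have hbw : QuadraticMap.polar (⇑Q) b w = 0 := hwX b (Submodule.mem_span_singleton_self b)
  obtain ⟨p, q, hp, hq, hpq, hperp'⟩ := exists_hyp_perp hQ (Submodule.span F {a₀, b, w})
    (by have := finrank_span_triple_le a₀ b w; rw [hcard]; omega)
  have hap := (hperp' a₀ (Submodule.subset_span (by simp))).1
  have haq := (hperp' a₀ (Submodule.subset_span (by simp))).2
  have hbp := (hperp' b (Submodule.subset_span (by simp))).1
  have hbq := (hperp' b (Submodule.subset_span (by simp))).2
  have hwp := (hperp' w (Submodule.subset_span (by simp))).1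
  have hwq := (hperp' w (Submodule.subset_span (by simp))).2
  obtain ⟨u, hu⟩ : ∃ u, u = w + p - Q w • q := ⟨_, rfl⟩
  have huQ : Q u = 0 := by rw [hu]; exact sing_corr hp hq hpq hwp hwq
  have hub : QuadraticMap.polar (⇑Q) u b = 0 := by
    rw [hu, QuadraticMap.polar_sub_left, QuadraticMap.polar_add_left,
      QuadraticMap.polar_smul_left, QuadraticMap.polar_comm (⇑Q) w, hbw,
      QuadraticMap.polar_comm (⇑Q) p, hbp, QuadraticMap.polar_comm (⇑Q) q, hbq, smul_zero,
      add_zero, sub_zero]
  obtain ⟨μ, hμdef⟩ : ∃ μ, μ = QuadraticMap.polar (⇑Q) u a₀ := ⟨_, rfl⟩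
  have hμ : μ ≠ 0 := by
    rw [hμdef, hu, QuadraticMap.polar_sub_left, QuadraticMap.polar_add_left,
      QuadraticMap.polar_smul_left, QuadraticMap.polar_comm (⇑Q) p, hap,
      QuadraticMap.polar_comm (⇑Q) q, haq, smul_zero, add_zero, sub_zero,
      QuadraticMap.polar_comm]
    exact hwa
  obtain ⟨p', q', hp', hq', hpq', hperp''⟩ := exists_hyp_perp hQ (Submodule.span F {a₀, b, u})
    (by have := finrank_span_triple_le a₀ b u; rw [hcard]; omega)
  have hap' := (hperp'' a₀ (Submodule.subset_span (by simp))).1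
  have haq' := (hperp'' a₀ (Submodule.subset_span (by simp))).2
  have hbp' := (hperp'' b (Submodule.subset_span (by simp))).1
  have hbq' := (hperp'' b (Submodule.subset_span (by simp))).2
  have hup' := (hperp'' u (Submodule.subset_span (by simp))).1
  have huq' := (hperp'' u (Submodule.subset_span (by simp))).2
  obtain ⟨v, hv⟩ : ∃ v, v = p' + q' := ⟨_, rfl⟩
  have hvQ : Q v = 1 := by
    rw [hv, QuadraticMap.map_add Q, hp', hq', hpq']; ring
  have hva : QuadraticMap.polar (⇑Q) v a₀ = 0 := by
    rw [hv, QuadraticMap.polar_comm, QuadraticMap.polar_add_right, hap', haq', add_zero]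
  have hvb : QuadraticMap.polar (⇑Q) v b = 0 := by
    rw [hv, QuadraticMap.polar_comm, QuadraticMap.polar_add_right, hbp', hbq', add_zero]
  have huv : QuadraticMap.polar (⇑Q) u v = 0 := by
    rw [hv, QuadraticMap.polar_add_right, hup', huq', add_zero]
  have hz : ∀ t : F, R ((t * μ) • v - (t ^ 2 * μ) • u) b := by
    intro t
    have h1 := hE u (t • v) huQ (by rw [QuadraticMap.polar_smul_right, huv, smul_zero]) a₀ b h0
    have e1 : eF Q u (t • v) a₀ = a₀ + ((t * μ) • v - (t ^ 2 * μ) • u) := by
      unfold eF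
      rw [QuadraticMap.map_smul, hvQ, QuadraticMap.polar_smul_left, hva, ← hμdef, smul_zero,
        zero_smul, sub_zero, smul_eq_mul, mul_one]
      module
    have e2 : eF Q u (t • v) b = b := by
      unfold eF
      rw [hub, QuadraticMap.polar_smul_left, hvb, smul_zero, zero_smul, mul_zero, zero_smul,
        add_zero, sub_zero, sub_zero]
    rw [e1, e2] at h1
    have := hsub _ _ b h1 h0
    rwa [add_sub_cancel_left] at this
  have hcu : ∀ c : F, R (c • u) b := by
    intro c
    obtain ⟨t, ht⟩ : ∃ t : F, t = -c / (2 * μ) := ⟨_, rfl⟩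
    have hc : c = -(2 * t * μ) := by
      rw [ht]; field_simp
    have h1 := hsub _ _ b (hsub _ _ b (hz (t + 1)) (hz t)) (hz 1)
    have e : c • u = ((t + 1) * μ) • v - ((t + 1) ^ 2 * μ) • u - ((t * μ) • v - (t ^ 2 * μ) • u)
        - ((1 * μ) • v - (1 ^ 2 * μ) • u) := by
      rw [hc]; module
    rw [e]
    exact h1
  intro x hxb
  obtain ⟨c, hc⟩ : ∃ c : F, c = QuadraticMap.polar (⇑Q) x a₀ / μ := ⟨_, rfl⟩
  have e : x = (x - c • u) + c • u := by abel
  rw [e]
  apply hadd _ _ (key2 _ ?_ ?_) (hcu c)
  · rw [QuadraticMap.polar_sub_left, QuadraticMap.polar_smul_left, ← hμdef, smul_eq_mul, hc,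
      div_mul_cancel₀ _ hμ, sub_self]
  · rw [QuadraticMap.polar_sub_left, QuadraticMap.polar_smul_left, hxb, hub, smul_zero, sub_zero]

end Cfsg.Agent.H9SLOrth
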