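import Mathlib
import Cfsg.Prelude
import Cfsg.Agent.Lib.Helper9.SLOrth2

set_option autoImplicit false
set_option maxHeartbeats 800000

/-! From one transvection pair to all of `SL`. -/

namespace Cfsg.Agent.H9SLOrth

open Matrix Module Cfsg.Agent.H9SLMax Cfsg.Agent.H9SLSymp Cfsg.Agent.H9Orth
  Cfsg.Agent.Lib.Helper2.ReflGen Cfsg.Agent.Lib.Helper2.CDG Cfsg.Agent.Lib.Helper2.Siegel

variable {F : Type*} [Field F] {n : ℕ} {Q : QuadraticForm F (Fin n → F)}

theorem eich_mulVec_eF (hQ : (QuadraticMap.polarBilin Q).Nondegenerate) (u v : Fin n → F)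
    (hu : Q u = 0) (huv : QuadraticMap.polar (⇑Q) u v = 0) (x : Fin n → F) :
    ((eich hQ u v hu huv : GL (Fin n) F) : Matrix (Fin n) (Fin n) F) *ᵥ x = eF Q u v x := by
  rw [eich_mulVec]; rfl

theorem Pair.eF_inv [Finite F] (hQ : (QuadraticMap.polarBilin Q).Nondegenerate) (hn : 13 ≤ n)
    {M : Subgroup (GL (Fin n) F)}
    (hHM : Cfsg.Geo.quadSimilarityGroup ⇑Q ⊓ Cfsg.Geo.specialLinear (Fin n) F ≤ M)
    (u v : Fin n → F) (hu : Q u = 0) (huv : QuadraticMap.polar (⇑Q) u v = 0)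
    {a b : Fin n → F} (h : Pair Q M a b) : Pair Q M (eF Q u v a) (eF Q u v b) := by
  have h1 := h.conj_iso (hHM (eich_mem_H hQ (by omega) u v hu huv)) (eich_polar hQ u v hu huv)
  rwa [eich_mulVec_eF, eich_mulVec_eF] at h1

/-- from one independent pair to all orthogonal pairs -/
theorem all_pairs [Finite F] (hQ : (QuadraticMap.polarBilin Q).Nondegenerate) (hn : 13 ≤ n)
    (h2 : (2 : F) ≠ 0) (M : Subgroup (GL (Fin n) F))
    (hHM : Cfsg.Geo.quadSimilarityGroup ⇑Q ⊓ Cfsg.Geo.specialLinear (Fin n) F ≤ M)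
    {a₀ b₀ : Fin n → F} (h0 : Pair Q M a₀ b₀) (hind : a₀ ∉ Submodule.span F {b₀})
    (hb₀ : b₀ ≠ 0) :
    ∀ a b, QuadraticMap.polar (⇑Q) a b = 0 → Pair Q M a b := by
  have hcard : Fintype.card (Fin n) = n := Fintype.card_fin n
  have sp1 : ∀ {a₀ b : Fin n → F}, Pair Q M a₀ b → a₀ ∉ Submodule.span F {b} →
      ∀ x, QuadraticMap.polar (⇑Q) x b = 0 → Pair Q M x b := by
    intro a₀ b h hi
    exact spread hQ hn h2 (fun a b => Pair Q M a b) (fun a a' b h h' => h.sub_left h')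
      (fun u v hu huv a b h => h.eF_inv hQ hn hHM u v hu huv) h
      (by rw [QuadraticMap.polar_comm]; exact h.perp) hi
  have sp2 : ∀ {a₀ b : Fin n → F}, Pair Q M b a₀ → a₀ ∉ Submodule.span F {b} →
      ∀ x, QuadraticMap.polar (⇑Q) x b = 0 → Pair Q M b x := by
    intro a₀ b h hi
    exact spread hQ hn h2 (fun a b => Pair Q M b a) (fun a a' b h h' => h.sub_right h')
      (fun u v hu huv a b h => h.eF_inv hQ hn hHM u v hu huv) h h.perp hi
  intro a b hab
  obtain ⟨p, q, hp, hq, hpq, hperp⟩ := exists_hyp_perp hQ (Submodule.span F {b₀, a, b})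
    (by have := finrank_span_triple_le b₀ a b; rw [hcard]; omega)
  have hb₀p := (hperp b₀ (Submodule.subset_span (by simp))).1
  have hb₀q := (hperp b₀ (Submodule.subset_span (by simp))).2
  have hbp := (hperp b (Submodule.subset_span (by simp))).1
  have hbq := (hperp b (Submodule.subset_span (by simp))).2
  have h1 : Pair Q M p b₀ := sp1 h0 hind p (by rw [QuadraticMap.polar_comm]; exact hb₀p)
  have hb₀p' : b₀ ∉ Submodule.span F {p} := by
    intro hmem
    rw [Submodule.mem_span_singleton] at hmem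
    obtain ⟨c, hc⟩ := hmem
    have h3 := hb₀q
    rw [← hc, QuadraticMap.polar_smul_left, hpq, smul_eq_mul, mul_one] at h3
    rw [h3, zero_smul] at hc
    exact hb₀ hc.symm
  have h2' : Pair Q M p b := sp2 h1 hb₀p' b hbp
  have hpb : p ∉ Submodule.span F {b} := by
    intro hmem
    rw [Submodule.mem_span_singleton] at hmem
    obtain ⟨c, hc⟩ := hmem
    have h3 := hpq
    rw [← hc, QuadraticMap.polar_smul_left, hbq, smul_zero] at h3
    exact zero_ne_one h3
  exact sp1 h2' hpb a hab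

/-- a subgroup containing `H` and one independent transvection pair contains `SL` -/
theorem sl_le_of_pair [Finite F] (hQ : (QuadraticMap.polarBilin Q).Nondegenerate) (hn : 13 ≤ n)
    (h2 : (2 : F) ≠ 0) (M : Subgroup (GL (Fin n) F))
    (hHM : Cfsg.Geo.quadSimilarityGroup ⇑Q ⊓ Cfsg.Geo.specialLinear (Fin n) F ≤ M)
    {a₀ b₀ : Fin n → F} (h0 : Pair Q M a₀ b₀) (hind : a₀ ∉ Submodule.span F {b₀})
    (hb₀ : b₀ ≠ 0) : Cfsg.Geo.specialLinear (Fin n) F ≤ M := by
  apply specialLinear_le_of_dirSub_eq_top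
  rw [eq_top_iff]
  intro v _
  apply mem_dirSub_of_funSet
  intro ψ hψ
  obtain ⟨b, rfl⟩ := exists_flat_eq hQ ψ
  rw [flat_apply] at hψ
  exact all_pairs hQ hn h2 M hHM h0 hind hb₀ v b (by rw [QuadraticMap.polar_comm]; exact hψ)

end Cfsg.Agent.H9SLOrth
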