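import Mathlib
import Cfsg.Prelude
import Cfsg.Agent.Lib.Helper9.SLOrth3
import Cfsg.Agent.Lib.Helper9.OrthMax7

set_option autoImplicit false
set_option maxHeartbeats 800000

/-! Two quadratic forms with compatible singular vectors are proportional. -/

namespace Cfsg.Agent.H9SLOrth

open Matrix Module Cfsg.Agent.H9SLMax Cfsg.Agent.H9SLSymp Cfsg.Agent.H9Orth
  Cfsg.Agent.Lib.Helper2.ReflGen Cfsg.Agent.Lib.Helper2.CDG Cfsg.Agent.Lib.Helper2.Siegel

variable {F : Type*} [Field F] {n : ℕ} {Q Q' : QuadraticForm F (Fin n → F)}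

theorem finrank_orth_inf_ge (hQ : (QuadraticMap.polarBilin Q).Nondegenerate)
    (hQ' : (QuadraticMap.polarBilin Q').Nondegenerate) (X X' : Submodule F (Fin n → F)) :
    n ≤ finrank F ↥(LinearMap.BilinForm.orthogonal (QuadraticMap.polarBilin Q) X ⊓
      LinearMap.BilinForm.orthogonal (QuadraticMap.polarBilin Q') X') +
      finrank F X + finrank F X' := by
  have hn : finrank F (Fin n → F) = n := by
    rw [Module.finrank_fintype_fun_eq_card, Fintype.card_fin]
  have h1 := LinearMap.BilinForm.finrank_orthogonal hQ X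
  have h2 := LinearMap.BilinForm.finrank_orthogonal hQ' X'
  have h3 := Submodule.finrank_sup_add_finrank_inf_eq
    (LinearMap.BilinForm.orthogonal (QuadraticMap.polarBilin Q) X)
    (LinearMap.BilinForm.orthogonal (QuadraticMap.polarBilin Q') X')
  have h4 : finrank F ↥(LinearMap.BilinForm.orthogonal (QuadraticMap.polarBilin Q) X ⊔
      LinearMap.BilinForm.orthogonal (QuadraticMap.polarBilin Q') X') ≤ finrank F (Fin n → F) :=
    Submodule.finrank_le _
  have h5 : finrank F X ≤ finrank F (Fin n → F) := Submodule.finrank_le _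
  have h6 : finrank F X' ≤ finrank F (Fin n → F) := Submodule.finrank_le _
  rw [hn] at h1 h2 h4 h5 h6
  omega

theorem finrank_span_singleton_le' (a : Fin n → F) :
    finrank F ↥(Submodule.span F {a}) ≤ 1 := by
  have h := finrank_span_le_card (R := F) ({a} : Set (Fin n → F))
  simpa using h

/-- a vector not orthogonal to two given non-zero vectors -/
theorem exists_both_ne_polar (hQ : (QuadraticMap.polarBilin Q).Nondegenerate)
    (v w : Fin n → F) (hv : v ≠ 0) (hw : w ≠ 0) :
    ∃ s, QuadraticMap.polar (⇑Q) s v ≠ 0 ∧ QuadraticMap.polar (⇑Q) s w ≠ 0 := by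
  have hex : ∀ v : Fin n → F, v ≠ 0 → ∃ x, QuadraticMap.polar (⇑Q) x v ≠ 0 := by
    intro v hv
    by_contra hcon
    push Not at hcon
    exact hv (hQ.2 v (fun x => hcon x))
  obtain ⟨x, hx⟩ := hex v hv
  obtain ⟨y, hy⟩ := hex w hw
  by_cases hxw : QuadraticMap.polar (⇑Q) x w = 0
  · by_cases hyv : QuadraticMap.polar (⇑Q) y v = 0
    · refine ⟨x + y, ?_, ?_⟩
      · rw [QuadraticMap.polar_add_left, hyv, add_zero]; exact hx
      · rw [QuadraticMap.polar_add_left, hxw, zero_add]; exact hy
    · exact ⟨y, hyv, hy⟩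
  · exact ⟨x, hx, hxw⟩

/-- symmetric bilinear forms with the same orthogonality relation are proportional -/
theorem polar_proportional (hQ : (QuadraticMap.polarBilin Q).Nondegenerate) (hn : 1 ≤ n)
    (h : ∀ x v, QuadraticMap.polar (⇑Q) x v = 0 → QuadraticMap.polar (⇑Q') x v = 0) :
    ∃ c : F, ∀ x v, QuadraticMap.polar (⇑Q') x v = c * QuadraticMap.polar (⇑Q) x v := by
  have key : ∀ v, v ≠ 0 → ∃ c : F, ∀ x,
      QuadraticMap.polar (⇑Q') x v = c * QuadraticMap.polar (⇑Q) x v := by
    intro v hv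
    obtain ⟨xv, hxv⟩ : ∃ x, QuadraticMap.polar (⇑Q) x v ≠ 0 := by
      by_contra hcon
      push Not at hcon
      exact hv (hQ.2 v (fun x => hcon x))
    refine ⟨QuadraticMap.polar (⇑Q') xv v * (QuadraticMap.polar (⇑Q) xv v)⁻¹, fun x => ?_⟩
    have h1 : QuadraticMap.polar (⇑Q)
        (x - (QuadraticMap.polar (⇑Q) x v * (QuadraticMap.polar (⇑Q) xv v)⁻¹) • xv) v = 0 := by
      rw [QuadraticMap.polar_sub_left, QuadraticMap.polar_smul_left, smul_eq_mul]
      field_simp
      ring
    have h2 := h _ _ h1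
    rw [QuadraticMap.polar_sub_left, QuadraticMap.polar_smul_left, smul_eq_mul] at h2
    field_simp
    field_simp at h2
    linear_combination h2
  have hconst : ∀ v w (hv : v ≠ 0) (hw : w ≠ 0) (c₁ c₂ : F),
      (∀ x, QuadraticMap.polar (⇑Q') x v = c₁ * QuadraticMap.polar (⇑Q) x v) →
      (∀ x, QuadraticMap.polar (⇑Q') x w = c₂ * QuadraticMap.polar (⇑Q) x w) → c₁ = c₂ := by
    intro v w hv hw c₁ c₂ h₁ h₂
    obtain ⟨s, hs1, hs2⟩ := exists_both_ne_polar hQ v w hv hw
    have hs0 : s ≠ 0 := by
      rintro rfl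
      apply hs1
      rw [QuadraticMap.polar_comm]
      exact QuadraticMap.polar_zero_right Q v
    obtain ⟨c₃, h₃⟩ := key s hs0
    have e1 : c₃ = c₁ := by
      have a1 := h₃ v
      have a2 := h₁ s
      rw [QuadraticMap.polar_comm (⇑Q') v s, QuadraticMap.polar_comm (⇑Q) v s, a2] at a1
      have : (c₁ - c₃) * QuadraticMap.polar (⇑Q) s v = 0 := by linear_combination a1
      rcases mul_eq_zero.mp this with h0 | h0
      · exact (sub_eq_zero.mp h0).symm
      · exact absurd h0 hs1
    have e2 : c₃ = c₂ := by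
      have a1 := h₃ w
      have a2 := h₂ s
      rw [QuadraticMap.polar_comm (⇑Q') w s, QuadraticMap.polar_comm (⇑Q) w s, a2] at a1
      have : (c₂ - c₃) * QuadraticMap.polar (⇑Q) s w = 0 := by linear_combination a1
      rcases mul_eq_zero.mp this with h0 | h0
      · exact (sub_eq_zero.mp h0).symm
      · exact absurd h0 hs2
    rw [← e1, e2]
  obtain ⟨v₀, hv₀⟩ : ∃ v₀ : Fin n → F, v₀ ≠ 0 := by
    refine ⟨Pi.single ⟨0, by omega⟩ 1, ?_⟩
    intro h0
    have := congrFun h0 ⟨0, by omega⟩
    rw [Pi.single_eq_same] at this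
    exact one_ne_zero this
  obtain ⟨c, hc⟩ := key v₀ hv₀
  refine ⟨c, fun x v => ?_⟩
  by_cases hv : v = 0
  · rw [hv, QuadraticMap.polar_zero_right, QuadraticMap.polar_zero_right, mul_zero]
  · obtain ⟨c', hc'⟩ := key v hv
    rw [hc' x, hconst v v₀ hv hv₀ c' c hc' hc]

/-- two non-degenerate quadratic forms such that `Q`-orthogonal singular vectors
(`Q`-singular and `Q'`-singular resp.) are `Q'`-orthogonal, are proportional -/
theorem forms_proportional [Finite F] (h2 : (2 : F) ≠ 0) (hn : 13 ≤ n)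
    (hQ : (QuadraticMap.polarBilin Q).Nondegenerate)
    (hQ' : (QuadraticMap.polarBilin Q').Nondegenerate)
    (H : ∀ a v, Q a = 0 → Q' v = 0 → QuadraticMap.polar (⇑Q) a v = 0 →
      QuadraticMap.polar (⇑Q') a v = 0) :
    ∃ c : F, ∀ x, Q' x = c * Q x := by
  have hcard : Fintype.card (Fin n) = n := Fintype.card_fin n
  have hfr : finrank F (Fin n → F) = n := by
    rw [Module.finrank_fintype_fun_eq_card, Fintype.card_fin]
  -- Step A
  have stepA : ∀ a h, Q a = 0 → QuadraticMap.polar (⇑Q) a h = 0 →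
      QuadraticMap.polar (⇑Q') a h = 0 := by
    intro a h ha hah
    obtain ⟨O, hO⟩ : ∃ O, O = LinearMap.BilinForm.orthogonal (QuadraticMap.polarBilin Q)
        (Submodule.span F {a}) ⊓ LinearMap.BilinForm.orthogonal (QuadraticMap.polarBilin Q')
        (Submodule.span F {h}) := ⟨_, rfl⟩
    have hOdim : n ≤ finrank F O + 2 := by
      have h1 := finrank_orth_inf_ge hQ hQ' (Submodule.span F {a}) (Submodule.span F {h})
      have h3 : finrank F ↥(Submodule.span F {a}) ≤ 1 := finrank_span_singleton_le' a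
      have h4 : finrank F ↥(Submodule.span F {h}) ≤ 1 := finrank_span_singleton_le' h
      rw [← hO] at h1
      omega
    obtain ⟨p, q, hpO, hqO, hp, hq, hpq⟩ := exists_hyp_of_codim Q' hQ' O (by rw [hfr]; omega)
    rw [hO] at hpO hqO
    have hap : QuadraticMap.polar (⇑Q) a p = 0 := hpO.1 a (Submodule.mem_span_singleton_self a)
    have haq : QuadraticMap.polar (⇑Q) a q = 0 := hqO.1 a (Submodule.mem_span_singleton_self a)
    have hhp : QuadraticMap.polar (⇑Q') h p = 0 := hpO.2 h (Submodule.mem_span_singleton_self h)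
    have hhq : QuadraticMap.polar (⇑Q') h q = 0 := hqO.2 h (Submodule.mem_span_singleton_self h)
    have hv₁ : Q' (h + p - Q' h • q) = 0 := sing_corr hp hq hpq hhp hhq
    have h1 : QuadraticMap.polar (⇑Q') a (h + p - Q' h • q) = 0 := by
      apply H a _ ha hv₁
      rw [QuadraticMap.polar_sub_right, QuadraticMap.polar_add_right,
        QuadraticMap.polar_smul_right, hah, hap, haq, smul_zero, add_zero, sub_zero]
    have h3 : QuadraticMap.polar (⇑Q') a p = 0 := H a p ha hp hap
    have h4 : QuadraticMap.polar (⇑Q') a q = 0 := H a q ha hq haq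
    rw [QuadraticMap.polar_sub_right, QuadraticMap.polar_add_right,
      QuadraticMap.polar_smul_right, h3, h4, smul_zero, add_zero, sub_zero] at h1
    exact h1
  -- Step B
  have stepB : ∀ x h, QuadraticMap.polar (⇑Q) x h = 0 → QuadraticMap.polar (⇑Q') x h = 0 := by
    intro x h hxh
    obtain ⟨p, q, hp, hq, hpq, hperp⟩ := exists_hyp_perp hQ (Submodule.span F {h, x})
      (by have := finrank_span_pair_le h x; rw [hcard]; omega)
    have hhp := (hperp h (Submodule.subset_span (by simp))).1
    have hhq := (hperp h (Submodule.subset_span (by simp))).2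
    have hxp := (hperp x (Submodule.subset_span (by simp))).1
    have hxq := (hperp x (Submodule.subset_span (by simp))).2
    have hu₁ : Q (x + p - Q x • q) = 0 := sing_corr hp hq hpq hxp hxq
    have h1 : QuadraticMap.polar (⇑Q') (x + p - Q x • q) h = 0 := by
      apply stepA _ _ hu₁
      rw [QuadraticMap.polar_sub_left, QuadraticMap.polar_add_left,
        QuadraticMap.polar_smul_left, hxh, QuadraticMap.polar_comm (⇑Q) p, hhp,
        QuadraticMap.polar_comm (⇑Q) q, hhq, smul_zero, add_zero, sub_zero]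
    have h3 : QuadraticMap.polar (⇑Q') p h = 0 :=
      stepA p h hp (by rw [QuadraticMap.polar_comm]; exact hhp)
    have h4 : QuadraticMap.polar (⇑Q') q h = 0 :=
      stepA q h hq (by rw [QuadraticMap.polar_comm]; exact hhq)
    rw [QuadraticMap.polar_sub_left, QuadraticMap.polar_add_left,
      QuadraticMap.polar_smul_left, h3, h4, smul_zero, add_zero, sub_zero] at h1
    exact h1
  obtain ⟨c, hc⟩ := polar_proportional hQ (by omega) stepB
  refine ⟨c, fun x => ?_⟩
  have h1 := hc x x
  rw [QuadraticMap.polar_self, QuadraticMap.polar_self, nsmul_eq_mul, nsmul_eq_mul] at h1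
  have h3 : (2 : F) * (Q' x - c * Q x) = 0 := by
    push_cast at h1
    linear_combination h1
  rcases mul_eq_zero.mp h3 with h0 | h0
  · exact absurd h0 h2
  · exact sub_eq_zero.mp h0

end Cfsg.Agent.H9SLOrth
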