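import Mathlib
import Cfsg.Prelude
import Cfsg.Agent.Lib.Helper9.SLOrth4

set_option autoImplicit false
set_option maxHeartbeats 800000

/-! A non-similarity produces a transvection. -/

namespace Cfsg.Agent.H9SLOrth

open Matrix Module Cfsg.Agent.H9SLMax Cfsg.Agent.H9SLSymp Cfsg.Agent.H9Orth
  Cfsg.Agent.Lib.Helper2.ReflGen Cfsg.Agent.Lib.Helper2.CDG Cfsg.Agent.Lib.Helper2.Siegel

variable {F : Type*} [Field F] {n : ℕ} {Q Q' : QuadraticForm F (Fin n → F)}

/-- the Eichler map for a singular second vector -/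
def eS (Q : QuadraticForm F (Fin n → F)) (a b w : Fin n → F) : Fin n → F :=
  w + QuadraticMap.polar (⇑Q) a w • b - QuadraticMap.polar (⇑Q) b w • a

theorem eS_def (a b w : Fin n → F) :
    eS Q a b w = w + QuadraticMap.polar (⇑Q) a w • b - QuadraticMap.polar (⇑Q) b w • a := rfl

theorem eF_eq_eS {u v : Fin n → F} (hv : Q v = 0) (x : Fin n → F) :
    eF Q u v x = eS Q u v x := by
  unfold eF eS
  rw [hv, zero_mul, zero_smul, sub_zero]

theorem comm_vec {a₀ b₀ u₀ v₀ : Fin n → F} (ha₀ : Q a₀ = 0) (hb₀ : Q b₀ = 0)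
    (hab : QuadraticMap.polar (⇑Q) a₀ b₀ = 0) (hau : QuadraticMap.polar (⇑Q) a₀ u₀ = 0)
    (hav : QuadraticMap.polar (⇑Q) a₀ v₀ = 0) (hbu : QuadraticMap.polar (⇑Q) b₀ u₀ = 0)
    (hbv : QuadraticMap.polar (⇑Q) b₀ v₀ = 0) (hua : QuadraticMap.polar (⇑Q') u₀ a₀ = 0)
    (hub : QuadraticMap.polar (⇑Q') u₀ b₀ = 0) (w : Fin n → F) :
    eS Q' u₀ v₀ (eS Q a₀ b₀ w) = eS Q a₀ b₀ (eS Q' u₀ v₀ w) +
      QuadraticMap.polar (⇑Q) (QuadraticMap.polar (⇑Q') v₀ a₀ • b₀ -
        QuadraticMap.polar (⇑Q') v₀ b₀ • a₀) (eS Q a₀ b₀ (eS Q' u₀ v₀ w)) • u₀ := by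
  obtain ⟨s, hs⟩ : ∃ s, s = QuadraticMap.polar (⇑Q') v₀ a₀ := ⟨_, rfl⟩
  obtain ⟨r, hr⟩ : ∃ r, r = QuadraticMap.polar (⇑Q') v₀ b₀ := ⟨_, rfl⟩
  rw [← hs, ← hr]
  have hd : ∀ y, QuadraticMap.polar (⇑Q) (s • b₀ - r • a₀) y =
      s * QuadraticMap.polar (⇑Q) b₀ y - r * QuadraticMap.polar (⇑Q) a₀ y := by
    intro y
    rw [QuadraticMap.polar_sub_left, QuadraticMap.polar_smul_left, QuadraticMap.polar_smul_left,
      smul_eq_mul, smul_eq_mul]
  have hba : QuadraticMap.polar (⇑Q) b₀ a₀ = 0 := by rw [QuadraticMap.polar_comm]; exact hab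
  have haa : QuadraticMap.polar (⇑Q) a₀ a₀ = 0 := by
    rw [QuadraticMap.polar_self, ha₀, smul_zero]
  have hbb : QuadraticMap.polar (⇑Q) b₀ b₀ = 0 := by
    rw [QuadraticMap.polar_self, hb₀, smul_zero]
  have e0 : ∀ y, QuadraticMap.polar (⇑Q) a₀ (eS Q a₀ b₀ y) = QuadraticMap.polar (⇑Q) a₀ y := by
    intro y
    rw [eS_def, QuadraticMap.polar_sub_right, QuadraticMap.polar_add_right,
      QuadraticMap.polar_smul_right, QuadraticMap.polar_smul_right, hab, haa, smul_zero,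
      smul_zero, add_zero, sub_zero]
  have e0' : ∀ y, QuadraticMap.polar (⇑Q) b₀ (eS Q a₀ b₀ y) = QuadraticMap.polar (⇑Q) b₀ y := by
    intro y
    rw [eS_def, QuadraticMap.polar_sub_right, QuadraticMap.polar_add_right,
      QuadraticMap.polar_smul_right, QuadraticMap.polar_smul_right, hbb, hba, smul_zero,
      smul_zero, add_zero, sub_zero]
  have e1 : ∀ y, QuadraticMap.polar (⇑Q) a₀ (eS Q' u₀ v₀ y) = QuadraticMap.polar (⇑Q) a₀ y := by
    intro y
    rw [eS_def, QuadraticMap.polar_sub_right, QuadraticMap.polar_add_right,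
      QuadraticMap.polar_smul_right, QuadraticMap.polar_smul_right, hav, hau, smul_zero,
      smul_zero, add_zero, sub_zero]
  have e2 : ∀ y, QuadraticMap.polar (⇑Q) b₀ (eS Q' u₀ v₀ y) = QuadraticMap.polar (⇑Q) b₀ y := by
    intro y
    rw [eS_def, QuadraticMap.polar_sub_right, QuadraticMap.polar_add_right,
      QuadraticMap.polar_smul_right, QuadraticMap.polar_smul_right, hbv, hbu, smul_zero,
      smul_zero, add_zero, sub_zero]
  have e3 : ∀ y, QuadraticMap.polar (⇑Q') u₀ (eS Q a₀ b₀ y) = QuadraticMap.polar (⇑Q') u₀ y := by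
    intro y
    rw [eS_def, QuadraticMap.polar_sub_right, QuadraticMap.polar_add_right,
      QuadraticMap.polar_smul_right, QuadraticMap.polar_smul_right, hub, hua, smul_zero,
      smul_zero, add_zero, sub_zero]
  have e4 : ∀ y, QuadraticMap.polar (⇑Q') v₀ (eS Q a₀ b₀ y) = QuadraticMap.polar (⇑Q') v₀ y +
      QuadraticMap.polar (⇑Q) a₀ y * r - QuadraticMap.polar (⇑Q) b₀ y * s := by
    intro y
    rw [eS_def, QuadraticMap.polar_sub_right, QuadraticMap.polar_add_right,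
      QuadraticMap.polar_smul_right, QuadraticMap.polar_smul_right, ← hs, ← hr, smul_eq_mul,
      smul_eq_mul]
  rw [hd, e0, e0', e1, e2, eS_def (Q := Q') u₀ v₀ (eS Q a₀ b₀ w), e3, e4,
    eS_def (Q := Q) a₀ b₀ (eS Q' u₀ v₀ w), e1, e2, eS_def, eS_def]
  module

/-- the form `x ↦ Q (g x)` -/
noncomputable def compGL (Q : QuadraticForm F (Fin n → F)) (g : GL (Fin n) F) :
    QuadraticForm F (Fin n → F) :=
  Q.comp (Matrix.toLin' (g : Matrix (Fin n) (Fin n) F))

theorem compGL_apply (g : GL (Fin n) F) (x : Fin n → F) :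
    compGL Q g x = Q ((g : Matrix (Fin n) (Fin n) F) *ᵥ x) := by
  unfold compGL
  rw [QuadraticMap.comp_apply, Matrix.toLin'_apply]

theorem compGL_polar (g : GL (Fin n) F) (x y : Fin n → F) :
    QuadraticMap.polar (⇑(compGL Q g)) x y =
      QuadraticMap.polar (⇑Q) ((g : Matrix (Fin n) (Fin n) F) *ᵥ x)
        ((g : Matrix (Fin n) (Fin n) F) *ᵥ y) := by
  unfold QuadraticMap.polar
  rw [compGL_apply, compGL_apply, compGL_apply, Matrix.mulVec_add]

theorem compGL_nondeg (hQ : (QuadraticMap.polarBilin Q).Nondegenerate) (g : GL (Fin n) F) :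
    (QuadraticMap.polarBilin (compGL Q g)).Nondegenerate := by
  have key : ∀ x : Fin n → F, (∀ y, QuadraticMap.polar (⇑(compGL Q g)) x y = 0) → x = 0 := by
    intro x hx
    have h1 : (g : Matrix (Fin n) (Fin n) F) *ᵥ x = 0 := by
      apply hQ.1
      intro z
      have := hx (((g⁻¹ : GL (Fin n) F) : Matrix (Fin n) (Fin n) F) *ᵥ z)
      rw [compGL_polar, mulVec_inv_mulVec] at this
      exact this
    have h3 := inv_mulVec_mulVec g x
    rw [h1, Matrix.mulVec_zero] at h3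
    exact h3.symm
  constructor
  · intro x hx
    exact key x (fun y => hx y)
  · intro x hx
    apply key x
    intro y
    rw [QuadraticMap.polar_comm]
    exact hx y

end Cfsg.Agent.H9SLOrth
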