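import Mathlib
import Cfsg.Prelude
import Cfsg.Agent.Lib.Helper9.SLOrth5

set_option autoImplicit false
set_option maxHeartbeats 1600000

/-! A non-similarity produces a transvection: main step. -/

namespace Cfsg.Agent.H9SLOrth

open Matrix Module Cfsg.Agent.H9SLMax Cfsg.Agent.H9SLSymp Cfsg.Agent.H9Orth
  Cfsg.Agent.Lib.Helper2.ReflGen Cfsg.Agent.Lib.Helper2.CDG Cfsg.Agent.Lib.Helper2.Siegel

variable {F : Type*} [Field F] {n : ℕ} {Q : QuadraticForm F (Fin n → F)}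

theorem exists_pair_of_not_sim [Finite F] (hQ : (QuadraticMap.polarBilin Q).Nondegenerate)
    (hn : 13 ≤ n) (h2 : (2 : F) ≠ 0) (M : Subgroup (GL (Fin n) F))
    (hHM : Cfsg.Geo.quadSimilarityGroup ⇑Q ⊓ Cfsg.Geo.specialLinear (Fin n) F ≤ M)
    (g : GL (Fin n) F) (hgM : g ∈ M) (hg : g ∉ Cfsg.Geo.quadSimilarityGroup ⇑Q) :
    ∃ a₀ b₀ : Fin n → F, Pair Q M a₀ b₀ ∧ a₀ ∉ Submodule.span F {b₀} ∧ b₀ ≠ 0 := by
  have hcard : Fintype.card (Fin n) = n := Fintype.card_fin n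
  obtain ⟨Q', hQ'def⟩ : ∃ Q', Q' = compGL Q g := ⟨_, rfl⟩
  have hQ'a : ∀ x, Q' x = Q ((g : Matrix (Fin n) (Fin n) F) *ᵥ x) := by
    intro x; rw [hQ'def, compGL_apply]
  have hQ'p : ∀ x y, QuadraticMap.polar (⇑Q') x y =
      QuadraticMap.polar (⇑Q) ((g : Matrix (Fin n) (Fin n) F) *ᵥ x)
        ((g : Matrix (Fin n) (Fin n) F) *ᵥ y) := by
    intro x y; rw [hQ'def, compGL_polar]
  have hQ' : (QuadraticMap.polarBilin Q').Nondegenerate := by
    rw [hQ'def]; exact compGL_nondeg hQ g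
  obtain ⟨a₀, v₀, ha₀, hv₀, hav, hav'⟩ : ∃ a₀ v₀, Q a₀ = 0 ∧ Q' v₀ = 0 ∧
      QuadraticMap.polar (⇑Q) a₀ v₀ = 0 ∧ QuadraticMap.polar (⇑Q') a₀ v₀ ≠ 0 := by
    by_contra hcon
    push Not at hcon
    obtain ⟨c, hc⟩ := forms_proportional h2 hn hQ hQ' hcon
    have hc0 : c ≠ 0 := by
      rintro rfl
      have hx0 : (Pi.single ⟨0, by omega⟩ 1 : Fin n → F) = 0 := by
        apply hQ'.1
        intro y
        show QuadraticMap.polar (⇑Q') _ y = 0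
        unfold QuadraticMap.polar
        rw [hc, hc, hc, zero_mul, zero_mul, zero_mul, sub_zero, sub_zero]
      have := congrFun hx0 ⟨0, by omega⟩
      rw [Pi.single_eq_same] at this
      exact one_ne_zero this
    apply hg
    exact ⟨Units.mk0 c hc0, fun v => by rw [Units.val_mk0, ← hQ'a, hc]⟩
  obtain ⟨p, q, hp, hq, hpq, hperp⟩ := exists_hyp_perp hQ (Submodule.span F {a₀, v₀})
    (by have := finrank_span_pair_le a₀ v₀; rw [hcard]; omega)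
  have hab := (hperp a₀ (Submodule.subset_span (by simp))).1
  have haq := (hperp a₀ (Submodule.subset_span (by simp))).2
  have hvp := (hperp v₀ (Submodule.subset_span (by simp))).1
  have hvq := (hperp v₀ (Submodule.subset_span (by simp))).2
  -- the vector u₀
  obtain ⟨C, hC⟩ : ∃ C, C = LinearMap.BilinForm.orthogonal (QuadraticMap.polarBilin Q)
      (Submodule.span F {a₀, p}) ⊓ LinearMap.BilinForm.orthogonal (QuadraticMap.polarBilin Q')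
      (Submodule.span F {a₀, p, v₀, q}) := ⟨_, rfl⟩
  have hCdim : 3 ≤ finrank F C := by
    have h1 := finrank_orth_inf_ge hQ hQ' (Submodule.span F {a₀, p})
      (Submodule.span F {a₀, p, v₀, q})
    have h3 := finrank_span_pair_le a₀ p
    have h4 := finrank_span_quad_le a₀ p v₀ q
    rw [← hC] at h1
    omega
  obtain ⟨u', hu'0, hu'⟩ := Cfsg.Agent.Lib.Helper5.exists_singular_of_finrank
    (Q'.comp C.subtype) hCdim
  obtain ⟨u₀, hu₀def⟩ : ∃ u₀ : Fin n → F, u₀ = (u' : Fin n → F) := ⟨_, rfl⟩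
  have hu₀C : u₀ ∈ C := by rw [hu₀def]; exact u'.2
  have hu₀0 : u₀ ≠ 0 := by
    rw [hu₀def]; exact fun h => hu'0 (Subtype.ext h)
  have hu₀Q : Q' u₀ = 0 := by rw [hu₀def]; exact hu'
  rw [hC] at hu₀C
  have hau : QuadraticMap.polar (⇑Q) a₀ u₀ = 0 := hu₀C.1 a₀ (Submodule.subset_span (by simp))
  have hbu : QuadraticMap.polar (⇑Q) p u₀ = 0 := hu₀C.1 p (Submodule.subset_span (by simp))
  have hau' : QuadraticMap.polar (⇑Q') a₀ u₀ = 0 := hu₀C.2 a₀ (Submodule.subset_span (by simp))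
  have hbu' : QuadraticMap.polar (⇑Q') p u₀ = 0 := hu₀C.2 p (Submodule.subset_span (by simp))
  have hvu' : QuadraticMap.polar (⇑Q') v₀ u₀ = 0 := hu₀C.2 v₀ (Submodule.subset_span (by simp))
  have hqu' : QuadraticMap.polar (⇑Q') q u₀ = 0 := hu₀C.2 q (Submodule.subset_span (by simp))
  -- group elements
  have huQ : Q ((g : Matrix (Fin n) (Fin n) F) *ᵥ u₀) = 0 := by rw [← hQ'a]; exact hu₀Q
  have hvQ : Q ((g : Matrix (Fin n) (Fin n) F) *ᵥ v₀) = 0 := by rw [← hQ'a]; exact hv₀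
  have huv : QuadraticMap.polar (⇑Q) ((g : Matrix (Fin n) (Fin n) F) *ᵥ u₀)
      ((g : Matrix (Fin n) (Fin n) F) *ᵥ v₀) = 0 := by
    rw [← hQ'p, QuadraticMap.polar_comm]; exact hvu'
  obtain ⟨X, hX⟩ : ∃ X : GL (Fin n) F, X = (eich hQ _ _ huQ huv : GL (Fin n) F) := ⟨_, rfl⟩
  have hXM : X ∈ M := by
    rw [hX]; exact hHM (eich_mem_H hQ (by omega) _ _ huQ huv)
  have hXg : ∀ w, (X : Matrix (Fin n) (Fin n) F) *ᵥ ((g : Matrix (Fin n) (Fin n) F) *ᵥ w) =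
      (g : Matrix (Fin n) (Fin n) F) *ᵥ (eS Q' u₀ v₀ w) := by
    intro w
    rw [hX, eich_mulVec_eF, eF_eq_eS hvQ, eS_def, eS_def, hQ'p, hQ'p, Matrix.mulVec_sub,
      Matrix.mulVec_add, Matrix.mulVec_smul, Matrix.mulVec_smul]
  obtain ⟨E₀, hE₀⟩ : ∃ E₀ : GL (Fin n) F, E₀ = (eich hQ a₀ p ha₀ hab : GL (Fin n) F) :=
    ⟨_, rfl⟩
  have hE₀M : E₀ ∈ M := by
    rw [hE₀]; exact hHM (eich_mem_H hQ (by omega) _ _ ha₀ hab)
  have hE₀w : ∀ w, (E₀ : Matrix (Fin n) (Fin n) F) *ᵥ w = eS Q a₀ p w := by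
    intro w
    rw [hE₀, eich_mulVec_eF, eF_eq_eS hp]
  obtain ⟨Y, hY⟩ : ∃ Y : GL (Fin n) F, Y = g * E₀ * g⁻¹ := ⟨_, rfl⟩
  have hYM : Y ∈ M := by
    rw [hY]; exact M.mul_mem (M.mul_mem hgM hE₀M) (M.inv_mem hgM)
  have hYg : ∀ w, (Y : Matrix (Fin n) (Fin n) F) *ᵥ ((g : Matrix (Fin n) (Fin n) F) *ᵥ w) =
      (g : Matrix (Fin n) (Fin n) F) *ᵥ (eS Q a₀ p w) := by
    intro w
    rw [hY, Units.val_mul, Units.val_mul, ← Matrix.mulVec_mulVec, ← Matrix.mulVec_mulVec,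
      Cfsg.Agent.H9SLMax.inv_mulVec_mulVec, hE₀w]
  -- the functional
  obtain ⟨s, hs⟩ : ∃ s, s = QuadraticMap.polar (⇑Q') v₀ a₀ := ⟨_, rfl⟩
  have hs0 : s ≠ 0 := by rw [hs, QuadraticMap.polar_comm]; exact hav'
  obtain ⟨r, hr⟩ : ∃ r, r = QuadraticMap.polar (⇑Q') v₀ p := ⟨_, rfl⟩
  obtain ⟨d, hd⟩ : ∃ d, d = s • p - r • a₀ := ⟨_, rfl⟩
  have hdy : ∀ y, QuadraticMap.polar (⇑Q) d y =
      s * QuadraticMap.polar (⇑Q) p y - r * QuadraticMap.polar (⇑Q) a₀ y := by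
    intro y
    rw [hd, QuadraticMap.polar_sub_left, QuadraticMap.polar_smul_left,
      QuadraticMap.polar_smul_left, smul_eq_mul, smul_eq_mul]
  obtain ⟨ψ, hψ⟩ : ∃ ψ, ψ = (flat Q d).comp
      (Matrix.toLin' ((g⁻¹ : GL (Fin n) F) : Matrix (Fin n) (Fin n) F)) := ⟨_, rfl⟩
  have hψg : ∀ w, ψ ((g : Matrix (Fin n) (Fin n) F) *ᵥ w) = QuadraticMap.polar (⇑Q) d w := by
    intro w
    rw [hψ, LinearMap.comp_apply, Matrix.toLin'_apply, Cfsg.Agent.H9SLMax.inv_mulVec_mulVec, flat_apply]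
  have hψu : ψ ((g : Matrix (Fin n) (Fin n) F) *ᵥ u₀) = 0 := by
    rw [hψg, hdy, hbu, hau, mul_zero, mul_zero, sub_zero]
  obtain ⟨τ, hτ⟩ := exists_isTransv ψ _ hψu
  have hτg : ∀ w, (τ : Matrix (Fin n) (Fin n) F) *ᵥ ((g : Matrix (Fin n) (Fin n) F) *ᵥ w) =
      (g : Matrix (Fin n) (Fin n) F) *ᵥ (w + QuadraticMap.polar (⇑Q) d w • u₀) := by
    intro w
    rw [hτ.2, hψg, Matrix.mulVec_add, Matrix.mulVec_smul]
  have hcomm : τ * (Y * X) = X * Y := by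
    apply gl_ext
    intro z
    obtain ⟨w, rfl⟩ : ∃ w, z = (g : Matrix (Fin n) (Fin n) F) *ᵥ w :=
      ⟨_, (Cfsg.Agent.H9SLMax.mulVec_inv_mulVec g z).symm⟩
    rw [Units.val_mul, Units.val_mul, Units.val_mul, ← Matrix.mulVec_mulVec,
      ← Matrix.mulVec_mulVec, ← Matrix.mulVec_mulVec, hXg, hYg, hτg, hYg, hXg,
      comm_vec ha₀ hp hab hau hav hbu (by rw [QuadraticMap.polar_comm]; exact hvp)
        (by rw [QuadraticMap.polar_comm]; exact hau')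
        (by rw [QuadraticMap.polar_comm]; exact hbu') w, ← hs, ← hr, ← hd]
  have hτM : τ ∈ M := by
    have : τ = X * Y * (Y * X)⁻¹ := by rw [← hcomm, mul_inv_cancel_right]
    rw [this]
    exact M.mul_mem (M.mul_mem hXM hYM) (M.inv_mem (M.mul_mem hYM hXM))
  obtain ⟨c, hc⟩ := exists_flat_eq hQ ψ
  have hpair : Pair Q M ((g : Matrix (Fin n) (Fin n) F) *ᵥ u₀) c := by
    unfold Pair
    rw [← hc]
    exact ⟨hψu, fun g' hg' => by rw [hg'.unique hτ]; exact hτM⟩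
  have hcq : QuadraticMap.polar (⇑Q) c ((g : Matrix (Fin n) (Fin n) F) *ᵥ q) = s := by
    rw [← flat_apply, ← hc, hψg, hdy, hpq, haq, mul_one, mul_zero, sub_zero]
  refine ⟨_, c, hpair, ?_, ?_⟩
  · intro hmem
    rw [Submodule.mem_span_singleton] at hmem
    obtain ⟨l, hl⟩ := hmem
    have h1 : QuadraticMap.polar (⇑Q) ((g : Matrix (Fin n) (Fin n) F) *ᵥ u₀)
        ((g : Matrix (Fin n) (Fin n) F) *ᵥ q) = 0 := by
      rw [← hQ'p, QuadraticMap.polar_comm]; exact hqu'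
    rw [← hl, QuadraticMap.polar_smul_left, hcq, smul_eq_mul] at h1
    rcases mul_eq_zero.mp h1 with h0 | h0
    · rw [h0, zero_smul] at hl
      have h3 := Cfsg.Agent.H9SLMax.inv_mulVec_mulVec g u₀
      rw [← hl, Matrix.mulVec_zero] at h3
      exact hu₀0 h3.symm
    · exact hs0 h0
  · rintro rfl
    apply hs0
    rw [← hcq, QuadraticMap.polar_comm]
    exact QuadraticMap.polar_zero_right Q _

end Cfsg.Agent.H9SLOrth
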