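import Mathlib
import Cfsg.Prelude
import Cfsg.Agent.Lib.Helper9.SLRoot5

set_option autoImplicit false

/-!
# The class of root subgroups of `SL_{n+3}(k)`: assembly
-/

namespace Cfsg.Agent.H9SLRoot

open Matrix

variable {k : Type*} [Field k] {n : ℕ}

/-- the class of the statement -/
def Sig (n : ℕ) (k : Type*) [Field k] : Set (Subgroup (Matrix.SpecialLinearGroup (Fin (n + 3)) k)) :=
  {A | ∃ g : Matrix.SpecialLinearGroup (Fin (n + 3)) k,
    A = Cfsg.conjBy (Subgroup.closure {t : Matrix.SpecialLinearGroup (Fin (n + 3)) k |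
      ∃ c : k, (t : Matrix (Fin (n + 3)) (Fin (n + 3)) k) = Matrix.transvection 0 1 c}) g}

theorem h01 : (0 : Fin (n + 3)) ≠ 1 := by
  intro h; have := congrArg Fin.val h; simp at this

theorem h02 : (0 : Fin (n + 3)) ≠ 2 := by
  intro h
  have := congrArg Fin.val h
  rw [Fin.val_zero, Fin.val_two] at this
  omega

theorem h12 : (1 : Fin (n + 3)) ≠ 2 := by
  intro h
  have := congrArg Fin.val h
  rw [Fin.val_one, Fin.val_two] at this
  omega

theorem Sig_eq : Sig n k = conjClass (T (e (0 : Fin (n + 3))) (e 1)) := by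
  unfold Sig conjClass
  rw [closure_elementary h01]

theorem hcard3 : 3 ≤ Fintype.card (Fin (n + 3)) := by
  rw [Fintype.card_fin]; omega

theorem base_inc : (e (1 : Fin (n + 3)) : Fin (n + 3) → k) ⬝ᵥ e 0 = 0 := e_dot_e_ne h01.symm

theorem mem_Sig_iff {A : Subgroup (Matrix.SpecialLinearGroup (Fin (n + 3)) k)} :
    A ∈ Sig n k ↔ ∃ x φ : Fin (n + 3) → k, φ ⬝ᵥ x = 0 ∧ x ≠ 0 ∧ φ ≠ 0 ∧ A = T x φ := by
  rw [Sig_eq]
  exact mem_class_iff hcard3 base_inc (e_ne_zero _) (e_ne_zero _)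

theorem T_mem_Sig {x φ : Fin (n + 3) → k} (h : φ ⬝ᵥ x = 0) (hx : x ≠ 0) (hφ : φ ≠ 0) :
    T x φ ∈ Sig n k := mem_Sig_iff.mpr ⟨x, φ, h, hx, hφ, rfl⟩

theorem T_e_mem_Sig {i j : Fin (n + 3)} (hij : i ≠ j) : T (e i : Fin (n + 3) → k) (e j) ∈ Sig n k :=
  T_mem_Sig (e_dot_e_ne hij.symm) (e_ne_zero _) (e_ne_zero _)

theorem isRootSubgroupSet : Cfsg.IsRootSubgroupSet (Sig n k) := by
  refine ⟨?_, ?_, ?_, ?_, ?_⟩
  · intro A hA
    obtain ⟨x, φ, -, -, -, rfl⟩ := mem_Sig_iff.mp hA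
    exact T_comm x φ
  · intro A hA
    obtain ⟨x, φ, h, hx, hφ, rfl⟩ := mem_Sig_iff.mp hA
    exact T_ne_bot h hx hφ
  · apply Cfsg.Agent.Lib.Helper1.eq_top_of_transvection_mem
    intro i j hij c
    have h1 : Matrix.SpecialLinearGroup.transvection hij c = tv (e i) (e j) c := by
      apply Subtype.ext
      rw [tv_e_coe hij]
      rfl
    rw [h1]
    have hle : T (e i : Fin (n + 3) → k) (e j) ≤ ⨆ A ∈ Sig n k, A :=
      le_iSup₂ (f := fun (A : Subgroup (Matrix.SpecialLinearGroup (Fin (n + 3)) k))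
        (_ : A ∈ Sig n k) => A) _ (T_e_mem_Sig hij)
    exact hle (tv_mem_T _ _ _)
  · intro A hA g
    rw [Sig_eq] at hA ⊢
    exact conjClass_conj hA g
  · intro A hA B hB
    rw [Sig_eq] at hA hB ⊢
    exact class_pair hcard3 base_inc (e_ne_zero _) (e_ne_zero _) hA hB

theorem isConjClass : Cfsg.IsConjClassOfSubgroups (Sig n k) := by
  rw [Sig_eq]
  exact class_isConj

theorem e_not_mem_span {i j : Fin (n + 3)} (hij : i ≠ j) :
    (e i : Fin (n + 3) → k) ∉ Submodule.span k {e j} := by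
  intro h
  obtain ⟨lam, hlam⟩ := Submodule.mem_span_singleton.mp h
  have := congrArg (fun w => (e i : Fin (n + 3) → k) ⬝ᵥ w) hlam
  beta_reduce at this
  rw [dotProduct_smul, e_dot_e_ne hij, smul_zero, e_dot_e_self] at this
  exact zero_ne_one this

theorem isNondegenerate : Cfsg.IsNondegenerateRootSet (Sig n k) := by
  refine ⟨?_, ?_, ?_⟩
  · refine ⟨T (e 0) (e 1), T_e_mem_Sig h01, T (e 0) (e 2), T_e_mem_Sig h02, ?_, ?_⟩
    · intro h
      obtain ⟨-, h2⟩ := T_eq_imp (e_dot_e_ne h01.symm) (e_dot_e_ne h02.symm) (e_ne_zero _)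
        (e_ne_zero _) h
      exact e_not_mem_span h12 h2
    · exact commutator_eq_bot (e_dot_e_ne h01.symm) (e_dot_e_ne h02.symm) (e_dot_e_ne h02.symm)
        (e_dot_e_ne h01.symm)
  · refine ⟨T (e 0) (e 1), T_e_mem_Sig h01, T (e 1) (e 0), T_e_mem_Sig h01.symm, ?_⟩
    apply isRankOnePair (e_dot_e_ne h01.symm) (e_dot_e_ne h01) (e_ne_zero _) (e_ne_zero _)
      (e_ne_zero _) (e_ne_zero _)
    · rw [e_dot_e_self]; exact one_ne_zero
    · rw [e_dot_e_self]; exact one_ne_zero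
  · refine ⟨T (e 1) (e 2), T_e_mem_Sig h12, T (e 0) (e 1), T_e_mem_Sig h01, ?_⟩
    apply rootCommutatorCase _ (e_dot_e_ne h12.symm) (e_dot_e_ne h01.symm) (e_ne_zero _)
      (e_ne_zero _) (e_ne_zero _) (e_ne_zero _) (T_e_mem_Sig h02)
    · rw [e_dot_e_self]; exact one_ne_zero
    · exact e_dot_e_ne h02.symm

theorem isKRoot : Cfsg.IsKRootSubgroupSet k (Sig n k) := by
  refine ⟨isRootSubgroupSet, ?_⟩
  intro A hA B hB hpair
  rw [Sig_eq] at hA hB
  exact class_isKRoot_aux hcard3 base_inc (e_ne_zero _) (e_ne_zero _) hA hB hpair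

theorem isConnected : Cfsg.IsConnectedFamily (Cfsg.FAdj (Sig n k)) (Sig n k) := by
  rw [Sig_eq]
  exact class_connected hcard3 base_inc (e_ne_zero _) (e_ne_zero _)

end Cfsg.Agent.H9SLRoot
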