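import Mathlib
import Cfsg.Prelude
import Cfsg.Agent.Lib.Helper9.SLRoot6
import Cfsg.Agent.Lib.Helper9.TensF2a

set_option autoImplicit false

/-!
# Transvections of `SL_n` in characteristic two as root involutions
-/

namespace Cfsg.Agent.H9SLRoot

open Matrix

variable {k : Type*} [Field k] {ι : Type*} [Fintype ι] [DecidableEq ι]

/-- conjugacy of elements of `SL` -/
def Conj (a b : Matrix.SpecialLinearGroup ι k) : Prop :=
  ∃ g : Matrix.SpecialLinearGroup ι k, b = g * a * g⁻¹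

theorem Conj.refl (a : Matrix.SpecialLinearGroup ι k) : Conj a a := ⟨1, by group⟩

theorem Conj.trans {a b c : Matrix.SpecialLinearGroup ι k} (h1 : Conj a b) (h2 : Conj b c) :
    Conj a c := by
  obtain ⟨g, rfl⟩ := h1
  obtain ⟨h, rfl⟩ := h2
  exact ⟨h * g, by group⟩

theorem conj_center_indep {x y φ : ι → k} (hx : φ ⬝ᵥ x = 0) (hy : φ ⬝ᵥ y = 0)
    (h1 : x ∉ Submodule.span k {y}) (h2 : y ∉ Submodule.span k {x}) (c : k) :
    Conj (tv x φ c) (tv y φ c) := by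
  obtain ⟨u, hu1, hu2⟩ := move_center hx hy h1 h2
  exact ⟨u, by rw [tv_conj, hu1, hu2]⟩

theorem conj_axis_indep {x φ ψ : ι → k} (hφ : φ ⬝ᵥ x = 0) (hψ : ψ ⬝ᵥ x = 0)
    (h1 : φ ∉ Submodule.span k {ψ}) (h2 : ψ ∉ Submodule.span k {φ}) (c : k) :
    Conj (tv x φ c) (tv x ψ c) := by
  obtain ⟨u, hu1, hu2⟩ := move_axis hφ hψ h1 h2
  exact ⟨u, by rw [tv_conj, hu1, hu2]⟩

/-- a third vector in the axis -/
theorem exists_third (hcard : 3 ≤ Fintype.card ι) {x φ : ι → k} (hx0 : x ≠ 0) :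
    ∃ z : ι → k, φ ⬝ᵥ z = 0 ∧ z ≠ 0 ∧ z ∉ Submodule.span k {x} ∧ x ∉ Submodule.span k {z} := by
  obtain ⟨ρ₀, hρ₀⟩ := exists_dot_ne_zero hx0
  rw [dotProduct_comm] at hρ₀
  obtain ⟨z, hz0, hz1, hz2⟩ := exists_perp_two hcard φ ρ₀
  rw [dotProduct_comm] at hz1 hz2
  have hzx : z ∉ Submodule.span k {x} := by
    intro h
    obtain ⟨lam, rfl⟩ := Submodule.mem_span_singleton.mp h
    rw [dotProduct_smul, smul_eq_mul] at hz2
    rcases mul_eq_zero.mp hz2 with h' | h'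
    · exact hz0 (by rw [h', zero_smul])
    · exact hρ₀ h'
  refine ⟨z, hz1, hz0, hzx, ?_⟩
  rcases span_dichotomy hx0 hz0 with ⟨lam, hlam, rfl⟩ | ⟨h1, _⟩
  · exfalso
    apply hzx
    rw [Submodule.mem_span_singleton]
    exact ⟨lam⁻¹, by rw [smul_smul, inv_mul_cancel₀ hlam, one_smul]⟩
  · exact h1

theorem conj_center (hcard : 3 ≤ Fintype.card ι) {x y φ : ι → k} (hx : φ ⬝ᵥ x = 0)
    (hy : φ ⬝ᵥ y = 0) (hx0 : x ≠ 0) (hy0 : y ≠ 0) (c : k) : Conj (tv x φ c) (tv y φ c) := by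
  rcases span_dichotomy hx0 hy0 with ⟨lam, hlam, rfl⟩ | ⟨h1, h2⟩
  · obtain ⟨z, hz, hz0, hz1, hz2⟩ := exists_third (φ := φ) hcard hy0
    have hz1' : z ∉ Submodule.span k {lam • y} := by
      intro h
      apply hz1
      obtain ⟨mu, rfl⟩ := Submodule.mem_span_singleton.mp h
      rw [Submodule.mem_span_singleton]
      exact ⟨mu * lam, by rw [smul_smul]⟩
    have hz2' : lam • y ∉ Submodule.span k {z} := by
      intro h
      apply hz2
      obtain ⟨mu, hmu⟩ := Submodule.mem_span_singleton.mp h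
      rw [Submodule.mem_span_singleton]
      refine ⟨lam⁻¹ * mu, ?_⟩
      rw [← smul_smul, hmu, smul_smul, inv_mul_cancel₀ hlam, one_smul]
    exact Conj.trans (conj_center_indep hx hz hz2' hz1' c) (conj_center_indep hz hy hz1 hz2 c)
  · exact conj_center_indep hx hy h1 h2 c

theorem conj_axis (hcard : 3 ≤ Fintype.card ι) {x φ ψ : ι → k} (hφ : φ ⬝ᵥ x = 0)
    (hψ : ψ ⬝ᵥ x = 0) (hφ0 : φ ≠ 0) (hψ0 : ψ ≠ 0) (c : k) : Conj (tv x φ c) (tv x ψ c) := by
  rcases span_dichotomy hφ0 hψ0 with ⟨lam, hlam, rfl⟩ | ⟨h1, h2⟩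
  · obtain ⟨z, hz, hz0, hz1, hz2⟩ := exists_third (φ := x) hcard hψ0
    rw [dotProduct_comm] at hz
    have hz1' : z ∉ Submodule.span k {lam • ψ} := by
      intro h
      apply hz1
      obtain ⟨mu, rfl⟩ := Submodule.mem_span_singleton.mp h
      rw [Submodule.mem_span_singleton]
      exact ⟨mu * lam, by rw [smul_smul]⟩
    have hz2' : lam • ψ ∉ Submodule.span k {z} := by
      intro h
      apply hz2
      obtain ⟨mu, hmu⟩ := Submodule.mem_span_singleton.mp h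
      rw [Submodule.mem_span_singleton]
      refine ⟨lam⁻¹ * mu, ?_⟩
      rw [← smul_smul, hmu, smul_smul, inv_mul_cancel₀ hlam, one_smul]
    exact Conj.trans (conj_axis_indep hφ hz hz2' hz1' c) (conj_axis_indep hz hψ hz1 hz2 c)
  · exact conj_axis_indep hφ hψ h1 h2 c

/-- all transvections with the same parameter are conjugate in `SL_n`, `n ≥ 3` -/
theorem conj_all (hcard : 3 ≤ Fintype.card ι) {x φ y ψ : ι → k} (hx : φ ⬝ᵥ x = 0)
    (hy : ψ ⬝ᵥ y = 0) (hx0 : x ≠ 0) (hφ0 : φ ≠ 0) (hy0 : y ≠ 0) (hψ0 : ψ ≠ 0) (c : k) :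
    Conj (tv x φ c) (tv y ψ c) := by
  obtain ⟨χ, hχ0, hχ1, hχ2⟩ := exists_perp_two hcard x y
  exact Conj.trans (Conj.trans (conj_axis hcard hx hχ1 hφ0 hχ0 c)
    (conj_center hcard hχ1 hχ2 hx0 hy0 c)) (conj_axis hcard hχ2 hy hχ0 hψ0 c)

/-! ### `SL₂` in characteristic two -/

/-- an element of `SL₂` of non-zero trace over a field of characteristic two commutes with no
involution -/
theorem no_involution_of_trace {K : Type*} [Field K] [CharP K 2]
    (g z : Matrix.SpecialLinearGroup (Fin 2) K)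
    (htr : (g : Matrix (Fin 2) (Fin 2) K) 0 0 + (g : Matrix (Fin 2) (Fin 2) K) 1 1 ≠ 0)
    (hz2 : z * z = 1) (hcomm : g * z = z * g) : z = 1 := by
  have h2 : (2 : K) = 0 := CharP.cast_eq_zero K 2
  have hdet := z.2
  rw [Matrix.det_fin_two] at hdet
  have e := congrArg (fun w : Matrix.SpecialLinearGroup (Fin 2) K =>
    (w : Matrix (Fin 2) (Fin 2) K)) hz2
  have c := congrArg (fun w : Matrix.SpecialLinearGroup (Fin 2) K =>
    (w : Matrix (Fin 2) (Fin 2) K)) hcomm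
  beta_reduce at e c
  rw [Matrix.SpecialLinearGroup.coe_mul, Matrix.SpecialLinearGroup.coe_one] at e
  rw [Matrix.SpecialLinearGroup.coe_mul, Matrix.SpecialLinearGroup.coe_mul] at c
  obtain ⟨p, hp⟩ : ∃ p, p = (z : Matrix (Fin 2) (Fin 2) K) 0 0 := ⟨_, rfl⟩
  obtain ⟨q, hq⟩ : ∃ q, q = (z : Matrix (Fin 2) (Fin 2) K) 0 1 := ⟨_, rfl⟩
  obtain ⟨r, hr⟩ : ∃ r, r = (z : Matrix (Fin 2) (Fin 2) K) 1 0 := ⟨_, rfl⟩
  obtain ⟨s, hs⟩ : ∃ s, s = (z : Matrix (Fin 2) (Fin 2) K) 1 1 := ⟨_, rfl⟩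
  obtain ⟨a, ha⟩ : ∃ a, a = (g : Matrix (Fin 2) (Fin 2) K) 0 0 := ⟨_, rfl⟩
  obtain ⟨b, hb⟩ : ∃ b, b = (g : Matrix (Fin 2) (Fin 2) K) 0 1 := ⟨_, rfl⟩
  obtain ⟨c', hc'⟩ : ∃ c', c' = (g : Matrix (Fin 2) (Fin 2) K) 1 0 := ⟨_, rfl⟩
  obtain ⟨d, hd⟩ : ∃ d, d = (g : Matrix (Fin 2) (Fin 2) K) 1 1 := ⟨_, rfl⟩
  have e00 := congrFun (congrFun e 0) 0
  have e01 := congrFun (congrFun e 0) 1
  have e10 := congrFun (congrFun e 1) 0
  have e11 := congrFun (congrFun e 1) 1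
  have c01 := congrFun (congrFun c 0) 1
  have c10 := congrFun (congrFun c 1) 0
  simp only [Matrix.mul_apply, Fin.sum_univ_two, Matrix.one_apply_eq, ← hp, ← hq, ← hr, ← hs,
    ← ha, ← hb, ← hc', ← hd] at e00 e01 e10 e11 c01 c10
  rw [Matrix.one_apply_ne (by decide)] at e01 e10
  rw [← hp, ← hq, ← hr, ← hs] at hdet
  rw [← ha, ← hd] at htr
  -- trace of z is zero
  have htz : p + s = 0 := by
    have h3 : (p + s) * (p + s) = 0 := by linear_combination e00 + e11 + 2 * hdet + 2 * h2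
    exact mul_self_eq_zero.mp h3
  have hs' : s = p := by linear_combination htz - p * h2
  have hq0 : q = 0 := by
    have : q * (a + d) = 0 := by
      rw [hs'] at c01
      linear_combination c01 + q * d * h2
    rcases mul_eq_zero.mp this with h | h
    · exact h
    · exact absurd h htr
  have hr0 : r = 0 := by
    have : r * (a + d) = 0 := by
      rw [hs'] at c10
      linear_combination c10 + r * a * h2
    rcases mul_eq_zero.mp this with h | h
    · exact h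
    · exact absurd h htr
  have hp1 : p = 1 := by
    have h3 : (p - 1) * (p - 1) = 0 := by
      rw [hs', hq0, hr0] at hdet
      linear_combination hdet - p * h2 + h2
    exact sub_eq_zero.mp (mul_self_eq_zero.mp h3)
  apply Subtype.ext
  ext i j
  rw [Matrix.SpecialLinearGroup.coe_one]
  fin_cases i <;> fin_cases j
  · show (z : Matrix (Fin 2) (Fin 2) K) 0 0 = 1
    rw [← hp, hp1]
  · show (z : Matrix (Fin 2) (Fin 2) K) 0 1 = 0
    rw [← hq, hq0]
  · show (z : Matrix (Fin 2) (Fin 2) K) 1 0 = 0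
    rw [← hr, hr0]
  · show (z : Matrix (Fin 2) (Fin 2) K) 1 1 = 1
    rw [← hs, hs', hp1]

/-- elements of `SL₂` of non-zero trace over a finite field of characteristic two have odd order -/
theorem odd_orderOf_of_trace {K : Type*} [Field K] [Finite K] [CharP K 2]
    (g : Matrix.SpecialLinearGroup (Fin 2) K)
    (htr : (g : Matrix (Fin 2) (Fin 2) K) 0 0 + (g : Matrix (Fin 2) (Fin 2) K) 1 1 ≠ 0) :
    Odd (orderOf g) := by
  haveI : Fintype K := Fintype.ofFinite K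
  rw [← Nat.not_even_iff_odd]
  intro hev
  have hpos : orderOf g ≠ 0 := (orderOf_pos g).ne'
  have h2 : 2 ∣ orderOf g := hev.two_dvd
  have hz : orderOf (g ^ (orderOf g / 2)) = 2 := orderOf_pow_orderOf_div hpos h2
  have hz2 : g ^ (orderOf g / 2) * g ^ (orderOf g / 2) = 1 := by
    have := pow_orderOf_eq_one (g ^ (orderOf g / 2))
    rw [hz, pow_two] at this
    exact this
  have hcomm : g * g ^ (orderOf g / 2) = g ^ (orderOf g / 2) * g := by
    rw [← pow_succ', ← pow_succ]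
  have := no_involution_of_trace g _ htr hz2 hcomm
  rw [this, orderOf_one] at hz
  omega

end Cfsg.Agent.H9SLRoot
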