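import Mathlib
import Cfsg.Prelude
import Cfsg.Agent.Lib.Helper9.SLRoot7

set_option autoImplicit false

/-!
# Transvections of `SL_{n+3}(F)`, `F` finite of characteristic two, form a class of root involutions
-/

namespace Cfsg.Agent.H9SLRoot

open Matrix
open Cfsg.Agent.H9SpRoot (uu ll)

variable {F : Type*} [Field F] {n : ℕ}

/-- the set of transvections, as in the statement -/
def Dset (n : ℕ) (F : Type*) [Field F] : Set (Matrix.SpecialLinearGroup (Fin (n + 3)) F) :=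
  {t | ∃ c : F, c ≠ 0 ∧ ∃ g : Matrix.SpecialLinearGroup (Fin (n + 3)) F,
    ((g⁻¹ * t * g : Matrix.SpecialLinearGroup (Fin (n + 3)) F) :
      Matrix (Fin (n + 3)) (Fin (n + 3)) F) = Matrix.transvection 0 1 c}

theorem mulVec_ne_zero {ι : Type*} [Fintype ι] [DecidableEq ι]
    (g : Matrix.SpecialLinearGroup ι F) {x : ι → F} (hx : x ≠ 0) :
    (g : Matrix ι ι F) *ᵥ x ≠ 0 := by
  intro h
  apply hx
  have := inv_mulVec_mulVec g x
  rw [h, Matrix.mulVec_zero] at this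
  exact this.symm

theorem vecMul_ne_zero {ι : Type*} [Fintype ι] [DecidableEq ι]
    (g : Matrix.SpecialLinearGroup ι F) {φ : ι → F} (hφ : φ ≠ 0) :
    φ ᵥ* (g : Matrix ι ι F) ≠ 0 := by
  intro h
  apply hφ
  have := vecMul_vecMul_inv g φ
  rw [h, Matrix.zero_vecMul] at this
  exact this.symm

theorem mem_Dset_iff {t : Matrix.SpecialLinearGroup (Fin (n + 3)) F} :
    t ∈ Dset n F ↔ ∃ x φ : Fin (n + 3) → F, φ ⬝ᵥ x = 0 ∧ x ≠ 0 ∧ φ ≠ 0 ∧ t = tv x φ 1 := by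
  constructor
  · rintro ⟨c, hc, g, hg⟩
    have h1 : g⁻¹ * t * g = tv (e 0) (e 1) c := Subtype.ext (hg.trans (tv_e_coe h01 c).symm)
    have h2 : t = g * tv (e 0) (e 1) c * g⁻¹ := by rw [← h1]; group
    rw [tv_conj] at h2
    refine ⟨c • ((g : Matrix (Fin (n + 3)) (Fin (n + 3)) F) *ᵥ e 0),
      (1 : F) • (e 1 ᵥ* ((g⁻¹ : Matrix.SpecialLinearGroup (Fin (n + 3)) F) :
        Matrix (Fin (n + 3)) (Fin (n + 3)) F)), ?_, ?_, ?_, ?_⟩
    · rw [one_smul, dotProduct_smul, dot_conj, base_inc, smul_zero]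
    · exact smul_ne_zero hc (mulVec_ne_zero g (e_ne_zero _))
    · rw [one_smul]
      exact vecMul_ne_zero g⁻¹ (e_ne_zero _)
    · rw [tv_smul, mul_one, mul_one]
      exact h2
  · rintro ⟨x, φ, h, hx, hφ, rfl⟩
    obtain ⟨g, hg⟩ := conj_all hcard3 (base_inc (k := F) (n := n)) h (e_ne_zero _) (e_ne_zero _)
      hx hφ 1
    refine ⟨1, one_ne_zero, g, ?_⟩
    have h3 : g⁻¹ * tv x φ 1 * g = tv (e 0) (e 1) 1 := by rw [hg]; group
    rw [h3, tv_e_coe h01]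

theorem tv_mem_Dset {x φ : Fin (n + 3) → F} (h : φ ⬝ᵥ x = 0) (hx : x ≠ 0) (hφ : φ ≠ 0)
    {c : F} (hc : c ≠ 0) : tv x φ c ∈ Dset n F := by
  rw [mem_Dset_iff]
  refine ⟨c • x, (1 : F) • φ, ?_, smul_ne_zero hc hx, ?_, ?_⟩
  · rw [one_smul, dotProduct_smul, h, smul_zero]
  · rw [one_smul]; exact hφ
  · rw [tv_smul, mul_one, mul_one]

section char2

variable [CharP F 2]

theorem tv_sq {ι : Type*} [Fintype ι] [DecidableEq ι] (x φ : ι → F) (c : F) :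
    tv x φ c * tv x φ c = 1 := by
  rw [tv_mul, CharTwo.add_self_eq_zero, tv_zero]

theorem tv_inv_self {ι : Type*} [Fintype ι] [DecidableEq ι] (x φ : ι → F) (c : F) :
    (tv x φ c)⁻¹ = tv x φ c := by
  rw [inv_eq_iff_mul_eq_one, tv_sq]

/-- the `SL₂` containing two non-commuting transvections -/
theorem exists_SL2 {ι : Type*} [Fintype ι] [DecidableEq ι] {x φ y ψ : ι → F}
    (hx : φ ⬝ᵥ x = 0) (hy : ψ ⬝ᵥ y = 0) (hα : ψ ⬝ᵥ x ≠ 0) (hβ : φ ⬝ᵥ y ≠ 0) :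
    ∃ Φ : Matrix.SpecialLinearGroup (Fin 2) F →* Matrix.SpecialLinearGroup ι F,
      Function.Injective Φ ∧ tv x φ 1 = Φ (uu (φ ⬝ᵥ y)) ∧ tv y ψ 1 = Φ (ll (ψ ⬝ᵥ x)) := by
  have hx' : ((φ ⬝ᵥ y)⁻¹ • φ) ⬝ᵥ x = 0 := by rw [smul_dotProduct, hx, smul_zero]
  have hy' : ((ψ ⬝ᵥ x)⁻¹ • ψ) ⬝ᵥ y = 0 := by rw [smul_dotProduct, hy, smul_zero]
  have hα' : ((ψ ⬝ᵥ x)⁻¹ • ψ) ⬝ᵥ x = 1 := by
    rw [smul_dotProduct, smul_eq_mul, inv_mul_cancel₀ hα]
  have hβ' : ((φ ⬝ᵥ y)⁻¹ • φ) ⬝ᵥ y = 1 := by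
    rw [smul_dotProduct, smul_eq_mul, inv_mul_cancel₀ hβ]
  refine ⟨phi hx' hy' hα' hβ', phi_injective hx' hy' hα' hβ', ?_, ?_⟩
  · rw [phi_upper hx' hy' hα' hβ' (uu (φ ⬝ᵥ y)) ⟨rfl, rfl, rfl⟩]
    have := tv_smul (1 : F) (φ ⬝ᵥ y)⁻¹ x φ (φ ⬝ᵥ y)
    rw [one_smul] at this
    show tv x φ 1 = tv x ((φ ⬝ᵥ y)⁻¹ • φ) (φ ⬝ᵥ y)
    rw [this]
    congr 1
    field_simp
  · rw [phi_lower hx' hy' hα' hβ' (ll (ψ ⬝ᵥ x)) ⟨rfl, rfl, rfl⟩]
    have := tv_smul (1 : F) (ψ ⬝ᵥ x)⁻¹ y ψ (ψ ⬝ᵥ x)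
    rw [one_smul] at this
    show tv y ψ 1 = tv y ((ψ ⬝ᵥ x)⁻¹ • ψ) (ψ ⬝ᵥ x)
    rw [this]
    congr 1
    field_simp

theorem uu_mul_ll_trace (b a : F) :
    ((uu b * ll a : Matrix.SpecialLinearGroup (Fin 2) F) : Matrix (Fin 2) (Fin 2) F) 0 0 +
      ((uu b * ll a : Matrix.SpecialLinearGroup (Fin 2) F) : Matrix (Fin 2) (Fin 2) F) 1 1 =
        b * a := by
  have h2 : (2 : F) = 0 := CharP.cast_eq_zero F 2
  rw [Matrix.SpecialLinearGroup.coe_mul]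
  simp only [uu, ll, Matrix.mul_apply, Fin.sum_univ_two, Matrix.of_apply, Matrix.cons_val',
    Matrix.cons_val_zero, Matrix.cons_val_one, Matrix.empty_val', Matrix.cons_val_fin_one]
  simp
  linear_combination h2

variable [Fintype F]

/-- the analysis of a pair of transvections -/
theorem pair_analysis {a b : Matrix.SpecialLinearGroup (Fin (n + 3)) F} (ha : a ∈ Dset n F)
    (hb : b ∈ Dset n F) :
    a * b = b * a ∨ (orderOf (a * b) = 4 ∧ (a * b) ^ 2 ∈ Dset n F) ∨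
      (Odd (orderOf (a * b)) ∧ (Fintype.card F = 2 → orderOf (a * b) ∣ 3)) := by
  obtain ⟨x, φ, hx, hx0, hφ0, rfl⟩ := mem_Dset_iff.mp ha
  obtain ⟨y, ψ, hy, hy0, hψ0, rfl⟩ := mem_Dset_iff.mp hb
  have hsq : (tv x φ 1 * tv y ψ 1) ^ 2 =
      tv x φ 1 * tv y ψ 1 * (tv x φ 1)⁻¹ * (tv y ψ 1)⁻¹ := by
    rw [tv_inv_self, tv_inv_self, pow_two]; group
  by_cases hα : ψ ⬝ᵥ x = 0
  · by_cases hβ : φ ⬝ᵥ y = 0
    · left
      exact tv_comm hx hy hα hβ 1 1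
    · right; left
      have h1 : (tv x φ 1 * tv y ψ 1) ^ 2 = tv x ψ (φ ⬝ᵥ y) := by
        rw [hsq]
        have := tv_commutator hy hx hα (1 : F) 1
        rw [one_mul, one_mul] at this
        have e : tv x φ 1 * tv y ψ 1 * (tv x φ 1)⁻¹ * (tv y ψ 1)⁻¹ =
            (tv y ψ 1 * tv x φ 1 * (tv y ψ 1)⁻¹ * (tv x φ 1)⁻¹)⁻¹ := by group
        rw [e, this, tv_inv, neg_neg]
      refine ⟨?_, ?_⟩
      · have hp : Fact (Nat.Prime 2) := ⟨Nat.prime_two⟩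
        apply orderOf_eq_prime_pow (p := 2) (n := 1)
        · rw [pow_one, h1, tv_eq_one_iff hα hx0 hψ0]
          exact hβ
        · rw [show 2 ^ (1 + 1) = 2 * 2 from rfl, pow_mul, h1, pow_two, tv_sq]
      · rw [h1]
        exact tv_mem_Dset hα hx0 hψ0 hβ
  · by_cases hβ : φ ⬝ᵥ y = 0
    · right; left
      have h1 : (tv x φ 1 * tv y ψ 1) ^ 2 = tv y φ (-(ψ ⬝ᵥ x)) := by
        rw [hsq]
        have := tv_commutator hx hy hβ (1 : F) 1
        rw [one_mul, one_mul] at this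
        exact this
      refine ⟨?_, ?_⟩
      · have hp : Fact (Nat.Prime 2) := ⟨Nat.prime_two⟩
        apply orderOf_eq_prime_pow (p := 2) (n := 1)
        · rw [pow_one, h1, tv_eq_one_iff hβ hy0 hφ0, neg_eq_zero]
          exact hα
        · rw [show 2 ^ (1 + 1) = 2 * 2 from rfl, pow_mul, h1, pow_two, tv_sq]
      · rw [h1]
        exact tv_mem_Dset hβ hy0 hφ0 (neg_ne_zero.mpr hα)
    · right; right
      obtain ⟨Φ, hinj, h1, h2⟩ := exists_SL2 hx hy hα hβ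
      rw [h1, h2, ← map_mul, orderOf_injective Φ hinj]
      refine ⟨?_, ?_⟩
      · apply odd_orderOf_of_trace
        rw [uu_mul_ll_trace]
        exact mul_ne_zero hβ hα
      · intro hq
        have hb1 : φ ⬝ᵥ y = 1 := by
          rcases Cfsg.Agent.H9TF2.eq_zero_or_one hq (φ ⬝ᵥ y) with h | h
          · exact absurd h hβ
          · exact h
        have ha1 : ψ ⬝ᵥ x = 1 := by
          rcases Cfsg.Agent.H9TF2.eq_zero_or_one hq (ψ ⬝ᵥ x) with h | h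
          · exact absurd h hα
          · exact h
        rw [hb1, ha1]
        apply orderOf_dvd_of_pow_eq_one
        have h2' : (1 : F) + 1 = 0 := CharTwo.add_self_eq_zero 1
        apply Subtype.ext
        rw [pow_succ, pow_two, Matrix.SpecialLinearGroup.coe_mul, Matrix.SpecialLinearGroup.coe_mul,
          Matrix.SpecialLinearGroup.coe_mul, Matrix.SpecialLinearGroup.coe_one]
        have hW : ((uu (1 : F)) : Matrix (Fin 2) (Fin 2) F) * ((ll (1 : F)) : Matrix (Fin 2) (Fin 2) F)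
            = Cfsg.Agent.H9TF2.W := by
          unfold uu ll Cfsg.Agent.H9TF2.W
          show !![(1 : F), 1; 0, 1] * !![(1 : F), 0; 1, 1] = !![0, 1; 1, 1]
          rw [Matrix.mul_fin_two]
          simp [h2']
        rw [hW]
        exact Cfsg.Agent.H9TF2.W_cube hq

end char2

end Cfsg.Agent.H9SLRoot
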