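import Mathlib
import Cfsg.Prelude
import Cfsg.Agent.Lib.Helper9.SLRoot8

set_option autoImplicit false

/-!
# Transvections of `SL_{n+3}(F)` in characteristic two: assembly
-/

namespace Cfsg.Agent.H9SLRoot

open Matrix

variable {F : Type*} [Field F] [Fintype F] [CharP F 2] {n : ℕ}

theorem isRootInvolutionSet : Cfsg.IsRootInvolutionSet (Dset n F) := by
  refine ⟨?_, ?_, ?_, ?_⟩
  · intro d hd
    obtain ⟨x, φ, h, hx, hφ, rfl⟩ := mem_Dset_iff.mp hd
    haveI : Fact (Nat.Prime 2) := ⟨Nat.prime_two⟩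
    apply orderOf_eq_prime
    · rw [pow_two, tv_sq]
    · rw [Ne, tv_eq_one_iff h hx hφ]
      exact one_ne_zero
  · apply Cfsg.Agent.Lib.Helper1.eq_top_of_transvection_mem
    intro i j hij c
    have h1 : Matrix.SpecialLinearGroup.transvection hij c = tv (e i) (e j) c := by
      apply Subtype.ext
      rw [tv_e_coe hij]
      rfl
    rw [h1]
    by_cases hc : c = 0
    · rw [hc, tv_zero]
      exact Subgroup.one_mem _
    · exact Subgroup.subset_closure
        (tv_mem_Dset (e_dot_e_ne hij.symm) (e_ne_zero _) (e_ne_zero _) hc)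
  · intro d hd g
    obtain ⟨x, φ, h, hx, hφ, rfl⟩ := mem_Dset_iff.mp hd
    rw [tv_conj]
    exact tv_mem_Dset ((dot_conj g x φ).trans h) (mulVec_ne_zero g hx) (vecMul_ne_zero g⁻¹ hφ)
      one_ne_zero
  · intro a ha b hb
    rcases pair_analysis ha hb with h | h | h
    · exact Or.inl h
    · exact Or.inr (Or.inr h)
    · exact Or.inr (Or.inl h.1)

theorem isRootInvolutionClass : Cfsg.IsRootInvolutionClass (Dset n F) := by
  refine ⟨isRootInvolutionSet, ?_, ?_⟩
  · exact ⟨tv (e 0) (e 1) 1,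
      tv_mem_Dset (e_dot_e_ne h01.symm) (e_ne_zero _) (e_ne_zero _) one_ne_zero⟩
  · intro a ha b hb
    obtain ⟨x, φ, hx, hx0, hφ0, rfl⟩ := mem_Dset_iff.mp ha
    obtain ⟨y, ψ, hy, hy0, hψ0, rfl⟩ := mem_Dset_iff.mp hb
    exact conj_all hcard3 hx hy hx0 hφ0 hy0 hψ0 1

theorem isThreeFourPlus (hq : Fintype.card F = 2) :
    Cfsg.IsThreeFourPlusTranspositionSet (Dset n F) := by
  refine ⟨isRootInvolutionSet, ?_⟩
  intro a ha b hb hodd
  rcases pair_analysis ha hb with h | h | h
  · -- commuting involutions: the product squares to one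
    have ha2 : a * a = 1 := by
      obtain ⟨x, φ, -, -, -, rfl⟩ := mem_Dset_iff.mp ha
      exact tv_sq _ _ _
    have hb2 : b * b = 1 := by
      obtain ⟨x, φ, -, -, -, rfl⟩ := mem_Dset_iff.mp hb
      exact tv_sq _ _ _
    have h2 : (a * b) ^ 2 = 1 := by
      rw [pow_two]
      calc a * b * (a * b) = a * (b * a) * b := by group
        _ = a * (a * b) * b := by rw [h]
        _ = (a * a) * (b * b) := by group
        _ = 1 := by rw [ha2, hb2, mul_one]
    have hdvd : orderOf (a * b) ∣ 2 := orderOf_dvd_of_pow_eq_one h2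
    rcases (Nat.dvd_prime Nat.prime_two).mp hdvd with h1 | h1
    · exact Or.inl h1
    · rw [h1] at hodd
      exact absurd hodd (by decide)
  · rw [h.1] at hodd
    exact absurd hodd (by decide)
  · rcases (Nat.dvd_prime Nat.prime_three).mp (h.2 hq) with h1 | h1
    · exact Or.inl h1
    · exact Or.inr h1

end Cfsg.Agent.H9SLRoot
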