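import Mathlib
import Cfsg.Agent.Lib.Helper9.SUMax4

set_option autoImplicit false

/-!
Two abstract facts on Hermitian spaces used for the maximality of the unitary similarity group
in the special linear group:
* an additive subgroup invariant under the unitary transvections is trivial or everything;
* two Hermitian forms with proportional functionals at the isotropic vectors are proportional.
-/

namespace Cfsg.Agent.H9SUMax

open Module Cfsg.Agent.Lib.Helper2 Cfsg.Agent.Lib.Helper2.UT Cfsg.Agent.Lib.Helper2.IsomDecomp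
  Cfsg.Agent.Lib.Helper2.HermDecomp Cfsg.Agent.Lib.Helper2.HermFrames
  Cfsg.Agent.Lib.Helper5.PSLCoset

universe u v

variable {F : Type v} [Field F] {σ : F ≃+* F} {V : Type u} [AddCommGroup V] [Module F V]
  {H : V → V → F}

section irr

variable [Finite F] [FiniteDimensional F V]

/-- an additive subgroup of a nondegenerate Hermitian space invariant under all unitary
transvections is zero or everything -/
theorem addSubgroup_eq_top (hσ : orderOf σ = 2) (h : IsHerm σ H)
    (hnd : ∀ v, (∀ w, H v w = 0) → v = 0) (hdim : 4 ≤ finrank F V) (Z : AddSubgroup V)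
    (hinv : ∀ (w : V) (d : F), H w w = 0 → σ d = -d → ∀ z ∈ Z, z + (d * H z w) • w ∈ Z)
    {z₀ : V} (hz₀ : z₀ ∈ Z) (hz₀0 : z₀ ≠ 0) (x : V) : x ∈ Z := by
  have hσ2 := WittHerm.sigma_sigma hσ
  obtain ⟨e, he0, he⟩ := exists_skew hσ
  -- (I1)
  have I1 : ∀ (w : V) (d : F), H w w = 0 → σ d = -d → ∀ z ∈ Z, (d * H z w) • w ∈ Z := by
    intro w d hw hd z hz
    have := Z.sub_mem (hinv w d hw hd z hz) hz
    rwa [add_sub_cancel_left] at this
  -- nonzero multiples propagate along edges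
  have prop1 : ∀ w w' : V, H w' w' = 0 → H w w' ≠ 0 → (∃ c : F, c ≠ 0 ∧ c • w ∈ Z) →
      ∃ c : F, c ≠ 0 ∧ c • w' ∈ Z := by
    rintro w w' hw' hww' ⟨c, hc0, hc⟩
    refine ⟨e * H (c • w) w', ?_, I1 w' e hw' he _ hc⟩
    rw [h.smul_left]
    exact mul_ne_zero he0 (mul_ne_zero hc0 hww')
  -- full lines propagate along edges
  have prop2 : ∀ w w' : V, H w' w' = 0 → H w w' ≠ 0 → (∀ c : F, c • w ∈ Z) →
      ∀ c : F, c • w' ∈ Z := by
    intro w w' hw' hww' hfull c
    have := I1 w' e hw' he _ (hfull (c / (e * H w w')))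
    rw [h.smul_left] at this
    have e1 : e * (c / (e * H w w') * H w w') = c := by
      field_simp
    rwa [e1] at this
  -- an isotropic vector with a nonzero multiple in `Z`
  obtain ⟨w, hw, hw0, c, hc0, hcw⟩ : ∃ w : V, H w w = 0 ∧ w ≠ 0 ∧ ∃ c : F, c ≠ 0 ∧ c • w ∈ Z := by
    obtain ⟨y, hy⟩ : ∃ y, H z₀ y ≠ 0 := by
      by_contra hcon
      push Not at hcon
      exact hz₀0 (hnd z₀ hcon)
    obtain ⟨y₁, y₂, y₃, h1, h2, h3, hyd⟩ := exists_iso_decomp hσ h hnd (by omega) y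
    have key : ∀ w : V, H w w = 0 → H z₀ w ≠ 0 →
        ∃ w : V, H w w = 0 ∧ w ≠ 0 ∧ ∃ c : F, c ≠ 0 ∧ c • w ∈ Z := by
      intro w hw hzw
      refine ⟨w, hw, ?_, e * H z₀ w, mul_ne_zero he0 hzw, I1 w e hw he z₀ hz₀⟩
      intro h0
      rw [h0, h.zero_right] at hzw
      exact hzw rfl
    by_cases hz1 : H z₀ y₁ = 0
    · by_cases hz2 : H z₀ y₂ = 0
      · apply key y₃ h3
        intro hz3
        apply hy
        rw [hyd, h.add_right, h.add_right, hz1, hz2, hz3]
        ring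
      · exact key y₂ h2 hz2
    · exact key y₁ h1 hz1
  obtain ⟨e₁, f₁, e₂, f₂, hp, hq, h1, h2, h3, h4⟩ := exists_two_hypPairs hσ h hnd hdim
  have hf₁e₁ := hp.vu h
  have hf₂e₂ := hq.vu h
  have h1' : H e₂ e₁ = 0 := by rw [h.symm e₁ e₂, h1, map_zero]
  have h2' : H f₂ e₁ = 0 := by rw [h.symm e₁ f₂, h2, map_zero]
  have h3' : H e₂ f₁ = 0 := by rw [h.symm f₁ e₂, h3, map_zero]
  have h4' : H f₂ f₁ = 0 := by rw [h.symm f₁ f₂, h4, map_zero]
  have he₁0 : e₁ ≠ 0 := by
    intro h0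
    have := hp.uv
    rw [h0, h.zero_left] at this
    exact zero_ne_one this
  -- a nonzero multiple of `e₁` in `Z`
  obtain ⟨c₁, hc₁0, hc₁⟩ : ∃ c : F, c ≠ 0 ∧ c • e₁ ∈ Z := by
    by_cases hwe : H w e₁ = 0
    · obtain ⟨y', hy'y', hwy', hey'⟩ := exists_iso_conn hσ h hnd hw0 he₁0 hw hwe
      have s1 := prop1 w y' hy'y' hwy' ⟨c, hc0, hcw⟩
      apply prop1 y' e₁ hp.uu _ s1
      rw [h.symm e₁ y']
      exact (map_ne_zero_iff _ σ.injective).2 hey'
    · exact prop1 w e₁ hp.uu hwe ⟨c, hc0, hcw⟩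
  -- the full line through `e₁`
  have hfull : ∀ a : F, a • e₁ ∈ Z := by
    intro a
    obtain ⟨θ, hθ⟩ : ∃ θ : F, θ = σ (a / (e * e * e * c₁)) := ⟨_, rfl⟩
    have hw₁ : H (f₁ + e₂) (f₁ + e₂) = 0 := by
      rw [h.add_left, h.add_right, h.add_right, hp.vv, hq.uu, h3, h3']
      ring
    have hw₂ : H (f₁ + θ • f₂) (f₁ + θ • f₂) = 0 := by
      simp only [h.add_left, h.add_right, h.smul_left, h.smul_right, hp.vv, hq.vv, h4, h4']
      ring
    have s1 := I1 (f₁ + e₂) e hw₁ he _ hc₁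
    have e1 : H (c₁ • e₁) (f₁ + e₂) = c₁ := by
      rw [h.smul_left, h.add_right, hp.uv, h1]
      ring
    rw [e1] at s1
    have s2 := I1 (f₁ + θ • f₂) e hw₂ he _ s1
    have e2 : H ((e * c₁) • (f₁ + e₂)) (f₁ + θ • f₂) = e * c₁ * σ θ := by
      simp only [h.add_left, h.add_right, h.smul_left, h.smul_right, hp.vv, hq.uv, h3', h4]
      ring
    rw [e2] at s2
    have s3 := I1 e₁ e hp.uu he _ s2
    have e3 : H ((e * (e * c₁ * σ θ)) • (f₁ + θ • f₂)) e₁ = e * (e * c₁ * σ θ) := by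
      simp only [h.add_left, h.smul_left, hf₁e₁, h2']
      ring
    rw [e3, hθ, hσ2] at s3
    have e4 : e * (e * (e * c₁ * (a / (e * e * e * c₁)))) = a := by
      field_simp
    rwa [e4] at s3
  -- all isotropic lines
  have hall : ∀ w' : V, H w' w' = 0 → ∀ a : F, a • w' ∈ Z := by
    intro w' hw' a
    by_cases hw'0 : w' = 0
    · rw [hw'0, smul_zero]; exact Z.zero_mem
    by_cases hew : H e₁ w' = 0
    · obtain ⟨y', hy'y', hey', hw'y'⟩ := exists_iso_conn hσ h hnd he₁0 hw'0 hp.uu hew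
      have s1 := prop2 e₁ y' hy'y' hey' hfull
      apply prop2 y' w' hw' _ s1
      rw [h.symm w' y']
      exact (map_ne_zero_iff _ σ.injective).2 hw'y'
    · exact prop2 e₁ w' hw' hew hfull a
  obtain ⟨x₁, x₂, x₃, hx1, hx2, hx3, hxd⟩ := exists_iso_decomp hσ h hnd (by omega) x
  rw [hxd]
  have a1 := hall x₁ hx1 1
  have a2 := hall x₂ hx2 1
  have a3 := hall x₃ hx3 1
  rw [one_smul] at a1 a2 a3
  exact Z.add_mem (Z.add_mem a1 a2) a3

/-- two Hermitian forms whose functionals at the isotropic vectors of the second are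
proportional are proportional -/
theorem proportional_of_iso {H' : V → V → F} (hσ : orderOf σ = 2) (h : IsHerm σ H)
    (h' : IsHerm σ H') (hnd' : ∀ v, (∀ w, H' v w = 0) → v = 0) (hdim : 2 ≤ finrank F V)
    (hprop : ∀ v, H' v v = 0 → ∃ c : F, ∀ x, H x v = c * H' x v) :
    ∃ c : F, ∀ x y, H x y = c * H' x y := by
  have hσ2 := WittHerm.sigma_sigma hσ
  choose! cf hcf using hprop
  -- Claim A
  have claimA : ∀ v w, H' v v = 0 → H' w w = 0 → H' v w ≠ 0 → cf v = σ (cf w) := by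
    intro v w hv hw hvw
    have hwv : H' w v ≠ 0 := by
      rw [h'.symm v w]
      exact (map_ne_zero_iff _ σ.injective).2 hvw
    have e1 : H w v = cf v * H' w v := hcf v hv w
    have e2 : H v w = cf w * H' v w := hcf w hw v
    have e3 : H w v = σ (cf w) * H' w v := by
      rw [h.symm v w, e2, map_mul, ← h'.symm v w]
    have : (cf v - σ (cf w)) * H' w v = 0 := by linear_combination e3 - e1
    rcases mul_eq_zero.1 this with h0 | h0
    · exact sub_eq_zero.1 h0
    · exact absurd h0 hwv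
  -- Claim B
  have claimB : ∀ v w, H' v v = 0 → H' w w = 0 → H' v w ≠ 0 → cf v = cf w := by
    intro v w hv hw hvw
    obtain ⟨e, he0, he⟩ := exists_skew hσ
    have hwv : H' w v ≠ 0 := by
      rw [h'.symm v w]
      exact (map_ne_zero_iff _ σ.injective).2 hvw
    obtain ⟨l, hl⟩ : ∃ l : F, l = σ (e / H' v w) := ⟨_, rfl⟩
    have hl0 : l ≠ 0 := by
      rw [hl]
      exact (map_ne_zero_iff _ σ.injective).2 (div_ne_zero he0 hvw)
    have hu : H' (v + l • w) (v + l • w) = 0 := by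
      have e1 : H' (v + l • w) (v + l • w) = σ l * H' v w + σ (σ l * H' v w) := by
        simp only [h'.add_left, h'.add_right, h'.smul_left, h'.smul_right, hv, hw, hσ2, map_mul]
        rw [← h'.symm v w]
        ring
      rw [e1, hl, hσ2, div_mul_cancel₀ _ hvw, he]
      ring
    have huv : H' (v + l • w) v ≠ 0 := by
      rw [h'.add_left, h'.smul_left, hv, zero_add]
      exact mul_ne_zero hl0 hwv
    have huw : H' (v + l • w) w ≠ 0 := by
      rw [h'.add_left, h'.smul_left, hw, mul_zero, add_zero]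
      exact hvw
    have a1 := claimA _ v hu hv huv
    have a2 := claimA _ w hu hw huw
    exact σ.injective (a1.symm.trans a2)
  -- constancy
  have hconst : ∀ v w, H' v v = 0 → H' w w = 0 → v ≠ 0 → w ≠ 0 → cf v = cf w := by
    intro v w hv hw hv0 hw0
    by_cases hvw : H' v w = 0
    · obtain ⟨y', hy', hvy', hwy'⟩ := exists_iso_conn hσ h' hnd' hv0 hw0 hv hvw
      rw [claimB v y' hv hy' hvy', claimB w y' hw hy' hwy']
    · exact claimB v w hv hw hvw
  obtain ⟨e₁, f₁, hp⟩ := exists_hypPair hσ h' hnd' hdim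
  have he₁0 : e₁ ≠ 0 := by
    intro h0
    have := hp.uv
    rw [h0, h'.zero_left] at this
    exact zero_ne_one this
  refine ⟨cf e₁, ?_⟩
  have hiso : ∀ v, H' v v = 0 → ∀ x, H x v = cf e₁ * H' x v := by
    intro v hv x
    by_cases hv0 : v = 0
    · rw [hv0, h.zero_right, h'.zero_right, mul_zero]
    · rw [hcf v hv x, hconst v e₁ hv hp.uu hv0 he₁0]
  intro x y
  obtain ⟨y₁, y₂, y₃, h1, h2, h3, hyd⟩ := exists_iso_decomp hσ h' hnd' hdim y
  rw [hyd, h.add_right, h.add_right, h'.add_right, h'.add_right, hiso y₁ h1, hiso y₂ h2,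
    hiso y₃ h3]
  ring

end irr

end Cfsg.Agent.H9SUMax
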