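import Mathlib
import Cfsg.Prelude
import Cfsg.Agent.Lib.Helper9.SLUnit1
import Cfsg.Agent.Lib.Helper9.SUMax3
import Cfsg.Agent.Lib.Helper9.SLSymp1

set_option autoImplicit false

/-!
The unitary similarity group is maximal in the special linear group: plumbing between
`GL (Fin n) F` and linear automorphisms, and the key lemma on functional sets.
-/

namespace Cfsg.Agent.H9SLUnit

open Module Matrix Cfsg.Agent.Lib.Helper2 Cfsg.Agent.Lib.Helper2.UT
  Cfsg.Agent.Lib.Helper2.IsomDecomp Cfsg.Agent.Lib.Helper2.HermDecomp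
  Cfsg.Agent.Lib.Helper2.HermFrames Cfsg.Agent.Lib.Helper5.PSLCoset
  Cfsg.Agent.Lib.Helper2.GUIsom Cfsg.Agent.H9SUMax Cfsg.Agent.H9SLMax Cfsg.Agent.H9SLSymp

variable {F : Type*} [Field F] {n : ℕ}

/-- a linear automorphism as an invertible matrix -/
noncomputable def linToGL (e : (Fin n → F) ≃ₗ[F] (Fin n → F)) : GL (Fin n) F :=
  (glLin n F).symm e

theorem glLin_linToGL (e : (Fin n → F) ≃ₗ[F] (Fin n → F)) : glLin n F (linToGL e) = e :=
  (glLin n F).apply_symm_apply e

theorem linToGL_mulVec (e : (Fin n → F) ≃ₗ[F] (Fin n → F)) (x : Fin n → F) :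
    ((linToGL e : GL (Fin n) F) : Matrix (Fin n) (Fin n) F) *ᵥ x = e x := by
  rw [← glLin_apply, glLin_linToGL]

theorem zero_mem_funSet (M : Subgroup (GL (Fin n) F)) (v : Fin n → F) :
    (0 : (Fin n → F) →ₗ[F] F) ∈ funSet M v := by
  refine ⟨rfl, fun g hg => ?_⟩
  rw [hg.zero]
  exact M.one_mem

section form

variable {σ : F ≃+* F} {f : (Fin n → F) → (Fin n → F) → F}

theorem isHerm_of_unitary (hf : Cfsg.Geo.IsUnitaryForm σ f) : IsHerm σ f :=
  ⟨hf.add_left, hf.smul_left, fun v w => hf.herm w v⟩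

theorem orderOf_of_unitary (hf : Cfsg.Geo.IsUnitaryForm σ f) : orderOf σ = 2 := by
  apply orderOf_eq_prime
  · apply RingEquiv.ext
    intro a
    rw [pow_two]
    exact hf.involutive a
  · exact hf.ne_refl

theorem nondeg_of_unitary (hf : Cfsg.Geo.IsUnitaryForm σ f) :
    ∀ v, (∀ w, f v w = 0) → v = 0 := by
  intro v hv
  by_contra h0
  obtain ⟨-, x, hx⟩ := hf.nondegenerate v h0
  exact hx (hv x)

theorem linToGL_mem {e : (Fin n → F) ≃ₗ[F] (Fin n → F)} (he : e ∈ isom f)
    (hdet : LinearEquiv.det e = 1) :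
    linToGL e ∈ Cfsg.Geo.similarityGroup f ⊓ Cfsg.Geo.specialLinear (Fin n) F := by
  refine Subgroup.mem_inf.2 ⟨⟨1, fun u v => ?_⟩, ?_⟩
  · rw [linToGL_mulVec, linToGL_mulVec, he u v, Units.val_one, one_mul]
  · rw [mem_specialLinear_iff, glLin_linToGL]
    exact hdet

theorem isTransv_tv (h : IsHerm σ f) (w : Fin n → F) (d : F) (hw : f w w = 0) :
    IsTransv (linToGL (tv h w d hw)) (d • h.toDual w) w := by
  refine ⟨?_, fun x => ?_⟩
  · rw [LinearMap.smul_apply, IsHerm.toDual_apply, hw, smul_zero]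
  · rw [linToGL_mulVec, tv_apply, LinearMap.smul_apply, IsHerm.toDual_apply, smul_eq_mul]

theorem toDual_add (h : IsHerm σ f) (a b : Fin n → F) :
    h.toDual (a + b) = h.toDual a + h.toDual b := by
  apply LinearMap.ext
  intro x
  rw [LinearMap.add_apply, IsHerm.toDual_apply, IsHerm.toDual_apply, IsHerm.toDual_apply,
    h.add_right]

theorem toDual_smul (h : IsHerm σ f) (a : F) (w : Fin n → F) :
    h.toDual (a • w) = σ a • h.toDual w := by
  apply LinearMap.ext
  intro x
  rw [LinearMap.smul_apply, IsHerm.toDual_apply, IsHerm.toDual_apply, h.smul_right, smul_eq_mul]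

theorem toDual_zero (h : IsHerm σ f) : h.toDual (0 : Fin n → F) = 0 := by
  apply LinearMap.ext
  intro x
  rw [IsHerm.toDual_apply, h.zero_right, LinearMap.zero_apply]

theorem toDual_neg (h : IsHerm σ f) (a : Fin n → F) : h.toDual (-a) = -h.toDual a := by
  apply LinearMap.ext
  intro x
  have := toDual_smul h (-1) a
  rw [neg_one_smul, map_neg, map_one] at this
  rw [this, LinearMap.smul_apply, LinearMap.neg_apply, smul_eq_mul, neg_one_mul]

theorem toDual_comp_inv (h : IsHerm σ f) {e : (Fin n → F) ≃ₗ[F] (Fin n → F)} (he : e ∈ isom f)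
    (z : Fin n → F) :
    (h.toDual z).comp
      (Matrix.toLin' (((linToGL e)⁻¹ : GL (Fin n) F) : Matrix (Fin n) (Fin n) F)) =
      h.toDual (e z) := by
  apply LinearMap.ext
  intro x
  rw [LinearMap.comp_apply, Matrix.toLin'_apply, IsHerm.toDual_apply, IsHerm.toDual_apply]
  have h1 : e ((((linToGL e)⁻¹ : GL (Fin n) F) : Matrix (Fin n) (Fin n) F) *ᵥ x) = x := by
    rw [← linToGL_mulVec, mulVec_inv_mulVec]
  rw [← he _ z, h1]

theorem funSet_conj_fix (h : IsHerm σ f) (M : Subgroup (GL (Fin n) F)) {v z : Fin n → F}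
    {e : (Fin n → F) ≃ₗ[F] (Fin n → F)} (he : e ∈ isom f) (heM : linToGL e ∈ M)
    (hev : e v = v) (hz : h.toDual z ∈ funSet M v) : h.toDual (e z) ∈ funSet M v := by
  have h1 := funSet_conj M hz heM
  rwa [toDual_comp_inv h he, linToGL_mulVec, hev] at h1

theorem smul_toDual_mem_funSet (h : IsHerm σ f) (M : Subgroup (GL (Fin n) F))
    (hNM : Cfsg.Geo.similarityGroup f ⊓ Cfsg.Geo.specialLinear (Fin n) F ≤ M)
    (w : Fin n → F) (hw : f w w = 0) (d : F) (hd : σ d = -d) :
    d • h.toDual w ∈ funSet M w := by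
  refine ⟨(isTransv_tv h w d hw).1, fun g hg => ?_⟩
  rw [hg.unique (isTransv_tv h w d hw)]
  exact hNM (linToGL_mem (tv_mem_isom h w d hw hd) (det_tv h w d hw))

end form

end Cfsg.Agent.H9SLUnit
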