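import Mathlib
import Cfsg.Agent.Lib.Helper9.SLUnit2

set_option autoImplicit false

namespace Cfsg.Agent.H9SLUnit

open Module Matrix Cfsg.Agent.Lib.Helper2 Cfsg.Agent.Lib.Helper2.UT
  Cfsg.Agent.Lib.Helper2.IsomDecomp Cfsg.Agent.Lib.Helper2.HermDecomp
  Cfsg.Agent.Lib.Helper2.HermFrames Cfsg.Agent.Lib.Helper5.PSLCoset
  Cfsg.Agent.Lib.Helper2.GUIsom Cfsg.Agent.H9SUMax Cfsg.Agent.H9SLMax Cfsg.Agent.H9SLSymp

variable {F : Type*} [Field F] [Fintype F] {n : ℕ} {σ : F ≃+* F}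
  {f : (Fin n → F) → (Fin n → F) → F}

/-- Key lemma: the functionals `f(·, y)`, `y ∈ P^⊥`, all belong to `funSet M v`. -/
theorem lemmaY (hσ : orderOf σ = 2) (h : IsHerm σ f) (hnd : ∀ v, (∀ w, f v w = 0) → v = 0)
    (M : Subgroup (GL (Fin n) F))
    (hNM : Cfsg.Geo.similarityGroup f ⊓ Cfsg.Geo.specialLinear (Fin n) F ≤ M)
    (P : Submodule F (Fin n → F)) (hPnd : ∀ u ∈ P, (∀ v ∈ P, f u v = 0) → u = 0)
    {v : Fin n → F} (hvP : v ∈ P) (hU4 : 4 ≤ finrank F (orthoCompl h P))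
    (φ' : (Fin n → F) →ₗ[F] F) (hφ' : ∀ d : F, σ d = -d → d • φ' ∈ funSet M v)
    {w : Fin n → F} (hwY : w ∈ orthoCompl h P) (hww : f w w = 0) (hφw : φ' w ≠ 0)
    {y : Fin n → F} (hy : y ∈ orthoCompl h P) : h.toDual y ∈ funSet M v := by
  have hσ2 := WittHerm.sigma_sigma hσ
  have hd := orthoDecomp hσ h P hPnd
  have hUnd := nondeg_orthoCompl h P hd hnd
  obtain ⟨e₀, he₀0, he₀⟩ := exists_skew hσ
  -- transvections with direction in `P^⊥` fix `v` and lie in `M`
  have hfix : ∀ (w' : Fin n → F) (hw'Y : w' ∈ orthoCompl h P) (hw' : f w' w' = 0) (d : F),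
      tv h w' d hw' v = v := by
    intro w' hw'Y hw' d
    rw [tv_apply, hw'Y v hvP, mul_zero, zero_smul, add_zero]
  have hmemM : ∀ (w' : Fin n → F) (hw' : f w' w' = 0) (d : F), σ d = -d →
      linToGL (tv h w' d hw') ∈ M := by
    intro w' hw' d hd
    exact hNM (linToGL_mem (tv_mem_isom h w' d hw' hd) (det_tv h w' d hw'))
  -- the additive subgroup
  let Z : AddSubgroup ↥(orthoCompl h P) :=
    { carrier := {y | h.toDual (y : Fin n → F) ∈ funSet M v}
      add_mem' := by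
        intro a b ha hb
        show h.toDual ((a + b : ↥(orthoCompl h P)) : Fin n → F) ∈ funSet M v
        rw [Submodule.coe_add, toDual_add]
        exact funSet_add M ha hb
      zero_mem' := by
        show h.toDual ((0 : ↥(orthoCompl h P)) : Fin n → F) ∈ funSet M v
        rw [Submodule.coe_zero, toDual_zero]
        exact zero_mem_funSet M v
      neg_mem' := by
        intro a ha
        show h.toDual ((-a : ↥(orthoCompl h P)) : Fin n → F) ∈ funSet M v
        rw [Submodule.coe_neg, toDual_neg]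
        exact funSet_neg M ha }
  have hZ : ∀ y : ↥(orthoCompl h P), y ∈ Z ↔ h.toDual (y : Fin n → F) ∈ funSet M v :=
    fun y => Iff.rfl
  have hinv : ∀ (w' : ↥(orthoCompl h P)) (d : F), res f (orthoCompl h P) w' w' = 0 → σ d = -d →
      ∀ z ∈ Z, z + (d * res f (orthoCompl h P) z w') • w' ∈ Z := by
    intro w' d hw' hd z hz
    rw [hZ] at hz ⊢
    have h1 := funSet_conj_fix h M (tv_mem_isom h (w' : Fin n → F) d hw' hd)
      (hmemM _ hw' d hd) (hfix _ w'.2 hw' d) hz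
    rw [tv_apply] at h1
    exact h1
  -- a nonzero element
  have hφ : e₀ • φ' ∈ funSet M v := hφ' e₀ he₀
  have hk := hmemM w hww e₀ he₀
  have hkv : ((linToGL (tv h w e₀ hww) : GL (Fin n) F) : Matrix (Fin n) (Fin n) F) *ᵥ v = v := by
    rw [linToGL_mulVec]
    exact hfix w hwY hww e₀
  have h1 := funSet_conj M hφ hk
  rw [hkv] at h1
  have h2 := funSet_sub M h1 hφ
  have h3 : (e₀ • φ').comp (Matrix.toLin'
      (((linToGL (tv h w e₀ hww))⁻¹ : GL (Fin n) F) : Matrix (Fin n) (Fin n) F)) - e₀ • φ' =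
      h.toDual (σ (-(e₀ * (e₀ * φ' w))) • w) := by
    apply LinearMap.ext
    intro x
    obtain ⟨y', hy'⟩ : ∃ y' : Fin n → F, y' =
        (((linToGL (tv h w e₀ hww))⁻¹ : GL (Fin n) F) : Matrix (Fin n) (Fin n) F) *ᵥ x := ⟨_, rfl⟩
    have hx : x = y' + (e₀ * f y' w) • w := by
      rw [← tv_apply h w e₀ hww, ← linToGL_mulVec, hy', mulVec_inv_mulVec]
    have hyw : f y' w = f x w := by
      have := tv_mem_isom h w e₀ hww he₀ y' w
      rw [tv_apply, tv_apply, hww, mul_zero, zero_smul, add_zero, ← hx] at this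
      exact this.symm
    rw [LinearMap.sub_apply, LinearMap.comp_apply, Matrix.toLin'_apply, ← hy', toDual_smul, hσ2,
      LinearMap.smul_apply, LinearMap.smul_apply, LinearMap.smul_apply, IsHerm.toDual_apply,
      ← hyw]
    conv_lhs => rw [hx]
    rw [map_add, map_smul]
    simp only [smul_eq_mul]
    ring
  rw [h3] at h2
  have hne : σ (-(e₀ * (e₀ * φ' w))) ≠ 0 := by
    apply (map_ne_zero_iff _ σ.injective).2
    exact neg_ne_zero.2 (mul_ne_zero he₀0 (mul_ne_zero he₀0 hφw))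
  have hw0 : w ≠ 0 := by
    intro h0
    rw [h0, map_zero] at hφw
    exact hφw rfl
  have hz₀ : (⟨σ (-(e₀ * (e₀ * φ' w))) • w, (orthoCompl h P).smul_mem _ hwY⟩ :
      ↥(orthoCompl h P)) ∈ Z := h2
  have hz₀0 : (⟨σ (-(e₀ * (e₀ * φ' w))) • w, (orthoCompl h P).smul_mem _ hwY⟩ :
      ↥(orthoCompl h P)) ≠ 0 := by
    intro h0
    have := congrArg Subtype.val h0
    exact smul_ne_zero hne hw0 this
  have := addSubgroup_eq_top (V := ↥(orthoCompl h P)) (H := res f (orthoCompl h P)) hσ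
    (isHerm_restrict h _) (nondeg_res hUnd) hU4 Z hinv hz₀ hz₀0 ⟨y, hy⟩
  exact this

end Cfsg.Agent.H9SLUnit
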