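import Mathlib
import Cfsg.Agent.Lib.Helper9.SLUnit3

set_option autoImplicit false

namespace Cfsg.Agent.H9SLUnit

open Module Matrix Cfsg.Agent.Lib.Helper2 Cfsg.Agent.Lib.Helper2.UT
  Cfsg.Agent.Lib.Helper2.IsomDecomp Cfsg.Agent.Lib.Helper2.HermDecomp
  Cfsg.Agent.Lib.Helper2.HermFrames Cfsg.Agent.Lib.Helper5.PSLCoset
  Cfsg.Agent.Lib.Helper2.GUIsom Cfsg.Agent.H9SUMax Cfsg.Agent.H9SLMax Cfsg.Agent.H9SLSymp

variable {F : Type*} [Field F] [Fintype F] {n : ℕ} {σ : F ≃+* F}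
  {f : (Fin n → F) → (Fin n → F) → F}

/-- a functional vanishing at the isotropic vectors of a nondegenerate subspace of dimension at
least two vanishes on it -/
theorem eq_zero_of_iso (hσ : orderOf σ = 2) (h : IsHerm σ f) (Y : Submodule F (Fin n → F))
    (hYnd : ∀ u ∈ Y, (∀ v ∈ Y, f u v = 0) → u = 0) (hY2 : 2 ≤ finrank F Y)
    (φ : (Fin n → F) →ₗ[F] F) (hφ : ∀ w ∈ Y, f w w = 0 → φ w = 0) {y : Fin n → F}
    (hy : y ∈ Y) : φ y = 0 := by
  obtain ⟨y₁, y₂, y₃, h1, h2, h3, hyd⟩ := exists_iso_decomp (V := ↥Y) (H := res f Y) hσ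
    (isHerm_restrict h _) (nondeg_res hYnd) hY2 ⟨y, hy⟩
  have hyd' : y = (y₁ : Fin n → F) + (y₂ : Fin n → F) + (y₃ : Fin n → F) :=
    congrArg Subtype.val hyd
  rw [hyd', map_add, map_add, hφ _ y₁.2 h1, hφ _ y₂.2 h2, hφ _ y₃.2 h3]
  ring

/-- Case (a): `v` is not isotropic. -/
theorem mem_dirSub_caseA (hσ : orderOf σ = 2) (h : IsHerm σ f)
    (hnd : ∀ v, (∀ w, f v w = 0) → v = 0) (hn : 5 ≤ n) (M : Subgroup (GL (Fin n) F))
    (hNM : Cfsg.Geo.similarityGroup f ⊓ Cfsg.Geo.specialLinear (Fin n) F ≤ M)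
    {v : Fin n → F} (hvv : f v v ≠ 0)
    (φ' : (Fin n → F) →ₗ[F] F) (hφ' : ∀ d : F, σ d = -d → d • φ' ∈ funSet M v)
    (hφv : φ' v = 0) (hφ0 : φ' ≠ 0) : v ∈ dirSub M := by
  have hv0 : v ≠ 0 := by
    intro h0
    rw [h0, h.zero_left] at hvv
    exact hvv rfl
  have hPnd := span_singleton_nondeg h v hvv
  have hvP : v ∈ Submodule.span F {v} := Submodule.mem_span_singleton_self v
  have hd := orthoDecomp hσ h _ hPnd
  have hUnd := nondeg_orthoCompl h _ hd hnd
  have hfr := finrank_orthoCompl hσ h hnd (Submodule.span F {v})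
  rw [finrank_span_singleton hv0, Module.finrank_fin_fun] at hfr
  have hU4 : 4 ≤ finrank F (orthoCompl h (Submodule.span F {v})) := by omega
  -- an isotropic vector of the complement on which `φ'` does not vanish
  obtain ⟨w, hwY, hww, hφw⟩ : ∃ w ∈ orthoCompl h (Submodule.span F {v}), f w w = 0 ∧
      φ' w ≠ 0 := by
    by_contra hcon
    push Not at hcon
    apply hφ0
    apply LinearMap.ext
    intro x
    obtain ⟨p, y, rfl⟩ := exists_decomp hd x
    obtain ⟨a, ha⟩ := Submodule.mem_span_singleton.1 p.2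
    rw [map_add, ← ha, map_smul, hφv, smul_zero, zero_add, LinearMap.zero_apply]
    exact eq_zero_of_iso hσ h _ hUnd (by omega) φ' hcon y.2
  apply mem_dirSub_of_funSet
  intro ψ hψ
  obtain ⟨z, hz⟩ := WittHerm.riesz hσ h hnd ψ
  have hzY : z ∈ orthoCompl h (Submodule.span F {v}) := by
    intro p hp
    obtain ⟨a, rfl⟩ := Submodule.mem_span_singleton.1 hp
    rw [h.smul_left, hz, hψ, mul_zero]
  have := lemmaY hσ h hnd M hNM _ hPnd hvP hU4 φ' hφ' hwY hww hφw hzY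
  have e : ψ = h.toDual z := by
    apply LinearMap.ext
    intro x
    rw [IsHerm.toDual_apply, hz]
  rw [e]
  exact this

/-- Case (b): `v` is isotropic. -/
theorem mem_dirSub_caseB (hσ : orderOf σ = 2) (h : IsHerm σ f)
    (hnd : ∀ v, (∀ w, f v w = 0) → v = 0) (hn : 6 ≤ n) (M : Subgroup (GL (Fin n) F))
    (hNM : Cfsg.Geo.similarityGroup f ⊓ Cfsg.Geo.specialLinear (Fin n) F ≤ M)
    {v : Fin n → F} (hv0 : v ≠ 0) (hvv : f v v = 0)
    (φ' : (Fin n → F) →ₗ[F] F) (hφ' : ∀ d : F, σ d = -d → d • φ' ∈ funSet M v)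
    (hφv : φ' v = 0) (hnp : ¬ ∃ c : F, φ' = c • h.toDual v) : v ∈ dirSub M := by
  have hσ2 := WittHerm.sigma_sigma hσ
  obtain ⟨v', hv'v', hvv'⟩ := exists_hyp_partner hσ h hnd v hv0 hvv
  have hp : HypPair f v v' := ⟨hvv, hv'v', hvv'⟩
  have hv'v := hp.vu h
  have huv0 : f v v' ≠ 0 := by rw [hvv']; exact one_ne_zero
  have hli : LinearIndependent F ![v, v'] := hp.linearIndependent h
  obtain ⟨P, hP⟩ : ∃ P : Submodule F (Fin n → F), P = Submodule.span F (Set.range ![v, v']) :=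
    ⟨_, rfl⟩
  have hvP : v ∈ P := by
    rw [hP]
    exact Submodule.subset_span ⟨0, rfl⟩
  have hv'P : v' ∈ P := by
    rw [hP]
    exact Submodule.subset_span ⟨1, rfl⟩
  have hfrP : finrank F P = 2 := by
    rw [hP, finrank_span_eq_card hli, Fintype.card_fin]
  have hPmem : ∀ x ∈ P, ∃ a b : F, x = a • v + b • v' := by
    intro x hx
    rw [hP, Submodule.mem_span_range_iff_exists_fun] at hx
    obtain ⟨c, rfl⟩ := hx
    rw [Fin.sum_univ_two]
    exact ⟨c 0, c 1, rfl⟩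
  have hPnd : ∀ x ∈ P, (∀ y ∈ P, f x y = 0) → x = 0 := by
    intro x hx hx'
    obtain ⟨a, b, rfl⟩ := hPmem x hx
    have := iso_pair_zero h hvv hv'v' huv0 a b (hx' v hvP) (hx' v' hv'P)
    rw [this.1, this.2]
    simp
  have hd := orthoDecomp hσ h P hPnd
  have hUnd := nondeg_orthoCompl h P hd hnd
  have hfr := finrank_orthoCompl hσ h hnd P
  rw [hfrP, Module.finrank_fin_fun] at hfr
  have hU4 : 4 ≤ finrank F (orthoCompl h P) := by omega
  have hYv : ∀ y ∈ orthoCompl h P, f y v = 0 := by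
    intro y hy
    rw [h.symm v y, hy v hvP, map_zero]
  -- an isotropic vector of the complement on which `φ'` does not vanish
  obtain ⟨w, hwY, hww, hφw⟩ : ∃ w ∈ orthoCompl h P, f w w = 0 ∧ φ' w ≠ 0 := by
    by_contra hcon
    push Not at hcon
    apply hnp
    refine ⟨φ' v', ?_⟩
    apply LinearMap.ext
    intro x
    obtain ⟨p, y, rfl⟩ := exists_decomp hd x
    obtain ⟨a, b, hab⟩ := hPmem p p.2
    rw [map_add, eq_zero_of_iso hσ h _ hUnd (by omega) φ' hcon y.2, add_zero, hab, map_add,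
      map_smul, map_smul, hφv, smul_zero, zero_add, LinearMap.smul_apply, IsHerm.toDual_apply,
      h.add_left, h.add_left, h.smul_left, h.smul_left, hvv, hv'v, hYv _ y.2]
    simp only [smul_eq_mul]
    ring
  have hY : ∀ y ∈ orthoCompl h P, h.toDual y ∈ funSet M v := fun y hy =>
    lemmaY hσ h hnd M hNM P hPnd hvP hU4 φ' hφ' hwY hww hφw hy
  -- the multiples of `f(·, v)`
  have hline : ∀ c : F, c • h.toDual v ∈ funSet M v := by
    intro c
    obtain ⟨y₁, hy₁⟩ : ∃ y₁ : ↥(orthoCompl h P), y₁ ≠ 0 := by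
      have : 0 < finrank F ↥(orthoCompl h P) := by omega
      exact Module.finrank_pos_iff_exists_ne_zero.1 this
    have hy₁0 : (y₁ : Fin n → F) ≠ 0 := fun h0 => hy₁ (Subtype.ext h0)
    obtain ⟨y₂, hy₂Y, hy₂⟩ : ∃ y₂ ∈ orthoCompl h P, f y₂ (y₁ : Fin n → F) ≠ 0 := by
      by_contra hcon
      push Not at hcon
      apply hy₁0
      apply hUnd _ y₁.2
      intro y' hy'
      rw [h.symm y' (y₁ : Fin n → F), hcon y' hy', map_zero]
    have hvy₁ : f v (y₁ : Fin n → F) = 0 := y₁.2 v hvP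
    have hy₁v : f (y₁ : Fin n → F) v = 0 := hYv _ y₁.2
    have hfix : σ (f (y₁ : Fin n → F) (y₁ : Fin n → F)) = f (y₁ : Fin n → F) (y₁ : Fin n → F) :=
      WittHerm.self_fixed h _
    obtain ⟨r, hr⟩ := WittHerm.exists_trace hσ _ hfix
    have hE := eich_mem_isom h v (y₁ : Fin n → F) r hvy₁ hy₁v hvv hr
    have hEM : linToGL (eich h v (y₁ : Fin n → F) r hvy₁ hy₁v hvv) ∈ M :=
      hNM (linToGL_mem hE (det_eich h _ _ _ hvy₁ hy₁v hvv))
    have hEv : eich h v (y₁ : Fin n → F) r hvy₁ hy₁v hvv v = v := by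
      rw [eich_apply h _ _ _ hvy₁ hy₁v hvv hr, hvv, hvy₁]
      simp
    obtain ⟨l, hl⟩ : ∃ l : F, l = -(σ c) / f y₂ (y₁ : Fin n → F) := ⟨_, rfl⟩
    have hly : l • y₂ ∈ orthoCompl h P := (orthoCompl h P).smul_mem _ hy₂Y
    have hE2 : eich h v (y₁ : Fin n → F) r hvy₁ hy₁v hvv (l • y₂) = l • y₂ + σ c • v := by
      rw [eich_apply h _ _ _ hvy₁ hy₁v hvv hr, hYv _ hly, zero_smul, mul_zero, add_zero, add_zero,
        h.smul_left, hl, div_mul_cancel₀ _ hy₂, sub_eq_add_neg, ← neg_smul, neg_neg]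
    have h1 := funSet_conj_fix h M hE hEM hEv (hY _ hly)
    rw [hE2, toDual_add, toDual_smul h (σ c) v, hσ2] at h1
    have h2 := funSet_sub M h1 (hY _ hly)
    rwa [add_sub_cancel_left] at h2
  apply mem_dirSub_of_funSet
  intro ψ hψ
  obtain ⟨z, hz⟩ := WittHerm.riesz hσ h hnd ψ
  obtain ⟨p, y, hpy⟩ := exists_decomp hd z
  obtain ⟨a, b, hab⟩ := hPmem p p.2
  have hb : b = 0 := by
    have h1 : f v z = 0 := by rw [hz, hψ]
    rw [hpy, hab, h.add_right, h.add_right, h.smul_right, h.smul_right, hvv, hvv', y.2 v hvP] at h1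
    have h2 : σ b = σ 0 := by
      rw [map_zero]
      linear_combination h1
    exact σ.injective h2
  have e : ψ = σ a • h.toDual v + h.toDual (y : Fin n → F) := by
    apply LinearMap.ext
    intro x
    rw [LinearMap.add_apply, LinearMap.smul_apply, IsHerm.toDual_apply, IsHerm.toDual_apply, ← hz,
      hpy, hab, hb, zero_smul, add_zero, h.add_right, h.smul_right, smul_eq_mul]
  rw [e]
  exact funSet_add M (hline _) (hY _ y.2)

end Cfsg.Agent.H9SLUnit
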