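import Mathlib
import Cfsg.Agent.Lib.Helper9.SLUnit4

set_option autoImplicit false

namespace Cfsg.Agent.H9SLUnit

open Module Matrix Cfsg.Agent.Lib.Helper2 Cfsg.Agent.Lib.Helper2.UT
  Cfsg.Agent.Lib.Helper2.IsomDecomp Cfsg.Agent.Lib.Helper2.HermDecomp
  Cfsg.Agent.Lib.Helper2.HermFrames Cfsg.Agent.Lib.Helper5.PSLCoset
  Cfsg.Agent.Lib.Helper2.GUIsom Cfsg.Agent.H9SUMax Cfsg.Agent.H9SLMax Cfsg.Agent.H9SLSymp

variable {F : Type*} [Field F] [Fintype F] {n : ℕ} {σ : F ≃+* F}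
  {f : (Fin n → F) → (Fin n → F) → F}

/-- from one nonzero direction to all directions -/
theorem dirSub_eq_top (hσ : orderOf σ = 2) (h : IsHerm σ f)
    (hnd : ∀ v, (∀ w, f v w = 0) → v = 0) (hn : 4 ≤ n) (M : Subgroup (GL (Fin n) F))
    (hNM : Cfsg.Geo.similarityGroup f ⊓ Cfsg.Geo.specialLinear (Fin n) F ≤ M)
    {v : Fin n → F} (hv0 : v ≠ 0) (hv : v ∈ dirSub M) : dirSub M = ⊤ := by
  have hdim : 4 ≤ finrank F (Fin n → F) := by rw [Module.finrank_fin_fun]; exact hn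
  have hT : ∀ t ∈ T h, ∀ u ∈ dirSub M, t u ∈ dirSub M := by
    intro t ht u hu
    have hM : linToGL t ∈ M := hNM (linToGL_mem (T_le_isom h ht) (det_of_mem_T h ht))
    have := dirSet_mulVec M hM hu
    rwa [linToGL_mulVec] at this
  -- a nonzero isotropic direction
  obtain ⟨u₀, hu₀0, hu₀u₀, hu₀⟩ : ∃ u₀ : Fin n → F, u₀ ≠ 0 ∧ f u₀ u₀ = 0 ∧ u₀ ∈ dirSub M := by
    by_cases hvv : f v v = 0
    · exact ⟨v, hv0, hvv, hv⟩
    · obtain ⟨e₁, f₁, e₂, f₂, hp, hq, h1, h2, h3, h4⟩ := exists_two_hypPairs hσ h hnd hdim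
      have hf₁e₁ := hp.vu h
      have h1' : f e₂ e₁ = 0 := by rw [h.symm e₁ e₂, h1, map_zero]
      have h3' : f e₂ f₁ = 0 := by rw [h.symm f₁ e₂, h3, map_zero]
      have hfix : σ (f v v) = f v v := WittHerm.self_fixed h v
      obtain ⟨s, hs⟩ := WittHerm.exists_trace hσ _ hfix
      have hx : f (e₁ + s • f₁) (e₁ + s • f₁) = f v v := by
        simp only [h.add_left, h.add_right, h.smul_left, h.smul_right, hp.uu, hp.vv, hp.uv, hf₁e₁]
        rw [← hs]
        ring
      have hx' : f (e₁ + s • f₁ + e₂) (e₁ + s • f₁ + e₂) = f v v := by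
        rw [← hx]
        simp only [h.add_left, h.add_right, h.smul_left, h.smul_right, hq.uu, h1, h1', h3, h3']
        ring
      have hx0 : e₁ + s • f₁ ≠ 0 := by
        intro h0
        rw [h0, h.zero_left] at hx
        exact hvv hx.symm
      have hx'0 : e₁ + s • f₁ + e₂ ≠ 0 := by
        intro h0
        rw [h0, h.zero_left] at hx'
        exact hvv hx'.symm
      obtain ⟨t₁, ht₁, ht₁v⟩ := exists_T_map_of_norm_eq hσ h hnd hdim hv0 hx0 hx.symm
      obtain ⟨t₂, ht₂, ht₂v⟩ := exists_T_map_of_norm_eq hσ h hnd hdim hv0 hx'0 hx'.symm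
      have m1 := hT t₁ ht₁ v hv
      have m2 := hT t₂ ht₂ v hv
      rw [ht₁v] at m1
      rw [ht₂v] at m2
      have m3 := (dirSub M).sub_mem m2 m1
      rw [add_sub_cancel_left] at m3
      refine ⟨e₂, ?_, hq.uu, m3⟩
      intro h0
      have := hq.uv
      rw [h0, h.zero_left] at this
      exact zero_ne_one this
  have hiso : ∀ u : Fin n → F, f u u = 0 → u ∈ dirSub M := by
    intro u hu
    by_cases hu0 : u = 0
    · rw [hu0]; exact (dirSub M).zero_mem
    · obtain ⟨t, ht, htu⟩ := exists_T_map_iso hσ h hnd (by omega) hu₀u₀ hu hu₀0 hu0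
      rw [← htu]
      exact hT t ht u₀ hu₀
  rw [eq_top_iff]
  intro x _
  obtain ⟨x₁, x₂, x₃, h1, h2, h3, hxd⟩ := exists_iso_decomp hσ h hnd (by omega) x
  rw [hxd]
  exact (dirSub M).add_mem ((dirSub M).add_mem (hiso _ h1) (hiso _ h2)) (hiso _ h3)

/-- **Main theorem**: an overgroup in `SL` of the unitary similarity group (intersected with
`SL`) containing a non-similarity is `SL`. -/
theorem eq_specialLinear_unitary (hn : 6 ≤ n) (hf : Cfsg.Geo.IsUnitaryForm σ f)
    (M : Subgroup (GL (Fin n) F))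
    (hNM : Cfsg.Geo.similarityGroup f ⊓ Cfsg.Geo.specialLinear (Fin n) F ≤ M)
    (hMS : M ≤ Cfsg.Geo.specialLinear (Fin n) F)
    (g : GL (Fin n) F) (hgM : g ∈ M) (hg : g ∉ Cfsg.Geo.similarityGroup f) :
    M = Cfsg.Geo.specialLinear (Fin n) F := by
  have hσ := orderOf_of_unitary hf
  have hσ2 := WittHerm.sigma_sigma hσ
  have h := isHerm_of_unitary hf
  have hnd := nondeg_of_unitary hf
  have hdimV : finrank F (Fin n → F) = n := Module.finrank_fin_fun F
  refine le_antisymm hMS ?_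
  apply specialLinear_le_of_dirSub_eq_top
  -- the transported form
  obtain ⟨f', hf'⟩ : ∃ f' : (Fin n → F) → (Fin n → F) → F, f' = fun x y =>
      f (((g⁻¹ : GL (Fin n) F) : Matrix (Fin n) (Fin n) F) *ᵥ x)
        (((g⁻¹ : GL (Fin n) F) : Matrix (Fin n) (Fin n) F) *ᵥ y) := ⟨_, rfl⟩
  have hf'app : ∀ x y, f' x y = f (((g⁻¹ : GL (Fin n) F) : Matrix (Fin n) (Fin n) F) *ᵥ x)
      (((g⁻¹ : GL (Fin n) F) : Matrix (Fin n) (Fin n) F) *ᵥ y) := by
    intro x y
    rw [hf']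
  have h' : IsHerm σ f' :=
    ⟨fun u v w => by rw [hf'app, hf'app, hf'app, Matrix.mulVec_add, h.add_left],
     fun a v w => by rw [hf'app, hf'app, Matrix.mulVec_smul, h.smul_left],
     fun v w => by rw [hf'app, hf'app, h.symm]⟩
  have hnd' : ∀ v, (∀ w, f' v w = 0) → v = 0 := by
    intro v hv
    have h1 : ((g⁻¹ : GL (Fin n) F) : Matrix (Fin n) (Fin n) F) *ᵥ v = 0 := by
      apply hnd
      intro w
      have := hv ((g : Matrix (Fin n) (Fin n) F) *ᵥ w)
      rwa [hf'app, inv_mulVec_mulVec] at this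
    have := mulVec_inv_mulVec g v
    rw [h1, Matrix.mulVec_zero] at this
    exact this.symm
  -- a vector isotropic for `f'` with non-proportional functionals
  obtain ⟨v, hv', hnp⟩ : ∃ v, f' v v = 0 ∧ ¬ ∃ c : F, ∀ x, f x v = c * f' x v := by
    by_contra hcon
    push Not at hcon
    obtain ⟨c, hc⟩ := proportional_of_iso hσ h h' hnd' (by omega) hcon
    have hc0 : c ≠ 0 := by
      intro h0
      have hv₀ : (Pi.single (⟨0, by omega⟩ : Fin n) 1 : Fin n → F) ≠ 0 := by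
        intro h1
        have := congrFun h1 ⟨0, by omega⟩
        rw [Pi.single_eq_same] at this
        exact one_ne_zero this
      apply hv₀
      apply hnd
      intro w
      rw [hc, h0, zero_mul]
    apply hg
    refine ⟨Units.mk0 c hc0, fun u w => ?_⟩
    rw [hc, hf'app, inv_mulVec_mulVec, inv_mulVec_mulVec]
    rfl
  have hv0 : v ≠ 0 := by
    intro h0
    apply hnp
    refine ⟨0, fun x => ?_⟩
    rw [h0, h.zero_right, zero_mul]
  obtain ⟨v₀, hv₀⟩ : ∃ v₀ : Fin n → F,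
      v₀ = ((g⁻¹ : GL (Fin n) F) : Matrix (Fin n) (Fin n) F) *ᵥ v := ⟨_, rfl⟩
  have hv₀v₀ : f v₀ v₀ = 0 := by rw [hv₀, ← hf'app]; exact hv'
  have hgv₀ : (g : Matrix (Fin n) (Fin n) F) *ᵥ v₀ = v := by rw [hv₀, mulVec_inv_mulVec]
  obtain ⟨φ', hφ'def⟩ : ∃ φ' : (Fin n → F) →ₗ[F] F, φ' = (h.toDual v₀).comp
      (Matrix.toLin' ((g⁻¹ : GL (Fin n) F) : Matrix (Fin n) (Fin n) F)) := ⟨_, rfl⟩
  have hφ'app : ∀ x, φ' x = f' x v := by
    intro x
    rw [hφ'def, LinearMap.comp_apply, Matrix.toLin'_apply, IsHerm.toDual_apply, hf'app, hv₀]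
  have hφ' : ∀ d : F, σ d = -d → d • φ' ∈ funSet M v := by
    intro d hd
    have h1 := funSet_conj M (smul_toDual_mem_funSet h M hNM v₀ hv₀v₀ d hd) hgM
    rwa [hgv₀, LinearMap.smul_comp, ← hφ'def] at h1
  have hφv : φ' v = 0 := by rw [hφ'app]; exact hv'
  have hφ0 : φ' ≠ 0 := by
    intro h0
    apply hv0
    apply hnd'
    intro w
    rw [h'.symm w v, ← hφ'app, h0, LinearMap.zero_apply, map_zero]
  have hv : v ∈ dirSub M := by
    by_cases hvv : f v v = 0
    · apply mem_dirSub_caseB hσ h hnd hn M hNM hv0 hvv φ' hφ' hφv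
      rintro ⟨c, hc⟩
      by_cases hc0 : c = 0
      · rw [hc0, zero_smul] at hc
        exact hφ0 hc
      · apply hnp
        refine ⟨c⁻¹, fun x => ?_⟩
        rw [← hφ'app, hc, LinearMap.smul_apply, IsHerm.toDual_apply, smul_eq_mul, ← mul_assoc,
          inv_mul_cancel₀ hc0, one_mul]
    · exact mem_dirSub_caseA hσ h hnd (by omega) M hNM hvv φ' hφ' hφv hφ0
  exact dirSub_eq_top hσ h hnd (by omega) M hNM hv0 hv

/-- an element of `SL` which is not a similarity -/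
theorem exists_not_similarity (hn : 2 ≤ n) (hf : Cfsg.Geo.IsUnitaryForm σ f) :
    ∃ g : GL (Fin n) F, g ∈ Cfsg.Geo.specialLinear (Fin n) F ∧
      g ∉ Cfsg.Geo.similarityGroup f := by
  have hσ := orderOf_of_unitary hf
  have h := isHerm_of_unitary hf
  have hnd := nondeg_of_unitary hf
  obtain ⟨v, v', hp⟩ := exists_hypPair hσ h hnd (by rw [Module.finrank_fin_fun]; exact hn)
  have hv'v := hp.vu h
  obtain ⟨a, ha⟩ := WittHerm.exists_trace hσ (1 : F) (map_one σ)
  refine ⟨linToGL (tv h v a hp.uu), ?_, ?_⟩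
  · rw [mem_specialLinear_iff, glLin_linToGL]
    exact det_tv h v a hp.uu
  · rintro ⟨c, hc⟩
    have h1 := hc v v'
    rw [linToGL_mulVec, linToGL_mulVec, tv_apply, tv_apply, hp.uu, mul_zero, zero_smul, add_zero,
      hv'v, mul_one, h.add_right, h.smul_right, hp.uu, mul_zero, add_zero, hp.uv, mul_one] at h1
    have h2 := hc v' v'
    rw [linToGL_mulVec, tv_apply, hv'v, mul_one, ← h1, one_mul, h.add_left, h.add_right,
      h.add_right, h.smul_left, h.smul_left, h.smul_right, h.smul_right, hp.uu, hp.vv, hp.uv,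
      hv'v] at h2
    have : a + σ a = 0 := by linear_combination h2
    rw [ha] at this
    exact one_ne_zero this

end Cfsg.Agent.H9SLUnit
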