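import Mathlib
import Cfsg.Prelude.Def_Transfer
import Cfsg.Agent.Lib.Helper7.Wielandt2

set_option autoImplicit false

/-!
# Subnormal pairs acting irreducibly on their commutator modules: basic lemmas
-/

namespace Cfsg.Agent.H9SP

open Cfsg Cfsg.Agent.Lib.Helper7
open scoped commutatorElement

variable {G : Type*} [Group G]

/-- `[A, B] ≤ A` when `B` normalizes `A`. -/
theorem comm_le_of_norm {A B : Subgroup G} (h : B ≤ Subgroup.normalizer (A : Set G)) :
    ⁅A, B⁆ ≤ A := by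
  rw [Subgroup.commutator_le]
  intro q hq s hs
  have h1 : s * q⁻¹ * s⁻¹ ∈ A := (Subgroup.mem_normalizer_iff.mp (h hs) q⁻¹).mp (A.inv_mem hq)
  have h2 : ⁅q, s⁆ = q * (s * q⁻¹ * s⁻¹) := by
    rw [commutatorElement_def]; group
  rw [h2]
  exact A.mul_mem hq h1

/-- a subgroup normalizing `A` and `B` normalizes `[A, B]`. -/
theorem norm_comm {A B K : Subgroup G} (hA : K ≤ Subgroup.normalizer (A : Set G))
    (hB : K ≤ Subgroup.normalizer (B : Set G)) :
    K ≤ Subgroup.normalizer ((⁅A, B⁆ : Subgroup G) : Set G) := by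
  intro g hg
  have h1 := hA hg
  have h2 := hB hg
  rw [Subgroup.mem_normalizer_iff_map_conj_eq] at h1 h2 ⊢
  rw [Subgroup.map_commutator, h1, h2]

/-- a subgroup normalizing `A` and `B` normalizes `A ⊓ B`. -/
theorem norm_inf {A B K : Subgroup G} (hA : K ≤ Subgroup.normalizer (A : Set G))
    (hB : K ≤ Subgroup.normalizer (B : Set G)) :
    K ≤ Subgroup.normalizer ((A ⊓ B : Subgroup G) : Set G) := by
  intro g hg
  have h1 := hA hg
  have h2 := hB hg
  rw [mem_normalizer_iff_cj] at h1 h2 ⊢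
  rw [cj_inf, h1, h2]

theorem cj_comm (g : G) (A B : Subgroup G) : cj g ⁅A, B⁆ = ⁅cj g A, cj g B⁆ :=
  Subgroup.map_commutator _ _ _

/-- `[V, gKg⁻¹] = g[V,K]g⁻¹` for `g` normalizing `V`. -/
theorem comm_cj_eq {V : Subgroup G} {g : G} (hg : g ∈ Subgroup.normalizer (V : Set G))
    (K : Subgroup G) : ⁅V, cj g K⁆ = cj g ⁅V, K⁆ := by
  rw [cj_comm, mem_normalizer_iff_cj.mp hg]

/-- irreducibility of `[V, K]` under `K`. -/
def Irr (V K : Subgroup G) : Prop :=
  ∀ U : Subgroup G, U ≤ ⁅V, K⁆ → K ≤ Subgroup.normalizer (U : Set G) → U = ⊥ ∨ U = ⁅V, K⁆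

/-- no nontrivial normal `p`-subgroup. -/
def NoP (p : ℕ) (K : Subgroup G) : Prop :=
  ∀ Q : Subgroup G, Q ≤ K → IsPGroup p Q → K ≤ Subgroup.normalizer (Q : Set G) → Q = ⊥

theorem irr_cj {V K : Subgroup G} (h : Irr V K) {g : G}
    (hg : g ∈ Subgroup.normalizer (V : Set G)) : Irr V (cj g K) := by
  intro U hU hN
  have hg' : g⁻¹ ∈ Subgroup.normalizer (V : Set G) := Subgroup.inv_mem _ hg
  have h1 : cj g⁻¹ U ≤ ⁅V, K⁆ := by
    have := cj_mono g⁻¹ hU
    rwa [comm_cj_eq hg, cj_inv_cj] at this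
  have h2 : K ≤ Subgroup.normalizer ((cj g⁻¹ U : Subgroup G) : Set G) := by
    rw [normalizer_cj]
    have := cj_mono g⁻¹ hN
    rwa [cj_inv_cj] at this
  rcases h _ h1 h2 with h3 | h3
  · left
    exact (cj_eq_bot_iff g⁻¹ U).mp h3
  · right
    rw [comm_cj_eq hg, ← h3, cj_cj_inv]

theorem noP_cj {p : ℕ} {K : Subgroup G} (h : NoP p K) (g : G) : NoP p (cj g K) := by
  intro Q hQ hQp hN
  have h1 : cj g⁻¹ Q ≤ K := by
    have := cj_mono g⁻¹ hQ
    rwa [cj_inv_cj] at this
  have h2 : K ≤ Subgroup.normalizer ((cj g⁻¹ Q : Subgroup G) : Set G) := by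
    rw [normalizer_cj]
    have := cj_mono g⁻¹ hN
    rwa [cj_inv_cj] at this
  have h3 : IsPGroup p (cj g⁻¹ Q) := hQp.map _
  exact (cj_eq_bot_iff g⁻¹ Q).mp (h _ h1 h3 h2)

/-- A group acting faithfully and quadratically on an elementary abelian `p`-group is a
`p`-group. -/
theorem isPGroup_of_quadratic {p : ℕ} {V A : Subgroup G} (hV : IsElementaryAbelian p V)
    (hAV : A ≤ Subgroup.normalizer (V : Set G))
    (hf : A ⊓ Subgroup.centralizer (V : Set G) = ⊥) (hq : ⁅⁅V, A⁆, A⁆ = ⊥) : IsPGroup p A := by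
  have hWV : ⁅V, A⁆ ≤ V := comm_le_of_norm hAV
  have hcen : ⁅V, A⁆ ≤ Subgroup.centralizer (A : Set G) :=
    Subgroup.commutator_eq_bot_iff_le_centralizer.mp hq
  rintro ⟨a, ha⟩
  refine ⟨1, ?_⟩
  apply Subtype.ext
  rw [pow_one]
  show a ^ p = 1
  have hmem : a ^ p ∈ A ⊓ Subgroup.centralizer (V : Set G) := by
    refine Subgroup.mem_inf.mpr ⟨A.pow_mem ha p, ?_⟩
    rw [Subgroup.mem_centralizer_iff]
    intro v hv
    -- w = [v⁻¹... ] choose w with a v a⁻¹ = w v
    set w : G := a * v * a⁻¹ * v⁻¹ with hw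
    have hwW : w ∈ ⁅V, A⁆ := by
      have h1 : ⁅v, a⁆ ∈ ⁅V, A⁆ := Subgroup.commutator_mem_commutator hv ha
      have h2 : w = (⁅v, a⁆)⁻¹ := by
        rw [hw, commutatorElement_def]; group
      rw [h2]
      exact Subgroup.inv_mem _ h1
    have hwa : a * w = w * a := Subgroup.mem_centralizer_iff.mp (hcen hwW) a ha
    have hav : a * v = w * v * a := by rw [hw]; group
    have hwk : ∀ k : ℕ, a * w ^ k = w ^ k * a := by
      intro k
      induction k with
      | zero => simp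
      | succ k ih =>
        rw [pow_succ, ← mul_assoc, ih, mul_assoc, hwa, ← mul_assoc]
    have key : ∀ k : ℕ, a ^ k * v = w ^ k * v * a ^ k := by
      intro k
      induction k with
      | zero => simp
      | succ k ih =>
        calc a ^ (k + 1) * v = a * (a ^ k * v) := by rw [pow_succ']; group
          _ = a * (w ^ k * v * a ^ k) := by rw [ih]
          _ = (a * w ^ k) * v * a ^ k := by group
          _ = w ^ k * (a * v) * a ^ k := by rw [hwk k]; group
          _ = w ^ k * (w * v * a) * a ^ k := by rw [hav]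
          _ = w ^ (k + 1) * v * a ^ (k + 1) := by rw [pow_succ, pow_succ]; group
    have hwp : w ^ p = 1 := hV.2 w (hWV hwW)
    have := key p
    rw [hwp, one_mul] at this
    exact this.symm
  rw [hf, Subgroup.mem_bot] at hmem
  exact hmem

end Cfsg.Agent.H9SP
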