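import Mathlib
import Cfsg.Agent.Lib.Helper9.SP1

set_option autoImplicit false

/-!
# Subnormal pairs: hypotheses, the normal case, and Fact A
-/

namespace Cfsg.Agent.H9SP

open Cfsg Cfsg.Agent.Lib.Helper7
open scoped commutatorElement

variable {G : Type*} [Group G]

/-- hypotheses of the subnormal pair theorem (intrinsic form). -/
structure Hyp (p : ℕ) (V E E₁ E₂ : Subgroup G) : Prop where
  hEV : E ≤ Subgroup.normalizer (V : Set G)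
  hf : E ⊓ Subgroup.centralizer (V : Set G) = ⊥
  hgen : E = E₁ ⊔ E₂
  hs₁ : SubnIn E₁ E
  hs₂ : SubnIn E₂ E
  hp₁ : NoP p E₁
  hp₂ : NoP p E₂
  hirr₁ : Irr V E₁
  hirr₂ : Irr V E₂
  h12 : ¬ ⁅V, E₁⁆ ≤ ⁅V, E₂⁆
  h21 : ¬ ⁅V, E₂⁆ ≤ ⁅V, E₁⁆
  hc₁ : 2 < Nat.card E₁
  hc₂ : 2 < Nat.card E₂

/-- the conclusion. -/
def Concl (V E₁ E₂ : Subgroup G) : Prop :=
  ⁅E₁, E₂⁆ = ⊥ ∧ E₁ ⊓ E₂ = ⊥ ∧ ⁅V, E₁⁆ ⊓ ⁅V, E₂⁆ = ⊥

theorem Concl.symm {V E₁ E₂ : Subgroup G} (h : Concl V E₁ E₂) : Concl V E₂ E₁ := by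
  obtain ⟨h1, h2, h3⟩ := h
  exact ⟨by rw [Subgroup.commutator_comm]; exact h1, by rw [inf_comm]; exact h2,
    by rw [inf_comm]; exact h3⟩

namespace Hyp

variable {p : ℕ} {V E E₁ E₂ : Subgroup G}

theorem symm (h : Hyp p V E E₁ E₂) : Hyp p V E E₂ E₁ :=
  ⟨h.hEV, h.hf, by rw [sup_comm]; exact h.hgen, h.hs₂, h.hs₁, h.hp₂, h.hp₁, h.hirr₂, h.hirr₁,
    h.h21, h.h12, h.hc₂, h.hc₁⟩

theorem le₁ (h : Hyp p V E E₁ E₂) : E₁ ≤ E := h.hs₁.le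
theorem le₂ (h : Hyp p V E E₁ E₂) : E₂ ≤ E := h.hs₂.le

theorem nV₁ (h : Hyp p V E E₁ E₂) : E₁ ≤ Subgroup.normalizer (V : Set G) := h.le₁.trans h.hEV

theorem W_le_V (h : Hyp p V E E₁ E₂) : ⁅V, E₁⁆ ≤ V := comm_le_of_norm h.nV₁

theorem normW₁ (h : Hyp p V E E₁ E₂) :
    E₁ ≤ Subgroup.normalizer ((⁅V, E₁⁆ : Subgroup G) : Set G) :=
  norm_comm h.nV₁ Subgroup.le_normalizer

theorem W_ne_bot (h : Hyp p V E E₁ E₂) : ⁅V, E₁⁆ ≠ ⊥ := by
  intro h0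
  apply h.h12
  rw [h0]
  exact bot_le

theorem ne₁ (h : Hyp p V E E₁ E₂) : E₁ ≠ E := by
  intro h0
  apply h.h21
  apply Subgroup.commutator_mono le_rfl
  rw [h0]
  exact h.le₂

end Hyp

/-- `[[V,K],K] = [V,K]` for an irreducible faithful `K` without normal `p`-subgroups. -/
theorem perf {p : ℕ} {V K : Subgroup G} (hV : IsElementaryAbelian p V)
    (hKV : K ≤ Subgroup.normalizer (V : Set G))
    (hf : K ⊓ Subgroup.centralizer (V : Set G) = ⊥) (hp : NoP p K) (hirr : Irr V K)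
    (hne : K ≠ ⊥) : ⁅⁅V, K⁆, K⁆ = ⁅V, K⁆ := by
  have hN : K ≤ Subgroup.normalizer ((⁅V, K⁆ : Subgroup G) : Set G) :=
    norm_comm hKV Subgroup.le_normalizer
  have h1 : ⁅⁅V, K⁆, K⁆ ≤ ⁅V, K⁆ := comm_le_of_norm hN
  have h2 : K ≤ Subgroup.normalizer ((⁅⁅V, K⁆, K⁆ : Subgroup G) : Set G) :=
    norm_comm hN Subgroup.le_normalizer
  rcases hirr _ h1 h2 with h3 | h3
  · exfalso
    have h4 : IsPGroup p K := isPGroup_of_quadratic hV hKV hf h3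
    exact hne (hp K le_rfl h4 Subgroup.le_normalizer)
  · exact h3

theorem ne_bot_of_card {K : Subgroup G} (h : 2 < Nat.card K) : K ≠ ⊥ := by
  intro h0
  rw [h0, Subgroup.card_bot] at h
  omega

/-- the normal case. -/
theorem finish {p : ℕ} {V E E₁ E₂ : Subgroup G} (h : Hyp p V E E₁ E₂)
    (hn1 : E₂ ≤ Subgroup.normalizer ((⁅V, E₁⁆ : Subgroup G) : Set G))
    (hn2 : E₁ ≤ Subgroup.normalizer ((⁅V, E₂⁆ : Subgroup G) : Set G)) : Concl V E₁ E₂ := by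
  have hW : ⁅V, E₁⁆ ⊓ ⁅V, E₂⁆ = ⊥ := by
    rcases h.hirr₁ _ inf_le_left (norm_inf h.normW₁ hn2) with h1 | h1
    · exact h1
    · exfalso
      apply h.h12
      rw [← h1]
      exact inf_le_right
  have c1 : ⁅⁅V, E₁⁆, E₂⁆ = ⊥ := by
    rw [eq_bot_iff, ← hW]
    exact le_inf (comm_le_of_norm hn1) (Subgroup.commutator_mono h.W_le_V le_rfl)
  have c2 : ⁅⁅V, E₂⁆, E₁⁆ = ⊥ := by
    rw [eq_bot_iff, ← hW]
    exact le_inf (Subgroup.commutator_mono h.symm.W_le_V le_rfl) (comm_le_of_norm hn2)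
  have c3 : ⁅⁅E₁, E₂⁆, V⁆ = ⊥ := by
    apply Subgroup.commutator_commutator_eq_bot_of_rotate
    · rw [Subgroup.commutator_comm E₂ V]; exact c2
    · exact c1
  have c4 : ⁅E₁, E₂⁆ ≤ E := by
    rw [Subgroup.commutator_le]
    intro a ha b hb
    rw [commutatorElement_def]
    exact E.mul_mem (E.mul_mem (E.mul_mem (h.le₁ ha) (h.le₂ hb)) (E.inv_mem (h.le₁ ha)))
      (E.inv_mem (h.le₂ hb))
  refine ⟨?_, ?_, hW⟩
  · rw [eq_bot_iff, ← h.hf]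
    exact le_inf c4 (Subgroup.commutator_eq_bot_iff_le_centralizer.mp c3)
  · have c5 : ⁅E₁ ⊓ E₂, V⁆ = ⊥ := by
      rw [Subgroup.commutator_comm, eq_bot_iff, ← hW]
      exact le_inf (Subgroup.commutator_mono le_rfl inf_le_left)
        (Subgroup.commutator_mono le_rfl inf_le_right)
    rw [eq_bot_iff, ← h.hf]
    exact le_inf (inf_le_left.trans h.le₁) (Subgroup.commutator_eq_bot_iff_le_centralizer.mp c5)

/-- the induction hypothesis. -/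
def IH (p : ℕ) (V : Subgroup G) (n : ℕ) : Prop :=
  ∀ E E₁ E₂ : Subgroup G, Nat.card E < n → Hyp p V E E₁ E₂ → Concl V E₁ E₂

/-- **Fact A**: two conjugates of `E₁` with different commutator modules centralize each
other's modules, and the modules meet trivially. -/
theorem factA [Finite G] {p : ℕ} {V E E₁ E₂ : Subgroup G} (h : Hyp p V E E₁ E₂)
    (ih : IH p V (Nat.card E)) {g k : G} (hg : g ∈ E) (hk : k ∈ E)
    (hne : cj g ⁅V, E₁⁆ ≠ cj k ⁅V, E₁⁆) :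
    ⁅cj g ⁅V, E₁⁆, cj k E₁⁆ = ⊥ ∧ cj g ⁅V, E₁⁆ ⊓ cj k ⁅V, E₁⁆ = ⊥ := by
  have hgV : g ∈ Subgroup.normalizer (V : Set G) := h.hEV hg
  have hkV : k ∈ Subgroup.normalizer (V : Set G) := h.hEV hk
  have hgE : cj g E₁ ≤ E := cj_le_of_mem hg h.le₁
  have hkE : cj k E₁ ≤ E := cj_le_of_mem hk h.le₁
  have hE'E : cj g E₁ ⊔ cj k E₁ ≤ E := sup_le hgE hkE
  obtain ⟨N, hE₁N, hNE, hEN, -⟩ := h.hs₁.exists_normal_lt h.ne₁
  have hcjN : ∀ x ∈ E, cj x E₁ ≤ N := by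
    intro x hx
    have := cj_mono x hE₁N
    rwa [mem_normalizer_iff_cj.mp (hEN hx)] at this
  have hcard : Nat.card (cj g E₁ ⊔ cj k E₁ : Subgroup G) < Nat.card E :=
    lt_of_le_of_lt (Subgroup.card_le_of_le (sup_le (hcjN g hg) (hcjN k hk))) (card_lt_of_lt hNE)
  have hsn : ∀ x ∈ E, cj x E₁ ≤ cj g E₁ ⊔ cj k E₁ → SubnIn (cj x E₁) (cj g E₁ ⊔ cj k E₁) := by
    intro x hx hle
    have h1 := h.hs₁.conj x
    rw [cj_eq_self_of_mem hx] at h1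
    exact h1.of_le hle hE'E
  have hW : ∀ x ∈ E, ⁅V, cj x E₁⁆ = cj x ⁅V, E₁⁆ := fun x hx => comm_cj_eq (h.hEV hx) E₁
  have hinc : ∀ x y : G, x ∈ E → y ∈ E → cj x ⁅V, E₁⁆ ≠ cj y ⁅V, E₁⁆ →
      ¬ ⁅V, cj x E₁⁆ ≤ ⁅V, cj y E₁⁆ := by
    intro x y hx hy hxy hle
    rw [hW x hx, hW y hy] at hle
    apply hxy
    apply Subgroup.eq_of_le_of_card_ge hle
    rw [card_cj, card_cj]
  have hyp' : Hyp p V (cj g E₁ ⊔ cj k E₁) (cj g E₁) (cj k E₁) :=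
    { hEV := hE'E.trans h.hEV
      hf := by
        rw [eq_bot_iff, ← h.hf]
        exact inf_le_inf_right _ hE'E
      hgen := rfl
      hs₁ := hsn g hg le_sup_left
      hs₂ := hsn k hk le_sup_right
      hp₁ := noP_cj h.hp₁ g
      hp₂ := noP_cj h.hp₁ k
      hirr₁ := irr_cj h.hirr₁ hgV
      hirr₂ := irr_cj h.hirr₁ hkV
      h12 := hinc g k hg hk hne
      h21 := hinc k g hk hg hne.symm
      hc₁ := by rw [card_cj]; exact h.hc₁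
      hc₂ := by rw [card_cj]; exact h.hc₁ }
  obtain ⟨c1, -, c3⟩ := ih _ _ _ hcard hyp'
  rw [hW g hg, hW k hk] at c3
  refine ⟨?_, c3⟩
  -- `cj k E₁` normalizes `cj g [V,E₁]`
  have h1 : cj k E₁ ≤ Subgroup.normalizer ((cj g E₁ : Subgroup G) : Set G) := by
    have : cj k E₁ ≤ Subgroup.centralizer ((cj g E₁ : Subgroup G) : Set G) := by
      rw [Subgroup.commutator_comm] at c1
      exact Subgroup.commutator_eq_bot_iff_le_centralizer.mp c1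
    exact this.trans (Subgroup.centralizer_le_normalizer _)
  have h2 : cj k E₁ ≤ Subgroup.normalizer ((cj g ⁅V, E₁⁆ : Subgroup G) : Set G) := by
    rw [← hW g hg]
    exact norm_comm (hkE.trans h.hEV) h1
  rw [eq_bot_iff, ← c3]
  refine le_inf (comm_le_of_norm h2) ?_
  rw [← hW k hk]
  apply Subgroup.commutator_mono _ le_rfl
  rw [← hW g hg]
  exact comm_le_of_norm (hgE.trans h.hEV)

end Cfsg.Agent.H9SP
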