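import Mathlib
import Cfsg.Agent.Lib.Helper9.SP2

set_option autoImplicit false

/-!
# Subnormal pairs: the non-normal case leads to a contradiction
-/

namespace Cfsg.Agent.H9SP

open Cfsg Cfsg.Agent.Lib.Helper7
open scoped commutatorElement

variable {G : Type*} [Group G] [Finite G]

section

variable {p : ℕ} {V E E₁ E₂ : Subgroup G}

/-- special cases of Fact A for `U = [V,E₁]` and a conjugate `xUx⁻¹ ≠ U`. -/
theorem factA_one (h : Hyp p V E E₁ E₂) (ih : IH p V (Nat.card E)) {x : G} (hx : x ∈ E)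
    (hne : cj x ⁅V, E₁⁆ ≠ ⁅V, E₁⁆) :
    ⁅⁅V, E₁⁆, cj x E₁⁆ = ⊥ ∧ ⁅cj x ⁅V, E₁⁆, E₁⁆ = ⊥ ∧ ⁅V, E₁⁆ ⊓ cj x ⁅V, E₁⁆ = ⊥ := by
  have h1 := factA h ih (E.one_mem) hx (by rw [cj_one]; exact hne.symm)
  have h2 := factA h ih hx (E.one_mem) (by rw [cj_one]; exact hne)
  rw [cj_one] at h1 h2
  exact ⟨h1.1, h2.1, h1.2⟩

theorem mem_cj_of_mem {x u : G} {U : Subgroup G} (hu : u ∈ U) : x * u * x⁻¹ ∈ cj x U := by
  rw [mem_cj]
  have : x⁻¹ * (x * u * x⁻¹) * x = u := by group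
  rw [this]; exact hu

/-- the map `u ↦ [u, x]` from `U` to `[V, E₂]` is injective. -/
theorem comm_inj (h : Hyp p V E E₁ E₂) (ih : IH p V (Nat.card E)) {x : G} (hx : x ∈ E₂)
    (hne : cj x ⁅V, E₁⁆ ≠ ⁅V, E₁⁆) {u u' : G} (hu : u ∈ ⁅V, E₁⁆) (hu' : u' ∈ ⁅V, E₁⁆)
    (he : ⁅u, x⁆ = ⁅u', x⁆) : u = u' := by
  obtain ⟨-, -, hi⟩ := factA_one h ih (h.le₂ hx) hne
  set t : G := u'⁻¹ * u with ht
  have htU : t ∈ ⁅V, E₁⁆ := Subgroup.mul_mem _ (Subgroup.inv_mem _ hu') hu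
  have h1 : x * t * x⁻¹ = t := by
    rw [commutatorElement_def, commutatorElement_def] at he
    have h2 : u * x * u⁻¹ = u' * x * u'⁻¹ := by
      have := congrArg (· * x) he
      simpa using this
    have h3 : x = t * x * t⁻¹ := by
      rw [ht]
      have : u'⁻¹ * (u * x * u⁻¹) * u' = x := by rw [h2]; group
      calc x = u'⁻¹ * (u * x * u⁻¹) * u' := this.symm
        _ = u'⁻¹ * u * x * (u'⁻¹ * u)⁻¹ := by group
    calc x * t * x⁻¹ = (t * x * t⁻¹) * t * x⁻¹ := by rw [← h3]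
      _ = t := by group
  have h4 : t ∈ cj x ⁅V, E₁⁆ := by
    rw [← h1]; exact mem_cj_of_mem htU
  have h5 : t ∈ ⁅V, E₁⁆ ⊓ cj x ⁅V, E₁⁆ := ⟨htU, h4⟩
  rw [hi, Subgroup.mem_bot] at h5
  rw [ht] at h5
  calc u = u' * (u'⁻¹ * u) := by group
    _ = u' := by rw [h5, mul_one]

theorem comm_eq_mul (u x : G) : ⁅u, x⁆ = u * (x * u⁻¹ * x⁻¹) := by
  rw [commutatorElement_def]; group

/-- first consequences of `x ∈ E₂` moving `U = [V,E₁]`. -/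
theorem step_ab (hV : IsElementaryAbelian p V) (h : Hyp p V E E₁ E₂)
    (ih : IH p V (Nat.card E)) {x : G} (hx : x ∈ E₂)
    (hne : cj x ⁅V, E₁⁆ ≠ ⁅V, E₁⁆) :
    Nat.card (⁅V, E₁⁆ : Subgroup G) ≤ Nat.card (⁅V, E₂⁆ : Subgroup G) ∧
      ∃ y ∈ E₁, cj y ⁅V, E₂⁆ ≠ ⁅V, E₂⁆ := by
  obtain ⟨-, hc, hi⟩ := factA_one h ih (h.le₂ hx) hne
  constructor
  · let f : (⁅V, E₁⁆ : Subgroup G) → (⁅V, E₂⁆ : Subgroup G) := fun u =>
      ⟨⁅(u : G), x⁆, Subgroup.commutator_mem_commutator (h.W_le_V u.2) hx⟩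
    apply Nat.card_le_card_of_injective f
    intro u u' he
    apply Subtype.ext
    exact comm_inj h ih hx hne u.2 u'.2 (congrArg Subtype.val he)
  · by_contra hcon
    push Not at hcon
    have hn2 : E₁ ≤ Subgroup.normalizer ((⁅V, E₂⁆ : Subgroup G) : Set G) := by
      intro y hy
      rw [mem_normalizer_iff_cj]
      exact hcon y hy
    apply h.h12
    have hperf : ⁅⁅V, E₁⁆, E₁⁆ = ⁅V, E₁⁆ :=
      perf hV h.nV₁ (by rw [eq_bot_iff, ← h.hf]; exact inf_le_inf_right _ h.le₁) h.hp₁ h.hirr₁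
        (ne_bot_of_card h.hc₁)
    rw [← hperf, Subgroup.commutator_le]
    intro u hu k hk
    have hd : ⁅u, x⁆ ∈ ⁅V, E₂⁆ := Subgroup.commutator_mem_commutator (h.W_le_V hu) hx
    have hdk : ⁅⁅u, x⁆, k⁆ ∈ ⁅V, E₂⁆ :=
      comm_le_of_norm hn2 (Subgroup.commutator_mem_commutator hd hk)
    have hcU : x * u⁻¹ * x⁻¹ ∈ cj x ⁅V, E₁⁆ := mem_cj_of_mem (Subgroup.inv_mem _ hu)
    have hck : k * (x * u⁻¹ * x⁻¹) = (x * u⁻¹ * x⁻¹) * k :=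
      Subgroup.mem_centralizer_iff.mp
        (Subgroup.commutator_eq_bot_iff_le_centralizer.mp hc hcU) k hk
    have heq : ⁅⁅u, x⁆, k⁆ = ⁅u, k⁆ := by
      rw [comm_eq_mul u x]
      set c : G := x * u⁻¹ * x⁻¹ with hcdef
      rw [commutatorElement_def, commutatorElement_def]
      calc u * c * k * (u * c)⁻¹ * k⁻¹ = u * (c * k) * c⁻¹ * u⁻¹ * k⁻¹ := by group
        _ = u * (k * c) * c⁻¹ * u⁻¹ * k⁻¹ := by rw [hck]
        _ = u * k * u⁻¹ * k⁻¹ := by group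
    rw [← heq]
    exact hdk

/-- surjectivity of `u ↦ [u,x]` when the orders agree. -/
theorem comm_surj (h : Hyp p V E E₁ E₂) (ih : IH p V (Nat.card E))
    (hcard : Nat.card (⁅V, E₂⁆ : Subgroup G) ≤ Nat.card (⁅V, E₁⁆ : Subgroup G))
    {x : G} (hx : x ∈ E₂) (hne : cj x ⁅V, E₁⁆ ≠ ⁅V, E₁⁆) {w : G} (hw : w ∈ ⁅V, E₂⁆) :
    ∃ u ∈ ⁅V, E₁⁆, w = u * (x * u⁻¹ * x⁻¹) := by
  let f : (⁅V, E₁⁆ : Subgroup G) → (⁅V, E₂⁆ : Subgroup G) := fun u =>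
    ⟨⁅(u : G), x⁆, Subgroup.commutator_mem_commutator (h.W_le_V u.2) hx⟩
  have hinj : Function.Injective f := by
    intro u u' he
    apply Subtype.ext
    exact comm_inj h ih hx hne u.2 u'.2 (congrArg Subtype.val he)
  obtain ⟨u, hu⟩ := (hinj.bijective_of_nat_card_le hcard).2 ⟨w, hw⟩
  refine ⟨u, u.2, ?_⟩
  have := congrArg Subtype.val hu
  rw [← comm_eq_mul]
  exact this.symm

end

end Cfsg.Agent.H9SP
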