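import Mathlib
import Cfsg.Agent.Lib.Helper9.SP3

set_option autoImplicit false

/-!
# Subnormal pairs: the contradiction and the main theorem
-/

namespace Cfsg.Agent.H9SP

open Cfsg Cfsg.Agent.Lib.Helper7
open scoped commutatorElement

variable {G : Type*} [Group G] [Finite G]

section

variable {p : ℕ} {V E E₁ E₂ : Subgroup G}

theorem conj_eq_one {x u : G} (h : x * u⁻¹ * x⁻¹ = 1) : u = 1 := by
  have : u⁻¹ = x⁻¹ * (x * u⁻¹ * x⁻¹) * x := by group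
  rw [h] at this
  simpa using this

/-- `[V,E₂]` meets `U` and `xUx⁻¹` trivially. -/
theorem W2_inf (h : Hyp p V E E₁ E₂) (ih : IH p V (Nat.card E))
    (hcard : Nat.card (⁅V, E₂⁆ : Subgroup G) ≤ Nat.card (⁅V, E₁⁆ : Subgroup G))
    {x : G} (hx : x ∈ E₂) (hne : cj x ⁅V, E₁⁆ ≠ ⁅V, E₁⁆) :
    ⁅V, E₂⁆ ⊓ ⁅V, E₁⁆ = ⊥ ∧ ⁅V, E₂⁆ ⊓ cj x ⁅V, E₁⁆ = ⊥ := by
  obtain ⟨-, -, hi⟩ := factA_one h ih (h.le₂ hx) hne
  constructor
  · rw [eq_bot_iff]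
    rintro w ⟨hw2, hw1⟩
    obtain ⟨u, hu, rfl⟩ := comm_surj h ih hcard hx hne hw2
    have hc : x * u⁻¹ * x⁻¹ ∈ ⁅V, E₁⁆ ⊓ cj x ⁅V, E₁⁆ := by
      refine ⟨?_, mem_cj_of_mem (Subgroup.inv_mem _ hu)⟩
      have : x * u⁻¹ * x⁻¹ = u⁻¹ * (u * (x * u⁻¹ * x⁻¹)) := by group
      rw [this]
      exact Subgroup.mul_mem _ (Subgroup.inv_mem _ hu) hw1
    rw [hi, Subgroup.mem_bot] at hc
    rw [Subgroup.mem_bot, hc, mul_one]
    exact conj_eq_one hc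
  · rw [eq_bot_iff]
    rintro w ⟨hw2, hw1⟩
    obtain ⟨u, hu, rfl⟩ := comm_surj h ih hcard hx hne hw2
    have hc : x * u⁻¹ * x⁻¹ ∈ cj x ⁅V, E₁⁆ := mem_cj_of_mem (Subgroup.inv_mem _ hu)
    have hu' : u ∈ ⁅V, E₁⁆ ⊓ cj x ⁅V, E₁⁆ := by
      refine ⟨hu, ?_⟩
      have : u = (u * (x * u⁻¹ * x⁻¹)) * (x * u⁻¹ * x⁻¹)⁻¹ := by group
      rw [this]
      exact Subgroup.mul_mem _ hw1 (Subgroup.inv_mem _ hc)
    rw [hi, Subgroup.mem_bot] at hu'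
    rw [Subgroup.mem_bot, hu']
    group

theorem le_normalizer_centralizer' (K : Subgroup G) :
    K ≤ Subgroup.normalizer ((Subgroup.centralizer (K : Set G) : Subgroup G) : Set G) := by
  intro k hk
  apply Subgroup.mem_normalizer_fintype
  intro n hn
  have : k * n = n * k := Subgroup.mem_centralizer_iff.mp hn k hk
  have h2 : k * n * k⁻¹ = n := by rw [this]; group
  rw [h2]
  exact hn

/-- two elements of `E₂` moving `U` move it to the same conjugate. -/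
theorem same_conj (hV : IsElementaryAbelian p V) (h : Hyp p V E E₁ E₂)
    (ih : IH p V (Nat.card E))
    (hcard : Nat.card (⁅V, E₂⁆ : Subgroup G) ≤ Nat.card (⁅V, E₁⁆ : Subgroup G))
    {x x' : G} (hx : x ∈ E₂) (hne : cj x ⁅V, E₁⁆ ≠ ⁅V, E₁⁆)
    (hx' : x' ∈ E₂) (hne' : cj x' ⁅V, E₁⁆ ≠ ⁅V, E₁⁆) :
    cj x ⁅V, E₁⁆ = cj x' ⁅V, E₁⁆ := by
  by_contra hxx
  apply h.symm.W_ne_bot
  rw [eq_bot_iff]
  intro w hw
  have hxE : x ∈ E := h.le₂ hx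
  have hxV : x ∈ Subgroup.normalizer (V : Set G) := h.hEV hxE
  obtain ⟨hcU, -, -⟩ := factA_one h ih hxE hne
  have hcU' := (factA h ih (h.le₂ hx') hxE (Ne.symm hxx)).1
  obtain ⟨u, hu, hwu⟩ := comm_surj h ih hcard hx hne hw
  obtain ⟨u', hu', hwu'⟩ := comm_surj h ih hcard hx' hne' hw
  have h1 : ⁅V, E₁⁆ ≤ Subgroup.centralizer ((cj x E₁ : Subgroup G) : Set G) :=
    Subgroup.commutator_eq_bot_iff_le_centralizer.mp hcU
  have h2 : cj x' ⁅V, E₁⁆ ≤ Subgroup.centralizer ((cj x E₁ : Subgroup G) : Set G) :=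
    Subgroup.commutator_eq_bot_iff_le_centralizer.mp hcU'
  set c : G := x * u⁻¹ * x⁻¹ with hc
  have hceq : c = u⁻¹ * (u' * (x' * u'⁻¹ * x'⁻¹)) := by
    rw [← hwu', hwu]; group
  have hcC : c ∈ Subgroup.centralizer ((cj x E₁ : Subgroup G) : Set G) := by
    rw [hceq]
    exact Subgroup.mul_mem _ (Subgroup.inv_mem _ (h1 hu))
      (Subgroup.mul_mem _ (h1 hu') (h2 (mem_cj_of_mem (Subgroup.inv_mem _ hu'))))
  have hcU1 : c ∈ cj x ⁅V, E₁⁆ := mem_cj_of_mem (Subgroup.inv_mem _ hu)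
  -- the fixed points of `cj x E₁` on `cj x U`
  have hK1V : cj x E₁ ≤ Subgroup.normalizer (V : Set G) :=
    (cj_le_of_mem hxE h.le₁).trans h.hEV
  have hW : ⁅V, cj x E₁⁆ = cj x ⁅V, E₁⁆ := comm_cj_eq hxV E₁
  have hirr := irr_cj h.hirr₁ hxV
  have hZle : cj x ⁅V, E₁⁆ ⊓ Subgroup.centralizer ((cj x E₁ : Subgroup G) : Set G) ≤
      ⁅V, cj x E₁⁆ := by rw [hW]; exact inf_le_left
  have hZn : cj x E₁ ≤ Subgroup.normalizer
      ((cj x ⁅V, E₁⁆ ⊓ Subgroup.centralizer ((cj x E₁ : Subgroup G) : Set G) : Subgroup G) :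
        Set G) := by
    apply norm_inf
    · rw [← hW]; exact norm_comm hK1V Subgroup.le_normalizer
    · exact le_normalizer_centralizer' _
  have hf1 : cj x E₁ ⊓ Subgroup.centralizer (V : Set G) = ⊥ := by
    rw [eq_bot_iff, ← h.hf]
    exact inf_le_inf_right _ (cj_le_of_mem hxE h.le₁)
  have hne1 : cj x E₁ ≠ ⊥ := by
    apply ne_bot_of_card
    rw [card_cj]; exact h.hc₁
  have hperf := perf hV hK1V hf1 (noP_cj h.hp₁ x) hirr hne1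
  rcases hirr _ hZle hZn with h3 | h3
  · have : c ∈ cj x ⁅V, E₁⁆ ⊓ Subgroup.centralizer ((cj x E₁ : Subgroup G) : Set G) :=
      ⟨hcU1, hcC⟩
    rw [h3, Subgroup.mem_bot] at this
    have hu1 : u = 1 := conj_eq_one (hc ▸ this)
    rw [Subgroup.mem_bot, hwu, this, hu1, mul_one]
  · exfalso
    have h4 : ⁅V, cj x E₁⁆ ≤ Subgroup.centralizer ((cj x E₁ : Subgroup G) : Set G) := by
      rw [← h3]; exact inf_le_right
    have h5 : ⁅⁅V, cj x E₁⁆, cj x E₁⁆ = ⊥ :=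
      Subgroup.commutator_eq_bot_iff_le_centralizer.mpr h4
    rw [hperf, hW] at h5
    exact h.W_ne_bot ((cj_eq_bot_iff x _).mp h5)

end

end Cfsg.Agent.H9SP
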