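import Mathlib
import Cfsg.Agent.Lib.Helper9.SP4P12
import Cfsg.Agent.S0245
import Cfsg.Agent.S0246

set_option autoImplicit false

/-!
# Presentations of `Sp₄(q)` and `PSp₄(q)`: the final assembly
-/

namespace Cfsg.Agent.Lib.Helper9.SP4P

open Matrix Polynomial Cfsg.Agent.Lib.Helper9.SLP

/-- the first three generators -/
def emb1 : Fin 3 → Fin 6 := ![0, 1, 2]

/-- the last three generators -/
def emb2 : Fin 3 → Fin 6 := ![3, 4, 5]

/-- the relator list -/
noncomputable def relList {p : ℕ} (L₃ : List (FreeGroup (Fin 3))) (gz : (ZMod p)[X]) :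
    List (FreeGroup (Fin 6)) :=
  L₃.map (FreeGroup.map emb1) ++ L₃.map (FreeGroup.map emb2) ++
    cross gz (FreeGroup.of 0) (FreeGroup.of 1) (FreeGroup.of 2) (FreeGroup.of 3)
      (FreeGroup.of 4) (FreeGroup.of 5)

theorem relList_length {p : ℕ} (L₃ : List (FreeGroup (Fin 3))) (gz : (ZMod p)[X]) :
    (relList L₃ gz).length = L₃.length + L₃.length + 11 := by
  rw [relList, List.length_append, List.length_append, List.length_map, List.length_map,
    cross_length]

/-- passing to a quotient by a subgroup of order at most two generated by a relator -/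
theorem exists_mulEquiv_quot {ι : Type*} [DecidableEq ι] (L : List (FreeGroup ι))
    (r₀ : FreeGroup ι) {H : Type*} [Group H] (f₀ : ι → H)
    (hrel : ∀ r ∈ L, FreeGroup.lift f₀ r = 1)
    (σ : PresentedGroup (↑L.toFinset : Set (FreeGroup ι)) ≃* H)
    (hσ : ∀ i, σ (PresentedGroup.of i) = f₀ i)
    (Z : Subgroup H) [Z.Normal] (hr₀ : FreeGroup.lift f₀ r₀ ∈ Z)
    (hZ : ∀ z ∈ Z, z = 1 ∨ z = FreeGroup.lift f₀ r₀) :
    Nonempty (PresentedGroup (↑(L ++ [r₀]).toFinset : Set (FreeGroup ι)) ≃* H ⧸ Z) := by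
  have hρrel : ∀ r ∈ (↑L.toFinset : Set (FreeGroup ι)), FreeGroup.lift
      (PresentedGroup.of (rels := (↑(L ++ [r₀]).toFinset : Set (FreeGroup ι)))) r = 1 := by
    intro r hr
    exact rels_hold' (L ++ [r₀]) r
      (List.mem_append_left _ (List.mem_toFinset.mp (Finset.mem_coe.mp hr)))
  let ρ := PresentedGroup.toGroup hρrel
  have hρof : ∀ i, ρ (PresentedGroup.of i) = PresentedGroup.of i :=
    fun i => PresentedGroup.toGroup.of hρrel
  have hπrel : ∀ r ∈ (↑(L ++ [r₀]).toFinset : Set (FreeGroup ι)),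
      FreeGroup.lift ((QuotientGroup.mk' Z) ∘ f₀) r = 1 := by
    intro r hr
    rw [lift_comp_eq']
    rcases List.mem_append.mp (List.mem_toFinset.mp (Finset.mem_coe.mp hr)) with h | h
    · rw [hrel r h, map_one]
    · rw [List.mem_singleton] at h
      subst h
      exact (QuotientGroup.eq_one_iff _).mpr hr₀
  let π' := PresentedGroup.toGroup hπrel
  have hπof : ∀ i, π' (PresentedGroup.of i) = QuotientGroup.mk' Z (f₀ i) :=
    fun i => PresentedGroup.toGroup.of hπrel
  have hcomp : π'.comp ρ = (QuotientGroup.mk' Z).comp σ.toMonoidHom := by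
    apply PresentedGroup.ext
    intro i
    rw [MonoidHom.comp_apply, MonoidHom.comp_apply, hρof, hπof]
    congr 1
    exact (hσ i).symm
  have hcomp' : ∀ x, π' (ρ x) = QuotientGroup.mk' Z (σ x) := by
    intro x
    have := DFunLike.congr_fun hcomp x
    exact this
  have hρsurj : Function.Surjective ρ := by
    rw [← MonoidHom.range_eq_top, eq_top_iff, ← PresentedGroup.closure_range_of,
      Subgroup.closure_le]
    rintro _ ⟨i, rfl⟩
    exact ⟨PresentedGroup.of i, hρof i⟩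
  have hσlift : ∀ r : FreeGroup ι, σ (FreeGroup.lift PresentedGroup.of r) =
      FreeGroup.lift f₀ r := by
    intro r
    have : f₀ = σ.toMonoidHom ∘ PresentedGroup.of := by
      funext i; exact (hσ i).symm
    rw [this, lift_comp_eq']
    rfl
  have hρlift : ∀ r : FreeGroup ι, ρ (FreeGroup.lift PresentedGroup.of r) =
      FreeGroup.lift PresentedGroup.of r := by
    intro r
    have : (PresentedGroup.of (rels := (↑(L ++ [r₀]).toFinset : Set (FreeGroup ι)))) =
        ρ ∘ PresentedGroup.of := by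
      funext i; exact (hρof i).symm
    conv_rhs => rw [this, lift_comp_eq']
  have hinj : Function.Injective π' := by
    rw [injective_iff_map_eq_one]
    intro x' hx'
    obtain ⟨x, rfl⟩ := hρsurj x'
    rw [hcomp'] at hx'
    have hmem : σ x ∈ Z := (QuotientGroup.eq_one_iff _).mp hx'
    rcases hZ _ hmem with h | h
    · have : x = 1 := by
        apply σ.injective
        rw [h, map_one]
      rw [this, map_one]
    · have : x = FreeGroup.lift PresentedGroup.of r₀ := by
        apply σ.injective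
        rw [h, hσlift]
      rw [this, hρlift]
      exact rels_hold' (L ++ [r₀]) r₀ (List.mem_append_right _ (List.mem_singleton.mpr rfl))
  have hsurj : Function.Surjective π' := by
    intro y
    obtain ⟨h, rfl⟩ := QuotientGroup.mk'_surjective Z y
    obtain ⟨x, rfl⟩ := σ.surjective h
    exact ⟨ρ x, hcomp' x⟩
  exact ⟨MulEquiv.ofBijective π' ⟨hinj, hsurj⟩⟩

variable {F : Type*} [Field F] [Fintype F]

/-- the six generators of `Sp₄` -/
def gens6 (ζ : Fˣ) : Fin 6 → symplecticGroup (Fin 2) F :=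
  ![aHom (mU (1 : F)), aHom mT, aHom (mH ζ), bHom (mU (1 : F)), bHom mT, bHom (mH ζ)]

theorem range_eq_six {G : Type*} (f : Fin 6 → G) :
    Set.range f = {f 0, f 1, f 2, f 3, f 4, f 5} := by
  ext x
  constructor
  · rintro ⟨i, rfl⟩
    fin_cases i <;> simp
  · intro hx
    simp only [Set.mem_insert_iff, Set.mem_singleton_iff] at hx
    rcases hx with rfl | rfl | rfl | rfl | rfl | rfl <;> exact Set.mem_range_self _

theorem bound_of_list (p : ℕ) [Fact p.Prime] [CharP F p] (ζ : Fˣ)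
    (hgen : ∀ x : Fˣ, x ∈ Subgroup.zpowers ζ)
    (m fz fz' gz : (ZMod p)[X]) (L₃ : List (FreeGroup (Fin 3)))
    (hker : ∀ f, evl p ((ζ : F) ^ 2) f = 0 → m ∣ f)
    (hfz : evl p ((ζ : F) ^ 2) fz = ζ) (hfz' : evl p ((ζ : F) ^ 2) fz' = -((ζ⁻¹ : Fˣ) : F))
    (hgz : evl p ((ζ : F) ^ 2) gz = ((ζ⁻¹ : Fˣ) : F))
    (P1 : ∀ (G : Type) [Group G] (f : Fin 3 → G), (∀ r ∈ L₃, FreeGroup.lift f r = 1) →
        RelsHold p m fz fz' (f 0) (f 1) (f 2))
    (G : Type) [Group G] (f : Fin 6 → G) (hf : ∀ r ∈ relList L₃ gz, FreeGroup.lift f r = 1)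
    (hgenG : Subgroup.closure (Set.range f) = ⊤) :
    Finite G ∧ Nat.card G ≤
      Fintype.card F ^ 4 * ((Fintype.card F ^ 2 - 1) * (Fintype.card F ^ 4 - 1)) := by
  have hsurj := evl_surjective p ζ hgen
  have hR1 : RelsHold p m fz fz' (f 0) (f 1) (f 2) := by
    have := P1 G (f ∘ emb1) (fun r hr => by
      rw [← lift_map_eq]
      apply hf
      rw [relList]
      exact List.mem_append_left _ (List.mem_append_left _ (List.mem_map.mpr ⟨r, hr, rfl⟩)))
    exact this
  have hR2 : RelsHold p m fz fz' (f 3) (f 4) (f 5) := by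
    have := P1 G (f ∘ emb2) (fun r hr => by
      rw [← lift_map_eq]
      apply hf
      rw [relList]
      exact List.mem_append_left _ (List.mem_append_right _ (List.mem_map.mpr ⟨r, hr, rfl⟩)))
    exact this
  have hcross : ∀ r ∈ cross gz (f 0) (f 1) (f 2) (f 3) (f 4) (f 5), r = 1 := by
    refine (forall_lift_iff' f (cross gz (FreeGroup.of 0) (FreeGroup.of 1) (FreeGroup.of 2)
      (FreeGroup.of 3) (FreeGroup.of 4) (FreeGroup.of 5)) _ ?_).mp ?_
    · rw [map_cross]; simp
    · intro r hr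
      apply hf
      rw [relList]
      exact List.mem_append_right _ hr
  have hfz'' : evl p ((ζ : F) ^ 2) fz' = -(ζ : F)⁻¹ := by
    rw [hfz', Units.val_inv_eq_inv_val]
  have hgz' : evl p ((ζ : F) ^ 2) gz = (ζ : F)⁻¹ := by
    rw [hgz, Units.val_inv_eq_inv_val]
  rw [range_eq_six] at hgenG
  exact card_bound_of_rels p (evl p ((ζ : F) ^ 2)) hsurj m hker (ζ : F) ζ.ne_zero
    (gen_pow ζ hgen) (evl_X p _) fz fz' gz hfz hfz'' hgz' (spans_of_surj p (ζ : F) hsurj)
    (f 0) (f 1) (f 2) (f 3) (f 4) (f 5) hR1 hR2 hcross hgenG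

theorem rels_gens6 (p : ℕ) [Fact p.Prime] [CharP F p] (ζ : Fˣ)
    (gz : (ZMod p)[X]) (L₃ : List (FreeGroup (Fin 3)))
    (hgz : evl p ((ζ : F) ^ 2) gz = ((ζ⁻¹ : Fˣ) : F))
    (P2 : ∀ r ∈ L₃, FreeGroup.lift (![mU (1 : F), mT, mH ζ] :
        Fin 3 → SpecialLinearGroup (Fin 2) F) r = 1) :
    ∀ r ∈ relList L₃ gz, FreeGroup.lift (gens6 ζ) r = 1 := by
  intro r hr
  rw [relList, List.mem_append, List.mem_append] at hr
  rcases hr with (hr | hr) | hr
  · obtain ⟨s, hs, rfl⟩ := List.mem_map.mp hr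
    rw [lift_map_eq]
    have : gens6 ζ ∘ emb1 = aHom ∘ (![mU (1 : F), mT, mH ζ] :
        Fin 3 → SpecialLinearGroup (Fin 2) F) := by
      funext i; fin_cases i <;> rfl
    rw [this, lift_comp_eq', P2 s hs, map_one]
  · obtain ⟨s, hs, rfl⟩ := List.mem_map.mp hr
    rw [lift_map_eq]
    have : gens6 ζ ∘ emb2 = bHom ∘ (![mU (1 : F), mT, mH ζ] :
        Fin 3 → SpecialLinearGroup (Fin 2) F) := by
      funext i; fin_cases i <;> rfl
    rw [this, lift_comp_eq', P2 s hs, map_one]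
  · refine (forall_lift_iff' (gens6 ζ) _ (cross gz (aHom (mU (1 : F))) (aHom mT) (aHom (mH ζ))
      (bHom (mU (1 : F))) (bHom mT) (bHom (mH ζ))) ?_).mpr (cross_mat p ζ gz hgz) r hr
    rw [map_cross]
    simp [gens6]

theorem card_sp4 : Nat.card (symplecticGroup (Fin 2) F) =
    Fintype.card F ^ 4 * ((Fintype.card F ^ 2 - 1) * (Fintype.card F ^ 4 - 1)) := by
  have := Cfsg.Agent.S0245.result (F := F) rfl 2
  rw [this]
  norm_num [Finset.prod_range_succ]

theorem bT_sq : (bHom (mT : SpecialLinearGroup (Fin 2) F) * bHom mT :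
    symplecticGroup (Fin 2) F) = Cfsg.Agent.S0246.negOne 2 F := by
  apply Subtype.ext
  show bMat ((mT : SpecialLinearGroup (Fin 2) F) : Matrix (Fin 2) (Fin 2) F) *
    bMat ((mT : SpecialLinearGroup (Fin 2) F) : Matrix (Fin 2) (Fin 2) F) = -1
  ext (i | i) (j | j) <;> fin_cases i <;> fin_cases j <;>
    simp [bMat, mT_coe, Matrix.mul_apply, Fintype.sum_sum_type, Fin.sum_univ_two]

theorem sp4_main : ∃ L : List (FreeGroup (Fin 6)), L.length ≤ 27 ∧
    Nonempty (PresentedGroup (↑L.toFinset : Set (FreeGroup (Fin 6))) ≃*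
      symplecticGroup (Fin 2) F) ∧
    Nonempty (PresentedGroup
      (↑(L ++ [FreeGroup.of 4 * FreeGroup.of 4]).toFinset : Set (FreeGroup (Fin 6))) ≃*
      Cfsg.PSp 2 F) := by
  obtain ⟨p, hp⟩ := CharP.exists F
  haveI := hp
  haveI : Fact p.Prime := ⟨CharP.char_is_prime F p⟩
  obtain ⟨ζ, hgen⟩ := IsCyclic.exists_generator (α := Fˣ)
  obtain ⟨m, fz, fz', L₃, hlen, hker, hfz, hfz', P1, P2⟩ := exists_sl2_rels p ζ hgen
  have hsurj := evl_surjective p ζ hgen
  obtain ⟨gz, hgz⟩ := hsurj ((ζ⁻¹ : Fˣ) : F)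
  have hrel := rels_gens6 p ζ gz L₃ hgz P2
  have hb := bound_of_list p ζ hgen m fz fz' gz L₃ hker hfz hfz' hgz P1
    (PresentedGroup (↑(relList L₃ gz).toFinset : Set (FreeGroup (Fin 6)))) PresentedGroup.of
    (rels_hold' _) (PresentedGroup.closure_range_of _)
  obtain ⟨σ, hσ⟩ := exists_mulEquiv_of_bound (relList L₃ gz) (gens6 ζ) hrel
    (closure_gens6 p ζ hsurj) hb.1 (by rw [card_sp4]; exact hb.2)
  refine ⟨relList L₃ gz, ?_, ⟨σ⟩, ?_⟩
  · rw [relList_length]; omega
  · have e : FreeGroup.lift (gens6 ζ) (FreeGroup.of 4 * FreeGroup.of 4) =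
        Cfsg.Agent.S0246.negOne 2 F := by
      rw [map_mul, FreeGroup.lift_apply_of]
      exact bT_sq
    apply exists_mulEquiv_quot (relList L₃ gz) (FreeGroup.of 4 * FreeGroup.of 4) (gens6 ζ) hrel
      σ hσ (Subgroup.center _)
    · rw [e]; exact Cfsg.Agent.S0246.negOne_mem_center
    · intro z hz
      rw [e]
      exact (Cfsg.Agent.S0246.mem_center_iff (by norm_num) z).mp hz

end Cfsg.Agent.Lib.Helper9.SP4P
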