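import Mathlib
import Cfsg.Agent.Lib.Helper9.SP4

set_option autoImplicit false

/-!
# Subnormal pairs: the final contradiction and the main theorem
-/

namespace Cfsg.Agent.H9SP

open Cfsg Cfsg.Agent.Lib.Helper7
open scoped commutatorElement

variable {G : Type*} [Group G] [Finite G]

section

variable {p : ℕ} {V E E₁ E₂ : Subgroup G}

theorem comm_of_mem_inf_bot {A B : Subgroup G} (hAB : A ⊓ B = ⊥) {u z : G}
    (h1 : ⁅u, z⁆ ∈ A) (h2 : ⁅u, z⁆ ∈ B) : u * z = z * u := by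
  have : ⁅u, z⁆ ∈ A ⊓ B := ⟨h1, h2⟩
  rw [hAB, Subgroup.mem_bot] at this
  exact commutatorElement_eq_one_iff_mul_comm.mp this

theorem comm_mem_of_norm {A : Subgroup G} {u z : G} (hu : u ∈ A)
    (hz : z ∈ Subgroup.normalizer (A : Set G)) : ⁅u, z⁆ ∈ A := by
  rw [comm_eq_mul]
  exact A.mul_mem hu ((Subgroup.mem_normalizer_iff.mp hz u⁻¹).mp (A.inv_mem hu))

/-- the non-normal case is contradictory. -/
theorem contra (hV : IsElementaryAbelian p V) (h : Hyp p V E E₁ E₂)
    (ih : IH p V (Nat.card E))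
    (hcard : Nat.card (⁅V, E₂⁆ : Subgroup G) ≤ Nat.card (⁅V, E₁⁆ : Subgroup G))
    {x : G} (hx : x ∈ E₂) (hne : cj x ⁅V, E₁⁆ ≠ ⁅V, E₁⁆) : False := by
  have hxE : x ∈ E := h.le₂ hx
  have hxV : x ∈ Subgroup.normalizer (V : Set G) := h.hEV hxE
  obtain ⟨hi1, hi2⟩ := W2_inf h ih hcard hx hne
  have hU1V : cj x ⁅V, E₁⁆ ≤ V := by
    have := cj_mono x h.W_le_V
    rwa [mem_normalizer_iff_cj.mp hxV] at this
  -- elements of `E₂` not normalizing `U` all move it to `cj x U`
  have hsame : ∀ y ∈ E₂, y ∉ Subgroup.normalizer ((⁅V, E₁⁆ : Subgroup G) : Set G) →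
      cj y ⁅V, E₁⁆ = cj x ⁅V, E₁⁆ := by
    intro y hy hyn
    rw [mem_normalizer_iff_cj] at hyn
    exact same_conj hV h ih hcard hy hyn hx hne
  set E0 : Subgroup G := E₂ ⊓ Subgroup.normalizer ((⁅V, E₁⁆ : Subgroup G) : Set G) with hE0
  -- `E0` normalizes `cj x U`
  have hE0n : ∀ z ∈ E0, z ∈ Subgroup.normalizer ((cj x ⁅V, E₁⁆ : Subgroup G) : Set G) := by
    intro z hz
    have hzx : z * x ∈ E₂ := E₂.mul_mem hz.1 hx
    have hzxn : z * x ∉ Subgroup.normalizer ((⁅V, E₁⁆ : Subgroup G) : Set G) := by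
      intro hcon
      apply hne
      have : x = z⁻¹ * (z * x) := by group
      rw [← mem_normalizer_iff_cj, this]
      exact Subgroup.mul_mem _ (Subgroup.inv_mem _ hz.2) hcon
    have := hsame _ hzx hzxn
    rw [cj_mul] at this
    exact mem_normalizer_iff_cj.mpr this
  -- `E0` centralizes `[V, E₂]`
  have hE0c : ⁅V, E₂⁆ ≤ Subgroup.centralizer ((E0 : Subgroup G) : Set G) := by
    intro w hw
    rw [Subgroup.mem_centralizer_iff]
    intro z hz
    obtain ⟨u, hu, rfl⟩ := comm_surj h ih hcard hx hne hw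
    have hc : x * u⁻¹ * x⁻¹ ∈ cj x ⁅V, E₁⁆ := mem_cj_of_mem (Subgroup.inv_mem _ hu)
    have h1 : u * z = z * u := by
      apply comm_of_mem_inf_bot hi1
      · exact Subgroup.commutator_mem_commutator (h.W_le_V hu) hz.1
      · exact comm_mem_of_norm hu hz.2
    have h2 : (x * u⁻¹ * x⁻¹) * z = z * (x * u⁻¹ * x⁻¹) := by
      apply comm_of_mem_inf_bot hi2
      · exact Subgroup.commutator_mem_commutator (hU1V hc) hz.1
      · exact comm_mem_of_norm hc (hE0n z hz)
    calc z * (u * (x * u⁻¹ * x⁻¹)) = (z * u) * (x * u⁻¹ * x⁻¹) := by group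
      _ = (u * z) * (x * u⁻¹ * x⁻¹) := by rw [h1]
      _ = u * (z * (x * u⁻¹ * x⁻¹)) := by group
      _ = u * ((x * u⁻¹ * x⁻¹) * z) := by rw [h2]
      _ = u * (x * u⁻¹ * x⁻¹) * z := by group
  have hE0E : E0 ≤ E := inf_le_left.trans h.le₂
  -- `E0` is a `p`-group
  have hE0p : IsPGroup p E0 := by
    apply isPGroup_of_quadratic hV (hE0E.trans h.hEV)
    · rw [eq_bot_iff, ← h.hf]
      exact inf_le_inf_right _ hE0E
    · rw [eq_bot_iff]
      have h1 : ⁅⁅V, E0⁆, E0⁆ ≤ ⁅⁅V, E₂⁆, E0⁆ :=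
        Subgroup.commutator_mono (Subgroup.commutator_mono le_rfl inf_le_left) le_rfl
      exact h1.trans (le_of_eq (Subgroup.commutator_eq_bot_iff_le_centralizer.mpr hE0c))
  -- `E0` is normal in `E₂`
  have hE0norm : E₂ ≤ Subgroup.normalizer ((E0 : Subgroup G) : Set G) := by
    intro y hy
    apply Subgroup.mem_normalizer_fintype
    intro z hz
    have hz' : z ∈ E0 := hz
    refine Subgroup.mem_inf.mpr ⟨E₂.mul_mem (E₂.mul_mem hy hz'.1) (E₂.inv_mem hy), ?_⟩
    by_cases hyn : y ∈ Subgroup.normalizer ((⁅V, E₁⁆ : Subgroup G) : Set G)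
    · exact Subgroup.mul_mem _ (Subgroup.mul_mem _ hyn hz.2) (Subgroup.inv_mem _ hyn)
    · have hyi : y⁻¹ ∉ Subgroup.normalizer ((⁅V, E₁⁆ : Subgroup G) : Set G) := by
        intro hcon
        apply hyn
        have := Subgroup.inv_mem _ hcon
        rwa [inv_inv] at this
      have hzy : z * y⁻¹ ∉ Subgroup.normalizer ((⁅V, E₁⁆ : Subgroup G) : Set G) := by
        intro hcon
        apply hyi
        have : y⁻¹ = z⁻¹ * (z * y⁻¹) := by group
        rw [this]
        exact Subgroup.mul_mem _ (Subgroup.inv_mem _ hz.2) hcon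
      have e1 := hsame _ (E₂.inv_mem hy) hyi
      have e2 := hsame _ (E₂.mul_mem hz.1 (E₂.inv_mem hy)) hzy
      rw [mem_normalizer_iff_cj]
      have : y * z * y⁻¹ = y * (z * y⁻¹) := by group
      rw [this, cj_mul, e2, ← e1, cj_cj_inv]
  have hE0bot : E0 = ⊥ := h.hp₂ E0 inf_le_left hE0p hE0norm
  -- hence `E₂ ⊆ {1, x}`
  have hsub : (E₂ : Set G) ⊆ {1, x} := by
    intro a ha
    by_cases ha1 : a = 1
    · left; exact ha1
    · right
      have han : a ∉ Subgroup.normalizer ((⁅V, E₁⁆ : Subgroup G) : Set G) := by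
        intro hcon
        have : a ∈ E0 := ⟨ha, hcon⟩
        rw [hE0bot, Subgroup.mem_bot] at this
        exact ha1 this
      have e1 := hsame a ha han
      have hmem : x⁻¹ * a ∈ E0 := by
        refine Subgroup.mem_inf.mpr ⟨E₂.mul_mem (E₂.inv_mem hx) ha, ?_⟩
        rw [mem_normalizer_iff_cj, cj_mul, e1, cj_inv_cj]
      rw [hE0bot, Subgroup.mem_bot] at hmem
      show a = x
      calc a = x * (x⁻¹ * a) := by group
        _ = x := by rw [hmem, mul_one]
  have hc2 : (E₂ : Set G).ncard ≤ 2 := by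
    refine (Set.ncard_le_ncard hsub (Set.toFinite _)).trans ?_
    exact (Set.ncard_insert_le _ _).trans (by simp)
  have hc3 : Nat.card E₂ = (E₂ : Set G).ncard := Nat.card_coe_set_eq (E₂ : Set G)
  have := h.hc₂
  omega

end

/-- **Main theorem** (intrinsic form). -/
theorem main {p : ℕ} {V : Subgroup G} (hV : IsElementaryAbelian p V) :
    ∀ n : ℕ, ∀ E E₁ E₂ : Subgroup G, Nat.card E = n → Hyp p V E E₁ E₂ → Concl V E₁ E₂ := by
  intro n
  induction n using Nat.strong_induction_on with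
  | _ n ihn =>
    intro E E₁ E₂ hn h
    have ih : IH p V (Nat.card E) := by
      intro E' E₁' E₂' hlt h'
      exact ihn (Nat.card E') (hn ▸ hlt) E' E₁' E₂' rfl h'
    by_cases hn1 : E₂ ≤ Subgroup.normalizer ((⁅V, E₁⁆ : Subgroup G) : Set G)
    · by_cases hn2 : E₁ ≤ Subgroup.normalizer ((⁅V, E₂⁆ : Subgroup G) : Set G)
      · exact finish h hn1 hn2
      · exfalso
        obtain ⟨y, hy, hyn⟩ := SetLike.not_le_iff_exists.mp hn2
        rw [mem_normalizer_iff_cj] at hyn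
        obtain ⟨-, x, hx, hxn⟩ := step_ab hV h.symm ih hy hyn
        apply hxn
        exact mem_normalizer_iff_cj.mp (hn1 hx)
    · exfalso
      obtain ⟨x, hx, hxn⟩ := SetLike.not_le_iff_exists.mp hn1
      rw [mem_normalizer_iff_cj] at hxn
      obtain ⟨hc1, y, hy, hyn⟩ := step_ab hV h ih hx hxn
      obtain ⟨hc2, -⟩ := step_ab hV h.symm ih hy hyn
      exact contra hV h ih hc2 hx hxn

end Cfsg.Agent.H9SP
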