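import Mathlib
import Cfsg.Agent.Lib.Helper9.SUMax3

set_option autoImplicit false

/-!
Decompositions of a Hermitian space over the field with four elements into nondegenerate
planes: the stabiliser of such a decomposition in the special unitary group is not maximal
(it preserves the finer decomposition into the non-isotropic points of the planes).
-/

namespace Cfsg.Agent.H9SUMax

open Module Cfsg.Agent.Lib.Helper2 Cfsg.Agent.Lib.Helper2.UT Cfsg.Agent.Lib.Helper2.IsomDecomp
  Cfsg.Agent.Lib.Helper2.HermDecomp Cfsg.Agent.Lib.Helper2.HermFrames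
  Cfsg.Agent.Lib.Helper5.PSLCoset

universe u v

variable {F : Type v} [Field F] {σ : F ≃+* F} {V : Type u} [AddCommGroup V] [Module F V]
  {H : V → V → F}

/-- the setwise stabiliser of a set of vectors -/
def setStab (S : Set V) : Subgroup (V ≃ₗ[F] V) where
  carrier := {g | ∀ v, v ∈ S ↔ g v ∈ S}
  one_mem' := fun _ => Iff.rfl
  mul_mem' := by
    intro a b ha hb v
    rw [LinearEquiv.mul_apply]
    exact (hb v).trans (ha _)
  inv_mem' := by
    intro a ha v
    have := ha (a⁻¹ v)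
    have e : a (a⁻¹ v) = v := by
      rw [← LinearEquiv.mul_apply, mul_inv_cancel]; rfl
    rw [e] at this
    exact this.symm

theorem mem_setStab (S : Set V) (g : V ≃ₗ[F] V) : g ∈ setStab S ↔ ∀ v, v ∈ S ↔ g v ∈ S :=
  Iff.rfl

section F4

variable [Fintype F]

theorem two_eq_zero_of_card (hF : Fintype.card F = 4) : (1 : F) + 1 = 0 := by
  have h1 : ((Fintype.card F : ℕ) : F) = 0 := FiniteField.cast_card_eq_zero F
  rw [hF] at h1
  have h2 : ((1 : F) + 1) * (1 + 1) = 0 := by
    have : ((4 : ℕ) : F) = (1 + 1) * (1 + 1) := by push_cast; ring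
    rw [← this]; exact h1
  rcases mul_eq_zero.1 h2 with h3 | h3 <;> exact h3

theorem norm_eq_one_of_card (hF : Fintype.card F = 4) (hσq : ∀ a : F, σ a = a ^ 2) {x : F}
    (hx : x ≠ 0) : x * σ x = 1 := by
  have := FiniteField.pow_card_sub_one_eq_one x hx
  rw [hF] at this
  rw [hσq, ← this]
  ring

variable [FiniteDimensional F V]

/-- structure of a nondegenerate plane over the field with four elements -/
theorem plane_structure (hF : Fintype.card F = 4) (hσ : orderOf σ = 2)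
    (hσq : ∀ a : F, σ a = a ^ 2) (h : IsHerm σ H) (X : Submodule F V)
    (hX : ∀ u ∈ X, (∀ v ∈ X, H u v = 0) → u = 0) (hfr : finrank F X = 2) :
    ∃ a a' : V, a ∈ X ∧ a' ∈ X ∧ H a a = 1 ∧ H a' a' = 1 ∧ H a a' = 0 ∧
      ∀ v ∈ X, H v v ≠ 0 → (∃ l : F, v = l • a) ∨ (∃ l : F, v = l • a') := by
  have h2 := two_eq_zero_of_card hF
  obtain ⟨b, hb⟩ := exists_onb (V := ↥X) (H := res H X) hσ (isHerm_restrict h X)
    (nondeg_res hX) hfr
  have h00 : H (b 0 : V) (b 0 : V) = 1 := by simpa using hb 0 0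
  have h11 : H (b 1 : V) (b 1 : V) = 1 := by simpa using hb 1 1
  have h01 : H (b 0 : V) (b 1 : V) = 0 := by simpa using hb 0 1
  have h10 : H (b 1 : V) (b 0 : V) = 0 := by simpa using hb 1 0
  refine ⟨b 0, b 1, (b 0).2, (b 1).2, h00, h11, h01, ?_⟩
  intro v hv hvv
  have hrep : (⟨v, hv⟩ : X) = b.repr ⟨v, hv⟩ 0 • b 0 + b.repr ⟨v, hv⟩ 1 • b 1 := by
    have := b.sum_repr ⟨v, hv⟩
    rw [Fin.sum_univ_two] at this
    exact this.symm
  have hrep' : v = b.repr ⟨v, hv⟩ 0 • (b 0 : V) + b.repr ⟨v, hv⟩ 1 • (b 1 : V) :=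
    congrArg Subtype.val hrep
  obtain ⟨x, hx⟩ : ∃ x : F, x = b.repr ⟨v, hv⟩ 0 := ⟨_, rfl⟩
  obtain ⟨y, hy⟩ : ∃ y : F, y = b.repr ⟨v, hv⟩ 1 := ⟨_, rfl⟩
  rw [← hx, ← hy] at hrep'
  by_cases hx0 : x = 0
  · right
    refine ⟨y, ?_⟩
    rw [hrep', hx0, zero_smul, zero_add]
  · by_cases hy0 : y = 0
    · left
      refine ⟨x, ?_⟩
      rw [hrep', hy0, zero_smul, add_zero]
    · exfalso
      apply hvv
      rw [hrep']
      simp only [h.add_left, h.add_right, h.smul_left, h.smul_right, h00, h11, h01, h10]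
      have e1 := norm_eq_one_of_card hF hσq hx0
      have e2 := norm_eq_one_of_card hF hσq hy0
      linear_combination e1 + e2 + h2

end F4

end Cfsg.Agent.H9SUMax
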