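import Mathlib
import Cfsg.Agent.Lib.Helper9.SUDec1

set_option autoImplicit false

namespace Cfsg.Agent.H9SUMax

open Module Cfsg.Agent.Lib.Helper2 Cfsg.Agent.Lib.Helper2.UT Cfsg.Agent.Lib.Helper2.IsomDecomp
  Cfsg.Agent.Lib.Helper2.HermDecomp Cfsg.Agent.Lib.Helper2.HermFrames
  Cfsg.Agent.Lib.Helper5.PSLCoset

universe u v

variable {F : Type v} [Field F] {σ : F ≃+* F} {V : Type u} [AddCommGroup V] [Module F V]
  {H : V → V → F}

/-- the non-isotropic vectors lying in some member of the decomposition -/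
def anisoSet (H : V → V → F) {t : ℕ} (D : Fin t → Submodule F V) : Set V :=
  {v | ∃ i, v ∈ D i ∧ H v v ≠ 0}

/-- an isometry permuting the members of the decomposition preserves `anisoSet` -/
theorem mem_setStab_of_perm {t : ℕ} (D : Fin t → Submodule F V) {g : V ≃ₗ[F] V}
    (hg : g ∈ isom H)
    (hP : ∃ π : Equiv.Perm (Fin t), ∀ i, (D i).map (g : V →ₗ[F] V) = D (π i)) :
    g ∈ setStab (anisoSet H D) := by
  obtain ⟨π, hπ⟩ := hP
  intro v
  constructor
  · rintro ⟨i, hvi, hvv⟩
    refine ⟨π i, ?_, ?_⟩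
    · rw [← hπ i]
      exact Submodule.mem_map_of_mem hvi
    · rw [hg]; exact hvv
  · rintro ⟨j, hvj, hvv⟩
    refine ⟨π.symm j, ?_, ?_⟩
    · have h1 : g v ∈ (D (π.symm j)).map (g : V →ₗ[F] V) := by
        rw [hπ, Equiv.apply_symm_apply]; exact hvj
      obtain ⟨v', hv', hv'v⟩ := h1
      have : v' = v := g.injective hv'v
      rwa [← this]
    · rw [hg] at hvv; exact hvv

section F4

variable [Fintype F] [FiniteDimensional F V]

/-- **Non-maximality** (abstract version) -/
theorem dec22_between (hF : Fintype.card F = 4) (hσ : orderOf σ = 2)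
    (hσq : ∀ a : F, σ a = a ^ 2) (h : IsHerm σ H) {t : ℕ} (D : Fin t → Submodule F V)
    (htwo : 2 ≤ t) (hfr : ∀ i, finrank F (D i) = 2)
    (hDnd : ∀ i, ∀ u ∈ D i, (∀ v ∈ D i, H u v = 0) → u = 0)
    (hort : ∀ i j, i ≠ j → ∀ u ∈ D i, ∀ v ∈ D j, H u v = 0) :
    (∃ g : V ≃ₗ[F] V, g ∈ isom H ∧ LinearEquiv.det g = 1 ∧ g ∈ setStab (anisoSet H D) ∧
      ¬ ∃ π : Equiv.Perm (Fin t), ∀ i, (D i).map (g : V →ₗ[F] V) = D (π i)) ∧
    (∃ g : V ≃ₗ[F] V, g ∈ isom H ∧ LinearEquiv.det g = 1 ∧ g ∉ setStab (anisoSet H D)) := by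
  have h2 := two_eq_zero_of_card hF
  have hneg : (-1 : F) = 1 := by linear_combination -h2
  have hc1 : σ (1 : F) = -1 := by rw [map_one, hneg]
  have hdouble : ∀ x : V, x + x = 0 := by
    intro x
    have : x + x = ((1 : F) + 1) • x := by rw [add_smul, one_smul]
    rw [this, h2, zero_smul]
  obtain ⟨i0, i1, h01⟩ : ∃ i0 i1 : Fin t, i0 ≠ i1 :=
    ⟨⟨0, by omega⟩, ⟨1, by omega⟩, by intro h; simpa using congrArg Fin.val h⟩
  obtain ⟨a, a', haD, ha'D, haa, ha'a', haa', hastr⟩ :=
    plane_structure hF hσ hσq h (D i0) (hDnd i0) (hfr i0)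
  obtain ⟨b, b', hbD, hb'D, hbb, hb'b', hbb', hbstr⟩ :=
    plane_structure hF hσ hσq h (D i1) (hDnd i1) (hfr i1)
  have ha'a : H a' a = 0 := by rw [h.symm a a', haa', map_zero]
  have hb'b : H b' b = 0 := by rw [h.symm b b', hbb', map_zero]
  have hab : H a b = 0 := hort i0 i1 h01 a haD b hbD
  have hab' : H a b' = 0 := hort i0 i1 h01 a haD b' hb'D
  have ha'b : H a' b = 0 := hort i0 i1 h01 a' ha'D b hbD
  have ha'b' : H a' b' = 0 := hort i0 i1 h01 a' ha'D b' hb'D
  have hba : H b a = 0 := hort i1 i0 h01.symm b hbD a haD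
  have hba' : H b a' = 0 := hort i1 i0 h01.symm b hbD a' ha'D
  have hb'a : H b' a = 0 := hort i1 i0 h01.symm b' hb'D a haD
  have hb'a' : H b' a' = 0 := hort i1 i0 h01.symm b' hb'D a' ha'D
  constructor
  · -- the transvection swapping `a` and `b`
    have hu : H (a + b) (a + b) = 0 := by
      rw [h.add_left, h.add_right, h.add_right, haa, hab, hba, hbb]
      linear_combination h2
    have hta : tv h (a + b) 1 hu a = b := by
      rw [tv_apply, h.add_right, haa, hab, add_zero, mul_one, one_smul, ← add_assoc, hdouble,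
        zero_add]
    have htb : tv h (a + b) 1 hu b = a := by
      rw [tv_apply, h.add_right, hba, hbb, zero_add, mul_one, one_smul, add_comm a b,
        ← add_assoc, hdouble, zero_add]
    have hta' : tv h (a + b) 1 hu a' = a' := by
      rw [tv_apply, h.add_right, ha'a, ha'b, add_zero, mul_zero, zero_smul, add_zero]
    have htb' : tv h (a + b) 1 hu b' = b' := by
      rw [tv_apply, h.add_right, hb'a, hb'b, add_zero, mul_zero, zero_smul, add_zero]
    have hinv : ∀ v, tv h (a + b) 1 hu (tv h (a + b) 1 hu v) = v := by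
      intro v
      rw [tv_apply, tv_apply, h.add_left, h.smul_left, hu, mul_zero, add_zero, add_assoc,
        hdouble, add_zero]
    have hisom := tv_mem_isom h (a + b) 1 hu hc1
    have hfwd : ∀ v ∈ anisoSet H D, tv h (a + b) 1 hu v ∈ anisoSet H D := by
      rintro v ⟨i, hvi, hvv⟩
      have hnorm : H (tv h (a + b) 1 hu v) (tv h (a + b) 1 hu v) ≠ 0 := by
        rw [hisom]; exact hvv
      by_cases hi0 : i = i0
      · rw [hi0] at hvi
        rcases hastr v hvi hvv with ⟨l, rfl⟩ | ⟨l, rfl⟩
        · refine ⟨i1, ?_, hnorm⟩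
          rw [map_smul, hta]
          exact (D i1).smul_mem _ hbD
        · refine ⟨i0, ?_, hnorm⟩
          rw [map_smul, hta']
          exact (D i0).smul_mem _ ha'D
      · by_cases hi1 : i = i1
        · rw [hi1] at hvi
          rcases hbstr v hvi hvv with ⟨l, rfl⟩ | ⟨l, rfl⟩
          · refine ⟨i0, ?_, hnorm⟩
            rw [map_smul, htb]
            exact (D i0).smul_mem _ haD
          · refine ⟨i1, ?_, hnorm⟩
            rw [map_smul, htb']
            exact (D i1).smul_mem _ hb'D
        · have e1 : tv h (a + b) 1 hu v = v := by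
            rw [tv_apply, h.add_right, hort i i0 hi0 v hvi a haD, hort i i1 hi1 v hvi b hbD,
              add_zero, mul_zero, zero_smul, add_zero]
          rw [e1]
          exact ⟨i, hvi, hvv⟩
    refine ⟨tv h (a + b) 1 hu, hisom, det_tv h _ _ _, ?_, ?_⟩
    · intro v
      constructor
      · exact hfwd v
      · intro hv
        have := hfwd _ hv
        rwa [hinv] at this
    · rintro ⟨π, hπ⟩
      have h1 : b ∈ D (π i0) := by
        rw [← hπ i0]
        have := Submodule.mem_map_of_mem (f := (tv h (a + b) 1 hu : V →ₗ[F] V)) haD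
        rw [LinearEquiv.coe_coe, hta] at this
        exact this
      have h3 : a' ∈ D (π i0) := by
        rw [← hπ i0]
        have := Submodule.mem_map_of_mem (f := (tv h (a + b) 1 hu : V →ₗ[F] V)) ha'D
        rw [LinearEquiv.coe_coe, hta'] at this
        exact this
      have h4 : π i0 = i1 := by
        by_contra hne
        have := hort (π i0) i1 hne b h1 b hbD
        rw [hbb] at this
        exact one_ne_zero this
      rw [h4] at h3
      have := hort i1 i0 h01.symm a' h3 a' ha'D
      rw [ha'a'] at this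
      exact one_ne_zero this
  · -- a transvection not preserving the set
    have hu : H (a + a' + b + b') (a + a' + b + b') = 0 := by
      simp only [h.add_left, h.add_right, haa, ha'a', hbb, hb'b', haa', ha'a, hab, hab', ha'b,
        ha'b', hba, hba', hb'a, hb'a', hbb', hb'b]
      linear_combination 2 * h2
    refine ⟨tv h (a + a' + b + b') 1 hu, tv_mem_isom h _ 1 hu hc1, det_tv h _ _ _, ?_⟩
    intro hmem
    have haS : a ∈ anisoSet H D := ⟨i0, haD, by rw [haa]; exact one_ne_zero⟩
    have h1 := (hmem a).1 haS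
    have e1 : tv h (a + a' + b + b') 1 hu a = a' + b + b' := by
      rw [tv_apply]
      simp only [h.add_right, haa, haa', hab, hab', add_zero, mul_one, one_smul]
      have : a + (a + a' + b + b') = (a + a) + (a' + b + b') := by abel
      rw [this, hdouble, zero_add]
    rw [e1] at h1
    obtain ⟨j, hj, _⟩ := h1
    by_cases hj0 : j = i0
    · rw [hj0] at hj
      have := hort i0 i1 h01 _ hj b hbD
      simp only [h.add_left, ha'b, hbb, hb'b, zero_add, add_zero] at this
      exact one_ne_zero this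
    · have := hort j i0 hj0 _ hj a' ha'D
      simp only [h.add_left, ha'a', hba', hb'a', add_zero] at this
      exact one_ne_zero this

end F4

end Cfsg.Agent.H9SUMax
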