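import Mathlib
import Cfsg.Agent.Lib.Helper9.SUMax2
import Cfsg.Agent.Lib.Helper9.SUMax4

set_option autoImplicit false

/-!
Maximality of the stabiliser of a nondegenerate subspace in the special unitary group
(abstract version).
-/

namespace Cfsg.Agent.H9SUMax

open Module Cfsg.Agent.Lib.Helper2 Cfsg.Agent.Lib.Helper2.UT Cfsg.Agent.Lib.Helper2.IsomDecomp
  Cfsg.Agent.Lib.Helper2.HermDecomp Cfsg.Agent.Lib.Helper2.HermFrames
  Cfsg.Agent.Lib.Helper5.PSLCoset

universe u v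

variable {F : Type v} [Field F] {σ : F ≃+* F} {V : Type u} [AddCommGroup V] [Module F V]
  {H : V → V → F}

/-- the vectors `w ∈ W` occurring as `W`-component of a mixed direction -/
def ndS (h : IsHerm σ H) (W : Submodule F V) (M : Subgroup (V ≃ₗ[F] V)) : Set V :=
  {w | w ∈ W ∧ ∃ u ∈ orthoCompl h W, u ≠ 0 ∧ w + u ∈ dirSet h M}

section ND

variable [Finite F] [FiniteDimensional F V]
  (hσ : orderOf σ = 2) (h : IsHerm σ H) (hnd : ∀ v, (∀ w, H v w = 0) → v = 0)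
  (W : Submodule F V) (hWnd : ∀ u ∈ W, (∀ v ∈ W, H u v = 0) → u = 0)
  (hU4 : 4 ≤ finrank F (orthoCompl h W))
  (M : Subgroup (V ≃ₗ[F] V)) (hMG : M ≤ isom H)
  (hPM : ∀ g : V ≃ₗ[F] V, g ∈ isom H → LinearEquiv.det g = 1 → (∀ v ∈ W, g v ∈ W) → g ∈ M)

include hPM in
theorem nd_mem_of_mem_W {u : V} (hu : u ∈ W) (huu : H u u = 0) : u ∈ dirSet h M := by
  refine ⟨huu, ?_⟩
  intro c hc
  apply hPM _ (tv_mem_isom h u c huu hc) (det_tv h u c huu)
  intro v hv
  rw [tv_apply]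
  exact W.add_mem hv (W.smul_mem _ hu)

include hPM in
theorem nd_mem_of_mem_U {u : V} (hu : u ∈ orthoCompl h W) (huu : H u u = 0) :
    u ∈ dirSet h M :=
  ts_perp_mem h W M hPM huu hu

include hσ hnd hWnd hU4 hMG hPM in
/-- B1: the `U`-component may be replaced by any nonzero vector of `U` of the same norm -/
theorem nd_U_trans {w u u' : V} (hw : w ∈ W) (hu : u ∈ orthoCompl h W)
    (hu' : u' ∈ orthoCompl h W) (hu0 : u ≠ 0) (hu'0 : u' ≠ 0) (hn : H u u = H u' u')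
    (hwu : w + u ∈ dirSet h M) : w + u' ∈ dirSet h M := by
  have hd := orthoDecomp hσ h W hWnd
  have hUnd := nondeg_orthoCompl h W hd hnd
  have hd' := orthoDecomp_swap hσ h hnd W hd
  obtain ⟨t, ht, htu⟩ := exists_T_map_of_norm_eq (V := ↥(orthoCompl h W))
    (H := res H (orthoCompl h W)) hσ (isHerm_restrict h _) (nondeg_res hUnd) hU4
    (a := ⟨u, hu⟩) (b := ⟨u', hu'⟩)
    (by intro h0; exact hu0 (congrArg Subtype.val h0))
    (by intro h0; exact hu'0 (congrArg Subtype.val h0)) hn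
  have hg : ext hd' t ∈ T h := ext_mem_T h hd' ht
  have hgM : ext hd' t ∈ M := by
    apply hPM _ (T_le_isom h hg) (det_of_mem_T h hg)
    intro v hv
    have := ext_apply_compl hd' t ⟨v, hv⟩
    rw [this]
    exact hv
  have h1 := dirSet_map h M hgM (hMG hgM) hwu
  have h2 : ext hd' t (w + u) = w + u' := by
    have := ext_apply hd' t ⟨u, hu⟩ ⟨w, hw⟩
    rw [htu] at this
    rw [add_comm w u, add_comm w u']
    exact this
  rwa [h2] at h1

include hσ hnd hWnd hU4 hMG hPM in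
theorem nd_S_spec {w u : V} (hw : w ∈ ndS h W M) (hu : u ∈ orthoCompl h W) (hu0 : u ≠ 0)
    (hn : H u u = -(H w w)) : w + u ∈ dirSet h M := by
  obtain ⟨hwW, u₀, hu₀, hu₀0, hwu₀⟩ := hw
  have h1 : H (w + u₀) (w + u₀) = 0 := hwu₀.1
  have h2 : H w u₀ = 0 := hu₀ w hwW
  have h3 : H u₀ w = 0 := by rw [h.symm w u₀, h2, map_zero]
  rw [h.add_left, h.add_right, h.add_right, h2, h3, add_zero, zero_add] at h1
  apply nd_U_trans hσ h hnd W hWnd hU4 M hMG hPM hwW hu₀ hu hu₀0 hu0 _ hwu₀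
  rw [hn]
  linear_combination h1

include hσ hnd hWnd hU4 hMG hPM in
/-- B2 -/
theorem nd_S_add {w₁ w₂ : V} (hw₁ : w₁ ∈ ndS h W M) (hw₂ : w₂ ∈ ndS h W M) (μ : F) :
    w₂ + μ • w₁ ∈ ndS h W M := by
  have hd := orthoDecomp hσ h W hWnd
  have hUnd := nondeg_orthoCompl h W hd hnd
  obtain ⟨e, he0, he⟩ := exists_skew hσ
  have hc₁ : σ (-(H w₁ w₁)) = -(H w₁ w₁) := by rw [map_neg, WittHerm.self_fixed h]
  have hc₂ : σ (-(H w₂ w₂)) = -(H w₂ w₂) := by rw [map_neg, WittHerm.self_fixed h]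
  obtain ⟨u₁, u₂, hn₁, hn₂, hβ, hu₁0, hu₂0, hsum⟩ := exists_pair_norms
    (V := ↥(orthoCompl h W)) (H := res H (orthoCompl h W)) hσ (isHerm_restrict h _)
    (nondeg_res hUnd) hU4 (-(H w₁ w₁)) (-(H w₂ w₂)) (μ / e - H w₂ w₁) μ hc₁ hc₂
  have hu₁0' : (u₁ : V) ≠ 0 := fun h0 => hu₁0 (Subtype.ext h0)
  have hu₂0' : (u₂ : V) ≠ 0 := fun h0 => hu₂0 (Subtype.ext h0)
  have hz₁ : w₁ + (u₁ : V) ∈ dirSet h M :=
    nd_S_spec hσ h hnd W hWnd hU4 M hMG hPM hw₁ u₁.2 hu₁0' hn₁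
  have hz₂ : w₂ + (u₂ : V) ∈ dirSet h M :=
    nd_S_spec hσ h hnd W hWnd hU4 M hMG hPM hw₂ u₂.2 hu₂0' hn₂
  have hw₁W := hw₁.1
  have hw₂W := hw₂.1
  have e1 : H w₂ (u₁ : V) = 0 := u₁.2 w₂ hw₂W
  have e2 : H (u₂ : V) w₁ = 0 := by rw [h.symm w₁ (u₂ : V), u₂.2 w₁ hw₁W, map_zero]
  have hβ' : H (u₂ : V) (u₁ : V) = μ / e - H w₂ w₁ := hβ
  have e3 : H (w₂ + (u₂ : V)) (w₁ + (u₁ : V)) = μ / e := by
    rw [h.add_left, h.add_right, h.add_right, e1, e2, hβ']
    ring
  have h1 := dirSet_tv h M hMG hz₁ hz₂ e he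
  rw [e3, mul_div_cancel₀ _ he0] at h1
  refine ⟨W.add_mem hw₂W (W.smul_mem _ hw₁W), (u₂ : V) + μ • (u₁ : V),
    (orthoCompl h W).add_mem u₂.2 ((orthoCompl h W).smul_mem _ u₁.2), ?_, ?_⟩
  · intro h0
    apply hsum
    apply Subtype.ext
    exact h0
  · have e4 : w₂ + μ • w₁ + ((u₂ : V) + μ • (u₁ : V)) =
        w₂ + (u₂ : V) + μ • (w₁ + (u₁ : V)) := by module
    rw [e4]
    exact h1

include hσ in
theorem nd_S_smul {w : V} (hw : w ∈ ndS h W M) {a : F} (ha : a ≠ 0) : a • w ∈ ndS h W M := by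
  have hσ2 := WittHerm.sigma_sigma hσ
  obtain ⟨hwW, u, hu, hu0, hwu⟩ := hw
  refine ⟨W.smul_mem _ hwW, a • u, (orthoCompl h W).smul_mem _ hu, smul_ne_zero ha hu0, ?_⟩
  rw [← smul_add]
  exact dirSet_smul hσ2 h M a hwu

include hσ hnd hWnd hU4 hMG hPM in
theorem nd_S_zero {s : V} (hs : s ∈ ndS h W M) : (0 : V) ∈ ndS h W M := by
  have := nd_S_add hσ h hnd W hWnd hU4 M hMG hPM hs hs (-1)
  rwa [neg_one_smul, add_neg_cancel] at this

include hσ hnd hWnd hU4 hMG hPM in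
/-- B3 -/
theorem nd_S_iso {s y : V} (hs : s ∈ ndS h W M) (hy : y ∈ W) (hyy : H y y = 0)
    (hsy : H s y ≠ 0) : y ∈ ndS h W M := by
  obtain ⟨e, he0, he⟩ := exists_skew hσ
  have hs' := hs
  obtain ⟨hsW, u, hu, hu0, hsu⟩ := hs
  have hyD : y ∈ dirSet h M := nd_mem_of_mem_W h W M hPM hy hyy
  have e1 : H u y = 0 := by rw [h.symm y u, hu y hy, map_zero]
  have h1 := dirSet_tv h M hMG hyD hsu e he
  rw [h.add_left, e1, add_zero] at h1
  have h2 : s + (e * H s y) • y ∈ ndS h W M := by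
    refine ⟨W.add_mem hsW (W.smul_mem _ hy), u, hu, hu0, ?_⟩
    have e2 : s + (e * H s y) • y + u = s + u + (e * H s y) • y := by abel
    rw [e2]
    exact h1
  have h3 := nd_S_add hσ h hnd W hWnd hU4 M hMG hPM hs' h2 (-1)
  rw [neg_one_smul, add_comm s, add_neg_cancel_right] at h3
  have hne : e * H s y ≠ 0 := mul_ne_zero he0 hsy
  have h4 := nd_S_smul hσ h W M h3 (inv_ne_zero hne)
  rwa [smul_smul, inv_mul_cancel₀ hne, one_smul] at h4

include hσ hnd hWnd hU4 hMG hPM in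
/-- B4 -/
theorem nd_S_eq {s : V} (hs : s ∈ ndS h W M) (hs0 : s ≠ 0) {w : V} (hw : w ∈ W) :
    w ∈ ndS h W M := by
  have hsW := hs.1
  have hzero := nd_S_zero hσ h hnd W hWnd hU4 M hMG hPM hs
  by_cases hdim1 : finrank F W ≤ 1
  · -- `W` is spanned by `s`
    have hs0' : (⟨s, hsW⟩ : W) ≠ 0 := fun h0 => hs0 (congrArg Subtype.val h0)
    have hpos : 0 < finrank F W := Module.finrank_pos_iff_exists_ne_zero.2 ⟨_, hs0'⟩
    have h1 : finrank F W = 1 := by omega
    obtain ⟨c, hc⟩ := (finrank_eq_one_iff_of_nonzero' (⟨s, hsW⟩ : W) hs0').1 h1 ⟨w, hw⟩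
    have hc' : c • s = w := congrArg Subtype.val hc
    by_cases hc0 : c = 0
    · rw [← hc', hc0, zero_smul]; exact hzero
    · rw [← hc']; exact nd_S_smul hσ h W M hs hc0
  · have hdim2 : 2 ≤ finrank F W := by omega
    have hWnd' := nondeg_res (H := H) hWnd
    have hsum : ∀ a b : V, a ∈ ndS h W M → b ∈ ndS h W M → a + b ∈ ndS h W M := by
      intro a b ha hb
      have := nd_S_add hσ h hnd W hWnd hU4 M hMG hPM hb ha 1
      rwa [one_smul] at this
    -- an isotropic vector of `W` in `S`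
    obtain ⟨y, hyW, hyy, hyS, hy0⟩ : ∃ y ∈ W, H y y = 0 ∧ y ∈ ndS h W M ∧ y ≠ 0 := by
      obtain ⟨x, hxW, hsx⟩ : ∃ x ∈ W, H s x ≠ 0 := by
        by_contra hcon
        push Not at hcon
        exact hs0 (hWnd s hsW hcon)
      obtain ⟨x₁, x₂, x₃, h1, h2, h3, hx⟩ := exists_iso_decomp (V := ↥W) (H := res H W) hσ
        (isHerm_restrict h _) hWnd' hdim2 ⟨x, hxW⟩
      have hx' : x = (x₁ : V) + (x₂ : V) + (x₃ : V) := congrArg Subtype.val hx
      have key : ∀ z : W, H (z : V) (z : V) = 0 → H s (z : V) ≠ 0 →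
          ∃ y ∈ W, H y y = 0 ∧ y ∈ ndS h W M ∧ y ≠ 0 := by
        intro z hzz hsz
        refine ⟨z, z.2, hzz, nd_S_iso hσ h hnd W hWnd hU4 M hMG hPM hs z.2 hzz hsz, ?_⟩
        intro h0
        rw [h0, h.zero_right] at hsz
        exact hsz rfl
      by_cases hs1 : H s (x₁ : V) = 0
      · by_cases hs2 : H s (x₂ : V) = 0
        · apply key x₃ h3
          intro hs3
          apply hsx
          rw [hx', h.add_right, h.add_right, hs1, hs2, hs3]
          ring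
        · exact key x₂ h2 hs2
      · exact key x₁ h1 hs1
    -- every isotropic vector of `W` is in `S`
    have hiso : ∀ y'' ∈ W, H y'' y'' = 0 → y'' ∈ ndS h W M := by
      intro y'' hy''W hy''
      by_cases hy''0 : y'' = 0
      · rw [hy''0]; exact hzero
      by_cases hyy'' : H y y'' = 0
      · obtain ⟨y', hy'y', hyy', hy''y'⟩ := exists_iso_conn (V := ↥W) (H := res H W) hσ
          (isHerm_restrict h _) hWnd' (y := ⟨y, hyW⟩) (y'' := ⟨y'', hy''W⟩)
          (by intro h0; exact hy0 (congrArg Subtype.val h0))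
          (by intro h0; exact hy''0 (congrArg Subtype.val h0)) hyy hyy''
        have hy'S : (y' : V) ∈ ndS h W M :=
          nd_S_iso hσ h hnd W hWnd hU4 M hMG hPM hyS y'.2 hy'y' hyy'
        apply nd_S_iso hσ h hnd W hWnd hU4 M hMG hPM hy'S hy''W hy''
        rw [h.symm y'' (y' : V)]
        exact (map_ne_zero_iff _ σ.injective).2 hy''y'
      · exact nd_S_iso hσ h hnd W hWnd hU4 M hMG hPM hyS hy''W hy'' hyy''
    obtain ⟨x₁, x₂, x₃, h1, h2, h3, hx⟩ := exists_iso_decomp (V := ↥W) (H := res H W) hσ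
      (isHerm_restrict h _) hWnd' hdim2 ⟨w, hw⟩
    have hx' : w = (x₁ : V) + (x₂ : V) + (x₃ : V) := congrArg Subtype.val hx
    rw [hx']
    exact hsum _ _ (hsum _ _ (hiso _ x₁.2 h1) (hiso _ x₂.2 h2)) (hiso _ x₃.2 h3)

include hσ hnd hWnd hU4 hMG hPM in
/-- B5 -/
theorem nd_all {s : V} (hs : s ∈ ndS h W M) (hs0 : s ≠ 0) {v : V} (hv : H v v = 0) :
    v ∈ dirSet h M := by
  have hd := orthoDecomp hσ h W hWnd
  obtain ⟨w, u, rfl⟩ := exists_decomp hd v
  by_cases hu0 : (u : V) = 0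
  · rw [hu0, add_zero] at hv ⊢
    exact nd_mem_of_mem_W h W M hPM w.2 hv
  · have hwS : (w : V) ∈ ndS h W M := nd_S_eq hσ h hnd W hWnd hU4 M hMG hPM hs hs0 w.2
    apply nd_S_spec hσ h hnd W hWnd hU4 M hMG hPM hwS u.2 hu0
    have h2 : H (w : V) (u : V) = 0 := u.2 w w.2
    have h3 : H (u : V) (w : V) = 0 := by rw [h.symm (w : V) (u : V), h2, map_zero]
    rw [h.add_left, h.add_right, h.add_right, h2, h3, add_zero, zero_add] at hv
    linear_combination hv

include hσ hnd hWnd hU4 hMG hPM in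
/-- Step 2: a mixed direction exists -/
theorem nd_exists_mixed {g₀ : V ≃ₗ[F] V} (hg₀ : g₀ ∈ M) (hns : ¬ ∀ v ∈ W, g₀ v ∈ W)
    (hlt : finrank F W < finrank F (orthoCompl h W)) : ∃ s ∈ ndS h W M, s ≠ 0 := by
  have hσ2 := WittHerm.sigma_sigma hσ
  have hd := orthoDecomp hσ h W hWnd
  have hUnd := nondeg_orthoCompl h W hd hnd
  have hd' := orthoDecomp_swap hσ h hnd W hd
  have hg₀i : g₀ ∈ isom H := hMG hg₀
  by_contra hno
  push Not at hno
  -- Claim 1
  have c1 : ∀ x ∈ orthoCompl h W, H x x = 0 → g₀ x ∈ W ∨ g₀ x ∈ orthoCompl h W := by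
    intro x hx hxx
    have hxD : g₀ x ∈ dirSet h M := dirSet_map h M hg₀ hg₀i (nd_mem_of_mem_U h W M hPM hx hxx)
    obtain ⟨w, u, hwu⟩ := exists_decomp hd (g₀ x)
    by_cases hw0 : (w : V) = 0
    · right
      rw [hwu, hw0, zero_add]
      exact u.2
    · by_cases hu0 : (u : V) = 0
      · left
        rw [hwu, hu0, add_zero]
        exact w.2
      · exfalso
        apply hw0
        apply hno
        refine ⟨w.2, u, u.2, hu0, ?_⟩
        rw [← hwu]
        exact hxD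
  -- Claim 2
  have c2 : (∀ x ∈ orthoCompl h W, H x x = 0 → g₀ x ∈ W) ∨
      (∀ x ∈ orthoCompl h W, H x x = 0 → g₀ x ∈ orthoCompl h W) := by
    by_contra hcon
    push Not at hcon
    obtain ⟨⟨x, hx, hxx, hgx⟩, ⟨y, hy, hyy, hgy⟩⟩ := hcon
    have hgxU : g₀ x ∈ orthoCompl h W := (c1 x hx hxx).resolve_left hgx
    have hgyW : g₀ y ∈ W := (c1 y hy hyy).resolve_right hgy
    obtain ⟨l, hl0, hl⟩ : ∃ l : F, l ≠ 0 ∧ H (x + l • y) (x + l • y) = 0 := by
      by_cases hxy : H x y = 0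
      · refine ⟨1, one_ne_zero, ?_⟩
        rw [one_smul, h.add_left, h.add_right, h.add_right, hxx, hyy, hxy, h.symm x y, hxy,
          map_zero]
        ring
      · obtain ⟨e, he0, he⟩ := exists_skew hσ
        refine ⟨σ (e / H x y), ?_, ?_⟩
        · exact (map_ne_zero_iff _ σ.injective).2 (div_ne_zero he0 hxy)
        · have e1 : H (x + σ (e / H x y) • y) (x + σ (e / H x y) • y) =
              e / H x y * H x y + σ (e / H x y * H x y) := by
            simp only [h.add_left, h.add_right, h.smul_left, h.smul_right, hxx, hyy, hσ2, map_mul]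
            rw [← h.symm x y]
            ring
          rw [e1, div_mul_cancel₀ _ hxy, he]
          ring
    have hmem : x + l • y ∈ orthoCompl h W :=
      (orthoCompl h W).add_mem hx ((orthoCompl h W).smul_mem _ hy)
    rcases c1 _ hmem hl with h1 | h1
    · apply hgx
      rw [map_add, map_smul] at h1
      have := W.sub_mem h1 (W.smul_mem l hgyW)
      rwa [add_sub_cancel_right] at this
    · apply hgy
      rw [map_add, map_smul] at h1
      have h2 := (orthoCompl h W).sub_mem h1 hgxU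
      rw [add_sub_cancel_left] at h2
      have h3 := (orthoCompl h W).smul_mem l⁻¹ h2
      rwa [smul_smul, inv_mul_cancel₀ hl0, one_smul] at h3
  -- Claim 3
  have c3 : ∀ (X : Submodule F V), (∀ x ∈ orthoCompl h W, H x x = 0 → g₀ x ∈ X) →
      ∀ v ∈ orthoCompl h W, g₀ v ∈ X := by
    intro X hX v hv
    obtain ⟨x₁, x₂, x₃, h1, h2, h3, hx⟩ := exists_iso_decomp (V := ↥(orthoCompl h W))
      (H := res H (orthoCompl h W)) hσ (isHerm_restrict h _) (nondeg_res hUnd) (by omega)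
      ⟨v, hv⟩
    have hx' : v = (x₁ : V) + (x₂ : V) + (x₃ : V) := congrArg Subtype.val hx
    rw [hx', map_add, map_add]
    exact X.add_mem (X.add_mem (hX _ x₁.2 h1) (hX _ x₂.2 h2)) (hX _ x₃.2 h3)
  rcases c2 with hA | hB
  · -- dimension contradiction
    have h1 := c3 W hA
    have hle : (orthoCompl h W).map (g₀ : V →ₗ[F] V) ≤ W := by
      rintro _ ⟨v, hv, rfl⟩
      exact h1 v hv
    have h2 := Submodule.finrank_mono hle
    rw [LinearEquiv.finrank_map_eq g₀] at h2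
    omega
  · have h1 := c3 (orthoCompl h W) hB
    have h2 := mem_iff_of_forall g₀ (orthoCompl h W) h1
    apply hns
    intro w hw
    apply hd'.mem'
    intro u hu
    have h3 : g₀⁻¹ u ∈ orthoCompl h W := by
      rw [h2]
      have : g₀ (g₀⁻¹ u) = u := by
        rw [← LinearEquiv.mul_apply, mul_inv_cancel]; rfl
      rw [this]
      exact hu
    have h4 : H u (g₀ w) = H (g₀⁻¹ u) w := by
      rw [← hg₀i (g₀⁻¹ u) w, ← LinearEquiv.mul_apply, mul_inv_cancel]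
      rfl
    rw [h4]
    exact hd.ortho' w hw _ h3

include hσ hnd hWnd hU4 hMG hPM in
/-- **Maximality of the stabiliser of a nondegenerate subspace** (abstract version). -/
theorem nd_main (hdim : 4 ≤ finrank F V) {g₀ : V ≃ₗ[F] V} (hg₀ : g₀ ∈ M)
    (hns : ¬ ∀ v ∈ W, g₀ v ∈ W) (hlt : finrank F W < finrank F (orthoCompl h W))
    {g : V ≃ₗ[F] V} (hg : g ∈ isom H) (hdet : LinearEquiv.det g = 1) : g ∈ M := by
  obtain ⟨s, hs, hs0⟩ := nd_exists_mixed hσ h hnd W hWnd hU4 M hMG hPM hg₀ hns hlt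
  apply le_of_dirSet hσ h hnd hdim M _ hg hdet
  intro v hv
  exact nd_all hσ h hnd W hWnd hU4 M hMG hPM hs hs0 hv

end ND

end Cfsg.Agent.H9SUMax
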